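import Mathlib
set_option autoImplicit false
open Pointwise

namespace Cfsg.Agent.Lib.Helper1

theorem minimal_normal_of_solvable {G : Type*} [Group G] [Finite G] [hsol : Group.IsSolvable G]
    (N : Subgroup G) [hNn : N.Normal] (hN : N ≠ ⊥)
    (hmin : ∀ M : Subgroup G, M.Normal → M ≤ N → M = ⊥ ∨ M = N) :
    IsMulCommutative N ∧ ∃ p : ℕ, p.Prime ∧ ∀ x ∈ N, x ^ p = 1 := by
  have hcomm_le : ⁅N, N⁆ ≤ N := Subgroup.commutator_le_left N N
  have hcomm_n : (⁅N, N⁆ : Subgroup G).Normal := inferInstance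
  have hcomm_bot : ⁅N, N⁆ = ⊥ := by
    rcases hmin _ hcomm_n hcomm_le with h | h
    · exact h
    · exfalso
      have hle : ∀ n, N ≤ derivedSeries G n := by
        intro n
        induction n with
        | zero => exact le_top
        | succ n ih =>
          rw [derivedSeries_succ]
          calc N = ⁅N, N⁆ := h.symm
            _ ≤ _ := Subgroup.commutator_mono ih ih
      obtain ⟨n, hn⟩ := hsol.solvable
      apply hN
      rw [eq_bot_iff, ← hn]
      exact hle n
  have hNcomm : ∀ a ∈ N, ∀ b ∈ N, a * b = b * a := by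
    intro a ha b hb
    have h1 := (Subgroup.commutator_eq_bot_iff_le_centralizer).mp hcomm_bot
    exact (Subgroup.mem_centralizer_iff.mp (h1 ha) b hb).symm
  refine ⟨⟨⟨fun a b => Subtype.ext (hNcomm a a.2 b b.2)⟩⟩, ?_⟩
  -- pick a prime dividing |N|
  have hcard : Nat.card N ≠ 1 := by
    intro h
    exact hN (Subgroup.card_eq_one.mp h)
  obtain ⟨p, hp, hpdvd⟩ := Nat.exists_prime_and_dvd hcard
  refine ⟨p, hp, ?_⟩
  have := Fact.mk hp
  let K : Subgroup G :=
    { carrier := {x | x ∈ N ∧ x ^ p = 1}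
      mul_mem' := by
        rintro a b ⟨ha, ha'⟩ ⟨hb, hb'⟩
        refine ⟨N.mul_mem ha hb, ?_⟩
        have : Commute a b := hNcomm a ha b hb
        rw [this.mul_pow, ha', hb', one_mul]
      one_mem' := ⟨N.one_mem, one_pow p⟩
      inv_mem' := by
        rintro a ⟨ha, ha'⟩
        exact ⟨N.inv_mem ha, by rw [inv_pow, ha', inv_one]⟩ }
  have hKn : K.Normal := by
    constructor
    rintro a ⟨ha, ha'⟩ g
    refine ⟨hNn.conj_mem a ha g, ?_⟩
    rw [conj_pow, ha', mul_one, mul_inv_cancel]
  have hKN : K ≤ N := fun x hx => hx.1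
  obtain ⟨x, hx⟩ := exists_prime_orderOf_dvd_card' p hpdvd
  have hKne : K ≠ ⊥ := by
    intro h
    have hxK : (x : G) ∈ K := by
      refine ⟨x.2, ?_⟩
      have : x ^ p = 1 := by rw [← hx]; exact pow_orderOf_eq_one x
      exact_mod_cast congrArg Subtype.val this
    rw [h, Subgroup.mem_bot] at hxK
    have : x = 1 := Subtype.ext hxK
    rw [this, orderOf_one] at hx
    exact hp.one_lt.ne hx
  rcases hmin K hKn hKN with h | h
  · exact absurd h hKne
  · intro y hy
    rw [← h] at hy
    exact hy.2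

end Cfsg.Agent.Lib.Helper1
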