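import Mathlib
import Cfsg.Agent.Lib.Helper1.MinimalNormal
set_option autoImplicit false
open Pointwise

namespace Cfsg.Agent.Lib.Helper1

/-- A nontrivial finite group has a minimal normal subgroup. -/
theorem exists_minimal_normal {G : Type*} [Group G] [Finite G] [Nontrivial G] :
    ∃ N : Subgroup G, N.Normal ∧ N ≠ ⊥ ∧ ∀ M : Subgroup G, M.Normal → M ≤ N → M = ⊥ ∨ M = N := by
  let S : Set (Subgroup G) := {N | N.Normal ∧ N ≠ ⊥}
  have hS : S.Finite := Set.toFinite S
  have htop : (⊤ : Subgroup G) ∈ S := ⟨inferInstance, top_ne_bot⟩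
  obtain ⟨N, -, hNmin⟩ := hS.exists_le_minimal htop
  refine ⟨N, hNmin.prop.1, hNmin.prop.2, ?_⟩
  intro M hMn hMN
  by_cases hM : M = ⊥
  · exact Or.inl hM
  · right
    exact le_antisymm hMN (hNmin.le_of_le ⟨hMn, hM⟩ hMN)

theorem isCoatom_map_of_ker_le {G H : Type*} [Group G] [Group H] (f : G →* H)
    (hf : Function.Surjective f) (M : Subgroup G) (hM : IsCoatom M) (hker : f.ker ≤ M) :
    IsCoatom (M.map f) := by
  have hcm : (M.map f).comap f = M := by
    rw [Subgroup.comap_map_eq, sup_of_le_left hker]
  constructor
  · intro h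
    apply hM.1
    rw [← hcm, h, Subgroup.comap_top]
  · intro K hK
    have h1 : M ≤ K.comap f := by
      rw [← hcm]; exact Subgroup.comap_mono hK.le
    have h2 : M ≠ K.comap f := by
      intro h
      have : M.map f = K := by rw [h, Subgroup.map_comap_eq_self_of_surjective hf]
      exact hK.ne this
    have h3 := hM.2 _ (lt_of_le_of_ne h1 h2)
    rw [← Subgroup.map_comap_eq_self_of_surjective hf K, h3, Subgroup.map_top_of_surjective f hf]

theorem index_dvd_card_of_sup_eq_top {G : Type*} [Group G] [Finite G] (M N : Subgroup G)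
    [N.Normal] (h : M ⊔ N = ⊤) : M.index ∣ Nat.card N := by
  have h1 : N.index = N.relIndex M := by
    rw [← Subgroup.relIndex_sup_right M N, h, Subgroup.relIndex_top_right]
  have h2 : (N ⊓ M).relIndex M * M.index = (N ⊓ M).index := Subgroup.relIndex_mul_index inf_le_right
  have h3 : (N ⊓ M).relIndex N * N.index = (N ⊓ M).index := Subgroup.relIndex_mul_index inf_le_left
  rw [Subgroup.inf_relIndex_right, ← h1] at h2
  rw [Subgroup.inf_relIndex_left] at h3
  have h4 : M.index = M.relIndex N := by
    have : N.index * M.index = N.index * M.relIndex N := by rw [h2, mul_comm, h3]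
    exact Nat.eq_of_mul_eq_mul_left (Nat.pos_of_ne_zero Subgroup.index_ne_zero_of_finite) this
  rw [h4]
  exact Subgroup.relIndex_dvd_card M N

theorem isPrimePow_index_of_isCoatom_aux (n : ℕ) : ∀ (G : Type*) [Group G] [Finite G]
    [Group.IsSolvable G], Nat.card G = n → ∀ M : Subgroup G, IsCoatom M → IsPrimePow M.index := by
  induction n using Nat.strong_induction_on with
  | _ n ih =>
    intro G _ _ _ hcard M hM
    have hnt : Nontrivial G := by
      by_contra h
      rw [not_nontrivial_iff_subsingleton] at h
      exact hM.1 (Subsingleton.elim _ _)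
    obtain ⟨N, hNn, hNbot, hNmin⟩ := exists_minimal_normal (G := G)
    obtain ⟨-, p, hp, hNp⟩ := minimal_normal_of_solvable N hNbot hNmin
    by_cases hNM : N ≤ M
    · -- pass to the quotient
      let f := QuotientGroup.mk' N
      have hf : Function.Surjective f := QuotientGroup.mk'_surjective N
      have hker : f.ker ≤ M := by rw [QuotientGroup.ker_mk']; exact hNM
      have hco := isCoatom_map_of_ker_le f hf M hM hker
      have hidx : (M.map f).index = M.index := Subgroup.index_map_eq M hf hker
      have hlt : Nat.card (G ⧸ N) < n := by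
        rw [← hcard, ← N.card_mul_index]
        have h1 : 1 < Nat.card N := by
          rw [Finite.one_lt_card_iff_nontrivial]
          exact (Subgroup.nontrivial_iff_ne_bot N).mpr hNbot
        have h2 : 0 < N.index := Nat.pos_of_ne_zero Subgroup.index_ne_zero_of_finite
        show N.index < _
        nlinarith
      rw [← hidx]
      exact ih _ hlt (G ⧸ N) rfl _ hco
    · have hsup : M ⊔ N = ⊤ := by
        apply hM.2
        refine lt_of_le_of_ne le_sup_left ?_
        intro h
        apply hNM
        rw [h]; exact le_sup_right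
      have hdvd := index_dvd_card_of_sup_eq_top M N hsup
      have := Fact.mk hp
      have hNpg : IsPGroup p N := by
        intro x
        refine ⟨1, ?_⟩
        rw [pow_one]
        exact Subtype.ext (hNp x x.2)
      obtain ⟨k, hk⟩ := IsPGroup.iff_card.mp hNpg
      rw [hk] at hdvd
      obtain ⟨j, -, hj⟩ := (Nat.dvd_prime_pow hp).mp hdvd
      rw [isPrimePow_nat_iff]
      refine ⟨p, j, hp, ?_, hj.symm⟩
      rcases Nat.eq_zero_or_pos j with h0 | h0
      · exfalso
        rw [h0, pow_zero] at hj
        exact hM.1 (Subgroup.index_eq_one.mp hj)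
      · exact h0

theorem isPrimePow_index_of_isCoatom {G : Type*} [Group G] [Finite G] [Group.IsSolvable G]
    (M : Subgroup G) (hM : IsCoatom M) : IsPrimePow M.index :=
  isPrimePow_index_of_isCoatom_aux _ G rfl M hM

end Cfsg.Agent.Lib.Helper1
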