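import Mathlib
set_option autoImplicit false
open Pointwise

namespace Cfsg.Agent.Lib.Helper1

open MulOpposite MulAction Subgroup in
theorem complement_eq_stabilizer {G : Type*} [Group G] [Finite G] (A : Subgroup G) [A.Normal]
    [IsMulCommutative A] (hA : (Nat.card A).Coprime A.index) (H : Subgroup G)
    (hH : Subgroup.IsComplement' A H) :
    ∃ α : A.QuotientDiff, H = MulAction.stabilizer G α := by
  let TH : A.LeftTransversal := ⟨(H : Set G), hH.symm⟩
  let α : A.QuotientDiff := Quotient.mk'' TH
  refine ⟨α, ?_⟩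
  have hle : H ≤ MulAction.stabilizer G α := by
    intro h hh
    rw [MulAction.mem_stabilizer_iff]
    show Quotient.mk'' (op h⁻¹ • TH) = Quotient.mk'' TH
    congr 1
    apply Subtype.ext
    show op h⁻¹ • (H : Set G) = (H : Set G)
    ext x
    constructor
    · rintro ⟨y, hy, rfl⟩
      exact H.mul_mem hy (H.inv_mem hh)
    · intro hx
      refine ⟨x * h, H.mul_mem hx hh, ?_⟩
      simp
  have hst : Subgroup.IsComplement' A (MulAction.stabilizer G α) :=
    Subgroup.isComplement'_stabilizer_of_coprime hA
  have h1 := hH.card_mul_card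
  have h2 := hst.card_mul_card
  have h3 : Nat.card H = Nat.card (MulAction.stabilizer G α) := by
    have : Nat.card A * Nat.card H = Nat.card A * Nat.card (MulAction.stabilizer G α) := by
      rw [h1, h2]
    exact Nat.eq_of_mul_eq_mul_left Nat.card_pos this
  exact Subgroup.eq_of_le_of_card_ge hle h3.ge

/-- Schur-Zassenhaus conjugacy for an abelian normal Hall subgroup. -/
theorem sz_abelian_conj {G : Type*} [Group G] [Finite G] (A : Subgroup G) [A.Normal]
    [IsMulCommutative A] (hA : (Nat.card A).Coprime A.index)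
    (H K : Subgroup G) (hH : Subgroup.IsComplement' A H) (hK : Subgroup.IsComplement' A K) :
    ∃ a ∈ A, MulAut.conj a • H = K := by
  obtain ⟨α, hα⟩ := complement_eq_stabilizer A hA H hH
  obtain ⟨β, hβ⟩ := complement_eq_stabilizer A hA K hK
  obtain ⟨a, ha⟩ := Subgroup.exists_smul_eq hA α β
  refine ⟨a, a.2, ?_⟩
  rw [hβ, ← ha, Subgroup.smul_def, MulAction.stabilizer_smul_eq_stabilizer_map_conj, ← hα]
  rfl

end Cfsg.Agent.Lib.Helper1
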