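import Mathlib
import Cfsg.Agent.Lib.Helper1.SZAbelian
import Cfsg.Agent.Lib.Helper1.MaxSubgroupSolvable

set_option autoImplicit false
open Pointwise

namespace Cfsg.Agent.Lib.Helper1


variable {G : Type*} [Group G]

theorem isComplement'_mul_eq {N H : Subgroup G} (h : Subgroup.IsComplement' N H) (g : G) :
    ∃ n ∈ N, ∃ x ∈ H, g = n * x := by
  have := h.mul_eq
  have hg : g ∈ (N : Set G) * (H : Set G) := by rw [this]; exact Set.mem_univ g
  obtain ⟨n, hn, x, hx, rfl⟩ := hg
  exact ⟨n, hn, x, hx, rfl⟩

/-- Restriction of a complement pair to a subgroup containing one of the two factors. -/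
theorem isComplement'_subgroupOf {N H L : Subgroup G} (h : Subgroup.IsComplement' N H)
    (hL : N ≤ L ∨ H ≤ L) :
    Subgroup.IsComplement' (N.subgroupOf L) (H.subgroupOf L) := by
  apply Subgroup.isComplement'_of_disjoint_and_mul_eq_univ
  · rw [Subgroup.disjoint_def]
    intro x hxN hxH
    have := Subgroup.disjoint_def.mp h.disjoint (Subgroup.mem_subgroupOf.mp hxN)
      (Subgroup.mem_subgroupOf.mp hxH)
    exact Subtype.ext this
  · rw [Set.eq_univ_iff_forall]
    intro l
    obtain ⟨n, hn, x, hx, hl⟩ := isComplement'_mul_eq h (l : G)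
    rcases hL with hL | hL
    · have hxL : x ∈ L := by
        have : x = n⁻¹ * l := by rw [hl]; group
        rw [this]; exact L.mul_mem (L.inv_mem (hL hn)) l.2
      exact ⟨⟨n, hL hn⟩, Subgroup.mem_subgroupOf.mpr hn, ⟨x, hxL⟩, Subgroup.mem_subgroupOf.mpr hx,
        Subtype.ext hl.symm⟩
    · have hnL : n ∈ L := by
        have : n = l * x⁻¹ := by rw [hl]; group
        rw [this]; exact L.mul_mem l.2 (L.inv_mem (hL hx))
      exact ⟨⟨n, hnL⟩, Subgroup.mem_subgroupOf.mpr hn, ⟨x, hL hx⟩, Subgroup.mem_subgroupOf.mpr hx,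
        Subtype.ext hl.symm⟩

/-- Image of a complement pair (with coprime orders) under a surjective homomorphism. -/
theorem isComplement'_map {G' : Type*} [Group G'] [Finite G] {N H : Subgroup G}
    (h : Subgroup.IsComplement' N H) (hcop : (Nat.card N).Coprime (Nat.card H))
    (f : G →* G') (hf : Function.Surjective f) :
    Subgroup.IsComplement' (N.map f) (H.map f) := by
  apply Subgroup.isComplement'_of_disjoint_and_mul_eq_univ
  · apply Subgroup.disjoint_of_coprime_natCard
    exact Nat.Coprime.of_dvd (Subgroup.card_map_dvd _ f) (Subgroup.card_map_dvd _ f) hcop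
  · rw [Set.eq_univ_iff_forall]
    intro y
    obtain ⟨g, rfl⟩ := hf y
    obtain ⟨n, hn, x, hx, rfl⟩ := isComplement'_mul_eq h g
    exact ⟨f n, Subgroup.mem_map_of_mem f hn, f x, Subgroup.mem_map_of_mem f hx, (map_mul f n x).symm⟩

theorem coprime_card_map {G' : Type*} [Group G'] {N H : Subgroup G}
    (hcop : (Nat.card N).Coprime (Nat.card H)) (f : G →* G') :
    (Nat.card (N.map f)).Coprime (Nat.card (H.map f)) :=
  Nat.Coprime.of_dvd (Subgroup.card_map_dvd _ f) (Subgroup.card_map_dvd _ f) hcop

theorem card_subgroupOf_dvd (N L : Subgroup G) : Nat.card (N.subgroupOf L) ∣ Nat.card N := by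
  have : Nat.card (N.subgroupOf L) = Nat.card (N ⊓ L : Subgroup G) := by
    rw [← Subgroup.inf_subgroupOf_right]
    exact Nat.card_congr (Subgroup.subgroupOfEquivOfLe inf_le_right).toEquiv
  rw [this]
  exact Subgroup.card_dvd_of_le inf_le_left

theorem card_subgroupOf_of_le {H L : Subgroup G} (h : H ≤ L) :
    Nat.card (H.subgroupOf L) = Nat.card H :=
  Nat.card_congr (Subgroup.subgroupOfEquivOfLe h).toEquiv

theorem conj_smul_eq_map (g : G) (X : Subgroup G) :
    MulAut.conj g • X = X.map (MulAut.conj g).toMonoidHom := rfl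

theorem map_subtype_conj_smul {L : Subgroup G} (l : L) (X : Subgroup L) :
    (MulAut.conj l • X).map L.subtype = MulAut.conj (l : G) • X.map L.subtype := by
  rw [conj_smul_eq_map, conj_smul_eq_map, Subgroup.map_map, Subgroup.map_map]
  congr 1

/-- Conjugacy inside a subgroup gives conjugacy in the group (for the intersections). -/
theorem conj_smul_inf_of_subgroupOf {H K L : Subgroup G} (l : L)
    (h : MulAut.conj l • H.subgroupOf L = K.subgroupOf L) :
    MulAut.conj (l : G) • (H ⊓ L) = K ⊓ L := by
  have h1 := congrArg (Subgroup.map L.subtype) h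
  rw [map_subtype_conj_smul, Subgroup.subgroupOf_map_subtype, Subgroup.subgroupOf_map_subtype] at h1
  exact h1

theorem conj_smul_of_subgroupOf {H K L : Subgroup G} (hH : H ≤ L) (hK : K ≤ L) (l : L)
    (h : MulAut.conj l • H.subgroupOf L = K.subgroupOf L) :
    MulAut.conj (l : G) • H = K := by
  have := conj_smul_inf_of_subgroupOf l h
  rwa [inf_of_le_left hH, inf_of_le_left hK] at this


theorem map_conj_smul {G' : Type*} [Group G'] (f : G →* G') (g : G) (X : Subgroup G) :
    (MulAut.conj g • X).map f = MulAut.conj (f g) • X.map f := by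
  rw [conj_smul_eq_map, conj_smul_eq_map, Subgroup.map_map, Subgroup.map_map]
  congr 1
  ext x
  simp

/-- Conjugacy of images in a quotient lifts to conjugacy up to the kernel. -/
theorem conj_sup_ker_of_map {G' : Type*} [Group G'] (f : G →* G') (hf : Function.Surjective f)
    {H K : Subgroup G} (h : ∃ y : G', MulAut.conj y • H.map f = K.map f) :
    ∃ g : G, MulAut.conj g • H ⊔ f.ker = K ⊔ f.ker := by
  obtain ⟨y, hy⟩ := h
  obtain ⟨g, rfl⟩ := hf y
  refine ⟨g, ?_⟩
  rw [← map_conj_smul] at hy
  have := congrArg (Subgroup.comap f) hy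
  rwa [Subgroup.comap_map_eq, Subgroup.comap_map_eq] at this

theorem isComplement'_conj_smul {N H : Subgroup G} [hN : N.Normal] (h : Subgroup.IsComplement' N H)
    (g : G) : Subgroup.IsComplement' N (MulAut.conj g • H) := by
  apply Subgroup.isComplement'_of_disjoint_and_mul_eq_univ
  · rw [Subgroup.disjoint_def]
    intro x hxN hxH
    rw [Subgroup.mem_pointwise_smul_iff_inv_smul_mem] at hxH
    have h1 : (MulAut.conj g)⁻¹ • x ∈ N := by
      simp only [MulAut.smul_def, ← map_inv, MulAut.conj_apply, inv_inv]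
      have := hN.conj_mem x hxN g⁻¹
      simpa using this
    have h2 := Subgroup.disjoint_def.mp h.disjoint h1 hxH
    have h3 : g⁻¹ * x * g = 1 := by simpa using h2
    have : x = g * (g⁻¹ * x * g) * g⁻¹ := by group
    rw [this, h3]; group
  · rw [Set.eq_univ_iff_forall]
    intro y
    obtain ⟨n, hn, x, hx, hy⟩ := isComplement'_mul_eq h (g⁻¹ * y * g)
    refine ⟨g * n * g⁻¹, hN.conj_mem n hn g, g * x * g⁻¹, ?_, ?_⟩
    · rw [SetLike.mem_coe, Subgroup.mem_pointwise_smul_iff_inv_smul_mem]
      simpa [mul_assoc] using hx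
    · have : y = g * (g⁻¹ * y * g) * g⁻¹ := by group
      rw [this, hy]; group

theorem isSolvable_subgroupOf (X L : Subgroup G) [hX : Group.IsSolvable X] :
    Group.IsSolvable (X.subgroupOf L) := by
  let φ : X.subgroupOf L →* X :=
    { toFun := fun x => ⟨(x : L), x.2⟩
      map_one' := rfl
      map_mul' := fun _ _ => rfl }
  have hφ : Function.Injective φ := by
    intro a b hab
    have : ((a : L) : G) = ((b : L) : G) := congrArg (fun z : X => (z : G)) hab
    exact Subtype.ext (Subtype.ext this)
  exact Group.isSolvable_of_isSolvable_injective hφ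

theorem isSolvable_map {G' : Type*} [Group G'] (f : G →* G') (X : Subgroup G)
    [hX : Group.IsSolvable X] : Group.IsSolvable (X.map f) :=
  Group.isSolvable_of_surjective (f.subgroupMap_surjective X)

theorem isSolvable_conj_smul (g : G) (X : Subgroup G) [hX : Group.IsSolvable X] :
    Group.IsSolvable (MulAut.conj g • X : Subgroup G) :=
  isSolvable_map (MulAut.conj g).toMonoidHom X




theorem commutator_self_ne_of_isSolvable (N : Subgroup G) [hN : Group.IsSolvable N] (hne : N ≠ ⊥) :
    ⁅N, N⁆ ≠ N := by
  have hnt : Nontrivial N := (Subgroup.nontrivial_iff_ne_bot N).mpr hne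
  have h1 : commutator N < ⊤ := Group.IsSolvable.commutator_lt_top_of_nontrivial N
  intro h
  have h2 : (commutator N).map N.subtype = ⁅N, N⁆ := by
    rw [commutator_def, Subgroup.map_commutator, ← MonoidHom.range_eq_map, Subgroup.range_subtype]
  have h3 : (⊤ : Subgroup N).map N.subtype = N := by
    rw [← MonoidHom.range_eq_map, Subgroup.range_subtype]
  have h4 : (commutator N).map N.subtype = (⊤ : Subgroup N).map N.subtype := by rw [h2, h3, h]
  have h5 := Subgroup.map_injective N.subtype_injective h4
  exact h1.ne h5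

theorem card_lt_of_ne_top [Finite G] (L : Subgroup G) (h : L ≠ ⊤) : Nat.card L < Nat.card G := by
  have h1 := L.card_mul_index
  have h2 : L.index ≠ 1 := fun h' => h (Subgroup.index_eq_one.mp h')
  have h3 : L.index ≠ 0 := Subgroup.index_ne_zero_of_finite
  have h4 : 0 < Nat.card L := Nat.card_pos
  have h5 : 2 ≤ L.index := by omega
  nlinarith

theorem card_quotient_lt_of_ne_bot [Finite G] (P : Subgroup G) [P.Normal] (h : P ≠ ⊥) :
    Nat.card (G ⧸ P) < Nat.card G := by
  have h1 := P.card_mul_index
  have h2 : Nat.card P ≠ 1 := fun h' => h (Subgroup.card_eq_one.mp h')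
  have h4 : 0 < Nat.card P := Nat.card_pos
  have h3 : 0 < P.index := Nat.pos_of_ne_zero Subgroup.index_ne_zero_of_finite
  have h5 : 2 ≤ Nat.card P := by omega
  show P.index < _
  nlinarith

end Cfsg.Agent.Lib.Helper1
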