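import Mathlib
import Cfsg.Prelude.Def_Solvable
import Cfsg.Agent.Lib.Helper1.SZHelpers
open Pointwise

set_option autoImplicit false

namespace Cfsg.Agent.Lib.Helper1

universe u

variable {G : Type u} [Group G]

theorem mem_conj_smul_iff' {H : Subgroup G} {g x : G} :
    x ∈ MulAut.conj g • H ↔ g⁻¹ * x * g ∈ H := by
  rw [Subgroup.mem_pointwise_smul_iff_inv_smul_mem]
  simp [MulAut.smul_def]

/-- In a Frobenius complement, a nontrivial element of `H ∩ H^g` forces `g ∈ H`. -/
theorem frobenius_mem_of_conj_mem {H : Subgroup G} (hH : Cfsg.IsFrobeniusComplement H)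
    {g h : G} (hh : h ∈ H) (hh1 : h ≠ 1) (hg : g⁻¹ * h * g ∈ H) : g ∈ H := by
  by_contra hgH
  have h1 := hH.2.2 g hgH
  have h2 : h ∈ H ⊓ MulAut.conj g • H := Subgroup.mem_inf.mpr ⟨hh, mem_conj_smul_iff'.mpr hg⟩
  rw [h1, Subgroup.mem_bot] at h2
  exact hh1 h2

/-- The complement of the Frobenius kernel. -/
def frobeniusCover (H : Subgroup G) : Set G := {x : G | x ≠ 1 ∧ ∃ g : G, x ∈ MulAut.conj g • H}

theorem frobeniusCover_eq_compl (H : Subgroup G) :
    frobeniusCover H = (Cfsg.frobeniusKernel H)ᶜ := by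
  ext x
  simp only [frobeniusCover, Cfsg.frobeniusKernel, Set.mem_ofPred_eq, Set.mem_compl_iff, not_or,
    not_forall, not_not]

/-- The bijection `(G ⧸ H) × H# ≃ cover`. -/
noncomputable def frobeniusCoverEquiv {H : Subgroup G} (hH : Cfsg.IsFrobeniusComplement H) :
    (G ⧸ H) × {h : H // h ≠ 1} ≃ frobeniusCover H :=
  Equiv.ofBijective
    (fun qh => ⟨qh.1.out * (qh.2 : H) * qh.1.out⁻¹, by
      refine ⟨?_, qh.1.out, ?_⟩
      · intro h
        have : ((qh.2 : H) : G) = 1 := by
          have e : ((qh.2 : H) : G) = qh.1.out⁻¹ * (qh.1.out * (qh.2 : H) * qh.1.out⁻¹) * qh.1.out := by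
            group
          rw [e, h]; group
        exact qh.2.2 (Subtype.ext this)
      · rw [mem_conj_smul_iff']
        have e : qh.1.out⁻¹ * (qh.1.out * ((qh.2 : H) : G) * qh.1.out⁻¹) * qh.1.out = (qh.2 : H) := by
          group
        rw [e]; exact (qh.2 : H).2⟩)
    (by
      constructor
      · rintro ⟨q₁, ⟨h₁, hh₁⟩⟩ ⟨q₂, ⟨h₂, hh₂⟩⟩ heq
        have heq' : q₁.out * (h₁ : G) * q₁.out⁻¹ = q₂.out * (h₂ : G) * q₂.out⁻¹ :=
          congrArg Subtype.val heq
        have h1ne : (h₁ : G) ≠ 1 := fun h => hh₁ (Subtype.ext h)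
        have hg : (q₁.out⁻¹ * q₂.out)⁻¹ * (h₁ : G) * (q₁.out⁻¹ * q₂.out) ∈ H := by
          have e : (q₁.out⁻¹ * q₂.out)⁻¹ * (h₁ : G) * (q₁.out⁻¹ * q₂.out) =
              q₂.out⁻¹ * (q₁.out * (h₁ : G) * q₁.out⁻¹) * q₂.out := by group
          rw [e, heq']
          have e2 : q₂.out⁻¹ * (q₂.out * (h₂ : G) * q₂.out⁻¹) * q₂.out = h₂ := by group
          rw [e2]; exact h₂.2
        have hmem := frobenius_mem_of_conj_mem hH h₁.2 h1ne hg
        have hq : q₁ = q₂ := by
          rw [← QuotientGroup.out_eq' q₁, ← QuotientGroup.out_eq' q₂]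
          exact QuotientGroup.eq.mpr hmem
        subst hq
        have : (h₁ : G) = h₂ := by
          have e : (h₁ : G) = q₁.out⁻¹ * (q₁.out * (h₁ : G) * q₁.out⁻¹) * q₁.out := by group
          rw [e, heq']; group
        have : h₁ = h₂ := Subtype.ext this
        subst this
        rfl
      · rintro ⟨x, hx1, g, hxg⟩
        rw [mem_conj_smul_iff'] at hxg
        set q : G ⧸ H := QuotientGroup.mk g with hq
        have hr : q.out⁻¹ * g ∈ H := by
          have : (QuotientGroup.mk q.out : G ⧸ H) = QuotientGroup.mk g := QuotientGroup.out_eq' q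
          exact QuotientGroup.eq.mp this
        set r := q.out with hrdef
        have hmem : (r⁻¹ * g) * (g⁻¹ * x * g) * (r⁻¹ * g)⁻¹ ∈ H :=
          H.mul_mem (H.mul_mem hr hxg) (H.inv_mem hr)
        have hne : (⟨_, hmem⟩ : H) ≠ 1 := by
          intro h
          have h' := congrArg Subtype.val h
          simp only [Subgroup.coe_one] at h'
          apply hx1
          have e : x = r * ((r⁻¹ * g) * (g⁻¹ * x * g) * (r⁻¹ * g)⁻¹) * r⁻¹ := by group
          rw [e, h']; group
        refine ⟨⟨q, ⟨⟨_, hmem⟩, hne⟩⟩, ?_⟩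
        apply Subtype.ext
        show r * ((r⁻¹ * g) * (g⁻¹ * x * g) * (r⁻¹ * g)⁻¹) * r⁻¹ = x
        group)


theorem card_subtype_ne' {α : Type*} [Finite α] (a : α) :
    Nat.card {x : α // x ≠ a} = Nat.card α - 1 := by
  classical
  have h := Nat.card_congr (Equiv.sumCompl (fun x : α => x = a))
  rw [Nat.card_sum] at h
  have h1 : Nat.card {x : α // x = a} = 1 := by
    rw [Nat.card_eq_one_iff_unique]
    exact ⟨⟨fun x y => Subtype.ext (x.2.trans y.2.symm)⟩, ⟨⟨a, rfl⟩⟩⟩
  rw [h1] at h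
  have : Nat.card {x : α // x ≠ a} = Nat.card {x : α // ¬ x = a} := rfl
  omega

theorem card_frobeniusCover [Finite G] {H : Subgroup G} (hH : Cfsg.IsFrobeniusComplement H) :
    Nat.card (frobeniusCover H) = H.index * (Nat.card H - 1) := by
  rw [← Nat.card_congr (frobeniusCoverEquiv hH), Nat.card_prod, card_subtype_ne']
  rfl

theorem card_frobeniusKernel [Finite G] {H : Subgroup G} (hH : Cfsg.IsFrobeniusComplement H) :
    Nat.card (Cfsg.frobeniusKernel H) = H.index := by
  have h1 := Set.ncard_add_ncard_compl (Cfsg.frobeniusKernel H) (Set.toFinite _) (Set.toFinite _)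
  rw [← frobeniusCover_eq_compl, ← Nat.card_coe_set_eq, ← Nat.card_coe_set_eq, card_frobeniusCover hH,
    ← H.card_mul_index] at h1
  have hpos : 0 < Nat.card H := Nat.card_pos
  have h2 : H.index * (Nat.card H - 1) + H.index = Nat.card H * H.index := by
    have : Nat.card H - 1 + 1 = Nat.card H := Nat.sub_add_cancel hpos
    calc H.index * (Nat.card H - 1) + H.index = H.index * (Nat.card H - 1 + 1) := by ring
      _ = Nat.card H * H.index := by rw [this, mul_comm]
  omega


/-- The nontrivial cosets, as a sub-action for `H`. -/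
def nontrivialCosets (H : Subgroup G) : SubMulAction H (G ⧸ H) where
  carrier := {q | q ≠ QuotientGroup.mk 1}
  smul_mem' := by
    intro h q hq hcon
    apply hq
    have h1 : h • (QuotientGroup.mk (1 : G) : G ⧸ H) = QuotientGroup.mk 1 := by
      show (QuotientGroup.mk ((h : G) * 1) : G ⧸ H) = QuotientGroup.mk 1
      rw [mul_one]
      exact QuotientGroup.eq.mpr (by simp)
    rw [← h1] at hcon
    exact smul_left_cancel h hcon

theorem index_mod_card_of_frobenius [Finite G] {H : Subgroup G}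
    (hH : Cfsg.IsFrobeniusComplement H) : H.index % Nat.card H = 1 % Nat.card H := by
  have hfree : ∀ b : nontrivialCosets H, MulAction.stabilizer H b = ⊥ := by
    rintro ⟨q, hq⟩
    obtain ⟨g, rfl⟩ := QuotientGroup.mk_surjective q
    rw [eq_bot_iff]
    intro h hh
    rw [Subgroup.mem_bot]
    by_contra hne
    have hh' : h • (QuotientGroup.mk g : G ⧸ H) = QuotientGroup.mk g := by
      have := MulAction.mem_stabilizer_iff.mp hh
      exact congrArg Subtype.val this
    have h1 : (QuotientGroup.mk ((h : G) * g) : G ⧸ H) = QuotientGroup.mk g := hh'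
    have h2 : ((h : G) * g)⁻¹ * g ∈ H := QuotientGroup.eq.mp h1
    have h3 : g⁻¹ * (h : G) * g ∈ H := by
      have e : g⁻¹ * (h : G) * g = (((h : G) * g)⁻¹ * g)⁻¹ := by group
      rw [e]; exact H.inv_mem h2
    have hg := frobenius_mem_of_conj_mem hH h.2 (fun h' => hne (Subtype.ext h')) h3
    apply hq
    exact QuotientGroup.eq.mpr (by simpa using hg)
  have e := MulAction.selfEquivOrbitsQuotientProd hfree
  have hcard := Nat.card_congr e
  rw [Nat.card_prod] at hcard
  have h1 : Nat.card (nontrivialCosets H) = H.index - 1 :=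
    card_subtype_ne' (α := G ⧸ H) (QuotientGroup.mk 1)
  rw [h1] at hcard
  have hpos : 0 < H.index := Nat.pos_of_ne_zero Subgroup.index_ne_zero_of_finite
  have h2 : H.index = 1 + Nat.card (Quotient (MulAction.orbitRel H (nontrivialCosets H))) * Nat.card H := by
    omega
  rw [h2, Nat.add_mul_mod_self_right]


theorem frobeniusKernel_conj_mem {H : Subgroup G} {x : G} (hx : x ∈ Cfsg.frobeniusKernel H)
    (g : G) : g * x * g⁻¹ ∈ Cfsg.frobeniusKernel H := by
  rcases hx with rfl | hx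
  · left; group
  · right
    intro y hy
    apply hx (g⁻¹ * y)
    rw [mem_conj_smul_iff'] at hy ⊢
    have e : (g⁻¹ * y)⁻¹ * x * (g⁻¹ * y) = y⁻¹ * (g * x * g⁻¹) * y := by group
    rw [e]; exact hy

theorem frobeniusKernel_inv_mem {H : Subgroup G} {x : G} (hx : x ∈ Cfsg.frobeniusKernel H) :
    x⁻¹ ∈ Cfsg.frobeniusKernel H := by
  rcases hx with rfl | hx
  · left; simp
  · right
    intro y hy
    apply hx y
    have := Subgroup.inv_mem _ hy
    simpa using this

/-- If an involution `s` (a conjugate situation) inverts a nontrivial element `w` of a conjugate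
of `H`, then `s` lies in that conjugate. -/
theorem frobenius_mem_of_inverts {H : Subgroup G} (hH : Cfsg.IsFrobeniusComplement H)
    {x w s : G} (hw : w ∈ MulAut.conj x • H) (hw1 : w ≠ 1) (hs : s * w * s⁻¹ = w⁻¹) :
    s ∈ MulAut.conj x • H := by
  rw [mem_conj_smul_iff'] at hw ⊢
  -- h := x⁻¹ w⁻¹ x ∈ H, g := x⁻¹ s x, g⁻¹ h g = x⁻¹ s⁻¹ w⁻¹ s x = x⁻¹ w x
  have h1 : x⁻¹ * w⁻¹ * x ∈ H := by
    have := H.inv_mem hw
    have e : (x⁻¹ * w * x)⁻¹ = x⁻¹ * w⁻¹ * x := by group
    rwa [e] at this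
  have h1ne : x⁻¹ * w⁻¹ * x ≠ 1 := by
    intro h
    apply hw1
    have e : w = (x * (x⁻¹ * w⁻¹ * x) * x⁻¹)⁻¹ := by group
    rw [e, h]; group
  apply frobenius_mem_of_conj_mem hH h1 h1ne
  have e : (x⁻¹ * s * x)⁻¹ * (x⁻¹ * w⁻¹ * x) * (x⁻¹ * s * x) = x⁻¹ * (s⁻¹ * w⁻¹ * s) * x := by group
  have e2 : s⁻¹ * w⁻¹ * s = w := by
    rw [← hs]; group
  rw [e, e2]; exact hw

end Cfsg.Agent.Lib.Helper1
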