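import Mathlib
import Cfsg.Agent.Lib.Helper1.SZHelpers
set_option autoImplicit false
open Pointwise

namespace Cfsg.Agent.Lib.Helper1

universe u

theorem smul_le_normalizer_inf_normal {G : Type*} [Group G] (K M : Subgroup G) [hM : M.Normal] :
    K ≤ Subgroup.normalizer ((K ⊓ M : Subgroup G) : Set G) := by
  intro x hx
  rw [Subgroup.mem_normalizer_iff]
  intro y
  constructor
  · rintro ⟨hyK, hyM⟩
    exact ⟨K.mul_mem (K.mul_mem hx hyK) (K.inv_mem hx), hM.conj_mem y hyM x⟩
  · rintro ⟨hyK, hyM⟩
    constructor
    · have : y = x⁻¹ * (x * y * x⁻¹) * x := by group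
      rw [this]; exact K.mul_mem (K.mul_mem (K.inv_mem hx) hyK) hx
    · have : y = x⁻¹ * (x * y * x⁻¹) * x⁻¹⁻¹ := by group
      rw [this]; exact hM.conj_mem _ hyM x⁻¹

theorem sz_conj_aux (n : ℕ) : ∀ (G : Type u) [Group G] [Finite G], Nat.card G = n →
    ∀ (N H K : Subgroup G) [N.Normal], Subgroup.IsComplement' N H → Subgroup.IsComplement' N K →
    (Nat.card N).Coprime (Nat.card H) → (Group.IsSolvable N ∨ Group.IsSolvable H) →
    ∃ g : G, MulAut.conj g • H = K := by
  induction n using Nat.strong_induction_on with
  | _ n ih =>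
  intro G _ _ hcard N H K hNn hH hK hcop hsolv
  have hcardHK : Nat.card H = Nat.card K := by
    have h1 := hH.card_mul_card
    have h2 := hK.card_mul_card
    have : Nat.card N * Nat.card H = Nat.card N * Nat.card K := by rw [h1, h2]
    exact Nat.eq_of_mul_eq_mul_left Nat.card_pos this
  rcases hsolv with hNs | hHs
  · -- Case 1: N solvable
    have hN'le : ⁅N, N⁆ ≤ N := Subgroup.commutator_le_left N N
    by_cases hN' : ⁅N, N⁆ = ⊥
    · have hNc : IsMulCommutative N := by
        refine ⟨⟨fun a b => ?_⟩⟩
        have h1 := (Subgroup.commutator_eq_bot_iff_le_centralizer).mp hN'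
        exact Subtype.ext (Subgroup.mem_centralizer_iff.mp (h1 a.2) b b.2).symm
      have hidx : N.index = Nat.card H := hH.symm.index_eq_card
      obtain ⟨a, -, ha⟩ := sz_abelian_conj N (by rw [hidx]; exact hcop) H K hH hK
      exact ⟨a, ha⟩
    · set N' : Subgroup G := ⁅N, N⁆ with hN'def
      have hN'n : N'.Normal := by rw [hN'def]; infer_instance
      let f := QuotientGroup.mk' N'
      have hf : Function.Surjective f := QuotientGroup.mk'_surjective N'
      have hker : f.ker = N' := QuotientGroup.ker_mk' N'
      have hlt : Nat.card (G ⧸ N') < n := hcard ▸ card_quotient_lt_of_ne_bot N' hN'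
      have hNmn : (N.map f).Normal := hNn.map f hf
      have hsol1 : Group.IsSolvable (N.map f) := isSolvable_map f N
      obtain ⟨y, hy⟩ := ih _ hlt (G ⧸ N') rfl (N.map f) (H.map f) (K.map f)
        (isComplement'_map hH hcop f hf) (isComplement'_map hK (hcardHK ▸ hcop) f hf)
        (coprime_card_map hcop f) (Or.inl hsol1)
      obtain ⟨g, hg⟩ := conj_sup_ker_of_map f hf ⟨y, hy⟩
      rw [hker] at hg
      set H₁ : Subgroup G := MulAut.conj g • H with hH₁
      have hH₁c : Subgroup.IsComplement' N H₁ := isComplement'_conj_smul hH g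
      have hH₁card : Nat.card H₁ = Nat.card H :=
        Nat.card_congr (Subgroup.equivSMul (MulAut.conj g) H).toEquiv.symm
      set L : Subgroup G := K ⊔ N' with hL
      have hH₁L : H₁ ≤ L := hg ▸ le_sup_left
      have hKL : K ≤ L := le_sup_left
      have hLtop : L ≠ ⊤ := by
        intro htop
        have hNbot : N ≠ ⊥ := by
          intro h
          apply hN'
          rw [eq_bot_iff, ← h]; exact hN'le
        apply commutator_self_ne_of_isSolvable N hNbot
        apply le_antisymm hN'le
        intro x hx
        have hxL : x ∈ L := by rw [htop]; exact Subgroup.mem_top x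
        rw [hL, ← SetLike.mem_coe, Subgroup.mul_normal] at hxL
        obtain ⟨k, hk, n', hn', hxeq⟩ := hxL
        have hxeq' : k * n' = x := hxeq
        have hkN : k ∈ N := by
          have : k = x * n'⁻¹ := by rw [← hxeq']; group
          rw [this]; exact N.mul_mem hx (N.inv_mem (hN'le hn'))
        have hk1 : k = 1 := Subgroup.disjoint_def.mp hK.disjoint hkN hk
        rw [← hxeq', hk1, one_mul]; exact hn'
      have hLlt : Nat.card L < n := hcard ▸ card_lt_of_ne_top L hLtop
      have hNLn : (N.subgroupOf L).Normal := hNn.subgroupOf L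
      have hsol2 : Group.IsSolvable (N.subgroupOf L) := isSolvable_subgroupOf N L
      have hcop2 : (Nat.card (N.subgroupOf L)).Coprime (Nat.card (H₁.subgroupOf L)) := by
        rw [card_subgroupOf_of_le hH₁L, hH₁card]
        exact Nat.Coprime.coprime_dvd_left (card_subgroupOf_dvd N L) hcop
      obtain ⟨l, hl⟩ := ih _ hLlt L rfl (N.subgroupOf L) (H₁.subgroupOf L) (K.subgroupOf L)
        (isComplement'_subgroupOf hH₁c (Or.inr hH₁L)) (isComplement'_subgroupOf hK (Or.inr hKL))
        hcop2 (Or.inl hsol2)
      have := conj_smul_of_subgroupOf hH₁L hKL l hl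
      refine ⟨(l : G) * g, ?_⟩
      rw [map_mul, mul_smul]
      exact this
  · -- Case 2: H solvable
    by_cases hHbot : H = ⊥
    · refine ⟨1, ?_⟩
      have hKbot : K = ⊥ := by
        rw [← Subgroup.card_eq_one, ← hcardHK, Subgroup.card_eq_one]; exact hHbot
      rw [hHbot, hKbot]; simp
    let f := QuotientGroup.mk' N
    have hf : Function.Surjective f := QuotientGroup.mk'_surjective N
    have hker : f.ker = N := QuotientGroup.ker_mk' N
    let eH : G ⧸ N ≃* H := hH.symm.QuotientMulEquiv
    let eK : G ⧸ N ≃* K := hK.symm.QuotientMulEquiv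
    have hQsol : Group.IsSolvable (G ⧸ N) :=
      Group.isSolvable_of_isSolvable_injective (f := eH.toMonoidHom) eH.injective
    have hQnt : Nontrivial (G ⧸ N) := by
      have : Nontrivial H := (Subgroup.nontrivial_iff_ne_bot H).mpr hHbot
      exact eH.toEquiv.nontrivial
    obtain ⟨Mq, hMqn, hMqbot, hMqmin⟩ := exists_minimal_normal (G := G ⧸ N)
    obtain ⟨-, p, hp, hMqp⟩ := minimal_normal_of_solvable Mq hMqbot hMqmin
    have := Fact.mk hp
    set M : Subgroup G := Mq.comap f with hMdef
    have hMn : M.Normal := hMqn.comap f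
    have hNM : N ≤ M := by
      rw [← hker]; exact Subgroup.ker_le_comap f Mq
    by_cases hMtop : M = ⊤
    · -- the quotient is a p-group; Sylow
      have hMqtop : Mq = ⊤ := by
        have h1 : M.map f = Mq := Subgroup.map_comap_eq_self_of_surjective hf Mq
        rw [← h1, hMtop, Subgroup.map_top_of_surjective f hf]
      have hQp : IsPGroup p (G ⧸ N) := by
        intro x
        refine ⟨1, ?_⟩
        rw [pow_one]
        exact hMqp x (by rw [hMqtop]; exact Subgroup.mem_top x)
      have hHp : IsPGroup p H := hQp.of_equiv eH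
      have hKp : IsPGroup p K := hQp.of_equiv eK
      have hpH : p ∣ Nat.card H := by
        have : Nontrivial H := (Subgroup.nontrivial_iff_ne_bot H).mpr hHbot
        obtain ⟨k, hk0, hk⟩ := hHp.nontrivial_iff_card.mp this
        rw [hk]; exact dvd_pow_self p hk0.ne'
      have hpN : ¬ p ∣ Nat.card N := by
        intro h
        have := Nat.Coprime.eq_one_of_dvd hcop.symm
        exact hp.one_lt.ne' (Nat.eq_one_of_dvd_coprimes hcop h hpH)
      have hHidx : ¬ p ∣ H.index := by rw [hH.index_eq_card]; exact hpN
      have hKidx : ¬ p ∣ K.index := by rw [hK.index_eq_card]; exact hpN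
      let SH : Sylow p G := hHp.toSylow hHidx
      let SK : Sylow p G := hKp.toSylow hKidx
      obtain ⟨g, hg⟩ := MulAction.exists_smul_eq G SH SK
      refine ⟨g, ?_⟩
      have := congrArg (fun S : Sylow p G => (S : Subgroup G)) hg
      simpa [SH, SK, Sylow.coe_subgroup_smul] using this
    · -- M is a proper normal subgroup
      have hMlt : Nat.card M < n := hcard ▸ card_lt_of_ne_top M hMtop
      have hNMn : (N.subgroupOf M).Normal := hNn.subgroupOf M
      have hsolM : Group.IsSolvable (H.subgroupOf M) := isSolvable_subgroupOf H M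
      have hcopM : (Nat.card (N.subgroupOf M)).Coprime (Nat.card (H.subgroupOf M)) :=
        Nat.Coprime.of_dvd (card_subgroupOf_dvd N M) (card_subgroupOf_dvd H M) hcop
      obtain ⟨m, hm⟩ := ih _ hMlt M rfl (N.subgroupOf M) (H.subgroupOf M) (K.subgroupOf M)
        (isComplement'_subgroupOf hH (Or.inl hNM)) (isComplement'_subgroupOf hK (Or.inl hNM))
        hcopM (Or.inr hsolM)
      have hm' := conj_smul_inf_of_subgroupOf m hm
      set H₁ : Subgroup G := MulAut.conj (m : G) • H with hH₁
      have hH₁c : Subgroup.IsComplement' N H₁ := isComplement'_conj_smul hH (m : G)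
      have hH₁card : Nat.card H₁ = Nat.card H :=
        Nat.card_congr (Subgroup.equivSMul (MulAut.conj (m : G)) H).toEquiv.symm
      have hH₁sol : Group.IsSolvable H₁ := isSolvable_conj_smul (m : G) H
      have hH₁M : H₁ ⊓ M = K ⊓ M := by
        rw [← hm', Subgroup.smul_inf, Subgroup.Normal.conj_smul_eq_self (m : G) M]
      set P : Subgroup G := K ⊓ M with hP
      have hPK : P ≤ K := inf_le_left
      have hPH₁ : P ≤ H₁ := hH₁M ▸ inf_le_left
      have hKnorm : K ≤ Subgroup.normalizer (P : Set G) := smul_le_normalizer_inf_normal K M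
      have hH₁norm : H₁ ≤ Subgroup.normalizer (P : Set G) := by
        rw [← hH₁M]; exact smul_le_normalizer_inf_normal H₁ M
      set L : Subgroup G := Subgroup.normalizer (P : Set G) with hL
      by_cases hLtop : L = ⊤
      · -- P is normal in G
        have hPn : P.Normal := Subgroup.normalizer_eq_top_iff.mp hLtop
        have hPbot : P ≠ ⊥ := by
          -- pick x ∈ M \ N
          have hMN : ¬ M ≤ N := by
            intro hle
            apply hMqbot
            rw [eq_bot_iff]
            intro q hq
            obtain ⟨x, rfl⟩ := hf q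
            have hxM : x ∈ M := hq
            rw [Subgroup.mem_bot]
            exact (QuotientGroup.eq_one_iff x).mpr (hle hxM)
          obtain ⟨x, hxM, hxN⟩ := SetLike.not_le_iff_exists.mp hMN
          obtain ⟨a, ha, k, hk, hxak⟩ := isComplement'_mul_eq hK x
          have hkM : k ∈ M := by
            have : k = a⁻¹ * x := by rw [hxak]; group
            rw [this]; exact M.mul_mem (M.inv_mem (hNM ha)) hxM
          intro hbot
          have hkP : k ∈ P := ⟨hk, hkM⟩
          rw [hbot, Subgroup.mem_bot] at hkP
          apply hxN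
          rw [hxak, hkP, mul_one]; exact ha
        let f' := QuotientGroup.mk' P
        have hf' : Function.Surjective f' := QuotientGroup.mk'_surjective P
        have hker' : f'.ker = P := QuotientGroup.ker_mk' P
        have hlt : Nat.card (G ⧸ P) < n := hcard ▸ card_quotient_lt_of_ne_bot P hPbot
        have hNmn : (N.map f').Normal := hNn.map f' hf'
        have hsol1 : Group.IsSolvable (H₁.map f') := isSolvable_map f' H₁
        obtain ⟨y, hy⟩ := ih _ hlt (G ⧸ P) rfl (N.map f') (H₁.map f') (K.map f')
          (isComplement'_map hH₁c (hH₁card.symm ▸ hcop) f' hf')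
          (isComplement'_map hK (hcardHK ▸ hcop) f' hf')
          (coprime_card_map (hH₁card.symm ▸ hcop) f') (Or.inr hsol1)
        obtain ⟨g, hg⟩ := conj_sup_ker_of_map f' hf' ⟨y, hy⟩
        rw [hker', sup_of_le_left hPK] at hg
        have hPle : P ≤ MulAut.conj g • H₁ := by
          have : MulAut.conj g • P ≤ MulAut.conj g • H₁ := Subgroup.pointwise_smul_le_pointwise_smul_iff.mpr hPH₁
          rwa [Subgroup.Normal.conj_smul_eq_self g P] at this
        rw [sup_of_le_left hPle] at hg
        refine ⟨g * (m : G), ?_⟩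
        rw [map_mul, mul_smul]
        exact hg
      · have hLlt : Nat.card L < n := hcard ▸ card_lt_of_ne_top L hLtop
        have hNLn : (N.subgroupOf L).Normal := hNn.subgroupOf L
        have hsol2 : Group.IsSolvable (H₁.subgroupOf L) := isSolvable_subgroupOf H₁ L
        have hcop2 : (Nat.card (N.subgroupOf L)).Coprime (Nat.card (H₁.subgroupOf L)) := by
          rw [card_subgroupOf_of_le hH₁norm, hH₁card]
          exact Nat.Coprime.coprime_dvd_left (card_subgroupOf_dvd N L) hcop
        obtain ⟨l, hl⟩ := ih _ hLlt L rfl (N.subgroupOf L) (H₁.subgroupOf L) (K.subgroupOf L)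
          (isComplement'_subgroupOf hH₁c (Or.inr hH₁norm)) (isComplement'_subgroupOf hK (Or.inr hKnorm))
          hcop2 (Or.inr hsol2)
        have := conj_smul_of_subgroupOf hH₁norm hKnorm l hl
        refine ⟨(l : G) * (m : G), ?_⟩
        rw [map_mul, mul_smul]
        exact this


/-- Schur-Zassenhaus conjugacy (complement solvable version). -/
theorem sz_conj' {G : Type u} [Group G] [Finite G] (N H K : Subgroup G) [N.Normal]
    (hH : Subgroup.IsComplement' N H) (hK : Subgroup.IsComplement' N K)
    (hcop : (Nat.card N).Coprime (Nat.card H))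
    (hsolv : Group.IsSolvable N ∨ Group.IsSolvable H) :
    ∃ g : G, MulAut.conj g • H = K :=
  sz_conj_aux _ G rfl N H K hH hK hcop hsolv

/-- Schur-Zassenhaus conjugacy. -/
theorem sz_conj {G : Type u} [Group G] [Finite G] (N : Subgroup G) [N.Normal]
    (hN : (Nat.card N).Coprime N.index)
    (hsolv : Group.IsSolvable N ∨ Group.IsSolvable (G ⧸ N))
    (H K : Subgroup G) (hH : Subgroup.IsComplement' N H) (hK : Subgroup.IsComplement' N K) :
    ∃ g : G, MulAut.conj g • H = K := by
  have hidx : N.index = Nat.card H := hH.symm.index_eq_card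
  apply sz_conj' N H K hH hK (hidx ▸ hN)
  rcases hsolv with h | h
  · exact Or.inl h
  · right
    let eH : G ⧸ N ≃* H := hH.symm.QuotientMulEquiv
    exact Group.isSolvable_of_isSolvable_injective (f := eH.symm.toMonoidHom) eH.symm.injective

/-- Schur-Zassenhaus conjugacy, with the conjugating element in the normal subgroup. -/
theorem sz_conj_mem {G : Type u} [Group G] [Finite G] (N H K : Subgroup G) [N.Normal]
    (hH : Subgroup.IsComplement' N H) (hK : Subgroup.IsComplement' N K)
    (hcop : (Nat.card N).Coprime (Nat.card H))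
    (hsolv : Group.IsSolvable N ∨ Group.IsSolvable H) :
    ∃ g ∈ N, MulAut.conj g • H = K := by
  obtain ⟨g, hg⟩ := sz_conj' N H K hH hK hcop hsolv
  obtain ⟨a, ha, x, hx, rfl⟩ := isComplement'_mul_eq hH g
  refine ⟨a, ha, ?_⟩
  rw [map_mul, mul_smul, Subgroup.conj_smul_eq_self_of_mem hx] at hg
  exact hg

end Cfsg.Agent.Lib.Helper1
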