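import Mathlib
import Cfsg.Agent.Lib.Helper1.SZConj

set_option autoImplicit false
open Pointwise

namespace Cfsg.Agent.Lib.Helper1

universe u


/-- If `H` complements the normal Hall subgroup `N` and `K` has order coprime to `|N|`,
then `K` lies in a conjugate of `H`. -/
theorem sz_dominance {G : Type u} [Group G] [Finite G] (N H K : Subgroup G) [hNn : N.Normal]
    (hH : Subgroup.IsComplement' N H) (hcop : (Nat.card N).Coprime (Nat.card H))
    (hsolv : Group.IsSolvable N ∨ Group.IsSolvable H)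
    (hK : (Nat.card K).Coprime (Nat.card N)) : ∃ g : G, K ≤ MulAut.conj g • H := by
  set B : Subgroup G := N ⊔ K with hB
  have hNB : N ≤ B := le_sup_left
  have hKB : K ≤ B := le_sup_right
  have c1 : Subgroup.IsComplement' (N.subgroupOf B) (H.subgroupOf B) :=
    isComplement'_subgroupOf hH (Or.inl hNB)
  have c2 : Subgroup.IsComplement' (N.subgroupOf B) (K.subgroupOf B) := by
    apply Subgroup.isComplement'_of_disjoint_and_mul_eq_univ
    · rw [Subgroup.disjoint_def]
      intro x hxN hxK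
      have h1 : N ⊓ K = ⊥ := (Subgroup.disjoint_of_coprime_natCard hK.symm).eq_bot
      have h2 : (x : G) ∈ N ⊓ K := ⟨hxN, hxK⟩
      rw [h1, Subgroup.mem_bot] at h2
      exact Subtype.ext h2
    · rw [Set.eq_univ_iff_forall]
      intro b
      have hb : (b : G) ∈ (N ⊔ K : Subgroup G) := b.2
      rw [← SetLike.mem_coe, Subgroup.normal_mul] at hb
      obtain ⟨a, ha, k, hk, hak⟩ := hb
      have hak' : a * k = (b : G) := hak
      exact ⟨⟨a, hNB ha⟩, ha, ⟨k, hKB hk⟩, hk, Subtype.ext hak'⟩
  have hNBn : (N.subgroupOf B).Normal := hNn.subgroupOf B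
  have hcop' : (Nat.card (N.subgroupOf B)).Coprime (Nat.card (H.subgroupOf B)) := by
    rw [card_subgroupOf_of_le hNB]
    exact Nat.Coprime.coprime_dvd_right (card_subgroupOf_dvd H B) hcop
  have hsolv' : Group.IsSolvable (N.subgroupOf B) ∨ Group.IsSolvable (H.subgroupOf B) := by
    rcases hsolv with h | h
    · exact Or.inl (isSolvable_subgroupOf N B)
    · exact Or.inr (isSolvable_subgroupOf H B)
  obtain ⟨b, hb⟩ := sz_conj' (N.subgroupOf B) (H.subgroupOf B) (K.subgroupOf B) c1 c2 hcop' hsolv'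
  have h3 := conj_smul_inf_of_subgroupOf b hb
  rw [inf_of_le_left hKB] at h3
  refine ⟨b, ?_⟩
  rw [← h3]
  exact Subgroup.pointwise_smul_le_pointwise_smul_iff.mpr inf_le_left



theorem card_comap_mk' {G : Type*} [Group G] (A : Subgroup G) [A.Normal]
    (Hq : Subgroup (G ⧸ A)) :
    Nat.card (Hq.comap (QuotientGroup.mk' A)) = Nat.card A * Nat.card Hq :=
  QuotientGroup.card_preimage_mk A (Hq : Set (G ⧸ A))

theorem prime_pow_dvd_of_coprime_mul {p k m n : ℕ} (hp : p.Prime) (hmn : m.Coprime n)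
    (h : p ^ k ∣ m * n) : p ^ k ∣ m ∨ p ^ k ∣ n := by
  by_cases hpn : p ∣ n
  · right
    have hpm : ¬ p ∣ m := fun hpm => hp.one_lt.ne' (Nat.eq_one_of_dvd_coprimes hmn hpm hpn)
    have hc : (p ^ k).Coprime m := Nat.Coprime.pow_left k ((Nat.Prime.coprime_iff_not_dvd hp).mpr hpm)
    exact hc.dvd_of_dvd_mul_left h
  · left
    have hc : (p ^ k).Coprime n := Nat.Coprime.pow_left k ((Nat.Prime.coprime_iff_not_dvd hp).mpr hpn)
    exact hc.dvd_of_dvd_mul_right h

theorem hall_exists_aux (n₀ : ℕ) : ∀ (G : Type u) [Group G] [Finite G] [Group.IsSolvable G],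
    Nat.card G = n₀ → ∀ m n : ℕ, Nat.card G = m * n → m.Coprime n →
    ∃ H : Subgroup G, Nat.card H = m := by
  induction n₀ using Nat.strong_induction_on with
  | _ n₀ ih =>
  intro G _ _ _ hcard m n hG hmn
  by_cases hsub : Subsingleton G
  · refine ⟨⊥, ?_⟩
    have h1 : Nat.card G = 1 := Nat.card_eq_one_iff_unique.mpr ⟨hsub, ⟨1⟩⟩
    rw [h1] at hG
    rw [Subgroup.card_bot]
    exact (Nat.eq_one_of_mul_eq_one_right hG.symm).symm
  rw [not_subsingleton_iff_nontrivial] at hsub
  obtain ⟨A, hAn, hAbot, hAmin⟩ := exists_minimal_normal (G := G)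
  obtain ⟨hAc, p, hp, hAp⟩ := minimal_normal_of_solvable A hAbot hAmin
  have := Fact.mk hp
  have hApg : IsPGroup p A := by
    intro x
    exact ⟨1, by rw [pow_one]; exact Subtype.ext (hAp x x.2)⟩
  obtain ⟨k, hk⟩ := IsPGroup.iff_card.mp hApg
  have hAG : Nat.card A * A.index = m * n := by rw [A.card_mul_index, hG]
  have hdvd : p ^ k ∣ m * n := by rw [← hk, ← hAG]; exact dvd_mul_right _ _
  have hApos : 0 < Nat.card A := Nat.card_pos
  have hlt : Nat.card (G ⧸ A) < n₀ := hcard ▸ card_quotient_lt_of_ne_bot A hAbot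
  rcases prime_pow_dvd_of_coprime_mul hp hmn hdvd with hm | hn
  · obtain ⟨m', rfl⟩ := hm
    have hq : Nat.card (G ⧸ A) = m' * n := by
      have : Nat.card A * A.index = Nat.card A * (m' * n) := by rw [hAG, hk]; ring
      exact Nat.eq_of_mul_eq_mul_left hApos this
    have hcop : m'.Coprime n := Nat.Coprime.coprime_dvd_left (dvd_mul_left m' (p ^ k)) hmn
    obtain ⟨Hq, hHq⟩ := ih _ hlt (G ⧸ A) rfl m' n hq hcop
    refine ⟨Hq.comap (QuotientGroup.mk' A), ?_⟩
    rw [card_comap_mk', hHq, hk]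
  · obtain ⟨n', rfl⟩ := hn
    have hq : Nat.card (G ⧸ A) = m * n' := by
      have : Nat.card A * A.index = Nat.card A * (m * n') := by rw [hAG, hk]; ring
      exact Nat.eq_of_mul_eq_mul_left hApos this
    have hcop : m.Coprime n' := Nat.Coprime.coprime_dvd_right (dvd_mul_left n' (p ^ k)) hmn
    obtain ⟨Lq, hLq⟩ := ih _ hlt (G ⧸ A) rfl m n' hq hcop
    set L : Subgroup G := Lq.comap (QuotientGroup.mk' A) with hL
    have hLcard : Nat.card L = m * p ^ k := by rw [hL, card_comap_mk', hLq, hk, mul_comm]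
    have hcop2 : m.Coprime (p ^ k) := Nat.Coprime.coprime_dvd_right (dvd_mul_right (p ^ k) n') hmn
    by_cases hLtop : L = ⊤
    · -- A is a normal Hall subgroup; Schur-Zassenhaus
      have hGcard : Nat.card G = m * p ^ k := by rw [← hLcard, hLtop, Subgroup.card_top]
      have hidx : A.index = m := by
        have h1 := A.card_mul_index
        rw [hGcard, hk, mul_comm m] at h1
        exact Nat.eq_of_mul_eq_mul_left (pow_pos hp.pos k) h1
      have hAcop : (Nat.card A).Coprime A.index := by rw [hk, hidx]; exact hcop2.symm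
      obtain ⟨H, hH⟩ := Subgroup.exists_right_complement'_of_coprime hAcop
      refine ⟨H, ?_⟩
      rw [← hidx]; exact hH.symm.index_eq_card.symm
    · have hLlt : Nat.card L < n₀ := hcard ▸ card_lt_of_ne_top L hLtop
      obtain ⟨H', hH'⟩ := ih _ hLlt L rfl m (p ^ k) hLcard hcop2
      refine ⟨H'.map L.subtype, ?_⟩
      rw [Subgroup.card_map_of_injective L.subtype_injective, hH']

/-- Hall's theorem, existence. -/
theorem hall_exists {G : Type u} [Group G] [Finite G] [Group.IsSolvable G] (m n : ℕ)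
    (hG : Nat.card G = m * n) (hmn : m.Coprime n) : ∃ H : Subgroup G, Nat.card H = m :=
  hall_exists_aux _ G rfl m n hG hmn



theorem inf_normal_of_abelian_normal_sup_eq_top {G : Type*} [Group G] (A H : Subgroup G)
    [hAn : A.Normal] (hAc : ∀ a ∈ A, ∀ b ∈ A, a * b = b * a) (h : A ⊔ H = ⊤) :
    (A ⊓ H).Normal := by
  constructor
  intro x hx g
  have hg : g ∈ (A ⊔ H : Subgroup G) := by rw [h]; exact Subgroup.mem_top g
  rw [← SetLike.mem_coe, Subgroup.normal_mul] at hg
  obtain ⟨a, ha, y, hy, hay⟩ := hg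
  have hay' : a * y = g := hay
  have h1 : y * x * y⁻¹ ∈ A ⊓ H :=
    ⟨hAn.conj_mem x hx.1 y, H.mul_mem (H.mul_mem hy hx.2) (H.inv_mem hy)⟩
  have h2 : g * x * g⁻¹ = a * (y * x * y⁻¹) * a⁻¹ := by rw [← hay']; group
  have h3 : a * (y * x * y⁻¹) * a⁻¹ = y * x * y⁻¹ := by
    rw [hAc a ha _ h1.1, mul_assoc, mul_inv_cancel, mul_one]
  rw [h2, h3]; exact h1

theorem card_conj_smul {G : Type*} [Group G] (g : G) (H : Subgroup G) :
    Nat.card (MulAut.conj g • H : Subgroup G) = Nat.card H :=
  Nat.card_congr (Subgroup.equivSMul (MulAut.conj g) H).toEquiv.symm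

theorem index_conj_smul {G : Type*} [Group G] [Finite G] (g : G) (H : Subgroup G) :
    (MulAut.conj g • H : Subgroup G).index = H.index := by
  have h1 := (MulAut.conj g • H : Subgroup G).card_mul_index
  have h2 := H.card_mul_index
  rw [card_conj_smul, ← h2] at h1
  exact Nat.eq_of_mul_eq_mul_left Nat.card_pos h1

theorem hall_dominance_aux (n₀ : ℕ) : ∀ (G : Type u) [Group G] [Finite G] [Group.IsSolvable G],
    Nat.card G = n₀ → ∀ H K : Subgroup G, (Nat.card H).Coprime H.index →
    (Nat.card K).Coprime H.index → ∃ g : G, K ≤ MulAut.conj g • H := by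
  induction n₀ using Nat.strong_induction_on with
  | _ n₀ ih =>
  intro G _ _ _ hcard H K hH hK
  by_cases hsub : Subsingleton G
  · refine ⟨1, ?_⟩
    intro x _
    rw [Subsingleton.elim x 1]; exact Subgroup.one_mem _
  rw [not_subsingleton_iff_nontrivial] at hsub
  obtain ⟨A, hAn, hAbot, hAmin⟩ := exists_minimal_normal (G := G)
  obtain ⟨hAc, p, hp, hAp⟩ := minimal_normal_of_solvable A hAbot hAmin
  have hAcomm : ∀ a ∈ A, ∀ b ∈ A, a * b = b * a := fun a ha b hb =>
    congrArg Subtype.val (mul_comm' (⟨a, ha⟩ : A) ⟨b, hb⟩)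
  let f := QuotientGroup.mk' A
  have hf : Function.Surjective f := QuotientGroup.mk'_surjective A
  have hker : f.ker = A := QuotientGroup.ker_mk' A
  have hlt : Nat.card (G ⧸ A) < n₀ := hcard ▸ card_quotient_lt_of_ne_bot A hAbot
  have hH' : (Nat.card (H.map f)).Coprime (H.map f).index :=
    Nat.Coprime.of_dvd (Subgroup.card_map_dvd H f) (Subgroup.index_map_dvd H hf) hH
  have hK' : (Nat.card (K.map f)).Coprime (H.map f).index :=
    Nat.Coprime.of_dvd (Subgroup.card_map_dvd K f) (Subgroup.index_map_dvd H hf) hK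
  obtain ⟨y, hy⟩ := ih _ hlt (G ⧸ A) rfl (H.map f) (K.map f) hH' hK'
  obtain ⟨g, rfl⟩ := hf y
  rw [← map_conj_smul] at hy
  set H₁ : Subgroup G := MulAut.conj g • H with hH₁
  have hKL : K ≤ H₁ ⊔ A := by
    have := Subgroup.comap_mono (f := f) hy
    rw [Subgroup.comap_map_eq, Subgroup.comap_map_eq, hker] at this
    exact le_sup_left.trans this
  have hH₁card : Nat.card H₁ = Nat.card H := card_conj_smul g H
  have hH₁idx : H₁.index = H.index := index_conj_smul g H
  set L : Subgroup G := H₁ ⊔ A with hL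
  by_cases hLtop : L = ⊤
  · have hAH : A ⊔ H₁ = ⊤ := by rw [sup_comm]; exact hLtop
    have hinfn := inf_normal_of_abelian_normal_sup_eq_top A H₁ hAcomm hAH
    rcases hAmin (A ⊓ H₁) hinfn inf_le_left with hbot | hA
    · have hc : Subgroup.IsComplement' A H₁ := by
        apply Subgroup.isComplement'_of_disjoint_and_mul_eq_univ (disjoint_iff.mpr hbot)
        rw [← Subgroup.normal_mul, hAH]; rfl
      have hAidx : H₁.index = Nat.card A := hc.index_eq_card
      have hcop1 : (Nat.card A).Coprime (Nat.card H₁) := by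
        rw [← hAidx, hH₁idx, hH₁card]; exact hH.symm
      have hcop2 : (Nat.card K).Coprime (Nat.card A) := by
        rw [← hAidx, hH₁idx]; exact hK
      have hAsol : Group.IsSolvable A := inferInstance
      obtain ⟨g', hg'⟩ := sz_dominance A H₁ K hc hcop1 (Or.inl hAsol) hcop2
      refine ⟨g' * g, ?_⟩
      rw [map_mul, mul_smul]; exact hg'
    · have hAle : A ≤ H₁ := by rw [← hA]; exact inf_le_right
      have : H₁ = ⊤ := by rw [← hLtop, hL, sup_of_le_left hAle]
      exact ⟨g, by rw [← hH₁, this]; exact le_top⟩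
  · have hLlt : Nat.card L < n₀ := hcard ▸ card_lt_of_ne_top L hLtop
    have hH₁L : H₁ ≤ L := le_sup_left
    have hc1 : (Nat.card (H₁.subgroupOf L)).Coprime (H₁.subgroupOf L).index := by
      rw [card_subgroupOf_of_le hH₁L, hH₁card]
      have : (H₁.subgroupOf L).index ∣ H.index := by
        rw [← hH₁idx]
        exact Subgroup.relIndex_dvd_index_of_le hH₁L
      exact Nat.Coprime.coprime_dvd_right this hH
    have hc2 : (Nat.card (K.subgroupOf L)).Coprime (H₁.subgroupOf L).index := by
      rw [card_subgroupOf_of_le hKL]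
      have : (H₁.subgroupOf L).index ∣ H.index := by
        rw [← hH₁idx]
        exact Subgroup.relIndex_dvd_index_of_le hH₁L
      exact Nat.Coprime.coprime_dvd_right this hK
    obtain ⟨l, hl⟩ := ih _ hLlt L rfl (H₁.subgroupOf L) (K.subgroupOf L) hc1 hc2
    refine ⟨(l : G) * g, ?_⟩
    rw [map_mul, mul_smul]
    have h1 := Subgroup.map_mono (f := L.subtype) hl
    rw [map_subtype_conj_smul, Subgroup.subgroupOf_map_subtype, Subgroup.subgroupOf_map_subtype,
      inf_of_le_left hKL, inf_of_le_left hH₁L] at h1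
    exact h1

/-- Hall's theorem: a Hall subgroup of a finite solvable group dominates every subgroup
of order coprime to its index. -/
theorem hall_dominance {G : Type u} [Group G] [Finite G] [Group.IsSolvable G] (H K : Subgroup G)
    (hH : (Nat.card H).Coprime H.index) (hK : (Nat.card K).Coprime H.index) :
    ∃ g : G, K ≤ MulAut.conj g • H :=
  hall_dominance_aux _ G rfl H K hH hK

/-- Hall's theorem, conjugacy. -/
theorem hall_conj {G : Type u} [Group G] [Finite G] [Group.IsSolvable G] (H K : Subgroup G)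
    (hH : (Nat.card H).Coprime H.index) (hHK : Nat.card H = Nat.card K) :
    ∃ g : G, MulAut.conj g • H = K := by
  obtain ⟨g, hg⟩ := hall_dominance H K hH (hHK ▸ hH)
  refine ⟨g, (Subgroup.eq_of_le_of_card_ge hg ?_).symm⟩
  rw [card_conj_smul, hHK]

end Cfsg.Agent.Lib.Helper1
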