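import Mathlib
import Cfsg.Agent.Lib.Helper1.Hall
set_option autoImplicit false
open Pointwise

namespace Cfsg.Agent.Lib.Helper1

universe u

variable {G : Type u} [Group G]

/-- An element of `K` normalising `A` centralises `A`, when `A` normalises `K` and `A ⊓ K = ⊥`. -/
theorem mem_centralizer_of_conj_smul_eq {A K : Subgroup G}
    (hAK : A ≤ Subgroup.normalizer (K : Set G)) (hdisj : Disjoint A K)
    {x : G} (hxK : x ∈ K) (hx : MulAut.conj x • A = A) :
    x ∈ Subgroup.centralizer (A : Set G) := by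
  rw [Subgroup.mem_centralizer_iff]
  intro a ha
  have h1 : x * a * x⁻¹ ∈ A := by
    rw [← hx]
    exact Subgroup.smul_mem_pointwise_smul a (MulAut.conj x) A ha
  have h2 : x * a * x⁻¹ * a⁻¹ ∈ A := A.mul_mem h1 (A.inv_mem ha)
  have h3 : x * a * x⁻¹ * a⁻¹ ∈ K := by
    have : a * x⁻¹ * a⁻¹ ∈ K := (Subgroup.mem_normalizer_iff.mp (hAK ha) x⁻¹).mp (K.inv_mem hxK)
    have e : x * a * x⁻¹ * a⁻¹ = x * (a * x⁻¹ * a⁻¹) := by group
    rw [e]; exact K.mul_mem hxK this
  have h4 := Subgroup.disjoint_def.mp hdisj h2 h3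
  have : x * a = x * a * x⁻¹ * a⁻¹ * (a * x) := by group
  rw [this, h4, one_mul]


theorem disjoint_subgroupOf {H K : Subgroup G} (L : Subgroup G) (h : Disjoint H K) :
    Disjoint (H.subgroupOf L) (K.subgroupOf L) := by
  rw [Subgroup.disjoint_def] at h ⊢
  intro x hx hy
  exact Subtype.ext (h (Subgroup.mem_subgroupOf.mp hx) (Subgroup.mem_subgroupOf.mp hy))

/-- If `A` normalises `D` and they are disjoint, then inside `D ⊔ A` they are complements. -/
theorem isComplement'_subgroupOf_sup {A D : Subgroup G}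
    (hAD : A ≤ Subgroup.normalizer (D : Set G)) (hdisj : Disjoint D A) :
    (D.subgroupOf (D ⊔ A)).Normal ∧
      Subgroup.IsComplement' (D.subgroupOf (D ⊔ A)) (A.subgroupOf (D ⊔ A)) := by
  have hDΓ : D ≤ D ⊔ A := le_sup_left
  have hAΓ : A ≤ D ⊔ A := le_sup_right
  have hΓnorm : D ⊔ A ≤ Subgroup.normalizer (D : Set G) := sup_le Subgroup.le_normalizer hAD
  have hDn : (D.subgroupOf (D ⊔ A)).Normal :=
    (Subgroup.normal_subgroupOf_iff_le_normalizer hDΓ).mpr hΓnorm
  refine ⟨hDn, ?_⟩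
  apply Subgroup.isComplement'_of_disjoint_and_mul_eq_univ (disjoint_subgroupOf _ hdisj)
  rw [← Subgroup.normal_mul, ← Subgroup.subgroupOf_sup hDΓ hAΓ, Subgroup.subgroupOf_self]
  rfl

/-- `A` normalises `D` with coprime orders; if `A` fixes the coset `x D` then some
`d * x⁻¹` with `d ∈ D` normalises `A`. -/
theorem exists_conj_smul_eq_of_coset_fixed [Finite G] {A D : Subgroup G}
    (hAD : A ≤ Subgroup.normalizer (D : Set G))
    (hcop : (Nat.card A).Coprime (Nat.card D))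
    (hsolv : Group.IsSolvable A ∨ Group.IsSolvable D)
    (x : G) (hx : ∀ a ∈ A, x⁻¹ * a * x * a⁻¹ ∈ D) :
    ∃ d ∈ D, MulAut.conj (d * x⁻¹) • A = A := by
  have hdisjA : Disjoint D A := Subgroup.disjoint_of_coprime_natCard hcop.symm
  obtain ⟨hDn, hcA⟩ := isComplement'_subgroupOf_sup hAD hdisjA
  set Γ : Subgroup G := D ⊔ A with hΓ
  have hDΓ : D ≤ Γ := le_sup_left
  have hAΓ : A ≤ Γ := le_sup_right
  set B : Subgroup G := MulAut.conj x⁻¹ • A with hB
  have hBΓ : B ≤ Γ := by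
    intro b hb
    rw [hB, Subgroup.mem_pointwise_smul_iff_inv_smul_mem] at hb
    have hb' : x * b * x⁻¹ ∈ A := by simpa using hb
    have h1 := hx _ hb'
    have h2 : b = (x⁻¹ * (x * b * x⁻¹) * x * (x * b * x⁻¹)⁻¹) * (x * b * x⁻¹) := by group
    rw [h2]
    exact Γ.mul_mem (hDΓ h1) (hAΓ hb')
  have hBcard : Nat.card B = Nat.card A := card_conj_smul x⁻¹ A
  have hdisjB : Disjoint D B := Subgroup.disjoint_of_coprime_natCard (hBcard ▸ hcop.symm)
  have hcB : Subgroup.IsComplement' (D.subgroupOf Γ) (B.subgroupOf Γ) := by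
    apply Subgroup.isComplement'_of_card_mul_and_disjoint _ (disjoint_subgroupOf _ hdisjB)
    rw [card_subgroupOf_of_le hBΓ, hBcard, ← card_subgroupOf_of_le hAΓ]
    exact hcA.card_mul_card
  have hcop' : (Nat.card (D.subgroupOf Γ)).Coprime (Nat.card (B.subgroupOf Γ)) := by
    rw [card_subgroupOf_of_le hDΓ, card_subgroupOf_of_le hBΓ, hBcard]; exact hcop.symm
  have hsolv' : Group.IsSolvable (D.subgroupOf Γ) ∨ Group.IsSolvable (B.subgroupOf Γ) := by
    rcases hsolv with h | h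
    · right
      have : Group.IsSolvable B := isSolvable_conj_smul x⁻¹ A
      exact isSolvable_subgroupOf B Γ
    · exact Or.inl (isSolvable_subgroupOf D Γ)
  obtain ⟨d, hd, hconj⟩ := sz_conj_mem (D.subgroupOf Γ) (B.subgroupOf Γ) (A.subgroupOf Γ)
    hcB hcA hcop' hsolv'
  have h3 := conj_smul_of_subgroupOf hBΓ hAΓ d hconj
  refine ⟨d, Subgroup.mem_subgroupOf.mp hd, ?_⟩
  rw [map_mul, mul_smul]
  exact h3


theorem isSolvable_of_le {H K : Subgroup G} (h : H ≤ K) [hK : Group.IsSolvable K] :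
    Group.IsSolvable H :=
  Group.isSolvable_of_isSolvable_injective (Subgroup.inclusion_injective h)

/-- Coprime action: fixed points pass to quotients. -/
theorem coprime_fixed_points_quotient [Finite G] (A K : Subgroup G)
    (hAK : A ≤ Subgroup.normalizer (K : Set G))
    (hcop : (Nat.card A).Coprime (Nat.card K)) (hsolv : Group.IsSolvable A ∨ Group.IsSolvable K)
    (N : Subgroup G) (hNK : N ≤ K) (hNnormal : K ≤ Subgroup.normalizer (N : Set G))
    (hNA : A ≤ Subgroup.normalizer (N : Set G))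
    (k : G) (hk : k ∈ K) (hfix : ∀ a ∈ A, a * k * a⁻¹ * k⁻¹ ∈ N) :
    ∃ c ∈ K ⊓ Subgroup.centralizer (A : Set G), k⁻¹ * c ∈ N := by
  have hcopN : (Nat.card A).Coprime (Nat.card N) :=
    Nat.Coprime.coprime_dvd_right (Subgroup.card_dvd_of_le hNK) hcop
  have hsolvN : Group.IsSolvable A ∨ Group.IsSolvable N := by
    rcases hsolv with h | h
    · exact Or.inl h
    · exact Or.inr (isSolvable_of_le hNK)
  have hx : ∀ a ∈ A, k⁻¹ * a * k * a⁻¹ ∈ N := by
    intro a ha
    have h1 := hfix a ha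
    have h2 : k⁻¹ * (a * k * a⁻¹ * k⁻¹) * k⁻¹⁻¹ ∈ N :=
      (Subgroup.mem_normalizer_iff.mp (hNnormal (K.inv_mem hk)) _).mp h1
    have e : k⁻¹ * a * k * a⁻¹ = k⁻¹ * (a * k * a⁻¹ * k⁻¹) * k⁻¹⁻¹ := by group
    rw [e]; exact h2
  obtain ⟨d, hd, hconj⟩ := exists_conj_smul_eq_of_coset_fixed hNA hcopN hsolvN k hx
  have hdisj : Disjoint A K := Subgroup.disjoint_of_coprime_natCard hcop
  have hdk : d * k⁻¹ ∈ K := K.mul_mem (hNK hd) (K.inv_mem hk)
  have hcent := mem_centralizer_of_conj_smul_eq hAK hdisj hdk hconj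
  refine ⟨(d * k⁻¹)⁻¹, ⟨K.inv_mem hdk, Subgroup.inv_mem _ hcent⟩, ?_⟩
  have e : k⁻¹ * (d * k⁻¹)⁻¹ = d⁻¹ := by group
  rw [e]; exact N.inv_mem hd


theorem le_normalizer_inf {A X Y : Subgroup G} (hX : A ≤ Subgroup.normalizer (X : Set G))
    (hY : A ≤ Subgroup.normalizer (Y : Set G)) :
    A ≤ Subgroup.normalizer ((X ⊓ Y : Subgroup G) : Set G) := by
  intro a ha
  rw [Subgroup.mem_normalizer_iff]
  intro z
  have h1 := Subgroup.mem_normalizer_iff.mp (hX ha) z
  have h2 := Subgroup.mem_normalizer_iff.mp (hY ha) z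
  simp only [Subgroup.mem_inf]
  rw [h1, h2]

/-- Coprime action: fixed points of a product of invariant subgroups factor. -/
theorem coprime_fixed_points_mul [Finite G] (A K : Subgroup G)
    (hAK : A ≤ Subgroup.normalizer (K : Set G))
    (hcop : (Nat.card A).Coprime (Nat.card K)) (hsolv : Group.IsSolvable A ∨ Group.IsSolvable K)
    (X Y : Subgroup G) (hX : X ≤ K) (_hY : Y ≤ K) (hXA : A ≤ Subgroup.normalizer (X : Set G))
    (hYA : A ≤ Subgroup.normalizer (Y : Set G))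
    (k : G) (hkC : k ∈ Subgroup.centralizer (A : Set G))
    (x y : G) (hx : x ∈ X) (hy : y ∈ Y) (hk : k = x * y) :
    ∃ x ∈ X ⊓ Subgroup.centralizer (A : Set G), ∃ y ∈ Y ⊓ Subgroup.centralizer (A : Set G),
      k = x * y := by
  set D : Subgroup G := X ⊓ Y with hD
  have hDK : D ≤ K := inf_le_left.trans hX
  have hDA : A ≤ Subgroup.normalizer (D : Set G) := le_normalizer_inf hXA hYA
  have hcopD : (Nat.card A).Coprime (Nat.card D) :=
    Nat.Coprime.coprime_dvd_right (Subgroup.card_dvd_of_le hDK) hcop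
  have hsolvD : Group.IsSolvable A ∨ Group.IsSolvable D := by
    rcases hsolv with h | h
    · exact Or.inl h
    · exact Or.inr (isSolvable_of_le hDK)
  have hfix : ∀ a ∈ A, x⁻¹ * a * x * a⁻¹ ∈ D := by
    intro a ha
    have hak : a * k = k * a := (Subgroup.mem_centralizer_iff.mp hkC a ha)
    have h1 : a * x * a⁻¹ ∈ X := (Subgroup.mem_normalizer_iff.mp (hXA ha) x).mp hx
    have h2 : a * y⁻¹ * a⁻¹ ∈ Y := (Subgroup.mem_normalizer_iff.mp (hYA ha) y⁻¹).mp (Y.inv_mem hy)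
    have e1 : x⁻¹ * a * x * a⁻¹ = x⁻¹ * (a * x * a⁻¹) := by group
    have e2 : x⁻¹ * a * x * a⁻¹ = y * (a * y⁻¹ * a⁻¹) := by
      have : a * x * y = x * y * a := by rw [mul_assoc, ← hk, hak]
      have h3 : a * x = x * y * a * y⁻¹ := by rw [← this]; group
      calc x⁻¹ * a * x * a⁻¹ = x⁻¹ * (a * x) * a⁻¹ := by group
        _ = x⁻¹ * (x * y * a * y⁻¹) * a⁻¹ := by rw [h3]
        _ = y * (a * y⁻¹ * a⁻¹) := by group
    refine ⟨?_, ?_⟩
    · rw [e1]; exact X.mul_mem (X.inv_mem hx) h1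
    · rw [e2]; exact Y.mul_mem hy h2
  obtain ⟨d, hd, hconj⟩ := exists_conj_smul_eq_of_coset_fixed hDA hcopD hsolvD x hfix
  have hdisj : Disjoint A K := Subgroup.disjoint_of_coprime_natCard hcop
  have hdxX : d * x⁻¹ ∈ X := X.mul_mem hd.1 (X.inv_mem hx)
  have hcent := mem_centralizer_of_conj_smul_eq hAK hdisj (hX hdxX) hconj
  have hcent' : (d * x⁻¹)⁻¹ ∈ Subgroup.centralizer (A : Set G) := Subgroup.inv_mem _ hcent
  refine ⟨(d * x⁻¹)⁻¹, ⟨X.inv_mem hdxX, hcent'⟩, d * y, ⟨Y.mul_mem hd.2 hy, ?_⟩, ?_⟩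
  · have e : d * y = (d * x⁻¹) * k := by rw [hk]; group
    rw [e]; exact Subgroup.mul_mem _ hcent hkC
  · rw [hk]; group


open scoped commutatorElement in
/-- Coprime action: `K = [K, A] C_K(A)`. -/
theorem coprime_commutator_sup_centralizer [Finite G] (A K : Subgroup G)
    (hAK : A ≤ Subgroup.normalizer (K : Set G))
    (hcop : (Nat.card A).Coprime (Nat.card K)) (hsolv : Group.IsSolvable A ∨ Group.IsSolvable K) :
    ⁅K, A⁆ ⊔ (K ⊓ Subgroup.centralizer (A : Set G)) = K := by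
  have hle : ⁅K, A⁆ ≤ K := Subgroup.le_normalizer_iff_commutator_le_left.mp hAK
  apply le_antisymm (sup_le hle inf_le_left)
  intro k hk
  have hfix : ∀ a ∈ A, a * k * a⁻¹ * k⁻¹ ∈ ⁅K, A⁆ := by
    intro a ha
    rw [Subgroup.commutator_comm]
    exact Subgroup.commutator_mem_commutator ha hk
  obtain ⟨c, hc, hkc⟩ := coprime_fixed_points_quotient A K hAK hcop hsolv ⁅K, A⁆ hle
    (Subgroup.normalizer_commutator_ge_left K A) (Subgroup.normalizer_commutator_ge_right K A)
    k hk hfix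
  have e : k = c * (k⁻¹ * c)⁻¹ := by group
  rw [e, sup_comm]
  exact Subgroup.mul_mem_sup hc (Subgroup.inv_mem _ hkc)

open scoped commutatorElement in
/-- Coprime action: `[K, A, A] = [K, A]`. -/
theorem coprime_commutator_commutator [Finite G] (A K : Subgroup G)
    (hAK : A ≤ Subgroup.normalizer (K : Set G))
    (hcop : (Nat.card A).Coprime (Nat.card K)) (hsolv : Group.IsSolvable A ∨ Group.IsSolvable K) :
    ⁅⁅K, A⁆, A⁆ = ⁅K, A⁆ := by
  have hle : ⁅K, A⁆ ≤ K := Subgroup.le_normalizer_iff_commutator_le_left.mp hAK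
  apply le_antisymm
  · exact Subgroup.le_normalizer_iff_commutator_le_left.mp
      (Subgroup.normalizer_commutator_ge_right K A)
  · rw [Subgroup.commutator_le]
    intro k hk a ha
    have hfix : ∀ a ∈ A, a * k⁻¹ * a⁻¹ * k⁻¹⁻¹ ∈ ⁅K, A⁆ := by
      intro a ha
      rw [Subgroup.commutator_comm]
      exact Subgroup.commutator_mem_commutator ha (K.inv_mem hk)
    obtain ⟨c, hc, hkc⟩ := coprime_fixed_points_quotient A K hAK hcop hsolv ⁅K, A⁆ hle
      (Subgroup.normalizer_commutator_ge_left K A) (Subgroup.normalizer_commutator_ge_right K A)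
      k⁻¹ (K.inv_mem hk) hfix
    rw [inv_inv] at hkc
    have hca : a * c = c * a := Subgroup.mem_centralizer_iff.mp hc.2 a ha
    have e : ⁅k, a⁆ = ⁅k * c, a⁆ := by
      rw [commutatorElement_def, commutatorElement_def]
      have h1 : k * c * a * (k * c)⁻¹ = k * (c * a) * c⁻¹ * k⁻¹ := by group
      rw [h1, ← hca]; group
    rw [e]
    exact Subgroup.commutator_mem_commutator hkc ha

end Cfsg.Agent.Lib.Helper1
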