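import Mathlib
import Cfsg.Prelude.Def_Transfer
set_option autoImplicit false
open Pointwise

namespace Cfsg.Agent.Lib.Helper1

universe u

variable {G : Type u} [Group G]

/-- A normal complement to a Sylow `p`-subgroup consists exactly of the `p'`-elements. -/
theorem mem_normal_complement_iff [Finite G] {p : ℕ} [Fact p.Prime]
    (P : Sylow p G) (N : Subgroup G) [N.Normal] (hN : N.IsComplement' (P : Subgroup G)) (x : G) :
    x ∈ N ↔ Nat.Coprime (orderOf x) p := by
  have hp : p.Prime := Fact.out
  have hcardN : Nat.card N = (P : Subgroup G).index := hN.index_eq_card.symm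
  have hidxN : N.index = Nat.card P := hN.symm.index_eq_card
  constructor
  · intro hx
    have h1 : orderOf x ∣ Nat.card N := by
      have := orderOf_dvd_natCard (⟨x, hx⟩ : N)
      rwa [← Subgroup.orderOf_coe] at this
    have h2 : Nat.Coprime (Nat.card N) p := by
      rw [Nat.coprime_comm, hp.coprime_iff_not_dvd, hcardN]
      exact P.not_dvd_index
    exact Nat.Coprime.coprime_dvd_left h1 h2
  · intro hx
    rw [← QuotientGroup.eq_one_iff, ← orderOf_eq_one_iff]
    have h1 : orderOf (x : G ⧸ N) ∣ orderOf x := orderOf_dvd_of_pow_eq_one (by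
      rw [← QuotientGroup.mk_pow, pow_orderOf_eq_one]; rfl)
    have h2 : orderOf (x : G ⧸ N) ∣ Nat.card P := by
      rw [← hidxN, Subgroup.index]
      exact orderOf_dvd_natCard _
    obtain ⟨k, hk⟩ := P.2.exists_card_eq
    rw [hk] at h2
    have h3 : Nat.Coprime (orderOf (x : G ⧸ N)) (p ^ k) :=
      (Nat.Coprime.coprime_dvd_left h1 hx).pow_right k
    exact Nat.eq_one_of_dvd_coprimes h3 dvd_rfl h2

/-- A normal `p`-complement is a complement to every Sylow `p`-subgroup. -/
theorem isComplement'_sylow_of_isComplement'_sylow [Finite G] {p : ℕ} [Fact p.Prime]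
    (P P' : Sylow p G) (N : Subgroup G) (hN : N.IsComplement' (P' : Subgroup G)) :
    N.IsComplement' (P : Subgroup G) := by
  have hp : p.Prime := Fact.out
  have hcard : Nat.card (P : Subgroup G) = Nat.card (P' : Subgroup G) := by
    rw [Sylow.card_eq_multiplicity, Sylow.card_eq_multiplicity]
  apply Subgroup.isComplement'_of_coprime
  · rw [hcard]; exact hN.card_mul_card
  · obtain ⟨k, hk⟩ := P.2.exists_card_eq
    rw [hk]
    apply Nat.Coprime.pow_right
    rw [Nat.coprime_comm, hp.coprime_iff_not_dvd, ← hN.index_eq_card]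
    exact P'.not_dvd_index

theorem hasNormalPComplement_iff [Finite G] {p : ℕ} [Fact p.Prime] (P : Sylow p G) :
    Cfsg.HasNormalPComplement p G ↔ ∃ N : Subgroup G, N.Normal ∧ N.IsComplement' (P : Subgroup G) := by
  constructor
  · rintro ⟨P', N, hNn, hN⟩
    exact ⟨N, hNn, isComplement'_sylow_of_isComplement'_sylow P P' N hN⟩
  · rintro ⟨N, hNn, hN⟩
    exact ⟨P, N, hNn, hN⟩

/-- Burnside's normal `p`-complement theorem. -/
theorem hasNormalPComplement_of_normalizer_le_centralizer [Finite G] {p : ℕ} [Fact p.Prime]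
    (P : Sylow p G) (h : Subgroup.normalizer (P : Set G) ≤ Subgroup.centralizer (P : Set G)) :
    Cfsg.HasNormalPComplement p G :=
  ⟨P, (MonoidHom.transferSylow P h).ker, inferInstance, MonoidHom.ker_transferSylow_isComplement' P h⟩

/-- If `G` has a normal `p`-complement `N` and `P` is a Sylow `p`-subgroup, then
`N_G(P) = (N ∩ N_G(P)) × P` with `N ∩ N_G(P)` centralizing `P`. -/
theorem normalizer_sylow_splits_of_normal_complement [Finite G] {p : ℕ} [Fact p.Prime]
    (P : Sylow p G) (N : Subgroup G) [hNn : N.Normal] (hN : N.IsComplement' (P : Subgroup G)) :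
    N ⊓ Subgroup.normalizer (P : Set G) ≤ Subgroup.centralizer (P : Set G) ∧
    (N ⊓ Subgroup.normalizer (P : Set G)) ⊓ (P : Subgroup G) = ⊥ ∧
    (N ⊓ Subgroup.normalizer (P : Set G)) ⊔ (P : Subgroup G) = Subgroup.normalizer (P : Set G) := by
  have hdisj : N ⊓ (P : Subgroup G) = ⊥ := hN.disjoint.eq_bot
  refine ⟨?_, ?_, ?_⟩
  · rintro q ⟨hqN, hqn⟩
    rw [Subgroup.mem_centralizer_iff]
    intro x hx
    have hxP : x ∈ (P : Subgroup G) := hx
    have h1 : q * x * q⁻¹ * x⁻¹ ∈ (P : Subgroup G) := by
      have hq : q ∈ Subgroup.normalizer ((P : Subgroup G) : Set G) := hqn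
      exact (P : Subgroup G).mul_mem ((Subgroup.mem_normalizer_iff.mp hq x).mp hxP)
        ((P : Subgroup G).inv_mem hxP)
    have h2 : q * x * q⁻¹ * x⁻¹ ∈ N := by
      have := N.mul_mem hqN (hNn.conj_mem q⁻¹ (N.inv_mem hqN) x)
      have e : q * (x * q⁻¹ * x⁻¹) = q * x * q⁻¹ * x⁻¹ := by group
      rwa [e] at this
    have h3 : q * x * q⁻¹ * x⁻¹ ∈ N ⊓ (P : Subgroup G) := ⟨h2, h1⟩
    rw [hdisj, Subgroup.mem_bot] at h3
    have : q * x = x * q := by
      have := congrArg (fun t => t * x * q) h3
      simpa [mul_assoc] using this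
    exact this.symm
  · rw [eq_bot_iff, ← hdisj]
    exact inf_le_inf_right _ inf_le_left
  · apply le_antisymm
    · exact sup_le inf_le_right Subgroup.le_normalizer
    · intro n hn
      have hmul : (N : Set G) * ((P : Subgroup G) : Set G) = Set.univ :=
        hN.mul_eq
      have hn' : n ∈ (N : Set G) * ((P : Subgroup G) : Set G) := by rw [hmul]; trivial
      obtain ⟨a, ha, b, hb, hab⟩ := Set.mem_mul.mp hn'
      have hbn : b ∈ Subgroup.normalizer (P : Set G) := Subgroup.le_normalizer hb
      have han : a ∈ Subgroup.normalizer (P : Set G) := by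
        have : a = n * b⁻¹ := by rw [← hab]; group
        rw [this]
        exact Subgroup.mul_mem _ hn (Subgroup.inv_mem _ hbn)
      rw [← hab]
      exact Subgroup.mul_mem _ (Subgroup.mem_sup_left ⟨ha, han⟩) (Subgroup.mem_sup_right hb)

end Cfsg.Agent.Lib.Helper1
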