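import Mathlib
import Cfsg.Prelude.Def_Solvable

set_option autoImplicit false
open Pointwise

namespace Cfsg.Agent.Lib.Helper1

variable {G : Type*} [Group G]

theorem pCore_normal (p : ℕ) : (Cfsg.pCore p G).Normal :=
  Subgroup.sSup_normal _ (fun _ h => h.1)

theorem pCore_isPGroup (p : ℕ) [Fact p.Prime] [Finite G] : IsPGroup p (Cfsg.pCore p G) :=
  Sylow.sSup_of_normal _ (fun _ h => h.2) (fun _ h => h.1)

theorem le_pCore {p : ℕ} {N : Subgroup G} (hN : N.Normal) (hp : IsPGroup p N) :
    N ≤ Cfsg.pCore p G := le_sSup ⟨hN, hp⟩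

theorem iInf_sylow_normal (p : ℕ) : (⨅ P : Sylow p G, (P : Subgroup G)).Normal := by
  constructor
  intro n hn g
  rw [Subgroup.mem_iInf] at hn ⊢
  intro Q
  have := hn (g⁻¹ • Q)
  rw [Sylow.coe_subgroup_smul, Subgroup.mem_pointwise_smul_iff_inv_smul_mem] at this
  simpa using this

theorem pCore_eq_iInf_sylow (p : ℕ) [Fact p.Prime] [Finite G] :
    Cfsg.pCore p G = ⨅ P : Sylow p G, (P : Subgroup G) := by
  apply le_antisymm
  · apply le_iInf
    intro P
    have := pCore_normal (G := G) p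
    exact (pCore_isPGroup p).le_sylow_of_normal P
  · apply le_pCore (iInf_sylow_normal p)
    exact (default : Sylow p G).isPGroup'.to_le (iInf_le _ _)

theorem pCore_le_sylow (p : ℕ) [Fact p.Prime] [Finite G] (P : Sylow p G) :
    Cfsg.pCore p G ≤ P := by
  rw [pCore_eq_iInf_sylow]; exact iInf_le _ P

end Cfsg.Agent.Lib.Helper1
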