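import Mathlib
import Cfsg.Agent.Lib.Helper1.PCore
set_option autoImplicit false
open Pointwise

namespace Cfsg.Agent.Lib.Helper1

variable {G : Type*} [Group G]

/-- A subgroup containing a Sylow `p`-subgroup for every prime `p` is the whole group. -/
theorem eq_top_of_forall_sylow_le [Finite G] (H : Subgroup G)
    (h : ∀ (p : ℕ) [Fact p.Prime], ∃ P : Sylow p G, (P : Subgroup G) ≤ H) : H = ⊤ := by
  apply Subgroup.eq_top_of_le_card
  apply Nat.le_of_dvd Nat.card_pos
  rw [← Nat.factorization_prime_le_iff_dvd Nat.card_pos.ne' Nat.card_pos.ne']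
  intro p hp
  have := Fact.mk hp
  obtain ⟨P, hP⟩ := h p
  have h1 : Nat.card P = p ^ (Nat.card G).factorization p := P.card_eq_multiplicity
  have h2 : Nat.card P ∣ Nat.card H := Subgroup.card_dvd_of_le hP
  rw [h1] at h2
  exact (hp.pow_dvd_iff_le_factorization Nat.card_pos.ne').mp h2

theorem pCore_eq_bot_of_not_dvd [Finite G] (p : ℕ) [hp : Fact p.Prime] (h : ¬ p ∣ Nat.card G) :
    Cfsg.pCore p G = ⊥ := by
  have h1 := pCore_isPGroup (G := G) p
  obtain ⟨n, hn⟩ := IsPGroup.iff_card.mp h1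
  have h2 : Nat.card (Cfsg.pCore p G) ∣ Nat.card G := Subgroup.card_subgroup_dvd_card _
  rcases Nat.eq_zero_or_pos n with h0 | h0
  · rw [h0, pow_zero] at hn
    exact Subgroup.card_eq_one.mp hn
  · exfalso
    apply h
    refine dvd_trans ?_ h2
    rw [hn]
    exact dvd_pow_self p h0.ne'

theorem iSup_pCore_isNilpotent [Finite G] :
    Group.IsNilpotent (⨆ p : Nat.Primes, Cfsg.pCore (p : ℕ) G : Subgroup G) := by
  classical
  let ι := {p : ℕ // p ∈ (Nat.card G).primeFactors}
  let H : ι → Subgroup G := fun p => Cfsg.pCore (p : ℕ) G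
  have hprime : ∀ i : ι, Fact (i : ℕ).Prime := fun i => ⟨Nat.prime_of_mem_primeFactors i.2⟩
  have hcomm : Pairwise fun i j : ι => ∀ x y : G, x ∈ H i → y ∈ H j → Commute x y := by
    intro i j hij x y hx hy
    have := hprime i
    have := hprime j
    apply Subgroup.commute_of_normal_of_disjoint (H i) (H j) (pCore_normal _) (pCore_normal _) _ x y hx hy
    apply IsPGroup.disjoint_of_ne (i : ℕ) (j : ℕ) (fun h => hij (Subtype.ext h)) _ _
      (pCore_isPGroup _) (pCore_isPGroup _)
  have hnil : ∀ i : ι, Group.IsNilpotent (H i) := by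
    intro i
    have := hprime i
    exact (pCore_isPGroup (i : ℕ)).isNilpotent
  have hrange : (Subgroup.noncommPiCoprod hcomm).range = ⨆ i : ι, H i :=
    Subgroup.noncommPiCoprod_range
  have hsup : (⨆ p : Nat.Primes, Cfsg.pCore (p : ℕ) G : Subgroup G) = ⨆ i : ι, H i := by
    apply le_antisymm
    · apply iSup_le
      intro p
      by_cases hp : (p : ℕ) ∣ Nat.card G
      · exact le_iSup H ⟨p, Nat.mem_primeFactors.mpr ⟨p.2, hp, Nat.card_pos.ne'⟩⟩
      · have : Fact (p : ℕ).Prime := ⟨p.2⟩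
        rw [pCore_eq_bot_of_not_dvd _ hp]
        exact bot_le
    · apply iSup_le
      intro i
      exact le_iSup (fun p : Nat.Primes => Cfsg.pCore (p : ℕ) G) ⟨i, Nat.prime_of_mem_primeFactors i.2⟩
  rw [hsup, ← hrange]
  exact Group.nilpotent_of_surjective (Subgroup.noncommPiCoprod hcomm).rangeRestrict
    (Subgroup.noncommPiCoprod hcomm).rangeRestrict_surjective


theorem le_iSup_pCore_of_normal_of_isNilpotent [Finite G] (N : Subgroup G) [hN : N.Normal]
    (hnil : Group.IsNilpotent N) : N ≤ ⨆ p : Nat.Primes, Cfsg.pCore (p : ℕ) G := by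
  -- the subgroup of N generated by (preimage of) the pCores is everything
  have key : (⨆ p : Nat.Primes, Cfsg.pCore (p : ℕ) G).subgroupOf N = ⊤ := by
    apply eq_top_of_forall_sylow_le
    intro p hp
    let P : Sylow p N := default
    refine ⟨P, ?_⟩
    have hPn : (P : Subgroup N).Normal := inferInstance
    have hPc : (P : Subgroup N).Characteristic := Sylow.characteristic_of_normal P hPn
    have hPG : ((P : Subgroup N).map N.subtype).Normal := ConjAct.normal_of_characteristic_of_normal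
    have hPp : IsPGroup p ((P : Subgroup N).map N.subtype) := P.isPGroup'.map _
    have h1 : (P : Subgroup N).map N.subtype ≤ Cfsg.pCore p G := le_pCore hPG hPp
    have h2 : Cfsg.pCore p G ≤ ⨆ p : Nat.Primes, Cfsg.pCore (p : ℕ) G :=
      le_iSup (fun p : Nat.Primes => Cfsg.pCore (p : ℕ) G) ⟨p, hp.out⟩
    intro x hx
    rw [Subgroup.mem_subgroupOf]
    exact h2 (h1 (Subgroup.mem_map_of_mem _ hx))
  rwa [Subgroup.subgroupOf_eq_top] at key

theorem fittingSubgroup_eq_iSup_pCore [Finite G] :
    Cfsg.fittingSubgroup G = ⨆ p : Nat.Primes, Cfsg.pCore (p : ℕ) G := by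
  apply le_antisymm
  · apply sSup_le
    rintro N ⟨hN, hnil⟩
    exact le_iSup_pCore_of_normal_of_isNilpotent N hnil
  · apply iSup_le
    intro p
    have : Fact (p : ℕ).Prime := ⟨p.2⟩
    exact le_sSup ⟨pCore_normal _, (pCore_isPGroup (p : ℕ)).isNilpotent⟩

theorem fittingSubgroup_isNilpotent [Finite G] : Group.IsNilpotent (Cfsg.fittingSubgroup G) := by
  rw [fittingSubgroup_eq_iSup_pCore]
  exact iSup_pCore_isNilpotent

theorem fittingSubgroup_normal : (Cfsg.fittingSubgroup G).Normal :=
  Subgroup.sSup_normal _ (fun _ h => h.1)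

theorem le_fittingSubgroup {N : Subgroup G} (hN : N.Normal) (hnil : Group.IsNilpotent N) :
    N ≤ Cfsg.fittingSubgroup G := le_sSup ⟨hN, hnil⟩

end Cfsg.Agent.Lib.Helper1
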