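import Mathlib
import Cfsg.Prelude.Def_Solvable
import Cfsg.Agent.Lib.Helper1.Fitting
import Cfsg.Agent.Lib.Helper1.PCore
open Pointwise

set_option autoImplicit false

namespace Cfsg.Agent.Lib.Helper1

universe u

variable {G : Type u} [Group G]

theorem isNilpotent_of_commutator_commutator_eq_bot (D : Subgroup G) (h : ⁅⁅D, D⁆, D⁆ = ⊥) :
    Group.IsNilpotent D := by
  rw [Subgroup.isNilpotent_iff_lowerCentralSeries]
  exact ⟨2, h⟩

/-- iterated commutator subgroups of a subgroup, inside `G` -/
def derivedIn (C : Subgroup G) : ℕ → Subgroup G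
  | 0 => C
  | n + 1 => ⁅derivedIn C n, derivedIn C n⁆

theorem derivedIn_normal (C : Subgroup G) [hC : C.Normal] (n : ℕ) : (derivedIn C n).Normal := by
  induction n with
  | zero => exact hC
  | succ n ih =>
    have := ih
    exact Subgroup.commutator_normal _ _

theorem derivedIn_le_derivedSeries (C : Subgroup G) (n : ℕ) : derivedIn C n ≤ derivedSeries G n := by
  induction n with
  | zero => exact le_top
  | succ n ih => exact Subgroup.commutator_mono ih ih

theorem derivedIn_le (C : Subgroup G) [hC : C.Normal] (n : ℕ) : derivedIn C n ≤ C := by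
  induction n with
  | zero => exact le_rfl
  | succ n ih =>
    have : ⁅derivedIn C n, derivedIn C n⁆ ≤ ⁅C, C⁆ := Subgroup.commutator_mono ih ih
    exact this.trans (Subgroup.commutator_le_left C C)

theorem centralizer_fittingSubgroup_le [Finite G] [hs : Group.IsSolvable G] :
    Subgroup.centralizer (Cfsg.fittingSubgroup G : Set G) ≤ Cfsg.fittingSubgroup G := by
  classical
  set F := Cfsg.fittingSubgroup G with hF
  have hFn : F.Normal := fittingSubgroup_normal
  set C := Subgroup.centralizer (F : Set G) with hC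
  have hCn : C.Normal := Subgroup.normal_centralizer
  by_contra hCF
  obtain ⟨n, hn⟩ := hs.solvable
  have hex : ∃ i, derivedIn C i ≤ F := ⟨n, by
    have := derivedIn_le_derivedSeries C n
    rw [hn] at this
    exact this.trans bot_le⟩
  have hmin : ∀ {m : ℕ}, m < Nat.find hex → ¬ derivedIn C m ≤ F := fun h => Nat.find_min hex h
  have hspec := Nat.find_spec hex
  set i := Nat.find hex with hi
  have hi0 : i ≠ 0 := by
    intro h0
    rw [h0] at hspec
    exact hCF hspec
  obtain ⟨j, hj⟩ := Nat.exists_eq_succ_of_ne_zero hi0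
  have hjF : ¬ derivedIn C j ≤ F := hmin (by rw [hj]; exact Nat.lt_succ_self j)
  set D := derivedIn C j with hD
  have hDn : D.Normal := derivedIn_normal C j
  have hDC : D ≤ C := derivedIn_le C j
  have hDD : ⁅D, D⁆ ≤ F := by
    rw [hj] at hspec
    exact hspec
  apply hjF
  apply le_fittingSubgroup hDn
  apply isNilpotent_of_commutator_commutator_eq_bot
  rw [eq_bot_iff]
  calc ⁅⁅D, D⁆, D⁆ ≤ ⁅F, C⁆ := Subgroup.commutator_mono hDD hDC
    _ = ⊥ := by
      rw [Subgroup.commutator_comm, Subgroup.commutator_eq_bot_iff_le_centralizer]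


theorem pPrimeCore_normal (p : ℕ) : (Cfsg.pPrimeCore p G).Normal :=
  Subgroup.sSup_normal _ (fun _ h => h.1)

theorem le_pPrimeCore {p : ℕ} {N : Subgroup G} (hN : N.Normal) (hp : (Nat.card N).Coprime p) :
    N ≤ Cfsg.pPrimeCore p G := le_sSup ⟨hN, hp⟩

theorem pCore_le_pPrimeCore [Finite G] {p q : ℕ} [hp : Fact p.Prime] [hq : Fact q.Prime]
    (hpq : q ≠ p) : Cfsg.pCore q G ≤ Cfsg.pPrimeCore p G := by
  apply le_pPrimeCore (pCore_normal q)
  obtain ⟨k, hk⟩ := IsPGroup.iff_card.mp (pCore_isPGroup (G := G) q)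
  rw [hk]
  exact Nat.Coprime.pow_left k ((Nat.coprime_primes hq.out hp.out).mpr hpq)

theorem fittingSubgroup_eq_pCore_of_pPrimeCore_eq_bot [Finite G] (p : ℕ) [hp : Fact p.Prime]
    (h : Cfsg.pPrimeCore p G = ⊥) : Cfsg.fittingSubgroup G = Cfsg.pCore p G := by
  rw [fittingSubgroup_eq_iSup_pCore]
  apply le_antisymm
  · apply iSup_le
    intro q
    have : Fact (q : ℕ).Prime := ⟨q.2⟩
    by_cases hqp : (q : ℕ) = p
    · rw [hqp]
    · have := pCore_le_pPrimeCore (G := G) (p := p) (q := q) hqp
      rw [h] at this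
      exact this.trans bot_le
  · exact le_iSup (fun q : Nat.Primes => Cfsg.pCore (q : ℕ) G) ⟨p, hp.out⟩

theorem centralizer_pCore_le [Finite G] [Group.IsSolvable G] (p : ℕ) [Fact p.Prime]
    (h : Cfsg.pPrimeCore p G = ⊥) :
    Subgroup.centralizer (Cfsg.pCore p G : Set G) ≤ Cfsg.pCore p G := by
  rw [← fittingSubgroup_eq_pCore_of_pPrimeCore_eq_bot p h]
  exact centralizer_fittingSubgroup_le

end Cfsg.Agent.Lib.Helper1
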