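import Mathlib

set_option autoImplicit false
open Pointwise
open scoped commutatorElement

namespace Cfsg.Agent.Lib.Helper1


/-- A maximal subgroup of a finite `p`-group has index `p`. -/
theorem index_eq_prime_of_isCoatom {G : Type*} [Group G] [Finite G] (p : ℕ) [hp : Fact p.Prime]
    (hG : IsPGroup p G) (M : Subgroup G) (hM : IsCoatom M) : M.index = p := by
  obtain ⟨a, ha⟩ := IsPGroup.iff_card.mp hG
  obtain ⟨b, hb⟩ := IsPGroup.iff_card.mp (hG.to_subgroup M)
  have hba : b < a := by
    by_contra hcon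
    push Not at hcon
    apply hM.1
    apply Subgroup.eq_top_of_le_card
    rw [ha, hb]
    exact Nat.pow_le_pow_right hp.out.pos hcon
  have hdvd : p ^ (b + 1) ∣ Nat.card G := by
    rw [ha]; exact pow_dvd_pow p hba
  obtain ⟨K, hK, hMK⟩ := Sylow.exists_subgroup_card_pow_succ hdvd hb
  have hlt : M < K := by
    refine lt_of_le_of_ne hMK ?_
    intro h
    rw [← h, hb] at hK
    have := Nat.pow_right_injective hp.out.two_le hK
    omega
  have hKtop : K = ⊤ := hM.2 K hlt
  rw [hKtop, Subgroup.card_top] at hK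
  have := M.card_mul_index
  rw [hK, hb, pow_succ] at this
  exact Nat.eq_of_mul_eq_mul_left (pow_pos hp.out.pos b) this

theorem normal_of_isCoatom_of_isPGroup {G : Type*} [Group G] [Finite G] (p : ℕ) [hp : Fact p.Prime]
    (hG : IsPGroup p G) (M : Subgroup G) (hM : IsCoatom M) : M.Normal := by
  have hnil : Group.IsNilpotent G := hG.isNilpotent
  have h02 : Group.IsNilpotent G ↔ ∀ H : Subgroup G, IsCoatom H → H.Normal :=
    (Group.isNilpotent_of_finite_tfae (G := G)).out 0 2
  exact h02.mp hnil M hM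

theorem commutator_le_frattini_of_isPGroup {G : Type*} [Group G] [Finite G] (p : ℕ) [Fact p.Prime]
    (hG : IsPGroup p G) : commutator G ≤ frattini G := by
  unfold frattini Order.radical
  apply le_iInf
  intro M
  apply le_iInf
  intro hM
  have hMn := normal_of_isCoatom_of_isPGroup p hG M hM
  have hidx := index_eq_prime_of_isCoatom p hG M hM
  rw [← Subgroup.Normal.quotient_commutative_iff_commutator_le]
  have hcard : Nat.card (G ⧸ M) = p := hidx
  have hcyc : IsCyclic (G ⧸ M) := isCyclic_of_prime_card hcard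
  exact ⟨⟨IsCyclic.commGroup.mul_comm⟩⟩

theorem pow_prime_mem_frattini_of_isPGroup {G : Type*} [Group G] [Finite G] (p : ℕ) [Fact p.Prime]
    (hG : IsPGroup p G) (x : G) : x ^ p ∈ frattini G := by
  unfold frattini Order.radical
  rw [Subgroup.mem_iInf]
  intro M
  rw [Subgroup.mem_iInf]
  intro hM
  have hMn := normal_of_isCoatom_of_isPGroup p hG M hM
  have hidx := index_eq_prime_of_isCoatom p hG M hM
  have hcard : Nat.card (G ⧸ M) = p := hidx
  rw [← QuotientGroup.eq_one_iff, QuotientGroup.mk_pow, ← hcard]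
  exact pow_card_eq_one'



theorem normal_of_commutator_le {G : Type*} [Group G] {M : Subgroup G}
    (h : commutator G ≤ M) : M.Normal := by
  constructor
  intro m hm g
  have h1 : g * m * g⁻¹ * m⁻¹ ∈ M := by
    apply h
    rw [commutator_def]
    have : g * m * g⁻¹ * m⁻¹ = ⁅g, m⁆ := by rw [commutatorElement_def]
    rw [this]
    exact Subgroup.commutator_mem_commutator (Subgroup.mem_top g) (Subgroup.mem_top m)
  have : g * m * g⁻¹ = g * m * g⁻¹ * m⁻¹ * m := by group
  rw [this]
  exact M.mul_mem h1 hm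

/-- If `G/N` is elementary abelian, every element outside `N` avoids some maximal subgroup
containing `N`. -/
theorem exists_coatom_not_mem {G : Type*} [Group G] [Finite G] (p : ℕ) [hp : Fact p.Prime]
    (N : Subgroup G) (hcomm : commutator G ≤ N) (hpow : ∀ x : G, x ^ p ∈ N)
    (x : G) (hx : x ∉ N) : ∃ M : Subgroup G, IsCoatom M ∧ N ≤ M ∧ x ∉ M := by
  let S : Set (Subgroup G) := {M | N ≤ M ∧ x ∉ M}
  have hS : S.Finite := Set.toFinite S
  obtain ⟨M, hNM, hMmax⟩ := hS.exists_le_maximal (show N ∈ S from ⟨le_rfl, hx⟩)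
  have hMS : M ∈ S := hMmax.prop
  refine ⟨M, ⟨?_, ?_⟩, hMS.1, hMS.2⟩
  · intro h
    apply hMS.2
    rw [h]; exact Subgroup.mem_top x
  · intro K hMK
    have hxK : x ∈ K := by
      by_contra hxK
      have hKS : K ∈ S := ⟨hMS.1.trans hMK.le, hxK⟩
      exact hMK.not_ge (hMmax.le_of_ge hKS hMK.le)
    rw [eq_top_iff]
    intro g _
    by_cases hgM : g ∈ M
    · exact hMK.le hgM
    have hMn : M.Normal := normal_of_commutator_le (hcomm.trans hMS.1)
    have hlt : M < M ⊔ Subgroup.zpowers g := by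
      refine lt_of_le_of_ne le_sup_left ?_
      intro h
      apply hgM
      rw [h]
      exact (le_sup_right : Subgroup.zpowers g ≤ _) (Subgroup.mem_zpowers g)
    have hxM' : x ∈ M ⊔ Subgroup.zpowers g := by
      by_contra hxK
      have hKS : M ⊔ Subgroup.zpowers g ∈ S := ⟨hMS.1.trans le_sup_left, hxK⟩
      exact hlt.not_ge (hMmax.le_of_ge hKS hlt.le)
    rw [← SetLike.mem_coe, Subgroup.normal_mul] at hxM'
    obtain ⟨m, hm, y, hy, hxy⟩ := hxM'
    obtain ⟨i, rfl⟩ := Subgroup.mem_zpowers_iff.mp hy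
    have hgi : g ^ i ∈ K := by
      have : g ^ i = m⁻¹ * x := by rw [← hxy]; group
      rw [this]
      exact K.mul_mem (K.inv_mem (hMK.le hm)) hxK
    have hgp : g ^ (p : ℤ) ∈ K := by
      rw [zpow_natCast]
      exact hMK.le (hMS.1 (hpow g))
    have hcop : IsCoprime i (p : ℤ) := by
      rw [isCoprime_comm, (Nat.prime_iff_prime_int.mp hp.out).coprime_iff_not_dvd]
      rintro ⟨j, rfl⟩
      apply hMS.2
      rw [← hxy]
      apply M.mul_mem hm
      rw [zpow_mul, zpow_natCast]
      exact M.zpow_mem (hMS.1 (hpow g)) j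
    obtain ⟨a, b, hab⟩ := hcop
    have : g = (g ^ i) ^ a * (g ^ (p : ℤ)) ^ b := by
      rw [← zpow_mul, ← zpow_mul, ← zpow_add, mul_comm i a, mul_comm (p : ℤ) b, hab, zpow_one]
    rw [this]
    exact K.mul_mem (K.zpow_mem hgi a) (K.zpow_mem hgp b)

theorem frattini_le_of_elementary_quotient {G : Type*} [Group G] [Finite G] (p : ℕ) [Fact p.Prime]
    (N : Subgroup G) (hcomm : commutator G ≤ N) (hpow : ∀ x : G, x ^ p ∈ N) :
    frattini G ≤ N := by
  intro x hx
  by_contra hxN
  obtain ⟨M, hM, -, hxM⟩ := exists_coatom_not_mem p N hcomm hpow x hxN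
  exact hxM (frattini_le_coatom hM hx)

end Cfsg.Agent.Lib.Helper1
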