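import Mathlib
import Cfsg.Agent.Lib.Helper1.SZHelpers
open Pointwise

set_option autoImplicit false

namespace Cfsg.Agent.Lib.Helper1

universe u

variable {G : Type u} [Group G]

theorem relIndex_mul_card_inf [Finite G] (T H : Subgroup G) :
    T.relIndex H * Nat.card (T ⊓ H : Subgroup G) = Nat.card H := by
  have h1 := (T.subgroupOf H).index_mul_card
  have h2 : Nat.card (T.subgroupOf H) = Nat.card (T ⊓ H : Subgroup G) := by
    rw [← Subgroup.inf_subgroupOf_right, card_subgroupOf_of_le inf_le_right]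
  rw [h2] at h1
  exact h1

theorem relIndex_eq_relIndex_sup_of_normal [Finite G] (T H : Subgroup G) [H.Normal] :
    T.relIndex H = T.relIndex (T ⊔ H) := by
  have h1 : Nat.card (T ⊔ H : Subgroup G) = Nat.card H * H.relIndex T := by
    rw [← Subgroup.relIndex_bot_left, ← Subgroup.relIndex_bot_left,
      ← Subgroup.relIndex_sup_right T H]
    exact (Subgroup.relIndex_mul_relIndex (H := ⊥) (K := H) (L := T ⊔ H) bot_le le_sup_right).symm
  have h2 := relIndex_mul_card_inf T H
  have h3 := relIndex_mul_card_inf H T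
  rw [inf_comm] at h3
  have h4 := relIndex_mul_card_inf T (T ⊔ H)
  rw [inf_of_le_left le_sup_left] at h4
  have hpos : 0 < Nat.card (T ⊓ H : Subgroup G) := Nat.card_pos
  have hposT : 0 < Nat.card T := Nat.card_pos
  -- T.relIndex (T ⊔ H) * |T| = |H| * H.relIndex T
  have h5 : T.relIndex (T ⊔ H) * Nat.card T = Nat.card H * H.relIndex T := by rw [h4, h1]
  have h6 : T.relIndex (T ⊔ H) * Nat.card (T ⊓ H : Subgroup G) * Nat.card T =
      T.relIndex H * Nat.card (T ⊓ H : Subgroup G) * Nat.card T := by
    calc T.relIndex (T ⊔ H) * Nat.card (T ⊓ H : Subgroup G) * Nat.card T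
        = (T.relIndex (T ⊔ H) * Nat.card T) * Nat.card (T ⊓ H : Subgroup G) := by ring
      _ = Nat.card H * (H.relIndex T * Nat.card (T ⊓ H : Subgroup G)) := by rw [h5]; ring
      _ = Nat.card H * Nat.card T := by rw [h3]
      _ = T.relIndex H * Nat.card (T ⊓ H : Subgroup G) * Nat.card T := by rw [h2]
  have h7 := Nat.eq_of_mul_eq_mul_right hposT h6
  exact (Nat.eq_of_mul_eq_mul_right hpos h7).symm

theorem not_dvd_relIndex_of_isSubnormal [Finite G] (p : ℕ) [Fact p.Prime] (S : Sylow p G)
    {H : Subgroup G} (hH : H.IsSubnormal) : ¬ p ∣ (S : Subgroup G).relIndex H := by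
  induction hH with
  | top =>
    rw [Subgroup.relIndex_top_right]
    exact S.not_dvd_index
  | step H K hHK hKsn hHn ih =>
    intro hdvd
    apply ih
    have h1 : (S : Subgroup G).relIndex H =
        ((S : Subgroup G).subgroupOf K).relIndex (H.subgroupOf K) :=
      (Subgroup.relIndex_subgroupOf hHK).symm
    rw [h1, relIndex_eq_relIndex_sup_of_normal] at hdvd
    exact hdvd.trans (Subgroup.relIndex_dvd_index_of_le le_sup_left)

theorem subnormal_inf_sylow [Finite G] (p : ℕ) [Fact p.Prime] (H : Subgroup G)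
    (hH : H.IsSubnormal) (S : Sylow p G) :
    ∃ Q : Sylow p H, (Q : Subgroup H) = (S : Subgroup G).subgroupOf H := by
  have hp : IsPGroup p ((S : Subgroup G).subgroupOf H) := by
    have h1 : IsPGroup p ((S : Subgroup G) ⊓ H : Subgroup G) := S.2.to_le inf_le_left
    rw [← Subgroup.inf_subgroupOf_right]
    exact h1.of_equiv (Subgroup.subgroupOfEquivOfLe inf_le_right).symm
  exact ⟨hp.toSylow (not_dvd_relIndex_of_isSubnormal p S hH), IsPGroup.toSylow_coe _ _⟩

end Cfsg.Agent.Lib.Helper1
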