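import Mathlib
import Cfsg.Prelude.Def_PLocal

/-! Elementary abelian subgroups and the Thompson subgroup: basics. -/
set_option autoImplicit false
universe u v
open Cfsg
open scoped commutatorElement

namespace Cfsg.Agent.Lib.Helper1

variable {G : Type u} [Group G] {p : ℕ}

theorem isElementaryAbelian_bot (p : ℕ) : IsElementaryAbelian p (⊥ : Subgroup G) := by
  refine ⟨inferInstance, ?_⟩
  intro a ha
  rw [Subgroup.mem_bot] at ha
  rw [ha, one_pow]

theorem isElementaryAbelian_comm {A : Subgroup G} (hA : IsElementaryAbelian p A) {x y : G}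
    (hx : x ∈ A) (hy : y ∈ A) : x * y = y * x := by
  have := hA.1
  exact congrArg Subtype.val (mul_comm' (⟨x, hx⟩ : A) ⟨y, hy⟩)

theorem isElementaryAbelian_iff {A : Subgroup G} :
    IsElementaryAbelian p A ↔ (∀ x ∈ A, ∀ y ∈ A, x * y = y * x) ∧ ∀ a ∈ A, a ^ p = 1 := by
  constructor
  · intro h
    exact ⟨fun x hx y hy => isElementaryAbelian_comm h hx hy, h.2⟩
  · intro h
    exact ⟨⟨⟨fun x y => Subtype.ext (h.1 x x.2 y y.2)⟩⟩, h.2⟩

theorem isElementaryAbelian_mono {A B : Subgroup G} (hA : IsElementaryAbelian p A) (h : B ≤ A) :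
    IsElementaryAbelian p B := by
  rw [isElementaryAbelian_iff] at hA ⊢
  exact ⟨fun x hx y hy => hA.1 x (h hx) y (h hy), fun a ha => hA.2 a (h ha)⟩

theorem isElementaryAbelian_isPGroup {A : Subgroup G}
    (hA : IsElementaryAbelian p A) : IsPGroup p A := by
  intro a
  refine ⟨1, ?_⟩
  apply Subtype.ext
  rw [pow_one]
  exact hA.2 a a.2

theorem isElementaryAbelian_map {H : Type v} [Group H] {A : Subgroup G}
    (hA : IsElementaryAbelian p A) (f : G →* H) : IsElementaryAbelian p (A.map f) := by
  rw [isElementaryAbelian_iff]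
  constructor
  · rintro _ ⟨x, hx, rfl⟩ _ ⟨y, hy, rfl⟩
    rw [← map_mul, ← map_mul, isElementaryAbelian_comm hA hx hy]
  · rintro _ ⟨x, hx, rfl⟩
    rw [← map_pow, hA.2 x hx, map_one]

theorem isElementaryAbelian_comap_of_injective {H : Type v} [Group H] {A : Subgroup G}
    (hA : IsElementaryAbelian p A) (f : H →* G) (hf : Function.Injective f) :
    IsElementaryAbelian p (A.comap f) := by
  rw [isElementaryAbelian_iff]
  constructor
  · intro x hx y hy
    apply hf
    rw [map_mul, map_mul]
    exact isElementaryAbelian_comm hA hx hy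
  · intro x hx
    apply hf
    rw [map_pow, map_one]
    exact hA.2 _ hx

theorem isElementaryAbelian_sup_of_le_centralizer {A B : Subgroup G}
    (hA : IsElementaryAbelian p A) (hB : IsElementaryAbelian p B)
    (h : B ≤ Subgroup.centralizer (A : Set G)) : IsElementaryAbelian p (A ⊔ B) := by
  have hAA : A ≤ Subgroup.centralizer (A : Set G) := by
    intro x hx
    rw [Subgroup.mem_centralizer_iff]
    intro y hy
    exact isElementaryAbelian_comm hA hy hx
  have hBB : B ≤ Subgroup.centralizer (B : Set G) := by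
    intro x hx
    rw [Subgroup.mem_centralizer_iff]
    intro y hy
    exact isElementaryAbelian_comm hB hy hx
  have hAB : A ≤ Subgroup.centralizer (B : Set G) := Subgroup.le_centralizer_iff.mp h
  have hle : A ⊔ B ≤ Subgroup.centralizer ((A ⊔ B : Subgroup G) : Set G) := by
    apply sup_le
    · rw [Subgroup.le_centralizer_iff]
      exact sup_le hAA h
    · rw [Subgroup.le_centralizer_iff]
      exact sup_le hAB hBB
  have hcomm : ∀ x ∈ A ⊔ B, ∀ y ∈ A ⊔ B, x * y = y * x := by
    intro x hx y hy
    exact (Subgroup.mem_centralizer_iff.mp (hle hy) x hx)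
  rw [isElementaryAbelian_iff]
  refine ⟨hcomm, ?_⟩
  intro x hx
  rw [Subgroup.sup_eq_closure] at hx
  have hcl : Subgroup.closure ((A : Set G) ∪ B) = A ⊔ B := (Subgroup.sup_eq_closure A B).symm
  induction hx using Subgroup.closure_induction with
  | mem x hx =>
    rcases hx with hx | hx
    · exact hA.2 x hx
    · exact hB.2 x hx
  | one => exact one_pow p
  | mul x y hx hy ihx ihy =>
    rw [hcl] at hx hy
    rw [(show Commute x y from hcomm x hx y hy).mul_pow, ihx, ihy, one_mul]
  | inv x hx ih => rw [inv_pow, ih, inv_one]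

theorem exists_mem_maxElementaryAbelianSubgroups [Finite G] (p : ℕ) :
    ∃ A : Subgroup G, A ∈ maxElementaryAbelianSubgroups p G := by
  let α := {A : Subgroup G // IsElementaryAbelian p A}
  have : Nonempty α := ⟨⟨⊥, isElementaryAbelian_bot p⟩⟩
  obtain ⟨⟨A, hA⟩, hmax⟩ := Finite.exists_max (fun A : α => Nat.card (A.1 : Subgroup G))
  exact ⟨A, hA, fun B hB => hmax ⟨B, hB⟩⟩

theorem le_thompsonSubgroup {A : Subgroup G} (hA : A ∈ maxElementaryAbelianSubgroups p G) :
    A ≤ thompsonSubgroup p G := le_sSup hA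

theorem mem_maxElementaryAbelianSubgroups_map_equiv {H : Type v} [Group H] (e : G ≃* H)
    {A : Subgroup G} (hA : A ∈ maxElementaryAbelianSubgroups p G) :
    A.map e.toMonoidHom ∈ maxElementaryAbelianSubgroups p H := by
  refine ⟨isElementaryAbelian_map hA.1 _, ?_⟩
  intro B hB
  have h1 : Nat.card (A.map e.toMonoidHom) = Nat.card A :=
    Subgroup.card_map_of_injective e.injective
  have h2 : Nat.card (B.map e.symm.toMonoidHom) = Nat.card B :=
    Subgroup.card_map_of_injective e.symm.injective
  rw [h1, ← h2]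
  exact hA.2 _ (isElementaryAbelian_map hB _)

end Cfsg.Agent.Lib.Helper1
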