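import Mathlib
import Cfsg.Prelude.Def_PLocal
import Cfsg.Agent.Lib.Helper1.ThompsonBasic
import Cfsg.Agent.Lib.Helper1.SubnormalSylow
import Cfsg.Agent.Lib.Helper1.PCore

/-! `O_p(G/C_G(V)) = 1` for `V` generated by Sylow fixed points; `Ω₁(Z(S))` closure. -/
set_option autoImplicit false
universe u v
open Cfsg
open scoped commutatorElement Pointwise

namespace Cfsg.Agent.Lib.Helper1

variable {G : Type u} [Group G] {p : ℕ}

/-- If `C ≤ D`, `D` normal, `|D : C|` a power of `p`, and `S` a Sylow `p`-subgroup, then any subgroup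
containing both `C` and `S` contains `D`. -/
theorem le_of_relIndex_prime_pow_of_sylow_le [Finite G] [hp : Fact p.Prime] (S : Sylow p G)
    (C D E : Subgroup G) [D.Normal] (k : ℕ) (hCD : C.relIndex D = p ^ k) (hCE : C ≤ E)
    (hSE : (S : Subgroup G) ≤ E) : D ≤ E := by
  rw [← Subgroup.relIndex_eq_one]
  have h1 : E.relIndex D ∣ p ^ k := by
    rw [← hCD]; exact Subgroup.relIndex_dvd_of_le_left D hCE
  have h2 : E.relIndex D ∣ (S : Subgroup G).index := by
    refine (Subgroup.relIndex_dvd_of_le_left D hSE).trans ?_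
    rw [relIndex_eq_relIndex_sup_of_normal]
    exact Subgroup.relIndex_dvd_index_of_le le_sup_left
  have h3 : Nat.Coprime (p ^ k) (S : Subgroup G).index :=
    Nat.Coprime.pow_left _ ((Nat.Prime.coprime_iff_not_dvd hp.out).mpr S.not_dvd_index)
  exact Nat.eq_one_of_dvd_coprimes h3 h1 h2

theorem pCore_quotient_centralizer_eq_bot [Finite G] [hp : Fact p.Prime] (V : Subgroup G) [V.Normal]
    (hgen : V = ⨆ S : Sylow p G, V ⊓ Subgroup.centralizer ((S : Subgroup G) : Set G)) :
    Cfsg.pCore p (G ⧸ Subgroup.centralizer (V : Set G)) = ⊥ := by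
  obtain ⟨C, hCdef⟩ : ∃ C : Subgroup G, C = Subgroup.centralizer (V : Set G) := ⟨_, rfl⟩
  have hCn : C.Normal := by rw [hCdef]; infer_instance
  let f := QuotientGroup.mk' (Subgroup.centralizer (V : Set G))
  have hf : Function.Surjective f := QuotientGroup.mk'_surjective _
  obtain ⟨D, hDdef⟩ : ∃ D : Subgroup G, D = (Cfsg.pCore p (G ⧸ Subgroup.centralizer (V : Set G))).comap f := ⟨_, rfl⟩
  have hDn : D.Normal := by
    rw [hDdef]
    haveI := pCore_normal (G := G ⧸ Subgroup.centralizer (V : Set G)) p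
    exact Subgroup.Normal.comap inferInstance f
  have hDmap : D.map f = Cfsg.pCore p (G ⧸ Subgroup.centralizer (V : Set G)) := by
    rw [hDdef]; exact Subgroup.map_comap_eq_self_of_surjective hf _
  have hker : (⊥ : Subgroup (G ⧸ Subgroup.centralizer (V : Set G))).comap f = C := by
    rw [hCdef]
    show f.ker = _
    exact QuotientGroup.ker_mk' _
  obtain ⟨k, hk⟩ := (pCore_isPGroup (G := G ⧸ Subgroup.centralizer (V : Set G)) p).exists_card_eq
  have hCD : C.relIndex D = p ^ k := by
    rw [← hker, Subgroup.relIndex_comap, hDmap, Subgroup.relIndex_bot_left, hk]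
  have hDC : D ≤ C := by
    rw [hCdef, Subgroup.le_centralizer_iff]
    calc V = ⨆ S : Sylow p G, V ⊓ Subgroup.centralizer ((S : Subgroup G) : Set G) := hgen
      _ ≤ Subgroup.centralizer (D : Set G) := by
        apply iSup_le
        intro S
        rw [Subgroup.le_centralizer_iff]
        apply le_of_relIndex_prime_pow_of_sylow_le S C D _ k hCD
        · rw [hCdef]
          exact Subgroup.centralizer_le inf_le_left
        · rw [Subgroup.le_centralizer_iff]
          exact inf_le_right
  rw [← hDmap, eq_bot_iff]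
  calc D.map f ≤ C.map f := Subgroup.map_mono hDC
    _ = ⊥ := by
      rw [eq_bot_iff, Subgroup.map_le_iff_le_comap, hker]

theorem omegaOne_mono (p : ℕ) {H K : Subgroup G} (h : H ≤ K) : omegaOne p H ≤ omegaOne p K := by
  apply Subgroup.closure_mono
  rintro x ⟨hx, hxp⟩
  exact ⟨h hx, hxp⟩

theorem omegaOne_le (p : ℕ) (H : Subgroup G) : omegaOne p H ≤ H := by
  unfold omegaOne
  rw [Subgroup.closure_le]
  rintro x ⟨hx, _⟩
  exact hx

theorem isElementaryAbelian_closure (s : Set G) (hcomm : ∀ x ∈ s, ∀ y ∈ s, x * y = y * x)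
    (hpow : ∀ x ∈ s, x ^ p = 1) : IsElementaryAbelian p (Subgroup.closure s) := by
  have hcc := Subgroup.isMulCommutative_closure hcomm
  have hc : ∀ x ∈ Subgroup.closure s, ∀ y ∈ Subgroup.closure s, x * y = y * x := by
    intro x hx y hy
    exact congrArg Subtype.val (mul_comm' (⟨x, hx⟩ : Subgroup.closure s) ⟨y, hy⟩)
  rw [isElementaryAbelian_iff]
  refine ⟨hc, ?_⟩
  intro x hx
  induction hx using Subgroup.closure_induction with
  | mem x hx => exact hpow x hx
  | one => exact one_pow p
  | mul x y hx hy ihx ihy =>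
    rw [(show Commute x y from hc x hx y hy).mul_pow, ihx, ihy, one_mul]
  | inv x hx ih => rw [inv_pow, ih, inv_one]

theorem isElementaryAbelian_omegaOne_center (p : ℕ) (P : Subgroup G) :
    IsElementaryAbelian p (omegaOne p (P ⊓ Subgroup.centralizer (P : Set G))) := by
  apply isElementaryAbelian_closure
  · rintro x ⟨hx, _⟩ y ⟨hy, _⟩
    exact Subgroup.mem_centralizer_iff.mp (Subgroup.mem_inf.mp hy).2 x (Subgroup.mem_inf.mp hx).1
  · rintro x ⟨_, hx⟩
    exact hx

theorem map_conj_omegaOne_center_le (p : ℕ) (g : G) (P : Subgroup G) :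
    (omegaOne p (P ⊓ Subgroup.centralizer (P : Set G))).map (MulAut.conj g).toMonoidHom ≤
      omegaOne p ((MulAut.conj g • P) ⊓ Subgroup.centralizer ((MulAut.conj g • P : Subgroup G) : Set G)) := by
  unfold omegaOne
  rw [MonoidHom.map_closure]
  apply Subgroup.closure_mono
  rintro _ ⟨x, ⟨hx, hxp⟩, rfl⟩
  have hx1 := (Subgroup.mem_inf.mp hx).1
  have hx2 := (Subgroup.mem_inf.mp hx).2
  refine ⟨Subgroup.mem_inf.mpr ⟨Subgroup.smul_mem_pointwise_smul _ _ _ hx1, ?_⟩, ?_⟩
  · rw [Subgroup.mem_centralizer_iff]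
    rintro _ ⟨y, hy, rfl⟩
    have := Subgroup.mem_centralizer_iff.mp hx2 y hy
    show (MulAut.conj g) y * (MulAut.conj g) x = (MulAut.conj g) x * (MulAut.conj g) y
    rw [← map_mul, ← map_mul, this]
  · show ((MulAut.conj g) x) ^ p = 1
    rw [← map_pow, hxp, map_one]

theorem iSup_omegaOne_center_sylow_normal (p : ℕ) :
    (⨆ S : Sylow p G, omegaOne p ((S : Subgroup G) ⊓ Subgroup.centralizer ((S : Subgroup G) : Set G))).Normal := by
  constructor
  intro n hn g
  have h1 : MulAut.conj g n ∈ (⨆ S : Sylow p G, omegaOne p ((S : Subgroup G) ⊓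
      Subgroup.centralizer ((S : Subgroup G) : Set G))).map (MulAut.conj g).toMonoidHom :=
    Subgroup.mem_map_of_mem _ hn
  rw [Subgroup.map_iSup] at h1
  have h2 : (⨆ S : Sylow p G, (omegaOne p ((S : Subgroup G) ⊓
      Subgroup.centralizer ((S : Subgroup G) : Set G))).map (MulAut.conj g).toMonoidHom) ≤
      ⨆ S : Sylow p G, omegaOne p ((S : Subgroup G) ⊓ Subgroup.centralizer ((S : Subgroup G) : Set G)) := by
    apply iSup_le
    intro S
    refine (map_conj_omegaOne_center_le p g S).trans ?_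
    have := le_iSup (fun S : Sylow p G => omegaOne p ((S : Subgroup G) ⊓ Subgroup.centralizer ((S : Subgroup G) : Set G))) (g • S)
    rw [Sylow.coe_subgroup_smul] at this
    exact this
  have h3 := h2 h1
  rw [MulAut.conj_apply] at h3
  exact h3

theorem omegaOne_center_sylow_le [Finite G] [hp : Fact p.Prime]
    (hc : Subgroup.centralizer (Cfsg.pCore p G : Set G) ≤ Cfsg.pCore p G) (S : Sylow p G) :
    omegaOne p ((S : Subgroup G) ⊓ Subgroup.centralizer ((S : Subgroup G) : Set G)) ≤
      omegaOne p (Cfsg.pCore p G ⊓ Subgroup.centralizer (Cfsg.pCore p G : Set G)) := by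
  apply omegaOne_mono
  intro x hx
  have h1 : x ∈ Subgroup.centralizer (Cfsg.pCore p G : Set G) :=
    Subgroup.centralizer_le (pCore_le_sylow p S) (Subgroup.mem_inf.mp hx).2
  exact Subgroup.mem_inf.mpr ⟨hc h1, h1⟩

theorem S0601_aux [Finite G] [hp : Fact p.Prime]
    (hc : Subgroup.centralizer (Cfsg.pCore p G : Set G) ≤ Cfsg.pCore p G) :
    (⨆ S : Sylow p G, Cfsg.omegaOne p (((S : Subgroup G)) ⊓ Subgroup.centralizer ((S : Subgroup G) : Set G))).Normal ∧ Cfsg.IsElementaryAbelian p (⨆ S : Sylow p G, Cfsg.omegaOne p (((S : Subgroup G)) ⊓ Subgroup.centralizer ((S : Subgroup G) : Set G))) ∧ ∀ D : Subgroup G, D.Normal → Subgroup.centralizer ((⨆ S : Sylow p G, Cfsg.omegaOne p (((S : Subgroup G)) ⊓ Subgroup.centralizer ((S : Subgroup G) : Set G)) : Subgroup G) : Set G) ≤ D → (∃ k : ℕ, (Subgroup.centralizer ((⨆ S : Sylow p G, Cfsg.omegaOne p (((S : Subgroup G)) ⊓ Subgroup.centralizer ((S : Subgroup G) : Set G)) : Subgroup G) : Set G)).relIndex D = p ^ k) → D = Subgroup.centralizer ((⨆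 S : Sylow p G, Cfsg.omegaOne p (((S : Subgroup G)) ⊓ Subgroup.centralizer ((S : Subgroup G) : Set G)) : Subgroup G) : Set G) := by
  refine ⟨iSup_omegaOne_center_sylow_normal p, ?_, ?_⟩
  · apply isElementaryAbelian_mono (isElementaryAbelian_omegaOne_center p (Cfsg.pCore p G))
    apply iSup_le
    intro S
    exact omegaOne_center_sylow_le hc S
  · intro D hDn hCD ⟨k, hk⟩
    apply le_antisymm _ hCD
    rw [Subgroup.le_centralizer_iff]
    apply iSup_le
    intro S
    rw [Subgroup.le_centralizer_iff]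
    apply le_of_relIndex_prime_pow_of_sylow_le S _ D _ k hk
    · apply Subgroup.centralizer_le
      exact le_iSup (fun S : Sylow p G => omegaOne p ((S : Subgroup G) ⊓ Subgroup.centralizer ((S : Subgroup G) : Set G))) S
    · rw [Subgroup.le_centralizer_iff]
      exact (omegaOne_le p _).trans inf_le_right

end Cfsg.Agent.Lib.Helper1
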