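import Mathlib
import Cfsg.Prelude.Def_Solvable
import Cfsg.Agent.Lib.Helper1.SZHelpers
open Pointwise

set_option autoImplicit false

namespace Cfsg.Agent.Lib.Helper1

universe u

variable {G : Type u} [Group G]

theorem mem_conj_smul_iff {H : Subgroup G} {g x : G} :
    x ∈ MulAut.conj g • H ↔ g⁻¹ * x * g ∈ H := by
  rw [Subgroup.mem_pointwise_smul_iff_inv_smul_mem]
  simp [MulAut.smul_def]

theorem frobenius_iff_fpf (K H : Subgroup G) [hKn : K.Normal]
    (hc : Subgroup.IsComplement' K H) (hK : K ≠ ⊥) (hH : H ≠ ⊥) :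
    Cfsg.IsFrobeniusComplement H ↔ ∀ h ∈ H, h ≠ 1 → K ⊓ Subgroup.centralizer {h} = ⊥ := by
  have hdisj := hc.disjoint
  constructor
  · rintro ⟨-, -, hF⟩ h hh hh1
    rw [eq_bot_iff]
    intro k hk
    obtain ⟨hkK, hkC⟩ := Subgroup.mem_inf.mp hk
    rw [Subgroup.mem_bot]
    by_contra hk1
    have hkH : k ∉ H := fun hkH => hk1 (Subgroup.disjoint_def.mp hdisj hkK hkH)
    have h1 := hF k hkH
    have hcomm : h * k = k * h := Subgroup.mem_centralizer_iff.mp hkC h rfl
    have h2 : h ∈ H ⊓ MulAut.conj k • H := by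
      refine Subgroup.mem_inf.mpr ⟨hh, ?_⟩
      rw [mem_conj_smul_iff]
      have : k⁻¹ * h * k = h := by rw [mul_assoc, hcomm, inv_mul_cancel_left]
      rw [this]; exact hh
    rw [h1, Subgroup.mem_bot] at h2
    exact hh1 h2
  · intro hfpf
    refine ⟨hH, ?_, ?_⟩
    · intro htop
      rw [htop, disjoint_top] at hdisj
      exact hK hdisj
    · intro g hg
      rw [eq_bot_iff]
      intro x hx
      obtain ⟨hxH, hxg⟩ := Subgroup.mem_inf.mp hx
      rw [Subgroup.mem_bot]
      obtain ⟨k, hk, h₀, hh₀, rfl⟩ := isComplement'_mul_eq hc g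
      rw [mem_conj_smul_iff] at hxg
      -- y := h₀ * (conj) ... let y = k⁻¹ x k ∈ H
      have hy : k⁻¹ * x * k ∈ H := by
        have e : k⁻¹ * x * k = h₀ * ((k * h₀)⁻¹ * x * (k * h₀)) * h₀⁻¹ := by group
        rw [e]; exact H.mul_mem (H.mul_mem hh₀ hxg) (H.inv_mem hh₀)
      set y := k⁻¹ * x * k with hydef
      have hxy : x = k * y * k⁻¹ := by rw [hydef]; group
      have h1 : x * y⁻¹ ∈ K := by
        have e : x * y⁻¹ = k * (y * k⁻¹ * y⁻¹) := by rw [hxy]; group
        rw [e]; exact K.mul_mem hk (hKn.conj_mem _ (K.inv_mem hk) y)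
      have h2 : x * y⁻¹ ∈ H := H.mul_mem hxH (H.inv_mem hy)
      have h3 : x * y⁻¹ = 1 := Subgroup.disjoint_def.mp hdisj h1 h2
      have h4 : x = y := mul_inv_eq_one.mp h3
      by_contra hx1
      have hk1 : k ≠ 1 := by
        intro hk1
        apply hg
        rw [hk1, one_mul]; exact hh₀
      have h5 : k ∈ K ⊓ Subgroup.centralizer {x} := by
        refine Subgroup.mem_inf.mpr ⟨hk, ?_⟩
        rw [Subgroup.mem_centralizer_iff]
        intro z hz
        rw [Set.mem_singleton_iff] at hz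
        rw [hz]
        have : x = k⁻¹ * x * k := by rw [← hydef]; exact h4
        calc x * k = k * (k⁻¹ * x * k) := by group
          _ = k * x := by rw [← this]
      rw [hfpf x hxH hx1, Subgroup.mem_bot] at h5
      exact hk1 h5


/-- An involution acting fixed-point-freely on a finite normal subgroup inverts it, and the
subgroup is abelian. -/
theorem fpf_involution_inverts [Finite G] (K : Subgroup G) [hKn : K.Normal] (s : G)
    (hs2 : s * s = 1) (hfpf : K ⊓ Subgroup.centralizer {s} = ⊥) :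
    (∀ k ∈ K, s * k * s⁻¹ = k⁻¹) ∧ IsMulCommutative K := by
  let φ : K ≃* K := MulAut.conjNormal s
  have hφapp : ∀ k : K, ((φ k : K) : G) = s * k * s⁻¹ := fun k => rfl
  have hφ : MonoidHom.FixedPointFree (φ : K →* K) := by
    intro k hk
    have h1 : s * (k : G) * s⁻¹ = k := by
      have := congrArg Subtype.val hk
      exact this
    have h2 : (k : G) ∈ K ⊓ Subgroup.centralizer {s} := by
      refine Subgroup.mem_inf.mpr ⟨k.2, ?_⟩
      rw [Subgroup.mem_centralizer_iff]
      intro z hz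
      rw [Set.mem_singleton_iff] at hz
      rw [hz]
      calc s * (k : G) = s * k * s⁻¹ * s := by group
        _ = k * s := by rw [h1]
    rw [hfpf, Subgroup.mem_bot] at h2
    exact Subtype.ext h2
  have hinv : Function.Involutive (φ : K →* K) := by
    intro k
    apply Subtype.ext
    show s * (s * (k : G) * s⁻¹) * s⁻¹ = k
    have hs' : s⁻¹ = s := inv_eq_of_mul_eq_one_right hs2
    rw [hs']
    calc s * (s * (k : G) * s) * s = (s * s) * k * (s * s) := by group
      _ = k := by rw [hs2, one_mul, mul_one]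
  have h1 := hφ.coe_eq_inv_of_involutive hinv
  constructor
  · intro k hk
    have := congrFun h1 ⟨k, hk⟩
    exact congrArg Subtype.val this
  · exact ⟨⟨fun a b => (hφ.commute_all_of_involutive hinv a b).eq⟩⟩

theorem frobenius_even_complement [Finite G] (K H : Subgroup G) [hKn : K.Normal]
    (hc : Subgroup.IsComplement' K H) (hK : K ≠ ⊥)
    (hfpf : ∀ h ∈ H, h ≠ 1 → K ⊓ Subgroup.centralizer {h} = ⊥)
    (heven : 2 ∣ Nat.card H) :
    (∃ s ∈ H, orderOf s = 2 ∧ (∀ t ∈ H, orderOf t = 2 → t = s) ∧ ∀ k ∈ K, s * k * s⁻¹ = k⁻¹) ∧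
      IsMulCommutative K := by
  obtain ⟨s', hs'⟩ := exists_prime_orderOf_dvd_card' (G := H) 2 heven
  set s : G := (s' : G) with hsdef
  have hso : orderOf s = 2 := by rw [hsdef, Subgroup.orderOf_coe]; exact hs'
  have hsH : s ∈ H := s'.2
  have hs1 : s ≠ 1 := by
    intro h
    rw [h, orderOf_one] at hso
    norm_num at hso
  have hs2 : s * s = 1 := by
    rw [← sq, ← hso]; exact pow_orderOf_eq_one s
  obtain ⟨hinv, hcomm⟩ := fpf_involution_inverts K s hs2 (hfpf s hsH hs1)
  refine ⟨⟨s, hsH, hso, ?_, hinv⟩, hcomm⟩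
  intro t htH hto
  have ht1 : t ≠ 1 := by
    intro h
    rw [h, orderOf_one] at hto
    norm_num at hto
  have ht2 : t * t = 1 := by
    rw [← sq, ← hto]; exact pow_orderOf_eq_one t
  obtain ⟨hinvt, -⟩ := fpf_involution_inverts K t ht2 (hfpf t htH ht1)
  by_contra hts
  have hst1 : s * t ≠ 1 := by
    intro h
    apply hts
    have : t = s⁻¹ := (inv_eq_of_mul_eq_one_right h).symm
    rw [this, inv_eq_of_mul_eq_one_right hs2]
  have h1 := hfpf (s * t) (H.mul_mem hsH htH) hst1
  apply hK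
  rw [eq_bot_iff, ← h1]
  intro k hk
  refine Subgroup.mem_inf.mpr ⟨hk, ?_⟩
  rw [Subgroup.mem_centralizer_iff]
  intro z hz
  rw [Set.mem_singleton_iff] at hz
  rw [hz]
  have e1 := hinvt k hk
  have e2 := hinv k⁻¹ (K.inv_mem hk)
  rw [inv_inv] at e2
  have : s * t * k * (s * t)⁻¹ = k := by
    calc s * t * k * (s * t)⁻¹ = s * (t * k * t⁻¹) * s⁻¹ := by group
      _ = s * k⁻¹ * s⁻¹ := by rw [e1]
      _ = k := e2
  calc s * t * k = s * t * k * (s * t)⁻¹ * (s * t) := by group
    _ = k * (s * t) := by rw [this]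

end Cfsg.Agent.Lib.Helper1
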