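import Mathlib
set_option autoImplicit false
universe u v w
namespace Cfsg.Agent.Lib.Helper1.QuadSL2

variable {K : Type u} [Field K] {W : Type v} [AddCommGroup W] [Module K W]

/-- quadratic action of a linear automorphism: `(e - 1)^2 = 0` -/
def Quad (e : W ≃ₗ[K] W) : Prop := ∀ w : W, e (e w - w) = e w - w

theorem Quad.apply_apply {e : W ≃ₗ[K] W} (h : Quad e) (w : W) : e (e w) = e w + e w - w := by
  have := h w
  rw [map_sub] at this
  rw [sub_eq_iff_eq_add] at this
  rw [this]; abel

theorem Quad.symm_apply {e : W ≃ₗ[K] W} (h : Quad e) (w : W) : e.symm w = w + w - e w := by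
  apply e.injective
  rw [LinearEquiv.apply_symm_apply, map_sub, map_add, h.apply_apply]
  abel

theorem Quad.pow_apply {e : W ≃ₗ[K] W} (h : Quad e) (n : ℕ) (w : W) :
    (e ^ n) w = w + n • (e w - w) := by
  induction n with
  | zero => simp
  | succ n ih =>
    rw [pow_succ', LinearEquiv.mul_apply, ih, map_add, map_nsmul, h w, succ_nsmul]
    abel

theorem Quad.pow_char {e : W ≃ₗ[K] W} (h : Quad e) (p : ℕ) [CharP K p] : e ^ p = 1 := by
  ext w
  rw [h.pow_apply, LinearEquiv.coe_one, id_eq]
  have : p • (e w - w) = ((p : K)) • (e w - w) := (Nat.cast_smul_eq_nsmul K p _).symm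
  rw [this, CharP.cast_eq_zero, zero_smul, add_zero]

/-- stabilizer of a submodule -/
def stab (U : Submodule K W) : Subgroup (W ≃ₗ[K] W) where
  carrier := {e | U.map (e : W →ₗ[K] W) = U}
  one_mem' := by
    change U.map ((1 : W ≃ₗ[K] W) : W →ₗ[K] W) = U
    ext w
    simp
  mul_mem' := by
    intro e f he hf
    change U.map ((e * f : W ≃ₗ[K] W) : W →ₗ[K] W) = U
    have : ((e * f : W ≃ₗ[K] W) : W →ₗ[K] W) = (e : W →ₗ[K] W).comp (f : W →ₗ[K] W) := rfl
    rw [this, Submodule.map_comp, hf, he]
  inv_mem' := by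
    intro e he
    change U.map ((e⁻¹ : W ≃ₗ[K] W) : W →ₗ[K] W) = U
    have he' : U.map (e : W →ₗ[K] W) = U := he
    conv_lhs => rw [← he']
    ext w
    simp only [Submodule.mem_map, LinearEquiv.coe_coe]
    constructor
    · rintro ⟨_, ⟨u, hu, rfl⟩, rfl⟩
      have : e⁻¹ (e u) = u := e.symm_apply_apply u
      rw [this]; exact hu
    · intro hw
      exact ⟨e w, ⟨w, hw, rfl⟩, e.symm_apply_apply w⟩

theorem mem_stab_iff (U : Submodule K W) (e : W ≃ₗ[K] W) :
    e ∈ stab U ↔ U.map (e : W →ₗ[K] W) = U := Iff.rfl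

theorem mem_stab_of_quad (U : Submodule K W) {e : W ≃ₗ[K] W} (h : Quad e)
    (hU : ∀ u ∈ U, e u ∈ U) : e ∈ stab U := by
  rw [mem_stab_iff]
  apply le_antisymm
  · rintro _ ⟨u, hu, rfl⟩
    exact hU u hu
  · intro u hu
    refine ⟨e.symm u, ?_, e.apply_symm_apply u⟩
    rw [h.symm_apply]
    exact U.sub_mem (U.add_mem hu hu) (hU u hu)

theorem apply_mem_of_mem_stab {U : Submodule K W} {e : W ≃ₗ[K] W} (h : e ∈ stab U) {u : W}
    (hu : u ∈ U) : e u ∈ U := by
  rw [mem_stab_iff] at h
  rw [← h]
  exact ⟨u, hu, rfl⟩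

/-- restriction to an invariant submodule -/
def resHom (U : Submodule K W) : stab U →* (U ≃ₗ[K] U) where
  toFun e := LinearEquiv.ofSubmodules e.1 U U e.2
  map_one' := by
    ext u
    rfl
  map_mul' := by
    intro e f
    ext u
    rfl

@[simp] theorem resHom_apply (U : Submodule K W) (e : stab U) (u : U) :
    ((resHom U e) u : W) = e.1 u := rfl

/-- action on the quotient by an invariant submodule -/
def quotHom (U : Submodule K W) : stab U →* ((W ⧸ U) ≃ₗ[K] (W ⧸ U)) where
  toFun e := Submodule.Quotient.equiv U U e.1 e.2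
  map_one' := by
    ext w
    induction w using Submodule.Quotient.induction_on with
    | _ w => rfl
  map_mul' := by
    intro e f
    ext w
    induction w using Submodule.Quotient.induction_on with
    | _ w => rfl

@[simp] theorem quotHom_apply_mk (U : Submodule K W) (e : stab U) (w : W) :
    (quotHom U e) (Submodule.Quotient.mk w) = Submodule.Quotient.mk (e.1 w) := rfl

/-- an element acting trivially on `U` and on `W / U` is quadratic -/
theorem quad_of_trivial (U : Submodule K W) (e : stab U) (h1 : resHom U e = 1)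
    (h2 : quotHom U e = 1) : Quad e.1 := by
  intro w
  have hw : e.1 w - w ∈ U := by
    have := congrArg (fun f : (W ⧸ U) ≃ₗ[K] (W ⧸ U) => f (Submodule.Quotient.mk w)) h2
    simp only [quotHom_apply_mk, LinearEquiv.coe_one, id_eq] at this
    exact (Submodule.Quotient.eq U).mp this
  have := congrArg (fun f : U ≃ₗ[K] U => ((f ⟨e.1 w - w, hw⟩ : U) : W)) h1
  simpa using this

end Cfsg.Agent.Lib.Helper1.QuadSL2
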