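import Mathlib
set_option autoImplicit false
open Polynomial
universe u v w
namespace Cfsg.Agent.Lib.Helper1.QuadSL2


theorem exists_eigenvector_of_pow {K : Type u} [Field K] [Fintype K] {p : ℕ} [hp : Fact p.Prime]
    [CharP K p] {W : Type v} [AddCommGroup W] [Module K W] [FiniteDimensional K W] [Nontrivial W]
    (f : Module.End K W) (j : ℕ) (hf : f ^ (p ^ j * (Fintype.card K - 1)) = 1) :
    ∃ (μ : K) (v : W), v ≠ 0 ∧ f v = μ • v := by
  have hq : 1 < Fintype.card K := Fintype.one_lt_card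
  have hsplit0 : (X ^ (Fintype.card K) - X : K[X]).Splits := by
    have := Polynomial.splits_X_pow_nat_card_sub_X (K := K)
    rwa [Nat.card_eq_fintype_card] at this
  have hdvd : (X ^ (Fintype.card K - 1) - 1 : K[X]) ∣ X ^ (Fintype.card K) - X := by
    refine ⟨X, ?_⟩
    rw [sub_mul, one_mul, ← pow_succ, Nat.sub_add_cancel hq.le]
  have hne0 : (X ^ (Fintype.card K) - X : K[X]) ≠ 0 := FiniteField.X_pow_card_sub_X_ne_zero K hq
  have hsplit1 : (X ^ (Fintype.card K - 1) - 1 : K[X]).Splits := hsplit0.of_dvd hne0 hdvd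
  have hsplit2 : ((X ^ (Fintype.card K - 1) - 1 : K[X]) ^ (p ^ j)).Splits := hsplit1.pow _
  have hpoly : ((X ^ (Fintype.card K - 1) - 1 : K[X]) ^ (p ^ j)) =
      X ^ (p ^ j * (Fintype.card K - 1)) - 1 := by
    rw [sub_pow_char_pow, one_pow, ← pow_mul, mul_comm]
  have hmonic : (X ^ (Fintype.card K - 1) - 1 : K[X]).Monic :=
    monic_X_pow_sub_C 1 (by omega)
  have hne2 : ((X ^ (Fintype.card K - 1) - 1 : K[X]) ^ (p ^ j)) ≠ 0 := (hmonic.pow _).ne_zero
  have h1 : aeval f ((X ^ (Fintype.card K - 1) - 1 : K[X]) ^ (p ^ j)) = 0 := by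
    rw [hpoly, map_sub, map_pow, aeval_X, hf, map_one, sub_self]
  have h2 : minpoly K f ∣ (X ^ (Fintype.card K - 1) - 1 : K[X]) ^ (p ^ j) := minpoly.dvd _ _ h1
  have h5 : (minpoly K f).Splits := hsplit2.of_dvd hne2 h2
  have hint : IsIntegral K f := Algebra.IsIntegral.isIntegral f
  have h6 : (minpoly K f).degree ≠ 0 := (minpoly.degree_pos hint).ne'
  obtain ⟨μ, hμ⟩ := h5.exists_eval_eq_zero h6
  have h7 : f.HasEigenvalue μ := Module.End.hasEigenvalue_of_isRoot hμ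
  obtain ⟨v, hv⟩ := h7.exists_hasEigenvector
  exact ⟨μ, v, hv.2, hv.apply_eq_smul⟩

end Cfsg.Agent.Lib.Helper1.QuadSL2
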