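import Mathlib
import Cfsg.Agent.Lib.Helper1.QuadSL2a
import Cfsg.Agent.Lib.Helper1.QuadSL2b
set_option autoImplicit false
open Polynomial
universe u v w
namespace Cfsg.Agent.Lib.Helper1.QuadSL2

variable {K : Type u} [Field K] {W : Type v} [AddCommGroup W] [Module K W]

/-- the invariant plane spanned by an eigenvector `v` of `a * b` and `a v` -/
theorem plane_invariant {a b : W ≃ₗ[K] W} (ha : Quad a) (hb : Quad b) {v : W} {μ : K}
    (hv : v ≠ 0) (hμ : (a * b) v = μ • v) :
    a ∈ stab (Submodule.span K {v, a v}) ∧ b ∈ stab (Submodule.span K {v, a v}) := by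
  have hμ0 : μ ≠ 0 := by
    intro h
    rw [h, zero_smul] at hμ
    exact hv ((a * b).map_eq_zero_iff.mp hμ)
  have hvU : v ∈ Submodule.span K {v, a v} := Submodule.subset_span (by simp)
  have havU : a v ∈ Submodule.span K {v, a v} := Submodule.subset_span (by simp)
  have hbv : b v = μ • (v + v - a v) := by
    have h1 : a (b v) = μ • v := hμ
    have h2 : b v = a.symm (μ • v) := by rw [← h1, LinearEquiv.symm_apply_apply]
    rw [h2, map_smul, ha.symm_apply]
  have hbvU : b v ∈ Submodule.span K {v, a v} := by
    rw [hbv]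
    exact Submodule.smul_mem _ _ (Submodule.sub_mem _ (Submodule.add_mem _ hvU hvU) havU)
  have hav : a v = v + v - μ⁻¹ • b v := by
    rw [hbv, smul_smul, inv_mul_cancel₀ hμ0, one_smul]
    abel
  have hbav : b (a v) = b v + b v - μ⁻¹ • (b v + b v - v) := by
    conv_lhs => rw [hav]
    rw [map_sub, map_add, map_smul, hb.apply_apply]
  have hbavU : b (a v) ∈ Submodule.span K {v, a v} := by
    rw [hbav]
    refine Submodule.sub_mem _ (Submodule.add_mem _ hbvU hbvU) (Submodule.smul_mem _ _ ?_)
    exact Submodule.sub_mem _ (Submodule.add_mem _ hbvU hbvU) hvU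
  have haavU : a (a v) ∈ Submodule.span K {v, a v} := by
    rw [ha.apply_apply]
    exact Submodule.sub_mem _ (Submodule.add_mem _ havU havU) hvU
  constructor
  · apply mem_stab_of_quad _ ha
    intro u hu
    have hle : Submodule.span K {v, a v} ≤ (Submodule.span K {v, a v}).comap (a : W →ₗ[K] W) := by
      rw [Submodule.span_le]
      rintro z (rfl | rfl)
      · exact havU
      · exact haavU
    exact hle hu
  · apply mem_stab_of_quad _ hb
    intro u hu
    have hle : Submodule.span K {v, a v} ≤ (Submodule.span K {v, a v}).comap (b : W →ₗ[K] W) := by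
      rw [Submodule.span_le]
      rintro z (rfl | rfl)
      · exact hbvU
      · exact hbavU
    exact hle hu

end Cfsg.Agent.Lib.Helper1.QuadSL2
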