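import Mathlib
import Cfsg.Agent.Lib.Helper1.QuadSL2c
set_option autoImplicit false
open Polynomial
universe u v w
namespace Cfsg.Agent.Lib.Helper1.QuadSL2

variable {K : Type u} [Field K] {W : Type v} [AddCommGroup W] [Module K W]

theorem toEnd_pow (e : W ≃ₗ[K] W) (m : ℕ) :
    ((e ^ m : W ≃ₗ[K] W) : Module.End K W) = ((e : W ≃ₗ[K] W) : Module.End K W) ^ m :=
  map_pow (LinearEquiv.automorphismGroup.toLinearMapMonoidHom (R := K) (M := W)) e m

/-- if both the action on `U` and on `W/U` are `p`-groups, so is the whole action -/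
theorem isPGroup_range_of_res_quot {p : ℕ} [hp : Fact p.Prime] [CharP K p] {Γ : Type w} [Group Γ]
    (U : Submodule K W) (ρ' : Γ →* stab U)
    (h1 : IsPGroup p ((resHom U).comp ρ').range) (h2 : IsPGroup p ((quotHom U).comp ρ').range) :
    IsPGroup p ρ'.range := by
  rintro ⟨_, ⟨g, rfl⟩⟩
  obtain ⟨i, hi⟩ := h1 ⟨_, ⟨g, rfl⟩⟩
  obtain ⟨k, hk⟩ := h2 ⟨_, ⟨g, rfl⟩⟩
  have hi' : resHom U (ρ' g) ^ p ^ i = 1 := by
    have := congrArg Subtype.val hi
    simpa using this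
  have hk' : quotHom U (ρ' g) ^ p ^ k = 1 := by
    have := congrArg Subtype.val hk
    simpa using this
  have e1 : resHom U ((ρ' g) ^ (p ^ i * p ^ k)) = 1 := by
    rw [map_pow, pow_mul, hi', one_pow]
  have e2 : quotHom U ((ρ' g) ^ (p ^ i * p ^ k)) = 1 := by
    rw [map_pow, mul_comm, pow_mul, hk', one_pow]
  have hq := quad_of_trivial U _ e1 e2
  have h3 := hq.pow_char p
  refine ⟨i + k + 1, ?_⟩
  apply Subtype.ext
  apply Subtype.ext
  have : ((ρ' g) ^ (p ^ i * p ^ k)).1 ^ p = ((ρ' g).1) ^ (p ^ (i + k + 1)) := by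
    rw [Subgroup.coe_pow, ← pow_mul, ← pow_add, ← pow_succ]
  rw [this] at h3
  simpa using h3

end Cfsg.Agent.Lib.Helper1.QuadSL2
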