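import Mathlib
import Cfsg.Agent.Lib.Helper1.QuadSL2d
set_option autoImplicit false
open Polynomial
universe u v w
namespace Cfsg.Agent.Lib.Helper1.QuadSL2

variable {K : Type u} [Field K] {W : Type v} [AddCommGroup W] [Module K W]

theorem Quad.eq_one_of_finrank_le_one [FiniteDimensional K W] {e : W ≃ₗ[K] W} (h : Quad e)
    (hd : Module.finrank K W ≤ 1) : e = 1 := by
  ext w
  rw [LinearEquiv.coe_one, id_eq]
  rcases Nat.lt_or_ge (Module.finrank K W) 1 with h0 | h1
  · have h0' : Module.finrank K W = 0 := by omega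
    have : Subsingleton W := Module.finrank_zero_iff.mp h0'
    exact Subsingleton.elim _ _
  · have h1' : Module.finrank K W = 1 := le_antisymm hd h1
    have hnt : Nontrivial W := Module.nontrivial_of_finrank_pos (R := K) (by omega)
    obtain ⟨v, hv⟩ := exists_ne (0 : W)
    have hall := (finrank_eq_one_iff_of_nonzero' v hv).mp h1'
    obtain ⟨c, hc⟩ := hall (e v)
    have hq := h v
    have h1 : e v - v = (c - 1) • v := by rw [sub_smul, one_smul, hc]
    rw [h1, map_smul, ← hc, smul_smul] at hq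
    have hq2 : ((c - 1) * c - (c - 1)) • v = 0 := by
      rw [sub_smul, hq, sub_self]
    rcases smul_eq_zero.mp hq2 with h3 | h3
    · have h4 : (c - 1) * (c - 1) = 0 := by rw [← h3]; ring
      have h5 : c - 1 = 0 := by
        rcases mul_eq_zero.mp h4 with h | h <;> exact h
      have hc1 : c = 1 := by rw [sub_eq_zero] at h5; exact h5
      rw [hc1, one_smul] at hc
      obtain ⟨d, hd'⟩ := hall w
      rw [← hd', map_smul, ← hc]
    · exact absurd h3 hv

theorem units_eq_one_of_pow_char {p : ℕ} [hp : Fact p.Prime] [CharP K p] (u : Kˣ)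
    (h : u ^ p = 1) : u = 1 := by
  have h1 : (u : K) ^ p = 1 := by
    have := congrArg Units.val h
    simpa using this
  have h2 : ((u : K) - 1) ^ p = 0 := by
    rw [sub_pow_char, h1, one_pow, sub_self]
  have h3 : (u : K) - 1 = 0 := pow_eq_zero_iff (hp.out.ne_zero) |>.mp h2
  apply Units.ext
  rw [sub_eq_zero] at h3
  exact h3

theorem exists_sl2_of_finrank_two {p : ℕ} [hp : Fact p.Prime] [CharP K p] {Γ : Type w} [Group Γ]
    (x y : Γ) (hgen : Subgroup.closure {x, y} = ⊤) [FiniteDimensional K W]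
    (hd : Module.finrank K W = 2) (ρ : Γ →* (W ≃ₗ[K] W)) (hx : Quad (ρ x)) (hy : Quad (ρ y))
    (hnp : ¬ IsPGroup p ρ.range) :
    ∃ φ : Γ →* Matrix.SpecialLinearGroup (Fin 2) K, ¬ IsPGroup p φ.range := by
  let B : Module.Basis (Fin 2) K W := Module.finBasisOfFinrankEq K W hd
  let D : Γ →* Kˣ := LinearEquiv.det.comp ρ
  have hDx : D x = 1 := by
    apply units_eq_one_of_pow_char (p := p)
    rw [← map_pow]
    change LinearEquiv.det (ρ (x ^ p)) = 1
    rw [map_pow, hx.pow_char p, map_one]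
  have hDy : D y = 1 := by
    apply units_eq_one_of_pow_char (p := p)
    rw [← map_pow]
    change LinearEquiv.det (ρ (y ^ p)) = 1
    rw [map_pow, hy.pow_char p, map_one]
  have hD : ∀ g : Γ, D g = 1 := by
    intro g
    have hle : Subgroup.closure {x, y} ≤ D.ker := by
      rw [Subgroup.closure_le]
      rintro z (rfl | rfl)
      · exact hDx
      · exact hDy
    rw [hgen] at hle
    exact hle (Subgroup.mem_top g)
  have hdet : ∀ g : Γ, (LinearMap.toMatrix B B ((ρ g : W ≃ₗ[K] W) : W →ₗ[K] W)).det = 1 := by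
    intro g
    rw [LinearMap.det_toMatrix, ← LinearEquiv.coe_det]
    have := hD g
    change LinearEquiv.det (ρ g) = 1 at this
    rw [this]; rfl
  let φ : Γ →* Matrix.SpecialLinearGroup (Fin 2) K :=
    { toFun := fun g => ⟨LinearMap.toMatrix B B ((ρ g : W ≃ₗ[K] W) : W →ₗ[K] W), hdet g⟩
      map_one' := by
        apply Subtype.ext
        change LinearMap.toMatrix B B ((ρ 1 : W ≃ₗ[K] W) : W →ₗ[K] W) = 1
        rw [map_one]
        exact LinearMap.toMatrix_id B
      map_mul' := by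
        intro g₁ g₂
        apply Subtype.ext
        change LinearMap.toMatrix B B ((ρ (g₁ * g₂) : W ≃ₗ[K] W) : W →ₗ[K] W) =
          LinearMap.toMatrix B B ((ρ g₁ : W ≃ₗ[K] W) : W →ₗ[K] W) *
          LinearMap.toMatrix B B ((ρ g₂ : W ≃ₗ[K] W) : W →ₗ[K] W)
        rw [map_mul, ← LinearMap.toMatrix_mul]
        rfl }
  refine ⟨φ, ?_⟩
  intro hφ
  apply hnp
  rintro ⟨_, ⟨g, rfl⟩⟩
  obtain ⟨k, hk⟩ := hφ ⟨_, ⟨g, rfl⟩⟩
  refine ⟨k, ?_⟩
  apply Subtype.ext
  have h1 : φ (g ^ p ^ k) = 1 := by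
    have := congrArg Subtype.val hk
    simpa using this
  have h2 : LinearMap.toMatrix B B ((ρ (g ^ p ^ k) : W ≃ₗ[K] W) : W →ₗ[K] W) = 1 :=
    congrArg Subtype.val h1
  rw [← LinearMap.toMatrix_id B] at h2
  have h3 := (LinearMap.toMatrix B B).injective h2
  change (ρ g) ^ p ^ k = 1
  rw [← map_pow]
  ext w
  have := congrArg (fun f : W →ₗ[K] W => f w) h3
  simpa using this

end Cfsg.Agent.Lib.Helper1.QuadSL2
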