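import Mathlib
import Cfsg.Agent.Lib.Helper1.QuadSL2e
set_option autoImplicit false
open Polynomial
universe u v w
namespace Cfsg.Agent.Lib.Helper1.QuadSL2

theorem exists_hom_sl2_aux {K : Type u} [Field K] [Fintype K] {p : ℕ} [hp : Fact p.Prime]
    [CharP K p] {Γ : Type w} [Group Γ] (x y : Γ) (hgen : Subgroup.closure {x, y} = ⊤) :
    ∀ (n : ℕ) (W : Type v) [AddCommGroup W] [Module K W] [FiniteDimensional K W],
      Module.finrank K W = n → ∀ ρ : Γ →* (W ≃ₗ[K] W), Quad (ρ x) → Quad (ρ y) →
      (∃ j, ρ ((x * y) ^ (p ^ j * (Fintype.card K - 1))) = 1) → ¬ IsPGroup p ρ.range →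
      ∃ φ : Γ →* Matrix.SpecialLinearGroup (Fin 2) K, ¬ IsPGroup p φ.range := by
  intro n
  induction n using Nat.strong_induction_on with
  | _ n ih =>
    intro W _ _ _ hn ρ hx hy hj hnp
    obtain ⟨j, hj⟩ := hj
    have hW : Nontrivial W := by
      by_contra hW
      rw [not_nontrivial_iff_subsingleton] at hW
      apply hnp
      rintro ⟨g, hg⟩
      refine ⟨0, ?_⟩
      apply Subtype.ext
      ext w
      exact Subsingleton.elim _ _
    obtain ⟨μ, v, hv0, hv⟩ := exists_eigenvector_of_pow (p := p)
      ((ρ (x * y) : W ≃ₗ[K] W) : Module.End K W) j (by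
        rw [← toEnd_pow, ← map_pow, hj]; rfl)
    have hv' : (ρ x * ρ y) v = μ • v := by
      rw [← map_mul]; exact hv
    obtain ⟨hxs, hys⟩ := plane_invariant hx hy hv0 hv'
    obtain ⟨U, hU⟩ : ∃ U : Submodule K W, U = Submodule.span K {v, ρ x v} := ⟨_, rfl⟩
    rw [← hU] at hxs hys
    have hvU : v ∈ U := by rw [hU]; exact Submodule.subset_span (by simp)
    have hall : ∀ g : Γ, ρ g ∈ stab U := by
      intro g
      have hle : Subgroup.closure {x, y} ≤ (stab U).comap ρ := by
        rw [Subgroup.closure_le]
        rintro z (rfl | rfl)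
        · exact hxs
        · exact hys
      rw [hgen] at hle
      exact hle (Subgroup.mem_top g)
    let ρ' : Γ →* stab U := ρ.codRestrict (stab U) hall
    have hρ' : ∀ g, (ρ' g : W ≃ₗ[K] W) = ρ g := fun g => rfl
    have hnp' : ¬ IsPGroup p ρ'.range := by
      intro h
      apply hnp
      rintro ⟨_, ⟨g, rfl⟩⟩
      obtain ⟨k, hk⟩ := h ⟨_, ⟨g, rfl⟩⟩
      refine ⟨k, ?_⟩
      apply Subtype.ext
      have := congrArg (fun t : ρ'.range => ((t : stab U) : W ≃ₗ[K] W)) hk
      simpa [hρ'] using this
    have hcases : ¬ IsPGroup p ((resHom U).comp ρ').range ∨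
        ¬ IsPGroup p ((quotHom U).comp ρ').range := by
      by_contra hcon
      push Not at hcon
      exact hnp' (isPGroup_range_of_res_quot U ρ' hcon.1 hcon.2)
    have hquadres : ∀ g : Γ, Quad (ρ g) → Quad ((resHom U).comp ρ' g) := by
      intro g hg u
      apply Subtype.ext
      have := hg (u : W)
      simpa [hρ'] using this
    have hquadquot : ∀ g : Γ, Quad (ρ g) → Quad ((quotHom U).comp ρ' g) := by
      intro g hg w
      induction w using Submodule.Quotient.induction_on with
      | _ w =>
        have := hg w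
        change (quotHom U (ρ' g)) ((quotHom U (ρ' g)) (Submodule.Quotient.mk w) -
          Submodule.Quotient.mk w) = (quotHom U (ρ' g)) (Submodule.Quotient.mk w) -
          Submodule.Quotient.mk w
        rw [quotHom_apply_mk, ← Submodule.Quotient.mk_sub, quotHom_apply_mk, hρ', this]
    rcases hcases with hres | hquot
    · -- the plane
      have hUle : Module.finrank K U ≤ 2 := by
        classical
        have hset : ({v, ρ x v} : Set W) = (({v, ρ x v} : Finset W) : Set W) := by simp
        rw [hU, hset]
        exact le_trans (finrank_span_finset_le_card _) Finset.card_le_two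
      by_cases hU2 : Module.finrank K U = 2
      · exact exists_sl2_of_finrank_two x y hgen hU2 _ (hquadres x hx) (hquadres y hy) hres
      · exfalso
        have hU1 : Module.finrank K U ≤ 1 := by omega
        have h1 := (hquadres x hx).eq_one_of_finrank_le_one hU1
        have h2 := (hquadres y hy).eq_one_of_finrank_le_one hU1
        apply hres
        have hker : ((resHom U).comp ρ').ker = ⊤ := by
          rw [eq_top_iff, ← hgen, Subgroup.closure_le]
          rintro z (rfl | rfl)
          · exact h1
          · exact h2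
        rintro ⟨_, ⟨g, rfl⟩⟩
        refine ⟨0, ?_⟩
        apply Subtype.ext
        have : g ∈ ((resHom U).comp ρ').ker := by rw [hker]; exact Subgroup.mem_top g
        simpa using this
    · -- the quotient
      have hlt : Module.finrank K (W ⧸ U) < n := by
        have h1 := Submodule.finrank_quotient_add_finrank U
        have h2 : 0 < Module.finrank K U := by
          rw [Module.finrank_pos_iff]
          exact ⟨⟨⟨v, hvU⟩, 0, fun h => hv0 (congrArg Subtype.val h)⟩⟩
        omega
      refine ih _ hlt (W ⧸ U) rfl ((quotHom U).comp ρ') (hquadquot x hx) (hquadquot y hy)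
        ⟨j, ?_⟩ hquot
      have h1 : ρ' ((x * y) ^ (p ^ j * (Fintype.card K - 1))) = 1 := Subtype.ext hj
      rw [MonoidHom.comp_apply, h1, map_one]

end Cfsg.Agent.Lib.Helper1.QuadSL2
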