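import Mathlib
import Cfsg.Agent.Lib.Helper1.QuadSL2f
set_option autoImplicit false
universe u v w
namespace Cfsg.Agent.Lib.Helper1.QuadSL2

theorem closure_pair_eq_top {G : Type u} [Group G] (H : Subgroup G) (a b : G)
    (hH : H = Subgroup.closure {a, b}) (ha : a ∈ H) (hb : b ∈ H) :
    Subgroup.closure ({⟨a, ha⟩, ⟨b, hb⟩} : Set H) = ⊤ := by
  apply Subgroup.map_injective H.subtype_injective
  rw [MonoidHom.map_closure, Set.image_pair, ← MonoidHom.range_eq_map, H.range_subtype]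
  exact hH.symm

theorem exists_hom_sl2 {K : Type u} [Field K] [Fintype K] {p : ℕ} [hp : Fact p.Prime]
    [CharP K p] {W : Type v} [AddCommGroup W] [Module K W] [FiniteDimensional K W]
    (H : Subgroup (W ≃ₗ[K] W)) (a b : W ≃ₗ[K] W) (hH : H = Subgroup.closure {a, b})
    (ha : ∀ w : W, a (a w - w) = a w - w) (hb : ∀ w : W, b (b w - w) = b w - w)
    (hnp : ¬ IsPGroup p H)
    (hk : ∃ e k : ℕ, orderOf (a * b) = p ^ e * k ∧ k ∣ Fintype.card K - 1) :
    ∃ φ : H →* Matrix.SpecialLinearGroup (Fin 2) K, ¬ IsPGroup p φ.range := by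
  have haH : a ∈ H := by rw [hH]; exact Subgroup.subset_closure (by simp)
  have hbH : b ∈ H := by rw [hH]; exact Subgroup.subset_closure (by simp)
  have hgen := closure_pair_eq_top H a b hH haH hbH
  obtain ⟨e, k, hek, hkq⟩ := hk
  refine exists_hom_sl2_aux (K := K) (p := p) (⟨a, haH⟩ : H) ⟨b, hbH⟩ hgen _ W rfl H.subtype ha hb
    ⟨e, ?_⟩ ?_
  · change (a * b) ^ (p ^ e * (Fintype.card K - 1)) = 1
    obtain ⟨m, hm⟩ := hkq
    rw [hm, ← mul_assoc, ← hek, pow_mul, pow_orderOf_eq_one, one_pow]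
  · rw [Subgroup.range_subtype]
    exact hnp

end Cfsg.Agent.Lib.Helper1.QuadSL2
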