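import Mathlib
import Cfsg.Agent.Lib.Helper1.QuadSL2g
set_option autoImplicit false
universe u v w
namespace Cfsg.Agent.Lib.Helper1.QuadSL2

variable {K : Type u} [Field K] {A : Type v} [CommGroup A] {Γ : Type w} [Group Γ]

/-- the contragredient representation on `Hom(A, K)` of an action on the abelian group `A` -/
def dualRep (K : Type u) [Field K] (ψ : Γ →* MulAut A) :
    Γ →* ((Additive A →+ K) ≃ₗ[K] (Additive A →+ K)) where
  toFun g :=
    { toFun := fun f => f.comp (MulEquiv.toAdditive (ψ g⁻¹)).toAddMonoidHom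
      invFun := fun f => f.comp (MulEquiv.toAdditive (ψ g)).toAddMonoidHom
      map_add' := by
        intro f₁ f₂
        ext u
        rfl
      map_smul' := by
        intro c f
        ext u
        rfl
      left_inv := by
        intro f
        ext u
        change f (Additive.ofMul (ψ g⁻¹ (ψ g (Additive.toMul u)))) = f u
        rw [map_inv, MulAut.inv_apply, MulEquiv.symm_apply_apply]
        rfl
      right_inv := by
        intro f
        ext u
        change f (Additive.ofMul (ψ g (ψ g⁻¹ (Additive.toMul u)))) = f u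
        rw [map_inv, MulAut.inv_apply, MulEquiv.apply_symm_apply]
        rfl }
  map_one' := by
    ext f u
    change f (Additive.ofMul (ψ (1 : Γ)⁻¹ (Additive.toMul u))) = f u
    rw [inv_one, map_one]
    rfl
  map_mul' := by
    intro g h
    ext f u
    change f (Additive.ofMul (ψ (g * h)⁻¹ (Additive.toMul u))) =
      f (Additive.ofMul (ψ h⁻¹ (ψ g⁻¹ (Additive.toMul u))))
    rw [mul_inv_rev, map_mul]
    rfl

theorem dualRep_apply (ψ : Γ →* MulAut A) (g : Γ) (f : Additive A →+ K) (u : A) :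
    (dualRep K ψ g f) (Additive.ofMul u) = f (Additive.ofMul (ψ g⁻¹ u)) := rfl

/-- quadratic action on `A` gives quadratic action on the dual -/
theorem dualRep_quad (ψ : Γ →* MulAut A) (g : Γ)
    (hq : ∀ u : A, ψ g (ψ g u) * u = ψ g u * ψ g u) : Quad (dualRep K ψ g) := by
  intro f
  refine DFunLike.ext _ _ (fun u => ?_)
  obtain ⟨u, rfl⟩ : ∃ u' : A, Additive.ofMul u' = u := ⟨Additive.toMul u, rfl⟩
  rw [AddMonoidHom.sub_apply, dualRep_apply, AddMonoidHom.sub_apply, dualRep_apply, dualRep_apply]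
  -- f(α⁻² u) - f(α⁻¹ u) = f(α⁻¹ u) - f(u)
  have h1 := hq (ψ g⁻¹ (ψ g⁻¹ u))
  have e1 : ψ g (ψ g⁻¹ (ψ g⁻¹ u)) = ψ g⁻¹ u := by
    rw [map_inv, MulAut.inv_apply, MulEquiv.apply_symm_apply]
  rw [e1] at h1
  have e2 : ψ g (ψ g⁻¹ u) = u := by
    rw [map_inv, MulAut.inv_apply, MulEquiv.apply_symm_apply]
  rw [e2] at h1
  -- h1 : u * α⁻²u = α⁻¹u * α⁻¹u
  have h2 := congrArg (fun t : A => f (Additive.ofMul t)) h1
  simp only [ofMul_mul, map_add] at h2
  rw [sub_eq_sub_iff_add_eq_add]
  rw [add_comm] at h2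
  exact h2

/-- `ψ g` has order dividing `p` when it acts quadratically on a group of exponent `p` -/
theorem pow_eq_one_of_quad {p : ℕ} (hexp : ∀ u : A, u ^ p = 1) (α : MulAut A)
    (hq : ∀ u : A, α (α u) * u = α u * α u) : α ^ p = 1 := by
  have key : ∀ (n : ℕ) (u : A), (α ^ n) u = u * (α u * u⁻¹) ^ n := by
    intro n
    induction n with
    | zero => intro u; simp
    | succ n ih =>
      intro u
      rw [pow_succ', MulAut.mul_apply, ih, map_mul, map_pow, map_mul, map_inv]
      have h1 : α (α u) * (α u)⁻¹ = α u * u⁻¹ := by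
        have := hq u
        rw [mul_inv_eq_iff_eq_mul, mul_assoc, mul_comm u⁻¹, ← mul_assoc, ← this,
          mul_inv_cancel_right]
      rw [h1, pow_succ]
      obtain ⟨c, hc⟩ : ∃ c, c = α u * u⁻¹ := ⟨_, rfl⟩
      rw [← hc]
      have : α u = u * c := by rw [hc, mul_comm (α u), mul_inv_cancel_left]
      rw [this, mul_assoc, mul_comm c]
  ext u
  rw [key, hexp, mul_one]
  rfl

end Cfsg.Agent.Lib.Helper1.QuadSL2
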