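import Mathlib
import Cfsg.Agent.Lib.Helper1.QuadDual1
set_option autoImplicit false
universe u v w
namespace Cfsg.Agent.Lib.Helper1.QuadSL2

theorem exists_hom_ne_zero_module {p : ℕ} [hp : Fact p.Prime] {K : Type u} [Field K] [CharP K p]
    {V : Type v} [AddCommGroup V] [Module (ZMod p) V] (v : V) (hv : v ≠ 0) :
    ∃ f : V →+ K, f v ≠ 0 := by
  have h1 := (Module.forall_dual_apply_eq_zero_iff (ZMod p) v).not.mpr hv
  push Not at h1
  obtain ⟨φ, hφ⟩ := h1
  refine ⟨(ZMod.castHom (dvd_refl p) K).toAddMonoidHom.comp φ.toAddMonoidHom, ?_⟩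
  change (ZMod.castHom (dvd_refl p) K) (φ v) ≠ 0
  rw [Ne, map_eq_zero_iff _ (RingHom.injective _)]
  exact hφ

variable {K : Type u} [Field K] {A : Type v} [CommGroup A] {Γ : Type w} [Group Γ]

theorem exists_hom_ne_zero {p : ℕ} [hp : Fact p.Prime] [CharP K p] (hexp : ∀ u : A, u ^ p = 1)
    (u : A) (hu : u ≠ 1) : ∃ f : Additive A →+ K, f (Additive.ofMul u) ≠ 0 :=
  @exists_hom_ne_zero_module p hp K _ _ (Additive A) _ (AddCommGroup.zmodModule (n := p) (by
    intro x
    apply Additive.toMul.injective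
    rw [toMul_nsmul, toMul_zero]
    exact hexp _)) (Additive.ofMul u) (fun h => hu (Additive.ofMul.injective h))

/-- the dual representation is faithful if `ψ` is -/
theorem dualRep_injective {p : ℕ} [hp : Fact p.Prime] [CharP K p] (hexp : ∀ u : A, u ^ p = 1)
    (ψ : Γ →* MulAut A) (hψ : Function.Injective ψ) : Function.Injective (dualRep K ψ) := by
  rw [injective_iff_map_eq_one]
  intro g hg
  have h1 : ψ g⁻¹ = 1 := by
    ext u
    by_contra hne
    rw [MulAut.one_apply] at hne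
    have hne' : ψ g⁻¹ u * u⁻¹ ≠ 1 := fun h => hne (mul_inv_eq_one.mp h)
    obtain ⟨f, hf⟩ := exists_hom_ne_zero (K := K) hexp _ hne'
    apply hf
    have h2 := congrArg (fun e : (Additive A →+ K) ≃ₗ[K] (Additive A →+ K) =>
      e f (Additive.ofMul u)) hg
    simp only [LinearEquiv.coe_one, id_eq] at h2
    rw [dualRep_apply] at h2
    rw [ofMul_mul, map_add, ofMul_inv, map_neg, h2, add_neg_cancel]
  have h2 : g⁻¹ = 1 := hψ (by rw [h1, map_one])
  exact inv_eq_one.mp h2

end Cfsg.Agent.Lib.Helper1.QuadSL2
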