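import Mathlib
import Cfsg.Agent.Lib.Helper5.SL2Cyclic
set_option autoImplicit false
open Matrix
universe u
namespace Cfsg.Agent.Lib.Helper1.SL2Odd

open Cfsg.Agent.Lib.Helper5.SL2Cyclic

variable {K : Type u} [Field K]

local notation "SL2" => Matrix.SpecialLinearGroup (Fin 2) K

theorem cayley_sl (x : SL2) :
    (x : Matrix (Fin 2) (Fin 2) K) * (x : Matrix (Fin 2) (Fin 2) K) =
      (x : Matrix (Fin 2) (Fin 2) K).trace • (x : Matrix (Fin 2) (Fin 2) K) - 1 := by
  rw [cayley2, x.det_coe, one_smul]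

/-- `-1` is the only involution of `SL_2(K)` in characteristic not two -/
theorem eq_neg_one_of_sq_eq_one (h2 : (2 : K) ≠ 0) (g : SL2) (hg : g * g = 1) (hg1 : g ≠ 1) :
    (g : Matrix (Fin 2) (Fin 2) K) = -1 := by
  have hm : (g : Matrix (Fin 2) (Fin 2) K) * (g : Matrix (Fin 2) (Fin 2) K) = 1 := by
    rw [← Matrix.SpecialLinearGroup.coe_mul, hg]; rfl
  have hc := cayley_sl g
  rw [hm] at hc
  -- t • g = 2
  set t := (g : Matrix (Fin 2) (Fin 2) K).trace with ht
  have h1 : t • (g : Matrix (Fin 2) (Fin 2) K) = (2 : K) • (1 : Matrix (Fin 2) (Fin 2) K) := by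
    rw [two_smul]
    rw [eq_sub_iff_add_eq] at hc
    exact hc.symm
  have ht0 : t ≠ 0 := by
    intro h0
    rw [h0, zero_smul] at h1
    have := congrFun (congrFun h1 0) 0
    simp at this
    exact h2 this.symm
  have h3 : (g : Matrix (Fin 2) (Fin 2) K) = (t⁻¹ * 2) • (1 : Matrix (Fin 2) (Fin 2) K) := by
    rw [mul_smul, ← h1, smul_smul, inv_mul_cancel₀ ht0, one_smul]
  set c := t⁻¹ * 2 with hc'
  have hdet := g.det_coe
  rw [h3, det_smul, det_one, mul_one, Fintype.card_fin] at hdet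
  have hc2 : (c - 1) * (c + 1) = 0 := by linear_combination hdet
  rcases mul_eq_zero.mp hc2 with h | h
  · exfalso
    apply hg1
    apply Subtype.ext
    rw [h3, sub_eq_zero.mp h, one_smul]; rfl
  · rw [h3, eq_neg_of_add_eq_zero_left h, neg_smul, one_smul]

/-- powers of `x` lie in the span of `1` and `x` -/
theorem pow_mem_span (x : SL2) (k : ℕ) : ∃ α β : K,
    ((x ^ k : SL2) : Matrix (Fin 2) (Fin 2) K) =
      α • (1 : Matrix (Fin 2) (Fin 2) K) + β • (x : Matrix (Fin 2) (Fin 2) K) := by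
  induction k with
  | zero => exact ⟨1, 0, by simp⟩
  | succ k ih =>
    obtain ⟨α, β, h⟩ := ih
    refine ⟨-β, α + β * (x : Matrix (Fin 2) (Fin 2) K).trace, ?_⟩
    rw [pow_succ, Matrix.SpecialLinearGroup.coe_mul, h, add_mul, smul_mul_assoc, one_mul,
      smul_mul_assoc, cayley_sl, smul_sub, smul_smul, add_smul, neg_smul]
    abel

/-- the key computation: an element of `K[x]` with the trace and determinant of `x` is `x^{±1}` -/
theorem eq_or_eq_inv_of_span (h2 : (2 : K) ≠ 0) (x y : SL2)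
    (ht : (x : Matrix (Fin 2) (Fin 2) K).trace * (x : Matrix (Fin 2) (Fin 2) K).trace ≠ 4)
    (α β : K) (hy : (y : Matrix (Fin 2) (Fin 2) K) =
      α • (1 : Matrix (Fin 2) (Fin 2) K) + β • (x : Matrix (Fin 2) (Fin 2) K))
    (htr : (y : Matrix (Fin 2) (Fin 2) K).trace = (x : Matrix (Fin 2) (Fin 2) K).trace) :
    y = x ∨ y = x⁻¹ := by
  obtain ⟨t, htdef⟩ : ∃ t, t = (x : Matrix (Fin 2) (Fin 2) K).trace := ⟨_, rfl⟩
  rw [← htdef] at ht htr
  have hdx := x.det_coe
  have hdy := y.det_coe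
  rw [hy] at hdy htr
  rw [det_fin_two] at hdx hdy
  rw [trace_fin_two] at htr htdef
  simp only [Matrix.add_apply, Matrix.smul_apply, Matrix.one_apply_eq, smul_eq_mul, mul_one, ne_eq,
    zero_ne_one, not_false_eq_true, Matrix.one_apply_ne, mul_zero, zero_add, one_ne_zero,
    Fin.isValue] at hdy htr
  obtain ⟨a, ha⟩ : ∃ a, a = (x : Matrix (Fin 2) (Fin 2) K) 0 0 := ⟨_, rfl⟩
  obtain ⟨b, hb⟩ : ∃ b, b = (x : Matrix (Fin 2) (Fin 2) K) 0 1 := ⟨_, rfl⟩
  obtain ⟨c, hc⟩ : ∃ c, c = (x : Matrix (Fin 2) (Fin 2) K) 1 0 := ⟨_, rfl⟩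
  obtain ⟨d, hd⟩ : ∃ d, d = (x : Matrix (Fin 2) (Fin 2) K) 1 1 := ⟨_, rfl⟩
  rw [← ha, ← hb, ← hc, ← hd] at hdx hdy
  rw [← ha, ← hd] at htr htdef
  have e1 : 2 * α = t * (1 - β) := by linear_combination htr + β * htdef
  have e2 : α * α + α * β * t + β * β = 1 := by
    linear_combination hdy + α * β * htdef - β * β * hdx
  have e3 : (1 - β * β) * (t * t - 4) = 0 := by
    linear_combination 4 * e2 - (2 * α + t * (1 - β) + 2 * β * t) * e1
  have e4 : 1 - β * β = 0 := by
    rcases mul_eq_zero.mp e3 with h | h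
    · exact h
    · exfalso; apply ht; rw [sub_eq_zero] at h; exact h
  have e5 : (1 - β) * (1 + β) = 0 := by rw [← e4]; ring
  rcases mul_eq_zero.mp e5 with h | h
  · left
    have hβ : β = 1 := by rw [sub_eq_zero] at h; exact h.symm
    have hα : α = 0 := by
      rw [hβ, sub_self, mul_zero] at e1
      rcases mul_eq_zero.mp e1 with h' | h'
      · exact absurd h' h2
      · exact h'
    apply Subtype.ext
    rw [hy, hα, hβ, zero_smul, zero_add, one_smul]
  · right
    have hβ : β = -1 := eq_neg_of_add_eq_zero_right h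
    have hα : α = t := by
      rw [hβ] at e1
      have : 2 * α = 2 * t := by rw [e1]; ring
      exact mul_left_cancel₀ h2 this
    apply Subtype.ext
    rw [hy, hα, hβ, Matrix.SpecialLinearGroup.coe_inv, Matrix.adjugate_fin_two, htdef, ha, hd]
    ext i j
    fin_cases i <;> fin_cases j <;> simp

end Cfsg.Agent.Lib.Helper1.SL2Odd
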