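import Mathlib
import Cfsg.Agent.Lib.Helper1.SL2Odd1
set_option autoImplicit false
open Matrix
universe u
namespace Cfsg.Agent.Lib.Helper1.SL2Odd

open Cfsg.Agent.Lib.Helper5.SL2Cyclic

variable {K : Type u} [Field K]

local notation "SL2" => Matrix.SpecialLinearGroup (Fin 2) K

/-- an element of order prime to `2p` has trace `≠ ±2` -/
theorem trace_sq_ne_four {p : ℕ} [hp : Fact p.Prime] [CharP K p] (x : SL2) (hx1 : x ≠ 1)
    (hord : (orderOf x).Coprime (2 * p)) :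
    (x : Matrix (Fin 2) (Fin 2) K).trace * (x : Matrix (Fin 2) (Fin 2) K).trace ≠ 4 := by
  intro h
  have hc := cayley_sl x
  obtain ⟨t, ht⟩ : ∃ t, t = (x : Matrix (Fin 2) (Fin 2) K).trace := ⟨_, rfl⟩
  rw [← ht] at h hc
  have h4 : (t - 2) * (t + 2) = 0 := by linear_combination h
  have hpK : ((p : ℕ) : K) = 0 := CharP.cast_eq_zero K p
  rcases mul_eq_zero.mp h4 with h' | h'
  · have ht2 : t = 2 := sub_eq_zero.mp h'
    rw [ht2] at hc
    have hN : ((x : Matrix (Fin 2) (Fin 2) K) - 1) * ((x : Matrix (Fin 2) (Fin 2) K) - 1) = 0 := by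
      rw [sub_mul, mul_sub, mul_sub, hc, one_mul, mul_one, mul_one, two_smul]
      abel
    have hpow := one_add_pow_of_sq_zero _ hN p
    rw [hpK, zero_smul, add_zero, add_sub_cancel] at hpow
    have hxp : x ^ p = 1 := by
      apply Subtype.ext
      rw [Matrix.SpecialLinearGroup.coe_pow, hpow]; rfl
    have h1 : orderOf x ∣ p := orderOf_dvd_of_pow_eq_one hxp
    have h2 : orderOf x ∣ Nat.gcd (orderOf x) (2 * p) :=
      Nat.dvd_gcd dvd_rfl (dvd_trans h1 (dvd_mul_left p 2))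
    rw [hord] at h2
    exact hx1 (orderOf_eq_one_iff.mp (Nat.dvd_one.mp h2))
  · have ht2 : t = -2 := eq_neg_of_add_eq_zero_left h'
    rw [ht2] at hc
    have hN : (-(x : Matrix (Fin 2) (Fin 2) K) - 1) * (-(x : Matrix (Fin 2) (Fin 2) K) - 1) = 0 := by
      rw [sub_mul, mul_sub, mul_sub, neg_mul_neg, hc, one_mul, mul_one, mul_one, neg_smul, two_smul]
      abel
    have hpow := one_add_pow_of_sq_zero _ hN p
    rw [hpK, zero_smul, add_zero, add_sub_cancel] at hpow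
    have hxp : x ^ (2 * p) = 1 := by
      apply Subtype.ext
      rw [Matrix.SpecialLinearGroup.coe_pow, pow_mul, ← neg_sq, ← pow_mul, mul_comm, pow_mul, hpow,
        one_pow]
      rfl
    have h1 : orderOf x ∣ 2 * p := orderOf_dvd_of_pow_eq_one hxp
    have h2 : orderOf x ∣ Nat.gcd (orderOf x) (2 * p) := Nat.dvd_gcd dvd_rfl h1
    rw [hord] at h2
    exact hx1 (orderOf_eq_one_iff.mp (Nat.dvd_one.mp h2))

/-- a conjugate of `x` inside `⟨x⟩` is `x` or `x⁻¹` -/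
theorem conj_eq_or_eq_inv (h2 : (2 : K) ≠ 0) (x g : SL2)
    (ht : (x : Matrix (Fin 2) (Fin 2) K).trace * (x : Matrix (Fin 2) (Fin 2) K).trace ≠ 4)
    (k : ℕ) (hk : g * x * g⁻¹ = x ^ k) : g * x * g⁻¹ = x ∨ g * x * g⁻¹ = x⁻¹ := by
  obtain ⟨α, β, hαβ⟩ := pow_mem_span x k
  rw [← hk] at hαβ
  apply eq_or_eq_inv_of_span h2 x _ ht α β hαβ
  rw [Matrix.SpecialLinearGroup.coe_mul, Matrix.SpecialLinearGroup.coe_mul, Matrix.trace_mul_comm,
    ← mul_assoc, ← Matrix.SpecialLinearGroup.coe_mul, inv_mul_cancel, Matrix.SpecialLinearGroup.coe_one,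
    one_mul]

theorem sq_commute_of_conj (x g : SL2) (h : g * x * g⁻¹ = x ∨ g * x * g⁻¹ = x⁻¹) :
    (g ^ 2) * x = x * (g ^ 2) := by
  have key : g ^ 2 * x * (g ^ 2)⁻¹ = x := by
    have e : g ^ 2 * x * (g ^ 2)⁻¹ = g * (g * x * g⁻¹) * g⁻¹ := by
      rw [pow_two, _root_.mul_inv_rev]; simp only [mul_assoc]
    rcases h with h | h
    · rw [e, h, h]
    · rw [e, h]
      have : g * x⁻¹ * g⁻¹ = (g * x * g⁻¹)⁻¹ := by
        rw [_root_.mul_inv_rev, _root_.mul_inv_rev, inv_inv]; simp only [mul_assoc]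
      rw [this, h, inv_inv]
  calc g ^ 2 * x = (g ^ 2 * x * (g ^ 2)⁻¹) * g ^ 2 := by rw [inv_mul_cancel_right]
    _ = x * g ^ 2 := by rw [key]

end Cfsg.Agent.Lib.Helper1.SL2Odd
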