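import Mathlib
set_option autoImplicit false
open scoped commutatorElement

namespace Cfsg.Agent.Lib.Helper1

universe u

variable {G : Type u} [Group G]

/-- All commutators are central (nilpotency class at most two). -/
def CommCentral (G : Type u) [Group G] : Prop := ∀ x y z : G, ⁅x, y⁆ * z = z * ⁅x, y⁆

theorem commCentral_of_commutator_commutator_eq_bot
    (h : ⁅commutator G, (⊤ : Subgroup G)⁆ = ⊥) : CommCentral G := by
  intro x y z
  have h1 : ⁅x, y⁆ ∈ commutator G := by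
    rw [commutator_def]; exact Subgroup.commutator_mem_commutator (Subgroup.mem_top x) (Subgroup.mem_top y)
  have h2 : ⁅⁅x, y⁆, z⁆ ∈ ⁅commutator G, (⊤ : Subgroup G)⁆ :=
    Subgroup.commutator_mem_commutator h1 (Subgroup.mem_top z)
  rw [h, Subgroup.mem_bot, commutatorElement_eq_one_iff_mul_comm] at h2
  exact h2

theorem commCentral_of_commutator_le_center (h : commutator G ≤ Subgroup.center G) :
    CommCentral G := by
  intro x y z
  have h1 : ⁅x, y⁆ ∈ commutator G := by
    rw [commutator_def]; exact Subgroup.commutator_mem_commutator (Subgroup.mem_top x) (Subgroup.mem_top y)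
  exact (Subgroup.mem_center_iff.mp (h h1) z).symm

namespace CommCentral

variable (h : CommCentral G)
include h

theorem comm_mul_left (x y z : G) : ⁅x * y, z⁆ = ⁅x, z⁆ * ⁅y, z⁆ := by
  have e : ⁅x * y, z⁆ = x * ⁅y, z⁆ * x⁻¹ * ⁅x, z⁆ := by
    simp only [commutatorElement_def]; group
  rw [e, ← h y z x, mul_inv_cancel_right, ← h y z]

theorem comm_mul_right (x y z : G) : ⁅x, y * z⁆ = ⁅x, y⁆ * ⁅x, z⁆ := by
  have e : ⁅x, y * z⁆ = ⁅x, y⁆ * (y * ⁅x, z⁆ * y⁻¹) := by
    simp only [commutatorElement_def]; group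
  rw [e, ← h x z y, mul_inv_cancel_right]

omit h in
theorem comm_one_left (y : G) : ⁅(1 : G), y⁆ = 1 := by
  simp [commutatorElement_def]

theorem comm_pow_left (x y : G) (n : ℕ) : ⁅x ^ n, y⁆ = ⁅x, y⁆ ^ n := by
  induction n with
  | zero => simp [commutatorElement_def]
  | succ n ih => rw [pow_succ, h.comm_mul_left, ih, pow_succ]

theorem comm_pow_right (x y : G) (n : ℕ) : ⁅x, y ^ n⁆ = ⁅x, y⁆ ^ n := by
  induction n with
  | zero => simp [commutatorElement_def]
  | succ n ih => rw [pow_succ, h.comm_mul_right, ih, pow_succ]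

theorem comm_commute (x y z : G) : Commute ⁅x, y⁆ z := h x y z

theorem mul_pow_eq (x y : G) (n : ℕ) : (x * y) ^ n = x ^ n * y ^ n * ⁅y, x⁆ ^ (n.choose 2) := by
  induction n with
  | zero => simp
  | succ n ih =>
    have ha : ∀ z : G, ⁅y, x⁆ ^ (n.choose 2) * z = z * ⁅y, x⁆ ^ (n.choose 2) :=
      fun z => ((h.comm_commute y x z).pow_left _).eq
    have hb : ∀ z : G, ⁅y, x⁆ ^ n * z = z * ⁅y, x⁆ ^ n :=
      fun z => ((h.comm_commute y x z).pow_left _).eq
    have e1 : y ^ n * x = ⁅y, x⁆ ^ n * x * y ^ n := by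
      rw [← h.comm_pow_left, commutatorElement_def]; group
    have e2 : (n + 1).choose 2 = n + n.choose 2 := by
      rw [Nat.choose_succ_succ', Nat.choose_one_right]
    set a := ⁅y, x⁆ ^ (n.choose 2) with hadef
    have e3 : ⁅y, x⁆ ^ ((n + 1).choose 2) = ⁅y, x⁆ ^ n * ⁅y, x⁆ ^ (n.choose 2) := by
      rw [e2, pow_add]
    calc (x * y) ^ (n + 1) = (x * y) ^ n * (x * y) := pow_succ _ _
      _ = x ^ n * y ^ n * a * (x * y) := by rw [ih]
      _ = x ^ n * (y ^ n * x) * y * a := by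
          rw [mul_assoc (x ^ n * y ^ n) a, ha (x * y)]; group
      _ = x ^ n * (⁅y, x⁆ ^ n * x * y ^ n) * y * a := by rw [e1]
      _ = x ^ n * ⁅y, x⁆ ^ n * (x * y ^ n * y) * a := by group
      _ = ⁅y, x⁆ ^ n * x ^ n * (x * y ^ n * y) * a := by rw [hb (x ^ n)]
      _ = ⁅y, x⁆ ^ n * (x ^ n * x * (y ^ n * y)) * a := by group
      _ = (x ^ n * x * (y ^ n * y)) * ⁅y, x⁆ ^ n * a := by rw [hb]
      _ = x ^ (n + 1) * y ^ (n + 1) * ⁅y, x⁆ ^ ((n + 1).choose 2) := by
          rw [e3, pow_succ, pow_succ, mul_assoc _ (⁅y, x⁆ ^ n) a]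

/-- For odd `p`, if `⁅y,x⁆ ^ p = 1` then `(x y)^p = x^p y^p`. -/
theorem mul_pow_prime_eq {p : ℕ} (hp : p.Prime) (hp2 : p ≠ 2) (x y : G) (hc : ⁅y, x⁆ ^ p = 1) :
    (x * y) ^ p = x ^ p * y ^ p := by
  rw [h.mul_pow_eq]
  have hdvd : p ∣ p.choose 2 := hp.dvd_choose_self (by norm_num) (by
    have := hp.two_le; omega)
  obtain ⟨k, hk⟩ := hdvd
  rw [hk, pow_mul, hc, one_pow, mul_one]

/-- For odd `p`, in a group of class at most two, the elements of order dividing `p`
generate a subgroup of exponent dividing `p`. -/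
theorem omega_exponent {p : ℕ} (hp : p.Prime) (hp2 : p ≠ 2) (g : G)
    (hg : g ∈ Subgroup.closure {x : G | x ^ p = 1}) : g ^ p = 1 := by
  induction hg using Subgroup.closure_induction with
  | mem x hx => exact hx
  | one => exact one_pow p
  | mul x y _ _ hx hy =>
    have hc : ⁅y, x⁆ ^ p = 1 := by
      rw [← h.comm_pow_left, hy, comm_one_left]
    rw [h.mul_pow_prime_eq hp hp2 x y hc, hx, hy, one_mul]
  | inv x _ hx => rw [inv_pow, hx, inv_one]

end CommCentral

end Cfsg.Agent.Lib.Helper1
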