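import Mathlib

set_option autoImplicit false
open Pointwise

namespace Cfsg.Agent.Lib.Helper1

/-- A nontrivial normal subgroup of a nilpotent group meets the centre nontrivially. -/
theorem normal_inf_center_ne_bot {G : Type*} [Group G] [Group.IsNilpotent G]
    (N : Subgroup G) [N.Normal] (hN : N ≠ ⊥) : N ⊓ Subgroup.center G ≠ ⊥ := by
  obtain ⟨n, hn⟩ := Group.IsNilpotent.nilpotent G
  have hex : ∃ n, N ⊓ Subgroup.upperCentralSeries G n ≠ ⊥ :=
    ⟨n, by rw [hn, inf_top_eq]; exact hN⟩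
  classical
  let m := Nat.find hex
  have hm : N ⊓ Subgroup.upperCentralSeries G m ≠ ⊥ := Nat.find_spec hex
  have hm0 : m ≠ 0 := by
    intro h0
    rw [h0] at hm
    simp at hm
  obtain ⟨k, hk⟩ := Nat.exists_eq_succ_of_ne_zero hm0
  have hk' : N ⊓ Subgroup.upperCentralSeries G k = ⊥ := by
    by_contra hne
    have := Nat.find_min' hex hne
    omega
  intro hbot
  apply hm
  rw [eq_bot_iff]
  intro x hx
  rw [hk] at hx
  obtain ⟨hxN, hxZ⟩ := hx
  rw [← hbot]
  have hxN' : x ∈ N := hxN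
  have hxZ' : x ∈ Subgroup.upperCentralSeries G (k+1) := hxZ
  clear hxN hxZ
  rw [Subgroup.mem_inf]
  refine ⟨hxN', ?_⟩
  rw [Subgroup.mem_center_iff]
  intro g
  have h1 : x * g * x⁻¹ * g⁻¹ ∈ Subgroup.upperCentralSeries G k := by
    rw [Subgroup.mem_upperCentralSeries_succ_iff] at hxZ'
    exact hxZ' g
  have h2 : x * g * x⁻¹ * g⁻¹ ∈ N := by
    have : x * g * x⁻¹ * g⁻¹ = x * (g * x⁻¹ * g⁻¹) := by group
    rw [this]
    exact N.mul_mem hxN' (Subgroup.Normal.conj_mem inferInstance _ (N.inv_mem hxN') g)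
  have h3 : x * g * x⁻¹ * g⁻¹ ∈ N ⊓ Subgroup.upperCentralSeries G k := ⟨h2, h1⟩
  rw [hk', Subgroup.mem_bot] at h3
  have : x * g = g * x := by
    have h4 : x * g * x⁻¹ * g⁻¹ * (g * x) = g * x := by rw [h3, one_mul]
    rw [← h4]; group
  exact this.symm

end Cfsg.Agent.Lib.Helper1
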