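import Mathlib
import Cfsg.Agent.Lib.Helper1.Nilpotent
set_option autoImplicit false
open Pointwise

namespace Cfsg.Agent.Lib.Helper1

theorem centralizer_eq_of_maximal_abelian_normal {G : Type*} [Group G] [Group.IsNilpotent G]
    (N : Subgroup G) [hNn : N.Normal] [hNc : IsMulCommutative N]
    (hmax : ∀ M : Subgroup G, M.Normal → IsMulCommutative M → N ≤ M → M = N) :
    Subgroup.centralizer (N : Set G) = N := by
  have hNC : N ≤ Subgroup.centralizer (N : Set G) := by
    intro n hn
    rw [Subgroup.mem_centralizer_iff]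
    intro m hm
    have := mul_comm' (⟨m, hm⟩ : N) ⟨n, hn⟩
    exact congrArg Subtype.val this
  by_contra hne
  set C := Subgroup.centralizer (N : Set G) with hC
  have hCn : C.Normal := Subgroup.normal_centralizer  -- centralizer of normal is normal
  let f := QuotientGroup.mk' N
  have hf : Function.Surjective f := QuotientGroup.mk'_surjective N
  have hC'n : (C.map f).Normal := hCn.map f hf
  have hC'ne : C.map f ≠ ⊥ := by
    intro h
    apply hne
    apply le_antisymm _ hNC
    intro c hc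
    have : f c ∈ C.map f := Subgroup.mem_map_of_mem f hc
    rw [h, Subgroup.mem_bot] at this
    exact (QuotientGroup.eq_one_iff c).mp this
  have hmeet := normal_inf_center_ne_bot (C.map f) hC'ne
  obtain ⟨⟨y, hy⟩, hy1⟩ := (Subgroup.ne_bot_iff_exists_ne_one).mp hmeet
  have hy1' : y ≠ 1 := fun h => hy1 (Subtype.ext h)
  obtain ⟨hyC, hyZ⟩ := Subgroup.mem_inf.mp hy
  obtain ⟨x, hxC, rfl⟩ := Subgroup.mem_map.mp hyC
  have hxN : x ∉ N := fun h => hy1' ((QuotientGroup.eq_one_iff x).mpr h)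
  let M : Subgroup G := (Subgroup.zpowers (f x)).comap f
  have hZn : (Subgroup.zpowers (f x)).Normal := by
    constructor
    intro z hz g
    obtain ⟨i, rfl⟩ := Subgroup.mem_zpowers_iff.mp hz
    have hcomm : g * (f x) ^ i = (f x) ^ i * g := by
      have h1 : f x ^ i ∈ Subgroup.center (G ⧸ N) := Subgroup.zpow_mem _ hyZ i
      exact (Subgroup.mem_center_iff.mp h1 g)
    rw [hcomm, mul_inv_cancel_right]
    exact Subgroup.zpow_mem _ (Subgroup.mem_zpowers _) i
  have hMn : M.Normal := hZn.comap f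
  have hNM : N ≤ M := by
    intro n hn
    show f n ∈ Subgroup.zpowers (f x)
    have h1 : f n = 1 := (QuotientGroup.eq_one_iff n).mpr hn
    rw [h1]
    exact Subgroup.one_mem _
  have hxM : x ∈ M := Subgroup.mem_zpowers (f x)
  have hMform : ∀ a ∈ M, ∃ i : ℤ, ∃ n ∈ N, a = x ^ i * n := by
    intro a ha
    obtain ⟨i, hi⟩ := Subgroup.mem_zpowers_iff.mp ha
    refine ⟨i, (x ^ i)⁻¹ * a, ?_, by group⟩
    rw [← QuotientGroup.eq_one_iff]
    show f ((x ^ i)⁻¹ * a) = 1
    rw [map_mul, map_inv, map_zpow, hi, inv_mul_cancel]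
  have hxcomm : ∀ n ∈ N, ∀ i : ℤ, n * x ^ i = x ^ i * n := by
    intro n hn i
    have h1 : x ^ i ∈ C := C.zpow_mem hxC i
    exact Subgroup.mem_centralizer_iff.mp h1 n hn
  have hNcomm : ∀ n ∈ N, ∀ m ∈ N, n * m = m * n := by
    intro n hn m hm
    exact congrArg Subtype.val (mul_comm' (⟨n, hn⟩ : N) ⟨m, hm⟩)
  have hMc : IsMulCommutative M := by
    refine ⟨⟨?_⟩⟩
    rintro ⟨a, ha⟩ ⟨b, hb⟩
    apply Subtype.ext
    show a * b = b * a
    obtain ⟨i, n, hn, rfl⟩ := hMform a ha
    obtain ⟨j, m, hm, rfl⟩ := hMform b hb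
    calc x ^ i * n * (x ^ j * m) = x ^ i * (n * x ^ j) * m := by group
      _ = x ^ i * (x ^ j * n) * m := by rw [hxcomm n hn j]
      _ = x ^ (i + j) * (n * m) := by rw [zpow_add]; group
      _ = x ^ (j + i) * (m * n) := by rw [add_comm, hNcomm n hn m hm]
      _ = x ^ j * (x ^ i * m) * n := by rw [zpow_add]; group
      _ = x ^ j * (m * x ^ i) * n := by rw [hxcomm m hm i]
      _ = x ^ j * m * (x ^ i * n) := by group
  have := hmax M hMn hMc hNM
  exact hxN (this ▸ hxM)

end Cfsg.Agent.Lib.Helper1
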