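import Mathlib
import Cfsg.Agent.Lib.Helper1.SL2Odd2
import Cfsg.Agent.Lib.Helper1.NormalPComplement
import Cfsg.Agent.Lib.Lead.UniqueP
set_option autoImplicit false
open Matrix
open scoped IsMulCommutative
universe u v
namespace Cfsg.Agent.Lib.Helper1.SL2Odd

/-- a cyclic Sylow 2-subgroup of a group of even order gives a subgroup of index 2 -/
theorem exists_index_two_of_cyclic_sylow {G : Type*} [Group G] [Finite G]
    (heven : Even (Nat.card G))
    (T : Sylow 2 G) (hT : IsCyclic (T : Subgroup G)) : ∃ H : Subgroup G, H.index = 2 := by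
  haveI : Fact (Nat.Prime 2) := ⟨Nat.prime_two⟩
  have hmin : (Nat.card G).minFac = 2 := by
    rw [Nat.minFac_eq_two_iff]
    exact even_iff_two_dvd.mp heven
  have hNC := hT.normalizer_le_centralizer hmin
  have hcomp := hT.isComplement' hmin
  set φ := MonoidHom.transferSylow T hNC with hφ
  have hsurj : Function.Surjective φ := by
    rw [← MonoidHom.range_eq_top]
    apply Subgroup.eq_top_of_card_eq
    rw [← Subgroup.index_ker]
    exact hcomp.symm.index_eq_card
  obtain ⟨k, hk⟩ := T.2.exists_card_eq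
  have hk1 : k ≠ 0 := by
    rintro rfl
    rw [pow_zero] at hk
    have h2 : 2 ∣ Nat.card G := even_iff_two_dvd.mp heven
    have := T.dvd_card_of_dvd_card h2
    rw [hk] at this
    omega
  obtain ⟨m, rfl⟩ := Nat.exists_eq_succ_of_ne_zero hk1
  have hdvd : 2 ^ m ∣ Nat.card (T : Subgroup G) := by
    rw [hk]; exact pow_dvd_pow 2 (Nat.le_succ m)
  obtain ⟨K, hK⟩ := Sylow.exists_subgroup_card_pow_prime 2 hdvd
  have hidx : K.index = 2 := by
    have h1 := K.card_mul_index
    rw [hK, hk, pow_succ] at h1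
    exact Nat.eq_of_mul_eq_mul_left (by positivity) h1
  refine ⟨K.comap φ, ?_⟩
  rw [Subgroup.index_comap_of_surjective K hsurj, hidx]

/-- a group generated by elements of odd order `p` has no subgroup of index two -/
theorem no_index_two_of_generated {G : Type u} [Group G] {p : ℕ} (hp : Odd p)
    (X : Subgroup G) (S : Set G) (hXS : X = Subgroup.closure S) (hS : ∀ s ∈ S, s ^ p = 1)
    (M : Subgroup X) (hM : M.index = 2) : False := by
  have hsq : ∀ x : X, x ^ 2 ∈ M := fun x => Subgroup.sq_mem_of_index_two hM x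
  have hSX : S ⊆ X := by rw [hXS]; exact Subgroup.subset_closure
  have hle : X ≤ M.map X.subtype := by
    conv_lhs => rw [hXS]
    rw [Subgroup.closure_le]
    intro s hs
    refine ⟨⟨s, hSX hs⟩, ?_, rfl⟩
    obtain ⟨m, hm⟩ := hp
    have h1 : (⟨s, hSX hs⟩ : X) ^ p = 1 := Subtype.ext (by simpa using hS s hs)
    obtain ⟨z, hz⟩ : ∃ z : X, z = ⟨s, hSX hs⟩ := ⟨_, rfl⟩
    rw [← hz] at h1 ⊢
    have h2 : z = (z ^ 2) ^ (m + 1) := by
      have e : 2 * (m + 1) = p + 1 := by omega
      rw [← pow_mul, e, pow_succ, h1, one_mul]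
    rw [h2]
    exact M.pow_mem (hsq _) _
  have htop : M = ⊤ := by
    rw [eq_top_iff]
    intro x _
    obtain ⟨y, hy, hyx⟩ := hle x.2
    have : y = x := Subtype.ext hyx
    rw [← this]; exact hy
  rw [htop, Subgroup.index_top] at hM
  omega

end Cfsg.Agent.Lib.Helper1.SL2Odd
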