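import Mathlib
import Cfsg.Agent.Lib.Helper1.SL2Odd3
set_option autoImplicit false
open Matrix
open scoped IsMulCommutative
universe u v
namespace Cfsg.Agent.Lib.Helper1.SL2Odd

variable {K : Type u} [Field K]

local notation "SL2" => Matrix.SpecialLinearGroup (Fin 2) K

theorem odd_card_of_comm_sylow (h2 : (2 : K) ≠ 0) {p : ℕ} (hp : Odd p) (X : Subgroup SL2)
    [Finite X] (S : Set SL2) (hXS : X = Subgroup.closure S) (hS : ∀ s ∈ S, s ^ p = 1)
    (T : Sylow 2 X) (hT : IsMulCommutative T) : Odd (Nat.card X) := by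
  haveI : Fact (Nat.Prime 2) := ⟨Nat.prime_two⟩
  by_contra hodd
  rw [Nat.not_odd_iff_even] at hodd
  have huop : Cfsg.Agent.Lib.Lead.UniqueP.UOP 2 (T : Subgroup X) := by
    intro a b ha hb ha1
    have hmat : ∀ c : (T : Subgroup X), c ^ 2 = 1 → c ≠ 1 →
        ((c : X) : SL2).1 = -1 := by
      intro c hc hc1
      apply eq_neg_one_of_sq_eq_one h2
      · have := congrArg (fun t : (T : Subgroup X) => ((t : X) : SL2)) hc
        simpa [pow_two] using this
      · intro h
        apply hc1
        apply Subtype.ext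
        apply Subtype.ext
        exact h
    by_cases hb1 : b = 1
    · rw [hb1]; exact one_mem _
    · have e : b = a := by
        apply Subtype.ext
        apply Subtype.ext
        apply Subtype.ext
        rw [hmat a ha ha1, hmat b hb hb1]
      rw [e]; exact Subgroup.mem_zpowers a
  have hcyc : IsCyclic (T : Subgroup X) :=
    Cfsg.Agent.Lib.Lead.UniqueP.isCyclic_of_comm 2 T.2 huop
  obtain ⟨M, hM⟩ := exists_index_two_of_cyclic_sylow hodd T hcyc
  exact no_index_two_of_generated hp X S hXS hS M hM

end Cfsg.Agent.Lib.Helper1.SL2Odd
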