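import Mathlib
import Cfsg.Agent.Lib.Helper1.SL2Odd4
set_option autoImplicit false
open Matrix
universe u v
namespace Cfsg.Agent.Lib.Helper1.SL2Odd

open Cfsg.Agent.Lib.Helper5.SL2Cyclic

variable {K : Type u} [Field K]

local notation "SL2" => Matrix.SpecialLinearGroup (Fin 2) K

theorem two_ne_zero_of_charP {p : ℕ} [hp : Fact p.Prime] [CharP K p] (hp2 : p ≠ 2) :
    (2 : K) ≠ 0 := by
  intro h
  have h1 : ((2 : ℕ) : K) = 0 := by exact_mod_cast h
  have h2 := (CharP.cast_eq_zero_iff K p 2).mp h1
  exact hp2 ((Nat.prime_dvd_prime_iff_eq hp.out Nat.prime_two).mp h2)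

theorem commute_of_sq_commute_of_odd {G : Type v} [Group G] (g x : G) (hg : Odd (orderOf g))
    (h : g ^ 2 * x = x * g ^ 2) : g * x = x * g := by
  obtain ⟨m, hm⟩ := hg
  have e : g = (g ^ 2) ^ (m + 1) := by
    have e' : 2 * (m + 1) = orderOf g + 1 := by omega
    rw [← pow_mul, e', pow_succ, pow_orderOf_eq_one, one_mul]
  have hc : Commute (g ^ 2) x := h
  have := hc.pow_left (m + 1)
  rw [← e] at this
  exact this

theorem normalizer_le_centralizer_sylow {p : ℕ} [hp : Fact p.Prime] [CharP K p] (hp2 : p ≠ 2)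
    (X : Subgroup SL2) [Finite X] (hodd : Odd (Nat.card X)) {r : ℕ} [hr : Fact r.Prime]
    (hrp : r ≠ p) (R : Sylow r X) :
    Subgroup.normalizer ((R : Subgroup X) : Set X) ≤
      Subgroup.centralizer ((R : Subgroup X) : Set X) := by
  have h2 : (2 : K) ≠ 0 := two_ne_zero_of_charP hp2
  by_cases hR1 : (R : Subgroup X) = ⊥
  · rw [hR1]
    intro g _
    rw [Subgroup.mem_centralizer_iff]
    intro y hy
    rw [SetLike.mem_coe, Subgroup.mem_bot] at hy
    rw [hy, one_mul, mul_one]
  have hrdvd : r ∣ Nat.card X := by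
    by_contra hnd
    apply hR1
    have := R.card_eq_multiplicity
    rw [Nat.factorization_eq_zero_of_not_dvd hnd, pow_zero] at this
    exact (Subgroup.card_eq_one).mp this
  have hr2 : r ≠ 2 := by
    rintro rfl
    obtain ⟨m, hm⟩ := hodd
    omega
  have hrF : (r : K) ≠ 0 := by
    intro h
    have h1 := (CharP.cast_eq_zero_iff K p r).mp h
    exact hrp ((Nat.prime_dvd_prime_iff_eq hp.out hr.out).mp h1).symm
  -- R is cyclic
  have hR'fin : Finite ((R : Subgroup X).map X.subtype) :=
    Finite.of_injective (fun y : ((R : Subgroup X).map X.subtype) =>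
      (⟨⟨y.1, by obtain ⟨z, _, hz⟩ := y.2; rw [← hz]; exact z.2⟩, by
        obtain ⟨z, hz1, hz⟩ := y.2
        have : (⟨y.1, by rw [← hz]; exact z.2⟩ : X) = z := Subtype.ext hz.symm
        rw [this]; exact hz1⟩ : (R : Subgroup X)))
      (fun a b hab => Subtype.ext (by
        have := congrArg (fun t : (R : Subgroup X) => ((t : X) : SL2)) hab
        exact this))
  have hcyc' : IsCyclic ((R : Subgroup X).map X.subtype) :=
    isCyclic_of_isPGroup r hr2 hrF _ (R.2.map X.subtype)
  have hcyc : IsCyclic (R : Subgroup X) := by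
    have e := (R : Subgroup X).equivMapOfInjective X.subtype X.subtype_injective
    exact isCyclic_of_surjective e.symm e.symm.surjective
  obtain ⟨x, hx⟩ := hcyc.exists_generator
  -- x has order a power of r
  have hxne : x ≠ 1 := by
    intro h
    apply hR1
    rw [eq_bot_iff]
    intro y hy
    have := hx ⟨y, hy⟩
    rw [h, Subgroup.zpowers_one_eq_bot, Subgroup.mem_bot] at this
    rw [Subgroup.mem_bot]
    exact congrArg Subtype.val this
  have hxord : (orderOf ((x : X) : SL2)).Coprime (2 * p) := by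
    have e1 : orderOf ((x : X) : SL2) = orderOf x := by
      rw [Subgroup.orderOf_coe, Subgroup.orderOf_coe]
    obtain ⟨j, hj⟩ := R.2 x
    have h1 : orderOf x ∣ r ^ j := orderOf_dvd_of_pow_eq_one hj
    rw [e1]
    apply Nat.Coprime.coprime_dvd_left h1
    apply Nat.Coprime.pow_left
    apply Nat.Coprime.mul_right
    · exact (Nat.coprime_primes hr.out Nat.prime_two).mpr hr2
    · exact (Nat.coprime_primes hr.out hp.out).mpr hrp
  have hx1 : ((x : X) : SL2) ≠ 1 := by
    intro h
    apply hxne
    apply Subtype.ext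
    apply Subtype.ext
    exact h
  have ht := trace_sq_ne_four (p := p) _ hx1 hxord
  intro g hg
  -- g x g⁻¹ is a power of x
  have hgx : g * (x : X) * g⁻¹ ∈ (R : Subgroup X) :=
    (Subgroup.mem_normalizer_iff.mp hg (x : X)).mp x.2
  have hgx' := hx ⟨_, hgx⟩
  have hfin : IsOfFinOrder x := isOfFinOrder_of_finite x
  rw [← mem_powers_iff_mem_zpowers, Submonoid.mem_powers_iff] at hgx'
  obtain ⟨k, hk⟩ := hgx'
  have hk' : (g : SL2) * ((x : X) : SL2) * (g : SL2)⁻¹ = ((x : X) : SL2) ^ k := by
    have := congrArg (fun t : (R : Subgroup X) => ((t : X) : SL2)) hk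
    simpa using this.symm
  have hconj := conj_eq_or_eq_inv h2 _ _ ht k hk'
  have hsq := sq_commute_of_conj _ _ hconj
  have hgodd : Odd (orderOf (g : SL2)) := by
    have h1 : orderOf (g : SL2) ∣ Nat.card X := by
      rw [Subgroup.orderOf_coe]; exact orderOf_dvd_natCard g
    exact Odd.of_dvd_nat hodd h1
  have hcomm := commute_of_sq_commute_of_odd _ _ hgodd hsq
  have hcomm' : g * (x : X) = (x : X) * g := Subtype.ext hcomm
  rw [Subgroup.mem_centralizer_iff]
  intro y hy
  have hy' := hx ⟨y, hy⟩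
  obtain ⟨m, hm⟩ := Subgroup.mem_zpowers_iff.mp hy'
  have hym : y = (x : X) ^ m := by
    have := congrArg Subtype.val hm
    simpa using this.symm
  rw [hym]
  have hc : Commute g (x : X) := hcomm'
  exact (hc.zpow_right m).eq.symm

end Cfsg.Agent.Lib.Helper1.SL2Odd
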