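import Mathlib
import Cfsg.Agent.Lib.Helper1.SL2Odd5
set_option autoImplicit false
open Matrix
universe u v
namespace Cfsg.Agent.Lib.Helper1.SL2Odd

variable {K : Type u} [Field K]

local notation "SL2" => Matrix.SpecialLinearGroup (Fin 2) K

/-- a finite subgroup of `SL_2(K)`, `char K = p` odd, generated by elements of order `p` and not
a `p`-group, has non-abelian Sylow 2-subgroups -/
theorem sylow_two_not_comm {p : ℕ} [hp : Fact p.Prime] [CharP K p] (hp2 : p ≠ 2)
    (X : Subgroup SL2) [Finite X] (S : Set SL2) (hXS : X = Subgroup.closure S)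
    (hS : ∀ s ∈ S, s ^ p = 1) (hnp : ¬ IsPGroup p X) (T : Sylow 2 X) :
    ¬ IsMulCommutative T := by
  intro hT
  have h2 : (2 : K) ≠ 0 := two_ne_zero_of_charP hp2
  have hpodd : Odd p := hp.out.odd_of_ne_two hp2
  have hodd := odd_card_of_comm_sylow h2 hpodd X S hXS hS T hT
  -- a prime r ≠ p dividing |X|
  obtain ⟨r, hr, hrd, hrp⟩ : ∃ r : ℕ, r.Prime ∧ r ∣ Nat.card X ∧ r ≠ p := by
    by_contra hcon
    push Not at hcon
    apply hnp
    have := Nat.eq_prime_pow_of_unique_prime_dvd (n := Nat.card X) (p := p) Nat.card_pos.ne'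
      (fun {d} hd hdd => hcon d hd hdd)
    exact IsPGroup.of_card this
  haveI : Fact r.Prime := ⟨hr⟩
  obtain ⟨R⟩ : Nonempty (Sylow r X) := inferInstance
  have hNC := normalizer_le_centralizer_sylow hp2 X hodd hrp R
  have hcompl := MonoidHom.ker_transferSylow_isComplement' R hNC
  obtain ⟨N, hN⟩ : ∃ N : Subgroup X, N = (MonoidHom.transferSylow R hNC).ker := ⟨_, rfl⟩
  rw [← hN] at hcompl
  haveI : N.Normal := by rw [hN]; infer_instance
  have hSX : S ⊆ X := by rw [hXS]; exact Subgroup.subset_closure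
  have hle : X ≤ N.map X.subtype := by
    conv_lhs => rw [hXS]
    rw [Subgroup.closure_le]
    intro s hs
    refine ⟨⟨s, hSX hs⟩, ?_, rfl⟩
    rw [SetLike.mem_coe, mem_normal_complement_iff R N hcompl]
    have h1 : (⟨s, hSX hs⟩ : X) ^ p = 1 := Subtype.ext (by simpa using hS s hs)
    have h3 : orderOf (⟨s, hSX hs⟩ : X) ∣ p := orderOf_dvd_of_pow_eq_one h1
    exact Nat.Coprime.coprime_dvd_left h3 ((Nat.coprime_primes hp.out hr).mpr hrp.symm)
  have htop : N = ⊤ := by
    rw [eq_top_iff]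
    intro x _
    obtain ⟨y, hy, hyx⟩ := hle x.2
    have : y = x := Subtype.ext hyx
    rw [← this]; exact hy
  have hcard := hcompl.card_mul_card
  rw [htop, Subgroup.card_top] at hcard
  have hR1 : Nat.card (R : Subgroup X) = 1 := by
    have hpos : 0 < Nat.card X := Nat.card_pos
    have : Nat.card X * Nat.card (R : Subgroup X) = Nat.card X * 1 := by rw [hcard, mul_one]
    exact Nat.eq_of_mul_eq_mul_left hpos this
  have := R.dvd_card_of_dvd_card hrd
  rw [hR1] at this
  exact hr.one_lt.ne' (Nat.dvd_one.mp this)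

end Cfsg.Agent.Lib.Helper1.SL2Odd
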