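import Mathlib
import Cfsg.Agent.Lib.Helper1.QuadDual2
import Cfsg.Agent.Lib.Helper1.SL2Odd6
set_option autoImplicit false
universe u v w
namespace Cfsg.Agent.Lib.Helper1.QuadSL2

variable {A : Type v} [CommGroup A] {Γ : Type w} [Group Γ]

theorem exists_field_data {p : ℕ} [hp : Fact p.Prime] (N : ℕ) (hN : N ≠ 0) :
    ∃ (e n : ℕ), n ≠ 0 ∧ ∀ g : ℕ, g ∣ N → g ∣ p ^ e * (p ^ n - 1) := by
  obtain ⟨e, k, hk, hNk⟩ := Nat.exists_eq_pow_mul_and_not_dvd hN p hp.out.ne_one
  have hk0 : k ≠ 0 := by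
    rintro rfl
    exact hk (dvd_zero p)
  have hcop : p.Coprime k := (Nat.Prime.coprime_iff_not_dvd hp.out).mpr hk
  have h1 := Nat.ModEq.pow_totient hcop
  have hn0 : k.totient ≠ 0 := (Nat.totient_pos.mpr (Nat.pos_of_ne_zero hk0)).ne'
  refine ⟨e, k.totient, hn0, ?_⟩
  intro g hg
  have h2 : k ∣ p ^ k.totient - 1 :=
    (Nat.modEq_iff_dvd' (Nat.one_le_pow _ _ hp.out.pos)).mp h1.symm
  rw [hNk] at hg
  exact dvd_trans hg (Nat.mul_dvd_mul_left _ h2)

theorem sylow_two_not_comm_of_quadratic_pair [Finite A] {p : ℕ} [hp : Fact p.Prime] (hp2 : p ≠ 2)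
    (hexp : ∀ u : A, u ^ p = 1) [Finite Γ] (ψ : Γ →* MulAut A) (hψ : Function.Injective ψ)
    (x y : Γ) (hgen : Subgroup.closure {x, y} = ⊤)
    (hx : ∀ u : A, ψ x (ψ x u) * u = ψ x u * ψ x u)
    (hy : ∀ u : A, ψ y (ψ y u) * u = ψ y u * ψ y u)
    (hnp : ¬ IsPGroup p Γ) (T : Sylow 2 Γ) : ¬ IsMulCommutative T := by
  intro hT
  obtain ⟨e, n, hn0, hdvd⟩ := exists_field_data (p := p) (orderOf (x * y))
    (orderOf_pos (x * y)).ne'
  letI : Fintype (GaloisField p n) := Fintype.ofFinite _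
  have hcard : Fintype.card (GaloisField p n) = p ^ n := by
    rw [← Nat.card_eq_fintype_card]; exact GaloisField.card p n hn0
  haveI : Finite (Additive A →+ GaloisField p n) :=
    Finite.of_injective (fun f => (f : Additive A → GaloisField p n)) DFunLike.coe_injective
  have hxp : x ^ p = 1 := by
    apply hψ
    rw [map_pow, map_one]
    exact pow_eq_one_of_quad hexp _ hx
  have hyp : y ^ p = 1 := by
    apply hψ
    rw [map_pow, map_one]
    exact pow_eq_one_of_quad hexp _ hy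
  have hinj := dualRep_injective (K := GaloisField p n) hexp ψ hψ
  obtain ⟨φ, hφ⟩ := exists_hom_sl2_aux (K := GaloisField p n) (p := p) x y hgen _
    (Additive A →+ GaloisField p n) rfl (dualRep (GaloisField p n) ψ)
    (dualRep_quad ψ x hx) (dualRep_quad ψ y hy)
    ⟨e, by
      have h1 : (x * y) ^ (p ^ e * (Fintype.card (GaloisField p n) - 1)) = 1 := by
        rw [hcard]
        exact orderOf_dvd_iff_pow_eq_one.mp (hdvd _ dvd_rfl)
      rw [h1, map_one]⟩
    (by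
      intro h
      apply hnp
      intro g
      obtain ⟨k, hk⟩ := h ⟨_, ⟨g, rfl⟩⟩
      refine ⟨k, ?_⟩
      apply hinj
      have := congrArg Subtype.val hk
      simpa using this)
  -- the image in SL₂
  have hXS : φ.range = Subgroup.closure {φ x, φ y} := by
    rw [MonoidHom.range_eq_map, ← hgen, MonoidHom.map_closure, Set.image_pair]
  have hS : ∀ s ∈ ({φ x, φ y} : Set (Matrix.SpecialLinearGroup (Fin 2) (GaloisField p n))),
      s ^ p = 1 := by
    rintro s (rfl | rfl)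
    · rw [← map_pow, hxp, map_one]
    · rw [← map_pow, hyp, map_one]
  haveI : Fact (Nat.Prime 2) := ⟨Nat.prime_two⟩
  have hT' := SL2Odd.sylow_two_not_comm (K := GaloisField p n) hp2 φ.range _ hXS hS hφ
    (T.mapSurjective φ.rangeRestrict_surjective)
  apply hT'
  constructor
  constructor
  rintro ⟨_, ⟨t₁, ht₁, rfl⟩⟩ ⟨_, ⟨t₂, ht₂, rfl⟩⟩
  apply Subtype.ext
  change φ.rangeRestrict t₁ * φ.rangeRestrict t₂ = φ.rangeRestrict t₂ * φ.rangeRestrict t₁
  rw [← map_mul, ← map_mul]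
  congr 1
  have := mul_comm' (⟨t₁, ht₁⟩ : (T : Subgroup Γ)) ⟨t₂, ht₂⟩
  exact congrArg Subtype.val this

end Cfsg.Agent.Lib.Helper1.QuadSL2
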