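import Mathlib
import Cfsg.Agent.Lib.Helper1.QuadDual3
import Cfsg.Prelude.Def_Transfer
set_option autoImplicit false
open scoped commutatorElement IsMulCommutative
universe u v w
namespace Cfsg.Agent.Lib.Helper1.QuadSL2

variable {G : Type u} [Group G]

/-- conjugation action of `H ≤ N_G(V)` on `V` -/
def conjOn (V H : Subgroup G) (hHV : H ≤ Subgroup.normalizer (V : Set G)) : H →* MulAut V where
  toFun h :=
    { toFun := fun v => ⟨(h : G) * (v : G) * (h : G)⁻¹,
        (Subgroup.mem_normalizer_iff.mp (hHV h.2) v).mp v.2⟩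
      invFun := fun v => ⟨(h : G)⁻¹ * (v : G) * (h : G), by
        have := (Subgroup.mem_normalizer_iff.mp (hHV (H.inv_mem h.2)) v).mp v.2
        simpa using this⟩
      left_inv := by
        intro v
        apply Subtype.ext
        change (h : G)⁻¹ * ((h : G) * (v : G) * (h : G)⁻¹) * (h : G) = v
        group
      right_inv := by
        intro v
        apply Subtype.ext
        change (h : G) * ((h : G)⁻¹ * (v : G) * (h : G)) * (h : G)⁻¹ = v
        group
      map_mul' := by
        intro v w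
        apply Subtype.ext
        change (h : G) * ((v : G) * (w : G)) * (h : G)⁻¹ =
          ((h : G) * (v : G) * (h : G)⁻¹) * ((h : G) * (w : G) * (h : G)⁻¹)
        group }
  map_one' := by
    ext v
    change ((1 : H) : G) * (v : G) * ((1 : H) : G)⁻¹ = v
    simp
  map_mul' := by
    intro h k
    ext v
    change ((h * k : H) : G) * (v : G) * ((h * k : H) : G)⁻¹ =
      (h : G) * ((k : G) * (v : G) * (k : G)⁻¹) * (h : G)⁻¹
    rw [Subgroup.coe_mul]
    group

theorem conjOn_apply (V H : Subgroup G) (hHV : H ≤ Subgroup.normalizer (V : Set G)) (h : H)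
    (v : V) : ((conjOn V H hHV h v : V) : G) = (h : G) * (v : G) * (h : G)⁻¹ := rfl

theorem conjOn_injective (V H : Subgroup G) (hHV : H ≤ Subgroup.normalizer (V : Set G))
    (hf : H ⊓ Subgroup.centralizer (V : Set G) = ⊥) : Function.Injective (conjOn V H hHV) := by
  rw [injective_iff_map_eq_one]
  intro h hh
  have h1 : (h : G) ∈ H ⊓ Subgroup.centralizer (V : Set G) := by
    refine ⟨h.2, ?_⟩
    change (h : G) ∈ Subgroup.centralizer (V : Set G)
    rw [Subgroup.mem_centralizer_iff]
    intro v hv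
    have := congrArg (fun e : MulAut V => ((e ⟨v, hv⟩ : V) : G)) hh
    simp only [conjOn_apply, MulAut.one_apply] at this
    calc v * (h : G) = ((h : G) * v * (h : G)⁻¹) * (h : G) := by rw [this]
      _ = (h : G) * v := by group
  rw [hf, Subgroup.mem_bot] at h1
  exact Subtype.ext h1

/-- the commutator condition `[V, a, a] = 1` gives the quadratic identity -/
theorem conjOn_quad (V H : Subgroup G) [hVc : IsMulCommutative V]
    (hHV : H ≤ Subgroup.normalizer (V : Set G)) (a : H)
    (ha : ⁅⁅V, Subgroup.zpowers (a : G)⁆, Subgroup.zpowers (a : G)⁆ = ⊥) (u : V) :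
    conjOn V H hHV a (conjOn V H hHV a u) * u = conjOn V H hHV a u * conjOn V H hHV a u := by
  have h1 : ⁅⁅(u : G), (a : G)⁆, (a : G)⁆ = 1 := by
    have : ⁅⁅(u : G), (a : G)⁆, (a : G)⁆ ∈
        ⁅⁅V, Subgroup.zpowers (a : G)⁆, Subgroup.zpowers (a : G)⁆ :=
      Subgroup.commutator_mem_commutator
        (Subgroup.commutator_mem_commutator u.2 (Subgroup.mem_zpowers _)) (Subgroup.mem_zpowers _)
    rw [ha, Subgroup.mem_bot] at this
    exact this
  obtain ⟨α, hα⟩ : ∃ α : MulAut V, α = conjOn V H hHV a := ⟨_, rfl⟩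
  rw [← hα]
  -- w = u * (α u)⁻¹ is fixed by α
  have h2 : α (u * (α u)⁻¹) = u * (α u)⁻¹ := by
    apply Subtype.ext
    rw [hα, conjOn_apply]
    have e : ((u * (conjOn V H hHV a u)⁻¹ : V) : G) = ⁅(u : G), (a : G)⁆ := by
      rw [Subgroup.coe_mul, Subgroup.coe_inv, conjOn_apply, commutatorElement_def]
      group
    rw [e]
    rw [commutatorElement_eq_one_iff_mul_comm] at h1
    rw [← h1, mul_inv_cancel_right]
  rw [map_mul, map_inv] at h2
  obtain ⟨x1, hx1⟩ : ∃ x1, x1 = α u := ⟨_, rfl⟩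
  rw [← hx1] at h2 ⊢
  obtain ⟨x2, hx2⟩ : ∃ x2, x2 = α x1 := ⟨_, rfl⟩
  rw [← hx2] at h2 ⊢
  have e1 : u * x1⁻¹ * (x2 * x1) = u * x2 := by
    rw [mul_comm' x2 x1, ← mul_assoc, inv_mul_cancel_right]
  have e2 : x1 * x2⁻¹ * (x2 * x1) = x1 * x1 := by
    rw [← mul_assoc, inv_mul_cancel_right]
  rw [mul_comm' x2 u, ← e1, ← h2, e2]

end Cfsg.Agent.Lib.Helper1.QuadSL2
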