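import Mathlib
import Cfsg.Agent.Lib.Helper1.QuadDual4
set_option autoImplicit false
open scoped commutatorElement IsMulCommutative
universe u v w
namespace Cfsg.Agent.Lib.Helper1.QuadSL2

variable {G : Type u} [Group G]

theorem sylow_two_not_comm_of_quadratic_generators [Finite G] {p : ℕ} [Fact p.Prime] (hp : p ≠ 2)
    (V H : Subgroup G) (hV : Cfsg.IsElementaryAbelian p V)
    (hHV : H ≤ Subgroup.normalizer (V : Set G))
    (hf : H ⊓ Subgroup.centralizer (V : Set G) = ⊥) (a b : G)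
    (hab : H = Subgroup.closure {a, b})
    (ha : ⁅⁅V, Subgroup.zpowers a⁆, Subgroup.zpowers a⁆ = ⊥)
    (hb : ⁅⁅V, Subgroup.zpowers b⁆, Subgroup.zpowers b⁆ = ⊥)
    (hnp : ¬ IsPGroup p H) (T : Sylow 2 H) : ¬ IsMulCommutative T := by
  haveI : IsMulCommutative V := hV.1
  have haH : a ∈ H := by rw [hab]; exact Subgroup.subset_closure (by simp)
  have hbH : b ∈ H := by rw [hab]; exact Subgroup.subset_closure (by simp)
  exact sylow_two_not_comm_of_quadratic_pair (A := V) (Γ := H) hp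
    (fun u => Subtype.ext (hV.2 u u.2)) (conjOn V H hHV) (conjOn_injective V H hHV hf)
    ⟨a, haH⟩ ⟨b, hbH⟩ (closure_pair_eq_top H a b hab haH hbH)
    (conjOn_quad V H hHV ⟨a, haH⟩ ha) (conjOn_quad V H hHV ⟨b, hbH⟩ hb) hnp T

end Cfsg.Agent.Lib.Helper1.QuadSL2
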