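import Mathlib
import Cfsg.Agent.Lib.Helper1.QuadDual5
import Cfsg.Agent.Lib.Helper1.FrobeniusBasic
import Cfsg.Agent.Lib.Helper1.PCore
import Cfsg.Agent.Lib.Lead.BaerSuzuki
set_option autoImplicit false
open scoped commutatorElement Pointwise
universe u v w
namespace Cfsg.Agent.Lib.Helper1.QuadSL2

variable {G : Type u} [Group G]

theorem comm_of_isPGroup_of_comm_sylow [Finite G] {p : ℕ} [Fact p.Prime] (T : Sylow p G)
    (hT : ∀ x ∈ T, ∀ y ∈ T, x * y = y * x) (P : Subgroup G) (hP : IsPGroup p P) :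
    ∀ x ∈ P, ∀ y ∈ P, x * y = y * x := by
  obtain ⟨Q, hQ⟩ := hP.exists_le_sylow
  obtain ⟨g, hg⟩ := MulAction.exists_smul_eq G T Q
  have hmem : ∀ x ∈ P, g⁻¹ * x * g ∈ T := by
    intro x hx
    have h1 : x ∈ (Q : Subgroup G) := hQ hx
    rw [← hg, Sylow.coe_subgroup_smul] at h1
    exact mem_conj_smul_iff.mp h1
  intro x hx y hy
  have h1 := hT _ (hmem x hx) _ (hmem y hy)
  have h2 : g⁻¹ * (x * y) * g = g⁻¹ * (y * x) * g := by
    calc g⁻¹ * (x * y) * g = (g⁻¹ * x * g) * (g⁻¹ * y * g) := by group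
      _ = (g⁻¹ * y * g) * (g⁻¹ * x * g) := h1
      _ = g⁻¹ * (y * x) * g := by group
  exact mul_left_cancel (mul_right_cancel h2)

theorem map_conj_eq_of_mem_normalizer (V : Subgroup G) {g : G}
    (hg : g ∈ Subgroup.normalizer (V : Set G)) : V.map (MulAut.conj g).toMonoidHom = V := by
  ext x
  constructor
  · rintro ⟨v, hv, rfl⟩
    exact (Subgroup.mem_normalizer_iff.mp hg v).mp hv
  · intro hx
    refine ⟨g⁻¹ * x * g, ?_, ?_⟩
    · have := (Subgroup.mem_normalizer_iff.mp (Subgroup.inv_mem _ hg) x).mp hx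
      simpa using this
    · simp only [MulEquiv.coe_toMonoidHom, MulAut.conj_apply]
      group

theorem quad_conj (V : Subgroup G) (a g : G) (hg : g ∈ Subgroup.normalizer (V : Set G))
    (ha : ⁅⁅V, Subgroup.zpowers a⁆, Subgroup.zpowers a⁆ = ⊥) :
    ⁅⁅V, Subgroup.zpowers (g * a * g⁻¹)⁆, Subgroup.zpowers (g * a * g⁻¹)⁆ = ⊥ := by
  have h1 := congrArg (Subgroup.map (MulAut.conj g).toMonoidHom) ha
  rw [Subgroup.map_commutator, Subgroup.map_commutator, Subgroup.map_bot,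
    map_conj_eq_of_mem_normalizer V hg, MonoidHom.map_zpowers] at h1
  exact h1

end Cfsg.Agent.Lib.Helper1.QuadSL2
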