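import Mathlib
import Cfsg.Agent.Lib.Helper1.QuadStable1
set_option autoImplicit false
open scoped commutatorElement Pointwise
universe u v w
namespace Cfsg.Agent.Lib.Helper1.QuadSL2

variable {G : Type u} [Group G]

/-- Baer–Suzuki step: a quadratic element outside `O_p(H)` has a conjugate generating a
non-`p`-group with it -/
theorem exists_conj_not_isPGroup [Finite G] {p : ℕ} [Fact p.Prime] (H : Subgroup G) (a : G)
    (haH : a ∈ H) (hap : a ^ p = 1) (hna : a ∉ (Cfsg.pCore p H).map H.subtype) :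
    ∃ g ∈ H, ¬ IsPGroup p (Subgroup.closure {a, g * a * g⁻¹}) := by
  by_contra hcon
  push Not at hcon
  apply hna
  obtain ⟨a', ha'⟩ : ∃ a' : H, a' = ⟨a, haH⟩ := ⟨_, rfl⟩
  have hX : IsPGroup p (Subgroup.zpowers a') := by
    rintro ⟨y, hy⟩
    obtain ⟨k, rfl⟩ := Subgroup.mem_zpowers_iff.mp hy
    refine ⟨1, ?_⟩
    apply Subtype.ext
    rw [pow_one, Subgroup.coe_pow, Subgroup.coe_one, ← zpow_natCast, ← zpow_mul, mul_comm,
      zpow_mul, zpow_natCast]
    have : a' ^ p = 1 := by rw [ha']; exact Subtype.ext (by simpa using hap)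
    rw [this, one_zpow]
  have hpair : ∀ g : H, IsPGroup p
      ↥(Subgroup.zpowers a' ⊔ Cfsg.Agent.Lib.Lead.BaerSuzuki.cj (Subgroup.zpowers a') g) := by
    intro g
    have h1 := hcon g g.2
    have hle : (Subgroup.zpowers a' ⊔
        Cfsg.Agent.Lib.Lead.BaerSuzuki.cj (Subgroup.zpowers a') g).map H.subtype ≤
        Subgroup.closure {a, (g : G) * a * (g : G)⁻¹} := by
      rw [Subgroup.map_sup]
      apply sup_le
      · rw [MonoidHom.map_zpowers, Subgroup.zpowers_le]
        apply Subgroup.subset_closure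
        left
        rw [ha']; rfl
      · unfold Cfsg.Agent.Lib.Lead.BaerSuzuki.cj
        rw [MonoidHom.map_zpowers, MonoidHom.map_zpowers, Subgroup.zpowers_le]
        apply Subgroup.subset_closure
        right
        rw [ha']
        rfl
    rintro ⟨y, hy⟩
    obtain ⟨k, hk⟩ := h1 ⟨(y : G), hle (Subgroup.mem_map_of_mem _ hy)⟩
    refine ⟨k, ?_⟩
    apply Subtype.ext
    apply Subtype.ext
    have := congrArg Subtype.val hk
    simpa using this
  obtain ⟨N, hNn, hNp, hXN⟩ := Cfsg.Agent.Lib.Lead.BaerSuzuki.baer_suzuki _ hpair hX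
  have h1 : a' ∈ Cfsg.pCore p H := le_pCore hNn hNp (hXN (Subgroup.mem_zpowers a'))
  refine ⟨a', h1, ?_⟩
  rw [ha']; rfl

end Cfsg.Agent.Lib.Helper1.QuadSL2
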