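import Mathlib
import Cfsg.Agent.Lib.Helper1.QuadStable2
set_option autoImplicit false
open scoped commutatorElement Pointwise IsMulCommutative
universe u v w
namespace Cfsg.Agent.Lib.Helper1.QuadSL2

variable {G : Type u} [Group G]

/-- a quadratic element of a faithful group acting on `V` has order dividing `p` -/
theorem pow_eq_one_of_quad_faithful {p : ℕ} (V H : Subgroup G)
    (hV : Cfsg.IsElementaryAbelian p V) (hHV : H ≤ Subgroup.normalizer (V : Set G))
    (hf : H ⊓ Subgroup.centralizer (V : Set G) = ⊥) (a : G) (haH : a ∈ H)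
    (hq : ⁅⁅V, Subgroup.zpowers a⁆, Subgroup.zpowers a⁆ = ⊥) : a ^ p = 1 := by
  haveI : IsMulCommutative V := hV.1
  have h1 := pow_eq_one_of_quad (A := V) (p := p) (fun u => Subtype.ext (hV.2 u u.2))
    (conjOn V H hHV ⟨a, haH⟩) (conjOn_quad V H hHV ⟨a, haH⟩ hq)
  rw [← map_pow] at h1
  have h2 := conjOn_injective V H hHV hf (h1.trans (map_one _).symm)
  have := congrArg Subtype.val h2
  simpa using this

theorem sylow_two_not_comm_of_not_stable [Finite G] {p : ℕ} [Fact p.Prime] (hp : p ≠ 2)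
    (V H : Subgroup G) (hV : Cfsg.IsElementaryAbelian p V)
    (hHV : H ≤ Subgroup.normalizer (V : Set G))
    (hf : H ⊓ Subgroup.centralizer (V : Set G) = ⊥) (a : G) (haH : a ∈ H)
    (hq : ⁅⁅V, Subgroup.zpowers a⁆, Subgroup.zpowers a⁆ = ⊥)
    (hna : a ∉ (Cfsg.pCore p H).map H.subtype) (T : Sylow 2 H) : ¬ IsMulCommutative T := by
  intro hT
  haveI : Fact (Nat.Prime 2) := ⟨Nat.prime_two⟩
  have hap := pow_eq_one_of_quad_faithful V H hV hHV hf a haH hq
  obtain ⟨g, hgH, hnp⟩ := exists_conj_not_isPGroup H a haH hap hna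
  obtain ⟨H₀, hH₀⟩ : ∃ H₀ : Subgroup G, H₀ = Subgroup.closure {a, g * a * g⁻¹} := ⟨_, rfl⟩
  rw [← hH₀] at hnp
  have hbH : g * a * g⁻¹ ∈ H := H.mul_mem (H.mul_mem hgH haH) (H.inv_mem hgH)
  have hH₀H : H₀ ≤ H := by
    rw [hH₀, Subgroup.closure_le]
    rintro z (rfl | rfl)
    · exact haH
    · exact hbH
  have hf₀ : H₀ ⊓ Subgroup.centralizer (V : Set G) = ⊥ := by
    rw [eq_bot_iff, ← hf]
    exact inf_le_inf_right _ hH₀H
  have hqb := quad_conj V a g (hHV hgH) hq
  obtain ⟨T₀⟩ : Nonempty (Sylow 2 H₀) := inferInstance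
  apply sylow_two_not_comm_of_quadratic_generators hp V H₀ hV (le_trans hH₀H hHV) hf₀ a
    (g * a * g⁻¹) hH₀ hq hqb hnp T₀
  -- T₀ is abelian since T is
  have hTc : ∀ x ∈ T, ∀ y ∈ T, x * y = y * x := by
    intro x hx y hy
    have := mul_comm' (⟨x, hx⟩ : (T : Subgroup H)) ⟨y, hy⟩
    exact congrArg Subtype.val this
  have hP : IsPGroup 2 ((T₀ : Subgroup H₀).map (Subgroup.inclusion hH₀H)) := T₀.2.map _
  have hc := comm_of_isPGroup_of_comm_sylow T hTc _ hP
  constructor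
  constructor
  rintro ⟨x, hx⟩ ⟨y, hy⟩
  apply Subtype.ext
  have := hc _ (Subgroup.mem_map_of_mem _ hx) _ (Subgroup.mem_map_of_mem _ hy)
  rw [← map_mul, ← map_mul] at this
  exact Subgroup.inclusion_injective hH₀H this

end Cfsg.Agent.Lib.Helper1.QuadSL2
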