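import Mathlib
import Cfsg.Agent.Lib.Helper1.QuadStable3
set_option autoImplicit false
open scoped commutatorElement Pointwise IsMulCommutative
universe u v w
namespace Cfsg.Agent.Lib.Helper1.QuadSL2

/-- Baer–Suzuki step (whole group version) -/
theorem exists_conj_not_isPGroup' {Γ : Type w} [Group Γ] [Finite Γ] {p : ℕ} [Fact p.Prime]
    (a : Γ) (hap : a ^ p = 1) (hna : a ∉ Cfsg.pCore p Γ) :
    ∃ g : Γ, ¬ IsPGroup p (Subgroup.closure {a, g * a * g⁻¹}) := by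
  by_contra hcon
  push Not at hcon
  apply hna
  have hX : IsPGroup p (Subgroup.zpowers a) := by
    rintro ⟨y, hy⟩
    obtain ⟨k, rfl⟩ := Subgroup.mem_zpowers_iff.mp hy
    refine ⟨1, ?_⟩
    apply Subtype.ext
    rw [pow_one, Subgroup.coe_pow, Subgroup.coe_one, ← zpow_natCast, ← zpow_mul, mul_comm,
      zpow_mul, zpow_natCast, hap, one_zpow]
  have hpair : ∀ g : Γ, IsPGroup p
      ↥(Subgroup.zpowers a ⊔ Cfsg.Agent.Lib.Lead.BaerSuzuki.cj (Subgroup.zpowers a) g) := by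
    intro g
    have h1 := hcon g
    have hle : Subgroup.zpowers a ⊔ Cfsg.Agent.Lib.Lead.BaerSuzuki.cj (Subgroup.zpowers a) g ≤
        Subgroup.closure {a, g * a * g⁻¹} := by
      apply sup_le
      · rw [Subgroup.zpowers_le]
        exact Subgroup.subset_closure (by simp)
      · unfold Cfsg.Agent.Lib.Lead.BaerSuzuki.cj
        rw [MonoidHom.map_zpowers, Subgroup.zpowers_le]
        apply Subgroup.subset_closure
        right
        rfl
    exact h1.to_le hle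
  obtain ⟨N, hNn, hNp, hXN⟩ := Cfsg.Agent.Lib.Lead.BaerSuzuki.baer_suzuki _ hpair hX
  exact le_pCore hNn hNp (hXN (Subgroup.mem_zpowers a))

variable {A : Type v} [CommGroup A] {Γ : Type w} [Group Γ]

theorem quad_conj_aut (α γ : MulAut A) (h : ∀ u : A, α (α u) * u = α u * α u) (u : A) :
    (γ * α * γ⁻¹) ((γ * α * γ⁻¹) u) * u = (γ * α * γ⁻¹) u * (γ * α * γ⁻¹) u := by
  simp only [MulAut.mul_apply, MulAut.inv_apply, MulEquiv.symm_apply_apply]
  have h1 := h (γ.symm u)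
  have h2 := congrArg γ h1
  rw [map_mul, map_mul, MulEquiv.apply_symm_apply] at h2
  exact h2

/-- abstract form: in a faithful group with abelian Sylow 2-subgroups, quadratic elements lie in
`O_p` -/
theorem mem_pCore_of_quad_of_comm_sylow [Finite A] {p : ℕ} [hp : Fact p.Prime] (hp2 : p ≠ 2)
    (hexp : ∀ u : A, u ^ p = 1) [Finite Γ] (ψ : Γ →* MulAut A) (hψ : Function.Injective ψ)
    (a : Γ) (ha : ∀ u : A, ψ a (ψ a u) * u = ψ a u * ψ a u)
    (T : Sylow 2 Γ) (hT : IsMulCommutative T) : a ∈ Cfsg.pCore p Γ := by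
  by_contra hna
  haveI : Fact (Nat.Prime 2) := ⟨Nat.prime_two⟩
  have hap : a ^ p = 1 := by
    apply hψ
    rw [map_pow, map_one]
    exact pow_eq_one_of_quad hexp _ ha
  obtain ⟨g, hnp⟩ := exists_conj_not_isPGroup' a hap hna
  obtain ⟨Γ₀, hΓ₀⟩ : ∃ Γ₀ : Subgroup Γ, Γ₀ = Subgroup.closure {a, g * a * g⁻¹} := ⟨_, rfl⟩
  rw [← hΓ₀] at hnp
  have haΓ : a ∈ Γ₀ := by rw [hΓ₀]; exact Subgroup.subset_closure (by simp)
  have hbΓ : g * a * g⁻¹ ∈ Γ₀ := by rw [hΓ₀]; exact Subgroup.subset_closure (by simp)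
  obtain ⟨T₀⟩ : Nonempty (Sylow 2 Γ₀) := inferInstance
  have hb : ∀ u : A, ψ (g * a * g⁻¹) (ψ (g * a * g⁻¹) u) * u =
      ψ (g * a * g⁻¹) u * ψ (g * a * g⁻¹) u := by
    intro u
    rw [map_mul, map_mul, map_inv]
    exact quad_conj_aut (ψ a) (ψ g) ha u
  apply sylow_two_not_comm_of_quadratic_pair (A := A) (Γ := Γ₀) hp2 hexp (ψ.comp Γ₀.subtype)
    (hψ.comp Γ₀.subtype_injective) ⟨a, haΓ⟩ ⟨g * a * g⁻¹, hbΓ⟩
    (closure_pair_eq_top Γ₀ a (g * a * g⁻¹) hΓ₀ haΓ hbΓ) ha hb hnp T₀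
  have hTc : ∀ x ∈ T, ∀ y ∈ T, x * y = y * x := by
    intro x hx y hy
    have := mul_comm' (⟨x, hx⟩ : (T : Subgroup Γ)) ⟨y, hy⟩
    exact congrArg Subtype.val this
  have hP : IsPGroup 2 ((T₀ : Subgroup Γ₀).map Γ₀.subtype) := T₀.2.map _
  have hc := comm_of_isPGroup_of_comm_sylow T hTc _ hP
  constructor
  constructor
  rintro ⟨x, hx⟩ ⟨y, hy⟩
  apply Subtype.ext
  have := hc _ (Subgroup.mem_map_of_mem _ hx) _ (Subgroup.mem_map_of_mem _ hy)
  rw [← map_mul, ← map_mul] at this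
  exact Γ₀.subtype_injective this

end Cfsg.Agent.Lib.Helper1.QuadSL2
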