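import Mathlib
import Cfsg.Agent.Lib.Helper1.QuadStable4
set_option autoImplicit false
open scoped commutatorElement Pointwise IsMulCommutative
universe u v w
namespace Cfsg.Agent.Lib.Helper1.QuadSL2

theorem mk_mem_pCore_of_quad {X : Type u} [Group X] [Finite X] {U : Type v} [CommGroup U]
    [Finite U] {p : ℕ} [hp : Fact p.Prime] (hp2 : p ≠ 2) (hexp : ∀ u : U, u ^ p = 1)
    (θ : X →* MulAut U) (C : Subgroup X) [hCn : C.Normal] (hC : θ.ker = C) (a : X)
    (ha : ∀ u : U, θ a (θ a u) * u = θ a u * θ a u)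
    (hab : ∀ T : Sylow 2 X, IsMulCommutative T) :
    (QuotientGroup.mk a : X ⧸ C) ∈ Cfsg.pCore p (X ⧸ C) := by
  subst hC
  haveI : Fact (Nat.Prime 2) := ⟨Nat.prime_two⟩
  obtain ⟨T⟩ : Nonempty (Sylow 2 X) := inferInstance
  have hT := hab T
  apply mem_pCore_of_quad_of_comm_sylow hp2 hexp (QuotientGroup.kerLift θ)
    (QuotientGroup.kerLift_injective θ) _ _
    (T.mapSurjective (QuotientGroup.mk'_surjective θ.ker))
  · constructor
    constructor
    rintro ⟨_, ⟨t₁, ht₁, rfl⟩⟩ ⟨_, ⟨t₂, ht₂, rfl⟩⟩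
    apply Subtype.ext
    change QuotientGroup.mk' θ.ker t₁ * QuotientGroup.mk' θ.ker t₂ =
      QuotientGroup.mk' θ.ker t₂ * QuotientGroup.mk' θ.ker t₁
    rw [← map_mul, ← map_mul]
    congr 1
    have := mul_comm' (⟨t₁, ht₁⟩ : (T : Subgroup X)) ⟨t₂, ht₂⟩
    exact congrArg Subtype.val this
  · intro u
    rw [QuotientGroup.kerLift_mk]
    exact ha u

end Cfsg.Agent.Lib.Helper1.QuadSL2
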