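import Mathlib
import Cfsg.Agent.Lib.Helper1.QuadStable5
import Cfsg.Prelude.Def_PLocal
set_option autoImplicit false
open scoped commutatorElement Pointwise IsMulCommutative
universe u v w
namespace Cfsg.Agent.Lib.Helper1.QuadSL2

variable {G : Type u} [Group G]

/-- the commutator condition `[V, a, a] = 1` gives the quadratic identity for any automorphism of
`V` induced by conjugation with `a` -/
theorem quad_of_conj (V : Subgroup G) [hVc : IsMulCommutative V] (a : G) (α : MulAut V)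
    (hα : ∀ v : V, ((α v : V) : G) = a * (v : G) * a⁻¹)
    (ha : ⁅⁅V, Subgroup.zpowers a⁆, Subgroup.zpowers a⁆ = ⊥) (u : V) :
    α (α u) * u = α u * α u := by
  have h1 : ⁅⁅(u : G), a⁆, a⁆ = 1 := by
    have : ⁅⁅(u : G), a⁆, a⁆ ∈ ⁅⁅V, Subgroup.zpowers a⁆, Subgroup.zpowers a⁆ :=
      Subgroup.commutator_mem_commutator
        (Subgroup.commutator_mem_commutator u.2 (Subgroup.mem_zpowers _)) (Subgroup.mem_zpowers _)
    rw [ha, Subgroup.mem_bot] at this
    exact this
  have h2 : α (u * (α u)⁻¹) = u * (α u)⁻¹ := by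
    apply Subtype.ext
    rw [hα]
    have e : ((u * (α u)⁻¹ : V) : G) = ⁅(u : G), a⁆ := by
      rw [Subgroup.coe_mul, Subgroup.coe_inv, hα, commutatorElement_def]
      group
    rw [e]
    rw [commutatorElement_eq_one_iff_mul_comm] at h1
    rw [← h1, mul_inv_cancel_right]
  rw [map_mul, map_inv] at h2
  obtain ⟨x1, hx1⟩ : ∃ x1, x1 = α u := ⟨_, rfl⟩
  rw [← hx1] at h2 ⊢
  obtain ⟨x2, hx2⟩ : ∃ x2, x2 = α x1 := ⟨_, rfl⟩
  rw [← hx2] at h2 ⊢
  have e1 : u * x1⁻¹ * (x2 * x1) = u * x2 := by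
    rw [mul_comm' x2 x1, ← mul_assoc, inv_mul_cancel_right]
  have e2 : x1 * x2⁻¹ * (x2 * x1) = x1 * x1 := by
    rw [← mul_assoc, inv_mul_cancel_right]
  rw [mul_comm' x2 u, ← e1, ← h2, e2]

theorem conjNormal_ker (V : Subgroup G) [hVn : V.Normal] :
    (MulAut.conjNormal (H := V)).ker = Subgroup.centralizer (V : Set G) := by
  ext g
  rw [MonoidHom.mem_ker, Subgroup.mem_centralizer_iff]
  constructor
  · intro h v hv
    have := congrArg (fun e : MulAut V => ((e ⟨v, hv⟩ : V) : G)) h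
    simp only [MulAut.conjNormal_apply, MulAut.one_apply] at this
    calc v * g = (g * v * g⁻¹) * g := by rw [this]
      _ = g * v := by group
  · intro h
    ext v
    rw [MulAut.conjNormal_apply, MulAut.one_apply, ← h v v.2]
    group

theorem isPStableOn_of_comm_sylow [Finite G] {p : ℕ} [Fact p.Prime] (hp2 : p ≠ 2)
    (V : Subgroup G) [hVn : V.Normal] (hV : Cfsg.IsElementaryAbelian p V)
    (hab : ∀ T : Sylow 2 G, IsMulCommutative T) : Cfsg.IsPStableOn p V := by
  intro a ha
  haveI : IsMulCommutative V := hV.1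
  exact mk_mem_pCore_of_quad (U := V) hp2 (fun u => Subtype.ext (hV.2 u u.2))
    (MulAut.conjNormal (H := V)) _ (conjNormal_ker V) a
    (quad_of_conj V a _ (fun v => MulAut.conjNormal_apply a v) ha) hab

end Cfsg.Agent.Lib.Helper1.QuadSL2
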