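import Mathlib
import Cfsg.Agent.Lib.Helper1.QuadStable6
set_option autoImplicit false
open scoped commutatorElement Pointwise IsMulCommutative
universe u v w
namespace Cfsg.Agent.Lib.Helper1.QuadSL2

variable {G : Type u} [Group G]

theorem isPStableOnSection_of_comm_sylow [Finite G] {p : ℕ} [hp : Fact p.Prime] (hp2 : p ≠ 2)
    (K N : Subgroup G) [hKn : K.Normal] [hNn : N.Normal]
    (hel : Cfsg.IsElementaryAbelian p (K.map (QuotientGroup.mk' N)))
    (hab : ∀ T : Sylow 2 G, IsMulCommutative T) : Cfsg.IsPStableOnSection p K N := by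
  intro a ha
  obtain ⟨Kb, hKb⟩ : ∃ Kb : Subgroup (G ⧸ N), Kb = K.map (QuotientGroup.mk' N) := ⟨_, rfl⟩
  haveI hKbn : Kb.Normal := by
    rw [hKb]; exact hKn.map _ (QuotientGroup.mk'_surjective N)
  rw [← hKb] at hel
  haveI : IsMulCommutative Kb := hel.1
  obtain ⟨C, hC⟩ : ∃ C : Subgroup G, C = Cfsg.sectionKernel K N := ⟨_, rfl⟩
  haveI hCn : C.Normal := by
    rw [hC]; unfold Cfsg.sectionKernel
    rw [← hKb]
    infer_instance
  rw [← hC]
  let θ : G →* MulAut Kb := (MulAut.conjNormal (H := Kb)).comp (QuotientGroup.mk' N)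
  have hker : θ.ker = C := by
    rw [hC]; unfold Cfsg.sectionKernel
    rw [← hKb, ← conjNormal_ker Kb, MonoidHom.comap_ker]
  have hquadb : ⁅⁅Kb, Subgroup.zpowers (QuotientGroup.mk' N a)⁆,
      Subgroup.zpowers (QuotientGroup.mk' N a)⁆ = ⊥ := by
    rw [eq_bot_iff, hKb, ← MonoidHom.map_zpowers, ← Subgroup.map_commutator,
      ← Subgroup.map_commutator]
    calc Subgroup.map (QuotientGroup.mk' N) ⁅⁅K, Subgroup.zpowers a⁆, Subgroup.zpowers a⁆
        ≤ Subgroup.map (QuotientGroup.mk' N) N := Subgroup.map_mono ha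
      _ = ⊥ := QuotientGroup.map_mk'_self N
  have hmem := mk_mem_pCore_of_quad (X := G) (U := Kb) hp2 (fun u => Subtype.ext (hel.2 u u.2)) θ C
    hker a (quad_of_conj Kb (QuotientGroup.mk' N a) (θ a)
      (fun v => MulAut.conjNormal_apply _ v) hquadb) hab
  obtain ⟨Q, hQ⟩ : ∃ Q : Subgroup (G ⧸ C), Q = Cfsg.pCore p (G ⧸ C) := ⟨_, rfl⟩
  rw [← hQ] at hmem
  have hQn : Q.Normal := by rw [hQ]; exact pCore_normal p
  have hQp : IsPGroup p Q := by rw [hQ]; exact pCore_isPGroup p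
  have hCD : C ≤ Q.comap (QuotientGroup.mk' C) := by
    conv_lhs => rw [← QuotientGroup.ker_mk' C]
    exact Subgroup.ker_le_comap _ _
  refine ⟨Q.comap (QuotientGroup.mk' C), hQn.comap _, hCD, ?_, hmem⟩
  obtain ⟨k, hk⟩ := IsPGroup.iff_card.mp hQp
  refine ⟨k, ?_⟩
  have h1 := Subgroup.relIndex_mul_index hCD
  rw [Subgroup.index_comap_of_surjective Q (QuotientGroup.mk'_surjective C)] at h1
  have h2 : C.index = Nat.card Q * Q.index := by
    rw [Subgroup.card_mul_index, Subgroup.index_eq_card]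
  rw [h2, hk] at h1
  have hpos : 0 < Q.index := Nat.pos_of_ne_zero Subgroup.index_ne_zero_of_finite
  exact Nat.eq_of_mul_eq_mul_right hpos h1

end Cfsg.Agent.Lib.Helper1.QuadSL2
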