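import Mathlib
import Cfsg.Agent.Lib.Helper1.QuadStable7
import Cfsg.Agent.Lib.Helper1.FrattiniP
import Cfsg.Agent.Lib.Helper1.OmegaCenter
set_option autoImplicit false
open scoped commutatorElement Pointwise IsMulCommutative
universe u v w
namespace Cfsg.Agent.Lib.Helper1.QuadSL2

variable {G : Type u} [Group G]

theorem comm_sylow_subgroup [Finite G] (M : Subgroup G)
    (hab : ∀ T : Sylow 2 G, IsMulCommutative T) : ∀ T : Sylow 2 M, IsMulCommutative T := by
  intro T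
  haveI : Fact (Nat.Prime 2) := ⟨Nat.prime_two⟩
  obtain ⟨T₁⟩ : Nonempty (Sylow 2 G) := inferInstance
  have hT₁ := hab T₁
  have hTc : ∀ x ∈ T₁, ∀ y ∈ T₁, x * y = y * x := by
    intro x hx y hy
    have := mul_comm' (⟨x, hx⟩ : (T₁ : Subgroup G)) ⟨y, hy⟩
    exact congrArg Subtype.val this
  have hP : IsPGroup 2 ((T : Subgroup M).map M.subtype) := T.2.map _
  have hc := comm_of_isPGroup_of_comm_sylow T₁ hTc _ hP
  constructor
  constructor
  rintro ⟨x, hx⟩ ⟨y, hy⟩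
  apply Subtype.ext
  have := hc _ (Subgroup.mem_map_of_mem _ hx) _ (Subgroup.mem_map_of_mem _ hy)
  rw [← map_mul, ← map_mul] at this
  exact M.subtype_injective this

theorem isElementaryAbelian_of_map_le {p : ℕ} (M S : Subgroup G) (V : Subgroup M)
    (E : Subgroup S) (hE : Cfsg.IsElementaryAbelian p E)
    (h : V.map M.subtype ≤ E.map S.subtype) : Cfsg.IsElementaryAbelian p V := by
  haveI := hE.1
  have hmem : ∀ v ∈ V, ∃ e ∈ E, ((e : S) : G) = ((v : M) : G) := by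
    intro v hv
    obtain ⟨e, he, hev⟩ := h (Subgroup.mem_map_of_mem M.subtype hv)
    exact ⟨e, he, hev⟩
  refine ⟨⟨⟨?_⟩⟩, ?_⟩
  · rintro ⟨v, hv⟩ ⟨w, hw⟩
    obtain ⟨e₁, he₁, h₁⟩ := hmem v hv
    obtain ⟨e₂, he₂, h₂⟩ := hmem w hw
    apply Subtype.ext
    apply Subtype.ext
    change (v : G) * (w : G) = (w : G) * (v : G)
    rw [← h₁, ← h₂]
    have := mul_comm' (⟨e₁, he₁⟩ : E) ⟨e₂, he₂⟩
    have h3 := congrArg (fun t : E => ((t : S) : G)) this
    exact h3
  · intro v hv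
    obtain ⟨e₁, he₁, h₁⟩ := hmem v hv
    apply Subtype.ext
    change (v : G) ^ p = 1
    rw [← h₁]
    have := hE.2 e₁ he₁
    have h3 := congrArg (fun t : S => (t : G)) this
    simpa using h3

theorem isElementaryAbelian_map_mk_of_frattini [Finite G] {p : ℕ} [hp : Fact p.Prime]
    (P : Subgroup G) (hP : IsPGroup p P) (N : Subgroup G) [hNn : N.Normal]
    (hN : (frattini ↥P).map P.subtype ≤ N) :
    Cfsg.IsElementaryAbelian p (P.map (QuotientGroup.mk' N)) := by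
  have hcomm : ∀ x ∈ P, ∀ y ∈ P, ⁅x, y⁆ ∈ N := by
    intro x hx y hy
    apply hN
    refine ⟨⁅(⟨x, hx⟩ : P), ⟨y, hy⟩⁆, ?_, rfl⟩
    apply commutator_le_frattini_of_isPGroup p hP
    exact Subgroup.commutator_mem_commutator (Subgroup.mem_top _) (Subgroup.mem_top _)
  have hpow : ∀ x ∈ P, x ^ p ∈ N := by
    intro x hx
    apply hN
    exact ⟨(⟨x, hx⟩ : P) ^ p, pow_prime_mem_frattini_of_isPGroup p hP _, rfl⟩
  refine ⟨⟨⟨?_⟩⟩, ?_⟩
  · rintro ⟨_, ⟨x, hx, rfl⟩⟩ ⟨_, ⟨y, hy, rfl⟩⟩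
    apply Subtype.ext
    change QuotientGroup.mk' N x * QuotientGroup.mk' N y =
      QuotientGroup.mk' N y * QuotientGroup.mk' N x
    have h1 : QuotientGroup.mk' N ⁅x, y⁆ = 1 := (QuotientGroup.eq_one_iff _).mpr (hcomm x hx y hy)
    rw [map_commutatorElement, commutatorElement_eq_one_iff_mul_comm] at h1
    exact h1
  · rintro _ ⟨x, hx, rfl⟩
    rw [← map_pow]
    exact (QuotientGroup.eq_one_iff _).mpr (hpow x hx)

end Cfsg.Agent.Lib.Helper1.QuadSL2
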