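import Mathlib
import Cfsg.Agent.Lib.Helper1.QuadStable8
set_option autoImplicit false
open scoped commutatorElement Pointwise IsMulCommutative
universe u v w
namespace Cfsg.Agent.Lib.Helper1.QuadSL2

variable {G : Type u} [Group G]

theorem isActionPStable_of_comm_sylow [Finite G] {p : ℕ} [hp : Fact p.Prime] (hp2 : p ≠ 2)
    (hab : ∀ T : Sylow 2 G, IsMulCommutative T) : Cfsg.IsActionPStable p G := by
  refine ⟨?_, ?_, ?_⟩
  · intro V _ hV
    exact isPStableOn_of_comm_sylow hp2 V hV hab
  · apply isPStableOnSection_of_comm_sylow hp2 _ _ _ hab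
    exact isElementaryAbelian_map_mk_of_frattini _ (pCore_isPGroup p) _ le_rfl
  · intro S V _ hV
    apply isPStableOn_of_comm_sylow hp2 V _ (comm_sylow_subgroup _ hab)
    apply isElementaryAbelian_of_map_le _ _ V _ _ hV
    unfold Cfsg.omegaCenterThompson
    exact isElementaryAbelian_omegaOne_center p _

end Cfsg.Agent.Lib.Helper1.QuadSL2
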