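import Mathlib
import Cfsg.Agent.Lib.Helper1.Coprime
set_option autoImplicit false
open Pointwise

namespace Cfsg.Agent.Lib.Helper1

universe u v

/-- Glauberman's lemma, existence of a fixed point. -/
theorem glauberman_exists_fixed {G : Type u} [Group G] [Finite G] {X : Type v} [Nonempty X]
    [MulAction G X] (K H : Subgroup G) [hKn : K.Normal] (hc : Subgroup.IsComplement' K H)
    (hcop : (Nat.card K).Coprime K.index)
    (hsolv : Group.IsSolvable K ∨ Group.IsSolvable (G ⧸ K))
    (htrans : MulAction.IsPretransitive K X) :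
    ∃ x : X, ∀ h ∈ H, h • x = x := by
  obtain ⟨x₀⟩ := ‹Nonempty X›
  set S : Subgroup G := MulAction.stabilizer G x₀ with hS
  have hSK : S ⊔ K = ⊤ := by
    rw [eq_top_iff]
    intro g _
    obtain ⟨k, hk⟩ := MulAction.exists_smul_eq K x₀ (g • x₀)
    have hk' : (k : G) • x₀ = g • x₀ := hk
    have h1 : (k : G)⁻¹ * g ∈ S := by
      rw [hS, MulAction.mem_stabilizer_iff, mul_smul, ← hk', inv_smul_smul]
    have e : g = (k : G) * ((k : G)⁻¹ * g) := by group
    rw [e, sup_comm]
    exact Subgroup.mul_mem_sup k.2 h1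
  have hKSn : (K.subgroupOf S).Normal := hKn.subgroupOf S
  have hrel : K.relIndex S = K.index := by
    rw [← Subgroup.relIndex_sup_right S K, hSK, Subgroup.relIndex_top_right]
  have hcopS : (Nat.card (K.subgroupOf S)).Coprime (K.subgroupOf S).index := by
    have h1 : (K.subgroupOf S).index = K.index := hrel
    rw [h1]
    exact Nat.Coprime.coprime_dvd_left (card_subgroupOf_dvd K S) hcop
  obtain ⟨B', hB'⟩ := Subgroup.exists_right_complement'_of_coprime hcopS
  set B : Subgroup G := B'.map S.subtype with hB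
  have hBS : B ≤ S := Subgroup.map_subtype_le B'
  have hBcard : Nat.card B = K.index := by
    rw [hB, Subgroup.card_map_of_injective S.subtype_injective, ← hrel]
    exact hB'.symm.index_eq_card.symm
  have hcB : Subgroup.IsComplement' K B := by
    apply Subgroup.isComplement'_of_coprime
    · rw [hBcard]; exact K.card_mul_index
    · rw [hBcard]; exact hcop
  obtain ⟨g, hg⟩ := sz_conj K hcop hsolv B H hcB hc
  refine ⟨g • x₀, ?_⟩
  intro h hh
  rw [← hg, Subgroup.mem_pointwise_smul_iff_inv_smul_mem] at hh
  have h1 : g⁻¹ * h * g ∈ S := hBS (by simpa using hh)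
  rw [hS, MulAction.mem_stabilizer_iff] at h1
  calc h • g • x₀ = g • ((g⁻¹ * h * g) • x₀) := by simp [mul_smul]
    _ = g • x₀ := by rw [h1]


/-- Glauberman's lemma, transitivity of the centraliser on fixed points. -/
theorem glauberman_fixed_conj {G : Type u} [Group G] [Finite G] {X : Type v}
    [MulAction G X] (K H : Subgroup G) [hKn : K.Normal] (hc : Subgroup.IsComplement' K H)
    (hcop : (Nat.card K).Coprime K.index)
    (hsolv : Group.IsSolvable K ∨ Group.IsSolvable (G ⧸ K))
    (htrans : MulAction.IsPretransitive K X)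
    (x y : X) (hx : ∀ h ∈ H, h • x = x) (hy : ∀ h ∈ H, h • y = y) :
    ∃ k ∈ K ⊓ Subgroup.centralizer (H : Set G), k • x = y := by
  obtain ⟨k, hk⟩ := MulAction.exists_smul_eq K x y
  have hk' : (k : G) • x = y := hk
  set S : Subgroup G := MulAction.stabilizer G y with hS
  have hHS : H ≤ S := fun h hh => by rw [hS, MulAction.mem_stabilizer_iff]; exact hy h hh
  set H' : Subgroup G := MulAut.conj (k : G) • H with hH'
  have hH'S : H' ≤ S := by
    intro z hz
    rw [hH', Subgroup.mem_pointwise_smul_iff_inv_smul_mem] at hz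
    have hz' : (k : G)⁻¹ * z * k ∈ H := by simpa using hz
    rw [hS, MulAction.mem_stabilizer_iff]
    have := hx _ hz'
    calc z • y = (k : G) • (((k : G)⁻¹ * z * k) • x) := by rw [← hk']; simp [mul_smul]
      _ = y := by rw [this, hk']
  have hcH' : Subgroup.IsComplement' K H' := isComplement'_conj_smul hc (k : G)
  have hH'card : Nat.card H' = Nat.card H := card_conj_smul (k : G) H
  have hidx : K.index = Nat.card H := hc.symm.index_eq_card
  have c1 := isComplement'_subgroupOf hcH' (Or.inr hH'S)
  have c2 := isComplement'_subgroupOf hc (Or.inr hHS)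
  have hKSn : (K.subgroupOf S).Normal := hKn.subgroupOf S
  have hcop' : (Nat.card (K.subgroupOf S)).Coprime (Nat.card (H'.subgroupOf S)) := by
    rw [card_subgroupOf_of_le hH'S, hH'card, ← hidx]
    exact Nat.Coprime.coprime_dvd_left (card_subgroupOf_dvd K S) hcop
  have hsolv' : Group.IsSolvable (K.subgroupOf S) ∨ Group.IsSolvable (H'.subgroupOf S) := by
    rcases hsolv with h | h
    · exact Or.inl (isSolvable_subgroupOf K S)
    · right
      let eH : G ⧸ K ≃* H := hc.symm.QuotientMulEquiv
      have : Group.IsSolvable H :=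
        Group.isSolvable_of_isSolvable_injective (f := eH.symm.toMonoidHom) eH.symm.injective
      have : Group.IsSolvable H' := isSolvable_conj_smul (k : G) H
      exact isSolvable_subgroupOf H' S
  obtain ⟨c, hcK, hconj⟩ := sz_conj_mem (K.subgroupOf S) (H'.subgroupOf S) (H.subgroupOf S)
    c1 c2 hcop' hsolv'
  have h3 := conj_smul_of_subgroupOf hH'S hHS c hconj
  rw [hH', ← mul_smul, ← map_mul] at h3
  have hckK : (c : G) * k ∈ K := K.mul_mem (Subgroup.mem_subgroupOf.mp hcK) k.2
  have hHnorm : H ≤ Subgroup.normalizer (K : Set G) := by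
    rw [Subgroup.normalizer_eq_top_iff.mpr hKn]; exact le_top
  have hcent := mem_centralizer_of_conj_smul_eq hHnorm hc.symm.disjoint hckK h3
  refine ⟨(c : G) * k, ⟨hckK, hcent⟩, ?_⟩
  rw [mul_smul, hk']
  have hcS : (c : G) ∈ MulAction.stabilizer G y := c.2
  exact MulAction.mem_stabilizer_iff.mp hcS

end Cfsg.Agent.Lib.Helper1
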