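import Mathlib
import Cfsg.Agent.Lib.Helper1.Glauberman
set_option autoImplicit false
open Pointwise

namespace Cfsg.Agent.Lib.Helper1

universe u

variable {G : Type u} [Group G]

theorem le_normalizer_of_conj_mem {S H : Subgroup G}
    (h : ∀ g ∈ S, ∀ x ∈ H, g * x * g⁻¹ ∈ H) : S ≤ Subgroup.normalizer (H : Set G) := by
  intro g hg
  rw [Subgroup.mem_normalizer_iff]
  intro x
  constructor
  · exact h g hg x
  · intro hx
    have := h g⁻¹ (S.inv_mem hg) _ hx
    have e : g⁻¹ * (g * x * g⁻¹) * g⁻¹⁻¹ = x := by group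
    rwa [e] at this

/-- Conjugation action of a subgroup normalising `K` on `K`. -/
@[reducible] def conjActOfLeNormalizer (Γ K : Subgroup G) (h : Γ ≤ Subgroup.normalizer (K : Set G)) :
    MulDistribMulAction Γ K where
  smul g k := ⟨(g : G) * k * (g : G)⁻¹, (Subgroup.mem_normalizer_iff.mp (h g.2) k).mp k.2⟩
  one_smul k := by
    apply Subtype.ext
    show ((1 : Γ) : G) * k * ((1 : Γ) : G)⁻¹ = k
    simp
  mul_smul g₁ g₂ k := by
    apply Subtype.ext
    show ((g₁ * g₂ : Γ) : G) * k * ((g₁ * g₂ : Γ) : G)⁻¹ = (g₁ : G) * ((g₂ : G) * k * (g₂ : G)⁻¹) * (g₁ : G)⁻¹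
    simp [mul_assoc]
  smul_mul g k₁ k₂ := by
    apply Subtype.ext
    show (g : G) * ((k₁ * k₂ : K) : G) * (g : G)⁻¹ = ((g : G) * k₁ * (g : G)⁻¹) * ((g : G) * k₂ * (g : G)⁻¹)
    simp [mul_assoc]
  smul_one g := by
    apply Subtype.ext
    show (g : G) * ((1 : K) : G) * (g : G)⁻¹ = ((1 : K) : G)
    simp

theorem conjActOfLeNormalizer_smul_coe (Γ K : Subgroup G) (h : Γ ≤ Subgroup.normalizer (K : Set G))
    (g : Γ) (k : K) :
    letI := conjActOfLeNormalizer Γ K h
    ((g • k : K) : G) = (g : G) * k * (g : G)⁻¹ := rfl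


/-- The data for applying Glauberman's lemma to `A` acting on `K` inside `K ⊔ A`. -/
theorem coprime_action_data [Finite G] (A K : Subgroup G)
    (hAK : A ≤ Subgroup.normalizer (K : Set G))
    (hcop : (Nat.card A).Coprime (Nat.card K)) (hsolv : Group.IsSolvable A ∨ Group.IsSolvable K) :
    (K.subgroupOf (K ⊔ A)).Normal ∧
    Subgroup.IsComplement' (K.subgroupOf (K ⊔ A)) (A.subgroupOf (K ⊔ A)) ∧
    (Nat.card (K.subgroupOf (K ⊔ A))).Coprime (K.subgroupOf (K ⊔ A)).index ∧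
    (Group.IsSolvable (K.subgroupOf (K ⊔ A)) ∨
      ∀ [(K.subgroupOf (K ⊔ A)).Normal], Group.IsSolvable ((K ⊔ A : Subgroup G) ⧸ K.subgroupOf (K ⊔ A))) := by
  have hdisj : Disjoint K A := Subgroup.disjoint_of_coprime_natCard hcop.symm
  obtain ⟨hn, hc⟩ := isComplement'_subgroupOf_sup hAK hdisj
  refine ⟨hn, hc, ?_, ?_⟩
  · rw [hc.symm.index_eq_card, card_subgroupOf_of_le le_sup_left, card_subgroupOf_of_le le_sup_right]
    exact hcop.symm
  · rcases hsolv with h | h
    · right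
      intro hn'
      let e : (K ⊔ A : Subgroup G) ⧸ K.subgroupOf (K ⊔ A) ≃* A.subgroupOf (K ⊔ A) :=
        hc.symm.QuotientMulEquiv
      have : Group.IsSolvable (A.subgroupOf (K ⊔ A)) := isSolvable_subgroupOf A _
      exact Group.isSolvable_of_isSolvable_injective (f := e.toMonoidHom) e.injective
    · exact Or.inl (isSolvable_subgroupOf K _)


theorem mem_conjAct_smul_iff (Γ K : Subgroup G) (h : Γ ≤ Subgroup.normalizer (K : Set G))
    (γ : Γ) (P : Subgroup K) (y : K) :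
    letI := conjActOfLeNormalizer Γ K h
    y ∈ γ • P ↔ ∃ z ∈ P, (γ : G) * z * (γ : G)⁻¹ = y := by
  let _ := conjActOfLeNormalizer Γ K h
  rw [Subgroup.mem_smul_pointwise_iff_exists]
  constructor
  · rintro ⟨z, hz, rfl⟩
    exact ⟨z, hz, rfl⟩
  · rintro ⟨z, hz, hzy⟩
    exact ⟨z, hz, Subtype.ext hzy⟩

theorem conjAct_sylow_pretransitive [Finite G] (A K : Subgroup G)
    (hΓ : K ⊔ A ≤ Subgroup.normalizer (K : Set G)) (p : ℕ) [Fact p.Prime] :
    letI := conjActOfLeNormalizer (K ⊔ A) K hΓ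
    MulAction.IsPretransitive (K.subgroupOf (K ⊔ A)) (Sylow p K) := by
  let _ := conjActOfLeNormalizer (K ⊔ A) K hΓ
  constructor
  intro P Q
  obtain ⟨k, hk⟩ := MulAction.exists_smul_eq K P Q
  refine ⟨⟨⟨k, (le_sup_left : K ≤ K ⊔ A) k.2⟩, k.2⟩, ?_⟩
  rw [← hk]
  apply Sylow.ext
  ext y
  rw [Sylow.coe_subgroup_smul]
  show y ∈ ((⟨k, (le_sup_left : K ≤ K ⊔ A) k.2⟩ : (K ⊔ A : Subgroup G)) • (P : Subgroup K)) ↔ _
  rw [mem_conjAct_smul_iff, Subgroup.mem_smul_pointwise_iff_exists]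
  constructor
  · rintro ⟨z, hz, hzy⟩
    exact ⟨z, hz, Subtype.ext (by simpa using hzy)⟩
  · rintro ⟨z, hz, rfl⟩
    exact ⟨z, hz, by simp⟩


/-- `A`-invariance of a Sylow subgroup of `K` in terms of the conjugation action. -/
theorem conjAct_sylow_fixed_iff (A K : Subgroup G)
    (hΓ : K ⊔ A ≤ Subgroup.normalizer (K : Set G)) (p : ℕ) (P : Sylow p K) :
    letI := conjActOfLeNormalizer (K ⊔ A) K hΓ
    (∀ a ∈ A.subgroupOf (K ⊔ A), a • P = P) ↔
      A ≤ Subgroup.normalizer ((P : Subgroup K).map K.subtype : Set G) := by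
  let _ := conjActOfLeNormalizer (K ⊔ A) K hΓ
  constructor
  · intro h
    apply le_normalizer_of_conj_mem
    rintro a ha x ⟨y, hy, rfl⟩
    have h1 := h ⟨a, (le_sup_right : A ≤ K ⊔ A) ha⟩ ha
    have h2 : (⟨a, (le_sup_right : A ≤ K ⊔ A) ha⟩ : (K ⊔ A : Subgroup G)) • y ∈
        (⟨a, (le_sup_right : A ≤ K ⊔ A) ha⟩ : (K ⊔ A : Subgroup G)) • (P : Subgroup K) :=
      Subgroup.smul_mem_pointwise_smul y _ _ hy
    rw [← Sylow.pointwise_smul_def, h1] at h2
    exact ⟨_, h2, rfl⟩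
  · intro h a ha
    apply Sylow.ext
    rw [Sylow.pointwise_smul_def]
    ext y
    rw [mem_conjAct_smul_iff]
    have hnorm := Subgroup.mem_normalizer_iff.mp (h (Subgroup.mem_subgroupOf.mp ha))
    constructor
    · rintro ⟨z, hz, hzy⟩
      have h1 : (z : G) ∈ (P : Subgroup K).map K.subtype := ⟨z, hz, rfl⟩
      obtain ⟨w, hw, hwy⟩ := (hnorm z).mp h1
      have : w = y := Subtype.ext (by rw [← hzy]; exact hwy)
      rw [← this]; exact hw
    · intro hy
      have h1 : (y : G) ∈ (P : Subgroup K).map K.subtype := ⟨y, hy, rfl⟩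
      have h2 : ((a : G)⁻¹ * y * (a : G)) ∈ (P : Subgroup K).map K.subtype := by
        rw [hnorm]
        have e : (a : G) * ((a : G)⁻¹ * y * (a : G)) * (a : G)⁻¹ = y := by group
        rw [e]; exact h1
      obtain ⟨w, hw, hwy⟩ := h2
      refine ⟨w, hw, ?_⟩
      have hwy' : (w : G) = (a : G)⁻¹ * y * (a : G) := hwy
      rw [hwy']; group

/-- Coprime action: there is an `A`-invariant Sylow `p`-subgroup of `K`. -/
theorem coprime_exists_invariant_sylow [Finite G] (A K : Subgroup G)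
    (hAK : A ≤ Subgroup.normalizer (K : Set G))
    (hcop : (Nat.card A).Coprime (Nat.card K)) (hsolv : Group.IsSolvable A ∨ Group.IsSolvable K)
    (p : ℕ) [Fact p.Prime] :
    ∃ P : Sylow p K, A ≤ Subgroup.normalizer ((P : Subgroup K).map K.subtype : Set G) := by
  have hΓ : K ⊔ A ≤ Subgroup.normalizer (K : Set G) := sup_le Subgroup.le_normalizer hAK
  let _ := conjActOfLeNormalizer (K ⊔ A) K hΓ
  obtain ⟨hn, hc, hcop', hsolv'⟩ := coprime_action_data A K hAK hcop hsolv
  have hsolv'' : Group.IsSolvable (K.subgroupOf (K ⊔ A)) ∨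
      Group.IsSolvable ((K ⊔ A : Subgroup G) ⧸ K.subgroupOf (K ⊔ A)) := by
    rcases hsolv' with h | h
    · exact Or.inl h
    · exact Or.inr h
  obtain ⟨P, hP⟩ := glauberman_exists_fixed (X := Sylow p K) (K.subgroupOf (K ⊔ A))
    (A.subgroupOf (K ⊔ A)) hc hcop' hsolv'' (conjAct_sylow_pretransitive A K hΓ p)
  exact ⟨P, (conjAct_sylow_fixed_iff A K hΓ p P).mp hP⟩


/-- Coprime action: two `A`-invariant Sylow `p`-subgroups of `K` are conjugate under `C_K(A)`. -/
theorem coprime_invariant_sylow_conj [Finite G] (A K : Subgroup G)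
    (hAK : A ≤ Subgroup.normalizer (K : Set G))
    (hcop : (Nat.card A).Coprime (Nat.card K)) (hsolv : Group.IsSolvable A ∨ Group.IsSolvable K)
    (p : ℕ) [Fact p.Prime] (P Q : Sylow p K)
    (hP : A ≤ Subgroup.normalizer ((P : Subgroup K).map K.subtype : Set G))
    (hQ : A ≤ Subgroup.normalizer ((Q : Subgroup K).map K.subtype : Set G)) :
    ∃ c : K, (c : G) ∈ Subgroup.centralizer (A : Set G) ∧ MulAut.conj c • P = Q := by
  have hΓ : K ⊔ A ≤ Subgroup.normalizer (K : Set G) := sup_le Subgroup.le_normalizer hAK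
  let _ := conjActOfLeNormalizer (K ⊔ A) K hΓ
  obtain ⟨hn, hc, hcop', hsolv'⟩ := coprime_action_data A K hAK hcop hsolv
  have hsolv'' : Group.IsSolvable (K.subgroupOf (K ⊔ A)) ∨
      Group.IsSolvable ((K ⊔ A : Subgroup G) ⧸ K.subgroupOf (K ⊔ A)) := by
    rcases hsolv' with h | h
    · exact Or.inl h
    · exact Or.inr h
  obtain ⟨k, ⟨hkK, hkC⟩, hkPQ⟩ := glauberman_fixed_conj (X := Sylow p K) (K.subgroupOf (K ⊔ A))
    (A.subgroupOf (K ⊔ A)) hc hcop' hsolv'' (conjAct_sylow_pretransitive A K hΓ p) P Q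
    ((conjAct_sylow_fixed_iff A K hΓ p P).mpr hP) ((conjAct_sylow_fixed_iff A K hΓ p Q).mpr hQ)
  refine ⟨⟨(k : G), Subgroup.mem_subgroupOf.mp hkK⟩, ?_, ?_⟩
  · rw [Subgroup.mem_centralizer_iff]
    intro a ha
    have := Subgroup.mem_centralizer_iff.mp hkC ⟨a, (le_sup_right : A ≤ K ⊔ A) ha⟩
      (Subgroup.mem_subgroupOf.mpr ha)
    exact congrArg Subtype.val this
  · rw [← hkPQ]
    apply Sylow.ext
    ext y
    rw [Sylow.pointwise_smul_def, Sylow.pointwise_smul_def, mem_conjAct_smul_iff,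
      Subgroup.mem_smul_pointwise_iff_exists]
    constructor
    · rintro ⟨z, hz, rfl⟩
      exact ⟨z, hz, by simp⟩
    · rintro ⟨z, hz, hzy⟩
      exact ⟨z, hz, Subtype.ext (by simpa using hzy)⟩

/-- If a `p`-subgroup `U ≤ K` has `p'`-index in `N_K(U)`, it has `p'`-index in `K`. -/
theorem not_dvd_relIndex_of_not_dvd_relIndex_normalizer [Finite G] (p : ℕ) [hp : Fact p.Prime]
    (K U : Subgroup G) (hUK : U ≤ K) (hU : IsPGroup p U)
    (h : ¬ p ∣ U.relIndex (K ⊓ Subgroup.normalizer (U : Set G))) : ¬ p ∣ U.relIndex K := by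
  intro hdvd
  apply h
  obtain ⟨n, hn⟩ := IsPGroup.iff_card.mp hU
  set V : Subgroup K := U.subgroupOf K with hV
  have hVcard : Nat.card V = p ^ n := by rw [hV, card_subgroupOf_of_le hUK, hn]
  have hK : p ^ (n + 1) ∣ Nat.card K := by
    rw [← V.card_mul_index, hVcard, pow_succ]
    exact Nat.mul_dvd_mul_left _ hdvd
  have h1 := Sylow.prime_dvd_card_quotient_normalizer hK hVcard
  have h2 : Nat.card (↥(Subgroup.normalizer (V : Set K)) ⧸
      Subgroup.comap ((Subgroup.normalizer (V : Set K)).subtype) V) =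
      V.relIndex (Subgroup.normalizer (V : Set K)) := rfl
  have h3 : (Subgroup.normalizer (U : Set G)).subgroupOf K =
      (Subgroup.normalizer (U : Set G) ⊓ K).subgroupOf K := (Subgroup.inf_subgroupOf_right _ _).symm
  rw [h2, hV, ← Subgroup.subgroupOf_normalizer_eq hUK, h3,
    Subgroup.relIndex_subgroupOf inf_le_right, inf_comm] at h1
  exact h1


/-- Coprime action: an `A`-invariant `p`-subgroup of `K` lies in an `A`-invariant
Sylow `p`-subgroup of `K`. -/
theorem coprime_invariant_le_sylow [Finite G] (A K : Subgroup G)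
    (hAK : A ≤ Subgroup.normalizer (K : Set G))
    (hcop : (Nat.card A).Coprime (Nat.card K)) (hsolv : Group.IsSolvable A ∨ Group.IsSolvable K)
    (p : ℕ) [Fact p.Prime] (U : Subgroup G) (hUK : U ≤ K) (hU : IsPGroup p U)
    (hUA : A ≤ Subgroup.normalizer (U : Set G)) :
    ∃ P : Sylow p K, U ≤ (P : Subgroup K).map K.subtype ∧
      A ≤ Subgroup.normalizer ((P : Subgroup K).map K.subtype : Set G) := by
  let S : Set (Subgroup G) :=
    {V | U ≤ V ∧ V ≤ K ∧ IsPGroup p V ∧ A ≤ Subgroup.normalizer (V : Set G)}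
  have hS : S.Finite := Set.toFinite S
  obtain ⟨U', hUU', hmax⟩ := hS.exists_le_maximal (show U ∈ S from ⟨le_rfl, hUK, hU, hUA⟩)
  obtain ⟨-, hU'K, hU'p, hU'A⟩ := hmax.prop
  set N : Subgroup G := K ⊓ Subgroup.normalizer (U' : Set G) with hN
  have hNK : N ≤ K := inf_le_left
  have hU'N : U' ≤ N := le_inf hU'K Subgroup.le_normalizer
  have hNA : A ≤ Subgroup.normalizer (N : Set G) :=
    le_normalizer_inf hAK (hU'A.trans Subgroup.le_normalizer)
  have hcopN : (Nat.card A).Coprime (Nat.card N) :=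
    Nat.Coprime.coprime_dvd_right (Subgroup.card_dvd_of_le hNK) hcop
  have hsolvN : Group.IsSolvable A ∨ Group.IsSolvable N := by
    rcases hsolv with h | h
    · exact Or.inl h
    · exact Or.inr (isSolvable_of_le hNK)
  obtain ⟨Q, hQA⟩ := coprime_exists_invariant_sylow A N hNA hcopN hsolvN p
  set Q' : Subgroup G := (Q : Subgroup N).map N.subtype with hQ'
  have hQ'N : Q' ≤ N := Subgroup.map_subtype_le _
  have hU'n : (U'.subgroupOf N).Normal :=
    (Subgroup.normal_subgroupOf_iff_le_normalizer hU'N).mpr inf_le_right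
  have hpg : IsPGroup p (U'.subgroupOf N) := hU'p.comap_subtype
  have hU'Q : U'.subgroupOf N ≤ Q := hpg.le_sylow_of_normal Q
  have hU'Q' : U' ≤ Q' := by
    have := Subgroup.map_mono (f := N.subtype) hU'Q
    rwa [Subgroup.subgroupOf_map_subtype, inf_of_le_left hU'N] at this
  have hQ'S : Q' ∈ S := ⟨hUU'.trans hU'Q', hQ'N.trans hNK, Q.isPGroup'.map _, hQA⟩
  have hQ'eq : Q' = U' := le_antisymm (hmax.le_of_ge hQ'S hU'Q') hU'Q'
  have hidx : ¬ p ∣ U'.relIndex N := by
    have h1 : U'.subgroupOf N = Q := by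
      rw [← hQ'eq, hQ']
      exact Subgroup.comap_map_eq_self_of_injective N.subtype_injective _
    have := Q.not_dvd_index
    rwa [← h1] at this
  have hidxK := not_dvd_relIndex_of_not_dvd_relIndex_normalizer p K U' hU'K hU'p hidx
  let P : Sylow p K := (hU'p.comap_subtype (K := K)).toSylow hidxK
  have hPmap : (P : Subgroup K).map K.subtype = U' := by
    show (U'.subgroupOf K).map K.subtype = U'
    rw [Subgroup.subgroupOf_map_subtype, inf_of_le_left hU'K]
  exact ⟨P, by rw [hPmap]; exact hUU', by rw [hPmap]; exact hU'A⟩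

end Cfsg.Agent.Lib.Helper1
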