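import Mathlib
import Cfsg.Agent.Lib.Helper1.Coprime
import Cfsg.Agent.Lib.Helper1.CoprimeSylow
open Pointwise

set_option autoImplicit false

namespace Cfsg.Agent.Lib.Helper1

universe u

variable {G : Type u} [Group G]

/-- conjugation by an element normalising `K`, as an automorphism of `K` -/
def conjEquivOfMemNormalizer (K : Subgroup G) (a : G) (ha : a ∈ Subgroup.normalizer (K : Set G)) :
    K ≃* K where
  toFun k := ⟨a * k * a⁻¹, (Subgroup.mem_normalizer_iff.mp ha k).mp k.2⟩
  invFun k := ⟨a⁻¹ * k * a, by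
    have := (Subgroup.mem_normalizer_iff.mp (Subgroup.inv_mem _ ha) k).mp k.2
    simpa using this⟩
  left_inv k := by
    apply Subtype.ext
    show a⁻¹ * (a * k * a⁻¹) * a = k
    group
  right_inv k := by
    apply Subtype.ext
    show a * (a⁻¹ * k * a) * a⁻¹ = k
    group
  map_mul' k₁ k₂ := by
    apply Subtype.ext
    show a * (k₁ * k₂ : G) * a⁻¹ = (a * k₁ * a⁻¹) * (a * k₂ * a⁻¹)
    group

theorem normalizer_le_normalizer_map_characteristic (K : Subgroup G) (C : Subgroup K)
    [hC : C.Characteristic] :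
    Subgroup.normalizer (K : Set G) ≤ Subgroup.normalizer ((C.map K.subtype : Subgroup G) : Set G) := by
  apply le_normalizer_of_conj_mem
  intro a ha x hx
  obtain ⟨c, hc, rfl⟩ := hx
  have h1 := Subgroup.characteristic_iff_map_eq.mp hC (conjEquivOfMemNormalizer K a ha)
  have h2 : (conjEquivOfMemNormalizer K a ha) c ∈ C := by
    rw [← h1]
    exact ⟨c, hc, rfl⟩
  exact ⟨_, h2, rfl⟩

theorem centralizes_of_trivial_on_frattini_quotient [Finite G] (A K : Subgroup G)
    (hAK : A ≤ Subgroup.normalizer (K : Set G))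
    (hcop : (Nat.card A).Coprime (Nat.card (frattini K)))
    (htriv : ∀ a ∈ A, ∀ k ∈ K, a * k * a⁻¹ * k⁻¹ ∈ (frattini K).map K.subtype) :
    A ≤ Subgroup.centralizer (K : Set G) := by
  set N : Subgroup G := (frattini K).map K.subtype with hN
  have hNK : N ≤ K := by
    rintro x ⟨c, -, rfl⟩
    exact c.2
  have hKN : K ≤ Subgroup.normalizer (N : Set G) :=
    Subgroup.le_normalizer.trans (normalizer_le_normalizer_map_characteristic K (frattini K))
  have hAN : A ≤ Subgroup.normalizer (N : Set G) :=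
    hAK.trans (normalizer_le_normalizer_map_characteristic K (frattini K))
  have hcardN : Nat.card N = Nat.card (frattini K) :=
    Subgroup.card_map_of_injective K.subtype_injective
  have hcopN : (Nat.card A).Coprime (Nat.card N) := by rw [hcardN]; exact hcop
  have hsolvN : Group.IsSolvable N := by
    have : Group.IsNilpotent (frattini K) := frattini_nilpotent
    exact isSolvable_map K.subtype (frattini K)
  have hdisj : Disjoint A N := Subgroup.disjoint_of_coprime_natCard hcopN
  -- every element of K is in C_K(A) * N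
  have key : ∀ k ∈ K, ∃ c ∈ K ⊓ Subgroup.centralizer (A : Set G), ∃ d ∈ N, k = c * d := by
    intro k hk
    have hx : ∀ a ∈ A, k⁻¹ * a * k * a⁻¹ ∈ N := by
      intro a ha
      have h1 := htriv a ha k⁻¹ (K.inv_mem hk)
      have h2 := N.inv_mem h1
      have e : (a * k⁻¹ * a⁻¹ * k⁻¹⁻¹)⁻¹ = k⁻¹ * a * k * a⁻¹ := by group
      rwa [e] at h2
    obtain ⟨d, hd, hconj⟩ := exists_conj_smul_eq_of_coset_fixed hAN hcopN (Or.inr hsolvN) k hx
    set x := d * k⁻¹ with hxdef
    have hxK : x ∈ K := K.mul_mem (hNK hd) (K.inv_mem hk)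
    have hxC : x ∈ Subgroup.centralizer (A : Set G) := by
      rw [Subgroup.mem_centralizer_iff]
      intro a ha
      -- x a x⁻¹ ∈ A
      have h1 : x * a * x⁻¹ ∈ A := by
        rw [← hconj]
        exact Subgroup.smul_mem_pointwise_smul a (MulAut.conj x) A ha
      have h2 : x * a * x⁻¹ * a⁻¹ ∈ A := A.mul_mem h1 (A.inv_mem ha)
      have h3 : x * a * x⁻¹ * a⁻¹ ∈ N := by
        have h4 := htriv a ha x⁻¹ (K.inv_mem hxK)
        have h5 := (Subgroup.mem_normalizer_iff.mp (hKN hxK) _).mp h4
        have e : x * (a * x⁻¹ * a⁻¹ * x⁻¹⁻¹) * x⁻¹ = x * a * x⁻¹ * a⁻¹ := by group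
        rwa [e] at h5
      have h6 : x * a * x⁻¹ * a⁻¹ = 1 := Subgroup.disjoint_def.mp hdisj h2 h3
      have h7 : x * a * x⁻¹ = a := by
        have := mul_inv_eq_one.mp h6
        exact this
      calc a * x = x * a * x⁻¹ * x := by rw [h7]
        _ = x * a := by group
    refine ⟨x⁻¹, ⟨K.inv_mem hxK, Subgroup.inv_mem _ hxC⟩, d, hd, ?_⟩
    rw [hxdef]; group
  -- nongeneration
  set C : Subgroup G := K ⊓ Subgroup.centralizer (A : Set G) with hC
  have hsup : C.subgroupOf K ⊔ frattini K = ⊤ := by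
    rw [eq_top_iff]
    intro k _
    obtain ⟨c, hc, d, hd, hkcd⟩ := key k k.2
    obtain ⟨d', hd', rfl⟩ := hd
    have e : k = ⟨c, hc.1⟩ * d' := by
      apply Subtype.ext
      exact hkcd
    rw [e]
    apply Subgroup.mul_mem_sup _ hd'
    rw [Subgroup.mem_subgroupOf]
    exact hc
  have htop := frattini_nongenerating hsup
  have hKC : K ≤ C := Subgroup.subgroupOf_eq_top.mp htop
  intro a ha
  rw [Subgroup.mem_centralizer_iff]
  intro k hk
  have := (hKC hk).2
  exact (Subgroup.mem_centralizer_iff.mp this a ha).symm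

end Cfsg.Agent.Lib.Helper1
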