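import Mathlib
import Cfsg.Prelude.Def_PLocal
import Cfsg.Agent.Lib.Helper1.PCore

/-! Elementwise forms of quadratic and trivial action, and the key conjugation argument used for
the stable normal closure. -/
set_option autoImplicit false
universe u v
open Cfsg
open scoped commutatorElement

namespace Cfsg.Agent.Lib.Helper1.StableQuad
variable {G : Type u} [Group G]

/-- `a` commutes with every element of `V`. -/
def CentE (V : Subgroup G) (a : G) : Prop := ∀ v ∈ V, a * v = v * a

/-- `a` commutes with every commutator `[v, a]`, `v ∈ V`. -/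
def QuadE (V : Subgroup G) (a : G) : Prop := ∀ v ∈ V, a * ⁅v, a⁆ = ⁅v, a⁆ * a

theorem centE_iff (V : Subgroup G) (a : G) :
    ⁅V, Subgroup.zpowers a⁆ = ⊥ ↔ CentE V a := by
  rw [Subgroup.commutator_eq_bot_iff_le_centralizer]
  constructor
  · intro h v hv
    have := h hv
    rw [Subgroup.mem_centralizer_iff] at this
    exact this a (Subgroup.mem_zpowers a)
  · intro h v hv
    rw [Subgroup.mem_centralizer_iff]
    intro y hy
    change y ∈ Subgroup.zpowers a at hy
    obtain ⟨k, rfl⟩ := Subgroup.mem_zpowers_iff.mp hy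
    exact ((Commute.zpow_left (h v hv) k)).eq

theorem comm_zpow_aux (a v : G) (h : a * ⁅v, a⁆ = ⁅v, a⁆ * a) (k : ℤ) :
    a * ⁅v, a ^ k⁆ = ⁅v, a ^ k⁆ * a := by
  have hc : Commute a ⁅v, a⁆ := h
  have hinv : ⁅v, a⁻¹⁆ = a⁻¹ * ⁅v, a⁆⁻¹ * a := by
    simp only [commutatorElement_def]; group
  have hc' : Commute a ⁅v, a⁻¹⁆ := by
    rw [hinv]
    have h1 : Commute a (a⁻¹ * ⁅v, a⁆⁻¹ * a) :=
      ((Commute.inv_right (Commute.refl a)).mul_right hc.inv_right).mul_right (Commute.refl a)
    exact h1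
  suffices hs : Commute a ⁅v, a ^ k⁆ from hs.eq
  induction k using Int.induction_on with
  | zero => simp [commutatorElement_def]
  | succ n ih =>
    have e : ⁅v, a ^ ((n : ℤ) + 1)⁆ = ⁅v, a ^ (n : ℤ)⁆ * (a ^ (n : ℤ) * ⁅v, a⁆ * (a ^ (n : ℤ))⁻¹) := by
      rw [zpow_add_one]
      simp only [commutatorElement_def]; group
    rw [e]
    have h2 : Commute a (a ^ (n : ℤ)) := (Commute.refl a).zpow_right _
    exact ih.mul_right ((h2.mul_right hc).mul_right h2.inv_right)
  | pred n ih =>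
    have e : ⁅v, a ^ (-(n : ℤ) - 1)⁆ =
        ⁅v, a ^ (-(n : ℤ))⁆ * (a ^ (-(n : ℤ)) * ⁅v, a⁻¹⁆ * (a ^ (-(n : ℤ)))⁻¹) := by
      rw [zpow_sub_one]
      simp only [commutatorElement_def]; group
    rw [e]
    have h2 : Commute a (a ^ (-(n : ℤ))) := (Commute.refl a).zpow_right _
    exact ih.mul_right ((h2.mul_right hc').mul_right h2.inv_right)

theorem quadE_iff (V : Subgroup G) (a : G) :
    ⁅⁅V, Subgroup.zpowers a⁆, Subgroup.zpowers a⁆ = ⊥ ↔ QuadE V a := by
  constructor
  · intro h v hv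
    have h1 : ⁅⁅v, a⁆, a⁆ ∈ ⁅⁅V, Subgroup.zpowers a⁆, Subgroup.zpowers a⁆ :=
      Subgroup.commutator_mem_commutator
        (Subgroup.commutator_mem_commutator hv (Subgroup.mem_zpowers _)) (Subgroup.mem_zpowers _)
    rw [h, Subgroup.mem_bot, commutatorElement_eq_one_iff_mul_comm] at h1
    exact h1.symm
  · intro h
    rw [centE_iff]
    have hle : ⁅V, Subgroup.zpowers a⁆ ≤ Subgroup.centralizer ({a} : Set G) := by
      rw [Subgroup.commutator_le]
      intro v hv y hy
      obtain ⟨k, rfl⟩ := Subgroup.mem_zpowers_iff.mp hy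
      rw [Subgroup.mem_centralizer_iff]
      intro b hb
      rw [Set.mem_singleton_iff] at hb
      subst hb
      exact comm_zpow_aux b v (h v hv) k
    intro w hw
    have := hle hw
    rw [Subgroup.mem_centralizer_iff] at this
    exact this a rfl

theorem QuadE.mono {U V : Subgroup G} {a : G} (h : QuadE V a) (hUV : U ≤ V) : QuadE U a :=
  fun v hv => h v (hUV hv)

theorem CentE.mono {U V : Subgroup G} {a : G} (h : CentE V a) (hUV : U ≤ V) : CentE U a :=
  fun v hv => h v (hUV hv)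

theorem CentE.quadE {V : Subgroup G} {a : G} (h : CentE V a) : QuadE V a := by
  intro v hv
  have : ⁅v, a⁆ = 1 := by
    rw [commutatorElement_eq_one_iff_mul_comm]; exact (h v hv).symm
  rw [this, mul_one, one_mul]

theorem quadE_map {H : Type v} [Group H] (f : G →* H) {V : Subgroup G} {a : G} (h : QuadE V a) :
    QuadE (V.map f) (f a) := by
  rintro _ ⟨v, hv, rfl⟩
  rw [← map_commutatorElement, ← map_mul, ← map_mul, h v hv]

theorem quadE_of_map {H : Type v} [Group H] (f : G →* H) (hf : Function.Injective f)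
    {V : Subgroup G} {a : G} (h : QuadE (V.map f) (f a)) : QuadE V a := by
  intro v hv
  apply hf
  have := h (f v) ⟨v, hv, rfl⟩
  rw [← map_commutatorElement, ← map_mul, ← map_mul] at this
  exact this

theorem centE_map {H : Type v} [Group H] (f : G →* H) {V : Subgroup G} {a : G} (h : CentE V a) :
    CentE (V.map f) (f a) := by
  rintro _ ⟨v, hv, rfl⟩
  rw [← map_mul, ← map_mul, h v hv]

theorem centE_of_map {H : Type v} [Group H] (f : G →* H) (hf : Function.Injective f)
    {V : Subgroup G} {a : G} (h : CentE (V.map f) (f a)) : CentE V a := by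
  intro v hv
  apply hf
  have := h (f v) ⟨v, hv, rfl⟩
  rw [← map_mul, ← map_mul] at this
  exact this

theorem quadE_conj (V : Subgroup G) [hV : V.Normal] {a : G} (h : QuadE V a) (g : G) :
    QuadE V (g * a * g⁻¹) := by
  intro v hv
  have hv' : g⁻¹ * v * g ∈ V := by
    have := hV.conj_mem v hv g⁻¹
    simpa using this
  have h1 := h _ hv'
  have e : ⁅v, g * a * g⁻¹⁆ = g * ⁅g⁻¹ * v * g, a⁆ * g⁻¹ := by
    simp only [commutatorElement_def]; group
  rw [e]
  calc g * a * g⁻¹ * (g * ⁅g⁻¹ * v * g, a⁆ * g⁻¹)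
      = g * (a * ⁅g⁻¹ * v * g, a⁆) * g⁻¹ := by group
    _ = g * (⁅g⁻¹ * v * g, a⁆ * a) * g⁻¹ := by rw [h1]
    _ = g * ⁅g⁻¹ * v * g, a⁆ * g⁻¹ * (g * a * g⁻¹) := by group

theorem quadE_mul_right (V : Subgroup G) [hV : V.Normal] {a c : G} (h : QuadE V a)
    (hc : c ∈ Subgroup.centralizer (V : Set G)) : QuadE V (a * c) := by
  intro v hv
  rw [Subgroup.mem_centralizer_iff] at hc
  have hcv : c * v⁻¹ = v⁻¹ * c := (hc v⁻¹ (V.inv_mem hv)).symm
  have e : ⁅v, a * c⁆ = ⁅v, a⁆ := by
    simp only [commutatorElement_def]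
    calc v * (a * c) * v⁻¹ * (a * c)⁻¹ = v * a * (c * v⁻¹) * c⁻¹ * a⁻¹ := by group
      _ = v * a * (v⁻¹ * c) * c⁻¹ * a⁻¹ := by rw [hcv]
      _ = v * a * v⁻¹ * a⁻¹ := by group
  rw [e]
  have hw : ⁅v, a⁆ ∈ V := by
    rw [commutatorElement_def]
    have h1 : a * v⁻¹ * a⁻¹ ∈ V := hV.conj_mem _ (V.inv_mem hv) a
    have h2 := V.mul_mem hv h1
    have e2 : v * (a * v⁻¹ * a⁻¹) = v * a * v⁻¹ * a⁻¹ := by group
    rwa [e2] at h2
  have hcw : c * ⁅v, a⁆ = ⁅v, a⁆ * c := (hc _ hw).symm
  calc a * c * ⁅v, a⁆ = a * (c * ⁅v, a⁆) := by group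
    _ = a * (⁅v, a⁆ * c) := by rw [hcw]
    _ = (a * ⁅v, a⁆) * c := by group
    _ = (⁅v, a⁆ * a) * c := by rw [h v hv]
    _ = ⁅v, a⁆ * (a * c) := by group

theorem centE_mul_right {V : Subgroup G} {a c : G} (h : CentE V a)
    (hc : c ∈ Subgroup.centralizer (V : Set G)) : CentE V (a * c) := by
  intro v hv
  rw [Subgroup.mem_centralizer_iff] at hc
  calc a * c * v = a * (c * v) := by group
    _ = a * (v * c) := by rw [(hc v hv).symm]
    _ = (a * v) * c := by group
    _ = (v * a) * c := by rw [h v hv]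
    _ = v * (a * c) := by group

theorem centE_iff_mem_centralizer (V : Subgroup G) (a : G) :
    CentE V a ↔ a ∈ Subgroup.centralizer (V : Set G) := by
  rw [Subgroup.mem_centralizer_iff]
  constructor
  · intro h v hv; exact (h v hv).symm
  · intro h v hv; exact (h v hv).symm

theorem centE_sSup (𝒰 : Set (Subgroup G)) (a : G) (h : ∀ U ∈ 𝒰, CentE U a) : CentE (sSup 𝒰) a := by
  have hle : sSup 𝒰 ≤ Subgroup.centralizer ({a} : Set G) := by
    apply sSup_le
    intro U hU v hv
    rw [Subgroup.mem_centralizer_iff]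
    intro b hb
    rw [Set.mem_singleton_iff] at hb
    subst hb
    exact h U hU v hv
  intro v hv
  have := hle hv
  rw [Subgroup.mem_centralizer_iff] at this
  exact this a rfl

end Cfsg.Agent.Lib.Helper1.StableQuad
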