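import Mathlib
import Cfsg.Prelude.Def_PLocal
import Cfsg.Agent.Lib.Helper1.PCore
import Cfsg.Agent.Lib.Helper1.StableQuad1
import Cfsg.Agent.Lib.Helper1.FrattiniAction

/-! Abelian normal subgroups of a Sylow `p`-subgroup lie in `O_p(G)` when the section
`O_p(G)/Φ(O_p(G))` is acted on `p`-stably and `O_p(G)` contains its centralizer. -/
set_option autoImplicit false
universe u v
open Cfsg
open scoped commutatorElement

namespace Cfsg.Agent.Lib.Helper1.StableQuad
variable {G : Type u} [Group G]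

theorem mem_sectionKernel_iff (K N : Subgroup G) [N.Normal] (a : G) :
    a ∈ sectionKernel K N ↔ ∀ k ∈ K, a * k * a⁻¹ * k⁻¹ ∈ N := by
  unfold sectionKernel
  rw [Subgroup.mem_comap, Subgroup.mem_centralizer_iff]
  constructor
  · intro h k hk
    have h1 := h (QuotientGroup.mk' N k) (Subgroup.mem_map_of_mem _ hk)
    rw [← QuotientGroup.eq_one_iff]
    have h1' : (QuotientGroup.mk k : G ⧸ N) * QuotientGroup.mk a =
        QuotientGroup.mk a * QuotientGroup.mk k := h1
    rw [QuotientGroup.mk_mul, QuotientGroup.mk_mul, QuotientGroup.mk_mul, ← h1',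
      QuotientGroup.mk_inv, QuotientGroup.mk_inv]
    group
  · intro h y hy
    obtain ⟨k, hk, rfl⟩ := hy
    have h1 := h k hk
    rw [← QuotientGroup.eq_one_iff] at h1
    change (QuotientGroup.mk k : G ⧸ N) * QuotientGroup.mk a =
        QuotientGroup.mk a * QuotientGroup.mk k
    rw [QuotientGroup.mk_mul, QuotientGroup.mk_mul, QuotientGroup.mk_mul,
      QuotientGroup.mk_inv, QuotientGroup.mk_inv] at h1
    calc (QuotientGroup.mk k : G ⧸ N) * QuotientGroup.mk a
        = ((QuotientGroup.mk a : G ⧸ N) * QuotientGroup.mk k * (QuotientGroup.mk a)⁻¹ *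
            (QuotientGroup.mk k)⁻¹)⁻¹ * (QuotientGroup.mk a * QuotientGroup.mk k) := by group
      _ = QuotientGroup.mk a * QuotientGroup.mk k := by rw [h1]; group

theorem isPGroup_sectionKernel_frattini [Finite G] {p : ℕ} [hp : Fact p.Prime] (Q : Subgroup G)
    [hQn : Q.Normal] (hQ : IsPGroup p Q) (hc : Subgroup.centralizer (Q : Set G) ≤ Q) :
    IsPGroup p (sectionKernel Q ((frattini ↥Q).map Q.subtype)) := by
  rintro ⟨y, hy⟩
  have hn0 : orderOf y ≠ 0 := (orderOf_pos y).ne'
  obtain ⟨e, m, hm, hem⟩ := Nat.exists_eq_pow_mul_and_not_dvd hn0 p hp.out.ne_one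
  obtain ⟨A, hA⟩ : ∃ A : Subgroup G, A = Subgroup.zpowers (y ^ (p ^ e)) := ⟨_, rfl⟩
  have hAK : A ≤ sectionKernel Q ((frattini ↥Q).map Q.subtype) := by
    rw [hA, Subgroup.zpowers_le]
    exact Subgroup.pow_mem _ hy _
  have hym : (y ^ (p ^ e)) ^ m = 1 := by
    rw [← pow_mul, ← hem]; exact pow_orderOf_eq_one y
  have hcardA : Nat.card A ∣ m := by
    rw [hA, Nat.card_zpowers]
    exact orderOf_dvd_of_pow_eq_one hym
  have hfr : IsPGroup p (frattini ↥Q) := hQ.to_subgroup _
  obtain ⟨j, hj⟩ := (IsPGroup.iff_card).mp hfr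
  have hcop : (Nat.card A).Coprime (Nat.card (frattini ↥Q)) := by
    rw [hj]
    apply Nat.Coprime.pow_right
    apply Nat.Coprime.coprime_dvd_left hcardA
    exact ((Nat.Prime.coprime_iff_not_dvd hp.out).mpr hm).symm
  have hle : A ≤ Subgroup.centralizer (Q : Set G) := by
    apply centralizes_of_trivial_on_frattini_quotient A Q _ hcop
    · intro a ha k hk
      exact (mem_sectionKernel_iff Q _ a).mp (hAK ha) k hk
    · rw [Subgroup.normalizer_eq_top]; exact le_top
  have hyQ : y ^ (p ^ e) ∈ Q := hc (hle (by rw [hA]; exact Subgroup.mem_zpowers _))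
  obtain ⟨i, hi⟩ := hQ ⟨y ^ (p ^ e), hyQ⟩
  refine ⟨e + i, ?_⟩
  apply Subtype.ext
  have hi' := congrArg Subtype.val hi
  simp only [Subgroup.coe_pow, Subgroup.coe_one] at hi' ⊢
  rw [pow_add, pow_mul]
  exact hi'

theorem le_pCore_of_abelian_normal_in_sylow [Finite G] {p : ℕ} [hp : Fact p.Prime]
    (hsec : IsPStableOnSection p (pCore p G) ((frattini ↥(pCore p G)).map (pCore p G).subtype))
    (hc : Subgroup.centralizer (pCore p G : Set G) ≤ pCore p G) (S : Sylow p G) (B : Subgroup G)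
    (hSB : (S : Subgroup G) ≤ Subgroup.normalizer (B : Set G))
    (hBc : ∀ x ∈ B, ∀ y ∈ B, x * y = y * x) : B ≤ pCore p G := by
  intro b hb
  have hQS : pCore p G ≤ S := pCore_le_sylow p S
  have hq : QuadE (pCore p G) b := by
    intro q hq
    have h1 : ⁅q, b⁆ ∈ B := by
      rw [commutatorElement_def]
      have h2 := (Subgroup.mem_normalizer_iff.mp (hSB (hQS hq)) b).mp hb
      exact B.mul_mem h2 (B.inv_mem hb)
    exact hBc b hb _ h1
  have hq' := (quadE_iff _ _).mpr hq
  obtain ⟨D, hDn, hKD, ⟨k, hk⟩, hbD⟩ := hsec b (by rw [hq']; exact bot_le)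
  have hKp := isPGroup_sectionKernel_frattini (pCore p G) (pCore_isPGroup p) hc
  obtain ⟨j, hj⟩ := (IsPGroup.iff_card).mp hKp
  have hcard : Nat.card D = p ^ (j + k) := by
    have h1 := Subgroup.relIndex_mul_relIndex ⊥ _ D bot_le hKD
    rw [Subgroup.relIndex_bot_left, Subgroup.relIndex_bot_left, hj, hk] at h1
    rw [← h1, pow_add]
  have hDp : IsPGroup p D := IsPGroup.of_card hcard
  exact le_pCore hDn hDp hbD

end Cfsg.Agent.Lib.Helper1.StableQuad
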