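import Mathlib
import Cfsg.Prelude.Def_PLocal
import Cfsg.Agent.Lib.Helper1.PCore
import Cfsg.Agent.Lib.Helper1.StableQuad4
import Cfsg.Agent.Lib.Helper1.QuadStable9

/-! Abelian Sylow 2-subgroups give `p`-stability on every normal `p`-subgroup. -/
set_option autoImplicit false
universe u v
open Cfsg
open scoped commutatorElement

namespace Cfsg.Agent.Lib.Helper1.NPC
open Cfsg.Agent.Lib.Helper1.StableQuad Cfsg.Agent.Lib.Helper1.QuadSL2
variable {G : Type u} [Group G]

theorem exists_pow_mem_centralizer_of_mem_sectionKernel [Finite G] {p : ℕ} [hp : Fact p.Prime]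
    (Q : Subgroup G) [hQn : Q.Normal] (hQ : IsPGroup p Q) (y : G)
    (hy : y ∈ sectionKernel Q ((frattini ↥Q).map Q.subtype)) :
    ∃ e : ℕ, y ^ (p ^ e) ∈ Subgroup.centralizer (Q : Set G) := by
  have hn0 : orderOf y ≠ 0 := (orderOf_pos y).ne'
  obtain ⟨e, m, hm, hem⟩ := Nat.exists_eq_pow_mul_and_not_dvd hn0 p hp.out.ne_one
  refine ⟨e, ?_⟩
  obtain ⟨A, hA⟩ : ∃ A : Subgroup G, A = Subgroup.zpowers (y ^ (p ^ e)) := ⟨_, rfl⟩
  have hAK : A ≤ sectionKernel Q ((frattini ↥Q).map Q.subtype) := by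
    rw [hA, Subgroup.zpowers_le]
    exact Subgroup.pow_mem _ hy _
  have hym : (y ^ (p ^ e)) ^ m = 1 := by
    rw [← pow_mul, ← hem]; exact pow_orderOf_eq_one y
  have hcardA : Nat.card A ∣ m := by
    rw [hA, Nat.card_zpowers]
    exact orderOf_dvd_of_pow_eq_one hym
  have hfr : IsPGroup p (frattini ↥Q) := hQ.to_subgroup _
  obtain ⟨j, hj⟩ := (IsPGroup.iff_card).mp hfr
  have hcop : (Nat.card A).Coprime (Nat.card (frattini ↥Q)) := by
    rw [hj]
    apply Nat.Coprime.pow_right
    apply Nat.Coprime.coprime_dvd_left hcardA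
    exact ((Nat.Prime.coprime_iff_not_dvd hp.out).mpr hm).symm
  have hle : A ≤ Subgroup.centralizer (Q : Set G) := by
    apply centralizes_of_trivial_on_frattini_quotient A Q _ hcop
    · intro a ha k hk
      exact (mem_sectionKernel_iff Q _ a).mp (hAK ha) k hk
    · rw [Subgroup.normalizer_eq_top]; exact le_top
  exact hle (by rw [hA]; exact Subgroup.mem_zpowers _)

theorem isPStableOn_of_comm_sylow_of_isPGroup [Finite G] {p : ℕ} [hp : Fact p.Prime] (hp2 : p ≠ 2)
    (P : Subgroup G) [hPn : P.Normal] (hP : IsPGroup p P)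
    (hab : ∀ T : Sylow 2 G, IsMulCommutative T) : IsPStableOn p P := by
  have hel : IsElementaryAbelian p (P.map (QuotientGroup.mk' ((frattini ↥P).map P.subtype))) :=
    isElementaryAbelian_map_mk_of_frattini P hP _ le_rfl
  have hsec := isPStableOnSection_of_comm_sylow hp2 P ((frattini ↥P).map P.subtype) hel hab
  intro a ha
  obtain ⟨D, hDn, hKD, ⟨k, hk⟩, haD⟩ := hsec a (by rw [ha]; exact bot_le)
  obtain ⟨K, hKdef⟩ : ∃ K : Subgroup G, K = sectionKernel P ((frattini ↥P).map P.subtype) :=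
    ⟨_, rfl⟩
  rw [← hKdef] at hKD hk
  have hKn : K.Normal := by
    rw [hKdef]; unfold sectionKernel
    exact Subgroup.Normal.comap inferInstance _
  -- the image of D is a normal p-subgroup
  have hDp : IsPGroup p (D.map (QuotientGroup.mk' (Subgroup.centralizer (P : Set G)))) := by
    rintro ⟨_, ⟨d, hd, rfl⟩⟩
    -- d ^ p^k ∈ K
    have h1 : d ^ (p ^ k) ∈ K := by
      haveI : (K.subgroupOf D).Normal := hKn.subgroupOf D
      have := Subgroup.pow_index_mem (K.subgroupOf D) (⟨d, hd⟩ : D)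
      change (⟨d, hd⟩ : D) ^ K.relIndex D ∈ K.subgroupOf D at this
      rw [hk, Subgroup.mem_subgroupOf] at this
      exact this
    rw [hKdef] at h1
    obtain ⟨e, he⟩ := exists_pow_mem_centralizer_of_mem_sectionKernel P hP _ h1
    refine ⟨k + e, ?_⟩
    apply Subtype.ext
    simp only [Subgroup.coe_pow, Subgroup.coe_one]
    rw [← map_pow, pow_add, pow_mul]
    exact (QuotientGroup.eq_one_iff _).mpr he
  have hDn' : (D.map (QuotientGroup.mk' (Subgroup.centralizer (P : Set G)))).Normal :=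
    hDn.map _ (QuotientGroup.mk'_surjective _)
  exact le_pCore hDn' hDp (Subgroup.mem_map_of_mem _ haD)

end Cfsg.Agent.Lib.Helper1.NPC
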