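import Mathlib
import Cfsg.Agent.Lib.Helper1.ClassTwo
set_option autoImplicit false
open scoped Pointwise commutatorElement
universe u
namespace Cfsg.Agent.Lib.Helper1.GlaubermanRepl

variable {G : Type u} [Group G]

/-- Two abelian subgroups normalizing each other generate a group of class at most two. -/
theorem comm_mem_inf_of_mutually_normalizing (X Y : Subgroup G)
    (hX : ∀ a ∈ X, ∀ b ∈ X, a * b = b * a) (hY : ∀ a ∈ Y, ∀ b ∈ Y, a * b = b * a)
    (hXY : X ≤ Subgroup.normalizer (Y : Set G)) (hYX : Y ≤ Subgroup.normalizer (X : Set G)) :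
    (∀ z ∈ X ⊓ Y, ∀ h ∈ X ⊔ Y, z * h = h * z) ∧
    (∀ h ∈ X ⊔ Y, ∀ h' ∈ X ⊔ Y, ⁅h, h'⁆ ∈ X ⊓ Y) := by
  have hcent : ∀ z ∈ X ⊓ Y, ∀ h ∈ X ⊔ Y, z * h = h * z := by
    intro z hz h hh
    have hle : X ⊔ Y ≤ Subgroup.centralizer {z} := by
      apply sup_le
      · intro x hx
        rw [Subgroup.mem_centralizer_iff]
        intro y hy
        rw [Set.mem_singleton_iff] at hy; subst hy
        exact hX y hz.1 x hx
      · intro x hx
        rw [Subgroup.mem_centralizer_iff]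
        intro y hy
        rw [Set.mem_singleton_iff] at hy; subst hy
        exact hY y hz.2 x hx
    have := hle hh
    rw [Subgroup.mem_centralizer_iff] at this
    exact this z rfl
  refine ⟨hcent, ?_⟩
  -- generators
  have hgen : ∀ x ∈ (X : Set G) ∪ Y, ∀ y ∈ (X : Set G) ∪ Y, ⁅x, y⁆ ∈ X ⊓ Y := by
    intro x hx y hy
    rcases hx with hx | hx <;> rcases hy with hy | hy
    · have : ⁅x, y⁆ = 1 := by
        rw [commutatorElement_eq_one_iff_mul_comm]; exact hX x hx y hy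
      rw [this]; exact Subgroup.one_mem _
    · constructor
      · have h1 : y * x⁻¹ * y⁻¹ ∈ X := (Subgroup.mem_normalizer_iff.mp (hYX hy) x⁻¹).mp (X.inv_mem hx)
        have e : ⁅x, y⁆ = x * (y * x⁻¹ * y⁻¹) := by rw [commutatorElement_def]; group
        rw [e]; exact X.mul_mem hx h1
      · have h1 : x * y * x⁻¹ ∈ Y := (Subgroup.mem_normalizer_iff.mp (hXY hx) y).mp hy
        rw [commutatorElement_def]; exact Y.mul_mem h1 (Y.inv_mem hy)
    · constructor
      · have h1 : x * y * x⁻¹ ∈ X := (Subgroup.mem_normalizer_iff.mp (hYX hx) y).mp hy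
        rw [commutatorElement_def]; exact X.mul_mem h1 (X.inv_mem hy)
      · have h1 : y * x⁻¹ * y⁻¹ ∈ Y := (Subgroup.mem_normalizer_iff.mp (hXY hy) x⁻¹).mp (Y.inv_mem hx)
        have e : ⁅x, y⁆ = x * (y * x⁻¹ * y⁻¹) := by rw [commutatorElement_def]; group
        rw [e]; exact Y.mul_mem hx h1
    · have : ⁅x, y⁆ = 1 := by
        rw [commutatorElement_eq_one_iff_mul_comm]; exact hY x hx y hy
      rw [this]; exact Subgroup.one_mem _
  have hsup : X ⊔ Y = Subgroup.closure ((X : Set G) ∪ Y) := by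
    rw [Subgroup.closure_union, Subgroup.closure_eq, Subgroup.closure_eq]
  -- step 1: x generator, y arbitrary
  have h1 : ∀ x ∈ (X : Set G) ∪ Y, ∀ y ∈ X ⊔ Y, ⁅x, y⁆ ∈ X ⊓ Y := by
    intro x hx y hy
    have hxH : x ∈ X ⊔ Y := by
      rw [hsup]; exact Subgroup.subset_closure hx
    rw [hsup] at hy
    induction hy using Subgroup.closure_induction with
    | mem y hy => exact hgen x hx y hy
    | one => rw [commutatorElement_one_right]; exact Subgroup.one_mem _
    | mul y y' hy hy' ihy ihy' =>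
      have e : ⁅x, y * y'⁆ = ⁅x, y⁆ * (y * ⁅x, y'⁆ * y⁻¹) := by
        simp only [commutatorElement_def]; group
      have hyH : y ∈ X ⊔ Y := by rw [hsup]; exact hy
      have e2 : y * ⁅x, y'⁆ * y⁻¹ = ⁅x, y'⁆ := by
        rw [← hcent _ ihy' y hyH, mul_inv_cancel_right]
      rw [e, e2]
      exact Subgroup.mul_mem _ ihy ihy'
    | inv y hy ihy =>
      have hyH : y ∈ X ⊔ Y := by rw [hsup]; exact hy
      have e : ⁅x, y⁻¹⁆ = y⁻¹ * ⁅x, y⁆⁻¹ * y := by
        simp only [commutatorElement_def]; group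
      have e2 : y⁻¹ * ⁅x, y⁆⁻¹ * y = ⁅x, y⁆⁻¹ := by
        have := hcent _ (Subgroup.inv_mem _ ihy) y hyH
        rw [mul_assoc, this, inv_mul_cancel_left]
      rw [e, e2]
      exact Subgroup.inv_mem _ ihy
  intro h hh h' hh'
  rw [hsup] at hh
  induction hh using Subgroup.closure_induction with
  | mem x hx => exact h1 x hx h' hh'
  | one => rw [commutatorElement_one_left]; exact Subgroup.one_mem _
  | mul x x' hx hx' ihx ihx' =>
    have hxH : x ∈ X ⊔ Y := by rw [hsup]; exact hx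
    have e : ⁅x * x', h'⁆ = x * ⁅x', h'⁆ * x⁻¹ * ⁅x, h'⁆ := by
      simp only [commutatorElement_def]; group
    have e2 : x * ⁅x', h'⁆ * x⁻¹ = ⁅x', h'⁆ := by
      rw [← hcent _ ihx' x hxH, mul_inv_cancel_right]
    rw [e, e2]
    exact Subgroup.mul_mem _ ihx' ihx
  | inv x hx ihx =>
    have hxH : x ∈ X ⊔ Y := by rw [hsup]; exact hx
    have e : ⁅x⁻¹, h'⁆ = x⁻¹ * ⁅x, h'⁆⁻¹ * x := by
      simp only [commutatorElement_def]; group
    have e2 : x⁻¹ * ⁅x, h'⁆⁻¹ * x = ⁅x, h'⁆⁻¹ := by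
      have := hcent _ (Subgroup.inv_mem _ ihx) x hxH
      rw [mul_assoc, this, inv_mul_cancel_left]
    rw [e, e2]
    exact Subgroup.inv_mem _ ihx

theorem commCentral_sup_of_mutually_normalizing (X Y : Subgroup G)
    (hX : ∀ a ∈ X, ∀ b ∈ X, a * b = b * a) (hY : ∀ a ∈ Y, ∀ b ∈ Y, a * b = b * a)
    (hXY : X ≤ Subgroup.normalizer (Y : Set G)) (hYX : Y ≤ Subgroup.normalizer (X : Set G)) :
    CommCentral ↥(X ⊔ Y) := by
  obtain ⟨h1, h2⟩ := comm_mem_inf_of_mutually_normalizing X Y hX hY hXY hYX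
  intro x y z
  apply Subtype.ext
  exact h1 _ (h2 x x.2 y y.2) z z.2

end Cfsg.Agent.Lib.Helper1.GlaubermanRepl
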