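import Mathlib
import Cfsg.Agent.Lib.Helper1.ClassTwo
import Cfsg.Agent.Lib.Helper1.GlaubermanRepl1
set_option autoImplicit false
open scoped Pointwise commutatorElement
universe u
namespace Cfsg.Agent.Lib.Helper1.GlaubermanRepl

variable {G : Type u} [Group G]

/-- hypotheses of the replacement lemma -/
structure Setup (A B : Subgroup G) (b : G) : Prop where
  hA : ∀ x ∈ A, ∀ y ∈ A, x * y = y * x
  hBA : ⁅B, B⁆ ≤ A
  hAB : A ≤ Subgroup.normalizer (B : Set G)
  hb : b ∈ B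
  h1 : ∀ a ∈ A, b⁻¹ * a * b ∈ Subgroup.normalizer (A : Set G)
  h2 : ∀ a ∈ A, b * a * b⁻¹ ∈ Subgroup.normalizer (A : Set G)

/-- the conjugate `b⁻¹ A b` -/
def conjA (A : Subgroup G) (b : G) : Subgroup G := A.map (MulAut.conj b⁻¹).toMonoidHom

/-- `[a, b⁻¹]` -/
def tau (b a : G) : G := a * b⁻¹ * a⁻¹ * b

/-- `[A, b]` -/
def commAb (A : Subgroup G) (b : G) : Subgroup G :=
  Subgroup.closure {g : G | ∃ a ∈ A, g = a * b⁻¹ * a⁻¹ * b}

/-- the replacement subgroup -/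
def Astar (A : Subgroup G) (b : G) : Subgroup G := (A ⊓ conjA A b) ⊔ commAb A b

theorem mem_conjA {A : Subgroup G} {b x : G} : x ∈ conjA A b ↔ b * x * b⁻¹ ∈ A := by
  unfold conjA
  constructor
  · rintro ⟨a, ha, rfl⟩
    have e : b * ((MulAut.conj b⁻¹).toMonoidHom a) * b⁻¹ = a := by
      simp [MulAut.conj_apply]; group
    rw [e]; exact ha
  · intro h
    refine ⟨b * x * b⁻¹, h, ?_⟩
    simp [MulAut.conj_apply]; group

theorem conj_mem_conjA {A : Subgroup G} {b a : G} (ha : a ∈ A) : b⁻¹ * a * b ∈ conjA A b := by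
  rw [mem_conjA]
  have e : b * (b⁻¹ * a * b) * b⁻¹ = a := by group
  rw [e]; exact ha

namespace Setup

variable {A B : Subgroup G} {b : G} (s : Setup A B b)
include s

theorem conjA_comm : ∀ x ∈ conjA A b, ∀ y ∈ conjA A b, x * y = y * x := by
  intro x hx y hy
  rw [mem_conjA] at hx hy
  have := s.hA _ hx _ hy
  have e1 : b * x * b⁻¹ * (b * y * b⁻¹) = b * (x * y) * b⁻¹ := by group
  have e2 : b * y * b⁻¹ * (b * x * b⁻¹) = b * (y * x) * b⁻¹ := by group
  rw [e1, e2] at this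
  exact mul_left_cancel (mul_right_cancel this)

theorem comm_le_conjA : ⁅B, B⁆ ≤ conjA A b := by
  intro x hx
  rw [mem_conjA]
  apply s.hBA
  have hn : (⁅B, B⁆ : Subgroup G) ≤ B := by
    rw [Subgroup.commutator_le]
    intro g₁ h₁ g₂ h₂
    rw [commutatorElement_def]
    exact B.mul_mem (B.mul_mem (B.mul_mem h₁ h₂) (B.inv_mem h₁)) (B.inv_mem h₂)
  have : b ∈ Subgroup.normalizer ((⁅B, B⁆ : Subgroup G) : Set G) := by
    have h1 : B ≤ Subgroup.normalizer ((⁅B, B⁆ : Subgroup G) : Set G) := by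
      have hle : B ≤ Subgroup.normalizer (B : Set G) := Subgroup.le_normalizer
      intro g hg
      rw [Subgroup.mem_normalizer_iff]
      intro y
      have key : ∀ g ∈ B, ∀ y ∈ ⁅B, B⁆, g * y * g⁻¹ ∈ ⁅B, B⁆ := by
        intro g hg y hy
        have hyB : y ∈ B := hn hy
        have e : g * y * g⁻¹ = ⁅g, y⁆ * y := by rw [commutatorElement_def]; group
        rw [e]
        exact Subgroup.mul_mem _ (Subgroup.commutator_mem_commutator hg hyB) hy
      constructor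
      · exact key g hg y
      · intro h
        have := key g⁻¹ (B.inv_mem hg) _ h
        have e : g⁻¹ * (g * y * g⁻¹) * g⁻¹⁻¹ = y := by group
        rw [e] at this
        exact this
    exact h1 s.hb
  exact (Subgroup.mem_normalizer_iff.mp this x).mp hx

theorem conjA_le_normalizer : conjA A b ≤ Subgroup.normalizer (A : Set G) := by
  intro x hx
  rw [mem_conjA] at hx
  have := s.h1 _ hx
  have e : b⁻¹ * (b * x * b⁻¹) * b = x := by group
  rw [e] at this
  exact this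

theorem le_normalizer_conjA : A ≤ Subgroup.normalizer (conjA A b : Set G) := by
  have key : ∀ a ∈ A, ∀ y ∈ conjA A b, a * y * a⁻¹ ∈ conjA A b := by
    intro a ha y hy
    rw [mem_conjA] at hy ⊢
    have h2 := s.h2 a ha
    have h3 := (Subgroup.mem_normalizer_iff.mp h2 _).mp hy
    have e : b * a * b⁻¹ * (b * y * b⁻¹) * (b * a * b⁻¹)⁻¹ = b * (a * y * a⁻¹) * b⁻¹ := by group
    rw [e] at h3
    exact h3
  intro a ha
  rw [Subgroup.mem_normalizer_iff]
  intro y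
  constructor
  · exact key a ha y
  · intro h
    have := key a⁻¹ (A.inv_mem ha) _ h
    have e : a⁻¹ * (a * y * a⁻¹) * a⁻¹⁻¹ = y := by group
    rw [e] at this
    exact this

theorem central : ∀ z ∈ A ⊓ conjA A b, ∀ h ∈ A ⊔ conjA A b, z * h = h * z :=
  (comm_mem_inf_of_mutually_normalizing A (conjA A b) s.hA s.conjA_comm s.le_normalizer_conjA
    s.conjA_le_normalizer).1

theorem comm_mem : ∀ h ∈ A ⊔ conjA A b, ∀ h' ∈ A ⊔ conjA A b, ⁅h, h'⁆ ∈ A ⊓ conjA A b :=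
  (comm_mem_inf_of_mutually_normalizing A (conjA A b) s.hA s.conjA_comm s.le_normalizer_conjA
    s.conjA_le_normalizer).2

theorem commCentral : CommCentral ↥(A ⊔ conjA A b) :=
  commCentral_sup_of_mutually_normalizing A (conjA A b) s.hA s.conjA_comm s.le_normalizer_conjA
    s.conjA_le_normalizer

theorem tau_mem_B {a : G} (ha : a ∈ A) : tau b a ∈ B := by
  unfold tau
  have h1 : a * b⁻¹ * a⁻¹ ∈ B :=
    (Subgroup.mem_normalizer_iff.mp (s.hAB ha) _).mp (B.inv_mem s.hb)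
  exact B.mul_mem h1 s.hb

omit s in
theorem tau_mem_H {a : G} (ha : a ∈ A) : tau b a ∈ A ⊔ conjA A b := by
  have e : tau b a = a * (b⁻¹ * a⁻¹ * b) := by unfold tau; group
  rw [e]
  exact Subgroup.mul_mem _ (Subgroup.mem_sup_left ha)
    (Subgroup.mem_sup_right (conj_mem_conjA (A.inv_mem ha)))

theorem comm_le_inf : ⁅B, B⁆ ≤ A ⊓ conjA A b := le_inf s.hBA s.comm_le_conjA

theorem conj_mem_mul_of_mem_B {u : G} (hu : u ∈ B) : u⁻¹ * (b⁻¹ * u * b) ∈ A ⊓ conjA A b := by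
  apply s.comm_le_inf
  have e : u⁻¹ * (b⁻¹ * u * b) = ⁅u⁻¹, b⁻¹⁆ := by rw [commutatorElement_def]; group
  rw [e]
  exact Subgroup.commutator_mem_commutator (B.inv_mem hu) (B.inv_mem s.hb)

/-- `b` normalizes `A ∩ A^b` (one direction) -/
theorem conj_mem_inf {x : G} (hx : x ∈ A ⊓ conjA A b) : b⁻¹ * x * b ∈ A ⊓ conjA A b := by
  refine ⟨?_, conj_mem_conjA hx.1⟩
  have hy : b * x * b⁻¹ ∈ A := mem_conjA.mp hx.2
  obtain ⟨y, hy'⟩ : ∃ y, y = b * x * b⁻¹ := ⟨_, rfl⟩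
  rw [← hy'] at hy
  have hx' : x = b⁻¹ * y * b := by rw [hy']; group
  clear hy'
  subst hx'
  -- tau y = y * x⁻¹ ∈ A
  have h1 : tau b y = y * (b⁻¹ * y * b)⁻¹ := by unfold tau; group
  have h2 : tau b y ∈ A := by rw [h1]; exact A.mul_mem hy (A.inv_mem hx.1)
  have h3 := s.conj_mem_mul_of_mem_B (s.tau_mem_B hy)
  have h4 : b⁻¹ * tau b y * b ∈ A := by
    have : b⁻¹ * tau b y * b = tau b y * ((tau b y)⁻¹ * (b⁻¹ * tau b y * b)) := by group
    rw [this]
    exact A.mul_mem h2 h3.1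
  have h5 : b⁻¹ * tau b y * b = (b⁻¹ * y * b) * (b⁻¹ * (b⁻¹ * y * b) * b)⁻¹ := by
    unfold tau
    simp only [mul_inv_rev, inv_inv, mul_assoc, mul_inv_cancel_left]
  rw [h5] at h4
  have h6 : (b⁻¹ * (b⁻¹ * y * b) * b)⁻¹ ∈ A := by
    have : (b⁻¹ * (b⁻¹ * y * b) * b)⁻¹ =
        (b⁻¹ * y * b)⁻¹ * ((b⁻¹ * y * b) * (b⁻¹ * (b⁻¹ * y * b) * b)⁻¹) := by group
    rw [this]
    exact A.mul_mem (A.inv_mem hx.1) h4
  have := A.inv_mem h6
  rwa [inv_inv] at this

omit s in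
theorem tau_mul (a a' : G) : tau b (a * a') = (a * tau b a' * a⁻¹) * tau b a := by
  unfold tau; group

theorem tau_mem_inf_iff {a : G} (ha : a ∈ A) : tau b a ∈ A ⊓ conjA A b ↔ a ∈ A ⊓ conjA A b := by
  constructor
  · intro h
    refine ⟨ha, ?_⟩
    have e : a = tau b a * (b⁻¹ * a * b) := by unfold tau; group
    rw [e]
    exact Subgroup.mul_mem _ h.2 (conj_mem_conjA ha)
  · intro h
    have h1 := s.conj_mem_inf h
    have e : tau b a = a * (b⁻¹ * a * b)⁻¹ := by unfold tau; group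
    rw [e]
    exact Subgroup.mul_mem _ h (Subgroup.inv_mem _ h1)

end Setup

end Cfsg.Agent.Lib.Helper1.GlaubermanRepl
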