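import Mathlib
import Cfsg.Agent.Lib.Helper1.CoprimeSylow
set_option autoImplicit false
open Pointwise

namespace Cfsg.Agent.Lib.Helper1

universe u

variable {G : Type u} [Group G]

open scoped commutatorElement in
/-- Coprime action on an abelian group: `C_V(A) ∩ [V, A] = 1`. -/
theorem coprime_abelian_centralizer_inf_commutator [Finite G] (A V : Subgroup G)
    [hVc : IsMulCommutative V]
    (hAV : A ≤ Subgroup.normalizer (V : Set G)) (hcop : (Nat.card A).Coprime (Nat.card V)) :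
    (V ⊓ Subgroup.centralizer (A : Set G)) ⊓ ⁅V, A⁆ = ⊥ := by
  classical
  let _ : CommGroup V := { (inferInstance : Group V) with mul_comm := fun a b => mul_comm' a b }
  let _ : Fintype A := Fintype.ofFinite A
  let _ : MulDistribMulAction A V := conjActOfLeNormalizer A V hAV
  let θ : V →* V :=
    { toFun := fun v => ∏ a : A, a • v
      map_one' := by simp
      map_mul' := fun v w => by simp [Finset.prod_mul_distrib] }
  have hθsmul : ∀ (a₀ : A) (w : V), θ (a₀ • w) = θ w := by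
    intro a₀ w
    show ∏ a : A, a • a₀ • w = ∏ a : A, a • w
    simp_rw [← mul_smul]
    exact Fintype.prod_equiv (Equiv.mulRight a₀) _ _ (fun a => rfl)
  have hker : ⁅V, A⁆ ≤ θ.ker.map V.subtype := by
    rw [Subgroup.commutator_le]
    intro v hv a₀ ha₀
    have hmem : a₀ * v⁻¹ * a₀⁻¹ ∈ V := (Subgroup.mem_normalizer_iff.mp (hAV ha₀) v⁻¹).mp (V.inv_mem hv)
    refine ⟨⟨v, hv⟩ * ((⟨a₀, ha₀⟩ : A) • (⟨v, hv⟩ : V)⁻¹), ?_, ?_⟩
    · rw [SetLike.mem_coe, MonoidHom.mem_ker, map_mul, hθsmul, map_inv, mul_inv_cancel]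
    · show v * (a₀ * v⁻¹ * a₀⁻¹) = ⁅v, a₀⁆
      rw [commutatorElement_def]; group
  rw [eq_bot_iff]
  rintro c ⟨⟨hcV, hcC⟩, hcomm⟩
  rw [Subgroup.mem_bot]
  obtain ⟨c', hc'ker, hc'c⟩ := hker hcomm
  have hc'eq : c' = ⟨c, hcV⟩ := Subtype.ext hc'c
  have hθc : θ ⟨c, hcV⟩ = ⟨c, hcV⟩ ^ Nat.card A := by
    show ∏ a : A, a • (⟨c, hcV⟩ : V) = _
    have : ∀ a : A, a • (⟨c, hcV⟩ : V) = ⟨c, hcV⟩ := by
      intro a
      apply Subtype.ext
      show (a : G) * c * (a : G)⁻¹ = c
      rw [Subgroup.mem_centralizer_iff.mp hcC a a.2, mul_inv_cancel_right]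
    simp_rw [this]
    rw [Finset.prod_const, Finset.card_univ, Nat.card_eq_fintype_card]
  have h1 : (⟨c, hcV⟩ : V) ^ Nat.card A = 1 := by
    rw [← hθc, ← hc'eq]; exact hc'ker
  have h2 : (⟨c, hcV⟩ : V) ^ Nat.card V = 1 := pow_card_eq_one'
  have h3 : (⟨c, hcV⟩ : V) ^ (Nat.gcd (Nat.card A) (Nat.card V)) = 1 := by
    rw [← orderOf_dvd_iff_pow_eq_one] at h1 h2 ⊢
    exact Nat.dvd_gcd h1 h2
  rw [hcop, pow_one] at h3
  exact congrArg Subtype.val h3


theorem isSolvable_of_isMulCommutative (V : Subgroup G) [hVc : IsMulCommutative V] :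
    Group.IsSolvable V := by
  let _ : CommGroup V := { (inferInstance : Group V) with mul_comm := fun a b => mul_comm' a b }
  infer_instance

/-- Coprime action on an abelian group: `V = C_V(A) × [V, A]`. -/
theorem coprime_abelian_decomposition [Finite G] (A V : Subgroup G) [hVc : IsMulCommutative V]
    (hAV : A ≤ Subgroup.normalizer (V : Set G)) (hcop : (Nat.card A).Coprime (Nat.card V)) :
    (V ⊓ Subgroup.centralizer (A : Set G)) ⊓ ⁅V, A⁆ = ⊥ ∧
      (V ⊓ Subgroup.centralizer (A : Set G)) ⊔ ⁅V, A⁆ = V := by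
  refine ⟨coprime_abelian_centralizer_inf_commutator A V hAV hcop, ?_⟩
  rw [sup_comm]
  exact coprime_commutator_sup_centralizer A V hAV hcop (Or.inr (isSolvable_of_isMulCommutative V))

/-- A coprime action on an abelian group fixing all elements of prime order is trivial. -/
theorem coprime_abelian_trivial_of_fix_prime_order [Finite G] (A V : Subgroup G)
    [hVc : IsMulCommutative V]
    (hAV : A ≤ Subgroup.normalizer (V : Set G)) (hcop : (Nat.card A).Coprime (Nat.card V))
    (hΩ : ∀ v ∈ V, (orderOf v).Prime → ∀ a ∈ A, a * v = v * a) :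
    A ≤ Subgroup.centralizer (V : Set G) := by
  have hle : ⁅V, A⁆ ≤ V := Subgroup.le_normalizer_iff_commutator_le_left.mp hAV
  have hbot : ⁅V, A⁆ = ⊥ := by
    by_contra hne
    have hnt : Nontrivial (⁅V, A⁆ : Subgroup G) := (Subgroup.nontrivial_iff_ne_bot _).mpr hne
    have hcard : Nat.card (⁅V, A⁆ : Subgroup G) ≠ 1 := by
      intro h
      exact hne (Subgroup.card_eq_one.mp h)
    obtain ⟨q, hq, hqdvd⟩ := Nat.exists_prime_and_dvd hcard
    have := Fact.mk hq
    obtain ⟨x, hx⟩ := exists_prime_orderOf_dvd_card' q hqdvd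
    have hxo : orderOf (x : G) = q := by rw [Subgroup.orderOf_coe]; exact hx
    have hxV : (x : G) ∈ V := hle x.2
    have hxC : (x : G) ∈ Subgroup.centralizer (A : Set G) := by
      rw [Subgroup.mem_centralizer_iff]
      intro a ha
      exact hΩ x hxV (hxo ▸ hq) a ha
    have hmem : (x : G) ∈ (V ⊓ Subgroup.centralizer (A : Set G)) ⊓ ⁅V, A⁆ := ⟨⟨hxV, hxC⟩, x.2⟩
    rw [coprime_abelian_centralizer_inf_commutator A V hAV hcop, Subgroup.mem_bot] at hmem
    rw [hmem, orderOf_one] at hxo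
    exact hq.one_lt.ne hxo
  rw [Subgroup.commutator_eq_bot_iff_le_centralizer] at hbot
  exact Subgroup.le_centralizer_iff.mp hbot

end Cfsg.Agent.Lib.Helper1
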