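import Mathlib
import Cfsg.Agent.Lib.Helper1.Coprime
import Cfsg.Agent.Lib.Helper1.CoprimeSylow
import Cfsg.Agent.Lib.Helper1.CoprimeAbelian

set_option autoImplicit false
universe u
namespace Cfsg.Agent.Lib.Helper1
variable {G : Type u} [Group G]

theorem relIndex_eq_of_cover {H L K : Subgroup G} (hLK : L ≤ K)
    (hcover : ∀ k ∈ K, ∃ l ∈ L, ∃ c ∈ H, k = l * c) : H.relIndex L = H.relIndex K := by
  have hinj := (Subgroup.quotientSubgroupOfEmbeddingOfLE H hLK).injective
  have hsurj : Function.Surjective (Subgroup.quotientSubgroupOfEmbeddingOfLE H hLK) := by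
    intro q
    induction q using QuotientGroup.induction_on with
    | H k =>
      obtain ⟨l, hl, c, hc, hk⟩ := hcover k k.2
      refine ⟨QuotientGroup.mk ⟨l, hl⟩, ?_⟩
      rw [Subgroup.quotientSubgroupOfEmbeddingOfLE_apply_mk, QuotientGroup.eq,
        Subgroup.mem_subgroupOf]
      have : ((Subgroup.inclusion hLK ⟨l, hl⟩)⁻¹ * k : K).1 = c := by
        simp [hk]
      rw [this]; exact hc
  exact Nat.card_congr (Equiv.ofBijective _ ⟨hinj, hsurj⟩)

theorem exists_cover_of_relIndex_eq [Finite G] {H L K : Subgroup G} (hLK : L ≤ K)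
    (h : H.relIndex L = H.relIndex K) : ∀ k ∈ K, ∃ l ∈ L, ∃ c ∈ H, k = l * c := by
  intro k hk
  have hinj := (Subgroup.quotientSubgroupOfEmbeddingOfLE H hLK).injective
  have hbij : Function.Bijective (Subgroup.quotientSubgroupOfEmbeddingOfLE H hLK) :=
    hinj.bijective_of_nat_card_le (le_of_eq h.symm)
  obtain ⟨q, hq⟩ := hbij.2 (QuotientGroup.mk ⟨k, hk⟩)
  induction q using QuotientGroup.induction_on with
  | H l =>
    rw [Subgroup.quotientSubgroupOfEmbeddingOfLE_apply_mk, QuotientGroup.eq,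
      Subgroup.mem_subgroupOf] at hq
    refine ⟨l.1, l.2, _, hq, ?_⟩
    simp

open scoped commutatorElement in
theorem coprime_index_p_aux [Finite G] (A K : Subgroup G)
    (hAK : A ≤ Subgroup.normalizer (K : Set G))
    (hcop : (Nat.card A).Coprime (Nat.card K)) (hsolv : Group.IsSolvable A ∨ Group.IsSolvable K)
    (p : ℕ) (hp : p.Prime) (hidx : (K ⊓ Subgroup.centralizer (A : Set G)).relIndex K = p)
    (hKA : ⁅K, A⁆ = K) : Nat.card K = p := by
  have := Fact.mk hp
  obtain ⟨C, hC⟩ : ∃ C, C = K ⊓ Subgroup.centralizer (A : Set G) := ⟨_, rfl⟩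
  rw [← hC] at hidx
  have hCK : C ≤ K := hC ▸ inf_le_left
  have hCA : C ≤ Subgroup.centralizer (A : Set G) := hC ▸ inf_le_right
  obtain ⟨R, hR⟩ := coprime_exists_invariant_sylow A K hAK hcop hsolv p
  obtain ⟨R₀, hR₀⟩ : ∃ R₀, R₀ = (R : Subgroup K).map K.subtype := ⟨_, rfl⟩
  rw [← hR₀] at hR
  have hR₀K : R₀ ≤ K := by rw [hR₀]; exact Subgroup.map_subtype_le _
  have hsub : R₀.subgroupOf K = R := by
    rw [hR₀]; exact Subgroup.comap_map_eq_self_of_injective K.subtype_injective _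
  have hR₀idx : ¬ p ∣ R₀.relIndex K := by
    rw [Subgroup.relIndex, hsub]; exact R.not_dvd_index
  have hR₀C : ¬ R₀ ≤ C := fun h => hR₀idx (hidx ▸ Subgroup.relIndex_dvd_of_le_left K h)
  have hR₀p : IsPGroup p R₀ := by
    rw [hR₀]; exact R.isPGroup'.map _
  have hrel : C.relIndex R₀ = p := by
    have h1 : C.relIndex R₀ ≤ p :=
      hidx ▸ Subgroup.relIndex_le_of_le_right hR₀K (by rw [hidx]; exact hp.ne_zero)
    have h2 : C.relIndex R₀ ∣ Nat.card R₀ := Subgroup.relIndex_dvd_card C R₀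
    have h3 : C.relIndex R₀ ≠ 1 := fun h => hR₀C (Subgroup.relIndex_eq_one.mp h)
    obtain ⟨n, hn⟩ := IsPGroup.iff_card.mp hR₀p
    rw [hn] at h2
    obtain ⟨j, -, hj⟩ := (Nat.dvd_prime_pow hp).mp h2
    rw [hj] at h1 h3 ⊢
    have hj1 : j ≠ 0 := by rintro rfl; exact h3 (pow_zero p)
    have hj2 : j ≤ 1 := by
      by_contra hlt
      push Not at hlt
      have : p ^ 2 ≤ p ^ j := Nat.pow_le_pow_right hp.pos hlt
      have h4 : p * p ≤ p := by rw [← sq]; exact this.trans h1
      have := hp.one_lt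
      nlinarith
    have : j = 1 := by omega
    rw [this, pow_one]
  have hcov := exists_cover_of_relIndex_eq hR₀K (hrel.trans hidx.symm)
  have hKR : K ≤ R₀ := by
    calc K = ⁅K, A⁆ := hKA.symm
      _ ≤ R₀ := by
        rw [Subgroup.commutator_le]
        intro k hk a ha
        obtain ⟨r, hr, c, hc, rfl⟩ := hcov k hk
        have hca : a * c = c * a := Subgroup.mem_centralizer_iff.mp (hCA hc) a ha
        have e : ⁅r * c, a⁆ = r * (a * r⁻¹ * a⁻¹) := by
          rw [commutatorElement_def]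
          have h1 : c * a * c⁻¹ = a := by rw [← hca]; group
          calc r * c * a * (r * c)⁻¹ * a⁻¹ = r * (c * a * c⁻¹) * r⁻¹ * a⁻¹ := by group
            _ = r * (a * r⁻¹ * a⁻¹) := by rw [h1]; group
        rw [e]
        exact R₀.mul_mem hr ((Subgroup.mem_normalizer_iff.mp (hR ha) _).mp (R₀.inv_mem hr))
  have hKeq : K = R₀ := le_antisymm hKR hR₀K
  have hKp : IsPGroup p K := hKeq ▸ hR₀p
  -- C normal in K
  have hCnorm : (C.subgroupOf K).Normal := by
    apply Subgroup.normal_of_index_eq_minFac_card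
    obtain ⟨n, hn⟩ := IsPGroup.iff_card.mp hKp
    have hn0 : n ≠ 0 := by
      rintro rfl
      have h1 : C.relIndex K ∣ Nat.card K := Subgroup.relIndex_dvd_card C K
      rw [hidx, hn, pow_zero] at h1
      exact hp.one_lt.ne' (Nat.dvd_one.mp h1)
    rw [hn, hp.pow_minFac hn0]; exact hidx
  have hKC : K ≤ Subgroup.normalizer (C : Set G) :=
    (Subgroup.normal_subgroupOf_iff_le_normalizer hCK).mp hCnorm
  have hCAbot : ⁅C, A⁆ = ⊥ :=
    Subgroup.commutator_eq_bot_iff_le_centralizer.mpr hCA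
  have h1 : ⁅⁅A, C⁆, K⁆ = ⊥ := by
    rw [Subgroup.commutator_comm A C, hCAbot, Subgroup.commutator_bot_left]
  have h2 : ⁅⁅C, K⁆, A⁆ = ⊥ := by
    have : ⁅C, K⁆ ≤ C := Subgroup.le_normalizer_iff_commutator_le_left.mp hKC
    exact le_bot_iff.mp (hCAbot ▸ Subgroup.commutator_mono this le_rfl)
  have h3 : ⁅K, C⁆ = ⊥ := by
    have := Subgroup.commutator_commutator_eq_bot_of_rotate h1 h2
    rwa [hKA] at this
  have hKcentC : K ≤ Subgroup.centralizer (C : Set G) :=
    Subgroup.commutator_eq_bot_iff_le_centralizer.mp h3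
  -- K abelian
  have hcyc : IsCyclic (K ⧸ C.subgroupOf K) := isCyclic_of_prime_card (p := p) hidx
  have hker : (QuotientGroup.mk' (C.subgroupOf K)).ker ≤ Subgroup.center K := by
    rw [QuotientGroup.ker_mk']
    intro x hx
    rw [Subgroup.mem_center_iff]
    intro y
    have := Subgroup.mem_centralizer_iff.mp (hKcentC y.2) x.1 (Subgroup.mem_subgroupOf.mp hx)
    exact Subtype.ext this.symm
  have hcomm : IsMulCommutative K :=
    MonoidHom.isMulCommutative_of_isCyclic_of_ker_le_center _ hker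
  have hdec := (coprime_abelian_decomposition A K hAK hcop).1
  rw [hKA, ← hC, inf_of_le_left hCK] at hdec
  rw [hdec, Subgroup.relIndex_bot_left] at hidx
  exact hidx

open scoped commutatorElement in
theorem coprime_action_index_p_centralizer [Finite G] (A K : Subgroup G)
    (hAK : A ≤ Subgroup.normalizer (K : Set G))
    (hcop : (Nat.card A).Coprime (Nat.card K)) (hsolv : Group.IsSolvable A ∨ Group.IsSolvable K)
    (p : ℕ) (hp : p.Prime) (hidx : (K ⊓ Subgroup.centralizer (A : Set G)).relIndex K = p) :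
    Nat.card (⁅K, A⁆ : Subgroup G) = p := by
  have hLK : ⁅K, A⁆ ≤ K := Subgroup.le_normalizer_iff_commutator_le_left.mp hAK
  have hLA : A ≤ Subgroup.normalizer ((⁅K, A⁆ : Subgroup G) : Set G) :=
    Subgroup.normalizer_commutator_ge_right K A
  have hKL : K ≤ Subgroup.normalizer ((⁅K, A⁆ : Subgroup G) : Set G) :=
    Subgroup.normalizer_commutator_ge_left K A
  have hcopL : (Nat.card A).Coprime (Nat.card (⁅K, A⁆ : Subgroup G)) :=
    Nat.Coprime.coprime_dvd_right (Subgroup.card_dvd_of_le hLK) hcop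
  have hsolvL : Group.IsSolvable A ∨ Group.IsSolvable (⁅K, A⁆ : Subgroup G) := by
    rcases hsolv with h | h
    · exact Or.inl h
    · exact Or.inr (isSolvable_of_le hLK)
  apply coprime_index_p_aux A ⁅K, A⁆ hLA hcopL hsolvL p hp ?_
    (coprime_commutator_commutator A K hAK hcop hsolv)
  rw [Subgroup.inf_relIndex_left]
  rw [Subgroup.inf_relIndex_left] at hidx
  rw [← hidx]
  apply relIndex_eq_of_cover hLK
  intro k hk
  have hsup := coprime_commutator_sup_centralizer A K hAK hcop hsolv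
  have hk' : k ∈ ((⁅K, A⁆ ⊔ (K ⊓ Subgroup.centralizer (A : Set G)) : Subgroup G) : Set G) := by
    rw [hsup]; exact hk
  rw [Subgroup.coe_mul_of_right_le_normalizer_left _ _ (inf_le_left.trans hKL)] at hk'
  obtain ⟨l, hl, c, hc, rfl⟩ := hk'
  exact ⟨l, hl, c, hc.2, rfl⟩

end Cfsg.Agent.Lib.Helper1
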