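import Mathlib
set_option autoImplicit false
open Pointwise

namespace Cfsg.Agent.Lib.Helper1

universe u

/-- Relative Schur–Zassenhaus: a normal Hall subgroup `P` of `N` has a complement in `N`. -/
theorem exists_relative_complement {G : Type u} [Group G] [Finite G] (P N : Subgroup G) (hPN : P ≤ N)
    (hN : N ≤ Subgroup.normalizer (P : Set G)) (hcop : (Nat.card P).Coprime (P.relIndex N)) :
    ∃ K : Subgroup G, K ≤ N ∧ K ⊓ P = ⊥ ∧ P ⊔ K = N ∧ Nat.card K = P.relIndex N := by
  have hn : (P.subgroupOf N).Normal := (Subgroup.normal_subgroupOf_iff_le_normalizer hPN).mpr hN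
  have hcard : Nat.card (P.subgroupOf N) = Nat.card P :=
    Nat.card_congr (Subgroup.subgroupOfEquivOfLe hPN).toEquiv
  have hcop' : (Nat.card (P.subgroupOf N)).Coprime (P.subgroupOf N).index := by
    rw [hcard]; exact hcop
  obtain ⟨K', hK'⟩ := Subgroup.exists_right_complement'_of_coprime hcop'
  refine ⟨K'.map N.subtype, Subgroup.map_subtype_le K', ?_, ?_, ?_⟩
  · rw [eq_bot_iff]
    rintro x ⟨hxK, hxP⟩
    obtain ⟨k, hk, rfl⟩ := hxK
    have : k ∈ P.subgroupOf N ⊓ K' := ⟨Subgroup.mem_subgroupOf.mpr hxP, hk⟩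
    rw [hK'.disjoint.eq_bot, Subgroup.mem_bot] at this
    rw [this]; exact Subgroup.one_mem _
  · have h1 : P = (P.subgroupOf N).map N.subtype := by
      rw [Subgroup.subgroupOf_map_subtype, inf_eq_left.mpr hPN]
    conv_lhs => rw [h1]
    rw [← Subgroup.map_sup, hK'.sup_eq_top, ← MonoidHom.range_eq_map, Subgroup.range_subtype]
  · rw [Subgroup.card_map_of_injective (Subgroup.subtype_injective N)]
    exact hK'.symm.index_eq_card.symm


end Cfsg.Agent.Lib.Helper1
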