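import Mathlib
set_option autoImplicit false
open Pointwise
open scoped commutatorElement

namespace Cfsg.Agent.Lib.Helper1

universe u

variable {G : Type u} [Group G]

/-- Two Sylow `p`-subgroups of `G` contained in a subgroup `H` are conjugate under `H`. -/
theorem sylow_conj_of_le [Finite G] {p : ℕ} [Fact p.Prime] (H : Subgroup G) (P Q : Sylow p G)
    (hP : (P : Subgroup G) ≤ H) (hQ : (Q : Subgroup G) ≤ H) : ∃ h ∈ H, h • P = Q := by
  obtain ⟨h, hh⟩ := MulAction.exists_smul_eq H (P.subtype hP) (Q.subtype hQ)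
  refine ⟨h, h.2, ?_⟩
  rw [Sylow.smul_subtype] at hh
  exact Sylow.subtype_injective hh

/-- If a subgroup `H` controls `G`-fusion in the Sylow `p`-subgroup `P`, then
`G' ∩ P = H' ∩ P`. -/
theorem commutator_inf_sylow_eq_of_controls_fusion [Finite G] {p : ℕ} [Fact p.Prime]
    (P : Sylow p G) (H : Subgroup G)
    (hctl : ∀ x ∈ P, ∀ g : G, g * x * g⁻¹ ∈ P → ∃ h ∈ H, h * x * h⁻¹ = g * x * g⁻¹) (hPH : (P : Subgroup G) ≤ H) :
    commutator G ⊓ (P : Subgroup G) = ⁅H, H⁆ ⊓ (P : Subgroup G) := by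
  apply le_antisymm
  · rw [Subgroup.commutator_inf_eq_focalSubgroup]
    refine le_inf ?_ (Subgroup.focalSubgroup_le _)
    rw [Subgroup.focalSubgroup_def, Subgroup.closure_le]
    rintro g ⟨hgP, x, hxP, u, rfl⟩
    -- ⁅x,u⁆ = x * u * x⁻¹ * u⁻¹
    have h1 : u * x⁻¹ * u⁻¹ ∈ (P : Subgroup G) := by
      have := (P : Subgroup G).mul_mem ((P : Subgroup G).inv_mem hxP) hgP
      rw [commutatorElement_def] at this
      have e : x⁻¹ * (x * u * x⁻¹ * u⁻¹) = u * x⁻¹ * u⁻¹ := by group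
      rwa [e] at this
    obtain ⟨h, hh, hhx⟩ := hctl x⁻¹ ((P : Subgroup G).inv_mem hxP) u h1
    have e : ⁅x, u⁆ = ⁅x, h⁆ := by
      rw [commutatorElement_def, commutatorElement_def]
      have e1 : x * u * x⁻¹ * u⁻¹ = x * (u * x⁻¹ * u⁻¹) := by group
      have e2 : x * h * x⁻¹ * h⁻¹ = x * (h * x⁻¹ * h⁻¹) := by group
      rw [e1, e2, hhx]
    rw [e]
    exact Subgroup.commutator_mem_commutator (hPH hxP) hh
  · refine inf_le_inf_right _ ?_
    rw [commutator_def]
    exact Subgroup.commutator_mono le_top le_top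

theorem conj_image_eq_smul {G : Type*} [Group G] (g : G) (X : Set G) : (fun y => g * y * g⁻¹) '' X = MulAut.conj g • X := by
  rfl

theorem burnside_fusion_sets {G : Type*} [Group G] [Finite G] {p : ℕ} [Fact p.Prime] (P : Sylow p G) (X Y : Set G)
   (hX : ∀ x ∈ P, MulAut.conj x • X = X) (hY : ∀ x ∈ P, MulAut.conj x • Y = Y) (g : G)
   (hg : MulAut.conj g • X = Y) : ∃ n ∈ Subgroup.normalizer (P : Set G), MulAut.conj n • X = Y := by
  let S : Subgroup G := (MulAction.stabilizer (MulAut G) Y).comap MulAut.conj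
  have hS : ∀ c, c ∈ S ↔ MulAut.conj c • Y = Y := fun c => by
    show MulAut.conj c ∈ MulAction.stabilizer (MulAut G) Y ↔ _
    rw [MulAction.mem_stabilizer_iff]
  have hPS : (P : Subgroup G) ≤ S := fun x hx => (hS x).mpr (hY x hx)
  have hgPS : ((g • P : Sylow p G) : Subgroup G) ≤ S := by
    intro z hz
    have hz' : z ∈ MulAut.conj g • (P : Subgroup G) := hz
    rw [Subgroup.mem_pointwise_smul_iff_inv_smul_mem] at hz'
    rw [hS, ← hg, smul_smul]
    have e : MulAut.conj z * MulAut.conj g = MulAut.conj g * MulAut.conj (g⁻¹ * z * g) := by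
      rw [← map_mul, ← map_mul]; congr 1; group
    rw [e, mul_smul]
    congr 1
    apply hX
    have hz2 : g⁻¹ * z * g ∈ (P : Subgroup G) := by simpa [MulAut.smul_def] using hz'
    exact hz2
  obtain ⟨c, hc, hcP⟩ := sylow_conj_of_le S (g • P) P hgPS hPS
  refine ⟨c * g, ?_, ?_⟩
  · rw [← Sylow.smul_eq_iff_mem_normalizer, mul_smul]; exact hcP
  · rw [map_mul, mul_smul, hg]; exact (hS c).mp hc

end Cfsg.Agent.Lib.Helper1
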