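import Mathlib
import Cfsg.Agent.Lib.Helper1.Fusion
import Cfsg.Prelude.Def_Transfer
set_option autoImplicit false
open Pointwise
open scoped commutatorElement

namespace Cfsg.Agent.Lib.Helper1

universe u

variable {G : Type u} [Group G]

theorem pResidual_characteristic (p : ℕ) : (Cfsg.pResidual p G).Characteristic := by
  rw [Subgroup.characteristic_iff_map_eq]
  intro φ
  unfold Cfsg.pResidual
  rw [MonoidHom.map_closure]
  congr 1
  ext g
  simp only [Set.mem_image, Set.mem_ofPred_eq, MulEquiv.coe_toMonoidHom]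
  constructor
  · rintro ⟨x, hx, rfl⟩
    rwa [MulEquiv.orderOf_eq]
  · intro hg
    exact ⟨φ.symm g, by rwa [MulEquiv.orderOf_eq], by simp⟩

instance pResidual_normal (p : ℕ) : (Cfsg.pResidual p G).Normal :=
  have := pResidual_characteristic (G := G) p
  Subgroup.normal_of_characteristic _

theorem mem_pResidual_of_coprime {p : ℕ} {g : G} (h : (orderOf g).Coprime p) :
    g ∈ Cfsg.pResidual p G :=
  Subgroup.subset_closure h

/-- `G / O^p(G)` is a `p`-group. -/
theorem isPGroup_quotient_pResidual [Finite G] (p : ℕ) [hp : Fact p.Prime] :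
    IsPGroup p (G ⧸ Cfsg.pResidual p G) := by
  intro x
  obtain ⟨g, rfl⟩ := QuotientGroup.mk_surjective x
  obtain ⟨e, m, hm, hem⟩ := Nat.exists_eq_pow_mul_and_not_dvd (orderOf_pos g).ne' p hp.out.ne_one
  refine ⟨e, ?_⟩
  rw [← QuotientGroup.mk_pow, QuotientGroup.eq_one_iff]
  apply mem_pResidual_of_coprime
  have h1 : orderOf (g ^ p ^ e) ∣ m := by
    apply orderOf_dvd_of_pow_eq_one
    rw [← pow_mul, ← hem, pow_orderOf_eq_one]
  exact Nat.Coprime.coprime_dvd_left h1 ((Nat.coprime_comm.mp ((hp.out.coprime_iff_not_dvd).mpr hm)))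

/-- `O^p(G)` is contained in every normal subgroup with `p`-group quotient. -/
theorem pResidual_le_of_isPGroup_quotient {p : ℕ} [hp : Fact p.Prime] (K : Subgroup G) [K.Normal]
    (hK : IsPGroup p (G ⧸ K)) : Cfsg.pResidual p G ≤ K := by
  unfold Cfsg.pResidual
  rw [Subgroup.closure_le]
  intro g hg
  have hg' : (orderOf g).Coprime p := hg
  rw [SetLike.mem_coe, ← QuotientGroup.eq_one_iff, ← orderOf_eq_one_iff]
  obtain ⟨k, hk⟩ := hK (g : G ⧸ K)
  have h1 : orderOf (g : G ⧸ K) ∣ orderOf g := orderOf_dvd_of_pow_eq_one (by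
    rw [← QuotientGroup.mk_pow, pow_orderOf_eq_one]; rfl)
  have h2 : orderOf (g : G ⧸ K) ∣ p ^ k := orderOf_dvd_of_pow_eq_one hk
  exact Nat.eq_one_of_dvd_coprimes (hg'.pow_right k) h1 h2

/-- A Sylow `p`-subgroup supplements `O^p(G)`. -/
theorem sylow_sup_pResidual_eq_top [Finite G] {p : ℕ} [hp : Fact p.Prime] (P : Sylow p G) :
    (P : Subgroup G) ⊔ Cfsg.pResidual p G = ⊤ := by
  have h1 : ((P : Subgroup G) ⊔ Cfsg.pResidual p G).index ∣ (P : Subgroup G).index :=
    Subgroup.index_dvd_of_le le_sup_left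
  have h2 : ((P : Subgroup G) ⊔ Cfsg.pResidual p G).index ∣ (Cfsg.pResidual p G).index :=
    Subgroup.index_dvd_of_le le_sup_right
  obtain ⟨k, hk⟩ := IsPGroup.iff_card.mp (isPGroup_quotient_pResidual (G := G) p)
  have hk' : (Cfsg.pResidual p G).index = p ^ k := hk
  rw [hk'] at h2
  have h3 : Nat.Coprime ((P : Subgroup G).index) (p ^ k) := by
    apply Nat.Coprime.pow_right
    rw [Nat.coprime_comm, hp.out.coprime_iff_not_dvd]
    exact P.not_dvd_index
  rw [← Subgroup.index_eq_one]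
  exact Nat.eq_one_of_dvd_coprimes h3 h1 h2

/-- `P ∩ O^p(G) ≤ G'` for a Sylow `p`-subgroup `P`. -/
theorem sylow_inf_pResidual_le_commutator [Finite G] {p : ℕ} [hp : Fact p.Prime] (P : Sylow p G) :
    (P : Subgroup G) ⊓ Cfsg.pResidual p G ≤ commutator G := by
  set m := (P : Subgroup G).index with hm
  let π : G →* Abelianization G := Abelianization.of
  let f : G →* Abelianization G := (powMonoidHom m).comp π
  have hcard : Nat.card (P : Subgroup G) * m = Nat.card G := (P : Subgroup G).card_mul_index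
  obtain ⟨k, hk⟩ := P.2.exists_card_eq
  have hres : Cfsg.pResidual p G ≤ f.ker := by
    unfold Cfsg.pResidual
    rw [Subgroup.closure_le]
    intro g hg
    have hg' : (orderOf g).Coprime p := hg
    have h1 : orderOf g ∣ p ^ k * m := by
      rw [← hk, hcard]; exact orderOf_dvd_natCard g
    have h2 : orderOf g ∣ m := (hg'.pow_right k).dvd_of_dvd_mul_left h1
    rw [SetLike.mem_coe, MonoidHom.mem_ker]
    show (π g) ^ m = 1
    rw [← map_pow, orderOf_dvd_iff_pow_eq_one.mp h2, map_one]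
  rintro x ⟨hxP, hxR⟩
  have h1 : (π x) ^ m = 1 := hres hxR
  have h2 : (π x) ^ (p ^ k) = 1 := by
    rw [← map_pow]
    have : x ^ p ^ k = 1 := by
      have := pow_card_eq_one' (G := (P : Subgroup G)) (x := ⟨x, hxP⟩)
      rw [hk] at this
      exact congrArg Subtype.val this
    rw [this, map_one]
  have h3 : orderOf (π x) = 1 := by
    have hc : Nat.Coprime m (p ^ k) := by
      apply Nat.Coprime.pow_right
      rw [Nat.coprime_comm, hp.out.coprime_iff_not_dvd]
      exact P.not_dvd_index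
    exact Nat.eq_one_of_dvd_coprimes hc (orderOf_dvd_of_pow_eq_one h1) (orderOf_dvd_of_pow_eq_one h2)
  rw [orderOf_eq_one_iff] at h3
  have : x ∈ (Abelianization.of : G →* Abelianization G).ker := h3
  rwa [Abelianization.ker_of] at this

/-- If a Sylow `p`-subgroup is abelian then `G' ≤ O^p(G)`. -/
theorem commutator_le_pResidual_of_abelian_sylow [Finite G] {p : ℕ} [hp : Fact p.Prime]
    (P : Sylow p G) (hP : IsMulCommutative (P : Subgroup G)) :
    commutator G ≤ Cfsg.pResidual p G := by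
  rw [← Subgroup.Normal.quotient_commutative_iff_commutator_le]
  constructor
  constructor
  intro a b
  obtain ⟨x, rfl⟩ := QuotientGroup.mk_surjective a
  obtain ⟨y, rfl⟩ := QuotientGroup.mk_surjective b
  have hx : x ∈ (P : Subgroup G) ⊔ Cfsg.pResidual p G := by
    rw [sylow_sup_pResidual_eq_top]; trivial
  have hy : y ∈ (P : Subgroup G) ⊔ Cfsg.pResidual p G := by
    rw [sylow_sup_pResidual_eq_top]; trivial
  rw [Subgroup.mem_sup_of_normal_right] at hx hy
  obtain ⟨x1, hx1, x2, hx2, rfl⟩ := hx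
  obtain ⟨y1, hy1, y2, hy2, rfl⟩ := hy
  have ex : ((x1 * x2 : G) : G ⧸ Cfsg.pResidual p G) = (x1 : G ⧸ Cfsg.pResidual p G) := by
    rw [QuotientGroup.mk_mul, (QuotientGroup.eq_one_iff x2).mpr hx2, mul_one]
  have ey : ((y1 * y2 : G) : G ⧸ Cfsg.pResidual p G) = (y1 : G ⧸ Cfsg.pResidual p G) := by
    rw [QuotientGroup.mk_mul, (QuotientGroup.eq_one_iff y2).mpr hy2, mul_one]
  rw [ex, ey, ← QuotientGroup.mk_mul, ← QuotientGroup.mk_mul]
  congr 1
  exact congrArg Subtype.val (hP.is_comm.comm ⟨x1, hx1⟩ ⟨y1, hy1⟩)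

/-- Finer form of the focal subgroup theorem under control of fusion:
`G' ∩ P ≤ [P, H]`. -/
theorem commutator_inf_sylow_le_of_controls_fusion [Finite G] {p : ℕ} [Fact p.Prime]
    (P : Sylow p G) (H : Subgroup G)
    (hctl : ∀ x ∈ P, ∀ g : G, g * x * g⁻¹ ∈ P → ∃ h ∈ H, h * x * h⁻¹ = g * x * g⁻¹) :
    commutator G ⊓ (P : Subgroup G) ≤ ⁅(P : Subgroup G), H⁆ := by
  rw [Subgroup.commutator_inf_eq_focalSubgroup]
  rw [Subgroup.focalSubgroup_def, Subgroup.closure_le]
  rintro g ⟨hgP, x, hxP, u, rfl⟩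
  have h1 : u * x⁻¹ * u⁻¹ ∈ (P : Subgroup G) := by
    have := (P : Subgroup G).mul_mem ((P : Subgroup G).inv_mem hxP) hgP
    rw [commutatorElement_def] at this
    have e : x⁻¹ * (x * u * x⁻¹ * u⁻¹) = u * x⁻¹ * u⁻¹ := by group
    rwa [e] at this
  obtain ⟨h, hh, hhx⟩ := hctl x⁻¹ ((P : Subgroup G).inv_mem hxP) u h1
  have e : ⁅x, u⁆ = ⁅x, h⁆ := by
    rw [commutatorElement_def, commutatorElement_def]
    have e1 : x * u * x⁻¹ * u⁻¹ = x * (u * x⁻¹ * u⁻¹) := by group
    have e2 : x * h * x⁻¹ * h⁻¹ = x * (h * x⁻¹ * h⁻¹) := by group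
    rw [e1, e2, hhx]
  rw [e]
  exact Subgroup.commutator_mem_commutator hxP hh

/-- For an abelian Sylow `p`-subgroup, `G' ∩ P = [P, N_G(P)]`. -/
theorem commutator_inf_abelian_sylow [Finite G] {p : ℕ} [Fact p.Prime]
    (P : Sylow p G) (hP : IsMulCommutative (P : Subgroup G)) :
    commutator G ⊓ (P : Subgroup G) = ⁅(P : Subgroup G), Subgroup.normalizer (P : Set G)⁆ := by
  apply le_antisymm
  · apply commutator_inf_sylow_le_of_controls_fusion
    intro x hx g hg
    have hg' : g⁻¹⁻¹ * x * g⁻¹ ∈ P := by rwa [inv_inv]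
    obtain ⟨n, hn, hnx⟩ := P.conj_eq_normalizer_conj_of_mem x g⁻¹ hx hg'
    refine ⟨n⁻¹, Subgroup.inv_mem _ hn, ?_⟩
    rw [inv_inv] at hnx ⊢
    exact hnx.symm
  · refine le_inf ?_ ?_
    · rw [commutator_def]
      exact Subgroup.commutator_mono le_top le_top
    · exact Subgroup.le_normalizer_iff_commutator_le_left.mp le_rfl |>.trans le_rfl

/-- For an abelian Sylow `p`-subgroup, `P ∩ O^p(G) = P ∩ G'`. -/
theorem abelian_sylow_inf_pResidual [Finite G] {p : ℕ} [Fact p.Prime]
    (P : Sylow p G) (hP : IsMulCommutative (P : Subgroup G)) :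
    (P : Subgroup G) ⊓ Cfsg.pResidual p G = commutator G ⊓ (P : Subgroup G) := by
  apply le_antisymm
  · exact le_inf (sylow_inf_pResidual_le_commutator P) inf_le_left
  · exact le_inf inf_le_right (inf_le_left.trans (commutator_le_pResidual_of_abelian_sylow P hP))

end Cfsg.Agent.Lib.Helper1
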