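import Mathlib
import Cfsg.Agent.Lib.Helper1.PResidual

set_option autoImplicit false
open Pointwise
open scoped commutatorElement
universe u
namespace Cfsg.Agent.Lib.Helper1
variable {G : Type u} [Group G]

/-- `O^p(O^p(G)) = O^p(G)`. -/
theorem pResidual_pResidual_eq_top (p : ℕ) :
    Cfsg.pResidual p (Cfsg.pResidual p G) = ⊤ := by
  apply Subgroup.map_injective (Cfsg.pResidual p G).subtype_injective
  rw [← MonoidHom.range_eq_map, Subgroup.range_subtype]
  unfold Cfsg.pResidual
  rw [MonoidHom.map_closure]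
  congr 1
  ext g
  constructor
  · rintro ⟨x, hx, rfl⟩
    have : orderOf ((x : G)) = orderOf x := Subgroup.orderOf_coe x
    show (orderOf (x : G)).Coprime p
    rw [this]; exact hx
  · intro hg
    refine ⟨⟨g, Subgroup.subset_closure hg⟩, ?_, rfl⟩
    show (orderOf (⟨g, _⟩ : Subgroup.closure {g : G | (orderOf g).Coprime p})).Coprime p
    rw [← Subgroup.orderOf_coe]
    exact hg

theorem map_normalizer_subtype_le (N : Subgroup G) (Q : Subgroup N) :
    (Subgroup.normalizer (Q : Set N)).map N.subtype ≤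
      Subgroup.normalizer ((Q.map N.subtype : Subgroup G) : Set G) ⊓ N := by
  rintro _ ⟨x, hx, rfl⟩
  refine Subgroup.mem_inf.mpr ⟨?_, x.2⟩
  have hx := Subgroup.mem_normalizer_iff.mp (SetLike.mem_coe.mp hx)
  rw [Subgroup.mem_normalizer_iff]
  intro y
  constructor
  · rintro ⟨z, hz, rfl⟩
    exact ⟨x * z * x⁻¹, (hx z).mp hz, rfl⟩
  · rintro ⟨z, hz, hzy⟩
    have hzy' : (z : G) = (x : G) * y * (x : G)⁻¹ := hzy
    have hyN : y ∈ N := by
      have h3 : y = (x : G)⁻¹ * (z : G) * x := by rw [hzy']; group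
      rw [h3]
      exact N.mul_mem (N.mul_mem (N.inv_mem x.2) z.2) x.2
    refine ⟨⟨y, hyN⟩, ?_, rfl⟩
    have : x * ⟨y, hyN⟩ * x⁻¹ = z := Subtype.ext hzy'.symm
    exact (hx ⟨y, hyN⟩).mpr (this ▸ hz)

/-- If the Sylow `p`-subgroup `Q` of `N` with `O^p(N) = N` is abelian, then `Q = [Q, N_N(Q)]`
(statement in `G`). -/
theorem abelian_sylow_le_commutator_of_pResidual_eq_top [Finite G] {p : ℕ} [Fact p.Prime]
    (N : Subgroup G) (hN : Cfsg.pResidual p N = ⊤)
    (Q : Sylow p N) (hQ : IsMulCommutative Q) :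
    (Q : Subgroup N).map N.subtype ≤
      ⁅(Q : Subgroup N).map N.subtype,
        Subgroup.normalizer (((Q : Subgroup N).map N.subtype : Subgroup G) : Set G) ⊓ N⁆ := by
  have h1 := abelian_sylow_inf_pResidual Q hQ
  rw [hN, inf_top_eq, commutator_inf_abelian_sylow Q hQ] at h1
  have h2 := congrArg (Subgroup.map N.subtype) h1
  rw [Subgroup.map_commutator] at h2
  exact h2.le.trans (Subgroup.commutator_mono le_rfl (map_normalizer_subtype_le N _))

end Cfsg.Agent.Lib.Helper1
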