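import Mathlib
import Cfsg.Agent.Lib.Helper1.Hall
set_option autoImplicit false
open Pointwise

namespace Cfsg.Agent.Lib.Helper1

universe u

variable {G : Type u} [Group G]

theorem mem_normalizer_of_conj_smul_eq {H : Subgroup G} {x : G} (h : MulAut.conj x • H = H) :
    x ∈ Subgroup.normalizer (H : Set G) := by
  rw [Subgroup.mem_normalizer_iff]
  intro y
  constructor
  · intro hy
    rw [← h]
    exact Subgroup.smul_mem_pointwise_smul y (MulAut.conj x) H hy
  · intro hy
    have hy' : x * y * x⁻¹ ∈ MulAut.conj x • H := h.symm ▸ hy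
    rw [Subgroup.mem_pointwise_smul_iff_inv_smul_mem] at hy'
    have e : (MulAut.conj x)⁻¹ • (x * y * x⁻¹) = y := by
      simp [MulAut.smul_def, mul_assoc]
    rwa [e] at hy'

theorem conj_smul_eq_of_mem_normalizer {H : Subgroup G} {x : G}
    (h : x ∈ Subgroup.normalizer (H : Set G)) : MulAut.conj x • H = H := by
  ext y
  rw [Subgroup.mem_pointwise_smul_iff_inv_smul_mem]
  have := (Subgroup.mem_normalizer_iff.mp (Subgroup.inv_mem _ h) y)
  simp only [inv_inv] at this
  rw [this]
  simp

/-- Frattini argument for Hall subgroups of a solvable normal subgroup. -/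
theorem frattini_hall [Finite G] (L : Subgroup G) [hLn : L.Normal] (hL : Group.IsSolvable L)
    (H : Subgroup G) (hHL : H ≤ L) (hHall : (Nat.card H).Coprime (H.relIndex L)) :
    L ⊔ Subgroup.normalizer (H : Set G) = ⊤ := by
  rw [eq_top_iff]
  intro g _
  set H' : Subgroup G := MulAut.conj g • H with hH'
  have hH'L : H' ≤ L := by
    have : MulAut.conj g • H ≤ MulAut.conj g • L :=
      Subgroup.pointwise_smul_le_pointwise_smul_iff.mpr hHL
    rwa [Subgroup.Normal.conj_smul_eq_self g L] at this
  have h1 : (Nat.card (H.subgroupOf L)).Coprime (H.subgroupOf L).index := by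
    rw [card_subgroupOf_of_le hHL]; exact hHall
  have h2 : Nat.card (H.subgroupOf L) = Nat.card (H'.subgroupOf L) := by
    rw [card_subgroupOf_of_le hHL, card_subgroupOf_of_le hH'L, hH', card_conj_smul]
  obtain ⟨l, hl⟩ := hall_conj (H.subgroupOf L) (H'.subgroupOf L) h1 h2
  have h3 := conj_smul_of_subgroupOf hHL hH'L l hl
  have h4 : MulAut.conj ((l : G)⁻¹ * g) • H = H := by
    rw [map_mul, mul_smul, ← hH', ← h3, ← mul_smul, ← map_mul, inv_mul_cancel, map_one, one_smul]
  have h5 := mem_normalizer_of_conj_smul_eq h4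
  have e : g = (l : G) * ((l : G)⁻¹ * g) := by group
  rw [e]
  exact Subgroup.mul_mem_sup l.2 h5

end Cfsg.Agent.Lib.Helper1
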