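import Mathlib
import Cfsg.Agent.Lib.Helper1.SplitPResidual1
import Cfsg.Agent.Lib.Helper1.SplitPResidual2
import Cfsg.Agent.Lib.Helper1.RelativeSZ
import Cfsg.Agent.Lib.Helper1.CoprimeAbelian
import Cfsg.Agent.Lib.Helper1.CoprimeIndexP
import Cfsg.Agent.Lib.Helper1.SZConj

set_option autoImplicit false
open Pointwise
open scoped commutatorElement
universe u
namespace Cfsg.Agent.Lib.Helper1
variable {G : Type u} [Group G]

theorem card_sup_mul_card_inf_normal' (H K : Subgroup G) [K.Normal] :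
    Nat.card (H ⊔ K : Subgroup G) * Nat.card (H ⊓ K : Subgroup G) = Nat.card H * Nat.card K := by
  have h1 : Nat.card K * K.relIndex (H ⊔ K) = Nat.card (H ⊔ K : Subgroup G) := by
    rw [← Subgroup.relIndex_bot_left, Subgroup.relIndex_mul_relIndex _ _ _ bot_le le_sup_right,
      Subgroup.relIndex_bot_left]
  have h2 : Nat.card (H ⊓ K : Subgroup G) * K.relIndex H = Nat.card H := by
    rw [← Subgroup.inf_relIndex_left, inf_comm, ← Subgroup.relIndex_bot_left,
      Subgroup.relIndex_mul_relIndex _ _ _ bot_le inf_le_right, Subgroup.relIndex_bot_left]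
  rw [← h1, Subgroup.relIndex_sup_right, ← h2]
  ring

theorem card_eq_card_mul_relIndex {H K : Subgroup G} (h : H ≤ K) :
    Nat.card K = Nat.card H * H.relIndex K := by
  have := Subgroup.relIndex_mul_relIndex ⊥ H K bot_le h
  rw [Subgroup.relIndex_bot_left, Subgroup.relIndex_bot_left] at this
  exact this.symm

theorem exists_complement_of_abelian_sylow [Finite G] {p : ℕ} [hp : Fact p.Prime]
    (N : Subgroup G) [hNn : N.Normal] (k : ℕ) (hidx : N.index = p ^ k)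
    (hres : Cfsg.pResidual p N = ⊤) (Q : Sylow p N) (hQ : IsMulCommutative Q) :
    ∃ K : Subgroup G, K.IsComplement' N := by
  obtain ⟨Q₀, hQ₀⟩ : ∃ Q₀, Q₀ = (Q : Subgroup N).map N.subtype := ⟨_, rfl⟩
  have hQ₀N : Q₀ ≤ N := by rw [hQ₀]; exact Subgroup.map_subtype_le _
  have hQ₀c : IsMulCommutative Q₀ := by
    refine ⟨⟨fun a b => ?_⟩⟩
    have ha : (a : G) ∈ (Q : Subgroup N).map N.subtype := hQ₀.le a.2
    have hb : (b : G) ∈ (Q : Subgroup N).map N.subtype := hQ₀.le b.2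
    obtain ⟨x, hx, hxa⟩ := ha
    obtain ⟨y, hy, hyb⟩ := hb
    apply Subtype.ext
    show (a : G) * b = b * a
    rw [← hxa, ← hyb, ← map_mul, ← map_mul]
    have h1 := congrArg Subtype.val (mul_comm' (⟨x, hx⟩ : Q) ⟨y, hy⟩)
    exact congrArg N.subtype h1
  have hQ₀p : IsPGroup p Q₀ := by rw [hQ₀]; exact Q.isPGroup'.map _
  obtain ⟨M, hM⟩ : ∃ M, M = Subgroup.normalizer (Q₀ : Set G) := ⟨_, rfl⟩
  have hfrat : M ⊔ N = ⊤ := by rw [hM, hQ₀]; exact Sylow.normalizer_sup_eq_top Q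
  have hQ₀M : Q₀ ≤ M := hM ▸ Subgroup.le_normalizer
  obtain ⟨R, hR⟩ : ∃ R, R = M ⊓ N := ⟨_, rfl⟩
  have hRM : R ≤ M := hR ▸ inf_le_left
  have hRN : R ≤ N := hR ▸ inf_le_right
  have hQ₀R : Q₀ ≤ R := hR ▸ le_inf hQ₀M hQ₀N
  have hRnQ : R ≤ Subgroup.normalizer (Q₀ : Set G) := hRM.trans hM.le
  have htr : Q₀ ≤ ⁅Q₀, R⁆ := by
    have := abelian_sylow_le_commutator_of_pResidual_eq_top N hres Q hQ
    rw [← hQ₀, ← hM, ← hR] at this
    exact this
  have hnd : ¬ p ∣ Q₀.relIndex R := by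
    intro hdvd
    have h1 := Subgroup.relIndex_mul_relIndex Q₀ R N hQ₀R hRN
    have h2 : Q₀.relIndex N = (Q : Subgroup N).index := by
      rw [Subgroup.relIndex, hQ₀]
      congr 1
      exact Subgroup.comap_map_eq_self_of_injective N.subtype_injective _
    rw [h2] at h1
    exact Q.not_dvd_index (h1 ▸ dvd_mul_of_dvd_left hdvd _)
  obtain ⟨j, hj⟩ := IsPGroup.iff_card.mp hQ₀p
  have hcop1 : (Nat.card Q₀).Coprime (Q₀.relIndex R) := by
    rw [hj]
    exact Nat.Coprime.pow_left j ((Nat.Prime.coprime_iff_not_dvd hp.out).mpr hnd)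
  obtain ⟨H, hHR, hHQ, hsup, hHcard⟩ := exists_relative_complement Q₀ R hQ₀R hRnQ hcop1
  have hRcard : Nat.card R = Nat.card Q₀ * Nat.card H := by
    rw [hHcard]; exact card_eq_card_mul_relIndex hQ₀R
  have hcopQH : (Nat.card Q₀).Coprime (Nat.card H) := hHcard ▸ hcop1
  have hHnQ : H ≤ Subgroup.normalizer (Q₀ : Set G) := hHR.trans hRnQ
  have hcomm : Q₀ ≤ ⁅Q₀, H⁆ := by
    refine htr.trans ?_
    rw [Subgroup.commutator_le]
    intro q hq r hr
    have hr' : r ∈ ((Q₀ ⊔ H : Subgroup G) : Set G) := by rw [hsup]; exact hr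
    rw [Subgroup.coe_mul_of_right_le_normalizer_left Q₀ H hHnQ] at hr'
    obtain ⟨q', hq', h, hh, rfl⟩ := hr'
    have hqq' : q * q' = q' * q := congrArg Subtype.val (mul_comm' (⟨q, hq⟩ : Q₀) ⟨q', hq'⟩)
    have hc : ⁅q, h⁆ ∈ Q₀ := by
      rw [commutatorElement_def]
      have : q * h * q⁻¹ * h⁻¹ = q * (h * q⁻¹ * h⁻¹) := by group
      rw [this]
      exact Q₀.mul_mem hq ((Subgroup.mem_normalizer_iff.mp (hHnQ hh) _).mp (Q₀.inv_mem hq))
    have hcq' : ⁅q, h⁆ * q' = q' * ⁅q, h⁆ :=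
      congrArg Subtype.val (mul_comm' (⟨_, hc⟩ : Q₀) ⟨q', hq'⟩)
    have e : ⁅q, q' * h⁆ = ⁅q, h⁆ := by
      have e1 : ⁅q, q' * h⁆ = (q * q') * h * q⁻¹ * h⁻¹ * q'⁻¹ := by
        rw [commutatorElement_def]; group
      have e2 : (q' * q) * h * q⁻¹ * h⁻¹ * q'⁻¹ = q' * ⁅q, h⁆ * q'⁻¹ := by
        rw [commutatorElement_def]; group
      rw [e1, hqq', e2, ← hcq', mul_inv_cancel_right]
    rw [e]
    exact Subgroup.commutator_mem_commutator hq hh
  have hCQH : Q₀ ⊓ Subgroup.centralizer (H : Set G) = ⊥ := by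
    have h1 := (coprime_abelian_decomposition H Q₀ hHnQ hcopQH.symm).1
    rw [eq_bot_iff, ← h1]
    exact le_inf le_rfl (inf_le_left.trans hcomm)
  obtain ⟨L, hL⟩ : ∃ L, L = M ⊓ Subgroup.normalizer (H : Set G) := ⟨_, rfl⟩
  have hLM : L ≤ M := hL ▸ inf_le_left
  have hLnH : L ≤ Subgroup.normalizer (H : Set G) := hL ▸ inf_le_right
  have hHL : H ≤ L := hL ▸ le_inf (hHR.trans hRM) Subgroup.le_normalizer
  have hLQ : Q₀ ⊓ L = ⊥ := by
    rw [eq_bot_iff, ← hCQH]
    intro x hx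
    obtain ⟨hxQ, hxL⟩ := Subgroup.mem_inf.mp hx
    refine Subgroup.mem_inf.mpr ⟨hxQ, ?_⟩
    rw [Subgroup.mem_centralizer_iff]
    intro h hh
    have h1 : ⁅x, h⁆ ∈ H := by
      rw [commutatorElement_def]
      have : x * h * x⁻¹ * h⁻¹ = (x * h * x⁻¹) * h⁻¹ := by group
      rw [this]
      exact H.mul_mem ((Subgroup.mem_normalizer_iff.mp (hLnH hxL) _).mp hh) (H.inv_mem hh)
    have h2 : ⁅x, h⁆ ∈ Q₀ := by
      rw [commutatorElement_def]
      have : x * h * x⁻¹ * h⁻¹ = x * (h * x⁻¹ * h⁻¹) := by group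
      rw [this]
      exact Q₀.mul_mem hxQ ((Subgroup.mem_normalizer_iff.mp (hHnQ hh) _).mp (Q₀.inv_mem hxQ))
    have h3 : ⁅x, h⁆ ∈ H ⊓ Q₀ := ⟨h1, h2⟩
    rw [hHQ, Subgroup.mem_bot, commutatorElement_eq_one_iff_mul_comm] at h3
    exact h3.symm
  have hMnR : M ≤ Subgroup.normalizer (R : Set G) := by
    rw [hR]; exact smul_le_normalizer_inf_normal M N
  have hcover : ∀ m ∈ M, ∃ a ∈ Q₀, a⁻¹ * m ∈ L := by
    intro m hm
    obtain ⟨a, ha, ham⟩ := exists_mul_mem_normalizer_of_complement Q₀ R H hQ₀R hHR hRnQ hRcard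
      hcopQH m (hMnR hm)
    refine ⟨a, ha, ?_⟩
    rw [hL]
    exact ⟨M.mul_mem (M.inv_mem (hQ₀M ha)) hm, ham⟩
  have hMcard : Nat.card M = Nat.card Q₀ * Nat.card L := by
    have h1 : Q₀.relIndex L = Q₀.relIndex M := by
      apply relIndex_eq_of_cover hLM
      intro m hm
      obtain ⟨a, ha, ham⟩ := hcover m⁻¹ (M.inv_mem hm)
      refine ⟨(a⁻¹ * m⁻¹)⁻¹, L.inv_mem ham, a⁻¹, Q₀.inv_mem ha, ?_⟩
      group
    have h2 : Q₀.relIndex L = Nat.card L := by
      rw [← Subgroup.inf_relIndex_right, hLQ, Subgroup.relIndex_bot_left]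
    rw [card_eq_card_mul_relIndex hQ₀M, ← h1, h2]
  have hidxM : R.relIndex M = p ^ k := by
    rw [hR, Subgroup.inf_relIndex_left, ← Subgroup.relIndex_sup_right (K := N), hfrat,
      Subgroup.relIndex_top_right, hidx]
  have hLcard : Nat.card L = Nat.card H * p ^ k := by
    have h1 := card_eq_card_mul_relIndex hRM
    rw [hMcard, hRcard, hidxM, mul_assoc] at h1
    exact Nat.eq_of_mul_eq_mul_left Nat.card_pos h1
  have hHrel : H.relIndex L = p ^ k := by
    have h1 := card_eq_card_mul_relIndex hHL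
    rw [hLcard] at h1
    exact (Nat.eq_of_mul_eq_mul_left Nat.card_pos h1).symm
  have hcop2 : (Nat.card H).Coprime (H.relIndex L) := by
    rw [hHrel, hHcard]
    exact Nat.Coprime.pow_right k (((Nat.Prime.coprime_iff_not_dvd hp.out).mpr hnd).symm)
  obtain ⟨K, hKL, hKH, hsupK, hKcard⟩ := exists_relative_complement H L hHL hLnH hcop2
  rw [hHrel] at hKcard
  have hKN : K ⊔ N = ⊤ := by
    rw [eq_top_iff, ← hfrat]
    apply sup_le _ le_sup_right
    intro m hm
    obtain ⟨a, ha, ham⟩ := hcover m hm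
    have h1 : a⁻¹ * m ∈ K ⊔ N := by
      rw [← hsupK] at ham
      exact (sup_le (le_sup_of_le_right (hHR.trans hRN)) le_sup_left) ham
    have h2 : a ∈ K ⊔ N := Subgroup.mem_sup_right (hQ₀N ha)
    have : m = a * (a⁻¹ * m) := by group
    rw [this]
    exact Subgroup.mul_mem _ h2 h1
  have hGcard : Nat.card G = p ^ k * Nat.card N := by
    rw [← hidx, mul_comm]; exact (Subgroup.card_mul_index N).symm
  refine ⟨K, Subgroup.isComplement'_of_card_mul_and_disjoint ?_ ?_⟩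
  · rw [hKcard, hGcard]
  · rw [disjoint_iff, ← Subgroup.card_eq_one]
    have h1 := card_sup_mul_card_inf_normal' K N
    rw [hKN, Subgroup.card_top, hKcard, ← hGcard] at h1
    have h2 : Nat.card G * Nat.card (K ⊓ N : Subgroup G) = Nat.card G * 1 := by
      rw [h1, mul_one]
    exact Nat.eq_of_mul_eq_mul_left Nat.card_pos h2

theorem exists_complement_pResidual [Finite G] {p : ℕ} [hp : Fact p.Prime]
    (h : ∀ Q : Sylow p (Cfsg.pResidual p G), IsMulCommutative Q) :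
    ∃ K : Subgroup G, K.IsComplement' (Cfsg.pResidual p G) := by
  obtain ⟨k, hk⟩ := IsPGroup.iff_card.mp (isPGroup_quotient_pResidual (G := G) p)
  have Q : Sylow p (Cfsg.pResidual p G) := default
  exact exists_complement_of_abelian_sylow (Cfsg.pResidual p G) k hk
    (pResidual_pResidual_eq_top p) Q (h Q)

end Cfsg.Agent.Lib.Helper1
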