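import Mathlib
import Cfsg.Agent.Lib.Helper1.SZHelpers
import Cfsg.Agent.Lib.Helper1.SplitPResidual3
import Cfsg.Agent.Lib.Helper1.GlaubermanRepl2
set_option autoImplicit false
open scoped Pointwise commutatorElement
universe u
namespace Cfsg.Agent.Lib.Helper1.GlaubermanRepl

variable {G : Type u} [Group G]

theorem card_sup_mul_card_inf_of_le_normalizer (X K : Subgroup G)
    (h : X ≤ Subgroup.normalizer (K : Set G)) :
    Nat.card (X ⊔ K : Subgroup G) * Nat.card (X ⊓ K : Subgroup G) = Nat.card X * Nat.card K := by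
  obtain ⟨N, hN⟩ : ∃ N, N = Subgroup.normalizer (K : Set G) := ⟨_, rfl⟩
  rw [← hN] at h
  have hK : K ≤ N := hN ▸ Subgroup.le_normalizer
  have hnormal : (K.subgroupOf N).Normal := by rw [hN]; infer_instance
  have h1 := card_sup_mul_card_inf_normal' (X.subgroupOf N) (K.subgroupOf N)
  rw [← Subgroup.subgroupOf_sup h hK, card_subgroupOf_of_le (sup_le h hK),
    card_subgroupOf_of_le h, card_subgroupOf_of_le hK] at h1
  have h2 : X.subgroupOf N ⊓ K.subgroupOf N = (X ⊓ K).subgroupOf N := rfl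
  rw [h2, card_subgroupOf_of_le (inf_le_left.trans h)] at h1
  exact h1

theorem tau_one (b : G) : tau b 1 = 1 := by unfold tau; group

namespace Setup

variable {A B : Subgroup G} {b : G} (s : Setup A B b)
include s

theorem Astar_le_H : Astar A b ≤ A ⊔ conjA A b := by
  unfold Astar
  apply sup_le (inf_le_left.trans le_sup_left)
  unfold commAb
  rw [Subgroup.closure_le]
  rintro _ ⟨a, ha, rfl⟩
  exact Setup.tau_mem_H ha

omit s in
theorem tau_mem_Astar {a : G} (ha : a ∈ A) : tau b a ∈ Astar A b := by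
  unfold Astar commAb
  exact Subgroup.mem_sup_right (Subgroup.subset_closure ⟨a, ha, rfl⟩)

theorem normal_form : ∀ x ∈ Astar A b, ∃ z ∈ A ⊓ conjA A b, ∃ a ∈ A, x = z * tau b a := by
  have hform_mul : ∀ z ∈ A ⊓ conjA A b, ∀ a ∈ A, ∀ z' ∈ A ⊓ conjA A b, ∀ a' ∈ A,
      ∃ z'' ∈ A ⊓ conjA A b, ∃ a'' ∈ A, (z * tau b a) * (z' * tau b a') = z'' * tau b a'' := by
    intro z hz a ha z' hz' a' ha'
    have hc : ⁅a', tau b a⁆ ∈ A ⊓ conjA A b :=
      s.comm_mem _ (Subgroup.mem_sup_left ha') _ (Setup.tau_mem_H ha)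
    refine ⟨z * z' * ⁅a', tau b a⁆⁻¹, Subgroup.mul_mem _ (Subgroup.mul_mem _ hz hz')
      (Subgroup.inv_mem _ hc), a' * a, A.mul_mem ha' ha, ?_⟩
    have h1 : tau b (a' * a) = ⁅a', tau b a⁆ * tau b a * tau b a' := by
      rw [tau_mul, commutatorElement_def]; group
    have h2 := s.central z' hz' _ (Setup.tau_mem_H ha)
    rw [h1]
    calc z * tau b a * (z' * tau b a') = z * (tau b a * z') * tau b a' := by group
      _ = z * (z' * tau b a) * tau b a' := by rw [h2]
      _ = z * z' * ⁅a', tau b a⁆⁻¹ * (⁅a', tau b a⁆ * tau b a * tau b a') := by group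
  have hform_inv : ∀ z ∈ A ⊓ conjA A b, ∀ a ∈ A,
      ∃ z'' ∈ A ⊓ conjA A b, ∃ a'' ∈ A, (z * tau b a)⁻¹ = z'' * tau b a'' := by
    intro z hz a ha
    have hc : ⁅a, tau b a⁻¹⁆ ∈ A ⊓ conjA A b :=
      s.comm_mem _ (Subgroup.mem_sup_left ha) _ (Setup.tau_mem_H (A.inv_mem ha))
    refine ⟨z⁻¹ * ⁅a, tau b a⁻¹⁆, Subgroup.mul_mem _ (Subgroup.inv_mem _ hz) hc, a⁻¹,
      A.inv_mem ha, ?_⟩
    have h1 : (tau b a)⁻¹ = ⁅a, tau b a⁻¹⁆ * tau b a⁻¹ := by
      rw [commutatorElement_def]; unfold tau; group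
    have h2 := s.central z⁻¹ (Subgroup.inv_mem _ hz) _ (Setup.tau_mem_H ha)
    have h3 : (tau b a)⁻¹ * z⁻¹ = z⁻¹ * (tau b a)⁻¹ := by
      have hcm : Commute z⁻¹ (tau b a) := h2
      exact hcm.inv_right.eq.symm
    rw [mul_inv_rev, h3, h1]; group
  intro x hx
  have hA : Astar A b = Subgroup.closure (((A ⊓ conjA A b : Subgroup G) : Set G) ∪
      {g : G | ∃ a ∈ A, g = a * b⁻¹ * a⁻¹ * b}) := by
    unfold Astar commAb
    rw [Subgroup.closure_union, Subgroup.closure_eq]
  rw [hA] at hx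
  induction hx using Subgroup.closure_induction with
  | mem x hx =>
    rcases hx with hx | ⟨a, ha, rfl⟩
    · exact ⟨x, hx, 1, A.one_mem, by rw [tau_one, mul_one]⟩
    · exact ⟨1, Subgroup.one_mem _, a, ha, by rw [one_mul]; rfl⟩
  | one => exact ⟨1, Subgroup.one_mem _, 1, A.one_mem, by rw [tau_one, mul_one]⟩
  | mul x y _ _ ihx ihy =>
    obtain ⟨z, hz, a, ha, rfl⟩ := ihx
    obtain ⟨z', hz', a', ha', rfl⟩ := ihy
    exact hform_mul z hz a ha z' hz' a' ha'
  | inv x _ ih =>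
    obtain ⟨z, hz, a, ha, rfl⟩ := ih
    exact hform_inv z hz a ha

theorem Astar_inf_conjA : Astar A b ⊓ conjA A b = A ⊓ conjA A b := by
  apply le_antisymm
  · rintro x ⟨hx1, hx2⟩
    obtain ⟨z, hz, a, ha, rfl⟩ := s.normal_form x hx1
    have h1 : tau b a ∈ conjA A b := by
      have : tau b a = z⁻¹ * (z * tau b a) := by group
      rw [this]
      exact Subgroup.mul_mem _ (Subgroup.inv_mem _ hz.2) hx2
    have h2 : a ∈ conjA A b := by
      have e : a = tau b a * (b⁻¹ * a * b) := by unfold tau; group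
      rw [e]
      exact Subgroup.mul_mem _ h1 (conj_mem_conjA ha)
    exact Subgroup.mul_mem _ hz ((s.tau_mem_inf_iff ha).mpr ⟨ha, h2⟩)
  · exact le_inf (by unfold Astar; exact le_sup_left) inf_le_right

theorem Astar_sup_conjA : Astar A b ⊔ conjA A b = A ⊔ conjA A b := by
  apply le_antisymm (sup_le s.Astar_le_H le_sup_right)
  apply sup_le _ le_sup_right
  intro a ha
  have e : a = tau b a * (b⁻¹ * a * b) := by unfold tau; group
  rw [e]
  exact Subgroup.mul_mem _ (Subgroup.mem_sup_left (Setup.tau_mem_Astar ha))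
    (Subgroup.mem_sup_right (conj_mem_conjA ha))

omit s in
theorem card_conjA [Finite G] : Nat.card (conjA A b) = Nat.card A := by
  unfold conjA
  exact Subgroup.card_map_of_injective (MulAut.conj b⁻¹).injective

theorem card_Astar [Finite G] : Nat.card (Astar A b) = Nat.card A := by
  have h1 := card_sup_mul_card_inf_of_le_normalizer A (conjA A b) s.le_normalizer_conjA
  have hle : Astar A b ≤ Subgroup.normalizer (conjA A b : Set G) :=
    s.Astar_le_H.trans (sup_le s.le_normalizer_conjA Subgroup.le_normalizer)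
  have h2 := card_sup_mul_card_inf_of_le_normalizer (Astar A b) (conjA A b) hle
  rw [s.Astar_sup_conjA, s.Astar_inf_conjA, h1] at h2
  have hpos : 0 < Nat.card (conjA A b) := Nat.card_pos
  exact (Nat.eq_of_mul_eq_mul_right hpos h2).symm

end Setup

end Cfsg.Agent.Lib.Helper1.GlaubermanRepl
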