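import Mathlib
import Cfsg.Prelude.Def_PLocal
import Cfsg.Agent.Lib.Helper1.PCore
import Cfsg.Agent.Lib.Helper1.CoprimeSylow
import Cfsg.Agent.Lib.Helper1.GlaubermanRepl3
import Cfsg.Agent.Lib.Helper1.NormalPComplement

/-! A normal `p`-complement is abelian when a Sylow `p`-subgroup is a maximal subgroup. -/
set_option autoImplicit false
universe u v
open Cfsg
open scoped commutatorElement

namespace Cfsg.Agent.Lib.Helper1.NPC
open Cfsg.Agent.Lib.Helper1.GlaubermanRepl
variable {G : Type u} [Group G]

theorem eq_bot_or_eq_of_invariant [Finite G] {p : ℕ} [hp : Fact p.Prime] (T : Sylow p G)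
    (hT : IsCoatom (T : Subgroup G)) (O : Subgroup G) (hO : O.IsComplement' (T : Subgroup G))
    (R : Subgroup G) (hRO : R ≤ O) (hTR : (T : Subgroup G) ≤ Subgroup.normalizer (R : Set G)) :
    R = ⊥ ∨ R = O := by
  have hdisj : O ⊓ (T : Subgroup G) = ⊥ := hO.disjoint.eq_bot
  have hRT : (T : Subgroup G) ⊓ R = ⊥ := by
    rw [eq_bot_iff, ← hdisj, inf_comm]
    exact inf_le_inf_right _ hRO
  have hcard := card_sup_mul_card_inf_of_le_normalizer (T : Subgroup G) R hTR
  rw [hRT, Subgroup.card_bot, mul_one] at hcard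
  by_cases hlt : (T : Subgroup G) < (T : Subgroup G) ⊔ R
  · right
    have htop := hT.2 _ hlt
    rw [htop, Subgroup.card_top, ← hO.card_mul, mul_comm] at hcard
    have hTpos : 0 < Nat.card (T : Subgroup G) := Nat.card_pos
    have h2 : Nat.card O = Nat.card R := Nat.eq_of_mul_eq_mul_left hTpos hcard
    exact Subgroup.eq_of_le_of_card_ge hRO h2.le
  · left
    have h1 : (T : Subgroup G) ⊔ R = T := by
      by_contra hne
      exact hlt (lt_of_le_of_ne le_sup_left (Ne.symm hne))
    have h2 : R ≤ T := by rw [← h1]; exact le_sup_right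
    rw [eq_bot_iff, ← hRT]
    exact le_inf h2 le_rfl

theorem normal_complement_comm_of_coatom [Finite G] {p : ℕ} [hp : Fact p.Prime] (T : Sylow p G)
    (hT : IsCoatom (T : Subgroup G)) (O : Subgroup G) [hOn : O.Normal]
    (hO : O.IsComplement' (T : Subgroup G)) : ∀ x ∈ O, ∀ y ∈ O, x * y = y * x := by
  by_cases hObot : O = ⊥
  · intro x hx y hy
    rw [hObot, Subgroup.mem_bot] at hx hy
    rw [hx, hy]
  have hTO : (T : Subgroup G) ≤ Subgroup.normalizer (O : Set G) := by
    rw [Subgroup.normalizer_eq_top]; exact le_top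
  have hcardO : (Nat.card O).Coprime p := by
    rw [Nat.coprime_comm, hp.out.coprime_iff_not_dvd, ← hO.index_eq_card]
    exact T.not_dvd_index
  have hcop : (Nat.card (T : Subgroup G)).Coprime (Nat.card O) := by
    obtain ⟨n, hn⟩ := (IsPGroup.iff_card).mp T.isPGroup'
    rw [hn]
    exact (Nat.Coprime.pow_right n hcardO).symm
  have hsolv : Group.IsSolvable (T : Subgroup G) := by
    haveI := T.isPGroup'.isNilpotent
    infer_instance
  -- a prime dividing |O|
  have hcard1 : Nat.card O ≠ 1 := by
    intro h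
    exact hObot (Subgroup.card_eq_one.mp h)
  obtain ⟨q, hq, hqd⟩ := Nat.exists_prime_and_dvd hcard1
  haveI : Fact q.Prime := ⟨hq⟩
  obtain ⟨Rq, hRq⟩ := coprime_exists_invariant_sylow (T : Subgroup G) O hTO hcop (Or.inl hsolv) q
  have hRO : (Rq : Subgroup O).map O.subtype ≤ O := Subgroup.map_subtype_le _
  have hRne : (Rq : Subgroup O).map O.subtype ≠ ⊥ := by
    intro h
    have h1 : (Rq : Subgroup O) = ⊥ := by
      rw [eq_bot_iff]
      intro x hx
      have : O.subtype x ∈ (Rq : Subgroup O).map O.subtype := Subgroup.mem_map_of_mem _ hx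
      rw [h, Subgroup.mem_bot] at this
      rw [Subgroup.mem_bot]
      exact Subtype.ext this
    have h2 := Rq.card_eq_multiplicity
    rw [h1, Subgroup.card_bot] at h2
    have h3 : 0 < (Nat.card O).factorization q :=
      (hq.factorization_pos_of_dvd Nat.card_pos.ne' hqd)
    have h4 : 1 < q ^ (Nat.card O).factorization q :=
      Nat.one_lt_pow h3.ne' hq.one_lt
    omega
  have hReq : (Rq : Subgroup O).map O.subtype = O := by
    rcases eq_bot_or_eq_of_invariant T hT O hO _ hRO hRq with h | h
    · exact absurd h hRne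
    · exact h
  have hOq : IsPGroup q O := by
    have h1 : (Rq : Subgroup O) = ⊤ := by
      rw [eq_top_iff]
      intro x _
      have hx : (x : G) ∈ (Rq : Subgroup O).map O.subtype := by rw [hReq]; exact x.2
      obtain ⟨y, hy, hyx⟩ := hx
      have : y = x := Subtype.ext hyx
      rw [← this]; exact hy
    have h2 := Rq.isPGroup'
    rw [h1] at h2
    exact IsPGroup.of_surjective h2 (⊤ : Subgroup O).subtype
      (fun x => ⟨⟨x, Subgroup.mem_top x⟩, rfl⟩)
  -- the centre of O
  haveI : Nontrivial O := (Subgroup.nontrivial_iff_ne_bot O).mpr hObot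
  have hcn := hOq.center_nontrivial
  obtain ⟨Z, hZdef⟩ : ∃ Z : Subgroup G, Z = O ⊓ Subgroup.centralizer (O : Set G) := ⟨_, rfl⟩
  have hZn : Z.Normal := by
    rw [hZdef]; infer_instance
  have hZO : Z ≤ O := hZdef ▸ inf_le_left
  have hZne : Z ≠ ⊥ := by
    obtain ⟨z, hz⟩ := exists_ne (1 : Subgroup.center O)
    intro hbot
    have hmem : ((z : O) : G) ∈ Z := by
      rw [hZdef]
      refine ⟨(z : O).2, ?_⟩
      change ((z : O) : G) ∈ Subgroup.centralizer (O : Set G)
      rw [Subgroup.mem_centralizer_iff]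
      intro x hx
      have := Subgroup.mem_center_iff.mp z.2 ⟨x, hx⟩
      exact congrArg Subtype.val this
    rw [hbot, Subgroup.mem_bot] at hmem
    apply hz
    apply Subtype.ext
    apply Subtype.ext
    simpa using hmem
  have hZeq : Z = O := by
    have hTZ : (T : Subgroup G) ≤ Subgroup.normalizer (Z : Set G) := by
      rw [Subgroup.normalizer_eq_top]; exact le_top
    rcases eq_bot_or_eq_of_invariant T hT O hO Z hZO hTZ with h | h
    · exact absurd h hZne
    · exact h
  intro x hx y hy
  have hyZ : y ∈ Z := hZeq ▸ hy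
  rw [hZdef] at hyZ
  have := Subgroup.mem_centralizer_iff.mp hyZ.2 x hx
  exact this

end Cfsg.Agent.Lib.Helper1.NPC
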