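import Mathlib
import Cfsg.Prelude.Def_PLocal
import Cfsg.Agent.Lib.Helper1.PCore
import Cfsg.Agent.Lib.Helper1.NPC2

/-! Abelian Sylow 2-subgroups in the reduced situation of Thompson's normal p-complement
argument. -/
set_option autoImplicit false
universe u v
open Cfsg
open scoped commutatorElement

namespace Cfsg.Agent.Lib.Helper1.NPC
variable {G : Type u} [Group G]

theorem isCoatom_map_mk (N : Subgroup G) [N.Normal] (T : Subgroup G) (hNT : N ≤ T)
    (hT : IsCoatom T) : IsCoatom (T.map (QuotientGroup.mk' N)) := by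
  have hcm : (T.map (QuotientGroup.mk' N)).comap (QuotientGroup.mk' N) = T := by
    rw [Subgroup.comap_map_eq, QuotientGroup.ker_mk', sup_eq_left.mpr hNT]
  constructor
  · intro h
    apply hT.1
    rw [← hcm, h, Subgroup.comap_top]
  · intro M hM
    have h1 : T ≤ M.comap (QuotientGroup.mk' N) := by
      rw [← hcm]; exact Subgroup.comap_mono hM.le
    have h2 : T ≠ M.comap (QuotientGroup.mk' N) := by
      intro h
      apply hM.ne
      rw [h, Subgroup.map_comap_eq_self_of_surjective (QuotientGroup.mk'_surjective N)]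
    have h3 := hT.2 _ (lt_of_le_of_ne h1 h2)
    rw [← Subgroup.map_comap_eq_self_of_surjective (QuotientGroup.mk'_surjective N) M, h3,
      Subgroup.map_top_of_surjective _ (QuotientGroup.mk'_surjective N)]

theorem comm_sylow_two_of_max_sylow [Finite G] {p : ℕ} [hp : Fact p.Prime] (hp2 : p ≠ 2)
    (hnil : HasNormalPComplement p (G ⧸ pCore p G)) (T : Sylow p G)
    (hT : IsCoatom (T : Subgroup G)) : ∀ R : Sylow 2 G, IsMulCommutative R := by
  haveI hHn : (pCore p G).Normal := pCore_normal p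
  have hHT : pCore p G ≤ T := pCore_le_sylow p T
  obtain ⟨Tb, hTb⟩ : ∃ Tb : Sylow p (G ⧸ pCore p G),
      (Tb : Subgroup (G ⧸ pCore p G)) = (T : Subgroup G).map (QuotientGroup.mk' (pCore p G)) :=
    ⟨T.mapSurjective (QuotientGroup.mk'_surjective _), Sylow.coe_mapSurjective _ _⟩
  have hcoatom : IsCoatom (Tb : Subgroup (G ⧸ pCore p G)) := by
    rw [hTb]; exact isCoatom_map_mk _ _ hHT hT
  obtain ⟨O, hOn, hO⟩ := (hasNormalPComplement_iff Tb).mp hnil
  have hOab := normal_complement_comm_of_coatom Tb hcoatom O hO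
  intro R
  have h2p : Nat.Coprime 2 p := (Nat.coprime_primes Nat.prime_two hp.out).mpr (Ne.symm hp2)
  have hmemO : ∀ x ∈ R, (QuotientGroup.mk' (pCore p G) x) ∈ O := by
    intro x hx
    rw [mem_normal_complement_iff Tb O hO]
    obtain ⟨k, hk⟩ := R.isPGroup' ⟨x, hx⟩
    have hk' : x ^ (2 ^ k) = 1 := by
      have := congrArg Subtype.val hk
      simpa using this
    have h1 : orderOf (QuotientGroup.mk' (pCore p G) x) ∣ 2 ^ k :=
      (orderOf_map_dvd _ x).trans (orderOf_dvd_of_pow_eq_one hk')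
    exact Nat.Coprime.coprime_dvd_left h1 (Nat.Coprime.pow_left k h2p)
  have hcomm : ∀ x ∈ R, ∀ y ∈ R, x * y = y * x := by
    intro x hx y hy
    have h1 := hOab _ (hmemO x hx) _ (hmemO y hy)
    rw [← map_mul, ← map_mul] at h1
    have h2 : (y * x)⁻¹ * (x * y) ∈ pCore p G := by
      have : (QuotientGroup.mk (y * x) : G ⧸ pCore p G) = QuotientGroup.mk (x * y) := h1.symm
      exact QuotientGroup.eq.mp this
    obtain ⟨z, hz⟩ : ∃ z : G, z = (y * x)⁻¹ * (x * y) := ⟨_, rfl⟩
    rw [← hz] at h2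
    have hzR : z ∈ R := by
      rw [hz]
      exact Subgroup.mul_mem _ (Subgroup.inv_mem _ (Subgroup.mul_mem _ hy hx))
        (Subgroup.mul_mem _ hx hy)
    obtain ⟨a, ha⟩ := (pCore_isPGroup p (G := G)) ⟨z, h2⟩
    obtain ⟨b, hb⟩ := R.isPGroup' ⟨z, hzR⟩
    have ha' : z ^ (p ^ a) = 1 := by
      have := congrArg Subtype.val ha
      simpa using this
    have hb' : z ^ (2 ^ b) = 1 := by
      have := congrArg Subtype.val hb
      simpa using this
    have h3 : orderOf z ∣ Nat.gcd (p ^ a) (2 ^ b) :=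
      Nat.dvd_gcd (orderOf_dvd_of_pow_eq_one ha') (orderOf_dvd_of_pow_eq_one hb')
    have h4 : Nat.gcd (p ^ a) (2 ^ b) = 1 := Nat.Coprime.pow _ _ h2p.symm
    rw [h4, Nat.dvd_one, orderOf_eq_one_iff] at h3
    rw [h3] at hz
    calc x * y = (y * x) * ((y * x)⁻¹ * (x * y)) := by group
      _ = y * x := by rw [← hz, mul_one]
  exact ⟨⟨fun a b => Subtype.ext (hcomm a a.2 b b.2)⟩⟩

end Cfsg.Agent.Lib.Helper1.NPC
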