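import Mathlib
import Cfsg.Prelude.Def_LocalEven
import Cfsg.Prelude.Def_ConjugacyFunctors
import Cfsg.Agent.Lib.Helper1.NPC3
import Cfsg.Agent.Lib.Helper1.NPC1
import Cfsg.Agent.Lib.Helper1.StableQuad1
import Cfsg.Agent.Lib.Helper1.QuadStable8
import Cfsg.Agent.Lib.Helper7.InducedFunctor1

set_option autoImplicit false
universe u v
open Cfsg
open scoped commutatorElement

namespace Cfsg.Agent.Lib.Helper1.NPStable

open Cfsg.Agent.Lib.Helper1.StableQuad Cfsg.Agent.Lib.Helper1.NPC Cfsg.Agent.Lib.Helper1.QuadSL2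

variable {G : Type u} [Group G]

theorem comm_sylow_of_surjective [Finite G] {H : Type v} [Group H] (f : G →* H)
    (hf : Function.Surjective f)
    (hab : ∀ T : Sylow 2 G, IsMulCommutative T) : ∀ T : Sylow 2 H, IsMulCommutative T := by
  intro T
  haveI : Fact (Nat.Prime 2) := ⟨Nat.prime_two⟩
  haveI : Finite H := Finite.of_surjective f hf
  obtain ⟨T₁⟩ : Nonempty (Sylow 2 G) := inferInstance
  have hT₁ := hab T₁
  have hTc : ∀ x ∈ T₁, ∀ y ∈ T₁, x * y = y * x := by
    intro x hx y hy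
    have := mul_comm' (⟨x, hx⟩ : (T₁ : Subgroup G)) ⟨y, hy⟩
    exact congrArg Subtype.val this
  have hTc' : ∀ x ∈ (T₁.mapSurjective hf), ∀ y ∈ (T₁.mapSurjective hf), x * y = y * x := by
    intro x hx y hy
    have hx' : x ∈ ((T₁.mapSurjective hf : Sylow 2 H) : Subgroup H) := hx
    have hy' : y ∈ ((T₁.mapSurjective hf : Sylow 2 H) : Subgroup H) := hy
    rw [Sylow.coe_mapSurjective] at hx' hy'
    obtain ⟨x₀, hx₀, rfl⟩ := hx'
    obtain ⟨y₀, hy₀, rfl⟩ := hy'
    rw [← map_mul, ← map_mul, hTc x₀ hx₀ y₀ hy₀]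
  have hc := comm_of_isPGroup_of_comm_sylow (T₁.mapSurjective hf) hTc' (T : Subgroup H) T.2
  constructor
  constructor
  rintro ⟨x, hx⟩ ⟨y, hy⟩
  apply Subtype.ext
  exact hc x hx y hy

theorem mem_pCore_quot_congr {N : Type u} [Group N] (p : ℕ) (C₁ C₂ : Subgroup N) [h1 : C₁.Normal]
    [h2 : C₂.Normal] (h : C₁ = C₂) (x : N)
    (hx : (QuotientGroup.mk x : N ⧸ C₁) ∈ pCore p (N ⧸ C₁)) :
    (QuotientGroup.mk x : N ⧸ C₂) ∈ pCore p (N ⧸ C₂) := by
  subst h
  exact hx

theorem isNormalizerPStable_of_comm_sylow [Finite G] {p : ℕ} [hp : Fact p.Prime] (hp2 : p ≠ 2)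
    (hab : ∀ T : Sylow 2 G, IsMulCommutative T) : IsNormalizerPStable p G := by
  intro P hP g hg hquad
  obtain ⟨N, hN⟩ : ∃ N : Subgroup G, N = Subgroup.normalizer (P : Set G) := ⟨_, rfl⟩
  have hPN : P ≤ Subgroup.normalizer (P : Set G) := Subgroup.le_normalizer
  haveI hP'n : (P.subgroupOf (Subgroup.normalizer (P : Set G))).Normal :=
    Subgroup.normal_in_normalizer
  have hP' : IsPGroup p (P.subgroupOf (Subgroup.normalizer (P : Set G))) := hP.comap_subtype
  have habN := comm_sylow_subgroup (Subgroup.normalizer (P : Set G)) hab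
  have hst := isPStableOn_of_comm_sylow_of_isPGroup hp2
    (P.subgroupOf (Subgroup.normalizer (P : Set G))) hP' habN
  have hq : ⁅⁅P.subgroupOf (Subgroup.normalizer (P : Set G)),
      Subgroup.zpowers (⟨g, hg⟩ : ↥(Subgroup.normalizer (P : Set G)))⁆,
      Subgroup.zpowers (⟨g, hg⟩ : ↥(Subgroup.normalizer (P : Set G)))⁆ = ⊥ := by
    rw [quadE_iff]
    apply quadE_of_map (Subgroup.normalizer (P : Set G)).subtype (Subgroup.subtype_injective _)
    rw [Subgroup.subgroupOf_map_subtype, inf_eq_left.mpr hPN]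
    exact (quadE_iff P g).mp hquad
  have h1 := hst ⟨g, hg⟩ hq
  have hC : Subgroup.centralizer
      ((P.subgroupOf (Subgroup.normalizer (P : Set G)) :
        Subgroup ↥(Subgroup.normalizer (P : Set G))) : Set ↥(Subgroup.normalizer (P : Set G))) =
      (Subgroup.centralizer (P : Set G)).subgroupOf (Subgroup.normalizer (P : Set G)) := by
    ext x
    rw [Subgroup.mem_subgroupOf, Subgroup.mem_centralizer_iff, Subgroup.mem_centralizer_iff]
    constructor
    · intro h y hy
      have := h ⟨y, hPN hy⟩ (by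
        show (⟨y, hPN hy⟩ : ↥(Subgroup.normalizer (P : Set G))) ∈
          P.subgroupOf (Subgroup.normalizer (P : Set G))
        rw [Subgroup.mem_subgroupOf]; exact hy)
      exact congrArg Subtype.val this
    · intro h y hy
      have hy' : (y : G) ∈ P := by
        have : y ∈ P.subgroupOf (Subgroup.normalizer (P : Set G)) := hy
        rwa [Subgroup.mem_subgroupOf] at this
      exact Subtype.ext (h y hy')
  exact mem_pCore_quot_congr p _ _ hC _ h1

theorem isNormalizerPStable_section [Finite G] {p : ℕ} [hp : Fact p.Prime] (hp2 : p ≠ 2)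
    (hab : ∀ T : Sylow 2 G, IsMulCommutative T) (K R : Subgroup G) [hR : (R.subgroupOf K).Normal] :
    IsNormalizerPStable p (↥K ⧸ R.subgroupOf K) := by
  apply isNormalizerPStable_of_comm_sylow hp2
  exact comm_sylow_of_surjective (QuotientGroup.mk' (R.subgroupOf K))
    (QuotientGroup.mk'_surjective _) (comm_sylow_subgroup K hab)

end Cfsg.Agent.Lib.Helper1.NPStable
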