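import Mathlib
import Cfsg.Agent.Lib.Helper1.FrattiniHall
import Cfsg.Agent.Lib.Helper1.SplitPResidual3
import Cfsg.Agent.Lib.Helper1.Hall
set_option autoImplicit false
open scoped Pointwise
universe u
namespace Cfsg.Agent.Lib.Helper1
variable {G : Type u} [Group G]

/-- Sylow conjugacy inside a subgroup `K`: two `p`-subgroups of `K` of the same order, one of which
has index in `K` prime to `p`, are conjugate under `K`. -/
theorem exists_conj_smul_eq_of_sylow_in [Finite G] {p : ℕ} [hp : Fact p.Prime]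
    (K Q Q' : Subgroup G) (hQ : Q ≤ K) (hQ' : Q' ≤ K) (hpQ : IsPGroup p Q) (hpQ' : IsPGroup p Q')
    (hcop : (Q.relIndex K).Coprime p) (hcard : Nat.card Q' = Nat.card Q) :
    ∃ k ∈ K, MulAut.conj k • Q = Q' := by
  have h1 : IsPGroup p (Q.subgroupOf K) := hpQ.comap_subtype
  have h2 : ¬ p ∣ (Q.subgroupOf K).index := by
    intro h
    have : p ∣ Nat.gcd (Q.relIndex K) p := Nat.dvd_gcd h dvd_rfl
    rw [hcop] at this
    exact hp.out.one_lt.ne' (Nat.dvd_one.mp this)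
  obtain ⟨P, hP⟩ : ∃ P : Sylow p K, (P : Subgroup K) = Q.subgroupOf K := ⟨h1.toSylow h2, rfl⟩
  obtain ⟨P', hP'⟩ : ∃ P' : Sylow p K, Q'.subgroupOf K ≤ P' :=
    (hpQ'.comap_subtype (K := K)).exists_le_sylow
  obtain ⟨k, hk⟩ := MulAction.exists_smul_eq K P P'
  have hcP : Nat.card (P' : Subgroup K) = Nat.card (P : Subgroup K) := by
    rw [← hk, Sylow.coe_subgroup_smul]
    exact card_conj_smul _ _
  have hcQ : Nat.card (Q.subgroupOf K) = Nat.card Q :=
    Nat.card_congr (Subgroup.subgroupOfEquivOfLe hQ).toEquiv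
  have hcQ' : Nat.card (Q'.subgroupOf K) = Nat.card Q' :=
    Nat.card_congr (Subgroup.subgroupOfEquivOfLe hQ').toEquiv
  have heq : Q'.subgroupOf K = (P' : Subgroup K) := by
    apply Subgroup.eq_of_le_of_card_ge hP'
    rw [hcP, hP, hcQ, hcQ', hcard]
  refine ⟨(k : G), k.2, ?_⟩
  have h3 : (P' : Subgroup K) = MulAut.conj k • (P : Subgroup K) := by
    rw [← hk, Sylow.coe_subgroup_smul]
  ext x
  constructor
  · rintro ⟨q, hq, rfl⟩
    have hqK : q ∈ K := hQ hq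
    have h4 : (⟨q, hqK⟩ : K) ∈ (P : Subgroup K) := by rw [hP]; exact hq
    have h5 : MulAut.conj k ⟨q, hqK⟩ ∈ (P' : Subgroup K) := by
      rw [h3]; exact Subgroup.smul_mem_pointwise_smul _ _ _ h4
    rw [← heq] at h5
    exact h5
  · intro hx
    have hxK : x ∈ K := hQ' hx
    have h4 : (⟨x, hxK⟩ : K) ∈ (P' : Subgroup K) := by rw [← heq]; exact hx
    rw [h3] at h4
    obtain ⟨y, hy, hyx⟩ := h4
    rw [SetLike.mem_coe, hP] at hy
    refine ⟨(y : G), hy, ?_⟩
    have := congrArg Subtype.val hyx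
    exact this

/-- **Coprime lifting of normalizers.** If `N` is a normal `p'`-subgroup, `Q` a `p`-subgroup, and
`g` conjugates `Q` into `N ⊔ Q`, then `g ∈ N · N_G(Q)`. -/
theorem exists_mul_mem_normalizer_of_conj_le_sup [Finite G] {p : ℕ} [hp : Fact p.Prime]
    (N : Subgroup G) [hN : N.Normal] (hNp : (Nat.card N).Coprime p) (Q : Subgroup G)
    (hQ : IsPGroup p Q) (g : G) (hg : MulAut.conj g • Q ≤ N ⊔ Q) :
    ∃ x ∈ N, ∃ m ∈ Subgroup.normalizer (Q : Set G), g = x * m := by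
  have hinf : Q ⊓ N = ⊥ := by
    apply (Subgroup.disjoint_of_coprime_natCard ?_).eq_bot
    obtain ⟨k, hk⟩ := (IsPGroup.iff_card.mp hQ)
    rw [hk]
    exact (Nat.Coprime.pow_right k hNp).symm
  have hcard : Nat.card (N ⊔ Q : Subgroup G) = Nat.card Q * Nat.card N := by
    have := card_sup_mul_card_inf_normal' Q N
    rw [hinf, Subgroup.card_bot, mul_one, sup_comm] at this
    exact this
  have hrel : (Q.relIndex (N ⊔ Q)).Coprime p := by
    have h1 := card_eq_card_mul_relIndex (le_sup_right : Q ≤ N ⊔ Q)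
    rw [hcard] at h1
    have h2 : Q.relIndex (N ⊔ Q) = Nat.card N :=
      (Nat.eq_of_mul_eq_mul_left Nat.card_pos h1).symm
    rw [h2]; exact hNp
  have hpQ' : IsPGroup p (MulAut.conj g • Q : Subgroup G) := by
    have : (MulAut.conj g • Q : Subgroup G) = Q.map (MulAut.conj g).toMonoidHom := rfl
    rw [this]
    exact hQ.map _
  obtain ⟨k, hk, hkQ⟩ := exists_conj_smul_eq_of_sylow_in (N ⊔ Q) Q (MulAut.conj g • Q)
    le_sup_right hg hQ hpQ' hrel (card_conj_smul _ _)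
  have hk' : k ∈ ((N ⊔ Q : Subgroup G) : Set G) := hk
  rw [Subgroup.normal_mul] at hk'
  obtain ⟨x, hx, q, hq, rfl⟩ := hk'
  refine ⟨x, hx, x⁻¹ * g, ?_, by group⟩
  apply mem_normalizer_of_conj_smul_eq
  rw [map_mul, mul_smul, ← hkQ, map_mul, mul_smul, Subgroup.conj_smul_eq_self_of_mem hq,
    ← mul_smul, ← map_mul, inv_mul_cancel, map_one, one_smul]

/-- **Coprime lifting of centralizers.** If `N` is a normal `p'`-subgroup, `Q` a `p`-subgroup, and
`g` centralizes `Q` modulo `N`, then `g ∈ N · C_G(Q)`. -/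
theorem exists_mul_mem_centralizer_of_comm_mem [Finite G] {p : ℕ} [hp : Fact p.Prime]
    (N : Subgroup G) [hN : N.Normal] (hNp : (Nat.card N).Coprime p) (Q : Subgroup G)
    (hQ : IsPGroup p Q) (g : G) (hg : ∀ q ∈ Q, g * q * g⁻¹ * q⁻¹ ∈ N) :
    ∃ x ∈ N, ∃ c ∈ Subgroup.centralizer (Q : Set G), g = x * c := by
  have hinf : Q ⊓ N = ⊥ := by
    apply (Subgroup.disjoint_of_coprime_natCard ?_).eq_bot
    obtain ⟨k, hk⟩ := (IsPGroup.iff_card.mp hQ)
    rw [hk]
    exact (Nat.Coprime.pow_right k hNp).symm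
  have hle : MulAut.conj g • Q ≤ N ⊔ Q := by
    rintro _ ⟨q, hq, rfl⟩
    have : (MulAut.conj g).toMonoidHom q = (g * q * g⁻¹ * q⁻¹) * q := by
      simp [MulAut.conj_apply]
    change (MulAut.conj g).toMonoidHom q ∈ N ⊔ Q
    rw [this]
    exact Subgroup.mul_mem_sup (hg q hq) hq
  obtain ⟨x, hx, m, hm, rfl⟩ :=
    exists_mul_mem_normalizer_of_conj_le_sup N hNp Q hQ g hle
  refine ⟨x, hx, m, ?_, rfl⟩
  rw [Subgroup.mem_centralizer_iff]
  intro q hq
  have h1 : m * q * m⁻¹ * q⁻¹ ∈ Q :=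
    Q.mul_mem ((Subgroup.mem_normalizer_iff.mp hm q).mp hq) (Q.inv_mem hq)
  have h2 : m * q * m⁻¹ * q⁻¹ ∈ N := by
    have e : m * q * m⁻¹ * q⁻¹ = x⁻¹ * ((x * m) * q * (x * m)⁻¹ * q⁻¹) * (q * x * q⁻¹) := by group
    rw [e]
    exact N.mul_mem (N.mul_mem (N.inv_mem hx) (hg q hq)) (hN.conj_mem x hx q)
  have h3 : m * q * m⁻¹ * q⁻¹ ∈ Q ⊓ N := ⟨h1, h2⟩
  rw [hinf, Subgroup.mem_bot] at h3
  have : m * q = q * m := by
    have : m * q * m⁻¹ * q⁻¹ * (q * m) = q * m := by rw [h3, one_mul]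
    rw [← this]; group
  exact this.symm

end Cfsg.Agent.Lib.Helper1
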