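import Mathlib
import Cfsg.Prelude.Def_Solvable
import Cfsg.Agent.Lib.Helper1.FittingCentralizer
import Cfsg.Agent.Lib.Helper1.Hall
open Pointwise

set_option autoImplicit false

namespace Cfsg.Agent.Lib.Helper1

universe u

variable {G : Type u} [Group G]

theorem card_sup_dvd_of_normal [Finite G] (A B : Subgroup G) [B.Normal] :
    Nat.card (A ⊔ B : Subgroup G) ∣ Nat.card A * Nat.card B := by
  have h1 : Nat.card (A ⊔ B : Subgroup G) = Nat.card B * B.relIndex A := by
    rw [← Subgroup.relIndex_bot_left, ← Subgroup.relIndex_bot_left,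
      ← Subgroup.relIndex_sup_right A B]
    exact (Subgroup.relIndex_mul_relIndex (H := ⊥) (K := B) (L := A ⊔ B) bot_le le_sup_right).symm
  rw [h1, mul_comm]
  exact Nat.mul_dvd_mul_right (Subgroup.relIndex_dvd_card B A) _

theorem finset_sup_normal_coprime [Finite G] (p : ℕ) (s : Finset (Subgroup G))
    (h : ∀ N ∈ s, N.Normal ∧ (Nat.card N).Coprime p) :
    (s.sup id).Normal ∧ (Nat.card (s.sup id : Subgroup G)).Coprime p := by
  classical
  induction s using Finset.induction_on with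
  | empty =>
    simp only [Finset.sup_empty]
    exact ⟨Subgroup.normal_bot, by simp⟩
  | insert a s ha ih =>
    rw [Finset.sup_insert]
    obtain ⟨h1, h2⟩ := ih (fun N hN => h N (Finset.mem_insert_of_mem hN))
    obtain ⟨h3, h4⟩ := h a (Finset.mem_insert_self a s)
    simp only [id]
    refine ⟨Subgroup.sup_normal a _, ?_⟩
    exact Nat.Coprime.coprime_dvd_left (card_sup_dvd_of_normal a (s.sup id)) (h4.mul_left h2)

theorem pPrimeCore_card_coprime [Finite G] (p : ℕ) : (Nat.card (Cfsg.pPrimeCore p G)).Coprime p := by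
  classical
  have hfin : Set.Finite {N : Subgroup G | N.Normal ∧ (Nat.card N).Coprime p} := Set.toFinite _
  have h := finset_sup_normal_coprime p hfin.toFinset (fun N hN => by simpa using hN)
  have e : hfin.toFinset.sup id = Cfsg.pPrimeCore p G := by
    rw [Finset.sup_id_eq_sSup]
    simp [Cfsg.pPrimeCore]
  rw [e] at h
  exact h.2

theorem pPrimeCore_quotient_eq_bot [Finite G] (p : ℕ) :
    haveI := pPrimeCore_normal (G := G) p
    Cfsg.pPrimeCore p (G ⧸ Cfsg.pPrimeCore p G) = ⊥ := by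
  have := pPrimeCore_normal (G := G) p
  rw [eq_bot_iff]
  change sSup _ ≤ ⊥
  apply sSup_le
  rintro M ⟨hMn, hMc⟩
  set N := Cfsg.pPrimeCore p G
  have h1 : M.comap (QuotientGroup.mk' N) ≤ N := by
    apply le_pPrimeCore (hMn.comap _)
    rw [card_comap_mk']
    exact (pPrimeCore_card_coprime p).mul_left hMc
  have h2 : M = (M.comap (QuotientGroup.mk' N)).map (QuotientGroup.mk' N) :=
    (Subgroup.map_comap_eq_self_of_surjective (QuotientGroup.mk'_surjective N) M).symm
  rw [h2]
  calc (M.comap (QuotientGroup.mk' N)).map (QuotientGroup.mk' N)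
      ≤ N.map (QuotientGroup.mk' N) := Subgroup.map_mono h1
    _ = ⊥ := by simp

theorem sylow_sup_pPrimeCore_normal [Finite G] [Group.IsSolvable G]
    (p : ℕ) [Fact p.Prime] (P : Sylow p G) (hP : IsMulCommutative P) :
    ((P : Subgroup G) ⊔ Cfsg.pPrimeCore p G).Normal := by
  have := pPrimeCore_normal (G := G) p
  set N := Cfsg.pPrimeCore p G with hN
  have hsurj := QuotientGroup.mk'_surjective N
  set Pq : Sylow p (G ⧸ N) := P.mapSurjective hsurj with hPq
  have hcoe : (Pq : Subgroup (G ⧸ N)) = (P : Subgroup G).map (QuotientGroup.mk' N) :=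
    Sylow.coe_mapSurjective hsurj P
  have hcent := centralizer_pCore_le (G := G ⧸ N) p (pPrimeCore_quotient_eq_bot p)
  have hle : Cfsg.pCore p (G ⧸ N) ≤ Pq := pCore_le_sylow p Pq
  have hcomm : ∀ x ∈ (Pq : Subgroup (G ⧸ N)), ∀ y ∈ (Pq : Subgroup (G ⧸ N)), x * y = y * x := by
    intro x hx y hy
    rw [hcoe] at hx hy
    obtain ⟨a, ha, rfl⟩ := hx
    obtain ⟨b, hb, rfl⟩ := hy
    have := hP.is_comm.comm ⟨a, ha⟩ ⟨b, hb⟩
    have h2 : a * b = b * a := congrArg Subtype.val this
    rw [← map_mul, ← map_mul, h2]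
  have h1 : (Pq : Subgroup (G ⧸ N)) ≤ Cfsg.pCore p (G ⧸ N) := by
    refine le_trans ?_ hcent
    intro x hx
    rw [Subgroup.mem_centralizer_iff]
    intro y hy
    exact hcomm y (hle hy) x hx
  have h2 : (Pq : Subgroup (G ⧸ N)) = Cfsg.pCore p (G ⧸ N) := le_antisymm h1 hle
  have h3 : (Pq : Subgroup (G ⧸ N)).Normal := by rw [h2]; exact pCore_normal p
  have h4 : (P : Subgroup G) ⊔ N = (Pq : Subgroup (G ⧸ N)).comap (QuotientGroup.mk' N) := by
    rw [hcoe, Subgroup.comap_map_eq, QuotientGroup.ker_mk']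
  rw [h4]
  exact h3.comap _

end Cfsg.Agent.Lib.Helper1
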