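import Mathlib
import Cfsg.Prelude.Def_Local
import Cfsg.Agent.Lib.Helper1.CoprimeLift
import Cfsg.Agent.Lib.Helper1.PLengthOne
import Cfsg.Agent.Lib.Helper1.PCore
import Cfsg.Agent.Lib.Helper3.UpperPSeries
import Cfsg.Agent.Lib.Helper7.PConstrained3
set_option autoImplicit false
open Cfsg
namespace Cfsg.Agent.Lib.Helper1

/-- If `O_{p'}(X) = 1` then `O_{p',p}(X) = O_p(X)`. -/
theorem pPrimePCore_eq_pCore_of_pPrimeCore_eq_bot (p : ℕ) {X : Type*} [Group X]
    (h : pPrimeCore p X = ⊥) : pPrimePCore p X = pCore p X := by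
  unfold pPrimePCore
  rw [Helper3.comap_pCore_congr p (pPrimeCore p X) ⊥ h]
  have h2 := Helper3.pCore_map_equiv p (QuotientGroup.quotientBot (G := X))
  rw [← h2]
  ext x
  rw [Subgroup.mem_comap, Subgroup.mem_map_equiv]
  rfl

/-- A Sylow `p`-subgroup of a `p`-group is the whole group. -/
theorem sylow_map_subtype_eq_of_isPGroup {X : Type*} [Group X] {p : ℕ} (M : Subgroup X)
    (hM : IsPGroup p M) (P : Sylow p M) : (P : Subgroup M).map M.subtype = M := by
  have h1 : (P : Subgroup M) = ⊤ := by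
    have := P.is_maximal' (Q := ⊤) (IsPGroup.of_surjective hM (Subgroup.topEquiv (G := M)).symm.toMonoidHom (Subgroup.topEquiv (G := M)).symm.surjective) le_top
    exact this.symm
  rw [h1, ← MonoidHom.range_eq_map, Subgroup.range_subtype]

theorem pPrimeCore_le_pPrimePCore' {X : Type*} [Group X] (p : ℕ) :
    pPrimeCore p X ≤ pPrimePCore p X := by
  intro x hx
  unfold pPrimePCore
  rw [Subgroup.mem_comap]
  have : (QuotientGroup.mk' (pPrimeCore p X)) x = 1 := by
    rw [QuotientGroup.mk'_apply, QuotientGroup.eq_one_iff]; exact hx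
  rw [this]
  exact Subgroup.one_mem _

/-- `O_{p',p}(G) = P O_{p'}(G)` for every Sylow `p`-subgroup `P` of `O_{p',p}(G)`. -/
theorem sylow_pPrimePCore_sup {G : Type*} [Group G] [Finite G] {p : ℕ} [hp : Fact p.Prime]
    (P : Sylow p ↥(pPrimePCore p G)) :
    pPrimePCore p G ≤ (P : Subgroup ↥(pPrimePCore p G)).map (pPrimePCore p G).subtype ⊔ pPrimeCore p G := by
  obtain ⟨M, hM⟩ : ∃ M, M = pPrimePCore p G := ⟨_, rfl⟩
  obtain ⟨N, hN⟩ : ∃ N, N = pPrimeCore p G := ⟨_, rfl⟩
  obtain ⟨P₀, hP₀⟩ : ∃ P₀, P₀ = (P : Subgroup ↥(pPrimePCore p G)).map (pPrimePCore p G).subtype := ⟨_, rfl⟩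
  rw [← hP₀, ← hN]
  have hP₀M : P₀ ≤ pPrimePCore p G := by rw [hP₀]; exact Subgroup.map_subtype_le _
  have hNM : N ≤ pPrimePCore p G := by rw [hN]; exact pPrimeCore_le_pPrimePCore' p
  rw [← Subgroup.relIndex_eq_one]
  have h1 : (P₀ ⊔ N).relIndex (pPrimePCore p G) ∣ P₀.relIndex (pPrimePCore p G) :=
    Subgroup.relIndex_dvd_of_le_left _ le_sup_left
  have h2 : (P₀ ⊔ N).relIndex (pPrimePCore p G) ∣ N.relIndex (pPrimePCore p G) :=
    Subgroup.relIndex_dvd_of_le_left _ le_sup_right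
  have h3 : ¬ p ∣ P₀.relIndex (pPrimePCore p G) := by
    have : P₀.subgroupOf (pPrimePCore p G) = (P : Subgroup ↥(pPrimePCore p G)) := by
      rw [hP₀]
      ext x
      rw [Subgroup.mem_subgroupOf]
      constructor
      · rintro ⟨y, hy, hyx⟩
        have : y = x := Subtype.ext hyx
        rw [← this]; exact hy
      · intro hx
        exact ⟨x, hx, rfl⟩
    unfold Subgroup.relIndex
    rw [this]
    exact P.not_dvd_index
  have h4 : ∃ a, N.relIndex (pPrimePCore p G) = p ^ a := by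
    have := Helper7.isPGroup_pPrimePCore_quotient (G := G) p
    obtain ⟨a, ha⟩ := IsPGroup.iff_card.mp this
    refine ⟨a, ?_⟩
    rw [← ha, hN]
    rfl
  obtain ⟨a, ha⟩ := h4
  rw [ha] at h2
  obtain ⟨b, hb, hb'⟩ := (Nat.dvd_prime_pow hp.out).mp h2
  rcases Nat.eq_zero_or_pos b with rfl | hbpos
  · simpa using hb'
  · exfalso
    apply h3
    exact (dvd_pow_self p hbpos.ne').trans (hb' ▸ h1)

/-- When `O_{p'}(X) = 1`, `X` is `p`-constrained iff `C_X(O_p(X)) ≤ O_p(X)`. -/
theorem isPConstrained_iff_of_pPrimeCore_eq_bot {X : Type*} [Group X] [Finite X] {p : ℕ}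
    [hp : Fact p.Prime] (h : pPrimeCore p X = ⊥) :
    IsPConstrained p X ↔ Subgroup.centralizer (pCore p X : Set X) ≤ pCore p X := by
  have h1 := pPrimePCore_eq_pCore_of_pPrimeCore_eq_bot p h
  have h2 : IsPGroup p (pPrimePCore p X) := by rw [h1]; exact pCore_isPGroup p
  unfold IsPConstrained
  constructor
  · intro hc
    have := hc default
    rw [sylow_map_subtype_eq_of_isPGroup _ h2, h1] at this
    exact this
  · intro hc P
    rw [sylow_map_subtype_eq_of_isPGroup _ h2, h1]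
    exact hc

theorem isPConstrained_iff_quotient {G : Type*} [Group G] [Finite G] {p : ℕ} [hp : Fact p.Prime] :
    IsPConstrained p G ↔ IsPConstrained p (G ⧸ pPrimeCore p G) := by
  rw [isPConstrained_iff_of_pPrimeCore_eq_bot (pPrimeCore_quotient_eq_bot p)]
  have hNc : (Nat.card (pPrimeCore p G)).Coprime p := pPrimeCore_card_coprime p
  have hmemM : ∀ x : G, x ∈ pPrimePCore p G ↔
      (QuotientGroup.mk' (pPrimeCore p G)) x ∈ pCore p (G ⧸ pPrimeCore p G) := fun x => Iff.rfl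
  constructor
  · intro hc xbar hx
    obtain ⟨x, rfl⟩ := QuotientGroup.mk'_surjective (pPrimeCore p G) xbar
    rw [← hmemM]
    obtain ⟨P⟩ : Nonempty (Sylow p ↥(pPrimePCore p G)) := inferInstance
    have hP := hc P
    obtain ⟨P₀, hP₀⟩ : ∃ P₀, P₀ = (P : Subgroup ↥(pPrimePCore p G)).map (pPrimePCore p G).subtype := ⟨_, rfl⟩
    rw [← hP₀] at hP
    have hP₀M : P₀ ≤ pPrimePCore p G := by rw [hP₀]; exact Subgroup.map_subtype_le _
    have hP₀p : IsPGroup p P₀ := by rw [hP₀]; exact P.isPGroup'.map _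
    have hcomm : ∀ q ∈ P₀, x * q * x⁻¹ * q⁻¹ ∈ pPrimeCore p G := by
      intro q hq
      have hq' : (QuotientGroup.mk' (pPrimeCore p G)) q ∈ pCore p (G ⧸ pPrimeCore p G) :=
        (hmemM q).mp (hP₀M hq)
      have h1 := Subgroup.mem_centralizer_iff.mp hx _ hq'
      rw [← QuotientGroup.eq_one_iff, ← QuotientGroup.mk'_apply, map_mul, map_mul, map_mul, map_inv,
        map_inv, ← h1]
      group
    obtain ⟨y, hy, c, hcC, rfl⟩ :=
      exists_mul_mem_centralizer_of_comm_mem (pPrimeCore p G) hNc P₀ hP₀p x hcomm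
    exact Subgroup.mul_mem _ (pPrimeCore_le_pPrimePCore' p hy) (hP hcC)
  · intro hc P c hcC
    rw [hmemM]
    apply hc
    rw [Subgroup.mem_centralizer_iff]
    intro ybar hybar
    obtain ⟨y, rfl⟩ := QuotientGroup.mk'_surjective (pPrimeCore p G) ybar
    have hyM : y ∈ pPrimePCore p G := (hmemM y).mpr hybar
    have hy2 := sylow_pPrimePCore_sup P hyM
    have hy3 : y ∈ (((P : Subgroup ↥(pPrimePCore p G)).map (pPrimePCore p G).subtype ⊔ pPrimeCore p G : Subgroup G) : Set G) := hy2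
    rw [Subgroup.mul_normal] at hy3
    obtain ⟨q, hq, n, hn, rfl⟩ := hy3
    have hqc : q * c = c * q := Subgroup.mem_centralizer_iff.mp hcC q hq
    have hn1 : (QuotientGroup.mk' (pPrimeCore p G)) n = 1 := by
      rw [QuotientGroup.mk'_apply, QuotientGroup.eq_one_iff]; exact hn
    rw [map_mul, hn1, mul_one, ← map_mul, ← map_mul, hqc]

end Cfsg.Agent.Lib.Helper1
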