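import Mathlib
import Cfsg.Prelude.Def_Local
import Cfsg.Agent.Lib.Helper1.PConstrainedQuotient
import Cfsg.Agent.Lib.Helper1.FrattiniAction
import Cfsg.Agent.Lib.Helper2.Cores
import Cfsg.Agent.S4218
set_option autoImplicit false
open Cfsg
namespace Cfsg.Agent.Lib.Helper1

/-- Surjective images of `p`-solvable groups are `p`-solvable. -/
theorem isPSolvable_of_surjective {G H : Type*} [Group G] [Group H] [Finite G] (p : ℕ)
    [hp : Fact p.Prime] (f : G →* H) (hf : Function.Surjective f) (hG : IsPSolvable p G) :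
    IsPSolvable p H := by
  obtain ⟨n, K, h0, hlast, hmono, hnorm, hfac⟩ := hG
  refine ⟨n, fun i => (K i).map f, ?_, ?_, ?_, ?_, ?_⟩
  · simp only [h0, Subgroup.map_bot]
  · simp only [hlast]
    exact Subgroup.map_top_of_surjective _ hf
  · intro i j hij
    exact Subgroup.map_mono (hmono hij)
  · intro i
    exact (hnorm i).map _ hf
  · intro i
    have := hnorm i.castSucc
    have hdvd : ((K i.castSucc).map f).relIndex ((K i.succ).map f) ∣
        (K i.castSucc).relIndex (K i.succ) := by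
      rw [Subgroup.relIndex_map_map]
      have hle : K i.castSucc ≤ K i.succ := hmono (Fin.castSucc_le_succ i)
      have e1 : K i.succ ⊔ f.ker = (K i.castSucc ⊔ f.ker) ⊔ K i.succ := by
        rw [sup_right_comm, sup_eq_right.2 hle]
      rw [e1, Subgroup.relIndex_sup_left]
      exact Subgroup.relIndex_dvd_of_le_left _ le_sup_left
    rcases hfac i with ⟨m, hm⟩ | hcop
    · left
      rw [hm] at hdvd
      obtain ⟨j, -, hj⟩ := (Nat.dvd_prime_pow hp.out).1 hdvd
      exact ⟨j, hj⟩
    · right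
      exact Nat.Coprime.coprime_dvd_left hdvd hcop

/-- `C_{G/O_{p'}(G)}(O_p(G/O_{p'}(G)))` is the image of `C_G(P)` for a Sylow `p`-subgroup `P` of
`O_{p',p}(G)`. -/
theorem centralizer_pCore_quotient_eq_map {G : Type*} [Group G] [Finite G] {p : ℕ}
    [hp : Fact p.Prime] (P : Sylow p ↥(pPrimePCore p G)) :
    Subgroup.centralizer (pCore p (G ⧸ pPrimeCore p G) : Set (G ⧸ pPrimeCore p G)) =
      (Subgroup.centralizer (((P : Subgroup ↥(pPrimePCore p G)).map (pPrimePCore p G).subtype :
        Subgroup G) : Set G)).map (QuotientGroup.mk' (pPrimeCore p G)) := by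
  have hNc : (Nat.card (pPrimeCore p G)).Coprime p := pPrimeCore_card_coprime p
  have hmemM : ∀ x : G, x ∈ pPrimePCore p G ↔
      (QuotientGroup.mk' (pPrimeCore p G)) x ∈ pCore p (G ⧸ pPrimeCore p G) := fun x => Iff.rfl
  obtain ⟨P₀, hP₀⟩ : ∃ P₀, P₀ = (P : Subgroup ↥(pPrimePCore p G)).map (pPrimePCore p G).subtype := ⟨_, rfl⟩
  have hsup := sylow_pPrimePCore_sup P
  rw [← hP₀] at hsup ⊢
  have hP₀M : P₀ ≤ pPrimePCore p G := by rw [hP₀]; exact Subgroup.map_subtype_le _
  have hP₀p : IsPGroup p P₀ := by rw [hP₀]; exact P.isPGroup'.map _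
  apply le_antisymm
  · intro xbar hx
    obtain ⟨x, rfl⟩ := QuotientGroup.mk'_surjective (pPrimeCore p G) xbar
    have hcomm : ∀ q ∈ P₀, x * q * x⁻¹ * q⁻¹ ∈ pPrimeCore p G := by
      intro q hq
      have hq' : (QuotientGroup.mk' (pPrimeCore p G)) q ∈ pCore p (G ⧸ pPrimeCore p G) :=
        (hmemM q).mp (hP₀M hq)
      have h1 := Subgroup.mem_centralizer_iff.mp hx _ hq'
      rw [← QuotientGroup.eq_one_iff, ← QuotientGroup.mk'_apply, map_mul, map_mul, map_mul, map_inv,
        map_inv, ← h1]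
      group
    obtain ⟨y, hy, c, hcC, rfl⟩ :=
      exists_mul_mem_centralizer_of_comm_mem (pPrimeCore p G) hNc P₀ hP₀p x hcomm
    refine ⟨c, hcC, ?_⟩
    have hy1 : (QuotientGroup.mk' (pPrimeCore p G)) y = 1 := by
      rw [QuotientGroup.mk'_apply, QuotientGroup.eq_one_iff]; exact hy
    rw [map_mul, hy1, one_mul]
  · rintro _ ⟨c, hcC, rfl⟩
    rw [Subgroup.mem_centralizer_iff]
    intro ybar hybar
    obtain ⟨y, rfl⟩ := QuotientGroup.mk'_surjective (pPrimeCore p G) ybar
    have hyM : y ∈ pPrimePCore p G := (hmemM y).mpr hybar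
    have hy3 : y ∈ ((P₀ ⊔ pPrimeCore p G : Subgroup G) : Set G) := hsup hyM
    rw [Subgroup.mul_normal] at hy3
    obtain ⟨q, hq, n, hn, rfl⟩ := hy3
    have hqc : q * c = c * q := Subgroup.mem_centralizer_iff.mp hcC q hq
    have hn1 : (QuotientGroup.mk' (pPrimeCore p G)) n = 1 := by
      rw [QuotientGroup.mk'_apply, QuotientGroup.eq_one_iff]; exact hn
    rw [map_mul, hn1, mul_one, ← map_mul, ← map_mul, hqc]

/-- If `O_{p'}(X) = 1` and `C_X(O_p(X))` is `p`-solvable, then `C_X(O_p(X)) ≤ O_p(X)`. -/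
theorem centralizer_pCore_le_of_isPSolvable {X : Type*} [Group X] [Finite X] {p : ℕ}
    [hp : Fact p.Prime] (hbot : pPrimeCore p X = ⊥)
    (hsol : IsPSolvable p ↥(Subgroup.centralizer (pCore p X : Set X))) :
    Subgroup.centralizer (pCore p X : Set X) ≤ pCore p X := by
  obtain ⟨D, hD⟩ : ∃ D, D = Subgroup.centralizer (pCore p X : Set X) := ⟨_, rfl⟩
  rw [← hD] at hsol ⊢
  have hDn : D.Normal := by rw [hD]; infer_instance
  have hDtop : Subgroup.normalizer (D : Set X) = ⊤ := Subgroup.normalizer_eq_top_iff.mpr hDn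
  -- O_{p'}(D) = 1
  have h1 : pPrimeCore p ↥D = ⊥ := by
    have := Helper2.pPrimeCore_characteristic (G := ↥D) p
    have hn : ((pPrimeCore p ↥D).map D.subtype).Normal := by
      rw [← Subgroup.normalizer_eq_top_iff, eq_top_iff, ← hDtop]
      exact normalizer_le_normalizer_map_characteristic D (pPrimeCore p ↥D)
    have hc : (Nat.card ((pPrimeCore p ↥D).map D.subtype)).Coprime p := by
      rw [Subgroup.card_map_of_injective D.subtype_injective]
      exact pPrimeCore_card_coprime p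
    have hle : (pPrimeCore p ↥D).map D.subtype ≤ pPrimeCore p X := le_pPrimeCore hn hc
    rw [hbot, le_bot_iff, Subgroup.map_eq_bot_iff_of_injective _ D.subtype_injective] at hle
    exact hle
  -- O_p(D) ≤ O_p(X)
  have h2 : (pCore p ↥D).map D.subtype ≤ pCore p X := by
    have := Helper2.pCore_characteristic (G := ↥D) p
    have hn : ((pCore p ↥D).map D.subtype).Normal := by
      rw [← Subgroup.normalizer_eq_top_iff, eq_top_iff, ← hDtop]
      exact normalizer_le_normalizer_map_characteristic D (pCore p ↥D)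
    exact le_pCore hn ((pCore_isPGroup p).map _)
  -- every element of D lies in O_p(D)
  have h3 : ∀ γ : ↥D, γ ∈ pCore p ↥D := by
    intro γ
    apply Cfsg.Agent.S4218.HH p hsol h1 γ
    intro y hy
    have hyQ : (y : X) ∈ pCore p X := h2 ⟨y, hy, rfl⟩
    have hγ : (γ : X) ∈ Subgroup.centralizer (pCore p X : Set X) := hD ▸ γ.2
    have h4 : (y : X) * γ = γ * y := Subgroup.mem_centralizer_iff.mp hγ _ hyQ
    have h5 : γ * y * γ⁻¹ * y⁻¹ = 1 := by
      apply Subtype.ext
      simp only [Subgroup.coe_mul, Subgroup.coe_inv, Subgroup.coe_one]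
      rw [← h4]; group
    rw [h5]
    exact Subgroup.one_mem _
  intro d hd
  exact h2 ⟨⟨d, hd⟩, h3 ⟨d, hd⟩, rfl⟩

theorem isPConstrained_of_isPSolvable_centralizer {G : Type*} [Group G] [Finite G] {p : ℕ}
    [hp : Fact p.Prime] (P : Sylow p ↥(pPrimePCore p G))
    (hsol : IsPSolvable p ↥(Subgroup.centralizer (((P : Subgroup ↥(pPrimePCore p G)).map
      (pPrimePCore p G).subtype : Subgroup G) : Set G))) : IsPConstrained p G := by
  rw [isPConstrained_iff_quotient,
    isPConstrained_iff_of_pPrimeCore_eq_bot (pPrimeCore_quotient_eq_bot p)]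
  apply centralizer_pCore_le_of_isPSolvable (pPrimeCore_quotient_eq_bot p)
  obtain ⟨C, hC⟩ : ∃ C, C = Subgroup.centralizer (((P : Subgroup ↥(pPrimePCore p G)).map
      (pPrimePCore p G).subtype : Subgroup G) : Set G) := ⟨_, rfl⟩
  have heq := centralizer_pCore_quotient_eq_map P
  rw [← hC] at hsol heq
  obtain ⟨D, hD⟩ : ∃ D, D = Subgroup.centralizer
    (pCore p (G ⧸ pPrimeCore p G) : Set (G ⧸ pPrimeCore p G)) := ⟨_, rfl⟩
  rw [← hD] at heq ⊢
  subst heq
  exact isPSolvable_of_surjective p ((QuotientGroup.mk' (pPrimeCore p G)).subgroupMap C)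
    ((QuotientGroup.mk' (pPrimeCore p G)).subgroupMap_surjective C) hsol

end Cfsg.Agent.Lib.Helper1
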