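import Mathlib
import Cfsg.Prelude.Def_Local
import Cfsg.Agent.Lib.Helper2.HHDual
set_option autoImplicit false
universe u v
namespace Cfsg.Agent.Lib.Helper1.PSolvSub

open Cfsg Cfsg.Agent.Lib.Helper2

/-- subgroups of `p`-solvable groups are `p`-solvable -/
theorem isPSolvable_subgroup {G : Type u} [Group G] {p : ℕ} [hp : Fact p.Prime]
    (hG : IsPSolvable p G) (M : Subgroup G) : IsPSolvable p M := by
  obtain ⟨n, H, h0, hlast, hmono, hnorm, hfac⟩ := hG
  refine ⟨n, fun i => (H i).subgroupOf M, ?_, ?_, ?_, ?_, ?_⟩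
  · simp only [h0, Subgroup.bot_subgroupOf]
  · simp only [hlast, Subgroup.top_subgroupOf]
  · intro i j hij
    exact Subgroup.comap_mono (hmono hij)
  · intro i
    haveI := hnorm i
    infer_instance
  · intro i
    haveI := hnorm i.castSucc
    have e : ((H i.castSucc).subgroupOf M).relIndex ((H i.succ).subgroupOf M) =
        (H i.castSucc).relIndex (H i.succ ⊓ M) := by
      rw [← Subgroup.inf_subgroupOf_right (H i.succ) M]
      exact Subgroup.relIndex_subgroupOf inf_le_right
    have hdvd : (H i.castSucc).relIndex (H i.succ ⊓ M) ∣ (H i.castSucc).relIndex (H i.succ) :=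
      relIndex_dvd_relIndex_of_le_of_normal (H i.castSucc) inf_le_left
    rcases hfac i with ⟨m, hm⟩ | hc
    · left
      rw [hm] at hdvd
      obtain ⟨m', -, hm'⟩ := (Nat.dvd_prime_pow hp.out).mp hdvd
      exact ⟨m', by rw [e, hm']⟩
    · right
      change (((H i.castSucc).subgroupOf M).relIndex ((H i.succ).subgroupOf M)).Coprime p
      rw [e]
      exact Nat.Coprime.coprime_dvd_left hdvd hc

end Cfsg.Agent.Lib.Helper1.PSolvSub
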