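import Mathlib
set_option autoImplicit false
open scoped commutatorElement
universe u
namespace Cfsg.Agent.Lib.Helper1.SpecialCoprime

variable {G : Type u} [Group G]

theorem le_center_of_fixed (A : Subgroup (MulAut G))
    (hGA : Subgroup.closure {x : G | ∃ g : G, ∃ a ∈ A, x = g⁻¹ * a g} = ⊤)
    (M : Subgroup G) [hM : M.Normal] (hfix : ∀ a ∈ A, ∀ m ∈ M, a m = m) :
    M ≤ Subgroup.center G := by
  intro m hm
  rw [Subgroup.mem_center_iff]
  have hle : (⊤ : Subgroup G) ≤ Subgroup.centralizer {m} := by
    rw [← hGA, Subgroup.closure_le]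
    rintro x ⟨g, a, ha, rfl⟩
    change _ ∈ Subgroup.centralizer {m}
    rw [Subgroup.mem_centralizer_iff]
    intro y hy
    rw [Set.mem_singleton_iff] at hy; subst hy
    have h1 := hfix a ha (g * y * g⁻¹) (hM.conj_mem y hm g)
    rw [map_mul, map_mul, map_inv, hfix a ha y hm] at h1
    have h2 : a g * y = g * y * g⁻¹ * a g := by rw [← h1]; group
    calc y * (g⁻¹ * a g) = g⁻¹ * (g * y * g⁻¹ * a g) := by group
      _ = g⁻¹ * (a g * y) := by rw [h2]
      _ = g⁻¹ * a g * y := by group
  intro g
  have := hle (Subgroup.mem_top g)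
  rw [Subgroup.mem_centralizer_iff] at this
  exact (this m rfl).symm

theorem commutator_le_center_of_char_abelian_central [Group.IsNilpotent G]
    (hc : ∀ M : Subgroup G, M.Characteristic → IsMulCommutative M → M ≤ Subgroup.center G) :
    commutator G ≤ Subgroup.center G := by
  obtain ⟨L, hL⟩ : ∃ L, L = Subgroup.upperCentralSeries G 2 := ⟨_, rfl⟩
  have hLchar : L.Characteristic := by rw [hL]; infer_instance
  obtain ⟨Q, hQ⟩ : ∃ Q, Q = Subgroup.centralizer (L : Set G) := ⟨_, rfl⟩
  have hQchar : Q.Characteristic := by rw [hQ]; infer_instance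
  have hM₀ : L ⊓ Q ≤ Subgroup.center G := by
    apply hc
    · rw [Subgroup.characteristic_iff_map_le]
      intro φ
      rw [Subgroup.characteristic_iff_map_le] at hLchar hQchar
      exact (Subgroup.map_inf_le _ _ _).trans (inf_le_inf (hLchar φ) (hQchar φ))
    · have hQL : ∀ y ∈ Q, ∀ x ∈ L, x * y = y * x := by
        intro y hy
        rw [hQ, Subgroup.mem_centralizer_iff] at hy
        exact hy
      exact ⟨⟨fun a b => Subtype.ext (hQL b b.2.2 a a.2.1)⟩⟩
  have hQZ : Q ≤ Subgroup.center G := by
    have key : ∀ k : ℕ, ∀ q ∈ Q, q ∈ Subgroup.upperCentralSeries G k → q ∈ Subgroup.center G := by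
      intro k
      induction k with
      | zero =>
        intro q _ hq0
        rw [Subgroup.upperCentralSeries_zero, Subgroup.mem_bot] at hq0
        rw [hq0]; exact Subgroup.one_mem _
      | succ k ih =>
        intro q hq hqk
        by_cases hqL : q ∈ L
        · exact hM₀ ⟨hqL, hq⟩
        · rw [hL, Subgroup.mem_upperCentralSeries_succ_iff] at hqL
          push_neg at hqL
          obtain ⟨g, hg⟩ := hqL
          rw [Subgroup.upperCentralSeries_one] at hg
          exfalso; apply hg
          apply ih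
          · rw [commutatorElement_def]
            have : Q.Normal := inferInstance
            have e : q * g * q⁻¹ * g⁻¹ = q * (g * q⁻¹ * g⁻¹) := by group
            rw [e]
            exact Q.mul_mem hq (this.conj_mem _ (Q.inv_mem hq) g)
          · exact (Subgroup.mem_upperCentralSeries_succ_iff.mp hqk) g
    obtain ⟨k, hk⟩ := Group.IsNilpotent.nilpotent G
    intro q hq
    exact key k q hq (hk ▸ Subgroup.mem_top q)
  have hLG : ⁅L, (⊤ : Subgroup G)⁆ ≤ Subgroup.center G := by
    rw [Subgroup.commutator_le]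
    intro l hl g _
    rw [hL, Subgroup.mem_upperCentralSeries_succ_iff] at hl
    have := hl g
    rwa [Subgroup.upperCentralSeries_one] at this
  have h1 : ⁅⁅L, (⊤ : Subgroup G)⁆, (⊤ : Subgroup G)⁆ = ⊥ := by
    rw [Subgroup.commutator_eq_bot_iff_le_centralizer]
    apply hLG.trans
    rw [← Subgroup.centralizer_univ]  -- center = centralizer univ
    exact le_of_eq (by rw [Subgroup.coe_top])
  have h2 : ⁅⁅(⊤ : Subgroup G), L⁆, (⊤ : Subgroup G)⁆ = ⊥ := by
    rw [Subgroup.commutator_comm ⊤ L]; exact h1
  have h3 := Subgroup.commutator_commutator_eq_bot_of_rotate h2 h1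
  rw [Subgroup.commutator_eq_bot_iff_le_centralizer] at h3
  rw [commutator_def]
  exact (hQ ▸ h3).trans hQZ

end Cfsg.Agent.Lib.Helper1.SpecialCoprime
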