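import Mathlib
import Cfsg.Prelude.Def_Transfer
import Cfsg.Agent.Lib.Helper1.FrattiniP
import Cfsg.Agent.Lib.Helper1.ClassTwo
import Cfsg.Agent.Lib.Helper1.SpecialCoprime1
set_option autoImplicit false
open scoped commutatorElement
universe u
namespace Cfsg.Agent.Lib.Helper1.SpecialCoprime

variable {G : Type u} [Group G]

theorem fixed_mem_commutator [Finite G] {p : ℕ} [Fact p.Prime] (hG : IsPGroup p G)
    (A : Subgroup (MulAut G)) (hA : Nat.Coprime (Nat.card A) p)
    (hGA : Subgroup.closure {x : G | ∃ g : G, ∃ a ∈ A, x = g⁻¹ * a g} = ⊤)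
    (c : G) (hc : ∀ a ∈ A, a c = c) : c ∈ commutator G := by
  classical
  let _ : Fintype A := Fintype.ofFinite A
  obtain ⟨N, hN⟩ : ∃ N : G →* Abelianization G,
      N = ∏ a : A, (Abelianization.of).comp ((a : MulAut G).toMonoidHom) := ⟨_, rfl⟩
  have hNapp : ∀ g : G, N g = ∏ a : A, Abelianization.of ((a : MulAut G) g) := by
    intro g
    rw [hN, MonoidHom.finset_prod_apply]
    rfl
  have hinv : ∀ a₀ ∈ A, ∀ g : G, N (a₀ g) = N g := by
    intro a₀ ha₀ g
    rw [hNapp, hNapp]
    exact Fintype.prod_equiv (Equiv.mulRight (⟨a₀, ha₀⟩ : A)) _ _ (fun a => rfl)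
  have hker : N.ker = ⊤ := by
    rw [eq_top_iff, ← hGA, Subgroup.closure_le]
    rintro x ⟨g, a, ha, rfl⟩
    change _ ∈ N.ker
    rw [MonoidHom.mem_ker, map_mul, map_inv, hinv a ha, inv_mul_cancel]
  have h1 : N c = 1 := by
    rw [← MonoidHom.mem_ker, hker]; exact Subgroup.mem_top c
  rw [hNapp] at h1
  have h2 : ∀ a : A, Abelianization.of ((a : MulAut G) c) = Abelianization.of c := by
    intro a; rw [hc a a.2]
  simp_rw [h2] at h1
  rw [Finset.prod_const, Finset.card_univ, ← Nat.card_eq_fintype_card] at h1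
  obtain ⟨k, hk⟩ := hG c
  have h3 : (Abelianization.of c) ^ p ^ k = 1 := by rw [← map_pow, hk, map_one]
  have h4 : orderOf (Abelianization.of c) = 1 :=
    Nat.eq_one_of_dvd_coprimes (Nat.Coprime.pow_right k hA) (orderOf_dvd_of_pow_eq_one h1)
      (orderOf_dvd_of_pow_eq_one h3)
  rw [orderOf_eq_one_iff] at h4
  rw [← Abelianization.ker_of, MonoidHom.mem_ker]
  exact h4

theorem pow_mem_center [Finite G] {p : ℕ} [hp : Fact p.Prime] (hG : IsPGroup p G)
    (hc : ∀ M : Subgroup G, M.Characteristic → IsMulCommutative M → M ≤ Subgroup.center G)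
    (hcl : commutator G ≤ Subgroup.center G) (x : G) : x ^ p ∈ Subgroup.center G := by
  have hcc : CommCentral G := commCentral_of_commutator_le_center hcl
  have hcomm : ∀ a b : G, ⁅a, b⁆ ∈ Subgroup.center G := by
    intro a b
    apply hcl
    rw [commutator_def]
    exact Subgroup.commutator_mem_commutator (Subgroup.mem_top a) (Subgroup.mem_top b)
  have hZchar : ∀ (φ : G ≃* G) (z : G), z ∈ Subgroup.center G → φ z ∈ Subgroup.center G := by
    intro φ z hz
    have h := (Subgroup.characteristic_iff_map_le.mp (Subgroup.centerCharacteristic (G := G))) φ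
    exact h (Subgroup.mem_map_of_mem _ hz)
  -- T
  let T : Subgroup G :=
    { carrier := {y | y ^ p ∈ Subgroup.center G}
      mul_mem' := by
        intro a b ha hb
        show (a * b) ^ p ∈ Subgroup.center G
        rw [hcc.mul_pow_eq]
        exact mul_mem (mul_mem ha hb) (pow_mem (hcomm b a) _)
      one_mem' := by
        show (1 : G) ^ p ∈ Subgroup.center G
        rw [one_pow]; exact Subgroup.one_mem _
      inv_mem' := by
        intro a ha
        show a⁻¹ ^ p ∈ Subgroup.center G
        rw [inv_pow]; exact inv_mem ha }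
  have hTmem : ∀ y, y ∈ T ↔ y ^ p ∈ Subgroup.center G := fun y => Iff.rfl
  have hTchar : T.Characteristic := by
    rw [Subgroup.characteristic_iff_map_le]
    intro φ
    rintro _ ⟨y, hy, rfl⟩
    rw [hTmem]
    show (φ y) ^ p ∈ Subgroup.center G
    rw [← map_pow]
    exact hZchar φ _ hy
  obtain ⟨R₀, hR₀⟩ : ∃ R₀ : Subgroup G, R₀ = Subgroup.closure {y : G | ∃ x : G, y = x ^ p} := ⟨_, rfl⟩
  have hR₀char : R₀.Characteristic := by
    rw [Subgroup.characteristic_iff_map_le]
    intro φ
    rw [hR₀, MonoidHom.map_closure]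
    apply Subgroup.closure_mono
    rintro _ ⟨_, ⟨x, rfl⟩, rfl⟩
    exact ⟨φ x, by simp⟩
  obtain ⟨R, hR⟩ : ∃ R : Subgroup G, R = R₀ ⊔ Subgroup.center G := ⟨_, rfl⟩
  have hRchar : R.Characteristic := by rw [hR]; infer_instance
  have hTR : T ≤ Subgroup.centralizer (R : Set G) := by
    intro t ht
    rw [hTmem] at ht
    have hle : R ≤ Subgroup.centralizer {t} := by
      rw [hR]
      apply sup_le
      · rw [hR₀, Subgroup.closure_le]
        rintro _ ⟨x, rfl⟩
        change _ ∈ Subgroup.centralizer {t}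
        rw [Subgroup.mem_centralizer_iff]
        intro y hy
        rw [Set.mem_singleton_iff] at hy; subst hy
        have h1 : ⁅y, x ^ p⁆ = 1 := by
          rw [hcc.comm_pow_right, ← hcc.comm_pow_left, commutatorElement_eq_one_iff_mul_comm]
          exact (Subgroup.mem_center_iff.mp ht x).symm
        exact commutatorElement_eq_one_iff_mul_comm.mp h1
      · intro z hz
        rw [Subgroup.mem_centralizer_iff]
        intro y hy
        rw [Set.mem_singleton_iff] at hy; subst hy
        exact Subgroup.mem_center_iff.mp hz y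
    rw [Subgroup.mem_centralizer_iff]
    intro r hr
    have := hle hr
    rw [Subgroup.mem_centralizer_iff] at this
    exact (this t rfl).symm
  have hM₁ : R ⊓ T ≤ Subgroup.center G := by
    apply hc
    · rw [Subgroup.characteristic_iff_map_le]
      intro φ
      rw [Subgroup.characteristic_iff_map_le] at hRchar hTchar
      exact (Subgroup.map_inf_le _ _ _).trans (inf_le_inf (hRchar φ) (hTchar φ))
    · have hTR' : ∀ y ∈ T, ∀ r ∈ R, r * y = y * r := by
        intro y hy
        have := hTR hy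
        rw [Subgroup.mem_centralizer_iff] at this
        exact this
      exact ⟨⟨fun a b => Subtype.ext (hTR' b b.2.2 a a.2.1)⟩⟩
  by_contra hx
  obtain ⟨k, hk⟩ := hG x
  have hex : ∃ j, x ^ p ^ j ∈ Subgroup.center G := ⟨k, hk ▸ Subgroup.one_mem _⟩
  classical
  have hspec := Nat.find_spec hex
  have hmin : ∀ j, x ^ p ^ j ∈ Subgroup.center G → Nat.find hex ≤ j := fun j hj => Nat.find_min' hex hj
  obtain ⟨j₀, hj₀⟩ : ∃ j₀, j₀ = Nat.find hex := ⟨_, rfl⟩
  rw [← hj₀] at hspec hmin
  have hj1 : j₀ ≠ 0 := by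
    rintro rfl
    rw [pow_zero, pow_one] at hspec
    exact hx (pow_mem hspec p)
  obtain ⟨i, rfl⟩ := Nat.exists_eq_succ_of_ne_zero hj1
  have hi1 : i ≠ 0 := by
    rintro rfl
    have e : p ^ Nat.succ 0 = p := pow_one p
    rw [e] at hspec
    exact hx hspec
  obtain ⟨i', rfl⟩ := Nat.exists_eq_succ_of_ne_zero hi1
  have hw : x ^ p ^ (i' + 1) ∉ Subgroup.center G := by
    intro h
    have := hmin _ h
    omega
  apply hw
  apply hM₁
  constructor
  · rw [hR]
    apply Subgroup.mem_sup_left
    rw [hR₀]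
    apply Subgroup.subset_closure
    exact ⟨x ^ p ^ i', by rw [← pow_mul, ← pow_succ]⟩
  · change x ^ p ^ (i' + 1) ∈ T
    rw [hTmem, ← pow_mul, ← pow_succ]
    exact hspec

theorem special_of_coprime [Finite G] {p : ℕ} [Fact p.Prime] (hG : IsPGroup p G)
    (A : Subgroup (MulAut G)) (hA : Nat.Coprime (Nat.card A) p)
    (hGA : Subgroup.closure {x : G | ∃ g : G, ∃ a ∈ A, x = g⁻¹ * a g} = ⊤)
    (hchar : ∀ H : Subgroup G, H.Characteristic → IsMulCommutative H → ∀ a ∈ A, ∀ h ∈ H, a h = h) :
    Cfsg.IsSpecial p G ∧ (∀ g : G, (g ∈ Subgroup.center G ↔ ∀ a ∈ A, a g = g)) := by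
  have hc : ∀ M : Subgroup G, M.Characteristic → IsMulCommutative M → M ≤ Subgroup.center G := by
    intro M hM hMc
    exact le_center_of_fixed A hGA M (hchar M hM hMc)
  have : Group.IsNilpotent G := hG.isNilpotent
  have hcl := commutator_le_center_of_char_abelian_central hc
  have hZfix : ∀ z ∈ Subgroup.center G, ∀ a ∈ A, a z = z := by
    intro z hz a ha
    exact hchar (Subgroup.center G) inferInstance inferInstance a ha z hz
  have hZG' : Subgroup.center G ≤ commutator G := by
    intro z hz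
    exact fixed_mem_commutator hG A hA hGA z (hZfix z hz)
  have heq : commutator G = Subgroup.center G := le_antisymm hcl hZG'
  refine ⟨⟨hG, ?_, heq⟩, ?_⟩
  · apply le_antisymm
    · exact frattini_le_of_elementary_quotient p _ hcl (pow_mem_center hG hc hcl)
    · rw [← heq]; exact commutator_le_frattini_of_isPGroup p hG
  · intro g
    constructor
    · intro hg a ha; exact hZfix g hg a ha
    · intro hg; exact hcl (fixed_mem_commutator hG A hA hGA g hg)

end Cfsg.Agent.Lib.Helper1.SpecialCoprime
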