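import Mathlib
import Cfsg.Agent.Lib.Helper1.SpecialCoprime2
import Cfsg.Agent.Lib.Helper1.QuadDual4
set_option autoImplicit false
open scoped commutatorElement
universe u v
namespace Cfsg.Agent.Lib.Helper1.SL2Three

open Cfsg.Agent.Lib.Helper1.QuadSL2 Cfsg.Agent.Lib.Helper1.SpecialCoprime

variable {G : Type u} [Group G]

/-- an `r`-subgroup `R = [R, x]` with `x` coprime, every abelian `x`-invariant subgroup centralized
by `x`: `R` is special with centre the fixed points -/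
theorem special_data (r : ℕ) [hr : Fact r.Prime] (R : Subgroup G) [Finite R] (hR : IsPGroup r R)
    (x : G) (hx : x ∈ Subgroup.normalizer (R : Set G)) (hfin : IsOfFinOrder x)
    (hcop : (orderOf x).Coprime r)
    (hRx : ⁅R, Subgroup.zpowers x⁆ = R)
    (hab : ∀ H : Subgroup G, H ≤ R → (∀ a ∈ H, ∀ b ∈ H, a * b = b * a) →
      (∀ h ∈ H, x * h * x⁻¹ ∈ H) → ∀ h ∈ H, x * h = h * x) :
    (∀ g ∈ R, ∀ h ∈ R, (g ^ r) * h = h * (g ^ r)) ∧
    (∀ g ∈ R, (x * g = g * x ↔ ∀ h ∈ R, g * h = h * g)) ∧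
    (∀ z ∈ R, (∀ h ∈ R, z * h = h * z) → z ∈ ⁅R, R⁆) ∧
    (∀ g ∈ R, ∀ h ∈ R, ∀ k ∈ R, ⁅g, h⁆ * k = k * ⁅g, h⁆) := by
  have hle : Subgroup.zpowers x ≤ Subgroup.normalizer (R : Set G) := by
    rw [Subgroup.zpowers_le]; exact hx
  obtain ⟨θ, hθ⟩ : ∃ θ : Subgroup.zpowers x →* MulAut R, θ = conjOn R (Subgroup.zpowers x) hle :=
    ⟨_, rfl⟩
  have hθapp : ∀ (z : Subgroup.zpowers x) (v : R), ((θ z v : R) : G) = (z : G) * (v : G) * (z : G)⁻¹ := by
    intro z v; rw [hθ]; rfl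
  haveI : Finite (Subgroup.zpowers x) := hfin.finite_zpowers.to_subtype
  have hcardA : Nat.Coprime (Nat.card θ.range) r := by
    have h1 : Nat.card θ.range ∣ Nat.card (Subgroup.zpowers x) :=
      Subgroup.card_range_dvd θ
    rw [Nat.card_zpowers] at h1
    exact Nat.Coprime.coprime_dvd_left h1 hcop
  -- generation
  have hGA : Subgroup.closure {y : R | ∃ g : R, ∃ a ∈ θ.range, y = g⁻¹ * a g} = ⊤ := by
    obtain ⟨S', hS'⟩ : ∃ S' : Subgroup R,
        S' = Subgroup.closure {y : R | ∃ g : R, ∃ a ∈ θ.range, y = g⁻¹ * a g} := ⟨_, rfl⟩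
    rw [← hS']
    have h1 : ⁅R, Subgroup.zpowers x⁆ ≤ S'.map R.subtype := by
      rw [Subgroup.commutator_le]
      intro g hg z hz
      have hg' : g⁻¹ ∈ R := R.inv_mem hg
      refine ⟨(⟨g⁻¹, hg'⟩ : R)⁻¹ * θ ⟨z, hz⟩ ⟨g⁻¹, hg'⟩, ?_, ?_⟩
      · rw [hS']
        exact Subgroup.subset_closure ⟨⟨g⁻¹, hg'⟩, θ ⟨z, hz⟩, ⟨⟨z, hz⟩, rfl⟩, rfl⟩
      · rw [Subgroup.subtype_apply, Subgroup.coe_mul, Subgroup.coe_inv, hθapp, commutatorElement_def]
        simp only [inv_inv]
        group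
    rw [hRx] at h1
    rw [eq_top_iff]
    intro y _
    obtain ⟨y', hy', hyy⟩ := h1 y.2
    have : y' = y := Subtype.ext hyy
    rw [← this]; exact hy'
  -- characteristic abelian subgroups are fixed
  have hchar : ∀ H : Subgroup R, H.Characteristic → IsMulCommutative H → ∀ a ∈ θ.range, ∀ h ∈ H,
      a h = h := by
    intro H hHc hHab a ha h hh
    obtain ⟨⟨z, hz⟩, rfl⟩ := ha
    have hxh : ∀ h' ∈ H.map R.subtype, x * h' = h' * x := by
      apply hab (H.map R.subtype) (Subgroup.map_subtype_le _)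
      · rintro _ ⟨a', ha', rfl⟩ _ ⟨b', hb', rfl⟩
        have := mul_comm' (⟨a', ha'⟩ : H) ⟨b', hb'⟩
        have h2 : a' * b' = b' * a' := congrArg Subtype.val this
        rw [Subgroup.subtype_apply, Subgroup.subtype_apply, ← Subgroup.coe_mul, h2, Subgroup.coe_mul]
      · rintro _ ⟨a', ha', rfl⟩
        have hx' : x ∈ Subgroup.zpowers x := Subgroup.mem_zpowers x
        refine ⟨θ ⟨x, hx'⟩ a', ?_, ?_⟩
        · have := Subgroup.characteristic_iff_map_eq.mp hHc (θ ⟨x, hx'⟩)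
          rw [← this]
          exact Subgroup.mem_map_of_mem _ ha'
        · rw [Subgroup.subtype_apply, hθapp]; rfl
    have hzh : (z : G) * (h : G) = (h : G) * z := by
      obtain ⟨k, rfl⟩ := Subgroup.mem_zpowers_iff.mp hz
      have hc : Commute x (h : G) := hxh _ (Subgroup.mem_map_of_mem _ hh)
      exact (hc.zpow_left k).eq
    apply Subtype.ext
    rw [hθapp]
    change z * (h : G) * z⁻¹ = h
    rw [hzh]; group
  obtain ⟨⟨-, hfr, hcomm⟩, hcen⟩ := special_of_coprime hR θ.range hcardA hGA hchar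
  have hcen' : ∀ g (hg : g ∈ R), (x * g = g * x ↔ ∀ h ∈ R, g * h = h * g) := by
    intro g hg
    have h1 := hcen ⟨g, hg⟩
    rw [Subgroup.mem_center_iff] at h1
    constructor
    · intro hxg h hh
      have : ∀ a ∈ θ.range, a ⟨g, hg⟩ = ⟨g, hg⟩ := by
        rintro a ⟨⟨z, hz⟩, rfl⟩
        obtain ⟨k, rfl⟩ := Subgroup.mem_zpowers_iff.mp hz
        have hc : Commute x g := hxg
        apply Subtype.ext
        rw [hθapp]
        change x ^ k * g * (x ^ k)⁻¹ = g
        rw [(hc.zpow_left k).eq]; group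
      have := h1.mpr this ⟨h, hh⟩
      exact (congrArg Subtype.val this).symm
    · intro hall
      have h2 : ∀ a ∈ θ.range, a ⟨g, hg⟩ = ⟨g, hg⟩ := by
        apply h1.mp
        intro h
        apply Subtype.ext
        exact (hall h h.2).symm
      have hx' : x ∈ Subgroup.zpowers x := Subgroup.mem_zpowers x
      have := h2 (θ ⟨x, hx'⟩) ⟨_, rfl⟩
      have h3 := congrArg Subtype.val this
      rw [hθapp] at h3
      change x * g * x⁻¹ = g at h3
      calc x * g = (x * g * x⁻¹) * x := by group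
        _ = g * x := by rw [h3]
  refine ⟨?_, hcen', ?_, ?_⟩
  · intro g hg h hh
    have h1 : (⟨g, hg⟩ : R) ^ r ∈ frattini R := pow_prime_mem_frattini_of_isPGroup r hR _
    rw [hfr, Subgroup.mem_center_iff] at h1
    have := h1 ⟨h, hh⟩
    exact (congrArg Subtype.val this).symm
  · intro z hz hzc
    have h1 : (⟨z, hz⟩ : R) ∈ Subgroup.center R := by
      rw [Subgroup.mem_center_iff]
      intro h
      apply Subtype.ext
      exact (hzc h h.2).symm
    rw [← hcomm] at h1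
    rw [← Subgroup.map_subtype_commutator]
    exact ⟨⟨z, hz⟩, h1, rfl⟩
  · intro g hg h hh k hk
    have h1 : ⁅(⟨g, hg⟩ : R), ⟨h, hh⟩⁆ ∈ commutator R := by
      rw [commutator_def]
      exact Subgroup.commutator_mem_commutator (Subgroup.mem_top _) (Subgroup.mem_top _)
    rw [hcomm, Subgroup.mem_center_iff] at h1
    have := h1 ⟨k, hk⟩
    exact (congrArg Subtype.val this).symm

end Cfsg.Agent.Lib.Helper1.SL2Three
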