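import Mathlib
import Cfsg.Agent.Lib.Helper1.SL2Odd6
set_option autoImplicit false
open Matrix
universe u v
namespace Cfsg.Agent.Lib.Helper1.SL2Three

open Cfsg.Agent.Lib.Helper5.SL2Cyclic Cfsg.Agent.Lib.Helper1.SL2Odd

variable {K : Type u} [Field K]

local notation "SL2" => Matrix.SpecialLinearGroup (Fin 2) K

/-- an element with `tr² = 4` has order dividing `2p` -/
theorem pow_two_mul_char_of_trace_sq {p : ℕ} [hp : Fact p.Prime] [CharP K p] (x : SL2)
    (h : (x : Matrix (Fin 2) (Fin 2) K).trace * (x : Matrix (Fin 2) (Fin 2) K).trace = 4) :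
    x ^ (2 * p) = 1 := by
  have hc := cayley_sl x
  obtain ⟨t, ht⟩ : ∃ t, t = (x : Matrix (Fin 2) (Fin 2) K).trace := ⟨_, rfl⟩
  rw [← ht] at h hc
  have h4 : (t - 2) * (t + 2) = 0 := by linear_combination h
  have hpK : ((p : ℕ) : K) = 0 := CharP.cast_eq_zero K p
  rcases mul_eq_zero.mp h4 with h' | h'
  · have ht2 : t = 2 := sub_eq_zero.mp h'
    rw [ht2] at hc
    have hN : ((x : Matrix (Fin 2) (Fin 2) K) - 1) * ((x : Matrix (Fin 2) (Fin 2) K) - 1) = 0 := by
      rw [sub_mul, mul_sub, mul_sub, hc, one_mul, mul_one, mul_one, two_smul]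
      abel
    have hpow := one_add_pow_of_sq_zero _ hN p
    rw [hpK, zero_smul, add_zero, add_sub_cancel] at hpow
    have hxp : x ^ p = 1 := by
      apply Subtype.ext
      rw [Matrix.SpecialLinearGroup.coe_pow, hpow]; rfl
    rw [mul_comm, pow_mul, hxp, one_pow]
  · have ht2 : t = -2 := eq_neg_of_add_eq_zero_left h'
    rw [ht2] at hc
    have hN : (-(x : Matrix (Fin 2) (Fin 2) K) - 1) * (-(x : Matrix (Fin 2) (Fin 2) K) - 1) = 0 := by
      rw [sub_mul, mul_sub, mul_sub, neg_mul_neg, hc, one_mul, mul_one, mul_one, neg_smul, two_smul]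
      abel
    have hpow := one_add_pow_of_sq_zero _ hN p
    rw [hpK, zero_smul, add_zero, add_sub_cancel] at hpow
    apply Subtype.ext
    rw [Matrix.SpecialLinearGroup.coe_pow, pow_mul, ← neg_sq, ← pow_mul, mul_comm, pow_mul, hpow,
      one_pow]
    rfl

/-- a 2-element which is not `±1` has `tr² ≠ 4` -/
theorem trace_sq_ne_four_of_two_pow {p : ℕ} [hp : Fact p.Prime] [CharP K p] (hp2 : p ≠ 2)
    (x : SL2) (k : ℕ) (hk : x ^ (2 ^ k) = 1) (hx : x * x ≠ 1) :
    (x : Matrix (Fin 2) (Fin 2) K).trace * (x : Matrix (Fin 2) (Fin 2) K).trace ≠ 4 := by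
  intro h
  have h1 := pow_two_mul_char_of_trace_sq (p := p) x h
  have d1 : orderOf x ∣ 2 * p := orderOf_dvd_of_pow_eq_one h1
  have d2 : orderOf x ∣ 2 ^ k := orderOf_dvd_of_pow_eq_one hk
  have hcop : Nat.Coprime p (2 ^ k) := by
    apply Nat.Coprime.pow_right
    exact (Nat.coprime_primes hp.out Nat.prime_two).mpr hp2
  have d3 : orderOf x ∣ 2 := by
    have : orderOf x ∣ Nat.gcd (2 * p) (2 ^ k) := Nat.dvd_gcd d1 d2
    have h2 : Nat.gcd (2 * p) (2 ^ k) ∣ 2 := by
      have e : Nat.gcd (2 * p) (2 ^ k) = Nat.gcd 2 (2 ^ k) :=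
        Nat.Coprime.gcd_mul_right_cancel 2 hcop
      rw [e]
      exact Nat.gcd_dvd_left _ _
    exact dvd_trans this h2
  apply hx
  have := orderOf_dvd_iff_pow_eq_one.mp d3
  rw [pow_two] at this
  exact this

/-- the centralizer of a regular element lies in its span -/
theorem commute_mem_span (x y : SL2)
    (ht : (x : Matrix (Fin 2) (Fin 2) K).trace * (x : Matrix (Fin 2) (Fin 2) K).trace ≠ 4)
    (hxy : x * y = y * x) :
    ∃ α β : K, (y : Matrix (Fin 2) (Fin 2) K) =
      α • (1 : Matrix (Fin 2) (Fin 2) K) + β • (x : Matrix (Fin 2) (Fin 2) K) := by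
  have hm : (x : Matrix (Fin 2) (Fin 2) K) * (y : Matrix (Fin 2) (Fin 2) K) =
      (y : Matrix (Fin 2) (Fin 2) K) * (x : Matrix (Fin 2) (Fin 2) K) := by
    rw [← Matrix.SpecialLinearGroup.coe_mul, hxy, Matrix.SpecialLinearGroup.coe_mul]
  have hdx := x.det_coe
  rw [det_fin_two] at hdx
  rw [trace_fin_two] at ht
  obtain ⟨a, ha⟩ : ∃ a, a = (x : Matrix (Fin 2) (Fin 2) K) 0 0 := ⟨_, rfl⟩
  obtain ⟨b, hb⟩ : ∃ b, b = (x : Matrix (Fin 2) (Fin 2) K) 0 1 := ⟨_, rfl⟩
  obtain ⟨c, hc⟩ : ∃ c, c = (x : Matrix (Fin 2) (Fin 2) K) 1 0 := ⟨_, rfl⟩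
  obtain ⟨d, hd⟩ : ∃ d, d = (x : Matrix (Fin 2) (Fin 2) K) 1 1 := ⟨_, rfl⟩
  obtain ⟨e, he⟩ : ∃ e, e = (y : Matrix (Fin 2) (Fin 2) K) 0 0 := ⟨_, rfl⟩
  obtain ⟨f, hf⟩ : ∃ f, f = (y : Matrix (Fin 2) (Fin 2) K) 0 1 := ⟨_, rfl⟩
  obtain ⟨g, hg⟩ : ∃ g, g = (y : Matrix (Fin 2) (Fin 2) K) 1 0 := ⟨_, rfl⟩
  obtain ⟨h, hh⟩ : ∃ h, h = (y : Matrix (Fin 2) (Fin 2) K) 1 1 := ⟨_, rfl⟩
  have e00 : a * e + b * g = e * a + f * c := by
    have := congrFun (congrFun hm 0) 0
    simp only [Matrix.mul_apply, Fin.sum_univ_two, Fin.isValue] at this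
    rw [ha, hb, hc, he, hf, hg]; exact this
  have e01 : a * f + b * h = e * b + f * d := by
    have := congrFun (congrFun hm 0) 1
    simp only [Matrix.mul_apply, Fin.sum_univ_two, Fin.isValue] at this
    rw [ha, hb, hd, he, hf, hh]; exact this
  have e10 : c * e + d * g = g * a + h * c := by
    have := congrFun (congrFun hm 1) 0
    simp only [Matrix.mul_apply, Fin.sum_univ_two, Fin.isValue] at this
    rw [ha, hc, hd, he, hg, hh]; exact this
  rw [← ha, ← hd] at ht
  rw [← ha, ← hb, ← hc, ← hd] at hdx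
  -- e00 : a e + b g = e a + f c ; e01 : a f + b h = e b + f d ; e10 : c e + d g = g a + h c
  have key : ∀ α β : K, α + β * a = e → β * b = f → β * c = g → α + β * d = h →
      (y : Matrix (Fin 2) (Fin 2) K) =
      α • (1 : Matrix (Fin 2) (Fin 2) K) + β • (x : Matrix (Fin 2) (Fin 2) K) := by
    intro α β h1 h2 h3 h4
    ext i j
    fin_cases i <;> fin_cases j
    · simp only [Fin.zero_eta, Fin.isValue, Matrix.add_apply, Matrix.smul_apply,
        Matrix.one_apply_eq, smul_eq_mul, mul_one]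
      rw [← ha, ← he]; exact h1.symm
    · simp only [Fin.zero_eta, Fin.isValue, Fin.mk_one, Matrix.add_apply, Matrix.smul_apply,
        ne_eq, zero_ne_one, not_false_eq_true, Matrix.one_apply_ne, smul_eq_mul, mul_zero, zero_add]
      rw [← hb, ← hf]; exact h2.symm
    · simp only [Fin.mk_one, Fin.isValue, Fin.zero_eta, Matrix.add_apply, Matrix.smul_apply,
        ne_eq, one_ne_zero, not_false_eq_true, Matrix.one_apply_ne, smul_eq_mul, mul_zero, zero_add]
      rw [← hc, ← hg]; exact h3.symm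
    · simp only [Fin.mk_one, Fin.isValue, Matrix.add_apply, Matrix.smul_apply,
        Matrix.one_apply_eq, smul_eq_mul, mul_one]
      rw [← hd, ← hh]; exact h4.symm
  by_cases hb0 : b = 0
  · by_cases hc0 : c = 0
    · -- diagonal
      have had : a - d ≠ 0 := by
        intro hzero
        apply ht
        have : a = d := sub_eq_zero.mp hzero
        rw [hb0, hc0] at hdx
        rw [this] at hdx ⊢
        linear_combination 4 * hdx
      have hf0 : f = 0 := by
        rw [hb0] at e01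
        have : f * (a - d) = 0 := by linear_combination e01
        rcases mul_eq_zero.mp this with h' | h'
        · exact h'
        · exact absurd h' had
      have hg0 : g = 0 := by
        rw [hc0] at e10
        have : g * (a - d) = 0 := by linear_combination -e10
        rcases mul_eq_zero.mp this with h' | h'
        · exact h'
        · exact absurd h' had
      refine ⟨e - (e - h) / (a - d) * a, (e - h) / (a - d), key _ _ ?_ ?_ ?_ ?_⟩
      · ring
      · rw [hb0, hf0, mul_zero]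
      · rw [hc0, hg0, mul_zero]
      · field_simp
        ring
    · refine ⟨e - g / c * a, g / c, key _ _ ?_ ?_ ?_ ?_⟩
      · ring
      · rw [hb0, mul_zero]
        rw [hb0] at e00
        have : f * c = 0 := by linear_combination -e00
        rcases mul_eq_zero.mp this with h' | h'
        · exact h'.symm
        · exact absurd h' hc0
      · field_simp
      · field_simp
        linear_combination e10
  · refine ⟨e - f / b * a, f / b, key _ _ ?_ ?_ ?_ ?_⟩
    · ring
    · field_simp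
    · field_simp
      linear_combination -e00
    · field_simp
      linear_combination -e01

theorem conj_eq_or_eq_inv_of_commute (h2 : (2 : K) ≠ 0) (x g : SL2)
    (ht : (x : Matrix (Fin 2) (Fin 2) K).trace * (x : Matrix (Fin 2) (Fin 2) K).trace ≠ 4)
    (hc : x * (g * x * g⁻¹) = (g * x * g⁻¹) * x) :
    g * x * g⁻¹ = x ∨ g * x * g⁻¹ = x⁻¹ := by
  obtain ⟨α, β, hαβ⟩ := commute_mem_span x (g * x * g⁻¹) ht hc
  apply eq_or_eq_inv_of_span h2 x _ ht α β hαβ
  rw [Matrix.SpecialLinearGroup.coe_mul, Matrix.SpecialLinearGroup.coe_mul, Matrix.trace_mul_comm,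
    ← mul_assoc, ← Matrix.SpecialLinearGroup.coe_mul, inv_mul_cancel, Matrix.SpecialLinearGroup.coe_one,
    one_mul]

theorem commute_of_conj_commute (h2 : (2 : K) ≠ 0) (x g : SL2)
    (ht : (x : Matrix (Fin 2) (Fin 2) K).trace * (x : Matrix (Fin 2) (Fin 2) K).trace ≠ 4)
    (hc : x * (g * x * g⁻¹) = (g * x * g⁻¹) * x) (hg : Odd (orderOf g)) : g * x = x * g := by
  have h1 := conj_eq_or_eq_inv_of_commute h2 x g ht hc
  have h3 := sq_commute_of_conj x g h1
  exact commute_of_sq_commute_of_odd g x hg h3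

/-- an odd-order element normalizing an abelian 2-subgroup of `SL_2(K)` centralizes it -/
theorem centralizes_abelian_two_subgroup {p : ℕ} [hp : Fact p.Prime] [CharP K p] (hp2 : p ≠ 2)
    (H : Subgroup SL2) (hab : ∀ a ∈ H, ∀ b ∈ H, a * b = b * a)
    (h2grp : ∀ h ∈ H, ∃ k : ℕ, h ^ (2 ^ k) = 1) (g : SL2) (hgH : ∀ h ∈ H, g * h * g⁻¹ ∈ H)
    (hg : Odd (orderOf g)) : ∀ h ∈ H, g * h = h * g := by
  have h2 : (2 : K) ≠ 0 := two_ne_zero_of_charP hp2
  intro h hh
  by_cases hsq : h * h = 1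
  · by_cases h1 : h = 1
    · rw [h1, mul_one, one_mul]
    · have := eq_neg_one_of_sq_eq_one h2 h hsq h1
      apply Subtype.ext
      rw [Matrix.SpecialLinearGroup.coe_mul, Matrix.SpecialLinearGroup.coe_mul, this]
      simp
  · obtain ⟨k, hk⟩ := h2grp h hh
    have ht := trace_sq_ne_four_of_two_pow (p := p) hp2 h k hk hsq
    exact commute_of_conj_commute h2 h g ht (hab _ hh _ (hgH h hh)) hg

end Cfsg.Agent.Lib.Helper1.SL2Three
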