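import Mathlib
import Cfsg.Agent.Lib.Helper1.SL2Three1
set_option autoImplicit false
open Matrix
open scoped commutatorElement
universe u v
namespace Cfsg.Agent.Lib.Helper1.SL2Three

open Cfsg.Agent.Lib.Helper5.SL2Cyclic Cfsg.Agent.Lib.Helper1.SL2Odd

variable {K : Type u} [Field K]

local notation "SL2" => Matrix.SpecialLinearGroup (Fin 2) K
local notation "M2" => Matrix (Fin 2) (Fin 2) K

/-- an element of order dividing `p = char K` is unipotent -/
theorem sub_one_sq_eq_zero_of_pow_char {p : ℕ} [hp : Fact p.Prime] [CharP K p] (x : SL2)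
    (hx : x ^ p = 1) : ((x : M2) - 1) * ((x : M2) - 1) = 0 := by
  have hc : Commute (x : M2) 1 := Commute.one_right _
  have h1 : ((x : M2) - 1) ^ p = 0 := by
    rw [sub_pow_char_of_commute p hc, one_pow, ← Matrix.SpecialLinearGroup.coe_pow, hx]
    simp
  have h2 : ((x : M2) - 1).det = 0 := by
    have := congrArg Matrix.det h1
    rw [Matrix.det_pow, Matrix.det_zero] at this
    exact pow_eq_zero_iff (hp.out.ne_zero) |>.mp this
  rw [det_sub_one, x.det_coe] at h2
  have ht : (x : M2).trace = 2 := by linear_combination -h2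
  have hcs := cayley_sl x
  rw [ht] at hcs
  rw [sub_mul, mul_sub, mul_sub, hcs, one_mul, mul_one, mul_one, two_smul]
  abel

theorem trace_sub_one_of_pow_char {p : ℕ} [hp : Fact p.Prime] [CharP K p] (x : SL2)
    (hx : x ^ p = 1) : ((x : M2) - 1).trace = 0 := by
  have hc : Commute (x : M2) 1 := Commute.one_right _
  have h1 : ((x : M2) - 1) ^ p = 0 := by
    rw [sub_pow_char_of_commute p hc, one_pow, ← Matrix.SpecialLinearGroup.coe_pow, hx]
    simp
  have h2 : ((x : M2) - 1).det = 0 := by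
    have := congrArg Matrix.det h1
    rw [Matrix.det_pow, Matrix.det_zero] at this
    exact pow_eq_zero_iff (hp.out.ne_zero) |>.mp this
  rw [det_sub_one, x.det_coe] at h2
  have ht : (x : M2).trace = 2 := by linear_combination -h2
  rw [Matrix.trace_sub, ht, Matrix.trace_one, Fintype.card_fin]
  norm_num

/-- matrix of a power of a unipotent element -/
theorem coe_pow_of_unipotent (x : SL2) (hN : ((x : M2) - 1) * ((x : M2) - 1) = 0) (k : ℕ) :
    ((x ^ k : SL2) : M2) = 1 + (k : K) • ((x : M2) - 1) := by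
  have := one_add_pow_of_sq_zero _ hN k
  rw [add_sub_cancel] at this
  rw [Matrix.SpecialLinearGroup.coe_pow, this]

theorem coe_inv_pow_of_unipotent (x : SL2) (hN : ((x : M2) - 1) * ((x : M2) - 1) = 0) (k : ℕ) :
    (((x ^ k)⁻¹ : SL2) : M2) = 1 - (k : K) • ((x : M2) - 1) := by
  have h1 := coe_pow_of_unipotent x hN k
  have h2 : ((x ^ k : SL2) : M2) * (1 - (k : K) • ((x : M2) - 1)) = 1 := by
    rw [h1, add_mul, mul_sub, mul_sub, one_mul, one_mul, mul_one, smul_mul_smul_comm, hN, smul_zero]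
    abel
  have h3 : (((x ^ k)⁻¹ : SL2) : M2) * ((x ^ k : SL2) : M2) = 1 := by
    rw [← Matrix.SpecialLinearGroup.coe_mul, inv_mul_cancel]; rfl
  calc (((x ^ k)⁻¹ : SL2) : M2) = (((x ^ k)⁻¹ : SL2) : M2) * (((x ^ k : SL2) : M2) *
        (1 - (k : K) • ((x : M2) - 1))) := by rw [h2, mul_one]
    _ = 1 - (k : K) • ((x : M2) - 1) := by rw [← mul_assoc, h3, one_mul]

/-- the trace of the commutator `[g, x^k]` for unipotent `x` -/
theorem trace_commutator_pow (x g : SL2) (hN : ((x : M2) - 1) * ((x : M2) - 1) = 0)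
    (htr : ((x : M2) - 1).trace = 0) (k : ℕ) :
    ((⁅g, x ^ k⁆ : SL2) : M2).trace =
      2 - ((k : K) * (k : K)) * ((g : M2) * ((x : M2) - 1) * ((g⁻¹ : SL2) : M2) * ((x : M2) - 1)).trace := by
  obtain ⟨n, hn⟩ : ∃ n : M2, n = (x : M2) - 1 := ⟨_, rfl⟩
  rw [← hn] at hN htr ⊢
  have hgg : (g : M2) * ((g⁻¹ : SL2) : M2) = 1 := by
    rw [← Matrix.SpecialLinearGroup.coe_mul, mul_inv_cancel]; rfl
  have hgg' : ((g⁻¹ : SL2) : M2) * (g : M2) = 1 := by
    rw [← Matrix.SpecialLinearGroup.coe_mul, inv_mul_cancel]; rfl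
  have h1 : ((⁅g, x ^ k⁆ : SL2) : M2) =
      (g : M2) * (1 + (k : K) • n) * ((g⁻¹ : SL2) : M2) * (1 - (k : K) • n) := by
    rw [commutatorElement_def, Matrix.SpecialLinearGroup.coe_mul, Matrix.SpecialLinearGroup.coe_mul,
      Matrix.SpecialLinearGroup.coe_mul, coe_pow_of_unipotent x (hn ▸ hN) k,
      coe_inv_pow_of_unipotent x (hn ▸ hN) k, ← hn]
  have h2 : (g : M2) * (1 + (k : K) • n) * ((g⁻¹ : SL2) : M2) * (1 - (k : K) • n) =
      1 + (k : K) • ((g : M2) * n * ((g⁻¹ : SL2) : M2)) - (k : K) • n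
        - ((k : K) * (k : K)) • ((g : M2) * n * ((g⁻¹ : SL2) : M2) * n) := by
    rw [mul_add, mul_one, add_mul, hgg, mul_sub, mul_one, add_mul, one_mul, mul_smul_comm,
      smul_mul_assoc, smul_mul_assoc, mul_smul_comm, smul_smul]
    abel
  have h3 : ((g : M2) * n * ((g⁻¹ : SL2) : M2)).trace = 0 := by
    rw [Matrix.trace_mul_comm, ← mul_assoc, hgg', one_mul, htr]
  rw [h1, h2, Matrix.trace_sub, Matrix.trace_sub, Matrix.trace_add, Matrix.trace_smul,
    Matrix.trace_smul, Matrix.trace_smul, h3, htr, Matrix.trace_one, Fintype.card_fin]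
  simp only [smul_eq_mul, mul_zero, add_zero, sub_zero]
  norm_num

/-- an element of `SL_2` whose square is `-1` has trace zero -/
theorem trace_eq_zero_of_sq_eq_neg_one (c : SL2) (h : ((c * c : SL2) : M2) = -1) :
    (c : M2).trace = 0 := by
  have hcs := cayley_sl c
  rw [Matrix.SpecialLinearGroup.coe_mul] at h
  rw [h] at hcs
  have h1 : (c : M2).trace • (c : M2) = 0 := by
    have : (c : M2).trace • (c : M2) = -1 + 1 := by rw [hcs]; abel
    rw [this]; abel
  by_contra ht
  have h2 : (c : M2) = 0 := by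
    have := congrArg (fun m => ((c : M2).trace)⁻¹ • m) h1
    simp only [smul_smul, inv_mul_cancel₀ ht, one_smul, smul_zero] at this
    exact this
  have h3 := c.det_coe
  rw [h2, Matrix.det_zero] at h3
  exact zero_ne_one h3

end Cfsg.Agent.Lib.Helper1.SL2Three
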