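import Mathlib
import Cfsg.Agent.Lib.Helper1.SL2Three2
import Cfsg.Agent.Lib.Helper1.SL2Three3
set_option autoImplicit false
open Matrix
open scoped commutatorElement
universe u v
namespace Cfsg.Agent.Lib.Helper1.SL2Three

open Cfsg.Agent.Lib.Helper5.SL2Cyclic Cfsg.Agent.Lib.Helper1.SL2Odd

variable {K : Type u} [Field K]

local notation "SL2" => Matrix.SpecialLinearGroup (Fin 2) K
local notation "M2" => Matrix (Fin 2) (Fin 2) K

/-- the subgroup `{±1}` -/
def pmOne (K : Type u) [Field K] : Subgroup (Matrix.SpecialLinearGroup (Fin 2) K) where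
  carrier := {z | z = 1 ∨ (z : Matrix (Fin 2) (Fin 2) K) = -1}
  one_mem' := Or.inl rfl
  mul_mem' := by
    rintro a b (rfl | ha) (rfl | hb)
    · left; rw [mul_one]
    · right; rw [one_mul]; exact hb
    · right; rw [mul_one]; exact ha
    · left
      apply Subtype.ext
      rw [Matrix.SpecialLinearGroup.coe_mul, ha, hb]
      simp
  inv_mem' := by
    rintro a (rfl | ha)
    · left; rw [inv_one]
    · right
      have h1 : a * a = 1 := by
        apply Subtype.ext
        rw [Matrix.SpecialLinearGroup.coe_mul, ha]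
        simp
      have h2 : a⁻¹ = a := by
        calc a⁻¹ = a⁻¹ * (a * a) := by rw [h1, mul_one]
          _ = a := by group
      rw [h2]; exact ha

theorem mem_pmOne_iff (z : SL2) : z ∈ pmOne K ↔ z = 1 ∨ (z : M2) = -1 := Iff.rfl

theorem mem_pmOne_of_sq (h2 : (2 : K) ≠ 0) (c : SL2) (h : c * c = 1) : c ∈ pmOne K := by
  by_cases h1 : c = 1
  · exact Or.inl h1
  · exact Or.inr (eq_neg_one_of_sq_eq_one h2 c h h1)

theorem commute_of_pow_commute {G : Type v} [Group G] {p : ℕ} (hp : p.Prime) (x g : G)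
    (hx : x ^ p = 1) (k : ℕ) (hk : ¬ p ∣ k) (h : x ^ k * g = g * x ^ k) : x * g = g * x := by
  have hcop : Nat.Coprime k p := (Nat.Coprime.symm ((Nat.Prime.coprime_iff_not_dvd hp).mpr hk))
  obtain ⟨m, -, hm⟩ := Nat.exists_mul_mod_eq_one_of_coprime hcop hp.one_lt
  have e : (x ^ k) ^ m = x := by
    rw [← pow_mul, ← Nat.mod_add_div (k * m) p, hm, pow_add, pow_one, pow_mul, hx, one_pow, mul_one]
  have hc : Commute (x ^ k) g := h
  have := hc.pow_left m
  rw [e] at this
  exact this

theorem prime_aux (p : ℕ) (hp : p.Prime) (h5 : 5 ≤ p) :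
    ¬ p ∣ 12 ∧ ¬ p ∣ 4 ∧ ¬ p ∣ 6 ∧ ¬ (p ∣ 14 ∧ p ∣ 32) ∧ ¬ (p ∣ 14 ∧ p ∣ 34) := by
  refine ⟨?_, ?_, ?_, ?_, ?_⟩
  · intro h
    have := Nat.le_of_dvd (by norm_num) h
    interval_cases p <;> first | (revert h; norm_num; done) | (revert hp; norm_num; done)
  · intro h
    have := Nat.le_of_dvd (by norm_num) h
    omega
  · intro h
    have := Nat.le_of_dvd (by norm_num) h
    interval_cases p <;> first | (revert h; norm_num; done) | (revert hp; norm_num; done)
  · rintro ⟨h, h'⟩
    have := Nat.le_of_dvd (by norm_num) h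
    interval_cases p <;>
      first | (revert h; norm_num; done) | (revert h'; norm_num; done) | (revert hp; norm_num; done)
  · rintro ⟨h, h'⟩
    have := Nat.le_of_dvd (by norm_num) h
    interval_cases p <;>
      first | (revert h; norm_num; done) | (revert h'; norm_num; done) | (revert hp; norm_num; done)

/-- the key lemma: a nontrivial `2`-subgroup `R = [R, x]` of `SL_2(K)` with `x^p = 1` forces `p = 3` -/
theorem eq_three_of_two_group {p : ℕ} [hp : Fact p.Prime] [CharP K p] (hp2 : p ≠ 2)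
    (R : Subgroup SL2) [Finite R] (hR : IsPGroup 2 R) (hRne : R ≠ ⊥) (x : SL2) (hxp : x ^ p = 1)
    (hx : x ∈ Subgroup.normalizer (R : Set SL2)) (hRx : ⁅R, Subgroup.zpowers x⁆ = R) : p = 3 := by
  haveI : Fact (Nat.Prime 2) := ⟨Nat.prime_two⟩
  have h2 : (2 : K) ≠ 0 := two_ne_zero_of_charP hp2
  have hx1 : x ≠ 1 := by
    rintro rfl
    apply hRne
    rw [← hRx, Subgroup.zpowers_one_eq_bot, Subgroup.commutator_bot_right]
  have hord : orderOf x = p := orderOf_eq_prime hxp hx1
  have hfin : IsOfFinOrder x := isOfFinOrder_iff_pow_eq_one.mpr ⟨p, hp.out.pos, hxp⟩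
  have hodd : Odd (orderOf x) := by rw [hord]; exact hp.out.odd_of_ne_two hp2
  have hcop : (orderOf x).Coprime 2 := by
    rw [hord]; exact (Nat.coprime_primes hp.out Nat.prime_two).mpr hp2
  have h2grp : ∀ h ∈ R, ∃ k : ℕ, h ^ (2 ^ k) = 1 := by
    intro h hh
    obtain ⟨k, hk⟩ := hR ⟨h, hh⟩
    exact ⟨k, by have := congrArg Subtype.val hk; simpa using this⟩
  have hxinv : ∀ h ∈ R, x * h * x⁻¹ ∈ R := fun h hh =>
    (Subgroup.mem_normalizer_iff.mp hx h).mp hh
  have hab : ∀ H : Subgroup SL2, H ≤ R → (∀ a ∈ H, ∀ b ∈ H, a * b = b * a) →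
      (∀ h ∈ H, x * h * x⁻¹ ∈ H) → ∀ h ∈ H, x * h = h * x := by
    intro H hHR hHab hHx
    exact centralizes_abelian_two_subgroup hp2 H hHab (fun h hh => h2grp h (hHR hh)) x hHx hodd
  obtain ⟨hsq, hfix, hcen, hcl⟩ := special_data 2 R hR x hx hfin hcop hRx hab
  -- the derived subgroup lies in {±1}
  have hder : ⁅R, R⁆ ≤ pmOne K := by
    rw [Subgroup.commutator_le]
    intro g hg h hh
    apply mem_pmOne_of_sq h2
    have hc1 := hcl g hg h hh g hg
    have hg2 := hsq g hg h hh
    -- ⁅g,h⁆² = ⁅g²,h⁆ = 1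
    have e1 : ⁅g, h⁆ * ⁅g, h⁆ = ⁅g ^ 2, h⁆ := by
      have : ⁅g ^ 2, h⁆ = g * ⁅g, h⁆ * g⁻¹ * ⁅g, h⁆ := by
        simp only [commutatorElement_def, pow_two]; group
      rw [this, ← hc1]; group
    have e2 : ⁅g ^ 2, h⁆ = 1 := by
      rw [commutatorElement_def, hg2]; group
    rw [e1, e2]
  have hsqpm : ∀ g ∈ R, g * g ∈ pmOne K := by
    intro g hg
    apply hder
    have := hsq g hg
    rw [pow_two] at this
    exact hcen (g * g) (R.mul_mem hg hg) (fun h hh => this h hh)
  -- a non-central element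
  have hnc : ∃ g ∈ R, ¬ (x * g = g * x) := by
    by_contra hcon
    push Not at hcon
    apply hRne
    rw [← hRx, Subgroup.commutator_eq_bot_iff_le_centralizer]
    intro g hg
    rw [Subgroup.mem_centralizer_iff]
    intro z hz
    obtain ⟨k, rfl⟩ := Subgroup.mem_zpowers_iff.mp hz
    have hc : Commute x g := hcon g hg
    exact (hc.zpow_left k).eq
  obtain ⟨g, hg, hgx⟩ := hnc
  have hN := sub_one_sq_eq_zero_of_pow_char (p := p) x hxp
  have htr := trace_sub_one_of_pow_char (p := p) x hxp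
  obtain ⟨t, ht⟩ : ∃ t : K, t = ((g : M2) * ((x : M2) - 1) * ((g⁻¹ : SL2) : M2) * ((x : M2) - 1)).trace :=
    ⟨_, rfl⟩
  have hkey : ∀ k : ℕ, ¬ p ∣ k → (k : K) * (k : K) * t = 4 ∨ (k : K) * (k : K) * t = 2 := by
    intro k hk
    have hne : ⁅g, x ^ k⁆ ≠ 1 := by
      intro h1
      apply hgx
      apply commute_of_pow_commute hp.out x g hxp k hk
      rw [commutatorElement_eq_one_iff_commute] at h1
      exact h1.eq.symm
    have hmem : ⁅g, x ^ k⁆ ∈ R := by
      have hxk : x ^ k ∈ Subgroup.normalizer (R : Set SL2) := Subgroup.pow_mem _ hx k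
      have h1 : x ^ k * g⁻¹ * (x ^ k)⁻¹ ∈ R :=
        (Subgroup.mem_normalizer_iff.mp hxk g⁻¹).mp (R.inv_mem hg)
      have : ⁅g, x ^ k⁆ = g * (x ^ k * g⁻¹ * (x ^ k)⁻¹) := by
        rw [commutatorElement_def]; group
      rw [this]; exact R.mul_mem hg h1
    have htrc := trace_commutator_pow x g hN htr k
    rw [← ht] at htrc
    rcases hsqpm _ hmem with h1 | h1
    · -- c² = 1, c ≠ 1 so c = -1
      have := eq_neg_one_of_sq_eq_one h2 _ h1 hne
      rw [this, Matrix.trace_neg, Matrix.trace_one, Fintype.card_fin] at htrc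
      left
      have : (-(2 : ℕ) : K) = 2 - (k : K) * (k : K) * t := by exact_mod_cast htrc
      push_cast at this
      linear_combination this
    · right
      have := trace_eq_zero_of_sq_eq_neg_one _ h1
      rw [this] at htrc
      linear_combination htrc
  by_contra hp3
  have hp5 : 5 ≤ p := by
    have := hp.out.two_le
    rcases Nat.lt_or_ge p 5 with h | h
    · interval_cases p
      · exact absurd rfl hp2
      · exact absurd rfl hp3
      · exact absurd hp.out (by decide)
    · exact h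
  have hnd : ∀ k : ℕ, 0 < k → k < 5 → ¬ p ∣ k := by
    intro k hk0 hk5 hdvd
    have := Nat.le_of_dvd hk0 hdvd
    omega
  have k1 := hkey 1 (hnd 1 (by norm_num) (by norm_num))
  have k2 := hkey 2 (hnd 2 (by norm_num) (by norm_num))
  have k3 := hkey 3 (hnd 3 (by norm_num) (by norm_num))
  have haux := prime_aux p hp.out hp5
  push_cast at k1 k2 k3
  rcases k1 with k1 | k1
  · -- t = 4
    have ht4 : t = 4 := by linear_combination k1
    rw [ht4] at k2 k3
    rcases k2 with k2 | k2
    · have : ((12 : ℕ) : K) = 0 := by push_cast; linear_combination k2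
      exact haux.1 ((CharP.cast_eq_zero_iff K p 12).mp this)
    · have h14 : ((14 : ℕ) : K) = 0 := by push_cast; linear_combination k2
      have hdvd := (CharP.cast_eq_zero_iff K p 14).mp h14
      rcases k3 with k3 | k3
      · have h32 : ((32 : ℕ) : K) = 0 := by push_cast; linear_combination k3
        exact haux.2.2.2.1 ⟨hdvd, (CharP.cast_eq_zero_iff K p 32).mp h32⟩
      · have h34 : ((34 : ℕ) : K) = 0 := by push_cast; linear_combination k3
        exact haux.2.2.2.2 ⟨hdvd, (CharP.cast_eq_zero_iff K p 34).mp h34⟩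
  · have ht2 : t = 2 := by linear_combination k1
    rw [ht2] at k2
    rcases k2 with k2 | k2
    · have : ((4 : ℕ) : K) = 0 := by push_cast; linear_combination k2
      exact haux.2.1 ((CharP.cast_eq_zero_iff K p 4).mp this)
    · have : ((6 : ℕ) : K) = 0 := by push_cast; linear_combination k2
      exact haux.2.2.1 ((CharP.cast_eq_zero_iff K p 6).mp this)

end Cfsg.Agent.Lib.Helper1.SL2Three
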