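import Mathlib
import Cfsg.Agent.Lib.Helper1.SL2Three4
import Cfsg.Agent.Lib.Helper1.CoprimeSylow
import Cfsg.Agent.Lib.Helper1.Coprime
set_option autoImplicit false
open Matrix
open scoped commutatorElement
universe u v
namespace Cfsg.Agent.Lib.Helper1.SL2Three

open Cfsg.Agent.Lib.Helper5.SL2Cyclic Cfsg.Agent.Lib.Helper1.SL2Odd Cfsg.Agent.Lib.Helper1

variable {K : Type u} [Field K]

local notation "SL2" => Matrix.SpecialLinearGroup (Fin 2) K
local notation "M2" => Matrix (Fin 2) (Fin 2) K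

/-- an odd-order element normalizing an abelian `r`-subgroup (`r ≠ 2, p`) of `SL_2(K)` centralizes it -/
theorem centralizes_abelian_odd_subgroup {p : ℕ} [hp : Fact p.Prime] [CharP K p] (hp2 : p ≠ 2)
    {r : ℕ} (hr : r.Prime) (hr2 : r ≠ 2) (hrp : r ≠ p)
    (H : Subgroup SL2) (hab : ∀ a ∈ H, ∀ b ∈ H, a * b = b * a)
    (hrgrp : ∀ h ∈ H, ∃ k : ℕ, h ^ (r ^ k) = 1) (g : SL2) (hgH : ∀ h ∈ H, g * h * g⁻¹ ∈ H)
    (hg : Odd (orderOf g)) : ∀ h ∈ H, g * h = h * g := by
  have h2 : (2 : K) ≠ 0 := two_ne_zero_of_charP hp2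
  intro h hh
  by_cases h1 : h = 1
  · rw [h1, mul_one, one_mul]
  · obtain ⟨k, hk⟩ := hrgrp h hh
    have hord : (orderOf h).Coprime (2 * p) := by
      have d : orderOf h ∣ r ^ k := orderOf_dvd_of_pow_eq_one hk
      apply Nat.Coprime.coprime_dvd_left d
      apply Nat.Coprime.pow_left
      apply Nat.Coprime.mul_right
      · exact (Nat.coprime_primes hr Nat.prime_two).mpr hr2
      · exact (Nat.coprime_primes hr hp.out).mpr hrp
    have ht := trace_sq_ne_four (p := p) h h1 hord
    exact commute_of_conj_commute h2 h g ht (hab _ hh _ (hgH h hh)) hg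

end Cfsg.Agent.Lib.Helper1.SL2Three

namespace Cfsg.Agent.Lib.Helper1.SL2Three

open Cfsg.Agent.Lib.Helper5.SL2Cyclic Cfsg.Agent.Lib.Helper1.SL2Odd Cfsg.Agent.Lib.Helper1

variable {K : Type u} [Field K]

local notation "SL2" => Matrix.SpecialLinearGroup (Fin 2) K
local notation "M2" => Matrix (Fin 2) (Fin 2) K

/-- a subgroup containing a Sylow `r`-subgroup for every prime `r` is everything -/
theorem eq_top_of_forall_sylow_le {G : Type v} [Group G] [Finite G] (C : Subgroup G)
    (h : ∀ r : ℕ, ∀ _ : Fact r.Prime, ∃ P : Sylow r G, (P : Subgroup G) ≤ C) : C = ⊤ := by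
  rw [← Subgroup.index_eq_one, Nat.eq_one_iff_not_exists_prime_dvd]
  intro r hr hdvd
  haveI : Fact r.Prime := ⟨hr⟩
  obtain ⟨P, hP⟩ := h r ⟨hr⟩
  exact P.not_dvd_index (hdvd.trans (Subgroup.index_dvd_of_le hP))

theorem eq_three_of_coprime_action [Finite K] {p : ℕ} [hp : Fact p.Prime] [CharP K p]
    (hp2 : p ≠ 2) (Q : Subgroup SL2) (hQ : (Nat.card Q).Coprime p) (x : SL2) (hxp : x ^ p = 1)
    (hx : x ∈ Subgroup.normalizer (Q : Set SL2)) (hnc : ¬ ∀ q ∈ Q, x * q = q * x) : p = 3 := by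
  by_contra hp3
  apply hnc
  have h2 : (2 : K) ≠ 0 := two_ne_zero_of_charP hp2
  obtain ⟨A, hA⟩ : ∃ A : Subgroup SL2, A = Subgroup.zpowers x := ⟨_, rfl⟩
  have hxA : x ∈ A := by rw [hA]; exact Subgroup.mem_zpowers x
  have hAQ : A ≤ Subgroup.normalizer (Q : Set SL2) := by
    rw [hA, Subgroup.zpowers_le]; exact hx
  have hcardA : Nat.card A ∣ p := by
    rw [hA, Nat.card_zpowers]; exact orderOf_dvd_of_pow_eq_one hxp
  have hcop : (Nat.card A).Coprime (Nat.card Q) :=
    Nat.Coprime.coprime_dvd_left hcardA hQ.symm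
  have hsolvA : Group.IsSolvable A := by
    rw [hA]
    haveI : IsCyclic (Subgroup.zpowers x) := inferInstance
    letI : CommGroup (Subgroup.zpowers x) := IsCyclic.commGroup
    infer_instance
  have hsolv : Group.IsSolvable A ∨ Group.IsSolvable Q := Or.inl hsolvA
  have hodd : Odd (orderOf x) := by
    have : orderOf x ∣ p := orderOf_dvd_of_pow_eq_one hxp
    exact Odd.of_dvd_nat (hp.out.odd_of_ne_two hp2) this
  -- every invariant Sylow subgroup is centralized
  have hsyl : ∀ r : ℕ, ∀ hr : Fact r.Prime, ∀ P : Sylow r Q,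
      A ≤ Subgroup.normalizer (((P : Subgroup Q).map Q.subtype : Subgroup SL2) : Set SL2) →
      ∀ h ∈ (P : Subgroup Q).map Q.subtype, x * h = h * x := by
    intro r hr P hAP
    obtain ⟨R, hRdef⟩ : ∃ R : Subgroup SL2, R = (P : Subgroup Q).map Q.subtype := ⟨_, rfl⟩
    rw [← hRdef] at hAP ⊢
    have hRQ : R ≤ Q := by rw [hRdef]; exact Subgroup.map_subtype_le _
    have hRp : IsPGroup r R := by rw [hRdef]; exact P.2.map _
    have hxR : x ∈ Subgroup.normalizer (R : Set SL2) := hAP hxA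
    have hxinv : ∀ h ∈ R, x * h * x⁻¹ ∈ R := fun h hh =>
      (Subgroup.mem_normalizer_iff.mp hxR h).mp hh
    have hrgrp : ∀ h ∈ R, ∃ k : ℕ, h ^ (r ^ k) = 1 := by
      intro h hh
      obtain ⟨k, hk⟩ := hRp ⟨h, hh⟩
      exact ⟨k, by have := congrArg Subtype.val hk; simpa using this⟩
    by_cases hrp : r = p
    · -- trivial Sylow
      intro h hh
      obtain ⟨k, hk⟩ := hrgrp h hh
      have d1 : orderOf h ∣ r ^ k := orderOf_dvd_of_pow_eq_one hk
      have d2 : orderOf h ∣ Nat.card Q := by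
        have : orderOf (⟨h, hRQ hh⟩ : Q) ∣ Nat.card Q := orderOf_dvd_natCard _
        rwa [Subgroup.orderOf_mk] at this
      have hc : Nat.Coprime (r ^ k) (Nat.card Q) := by
        rw [hrp]; exact Nat.Coprime.pow_left k hQ.symm
      have : orderOf h = 1 := Nat.eq_one_of_dvd_coprimes hc d1 d2
      rw [orderOf_eq_one_iff.mp this, mul_one, one_mul]
    by_cases hr2 : r = 2
    · subst hr2
      by_contra hcon
      apply hp3
      obtain ⟨R₀, hR₀⟩ : ∃ R₀ : Subgroup SL2, R₀ = ⁅R, A⁆ := ⟨_, rfl⟩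
      have hcopR : (Nat.card A).Coprime (Nat.card R) :=
        Nat.Coprime.coprime_dvd_right (Subgroup.card_dvd_of_le hRQ) hcop
      have hidem : ⁅R₀, Subgroup.zpowers x⁆ = R₀ := by
        rw [hR₀, ← hA]
        exact coprime_commutator_commutator A R hAP hcopR (Or.inl hsolvA)
      have hR₀R : R₀ ≤ R := by
        rw [hR₀]; exact Subgroup.le_normalizer_iff_commutator_le_left.mp hAP
      have hR₀p : IsPGroup 2 R₀ := hRp.to_le hR₀R
      have hR₀ne : R₀ ≠ ⊥ := by
        intro hbot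
        apply hcon
        rw [hR₀, Subgroup.commutator_eq_bot_iff_le_centralizer] at hbot
        intro h hh
        have := Subgroup.mem_centralizer_iff.mp (hbot hh) x hxA
        exact this
      have hxR₀ : x ∈ Subgroup.normalizer (R₀ : Set SL2) := by
        rw [hR₀]
        exact Subgroup.normalizer_commutator_ge_right R A hxA
      exact eq_three_of_two_group hp2 R₀ hR₀p hR₀ne x hxp hxR₀ hidem
    · haveI := hr
      have hrF : (r : K) ≠ 0 := by
        intro h
        have h1 := (CharP.cast_eq_zero_iff K p r).mp h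
        exact hrp ((Nat.prime_dvd_prime_iff_eq hp.out hr.out).mp h1).symm
      haveI : Finite R := inferInstance
      have hcyc : IsCyclic R := isCyclic_of_isPGroup r hr2 hrF R hRp
      have habR : ∀ a ∈ R, ∀ b ∈ R, a * b = b * a := by
        intro a ha b hb
        letI : CommGroup R := IsCyclic.commGroup
        have := mul_comm (⟨a, ha⟩ : R) ⟨b, hb⟩
        exact congrArg Subtype.val this
      exact centralizes_abelian_odd_subgroup hp2 hr.out hr2 hrp R habR hrgrp x hxinv hodd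
  obtain ⟨C', hC'⟩ : ∃ C' : Subgroup Q,
      C' = (Subgroup.centralizer ({x} : Set SL2)).subgroupOf Q := ⟨_, rfl⟩
  have htop : C' = ⊤ := by
    apply eq_top_of_forall_sylow_le
    intro r hr
    obtain ⟨P, hP⟩ := coprime_exists_invariant_sylow A Q hAQ hcop hsolv r
    refine ⟨P, ?_⟩
    intro y hy
    rw [hC', Subgroup.mem_subgroupOf, Subgroup.mem_centralizer_iff]
    intro z hz
    rw [Set.mem_singleton_iff] at hz
    rw [hz]
    exact hsyl r hr P hP (y : SL2) (Subgroup.mem_map_of_mem Q.subtype hy)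
  intro q hq
  have : (⟨q, hq⟩ : Q) ∈ C' := by rw [htop]; exact Subgroup.mem_top _
  rw [hC', Subgroup.mem_subgroupOf, Subgroup.mem_centralizer_iff] at this
  exact this x rfl

end Cfsg.Agent.Lib.Helper1.SL2Three
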