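import Mathlib
import Cfsg.Agent.Lib.Helper1.SL2Three3
set_option autoImplicit false
open Matrix
open scoped commutatorElement
universe u v
namespace Cfsg.Agent.Lib.Helper1.SL2Three

open Cfsg.Agent.Lib.Helper5.SL2Cyclic Cfsg.Agent.Lib.Helper1.SL2Odd

variable {K : Type u} [Field K]

local notation "SL2" => Matrix.SpecialLinearGroup (Fin 2) K
local notation "M2" => Matrix (Fin 2) (Fin 2) K

theorem smul_vec_def (g : SL2) (v : Fin 2 → K) : g • v = (g : M2) *ᵥ v := rfl

/-- an element of `SL_2` fixing a nonzero vector is unipotent -/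
theorem pow_char_eq_one_of_fix {p : ℕ} [hp : Fact p.Prime] [CharP K p] (g : SL2)
    (v : Fin 2 → K) (hv : v ≠ 0) (hgv : g • v = v) : g ^ p = 1 := by
  have h1 : ((g : M2) - 1).det = 0 := by
    apply exists_mulVec_eq_zero_iff.mp
    refine ⟨v, hv, ?_⟩
    rw [sub_mulVec, one_mulVec, ← smul_vec_def, hgv, sub_self]
  rw [det_sub_one, g.det_coe] at h1
  have ht : (g : M2).trace = 2 := by linear_combination -h1
  have hcs := cayley_sl g
  rw [ht] at hcs
  have hN : ((g : M2) - 1) * ((g : M2) - 1) = 0 := by
    rw [sub_mul, mul_sub, mul_sub, hcs, one_mul, mul_one, mul_one, two_smul]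
    abel
  apply Subtype.ext
  rw [coe_pow_of_unipotent g hN p, CharP.cast_eq_zero K p, zero_smul, add_zero]
  rfl

/-- if `u ≠ 1` fixes `v ≠ 0` and `w`, then `w` is a multiple of `v` -/
theorem exists_smul_eq_of_fix (u : SL2) (hu : u ≠ 1) (v w : Fin 2 → K) (hv : v ≠ 0)
    (huv : u • v = v) (huw : u • w = w) : ∃ c : K, w = c • v := by
  by_cases hD : v 0 * w 1 - v 1 * w 0 = 0
  · by_cases hv0 : v 0 = 0
    · have hv1 : v 1 ≠ 0 := by
        intro h
        apply hv
        ext i
        fin_cases i
        · exact hv0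
        · exact h
      refine ⟨w 1 / v 1, ?_⟩
      ext i
      fin_cases i
      · simp only [Fin.zero_eta, Fin.isValue, Pi.smul_apply, smul_eq_mul]
        rw [hv0] at hD ⊢
        have : v 1 * w 0 = 0 := by linear_combination -hD
        rcases mul_eq_zero.mp this with h | h
        · exact absurd h hv1
        · rw [h, mul_zero]
      · simp only [Fin.mk_one, Fin.isValue, Pi.smul_apply, smul_eq_mul]
        field_simp
    · refine ⟨w 0 / v 0, ?_⟩
      ext i
      fin_cases i
      · simp only [Fin.zero_eta, Fin.isValue, Pi.smul_apply, smul_eq_mul]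
        field_simp
      · simp only [Fin.mk_one, Fin.isValue, Pi.smul_apply, smul_eq_mul]
        field_simp
        linear_combination hD
  · exfalso
    apply hu
    rw [smul_vec_def] at huv huw
    have a0 := congrFun huv 0
    have a1 := congrFun huv 1
    have b0 := congrFun huw 0
    have b1 := congrFun huw 1
    simp only [Matrix.mulVec, dotProduct, Fin.sum_univ_two, Fin.isValue] at a0 a1 b0 b1
    apply Subtype.ext
    ext i j
    have hD' := hD
    fin_cases i <;> fin_cases j
    · simp only [Fin.zero_eta, Fin.isValue, Matrix.SpecialLinearGroup.coe_one, Matrix.one_apply_eq]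
      have : ((u : M2) 0 0 - 1) * (v 0 * w 1 - v 1 * w 0) = 0 := by
        linear_combination w 1 * a0 - v 1 * b0
      rcases mul_eq_zero.mp this with h | h
      · exact sub_eq_zero.mp h
      · exact absurd h hD'
    · simp only [Fin.zero_eta, Fin.isValue, Fin.mk_one, Matrix.SpecialLinearGroup.coe_one, ne_eq,
        zero_ne_one, not_false_eq_true, Matrix.one_apply_ne]
      have : ((u : M2) 0 1) * (v 0 * w 1 - v 1 * w 0) = 0 := by
        linear_combination v 0 * b0 - w 0 * a0
      rcases mul_eq_zero.mp this with h | h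
      · exact h
      · exact absurd h hD'
    · simp only [Fin.mk_one, Fin.isValue, Fin.zero_eta, Matrix.SpecialLinearGroup.coe_one, ne_eq,
        one_ne_zero, not_false_eq_true, Matrix.one_apply_ne]
      have : ((u : M2) 1 0) * (v 0 * w 1 - v 1 * w 0) = 0 := by
        linear_combination w 1 * a1 - v 1 * b1
      rcases mul_eq_zero.mp this with h | h
      · exact h
      · exact absurd h hD'
    · simp only [Fin.mk_one, Fin.isValue, Matrix.SpecialLinearGroup.coe_one, Matrix.one_apply_eq]
      have : ((u : M2) 1 1 - 1) * (v 0 * w 1 - v 1 * w 0) = 0 := by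
        linear_combination v 0 * b1 - w 0 * a1
      rcases mul_eq_zero.mp this with h | h
      · exact sub_eq_zero.mp h
      · exact absurd h hD'

end Cfsg.Agent.Lib.Helper1.SL2Three

namespace Cfsg.Agent.Lib.Helper1.SL2Three

open Cfsg.Agent.Lib.Helper5.SL2Cyclic Cfsg.Agent.Lib.Helper1.SL2Odd

variable {K : Type u} [Field K]

local notation "SL2" => Matrix.SpecialLinearGroup (Fin 2) K
local notation "M2" => Matrix (Fin 2) (Fin 2) K

/-- Borel argument: a subgroup of `SL_2(K)` generated by elements of order `p` and normalizing a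
nontrivial `p`-subgroup is a `p`-group -/
theorem isPGroup_of_normalizes_pSubgroup [Finite K] {p : ℕ} [hp : Fact p.Prime] [CharP K p]
    (X P : Subgroup SL2) (hXP : X ≤ Subgroup.normalizer (P : Set SL2)) (hP : IsPGroup p P)
    (hPne : P ≠ ⊥) (S : Set SL2) (hXS : X = Subgroup.closure S) (hS : ∀ s ∈ S, s ^ p = 1) :
    IsPGroup p X := by
  have hpK : p ∣ Nat.card K := by
    have h1 : addOrderOf (1 : K) = p :=
      CharP.eq K (CharP.addOrderOf_one K) (inferInstance : CharP K p)
    rw [← h1]
    exact addOrderOf_dvd_natCard 1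
  have hpV : p ∣ Nat.card (Fin 2 → K) := by
    rw [Nat.card_fun, Nat.card_fin]
    exact dvd_pow hpK (by norm_num)
  have h0 : (0 : Fin 2 → K) ∈ MulAction.fixedPoints P (Fin 2 → K) := by
    intro g
    exact smul_zero _
  obtain ⟨v, hvfix, hv0⟩ := hP.exists_fixed_point_of_prime_dvd_card_of_fixed_point (Fin 2 → K) hpV h0
  have hv : v ≠ 0 := fun h => hv0 h.symm
  have hPv : ∀ u ∈ P, u • v = v := fun u hu => hvfix ⟨u, hu⟩
  obtain ⟨u, hu, hu1⟩ : ∃ u ∈ P, u ≠ 1 := by
    by_contra hcon
    push Not at hcon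
    apply hPne
    rw [eq_bot_iff]
    intro u hu
    rw [Subgroup.mem_bot]
    exact hcon u hu
  have hscal : ∀ g ∈ X, ∃ c : K, g • v = c • v := by
    intro g hg
    apply exists_smul_eq_of_fix u hu1 v (g • v) hv (hPv u hu)
    have hginv : g⁻¹ ∈ Subgroup.normalizer (P : Set SL2) := hXP (X.inv_mem hg)
    have h1 : g⁻¹ * u * g⁻¹⁻¹ ∈ P := (Subgroup.mem_normalizer_iff.mp hginv u).mp hu
    rw [inv_inv] at h1
    have h2 := hPv _ h1
    calc u • g • v = (g * (g⁻¹ * u * g)) • v := by rw [← mul_smul]; congr 1; group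
      _ = g • v := by rw [mul_smul, h2]
  have hSX : S ⊆ X := by rw [hXS]; exact Subgroup.subset_closure
  have hSv : ∀ s ∈ S, s • v = v := by
    intro s hs
    obtain ⟨c, hc⟩ := hscal s (hSX hs)
    have hpow : ∀ k : ℕ, s ^ k • v = c ^ k • v := by
      intro k
      induction k with
      | zero => simp
      | succ k ih => rw [pow_succ, mul_smul, hc, smul_comm, ih, smul_smul, pow_succ, mul_comm]
    have h1 := hpow p
    rw [hS s hs, one_smul] at h1
    have h2 : (c ^ p - 1) • v = 0 := by rw [sub_smul, one_smul, ← h1, sub_self]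
    have h3 : c ^ p - 1 = 0 := by
      rcases smul_eq_zero.mp h2 with h | h
      · exact h
      · exact absurd h hv
    have h4 : (c - 1) ^ p = 0 := by rw [sub_pow_char, one_pow, h3]
    have h5 : c = 1 := sub_eq_zero.mp (pow_eq_zero_iff hp.out.ne_zero |>.mp h4)
    rw [hc, h5, one_smul]
  have hXv : X ≤ MulAction.stabilizer SL2 v := by
    rw [hXS, Subgroup.closure_le]
    intro s hs
    exact hSv s hs
  rintro ⟨g, hg⟩
  refine ⟨1, ?_⟩
  apply Subtype.ext
  rw [pow_one, Subgroup.coe_pow, Subgroup.coe_one]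
  exact pow_char_eq_one_of_fix g v hv (hXv hg)

end Cfsg.Agent.Lib.Helper1.SL2Three
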