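import Mathlib
import Cfsg.Agent.Lib.Helper1.SL2Three5
import Cfsg.Agent.Lib.Helper1.SL2Three6
import Cfsg.Agent.Lib.Helper2.HHDual
set_option autoImplicit false
open Matrix
open scoped commutatorElement
universe u v
namespace Cfsg.Agent.Lib.Helper1.SL2Three

open Cfsg.Agent.Lib.Helper5.SL2Cyclic Cfsg.Agent.Lib.Helper1.SL2Odd Cfsg.Agent.Lib.Helper2 Cfsg

variable {K : Type u} [Field K]

local notation "SL2" => Matrix.SpecialLinearGroup (Fin 2) K
local notation "M2" => Matrix (Fin 2) (Fin 2) K

theorem le_normalizer_map_subtype {G : Type v} [Group G] (X : Subgroup G) (N : Subgroup X)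
    [hN : N.Normal] : X ≤ Subgroup.normalizer ((N.map X.subtype : Subgroup G) : Set G) := by
  intro g hg
  rw [Subgroup.mem_normalizer_iff]
  intro h
  constructor
  · rintro ⟨y, hy, rfl⟩
    exact ⟨⟨g, hg⟩ * y * ⟨g, hg⟩⁻¹, hN.conj_mem y hy ⟨g, hg⟩, rfl⟩
  · rintro ⟨y, hy, hyh⟩
    have h1 := hN.conj_mem y hy ⟨g, hg⟩⁻¹
    refine ⟨⟨g, hg⟩⁻¹ * y * ⟨g, hg⟩⁻¹⁻¹, h1, ?_⟩
    simp only [Subgroup.subtype_apply, Subgroup.coe_mul, Subgroup.coe_inv, inv_inv] at hyh ⊢
    rw [hyh]; group

/-- a `p`-solvable subgroup of `SL_2(K)`, `char K = p` odd, generated by elements of order `p` and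
not a `p`-group exists only for `p = 3` -/
theorem eq_three_of_pSolvable [Finite K] {p : ℕ} [hp : Fact p.Prime] [CharP K p] (hp2 : p ≠ 2)
    (X : Subgroup SL2) (S : Set SL2) (hXS : X = Subgroup.closure S) (hS : ∀ s ∈ S, s ^ p = 1)
    (hsol : IsPSolvable p X) (hnp : ¬ IsPGroup p X) : p = 3 := by
  -- O_p(X) = 1
  have hcore : pCore p X = ⊥ := by
    by_contra hne
    apply hnp
    haveI hPc : (pCore p X).Characteristic := pCore_characteristic p
    haveI hPn : (pCore p X).Normal := inferInstance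
    apply isPGroup_of_normalizes_pSubgroup X ((pCore p X).map X.subtype) ?_ ?_ ?_ S hXS hS
    · exact le_normalizer_map_subtype X _
    · exact (pCore_isPGroup p).map _
    · intro hbot
      apply hne
      exact (Subgroup.map_eq_bot_iff_of_injective _ X.subtype_injective).mp hbot
  have hcent := centralizer_pPrimeCore_le p hsol hcore
  -- a nontrivial generator
  obtain ⟨s, hs, hs1⟩ : ∃ s ∈ S, s ≠ 1 := by
    by_contra hcon
    push Not at hcon
    apply hnp
    have : X = ⊥ := by
      rw [hXS, Subgroup.closure_eq_bot_iff]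
      intro s hs
      exact hcon s hs
    rw [this]
    exact IsPGroup.of_bot
  have hsX : s ∈ X := by rw [hXS]; exact Subgroup.subset_closure hs
  obtain ⟨N, hN⟩ : ∃ N : Subgroup X, N = pPrimeCore p X := ⟨_, rfl⟩
  rw [← hN] at hcent
  haveI hNn : N.Normal := by
    rw [hN]
    haveI : (pPrimeCore p X).Characteristic := pPrimeCore_characteristic p
    infer_instance
  have hNcop : (Nat.card N).Coprime p := by rw [hN]; exact pPrimeCore_card_coprime p
  have hsN : (⟨s, hsX⟩ : X) ∉ N := by
    intro hmem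
    have d1 : orderOf (⟨s, hsX⟩ : X) ∣ Nat.card N := by
      have : orderOf (⟨⟨s, hsX⟩, hmem⟩ : N) ∣ Nat.card N := orderOf_dvd_natCard _
      rwa [Subgroup.orderOf_mk] at this
    have d2 : orderOf (⟨s, hsX⟩ : X) ∣ p := by
      apply orderOf_dvd_of_pow_eq_one
      apply Subtype.ext
      rw [Subgroup.coe_pow, Subgroup.coe_one]
      exact hS s hs
    have : orderOf (⟨s, hsX⟩ : X) = 1 := Nat.eq_one_of_dvd_coprimes hNcop d1 d2
    apply hs1
    have := orderOf_eq_one_iff.mp this
    exact congrArg Subtype.val this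
  have hscent : (⟨s, hsX⟩ : X) ∉ Subgroup.centralizer (N : Set X) := fun h => hsN (hcent h)
  apply eq_three_of_coprime_action hp2 (N.map X.subtype) ?_ s (hS s hs) ?_ ?_
  · rw [Subgroup.card_map_of_injective X.subtype_injective] -- placeholder
    exact hNcop
  · exact le_normalizer_map_subtype X N hsX
  · intro hall
    apply hscent
    rw [Subgroup.mem_centralizer_iff]
    intro y hy
    apply Subtype.ext
    have := hall (y : SL2) (Subgroup.mem_map_of_mem X.subtype hy)
    exact this.symm

end Cfsg.Agent.Lib.Helper1.SL2Three
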