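import Mathlib
import Cfsg.Agent.Lib.Helper1.QuadStable4
import Cfsg.Agent.Lib.Helper1.SL2Three7
import Cfsg.Agent.Lib.Helper1.PSolvSub
import Cfsg.Agent.Lib.Helper1.PConstrainedOfPSolvable
set_option autoImplicit false
open scoped commutatorElement Pointwise IsMulCommutative
universe u v w
namespace Cfsg.Agent.Lib.Helper1.QuadSL2

variable {A : Type v} [CommGroup A] {Γ : Type w} [Group Γ]

theorem exists_sl2_hom_of_quadratic_pair [Finite A] {p : ℕ} [hp : Fact p.Prime]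
    (hexp : ∀ u : A, u ^ p = 1) [Finite Γ] (ψ : Γ →* MulAut A) (hψ : Function.Injective ψ)
    (x y : Γ) (hgen : Subgroup.closure {x, y} = ⊤)
    (hx : ∀ u : A, ψ x (ψ x u) * u = ψ x u * ψ x u)
    (hy : ∀ u : A, ψ y (ψ y u) * u = ψ y u * ψ y u)
    (hnp : ¬ IsPGroup p Γ) :
    ∃ (n : ℕ) (φ : Γ →* Matrix.SpecialLinearGroup (Fin 2) (GaloisField p n)),
      ¬ IsPGroup p φ.range ∧ φ.range = Subgroup.closure {φ x, φ y} ∧
      (∀ s ∈ ({φ x, φ y} : Set (Matrix.SpecialLinearGroup (Fin 2) (GaloisField p n))),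
        s ^ p = 1) := by
  obtain ⟨e, n, hn0, hdvd⟩ := exists_field_data (p := p) (orderOf (x * y))
    (orderOf_pos (x * y)).ne'
  letI : Fintype (GaloisField p n) := Fintype.ofFinite _
  have hcard : Fintype.card (GaloisField p n) = p ^ n := by
    rw [← Nat.card_eq_fintype_card]; exact GaloisField.card p n hn0
  haveI : Finite (Additive A →+ GaloisField p n) :=
    Finite.of_injective (fun f => (f : Additive A → GaloisField p n)) DFunLike.coe_injective
  have hxp : x ^ p = 1 := by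
    apply hψ
    rw [map_pow, map_one]
    exact pow_eq_one_of_quad hexp _ hx
  have hyp : y ^ p = 1 := by
    apply hψ
    rw [map_pow, map_one]
    exact pow_eq_one_of_quad hexp _ hy
  have hinj := dualRep_injective (K := GaloisField p n) hexp ψ hψ
  obtain ⟨φ, hφ⟩ := exists_hom_sl2_aux (K := GaloisField p n) (p := p) x y hgen _
    (Additive A →+ GaloisField p n) rfl (dualRep (GaloisField p n) ψ)
    (dualRep_quad ψ x hx) (dualRep_quad ψ y hy)
    ⟨e, by
      have h1 : (x * y) ^ (p ^ e * (Fintype.card (GaloisField p n) - 1)) = 1 := by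
        rw [hcard]
        exact orderOf_dvd_iff_pow_eq_one.mp (hdvd _ dvd_rfl)
      rw [h1, map_one]⟩
    (by
      intro h
      apply hnp
      intro g
      obtain ⟨k, hk⟩ := h ⟨_, ⟨g, rfl⟩⟩
      refine ⟨k, ?_⟩
      apply hinj
      have := congrArg Subtype.val hk
      simpa using this)
  refine ⟨n, φ, hφ, ?_, ?_⟩
  · rw [MonoidHom.range_eq_map, ← hgen, MonoidHom.map_closure, Set.image_pair]
  · rintro s (rfl | rfl)
    · rw [← map_pow, hxp, map_one]
    · rw [← map_pow, hyp, map_one]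

/-- abstract form: in a faithful `p`-solvable group, `p ≥ 5`, quadratic elements lie in `O_p` -/
theorem mem_pCore_of_quad_of_pSolvable [Finite A] {p : ℕ} [hp : Fact p.Prime] (hp2 : p ≠ 2)
    (hp3 : p ≠ 3)
    (hexp : ∀ u : A, u ^ p = 1) [Finite Γ] (ψ : Γ →* MulAut A) (hψ : Function.Injective ψ)
    (a : Γ) (ha : ∀ u : A, ψ a (ψ a u) * u = ψ a u * ψ a u)
    (hsol : Cfsg.IsPSolvable p Γ) : a ∈ Cfsg.pCore p Γ := by
  by_contra hna
  have hap : a ^ p = 1 := by
    apply hψ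
    rw [map_pow, map_one]
    exact pow_eq_one_of_quad hexp _ ha
  obtain ⟨g, hnp⟩ := exists_conj_not_isPGroup' a hap hna
  obtain ⟨Γ₀, hΓ₀⟩ : ∃ Γ₀ : Subgroup Γ, Γ₀ = Subgroup.closure {a, g * a * g⁻¹} := ⟨_, rfl⟩
  rw [← hΓ₀] at hnp
  have haΓ : a ∈ Γ₀ := by rw [hΓ₀]; exact Subgroup.subset_closure (by simp)
  have hbΓ : g * a * g⁻¹ ∈ Γ₀ := by rw [hΓ₀]; exact Subgroup.subset_closure (by simp)
  have hb : ∀ u : A, ψ (g * a * g⁻¹) (ψ (g * a * g⁻¹) u) * u =
      ψ (g * a * g⁻¹) u * ψ (g * a * g⁻¹) u := by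
    intro u
    rw [map_mul, map_mul, map_inv]
    exact quad_conj_aut (ψ a) (ψ g) ha u
  have hsol₀ : Cfsg.IsPSolvable p Γ₀ := PSolvSub.isPSolvable_subgroup hsol Γ₀
  obtain ⟨n, φ, hφ, hrange, hS⟩ := exists_sl2_hom_of_quadratic_pair (A := A) (Γ := Γ₀) hexp
    (ψ.comp Γ₀.subtype) (hψ.comp Γ₀.subtype_injective) ⟨a, haΓ⟩ ⟨g * a * g⁻¹, hbΓ⟩
    (closure_pair_eq_top Γ₀ a (g * a * g⁻¹) hΓ₀ haΓ hbΓ) ha hb hnp
  have hsolX : Cfsg.IsPSolvable p φ.range :=
    isPSolvable_of_surjective p φ.rangeRestrict φ.rangeRestrict_surjective hsol₀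
  exact hp3 (SL2Three.eq_three_of_pSolvable hp2 φ.range _ hrange hS hsolX hφ)

end Cfsg.Agent.Lib.Helper1.QuadSL2
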