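import Mathlib
import Cfsg.Agent.Lib.Helper1.QuadStable9
import Cfsg.Agent.Lib.Helper1.PSolvStable1
set_option autoImplicit false
open scoped commutatorElement Pointwise IsMulCommutative
universe u v w
namespace Cfsg.Agent.Lib.Helper1.QuadSL2

theorem mk_mem_pCore_of_quad_pSolv {X : Type u} [Group X] [Finite X] {U : Type v} [CommGroup U]
    [Finite U] {p : ℕ} [hp : Fact p.Prime] (hp2 : p ≠ 2) (hp3 : p ≠ 3)
    (hexp : ∀ u : U, u ^ p = 1)
    (θ : X →* MulAut U) (C : Subgroup X) [hCn : C.Normal] (hC : θ.ker = C) (a : X)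
    (ha : ∀ u : U, θ a (θ a u) * u = θ a u * θ a u)
    (hsol : Cfsg.IsPSolvable p X) :
    (QuotientGroup.mk a : X ⧸ C) ∈ Cfsg.pCore p (X ⧸ C) := by
  subst hC
  apply mem_pCore_of_quad_of_pSolvable hp2 hp3 hexp (QuotientGroup.kerLift θ)
    (QuotientGroup.kerLift_injective θ) _ _
    (isPSolvable_of_surjective p (QuotientGroup.mk' θ.ker) (QuotientGroup.mk'_surjective _) hsol)
  intro u
  rw [QuotientGroup.kerLift_mk]
  exact ha u

variable {G : Type u} [Group G]

theorem isPStableOn_of_pSolvable [Finite G] {p : ℕ} [Fact p.Prime] (hp2 : p ≠ 2) (hp3 : p ≠ 3)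
    (V : Subgroup G) [hVn : V.Normal] (hV : Cfsg.IsElementaryAbelian p V)
    (hsol : Cfsg.IsPSolvable p G) : Cfsg.IsPStableOn p V := by
  intro a ha
  haveI : IsMulCommutative V := hV.1
  exact mk_mem_pCore_of_quad_pSolv (U := V) hp2 hp3 (fun u => Subtype.ext (hV.2 u u.2))
    (MulAut.conjNormal (H := V)) _ (conjNormal_ker V) a
    (quad_of_conj V a _ (fun v => MulAut.conjNormal_apply a v) ha) hsol

theorem isPStableOnSection_of_pSolvable [Finite G] {p : ℕ} [hp : Fact p.Prime] (hp2 : p ≠ 2)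
    (hp3 : p ≠ 3)
    (K N : Subgroup G) [hKn : K.Normal] [hNn : N.Normal]
    (hel : Cfsg.IsElementaryAbelian p (K.map (QuotientGroup.mk' N)))
    (hsol : Cfsg.IsPSolvable p G) : Cfsg.IsPStableOnSection p K N := by
  intro a ha
  obtain ⟨Kb, hKb⟩ : ∃ Kb : Subgroup (G ⧸ N), Kb = K.map (QuotientGroup.mk' N) := ⟨_, rfl⟩
  haveI hKbn : Kb.Normal := by
    rw [hKb]; exact hKn.map _ (QuotientGroup.mk'_surjective N)
  rw [← hKb] at hel
  haveI : IsMulCommutative Kb := hel.1
  obtain ⟨C, hC⟩ : ∃ C : Subgroup G, C = Cfsg.sectionKernel K N := ⟨_, rfl⟩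
  haveI hCn : C.Normal := by
    rw [hC]; unfold Cfsg.sectionKernel
    rw [← hKb]
    infer_instance
  rw [← hC]
  let θ : G →* MulAut Kb := (MulAut.conjNormal (H := Kb)).comp (QuotientGroup.mk' N)
  have hker : θ.ker = C := by
    rw [hC]; unfold Cfsg.sectionKernel
    rw [← hKb, ← conjNormal_ker Kb, MonoidHom.comap_ker]
  have hquadb : ⁅⁅Kb, Subgroup.zpowers (QuotientGroup.mk' N a)⁆,
      Subgroup.zpowers (QuotientGroup.mk' N a)⁆ = ⊥ := by
    rw [eq_bot_iff, hKb, ← MonoidHom.map_zpowers, ← Subgroup.map_commutator,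
      ← Subgroup.map_commutator]
    calc Subgroup.map (QuotientGroup.mk' N) ⁅⁅K, Subgroup.zpowers a⁆, Subgroup.zpowers a⁆
        ≤ Subgroup.map (QuotientGroup.mk' N) N := Subgroup.map_mono ha
      _ = ⊥ := QuotientGroup.map_mk'_self N
  have hmem := mk_mem_pCore_of_quad_pSolv (X := G) (U := Kb) hp2 hp3
    (fun u => Subtype.ext (hel.2 u u.2)) θ C
    hker a (quad_of_conj Kb (QuotientGroup.mk' N a) (θ a)
      (fun v => MulAut.conjNormal_apply _ v) hquadb) hsol
  obtain ⟨Q, hQ⟩ : ∃ Q : Subgroup (G ⧸ C), Q = Cfsg.pCore p (G ⧸ C) := ⟨_, rfl⟩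
  rw [← hQ] at hmem
  have hQn : Q.Normal := by rw [hQ]; exact pCore_normal p
  have hQp : IsPGroup p Q := by rw [hQ]; exact pCore_isPGroup p
  have hCD : C ≤ Q.comap (QuotientGroup.mk' C) := by
    conv_lhs => rw [← QuotientGroup.ker_mk' C]
    exact Subgroup.ker_le_comap _ _
  refine ⟨Q.comap (QuotientGroup.mk' C), hQn.comap _, hCD, ?_, hmem⟩
  obtain ⟨k, hk⟩ := IsPGroup.iff_card.mp hQp
  refine ⟨k, ?_⟩
  have h1 := Subgroup.relIndex_mul_index hCD
  rw [Subgroup.index_comap_of_surjective Q (QuotientGroup.mk'_surjective C)] at h1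
  have h2 : C.index = Nat.card Q * Q.index := by
    rw [Subgroup.card_mul_index, Subgroup.index_eq_card]
  rw [h2, hk] at h1
  have hpos : 0 < Q.index := Nat.pos_of_ne_zero Subgroup.index_ne_zero_of_finite
  exact Nat.eq_of_mul_eq_mul_right hpos h1

theorem isActionPStable_of_pSolvable [Finite G] {p : ℕ} [hp : Fact p.Prime] (hp2 : p ≠ 2)
    (hp3 : p ≠ 3) (hsol : Cfsg.IsPSolvable p G) : Cfsg.IsActionPStable p G := by
  refine ⟨?_, ?_, ?_⟩
  · intro V _ hV
    exact isPStableOn_of_pSolvable hp2 hp3 V hV hsol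
  · apply isPStableOnSection_of_pSolvable hp2 hp3 _ _ _ hsol
    exact isElementaryAbelian_map_mk_of_frattini _ (pCore_isPGroup p) _ le_rfl
  · intro S V _ hV
    apply isPStableOn_of_pSolvable hp2 hp3 V _ (PSolvSub.isPSolvable_subgroup hsol _)
    apply isElementaryAbelian_of_map_le _ _ V _ _ hV
    unfold Cfsg.omegaCenterThompson
    exact isElementaryAbelian_omegaOne_center p _

end Cfsg.Agent.Lib.Helper1.QuadSL2
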