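import Mathlib
import Cfsg.Agent.Lib.Helper1.SL2Three6
import Cfsg.Agent.Lib.Helper1.SL2Three4
set_option autoImplicit false
open Matrix
open scoped commutatorElement
universe u v
namespace Cfsg.Agent.Lib.Helper1.SL2Three

open Cfsg.Agent.Lib.Helper5.SL2Cyclic Cfsg.Agent.Lib.Helper1.SL2Odd

variable {K : Type u} [Field K]

local notation "SL2" => Matrix.SpecialLinearGroup (Fin 2) K
local notation "M2" => Matrix (Fin 2) (Fin 2) K

/-- structure of a `2`-subgroup `R = [R, x]`: squares are `±1`, and some element is moved by `x` -/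
theorem two_group_structure {p : ℕ} [hp : Fact p.Prime] [CharP K p] (hp2 : p ≠ 2)
    (R : Subgroup SL2) [Finite R] (hR : IsPGroup 2 R) (hRne : R ≠ ⊥) (x : SL2) (hxp : x ^ p = 1)
    (hx : x ∈ Subgroup.normalizer (R : Set SL2)) (hRx : ⁅R, Subgroup.zpowers x⁆ = R) :
    (∀ g ∈ R, g * g ∈ pmOne K) ∧ ∃ g ∈ R, ¬ (x * g = g * x) := by
  haveI : Fact (Nat.Prime 2) := ⟨Nat.prime_two⟩
  have h2 : (2 : K) ≠ 0 := two_ne_zero_of_charP hp2
  have hx1 : x ≠ 1 := by
    rintro rfl
    apply hRne
    rw [← hRx, Subgroup.zpowers_one_eq_bot, Subgroup.commutator_bot_right]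
  have hord : orderOf x = p := orderOf_eq_prime hxp hx1
  have hfin : IsOfFinOrder x := isOfFinOrder_iff_pow_eq_one.mpr ⟨p, hp.out.pos, hxp⟩
  have hodd : Odd (orderOf x) := by rw [hord]; exact hp.out.odd_of_ne_two hp2
  have hcop : (orderOf x).Coprime 2 := by
    rw [hord]; exact (Nat.coprime_primes hp.out Nat.prime_two).mpr hp2
  have h2grp : ∀ h ∈ R, ∃ k : ℕ, h ^ (2 ^ k) = 1 := by
    intro h hh
    obtain ⟨k, hk⟩ := hR ⟨h, hh⟩
    exact ⟨k, by have := congrArg Subtype.val hk; simpa using this⟩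
  have hab : ∀ H : Subgroup SL2, H ≤ R → (∀ a ∈ H, ∀ b ∈ H, a * b = b * a) →
      (∀ h ∈ H, x * h * x⁻¹ ∈ H) → ∀ h ∈ H, x * h = h * x := by
    intro H hHR hHab hHx
    exact centralizes_abelian_two_subgroup hp2 H hHab (fun h hh => h2grp h (hHR hh)) x hHx hodd
  obtain ⟨hsq, hfix, hcen, hcl⟩ := special_data 2 R hR x hx hfin hcop hRx hab
  have hder : ⁅R, R⁆ ≤ pmOne K := by
    rw [Subgroup.commutator_le]
    intro g hg h hh
    apply mem_pmOne_of_sq h2
    have hc1 := hcl g hg h hh g hg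
    have hg2 := hsq g hg h hh
    have e1 : ⁅g, h⁆ * ⁅g, h⁆ = ⁅g ^ 2, h⁆ := by
      have : ⁅g ^ 2, h⁆ = g * ⁅g, h⁆ * g⁻¹ * ⁅g, h⁆ := by
        simp only [commutatorElement_def, pow_two]; group
      rw [this, ← hc1]; group
    have e2 : ⁅g ^ 2, h⁆ = 1 := by
      rw [commutatorElement_def, hg2]; group
    rw [e1, e2]
  refine ⟨?_, ?_⟩
  · intro g hg
    apply hder
    have := hsq g hg
    rw [pow_two] at this
    exact hcen (g * g) (R.mul_mem hg hg) (fun h hh => this h hh)
  · by_contra hcon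
    push Not at hcon
    apply hRne
    rw [← hRx, Subgroup.commutator_eq_bot_iff_le_centralizer]
    intro g hg
    rw [Subgroup.mem_centralizer_iff]
    intro z hz
    obtain ⟨k, rfl⟩ := Subgroup.mem_zpowers_iff.mp hz
    have hc : Commute x g := hcon g hg
    exact (hc.zpow_left k).eq

/-- if the determinant of `(v, w)` vanishes and `v ≠ 0`, `w` is a multiple of `v` -/
theorem exists_smul_of_det_zero (v w : Fin 2 → K) (hv : v ≠ 0)
    (hD : v 0 * w 1 - v 1 * w 0 = 0) : ∃ c : K, w = c • v := by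
  by_cases hv0 : v 0 = 0
  · have hv1 : v 1 ≠ 0 := by
      intro h
      apply hv
      ext i
      fin_cases i
      · exact hv0
      · exact h
    refine ⟨w 1 / v 1, ?_⟩
    ext i
    fin_cases i
    · simp only [Fin.zero_eta, Fin.isValue, Pi.smul_apply, smul_eq_mul]
      rw [hv0] at hD ⊢
      have : v 1 * w 0 = 0 := by linear_combination -hD
      rcases mul_eq_zero.mp this with h | h
      · exact absurd h hv1
      · rw [h, mul_zero]
    · simp only [Fin.mk_one, Fin.isValue, Pi.smul_apply, smul_eq_mul]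
      field_simp
  · refine ⟨w 0 / v 0, ?_⟩
    ext i
    fin_cases i
    · simp only [Fin.zero_eta, Fin.isValue, Pi.smul_apply, smul_eq_mul]
      field_simp
    · simp only [Fin.mk_one, Fin.isValue, Pi.smul_apply, smul_eq_mul]
      field_simp
      linear_combination hD

/-- a unipotent element has a nonzero fixed vector -/
theorem exists_fixed_vector_of_pow_char {p : ℕ} [hp : Fact p.Prime] [CharP K p] (x : SL2)
    (hx : x ^ p = 1) : ∃ v : Fin 2 → K, v ≠ 0 ∧ x • v = v := by
  have hc : Commute (x : M2) 1 := Commute.one_right _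
  have h1 : ((x : M2) - 1) ^ p = 0 := by
    rw [sub_pow_char_of_commute p hc, one_pow, ← Matrix.SpecialLinearGroup.coe_pow, hx]
    simp
  have h2 : ((x : M2) - 1).det = 0 := by
    have := congrArg Matrix.det h1
    rw [Matrix.det_pow, Matrix.det_zero] at this
    exact pow_eq_zero_iff (hp.out.ne_zero) |>.mp this
  obtain ⟨v, hv, hv2⟩ := exists_mulVec_eq_zero_iff.mpr h2
  refine ⟨v, hv, ?_⟩
  rw [sub_mulVec, one_mulVec, sub_eq_zero] at hv2
  exact hv2

end Cfsg.Agent.Lib.Helper1.SL2Three
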