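import Mathlib
import Cfsg.Agent.Lib.Helper1.SL2Q8a
set_option autoImplicit false
open Matrix
open scoped commutatorElement
universe u v
namespace Cfsg.Agent.Lib.Helper1.SL2Three

open Cfsg.Agent.Lib.Helper5.SL2Cyclic Cfsg.Agent.Lib.Helper1.SL2Odd

variable {K : Type u} [Field K]

local notation "SL2" => Matrix.SpecialLinearGroup (Fin 2) K
local notation "M2" => Matrix (Fin 2) (Fin 2) K

theorem neg_one_smul_vec (g : SL2) (h : (g : M2) = -1) (v : Fin 2 → K) : g • v = -v := by
  rw [smul_vec_def, h, neg_mulVec, one_mulVec]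

theorem smul_eq_neg_of_coe_eq_neg (g h : SL2) (e : (g : M2) = -(h : M2)) (v : Fin 2 → K) :
    g • v = -(h • v) := by
  rw [smul_vec_def, smul_vec_def, e, neg_mulVec]

/-- the vector-level data of a quaternion configuration in characteristic three -/
theorem quaternion_basis [CharP K 3] (i x : SL2) (hx3 : x ^ 3 = 1) (hx1 : x ≠ 1)
    (hi2 : ((i * i : SL2) : M2) = -1)
    (hanti : ((i * (x * i * x⁻¹) : SL2) : M2) = -(((x * i * x⁻¹) * i : SL2) : M2)) :
    ∃ (v w : Fin 2 → K) (α : K), v 0 * w 1 - v 1 * w 0 ≠ 0 ∧ (α = 1 ∨ α = -1) ∧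
      x • v = v ∧ x • w = α • v + w ∧ i • v = w ∧ i • w = -v := by
  have : Fact (Nat.Prime 3) := ⟨Nat.prime_three⟩
  have h2 : (2 : K) ≠ 0 := two_ne_zero_of_charP (p := 3) (by norm_num)
  have h3 : (3 : K) = 0 := by
    have := CharP.cast_eq_zero K 3
    exact_mod_cast this
  obtain ⟨v, hv, hxv⟩ := exists_fixed_vector_of_pow_char (p := 3) x hx3
  obtain ⟨w, hw⟩ : ∃ w : Fin 2 → K, w = i • v := ⟨_, rfl⟩
  obtain ⟨j, hj⟩ : ∃ j : SL2, j = x * i * x⁻¹ := ⟨_, rfl⟩
  rw [← hj] at hanti
  have hiw : i • w = -v := by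
    rw [hw, ← mul_smul]; exact neg_one_smul_vec _ hi2 v
  have hxinv : x⁻¹ • v = v := by
    calc x⁻¹ • v = x⁻¹ • (x • v) := by rw [hxv]
      _ = v := by rw [← mul_smul, inv_mul_cancel, one_smul]
  have hjv : j • v = x • w := by
    rw [hj, mul_smul, mul_smul, hxinv, ← hw]
  have hjj : ((j * j : SL2) : M2) = -1 := by
    have e : j * j = x * (i * i) * x⁻¹ := by rw [hj]; group
    rw [e, Matrix.SpecialLinearGroup.coe_mul, Matrix.SpecialLinearGroup.coe_mul, hi2]
    have : (x : M2) * ((x⁻¹ : SL2) : M2) = 1 := by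
      rw [← Matrix.SpecialLinearGroup.coe_mul, mul_inv_cancel]; rfl
    rw [mul_neg, mul_one, neg_mul, this]
  -- independence
  have hd : v 0 * w 1 - v 1 * w 0 ≠ 0 := by
    intro hD
    obtain ⟨c, hc⟩ := exists_smul_of_det_zero v w hv hD
    have hiv : i • v = c • v := by rw [← hw, hc]
    have hjv' : j • v = c • v := by rw [hjv, hc, smul_comm, hxv]
    have e1 : (i * j) • v = (c * c) • v := by
      rw [mul_smul, hjv', smul_comm, hiv, smul_smul]
    have e2 : (j * i) • v = (c * c) • v := by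
      rw [mul_smul, hiv, smul_comm, hjv', smul_smul]
    have e3 := smul_eq_neg_of_coe_eq_neg _ _ hanti v
    rw [e1, e2] at e3
    have e4 : (2 * (c * c)) • v = 0 := by
      rw [two_mul, add_smul]
      nth_rw 1 [e3]
      exact neg_add_cancel _
    have e5 : c = 0 := by
      rcases smul_eq_zero.mp e4 with h | h
      · rcases mul_eq_zero.mp h with h' | h'
        · exact absurd h' h2
        · exact mul_self_eq_zero.mp h'
      · exact absurd h hv
    rw [e5, zero_smul] at hiv
    apply hv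
    calc v = i⁻¹ • (i • v) := by rw [← mul_smul, inv_mul_cancel, one_smul]
      _ = 0 := by rw [hiv, smul_zero]
  -- the coefficient α
  have hN := sub_one_sq_eq_zero_of_pow_char (p := 3) x hx3
  obtain ⟨u, hu⟩ : ∃ u : Fin 2 → K, u = x • w - w := ⟨_, rfl⟩
  have hxu : x • u = u := by
    have h1 : (((x : M2) - 1) * ((x : M2) - 1)) *ᵥ w = 0 := by rw [hN, zero_mulVec]
    have h0 : ((x : M2) - 1) *ᵥ w = u := by
      rw [sub_mulVec, one_mulVec, ← smul_vec_def, hu]
    rw [← mulVec_mulVec, h0, sub_mulVec, one_mulVec, ← smul_vec_def, sub_eq_zero] at h1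
    exact h1
  obtain ⟨α, hα⟩ := exists_smul_eq_of_fix x hx1 v u hv hxv hxu
  have hxw : x • w = α • v + w := by
    rw [← hα, hu]; abel
  have hjw : j • w = -(α • w) + v := by
    have e3 := smul_eq_neg_of_coe_eq_neg _ _ hanti v
    -- (i*j) v = -(j*i) v
    have e4 : (j * i) • v = j • w := by rw [mul_smul, ← hw]
    have e5 : (i * j) • v = α • w - v := by
      rw [mul_smul, hjv, hxw, smul_add, smul_comm, ← hw, hiw]; abel
    rw [e4, e5] at e3
    have : j • w = -(α • w - v) := by rw [e3, neg_neg]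
    rw [this]; abel
  have hα2 : α * α + 2 = 0 := by
    have e1 : (j * j) • v = -v := neg_one_smul_vec _ hjj v
    have e2 : (j * j) • v = (α * α + 1) • v := by
      rw [mul_smul, hjv, hxw, smul_add, smul_comm, hjv, hxw, hjw, smul_add, smul_smul, add_smul,
        one_smul]
      abel
    rw [e2] at e1
    have e3 : (α * α + 2) • v = 0 := by
      have : (α * α + 2) • v = (α * α + 1) • v + v := by
        rw [add_smul, add_smul, one_smul, two_smul]; abel
      rw [this, e1, neg_add_cancel]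
    rcases smul_eq_zero.mp e3 with h | h
    · exact h
    · exact absurd h hv
  have hα1 : (α - 1) * (α + 1) = 0 := by linear_combination hα2 - h3
  refine ⟨v, w, α, hd, ?_, hxv, hxw, hw.symm, hiw⟩
  rcases mul_eq_zero.mp hα1 with h | h
  · left; exact sub_eq_zero.mp h
  · right; exact eq_neg_of_add_eq_zero_left h

end Cfsg.Agent.Lib.Helper1.SL2Three
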