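import Mathlib
import Cfsg.Agent.Lib.Helper1.SL2Q8b
set_option autoImplicit false
open Matrix
open scoped commutatorElement
universe u v
namespace Cfsg.Agent.Lib.Helper1.SL2Three

/-- upper unitriangular element -/
def xmat (F : Type v) [CommRing F] (a : F) : Matrix.SpecialLinearGroup (Fin 2) F :=
  ⟨!![1, a; 0, 1], by simp [Matrix.det_fin_two]⟩

/-- lower unitriangular element -/
def ymat (F : Type v) [CommRing F] (b : F) : Matrix.SpecialLinearGroup (Fin 2) F :=
  ⟨!![1, 0; b, 1], by simp [Matrix.det_fin_two]⟩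

/-- the Weyl element -/
def wmat (F : Type v) [CommRing F] : Matrix.SpecialLinearGroup (Fin 2) F :=
  ⟨!![0, -1; 1, 0], by simp [Matrix.det_fin_two]⟩

@[simp] theorem coe_xmat (F : Type v) [CommRing F] (a : F) :
    ((xmat F a : Matrix.SpecialLinearGroup (Fin 2) F) : Matrix (Fin 2) (Fin 2) F) =
      !![1, a; 0, 1] := rfl

@[simp] theorem coe_ymat (F : Type v) [CommRing F] (a : F) :
    ((ymat F a : Matrix.SpecialLinearGroup (Fin 2) F) : Matrix (Fin 2) (Fin 2) F) =
      !![1, 0; a, 1] := rfl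

@[simp] theorem coe_wmat (F : Type v) [CommRing F] :
    ((wmat F : Matrix.SpecialLinearGroup (Fin 2) F) : Matrix (Fin 2) (Fin 2) F) =
      !![0, -1; 1, 0] := rfl

theorem xmat_add (F : Type v) [CommRing F] (a b : F) : xmat F (a + b) = xmat F a * xmat F b := by
  ext i j
  rw [Matrix.SpecialLinearGroup.coe_mul, coe_xmat, coe_xmat, coe_xmat]
  fin_cases i <;> fin_cases j <;> simp [Matrix.mul_apply, Fin.sum_univ_two, add_comm]

theorem xmat_zero (F : Type v) [CommRing F] : xmat F (0 : F) = 1 := by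
  ext i j
  rw [coe_xmat, Matrix.SpecialLinearGroup.coe_one]
  fin_cases i <;> fin_cases j <;> simp

theorem xmat_nsmul (F : Type v) [CommRing F] (a : F) (n : ℕ) :
    xmat F ((n : F) * a) = xmat F a ^ n := by
  induction n with
  | zero => simp [xmat_zero]
  | succ n ih => rw [Nat.cast_succ, add_mul, one_mul, xmat_add, ih, pow_succ]

theorem wmat_conj_xmat (F : Type v) [CommRing F] (a : F) :
    wmat F * xmat F a * (wmat F)⁻¹ = ymat F (-a) := by
  rw [mul_inv_eq_iff_eq_mul]
  ext i j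
  rw [Matrix.SpecialLinearGroup.coe_mul, Matrix.SpecialLinearGroup.coe_mul, coe_xmat, coe_ymat,
    coe_wmat]
  fin_cases i <;> fin_cases j <;> simp [Matrix.mul_apply, Fin.sum_univ_two]

theorem det_entries {F : Type v} [CommRing F] (m : Matrix.SpecialLinearGroup (Fin 2) F) :
    (m : Matrix (Fin 2) (Fin 2) F) 0 0 * (m : Matrix (Fin 2) (Fin 2) F) 1 1 -
        (m : Matrix (Fin 2) (Fin 2) F) 0 1 * (m : Matrix (Fin 2) (Fin 2) F) 1 0 = 1 := by
  have := m.det_coe
  rwa [Matrix.det_fin_two] at this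

theorem bruhat_big_cell (F : Type v) [Field F] (m : Matrix.SpecialLinearGroup (Fin 2) F)
    (hc : (m : Matrix (Fin 2) (Fin 2) F) 1 0 ≠ 0) :
    m = xmat F (((m : Matrix (Fin 2) (Fin 2) F) 0 0 - 1) / (m : Matrix (Fin 2) (Fin 2) F) 1 0) *
      ymat F ((m : Matrix (Fin 2) (Fin 2) F) 1 0) *
      xmat F (((m : Matrix (Fin 2) (Fin 2) F) 1 1 - 1) / (m : Matrix (Fin 2) (Fin 2) F) 1 0) := by
  have hdet := det_entries m
  ext i j
  rw [Matrix.SpecialLinearGroup.coe_mul, Matrix.SpecialLinearGroup.coe_mul, coe_xmat, coe_ymat,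
    coe_xmat]
  fin_cases i <;> fin_cases j
  · simp [Matrix.mul_apply, Fin.sum_univ_two]; field_simp; ring
  · simp [Matrix.mul_apply, Fin.sum_univ_two]; field_simp
    linear_combination (-1 : F) * hdet
  · simp [Matrix.mul_apply, Fin.sum_univ_two]
  · simp [Matrix.mul_apply, Fin.sum_univ_two]; field_simp; ring

/-- Bruhat-type generation: SL₂ of a field is generated by the unitriangular elements -/
theorem eq_top_of_xmat_ymat_mem (F : Type v) [Field F]
    (H : Subgroup (Matrix.SpecialLinearGroup (Fin 2) F))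
    (hx : ∀ a, xmat F a ∈ H) (hy : ∀ b, ymat F b ∈ H) : H = ⊤ := by
  rw [eq_top_iff]
  intro m _
  have key : ∀ m : Matrix.SpecialLinearGroup (Fin 2) F,
      (m : Matrix (Fin 2) (Fin 2) F) 1 0 ≠ 0 → m ∈ H := by
    intro m hc
    rw [bruhat_big_cell F m hc]
    exact H.mul_mem (H.mul_mem (hx _) (hy _)) (hx _)
  by_cases hc : (m : Matrix (Fin 2) (Fin 2) F) 1 0 = 0
  · have hdet := det_entries m
    have ha : (m : Matrix (Fin 2) (Fin 2) F) 0 0 ≠ 0 := by
      intro h0
      rw [h0, hc] at hdet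
      simp at hdet
    have h1 : ymat F 1 * m ∈ H := by
      apply key
      rw [Matrix.SpecialLinearGroup.coe_mul, coe_ymat]
      simp [Matrix.mul_apply, Fin.sum_univ_two, hc, ha]
    have : m = (ymat F 1)⁻¹ * (ymat F 1 * m) := by group
    rw [this]
    exact H.mul_mem (H.inv_mem (hy 1)) h1
  · exact key m hc

end Cfsg.Agent.Lib.Helper1.SL2Three
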