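import Mathlib
import Cfsg.Agent.Lib.Helper1.SL2Q8c
set_option autoImplicit false
open Matrix
open scoped commutatorElement
universe u v
namespace Cfsg.Agent.Lib.Helper1.SL2Three

variable {K : Type u} [Field K]

local notation "SL2" => Matrix.SpecialLinearGroup (Fin 2) K
local notation "M2" => Matrix (Fin 2) (Fin 2) K

theorem conj_mul_aux (g A B : M2) (hg : IsUnit g.det) :
    g * (A * B) * g⁻¹ = (g * A * g⁻¹) * (g * B * g⁻¹) := by
  have : (g * A * g⁻¹) * (g * B * g⁻¹) = g * A * (g⁻¹ * g) * B * g⁻¹ := by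
    simp only [Matrix.mul_assoc]
  rw [this, nonsing_inv_mul _ hg, Matrix.mul_one]
  simp only [Matrix.mul_assoc]

theorem conj_cancel_aux (g A : M2) (hg : IsUnit g.det) :
    g⁻¹ * (g * A * g⁻¹) * g = A := by
  have : g⁻¹ * (g * A * g⁻¹) * g = (g⁻¹ * g) * A * (g⁻¹ * g) := by
    simp only [Matrix.mul_assoc]
  rw [this, nonsing_inv_mul _ hg, Matrix.one_mul, Matrix.mul_one]

/-- conjugation by an invertible matrix as an endomorphism of `SL₂` -/
noncomputable def conjHom (g : M2) (hg : IsUnit g.det) : SL2 →* SL2 where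
  toFun m := ⟨g * (m : M2) * g⁻¹, by
    rw [det_mul, det_mul, m.det_coe, mul_one, det_nonsing_inv, Ring.mul_inverse_cancel _ hg]⟩
  map_one' := by
    apply Subtype.ext
    show g * (1 : M2) * g⁻¹ = 1
    rw [Matrix.mul_one, mul_nonsing_inv _ hg]
  map_mul' a b := by
    apply Subtype.ext
    show g * ((a : M2) * (b : M2)) * g⁻¹ = (g * (a : M2) * g⁻¹) * (g * (b : M2) * g⁻¹)
    exact conj_mul_aux g _ _ hg

theorem coe_conjHom (g : M2) (hg : IsUnit g.det) (m : SL2) :
    ((conjHom g hg m : SL2) : M2) = g * (m : M2) * g⁻¹ := rfl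

theorem conjHom_eq_of_mul_eq (g : M2) (hg : IsUnit g.det) (m y : SL2)
    (h : (y : M2) * g = g * (m : M2)) : conjHom g hg m = y := by
  apply Subtype.ext
  show g * (m : M2) * g⁻¹ = (y : M2)
  rw [← h, Matrix.mul_assoc, mul_nonsing_inv _ hg, Matrix.mul_one]

theorem conjHom_injective (g : M2) (hg : IsUnit g.det) : Function.Injective (conjHom g hg) := by
  rw [injective_iff_map_eq_one]
  intro m hm
  have h1 : g * (m : M2) * g⁻¹ = 1 := by
    rw [← coe_conjHom g hg m, hm]; rfl
  have h2 : (m : M2) = 1 := by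
    rw [← conj_cancel_aux g (m : M2) hg, h1, Matrix.mul_one, nonsing_inv_mul _ hg]
  apply Subtype.ext
  exact h2

theorem closure_wmat_xmat_eq_top (a : ZMod 3) (ha : a = 1 ∨ a = -1) :
    Subgroup.closure ({wmat (ZMod 3), xmat (ZMod 3) a} : Set (Matrix.SpecialLinearGroup (Fin 2) (ZMod 3))) = ⊤ := by
  have hw : wmat (ZMod 3) ∈ Subgroup.closure ({wmat (ZMod 3), xmat (ZMod 3) a} : Set _) :=
    Subgroup.subset_closure (by simp)
  have hxa : xmat (ZMod 3) a ∈ Subgroup.closure ({wmat (ZMod 3), xmat (ZMod 3) a} : Set _) :=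
    Subgroup.subset_closure (by simp)
  have hx : ∀ b, xmat (ZMod 3) b ∈ Subgroup.closure ({wmat (ZMod 3), xmat (ZMod 3) a} : Set _) := by
    intro b
    have : b = (((b * a).val : ℕ) : ZMod 3) * a := by
      rw [ZMod.natCast_zmod_val]
      rcases ha with h | h <;> subst h <;> ring
    rw [this, xmat_nsmul]
    exact Subgroup.pow_mem _ hxa _
  apply eq_top_of_xmat_ymat_mem _ _ hx
  intro b
  have : ymat (ZMod 3) b = wmat (ZMod 3) * xmat (ZMod 3) (-b) * (wmat (ZMod 3))⁻¹ := by
    rw [wmat_conj_xmat, neg_neg]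
  rw [this]
  exact Subgroup.mul_mem _ (Subgroup.mul_mem _ hw (hx _)) (Subgroup.inv_mem _ hw)

end Cfsg.Agent.Lib.Helper1.SL2Three

namespace Cfsg.Agent.Lib.Helper1.SL2Three
open Cfsg.Agent.Lib.Helper5.SL2Cyclic Cfsg.Agent.Lib.Helper1.SL2Odd

variable {K : Type u} [Field K]

local notation "SL2" => Matrix.SpecialLinearGroup (Fin 2) K
local notation "M2" => Matrix (Fin 2) (Fin 2) K

theorem mulVec_entries (m : SL2) (v w : Fin 2 → K) (h : m • v = w) (r : Fin 2) :
    (m : M2) r 0 * v 0 + (m : M2) r 1 * v 1 = w r := by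
  have := congrFun h r
  rw [smul_vec_def] at this
  simpa [Matrix.mulVec, dotProduct, Fin.sum_univ_two] using this

theorem map_injective_of_injective {R S : Type*} [CommRing R] [CommRing S] (f : R →+* S)
    (hf : Function.Injective f) :
    Function.Injective (Matrix.SpecialLinearGroup.map (n := Fin 2) f) := by
  intro a b hab
  ext r c
  have := congrArg (fun m : Matrix.SpecialLinearGroup (Fin 2) S => (m : Matrix (Fin 2) (Fin 2) S) r c) hab
  simp only [Matrix.SpecialLinearGroup.map_apply_coe, RingHom.mapMatrix_apply, Matrix.map_apply] at this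
  exact hf this

/-- a quaternion configuration together with an element of order three generates `SL₂(3)` -/
theorem exists_equiv_sl2_three [CharP K 3] (i x : SL2) (hx3 : x ^ 3 = 1) (hx1 : x ≠ 1)
    (hi2 : ((i * i : SL2) : M2) = -1)
    (hanti : ((i * (x * i * x⁻¹) : SL2) : M2) = -(((x * i * x⁻¹) * i : SL2) : M2)) :
    Nonempty (Subgroup.closure ({i, x} : Set SL2) ≃*
      Matrix.SpecialLinearGroup (Fin 2) (ZMod 3)) := by
  haveI : Fact (Nat.Prime 3) := ⟨Nat.prime_three⟩
  obtain ⟨v, w, α, hd, hα, hxv, hxw, hiv, hiw⟩ := quaternion_basis i x hx3 hx1 hi2 hanti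
  obtain ⟨g, hg⟩ : ∃ g : M2, g = !![v 0, w 0; v 1, w 1] := ⟨_, rfl⟩
  have hdet : IsUnit g.det := by
    rw [hg, det_fin_two_of]
    apply isUnit_iff_ne_zero.mpr
    intro h0; apply hd; linear_combination h0
  let f : ZMod 3 →+* K := ZMod.castHom (dvd_refl 3) K
  have hf : Function.Injective f := f.injective
  let ι := Matrix.SpecialLinearGroup.map (n := Fin 2) f
  have hι : Function.Injective ι := map_injective_of_injective f hf
  let ψ : Matrix.SpecialLinearGroup (Fin 2) (ZMod 3) →* SL2 := (conjHom g hdet).comp ι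
  have hψ : Function.Injective ψ := (conjHom_injective g hdet).comp hι
  obtain ⟨a, ha, haα⟩ : ∃ a : ZMod 3, (a = 1 ∨ a = -1) ∧ f a = α := by
    rcases hα with h | h
    · exact ⟨1, Or.inl rfl, by rw [h, map_one]⟩
    · exact ⟨-1, Or.inr rfl, by rw [h, map_neg, map_one]⟩
  have hψw : ψ (wmat (ZMod 3)) = i := by
    show conjHom g hdet (ι (wmat (ZMod 3))) = i
    refine conjHom_eq_of_mul_eq g hdet _ _ ?_
    have e1 := mulVec_entries i v w hiv
    have e2 := mulVec_entries i w (-v) hiw
    ext r c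
    simp only [ι, Matrix.SpecialLinearGroup.map_apply_coe, RingHom.mapMatrix_apply, coe_wmat, hg]
    fin_cases r <;> fin_cases c <;>
      simp [Matrix.mul_apply, Fin.sum_univ_two]
    · exact e1 0
    · have := e2 0; simpa using this
    · exact e1 1
    · have := e2 1; simpa using this
  have hψx : ψ (xmat (ZMod 3) a) = x := by
    show conjHom g hdet (ι (xmat (ZMod 3) a)) = x
    refine conjHom_eq_of_mul_eq g hdet _ _ ?_
    have e1 := mulVec_entries x v v hxv
    have e2 := mulVec_entries x w (α • v + w) hxw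
    ext r c
    simp only [ι, Matrix.SpecialLinearGroup.map_apply_coe, RingHom.mapMatrix_apply, coe_xmat, hg]
    fin_cases r <;> fin_cases c <;>
      simp [Matrix.mul_apply, Fin.sum_univ_two, haα]
    · exact e1 0
    · have := e2 0; simp at this; rw [this]; ring
    · exact e1 1
    · have := e2 1; simp at this; rw [this]; ring
  have hcl : Subgroup.closure ({i, x} : Set SL2) = (⊤ : Subgroup _).map ψ := by
    rw [← closure_wmat_xmat_eq_top a ha, MonoidHom.map_closure]
    congr 1
    rw [Set.image_pair, hψw, hψx]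
  rw [hcl]
  exact ⟨((Subgroup.equivMapOfInjective ⊤ ψ hψ).symm).trans Subgroup.topEquiv⟩

end Cfsg.Agent.Lib.Helper1.SL2Three
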