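import Mathlib
import Cfsg.Agent.Lib.Helper1.SL2Q8d
import Cfsg.Agent.Lib.Helper1.SL2Three5
set_option autoImplicit false
open Matrix
open scoped commutatorElement
universe u v
namespace Cfsg.Agent.Lib.Helper1.SL2Three

open Cfsg.Agent.Lib.Helper5.SL2Cyclic Cfsg.Agent.Lib.Helper1.SL2Odd Cfsg.Agent.Lib.Helper1

variable {K : Type u} [Field K]

local notation "SL2" => Matrix.SpecialLinearGroup (Fin 2) K
local notation "M2" => Matrix (Fin 2) (Fin 2) K

theorem pmOne_central (z : SL2) (hz : z ∈ pmOne K) (g : SL2) : z * g = g * z := by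
  rcases hz with rfl | h
  · rw [one_mul, mul_one]
  · apply Subtype.ext
    rw [Matrix.SpecialLinearGroup.coe_mul, Matrix.SpecialLinearGroup.coe_mul, h]
    simp

theorem sq_commute_of_conj_eq_inv_mul {G : Type v} [Group G] (x i z : G)
    (h : x * i * x⁻¹ = i⁻¹ * z) (hz : ∀ g : G, z * g = g * z) : x ^ 2 * i = i * x ^ 2 := by
  have h1 : x * i = i⁻¹ * z * x := by rw [← h]; group
  have h2 : x * i⁻¹ = (i⁻¹ * z)⁻¹ * x := by rw [← h]; group
  calc x ^ 2 * i = x * (x * i) := by rw [pow_two, mul_assoc]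
    _ = x * (i⁻¹ * z * x) := by rw [h1]
    _ = (x * i⁻¹) * (z * x) := by simp only [mul_assoc]
    _ = (i⁻¹ * z)⁻¹ * x * (z * x) := by rw [h2]
    _ = (i⁻¹ * z)⁻¹ * x * (x * z) := by rw [hz x]
    _ = z⁻¹ * i * (x * x) * z := by rw [_root_.mul_inv_rev, inv_inv]; simp only [mul_assoc]
    _ = z⁻¹ * (z * (i * (x * x))) := by rw [hz]; simp only [mul_assoc]
    _ = i * x ^ 2 := by rw [inv_mul_cancel_left, pow_two]

theorem anticommute_aux (I J : M2) (hI : I * I = -1) (hJ : J * J = -1)
    (hIJ : (I * J) * (I * J) = -1) : I * J = -(J * I) := by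
  have e : J * I * J = I := by
    calc J * I * J = -(I * I) * (J * I * J) := by rw [hI]; simp
      _ = -(I * ((I * J) * (I * J))) := by noncomm_ring
      _ = -(I * (-1)) := by rw [hIJ]
      _ = I := by simp
  calc I * J = (J * I * J) * J := by rw [e]
    _ = J * I * (J * J) := by noncomm_ring
    _ = -(J * I) := by rw [hJ]; simp

/-- the quaternion configuration inside a `2`-group `R = [R, x]` in characteristic three -/
theorem exists_quaternion_config [CharP K 3] (R : Subgroup SL2) [Finite R] (hR : IsPGroup 2 R)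
    (hRne : R ≠ ⊥) (x : SL2) (hx3 : x ^ 3 = 1)
    (hx : x ∈ Subgroup.normalizer (R : Set SL2)) (hRx : ⁅R, Subgroup.zpowers x⁆ = R) :
    ∃ i ∈ R, x ≠ 1 ∧ ((i * i : SL2) : M2) = -1 ∧
      ((i * (x * i * x⁻¹) : SL2) : M2) = -(((x * i * x⁻¹) * i : SL2) : M2) := by
  have : Fact (Nat.Prime 3) := ⟨Nat.prime_three⟩
  have h2 : (2 : K) ≠ 0 := two_ne_zero_of_charP (p := 3) (by norm_num)
  obtain ⟨hsq, i, hiR, hnc⟩ := two_group_structure (p := 3) (by norm_num) R hR hRne x hx3 hx hRx
  have hx1 : x ≠ 1 := by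
    intro h; apply hnc; rw [h, one_mul, mul_one]
  have hi2 : ((i * i : SL2) : M2) = -1 := by
    rcases hsq i hiR with h | h
    · exfalso; apply hnc
      exact (pmOne_central i (mem_pmOne_of_sq h2 i h) x).symm
    · exact h
  obtain ⟨j, hj⟩ : ∃ j : SL2, j = x * i * x⁻¹ := ⟨_, rfl⟩
  have hjR : j ∈ R := by
    rw [hj]; exact (Subgroup.mem_normalizer_iff.mp hx i).mp hiR
  have hjj : ((j * j : SL2) : M2) = -1 := by
    have e : j * j = x * (i * i) * x⁻¹ := by rw [hj]; group
    rw [e, Matrix.SpecialLinearGroup.coe_mul, Matrix.SpecialLinearGroup.coe_mul, hi2]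
    have : (x : M2) * ((x⁻¹ : SL2) : M2) = 1 := by
      rw [← Matrix.SpecialLinearGroup.coe_mul, mul_inv_cancel]; rfl
    rw [mul_neg, mul_one, neg_mul, this]
  refine ⟨i, hiR, hx1, hi2, ?_⟩
  rw [← hj]
  rcases hsq (i * j) (R.mul_mem hiR hjR) with h | h
  · exfalso; apply hnc
    have hz := mem_pmOne_of_sq h2 (i * j) h
    have hconj : x * i * x⁻¹ = i⁻¹ * (i * j) := by rw [← hj]; group
    have := sq_commute_of_conj_eq_inv_mul x i (i * j) hconj (pmOne_central _ hz)
    exact commute_of_pow_commute Nat.prime_three x i hx3 2 (by norm_num) this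
  · rw [Matrix.SpecialLinearGroup.coe_mul, Matrix.SpecialLinearGroup.coe_mul]
    apply anticommute_aux
    · rw [← Matrix.SpecialLinearGroup.coe_mul]; exact hi2
    · rw [← Matrix.SpecialLinearGroup.coe_mul]; exact hjj
    · rw [← Matrix.SpecialLinearGroup.coe_mul, ← Matrix.SpecialLinearGroup.coe_mul]; exact h

end Cfsg.Agent.Lib.Helper1.SL2Three

namespace Cfsg.Agent.Lib.Helper1.SL2Three

open Cfsg.Agent.Lib.Helper5.SL2Cyclic Cfsg.Agent.Lib.Helper1.SL2Odd Cfsg.Agent.Lib.Helper1

variable {K : Type u} [Field K]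

local notation "SL2" => Matrix.SpecialLinearGroup (Fin 2) K
local notation "M2" => Matrix (Fin 2) (Fin 2) K

/-- Lemma A′: in characteristic three, a `3′`-subgroup normalized but not centralized by an
element `x` of order three contains an element `i` with `⟨i, x⟩ ≅ SL₂(3)` -/
theorem exists_sl2_three_of_coprime_action [Finite K] [CharP K 3]
    (Q : Subgroup SL2) (hQ : (Nat.card Q).Coprime 3) (x : SL2) (hx3 : x ^ 3 = 1)
    (hx : x ∈ Subgroup.normalizer (Q : Set SL2)) (hnc : ¬ ∀ q ∈ Q, x * q = q * x) :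
    ∃ i ∈ Q, Nonempty (Subgroup.closure ({i, x} : Set SL2) ≃*
      Matrix.SpecialLinearGroup (Fin 2) (ZMod 3)) := by
  have hp : Fact (Nat.Prime 3) := ⟨Nat.prime_three⟩
  have hp2 : (3 : ℕ) ≠ 2 := by norm_num
  by_contra hno
  apply hnc
  have h2 : (2 : K) ≠ 0 := two_ne_zero_of_charP (p := 3) hp2
  obtain ⟨A, hA⟩ : ∃ A : Subgroup SL2, A = Subgroup.zpowers x := ⟨_, rfl⟩
  have hxA : x ∈ A := by rw [hA]; exact Subgroup.mem_zpowers x
  have hAQ : A ≤ Subgroup.normalizer (Q : Set SL2) := by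
    rw [hA, Subgroup.zpowers_le]; exact hx
  have hcardA : Nat.card A ∣ 3 := by
    rw [hA, Nat.card_zpowers]; exact orderOf_dvd_of_pow_eq_one hx3
  have hcop : (Nat.card A).Coprime (Nat.card Q) :=
    Nat.Coprime.coprime_dvd_left hcardA hQ.symm
  have hsolvA : Group.IsSolvable A := by
    rw [hA]
    haveI : IsCyclic (Subgroup.zpowers x) := inferInstance
    letI : CommGroup (Subgroup.zpowers x) := IsCyclic.commGroup
    infer_instance
  have hsolv : Group.IsSolvable A ∨ Group.IsSolvable Q := Or.inl hsolvA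
  have hodd : Odd (orderOf x) := by
    have : orderOf x ∣ 3 := orderOf_dvd_of_pow_eq_one hx3
    exact Odd.of_dvd_nat (by decide) this
  -- every invariant Sylow subgroup is centralized
  have hsyl : ∀ r : ℕ, ∀ hr : Fact r.Prime, ∀ P : Sylow r Q,
      A ≤ Subgroup.normalizer (((P : Subgroup Q).map Q.subtype : Subgroup SL2) : Set SL2) →
      ∀ h ∈ (P : Subgroup Q).map Q.subtype, x * h = h * x := by
    intro r hr P hAP
    obtain ⟨R, hRdef⟩ : ∃ R : Subgroup SL2, R = (P : Subgroup Q).map Q.subtype := ⟨_, rfl⟩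
    rw [← hRdef] at hAP ⊢
    have hRQ : R ≤ Q := by rw [hRdef]; exact Subgroup.map_subtype_le _
    have hRp : IsPGroup r R := by rw [hRdef]; exact P.2.map _
    have hxR : x ∈ Subgroup.normalizer (R : Set SL2) := hAP hxA
    have hxinv : ∀ h ∈ R, x * h * x⁻¹ ∈ R := fun h hh =>
      (Subgroup.mem_normalizer_iff.mp hxR h).mp hh
    have hrgrp : ∀ h ∈ R, ∃ k : ℕ, h ^ (r ^ k) = 1 := by
      intro h hh
      obtain ⟨k, hk⟩ := hRp ⟨h, hh⟩
      exact ⟨k, by have := congrArg Subtype.val hk; simpa using this⟩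
    by_cases hrp : r = 3
    · -- trivial Sylow
      intro h hh
      obtain ⟨k, hk⟩ := hrgrp h hh
      have d1 : orderOf h ∣ r ^ k := orderOf_dvd_of_pow_eq_one hk
      have d2 : orderOf h ∣ Nat.card Q := by
        have : orderOf (⟨h, hRQ hh⟩ : Q) ∣ Nat.card Q := orderOf_dvd_natCard _
        rwa [Subgroup.orderOf_mk] at this
      have hc : Nat.Coprime (r ^ k) (Nat.card Q) := by
        rw [hrp]; exact Nat.Coprime.pow_left k hQ.symm
      have : orderOf h = 1 := Nat.eq_one_of_dvd_coprimes hc d1 d2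
      rw [orderOf_eq_one_iff.mp this, mul_one, one_mul]
    by_cases hr2 : r = 2
    · subst hr2
      by_contra hcon
      apply hno
      obtain ⟨R₀, hR₀⟩ : ∃ R₀ : Subgroup SL2, R₀ = ⁅R, A⁆ := ⟨_, rfl⟩
      have hcopR : (Nat.card A).Coprime (Nat.card R) :=
        Nat.Coprime.coprime_dvd_right (Subgroup.card_dvd_of_le hRQ) hcop
      have hidem : ⁅R₀, Subgroup.zpowers x⁆ = R₀ := by
        rw [hR₀, ← hA]
        exact coprime_commutator_commutator A R hAP hcopR (Or.inl hsolvA)
      have hR₀R : R₀ ≤ R := by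
        rw [hR₀]; exact Subgroup.le_normalizer_iff_commutator_le_left.mp hAP
      have hR₀p : IsPGroup 2 R₀ := hRp.to_le hR₀R
      have hR₀ne : R₀ ≠ ⊥ := by
        intro hbot
        apply hcon
        rw [hR₀, Subgroup.commutator_eq_bot_iff_le_centralizer] at hbot
        intro h hh
        have := Subgroup.mem_centralizer_iff.mp (hbot hh) x hxA
        exact this
      have hxR₀ : x ∈ Subgroup.normalizer (R₀ : Set SL2) := by
        rw [hR₀]
        exact Subgroup.normalizer_commutator_ge_right R A hxA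
      obtain ⟨i, hiR, hx1, hi2, hanti⟩ :=
        exists_quaternion_config R₀ hR₀p hR₀ne x hx3 hxR₀ hidem
      exact ⟨i, hRQ (hR₀R hiR), exists_equiv_sl2_three i x hx3 hx1 hi2 hanti⟩
    · haveI := hr
      have hrF : (r : K) ≠ 0 := by
        intro h
        have h1 := (CharP.cast_eq_zero_iff K 3 r).mp h
        exact hrp ((Nat.prime_dvd_prime_iff_eq Nat.prime_three hr.out).mp h1).symm
      haveI : Finite R := inferInstance
      have hcyc : IsCyclic R := isCyclic_of_isPGroup r hr2 hrF R hRp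
      have habR : ∀ a ∈ R, ∀ b ∈ R, a * b = b * a := by
        intro a ha b hb
        letI : CommGroup R := IsCyclic.commGroup
        have := mul_comm (⟨a, ha⟩ : R) ⟨b, hb⟩
        exact congrArg Subtype.val this
      exact centralizes_abelian_odd_subgroup (p := 3) hp2 hr.out hr2 hrp R habR hrgrp x hxinv hodd
  obtain ⟨C', hC'⟩ : ∃ C' : Subgroup Q,
      C' = (Subgroup.centralizer ({x} : Set SL2)).subgroupOf Q := ⟨_, rfl⟩
  have htop : C' = ⊤ := by
    apply eq_top_of_forall_sylow_le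
    intro r hr
    obtain ⟨P, hP⟩ := coprime_exists_invariant_sylow A Q hAQ hcop hsolv r
    refine ⟨P, ?_⟩
    intro y hy
    rw [hC', Subgroup.mem_subgroupOf, Subgroup.mem_centralizer_iff]
    intro z hz
    rw [Set.mem_singleton_iff] at hz
    rw [hz]
    exact hsyl r hr P hP (y : SL2) (Subgroup.mem_map_of_mem Q.subtype hy)
  intro q hq
  have : (⟨q, hq⟩ : Q) ∈ C' := by rw [htop]; exact Subgroup.mem_top _
  rw [hC', Subgroup.mem_subgroupOf, Subgroup.mem_centralizer_iff] at this
  exact this x rfl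

end Cfsg.Agent.Lib.Helper1.SL2Three
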