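import Mathlib
set_option autoImplicit false
universe u v w
namespace Cfsg.Agent.Lib.Helper1.SectionPull

/-- pulling a subgroup of the image of a homomorphism back to a section -/
theorem exists_section_of_injective_hom {G : Type u} [Group G] {Γ : Type v} [Group Γ]
    {T : Type w} [Group T] (ι : Γ →* G) (hι : Function.Injective ι) (φ : Γ →* T)
    (Y : Subgroup T) (hY : Y ≤ φ.range) :
    ∃ (K L : Subgroup G) (_ : (L.subgroupOf K).Normal), K ≤ ι.range ∧
      Nonempty ((K ⧸ L.subgroupOf K) ≃* Y) := by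
  obtain ⟨K', hK'⟩ : ∃ K' : Subgroup Γ, K' = Y.comap φ := ⟨_, rfl⟩
  obtain ⟨e, he⟩ : ∃ e : K' ≃* K'.map ι, e = Subgroup.equivMapOfInjective K' ι hι := ⟨_, rfl⟩
  have hee : ∀ k : K', ((e k : K'.map ι) : G) = ι k := by
    intro k; rw [he]; exact Subgroup.coe_equivMapOfInjective_apply K' ι hι k
  have hmem : ∀ k : K', φ (k : Γ) ∈ Y := by
    intro k
    have h1 : (k : Γ) ∈ Y.comap φ := hK' ▸ k.2
    exact h1
  let f0 : K' →* Y :=
    { toFun := fun k => ⟨φ (k : Γ), hmem k⟩
      map_one' := by apply Subtype.ext; simp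
      map_mul' := by intro a b; apply Subtype.ext; simp }
  let f : (K'.map ι : Subgroup G) →* Y := f0.comp e.symm.toMonoidHom
  have hf0 : ∀ k : K', ((f0 k : Y) : T) = φ (k : Γ) := fun k => rfl
  have hfe : ∀ k : K', f (e k) = f0 k := by
    intro k
    show f0 (e.symm (e k)) = f0 k
    rw [MulEquiv.symm_apply_apply]
  have hsurj : Function.Surjective f := by
    intro y
    obtain ⟨γ, hγ⟩ := hY y.2
    have hγK : γ ∈ K' := by
      rw [hK', Subgroup.mem_comap, hγ]; exact y.2
    refine ⟨e ⟨γ, hγK⟩, ?_⟩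
    rw [hfe]
    apply Subtype.ext
    rw [hf0]; exact hγ
  have hker : (φ.ker.map ι).subgroupOf (K'.map ι) = f.ker := by
    ext k
    rw [Subgroup.mem_subgroupOf, MonoidHom.mem_ker]
    obtain ⟨k', rfl⟩ := e.surjective k
    rw [hfe, hee]
    constructor
    · rintro ⟨γ, hγ, hγk⟩
      have : γ = (k' : Γ) := hι hγk
      apply Subtype.ext
      rw [hf0, ← this]
      exact hγ
    · intro h
      refine ⟨(k' : Γ), ?_, rfl⟩
      have := congrArg Subtype.val h
      rw [hf0] at this
      exact this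
  have hnormal : ((φ.ker.map ι).subgroupOf (K'.map ι)).Normal := by
    rw [hker]; exact MonoidHom.normal_ker f
  refine ⟨K'.map ι, φ.ker.map ι, hnormal, ?_, ?_⟩
  · rintro _ ⟨γ, -, rfl⟩
    exact ⟨γ, rfl⟩
  · haveI := hnormal
    exact ⟨(QuotientGroup.quotientMulEquivOfEq hker).trans
      (QuotientGroup.quotientKerEquivOfSurjective f hsurj)⟩

end Cfsg.Agent.Lib.Helper1.SectionPull
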