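import Mathlib
import Cfsg.Agent.Lib.Helper1.SL2Q8e
import Cfsg.Agent.Lib.Helper1.SL2Three7
import Cfsg.Agent.Lib.Helper1.SectionPull
import Cfsg.Agent.Lib.Helper1.PSolvStable1
set_option autoImplicit false
open Matrix
open scoped commutatorElement
universe u v w
namespace Cfsg.Agent.Lib.Helper1.SL2Three

open Cfsg.Agent.Lib.Helper5.SL2Cyclic Cfsg.Agent.Lib.Helper1.SL2Odd Cfsg.Agent.Lib.Helper2 Cfsg

variable {K : Type u} [Field K]

local notation "SL2" => Matrix.SpecialLinearGroup (Fin 2) K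
local notation "M2" => Matrix (Fin 2) (Fin 2) K

/-- Lemma B′: a `3`-solvable subgroup of `SL_2(K)`, `char K = 3`, generated by elements of order
three and not a `3`-group contains a copy of `SL₂(3)` -/
theorem exists_sl2_three_of_pSolvable [Finite K] [CharP K 3]
    (X : Subgroup SL2) (S : Set SL2) (hXS : X = Subgroup.closure S) (hS : ∀ s ∈ S, s ^ 3 = 1)
    (hsol : IsPSolvable 3 X) (hnp : ¬ IsPGroup 3 X) :
    ∃ Y : Subgroup SL2, Y ≤ X ∧
      Nonempty (Y ≃* Matrix.SpecialLinearGroup (Fin 2) (ZMod 3)) := by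
  haveI hp : Fact (Nat.Prime 3) := ⟨Nat.prime_three⟩
  -- O_p(X) = 1
  have hcore : pCore 3 X = ⊥ := by
    by_contra hne
    apply hnp
    haveI hPc : (pCore 3 X).Characteristic := pCore_characteristic 3
    haveI hPn : (pCore 3 X).Normal := inferInstance
    apply isPGroup_of_normalizes_pSubgroup X ((pCore 3 X).map X.subtype) ?_ ?_ ?_ S hXS hS
    · exact le_normalizer_map_subtype X _
    · exact (pCore_isPGroup 3).map _
    · intro hbot
      apply hne
      exact (Subgroup.map_eq_bot_iff_of_injective _ X.subtype_injective).mp hbot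
  have hcent := centralizer_pPrimeCore_le 3 hsol hcore
  -- a nontrivial generator
  obtain ⟨s, hs, hs1⟩ : ∃ s ∈ S, s ≠ 1 := by
    by_contra hcon
    push Not at hcon
    apply hnp
    have : X = ⊥ := by
      rw [hXS, Subgroup.closure_eq_bot_iff]
      intro s hs
      exact hcon s hs
    rw [this]
    exact IsPGroup.of_bot
  have hsX : s ∈ X := by rw [hXS]; exact Subgroup.subset_closure hs
  obtain ⟨N, hN⟩ : ∃ N : Subgroup X, N = pPrimeCore 3 X := ⟨_, rfl⟩
  rw [← hN] at hcent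
  haveI hNn : N.Normal := by
    rw [hN]
    haveI : (pPrimeCore 3 X).Characteristic := pPrimeCore_characteristic 3
    infer_instance
  have hNcop : (Nat.card N).Coprime 3 := by rw [hN]; exact pPrimeCore_card_coprime 3
  have hsN : (⟨s, hsX⟩ : X) ∉ N := by
    intro hmem
    have d1 : orderOf (⟨s, hsX⟩ : X) ∣ Nat.card N := by
      have : orderOf (⟨⟨s, hsX⟩, hmem⟩ : N) ∣ Nat.card N := orderOf_dvd_natCard _
      rwa [Subgroup.orderOf_mk] at this
    have d2 : orderOf (⟨s, hsX⟩ : X) ∣ 3 := by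
      apply orderOf_dvd_of_pow_eq_one
      apply Subtype.ext
      rw [Subgroup.coe_pow, Subgroup.coe_one]
      exact hS s hs
    have : orderOf (⟨s, hsX⟩ : X) = 1 := Nat.eq_one_of_dvd_coprimes hNcop d1 d2
    apply hs1
    have := orderOf_eq_one_iff.mp this
    exact congrArg Subtype.val this
  have hscent : (⟨s, hsX⟩ : X) ∉ Subgroup.centralizer (N : Set X) := fun h => hsN (hcent h)
  obtain ⟨i, hiN, hiso⟩ := exists_sl2_three_of_coprime_action (N.map X.subtype)
    (by rw [Subgroup.card_map_of_injective X.subtype_injective]; exact hNcop) s (hS s hs)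
    (le_normalizer_map_subtype X N hsX) (by
      intro hall
      apply hscent
      rw [Subgroup.mem_centralizer_iff]
      intro y hy
      apply Subtype.ext
      have := hall (y : SL2) (Subgroup.mem_map_of_mem X.subtype hy)
      exact this.symm)
  refine ⟨Subgroup.closure {i, s}, ?_, hiso⟩
  rw [Subgroup.closure_le]
  rintro z (rfl | rfl)
  · exact Subgroup.map_subtype_le N hiN
  · exact hsX

end Cfsg.Agent.Lib.Helper1.SL2Three

namespace Cfsg.Agent.Lib.Helper1.QuadSL2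

variable {A : Type v} [CommGroup A] {Γ : Type w} [Group Γ]

/-- a quadratic element outside `O_p` of a faithful `p`-solvable group forces `p = 3` and an
`SL₂(3)` section -/
theorem exists_sl2_three_section_of_quad_pSolvable [Finite A] {p : ℕ} [hp : Fact p.Prime]
    (hp2 : p ≠ 2) (hexp : ∀ u : A, u ^ p = 1) [Finite Γ] (ψ : Γ →* MulAut A)
    (hψ : Function.Injective ψ)
    (a : Γ) (ha : ∀ u : A, ψ a (ψ a u) * u = ψ a u * ψ a u)
    (hsol : Cfsg.IsPSolvable p Γ) (hna : a ∉ Cfsg.pCore p Γ)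
    {G' : Type u} [Group G'] (j : Γ →* G') (hj : Function.Injective j) :
    p = 3 ∧ ∃ (K L : Subgroup G') (_ : (L.subgroupOf K).Normal), K ≤ j.range ∧
      Nonempty ((K ⧸ L.subgroupOf K) ≃* Matrix.SpecialLinearGroup (Fin 2) (ZMod 3)) := by
  have hap : a ^ p = 1 := by
    apply hψ
    rw [map_pow, map_one]
    exact pow_eq_one_of_quad hexp _ ha
  obtain ⟨g, hnp⟩ := exists_conj_not_isPGroup' a hap hna
  obtain ⟨Γ₀, hΓ₀⟩ : ∃ Γ₀ : Subgroup Γ, Γ₀ = Subgroup.closure {a, g * a * g⁻¹} := ⟨_, rfl⟩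
  rw [← hΓ₀] at hnp
  have haΓ : a ∈ Γ₀ := by rw [hΓ₀]; exact Subgroup.subset_closure (by simp)
  have hbΓ : g * a * g⁻¹ ∈ Γ₀ := by rw [hΓ₀]; exact Subgroup.subset_closure (by simp)
  have hb : ∀ u : A, ψ (g * a * g⁻¹) (ψ (g * a * g⁻¹) u) * u =
      ψ (g * a * g⁻¹) u * ψ (g * a * g⁻¹) u := by
    intro u
    rw [map_mul, map_mul, map_inv]
    exact quad_conj_aut (ψ a) (ψ g) ha u
  have hsol₀ : Cfsg.IsPSolvable p Γ₀ := PSolvSub.isPSolvable_subgroup hsol Γ₀
  obtain ⟨n, φ, hφ, hrange, hS⟩ := exists_sl2_hom_of_quadratic_pair (A := A) (Γ := Γ₀) hexp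
    (ψ.comp Γ₀.subtype) (hψ.comp Γ₀.subtype_injective) ⟨a, haΓ⟩ ⟨g * a * g⁻¹, hbΓ⟩
    (closure_pair_eq_top Γ₀ a (g * a * g⁻¹) hΓ₀ haΓ hbΓ) ha hb hnp
  have hsolX : Cfsg.IsPSolvable p φ.range :=
    isPSolvable_of_surjective p φ.rangeRestrict φ.rangeRestrict_surjective hsol₀
  have hp3 : p = 3 := SL2Three.eq_three_of_pSolvable hp2 φ.range _ hrange hS hsolX hφ
  refine ⟨hp3, ?_⟩
  subst hp3
  obtain ⟨Y, hYX, ⟨e⟩⟩ := SL2Three.exists_sl2_three_of_pSolvable φ.range _ hrange hS hsolX hφ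
  obtain ⟨K, L, hL, hK, ⟨e'⟩⟩ := SectionPull.exists_section_of_injective_hom
    (j.comp Γ₀.subtype) (hj.comp Γ₀.subtype_injective) φ Y hYX
  refine ⟨K, L, hL, ?_, ⟨e'.trans e⟩⟩
  intro k hk
  obtain ⟨γ, rfl⟩ := hK hk
  exact ⟨(γ : Γ), rfl⟩

end Cfsg.Agent.Lib.Helper1.QuadSL2
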