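import Mathlib
import Cfsg.Prelude.Def_LocalEven
import Cfsg.Agent.Lib.Helper1.OddStable1
import Cfsg.Agent.Lib.Helper1.NPStable1
import Cfsg.Agent.Lib.Helper3.PSolvable
set_option autoImplicit false
open scoped commutatorElement Pointwise IsMulCommutative
open Cfsg
universe u v w
namespace Cfsg.Agent.Lib.Helper1.OddStable

open Cfsg.Agent.Lib.Helper1.QuadSL2 Cfsg.Agent.Lib.Helper1.StableQuad Cfsg.Agent.Lib.Helper1.NPC
  Cfsg.Agent.Lib.Helper1.NPStable

variable {G : Type u} [Group G]

theorem isNormalizerPStable_of_odd [Finite G] {p : ℕ} [hp : Fact p.Prime] (hp2 : p ≠ 2)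
    (hsol : Cfsg.IsPSolvable p G) (hodd : Odd (Nat.card G)) : IsNormalizerPStable p G := by
  intro P hP g hg hquad
  have hPN : P ≤ Subgroup.normalizer (P : Set G) := Subgroup.le_normalizer
  haveI hP'n : (P.subgroupOf (Subgroup.normalizer (P : Set G))).Normal :=
    Subgroup.normal_in_normalizer
  have hP' : IsPGroup p (P.subgroupOf (Subgroup.normalizer (P : Set G))) := hP.comap_subtype
  have hst := isPStableOn_of_odd_of_isPGroup hp2
    (P.subgroupOf (Subgroup.normalizer (P : Set G))) hP'
    (PSolvSub.isPSolvable_subgroup hsol _) (odd_card_subgroup hodd _)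
  have hq : ⁅⁅P.subgroupOf (Subgroup.normalizer (P : Set G)),
      Subgroup.zpowers (⟨g, hg⟩ : ↥(Subgroup.normalizer (P : Set G)))⁆,
      Subgroup.zpowers (⟨g, hg⟩ : ↥(Subgroup.normalizer (P : Set G)))⁆ = ⊥ := by
    rw [quadE_iff]
    apply quadE_of_map (Subgroup.normalizer (P : Set G)).subtype (Subgroup.subtype_injective _)
    rw [Subgroup.subgroupOf_map_subtype, inf_eq_left.mpr hPN]
    exact (quadE_iff P g).mp hquad
  have h1 := hst ⟨g, hg⟩ hq
  have hC : Subgroup.centralizer
      ((P.subgroupOf (Subgroup.normalizer (P : Set G)) :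
        Subgroup ↥(Subgroup.normalizer (P : Set G))) : Set ↥(Subgroup.normalizer (P : Set G))) =
      (Subgroup.centralizer (P : Set G)).subgroupOf (Subgroup.normalizer (P : Set G)) := by
    ext x
    rw [Subgroup.mem_subgroupOf, Subgroup.mem_centralizer_iff, Subgroup.mem_centralizer_iff]
    constructor
    · intro h y hy
      have := h ⟨y, hPN hy⟩ (by
        show (⟨y, hPN hy⟩ : ↥(Subgroup.normalizer (P : Set G))) ∈
          P.subgroupOf (Subgroup.normalizer (P : Set G))
        rw [Subgroup.mem_subgroupOf]; exact hy)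
      exact congrArg Subtype.val this
    · intro h y hy
      have hy' : (y : G) ∈ P := by
        have : y ∈ P.subgroupOf (Subgroup.normalizer (P : Set G)) := hy
        rwa [Subgroup.mem_subgroupOf] at this
      exact Subtype.ext (h y hy')
  exact mem_pCore_quot_congr p _ _ hC _ h1

theorem s1464 [Finite G] [Group.IsSolvable G] (hodd : Odd (Nat.card G)) (p : ℕ) [Fact p.Prime]
    (hp : p ≠ 2) (P A : Subgroup G) (hP : IsPGroup p P)
    (hAN : A ≤ Subgroup.normalizer (P : Set G)) (hquad : ⁅⁅P, A⁆, A⁆ = ⊥) :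
    (A.subgroupOf (Subgroup.normalizer (P : Set G))).map
        (QuotientGroup.mk' ((Subgroup.centralizer (P : Set G)).subgroupOf (Subgroup.normalizer (P : Set G))))
      ≤ Cfsg.pCore p _ := by
  have hst := isNormalizerPStable_of_odd hp
    (Cfsg.Agent.Lib.Helper3.isPSolvable_of_isSolvable (G := G) p inferInstance) hodd
  rintro _ ⟨⟨g, hg⟩, hgA, rfl⟩
  rw [SetLike.mem_coe, Subgroup.mem_subgroupOf] at hgA
  apply hst P hP g hg
  rw [eq_bot_iff, ← hquad]
  have hz : Subgroup.zpowers g ≤ A := by rw [Subgroup.zpowers_le]; exact hgA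
  exact Subgroup.commutator_mono (Subgroup.commutator_mono le_rfl hz) hz

end Cfsg.Agent.Lib.Helper1.OddStable
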