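import Mathlib
import Cfsg.Agent.Lib.Helper1.OddStable2
import Cfsg.Agent.Lib.Helper1.StableQuad4
import Cfsg.Agent.Lib.Helper1.PLengthOne
import Cfsg.Agent.Lib.Helper1.FittingCentralizer
set_option autoImplicit false
open scoped commutatorElement Pointwise IsMulCommutative
open Cfsg
universe u v w
namespace Cfsg.Agent.Lib.Helper1.OddStable

open Cfsg.Agent.Lib.Helper1.QuadSL2 Cfsg.Agent.Lib.Helper1.StableQuad Cfsg.Agent.Lib.Helper1.NPC
  Cfsg.Agent.Lib.Helper1.NPStable

variable {G : Type u} [Group G]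

theorem isPStableOnSection_pCore_of_odd [Finite G] {p : ℕ} [hp : Fact p.Prime] (hp2 : p ≠ 2)
    (hsol : Cfsg.IsPSolvable p G) (hodd : Odd (Nat.card G)) :
    IsPStableOnSection p (pCore p G) ((frattini ↥(pCore p G)).map (pCore p G).subtype) := by
  haveI := pCore_normal (G := G) p
  apply isPStableOnSection_of_odd hp2 _ _ _ hsol hodd
  exact isElementaryAbelian_map_mk_of_frattini _ (pCore_isPGroup p) _ le_rfl

/-- in an odd-order solvable group with `O_{p'} = 1`, abelian normal subgroups of a Sylow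
`p`-subgroup lie in `O_p` -/
theorem le_pCore_of_abelian_normal_in_sylow_odd [Finite G] [Group.IsSolvable G]
    (hodd : Odd (Nat.card G)) {p : ℕ} [hp : Fact p.Prime] (hp2 : p ≠ 2)
    (hbot : pPrimeCore p G = ⊥) (S : Sylow p G) (B : Subgroup G)
    (hSB : (S : Subgroup G) ≤ Subgroup.normalizer (B : Set G))
    (hBc : ∀ x ∈ B, ∀ y ∈ B, x * y = y * x) : B ≤ pCore p G :=
  le_pCore_of_abelian_normal_in_sylow
    (isPStableOnSection_pCore_of_odd hp2
      (Cfsg.Agent.Lib.Helper3.isPSolvable_of_isSolvable (G := G) p inferInstance) hodd)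
    (Cfsg.Agent.Lib.Helper1.centralizer_pCore_le p hbot) S B hSB hBc

theorem sylow_two_eq_bot_of_odd [Finite G] (hodd : Odd (Nat.card G)) (S : Sylow 2 G) :
    (S : Subgroup G) = ⊥ := by
  haveI : Fact (Nat.Prime 2) := ⟨Nat.prime_two⟩
  obtain ⟨k, hk⟩ := IsPGroup.iff_card.mp S.2
  have h1 : Odd (Nat.card (S : Subgroup G)) := odd_card_subgroup hodd _
  rw [hk] at h1
  have hk0 : k = 0 := by
    by_contra h
    exact (Nat.not_even_iff_odd.mpr h1) ((Nat.even_pow.mpr ⟨even_two, h⟩))
  rw [hk0, pow_zero] at hk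
  exact Subgroup.card_eq_one.mp hk

theorem s1457 [Finite G] [Group.IsSolvable G] (hodd : Odd (Nat.card G)) (p : ℕ) [hp : Fact p.Prime]
    (S : Sylow p G) (A : Subgroup G) (hA : A ≤ (S : Subgroup G)) (hAc : IsMulCommutative A)
    (hAn : (S : Subgroup G) ≤ Subgroup.normalizer (A : Set G)) :
    A ≤ Cfsg.pPrimePCore p G := by
  by_cases hp2 : p = 2
  · subst hp2
    rw [sylow_two_eq_bot_of_odd hodd S] at hA
    exact hA.trans bot_le
  have hbot : pPrimeCore p (G ⧸ pPrimeCore p G) = ⊥ := pPrimeCore_quotient_eq_bot p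
  have hsurj : Function.Surjective (QuotientGroup.mk' (pPrimeCore p G)) :=
    QuotientGroup.mk'_surjective _
  have hB := le_pCore_of_abelian_normal_in_sylow_odd (G := G ⧸ pPrimeCore p G)
    (odd_card_quotient hodd _) hp2 hbot
    (S.mapSurjective hsurj) (A.map (QuotientGroup.mk' (pPrimeCore p G)))
    (by
      rw [Sylow.coe_mapSurjective]
      exact (Subgroup.map_mono hAn).trans (Subgroup.le_normalizer_map _))
    (by
      rintro _ ⟨x, hx, rfl⟩ _ ⟨y, hy, rfl⟩
      rw [← map_mul, ← map_mul]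
      congr 1
      exact congrArg Subtype.val (hAc.is_comm.comm ⟨x, hx⟩ ⟨y, hy⟩))
  unfold pPrimePCore
  rw [← Subgroup.map_le_iff_le_comap]
  exact hB

end Cfsg.Agent.Lib.Helper1.OddStable
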