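import Mathlib
import Cfsg.Prelude.Def_PLocal

/-! Quadratic action basics. -/
set_option autoImplicit false
universe u
open Cfsg
open scoped commutatorElement

namespace Cfsg.Agent.Lib.Helper1

variable {G : Type u} [Group G]

theorem mem_centralizer_zpowers_iff (a x : G) :
    x ∈ Subgroup.centralizer (Subgroup.zpowers a : Set G) ↔ a * x = x * a := by
  rw [Subgroup.mem_centralizer_iff]
  constructor
  · intro h
    exact h a (Subgroup.mem_zpowers a)
  · intro h y hy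
    obtain ⟨k, rfl⟩ := Subgroup.mem_zpowers_iff.mp hy
    exact ((show Commute a x from h).zpow_left k).eq

/-- `[V,H] ≤ V` when `H` normalizes `V`. -/
theorem commutator_le_of_le_normalizer (V H : Subgroup G) (hHV : H ≤ Subgroup.normalizer (V : Set G)) :
    ⁅V, H⁆ ≤ V := by
  rw [Subgroup.commutator_le]
  intro v hv h hh
  have := (Subgroup.mem_normalizer_iff.mp (hHV hh) v⁻¹).mp (V.inv_mem hv)
  -- ⁅v,h⁆ = v * (h * v⁻¹ * h⁻¹)
  have e : ⁅v, h⁆ = v * (h * v⁻¹ * h⁻¹) := by simp [commutatorElement_def, mul_assoc]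
  rw [e]
  exact V.mul_mem hv this

theorem quadratic_card_le [Finite G] {p : ℕ} (V : Subgroup G) (hV : IsElementaryAbelian p V) (a : G)
    (ha : a ∈ Subgroup.normalizer (V : Set G))
    (hq : ⁅⁅V, Subgroup.zpowers a⁆, Subgroup.zpowers a⁆ = ⊥) :
    Nat.card V ≤ Nat.card ↥(V ⊓ Subgroup.centralizer (Subgroup.zpowers a : Set G)) ^ 2 := by
  have hHV : Subgroup.zpowers a ≤ Subgroup.normalizer (V : Set G) := by
    rw [Subgroup.zpowers_le]; exact ha
  have hVH := commutator_le_of_le_normalizer V _ hHV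
  have hmem : ∀ v ∈ V, ⁅a, v⁆ ∈ ⁅V, Subgroup.zpowers a⁆ := by
    intro v hv
    rw [Subgroup.commutator_comm]
    exact Subgroup.commutator_mem_commutator (Subgroup.mem_zpowers a) hv
  have hVc := hV.1
  have hcomm : ∀ x ∈ V, ∀ y ∈ V, x * y = y * x := by
    intro x hx y hy
    have := mul_comm' (⟨x, hx⟩ : V) ⟨y, hy⟩
    exact congrArg Subtype.val this
  let f : V →* V := MonoidHom.mk' (fun v => ⟨⁅a, (v : G)⁆, hVH (hmem v v.2)⟩) (by
    intro v w
    apply Subtype.ext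
    show ⁅a, (v : G) * w⁆ = ⁅a, (v : G)⁆ * ⁅a, (w : G)⁆
    have h1 : ⁅a, (v : G) * w⁆ = ⁅a, (v : G)⁆ * ((v : G) * ⁅a, (w : G)⁆ * (v : G)⁻¹) := by
      simp only [commutatorElement_def]; group
    rw [h1, hcomm _ v.2 _ (hVH (hmem w w.2))]
    group)
  have hker : f.ker = (V ⊓ Subgroup.centralizer (Subgroup.zpowers a : Set G)).subgroupOf V := by
    ext v
    rw [MonoidHom.mem_ker, Subgroup.mem_subgroupOf, Subgroup.mem_inf, mem_centralizer_zpowers_iff]
    constructor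
    · intro h
      have h' : ⁅a, (v : G)⁆ = 1 := congrArg Subtype.val h
      rw [commutatorElement_eq_one_iff_mul_comm] at h'
      exact ⟨v.2, h'⟩
    · intro h
      apply Subtype.ext
      show ⁅a, (v : G)⁆ = 1
      rw [commutatorElement_eq_one_iff_mul_comm]
      exact h.2
  have hrange : f.range ≤ (V ⊓ Subgroup.centralizer (Subgroup.zpowers a : Set G)).subgroupOf V := by
    rintro _ ⟨v, rfl⟩
    rw [Subgroup.mem_subgroupOf, Subgroup.mem_inf, mem_centralizer_zpowers_iff]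
    refine ⟨hVH (hmem v v.2), ?_⟩
    show a * ⁅a, (v : G)⁆ = ⁅a, (v : G)⁆ * a
    have : ⁅⁅a, (v : G)⁆, a⁆ ∈ ⁅⁅V, Subgroup.zpowers a⁆, Subgroup.zpowers a⁆ :=
      Subgroup.commutator_mem_commutator (hmem v v.2) (Subgroup.mem_zpowers a)
    rw [hq, Subgroup.mem_bot, commutatorElement_eq_one_iff_mul_comm] at this
    exact this.symm
  have hcard : Nat.card ((V ⊓ Subgroup.centralizer (Subgroup.zpowers a : Set G)).subgroupOf V) =
      Nat.card ↥(V ⊓ Subgroup.centralizer (Subgroup.zpowers a : Set G)) :=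
    Nat.card_congr (Subgroup.subgroupOfEquivOfLe inf_le_left).toEquiv
  have h1 : Nat.card V = Nat.card f.ker * Nat.card f.range := by
    rw [← Subgroup.index_ker, Subgroup.card_mul_index]
  rw [h1, hker, hcard, sq]
  apply Nat.mul_le_mul_left
  rw [← hcard]
  exact Subgroup.card_le_of_le hrange

theorem quadratic_conj_pow (V H : Subgroup G)
    (hHV : H ≤ Subgroup.normalizer (V : Set G)) (hq : ⁅⁅V, H⁆, H⁆ = ⊥)
    (a : G) (ha : a ∈ H) (v : G) (hv : v ∈ V) (n : ℕ) :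
    a ^ n * v * (a ^ n)⁻¹ = ⁅a, v⁆ ^ n * v := by
  have hc : ⁅a, v⁆ ∈ ⁅V, H⁆ := by
    rw [Subgroup.commutator_comm]
    exact Subgroup.commutator_mem_commutator ha hv
  have hcomm : a * ⁅a, v⁆ = ⁅a, v⁆ * a := by
    have : ⁅⁅a, v⁆, a⁆ ∈ ⁅⁅V, H⁆, H⁆ := Subgroup.commutator_mem_commutator hc ha
    rw [hq, Subgroup.mem_bot, commutatorElement_eq_one_iff_mul_comm] at this
    exact this.symm
  induction n with
  | zero => simp
  | succ n ih =>
    have h1 : a ^ (n + 1) * v * (a ^ (n + 1))⁻¹ = a * (a ^ n * v * (a ^ n)⁻¹) * a⁻¹ := by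
      rw [pow_succ']; group
    rw [h1, ih]
    have h2 : a * (⁅a, v⁆ ^ n * v) * a⁻¹ = (a * ⁅a, v⁆ ^ n * a⁻¹) * (a * v * a⁻¹) := by group
    have h3 : a * ⁅a, v⁆ ^ n * a⁻¹ = ⁅a, v⁆ ^ n := by
      have : Commute a (⁅a, v⁆ ^ n) := (show Commute a ⁅a, v⁆ from hcomm).pow_right n
      rw [this.eq]; group
    have h4 : a * v * a⁻¹ = ⁅a, v⁆ * v := by simp [commutatorElement_def, mul_assoc]
    rw [h2, h3, h4, pow_succ, mul_assoc]

theorem quadratic_commutator_le_centralizer (V H : Subgroup G)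
    (hq : ⁅⁅V, H⁆, H⁆ = ⊥) : ⁅H, H⁆ ≤ Subgroup.centralizer (V : Set G) := by
  have h1 : ⁅⁅H, V⁆, H⁆ = ⊥ := by rw [Subgroup.commutator_comm H V]; exact hq
  have h3 : ⁅⁅H, H⁆, V⁆ = ⊥ := Subgroup.commutator_commutator_eq_bot_of_rotate h1 hq
  rw [Subgroup.commutator_eq_bot_iff_le_centralizer] at h3
  exact h3

theorem quadratic_pow_mem_centralizer {p : ℕ} (V H : Subgroup G) (hV : IsElementaryAbelian p V)
    (hHV : H ≤ Subgroup.normalizer (V : Set G)) (hq : ⁅⁅V, H⁆, H⁆ = ⊥) (a : G) (ha : a ∈ H) :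
    a ^ p ∈ Subgroup.centralizer (V : Set G) := by
  rw [Subgroup.mem_centralizer_iff]
  intro v hv
  have h := quadratic_conj_pow V H hHV hq a ha v hv p
  have hc : ⁅a, v⁆ ∈ V := by
    apply commutator_le_of_le_normalizer V H hHV
    rw [Subgroup.commutator_comm]
    exact Subgroup.commutator_mem_commutator ha hv
  rw [hV.2 _ hc, one_mul] at h
  calc v * a ^ p = (a ^ p * v * (a ^ p)⁻¹) * a ^ p := by rw [h]
    _ = a ^ p * v := by group

end Cfsg.Agent.Lib.Helper1
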