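import Mathlib

/-! Three subgroups lemma modulo a normalized subgroup; `[A,B] ⊴ ⟨A,B⟩`. -/
set_option autoImplicit false
universe u v
open scoped commutatorElement Pointwise

namespace Cfsg.Agent.Lib.Helper1
variable {G : Type u} [Group G]

theorem le_normalizer_commutator_right (A B : Subgroup G) :
    B ≤ Subgroup.normalizer ((⁅A, B⁆ : Subgroup G) : Set G) := by
  intro b hb
  -- suffices: conj b maps ⁅A,B⁆ into itself, for b and b⁻¹
  have key : ∀ c ∈ B, ∀ x ∈ ⁅A, B⁆, c * x * c⁻¹ ∈ ⁅A, B⁆ := by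
    intro c hc x hx
    have h1 : (⁅A, B⁆ : Subgroup G) ≤ (⁅A, B⁆ : Subgroup G).comap (MulAut.conj c).toMonoidHom := by
      rw [Subgroup.commutator_le]
      intro a ha b' hb'
      rw [Subgroup.mem_comap]
      show MulAut.conj c ⁅a, b'⁆ ∈ _
      rw [MulAut.conj_apply]
      have e : c * ⁅a, b'⁆ * c⁻¹ = ⁅a, c⁆⁻¹ * ⁅a, c * b'⁆ := by
        simp only [commutatorElement_def]; group
      rw [e]
      exact Subgroup.mul_mem _ (Subgroup.inv_mem _ (Subgroup.commutator_mem_commutator ha hc))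
        (Subgroup.commutator_mem_commutator ha (B.mul_mem hc hb'))
    have := h1 hx
    rw [Subgroup.mem_comap] at this
    exact this
  rw [Subgroup.mem_normalizer_iff]
  intro x
  constructor
  · exact key b hb x
  · intro h
    have := key b⁻¹ (B.inv_mem hb) _ h
    have e : b⁻¹ * (b * x * b⁻¹) * b⁻¹⁻¹ = x := by group
    rw [e] at this
    exact this

theorem le_normalizer_commutator_left (A B : Subgroup G) :
    A ≤ Subgroup.normalizer ((⁅A, B⁆ : Subgroup G) : Set G) := by
  rw [Subgroup.commutator_comm]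
  exact le_normalizer_commutator_right B A

theorem sup_le_normalizer_commutator (A B : Subgroup G) :
    A ⊔ B ≤ Subgroup.normalizer ((⁅A, B⁆ : Subgroup G) : Set G) :=
  sup_le (le_normalizer_commutator_left A B) (le_normalizer_commutator_right A B)

theorem commutator_le_sup (A B : Subgroup G) : ⁅A, B⁆ ≤ A ⊔ B := by
  rw [Subgroup.commutator_le]
  intro a ha b hb
  have ha' : a ∈ A ⊔ B := (le_sup_left : A ≤ A ⊔ B) ha
  have hb' : b ∈ A ⊔ B := (le_sup_right : B ≤ A ⊔ B) hb
  rw [commutatorElement_def]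
  exact Subgroup.mul_mem _ (Subgroup.mul_mem _ (Subgroup.mul_mem _ ha' hb') (Subgroup.inv_mem _ ha'))
    (Subgroup.inv_mem _ hb')

/-- Three subgroups lemma modulo a normal subgroup. -/
theorem commutator_commutator_le_of_rotate_normal (N A B C : Subgroup G) [hN : N.Normal]
    (h1 : ⁅⁅A, B⁆, C⁆ ≤ N) (h2 : ⁅⁅B, C⁆, A⁆ ≤ N) : ⁅⁅C, A⁆, B⁆ ≤ N := by
  let f := QuotientGroup.mk' N
  have hker : f.ker = N := QuotientGroup.ker_mk' N
  have e1 : ⁅⁅A.map f, B.map f⁆, C.map f⁆ = ⊥ := by
    rw [← Subgroup.map_commutator, ← Subgroup.map_commutator, eq_bot_iff, Subgroup.map_le_iff_le_comap]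
    show _ ≤ f.ker
    rw [hker]; exact h1
  have e2 : ⁅⁅B.map f, C.map f⁆, A.map f⁆ = ⊥ := by
    rw [← Subgroup.map_commutator, ← Subgroup.map_commutator, eq_bot_iff, Subgroup.map_le_iff_le_comap]
    show _ ≤ f.ker
    rw [hker]; exact h2
  have e3 := Subgroup.commutator_commutator_eq_bot_of_rotate e1 e2
  rw [← Subgroup.map_commutator, ← Subgroup.map_commutator, eq_bot_iff, Subgroup.map_le_iff_le_comap] at e3
  have e4 : (⊥ : Subgroup (G ⧸ N)).comap f = N := hker
  rw [e4] at e3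
  exact e3

theorem commutator_subgroupOf {L A B : Subgroup G} (hA : A ≤ L) (hB : B ≤ L) :
    ⁅A.subgroupOf L, B.subgroupOf L⁆ = (⁅A, B⁆ : Subgroup G).subgroupOf L := by
  apply Subgroup.map_injective L.subtype_injective
  rw [Subgroup.map_commutator, Subgroup.map_subgroupOf_eq_of_le hA, Subgroup.map_subgroupOf_eq_of_le hB,
    Subgroup.map_subgroupOf_eq_of_le]
  exact Subgroup.commutator_le.mpr (fun a ha b hb => by
    rw [commutatorElement_def]
    exact L.mul_mem (L.mul_mem (L.mul_mem (hA ha) (hB hb)) (L.inv_mem (hA ha))) (L.inv_mem (hB hb)))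

/-- Three subgroups lemma modulo a subgroup normalized by all three. -/
theorem commutator_commutator_le_of_rotate (N A B C : Subgroup G)
    (hA : A ≤ Subgroup.normalizer (N : Set G)) (hB : B ≤ Subgroup.normalizer (N : Set G))
    (hC : C ≤ Subgroup.normalizer (N : Set G))
    (h1 : ⁅⁅A, B⁆, C⁆ ≤ N) (h2 : ⁅⁅B, C⁆, A⁆ ≤ N) : ⁅⁅C, A⁆, B⁆ ≤ N := by
  obtain ⟨L, hL⟩ : ∃ L : Subgroup G, L = Subgroup.normalizer (N : Set G) := ⟨_, rfl⟩
  rw [← hL] at hA hB hC
  have hNL : N ≤ L := by rw [hL]; exact Subgroup.le_normalizer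
  have hNn : (N.subgroupOf L).Normal := by
    rw [hL]; exact Subgroup.normal_in_normalizer
  have hAB : ⁅A, B⁆ ≤ L := (commutator_le_sup A B).trans (sup_le hA hB)
  have hBC : ⁅B, C⁆ ≤ L := (commutator_le_sup B C).trans (sup_le hB hC)
  have hCA : ⁅C, A⁆ ≤ L := (commutator_le_sup C A).trans (sup_le hC hA)
  have key := commutator_commutator_le_of_rotate_normal (N.subgroupOf L) (A.subgroupOf L)
    (B.subgroupOf L) (C.subgroupOf L)
    (by rw [commutator_subgroupOf hA hB, commutator_subgroupOf hAB hC]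
        exact Subgroup.subgroupOf_mono L h1)
    (by rw [commutator_subgroupOf hB hC, commutator_subgroupOf hBC hA]
        exact Subgroup.subgroupOf_mono L h2)
  rw [commutator_subgroupOf hC hA, commutator_subgroupOf hCA hB] at key
  have hle : ⁅⁅C, A⁆, B⁆ ≤ L := (commutator_le_sup _ B).trans (sup_le hCA hB)
  intro x hx
  have := key (show (⟨x, hle hx⟩ : L) ∈ (⁅⁅C, A⁆, B⁆ : Subgroup G).subgroupOf L from hx)
  exact this

end Cfsg.Agent.Lib.Helper1
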