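import Mathlib
import Cfsg.Agent.Lib.Helper1.FrattiniHall
import Cfsg.Agent.Lib.Helper1.SZHelpers
import Cfsg.Agent.Lib.Helper1.FrobeniusBasic
open Pointwise

set_option autoImplicit false

namespace Cfsg.Agent.Lib.Helper1

universe u

variable {G : Type u} [Group G]

/-- minimal normal subgroup -/
def IsMinNormal (M : Subgroup G) : Prop :=
  M.Normal ∧ M ≠ ⊥ ∧ ∀ K : Subgroup G, K.Normal → K ≤ M → K = ⊥ ∨ K = M

theorem exists_minNormal_le [Finite G] (L : Subgroup G) (hLn : L.Normal) (hL : L ≠ ⊥) :
    ∃ M : Subgroup G, M ≤ L ∧ IsMinNormal M := by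
  let S : Set (Subgroup G) := {N | N.Normal ∧ N ≠ ⊥}
  have hS : S.Finite := Set.toFinite S
  obtain ⟨N, hNL, hNmin⟩ := hS.exists_le_minimal (show L ∈ S from ⟨hLn, hL⟩)
  refine ⟨N, hNL, hNmin.prop.1, hNmin.prop.2, ?_⟩
  intro M hMn hMN
  by_cases hM : M = ⊥
  · exact Or.inl hM
  · right
    exact le_antisymm hMN (hNmin.le_of_le ⟨hMn, hM⟩ hMN)

theorem IsMinNormal.map_equiv {M : Subgroup G} (hM : IsMinNormal M) (φ : G ≃* G) :
    IsMinNormal (M.map φ.toMonoidHom) := by
  obtain ⟨hn, h0, hmin⟩ := hM
  refine ⟨hn.map _ φ.surjective, ?_, ?_⟩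
  · intro h
    exact h0 ((Subgroup.map_eq_bot_iff_of_injective _ φ.injective).mp h)
  · intro K hKn hK
    have h1 : K.comap φ.toMonoidHom ≤ M := by
      intro x hx
      obtain ⟨m, hm, hmx⟩ := hK hx
      have : m = x := φ.injective hmx
      rw [← this]; exact hm
    have h2 : (K.comap φ.toMonoidHom).map φ.toMonoidHom = K :=
      Subgroup.map_comap_eq_self_of_surjective φ.surjective K
    rcases hmin _ (hKn.comap _) h1 with h | h
    · left; rw [← h2, h, Subgroup.map_bot]
    · right; rw [← h2, h]

theorem conj_smul_iSup {ι : Sort*} (g : G) (f : ι → Subgroup G) :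
    MulAut.conj g • (⨆ i, f i) = ⨆ i, MulAut.conj g • f i := by
  simp only [Subgroup.pointwise_smul_def]
  exact Subgroup.map_iSup _ _

theorem le_normalizer_sup {X S T : Subgroup G} (hS : X ≤ Subgroup.normalizer (S : Set G))
    (hT : X ≤ Subgroup.normalizer (T : Set G)) :
    X ≤ Subgroup.normalizer ((S ⊔ T : Subgroup G) : Set G) := by
  intro x hx
  apply mem_normalizer_of_conj_smul_eq
  rw [Subgroup.smul_sup, conj_smul_eq_of_mem_normalizer (hS hx),
    conj_smul_eq_of_mem_normalizer (hT hx)]

/-- Isaacs 2.6: a minimal normal subgroup normalises every subnormal subgroup. -/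
theorem minNormal_le_normalizer_aux : ∀ (n : ℕ) (G : Type u) [Group G] [Finite G],
    Nat.card G = n → ∀ H M : Subgroup G, H.IsSubnormal → IsMinNormal M →
    M ≤ Subgroup.normalizer (H : Set G) := by
  intro n
  induction n using Nat.strong_induction_on with
  | _ n ih =>
    intro G _ _ hn H M hH hM
    by_cases hHtop : H = ⊤
    · rw [hHtop]
      intro x _
      rw [Subgroup.mem_normalizer_iff]
      intro y; simp
    obtain ⟨N, hNn, hHN, hNlt⟩ := hH.exists_normal_and_le_and_lt_top_of_ne hHtop
    obtain ⟨hMn, hM0, hMmin⟩ := hM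
    rcases hMmin (M ⊓ N) inferInstance inf_le_left with h | h
    · -- M centralises N
      have h1 : ⁅M, N⁆ = ⊥ := by
        rw [eq_bot_iff, ← h]; exact Subgroup.commutator_le_inf M N
      have h2 : M ≤ Subgroup.centralizer (N : Set G) :=
        Subgroup.commutator_eq_bot_iff_le_centralizer.mp h1
      refine (h2.trans (Subgroup.centralizer_le hHN)).trans (Subgroup.centralizer_le_normalizer _)
    · have hMN : M ≤ N := by rw [← h]; exact inf_le_right
      have hNcard : Nat.card N < n := hn ▸ card_lt_of_ne_top N hNlt.ne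
      have hM'ne : M.subgroupOf N ≠ ⊥ := by
        intro h0
        apply hM0
        rw [eq_bot_iff]
        intro x hx
        have : (⟨x, hMN hx⟩ : N) ∈ M.subgroupOf N := Subgroup.mem_subgroupOf.mpr hx
        rw [h0, Subgroup.mem_bot] at this
        exact Subgroup.mem_bot.mpr (congrArg Subtype.val this)
      obtain ⟨M₀', hM₀'le, hM₀'⟩ := exists_minNormal_le (M.subgroupOf N) inferInstance hM'ne
      have hH'sn : (H.subgroupOf N).IsSubnormal := hH.subgroupOf
      -- each minimal normal subgroup of N normalises H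
      have key : ∀ X' : Subgroup N, IsMinNormal X' →
          X'.map N.subtype ≤ Subgroup.normalizer (H : Set G) := by
        intro X' hX'
        have h1 := ih _ hNcard N rfl (H.subgroupOf N) X' hH'sn hX'
        rw [← Subgroup.subgroupOf_normalizer_eq hHN] at h1
        rintro _ ⟨x, hx, rfl⟩
        exact Subgroup.mem_subgroupOf.mp (h1 hx)
      set M₀ : Subgroup G := M₀'.map N.subtype with hM₀def
      have hM₀M : M₀ ≤ M := by
        rintro _ ⟨x, hx, rfl⟩
        exact Subgroup.mem_subgroupOf.mp (hM₀'le hx)
      have hconj : ∀ g : G, MulAut.conj g • M₀ ≤ Subgroup.normalizer (H : Set G) := by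
        intro g
        have h1 := key _ (hM₀'.map_equiv (MulAut.conjNormal g))
        refine le_trans ?_ h1
        intro x hx
        rw [mem_conj_smul_iff] at hx
        obtain ⟨m, hm, hmx⟩ := hx
        refine ⟨(MulAut.conjNormal g) m, ⟨m, hm, rfl⟩, ?_⟩
        show ((MulAut.conjNormal g m : N) : G) = x
        rw [MulAut.conjNormal_apply]
        have : (m : G) = g⁻¹ * x * g := hmx
        rw [this]; group
      set J : Subgroup G := ⨆ g : G, MulAut.conj g • M₀ with hJ
      have hJn : J.Normal := by
        constructor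
        intro x hx g
        have h1 : MulAut.conj g • J ≤ J := by
          rw [hJ, conj_smul_iSup]
          apply iSup_le
          intro g'
          rw [← mul_smul, ← map_mul]
          exact le_iSup (fun g : G => MulAut.conj g • M₀) (g * g')
        apply h1
        rw [mem_conj_smul_iff]
        have e : g⁻¹ * (g * x * g⁻¹) * g = x := by group
        rw [e]; exact hx
      have hJM : J ≤ M := by
        apply iSup_le
        intro g
        calc MulAut.conj g • M₀ ≤ MulAut.conj g • M :=
              Subgroup.pointwise_smul_le_pointwise_smul_iff.mpr hM₀M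
          _ = M := Subgroup.Normal.conj_smul_eq_self g M
      have hJ0 : J ≠ ⊥ := by
        intro h0
        have h1 : M₀ ≤ J := by
          have := le_iSup (fun g : G => MulAut.conj g • M₀) 1
          simpa using this
        rw [h0, le_bot_iff] at h1
        apply hM₀'.2.1
        exact (Subgroup.map_eq_bot_iff_of_injective _ N.subtype_injective).mp h1
      rcases hMmin J hJn hJM with h' | h'
      · exact absurd h' hJ0
      · rw [← h']
        exact iSup_le hconj

theorem minNormal_le_normalizer [Finite G] {H M : Subgroup G} (hH : H.IsSubnormal)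
    (hM : IsMinNormal M) : M ≤ Subgroup.normalizer (H : Set G) :=
  minNormal_le_normalizer_aux _ G rfl H M hH hM

/-- Wielandt's join theorem. -/
theorem isSubnormal_sup_aux : ∀ (n : ℕ) (G : Type u) [Group G] [Finite G],
    Nat.card G = n → ∀ S T : Subgroup G, S.IsSubnormal → T.IsSubnormal → (S ⊔ T).IsSubnormal := by
  intro n
  induction n using Nat.strong_induction_on with
  | _ n ih =>
    intro G _ _ hn S T hS hT
    by_cases htriv : (⊤ : Subgroup G) = ⊥
    · have : S ⊔ T = ⊤ := by rw [htriv]; exact le_bot_iff.mp (htriv ▸ le_top)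
      rw [this]; exact Subgroup.IsSubnormal.top
    obtain ⟨M, -, hM⟩ := exists_minNormal_le (⊤ : Subgroup G) inferInstance htriv
    have hMn : M.Normal := hM.1
    have hlt : Nat.card (G ⧸ M) < n := hn ▸ card_quotient_lt_of_ne_bot M hM.2.1
    have h1 := ih _ hlt (G ⧸ M) rfl _ _ (hS.map (QuotientGroup.mk'_surjective M))
      (hT.map (QuotientGroup.mk'_surjective M))
    have h2 := h1.comap (QuotientGroup.mk' M)
    rw [← Subgroup.map_sup, Subgroup.comap_map_eq, QuotientGroup.ker_mk'] at h2
    refine Subgroup.IsSubnormal.step (S ⊔ T) _ le_sup_left h2 ?_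
    apply Subgroup.normal_subgroupOf_of_le_normalizer
    apply sup_le Subgroup.le_normalizer
    exact le_normalizer_sup (minNormal_le_normalizer hS hM) (minNormal_le_normalizer hT hM)

theorem isSubnormal_sup [Finite G] {S T : Subgroup G} (hS : S.IsSubnormal) (hT : T.IsSubnormal) :
    (S ⊔ T).IsSubnormal := isSubnormal_sup_aux _ G rfl S T hS hT

end Cfsg.Agent.Lib.Helper1
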