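import Mathlib
import Cfsg.Prelude.Def_PLocal
import Cfsg.Agent.Lib.Helper1.PCore
import Cfsg.Agent.Lib.Helper1.FrattiniAction
import Cfsg.Agent.Lib.Helper1.WielandtJoin
import Cfsg.Agent.Lib.Helper1.ThreeSubgroups
import Cfsg.Agent.Lib.Helper1.Quadratic

/-! Subnormal `p`-subgroups lie in `O_p`; commutators of subnormal subgroups with `[V,E₁,E₂]=1`. -/
set_option autoImplicit false
universe u v
open Cfsg
open scoped commutatorElement Pointwise

namespace Cfsg.Agent.Lib.Helper1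
variable {G : Type u} [Group G] {p : ℕ}

instance pCore_characteristic (p : ℕ) : (Cfsg.pCore p G).Characteristic := by
  rw [Subgroup.characteristic_iff_map_le]
  intro φ
  rw [Subgroup.map_le_iff_le_comap]
  apply sSup_le
  rintro N ⟨hNn, hNp⟩
  rw [← Subgroup.map_le_iff_le_comap]
  apply le_pCore (hNn.map _ φ.surjective)
  exact hNp.map _

theorem pCore_map_le_of_isSubnormal [Finite G] [hp : Fact p.Prime] {K : Subgroup G}
    (hK : K.IsSubnormal) : (Cfsg.pCore p K).map K.subtype ≤ Cfsg.pCore p G := by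
  induction hK with
  | top =>
    apply le_pCore
    · haveI := pCore_normal (G := (⊤ : Subgroup G)) p
      exact Subgroup.Normal.map inferInstance _ (by
        intro x; exact ⟨⟨x, Subgroup.mem_top x⟩, rfl⟩)
    · exact (pCore_isPGroup p).map _
  | step H K hHK hKsn hHn ih =>
    refine le_trans ?_ ih
    obtain ⟨F, hF⟩ : ∃ F : Subgroup G, F = (Cfsg.pCore p H).map H.subtype := ⟨_, rfl⟩
    rw [← hF]
    have hFH : F ≤ H := by rw [hF]; exact Subgroup.map_subtype_le _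
    have hFK : F ≤ K := hFH.trans hHK
    have hKN : K ≤ Subgroup.normalizer (F : Set G) := by
      rw [hF]
      exact ((Subgroup.normal_subgroupOf_iff_le_normalizer hHK).mp hHn).trans
        (normalizer_le_normalizer_map_characteristic H (Cfsg.pCore p H))
    have hFn : (F.subgroupOf K).Normal := Subgroup.normal_subgroupOf_of_le_normalizer hKN
    have hFp : IsPGroup p (F.subgroupOf K) := by
      have h1 : IsPGroup p F := by rw [hF]; exact (pCore_isPGroup p).map _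
      exact h1.of_equiv (Subgroup.subgroupOfEquivOfLe hFK).symm
    have h2 : F.subgroupOf K ≤ Cfsg.pCore p K := le_pCore hFn hFp
    calc F = (F.subgroupOf K).map K.subtype := (Subgroup.map_subgroupOf_eq_of_le hFK).symm
      _ ≤ (Cfsg.pCore p K).map K.subtype := Subgroup.map_mono h2

theorem le_pCore_of_isSubnormal_of_isPGroup [Finite G] [hp : Fact p.Prime] {A : Subgroup G}
    (hA : A.IsSubnormal) (hpA : IsPGroup p A) : A ≤ Cfsg.pCore p G := by
  refine le_trans ?_ (pCore_map_le_of_isSubnormal hA)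
  have h1 : Cfsg.pCore p A = ⊤ := by
    rw [eq_top_iff]
    apply le_pCore inferInstance
    exact hpA.of_equiv Subgroup.topEquiv.symm
  rw [h1, ← MonoidHom.range_eq_map, Subgroup.range_subtype]

end Cfsg.Agent.Lib.Helper1

namespace Cfsg.Agent.Lib.Helper1
variable {G : Type u} [Group G] {p : ℕ}

theorem commutator_pow_eq_one_of_successive_centralizing (V H : Subgroup G)
    (hV : Cfsg.IsElementaryAbelian p V) (hHV : H ≤ Subgroup.normalizer (V : Set G))
    (hf : H ⊓ Subgroup.centralizer (V : Set G) = ⊥) (E₁ E₂ : Subgroup G) (h₁ : E₁ ≤ H) (h₂ : E₂ ≤ H)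
    (hc : ⁅⁅V, E₁⁆, E₂⁆ = ⊥) : ∀ a ∈ ⁅E₁, E₂⁆, a ^ p = 1 := by
  have hE₁V : E₁ ≤ Subgroup.normalizer (V : Set G) := h₁.trans hHV
  have hE₂V : E₂ ≤ Subgroup.normalizer (V : Set G) := h₂.trans hHV
  obtain ⟨W, hW⟩ : ∃ W : Subgroup G, W = ⁅V, E₁⁆ := ⟨_, rfl⟩
  rw [← hW] at hc
  have hWV : W ≤ V := by rw [hW]; exact commutator_le_of_le_normalizer V E₁ hE₁V
  have hE₁W : E₁ ≤ Subgroup.normalizer (W : Set G) := by
    rw [hW]; exact le_normalizer_commutator_right V E₁
  have hVW : V ≤ Subgroup.normalizer (W : Set G) := by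
    rw [hW]; exact le_normalizer_commutator_left V E₁
  have hE₂W : E₂ ≤ Subgroup.centralizer (W : Set G) := by
    rw [Subgroup.le_centralizer_iff]
    exact Subgroup.commutator_eq_bot_iff_le_centralizer.mp hc
  have hE₂W' : E₂ ≤ Subgroup.normalizer (W : Set G) :=
    hE₂W.trans (Subgroup.centralizer_le_normalizer _)
  have hYW : ⁅⁅E₁, E₂⁆, W⁆ = ⊥ := by
    apply Subgroup.commutator_commutator_eq_bot_of_rotate
    · rw [Subgroup.commutator_comm E₂ W, hc, Subgroup.commutator_bot_left]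
    · rw [eq_bot_iff, ← hc]
      exact Subgroup.commutator_mono (commutator_le_of_le_normalizer W E₁ hE₁W) le_rfl
  have hYV : ⁅⁅E₁, E₂⁆, V⁆ ≤ W := by
    apply commutator_commutator_le_of_rotate W E₂ V E₁ hE₂W' hVW hE₁W
    · rw [hW, Subgroup.commutator_comm E₂ V]
      exact Subgroup.commutator_mono (commutator_le_of_le_normalizer V E₂ hE₂V) le_rfl
    · rw [← hW, hc]; exact bot_le
  have hYH : ⁅E₁, E₂⁆ ≤ H := (commutator_le_sup E₁ E₂).trans (sup_le h₁ h₂)
  have hq : ⁅⁅V, ⁅E₁, E₂⁆⁆, ⁅E₁, E₂⁆⁆ = ⊥ := by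
    rw [eq_bot_iff, ← hYW, Subgroup.commutator_comm ⁅E₁, E₂⁆ W]
    apply Subgroup.commutator_mono _ le_rfl
    rw [Subgroup.commutator_comm]; exact hYV
  intro a ha
  have h1 := quadratic_pow_mem_centralizer V _ hV (hYH.trans hHV) hq a ha
  have h2 : a ^ p ∈ H ⊓ Subgroup.centralizer (V : Set G) :=
    Subgroup.mem_inf.mpr ⟨H.pow_mem (hYH ha) p, h1⟩
  rw [hf, Subgroup.mem_bot] at h2
  exact h2

theorem commutator_le_pCore_of_successive_centralizing [Finite G] [hp : Fact p.Prime]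
    (V H : Subgroup G) (hV : Cfsg.IsElementaryAbelian p V)
    (hHV : H ≤ Subgroup.normalizer (V : Set G))
    (hf : H ⊓ Subgroup.centralizer (V : Set G) = ⊥) (E₁ E₂ : Subgroup G) (h₁ : E₁ ≤ H) (h₂ : E₂ ≤ H)
    (hs₁ : (E₁.subgroupOf H).IsSubnormal) (hs₂ : (E₂.subgroupOf H).IsSubnormal)
    (hc : ⁅⁅V, E₁⁆, E₂⁆ = ⊥) : ⁅E₁, E₂⁆ ≤ (Cfsg.pCore p H).map H.subtype := by
  have hpow := commutator_pow_eq_one_of_successive_centralizing V H hV hHV hf E₁ E₂ h₁ h₂ hc
  have hYH : ⁅E₁, E₂⁆ ≤ H := (commutator_le_sup E₁ E₂).trans (sup_le h₁ h₂)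
  have hY' : ⁅E₁.subgroupOf H, E₂.subgroupOf H⁆ = (⁅E₁, E₂⁆ : Subgroup G).subgroupOf H :=
    commutator_subgroupOf h₁ h₂
  have hpY : IsPGroup p (⁅E₁.subgroupOf H, E₂.subgroupOf H⁆ : Subgroup H) := by
    rw [hY']
    intro y
    refine ⟨1, ?_⟩
    apply Subtype.ext
    apply Subtype.ext
    rw [pow_one]
    exact hpow _ y.2
  have hX : (E₁.subgroupOf H ⊔ E₂.subgroupOf H).IsSubnormal := isSubnormal_sup hs₁ hs₂
  have hYX : ⁅E₁.subgroupOf H, E₂.subgroupOf H⁆ ≤ E₁.subgroupOf H ⊔ E₂.subgroupOf H :=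
    commutator_le_sup _ _
  have hYn : ((⁅E₁.subgroupOf H, E₂.subgroupOf H⁆ : Subgroup H).subgroupOf
      (E₁.subgroupOf H ⊔ E₂.subgroupOf H)).Normal :=
    Subgroup.normal_subgroupOf_of_le_normalizer (sup_le_normalizer_commutator _ _)
  have hYsn : (⁅E₁.subgroupOf H, E₂.subgroupOf H⁆ : Subgroup H).IsSubnormal :=
    Subgroup.IsSubnormal.trans hYX hYn.isSubnormal hX
  have h3 := le_pCore_of_isSubnormal_of_isPGroup hYsn hpY
  rw [hY'] at h3
  calc ⁅E₁, E₂⁆ = ((⁅E₁, E₂⁆ : Subgroup G).subgroupOf H).map H.subtype :=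
        (Subgroup.map_subgroupOf_eq_of_le hYH).symm
    _ ≤ _ := Subgroup.map_mono h3

end Cfsg.Agent.Lib.Helper1
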