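import Mathlib

set_option autoImplicit false

namespace Cfsg.Agent.Lib.Helper1

/-- If the relative index of `K` in `H` equals the index of `K`, then `G = H K`. -/
theorem mul_eq_of_relIndex_eq_index {G : Type*} [Group G] [Finite G] (H K : Subgroup G)
    (h2 : K.relIndex H = K.index) : ∀ g : G, ∃ x ∈ H, ∃ y ∈ K, g = x * y := by
  let f : H ⧸ K.subgroupOf H → G ⧸ K :=
    Quotient.map' (Subtype.val) (fun a b hab => by
      rw [QuotientGroup.leftRel_apply] at hab ⊢
      simpa [Subgroup.mem_subgroupOf] using hab)
  have hf : Function.Injective f := by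
    intro a b
    refine Quotient.inductionOn₂' a b ?_
    intro a b hab
    simp only [f, Quotient.map'_mk''] at hab
    rw [Quotient.eq''] at hab ⊢
    rw [QuotientGroup.leftRel_apply] at hab ⊢
    simpa [Subgroup.mem_subgroupOf] using hab
  have hcard : Nat.card (H ⧸ K.subgroupOf H) = Nat.card (G ⧸ K) := h2
  have hb : Function.Bijective f := by
    rw [Nat.bijective_iff_injective_and_card]
    exact ⟨hf, hcard⟩
  intro g
  obtain ⟨q, hq⟩ := hb.2 (QuotientGroup.mk g)
  revert hq
  refine Quotient.inductionOn' q ?_
  intro x hx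
  simp only [f, Quotient.map'_mk''] at hx
  have := QuotientGroup.eq.mp hx
  exact ⟨x, x.2, _, this, by group⟩

/-- Coprime indices: the index of the intersection is the product. -/
theorem index_inf_of_coprime {G : Type*} [Group G] [Finite G] (H K : Subgroup G)
    (h : H.index.Coprime K.index) : (H ⊓ K).index = H.index * K.index := by
  apply le_antisymm (Subgroup.index_inf_le)
  apply Nat.le_of_dvd
  · exact Nat.pos_of_ne_zero (Subgroup.index_ne_zero_of_finite)
  · exact h.mul_dvd_of_dvd_of_dvd (Subgroup.index_dvd_of_le inf_le_left)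
      (Subgroup.index_dvd_of_le inf_le_right)

/-- Coprime indices: `K.relIndex H = K.index`. -/
theorem relIndex_eq_index_of_coprime {G : Type*} [Group G] [Finite G] (H K : Subgroup G)
    (h : H.index.Coprime K.index) : K.relIndex H = K.index := by
  have h1 := index_inf_of_coprime H K h
  have := Subgroup.relIndex_mul_index (inf_le_left : H ⊓ K ≤ H)
  rw [h1, Subgroup.inf_relIndex_left, mul_comm] at this
  exact Nat.eq_of_mul_eq_mul_left (Nat.pos_of_ne_zero Subgroup.index_ne_zero_of_finite) this

/-- Coprime indices: `G = H K`. -/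
theorem mul_eq_of_coprime_index {G : Type*} [Group G] [Finite G] (H K : Subgroup G)
    (h : H.index.Coprime K.index) : ∀ g : G, ∃ x ∈ H, ∃ y ∈ K, g = x * y :=
  mul_eq_of_relIndex_eq_index H K (relIndex_eq_index_of_coprime H K h)

end Cfsg.Agent.Lib.Helper1
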