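import Mathlib
import Cfsg.Prelude.Def_SolvableStructure
import Cfsg.Agent.Lib.Helper1.Hall
import Cfsg.Agent.Lib.Helper1.Index
import Cfsg.Agent.Lib.Helper1.SubnormalSylow
import Cfsg.Agent.Lib.Helper1.FrattiniHall
set_option autoImplicit false
universe u v
open scoped Pointwise
namespace Cfsg.Agent.Lib.Helper1
variable {G : Type u} [Group G]

/-- Relative Hall conjugacy. -/
theorem hall_conj_in [Finite G] (M H K : Subgroup G) (hM : Group.IsSolvable M) (hH : H ≤ M)
    (hK : K ≤ M) (hcop : (Nat.card H).Coprime (H.relIndex M)) (hcard : Nat.card H = Nat.card K) :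
    ∃ m ∈ M, MulAut.conj m • H = K := by
  obtain ⟨m, hm⟩ := hall_conj (H.subgroupOf M) (K.subgroupOf M)
    (by rw [card_subgroupOf_of_le hH]; exact hcop)
    (by rw [card_subgroupOf_of_le hH, card_subgroupOf_of_le hK]; exact hcard)
  have := conj_smul_inf_of_subgroupOf m hm
  rw [inf_of_le_left hH, inf_of_le_left hK] at this
  exact ⟨m, m.2, this⟩

theorem relIndex_dvd_index_of_normal_right [Finite G] (D N : Subgroup G) [N.Normal] :
    D.relIndex N ∣ D.index := by
  rw [relIndex_eq_relIndex_sup_of_normal]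
  exact Subgroup.relIndex_dvd_index_of_le le_sup_left

theorem relIndex_dvd_index_of_le_normalizer [Finite G] (K D : Subgroup G)
    (hD : D ≤ Subgroup.normalizer (K : Set G)) : K.relIndex D ∣ K.index := by
  obtain ⟨M, hM⟩ : ∃ M : Subgroup G, M = Subgroup.normalizer (K : Set G) := ⟨_, rfl⟩
  rw [← hM] at hD
  have hKM : K ≤ M := by rw [hM]; exact Subgroup.le_normalizer
  have hn : (K.subgroupOf M).Normal := by rw [hM]; exact Subgroup.normal_in_normalizer
  have h1 : (K.subgroupOf M).relIndex (D.subgroupOf M) = K.relIndex D :=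
    Subgroup.relIndex_subgroupOf hD
  rw [← h1]
  refine dvd_trans (Subgroup.relIndex_dvd_index_of_normal _ _) ?_
  exact Subgroup.relIndex_dvd_index_of_le hKM

theorem isComplementSystem_conj [Finite G] {K : Nat.Primes → Subgroup G}
    (hK : Cfsg.IsComplementSystem K) (g : G) :
    Cfsg.IsComplementSystem (fun p => MulAut.conj g • K p) := by
  intro p
  beta_reduce
  rw [index_conj_smul]
  exact hK p

theorem complementSystem_card [Finite G] {K : Nat.Primes → Subgroup G}
    (hK : Cfsg.IsComplementSystem K) (p : Nat.Primes) :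
    Nat.card (K p) = Nat.card G / (p : ℕ) ^ (Nat.card G).factorization p := by
  have h := (K p).card_mul_index
  rw [hK p] at h
  exact (Nat.div_eq_of_eq_mul_left (pow_pos p.2.pos _) h.symm).symm

theorem complementSystem_card_coprime [Finite G] {K : Nat.Primes → Subgroup G}
    (hK : Cfsg.IsComplementSystem K) (p : Nat.Primes) : (Nat.card (K p)).Coprime p := by
  rw [complementSystem_card hK p]
  exact (Nat.coprime_ordCompl p.2 Nat.card_pos.ne').symm

theorem complementSystem_eq_top [Finite G] {K : Nat.Primes → Subgroup G}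
    (hK : Cfsg.IsComplementSystem K) (p : Nat.Primes) (hp : ¬ (p : ℕ) ∣ Nat.card G) : K p = ⊤ := by
  rw [← Subgroup.index_eq_one, hK p, Nat.factorization_eq_zero_of_not_dvd hp, pow_zero]

theorem complementSystem_iInf_index_coprime [Finite G] {L : Nat.Primes → Subgroup G}
    (hL : Cfsg.IsComplementSystem L) (T : Finset Nat.Primes) :
    ∀ q : Nat.Primes, q ∉ T → ((⨅ p ∈ T, L p).index).Coprime q := by
  classical
  induction T using Finset.induction_on with
  | empty =>
    intro q _
    simp
  | insert a T ha ih =>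
    intro q hq
    rw [Finset.iInf_insert]
    have hcop : (L a).index.Coprime (⨅ p ∈ T, L p).index := by
      rw [hL a]
      exact Nat.Coprime.pow_left _ (ih a ha).symm
    rw [index_inf_of_coprime _ _ hcop, hL a]
    apply Nat.Coprime.mul_left
    · apply Nat.Coprime.pow_left
      rw [Nat.coprime_primes a.2 q.2]
      intro h
      apply hq
      rw [← Subtype.ext h]
      exact Finset.mem_insert_self a T
    · exact ih q (fun h => hq (Finset.mem_insert_of_mem h))


theorem complementSystem_conj_mod_finset [Finite G] [Group.IsSolvable G]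
    (K L : Nat.Primes → Subgroup G)
    (hK : Cfsg.IsComplementSystem K) (hL : Cfsg.IsComplementSystem L)
    (N : Subgroup G) [hN : N.Normal] (hKL : ∀ p, K p ⊔ N = L p ⊔ N) (T : Finset Nat.Primes) :
    ∃ n ∈ N, ∀ p ∈ T, MulAut.conj n • K p = L p := by
  classical
  induction T using Finset.induction_on with
  | empty => exact ⟨1, N.one_mem, fun p hp => absurd hp (Finset.notMem_empty p)⟩
  | insert q T hq ih =>
    obtain ⟨n₀, hn₀, h₀⟩ := ih
    obtain ⟨K', hK'⟩ : ∃ K' : Subgroup G, K' = MulAut.conj n₀ • K q := ⟨_, rfl⟩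
    have hK'idx : K'.index = (q : ℕ) ^ (Nat.card G).factorization q := by
      rw [hK', index_conj_smul]; exact hK q
    have hK'card : Nat.card K' = Nat.card (L q) := by
      rw [hK', card_conj_smul, complementSystem_card hK, complementSystem_card hL]
    have hK'cop : (Nat.card K').Coprime q := by
      rw [hK'card]; exact complementSystem_card_coprime hL q
    have hK'N : K' ⊔ N = L q ⊔ N := by
      have h1 : MulAut.conj n₀ • (K q ⊔ N) = K q ⊔ N :=
        Subgroup.conj_smul_eq_self_of_mem (le_sup_right (a := K q) hn₀)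
      have h2 : MulAut.conj n₀ • N = N := Subgroup.Normal.conj_smul_eq_self n₀ N
      calc K' ⊔ N = MulAut.conj n₀ • K q ⊔ MulAut.conj n₀ • N := by rw [h2, hK']
        _ = MulAut.conj n₀ • (K q ⊔ N) := (Subgroup.smul_sup _ _ _).symm
        _ = K q ⊔ N := h1
        _ = L q ⊔ N := hKL q
    obtain ⟨M, hM⟩ : ∃ M, M = L q ⊔ N := ⟨_, rfl⟩
    have hK'M : K' ≤ M := by rw [hM, ← hK'N]; exact le_sup_left
    have hLM : L q ≤ M := by rw [hM]; exact le_sup_left
    have hrel : (Nat.card K').Coprime (K'.relIndex M) := by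
      apply Nat.Coprime.coprime_dvd_right (Subgroup.relIndex_dvd_index_of_le hK'M)
      rw [hK'idx]; exact Nat.Coprime.pow_right _ hK'cop
    obtain ⟨m, hmM, hm⟩ := hall_conj_in M K' (L q) inferInstance hK'M hLM hrel hK'card
    have hmem : m ∈ ((N ⊔ K' : Subgroup G) : Set G) := by
      rw [sup_comm, hK'N, ← hM]; exact hmM
    rw [Subgroup.normal_mul] at hmem
    obtain ⟨n₁, hn₁, k, hk, rfl⟩ := Set.mem_mul.mp hmem
    have hn₁K : MulAut.conj n₁ • K' = L q := by
      rw [← hm, map_mul, mul_smul, Subgroup.conj_smul_eq_self_of_mem hk]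
    obtain ⟨D, hD⟩ : ∃ D : Subgroup G, D = ⨅ p ∈ T, L p := ⟨_, rfl⟩
    have hDcop : D.index.Coprime q := by
      rw [hD]; exact complementSystem_iInf_index_coprime hL T q hq
    have hcopN : ((D.subgroupOf N).index).Coprime ((K'.subgroupOf N).index) := by
      show (D.relIndex N).Coprime (K'.relIndex N)
      apply Nat.Coprime.of_dvd (relIndex_dvd_index_of_normal_right D N)
        (relIndex_dvd_index_of_normal_right K' N)
      rw [hK'idx]; exact Nat.Coprime.pow_right _ hDcop
    obtain ⟨x, hx, y, hy, hxy⟩ :=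
      mul_eq_of_coprime_index (D.subgroupOf N) (K'.subgroupOf N) hcopN ⟨n₁, hn₁⟩
    rw [Subgroup.mem_subgroupOf] at hx hy
    have hn₁' : n₁ = (x : G) * (y : G) := by
      have := congrArg Subtype.val hxy
      simpa using this
    have hxK : MulAut.conj (x : G) • K' = L q := by
      rw [← hn₁K, hn₁', map_mul, mul_smul, Subgroup.conj_smul_eq_self_of_mem hy]
    refine ⟨(x : G) * n₀, N.mul_mem x.2 hn₀, ?_⟩
    intro p hp
    rw [map_mul, mul_smul]
    rcases Finset.mem_insert.mp hp with rfl | hpT
    · rw [← hK']; exact hxK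
    · rw [h₀ p hpT]
      apply Subgroup.conj_smul_eq_self_of_mem
      have : D ≤ L p := by rw [hD]; exact iInf₂_le p hpT
      exact this hx


theorem complementSystem_conj_mod [Finite G] [Group.IsSolvable G]
    (K L : Nat.Primes → Subgroup G)
    (hK : Cfsg.IsComplementSystem K) (hL : Cfsg.IsComplementSystem L)
    (N : Subgroup G) [hN : N.Normal] (hKL : ∀ p, K p ⊔ N = L p ⊔ N) :
    ∃ n ∈ N, ∀ p, MulAut.conj n • K p = L p := by
  classical
  obtain ⟨T, hT⟩ : ∃ T : Finset Nat.Primes, ∀ p : Nat.Primes, p ∈ T ↔ (p : ℕ) ∈ (Nat.card G).primeFactors :=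
    ⟨Finset.subtype Nat.Prime (Nat.card G).primeFactors, fun p => Finset.mem_subtype⟩
  obtain ⟨n, hn, h⟩ := complementSystem_conj_mod_finset K L hK hL N hKL T
  refine ⟨n, hn, fun p => ?_⟩
  by_cases hp : (p : ℕ) ∣ Nat.card G
  · apply h
    rw [hT]
    exact Nat.mem_primeFactors.mpr ⟨p.2, hp, Nat.card_pos.ne'⟩
  · rw [complementSystem_eq_top hK p hp, complementSystem_eq_top hL p hp]
    exact Subgroup.Normal.conj_smul_eq_self n ⊤

/-- S0543 -/
theorem complementSystem_conj [Finite G] [Group.IsSolvable G]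
    (K L : Nat.Primes → Subgroup G)
    (hK : Cfsg.IsComplementSystem K) (hL : Cfsg.IsComplementSystem L) :
    ∃ g : G, ∀ p : Nat.Primes, MulAut.conj g • K p = L p := by
  obtain ⟨n, -, h⟩ := complementSystem_conj_mod K L hK hL ⊤ (fun p => by rw [sup_top_eq, sup_top_eq])
  exact ⟨n, h⟩

end Cfsg.Agent.Lib.Helper1
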