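import Mathlib
import Cfsg.Agent.Lib.Helper1.FrattiniHall
import Cfsg.Agent.Lib.Helper1.Hall
import Cfsg.Agent.Lib.Helper1.GlaubermanRepl3
set_option autoImplicit false
open scoped Pointwise commutatorElement
universe u
namespace Cfsg.Agent.Lib.Helper1.GlaubermanRepl

variable {G : Type u} [Group G]

/-- class-two commutator calculus for elements of a subgroup -/
theorem sub_comm_mul_left {K : Subgroup G} (h : CommCentral K) {x y z : G} (hx : x ∈ K) (hy : y ∈ K)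
    (hz : z ∈ K) : ⁅x * y, z⁆ = ⁅x, z⁆ * ⁅y, z⁆ :=
  congrArg Subtype.val (h.comm_mul_left ⟨x, hx⟩ ⟨y, hy⟩ ⟨z, hz⟩)

theorem sub_comm_mul_right {K : Subgroup G} (h : CommCentral K) {x y z : G} (hx : x ∈ K) (hy : y ∈ K)
    (hz : z ∈ K) : ⁅x, y * z⁆ = ⁅x, y⁆ * ⁅x, z⁆ :=
  congrArg Subtype.val (h.comm_mul_right ⟨x, hx⟩ ⟨y, hy⟩ ⟨z, hz⟩)

theorem sub_comm_inv_right {K : Subgroup G} (h : CommCentral K) {x y : G} (hx : x ∈ K) (hy : y ∈ K) :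
    ⁅x, y⁻¹⁆ = ⁅x, y⁆⁻¹ := by
  have h1 := sub_comm_mul_right h hx hy (K.inv_mem hy)
  rw [mul_inv_cancel, commutatorElement_one_right] at h1
  exact (inv_eq_of_mul_eq_one_right h1.symm).symm

theorem mem_normalizer_of_conj_mem_of_finite [Finite G] {P : Subgroup G} {g : G}
    (h : ∀ x ∈ P, g * x * g⁻¹ ∈ P) : g ∈ Subgroup.normalizer (P : Set G) := by
  apply mem_normalizer_of_conj_smul_eq
  apply Subgroup.eq_of_le_of_card_ge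
  · rintro _ ⟨x, hx, rfl⟩
    exact h x hx
  · rw [card_conj_smul]

namespace Setup

variable {A B : Subgroup G} {b : G} (s : Setup A B b)
include s

theorem conj_comm_eq {a a' : G} (ha : a ∈ A) (ha' : a' ∈ A) :
    b⁻¹ * ⁅a, b⁻¹ * a' * b⁆ * b = ⁅b⁻¹ * a * b, a'⁆⁻¹ := by
  have hcc := s.commCentral
  obtain ⟨z, hz⟩ : ∃ z, z = (tau b a')⁻¹ * (b⁻¹ * tau b a' * b) := ⟨_, rfl⟩
  have hzmem : z ∈ A ⊓ conjA A b := hz ▸ s.conj_mem_mul_of_mem_B (s.tau_mem_B ha')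
  have hzH : z ∈ A ⊔ conjA A b := Subgroup.mem_sup_left hzmem.1
  have hbar : b⁻¹ * a * b ∈ A ⊔ conjA A b := Subgroup.mem_sup_right (conj_mem_conjA ha)
  have hbar' : b⁻¹ * a' * b ∈ A ⊔ conjA A b := Subgroup.mem_sup_right (conj_mem_conjA ha')
  have ha'H : a' ∈ A ⊔ conjA A b := Subgroup.mem_sup_left ha'
  have e1 : b⁻¹ * (b⁻¹ * a' * b) * b = z⁻¹ * (b⁻¹ * a' * b) * a'⁻¹ * (b⁻¹ * a' * b) := by
    rw [hz]; unfold tau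
    simp only [mul_inv_rev, inv_inv, mul_assoc, mul_inv_cancel_left, inv_mul_cancel_left]
  have e2 : b⁻¹ * ⁅a, b⁻¹ * a' * b⁆ * b = ⁅b⁻¹ * a * b, b⁻¹ * (b⁻¹ * a' * b) * b⁆ := by
    simp only [commutatorElement_def, mul_inv_rev, inv_inv, mul_assoc, mul_inv_cancel_left]
  rw [e2, e1]
  have c1 : ⁅b⁻¹ * a * b, z⁻¹⁆ = 1 := by
    rw [commutatorElement_eq_one_iff_mul_comm]
    exact (s.central z⁻¹ (Subgroup.inv_mem _ hzmem) _ hbar).symm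
  have c2 : ⁅b⁻¹ * a * b, b⁻¹ * a' * b⁆ = 1 := by
    rw [commutatorElement_eq_one_iff_mul_comm]
    exact s.conjA_comm _ (conj_mem_conjA ha) _ (conj_mem_conjA ha')
  rw [sub_comm_mul_right hcc hbar (Subgroup.mul_mem _ (Subgroup.mul_mem _ (Subgroup.inv_mem _ hzH) hbar')
      (Subgroup.inv_mem _ ha'H)) hbar',
    sub_comm_mul_right hcc hbar (Subgroup.mul_mem _ (Subgroup.inv_mem _ hzH) hbar')
      (Subgroup.inv_mem _ ha'H),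
    sub_comm_mul_right hcc hbar (Subgroup.inv_mem _ hzH) hbar', c1, c2,
    sub_comm_inv_right hcc hbar ha'H, one_mul, one_mul, mul_one]

theorem conj_g_eq {a a' : G} (ha : a ∈ A) (ha' : a' ∈ A) :
    b⁻¹ * ⁅b⁻¹ * a' * b, a⁆ * b = ⁅b⁻¹ * a * b, a'⁆ := by
  have h1 := s.conj_comm_eq ha ha'
  rw [← commutatorElement_inv (b⁻¹ * a' * b) a] at h1
  have h2 : b⁻¹ * ⁅b⁻¹ * a' * b, a⁆ * b = (b⁻¹ * ⁅b⁻¹ * a' * b, a⁆⁻¹ * b)⁻¹ := by group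
  rw [h2, h1, inv_inv]

theorem g_symm (hodd : ∃ m : ℕ, Odd m ∧ b ^ m = 1) {a a' : G} (ha : a ∈ A) (ha' : a' ∈ A) :
    ⁅b⁻¹ * a * b, a'⁆ = ⁅b⁻¹ * a' * b, a⁆ := by
  obtain ⟨c, hc⟩ : ∃ c, c = ⁅b⁻¹ * a * b, a'⁆ := ⟨_, rfl⟩
  obtain ⟨c', hc'⟩ : ∃ c', c' = ⁅b⁻¹ * a' * b, a⁆ := ⟨_, rfl⟩
  have h1 : b⁻¹ * c' * b = c := by rw [hc, hc']; exact s.conj_g_eq ha ha'
  have h2 : b⁻¹ * c * b = c' := by rw [hc, hc']; exact s.conj_g_eq ha' ha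
  rw [← hc, ← hc']
  have h3 : Commute (b ^ 2) c := by
    show b ^ 2 * c = c * b ^ 2
    have : b⁻¹ * (b⁻¹ * c * b) * b = c := by rw [h2, h1]
    rw [pow_two]
    calc (b * b) * c = (b * b) * (b⁻¹ * (b⁻¹ * c * b) * b) := by rw [this]
      _ = c * (b * b) := by simp only [mul_assoc, mul_inv_cancel_left]
  obtain ⟨m, ⟨j, rfl⟩, hm⟩ := hodd
  have h4 : (b ^ 2) ^ (j + 1) = b := by
    rw [← pow_mul]
    have : 2 * (j + 1) = (2 * j + 1) + 1 := by ring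
    rw [this, pow_succ, hm, one_mul]
  have h5 : Commute b c := by
    have := h3.pow_left (j + 1)
    rwa [h4] at this
  rw [← h2]
  have := h5.eq
  calc c = b⁻¹ * (b * c) := by group
    _ = b⁻¹ * (c * b) := by rw [this]
    _ = b⁻¹ * c * b := by group

theorem tau_comm (hodd : (∀ x ∈ B, ∀ y ∈ B, x * y = y * x) ∨ ∃ m : ℕ, Odd m ∧ b ^ m = 1)
    {a a' : G} (ha : a ∈ A) (ha' : a' ∈ A) : tau b a * tau b a' = tau b a' * tau b a := by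
  rcases hodd with h | h
  · exact h _ (s.tau_mem_B ha) _ (s.tau_mem_B ha')
  · have hg := s.g_symm h ha ha'
    have hcc := s.commCentral
    have hbar : b⁻¹ * a * b ∈ A ⊔ conjA A b := Subgroup.mem_sup_right (conj_mem_conjA ha)
    have hbar' : b⁻¹ * a' * b ∈ A ⊔ conjA A b := Subgroup.mem_sup_right (conj_mem_conjA ha')
    have haH : a ∈ A ⊔ conjA A b := Subgroup.mem_sup_left ha
    have ha'H : a' ∈ A ⊔ conjA A b := Subgroup.mem_sup_left ha'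
    -- c₁ = ⁅ā, a'⁆ central
    have hc1 : ⁅b⁻¹ * a * b, a'⁆ ∈ A ⊓ conjA A b := s.comm_mem _ hbar _ ha'H
    have hc2 : ⁅b⁻¹ * a' * b, a⁆ ∈ A ⊓ conjA A b := s.comm_mem _ hbar' _ haH
    have e1 : tau b a = a * (b⁻¹ * a * b)⁻¹ := by unfold tau; group
    have e2 : tau b a' = a' * (b⁻¹ * a' * b)⁻¹ := by unfold tau; group
    -- ā⁻¹ a' = ⁅ā, a'⁆⁻¹ a' ā⁻¹
    have k1 : (b⁻¹ * a * b)⁻¹ * a' = ⁅b⁻¹ * a * b, a'⁆⁻¹ * (a' * (b⁻¹ * a * b)⁻¹) := by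
      have hcen := s.central _ (Subgroup.inv_mem _ hc1) _ (Subgroup.inv_mem _ hbar)
      -- c⁻¹ * ā⁻¹ = ā⁻¹ * c⁻¹
      calc (b⁻¹ * a * b)⁻¹ * a' = (b⁻¹ * a * b)⁻¹ * ⁅b⁻¹ * a * b, a'⁆⁻¹ * ((b⁻¹ * a * b) * a' * (b⁻¹ * a * b)⁻¹) := by
            rw [commutatorElement_def]; group
        _ = ⁅b⁻¹ * a * b, a'⁆⁻¹ * (b⁻¹ * a * b)⁻¹ * ((b⁻¹ * a * b) * a' * (b⁻¹ * a * b)⁻¹) := by
            rw [hcen]
        _ = _ := by group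
    have k2 : (b⁻¹ * a' * b)⁻¹ * a = ⁅b⁻¹ * a' * b, a⁆⁻¹ * (a * (b⁻¹ * a' * b)⁻¹) := by
      have hcen := s.central _ (Subgroup.inv_mem _ hc2) _ (Subgroup.inv_mem _ hbar')
      calc (b⁻¹ * a' * b)⁻¹ * a = (b⁻¹ * a' * b)⁻¹ * ⁅b⁻¹ * a' * b, a⁆⁻¹ * ((b⁻¹ * a' * b) * a * (b⁻¹ * a' * b)⁻¹) := by
            rw [commutatorElement_def]; group
        _ = ⁅b⁻¹ * a' * b, a⁆⁻¹ * (b⁻¹ * a' * b)⁻¹ * ((b⁻¹ * a' * b) * a * (b⁻¹ * a' * b)⁻¹) := by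
            rw [hcen]
        _ = _ := by group
    have hcenA := s.central _ (Subgroup.inv_mem _ hc1) a haH
    have hcenA' := s.central _ (Subgroup.inv_mem _ hc2) a' ha'H
    have hAA := s.hA a ha a' ha'
    have hbb := s.conjA_comm _ (Subgroup.inv_mem _ (conj_mem_conjA ha)) _
      (Subgroup.inv_mem _ (conj_mem_conjA ha'))
    rw [e1, e2]
    calc a * (b⁻¹ * a * b)⁻¹ * (a' * (b⁻¹ * a' * b)⁻¹)
        = a * ((b⁻¹ * a * b)⁻¹ * a') * (b⁻¹ * a' * b)⁻¹ := by group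
      _ = a * (⁅b⁻¹ * a * b, a'⁆⁻¹ * (a' * (b⁻¹ * a * b)⁻¹)) * (b⁻¹ * a' * b)⁻¹ := by rw [k1]
      _ = (a * ⁅b⁻¹ * a * b, a'⁆⁻¹) * a' * ((b⁻¹ * a * b)⁻¹ * (b⁻¹ * a' * b)⁻¹) := by group
      _ = (⁅b⁻¹ * a * b, a'⁆⁻¹ * a) * a' * ((b⁻¹ * a * b)⁻¹ * (b⁻¹ * a' * b)⁻¹) := by rw [hcenA]
      _ = ⁅b⁻¹ * a * b, a'⁆⁻¹ * (a * a') * ((b⁻¹ * a * b)⁻¹ * (b⁻¹ * a' * b)⁻¹) := by group
      _ = ⁅b⁻¹ * a' * b, a⁆⁻¹ * (a' * a) * ((b⁻¹ * a' * b)⁻¹ * (b⁻¹ * a * b)⁻¹) := by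
          rw [hg, hAA, hbb]
      _ = (⁅b⁻¹ * a' * b, a⁆⁻¹ * a') * a * ((b⁻¹ * a' * b)⁻¹ * (b⁻¹ * a * b)⁻¹) := by group
      _ = (a' * ⁅b⁻¹ * a' * b, a⁆⁻¹) * a * ((b⁻¹ * a' * b)⁻¹ * (b⁻¹ * a * b)⁻¹) := by rw [hcenA']
      _ = a' * (⁅b⁻¹ * a' * b, a⁆⁻¹ * (a * (b⁻¹ * a' * b)⁻¹)) * (b⁻¹ * a * b)⁻¹ := by group
      _ = a' * ((b⁻¹ * a' * b)⁻¹ * a) * (b⁻¹ * a * b)⁻¹ := by rw [k2]
      _ = a' * (b⁻¹ * a' * b)⁻¹ * (a * (b⁻¹ * a * b)⁻¹) := by group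

end Setup

end Cfsg.Agent.Lib.Helper1.GlaubermanRepl
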