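import Mathlib
import Cfsg.Agent.Lib.Helper1.Coprime
import Cfsg.Agent.Lib.Helper1.CoprimeSylow
open Pointwise

set_option autoImplicit false

namespace Cfsg.Agent.Lib.Helper1

universe u

variable {G : Type u} [Group G]

theorem le_normalizer_commutator {S A B : Subgroup G}
    (hA : S ≤ Subgroup.normalizer (A : Set G)) (hB : S ≤ Subgroup.normalizer (B : Set G)) :
    S ≤ Subgroup.normalizer ((⁅A, B⁆ : Subgroup G) : Set G) := by
  rw [Subgroup.commutator_def, Subgroup.le_normalizer_closure_iff]
  rintro g hg _ ⟨a, ha, b, hb, rfl⟩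
  rw [conjugate_commutatorElement]
  apply Subgroup.subset_closure
  exact ⟨_, (Subgroup.mem_normalizer_iff.mp (hA hg) a).mp ha, _,
    (Subgroup.mem_normalizer_iff.mp (hB hg) b).mp hb, rfl⟩

/-- In a finite `p`-group situation, `[U, P] < U` for `U ≠ ⊥`. -/
theorem commutator_lt_of_isPGroup [Finite G] (p : ℕ) [Fact p.Prime] {U P : Subgroup G}
    (hU : IsPGroup p U) (hP : IsPGroup p P) (hPU : P ≤ Subgroup.normalizer (U : Set G))
    (hne : U ≠ ⊥) : ⁅U, P⁆ < U := by
  have hle : ⁅U, P⁆ ≤ U := Subgroup.le_normalizer_iff_commutator_le_left.mp hPU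
  refine lt_of_le_of_ne hle ?_
  intro heq
  apply hne
  set Γ : Subgroup G := U ⊔ P with hΓ
  have hΓp : IsPGroup p Γ := IsPGroup.to_sup_of_normal_left' hU hP hPU
  have hnil : Group.IsNilpotent Γ := hΓp.isNilpotent
  obtain ⟨n, hn⟩ := (Subgroup.isNilpotent_iff_lowerCentralSeries (S := Γ)).mp hnil
  have hall : ∀ m, U ≤ Γ.lowerCentralSeries m := by
    intro m
    induction m with
    | zero => exact le_sup_left
    | succ m ih =>
      rw [Subgroup.lowerCentralSeries_succ]
      calc U = ⁅U, P⁆ := heq.symm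
        _ ≤ ⁅Γ.lowerCentralSeries m, Γ⁆ := Subgroup.commutator_mono ih le_sup_right
  rw [eq_bot_iff, ← hn]
  exact hall n

theorem thompson_PxQ_aux [Finite G] (p : ℕ) [Fact p.Prime] (P Q : Subgroup G)
    (hP : IsPGroup p P) (hQ : (Nat.card Q).Coprime p)
    (hPQ : P ≤ Subgroup.centralizer (Q : Set G)) :
    ∀ (n : ℕ) (U : Subgroup G), Nat.card U = n → IsPGroup p U →
      P ≤ Subgroup.normalizer (U : Set G) → Q ≤ Subgroup.normalizer (U : Set G) →
      U ⊓ Subgroup.centralizer (P : Set G) ≤ Subgroup.centralizer (Q : Set G) → ⁅U, Q⁆ = ⊥ := by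
  intro n
  induction n using Nat.strong_induction_on with
  | _ n ih =>
    intro U hcard hU hPU hQU hC
    by_cases hne : U = ⊥
    · rw [hne, eq_bot_iff]
      exact Subgroup.commutator_le_left ⊥ Q
    set V : Subgroup G := ⁅U, P⁆ with hV
    have hVlt : V < U := commutator_lt_of_isPGroup p hU hP hPU hne
    have hQP : Q ≤ Subgroup.normalizer (P : Set G) := by
      intro q hq
      rw [Subgroup.mem_normalizer_iff]
      intro x
      constructor
      · intro hx
        have := Subgroup.mem_centralizer_iff.mp (hPQ hx) q hq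
        have e : q * x * q⁻¹ = x := by rw [this]; group
        rw [e]; exact hx
      · intro hx
        have := Subgroup.mem_centralizer_iff.mp (hPQ hx) q hq
        have e : x = q * x * q⁻¹ := by
          have h2 : q * (q * x * q⁻¹) = (q * x * q⁻¹) * q := this
          have : q * x = x * q := by
            calc q * x = q⁻¹ * (q * (q * x * q⁻¹)) * q := by group
              _ = q⁻¹ * ((q * x * q⁻¹) * q) * q := by rw [h2]
              _ = x * q := by group
          rw [this]; group
        rw [e]; exact hx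
    have hcardV : Nat.card V < n := by
      rw [← hcard]
      exact Set.ncard_lt_ncard hVlt (Set.toFinite _)
    have hVQ := ih (Nat.card V) hcardV V rfl (hU.to_le hVlt.le)
      (le_normalizer_commutator hPU Subgroup.le_normalizer)
      (le_normalizer_commutator hQU hQP)
      ((inf_le_inf_right _ hVlt.le).trans hC)
    -- three subgroups lemma
    have h1 : ⁅⁅P, Q⁆, U⁆ = ⊥ := by
      have : ⁅P, Q⁆ = ⊥ := Subgroup.commutator_eq_bot_iff_le_centralizer.mpr hPQ
      rw [this, eq_bot_iff]
      exact Subgroup.commutator_le_left ⊥ U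
    have h2 : ⁅⁅Q, U⁆, P⁆ = ⊥ := Subgroup.commutator_commutator_eq_bot_of_rotate hVQ h1
    have h3 : ⁅U, Q⁆ ≤ Subgroup.centralizer (P : Set G) := by
      rw [Subgroup.commutator_comm]
      exact Subgroup.commutator_eq_bot_iff_le_centralizer.mp h2
    have h4 : ⁅U, Q⁆ ≤ U := Subgroup.le_normalizer_iff_commutator_le_left.mp hQU
    have h5 : ⁅⁅U, Q⁆, Q⁆ = ⊥ :=
      Subgroup.commutator_eq_bot_iff_le_centralizer.mpr ((le_inf h4 h3).trans hC)
    obtain ⟨k, hk⟩ := IsPGroup.iff_card.mp hU
    have hcop : (Nat.card Q).Coprime (Nat.card U) := by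
      rw [hk]; exact Nat.Coprime.pow_right k hQ
    have hsolvU : Group.IsSolvable U := by
      have : Group.IsNilpotent U := hU.isNilpotent
      infer_instance
    rw [← coprime_commutator_commutator Q U hQU hcop (Or.inr hsolvU), h5]

theorem thompson_PxQ [Finite G] (p : ℕ) [Fact p.Prime]
    (P Q U : Subgroup G) (hP : IsPGroup p P) (hQ : (Nat.card Q).Coprime p) (hU : IsPGroup p U)
    (hPQ : P ≤ Subgroup.centralizer (Q : Set G))
    (hPU : P ≤ Subgroup.normalizer (U : Set G)) (hQU : Q ≤ Subgroup.normalizer (U : Set G))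
    (hC : U ⊓ Subgroup.centralizer (P : Set G) ≤ Subgroup.centralizer (Q : Set G)) :
    Q ≤ Subgroup.centralizer (U : Set G) := by
  have h := thompson_PxQ_aux p P Q hP hQ hPQ (Nat.card U) U rfl hU hPU hQU hC
  rw [Subgroup.commutator_comm] at h
  exact Subgroup.commutator_eq_bot_iff_le_centralizer.mp h

end Cfsg.Agent.Lib.Helper1
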