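import Mathlib
import Cfsg.Prelude.Def_Local
import Cfsg.Agent.Lib.Helper1.ThompsonPQ
import Cfsg.Agent.Lib.Helper1.PCore
import Cfsg.Agent.Lib.Helper1.PLengthOne
set_option autoImplicit false
open Cfsg
namespace Cfsg.Agent.Lib.Helper1

/-- If `Q` is a normal self-centralizing `p`-subgroup, a `p'`-element centralizing a `p`-subgroup
`P` and `C_Q(P)` is trivial (via Thompson's `P × Q` lemma). -/
theorem eq_one_of_coprime_of_centralizes {X : Type*} [Group X] [Finite X] {p : ℕ} [hp : Fact p.Prime]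
    (Q : Subgroup X) [hQn : Q.Normal] (hQ : IsPGroup p Q)
    (hc : Subgroup.centralizer (Q : Set X) ≤ Q) (P : Subgroup X) (hP : IsPGroup p P) (x : X)
    (hx : (orderOf x).Coprime p) (hxP : x ∈ Subgroup.centralizer (P : Set X))
    (hxC : x ∈ Subgroup.centralizer ((Q ⊓ Subgroup.centralizer (P : Set X) : Subgroup X) : Set X)) :
    x = 1 := by
  have hQtop : Subgroup.normalizer (Q : Set X) = ⊤ := Subgroup.normalizer_eq_top_iff.mpr hQn
  have h1 : Subgroup.zpowers x ≤ Subgroup.centralizer (Q : Set X) := by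
    apply thompson_PxQ p P (Subgroup.zpowers x) Q hP (by rw [Nat.card_zpowers]; exact hx) hQ
    · rw [Subgroup.le_centralizer_iff, Subgroup.zpowers_le]; exact hxP
    · rw [hQtop]; exact le_top
    · rw [hQtop]; exact le_top
    · rw [Subgroup.le_centralizer_iff, Subgroup.zpowers_le]; exact hxC
  have h2 : x ∈ Q := hc (h1 (Subgroup.mem_zpowers x))
  obtain ⟨k, hk⟩ := hQ ⟨x, h2⟩
  have h3 : x ^ p ^ k = 1 := by
    have := congrArg Subtype.val hk
    simpa using this
  have h4 : orderOf x ∣ p ^ k := orderOf_dvd_of_pow_eq_one h3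
  have h5 : orderOf x = 1 := Nat.eq_one_of_self_dvd_coprime_pow h4 hx
  exact orderOf_eq_one_iff.mp h5
where
  Nat.eq_one_of_self_dvd_coprime_pow {a p k : ℕ} (h : a ∣ p ^ k) (hc : a.Coprime p) : a = 1 := by
    have : a.Coprime (p ^ k) := Nat.Coprime.pow_right k hc
    exact Nat.eq_one_of_dvd_coprimes this dvd_rfl h

/-- Elements of `O_{p'}(H)` or of `C_H(O_p(H))` commute with every normal `p`-subgroup of `H`. -/
theorem commute_of_mem_pPrimeCore_or_centralizer {H : Type*} [Group H] [Finite H] {p : ℕ}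
    [hp : Fact p.Prime] (W : Subgroup H) [hWn : W.Normal] (hW : IsPGroup p W) (y : H)
    (hy : y ∈ pPrimeCore p H ∨ y ∈ Subgroup.centralizer (pCore p H : Set H)) :
    ∀ w ∈ W, w * y = y * w := by
  intro w hw
  rcases hy with hy | hy
  · have hTn : (pPrimeCore p H).Normal := inferInstance
    have h1 : y * w * y⁻¹ * w⁻¹ ∈ pPrimeCore p H := by
      have : y * w * y⁻¹ * w⁻¹ = y * (w * y⁻¹ * w⁻¹) := by group
      rw [this]
      exact Subgroup.mul_mem _ hy (hTn.conj_mem _ (Subgroup.inv_mem _ hy) w)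
    have h2 : y * w * y⁻¹ * w⁻¹ ∈ W :=
      Subgroup.mul_mem _ (hWn.conj_mem w hw y) (Subgroup.inv_mem _ hw)
    have h3 : pPrimeCore p H ⊓ W = ⊥ := by
      apply (Subgroup.disjoint_of_coprime_natCard ?_).eq_bot
      obtain ⟨k, hk⟩ := IsPGroup.iff_card.mp hW
      rw [hk]
      exact Nat.Coprime.pow_right k (pPrimeCore_card_coprime p)
    have h4 : y * w * y⁻¹ * w⁻¹ ∈ pPrimeCore p H ⊓ W := ⟨h1, h2⟩
    rw [h3, Subgroup.mem_bot] at h4
    have : y * w * y⁻¹ * w⁻¹ * (w * y) = w * y := by rw [h4, one_mul]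
    rw [← this]; group
  · exact Subgroup.mem_centralizer_iff.mp hy w (le_pCore hWn hW hw)

/-- Local subgroups of a group `X` with a normal self-centralizing `p`-subgroup `Q`: if
`C_X(P) ≤ H ≤ N_X(P)` and either `P ≤ H` or `H ≤ C_X(P)`, then `O_{p'}(H) = 1` and
`C_H(O_p(H)) ≤ O_p(H)`. -/
theorem local_constrained_aux {X : Type*} [Group X] [Finite X] {p : ℕ} [hp : Fact p.Prime]
    (Q : Subgroup X) [hQn : Q.Normal] (hQ : IsPGroup p Q)
    (hc : Subgroup.centralizer (Q : Set X) ≤ Q) (P H : Subgroup X) (hP : IsPGroup p P)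
    (hHN : H ≤ Subgroup.normalizer (P : Set X)) (hCH : Subgroup.centralizer (P : Set X) ≤ H)
    (hor : P ≤ H ∨ H ≤ Subgroup.centralizer (P : Set X)) :
    pPrimeCore p ↥H = ⊥ ∧
      Subgroup.centralizer (pCore p ↥H : Set ↥H) ≤ pCore p ↥H := by
  -- the key: elements of `O_{p'}(H)` or `C_H(O_p(H))` of order prime to `p` are trivial
  have key : ∀ y : ↥H, (orderOf y).Coprime p →
      (y ∈ pPrimeCore p ↥H ∨ y ∈ Subgroup.centralizer (pCore p ↥H : Set ↥H)) → y = 1 := by
    intro y hyo hy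
    have hyo' : (orderOf (y : X)).Coprime p := by rw [Subgroup.orderOf_coe]; exact hyo
    have hyP : (y : X) ∈ Subgroup.centralizer (P : Set X) := by
      rcases hor with hPH | hHC
      · have hPn : (P.subgroupOf H).Normal :=
          (Subgroup.normal_subgroupOf_iff_le_normalizer hPH).mpr hHN
        have hPp : IsPGroup p (P.subgroupOf H) := hP.comap_subtype
        have := commute_of_mem_pPrimeCore_or_centralizer (P.subgroupOf H) hPp y hy
        rw [Subgroup.mem_centralizer_iff]
        intro q hq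
        have h1 := this ⟨q, hPH hq⟩ (by rw [Subgroup.mem_subgroupOf]; exact hq)
        have h2 := congrArg Subtype.val h1
        exact h2
      · exact hHC y.2
    have hyC : (y : X) ∈ Subgroup.centralizer
        ((Q ⊓ Subgroup.centralizer (P : Set X) : Subgroup X) : Set X) := by
      have hQHn : (Q.subgroupOf H).Normal := inferInstance
      have hQHp : IsPGroup p (Q.subgroupOf H) := hQ.comap_subtype
      have := commute_of_mem_pPrimeCore_or_centralizer (Q.subgroupOf H) hQHp y hy
      rw [Subgroup.mem_centralizer_iff]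
      rintro q ⟨hqQ, hqC⟩
      have h1 := this ⟨q, hCH hqC⟩ (by rw [Subgroup.mem_subgroupOf]; exact hqQ)
      have h2 := congrArg Subtype.val h1
      exact h2
    have := eq_one_of_coprime_of_centralizes Q hQ hc P hP (y : X) hyo' hyP hyC
    exact Subtype.ext this
  constructor
  · rw [eq_bot_iff]
    intro y hy
    rw [Subgroup.mem_bot]
    apply key y ?_ (Or.inl hy)
    have h1 : orderOf y ∣ Nat.card (pPrimeCore p ↥H) := by
      have := orderOf_dvd_natCard (⟨y, hy⟩ : pPrimeCore p ↥H)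
      rwa [Subgroup.orderOf_mk] at this
    exact Nat.Coprime.coprime_dvd_left h1 (pPrimeCore_card_coprime p)
  · obtain ⟨K, hK⟩ : ∃ K, K = Subgroup.centralizer (pCore p ↥H : Set ↥H) := ⟨_, rfl⟩
    rw [← hK]
    have hKn : K.Normal := by rw [hK]; infer_instance
    apply le_pCore hKn
    intro k
    obtain ⟨a, m, hm, ho⟩ := Nat.exists_eq_pow_mul_and_not_dvd (orderOf_pos (k : ↥H)).ne' p
      hp.out.ne_one
    refine ⟨a, ?_⟩
    have hmem : (k : ↥H) ^ p ^ a ∈ K := K.pow_mem k.2 _
    have hord : (orderOf ((k : ↥H) ^ p ^ a)).Coprime p := by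
      have h1 : ((k : ↥H) ^ p ^ a) ^ m = 1 := by
        rw [← pow_mul, ← ho]; exact pow_orderOf_eq_one _
      have h2 : orderOf ((k : ↥H) ^ p ^ a) ∣ m := orderOf_dvd_of_pow_eq_one h1
      have h3 : m.Coprime p := ((Nat.Prime.coprime_iff_not_dvd hp.out).mpr hm).symm
      exact Nat.Coprime.coprime_dvd_left h2 h3
    have := key _ hord (Or.inr (hK ▸ hmem))
    apply Subtype.ext
    simpa using this

end Cfsg.Agent.Lib.Helper1
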