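import Mathlib
import Cfsg.Prelude.Def_Local
import Cfsg.Agent.Lib.Helper1.PConstrainedQuotient
import Cfsg.Agent.Lib.Helper3.UpperPSeries
set_option autoImplicit false
open Cfsg
namespace Cfsg.Agent.Lib.Helper1

/-- `C(O_p) ≤ O_p` is invariant under isomorphism. -/
theorem centralizer_pCore_le_of_equiv {A B : Type*} [Group A] [Group B] (p : ℕ) (e : A ≃* B)
    (h : Subgroup.centralizer (pCore p A : Set A) ≤ pCore p A) :
    Subgroup.centralizer (pCore p B : Set B) ≤ pCore p B := by
  have hmap := Helper3.pCore_map_equiv p e
  intro b hb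
  have h1 : e.symm b ∈ Subgroup.centralizer (pCore p A : Set A) := by
    rw [Subgroup.mem_centralizer_iff]
    intro y hy
    have hy' : e y ∈ pCore p B := by rw [← hmap]; exact ⟨y, hy, rfl⟩
    have h2 := Subgroup.mem_centralizer_iff.mp hb _ hy'
    apply e.injective
    rw [map_mul, map_mul, e.apply_symm_apply]
    exact h2
  have h3 := h h1
  rw [← hmap]
  exact ⟨e.symm b, h3, e.apply_symm_apply b⟩

theorem card_comap_of_surjective' {H H' : Type*} [Group H] [Group H'] [Finite H] (f : H →* H')
    (hf : Function.Surjective f) (T' : Subgroup H') :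
    Nat.card (T'.comap f) = Nat.card f.ker * Nat.card T' := by
  have : Finite H' := Finite.of_surjective f hf
  have h1 : Nat.card (T'.comap f) * (T'.comap f).index = Nat.card H := Subgroup.card_mul_index _
  have h2 : (T'.comap f).index = T'.index := Subgroup.index_comap_of_surjective T' hf
  have h3 : Nat.card T' * T'.index = Nat.card H' := Subgroup.card_mul_index _
  have h4 : Nat.card f.ker * f.ker.index = Nat.card H := Subgroup.card_mul_index _
  have h5 : f.ker.index = Nat.card H' := by
    rw [Subgroup.index_ker, MonoidHom.range_eq_top.mpr hf, Subgroup.card_top]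
  have hpos : 0 < T'.index := Nat.pos_of_ne_zero Subgroup.index_ne_zero_of_finite
  apply Nat.eq_of_mul_eq_mul_right hpos
  rw [← h2, h1, ← h4, h5, ← h3, h2]
  ring

/-- The `p'`-core of the source of a surjection with `p'`-kernel is the preimage of the `p'`-core of
the target. -/
theorem pPrimeCore_eq_comap_of_coprime_ker {H H' : Type*} [Group H] [Group H'] [Finite H] {p : ℕ}
    (f : H →* H') (hf : Function.Surjective f) (hker : (Nat.card f.ker).Coprime p) :
    pPrimeCore p H = (pPrimeCore p H').comap f := by
  have : Finite H' := Finite.of_surjective f hf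
  apply le_antisymm
  · rw [← Subgroup.map_le_iff_le_comap]
    apply le_pPrimeCore (Subgroup.Normal.map inferInstance f hf)
    exact Nat.Coprime.coprime_dvd_left (Subgroup.card_map_dvd _ f) (pPrimeCore_card_coprime p)
  · apply le_pPrimeCore (Subgroup.Normal.comap inferInstance f)
    rw [card_comap_of_surjective' f hf]
    exact Nat.Coprime.mul_left hker (pPrimeCore_card_coprime p)

/-- `p`-constraint lifts along surjections with `p'`-kernel. -/
theorem isPConstrained_of_surjective_of_coprime_ker {H H' : Type*} [Group H] [Group H'] [Finite H]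
    {p : ℕ} [hp : Fact p.Prime] (f : H →* H') (hf : Function.Surjective f)
    (hker : (Nat.card f.ker).Coprime p) (h' : IsPConstrained p H') : IsPConstrained p H := by
  have : Finite H' := Finite.of_surjective f hf
  rw [isPConstrained_iff_quotient,
    isPConstrained_iff_of_pPrimeCore_eq_bot (pPrimeCore_quotient_eq_bot p)] at h' ⊢
  obtain ⟨g, hg⟩ : ∃ g : H →* H' ⧸ pPrimeCore p H', g = (QuotientGroup.mk' (pPrimeCore p H')).comp f :=
    ⟨_, rfl⟩
  have hgs : Function.Surjective g := by
    rw [hg]; exact (QuotientGroup.mk'_surjective _).comp hf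
  have hgk : pPrimeCore p H = g.ker := by
    rw [pPrimeCore_eq_comap_of_coprime_ker f hf hker, hg]
    ext x
    rw [Subgroup.mem_comap, MonoidHom.mem_ker, MonoidHom.comp_apply, QuotientGroup.mk'_apply,
      QuotientGroup.eq_one_iff]
  have e : H ⧸ pPrimeCore p H ≃* H' ⧸ pPrimeCore p H' :=
    (QuotientGroup.quotientMulEquivOfEq hgk).trans (QuotientGroup.quotientKerEquivOfSurjective g hgs)
  exact centralizer_pCore_le_of_equiv p e.symm h'

end Cfsg.Agent.Lib.Helper1
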