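import Mathlib
import Cfsg.Prelude.Def_Local
import Cfsg.Agent.Lib.Helper1.PConstrainedLocal1
import Cfsg.Agent.Lib.Helper1.PConstrainedLocal2
import Cfsg.Agent.Lib.Helper1.CoprimeLift
set_option autoImplicit false
open Cfsg
open scoped Pointwise
namespace Cfsg.Agent.Lib.Helper1

theorem normalizer_map_mk_eq {G : Type*} [Group G] [Finite G] {p : ℕ} [hp : Fact p.Prime]
    (N : Subgroup G) [hNn : N.Normal] (hNc : (Nat.card N).Coprime p) (P : Subgroup G)
    (hP : IsPGroup p P) :
    Subgroup.normalizer ((P.map (QuotientGroup.mk' N) : Subgroup (G ⧸ N)) : Set (G ⧸ N)) =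
      (Subgroup.normalizer (P : Set G)).map (QuotientGroup.mk' N) := by
  have hker : ∀ x : G, (QuotientGroup.mk' N) x = 1 ↔ x ∈ N := by
    intro x
    rw [QuotientGroup.mk'_apply, QuotientGroup.eq_one_iff]
  apply le_antisymm
  · intro xbar hx
    obtain ⟨x, rfl⟩ := QuotientGroup.mk'_surjective N xbar
    have hconj : MulAut.conj x • P ≤ N ⊔ P := by
      rintro _ ⟨j, hj, rfl⟩
      have h1 : (QuotientGroup.mk' N) x * (QuotientGroup.mk' N) j *
          ((QuotientGroup.mk' N) x)⁻¹ ∈ P.map (QuotientGroup.mk' N) :=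
        (Subgroup.mem_normalizer_iff.mp hx _).mp ⟨j, hj, rfl⟩
      obtain ⟨j', hj', hjj'⟩ := h1
      have h2 : (x * j * x⁻¹) * j'⁻¹ ∈ N := by
        rw [← hker, map_mul, map_mul, map_mul, map_inv, map_inv, hjj']
        group
      have h3 : (MulAut.conj x).toMonoidHom j = ((x * j * x⁻¹) * j'⁻¹) * j' := by
        simp [MulAut.conj_apply]
      change (MulAut.conj x).toMonoidHom j ∈ N ⊔ P
      rw [h3]
      exact Subgroup.mul_mem_sup h2 hj'
    obtain ⟨y, hy, m, hm, rfl⟩ := exists_mul_mem_normalizer_of_conj_le_sup N hNc P hP x hconj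
    refine ⟨m, hm, ?_⟩
    rw [map_mul, (hker y).mpr hy, one_mul]
  · exact Subgroup.le_normalizer_map _

theorem centralizer_map_mk_eq {G : Type*} [Group G] [Finite G] {p : ℕ} [hp : Fact p.Prime]
    (N : Subgroup G) [hNn : N.Normal] (hNc : (Nat.card N).Coprime p) (P : Subgroup G)
    (hP : IsPGroup p P) :
    Subgroup.centralizer ((P.map (QuotientGroup.mk' N) : Subgroup (G ⧸ N)) : Set (G ⧸ N)) =
      (Subgroup.centralizer (P : Set G)).map (QuotientGroup.mk' N) := by
  have hker : ∀ x : G, (QuotientGroup.mk' N) x = 1 ↔ x ∈ N := by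
    intro x
    rw [QuotientGroup.mk'_apply, QuotientGroup.eq_one_iff]
  apply le_antisymm
  · intro xbar hx
    obtain ⟨x, rfl⟩ := QuotientGroup.mk'_surjective N xbar
    have hcomm : ∀ q ∈ P, x * q * x⁻¹ * q⁻¹ ∈ N := by
      intro q hq
      have h1 := Subgroup.mem_centralizer_iff.mp hx _ ⟨q, hq, rfl⟩
      rw [← hker, map_mul, map_mul, map_mul, map_inv, map_inv, ← h1]
      group
    obtain ⟨y, hy, c, hc, rfl⟩ := exists_mul_mem_centralizer_of_comm_mem N hNc P hP x hcomm
    refine ⟨c, hc, ?_⟩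
    rw [map_mul, (hker y).mpr hy, one_mul]
  · rintro _ ⟨c, hc, rfl⟩
    rw [Subgroup.mem_centralizer_iff]
    rintro _ ⟨q, hq, rfl⟩
    rw [← map_mul, ← map_mul, Subgroup.mem_centralizer_iff.mp hc q hq]

theorem isPConstrained_subgroup_of_map {G : Type*} [Group G] [Finite G] {p : ℕ} [hp : Fact p.Prime]
    (N : Subgroup G) [hNn : N.Normal] (hNc : (Nat.card N).Coprime p) (H : Subgroup G)
    (h : IsPConstrained p ↥(H.map (QuotientGroup.mk' N))) : IsPConstrained p ↥H := by
  apply isPConstrained_of_surjective_of_coprime_ker ((QuotientGroup.mk' N).subgroupMap H)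
    ((QuotientGroup.mk' N).subgroupMap_surjective H) ?_ h
  have hmem : ∀ k : ((QuotientGroup.mk' N).subgroupMap H).ker, ((k : ↥H) : G) ∈ N := by
    rintro ⟨k, hk⟩
    rw [MonoidHom.mem_ker] at hk
    have h1 := congrArg Subtype.val hk
    have h2 : (QuotientGroup.mk' N) (k : G) = 1 := h1
    rw [QuotientGroup.mk'_apply, QuotientGroup.eq_one_iff] at h2
    exact h2
  let φ : ((QuotientGroup.mk' N).subgroupMap H).ker →* N :=
    { toFun := fun k => ⟨((k : ↥H) : G), hmem k⟩
      map_one' := rfl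
      map_mul' := fun a b => rfl }
  have hφ : Function.Injective φ := by
    intro a b hab
    have := congrArg Subtype.val hab
    exact Subtype.ext (Subtype.ext this)
  exact Nat.Coprime.coprime_dvd_left (Subgroup.card_dvd_of_injective φ hφ) hNc

theorem isPConstrained_local {G : Type*} [Group G] [Finite G] {p : ℕ} [hp : Fact p.Prime]
    (hG : IsPConstrained p G) (P : Subgroup G) (hP : IsPGroup p P) :
    IsPConstrained p ↥(Subgroup.normalizer (P : Set G)) ∧
      IsPConstrained p ↥(Subgroup.centralizer (P : Set G)) := by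
  have hNc : (Nat.card (pPrimeCore p G)).Coprime p := pPrimeCore_card_coprime p
  rw [isPConstrained_iff_quotient,
    isPConstrained_iff_of_pPrimeCore_eq_bot (pPrimeCore_quotient_eq_bot p)] at hG
  obtain ⟨Pbar, hPbar⟩ : ∃ Pbar, Pbar = P.map (QuotientGroup.mk' (pPrimeCore p G)) := ⟨_, rfl⟩
  have hPbarp : IsPGroup p Pbar := by rw [hPbar]; exact hP.map _
  have hQ : IsPGroup p (pCore p (G ⧸ pPrimeCore p G)) := pCore_isPGroup p
  constructor
  · have h1 := local_constrained_aux (pCore p (G ⧸ pPrimeCore p G)) hQ hG Pbar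
      (Subgroup.normalizer (Pbar : Set (G ⧸ pPrimeCore p G))) hPbarp le_rfl
      (Subgroup.centralizer_le_normalizer _) (Or.inl Subgroup.le_normalizer)
    have h2 : IsPConstrained p ↥(Subgroup.normalizer (Pbar : Set (G ⧸ pPrimeCore p G))) :=
      (isPConstrained_iff_of_pPrimeCore_eq_bot h1.1).mpr h1.2
    rw [hPbar, normalizer_map_mk_eq _ hNc P hP] at h2
    exact isPConstrained_subgroup_of_map _ hNc _ h2
  · have h1 := local_constrained_aux (pCore p (G ⧸ pPrimeCore p G)) hQ hG Pbar
      (Subgroup.centralizer (Pbar : Set (G ⧸ pPrimeCore p G))) hPbarp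
      (Subgroup.centralizer_le_normalizer _) le_rfl (Or.inr le_rfl)
    have h2 : IsPConstrained p ↥(Subgroup.centralizer (Pbar : Set (G ⧸ pPrimeCore p G))) :=
      (isPConstrained_iff_of_pPrimeCore_eq_bot h1.1).mpr h1.2
    rw [hPbar, centralizer_map_mk_eq _ hNc P hP] at h2
    exact isPConstrained_subgroup_of_map _ hNc _ h2

end Cfsg.Agent.Lib.Helper1
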