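import Mathlib
import Cfsg.Prelude.Def_Local
import Cfsg.Agent.Lib.Helper1.PConstrainedLocal3
import Cfsg.Agent.Lib.Helper3.UpperPSeries
set_option autoImplicit false
open Cfsg
open scoped Pointwise
namespace Cfsg.Agent.Lib.Helper1

/-- Transfer of membership in `O_p(N(P)/C(P))` between `G` and `G/N` for a normal `p'`-subgroup `N`
and a `p`-subgroup `P`. -/
theorem transfer_pCore_mem {G : Type*} [Group G] [Finite G] {p : ℕ} [hp : Fact p.Prime]
    (N : Subgroup G) [hNn : N.Normal] (hNc : (Nat.card N).Coprime p) (P : Subgroup G)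
    (hP : IsPGroup p P) (n : G) (hn : n ∈ Subgroup.normalizer (P : Set G))
    (hn' : (QuotientGroup.mk' N) n ∈ Subgroup.normalizer
      ((P.map (QuotientGroup.mk' N) : Subgroup (G ⧸ N)) : Set (G ⧸ N))) :
    (QuotientGroup.mk' ((Subgroup.centralizer (P : Set G)).subgroupOf
        (Subgroup.normalizer (P : Set G)))) ⟨n, hn⟩ ∈ pCore p _ ↔
    (QuotientGroup.mk' ((Subgroup.centralizer ((P.map (QuotientGroup.mk' N) : Subgroup (G ⧸ N)) :
        Set (G ⧸ N))).subgroupOf (Subgroup.normalizer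
          ((P.map (QuotientGroup.mk' N) : Subgroup (G ⧸ N)) : Set (G ⧸ N)))))
      ⟨(QuotientGroup.mk' N) n, hn'⟩ ∈ pCore p _ := by
  obtain ⟨NG, hNG⟩ : ∃ NG, NG = Subgroup.normalizer (P : Set G) := ⟨_, rfl⟩
  obtain ⟨Pb, hPb⟩ : ∃ Pb, Pb = P.map (QuotientGroup.mk' N) := ⟨_, rfl⟩
  have hker : ∀ x : G, (QuotientGroup.mk' N) x = 1 ↔ x ∈ N := by
    intro x
    rw [QuotientGroup.mk'_apply, QuotientGroup.eq_one_iff]
  have hPN : P ⊓ N = ⊥ := by
    apply (Subgroup.disjoint_of_coprime_natCard ?_).eq_bot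
    obtain ⟨k, hk⟩ := (IsPGroup.iff_card.mp hP)
    rw [hk]
    exact (Nat.Coprime.pow_right k hNc).symm
  have hland : ∀ x : ↥(Subgroup.normalizer (P : Set G)),
      ((QuotientGroup.mk' N).comp (Subgroup.normalizer (P : Set G)).subtype) x ∈
        Subgroup.normalizer ((P.map (QuotientGroup.mk' N) : Subgroup (G ⧸ N)) : Set (G ⧸ N)) :=
    fun x => Subgroup.le_normalizer_map _ ⟨x, x.2, rfl⟩
  let r : ↥(Subgroup.normalizer (P : Set G)) →*
      ↥(Subgroup.normalizer ((P.map (QuotientGroup.mk' N) : Subgroup (G ⧸ N)) : Set (G ⧸ N))) :=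
    ((QuotientGroup.mk' N).comp (Subgroup.normalizer (P : Set G)).subtype).codRestrict _ hland
  have hr : Function.Surjective r := by
    rintro ⟨y, hy⟩
    rw [normalizer_map_mk_eq N hNc P hP] at hy
    obtain ⟨m, hm, rfl⟩ := hy
    exact ⟨⟨m, hm⟩, rfl⟩
  let g := (QuotientGroup.mk' ((Subgroup.centralizer ((P.map (QuotientGroup.mk' N) :
      Subgroup (G ⧸ N)) : Set (G ⧸ N))).subgroupOf (Subgroup.normalizer
        ((P.map (QuotientGroup.mk' N) : Subgroup (G ⧸ N)) : Set (G ⧸ N))))).comp r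
  have hg : Function.Surjective g := (QuotientGroup.mk'_surjective _).comp hr
  have hgk : (Subgroup.centralizer (P : Set G)).subgroupOf (Subgroup.normalizer (P : Set G)) =
      g.ker := by
    ext x
    rw [MonoidHom.mem_ker, Subgroup.mem_subgroupOf]
    change _ ↔ (QuotientGroup.mk' _) (r x) = 1
    rw [QuotientGroup.mk'_apply, QuotientGroup.eq_one_iff, Subgroup.mem_subgroupOf]
    change _ ↔ (QuotientGroup.mk' N) (x : G) ∈ Subgroup.centralizer _
    constructor
    · intro hx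
      rw [Subgroup.mem_centralizer_iff]
      rintro _ ⟨q, hq, rfl⟩
      rw [← map_mul, ← map_mul, Subgroup.mem_centralizer_iff.mp hx q hq]
    · intro hx
      rw [Subgroup.mem_centralizer_iff]
      intro q hq
      have h1 : (x : G) * q * (x : G)⁻¹ * q⁻¹ ∈ P :=
        P.mul_mem ((Subgroup.mem_normalizer_iff.mp x.2 q).mp hq) (P.inv_mem hq)
      have h2 : (x : G) * q * (x : G)⁻¹ * q⁻¹ ∈ N := by
        have h3 := Subgroup.mem_centralizer_iff.mp hx _ ⟨q, hq, rfl⟩
        rw [← hker, map_mul, map_mul, map_mul, map_inv, map_inv, ← h3]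
        group
      have h4 : (x : G) * q * (x : G)⁻¹ * q⁻¹ ∈ P ⊓ N := ⟨h1, h2⟩
      rw [hPN, Subgroup.mem_bot] at h4
      have : (x : G) * q * (x : G)⁻¹ * q⁻¹ * (q * x) = q * x := by rw [h4, one_mul]
      rw [← this]; group
  let ψ := (QuotientGroup.quotientMulEquivOfEq hgk).trans
    (QuotientGroup.quotientKerEquivOfSurjective g hg)
  have hψ : ψ ((QuotientGroup.mk' ((Subgroup.centralizer (P : Set G)).subgroupOf
        (Subgroup.normalizer (P : Set G)))) ⟨n, hn⟩) =
      (QuotientGroup.mk' ((Subgroup.centralizer ((P.map (QuotientGroup.mk' N) : Subgroup (G ⧸ N)) :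
        Set (G ⧸ N))).subgroupOf (Subgroup.normalizer
          ((P.map (QuotientGroup.mk' N) : Subgroup (G ⧸ N)) : Set (G ⧸ N)))))
      ⟨(QuotientGroup.mk' N) n, hn'⟩ := rfl
  rw [← hψ, ← Helper3.pCore_map_equiv p ψ]
  constructor
  · intro h
    exact ⟨_, h, rfl⟩
  · rintro ⟨a, ha, hab⟩
    have := ψ.injective hab
    rw [← this]
    exact ha

end Cfsg.Agent.Lib.Helper1
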