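import Mathlib
import Cfsg.Prelude.Def_Local
import Cfsg.Agent.Lib.Helper1.PStableQuotient1
set_option autoImplicit false
open Cfsg
open scoped Pointwise
namespace Cfsg.Agent.Lib.Helper1

theorem le_sup_of_pow_relIndex_of_not_dvd {G : Type*} [Group G] {p : ℕ} [hp : Fact p.Prime]
    (L N T : Subgroup G) (hN : ∃ a, N.relIndex L = p ^ a) (hT : ¬ p ∣ T.relIndex L) :
    L ≤ T ⊔ N := by
  rw [← Subgroup.relIndex_eq_one]
  have h1 : (T ⊔ N).relIndex L ∣ T.relIndex L := Subgroup.relIndex_dvd_of_le_left _ le_sup_left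
  have h2 : (T ⊔ N).relIndex L ∣ N.relIndex L := Subgroup.relIndex_dvd_of_le_left _ le_sup_right
  obtain ⟨a, ha⟩ := hN
  rw [ha] at h2
  obtain ⟨b, hb, hb'⟩ := (Nat.dvd_prime_pow hp.out).mp h2
  rcases Nat.eq_zero_or_pos b with rfl | hbpos
  · simpa using hb'
  · exfalso
    apply hT
    exact (dvd_pow_self p hbpos.ne').trans (hb' ▸ h1)

/-- Lifting a pair of `p`-subgroups of `G/N` (`N` a normal `p'`-subgroup) to `p`-subgroups of a common
`p`-subgroup `T` of `G`. -/
theorem exists_lift_pair {G : Type*} [Group G] [Finite G] {p : ℕ} [hp : Fact p.Prime]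
    (N : Subgroup G) [hNn : N.Normal] (Ab Pb : Subgroup (G ⧸ N))
    (hAb : IsPGroup p Ab) (hPb : IsPGroup p Pb)
    (hnorm : Ab ≤ Subgroup.normalizer (Pb : Set (G ⧸ N))) :
    ∃ T : Subgroup G, IsPGroup p T ∧
      (T ⊓ Ab.comap (QuotientGroup.mk' N)).map (QuotientGroup.mk' N) = Ab ∧
      (T ⊓ Pb.comap (QuotientGroup.mk' N)).map (QuotientGroup.mk' N) = Pb := by
  have hker : ∀ x : G, (QuotientGroup.mk' N) x = 1 ↔ x ∈ N := by
    intro x
    rw [QuotientGroup.mk'_apply, QuotientGroup.eq_one_iff]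
  have hsup : IsPGroup p (Ab ⊔ Pb : Subgroup (G ⧸ N)) := hAb.to_sup_of_normal_right' hPb hnorm
  obtain ⟨L, hL⟩ : ∃ L, L = (Ab ⊔ Pb).comap (QuotientGroup.mk' N) := ⟨_, rfl⟩
  have hLmap : L.map (QuotientGroup.mk' N) = Ab ⊔ Pb := by
    rw [hL, Subgroup.map_comap_eq_self_of_surjective (QuotientGroup.mk'_surjective N)]
  have hNrel : ∃ a, N.relIndex L = p ^ a := by
    obtain ⟨a, ha⟩ := IsPGroup.iff_card.mp hsup
    refine ⟨a, ?_⟩
    have h1 : N = (⊥ : Subgroup (G ⧸ N)).comap (QuotientGroup.mk' N) := by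
      ext x
      rw [Subgroup.mem_comap, Subgroup.mem_bot, hker]
    rw [h1, Subgroup.relIndex_comap, hLmap, Subgroup.relIndex_bot_left, ha]
  obtain ⟨S⟩ : Nonempty (Sylow p ↥L) := inferInstance
  obtain ⟨T, hT⟩ : ∃ T, T = (S : Subgroup ↥L).map L.subtype := ⟨_, rfl⟩
  have hTL : T ≤ L := by rw [hT]; exact Subgroup.map_subtype_le _
  have hTp : IsPGroup p T := by rw [hT]; exact S.isPGroup'.map _
  have hTrel : ¬ p ∣ T.relIndex L := by
    have : T.subgroupOf L = (S : Subgroup ↥L) := by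
      rw [hT]
      ext x
      rw [Subgroup.mem_subgroupOf]
      constructor
      · rintro ⟨y, hy, hyx⟩
        have : y = x := Subtype.ext hyx
        rw [← this]; exact hy
      · intro hx
        exact ⟨x, hx, rfl⟩
    unfold Subgroup.relIndex
    rw [this]
    exact S.not_dvd_index
  have hLle := le_sup_of_pow_relIndex_of_not_dvd L N T hNrel hTrel
  have key : ∀ B : Subgroup (G ⧸ N), B ≤ Ab ⊔ Pb →
      (T ⊓ B.comap (QuotientGroup.mk' N)).map (QuotientGroup.mk' N) = B := by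
    intro B hB
    apply le_antisymm
    · rintro _ ⟨x, ⟨_, hx⟩, rfl⟩
      exact hx
    · intro b hb
      obtain ⟨l, rfl⟩ := QuotientGroup.mk'_surjective N b
      have hl : l ∈ L := by rw [hL]; exact hB hb
      have hl2 : l ∈ ((T ⊔ N : Subgroup G) : Set G) := hLle hl
      rw [Subgroup.mul_normal] at hl2
      obtain ⟨t, ht, n, hn, rfl⟩ := hl2
      have hn1 := (hker n).mpr hn
      refine ⟨t, ⟨ht, ?_⟩, ?_⟩
      · change (QuotientGroup.mk' N) t ∈ B
        rw [map_mul, hn1, mul_one] at hb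
        exact hb
      · rw [map_mul, hn1, mul_one]
  exact ⟨T, hTp, key Ab le_sup_left, key Pb le_sup_right⟩

end Cfsg.Agent.Lib.Helper1
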