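import Mathlib
import Cfsg.Prelude.Def_Local
import Cfsg.Agent.Lib.Helper1.PStableQuotient2
set_option autoImplicit false
open Cfsg
open scoped Pointwise
namespace Cfsg.Agent.Lib.Helper1

theorem mem_normalizer_of_forall_conj_mem {G : Type*} [Group G] {A P : Subgroup G}
    (h : ∀ a ∈ A, ∀ x ∈ P, a * x * a⁻¹ ∈ P) {a : G} (ha : a ∈ A) :
    a ∈ Subgroup.normalizer (P : Set G) := by
  rw [Subgroup.mem_normalizer_iff]
  intro x
  constructor
  · exact h a ha x
  · intro hx
    have := h a⁻¹ (A.inv_mem ha) _ hx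
    have e : a⁻¹ * (a * x * a⁻¹) * a⁻¹⁻¹ = x := by group
    rw [e] at this
    exact this

theorem isPStable_iff_quotient {G : Type*} [Group G] [Finite G] {p : ℕ} [hp : Fact p.Prime]
    (hO : pCore p G ≠ ⊥) : IsPStable p G ↔ IsPStable p (G ⧸ pPrimeCore p G) := by
  have hNc : (Nat.card (pPrimeCore p G)).Coprime p := pPrimeCore_card_coprime p
  have hker : ∀ x : G, (QuotientGroup.mk' (pPrimeCore p G)) x = 1 ↔ x ∈ pPrimeCore p G := by
    intro x
    rw [QuotientGroup.mk'_apply, QuotientGroup.eq_one_iff]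
  have hsurj := QuotientGroup.mk'_surjective (pPrimeCore p G)
  have hbot : pPrimeCore p (G ⧸ pPrimeCore p G) = ⊥ := pPrimeCore_quotient_eq_bot p
  have hMbar : pPrimePCore p (G ⧸ pPrimeCore p G) = pCore p (G ⧸ pPrimeCore p G) :=
    pPrimePCore_eq_pCore_of_pPrimeCore_eq_bot p hbot
  have hmemM : ∀ x : G, x ∈ pPrimePCore p G ↔
      (QuotientGroup.mk' (pPrimeCore p G)) x ∈ pCore p (G ⧸ pPrimeCore p G) := fun x => Iff.rfl
  have hdisj : ∀ T : Subgroup G, IsPGroup p T → T ⊓ pPrimeCore p G = ⊥ := by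
    intro T hT
    apply (Subgroup.disjoint_of_coprime_natCard ?_).eq_bot
    obtain ⟨k, hk⟩ := (IsPGroup.iff_card.mp hT)
    rw [hk]
    exact (Nat.Coprime.pow_right k hNc).symm
  have hObar : pCore p (G ⧸ pPrimeCore p G) ≠ ⊥ := by
    intro hb
    apply hO
    have h1 : (pCore p G).map (QuotientGroup.mk' (pPrimeCore p G)) ≤ pCore p (G ⧸ pPrimeCore p G) :=
      le_pCore (Subgroup.Normal.map inferInstance _ hsurj) ((pCore_isPGroup p).map _)
    rw [hb, le_bot_iff, (Subgroup.map_eq_bot_iff _), QuotientGroup.ker_mk'] at h1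
    rw [eq_bot_iff, ← hdisj _ (pCore_isPGroup p)]
    exact le_inf le_rfl h1
  constructor
  · rintro ⟨hodd, -, hmain⟩
    refine ⟨hodd, hObar, ?_⟩
    intro Ab Pb hAb hPb hnorm hPle hnormal hcomm
    rw [hbot, bot_sup_eq] at hnormal
    rw [hMbar] at hPle
    have hnorm' : Ab ≤ Subgroup.normalizer (Pb : Set (G ⧸ pPrimeCore p G)) := by
      rw [Subgroup.normalizer_eq_top_iff.mpr hnormal]; exact le_top
    obtain ⟨T, hTp, hTA, hTP⟩ := exists_lift_pair (pPrimeCore p G) Ab Pb hAb hPb hnorm'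
    obtain ⟨A, hA⟩ : ∃ A, A = T ⊓ Ab.comap (QuotientGroup.mk' (pPrimeCore p G)) := ⟨_, rfl⟩
    obtain ⟨P, hPdef⟩ : ∃ P, P = T ⊓ Pb.comap (QuotientGroup.mk' (pPrimeCore p G)) := ⟨_, rfl⟩
    rw [← hA] at hTA
    rw [← hPdef] at hTP
    have hAT : A ≤ T := by rw [hA]; exact inf_le_left
    have hPT : P ≤ T := by rw [hPdef]; exact inf_le_left
    have hAp : IsPGroup p A := hTp.to_le hAT
    have hPp : IsPGroup p P := hTp.to_le hPT
    have hAmem : ∀ a ∈ A, (QuotientGroup.mk' (pPrimeCore p G)) a ∈ Ab := by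
      intro a ha; rw [hA] at ha; exact ha.2
    have hPmem : ∀ x ∈ P, (QuotientGroup.mk' (pPrimeCore p G)) x ∈ Pb := by
      intro a ha; rw [hPdef] at ha; exact ha.2
    have hconj : ∀ a ∈ A, ∀ x ∈ P, a * x * a⁻¹ ∈ P := by
      intro a ha x hx
      rw [hPdef]
      refine ⟨T.mul_mem (T.mul_mem (hAT ha) (hPT hx)) (T.inv_mem (hAT ha)), ?_⟩
      change (QuotientGroup.mk' (pPrimeCore p G)) (a * x * a⁻¹) ∈ Pb
      rw [map_mul, map_mul, map_inv]
      exact hnormal.conj_mem _ (hPmem x hx) _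
    have hPM : P ≤ pPrimePCore p G := by
      intro x hx
      rw [hmemM]
      exact hPle (hPmem x hx)
    have hNP : (pPrimeCore p G ⊔ P).Normal := by
      have : pPrimeCore p G ⊔ P = Pb.comap (QuotientGroup.mk' (pPrimeCore p G)) := by
        apply le_antisymm
        · apply sup_le
          · intro x hx
            rw [Subgroup.mem_comap, (hker x).mpr hx]
            exact Subgroup.one_mem _
          · intro x hx
            exact hPmem x hx
        · intro x hx
          rw [Subgroup.mem_comap, ← hTP] at hx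
          obtain ⟨y, hy, hyx⟩ := hx
          have h1 : x * y⁻¹ ∈ pPrimeCore p G := by
            rw [← hker, map_mul, map_inv, hyx, mul_inv_cancel]
          have : x = (x * y⁻¹) * y := by group
          rw [this]
          exact Subgroup.mul_mem_sup h1 hy
      rw [this]
      exact Subgroup.Normal.comap hnormal _
    have hcomm' : ⁅⁅P, A⁆, A⁆ = ⊥ := by
      rw [eq_bot_iff, ← hdisj T hTp]
      apply le_inf
      · have h1 : ⁅P, A⁆ ≤ T := by
          rw [Subgroup.commutator_le]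
          intro x hx a ha
          exact T.mul_mem (T.mul_mem (T.mul_mem (hPT hx) (hAT ha)) (T.inv_mem (hPT hx)))
            (T.inv_mem (hAT ha))
        rw [Subgroup.commutator_le]
        intro x hx a ha
        exact T.mul_mem (T.mul_mem (T.mul_mem (h1 hx) (hAT ha)) (T.inv_mem (h1 hx)))
          (T.inv_mem (hAT ha))
      · rw [← QuotientGroup.ker_mk' (pPrimeCore p G), ← Subgroup.map_eq_bot_iff,
          Subgroup.map_commutator, Subgroup.map_commutator, hTA, hTP]
        exact hcomm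
    have hres := hmain A P hAp hPp hconj hPM hNP hcomm'
    subst hTP
    rintro _ ⟨⟨abar, habN⟩, habA, rfl⟩
    have habA' : abar ∈ Ab := habA
    rw [← hTA] at habA'
    obtain ⟨a, ha, rfl⟩ := habA'
    have haN : a ∈ Subgroup.normalizer (P : Set G) := mem_normalizer_of_forall_conj_mem hconj ha
    have h2 := hres ⟨⟨a, haN⟩, ha, rfl⟩
    exact (transfer_pCore_mem (pPrimeCore p G) hNc P hPp a haN habN).mp h2
  · rintro ⟨hodd, -, hmain⟩
    refine ⟨hodd, hO, ?_⟩
    intro A P hA hP hconj hPle hnormal hcomm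
    have hres := hmain (A.map (QuotientGroup.mk' (pPrimeCore p G)))
      (P.map (QuotientGroup.mk' (pPrimeCore p G))) (hA.map _) (hP.map _) ?_ ?_ ?_ ?_
    · rintro _ ⟨⟨a, haN⟩, haA, rfl⟩
      have haN' : (QuotientGroup.mk' (pPrimeCore p G)) a ∈ Subgroup.normalizer
          ((P.map (QuotientGroup.mk' (pPrimeCore p G)) : Subgroup (G ⧸ pPrimeCore p G)) :
            Set (G ⧸ pPrimeCore p G)) := Subgroup.le_normalizer_map _ ⟨a, haN, rfl⟩
      have h2 := hres ⟨⟨(QuotientGroup.mk' (pPrimeCore p G)) a, haN'⟩, ⟨a, haA, rfl⟩, rfl⟩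
      exact (transfer_pCore_mem (pPrimeCore p G) hNc P hP a haN haN').mpr h2
    · rintro _ ⟨a, ha, rfl⟩ _ ⟨x, hx, rfl⟩
      exact ⟨a * x * a⁻¹, hconj a ha x hx, by simp⟩
    · rw [hMbar]
      rintro _ ⟨x, hx, rfl⟩
      exact (hmemM x).mp (hPle hx)
    · rw [hbot, bot_sup_eq]
      have : P.map (QuotientGroup.mk' (pPrimeCore p G)) =
          (pPrimeCore p G ⊔ P).map (QuotientGroup.mk' (pPrimeCore p G)) := by
        rw [Subgroup.map_sup]
        have : (pPrimeCore p G).map (QuotientGroup.mk' (pPrimeCore p G)) = ⊥ := by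
          rw [Subgroup.map_eq_bot_iff, QuotientGroup.ker_mk']
        rw [this, bot_sup_eq]
      rw [this]
      exact Subgroup.Normal.map hnormal _ hsurj
    · rw [← Subgroup.map_commutator, ← Subgroup.map_commutator, hcomm, Subgroup.map_bot]

end Cfsg.Agent.Lib.Helper1
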