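import Mathlib
import Cfsg.Agent.Lib.Helper1.PStableQuotient3
import Cfsg.Agent.Lib.Helper1.GlaubermanRepl4
set_option autoImplicit false
open scoped Pointwise commutatorElement
universe u
namespace Cfsg.Agent.Lib.Helper1.GlaubermanRepl

variable {G : Type u} [Group G]

namespace Setup

variable {A B : Subgroup G} {b : G} (s : Setup A B b)
include s

theorem Astar_comm (hodd : (∀ x ∈ B, ∀ y ∈ B, x * y = y * x) ∨ ∃ m : ℕ, Odd m ∧ b ^ m = 1) :
    ∀ x ∈ Astar A b, ∀ y ∈ Astar A b, x * y = y * x := by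
  intro x hx y hy
  obtain ⟨z, hz, a, ha, rfl⟩ := s.normal_form x hx
  obtain ⟨z', hz', a', ha', rfl⟩ := s.normal_form y hy
  have h1 := s.central z hz _ (Setup.tau_mem_H (b := b) ha')
  have h2 := s.central z' hz' _ (Setup.tau_mem_H (b := b) ha)
  have h3 := s.central z hz z' (Subgroup.mem_sup_left hz'.1)
  have h4 := s.tau_comm hodd ha ha'
  calc z * tau b a * (z' * tau b a') = z * (tau b a * z') * tau b a' := by group
    _ = z * (z' * tau b a) * tau b a' := by rw [h2]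
    _ = (z * z') * (tau b a * tau b a') := by group
    _ = (z' * z) * (tau b a' * tau b a) := by rw [h3, h4]
    _ = z' * (z * tau b a') * tau b a := by group
    _ = z' * (tau b a' * z) * tau b a := by rw [h1]
    _ = z' * tau b a' * (z * tau b a) := by group

theorem comm_le_Astar : ⁅B, B⁆ ≤ Astar A b :=
  s.comm_le_inf.trans (by unfold Astar; exact le_sup_left)

theorem inf_B_le : A ⊓ B ≤ A ⊓ conjA A b := by
  rintro a ⟨ha, haB⟩
  refine ⟨ha, ?_⟩
  change a ∈ conjA A b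
  rw [mem_conjA]
  have e : b * a * b⁻¹ = ⁅b, a⁆ * a := by rw [commutatorElement_def]; group
  rw [e]
  exact A.mul_mem (s.hBA (Subgroup.commutator_mem_commutator s.hb haB)) ha

theorem inf_B_lt [Finite G] (hbA : b ∉ Subgroup.normalizer (A : Set G)) :
    A ⊓ B < Astar A b ⊓ B := by
  have hle : A ⊓ B ≤ Astar A b ⊓ B :=
    le_inf (s.inf_B_le.trans (by unfold Astar; exact le_sup_left)) inf_le_right
  refine lt_of_le_of_ne hle ?_
  intro heq
  apply hbA
  have hb' : b⁻¹ ∈ Subgroup.normalizer (A : Set G) := by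
    apply mem_normalizer_of_conj_mem_of_finite
    intro a ha
    rw [inv_inv]
    have h1 : tau b a ∈ Astar A b ⊓ B := ⟨Setup.tau_mem_Astar ha, s.tau_mem_B ha⟩
    rw [← heq] at h1
    have e : b⁻¹ * a * b = (tau b a)⁻¹ * a := by unfold tau; group
    rw [e]
    exact A.mul_mem (A.inv_mem h1.1) ha
  have := Subgroup.inv_mem _ hb'
  rwa [inv_inv] at this

theorem Astar_le_normalizer : Astar A b ≤ Subgroup.normalizer (A : Set G) :=
  s.Astar_le_H.trans (sup_le Subgroup.le_normalizer s.conjA_le_normalizer)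

theorem Astar_inf_B_lt (hbA : b ∉ Subgroup.normalizer (A : Set G)) : Astar A b ⊓ B < B := by
  refine lt_of_le_of_ne inf_le_right ?_
  intro heq
  apply hbA
  apply s.Astar_le_normalizer
  have : b ∈ Astar A b ⊓ B := by rw [heq]; exact s.hb
  exact this.1

theorem H_le_normalizer_Astar : A ⊔ conjA A b ≤ Subgroup.normalizer (Astar A b : Set G) := by
  intro h hh
  apply mem_normalizer_of_forall_conj_mem (A := A ⊔ conjA A b) _ hh
  intro h hh x hx
  have e : h * x * h⁻¹ = ⁅h, x⁆ * x := by rw [commutatorElement_def]; group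
  rw [e]
  refine Subgroup.mul_mem _ ?_ hx
  have := s.comm_mem h hh x (s.Astar_le_H hx)
  unfold Astar
  exact Subgroup.mem_sup_left this

theorem conj_mem_Astar {x : G} (hx : x ∈ Astar A b) : b⁻¹ * x * b ∈ Astar A b := by
  obtain ⟨z, hz, a, ha, rfl⟩ := s.normal_form x hx
  have h1 := s.conj_mem_inf hz
  have h2 := s.conj_mem_mul_of_mem_B (s.tau_mem_B ha)
  have e : b⁻¹ * (z * tau b a) * b =
      (b⁻¹ * z * b) * (tau b a * ((tau b a)⁻¹ * (b⁻¹ * tau b a * b))) := by group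
  rw [e]
  refine Subgroup.mul_mem _ ?_ (Subgroup.mul_mem _ (Setup.tau_mem_Astar ha) ?_)
  · unfold Astar; exact Subgroup.mem_sup_left h1
  · unfold Astar; exact Subgroup.mem_sup_left h2

theorem b_mem_normalizer_Astar [Finite G] : b ∈ Subgroup.normalizer (Astar A b : Set G) := by
  have hb' : b⁻¹ ∈ Subgroup.normalizer (Astar A b : Set G) := by
    apply mem_normalizer_of_conj_mem_of_finite
    intro x hx
    rw [inv_inv]
    exact s.conj_mem_Astar hx
  have := Subgroup.inv_mem _ hb'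
  rwa [inv_inv] at this

/-- exponent: if `e` is odd and kills `A`, it kills `A*`. -/
theorem pow_eq_one_of_mem_Astar (hodd : (∀ x ∈ B, ∀ y ∈ B, x * y = y * x) ∨ ∃ m : ℕ, Odd m ∧ b ^ m = 1)
    {e : ℕ} (he : Odd e) (hAe : ∀ a ∈ A, a ^ e = 1) :
    ∀ x ∈ Astar A b, x ^ e = 1 := by
  intro x hx
  obtain ⟨z, hz, a, ha, rfl⟩ := s.normal_form x hx
  have hcm : Commute z (tau b a) := s.central z hz _ (Setup.tau_mem_H (b := b) ha)
  rw [hcm.mul_pow, hAe z hz.1, one_mul]
  have hcc := s.commCentral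
  have haH : a ∈ A ⊔ conjA A b := Subgroup.mem_sup_left ha
  have hbar : (b⁻¹ * a * b)⁻¹ ∈ A ⊔ conjA A b :=
    Subgroup.inv_mem _ (Subgroup.mem_sup_right (conj_mem_conjA ha))
  have e1 : tau b a = a * (b⁻¹ * a * b)⁻¹ := by unfold tau; group
  have h1 := hcc.mul_pow_eq ⟨a, haH⟩ ⟨(b⁻¹ * a * b)⁻¹, hbar⟩ e
  have h2 := congrArg Subtype.val h1
  simp only [Subgroup.coe_mul, Subgroup.coe_pow] at h2
  rw [e1, h2, hAe a ha, one_mul]
  have h3 : ((b⁻¹ * a * b)⁻¹) ^ e = 1 := by
    rw [inv_pow, inv_eq_one]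
    have : (b⁻¹ * a * b) ^ e = b⁻¹ * a ^ e * b := by
      have := conj_pow (a := b⁻¹) (b := a) (i := e)
      rwa [inv_inv] at this
    rw [this, hAe a ha]; group
  rw [h3, one_mul]
  have h4 : ((⁅(⟨(b⁻¹ * a * b)⁻¹, hbar⟩ : ↥(A ⊔ conjA A b)), ⟨a, haH⟩⁆ : ↥(A ⊔ conjA A b)) : G) ∈
      A ⊓ conjA A b := s.comm_mem _ hbar _ haH
  obtain ⟨k, hk⟩ : e ∣ e.choose 2 := by
    obtain ⟨j, rfl⟩ := he
    rw [Nat.choose_two_right]
    have : (2 * j + 1) * (2 * j + 1 - 1) / 2 = (2 * j + 1) * j := by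
      have : 2 * j + 1 - 1 = 2 * j := by omega
      rw [this, ← mul_assoc, mul_comm (2 * j + 1) 2, mul_assoc, Nat.mul_div_cancel_left _ (by norm_num)]
    rw [this]
    exact dvd_mul_right _ _
  rw [hk, pow_mul]
  have h5 := hAe _ h4.1
  rw [h5, one_pow]

end Setup

end Cfsg.Agent.Lib.Helper1.GlaubermanRepl
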