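import Mathlib
import Cfsg.Agent.Lib.Helper1.GlaubermanRepl5
set_option autoImplicit false
open scoped Pointwise commutatorElement
universe u
namespace Cfsg.Agent.Lib.Helper1.GlaubermanRepl

variable {G : Type u} [Group G]

theorem setup_of_normalizer {A B : Subgroup G} [hBn : B.Normal] (hA : IsMulCommutative A)
    (hBA : ⁅B, B⁆ ≤ A) {b : G} (hb : b ∈ B)
    (hbN : b ∈ Subgroup.normalizer ((Subgroup.normalizer (A : Set G) : Subgroup G) : Set G)) :
    Setup A B b where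
  hA := fun x hx y hy => congrArg Subtype.val (mul_comm' (⟨x, hx⟩ : A) ⟨y, hy⟩)
  hBA := hBA
  hAB := by
    rw [Subgroup.normalizer_eq_top_iff.mpr hBn]; exact le_top
  hb := hb
  h1 := by
    intro a ha
    have h := (Subgroup.mem_normalizer_iff.mp (Subgroup.inv_mem _ hbN) a).mp (Subgroup.le_normalizer ha)
    rwa [inv_inv] at h
  h2 := by
    intro a ha
    exact (Subgroup.mem_normalizer_iff.mp hbN a).mp (Subgroup.le_normalizer ha)

theorem odd_pow_eq_one_of_isPGroup [Finite G] {p : ℕ} [hp : Fact p.Prime] (hG : IsPGroup p G)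
    (hp2 : p ≠ 2) (b : G) : ∃ m : ℕ, Odd m ∧ b ^ m = 1 := by
  obtain ⟨k, hk⟩ := hG b
  exact ⟨p ^ k, (hp.out.odd_of_ne_two hp2).pow, hk⟩

namespace Setup

variable {A B : Subgroup G} {b : G} (s : Setup A B b)
include s

theorem normalizer_le_normalizer_Astar [hBn : B.Normal]
    (hbN : b ∈ Subgroup.normalizer ((Subgroup.normalizer (A : Set G) : Subgroup G) : Set G)) :
    Subgroup.normalizer (A : Set G) ≤ Subgroup.normalizer (Astar A b : Set G) := by
  intro n hn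
  apply mem_normalizer_of_forall_conj_mem (A := Subgroup.normalizer (A : Set G)) _ hn
  intro n hn x hx
  obtain ⟨z, hz, a, ha, rfl⟩ := s.normal_form x hx
  obtain ⟨n', hn'def⟩ : ∃ n', n' = b * n * b⁻¹ := ⟨_, rfl⟩
  have hn' : n' ∈ Subgroup.normalizer (A : Set G) := by
    rw [hn'def]; exact (Subgroup.mem_normalizer_iff.mp hbN n).mp hn
  -- n z n⁻¹ ∈ Z₀
  have hz' : n * z * n⁻¹ ∈ A ⊓ conjA A b := by
    refine ⟨(Subgroup.mem_normalizer_iff.mp hn z).mp hz.1, ?_⟩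
    change n * z * n⁻¹ ∈ conjA A b
    rw [mem_conjA]
    have h1 : b * z * b⁻¹ ∈ A := mem_conjA.mp hz.2
    have h2 := (Subgroup.mem_normalizer_iff.mp hn' _).mp h1
    have e : n' * (b * z * b⁻¹) * n'⁻¹ = b * (n * z * n⁻¹) * b⁻¹ := by rw [hn'def]; group
    rw [e] at h2
    exact h2
  obtain ⟨a', ha'def⟩ : ∃ a', a' = n * a * n⁻¹ := ⟨_, rfl⟩
  obtain ⟨a'', ha''def⟩ : ∃ a'', a'' = n' * a * n'⁻¹ := ⟨_, rfl⟩
  have ha' : a' ∈ A := by rw [ha'def]; exact (Subgroup.mem_normalizer_iff.mp hn a).mp ha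
  have ha'' : a'' ∈ A := by rw [ha''def]; exact (Subgroup.mem_normalizer_iff.mp hn' a).mp ha
  obtain ⟨c, hcdef⟩ : ∃ c, c = b * n * b⁻¹ * n⁻¹ := ⟨_, rfl⟩
  have hc : c ∈ B := by
    rw [hcdef]
    have : b * n * b⁻¹ * n⁻¹ = b * (n * b⁻¹ * n⁻¹) := by group
    rw [this]
    exact B.mul_mem s.hb (hBn.conj_mem _ (B.inv_mem s.hb) n)
  have hd : a' * a''⁻¹ ∈ A ⊓ B := by
    refine ⟨A.mul_mem ha' (A.inv_mem ha''), ?_⟩
    have e : a' * a''⁻¹ = (a' * c * a'⁻¹) * c⁻¹ := by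
      rw [ha'def, ha''def, hn'def, hcdef]; group
    rw [e]
    exact B.mul_mem (hBn.conj_mem c hc a') (B.inv_mem hc)
  have hd' := s.conj_mem_inf (s.inf_B_le hd)
  have e : n * (z * tau b a) * n⁻¹ = (n * z * n⁻¹) * (tau b a' * (b⁻¹ * (a' * a''⁻¹) * b)) := by
    rw [ha'def, ha''def, hn'def]; unfold tau; group
  rw [e]
  refine Subgroup.mul_mem _ ?_ (Subgroup.mul_mem _ (Setup.tau_mem_Astar ha') ?_)
  · unfold Astar; exact Subgroup.mem_sup_left hz'
  · unfold Astar; exact Subgroup.mem_sup_left hd'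

end Setup

theorem glauberman_replacement {S : Type u} [Group S] [Finite S] {p : ℕ} [hp : Fact p.Prime]
    (hS : IsPGroup p S) (B : Subgroup S) [B.Normal] (hB2 : p = 2 → IsMulCommutative B)
    (A : Subgroup S) (hA : IsMulCommutative A) (hBA : ⁅B, B⁆ ≤ A)
    (b : S) (hb : b ∈ B)
    (hbN : b ∈ Subgroup.normalizer ((Subgroup.normalizer (A : Set S)) : Set S))
    (hbA : b ∉ Subgroup.normalizer (A : Set S)) :
    Nat.card ↥(Astar A b) = Nat.card A ∧ IsMulCommutative ↥(Astar A b) ∧ ⁅B, B⁆ ≤ Astar A b ∧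
    A ⊓ B < Astar A b ⊓ B ∧ Astar A b ⊓ B < B ∧
    A ≤ Subgroup.normalizer (Astar A b : Set S) ∧ Astar A b ≤ Subgroup.normalizer (A : Set S) ∧
    b ∈ Subgroup.normalizer (Astar A b : Set S) ∧
    Subgroup.normalizer (A : Set S) < Subgroup.normalizer (Astar A b : Set S) ∧
    (p ≠ 2 → Monoid.exponent ↥(Astar A b) ∣ Monoid.exponent A) := by
  have s : Setup A B b := setup_of_normalizer hA hBA hb hbN
  have hodd : (∀ x ∈ B, ∀ y ∈ B, x * y = y * x) ∨ ∃ m : ℕ, Odd m ∧ b ^ m = 1 := by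
    by_cases hp2 : p = 2
    · left
      have := hB2 hp2
      intro x hx y hy
      exact congrArg Subtype.val (mul_comm' (⟨x, hx⟩ : B) ⟨y, hy⟩)
    · right
      exact odd_pow_eq_one_of_isPGroup hS hp2 b
  have hcomm := s.Astar_comm hodd
  refine ⟨s.card_Astar, ⟨⟨fun x y => Subtype.ext (hcomm x x.2 y y.2)⟩⟩, s.comm_le_Astar,
    s.inf_B_lt hbA, s.Astar_inf_B_lt hbA, le_sup_left.trans s.H_le_normalizer_Astar,
    s.Astar_le_normalizer, s.b_mem_normalizer_Astar, ?_, ?_⟩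
  · refine lt_of_le_of_ne (s.normalizer_le_normalizer_Astar hbN) ?_
    intro heq
    apply hbA
    rw [heq]
    exact s.b_mem_normalizer_Astar
  · intro hp2
    have hdvd : Monoid.exponent A ∣ Nat.card A := Group.exponent_dvd_nat_card
    obtain ⟨k, hk⟩ := IsPGroup.iff_card.mp (hS.to_subgroup A)
    rw [hk] at hdvd
    obtain ⟨j, -, hj⟩ := (Nat.dvd_prime_pow hp.out).mp hdvd
    have hoddE : Odd (Monoid.exponent A) := by
      rw [hj]; exact (hp.out.odd_of_ne_two hp2).pow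
    have hAe : ∀ a ∈ A, a ^ Monoid.exponent A = 1 := by
      intro a ha
      have := Monoid.pow_exponent_eq_one (⟨a, ha⟩ : A)
      exact congrArg Subtype.val this
    have h := s.pow_eq_one_of_mem_Astar hodd hoddE hAe
    apply Monoid.exponent_dvd_of_forall_pow_eq_one
    intro x
    exact Subtype.ext (h x x.2)

end Cfsg.Agent.Lib.Helper1.GlaubermanRepl
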