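import Mathlib

/-! Normal subgroups of `p`-groups versus normalizers. -/
set_option autoImplicit false
universe u v
open scoped commutatorElement Pointwise

namespace Cfsg.Agent.Lib.Helper1
variable {G : Type u} [Group G] {p : ℕ}

/-- In a finite `p`-group, if a normal subgroup `B` is not contained in a subgroup `N`, some element of `B`
outside `N` normalizes `N`. -/
theorem exists_mem_normal_normalizer_not_mem [Finite G] [hp : Fact p.Prime] (hG : IsPGroup p G)
    (B : Subgroup G) [hB : B.Normal] (N : Subgroup G) (hnot : ¬ B ≤ N) :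
    ∃ b ∈ B, b ∈ Subgroup.normalizer (N : Set G) ∧ b ∉ N := by
  obtain ⟨L, hL⟩ : ∃ L : Subgroup G, L = N ⊔ B := ⟨_, rfl⟩
  have hNL : N ≤ L := by rw [hL]; exact le_sup_left
  have hBL : B ≤ L := by rw [hL]; exact le_sup_right
  have hLp : IsPGroup p L := hG.to_subgroup L
  have : Group.IsNilpotent L := hLp.isNilpotent
  have hlt : N.subgroupOf L < ⊤ := by
    rw [lt_top_iff_ne_top, Ne, Subgroup.subgroupOf_eq_top]
    intro h
    exact hnot (hBL.trans h)
  have hnc := Group.normalizerCondition_of_isNilpotent (G := L) (N.subgroupOf L) hlt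
  obtain ⟨x, hxn, hxN⟩ := SetLike.exists_of_lt hnc
  obtain ⟨x₀, hx₀⟩ := x
  rw [Subgroup.mem_subgroupOf] at hxN
  have hx₀' := hx₀
  rw [hL, Subgroup.mem_sup_of_normal_right] at hx₀'
  obtain ⟨n, hn, b, hb, hnb⟩ := hx₀'
  rw [Subgroup.mem_normalizer_iff] at hxn
  have hxnorm : x₀ ∈ Subgroup.normalizer (N : Set G) := by
    rw [Subgroup.mem_normalizer_iff]
    intro y
    constructor
    · intro hy
      have := (hxn ⟨y, hNL hy⟩).mp (by rw [Subgroup.mem_subgroupOf]; exact hy)
      rw [Subgroup.mem_subgroupOf] at this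
      exact this
    · intro hy
      have hyL : y ∈ L := by
        have h1 : x₀⁻¹ * (x₀ * y * x₀⁻¹) * x₀ ∈ L :=
          L.mul_mem (L.mul_mem (L.inv_mem hx₀) (hNL hy)) hx₀
        have e : x₀⁻¹ * (x₀ * y * x₀⁻¹) * x₀ = y := by group
        rw [e] at h1
        exact h1
      have := (hxn ⟨y, hyL⟩).mpr (by rw [Subgroup.mem_subgroupOf]; exact hy)
      rw [Subgroup.mem_subgroupOf] at this
      exact this
  refine ⟨b, hb, ?_, ?_⟩
  · have e : b = n⁻¹ * x₀ := by rw [← hnb]; group
    rw [e]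
    exact Subgroup.mul_mem _ (Subgroup.inv_mem _ (Subgroup.le_normalizer hn)) hxnorm
  · intro hbN
    apply hxN
    show x₀ ∈ N
    rw [← hnb]
    exact N.mul_mem hn hbN

end Cfsg.Agent.Lib.Helper1
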