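import Mathlib
import Cfsg.Prelude.Def_PLocal
import Cfsg.Agent.Lib.Helper1.NormalizerGrow
import Cfsg.Agent.Lib.Helper1.GlaubermanRepl6
set_option autoImplicit false
open scoped Pointwise commutatorElement
universe u
namespace Cfsg.Agent.Lib.Helper1.GlaubermanRepl

variable {S : Type u} [Group S]

theorem card_lt_card_of_lt [Finite S] {H K : Subgroup S} (h : H < K) : Nat.card H < Nat.card K := by
  have h1 := Subgroup.card_le_of_le h.le
  rcases h1.lt_or_eq with h2 | h2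
  · exact h2
  · exact absurd (Subgroup.eq_of_le_of_card_ge h.le h2.ge) h.ne

theorem Astar_le_of_normal {A D : Subgroup S} [hD : D.Normal] (hAD : A ≤ D) (b : S) :
    Astar A b ≤ D := by
  unfold Astar
  apply sup_le (inf_le_left.trans hAD)
  unfold commAb
  rw [Subgroup.closure_le]
  rintro _ ⟨a, ha, rfl⟩
  have : a * b⁻¹ * a⁻¹ * b = a * (b⁻¹ * a⁻¹ * b⁻¹⁻¹) := by group
  rw [this]
  exact D.mul_mem (hAD ha) (hD.conj_mem _ (D.inv_mem (hAD ha)) b⁻¹)

theorem replacement_iteration [Finite S] {p : ℕ} [hp : Fact p.Prime] (hS : IsPGroup p S)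
    (B : Subgroup S) [B.Normal] (U : Set (Subgroup S))
    (hclosed : ∀ A ∈ U, ∀ b ∈ B,
      b ∈ Subgroup.normalizer ((Subgroup.normalizer (A : Set S) : Subgroup S) : Set S) →
      b ∉ Subgroup.normalizer (A : Set S) → ∃ A' ∈ U, A ⊓ B < A' ⊓ B)
    (hne : U.Nonempty) : ∃ A ∈ U, B ≤ Subgroup.normalizer (A : Set S) := by
  obtain ⟨A, hAU, hmax⟩ := Set.exists_max_image U (fun A => Nat.card (A ⊓ B : Subgroup S))
    (Set.toFinite _) hne
  refine ⟨A, hAU, ?_⟩
  by_contra hnot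
  obtain ⟨b, hb, hbN, hbA⟩ := exists_mem_normal_normalizer_not_mem hS B _ hnot
  obtain ⟨A', hA'U, hlt⟩ := hclosed A hAU b hb hbN hbA
  have h1 : Nat.card (A' ⊓ B : Subgroup S) ≤ Nat.card (A ⊓ B : Subgroup S) := hmax A' hA'U
  have h2 := card_lt_card_of_lt hlt
  omega

/-- S0651 -/
theorem maxAbelian_replacement [Finite S] {p : ℕ} [hp : Fact p.Prime] (hS : IsPGroup p S)
    (hp2 : p ≠ 2) (D : Subgroup S) [D.Normal] (B : Subgroup S) [B.Normal]
    (h : ∃ U ∈ (Set.image (fun A : Subgroup ↥D => A.map D.subtype) (Cfsg.maxAbelianSubgroups ↥D)),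
      ⁅B, B⁆ ≤ U ∧ ¬ B ≤ U) :
    ∃ A ∈ (Set.image (fun A : Subgroup ↥D => A.map D.subtype) (Cfsg.maxAbelianSubgroups ↥D)),
      ⁅B, B⁆ ≤ A ∧ ¬ B ≤ A ∧ B ≤ Subgroup.normalizer (A : Set S) := by
  obtain ⟨U, hU⟩ : ∃ U : Set (Subgroup S), U = {A | A ∈ (Set.image (fun A : Subgroup ↥D =>
      A.map D.subtype) (Cfsg.maxAbelianSubgroups ↥D)) ∧ ⁅B, B⁆ ≤ A ∧ ¬ B ≤ A} := ⟨_, rfl⟩
  have hne : U.Nonempty := by
    obtain ⟨A, hA1, hA2⟩ := h
    exact ⟨A, by rw [hU]; exact ⟨hA1, hA2⟩⟩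
  have hclosed : ∀ A ∈ U, ∀ b ∈ B,
      b ∈ Subgroup.normalizer ((Subgroup.normalizer (A : Set S) : Subgroup S) : Set S) →
      b ∉ Subgroup.normalizer (A : Set S) → ∃ A' ∈ U, A ⊓ B < A' ⊓ B := by
    intro A hA b hb hbN hbA
    rw [hU] at hA
    obtain ⟨⟨A₀, hA₀, rfl⟩, hBA, hBnot⟩ := hA
    simp only at hBA hBnot hbN hbA ⊢
    have hAD : A₀.map D.subtype ≤ D := Subgroup.map_subtype_le A₀
    have hAcomm : IsMulCommutative ↥(A₀.map D.subtype) := by
      have := hA₀.1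
      exact ⟨⟨fun x y => by
        obtain ⟨x, x', hx', rfl⟩ := x
        obtain ⟨y, y', hy', rfl⟩ := y
        apply Subtype.ext
        have := mul_comm' (⟨x', hx'⟩ : A₀) ⟨y', hy'⟩
        have h2 := congrArg (fun t : A₀ => D.subtype (t : D)) this
        simpa using h2⟩⟩
    obtain ⟨h1, h2, h3, h4, h5, -⟩ := glauberman_replacement hS B (fun h => absurd h hp2)
      (A₀.map D.subtype) hAcomm hBA b hb hbN hbA
    refine ⟨Astar (A₀.map D.subtype) b, ?_, h4⟩
    rw [hU]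
    refine ⟨⟨(Astar (A₀.map D.subtype) b).subgroupOf D, ?_, ?_⟩, h3, ?_⟩
    · constructor
      · haveI := h2
        exact Subgroup.subgroupOf_isMulCommutative _ _
      · intro C hC
        rw [card_subgroupOf_of_le (Astar_le_of_normal hAD b), h1,
          Subgroup.card_map_of_injective D.subtype_injective]
        exact hA₀.2 C hC
    · exact Subgroup.map_subgroupOf_eq_of_le (Astar_le_of_normal hAD b)
    · intro hB
      exact h5.ne (inf_eq_right.mpr hB)
  obtain ⟨A, hAU, hBN⟩ := replacement_iteration hS B U hclosed hne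
  rw [hU] at hAU
  exact ⟨A, hAU.1, hAU.2.1, hAU.2.2, hBN⟩

/-- S0652 -/
theorem maxElementaryAbelian_replacement [Finite S] {p : ℕ} [hp : Fact p.Prime] (hS : IsPGroup p S)
    (hp2 : p ≠ 2) (D : Subgroup S) [D.Normal] (B : Subgroup S) [B.Normal]
    (h : ∃ U ∈ (Set.image (fun A : Subgroup ↥D => A.map D.subtype)
      (Cfsg.maxElementaryAbelianSubgroups p ↥D)), ⁅B, B⁆ ≤ U ∧ ¬ B ≤ U) :
    ∃ A ∈ (Set.image (fun A : Subgroup ↥D => A.map D.subtype)
      (Cfsg.maxElementaryAbelianSubgroups p ↥D)),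
      ⁅B, B⁆ ≤ A ∧ ¬ B ≤ A ∧ B ≤ Subgroup.normalizer (A : Set S) := by
  obtain ⟨U, hU⟩ : ∃ U : Set (Subgroup S), U = {A | A ∈ (Set.image (fun A : Subgroup ↥D =>
      A.map D.subtype) (Cfsg.maxElementaryAbelianSubgroups p ↥D)) ∧ ⁅B, B⁆ ≤ A ∧ ¬ B ≤ A} :=
    ⟨_, rfl⟩
  have hne : U.Nonempty := by
    obtain ⟨A, hA1, hA2⟩ := h
    exact ⟨A, by rw [hU]; exact ⟨hA1, hA2⟩⟩
  have hclosed : ∀ A ∈ U, ∀ b ∈ B,
      b ∈ Subgroup.normalizer ((Subgroup.normalizer (A : Set S) : Subgroup S) : Set S) →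
      b ∉ Subgroup.normalizer (A : Set S) → ∃ A' ∈ U, A ⊓ B < A' ⊓ B := by
    intro A hA b hb hbN hbA
    rw [hU] at hA
    obtain ⟨⟨A₀, hA₀, rfl⟩, hBA, hBnot⟩ := hA
    simp only at hBA hBnot hbN hbA ⊢
    have hAD : A₀.map D.subtype ≤ D := Subgroup.map_subtype_le A₀
    have hAcomm : IsMulCommutative ↥(A₀.map D.subtype) := by
      have := hA₀.1.1
      exact ⟨⟨fun x y => by
        obtain ⟨x, x', hx', rfl⟩ := x
        obtain ⟨y, y', hy', rfl⟩ := y
        apply Subtype.ext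
        have := mul_comm' (⟨x', hx'⟩ : A₀) ⟨y', hy'⟩
        have h2 := congrArg (fun t : A₀ => D.subtype (t : D)) this
        simpa using h2⟩⟩
    have hAexp : Monoid.exponent ↥(A₀.map D.subtype) ∣ p := by
      apply Monoid.exponent_dvd_of_forall_pow_eq_one
      rintro ⟨x, x', hx', rfl⟩
      apply Subtype.ext
      have := hA₀.1.2 x' hx'
      have h2 := congrArg D.subtype this
      simpa using h2
    obtain ⟨h1, h2, h3, h4, h5, -, -, -, -, h10⟩ := glauberman_replacement hS B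
      (fun h => absurd h hp2) (A₀.map D.subtype) hAcomm hBA b hb hbN hbA
    have hexp : ∀ x ∈ Astar (A₀.map D.subtype) b, x ^ p = 1 := by
      intro x hx
      have := (Monoid.exponent_dvd_iff_forall_pow_eq_one.mp ((h10 hp2).trans hAexp))
        (⟨x, hx⟩ : ↥(Astar (A₀.map D.subtype) b))
      exact congrArg Subtype.val this
    refine ⟨Astar (A₀.map D.subtype) b, ?_, h4⟩
    rw [hU]
    refine ⟨⟨(Astar (A₀.map D.subtype) b).subgroupOf D, ?_, ?_⟩, h3, ?_⟩
    · constructor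
      · constructor
        · haveI := h2
          exact Subgroup.subgroupOf_isMulCommutative _ _
        · intro x hx
          apply Subtype.ext
          have := hexp (x : S) hx
          simpa using this
      · intro C hC
        rw [card_subgroupOf_of_le (Astar_le_of_normal hAD b), h1,
          Subgroup.card_map_of_injective D.subtype_injective]
        exact hA₀.2 C hC
    · exact Subgroup.map_subgroupOf_eq_of_le (Astar_le_of_normal hAD b)
    · intro hB
      exact h5.ne (inf_eq_right.mpr hB)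
  obtain ⟨A, hAU, hBN⟩ := replacement_iteration hS B U hclosed hne
  rw [hU] at hAU
  exact ⟨A, hAU.1, hAU.2.1, hAU.2.2, hBN⟩

end Cfsg.Agent.Lib.Helper1.GlaubermanRepl
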