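import Mathlib
import Cfsg.Agent.Lib.Helper1.NormalizerGrow
import Cfsg.Agent.Lib.Helper1.GlaubermanRepl7
set_option autoImplicit false
open scoped Pointwise commutatorElement
universe u
namespace Cfsg.Agent.Lib.Helper1.ZJ

open Cfsg.Agent.Lib.Helper1.GlaubermanRepl

variable {G : Type u} [Group G]

/-- An abstract family of "large abelian subgroups", with the properties needed in the proof of
the ZJ-theorem. The "centre of the Thompson subgroup" is the intersection of the family. -/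
structure ZJFamily (p : ℕ) (F : Subgroup G → Set (Subgroup G)) : Prop where
  le : ∀ {X A : Subgroup G}, A ∈ F X → A ≤ X
  comm : ∀ {X A : Subgroup G}, A ∈ F X → ∀ x ∈ A, ∀ y ∈ A, x * y = y * x
  nonempty : ∀ X : Subgroup G, (F X).Nonempty
  map_mem : ∀ (φ : G ≃* G) {X A : Subgroup G}, A ∈ F X →
    A.map φ.toMonoidHom ∈ F (X.map φ.toMonoidHom)
  mono : ∀ {X R A₀ : Subgroup G}, R ≤ X → A₀ ∈ F X → A₀ ≤ R →
    ∀ A : Subgroup G, A ∈ F R ↔ (A ∈ F X ∧ A ≤ R)
  repl : ∀ {X A B : Subgroup G} {b : G}, IsPGroup p X → A ∈ F X → b ∈ X → Setup A B b →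
    (∃ m : ℕ, Odd m ∧ b ^ m = 1) → Astar A b ∈ F X

namespace ZJFamily

variable {p : ℕ} {F : Subgroup G → Set (Subgroup G)}

theorem exists_replacement [Finite G] [hp : Fact p.Prime] (fam : ZJFamily p F) (hp2 : p ≠ 2)
    {P : Subgroup G} (hP : IsPGroup p P) {B : Subgroup G} [hBn : B.Normal] (hBP : B ≤ P)
    {A : Subgroup G} (hA : A ∈ F P) (hBA : ⁅B, B⁆ ≤ A)
    (hnot : ¬ B ≤ Subgroup.normalizer (A : Set G)) :
    ∃ A' ∈ F P, A ⊓ B < A' ⊓ B ∧ ¬ B ≤ A' := by
  have hAP : A ≤ P := fam.le hA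
  obtain ⟨N, hN⟩ : ∃ N, N = Subgroup.normalizer (A : Set G) := ⟨_, rfl⟩
  have hnot' : ¬ B.subgroupOf P ≤ N.subgroupOf P := by
    intro h
    apply hnot
    intro x hx
    have : (⟨x, hBP hx⟩ : P) ∈ B.subgroupOf P := by rw [Subgroup.mem_subgroupOf]; exact hx
    have := h this
    rw [Subgroup.mem_subgroupOf] at this
    rw [← hN]; exact this
  obtain ⟨b', hb'B, hb'N, hb'not⟩ := exists_mem_normal_normalizer_not_mem hP (B.subgroupOf P)
    (N.subgroupOf P) hnot'
  rw [Subgroup.mem_subgroupOf] at hb'B hb'not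
  obtain ⟨b, hbdef⟩ : ∃ b : G, b = (b' : G) := ⟨_, rfl⟩
  have hbP : b ∈ P := hbdef ▸ b'.2
  have hbB : b ∈ B := hbdef ▸ hb'B
  have hbA : b ∉ Subgroup.normalizer (A : Set G) := by rw [hbdef, ← hN]; exact hb'not
  have key : ∀ c : P, c ∈ Subgroup.normalizer ((N.subgroupOf P : Subgroup P) : Set P) → ∀ a ∈ A,
      (c : G) * a * (c : G)⁻¹ ∈ N := by
    intro c hc a ha
    have h1 : (⟨a, hAP ha⟩ : P) ∈ N.subgroupOf P := by
      rw [Subgroup.mem_subgroupOf, hN]; exact Subgroup.le_normalizer ha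
    have h2 := (Subgroup.mem_normalizer_iff.mp hc _).mp h1
    rw [Subgroup.mem_subgroupOf] at h2
    exact h2
  have s : Setup A B b :=
    { hA := fam.comm hA
      hBA := hBA
      hAB := by rw [Subgroup.normalizer_eq_top_iff.mpr hBn]; exact le_top
      hb := hbB
      h1 := by
        intro a ha
        have := key b'⁻¹ (Subgroup.inv_mem _ hb'N) a ha
        rw [hN] at this
        rw [hbdef]
        simpa using this
      h2 := by
        intro a ha
        have := key b' hb'N a ha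
        rw [hN] at this
        rw [hbdef]
        exact this }
  have hodd : ∃ m : ℕ, Odd m ∧ b ^ m = 1 := by
    obtain ⟨k, hk⟩ := hP b'
    refine ⟨p ^ k, (hp.out.odd_of_ne_two hp2).pow, ?_⟩
    rw [hbdef]
    have := congrArg Subtype.val hk
    simpa using this
  refine ⟨Astar A b, fam.repl hP hA hbP s hodd, s.inf_B_lt hbA, ?_⟩
  intro hB
  exact (s.Astar_inf_B_lt hbA).ne (inf_eq_right.mpr hB)

theorem exists_normalized [Finite G] [hp : Fact p.Prime] (fam : ZJFamily p F) (hp2 : p ≠ 2)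
    {P : Subgroup G} (hP : IsPGroup p P) {B : Subgroup G} [hBn : B.Normal] (hBP : B ≤ P)
    (hBA : ∀ A ∈ F P, ⁅B, B⁆ ≤ A) :
    ∃ A ∈ F P, B ≤ Subgroup.normalizer (A : Set G) := by
  obtain ⟨A, hAF, hmax⟩ := Set.exists_max_image (F P) (fun A => Nat.card (A ⊓ B : Subgroup G))
    (Set.toFinite _) (fam.nonempty P)
  refine ⟨A, hAF, ?_⟩
  by_contra hnot
  obtain ⟨A', hA'F, hlt, -⟩ := fam.exists_replacement hp2 hP hBP hAF (hBA A hAF) hnot
  have h1 : Nat.card (A' ⊓ B : Subgroup G) ≤ Nat.card (A ⊓ B : Subgroup G) := hmax A' hA'F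
  have h2 := card_lt_card_of_lt hlt
  omega

end ZJFamily

end Cfsg.Agent.Lib.Helper1.ZJ
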