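import Mathlib
import Cfsg.Prelude.Def_PLocal
import Cfsg.Agent.Lib.Helper1.PCore
import Cfsg.Agent.Lib.Helper1.ComplementSystem
import Cfsg.Agent.Lib.Helper1.ZJ1
set_option autoImplicit false
open scoped Pointwise commutatorElement
universe u
namespace Cfsg.Agent.Lib.Helper1.ZJ

open Cfsg.Agent.Lib.Helper1.GlaubermanRepl

variable {G : Type u} [Group G]

theorem map_symm_map (φ : G ≃* G) (X : Subgroup G) :
    (X.map φ.toMonoidHom).map φ.symm.toMonoidHom = X := by
  ext x
  simp [Subgroup.mem_map]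

theorem map_map_symm (φ : G ≃* G) (X : Subgroup G) :
    (X.map φ.symm.toMonoidHom).map φ.toMonoidHom = X := by
  ext x
  simp [Subgroup.mem_map]

namespace ZJFamily

variable {p : ℕ} {F : Subgroup G → Set (Subgroup G)}

theorem sInf_le_self (fam : ZJFamily p F) (X : Subgroup G) : sInf (F X) ≤ X := by
  obtain ⟨A, hA⟩ := fam.nonempty X
  exact (sInf_le hA).trans (fam.le hA)

theorem sInf_comm (fam : ZJFamily p F) (X : Subgroup G) :
    ∀ x ∈ sInf (F X), ∀ y ∈ sInf (F X), x * y = y * x := by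
  obtain ⟨A, hA⟩ := fam.nonempty X
  intro x hx y hy
  exact fam.comm hA x (sInf_le hA hx) y (sInf_le hA hy)

theorem map_sInf_le (fam : ZJFamily p F) (φ : G ≃* G) (X : Subgroup G) :
    (sInf (F X)).map φ.toMonoidHom ≤ sInf (F (X.map φ.toMonoidHom)) := by
  apply le_sInf
  intro A' hA'
  have h1 := fam.map_mem φ.symm hA'
  rw [map_symm_map] at h1
  have h2 : sInf (F X) ≤ A'.map φ.symm.toMonoidHom := sInf_le h1
  have h3 := Subgroup.map_mono (f := φ.toMonoidHom) h2
  rwa [map_map_symm] at h3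

theorem map_sInf (fam : ZJFamily p F) (φ : G ≃* G) (X : Subgroup G) :
    sInf (F (X.map φ.toMonoidHom)) = (sInf (F X)).map φ.toMonoidHom := by
  apply le_antisymm _ (fam.map_sInf_le φ X)
  have h1 := fam.map_sInf_le φ.symm (X.map φ.toMonoidHom)
  rw [map_symm_map] at h1
  have h2 := Subgroup.map_mono (f := φ.toMonoidHom) h1
  rwa [map_map_symm] at h2

theorem conj_sInf (fam : ZJFamily p F) {X : Subgroup G} {g : G}
    (hg : g ∈ Subgroup.normalizer (X : Set G)) :
    (sInf (F X)).map (MulAut.conj g).toMonoidHom = sInf (F X) := by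
  have h1 : X.map (MulAut.conj g).toMonoidHom = X := conj_smul_eq_of_mem_normalizer hg
  have h2 := fam.map_sInf (MulAut.conj g) X
  rw [h1] at h2
  exact h2.symm

theorem conj_mem_sInf (fam : ZJFamily p F) {X : Subgroup G} {g : G}
    (hg : g ∈ Subgroup.normalizer (X : Set G)) {x : G} (hx : x ∈ sInf (F X)) :
    g * x * g⁻¹ ∈ sInf (F X) := by
  have h1 : MulAut.conj g x ∈ (sInf (F X)).map (MulAut.conj g).toMonoidHom :=
    Subgroup.mem_map_of_mem _ hx
  rw [fam.conj_sInf hg] at h1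
  simpa using h1

theorem le_normalizer_sInf [Finite G] (fam : ZJFamily p F) (X : Subgroup G) :
    Subgroup.normalizer (X : Set G) ≤ Subgroup.normalizer ((sInf (F X) : Subgroup G) : Set G) := by
  intro g hg
  exact mem_normalizer_of_conj_mem_of_finite (fun x hx => fam.conj_mem_sInf hg hx)

end ZJFamily

/-- quadratic action + p-stability -/
theorem le_comap_pCore_of_quadratic {p : ℕ} (B : Subgroup G) [B.Normal]
    (hst : Cfsg.IsPStableOn p B) {A : Subgroup G} (hA : ∀ x ∈ A, ∀ y ∈ A, x * y = y * x)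
    (hBA : B ≤ Subgroup.normalizer (A : Set G)) :
    A ≤ (Cfsg.pCore p (G ⧸ Subgroup.centralizer (B : Set G))).comap
      (QuotientGroup.mk' (Subgroup.centralizer (B : Set G))) := by
  intro a ha
  rw [Subgroup.mem_comap]
  apply hst a
  rw [eq_bot_iff, Subgroup.commutator_le]
  intro x hx y hy
  have hzA : Subgroup.zpowers a ≤ A := by
    rw [Subgroup.zpowers_le]; exact ha
  have h1 : ⁅B, Subgroup.zpowers a⁆ ≤ A := by
    rw [Subgroup.commutator_le]
    intro b hb t ht
    have h2 := (Subgroup.mem_normalizer_iff.mp (hBA hb) t).mp (hzA ht)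
    rw [commutatorElement_def]
    exact A.mul_mem h2 (A.inv_mem (hzA ht))
  rw [Subgroup.mem_bot, commutatorElement_eq_one_iff_commute]
  exact hA x (h1 hx) y (hzA hy)

/-- Frattini argument for `P ∩ L` -/
theorem normalizer_inf_sup_eq_top [Finite G] {p : ℕ} [hp : Fact p.Prime] (S : Sylow p G)
    (C : Subgroup G) [hCn : C.Normal] :
    Subgroup.normalizer ((((S : Subgroup G) ⊓ (Cfsg.pCore p (G ⧸ C)).comap (QuotientGroup.mk' C) :
      Subgroup G)) : Set G) ⊔ C = ⊤ := by
  obtain ⟨T, hT⟩ : ∃ T, T = Cfsg.pCore p (G ⧸ C) := ⟨_, rfl⟩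
  obtain ⟨L, hL⟩ : ∃ L, L = T.comap (QuotientGroup.mk' C) := ⟨_, rfl⟩
  rw [← hT, ← hL]
  have hTn : T.Normal := hT ▸ pCore_normal p
  have hLn : L.Normal := hL ▸ Subgroup.Normal.comap hTn _
  obtain ⟨R, hR⟩ : ∃ R, R = (S : Subgroup G) ⊓ L := ⟨_, rfl⟩
  rw [← hR]
  have hRL : R ≤ L := hR ▸ inf_le_right
  have hRp : IsPGroup p R := S.2.to_le (hR ▸ inf_le_left)
  have hRp' : IsPGroup p (R.subgroupOf L) := hRp.comap_subtype
  have hidx : ¬ p ∣ (R.subgroupOf L).index := by
    change ¬ p ∣ R.relIndex L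
    rw [hR, Subgroup.inf_relIndex_right]
    intro h
    exact S.not_dvd_index (h.trans (relIndex_dvd_index_of_normal_right _ L))
  have hCL : C ≤ L := by
    intro c hc
    rw [hL, Subgroup.mem_comap]
    have : QuotientGroup.mk' C c = 1 := (QuotientGroup.eq_one_iff c).mpr hc
    rw [this]; exact T.one_mem
  have hfr := Sylow.normalizer_sup_eq_top (hRp'.toSylow hidx)
  have e1 : ((hRp'.toSylow hidx : Sylow p L) : Subgroup L) = R.subgroupOf L := rfl
  rw [e1, Subgroup.map_subgroupOf_eq_of_le hRL] at hfr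
  -- L ≤ R ⊔ C
  have hLRC : L ≤ R ⊔ C := by
    rw [← Subgroup.relIndex_eq_one]
    have h1 : (R ⊔ C).relIndex L ∣ R.relIndex L := Subgroup.relIndex_dvd_of_le_left L le_sup_left
    have h2 : (R ⊔ C).relIndex L ∣ C.relIndex L := Subgroup.relIndex_dvd_of_le_left L le_sup_right
    have h3 : C.relIndex L = Nat.card T := by
      have := Subgroup.relIndex_comap (⊥ : Subgroup (G ⧸ C)) (QuotientGroup.mk' C) L
      rw [MonoidHom.comap_bot, QuotientGroup.ker_mk', Subgroup.relIndex_bot_left] at this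
      rw [this, hL, Subgroup.map_comap_eq_self_of_surjective (QuotientGroup.mk'_surjective C)]
    have hTp : IsPGroup p T := hT ▸ pCore_isPGroup p
    obtain ⟨k, hk⟩ := hTp.exists_card_eq
    have hcop : (R.relIndex L).Coprime (p ^ k) :=
      Nat.Coprime.pow_right _ ((Nat.Prime.coprime_iff_not_dvd hp.out).mpr hidx).symm
    rw [h3, hk] at h2
    exact (Nat.Coprime.coprime_dvd_left h1 hcop).eq_one_of_dvd h2
  rw [eq_top_iff, ← hfr]
  apply sup_le le_sup_left
  apply hLRC.trans
  apply sup_le _ le_sup_right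
  exact Subgroup.le_normalizer.trans le_sup_left

end Cfsg.Agent.Lib.Helper1.ZJ
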