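import Mathlib
import Cfsg.Agent.Lib.Helper1.OddStable3
import Cfsg.Agent.Lib.Helper1.ZJ2
import Cfsg.Agent.Lib.Helper1.SubnormalPCore
import Cfsg.Agent.Lib.Helper2.Cores
set_option autoImplicit false
open scoped commutatorElement Pointwise IsMulCommutative
open Cfsg
universe u v w
namespace Cfsg.Agent.Lib.Helper1.OddStable

open Cfsg.Agent.Lib.Helper1.QuadSL2 Cfsg.Agent.Lib.Helper1.StableQuad Cfsg.Agent.Lib.Helper1.NPC
  Cfsg.Agent.Lib.Helper1.NPStable

variable {G : Type u} [Group G]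

/-- `O_{p'}` of a normal subgroup lies in `O_{p'}` of the group -/
theorem pPrimeCore_eq_bot_of_normal [Finite G] {p : ℕ} (K : Subgroup G) [hK : K.Normal]
    (hbot : pPrimeCore p G = ⊥) : pPrimeCore p ↥K = ⊥ := by
  haveI : (pPrimeCore p ↥K).Characteristic := Cfsg.Agent.Lib.Helper2.pPrimeCore_characteristic p
  have hn : ((pPrimeCore p ↥K).map K.subtype).Normal := by
    rw [← Subgroup.normalizer_eq_top_iff, eq_top_iff]
    refine le_trans ?_ (normalizer_le_normalizer_map_characteristic K (pPrimeCore p ↥K))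
    rw [Subgroup.normalizer_eq_top_iff.mpr hK]
  have hc : (Nat.card ((pPrimeCore p ↥K).map K.subtype)).Coprime p := by
    rw [Subgroup.card_map_of_injective K.subtype_injective]
    exact Cfsg.Agent.Lib.Helper2.pPrimeCore_card_coprime p
  have hle : (pPrimeCore p ↥K).map K.subtype ≤ pPrimeCore p G :=
    Cfsg.Agent.Lib.Helper1.le_pPrimeCore hn hc
  rw [hbot, le_bot_iff] at hle
  exact (Subgroup.map_eq_bot_iff_of_injective _ K.subtype_injective).mp hle

/-- a normal solvable subgroup `C` of a group with `O_{p'} = 1`, whose `O_p` part is central in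
`C`, is a `p`-group -/
theorem isPGroup_of_pCore_inf_central [Finite G] [Group.IsSolvable G] {p : ℕ} [hp : Fact p.Prime]
    (C : Subgroup G) [hC : C.Normal] (hbot : pPrimeCore p G = ⊥)
    (hcen : ∀ z ∈ pCore p G ⊓ C, ∀ c ∈ C, c * z = z * c) : IsPGroup p C := by
  have hbotC : pPrimeCore p ↥C = ⊥ := pPrimeCore_eq_bot_of_normal C hbot
  have h1 := Cfsg.Agent.Lib.Helper1.centralizer_pCore_le (G := ↥C) p hbotC
  have h2 : (pCore p ↥C).map C.subtype ≤ pCore p G ⊓ C :=
    le_inf (pCore_map_le_of_isSubnormal hC.isSubnormal) (Subgroup.map_subtype_le _)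
  have h3 : Subgroup.centralizer (pCore p ↥C : Set ↥C) = ⊤ := by
    rw [eq_top_iff]
    intro c _
    rw [Subgroup.mem_centralizer_iff]
    intro z hz
    apply Subtype.ext
    have := hcen (z : G) (h2 (Subgroup.mem_map_of_mem _ hz)) (c : G) c.2
    simpa using this.symm
  rw [h3] at h1
  intro c
  obtain ⟨k, hk⟩ := (pCore_isPGroup (G := ↥C) p) ⟨c, h1 (Subgroup.mem_top c)⟩
  exact ⟨k, by simpa using congrArg Subtype.val hk⟩

theorem s1465 [Finite G] [Group.IsSolvable G] (hodd : Odd (Nat.card G)) (p : ℕ) [hp : Fact p.Prime]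
    (hp2 : p ≠ 2) (P : Subgroup G) [hPn : P.Normal] (hP : IsPGroup p P)
    (S : Set (Subgroup G))
    (hS : ∀ B ∈ S, IsMulCommutative B ∧ IsPGroup p B ∧ P ≤ Subgroup.normalizer (B : Set G)) :
    (sSup S).map (QuotientGroup.mk' (Subgroup.centralizer (P : Set G))) ≤
        Cfsg.pCore p (G ⧸ Subgroup.centralizer (P : Set G)) ∧
      (Cfsg.pPrimeCore p G = ⊥ → Cfsg.pCore p G ⊓ Subgroup.centralizer (P : Set G) ≤ P →
        sSup S ≤ Cfsg.pCore p G) := by
  have hst := isPStableOn_of_odd_of_isPGroup hp2 P hP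
    (Cfsg.Agent.Lib.Helper3.isPSolvable_of_isSolvable (G := G) p inferInstance) hodd
  have h1 : sSup S ≤ (Cfsg.pCore p (G ⧸ Subgroup.centralizer (P : Set G))).comap
      (QuotientGroup.mk' (Subgroup.centralizer (P : Set G))) := by
    apply sSup_le
    intro B hB
    obtain ⟨hBc, -, hPB⟩ := hS B hB
    apply Cfsg.Agent.Lib.Helper1.ZJ.le_comap_pCore_of_quadratic P hst _ hPB
    intro x hx y hy
    exact congrArg Subtype.val (hBc.is_comm.comm ⟨x, hx⟩ ⟨y, hy⟩)
  refine ⟨Subgroup.map_le_iff_le_comap.mpr h1, ?_⟩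
  intro hbot hle
  refine h1.trans ?_
  have hCp : IsPGroup p (Subgroup.centralizer (P : Set G)) := by
    apply isPGroup_of_pCore_inf_central _ hbot
    intro z hz c hc
    exact (Subgroup.mem_centralizer_iff.mp hc z (hle hz)).symm
  haveI := pCore_normal (G := G ⧸ Subgroup.centralizer (P : Set G)) p
  apply le_pCore (Subgroup.Normal.comap inferInstance _)
  rintro ⟨x, hx⟩
  rw [Subgroup.mem_comap] at hx
  obtain ⟨k, hk⟩ := (pCore_isPGroup (G := G ⧸ Subgroup.centralizer (P : Set G)) p) ⟨_, hx⟩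
  have hk' : (QuotientGroup.mk' (Subgroup.centralizer (P : Set G)) x) ^ (p ^ k) = 1 := by
    simpa using congrArg Subtype.val hk
  rw [← map_pow, QuotientGroup.mk'_apply, QuotientGroup.eq_one_iff] at hk'
  obtain ⟨j, hj⟩ := hCp ⟨_, hk'⟩
  refine ⟨k + j, ?_⟩
  apply Subtype.ext
  have hj' : (x ^ (p ^ k)) ^ (p ^ j) = 1 := by simpa using congrArg Subtype.val hj
  simp only [Subgroup.coe_pow, Subgroup.coe_one]
  rw [pow_add, pow_mul]
  exact hj'

end Cfsg.Agent.Lib.Helper1.OddStable
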