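import Mathlib
set_option autoImplicit false
open Pointwise

namespace Cfsg.Agent.Lib.Helper1

universe u

theorem sign_of_fixed_point_free_involution {α : Type*} [Fintype α] [DecidableEq α]
    (σ : Equiv.Perm α) (h2 : σ ^ 2 = 1) (hfix : ∀ x, σ x ≠ x) (m : ℕ) (hcard : Fintype.card α = 2 * m)
    (hm : Odd m) : Equiv.Perm.sign σ = -1 := by
  have hne : σ ≠ 1 := by
    intro h1
    have hpos : 0 < Fintype.card α := by
      rcases hm with ⟨k, rfl⟩
      omega
    obtain ⟨x⟩ := Fintype.card_pos_iff.mp hpos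
    exact hfix x (by rw [h1]; rfl)
  have hord : orderOf σ = 2 := orderOf_eq_prime h2 hne
  obtain ⟨n, hn⟩ := Equiv.Perm.cycleType_prime_order (σ := σ) (by rw [hord]; exact Nat.prime_two)
  rw [hord] at hn
  have hsupp : σ.support = Finset.univ := by
    ext x
    simp [Equiv.Perm.mem_support, hfix x]
  have hsum : σ.cycleType.sum = 2 * m := by
    rw [Equiv.Perm.sum_cycleType, hsupp, Finset.card_univ, hcard]
  have hsum' : σ.cycleType.sum = (n + 1) * 2 := by
    rw [hn, Multiset.sum_replicate, smul_eq_mul]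
  have hcardct : Multiset.card σ.cycleType = n + 1 := by rw [hn, Multiset.card_replicate]
  have hnm : n + 1 = m := by omega
  rw [Equiv.Perm.sign_of_cycleType, hsum, hcardct, hnm, pow_add, pow_mul]
  simp [hm.neg_one_pow]

theorem thompson_transfer {G : Type u} [Group G] [Finite G] (P : Sylow 2 G) (Q : Subgroup G)
    (hQP : Q ≤ (P : Subgroup G)) (hQi : Q.relIndex (P : Subgroup G) = 2) (u : G)
    (hu : orderOf u = 2) (hnc : ∀ g : G, g * u * g⁻¹ ∉ Q) :
    ∃ M : Subgroup G, M.Normal ∧ M.index = 2 ∧ u ∉ M := by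
  classical
  have : Fintype (G ⧸ Q) := Fintype.ofFinite _
  let f : G →* ℤˣ := (Equiv.Perm.sign).comp (MulAction.toPermHom G (G ⧸ Q))
  have hidx : Q.index = 2 * (P : Subgroup G).index := by
    rw [← Subgroup.relIndex_mul_index hQP, hQi]
  have hodd : Odd (P : Subgroup G).index := by
    rw [← Nat.not_even_iff_odd, even_iff_two_dvd]
    have := Fact.mk Nat.prime_two
    exact P.not_dvd_index
  set σ := MulAction.toPermHom G (G ⧸ Q) u with hσ
  have hσ2 : σ ^ 2 = 1 := by
    rw [hσ, ← map_pow, ← hu, pow_orderOf_eq_one, map_one]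
  have hσfix : ∀ x, σ x ≠ x := by
    intro x
    obtain ⟨g, rfl⟩ := QuotientGroup.mk_surjective x
    intro hx
    have hx' : u • (g : G ⧸ Q) = (g : G ⧸ Q) := hx
    rw [MulAction.Quotient.smul_mk, QuotientGroup.eq] at hx'
    apply hnc g⁻¹
    have e : g⁻¹ * u * g⁻¹⁻¹ = ((u • g)⁻¹ * g)⁻¹ := by
      rw [smul_eq_mul]; group
    rw [e]
    exact Q.inv_mem hx'
  have hcard : Fintype.card (G ⧸ Q) = 2 * (P : Subgroup G).index := by
    rw [← hidx, Subgroup.index, Nat.card_eq_fintype_card]
  have hfu : f u = -1 :=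
    sign_of_fixed_point_free_involution σ hσ2 hσfix _ hcard hodd
  refine ⟨f.ker, inferInstance, ?_, ?_⟩
  · rw [Subgroup.index_ker]
    have hr : f.range = ⊤ := by
      rw [eq_top_iff]
      intro x _
      rcases Int.units_eq_one_or x with rfl | rfl
      · exact Subgroup.one_mem _
      · exact ⟨u, hfu⟩
    rw [hr, Subgroup.card_top]
    simp
  · intro hmem
    rw [MonoidHom.mem_ker, hfu] at hmem
    exact absurd hmem (by decide)

end Cfsg.Agent.Lib.Helper1
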