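import Mathlib
import Cfsg.Agent.Lib.Helper1.ClassTwo
import Cfsg.Agent.Lib.Helper1.FrattiniP
import Cfsg.Agent.Lib.Helper1.SZHelpers
set_option autoImplicit false
open scoped commutatorElement

namespace Cfsg.Agent.Lib.Helper1

universe u

variable {G : Type u} [Group G]

theorem aut_pow_apply_of_fixed (a : MulAut G) (g c : G) (hg : a g = g * c) (hc : a c = c) (m : ℕ) :
    (a ^ m) g = g * c ^ m := by
  induction m with
  | zero => simp
  | succ m ih =>
    rw [pow_succ', MulAut.mul_apply, ih, map_mul, map_pow, hg, hc, pow_succ', mul_assoc]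

theorem aut_apply_eq_of_fixed_commutator [Finite G] {p : ℕ} (hG : IsPGroup p G)
    (a : MulAut G) (ha : Nat.Coprime (orderOf a) p) (g : G) (hc : a (g⁻¹ * a g) = g⁻¹ * a g) :
    a g = g := by
  set c := g⁻¹ * a g with hcdef
  have hg : a g = g * c := by rw [hcdef]; group
  have h1 := aut_pow_apply_of_fixed a g c hg hc (orderOf a)
  rw [pow_orderOf_eq_one, MulAut.one_apply] at h1
  have h2 : c ^ orderOf a = 1 := by
    have := mul_left_cancel (a := g) (b := 1) (c := c ^ orderOf a) (by rw [mul_one]; exact h1)
    exact this.symm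
  obtain ⟨k, hk⟩ := hG c
  have h3 : orderOf c = 1 :=
    Nat.eq_one_of_dvd_coprimes (ha.pow_right k) (orderOf_dvd_of_pow_eq_one h2)
      (orderOf_dvd_of_pow_eq_one hk)
  rw [orderOf_eq_one_iff] at h3
  rw [hg, h3, mul_one]

/-- Restriction of an automorphism to an invariant subgroup of a finite group. -/
noncomputable def restrictAut [Finite G] (a : MulAut G) (H : Subgroup G) (hH : ∀ x ∈ H, a x ∈ H) :
    MulAut H :=
  MulEquiv.ofBijective
    ({ toFun := fun x => ⟨a (x : G), hH x x.2⟩
       map_one' := Subtype.ext (map_one a)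
       map_mul' := fun x y => Subtype.ext (map_mul a (x : G) (y : G)) } : H →* H)
    (by
      have hinj : Function.Injective (fun x : H => (⟨a (x : G), hH x x.2⟩ : H)) := by
        intro x y hxy
        have := congrArg Subtype.val hxy
        exact Subtype.ext (a.injective this)
      exact ⟨hinj, Finite.injective_iff_surjective.mp hinj⟩)

theorem restrictAut_apply [Finite G] (a : MulAut G) (H : Subgroup G) (hH : ∀ x ∈ H, a x ∈ H)
    (x : H) : ((restrictAut a H hH x : H) : G) = a x := rfl

theorem restrictAut_pow_apply [Finite G] (a : MulAut G) (H : Subgroup G) (hH : ∀ x ∈ H, a x ∈ H)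
    (m : ℕ) (x : H) : ((((restrictAut a H hH) ^ m) x : H) : G) = (a ^ m) x := by
  induction m generalizing x with
  | zero => simp
  | succ m ih =>
    rw [pow_succ, MulAut.mul_apply, ih, restrictAut_apply, pow_succ, MulAut.mul_apply]

theorem orderOf_restrictAut_dvd [Finite G] (a : MulAut G) (H : Subgroup G) (hH : ∀ x ∈ H, a x ∈ H) :
    orderOf (restrictAut a H hH) ∣ orderOf a := by
  apply orderOf_dvd_of_pow_eq_one
  ext x
  rw [restrictAut_pow_apply, pow_orderOf_eq_one]
  rfl

theorem coprime_aut_trivial_of_fix_omega_aux {p : ℕ} [hp : Fact p.Prime] (hp2 : p ≠ 2) :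
    ∀ (n : ℕ) (G : Type u) [Group G] [Finite G], Nat.card G = n → IsPGroup p G →
      ∀ a : MulAut G, Nat.Coprime (orderOf a) p → (∀ x : G, x ^ p = 1 → a x = x) → a = 1 := by
  intro n
  induction n using Nat.strong_induction_on with
  | _ n ih =>
  intro G _ _ hn hG a ha h
  have key : ∀ H : Subgroup G, H ≠ ⊤ → (∀ x ∈ H, a x ∈ H) → ∀ x ∈ H, a x = x := by
    intro H hHtop hH x hx
    have hlt : Nat.card H < n := hn ▸ card_lt_of_ne_top H hHtop
    have h1 := ih (Nat.card H) hlt H rfl (hG.to_subgroup H) (restrictAut a H hH)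
      (Nat.Coprime.coprime_dvd_left (orderOf_restrictAut_dvd a H hH) ha) (by
        intro y hy
        apply Subtype.ext
        rw [restrictAut_apply]
        apply h
        have := congrArg Subtype.val hy
        simpa using this)
    have := restrictAut_apply a H hH ⟨x, hx⟩
    rw [h1] at this
    exact this.symm
  ext g
  rw [MulAut.one_apply]
  by_cases hF : frattini G = ⊤
  · have hbt : (⊥ : Subgroup G) = ⊤ := frattini_nongenerating (by rw [hF]; simp)
    have hall : ∀ x : G, x = 1 := fun x => by
      have : x ∈ (⊥ : Subgroup G) := by rw [hbt]; trivial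
      exact this
    rw [hall g, map_one]
  have hFchar : (frattini G).Characteristic := frattini_characteristic
  have hFn : (frattini G).Normal := Subgroup.normal_of_characteristic _
  have hFinv : ∀ x ∈ frattini G, a x ∈ frattini G := by
    intro x hx
    have := (Subgroup.characteristic_iff_map_eq.mp hFchar) a
    rw [← this]
    exact ⟨x, hx, rfl⟩
  have hFfix := key _ hF hFinv
  set K := Subgroup.closure {c : G | ∃ g : G, c = g⁻¹ * a g} with hK
  have hKinv : ∀ x ∈ K, a x ∈ K := by
    intro x hx
    induction hx using Subgroup.closure_induction with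
    | mem c hc =>
      obtain ⟨g, rfl⟩ := hc
      apply Subgroup.subset_closure
      exact ⟨a g, by rw [map_mul, map_inv]⟩
    | one => rw [map_one]; exact Subgroup.one_mem _
    | mul x y _ _ hx hy => rw [map_mul]; exact Subgroup.mul_mem _ hx hy
    | inv x _ hx => rw [map_inv]; exact Subgroup.inv_mem _ hx
  have hcK : g⁻¹ * a g ∈ K := Subgroup.subset_closure ⟨g, rfl⟩
  apply aut_apply_eq_of_fixed_commutator hG a ha g
  by_cases hKtop : K = ⊤
  · -- Φ ≤ Z(G)
    have hFZ : frattini G ≤ Subgroup.center G := by
      intro z hz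
      have hle : K ≤ Subgroup.centralizer {z} := by
        rw [hK, Subgroup.closure_le]
        rintro c ⟨g', rfl⟩
        rw [SetLike.mem_coe, Subgroup.mem_centralizer_singleton_iff]
        have h1 : a (g' * z * g'⁻¹) = g' * z * g'⁻¹ := hFfix _ (hFn.conj_mem z hz g')
        rw [map_mul, map_mul, map_inv, hFfix z hz] at h1
        have := congrArg (fun t => g'⁻¹ * t * a g') h1
        beta_reduce at this
        rw [show g'⁻¹ * (a g' * z * (a g')⁻¹) * a g' = g'⁻¹ * a g' * z by group,
          show g'⁻¹ * (g' * z * g'⁻¹) * a g' = z * (g'⁻¹ * a g') by group] at this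
        exact this
      rw [hKtop] at hle
      rw [Subgroup.mem_center_iff]
      intro y
      have := hle (Subgroup.mem_top y)
      rw [Subgroup.mem_centralizer_singleton_iff] at this
      exact this
    have hcc : CommCentral G :=
      commCentral_of_commutator_le_center ((commutator_le_frattini_of_isPGroup p hG).trans hFZ)
    have hpowZ : ∀ y : G, y ^ p ∈ Subgroup.center G := fun y =>
      hFZ (pow_prime_mem_frattini_of_isPGroup p hG y)
    have hmul : ∀ x y : G, (x * y) ^ p = x ^ p * y ^ p := by
      intro x y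
      apply hcc.mul_pow_prime_eq hp.out hp2
      rw [← hcc.comm_pow_left, commutatorElement_eq_one_iff_mul_comm]
      exact (Subgroup.mem_center_iff.mp (hpowZ y) x).symm
    apply h
    rw [hmul, inv_pow, ← map_pow, hFfix _ (pow_prime_mem_frattini_of_isPGroup p hG g),
      inv_mul_cancel]
  · exact key K hKtop hKinv _ hcK

/-- For odd `p`, a `p'`-automorphism of a `p`-group fixing all elements of order dividing `p`
is trivial. -/
theorem coprime_aut_trivial_of_fix_omega [Finite G] {p : ℕ} [Fact p.Prime] (hp2 : p ≠ 2)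
    (hG : IsPGroup p G) (a : MulAut G) (ha : Nat.Coprime (orderOf a) p)
    (h : ∀ x : G, x ^ p = 1 → a x = x) : a = 1 :=
  coprime_aut_trivial_of_fix_omega_aux hp2 (Nat.card G) G rfl hG a ha h

theorem coprime_aut_trivial_of_fix_self_centralizing [Finite G] {p : ℕ} [Fact p.Prime] (hG : IsPGroup p G) (H : Subgroup G)
    (hH : H.Characteristic) (h3 : Subgroup.centralizer (H : Set G) ≤ H) (a : MulAut G)
    (ha : Nat.Coprime (orderOf a) p) (h : ∀ x ∈ H, a x = x) : a = 1 := by
  have hHn : H.Normal := Subgroup.normal_of_characteristic H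
  ext g
  rw [MulAut.one_apply]
  apply aut_apply_eq_of_fixed_commutator hG a ha g
  apply h
  apply h3
  rw [Subgroup.mem_centralizer_iff]
  intro z hz
  have h1 : a (g * z * g⁻¹) = g * z * g⁻¹ := h _ (hHn.conj_mem z hz g)
  rw [map_mul, map_mul, map_inv, h z hz] at h1
  -- a g * z * (a g)⁻¹ = g * z * g⁻¹
  have h2 : g⁻¹ * a g * z = z * (g⁻¹ * a g) := by
    have := congrArg (fun t => g⁻¹ * t * a g) h1
    beta_reduce at this
    rw [show g⁻¹ * (a g * z * (a g)⁻¹) * a g = g⁻¹ * a g * z by group,
      show g⁻¹ * (g * z * g⁻¹) * a g = z * (g⁻¹ * a g) by group] at this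
    exact this
  exact h2.symm

end Cfsg.Agent.Lib.Helper1
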