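import Mathlib
import Cfsg.Prelude.Def_Solvable
import Cfsg.Agent.Lib.Lead.SL25Pres

/-!
# S3104 part (1), unit (a): the orbit of size 5

* `sub_S5`: a nonsolvable subgroup of `Perm (Fin 5)` is `A5` or everything.
* `no_normal_three`: a group between `A5` and `S5` has no nontrivial normal 3-subgroup.
* `five_case`: a finite group with a hom to `Perm (Fin 5)` with nonsolvable range and kernel of
  order 1 or 3 is `A5`, `S5`, or has `O_3` of order 3 with quotient `A5` or `S5`.
* `fixing_embeds`, `card_fixing_le_two`, `card_fixing_three`: a group of even permutations fixing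
  a set `D` pointwise embeds in the alternating group of the complement.
-/

set_option autoImplicit false
set_option linter.unusedVariables false
set_option linter.unusedSectionVars false
set_option maxHeartbeats 1000000

namespace Cfsg.Agent.Lib.Helper1.A8D5

open Equiv

theorem card_A5 : Nat.card (alternatingGroup (Fin 5)) = 60 := by
  rw [nat_card_alternatingGroup]
  simp [Nat.factorial]

/-- a subgroup of a group with solvable intersection with the alternating group is solvable -/
theorem solvable_of_inf_alt {α : Type*} [Fintype α] [DecidableEq α] (H : Subgroup (Perm α))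
    (h : Group.IsSolvable ↥(H ⊓ alternatingGroup α)) : Group.IsSolvable H := by
  refine Group.isSolvable_of_ker_le_range
    (Subgroup.inclusion (inf_le_left : H ⊓ alternatingGroup α ≤ H))
    ((Perm.sign : Perm α →* ℤˣ).comp H.subtype) ?_
  intro x hx
  rw [MonoidHom.mem_ker] at hx
  have hx' : (x : Perm α) ∈ alternatingGroup α := by
    rw [Equiv.Perm.mem_alternatingGroup]
    simpa using hx
  exact ⟨⟨x.1, ⟨x.2, hx'⟩⟩, Subtype.ext rfl⟩

/-- a subgroup containing the alternating group is the alternating group or everything -/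
theorem eq_alt_or_top {α : Type*} [Fintype α] [DecidableEq α] (H : Subgroup (Perm α))
    (hA : alternatingGroup α ≤ H) : H = alternatingGroup α ∨ H = ⊤ := by
  by_cases hH : H ≤ alternatingGroup α
  · exact Or.inl (le_antisymm hH hA)
  · right
    obtain ⟨h, hhH, hhA⟩ := SetLike.not_le_iff_exists.1 hH
    rw [Equiv.Perm.mem_alternatingGroup] at hhA
    have hsh : Perm.sign h = -1 := (Int.units_eq_one_or _).resolve_left hhA
    rw [eq_top_iff]
    intro g _
    rcases Int.units_eq_one_or (Perm.sign g) with hg | hg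
    · exact hA (Equiv.Perm.mem_alternatingGroup.2 hg)
    · have : g * h⁻¹ ∈ alternatingGroup α := by
        rw [Equiv.Perm.mem_alternatingGroup, map_mul, map_inv, hg, hsh]
        decide
      have h2 := H.mul_mem (hA this) hhH
      simpa using h2

theorem sub_S5 (H : Subgroup (Perm (Fin 5))) (hns : ¬ Group.IsSolvable H) :
    H = alternatingGroup (Fin 5) ∨ H = ⊤ := by
  apply eq_alt_or_top
  have hdvd : Nat.card ↥(H ⊓ alternatingGroup (Fin 5)) ∣ 60 := by
    rw [← card_A5]
    exact Subgroup.card_dvd_of_le inf_le_right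
  by_cases hlt : Nat.card ↥(H ⊓ alternatingGroup (Fin 5)) < 60
  · exact absurd (solvable_of_inf_alt H
      (Cfsg.Agent.Lib.Lead.SL25Pres.solv_of_card_lt_60 hdvd hlt)) hns
  · have h60 : Nat.card ↥(H ⊓ alternatingGroup (Fin 5)) = 60 :=
      le_antisymm (Nat.le_of_dvd (by norm_num) hdvd) (not_lt.1 hlt)
    have heq : H ⊓ alternatingGroup (Fin 5) = alternatingGroup (Fin 5) :=
      Subgroup.eq_of_le_of_card_ge inf_le_right (by rw [h60, card_A5])
    rw [← heq]
    exact inf_le_left

/-- a group between `A5` and `S5` has no nontrivial normal 3-subgroup -/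
theorem no_normal_three (R : Subgroup (Perm (Fin 5))) (hA : alternatingGroup (Fin 5) ≤ R)
    (N : Subgroup R) [hN : N.Normal] (h3 : IsPGroup 3 N) : N = ⊥ := by
  classical
  -- no element of order 2 in N
  have hno2 : ∀ n : R, n ∈ N → n * n = 1 → n = 1 := by
    intro n hn hn2
    obtain ⟨k, hk⟩ := h3 ⟨n, hn⟩
    have hk' : n ^ (3 ^ k) = 1 := by
      have := congrArg Subtype.val hk
      simpa using this
    have hodd : Odd (3 ^ k) := Odd.pow (by decide)
    obtain ⟨m, hm⟩ := hodd
    rw [hm, pow_succ, pow_mul, pow_two, hn2, one_pow, one_mul] at hk'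
    exact hk'
  let M : Subgroup (alternatingGroup (Fin 5)) := (N.map R.subtype).subgroupOf (alternatingGroup (Fin 5))
  have hMn : M.Normal := by
    constructor
    intro a ha b
    rw [Subgroup.mem_subgroupOf] at ha ⊢
    obtain ⟨n, hn, hna⟩ := Subgroup.mem_map.1 ha
    have hbR : (b : Perm (Fin 5)) ∈ R := hA b.2
    refine Subgroup.mem_map.2 ⟨⟨b.1, hbR⟩ * n * ⟨b.1, hbR⟩⁻¹, hN.conj_mem n hn _, ?_⟩
    simp only [map_mul, map_inv, Subgroup.coe_subtype] at hna ⊢
    rw [hna]
    rfl
  rcases hMn.eq_bot_or_eq_top with hM | hM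
  · -- N meets A5 trivially
    have hinf : ∀ n : R, n ∈ N → Perm.sign (n : Perm (Fin 5)) = 1 → n = 1 := by
      intro n hn hs
      have hmem : (⟨n.1, Equiv.Perm.mem_alternatingGroup.2 hs⟩ : alternatingGroup (Fin 5)) ∈ M := by
        rw [Subgroup.mem_subgroupOf]
        exact Subgroup.mem_map.2 ⟨n, hn, rfl⟩
      rw [hM, Subgroup.mem_bot] at hmem
      have := congrArg Subtype.val hmem
      exact Subtype.ext this
    rw [eq_bot_iff]
    intro n hn
    rw [Subgroup.mem_bot]
    rcases Int.units_eq_one_or (Perm.sign (n : Perm (Fin 5))) with hs | hs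
    · exact hinf n hn hs
    · apply hno2 n hn
      apply hinf (n * n) (N.mul_mem hn hn)
      rw [Subgroup.coe_mul, map_mul, hs]
      decide
  · -- A5 inside N: an involution in a 3-group
    exfalso
    have ht : (Equiv.swap 0 1 * Equiv.swap 2 3 : Perm (Fin 5)) ∈ alternatingGroup (Fin 5) := by
      rw [Equiv.Perm.mem_alternatingGroup]; decide
    have hmem : (⟨Equiv.swap 0 1 * Equiv.swap 2 3, ht⟩ : alternatingGroup (Fin 5)) ∈ M := by
      rw [hM]; trivial
    rw [Subgroup.mem_subgroupOf] at hmem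
    obtain ⟨n, hn, hnt⟩ := Subgroup.mem_map.1 hmem
    have hnt' : (n : Perm (Fin 5)) = Equiv.swap 0 1 * Equiv.swap 2 3 := hnt
    have h1 : n = 1 := by
      apply hno2 n hn
      apply Subtype.ext
      rw [Subgroup.coe_mul, hnt', Subgroup.coe_one]
      decide
    rw [h1] at hnt'
    have hne : ((1 : R) : Perm (Fin 5)) ≠ Equiv.swap 0 1 * Equiv.swap 2 3 := by
      rw [Subgroup.coe_one]; decide
    exact hne hnt'

theorem pCore_normal_isPGroup {G : Type*} [Group G] [Finite G] (p : ℕ) [Fact p.Prime] :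
    (Cfsg.pCore p G).Normal ∧ IsPGroup p (Cfsg.pCore p G) := by
  have hs : SupClosed {N : Subgroup G | N.Normal ∧ IsPGroup p N} := by
    rintro A ⟨hA, hA'⟩ B ⟨hB, hB'⟩
    exact ⟨inferInstance, IsPGroup.to_sup_of_normal_right hA' hB'⟩
  exact hs.sSup_mem_of_nonempty (Set.toFinite _) ⟨⊥, inferInstance, IsPGroup.of_bot⟩ le_rfl

theorem five_case {Y : Type*} [Group Y] [Finite Y] (φ : Y →* Equiv.Perm (Fin 5))
    (hns : ¬ Group.IsSolvable φ.range) (hker : Nat.card φ.ker = 1 ∨ Nat.card φ.ker = 3) :
    (Nonempty (Y ≃* alternatingGroup (Fin 5)) ∨ Nonempty (Y ≃* Equiv.Perm (Fin 5))) ∨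
    (Nat.card (Cfsg.pCore 3 Y) = 3 ∧
      (Nonempty (Y ⧸ Cfsg.pCore 3 Y ≃* alternatingGroup (Fin 5)) ∨
       Nonempty (Y ⧸ Cfsg.pCore 3 Y ≃* Equiv.Perm (Fin 5)))) := by
  classical
  have hR := sub_S5 φ.range hns
  have hAR : alternatingGroup (Fin 5) ≤ φ.range := by
    rcases hR with h | h
    · rw [h]
    · rw [h]; exact le_top
  -- the range is A5 or S5 up to iso
  have hiso : Nonempty (φ.range ≃* alternatingGroup (Fin 5)) ∨
      Nonempty (φ.range ≃* Equiv.Perm (Fin 5)) := by
    rcases hR with h | h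
    · exact Or.inl ⟨MulEquiv.subgroupCongr h⟩
    · exact Or.inr ⟨(MulEquiv.subgroupCongr h).trans Subgroup.topEquiv⟩
  rcases hker with h1 | h3
  · left
    have hinj : Function.Injective φ := by
      rw [← MonoidHom.ker_eq_bot_iff]
      exact Subgroup.card_eq_one.1 h1
    have e : Y ≃* φ.range := MonoidHom.ofInjective hinj
    rcases hiso with ⟨⟨f⟩⟩ | ⟨⟨f⟩⟩
    · exact Or.inl ⟨e.trans f⟩
    · exact Or.inr ⟨e.trans f⟩
  · right
    have : Fact (Nat.Prime 3) := ⟨by norm_num⟩
    obtain ⟨hPn, hP3⟩ := pCore_normal_isPGroup (G := Y) 3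
    have hK3 : IsPGroup 3 φ.ker := IsPGroup.of_card (n := 1) (by rw [h3]; norm_num)
    have hle : φ.ker ≤ Cfsg.pCore 3 Y := le_sSup ⟨inferInstance, hK3⟩
    have hge : Cfsg.pCore 3 Y ≤ φ.ker := by
      -- the image of the core in the range is a normal 3-subgroup
      have hsurj : Function.Surjective φ.rangeRestrict := φ.rangeRestrict_surjective
      have : ((Cfsg.pCore 3 Y).map φ.rangeRestrict).Normal := hPn.map _ hsurj
      have h3' : IsPGroup 3 ((Cfsg.pCore 3 Y).map φ.rangeRestrict) := hP3.map _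
      have hbot := no_normal_three φ.range hAR _ h3'
      intro y hy
      rw [MonoidHom.mem_ker]
      have : φ.rangeRestrict y ∈ (Cfsg.pCore 3 Y).map φ.rangeRestrict :=
        Subgroup.mem_map_of_mem _ hy
      rw [hbot, Subgroup.mem_bot] at this
      have := congrArg Subtype.val this
      simpa using this
    have heq : Cfsg.pCore 3 Y = φ.ker := le_antisymm hge hle
    refine ⟨by rw [heq, h3], ?_⟩
    have e : Y ⧸ Cfsg.pCore 3 Y ≃* φ.range :=
      (QuotientGroup.quotientMulEquivOfEq heq).trans (QuotientGroup.quotientKerEquivRange φ)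
    rcases hiso with ⟨⟨f⟩⟩ | ⟨⟨f⟩⟩
    · exact Or.inl ⟨e.trans f⟩
    · exact Or.inr ⟨e.trans f⟩

/-! ### the kernel on an orbit acts evenly on the complement -/

theorem fixing_embeds {α : Type*} [Fintype α] [DecidableEq α] (K : Subgroup (Equiv.Perm α))
    (hK : K ≤ alternatingGroup α) (D : Finset α) (hfix : ∀ k ∈ K, ∀ d ∈ D, k d = d) :
    ∃ f : K →* alternatingGroup {x // x ∉ D}, Function.Injective f := by
  classical
  have hiff : ∀ k : K, ∀ x, (k.1 x ∉ D) ↔ (x ∉ D) := by
    intro k x
    constructor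
    · intro h hx
      exact h (by rw [hfix k.1 k.2 x hx]; exact hx)
    · intro h hx
      apply h
      have h2 := hfix k.1 k.2 _ hx
      have : k.1 x = x := k.1.injective h2
      rw [← this]; exact hx
  have hmove : ∀ k : K, ∀ x, k.1 x ≠ x → x ∉ D := by
    intro k x hx hD
    exact hx (hfix k.1 k.2 x hD)
  have hsign : ∀ k : K, Perm.subtypePerm k.1 (hiff k) ∈ alternatingGroup {x // x ∉ D} := by
    intro k
    rw [Equiv.Perm.mem_alternatingGroup, Equiv.Perm.sign_subtypePerm _ _ (hmove k)]
    exact Equiv.Perm.mem_alternatingGroup.1 (hK k.2)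
  refine ⟨MonoidHom.mk' (fun k => ⟨Perm.subtypePerm k.1 (hiff k), hsign k⟩) ?_, ?_⟩
  · intro a b
    apply Subtype.ext
    rfl
  · intro a b hab
    have hab' : Perm.subtypePerm a.1 (hiff a) = Perm.subtypePerm b.1 (hiff b) :=
      congrArg Subtype.val hab
    apply Subtype.ext
    apply Equiv.ext
    intro x
    by_cases hx : x ∈ D
    · rw [hfix a.1 a.2 x hx, hfix b.1 b.2 x hx]
    · have := congrArg (fun p : Perm {x // x ∉ D} => (p ⟨x, hx⟩ : α)) hab'
      simpa [Perm.subtypePerm_apply] using this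

theorem card_compl {α : Type*} [Fintype α] [DecidableEq α] (D : Finset α) :
    Fintype.card {x // x ∉ D} = Fintype.card α - D.card := by
  rw [Fintype.card_subtype_compl (fun x => x ∈ D), Fintype.card_coe]

theorem card_fixing_three {α : Type*} [Fintype α] [DecidableEq α] (K : Subgroup (Equiv.Perm α))
    (hK : K ≤ alternatingGroup α) (D : Finset α) (hfix : ∀ k ∈ K, ∀ d ∈ D, k d = d)
    (hD : Fintype.card α - D.card = 3) : Nat.card K = 1 ∨ Nat.card K = 3 := by
  classical
  obtain ⟨f, hf⟩ := fixing_embeds K hK D hfix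
  have hc : Fintype.card {x // x ∉ D} = 3 := by rw [card_compl, hD]
  have : Nontrivial {x // x ∉ D} := Fintype.one_lt_card_iff_nontrivial.1 (by rw [hc]; norm_num)
  have h3 : Nat.card (alternatingGroup {x // x ∉ D}) = 3 := by
    rw [nat_card_alternatingGroup, Nat.card_eq_fintype_card, hc]
    rfl
  have hdvd : Nat.card K ∣ 3 := by
    rw [← h3]
    exact Subgroup.card_dvd_of_injective f hf
  rcases (Nat.dvd_prime (by norm_num : Nat.Prime 3)).1 hdvd with h | h
  · exact Or.inl h
  · exact Or.inr h

theorem card_fixing_le_two {α : Type*} [Fintype α] [DecidableEq α] (K : Subgroup (Equiv.Perm α))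
    (hK : K ≤ alternatingGroup α) (D : Finset α) (hfix : ∀ k ∈ K, ∀ d ∈ D, k d = d)
    (hD : Fintype.card α - D.card ≤ 2) : K = ⊥ := by
  classical
  obtain ⟨f, hf⟩ := fixing_embeds K hK D hfix
  have hc : Fintype.card {x // x ∉ D} ≤ 2 := by rw [card_compl]; exact hD
  have h1 : Nat.card (alternatingGroup {x // x ∉ D}) = 1 := by
    by_cases hnt : Nontrivial {x // x ∉ D}
    · have h2 : Fintype.card {x // x ∉ D} = 2 :=
        le_antisymm hc (Fintype.one_lt_card_iff_nontrivial.2 hnt)
      rw [nat_card_alternatingGroup, Nat.card_eq_fintype_card, h2]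
      rfl
    · rw [not_nontrivial_iff_subsingleton] at hnt
      have : Subsingleton (Perm {x // x ∉ D}) := inferInstance
      have : Subsingleton (alternatingGroup {x // x ∉ D}) := inferInstance
      exact Nat.card_unique
  have hdvd : Nat.card K ∣ 1 := by
    rw [← h1]
    exact Subgroup.card_dvd_of_injective f hf
  exact Subgroup.card_eq_one.1 (Nat.dvd_one.1 hdvd)

end Cfsg.Agent.Lib.Helper1.A8D5
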