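import Mathlib
import Cfsg.Agent.Lib.Helper1.A8D5

/-! S3104 part (1), unit U2 in the coordinator's shape: wrapper around `A8D5.five_case`. -/

set_option autoImplicit false

namespace Cfsg.Agent.Lib.Helper1.A8D5

theorem case_five {Y : Type*} [Group Y] [Finite Y] (g : Y →* Equiv.Perm (Fin 5))
    (hns : ¬ Group.IsSolvable ↥g.range) :
    (Function.Injective g → Nonempty (Y ≃* ↥(alternatingGroup (Fin 5))) ∨
        Nonempty (Y ≃* Equiv.Perm (Fin 5))) ∧
    (Nat.card ↥g.ker = 3 → Nat.card ↥(Cfsg.pCore 3 Y) = 3 ∧
      (Nonempty (Y ⧸ Cfsg.pCore 3 Y ≃* ↥(alternatingGroup (Fin 5))) ∨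
        Nonempty (Y ⧸ Cfsg.pCore 3 Y ≃* Equiv.Perm (Fin 5)))) := by
  constructor
  · intro hinj
    have hk : Nat.card ↥g.ker = 1 :=
      Subgroup.card_eq_one.2 ((MonoidHom.ker_eq_bot_iff g).2 hinj)
    rcases five_case g hns (Or.inl hk) with h | ⟨h3, _⟩
    · exact h
    · -- the core contains no element outside the kernel; here the kernel is trivial
      exfalso
      have h3' : IsPGroup 3 (Cfsg.pCore 3 Y) := by
        have : Fact (Nat.Prime 3) := ⟨by norm_num⟩
        exact (pCore_normal_isPGroup (G := Y) 3).2
      have : Fact (Nat.Prime 3) := ⟨by norm_num⟩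
      have hPn : (Cfsg.pCore 3 Y).Normal := (pCore_normal_isPGroup (G := Y) 3).1
      have hA : alternatingGroup (Fin 5) ≤ g.range := by
        rcases sub_S5 g.range hns with h | h
        · rw [h]
        · rw [h]; exact le_top
      have : ((Cfsg.pCore 3 Y).map g.rangeRestrict).Normal :=
        hPn.map _ g.rangeRestrict_surjective
      have hbot := no_normal_three g.range hA _ (h3'.map g.rangeRestrict)
      have hle : Cfsg.pCore 3 Y ≤ g.ker := by
        intro y hy
        rw [MonoidHom.mem_ker]
        have : g.rangeRestrict y ∈ (Cfsg.pCore 3 Y).map g.rangeRestrict :=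
          Subgroup.mem_map_of_mem _ hy
        rw [hbot, Subgroup.mem_bot] at this
        have := congrArg Subtype.val this
        simpa using this
      have : Nat.card ↥(Cfsg.pCore 3 Y) ∣ Nat.card ↥g.ker := Subgroup.card_dvd_of_le hle
      rw [h3, hk] at this
      omega
  · intro hk
    rcases five_case g hns (Or.inr hk) with h | h
    · -- Y itself is A5 or S5: then its 3-core is trivial, but the kernel has order 3
      exfalso
      have : Fact (Nat.Prime 3) := ⟨by norm_num⟩
      have hK3 : IsPGroup 3 g.ker := IsPGroup.of_card (n := 1) (by rw [hk]; norm_num)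
      have hcard : Nat.card Y = Nat.card ↥g.ker * Nat.card ↥g.range := by
        rw [← Nat.card_congr (QuotientGroup.quotientKerEquivRange g).toEquiv, mul_comm]
        exact Subgroup.card_eq_card_quotient_mul_card_subgroup g.ker
      have hR : Nat.card ↥g.range = 60 ∨ Nat.card ↥g.range = 120 := by
        rcases sub_S5 g.range hns with h' | h'
        · left; rw [h', card_A5]
        · right; rw [h', Subgroup.card_top, Nat.card_eq_fintype_card, Fintype.card_perm]; rfl
      have hY : Nat.card Y = 60 ∨ Nat.card Y = 120 := by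
        rcases h with ⟨⟨e⟩⟩ | ⟨⟨e⟩⟩
        · left; rw [Nat.card_congr e.toEquiv, card_A5]
        · right; rw [Nat.card_congr e.toEquiv, Nat.card_eq_fintype_card, Fintype.card_perm]; rfl
      rw [hk] at hcard
      rcases hR with h1 | h1 <;> rcases hY with h2 | h2 <;> omega
    · exact h

end Cfsg.Agent.Lib.Helper1.A8D5
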