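import Mathlib

set_option autoImplicit false
set_option linter.unusedVariables false
set_option linter.unusedSectionVars false
set_option linter.style.longLine false

/-!
# S3406: finite simple groups with `Aut(G)` transitive on the elements of each order — definitions

`AT G`: elements of the same order are conjugate under `MulAut G`.
`TwoP G p r`: spectrum `{1, 2, p, 2p, r}`;  `OddPQ G p q r`: odd order, spectrum `{1, p, q, r, pq}`.
-/

namespace Cfsg.Agent.Lib.Helper1.AO

/-- `Aut(G)` is transitive on the elements of each order. -/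
def AT (G : Type*) [Group G] : Prop :=
  ∀ x y : G, orderOf x = orderOf y → ∃ α : MulAut G, α x = y

/-- the number of elements of order `m`. -/
noncomputable def cnt (G : Type*) [Group G] (m : ℕ) : ℕ := Nat.card {x : G // orderOf x = m}

/-- the order of the centralizer of `x`. -/
noncomputable def cz {G : Type*} [Group G] (x : G) : ℕ :=
  Nat.card (Subgroup.centralizer ({x} : Set G))

/-- the number of elements of order `m` commuting with `x`. -/
noncomputable def com {G : Type*} [Group G] (m : ℕ) (x : G) : ℕ :=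
  Nat.card {y : G // orderOf y = m ∧ y * x = x * y}

/-- the number of conjugates of `x` lying in the subgroup `L`. -/
noncomputable def kap {G : Type*} [Group G] (L : Subgroup G) (x : G) : ℕ :=
  Nat.card {z : G // z ∈ L ∧ IsConj x z}

/-- spectrum `{1, 2, p, 2p, r}` with `Aut`-transitivity on each order, `G` nonabelian simple. -/
structure TwoP (G : Type*) [Group G] (p r : ℕ) : Prop where
  simple : IsSimpleGroup G
  nonab : ∃ a b : G, a * b ≠ b * a
  aut : AT G
  hp : p.Prime
  hr : r.Prime
  hp2 : p ≠ 2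
  hr2 : r ≠ 2
  hpr : p ≠ r
  spec : ∀ x : G, orderOf x = 1 ∨ orderOf x = 2 ∨ orderOf x = p ∨ orderOf x = 2 * p ∨ orderOf x = r
  ex : ∃ x : G, orderOf x = 2 * p
  exr : ∃ x : G, orderOf x = r

/-- odd order, spectrum `{1, p, q, r, pq}` with `Aut`-transitivity on each order, `G` nonabelian
simple. -/
structure OddPQ (G : Type*) [Group G] (p q r : ℕ) : Prop where
  simple : IsSimpleGroup G
  nonab : ∃ a b : G, a * b ≠ b * a
  aut : AT G
  odd : Odd (Nat.card G)
  hp : p.Prime
  hq : q.Prime
  hr : r.Prime
  hpq : p ≠ q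
  hpr : p ≠ r
  hqr : q ≠ r
  spec : ∀ x : G, orderOf x = 1 ∨ orderOf x = p ∨ orderOf x = q ∨ orderOf x = r ∨ orderOf x = p * q
  ex : ∃ x : G, orderOf x = p * q
  exr : ∃ x : G, orderOf x = r

/-- CASE 1 for the involution `t`: `C_G(t)` has a normal `p`-subgroup containing all its elements
of order `p`. -/
def Case1 {G : Type*} [Group G] (p : ℕ) (t : G) : Prop :=
  ∃ Pt : Subgroup G, IsPGroup p Pt ∧ Pt ≤ Subgroup.centralizer ({t} : Set G) ∧
    (∀ c ∈ Subgroup.centralizer ({t} : Set G), ∀ x ∈ Pt, c * x * c⁻¹ ∈ Pt) ∧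
    ∀ x : G, orderOf x = p → x * t = t * x → x ∈ Pt

/-- CASE 2 for the element `t`: `C_G(t)` has no nontrivial normal `p`-subgroup. -/
def Case2 {G : Type*} [Group G] (p : ℕ) (t : G) : Prop :=
  ∀ N : Subgroup G, IsPGroup p N → N ≤ Subgroup.centralizer ({t} : Set G) →
    (∀ c ∈ Subgroup.centralizer ({t} : Set G), ∀ x ∈ N, c * x * c⁻¹ ∈ N) → N = ⊥

end Cfsg.Agent.Lib.Helper1.AO
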