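import Mathlib
import Cfsg.Agent.Lib.Helper1.SL2Q8d
set_option autoImplicit false
open Matrix
universe u
namespace Cfsg.Agent.Lib.Helper1.Dickson

open Cfsg.Agent.Lib.Helper1.SL2Three

variable {K : Type u} [Field K]

local notation "SL2" => Matrix.SpecialLinearGroup (Fin 2) K
local notation "M2" => Matrix (Fin 2) (Fin 2) K

/-- the four entries -/
def ea (g : SL2) : K := (g : M2) 0 0
def eb (g : SL2) : K := (g : M2) 0 1
def ec (g : SL2) : K := (g : M2) 1 0
def ed (g : SL2) : K := (g : M2) 1 1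

theorem ext_entries {g h : SL2} (h1 : ea g = ea h) (h2 : eb g = eb h) (h3 : ec g = ec h)
    (h4 : ed g = ed h) : g = h := by
  ext i j
  fin_cases i <;> fin_cases j
  · exact h1
  · exact h2
  · exact h3
  · exact h4

theorem det_eq (g : SL2) : ea g * ed g - eb g * ec g = 1 := by
  have := g.det_coe
  rwa [Matrix.det_fin_two] at this

@[simp] theorem ea_one : ea (1 : SL2) = 1 := by simp [ea]
@[simp] theorem eb_one : eb (1 : SL2) = 0 := by simp [eb]
@[simp] theorem ec_one : ec (1 : SL2) = 0 := by simp [ec]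
@[simp] theorem ed_one : ed (1 : SL2) = 1 := by simp [ed]

theorem ea_mul (g h : SL2) : ea (g * h) = ea g * ea h + eb g * ec h := by
  simp [ea, eb, ec, Matrix.mul_apply, Fin.sum_univ_two]
theorem eb_mul (g h : SL2) : eb (g * h) = ea g * eb h + eb g * ed h := by
  simp [ea, eb, ed, Matrix.mul_apply, Fin.sum_univ_two]
theorem ec_mul (g h : SL2) : ec (g * h) = ec g * ea h + ed g * ec h := by
  simp [ea, ec, ed, Matrix.mul_apply, Fin.sum_univ_two]
theorem ed_mul (g h : SL2) : ed (g * h) = ec g * eb h + ed g * ed h := by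
  simp [eb, ec, ed, Matrix.mul_apply, Fin.sum_univ_two]

theorem ea_inv (g : SL2) : ea g⁻¹ = ed g := by
  simp [ea, ed, Matrix.SpecialLinearGroup.coe_inv, Matrix.adjugate_fin_two]
theorem eb_inv (g : SL2) : eb g⁻¹ = -eb g := by
  simp [eb, Matrix.SpecialLinearGroup.coe_inv, Matrix.adjugate_fin_two]
theorem ec_inv (g : SL2) : ec g⁻¹ = -ec g := by
  simp [ec, Matrix.SpecialLinearGroup.coe_inv, Matrix.adjugate_fin_two]
theorem ed_inv (g : SL2) : ed g⁻¹ = ea g := by
  simp [ea, ed, Matrix.SpecialLinearGroup.coe_inv, Matrix.adjugate_fin_two]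

@[simp] theorem ea_neg (g : SL2) : ea (-g) = -ea g := by simp [ea]
@[simp] theorem eb_neg (g : SL2) : eb (-g) = -eb g := by simp [eb]
@[simp] theorem ec_neg (g : SL2) : ec (-g) = -ec g := by simp [ec]
@[simp] theorem ed_neg (g : SL2) : ed (-g) = -ed g := by simp [ed]

@[simp] theorem ea_xmat (s : K) : ea (xmat K s) = 1 := by simp [ea]
@[simp] theorem eb_xmat (s : K) : eb (xmat K s) = s := by simp [eb]
@[simp] theorem ec_xmat (s : K) : ec (xmat K s) = 0 := by simp [ec]
@[simp] theorem ed_xmat (s : K) : ed (xmat K s) = 1 := by simp [ed]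

theorem trace_eq (g : SL2) : (g : M2).trace = ea g + ed g := by
  rw [Matrix.trace_fin_two]; rfl

theorem xmat_neg (s : K) : xmat K (-s) = (xmat K s)⁻¹ := by
  apply ext_entries <;> simp [ea_inv, eb_inv, ec_inv, ed_inv]

theorem xmat_injective : Function.Injective (xmat K) := by
  intro s t h
  have := congrArg eb h
  simpa using this

/-- entries of the conjugate `y u(s) y⁻¹` -/
theorem ea_conj (y : SL2) (s : K) : ea (y * xmat K s * y⁻¹) = 1 - s * ea y * ec y := by
  have hd := det_eq y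
  simp only [ea_mul, eb_mul, ea_inv, ec_inv, ea_xmat, eb_xmat, ec_xmat, ed_xmat]
  linear_combination hd
theorem ec_conj (y : SL2) (s : K) : ec (y * xmat K s * y⁻¹) = -s * ec y * ec y := by
  have hd := det_eq y
  simp only [ec_mul, ed_mul, ea_inv, ec_inv, ea_xmat, eb_xmat, ec_xmat, ed_xmat]
  ring
theorem ed_conj (y : SL2) (s : K) : ed (y * xmat K s * y⁻¹) = 1 + s * ea y * ec y := by
  have hd := det_eq y
  simp only [ec_mul, ed_mul, eb_inv, ed_inv, ea_xmat, eb_xmat, ec_xmat, ed_xmat]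
  linear_combination hd
theorem eb_conj (y : SL2) (s : K) : eb (y * xmat K s * y⁻¹) = s * ea y * ea y := by
  simp only [ea_mul, eb_mul, eb_inv, ed_inv, ea_xmat, eb_xmat, ec_xmat, ed_xmat]
  ring

/-- the trace of `u(1) · g u(1) g⁻¹` -/
theorem trace_xmat_conj (g : SL2) :
    ((xmat K 1 * (g * xmat K 1 * g⁻¹) : SL2) : M2).trace = 2 - ec g * ec g := by
  rw [trace_eq, ea_mul, ed_mul, ea_conj, ec_conj, ed_conj]
  simp only [ea_xmat, eb_xmat, ec_xmat, ed_xmat]
  ring

end Cfsg.Agent.Lib.Helper1.Dickson
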