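import Mathlib
import Cfsg.Agent.Lib.Helper1.Dickson1
set_option autoImplicit false
open Matrix
universe u
namespace Cfsg.Agent.Lib.Helper1.Dickson

open Cfsg.Agent.Lib.Helper1.SL2Three

variable {K : Type u} [Field K]

local notation "SL2" => Matrix.SpecialLinearGroup (Fin 2) K
local notation "M2" => Matrix (Fin 2) (Fin 2) K

variable (L : Subgroup (Matrix.SpecialLinearGroup (Fin 2) K))

/-- the additive group of `s` with `u(s) ∈ L` -/
def Aset : AddSubgroup K where
  carrier := {s | xmat K s ∈ L}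
  zero_mem' := by
    show xmat K 0 ∈ L
    rw [xmat_zero]; exact L.one_mem
  add_mem' := by
    intro a b ha hb
    show xmat K (a + b) ∈ L
    rw [xmat_add]; exact L.mul_mem ha hb
  neg_mem' := by
    intro a ha
    show xmat K (-a) ∈ L
    rw [xmat_neg]; exact L.inv_mem ha

theorem mem_Aset {s : K} : s ∈ Aset L ↔ xmat K s ∈ L := Iff.rfl

/-- the group of diagonal entries of the upper triangular elements of `L` -/
def Cgrp : Subgroup Kˣ where
  carrier := {ν | ∃ n ∈ L, ec n = 0 ∧ ea n = (ν : K)}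
  one_mem' := ⟨1, L.one_mem, by simp, by simp⟩
  mul_mem' := by
    rintro a b ⟨n, hn, hn0, hna⟩ ⟨m, hm, hm0, hma⟩
    refine ⟨n * m, L.mul_mem hn hm, ?_, ?_⟩
    · rw [ec_mul, hn0, hm0]; ring
    · rw [ea_mul, hm0, hna, hma]; simp
  inv_mem' := by
    rintro a ⟨n, hn, hn0, hna⟩
    refine ⟨n⁻¹, L.inv_mem hn, ?_, ?_⟩
    · rw [ec_inv, hn0, neg_zero]
    · rw [ea_inv]
      have hd := det_eq n
      rw [hn0, hna, mul_zero, sub_zero] at hd
      rw [Units.val_inv_eq_inv_val]
      exact eq_inv_of_mul_eq_one_right hd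

theorem mem_Cgrp {ν : Kˣ} : ν ∈ Cgrp L ↔ ∃ n ∈ L, ec n = 0 ∧ ea n = (ν : K) := Iff.rfl

/-- upper triangular elements of `L` -/
def NT : Type u := {n : SL2 // n ∈ L ∧ ec n = 0}
/-- the other elements of `L` -/
def XT : Type u := {y : SL2 // y ∈ L ∧ ec y ≠ 0}
/-- unipotent elements outside the Borel subgroup -/
def VT : Type u := {v : SL2 // v ∈ L ∧ ec v ≠ 0 ∧ ea v + ed v = 2}
/-- elements whose double coset contains a unipotent element -/
def XP : Type u := {y : SL2 // y ∈ L ∧ ec y ≠ 0 ∧ ∃ r ∈ Aset L, ea y + ed y + r * ec y = 2}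
/-- elements whose double coset contains the negative of a unipotent element -/
def XM : Type u := {y : SL2 // y ∈ L ∧ ec y ≠ 0 ∧ ∃ r ∈ Aset L, ea y + ed y + r * ec y = -2}
/-- nonzero translations -/
def A0 : Type u := {s : K // s ∈ Aset L ∧ s ≠ 0}

instance [Finite L] : Finite (NT L) :=
  Finite.of_injective (fun n : NT L => (⟨n.1, n.2.1⟩ : L)) (by
    intro a b h; exact Subtype.ext (congrArg (fun x : L => (x : SL2)) h))
instance [Finite L] : Finite (XT L) :=
  Finite.of_injective (fun n : XT L => (⟨n.1, n.2.1⟩ : L)) (by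
    intro a b h; exact Subtype.ext (congrArg (fun x : L => (x : SL2)) h))
instance [Finite L] : Finite (VT L) :=
  Finite.of_injective (fun n : VT L => (⟨n.1, n.2.1⟩ : L)) (by
    intro a b h; exact Subtype.ext (congrArg (fun x : L => (x : SL2)) h))
instance [Finite L] : Finite (XP L) :=
  Finite.of_injective (fun n : XP L => (⟨n.1, n.2.1⟩ : L)) (by
    intro a b h; exact Subtype.ext (congrArg (fun x : L => (x : SL2)) h))
instance [Finite L] : Finite (XM L) :=
  Finite.of_injective (fun n : XM L => (⟨n.1, n.2.1⟩ : L)) (by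
    intro a b h; exact Subtype.ext (congrArg (fun x : L => (x : SL2)) h))
instance [Finite L] : Finite (Aset L) :=
  Finite.of_injective (fun s : Aset L => (⟨xmat K s.1, s.2⟩ : L)) (by
    intro a b h
    have := congrArg (fun x : L => (x : SL2)) h
    exact Subtype.ext (xmat_injective this))
instance [Finite L] : Finite (A0 L) :=
  Finite.of_injective (fun s : A0 L => (⟨s.1, s.2.1⟩ : Aset L)) (by
    intro a b h; exact Subtype.ext (congrArg (fun x : Aset L => (x : K)) h))

theorem ea_ne_zero_of_ec {n : SL2} (h : ec n = 0) : ea n ≠ 0 := by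
  intro h0
  have hd := det_eq n
  rw [h, h0] at hd
  simp at hd

theorem ed_eq_inv_of_ec {n : SL2} (h : ec n = 0) : ed n = (ea n)⁻¹ := by
  have hd := det_eq n
  rw [h, mul_zero, sub_zero] at hd
  exact eq_inv_of_mul_eq_one_right hd

/-- the diagonal character on `NT` -/
noncomputable def chiN (n : NT L) : Cgrp L :=
  ⟨Units.mk0 (ea n.1) (ea_ne_zero_of_ec n.2.2), n.1, n.2.1, n.2.2, rfl⟩

theorem chiN_surjective : Function.Surjective (chiN L) := by
  rintro ⟨ν, n, hn, hn0, hna⟩
  refine ⟨⟨n, hn, hn0⟩, ?_⟩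
  apply Subtype.ext
  apply Units.ext
  exact hna

instance [Finite L] : Finite (Cgrp L) := Finite.of_surjective (chiN L) (chiN_surjective L)

/-- a chosen section of `chiN` -/
noncomputable def secN (ν : Cgrp L) : NT L := Classical.choose (chiN_surjective L ν)

theorem chiN_secN (ν : Cgrp L) : chiN L (secN L ν) = ν := Classical.choose_spec (chiN_surjective L ν)

theorem ea_secN (ν : Cgrp L) : ea (secN L ν).1 = ((ν : Kˣ) : K) := by
  have := chiN_secN L ν
  have h2 := congrArg (fun x : Cgrp L => ((x : Kˣ) : K)) this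
  exact h2

/-- first count: `|N| ≤ |A| |C|` -/
theorem card_NT_le [Finite L] : Nat.card (NT L) ≤ Nat.card (Aset L) * Nat.card (Cgrp L) := by
  rw [← Nat.card_prod]
  let f : NT L → Aset L × Cgrp L := fun n =>
    (⟨ea n.1 * (eb n.1 - eb (secN L (chiN L n)).1), by
      rw [mem_Aset]
      have hn0 := ea_secN L (chiN L n)
      have e : xmat K (ea n.1 * (eb n.1 - eb (secN L (chiN L n)).1)) =
          n.1 * ((secN L (chiN L n)).1)⁻¹ := by
        have h0 : ec (secN L (chiN L n)).1 = 0 := (secN L (chiN L n)).2.2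
        have ha : ea (secN L (chiN L n)).1 = ea n.1 := hn0
        have hd := ed_eq_inv_of_ec h0
        have hne := ea_ne_zero_of_ec n.2.2
        have hdn := ed_eq_inv_of_ec n.2.2
        apply ext_entries
        · rw [ea_mul, ea_inv, ec_inv, h0, hd, ha]; simp [hne]
        · rw [eb_mul, eb_inv, ed_inv, ha]; simp; ring
        · rw [ec_mul, ea_inv, ec_inv, h0, n.2.2]; simp
        · rw [ed_mul, eb_inv, ed_inv, n.2.2, ha, hdn]; simp [hne]
      rw [e]
      exact L.mul_mem n.2.1 (L.inv_mem (secN L (chiN L n)).2.1)⟩, chiN L n)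
  apply Nat.card_le_card_of_injective f
  intro n m h
  have h1 : chiN L n = chiN L m := congrArg Prod.snd h
  have h2 := congrArg (fun x : Aset L × Cgrp L => ((x.1 : Aset L) : K)) h
  simp only [f] at h2
  rw [h1] at h2
  have hea : ea n.1 = ea m.1 := by
    have := congrArg (fun x : Cgrp L => ((x : Kˣ) : K)) h1
    exact this
  rw [hea] at h2
  have hne := ea_ne_zero_of_ec m.2.2
  have heb : eb n.1 = eb m.1 := by
    have := mul_left_cancel₀ hne h2
    linear_combination this
  apply Subtype.ext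
  apply ext_entries hea heb
  · rw [n.2.2, m.2.2]
  · rw [ed_eq_inv_of_ec n.2.2, ed_eq_inv_of_ec m.2.2, hea]

end Cfsg.Agent.Lib.Helper1.Dickson
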