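import Mathlib
import Cfsg.Agent.Lib.Helper1.Dickson2
set_option autoImplicit false
open Matrix
universe u
namespace Cfsg.Agent.Lib.Helper1.Dickson

open Cfsg.Agent.Lib.Helper1.SL2Three

variable {K : Type u} [Field K]

local notation "SL2" => Matrix.SpecialLinearGroup (Fin 2) K
local notation "M2" => Matrix (Fin 2) (Fin 2) K

variable (L : Subgroup (Matrix.SpecialLinearGroup (Fin 2) K))

/-- conjugates of nontrivial translations -/
noncomputable def conjV (x : XT L × A0 L) : VT L :=
  ⟨x.1.1 * xmat K x.2.1 * x.1.1⁻¹,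
    L.mul_mem (L.mul_mem x.1.2.1 x.2.2.1) (L.inv_mem x.1.2.1), by
      rw [ec_conj]
      exact mul_ne_zero (mul_ne_zero (neg_ne_zero.mpr x.2.2.2) x.1.2.2) x.1.2.2, by
      rw [ea_conj, ed_conj]; ring⟩

noncomputable def baseV (v : VT L) (h : ∃ x, conjV L x = v) : XT L × A0 L := Classical.choose h

theorem baseV_spec (v : VT L) (h : ∃ x, conjV L x = v) : conjV L (baseV L v h) = v :=
  Classical.choose_spec h

theorem baseV_congr (v v' : VT L) (e : v = v') (h : ∃ x, conjV L x = v)
    (h' : ∃ x, conjV L x = v') : baseV L v h = baseV L v' h' := by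
  subst e; rfl

theorem ec_eq_zero_of_conj_eq {y b : SL2} {s t : K} (hs : s ≠ 0)
    (h : b * xmat K t * b⁻¹ = y * xmat K s * y⁻¹) : ec (b⁻¹ * y) = 0 := by
  have e : (b⁻¹ * y) * xmat K s * (b⁻¹ * y)⁻¹ = xmat K t := by
    have : (b⁻¹ * y) * xmat K s * (b⁻¹ * y)⁻¹ = b⁻¹ * (y * xmat K s * y⁻¹) * b := by group
    rw [this, ← h]; group
  have h2 := congrArg ec e
  rw [ec_conj, ec_xmat] at h2
  have h3 : ec (b⁻¹ * y) * ec (b⁻¹ * y) = 0 := by
    have : -s * (ec (b⁻¹ * y) * ec (b⁻¹ * y)) = 0 := by rw [← h2]; ring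
    rcases mul_eq_zero.mp this with h4 | h4
    · exact absurd (neg_eq_zero.mp h4) hs
    · exact h4
  exact mul_self_eq_zero.mp h3

/-- second count: `|X| (|A| - 1) ≤ |N| |V|` -/
theorem card_XT_mul_le [Finite L] :
    Nat.card (XT L) * Nat.card (A0 L) ≤ Nat.card (NT L) * Nat.card (VT L) := by
  rw [← Nat.card_prod, ← Nat.card_prod]
  let f : XT L × A0 L → NT L × VT L := fun x =>
    (⟨(baseV L (conjV L x) ⟨x, rfl⟩).1.1⁻¹ * x.1.1,
      L.mul_mem (L.inv_mem (baseV L (conjV L x) ⟨x, rfl⟩).1.2.1) x.1.2.1, by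
        have h := baseV_spec L (conjV L x) ⟨x, rfl⟩
        have h2 := congrArg (fun v : VT L => (v.1 : SL2)) h
        exact ec_eq_zero_of_conj_eq x.2.2.2 h2⟩, conjV L x)
  apply Nat.card_le_card_of_injective f
  intro x x' h
  have h1 : conjV L x = conjV L x' := congrArg Prod.snd h
  have h2 := congrArg (fun z : NT L × VT L => (z.1.1 : SL2)) h
  simp only [f] at h2
  rw [baseV_congr L _ _ h1 ⟨x, rfl⟩ ⟨x', rfl⟩] at h2
  have hy : x.1.1 = x'.1.1 := mul_left_cancel h2
  have h3 := congrArg (fun v : VT L => (v.1 : SL2)) h1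
  simp only [conjV] at h3
  rw [hy] at h3
  have h4 : xmat K x.2.1 = xmat K x'.2.1 := by
    have := mul_right_cancel h3
    exact mul_left_cancel this
  have hs : x.2.1 = x'.2.1 := xmat_injective h4
  exact Prod.ext (Subtype.ext hy) (Subtype.ext hs)

/-- third count: `|V| |A| ≤ |X₊|` -/
theorem card_VT_mul_le [Finite L] :
    Nat.card (VT L) * Nat.card (Aset L) ≤ Nat.card (XP L) := by
  rw [← Nat.card_prod]
  let f : VT L × Aset L → XP L := fun x =>
    ⟨xmat K (-x.2.1) * x.1.1, L.mul_mem ((Aset L).neg_mem x.2.2) x.1.2.1, by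
      rw [ec_mul]; simp only [ec_xmat, ed_xmat]; rw [zero_mul, one_mul, zero_add]
      exact x.1.2.2.1, x.2.1, x.2.2, by
      rw [ea_mul, ed_mul, ec_mul]
      simp only [ea_xmat, eb_xmat, ec_xmat, ed_xmat]
      linear_combination x.1.2.2.2⟩
  apply Nat.card_le_card_of_injective f
  intro x x' h
  have h1 := congrArg (fun z : XP L => (z.1 : SL2)) h
  simp only [f] at h1
  have hc : ec x.1.1 = ec x'.1.1 := by
    have := congrArg ec h1
    rw [ec_mul, ec_mul] at this
    simpa using this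
  have ht : ea x.1.1 + ed x.1.1 - x.2.1 * ec x.1.1 = ea x'.1.1 + ed x'.1.1 - x'.2.1 * ec x'.1.1 := by
    have e1 := congrArg ea h1
    have e2 := congrArg ed h1
    rw [ea_mul, ea_mul] at e1
    rw [ed_mul, ed_mul] at e2
    simp only [ea_xmat, eb_xmat, ec_xmat, ed_xmat] at e1 e2
    linear_combination e1 + e2
  rw [x.1.2.2.2, x'.1.2.2.2, ← hc] at ht
  have hr : x.2.1 = x'.2.1 := by
    have : (x.2.1 - x'.2.1) * ec x.1.1 = 0 := by linear_combination -ht
    rcases mul_eq_zero.mp this with h5 | h5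
    · exact sub_eq_zero.mp h5
    · exact absurd h5 x.1.2.2.1
  rw [hr] at h1
  have hv : x.1.1 = x'.1.1 := mul_left_cancel h1
  exact Prod.ext (Subtype.ext hv) (Subtype.ext hr)

theorem card_Aset_eq [Finite L] : Nat.card (Aset L) = Nat.card (A0 L) + 1 := by
  classical
  rw [← Finite.card_option]
  apply Nat.card_congr
  exact {
    toFun := fun s => if h : (s : K) = 0 then none else some ⟨s.1, s.2, h⟩
    invFun := fun o => match o with
      | none => 0
      | some s => ⟨s.1, s.2.1⟩
    left_inv := by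
      intro s
      by_cases h : (s : K) = 0
      · simp only [h, dite_true]
        exact Subtype.ext h.symm
      · simp only [h, dite_false]
    right_inv := by
      intro o
      cases o with
      | none => simp
      | some s =>
        have hs : (s.1 : K) ≠ 0 := s.2.2
        simp only [hs, dite_false]
        rfl }

/-- the main counting inequality -/
theorem main_count [Finite L] :
    (Nat.card (Aset L) - 1) * Nat.card (XT L) ≤ Nat.card (Cgrp L) * Nat.card (XP L) := by
  have h1 := card_NT_le L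
  have h2 := card_XT_mul_le L
  have h3 := card_VT_mul_le L
  have h4 := card_Aset_eq L
  have e : Nat.card (Aset L) - 1 = Nat.card (A0 L) := by omega
  rw [e]
  calc Nat.card (A0 L) * Nat.card (XT L) = Nat.card (XT L) * Nat.card (A0 L) := mul_comm _ _
    _ ≤ Nat.card (NT L) * Nat.card (VT L) := h2
    _ ≤ (Nat.card (Aset L) * Nat.card (Cgrp L)) * Nat.card (VT L) := Nat.mul_le_mul_right _ h1
    _ = Nat.card (Cgrp L) * (Nat.card (VT L) * Nat.card (Aset L)) := by ring
    _ ≤ Nat.card (Cgrp L) * Nat.card (XP L) := Nat.mul_le_mul_left _ h3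

end Cfsg.Agent.Lib.Helper1.Dickson
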