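import Mathlib
import Cfsg.Agent.Lib.Helper1.Dickson3
set_option autoImplicit false
open Matrix
universe u
namespace Cfsg.Agent.Lib.Helper1.Dickson

open Cfsg.Agent.Lib.Helper1.SL2Three

variable {K : Type u} [Field K]

local notation "SL2" => Matrix.SpecialLinearGroup (Fin 2) K
local notation "M2" => Matrix (Fin 2) (Fin 2) K

/-- finite subgroups of the units of a field are determined by their order -/
theorem units_le_of_card_dvd (S₁ S₂ : Subgroup Kˣ) [Finite S₁] [Finite S₂]
    (h : Nat.card S₁ ∣ Nat.card S₂) : S₁ ≤ S₂ := by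
  haveI : IsCyclic S₂ := isCyclic_subgroup_units S₂
  obtain ⟨g, hg⟩ := IsCyclic.exists_generator (α := S₂)
  have hord : orderOf g = Nat.card S₂ := orderOf_eq_card_of_forall_mem_zpowers hg
  have hpos : 0 < Nat.card S₂ := Nat.card_pos
  haveI : NeZero (Nat.card S₂) := ⟨hpos.ne'⟩
  have hprim : IsPrimitiveRoot (((g : S₂) : Kˣ) : K) (Nat.card S₂) := by
    have := IsPrimitiveRoot.orderOf (((g : S₂) : Kˣ) : K)
    rwa [orderOf_units, Subgroup.orderOf_coe, hord] at this
  intro x hx
  have h1 : x ^ Nat.card S₁ = 1 := by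
    have := pow_card_eq_one' (G := S₁) (x := ⟨x, hx⟩)
    exact congrArg (fun y : S₁ => (y : Kˣ)) this
  have h2 : x ^ Nat.card S₂ = 1 := by
    obtain ⟨k, hk⟩ := h
    rw [hk, pow_mul, h1, one_pow]
  have h3 : (x : K) ^ Nat.card S₂ = 1 := by
    rw [← Units.val_pow_eq_pow_val, h2]; rfl
  obtain ⟨i, -, hi⟩ := hprim.eq_pow_of_pow_eq_one h3
  have : x = ((g : S₂) : Kˣ) ^ i := by
    apply Units.ext
    rw [Units.val_pow_eq_pow_val, hi]
  rw [this]
  exact S₂.pow_mem g.2 i

variable (L : Subgroup (Matrix.SpecialLinearGroup (Fin 2) K))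

/-- the torus acts on the translations by squares -/
theorem sq_mul_mem_Aset {ν : Kˣ} (hν : ν ∈ Cgrp L) {s : K} (hs : s ∈ Aset L) :
    (ν : K) * (ν : K) * s ∈ Aset L := by
  obtain ⟨n, hn, hn0, hna⟩ := hν
  rw [mem_Aset]
  have e : xmat K ((ν : K) * (ν : K) * s) = n * xmat K s * n⁻¹ := by
    apply ext_entries
    · rw [ea_conj, hn0]; simp
    · rw [eb_conj, hna]; simp; ring
    · rw [ec_conj, hn0]; simp
    · rw [ed_conj, hn0]; simp
  rw [e]
  exact L.mul_mem (L.mul_mem hn hs) (L.inv_mem hn)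

theorem card_XP_le [Finite L] : Nat.card (XP L) ≤ Nat.card (XT L) := by
  let f : XP L → XT L := fun y => ⟨y.1, y.2.1, y.2.2.1⟩
  apply Nat.card_le_card_of_injective f
  intro a b h
  exact Subtype.ext (congrArg (fun x : XT L => (x.1 : SL2)) h)

theorem card_Aset_sub_one_le [Finite L] (hX : Nonempty (XT L)) :
    Nat.card (Aset L) - 1 ≤ Nat.card (Cgrp L) := by
  have h1 := main_count L
  have h2 := card_XP_le L
  have h3 : 0 < Nat.card (XT L) := Nat.card_pos
  have h4 : (Nat.card (Aset L) - 1) * Nat.card (XT L) ≤ Nat.card (Cgrp L) * Nat.card (XT L) :=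
    le_trans h1 (Nat.mul_le_mul_left _ h2)
  exact Nat.le_of_mul_le_mul_right h4 h3

/-- the multiplier ring of `A` -/
def Rset : AddSubgroup K where
  carrier := {r | r ∈ Aset L ∧ ∀ s ∈ Aset L, r * s ∈ Aset L}
  zero_mem' := ⟨(Aset L).zero_mem, fun s _ => by rw [zero_mul]; exact (Aset L).zero_mem⟩
  add_mem' := by
    rintro a b ⟨ha, ha'⟩ ⟨hb, hb'⟩
    exact ⟨(Aset L).add_mem ha hb, fun s hs => by
      rw [add_mul]; exact (Aset L).add_mem (ha' s hs) (hb' s hs)⟩
  neg_mem' := by
    rintro a ⟨ha, ha'⟩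
    exact ⟨(Aset L).neg_mem ha, fun s hs => by
      rw [neg_mul]; exact (Aset L).neg_mem (ha' s hs)⟩

theorem Rset_le : Rset L ≤ Aset L := fun _ h => h.1

instance [Finite L] : Finite (Rset L) :=
  Finite.of_injective (fun r : Rset L => (⟨r.1, r.2.1⟩ : Aset L)) (by
    intro a b h; exact Subtype.ext (congrArg (fun x : Aset L => (x : K)) h))

/-- nonzero multipliers -/
def R0 : Type u := {r : K // r ∈ Rset L ∧ r ≠ 0}

instance [Finite L] : Finite (R0 L) :=
  Finite.of_injective (fun r : R0 L => (⟨r.1, r.2.1⟩ : Rset L)) (by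
    intro a b h; exact Subtype.ext (congrArg (fun x : Rset L => (x : K)) h))

theorem card_Rset_eq [Finite L] : Nat.card (Rset L) = Nat.card (R0 L) + 1 := by
  classical
  rw [← Finite.card_option]
  apply Nat.card_congr
  exact {
    toFun := fun s => if h : (s : K) = 0 then none else some ⟨s.1, s.2, h⟩
    invFun := fun o => match o with
      | none => 0
      | some s => ⟨s.1, s.2.1⟩
    left_inv := by
      intro s
      by_cases h : (s : K) = 0
      · simp only [h, dite_true]
        exact Subtype.ext h.symm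
      · simp only [h, dite_false]
    right_inv := by
      intro o
      cases o with
      | none => simp
      | some s =>
        have hs : (s.1 : K) ≠ 0 := s.2.2
        simp only [hs, dite_false]
        rfl }

/-- squares of torus elements are multipliers -/
noncomputable def sqR (hx1 : xmat K 1 ∈ L) (ν : Cgrp L) : R0 L :=
  ⟨((ν : Kˣ) : K) * ((ν : Kˣ) : K), ⟨by
      have := sq_mul_mem_Aset L ν.2 (s := 1) hx1
      rwa [mul_one] at this, fun s hs => sq_mul_mem_Aset L ν.2 hs⟩,
    mul_ne_zero (Units.ne_zero _) (Units.ne_zero _)⟩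

theorem card_Cgrp_le [Finite L] (hx1 : xmat K 1 ∈ L) :
    Nat.card (Cgrp L) ≤ 2 * Nat.card (R0 L) := by
  classical
  have e : 2 * Nat.card (R0 L) = Nat.card (Bool × R0 L) := by
    rw [Nat.card_prod, Nat.card_eq_fintype_card (α := Bool), Fintype.card_bool]
  rw [e]
  haveI : Nonempty (Cgrp L) := ⟨1⟩
  let rep : R0 L → Cgrp L := Function.invFun (sqR L hx1)
  let f : Cgrp L → Bool × R0 L := fun ν => (decide (ν = rep (sqR L hx1 ν)), sqR L hx1 ν)
  apply Nat.card_le_card_of_injective f
  intro a b h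
  have h1 : sqR L hx1 a = sqR L hx1 b := congrArg Prod.snd h
  have h2 : decide (a = rep (sqR L hx1 a)) = decide (b = rep (sqR L hx1 b)) := congrArg Prod.fst h
  rw [← h1] at h2
  set ρ := rep (sqR L hx1 a) with hρ
  have hρ2 : sqR L hx1 ρ = sqR L hx1 a := Function.invFun_eq ⟨a, rfl⟩
  have sq_eq : ∀ c d : Cgrp L, sqR L hx1 c = sqR L hx1 d → c = d ∨ ((c : Kˣ) : K) = -((d : Kˣ) : K) := by
    intro c d hcd
    have h3 := congrArg (fun r : R0 L => (r.1 : K)) hcd
    simp only [sqR] at h3
    have h4 : (((c : Kˣ) : K) - ((d : Kˣ) : K)) * (((c : Kˣ) : K) + ((d : Kˣ) : K)) = 0 := by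
      linear_combination h3
    rcases mul_eq_zero.mp h4 with h5 | h5
    · left
      apply Subtype.ext
      apply Units.ext
      exact sub_eq_zero.mp h5
    · right
      exact eq_neg_of_add_eq_zero_left h5
  rcases sq_eq a b h1 with h3 | h3
  · exact h3
  · -- a = -b
    rcases sq_eq ρ a hρ2 with h4 | h4
    · -- ρ = a
      have : decide (a = ρ) = true := by simp [h4]
      rw [this] at h2
      have h5 : b = ρ := by
        have := h2.symm
        simpa using this
      rw [h5, h4]
    · -- ρ = -a = b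
      have h5 : ρ = b := by
        apply Subtype.ext
        apply Units.ext
        rw [h4, h3, neg_neg]
      have : decide (b = ρ) = true := by simp [h5]
      rw [this] at h2
      have h6 : a = ρ := by simpa using h2
      rw [h6, h5]

/-- `A` is closed under multiplication -/
theorem Rset_eq_Aset [Finite L] (hx1 : xmat K 1 ∈ L) (hX : Nonempty (XT L)) : Rset L = Aset L := by
  apply AddSubgroup.eq_of_le_of_card_ge (Rset_le L)
  have h1 := card_Aset_sub_one_le L hX
  have h2 := card_Cgrp_le L hx1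
  have h3 := card_Rset_eq L
  have h4 : Nat.card (Rset L) ∣ Nat.card (Aset L) := AddSubgroup.card_dvd_of_le (Rset_le L)
  obtain ⟨j, hj⟩ := h4
  have hApos : 0 < Nat.card (Aset L) := Nat.card_pos
  rcases Nat.lt_or_ge j 2 with hj2 | hj2
  · interval_cases j
    · omega
    · omega
  · exfalso
    have : 2 * Nat.card (Rset L) ≤ Nat.card (Aset L) := by
      rw [hj]; nlinarith
    omega

theorem Aset_mul_mem [Finite L] (hx1 : xmat K 1 ∈ L) (hX : Nonempty (XT L)) {s t : K}
    (hs : s ∈ Aset L) (ht : t ∈ Aset L) : s * t ∈ Aset L := by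
  have : s ∈ Rset L := by rw [Rset_eq_Aset L hx1 hX]; exact hs
  exact this.2 t ht

theorem Aset_inv_mem [Finite L] (hx1 : xmat K 1 ∈ L) (hX : Nonempty (XT L)) {s : K}
    (hs : s ∈ Aset L) : s⁻¹ ∈ Aset L := by
  by_cases h0 : s = 0
  · rw [h0, _root_.inv_zero]; exact (Aset L).zero_mem
  · let f : Aset L → Aset L := fun t => ⟨s * t.1, Aset_mul_mem L hx1 hX hs t.2⟩
    have hf : Function.Injective f := by
      intro a b h
      have := congrArg (fun x : Aset L => (x : K)) h
      simp only [f] at this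
      exact Subtype.ext (mul_left_cancel₀ h0 this)
    have hsurj := Finite.injective_iff_surjective.mp hf
    obtain ⟨t, ht⟩ := hsurj ⟨1, hx1⟩
    have h1 := congrArg (fun x : Aset L => (x : K)) ht
    simp only [f] at h1
    have : s⁻¹ = t.1 := by
      rw [eq_comm, ← mul_eq_one_iff_eq_inv₀ h0, mul_comm]
      exact h1
    rw [this]; exact t.2

end Cfsg.Agent.Lib.Helper1.Dickson
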