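import Mathlib
import Cfsg.Agent.Lib.Helper1.Dickson4
set_option autoImplicit false
open Matrix
universe u
namespace Cfsg.Agent.Lib.Helper1.Dickson

open Cfsg.Agent.Lib.Helper1.SL2Three

variable {K : Type u} [Field K]

local notation "SL2" => Matrix.SpecialLinearGroup (Fin 2) K
local notation "M2" => Matrix (Fin 2) (Fin 2) K

variable (L : Subgroup (Matrix.SpecialLinearGroup (Fin 2) K))

/-- the multiplicative group of the field `A` -/
def Fx [Finite L] (hx1 : xmat K 1 ∈ L) (hX : Nonempty (XT L)) : Subgroup Kˣ where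
  carrier := {u | (u : K) ∈ Aset L}
  one_mem' := by
    show ((1 : Kˣ) : K) ∈ Aset L
    rw [Units.val_one]; exact hx1
  mul_mem' := by
    intro a b ha hb
    show ((a * b : Kˣ) : K) ∈ Aset L
    rw [Units.val_mul]
    exact Aset_mul_mem L hx1 hX ha hb
  inv_mem' := by
    intro a ha
    show ((a⁻¹ : Kˣ) : K) ∈ Aset L
    rw [Units.val_inv_eq_inv_val]
    exact Aset_inv_mem L hx1 hX ha

theorem mem_Fx [Finite L] (hx1 : xmat K 1 ∈ L) (hX : Nonempty (XT L)) {u : Kˣ} :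
    u ∈ Fx L hx1 hX ↔ (u : K) ∈ Aset L := Iff.rfl

theorem card_Fx [Finite L] (hx1 : xmat K 1 ∈ L) (hX : Nonempty (XT L)) :
    Nat.card (Fx L hx1 hX) = Nat.card (A0 L) := by
  apply Nat.card_congr
  exact {
    toFun := fun u => ⟨((u : Kˣ) : K), u.2, Units.ne_zero _⟩
    invFun := fun s => ⟨Units.mk0 s.1 s.2.2, s.2.1⟩
    left_inv := by
      intro u
      apply Subtype.ext
      apply Units.ext
      rfl
    right_inv := by
      intro s
      apply Subtype.ext
      rfl }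

instance [Finite L] (hx1 : xmat K 1 ∈ L) (hX : Nonempty (XT L)) : Finite (Fx L hx1 hX) :=
  Finite.of_injective (fun u : Fx L hx1 hX => (⟨((u : Kˣ) : K), u.2⟩ : Aset L)) (by
    intro a b h
    have := congrArg (fun x : Aset L => (x : K)) h
    exact Subtype.ext (Units.ext this))

theorem sq_mem_Fx [Finite L] (hx1 : xmat K 1 ∈ L) (hX : Nonempty (XT L)) {ν : Kˣ}
    (hν : ν ∈ Cgrp L) : ν * ν ∈ Fx L hx1 hX := by
  rw [mem_Fx, Units.val_mul]
  have := sq_mul_mem_Aset L hν (s := 1) hx1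
  rwa [mul_one] at this

theorem card_Cgrp_dvd [Finite L] (hx1 : xmat K 1 ∈ L) (hX : Nonempty (XT L)) :
    Nat.card (Cgrp L) ∣ 2 * Nat.card (A0 L) := by
  haveI : IsCyclic (Cgrp L) := isCyclic_subgroup_units (Cgrp L)
  rw [← IsCyclic.exponent_eq_card, ← card_Fx L hx1 hX]
  apply Monoid.exponent_dvd_of_forall_pow_eq_one
  intro g
  have h1 : (g : Kˣ) * (g : Kˣ) ∈ Fx L hx1 hX := sq_mem_Fx L hx1 hX g.2
  have h2 := pow_card_eq_one' (G := Fx L hx1 hX) (x := ⟨_, h1⟩)
  have h3 := congrArg (fun y : Fx L hx1 hX => (y : Kˣ)) h2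
  simp only [Subgroup.coe_pow, Subgroup.coe_one] at h3
  apply Subtype.ext
  rw [Subgroup.coe_pow, Subgroup.coe_one, pow_mul, pow_two]
  exact h3

theorem card_Cgrp_cases [Finite L] (hx1 : xmat K 1 ∈ L) (hX : Nonempty (XT L)) :
    Nat.card (Cgrp L) = Nat.card (A0 L) ∨ Nat.card (Cgrp L) = 2 * Nat.card (A0 L) := by
  have h1 := card_Cgrp_dvd L hx1 hX
  have h2 := card_Aset_sub_one_le L hX
  have h3 := card_Aset_eq L
  have h4 : Nat.card (A0 L) ≤ Nat.card (Cgrp L) := by omega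
  have hpos : 0 < Nat.card (A0 L) := by
    rw [← card_Fx L hx1 hX]; exact Nat.card_pos
  obtain ⟨j, hj⟩ := h1
  rcases Nat.lt_or_ge j 3 with hj3 | hj3
  · interval_cases j
    · omega
    · right; omega
    · left; omega
  · exfalso
    have : 3 * Nat.card (Cgrp L) ≤ 2 * Nat.card (A0 L) := by
      rw [hj]; nlinarith
    omega

theorem Fx_le_Cgrp [Finite L] (hx1 : xmat K 1 ∈ L) (hX : Nonempty (XT L)) :
    Fx L hx1 hX ≤ Cgrp L := by
  apply units_le_of_card_dvd
  rw [card_Fx]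
  rcases card_Cgrp_cases L hx1 hX with h | h
  · rw [h]
  · rw [h]; exact dvd_mul_left _ _

/-- an element outside the Borel subgroup whose lower left entry lies in `A` gives the conclusion -/
theorem exists_of_ec_mem [Finite L] (hx1 : xmat K 1 ∈ L) (hX : Nonempty (XT L)) {y : SL2}
    (hy : y ∈ L) (hc : ec y ≠ 0) (hcA : ec y ∈ Aset L) : ∃ g ∈ L, ec g = 1 := by
  have h1 : Units.mk0 (ec y) hc ∈ Fx L hx1 hX := hcA
  have h2 : (Units.mk0 (ec y) hc)⁻¹ ∈ Cgrp L := (Cgrp L).inv_mem (Fx_le_Cgrp L hx1 hX h1)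
  obtain ⟨n, hn, hn0, hna⟩ := h2
  refine ⟨y * n, L.mul_mem hy hn, ?_⟩
  rw [ec_mul, hn0, hna, Units.val_inv_eq_inv_val, Units.val_mk0]
  field_simp
  ring

/-- an element whose double coset contains both a unipotent and the negative of one -/
theorem exists_of_both [Finite L] (h2 : (2 : K) ≠ 0) (hx1 : xmat K 1 ∈ L) (hX : Nonempty (XT L))
    {y : SL2} (hy : y ∈ L) (hc : ec y ≠ 0) {r r' : K} (hr : r ∈ Aset L) (hr' : r' ∈ Aset L)
    (e1 : ea y + ed y + r * ec y = 2) (e2 : ea y + ed y + r' * ec y = -2) :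
    ∃ g ∈ L, ec g = 1 := by
  apply exists_of_ec_mem L hx1 hX hy hc
  have h4 : (4 : K) ≠ 0 := by
    have : (4 : K) = 2 * 2 := by norm_num
    rw [this]; exact mul_ne_zero h2 h2
  have e3 : (r - r') * ec y = 4 := by linear_combination e1 - e2
  have hne : r - r' ≠ 0 := by
    intro h0; rw [h0, zero_mul] at e3; exact h4 e3.symm
  have e4 : ec y = 4 * (r - r')⁻¹ := by
    field_simp
    linear_combination e3
  rw [e4]
  have h4A : (4 : K) ∈ Aset L := by
    have h1 : (1 : K) ∈ Aset L := hx1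
    have : (4 : K) = 1 + 1 + 1 + 1 := by norm_num
    rw [this]
    exact (Aset L).add_mem ((Aset L).add_mem ((Aset L).add_mem h1 h1) h1) h1
  exact Aset_mul_mem L hx1 hX h4A (Aset_inv_mem L hx1 hX ((Aset L).sub_mem hr hr'))

end Cfsg.Agent.Lib.Helper1.Dickson
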