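import Mathlib
import Cfsg.Agent.Lib.Helper1.Dickson5
set_option autoImplicit false
open Matrix
universe u
namespace Cfsg.Agent.Lib.Helper1.Dickson

open Cfsg.Agent.Lib.Helper1.SL2Three

variable {K : Type u} [Field K]

local notation "SL2" => Matrix.SpecialLinearGroup (Fin 2) K
local notation "M2" => Matrix (Fin 2) (Fin 2) K

variable (L : Subgroup (Matrix.SpecialLinearGroup (Fin 2) K))

/-- negation exchanges the two kinds of double cosets -/
def negEquiv (hneg : ∀ g ∈ L, -g ∈ L) : XP L ≃ XM L where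
  toFun y := ⟨-y.1, hneg _ y.2.1, by rw [ec_neg]; exact neg_ne_zero.mpr y.2.2.1, by
    obtain ⟨r, hr, e⟩ := y.2.2.2
    refine ⟨r, hr, ?_⟩
    rw [ea_neg, ed_neg, ec_neg]
    linear_combination -e⟩
  invFun y := ⟨-y.1, hneg _ y.2.1, by rw [ec_neg]; exact neg_ne_zero.mpr y.2.2.1, by
    obtain ⟨r, hr, e⟩ := y.2.2.2
    refine ⟨r, hr, ?_⟩
    rw [ea_neg, ed_neg, ec_neg]
    linear_combination -e⟩
  left_inv y := by
    apply Subtype.ext
    show - -y.1 = y.1
    rw [neg_neg]
  right_inv y := by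
    apply Subtype.ext
    show - -y.1 = y.1
    rw [neg_neg]

theorem dichotomy [Finite L] (hneg : ∀ g ∈ L, -g ∈ L) (hx1 : xmat K 1 ∈ L)
    (hX : Nonempty (XT L)) :
    (∃ y ∈ L, ec y ≠ 0 ∧ (∃ r ∈ Aset L, ea y + ed y + r * ec y = 2) ∧
      (∃ r' ∈ Aset L, ea y + ed y + r' * ec y = -2)) ∨
    (Nat.card (Cgrp L) = 2 * Nat.card (A0 L) ∧ ∀ y ∈ L, ec y ≠ 0 →
      ∃ r ∈ Aset L, ea y + ed y + r * ec y = 2 ∨ ea y + ed y + r * ec y = -2) := by
  have hmain := main_count L
  have hA := card_Aset_eq L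
  have hApos : 0 < Nat.card (A0 L) := by
    rw [← card_Fx L hx1 hX]; exact Nat.card_pos
  have e : Nat.card (Aset L) - 1 = Nat.card (A0 L) := by omega
  rw [e] at hmain
  let ι : XP L → XT L := fun y => ⟨y.1, y.2.1, y.2.2.1⟩
  have hι : Function.Injective ι := by
    intro a b h
    exact Subtype.ext (congrArg (fun x : XT L => (x.1 : SL2)) h)
  rcases card_Cgrp_cases L hx1 hX with hC | hC
  · left
    rw [hC] at hmain
    have h1 : Nat.card (XT L) ≤ Nat.card (XP L) := Nat.le_of_mul_le_mul_left hmain hApos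
    have hbij := hι.bijective_of_nat_card_le h1
    obtain ⟨y₀⟩ := hX
    obtain ⟨z, hz⟩ := hbij.2 y₀
    have hz1 : z.1 = y₀.1 := congrArg (fun x : XT L => (x.1 : SL2)) hz
    obtain ⟨z', hz'⟩ := hbij.2 ⟨-y₀.1, hneg _ y₀.2.1, by
      rw [ec_neg]; exact neg_ne_zero.mpr y₀.2.2⟩
    have hz1' : z'.1 = -y₀.1 := congrArg (fun x : XT L => (x.1 : SL2)) hz'
    refine ⟨y₀.1, y₀.2.1, y₀.2.2, ?_, ?_⟩
    · obtain ⟨r, hr, e⟩ := z.2.2.2
      rw [hz1] at e
      exact ⟨r, hr, e⟩
    · obtain ⟨r, hr, e⟩ := z'.2.2.2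
      rw [hz1', ea_neg, ed_neg, ec_neg] at e
      exact ⟨r, hr, by linear_combination -e⟩
  · by_cases hboth : ∃ y ∈ L, ec y ≠ 0 ∧ (∃ r ∈ Aset L, ea y + ed y + r * ec y = 2) ∧
        (∃ r' ∈ Aset L, ea y + ed y + r' * ec y = -2)
    · left; exact hboth
    · right
      refine ⟨hC, ?_⟩
      rw [hC] at hmain
      have h1 : Nat.card (XT L) ≤ 2 * Nat.card (XP L) := by
        have : Nat.card (A0 L) * Nat.card (XT L) ≤ Nat.card (A0 L) * (2 * Nat.card (XP L)) := by
          calc Nat.card (A0 L) * Nat.card (XT L) ≤ 2 * Nat.card (A0 L) * Nat.card (XP L) := hmain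
            _ = Nat.card (A0 L) * (2 * Nat.card (XP L)) := by ring
        exact Nat.le_of_mul_le_mul_left this hApos
      let κ : XP L ⊕ XM L → XT L := fun s => match s with
        | Sum.inl y => ⟨y.1, y.2.1, y.2.2.1⟩
        | Sum.inr y => ⟨y.1, y.2.1, y.2.2.1⟩
      have hκ : Function.Injective κ := by
        intro a b h
        have h' := congrArg (fun x : XT L => (x.1 : SL2)) h
        cases a with
        | inl a =>
          cases b with
          | inl b => exact congrArg Sum.inl (Subtype.ext h')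
          | inr b =>
            exfalso
            apply hboth
            simp only [κ] at h'
            refine ⟨a.1, a.2.1, a.2.2.1, a.2.2.2, ?_⟩
            rw [h']; exact b.2.2.2
        | inr a =>
          cases b with
          | inl b =>
            exfalso
            apply hboth
            simp only [κ] at h'
            refine ⟨b.1, b.2.1, b.2.2.1, b.2.2.2, ?_⟩
            rw [← h']; exact a.2.2.2
          | inr b => exact congrArg Sum.inr (Subtype.ext h')
      have hcard : Nat.card (XT L) ≤ Nat.card (XP L ⊕ XM L) := by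
        rw [Nat.card_sum, ← Nat.card_congr (negEquiv L hneg)]
        omega
      have hbij := hκ.bijective_of_nat_card_le hcard
      intro y hy hc
      obtain ⟨s, hs⟩ := hbij.2 ⟨y, hy, hc⟩
      have hs' := congrArg (fun x : XT L => (x.1 : SL2)) hs
      cases s with
      | inl z =>
        simp only [κ] at hs'
        obtain ⟨r, hr, e⟩ := z.2.2.2
        rw [hs'] at e
        exact ⟨r, hr, Or.inl e⟩
      | inr z =>
        simp only [κ] at hs'
        obtain ⟨r, hr, e⟩ := z.2.2.2
        rw [hs'] at e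
        exact ⟨r, hr, Or.inr e⟩

end Cfsg.Agent.Lib.Helper1.Dickson
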