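import Mathlib
import Cfsg.Agent.Lib.Helper1.Dickson6
set_option autoImplicit false
open Matrix
universe u
namespace Cfsg.Agent.Lib.Helper1.Dickson

open Cfsg.Agent.Lib.Helper1.SL2Three

variable {K : Type u} [Field K]

local notation "SL2" => Matrix.SpecialLinearGroup (Fin 2) K
local notation "M2" => Matrix (Fin 2) (Fin 2) K

variable (L : Subgroup (Matrix.SpecialLinearGroup (Fin 2) K))

/-- `A` as a subfield -/
def FA [Finite L] (hx1 : xmat K 1 ∈ L) (hX : Nonempty (XT L)) : Subfield K where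
  carrier := {s | s ∈ Aset L}
  mul_mem' := fun ha hb => Aset_mul_mem L hx1 hX ha hb
  one_mem' := hx1
  add_mem' := fun ha hb => (Aset L).add_mem ha hb
  zero_mem' := (Aset L).zero_mem
  neg_mem' := fun ha => (Aset L).neg_mem ha
  inv_mem' := fun _ ha => Aset_inv_mem L hx1 hX ha

theorem mem_FA [Finite L] (hx1 : xmat K 1 ∈ L) (hX : Nonempty (XT L)) {s : K} :
    s ∈ FA L hx1 hX ↔ s ∈ Aset L := Iff.rfl

/-- linear independence of `1, c` over the subfield -/
theorem indep (F : Subfield K) {P Q c : K} (hP : P ∈ F) (hQ : Q ∈ F) (hc : c ∉ F)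
    (h : P + Q * c = 0) : P = 0 ∧ Q = 0 := by
  by_cases hQ0 : Q = 0
  · rw [hQ0, zero_mul, add_zero] at h
    exact ⟨h, hQ0⟩
  · exfalso
    apply hc
    have : c = -P * Q⁻¹ := by
      field_simp
      linear_combination h
    rw [this]
    exact F.mul_mem (F.neg_mem hP) (F.inv_mem hQ)

/-- the basic relation obtained from the double coset of `t b` -/
theorem key_rel
    (H2 : ∀ y ∈ L, ec y ≠ 0 → ∃ r ∈ Aset L, ea y + ed y + r * ec y = 2 ∨
      ea y + ed y + r * ec y = -2)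
    {t b : SL2} (ht : t ∈ L) (ht0 : ec t = 0) (hb : b ∈ L) (hc : ec b ≠ 0)
    (htr : ea b + ed b = 2) :
    ∃ s ∈ Aset L, ∃ σ : K, (σ = 1 ∨ σ = -1) ∧
      ea t * ea t * ea b + ea t * eb t * ec b + (2 - ea b) + s * ec b = 2 * σ * ea t := by
  have hne := ea_ne_zero_of_ec ht0
  have hd := ed_eq_inv_of_ec ht0
  have hcy : ec (t * b) ≠ 0 := by
    rw [ec_mul, ht0, hd, zero_mul, zero_add]
    exact mul_ne_zero (inv_ne_zero hne) hc
  obtain ⟨r, hr, e⟩ := H2 (t * b) (L.mul_mem ht hb) hcy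
  rw [ea_mul, ed_mul, ec_mul, ht0, hd] at e
  have hdb : ed b = 2 - ea b := by linear_combination htr
  rw [hdb] at e
  rcases e with e | e
  · refine ⟨r, hr, 1, Or.inl rfl, ?_⟩
    have e' : ea t * (ea t * ea b + eb t * ec b + (0 * eb b + (ea t)⁻¹ * (2 - ea b)) +
        r * (0 * ea b + (ea t)⁻¹ * ec b)) = ea t * 2 := by rw [e]
    field_simp at e'
    linear_combination e'
  · refine ⟨r, hr, -1, Or.inr rfl, ?_⟩
    have e' : ea t * (ea t * ea b + eb t * ec b + (0 * eb b + (ea t)⁻¹ * (2 - ea b)) +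
        r * (0 * ea b + (ea t)⁻¹ * ec b)) = ea t * (-2) := by rw [e]
    field_simp at e'
    linear_combination e'

end Cfsg.Agent.Lib.Helper1.Dickson
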