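import Mathlib
import Cfsg.Agent.Lib.Helper1.Dickson7
set_option autoImplicit false
open Matrix
universe u
namespace Cfsg.Agent.Lib.Helper1.Dickson

open Cfsg.Agent.Lib.Helper1.SL2Three

variable {K : Type u} [Field K]

local notation "SL2" => Matrix.SpecialLinearGroup (Fin 2) K
local notation "M2" => Matrix (Fin 2) (Fin 2) K

variable (L : Subgroup (Matrix.SpecialLinearGroup (Fin 2) K))

theorem exists_torus_elt [Finite L] (hx1 : xmat K 1 ∈ L) (hX : Nonempty (XT L)) {β : K}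
    (hβA : β ∈ Aset L) (hβ0 : β ≠ 0) : ∃ t ∈ L, ec t = 0 ∧ ea t = β := by
  have h1 : Units.mk0 β hβ0 ∈ Fx L hx1 hX := hβA
  obtain ⟨t, ht, ht0, hta⟩ := Fx_le_Cgrp L hx1 hX h1
  exact ⟨t, ht, ht0, hta⟩

theorem memP_general (F : Subfield K) {β σ₁ σ₂ : K} (hβ : β ∈ F) (h1 : σ₁ ∈ F) (h2 : σ₂ ∈ F) :
    2 * β ^ 2 - 2 * σ₁ * β * (β ^ 2 + 1) + 2 * σ₂ * β ^ 2 ∈ F := by aesop

theorem memQ_general (F : Subfield K) {β s₁ s₂ : K} (hβ : β ∈ F) (h1 : s₁ ∈ F) (h2 : s₂ ∈ F) :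
    (β ^ 2 + 1) * s₁ - s₂ ∈ F := by aesop

theorem pm_one_mem (F : Subfield K) {σ : K} (h : σ = 1 ∨ σ = -1) : σ ∈ F := by
  rcases h with rfl | rfl
  · exact F.one_mem
  · exact F.neg_mem F.one_mem

/-- the generic case: a torus element whose diagonal entry has order not dividing four -/
theorem case_general [Finite L] (h2 : (2 : K) ≠ 0) (hx1 : xmat K 1 ∈ L) (hX : Nonempty (XT L))
    (H1 : ∀ y ∈ L, ec y ≠ 0 → ec y ∉ Aset L)
    (H2 : ∀ y ∈ L, ec y ≠ 0 → ∃ r ∈ Aset L, ea y + ed y + r * ec y = 2 ∨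
      ea y + ed y + r * ec y = -2)
    {β : K} (hβA : β ∈ Aset L) (hβ0 : β ≠ 0) (hβ4 : β ^ 4 ≠ 1) : False := by
  obtain ⟨y₀⟩ := id hX
  obtain ⟨b, hb⟩ : ∃ b, b = y₀.1 * xmat K 1 * y₀.1⁻¹ := ⟨_, rfl⟩
  have hbL : b ∈ L := by rw [hb]; exact L.mul_mem (L.mul_mem y₀.2.1 hx1) (L.inv_mem y₀.2.1)
  have hc : ec b ≠ 0 := by
    rw [hb, ec_conj]
    exact mul_ne_zero (mul_ne_zero (by norm_num) y₀.2.2) y₀.2.2
  have htr : ea b + ed b = 2 := by rw [hb, ea_conj, ed_conj]; ring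
  have hcA : ec b ∉ Aset L := H1 b hbL hc
  obtain ⟨t, ht, ht0, hta⟩ := exists_torus_elt L hx1 hX hβA hβ0
  obtain ⟨s₁, hs₁, σ₁, hσ₁, E1⟩ := key_rel L H2 ht ht0 hbL hc htr
  have ht2 : t * t ∈ L := L.mul_mem ht ht
  have ht20 : ec (t * t) = 0 := by rw [ec_mul, ht0]; ring
  obtain ⟨s₂, hs₂, σ₂, hσ₂, E2⟩ := key_rel L H2 ht2 ht20 hbL hc htr
  have hd := ed_eq_inv_of_ec ht0
  rw [ea_mul, eb_mul, ht0, hd, hta] at E2
  rw [hta] at E1
  set F := FA L hx1 hX with hF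
  have hβF : β ∈ F := hβA
  have hs₁F : s₁ ∈ F := hs₁
  have hs₂F : s₂ ∈ F := hs₂
  have hcF : ec b ∉ F := hcA
  have hcomb : (2 * β ^ 2 - 2 * σ₁ * β * (β ^ 2 + 1) + 2 * σ₂ * β ^ 2) +
      ((β ^ 2 + 1) * s₁ - s₂) * ec b = 0 := by
    have e2 : (β * β + eb t * 0) * (β * β + eb t * 0) * ea b +
        (β * β + eb t * 0) * (β * eb t + eb t * β⁻¹) * ec b =
        β ^ 4 * ea b + (β ^ 3 + β) * eb t * ec b := by
      field_simp
      ring
    rw [e2] at E2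
    have e3 : 2 * σ₂ * (β * β + eb t * 0) = 2 * σ₂ * β ^ 2 := by ring
    rw [e3] at E2
    linear_combination (β ^ 2 + 1) * E1 - E2
  have hβ2 : 2 * β ≠ 0 := mul_ne_zero h2 hβ0
  have hP := (indep F (memP_general F hβF (pm_one_mem F hσ₁) (pm_one_mem F hσ₂))
    (memQ_general F hβF hs₁F hs₂F) hcF hcomb).1
  rcases hσ₁ with rfl | rfl <;> rcases hσ₂ with rfl | rfl
  · have h3 : 2 * β * ((β - 1) * (β - 1)) = 0 := by linear_combination -hP
    rcases mul_eq_zero.mp h3 with h4 | h4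
    · exact hβ2 h4
    · have : β = 1 := by
        have := mul_self_eq_zero.mp h4
        linear_combination this
      apply hβ4; rw [this]; ring
  · have h3 : 2 * β * (β ^ 2 + 1) = 0 := by linear_combination -hP
    rcases mul_eq_zero.mp h3 with h4 | h4
    · exact hβ2 h4
    · apply hβ4
      linear_combination (β ^ 2 - 1) * h4
  · have h3 : 2 * β * ((β + 1) * (β + 1)) = 0 := by linear_combination hP
    rcases mul_eq_zero.mp h3 with h4 | h4
    · exact hβ2 h4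
    · have : β = -1 := by
        have := mul_self_eq_zero.mp h4
        linear_combination this
      apply hβ4; rw [this]; ring
  · have h3 : 2 * β * (β ^ 2 + 1) = 0 := by linear_combination hP
    rcases mul_eq_zero.mp h3 with h4 | h4
    · exact hβ2 h4
    · apply hβ4
      linear_combination (β ^ 2 - 1) * h4

end Cfsg.Agent.Lib.Helper1.Dickson
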