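import Mathlib
import Cfsg.Agent.Lib.Helper1.Dickson8
set_option autoImplicit false
open Matrix
universe u
namespace Cfsg.Agent.Lib.Helper1.Dickson

open Cfsg.Agent.Lib.Helper1.SL2Three

variable {K : Type u} [Field K]

local notation "SL2" => Matrix.SpecialLinearGroup (Fin 2) K
local notation "M2" => Matrix (Fin 2) (Fin 2) K

variable (L : Subgroup (Matrix.SpecialLinearGroup (Fin 2) K))

theorem memQ_five (F : Subfield K) {s₁ s₃ : K} (h1 : s₁ ∈ F) (h3 : s₃ ∈ F) :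
    2 * (s₃ - s₁) ∈ F := by aesop

theorem memP_five (F : Subfield K) {σ₁ σ₃ : K} (h1 : σ₁ ∈ F) (h3 : σ₃ ∈ F) :
    -5 - 4 * σ₃ + 8 * σ₁ ∈ F := by aesop

/-- the case `|A| = 5` -/
theorem case_five [Finite L] (h2 : (2 : K) ≠ 0) (h5 : (5 : K) = 0) (hx1 : xmat K 1 ∈ L)
    (hX : Nonempty (XT L))
    (H1 : ∀ y ∈ L, ec y ≠ 0 → ec y ∉ Aset L)
    (H2 : ∀ y ∈ L, ec y ≠ 0 → ∃ r ∈ Aset L, ea y + ed y + r * ec y = 2 ∨
      ea y + ed y + r * ec y = -2) : False := by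
  obtain ⟨y₀⟩ := id hX
  have h1A : (1 : K) ∈ Aset L := hx1
  have h2A : (2 : K) ∈ Aset L := by
    have : (2 : K) = 1 + 1 := by norm_num
    rw [this]; exact (Aset L).add_mem h1A h1A
  obtain ⟨b, hb⟩ : ∃ b, b = y₀.1 * xmat K 1 * y₀.1⁻¹ := ⟨_, rfl⟩
  obtain ⟨b₂, hb₂⟩ : ∃ b₂, b₂ = y₀.1 * xmat K 2 * y₀.1⁻¹ := ⟨_, rfl⟩
  have hbL : b ∈ L := by rw [hb]; exact L.mul_mem (L.mul_mem y₀.2.1 hx1) (L.inv_mem y₀.2.1)
  have hb₂L : b₂ ∈ L := by rw [hb₂]; exact L.mul_mem (L.mul_mem y₀.2.1 h2A) (L.inv_mem y₀.2.1)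
  have hc : ec b ≠ 0 := by
    rw [hb, ec_conj]
    exact mul_ne_zero (mul_ne_zero (by norm_num) y₀.2.2) y₀.2.2
  have hc₂ : ec b₂ ≠ 0 := by
    rw [hb₂, ec_conj]
    exact mul_ne_zero (mul_ne_zero (neg_ne_zero.mpr h2) y₀.2.2) y₀.2.2
  have htr : ea b + ed b = 2 := by rw [hb, ea_conj, ed_conj]; ring
  have htr₂ : ea b₂ + ed b₂ = 2 := by rw [hb₂, ea_conj, ed_conj]; ring
  have hcA : ec b ∉ Aset L := H1 b hbL hc
  obtain ⟨t, ht, ht0, hta⟩ := exists_torus_elt L hx1 hX h2A h2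
  obtain ⟨s₁, hs₁, σ₁, hσ₁, E1⟩ := key_rel L H2 ht ht0 hbL hc htr
  obtain ⟨s₃, hs₃, σ₃, hσ₃, E3⟩ := key_rel L H2 ht ht0 hb₂L hc₂ htr₂
  rw [hta] at E1 E3
  have e1 : ea b₂ = 2 * ea b - 1 := by rw [hb, hb₂, ea_conj, ea_conj]; ring
  have e2 : ec b₂ = 2 * ec b := by rw [hb, hb₂, ec_conj, ec_conj]; ring
  rw [e1, e2] at E3
  set F := FA L hx1 hX with hF
  have hs₁F : s₁ ∈ F := hs₁
  have hs₃F : s₃ ∈ F := hs₃
  have hcF : ec b ∉ F := hcA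
  have hcomb : (-5 - 4 * σ₃ + 8 * σ₁) + (2 * (s₃ - s₁)) * ec b = 0 := by
    linear_combination E3 - 2 * E1
  have hP := (indep F (memP_five F (pm_one_mem F hσ₁) (pm_one_mem F hσ₃))
    (memQ_five F hs₁F hs₃F) hcF hcomb).1
  have h4 : (4 : K) ≠ 0 := by
    have : (4 : K) = 2 * 2 := by norm_num
    rw [this]; exact mul_ne_zero h2 h2
  rcases hσ₁ with rfl | rfl <;> rcases hσ₃ with rfl | rfl
  · apply h4; linear_combination hP + h5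
  · apply h2; linear_combination hP - h5
  · apply h2; linear_combination -hP - 3 * h5
  · apply h4; linear_combination -hP - h5

end Cfsg.Agent.Lib.Helper1.Dickson
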