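import Mathlib
import Cfsg.Agent.Lib.Helper1.Dickson9
set_option autoImplicit false
open Matrix
universe u
namespace Cfsg.Agent.Lib.Helper1.Dickson

open Cfsg.Agent.Lib.Helper1.SL2Three

variable {K : Type u} [Field K]

local notation "SL2" => Matrix.SpecialLinearGroup (Fin 2) K
local notation "M2" => Matrix (Fin 2) (Fin 2) K

/-- the algebra of the case `|A| = 3` -/
theorem alg_three (h3 : (3 : K) = 0) {ι c s σ₁ σ₄ : K} (hι : ι * ι = -1)
    (hs : s = 0 ∨ s = 1 ∨ s = -1) (hσ₁ : σ₁ = 1 ∨ σ₁ = -1) (hσ₄ : σ₄ = 1 ∨ σ₄ = -1)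
    (hrel : s * c ^ 2 + 2 * (1 - σ₁ * ι) * c - 2 * σ₄ * ι = 0) : c ^ 4 = 1 ∨ c ^ 4 = -1 := by
  have hσsq : σ₁ * σ₁ = 1 := by rcases hσ₁ with rfl | rfl <;> ring
  obtain ⟨e, he⟩ : ∃ e, e = σ₁ + ι := ⟨_, rfl⟩
  have he2 : e ^ 2 = 2 * σ₁ * ι := by
    rw [he]; linear_combination hσsq + hι
  have he4 : e ^ 4 = -1 := by
    have : e ^ 4 = (e ^ 2) ^ 2 := by ring
    rw [this, he2]
    linear_combination (4 * ι * ι) * hσsq + 4 * hι - h3
  obtain ⟨z, hz⟩ : ∃ z, z = e * c := ⟨_, rfl⟩
  obtain ⟨st, hst⟩ : ∃ st, st = s * σ₁ := ⟨_, rfl⟩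
  have hst3 : st = 0 ∨ st = 1 ∨ st = -1 := by
    rcases hs with rfl | rfl | rfl <;> rcases hσ₁ with rfl | rfl <;> simp [hst]
  have Hz : st * z ^ 2 + z + σ₄ = 0 := by
    have h1 : st * z ^ 2 = 2 * s * ι * c ^ 2 := by
      rw [hz, hst, mul_pow, he2]
      linear_combination (2 * s * ι * c ^ 2) * hσsq
    rw [h1, hz, he]
    linear_combination (2 * ι) * hrel + (4 * σ₁ * c + 4 * σ₄) * hι - ((σ₁ + ι) * c + σ₄) * h3
  have hc4 : c ^ 4 = -z ^ 4 := by
    rw [hz, mul_pow, he4]; ring
  have hz4 : z ^ 4 = 1 ∨ z ^ 4 = -1 := by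
    rcases hst3 with rfl | rfl | rfl <;> rcases hσ₄ with rfl | rfl
    · left
      have : z = -1 := by linear_combination Hz
      rw [this]; ring
    · left
      have : z = 1 := by linear_combination Hz
      rw [this]; ring
    · left
      have h5 : (z - 1) * (z - 1) = 0 := by linear_combination Hz - z * h3
      have : z = 1 := by
        have := mul_self_eq_zero.mp h5
        linear_combination this
      rw [this]; ring
    · right
      have h5 : z ^ 2 = 1 - z := by linear_combination Hz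
      have : z ^ 4 = (z ^ 2) ^ 2 := by ring
      rw [this, h5]
      linear_combination h5 + (1 - z) * h3
    · right
      have h5 : z ^ 2 = z + 1 := by linear_combination -Hz
      have : z ^ 4 = (z ^ 2) ^ 2 := by ring
      rw [this, h5]
      linear_combination h5 + (z + 1) * h3
    · left
      have h5 : (z + 1) * (z + 1) = 0 := by linear_combination -Hz + z * h3
      have : z = -1 := by
        have := mul_self_eq_zero.mp h5
        linear_combination this
      rw [this]; ring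
  rcases hz4 with h | h
  · right; rw [hc4, h]
  · left; rw [hc4, h]; ring

end Cfsg.Agent.Lib.Helper1.Dickson
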