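import Mathlib
import Cfsg.Agent.Lib.Helper1.Dickson10
set_option autoImplicit false
open Matrix
universe u
namespace Cfsg.Agent.Lib.Helper1.Dickson

open Cfsg.Agent.Lib.Helper1.SL2Three

variable {K : Type u} [Field K]

local notation "SL2" => Matrix.SpecialLinearGroup (Fin 2) K
local notation "M2" => Matrix (Fin 2) (Fin 2) K

variable (L : Subgroup (Matrix.SpecialLinearGroup (Fin 2) K))

theorem card_Aset_cast_eq_zero [Finite L] (hx1 : xmat K 1 ∈ L) :
    ((Nat.card (Aset L) : ℕ) : K) = 0 := by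
  have h := card_nsmul_eq_zero' (G := Aset L) (x := ⟨1, hx1⟩)
  have h2 := congrArg (fun x : Aset L => (x : K)) h
  simp only [AddSubgroup.coe_nsmul, AddSubgroup.coe_zero, nsmul_eq_mul, mul_one] at h2
  exact h2

theorem Aset_three [Finite L] (h2 : (2 : K) ≠ 0) (hx1 : xmat K 1 ∈ L)
    (hA : Nat.card (Aset L) = 3) {s : K} (hs : s ∈ Aset L) : s = 0 ∨ s = 1 ∨ s = -1 := by
  have h1A : (1 : K) ∈ Aset L := hx1
  let f : Fin 3 → Aset L := ![0, ⟨1, h1A⟩, ⟨-1, (Aset L).neg_mem h1A⟩]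
  have hf : Function.Injective f := by
    intro i j h
    have h' := congrArg (fun x : Aset L => (x : K)) h
    fin_cases i <;> fin_cases j <;> simp [f] at h' ⊢
    · exact absurd h' (by
        intro h0; apply h2; linear_combination h0)
    · exact absurd h' (by
        intro h0; apply h2; linear_combination -h0)
  have hcard : Nat.card (Aset L) ≤ Nat.card (Fin 3) := by
    rw [hA, Nat.card_eq_fintype_card, Fintype.card_fin]
  obtain ⟨i, hi⟩ := (hf.bijective_of_nat_card_le hcard).2 ⟨s, hs⟩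
  have hi' := congrArg (fun x : Aset L => (x : K)) hi
  fin_cases i <;> simp [f] at hi'
  · left; exact hi'.symm
  · right; left; exact hi'.symm
  · right; right; exact hi'.symm

theorem exists_iota [Finite L] (hC : Nat.card (Cgrp L) = 4) :
    ∃ t ∈ L, ec t = 0 ∧ ea t * ea t = -1 := by
  haveI : IsCyclic (Cgrp L) := isCyclic_subgroup_units (Cgrp L)
  obtain ⟨g, hg⟩ := IsCyclic.exists_generator (α := Cgrp L)
  have hord : orderOf g = 4 := by
    rw [orderOf_eq_card_of_forall_mem_zpowers hg, hC]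
  obtain ⟨t, ht, ht0, hta⟩ := g.2
  refine ⟨t, ht, ht0, ?_⟩
  rw [hta]
  have h4 : g ^ 4 = 1 := by rw [← hord]; exact pow_orderOf_eq_one g
  have h4' : (((g : Kˣ)) : K) ^ 4 = 1 := by
    have := congrArg (fun x : Cgrp L => ((x : Kˣ) : K)) h4
    simpa using this
  have h2' : (((g : Kˣ)) : K) ^ 2 ≠ 1 := by
    intro h
    have : g ^ 2 = 1 := by
      apply Subtype.ext
      apply Units.ext
      simpa using h
    have := orderOf_dvd_of_pow_eq_one this
    rw [hord] at this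
    omega
  have h5 : ((((g : Kˣ)) : K) ^ 2 - 1) * ((((g : Kˣ)) : K) ^ 2 + 1) = 0 := by
    linear_combination h4'
  rcases mul_eq_zero.mp h5 with h6 | h6
  · exact absurd (sub_eq_zero.mp h6) h2'
  · linear_combination h6

/-- the case `|A| = 3` -/
theorem case_three [Finite L] (h2 : (2 : K) ≠ 0) (hx1 : xmat K 1 ∈ L)
    (hX : Nonempty (XT L)) (hA : Nat.card (Aset L) = 3) (hC : Nat.card (Cgrp L) = 4)
    (H2 : ∀ y ∈ L, ec y ≠ 0 → ∃ r ∈ Aset L, ea y + ed y + r * ec y = 2 ∨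
      ea y + ed y + r * ec y = -2) :
    ∃ g ∈ L, ec g * ec g = 1 ∨ ec g * ec g = -1 := by
  have h3 : (3 : K) = 0 := by
    have := card_Aset_cast_eq_zero L hx1
    rw [hA] at this
    exact_mod_cast this
  obtain ⟨y₀⟩ := id hX
  obtain ⟨b, hb⟩ : ∃ b, b = y₀.1 * xmat K 1 * y₀.1⁻¹ := ⟨_, rfl⟩
  have hbL : b ∈ L := by rw [hb]; exact L.mul_mem (L.mul_mem y₀.2.1 hx1) (L.inv_mem y₀.2.1)
  have hc : ec b ≠ 0 := by
    rw [hb, ec_conj]
    exact mul_ne_zero (mul_ne_zero (by norm_num) y₀.2.2) y₀.2.2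
  have htr : ea b + ed b = 2 := by rw [hb, ea_conj, ed_conj]; ring
  obtain ⟨g₁, hg₁⟩ : ∃ g₁, g₁ = b * xmat K 1 * b⁻¹ := ⟨_, rfl⟩
  have hg₁L : g₁ ∈ L := by rw [hg₁]; exact L.mul_mem (L.mul_mem hbL hx1) (L.inv_mem hbL)
  have hc₁ : ec g₁ ≠ 0 := by
    rw [hg₁, ec_conj]
    exact mul_ne_zero (mul_ne_zero (by norm_num) hc) hc
  have htr₁ : ea g₁ + ed g₁ = 2 := by rw [hg₁, ea_conj, ed_conj]; ring
  obtain ⟨t, ht, ht0, hta⟩ := exists_iota L hC
  obtain ⟨s₁, hs₁, σ₁, hσ₁, E1⟩ := key_rel L H2 ht ht0 hbL hc htr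
  obtain ⟨s₄, hs₄, σ₄, hσ₄, E4⟩ := key_rel L H2 ht ht0 hg₁L hc₁ htr₁
  have e1 : ea g₁ = 1 - ea b * ec b := by rw [hg₁, ea_conj]; ring
  have e2 : ec g₁ = -(ec b * ec b) := by rw [hg₁, ec_conj]; ring
  rw [e1, e2, hta] at E4
  rw [hta] at E1
  have hs := Aset_three L h2 hx1 hA ((Aset L).sub_mem hs₁ hs₄)
  have hrel : (s₁ - s₄) * ec b ^ 2 + 2 * (1 - σ₁ * ea t) * ec b - 2 * σ₄ * ea t = 0 := by
    linear_combination ec b * E1 + E4
  rcases alg_three h3 hta hs hσ₁ hσ₄ hrel with h | h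
  · -- c^4 = 1
    have h5 : (ec b * ec b - 1) * (ec b * ec b + 1) = 0 := by linear_combination h
    rcases mul_eq_zero.mp h5 with h6 | h6
    · exact ⟨b, hbL, Or.inl (by linear_combination h6)⟩
    · exact ⟨b, hbL, Or.inr (by linear_combination h6)⟩
  · refine ⟨g₁, hg₁L, Or.inr ?_⟩
    rw [e2]
    linear_combination h

end Cfsg.Agent.Lib.Helper1.Dickson
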