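import Mathlib
import Cfsg.Agent.Lib.Helper1.Dickson11
set_option autoImplicit false
open Matrix
universe u
namespace Cfsg.Agent.Lib.Helper1.Dickson

open Cfsg.Agent.Lib.Helper1.SL2Three

variable {K : Type u} [Field K]

local notation "SL2" => Matrix.SpecialLinearGroup (Fin 2) K
local notation "M2" => Matrix (Fin 2) (Fin 2) K

variable (L : Subgroup (Matrix.SpecialLinearGroup (Fin 2) K))

theorem three_le_card_Aset [Finite L] (h2 : (2 : K) ≠ 0) (hx1 : xmat K 1 ∈ L) :
    3 ≤ Nat.card (Aset L) := by
  have h1A : (1 : K) ∈ Aset L := hx1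
  let f : Fin 3 → Aset L := ![0, ⟨1, h1A⟩, ⟨-1, (Aset L).neg_mem h1A⟩]
  have hf : Function.Injective f := by
    intro i j h
    have h' := congrArg (fun x : Aset L => (x : K)) h
    fin_cases i <;> fin_cases j <;> simp [f] at h' ⊢
    · exact absurd h' (by
        intro h0; apply h2; linear_combination h0)
    · exact absurd h' (by
        intro h0; apply h2; linear_combination -h0)
  have := Nat.card_le_card_of_injective f hf
  rwa [Nat.card_eq_fintype_card, Fintype.card_fin] at this

/-- **Dickson-type theorem, normalized form.** A finite subgroup of `SL₂(K)` (`char K ≠ 2`)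
containing `-1` and `u(1)` and not contained in the upper triangular group contains an element
whose lower left entry squares to `±1`. -/
theorem normalized_dickson [Finite L] (h2 : (2 : K) ≠ 0) (hneg : ∀ g ∈ L, -g ∈ L)
    (hx1 : xmat K 1 ∈ L) {y₀ : SL2} (hy₀ : y₀ ∈ L) (hc₀ : ec y₀ ≠ 0) :
    ∃ g ∈ L, ec g * ec g = 1 ∨ ec g * ec g = -1 := by
  have hX : Nonempty (XT L) := ⟨⟨y₀, hy₀, hc₀⟩⟩
  rcases dichotomy L hneg hx1 hX with ⟨y, hy, hc, ⟨r, hr, e1⟩, ⟨r', hr', e2⟩⟩ | ⟨hC, H2⟩
  · obtain ⟨g, hg, hg1⟩ := exists_of_both L h2 hx1 hX hy hc hr hr' e1 e2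
    exact ⟨g, hg, Or.inl (by rw [hg1]; ring)⟩
  · by_cases H1 : ∀ y ∈ L, ec y ≠ 0 → ec y ∉ Aset L
    · have hA := card_Aset_eq L
      have hA3 := three_le_card_Aset L h2 hx1
      by_cases hm : Nat.card (A0 L) ∣ 4
      · have hle : Nat.card (A0 L) ≤ 4 := Nat.le_of_dvd (by norm_num) hm
        have hge : 2 ≤ Nat.card (A0 L) := by omega
        obtain ⟨m, hmdef⟩ : ∃ m, m = Nat.card (A0 L) := ⟨_, rfl⟩
        rw [← hmdef] at hm hle hge hA hC
        interval_cases m
        · exact case_three L h2 hx1 hX (by omega) (by omega) H2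
        · omega
        · exfalso
          have h5 : (5 : K) = 0 := by
            have := card_Aset_cast_eq_zero L hx1
            rw [hA] at this
            exact_mod_cast this
          exact case_five L h2 h5 hx1 hX H1 H2
      · exfalso
        haveI : IsCyclic (Fx L hx1 hX) := isCyclic_subgroup_units _
        obtain ⟨g, hg⟩ := IsCyclic.exists_generator (α := Fx L hx1 hX)
        have hord : orderOf g = Nat.card (A0 L) := by
          rw [orderOf_eq_card_of_forall_mem_zpowers hg, card_Fx]
        apply case_general L h2 hx1 hX H1 H2 (β := ((g : Kˣ) : K)) g.2 (Units.ne_zero _)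
        intro h4
        apply hm
        rw [← hord]
        apply orderOf_dvd_of_pow_eq_one
        apply Subtype.ext
        apply Units.ext
        simpa using h4
    · push_neg at H1
      obtain ⟨y, hy, hc, hcA⟩ := H1
      obtain ⟨g, hg, hg1⟩ := exists_of_ec_mem L hx1 hX hy hc hcA
      exact ⟨g, hg, Or.inl (by rw [hg1]; ring)⟩

end Cfsg.Agent.Lib.Helper1.Dickson
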