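import Mathlib
import Cfsg.Agent.Lib.Helper1.Dickson12
set_option autoImplicit false
open Matrix
universe u
namespace Cfsg.Agent.Lib.Helper1.Dickson

open Cfsg.Agent.Lib.Helper1.SL2Three

variable {K : Type u} [Field K]

local notation "SL2" => Matrix.SpecialLinearGroup (Fin 2) K
local notation "M2" => Matrix (Fin 2) (Fin 2) K

/-- a nontrivial unipotent element is conjugate to `u(1)` -/
theorem exists_conj_to_xmat (a : SL2) (ha1 : a ≠ 1)
    (hau : ((a : M2) - 1) * ((a : M2) - 1) = 0) :
    ∃ (P : M2) (hP : IsUnit P.det), conjHom P hP a = xmat K 1 := by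
  have h00 : (ea a - 1) * (ea a - 1) + eb a * ec a = 0 := by
    have := congrFun (congrFun hau 0) 0
    simp only [Matrix.mul_apply, Fin.sum_univ_two, Matrix.sub_apply, Matrix.one_apply_eq,
      Matrix.zero_apply] at this
    simpa [ea, eb, ec] using this
  have h01 : (ea a - 1) * eb a + eb a * (ed a - 1) = 0 := by
    have := congrFun (congrFun hau 0) 1
    simp only [Matrix.mul_apply, Fin.sum_univ_two, Matrix.sub_apply, Matrix.one_apply_eq,
      Matrix.zero_apply] at this
    simpa [ea, eb, ec, ed] using this
  have h10 : ec a * (ea a - 1) + (ed a - 1) * ec a = 0 := by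
    have := congrFun (congrFun hau 1) 0
    simp only [Matrix.mul_apply, Fin.sum_univ_two, Matrix.sub_apply, Matrix.one_apply_eq,
      Matrix.zero_apply] at this
    simpa [ea, eb, ec, ed] using this
  have h11 : ec a * eb a + (ed a - 1) * (ed a - 1) = 0 := by
    have := congrFun (congrFun hau 1) 1
    simp only [Matrix.mul_apply, Fin.sum_univ_two, Matrix.sub_apply, Matrix.one_apply_eq,
      Matrix.zero_apply] at this
    simpa [ea, eb, ec, ed] using this
  by_cases hb : eb a = 0
  · by_cases hc : ec a = 0
    · exfalso
      apply ha1
      rw [hb, hc] at h00 h11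
      have e1 : ea a = 1 := by
        have : (ea a - 1) * (ea a - 1) = 0 := by linear_combination h00
        have := mul_self_eq_zero.mp this
        linear_combination this
      have e4 : ed a = 1 := by
        have : (ed a - 1) * (ed a - 1) = 0 := by linear_combination h11
        have := mul_self_eq_zero.mp this
        linear_combination this
      apply ext_entries <;> simp [e1, e4, hb, hc]
    · refine ⟨!![0, 1; ec a, ed a - 1], ?_, ?_⟩
      · rw [Matrix.det_fin_two_of]
        apply isUnit_iff_ne_zero.mpr
        intro h; apply hc; linear_combination -h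
      · apply conjHom_eq_of_mul_eq
        ext i j
        fin_cases i <;> fin_cases j <;>
          simp [Matrix.mul_apply, Fin.sum_univ_two, coe_xmat]
        · rfl
        · rfl
        · show ec a = ec a * ea a + (ed a - 1) * ec a
          linear_combination -h10
        · show ed a - 1 = ec a * eb a + (ed a - 1) * ed a
          linear_combination -h11
  · refine ⟨!![1, 0; ea a - 1, eb a], ?_, ?_⟩
    · rw [Matrix.det_fin_two_of]
      apply isUnit_iff_ne_zero.mpr
      intro h; apply hb; linear_combination h
    · apply conjHom_eq_of_mul_eq
      ext i j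
      fin_cases i <;> fin_cases j <;>
        simp [Matrix.mul_apply, Fin.sum_univ_two, coe_xmat]
      · rfl
      · rfl
      · show ea a - 1 = (ea a - 1) * ea a + eb a * ec a
        linear_combination -h00
      · show eb a = (ea a - 1) * eb a + eb a * ed a
        linear_combination -h01

theorem trace_conjHom (P : M2) (hP : IsUnit P.det) (m : SL2) :
    ((conjHom P hP m : SL2) : M2).trace = (m : M2).trace := by
  rw [coe_conjHom, Matrix.trace_mul_comm, ← Matrix.mul_assoc, nonsing_inv_mul _ hP, Matrix.one_mul]

end Cfsg.Agent.Lib.Helper1.Dickson
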