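import Mathlib
import Cfsg.Agent.Lib.Helper1.Dickson13
set_option autoImplicit false
open Matrix
universe u
namespace Cfsg.Agent.Lib.Helper1.Dickson

open Cfsg.Agent.Lib.Helper1.SL2Three

variable {K : Type u} [Field K]

local notation "SL2" => Matrix.SpecialLinearGroup (Fin 2) K
local notation "M2" => Matrix (Fin 2) (Fin 2) K

theorem neg_mul_neg_SL (g h : SL2) : (-g) * (-h) = g * h := by
  apply Subtype.ext
  simp [Matrix.SpecialLinearGroup.coe_mul, Matrix.SpecialLinearGroup.coe_neg]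

theorem neg_mul_SL (g h : SL2) : (-g) * h = -(g * h) := by
  apply Subtype.ext
  simp [Matrix.SpecialLinearGroup.coe_mul, Matrix.SpecialLinearGroup.coe_neg]

theorem mul_neg_SL (g h : SL2) : g * (-h) = -(g * h) := by
  apply Subtype.ext
  simp [Matrix.SpecialLinearGroup.coe_mul, Matrix.SpecialLinearGroup.coe_neg]

theorem neg_inv_SL (g : SL2) : (-g)⁻¹ = -g⁻¹ := by
  rw [inv_eq_iff_eq_inv, eq_comm, inv_eq_iff_mul_eq_one, neg_mul_neg_SL, inv_mul_cancel]

/-- adjoin `-1` to a subgroup -/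
def withNeg (L : Subgroup SL2) : Subgroup SL2 where
  carrier := {g | g ∈ L ∨ -g ∈ L}
  one_mem' := Or.inl L.one_mem
  mul_mem' := by
    rintro a b (ha | ha) (hb | hb)
    · exact Or.inl (L.mul_mem ha hb)
    · right
      rw [← mul_neg_SL]; exact L.mul_mem ha hb
    · right
      rw [← neg_mul_SL]; exact L.mul_mem ha hb
    · left
      rw [← neg_mul_neg_SL]; exact L.mul_mem ha hb
  inv_mem' := by
    rintro a (ha | ha)
    · exact Or.inl (L.inv_mem ha)
    · right
      rw [← neg_inv_SL]; exact L.inv_mem ha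

theorem mem_withNeg {L : Subgroup SL2} {g : SL2} : g ∈ withNeg L ↔ g ∈ L ∨ -g ∈ L := Iff.rfl

instance (L : Subgroup SL2) [Finite L] : Finite (withNeg L) := by
  have h1 : (L : Set SL2).Finite := Set.toFinite _
  have h2 : ((fun g : SL2 => -g) '' (L : Set SL2)).Finite := h1.image _
  have h3 : ((withNeg L : Subgroup SL2) : Set SL2) ⊆ (L : Set SL2) ∪ (fun g : SL2 => -g) '' (L : Set SL2) := by
    rintro g (hg | hg)
    · exact Or.inl hg
    · exact Or.inr ⟨-g, hg, neg_neg g⟩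
  exact Set.finite_coe_iff.mpr ((h1.union h2).subset h3)

/-- **Dickson-type theorem.** Let `L` be a finite subgroup of `SL₂(K)`, `char K ≠ 2`, `a ∈ L` a
nontrivial unipotent element, and suppose some `L`-conjugate of `a` does not commute with `a`.
Then there is `g ∈ L` with `tr(a · g a g⁻¹) ∈ {1, 3}`. -/
theorem dickson_trace (h2 : (2 : K) ≠ 0) (L : Subgroup SL2) [Finite L] (a : SL2) (haL : a ∈ L)
    (ha1 : a ≠ 1) (hau : ((a : M2) - 1) * ((a : M2) - 1) = 0) (y : SL2) (hyL : y ∈ L)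
    (hy : a * (y * a * y⁻¹) ≠ (y * a * y⁻¹) * a) :
    ∃ g ∈ L, ((a * (g * a * g⁻¹) : SL2) : M2).trace = 1 ∨
      ((a * (g * a * g⁻¹) : SL2) : M2).trace = 3 := by
  obtain ⟨P, hP, hPa⟩ := exists_conj_to_xmat a ha1 hau
  obtain ⟨φ, hφ⟩ : ∃ φ : SL2 →* SL2, φ = conjHom P hP := ⟨_, rfl⟩
  rw [← hφ] at hPa
  have hinj : Function.Injective φ := by rw [hφ]; exact conjHom_injective P hP
  have htrφ : ∀ m : SL2, ((φ m : SL2) : M2).trace = (m : M2).trace := by
    intro m; rw [hφ]; exact trace_conjHom P hP m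
  obtain ⟨L', hL'⟩ : ∃ L' : Subgroup SL2, L' = L.map φ := ⟨_, rfl⟩
  haveI : Finite L' := by
    rw [hL']
    exact Finite.of_surjective (fun x : L => (⟨φ x.1, Subgroup.mem_map_of_mem φ x.2⟩ : L.map φ))
      (by
        rintro ⟨_, x, hx, rfl⟩
        exact ⟨⟨x, hx⟩, rfl⟩)
  have hneg : ∀ g ∈ withNeg L', -g ∈ withNeg L' := by
    rintro g (hg | hg)
    · right; rw [neg_neg]; exact hg
    · left; exact hg
  have hx1 : xmat K 1 ∈ withNeg L' := by
    left
    rw [← hPa, hL']
    exact Subgroup.mem_map_of_mem φ haL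
  have hy₀ : φ y ∈ withNeg L' := Or.inl (by rw [hL']; exact Subgroup.mem_map_of_mem φ hyL)
  have hc₀ : ec (φ y) ≠ 0 := by
    intro h0
    apply hy
    apply hinj
    simp only [map_mul, map_inv, hPa]
    have e : φ y * xmat K 1 * (φ y)⁻¹ = xmat K (ea (φ y) * ea (φ y)) := by
      apply ext_entries
      · rw [ea_conj, h0]; simp
      · rw [eb_conj]; simp
      · rw [ec_conj, h0]; simp
      · rw [ed_conj, h0]; simp
    rw [e, ← xmat_add, ← xmat_add, add_comm]
  obtain ⟨g'', hg'', hsq⟩ := normalized_dickson (withNeg L') h2 hneg hx1 hy₀ hc₀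
  have key : ∃ g' ∈ L', ec g' * ec g' = 1 ∨ ec g' * ec g' = -1 := by
    rcases hg'' with hg | hg
    · exact ⟨g'', hg, hsq⟩
    · refine ⟨-g'', hg, ?_⟩
      rw [ec_neg]
      rcases hsq with h | h
      · left; linear_combination h
      · right; linear_combination h
  obtain ⟨g', hg', hsq'⟩ := key
  rw [hL'] at hg'
  obtain ⟨g, hg, rfl⟩ := hg'
  refine ⟨g, hg, ?_⟩
  have htr : ((a * (g * a * g⁻¹) : SL2) : M2).trace = 2 - ec (φ g) * ec (φ g) := by
    rw [← htrφ]
    simp only [map_mul, map_inv, hPa]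
    exact trace_xmat_conj (φ g)
  rw [htr]
  rcases hsq' with h | h
  · left; rw [h]; norm_num
  · right; rw [h]; norm_num

end Cfsg.Agent.Lib.Helper1.Dickson
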