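import Mathlib
import Cfsg.Agent.Lib.Helper1.Dickson14
set_option autoImplicit false
open Matrix
universe u
namespace Cfsg.Agent.Lib.Helper1.Dickson

open Cfsg.Agent.Lib.Helper1.SL2Three

variable {K : Type u} [Field K]

local notation "SL2" => Matrix.SpecialLinearGroup (Fin 2) K
local notation "M2" => Matrix (Fin 2) (Fin 2) K

@[simp] theorem ea_ymat (s : K) : ea (ymat K s) = 1 := by simp [ea]
@[simp] theorem eb_ymat (s : K) : eb (ymat K s) = 0 := by simp [eb]
@[simp] theorem ec_ymat (s : K) : ec (ymat K s) = s := by simp [ec]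
@[simp] theorem ed_ymat (s : K) : ed (ymat K s) = 1 := by simp [ed]

/-- `SL₂(𝔽_p)` is generated by `u(1)` and `l(m)` for `m = ±1` -/
theorem closure_xmat_ymat_eq_top (p : ℕ) [Fact p.Prime] (m : ZMod p) (hm : m = 1 ∨ m = -1) :
    Subgroup.closure ({xmat (ZMod p) 1, ymat (ZMod p) m} :
      Set (Matrix.SpecialLinearGroup (Fin 2) (ZMod p))) = ⊤ := by
  set H := Subgroup.closure ({xmat (ZMod p) 1, ymat (ZMod p) m} :
      Set (Matrix.SpecialLinearGroup (Fin 2) (ZMod p))) with hH
  have hx : xmat (ZMod p) 1 ∈ H := Subgroup.subset_closure (by simp)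
  have hy : ymat (ZMod p) m ∈ H := Subgroup.subset_closure (by simp)
  have ymat_nsmul : ∀ (b : ZMod p) (n : ℕ), ymat (ZMod p) ((n : ZMod p) * b) = ymat (ZMod p) b ^ n := by
    intro b n
    induction n with
    | zero =>
      simp only [Nat.cast_zero, zero_mul, pow_zero]
      ext i j
      rw [coe_ymat, Matrix.SpecialLinearGroup.coe_one]
      fin_cases i <;> fin_cases j <;> simp
    | succ n ih =>
      rw [pow_succ, ← ih]
      ext i j
      rw [Matrix.SpecialLinearGroup.coe_mul, coe_ymat, coe_ymat, coe_ymat]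
      fin_cases i <;> fin_cases j <;> simp [Matrix.mul_apply, Fin.sum_univ_two]
      ring
  apply eq_top_of_xmat_ymat_mem
  · intro a
    have : a = ((ZMod.val a : ℕ) : ZMod p) * 1 := by rw [mul_one, ZMod.natCast_zmod_val]
    rw [this, xmat_nsmul]
    exact H.pow_mem hx _
  · intro b
    have hm2 : m * m = 1 := by rcases hm with rfl | rfl <;> ring
    have : b = ((ZMod.val (b * m) : ℕ) : ZMod p) * m := by
      rw [ZMod.natCast_zmod_val, mul_assoc, hm2, mul_one]
    rw [this, ymat_nsmul]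
    exact H.pow_mem hy _

/-- two unipotent elements with `tr(ab) = 2 ± 1` generate a copy of `SL₂(p)` -/
theorem exists_equiv_sl2_of_trace {p : ℕ} [hp : Fact p.Prime] [CharP K p] (a b : SL2)
    (ha1 : a ≠ 1) (hau : ((a : M2) - 1) * ((a : M2) - 1) = 0) (hbt : (b : M2).trace = 2)
    (m : K) (hm : m = 1 ∨ m = -1) (htab : ((a * b : SL2) : M2).trace = 2 + m) :
    Nonempty (Subgroup.closure ({a, b} : Set SL2) ≃*
      Matrix.SpecialLinearGroup (Fin 2) (ZMod p)) := by
  obtain ⟨P, hP, hPa⟩ := exists_conj_to_xmat a ha1 hau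
  obtain ⟨φ, hφ⟩ : ∃ φ : SL2 →* SL2, φ = conjHom P hP := ⟨_, rfl⟩
  rw [← hφ] at hPa
  have hinj : Function.Injective φ := by rw [hφ]; exact conjHom_injective P hP
  have htrφ : ∀ x : SL2, ((φ x : SL2) : M2).trace = (x : M2).trace := by
    intro x; rw [hφ]; exact trace_conjHom P hP x
  have hm0 : m ≠ 0 := by
    rcases hm with rfl | rfl
    · exact one_ne_zero
    · exact neg_ne_zero.mpr one_ne_zero
  obtain ⟨b', hb'⟩ : ∃ b', b' = φ b := ⟨_, rfl⟩
  have htb' : ea b' + ed b' = 2 := by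
    rw [← trace_eq, hb', htrφ, hbt]
  have hcb' : ec b' = m := by
    have h1 : ((xmat K 1 * b' : SL2) : M2).trace = 2 + m := by
      rw [hb', ← hPa, ← map_mul, htrφ, htab]
    rw [trace_eq, ea_mul, ed_mul] at h1
    simp only [ea_xmat, eb_xmat, ec_xmat, ed_xmat] at h1
    linear_combination h1 - htb'
  obtain ⟨s, hs⟩ : ∃ s, s = -(ea b' - 1) / m := ⟨_, rfl⟩
  have hsm : s * m = -(ea b' - 1) := by rw [hs]; field_simp
  obtain ⟨c, hc⟩ : ∃ c, c = xmat K s := ⟨_, rfl⟩
  have hcx : c * xmat K 1 * c⁻¹ = xmat K 1 := by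
    rw [hc, ← xmat_neg, ← xmat_add, ← xmat_add]
    congr 1; ring
  have hcb : c * b' * c⁻¹ = ymat K m := by
    have hd := det_eq b'
    rw [hcb'] at hd
    have h1 : ea (c * b' * c⁻¹) = 1 := by
      rw [hc, ← xmat_neg, ea_mul, ea_mul, eb_mul]
      simp only [ea_xmat, eb_xmat, ec_xmat, ed_xmat]
      rw [hcb']; linear_combination hsm
    have h3 : ec (c * b' * c⁻¹) = m := by
      rw [hc, ← xmat_neg, ec_mul, ec_mul, ed_mul]
      simp only [ea_xmat, eb_xmat, ec_xmat, ed_xmat]
      rw [hcb']; ring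
    have h4 : ed (c * b' * c⁻¹) = 1 := by
      rw [hc, ← xmat_neg, ed_mul, ec_mul, ed_mul]
      simp only [ea_xmat, eb_xmat, ec_xmat, ed_xmat]
      rw [hcb']; linear_combination -hsm + htb'
    have h2 : eb (c * b' * c⁻¹) = 0 := by
      have hd' := det_eq (c * b' * c⁻¹)
      rw [h1, h3, h4] at hd'
      have : eb (c * b' * c⁻¹) * m = 0 := by linear_combination -hd'
      rcases mul_eq_zero.mp this with h | h
      · exact h
      · exact absurd h hm0
    apply ext_entries
    · rw [h1]; simp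
    · rw [h2]; simp
    · rw [h3]; simp
    · rw [h4]; simp
  let Φ : SL2 →* SL2 := (MulAut.conj c).toMonoidHom.comp φ
  have hΦinj : Function.Injective Φ := (MulAut.conj c).injective.comp hinj
  have hΦa : Φ a = xmat K 1 := by
    show c * φ a * c⁻¹ = xmat K 1
    rw [hPa, hcx]
  have hΦb : Φ b = ymat K m := by
    show c * φ b * c⁻¹ = ymat K m
    rw [← hb', hcb]
  let f : ZMod p →+* K := ZMod.castHom (dvd_refl p) K
  have hf : Function.Injective f := f.injective
  let ι := Matrix.SpecialLinearGroup.map (n := Fin 2) f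
  have hι : Function.Injective ι := map_injective_of_injective f hf
  obtain ⟨mp, hmp, hmpm⟩ : ∃ mp : ZMod p, (mp = 1 ∨ mp = -1) ∧ f mp = m := by
    rcases hm with h | h
    · exact ⟨1, Or.inl rfl, by rw [h, map_one]⟩
    · exact ⟨-1, Or.inr rfl, by rw [h, map_neg, map_one]⟩
  have hιx : ι (xmat (ZMod p) 1) = xmat K 1 := by
    ext r c'
    simp only [ι, Matrix.SpecialLinearGroup.map_apply_coe, RingHom.mapMatrix_apply, coe_xmat]
    fin_cases r <;> fin_cases c' <;> simp
  have hιy : ι (ymat (ZMod p) mp) = ymat K m := by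
    ext r c'
    simp only [ι, Matrix.SpecialLinearGroup.map_apply_coe, RingHom.mapMatrix_apply, coe_ymat]
    fin_cases r <;> fin_cases c' <;> simp [hmpm]
  have hcl : (Subgroup.closure ({a, b} : Set SL2)).map Φ = (⊤ : Subgroup _).map ι := by
    rw [← closure_xmat_ymat_eq_top p mp hmp, MonoidHom.map_closure, MonoidHom.map_closure]
    congr 1
    rw [Set.image_pair, Set.image_pair, hΦa, hΦb, hιx, hιy]
  have e1 := Subgroup.equivMapOfInjective (Subgroup.closure ({a, b} : Set SL2)) Φ hΦinj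
  have e2 := Subgroup.equivMapOfInjective (⊤ : Subgroup (Matrix.SpecialLinearGroup (Fin 2) (ZMod p))) ι hι
  exact ⟨(e1.trans (MulEquiv.subgroupCongr hcl)).trans (e2.symm.trans Subgroup.topEquiv)⟩

end Cfsg.Agent.Lib.Helper1.Dickson
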