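import Mathlib
import Cfsg.Agent.Lib.Helper1.Dickson15
import Cfsg.Agent.Lib.Helper1.QuadSL2e
set_option autoImplicit false
open Matrix
universe u
namespace Cfsg.Agent.Lib.Helper1.Dickson

open Cfsg.Agent.Lib.Helper1.SL2Three Cfsg.Agent.Lib.Helper1.SL2Odd

variable {K : Type u} [Field K]

local notation "SL2" => Matrix.SpecialLinearGroup (Fin 2) K
local notation "M2" => Matrix (Fin 2) (Fin 2) K

theorem ec_pow_of_ec (g : SL2) (h : ec g = 0) (n : ℕ) : ec (g ^ n) = 0 ∧ ea (g ^ n) = ea g ^ n := by
  induction n with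
  | zero => simp
  | succ n ih =>
    rw [pow_succ, ec_mul, ea_mul, ih.1, ih.2, h]
    constructor
    · ring
    · ring

/-- the unipotent upper triangular group -/
def Usub (K : Type u) [Field K] : Subgroup (Matrix.SpecialLinearGroup (Fin 2) K) where
  carrier := {g | ∃ s : K, g = xmat K s}
  one_mem' := ⟨0, (xmat_zero K).symm⟩
  mul_mem' := by
    rintro _ _ ⟨s, rfl⟩ ⟨t, rfl⟩
    exact ⟨s + t, (xmat_add K s t).symm⟩
  inv_mem' := by
    rintro _ ⟨s, rfl⟩
    exact ⟨-s, (xmat_neg s).symm⟩

theorem isPGroup_Usub {p : ℕ} [hp : Fact p.Prime] [CharP K p] : IsPGroup p (Usub K) := by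
  rintro ⟨_, s, rfl⟩
  refine ⟨1, ?_⟩
  apply Subtype.ext
  rw [pow_one, Subgroup.coe_pow, Subgroup.coe_one, ← xmat_nsmul, CharP.cast_eq_zero, zero_mul,
    xmat_zero]

/-- if `u(1)` commutes with its conjugate by `y` then `y` is upper triangular -/
theorem ec_eq_zero_of_commute (y : SL2)
    (h : xmat K 1 * (y * xmat K 1 * y⁻¹) = (y * xmat K 1 * y⁻¹) * xmat K 1) : ec y = 0 := by
  have h1 := congrArg ea h
  rw [ea_mul (xmat K 1), ea_mul _ (xmat K 1), ea_conj, ec_conj] at h1
  simp only [ea_xmat, eb_xmat, ec_xmat, ed_xmat] at h1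
  have : ec y * ec y = 0 := by linear_combination -h1
  exact mul_self_eq_zero.mp this

/-- a subgroup generated by two elements of order `p` which is not a `p`-group contains a
conjugate of the first generator not commuting with it -/
theorem exists_noncommuting_conj {p : ℕ} [hp : Fact p.Prime] [CharP K p]
    (L : Subgroup SL2) (a b : SL2) (hL : L = Subgroup.closure {a, b}) (hap : a ^ p = 1)
    (hbp : b ^ p = 1) (hnp : ¬ IsPGroup p L) :
    a ≠ 1 ∧ ∃ y ∈ L, a * (y * a * y⁻¹) ≠ (y * a * y⁻¹) * a := by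
  have haL : a ∈ L := by rw [hL]; exact Subgroup.subset_closure (by simp)
  have hbL : b ∈ L := by rw [hL]; exact Subgroup.subset_closure (by simp)
  have hzp : ∀ c : SL2, c ^ p = 1 → IsPGroup p (Subgroup.zpowers c) := by
    intro c hc
    rintro ⟨y, hy⟩
    obtain ⟨k, rfl⟩ := Subgroup.mem_zpowers_iff.mp hy
    refine ⟨1, ?_⟩
    apply Subtype.ext
    rw [pow_one, Subgroup.coe_pow, Subgroup.coe_one, ← zpow_natCast, ← _root_.zpow_mul, mul_comm,
      _root_.zpow_mul, zpow_natCast, hc, _root_.one_zpow]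
  have ha1 : a ≠ 1 := by
    intro h1
    apply hnp
    have : L = Subgroup.zpowers b := by
      rw [hL, h1, Subgroup.zpowers_eq_closure]
      apply le_antisymm
      · rw [Subgroup.closure_le]
        rintro x (rfl | rfl)
        · exact Subgroup.one_mem _
        · exact Subgroup.subset_closure rfl
      · apply Subgroup.closure_mono
        intro x hx; right; exact hx
    rw [this]
    exact hzp b hbp
  refine ⟨ha1, ?_⟩
  by_contra hcon
  push Not at hcon
  apply hnp
  have hau := sub_one_sq_eq_zero_of_pow_char a hap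
  obtain ⟨P, hP, hPa⟩ := exists_conj_to_xmat a ha1 hau
  obtain ⟨φ, hφ⟩ : ∃ φ : SL2 →* SL2, φ = conjHom P hP := ⟨_, rfl⟩
  rw [← hφ] at hPa
  have hinj : Function.Injective φ := by rw [hφ]; exact conjHom_injective P hP
  have hec : ∀ y ∈ L, ec (φ y) = 0 := by
    intro y hy
    apply ec_eq_zero_of_commute
    have := congrArg φ (hcon y hy)
    simpa only [map_mul, map_inv, hPa] using this
  have hb0 := hec b hbL
  have hbU : φ b ∈ Usub K := by
    have h1 := ec_pow_of_ec (φ b) hb0 p
    rw [← map_pow, hbp, map_one] at h1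
    have h2 : ea (φ b) ^ p = 1 := by rw [← h1.2]; simp
    have hne := ea_ne_zero_of_ec hb0
    have h3 : Units.mk0 (ea (φ b)) hne = 1 := by
      apply Cfsg.Agent.Lib.Helper1.QuadSL2.units_eq_one_of_pow_char (p := p)
      apply Units.ext
      simpa using h2
    have h4 : ea (φ b) = 1 := by
      have := congrArg Units.val h3
      simpa using this
    refine ⟨eb (φ b), ?_⟩
    apply ext_entries
    · rw [h4]; simp
    · simp
    · rw [hb0]; simp
    · rw [ed_eq_inv_of_ec hb0, h4]; simp
  have hLU : L.map φ ≤ Usub K := by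
    rw [hL, MonoidHom.map_closure, Subgroup.closure_le]
    rintro x ⟨z, (rfl | rfl), rfl⟩
    · rw [hPa]; exact ⟨1, rfl⟩
    · exact hbU
  have h5 : IsPGroup p (L.map φ) := isPGroup_Usub.to_le hLU
  have e := Subgroup.equivMapOfInjective L φ hinj
  exact h5.of_equiv e.symm

end Cfsg.Agent.Lib.Helper1.Dickson
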