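import Mathlib
import Cfsg.Agent.Lib.Helper1.Dickson16
import Cfsg.Agent.Lib.Helper1.SL2Q8f
set_option autoImplicit false
open Matrix
universe u v w
namespace Cfsg.Agent.Lib.Helper1.Dickson

open Cfsg.Agent.Lib.Helper1.SL2Three Cfsg.Agent.Lib.Helper1.SL2Odd

section
variable {K : Type u} [Field K]

local notation "SL2" => Matrix.SpecialLinearGroup (Fin 2) K
local notation "M2" => Matrix (Fin 2) (Fin 2) K

/-- **Dickson's theorem for two generators of order `p`.** A finite subgroup of `SL₂(K)`,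
`char K = p` odd, generated by two elements `a`, `b` of order `p` and not a `p`-group contains a
conjugate `g a g⁻¹` of `a` with `⟨a, g a g⁻¹⟩ ≅ SL₂(p)`. -/
theorem exists_sl2_of_two_generated {p : ℕ} [hp : Fact p.Prime] [CharP K p] (hp2 : p ≠ 2)
    (L : Subgroup SL2) [Finite L] (a b : SL2) (hL : L = Subgroup.closure {a, b})
    (hap : a ^ p = 1) (hbp : b ^ p = 1) (hnp : ¬ IsPGroup p L) :
    ∃ g ∈ L, Nonempty (Subgroup.closure ({a, g * a * g⁻¹} : Set SL2) ≃*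
      Matrix.SpecialLinearGroup (Fin 2) (ZMod p)) := by
  have h2 : (2 : K) ≠ 0 := two_ne_zero_of_charP hp2
  have haL : a ∈ L := by rw [hL]; exact Subgroup.subset_closure (by simp)
  obtain ⟨ha1, y, hyL, hy⟩ := exists_noncommuting_conj L a b hL hap hbp hnp
  have hau := sub_one_sq_eq_zero_of_pow_char a hap
  have hat : (a : M2).trace = 2 := by
    have := trace_sub_one_of_pow_char a hap
    rw [Matrix.trace_sub, Matrix.trace_one, Fintype.card_fin] at this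
    have h3 : ((2 : ℕ) : K) = 2 := by norm_num
    rw [h3] at this
    linear_combination this
  obtain ⟨g, hg, htr⟩ := dickson_trace h2 L a haL ha1 hau y hyL hy
  refine ⟨g, hg, ?_⟩
  have hbt : ((g * a * g⁻¹ : SL2) : M2).trace = 2 := by
    rw [Matrix.SpecialLinearGroup.coe_mul, Matrix.trace_mul_comm, ← Matrix.SpecialLinearGroup.coe_mul,
      ← mul_assoc, inv_mul_cancel, one_mul, hat]
  rcases htr with h | h
  · exact exists_equiv_sl2_of_trace a (g * a * g⁻¹) ha1 hau hbt (-1) (Or.inr rfl)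
      (by rw [h]; norm_num)
  · exact exists_equiv_sl2_of_trace a (g * a * g⁻¹) ha1 hau hbt 1 (Or.inl rfl)
      (by rw [h]; norm_num)

end

end Cfsg.Agent.Lib.Helper1.Dickson

namespace Cfsg.Agent.Lib.Helper1.QuadSL2

open Cfsg.Agent.Lib.Helper1.Dickson

variable {A : Type v} [CommGroup A] {Γ : Type w} [Group Γ]

/-- **Quadratic elements force `SL₂(p)`.** If `Γ` acts faithfully on the elementary abelian
`p`-group `A` (`p` odd) and some element `a ∉ O_p(Γ)` acts quadratically, then `Γ` has a section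
isomorphic to `SL₂(p)`. -/
theorem exists_sl2_section_of_quad [Finite A] {p : ℕ} [hp : Fact p.Prime]
    (hp2 : p ≠ 2) (hexp : ∀ u : A, u ^ p = 1) [Finite Γ] (ψ : Γ →* MulAut A)
    (hψ : Function.Injective ψ)
    (a : Γ) (ha : ∀ u : A, ψ a (ψ a u) * u = ψ a u * ψ a u)
    (hna : a ∉ Cfsg.pCore p Γ)
    {G' : Type u} [Group G'] (j : Γ →* G') (hj : Function.Injective j) :
    ∃ (K L : Subgroup G') (_ : (L.subgroupOf K).Normal), K ≤ j.range ∧
      Nonempty ((K ⧸ L.subgroupOf K) ≃* Matrix.SpecialLinearGroup (Fin 2) (ZMod p)) := by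
  have hap : a ^ p = 1 := by
    apply hψ
    rw [map_pow, map_one]
    exact pow_eq_one_of_quad hexp _ ha
  obtain ⟨g, hnp⟩ := exists_conj_not_isPGroup' a hap hna
  obtain ⟨Γ₀, hΓ₀⟩ : ∃ Γ₀ : Subgroup Γ, Γ₀ = Subgroup.closure {a, g * a * g⁻¹} := ⟨_, rfl⟩
  rw [← hΓ₀] at hnp
  have haΓ : a ∈ Γ₀ := by rw [hΓ₀]; exact Subgroup.subset_closure (by simp)
  have hbΓ : g * a * g⁻¹ ∈ Γ₀ := by rw [hΓ₀]; exact Subgroup.subset_closure (by simp)
  have hb : ∀ u : A, ψ (g * a * g⁻¹) (ψ (g * a * g⁻¹) u) * u =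
      ψ (g * a * g⁻¹) u * ψ (g * a * g⁻¹) u := by
    intro u
    rw [map_mul, map_mul, map_inv]
    exact quad_conj_aut (ψ a) (ψ g) ha u
  obtain ⟨n, φ, hφ, hrange, hS⟩ := exists_sl2_hom_of_quadratic_pair (A := A) (Γ := Γ₀) hexp
    (ψ.comp Γ₀.subtype) (hψ.comp Γ₀.subtype_injective) ⟨a, haΓ⟩ ⟨g * a * g⁻¹, hbΓ⟩
    (closure_pair_eq_top Γ₀ a (g * a * g⁻¹) hΓ₀ haΓ hbΓ) ha hb hnp
  obtain ⟨g', hg', ⟨e⟩⟩ := exists_sl2_of_two_generated hp2 φ.range _ _ hrange
    (hS _ (by simp)) (hS _ (by simp)) hφ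
  have hYX : Subgroup.closure {φ ⟨a, haΓ⟩, g' * φ ⟨a, haΓ⟩ * g'⁻¹} ≤ φ.range := by
    rw [Subgroup.closure_le]
    rintro z (rfl | rfl)
    · exact ⟨_, rfl⟩
    · exact φ.range.mul_mem (φ.range.mul_mem hg' ⟨_, rfl⟩) (φ.range.inv_mem hg')
  obtain ⟨K, L, hL, hK, ⟨e'⟩⟩ := SectionPull.exists_section_of_injective_hom
    (j.comp Γ₀.subtype) (hj.comp Γ₀.subtype_injective) φ _ hYX
  refine ⟨K, L, hL, ?_, ⟨e'.trans e⟩⟩
  intro k hk
  obtain ⟨γ, rfl⟩ := hK hk
  exact ⟨(γ : Γ), rfl⟩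

end Cfsg.Agent.Lib.Helper1.QuadSL2
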