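import Mathlib
import Cfsg.Agent.Lib.Helper1.OddStable2
import Cfsg.Agent.Lib.Helper1.Dickson17
import Cfsg.Agent.Lib.Helper2.Involves
set_option autoImplicit false
open scoped commutatorElement Pointwise IsMulCommutative
open Cfsg
universe u v w
namespace Cfsg.Agent.Lib.Helper1.FreeStable

open Cfsg.Agent.Lib.Helper1.QuadSL2 Cfsg.Agent.Lib.Helper1.StableQuad Cfsg.Agent.Lib.Helper1.NPC
  Cfsg.Agent.Lib.Helper2.Inv

/-- `SL₂(p)` is not involved -/
def SL2Free (p : ℕ) (Γ : Type*) [Group Γ] : Prop :=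
  ¬ Cfsg.Involves (Matrix.SpecialLinearGroup (Fin 2) (ZMod p)) Γ

theorem SL2Free.subgroup {p : ℕ} {Γ : Type*} [Group Γ] (h : SL2Free p Γ) (H : Subgroup Γ) :
    SL2Free p H := fun h' => h (involves_of_subgroup H h')

theorem SL2Free.quotient {p : ℕ} {Γ : Type*} [Group Γ] (h : SL2Free p Γ) (N : Subgroup Γ)
    [N.Normal] : SL2Free p (Γ ⧸ N) := fun h' => h (involves_of_quotient N h')

variable {A : Type v} [CommGroup A] {Γ : Type w} [Group Γ]

/-- abstract form: in a faithful `SL₂(p)`-free group, quadratic elements lie in `O_p` -/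
theorem mem_pCore_of_quad_of_free [Finite A] {p : ℕ} [hp : Fact p.Prime] (hp2 : p ≠ 2)
    (hexp : ∀ u : A, u ^ p = 1) [Finite Γ] (ψ : Γ →* MulAut A) (hψ : Function.Injective ψ)
    (a : Γ) (ha : ∀ u : A, ψ a (ψ a u) * u = ψ a u * ψ a u)
    (hfree : SL2Free p Γ) : a ∈ Cfsg.pCore p Γ := by
  by_contra hna
  obtain ⟨K, L, hL, -, he⟩ := exists_sl2_section_of_quad hp2 hexp ψ hψ a ha
    hna (MonoidHom.id Γ) Function.injective_id
  exact hfree ⟨K, L, hL, he⟩

theorem mk_mem_pCore_of_quad_free {X : Type u} [Group X] [Finite X] {U : Type v} [CommGroup U]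
    [Finite U] {p : ℕ} [hp : Fact p.Prime] (hp2 : p ≠ 2)
    (hexp : ∀ u : U, u ^ p = 1)
    (θ : X →* MulAut U) (C : Subgroup X) [hCn : C.Normal] (hC : θ.ker = C) (a : X)
    (ha : ∀ u : U, θ a (θ a u) * u = θ a u * θ a u)
    (hfree : SL2Free p X) :
    (QuotientGroup.mk a : X ⧸ C) ∈ Cfsg.pCore p (X ⧸ C) := by
  subst hC
  apply mem_pCore_of_quad_of_free hp2 hexp (QuotientGroup.kerLift θ)
    (QuotientGroup.kerLift_injective θ) _ _
    (hfree.quotient _)
  intro u
  rw [QuotientGroup.kerLift_mk]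
  exact ha u

variable {G : Type u} [Group G]

theorem isPStableOn_of_free [Finite G] {p : ℕ} [Fact p.Prime] (hp2 : p ≠ 2)
    (V : Subgroup G) [hVn : V.Normal] (hV : Cfsg.IsElementaryAbelian p V)
    (hfree : SL2Free p G) : Cfsg.IsPStableOn p V := by
  intro a ha
  haveI : IsMulCommutative V := hV.1
  exact mk_mem_pCore_of_quad_free (U := V) hp2 (fun u => Subtype.ext (hV.2 u u.2))
    (MulAut.conjNormal (H := V)) _ (conjNormal_ker V) a
    (quad_of_conj V a _ (fun v => MulAut.conjNormal_apply a v) ha) hfree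

theorem isPStableOnSection_of_free [Finite G] {p : ℕ} [hp : Fact p.Prime] (hp2 : p ≠ 2)
    (K N : Subgroup G) [hKn : K.Normal] [hNn : N.Normal]
    (hel : Cfsg.IsElementaryAbelian p (K.map (QuotientGroup.mk' N)))
    (hfree : SL2Free p G) : Cfsg.IsPStableOnSection p K N := by
  intro a ha
  obtain ⟨Kb, hKb⟩ : ∃ Kb : Subgroup (G ⧸ N), Kb = K.map (QuotientGroup.mk' N) := ⟨_, rfl⟩
  haveI hKbn : Kb.Normal := by
    rw [hKb]; exact hKn.map _ (QuotientGroup.mk'_surjective N)
  rw [← hKb] at hel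
  haveI : IsMulCommutative Kb := hel.1
  obtain ⟨C, hC⟩ : ∃ C : Subgroup G, C = Cfsg.sectionKernel K N := ⟨_, rfl⟩
  haveI hCn : C.Normal := by
    rw [hC]; unfold Cfsg.sectionKernel
    rw [← hKb]
    infer_instance
  rw [← hC]
  let θ : G →* MulAut Kb := (MulAut.conjNormal (H := Kb)).comp (QuotientGroup.mk' N)
  have hker : θ.ker = C := by
    rw [hC]; unfold Cfsg.sectionKernel
    rw [← hKb, ← conjNormal_ker Kb, MonoidHom.comap_ker]
  have hquadb : ⁅⁅Kb, Subgroup.zpowers (QuotientGroup.mk' N a)⁆,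
      Subgroup.zpowers (QuotientGroup.mk' N a)⁆ = ⊥ := by
    rw [eq_bot_iff, hKb, ← MonoidHom.map_zpowers, ← Subgroup.map_commutator,
      ← Subgroup.map_commutator]
    calc Subgroup.map (QuotientGroup.mk' N) ⁅⁅K, Subgroup.zpowers a⁆, Subgroup.zpowers a⁆
        ≤ Subgroup.map (QuotientGroup.mk' N) N := Subgroup.map_mono ha
      _ = ⊥ := QuotientGroup.map_mk'_self N
  have hmem := mk_mem_pCore_of_quad_free (X := G) (U := Kb) hp2
    (fun u => Subtype.ext (hel.2 u u.2)) θ C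
    hker a (quad_of_conj Kb (QuotientGroup.mk' N a) (θ a)
      (fun v => MulAut.conjNormal_apply _ v) hquadb) hfree
  obtain ⟨Q, hQ⟩ : ∃ Q : Subgroup (G ⧸ C), Q = Cfsg.pCore p (G ⧸ C) := ⟨_, rfl⟩
  rw [← hQ] at hmem
  have hQn : Q.Normal := by rw [hQ]; exact pCore_normal p
  have hQp : IsPGroup p Q := by rw [hQ]; exact pCore_isPGroup p
  have hCD : C ≤ Q.comap (QuotientGroup.mk' C) := by
    conv_lhs => rw [← QuotientGroup.ker_mk' C]
    exact Subgroup.ker_le_comap _ _
  refine ⟨Q.comap (QuotientGroup.mk' C), hQn.comap _, hCD, ?_, hmem⟩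
  obtain ⟨k, hk⟩ := IsPGroup.iff_card.mp hQp
  refine ⟨k, ?_⟩
  have h1 := Subgroup.relIndex_mul_index hCD
  rw [Subgroup.index_comap_of_surjective Q (QuotientGroup.mk'_surjective C)] at h1
  have h2 : C.index = Nat.card Q * Q.index := by
    rw [Subgroup.card_mul_index, Subgroup.index_eq_card]
  rw [h2, hk] at h1
  have hpos : 0 < Q.index := Nat.pos_of_ne_zero Subgroup.index_ne_zero_of_finite
  exact Nat.eq_of_mul_eq_mul_right hpos h1

theorem isPStableOn_of_free_of_isPGroup [Finite G] {p : ℕ} [hp : Fact p.Prime] (hp2 : p ≠ 2)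
    (P : Subgroup G) [hPn : P.Normal] (hP : IsPGroup p P)
    (hfree : SL2Free p G) : IsPStableOn p P := by
  have hel : IsElementaryAbelian p (P.map (QuotientGroup.mk' ((frattini ↥P).map P.subtype))) :=
    isElementaryAbelian_map_mk_of_frattini P hP _ le_rfl
  have hsec := isPStableOnSection_of_free hp2 P ((frattini ↥P).map P.subtype) hel hfree
  intro a ha
  obtain ⟨D, hDn, hKD, ⟨k, hk⟩, haD⟩ := hsec a (by rw [ha]; exact bot_le)
  obtain ⟨K, hKdef⟩ : ∃ K : Subgroup G, K = sectionKernel P ((frattini ↥P).map P.subtype) :=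
    ⟨_, rfl⟩
  rw [← hKdef] at hKD hk
  have hKn : K.Normal := by
    rw [hKdef]; unfold sectionKernel
    exact Subgroup.Normal.comap inferInstance _
  have hDp : IsPGroup p (D.map (QuotientGroup.mk' (Subgroup.centralizer (P : Set G)))) := by
    rintro ⟨_, ⟨d, hd, rfl⟩⟩
    have h1 : d ^ (p ^ k) ∈ K := by
      haveI : (K.subgroupOf D).Normal := hKn.subgroupOf D
      have := Subgroup.pow_index_mem (K.subgroupOf D) (⟨d, hd⟩ : D)
      change (⟨d, hd⟩ : D) ^ K.relIndex D ∈ K.subgroupOf D at this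
      rw [hk, Subgroup.mem_subgroupOf] at this
      exact this
    rw [hKdef] at h1
    obtain ⟨e, he⟩ := exists_pow_mem_centralizer_of_mem_sectionKernel P hP _ h1
    refine ⟨k + e, ?_⟩
    apply Subtype.ext
    simp only [Subgroup.coe_pow, Subgroup.coe_one]
    rw [← map_pow, pow_add, pow_mul]
    exact (QuotientGroup.eq_one_iff _).mpr he
  have hDn' : (D.map (QuotientGroup.mk' (Subgroup.centralizer (P : Set G)))).Normal :=
    hDn.map _ (QuotientGroup.mk'_surjective _)
  exact le_pCore hDn' hDp (Subgroup.mem_map_of_mem _ haD)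

end Cfsg.Agent.Lib.Helper1.FreeStable
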