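import Mathlib
import Cfsg.Prelude.Def_PLocal
import Cfsg.Agent.Lib.Helper1.ZJ2
set_option autoImplicit false
open scoped Pointwise commutatorElement
universe u
namespace Cfsg.Agent.Lib.Helper1.ZJ

open Cfsg.Agent.Lib.Helper1.GlaubermanRepl

variable {G : Type u} [Group G]

/-- if `B` is the normal closure of `Z₁` and `[Z₁, B] ≤ N` with `N` normal, then `[B, B] ≤ N` -/
theorem commutator_le_of_normalClosure {Z₁ B N : Subgroup G} [hBn : B.Normal] [hNn : N.Normal]
    (hcl : Subgroup.normalClosure (Z₁ : Set G) = B) (h : ⁅Z₁, B⁆ ≤ N) : ⁅B, B⁆ ≤ N := by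
  let K : Subgroup G :=
    { carrier := {x | ∀ y ∈ B, ⁅x, y⁆ ∈ N}
      one_mem' := by
        intro y _
        rw [commutatorElement_one_left]; exact N.one_mem
      mul_mem' := by
        intro x₁ x₂ h1 h2 y hy
        have e : ⁅x₁ * x₂, y⁆ = x₁ * ⁅x₂, y⁆ * x₁⁻¹ * ⁅x₁, y⁆ := by
          simp only [commutatorElement_def]; group
        rw [e]
        exact N.mul_mem (hNn.conj_mem _ (h2 y hy) x₁) (h1 y hy)
      inv_mem' := by
        intro x h1 y hy
        have e : ⁅x⁻¹, y⁆ = x⁻¹ * (⁅x, y⁆)⁻¹ * x⁻¹⁻¹ := by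
          simp only [commutatorElement_def]; group
        rw [e]
        exact hNn.conj_mem _ (N.inv_mem (h1 y hy)) x⁻¹ }
  have hKn : K.Normal := by
    constructor
    intro x hx g y hy
    have e : ⁅g * x * g⁻¹, y⁆ = g * ⁅x, g⁻¹ * y * g⁻¹⁻¹⁆ * g⁻¹ := by
      simp only [commutatorElement_def]; group
    rw [e]
    exact hNn.conj_mem _ (hx _ (hBn.conj_mem _ hy g⁻¹)) g
  have hZK : (Z₁ : Set G) ⊆ K := by
    intro z hz y hy
    exact h (Subgroup.commutator_mem_commutator hz hy)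
  have hBK : B ≤ K := by
    rw [← hcl]; exact Subgroup.normalClosure_le_normal hZK
  rw [Subgroup.commutator_le]
  intro x hx y hy
  exact hBK hx y hy

theorem commutator_lt_of_isPGroup [Finite G] {p : ℕ} [hp : Fact p.Prime] {B : Subgroup G}
    (hB : IsPGroup p B) (hne : B ≠ ⊥) : ⁅B, B⁆ < B := by
  have : Nontrivial B := (Subgroup.nontrivial_iff_ne_bot B).mpr hne
  have : Group.IsNilpotent B := hB.isNilpotent
  have h1 := Group.IsSolvable.commutator_lt_top_of_nontrivial B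
  have h2 := Subgroup.map_subtype_commutator B
  rw [← h2]
  have h3 : (commutator B).map B.subtype < (⊤ : Subgroup B).map B.subtype :=
    Subgroup.map_lt_map_iff_of_injective B.subtype_injective |>.mpr h1
  rwa [← MonoidHom.range_eq_map, Subgroup.range_subtype] at h3

namespace ZJFamily

variable {p : ℕ} {F : Subgroup G → Set (Subgroup G)}

theorem inf_normal_step [Finite G] [hp : Fact p.Prime] (fam : ZJFamily p F) (hp2 : p ≠ 2)
    (hst : ∀ (P : Subgroup G) [P.Normal], IsPGroup p P → Cfsg.IsPStableOn p P) (S : Sylow p G)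
    (B : Subgroup G) [hBn : B.Normal] (hB : IsPGroup p B)
    (IH : ∀ B' : Subgroup G, B'.Normal → B' < B → (sInf (F (S : Subgroup G)) ⊓ B').Normal) :
    (sInf (F (S : Subgroup G)) ⊓ B).Normal := by
  obtain ⟨P, hP⟩ : ∃ P : Subgroup G, P = ↑S := ⟨_, rfl⟩
  rw [← hP] at IH ⊢
  obtain ⟨Z, hZ⟩ : ∃ Z, Z = sInf (F P) := ⟨_, rfl⟩
  rw [← hZ] at IH ⊢
  have hPp : IsPGroup p P := hP ▸ S.2
  have hBP : B ≤ P := (le_pCore hBn hB).trans (hP ▸ pCore_le_sylow p S)
  have hZP : Z ≤ P := hZ ▸ fam.sInf_le_self P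
  have hZc : ∀ x ∈ Z, ∀ y ∈ Z, x * y = y * x := hZ ▸ fam.sInf_comm P
  have hPZ : ∀ g ∈ P, ∀ x ∈ Z, g * x * g⁻¹ ∈ Z := by
    intro g hg x hx
    rw [hZ] at hx ⊢
    exact fam.conj_mem_sInf (Subgroup.le_normalizer hg) hx
  by_cases hcl : Subgroup.normalClosure ((Z ⊓ B : Subgroup G) : Set G) = B
  swap
  · have hle : Subgroup.normalClosure ((Z ⊓ B : Subgroup G) : Set G) ≤ B :=
      Subgroup.normalClosure_le_normal inf_le_right
    have hlt : Subgroup.normalClosure ((Z ⊓ B : Subgroup G) : Set G) < B := lt_of_le_of_ne hle hcl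
    have h1 := IH _ Subgroup.normalClosure_normal hlt
    have e : Z ⊓ Subgroup.normalClosure ((Z ⊓ B : Subgroup G) : Set G) = Z ⊓ B :=
      le_antisymm (inf_le_inf_left _ hle) (le_inf inf_le_left Subgroup.subset_normalClosure)
    rw [← e]; exact h1
  by_cases hbot : B = ⊥
  · subst hbot; rw [inf_bot_eq]; infer_instance
  have hB'lt : ⁅B, B⁆ < B := commutator_lt_of_isPGroup hB hbot
  have hN : (Z ⊓ ⁅B, B⁆).Normal := IH _ (Subgroup.commutator_normal B B) hB'lt
  have h1 : ⁅Z ⊓ B, B⁆ ≤ Z ⊓ ⁅B, B⁆ := by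
    apply le_inf _ (Subgroup.commutator_mono inf_le_right le_rfl)
    rw [Subgroup.commutator_le]
    intro z hz b hb
    rw [commutatorElement_def, mul_assoc, mul_assoc]
    apply Z.mul_mem hz.1
    rw [← mul_assoc]
    exact hPZ b (hBP hb) _ (Z.inv_mem hz.1)
  have h2 : ⁅B, B⁆ ≤ Z ⊓ ⁅B, B⁆ := commutator_le_of_normalClosure hcl h1
  have h3 : ∀ A ∈ F P, ⁅B, B⁆ ≤ A := fun A hA => (h2.trans inf_le_left).trans (hZ ▸ sInf_le hA)
  obtain ⟨A₀, hA₀F, hBA₀⟩ := fam.exists_normalized hp2 hPp hBP h3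
  obtain ⟨L, hL⟩ : ∃ L, L = (Cfsg.pCore p (G ⧸ Subgroup.centralizer (B : Set G))).comap
      (QuotientGroup.mk' (Subgroup.centralizer (B : Set G))) := ⟨_, rfl⟩
  obtain ⟨R, hR⟩ : ∃ R, R = P ⊓ L := ⟨_, rfl⟩
  have hAL : ∀ A ∈ F P, B ≤ Subgroup.normalizer (A : Set G) → A ≤ L := by
    intro A hA hBA
    rw [hL]
    exact le_comap_pCore_of_quadratic B (hst B hB) (fam.comm hA) hBA
  have htop : Subgroup.normalizer (R : Set G) ⊔ Subgroup.centralizer (B : Set G) = ⊤ := by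
    rw [hR, hP, hL]
    exact normalizer_inf_sup_eq_top S (Subgroup.centralizer (B : Set G))
  have hRP : R ≤ P := hR ▸ inf_le_left
  have hA₀R : A₀ ≤ R := hR ▸ le_inf (fam.le hA₀F) (hAL A₀ hA₀F hBA₀)
  have hFR := fam.mono hRP hA₀F hA₀R
  have hZR : Z ≤ sInf (F R) := le_sInf (fun A hA => hZ ▸ sInf_le ((hFR A).mp hA).1)
  have hZRn : (sInf (F R) ⊓ B).Normal := by
    rw [← Subgroup.normalizer_eq_top_iff, eq_top_iff, ← htop]
    apply sup_le
    · intro g hg
      apply mem_normalizer_of_conj_mem_of_finite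
      intro x hx
      exact ⟨fam.conj_mem_sInf hg hx.1, hBn.conj_mem _ hx.2 g⟩
    · intro c hc
      apply mem_normalizer_of_conj_mem_of_finite
      intro x hx
      have := Subgroup.mem_centralizer_iff.mp hc x hx.2
      rw [← this, mul_inv_cancel_right]
      exact hx
  have hBZR : B ≤ sInf (F R) := by
    have : Subgroup.normalClosure ((Z ⊓ B : Subgroup G) : Set G) ≤ sInf (F R) ⊓ B :=
      Subgroup.normalClosure_le_normal (inf_le_inf_right _ hZR)
    rw [hcl] at this; exact this.trans inf_le_left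
  have hall : ∀ A ∈ F P, B ≤ A := by
    by_contra hne
    push Not at hne
    obtain ⟨A₁, hA₁F, hA₁B⟩ := hne
    obtain ⟨A, hAmem, hmax⟩ := Set.exists_max_image {A | A ∈ F P ∧ ¬ B ≤ A}
      (fun A => Nat.card (A ⊓ B : Subgroup G)) (Set.toFinite _) ⟨A₁, hA₁F, hA₁B⟩
    by_cases hBN : B ≤ Subgroup.normalizer (A : Set G)
    · have hAR : A ≤ R := hR ▸ le_inf (fam.le hAmem.1) (hAL A hAmem.1 hBN)
      have : A ∈ F R := (hFR A).mpr ⟨hAmem.1, hAR⟩
      exact hAmem.2 (hBZR.trans (sInf_le this))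
    · obtain ⟨A', hA'F, hlt, hnB⟩ :=
        fam.exists_replacement hp2 hPp hBP hAmem.1 (h3 A hAmem.1) hBN
      have h5 := hmax A' ⟨hA'F, hnB⟩
      have h6 := card_lt_card_of_lt hlt
      omega
  have : B ≤ Z := hZ ▸ le_sInf hall
  rw [inf_eq_right.mpr this]; exact hBn

theorem inf_normal [Finite G] [hp : Fact p.Prime] (fam : ZJFamily p F) (hp2 : p ≠ 2)
    (hst : ∀ (P : Subgroup G) [P.Normal], IsPGroup p P → Cfsg.IsPStableOn p P) (S : Sylow p G)
    (B : Subgroup G) [hBn : B.Normal] (hB : IsPGroup p B) :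
    (sInf (F (S : Subgroup G)) ⊓ B).Normal := by
  induction' h : Nat.card B using Nat.strong_induction_on with n ih generalizing B
  apply fam.inf_normal_step hp2 hst S B hB
  intro B' hB'n hlt
  exact ih (Nat.card B') (h ▸ card_lt_card_of_lt hlt) B' (hB.to_le hlt.le) rfl

end ZJFamily

end Cfsg.Agent.Lib.Helper1.ZJ
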