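import Mathlib
import Cfsg.Prelude.Def_PLocal
import Cfsg.Agent.Lib.Helper1.ZJ3
set_option autoImplicit false
open scoped Pointwise commutatorElement
universe u
namespace Cfsg.Agent.Lib.Helper1.ZJ

open Cfsg.Agent.Lib.Helper1.GlaubermanRepl

variable {G : Type u} [Group G]

namespace ZJFamily

variable {p : ℕ} {F : Subgroup G → Set (Subgroup G)}

theorem sInf_le_pCore [Finite G] [hp : Fact p.Prime] (fam : ZJFamily p F)
    (hc : Subgroup.centralizer (Cfsg.pCore p G : Set G) ≤ Cfsg.pCore p G)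
    (hst : ∀ (P : Subgroup G) [P.Normal], IsPGroup p P → Cfsg.IsPStableOn p P) (S : Sylow p G) :
    sInf (F (S : Subgroup G)) ≤ Cfsg.pCore p G := by
  obtain ⟨Q, hQ⟩ : ∃ Q, Q = Cfsg.pCore p G := ⟨_, rfl⟩
  rw [← hQ] at hc ⊢
  have hQn : Q.Normal := hQ ▸ pCore_normal p
  have hQp : IsPGroup p Q := hQ ▸ pCore_isPGroup p
  have hQS : Q ≤ S := hQ ▸ pCore_le_sylow p S
  obtain ⟨Z, hZ⟩ : ∃ Z, Z = sInf (F (S : Subgroup G)) := ⟨_, rfl⟩
  rw [← hZ]
  have hZc : ∀ x ∈ Z, ∀ y ∈ Z, x * y = y * x := hZ ▸ fam.sInf_comm _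
  have hPZ : ∀ g ∈ (S : Subgroup G), ∀ x ∈ Z, g * x * g⁻¹ ∈ Z := by
    intro g hg x hx
    rw [hZ] at hx ⊢
    exact fam.conj_mem_sInf (Subgroup.le_normalizer hg) hx
  obtain ⟨D, hD⟩ : ∃ D, D = (Cfsg.pCore p (G ⧸ Subgroup.centralizer (Q : Set G))).comap
      (QuotientGroup.mk' (Subgroup.centralizer (Q : Set G))) := ⟨_, rfl⟩
  have hDn : D.Normal := hD ▸ Subgroup.Normal.comap (pCore_normal p) _
  have hDp : IsPGroup p D := by
    rw [hD]
    apply IsPGroup.comap_of_ker_isPGroup (pCore_isPGroup p)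
    rw [QuotientGroup.ker_mk']
    exact hQp.to_le hc
  have hDQ : D ≤ Q := hQ ▸ le_pCore hDn hDp
  intro z hz
  apply hDQ
  rw [hD, Subgroup.mem_comap]
  apply hst Q hQp z
  rw [eq_bot_iff, Subgroup.commutator_le]
  intro x hx y hy
  have hzZ : Subgroup.zpowers z ≤ Z := by
    rw [Subgroup.zpowers_le]; exact hz
  have h1 : ⁅Q, Subgroup.zpowers z⁆ ≤ Z := by
    rw [Subgroup.commutator_le]
    intro q hq t ht
    rw [commutatorElement_def]
    exact Z.mul_mem (hPZ q (hQS hq) t (hzZ ht)) (Z.inv_mem (hzZ ht))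
  rw [Subgroup.mem_bot, commutatorElement_eq_one_iff_commute]
  exact hZc x (h1 hx) y (hzZ hy)

theorem sInf_normal [Finite G] [hp : Fact p.Prime] (fam : ZJFamily p F) (hp2 : p ≠ 2)
    (hc : Subgroup.centralizer (Cfsg.pCore p G : Set G) ≤ Cfsg.pCore p G)
    (hst : ∀ (P : Subgroup G) [P.Normal], IsPGroup p P → Cfsg.IsPStableOn p P) (S : Sylow p G) :
    (sInf (F (S : Subgroup G))).Normal := by
  have := pCore_normal (G := G) p
  have := fam.inf_normal hp2 hst S (Cfsg.pCore p G) (pCore_isPGroup p)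
  rwa [inf_eq_left.mpr (fam.sInf_le_pCore hc hst S)] at this

theorem sInf_characteristic [Finite G] [hp : Fact p.Prime] (fam : ZJFamily p F) (hp2 : p ≠ 2)
    (hc : Subgroup.centralizer (Cfsg.pCore p G : Set G) ≤ Cfsg.pCore p G)
    (hst : ∀ (P : Subgroup G) [P.Normal], IsPGroup p P → Cfsg.IsPStableOn p P) (S : Sylow p G) :
    (sInf (F (S : Subgroup G))).Characteristic := by
  have hn := fam.sInf_normal hp2 hc hst S
  rw [Subgroup.characteristic_iff_map_eq]
  intro φ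
  rw [← fam.map_sInf φ]
  obtain ⟨g, hg⟩ := MulAction.exists_smul_eq G S (φ • S)
  have h1 : (S : Subgroup G).map φ.toMonoidHom = (S : Subgroup G).map (MulAut.conj g).toMonoidHom := by
    have := congrArg (fun T : Sylow p G => (T : Subgroup G)) hg
    rw [Sylow.smul_def] at this
    simp only [Sylow.pointwise_smul_def] at this
    exact this.symm
  rw [h1, fam.map_sInf (MulAut.conj g)]
  exact conj_smul_eq_of_mem_normalizer (by rw [Subgroup.normalizer_eq_top_iff.mpr hn]; trivial)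

end ZJFamily

end Cfsg.Agent.Lib.Helper1.ZJ
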