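import Mathlib
import Cfsg.Prelude.Def_PLocal
import Cfsg.Agent.Lib.Helper1.SZHelpers
import Cfsg.Agent.Lib.Helper1.ZJ4
set_option autoImplicit false
open scoped Pointwise commutatorElement
universe u
namespace Cfsg.Agent.Lib.Helper1.ZJ

open Cfsg.Agent.Lib.Helper1.GlaubermanRepl

variable {G : Type u} [Group G]

/-- subgroups of `X` with property `Pr` of largest order -/
def FPr (Pr : Subgroup G → Prop) (X : Subgroup G) : Set (Subgroup G) :=
  {A | A ≤ X ∧ Pr A ∧ ∀ B : Subgroup G, B ≤ X → Pr B → Nat.card B ≤ Nat.card A}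

theorem FPr_nonempty [Finite G] {Pr : Subgroup G → Prop} (hbot : Pr ⊥) (X : Subgroup G) :
    (FPr Pr X).Nonempty := by
  obtain ⟨A, hA, hmax⟩ := Set.exists_max_image {A : Subgroup G | A ≤ X ∧ Pr A}
    (fun A => Nat.card A) (Set.toFinite _) ⟨⊥, bot_le, hbot⟩
  exact ⟨A, hA.1, hA.2, fun B hB hPr => hmax B ⟨hB, hPr⟩⟩

theorem Astar_le_of_mem {A X : Subgroup G} (hAX : A ≤ X) {b : G} (hb : b ∈ X) :
    Astar A b ≤ X := by
  unfold Astar
  apply sup_le (inf_le_left.trans hAX)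
  unfold commAb
  rw [Subgroup.closure_le]
  rintro _ ⟨a, ha, rfl⟩
  exact X.mul_mem (X.mul_mem (X.mul_mem (hAX ha) (X.inv_mem hb)) (X.inv_mem (hAX ha))) hb

theorem zjFamily_FPr [Finite G] (p : ℕ) (Pr : Subgroup G → Prop)
    (hcomm : ∀ A : Subgroup G, Pr A → ∀ x ∈ A, ∀ y ∈ A, x * y = y * x) (hbot : Pr ⊥)
    (hmap : ∀ (φ : G ≃* G) (A : Subgroup G), Pr A → Pr (A.map φ.toMonoidHom))
    (hrepl : ∀ {A B : Subgroup G} {b : G}, Pr A → Setup A B b → (∃ m : ℕ, Odd m ∧ b ^ m = 1) →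
      Pr (Astar A b)) : ZJFamily p (FPr Pr) where
  le := fun h => h.1
  comm := fun h => hcomm _ h.2.1
  nonempty := FPr_nonempty hbot
  map_mem := by
    intro φ X A hA
    refine ⟨Subgroup.map_mono hA.1, hmap φ A hA.2.1, ?_⟩
    intro B hB hPrB
    have h1 : B.map φ.symm.toMonoidHom ≤ X := by
      have := Subgroup.map_mono (f := φ.symm.toMonoidHom) hB
      rwa [map_symm_map] at this
    have h2 := hA.2.2 _ h1 (hmap φ.symm B hPrB)
    rw [Subgroup.card_map_of_injective φ.symm.injective] at h2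
    rw [Subgroup.card_map_of_injective φ.injective]
    exact h2
  mono := by
    intro X R A₀ hRX hA₀ hA₀R A
    constructor
    · intro hA
      refine ⟨⟨hA.1.trans hRX, hA.2.1, ?_⟩, hA.1⟩
      intro B hB hPrB
      exact (hA₀.2.2 B hB hPrB).trans (hA.2.2 A₀ hA₀R hA₀.2.1)
    · rintro ⟨hA, hAR⟩
      exact ⟨hAR, hA.2.1, fun B hB hPrB => hA.2.2 B (hB.trans hRX) hPrB⟩
  repl := by
    intro X A B b _ hA hb s hodd
    refine ⟨Astar_le_of_mem hA.1 hb, hrepl hA.2.1 s hodd, ?_⟩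
    intro B' hB' hPrB'
    rw [s.card_Astar]
    exact hA.2.2 B' hB' hPrB'

/-- the abelian property -/
def PrA (A : Subgroup G) : Prop := ∀ x ∈ A, ∀ y ∈ A, x * y = y * x

/-- the elementary abelian property -/
def PrE (p : ℕ) (A : Subgroup G) : Prop := (∀ x ∈ A, ∀ y ∈ A, x * y = y * x) ∧ ∀ a ∈ A, a ^ p = 1

theorem zjFamily_A [Finite G] (p : ℕ) : ZJFamily p (FPr (PrA (G := G))) := by
  apply zjFamily_FPr p PrA (fun A h => h)
  · intro x hx y hy
    rw [Subgroup.mem_bot] at hx hy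
    rw [hx, hy]
  · rintro φ A hA _ ⟨x, hx, rfl⟩ _ ⟨y, hy, rfl⟩
    simp only [MulEquiv.coe_toMonoidHom, ← map_mul]
    rw [hA x hx y hy]
  · intro A B b _ s hodd
    exact s.Astar_comm (Or.inr hodd)

theorem zjFamily_E [Finite G] (p : ℕ) (hp : Odd p) : ZJFamily p (FPr (PrE (G := G) p)) := by
  apply zjFamily_FPr p (PrE p) (fun A h => h.1)
  · constructor
    · intro x hx y hy
      rw [Subgroup.mem_bot] at hx hy
      rw [hx, hy]
    · intro a ha
      rw [Subgroup.mem_bot] at ha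
      rw [ha, one_pow]
  · intro φ A hA
    constructor
    · rintro _ ⟨x, hx, rfl⟩ _ ⟨y, hy, rfl⟩
      simp only [MulEquiv.coe_toMonoidHom, ← map_mul]
      rw [hA.1 x hx y hy]
    · rintro _ ⟨x, hx, rfl⟩
      simp only [MulEquiv.coe_toMonoidHom, ← map_pow]
      rw [hA.2 x hx, map_one]
  · intro A B b hA s hodd
    exact ⟨s.Astar_comm (Or.inr hodd), s.pow_eq_one_of_mem_Astar (Or.inr hodd) hp hA.2⟩

end Cfsg.Agent.Lib.Helper1.ZJ
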