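import Mathlib
import Cfsg.Prelude.Def_PLocal
import Cfsg.Agent.Lib.Helper1.ZJ5
set_option autoImplicit false
open scoped Pointwise commutatorElement
universe u
namespace Cfsg.Agent.Lib.Helper1.ZJ

open Cfsg.Agent.Lib.Helper1.GlaubermanRepl

variable {G : Type u} [Group G]

theorem map_sSup_max_eq (X : Subgroup G) (Pr' : Subgroup ↥X → Prop) (Pr : Subgroup G → Prop)
    (hcompat : ∀ A' : Subgroup ↥X, Pr' A' ↔ Pr (A'.map X.subtype)) :
    (sSup {A' : Subgroup ↥X | Pr' A' ∧ ∀ B' : Subgroup ↥X, Pr' B' → Nat.card B' ≤ Nat.card A'}).map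
      X.subtype = sSup (FPr Pr X) := by
  apply le_antisymm
  · rw [Subgroup.map_le_iff_le_comap]
    apply sSup_le
    intro A' hA'
    rw [← Subgroup.map_le_iff_le_comap]
    apply le_sSup
    refine ⟨Subgroup.map_subtype_le A', (hcompat A').mp hA'.1, ?_⟩
    intro B hB hPrB
    have h1 : Pr' (B.subgroupOf X) := by
      rw [hcompat, Subgroup.map_subgroupOf_eq_of_le hB]; exact hPrB
    have h2 := hA'.2 _ h1
    rw [card_subgroupOf_of_le hB] at h2
    rw [Subgroup.card_map_of_injective X.subtype_injective]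
    exact h2
  · apply sSup_le
    intro A hA
    rw [← Subgroup.map_subgroupOf_eq_of_le hA.1]
    apply Subgroup.map_mono
    apply le_sSup
    constructor
    · rw [hcompat, Subgroup.map_subgroupOf_eq_of_le hA.1]; exact hA.2.1
    · intro B' hB'
      have h1 := hA.2.2 _ (Subgroup.map_subtype_le B') ((hcompat B').mp hB')
      rw [Subgroup.card_map_of_injective X.subtype_injective] at h1
      rw [card_subgroupOf_of_le hA.1]
      exact h1

theorem sSup_FPr_le (Pr : Subgroup G → Prop) (X : Subgroup G) : sSup (FPr Pr X) ≤ X :=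
  sSup_le (fun _ hA => hA.1)

/-- an element of every member of the family lies in the centre of the join -/
theorem sInf_le_center_sSup [Finite G] {Pr : Subgroup G → Prop}
    (hcomm : ∀ A : Subgroup G, Pr A → ∀ x ∈ A, ∀ y ∈ A, x * y = y * x) (hbot : Pr ⊥)
    (X : Subgroup G) :
    sInf (FPr Pr X) ≤ sSup (FPr Pr X) ⊓ Subgroup.centralizer ((sSup (FPr Pr X) : Subgroup G) : Set G) := by
  intro x hx
  obtain ⟨A₀, hA₀⟩ := FPr_nonempty hbot X
  refine ⟨(le_sSup hA₀ : A₀ ≤ _) (sInf_le hA₀ hx), ?_⟩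
  have h1 : sSup (FPr Pr X) ≤ Subgroup.centralizer ({x} : Set G) := by
    apply sSup_le
    intro A hA y hy
    rw [Subgroup.mem_centralizer_iff]
    intro t ht
    rw [Set.mem_singleton_iff] at ht
    rw [ht]
    exact hcomm A hA.2.1 x (sInf_le hA hx) y hy
  change x ∈ Subgroup.centralizer ((sSup (FPr Pr X) : Subgroup G) : Set G)
  rw [Subgroup.mem_centralizer_iff]
  intro h hh
  have := Subgroup.mem_centralizer_iff.mp (h1 hh) x rfl
  exact this.symm

/-- a central element of the join which can be adjoined to `A` lies in `A` -/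
theorem mem_of_center_sSup [Finite G] {Pr : Subgroup G → Prop} {X A : Subgroup G} (hA : A ∈ FPr Pr X)
    {z : G} (hz : z ∈ sSup (FPr Pr X) ⊓ Subgroup.centralizer ((sSup (FPr Pr X) : Subgroup G) : Set G))
    (hPr : Pr (Subgroup.closure ((A : Set G) ∪ {z}))) : z ∈ A := by
  have h1 : Subgroup.closure ((A : Set G) ∪ {z}) ≤ X := by
    rw [Subgroup.closure_le]
    rintro t (ht | ht)
    · exact hA.1 ht
    · rw [Set.mem_singleton_iff] at ht
      rw [ht]; exact sSup_FPr_le Pr X hz.1
  have h2 := hA.2.2 _ h1 hPr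
  have h3 : A ≤ Subgroup.closure ((A : Set G) ∪ {z}) := by
    intro a ha
    exact Subgroup.subset_closure (Or.inl ha)
  have h4 := Subgroup.eq_of_le_of_card_ge h3 h2
  rw [h4]
  exact Subgroup.subset_closure (Or.inr rfl)

theorem closure_union_comm {Pr : Subgroup G → Prop}
    (hcomm : ∀ A : Subgroup G, Pr A → ∀ x ∈ A, ∀ y ∈ A, x * y = y * x) {X A : Subgroup G}
    (hA : A ∈ FPr Pr X)
    {z : G} (hz : z ∈ sSup (FPr Pr X) ⊓ Subgroup.centralizer ((sSup (FPr Pr X) : Subgroup G) : Set G)) :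
    ∀ x ∈ Subgroup.closure ((A : Set G) ∪ {z}), ∀ y ∈ Subgroup.closure ((A : Set G) ∪ {z}),
      x * y = y * x := by
  have h0 : ∀ a ∈ A, a * z = z * a := by
    intro a ha
    exact Subgroup.mem_centralizer_iff.mp hz.2 a ((le_sSup hA : A ≤ _) ha)
  have h1 : ∀ x ∈ (A : Set G) ∪ {z}, ∀ y ∈ (A : Set G) ∪ {z}, x * y = y * x := by
    rintro x (hx | hx) y (hy | hy)
    · exact hcomm A hA.2.1 x hx y hy
    · rw [Set.mem_singleton_iff] at hy
      rw [hy]; exact h0 x hx
    · rw [Set.mem_singleton_iff] at hx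
      rw [hx]; exact (h0 y hy).symm
    · rw [Set.mem_singleton_iff] at hx hy
      rw [hx, hy]
  have := Subgroup.isMulCommutative_closure h1
  intro x hx y hy
  have h2 := mul_comm' (⟨x, hx⟩ : Subgroup.closure ((A : Set G) ∪ {z})) ⟨y, hy⟩
  exact congrArg Subtype.val h2

/-- `Z(J_a(X))` is the intersection of the family -/
theorem center_sSup_FA [Finite G] (X : Subgroup G) :
    sSup (FPr (PrA (G := G)) X) ⊓
      Subgroup.centralizer ((sSup (FPr (PrA (G := G)) X) : Subgroup G) : Set G) =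
    sInf (FPr (PrA (G := G)) X) := by
  have hbot : PrA (⊥ : Subgroup G) := by
    intro x hx y hy
    rw [Subgroup.mem_bot] at hx hy
    rw [hx, hy]
  apply le_antisymm _ (sInf_le_center_sSup (fun A h => h) hbot X)
  apply le_sInf
  intro A hA z hz
  exact mem_of_center_sSup hA hz (closure_union_comm (fun A h => h) hA hz)

theorem thompsonSubgroupAOf_eq (X : Subgroup G) :
    Cfsg.thompsonSubgroupAOf X = sSup (FPr (PrA (G := G)) X) := by
  unfold Cfsg.thompsonSubgroupAOf Cfsg.thompsonSubgroupA Cfsg.maxAbelianSubgroups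
  apply map_sSup_max_eq X (fun A' => IsMulCommutative A') PrA
  intro A'
  constructor
  · rintro h _ ⟨x, hx, rfl⟩ _ ⟨y, hy, rfl⟩
    have := mul_comm' (⟨x, hx⟩ : A') ⟨y, hy⟩
    have h2 := congrArg (fun t : A' => X.subtype (t : X)) this
    simpa using h2
  · intro h
    refine ⟨⟨fun x y => ?_⟩⟩
    apply Subtype.ext
    apply Subtype.ext
    have := h _ (Subgroup.mem_map_of_mem X.subtype x.2) _ (Subgroup.mem_map_of_mem X.subtype y.2)
    simpa using this

theorem centerThompsonAOf_eq [Finite G] (X : Subgroup G) :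
    Cfsg.centerThompsonAOf X = sInf (FPr (PrA (G := G)) X) := by
  unfold Cfsg.centerThompsonAOf
  rw [thompsonSubgroupAOf_eq, center_sSup_FA]

/-- S0653 -/
theorem zj_theorem_A [Finite G] {p : ℕ} [hp : Fact p.Prime] (hp2 : p ≠ 2)
    (hc : Subgroup.centralizer (Cfsg.pCore p G : Set G) ≤ Cfsg.pCore p G)
    (hst : ∀ (P : Subgroup G) [P.Normal], IsPGroup p P → Cfsg.IsPStableOn p P) (S : Sylow p G) :
    (Cfsg.centerThompsonAOf ((S : Subgroup G))).Characteristic := by
  rw [centerThompsonAOf_eq]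
  exact (zjFamily_A p).sInf_characteristic hp2 hc hst S

end Cfsg.Agent.Lib.Helper1.ZJ
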