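import Mathlib
import Cfsg.Agent.Lib.Helper1.AODefs
import Cfsg.Agent.Lib.Helper1.ZJ6
import Cfsg.Agent.Lib.Helper1.FreeStable1

set_option autoImplicit false
set_option linter.unusedVariables false
set_option linter.unusedSectionVars false
set_option linter.style.longLine false

/-!
# S3406 (odd case): `Z(J(P))` is functorial; groups of odd order are `SL₂(p)`-free
-/

open Cfsg.Agent.Lib.Helper1.AO

universe u

namespace Cfsg.Agent.Lib.Helper1.AO

variable {G : Type u} [Group G] [Finite G]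

/-- `Z(J(X))` commutes with automorphisms of the ambient group. -/
theorem centerThompsonAOf_map (X : Subgroup G) (φ : G ≃* G) :
    Cfsg.centerThompsonAOf (X.map φ.toMonoidHom) = (Cfsg.centerThompsonAOf X).map φ.toMonoidHom := by
  rw [Cfsg.Agent.Lib.Helper1.ZJ.centerThompsonAOf_eq, Cfsg.Agent.Lib.Helper1.ZJ.centerThompsonAOf_eq]
  exact (Cfsg.Agent.Lib.Helper1.ZJ.zjFamily_A 2).map_sInf φ X

/-- F0 -/
theorem le_normalizer_zj (P : Subgroup G) :
    P ≤ Subgroup.normalizer (Cfsg.centerThompsonAOf P : Set G) := by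
  intro u hu
  have hP : P.map (MulAut.conj u).toMonoidHom = P := by
    ext x
    constructor
    · rintro ⟨y, hy, rfl⟩
      show u * y * u⁻¹ ∈ P
      exact P.mul_mem (P.mul_mem hu hy) (P.inv_mem hu)
    · intro hx
      refine ⟨u⁻¹ * x * u, P.mul_mem (P.mul_mem (P.inv_mem hu) hx) hu, ?_⟩
      show u * (u⁻¹ * x * u) * u⁻¹ = x
      group
  have h := centerThompsonAOf_map P (MulAut.conj u)
  rw [hP] at h
  rw [Subgroup.mem_normalizer_iff]
  intro x
  constructor
  · intro hx
    rw [h]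
    exact ⟨x, hx, rfl⟩
  · intro hx
    rw [h] at hx
    obtain ⟨y, hy, hyx⟩ := hx
    have : y = x := by
      have h1 : u * y * u⁻¹ = u * x * u⁻¹ := hyx
      have h2 := mul_right_cancel h1
      exact mul_left_cancel h2
    rw [← this]; exact hy

/-- the image of a Sylow subgroup under an automorphism is a conjugate. -/
theorem sylow_map_aut' {l : ℕ} [Fact l.Prime] (L : Sylow l G) (α : MulAut G) :
    ∃ g : G, (L : Subgroup G).map α.toMonoidHom = (L : Subgroup G).map (MulAut.conj g).toMonoidHom := by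
  obtain ⟨g, hg⟩ := MulAction.exists_smul_eq G L (α • L)
  refine ⟨g, ?_⟩
  have h1 : ((g • L : Sylow l G) : Subgroup G) = ((α • L : Sylow l G) : Subgroup G) := by rw [hg]
  rw [Sylow.coe_subgroup_smul, Sylow.pointwise_smul_def] at h1
  exact h1.symm

/-- F4a -/
theorem zj_map_aut {p : ℕ} [Fact p.Prime] (P : Sylow p G) (α : MulAut G) :
    ∃ g : G, (Cfsg.centerThompsonAOf (P : Subgroup G)).map α.toMonoidHom =
      (Cfsg.centerThompsonAOf (P : Subgroup G)).map (MulAut.conj g).toMonoidHom ∧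
      (P : Subgroup G).map α.toMonoidHom = (P : Subgroup G).map (MulAut.conj g).toMonoidHom := by
  obtain ⟨g, hg⟩ := sylow_map_aut' P α
  refine ⟨g, ?_, hg⟩
  rw [← centerThompsonAOf_map, ← centerThompsonAOf_map, hg]

/-- a finite group involving `SL₂(p)`, `p` odd, has even order. -/
theorem sl2Free_of_odd {p : ℕ} [hp : Fact p.Prime] (hp2 : p ≠ 2) (Γ : Type u) [Group Γ] [Finite Γ]
    (hodd : Odd (Nat.card Γ)) : Cfsg.Agent.Lib.Helper1.FreeStable.SL2Free p Γ := by
  rintro ⟨K, R, hn, ⟨e⟩⟩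
  -- an involution of `SL₂(p)`
  let m : Matrix (Fin 2) (Fin 2) (ZMod p) := !![-1, 0; 0, -1]
  have hdet : m.det = 1 := by
    simp [m, Matrix.det_fin_two]
  let s : Matrix.SpecialLinearGroup (Fin 2) (ZMod p) := ⟨m, hdet⟩
  have hs2 : s ^ 2 = 1 := by
    apply Subtype.ext
    rw [pow_two]
    show m * m = 1
    ext i j
    fin_cases i <;> fin_cases j <;> simp [m, Matrix.mul_apply, Fin.sum_univ_two]
  have hs1 : s ≠ 1 := by
    intro h
    have h00 : m 0 0 = (1 : Matrix (Fin 2) (Fin 2) (ZMod p)) 0 0 := by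
      have := congrArg (fun t : Matrix.SpecialLinearGroup (Fin 2) (ZMod p) => (t : Matrix (Fin 2) (Fin 2) (ZMod p)) 0 0) h
      exact this
    simp [m] at h00
    -- -1 = 1 in ZMod p means p ∣ 2
    have h2 : (2 : ZMod p) = 0 := by
      have : (1 : ZMod p) + 1 = 0 := by
        nth_rewrite 1 [← h00]; ring
      rw [← this]; norm_num
    have h2' : ((2 : ℕ) : ZMod p) = 0 := by exact_mod_cast h2
    rw [ZMod.natCast_eq_zero_iff] at h2'
    exact hp2 ((Nat.prime_dvd_prime_iff_eq hp.out Nat.prime_two).mp h2')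
  have hord : orderOf s = 2 := orderOf_eq_prime hs2 hs1
  have hord' : orderOf (e.symm s) = 2 := by rw [MulEquiv.orderOf_eq]; exact hord
  have hdvd1 : 2 ∣ Nat.card (↥K ⧸ R.subgroupOf K) := by
    rw [← hord']; exact orderOf_dvd_natCard _
  have hdvd2 : Nat.card (↥K ⧸ R.subgroupOf K) ∣ Nat.card K := by
    rw [← Subgroup.index_eq_card]
    exact Subgroup.index_dvd_card _
  have hdvd3 : Nat.card K ∣ Nat.card Γ := Subgroup.card_subgroup_dvd_card K
  have : 2 ∣ Nat.card Γ := dvd_trans hdvd1 (dvd_trans hdvd2 hdvd3)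
  exact (Nat.not_even_iff_odd.mpr hodd) (even_iff_two_dvd.mpr this)

end Cfsg.Agent.Lib.Helper1.AO
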