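import Mathlib
set_option autoImplicit false
open scoped Pointwise IsMulCommutative
universe u
namespace Cfsg.Agent.Lib.Helper1.Gaschutz

variable {G : Type u} [Group G] (K A : Subgroup G) [K.Normal] [IsMulCommutative K]

theorem conjNormal_coe_apply (k h : K) : MulAut.conjNormal (k : G) h = h := by
  apply Subtype.ext
  rw [MulAut.conjNormal_apply]
  have := mul_comm' k h
  have h2 : (k : G) * h = h * k := congrArg Subtype.val this
  rw [h2]; group

/-- Cochains: functions `G → K` encoding left transversals of `K` that are right `A`-invariant. -/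
@[ext] structure Coch where
  toFun : G → K
  map_mul_K : ∀ (x : G) (k : K), toFun (x * k) = k⁻¹ * toFun x
  map_mul_A : ∀ (x : G) (a : A), toFun (x * a) = MulAut.conjNormal ((a : G)⁻¹) (toFun x)

variable {K A}

instance : MulAction G (Coch K A) where
  smul g f := ⟨fun x => f.toFun (g⁻¹ * x),
    fun x k => by rw [← mul_assoc]; exact f.map_mul_K _ k,
    fun x a => by rw [← mul_assoc]; exact f.map_mul_A _ a⟩
  one_smul f := by
    apply Coch.ext; funext x
    show f.toFun (1⁻¹ * x) = f.toFun x
    rw [inv_one, one_mul]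
  mul_smul g h f := by
    apply Coch.ext; funext x
    show f.toFun ((g * h)⁻¹ * x) = f.toFun (h⁻¹ * (g⁻¹ * x))
    rw [mul_inv_rev, mul_assoc]

theorem smul_toFun (g : G) (f : Coch K A) (x : G) : (g • f).toFun x = f.toFun (g⁻¹ * x) := rfl

/-- pointwise difference, conjugated back -/
def dd (f f' : Coch K A) (x : G) : K := MulAut.conjNormal x (f'.toFun x * (f.toFun x)⁻¹)

theorem dd_self (f : Coch K A) (x : G) : dd f f x = 1 := by
  unfold dd; rw [mul_inv_cancel, map_one]

theorem dd_mul_dd (f f' f'' : Coch K A) (x : G) : dd f f' x * dd f' f'' x = dd f f'' x := by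
  unfold dd
  rw [← map_mul]
  congr 1
  rw [mul_comm (f'.toFun x * (f.toFun x)⁻¹), mul_assoc, inv_mul_cancel_left]

theorem dd_mul_K (f f' : Coch K A) (x : G) (k : K) : dd f f' (x * k) = dd f f' x := by
  unfold dd
  rw [f.map_mul_K, f'.map_mul_K, map_mul MulAut.conjNormal, MulAut.mul_apply, conjNormal_coe_apply]
  congr 1
  rw [mul_inv, mul_mul_mul_comm, mul_inv_cancel, one_mul]

theorem dd_mul_A (f f' : Coch K A) (x : G) (a : A) : dd f f' (x * a) = dd f f' x := by
  unfold dd
  rw [f.map_mul_A, f'.map_mul_A, ← map_inv (MulAut.conjNormal (a : G)⁻¹),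
    ← map_mul (MulAut.conjNormal (a : G)⁻¹), ← MulAut.mul_apply, ← map_mul MulAut.conjNormal,
    mul_assoc, mul_inv_cancel, mul_one]

theorem dd_smul_smul (g : G) (f f' : Coch K A) (x : G) :
    dd (g • f) (g • f') x = MulAut.conjNormal g (dd f f' (g⁻¹ * x)) := by
  unfold dd
  rw [smul_toFun, smul_toFun, ← MulAut.mul_apply, ← map_mul, mul_inv_cancel_left]

theorem dd_smul_right (k : K) (f f' : Coch K A) (x : G) :
    dd f ((k : G) • f') x = k * dd f f' x := by
  unfold dd
  rw [smul_toFun]
  have h1 : (k : G)⁻¹ * x = x * ((MulAut.conjNormal x⁻¹ k⁻¹ : K) : G) := by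
    simp only [MulAut.conjNormal_apply, Subgroup.coe_inv, inv_inv]; group
  rw [h1, f'.map_mul_K, mul_assoc, map_mul (MulAut.conjNormal x), map_inv (MulAut.conjNormal x),
    ← MulAut.mul_apply, ← map_mul MulAut.conjNormal,
    mul_inv_cancel, map_one, MulAut.one_apply, inv_inv]

variable (U : Subgroup G)

theorem dd_mul_U (hU : K ⊔ A = U) (f f' : Coch K A) (x : G) {u : G} (hu : u ∈ U) :
    dd f f' (x * u) = dd f f' x := by
  rw [← hU] at hu
  obtain ⟨k, hk, a, ha, rfl⟩ := Subgroup.mem_sup_of_normal_left.mp hu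
  rw [← mul_assoc]
  rw [dd_mul_A f f' (x * k) ⟨a, ha⟩, dd_mul_K f f' x ⟨k, hk⟩]

theorem dd_out (hU : K ⊔ A = U) (f f' : Coch K A) (x : G) :
    dd f f' (Quotient.out (QuotientGroup.mk x : G ⧸ U)) = dd f f' x := by
  obtain ⟨h, hh⟩ := QuotientGroup.mk_out_eq_mul U x
  rw [hh, dd_mul_U U hU f f' x h.2]

variable [Fintype (G ⧸ U)]

/-- The difference of two cochains, an element of `K`. -/
noncomputable def delta (f f' : Coch K A) : K := ∏ c : G ⧸ U, dd f f' (Quotient.out c)

theorem delta_self (f : Coch K A) : delta U f f = 1 := by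
  unfold delta
  exact Finset.prod_eq_one (fun c _ => dd_self f _)

theorem delta_mul_delta (f f' f'' : Coch K A) : delta U f f' * delta U f' f'' = delta U f f'' := by
  unfold delta
  rw [← Finset.prod_mul_distrib]
  exact Finset.prod_congr rfl (fun c _ => dd_mul_dd f f' f'' _)

theorem delta_inv (f f' : Coch K A) : (delta U f f')⁻¹ = delta U f' f := by
  rw [inv_eq_iff_mul_eq_one, delta_mul_delta, delta_self]

theorem delta_smul_smul (hU : K ⊔ A = U) (g : G) (f f' : Coch K A) :
    delta U (g • f) (g • f') = MulAut.conjNormal g (delta U f f') := by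
  unfold delta
  rw [map_prod]
  have e : G ⧸ U ≃ G ⧸ U := MulAction.toPerm g⁻¹
  rw [← Equiv.prod_comp (MulAction.toPerm g⁻¹ : G ⧸ U ≃ G ⧸ U)
    (fun c => MulAut.conjNormal g (dd f f' (Quotient.out c)))]
  refine Finset.prod_congr rfl (fun c _ => ?_)
  rw [dd_smul_smul]
  congr 1
  rw [MulAction.toPerm_apply]
  conv_rhs => rw [← QuotientGroup.out_eq' c]
  rw [← dd_out U hU f f' (g⁻¹ * Quotient.out c)]
  rfl

theorem delta_smul_right (k : K) (f f' : Coch K A) :
    delta U f ((k : G) • f') = k ^ (Fintype.card (G ⧸ U)) * delta U f f' := by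
  unfold delta
  simp_rw [dd_smul_right]
  rw [Finset.prod_mul_distrib, Finset.prod_const, Finset.card_univ]

/-- the equivalence relation `delta = 1` -/
def cochSetoid (hU : K ⊔ A = U) : Setoid (Coch K A) where
  r f f' := delta U f f' = 1
  iseqv := ⟨fun f => delta_self U f, fun {f f'} h => by rw [← delta_inv, h, inv_one],
    fun {f f' f''} h h' => by rw [← delta_mul_delta U f f' f'', h, h', one_mul]⟩

/-- the quotient of cochains -/
def CochQuot (hU : K ⊔ A = U) : Type u := Quotient (cochSetoid U hU)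

instance (hU : K ⊔ A = U) : MulAction G (CochQuot U hU) where
  smul g := Quotient.map' (fun f => g • f) (fun f f' (h : delta U f f' = 1) => by
    show delta U (g • f) (g • f') = 1
    rw [delta_smul_smul U hU, h, map_one])
  one_smul q := Quotient.inductionOn' q (fun f => congrArg Quotient.mk'' (one_smul G f))
  mul_smul g h q := Quotient.inductionOn' q (fun f => congrArg Quotient.mk'' (mul_smul g h f))

/-- the class of a cochain -/
def qmk (hU : K ⊔ A = U) (f : Coch K A) : CochQuot U hU := Quotient.mk'' f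

theorem smul_qmk (hU : K ⊔ A = U) (g : G) (f : Coch K A) :
    g • qmk U hU f = qmk U hU (g • f) := rfl

theorem qmk_eq_qmk_iff (hU : K ⊔ A = U) (f f' : Coch K A) :
    qmk U hU f = qmk U hU f' ↔ delta U f f' = 1 :=
  Quotient.eq''

theorem exists_smul_eq [Finite K] (hU : K ⊔ A = U) (hcop : (Nat.card K).Coprime (Fintype.card (G ⧸ U)))
    (f f' : Coch K A) : ∃ k : K, k • qmk U hU f = qmk U hU f' := by
  obtain ⟨k, hk⟩ := (powCoprime hcop).surjective (delta U f' f)
  refine ⟨k⁻¹, ?_⟩
  rw [Subgroup.smul_def, smul_qmk, eq_comm, qmk_eq_qmk_iff, delta_smul_right, inv_pow]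
  rw [inv_mul_eq_one]
  exact hk

theorem isComplement'_stabilizer [Finite K] (hU : K ⊔ A = U)
    (hcop : (Nat.card K).Coprime (Fintype.card (G ⧸ U))) (f : Coch K A) :
    Subgroup.IsComplement' K (MulAction.stabilizer G (qmk U hU f)) := by
  apply Subgroup.isComplement'_stabilizer
  · intro k hk
    rw [Subgroup.smul_def, smul_qmk, eq_comm, qmk_eq_qmk_iff, delta_smul_right, delta_self, mul_one] at hk
    apply (powCoprime hcop).injective
    show k ^ _ = 1 ^ _
    rw [hk, one_pow]
  · intro g
    obtain ⟨k, hk⟩ := exists_smul_eq U hU hcop (g • f) f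
    exact ⟨k, hk⟩

end Cfsg.Agent.Lib.Helper1.Gaschutz
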