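import Mathlib
import Cfsg.Agent.Lib.Helper1.Gaschutz1
set_option autoImplicit false
open scoped Pointwise IsMulCommutative
universe u
namespace Cfsg.Agent.Lib.Helper1.Gaschutz

variable {G : Type u} [Group G] {K A : Subgroup G} [K.Normal] [IsMulCommutative K]

omit [IsMulCommutative K] [K.Normal] in
theorem eq_of_mul_eq_mul (hAK : A ⊓ K = ⊥) {a a' k k' : G} (ha : a ∈ A) (ha' : a' ∈ A)
    (hk : k ∈ K) (hk' : k' ∈ K) (h : a * k = a' * k') : k = k' := by
  have h1 : a'⁻¹ * a = k' * k⁻¹ := by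
    rw [eq_mul_inv_iff_mul_eq, mul_assoc, h, inv_mul_cancel_left]
  have h2 : k' * k⁻¹ ∈ A ⊓ K := ⟨h1 ▸ A.mul_mem (A.inv_mem ha') ha, K.mul_mem hk' (K.inv_mem hk)⟩
  rw [hAK, Subgroup.mem_bot] at h2
  exact (mul_inv_eq_one.mp h2).symm

theorem exists_coch (U : Subgroup G) (hAK : A ⊓ K = ⊥) (hU : K ⊔ A = U) : Nonempty (Coch K A) := by
  have hKU : K ≤ U := hU ▸ le_sup_left
  have hAU : A ≤ U := hU ▸ le_sup_right
  have key : ∀ x : G, ∃ k : K, ∃ a : A,
      (Quotient.out (QuotientGroup.mk x : G ⧸ U))⁻¹ * x = a * k := by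
    intro x
    obtain ⟨h, hh⟩ := QuotientGroup.mk_out_eq_mul U x
    have h1 : (Quotient.out (QuotientGroup.mk x : G ⧸ U))⁻¹ * x ∈ K ⊔ A := by
      rw [hh, hU, mul_inv_rev, inv_mul_cancel_right]
      exact U.inv_mem h.2
    rw [sup_comm] at h1
    obtain ⟨a, ha, k, hk, h2⟩ := Subgroup.mem_sup_of_normal_right.mp h1
    exact ⟨⟨k, hk⟩, ⟨a, ha⟩, h2.symm⟩
  choose kf af hf using key
  have hout : ∀ (x : G) (u : G), u ∈ U →
      Quotient.out (QuotientGroup.mk (x * u) : G ⧸ U) = Quotient.out (QuotientGroup.mk x : G ⧸ U) := by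
    intro x u hu
    congr 1
    rw [QuotientGroup.eq]
    simpa using U.inv_mem hu
  refine ⟨⟨fun x => (kf x)⁻¹, ?_, ?_⟩⟩
  · intro x k
    have h1 := hf (x * k)
    rw [hout x k (hKU k.2), ← mul_assoc, hf x, mul_assoc] at h1
    have h2 := eq_of_mul_eq_mul hAK (af x).2 (af (x * k)).2 (K.mul_mem (kf x).2 k.2) (kf (x * k)).2 h1
    have h3 : kf (x * k) = kf x * k := Subtype.ext h2.symm
    show (kf (x * k))⁻¹ = k⁻¹ * (kf x)⁻¹
    rw [h3, mul_inv_rev]
  · intro x a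
    have h1 := hf (x * a)
    rw [hout x a (hAU a.2), ← mul_assoc, hf x] at h1
    have h1' : ((af x : G) * a) * ((a : G)⁻¹ * kf x * a) = af (x * a) * kf (x * a) := by
      rw [← h1]; group
    have hmem : (a : G)⁻¹ * kf x * a ∈ K := by
      have := ‹K.Normal›.conj_mem _ (kf x).2 (a : G)⁻¹
      rwa [inv_inv] at this
    have h2 := eq_of_mul_eq_mul hAK (A.mul_mem (af x).2 a.2) (af (x * a)).2 hmem (kf (x * a)).2 h1'
    show (kf (x * a))⁻¹ = MulAut.conjNormal ((a : G)⁻¹) (kf x)⁻¹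
    rw [map_inv]
    congr 1
    apply Subtype.ext
    rw [MulAut.conjNormal_apply, inv_inv]
    exact h2.symm

theorem gaschutz_exists [Finite G] (U : Subgroup G) (hcop : (Nat.card K).Coprime U.index)
    (hAK : A ⊓ K = ⊥) (hU : K ⊔ A = U) : ∃ H : Subgroup G, Subgroup.IsComplement' K H := by
  classical
  let _ : Fintype (G ⧸ U) := Fintype.ofFinite _
  obtain ⟨f⟩ := exists_coch U hAK hU
  have hcop' : (Nat.card K).Coprime (Fintype.card (G ⧸ U)) := by
    rwa [← Nat.card_eq_fintype_card, ← Subgroup.index_eq_card]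
  exact ⟨_, isComplement'_stabilizer U hU hcop' f⟩

/-- the cochain of a complement containing `A` -/
theorem exists_coch_of_complement {H : Subgroup G} (hH : Subgroup.IsComplement' K H) (hAH : A ≤ H) :
    ∃ f : Coch K A, ∀ h ∈ H, h • f = f := by
  have key := Subgroup.isComplement_iff_existsUnique.mp hH.symm
  choose φ hφ hφu using key
  have huniq : ∀ (x : G) (h : H) (k : K), (h : G) * k = x → φ x = (h, k) := by
    intro x h k hx
    exact (hφu x (h, k) hx).symm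
  refine ⟨⟨fun x => (φ x).2⁻¹, ?_, ?_⟩, ?_⟩
  · intro x k
    have h1 : φ (x * k) = ((φ x).1, (φ x).2 * k) := by
      apply huniq
      show ((φ x).1 : G) * ((φ x).2 * k) = x * k
      rw [← mul_assoc]
      exact congrArg (· * (k : G)) (hφ x)
    show (φ (x * k)).2⁻¹ = k⁻¹ * (φ x).2⁻¹
    rw [h1, mul_inv_rev]
  · intro x a
    have h1 : φ (x * a) = ((φ x).1 * ⟨a, hAH a.2⟩, MulAut.conjNormal ((a : G)⁻¹) (φ x).2) := by
      apply huniq
      rw [MulAut.conjNormal_apply, inv_inv]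
      show ((φ x).1 : G) * a * ((a : G)⁻¹ * (φ x).2 * a) = x * a
      have e : ((φ x).1 : G) * a * ((a : G)⁻¹ * (φ x).2 * a) = ((φ x).1 * (φ x).2) * a := by group
      rw [e]
      exact congrArg (· * (a : G)) (hφ x)
    show (φ (x * a)).2⁻¹ = MulAut.conjNormal ((a : G)⁻¹) (φ x).2⁻¹
    rw [h1, map_inv (MulAut.conjNormal ((a : G)⁻¹))]
  · intro h hh
    apply Coch.ext; funext x
    show (φ (h⁻¹ * x)).2⁻¹ = (φ x).2⁻¹
    have h1 : φ (h⁻¹ * x) = (⟨h, hh⟩⁻¹ * (φ x).1, (φ x).2) := by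
      apply huniq
      show (h⁻¹ * ((φ x).1 : G)) * (φ x).2 = h⁻¹ * x
      rw [mul_assoc]
      exact congrArg (h⁻¹ * ·) (hφ x)
    rw [h1]

omit [IsMulCommutative K] [K.Normal] in
theorem eq_of_le_of_isComplement' {H H' : Subgroup G} (hH : Subgroup.IsComplement' K H)
    (hH' : Subgroup.IsComplement' K H') (hle : H ≤ H') : H = H' := by
  apply le_antisymm hle
  intro g hg
  obtain ⟨⟨k, h⟩, hkh, -⟩ := Subgroup.isComplement_iff_existsUnique.mp hH g
  simp only at hkh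
  have hk : (k : G) ∈ K ⊓ H' := by
    refine ⟨k.2, ?_⟩
    have : (k : G) = g * (h : G)⁻¹ := by rw [← hkh, mul_inv_cancel_right]
    rw [this]
    exact H'.mul_mem hg (H'.inv_mem (hle h.2))
  rw [hH'.disjoint.eq_bot, Subgroup.mem_bot] at hk
  rw [← hkh, hk, one_mul]
  exact h.2

theorem gaschutz_conj [Finite G] (U : Subgroup G) (hcop : (Nat.card K).Coprime U.index)
    (hU : K ⊔ A = U) {H₀ H₁ : Subgroup G} (h₀ : Subgroup.IsComplement' K H₀)
    (h₁ : Subgroup.IsComplement' K H₁) (hA₀ : A ≤ H₀) (hA₁ : A ≤ H₁) :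
    ∃ g : G, MulAut.conj g • H₀ = H₁ := by
  classical
  let _ : Fintype (G ⧸ U) := Fintype.ofFinite _
  have hcop' : (Nat.card K).Coprime (Fintype.card (G ⧸ U)) := by
    rwa [← Nat.card_eq_fintype_card, ← Subgroup.index_eq_card]
  obtain ⟨f₀, hf₀⟩ := exists_coch_of_complement h₀ hA₀
  obtain ⟨f₁, hf₁⟩ := exists_coch_of_complement h₁ hA₁
  have e₀ : H₀ = MulAction.stabilizer G (qmk U hU f₀) := by
    apply eq_of_le_of_isComplement' h₀ (isComplement'_stabilizer U hU hcop' f₀)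
    intro h hh
    rw [MulAction.mem_stabilizer_iff, smul_qmk, hf₀ h hh]
  have e₁ : H₁ = MulAction.stabilizer G (qmk U hU f₁) := by
    apply eq_of_le_of_isComplement' h₁ (isComplement'_stabilizer U hU hcop' f₁)
    intro h hh
    rw [MulAction.mem_stabilizer_iff, smul_qmk, hf₁ h hh]
  obtain ⟨k, hk⟩ := exists_smul_eq U hU hcop' f₀ f₁
  refine ⟨k, ?_⟩
  rw [e₁, ← hk, Subgroup.smul_def, MulAction.stabilizer_smul_eq_stabilizer_map_conj, ← e₀]
  rfl

end Cfsg.Agent.Lib.Helper1.Gaschutz
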