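import Mathlib
import Cfsg.Prelude.Def_Transfer
import Cfsg.Agent.Lib.Helper1.Gaschutz2
import Cfsg.Agent.Lib.Helper1.FrattiniP
set_option autoImplicit false
open scoped Pointwise IsMulCommutative commutatorElement
universe u
namespace Cfsg.Agent.Lib.Helper1.Tate

/-- a finite group equal to its Frattini subgroup is trivial -/
theorem eq_bot_of_frattini_eq_top {X : Type u} [Group X] [Finite X] (h : frattini X = ⊤) :
    (⊤ : Subgroup X) = ⊥ := by
  by_contra hne
  obtain h1 | ⟨M, hM, -⟩ := eq_top_or_exists_le_coatom (⊥ : Subgroup X)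
  · exact hne h1.symm
  · have := frattini_le_coatom hM
    rw [h] at this
    exact hM.1 (top_le_iff.mp this)

variable {G : Type u} [Group G] [Finite G] {p : ℕ} [hp : Fact p.Prime]

theorem tate_key (P : Sylow p G) (R : Subgroup G) [hRn : R.Normal]
    (hR : R ⊓ (P : Subgroup G) ≤ (frattini ↥(P : Subgroup G)).map (P : Subgroup G).subtype)
    (hgen : R ≤ Subgroup.closure {g : G | g ∈ R ∧ (orderOf g).Coprime p}) :
    R ⊓ (P : Subgroup G) = ⊥ := by
  classical
  -- notation
  set PP : Subgroup G := (P : Subgroup G) with hPP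
  have hPPp : IsPGroup p ↥PP := P.2
  let D' : Subgroup ↥PP := R.subgroupOf PP
  haveI hD'n : D'.Normal := Subgroup.Normal.subgroupOf hRn PP
  let F : Subgroup ↥PP := (frattini ↥D').map D'.subtype
  haveI hFn : F.Normal := ConjAct.normal_of_characteristic_of_normal
  have hFD : F ≤ D' := Subgroup.map_subtype_le _
  have hD'p : IsPGroup p ↥D' := hPPp.to_subgroup D'
  -- P₁ and τ
  let τ : (↥PP ⧸ F) →* G ⧸ R :=
    QuotientGroup.lift F ((QuotientGroup.mk' R).comp PP.subtype) (by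
      intro x hx
      have : x ∈ D' := hFD hx
      rw [MonoidHom.mem_ker, MonoidHom.comp_apply, QuotientGroup.mk'_apply,
        QuotientGroup.eq_one_iff]
      exact Subgroup.mem_subgroupOf.mp this)
  have hτmk : ∀ y : ↥PP, τ (QuotientGroup.mk y) = QuotientGroup.mk (y : G) := fun y => rfl
  have hP₁p : IsPGroup p (↥PP ⧸ F) := hPPp.to_quotient F
  -- kernel of τ is in the Frattini subgroup
  have hkerτ : τ.ker ≤ frattini (↥PP ⧸ F) := by
    intro w hw
    obtain ⟨y, rfl⟩ := QuotientGroup.mk_surjective w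
    rw [MonoidHom.mem_ker, hτmk, QuotientGroup.eq_one_iff] at hw
    have h1 : (y : G) ∈ R ⊓ PP := ⟨hw, y.2⟩
    obtain ⟨y', hy', hyy'⟩ := hR h1
    have h2 : y' = y := Subtype.ext hyy'
    rw [h2] at hy'
    exact frattini_le_comap_frattini_of_surjective (φ := QuotientGroup.mk' F)
      (QuotientGroup.mk'_surjective F) hy'
  -- the fibre product
  let E : Subgroup (G × (↥PP ⧸ F)) :=
    MonoidHom.eqLocus ((QuotientGroup.mk' R).comp (MonoidHom.fst G (↥PP ⧸ F)))
      (τ.comp (MonoidHom.snd G (↥PP ⧸ F)))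
  have hmemE : ∀ z : G × (↥PP ⧸ F), z ∈ E ↔ (QuotientGroup.mk z.1 : G ⧸ R) = τ z.2 :=
    fun z => Iff.rfl
  let fE : ↥E →* G := (MonoidHom.fst G (↥PP ⧸ F)).comp E.subtype
  let sE : ↥E →* (↥PP ⧸ F) := (MonoidHom.snd G (↥PP ⧸ F)).comp E.subtype
  have hfE : ∀ e : ↥E, fE e = e.1.1 := fun e => rfl
  have hsE : ∀ e : ↥E, sE e = e.1.2 := fun e => rfl
  have hext : ∀ e e' : ↥E, fE e = fE e' → sE e = sE e' → e = e' := by
    intro e e' h1 h2
    apply Subtype.ext
    exact Prod.ext h1 h2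
  let K : Subgroup ↥E := fE.ker
  have hτK : ∀ k ∈ K, τ (sE k) = 1 := by
    intro k hk
    have h1 : fE k = 1 := hk
    have h2 := (hmemE k.1).mp k.2
    rw [← hfE, h1] at h2
    rw [hsE, ← h2]
    exact QuotientGroup.mk_one R
  -- K is commutative
  have hker_comm : ∀ a b : (↥PP ⧸ F), τ a = 1 → τ b = 1 → a * b = b * a := by
    intro a b ha hb
    obtain ⟨x, rfl⟩ := QuotientGroup.mk_surjective a
    obtain ⟨y, rfl⟩ := QuotientGroup.mk_surjective b
    rw [hτmk, QuotientGroup.eq_one_iff] at ha hb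
    have hx : x ∈ D' := Subgroup.mem_subgroupOf.mpr ha
    have hy : y ∈ D' := Subgroup.mem_subgroupOf.mpr hb
    have hc : ⁅(⟨x, hx⟩ : ↥D'), ⟨y, hy⟩⁆ ∈ frattini ↥D' :=
      commutator_le_frattini_of_isPGroup p hD'p (Subgroup.commutator_mem_commutator
        (Subgroup.mem_top _) (Subgroup.mem_top _))
    have hcF : ⁅x, y⁆ ∈ F := ⟨_, hc, rfl⟩
    rw [← QuotientGroup.mk_mul, ← QuotientGroup.mk_mul, QuotientGroup.eq]
    have : (x * y)⁻¹ * (y * x) = ⁅y⁻¹, x⁻¹⁆ := by
      rw [commutatorElement_def]; group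
    rw [this]
    have h3 : ⁅y⁻¹, x⁻¹⁆ = ((x * y)⁻¹ * ⁅x, y⁆⁻¹ * (x * y))⁻¹⁻¹ := by
      rw [commutatorElement_def, commutatorElement_def]; group
    rw [h3, inv_inv]
    have h4 := hFn.conj_mem _ (F.inv_mem hcF) (x * y)⁻¹
    rwa [inv_inv] at h4
  have hKc : IsMulCommutative K := ⟨⟨fun a b => by
    apply Subtype.ext
    apply hext
    · rw [Subgroup.coe_mul, Subgroup.coe_mul, map_mul, map_mul]
      have ha : fE a.1 = 1 := a.2
      have hb : fE b.1 = 1 := b.2
      rw [ha, hb]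
    · rw [Subgroup.coe_mul, Subgroup.coe_mul, map_mul, map_mul]
      exact hker_comm _ _ (hτK a.1 a.2) (hτK b.1 b.2)⟩⟩
  have hKp : IsPGroup p ↥K := by
    intro k
    obtain ⟨n, hn⟩ := hP₁p (sE k.1)
    refine ⟨n, ?_⟩
    apply Subtype.ext
    apply hext
    · rw [Subgroup.coe_pow, map_pow, Subgroup.coe_one, map_one]
      have hk : fE k.1 = 1 := k.2
      rw [hk, one_pow]
    · rw [Subgroup.coe_pow, map_pow, Subgroup.coe_one, map_one]
      exact hn
  -- the graph
  let γ : ↥PP →* ↥E :=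
    (MonoidHom.prod PP.subtype (QuotientGroup.mk' F)).codRestrict E (fun y => by
      rw [hmemE]
      exact (hτmk y).symm)
  have hfγ : ∀ y : ↥PP, fE (γ y) = (y : G) := fun y => rfl
  have hsγ : ∀ y : ↥PP, sE (γ y) = QuotientGroup.mk y := fun y => rfl
  let A : Subgroup ↥E := γ.range
  let U : Subgroup ↥E := PP.comap fE
  have hAK : A ⊓ K = ⊥ := by
    rw [eq_bot_iff]
    rintro e ⟨⟨y, rfl⟩, hK⟩
    have h1 : fE (γ y) = 1 := hK
    rw [hfγ] at h1
    have h2 : y = 1 := Subtype.ext h1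
    rw [h2, map_one]
    exact Subgroup.mem_bot.mpr rfl
  have hU : K ⊔ A = U := by
    apply le_antisymm
    · apply sup_le
      · intro k hk
        have h1 : fE k = 1 := hk
        show fE k ∈ PP
        rw [h1]; exact PP.one_mem
      · rintro _ ⟨y, rfl⟩
        show fE (γ y) ∈ PP
        rw [hfγ]; exact y.2
    · intro e he
      have he' : fE e ∈ PP := he
      have h1 : e = (e * (γ ⟨fE e, he'⟩)⁻¹) * γ ⟨fE e, he'⟩ := by group
      rw [h1]
      apply Subgroup.mul_mem_sup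
      · show fE (e * (γ ⟨fE e, he'⟩)⁻¹) = 1
        rw [map_mul, map_inv, hfγ]
        exact mul_inv_cancel _
      · exact ⟨_, rfl⟩
  have hcop : (Nat.card K).Coprime U.index := by
    obtain ⟨n, hn⟩ := IsPGroup.iff_card.mp hKp
    rw [hn]
    apply Nat.Coprime.pow_left
    rw [hp.out.coprime_iff_not_dvd]
    intro hdvd
    have h1 : U.index = PP.relIndex fE.range := Subgroup.index_comap PP fE
    have h2 : PP ≤ fE.range := by
      intro y hy
      exact ⟨γ ⟨y, hy⟩, rfl⟩
    have h3 : PP.relIndex fE.range ∣ PP.index :=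
      Dvd.intro _ (Subgroup.relIndex_mul_index h2)
    rw [h1] at hdvd
    exact P.not_dvd_index (hdvd.trans h3)
  obtain ⟨H, hKH⟩ := Gaschutz.gaschutz_exists (K := K) (A := A) U hcop hAK hU
  have hdisj : K ⊓ H = ⊥ := hKH.disjoint.eq_bot
  have hdecomp : ∀ e : ↥E, ∃ k ∈ K, ∃ h ∈ H, k * h = e := by
    intro e
    obtain ⟨⟨k, h⟩, hkh, -⟩ := (Subgroup.isComplement_iff_existsUnique.mp hKH e)
    exact ⟨k.1, k.2, h.1, h.2, hkh⟩
  -- (a) the second projection of H is onto
  have hS : H.map sE = ⊤ := by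
    apply frattini_nongenerating
    rw [eq_top_iff]
    intro x _
    obtain ⟨y, rfl⟩ := QuotientGroup.mk_surjective x
    obtain ⟨k, hk, h, hh, hkh⟩ := hdecomp (γ y)
    have h1 : sE k * sE h = QuotientGroup.mk y := by
      rw [← map_mul, hkh, hsγ]
    rw [← h1, sup_comm]
    apply Subgroup.mul_mem_sup
    · exact hkerτ (hτK k hk)
    · exact ⟨h, hh, rfl⟩
  -- (c) R × 1 ≤ H
  have hRH : ∀ g ∈ R, ∃ h ∈ H, fE h = g ∧ sE h = 1 := by
    let X : Subgroup G := (H.map E.subtype).comap (MonoidHom.inl G (↥PP ⧸ F))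
    have hX : ∀ g, g ∈ X ↔ ∃ h ∈ H, fE h = g ∧ sE h = 1 := by
      intro g
      constructor
      · rintro ⟨h, hh, hval⟩
        refine ⟨h, hh, ?_, ?_⟩
        · exact congrArg Prod.fst hval
        · exact congrArg Prod.snd hval
      · rintro ⟨h, hh, h1, h2⟩
        refine ⟨h, hh, ?_⟩
        apply Prod.ext
        · exact h1
        · exact h2
    have hRX : R ≤ X := by
      refine hgen.trans ?_
      rw [Subgroup.closure_le]
      rintro g ⟨hgR, hgc⟩
      rw [SetLike.mem_coe, hX]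
      have hE : ((g, 1) : G × (↥PP ⧸ F)) ∈ E := by
        rw [hmemE]
        show (QuotientGroup.mk g : G ⧸ R) = τ 1
        rw [map_one, QuotientGroup.eq_one_iff]
        exact hgR
      obtain ⟨k, hk, h, hh, hkh⟩ := hdecomp ⟨(g, 1), hE⟩
      have hfk : fE k = 1 := hk
      have hfh : fE h = g := by
        have := congrArg fE hkh
        rw [map_mul, hfk, one_mul] at this
        exact this
      have hskh : sE k * sE h = 1 := by
        rw [← map_mul, hkh]; rfl
      -- h ^ orderOf g = 1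
      have hpow : h ^ orderOf g = 1 := by
        have h1 : h ^ orderOf g ∈ K ⊓ H := by
          refine ⟨?_, H.pow_mem hh _⟩
          show fE (h ^ orderOf g) = 1
          rw [map_pow, hfh, pow_orderOf_eq_one]
        rw [hdisj] at h1
        exact Subgroup.mem_bot.mp h1
      have h2 : (sE h) ^ orderOf g = 1 := by rw [← map_pow, hpow, map_one]
      have h3 : orderOf (sE h) ∣ orderOf g := orderOf_dvd_of_pow_eq_one h2
      obtain ⟨j, hj⟩ := IsPGroup.iff_orderOf.mp hP₁p (sE h)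
      have h4 : orderOf (sE h) = 1 := by
        have hc : (orderOf (sE h)).Coprime (p ^ j) :=
          (Nat.Coprime.coprime_dvd_left h3 hgc).pow_right j
        rw [← hj] at hc
        exact Nat.eq_one_of_dvd_coprimes hc dvd_rfl dvd_rfl
      have h5 : sE h = 1 := orderOf_eq_one_iff.mp h4
      exact ⟨h, hh, hfh, h5⟩
    intro g hg
    exact (hX g).mp (hRX hg)
  -- (d)
  have hD'F : D' ≤ F := by
    intro y hy
    have hyR : (y : G) ∈ R := Subgroup.mem_subgroupOf.mp hy
    have hx : (QuotientGroup.mk y : ↥PP ⧸ F) ∈ H.map sE := by rw [hS]; trivial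
    obtain ⟨h, hh, hsh⟩ := hx
    have hg : fE h ∈ R := by
      have h1 := (hmemE h.1).mp h.2
      rw [← hsE, hsh, hτmk] at h1
      have h2 : (QuotientGroup.mk (fE h) : G ⧸ R) = 1 := by
        rw [hfE, h1, QuotientGroup.eq_one_iff]; exact hyR
      exact (QuotientGroup.eq_one_iff _).mp h2
    obtain ⟨h', hh', hf', hs'⟩ := hRH _ hg
    have h3 : h'⁻¹ * h ∈ K ⊓ H := by
      refine ⟨?_, H.mul_mem (H.inv_mem hh') hh⟩
      show fE (h'⁻¹ * h) = 1
      rw [map_mul, map_inv, hf', inv_mul_cancel]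
    rw [hdisj, Subgroup.mem_bot] at h3
    have h4 : sE (h'⁻¹ * h) = 1 := by rw [h3, map_one]
    rw [map_mul, map_inv, hs', inv_one, one_mul, hsh] at h4
    exact (QuotientGroup.eq_one_iff _).mp h4
  -- (e)
  have hfr : frattini ↥D' = ⊤ := by
    rw [eq_top_iff]
    intro d _
    obtain ⟨d', hd', hdd'⟩ := hD'F d.2
    have : d' = d := Subtype.ext hdd'
    rw [← this]; exact hd'
  have hD'bot := eq_bot_of_frattini_eq_top hfr
  rw [eq_bot_iff]
  rintro d ⟨hdR, hdP⟩
  have h1 : (⟨⟨d, hdP⟩, Subgroup.mem_subgroupOf.mpr hdR⟩ : ↥D') ∈ (⊤ : Subgroup ↥D') :=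
    Subgroup.mem_top _
  rw [hD'bot, Subgroup.mem_bot] at h1
  have h2 := congrArg (fun z : ↥D' => ((z : ↥PP) : G)) h1
  simpa using h2

end Cfsg.Agent.Lib.Helper1.Tate
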