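import Mathlib
import Cfsg.Prelude.Def_Transfer
import Cfsg.Agent.Lib.Helper1.Tate1
import Cfsg.Agent.Lib.Helper1.PResidual
set_option autoImplicit false
open scoped Pointwise IsMulCommutative commutatorElement
universe u
namespace Cfsg.Agent.Lib.Helper1.Tate

variable {G : Type u} [Group G] [Finite G] {p : ℕ} [hp : Fact p.Prime]

/-- a normal subgroup meeting a Sylow `p`-subgroup trivially has order prime to `p` -/
theorem coprime_card_of_normal_inf_sylow_eq_bot (P : Sylow p G) (R : Subgroup G) [hRn : R.Normal]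
    (h : R ⊓ (P : Subgroup G) = ⊥) : (Nat.card R).Coprime p := by
  rw [Nat.coprime_comm, hp.out.coprime_iff_not_dvd]
  intro hdvd
  obtain ⟨r, hr⟩ := exists_prime_orderOf_dvd_card' p hdvd
  have hrp : IsPGroup p (Subgroup.zpowers (r : G)) := by
    rw [IsPGroup.iff_card]
    refine ⟨1, ?_⟩
    rw [Nat.card_zpowers, Subgroup.orderOf_coe, hr, pow_one]
  obtain ⟨Q, hQ⟩ := hrp.exists_le_sylow
  obtain ⟨g, hg⟩ := MulAction.exists_smul_eq G Q P
  have h1 : (r : G) ∈ (Q : Subgroup G) := hQ (Subgroup.mem_zpowers _)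
  have h2 : g * (r : G) * g⁻¹ ∈ (P : Subgroup G) := by
    rw [← hg, Sylow.coe_subgroup_smul]
    exact ⟨r, h1, rfl⟩
  have h3 : g * (r : G) * g⁻¹ ∈ R := hRn.conj_mem _ r.2 g
  have h4 : g * (r : G) * g⁻¹ ∈ R ⊓ (P : Subgroup G) := ⟨h3, h2⟩
  rw [h, Subgroup.mem_bot] at h4
  have h5 : (r : G) = 1 := by
    have : (r : G) = g⁻¹ * (g * (r : G) * g⁻¹) * g := by group
    rw [this, h4]; group
  have h6 : orderOf (r : G) = 1 := by rw [h5, orderOf_one]
  rw [Subgroup.orderOf_coe, hr] at h6
  exact hp.out.one_lt.ne' h6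

theorem tate (P : Sylow p G) (N : Subgroup G) [hNn : N.Normal]
    (h : N ⊓ (P : Subgroup G) ≤ (frattini ↥(P : Subgroup G)).map (P : Subgroup G).subtype) :
    Cfsg.HasNormalPComplement p ↥N := by
  classical
  let M : Subgroup ↥N := Cfsg.pResidual p ↥N
  haveI hMc : M.Characteristic := pResidual_characteristic p
  haveI hMn : M.Normal := Subgroup.normal_of_characteristic M
  let R : Subgroup G := M.map N.subtype
  haveI hRn : R.Normal := ConjAct.normal_of_characteristic_of_normal
  have hRN : R ≤ N := Subgroup.map_subtype_le _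
  have hgen : R ≤ Subgroup.closure {g : G | g ∈ R ∧ (orderOf g).Coprime p} := by
    show M.map N.subtype ≤ _
    rw [Subgroup.map_le_iff_le_comap]
    show Subgroup.closure _ ≤ _
    rw [Subgroup.closure_le]
    intro g hg
    have hg' : (orderOf g).Coprime p := hg
    rw [SetLike.mem_coe, Subgroup.mem_comap]
    apply Subgroup.subset_closure
    refine ⟨⟨g, Subgroup.subset_closure hg, rfl⟩, ?_⟩
    rw [Subgroup.coe_subtype, Subgroup.orderOf_coe]
    exact hg'
  have hbot : R ⊓ (P : Subgroup G) = ⊥ :=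
    tate_key P R ((inf_le_inf_right _ hRN).trans h) hgen
  have hcopR := coprime_card_of_normal_inf_sylow_eq_bot P R hbot
  have hcardM : Nat.card M = Nat.card R :=
    (Subgroup.card_map_of_injective (Subgroup.subtype_injective N)).symm
  have hcopM : (Nat.card M).Coprime p := hcardM ▸ hcopR
  obtain ⟨k, hk⟩ := IsPGroup.iff_card.mp (isPGroup_quotient_pResidual (G := ↥N) p)
  have hidx : M.index = p ^ k := by rw [Subgroup.index_eq_card]; exact hk
  let P' : Sylow p ↥N := default
  refine ⟨P', M, hMn, ?_⟩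
  have hcardN : Nat.card ↥N = Nat.card M * p ^ k := by
    rw [← hidx]; exact (Subgroup.card_mul_index M).symm
  have hP' : Nat.card (P' : Subgroup ↥N) = p ^ k := by
    rw [Sylow.card_eq_multiplicity, hcardN]
    congr 1
    rw [Nat.factorization_mul (Nat.card_pos.ne') (pow_ne_zero _ hp.out.pos.ne'),
      Finsupp.add_apply, Nat.factorization_eq_zero_of_not_dvd
        ((Nat.Prime.coprime_iff_not_dvd hp.out).mp hcopM.symm),
      Nat.Prime.factorization_pow hp.out, Finsupp.single_eq_same, zero_add]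
  apply Subgroup.isComplement'_of_coprime
  · rw [hP', hcardN]
  · rw [hP']
    exact hcopM.pow_right k

end Cfsg.Agent.Lib.Helper1.Tate
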