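import Mathlib
import Cfsg.Prelude.Def_Local
import Cfsg.Agent.Lib.Helper1.Tate2

set_option autoImplicit false
set_option maxHeartbeats 4000000
set_option maxRecDepth 100000
set_option linter.unusedVariables false
set_option linter.unusedSectionVars false
set_option linter.style.longLine false
set_option linter.unusedSimpArgs false
set_option linter.deprecated false
set_option linter.style.haveILetI false

/-!
# Two-generated Sylow subgroups with core-free Frattini subgroup, part 1 (helper1, for S4172)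
-/

open scoped commutatorElement
universe u
namespace Cfsg.Agent.Lib.Helper1.Fsg

section TwoGen

/-- If `Φ(Q)` has index `p²` then every subgroup not inside `Φ(Q)` generates `Q`
together with one more element. -/
theorem two_gen_sup {Q : Type*} [Group Q] [Finite Q] (p : ℕ) (hp : p.Prime)
    (hgen : (frattini Q).index = p ^ 2)
    (M : Subgroup Q) (hM : ¬ M ≤ frattini Q) : ∃ z : Q, M ⊔ Subgroup.zpowers z = ⊤ := by
  classical
  obtain ⟨x, hxM, hxΦ⟩ := SetLike.not_le_iff_exists.mp hM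
  have hzx : Subgroup.zpowers x ≤ M := (Subgroup.zpowers_le).mpr hxM
  obtain ⟨X, hX⟩ : ∃ X : Subgroup Q, X = Subgroup.zpowers x ⊔ frattini Q := ⟨_, rfl⟩
  have hΦX : frattini Q ≤ X := hX ▸ le_sup_right
  have hxX : x ∈ X := hX ▸ (le_sup_left : Subgroup.zpowers x ≤ _) (Subgroup.mem_zpowers x)
  by_cases hXtop : X = ⊤
  · refine ⟨1, ?_⟩
    have h1 : Subgroup.zpowers x = ⊤ := frattini_nongenerating (hX ▸ hXtop)
    apply top_unique
    rw [← h1]
    exact le_sup_of_le_left hzx
  · obtain ⟨z, hz⟩ : ∃ z : Q, z ∉ X := by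
      by_contra hcon
      push Not at hcon
      exact hXtop (top_unique fun y _ => hcon y)
    refine ⟨z, ?_⟩
    obtain ⟨Y, hY⟩ : ∃ Y : Subgroup Q, Y = Subgroup.zpowers z ⊔ X := ⟨_, rfl⟩
    have hXY : X ≤ Y := hY ▸ le_sup_right
    have hzY : z ∈ Y := hY ▸ (le_sup_left : Subgroup.zpowers z ≤ _) (Subgroup.mem_zpowers z)
    have h1 : (frattini Q).relIndex X * X.index = p ^ 2 := by
      rw [Subgroup.relIndex_mul_index hΦX, hgen]
    have h2 : X.relIndex Y * Y.index = X.index := Subgroup.relIndex_mul_index hXY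
    have hrel1 : (frattini Q).relIndex X ≠ 1 := by
      intro h
      rw [Subgroup.relIndex_eq_one] at h
      exact hxΦ (h hxX)
    have hrel2 : X.relIndex Y ≠ 1 := by
      intro h
      rw [Subgroup.relIndex_eq_one] at h
      exact hz (h hzY)
    have hXidx : X.index ≠ 1 := by
      rw [Ne, Subgroup.index_eq_one]
      exact hXtop
    have hYtop : Y = ⊤ := by
      rw [← Subgroup.index_eq_one]
      obtain ⟨k, hk, hk'⟩ := (Nat.dvd_prime_pow hp).mp (Dvd.intro_left _ h1)
      interval_cases k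
      · exact absurd (by simpa using hk') hXidx
      · rw [hk', pow_one] at h2
        have hc : X.relIndex Y ∣ p := Dvd.intro _ h2
        rcases (Nat.dvd_prime hp).mp hc with hc1 | hc1
        · exact absurd hc1 hrel2
        · rw [hc1] at h2
          exact Nat.eq_of_mul_eq_mul_left hp.pos (by rw [h2, mul_one])
      · rw [hk'] at h1
        have : (frattini Q).relIndex X = 1 := by
          have hpos : 0 < p ^ 2 := pow_pos hp.pos 2
          exact Nat.eq_of_mul_eq_mul_right hpos (by rw [h1, one_mul])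
        exact absurd this hrel1
    have h3 : (Subgroup.zpowers z ⊔ Subgroup.zpowers x) ⊔ frattini Q = ⊤ := by
      rw [sup_assoc, ← hX, ← hY]
      exact hYtop
    have h4 := frattini_nongenerating h3
    apply top_unique
    rw [← h4]
    exact sup_le le_sup_right (le_sup_of_le_left hzx)

/-- If `M` is normal and `M ⊔ ⟨z⟩ = ⊤` then the commutator subgroup lies in `M`. -/
theorem commutator_le_of_sup_zpowers {Q : Type*} [Group Q] (M : Subgroup Q) [hMn : M.Normal]
    (z : Q) (h : M ⊔ Subgroup.zpowers z = ⊤) : commutator Q ≤ M := by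
  have hcyc : ∀ q : Q ⧸ M, q ∈ Subgroup.zpowers (QuotientGroup.mk z : Q ⧸ M) := by
    intro q
    obtain ⟨y, rfl⟩ := QuotientGroup.mk_surjective q
    have hy : y ∈ M ⊔ Subgroup.zpowers z := by rw [h]; exact Subgroup.mem_top _
    have h1 : (QuotientGroup.mk' M) y ∈ (M ⊔ Subgroup.zpowers z).map (QuotientGroup.mk' M) :=
      ⟨y, hy, rfl⟩
    rw [Subgroup.map_sup, MonoidHom.map_zpowers, QuotientGroup.map_mk'_self, bot_sup_eq] at h1
    exact h1
  rw [commutator_def, Subgroup.commutator_le]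
  intro a _ b _
  obtain ⟨i, hi⟩ := Subgroup.mem_zpowers_iff.mp (hcyc (QuotientGroup.mk a))
  obtain ⟨j, hj⟩ := Subgroup.mem_zpowers_iff.mp (hcyc (QuotientGroup.mk b))
  rw [← QuotientGroup.eq_one_iff]
  have h1 : ((⁅a, b⁆ : Q) : Q ⧸ M) =
      (QuotientGroup.mk a : Q ⧸ M) * QuotientGroup.mk b * (QuotientGroup.mk a)⁻¹ *
        (QuotientGroup.mk b)⁻¹ := by
    rw [commutatorElement_def]
    rfl
  rw [h1, ← hi, ← hj]
  have hc : Commute ((QuotientGroup.mk z : Q ⧸ M) ^ i) ((QuotientGroup.mk z : Q ⧸ M) ^ j) :=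
    (Commute.refl _).zpow_zpow i j
  rw [hc.eq, mul_inv_cancel_right, mul_inv_cancel]

variable {G : Type*} [Group G] [Finite G]

/-- `G`-level version of `two_gen_sup`. -/
theorem two_gen_sub (p : ℕ) (hp : p.Prime) (P : Subgroup G)
    (hgen : (frattini ↥P).index = p ^ 2) (M : Subgroup G)
    (hM : ¬ (M ⊓ P ≤ (frattini ↥P).map P.subtype)) :
    ∃ z ∈ P, P ≤ (M ⊓ P) ⊔ Subgroup.zpowers z := by
  have hM' : ¬ (M.subgroupOf P ≤ frattini ↥P) := by
    intro h
    apply hM
    intro y hy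
    exact ⟨⟨y, hy.2⟩, h (Subgroup.mem_subgroupOf.mpr hy.1), rfl⟩
  obtain ⟨z, hz⟩ := two_gen_sup p hp hgen (M.subgroupOf P) hM'
  refine ⟨z, z.2, ?_⟩
  intro y hy
  have h1 : (⟨y, hy⟩ : ↥P) ∈ M.subgroupOf P ⊔ Subgroup.zpowers z := by
    rw [hz]; exact Subgroup.mem_top _
  have h2 : y ∈ (M.subgroupOf P ⊔ Subgroup.zpowers z).map P.subtype := ⟨⟨y, hy⟩, h1, rfl⟩
  rw [Subgroup.map_sup, Subgroup.subgroupOf_map_subtype, MonoidHom.map_zpowers] at h2
  exact h2

/-- Under the two-generator hypothesis, `⁅P, P⁆ ≤ M` for every `P`-invariant `M` with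
`M ⊓ P ≰ Φ(P)`. -/
theorem comm_le (p : ℕ) (hp : p.Prime) (P : Subgroup G)
    (hgen : (frattini ↥P).index = p ^ 2) (M : Subgroup G)
    (hPM : P ≤ Subgroup.normalizer (M : Set G))
    (hM : ¬ (M ⊓ P ≤ (frattini ↥P).map P.subtype)) :
    ⁅P, P⁆ ≤ M := by
  have hM' : ¬ (M.subgroupOf P ≤ frattini ↥P) := by
    intro h
    apply hM
    intro y hy
    exact ⟨⟨y, hy.2⟩, h (Subgroup.mem_subgroupOf.mpr hy.1), rfl⟩
  obtain ⟨z, hz⟩ := two_gen_sup p hp hgen (M.subgroupOf P) hM'
  haveI : (M.subgroupOf P).Normal := Subgroup.normal_subgroupOf_of_le_normalizer hPM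
  have h1 := commutator_le_of_sup_zpowers (M.subgroupOf P) z hz
  rw [Subgroup.commutator_le]
  intro a ha b hb
  have h2 : ⁅(⟨a, ha⟩ : ↥P), (⟨b, hb⟩ : ↥P)⁆ ∈ commutator ↥P := by
    rw [commutator_def]
    exact Subgroup.commutator_mem_commutator (Subgroup.mem_top _) (Subgroup.mem_top _)
  have h3 := h1 h2
  rw [Subgroup.mem_subgroupOf] at h3
  exact h3

end TwoGen

section Tate

variable {G : Type*} [Group G] [Finite G] {p : ℕ} [hp : Fact p.Prime]

/-- Elements of order prime to `p` lie in a normal `p`-complement. -/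
theorem mem_of_isComplement'_of_coprime {N : Type*} [Group N] [Finite N]
    (R : Sylow p N) (M : Subgroup N) [M.Normal] (hc : M.IsComplement' (R : Subgroup N))
    (x : N) (hx : (orderOf x).Coprime p) : x ∈ M := by
  have h1 : M.index = Nat.card (R : Subgroup N) := hc.symm.index_eq_card
  obtain ⟨k, hk⟩ := IsPGroup.iff_card.mp R.isPGroup'
  have h2 : Nat.card (N ⧸ M) = p ^ k := by rw [← Subgroup.index_eq_card, h1, hk]
  have h3 : (QuotientGroup.mk x : N ⧸ M) ^ (p ^ k) = 1 := by rw [← h2]; exact pow_card_eq_one'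
  have h4 : (QuotientGroup.mk x : N ⧸ M) ^ (orderOf x) = 1 := by
    rw [← QuotientGroup.mk_pow, pow_orderOf_eq_one]; rfl
  have h5 : orderOf (QuotientGroup.mk x : N ⧸ M) ∣ Nat.gcd (p ^ k) (orderOf x) :=
    Nat.dvd_gcd (orderOf_dvd_of_pow_eq_one h3) (orderOf_dvd_of_pow_eq_one h4)
  have h6 : Nat.gcd (p ^ k) (orderOf x) = 1 := Nat.Coprime.pow_left k hx.symm
  rw [h6, Nat.dvd_one, orderOf_eq_one_iff] at h5
  exact (QuotientGroup.eq_one_iff x).mp h5

/-- With `O_{p'}(G) = 1`, a normal subgroup with a normal `p`-complement is a `p`-group. -/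
theorem isPGroup_of_normalPComplement (hcore : Cfsg.pPrimeCore p G = ⊥)
    (N : Subgroup G) [hN : N.Normal] (h : Cfsg.HasNormalPComplement p ↥N) : IsPGroup p ↥N := by
  obtain ⟨R, M, hMn, hc⟩ := h
  haveI := hMn
  have hmem := fun x hx => mem_of_isComplement'_of_coprime R M hc x hx
  have hcardM : Nat.card M = (R : Subgroup ↥N).index := hc.index_eq_card.symm
  have hcopM : (Nat.card M).Coprime p := by
    rw [hcardM, Nat.coprime_comm, hp.out.coprime_iff_not_dvd]
    exact R.not_dvd_index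
  have hMg : (M.map N.subtype).Normal := by
    constructor
    rintro _ ⟨m, hm, rfl⟩ g
    have hgN : g * (m : G) * g⁻¹ ∈ N := hN.conj_mem _ m.2 g
    refine ⟨⟨_, hgN⟩, ?_, rfl⟩
    apply hmem
    have ho : orderOf (⟨g * (m : G) * g⁻¹, hgN⟩ : ↥N) = orderOf m := by
      rw [← Subgroup.orderOf_coe, ← Subgroup.orderOf_coe m]
      exact (MulAut.conj g).orderOf_eq (m : G)
    rw [ho]
    have h1 : orderOf m ∣ Nat.card M := by
      have := orderOf_dvd_natCard (⟨m, hm⟩ : ↥M)
      rwa [← Subgroup.orderOf_coe] at this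
    exact Nat.Coprime.coprime_dvd_left h1 hcopM
  have hle : M.map N.subtype ≤ Cfsg.pPrimeCore p G := by
    apply le_sSup
    refine ⟨hMg, ?_⟩
    rw [Subgroup.card_map_of_injective (Subgroup.subtype_injective N)]
    exact hcopM
  rw [hcore, le_bot_iff, Subgroup.map_eq_bot_iff_of_injective _ (Subgroup.subtype_injective N)]
    at hle
  have hR : (R : Subgroup ↥N) = ⊤ := by
    rw [← Subgroup.index_eq_one, ← hcardM, hle]
    simp
  intro x
  have hx : x ∈ (R : Subgroup ↥N) := hR ▸ Subgroup.mem_top x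
  obtain ⟨k, hk⟩ := R.isPGroup' ⟨x, hx⟩
  refine ⟨k, ?_⟩
  have := congrArg Subtype.val hk
  simpa using this

/-- A normal `p`-subgroup lies in every Sylow `p`-subgroup. -/
theorem le_sylow_of_normal_isPGroup (P : Sylow p G) (N : Subgroup G) [hN : N.Normal]
    (hNp : IsPGroup p ↥N) : N ≤ P := by
  obtain ⟨Q, hQ⟩ := hNp.exists_le_sylow
  obtain ⟨g, hg⟩ := MulAction.exists_smul_eq G Q P
  intro x hx
  have h1 : g⁻¹ * x * g ∈ N := by simpa using hN.conj_mem x hx g⁻¹
  have h2 : g * (g⁻¹ * x * g) * g⁻¹ ∈ (P : Subgroup G) := by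
    rw [← hg, Sylow.coe_subgroup_smul]
    exact ⟨_, hQ h1, rfl⟩
  have h3 : g * (g⁻¹ * x * g) * g⁻¹ = x := by group
  rwa [h3] at h2

/-- Claim 1: under `O_{p'}(G) = 1` and `core_G(Φ(P)) = 1`, no nontrivial normal subgroup meets `P`
inside `Φ(P)`. -/
theorem claim1 (P : Sylow p G) (hcore : Cfsg.pPrimeCore p G = ⊥)
    (hfrat : ((frattini ↥(P : Subgroup G)).map (P : Subgroup G).subtype).normalCore = ⊥)
    (N : Subgroup G) [hN : N.Normal] (hne : N ≠ ⊥) :
    ¬ (N ⊓ (P : Subgroup G) ≤ (frattini ↥(P : Subgroup G)).map (P : Subgroup G).subtype) := by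
  intro h
  have h1 := isPGroup_of_normalPComplement hcore N (Tate.tate P N h)
  have h2 : N ≤ P := le_sylow_of_normal_isPGroup P N h1
  have h3 : N ≤ (frattini ↥(P : Subgroup G)).map (P : Subgroup G).subtype :=
    (le_inf le_rfl h2).trans h
  have h4 : N ≤ ((frattini ↥(P : Subgroup G)).map (P : Subgroup G).subtype).normalCore :=
    (Subgroup.normal_le_normalCore).mpr h3
  rw [hfrat] at h4
  exact hne (le_bot_iff.mp h4)

/-- For `N` normal, `P ∩ N` is a Sylow `p`-subgroup of `N`. -/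
theorem exists_sylow_subgroupOf (P : Sylow p G) (N : Subgroup G) [hN : N.Normal] :
    ∃ R : Sylow p ↥N, (R : Subgroup ↥N) = (P : Subgroup G).subgroupOf N := by
  have hpg : IsPGroup p ↥((P : Subgroup G).subgroupOf N) := P.isPGroup'.comap_subtype
  obtain ⟨R, hR⟩ := hpg.exists_le_sylow
  refine ⟨R, ?_⟩
  have hQp : IsPGroup p ↥((R : Subgroup ↥N).map N.subtype) := R.isPGroup'.map _
  obtain ⟨Q', hQ'⟩ := hQp.exists_le_sylow
  obtain ⟨g, hg⟩ := MulAction.exists_smul_eq G Q' P
  have hle : ((R : Subgroup ↥N).map N.subtype).map (MulAut.conj g).toMonoidHom ≤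
      (P : Subgroup G) ⊓ N := by
    rintro _ ⟨y, hy, rfl⟩
    refine ⟨?_, ?_⟩
    · rw [← hg, Sylow.coe_subgroup_smul]
      exact ⟨y, hQ' hy, rfl⟩
    · obtain ⟨y', _, rfl⟩ := hy
      exact hN.conj_mem _ y'.2 g
  have hcard : Nat.card (R : Subgroup ↥N) ≤ Nat.card ↥((P : Subgroup G).subgroupOf N) := by
    have h1 := Subgroup.card_le_of_le hle
    rw [Subgroup.card_map_of_injective (MulAut.conj g).injective,
      Subgroup.card_map_of_injective (Subgroup.subtype_injective N)] at h1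
    have h2 : Nat.card ↥((P : Subgroup G).subgroupOf N) = Nat.card ↥((P : Subgroup G) ⊓ N) := by
      rw [← Subgroup.subgroupOf_map_subtype,
        Subgroup.card_map_of_injective (Subgroup.subtype_injective N)]
    rw [h2]
    exact h1
  exact (Subgroup.eq_of_le_of_card_ge hR hcard).symm

end Tate

end Cfsg.Agent.Lib.Helper1.Fsg
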