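import Mathlib
import Cfsg.Prelude.Def_PLocal
import Cfsg.Agent.Lib.Helper1.ZJ6
set_option autoImplicit false
open scoped Pointwise commutatorElement
universe u
namespace Cfsg.Agent.Lib.Helper1.ZJ

open Cfsg.Agent.Lib.Helper1.GlaubermanRepl

variable {G : Type u} [Group G]

theorem map_subtype_omegaOne (p : ℕ) (X : Subgroup G) (H : Subgroup ↥X) :
    (Cfsg.omegaOne p H).map X.subtype = Cfsg.omegaOne p (H.map X.subtype) := by
  unfold Cfsg.omegaOne
  rw [MonoidHom.map_closure]
  congr 1
  ext y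
  constructor
  · rintro ⟨x, ⟨hx, hxp⟩, rfl⟩
    refine ⟨Subgroup.mem_map_of_mem _ hx, ?_⟩
    have := congrArg X.subtype hxp
    simpa using this
  · rintro ⟨⟨x, hx, rfl⟩, hxp⟩
    refine ⟨x, ⟨hx, ?_⟩, rfl⟩
    apply Subtype.ext
    simpa using hxp

theorem map_subtype_inf_centralizer (X : Subgroup G) (J : Subgroup ↥X) :
    (J ⊓ Subgroup.centralizer (J : Set ↥X)).map X.subtype =
      J.map X.subtype ⊓ Subgroup.centralizer ((J.map X.subtype : Subgroup G) : Set G) := by
  ext y
  constructor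
  · rintro ⟨x, ⟨hx, hxc⟩, rfl⟩
    refine ⟨Subgroup.mem_map_of_mem _ hx, ?_⟩
    change X.subtype x ∈ Subgroup.centralizer ((J.map X.subtype : Subgroup G) : Set G)
    rw [Subgroup.mem_centralizer_iff]
    rintro _ ⟨h, hh, rfl⟩
    have := Subgroup.mem_centralizer_iff.mp hxc h hh
    have h2 := congrArg X.subtype this
    simpa using h2
  · rintro ⟨⟨x, hx, rfl⟩, hxc⟩
    refine ⟨x, ⟨hx, ?_⟩, rfl⟩
    change x ∈ Subgroup.centralizer (J : Set ↥X)
    rw [Subgroup.mem_centralizer_iff]
    intro h hh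
    apply Subtype.ext
    have := Subgroup.mem_centralizer_iff.mp hxc (X.subtype h) (Subgroup.mem_map_of_mem _ hh)
    simpa using this

theorem thompsonSubgroupOf_eq (p : ℕ) (X : Subgroup G) :
    (Cfsg.thompsonSubgroup p ↥X).map X.subtype = sSup (FPr (PrE (G := G) p) X) := by
  unfold Cfsg.thompsonSubgroup Cfsg.maxElementaryAbelianSubgroups
  apply map_sSup_max_eq X (fun A' => Cfsg.IsElementaryAbelian p A') (PrE p)
  intro A'
  constructor
  · rintro ⟨h, hexp⟩
    constructor
    · rintro _ ⟨x, hx, rfl⟩ _ ⟨y, hy, rfl⟩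
      have := mul_comm' (⟨x, hx⟩ : A') ⟨y, hy⟩
      have h2 := congrArg (fun t : A' => X.subtype (t : X)) this
      simpa using h2
    · rintro _ ⟨x, hx, rfl⟩
      have := congrArg X.subtype (hexp x hx)
      simpa using this
  · rintro ⟨h, hexp⟩
    constructor
    · refine ⟨⟨fun x y => ?_⟩⟩
      apply Subtype.ext
      apply Subtype.ext
      have := h _ (Subgroup.mem_map_of_mem X.subtype x.2) _ (Subgroup.mem_map_of_mem X.subtype y.2)
      simpa using this
    · intro a ha
      apply Subtype.ext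
      have := hexp _ (Subgroup.mem_map_of_mem X.subtype ha)
      simpa using this

theorem PrE_bot (p : ℕ) : PrE p (⊥ : Subgroup G) := by
  constructor
  · intro x hx y hy
    rw [Subgroup.mem_bot] at hx hy
    rw [hx, hy]
  · intro a ha
    rw [Subgroup.mem_bot] at ha
    rw [ha, one_pow]

/-- `Ω₁(Z(J_e(X)))` is the intersection of the family -/
theorem omegaOne_center_sSup_FE [Finite G] (p : ℕ) (X : Subgroup G) :
    Cfsg.omegaOne p (sSup (FPr (PrE (G := G) p) X) ⊓
      Subgroup.centralizer ((sSup (FPr (PrE (G := G) p) X) : Subgroup G) : Set G)) =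
    sInf (FPr (PrE (G := G) p) X) := by
  apply le_antisymm
  · unfold Cfsg.omegaOne
    rw [Subgroup.closure_le]
    rintro z ⟨hz, hzp⟩
    change z ∈ sInf (FPr (PrE (G := G) p) X)
    rw [Subgroup.mem_sInf]
    intro A hA
    have hcomm := closure_union_comm (fun A (h : PrE p A) => h.1) hA hz
    apply mem_of_center_sSup hA hz
    refine ⟨hcomm, ?_⟩
    intro a ha
    induction ha using Subgroup.closure_induction with
    | mem x hx =>
      rcases hx with hx | hx
      · exact hA.2.1.2 x hx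
      · rw [Set.mem_singleton_iff] at hx
        rw [hx]; exact hzp
    | one => exact one_pow p
    | mul x y hx hy ihx ihy =>
      have hc : Commute x y := hcomm x hx y hy
      rw [hc.mul_pow, ihx, ihy, one_mul]
    | inv x hx ihx => rw [inv_pow, ihx, inv_one]
  · intro x hx
    obtain ⟨A₀, hA₀⟩ := FPr_nonempty (PrE_bot p) X
    apply Subgroup.subset_closure
    exact ⟨sInf_le_center_sSup (fun A (h : PrE p A) => h.1) (PrE_bot p) X hx,
      hA₀.2.1.2 x (sInf_le hA₀ hx)⟩

theorem omegaCenterThompson_map_eq [Finite G] (p : ℕ) (X : Subgroup G) :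
    (Cfsg.omegaCenterThompson p ↥X).map X.subtype = sInf (FPr (PrE (G := G) p) X) := by
  unfold Cfsg.omegaCenterThompson
  rw [map_subtype_omegaOne, map_subtype_inf_centralizer, thompsonSubgroupOf_eq,
    omegaOne_center_sSup_FE]

/-- S0654 -/
theorem zj_theorem_E [Finite G] {p : ℕ} [hp : Fact p.Prime] (hp2 : p ≠ 2)
    (hc : Subgroup.centralizer (Cfsg.pCore p G : Set G) ≤ Cfsg.pCore p G)
    (hst : ∀ (P : Subgroup G) [P.Normal], IsPGroup p P → Cfsg.IsPStableOn p P) (S : Sylow p G) :
    ((Cfsg.omegaCenterThompson p ↥(S : Subgroup G)).map (S : Subgroup G).subtype).Characteristic := by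
  rw [omegaCenterThompson_map_eq]
  exact (zjFamily_E p (hp.out.odd_of_ne_two hp2)).sInf_characteristic hp2 hc hst S

end Cfsg.Agent.Lib.Helper1.ZJ
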