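import Mathlib
import Cfsg.Prelude.Def_PLocal
import Cfsg.Agent.Lib.Helper1.Coprime
import Cfsg.Agent.Lib.Helper1.PConstrainedQuotient
import Cfsg.Agent.Lib.Helper1.ZJ7
set_option autoImplicit false
open scoped Pointwise commutatorElement
universe u
namespace Cfsg.Agent.Lib.Helper1.ZJ

variable {G : Type u} [Group G]

/-- transport of `O_p` membership from `N_G(V)/C_G(V)` to `G/C_G(V)` for normal `V` -/
theorem mk_mem_pCore_of_normalizer {p : ℕ} {N C : Subgroup G} (hN : N = ⊤) [hCn : C.Normal]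
    [hCn' : (C.subgroupOf N).Normal] {a : G} (ha : a ∈ N)
    (h : (QuotientGroup.mk' (C.subgroupOf N)) ⟨a, ha⟩ ∈ Cfsg.pCore p (↥N ⧸ C.subgroupOf N)) :
    (QuotientGroup.mk' C) a ∈ Cfsg.pCore p (G ⧸ C) := by
  let e₀ : ↥N ≃* G := (MulEquiv.subgroupCongr hN).trans Subgroup.topEquiv
  have he₀ : ∀ x : ↥N, e₀ x = (x : G) := fun x => rfl
  have he : (C.subgroupOf N).map e₀.toMonoidHom = C := by
    ext y
    constructor
    · rintro ⟨x, hx, rfl⟩
      exact hx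
    · intro hy
      exact ⟨⟨y, hN ▸ Subgroup.mem_top y⟩, hy, rfl⟩
  let e := QuotientGroup.congr (C.subgroupOf N) C e₀ he
  have h1 := Cfsg.Agent.Lib.Helper3.pCore_map_equiv p e
  rw [← h1]
  refine ⟨_, h, ?_⟩
  rfl

/-- decomposition of an element into a `p'`-part and a `p`-part -/
theorem exists_p_decomposition [Finite G] {p : ℕ} [hp : Fact p.Prime] (a : G) :
    ∃ a1 ∈ Subgroup.zpowers a, ∃ a2 ∈ Subgroup.zpowers a, a = a1 * a2 ∧
      (∃ m : ℕ, ¬ p ∣ m ∧ a1 ^ m = 1) ∧ ∃ k : ℕ, a2 ^ (p ^ k) = 1 := by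
  obtain ⟨k, m, hm, hn⟩ := Nat.exists_eq_pow_mul_and_not_dvd (orderOf_pos a).ne' p hp.out.ne_one
  have hcop : Nat.Coprime (p ^ k) m :=
    Nat.Coprime.pow_left _ ((Nat.Prime.coprime_iff_not_dvd hp.out).mpr hm)
  have hb := Int.gcd_eq_gcd_ab ((p ^ k : ℕ) : ℤ) (m : ℤ)
  rw [Int.gcd_natCast_natCast, hcop.gcd_eq_one] at hb
  obtain ⟨x, hx⟩ : ∃ x : ℤ, x = Int.gcdA ((p ^ k : ℕ) : ℤ) (m : ℤ) := ⟨_, rfl⟩
  obtain ⟨y, hy⟩ : ∃ y : ℤ, y = Int.gcdB ((p ^ k : ℕ) : ℤ) (m : ℤ) := ⟨_, rfl⟩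
  rw [← hx, ← hy] at hb
  have hord : a ^ (p ^ k * m) = 1 := by rw [← hn]; exact pow_orderOf_eq_one a
  refine ⟨a ^ (((p ^ k : ℕ) : ℤ) * x), Subgroup.zpow_mem_zpowers a _,
    a ^ ((m : ℤ) * y), Subgroup.zpow_mem_zpowers a _, ?_, ⟨m, hm, ?_⟩, ⟨k, ?_⟩⟩
  · rw [← zpow_add, ← hb]; simp
  · rw [← zpow_natCast, ← zpow_mul]
    have e : ((p ^ k : ℕ) : ℤ) * x * (m : ℤ) = ((p ^ k * m : ℕ) : ℤ) * x := by push_cast; ring
    rw [e, zpow_mul, zpow_natCast, hord, one_zpow]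
  · rw [← zpow_natCast, ← zpow_mul]
    have e : (m : ℤ) * y * ((p ^ k : ℕ) : ℤ) = ((p ^ k * m : ℕ) : ℤ) * y := by push_cast; ring
    rw [e, zpow_mul, zpow_natCast, hord, one_zpow]

theorem isPStableOn_of_isPStable [Finite G] {p : ℕ} [hp : Fact p.Prime]
    (hO : Cfsg.pPrimeCore p G = ⊥) (hs : Cfsg.IsPStable p G) (V : Subgroup G) [hVn : V.Normal]
    (hV : IsPGroup p V) : Cfsg.IsPStableOn p V := by
  intro a hquad
  obtain ⟨a1, ha1, a2, ha2, hmul, ⟨m, hm, ha1m⟩, ⟨k, ha2k⟩⟩ := exists_p_decomposition (p := p) a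
  have hz1 : Subgroup.zpowers a1 ≤ Subgroup.zpowers a := by
    rw [Subgroup.zpowers_le]; exact ha1
  have hz2 : Subgroup.zpowers a2 ≤ Subgroup.zpowers a := by
    rw [Subgroup.zpowers_le]; exact ha2
  have hVtop : Subgroup.normalizer (V : Set G) = ⊤ := Subgroup.normalizer_eq_top_iff.mpr hVn
  -- the p'-part centralizes V
  have hq1 : ⁅⁅V, Subgroup.zpowers a1⁆, Subgroup.zpowers a1⁆ = ⊥ := by
    rw [eq_bot_iff, ← hquad]
    exact Subgroup.commutator_mono (Subgroup.commutator_mono le_rfl hz1) hz1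
  have hcop : (Nat.card (Subgroup.zpowers a1)).Coprime (Nat.card V) := by
    obtain ⟨j, hj⟩ := hV.exists_card_eq
    rw [hj, Nat.card_zpowers]
    apply Nat.Coprime.pow_right
    apply Nat.Coprime.coprime_dvd_left (orderOf_dvd_of_pow_eq_one ha1m)
    exact ((Nat.Prime.coprime_iff_not_dvd hp.out).mpr hm).symm
  have hcc := coprime_commutator_commutator (Subgroup.zpowers a1) V
    (by rw [hVtop]; exact le_top) hcop (Or.inl inferInstance)
  rw [hq1] at hcc
  have ha1C : a1 ∈ Subgroup.centralizer (V : Set G) := by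
    rw [Subgroup.mem_centralizer_iff]
    intro v hv
    have h1 : ⁅v, a1⁆ ∈ ⁅V, Subgroup.zpowers a1⁆ :=
      Subgroup.commutator_mem_commutator hv (Subgroup.mem_zpowers a1)
    rw [← hcc, Subgroup.mem_bot, commutatorElement_eq_one_iff_commute] at h1
    exact h1
  -- the p-part
  have hq2 : ⁅⁅V, Subgroup.zpowers a2⁆, Subgroup.zpowers a2⁆ = ⊥ := by
    rw [eq_bot_iff, ← hquad]
    exact Subgroup.commutator_mono (Subgroup.commutator_mono le_rfl hz2) hz2
  have hA2 : IsPGroup p (Subgroup.zpowers a2) := by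
    obtain ⟨j, -, hj⟩ := (Nat.dvd_prime_pow hp.out).mp (orderOf_dvd_of_pow_eq_one ha2k)
    apply IsPGroup.of_card (n := j)
    rw [Nat.card_zpowers, hj]
  have hVle : V ≤ Cfsg.pPrimePCore p G := by
    rw [pPrimePCore_eq_pCore_of_pPrimeCore_eq_bot p hO]
    exact le_pCore hVn hV
  have hsupn : (Cfsg.pPrimeCore p G ⊔ V).Normal := by
    rw [hO, bot_sup_eq]; exact hVn
  have h3 := hs.2.2 (Subgroup.zpowers a2) V hA2 hV (fun a _ x hx => hVn.conj_mem x hx a) hVle hsupn hq2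
  have ha2N : a2 ∈ Subgroup.normalizer (V : Set G) := by rw [hVtop]; trivial
  have h4 : (QuotientGroup.mk' ((Subgroup.centralizer (V : Set G)).subgroupOf
      (Subgroup.normalizer (V : Set G)))) ⟨a2, ha2N⟩ ∈ Cfsg.pCore p _ := by
    apply h3
    refine ⟨⟨a2, ha2N⟩, ?_, rfl⟩
    change (⟨a2, ha2N⟩ : Subgroup.normalizer (V : Set G)) ∈
      (Subgroup.zpowers a2).subgroupOf (Subgroup.normalizer (V : Set G))
    rw [Subgroup.mem_subgroupOf]
    exact Subgroup.mem_zpowers a2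
  have h5 := mk_mem_pCore_of_normalizer hVtop ha2N h4
  have h6 : (QuotientGroup.mk' (Subgroup.centralizer (V : Set G))) a1 = 1 :=
    (QuotientGroup.eq_one_iff a1).mpr ha1C
  have h7 : (QuotientGroup.mk a : G ⧸ Subgroup.centralizer (V : Set G)) =
      (QuotientGroup.mk' (Subgroup.centralizer (V : Set G))) a2 := by
    rw [hmul]
    change (QuotientGroup.mk' (Subgroup.centralizer (V : Set G))) (a1 * a2) = _
    rw [map_mul, h6, one_mul]
  rw [h7]
  exact h5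

/-- ZJ theorem in the `p`-constrained, `p`-stable vocabulary -/
theorem zj_of_constrained_stable [Finite G] {p : ℕ} [hp : Fact p.Prime]
    (hO : Cfsg.pPrimeCore p G = ⊥) (hc : Cfsg.IsPConstrained p G) (hs : Cfsg.IsPStable p G)
    (S : Sylow p G) : (Cfsg.centerThompsonAOf (S : Subgroup G)).Characteristic := by
  have hp2 : p ≠ 2 := by
    intro h
    have := hs.1
    rw [h] at this
    exact absurd this (by decide)
  apply zj_theorem_A hp2 ((isPConstrained_iff_of_pPrimeCore_eq_bot hO).mp hc)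
  intro V hVn hV
  exact isPStableOn_of_isPStable hO hs V hV

end Cfsg.Agent.Lib.Helper1.ZJ
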