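import Mathlib
import Cfsg.Prelude.Def_PLocal
import Cfsg.Agent.Lib.Helper1.SubnormalSylow
import Cfsg.Agent.Lib.Helper1.PStableQuotient3
import Cfsg.Agent.Lib.Helper1.ZJ8
set_option autoImplicit false
open scoped Pointwise commutatorElement
universe u v
namespace Cfsg.Agent.Lib.Helper1.ZJ

variable {G : Type u} [Group G] {G' : Type v} [Group G']

theorem card_map_of_injOn (f : G →* G') (B : Subgroup G) (h : Set.InjOn f B) :
    Nat.card (B.map f) = Nat.card B := by
  have h1 : ((B.map f : Subgroup G') : Set G') = f '' (B : Set G) := Subgroup.coe_map f B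
  have h2 := Nat.card_image_of_injOn h
  calc Nat.card (B.map f) = Nat.card ((B.map f : Subgroup G') : Set G') := rfl
    _ = Nat.card (f '' (B : Set G)) := by rw [h1]
    _ = Nat.card (B : Set G) := h2
    _ = Nat.card B := rfl

theorem map_comap_inf_eq (f : G →* G') (X : Subgroup G) {B' : Subgroup G'} (h : B' ≤ X.map f) :
    (B'.comap f ⊓ X).map f = B' := by
  apply le_antisymm
  · rintro _ ⟨x, ⟨hx, -⟩, rfl⟩
    exact hx
  · intro y hy
    obtain ⟨x, hx, rfl⟩ := h hy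
    exact ⟨x, ⟨hy, hx⟩, rfl⟩

theorem PrA_comap_inf (f : G →* G') (X : Subgroup G) (hinj : Set.InjOn f X) {B' : Subgroup G'}
    (h : PrA B') : PrA (B'.comap f ⊓ X) := by
  intro x hx y hy
  apply hinj (X.mul_mem hx.2 hy.2) (X.mul_mem hy.2 hx.2)
  rw [map_mul, map_mul]
  exact h _ hx.1 _ hy.1

theorem PrA_map (f : G →* G') {B : Subgroup G} (h : PrA B) : PrA (B.map f) := by
  rintro _ ⟨x, hx, rfl⟩ _ ⟨y, hy, rfl⟩
  rw [← map_mul, ← map_mul, h x hx y hy]

theorem FPr_map_of_injOn (f : G →* G') (X : Subgroup G) (hinj : Set.InjOn f X) :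
    FPr (PrA (G := G')) (X.map f) = (fun A => A.map f) '' (FPr (PrA (G := G)) X) := by
  ext A'
  constructor
  · rintro ⟨hle, hcomm, hmax⟩
    refine ⟨A'.comap f ⊓ X, ⟨inf_le_right, PrA_comap_inf f X hinj hcomm, ?_⟩,
      map_comap_inf_eq f X hle⟩
    intro B hB hPrB
    have h1 := hmax (B.map f) (Subgroup.map_mono hB) (PrA_map f hPrB)
    rw [card_map_of_injOn f B (hinj.mono hB)] at h1
    have h2 := card_map_of_injOn f (A'.comap f ⊓ X) (hinj.mono inf_le_right)
    rw [map_comap_inf_eq f X hle] at h2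
    rw [← h2]; exact h1
  · rintro ⟨A, ⟨hle, hcomm, hmax⟩, rfl⟩
    refine ⟨Subgroup.map_mono hle, PrA_map f hcomm, ?_⟩
    intro B' hB' hPrB'
    have h1 := hmax (B'.comap f ⊓ X) inf_le_right (PrA_comap_inf f X hinj hPrB')
    have h2 := card_map_of_injOn f (B'.comap f ⊓ X) (hinj.mono inf_le_right)
    rw [map_comap_inf_eq f X hB'] at h2
    rw [h2, card_map_of_injOn f A (hinj.mono hle)]
    exact h1

theorem sInf_image_map_of_injOn (f : G →* G') (X : Subgroup G) (hinj : Set.InjOn f X)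
    (𝒜 : Set (Subgroup G)) (hne : 𝒜.Nonempty) (hle : ∀ A ∈ 𝒜, A ≤ X) :
    sInf ((fun A => A.map f) '' 𝒜) = (sInf 𝒜).map f := by
  apply le_antisymm
  · intro y hy
    rw [Subgroup.mem_sInf] at hy
    obtain ⟨A₀, hA₀⟩ := hne
    obtain ⟨x₀, hx₀, rfl⟩ := hy _ ⟨A₀, hA₀, rfl⟩
    refine ⟨x₀, ?_, rfl⟩
    change x₀ ∈ sInf 𝒜
    rw [Subgroup.mem_sInf]
    intro A hA
    obtain ⟨x, hx, hxe⟩ := hy _ ⟨A, hA, rfl⟩
    have := hinj (hle A hA hx) (hle A₀ hA₀ hx₀) hxe
    rw [← this]; exact hx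
  · apply le_sInf
    rintro _ ⟨A, hA, rfl⟩
    exact Subgroup.map_mono (sInf_le hA)

theorem centerThompsonAOf_map_of_injOn [Finite G] [Finite G'] (f : G →* G') (X : Subgroup G)
    (hinj : Set.InjOn f X) :
    Cfsg.centerThompsonAOf (X.map f) = (Cfsg.centerThompsonAOf X).map f := by
  have hbot : PrA (⊥ : Subgroup G) := by
    intro x hx y hy
    rw [Subgroup.mem_bot] at hx hy
    rw [hx, hy]
  rw [centerThompsonAOf_eq, centerThompsonAOf_eq, FPr_map_of_injOn f X hinj,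
    sInf_image_map_of_injOn f X hinj _ (FPr_nonempty hbot X) (fun A hA => hA.1)]

end Cfsg.Agent.Lib.Helper1.ZJ
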