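import Mathlib
import Cfsg.Agent.Lib.Helper1.AODefs
import Cfsg.Agent.Lib.Helper1.AOF0
import Cfsg.Agent.Lib.Helper1.FittingCentralizer
import Cfsg.Agent.Lib.Helper5.ZJIStep4
import Cfsg.Agent.S0144

set_option autoImplicit false
set_option linter.unusedVariables false
set_option linter.unusedSectionVars false
set_option linter.style.longLine false

/-!
# S3406 (odd case) piece F1: `C_G(z) ≤ N_G(Z(J(P)))` for `z ∈ Z(P)#` (type F)
-/

open Cfsg.Agent.Lib.Helper1.AO

universe u

namespace Cfsg.Agent.Lib.Helper1.AO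

variable {G : Type u} [Group G] [Finite G] {p q r : ℕ}

/-- a number all of whose prime factors are `p` or `q` is `p^a * q^b`. -/
theorem eq_pow_mul_pow {p q n : ℕ} (hp : p.Prime) (hq : q.Prime) (hn : n ≠ 0)
    (h : ∀ l : ℕ, l.Prime → l ∣ n → l = p ∨ l = q) : ∃ a b : ℕ, n = p ^ a * q ^ b := by
  obtain ⟨a, m, hpm, rfl⟩ := Nat.exists_eq_pow_mul_and_not_dvd hn p hp.ne_one
  have hm : m ≠ 0 := by rintro rfl; simp at hn
  obtain ⟨b, m', hqm, rfl⟩ := Nat.exists_eq_pow_mul_and_not_dvd hm q hq.ne_one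
  have hm1 : m' = 1 := by
    by_contra hne
    obtain ⟨l, hl, hlm⟩ := Nat.exists_prime_and_dvd hne
    rcases h l hl (dvd_mul_of_dvd_right (dvd_mul_of_dvd_right hlm _) _) with rfl | rfl
    · exact hpm (dvd_mul_of_dvd_right hlm _)
    · exact hqm hlm
  exact ⟨a, b, by rw [hm1, mul_one]⟩

/-- the order of an element commuting with an element of order `p` divides `p * q`. -/
theorem odd_comm_p (H : OddPQ G p q r) (x : G) (hx : orderOf x = p) (c : G)
    (hc : c * x = x * c) : orderOf c ∣ p * q := by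
  rcases H.spec c with h | h | h | h | h
  · rw [h]; exact one_dvd _
  · rw [h]; exact dvd_mul_right _ _
  · rw [h]; exact dvd_mul_left _ _
  · exfalso
    have hcop : Nat.Coprime (orderOf c) (orderOf x) := by
      rw [h, hx]; exact (Nat.coprime_primes H.hr H.hp).mpr (Ne.symm H.hpr)
    have hcomm : Commute c x := hc
    have ho := hcomm.orderOf_mul_eq_mul_orderOf_of_coprime hcop
    rw [h, hx] at ho
    have hr1 := H.hr.one_lt
    have hp1 := H.hp.one_lt
    rcases H.spec (c * x) with h' | h' | h' | h' | h' <;> rw [ho] at h'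
    · have : r ∣ 1 := ⟨p, h'.symm⟩
      exact H.hr.one_lt.ne' (Nat.dvd_one.mp this)
    · have : r * p = 1 * p := by rw [one_mul]; exact h'
      have := Nat.eq_of_mul_eq_mul_right H.hp.pos this
      omega
    · have hdiv : r ∣ q := ⟨p, h'.symm⟩
      exact H.hqr ((Nat.prime_dvd_prime_iff_eq H.hr H.hq).mp hdiv).symm
    · have : r * p = r * 1 := by rw [mul_one]; exact h'
      have := Nat.eq_of_mul_eq_mul_left H.hr.pos this
      omega
    · have : r * p = q * p := by rw [h', mul_comm]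
      have := Nat.eq_of_mul_eq_mul_right H.hp.pos this
      exact H.hqr this.symm
  · rw [h]

theorem p_ne_two (H : OddPQ G p q r) (x : G) (hx : orderOf x = p) : p ≠ 2 := by
  intro h
  have : 2 ∣ Nat.card G := by
    have := orderOf_dvd_natCard x
    rwa [hx, h] at this
  exact (Nat.not_even_iff_odd.mpr H.odd) (even_iff_two_dvd.mpr this)

/-- elements of a Sylow `p`-subgroup have order `1` or `p`. -/
theorem odd_exp_p (H : OddPQ G p q r) [Fact p.Prime] (P : Sylow p G) :
    ∀ x ∈ (P : Subgroup G), x ^ p = 1 := by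
  intro x hx
  obtain ⟨k, hk⟩ := P.isPGroup' ⟨x, hx⟩
  have hk' : x ^ p ^ k = 1 := by
    have := congrArg Subtype.val hk
    simpa using this
  obtain ⟨j, hj, hjo⟩ := (Nat.dvd_prime_pow H.hp).mp (orderOf_dvd_of_pow_eq_one hk')
  have hp1 := H.hp.one_lt
  rcases H.spec x with h | h | h | h | h
  · rw [orderOf_eq_one_iff] at h; rw [h, one_pow]
  · rw [← h]; exact pow_orderOf_eq_one x
  · exfalso
    rw [hjo] at h
    have : q ∣ p ^ j := by rw [h]
    have := (Nat.prime_dvd_prime_iff_eq H.hq H.hp).mp (H.hq.dvd_of_dvd_pow this)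
    exact H.hpq this.symm
  · exfalso
    rw [hjo] at h
    have : r ∣ p ^ j := by rw [h]
    have := (Nat.prime_dvd_prime_iff_eq H.hr H.hp).mp (H.hr.dvd_of_dvd_pow this)
    exact H.hpr this.symm
  · exfalso
    rw [hjo] at h
    have : q ∣ p ^ j := by rw [h]; exact dvd_mul_left _ _
    have := (Nat.prime_dvd_prime_iff_eq H.hq H.hp).mp (H.hq.dvd_of_dvd_pow this)
    exact H.hpq this.symm

/-- F1 -/
theorem odd_F1 (H : OddPQ G p q r) [Fact p.Prime] (P : Sylow p G)
    (h2 : ∀ x : G, orderOf x = p → Case2 q x)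
    (z : G) (hz : z ∈ (P : Subgroup G)) (hz1 : z ≠ 1) (hzc : ∀ u ∈ (P : Subgroup G), u * z = z * u) :
    Subgroup.centralizer ({z} : Set G) ≤
      Subgroup.normalizer (Cfsg.centerThompsonAOf (P : Subgroup G) : Set G) := by
  have hzo : orderOf z = p := orderOf_eq_prime (odd_exp_p H P z hz) hz1
  have hp2 : p ≠ 2 := p_ne_two H z hzo
  obtain ⟨D, hDdef⟩ : ∃ D : Subgroup G, D = Subgroup.centralizer ({z} : Set G) := ⟨_, rfl⟩
  rw [← hDdef]
  have hmemD : ∀ c : G, c ∈ D ↔ c * z = z * c := by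
    intro c
    rw [hDdef, Subgroup.mem_centralizer_iff]
    constructor
    · intro h; exact (h z (Set.mem_singleton z)).symm
    · intro h y hy
      rw [Set.mem_singleton_iff] at hy
      rw [hy]; exact h.symm
  have hPD : (P : Subgroup G) ≤ D := fun u hu => (hmemD u).mpr (hzc u hu)
  -- the order of `D`
  have hDcard : ∃ a b : ℕ, Nat.card D = p ^ a * q ^ b := by
    apply eq_pow_mul_pow H.hp H.hq Nat.card_pos.ne'
    intro l hl hld
    haveI : Fact l.Prime := ⟨hl⟩
    obtain ⟨c, hc⟩ := exists_prime_orderOf_dvd_card' l hld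
    have hc' : orderOf (c : G) = l := by rw [Subgroup.orderOf_coe]; exact hc
    have hdvd := odd_comm_p H z hzo (c : G) ((hmemD _).mp c.2)
    rw [hc'] at hdvd
    rcases (Nat.Prime.dvd_mul hl).mp hdvd with h | h
    · exact Or.inl ((Nat.prime_dvd_prime_iff_eq hl H.hp).mp h)
    · exact Or.inr ((Nat.prime_dvd_prime_iff_eq hl H.hq).mp h)
  obtain ⟨a, b, hab⟩ := hDcard
  haveI hsol : Group.IsSolvable D := Cfsg.Agent.S0144.result p q a b H.hp H.hq hab
  -- `O_{p'}(D) = 1`
  have hbot : Cfsg.pPrimeCore p D = ⊥ := by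
    unfold Cfsg.pPrimeCore
    rw [sSup_eq_bot]
    rintro N ⟨hNn, hNc⟩
    -- `N` is a `q`-group
    have hNq : IsPGroup q N := by
      have hdvd : Nat.card N ∣ p ^ a * q ^ b := by
        rw [← hab]; exact Subgroup.card_subgroup_dvd_card N
      have hdvd' : Nat.card N ∣ q ^ b :=
        (Nat.Coprime.dvd_mul_left (Nat.Coprime.pow_right a hNc)).mp hdvd
      obtain ⟨j, hj, hjc⟩ := (Nat.dvd_prime_pow H.hq).mp hdvd'
      haveI : Fact q.Prime := ⟨H.hq⟩
      exact IsPGroup.of_card hjc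
    -- its image in `G`
    have hC2 := h2 z hzo
    have himg : N.map D.subtype = ⊥ := by
      apply hC2 (N.map D.subtype)
      · exact hNq.map D.subtype
      · rw [← hDdef]
        exact Subgroup.map_subtype_le N
      · intro c hc x hx
        rw [← hDdef] at hc
        obtain ⟨y, hy, rfl⟩ := hx
        refine ⟨⟨c, hc⟩ * y * ⟨c, hc⟩⁻¹, hNn.conj_mem y hy ⟨c, hc⟩, ?_⟩
        simp
    rw [Subgroup.map_eq_bot_iff_of_injective N D.subtype_injective] at himg
    exact himg
  have hcent := Cfsg.Agent.Lib.Helper1.centralizer_pCore_le (G := D) p hbot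
  -- stability
  have hoddD : Odd (Nat.card D) := by
    have hdvd : Nat.card D ∣ Nat.card G := Subgroup.card_subgroup_dvd_card D
    exact H.odd.of_dvd_nat hdvd
  have hfree := sl2Free_of_odd hp2 D hoddD
  have hchar := Cfsg.Agent.Lib.Helper1.ZJ.zj_theorem_A (G := D) hp2 hcent
    (fun Q hQn hQ => Cfsg.Agent.Lib.Helper1.FreeStable.isPStableOn_of_free_of_isPGroup hp2 Q hQ hfree)
    (P.subtype hPD)
  rw [Sylow.coe_subtype] at hchar
  haveI hnorm : (Cfsg.centerThompsonAOf ((P : Subgroup G).subgroupOf D)).Normal :=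
    Subgroup.normal_of_characteristic _
  rw [Cfsg.Agent.Lib.Helper5.ZJI.centerThompsonAOf_subgroupOf D (P : Subgroup G) hPD]
  intro c hc
  apply Cfsg.Agent.Lib.Helper5.ZJI.coe_mem_normalizer_map D _ ⟨c, hc⟩
  rw [Subgroup.normalizer_eq_top_iff.mpr hnorm]
  exact Subgroup.mem_top _

end Cfsg.Agent.Lib.Helper1.AO
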