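import Mathlib
import Cfsg.Prelude.Def_LocalEven
import Cfsg.Agent.Lib.Helper1.FreeStable1
import Cfsg.Agent.Lib.Helper1.NPStable1
set_option autoImplicit false
open scoped commutatorElement Pointwise IsMulCommutative
open Cfsg
universe u v w
namespace Cfsg.Agent.Lib.Helper1.FreeStable

open Cfsg.Agent.Lib.Helper1.QuadSL2 Cfsg.Agent.Lib.Helper1.StableQuad Cfsg.Agent.Lib.Helper1.NPC
  Cfsg.Agent.Lib.Helper1.NPStable Cfsg.Agent.Lib.Helper2.Inv

variable {G : Type u} [Group G]

theorem isNormalizerPStable_of_free [Finite G] {p : ℕ} [hp : Fact p.Prime] (hp2 : p ≠ 2)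
    (hfree : SL2Free p G) : IsNormalizerPStable p G := by
  intro P hP g hg hquad
  have hPN : P ≤ Subgroup.normalizer (P : Set G) := Subgroup.le_normalizer
  haveI hP'n : (P.subgroupOf (Subgroup.normalizer (P : Set G))).Normal :=
    Subgroup.normal_in_normalizer
  have hP' : IsPGroup p (P.subgroupOf (Subgroup.normalizer (P : Set G))) := hP.comap_subtype
  have hst := isPStableOn_of_free_of_isPGroup hp2
    (P.subgroupOf (Subgroup.normalizer (P : Set G))) hP'
    (hfree.subgroup _)
  have hq : ⁅⁅P.subgroupOf (Subgroup.normalizer (P : Set G)),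
      Subgroup.zpowers (⟨g, hg⟩ : ↥(Subgroup.normalizer (P : Set G)))⁆,
      Subgroup.zpowers (⟨g, hg⟩ : ↥(Subgroup.normalizer (P : Set G)))⁆ = ⊥ := by
    rw [quadE_iff]
    apply quadE_of_map (Subgroup.normalizer (P : Set G)).subtype (Subgroup.subtype_injective _)
    rw [Subgroup.subgroupOf_map_subtype, inf_eq_left.mpr hPN]
    exact (quadE_iff P g).mp hquad
  have h1 := hst ⟨g, hg⟩ hq
  have hC : Subgroup.centralizer
      ((P.subgroupOf (Subgroup.normalizer (P : Set G)) :
        Subgroup ↥(Subgroup.normalizer (P : Set G))) : Set ↥(Subgroup.normalizer (P : Set G))) =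
      (Subgroup.centralizer (P : Set G)).subgroupOf (Subgroup.normalizer (P : Set G)) := by
    ext x
    rw [Subgroup.mem_subgroupOf, Subgroup.mem_centralizer_iff, Subgroup.mem_centralizer_iff]
    constructor
    · intro h y hy
      have := h ⟨y, hPN hy⟩ (by
        show (⟨y, hPN hy⟩ : ↥(Subgroup.normalizer (P : Set G))) ∈
          P.subgroupOf (Subgroup.normalizer (P : Set G))
        rw [Subgroup.mem_subgroupOf]; exact hy)
      exact congrArg Subtype.val this
    · intro h y hy
      have hy' : (y : G) ∈ P := by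
        have : y ∈ P.subgroupOf (Subgroup.normalizer (P : Set G)) := hy
        rwa [Subgroup.mem_subgroupOf] at this
      exact Subtype.ext (h y hy')
  exact mem_pCore_quot_congr p _ _ hC _ h1


/-- every section of an `SL₂(p)`-free group is `p`-stable in the normalizer form -/
theorem isNormalizerPStable_section_of_free [Finite G] {p : ℕ} [hp : Fact p.Prime] (hp2 : p ≠ 2)
    (hfree : SL2Free p G) (K R : Subgroup G) [hR : (R.subgroupOf K).Normal] :
    IsNormalizerPStable p (↥K ⧸ R.subgroupOf K) :=
  isNormalizerPStable_of_free hp2 ((hfree.subgroup K).quotient _)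

end Cfsg.Agent.Lib.Helper1.FreeStable
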