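import Mathlib
set_option autoImplicit false
namespace Cfsg.Agent.Lib.Helper1

/-- `(1 + d)^j ≡ 1 + j d (mod d^2)`. -/
theorem sq_dvd_one_add_pow_sub (d : ℤ) (j : ℕ) : d ^ 2 ∣ (1 + d) ^ j - 1 - j * d := by
  induction j with
  | zero => simp
  | succ j ih =>
    have e : (1 + d) ^ (j + 1) - 1 - ((j + 1 : ℕ) : ℤ) * d
        = (1 + d) * ((1 + d) ^ j - 1 - j * d) + j * d ^ 2 := by
      push_cast; ring
    rw [e]
    exact dvd_add (dvd_mul_of_dvd_right ih _) (dvd_mul_left _ _)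

/-- geometric sum: `Σ_{j<p} (1+d)^j ≡ p (mod q)` when `q ∣ d^2`, `q ∣ d * p`, `p` odd. -/
theorem geom_sum_sub_dvd (p : ℕ) (hodd : Odd p) (q d : ℤ) (h1 : q ∣ d ^ 2) (h2 : q ∣ d * p) :
    q ∣ (∑ j ∈ Finset.range p, (1 + d) ^ j) - p := by
  obtain ⟨c, hc⟩ := hodd
  have hsum : (∑ j ∈ Finset.range p, (j : ℤ)) = p * c := by
    have h := Finset.sum_range_id_mul_two p
    have h' : ((∑ j ∈ Finset.range p, j : ℕ) : ℤ) * 2 = (p : ℤ) * ((p - 1 : ℕ) : ℤ) := by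
      exact_mod_cast h
    rw [Nat.cast_sum] at h'
    have hp1 : ((p - 1 : ℕ) : ℤ) = 2 * c := by
      rw [hc]; push_cast; simp
    rw [hp1] at h'
    linarith
  have e : (∑ j ∈ Finset.range p, (1 + d) ^ j) - p
      = (∑ j ∈ Finset.range p, ((1 + d) ^ j - 1 - j * d)) + d * p * c := by
    rw [Finset.sum_sub_distrib, Finset.sum_sub_distrib, ← Finset.sum_mul, hsum]
    simp
    ring
  rw [e]
  apply dvd_add
  · apply Finset.dvd_sum
    intro j _
    exact h1.trans (sq_dvd_one_add_pow_sub d j)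
  · exact dvd_mul_of_dvd_left h2 _

end Cfsg.Agent.Lib.Helper1
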