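import Mathlib
set_option autoImplicit false
universe u v
namespace Cfsg.Agent.Lib.Helper1
variable {G : Type u} [Group G]

theorem zpow_eq_zpow_iff_dvd (a : G) (x y : ℤ) : a ^ x = a ^ y ↔ (orderOf a : ℤ) ∣ x - y := by
  rw [← mul_inv_eq_one, ← zpow_sub, ← orderOf_dvd_iff_zpow_eq_one]

theorem conj_zpow_of_conj {a b : G} {k : ℤ} (h : b * a * b⁻¹ = a ^ k) (i : ℤ) :
    b * a ^ i * b⁻¹ = a ^ (k * i) := by
  rw [← conj_zpow, h, ← zpow_mul]

theorem pow_conj_of_conj {a b : G} {k : ℤ} (h : b * a * b⁻¹ = a ^ k) (t : ℕ) (i : ℤ) :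
    b ^ t * a ^ i * (b ^ t)⁻¹ = a ^ (k ^ t * i) := by
  induction t generalizing i with
  | zero => simp
  | succ t ih =>
    have : b ^ (t + 1) * a ^ i * (b ^ (t + 1))⁻¹ = b ^ t * (b * a ^ i * b⁻¹) * (b ^ t)⁻¹ := by
      rw [pow_succ]; group
    rw [this, conj_zpow_of_conj h, ih]
    congr 1; ring

theorem mul_pow_of_conj {a b : G} {k : ℤ} (h : b * a * b⁻¹ = a ^ k) (i : ℤ) (t : ℕ) :
    (a ^ i * b) ^ t = a ^ (i * ∑ j ∈ Finset.range t, k ^ j) * b ^ t := by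
  induction t with
  | zero => simp
  | succ t ih =>
    rw [pow_succ, ih, Finset.sum_range_succ, mul_add, zpow_add]
    have h1 := pow_conj_of_conj h t i
    calc a ^ (i * ∑ j ∈ Finset.range t, k ^ j) * b ^ t * (a ^ i * b)
        = a ^ (i * ∑ j ∈ Finset.range t, k ^ j) * (b ^ t * a ^ i * (b ^ t)⁻¹) * (b ^ t * b) := by
          group
      _ = a ^ (i * ∑ j ∈ Finset.range t, k ^ j) * a ^ (i * k ^ t) * b ^ (t + 1) := by
          rw [h1, pow_succ, mul_comm (k ^ t) i]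

/-- the conjugation exponent of a power of `b`. -/
theorem conj_mul_left_of_conj {a b : G} {k : ℤ} (h : b * a * b⁻¹ = a ^ k) (i : ℤ) :
    (a ^ i * b) * a * (a ^ i * b)⁻¹ = a ^ k := by
  have : (a ^ i * b) * a * (a ^ i * b)⁻¹ = a ^ i * (b * a * b⁻¹) * (a ^ i)⁻¹ := by group
  rw [this, h, ← zpow_add, ← zpow_neg, ← zpow_add]
  congr 1; ring

end Cfsg.Agent.Lib.Helper1
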