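import Mathlib
set_option autoImplicit false
namespace Cfsg.Agent.Lib.Helper1

/-- `2^m ∣ k^2 - 1` implies `2^(m-1) ∣ k - 1` or `2^(m-1) ∣ k + 1`. -/
theorem two_pow_dvd_sq_sub_one (m : ℕ) (hm : 2 ≤ m) (k : ℤ) (h : (2 : ℤ) ^ m ∣ k ^ 2 - 1) :
    (2 : ℤ) ^ (m - 1) ∣ k - 1 ∨ (2 : ℤ) ^ (m - 1) ∣ k + 1 := by
  obtain ⟨m', rfl⟩ : ∃ m', m = m' + 2 := ⟨m - 2, by omega⟩
  have hkodd : Odd k := by
    by_contra hne
    rw [Int.not_odd_iff_even] at hne
    obtain ⟨c, hc⟩ := hne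
    have h2 : (2 : ℤ) ∣ k ^ 2 - 1 := (dvd_pow_self (2 : ℤ) (by omega)).trans h
    rw [hc] at h2
    have h5 : (2 : ℤ) ∣ (c + c) ^ 2 := ⟨2 * c ^ 2, by ring⟩
    have h6 := dvd_sub h5 h2
    have e : (c + c) ^ 2 - ((c + c) ^ 2 - 1) = 1 := by ring
    rw [e] at h6
    omega
  obtain ⟨u, hu⟩ := hkodd
  have e1 : k ^ 2 - 1 = 4 * (u * (u + 1)) := by rw [hu]; ring
  have e2 : (2 : ℤ) ^ (m' + 2) = 4 * 2 ^ m' := by ring
  rw [e1, e2] at h
  have h3 : (2 : ℤ) ^ m' ∣ u * (u + 1) := (mul_dvd_mul_iff_left (by norm_num : (4 : ℤ) ≠ 0)).mp h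
  have e3 : m' + 2 - 1 = m' + 1 := by omega
  rw [e3, pow_succ]
  rcases Int.even_or_odd u with hue | huo
  · left
    have hodd : Odd (u + 1) := hue.add_one
    have hcop : IsCoprime ((2 : ℤ) ^ m') (u + 1) := by
      apply IsCoprime.pow_left
      obtain ⟨c, hc⟩ := hodd
      exact ⟨-c, 1, by rw [hc]; ring⟩
    have h4 : (2 : ℤ) ^ m' ∣ u := hcop.dvd_of_dvd_mul_right h3
    have e : k - 1 = u * 2 := by rw [hu]; ring
    rw [e]; exact mul_dvd_mul_right h4 2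
  · right
    have hcop : IsCoprime ((2 : ℤ) ^ m') u := by
      apply IsCoprime.pow_left
      obtain ⟨c, hc⟩ := huo
      exact ⟨-c, 1, by rw [hc]; ring⟩
    have h4 : (2 : ℤ) ^ m' ∣ u + 1 := hcop.dvd_of_dvd_mul_left h3
    have e : k + 1 = (u + 1) * 2 := by rw [hu]; ring
    rw [e]; exact mul_dvd_mul_right h4 2


theorem isCoprime_two_pow_of_odd {w : ℤ} (hw : Odd w) (j : ℕ) : IsCoprime w ((2 : ℤ) ^ j) := by
  apply IsCoprime.pow_right
  obtain ⟨c, hc⟩ := hw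
  exact ⟨1, -c, by rw [hc]; ring⟩

theorem neg_one_case (Q k s : ℤ) (hk : 2 * Q ∣ k + 1) (h2 : 2 * Q ∣ k * s - s) :
    2 * Q ∣ s ∨ 2 * Q ∣ s - Q := by
  obtain ⟨c, hc⟩ := hk
  have hk' : k = -1 + 2 * Q * c := by linarith
  have h4 : 2 * Q ∣ 2 * s := by
    have e : 2 * s = 2 * Q * (c * s) - (k * s - s) := by rw [hk']; ring
    rw [e]
    exact dvd_sub (dvd_mul_right _ _) h2
  have h5 : Q ∣ s := (mul_dvd_mul_iff_left (by norm_num : (2 : ℤ) ≠ 0)).mp h4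
  obtain ⟨s', hs'⟩ := h5
  rcases Int.even_or_odd' s' with ⟨d, hd | hd⟩
  · left
    exact ⟨d, by rw [hs', hd]; ring⟩
  · right
    exact ⟨d, by rw [hs', hd]; ring⟩

theorem two_adic_cases (m : ℕ) (hm : 2 ≤ m) (k s : ℤ) (h1 : (2 : ℤ) ^ m ∣ k ^ 2 - 1)
    (h2 : (2 : ℤ) ^ m ∣ k * s - s) (h3 : ¬ (2 : ℤ) ^ m ∣ k - 1) :
    ((2 : ℤ) ^ m ∣ k + 1 ∧ ((2 : ℤ) ^ m ∣ s ∨ (2 : ℤ) ^ m ∣ s - 2 ^ (m - 1))) ∨
    (3 ≤ m ∧ (2 : ℤ) ^ m ∣ k - (1 + 2 ^ (m - 1)) ∧ ∃ i : ℤ, (2 : ℤ) ^ m ∣ i * (1 + k) + s) ∨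
    (3 ≤ m ∧ (2 : ℤ) ^ m ∣ k - (2 ^ (m - 1) - 1) ∧ ∃ i : ℤ, (2 : ℤ) ^ m ∣ i * (1 + k) + s) := by
  have hdich := two_pow_dvd_sq_sub_one m hm k h1
  obtain ⟨Q, hQ⟩ : ∃ Q : ℤ, Q = 2 ^ (m - 1) := ⟨_, rfl⟩
  have hq : (2 : ℤ) ^ m = 2 * Q := by
    rw [hQ, ← pow_succ']; congr 1; omega
  have hQ0 : Q ≠ 0 := by rw [hQ]; positivity
  rw [← hQ] at hdich ⊢
  rw [hq] at h2 h3 ⊢
  have hm3 : m = 2 ∨ 3 ≤ m := by omega
  rcases hdich with ⟨t, ht⟩ | ⟨t, ht⟩
  · -- Q ∣ k - 1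
    rcases Int.even_or_odd' t with ⟨t', ht' | ht'⟩
    · exfalso
      exact h3 ⟨t', by rw [ht, ht']; ring⟩
    · have hk : k = 1 + Q + 2 * Q * t' := by rw [ht'] at ht; linarith
      rcases hm3 with rfl | hm3
      · left
        have hQ2 : Q = 2 := by rw [hQ]; norm_num
        have hk1 : 2 * Q ∣ k + 1 := ⟨1 + t', by rw [hk, hQ2]; ring⟩
        exact ⟨hk1, neg_one_case Q k s hk1 h2⟩
      · right; left
        refine ⟨hm3, ⟨t', by rw [hk]; ring⟩, ?_⟩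
        obtain ⟨R', hR'⟩ : ∃ R' : ℤ, Q = 4 * R' := by
          refine ⟨2 ^ (m - 3), ?_⟩
          rw [hQ]
          have : m - 1 = (m - 3) + 2 := by omega
          rw [this, pow_add]; ring
        -- s is even
        have h4 : (2 : ℤ) ∣ t * s := by
          have e : k * s - s = Q * (t * s) := by
            have : k - 1 = Q * t := ht
            calc k * s - s = (k - 1) * s := by ring
              _ = Q * (t * s) := by rw [this]; ring
          rw [e, mul_comm 2 Q] at h2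
          exact (mul_dvd_mul_iff_left hQ0).mp h2
        have h5 : (2 : ℤ) ∣ s := by
          rcases (Int.prime_two.dvd_or_dvd h4) with h | h
          · exfalso
            rw [ht'] at h
            omega
          · exact h
        obtain ⟨s', hs'⟩ := h5
        have hwodd : Odd (1 + 2 * R' + Q * t') := ⟨R' + 2 * R' * t', by rw [hR']; ring⟩
        have hcop : IsCoprime (1 + 2 * R' + Q * t') Q := by
          rw [hQ] at hwodd ⊢
          exact isCoprime_two_pow_of_odd hwodd _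
        obtain ⟨u, v, huv⟩ := hcop
        refine ⟨-s' * u, s' * v, ?_⟩
        have e1 : 1 + k = 2 * (1 + 2 * R' + Q * t') := by rw [hk, hR']; ring
        rw [e1, hs']
        have : u * (1 + 2 * R' + Q * t') = 1 - v * Q := by linarith
        calc -s' * u * (2 * (1 + 2 * R' + Q * t')) + 2 * s'
            = 2 * s' * (1 - u * (1 + 2 * R' + Q * t')) := by ring
          _ = 2 * Q * (s' * v) := by rw [this]; ring
  · -- Q ∣ k + 1
    rcases Int.even_or_odd' t with ⟨t', ht' | ht'⟩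
    · left
      have hk1 : 2 * Q ∣ k + 1 := ⟨t', by rw [ht, ht']; ring⟩
      exact ⟨hk1, neg_one_case Q k s hk1 h2⟩
    · have hk : k = -1 + Q + 2 * Q * t' := by rw [ht'] at ht; linarith
      rcases hm3 with rfl | hm3
      · exfalso
        have hQ2 : Q = 2 := by rw [hQ]; norm_num
        exact h3 ⟨t', by rw [hk, hQ2]; ring⟩
      · right; right
        refine ⟨hm3, ⟨t', by rw [hk]; ring⟩, ?_⟩
        obtain ⟨R', hR'⟩ : ∃ R' : ℤ, Q = 4 * R' := by
          refine ⟨2 ^ (m - 3), ?_⟩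
          rw [hQ]
          have : m - 1 = (m - 3) + 2 := by omega
          rw [this, pow_add]; ring
        have hwodd : Odd (-1 + 2 * R' + Q * t') := ⟨R' + 2 * R' * t' - 1, by rw [hR']; ring⟩
        have hcop : IsCoprime Q (-1 + 2 * R' + Q * t') := by
          rw [hQ] at hwodd ⊢
          exact (isCoprime_two_pow_of_odd hwodd _).symm
        have h4 : Q ∣ (-1 + 2 * R' + Q * t') * s := by
          have e : k * s - s = 2 * ((-1 + 2 * R' + Q * t') * s) := by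
            rw [hk]
            have : Q = 2 * (2 * R') := by rw [hR']; ring
            calc (-1 + Q + 2 * Q * t') * s - s = (-2 + Q + 2 * Q * t') * s := by ring
              _ = (-2 + 2 * (2 * R') + 2 * Q * t') * s := by rw [← this]
              _ = 2 * ((-1 + 2 * R' + Q * t') * s) := by ring
          rw [e] at h2
          exact (mul_dvd_mul_iff_left (by norm_num : (2 : ℤ) ≠ 0)).mp h2
        have h5 : Q ∣ s := hcop.dvd_of_dvd_mul_left h4
        obtain ⟨s'', hs''⟩ := h5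
        rcases Int.even_or_odd' s'' with ⟨c, hc | hc⟩
        · exact ⟨0, c, by rw [hs'', hc]; ring⟩
        · exact ⟨1, 1 + t' + c, by rw [hs'', hc, hk]; ring⟩

/-- For an odd prime `p`: `p^m ∣ k^p - 1` implies `p^(m-1) ∣ k - 1`. -/
theorem dvd_sub_one_of_pow_prime_dvd {p : ℕ} (hp : p.Prime) (hp2 : p ≠ 2) (m : ℕ) (hm : 1 ≤ m)
    (k : ℤ) (h : (p : ℤ) ^ m ∣ k ^ p - 1) : (p : ℤ) ^ (m - 1) ∣ k - 1 := by
  have hodd : Odd p := hp.odd_of_ne_two hp2
  have hpk : (p : ℤ) ∣ k ^ p - 1 := (dvd_pow_self (p : ℤ) (by omega)).trans h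
  have hfermat : (p : ℤ) ∣ k ^ p - k := by
    have : Fact p.Prime := ⟨hp⟩
    have h1 : ((k ^ p - k : ℤ) : ZMod p) = 0 := by
      push_cast
      rw [ZMod.pow_card, sub_self]
    exact (ZMod.intCast_zmod_eq_zero_iff_dvd _ _).mp h1
  have hk1 : (p : ℤ) ∣ k - 1 := by
    have := dvd_sub hpk hfermat
    have e : k ^ p - 1 - (k ^ p - k) = k - 1 := by ring
    rwa [e] at this
  have hpk' : ¬ (p : ℤ) ∣ k := by
    intro hdvd
    have h1 : (p : ℤ) ∣ 1 := by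
      have := dvd_sub hdvd hk1
      have e : k - (k - 1) = 1 := by ring
      rwa [e] at this
    have := Int.eq_one_of_dvd_one (by positivity) h1
    have : p = 1 := by exact_mod_cast this
    exact hp.ne_one this
  have hlte := Int.emultiplicity_pow_sub_pow hp hodd (x := k) (y := 1) hk1 hpk' p
  rw [one_pow] at hlte
  have hself : emultiplicity p p = 1 := by
    have hfin : FiniteMultiplicity p p := Nat.finiteMultiplicity_iff.mpr ⟨hp.ne_one, hp.pos⟩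
    exact hfin.emultiplicity_self
  rw [hself] at hlte
  rw [pow_dvd_iff_le_emultiplicity] at h ⊢
  rw [hlte] at h
  -- m ≤ e + 1 → m - 1 ≤ e
  have hm' : ((m - 1 : ℕ) : ℕ∞) + 1 = (m : ℕ∞) := by
    have : m - 1 + 1 = m := by omega
    exact_mod_cast this
  rw [← hm'] at h
  exact (ENat.add_le_add_iff_right (by simp)).mp h


end Cfsg.Agent.Lib.Helper1
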