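import Mathlib
import Cfsg.Agent.Lib.Helper1.CyclicMax
import Cfsg.Agent.Lib.Helper1.CyclicMaxArith
set_option autoImplicit false
universe u v
namespace Cfsg.Agent.Lib.Helper1
variable {G : Type u} [Group G]

theorem cyclic_max_setup [Finite G] {p : ℕ} [hp : Fact p.Prime] (n : ℕ) (hn : 1 ≤ n)
    (hG : Nat.card G = p ^ n) (C : Subgroup G) (hC : IsCyclic C) (hCi : C.index = p) :
    ∃ a : G, C = Subgroup.zpowers a ∧ orderOf a = p ^ (n - 1) ∧ C.Normal ∧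
      ∀ b : G, b ∉ C → (b ^ p ∈ C ∧ (∃ k : ℤ, b * a * b⁻¹ = a ^ k) ∧
        ∀ g : G, ∃ (i : ℤ) (j : ℕ), g = a ^ i * b ^ j) := by
  obtain ⟨a, ha⟩ := (Subgroup.isCyclic_iff_exists_zpowers_eq_top C).mp hC
  have hCn : C.Normal := by
    apply Subgroup.normal_of_index_eq_minFac_card
    rw [hCi, hG, Nat.Prime.pow_minFac hp.out (by omega)]
  have hord : orderOf a = p ^ (n - 1) := by
    rw [← Nat.card_zpowers, ha]
    have h1 := C.card_mul_index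
    rw [hCi, hG] at h1
    have h2 : p ^ n = p ^ (n - 1) * p := by rw [← pow_succ]; congr 1; omega
    rw [h2] at h1
    exact Nat.eq_of_mul_eq_mul_right hp.out.pos h1
  refine ⟨a, ha.symm, hord, hCn, ?_⟩
  intro b hb
  have hcardq : Nat.card (G ⧸ C) = p := hCi
  have hbp : b ^ p ∈ C := by
    rw [← QuotientGroup.eq_one_iff, QuotientGroup.mk_pow, ← hcardq]
    exact pow_card_eq_one'
  refine ⟨hbp, ?_, ?_⟩
  · have h1 : b * a * b⁻¹ ∈ C := hCn.conj_mem a (ha ▸ Subgroup.mem_zpowers a) b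
    rw [← ha] at h1
    obtain ⟨k, hk⟩ := Subgroup.mem_zpowers_iff.mp h1
    exact ⟨k, hk.symm⟩
  · intro g
    have hb1 : (QuotientGroup.mk b : G ⧸ C) ≠ 1 := fun h => hb ((QuotientGroup.eq_one_iff b).mp h)
    have hgen : ∀ x : G ⧸ C, x ∈ Subgroup.zpowers (QuotientGroup.mk b : G ⧸ C) := by
      have : Fact (Nat.card (G ⧸ C)).Prime := ⟨hcardq ▸ hp.out⟩
      intro x
      have htop := zpowers_eq_top_of_prime_card (G := G ⧸ C) (p := p) hcardq hb1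
      rw [htop]; exact Subgroup.mem_top _
    have h2 := hgen (QuotientGroup.mk g)
    rw [← mem_powers_iff_mem_zpowers, Submonoid.mem_powers_iff] at h2
    obtain ⟨j, hj⟩ := h2
    have h3 : g * (b ^ j)⁻¹ ∈ C := by
      rw [← QuotientGroup.eq_one_iff, QuotientGroup.mk_mul, QuotientGroup.mk_inv,
        QuotientGroup.mk_pow, hj, mul_inv_cancel]
    rw [← ha] at h3
    obtain ⟨i, hi⟩ := Subgroup.mem_zpowers_iff.mp h3
    refine ⟨i, j, ?_⟩
    rw [hi]; group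


theorem two_group_cyclic_max_structure {a b : G} (m : ℕ) (hm : 2 ≤ m) (ha : orderOf a = 2 ^ m)
    (k s : ℤ) (hk : b * a * b⁻¹ = a ^ k) (hs : b ^ 2 = a ^ s) (hnc : b * a * b⁻¹ ≠ a) :
    (b * a * b⁻¹ = a⁻¹ ∧ (b ^ 2 = 1 ∨ b ^ 2 = a ^ (2 ^ (m - 1)))) ∨
    (3 ≤ m ∧ b * a * b⁻¹ = a ^ (1 + 2 ^ (m - 1)) ∧ ∃ i : ℤ, (a ^ i * b) ^ 2 = 1) ∨
    (3 ≤ m ∧ b * a * b⁻¹ = a ^ (2 ^ (m - 1) - 1) ∧ ∃ i : ℤ, (a ^ i * b) ^ 2 = 1) := by
  have hq : (orderOf a : ℤ) = 2 ^ m := by rw [ha]; norm_cast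
  have h1 : (2 : ℤ) ^ m ∣ k ^ 2 - 1 := by
    have h := pow_conj_of_conj hk 2 1
    rw [hs, zpow_one] at h
    have h' : a ^ s * a * (a ^ s)⁻¹ = a := by
      rw [← zpow_neg, ← zpow_add_one, ← zpow_add]; simp
    rw [h'] at h
    have h'' : a ^ (1 : ℤ) = a ^ (k ^ 2 * 1) := by rw [zpow_one]; exact h
    rw [zpow_eq_zpow_iff_dvd, hq] at h''
    have e : k ^ 2 - 1 = -(1 - k ^ 2 * 1) := by ring
    rw [e, dvd_neg]; exact h''
  have h2 : (2 : ℤ) ^ m ∣ k * s - s := by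
    have h := conj_zpow_of_conj hk s
    rw [← hs] at h
    have h' : b * b ^ 2 * b⁻¹ = b ^ 2 := by group
    rw [h', hs, zpow_eq_zpow_iff_dvd, hq] at h
    have e : k * s - s = -(s - k * s) := by ring
    rw [e, dvd_neg]; exact h
  have h3 : ¬ (2 : ℤ) ^ m ∣ k - 1 := by
    intro h
    apply hnc
    rw [hk]
    have : a ^ k = a ^ (1 : ℤ) := by rw [zpow_eq_zpow_iff_dvd, hq]; exact h
    rw [this, zpow_one]
  have hsq : ∀ i : ℤ, (a ^ i * b) ^ 2 = a ^ (i * (1 + k) + s) := by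
    intro i
    rw [mul_pow_of_conj hk i 2, hs, ← zpow_add]
    congr 1
    simp [Finset.sum_range_succ]
  have hone : ∀ x : ℤ, (2 : ℤ) ^ m ∣ x → a ^ x = 1 := by
    intro x hx
    rw [← orderOf_dvd_iff_zpow_eq_one, hq]; exact hx
  rcases two_adic_cases m hm k s h1 h2 h3 with ⟨hk1, hs'⟩ | ⟨hm3, hk1, i, hi⟩ | ⟨hm3, hk1, i, hi⟩
  · left
    constructor
    · rw [hk, ← zpow_neg_one, zpow_eq_zpow_iff_dvd, hq]
      have e : k - -1 = k + 1 := by ring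
      rw [e]; exact hk1
    · rcases hs' with h | h
      · left; rw [hs]; exact hone s h
      · right
        rw [hs, ← zpow_natCast, zpow_eq_zpow_iff_dvd, hq]
        push_cast; exact h
  · right; left
    refine ⟨hm3, ?_, i, ?_⟩
    · rw [hk, ← zpow_natCast, zpow_eq_zpow_iff_dvd, hq]
      push_cast; exact hk1
    · rw [hsq]; exact hone _ hi
  · right; right
    refine ⟨hm3, ?_, i, ?_⟩
    · rw [hk, ← zpow_natCast, zpow_eq_zpow_iff_dvd, hq]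
      have : ((2 ^ (m - 1) - 1 : ℕ) : ℤ) = 2 ^ (m - 1) - 1 := by
        rw [Nat.cast_sub Nat.one_le_two_pow]; push_cast; ring
      rw [this]; exact hk1
    · rw [hsq]; exact hone _ hi


/-- If `G` is generated by `a` and `b` in the form `a^i b^j` and `b` commutes with `a`, then `G` is
commutative. -/
theorem comm_of_gen_comm {a b : G} (hgen : ∀ g : G, ∃ (i : ℤ) (j : ℕ), g = a ^ i * b ^ j)
    (hab : b * a * b⁻¹ = a) (x y : G) : x * y = y * x := by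
  have hc : Commute a b := by
    have : b * a = a * b := by
      calc b * a = b * a * b⁻¹ * b := by group
        _ = a * b := by rw [hab]
    exact this.symm
  obtain ⟨i, j, rfl⟩ := hgen x
  obtain ⟨i', j', rfl⟩ := hgen y
  have h1 : Commute (a ^ i * b ^ j) (a ^ i' * b ^ j') := by
    apply Commute.mul_left
    · apply Commute.mul_right
      · exact (Commute.refl a).zpow_zpow i i'
      · exact (hc.zpow_left i).pow_right j'
    · apply Commute.mul_right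
      · exact (hc.symm.zpow_right i').pow_left j
      · exact (Commute.refl b).pow_pow j j'
  exact h1

theorem two_group_cyclic_index_two_nonabelian [Finite G] (n : ℕ) (hn : 3 ≤ n)
    (hG : Nat.card G = 2 ^ n) (C : Subgroup G) (hC : IsCyclic C) (hCi : C.index = 2)
    (hna : ∃ x y : G, x * y ≠ y * x) :
    ∃ a b : G, orderOf a = 2 ^ (n - 1) ∧ b ∉ Subgroup.zpowers a ∧
      ((b ^ 2 = 1 ∧ b * a * b⁻¹ = a⁻¹) ∨ (b ^ 2 = a ^ (2 ^ (n - 2)) ∧ b * a * b⁻¹ = a⁻¹) ∨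
        (4 ≤ n ∧ b ^ 2 = 1 ∧ b * a * b⁻¹ = a ^ (1 + 2 ^ (n - 2))) ∨
        (4 ≤ n ∧ b ^ 2 = 1 ∧ b * a * b⁻¹ = a ^ (2 ^ (n - 2) - 1))) := by
  have : Fact (Nat.Prime 2) := ⟨Nat.prime_two⟩
  obtain ⟨a, hCa, hord, hCn, hb⟩ := cyclic_max_setup n (by omega) hG C hC hCi
  have hCtop : C ≠ ⊤ := by
    intro h
    rw [h, Subgroup.index_top] at hCi
    omega
  obtain ⟨b₀, hb₀⟩ : ∃ b₀ : G, b₀ ∉ C := by
    by_contra hcon
    push Not at hcon
    exact hCtop (eq_top_iff.mpr (fun x _ => hcon x))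
  obtain ⟨hb2, ⟨k, hk⟩, hgen⟩ := hb b₀ hb₀
  rw [hCa] at hb2
  obtain ⟨s, hs⟩ := Subgroup.mem_zpowers_iff.mp hb2
  have hnc : b₀ * a * b₀⁻¹ ≠ a := by
    intro h
    obtain ⟨x, y, hxy⟩ := hna
    exact hxy (comm_of_gen_comm hgen h x y)
  have hm1 : n - 1 - 1 = n - 2 := by omega
  have hnotin : ∀ i : ℤ, a ^ i * b₀ ∉ Subgroup.zpowers a := by
    intro i hmem
    apply hb₀
    rw [hCa]
    have : b₀ = (a ^ i)⁻¹ * (a ^ i * b₀) := by group
    rw [this]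
    exact Subgroup.mul_mem _ (Subgroup.inv_mem _ (Subgroup.zpow_mem _ (Subgroup.mem_zpowers a) i)) hmem
  rcases two_group_cyclic_max_structure (n - 1) (by omega) hord k s hk hs.symm hnc with
    ⟨h1, h2 | h2⟩ | ⟨hm3, h1, i, hi⟩ | ⟨hm3, h1, i, hi⟩
  · exact ⟨a, b₀, hord, hCa ▸ hb₀, Or.inl ⟨h2, h1⟩⟩
  · refine ⟨a, b₀, hord, hCa ▸ hb₀, Or.inr (Or.inl ⟨?_, h1⟩)⟩
    rw [hm1] at h2; exact h2
  · refine ⟨a, a ^ i * b₀, hord, hnotin i, Or.inr (Or.inr (Or.inl ⟨by omega, hi, ?_⟩))⟩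
    rw [conj_mul_left_of_conj hk, ← hk, h1, hm1]
  · refine ⟨a, a ^ i * b₀, hord, hnotin i, Or.inr (Or.inr (Or.inr ⟨by omega, hi, ?_⟩))⟩
    rw [conj_mul_left_of_conj hk, ← hk, h1, hm1]

end Cfsg.Agent.Lib.Helper1
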