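import Mathlib
import Cfsg.Agent.Lib.Helper1.CyclicMaxTwo
import Cfsg.Agent.Lib.Helper1.CyclicMaxArith2
set_option autoImplicit false
universe u v
namespace Cfsg.Agent.Lib.Helper1
variable {G : Type u} [Group G]

theorem odd_cyclic_max_structure {p : ℕ} (hp : p.Prime) (hp2 : p ≠ 2) {a b₀ : G} (m : ℕ)
    (hm : 2 ≤ m) (ha : orderOf a = p ^ m) (k s : ℤ) (hk : b₀ * a * b₀⁻¹ = a ^ k)
    (hs : b₀ ^ p = a ^ s) (hnc : b₀ * a * b₀⁻¹ ≠ a) :
    ∃ (t : ℕ) (i : ℤ), ¬ p ∣ t ∧ (a ^ i * b₀ ^ t) ^ p = 1 ∧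
      (a ^ i * b₀ ^ t) * a * (a ^ i * b₀ ^ t)⁻¹ = a ^ (1 + p ^ (m - 1)) := by
  have hodd : Odd p := hp.odd_of_ne_two hp2
  have hq : (orderOf a : ℤ) = (p : ℤ) ^ m := by rw [ha]; norm_cast
  obtain ⟨P, hP⟩ : ∃ P : ℤ, P = (p : ℤ) ^ (m - 1) := ⟨_, rfl⟩
  have hqP : (p : ℤ) ^ m = p * P := by
    rw [hP, ← pow_succ']; congr 1; omega
  obtain ⟨P', hP'⟩ : ∃ P' : ℤ, P = p * P' := by
    refine ⟨(p : ℤ) ^ (m - 2), ?_⟩
    rw [hP, ← pow_succ']; congr 1; omega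
  have hP0 : P ≠ 0 := by rw [hP]; exact pow_ne_zero _ (by exact_mod_cast hp.ne_zero)
  have hp0 : (p : ℤ) ≠ 0 := by exact_mod_cast hp.ne_zero
  have hone : ∀ x : ℤ, (p : ℤ) ^ m ∣ x → a ^ x = 1 := by
    intro x hx
    rw [← orderOf_dvd_iff_zpow_eq_one, hq]; exact hx
  -- k^p ≡ 1
  have h1 : (p : ℤ) ^ m ∣ k ^ p - 1 := by
    have h := pow_conj_of_conj hk p 1
    rw [hs, zpow_one] at h
    have h' : a ^ s * a * (a ^ s)⁻¹ = a := by
      rw [← zpow_neg, ← zpow_add_one, ← zpow_add]; simp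
    rw [h'] at h
    have h'' : a ^ (1 : ℤ) = a ^ (k ^ p * 1) := by rw [zpow_one]; exact h
    rw [zpow_eq_zpow_iff_dvd, hq] at h''
    have e : k ^ p - 1 = -(1 - k ^ p * 1) := by ring
    rw [e, dvd_neg]; exact h''
  have h3 : ¬ (p : ℤ) ^ m ∣ k - 1 := by
    intro h
    apply hnc
    rw [hk]
    have : a ^ k = a ^ (1 : ℤ) := by rw [zpow_eq_zpow_iff_dvd, hq]; exact h
    rw [this, zpow_one]
  have hPk := dvd_sub_one_of_pow_prime_dvd hp hp2 m (by omega) k h1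
  rw [← hP] at hPk
  obtain ⟨j, hj⟩ := hPk
  have hpj : ¬ (p : ℤ) ∣ j := by
    rintro ⟨c, hc⟩
    apply h3
    rw [hqP]
    exact ⟨c, by rw [hj, hc]; ring⟩
  -- choose t with t * j ≡ 1 mod p
  have hcop : IsCoprime j (p : ℤ) := by
    have hprime : Prime (p : ℤ) := Nat.prime_iff_prime_int.mp hp
    exact ((hprime.coprime_iff_not_dvd).mpr hpj).symm
  obtain ⟨u, v, huv⟩ := hcop
  obtain ⟨t, ht⟩ : ∃ t : ℕ, (t : ℤ) = u % p :=
    ⟨(u % p).toNat, Int.toNat_of_nonneg (Int.emod_nonneg u hp0)⟩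
  have htu : ∃ w : ℤ, (t : ℤ) = u - p * w := ⟨u / p, by rw [ht, Int.emod_def]⟩
  obtain ⟨w, hw⟩ := htu
  have hpt : ¬ p ∣ t := by
    intro hdvd
    have h4 : (p : ℤ) ∣ (t : ℤ) := by exact_mod_cast hdvd
    obtain ⟨c, hc⟩ := h4
    have h5 : (p : ℤ) ∣ 1 := ⟨c * j + w * j + v, by
      have : u = p * c + p * w := by linarith
      rw [← huv, this]; ring⟩
    have := Int.eq_one_of_dvd_one (by positivity) h5
    have : p = 1 := by exact_mod_cast this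
    exact hp.ne_one this
  -- b₁ = b₀ ^ t conjugates a to a^(1+P)
  have hb₁ : b₀ ^ t * a * (b₀ ^ t)⁻¹ = a ^ (1 + P) := by
    have h := pow_conj_of_conj hk t 1
    rw [zpow_one] at h
    rw [h, zpow_eq_zpow_iff_dvd, hq, hqP]
    -- k^t * 1 - (1 + P) divisible by p * P
    have hk' : k = 1 + P * j := by linarith
    have h5 := sq_dvd_one_add_pow_sub (P * j) t
    have h6 : (p : ℤ) * P ∣ (P * j) ^ 2 := ⟨P' * j ^ 2, by rw [hP']; ring⟩
    have h7 : (p : ℤ) * P ∣ (1 + P * j) ^ t - 1 - t * (P * j) := h6.trans h5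
    have h8 : (p : ℤ) * P ∣ t * (P * j) - P := by
      refine ⟨-(w * j) - v, ?_⟩
      have : (t : ℤ) * j = 1 - v * p - p * w * j := by rw [hw]; linarith
      calc (t : ℤ) * (P * j) - P = P * ((t : ℤ) * j) - P := by ring
        _ = P * (1 - v * p - p * w * j) - P := by rw [this]
        _ = p * P * (-(w * j) - v) := by ring
    have e : k ^ t * 1 - (1 + P) = ((1 + P * j) ^ t - 1 - t * (P * j)) + (t * (P * j) - P) := by
      rw [hk']; ring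
    rw [e]; exact dvd_add h7 h8
  -- b₁ ^ p = a ^ (s * t)
  have hb₁p : (b₀ ^ t) ^ p = a ^ (s * t) := by
    rw [← pow_mul, mul_comm t p, pow_mul, hs, zpow_mul, zpow_natCast]
  -- p ∣ s * t
  have hps : (p : ℤ) ∣ s * t := by
    have h := conj_zpow_of_conj hb₁ (s * t)
    rw [← hb₁p] at h
    have h' : b₀ ^ t * (b₀ ^ t) ^ p * (b₀ ^ t)⁻¹ = (b₀ ^ t) ^ p := by group
    rw [h', hb₁p, zpow_eq_zpow_iff_dvd, hq, hqP] at h
    have e : s * t - (1 + P) * (s * t) = P * (-(s * t)) := by ring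
    rw [e, mul_comm (p : ℤ) P] at h
    have := (mul_dvd_mul_iff_left hP0).mp h
    rwa [dvd_neg] at this
  obtain ⟨s', hs'⟩ := hps
  refine ⟨t, -s', hpt, ?_, ?_⟩
  · rw [mul_pow_of_conj hb₁ (-s') p, hb₁p, ← zpow_add]
    apply hone
    rw [hqP]
    have hg := geom_sum_sub_dvd p hodd ((p : ℤ) * P) P ⟨P', by rw [hP']; ring⟩ ⟨1, by ring⟩
    obtain ⟨c, hc⟩ := hg
    refine ⟨-s' * c, ?_⟩
    have : (∑ j ∈ Finset.range p, (1 + P) ^ j) = p + p * P * c := by linarith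
    rw [this, hs']; ring
  · rw [conj_mul_left_of_conj hb₁, ← zpow_natCast]
    congr 1
    rw [hP]; push_cast; ring


theorem pow_not_mem_of_not_dvd {p : ℕ} (hp : p.Prime) (C : Subgroup G) {b : G} (hb : b ∉ C)
    (hbp : b ^ p ∈ C) {t : ℕ} (ht : ¬ p ∣ t) : b ^ t ∉ C := by
  intro hmem
  apply hb
  have hcop : Nat.Coprime t p := (Nat.Coprime.symm ((Nat.Prime.coprime_iff_not_dvd hp).mpr ht))
  have h1 : b ^ (Nat.gcd t p : ℤ) ∈ C := by
    rw [Nat.gcd_eq_gcd_ab, zpow_add, zpow_mul, zpow_mul, zpow_natCast, zpow_natCast]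
    exact C.mul_mem (C.zpow_mem hmem _) (C.zpow_mem hbp _)
  rw [hcop] at h1
  simpa using h1

theorem p_group_cyclic_index_p_odd_nonabelian [Finite G] {p : ℕ} [hp : Fact p.Prime] (hp2 : p ≠ 2)
    (n : ℕ) (hn : 3 ≤ n) (hG : Nat.card G = p ^ n) (C : Subgroup G) (hC : IsCyclic C)
    (hCi : C.index = p) (hna : ∃ x y : G, x * y ≠ y * x) :
    ∃ a b : G, orderOf a = p ^ (n - 1) ∧ orderOf b = p ∧ b ∉ Subgroup.zpowers a ∧
      b * a * b⁻¹ = a ^ (1 + p ^ (n - 2)) := by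
  obtain ⟨a, hCa, hord, hCn, hb⟩ := cyclic_max_setup n (by omega) hG C hC hCi
  have hCtop : C ≠ ⊤ := by
    intro h
    rw [h, Subgroup.index_top] at hCi
    exact hp.out.ne_one hCi.symm
  obtain ⟨b₀, hb₀⟩ : ∃ b₀ : G, b₀ ∉ C := by
    by_contra hcon
    push Not at hcon
    exact hCtop (eq_top_iff.mpr (fun x _ => hcon x))
  obtain ⟨hbp, ⟨k, hk⟩, hgen⟩ := hb b₀ hb₀
  have hbp' := hbp
  rw [hCa] at hbp'
  obtain ⟨s, hs⟩ := Subgroup.mem_zpowers_iff.mp hbp'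
  have hnc : b₀ * a * b₀⁻¹ ≠ a := by
    intro h
    obtain ⟨x, y, hxy⟩ := hna
    exact hxy (comm_of_gen_comm hgen h x y)
  have hm1 : n - 1 - 1 = n - 2 := by omega
  obtain ⟨t, i, hpt, hbp1, hconj⟩ :=
    odd_cyclic_max_structure hp.out hp2 (n - 1) (by omega) hord k s hk hs.symm hnc
  have hnotin : a ^ i * b₀ ^ t ∉ Subgroup.zpowers a := by
    intro hmem
    apply pow_not_mem_of_not_dvd hp.out C hb₀ hbp hpt
    rw [hCa]
    have : b₀ ^ t = (a ^ i)⁻¹ * (a ^ i * b₀ ^ t) := by group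
    rw [this]
    exact Subgroup.mul_mem _ (Subgroup.inv_mem _ (Subgroup.zpow_mem _ (Subgroup.mem_zpowers a) i)) hmem
  refine ⟨a, a ^ i * b₀ ^ t, hord, ?_, hnotin, ?_⟩
  · apply orderOf_eq_prime hbp1
    intro h1
    apply hnotin
    rw [h1]; exact Subgroup.one_mem _
  · rw [hconj, hm1]

end Cfsg.Agent.Lib.Helper1
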