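import Mathlib
import Cfsg.Agent.Lib.Helper1.CyclicMaxOdd
import Cfsg.Prelude.Def_Transfer
set_option autoImplicit false
universe u v
namespace Cfsg.Agent.Lib.Helper1
variable {G : Type u} [Group G]

/-- Lemma Z: `(a^i b^j)^p = a^(i p)` when `b a b⁻¹ = a^(1+d)` with `q ∣ d^2`, `q ∣ d p`. -/
theorem mul_pow_prime_of_conj_one_add {p : ℕ} (hodd : Odd p) {a b : G} (d : ℤ)
    (h1 : (orderOf a : ℤ) ∣ d ^ 2) (h2 : (orderOf a : ℤ) ∣ d * p)
    (hk : b * a * b⁻¹ = a ^ (1 + d)) (hb : b ^ p = 1) (i : ℤ) (j : ℕ) :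
    (a ^ i * b ^ j) ^ p = a ^ (i * p) := by
  have hβ : b ^ j * a * (b ^ j)⁻¹ = a ^ ((1 + d) ^ j) := by
    have := pow_conj_of_conj hk j 1
    rw [zpow_one, mul_one] at this
    exact this
  have hβp : (b ^ j) ^ p = 1 := by rw [← pow_mul, mul_comm, pow_mul, hb, one_pow]
  rw [mul_pow_of_conj hβ i p, hβp, mul_one, zpow_eq_zpow_iff_dvd]
  obtain ⟨dj, hdj⟩ : ∃ dj : ℤ, (1 + d) ^ j = 1 + dj := ⟨(1 + d) ^ j - 1, by ring⟩
  have h3 := sq_dvd_one_add_pow_sub d j
  have hdj' : dj = ((1 + d) ^ j - 1 - j * d) + j * d := by rw [hdj]; ring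
  have hd_dvd : d ∣ dj := by
    rw [hdj']
    exact dvd_add ((dvd_pow_self d (by norm_num)).trans h3) (dvd_mul_left _ _)
  have h4 : (orderOf a : ℤ) ∣ dj ^ 2 := h1.trans (pow_dvd_pow_of_dvd hd_dvd 2)
  have h5 : (orderOf a : ℤ) ∣ dj * p := by
    rw [hdj', add_mul]
    apply dvd_add
    · exact dvd_mul_of_dvd_left (h1.trans h3) _
    · have : (j : ℤ) * d * p = j * (d * p) := by ring
      rw [this]; exact dvd_mul_of_dvd_right h2 _
  have hg := geom_sum_sub_dvd p hodd (orderOf a : ℤ) dj h4 h5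
  rw [hdj]
  have e : i * ∑ t ∈ Finset.range p, (1 + dj) ^ t - i * p
      = i * ((∑ t ∈ Finset.range p, (1 + dj) ^ t) - p) := by ring
  rw [e]; exact dvd_mul_of_dvd_right hg _


theorem dvd_one_add_pow_sub_one_mul (q d : ℤ) (p : ℕ) (h1 : q ∣ d ^ 2) (h2 : q ∣ d * p) (j : ℕ) :
    q ∣ ((1 + d) ^ j - 1) * p := by
  have h3 := sq_dvd_one_add_pow_sub d j
  have e : ((1 + d) ^ j - 1) * p = ((1 + d) ^ j - 1 - j * d) * p + j * (d * p) := by ring
  rw [e]
  exact dvd_add (dvd_mul_of_dvd_left (h1.trans h3) _) (dvd_mul_of_dvd_right h2 _)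

theorem omega_one_of_conj_one_add [Finite G] {p : ℕ} [hp : Fact p.Prime] (hodd : Odd p)
    {a b : G} (n : ℕ) (hn : 2 ≤ n) (hG : Nat.card G = p ^ n) (ha : orderOf a = p ^ (n - 1))
    (d : ℤ) (h1 : (orderOf a : ℤ) ∣ d ^ 2) (h2 : (orderOf a : ℤ) ∣ d * p)
    (hk : b * a * b⁻¹ = a ^ (1 + d)) (hb : b ^ p = 1)
    (hgen : ∀ g : G, ∃ (i : ℤ) (j : ℕ), g = a ^ i * b ^ j) :
    Cfsg.IsElementaryAbelian p (Subgroup.closure {x : G | x ^ p = 1}) ∧
      Nat.card (Subgroup.closure {x : G | x ^ p = 1}) = p ^ 2 := by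
  have hpow := mul_pow_prime_of_conj_one_add hodd d h1 h2 hk hb
  have hmul : ∀ x y : G, (x * y) ^ p = x ^ p * y ^ p := by
    intro x y
    obtain ⟨i, j, rfl⟩ := hgen x
    obtain ⟨i', j', rfl⟩ := hgen y
    have hβ := pow_conj_of_conj hk j i'
    have e : a ^ i * b ^ j * (a ^ i' * b ^ j')
        = a ^ (i + (1 + d) ^ j * i') * b ^ (j + j') := by
      rw [zpow_add, ← hβ, pow_add]; group
    rw [e, hpow, hpow, hpow, ← zpow_add, zpow_eq_zpow_iff_dvd]
    have e2 : (i + (1 + d) ^ j * i') * p - (i * p + i' * p) = i' * (((1 + d) ^ j - 1) * p) := by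
      ring
    rw [e2]
    exact dvd_mul_of_dvd_right (dvd_one_add_pow_sub_one_mul _ d p h1 h2 j) _
  let φ : G →* G :=
    { toFun := fun x => x ^ p
      map_one' := one_pow p
      map_mul' := hmul }
  have hker : (φ.ker : Set G) = {x : G | x ^ p = 1} := by
    ext x
    simp only [SetLike.mem_coe, MonoidHom.mem_ker]
    rfl
  have hrange : φ.range = Subgroup.zpowers (a ^ p) := by
    ext y
    constructor
    · rintro ⟨x, rfl⟩
      obtain ⟨i, j, rfl⟩ := hgen x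
      show (a ^ i * b ^ j) ^ p ∈ _
      rw [hpow, mul_comm, zpow_mul, zpow_natCast]
      exact Subgroup.zpow_mem _ (Subgroup.mem_zpowers _) i
    · intro hy
      obtain ⟨i, rfl⟩ := Subgroup.mem_zpowers_iff.mp hy
      refine ⟨a ^ i, ?_⟩
      show (a ^ i) ^ p = _
      rw [← zpow_natCast, ← zpow_mul, mul_comm, zpow_mul, zpow_natCast]
  have hrcard : Nat.card φ.range = p ^ (n - 2) := by
    rw [hrange, Nat.card_zpowers, orderOf_pow_of_dvd hp.out.ne_zero, ha]
    · have : n - 1 = (n - 2) + 1 := by omega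
      rw [this, pow_succ, Nat.mul_div_cancel _ hp.out.pos]
    · rw [ha]; exact dvd_pow_self p (by omega)
  have hkcard : Nat.card φ.ker = p ^ 2 := by
    have h3 := φ.ker.card_mul_index
    rw [Subgroup.index_ker, hrcard, hG] at h3
    have : p ^ n = p ^ 2 * p ^ (n - 2) := by rw [← pow_add]; congr 1; omega
    rw [this] at h3
    exact Nat.eq_of_mul_eq_mul_right (pow_pos hp.out.pos _) h3
  have hcl : Subgroup.closure {x : G | x ^ p = 1} = φ.ker := by
    rw [← hker, Subgroup.closure_eq]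
  rw [hcl]
  refine ⟨⟨?_, ?_⟩, hkcard⟩
  · exact IsPGroup.isMulCommutative_of_card_eq_prime_sq hkcard
  · intro x hx
    exact hx


theorem omega_one_of_odd_p_group_with_cyclic_maximal {R : Type u} [Group R] [Finite R] {p : ℕ}
    [hp : Fact p.Prime] (hp2 : p ≠ 2) (hR : IsPGroup p R) (hnc : ¬ IsCyclic R) (C : Subgroup R)
    (hC : IsCyclic C) (hCi : C.index = p) :
    Cfsg.IsElementaryAbelian p (Subgroup.closure {x : R | x ^ p = 1}) ∧
      Nat.card (Subgroup.closure {x : R | x ^ p = 1}) = p ^ 2 := by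
  have hodd : Odd p := hp.out.odd_of_ne_two hp2
  obtain ⟨n, hn⟩ := IsPGroup.iff_card.mp hR
  have hn2 : 2 ≤ n := by
    by_contra h
    push Not at h
    apply hnc
    interval_cases n
    · have : Subsingleton R := (Nat.card_eq_one_iff_unique.mp (by simpa using hn)).1
      infer_instance
    · exact isCyclic_of_prime_card (p := p) (by simpa using hn)
  obtain ⟨a, hCa, hord, hCn, hb⟩ := cyclic_max_setup n (by omega) hn C hC hCi
  have hCtop : C ≠ ⊤ := by
    intro h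
    rw [h, Subgroup.index_top] at hCi
    exact hp.out.ne_one hCi.symm
  obtain ⟨b₀, hb₀⟩ : ∃ b₀ : R, b₀ ∉ C := by
    by_contra hcon
    push Not at hcon
    exact hCtop (eq_top_iff.mpr (fun x _ => hcon x))
  obtain ⟨hbp, ⟨k, hk⟩, hgen⟩ := hb b₀ hb₀
  have hbp' := hbp
  rw [hCa] at hbp'
  obtain ⟨s, hs⟩ := Subgroup.mem_zpowers_iff.mp hbp'
  have hq : (orderOf a : ℤ) = (p : ℤ) ^ (n - 1) := by rw [hord]; norm_cast
  have hnotin : ∀ (i : ℤ) (t : ℕ), ¬ p ∣ t → a ^ i * b₀ ^ t ∉ C := by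
    intro i t hpt hmem
    apply pow_not_mem_of_not_dvd hp.out C hb₀ hbp hpt
    have : b₀ ^ t = (a ^ i)⁻¹ * (a ^ i * b₀ ^ t) := by group
    rw [this]
    refine C.mul_mem (C.inv_mem ?_) hmem
    rw [hCa]
    exact Subgroup.zpow_mem _ (Subgroup.mem_zpowers a) i
  by_cases hcomm : b₀ * a * b₀⁻¹ = a
  · have hk1 : b₀ * a * b₀⁻¹ = a ^ (1 : ℤ) := by rw [zpow_one]; exact hcomm
    have hps : (p : ℤ) ∣ s := by
      by_contra hns
      apply hnc
      have hprime : Prime (p : ℤ) := Nat.prime_iff_prime_int.mp hp.out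
      have hcop : IsCoprime s ((p : ℤ) ^ (n - 1)) :=
        (((hprime.coprime_iff_not_dvd).mpr hns).symm).pow_right
      obtain ⟨u, v, huv⟩ := hcop
      have ha_mem : a ∈ Subgroup.zpowers b₀ := by
        have h1 : a = (a ^ s) ^ u * (a ^ ((p : ℤ) ^ (n - 1))) ^ v := by
          rw [← zpow_mul, ← zpow_mul, ← zpow_add]
          have : s * u + (p : ℤ) ^ (n - 1) * v = 1 := by linarith
          rw [this, zpow_one]
        have h2 : a ^ ((p : ℤ) ^ (n - 1)) = 1 := by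
          rw [← orderOf_dvd_iff_zpow_eq_one, hq]
        rw [h2, one_zpow, mul_one, hs] at h1
        rw [h1]
        exact Subgroup.zpow_mem _ (Subgroup.pow_mem _ (Subgroup.mem_zpowers b₀) p) u
      rw [isCyclic_iff_exists_zpowers_eq_top]
      refine ⟨b₀, eq_top_iff.mpr ?_⟩
      intro g _
      obtain ⟨i, j, rfl⟩ := hgen g
      exact Subgroup.mul_mem _ (Subgroup.zpow_mem _ ha_mem i)
        (Subgroup.pow_mem _ (Subgroup.mem_zpowers b₀) j)
    obtain ⟨s', hs'⟩ := hps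
    have hbnot : a ^ (-s') * b₀ ^ 1 ∉ C :=
      hnotin (-s') 1 (fun h => hp.out.ne_one (Nat.dvd_one.mp h))
    rw [pow_one] at hbnot
    obtain ⟨-, -, hgen'⟩ := hb _ hbnot
    have hbp1 : (a ^ (-s') * b₀) ^ p = 1 := by
      rw [mul_pow_of_conj hk1 (-s') p, ← hs, ← zpow_add, ← orderOf_dvd_iff_zpow_eq_one]
      have : (-s' * ∑ j ∈ Finset.range p, (1 : ℤ) ^ j + s) = 0 := by
        simp only [one_pow, Finset.sum_const, Finset.card_range, nsmul_eq_mul, mul_one]
        rw [hs']; ring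
      rw [this]; exact dvd_zero _
    have hk' : (a ^ (-s') * b₀) * a * (a ^ (-s') * b₀)⁻¹ = a ^ (1 + (0 : ℤ)) := by
      rw [conj_mul_left_of_conj hk1, add_zero]
    exact omega_one_of_conj_one_add hodd n hn2 hn hord 0 (by simp) (by simp) hk' hbp1 hgen'
  · have hn3 : 3 ≤ n := by
      by_contra h
      have hn2' : n = 2 := by omega
      rw [hn2'] at hn
      apply hcomm
      have := (IsPGroup.isMulCommutative_of_card_eq_prime_sq hn).is_comm.comm b₀ a
      rw [this]; group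
    obtain ⟨t, i, hpt, hbp1, hconj⟩ :=
      odd_cyclic_max_structure hp.out hp2 (n - 1) (by omega) hord k s hk hs.symm hcomm
    have hbnot := hnotin i t hpt
    obtain ⟨-, -, hgen'⟩ := hb _ hbnot
    have hk' : (a ^ i * b₀ ^ t) * a * (a ^ i * b₀ ^ t)⁻¹ = a ^ (1 + (p : ℤ) ^ (n - 2)) := by
      rw [hconj, ← zpow_natCast]
      congr 1
    refine omega_one_of_conj_one_add hodd n hn2 hn hord ((p : ℤ) ^ (n - 2)) ?_ ?_ hk' hbp1 hgen'
    · rw [hq, ← pow_mul]
      exact pow_dvd_pow _ (by omega)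
    · rw [hq, ← pow_succ]
      exact pow_dvd_pow _ (by omega)

end Cfsg.Agent.Lib.Helper1
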