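import Mathlib
import Cfsg.Prelude.Def_Transfer
import Cfsg.Agent.Lib.Helper1.OmegaOneCyclicMax
import Cfsg.Agent.Lib.Helper2.PGroupNormal

set_option autoImplicit false
universe u
namespace Cfsg.Agent.Lib.Helper1
variable {G : Type u} [Group G]

theorem normal_closure_of_conj_mem (T : Set G) (h : ∀ t ∈ T, ∀ g : G, g * t * g⁻¹ ∈ T) :
    (Subgroup.closure T).Normal := by
  constructor
  intro a ha g
  induction ha using Subgroup.closure_induction with
  | mem x hx => exact Subgroup.subset_closure (h x hx g)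
  | one => simp
  | mul x y _ _ hx hy =>
    have : g * (x * y) * g⁻¹ = (g * x * g⁻¹) * (g * y * g⁻¹) := by group
    rw [this]; exact Subgroup.mul_mem _ hx hy
  | inv x _ hx =>
    have : g * x⁻¹ * g⁻¹ = (g * x * g⁻¹)⁻¹ := by group
    rw [this]; exact Subgroup.inv_mem _ hx

theorem exists_normal_elementary_sq_in_normal {R : Type u} [Group R] [Finite R] {p : ℕ}
    [hp : Fact p.Prime] (hp2 : p ≠ 2) (hR : IsPGroup p R) (S : Subgroup R) [hSn : S.Normal]
    (hS : ¬ IsCyclic S) :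
    ∃ A : Subgroup R, A ≤ S ∧ A.Normal ∧ Cfsg.IsElementaryAbelian p A ∧ Nat.card A = p ^ 2 := by
  let 𝒮 : Set (Subgroup R) := {N | N.Normal ∧ N ≤ S ∧ ¬ IsCyclic N}
  have h𝒮 : 𝒮.Nonempty := ⟨S, hSn, le_rfl, hS⟩
  obtain ⟨N, ⟨hNn, hNS, hNc⟩, hmin⟩ := Set.exists_min_image 𝒮 (fun N => Nat.card N)
    (Set.toFinite _) h𝒮
  obtain ⟨k, hk⟩ := IsPGroup.iff_card.mp (hR.to_subgroup N)
  have hk0 : k ≠ 0 := by
    rintro rfl
    rw [pow_zero] at hk
    apply hNc
    have : Subsingleton N := (Nat.card_eq_one_iff_unique.mp hk).1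
    infer_instance
  have hdvd : p ^ (k - 1) ∣ Nat.card N := by rw [hk]; exact pow_dvd_pow p (Nat.sub_le k 1)
  obtain ⟨M, hMN, hMn, hMcard⟩ := Cfsg.Agent.Lib.Helper2.exists_normal_le_card_eq_pow hR N hdvd
  have hMc : IsCyclic M := by
    by_contra hnc
    have h1 := hmin M ⟨hMn, hMN.trans hNS, hnc⟩
    rw [hk, hMcard] at h1
    have := (Nat.pow_le_pow_iff_right hp.out.one_lt).mp h1
    omega
  -- work in N
  have hCc : IsCyclic (M.subgroupOf N) := by
    have e := Subgroup.subgroupOfEquivOfLe hMN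
    exact isCyclic_of_surjective e.symm.toMonoidHom e.symm.surjective
  have hCi : (M.subgroupOf N).index = p := by
    have h1 := Subgroup.relIndex_mul_relIndex ⊥ M N bot_le hMN
    rw [Subgroup.relIndex_bot_left, Subgroup.relIndex_bot_left, hMcard, hk] at h1
    have h2 : p ^ k = p ^ (k - 1) * p := by rw [← pow_succ, Nat.sub_add_cancel (by omega)]
    rw [h2] at h1
    exact Nat.eq_of_mul_eq_mul_left (pow_pos hp.out.pos _) h1
  obtain ⟨hel, hcard⟩ := omega_one_of_odd_p_group_with_cyclic_maximal hp2 (hR.to_subgroup N) hNc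
    (M.subgroupOf N) hCc hCi
  obtain ⟨Ω, hΩ⟩ : ∃ Ω : Subgroup N, Ω = Subgroup.closure {x : N | x ^ p = 1} := ⟨_, rfl⟩
  rw [← hΩ] at hel hcard
  refine ⟨Ω.map N.subtype, (Subgroup.map_subtype_le _).trans hNS, ?_, ?_, ?_⟩
  · -- normal
    have h1 : Ω.map N.subtype = Subgroup.closure {y : R | y ∈ N ∧ y ^ p = 1} := by
      rw [hΩ, MonoidHom.map_closure]
      congr 1
      ext y
      constructor
      · rintro ⟨x, hx, rfl⟩
        refine ⟨x.2, ?_⟩
        have : ((x ^ p : N) : R) = 1 := by rw [hx]; rfl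
        simpa using this
      · rintro ⟨hyN, hyp⟩
        exact ⟨⟨y, hyN⟩, Subtype.ext hyp, rfl⟩
    rw [h1]
    apply normal_closure_of_conj_mem
    rintro t ⟨htN, htp⟩ g
    refine ⟨hNn.conj_mem t htN g, ?_⟩
    rw [conj_pow, htp]; group
  · have hc : Nat.card (Ω.map N.subtype) = p ^ 2 := by
      rw [Subgroup.card_map_of_injective N.subtype_injective, hcard]
    refine ⟨IsPGroup.isMulCommutative_of_card_eq_prime_sq hc, ?_⟩
    rintro a ⟨x, hx, rfl⟩
    have := hel.2 x hx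
    have h2 : ((x ^ p : N) : R) = 1 := by rw [this]; rfl
    simpa using h2
  · rw [Subgroup.card_map_of_injective N.subtype_injective, hcard]

end Cfsg.Agent.Lib.Helper1
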