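import Mathlib
import Cfsg.Prelude.Def_PLocal
import Cfsg.Agent.Lib.Helper1.ThompsonBasic

/-! Thompson subgroup: characteristic, nontrivial, relative versions. -/
set_option autoImplicit false
universe u v
open Cfsg
open scoped commutatorElement

namespace Cfsg.Agent.Lib.Helper1

variable {G : Type u} [Group G] {p : ℕ}

theorem thompsonSubgroup_characteristic (p : ℕ) (G : Type u) [Group G] :
    (thompsonSubgroup p G).Characteristic := by
  rw [Subgroup.characteristic_iff_map_le]
  intro ϕ
  rw [Subgroup.map_le_iff_le_comap]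
  apply sSup_le
  intro A hA
  rw [← Subgroup.map_le_iff_le_comap]
  exact le_thompsonSubgroup (mem_maxElementaryAbelianSubgroups_map_equiv ϕ hA)

theorem isElementaryAbelian_zpowers {x : G} (hx : x ^ p = 1) :
    IsElementaryAbelian p (Subgroup.zpowers x) := by
  rw [isElementaryAbelian_iff]
  constructor
  · intro a ha b hb
    obtain ⟨k, rfl⟩ := Subgroup.mem_zpowers_iff.mp ha
    obtain ⟨l, rfl⟩ := Subgroup.mem_zpowers_iff.mp hb
    exact ((Commute.refl x).zpow_zpow k l).eq
  · intro a ha
    obtain ⟨k, rfl⟩ := Subgroup.mem_zpowers_iff.mp ha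
    rw [← zpow_natCast, ← zpow_mul, mul_comm, zpow_mul, zpow_natCast, hx, one_zpow]

theorem thompsonSubgroup_ne_bot [Finite G] [hp : Fact p.Prime] (h : p ∣ Nat.card G) :
    thompsonSubgroup p G ≠ ⊥ := by
  obtain ⟨x, hx⟩ := exists_prime_orderOf_dvd_card' p h
  obtain ⟨A, hA⟩ := exists_mem_maxElementaryAbelianSubgroups (G := G) p
  have h1 : IsElementaryAbelian p (Subgroup.zpowers x) :=
    isElementaryAbelian_zpowers (by rw [← hx]; exact pow_orderOf_eq_one x)
  have h2 := hA.2 _ h1
  rw [Nat.card_zpowers, hx] at h2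
  intro hJ
  have h3 : A = ⊥ := by
    rw [eq_bot_iff, ← hJ]; exact le_thompsonSubgroup hA
  rw [h3, Subgroup.card_bot] at h2
  exact absurd h2 (by have := hp.out.two_le; omega)

/-- (b) -/
theorem mem_maxElementaryAbelianSubgroups_subgroupOf {A U : Subgroup G}
    (hA : A ∈ maxElementaryAbelianSubgroups p G) (hAU : A ≤ U) :
    A.subgroupOf U ∈ maxElementaryAbelianSubgroups p U := by
  refine ⟨isElementaryAbelian_comap_of_injective hA.1 _ U.subtype_injective, ?_⟩
  intro B hB
  have h1 : Nat.card (A.subgroupOf U) = Nat.card A :=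
    Nat.card_congr (Subgroup.subgroupOfEquivOfLe hAU).toEquiv
  have h2 : Nat.card (B.map U.subtype) = Nat.card B :=
    Subgroup.card_map_of_injective U.subtype_injective
  rw [h1, ← h2]
  exact hA.2 _ (isElementaryAbelian_map hB _)

/-- (a) -/
theorem mem_maxElementaryAbelianSubgroups_map_subtype {A₀ U : Subgroup G}
    (hA₀ : A₀ ∈ maxElementaryAbelianSubgroups p G) (hAU : A₀ ≤ U) {B : Subgroup U}
    (hB : B ∈ maxElementaryAbelianSubgroups p U) :
    B.map U.subtype ∈ maxElementaryAbelianSubgroups p G := by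
  refine ⟨isElementaryAbelian_map hB.1 _, ?_⟩
  intro C hC
  have h1 : Nat.card (A₀.subgroupOf U) = Nat.card A₀ :=
    Nat.card_congr (Subgroup.subgroupOfEquivOfLe hAU).toEquiv
  have h2 : Nat.card (B.map U.subtype) = Nat.card B :=
    Subgroup.card_map_of_injective U.subtype_injective
  rw [h2]
  calc Nat.card C ≤ Nat.card A₀ := hA₀.2 C hC
    _ = Nat.card (A₀.subgroupOf U) := h1.symm
    _ ≤ Nat.card B := hB.2 _ (mem_maxElementaryAbelianSubgroups_subgroupOf hA₀ hAU).1

theorem thompsonSubgroupOf_le {A₀ U : Subgroup G}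
    (hA₀ : A₀ ∈ maxElementaryAbelianSubgroups p G) (hAU : A₀ ≤ U) :
    thompsonSubgroupOf p U ≤ thompsonSubgroup p G := by
  unfold thompsonSubgroupOf
  rw [Subgroup.map_le_iff_le_comap]
  apply sSup_le
  intro B hB
  rw [← Subgroup.map_le_iff_le_comap]
  exact le_thompsonSubgroup (mem_maxElementaryAbelianSubgroups_map_subtype hA₀ hAU hB)

theorem le_thompsonSubgroupOf {A U : Subgroup G}
    (hA : A ∈ maxElementaryAbelianSubgroups p G) (hAU : A ≤ U) :
    A ≤ thompsonSubgroupOf p U := by
  unfold thompsonSubgroupOf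
  have h1 : A = (A.subgroupOf U).map U.subtype := by
    rw [Subgroup.subgroupOf_map_subtype, inf_eq_left.mpr hAU]
  rw [h1]
  exact Subgroup.map_mono (le_thompsonSubgroup (mem_maxElementaryAbelianSubgroups_subgroupOf hA hAU))

theorem thompsonSubgroupOf_eq [Finite G] (U : Subgroup G) (hU : thompsonSubgroup p G ≤ U) :
    thompsonSubgroupOf p U = thompsonSubgroup p G := by
  obtain ⟨A₀, hA₀⟩ := exists_mem_maxElementaryAbelianSubgroups (G := G) p
  apply le_antisymm
  · exact thompsonSubgroupOf_le hA₀ ((le_thompsonSubgroup hA₀).trans hU)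
  · apply sSup_le
    intro A hA
    exact le_thompsonSubgroupOf hA ((le_thompsonSubgroup hA).trans hU)

theorem thompsonSubgroup_eq_iSup_sylow [Finite G] [hp : Fact p.Prime] :
    thompsonSubgroup p G = ⨆ S : Sylow p G, thompsonSubgroupOf p (S : Subgroup G) := by
  apply le_antisymm
  · apply sSup_le
    intro A hA
    obtain ⟨S, hS⟩ := (isElementaryAbelian_isPGroup hA.1).exists_le_sylow
    exact (le_thompsonSubgroupOf hA hS).trans (le_iSup (fun S : Sylow p G => thompsonSubgroupOf p (S : Subgroup G)) S)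
  · apply iSup_le
    intro S
    obtain ⟨A₀, hA₀⟩ := exists_mem_maxElementaryAbelianSubgroups (G := G) p
    obtain ⟨S', hS'⟩ := (isElementaryAbelian_isPGroup hA₀.1).exists_le_sylow
    obtain ⟨g, hg⟩ := MulAction.exists_smul_eq G S' S
    have h1 := mem_maxElementaryAbelianSubgroups_map_equiv (MulAut.conj g) hA₀
    refine thompsonSubgroupOf_le h1 ?_
    rw [← hg, Sylow.coe_subgroup_smul]
    rintro _ ⟨a, ha, rfl⟩
    exact Subgroup.smul_mem_pointwise_smul _ _ _ (hS' ha)

theorem mem_thompsonSubgroup_of_mem_centralizer [Finite G] [hp : Fact p.Prime] (x : G)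
    (hx : x ∈ Subgroup.centralizer (thompsonSubgroup p G : Set G)) (ho : x ^ p = 1) :
    x ∈ thompsonSubgroup p G := by
  obtain ⟨A, hA⟩ := exists_mem_maxElementaryAbelianSubgroups (G := G) p
  have h1 : IsElementaryAbelian p (Subgroup.zpowers x) := isElementaryAbelian_zpowers ho
  have h2 : Subgroup.zpowers x ≤ Subgroup.centralizer (A : Set G) := by
    rw [Subgroup.zpowers_le]
    exact Subgroup.centralizer_le (le_thompsonSubgroup hA) hx
  have h3 := isElementaryAbelian_sup_of_le_centralizer hA.1 h1 h2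
  have h4 := hA.2 _ h3
  have h5 : A = A ⊔ Subgroup.zpowers x := Subgroup.eq_of_le_of_card_ge le_sup_left h4
  apply le_thompsonSubgroup hA
  rw [h5]
  exact (le_sup_right : Subgroup.zpowers x ≤ _) (Subgroup.mem_zpowers x)

end Cfsg.Agent.Lib.Helper1
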