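import Mathlib
import Cfsg.Prelude.Def_PLocal
import Cfsg.Agent.Lib.Helper1.ThompsonBasic2
import Cfsg.Agent.Lib.Helper1.NormalElementarySq
set_option autoImplicit false
open Cfsg
universe u v
namespace Cfsg.Agent.Lib.Helper1
variable {S : Type u} [Group S] {p : ℕ}

theorem thompsonSubgroup_map_equiv {S' : Type v} [Group S'] (e : S ≃* S') :
    (thompsonSubgroup p S).map e.toMonoidHom = thompsonSubgroup p S' := by
  apply le_antisymm
  · rw [Subgroup.map_le_iff_le_comap]
    apply sSup_le
    intro A hA
    rw [← Subgroup.map_le_iff_le_comap]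
    exact le_thompsonSubgroup (mem_maxElementaryAbelianSubgroups_map_equiv e hA)
  · apply sSup_le
    intro A hA
    have h1 := mem_maxElementaryAbelianSubgroups_map_equiv e.symm hA
    have h2 : A = (A.map e.symm.toMonoidHom).map e.toMonoidHom := by
      rw [Subgroup.map_map]
      ext x
      simp
    rw [h2]
    exact Subgroup.map_mono (le_thompsonSubgroup h1)

theorem omegaOne_map_of_injective {H' : Type v} [Group H'] (f : S →* H')
    (hf : Function.Injective f) (K : Subgroup S) :
    (omegaOne p K).map f = omegaOne p (K.map f) := by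
  unfold omegaOne
  rw [MonoidHom.map_closure]
  congr 1
  ext y
  constructor
  · rintro ⟨x, ⟨hxK, hxp⟩, rfl⟩
    exact ⟨⟨x, hxK, rfl⟩, by rw [← map_pow, hxp, map_one]⟩
  · rintro ⟨⟨x, hxK, rfl⟩, hyp⟩
    refine ⟨x, ⟨hxK, ?_⟩, rfl⟩
    apply hf
    rw [map_pow, hyp, map_one]

theorem map_inf_centralizer_of_injective {H' : Type v} [Group H'] (f : S →* H')
    (hf : Function.Injective f) (K : Subgroup S) :
    (K ⊓ Subgroup.centralizer (K : Set S)).map f =
      K.map f ⊓ Subgroup.centralizer ((K.map f : Subgroup H') : Set H') := by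
  ext y
  constructor
  · rintro ⟨x, ⟨hxK, hxc⟩, rfl⟩
    refine ⟨⟨x, hxK, rfl⟩, ?_⟩
    change f x ∈ Subgroup.centralizer _
    change x ∈ Subgroup.centralizer _ at hxc
    rw [Subgroup.mem_centralizer_iff]
    rintro _ ⟨k, hk, rfl⟩
    rw [← map_mul, ← map_mul, (Subgroup.mem_centralizer_iff.mp hxc) k hk]
  · rintro ⟨⟨x, hxK, rfl⟩, hc⟩
    refine ⟨x, ⟨hxK, ?_⟩, rfl⟩
    change x ∈ Subgroup.centralizer _
    change f x ∈ Subgroup.centralizer _ at hc
    rw [Subgroup.mem_centralizer_iff]
    intro k hk
    apply hf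
    rw [map_mul, map_mul]
    exact (Subgroup.mem_centralizer_iff.mp hc) (f k) ⟨k, hk, rfl⟩

theorem omegaCenterThompson_map_of_injective {H' : Type v} [Group H'] (f : S →* H')
    (hf : Function.Injective f) :
    (omegaCenterThompson p S).map f =
      omegaOne p ((thompsonSubgroup p S).map f ⊓
        Subgroup.centralizer (((thompsonSubgroup p S).map f : Subgroup H') : Set H')) := by
  unfold omegaCenterThompson
  rw [omegaOne_map_of_injective f hf, map_inf_centralizer_of_injective f hf]

theorem omegaCenterThompson_map_equiv {S' : Type v} [Group S'] (e : S ≃* S') :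
    (omegaCenterThompson p S).map e.toMonoidHom = omegaCenterThompson p S' := by
  rw [omegaCenterThompson_map_of_injective _ e.injective, thompsonSubgroup_map_equiv]
  rfl

theorem omegaOne_normal {H : Type v} [Group H] (X : Subgroup H) [hX : X.Normal] :
    (omegaOne p X).Normal := by
  apply normal_closure_of_conj_mem
  rintro t ⟨htN, htp⟩ g
  refine ⟨hX.conj_mem t htN g, ?_⟩
  rw [conj_pow, htp]
  group

theorem omegaCenterThompson_map_normal {H : Type v} [Group H] (f : S →* H)
    (hf : Function.Injective f) (hn : ((thompsonSubgroup p S).map f).Normal) :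
    ((omegaCenterThompson p S).map f).Normal := by
  rw [omegaCenterThompson_map_of_injective f hf]
  exact omegaOne_normal _

theorem center_map_equiv {S' : Type v} [Group S'] (e : S ≃* S') :
    (Subgroup.center S).map e.toMonoidHom = Subgroup.center S' := by
  ext y
  constructor
  · rintro ⟨x, hx, rfl⟩
    rw [Subgroup.mem_center_iff]
    intro g
    obtain ⟨g', rfl⟩ := e.surjective g
    have := Subgroup.mem_center_iff.mp hx g'
    change e g' * e x = e x * e g'
    rw [← map_mul, ← map_mul, this]
  · intro hy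
    refine ⟨e.symm y, ?_, by simp⟩
    change e.symm y ∈ Subgroup.center S
    rw [Subgroup.mem_center_iff]
    intro g
    apply e.injective
    rw [map_mul, map_mul, e.apply_symm_apply]
    exact Subgroup.mem_center_iff.mp hy (e g)

theorem isStableEmbedding_comp_equiv {S S' H : Type u} [Group S] [Group S'] [Group H] {p : ℕ}
    (e : S ≃* S') (τ : S' →* H) (h : IsStableEmbedding p τ) :
    IsStableEmbedding p (τ.comp e.toMonoidHom) := by
  obtain ⟨h1, h2, ⟨P, hP⟩, h4, h5, h6⟩ := h
  refine ⟨h1.comp e.injective, h2, ⟨P, ?_⟩, h4, ?_, ?_⟩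
  · rw [hP]
    ext y
    constructor
    · rintro ⟨x, rfl⟩
      exact ⟨e.symm x, by simp⟩
    · rintro ⟨x, rfl⟩
      exact ⟨e x, rfl⟩
  · rw [← Subgroup.map_map, thompsonSubgroup_map_equiv]
    exact h5
  · intro V hV hle
    apply h6 V
    rw [← Subgroup.map_map, omegaCenterThompson_map_equiv] at hle
    exact hle

theorem stableNormalClosure_map_le {S S' : Type u} [Group S] [Group S'] {p : ℕ} (η : S ≃* S') :
    (stableNormalClosure p S).map η.toMonoidHom ≤ stableNormalClosure p S' := by
  unfold stableNormalClosure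
  apply le_sInf
  rintro W' ⟨hW1, hW2⟩
  rw [Subgroup.map_le_iff_le_comap]
  apply sInf_le
  refine ⟨?_, ?_⟩
  · rw [← Subgroup.map_le_iff_le_comap, omegaOne_map_of_injective _ η.injective, center_map_equiv]
    exact hW1
  · intro H _ τ hτ
    have h1 := isStableEmbedding_comp_equiv η.symm τ hτ
    have h2 := hW2 H _ h1
    rw [← Subgroup.map_map, ← Subgroup.comap_equiv_eq_map_symm'] at h2
    exact h2

theorem stableNormalClosure_map_equiv {S S' : Type u} [Group S] [Group S'] {p : ℕ} (η : S ≃* S') :
    (stableNormalClosure p S).map η.toMonoidHom = stableNormalClosure p S' := by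
  apply le_antisymm (stableNormalClosure_map_le η)
  have h := stableNormalClosure_map_le (p := p) η.symm
  intro x hx
  obtain ⟨y, rfl⟩ := η.surjective x
  have h3 : η.symm.toMonoidHom (η y) ∈ stableNormalClosure p S := h ⟨η y, hx, rfl⟩
  have h4 : η.symm.toMonoidHom (η y) = y := by simp
  rw [h4] at h3
  exact ⟨y, h3, rfl⟩

theorem omegaOne_center_le_omegaCenterThompson [Finite S] [hp : Fact p.Prime] :
    omegaOne p (Subgroup.center S) ≤ omegaCenterThompson p S := by
  unfold omegaCenterThompson
  unfold omegaOne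
  apply Subgroup.closure_mono
  rintro x ⟨hxZ, hxp⟩
  have hc : x ∈ Subgroup.centralizer (thompsonSubgroup p S : Set S) :=
    Subgroup.center_le_centralizer _ hxZ
  exact ⟨⟨mem_thompsonSubgroup_of_mem_centralizer x hc hxp, hc⟩, hxp⟩

theorem omegaOne_center_ne_bot [Finite S] [hp : Fact p.Prime] (hS : IsPGroup p S) [Nontrivial S] :
    omegaOne p (Subgroup.center S) ≠ ⊥ := by
  have hnt : Nontrivial (Subgroup.center S) := hS.center_nontrivial
  have hZ : IsPGroup p (Subgroup.center S) := hS.to_subgroup _
  obtain ⟨k, hk0, hk⟩ := (hZ.nontrivial_iff_card).mp hnt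
  have hdvd : p ∣ Nat.card (Subgroup.center S) := by rw [hk]; exact dvd_pow_self p hk0.ne'
  obtain ⟨x, hx⟩ := exists_prime_orderOf_dvd_card' p hdvd
  intro hbot
  have hmem : (x : S) ∈ omegaOne p (Subgroup.center S) := by
    apply Subgroup.subset_closure
    refine ⟨x.2, ?_⟩
    have : x ^ p = 1 := by rw [← hx]; exact pow_orderOf_eq_one x
    have h2 := congrArg Subtype.val this
    simpa using h2
  rw [hbot, Subgroup.mem_bot] at hmem
  have : x = 1 := Subtype.ext hmem
  rw [this, orderOf_one] at hx
  exact hp.out.one_lt.ne hx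

theorem stableNormalClosure_basic {S : Type u} [Group S] [Finite S] {p : ℕ} [Fact p.Prime]
    (hS : IsPGroup p S) :
    (stableNormalClosure p S).Characteristic ∧
      omegaOne p (Subgroup.center S) ≤ stableNormalClosure p S ∧
      stableNormalClosure p S ≤ omegaCenterThompson p S ∧
      (Nontrivial S → stableNormalClosure p S ≠ ⊥) ∧
      ∀ (S' : Type u) [Group S'] (η : S ≃* S'),
        (stableNormalClosure p S).map η.toMonoidHom = stableNormalClosure p S' := by
  have h2 : omegaOne p (Subgroup.center S) ≤ stableNormalClosure p S := by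
    apply le_sInf
    rintro W ⟨hW, _⟩
    exact hW
  refine ⟨?_, h2, ?_, ?_, ?_⟩
  · rw [Subgroup.characteristic_iff_map_eq]
    intro ϕ
    exact stableNormalClosure_map_equiv ϕ
  · apply sInf_le
    refine ⟨omegaOne_center_le_omegaCenterThompson, ?_⟩
    intro H _ τ hτ
    exact omegaCenterThompson_map_normal τ hτ.1 hτ.2.2.2.2.1
  · intro hnt hbot
    apply omegaOne_center_ne_bot hS
    rw [eq_bot_iff, ← hbot]
    exact h2
  · intro S' _ η
    exact stableNormalClosure_map_equiv η

end Cfsg.Agent.Lib.Helper1
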