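import Mathlib
import Cfsg.Prelude.Def_PLocal
import Cfsg.Agent.Lib.Helper1.ZJ9
set_option autoImplicit false
open scoped Pointwise commutatorElement
universe u v
namespace Cfsg.Agent.Lib.Helper1.ZJ

variable {G : Type u} [Group G]

theorem centerThompsonAOf_le [Finite G] (X : Subgroup G) : Cfsg.centerThompsonAOf X ≤ X := by
  rw [centerThompsonAOf_eq]
  exact (zjFamily_A 2).sInf_le_self X

/-- Frattini argument for a `p`-subgroup `Z` and a normal `p'`-subgroup `N` with `N ⊔ Z` normal. -/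
theorem sup_normalizer_eq_top_of_sup_normal [Finite G] {p : ℕ} [hp : Fact p.Prime]
    (N : Subgroup G) [hNn : N.Normal] (hN : (Nat.card N).Coprime p) (Z : Subgroup G)
    (hZ : IsPGroup p Z) (hK : (Z ⊔ N).Normal) :
    N ⊔ Subgroup.normalizer (Z : Set G) = ⊤ := by
  obtain ⟨K, hKdef⟩ : ∃ K, K = Z ⊔ N := ⟨_, rfl⟩
  rw [← hKdef] at hK
  have hZK : Z ≤ K := hKdef ▸ le_sup_left
  have hZp' : IsPGroup p (Z.subgroupOf K) := hZ.comap_subtype
  have hidx : ¬ p ∣ (Z.subgroupOf K).index := by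
    change ¬ p ∣ Z.relIndex K
    rw [hKdef, ← relIndex_eq_relIndex_sup_of_normal]
    intro h
    have h1 : p ∣ Nat.card N := h.trans (Subgroup.relIndex_dvd_card Z N)
    have h2 : p ∣ Nat.gcd (Nat.card N) p := Nat.dvd_gcd h1 dvd_rfl
    rw [hN] at h2
    exact hp.out.one_lt.ne' (Nat.dvd_one.mp h2)
  have hfr := Sylow.normalizer_sup_eq_top (hZp'.toSylow hidx)
  have e1 : ((hZp'.toSylow hidx : Sylow p K) : Subgroup K) = Z.subgroupOf K := rfl
  rw [e1, Subgroup.map_subgroupOf_eq_of_le hZK] at hfr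
  rw [eq_top_iff, ← hfr]
  apply sup_le le_sup_right
  rw [hKdef]
  apply sup_le _ le_sup_left
  exact Subgroup.le_normalizer.trans le_sup_right

/-- S0667 -/
theorem zj_factorization [Finite G] {p : ℕ} [hp : Fact p.Prime] (hc : Cfsg.IsPConstrained p G)
    (hs : Cfsg.IsPStable p G) (P : Sylow p G) :
    Cfsg.pPrimeCore p G ⊔ Subgroup.normalizer (Cfsg.centerThompsonAOf ((P : Subgroup G)) : Set G) = ⊤ ∧
      (Cfsg.pPrimeCore p G = ⊥ → (Cfsg.centerThompsonAOf ((P : Subgroup G))).Normal) := by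
  constructor
  swap
  · intro hO
    have := zj_of_constrained_stable hO hc hs P
    infer_instance
  obtain ⟨N, hN⟩ : ∃ N, N = Cfsg.pPrimeCore p G := ⟨_, rfl⟩
  have hNc : (Nat.card (Cfsg.pPrimeCore p G)).Coprime p := pPrimeCore_card_coprime p
  have hsq : Cfsg.IsPStable p (G ⧸ Cfsg.pPrimeCore p G) := (isPStable_iff_quotient hs.2.1).mp hs
  have hcq : Cfsg.IsPConstrained p (G ⧸ Cfsg.pPrimeCore p G) := isPConstrained_iff_quotient.mp hc
  have hOq : Cfsg.pPrimeCore p (G ⧸ Cfsg.pPrimeCore p G) = ⊥ := pPrimeCore_quotient_eq_bot p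
  have hchar := zj_of_constrained_stable hOq hcq hsq
    (Sylow.mapSurjective (QuotientGroup.mk'_surjective (Cfsg.pPrimeCore p G)) P)
  have hdisj : (P : Subgroup G) ⊓ Cfsg.pPrimeCore p G = ⊥ := by
    apply Disjoint.eq_bot
    apply Subgroup.disjoint_of_coprime_natCard
    obtain ⟨k, hk⟩ := P.2.exists_card_eq
    rw [hk]
    exact Nat.Coprime.pow_left _ hNc.symm
  have hinj : Set.InjOn (QuotientGroup.mk' (Cfsg.pPrimeCore p G)) (P : Subgroup G) := by
    intro x hx y hy hxy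
    have h1 : x⁻¹ * y ∈ Cfsg.pPrimeCore p G := by
      rw [← QuotientGroup.eq]; exact hxy
    have h2 : x⁻¹ * y ∈ (P : Subgroup G) ⊓ Cfsg.pPrimeCore p G :=
      ⟨(P : Subgroup G).mul_mem ((P : Subgroup G).inv_mem hx) hy, h1⟩
    rw [hdisj, Subgroup.mem_bot] at h2
    exact inv_mul_eq_one.mp h2
  rw [Sylow.coe_mapSurjective, centerThompsonAOf_map_of_injOn _ _ hinj] at hchar
  obtain ⟨Z, hZ⟩ : ∃ Z, Z = Cfsg.centerThompsonAOf (P : Subgroup G) := ⟨_, rfl⟩
  rw [← hZ] at hchar ⊢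
  have hZP : Z ≤ P := hZ ▸ centerThompsonAOf_le _
  have hZp : IsPGroup p Z := P.2.to_le hZP
  have hKn : (Z ⊔ Cfsg.pPrimeCore p G).Normal := by
    have h1 : ((Z.map (QuotientGroup.mk' (Cfsg.pPrimeCore p G))).comap
        (QuotientGroup.mk' (Cfsg.pPrimeCore p G))).Normal := by
      have : (Z.map (QuotientGroup.mk' (Cfsg.pPrimeCore p G))).Normal := inferInstance
      exact Subgroup.Normal.comap this _
    rwa [Subgroup.comap_map_eq, QuotientGroup.ker_mk'] at h1
  exact sup_normalizer_eq_top_of_sup_normal _ hNc Z hZp hKn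

end Cfsg.Agent.Lib.Helper1.ZJ
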