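import Mathlib
import Cfsg.Prelude.Def_PLocal
import Cfsg.Agent.Lib.Helper1.ZJ10
set_option autoImplicit false
open scoped Pointwise commutatorElement
universe u v
namespace Cfsg.Agent.Lib.Helper1.ZJ

variable {G : Type u} [Group G]

theorem lt_inf_normalizer_of_lt [Finite G] {p : ℕ} [hp : Fact p.Prime] {R T : Subgroup G}
    (hT : IsPGroup p T) (hlt : R < T) : R < T ⊓ Subgroup.normalizer (R : Set G) := by
  have : Group.IsNilpotent T := hT.isNilpotent
  have nc := Group.normalizerCondition_of_isNilpotent (G := T)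
  have h1 : R.subgroupOf T < ⊤ := by
    rw [lt_top_iff_ne_top, Ne, Subgroup.subgroupOf_eq_top]
    exact not_le_of_gt hlt
  have h2 := nc _ h1
  rw [← Subgroup.subgroupOf_normalizer_eq hlt.le] at h2
  obtain ⟨x, hx, hxR⟩ := SetLike.exists_of_lt h2
  rw [Subgroup.mem_subgroupOf] at hx hxR
  apply lt_of_le_of_ne (le_inf hlt.le Subgroup.le_normalizer)
  intro he
  apply hxR
  rw [he]
  exact ⟨x.2, hx⟩

theorem exists_conj_le_sylow_of_le [Finite G] {p : ℕ} [hp : Fact p.Prime] (P : Sylow p G)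
    {M T : Subgroup G} (hPM : (P : Subgroup G) ≤ M) (hTM : T ≤ M) (hT : IsPGroup p T) :
    ∃ m ∈ M, ∀ t ∈ T, m * t * m⁻¹ ∈ (P : Subgroup G) := by
  have hT' : IsPGroup p (T.subgroupOf M) := hT.comap_subtype
  obtain ⟨S', hS'⟩ := hT'.exists_le_sylow
  obtain ⟨m, hm⟩ := MulAction.exists_smul_eq M S' (P.subtype hPM)
  refine ⟨m, m.2, ?_⟩
  intro t ht
  have h1 : (⟨t, hTM ht⟩ : M) ∈ (S' : Subgroup M) := hS' (by rw [Subgroup.mem_subgroupOf]; exact ht)
  have h2 : MulAut.conj m • (S' : Subgroup M) = ((P.subtype hPM : Sylow p M) : Subgroup M) := by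
    rw [← Sylow.pointwise_smul_def, ← Sylow.smul_def, hm]
  have h3 : MulAut.conj m • (⟨t, hTM ht⟩ : M) ∈ MulAut.conj m • (S' : Subgroup M) :=
    Subgroup.smul_mem_pointwise_smul _ _ _ h1
  rw [h2, Sylow.coe_subtype, Subgroup.mem_subgroupOf] at h3
  simpa using h3

theorem mem_sInf_of_central [Finite G] {X : Subgroup G} {z : G} (hz : z ∈ X)
    (hzc : ∀ x ∈ X, z * x = x * z) : z ∈ sInf (FPr (PrA (G := G)) X) := by
  rw [Subgroup.mem_sInf]
  intro A hA
  have h1 : Subgroup.closure ((A : Set G) ∪ {z}) ≤ X := by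
    rw [Subgroup.closure_le]
    rintro t (ht | ht)
    · exact hA.1 ht
    · rw [Set.mem_singleton_iff] at ht
      rw [ht]; exact hz
  have hcomm : PrA (Subgroup.closure ((A : Set G) ∪ {z})) := by
    have h0 : ∀ x ∈ (A : Set G) ∪ {z}, ∀ y ∈ (A : Set G) ∪ {z}, x * y = y * x := by
      rintro x (hx | hx) y (hy | hy)
      · exact hA.2.1 x hx y hy
      · rw [Set.mem_singleton_iff] at hy
        rw [hy]; exact (hzc x (hA.1 hx)).symm
      · rw [Set.mem_singleton_iff] at hx
        rw [hx]; exact hzc y (hA.1 hy)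
      · rw [Set.mem_singleton_iff] at hx hy
        rw [hx, hy]
    have := Subgroup.isMulCommutative_closure h0
    intro x hx y hy
    have h2 := mul_comm' (⟨x, hx⟩ : Subgroup.closure ((A : Set G) ∪ {z})) ⟨y, hy⟩
    exact congrArg Subtype.val h2
  have h2 := hA.2.2 _ h1 hcomm
  have h3 : A ≤ Subgroup.closure ((A : Set G) ∪ {z}) := by
    intro a ha
    exact Subgroup.subset_closure (Or.inl ha)
  have h4 := Subgroup.eq_of_le_of_card_ge h3 h2
  rw [h4]
  exact Subgroup.subset_closure (Or.inr rfl)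

theorem centerThompsonAOf_ne_bot [Finite G] {p : ℕ} [hp : Fact p.Prime] {R : Subgroup G}
    (hR : IsPGroup p R) (hne : R ≠ ⊥) : Cfsg.centerThompsonAOf R ≠ ⊥ := by
  have : Nontrivial R := (Subgroup.nontrivial_iff_ne_bot R).mpr hne
  have := hR.center_nontrivial
  obtain ⟨z, hz⟩ := exists_ne (1 : Subgroup.center R)
  have hzc : ∀ x ∈ R, ((z : R) : G) * x = x * ((z : R) : G) := by
    intro x hx
    have := Subgroup.mem_center_iff.mp z.2 ⟨x, hx⟩
    have h2 := congrArg Subtype.val this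
    simpa using h2.symm
  have hmem : ((z : R) : G) ∈ Cfsg.centerThompsonAOf R := by
    rw [centerThompsonAOf_eq]
    exact mem_sInf_of_central (z : R).2 hzc
  intro hbot
  rw [hbot, Subgroup.mem_bot] at hmem
  apply hz
  apply Subtype.ext
  apply Subtype.ext
  simpa using hmem

theorem normalizer_le_normalizer_centerThompsonAOf [Finite G] (R : Subgroup G) :
    Subgroup.normalizer (R : Set G) ≤ Subgroup.normalizer (Cfsg.centerThompsonAOf R : Set G) := by
  rw [centerThompsonAOf_eq]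
  exact (zjFamily_A 2).le_normalizer_sInf R

/-- the ZJ theorem for a `p`-local -/
theorem local_le_normalizer_ZJ [Finite G] {p : ℕ} [hp : Fact p.Prime]
    (hloc : ∀ Q : Subgroup G, IsPGroup p Q → Q ≠ ⊥ →
      Cfsg.pPrimeCore p ↥(Subgroup.normalizer (Q : Set G)) = ⊥ ∧
      Cfsg.IsPConstrained p ↥(Subgroup.normalizer (Q : Set G)) ∧
      Cfsg.IsPStable p ↥(Subgroup.normalizer (Q : Set G)))
    {R : Subgroup G} (hR : IsPGroup p R) (hR1 : R ≠ ⊥)
    (T' : Sylow p ↥(Subgroup.normalizer (R : Set G))) :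
    Subgroup.normalizer (R : Set G) ≤ Subgroup.normalizer
      (Cfsg.centerThompsonAOf ((T' : Subgroup _).map (Subgroup.normalizer (R : Set G)).subtype) : Set G) := by
  obtain ⟨hO, hc, hs⟩ := hloc R hR hR1
  have hchar := zj_of_constrained_stable hO hc hs T'
  have hn : (Cfsg.centerThompsonAOf (T' : Subgroup ↥(Subgroup.normalizer (R : Set G)))).Normal :=
    inferInstance
  rw [centerThompsonAOf_map_of_injOn _ _ (Subgroup.subtype_injective _).injOn]
  have h1 := Subgroup.le_normalizer_map (H := Cfsg.centerThompsonAOf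
    (T' : Subgroup ↥(Subgroup.normalizer (R : Set G)))) (Subgroup.normalizer (R : Set G)).subtype
  rw [Subgroup.normalizer_eq_top_iff.mpr hn, ← MonoidHom.range_eq_map, Subgroup.range_subtype] at h1
  exact h1

end Cfsg.Agent.Lib.Helper1.ZJ
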