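import Mathlib
import Cfsg.Prelude.Def_PLocal
import Cfsg.Prelude.Def_ConjugacyFunctors
import Cfsg.Agent.Lib.Helper1.NPC1
import Cfsg.Agent.Lib.Helper1.NPC3
import Cfsg.Agent.Lib.Helper1.ZJ11
import Cfsg.Agent.Lib.Helper1.StableNormalClosure
import Cfsg.Agent.S2005

/-! Glauberman's normal p-complement theorem for `Z(J(P))`, abelian version. -/
set_option autoImplicit false
universe u v
open Cfsg
open scoped commutatorElement

namespace Cfsg.Agent.Lib.Helper1.NPC
open Cfsg.Agent.Lib.Helper1.ZJ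

/-- The centre of the (abelian version) Thompson subgroup as a functor. -/
def ZJA (Q : Type u) [Group Q] : Subgroup Q :=
  thompsonSubgroupA Q ⊓ Subgroup.centralizer (thompsonSubgroupA Q : Set Q)

theorem map_subtype_ZJA {G : Type u} [Group G] (X : Subgroup G) :
    (ZJA ↥X).map X.subtype = centerThompsonAOf X := by
  unfold ZJA centerThompsonAOf thompsonSubgroupAOf
  exact map_subtype_inf_centralizer X _

theorem maxAbelian_map_equiv {Q : Type u} {R : Type v} [Group Q] [Group R] (φ : Q ≃* R)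
    {A : Subgroup Q} (hA : A ∈ maxAbelianSubgroups Q) :
    A.map φ.toMonoidHom ∈ maxAbelianSubgroups R := by
  obtain ⟨hAc, hAmax⟩ := hA
  refine ⟨inferInstance, ?_⟩
  intro B hB
  have h1 : Nat.card (B.map φ.symm.toMonoidHom) = Nat.card B :=
    Subgroup.card_map_of_injective φ.symm.injective
  have h2 : Nat.card (A.map φ.toMonoidHom) = Nat.card A :=
    Subgroup.card_map_of_injective φ.injective
  rw [h2, ← h1]
  exact hAmax _ inferInstance

theorem thompsonSubgroupA_map_le {Q : Type u} {R : Type v} [Group Q] [Group R] (φ : Q ≃* R) :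
    (thompsonSubgroupA Q).map φ.toMonoidHom ≤ thompsonSubgroupA R := by
  unfold thompsonSubgroupA
  rw [Subgroup.map_le_iff_le_comap]
  apply sSup_le
  intro A hA
  rw [← Subgroup.map_le_iff_le_comap]
  exact le_sSup (maxAbelian_map_equiv φ hA)

theorem thompsonSubgroupA_map_equiv {Q : Type u} {R : Type v} [Group Q] [Group R] (φ : Q ≃* R) :
    (thompsonSubgroupA Q).map φ.toMonoidHom = thompsonSubgroupA R := by
  apply le_antisymm (thompsonSubgroupA_map_le φ)
  have h := thompsonSubgroupA_map_le φ.symm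
  intro x hx
  refine ⟨φ.symm x, h ⟨x, hx, rfl⟩, ?_⟩
  simp

theorem ZJA_map_equiv {Q : Type u} {R : Type v} [Group Q] [Group R] (φ : Q ≃* R) :
    (ZJA Q).map φ.toMonoidHom = ZJA R := by
  unfold ZJA
  rw [map_inf_centralizer_of_injective φ.toMonoidHom φ.injective, thompsonSubgroupA_map_equiv]

theorem ZJA_ne_bot {Q : Type u} [Group Q] [Finite Q] {p : ℕ} [Fact p.Prime] (hQ : IsPGroup p Q)
    [hnt : Nontrivial Q] : ZJA Q ≠ ⊥ := by
  have htop : (⊤ : Subgroup Q) ≠ ⊥ := by
    intro h
    obtain ⟨x, hx⟩ := exists_ne (1 : Q)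
    have : x ∈ (⊥ : Subgroup Q) := h ▸ Subgroup.mem_top x
    exact hx (Subgroup.mem_bot.mp this)
  have hp : IsPGroup p (⊤ : Subgroup Q) := hQ.to_subgroup _
  have h1 := centerThompsonAOf_ne_bot hp htop
  rw [← map_subtype_ZJA] at h1
  intro hbot
  apply h1
  have h2 := ZJA_map_equiv (Subgroup.topEquiv (G := Q)).symm
  rw [hbot, Subgroup.map_bot] at h2
  rw [← h2, Subgroup.map_bot]

theorem isCharPFunctor_ZJA (p : ℕ) [Fact p.Prime] :
    IsCharPFunctor.{u} p (fun (Q : Type u) [Group Q] => ZJA Q) := by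
  refine ⟨?_, ?_⟩
  · intro Q _ _ hQ hnt
    exact ZJA_ne_bot hQ
  · intro Q R _ _ _ _ φ
    exact ZJA_map_equiv φ

theorem hasNormalPComplement_of_normalizer_ZJA {G : Type u} [Group G] [Finite G] {p : ℕ}
    [Fact p.Prime] (hp : p ≠ 2) (P : Sylow p G)
    (hN : HasNormalPComplement p
      ↥(Subgroup.normalizer (centerThompsonAOf ((P : Subgroup G)) : Set G))) :
    HasNormalPComplement p G := by
  apply Cfsg.Agent.S2005.result (fun (Q : Type u) [Group Q] => ZJA Q)
    (isCharPFunctor_ZJA p) P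
  · unfold inducedFunctor
    rw [map_subtype_ZJA]
    exact hN
  intro K R hR hcen hnil T hco
  unfold inducedFunctor
  rw [map_subtype_ZJA]
  have hab := comm_sylow_two_of_max_sylow hp hnil T hco
  haveI := zj_theorem_A hp hcen
    (fun P hPn hP => @isPStableOn_of_comm_sylow_of_isPGroup _ _ _ p _ hp P hPn hP hab) T
  exact Subgroup.normal_of_characteristic _

end Cfsg.Agent.Lib.Helper1.NPC
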