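import Mathlib
import Cfsg.Agent.Lib.Helper1.AODefs
import Cfsg.Agent.Lib.Helper1.AOF0
import Cfsg.Agent.Lib.Helper1.AOF1
import Cfsg.Agent.Lib.Helper1.FusionZJ1

set_option autoImplicit false
set_option linter.unusedVariables false
set_option linter.unusedSectionVars false
set_option linter.style.longLine false

/-!
# S3406 (odd case) pieces F2, F3: `N_G(Z(J(P)))` is strongly `p`-embedded (type F)
-/

open Cfsg.Agent.Lib.Helper1.AO

universe u

namespace Cfsg.Agent.Lib.Helper1.AO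

variable {G : Type u} [Group G] [Finite G] {p q r : ℕ}

/-- every element of order `p` is central in some Sylow `p`-subgroup `g P g⁻¹`. -/
theorem odd_central_conj (H : OddPQ G p q r) [Fact p.Prime] (P : Sylow p G) (x : G)
    (hx : orderOf x = p) :
    ∃ g : G, g⁻¹ * x * g ∈ (P : Subgroup G) ∧ ∀ u ∈ (P : Subgroup G), u * (g⁻¹ * x * g) = (g⁻¹ * x * g) * u := by
  -- `P ≠ ⊥`
  have hPne : Nontrivial (P : Subgroup G) := by
    have hdvd : p ∣ Nat.card G := by rw [← hx]; exact orderOf_dvd_natCard x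
    have hcard := P.card_eq_multiplicity
    have hpos : 0 < (Nat.card G).factorization p :=
      (Nat.Prime.factorization_pos_of_dvd H.hp Nat.card_pos.ne' hdvd)
    have h1 : 1 < Nat.card (P : Subgroup G) := by
      rw [hcard]
      exact Nat.one_lt_pow hpos.ne' H.hp.one_lt
    exact Finite.one_lt_card_iff_nontrivial.mp h1
  haveI := hPne
  have hcn := IsPGroup.center_nontrivial P.isPGroup'
  obtain ⟨z₀, hz₀⟩ := exists_ne (1 : Subgroup.center (P : Subgroup G))
  have hz₀P : ((z₀ : (P : Subgroup G)) : G) ∈ (P : Subgroup G) := (z₀ : (P : Subgroup G)).2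
  have hz₀1 : ((z₀ : (P : Subgroup G)) : G) ≠ 1 := by
    intro h
    apply hz₀
    apply Subtype.ext
    apply Subtype.ext
    exact h
  have hz₀c : ∀ u ∈ (P : Subgroup G), u * ((z₀ : (P : Subgroup G)) : G) = ((z₀ : (P : Subgroup G)) : G) * u := by
    intro u hu
    have := Subgroup.mem_center_iff.mp z₀.2 ⟨u, hu⟩
    exact congrArg Subtype.val this
  have hz₀o : orderOf ((z₀ : (P : Subgroup G)) : G) = p :=
    orderOf_eq_prime (odd_exp_p H P _ hz₀P) hz₀1
  obtain ⟨α, hα⟩ := H.aut _ x (hz₀o.trans hx.symm)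
  obtain ⟨g, hg⟩ := sylow_map_aut' P α
  have hxmem : x ∈ (P : Subgroup G).map (MulAut.conj g).toMonoidHom := by
    rw [← hg, ← hα]
    exact ⟨_, hz₀P, rfl⟩
  obtain ⟨y, hy, hyx⟩ := hxmem
  have hyx' : g * y * g⁻¹ = x := hyx
  have hgy : g⁻¹ * x * g = y := by rw [← hyx']; group
  refine ⟨g, by rw [hgy]; exact hy, ?_⟩
  intro u hu
  rw [hgy]
  -- `g u g⁻¹ ∈ P.map α`, so it is `α u'`, and `u'` commutes with `z₀`
  have hmem : g * u * g⁻¹ ∈ (P : Subgroup G).map α.toMonoidHom := by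
    rw [hg]; exact ⟨u, hu, rfl⟩
  obtain ⟨u', hu', hu'e⟩ := hmem
  have hu'e' : α u' = g * u * g⁻¹ := hu'e
  have hcomm := hz₀c u' hu'
  have h1 : α u' * α ((z₀ : (P : Subgroup G)) : G) = α ((z₀ : (P : Subgroup G)) : G) * α u' := by
    rw [← map_mul, ← map_mul, hcomm]
  rw [hα, hu'e', ← hyx'] at h1
  -- g u g⁻¹ * (g y g⁻¹) = g y g⁻¹ * (g u g⁻¹)
  have h2 : g * (u * y) * g⁻¹ = g * (y * u) * g⁻¹ := by
    have e1 : g * (u * y) * g⁻¹ = g * u * g⁻¹ * (g * y * g⁻¹) := by group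
    have e2 : g * (y * u) * g⁻¹ = g * y * g⁻¹ * (g * u * g⁻¹) := by group
    rw [e1, e2]; exact h1
  exact mul_left_cancel (mul_right_cancel h2)

/-- the centralizer of `g x g⁻¹`. -/
theorem centralizer_conj_le (x g : G) (N : Subgroup G) (hg : g ∈ N)
    (h : Subgroup.centralizer ({g * x * g⁻¹} : Set G) ≤ N) :
    Subgroup.centralizer ({x} : Set G) ≤ N := by
  intro c hc
  rw [Subgroup.mem_centralizer_iff] at hc
  have hc' : x * c = c * x := hc x (Set.mem_singleton x)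
  have h1 : g * c * g⁻¹ ∈ Subgroup.centralizer ({g * x * g⁻¹} : Set G) := by
    rw [Subgroup.mem_centralizer_iff]
    intro y hy
    rw [Set.mem_singleton_iff] at hy
    rw [hy]
    have e1 : g * x * g⁻¹ * (g * c * g⁻¹) = g * (x * c) * g⁻¹ := by group
    have e2 : g * c * g⁻¹ * (g * x * g⁻¹) = g * (c * x) * g⁻¹ := by group
    rw [e1, e2, hc']
  have h2 := h h1
  have : c = g⁻¹ * (g * c * g⁻¹) * g := by group
  rw [this]
  exact N.mul_mem (N.mul_mem (N.inv_mem hg) h2) hg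

/-- F2 for elements of `P`. -/
theorem odd_F2_P (H : OddPQ G p q r) [Fact p.Prime] (P : Sylow p G)
    (h2 : ∀ x : G, orderOf x = p → Case2 q x)
    (x : G) (hxo : orderOf x = p) (hxP : x ∈ (P : Subgroup G)) :
    Subgroup.centralizer ({x} : Set G) ≤
      Subgroup.normalizer (Cfsg.centerThompsonAOf (P : Subgroup G) : Set G) := by
  have hp2 : p ≠ 2 := p_ne_two H x hxo
  obtain ⟨g, hgP, hgc⟩ := odd_central_conj H P x hxo
  have hfree := sl2Free_of_odd hp2 G H.odd
  have hA : ({x} : Set G) ⊆ ((P : Subgroup G) : Set G) := by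
    intro a ha
    rw [Set.mem_singleton_iff] at ha
    rw [ha]; exact hxP
  have hAg : Cfsg.Agent.Lib.Helper7.cr g ({x} : Set G) ⊆ ((P : Subgroup G) : Set G) := by
    rintro _ ⟨a, ha, rfl⟩
    rw [Set.mem_singleton_iff] at ha
    rw [ha]; exact hgP
  obtain ⟨n, hn, hnx⟩ := Cfsg.Agent.Lib.Helper1.FusionZJ.exists_mem_normalizer_ZJ_of_free hp2 hfree P
    ({x} : Set G) g hA hAg
  have hnx' : n⁻¹ * x * n = g⁻¹ * x * g := hnx x (Set.mem_singleton x)
  -- `z := g⁻¹ x g = n⁻¹ x n`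
  have hz1 : n⁻¹ * x * n ≠ 1 := by
    intro h
    have : x = 1 := by
      have : x = n * (n⁻¹ * x * n) * n⁻¹ := by group
      rw [this, h]; group
    rw [this, orderOf_one] at hxo
    exact H.hp.one_lt.ne hxo
  have hF1 := odd_F1 H P h2 (n⁻¹ * x * n) (by rw [hnx']; exact hgP) hz1
    (by rw [hnx']; exact hgc)
  have hninv : n⁻¹ ∈ Subgroup.normalizer (Cfsg.centerThompsonAOf (P : Subgroup G) : Set G) :=
    Subgroup.inv_mem _ hn
  apply centralizer_conj_le x n⁻¹ _ hninv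
  rw [inv_inv]
  exact hF1

/-- elements of order `p` of `N = N_G(Z(J(P)))` are `N`-conjugate into `P`. -/
theorem exists_conj_mem_P [Fact p.Prime] (P : Sylow p G) (x : G) (hxo : orderOf x = p)
    (hx : x ∈ Subgroup.normalizer (Cfsg.centerThompsonAOf (P : Subgroup G) : Set G)) :
    ∃ n ∈ Subgroup.normalizer (Cfsg.centerThompsonAOf (P : Subgroup G) : Set G),
      n * x * n⁻¹ ∈ (P : Subgroup G) := by
  obtain ⟨N, hNdef⟩ : ∃ N : Subgroup G,
      N = Subgroup.normalizer (Cfsg.centerThompsonAOf (P : Subgroup G) : Set G) := ⟨_, rfl⟩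
  rw [← hNdef] at hx ⊢
  have hPN : (P : Subgroup G) ≤ N := by rw [hNdef]; exact le_normalizer_zj _
  -- the cyclic group generated by `x` inside `N`
  have hpg : IsPGroup p (Subgroup.zpowers (⟨x, hx⟩ : N)) := by
    apply IsPGroup.of_card (n := 1)
    rw [Nat.card_zpowers, pow_one, Subgroup.orderOf_mk]
    exact hxo
  obtain ⟨Q', hQ'⟩ := hpg.exists_le_sylow
  obtain ⟨n, hn⟩ := MulAction.exists_smul_eq N Q' (P.subtype hPN)
  refine ⟨(n : G), n.2, ?_⟩
  have hxQ : (⟨x, hx⟩ : N) ∈ (Q' : Subgroup N) := hQ' (Subgroup.mem_zpowers _)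
  have h1 : n * ⟨x, hx⟩ * n⁻¹ ∈ ((n • Q' : Sylow p N) : Subgroup N) := by
    rw [Sylow.coe_subgroup_smul]
    exact ⟨⟨x, hx⟩, hxQ, rfl⟩
  rw [hn, Sylow.coe_subtype, Subgroup.mem_subgroupOf] at h1
  simpa using h1

/-- F2 -/
theorem odd_F2 (H : OddPQ G p q r) [Fact p.Prime] (P : Sylow p G)
    (h2 : ∀ x : G, orderOf x = p → Case2 q x)
    (x : G) (hxo : orderOf x = p)
    (hx : x ∈ Subgroup.normalizer (Cfsg.centerThompsonAOf (P : Subgroup G) : Set G)) :
    Subgroup.centralizer ({x} : Set G) ≤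
      Subgroup.normalizer (Cfsg.centerThompsonAOf (P : Subgroup G) : Set G) := by
  obtain ⟨n, hn, hnP⟩ := exists_conj_mem_P P x hxo hx
  have ho : orderOf (n * x * n⁻¹) = p := by
    rw [← hxo]
    exact (MulAut.conj n).orderOf_eq x
  exact centralizer_conj_le x n _ hn (odd_F2_P H P h2 (n * x * n⁻¹) ho hnP)

end Cfsg.Agent.Lib.Helper1.AO
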