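import Mathlib
import Cfsg.Agent.Lib.Helper1.AODefs
import Cfsg.Agent.Lib.Helper1.AOF0
import Cfsg.Agent.Lib.Helper1.AOF1
import Cfsg.Agent.Lib.Helper1.AOF2

set_option autoImplicit false
set_option linter.unusedVariables false
set_option linter.unusedSectionVars false
set_option linter.style.longLine false

/-!
# S3406 (odd case) piece F3: `N_G(Z(J(P)))` is strongly `p`-embedded (type F)
-/

open Cfsg.Agent.Lib.Helper1.AO

universe u

namespace Cfsg.Agent.Lib.Helper1.AO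

variable {G : Type u} [Group G] [Finite G] {p q r : ℕ}

/-- an element normalizing `P` normalizes `Z(J(P))`. -/
theorem mem_normalizer_zj_of_map_eq (P : Subgroup G) (m : G)
    (hP : P.map (MulAut.conj m).toMonoidHom = P) :
    m ∈ Subgroup.normalizer (Cfsg.centerThompsonAOf P : Set G) := by
  have h := centerThompsonAOf_map P (MulAut.conj m)
  rw [hP] at h
  rw [Subgroup.mem_normalizer_iff]
  intro x
  constructor
  · intro hx
    rw [h]
    exact ⟨x, hx, rfl⟩
  · intro hx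
    rw [h] at hx
    obtain ⟨y, hy, hyx⟩ := hx
    have : y = x := by
      have h1 : m * y * m⁻¹ = m * x * m⁻¹ := hyx
      have h2 := mul_right_cancel h1
      exact mul_left_cancel h2
    rw [← this]; exact hy

/-- if `P ≤ N` and `k P k⁻¹ ≤ N` then `n k` normalizes `P` for some `n ∈ N`. -/
theorem exists_mul_map_eq {l : ℕ} [Fact l.Prime] (P : Sylow l G) (N : Subgroup G)
    (hPN : (P : Subgroup G) ≤ N) (k : G)
    (hk : ∀ u ∈ (P : Subgroup G), k * u * k⁻¹ ∈ N) :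
    ∃ n ∈ N, (P : Subgroup G).map (MulAut.conj (n * k)).toMonoidHom = (P : Subgroup G) := by
  have hkN : ((k • P : Sylow l G) : Subgroup G) ≤ N := by
    rw [Sylow.coe_subgroup_smul]
    rintro _ ⟨u, hu, rfl⟩
    exact hk u hu
  obtain ⟨n, hn⟩ := MulAction.exists_smul_eq N ((k • P : Sylow l G).subtype hkN) (P.subtype hPN)
  refine ⟨(n : G), n.2, ?_⟩
  have hle : (P : Subgroup G).map (MulAut.conj ((n : G) * k)).toMonoidHom ≤ (P : Subgroup G) := by
    rintro _ ⟨u, hu, rfl⟩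
    have hmem : k * u * k⁻¹ ∈ ((k • P : Sylow l G) : Subgroup G) := by
      rw [Sylow.coe_subgroup_smul]
      exact ⟨u, hu, rfl⟩
    have h1 : (⟨k * u * k⁻¹, hkN hmem⟩ : N) ∈ (((k • P : Sylow l G).subtype hkN : Sylow l N) : Subgroup N) := by
      rw [Sylow.coe_subtype, Subgroup.mem_subgroupOf]
      exact hmem
    have h2 : n * ⟨k * u * k⁻¹, hkN hmem⟩ * n⁻¹ ∈
        ((n • ((k • P : Sylow l G).subtype hkN) : Sylow l N) : Subgroup N) := by
      rw [Sylow.coe_subgroup_smul]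
      exact ⟨_, h1, rfl⟩
    rw [hn, Sylow.coe_subtype, Subgroup.mem_subgroupOf] at h2
    have h3 : ((n * ⟨k * u * k⁻¹, hkN hmem⟩ * n⁻¹ : N) : G) = (n : G) * k * u * ((n : G) * k)⁻¹ := by
      simp only [Subgroup.coe_mul, Subgroup.coe_inv]
      group
    rw [h3] at h2
    exact h2
  apply Subgroup.eq_of_le_of_card_ge hle
  have hinj : Function.Injective ((MulAut.conj ((n : G) * k)).toMonoidHom) :=
    (MulAut.conj ((n : G) * k)).injective
  rw [Nat.card_congr ((P : Subgroup G).equivMapOfInjective _ hinj).toEquiv]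

/-- F3 -/
theorem odd_F3 (H : OddPQ G p q r) [Fact p.Prime] (P : Sylow p G)
    (h2 : ∀ x : G, orderOf x = p → Case2 q x)
    (x : G) (hxo : orderOf x = p) (g : G)
    (hx : x ∈ Subgroup.normalizer (Cfsg.centerThompsonAOf (P : Subgroup G) : Set G))
    (hgx : g * x * g⁻¹ ∈ Subgroup.normalizer (Cfsg.centerThompsonAOf (P : Subgroup G) : Set G)) :
    g ∈ Subgroup.normalizer (Cfsg.centerThompsonAOf (P : Subgroup G) : Set G) := by
  obtain ⟨N, hNdef⟩ : ∃ N : Subgroup G,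
      N = Subgroup.normalizer (Cfsg.centerThompsonAOf (P : Subgroup G) : Set G) := ⟨_, rfl⟩
  have hPN : (P : Subgroup G) ≤ N := by rw [hNdef]; exact le_normalizer_zj _
  have hC1 : Subgroup.centralizer ({x} : Set G) ≤ N := by
    rw [hNdef]; exact odd_F2 H P h2 x hxo hx
  have hgo : orderOf (g * x * g⁻¹) = p := by
    rw [← hxo]; exact (MulAut.conj g).orderOf_eq x
  have hC2 : Subgroup.centralizer ({g * x * g⁻¹} : Set G) ≤ N := by
    rw [hNdef]; exact odd_F2 H P h2 _ hgo hgx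
  obtain ⟨h, hhP, hhc⟩ := odd_central_conj H P x hxo
  -- `h P h⁻¹ ≤ C(x)`
  have hk1 : ∀ u ∈ (P : Subgroup G), h * u * h⁻¹ ∈ N := by
    intro u hu
    apply hC1
    rw [Subgroup.mem_centralizer_iff]
    intro y hy
    rw [Set.mem_singleton_iff] at hy
    rw [hy]
    have hc := hhc u hu
    -- u * (h⁻¹ x h) = (h⁻¹ x h) * u
    have e1 : x * (h * u * h⁻¹) = h * ((h⁻¹ * x * h) * u) * h⁻¹ := by group
    have e2 : h * u * h⁻¹ * x = h * (u * (h⁻¹ * x * h)) * h⁻¹ := by group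
    rw [e1, e2, hc]
  have hk2 : ∀ u ∈ (P : Subgroup G), (g * h) * u * (g * h)⁻¹ ∈ N := by
    intro u hu
    apply hC2
    rw [Subgroup.mem_centralizer_iff]
    intro y hy
    rw [Set.mem_singleton_iff] at hy
    rw [hy]
    have hc := hhc u hu
    have e1 : g * x * g⁻¹ * (g * h * u * (g * h)⁻¹) = g * h * ((h⁻¹ * x * h) * u) * h⁻¹ * g⁻¹ := by
      group
    have e2 : g * h * u * (g * h)⁻¹ * (g * x * g⁻¹) = g * h * (u * (h⁻¹ * x * h)) * h⁻¹ * g⁻¹ := by
      group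
    rw [e1, e2, hc]
  obtain ⟨n₁, hn₁, hm₁⟩ := exists_mul_map_eq P N hPN h hk1
  obtain ⟨n₂, hn₂, hm₂⟩ := exists_mul_map_eq P N hPN (g * h) hk2
  have hmem₁ : n₁ * h ∈ N := by rw [hNdef]; exact mem_normalizer_zj_of_map_eq _ _ hm₁
  have hmem₂ : n₂ * (g * h) ∈ N := by rw [hNdef]; exact mem_normalizer_zj_of_map_eq _ _ hm₂
  have : g = n₂⁻¹ * (n₂ * (g * h)) * (n₁ * h)⁻¹ * n₁ := by group
  rw [← hNdef, this]
  exact N.mul_mem (N.mul_mem (N.mul_mem (N.inv_mem hn₂) hmem₂) (N.inv_mem hmem₁)) hn₁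

end Cfsg.Agent.Lib.Helper1.AO
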