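import Mathlib

set_option autoImplicit false
open Pointwise

namespace Cfsg.Agent.Lib.Helper1

theorem isSubnormal_of_normalizerCondition {G : Type*} [Group G] [Finite G]
    (h : NormalizerCondition G) (H : Subgroup G) : H.IsSubnormal := by
  induction H using WellFoundedGT.induction with
  | ind H ih =>
    by_cases hH : H = ⊤
    · rw [hH]; exact Subgroup.IsSubnormal.top
    · have hlt : H < Subgroup.normalizer (H : Set G) := h H (lt_top_iff_ne_top.mpr hH)
      exact Subgroup.IsSubnormal.step H _ hlt.le (ih _ hlt)
        ((Subgroup.normal_subgroupOf_iff_le_normalizer hlt.le).mpr le_rfl)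

theorem isNilpotent_iff_forall_isSubnormal {G : Type*} [Group G] [Finite G] :
    Group.IsNilpotent G ↔ ∀ H : Subgroup G, H.IsSubnormal := by
  have h01 : Group.IsNilpotent G ↔ NormalizerCondition G :=
    (Group.isNilpotent_of_finite_tfae (G := G)).out 0 1
  rw [h01]
  constructor
  · exact isSubnormal_of_normalizerCondition
  · intro h H hH
    obtain h1 | ⟨K, hK, -, hN⟩ := Subgroup.IsSubnormal.iff_eq_top_or_exists.mp (h H)
    · exact absurd h1 hH.ne
    · exact lt_of_lt_of_le hK ((Subgroup.normal_subgroupOf_iff_le_normalizer hK.le).mp hN)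

end Cfsg.Agent.Lib.Helper1
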