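import Mathlib
import Cfsg.Agent.Lib.Helper1.WielandtJoin
import Cfsg.Agent.Lib.Helper1.Hall
open Pointwise

set_option autoImplicit false

namespace Cfsg.Agent.Lib.Helper1

universe u

variable {G : Type u} [Group G]

theorem isSubnormal_finset_sup [Finite G] (s : Finset (Subgroup G))
    (hs : ∀ U ∈ s, U.IsSubnormal) : (s.sup id).IsSubnormal := by
  classical
  induction s using Finset.induction_on with
  | empty => simp
  | insert a s ha ih =>
    rw [Finset.sup_insert]
    exact isSubnormal_sup (hs a (Finset.mem_insert_self a s))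
      (ih (fun U hU => hs U (Finset.mem_insert_of_mem hU)))

theorem isSubnormal_sSup [Finite G] (S : Set (Subgroup G)) (hS : ∀ U ∈ S, U.IsSubnormal) :
    (sSup S).IsSubnormal := by
  classical
  have hfin : S.Finite := Set.toFinite S
  have h := isSubnormal_finset_sup hfin.toFinset (fun U hU => hS U (by simpa using hU))
  have e : hfin.toFinset.sup id = sSup S := by
    rw [Finset.sup_id_eq_sSup]; simp
  rwa [e] at h

/-- A subnormal, non-normal subgroup `D` has a conjugate `D^y ≠ D` inside a subgroup `K`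
normalising `D`. -/
theorem exists_conj_le_normalizer_of_isSubnormal [Finite G] {D : Subgroup G} (hD : D.IsSubnormal)
    (hn : ¬ D.Normal) :
    ∃ y : G, ¬ MulAut.conj y • D ≤ D ∧ MulAut.conj y • D ≤ Subgroup.normalizer (D : Set G) := by
  classical
  obtain ⟨n, f, hmono, hnorm, h0, hfn⟩ := hD.exists_chain
  have hex : ∃ i, ¬ f i ≤ Subgroup.normalizer (D : Set G) := by
    refine ⟨n, ?_⟩
    rw [hfn]
    intro h
    exact hn (Subgroup.normalizer_eq_top_iff.mp (top_le_iff.mp h))
  set i := Nat.find hex with hi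
  have hi_spec : ¬ f i ≤ Subgroup.normalizer (D : Set G) := Nat.find_spec hex
  have hi_min : ∀ j < i, f j ≤ Subgroup.normalizer (D : Set G) := by
    intro j hj
    by_contra h
    exact Nat.find_min hex hj h
  have hi0 : i ≠ 0 := by
    intro h
    rw [h, h0] at hi_spec
    exact hi_spec Subgroup.le_normalizer
  obtain ⟨j, hj⟩ := Nat.exists_eq_succ_of_ne_zero hi0
  have hjN : f j ≤ Subgroup.normalizer (D : Set G) := hi_min j (by omega)
  obtain ⟨y, hy, hyN⟩ := SetLike.not_le_iff_exists.mp hi_spec
  have hDfj : D ≤ f j := h0 ▸ hmono (Nat.zero_le j)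
  have hfjn : f i ≤ Subgroup.normalizer ((f j : Subgroup G) : Set G) := by
    have := hnorm j
    rw [Subgroup.normal_subgroupOf_iff_le_normalizer (hmono (Nat.le_succ j))] at this
    rw [hj]; exact this
  refine ⟨y, ?_, ?_⟩
  · intro hle
    apply hyN
    apply mem_normalizer_of_conj_smul_eq
    exact Subgroup.eq_of_le_of_card_ge hle (by rw [card_conj_smul])
  · calc MulAut.conj y • D ≤ MulAut.conj y • f j :=
          Subgroup.pointwise_smul_le_pointwise_smul_iff.mpr hDfj
      _ = f j := conj_smul_eq_of_mem_normalizer (hfjn hy)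
      _ ≤ Subgroup.normalizer (D : Set G) := hjN

theorem subnormal_family_member_normalizes_join [Finite G] (S S₀ : Set (Subgroup G))
    (hS : ∀ U ∈ S, U.IsSubnormal) (hconj : ∀ U ∈ S, ∀ g : G, MulAut.conj g • U ∈ S)
    (h₀ : S₀ ⊂ S) :
    ∃ X ∈ S, X ∉ S₀ ∧ X ≤ Subgroup.normalizer ((sSup S₀ : Subgroup G) : Set G) := by
  set D : Subgroup G := sSup S₀ with hD
  have hDsn : D.IsSubnormal := isSubnormal_sSup S₀ (fun U hU => hS U (h₀.subset hU))
  by_cases hDn : D.Normal
  · obtain ⟨X, hXS, hX₀⟩ := Set.exists_of_ssubset h₀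
    refine ⟨X, hXS, hX₀, ?_⟩
    rw [Subgroup.normalizer_eq_top_iff.mpr hDn]; exact le_top
  · obtain ⟨y, hy1, hy2⟩ := exists_conj_le_normalizer_of_isSubnormal hDsn hDn
    have hex : ∃ A ∈ S₀, ¬ MulAut.conj y • A ≤ D := by
      by_contra hcon
      push Not at hcon
      apply hy1
      rw [Subgroup.pointwise_smul_subset_iff]
      apply sSup_le
      intro A hA
      rw [← Subgroup.pointwise_smul_subset_iff]
      exact hcon A hA
    obtain ⟨A, hA, hAD⟩ := hex
    refine ⟨MulAut.conj y • A, hconj A (h₀.subset hA) y, ?_, ?_⟩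
    · intro h
      exact hAD (le_sSup h)
    · exact (Subgroup.pointwise_smul_le_pointwise_smul_iff.mpr (le_sSup hA)).trans hy2

end Cfsg.Agent.Lib.Helper1
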