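import Mathlib
import Cfsg.Agent.Lib.Helper1.SubnormalFamily
import Cfsg.Agent.Lib.Helper1.CoprimeSylow
open Pointwise

set_option autoImplicit false

namespace Cfsg.Agent.Lib.Helper1

universe u

variable {G : Type u} [Group G]

theorem subgroupOf_conj_smul (V : Subgroup G) (v : V) (B : Subgroup G) :
    MulAut.conj v • (B.subgroupOf V) = (MulAut.conj (v : G) • B).subgroupOf V := by
  ext x
  rw [mem_conj_smul_iff, Subgroup.mem_subgroupOf, Subgroup.mem_subgroupOf, mem_conj_smul_iff]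
  rfl

theorem subgroupOf_sSup (V : Subgroup G) (S : Set (Subgroup G)) (h : ∀ B ∈ S, B ≤ V) :
    (sSup S).subgroupOf V = sSup ((fun B : Subgroup G => B.subgroupOf V) '' S) := by
  apply le_antisymm
  · set T := sSup ((fun B : Subgroup G => B.subgroupOf V) '' S) with hT
    have h1 : sSup S ≤ T.map V.subtype := by
      apply sSup_le
      intro B hB
      have : B.subgroupOf V ≤ T := le_sSup ⟨B, hB, rfl⟩
      calc B = (B.subgroupOf V).map V.subtype := (Subgroup.map_subgroupOf_eq_of_le (h B hB)).symm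
        _ ≤ T.map V.subtype := Subgroup.map_mono this
    intro x hx
    obtain ⟨t, ht, htx⟩ := h1 (Subgroup.mem_subgroupOf.mp hx)
    have : t = x := Subtype.ext htx
    rw [← this]; exact ht
  · apply sSup_le
    rintro _ ⟨B, hB, rfl⟩
    exact Subgroup.comap_mono (le_sSup hB)

theorem subgroupOf_injective_of_le (V : Subgroup G) {B C : Subgroup G} (hB : B ≤ V) (hC : C ≤ V)
    (h : B.subgroupOf V = C.subgroupOf V) : B = C := by
  rw [← Subgroup.map_subgroupOf_eq_of_le hB, ← Subgroup.map_subgroupOf_eq_of_le hC, h]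

/-- If a family is closed under conjugation by `V`, then `V` normalises its join. -/
theorem le_normalizer_sSup_of_conj_closed (V : Subgroup G) (S : Set (Subgroup G))
    (hconj : ∀ B ∈ S, ∀ v ∈ V, MulAut.conj v • B ∈ S) :
    V ≤ Subgroup.normalizer ((sSup S : Subgroup G) : Set G) := by
  apply le_normalizer_of_conj_mem
  intro v hv x hx
  have h1 : MulAut.conj v • sSup S ≤ sSup S := by
    rw [Subgroup.pointwise_smul_subset_iff]
    apply sSup_le
    intro B hB
    rw [← Subgroup.pointwise_smul_subset_iff]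
    exact le_sSup (hconj B hB v hv)
  apply h1
  rw [mem_conj_smul_iff]
  have e : v⁻¹ * (v * x * v⁻¹) * v = x := by group
  rw [e]; exact hx

/-- Relative version of `subnormal_family_member_normalizes_join`. -/
theorem subnormal_family_member_normalizes_join_rel [Finite G] (V : Subgroup G)
    (S S₀ : Set (Subgroup G))
    (hS : ∀ B ∈ S, B ≤ V ∧ (B.subgroupOf V).IsSubnormal)
    (hconj : ∀ B ∈ S, ∀ v ∈ V, MulAut.conj v • B ∈ S) (h₀ : S₀ ⊂ S) :
    ∃ X ∈ S, X ∉ S₀ ∧ X ≤ Subgroup.normalizer ((sSup S₀ : Subgroup G) : Set G) := by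
  set f : Subgroup G → Subgroup V := fun B => B.subgroupOf V with hf
  have hsub : f '' S₀ ⊂ f '' S := by
    refine ⟨Set.image_mono h₀.subset, ?_⟩
    intro hle
    obtain ⟨X, hXS, hX₀⟩ := Set.exists_of_ssubset h₀
    obtain ⟨B, hB, hBX⟩ := hle ⟨X, hXS, rfl⟩
    have : B = X := subgroupOf_injective_of_le V (hS B (h₀.subset hB)).1 (hS X hXS).1 hBX
    exact hX₀ (this ▸ hB)
  obtain ⟨X', ⟨X, hXS, rfl⟩, hX'₀, hX'n⟩ := subnormal_family_member_normalizes_join (f '' S) (f '' S₀)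
    (by rintro _ ⟨B, hB, rfl⟩; exact (hS B hB).2)
    (by
      rintro _ ⟨B, hB, rfl⟩ v
      exact ⟨MulAut.conj (v : G) • B, hconj B hB v v.2, (subgroupOf_conj_smul V v B).symm⟩)
    hsub
  refine ⟨X, hXS, fun h => hX'₀ ⟨X, h, rfl⟩, ?_⟩
  have hS₀V : ∀ B ∈ S₀, B ≤ V := fun B hB => (hS B (h₀.subset hB)).1
  have hDV : sSup S₀ ≤ V := sSup_le hS₀V
  rw [← subgroupOf_sSup V S₀ hS₀V, ← Subgroup.subgroupOf_normalizer_eq hDV] at hX'n
  intro x hx
  exact Subgroup.mem_subgroupOf.mp (hX'n (show (⟨x, (hS X hXS).1 hx⟩ : V) ∈ f X from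
    Subgroup.mem_subgroupOf.mpr hx))


theorem zipper_unique_maximal [Finite G] (A : Subgroup G) (U : Set (Subgroup G)) (hU : U.Nonempty)
    (S : Subgroup G → Set (Subgroup G))
    (hS : ∀ V B : Subgroup G, B ∈ S V ↔
      (∃ g : G, B = MulAut.conj g • A) ∧ B ≤ V ∧ (B.subgroupOf V).IsSubnormal)
    (h2 : ∀ V ∈ U, ∀ W ∈ U, ∀ B ∈ S W, B ≤ V → B ∈ S V)
    (h3 : ∀ V ∈ U, ∀ W ∈ U, ∃ X ∈ U,
      Subgroup.normalizer ((sSup (S V ∩ S W) : Subgroup G) : Set G) ≤ X) :
    ∃ M ∈ U, ∀ V ∈ U, V ≤ M := by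
  classical
  -- basic facts on S V
  have hSle : ∀ V B, B ∈ S V → B ≤ V ∧ (B.subgroupOf V).IsSubnormal :=
    fun V B hB => ((hS V B).mp hB).2
  have hSconj : ∀ V B, B ∈ S V → ∀ v ∈ V, MulAut.conj v • B ∈ S V := by
    intro V B hB v hv
    obtain ⟨⟨g, rfl⟩, hBV, hBsn⟩ := (hS V _).mp hB
    refine (hS V _).mpr ⟨⟨v * g, by rw [map_mul, mul_smul]⟩, ?_, ?_⟩
    · calc MulAut.conj v • MulAut.conj g • A ≤ MulAut.conj v • V :=
            Subgroup.pointwise_smul_le_pointwise_smul_iff.mpr hBV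
        _ = V := Subgroup.conj_smul_eq_self_of_mem hv
    · rw [← subgroupOf_conj_smul V ⟨v, hv⟩]
      exact hBsn.smul _
  obtain ⟨M, hM⟩ := (Set.toFinite U).exists_maximal hU
  refine ⟨M, hM.prop, ?_⟩
  by_contra hcon
  push Not at hcon
  obtain ⟨V₀, hV₀U, hV₀M⟩ := hcon
  let α := {V : Subgroup G // V ∈ U ∧ ¬ V ≤ M}
  have : Nonempty α := ⟨⟨V₀, hV₀U, hV₀M⟩⟩
  obtain ⟨⟨V, hVU, hVM⟩, hVmax⟩ := Finite.exists_max (fun V : α => (S M ∩ S V.1).ncard)
  set Sg : Set (Subgroup G) := S M ∩ S V with hSg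
  set D : Subgroup G := sSup Sg with hD
  obtain ⟨X, hXU, hNX⟩ := h3 M hM.prop V hVU
  change Subgroup.normalizer ((sSup Sg : Subgroup G) : Set G) ≤ X at hNX
  have hSgX : Sg ⊆ S X := by
    intro C hC
    apply h2 X hXU M hM.prop C hC.1
    exact ((le_sSup hC).trans Subgroup.le_normalizer).trans hNX
  -- X ≤ M
  have hXM : X ≤ M := by
    by_cases hSgM : Sg = S M
    · apply hM.2 hXU
      refine le_trans ?_ hNX
      rw [hSgM]
      exact le_normalizer_sSup_of_conj_closed M (S M) (hSconj M)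
    · have hss : Sg ⊂ S M := ⟨Set.inter_subset_left, fun h => hSgM (Set.Subset.antisymm Set.inter_subset_left h)⟩
      obtain ⟨B, hBM, hBSg, hBN⟩ := subnormal_family_member_normalizes_join_rel M (S M) Sg
        (hSle M) (hSconj M) hss
      have hBX : B ∈ S X := h2 X hXU M hM.prop B hBM (hBN.trans hNX)
      by_contra hXM
      have h4 := hVmax ⟨X, hXU, hXM⟩
      simp only at h4
      have h5 : Sg ⊂ S M ∩ S X := by
        refine ⟨fun C hC => ⟨hC.1, hSgX hC⟩, ?_⟩
        intro hle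
        exact hBSg (hle ⟨hBM, hBX⟩)
      have h6 := Set.ncard_lt_ncard h5 (Set.toFinite _)
      omega
  -- Sg = S V
  have hSgV : Sg = S V := by
    by_contra hne
    have hss : Sg ⊂ S V := ⟨Set.inter_subset_right, fun h => hne (Set.Subset.antisymm Set.inter_subset_right h)⟩
    obtain ⟨C, hCV, hCSg, hCN⟩ := subnormal_family_member_normalizes_join_rel V (S V) Sg
      (hSle V) (hSconj V) hss
    have hCM : C ∈ S M := h2 M hM.prop V hVU C hCV ((hCN.trans hNX).trans hXM)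
    exact hCSg ⟨hCM, hCV⟩
  apply hVM
  refine le_trans ?_ (hNX.trans hXM)
  rw [hSgV]
  exact le_normalizer_sSup_of_conj_closed V (S V) (hSconj V)

end Cfsg.Agent.Lib.Helper1
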