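import Mathlib
import Cfsg.Agent.Lib.Helper1.Zipper
open Pointwise

set_option autoImplicit false

namespace Cfsg.Agent.Lib.Helper1

universe u

variable {G : Type u} [Group G]

/-- Transfer of relative subnormality along an injective homomorphism. -/
theorem isSubnormal_subgroupOf_map_iff {H : Type*} [Group H] (φ : H →* G)
    (hφ : Function.Injective φ) (X Y : Subgroup H) :
    ((X.map φ).subgroupOf (Y.map φ)).IsSubnormal ↔ (X.subgroupOf Y).IsSubnormal := by
  set e : Y ≃* Y.map φ := Subgroup.equivMapOfInjective Y φ hφ with he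
  have h1 : ((X.map φ).subgroupOf (Y.map φ)).comap e.toMonoidHom = X.subgroupOf Y := by
    ext y
    rw [Subgroup.mem_comap, Subgroup.mem_subgroupOf, Subgroup.mem_subgroupOf]
    show φ (y : H) ∈ X.map φ ↔ (y : H) ∈ X
    exact Subgroup.mem_map_iff_mem hφ
  constructor
  · intro h
    rw [← h1]
    exact h.comap _
  · intro h
    have h2 := h.map (f := e.toMonoidHom) e.surjective
    rw [← h1, Subgroup.map_comap_eq_self_of_surjective e.surjective] at h2
    exact h2

theorem isSubnormal_subgroupOf_subgroupOf_iff (V X Y : Subgroup G) (hX : X ≤ V) (hY : Y ≤ V) :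
    ((X.subgroupOf V).subgroupOf (Y.subgroupOf V)).IsSubnormal ↔ (X.subgroupOf Y).IsSubnormal := by
  have := isSubnormal_subgroupOf_map_iff V.subtype V.subtype_injective (X.subgroupOf V)
    (Y.subgroupOf V)
  rw [Subgroup.map_subgroupOf_eq_of_le hX, Subgroup.map_subgroupOf_eq_of_le hY] at this
  exact this.symm

theorem isSubnormal_subgroupOf_conj_smul_iff (g : G) (X Y : Subgroup G) :
    ((MulAut.conj g • X).subgroupOf (MulAut.conj g • Y)).IsSubnormal ↔
      (X.subgroupOf Y).IsSubnormal := by
  have := isSubnormal_subgroupOf_map_iff (MulAut.conj g).toMonoidHom (MulAut.conj g).injective X Y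
  exact this

theorem isSubnormal_subgroupOf_of_le {A D V : Subgroup G} (hDV : D ≤ V)
    (h : (A.subgroupOf V).IsSubnormal) : (A.subgroupOf D).IsSubnormal := by
  have h1 : (A.subgroupOf V).comap (Subgroup.inclusion hDV) = A.subgroupOf D := by
    ext x
    rw [Subgroup.mem_comap, Subgroup.mem_subgroupOf, Subgroup.mem_subgroupOf]
    rfl
  rw [← h1]
  exact h.comap _

theorem isSubnormal_of_subgroupOf_top {A : Subgroup G} (h : (A.subgroupOf ⊤).IsSubnormal) :
    A.IsSubnormal := Subgroup.IsSubnormal.trans le_top h Subgroup.IsSubnormal.top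


/-- the hypothesis of Wielandt's criterion is inherited by conjugates -/
theorem wielandt_hyp_conj {A : Subgroup G}
    (h : ∀ g : G, (A.subgroupOf (A ⊔ MulAut.conj g • A)).IsSubnormal) (g x : G) :
    ((MulAut.conj g • A).subgroupOf
      (MulAut.conj g • A ⊔ MulAut.conj x • MulAut.conj g • A)).IsSubnormal := by
  have e : MulAut.conj g • A ⊔ MulAut.conj x • MulAut.conj g • A =
      MulAut.conj g • (A ⊔ MulAut.conj (g⁻¹ * x * g) • A) := by
    rw [Subgroup.smul_sup, ← mul_smul, ← mul_smul, ← map_mul, ← map_mul]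
    congr 3
    group
  rw [e, isSubnormal_subgroupOf_conj_smul_iff]
  exact h _

theorem wielandt_criterion_aux : ∀ (n : ℕ) (G : Type u) [Group G] [Finite G], Nat.card G = n →
    ∀ A : Subgroup G, (∀ g : G, (A.subgroupOf (A ⊔ MulAut.conj g • A)).IsSubnormal) →
    A.IsSubnormal := by
  intro n
  induction n using Nat.strong_induction_on with
  | _ n ih =>
    intro G _ _ hn A h
    by_contra hAsn
    -- relative induction hypothesis
    have ihrel : ∀ V : Subgroup G, V ≠ ⊤ → ∀ B : Subgroup G, B ≤ V →
        (∀ v ∈ V, (B.subgroupOf (B ⊔ MulAut.conj v • B)).IsSubnormal) →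
        (B.subgroupOf V).IsSubnormal := by
      intro V hV B hBV hB
      have hlt : Nat.card V < n := hn ▸ card_lt_of_ne_top V hV
      apply ih _ hlt V rfl
      intro v
      have hvB : MulAut.conj (v : G) • B ≤ V := by
        calc MulAut.conj (v : G) • B ≤ MulAut.conj (v : G) • V :=
              Subgroup.pointwise_smul_le_pointwise_smul_iff.mpr hBV
          _ = V := Subgroup.conj_smul_eq_self_of_mem v.2
      rw [subgroupOf_conj_smul, ← Subgroup.subgroupOf_sup hBV hvB,
        isSubnormal_subgroupOf_subgroupOf_iff V _ _ hBV (sup_le hBV hvB)]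
      exact hB v v.2
    set U : Set (Subgroup G) := {V | A ≤ V ∧ V ≠ ⊤} with hU
    set S : Subgroup G → Set (Subgroup G) := fun V =>
      {B | (∃ g : G, B = MulAut.conj g • A) ∧ B ≤ V ∧ (B.subgroupOf V).IsSubnormal} with hS
    have hAtop : A ≠ ⊤ := by
      intro h'
      apply hAsn
      rw [h']; exact Subgroup.IsSubnormal.top
    have hUne : U.Nonempty := ⟨A, le_rfl, hAtop⟩
    have hmemS : ∀ V ∈ U, ∀ B : Subgroup G, (∃ g : G, B = MulAut.conj g • A) → B ≤ V → B ∈ S V := by
      rintro V ⟨-, hVtop⟩ _ ⟨g, rfl⟩ hBV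
      refine ⟨⟨g, rfl⟩, hBV, ?_⟩
      apply ihrel V hVtop _ hBV
      intro v _
      exact wielandt_hyp_conj h g v
    have hAS : ∀ V ∈ U, A ∈ S V := by
      intro V hV
      apply hmemS V hV A ⟨1, by simp⟩ hV.1
    have h2 : ∀ V ∈ U, ∀ W ∈ U, ∀ B ∈ S W, B ≤ V → B ∈ S V := by
      intro V hV W _ B hB hBV
      exact hmemS V hV B hB.1 hBV
    have h3 : ∀ V ∈ U, ∀ W ∈ U, ∃ X ∈ U,
        Subgroup.normalizer ((sSup (S V ∩ S W) : Subgroup G) : Set G) ≤ X := by
      intro V hV W hW
      set D : Subgroup G := sSup (S V ∩ S W) with hD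
      have hAD : A ≤ D := le_sSup ⟨hAS V hV, hAS W hW⟩
      have hDV : D ≤ V := sSup_le (fun B hB => hB.1.2.1)
      refine ⟨Subgroup.normalizer (D : Set G), ⟨hAD.trans Subgroup.le_normalizer, ?_⟩, le_rfl⟩
      intro htop
      have hDn : D.Normal := Subgroup.normalizer_eq_top_iff.mp htop
      apply hAsn
      exact Subgroup.IsSubnormal.trans hAD
        (isSubnormal_subgroupOf_of_le hDV (hAS V hV).2.2) hDn.isSubnormal
    obtain ⟨M, hMU, hMmax⟩ := zipper_unique_maximal A U hUne S (fun V B => Iff.rfl) h2 h3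
    -- all conjugates of A lie in M
    have hconjM : ∀ g : G, MulAut.conj g • A ≤ M := by
      intro g
      have hT : A ⊔ MulAut.conj g • A ∈ U := by
        refine ⟨le_sup_left, ?_⟩
        intro htop
        apply hAsn
        have := h g
        rw [htop] at this
        exact isSubnormal_of_subgroupOf_top this
      exact le_sup_right.trans (hMmax _ hT)
    set N : Subgroup G := ⨆ g : G, MulAut.conj g • A with hN
    have hNM : N ≤ M := iSup_le hconjM
    have hAN : A ≤ N := by
      have := le_iSup (fun g : G => MulAut.conj g • A) 1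
      simpa using this
    have hNn : N.Normal := by
      constructor
      intro x hx g
      have h1 : MulAut.conj g • N ≤ N := by
        rw [hN, conj_smul_iSup]
        apply iSup_le
        intro g'
        rw [← mul_smul, ← map_mul]
        exact le_iSup (fun g : G => MulAut.conj g • A) (g * g')
      apply h1
      rw [mem_conj_smul_iff]
      have e : g⁻¹ * (g * x * g⁻¹) * g = x := by group
      rw [e]; exact hx
    have hNU : N ∈ U := ⟨hAN, fun htop => hMU.2 (top_le_iff.mp (htop ▸ hNM))⟩
    apply hAsn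
    exact Subgroup.IsSubnormal.trans hAN (hAS N hNU).2.2 hNn.isSubnormal

theorem wielandt_criterion [Finite G] (A : Subgroup G)
    (h : ∀ g : G, (A.subgroupOf (A ⊔ MulAut.conj g • A)).IsSubnormal) : A.IsSubnormal :=
  wielandt_criterion_aux _ G rfl A h

end Cfsg.Agent.Lib.Helper1
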