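import Mathlib
import Cfsg.Prelude.Def_Solvable
import Cfsg.Agent.Lib.Helper1.WielandtCriterion
import Cfsg.Agent.Lib.Helper1.Fitting
import Cfsg.Agent.Lib.Helper1.FrattiniAction
import Cfsg.Agent.Lib.Helper1.Subnormal
open Pointwise

set_option autoImplicit false

namespace Cfsg.Agent.Lib.Helper1

universe u

variable {G : Type u} [Group G]

instance fittingSubgroup_characteristic : (Cfsg.fittingSubgroup G).Characteristic := by
  rw [Subgroup.characteristic_iff_map_le]
  intro φ
  rw [Subgroup.map_le_iff_le_comap]
  apply sSup_le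
  rintro N ⟨hNn, hNnil⟩
  rw [← Subgroup.map_le_iff_le_comap]
  apply le_fittingSubgroup (hNn.map _ φ.surjective)
  exact Group.nilpotent_of_surjective _ (φ.toMonoidHom.subgroupMap_surjective N)

theorem isNilpotent_map_of_injective {H : Type*} [Group H] (φ : H →* G) (X : Subgroup H)
    (hX : Group.IsNilpotent X) : Group.IsNilpotent (X.map φ) :=
  Group.nilpotent_of_surjective _ (φ.subgroupMap_surjective X)

/-- The Fitting subgroup of a subnormal subgroup lies in the Fitting subgroup. -/
theorem fittingSubgroup_map_le_of_isSubnormal [Finite G] {K : Subgroup G} (hK : K.IsSubnormal) :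
    (Cfsg.fittingSubgroup K).map K.subtype ≤ Cfsg.fittingSubgroup G := by
  induction hK with
  | top =>
    apply le_fittingSubgroup inferInstance
    exact isNilpotent_map_of_injective _ _ fittingSubgroup_isNilpotent
  | step H K hHK hKsn hHn ih =>
    refine le_trans ?_ ih
    set F : Subgroup G := (Cfsg.fittingSubgroup H).map H.subtype with hF
    have hFH : F ≤ H := Subgroup.map_subtype_le _
    have hFK : F ≤ K := hFH.trans hHK
    have hKN : K ≤ Subgroup.normalizer (F : Set G) :=
      ((Subgroup.normal_subgroupOf_iff_le_normalizer hHK).mp hHn).trans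
        (normalizer_le_normalizer_map_characteristic H (Cfsg.fittingSubgroup H))
    have hFn : (F.subgroupOf K).Normal := Subgroup.normal_subgroupOf_of_le_normalizer hKN
    have hFnil : Group.IsNilpotent (F.subgroupOf K) := by
      have h1 : Group.IsNilpotent F := isNilpotent_map_of_injective _ _ fittingSubgroup_isNilpotent
      exact Group.nilpotent_of_mulEquiv (Subgroup.subgroupOfEquivOfLe hFK).symm
    have h2 : F.subgroupOf K ≤ Cfsg.fittingSubgroup K := le_fittingSubgroup hFn hFnil
    calc F = (F.subgroupOf K).map K.subtype := (Subgroup.map_subgroupOf_eq_of_le hFK).symm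
      _ ≤ (Cfsg.fittingSubgroup K).map K.subtype := Subgroup.map_mono h2

theorem le_fittingSubgroup_of_isSubnormal_of_isNilpotent [Finite G] {A : Subgroup G}
    (hA : A.IsSubnormal) (hnil : Group.IsNilpotent A) : A ≤ Cfsg.fittingSubgroup G := by
  refine le_trans ?_ (fittingSubgroup_map_le_of_isSubnormal hA)
  have h1 : Cfsg.fittingSubgroup A = ⊤ := by
    rw [eq_top_iff]
    apply le_fittingSubgroup inferInstance
    exact (Group.isNilpotent_congr Subgroup.topEquiv).mpr hnil
  rw [h1, ← MonoidHom.range_eq_map, Subgroup.range_subtype]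

theorem subnormal_of_join_conj_nilpotent [Finite G] (A : Subgroup G)
    (h : ∀ g : G, Group.IsNilpotent (A ⊔ MulAut.conj g • A : Subgroup G)) :
    A.IsSubnormal ∧ A ≤ Cfsg.fittingSubgroup G := by
  have hsn : A.IsSubnormal := by
    apply wielandt_criterion
    intro g
    have := h g
    exact isNilpotent_iff_forall_isSubnormal.mp this _
  refine ⟨hsn, le_fittingSubgroup_of_isSubnormal_of_isNilpotent hsn ?_⟩
  have h1 := h 1
  have e : A ⊔ MulAut.conj (1 : G) • A = A := by simp
  rw [e] at h1
  exact h1

end Cfsg.Agent.Lib.Helper1
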