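import Mathlib

set_option autoImplicit false

namespace Cfsg.Agent.Lib.Helper1

theorem aux_inv_mul {G : Type*} [Group G] {u v a b : G} (h : u⁻¹ * a = v⁻¹ * b) :
    u * v⁻¹ = a * b⁻¹ := by
  have : a = u * (v⁻¹ * b) := by rw [← h]; group
  rw [this]; group

/-- For a fixed-point-free automorphism of a finite group, `h ↦ (φ h)⁻¹ * h` is injective. -/
theorem fpf_inj {G : Type*} [Group G] (φ : G ≃* G)
    (hφ : MonoidHom.FixedPointFree (φ : G →* G)) :
    Function.Injective (fun n : G => (φ n)⁻¹ * n) := by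
  intro a b hab
  have h2 : φ ((a:G) * (b:G)⁻¹) = (a:G) * (b:G)⁻¹ := by
    rw [map_mul, map_inv]
    exact aux_inv_mul hab
  have h3 := hφ _ h2
  exact (mul_inv_eq_one.mp h3)

/-- For a fixed-point-free automorphism of a finite group, `h ↦ (φ h)⁻¹ * h` is surjective. -/
theorem fpf_surj {G : Type*} [Group G] [Finite G] (φ : G ≃* G)
    (hφ : MonoidHom.FixedPointFree (φ : G →* G)) (g : G) : ∃ h : G, (φ h)⁻¹ * h = g :=
  Finite.surjective_of_injective (fpf_inj φ hφ) g

end Cfsg.Agent.Lib.Helper1
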