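import Mathlib
import Cfsg.Agent.Lib.Helper7.AGRefined
import Cfsg.Agent.Lib.Helper7.SylowControl
set_option autoImplicit false
open scoped commutatorElement Pointwise
open Cfsg
universe u
namespace Cfsg.Agent.Lib.Helper1.FusionZJ

open Cfsg.Agent.Lib.Helper7

variable {G : Type u} [Group G]

local notation:max Q "⋏" g:max => Subgroup.map (MulEquiv.toMonoidHom (MulAut.conj g)) Q

/-- every `p`-subgroup of `C_G(X)` lies in `X` -/
def PCentric (p : ℕ) (X : Subgroup G) : Prop :=
  ∀ Y : Subgroup G, IsPGroup p ↥Y → Y ≤ Subgroup.centralizer (X : Set G) → Y ≤ X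

theorem centralizer_map_conj (X : Subgroup G) (g : G) :
    Subgroup.centralizer ((X ⋏ g : Subgroup G) : Set G) =
      (Subgroup.centralizer (X : Set G)) ⋏ g := by
  ext z
  rw [mem_map_conj_iff, Subgroup.mem_centralizer_iff, Subgroup.mem_centralizer_iff]
  constructor
  · intro h x hx
    have h1 := h (g * x * g⁻¹) ⟨x, hx, by simp [MulAut.conj_apply]⟩
    calc x * (g⁻¹ * z * g) = g⁻¹ * ((g * x * g⁻¹) * z) * g := by group
      _ = g⁻¹ * (z * (g * x * g⁻¹)) * g := by rw [h1]
      _ = g⁻¹ * z * g * x := by group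
  · rintro h _ ⟨x, hx, rfl⟩
    have h1 := h x hx
    simp only [MulEquiv.toMonoidHom_eq_coe, MonoidHom.coe_coe, MulAut.conj_apply]
    calc g * x * g⁻¹ * z = g * (x * (g⁻¹ * z * g)) * g⁻¹ := by group
      _ = g * ((g⁻¹ * z * g) * x) * g⁻¹ := by rw [h1]
      _ = z * (g * x * g⁻¹) := by group

theorem PCentric.conj {p : ℕ} {X : Subgroup G} (h : PCentric p X) (g : G) : PCentric p (X ⋏ g) := by
  intro Y hY hYC
  rw [centralizer_map_conj] at hYC
  have h1 : Y ⋏ g⁻¹ ≤ Subgroup.centralizer (X : Set G) := by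
    rw [map_conj_le_iff, inv_inv]; exact hYC
  have h2 := h _ (hY.map _) h1
  rw [map_conj_le_iff, inv_inv] at h2
  exact h2

theorem PCentric.center_le {p : ℕ} {X S : Subgroup G} (h : PCentric p X) (hS : IsPGroup p ↥S)
    (hXS : X ≤ S) : S ⊓ Subgroup.centralizer (S : Set G) ≤ X := by
  apply h _ (hS.to_le inf_le_left)
  exact inf_le_right.trans (Subgroup.centralizer_le (SetLike.coe_subset_coe.mpr hXS))

theorem pCentric_of_fully_normalized [Finite G] {p : ℕ} [Fact p.Prime] (S : Sylow p G)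
    {X : Subgroup G}
    (hfn : ¬ p ∣ ((S : Subgroup G) ⊓ Subgroup.normalizer (X : Set G)).relIndex
      (Subgroup.normalizer (X : Set G)))
    (hc : (S : Subgroup G) ⊓ Subgroup.centralizer (X : Set G) ≤ X) : PCentric p X := by
  have hSp : IsPGroup p ↥(S : Subgroup G) := S.isPGroup'
  set N : Subgroup G := Subgroup.normalizer (X : Set G) with hN
  set C : Subgroup G := Subgroup.centralizer (X : Set G) with hC
  have hCN : C ≤ N := Subgroup.centralizer_le_normalizer _
  have hNC : N ≤ Subgroup.normalizer (C : Set G) := normalizer_le_normalizer_centralizer X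
  have hsyl : IsSylowIn p ((S : Subgroup G) ⊓ N) N := ⟨inf_le_right, hSp.to_le inf_le_left, hfn⟩
  have hsylC : IsSylowIn p ((S : Subgroup G) ⊓ C) C := by
    have := hsyl.inf_normal hCN hNC
    rwa [inf_assoc, inf_of_le_right hCN] at this
  intro Y hYp hYC
  have hYn : Y ≤ Subgroup.normalizer (((S : Subgroup G) ⊓ C : Subgroup G) : Set G) := by
    intro y hy
    apply Subgroup.centralizer_le_normalizer
    rw [Subgroup.mem_centralizer_iff]
    intro z hz
    exact (Subgroup.mem_centralizer_iff.mp (hYC hy) z (hc hz))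
  have h1 : IsPGroup p ↥(Y ⊔ ((S : Subgroup G) ⊓ C)) :=
    IsPGroup.to_sup_of_normal_right' hYp hsylC.2.1 hYn
  have h2 : Y ⊔ ((S : Subgroup G) ⊓ C) = (S : Subgroup G) ⊓ C :=
    hsylC.eq_of_le le_sup_right (sup_le hYC inf_le_right) h1
  exact ((h2 ▸ le_sup_left : Y ≤ (S : Subgroup G) ⊓ C)).trans hc

/-- local control at the centric fully normalized subgroups containing `Z(S)` gives global
control of strong fusion by `N(W(S))` -/
theorem innRel_of_centric_local [Finite G] {p : ℕ} [Fact p.Prime] (S : Sylow p G)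
    (W : Subgroup G → Subgroup G)
    (hWconj : ∀ (Q : Subgroup G) (g : G), W (Q ⋏ g) = (W Q) ⋏ g)
    (hWle : ∀ Q : Subgroup G, W Q ≤ Q)
    (hWcen : ∀ Q : Subgroup G, Q ⊓ Subgroup.centralizer (Q : Set G) ≤ W Q)
    (hloc : ∀ T : Subgroup G, T ≤ (S : Subgroup G) →
      (S : Subgroup G) ⊓ Subgroup.centralizer ((S : Subgroup G) : Set G) ≤ T →
      ¬ p ∣ ((S : Subgroup G) ⊓ Subgroup.normalizer (T : Set G)).relIndex
        (Subgroup.normalizer (T : Set G)) →
      ∀ y ∈ Subgroup.normalizer (T : Set G), ∀ B : Set G,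
        B ⊆ ((S : Subgroup G) ⊓ Subgroup.normalizer (T : Set G) : Subgroup G) →
        cr y B ⊆ ((S : Subgroup G) ⊓ Subgroup.normalizer (T : Set G) : Subgroup G) →
        InnRel (Subgroup.normalizer
          ((W ((S : Subgroup G) ⊓ Subgroup.normalizer (T : Set G)) : Subgroup G) : Set G)) B y) :
    ∀ (A : Set G) (g : G), A ⊆ (S : Subgroup G) → cr g A ⊆ (S : Subgroup G) →
      InnRel (Subgroup.normalizer ((W (S : Subgroup G) : Subgroup G) : Set G)) A g := by
  have hSp : IsPGroup p ↥(S : Subgroup G) := S.isPGroup'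
  obtain ⟨NW, hNW⟩ : ∃ NW : Subgroup G,
    NW = Subgroup.normalizer ((W (S : Subgroup G) : Subgroup G) : Set G) := ⟨_, rfl⟩
  rw [← hNW]
  obtain ⟨Z, hZ⟩ : ∃ Z : Subgroup G,
    Z = (S : Subgroup G) ⊓ Subgroup.centralizer ((S : Subgroup G) : Set G) := ⟨_, rfl⟩
  rw [← hZ] at hloc
  have hRel := InnRel.fusionRel NW
  have hcongr : ∀ (A : Set G) (g g' : G), InnRel NW A g →
      (∀ a ∈ A, g⁻¹ * a * g = g'⁻¹ * a * g') → InnRel NW A g' := by
    rintro A g g' ⟨s, hs, hsa⟩ hag
    exact ⟨s, hs, fun a ha => (hsa a ha).trans (hag a ha)⟩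
  apply FusionRel.centric_induction S hRel hcongr
  intro X hXS hfn hc hbig x hx
  have hPX : PCentric p X := pCentric_of_fully_normalized S hfn hc
  have inner : ∀ (d : ℕ) (T : Subgroup G), T ≤ (S : Subgroup G) → Z ≤ T →
      ¬ p ∣ ((S : Subgroup G) ⊓ Subgroup.normalizer (T : Set G)).relIndex
        (Subgroup.normalizer (T : Set G)) →
      Nat.card ↥(S : Subgroup G) -
        Nat.card ↥((S : Subgroup G) ⊓ Subgroup.normalizer (T : Set G) : Subgroup G) = d →
      ∀ X' : Subgroup G, X' ≤ (S : Subgroup G) ⊓ Subgroup.normalizer (T : Set G) →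
        PCentric p X' → Nat.card ↥X' = Nat.card ↥X →
        ∀ y ∈ Subgroup.normalizer (T : Set G),
          cr y (X' : Set G) ⊆ ((S : Subgroup G) ⊓ Subgroup.normalizer (T : Set G) : Subgroup G) →
          InnRel NW (X' : Set G) y := by
    intro d
    induction d using Nat.strong_induction_on with
    | _ d ih =>
    intro T hTS hZT hTfn hd X' hX'S' hPX' hcardX' y hy hyX'
    obtain ⟨S', hS'⟩ : ∃ S' : Subgroup G,
      S' = (S : Subgroup G) ⊓ Subgroup.normalizer (T : Set G) := ⟨_, rfl⟩
    rw [← hS'] at hX'S' hyX' hd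
    have hS'S : S' ≤ (S : Subgroup G) := by rw [hS']; exact inf_le_left
    have hS'p : IsPGroup p ↥S' := hSp.to_le hS'S
    obtain ⟨m, hm, hmag⟩ := hloc T hTS hZT hTfn y hy X' (by rw [← hS']; exact hX'S')
      (by rw [← hS']; exact hyX')
    rw [← hS'] at hm
    by_cases hS'eq : S' = (S : Subgroup G)
    · rw [hS'eq, ← hNW] at hm
      exact ⟨m, hm, hmag⟩
    · obtain ⟨U, hU⟩ : ∃ U : Subgroup G, U = W S' := ⟨_, rfl⟩
      rw [← hU] at hm
      have hUS' : U ≤ S' := by rw [hU]; exact hWle S'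
      have hUS : U ≤ (S : Subgroup G) := hUS'.trans hS'S
      have hNN : Subgroup.normalizer (S' : Set G) ≤ Subgroup.normalizer (U : Set G) := by
        intro g hg
        rw [← map_conj_eq_self_iff, hU, ← hWconj, map_conj_eq_of_mem_normalizer hg]
      obtain ⟨R, hR⟩ : ∃ R : Subgroup G,
        R = (S : Subgroup G) ⊓ Subgroup.normalizer (U : Set G) := ⟨_, rfl⟩
      have hRS : R ≤ (S : Subgroup G) := by rw [hR]; exact inf_le_left
      have hS'R : S' ≤ R := by
        rw [hR]; exact le_inf hS'S (Subgroup.le_normalizer.trans hNN)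
      have hgrow : Nat.card ↥S' < Nat.card ↥R := by
        by_contra hle
        push Not at hle
        have heq := Subgroup.eq_of_le_of_card_ge hS'R hle
        apply hS'eq
        apply eq_of_inf_normalizer_eq S' (S : Subgroup G) hSp hS'S
        calc (S : Subgroup G) ⊓ Subgroup.normalizer (S' : Set G)
            ≤ (S : Subgroup G) ⊓ Subgroup.normalizer (U : Set G) := inf_le_inf_left _ hNN
          _ = S' := by rw [← hR]; exact heq.symm
      obtain ⟨b, hbS, hbfn⟩ := exists_fully_normalized_conj S U hUS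
      obtain ⟨U', hU'⟩ : ∃ U' : Subgroup G, U' = U ⋏ b := ⟨_, rfl⟩
      rw [← hU'] at hbS hbfn
      obtain ⟨k, hkU, hkR⟩ := exists_cr_eq_and_normalizer_subset S b hU'.symm hbfn
      rw [← hR] at hkR
      have hkU' : U ⋏ k⁻¹ = U' := by
        rw [← SetLike.coe_set_eq, ← cr_coe_eq_map]
        exact hkU
      obtain ⟨R', hR'⟩ : ∃ R' : Subgroup G,
        R' = (S : Subgroup G) ⊓ Subgroup.normalizer (U' : Set G) := ⟨_, rfl⟩
      have hkR' : cr k (R : Set G) ⊆ (R' : Set G) := by
        intro z hz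
        rw [hR']
        refine Subgroup.mem_inf.mpr ⟨hkR hz, ?_⟩
        rw [mem_cr_iff, hR] at hz
        have h1 := conj_mem_normalizer_map_conj (Subgroup.mem_inf.mp hz).2 k⁻¹
        rw [hkU'] at h1
        have e : k⁻¹ * (k * z * k⁻¹) * k⁻¹⁻¹ = z := by group
        rwa [e] at h1
      have hRR' : Nat.card ↥R ≤ Nat.card ↥R' := by
        have h1 : (cr k (R : Set G)).ncard ≤ (R' : Set G).ncard :=
          Set.ncard_le_ncard hkR' (Set.toFinite _)
        rw [ncard_cr] at h1
        have h2 : Nat.card ↥R = (R : Set G).ncard := Nat.card_coe_set_eq _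
        have h3 : Nat.card ↥R' = (R' : Set G).ncard := Nat.card_coe_set_eq _
        omega
      have hR'le : Nat.card ↥R' ≤ Nat.card ↥(S : Subgroup G) := by
        rw [hR']; exact Subgroup.card_le_of_le inf_le_left
      have hX'S'c : Nat.card ↥X' ≤ Nat.card ↥S' := Subgroup.card_le_of_le hX'S'
      have hRk : InnRel NW (R : Set G) k := hbig R hRS (by omega) k hkR
      have hX'R : (X' : Set G) ⊆ (R : Set G) := SetLike.coe_subset_coe.mpr (hX'S'.trans hS'R)
      have hmX' : cr m (X' : Set G) = cr y (X' : Set G) := cr_eq_of_agree hmag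
      have hmX'R : cr m (X' : Set G) ⊆ (R : Set G) := by
        rw [hmX']; exact hyX'.trans (SetLike.coe_subset_coe.mpr hS'R)
      obtain ⟨X'', hX''⟩ : ∃ X'' : Subgroup G, X'' = X' ⋏ k⁻¹ := ⟨_, rfl⟩
      have hX''coe : (X'' : Set G) = cr k (X' : Set G) := by rw [hX'', cr_coe_eq_map]
      have hX''R' : X'' ≤ R' := by
        rw [← SetLike.coe_subset_coe, hX''coe]
        exact (cr_mono hX'R k).trans hkR'
      have hPX'' : PCentric p X'' := by rw [hX'']; exact hPX'.conj k⁻¹
      have hX''S : X'' ≤ (S : Subgroup G) := by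
        rw [hR'] at hX''R'; exact hX''R'.trans inf_le_left
      have hZX'' : Z ≤ X'' := by rw [hZ]; exact hPX''.center_le hSp hX''S
      obtain ⟨S'', hS''⟩ : ∃ S'' : Subgroup G, S'' = S' ⋏ k⁻¹ := ⟨_, rfl⟩
      have hS''S : S'' ≤ (S : Subgroup G) := by
        rw [← SetLike.coe_subset_coe, hS'', ← cr_coe_eq_map]
        exact (cr_mono (SetLike.coe_subset_coe.mpr hS'R) k).trans hkR
      have hX''S'' : X'' ≤ S'' := by
        rw [hX'', hS'']; exact Subgroup.map_mono hX'S'
      have hZU' : Z ≤ U' := by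
        rw [← hkU', hU, ← hWconj, ← hS'']
        refine le_trans ?_ (hWcen S'')
        refine le_inf (hZX''.trans hX''S'') ?_
        rw [hZ]
        exact inf_le_right.trans (Subgroup.centralizer_le (SetLike.coe_subset_coe.mpr hS''S))
      obtain ⟨y', hy'⟩ : ∃ y' : G, y' = k⁻¹ * m * k := ⟨_, rfl⟩
      have hy'N : y' ∈ Subgroup.normalizer (U' : Set G) := by
        have h1 := conj_mem_normalizer_map_conj hm k⁻¹
        rw [hkU', inv_inv] at h1
        rw [hy']; exact h1
      have hkm : cr (k * y') (X' : Set G) = cr k (cr m (X' : Set G)) := by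
        rw [← cr_mul]
        congr 1
        rw [hy']; group
      have h1 : InnRel NW (cr k (X' : Set G)) y' := by
        rw [← hX''coe]
        apply ih (Nat.card ↥(S : Subgroup G) - Nat.card ↥R') (by omega) U' hbS hZU' hbfn
          (by rw [hR']) X'' (by rw [← hR']; exact hX''R') hPX''
          (by rw [hX'', Subgroup.card_map_of_injective (MulAut.conj k⁻¹).injective, hcardX'])
          y' hy'N
        rw [← hR', hX''coe, ← cr_mul, hkm]
        exact (cr_mono hmX'R k).trans hkR'
      have h2 : InnRel NW (cr (k * y') (X' : Set G)) k⁻¹ := by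
        rw [hkm]
        exact hRel.inv (hRel.mono hRk hmX'R)
      have hm_eq : m = k * y' * k⁻¹ := by rw [hy']; group
      have h3 : InnRel NW (X' : Set G) m := by
        rw [hm_eq]
        exact hRel.comp (hRel.comp (hRel.mono hRk hX'R) h1) h2
      exact hcongr _ _ _ h3 hmag
  have hZX : Z ≤ X := by rw [hZ]; exact hPX.center_le hSp hXS
  apply inner _ X hXS hZX hfn rfl X (le_inf hXS Subgroup.le_normalizer) hPX rfl x hx
  rw [(cr_eq_self_iff_mem_normalizer x X).mpr hx]
  exact SetLike.coe_subset_coe.mpr (le_inf hXS Subgroup.le_normalizer)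

end Cfsg.Agent.Lib.Helper1.FusionZJ
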