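import Mathlib
import Cfsg.Agent.Lib.Helper1.FusionZJ1
import Cfsg.Agent.Lib.Helper1.FusionZJ2
import Cfsg.Agent.Lib.Helper1.ZJ11
set_option autoImplicit false
open scoped commutatorElement Pointwise
open Cfsg
universe u
namespace Cfsg.Agent.Lib.Helper1.FusionZJ

open Cfsg.Agent.Lib.Helper1.FreeStable Cfsg.Agent.Lib.Helper1.NPC Cfsg.Agent.Lib.Helper1.ZJ
  Cfsg.Agent.Lib.Helper7 Cfsg.Agent.Lib.Helper2.Inv

variable {G : Type u} [Group G]

local notation:max Q "⋏" g:max => Subgroup.map (MulEquiv.toMonoidHom (MulAut.conj g)) Q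

theorem centerThompsonAOf_conj [Finite G] (Q : Subgroup G) (g : G) :
    centerThompsonAOf (Q ⋏ g) = (centerThompsonAOf Q) ⋏ g := by
  rw [centerThompsonAOf_eq, centerThompsonAOf_eq]
  exact (zjFamily_A 2).map_sInf (MulAut.conj g) Q

theorem center_le_centerThompsonAOf [Finite G] (Q : Subgroup G) :
    Q ⊓ Subgroup.centralizer (Q : Set G) ≤ centerThompsonAOf Q := by
  intro z hz
  rw [centerThompsonAOf_eq]
  apply mem_sInf_of_central hz.1
  intro x hx
  exact (Subgroup.mem_centralizer_iff.mp hz.2 x hx).symm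

/-- ambient form of `SL₂(p)`-freeness of a subgroup -/
theorem sl2Free_of_ambient {p : ℕ} (N : Subgroup G)
    (h : ¬ ∃ (H K : Subgroup G) (_ : (K.subgroupOf H).Normal), H ≤ N ∧
      Nonempty ((H ⧸ K.subgroupOf H) ≃* Matrix.SpecialLinearGroup (Fin 2) (ZMod p))) :
    SL2Free p ↥N := by
  intro hinv
  apply h
  obtain ⟨K', φ, hφ⟩ := exists_surjective_of_involves hinv
  let e : K' ≃* K'.map N.subtype := K'.equivMapOfInjective N.subtype N.subtype_injective
  obtain ⟨H, hH⟩ : ∃ H : Subgroup G, H = K'.map N.subtype := ⟨_, rfl⟩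
  have hHN : H ≤ N := by
    rw [hH]; rintro _ ⟨x, -, rfl⟩; exact x.2
  let φ' : ↥(K'.map N.subtype) →* Matrix.SpecialLinearGroup (Fin 2) (ZMod p) :=
    φ.comp e.symm.toMonoidHom
  have hφ' : Function.Surjective φ' := hφ.comp e.symm.surjective
  have h1 : (φ'.ker.map (K'.map N.subtype).subtype).subgroupOf (K'.map N.subtype) = φ'.ker := by
    ext x
    rw [Subgroup.mem_subgroupOf, Subgroup.mem_map]
    constructor
    · rintro ⟨y, hy, hyx⟩
      have : y = x := Subtype.ext hyx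
      rwa [← this]
    · intro hx
      exact ⟨x, hx, rfl⟩
  have hN : ((φ'.ker.map (K'.map N.subtype).subtype).subgroupOf (K'.map N.subtype)).Normal := by
    rw [h1]; infer_instance
  refine ⟨K'.map N.subtype, φ'.ker.map (K'.map N.subtype).subtype, hN, ?_, ?_⟩
  · rw [← hH]; exact hHN
  · exact ⟨(QuotientGroup.quotientMulEquivOfEq h1).trans
      (QuotientGroup.quotientKerEquivOfSurjective φ' hφ')⟩

theorem s3071 [Finite G] {p : ℕ} [Fact p.Prime]
    (hp : p ≠ 2) (S : Sylow p G)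
    (hfree : ∀ P : Subgroup G, (S : Subgroup G) ⊓ Subgroup.centralizer ((S : Subgroup G) : Set G) ≤ P → P ≤ S →
      ¬ ∃ (H K : Subgroup G) (hK : (K.subgroupOf H).Normal), H ≤ Subgroup.normalizer (P : Set G) ∧
        Nonempty ((H ⧸ K.subgroupOf H) ≃* Matrix.SpecialLinearGroup (Fin 2) (ZMod p))) :
    ∀ x ∈ S, ∀ y ∈ S, (∃ g : G, g * x * g⁻¹ = y) ↔
      ∃ n ∈ Subgroup.normalizer (Cfsg.centerThompsonAOf (S : Subgroup G) : Set G), n * x * n⁻¹ = y := by
  intro x hx y hy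
  constructor
  swap
  · rintro ⟨n, -, hn⟩; exact ⟨n, hn⟩
  rintro ⟨g, hg⟩
  have hSp : IsPGroup p ↥(S : Subgroup G) := S.isPGroup'
  have key := innRel_of_centric_local S (fun Q => centerThompsonAOf Q)
    (fun Q g => centerThompsonAOf_conj Q g) (fun Q => centerThompsonAOf_le Q)
    (fun Q => center_le_centerThompsonAOf Q) ?_ {x} g⁻¹
    (by intro a ha; rw [Set.mem_singleton_iff] at ha; rw [ha]; exact hx)
    (by
      rintro _ ⟨a, ha, rfl⟩
      rw [Set.mem_singleton_iff] at ha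
      rw [ha]
      show g⁻¹⁻¹ * x * g⁻¹ ∈ (S : Subgroup G)
      rw [inv_inv, hg]; exact hy)
  · obtain ⟨s, hs, hsa⟩ := key
    refine ⟨s⁻¹, Subgroup.inv_mem _ hs, ?_⟩
    have := hsa x rfl
    rw [inv_inv] at this ⊢
    rw [this, hg]
  -- local control
  intro T hTS hZT hTfn y hy B hB hBy
  obtain ⟨N, hN⟩ : ∃ N : Subgroup G, N = Subgroup.normalizer (T : Set G) := ⟨_, rfl⟩
  rw [← hN] at hTfn hy hB hBy ⊢
  have hfreeN : SL2Free p ↥N := by
    apply sl2Free_of_ambient N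
    rw [hN]
    exact hfree T hZT hTS
  obtain ⟨S₁, hS₁⟩ : ∃ S₁ : Subgroup G, S₁ = (S : Subgroup G) ⊓ N := ⟨_, rfl⟩
  rw [← hS₁] at hTfn hB hBy ⊢
  have hS₁N : S₁ ≤ N := by rw [hS₁]; exact inf_le_right
  have hS₁p : IsPGroup p ↥(S₁.subgroupOf N) :=
    (hSp.to_le (by rw [hS₁]; exact inf_le_left)).comap_subtype
  have hidx : ¬ p ∣ (S₁.subgroupOf N).index := hTfn
  obtain ⟨T₁, hT₁⟩ : ∃ T₁ : Sylow p ↥N, (T₁ : Subgroup ↥N) = S₁.subgroupOf N :=
    ⟨hS₁p.toSylow hidx, IsPGroup.toSylow_coe _ _⟩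
  have hT₁map : (T₁ : Subgroup ↥N).map N.subtype = S₁ := by
    rw [hT₁, Subgroup.map_subgroupOf_eq_of_le hS₁N]
  obtain ⟨x', hx', hx'a⟩ := exists_mem_normalizer_ZJ_of_free hp hfreeN T₁ (N.subtype ⁻¹' B) ⟨y, hy⟩
    (by
      intro a ha
      have h1 : (a : G) ∈ S₁ := hB ha
      show a ∈ (T₁ : Subgroup ↥N)
      rw [hT₁]; exact Subgroup.mem_subgroupOf.mpr h1)
    (by
      rintro _ ⟨a, ha, rfl⟩
      have h1 : y⁻¹ * (a : G) * y ∈ S₁ := hBy ⟨a, ha, rfl⟩
      show _ ∈ (T₁ : Subgroup ↥N)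
      rw [hT₁]; exact Subgroup.mem_subgroupOf.mpr h1)
  refine ⟨(x' : G), ?_, ?_⟩
  · have h1 := Subgroup.le_normalizer_map N.subtype ⟨x', hx', rfl⟩
    rw [← centerThompsonAOf_map_of_injOn N.subtype _ N.subtype_injective.injOn, hT₁map] at h1
    exact h1
  · intro a ha
    have haN : a ∈ N := hS₁N (hB ha)
    have := hx'a ⟨a, haN⟩ ha
    exact congrArg Subtype.val this

end Cfsg.Agent.Lib.Helper1.FusionZJ
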