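import Mathlib
import Cfsg.Agent.Lib.Helper1.AODefs
import Cfsg.Agent.Lib.Helper1.AOF0
import Cfsg.Agent.Lib.Helper1.AOF2
import Cfsg.Agent.Lib.Helper8.AOG11
import Cfsg.Agent.Lib.Helper4.AOO1
import Cfsg.Agent.Lib.Helper4.AOO3
import Cfsg.Agent.Lib.Helper9.AOO8
import Cfsg.Agent.Lib.Helper7.AOO9
import Cfsg.Agent.Lib.Helper6.AOF4
import Cfsg.Agent.Lib.Helper6.AOF5
import Cfsg.Agent.Lib.Helper7.AOF6

set_option autoImplicit false
set_option linter.unusedVariables false
set_option linter.style.longLine false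

/-!
# S3406, odd case: no simple group of odd order with `Aut`-transitive orders and spectrum
`{1,p,q,r,pq}`
-/

open Cfsg.Agent.Lib.Helper1.AO

universe u

namespace Cfsg.Agent.Lib.Helper1.AO

theorem arith_odd (g np nq nr npq eq kp kq kr d ε cP cQ cR cQx p : ℕ)
    (hce : g = 1 + np + nq + nr + npq)
    (hpairs : npq = np * eq)
    (hcp : np * kp * d = (cP - 1) * g) (hkp : 3 ≤ kp) (hd : d = cP * cQx) (heq : eq + 1 = cQx)
    (hcq : nq * kq * ε = (cQ - 1) * g) (hkq : 3 ≤ kq) (hε : p * cQ ∣ ε) (hε0 : 0 < ε) (hp : 3 ≤ p)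
    (hcr : nr * kr * cR = (cR - 1) * g) (hkr : 3 ≤ kr)
    (hP : 0 < cP) (hQ : 0 < cQ) (hR : 0 < cR) (hg : 4 < g) : False := by
  subst hd
  subst heq
  have hA : (np + npq) * kp * cP = (cP - 1) * g := by
    rw [hpairs, ← hcp]; ring
  have h3A : 3 * (np + npq) < g := by
    have h1 : (np + npq) * 3 * cP ≤ (np + npq) * kp * cP :=
      Nat.mul_le_mul_right _ (Nat.mul_le_mul_left _ hkp)
    have h2 : (cP - 1) * g < cP * g := Nat.mul_lt_mul_of_pos_right (by omega) (by omega)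
    have h3 : (3 * (np + npq)) * cP < g * cP := by
      calc (3 * (np + npq)) * cP = (np + npq) * 3 * cP := by ring
        _ ≤ (np + npq) * kp * cP := h1
        _ = (cP - 1) * g := hA
        _ < cP * g := h2
        _ = g * cP := by ring
    exact Nat.lt_of_mul_lt_mul_right h3
  have h3r : 3 * nr < g := by
    have h1 : nr * 3 * cR ≤ nr * kr * cR := Nat.mul_le_mul_right _ (Nat.mul_le_mul_left _ hkr)
    have h2 : (cR - 1) * g < cR * g := Nat.mul_lt_mul_of_pos_right (by omega) (by omega)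
    have h3 : (3 * nr) * cR < g * cR := by
      calc (3 * nr) * cR = nr * 3 * cR := by ring
        _ ≤ nr * kr * cR := h1
        _ = (cR - 1) * g := hcr
        _ < cR * g := h2
        _ = g * cR := by ring
    exact Nat.lt_of_mul_lt_mul_right h3
  have h9q : 9 * nq < g := by
    obtain ⟨m, hm⟩ := hε
    have hm0 : 0 < m := by
      rcases Nat.eq_zero_or_pos m with h | h
      · subst h; simp at hm; omega
      · exact h
    have h1 : nq * 3 * (3 * cQ) ≤ nq * kq * ε := by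
      rw [hm]
      have : 3 * cQ ≤ p * cQ * m := by
        calc 3 * cQ ≤ p * cQ := Nat.mul_le_mul_right _ hp
          _ ≤ p * cQ * m := Nat.le_mul_of_pos_right _ hm0
      exact Nat.mul_le_mul (Nat.mul_le_mul_left _ hkq) this
    have h2 : (cQ - 1) * g < cQ * g := Nat.mul_lt_mul_of_pos_right (by omega) (by omega)
    have h3 : (9 * nq) * cQ < g * cQ := by
      calc (9 * nq) * cQ = nq * 3 * (3 * cQ) := by ring
        _ ≤ nq * kq * ε := h1
        _ = (cQ - 1) * g := hcq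
        _ < cQ * g := h2
        _ = g * cQ := by ring
    exact Nat.lt_of_mul_lt_mul_right h3
  omega

variable {G : Type u} [Group G] [Finite G] {p q r : ℕ}

open Cfsg.Agent.Lib.Helper4.AO Cfsg.Agent.Lib.Helper6.AO Cfsg.Agent.Lib.Helper8.AO
  Cfsg.Agent.Lib.Helper7.AO

theorem no_spec_odd (H : OddPQ G p q r) : False := by
  haveI : Fact p.Prime := ⟨H.hp⟩
  haveI : Fact q.Prime := ⟨H.hq⟩
  haveI : Fact r.Prime := ⟨H.hr⟩
  obtain ⟨w, hw⟩ := H.ex
  have hx : orderOf (w ^ q) = p := by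
    rw [orderOf_pow' w H.hq.ne_zero, hw, Nat.gcd_eq_right (Dvd.intro_left p rfl)]
    exact Nat.mul_div_cancel p H.hq.pos
  have hy : orderOf (w ^ p) = q := by
    rw [orderOf_pow' w H.hp.ne_zero, hw, Nat.gcd_eq_right (Dvd.intro q rfl)]
    exact Nat.mul_div_cancel_left q H.hp.pos
  obtain ⟨yr, hyr⟩ := H.exr
  obtain ⟨P⟩ : Nonempty (Sylow p G) := inferInstance
  obtain ⟨Q⟩ : Nonempty (Sylow q G) := inferInstance
  obtain ⟨R⟩ : Nonempty (Sylow r G) := inferInstance
  rcases Cfsg.Agent.Lib.Helper9.AO.odd_dichotomy H (w ^ q) hx with h1 | h2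
  · obtain ⟨Qx, hQ, hQC, hQn, hQall⟩ := h1
    obtain ⟨hcz, hcom⟩ := odd_caseN_card H P (w ^ q) hx Qx hQ hQC hQn hQall
    obtain ⟨hcp, hkp⟩ := odd_count H (Or.inl rfl) P (w ^ q) hx
    obtain ⟨hcq, hkq⟩ := odd_count H (Or.inr (Or.inl rfl)) Q (w ^ p) hy
    obtain ⟨hcr, hkr⟩ := odd_count H (Or.inr (Or.inr rfl)) R yr hyr
    rw [odd_cz_r H R yr hyr] at hcr
    have hdq := odd_cz_q H Q (w ^ p) hy
    have hcop : Nat.Coprime p q := (Nat.coprime_primes H.hp H.hq).mpr H.hpq
    have hpairs : cnt G (p * q) = cnt G p * com q (w ^ q) := cnt_mul H.aut hcop (w ^ q) hx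
    have hp3 : 3 ≤ p := by
      have h2 : p ≠ 2 := p_ne_two H (w ^ q) hx
      have := H.hp.two_le
      omega
    have hε0 : 0 < cz (w ^ p) := Nat.card_pos
    have hg : 4 < Nat.card G := by
      have e := odd_class_eq H
      have c1 : 0 < cnt G p := Nat.card_pos_iff.mpr ⟨⟨⟨w ^ q, hx⟩⟩, inferInstance⟩
      have c2 : 0 < cnt G q := Nat.card_pos_iff.mpr ⟨⟨⟨w ^ p, hy⟩⟩, inferInstance⟩
      have c3 : 0 < cnt G r := Nat.card_pos_iff.mpr ⟨⟨⟨yr, hyr⟩⟩, inferInstance⟩
      have c4 : 0 < cnt G (p * q) := Nat.card_pos_iff.mpr ⟨⟨⟨w, hw⟩⟩, inferInstance⟩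
      omega
    exact arith_odd (Nat.card G) (cnt G p) (cnt G q) (cnt G r) (cnt G (p * q)) (com q (w ^ q))
      (kap (P : Subgroup G) (w ^ q)) (kap (Q : Subgroup G) (w ^ p)) (kap (R : Subgroup G) yr)
      (cz (w ^ q)) (cz (w ^ p)) (Nat.card (P : Subgroup G)) (Nat.card (Q : Subgroup G))
      (Nat.card (R : Subgroup G)) (Nat.card Qx) p
      (odd_class_eq H) hpairs hcp hkp hcz hcom hcq hkq hdq hε0 hp3 hcr hkr
      Nat.card_pos Nat.card_pos Nat.card_pos hg
  · have h2' : ∀ x' : G, orderOf x' = p → Case2 q x' :=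
      fun x' hx' => Cfsg.Agent.Lib.Helper9.AO.odd_case2_transport H hx hx' h2
    have hN := odd_F4 H P h2'
    obtain ⟨hPn, hPab⟩ := odd_F5 H P h2'
    have hexp := odd_exp_p H P
    have hC : ∀ x ∈ (P : Subgroup G), x ≠ 1 → Subgroup.centralizer ({x} : Set G) ≤
        Subgroup.normalizer (Cfsg.centerThompsonAOf (P : Subgroup G) : Set G) := by
      intro x hxP hx1
      exact odd_F2 H P h2' x (orderOf_eq_prime (hexp x hxP) hx1) (le_normalizer_zj _ hxP)
    exact odd_F6 H P h2' hN hPn hPab hC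

/-- the form used by the top assembly. -/
theorem no_spec_odd' {G : Type u} [Group G] [Finite G] [IsSimpleGroup G]
    (hG : ¬ IsMulCommutative G)
    (hAT : ∀ x y : G, orderOf x = orderOf y → ∃ α : MulAut G, α x = y)
    (hodd : Odd (Nat.card G))
    (p q r : ℕ) (hp : p.Prime) (hq : q.Prime) (hr : r.Prime) (hpq : p ≠ q) (hpr : p ≠ r)
    (hqr : q ≠ r)
    (hspec : Set.range (orderOf : G → ℕ) = {1, p, q, r, p * q}) : False := by
  have hna : ∃ a b : G, a * b ≠ b * a := by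
    by_contra hcon
    push_neg at hcon
    exact hG ⟨⟨hcon⟩⟩
  have hmem : ∀ m : ℕ, m ∈ ({1, p, q, r, p * q} : Set ℕ) → ∃ x : G, orderOf x = m := by
    intro m hm
    rw [← hspec] at hm
    exact hm
  refine no_spec_odd (G := G) (p := p) (q := q) (r := r)
    { simple := inferInstance, nonab := hna, aut := hAT, odd := hodd, hp := hp, hq := hq, hr := hr,
      hpq := hpq, hpr := hpr, hqr := hqr, spec := ?_, ex := hmem _ (by simp), exr := hmem _ (by simp) }
  intro x
  have : orderOf x ∈ ({1, p, q, r, p * q} : Set ℕ) := by rw [← hspec]; exact ⟨x, rfl⟩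
  simpa using this

end Cfsg.Agent.Lib.Helper1.AO
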