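import Mathlib
import Cfsg.Agent.Lib.Helper1.AODefs
import Cfsg.Agent.Lib.Helper4.AOG1
import Cfsg.Agent.Lib.Helper4.AOG4
import Cfsg.Agent.Lib.Helper6.AOG5
import Cfsg.Agent.Lib.Helper6.AOG7
import Cfsg.Agent.Lib.Helper6.AOG8
import Cfsg.Agent.Lib.Helper8.AOG11
import Cfsg.Agent.Lib.Helper5.AOT1
import Cfsg.Agent.Lib.Helper5.AOT2
import Cfsg.Agent.Lib.Helper9.AOT8
import Cfsg.Agent.Lib.Helper2.AOT9
import Cfsg.Agent.Lib.Helper2.AOT12
import Cfsg.Agent.Lib.Helper2.AOT13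
import Cfsg.Agent.Lib.Helper9.AOT15
import Cfsg.Agent.Lib.Helper9.AOT16
import Cfsg.Agent.Lib.Helper9.AOT17
import Cfsg.Agent.Lib.Helper8.AOT18
import Cfsg.Agent.Lib.Helper8.AOT19
import Cfsg.Agent.Lib.Helper8.AOT20
import Cfsg.Agent.Lib.Helper8.AOT21

set_option autoImplicit false
set_option linter.unusedVariables false
set_option linter.style.longLine false

/-!
# S3406 piece (ii-b): no simple group with `Aut`-transitive orders and spectrum `{1,2,p,2p,r}`
-/

open Cfsg.Agent.Lib.Helper1.AO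

universe u

namespace Cfsg.Agent.Lib.Helper1.AO

theorem arith1 (g n2 np n2p nr e i q k c P : ℕ)
    (hce : g = 1 + n2 + np + n2p + nr)
    (h1 : n2p = n2 * e) (h2 : n2p = np * i) (hr : 2 * nr + 2 < g)
    (hinv : n2 * k * c = (q - 1) * g) (hk : 3 ≤ k) (hc : c = q * P) (hP : e + 1 = P)
    (hq : 4 ≤ q) (hi : q ≤ 2 * (i + 1)) : False := by
  obtain ⟨q', rfl⟩ : ∃ q', q = q' + 1 := ⟨q - 1, by omega⟩
  simp only [Nat.add_sub_cancel] at hinv
  have hq' : 3 ≤ q' := by omega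
  subst hc
  subst hP
  have hg : 0 < g := by omega
  have s1 : g < 2 * n2 + 2 * np + 2 * n2p := by omega
  have e1 : i * k * ((q' + 1) * (e + 1)) * n2 = i * (q' * g) := by
    rw [← hinv]; ring
  have e2 : i * k * ((q' + 1) * (e + 1)) * np = q' * g * e := by
    have : i * k * ((q' + 1) * (e + 1)) * np = k * ((q' + 1) * (e + 1)) * (np * i) := by ring
    rw [this, ← h2, h1]
    have : k * ((q' + 1) * (e + 1)) * (n2 * e) = (n2 * k * ((q' + 1) * (e + 1))) * e := by ring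
    rw [this, hinv]
  have e3 : i * k * ((q' + 1) * (e + 1)) * n2p = i * (q' * g) * e := by
    rw [h1]
    have : i * k * ((q' + 1) * (e + 1)) * (n2 * e) = i * (n2 * k * ((q' + 1) * (e + 1))) * e := by ring
    rw [this, hinv]
  have s2 : i * k * ((q' + 1) * (e + 1)) * g <
      2 * (i * (q' * g)) + 2 * (q' * g * e) + 2 * (i * (q' * g) * e) := by
    by_cases hi0 : i = 0
    · subst hi0; omega
    have hpos : 0 < i * k * ((q' + 1) * (e + 1)) := by positivity
    have := Nat.mul_lt_mul_of_pos_left s1 hpos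
    calc i * k * ((q' + 1) * (e + 1)) * g < i * k * ((q' + 1) * (e + 1)) * (2 * n2 + 2 * np + 2 * n2p) := this
      _ = 2 * (i * k * ((q' + 1) * (e + 1)) * n2) + 2 * (i * k * ((q' + 1) * (e + 1)) * np)
          + 2 * (i * k * ((q' + 1) * (e + 1)) * n2p) := by ring
      _ = _ := by rw [e1, e2, e3]
  have s3 : i * k * ((q' + 1) * (e + 1)) < 2 * q' * (i + e + i * e) := by
    have : i * k * ((q' + 1) * (e + 1)) * g < (2 * q' * (i + e + i * e)) * g := by
      calc _ < _ := s2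
        _ = _ := by ring
    exact Nat.lt_of_mul_lt_mul_right this
  have s4 : i * 3 * ((q' + 1) * (e + 1)) ≤ i * k * ((q' + 1) * (e + 1)) := by
    apply Nat.mul_le_mul_right
    exact Nat.mul_le_mul_left _ hk
  zify at s3 s4 hi hq'
  have hi' : (q' : ℤ) - 1 ≤ 2 * i := by linarith
  nlinarith [mul_nonneg (Nat.cast_nonneg e : (0:ℤ) ≤ e) (Nat.cast_nonneg q' : (0:ℤ) ≤ q'),
    mul_nonneg (Nat.cast_nonneg i : (0:ℤ) ≤ i) (Nat.cast_nonneg e : (0:ℤ) ≤ e),
    mul_nonneg (mul_nonneg (Nat.cast_nonneg e : (0:ℤ) ≤ e) (Nat.cast_nonneg q' : (0:ℤ) ≤ q')) (sub_nonneg.mpr hq'),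
    mul_le_mul_of_nonneg_right hi' (show (0:ℤ) ≤ ((e:ℤ) + 1) * ((q':ℤ) + 3) by positivity)]

variable {G : Type u} [Group G] [Finite G] {p r : ℕ}

open Cfsg.Agent.Lib.Helper4.AO Cfsg.Agent.Lib.Helper6.AO Cfsg.Agent.Lib.Helper8.AO
  Cfsg.Agent.Lib.Helper5.AO Cfsg.Agent.Lib.Helper9.AO Cfsg.Agent.Lib.Helper2.AO

theorem orderOf_eq_of_mem_pgroup (H : TwoP G p r) (t : G) (ht : orderOf t = 2) (Pt : Subgroup G)
    (hP : IsPGroup p Pt) (hPC : Pt ≤ Subgroup.centralizer ({t} : Set G)) (x : G) (hx : x ∈ Pt)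
    (hx1 : x ≠ 1) : orderOf x = p := by
  haveI : Fact p.Prime := ⟨H.hp⟩
  obtain ⟨k, hk⟩ := hP ⟨x, hx⟩
  have hk' : x ^ p ^ k = 1 := by
    have := congrArg Subtype.val hk
    simpa using this
  obtain ⟨j, hj, hjo⟩ := (Nat.dvd_prime_pow H.hp).mp (orderOf_dvd_of_pow_eq_one hk')
  have hc : x * t = t * x := by
    have := hPC hx
    rw [Subgroup.mem_centralizer_iff] at this
    exact (this t (Set.mem_singleton t)).symm
  have hd := Cfsg.Agent.Lib.Helper5.AO.orderOf_dvd_of_comm H t (Or.inl ht) x hc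
  rw [hjo] at hd
  have hj1 : j ≤ 1 := by
    by_contra hcon
    push_neg at hcon
    have h2 : p ^ 2 ∣ 2 * p := dvd_trans (pow_dvd_pow p hcon) hd
    rw [pow_two] at h2
    have h3 : p ∣ 2 := Nat.dvd_of_mul_dvd_mul_right H.hp.pos h2
    have := (Nat.prime_dvd_prime_iff_eq H.hp Nat.prime_two).mp h3
    exact H.hp2 this
  interval_cases j
  · rw [pow_zero, orderOf_eq_one_iff] at hjo
    exact absurd hjo hx1
  · rw [hjo, pow_one]

theorem no_spec_two_p (H : TwoP G p r) : False := by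
  haveI : Fact (Nat.Prime 2) := ⟨Nat.prime_two⟩
  obtain ⟨S⟩ : Nonempty (Sylow 2 G) := inferInstance
  obtain ⟨hexp, hab, h4⟩ := Cfsg.Agent.Lib.Helper5.AO.sylow2 H S
  obtain ⟨t, hts, ht1⟩ : ∃ t ∈ (S : Subgroup G), t ≠ 1 := by
    by_contra hcon
    push_neg at hcon
    have : (S : Subgroup G) = ⊥ := (Subgroup.eq_bot_iff_forall _).mpr hcon
    rw [this] at h4
    simp at h4
  have ht : orderOf t = 2 := orderOf_eq_prime (hexp t hts) ht1
  rcases Cfsg.Agent.Lib.Helper9.AO.dichotomy H t ht with h1 | h2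
  · obtain ⟨Pt, hP, hPC, hPn, hPall⟩ := h1
    obtain ⟨hcz, hcom, -⟩ := case1_card H S t ht hts Pt hP hPC hPn hPall
    have h1c := Cfsg.Agent.Lib.Helper5.AO.one_le_com H t ht
    obtain ⟨x, hxP, hx1⟩ : ∃ x ∈ Pt, x ≠ 1 := by
      by_contra hcon
      push_neg at hcon
      have : Pt = ⊥ := (Subgroup.eq_bot_iff_forall _).mpr hcon
      rw [this] at hcom
      simp at hcom
      omega
    have hxo : orderOf x = p := orderOf_eq_of_mem_pgroup H t ht Pt hP hPC x hxP hx1
    have hhalf := case1_half H S t ht hts Pt hP hPC hPn hPall x hxP hx1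
    have hle := card_le_com_two H S x
    have hcop : Nat.Coprime 2 p := (Nat.coprime_primes Nat.prime_two H.hp).mpr (Ne.symm H.hp2)
    have hpairs1 : cnt G (2 * p) = cnt G 2 * com p t := cnt_mul H.aut hcop t ht
    have hpairs2 : cnt G (2 * p) = cnt G p * com 2 x := by
      have := cnt_mul H.aut hcop.symm x hxo
      rwa [mul_comm p 2] at this
    obtain ⟨hinv, hk3⟩ := Cfsg.Agent.Lib.Helper5.AO.inv_count H S t ht
    exact arith1 (Nat.card G) (cnt G 2) (cnt G p) (cnt G (2 * p)) (cnt G r) (com p t) (com 2 x)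
      (Nat.card (S : Subgroup G)) (kap (S : Subgroup G) t) (cz t) (Nat.card Pt)
      (Cfsg.Agent.Lib.Helper5.AO.class_eq H) hpairs1 hpairs2 (Cfsg.Agent.Lib.Helper5.AO.r_count H)
      hinv hk3 hcz hcom h4 (by omega)
  · have hn : ∀ s ∈ (S : Subgroup G), s ≠ 1 → ∀ c : G, c * s = s * c →
        ∀ s' ∈ (S : Subgroup G), c * s' * c⁻¹ ∈ (S : Subgroup G) := by
      intro s hs hs1 c hc s' hs'
      have hso : orderOf s = 2 := orderOf_eq_prime (hexp s hs) hs1
      exact case2_normal H S s hso hs (case2_transport H ht hso h2) c hc s' hs'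
    have htr := se_transitive H.simple H.nonab S hexp hn
    have hnt := case2_normal H S t ht hts h2
    have htr' : ∀ s ∈ (S : Subgroup G), s ≠ 1 →
        ∃ n ∈ Subgroup.normalizer ((S : Subgroup G) : Set G), n * t * n⁻¹ = s :=
      fun s hs hs1 => htr t hts ht1 s hs hs1
    have hcard := case2_card_normalizer S t hts ht1 hab hnt htr'
    have hnd := case2_not_dvd H S t ht hts hnt
    obtain ⟨i, hi⟩ := case2_pow H S (cz t) hcard.symm hnd
    obtain ⟨a, ha⟩ : ∃ a, Nat.card (S : Subgroup G) = 2 ^ a := IsPGroup.iff_card.mp S.isPGroup'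
    have ha2 : 2 ≤ a := by
      by_contra hcon
      push_neg at hcon
      interval_cases a <;> omega
    have hi1 : i = 1 := two_pow_sub_one ha2 H.hp H.hp2 (by rw [← ha]; exact hi)
    exact case2_false H S t ht hts h2 hnt htr' hcard (by rw [hi, hi1, pow_one])

/-- the form used by the top assembly. -/
theorem no_spec_two_p' {G : Type u} [Group G] [Finite G] [IsSimpleGroup G]
    (hG : ¬ IsMulCommutative G)
    (hAT : ∀ x y : G, orderOf x = orderOf y → ∃ α : MulAut G, α x = y)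
    (p r : ℕ) (hp : p.Prime) (hr : r.Prime) (hp2 : p ≠ 2) (hr2 : r ≠ 2) (hpr : p ≠ r)
    (hspec : Set.range (orderOf : G → ℕ) = {1, 2, p, 2 * p, r}) : False := by
  have hna : ∃ a b : G, a * b ≠ b * a := by
    by_contra hcon
    push_neg at hcon
    exact hG ⟨⟨hcon⟩⟩
  have hmem : ∀ m : ℕ, m ∈ ({1, 2, p, 2 * p, r} : Set ℕ) → ∃ x : G, orderOf x = m := by
    intro m hm
    rw [← hspec] at hm
    exact hm
  refine no_spec_two_p (G := G) (p := p) (r := r)
    { simple := inferInstance, nonab := hna, aut := hAT, hp := hp, hr := hr, hp2 := hp2, hr2 := hr2,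
      hpr := hpr, spec := ?_, ex := hmem _ (by simp), exr := hmem _ (by simp) }
  intro x
  have : orderOf x ∈ ({1, 2, p, 2 * p, r} : Set ℕ) := by rw [← hspec]; exact ⟨x, rfl⟩
  simpa using this

end Cfsg.Agent.Lib.Helper1.AO
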