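import Mathlib
import Cfsg.Agent.Lib.Helper4.AbAlt

set_option autoImplicit false
set_option maxHeartbeats 4000000
set_option linter.unusedVariables false
set_option linter.unusedSectionVars false
set_option linter.style.longLine false

/-! Arithmetic of the extremal function for abelian subgroups of alternating groups (strict forms). -/

namespace Cfsg.Agent.Lib.Helper1.Ab

open Cfsg.Agent.Lib.Helper4.AbSym Cfsg.Agent.Lib.Helper4.AbAlt

theorem emax_rec (n : ℕ) (hn : 9 ≤ n) : emax n = 3 * emax (n - 3) := by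
  obtain ⟨k, rfl⟩ : ∃ k, n = k + 9 := ⟨n - 9, by omega⟩
  rw [emax_add_nine, show k + 9 - 3 = k + 6 by omega]

theorem emax_vals : emax 0 = 1 ∧ emax 1 = 1 ∧ emax 2 = 1 ∧ emax 3 = 3 ∧ emax 4 = 4 ∧ emax 5 = 5 ∧
    emax 6 = 9 ∧ emax 7 = 12 ∧ emax 8 = 16 ∧ emax 9 = 27 ∧ emax 10 = 36 ∧ emax 11 = 48 ∧
    emax 12 = 81 ∧ emax 13 = 108 ∧ emax 14 = 144 := by
  refine ⟨rfl, rfl, rfl, rfl, rfl, rfl, rfl, rfl, rfl, rfl, rfl, rfl, rfl, rfl, rfl⟩

theorem gmax_vals : gmax 0 = 1 ∧ gmax 1 = 1 ∧ gmax 2 = 2 ∧ gmax 3 = 3 ∧ gmax 4 = 4 ∧ gmax 5 = 6 ∧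
    gmax 6 = 9 ∧ gmax 7 = 12 ∧ gmax 8 = 18 ∧ gmax 9 = 27 := by
  refine ⟨rfl, rfl, rfl, rfl, rfl, rfl, rfl, rfl, rfl, rfl⟩

theorem gmax_rec (n : ℕ) (hn : 5 ≤ n) : gmax n = 3 * gmax (n - 3) := by
  obtain ⟨k, rfl⟩ : ∃ k, n = k + 5 := ⟨n - 5, by omega⟩
  rw [gmax_add_five, show k + 5 - 3 = k + 2 by omega]

theorem emax_lt_succ : ∀ n, 2 ≤ n → emax n < emax (n + 1) := by
  intro n
  induction n using Nat.strong_induction_on with
  | _ n ih =>
    intro hn
    obtain ⟨h0, h1, h2, h3, h4, h5, h6, h7, h8, h9, -⟩ := emax_vals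
    by_cases h : n < 9
    · interval_cases n <;> simp only [Nat.reduceAdd] <;> omega
    · rw [emax_rec n (by omega), emax_rec (n + 1) (by omega)]
      have := ih (n - 3) (by omega) (by omega)
      rw [show n - 3 + 1 = n + 1 - 3 by omega] at this
      omega

theorem gmax_lt_emax : ∀ n, 1 ≤ n → gmax n < emax (n + 2) := by
  intro n
  induction n using Nat.strong_induction_on with
  | _ n ih =>
    intro hn
    obtain ⟨h0, h1, h2, h3, h4, h5, h6, h7, h8, h9, h10, h11, -⟩ := emax_vals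
    obtain ⟨g0, g1, g2, g3, g4, g5, g6, g7, g8, g9⟩ := gmax_vals
    by_cases h : n < 7
    · interval_cases n <;> simp only [Nat.reduceAdd] <;> omega
    · rw [gmax_rec n (by omega), emax_rec (n + 2) (by omega)]
      have := ih (n - 3) (by omega) (by omega)
      rw [show n - 3 + 2 = n + 2 - 3 by omega] at this
      omega

theorem five_mul_lt : ∀ n, 1 ≤ n → 5 * emax n < emax (n + 5) := by
  intro n
  induction n using Nat.strong_induction_on with
  | _ n ih =>
    intro hn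
    obtain ⟨h0, h1, h2, h3, h4, h5, h6, h7, h8, h9, h10, h11, h12, h13, h14⟩ := emax_vals
    by_cases h : n < 9
    · interval_cases n <;> simp only [Nat.reduceAdd] <;> omega
    · rw [emax_rec n (by omega), emax_rec (n + 5) (by omega)]
      have := ih (n - 3) (by omega) (by omega)
      rw [show n - 3 + 5 = n + 5 - 3 by omega] at this
      omega

theorem ge6_mul_lt (m : ℕ) (hm : 6 ≤ m) (n : ℕ) : m * emax n < emax (n + m) := by
  have h1 := mul_emax_le (m - 3) n (by omega) (by omega)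
  have h2 := e_three_mul_le (n + (m - 3))
  rw [show n + (m - 3) + 3 = n + m by omega] at h2
  have hpos := emax_pos n
  have h3 : m * emax n < 3 * ((m - 3) * emax n) := by
    obtain ⟨k, rfl⟩ : ∃ k, m = k + 6 := ⟨m - 6, by omega⟩
    rw [show k + 6 - 3 = k + 3 by omega]
    nlinarith
  omega

/-- The possible sizes of an orbit of an extremal group. -/
theorem orbit_size_cases (N m : ℕ) (hN : 3 ≤ N) (hN5 : N ≠ 5) (hm1 : 1 ≤ m) (hmN : m ≤ N)
    (hm2 : m ≠ 2) (h : emax N ≤ m * emax (N - m)) : m = 3 ∨ m = 4 := by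
  by_contra hcon
  push_neg at hcon
  obtain ⟨hc3, hc4⟩ := hcon
  rcases Nat.lt_or_ge m 6 with h6 | h6
  · have hm : m = 1 ∨ m = 5 := by omega
    rcases hm with rfl | rfl
    · have := emax_lt_succ (N - 1) (by omega)
      rw [show N - 1 + 1 = N by omega] at this
      omega
    · have := five_mul_lt (N - 5) (by omega)
      rw [show N - 5 + 5 = N by omega] at this
      omega
  · have := ge6_mul_lt m h6 (N - m)
    rw [show N - m + m = N by omega] at this
    omega

theorem emax_sub_three (N : ℕ) (hN : N = 3 ∨ N = 6 ∨ N = 7 ∨ 9 ≤ N) : emax N = 3 * emax (N - 3) := by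
  obtain ⟨h0, h1, h2, h3, h4, h5, h6, h7, h8, -⟩ := emax_vals
  rcases hN with rfl | rfl | rfl | h
  · simp [h3, h0]
  · simp [h6, h3]
  · simp [h7, h4]
  · exact emax_rec N h

end Cfsg.Agent.Lib.Helper1.Ab
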