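import Mathlib
import Cfsg.Agent.Lib.Helper1.Ab1

set_option autoImplicit false
set_option maxHeartbeats 4000000
set_option linter.unusedVariables false
set_option linter.unusedSectionVars false
set_option linter.style.longLine false

/-! Orbit data for even abelian permutation groups, and the 3-orbit structure of extremal ones. -/

namespace Cfsg.Agent.Lib.Helper1.Ab

open Equiv Cfsg.Agent.Lib.Helper4.AbSym Cfsg.Agent.Lib.Helper4.AbAlt

variable {α : Type*} [Fintype α] [DecidableEq α]

/-- the stabiliser of a point, as a subgroup of `Perm α` -/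
def stabSub (A : Subgroup (Perm α)) (x : α) : Subgroup (Perm α) :=
  (MulAction.stabilizer A x).map A.subtype

theorem mem_stabSub {A : Subgroup (Perm α)} {x : α} {b : Perm α} :
    b ∈ stabSub A x ↔ b ∈ A ∧ b x = x := by
  constructor
  · rintro ⟨⟨c, hc⟩, hcs, rfl⟩
    exact ⟨hc, MulAction.mem_stabilizer_iff.mp hcs⟩
  · rintro ⟨hb, hbx⟩
    exact ⟨⟨b, hb⟩, MulAction.mem_stabilizer_iff.mpr hbx, rfl⟩

theorem stabSub_le (A : Subgroup (Perm α)) (x : α) : stabSub A x ≤ A :=
  fun b hb => (mem_stabSub.mp hb).1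

/-- the orbit of a point, as a finset -/
noncomputable def orbF (A : Subgroup (Perm α)) (x : α) : Finset α := by
  classical exact Finset.univ.filter (fun y => ∃ a ∈ A, a x = y)

theorem mem_orbF {A : Subgroup (Perm α)} {x y : α} : y ∈ orbF A x ↔ ∃ a ∈ A, a x = y := by
  classical
  unfold orbF
  simp

theorem self_mem_orbF (A : Subgroup (Perm α)) (x : α) : x ∈ orbF A x :=
  mem_orbF.mpr ⟨1, A.one_mem, rfl⟩

theorem card_orbF (A : Subgroup (Perm α)) (x : α) :
    (orbF A x).card = Nat.card (MulAction.orbit A x) := by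
  classical
  rw [Nat.card_eq_fintype_card]
  symm
  apply Fintype.card_of_subtype
  intro y
  rw [mem_orbF, MulAction.mem_orbit_iff]
  constructor
  · rintro ⟨a, ha, rfl⟩
    exact ⟨⟨a, ha⟩, rfl⟩
  · rintro ⟨⟨a, ha⟩, rfl⟩
    exact ⟨a, ha, rfl⟩

theorem orbit_data (A : Subgroup (Perm α)) (hcomm : ∀ a ∈ A, ∀ b ∈ A, a * b = b * a)
    (heven : ∀ a ∈ A, Perm.sign a = 1) (x : α) :
    (orbF A x).card * Nat.card (stabSub A x) = Nat.card A ∧
    (∀ b ∈ stabSub A x, ∀ y ∈ orbF A x, b y = y) ∧
    Nat.card (stabSub A x) ≤ emax (Fintype.card α - (orbF A x).card) ∧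
    ((orbF A x).card = 2 → Nat.card A ≤ gmax (Fintype.card α - 2)) ∧
    (∀ a ∈ A, a ^ (orbF A x).card ∈ stabSub A x) := by
  classical
  have hScard : Nat.card (stabSub A x) = Nat.card (MulAction.stabilizer A x) :=
    Subgroup.card_map_of_injective A.subtype_injective
  have horb : Nat.card (MulAction.orbit A x) * Nat.card (MulAction.stabilizer A x)
      = Nat.card A := by
    rw [← Nat.card_prod]
    exact Nat.card_congr (MulAction.orbitProdStabilizerEquivGroup A x)
  have hfix : ∀ b ∈ stabSub A x, ∀ y ∈ orbF A x, b y = y := by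
    intro b hb y hy
    obtain ⟨hbA, hbx⟩ := mem_stabSub.mp hb
    obtain ⟨a, ha, rfl⟩ := mem_orbF.mp hy
    have := hcomm b hbA a ha
    have h2 := congrArg (fun f : Perm α => f x) this
    simp only [Perm.mul_apply] at h2
    rw [h2, hbx]
  refine ⟨by rw [card_orbF, hScard, horb], hfix, ?_, ?_, ?_⟩
  · -- bound on the stabiliser
    have hT : (Finset.univ \ orbF A x).card = Fintype.card α - (orbF A x).card := by
      rw [Finset.card_sdiff_of_subset (Finset.subset_univ _), Finset.card_univ]
    refine card_le_alt _ (Finset.univ \ orbF A x) (stabSub A x) hT ?_ ?_ ?_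
    · intro a ha b hb
      exact hcomm a (stabSub_le A x ha) b (stabSub_le A x hb)
    · intro b hb y hy
      have hyO : y ∈ orbF A x := by
        by_contra hyO
        exact hy (Finset.mem_sdiff.mpr ⟨Finset.mem_univ y, hyO⟩)
      exact hfix b hb y hyO
    · intro a ha
      exact heven a (stabSub_le A x ha)
  · -- an orbit of size two
    intro hO2
    have hex : ∃ y, y ≠ x ∧ y ∈ orbF A x := by
      have : 1 < (orbF A x).card := by omega
      obtain ⟨y, hy, hyx⟩ := Finset.exists_mem_ne this x
      exact ⟨y, hyx, hy⟩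
    obtain ⟨y, hyx, hyO⟩ := hex
    have hOeq : orbF A x = {x, y} := by
      symm
      apply Finset.eq_of_subset_of_card_le
      · intro z hz
        simp only [Finset.mem_insert, Finset.mem_singleton] at hz
        rcases hz with rfl | rfl
        · exact self_mem_orbF A _
        · exact hyO
      · rw [hO2, Finset.card_pair hyx.symm]
    have hclosed : ∀ a ∈ A, ∀ z ∈ orbF A x, a z ∈ orbF A x := by
      intro a ha z hz
      obtain ⟨b, hb, rfl⟩ := mem_orbF.mp hz
      exact mem_orbF.mpr ⟨a * b, A.mul_mem ha hb, rfl⟩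
    have hcases : ∀ a ∈ A, (a x = x ∧ a y = y) ∨ (a x = y ∧ a y = x) := by
      intro a ha
      have h1 := hclosed a ha x (self_mem_orbF A x)
      have h2 := hclosed a ha y hyO
      rw [hOeq] at h1 h2
      simp only [Finset.mem_insert, Finset.mem_singleton] at h1 h2
      have hne : a x ≠ a y := fun h => hyx (a.injective h).symm
      rcases h1 with h1 | h1 <;> rcases h2 with h2 | h2
      · exact absurd (h1.trans h2.symm) hne
      · exact Or.inl ⟨h1, h2⟩
      · exact Or.inr ⟨h1, h2⟩
      · exact absurd (h1.trans h2.symm) hne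
    exact card_le_of_orbit_two (Fintype.card α) Finset.univ A Finset.card_univ hcomm
      (fun a _ z hz => absurd (Finset.mem_univ z) hz) heven x y hyx.symm (Finset.mem_univ _)
      (Finset.mem_univ _) hcases
  · -- powers
    intro a ha
    haveI : (MulAction.stabilizer A x).Normal := by
      refine ⟨fun n hn g => ?_⟩
      have : g * n * g⁻¹ = n := by
        have h1 : g * n = n * g := Subtype.ext (hcomm g.1 g.2 n.1 n.2)
        rw [h1, mul_inv_cancel_right]
      rw [this]
      exact hn
    have h1 := Subgroup.pow_index_mem (MulAction.stabilizer A x) (⟨a, ha⟩ : A)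
    rw [MulAction.index_stabilizer, ← Nat.card_coe_set_eq, ← card_orbF] at h1
    refine mem_stabSub.mpr ⟨A.pow_mem ha _, ?_⟩
    have h2 := MulAction.mem_stabilizer_iff.mp h1
    exact h2

/-- the pointwise stabiliser of three points -/
def fix3 (x y z : α) : Subgroup (Perm α) :=
  MulAction.stabilizer (Perm α) x ⊓ MulAction.stabilizer (Perm α) y ⊓ MulAction.stabilizer (Perm α) z

theorem mem_fix3 {x y z : α} {σ : Perm α} : σ ∈ fix3 x y z ↔ σ x = x ∧ σ y = y ∧ σ z = z := by
  simp [fix3, Subgroup.mem_inf, MulAction.mem_stabilizer_iff, and_assoc]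

/-- the three-cycle `x → y → z → x` -/
def cyc3 (x y z : α) : Perm α := swap x z * swap x y

theorem cyc3_apply_x {x y z : α} (hxy : x ≠ y) (hxz : x ≠ z) (hyz : y ≠ z) : cyc3 x y z x = y := by
  simp [cyc3, swap_apply_of_ne_of_ne hxy.symm hyz]

theorem cyc3_apply_y {x y z : α} (hxy : x ≠ y) (hxz : x ≠ z) (hyz : y ≠ z) : cyc3 x y z y = z := by
  simp [cyc3]

theorem cyc3_apply_z {x y z : α} (hxy : x ≠ y) (hxz : x ≠ z) (hyz : y ≠ z) : cyc3 x y z z = x := by
  simp [cyc3, swap_apply_of_ne_of_ne hxz.symm hyz.symm]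

theorem cyc3_apply_of_ne {x y z w : α} (hx : w ≠ x) (hy : w ≠ y) (hz : w ≠ z) : cyc3 x y z w = w := by
  simp [cyc3, swap_apply_of_ne_of_ne hx hy, swap_apply_of_ne_of_ne hx hz]

theorem sign_cyc3 {x y z : α} (hxy : x ≠ y) (hxz : x ≠ z) : Perm.sign (cyc3 x y z) = 1 := by
  simp [cyc3, Perm.sign_swap hxy, Perm.sign_swap hxz]

theorem commute_cyc3 {x y z : α} {σ : Perm α} (hx : σ x = x) (hy : σ y = y) (hz : σ z = z) :
    σ * cyc3 x y z = cyc3 x y z * σ := by
  have h1 : σ * swap x z = swap x z * σ := by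
    have := swap_apply_apply σ x z
    rw [hx, hz] at this
    have h := congrArg (· * σ) this
    simp only [inv_mul_cancel_right] at h
    exact h.symm
  have h2 : σ * swap x y = swap x y * σ := by
    have := swap_apply_apply σ x y
    rw [hx, hy] at this
    have h := congrArg (· * σ) this
    simp only [inv_mul_cancel_right] at h
    exact h.symm
  unfold cyc3
  rw [← mul_assoc, h1, mul_assoc, h2, mul_assoc]

end Cfsg.Agent.Lib.Helper1.Ab
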