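import Mathlib
import Cfsg.Agent.Lib.Helper1.Ab2

set_option autoImplicit false
set_option maxHeartbeats 4000000
set_option linter.unusedVariables false
set_option linter.unusedSectionVars false
set_option linter.style.longLine false

/-! The 3-orbit structure of extremal even abelian permutation groups. -/

namespace Cfsg.Agent.Lib.Helper1.Ab

open Equiv Cfsg.Agent.Lib.Helper4.AbSym Cfsg.Agent.Lib.Helper4.AbAlt

variable {α : Type*} [Fintype α] [DecidableEq α]

theorem card_three {x y z : α} (hxy : x ≠ y) (hxz : x ≠ z) (hyz : y ≠ z) :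
    ({x, y, z} : Finset α).card = 3 := by
  rw [Finset.card_insert_of_notMem, Finset.card_pair hyz]
  simp [hxy, hxz]

theorem str3 (A : Subgroup (Perm α)) (hcomm : ∀ a ∈ A, ∀ b ∈ A, a * b = b * a)
    (heven : ∀ a ∈ A, Perm.sign a = 1)
    (hN : Fintype.card α = 3 ∨ Fintype.card α = 6 ∨ Fintype.card α = 7 ∨ 9 ≤ Fintype.card α)
    (hcard : Nat.card A = emax (Fintype.card α)) :
    ∃ x y z : α, x ≠ y ∧ x ≠ z ∧ y ≠ z ∧ cyc3 x y z ∈ A ∧
      ∃ S : Subgroup (Perm α), S ≤ A ∧ S ≤ fix3 x y z ∧
        Nat.card S = emax (Fintype.card α - 3) ∧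
        ∀ a ∈ A, ∃ s ∈ S, ∃ k : ℕ, a = s * cyc3 x y z ^ k := by
  classical
  set N := Fintype.card α with hNdef
  have hrec : emax N = 3 * emax (N - 3) := emax_sub_three N hN
  have hN3 : 3 ≤ N := by omega
  have hN5 : N ≠ 5 := by omega
  -- an element of order three
  haveI : Fact (Nat.Prime 3) := ⟨by norm_num⟩
  have hdvd : 3 ∣ Nat.card A := by rw [hcard, hrec]; exact dvd_mul_right _ _
  obtain ⟨a0', ha0'⟩ := exists_prime_orderOf_dvd_card' 3 hdvd
  set a0 : Perm α := (a0' : Perm α) with ha0def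
  have ha0A : a0 ∈ A := a0'.2
  have hord : orderOf a0 = 3 := by rw [ha0def, Subgroup.orderOf_coe]; exact ha0'
  have hpow3 : a0 ^ 3 = 1 := by rw [← hord]; exact pow_orderOf_eq_one a0
  have hne1 : a0 ≠ 1 := by
    intro h
    rw [h, orderOf_one] at hord
    omega
  obtain ⟨x, hx⟩ : ∃ x, a0 x ≠ x := by
    by_contra hcon
    push_neg at hcon
    exact hne1 (Equiv.ext hcon)
  set y := a0 x with hy
  set z := a0 y with hz
  have hzx : a0 z = x := by
    have := congrArg (fun f : Perm α => f x) hpow3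
    simpa [pow_succ, Perm.mul_apply] using this
  have hxy : x ≠ y := fun h => hx h.symm
  have hyz : y ≠ z := by
    intro h
    exact hxy (a0.injective h)
  have hxz : x ≠ z := by
    intro h
    apply hx
    have h2 : a0 z = a0 x := by rw [← h]
    rw [hzx] at h2
    exact h2.symm
  -- orbit data
  obtain ⟨hmul, hfix, hSle, hO2, hpowm⟩ := orbit_data A hcomm heven x
  rw [← hNdef] at hSle hO2
  set m := (orbF A x).card with hm
  set S := stabSub A x with hS
  have hm1 : 1 ≤ m := Finset.card_pos.mpr ⟨x, self_mem_orbF A x⟩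
  have hmN : m ≤ N := by
    rw [hm, hNdef, ← Finset.card_univ]
    exact Finset.card_le_card (Finset.subset_univ _)
  have hm2 : m ≠ 2 := by
    intro h
    have h1 := hO2 h
    have h2 := gmax_lt_emax (N - 2) (by omega)
    rw [show N - 2 + 2 = N by omega] at h2
    omega
  have hle : emax N ≤ m * emax (N - m) := by
    rw [← hcard, ← hmul]
    exact Nat.mul_le_mul_left _ hSle
  have hm34 := orbit_size_cases N m hN3 hN5 hm1 hmN hm2 hle
  have hm3 : m = 3 := by
    rcases hm34 with h | h
    · exact h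
    · exfalso
      have h1 := hpowm a0 ha0A
      rw [h] at h1
      have h2 : a0 ^ 4 = a0 := by
        rw [show 4 = 3 + 1 by norm_num, pow_succ, hpow3, one_mul]
      rw [h2] at h1
      exact hx (mem_stabSub.mp h1).2
  have hScard : Nat.card S = emax (N - 3) := by
    have h1 : 3 * Nat.card S = 3 * emax (N - 3) := by
      rw [← hrec, ← hcard, ← hmul, hm3]
    omega
  -- the orbit is {x,y,z}
  have hyO : y ∈ orbF A x := mem_orbF.mpr ⟨a0, ha0A, rfl⟩
  have hzO : z ∈ orbF A x := mem_orbF.mpr ⟨a0 * a0, A.mul_mem ha0A ha0A, rfl⟩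
  have hSfix : S ≤ fix3 x y z := by
    intro s hs
    exact mem_fix3.mpr ⟨hfix s hs x (self_mem_orbF A x), hfix s hs y hyO, hfix s hs z hzO⟩
  have hOeq : orbF A x = {x, y, z} := by
    symm
    apply Finset.eq_of_subset_of_card_le
    · intro w hw
      simp only [Finset.mem_insert, Finset.mem_singleton] at hw
      rcases hw with rfl | rfl | rfl
      · exact self_mem_orbF A _
      · exact hyO
      · exact hzO
    · rw [card_three hxy hxz hyz, ← hm, hm3]
  -- the cycle
  set c := cyc3 x y z with hc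
  have hcx : c x = y := cyc3_apply_x hxy hxz hyz
  have hcy : c y = z := cyc3_apply_y hxy hxz hyz
  have hcz : c z = x := cyc3_apply_z hxy hxz hyz
  have hcix : c⁻¹ x = z := by rw [Perm.inv_eq_iff_eq, hcz]
  have hciy : c⁻¹ y = x := by rw [Perm.inv_eq_iff_eq, hcx]
  have hciz : c⁻¹ z = y := by rw [Perm.inv_eq_iff_eq, hcy]
  set a' := a0 * c⁻¹ with ha'
  have ha'x : a' x = x := by rw [ha', Perm.mul_apply, hcix, hzx]
  have ha'y : a' y = y := by rw [ha', Perm.mul_apply, hciy]
  have ha'z : a' z = z := by rw [ha', Perm.mul_apply, hciz]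
  have ha'sign : Perm.sign a' = 1 := by
    rw [ha', map_mul, map_inv, heven a0 ha0A, hc, sign_cyc3 hxy hxz]
    simp
  have ha'comm : ∀ s ∈ S, s * a' = a' * s := by
    intro s hs
    obtain ⟨h1, h2, h3⟩ := mem_fix3.mp (hSfix hs)
    have hsc : s * c = c * s := commute_cyc3 h1 h2 h3
    have hsci : s * c⁻¹ = c⁻¹ * s := by
      have := congrArg (fun t => c⁻¹ * t * c⁻¹) hsc
      simp only [mul_assoc, mul_inv_cancel, mul_one, inv_mul_cancel_left] at this
      exact this.symm
    have hsa : s * a0 = a0 * s := hcomm s (stabSub_le A x hs) a0 ha0A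
    rw [ha', ← mul_assoc, hsa, mul_assoc, hsci, mul_assoc]
  -- the enlarged group
  set K := S ⊔ Subgroup.zpowers a' with hK
  have hScomm : ∀ s ∈ S, ∀ t ∈ S, s * t = t * s := fun s hs t ht =>
    hcomm s (stabSub_le A x hs) t (stabSub_le A x ht)
  have hK1 : K ≤ Subgroup.centralizer (S : Set (Perm α)) := by
    apply sup_le
    · intro s hs
      rw [Subgroup.mem_centralizer_iff]
      intro t ht
      exact hScomm t ht s hs
    · rw [Subgroup.zpowers_le]
      rw [Subgroup.mem_centralizer_iff]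
      intro t ht
      exact ha'comm t ht
  have hK2 : K ≤ Subgroup.centralizer ((Subgroup.zpowers a' : Subgroup (Perm α)) : Set (Perm α)) := by
    apply sup_le
    · intro s hs
      rw [Subgroup.mem_centralizer_iff]
      intro t ht
      obtain ⟨k, rfl⟩ := Subgroup.mem_zpowers_iff.mp ht
      exact ((Commute.zpow_right (ha'comm s hs) k).eq).symm
    · rw [Subgroup.zpowers_le]
      rw [Subgroup.mem_centralizer_iff]
      intro t ht
      obtain ⟨k, rfl⟩ := Subgroup.mem_zpowers_iff.mp ht
      exact ((Commute.zpow_left (Commute.refl a') k).eq)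
  have hKcent : K ≤ Subgroup.centralizer (K : Set (Perm α)) := by
    apply sup_le
    · exact Subgroup.le_centralizer_iff.mp hK1
    · exact Subgroup.le_centralizer_iff.mp hK2
  have hKcomm : ∀ a ∈ K, ∀ b ∈ K, a * b = b * a := by
    intro a ha b hb
    have := Subgroup.mem_centralizer_iff.mp (hKcent hb) a ha
    exact this
  have hKeven : ∀ a ∈ K, Perm.sign a = 1 := by
    have : K ≤ alternatingGroup α := by
      apply sup_le
      · intro s hs
        exact Perm.mem_alternatingGroup.mpr (heven s (stabSub_le A x hs))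
      · rw [Subgroup.zpowers_le]
        exact Perm.mem_alternatingGroup.mpr ha'sign
    intro a ha
    exact Perm.mem_alternatingGroup.mp (this ha)
  have hKfix : K ≤ fix3 x y z := by
    apply sup_le hSfix
    rw [Subgroup.zpowers_le]
    exact mem_fix3.mpr ⟨ha'x, ha'y, ha'z⟩
  have hKcard : Nat.card K ≤ emax (N - 3) := by
    have hT : (Finset.univ \ ({x, y, z} : Finset α)).card = N - 3 := by
      rw [Finset.card_sdiff_of_subset (Finset.subset_univ _), Finset.card_univ, card_three hxy hxz hyz]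
    refine card_le_alt _ _ K hT hKcomm ?_ hKeven
    intro a ha w hw
    obtain ⟨h1, h2, h3⟩ := mem_fix3.mp (hKfix ha)
    have hw' : w ∈ ({x, y, z} : Finset α) := by
      by_contra hcon
      exact hw (Finset.mem_sdiff.mpr ⟨Finset.mem_univ w, hcon⟩)
    simp only [Finset.mem_insert, Finset.mem_singleton] at hw'
    rcases hw' with rfl | rfl | rfl
    · exact h1
    · exact h2
    · exact h3
  have hSK : S = K := by
    apply Subgroup.eq_of_le_of_card_ge le_sup_left
    rw [hScard]
    exact hKcard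
  have ha'S : a' ∈ S := by
    rw [hSK]
    exact (le_sup_right : Subgroup.zpowers a' ≤ K) (Subgroup.mem_zpowers a')
  have hcA : c ∈ A := by
    have h1 : c = a'⁻¹ * a0 := by
      rw [ha']
      group
    rw [h1]
    exact A.mul_mem (A.inv_mem (stabSub_le A x ha'S)) ha0A
  refine ⟨x, y, z, hxy, hxz, hyz, hcA, S, stabSub_le A x, hSfix, hScard, ?_⟩
  intro a ha
  have hax : a x ∈ orbF A x := mem_orbF.mpr ⟨a, ha, rfl⟩
  rw [hOeq] at hax
  simp only [Finset.mem_insert, Finset.mem_singleton] at hax
  have key : ∀ k : ℕ, (c ^ k) x = a x → ∃ s ∈ S, ∃ k : ℕ, a = s * c ^ k := by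
    intro k hk
    refine ⟨(c ^ k)⁻¹ * a, ?_, k, ?_⟩
    · refine mem_stabSub.mpr ⟨A.mul_mem (A.inv_mem (A.pow_mem hcA k)) ha, ?_⟩
      rw [Perm.mul_apply, ← hk]
      simp
    · have h1 : (c ^ k)⁻¹ * a = a * (c ^ k)⁻¹ :=
        hcomm _ (A.inv_mem (A.pow_mem hcA k)) a ha
      rw [h1, inv_mul_cancel_right]
  rcases hax with h | h | h
  · exact key 0 (by simpa using h.symm)
  · exact key 1 (by rw [pow_one, hcx]; exact h.symm)
  · exact key 2 (by rw [pow_two, Perm.mul_apply, hcx, hcy]; exact h.symm)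

end Cfsg.Agent.Lib.Helper1.Ab
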