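import Mathlib
import Cfsg.Agent.Lib.Helper1.Ab3

set_option autoImplicit false
set_option maxHeartbeats 4000000
set_option linter.unusedVariables false
set_option linter.unusedSectionVars false
set_option linter.style.longLine false

/-! Conjugation maps, uniqueness of the even four-group on four points, the case of eight points. -/

namespace Cfsg.Agent.Lib.Helper1.Ab

open Equiv Cfsg.Agent.Lib.Helper4.AbSym Cfsg.Agent.Lib.Helper4.AbAlt

variable {α : Type*} [Fintype α] [DecidableEq α]

/-- conjugation by `g` as a monoid hom -/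
def cj (g : Perm α) : Perm α →* Perm α := (MulAut.conj g).toMonoidHom

@[simp] theorem cj_apply (g σ : Perm α) : cj g σ = g * σ * g⁻¹ := rfl

theorem cj_injective (g : Perm α) : Function.Injective (cj g) := (MulAut.conj g).injective

theorem mem_map_cj {A : Subgroup (Perm α)} {g σ : Perm α} :
    σ ∈ A.map (cj g) ↔ g⁻¹ * σ * g ∈ A := by
  constructor
  · rintro ⟨a, ha, rfl⟩
    simpa [mul_assoc] using ha
  · intro h
    refine ⟨g⁻¹ * σ * g, h, ?_⟩
    simp [mul_assoc]

theorem map_cj_mul (A : Subgroup (Perm α)) (g h : Perm α) :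
    (A.map (cj g)).map (cj h) = A.map (cj (h * g)) := by
  rw [Subgroup.map_map]
  have h1 : (cj h).comp (cj g) = cj (h * g) := MonoidHom.ext fun σ => by simp [mul_assoc]
  rw [h1]

theorem map_cj_one (A : Subgroup (Perm α)) : A.map (cj 1) = A := by
  ext σ
  rw [mem_map_cj]
  simp

theorem card_map_cj (A : Subgroup (Perm α)) (g : Perm α) : Nat.card (A.map (cj g)) = Nat.card A :=
  Subgroup.card_map_of_injective (cj_injective g)

set_option maxRecDepth 1000000 in
theorem fin4_mem_V4 : ∀ τ : Perm (Fin 4), Perm.sign τ = 1 → τ ^ 4 = 1 → τ ∈ V4 := by decide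

/-- an even group of order four supported on a four-set is determined by the set -/
theorem u4_aux (Q : Finset α) (hQ : Q.card = 4) :
    ∃ V : Subgroup (Perm α), ∀ S : Subgroup (Perm α), (∀ s ∈ S, Perm.sign s = 1) →
      (∀ s ∈ S, ∀ w, w ∉ Q → s w = w) → Nat.card S = 4 → S = V := by
  classical
  have hcardQ : Fintype.card {w // w ∈ Q} = Fintype.card (Fin 4) := by
    rw [Fintype.card_coe, hQ, Fintype.card_fin]
  let e : {w // w ∈ Q} ≃ Fin 4 := Fintype.equivOfCardEq hcardQ
  let Φ : Perm (Fin 4) →* Perm α :=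
    (Perm.ofSubtype (p := fun w => w ∈ Q)).comp e.symm.permCongrHom.toMonoidHom
  have hΦinj : Function.Injective Φ := by
    intro a b hab
    have h1 : e.symm.permCongrHom a = e.symm.permCongrHom b := Perm.ofSubtype_injective hab
    exact e.symm.permCongrHom.injective h1
  have hΦsign : ∀ τ, Perm.sign (Φ τ) = Perm.sign τ := by
    intro τ
    show Perm.sign (Perm.ofSubtype (e.symm.permCongrHom τ)) = _
    rw [Perm.sign_ofSubtype]
    exact Perm.sign_permCongr e.symm τ
  refine ⟨V4.map Φ, ?_⟩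
  intro S hSe hSs hSc
  apply Subgroup.eq_of_le_of_card_ge
  · intro s hs
    have h₂ : ∀ w, s w ≠ w → w ∈ Q := by
      intro w hw
      by_contra hcon
      exact hw (hSs s hs w hcon)
    have h₁ : ∀ w, s w ∈ Q ↔ w ∈ Q := by
      intro w
      constructor
      · intro h
        by_contra hcon
        rw [hSs s hs w hcon] at h
        exact hcon h
      · intro h
        by_contra hcon
        have h3 := hSs s hs (s w) hcon
        have h4 : s w = w := s.injective h3
        rw [h4] at hcon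
        exact hcon h
    have h3 : Perm.ofSubtype (Perm.subtypePerm s h₁) = s := Perm.ofSubtype_subtypePerm h₁ h₂
    set τ : Perm (Fin 4) := e.permCongrHom (Perm.subtypePerm s h₁) with hτ
    have h4 : Φ τ = s := by
      show Perm.ofSubtype (e.symm.permCongrHom τ) = s
      rw [hτ, ← Equiv.permCongrHom_symm, MulEquiv.symm_apply_apply, h3]
    have h5 : Perm.sign τ = 1 := by rw [← hΦsign, h4]; exact hSe s hs
    have h6 : τ ^ 4 = 1 := by
      apply hΦinj
      rw [map_pow, h4, map_one]
      have := pow_card_eq_one' (G := S) (x := ⟨s, hs⟩)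
      rw [hSc] at this
      have h7 := congrArg (Subtype.val) this
      simpa using h7
    exact ⟨τ, fin4_mem_V4 τ h5 h6, h4⟩
  · rw [Subgroup.card_map_of_injective hΦinj, V4_card, hSc]

theorem u4 (Q : Finset α) (hQ : Q.card = 4) (S₁ S₂ : Subgroup (Perm α))
    (h1e : ∀ s ∈ S₁, Perm.sign s = 1) (h1s : ∀ s ∈ S₁, ∀ w, w ∉ Q → s w = w)
    (h1c : Nat.card S₁ = 4)
    (h2e : ∀ s ∈ S₂, Perm.sign s = 1) (h2s : ∀ s ∈ S₂, ∀ w, w ∉ Q → s w = w)
    (h2c : Nat.card S₂ = 4) : S₁ = S₂ := by
  obtain ⟨V, hV⟩ := u4_aux Q hQ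
  rw [hV S₁ h1e h1s h1c, hV S₂ h2e h2s h2c]

/-- structure of an extremal group on eight points -/
theorem str8 (A : Subgroup (Perm α)) (hcomm : ∀ a ∈ A, ∀ b ∈ A, a * b = b * a)
    (heven : ∀ a ∈ A, Perm.sign a = 1) (hN : Fintype.card α = 8) (hcard : Nat.card A = 16) :
    ∃ O : Finset α, O.card = 4 ∧ ∃ S S₂ : Subgroup (Perm α), S ≤ A ∧ S₂ ≤ A ∧
      (∀ s ∈ S, ∀ w ∈ O, s w = w) ∧ (∀ s ∈ S₂, ∀ w, w ∉ O → s w = w) ∧
      Nat.card S = 4 ∧ Nat.card S₂ = 4 ∧ A = S ⊔ S₂ := by
  classical
  obtain ⟨e0, e1, e2, e3, e4, e5, e6, e7, e8, -⟩ := emax_vals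
  obtain ⟨g0, g1, g2, g3, g4, g5, g6, -⟩ := gmax_vals
  have key : ∀ x : α, (orbF A x).card = 4 ∧ Nat.card (stabSub A x) = 4 := by
    intro x
    obtain ⟨hmul, hfix, hSle, hO2, hpowm⟩ := orbit_data A hcomm heven x
    rw [hN] at hSle hO2
    set m := (orbF A x).card with hm
    have hm1 : 1 ≤ m := Finset.card_pos.mpr ⟨x, self_mem_orbF A x⟩
    have hmN : m ≤ 8 := by
      rw [hm, ← hN, ← Finset.card_univ]
      exact Finset.card_le_card (Finset.subset_univ _)
    have hm2 : m ≠ 2 := by
      intro h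
      have h1 := hO2 h
      simp only [Nat.reduceSub] at h1
      omega
    have hle : emax 8 ≤ m * emax (8 - m) := by
      rw [e8, ← hcard, ← hmul]
      exact Nat.mul_le_mul_left _ hSle
    have hm34 := orbit_size_cases 8 m (by norm_num) (by norm_num) hm1 hmN hm2 hle
    rcases hm34 with h | h
    · exfalso
      rw [h, hcard] at hmul
      omega
    · refine ⟨h, ?_⟩
      rw [h, hcard] at hmul
      omega
  haveI : Nonempty α := by
    rw [← Fintype.card_pos_iff, hN]; norm_num
  obtain ⟨x⟩ := ‹Nonempty α›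
  obtain ⟨hOx, hSx⟩ := key x
  have hexy : ∃ y, y ∉ orbF A x := by
    by_contra hcon
    push_neg at hcon
    have : orbF A x = Finset.univ := Finset.eq_univ_iff_forall.mpr hcon
    rw [this, Finset.card_univ, hN] at hOx
    omega
  obtain ⟨y, hy⟩ := hexy
  obtain ⟨hOy, hSy⟩ := key y
  have hfixx := (orbit_data A hcomm heven x).2.1
  have hfixy := (orbit_data A hcomm heven y).2.1
  have hdisj : ∀ w, w ∈ orbF A y → w ∉ orbF A x := by
    intro w hw hw'
    obtain ⟨a, ha, rfl⟩ := mem_orbF.mp hw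
    obtain ⟨b, hb, hab⟩ := mem_orbF.mp hw'
    apply hy
    refine mem_orbF.mpr ⟨a⁻¹ * b, A.mul_mem (A.inv_mem ha) hb, ?_⟩
    rw [Perm.mul_apply, hab]
    simp
  have hcompl : orbF A y = Finset.univ \ orbF A x := by
    apply Finset.eq_of_subset_of_card_le
    · intro w hw
      exact Finset.mem_sdiff.mpr ⟨Finset.mem_univ w, hdisj w hw⟩
    · rw [Finset.card_sdiff_of_subset (Finset.subset_univ _), Finset.card_univ, hN, hOx, hOy]
  refine ⟨orbF A x, hOx, stabSub A x, stabSub A y, stabSub_le A x, stabSub_le A y, hfixx, ?_, hSx, hSy, ?_⟩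
  · intro s hs w hw
    apply hfixy s hs w
    rw [hcompl]
    exact Finset.mem_sdiff.mpr ⟨Finset.mem_univ w, hw⟩
  · -- A = S ⊔ S₂ by counting
    symm
    apply Subgroup.eq_of_le_of_card_ge (sup_le (stabSub_le A x) (stabSub_le A y))
    -- injective map S × S₂ → S ⊔ S₂
    let f : stabSub A x × stabSub A y → (stabSub A x ⊔ stabSub A y : Subgroup (Perm α)) :=
      fun p => ⟨p.1.1 * p.2.1, Subgroup.mul_mem _ (Subgroup.mem_sup_left p.1.2) (Subgroup.mem_sup_right p.2.2)⟩
    have hf : Function.Injective f := by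
      rintro ⟨⟨s, hs⟩, ⟨t, ht⟩⟩ ⟨⟨s', hs'⟩, ⟨t', ht'⟩⟩ h
      have h1 : s * t = s' * t' := congrArg Subtype.val h
      have h2 : s'⁻¹ * s = t' * t⁻¹ := by
        have := congrArg (fun u => s'⁻¹ * u * t⁻¹) h1
        simpa [mul_assoc] using this
      have h3 : s'⁻¹ * s = 1 := by
        ext w
        by_cases hw : w ∈ orbF A x
        · have := hfixx (s'⁻¹ * s) (Subgroup.mul_mem _ (Subgroup.inv_mem _ hs') hs) w hw
          simpa using this
        · rw [h2]
          have hw' : w ∈ orbF A y := by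
            rw [hcompl]; exact Finset.mem_sdiff.mpr ⟨Finset.mem_univ w, hw⟩
          have := hfixy (t' * t⁻¹) (Subgroup.mul_mem _ ht' (Subgroup.inv_mem _ ht)) w hw'
          simpa using this
      have h4 : s = s' := by
        have := congrArg (fun u => s' * u) h3
        simpa using this
      have h5 : t = t' := by
        rw [h4] at h1
        exact mul_left_cancel h1
      subst h4; subst h5; rfl
    have hle := Nat.card_le_card_of_injective f hf
    rw [Nat.card_prod, hSx, hSy] at hle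
    rw [hcard]
    exact hle

end Cfsg.Agent.Lib.Helper1.Ab
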