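import Mathlib
import Cfsg.Agent.Lib.Helper1.Ab4

set_option autoImplicit false
set_option maxHeartbeats 4000000
set_option linter.unusedVariables false
set_option linter.unusedSectionVars false
set_option linter.style.longLine false

/-! Conjugacy of extremal even abelian permutation groups (degree ≠ 5), by induction. -/

namespace Cfsg.Agent.Lib.Helper1.Ab

open Equiv Cfsg.Agent.Lib.Helper4.AbSym Cfsg.Agent.Lib.Helper4.AbAlt

universe u

/-- extremal even abelian permutation groups -/
def Ext {α : Type u} [Fintype α] [DecidableEq α] (A : Subgroup (Perm α)) : Prop :=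
  (∀ a ∈ A, ∀ b ∈ A, a * b = b * a) ∧ (∀ a ∈ A, Perm.sign a = 1) ∧
    Nat.card A = emax (Fintype.card α)

section transfer

variable {α : Type u} [Fintype α] [DecidableEq α]

theorem exists_ofSubtype (p : α → Prop) [DecidablePred p] (s : Perm α)
    (hs : ∀ w, ¬ p w → s w = w) : ∃ τ : Perm (Subtype p), Perm.ofSubtype τ = s := by
  have h₂ : ∀ w, s w ≠ w → p w := by
    intro w hw
    by_contra hcon
    exact hw (hs w hcon)
  have h₁ : ∀ w, p (s w) ↔ p w := by
    intro w
    constructor
    · intro h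
      by_contra hcon
      rw [hs w hcon] at h
      exact hcon h
    · intro h
      by_contra hcon
      have h3 := hs (s w) hcon
      have h4 : s w = w := s.injective h3
      rw [h4] at hcon
      exact hcon h
  exact ⟨Perm.subtypePerm s h₁, Perm.ofSubtype_subtypePerm h₁ h₂⟩

theorem map_comap_ofSubtype (p : α → Prop) [DecidablePred p] (S : Subgroup (Perm α))
    (hS : ∀ s ∈ S, ∀ w, ¬ p w → s w = w) :
    (S.comap (Perm.ofSubtype (p := p))).map Perm.ofSubtype = S := by
  rw [Subgroup.map_comap_eq]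
  apply inf_of_le_right
  intro s hs
  obtain ⟨τ, hτ⟩ := exists_ofSubtype p s (hS s hs)
  exact ⟨τ, hτ⟩

theorem sign_cj (g s : Perm α) : Perm.sign (cj g s) = Perm.sign s := by
  rw [cj_apply, map_mul, map_mul, map_inv, mul_comm, ← mul_assoc, inv_mul_cancel, one_mul]

theorem p_apply_inv (f : Perm α) (x : α) : f (f⁻¹ x) = x := f.apply_symm_apply x

end transfer

theorem conj_main : ∀ n : ℕ, n ≠ 5 → ∀ (α : Type u) [Fintype α] [DecidableEq α],
    Fintype.card α = n → ∀ A B : Subgroup (Perm α), Ext A → Ext B →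
    ∃ g : Perm α, B = A.map (cj g) := by
  intro n
  induction n using Nat.strong_induction_on with
  | _ n ih =>
  intro hn5 α _ _ hcard A B hA hB
  classical
  obtain ⟨hAc, hAe, hAn⟩ := hA
  obtain ⟨hBc, hBe, hBn⟩ := hB
  rw [hcard] at hAn hBn
  obtain ⟨e0, e1, e2, e3, e4, e5, e6, e7, e8, -⟩ := emax_vals
  by_cases hn2 : n ≤ 2
  · -- trivial groups
    have h1 : emax n = 1 := by interval_cases n <;> assumption
    have hA1 : A = ⊥ := Subgroup.eq_bot_of_card_eq _ (by rw [hAn, h1])
    have hB1 : B = ⊥ := Subgroup.eq_bot_of_card_eq _ (by rw [hBn, h1])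
    refine ⟨1, ?_⟩
    rw [map_cj_one, hA1, hB1]
  by_cases hn4 : n = 4
  · -- four points
    subst hn4
    refine ⟨1, ?_⟩
    rw [map_cj_one]
    have hQ : (Finset.univ : Finset α).card = 4 := by rw [Finset.card_univ, hcard]
    exact u4 Finset.univ hQ B A hBe (fun s _ w hw => absurd (Finset.mem_univ w) hw) (by rw [hBn, e4])
      hAe (fun s _ w hw => absurd (Finset.mem_univ w) hw) (by rw [hAn, e4])
  by_cases hn8 : n = 8
  · -- eight points
    subst hn8
    obtain ⟨O, hO, S, S₂, hSA, hS₂A, hSfix, hS₂fix, hSc, hS₂c, hAeq⟩ :=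
      str8 A hAc hAe hcard (by rw [hAn, e8])
    obtain ⟨P, hP, T, T₂, hTB, hT₂B, hTfix, hT₂fix, hTc, hT₂c, hBeq⟩ :=
      str8 B hBc hBe hcard (by rw [hBn, e8])
    have hcardPO : Fintype.card {w // w ∈ P} = Fintype.card {w // w ∈ O} := by
      rw [Fintype.card_coe, Fintype.card_coe, hP, hO]
    let e : {w // w ∈ P} ≃ {w // w ∈ O} := Fintype.equivOfCardEq hcardPO
    set h : Perm α := e.extendSubtype with hh
    have hmem : ∀ w, w ∈ P → h w ∈ O := fun w hw => e.extendSubtype_mem w hw
    have hnmem : ∀ w, w ∉ P → h w ∉ O := fun w hw => e.extendSubtype_not_mem w hw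
    have hinvO : ∀ w, w ∈ O → h⁻¹ w ∈ P := by
      intro w hw
      by_contra hcon
      have := hnmem _ hcon
      rw [p_apply_inv] at this
      exact this hw
    have hinvnO : ∀ w, w ∉ O → h⁻¹ w ∉ P := by
      intro w hw hcon
      have := hmem _ hcon
      rw [p_apply_inv] at this
      exact hw this
    have hOc : (Finset.univ \ O).card = 4 := by
      rw [Finset.card_sdiff_of_subset (Finset.subset_univ _), Finset.card_univ, hcard, hO]
    have h1 : T.map (cj h) = S := by
      apply u4 (Finset.univ \ O) hOc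
      · rintro _ ⟨t, ht, rfl⟩
        rw [sign_cj]; exact hBe t (hTB ht)
      · rintro _ ⟨t, ht, rfl⟩ w hw
        have hwO : w ∈ O := by
          by_contra hcon
          exact hw (Finset.mem_sdiff.mpr ⟨Finset.mem_univ w, hcon⟩)
        rw [cj_apply, Perm.mul_apply, Perm.mul_apply, hTfix t ht _ (hinvO w hwO), p_apply_inv]
      · rw [card_map_cj, hTc]
      · exact fun s hs => hAe s (hSA hs)
      · intro s hs w hw
        have hwO : w ∈ O := by
          by_contra hcon
          exact hw (Finset.mem_sdiff.mpr ⟨Finset.mem_univ w, hcon⟩)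
        exact hSfix s hs w hwO
      · exact hSc
    have h2 : T₂.map (cj h) = S₂ := by
      apply u4 O hO
      · rintro _ ⟨t, ht, rfl⟩
        rw [sign_cj]; exact hBe t (hT₂B ht)
      · rintro _ ⟨t, ht, rfl⟩ w hw
        rw [cj_apply, Perm.mul_apply, Perm.mul_apply, hT₂fix t ht _ (hinvnO w hw), p_apply_inv]
      · rw [card_map_cj, hT₂c]
      · exact fun s hs => hAe s (hS₂A hs)
      · exact hS₂fix
      · exact hS₂c
    have h3 : B.map (cj h) = A := by
      rw [hBeq, Subgroup.map_sup, h1, h2, ← hAeq]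
    refine ⟨h⁻¹, ?_⟩
    rw [← h3, map_cj_mul, inv_mul_cancel, map_cj_one]
  -- the general case
  have hN : Fintype.card α = 3 ∨ Fintype.card α = 6 ∨ Fintype.card α = 7 ∨ 9 ≤ Fintype.card α := by
    rw [hcard]; omega
  obtain ⟨x, y, z, hxy, hxz, hyz, hcA, S, hSA, hSfix, hScard, hAdec⟩ :=
    str3 A hAc hAe hN (by rw [hAn, hcard])
  obtain ⟨x', y', z', hxy', hxz', hyz', hcB, T, hTB, hTfix, hTcard, hBdec⟩ :=
    str3 B hBc hBe hN (by rw [hBn, hcard])
  rw [hcard] at hScard hTcard
  set c := cyc3 x y z with hc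
  set c' := cyc3 x' y' z' with hc'
  have hAeq : A = S ⊔ Subgroup.zpowers c := by
    apply le_antisymm
    · intro a ha
      obtain ⟨s, hs, k, rfl⟩ := hAdec a ha
      exact Subgroup.mul_mem _ (Subgroup.mem_sup_left hs)
        (Subgroup.mem_sup_right (Subgroup.pow_mem _ (Subgroup.mem_zpowers c) k))
    · exact sup_le hSA (by rw [Subgroup.zpowers_le]; exact hcA)
  have hBeq : B = T ⊔ Subgroup.zpowers c' := by
    apply le_antisymm
    · intro a ha
      obtain ⟨s, hs, k, rfl⟩ := hBdec a ha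
      exact Subgroup.mul_mem _ (Subgroup.mem_sup_left hs)
        (Subgroup.mem_sup_right (Subgroup.pow_mem _ (Subgroup.mem_zpowers c') k))
    · exact sup_le hTB (by rw [Subgroup.zpowers_le]; exact hcB)
  -- conjugate the three-cycles
  have h3c : Perm.IsThreeCycle c := Perm.isThreeCycle_swap_mul_swap_same hxz hxy hyz.symm
  have h3c' : Perm.IsThreeCycle c' := Perm.isThreeCycle_swap_mul_swap_same hxz' hxy' hyz'.symm
  have hconj : IsConj c' c := by
    rw [Perm.isConj_iff_cycleType_eq, h3c.cycleType, h3c'.cycleType]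
  obtain ⟨h, hh⟩ := isConj_iff.mp hconj
  -- h⁻¹ maps {x,y,z} into {x',y',z'}
  have hsupp : ∀ w, (w = x ∨ w = y ∨ w = z) → (h⁻¹ w = x' ∨ h⁻¹ w = y' ∨ h⁻¹ w = z') := by
    intro w hw
    by_contra hcon
    push_neg at hcon
    have h1 : c' (h⁻¹ w) = h⁻¹ w := cyc3_apply_of_ne hcon.1 hcon.2.1 hcon.2.2
    have h2 : c w = w := by
      rw [← hh, Perm.mul_apply, Perm.mul_apply, h1, p_apply_inv]
    rcases hw with rfl | rfl | rfl
    · rw [hc, cyc3_apply_x hxy hxz hyz] at h2; exact hxy h2.symm
    · rw [hc, cyc3_apply_y hxy hxz hyz] at h2; exact hyz h2.symm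
    · rw [hc, cyc3_apply_z hxy hxz hyz] at h2; exact hxz h2
  set T₁ := T.map (cj h) with hT₁
  have hT₁fix : T₁ ≤ fix3 x y z := by
    rintro _ ⟨t, ht, rfl⟩
    obtain ⟨f1, f2, f3⟩ := mem_fix3.mp (hTfix ht)
    have key : ∀ w, (w = x ∨ w = y ∨ w = z) → cj h t w = w := by
      intro w hw
      rw [cj_apply, Perm.mul_apply, Perm.mul_apply]
      rcases hsupp w hw with h1 | h1 | h1 <;> rw [h1] <;>
        first
          | (rw [f1, ← h1, p_apply_inv])
          | (rw [f2, ← h1, p_apply_inv])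
          | (rw [f3, ← h1, p_apply_inv])
    exact mem_fix3.mpr ⟨key x (Or.inl rfl), key y (Or.inr (Or.inl rfl)), key z (Or.inr (Or.inr rfl))⟩
  -- pass to the complement
  let p : α → Prop := fun w => w ∉ ({x, y, z} : Finset α)
  have hpfix : ∀ U : Subgroup (Perm α), U ≤ fix3 x y z → ∀ s ∈ U, ∀ w, ¬ p w → s w = w := by
    intro U hU s hs w hw
    obtain ⟨f1, f2, f3⟩ := mem_fix3.mp (hU hs)
    have hw' : w ∈ ({x, y, z} : Finset α) := by
      by_contra hcon
      exact hw hcon
    simp only [Finset.mem_insert, Finset.mem_singleton] at hw'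
    rcases hw' with rfl | rfl | rfl
    · exact f1
    · exact f2
    · exact f3
  have hcardβ : Fintype.card (Subtype p) = n - 3 := by
    have h1 := Fintype.card_subtype_compl (fun w => w ∈ ({x, y, z} : Finset α))
    rw [Fintype.card_coe, card_three hxy hxz hyz, hcard] at h1
    exact h1
  set o : Perm (Subtype p) →* Perm α := Perm.ofSubtype with ho
  have hoinj : Function.Injective o := Perm.ofSubtype_injective
  have hExt : ∀ U : Subgroup (Perm α), U ≤ fix3 x y z → (∀ a ∈ U, ∀ b ∈ U, a * b = b * a) →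
      (∀ a ∈ U, Perm.sign a = 1) → Nat.card U = emax (n - 3) → Ext (U.comap o) := by
    intro U hU hUc hUe hUn
    refine ⟨?_, ?_, ?_⟩
    · intro a ha b hb
      apply hoinj
      rw [map_mul, map_mul]
      exact hUc _ ha _ hb
    · intro a ha
      have := hUe _ ha
      rwa [ho, Perm.sign_ofSubtype] at this
    · have h1 := map_comap_ofSubtype p U (hpfix U hU)
      have h2 : Nat.card ((U.comap o).map o) = Nat.card (U.comap o) :=
        Subgroup.card_map_of_injective hoinj
      rw [hcardβ, ← h2, ho, h1, hUn]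
  have hS' : Ext (S.comap o) :=
    hExt S hSfix (fun a ha b hb => hAc a (hSA ha) b (hSA hb)) (fun a ha => hAe a (hSA ha)) hScard
  have hT' : Ext (T₁.comap o) := by
    apply hExt T₁ hT₁fix
    · rintro _ ⟨a, ha, rfl⟩ _ ⟨b, hb, rfl⟩
      rw [← map_mul, ← map_mul, hBc a (hTB ha) b (hTB hb)]
    · rintro _ ⟨a, ha, rfl⟩
      rw [sign_cj]; exact hBe a (hTB ha)
    · rw [hT₁, card_map_cj, hTcard]
  have hn3 : n - 3 ≠ 5 := by omega
  obtain ⟨g', hg'⟩ := ih (n - 3) (by omega) hn3 (Subtype p) hcardβ (S.comap o) (T₁.comap o) hS' hT'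
  set g : Perm α := o g' with hg
  have hgfix : ∀ w, (w = x ∨ w = y ∨ w = z) → g w = w := by
    intro w hw
    apply Perm.ofSubtype_apply_of_not_mem
    show ¬ (w ∉ ({x, y, z} : Finset α))
    simp only [Finset.mem_insert, Finset.mem_singleton, not_not]
    exact hw
  have hcomp : o.comp (cj g') = (cj g).comp o := by
    apply MonoidHom.ext
    intro τ
    simp [hg]
  have hT₁eq : T₁ = S.map (cj g) := by
    have h1 := map_comap_ofSubtype p T₁ (hpfix T₁ hT₁fix)
    have h2 := map_comap_ofSubtype p S (hpfix S hSfix)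
    rw [← h1]
    show (T₁.comap o).map o = _
    rw [hg', Subgroup.map_map, hcomp, ← Subgroup.map_map]
    show ((S.comap o).map o).map (cj g) = _
    rw [ho, h2]
  have hgc : cj g c = c := by
    rw [cj_apply]
    have := commute_cyc3 (σ := g) (hgfix x (Or.inl rfl)) (hgfix y (Or.inr (Or.inl rfl)))
      (hgfix z (Or.inr (Or.inr rfl)))
    rw [← hc] at this
    rw [this, mul_inv_cancel_right]
  have h5 : B.map (cj h) = A.map (cj g) := by
    rw [hBeq, hAeq, Subgroup.map_sup, Subgroup.map_sup, MonoidHom.map_zpowers, MonoidHom.map_zpowers,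
      hgc, ← hT₁eq]
    congr 2
  refine ⟨h⁻¹ * g, ?_⟩
  rw [← map_cj_mul, ← h5, map_cj_mul, inv_mul_cancel, map_cj_one]

end Cfsg.Agent.Lib.Helper1.Ab
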