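import Mathlib
import Cfsg.Agent.Lib.Helper1.Ab5

set_option autoImplicit false
set_option maxHeartbeats 4000000
set_option linter.unusedVariables false
set_option linter.unusedSectionVars false
set_option linter.style.longLine false

/-! Largest abelian subgroups of alternating groups are conjugate. -/

namespace Cfsg.Agent.Lib.Helper1.Ab

open Equiv Cfsg.Agent.Lib.Helper4.AbSym Cfsg.Agent.Lib.Helper4.AbAlt
open scoped Pointwise

universe u

section odd

variable {α : Type u} [Fintype α] [DecidableEq α]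

theorem commute_swap {x y : α} {σ : Perm α} (hx : σ x = x) (hy : σ y = y) :
    swap x y * σ * (swap x y)⁻¹ = σ := by
  have := swap_apply_apply σ x y
  rw [hx, hy] at this
  have h := congrArg (· * σ) this
  simp only [inv_mul_cancel_right] at h
  rw [h, mul_inv_cancel_right]

/-- an odd permutation normalising an extremal group -/
theorem odd_normalizer (A : Subgroup (Perm α)) (hA : Ext A) (hn3 : 3 ≤ Fintype.card α)
    (hn5 : Fintype.card α ≠ 5) : ∃ t : Perm α, Perm.sign t = -1 ∧ A.map (cj t) = A := by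
  classical
  obtain ⟨hAc, hAe, hAn⟩ := hA
  obtain ⟨e0, e1, e2, e3, e4, e5, e6, e7, e8, -⟩ := emax_vals
  by_cases hn4 : Fintype.card α = 4
  · have h2 : 1 < (Finset.univ : Finset α).card := by rw [Finset.card_univ, hn4]; norm_num
    obtain ⟨x, -, y, -, hxy⟩ := Finset.one_lt_card.mp h2
    refine ⟨swap x y, Perm.sign_swap hxy, ?_⟩
    have hQ : (Finset.univ : Finset α).card = 4 := by rw [Finset.card_univ, hn4]
    apply u4 Finset.univ hQ
    · rintro _ ⟨a, ha, rfl⟩
      rw [sign_cj]; exact hAe a ha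
    · exact fun s _ w hw => absurd (Finset.mem_univ w) hw
    · rw [card_map_cj, hAn, hn4, e4]
    · exact hAe
    · exact fun s _ w hw => absurd (Finset.mem_univ w) hw
    · rw [hAn, hn4, e4]
  by_cases hn8 : Fintype.card α = 8
  · obtain ⟨O, hO, S, S₂, hSA, hS₂A, hSfix, hS₂fix, hSc, hS₂c, hAeq⟩ :=
      str8 A hAc hAe hn8 (by rw [hAn, hn8, e8])
    have h2 : 1 < O.card := by rw [hO]; norm_num
    obtain ⟨x, hx, y, hy, hxy⟩ := Finset.one_lt_card.mp h2
    refine ⟨swap x y, Perm.sign_swap hxy, ?_⟩
    have h1 : S.map (cj (swap x y)) = S := by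
      ext σ
      constructor
      · rintro ⟨s, hs, rfl⟩
        rw [cj_apply, commute_swap (hSfix s hs x hx) (hSfix s hs y hy)]
        exact hs
      · intro hs
        refine ⟨σ, hs, ?_⟩
        rw [cj_apply, commute_swap (hSfix σ hs x hx) (hSfix σ hs y hy)]
    have h3 : S₂.map (cj (swap x y)) = S₂ := by
      apply u4 O hO
      · rintro _ ⟨a, ha, rfl⟩
        rw [sign_cj]; exact hAe a (hS₂A ha)
      · rintro _ ⟨a, ha, rfl⟩ w hw
        have hwx : w ≠ x := fun h => hw (h ▸ hx)
        have hwy : w ≠ y := fun h => hw (h ▸ hy)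
        rw [cj_apply, Perm.mul_apply, Perm.mul_apply, swap_inv, swap_apply_of_ne_of_ne hwx hwy,
          hS₂fix a ha w hw, swap_apply_of_ne_of_ne hwx hwy]
      · rw [card_map_cj, hS₂c]
      · exact fun s hs => hAe s (hS₂A hs)
      · exact hS₂fix
      · exact hS₂c
    rw [hAeq, Subgroup.map_sup, h1, h3]
  · have hN : Fintype.card α = 3 ∨ Fintype.card α = 6 ∨ Fintype.card α = 7 ∨ 9 ≤ Fintype.card α := by
      omega
    obtain ⟨x, y, z, hxy, hxz, hyz, hcA, S, hSA, hSfix, hScard, hAdec⟩ := str3 A hAc hAe hN hAn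
    set c := cyc3 x y z with hc
    have hAeq : A = S ⊔ Subgroup.zpowers c := by
      apply le_antisymm
      · intro a ha
        obtain ⟨s, hs, k, rfl⟩ := hAdec a ha
        exact Subgroup.mul_mem _ (Subgroup.mem_sup_left hs)
          (Subgroup.mem_sup_right (Subgroup.pow_mem _ (Subgroup.mem_zpowers c) k))
      · exact sup_le hSA (by rw [Subgroup.zpowers_le]; exact hcA)
    refine ⟨swap x y, Perm.sign_swap hxy, ?_⟩
    have h1 : S.map (cj (swap x y)) = S := by
      ext σ
      constructor
      · rintro ⟨s, hs, rfl⟩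
        obtain ⟨f1, f2, f3⟩ := mem_fix3.mp (hSfix hs)
        rw [cj_apply, commute_swap f1 f2]
        exact hs
      · intro hs
        obtain ⟨f1, f2, f3⟩ := mem_fix3.mp (hSfix hs)
        refine ⟨σ, hs, ?_⟩
        rw [cj_apply, commute_swap f1 f2]
    have h2 : cj (swap x y) c = c⁻¹ := by
      rw [cj_apply, hc, cyc3, mul_inv_rev, swap_inv, swap_inv, mul_assoc, mul_assoc, swap_mul_self, mul_one]
    rw [hAeq, Subgroup.map_sup, h1, MonoidHom.map_zpowers, h2, Subgroup.zpowers_inv]

end odd

/-- existence of an even abelian group of extremal order -/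
theorem exists_extremal (n : ℕ) : ∃ C : Subgroup (alternatingGroup (Fin n)),
    IsMulCommutative C ∧ Nat.card C = emax n := by
  obtain ⟨e0, e1, e2, e3, e4, e5, e6, e7, e8, -⟩ := emax_vals
  have hbot : ∀ m, emax m = 1 → ∃ C : Subgroup (alternatingGroup (Fin m)),
      IsMulCommutative C ∧ Nat.card C = emax m := by
    intro m hm
    refine ⟨⊥, ?_, by rw [hm]; exact Subgroup.card_bot⟩
    refine ⟨⟨?_⟩⟩
    rintro ⟨a, ha⟩ ⟨b, hb⟩
    rw [Subgroup.mem_bot] at ha hb
    subst ha; subst hb; rfl
  obtain ⟨k, hk | hk | hk⟩ : ∃ k, n = 3 * k ∨ n = 3 * k + 1 ∨ n = 3 * k + 2 := ⟨n / 3, by omega⟩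
  · subst hk
    have := exists_of_hasAbAlt (hasAbAlt_three_mul k)
    rwa [← emax_three_mul] at this
  · rcases Nat.eq_zero_or_pos k with h0 | h0
    · subst h0; subst hk
      exact hbot 1 e1
    · obtain ⟨j, rfl⟩ : ∃ j, k = j + 1 := ⟨k - 1, by omega⟩
      subst hk
      have := exists_of_hasAbAlt (hasAbAlt_three_mul_add_one j)
      rwa [← emax_three_mul_add_one] at this
  · rcases Nat.lt_or_ge k 2 with h2 | h2
    · interval_cases k
      · subst hk
        exact hbot 2 e2
      · subst hk
        -- a five-cycle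
        have hsign : Perm.sign (finRotate 5) = 1 := by rw [sign_finRotate]; decide
        have hord : orderOf (finRotate 5) = 5 := by
          rw [← Perm.lcm_cycleType, cycleType_finRotate (n := 3)]
          simp
        have hA : HasAbAlt (Fin 5) 5 := by
          refine ⟨Subgroup.zpowers (finRotate 5), inferInstance, ?_, ?_⟩
          · intro a ha
            obtain ⟨i, rfl⟩ := Subgroup.mem_zpowers_iff.mp ha
            rw [map_zpow, hsign, one_zpow]
          · rw [Nat.card_zpowers, hord]
        have := exists_of_hasAbAlt hA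
        simpa [e5] using this
    · obtain ⟨j, rfl⟩ : ∃ j, k = j + 2 := ⟨k - 2, by omega⟩
      subst hk
      have := exists_of_hasAbAlt (hasAbAlt_three_mul_add_two j)
      rwa [← emax_three_mul_add_two] at this

theorem card_alt5 : Nat.card (alternatingGroup (Fin 5)) = 60 := by
  rw [Nat.card_eq_fintype_card]
  have := two_mul_card_alternatingGroup (α := Fin 5)
  rw [Fintype.card_perm, Fintype.card_fin] at this
  have h5 : Nat.factorial 5 = 120 := by decide
  omega

theorem fact60 : (60 : ℕ).factorization 5 = 1 := by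
  rw [show (60:ℕ) = 5 * 12 by norm_num, Nat.factorization_mul (by norm_num) (by norm_num),
    Finsupp.add_apply, Nat.Prime.factorization_self (by norm_num),
    Nat.factorization_eq_zero_of_not_dvd (by norm_num)]

theorem main (n : ℕ)
    (A B : Subgroup (alternatingGroup (Fin n))) (hA : IsMulCommutative A) (hB : IsMulCommutative B)
    (hAmax : ∀ C : Subgroup (alternatingGroup (Fin n)), IsMulCommutative C → Nat.card C ≤ Nat.card A)
    (hBmax : ∀ C : Subgroup (alternatingGroup (Fin n)), IsMulCommutative C → Nat.card C ≤ Nat.card B) :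
    ∃ g : alternatingGroup (Fin n), B = MulAut.conj g • A := by
  classical
  obtain ⟨C, hC, hCcard⟩ := exists_extremal n
  have hAcard : Nat.card A = emax n := by
    apply le_antisymm
    · have := card_le_alt_univ A hA
      rwa [Fintype.card_fin] at this
    · rw [← hCcard]; exact hAmax C hC
  have hBcard : Nat.card B = emax n := by
    apply le_antisymm
    · have := card_le_alt_univ B hB
      rwa [Fintype.card_fin] at this
    · rw [← hCcard]; exact hBmax C hC
  obtain ⟨e0, e1, e2, e3, e4, e5, e6, e7, e8, -⟩ := emax_vals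
  by_cases hn5 : n = 5
  · subst hn5
    haveI : Fact (Nat.Prime 5) := ⟨by norm_num⟩
    have hA5 : Nat.card A = 5 ^ (Nat.card (alternatingGroup (Fin 5))).factorization 5 := by
      rw [card_alt5, fact60, hAcard, e5, pow_one]
    have hB5 : Nat.card B = 5 ^ (Nat.card (alternatingGroup (Fin 5))).factorization 5 := by
      rw [card_alt5, fact60, hBcard, e5, pow_one]
    obtain ⟨g, hg⟩ := MulAction.exists_smul_eq (alternatingGroup (Fin 5)) (Sylow.ofCard A hA5)
      (Sylow.ofCard B hB5)
    refine ⟨g, ?_⟩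
    have h1 := congrArg (fun P : Sylow 5 (alternatingGroup (Fin 5)) => (P : Subgroup (alternatingGroup (Fin 5)))) hg
    simp only [Sylow.coe_subgroup_smul, Sylow.coe_ofCard] at h1
    exact h1.symm
  by_cases hn2 : n ≤ 2
  · have h1 : emax n = 1 := by interval_cases n <;> assumption
    have hA1 : A = ⊥ := Subgroup.eq_bot_of_card_eq _ (by rw [hAcard, h1])
    have hB1 : B = ⊥ := Subgroup.eq_bot_of_card_eq _ (by rw [hBcard, h1])
    refine ⟨1, ?_⟩
    rw [hA1, hB1]
    simp
  -- the main case
  set ι : alternatingGroup (Fin n) →* Perm (Fin n) := (alternatingGroup (Fin n)).subtype with hι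
  have hιinj : Function.Injective ι := Subtype.val_injective
  have hExt : ∀ U : Subgroup (alternatingGroup (Fin n)), IsMulCommutative U → Nat.card U = emax n →
      Ext (U.map ι) := by
    intro U hU hUc
    refine ⟨?_, ?_, ?_⟩
    · rintro _ ⟨a, ha, rfl⟩ _ ⟨b, hb, rfl⟩
      rw [← map_mul, ← map_mul]
      congr 1
      exact congrArg Subtype.val (hU.is_comm.comm ⟨a, ha⟩ ⟨b, hb⟩)
    · rintro _ ⟨a, _, rfl⟩
      exact Perm.mem_alternatingGroup.mp a.2
    · rw [Subgroup.card_map_of_injective hιinj, hUc, Fintype.card_fin]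
  have hA' := hExt A hA hAcard
  have hB' := hExt B hB hBcard
  obtain ⟨g0, hg0⟩ := conj_main n hn5 (Fin n) (Fintype.card_fin n) (A.map ι) (B.map ι) hA' hB'
  -- fix the parity
  obtain ⟨g, hgs, hg⟩ : ∃ g : Perm (Fin n), Perm.sign g = 1 ∧ B.map ι = (A.map ι).map (cj g) := by
    rcases Int.units_eq_one_or (Perm.sign g0) with h | h
    · exact ⟨g0, h, hg0⟩
    · obtain ⟨t, ht, htA⟩ := odd_normalizer (A.map ι) hA' (by rw [Fintype.card_fin]; omega)
        (by rw [Fintype.card_fin]; exact hn5)
      refine ⟨g0 * t, by rw [map_mul, h, ht]; decide, ?_⟩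
      rw [← map_cj_mul, htA]
      exact hg0
  refine ⟨⟨g, Perm.mem_alternatingGroup.mpr hgs⟩, ?_⟩
  ext b
  rw [Subgroup.mem_pointwise_smul_iff_inv_smul_mem]
  have h1 : b ∈ B ↔ ι b ∈ B.map ι := by
    constructor
    · intro hb; exact ⟨b, hb, rfl⟩
    · rintro ⟨b', hb', hbb'⟩
      rw [← hιinj hbb']; exact hb'
  rw [h1, hg, mem_map_cj]
  constructor
  · rintro ⟨a, ha, haeq⟩
    have : (MulAut.conj (⟨g, Perm.mem_alternatingGroup.mpr hgs⟩ : alternatingGroup (Fin n)))⁻¹ • b = a := by
      apply hιinj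
      rw [haeq]
      simp [MulAut.smul_def, hι]
    rw [this]; exact ha
  · intro h
    refine ⟨_, h, ?_⟩
    simp [MulAut.smul_def, hι]

end Cfsg.Agent.Lib.Helper1.Ab
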