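import Mathlib
import Cfsg.Agent.Lib.Helper9.AbCc
import Cfsg.Agent.Lib.Lead.KleinSylow
import Cfsg.Agent.Lib.Lead.S3B
import Cfsg.Agent.S1230

/-!
# S2202, piece Z2: from a complement of the central core to `SL₂(2^k) × A`
-/

set_option autoImplicit false
set_option linter.unusedSimpArgs false
set_option linter.unusedVariables false
set_option linter.unusedSectionVars false
set_option linter.style.longLine false

namespace Cfsg.Agent.Lib.Helper1.AbCZ2

open Cfsg Cfsg.Agent.Lib.Lead Cfsg.Agent.Lib.Lead.SE Cfsg.Agent.Lib.Helper9.AbC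

/-- the internal direct product with a central subgroup -/
theorem exists_prod_equiv {G : Type*} [Group G] (N L : Subgroup G) (hN : N ≤ Subgroup.center G)
    (hinf : L ⊓ N = ⊥) (hsup : L ⊔ N = ⊤) : Nonempty (G ≃* ↥L × ↥N) := by
  have hcomm : ∀ (l : ↥L) (n : ↥N), Commute (L.subtype l) (N.subtype n) := by
    intro l n
    have := Subgroup.mem_center_iff.mp (hN n.2) (l : G)
    exact this
  let φ : ↥L × ↥N →* G := MonoidHom.noncommCoprod L.subtype N.subtype hcomm
  have hφ : ∀ p : ↥L × ↥N, φ p = (p.1 : G) * (p.2 : G) := fun p => rfl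
  have hinj : Function.Injective φ := by
    rw [injective_iff_map_eq_one]
    rintro ⟨l, n⟩ hln
    rw [hφ] at hln
    have h1 : (l : G) = (n : G)⁻¹ := eq_inv_of_mul_eq_one_left hln
    have h2 : (l : G) ∈ L ⊓ N := ⟨l.2, by rw [h1]; exact N.inv_mem n.2⟩
    rw [hinf, Subgroup.mem_bot] at h2
    have h3 : (n : G) = 1 := by
      rw [h2, one_mul] at hln
      exact hln
    exact Prod.ext (Subtype.ext h2) (Subtype.ext h3)
  have hsurj : Function.Surjective φ := by
    rw [← MonoidHom.range_eq_top, eq_top_iff, ← hsup, sup_le_iff]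
    constructor
    · intro l hl
      refine ⟨(⟨l, hl⟩, 1), ?_⟩
      rw [hφ]
      simp
    · intro n hn
      refine ⟨(1, ⟨n, hn⟩), ?_⟩
      rw [hφ]
      simp
  exact ⟨(MulEquiv.ofBijective φ ⟨hinj, hsurj⟩).symm⟩

/-- a copy of `Fin n` without any algebraic instances -/
def SmallCarrier (n : ℕ) : Type := Fin n

/-- a finite commutative group has a copy in `Type` -/
theorem exists_small_commGroup {N : Type*} [CommGroup N] [Finite N] :
    ∃ (A : Type) (_ : CommGroup A) (_ : Finite A), Nat.card A = Nat.card N ∧ Nonempty (N ≃* A) := by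
  let e : SmallCarrier (Nat.card N) ≃ N := (Finite.equivFin N).symm
  letI : CommGroup (SmallCarrier (Nat.card N)) := e.commGroup
  haveI : Finite (SmallCarrier (Nat.card N)) := Finite.of_equiv N e.symm
  refine ⟨SmallCarrier (Nat.card N), inferInstance, inferInstance, ?_, ⟨(e.mulEquiv).symm⟩⟩
  exact Nat.card_congr e

theorem final_of_complement {G : Type*} [Group G] [Finite G] {T : Sylow 2 G} (h : Hyp T)
    (hc : Concl T) (N L : Subgroup G) (hN : N ≤ Subgroup.center G)
    (hNodd : ∀ n ∈ N, Odd (orderOf n))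
    (hNT : ∀ c : G, (∀ t ∈ T, c * t = t * c) → Odd (orderOf c) → c ∈ N)
    (hTL : (T : Subgroup G) ≤ L) (hinf : L ⊓ N = ⊥) (hsup : L ⊔ N = ⊤)
    (hLn : ¬ L ≤ Subgroup.normalizer ((T : Subgroup G) : Set G)) :
    ∃ (F : Type) (_ : Field F) (_ : Fintype F) (A : Type) (_ : CommGroup A) (_ : Finite A),
      CharP F 2 ∧ Odd (Nat.card A) ∧
      Nonempty (G ≃* Matrix.SpecialLinearGroup (Fin 2) F × A) := by
  classical
  haveI : Fact (Nat.Prime 2) := ⟨Nat.prime_two⟩
  obtain ⟨e1⟩ := exists_prod_equiv N L hN hinf hsup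
  have hL : Hyp (T.subtype hTL) := hyp_subgroup h L hTL hLn
  -- the exponent statement in `G`
  have key : ∀ c t : G, c ∈ L → orderOf t = 2 → c * t = t * c → c ^ 2 = 1 := by
    intro c t hcL ht hct
    obtain ⟨g, hg⟩ := KleinSylow.conj_mem_sylow T t ht
    have hs1 : g * t * g⁻¹ ≠ 1 := by
      intro h1
      have : t = 1 := by
        have e : t = g⁻¹ * (g * t * g⁻¹) * g := by group
        rw [e, h1]; group
      rw [this, orderOf_one] at ht
      omega
    have hcs : (g * c * g⁻¹) * (g * t * g⁻¹) = (g * t * g⁻¹) * (g * c * g⁻¹) := by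
      have e1 : (g * c * g⁻¹) * (g * t * g⁻¹) = g * (c * t) * g⁻¹ := by group
      have e2 : (g * t * g⁻¹) * (g * c * g⁻¹) = g * (t * c) * g⁻¹ := by group
      rw [e1, e2, hct]
    have hcT : ∀ s ∈ T, (g * c * g⁻¹) * s = s * (g * c * g⁻¹) := fun s hs =>
      h.cent_of_comm hg hs1 hcs hs
    have hn0 : orderOf (g * c * g⁻¹) ≠ 0 := (orderOf_pos _).ne'
    obtain ⟨a, m, hm, hnm⟩ := Nat.exists_eq_two_pow_mul_odd hn0
    have hpow_odd : Odd (orderOf ((g * c * g⁻¹) ^ (2 ^ a))) := by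
      apply Odd.of_dvd_nat hm
      apply orderOf_dvd_of_pow_eq_one
      rw [← pow_mul, ← hnm, pow_orderOf_eq_one]
    have hpow_comm : ∀ s ∈ T, (g * c * g⁻¹) ^ (2 ^ a) * s = s * (g * c * g⁻¹) ^ (2 ^ a) := by
      intro s hs
      have : Commute (g * c * g⁻¹) s := hcT s hs
      exact (this.pow_left _)
    have hpowN : (g * c * g⁻¹) ^ (2 ^ a) ∈ N := hNT _ hpow_comm hpow_odd
    have hcen := Subgroup.mem_center_iff.mp (hN hpowN)
    have hconj : (g * c * g⁻¹) ^ (2 ^ a) = g * c ^ (2 ^ a) * g⁻¹ := conj_pow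
    have hcp : c ^ (2 ^ a) = (g * c * g⁻¹) ^ (2 ^ a) := by
      have e : c ^ (2 ^ a) = g⁻¹ * (g * c ^ (2 ^ a) * g⁻¹) * g := by group
      rw [e, ← hconj, mul_assoc, ← hcen g, ← mul_assoc, inv_mul_cancel, one_mul]
    have hcp1 : c ^ (2 ^ a) = 1 := by
      have : c ^ (2 ^ a) ∈ L ⊓ N := ⟨L.pow_mem hcL _, by rw [hcp]; exact hpowN⟩
      rw [hinf, Subgroup.mem_bot] at this
      exact this
    have hord : orderOf (g * c * g⁻¹) ∣ 2 ^ a := by
      apply orderOf_dvd_of_pow_eq_one
      rw [← hcp, hcp1]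
    obtain ⟨b, -, hb⟩ := (Nat.dvd_prime_pow Nat.prime_two).mp hord
    have hmem : g * c * g⁻¹ ∈ T := h.two_elt_mem hcT hb
    have h2 := hc.elem _ hmem
    rw [conj_pow] at h2
    have e : c ^ 2 = g⁻¹ * (g * c ^ 2 * g⁻¹) * g := by group
    rw [e, h2]; group
  have hC : ∀ t : ↥L, orderOf t = 2 →
      IsMulCommutative (Subgroup.centralizer ({t} : Set ↥L)) ∧
        ∀ c ∈ Subgroup.centralizer ({t} : Set ↥L), c ^ 2 = 1 := by
    intro t ht
    constructor
    · refine ⟨⟨fun a b => ?_⟩⟩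
      have ha := Subgroup.mem_centralizer_singleton_iff.mp a.2
      have hb := Subgroup.mem_centralizer_singleton_iff.mp b.2
      exact Subtype.ext (hL.ab t ht a.1 b.1 ha hb)
    · intro c hcc
      rw [Subgroup.mem_centralizer_singleton_iff] at hcc
      have ht' : orderOf (t : G) = 2 := by rw [Subgroup.orderOf_coe]; exact ht
      have hct : (c : G) * (t : G) = (t : G) * (c : G) := congrArg Subtype.val hcc
      have := key (c : G) (t : G) c.2 ht' hct
      apply Subtype.ext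
      rw [Subgroup.coe_pow, Subgroup.coe_one]
      exact this
  obtain ⟨F, iF, iFt, hcard, ⟨e2⟩⟩ := Cfsg.Agent.S1230.result (T.subtype hTL) hL.nc hL.nn hC
  obtain ⟨k, hk⟩ := IsPGroup.iff_card.mp (T.subtype hTL).isPGroup'
  have hcardF : Fintype.card F = 2 ^ k := by rw [hcard]; exact hk
  have h2 : ringChar F = 2 := Cfsg.Agent.Lib.Lead.S3.ringChar_two_of_card hcardF
  haveI : CharP F 2 := ringChar.of_eq h2
  have e3 := Cfsg.Agent.Lib.Lead.S3.slEquivPsl F h2
  -- the abelian factor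
  letI : CommGroup ↥N :=
    { (inferInstance : Group ↥N) with
      mul_comm := fun a b => Subtype.ext (Subgroup.mem_center_iff.mp (hN b.2) (a : G)) }
  obtain ⟨A, iA, iAf, hAcard, ⟨e4⟩⟩ := exists_small_commGroup (N := ↥N)
  have hNcard : Odd (Nat.card ↥N) := by
    by_contra hodd
    rw [Nat.not_odd_iff_even] at hodd
    obtain ⟨n, hn⟩ := exists_prime_orderOf_dvd_card' (G := ↥N) 2 hodd.two_dvd
    have := hNodd (n : G) n.2
    rw [Subgroup.orderOf_coe, hn] at this
    exact absurd this (by decide)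
  refine ⟨F, iF, iFt, A, iA, iAf, inferInstance, ?_, ⟨?_⟩⟩
  · rw [hAcard]; exact hNcard
  · exact e1.trans (MulEquiv.prodCongr (e2.trans e3.symm) e4)

end Cfsg.Agent.Lib.Helper1.AbCZ2
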