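import Mathlib
open Pointwise

set_option autoImplicit false

namespace Cfsg.Agent.Lib.Helper1

universe u

variable {G : Type u} [Group G]

theorem conj_eq_of_comm {x y : G} (h : x * y = y * x) : y⁻¹ * x * y = x := by
  rw [mul_assoc, h, inv_mul_cancel_left]

theorem ito_key {a a₁ a₂ a₃ b b₁ b₂ b₃ : G}
    (c1 : a * a₁ = a₁ * a) (c2 : a * a₃ = a₃ * a) (c3 : a₂ * a₁ = a₁ * a₂)
    (c4 : a₂ * a₃ = a₃ * a₂)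
    (d1 : b₃ * b₁ = b₁ * b₃) (d2 : b₃ * b₂ = b₂ * b₃) (d3 : b * b₁ = b₁ * b)
    (d4 : b * b₂ = b₂ * b)
    (h1 : a₁⁻¹ * b * a₁ = a₃ * b₃) (h2 : b₁⁻¹ * a * b₁ = b₂ * a₂) :
    (a₁ * b₁)⁻¹ * (a⁻¹ * b⁻¹ * a * b) * (a₁ * b₁) =
      (b₁ * a₁)⁻¹ * (a⁻¹ * b⁻¹ * a * b) * (b₁ * a₁) := by
  have L : (a₁ * b₁)⁻¹ * (a⁻¹ * b⁻¹ * a * b) * (a₁ * b₁) = a₂⁻¹ * b₃⁻¹ * a₂ * b₃ := by
    calc (a₁ * b₁)⁻¹ * (a⁻¹ * b⁻¹ * a * b) * (a₁ * b₁)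
        = b₁⁻¹ * (a₁⁻¹ * a * a₁)⁻¹ * (a₁⁻¹ * b * a₁)⁻¹ * (a₁⁻¹ * a * a₁) * (a₁⁻¹ * b * a₁) * b₁ := by
          group
      _ = b₁⁻¹ * a⁻¹ * (a₃ * b₃)⁻¹ * a * (a₃ * b₃) * b₁ := by
          rw [conj_eq_of_comm c1, h1]
      _ = b₁⁻¹ * a⁻¹ * b₃⁻¹ * (a₃⁻¹ * a * a₃) * b₃ * b₁ := by group
      _ = b₁⁻¹ * a⁻¹ * b₃⁻¹ * a * b₃ * b₁ := by rw [conj_eq_of_comm c2]
      _ = (b₁⁻¹ * a * b₁)⁻¹ * (b₁⁻¹ * b₃ * b₁)⁻¹ * (b₁⁻¹ * a * b₁) * (b₁⁻¹ * b₃ * b₁) := by group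
      _ = (b₂ * a₂)⁻¹ * b₃⁻¹ * (b₂ * a₂) * b₃ := by rw [conj_eq_of_comm d1, h2]
      _ = a₂⁻¹ * (b₂⁻¹ * b₃ * b₂)⁻¹ * a₂ * b₃ := by group
      _ = a₂⁻¹ * b₃⁻¹ * a₂ * b₃ := by rw [conj_eq_of_comm d2]
  have R : (b₁ * a₁)⁻¹ * (a⁻¹ * b⁻¹ * a * b) * (b₁ * a₁) = a₂⁻¹ * b₃⁻¹ * a₂ * b₃ := by
    calc (b₁ * a₁)⁻¹ * (a⁻¹ * b⁻¹ * a * b) * (b₁ * a₁)
        = a₁⁻¹ * (b₁⁻¹ * a * b₁)⁻¹ * (b₁⁻¹ * b * b₁)⁻¹ * (b₁⁻¹ * a * b₁) * (b₁⁻¹ * b * b₁) * a₁ := by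
          group
      _ = a₁⁻¹ * (b₂ * a₂)⁻¹ * b⁻¹ * (b₂ * a₂) * b * a₁ := by
          rw [conj_eq_of_comm d3, h2]
      _ = a₁⁻¹ * a₂⁻¹ * (b₂⁻¹ * b * b₂)⁻¹ * a₂ * b * a₁ := by group
      _ = a₁⁻¹ * a₂⁻¹ * b⁻¹ * a₂ * b * a₁ := by rw [conj_eq_of_comm d4]
      _ = (a₁⁻¹ * a₂ * a₁)⁻¹ * (a₁⁻¹ * b * a₁)⁻¹ * (a₁⁻¹ * a₂ * a₁) * (a₁⁻¹ * b * a₁) := by group
      _ = a₂⁻¹ * (a₃ * b₃)⁻¹ * a₂ * (a₃ * b₃) := by rw [conj_eq_of_comm c3, h1]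
      _ = a₂⁻¹ * b₃⁻¹ * (a₃⁻¹ * a₂ * a₃) * b₃ := by group
      _ = a₂⁻¹ * b₃⁻¹ * a₂ * b₃ := by rw [conj_eq_of_comm c4]
  rw [L, R]


open scoped commutatorElement in
/-- Itô: commutators `[a,b]`, `a ∈ A`, `b ∈ B` commute pairwise if `G = AB` with `A`, `B` abelian. -/
theorem ito_commutators_commute (A B : Subgroup G)
    (hA : ∀ x ∈ A, ∀ y ∈ A, x * y = y * x) (hB : ∀ x ∈ B, ∀ y ∈ B, x * y = y * x)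
    (hAB : ∀ g : G, ∃ a ∈ A, ∃ b ∈ B, g = a * b)
    {a b a₁ b₁ : G} (ha : a ∈ A) (hb : b ∈ B) (ha₁ : a₁ ∈ A) (hb₁ : b₁ ∈ B) :
    ⁅a₁, b₁⁆ * ⁅a, b⁆ = ⁅a, b⁆ * ⁅a₁, b₁⁆ := by
  -- α = a⁻¹, β = b⁻¹
  obtain ⟨a₃, ha₃, b₃, hb₃, h1⟩ := hAB (a₁⁻¹ * b⁻¹ * a₁)
  obtain ⟨x, hx, y, hy, h2'⟩ := hAB (b₁⁻¹ * a⁻¹ * b₁)⁻¹
  have h2 : b₁⁻¹ * a⁻¹ * b₁ = y⁻¹ * x⁻¹ := by
    have : b₁⁻¹ * a⁻¹ * b₁ = ((b₁⁻¹ * a⁻¹ * b₁)⁻¹)⁻¹ := (inv_inv _).symm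
    rw [this, h2', mul_inv_rev]
  have hai := A.inv_mem ha
  have hbi := B.inv_mem hb
  have hxi := A.inv_mem hx
  have hyi := B.inv_mem hy
  have key := ito_key (a := a⁻¹) (a₁ := a₁) (a₂ := x⁻¹) (a₃ := a₃) (b := b⁻¹) (b₁ := b₁)
    (b₂ := y⁻¹) (b₃ := b₃)
    (hA _ hai _ ha₁) (hA _ hai _ ha₃) (hA _ hxi _ ha₁) (hA _ hxi _ ha₃)
    (hB _ hb₃ _ hb₁) (hB _ hb₃ _ hyi) (hB _ hbi _ hb₁) (hB _ hbi _ hyi) h1 h2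
  simp only [inv_inv] at key
  -- key : (a₁ b₁)⁻¹ (a b a⁻¹ b⁻¹) (a₁ b₁) = (b₁ a₁)⁻¹ (a b a⁻¹ b⁻¹) (b₁ a₁)
  have e1 : ⁅a₁, b₁⁆ * ⁅a, b⁆ * ⁅a₁, b₁⁆⁻¹ =
      (a₁ * b₁) * ((b₁ * a₁)⁻¹ * (a * b * a⁻¹ * b⁻¹) * (b₁ * a₁)) * (a₁ * b₁)⁻¹ := by
    simp only [commutatorElement_def]; group
  have e2 : ⁅a₁, b₁⁆ * ⁅a, b⁆ * ⁅a₁, b₁⁆⁻¹ = ⁅a, b⁆ := by
    rw [e1, ← key]
    simp only [commutatorElement_def]; group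
  calc ⁅a₁, b₁⁆ * ⁅a, b⁆ = ⁅a₁, b₁⁆ * ⁅a, b⁆ * ⁅a₁, b₁⁆⁻¹ * ⁅a₁, b₁⁆ := by group
    _ = ⁅a, b⁆ * ⁅a₁, b₁⁆ := by rw [e2]

open scoped commutatorElement in
theorem ito_solvable (A B : Subgroup G)
    (hA : ∀ x ∈ A, ∀ y ∈ A, x * y = y * x) (hB : ∀ x ∈ B, ∀ y ∈ B, x * y = y * x)
    (hAB : ∀ g : G, ∃ a ∈ A, ∃ b ∈ B, g = a * b) : Group.IsSolvable G := by
  set N : Subgroup G := ⁅A, B⁆ with hN
  have hsup : A ⊔ B = ⊤ := by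
    rw [eq_top_iff]
    intro g _
    obtain ⟨a, ha, b, hb, rfl⟩ := hAB g
    exact Subgroup.mul_mem_sup ha hb
  have hNn : N.Normal := by
    rw [← Subgroup.normalizer_eq_top_iff, eq_top_iff, ← hsup]
    exact sup_le (Subgroup.normalizer_commutator_ge_left A B) (Subgroup.normalizer_commutator_ge_right A B)
  -- G' ≤ N
  have hGN : commutator G ≤ N := by
    rw [commutator_def, Subgroup.commutator_le]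
    intro g _ h _
    obtain ⟨a, ha, b, hb, rfl⟩ := hAB g
    obtain ⟨a', ha', b', hb', rfl⟩ := hAB h
    set q := QuotientGroup.mk' N with hq
    have hqc : ∀ x ∈ A, ∀ y ∈ B, q x * q y = q y * q x := by
      intro x hx y hy
      rw [← commutatorElement_eq_one_iff_mul_comm, ← map_commutatorElement]
      exact (QuotientGroup.eq_one_iff _).mpr (Subgroup.commutator_mem_commutator hx hy)
    have qa : q a * q a' = q a' * q a := by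
      rw [← map_mul, ← map_mul, hA a ha a' ha']
    have qb : q b * q b' = q b' * q b := by
      rw [← map_mul, ← map_mul, hB b hb b' hb']
    have q1 := hqc a ha b' hb'
    have q2 := hqc a' ha' b hb
    have hfin : q ⁅a * b, a' * b'⁆ = 1 := by
      rw [map_commutatorElement, commutatorElement_eq_one_iff_mul_comm, map_mul, map_mul]
      calc q a * q b * (q a' * q b') = q a * (q b * q a') * q b' := by group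
        _ = q a * (q a' * q b) * q b' := by rw [q2]
        _ = (q a * q a') * (q b * q b') := by group
        _ = (q a' * q a) * (q b' * q b) := by rw [qa, qb]
        _ = q a' * (q a * q b') * q b := by group
        _ = q a' * (q b' * q a) * q b := by rw [q1]
        _ = q a' * q b' * (q a * q b) := by group
    exact (QuotientGroup.eq_one_iff _).mp hfin
  -- N is commutative
  have hNcomm : ⁅N, N⁆ = ⊥ := by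
    rw [Subgroup.commutator_eq_bot_iff_le_centralizer, hN, Subgroup.commutator_def,
      Subgroup.closure_le]
    rintro _ ⟨a₁, ha₁, b₁, hb₁, rfl⟩
    rw [SetLike.mem_coe, Subgroup.mem_centralizer_iff]
    intro z hz
    -- z in closure of commutators
    change z ∈ Subgroup.closure _ at hz
    induction hz using Subgroup.closure_induction with
    | mem z hz =>
      obtain ⟨a, ha, b, hb, rfl⟩ := hz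
      exact (ito_commutators_commute A B hA hB hAB ha hb ha₁ hb₁).symm
    | one => simp
    | mul x y _ _ hx hy =>
      rw [mul_assoc, hy, ← mul_assoc, hx, mul_assoc]
    | inv x _ hx =>
      calc x⁻¹ * ⁅a₁, b₁⁆ = x⁻¹ * (⁅a₁, b₁⁆ * x) * x⁻¹ := by group
        _ = x⁻¹ * (x * ⁅a₁, b₁⁆) * x⁻¹ := by rw [hx]
        _ = ⁅a₁, b₁⁆ * x⁻¹ := by group
  rw [Group.isSolvable_def]
  refine ⟨2, ?_⟩
  rw [derivedSeries_succ, derivedSeries_succ, derivedSeries_zero, eq_bot_iff, ← hNcomm]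
  exact Subgroup.commutator_mono hGN hGN

end Cfsg.Agent.Lib.Helper1
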