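import Mathlib
import Cfsg.Agent.Lib.Helper1.Ito

set_option autoImplicit false
set_option maxHeartbeats 4000000
set_option maxRecDepth 100000
set_option linter.unusedVariables false
set_option linter.unusedSectionVars false
set_option linter.style.longLine false
set_option linter.unusedSimpArgs false
set_option linter.deprecated false
set_option linter.style.haveILetI false

/-! Product of an abelian group and a class-two group: commutator identities. -/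

namespace Cfsg.Agent.Lib.Helper1.Abc

variable {G : Type*} [Group G]

open scoped commutatorElement

theorem key_conj {a a₁ a₂ a₃ z z₁ b₂ b₃ : G}
    (c1 : a * a₁ = a₁ * a) (c2 : a * a₂ = a₂ * a) (c3 : a₃ * a₁ = a₁ * a₃)
    (c4 : a₃ * a₂ = a₂ * a₃)
    (d1 : b₂ * z₁ = z₁ * b₂) (d2 : z * z₁ = z₁ * z) (d3 : z * b₃ = b₃ * z)
    (h1 : a₁⁻¹ * z * a₁ = a₂ * b₂) (h2 : z₁⁻¹ * a * z₁ = b₃ * a₃) :
    (a₁ * z₁)⁻¹ * (a⁻¹ * z⁻¹ * a * z) * (a₁ * z₁) =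
      (a₃⁻¹ * (b₃⁻¹ * b₂⁻¹ * b₃ * b₂) * a₃) *
        ((z₁ * a₁)⁻¹ * (a⁻¹ * z⁻¹ * a * z) * (z₁ * a₁)) := by
  have L : (a₁ * z₁)⁻¹ * (a⁻¹ * z⁻¹ * a * z) * (a₁ * z₁) =
      a₃⁻¹ * b₃⁻¹ * b₂⁻¹ * b₃ * a₃ * b₂ := by
    calc (a₁ * z₁)⁻¹ * (a⁻¹ * z⁻¹ * a * z) * (a₁ * z₁)
        = z₁⁻¹ * (a₁⁻¹ * a * a₁)⁻¹ * (a₁⁻¹ * z * a₁)⁻¹ * (a₁⁻¹ * a * a₁) * (a₁⁻¹ * z * a₁) * z₁ := by
          group
      _ = z₁⁻¹ * a⁻¹ * (a₂ * b₂)⁻¹ * a * (a₂ * b₂) * z₁ := by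
          rw [conj_eq_of_comm c1, h1]
      _ = z₁⁻¹ * a⁻¹ * b₂⁻¹ * (a₂⁻¹ * a * a₂) * b₂ * z₁ := by group
      _ = z₁⁻¹ * a⁻¹ * b₂⁻¹ * a * b₂ * z₁ := by rw [conj_eq_of_comm c2]
      _ = (z₁⁻¹ * a * z₁)⁻¹ * (z₁⁻¹ * b₂ * z₁)⁻¹ * (z₁⁻¹ * a * z₁) * (z₁⁻¹ * b₂ * z₁) := by group
      _ = (b₃ * a₃)⁻¹ * b₂⁻¹ * (b₃ * a₃) * b₂ := by rw [conj_eq_of_comm d1, h2]
      _ = a₃⁻¹ * b₃⁻¹ * b₂⁻¹ * b₃ * a₃ * b₂ := by group
  have R : (z₁ * a₁)⁻¹ * (a⁻¹ * z⁻¹ * a * z) * (z₁ * a₁) = a₃⁻¹ * b₂⁻¹ * a₃ * b₂ := by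
    calc (z₁ * a₁)⁻¹ * (a⁻¹ * z⁻¹ * a * z) * (z₁ * a₁)
        = a₁⁻¹ * (z₁⁻¹ * a * z₁)⁻¹ * (z₁⁻¹ * z * z₁)⁻¹ * (z₁⁻¹ * a * z₁) * (z₁⁻¹ * z * z₁) * a₁ := by
          group
      _ = a₁⁻¹ * (b₃ * a₃)⁻¹ * z⁻¹ * (b₃ * a₃) * z * a₁ := by
          rw [conj_eq_of_comm d2, h2]
      _ = a₁⁻¹ * a₃⁻¹ * (b₃⁻¹ * z * b₃)⁻¹ * a₃ * z * a₁ := by group
      _ = a₁⁻¹ * a₃⁻¹ * z⁻¹ * a₃ * z * a₁ := by rw [conj_eq_of_comm d3]
      _ = (a₁⁻¹ * a₃ * a₁)⁻¹ * (a₁⁻¹ * z * a₁)⁻¹ * (a₁⁻¹ * a₃ * a₁) * (a₁⁻¹ * z * a₁) := by group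
      _ = a₃⁻¹ * (a₂ * b₂)⁻¹ * a₃ * (a₂ * b₂) := by rw [conj_eq_of_comm c3, h1]
      _ = a₃⁻¹ * b₂⁻¹ * (a₂⁻¹ * a₃ * a₂) * b₂ := by group
      _ = a₃⁻¹ * b₂⁻¹ * a₃ * b₂ := by rw [conj_eq_of_comm c4]
  rw [L, R]
  group

/-- The commutator of two generators `⁅a,z⁆`, `⁅a₁,z₁⁆` (with `z, z₁` central in `B`) is a
conjugate of a commutator of two elements of `B`. -/
theorem comm_gen_conj (A B : Subgroup G)
    (hA : ∀ x ∈ A, ∀ y ∈ A, x * y = y * x)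
    (hAB : ∀ g : G, ∃ a ∈ A, ∃ b ∈ B, g = a * b)
    {a a₁ z z₁ : G} (ha : a ∈ A) (ha₁ : a₁ ∈ A) (hz : z ∈ B) (hz₁ : z₁ ∈ B)
    (hzc : ∀ b ∈ B, z * b = b * z) (hz₁c : ∀ b ∈ B, z₁ * b = b * z₁) :
    ∃ b₂ ∈ B, ∃ b₃ ∈ B, ∃ g : G, ⁅⁅a, z⁆, ⁅a₁, z₁⁆⁆ = g * ⁅b₃, b₂⁆ * g⁻¹ := by
  obtain ⟨a₂, ha₂, b₂, hb₂, h1⟩ := hAB (a₁⁻¹ * z⁻¹ * a₁)
  obtain ⟨x, hx, y, hy, h2'⟩ := hAB (z₁⁻¹ * a⁻¹ * z₁)⁻¹
  have h2 : z₁⁻¹ * a⁻¹ * z₁ = y⁻¹ * x⁻¹ := by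
    have : z₁⁻¹ * a⁻¹ * z₁ = ((z₁⁻¹ * a⁻¹ * z₁)⁻¹)⁻¹ := (inv_inv _).symm
    rw [this, h2', mul_inv_rev]
  have hai := A.inv_mem ha
  have hxi := A.inv_mem hx
  have hyi := B.inv_mem hy
  have hb₂i := B.inv_mem hb₂
  have hzi : ∀ b ∈ B, z⁻¹ * b = b * z⁻¹ := by
    intro b hb
    have := hzc b hb
    calc z⁻¹ * b = z⁻¹ * (b * z) * z⁻¹ := by group
      _ = z⁻¹ * (z * b) * z⁻¹ := by rw [this]
      _ = b * z⁻¹ := by group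
  have key := key_conj (a := a⁻¹) (a₁ := a₁) (a₂ := a₂) (a₃ := x⁻¹) (z := z⁻¹) (z₁ := z₁)
    (b₂ := b₂) (b₃ := y⁻¹)
    (hA _ hai _ ha₁) (hA _ hai _ ha₂) (hA _ hxi _ ha₁) (hA _ hxi _ ha₂)
    (hz₁c b₂ hb₂).symm (hzi z₁ hz₁) (hzi _ hyi) h1 h2
  simp only [inv_inv] at key
  refine ⟨b₂⁻¹, hb₂i, y, hy, (a₁ * z₁) * x, ?_⟩
  have k2 : (a₁ * z₁)⁻¹ * (a * z * a⁻¹ * z⁻¹) * (a₁ * z₁) *
      ((z₁ * a₁)⁻¹ * (a * z * a⁻¹ * z⁻¹) * (z₁ * a₁))⁻¹ = x * (y * b₂⁻¹ * y⁻¹ * b₂) * x⁻¹ := by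
    rw [key]; group
  calc ⁅⁅a, z⁆, ⁅a₁, z₁⁆⁆
      = (a₁ * z₁) * ((a₁ * z₁)⁻¹ * (a * z * a⁻¹ * z⁻¹) * (a₁ * z₁) *
          ((z₁ * a₁)⁻¹ * (a * z * a⁻¹ * z⁻¹) * (z₁ * a₁))⁻¹) * (a₁ * z₁)⁻¹ := by
        simp only [commutatorElement_def]; group
    _ = (a₁ * z₁) * (x * (y * b₂⁻¹ * y⁻¹ * b₂) * x⁻¹) * (a₁ * z₁)⁻¹ := by rw [k2]
    _ = (a₁ * z₁ * x) * ⁅y, b₂⁻¹⁆ * (a₁ * z₁ * x)⁻¹ := by
        simp only [commutatorElement_def]; group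

/-- class two hypothesis gives nilpotency. -/
theorem isNilpotent_of_commutator_le_center (H : Type*) [Group H]
    (h : commutator H ≤ Subgroup.center H) : Group.IsNilpotent H := by
  refine ⟨⟨2, ?_⟩⟩
  rw [eq_top_iff]
  intro x _
  rw [mem_upperCentralSeries_succ_iff]
  intro y
  rw [upperCentralSeries_one]
  apply h
  rw [commutator_def]
  exact Subgroup.commutator_mem_commutator (Subgroup.mem_top x) (Subgroup.mem_top y)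

/-- If `S`, `T` are sets whose elements commute pairwise modulo a normal subgroup `N`,
then `⁅closure S, closure T⁆ ≤ N`. -/
theorem commutator_closure_le {S T : Set G} {N : Subgroup G} [hN : N.Normal]
    (h : ∀ s ∈ S, ∀ t ∈ T, ⁅s, t⁆ ∈ N) :
    ⁅Subgroup.closure S, Subgroup.closure T⁆ ≤ N := by
  set q := QuotientGroup.mk' N with hq
  rw [Subgroup.commutator_le]
  intro x hx y hy
  have hcomm : ∀ s ∈ S, ∀ t ∈ T, q s * q t = q t * q s := by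
    intro s hs t ht
    rw [← commutatorElement_eq_one_iff_mul_comm, ← map_commutatorElement]
    exact (QuotientGroup.eq_one_iff _).mpr (h s hs t ht)
  have hcl : ∀ t ∈ T, ∀ x ∈ Subgroup.closure S, q x * q t = q t * q x := by
    intro t ht x hx
    induction hx using Subgroup.closure_induction with
    | mem s hs => exact hcomm s hs t ht
    | one => simp
    | mul u v _ _ hu hv =>
      rw [map_mul, mul_assoc, hv, ← mul_assoc, hu, mul_assoc]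
    | inv u _ hu =>
      rw [map_inv]
      calc (q u)⁻¹ * q t = (q u)⁻¹ * (q t * q u) * (q u)⁻¹ := by group
        _ = (q u)⁻¹ * (q u * q t) * (q u)⁻¹ := by rw [hu]
        _ = q t * (q u)⁻¹ := by group
  have hcl2 : ∀ y ∈ Subgroup.closure T, q x * q y = q y * q x := by
    intro y hy
    induction hy using Subgroup.closure_induction with
    | mem t ht => exact hcl t ht x hx
    | one => simp
    | mul u v _ _ hu hv =>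
      rw [map_mul, ← mul_assoc, hu, mul_assoc, hv, ← mul_assoc]
    | inv u _ hu =>
      rw [map_inv]
      calc q x * (q u)⁻¹ = (q u)⁻¹ * (q u * q x) * (q u)⁻¹ := by group
        _ = (q u)⁻¹ * (q x * q u) * (q u)⁻¹ := by rw [hu]
        _ = (q u)⁻¹ * q x := by group
  have := hcl2 y hy
  rw [← commutatorElement_eq_one_iff_mul_comm, ← map_commutatorElement] at this
  exact (QuotientGroup.eq_one_iff _).mp this

/-- A perfect subgroup of a solvable group is trivial. -/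
theorem eq_bot_of_perfect [hs : Group.IsSolvable G] (K : Subgroup G) (hK : K ≤ ⁅K, K⁆) : K = ⊥ := by
  obtain ⟨n, hn⟩ := hs.solvable
  have : ∀ m, K ≤ derivedSeries G m := by
    intro m
    induction m with
    | zero => simp
    | succ m ih =>
      rw [derivedSeries_succ]
      exact hK.trans (Subgroup.commutator_mono ih ih)
  rw [eq_bot_iff, ← hn]
  exact this n

/-- number of prime factors strictly decreases for proper divisors. -/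
theorem length_primeFactorsList_lt {d n : ℕ} (hn : n ≠ 0) (hd : d ∣ n) (hne : d ≠ n) :
    d.primeFactorsList.length < n.primeFactorsList.length := by
  obtain ⟨k, rfl⟩ := hd
  have hd0 : d ≠ 0 := by rintro rfl; simp at hn
  have hk0 : k ≠ 0 := by rintro rfl; simp at hn
  have hk1 : k ≠ 1 := by rintro rfl; simp at hne
  have hperm := Nat.perm_primeFactorsList_mul hd0 hk0
  rw [hperm.length_eq, List.length_append]
  have : k.primeFactorsList ≠ [] := by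
    intro h
    rcases (Nat.primeFactorsList_eq_nil k).mp h with h | h
    · exact hk0 h
    · exact hk1 h
  have := List.length_pos_of_ne_nil this
  omega

end Cfsg.Agent.Lib.Helper1.Abc
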