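import Mathlib
import Cfsg.Agent.Lib.Helper1.Ito
open Pointwise

set_option autoImplicit false

namespace Cfsg.Agent.Lib.Helper1

universe u

variable {G : Type u} [Group G]

open scoped commutatorElement in
theorem ito_metabelian (A B : Subgroup G)
    (hA : ∀ x ∈ A, ∀ y ∈ A, x * y = y * x) (hB : ∀ x ∈ B, ∀ y ∈ B, x * y = y * x)
    (hAB : ∀ g : G, ∃ a ∈ A, ∃ b ∈ B, g = a * b) : derivedSeries G 2 = ⊥ := by
  set N : Subgroup G := ⁅A, B⁆ with hN
  have hsup : A ⊔ B = ⊤ := by
    rw [eq_top_iff]
    intro g _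
    obtain ⟨a, ha, b, hb, rfl⟩ := hAB g
    exact Subgroup.mul_mem_sup ha hb
  have hNn : N.Normal := by
    rw [← Subgroup.normalizer_eq_top_iff, eq_top_iff, ← hsup]
    exact sup_le (Subgroup.normalizer_commutator_ge_left A B) (Subgroup.normalizer_commutator_ge_right A B)
  -- G' ≤ N
  have hGN : commutator G ≤ N := by
    rw [commutator_def, Subgroup.commutator_le]
    intro g _ h _
    obtain ⟨a, ha, b, hb, rfl⟩ := hAB g
    obtain ⟨a', ha', b', hb', rfl⟩ := hAB h
    set q := QuotientGroup.mk' N with hq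
    have hqc : ∀ x ∈ A, ∀ y ∈ B, q x * q y = q y * q x := by
      intro x hx y hy
      rw [← commutatorElement_eq_one_iff_mul_comm, ← map_commutatorElement]
      exact (QuotientGroup.eq_one_iff _).mpr (Subgroup.commutator_mem_commutator hx hy)
    have qa : q a * q a' = q a' * q a := by
      rw [← map_mul, ← map_mul, hA a ha a' ha']
    have qb : q b * q b' = q b' * q b := by
      rw [← map_mul, ← map_mul, hB b hb b' hb']
    have q1 := hqc a ha b' hb'
    have q2 := hqc a' ha' b hb
    have hfin : q ⁅a * b, a' * b'⁆ = 1 := by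
      rw [map_commutatorElement, commutatorElement_eq_one_iff_mul_comm, map_mul, map_mul]
      calc q a * q b * (q a' * q b') = q a * (q b * q a') * q b' := by group
        _ = q a * (q a' * q b) * q b' := by rw [q2]
        _ = (q a * q a') * (q b * q b') := by group
        _ = (q a' * q a) * (q b' * q b) := by rw [qa, qb]
        _ = q a' * (q a * q b') * q b := by group
        _ = q a' * (q b' * q a) * q b := by rw [q1]
        _ = q a' * q b' * (q a * q b) := by group
    exact (QuotientGroup.eq_one_iff _).mp hfin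
  -- N is commutative
  have hNcomm : ⁅N, N⁆ = ⊥ := by
    rw [Subgroup.commutator_eq_bot_iff_le_centralizer, hN, Subgroup.commutator_def,
      Subgroup.closure_le]
    rintro _ ⟨a₁, ha₁, b₁, hb₁, rfl⟩
    rw [SetLike.mem_coe, Subgroup.mem_centralizer_iff]
    intro z hz
    -- z in closure of commutators
    change z ∈ Subgroup.closure _ at hz
    induction hz using Subgroup.closure_induction with
    | mem z hz =>
      obtain ⟨a, ha, b, hb, rfl⟩ := hz
      exact (ito_commutators_commute A B hA hB hAB ha hb ha₁ hb₁).symm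
    | one => simp
    | mul x y _ _ hx hy =>
      rw [mul_assoc, hy, ← mul_assoc, hx, mul_assoc]
    | inv x _ hx =>
      calc x⁻¹ * ⁅a₁, b₁⁆ = x⁻¹ * (⁅a₁, b₁⁆ * x) * x⁻¹ := by group
        _ = x⁻¹ * (x * ⁅a₁, b₁⁆) * x⁻¹ := by rw [hx]
        _ = ⁅a₁, b₁⁆ * x⁻¹ := by group
  rw [derivedSeries_succ, derivedSeries_succ, derivedSeries_zero, eq_bot_iff, ← hNcomm]
  exact Subgroup.commutator_mono hGN hGN

end Cfsg.Agent.Lib.Helper1
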