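import Mathlib
import Cfsg.Agent.Lib.Helper1.AbcA
import Cfsg.Agent.Lib.Helper1.ItoMetabelian

set_option autoImplicit false
set_option maxHeartbeats 4000000
set_option maxRecDepth 100000
set_option linter.unusedVariables false
set_option linter.unusedSectionVars false
set_option linter.style.longLine false
set_option linter.unusedSimpArgs false
set_option linter.deprecated false
set_option linter.style.haveILetI false

/-! Product of an abelian group and a class-two group: the derived length bound. -/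

namespace Cfsg.Agent.Lib.Helper1.Abc

variable {G : Type*} [Group G]

open scoped commutatorElement

section
variable (A B : Subgroup G)

/-- `⁅A, W⁆` is normal when `W` is central in `B` and `G = AB`. -/
theorem K_normal
    (hAB : ∀ g : G, ∃ a ∈ A, ∃ b ∈ B, g = a * b)
    (W : Subgroup G) (hWB : W ≤ B) (hWc : ∀ w ∈ W, ∀ b ∈ B, w * b = b * w) :
    (⁅A, W⁆ : Subgroup G).Normal := by
  have hAn : ∀ a ∈ A, ∀ k ∈ (⁅A, W⁆ : Subgroup G), a * k * a⁻¹ ∈ (⁅A, W⁆ : Subgroup G) := by
    intro a ha k hk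
    exact (Subgroup.mem_normalizer_iff.mp (Subgroup.normalizer_commutator_ge_left A W ha) k).mp hk
  have hBn : ∀ b ∈ B, ∀ k ∈ (⁅A, W⁆ : Subgroup G), b * k * b⁻¹ ∈ (⁅A, W⁆ : Subgroup G) := by
    intro b hb k hk
    rw [Subgroup.commutator_def] at hk
    induction hk using Subgroup.closure_induction with
    | mem k hk =>
      obtain ⟨a, ha, w, hw, rfl⟩ := hk
      obtain ⟨a', ha', b', hb', hab⟩ := hAB (b * a * b⁻¹)
      have hw1 : b * w * b⁻¹ = w := by
        rw [← hWc w hw b hb]; group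
      have hw2 : b' * w = w * b' := (hWc w hw b' hb').symm
      have : b * ⁅a, w⁆ * b⁻¹ = ⁅a', w⁆ := by
        rw [conjugate_commutatorElement, hw1, hab]
        simp only [commutatorElement_def]
        calc a' * b' * w * (a' * b')⁻¹ * w⁻¹ = a' * (b' * w) * b'⁻¹ * a'⁻¹ * w⁻¹ := by group
          _ = a' * (w * b') * b'⁻¹ * a'⁻¹ * w⁻¹ := by rw [hw2]
          _ = a' * w * a'⁻¹ * w⁻¹ := by group
      rw [this]
      exact Subgroup.commutator_mem_commutator ha' hw
    | one => simp
    | mul x y _ _ hx hy =>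
      have : b * (x * y) * b⁻¹ = (b * x * b⁻¹) * (b * y * b⁻¹) := by group
      rw [this]
      exact Subgroup.mul_mem _ hx hy
    | inv x _ hx =>
      have : b * x⁻¹ * b⁻¹ = (b * x * b⁻¹)⁻¹ := by group
      rw [this]
      exact Subgroup.inv_mem _ hx
  refine ⟨fun k hk g => ?_⟩
  obtain ⟨a, ha, b, hb, rfl⟩ := hAB g
  have : a * b * k * (a * b)⁻¹ = a * (b * k * b⁻¹) * a⁻¹ := by group
  rw [this]
  exact hAn a ha _ (hBn b hb k hk)

/-- commutators with elements of the normal closure of `W` lie in `⁅A, W⁆`. -/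
theorem comm_mem_K
    (hAB : ∀ g : G, ∃ a ∈ A, ∃ b ∈ B, g = a * b)
    (W : Subgroup G) (hWB : W ≤ B) (hWc : ∀ w ∈ W, ∀ b ∈ B, w * b = b * w) :
    ∀ m ∈ Subgroup.normalClosure (W : Set G), ∀ h : G, ⁅m, h⁆ ∈ (⁅A, W⁆ : Subgroup G) := by
  haveI hKn : (⁅A, W⁆ : Subgroup G).Normal := K_normal A B hAB W hWB hWc
  set K : Subgroup G := ⁅A, W⁆ with hK
  set q := QuotientGroup.mk' K with hq
  set C : Subgroup G := (Subgroup.center (G ⧸ K)).comap q with hC
  haveI hCn : C.Normal := by rw [hC]; infer_instance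
  have hWC : (W : Set G) ⊆ C := by
    intro w hw
    rw [SetLike.mem_coe, hC, Subgroup.mem_comap, Subgroup.mem_center_iff]
    intro x
    obtain ⟨g, rfl⟩ := QuotientGroup.mk'_surjective K x
    obtain ⟨a, ha, b, hb, rfl⟩ := hAB g
    have h1 : q a * q w = q w * q a := by
      rw [← commutatorElement_eq_one_iff_mul_comm, ← map_commutatorElement]
      exact (QuotientGroup.eq_one_iff _).mpr (Subgroup.commutator_mem_commutator ha hw)
    have h2 : q b * q w = q w * q b := by
      rw [← map_mul, ← map_mul, hWc w hw b hb]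
    calc q (a * b) * q w = q a * (q b * q w) := by rw [map_mul, mul_assoc]
      _ = q a * (q w * q b) := by rw [h2]
      _ = (q a * q w) * q b := by rw [mul_assoc]
      _ = (q w * q a) * q b := by rw [h1]
      _ = q w * q (a * b) := by rw [map_mul, mul_assoc]
  have hMC : Subgroup.normalClosure (W : Set G) ≤ C := Subgroup.normalClosure_le_normal hWC
  intro m hm h
  have hm' := hMC hm
  rw [hC, Subgroup.mem_comap, Subgroup.mem_center_iff] at hm'
  have : q ⁅m, h⁆ = 1 := by
    rw [map_commutatorElement, commutatorElement_eq_one_iff_mul_comm]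
    exact (hm' (q h)).symm
  exact (QuotientGroup.eq_one_iff _).mp this

theorem K_le_normalClosure (W : Subgroup G) :
    (⁅A, W⁆ : Subgroup G) ≤ Subgroup.normalClosure (W : Set G) := by
  rw [Subgroup.commutator_le]
  intro a _ w hw
  have hwM : w ∈ Subgroup.normalClosure (W : Set G) := Subgroup.subset_normalClosure hw
  have h1 : a * w * a⁻¹ ∈ Subgroup.normalClosure (W : Set G) :=
    Subgroup.normalClosure_normal.conj_mem w hwM a
  have : ⁅a, w⁆ = (a * w * a⁻¹) * w⁻¹ := by simp only [commutatorElement_def]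
  rw [this]
  exact Subgroup.mul_mem _ h1 (Subgroup.inv_mem _ hwM)

variable [Finite G]

/-- The main chain: each step costs two terms of the derived series. -/
theorem chain [hs : Group.IsSolvable G]
    (hA : ∀ x ∈ A, ∀ y ∈ A, x * y = y * x)
    (hB : ∀ w ∈ (⁅B, B⁆ : Subgroup G), ∀ b ∈ B, w * b = b * w)
    (hAB : ∀ g : G, ∃ a ∈ A, ∃ b ∈ B, g = a * b) (n : ℕ) :
    ∀ (W : Subgroup G) (j : ℕ), W ≤ (⁅B, B⁆ : Subgroup G) →
      (Nat.card ↥((⁅B, B⁆ : Subgroup G) ⊓ Subgroup.normalClosure (W : Set G))).primeFactorsList.length ≤ n →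
      derivedSeries G j ≤ Subgroup.normalClosure (W : Set G) →
      derivedSeries G (j + 2 * n) = ⊥ := by
  have hBB : (⁅B, B⁆ : Subgroup G) ≤ B := Subgroup.commutator_le_self B
  induction n with
  | zero =>
    intro W j hW hcard hD
    have hlist : (Nat.card ↥((⁅B, B⁆ : Subgroup G) ⊓ Subgroup.normalClosure (W : Set G))).primeFactorsList = [] :=
      List.eq_nil_of_length_eq_zero (Nat.le_zero.mp hcard)
    have hc1 : Nat.card ↥((⁅B, B⁆ : Subgroup G) ⊓ Subgroup.normalClosure (W : Set G)) = 1 := by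
      rcases (Nat.primeFactorsList_eq_nil _).mp hlist with h | h
      · exact absurd h (Nat.card_pos).ne'
      · exact h
    have hbot : (⁅B, B⁆ : Subgroup G) ⊓ Subgroup.normalClosure (W : Set G) = ⊥ :=
      Subgroup.card_eq_one.mp hc1
    have hWbot : W ≤ ⊥ := by
      rw [← hbot]
      exact le_inf hW Subgroup.le_normalClosure
    have hMbot : Subgroup.normalClosure (W : Set G) ≤ ⊥ :=
      Subgroup.normalClosure_le_normal (fun w hw => hWbot hw)
    rw [Nat.mul_zero, Nat.add_zero, eq_bot_iff]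
    exact hD.trans hMbot
  | succ n ih =>
    intro W j hW hcard hD
    have hWB : W ≤ B := hW.trans hBB
    have hWc : ∀ w ∈ W, ∀ b ∈ B, w * b = b * w := fun w hw b hb => hB w (hW hw) b hb
    haveI hKn : (⁅A, W⁆ : Subgroup G).Normal := K_normal A B hAB W hWB hWc
    set K : Subgroup G := ⁅A, W⁆ with hK
    set K' : Subgroup G := ⁅K, K⁆ with hK'
    haveI hK'n : K'.Normal := by rw [hK']; infer_instance
    set W₁ : Subgroup G := (⁅B, B⁆ : Subgroup G) ⊓ K' with hW₁
    set M : Subgroup G := Subgroup.normalClosure (W : Set G) with hM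
    have hKM : K ≤ M := K_le_normalClosure A W
    have hK'K : K' ≤ K := Subgroup.commutator_le_self K
    -- (a)
    have hD1 : derivedSeries G (j + 1) ≤ K := by
      rw [derivedSeries_succ, Subgroup.commutator_le]
      intro x hx y hy
      exact comm_mem_K A B hAB W hWB hWc x (hD hx) y
    have hD2 : derivedSeries G (j + 2) ≤ K' := by
      rw [show j + 2 = (j + 1) + 1 from rfl, derivedSeries_succ]
      exact Subgroup.commutator_mono hD1 hD1
    -- (b)
    have hK'le : K' ≤ Subgroup.normalClosure (W₁ : Set G) := by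
      rw [hK', hK, Subgroup.commutator_def A W]
      apply commutator_closure_le
      rintro s ⟨a, ha, z, hz, rfl⟩ t ⟨a₁, ha₁, z₁, hz₁, rfl⟩
      obtain ⟨b₂, hb₂, b₃, hb₃, g, hg⟩ := comm_gen_conj A B hA hAB ha ha₁ (hWB hz) (hWB hz₁)
        (hWc z hz) (hWc z₁ hz₁)
      have hst : ⁅⁅a, z⁆, ⁅a₁, z₁⁆⁆ ∈ K' :=
        Subgroup.commutator_mem_commutator (Subgroup.commutator_mem_commutator ha hz)
          (Subgroup.commutator_mem_commutator ha₁ hz₁)
      have hwK' : ⁅b₃, b₂⁆ ∈ K' := by
        have : ⁅b₃, b₂⁆ = g⁻¹ * ⁅⁅a, z⁆, ⁅a₁, z₁⁆⁆ * g⁻¹⁻¹ := by rw [hg]; group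
        rw [this]
        exact hK'n.conj_mem _ hst _
      have hwW₁ : ⁅b₃, b₂⁆ ∈ W₁ :=
        ⟨Subgroup.commutator_mem_commutator hb₃ hb₂, hwK'⟩
      rw [hg]
      exact Subgroup.normalClosure_normal.conj_mem _ (Subgroup.subset_normalClosure hwW₁) g
    -- (c)
    have hle2 : Subgroup.normalClosure (W₁ : Set G) ≤ K' :=
      Subgroup.normalClosure_le_normal (fun w hw => hw.2)
    have hEqM : Subgroup.normalClosure (W₁ : Set G) = K' := le_antisymm hle2 hK'le
    -- (d)
    have hW₁le : W₁ ≤ (⁅B, B⁆ : Subgroup G) ⊓ M :=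
      le_inf inf_le_left (inf_le_right.trans (hK'K.trans hKM))
    by_cases hEq : W₁ = (⁅B, B⁆ : Subgroup G) ⊓ M
    · -- perfect case
      have hWW₁ : W ≤ W₁ := by
        rw [hEq]
        exact le_inf hW Subgroup.le_normalClosure
      have hMK' : M ≤ K' :=
        Subgroup.normalClosure_le_normal (fun w hw => (hWW₁ hw).2)
      have hKbot : K = ⊥ := eq_bot_of_perfect K (hKM.trans hMK')
      have hMbot : M ≤ ⊥ := by
        rw [← hKbot]
        exact hMK'.trans hK'K
      have hDj : derivedSeries G j = ⊥ := eq_bot_iff.mpr (hD.trans hMbot)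
      rw [eq_bot_iff, ← hDj]
      exact derivedSeries_antitone G (Nat.le_add_right _ _)
    · have hcardW₁ : (Nat.card ↥W₁).primeFactorsList.length ≤ n := by
        have hdvd : Nat.card ↥W₁ ∣ Nat.card ↥((⁅B, B⁆ : Subgroup G) ⊓ M) :=
          Subgroup.card_dvd_of_le hW₁le
        have hne : Nat.card ↥W₁ ≠ Nat.card ↥((⁅B, B⁆ : Subgroup G) ⊓ M) := by
          intro h
          exact hEq (Subgroup.eq_of_le_of_card_ge hW₁le h.symm.le)
        have := length_primeFactorsList_lt (Nat.card_pos).ne' hdvd hne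
        omega
      have hcard' : (Nat.card ↥((⁅B, B⁆ : Subgroup G) ⊓
          Subgroup.normalClosure (W₁ : Set G))).primeFactorsList.length ≤ n := by
        rw [hEqM]
        exact hcardW₁
      have hD2' : derivedSeries G (j + 2) ≤ Subgroup.normalClosure (W₁ : Set G) := by
        rw [hEqM]; exact hD2
      have := ih W₁ (j + 2) inf_le_left hcard' hD2'
      have e : j + 2 * (n + 1) = (j + 2) + 2 * n := by ring
      rw [e]
      exact this

/-- The derived length bound. -/
theorem derived_length_bound [hs : Group.IsSolvable G]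
    (hA : ∀ x ∈ A, ∀ y ∈ A, x * y = y * x)
    (hB : ∀ w ∈ (⁅B, B⁆ : Subgroup G), ∀ b ∈ B, w * b = b * w)
    (hAB : ∀ g : G, ∃ a ∈ A, ∃ b ∈ B, g = a * b) :
    derivedSeries G (2 + 2 * (Nat.card ↥(⁅B, B⁆ : Subgroup G)).primeFactorsList.length) = ⊥ := by
  set M : Subgroup G := Subgroup.normalClosure ((⁅B, B⁆ : Subgroup G) : Set G) with hM
  haveI : M.Normal := Subgroup.normalClosure_normal
  set q := QuotientGroup.mk' M with hq
  have hqs : Function.Surjective q := QuotientGroup.mk'_surjective M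
  -- Itô in the quotient
  have hito : derivedSeries (G ⧸ M) 2 = ⊥ := by
    apply ito_metabelian (A.map q) (B.map q)
    · rintro _ ⟨x, hx, rfl⟩ _ ⟨y, hy, rfl⟩
      rw [← map_mul, ← map_mul, hA x hx y hy]
    · rintro _ ⟨x, hx, rfl⟩ _ ⟨y, hy, rfl⟩
      rw [← commutatorElement_eq_one_iff_mul_comm, ← map_commutatorElement]
      exact (QuotientGroup.eq_one_iff _).mpr
        (Subgroup.le_normalClosure (Subgroup.commutator_mem_commutator hx hy))
    · intro x
      obtain ⟨g, rfl⟩ := hqs x
      obtain ⟨a, ha, b, hb, rfl⟩ := hAB g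
      exact ⟨q a, Subgroup.mem_map_of_mem q ha, q b, Subgroup.mem_map_of_mem q hb, map_mul q a b⟩
  have hD2 : derivedSeries G 2 ≤ M := by
    have h1 := map_derivedSeries_le_derivedSeries q 2
    rw [hito, le_bot_iff] at h1
    intro x hx
    have : q x ∈ (derivedSeries G 2).map q := Subgroup.mem_map_of_mem q hx
    rw [h1, Subgroup.mem_bot] at this
    exact (QuotientGroup.eq_one_iff _).mp this
  have hinf : (⁅B, B⁆ : Subgroup G) ⊓ M = ⁅B, B⁆ := inf_eq_left.mpr Subgroup.le_normalClosure
  have := chain A B hA hB hAB (Nat.card ↥(⁅B, B⁆ : Subgroup G)).primeFactorsList.length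
    (⁅B, B⁆ : Subgroup G) 2 le_rfl (by rw [hinf]) hD2
  exact this

end

end Cfsg.Agent.Lib.Helper1.Abc
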