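import Mathlib
import Cfsg.Prelude.Def_PLocal
import Cfsg.Agent.Lib.Helper1.ThompsonBasic
import Cfsg.Agent.Lib.Helper1.SubnormalSylow

/-! Maximal elementary abelian subgroups are best offenders. -/
set_option autoImplicit false
universe u v
open Cfsg
open scoped commutatorElement

namespace Cfsg.Agent.Lib.Helper1

variable {G : Type u} [Group G] {p : ℕ}

theorem card_mul_card_le_card_sup_mul_card_inf [Finite G] (H K : Subgroup G) :
    Nat.card H * Nat.card K ≤ Nat.card (H ⊔ K : Subgroup G) * Nat.card (H ⊓ K : Subgroup G) := by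
  have h1 : K.relIndex H ≤ K.relIndex (H ⊔ K) :=
    Subgroup.relIndex_le_of_le_right le_sup_left (by
      unfold Subgroup.relIndex; exact Subgroup.index_ne_zero_of_finite)
  have h2 := relIndex_mul_card_inf K H
  have h3 := relIndex_mul_card_inf K (H ⊔ K)
  rw [inf_eq_left.mpr (le_sup_right : K ≤ H ⊔ K)] at h3
  rw [inf_comm] at h2
  calc Nat.card H * Nat.card K = K.relIndex H * Nat.card (H ⊓ K : Subgroup G) * Nat.card K := by rw [h2]
    _ = (K.relIndex H * Nat.card K) * Nat.card (H ⊓ K : Subgroup G) := by ring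
    _ ≤ (K.relIndex (H ⊔ K) * Nat.card K) * Nat.card (H ⊓ K : Subgroup G) :=
        Nat.mul_le_mul_right _ (Nat.mul_le_mul_right _ h1)
    _ = _ := by rw [h3]

theorem isBestOffenderOn_of_mem_max [Finite G] (V : Subgroup G)
    (hV : IsElementaryAbelian p V) (A : Subgroup G) (hA : A ∈ maxElementaryAbelianSubgroups p G) :
    IsBestOffenderOn p V A := by
  have hAA : A ≤ Subgroup.centralizer (A : Set G) := by
    intro x hx
    rw [Subgroup.mem_centralizer_iff]
    intro y hy
    exact isElementaryAbelian_comm hA.1 hy hx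
  refine ⟨?_, ?_, ?_⟩
  · intro B hBA
    have hB : IsElementaryAbelian p B := isElementaryAbelian_mono hA.1 hBA
    have hW : IsElementaryAbelian p (V ⊓ Subgroup.centralizer (B : Set G)) :=
      isElementaryAbelian_mono hV inf_le_left
    have h1 := isElementaryAbelian_sup_of_le_centralizer hB hW inf_le_right
    have h2 := hA.2 _ h1
    have h3 : B ⊓ (V ⊓ Subgroup.centralizer (B : Set G)) ≤ V ⊓ Subgroup.centralizer (A : Set G) := by
      apply le_inf
      · exact inf_le_right.trans inf_le_left
      · exact inf_le_left.trans (hBA.trans hAA)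
    calc Nat.card B * Nat.card ↥(V ⊓ Subgroup.centralizer (B : Set G))
        ≤ Nat.card (B ⊔ (V ⊓ Subgroup.centralizer (B : Set G)) : Subgroup G) *
          Nat.card (B ⊓ (V ⊓ Subgroup.centralizer (B : Set G)) : Subgroup G) :=
          card_mul_card_le_card_sup_mul_card_inf _ _
      _ ≤ Nat.card A * Nat.card ↥(V ⊓ Subgroup.centralizer (A : Set G)) :=
          Nat.mul_le_mul h2 (Subgroup.card_le_of_le h3)
  · have : ⁅A, A⁆ = ⊥ := by
      rw [Subgroup.commutator_eq_bot_iff_le_centralizer]
      exact hAA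
    rw [this]
    exact bot_le
  · intro a ha
    rw [hA.1.2 a ha]
    exact Subgroup.one_mem _

end Cfsg.Agent.Lib.Helper1
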