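import Mathlib
import Cfsg.Prelude.Def_PLocal
import Cfsg.Agent.Lib.Helper1.ThompsonBasic
import Cfsg.Agent.Lib.Helper1.BestOffender

/-! Actions with abelian image on an abelian subgroup: basic commutation facts. -/
set_option autoImplicit false
universe u v
open Cfsg
open scoped commutatorElement Pointwise

namespace Cfsg.Agent.Lib.Helper1
variable {G : Type u} [Group G] {p : ℕ}

theorem centralizer_sup_eq (X Y : Subgroup G) :
    Subgroup.centralizer ((X ⊔ Y : Subgroup G) : Set G) =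
      Subgroup.centralizer (X : Set G) ⊓ Subgroup.centralizer (Y : Set G) := by
  apply le_antisymm
  · exact le_inf (Subgroup.centralizer_le (show X ≤ X ⊔ Y from le_sup_left))
      (Subgroup.centralizer_le (show Y ≤ X ⊔ Y from le_sup_right))
  · rw [Subgroup.le_centralizer_iff]
    apply sup_le
    · rw [Subgroup.le_centralizer_iff]; exact inf_le_left
    · rw [Subgroup.le_centralizer_iff]; exact inf_le_right

theorem conj_mem_of_mem_normalizer {V : Subgroup G} {c v : G}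
    (hc : c ∈ Subgroup.normalizer (V : Set G)) (hv : v ∈ V) : c * v * c⁻¹ ∈ V :=
  (Subgroup.mem_normalizer_iff.mp hc v).mp hv

theorem commutatorElement_mem_of_mem_normalizer {V : Subgroup G} {c v : G}
    (hc : c ∈ Subgroup.normalizer (V : Set G)) (hv : v ∈ V) : ⁅c, v⁆ ∈ V := by
  rw [commutatorElement_def]
  exact V.mul_mem (conj_mem_of_mem_normalizer hc hv) (V.inv_mem hv)

theorem commutatorElement_mul_right_of_comm {V : Subgroup G}
    (hVc : ∀ x ∈ V, ∀ y ∈ V, x * y = y * x) {c v w : G}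
    (hc : c ∈ Subgroup.normalizer (V : Set G)) (hv : v ∈ V) (hw : w ∈ V) :
    ⁅c, v * w⁆ = ⁅c, v⁆ * ⁅c, w⁆ := by
  have h1 : ⁅c, v * w⁆ = ⁅c, v⁆ * (v * ⁅c, w⁆ * v⁻¹) := by
    simp only [commutatorElement_def]; group
  rw [h1, hVc _ hv _ (commutatorElement_mem_of_mem_normalizer hc hw)]
  group

theorem conj_conj_comm_of_commutator_le_centralizer {V A : Subgroup G}
    (hAV : A ≤ Subgroup.normalizer (V : Set G))
    (hab : ⁅A, A⁆ ≤ Subgroup.centralizer (V : Set G)) {a c v : G} (ha : a ∈ A) (hc : c ∈ A)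
    (hv : v ∈ V) : a * (c * v * c⁻¹) * a⁻¹ = c * (a * v * a⁻¹) * c⁻¹ := by
  have h1 : ⁅a, c⁆ ∈ Subgroup.centralizer (V : Set G) := hab (Subgroup.commutator_mem_commutator ha hc)
  have h2 : c * (a * v * a⁻¹) * c⁻¹ ∈ V :=
    conj_mem_of_mem_normalizer (hAV hc) (conj_mem_of_mem_normalizer (hAV ha) hv)
  have h3 := Subgroup.mem_centralizer_iff.mp h1 _ h2
  -- (c a v a⁻¹ c⁻¹) * ⁅a,c⁆ = ⁅a,c⁆ * (c a v a⁻¹ c⁻¹)
  have h4 : a * (c * v * c⁻¹) * a⁻¹ = ⁅a, c⁆ * (c * (a * v * a⁻¹) * c⁻¹) * ⁅a, c⁆⁻¹ := by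
    simp only [commutatorElement_def]; group
  rw [h4, ← h3]
  group

/-- The subgroup generated by the commutators `⁅c, u⁆`, `c ∈ A`, `u ∈ s`. -/
def commSet (A : Subgroup G) (s : Set G) : Subgroup G :=
  Subgroup.closure {x | ∃ c ∈ A, ∃ u ∈ s, x = ⁅c, u⁆}

theorem commSet_empty (A : Subgroup G) : commSet A (∅ : Set G) = ⊥ := by
  unfold commSet
  rw [Subgroup.closure_eq_bot_iff]
  rintro x ⟨c, _, u, hu, _⟩
  exact absurd hu (Set.notMem_empty u)

theorem commSet_union (A : Subgroup G) (s t : Set G) :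
    commSet A (s ∪ t) = commSet A s ⊔ commSet A t := by
  unfold commSet
  rw [← Subgroup.closure_union]
  congr 1
  ext x
  constructor
  · rintro ⟨c, hc, u, hu | hu, rfl⟩
    · exact Or.inl ⟨c, hc, u, hu, rfl⟩
    · exact Or.inr ⟨c, hc, u, hu, rfl⟩
  · rintro (⟨c, hc, u, hu, rfl⟩ | ⟨c, hc, u, hu, rfl⟩)
    · exact ⟨c, hc, u, Or.inl hu, rfl⟩
    · exact ⟨c, hc, u, Or.inr hu, rfl⟩

theorem commSet_le {V A : Subgroup G} (hAV : A ≤ Subgroup.normalizer (V : Set G)) {s : Set G}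
    (hs : s ⊆ V) : commSet A s ≤ V := by
  unfold commSet
  rw [Subgroup.closure_le]
  rintro x ⟨c, hc, u, hu, rfl⟩
  exact commutatorElement_mem_of_mem_normalizer (hAV hc) (hs hu)

theorem commSet_coe (A U : Subgroup G) : commSet A (U : Set G) = ⁅U, A⁆ := by
  rw [Subgroup.commutator_comm]
  unfold commSet
  rw [Subgroup.commutator_def]
  congr 1
  ext x
  constructor
  · rintro ⟨c, hc, u, hu, rfl⟩
    exact ⟨c, hc, u, hu, rfl⟩
  · rintro ⟨c, hc, u, hu, rfl⟩
    exact ⟨c, hc, u, hu, rfl⟩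

end Cfsg.Agent.Lib.Helper1
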