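import Mathlib
import Cfsg.Agent.Lib.Helper1.CoprimeAbelian
set_option autoImplicit false
open Pointwise
open scoped commutatorElement

namespace Cfsg.Agent.Lib.Helper1

universe u

variable {G : Type u} [Group G]

theorem abelian_hall_inf_commutator_inf_center [Finite G] (H : Subgroup G) (hc : IsMulCommutative H)
    (hHall : Nat.Coprime (Nat.card H) H.index) : H ⊓ commutator G ⊓ Subgroup.center G = ⊥ := by
  let _ : CommGroup H := { (inferInstance : Group H) with mul_comm := hc.is_comm.comm }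
  let V : G →* H := MonoidHom.transfer (MonoidHom.id H)
  rw [eq_bot_iff]
  rintro z ⟨⟨hzH, hzc⟩, hzZ⟩
  rw [Subgroup.mem_bot]
  have hkey : ∀ (k : ℕ) (g₀ : G), g₀⁻¹ * z ^ k * g₀ ∈ H → g₀⁻¹ * z ^ k * g₀ = z ^ k := by
    intro k g₀ _
    have hzk : z ^ k ∈ Subgroup.center G := Subgroup.pow_mem _ hzZ k
    rw [Subgroup.mem_center_iff] at hzk
    rw [mul_assoc, ← hzk g₀, inv_mul_cancel_left]
  have h1 : V z = (MonoidHom.id H) ⟨z ^ H.index, MonoidHom.transfer_eq_pow_aux z hkey⟩ :=
    MonoidHom.transfer_eq_pow (MonoidHom.id H) z hkey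
  have h2 : V z = 1 := by
    have : commutator G ≤ V.ker := Abelianization.commutator_subset_ker V
    exact this hzc
  rw [h2] at h1
  have h3 : z ^ H.index = 1 := by
    have := congrArg Subtype.val h1
    simpa using this.symm
  have h4 : z ^ Nat.card H = 1 := by
    have := pow_card_eq_one' (G := H) (x := ⟨z, hzH⟩)
    exact congrArg Subtype.val this
  have h5 : orderOf z = 1 :=
    Nat.eq_one_of_dvd_coprimes hHall (orderOf_dvd_of_pow_eq_one h4) (orderOf_dvd_of_pow_eq_one h3)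
  exact orderOf_eq_one_iff.mp h5

theorem commutator_inf_center_eq_bot_of_abelian_sylows [Finite G]
    (h : ∀ p : ℕ, p.Prime → ∀ P : Sylow p G, IsMulCommutative P) :
    commutator G ⊓ Subgroup.center G = ⊥ := by
  by_contra hne
  have hnt : Nontrivial (commutator G ⊓ Subgroup.center G : Subgroup G) :=
    (Subgroup.nontrivial_iff_ne_bot _).mpr hne
  have hcard : Nat.card (commutator G ⊓ Subgroup.center G : Subgroup G) ≠ 1 := by
    intro h1
    exact hne (Subgroup.card_eq_one.mp h1)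
  obtain ⟨q, hq, hqdvd⟩ := Nat.exists_prime_and_dvd hcard
  have := Fact.mk hq
  obtain ⟨w, hw⟩ := exists_prime_orderOf_dvd_card' q hqdvd
  have hwo : orderOf (w : G) = q := by rw [Subgroup.orderOf_coe]; exact hw
  have hwp : IsPGroup q (Subgroup.zpowers (w : G)) := by
    rw [IsPGroup.iff_card]
    exact ⟨1, by rw [Nat.card_zpowers, hwo, pow_one]⟩
  obtain ⟨Q, hQ⟩ := hwp.exists_le_sylow
  have hwQ : (w : G) ∈ (Q : Subgroup G) := hQ (Subgroup.mem_zpowers _)
  have hmem : (w : G) ∈ (Q : Subgroup G) ⊓ commutator G ⊓ Subgroup.center G :=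
    ⟨⟨hwQ, w.2.1⟩, w.2.2⟩
  rw [abelian_hall_inf_commutator_inf_center (Q : Subgroup G) (h q hq Q) Q.card_coprime_index,
    Subgroup.mem_bot] at hmem
  rw [hmem, orderOf_one] at hwo
  exact hq.one_lt.ne hwo

theorem abelian_normal_hall_decomposition [Finite G] (A : Subgroup G) [hAn : A.Normal]
    (hc : IsMulCommutative A) (hHall : Nat.Coprime (Nat.card A) A.index) :
    ⁅A, (⊤ : Subgroup G)⁆ = commutator G ⊓ A ∧
    (commutator G ⊓ A) ⊓ (Subgroup.center G ⊓ A) = ⊥ ∧
    (commutator G ⊓ A) ⊔ (Subgroup.center G ⊓ A) = A := by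
  obtain ⟨K, hK⟩ := Subgroup.exists_right_complement'_of_coprime hHall
  have hKn : K ≤ Subgroup.normalizer (A : Set G) := by
    rw [Subgroup.normalizer_eq_top_iff.mpr hAn]; exact le_top
  have hcopK : (Nat.card K).Coprime (Nat.card A) := by
    rw [← hK.symm.index_eq_card]; exact hHall.symm
  obtain ⟨h1, h2⟩ := coprime_abelian_decomposition K A hKn hcopK
  have hS88 := abelian_hall_inf_commutator_inf_center A hc hHall
  have hD_le : ⁅A, (⊤ : Subgroup G)⁆ ≤ commutator G ⊓ A := by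
    refine le_inf ?_ (Subgroup.commutator_le_left A ⊤)
    rw [commutator_def]
    exact Subgroup.commutator_mono le_top le_rfl
  have hAK : ⁅A, K⁆ ≤ ⁅A, (⊤ : Subgroup G)⁆ := Subgroup.commutator_mono le_rfl le_top
  have hCK : A ⊓ Subgroup.centralizer (K : Set G) ≤ Subgroup.center G ⊓ A := by
    intro x hx
    obtain ⟨hxA, hxK⟩ := Subgroup.mem_inf.mp hx
    refine Subgroup.mem_inf.mpr ⟨?_, hxA⟩
    rw [Subgroup.mem_center_iff]
    intro g
    have hg : g ∈ A ⊔ K := by rw [hK.sup_eq_top]; trivial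
    have hle : A ⊔ K ≤ Subgroup.centralizer {x} := by
      refine sup_le ?_ ?_
      · intro a ha
        rw [Subgroup.mem_centralizer_singleton_iff]
        exact congrArg Subtype.val (hc.is_comm.comm ⟨a, ha⟩ ⟨x, hxA⟩)
      · intro k hk
        rw [Subgroup.mem_centralizer_singleton_iff]
        exact (hxK k hk)
    have := hle hg
    rw [Subgroup.mem_centralizer_singleton_iff] at this
    exact this
  have h23 : (commutator G ⊓ A) ⊓ (Subgroup.center G ⊓ A) = ⊥ := by
    rw [eq_bot_iff, ← hS88]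
    intro x hx
    obtain ⟨hx12, hx34⟩ := Subgroup.mem_inf.mp hx
    obtain ⟨hx1, hx2⟩ := Subgroup.mem_inf.mp hx12
    obtain ⟨hx3, _⟩ := Subgroup.mem_inf.mp hx34
    exact Subgroup.mem_inf.mpr ⟨Subgroup.mem_inf.mpr ⟨hx2, hx1⟩, hx3⟩
  have hsup : (Subgroup.center G ⊓ A) ⊔ ⁅A, (⊤ : Subgroup G)⁆ = A := by
    apply le_antisymm
    · exact sup_le inf_le_right (Subgroup.commutator_le_left A ⊤)
    · conv_lhs => rw [← h2]
      exact sup_le_sup hCK hAK
  refine ⟨?_, h23, ?_⟩
  · apply le_antisymm hD_le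
    intro x hx0
    obtain ⟨hxc, hxA⟩ := Subgroup.mem_inf.mp hx0
    have hx : x ∈ (Subgroup.center G ⊓ A) ⊔ ⁅A, (⊤ : Subgroup G)⁆ := by rw [hsup]; exact hxA
    rw [Subgroup.mem_sup_of_normal_right] at hx
    obtain ⟨c, hcz, d, hd, rfl⟩ := hx
    have hcc : c ∈ commutator G := by
      have : c = c * d * d⁻¹ := by group
      rw [this]
      exact Subgroup.mul_mem _ hxc (Subgroup.inv_mem _ (Subgroup.mem_inf.mp (hD_le hd)).1)
    have : c ∈ A ⊓ commutator G ⊓ Subgroup.center G :=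
      Subgroup.mem_inf.mpr ⟨Subgroup.mem_inf.mpr ⟨(Subgroup.mem_inf.mp hcz).2, hcc⟩, (Subgroup.mem_inf.mp hcz).1⟩
    rw [hS88, Subgroup.mem_bot] at this
    rw [this, one_mul]; exact hd
  · apply le_antisymm
    · exact sup_le inf_le_right inf_le_right
    · conv_lhs => rw [← hsup]
      rw [sup_comm]
      exact sup_le_sup hD_le le_rfl

end Cfsg.Agent.Lib.Helper1
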