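import Mathlib
import Cfsg.Agent.Lib.Helper2.CoprimeGen
set_option autoImplicit false
universe u v
open scoped Pointwise
namespace Cfsg.Agent.Lib.Helper1
variable {G : Type u} [Group G]

theorem coprime_generated_by_centralizers [Finite G] (A K : Subgroup G)
    [hAc : IsMulCommutative A] (hA : ¬ IsCyclic A) (hAK : A ≤ Subgroup.normalizer (K : Set G))
    (hcop : (Nat.card A).Coprime (Nat.card K)) :
    (⨆ a ∈ {a : G | a ∈ A ∧ a ≠ 1}, K ⊓ Subgroup.centralizer {a}) = K := by
  apply le_antisymm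
  · apply iSup₂_le
    intro a _
    exact inf_le_left
  · have hnc : ¬ ∃ a ∈ A, (⊥ : Subgroup G) ⊔ Subgroup.zpowers a = A := by
      rintro ⟨a, haA, ha⟩
      apply hA
      rw [bot_sup_eq] at ha
      rw [← ha]
      infer_instance
    obtain ⟨r, hr, x, hxA, y, hyA, hxr, hyr, hx1, hxy⟩ :=
      Cfsg.Agent.Lib.Helper2.exists_noncyclic_pair A ⊥ bot_le hnc
    have : Fact r.Prime := ⟨hr⟩
    rw [Subgroup.mem_bot] at hxr hyr hx1
    have hordx : orderOf x = r := orderOf_eq_prime hxr hx1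
    have hrA : r ∣ Nat.card A := by
      have h1 : orderOf (⟨x, hxA⟩ : A) = r := by
        rw [← hordx]; exact Subgroup.orderOf_mk x hxA
      rw [← h1]; exact orderOf_dvd_natCard _
    have hrK : (Nat.card K).Coprime r := (Nat.Coprime.coprime_dvd_left hrA hcop).symm
    apply Cfsg.Agent.Lib.Helper2.gen_general A K hAK hcop hrK x y hxA hyA
    · rw [hxr]; exact Subgroup.one_mem _
    · rw [hyr]; exact Subgroup.one_mem _
    · exact le_iSup₂ (f := fun a (_ : a ∈ {a : G | a ∈ A ∧ a ≠ 1}) => K ⊓ Subgroup.centralizer {a}) x ⟨hxA, hx1⟩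
    · intro j
      have hm : x ^ j * y ∈ {a : G | a ∈ A ∧ a ≠ 1} := by
        refine ⟨A.mul_mem (A.pow_mem hxA j) hyA, ?_⟩
        have := hxy j
        rwa [Subgroup.mem_bot] at this
      exact le_iSup₂ (f := fun a (_ : a ∈ {a : G | a ∈ A ∧ a ≠ 1}) => K ⊓ Subgroup.centralizer {a}) (x ^ j * y) hm

end Cfsg.Agent.Lib.Helper1
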