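import Mathlib
import Cfsg.Prelude.Def_Solvable
import Cfsg.Agent.Lib.Helper6.GenChar
import Cfsg.Agent.Lib.Helper6.GenCharOps
import Cfsg.Agent.Lib.Helper6.SecondOrth
import Cfsg.Agent.Lib.Helper6.IndFunTI
import Cfsg.Agent.Lib.Helper6.Norm
import Cfsg.Agent.S0146
import Cfsg.Agent.Lib.Helper1.FrobeniusCount
set_option autoImplicit false
universe u v
open scoped Pointwise ComplexConjugate
open Cfsg.Agent.Lib.Helper6
namespace Cfsg.Agent.Lib.Helper1
variable {G : Type u} [Group G]

theorem indFun_frobenius_restrict [Fintype G] {H : Subgroup G} (hH : Cfsg.IsFrobeniusComplement H)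
    (α : H → ℂ) (hα : Cfsg.IsClassFunction H α) (hα1 : α 1 = 0) (h : H) :
    Cfsg.indFun H α h = α h := by
  by_cases h1 : h = 1
  · subst h1
    rw [Subgroup.coe_one, indFun_one, hα1, mul_zero]
  · apply indFun_eq_of_TI H (H : Set G) _ α hα _ h h.2 h1
    · intro g hg t ht hgt
      by_contra ht1
      have := frobenius_mem_of_conj_mem hH (g := g⁻¹) ht ht1 (by simpa using hgt)
      exact hg (by simpa using H.inv_mem this)
    · intro x hx
      exact absurd x.2 hx

theorem indFun_eq_zero_of_not_conj [Fintype G] (H : Subgroup G) (α : H → ℂ) (x : G)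
    (hx : ∀ g : G, x ∉ MulAut.conj g • H) : Cfsg.indFun H α x = 0 := by
  unfold Cfsg.indFun
  have : ∀ y : G, Cfsg.extendByZero H α (y⁻¹ * x * y) = 0 := by
    intro y
    apply extendByZero_of_not_mem
    intro hmem
    exact hx y (mem_conj_smul_iff'.mpr hmem)
  simp [this]

theorem isIrrCharacter_of_genChar_norm_one [Fintype G] {θ : G → ℂ}
    (hθ : Cfsg.IsGeneralizedCharacter G θ) (hnorm : Cfsg.classInner θ θ = 1)
    (n : ℕ) (hn : 0 < n) (h1 : θ 1 = n) : Cfsg.IsIrrCharacter G θ := by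
  classical
  have : Fintype (Cfsg.IrrCharacter G) := Fintype.ofFinite _
  obtain ⟨c, hc, _⟩ := IsGeneralizedCharacter.exists_int_coeff hθ
  have hsq : ∑ β, c β * c β = 1 := by
    have h2 := hnorm
    rw [hc, classInner_sum_int] at h2
    exact_mod_cast h2
  have hne : ∑ β, c β * c β ≠ 0 := by rw [hsq]; exact one_ne_zero
  obtain ⟨β₀, _, hβ₀⟩ := Finset.exists_ne_zero_of_sum_ne_zero hne
  have hpos0 : 0 < c β₀ * c β₀ := lt_of_le_of_ne (mul_self_nonneg _) (Ne.symm hβ₀)
  have hrest : ∀ β, β ≠ β₀ → c β = 0 := by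
    intro β hβ
    by_contra hcβ
    have h2 : c β₀ * c β₀ + c β * c β ≤ ∑ β, c β * c β := by
      have := Finset.sum_le_sum_of_subset_of_nonneg (s := {β₀, β}) (t := Finset.univ)
        (f := fun β => c β * c β) (Finset.subset_univ _) (fun i _ _ => mul_self_nonneg (c i))
      rw [Finset.sum_pair hβ.symm] at this
      exact this
    have h3 : 0 < c β * c β := lt_of_le_of_ne (mul_self_nonneg _) (Ne.symm (mul_self_ne_zero.mpr hcβ))
    linarith
  have hθ2 : θ = (c β₀ : ℂ) • (β₀ : G → ℂ) := by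
    rw [hc]
    rw [Finset.sum_eq_single β₀]
    · intro β _ hβ; rw [hrest β hβ, Int.cast_zero, zero_smul]
    · intro h; exact absurd (Finset.mem_univ _) h
  have hsq1 : c β₀ * c β₀ = 1 := by
    rw [Finset.sum_eq_single β₀] at hsq
    · exact hsq
    · intro β _ hβ; rw [hrest β hβ, mul_zero]
    · intro h; exact absurd (Finset.mem_univ _) h
  obtain ⟨m, hm⟩ := IsCharacter.apply_one_eq_natCast (IsIrrCharacter.isCharacter β₀.2)
  rcases mul_self_eq_one_iff.mp hsq1 with h | h
  · rw [hθ2, h, Int.cast_one, one_smul]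
    exact β₀.2
  · exfalso
    have h3 := congrFun hθ2 1
    rw [h1, Pi.smul_apply, hm, h, smul_eq_mul] at h3
    have h4 : (n : ℤ) = -1 * (m : ℤ) := by exact_mod_cast h3
    have : (0 : ℤ) < n := by exact_mod_cast hn
    have : (0 : ℤ) ≤ m := by positivity
    linarith

noncomputable def frobExt [Fintype G] (H : Subgroup G) (θ : H → ℂ) : G → ℂ :=
  Cfsg.indFun H (θ - fun _ => θ 1) + fun _ => θ 1

theorem frobExt_restrict [Fintype G] {H : Subgroup G} (hH : Cfsg.IsFrobeniusComplement H)
    (θ : H → ℂ) (hθ : Cfsg.IsClassFunction H θ) (h : H) : frobExt H θ h = θ h := by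
  unfold frobExt
  rw [Pi.add_apply, indFun_frobenius_restrict hH _ _ _ h]
  · simp
  · exact isClassFunction_sub hθ (fun _ _ => rfl)
  · simp

theorem frobExt_of_mem_kernel [Fintype G] (H : Subgroup G) (θ : H → ℂ) (x : G)
    (hx : x ∈ Cfsg.frobeniusKernel H) : frobExt H θ x = θ 1 := by
  unfold frobExt
  rw [Pi.add_apply]
  rcases hx with rfl | hx
  · rw [indFun_one]; simp
  · rw [indFun_eq_zero_of_not_conj H _ x hx, zero_add]


theorem frobExt_isIrr [Fintype G] {H : Subgroup G} (hH : Cfsg.IsFrobeniusComplement H)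
    (θ : H → ℂ) (hθ : Cfsg.IsIrrCharacter H θ) : Cfsg.IsIrrCharacter G (frobExt H θ) := by
  have : Fintype H := Fintype.ofFinite H
  have hθc := IsIrrCharacter.isCharacter hθ
  obtain ⟨n, hn⟩ := IsCharacter.apply_one_eq_natCast hθc
  have hn0 : 0 < n := by
    apply Nat.pos_of_ne_zero
    intro h0
    apply IsIrrCharacter.apply_one_ne_zero hθ
    rw [hn, h0, Nat.cast_zero]
  have honeH : Cfsg.IsIrrCharacter H (fun _ => (1:ℂ)) := isIrrCharacter_one
  have honeG : Cfsg.IsIrrCharacter G (fun _ => (1:ℂ)) := isIrrCharacter_one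
  have hcH : (fun _ : H => θ 1) = (n : ℂ) • (fun _ : H => (1:ℂ)) := by
    funext x; simp [hn]
  have hcG : (fun _ : G => θ 1) = (n : ℂ) • (fun _ : G => (1:ℂ)) := by
    funext x; simp [hn]
  have hE : frobExt H θ = Cfsg.indFun H (θ - (n : ℂ) • (fun _ : H => (1:ℂ)))
      + (n : ℂ) • (fun _ : G => (1:ℂ)) := by
    unfold frobExt
    rw [hcH, hcG]
  have hgen : Cfsg.IsGeneralizedCharacter G (frobExt H θ) := by
    rw [hE]
    apply IsGeneralizedCharacter.add
    · apply IsGeneralizedCharacter.indFun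
      exact IsGeneralizedCharacter.sub (IsCharacter.isGeneralizedCharacter hθc)
        (IsGeneralizedCharacter.natCast_smul
          (IsCharacter.isGeneralizedCharacter (IsIrrCharacter.isCharacter honeH)) n)
    · exact IsGeneralizedCharacter.natCast_smul
          (IsCharacter.isGeneralizedCharacter (IsIrrCharacter.isCharacter honeG)) n
  have hcf := IsGeneralizedCharacter.isClassFunction hgen
  have hres : (fun h : H => frobExt H θ h) = θ := by
    funext h
    exact frobExt_restrict hH θ (IsIrrCharacter.isClassFunction hθ) h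
  apply isIrrCharacter_of_genChar_norm_one hgen _ n hn0
  · rw [frobExt_of_mem_kernel H θ 1 (Or.inl rfl), hn]
  · -- norm computation
    obtain ⟨δ, hδ1, hδ2, hδ3⟩ : ∃ δ : ℂ, Cfsg.classInner θ (fun _ : H => (1:ℂ)) = δ ∧
        Cfsg.classInner (fun _ : H => (1:ℂ)) θ = δ ∧ conj δ = δ := by
      rw [classInner_isIrrCharacter hθ honeH, classInner_isIrrCharacter honeH hθ]
      by_cases h : θ = fun _ => (1:ℂ)
      · refine ⟨1, ?_, ?_, ?_⟩
        · rw [if_pos h]
        · rw [if_pos h.symm]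
        · simp
      · refine ⟨0, ?_, ?_, ?_⟩
        · rw [if_neg h]
        · rw [if_neg (fun h' => h h'.symm)]
        · simp
    have h11H : Cfsg.classInner (fun _ : H => (1:ℂ)) (fun _ : H => (1:ℂ)) = 1 := by
      rw [classInner_isIrrCharacter honeH honeH, if_pos rfl]
    have h11G : Cfsg.classInner (fun _ : G => (1:ℂ)) (fun _ : G => (1:ℂ)) = 1 := by
      rw [classInner_isIrrCharacter honeG honeG, if_pos rfl]
    have hθθ : Cfsg.classInner θ θ = 1 := by
      rw [classInner_isIrrCharacter hθ hθ, if_pos rfl]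
    -- ⟨A, E⟩
    have hAE : Cfsg.classInner (Cfsg.indFun H (θ - (n : ℂ) • (fun _ : H => (1:ℂ)))) (frobExt H θ)
        = 1 - n * δ := by
      rw [Cfsg.Agent.S0146.result H _ _ hcf, hres, classInner_sub_left, classInner_smul_left,
        hθθ, hδ2]
    -- ⟨E, 1⟩
    have hE1 : Cfsg.classInner (frobExt H θ) (fun _ : G => (1:ℂ)) = δ := by
      rw [hE, classInner_add_left, classInner_smul_left, h11G,
        Cfsg.Agent.S0146.result H _ _ (IsIrrCharacter.isClassFunction honeG),
        classInner_sub_left, classInner_smul_left, hδ1, h11H]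
      ring
    have h1E : Cfsg.classInner (fun _ : G => (1:ℂ)) (frobExt H θ) = δ := by
      rw [← classInner_conj_symm, hE1, hδ3]
    conv_lhs => rw [hE]
    rw [classInner_add_left, classInner_smul_left, ← hE, hAE, h1E]
    ring


theorem exists_kernel_of_isCharacter [Finite G] {χ : G → ℂ} (hχ : Cfsg.IsCharacter G χ) :
    ∃ K : Subgroup G, K.Normal ∧ ∀ x : G, x ∈ K ↔ χ x = χ 1 := by
  obtain ⟨n, ρ, rfl⟩ := hχ
  refine ⟨MonoidHom.ker (ρ : G →* _), MonoidHom.normal_ker _, ?_⟩
  intro x
  rw [MonoidHom.mem_ker, Representation.char_one, character_eq_finrank_iff]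
  rfl

theorem frobenius_theorem [Finite G] (H : Subgroup G) (hH : Cfsg.IsFrobeniusComplement H) :
    ∃ N : Subgroup G, (N : Set G) = Cfsg.frobeniusKernel H ∧ N.Normal ∧
      Subgroup.IsComplement' N H := by
  classical
  have : Fintype G := Fintype.ofFinite G
  have : Fintype H := Fintype.ofFinite H
  have hker : ∀ θ : Cfsg.IrrCharacter H, ∃ K : Subgroup G, K.Normal ∧
      ∀ x : G, x ∈ K ↔ frobExt H (θ : H → ℂ) x = frobExt H (θ : H → ℂ) 1 := fun θ =>
    exists_kernel_of_isCharacter (IsIrrCharacter.isCharacter (frobExt_isIrr hH θ θ.2))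
  choose K hKn hKmem using hker
  obtain ⟨N, hN⟩ : ∃ N : Subgroup G, N = ⨅ θ, K θ := ⟨_, rfl⟩
  have hNn : N.Normal := by
    rw [hN]
    exact Subgroup.normal_iInf_normal hKn
  have hmemN : ∀ x : G, x ∈ N ↔ ∀ θ : Cfsg.IrrCharacter H,
      frobExt H (θ : H → ℂ) x = frobExt H (θ : H → ℂ) 1 := by
    intro x
    rw [hN, Subgroup.mem_iInf]
    exact forall_congr' (fun θ => hKmem θ x)
  have hFKN : Cfsg.frobeniusKernel H ⊆ (N : Set G) := by
    intro x hx
    rw [SetLike.mem_coe, hmemN]
    intro θ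
    rw [frobExt_of_mem_kernel H _ x hx, frobExt_of_mem_kernel H _ 1 (Or.inl rfl)]
  have hdisj : N ⊓ H = ⊥ := by
    rw [eq_bot_iff]
    intro h hh
    obtain ⟨hhN, hhH⟩ := Subgroup.mem_inf.mp hh
    rw [Subgroup.mem_bot]
    have hconj : IsConj (⟨h, hhH⟩ : H) 1 := by
      rw [isConj_iff_forall_irr]
      intro θ
      have h1 := (hmemN h).mp hhN θ
      have h2 := frobExt_restrict hH (θ : H → ℂ) (IsIrrCharacter.isClassFunction θ.2) ⟨h, hhH⟩
      have h3 := frobExt_restrict hH (θ : H → ℂ) (IsIrrCharacter.isClassFunction θ.2) 1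
      rw [← h2, ← h3]
      exact h1
    have := isConj_one_left.mp hconj
    exact congrArg Subtype.val this
  have hNFK : (N : Set G) ⊆ Cfsg.frobeniusKernel H := by
    intro x hx
    by_cases hx1 : x = 1
    · exact Or.inl hx1
    · right
      intro g hg
      apply hx1
      have h1 : g⁻¹ * x * g ∈ H := mem_conj_smul_iff'.mp hg
      have h2 : g⁻¹ * x * g ∈ N := by
        have := hNn.conj_mem x hx g⁻¹
        simpa using this
      have h3 : g⁻¹ * x * g ∈ N ⊓ H := Subgroup.mem_inf.mpr ⟨h2, h1⟩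
      rw [hdisj, Subgroup.mem_bot] at h3
      have : x = g * (g⁻¹ * x * g) * g⁻¹ := by group
      rw [this, h3]; group
  have hset : (N : Set G) = Cfsg.frobeniusKernel H := Set.Subset.antisymm hNFK hFKN
  refine ⟨N, hset, hNn, ?_⟩
  apply Subgroup.isComplement'_of_card_mul_and_disjoint
  · have h1 : Nat.card N = H.index := by
      rw [← card_frobeniusKernel hH, ← hset]
      rfl
    rw [h1, mul_comm]
    exact H.card_mul_index
  · exact disjoint_iff.mpr hdisj

end Cfsg.Agent.Lib.Helper1
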