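import Mathlib
import Cfsg.Agent.Lib.Helper1.FrobeniusCount
import Cfsg.Agent.Lib.Helper1.FrobeniusTheorem
import Cfsg.Agent.Lib.Helper1.CoprimeSylow
set_option autoImplicit false
universe u v
open scoped Pointwise
namespace Cfsg.Agent.Lib.Helper1

section abstract
variable {F : Type u} [Group F] {V : Type v} [CommGroup V]
  [MulDistribMulAction F V]

/-- The norm product over a subgroup is fixed by that subgroup. -/
theorem smul_prod_subgroup [Fintype F] (B : Subgroup F) [Fintype B] (v : V) (b₀ : B) :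
    (b₀ : F) • (∏ b : B, (b : F) • v) = ∏ b : B, (b : F) • v := by
  rw [Finset.smul_prod']
  simp_rw [← mul_smul]
  exact Fintype.prod_equiv (Equiv.mulLeft b₀) _ _ (fun b => rfl)

theorem prod_conj_smul [Fintype F] (B : Subgroup F) [Fintype B] (v : V) (g : F) :
    ∏ b : B, (g * (b : F) * g⁻¹) • v = g • ∏ b : B, (b : F) • (g⁻¹ • v) := by
  rw [Finset.smul_prod']
  apply Finset.prod_congr rfl
  intro b _
  rw [← mul_smul, ← mul_smul]

theorem frobenius_action_fixed_point_aux [Finite F] [Finite V] (H N : Subgroup F) (hH : Cfsg.IsFrobeniusComplement H)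
    (hN : (N : Set F) = Cfsg.frobeniusKernel H)
    (hcop : (Nat.card V).Coprime (Nat.card N))
    (hfixN : ∀ v : V, (∀ n ∈ N, n • v = v) → v = 1)
    (hfixH : ∀ v : V, (∀ h ∈ H, h • v = v) → v = 1) (v : V) : v = 1 := by
  classical
  have : Fintype F := Fintype.ofFinite F
  have normH : ∀ w : V, ∏ h : H, (h : F) • w = 1 := by
    intro w
    apply hfixH
    intro h hh
    exact smul_prod_subgroup H w ⟨h, hh⟩
  have normN : ∀ w : V, ∏ n : N, (n : F) • w = 1 := by
    intro w
    apply hfixN
    intro n hn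
    exact smul_prod_subgroup N w ⟨n, hn⟩
  have normF : ∏ a : F, a • v = 1 := by
    apply hfixN
    intro n hn
    rw [Finset.smul_prod']
    simp_rw [← mul_smul]
    exact Fintype.prod_equiv (Equiv.mulLeft n) _ _ (fun b => rfl)
  have hsplit := Fintype.prod_subtype_mul_prod_subtype (fun x : F => x ∈ N) (fun a => a • v)
  rw [normF] at hsplit
  have h1 : ∏ i : {x : F // x ∈ N}, (i : F) • v = 1 := normN v
  rw [h1, one_mul] at hsplit
  -- the cover part
  have hcov : ∀ x : F, x ∉ N ↔ x ∈ frobeniusCover H := by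
    intro x
    rw [frobeniusCover_eq_compl, ← hN]
    rfl
  let e1 : {x : F // x ∉ N} ≃ frobeniusCover H :=
    Equiv.subtypeEquivRight hcov
  have h2 : ∏ i : {x : F // x ∉ N}, (i : F) • v
      = ∏ qh : (F ⧸ H) × {h : H // h ≠ 1}, (qh.1.out * ((qh.2 : H) : F) * qh.1.out⁻¹) • v := by
    symm
    refine Fintype.prod_equiv ((frobeniusCoverEquiv hH).trans e1.symm) _ _ ?_
    intro qh
    rfl
  rw [h2, Fintype.prod_prod_type] at hsplit
  have h3 : ∀ q : F ⧸ H, ∏ h : {h : H // h ≠ 1}, (q.out * ((h : H) : F) * q.out⁻¹) • v = v⁻¹ := by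
    intro q
    have h4 := Fintype.prod_subtype_mul_prod_subtype (fun h : H => h ≠ 1)
      (fun h => (q.out * (h : F) * q.out⁻¹) • v)
    have h5 : ∏ h : H, (q.out * (h : F) * q.out⁻¹) • v = 1 := by
      rw [prod_conj_smul, normH, smul_one]
    rw [h5] at h4
    have h6 : ∏ i : {h : H // ¬ h ≠ 1}, (q.out * ((i : H) : F) * q.out⁻¹) • v = v := by
      let _ : Unique {h : H // ¬ h ≠ 1} :=
        { default := ⟨1, by simp⟩
          uniq := fun x => Subtype.ext (by have := x.2; push Not at this; exact this) }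
      rw [Fintype.prod_unique]
      show (q.out * ((1 : H) : F) * q.out⁻¹) • v = v
      simp
    rw [h6] at h4
    exact eq_inv_of_mul_eq_one_left h4
  simp_rw [h3] at hsplit
  rw [Finset.prod_const, Finset.card_univ, ← Nat.card_eq_fintype_card] at hsplit
  have hidx : Nat.card (F ⧸ H) = Nat.card N := by
    have := card_frobeniusKernel hH
    rw [← hN] at this
    rw [← Subgroup.index_eq_card]
    exact this.symm
  have h7 : v ^ Nat.card N = 1 := by
    rw [hidx, inv_pow, inv_eq_one] at hsplit
    exact hsplit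
  have h8 : v ^ Nat.card V = 1 := pow_card_eq_one'
  have h9 : v ^ (Nat.gcd (Nat.card V) (Nat.card N)) = 1 := by
    rw [← orderOf_dvd_iff_pow_eq_one] at h7 h8 ⊢
    exact Nat.dvd_gcd h8 h7
  rw [hcop, pow_one] at h9
  exact h9

end abstract


variable {G : Type u} [Group G]

theorem frobenius_action_fixed_point [Finite G] (V F : Subgroup G) (hVab : IsMulCommutative V)
    (hV1 : V ≠ ⊥) (hFV : F ≤ Subgroup.normalizer (V : Set G)) (H : Subgroup ↥F)
    (hH : Cfsg.IsFrobeniusComplement H)
    (hcop : (Nat.card V).Coprime (Nat.card (Cfsg.frobeniusKernel H)))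
    (hCK : V ⊓ Subgroup.centralizer (Subtype.val '' Cfsg.frobeniusKernel H : Set G) = ⊥) :
    V ⊓ Subgroup.centralizer ((H.map F.subtype : Subgroup G) : Set G) ≠ ⊥ := by
  intro hCH
  obtain ⟨N, hN, hNn, -⟩ := frobenius_theorem H hH
  let _ : CommGroup V := { (inferInstance : Group V) with mul_comm := fun a b => mul_comm' a b }
  let _ : MulDistribMulAction F V := conjActOfLeNormalizer F V hFV
  have hsmul : ∀ (a : F) (v : V), ((a • v : V) : G) = (a : G) * v * (a : G)⁻¹ := fun a v => rfl
  have hcop' : (Nat.card V).Coprime (Nat.card N) := by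
    have : Nat.card N = Nat.card (Cfsg.frobeniusKernel H) := by
      rw [← hN]; rfl
    rw [this]; exact hcop
  have hfixN : ∀ v : V, (∀ n ∈ N, n • v = v) → v = 1 := by
    intro v hv
    have hmem : (v : G) ∈ V ⊓ Subgroup.centralizer (Subtype.val '' Cfsg.frobeniusKernel H : Set G) := by
      refine Subgroup.mem_inf.mpr ⟨v.2, ?_⟩
      rw [Subgroup.mem_centralizer_iff]
      rintro y ⟨n, hn, rfl⟩
      have hnN : n ∈ N := by
        rw [← SetLike.mem_coe, hN]; exact hn
      have h1 := congrArg Subtype.val (hv n hnN)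
      rw [hsmul] at h1
      calc (n : G) * v = (n : G) * v * (n : G)⁻¹ * n := by group
        _ = v * n := by rw [h1]
    rw [hCK, Subgroup.mem_bot] at hmem
    exact Subtype.ext hmem
  have hfixH : ∀ v : V, (∀ h ∈ H, h • v = v) → v = 1 := by
    intro v hv
    have hmem : (v : G) ∈ V ⊓ Subgroup.centralizer ((H.map F.subtype : Subgroup G) : Set G) := by
      refine Subgroup.mem_inf.mpr ⟨v.2, ?_⟩
      rw [Subgroup.mem_centralizer_iff]
      rintro y ⟨h, hh, rfl⟩
      have h1 := congrArg Subtype.val (hv h hh)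
      rw [hsmul] at h1
      show (h : G) * v = v * (h : G)
      calc (h : G) * v = (h : G) * v * (h : G)⁻¹ * h := by group
        _ = v * h := by rw [h1]
    rw [hCH, Subgroup.mem_bot] at hmem
    exact Subtype.ext hmem
  apply hV1
  rw [eq_bot_iff]
  intro x hx
  have := frobenius_action_fixed_point_aux H N hH hN hcop' hfixN hfixH ⟨x, hx⟩
  rw [Subgroup.mem_bot]
  exact congrArg Subtype.val this

end Cfsg.Agent.Lib.Helper1
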