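import Mathlib
import Cfsg.Agent.Lib.Helper1.FrobeniusAction
import Cfsg.Agent.Lib.Helper1.CoprimeGenCentralizers
import Cfsg.Agent.Lib.Helper1.FrattiniHall
set_option autoImplicit false
universe u v
open scoped Pointwise
namespace Cfsg.Agent.Lib.Helper1
variable {G : Type u} [Group G]

/-- A fixed-point-free action is coprime. -/
theorem coprime_of_fpf [Finite G] (A V : Subgroup G)
    (hAV : A ≤ Subgroup.normalizer (V : Set G))
    (hfpf : ∀ a ∈ A, a ≠ 1 → V ⊓ Subgroup.centralizer {a} = ⊥) :
    (Nat.card A).Coprime (Nat.card V) := by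
  rw [Nat.coprime_iff_gcd_eq_one]
  by_contra hne
  obtain ⟨r, hr, hrd⟩ := Nat.exists_prime_and_dvd hne
  have : Fact r.Prime := ⟨hr⟩
  have hrA : r ∣ Nat.card A := hrd.trans (Nat.gcd_dvd_left _ _)
  have hrV : r ∣ Nat.card V := hrd.trans (Nat.gcd_dvd_right _ _)
  obtain ⟨a, ha⟩ := exists_prime_orderOf_dvd_card' r hrA
  have ha1 : (a : G) ≠ 1 := by
    intro h
    have : a = 1 := Subtype.ext h
    rw [this, orderOf_one] at ha
    exact hr.ne_one ha.symm
  let R : Subgroup G := Subgroup.zpowers (a : G)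
  have hRA : R ≤ A := by
    rw [Subgroup.zpowers_le]; exact a.2
  have hRV : R ≤ Subgroup.normalizer (V : Set G) := hRA.trans hAV
  let _ : MulDistribMulAction R V := conjActOfLeNormalizer R V hRV
  have hRp : IsPGroup r R := by
    apply IsPGroup.of_card (n := 1)
    rw [Nat.card_zpowers, pow_one, Subgroup.orderOf_coe, ha]
  have h1fix : (1 : V) ∈ MulAction.fixedPoints R V := by
    intro g
    exact smul_one g
  obtain ⟨v, hvfix, hv1⟩ := hRp.exists_fixed_point_of_prime_dvd_card_of_fixed_point V hrV h1fix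
  have hmem : (v : G) ∈ V ⊓ Subgroup.centralizer {(a : G)} := by
    refine Subgroup.mem_inf.mpr ⟨v.2, ?_⟩
    rw [Subgroup.mem_centralizer_singleton_iff]
    have h2 := hvfix ⟨(a : G), Subgroup.mem_zpowers _⟩
    have h3 : (a : G) * v * (a : G)⁻¹ = v := congrArg Subtype.val h2
    symm
    calc (a : G) * v = (a : G) * v * (a : G)⁻¹ * a := by group
      _ = v * a := by rw [h3]
  rw [hfpf a a.2 ha1, Subgroup.mem_bot] at hmem
  exact hv1 (Subtype.ext hmem.symm)


/-- Abelian case: an abelian group acting fixed-point-freely on a nontrivial group is cyclic. -/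
theorem isCyclic_of_fpf_of_abelian [Finite G] (A V : Subgroup G)
    (hV : V ≠ ⊥) (hAV : A ≤ Subgroup.normalizer (V : Set G))
    (hfpf : ∀ a ∈ A, a ≠ 1 → V ⊓ Subgroup.centralizer {a} = ⊥)
    [hA : IsMulCommutative A] : IsCyclic A := by
  by_contra hnc
  have hcop := coprime_of_fpf A V hAV hfpf
  have h1 := coprime_generated_by_centralizers A V hnc hAV hcop
  apply hV
  rw [← h1, eq_bot_iff]
  apply iSup₂_le
  intro a ha
  rw [hfpf a ha.1 ha.2]

/-- A group with a Frobenius complement cannot act fixed-point-freely on a nontrivial abelian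
group. -/
theorem false_of_fpf_of_frobeniusComplement [Finite G] (A V : Subgroup G) [hVc : IsMulCommutative V]
    (hV : V ≠ ⊥) (hAV : A ≤ Subgroup.normalizer (V : Set G))
    (hfpf : ∀ a ∈ A, a ≠ 1 → V ⊓ Subgroup.centralizer {a} = ⊥)
    (H : Subgroup A) (hH : Cfsg.IsFrobeniusComplement H) : False := by
  obtain ⟨N, hN, hNn, hcompl⟩ := frobenius_theorem H hH
  let _ : CommGroup V := { (inferInstance : Group V) with mul_comm := fun a b => mul_comm' a b }
  let _ : MulDistribMulAction A V := conjActOfLeNormalizer A V hAV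
  have hsmul : ∀ (a : A) (v : V), ((a • v : V) : G) = (a : G) * v * (a : G)⁻¹ := fun a v => rfl
  have hcop := coprime_of_fpf A V hAV hfpf
  have hcop' : (Nat.card V).Coprime (Nat.card N) :=
    (Nat.Coprime.coprime_dvd_left (Subgroup.card_subgroup_dvd_card N) hcop).symm
  have hfix : ∀ (B : Subgroup A), B ≠ ⊥ → ∀ v : V, (∀ b ∈ B, b • v = v) → v = 1 := by
    intro B hB v hv
    obtain ⟨b, hbB, hb1⟩ := (Subgroup.ne_bot_iff_exists_ne_one).mp hB |> fun ⟨z, hz⟩ =>
      (⟨(z : A), z.2, fun h => hz (Subtype.ext h)⟩ : ∃ b : A, b ∈ B ∧ b ≠ 1)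
    have hb1' : (b : G) ≠ 1 := fun h => hb1 (Subtype.ext h)
    have hmem : (v : G) ∈ V ⊓ Subgroup.centralizer {(b : G)} := by
      refine Subgroup.mem_inf.mpr ⟨v.2, ?_⟩
      rw [Subgroup.mem_centralizer_singleton_iff]
      have h3 := congrArg Subtype.val (hv b hbB)
      rw [hsmul] at h3
      symm
      calc (b : G) * v = (b : G) * v * (b : G)⁻¹ * b := by group
        _ = v * b := by rw [h3]
    rw [hfpf b b.2 hb1', Subgroup.mem_bot] at hmem
    exact Subtype.ext hmem
  have hNne : N ≠ ⊥ := by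
    intro h
    have h1 := hcompl.card_mul_card
    rw [h, Subgroup.card_bot, one_mul] at h1
    exact hH.2.1 (Subgroup.eq_top_of_card_eq H h1)
  apply hV
  rw [eq_bot_iff]
  intro x hx
  have := frobenius_action_fixed_point_aux H N hH hN hcop' (hfix N hNne) (hfix H hH.1) ⟨x, hx⟩
  rw [Subgroup.mem_bot]
  exact congrArg Subtype.val this


theorem exists_frobeniusComplement_of_card_eq_mul {A : Type u} [Group A] [Finite A] {p q : ℕ}
    (hp : p.Prime) (hq : q.Prime) (hpq : p ≠ q) (hcard : Nat.card A = p * q) (hnc : ¬ IsCyclic A) :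
    ∃ H : Subgroup A, Cfsg.IsFrobeniusComplement H := by
  have hsqf : Squarefree (Nat.card A) := by
    rw [hcard]
    exact (Nat.squarefree_mul_iff).mpr
      ⟨(Nat.coprime_primes hp hq).mpr hpq, hp.prime.squarefree, hq.prime.squarefree⟩
  have hZ : IsZGroup A := IsZGroup.of_squarefree hsqf
  have hnn : ¬ Group.IsNilpotent A := fun h => hnc inferInstance
  have h03 : Group.IsNilpotent A ↔ ∀ (r : ℕ) (_ : Fact r.Prime) (P : Sylow r A),
      (P : Subgroup A).Normal := (Group.isNilpotent_of_finite_tfae (G := A)).out 0 3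
  rw [h03] at hnn
  push Not at hnn
  obtain ⟨r, hr, P, hPn⟩ := hnn
  have hPcard : Nat.card P = r ^ (Nat.card A).factorization r := P.card_eq_multiplicity
  have hfac : (Nat.card A).factorization r = (if p = r then 1 else 0) + (if q = r then 1 else 0) := by
    rw [hcard, Nat.factorization_mul hp.ne_zero hq.ne_zero, Finsupp.add_apply,
      hp.factorization, hq.factorization, Finsupp.single_apply, Finsupp.single_apply]
  have hPbot : (P : Subgroup A) ≠ ⊥ := by
    intro h
    apply hPn
    rw [h]; infer_instance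
  have hPtop : (P : Subgroup A) ≠ ⊤ := by
    intro h
    apply hPn
    rw [h]; infer_instance
  -- |P| = r and index P is prime
  have hcase : Nat.card P = r ∧ (P : Subgroup A).index.Prime := by
    have hmul := (P : Subgroup A).card_mul_index
    rw [hcard] at hmul
    by_cases h1 : p = r
    · have h2 : ¬ q = r := fun h => hpq (h1.trans h.symm)
      rw [if_pos h1, if_neg h2] at hfac
      rw [hfac, pow_one] at hPcard
      refine ⟨hPcard, ?_⟩
      rw [hPcard] at hmul
      have h5 : r * (P : Subgroup A).index = r * q := by rw [hmul, h1]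
      have := Nat.eq_of_mul_eq_mul_left hr.out.pos h5
      rw [this]; exact hq
    · by_cases h2 : q = r
      · rw [if_neg h1, if_pos h2] at hfac
        rw [hfac, pow_one] at hPcard
        refine ⟨hPcard, ?_⟩
        rw [hPcard] at hmul
        have h5 : r * (P : Subgroup A).index = r * p := by rw [hmul, h2, mul_comm]
        have := Nat.eq_of_mul_eq_mul_left hr.out.pos h5
        rw [this]; exact hp
      · exfalso
        rw [if_neg h1, if_neg h2] at hfac
        rw [hfac, pow_zero] at hPcard
        exact hPbot (Subgroup.card_eq_one.mp hPcard)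
  obtain ⟨hPr, hidx⟩ := hcase
  -- normalizer of P is P
  have hnorm : Subgroup.normalizer ((P : Subgroup A) : Set A) ≤ (P : Subgroup A) := by
    have hle : (P : Subgroup A) ≤ Subgroup.normalizer ((P : Subgroup A) : Set A) :=
      Subgroup.le_normalizer
    have hMtop : Subgroup.normalizer ((P : Subgroup A) : Set A) ≠ ⊤ := by
      intro h
      exact hPn (Subgroup.normalizer_eq_top_iff.mp h)
    have h1 := Subgroup.relIndex_mul_index hle
    have h2 : (Subgroup.normalizer ((P : Subgroup A) : Set A)).index ∣ (P : Subgroup A).index :=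
      Dvd.intro_left _ h1
    rcases (Nat.dvd_prime hidx).mp h2 with h3 | h3
    · exact absurd (Subgroup.index_eq_one.mp h3) hMtop
    · rw [h3] at h1
      have h4 : (P : Subgroup A).relIndex (Subgroup.normalizer ((P : Subgroup A) : Set A)) = 1 := by
        have hpos : 0 < (P : Subgroup A).index := hidx.pos
        exact Nat.eq_of_mul_eq_mul_right hpos (by rw [h1, one_mul])
      exact Subgroup.relIndex_eq_one.mp h4
  obtain ⟨Q, hQ⟩ : ∃ Q : Subgroup A, Q = (P : Subgroup A) := ⟨_, rfl⟩
  rw [← hQ] at hPbot hPtop hPr hnorm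
  refine ⟨Q, hPbot, hPtop, ?_⟩
  intro g hg
  by_contra hne
  have hdvd : Nat.card (Q ⊓ MulAut.conj g • Q : Subgroup A) ∣ Nat.card Q :=
    Subgroup.card_dvd_of_le inf_le_left
  rw [hPr] at hdvd
  rcases (Nat.dvd_prime hr.out).mp hdvd with h1 | h1
  · exact hne (Subgroup.card_eq_one.mp h1)
  · have h2 : Q ⊓ MulAut.conj g • Q = Q := by
      apply Subgroup.eq_of_le_of_card_ge inf_le_left
      rw [h1, hPr]
    have h3 : Q ≤ MulAut.conj g • Q := by
      have : Q ⊓ MulAut.conj g • Q ≤ MulAut.conj g • Q := inf_le_right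
      rwa [h2] at this
    have h4 : MulAut.conj g • Q = Q := by
      symm
      apply Subgroup.eq_of_le_of_card_ge h3
      rw [card_conj_smul]
    exact hg (hnorm (mem_normalizer_of_conj_smul_eq h4))


theorem fpf_on_abelian_cyclic [Finite G] (A V : Subgroup G) [IsMulCommutative V]
    (hV : V ≠ ⊥) (hAV : A ≤ Subgroup.normalizer (V : Set G))
    (hfpf : ∀ a ∈ A, a ≠ 1 → V ⊓ Subgroup.centralizer {a} = ⊥)
    (hA : IsMulCommutative A ∨ ∃ p q : ℕ, p.Prime ∧ q.Prime ∧ Nat.card A = p * q) :
    IsCyclic A := by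
  rcases hA with hA | ⟨p, q, hp, hq, hcard⟩
  · exact isCyclic_of_fpf_of_abelian A V hV hAV hfpf
  · by_cases hpq : p = q
    · subst hpq
      have : Fact p.Prime := ⟨hp⟩
      have hc : Nat.card A = p ^ 2 := by rw [hcard, sq]
      have : IsMulCommutative A := IsPGroup.isMulCommutative_of_card_eq_prime_sq hc
      exact isCyclic_of_fpf_of_abelian A V hV hAV hfpf
    · by_contra hnc
      obtain ⟨H, hH⟩ := exists_frobeniusComplement_of_card_eq_mul hp hq hpq hcard hnc
      exact false_of_fpf_of_frobeniusComplement A V hV hAV hfpf H hH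

end Cfsg.Agent.Lib.Helper1
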