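import Mathlib
import Cfsg.Agent.Lib.Helper1.FrobeniusTheorem
import Cfsg.Agent.Lib.Helper1.FrobeniusBasic
import Cfsg.Agent.Lib.Helper1.Hall
import Cfsg.Agent.Lib.Helper1.SZHelpers
set_option autoImplicit false
universe u v
open scoped Pointwise
namespace Cfsg.Agent.Lib.Helper1
variable {G : Type u} [Group G]

theorem IsFrobeniusComplement.conj {H : Subgroup G} (hH : Cfsg.IsFrobeniusComplement H) (g : G) :
    Cfsg.IsFrobeniusComplement (MulAut.conj g • H) := by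
  refine ⟨?_, ?_, ?_⟩
  · intro h
    apply hH.1
    have := congrArg (fun K => MulAut.conj g⁻¹ • K) h
    simpa [← mul_smul] using this
  · intro h
    apply hH.2.1
    rw [eq_top_iff] at h ⊢
    intro x _
    have h1 : g * x * g⁻¹ ∈ MulAut.conj g • H := h (Subgroup.mem_top _)
    rw [mem_conj_smul_iff'] at h1
    have e : g⁻¹ * (g * x * g⁻¹) * g = x := by group
    rwa [e] at h1
  · intro y hy
    have hy' : g⁻¹ * y * g ∉ H := fun h => hy (mem_conj_smul_iff'.mpr h)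
    have h1 := hH.2.2 _ hy'
    rw [eq_bot_iff]
    intro x hx
    obtain ⟨hx1, hx2⟩ := Subgroup.mem_inf.mp hx
    rw [mem_conj_smul_iff'] at hx1 hx2
    rw [mem_conj_smul_iff'] at hx2
    have h2 : g⁻¹ * x * g ∈ H ⊓ MulAut.conj (g⁻¹ * y * g) • H := by
      refine Subgroup.mem_inf.mpr ⟨hx1, ?_⟩
      rw [mem_conj_smul_iff']
      have e : (g⁻¹ * y * g)⁻¹ * (g⁻¹ * x * g) * (g⁻¹ * y * g) = g⁻¹ * (y⁻¹ * x * y) * g := by group
      rw [e]; exact hx2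
    rw [h1, Subgroup.mem_bot] at h2
    rw [Subgroup.mem_bot]
    have e : x = g * (g⁻¹ * x * g) * g⁻¹ := by group
    rw [e, h2]; group

theorem frobenius_subgroupOf {H : Subgroup G} (hH : Cfsg.IsFrobeniusComplement H) (L : Subgroup G)
    (h1 : L ⊓ H ≠ ⊥) (h2 : ¬ L ≤ H) : Cfsg.IsFrobeniusComplement (H.subgroupOf L) := by
  refine ⟨?_, ?_, ?_⟩
  · intro h
    apply h1
    rw [Subgroup.subgroupOf_eq_bot] at h
    rw [inf_comm]
    exact disjoint_iff.mp h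
  · intro h
    exact h2 (Subgroup.subgroupOf_eq_top.mp h)
  · intro y hy
    have hy' : (y : G) ∉ H := fun h => hy (Subgroup.mem_subgroupOf.mpr h)
    have h3 := hH.2.2 _ hy'
    rw [eq_bot_iff]
    intro z hz
    obtain ⟨hz1, hz2⟩ := Subgroup.mem_inf.mp hz
    rw [mem_conj_smul_iff', Subgroup.mem_subgroupOf] at hz2
    rw [Subgroup.mem_subgroupOf] at hz1
    have h4 : (z : G) ∈ H ⊓ MulAut.conj (y : G) • H := by
      refine Subgroup.mem_inf.mpr ⟨hz1, ?_⟩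
      rw [mem_conj_smul_iff']
      exact hz2
    rw [h3, Subgroup.mem_bot] at h4
    rw [Subgroup.mem_bot]
    exact Subtype.ext h4

theorem frobenius_kernel_inf_eq_bot {H N : Subgroup G} 
    (hN : (N : Set G) = Cfsg.frobeniusKernel H) : N ⊓ H = ⊥ := by
  rw [eq_bot_iff]
  intro x hx
  obtain ⟨hxN, hxH⟩ := Subgroup.mem_inf.mp hx
  rw [Subgroup.mem_bot]
  have : x ∈ Cfsg.frobeniusKernel H := by rw [← hN]; exact hxN
  rcases this with h | h
  · exact h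
  · exfalso
    apply h 1
    rw [map_one, one_smul]; exact hxH

theorem frobenius_kernel_comparable [Finite G] {H₀ N N₀ : Subgroup G}
    (hH₀ : Cfsg.IsFrobeniusComplement H₀) (hNn : N.Normal)
    (hN₀ : (N₀ : Set G) = Cfsg.frobeniusKernel H₀) (hN₀n : N₀.Normal)
    (hle : ¬ N ≤ N₀) : N₀ ≤ N := by
  obtain ⟨x, hxN, hxN₀⟩ := SetLike.not_le_iff_exists.mp hle
  have hxFK : x ∉ Cfsg.frobeniusKernel H₀ := by rw [← hN₀]; exact hxN₀
  have hx1 : x ≠ 1 := fun h => hxFK (Or.inl h)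
  have hex : ∃ g : G, x ∈ MulAut.conj g • H₀ := by
    by_contra hcon
    push Not at hcon
    exact hxFK (Or.inr hcon)
  obtain ⟨g, hg⟩ := hex
  rw [mem_conj_smul_iff'] at hg
  set x' := g⁻¹ * x * g with hx'
  have hx'N : x' ∈ N := by
    have := hNn.conj_mem x hxN g⁻¹
    simpa [hx'] using this
  have hx'1 : x' ≠ 1 := by
    intro h
    apply hx1
    have e : x = g * x' * g⁻¹ := by rw [hx']; group
    rw [e, h]; group
  have hdisj₀ := frobenius_kernel_inf_eq_bot hN₀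
  let φ : N₀ → N₀ := fun m => ⟨(m : G) * x' * (m : G)⁻¹ * x'⁻¹, by
    have h1 : x' * (m : G)⁻¹ * x'⁻¹ ∈ N₀ := hN₀n.conj_mem _ (N₀.inv_mem m.2) x'
    have e : (m : G) * x' * (m : G)⁻¹ * x'⁻¹ = (m : G) * (x' * (m : G)⁻¹ * x'⁻¹) := by group
    rw [e]; exact N₀.mul_mem m.2 h1⟩
  have hφinj : Function.Injective φ := by
    intro m m' hmm
    have h1 : (m : G) * x' * (m : G)⁻¹ * x'⁻¹ = (m' : G) * x' * (m' : G)⁻¹ * x'⁻¹ :=
      congrArg Subtype.val hmm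
    have h2 : (m : G) * x' * (m : G)⁻¹ = (m' : G) * x' * (m' : G)⁻¹ := mul_right_cancel h1
    have h3 : ((m' : G)⁻¹ * m)⁻¹ * x' * ((m' : G)⁻¹ * m) = x' := by
      have e : ((m' : G)⁻¹ * m)⁻¹ * x' * ((m' : G)⁻¹ * m)
          = (m : G)⁻¹ * ((m' : G) * x' * (m' : G)⁻¹) * m := by group
      rw [e, ← h2]; group
    have h4 : (m' : G)⁻¹ * m ∈ H₀ := by
      apply frobenius_mem_of_conj_mem hH₀ hg hx'1
      rw [h3]; exact hg
    have h5 : (m' : G)⁻¹ * m ∈ N₀ ⊓ H₀ :=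
      Subgroup.mem_inf.mpr ⟨N₀.mul_mem (N₀.inv_mem m'.2) m.2, h4⟩
    rw [hdisj₀, Subgroup.mem_bot] at h5
    apply Subtype.ext
    have := inv_mul_eq_one.mp h5
    exact this.symm
  have hφsurj : Function.Surjective φ := Finite.injective_iff_surjective.mp hφinj
  intro n₀ hn₀
  obtain ⟨m, hm⟩ := hφsurj ⟨n₀, hn₀⟩
  have h1 : (m : G) * x' * (m : G)⁻¹ * x'⁻¹ = n₀ := congrArg Subtype.val hm
  rw [← h1]
  exact N.mul_mem (hNn.conj_mem x' hx'N m) (N.inv_mem hx'N)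

theorem frobenius_kernel_card_mul [Finite G] {H N : Subgroup G} (hH : Cfsg.IsFrobeniusComplement H)
    (hN : (N : Set G) = Cfsg.frobeniusKernel H) : Nat.card N * Nat.card H = Nat.card G := by
  have h1 : Nat.card N = H.index := by
    rw [← card_frobeniusKernel hH, ← hN]; rfl
  rw [h1, mul_comm]; exact H.card_mul_index

theorem frobenius_kernel_le_of_card_le [Finite G] {H H₀ N N₀ : Subgroup G}
    (hH : Cfsg.IsFrobeniusComplement H) (hH₀ : Cfsg.IsFrobeniusComplement H₀)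
    (hN : (N : Set G) = Cfsg.frobeniusKernel H) (hNn : N.Normal)
    (hN₀ : (N₀ : Set G) = Cfsg.frobeniusKernel H₀) (hN₀n : N₀.Normal)
    (hle : Nat.card H₀ ≤ Nat.card H) : N ≤ N₀ := by
  by_contra hcon
  have h1 := frobenius_kernel_comparable hH₀ hNn hN₀ hN₀n hcon
  have h2 := frobenius_kernel_card_mul hH hN
  have h3 := frobenius_kernel_card_mul hH₀ hN₀
  have h4 : Nat.card N ≤ Nat.card N₀ := by
    have hpos : 0 < Nat.card H₀ := Nat.card_pos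
    have : Nat.card N * Nat.card H₀ ≤ Nat.card N₀ * Nat.card H₀ := by
      rw [h3, ← h2]; exact Nat.mul_le_mul_left _ hle
    exact Nat.le_of_mul_le_mul_right this hpos
  have h5 : N₀ = N := Subgroup.eq_of_le_of_card_ge h1 h4
  exact hcon (h5 ▸ le_refl _)


theorem card_subgroupOf_eq_card_inf (K L : Subgroup G) :
    Nat.card (K.subgroupOf L) = Nat.card (L ⊓ K : Subgroup G) := by
  rw [← Subgroup.inf_subgroupOf_left K L, card_subgroupOf_of_le inf_le_left]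

theorem frobenius_complement_conj_le [Finite G] (H H₀ : Subgroup G)
    (hH : Cfsg.IsFrobeniusComplement H) (hH₀ : Cfsg.IsFrobeniusComplement H₀)
    (hle : Nat.card H₀ ≤ Nat.card H) : ∃ g : G, MulAut.conj g • H₀ ≤ H := by
  obtain ⟨N, hN, hNn, hNc⟩ := frobenius_theorem H hH
  obtain ⟨N₀, hN₀, hN₀n, hN₀c⟩ := frobenius_theorem H₀ hH₀
  have hNN₀ : N ≤ N₀ := frobenius_kernel_le_of_card_le hH hH₀ hN hNn hN₀ hN₀n hle
  have hdisj₀ := frobenius_kernel_inf_eq_bot hN₀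
  have hcover : ∀ h₀ ∈ H₀, h₀ ≠ 1 → ∃ g : G, h₀ ∈ MulAut.conj g • H := by
    intro h₀ hh₀ h1
    by_contra hcon
    push Not at hcon
    have : h₀ ∈ Cfsg.frobeniusKernel H := Or.inr hcon
    rw [← hN] at this
    have h2 : h₀ ∈ N₀ ⊓ H₀ := Subgroup.mem_inf.mpr ⟨hNN₀ this, hh₀⟩
    rw [hdisj₀, Subgroup.mem_bot] at h2
    exact h1 h2
  suffices h : ∃ g : G, H₀ ≤ MulAut.conj g • H by
    obtain ⟨g, hg⟩ := h
    refine ⟨g⁻¹, ?_⟩
    intro x hx
    rw [mem_conj_smul_iff'] at hx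
    have := hg hx
    rw [mem_conj_smul_iff'] at this
    have e : g⁻¹ * (g⁻¹⁻¹ * x * g⁻¹) * g = x := by group
    rwa [e] at this
  by_contra hno
  push Not at hno
  obtain ⟨g₁, hg₁⟩ := Finite.exists_max
    (fun g : G => Nat.card (H₀ ⊓ MulAut.conj g • H : Subgroup G))
  obtain ⟨h₀, hh₀, hh₀1⟩ : ∃ h₀ : G, h₀ ∈ H₀ ∧ h₀ ≠ 1 := by
    obtain ⟨z, hz⟩ := (Subgroup.ne_bot_iff_exists_ne_one).mp hH₀.1
    exact ⟨(z : G), z.2, fun h => hz (Subtype.ext h)⟩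
  obtain ⟨g₀, hg₀⟩ := hcover h₀ hh₀ hh₀1
  have hD₁ : H₀ ⊓ MulAut.conj g₁ • H ≠ ⊥ := by
    intro h
    have h1 := hg₁ g₀
    simp only [h, Subgroup.card_bot] at h1
    have h2 : (H₀ ⊓ MulAut.conj g₀ • H : Subgroup G) = ⊥ :=
      Subgroup.card_eq_one.mp (le_antisymm h1 Nat.card_pos)
    have h3 : h₀ ∈ (H₀ ⊓ MulAut.conj g₀ • H : Subgroup G) := Subgroup.mem_inf.mpr ⟨hh₀, hg₀⟩
    rw [h2, Subgroup.mem_bot] at h3
    exact hh₀1 h3
  have hF₁ := frobenius_subgroupOf (IsFrobeniusComplement.conj hH g₁) H₀ hD₁ (hno g₁)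
  obtain ⟨M₁, hM₁, hM₁n, hM₁c⟩ := frobenius_theorem _ hF₁
  have hM₁ne : M₁ ≠ ⊥ := by
    intro h
    have h1 := hM₁c.card_mul_card
    rw [h, Subgroup.card_bot, one_mul] at h1
    exact hF₁.2.1 (Subgroup.eq_top_of_card_eq _ h1)
  obtain ⟨m, hmM, hm1⟩ : ∃ m : H₀, m ∈ M₁ ∧ m ≠ 1 := by
    obtain ⟨z, hz⟩ := (Subgroup.ne_bot_iff_exists_ne_one).mp hM₁ne
    exact ⟨(z : H₀), z.2, fun h => hz (Subtype.ext h)⟩
  have hm1' : (m : G) ≠ 1 := fun h => hm1 (Subtype.ext h)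
  obtain ⟨g₂, hg₂⟩ := hcover m m.2 hm1'
  have hD₂ : H₀ ⊓ MulAut.conj g₂ • H ≠ ⊥ := by
    intro h
    have h3 : (m : G) ∈ (H₀ ⊓ MulAut.conj g₂ • H : Subgroup G) := Subgroup.mem_inf.mpr ⟨m.2, hg₂⟩
    rw [h, Subgroup.mem_bot] at h3
    exact hm1' h3
  have hF₂ := frobenius_subgroupOf (IsFrobeniusComplement.conj hH g₂) H₀ hD₂ (hno g₂)
  obtain ⟨M₂, hM₂, hM₂n, hM₂c⟩ := frobenius_theorem _ hF₂
  have hcard : Nat.card ((MulAut.conj g₂ • H).subgroupOf H₀) ≤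
      Nat.card ((MulAut.conj g₁ • H).subgroupOf H₀) := by
    rw [card_subgroupOf_eq_card_inf, card_subgroupOf_eq_card_inf]
    exact hg₁ g₂
  have hM : M₁ ≤ M₂ := frobenius_kernel_le_of_card_le hF₁ hF₂ hM₁ hM₁n hM₂ hM₂n hcard
  have h4 : m ∈ M₂ ⊓ (MulAut.conj g₂ • H).subgroupOf H₀ :=
    Subgroup.mem_inf.mpr ⟨hM hmM, Subgroup.mem_subgroupOf.mpr hg₂⟩
  rw [frobenius_kernel_inf_eq_bot hM₂, Subgroup.mem_bot] at h4
  exact hm1 h4

end Cfsg.Agent.Lib.Helper1
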