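import Mathlib

/-! Fin-indexed chains versus `Relation.ReflTransGen`. -/
set_option autoImplicit false
universe u v
namespace Cfsg.Agent.Lib.Helper1

/-- Fin-indexed chains versus the reflexive-transitive closure of the step relation. -/
theorem exists_fin_chain_iff_reflTransGen {α : Type u} (R : α → α → Prop) (a b : α) :
    (∃ (n : ℕ) (f : Fin (n + 1) → α), f 0 = a ∧ f (Fin.last n) = b ∧
      ∀ i : Fin n, R (f i.castSucc) (f i.succ)) ↔ Relation.ReflTransGen R a b := by
  constructor
  · rintro ⟨n, f, rfl, rfl, hstep⟩
    have key : ∀ k : Fin (n + 1), Relation.ReflTransGen R (f 0) (f k) := by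
      intro k
      induction k using Fin.induction with
      | zero => exact Relation.ReflTransGen.refl
      | succ i ih => exact Relation.ReflTransGen.tail ih (hstep i)
    exact key (Fin.last n)
  · intro h
    induction h with
    | refl => exact ⟨0, fun _ => a, rfl, rfl, fun i => i.elim0⟩
    | @tail b c _ hbc ih =>
      obtain ⟨n, f, hf0, hfl, hstep⟩ := ih
      refine ⟨n + 1, Fin.snoc f c, ?_, ?_, ?_⟩
      · have : (0 : Fin (n + 2)) = Fin.castSucc (0 : Fin (n + 1)) := rfl
        rw [this, Fin.snoc_castSucc, hf0]
      · exact Fin.snoc_last _ _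
      · intro i
        induction i using Fin.lastCases with
        | last =>
          rw [Fin.snoc_castSucc, Fin.succ_last, Fin.snoc_last, hfl]
          exact hbc
        | cast j =>
          rw [Fin.snoc_castSucc, ← Fin.castSucc_succ, Fin.snoc_castSucc]
          exact hstep j

end Cfsg.Agent.Lib.Helper1
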