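import Mathlib
import Cfsg.Prelude.Def_SolvableStructure
import Cfsg.Agent.Lib.Helper1.ChainRel

/-! Supersolvable groups: chain characterization, images, extensions by cyclic normal subgroups. -/
set_option autoImplicit false
universe u v
open Cfsg
namespace Cfsg.Agent.Lib.Helper1
variable {G : Type u} [Group G]

/-- One step of a supersolvable chain. -/
def SSStep (H K : Subgroup G) : Prop :=
  H.Normal ∧ K.Normal ∧ ∃ g : G, K = H ⊔ Subgroup.zpowers g

theorem isSupersolvable_iff_reflTransGen :
    IsSupersolvable G ↔ Relation.ReflTransGen SSStep (⊥ : Subgroup G) ⊤ := by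
  rw [← exists_fin_chain_iff_reflTransGen]
  constructor
  · rintro ⟨n, H, h0, hl, hnorm, hstep⟩
    exact ⟨n, H, h0, hl, fun i => ⟨hnorm _, hnorm _, hstep i⟩⟩
  · rintro ⟨n, H, h0, hl, hstep⟩
    refine ⟨n, H, h0, hl, ?_, fun i => (hstep i).2.2⟩
    intro i
    induction i using Fin.cases with
    | zero => rw [h0]; infer_instance
    | succ j => exact (hstep j).2.1

theorem SSStep.map {G' : Type v} [Group G'] (f : G →* G') (hf : Function.Surjective f)
    {H K : Subgroup G} (h : SSStep H K) : SSStep (H.map f) (K.map f) := by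
  obtain ⟨hH, hK, g, hg⟩ := h
  refine ⟨hH.map f hf, hK.map f hf, f g, ?_⟩
  rw [hg, Subgroup.map_sup, MonoidHom.map_zpowers]

theorem reflTransGen_map {G' : Type v} [Group G'] (f : G →* G') (hf : Function.Surjective f)
    {H K : Subgroup G} (h : Relation.ReflTransGen SSStep H K) :
    Relation.ReflTransGen SSStep (H.map f) (K.map f) := by
  induction h with
  | refl => exact Relation.ReflTransGen.refl
  | tail _ hbc ih => exact Relation.ReflTransGen.tail ih (hbc.map f hf)

theorem isSupersolvable_of_surjective {G' : Type v} [Group G'] (f : G →* G')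
    (hf : Function.Surjective f) (hG : IsSupersolvable G) : IsSupersolvable G' := by
  rw [isSupersolvable_iff_reflTransGen] at hG ⊢
  have := reflTransGen_map f hf hG
  rw [Subgroup.map_bot, Subgroup.map_top_of_surjective f hf] at this
  exact this

theorem SSStep.comap {G' : Type v} [Group G'] (f : G →* G') (hf : Function.Surjective f)
    {H K : Subgroup G'} (h : SSStep H K) : SSStep (H.comap f) (K.comap f) := by
  obtain ⟨hH, hK, g', hg⟩ := h
  obtain ⟨g, rfl⟩ := hf g'
  refine ⟨hH.comap f, hK.comap f, g, ?_⟩
  apply le_antisymm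
  · intro x hx
    rw [Subgroup.mem_comap, hg, Subgroup.mem_sup_of_normal_left] at hx
    obtain ⟨h, hh, z, hz, hhz⟩ := hx
    obtain ⟨k, rfl⟩ := Subgroup.mem_zpowers_iff.mp hz
    have e : x = (x * g ^ (-k)) * g ^ k := by group
    rw [e]
    apply Subgroup.mul_mem_sup
    · rw [Subgroup.mem_comap, map_mul, map_zpow, ← hhz, zpow_neg]
      simpa using hh
    · exact Subgroup.zpow_mem_zpowers g k
  · apply sup_le
    · apply Subgroup.comap_mono
      rw [hg]; exact le_sup_left
    · rw [Subgroup.zpowers_le, Subgroup.mem_comap, hg]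
      exact (le_sup_right : Subgroup.zpowers (f g) ≤ _) (Subgroup.mem_zpowers _)

theorem reflTransGen_comap {G' : Type v} [Group G'] (f : G →* G') (hf : Function.Surjective f)
    {H K : Subgroup G'} (h : Relation.ReflTransGen SSStep H K) :
    Relation.ReflTransGen SSStep (H.comap f) (K.comap f) := by
  induction h with
  | refl => exact Relation.ReflTransGen.refl
  | tail _ hbc ih => exact Relation.ReflTransGen.tail ih (hbc.comap f hf)

/-- Extension of a cyclic normal subgroup by a supersolvable group. -/
theorem isSupersolvable_of_quotient_cyclic (N : Subgroup G) [hN : N.Normal] [hc : IsCyclic N]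
    (h : IsSupersolvable (G ⧸ N)) : IsSupersolvable G := by
  rw [isSupersolvable_iff_reflTransGen] at h ⊢
  have h1 := reflTransGen_comap (QuotientGroup.mk' N) (QuotientGroup.mk'_surjective N) h
  rw [Subgroup.comap_top] at h1
  have h2 : (⊥ : Subgroup (G ⧸ N)).comap (QuotientGroup.mk' N) = N := QuotientGroup.ker_mk' N
  rw [h2] at h1
  refine Relation.ReflTransGen.head ?_ h1
  obtain ⟨g, hg⟩ := hc.exists_generator
  refine ⟨inferInstance, hN, (g : G), ?_⟩
  rw [bot_sup_eq]
  ext x
  constructor
  · intro hx
    have := hg ⟨x, hx⟩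
    rw [Subgroup.mem_zpowers_iff] at this ⊢
    obtain ⟨k, hk⟩ := this
    exact ⟨k, by have := congrArg Subtype.val hk; simpa using this⟩
  · intro hx
    rw [Subgroup.mem_zpowers_iff] at hx
    obtain ⟨k, rfl⟩ := hx
    exact N.zpow_mem g.2 k

end Cfsg.Agent.Lib.Helper1
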