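import Mathlib
import Cfsg.Prelude.Def_SolvableStructure
import Cfsg.Agent.Lib.Helper1.Supersolvable

/-! Supersolvable groups: subgroups, quotients. -/
set_option autoImplicit false
universe u v
open Cfsg
namespace Cfsg.Agent.Lib.Helper1
variable {G : Type u} [Group G]

theorem SSStep.subgroupOf (L : Subgroup G) {H K : Subgroup G} (h : SSStep H K) :
    SSStep (H.subgroupOf L) (K.subgroupOf L) := by
  obtain ⟨hH, hK, g, hg⟩ := h
  refine ⟨hH.subgroupOf L, hK.subgroupOf L, ?_⟩
  have hHK : H ≤ K := by rw [hg]; exact le_sup_left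
  let π := QuotientGroup.mk' H
  let ψ : L →* G ⧸ H := π.comp L.subtype
  have hKπ : K.map π = Subgroup.zpowers (π g) := by
    rw [hg, Subgroup.map_sup, MonoidHom.map_zpowers]
    have : H.map π = ⊥ := by
      rw [eq_bot_iff, Subgroup.map_le_iff_le_comap]
      intro x hx
      rw [Subgroup.mem_comap, Subgroup.mem_bot]
      exact (QuotientGroup.eq_one_iff x).mpr hx
    rw [this, bot_sup_eq]
  have hM : (K.subgroupOf L).map ψ ≤ Subgroup.zpowers (π g) := by
    rw [← hKπ]
    rintro _ ⟨x, hx, rfl⟩
    exact ⟨(x : G), hx, rfl⟩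
  obtain ⟨n, hn⟩ := (Subgroup.le_zpowers_iff _ _).mp hM
  have hmem : (π g) ^ n ∈ (K.subgroupOf L).map ψ := by
    rw [hn]; exact Subgroup.mem_zpowers _
  obtain ⟨g', hg'K, hg'⟩ := hmem
  refine ⟨g', ?_⟩
  apply le_antisymm
  · intro x hx
    have h1 : ψ x ∈ (K.subgroupOf L).map ψ := ⟨x, hx, rfl⟩
    rw [hn, ← hg'] at h1
    obtain ⟨k, hk⟩ := Subgroup.mem_zpowers_iff.mp h1
    have e : x = (x * g' ^ (-k)) * g' ^ k := by group
    rw [e]
    apply Subgroup.mul_mem_sup
    · rw [Subgroup.mem_subgroupOf]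
      have h2 : ψ (x * g' ^ (-k)) = 1 := by
        rw [map_mul, map_zpow, zpow_neg, hk, mul_inv_cancel]
      exact (QuotientGroup.eq_one_iff _).mp h2
    · exact Subgroup.zpow_mem_zpowers g' k
  · apply sup_le
    · exact Subgroup.subgroupOf_mono L hHK
    · rw [Subgroup.zpowers_le]; exact hg'K

theorem reflTransGen_subgroupOf (L : Subgroup G) {H K : Subgroup G}
    (h : Relation.ReflTransGen SSStep H K) :
    Relation.ReflTransGen SSStep (H.subgroupOf L) (K.subgroupOf L) := by
  induction h with
  | refl => exact Relation.ReflTransGen.refl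
  | tail _ hbc ih => exact Relation.ReflTransGen.tail ih (hbc.subgroupOf L)

theorem isSupersolvable_subgroup (hG : IsSupersolvable G) (L : Subgroup G) : IsSupersolvable L := by
  rw [isSupersolvable_iff_reflTransGen] at hG ⊢
  have := reflTransGen_subgroupOf L hG
  rw [Subgroup.bot_subgroupOf, Subgroup.top_subgroupOf] at this
  exact this

theorem isSupersolvable_quotient (hG : IsSupersolvable G) (N : Subgroup G) [N.Normal] :
    IsSupersolvable (G ⧸ N) :=
  isSupersolvable_of_surjective (QuotientGroup.mk' N) (QuotientGroup.mk'_surjective N) hG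

theorem isSupersolvable_of_mulEquiv {G' : Type v} [Group G'] (e : G ≃* G')
    (hG : IsSupersolvable G) : IsSupersolvable G' :=
  isSupersolvable_of_surjective e.toMonoidHom e.surjective hG

end Cfsg.Agent.Lib.Helper1
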