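import Mathlib
import Cfsg.Prelude.Def_SolvableStructure
import Cfsg.Agent.Lib.Helper1.Supersolvable2
import Cfsg.Agent.Lib.Helper1.SZHelpers
set_option autoImplicit false
universe u v
open Cfsg
namespace Cfsg.Agent.Lib.Helper1
variable {G : Type u} [Group G]

theorem isSupersolvable_of_subsingleton [Subsingleton G] : IsSupersolvable G := by
  refine ⟨0, fun _ => ⊥, rfl, Subsingleton.elim _ _, fun _ => inferInstance, fun i => i.elim0⟩

theorem isSupersolvable_of_isCyclic [hc : IsCyclic G] : IsSupersolvable G := by
  have : IsCyclic (⊤ : Subgroup G) := by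
    exact isCyclic_of_surjective (Subgroup.topEquiv (G := G)).symm.toMonoidHom (Subgroup.topEquiv (G := G)).symm.surjective
  apply isSupersolvable_of_quotient_cyclic (⊤ : Subgroup G)
  have : Subsingleton (G ⧸ (⊤ : Subgroup G)) := QuotientGroup.subsingleton_quotient_top
  exact isSupersolvable_of_subsingleton

theorem zpowers_normal_of_conj_mem (x : G) (h : ∀ g : G, g * x * g⁻¹ ∈ Subgroup.zpowers x) :
    (Subgroup.zpowers x).Normal := by
  constructor
  intro n hn g
  obtain ⟨k, rfl⟩ := Subgroup.mem_zpowers_iff.mp hn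
  have : g * x ^ k * g⁻¹ = (g * x * g⁻¹) ^ k := by
    rw [conj_zpow]
  rw [this]
  exact Subgroup.zpow_mem _ (h g) k

theorem isSupersolvable_of_isPGroup_aux (p : ℕ) [hp : Fact p.Prime] (n : ℕ) :
    ∀ (G : Type u) [Group G] [Finite G], Nat.card G = n → IsPGroup p G → IsSupersolvable G := by
  induction n using Nat.strong_induction_on with
  | _ n ih =>
    intro G _ _ hcard hG
    rcases subsingleton_or_nontrivial G with hs | hnt
    · exact isSupersolvable_of_subsingleton
    · have hZ : Nontrivial (Subgroup.center G) := hG.center_nontrivial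
      have hZp : p ∣ Nat.card (Subgroup.center G) := by
        obtain ⟨k, hk⟩ := (hG.to_subgroup (Subgroup.center G)).exists_card_eq
        have hk0 : k ≠ 0 := by
          rintro rfl
          rw [pow_zero] at hk
          have := (Nat.card_eq_one_iff_unique.mp hk).1
          exact not_subsingleton _ this
        rw [hk]
        exact dvd_pow_self p hk0
      obtain ⟨z, hz⟩ := exists_prime_orderOf_dvd_card' p hZp
      let N : Subgroup G := Subgroup.zpowers (z : G)
      have hNn : N.Normal := by
        apply zpowers_normal_of_conj_mem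
        intro g
        have := Subgroup.mem_center_iff.mp z.2 g
        rw [this, mul_inv_cancel_right]
        exact Subgroup.mem_zpowers _
      have hNne : N ≠ ⊥ := by
        intro h
        have h1 : (z : G) = 1 := by
          have : (z : G) ∈ N := Subgroup.mem_zpowers _
          rw [h] at this
          exact Subgroup.mem_bot.mp this
        have h2 : z = 1 := Subtype.ext h1
        rw [h2, orderOf_one] at hz
        exact hp.out.one_lt.ne hz
      have : IsCyclic N := Subgroup.isCyclic_zpowers _
      apply isSupersolvable_of_quotient_cyclic N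
      apply ih (Nat.card (G ⧸ N)) _ (G ⧸ N) rfl (hG.to_quotient N)
      rw [← hcard]
      exact card_quotient_lt_of_ne_bot N hNne

theorem isSupersolvable_of_isPGroup [Finite G] (p : ℕ) [Fact p.Prime] (hG : IsPGroup p G) :
    IsSupersolvable G :=
  isSupersolvable_of_isPGroup_aux p _ G rfl hG


theorem exists_normal_order_p_of_index_two [Finite G] (p : ℕ) [hp : Fact p.Prime] (P : Subgroup G)
    (hPidx : P.index = 2) (hP : IsPGroup p P) (hPne : P ≠ ⊥) :
    ∃ x : G, orderOf x = p ∧ (Subgroup.zpowers x).Normal := by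
  have hPn : P.Normal := Subgroup.normal_of_index_eq_two hPidx
  have : Nontrivial P := (Subgroup.nontrivial_iff_ne_bot P).mpr hPne
  have hZ : Nontrivial (Subgroup.center P) := hP.center_nontrivial
  have hZp : p ∣ Nat.card (Subgroup.center P) := by
    obtain ⟨k, hk⟩ := (hP.to_subgroup (Subgroup.center P)).exists_card_eq
    have hk0 : k ≠ 0 := by
      rintro rfl
      rw [pow_zero] at hk
      have := (Nat.card_eq_one_iff_unique.mp hk).1
      exact not_subsingleton _ this
    rw [hk]
    exact dvd_pow_self p hk0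
  obtain ⟨z0, hz0⟩ := exists_prime_orderOf_dvd_card' p hZp
  obtain ⟨z, hz⟩ : ∃ z : G, z = ((z0 : P) : G) := ⟨_, rfl⟩
  have hzP : z ∈ P := by rw [hz]; exact (z0 : P).2
  have hzo : orderOf z = p := by
    rw [hz, Subgroup.orderOf_coe, Subgroup.orderOf_coe, hz0]
  have hzc : ∀ u ∈ P, u * z = z * u := by
    intro u hu
    have := Subgroup.mem_center_iff.mp z0.2 ⟨u, hu⟩
    have h2 := congrArg (fun a : P => (a : G)) this
    simp only [Subgroup.coe_mul] at h2
    rw [hz]; exact h2
  -- t outside P
  have hPtop : P ≠ ⊤ := by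
    intro h
    rw [h, Subgroup.index_top] at hPidx
    omega
  obtain ⟨t, -, ht⟩ := SetLike.exists_of_lt (lt_top_iff_ne_top.mpr hPtop)
  have ht2 : t * t ∈ P := by
    rw [Subgroup.mul_mem_iff_of_index_two hPidx]
  have hcover : ∀ g : G, g ∉ P → t⁻¹ * g ∈ P := by
    intro g hg
    rw [Subgroup.mul_mem_iff_of_index_two hPidx, Subgroup.inv_mem_iff]
    exact ⟨fun h => absurd h ht, fun h => absurd h hg⟩
  obtain ⟨z', hz'⟩ : ∃ z' : G, z' = t * z * t⁻¹ := ⟨_, rfl⟩
  have hz'P : z' ∈ P := by rw [hz']; exact hPn.conj_mem z hzP t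
  have hz'c : ∀ u ∈ P, u * z' = z' * u := by
    intro u hu
    have h1 : t⁻¹ * u * t ∈ P := by
      have := hPn.conj_mem u hu t⁻¹
      rwa [inv_inv] at this
    have h2 := hzc _ h1
    rw [hz']
    calc u * (t * z * t⁻¹) = t * ((t⁻¹ * u * t) * z) * t⁻¹ := by group
      _ = t * (z * (t⁻¹ * u * t)) * t⁻¹ := by rw [h2]
      _ = t * z * t⁻¹ * u := by group
  have htz' : t * z' * t⁻¹ = z := by
    rw [hz']
    have h2 := hzc _ ht2
    calc t * (t * z * t⁻¹) * t⁻¹ = (t * t) * z * (t * t)⁻¹ := by group
      _ = z * (t * t) * (t * t)⁻¹ := by rw [h2]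
      _ = z := by group
  have key : ∀ x : G, (∀ u ∈ P, u * x = x * u) → t * x * t⁻¹ ∈ Subgroup.zpowers x →
      (Subgroup.zpowers x).Normal := by
    intro x hx htx
    apply zpowers_normal_of_conj_mem
    intro g
    by_cases hg : g ∈ P
    · rw [hx g hg, mul_inv_cancel_right]
      exact Subgroup.mem_zpowers x
    · have h1 := hx _ (hcover g hg)
      have : g * x * g⁻¹ = t * ((t⁻¹ * g) * x) * (t⁻¹ * g)⁻¹ * t⁻¹ := by group
      rw [this, h1]
      have : t * (x * (t⁻¹ * g)) * (t⁻¹ * g)⁻¹ * t⁻¹ = t * x * t⁻¹ := by group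
      rw [this]
      exact htx
  by_cases hw : z * z' = 1
  · refine ⟨z, hzo, key z hzc ?_⟩
    have : t * z * t⁻¹ = z⁻¹ := by
      rw [← hz']
      exact (eq_inv_of_mul_eq_one_right hw)
    rw [this]
    exact Subgroup.inv_mem _ (Subgroup.mem_zpowers z)
  · refine ⟨z * z', ?_, key (z * z') ?_ ?_⟩
    · have hcomm : Commute z z' := (hz'c z hzP)
      have h1 : (z * z') ^ p = 1 := by
        have h0 : z' ^ p = 1 := by
          rw [hz', conj_pow, ← hzo, pow_orderOf_eq_one]; group
        rw [hcomm.mul_pow, h0, ← hzo, pow_orderOf_eq_one, mul_one]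
      have h2 := orderOf_dvd_of_pow_eq_one h1
      rcases (Nat.dvd_prime hp.out).mp h2 with h3 | h3
      · rw [orderOf_eq_one_iff] at h3
        exact absurd h3 hw
      · exact h3
    · intro u hu
      rw [← mul_assoc, hzc u hu, mul_assoc, hz'c u hu, mul_assoc]
    · have : t * (z * z') * t⁻¹ = (t * z * t⁻¹) * (t * z' * t⁻¹) := by group
      rw [this, htz', ← hz', ← hz'c z hzP]
      exact Subgroup.mem_zpowers _


theorem isSupersolvable_of_card_two_mul_prime_pow_aux (p : ℕ) (hp : p.Prime) (n : ℕ) :
    ∀ (G : Type u) [Group G] [Finite G], Nat.card G = 2 * p ^ n → IsSupersolvable G := by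
  induction n with
  | zero =>
    intro G _ _ hcard
    rw [pow_zero, mul_one] at hcard
    have : Fact (Nat.card G).Prime := ⟨by rw [hcard]; exact Nat.prime_two⟩
    have : IsCyclic G := isCyclic_of_prime_card rfl
    exact isSupersolvable_of_isCyclic
  | succ n ih =>
    intro G _ _ hcard
    have : Fact p.Prime := ⟨hp⟩
    by_cases hp2 : p = 2
    · subst hp2
      apply isSupersolvable_of_isPGroup 2
      apply IsPGroup.of_card (n := n + 2)
      rw [hcard]; ring
    · let P : Sylow p G := default
      have hPcard : Nat.card P = p ^ (n + 1) := by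
        rw [Sylow.card_eq_multiplicity, hcard, Nat.factorization_mul (by norm_num) (pow_ne_zero _ hp.ne_zero),
          Nat.Prime.factorization_pow hp]
        have : (Nat.factorization 2) p = 0 := by
          apply Nat.factorization_eq_zero_of_not_dvd
          intro h
          exact hp2 ((Nat.prime_dvd_prime_iff_eq hp Nat.prime_two).mp h)
        simp [this]
      have hPidx : (P : Subgroup G).index = 2 := by
        have h1 := (P : Subgroup G).card_mul_index
        rw [hPcard, hcard, mul_comm] at h1
        exact Nat.eq_of_mul_eq_mul_right (pow_pos hp.pos _) h1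
      have hPne : (P : Subgroup G) ≠ ⊥ := by
        intro h
        rw [h, Subgroup.card_bot] at hPcard
        have := Nat.one_lt_pow (n := n + 1) (by omega) hp.one_lt
        omega
      obtain ⟨x, hxo, hxn⟩ := exists_normal_order_p_of_index_two p (P : Subgroup G) hPidx P.2 hPne
      have : IsCyclic (Subgroup.zpowers x) := Subgroup.isCyclic_zpowers x
      apply isSupersolvable_of_quotient_cyclic (Subgroup.zpowers x)
      apply ih
      have h1 := (Subgroup.zpowers x).card_mul_index
      rw [Nat.card_zpowers, hxo, hcard, pow_succ] at h1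
      rw [← Subgroup.index_eq_card]
      have h2 : p * (Subgroup.zpowers x).index = p * (2 * p ^ n) := by rw [h1]; ring
      exact Nat.eq_of_mul_eq_mul_left hp.pos h2

theorem isSupersolvable_of_card_two_mul_prime_pow [Finite G] (p n : ℕ) (hp : p.Prime)
    (hG : Nat.card G = 2 * p ^ n) : IsSupersolvable G :=
  isSupersolvable_of_card_two_mul_prime_pow_aux p hp n G hG

end Cfsg.Agent.Lib.Helper1
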