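import Mathlib
import Cfsg.Prelude.Def_SolvableStructure
import Cfsg.Agent.Lib.Helper1.Supersolvable2
import Cfsg.Agent.Lib.Helper1.SZHelpers

/-! Supersolvable groups: induction principle. -/
set_option autoImplicit false
universe u v
open Cfsg
namespace Cfsg.Agent.Lib.Helper1
variable {G : Type u} [Group G]

theorem exists_cyclic_normal_of_isSupersolvable [hnt : Nontrivial G] (hG : IsSupersolvable G) :
    ∃ (N : Subgroup G) (_ : N.Normal), IsCyclic N ∧ N ≠ ⊥ ∧ IsSupersolvable (G ⧸ N) := by
  rw [isSupersolvable_iff_reflTransGen] at hG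
  have key : ∀ K : Subgroup G, Relation.ReflTransGen SSStep K ⊤ → K = ⊥ →
      ∃ (N : Subgroup G) (_ : N.Normal), IsCyclic N ∧ N ≠ ⊥ ∧ IsSupersolvable (G ⧸ N) := by
    intro K hK
    induction hK using Relation.ReflTransGen.head_induction_on with
    | refl =>
      intro h
      exact absurd h.symm bot_ne_top
    | head hac hcb ih =>
      rename_i a c
      intro ha
      by_cases hc : c = ⊥
      · exact ih hc
      · obtain ⟨_, hcn, g, hg⟩ := hac
        rw [ha, bot_sup_eq] at hg
        refine ⟨c, hcn, ?_, hc, ?_⟩
        · rw [hg]; infer_instance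
        · rw [isSupersolvable_iff_reflTransGen]
          have := reflTransGen_map (QuotientGroup.mk' c) (QuotientGroup.mk'_surjective c) hcb
          rw [Subgroup.map_top_of_surjective _ (QuotientGroup.mk'_surjective c),
            QuotientGroup.map_mk'_self] at this
          exact this
  exact key ⊥ hG rfl

/-- Induction principle for finite supersolvable groups. -/
theorem supersolvable_induction (P : ∀ (G : Type u) [Group G], Prop)
    (h0 : ∀ (G : Type u) [Group G] [Subsingleton G], P G)
    (hstep : ∀ (G : Type u) [Group G] [Finite G] (N : Subgroup G) [N.Normal], IsCyclic N → N ≠ ⊥ →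
      IsSupersolvable (G ⧸ N) → P (G ⧸ N) → P G)
    (G : Type u) [Group G] [Finite G] (hG : IsSupersolvable G) : P G := by
  have key : ∀ (n : ℕ) (G : Type u) [Group G] [Finite G], Nat.card G = n → IsSupersolvable G → P G := by
    intro n
    induction n using Nat.strong_induction_on with
    | _ n ih =>
    intro G _ _ hn hG
    by_cases htriv : Subsingleton G
    · exact h0 G
    rw [not_subsingleton_iff_nontrivial] at htriv
    obtain ⟨N, hNn, hNc, hNne, hQ⟩ := exists_cyclic_normal_of_isSupersolvable hG
    apply hstep G N hNc hNne hQ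
    exact ih _ (hn ▸ card_quotient_lt_of_ne_bot N hNne) (G ⧸ N) rfl hQ
  exact key _ G rfl hG

end Cfsg.Agent.Lib.Helper1
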