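import Mathlib
import Cfsg.Prelude.Def_SolvableStructure
import Cfsg.Agent.Lib.Helper1.SupersolvableInd

/-! Supersolvable groups: normal subgroups of prime order; stronger induction principle. -/
set_option autoImplicit false
universe u v
open Cfsg
namespace Cfsg.Agent.Lib.Helper1
variable {G : Type u} [Group G]

/-- A nontrivial finite cyclic normal subgroup contains a normal subgroup of prime order. -/
theorem exists_prime_order_normal_le_of_isCyclic [Finite G] (N : Subgroup G) [hN : N.Normal]
    [hc : IsCyclic N] (hne : N ≠ ⊥) :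
    ∃ N₀ : Subgroup G, N₀ ≤ N ∧ N₀.Normal ∧ (Nat.card N₀).Prime := by
  have hcard : Nat.card N ≠ 1 := by
    intro h
    exact hne (Subgroup.card_eq_one.mp h)
  obtain ⟨p, hp, hpd⟩ := Nat.exists_prime_and_dvd hcard
  let _ : CommGroup N := IsCyclic.commGroup
  obtain ⟨K, hK⟩ : ∃ K : Subgroup N, K = (powMonoidHom p : N →* N).ker := ⟨_, rfl⟩
  have hKcard : Nat.card K = p := by
    rw [hK, IsCyclic.card_powMonoidHom_ker, Nat.gcd_eq_right hpd]
  have hKmem : ∀ x : N, x ∈ K ↔ x ^ p = 1 := by
    intro x
    rw [hK, MonoidHom.mem_ker, powMonoidHom_apply]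
  refine ⟨K.map N.subtype, Subgroup.map_subtype_le _, ?_, ?_⟩
  · constructor
    rintro _ ⟨x, hx, rfl⟩ g
    have hmem : g * (x : G) * g⁻¹ ∈ N := hN.conj_mem _ x.2 g
    refine ⟨⟨g * (x : G) * g⁻¹, hmem⟩, ?_, rfl⟩
    rw [SetLike.mem_coe, hKmem] at hx ⊢
    apply Subtype.ext
    have hx' : (x : G) ^ p = 1 := by
      have := congrArg Subtype.val hx
      simpa using this
    show (g * (x : G) * g⁻¹) ^ p = 1
    rw [conj_pow, hx']
    group
  · rw [Subgroup.card_map_of_injective N.subtype_injective, hKcard]
    exact hp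

theorem exists_prime_order_normal_of_isSupersolvable [Finite G] [hnt : Nontrivial G]
    (hG : IsSupersolvable G) :
    ∃ (N : Subgroup G) (_ : N.Normal), (Nat.card N).Prime ∧ IsSupersolvable (G ⧸ N) := by
  obtain ⟨N, hNn, hNc, hNne, _⟩ := exists_cyclic_normal_of_isSupersolvable hG
  obtain ⟨N₀, _, hN₀n, hN₀p⟩ := exists_prime_order_normal_le_of_isCyclic N hNne
  exact ⟨N₀, hN₀n, hN₀p, isSupersolvable_quotient hG N₀⟩

/-- Induction principle for finite supersolvable groups, peeling off normal subgroups of prime order. -/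
theorem supersolvable_induction_prime (P : ∀ (G : Type u) [Group G], Prop)
    (h0 : ∀ (G : Type u) [Group G] [Subsingleton G], P G)
    (hstep : ∀ (G : Type u) [Group G] [Finite G] (N : Subgroup G) [N.Normal], (Nat.card N).Prime →
      IsSupersolvable G → IsSupersolvable (G ⧸ N) → P (G ⧸ N) → P G)
    (G : Type u) [Group G] [Finite G] (hG : IsSupersolvable G) : P G := by
  have key : ∀ (n : ℕ) (G : Type u) [Group G] [Finite G], Nat.card G = n → IsSupersolvable G → P G := by
    intro n
    induction n using Nat.strong_induction_on with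
    | _ n ih =>
    intro G _ _ hn hG
    by_cases htriv : Subsingleton G
    · exact h0 G
    rw [not_subsingleton_iff_nontrivial] at htriv
    obtain ⟨N, hNn, hNp, hQ⟩ := exists_prime_order_normal_of_isSupersolvable hG
    apply hstep G N hNp hG hQ
    have hNne : N ≠ ⊥ := by
      intro h
      rw [h, Subgroup.card_bot] at hNp
      exact Nat.not_prime_one hNp
    exact ih _ (hn ▸ card_quotient_lt_of_ne_bot N hNne) (G ⧸ N) rfl hQ
  exact key _ G rfl hG

end Cfsg.Agent.Lib.Helper1
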