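import Mathlib
import Cfsg.Prelude.Def_SolvableStructure
import Cfsg.Agent.Lib.Helper1.SupersolvablePrime
import Cfsg.Agent.Lib.Helper1.Hall

/-! Supersolvable groups have subgroups of every order dividing the group order. -/
set_option autoImplicit false
universe u v
open Cfsg
namespace Cfsg.Agent.Lib.Helper1
variable {G : Type u} [Group G]

/-- A group of order `d * p` (`p` prime not dividing `d`) with a normal subgroup of order `p`
has a subgroup of order `d`. -/
theorem exists_subgroup_card_of_normal_prime [Finite G] (N : Subgroup G) [N.Normal] (d : ℕ)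
    (hcop : (Nat.card N).Coprime d) (hcard : Nat.card G = Nat.card N * d) :
    ∃ H : Subgroup G, Nat.card H = d := by
  have hidx : N.index = d := by
    have h1 := N.card_mul_index
    rw [hcard] at h1
    exact Nat.eq_of_mul_eq_mul_left Nat.card_pos h1
  obtain ⟨H, hH⟩ := Subgroup.exists_right_complement'_of_coprime (N := N) (by rw [hidx]; exact hcop)
  refine ⟨H, ?_⟩
  have h2 := hH.card_mul_card
  rw [hcard] at h2
  exact Nat.eq_of_mul_eq_mul_left Nat.card_pos h2

theorem hasSubgroupOfEveryOrder_of_isSupersolvable (G : Type u) [Group G] [Finite G]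
    (hG : IsSupersolvable G) : HasSubgroupOfEveryOrder G := by
  have := supersolvable_induction_prime
    (fun G _ => Finite G → HasSubgroupOfEveryOrder G) ?_ ?_ G hG
  · exact this inferInstance
  · intro G _ _ _ d hd
    rw [Nat.card_unique] at hd
    have : d = 1 := Nat.dvd_one.mp hd
    exact ⟨⊥, by rw [this, Subgroup.card_bot]⟩
  · intro G _ _ N _ hNp _ _ ih _ d hd
    have ih' := ih inferInstance
    have hGcard : Nat.card G = Nat.card N * Nat.card (G ⧸ N) := by
      rw [← Subgroup.index_eq_card, Subgroup.card_mul_index]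
    by_cases hpd : Nat.card N ∣ d
    · obtain ⟨d', rfl⟩ := hpd
      have hd' : d' ∣ Nat.card (G ⧸ N) := by
        rw [hGcard] at hd
        exact Nat.dvd_of_mul_dvd_mul_left Nat.card_pos hd
      obtain ⟨K, hK⟩ := ih' d' hd'
      exact ⟨K.comap (QuotientGroup.mk' N), by rw [card_comap_mk', hK]⟩
    · have hcop : (Nat.card N).Coprime d := (Nat.Prime.coprime_iff_not_dvd hNp).mpr hpd
      have hd' : d ∣ Nat.card (G ⧸ N) := by
        rw [hGcard] at hd
        exact hcop.symm.dvd_of_dvd_mul_left hd
      obtain ⟨K, hK⟩ := ih' d hd'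
      obtain ⟨L, hL⟩ : ∃ L : Subgroup G, L = K.comap (QuotientGroup.mk' N) := ⟨_, rfl⟩
      have hLcard : Nat.card L = Nat.card N * d := by rw [hL, card_comap_mk', hK]
      have hNL : N ≤ L := by
        rw [hL]
        intro x hx
        rw [Subgroup.mem_comap]
        have : (QuotientGroup.mk' N) x = 1 := (QuotientGroup.eq_one_iff x).mpr hx
        rw [this]; exact K.one_mem
      have hN'card : Nat.card (N.subgroupOf L) = Nat.card N := card_subgroupOf_of_le hNL
      obtain ⟨H, hH⟩ := exists_subgroup_card_of_normal_prime (G := L) (N.subgroupOf L) d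
        (by rw [hN'card]; exact hcop) (by rw [hN'card, hLcard])
      exact ⟨H.map L.subtype, by rw [Subgroup.card_map_of_injective L.subtype_injective, hH]⟩

end Cfsg.Agent.Lib.Helper1
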