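import Mathlib
import Cfsg.Prelude.Def_SolvableStructure
import Cfsg.Agent.Lib.Helper1.SupersolvableBasic
import Cfsg.Agent.Lib.Helper1.SupersolvableCLT
import Cfsg.Agent.Lib.Helper1.BestOffender
import Cfsg.Agent.Lib.Helper1.SubnormalSylow
import Cfsg.Agent.Lib.Helper1.Hall
set_option autoImplicit false
universe u v
open Cfsg
namespace Cfsg.Agent.Lib.Helper1
variable {G : Type u} [Group G]

theorem hasSubgroupOfEveryOrder_of_mulEquiv {G' : Type v} [Group G'] (e : G ≃* G')
    (h : HasSubgroupOfEveryOrder G) : HasSubgroupOfEveryOrder G' := by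
  intro d hd
  rw [← Nat.card_congr e.toEquiv] at hd
  obtain ⟨H, hH⟩ := h d hd
  refine ⟨H.map e.toMonoidHom, ?_⟩
  rw [← hH]
  exact Subgroup.card_map_of_injective e.injective

/-- the hereditary CLT property -/
def HereditaryCLT (G : Type u) [Group G] : Prop :=
  ∀ H : Subgroup G, HasSubgroupOfEveryOrder H

theorem HereditaryCLT.subgroup (h : HereditaryCLT G) (M : Subgroup G) : HereditaryCLT M := by
  intro K
  exact hasSubgroupOfEveryOrder_of_mulEquiv
    (Subgroup.equivMapOfInjective K M.subtype (Subgroup.subtype_injective M)).symm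
    (h (K.map M.subtype))

theorem HereditaryCLT.self (h : HereditaryCLT G) : HasSubgroupOfEveryOrder G :=
  hasSubgroupOfEveryOrder_of_mulEquiv Subgroup.topEquiv (h ⊤)

theorem normal_sylow_largest_of_hereditaryCLT_aux (n : ℕ) :
    ∀ (G : Type u) [Group G] [Finite G], Nat.card G = n → HereditaryCLT G →
      ∀ (p : ℕ) [Fact p.Prime], p ∣ Nat.card G → (∀ q : ℕ, q.Prime → q ∣ Nat.card G → q ≤ p) →
        ∀ P : Sylow p G, (P : Subgroup G).Normal := by
  induction n using Nat.strong_induction_on with
  | _ n ih =>
    intro G _ _ hcard h p hp hdvd hmax P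
    have hG1 : Nat.card G ≠ 1 := by
      intro h1
      rw [h1] at hdvd
      exact hp.out.one_lt.ne' (Nat.dvd_one.mp hdvd)
    obtain ⟨q, hq⟩ : ∃ q, q = (Nat.card G).minFac := ⟨_, rfl⟩
    have hqp : q.Prime := by rw [hq]; exact Nat.minFac_prime hG1
    have hqd : q ∣ Nat.card G := by rw [hq]; exact Nat.minFac_dvd _
    by_cases hqeq : q = p
    · -- G is a p-group
      have hall : ∀ r : ℕ, r.Prime → r ∣ Nat.card G → r = p := by
        intro r hr hrd
        apply le_antisymm (hmax r hr hrd)
        rw [← hqeq, hq]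
        exact Nat.minFac_le_of_dvd hr.two_le hrd
      obtain ⟨k, hk⟩ : ∃ k, Nat.card G = p ^ k :=
        ⟨_, Nat.eq_prime_pow_of_unique_prime_dvd Nat.card_pos.ne' (fun {r} hr hrd => hall r hr hrd)⟩
      have hpow : Nat.card G = p ^ (Nat.card G).factorization p := by
        conv_rhs => rw [hk, hp.out.factorization_pow]
        simpa using hk
      have hP := P.card_eq_multiplicity
      rw [← hpow] at hP
      have : (P : Subgroup G) = ⊤ := (Subgroup.card_eq_iff_eq_top _).mp hP
      rw [this]
      infer_instance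
    · have hqlt : q < p := lt_of_le_of_ne (hmax q hqp hqd) hqeq
      obtain ⟨d, hd⟩ := hqd
      obtain ⟨M, hM⟩ := h.self d ⟨q, by rw [hd, mul_comm]⟩
      have hMidx : M.index = q := by
        have h1 := M.card_mul_index
        rw [hM, hd, mul_comm] at h1
        have hd0 : 0 < d := by
          rcases Nat.eq_zero_or_pos d with h0 | h0
          · rw [h0, mul_zero] at hd
            exact absurd hd Nat.card_pos.ne'
          · exact h0
        exact Nat.eq_of_mul_eq_mul_right hd0 h1
      have hMn : M.Normal := Subgroup.normal_of_index_eq_minFac_card (by rw [hMidx, hq])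
      have hpd : p ∣ Nat.card M := by
        rw [hM]
        rw [hd] at hdvd
        rcases (Nat.Prime.dvd_mul hp.out).mp hdvd with h1 | h1
        · exact absurd ((Nat.prime_dvd_prime_iff_eq hp.out hqp).mp h1).symm hqeq
        · exact h1
      have hMlt : Nat.card M < n := by
        rw [← hcard, hM, hd]
        have := hqp.one_lt
        have hd0 : 0 < d := by
          rcases Nat.eq_zero_or_pos d with h0 | h0
          · rw [h0, mul_zero] at hd
            exact absurd hd Nat.card_pos.ne'
          · exact h0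
        nlinarith
      have hmaxM : ∀ r : ℕ, r.Prime → r ∣ Nat.card M → r ≤ p := by
        intro r hr hrd
        exact hmax r hr (dvd_trans hrd (Subgroup.card_subgroup_dvd_card M))
      let Q : Sylow p M := default
      have hQn : (Q : Subgroup M).Normal := ih _ hMlt M rfl (h.subgroup M) p hpd hmaxM Q
      have : (Q : Subgroup M).Characteristic := Sylow.characteristic_of_normal Q hQn
      have hQ'n : ((Q : Subgroup M).map M.subtype).Normal := inferInstance
      have hfac : (Nat.card G).factorization p = (Nat.card M).factorization p := by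
        rw [hd, hM, Nat.factorization_mul hqp.ne_zero (by
          rintro rfl
          rw [mul_zero] at hd
          exact absurd hd Nat.card_pos.ne')]
        have : (Nat.factorization q) p = 0 := by
          apply Nat.factorization_eq_zero_of_not_dvd
          intro h1
          exact hqeq ((Nat.prime_dvd_prime_iff_eq hp.out hqp).mp h1).symm
        simp [this]
      have hQ'card : Nat.card ((Q : Subgroup M).map M.subtype) = p ^ (Nat.card G).factorization p := by
        rw [Subgroup.card_map_of_injective (Subgroup.subtype_injective M), hfac]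
        exact Q.card_eq_multiplicity
      let P' : Sylow p G := Sylow.ofCard _ hQ'card
      have hP'n : (P' : Subgroup G).Normal := hQ'n
      have := Sylow.unique_of_normal P' hP'n
      have : P = P' := Subsingleton.elim _ _
      rw [this]
      exact hP'n

theorem normal_sylow_largest_of_hereditaryCLT [Finite G] (h : HereditaryCLT G)
    (p : ℕ) [Fact p.Prime] (hdvd : p ∣ Nat.card G)
    (hmax : ∀ q : ℕ, q.Prime → q ∣ Nat.card G → q ≤ p) (P : Sylow p G) :
    (P : Subgroup G).Normal :=
  normal_sylow_largest_of_hereditaryCLT_aux _ G rfl h p hdvd hmax P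


theorem exists_minimal_normal_le [Finite G] (Z : Subgroup G) [hZn : Z.Normal] (hZ : Z ≠ ⊥) :
    ∃ N : Subgroup G, N ≤ Z ∧ N.Normal ∧ N ≠ ⊥ ∧
      ∀ M : Subgroup G, M.Normal → M ≤ N → M = ⊥ ∨ M = N := by
  let S : Set (Subgroup G) := {N | N.Normal ∧ N ≠ ⊥}
  have hS : S.Finite := Set.toFinite S
  have htop : Z ∈ S := ⟨hZn, hZ⟩
  obtain ⟨N, hNZ, hNmin⟩ := hS.exists_le_minimal htop
  refine ⟨N, hNZ, hNmin.prop.1, hNmin.prop.2, ?_⟩
  intro M hMn hMN
  by_cases hM : M = ⊥
  · exact Or.inl hM
  · right
    exact le_antisymm hMN (hNmin.le_of_le ⟨hMn, hM⟩ hMN)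

theorem minimal_normal_card_prime_of_clt [Finite G] (p : ℕ) [hp : Fact p.Prime] (P : Sylow p G)
    (N : Subgroup G) [hNn : N.Normal] (hNne : N ≠ ⊥) (hNP : N ≤ P)
    (hNc : (P : Subgroup G) ≤ Subgroup.centralizer (N : Set G))
    (hmin : ∀ M : Subgroup G, M.Normal → M ≤ N → M = ⊥ ∨ M = N)
    (K : Subgroup G) (hK : Subgroup.IsComplement' (P : Subgroup G) K)
    (hclt : HasSubgroupOfEveryOrder ↥(N ⊔ K)) : Nat.card N = p := by
  have hNp : IsPGroup p N := P.2.to_le hNP
  have hpN : p ∣ Nat.card N := by
    obtain ⟨k, hk⟩ := hNp.exists_card_eq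
    have hk0 : k ≠ 0 := by
      rintro rfl
      rw [pow_zero] at hk
      exact hNne ((Subgroup.card_eq_one).mp hk)
    rw [hk]
    exact dvd_pow_self p hk0
  have hKcop : ¬ p ∣ Nat.card K := by
    have h1 := hK.card_mul_card
    have h2 := (P : Subgroup G).card_mul_index
    have h3 : Nat.card K = (P : Subgroup G).index := by
      have : Nat.card P * Nat.card K = Nat.card P * (P : Subgroup G).index := by rw [h1, h2]
      exact Nat.eq_of_mul_eq_mul_left Nat.card_pos this
    rw [h3]
    exact P.not_dvd_index
  obtain ⟨T, hT⟩ : ∃ T : Subgroup G, T = N ⊔ K := ⟨_, rfl⟩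
  rw [← hT] at hclt
  have hNT : N ≤ T := by rw [hT]; exact le_sup_left
  have hKT : K ≤ T := by rw [hT]; exact le_sup_right
  have hpT : p ∣ Nat.card T := dvd_trans hpN (Subgroup.card_dvd_of_le hNT)
  obtain ⟨d, hd⟩ := hpT
  obtain ⟨L', hL'⟩ := hclt d ⟨p, by rw [hd, mul_comm]⟩
  obtain ⟨L, hL⟩ : ∃ L : Subgroup G, L = L'.map T.subtype := ⟨_, rfl⟩
  have hLT : L ≤ T := by rw [hL]; exact Subgroup.map_subtype_le L'
  have hLcard : Nat.card L = d := by
    rw [hL, Subgroup.card_map_of_injective (Subgroup.subtype_injective T), hL']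
  have hd0 : 0 < d := by rw [← hLcard]; exact Nat.card_pos
  have hLrel : L.relIndex T = p := by
    have h1 := relIndex_mul_card_inf L T
    rw [inf_of_le_left hLT, hLcard, hd] at h1
    exact Nat.eq_of_mul_eq_mul_right hd0 h1
  -- (1) N ≰ L
  have h1 : ¬ N ≤ L := by
    intro hNL
    have h2 : L.relIndex T ∣ N.relIndex T := Subgroup.relIndex_dvd_of_le_left (L := T) hNL
    have h3 : N.relIndex T = N.relIndex K := by rw [hT]; exact Subgroup.relIndex_sup_left K N
    have h4 : N.relIndex K ∣ Nat.card K := Subgroup.relIndex_dvd_card N K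
    rw [hLrel, h3] at h2
    exact hKcop (dvd_trans h2 h4)
  -- (2) L ⊔ N = T
  have h2 : L ⊔ N = T := by
    have hle : L ⊔ N ≤ T := sup_le hLT hNT
    have hlt : L < L ⊔ N := by
      apply lt_of_le_of_ne le_sup_left
      intro h
      apply h1
      rw [h]; exact le_sup_right
    have e1 := Subgroup.relIndex_mul_relIndex (H := L) (K := L ⊔ N) (L := T) le_sup_left hle
    rw [hLrel] at e1
    have e2 : L.relIndex (L ⊔ N) ≠ 1 := by
      intro h
      rw [Subgroup.relIndex_eq_one] at h
      exact absurd (le_antisymm le_sup_left h) hlt.ne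
    have e3 : L.relIndex (L ⊔ N) = p := by
      rcases (Nat.dvd_prime hp.out).mp ⟨_, e1.symm⟩ with h | h
      · exact absurd h e2
      · exact h
    rw [e3] at e1
    have e4 : (L ⊔ N).relIndex T = 1 := by
      have : p * (L ⊔ N).relIndex T = p * 1 := by rw [e1, mul_one]
      exact Nat.eq_of_mul_eq_mul_left hp.out.pos this
    rw [Subgroup.relIndex_eq_one] at e4
    exact le_antisymm hle e4
  -- N is abelian (central in P)
  have hNab : N ≤ Subgroup.centralizer (N : Set G) := le_trans hNP hNc
  -- (3) D normal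
  obtain ⟨D, hD⟩ : ∃ D : Subgroup G, D = L ⊓ N := ⟨_, rfl⟩
  have hDN : D ≤ N := by rw [hD]; exact inf_le_right
  have hcent : Subgroup.centralizer (N : Set G) ≤ Subgroup.normalizer (D : Set G) := by
    intro g hg
    rw [Subgroup.mem_normalizer_iff]
    intro x
    rw [Subgroup.mem_centralizer_iff] at hg
    constructor
    · intro hx
      have := hg x (hDN hx)
      rw [← this, mul_inv_cancel_right]; exact hx
    · intro hx
      have hxN : x ∈ N := by
        have := hNn.conj_mem _ (hDN hx) g⁻¹
        have e : g⁻¹ * (g * x * g⁻¹) * g⁻¹⁻¹ = x := by group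
        rwa [e] at this
      have := hg x hxN
      rw [← this, mul_inv_cancel_right] at hx; exact hx
  have hLnorm : L ≤ Subgroup.normalizer (D : Set G) := by
    intro l hl
    rw [Subgroup.mem_normalizer_iff]
    intro x
    rw [hD]
    constructor
    · intro hx
      exact Subgroup.mem_inf.mpr ⟨L.mul_mem (L.mul_mem hl (Subgroup.mem_inf.mp hx).1) (L.inv_mem hl),
        hNn.conj_mem x (Subgroup.mem_inf.mp hx).2 l⟩
    · intro hx
      have a1 := L.mul_mem (L.mul_mem (L.inv_mem hl) (Subgroup.mem_inf.mp hx).1) hl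
      have a2 := hNn.conj_mem _ (Subgroup.mem_inf.mp hx).2 l⁻¹
      have e : l⁻¹ * (l * x * l⁻¹) * l⁻¹⁻¹ = x := by group
      have e' : l⁻¹ * (l * x * l⁻¹) * l = x := by group
      rw [e] at a2
      rw [e'] at a1
      exact Subgroup.mem_inf.mpr ⟨a1, a2⟩
  have hDn : D.Normal := by
    rw [← Subgroup.normalizer_eq_top_iff, eq_top_iff, ← hK.sup_eq_top]
    apply sup_le (le_trans hNc hcent)
    apply le_trans hKT
    rw [← h2]
    exact sup_le hLnorm (le_trans hNab hcent)
  -- (4) D = ⊥
  have hDbot : D = ⊥ := by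
    rcases hmin D hDn hDN with h | h
    · exact h
    · exfalso
      apply h1
      rw [← h, hD]; exact inf_le_left
  -- (5)
  have h5 := card_mul_card_le_card_sup_mul_card_inf L N
  rw [← hD, hDbot, Subgroup.card_bot, mul_one, h2, hd, hLcard, mul_comm] at h5
  have h6 : Nat.card N ≤ p := Nat.le_of_mul_le_mul_right h5 hd0
  exact le_antisymm h6 (Nat.le_of_dvd Nat.card_pos hpN)


theorem hasSubgroupOfEveryOrder_quotient_of_prime [Finite G] (h : HereditaryCLT G) (N : Subgroup G)
    [hNn : N.Normal] (p : ℕ) (hp : p.Prime) (hN : Nat.card N = p) :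
    HasSubgroupOfEveryOrder (G ⧸ N) := by
  intro d hd
  have hcard : Nat.card (G ⧸ N) * p = Nat.card G := by
    rw [← hN, mul_comm, ← Subgroup.index_eq_card]; exact N.card_mul_index
  have hd' : d * p ∣ Nat.card G := by rw [← hcard]; exact Nat.mul_dvd_mul_right hd p
  obtain ⟨D₁, hD₁⟩ := h.self (d * p) hd'
  have hd0 : 0 < d := Nat.pos_of_dvd_of_pos hd Nat.card_pos
  -- find E ≥ N with card E = d * p
  have hE : ∃ E : Subgroup G, N ≤ E ∧ Nat.card E = d * p := by
    by_cases hND : N ≤ D₁
    · exact ⟨D₁, hND, hD₁⟩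
    · have hinf : N ⊓ D₁ = ⊥ := by
        have h1 : Nat.card (N ⊓ D₁ : Subgroup G) ∣ p := by
          rw [← hN]; exact Subgroup.card_dvd_of_le inf_le_left
        rcases (Nat.dvd_prime hp).mp h1 with h2 | h2
        · exact Subgroup.card_eq_one.mp h2
        · exfalso
          apply hND
          have : N ⊓ D₁ = N := by
            apply Subgroup.eq_of_le_of_card_ge inf_le_left
            rw [h2, hN]
          rw [← this]; exact inf_le_right
      obtain ⟨D₂', hD₂'⟩ := h D₁ d ⟨p, by rw [hD₁]⟩
      obtain ⟨D₂, hD₂⟩ : ∃ D₂ : Subgroup G, D₂ = D₂'.map D₁.subtype := ⟨_, rfl⟩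
      have hD₂le : D₂ ≤ D₁ := by rw [hD₂]; exact Subgroup.map_subtype_le D₂'
      have hD₂card : Nat.card D₂ = d := by
        rw [hD₂, Subgroup.card_map_of_injective (Subgroup.subtype_injective D₁), hD₂']
      have hinf2 : N ⊓ D₂ = ⊥ := by
        apply le_bot_iff.mp
        rw [← hinf]
        exact inf_le_inf_left N hD₂le
      refine ⟨D₂ ⊔ N, le_sup_right, ?_⟩
      have e1 := relIndex_mul_card_inf N D₂
      rw [hinf2, Subgroup.card_bot, mul_one, hD₂card] at e1
      have e2 := relIndex_mul_card_inf N (D₂ ⊔ N)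
      rw [inf_of_le_left le_sup_right, Subgroup.relIndex_sup_right D₂ N, e1, hN] at e2
      exact e2.symm
  obtain ⟨E, hNE, hEcard⟩ := hE
  refine ⟨E.map (QuotientGroup.mk' N), ?_⟩
  have e1 := card_comap_mk' N (E.map (QuotientGroup.mk' N))
  rw [Subgroup.comap_map_eq, QuotientGroup.ker_mk', sup_of_le_left hNE, hEcard, hN, mul_comm] at e1
  exact (Nat.eq_of_mul_eq_mul_left hp.pos e1).symm

theorem hereditaryCLT_quotient_of_prime [Finite G] (h : HereditaryCLT G) (N : Subgroup G)
    [hNn : N.Normal] (p : ℕ) (hp : p.Prime) (hN : Nat.card N = p)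
    (hss : ∀ L : Subgroup G, L ≠ ⊤ → IsSupersolvable L) : HereditaryCLT (G ⧸ N) := by
  intro X
  by_cases hL : X.comap (QuotientGroup.mk' N) = ⊤
  · have hX : X = ⊤ := by
      rw [← Subgroup.map_comap_eq_self_of_surjective (QuotientGroup.mk'_surjective N) X, hL,
        Subgroup.map_top_of_surjective _ (QuotientGroup.mk'_surjective N)]
    rw [hX]
    exact hasSubgroupOfEveryOrder_of_mulEquiv Subgroup.topEquiv.symm
      (hasSubgroupOfEveryOrder_quotient_of_prime h N p hp hN)
  · have h1 := hss _ hL
    have h2 : IsSupersolvable X :=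
      isSupersolvable_of_surjective ((QuotientGroup.mk' N).subgroupComap X)
        ((QuotientGroup.mk' N).subgroupComap_surjective_of_surjective X
          (QuotientGroup.mk'_surjective N)) h1
    exact hasSubgroupOfEveryOrder_of_isSupersolvable _ h2

theorem isSupersolvable_of_hereditaryCLT_aux (n : ℕ) :
    ∀ (G : Type u) [Group G] [Finite G], Nat.card G = n → HereditaryCLT G → IsSupersolvable G := by
  induction n using Nat.strong_induction_on with
  | _ n ih =>
    intro G _ _ hcard h
    rcases subsingleton_or_nontrivial G with hs | hnt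
    · exact isSupersolvable_of_subsingleton
    · have hG1 : Nat.card G ≠ 1 := by
        intro h1
        have := (Nat.card_eq_one_iff_unique.mp h1).1
        exact not_subsingleton G this
      -- largest prime
      have hne : (Nat.card G).primeFactors.Nonempty := by
        rw [Nat.nonempty_primeFactors]
        have := Nat.card_pos (α := G)
        omega
      obtain ⟨p, hp⟩ : ∃ p, p = (Nat.card G).primeFactors.max' hne := ⟨_, rfl⟩
      have hpmem : p ∈ (Nat.card G).primeFactors := by rw [hp]; exact Finset.max'_mem _ _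
      have hpp : p.Prime := Nat.prime_of_mem_primeFactors hpmem
      have hpd : p ∣ Nat.card G := Nat.dvd_of_mem_primeFactors hpmem
      have hmax : ∀ q : ℕ, q.Prime → q ∣ Nat.card G → q ≤ p := by
        intro q hq hqd
        rw [hp]
        apply Finset.le_max'
        exact Nat.mem_primeFactors.mpr ⟨hq, hqd, Nat.card_pos.ne'⟩
      have : Fact p.Prime := ⟨hpp⟩
      let P : Sylow p G := default
      have hPn : (P : Subgroup G).Normal := normal_sylow_largest_of_hereditaryCLT h p hpd hmax P
      have hss : ∀ L : Subgroup G, L ≠ ⊤ → IsSupersolvable L := by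
        intro L hL
        exact ih (Nat.card L) (by rw [← hcard]; exact card_lt_of_ne_top L hL) L rfl (h.subgroup L)
      -- Z
      have hPne : (P : Subgroup G) ≠ ⊥ := by
        intro hbot
        have h1 := P.card_eq_multiplicity
        rw [hbot, Subgroup.card_bot] at h1
        have h2 : 0 < (Nat.card G).factorization p :=
          hpp.factorization_pos_of_dvd Nat.card_pos.ne' hpd
        have h3 := Nat.one_lt_pow h2.ne' hpp.one_lt
        omega
      obtain ⟨Z, hZ⟩ : ∃ Z : Subgroup G, Z = (P : Subgroup G) ⊓ Subgroup.centralizer (P : Set G) :=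
        ⟨_, rfl⟩
      have hCn : (Subgroup.centralizer ((P : Subgroup G) : Set G)).Normal :=
        Subgroup.normal_centralizer
      have hZn : Z.Normal := by rw [hZ]; exact Subgroup.normal_inf_normal _ _
      have hZne : Z ≠ ⊥ := by
        have : Nontrivial (P : Subgroup G) := (Subgroup.nontrivial_iff_ne_bot _).mpr hPne
        have hc : Nontrivial (Subgroup.center (P : Subgroup G)) := P.2.center_nontrivial
        obtain ⟨z, hz⟩ := exists_ne (1 : Subgroup.center (P : Subgroup G))
        intro hbot
        apply hz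
        have hzZ : ((z : (P : Subgroup G)) : G) ∈ Z := by
          rw [hZ]
          refine Subgroup.mem_inf.mpr ⟨(z : (P : Subgroup G)).2, ?_⟩
          rw [Subgroup.mem_centralizer_iff]
          intro u hu
          have := Subgroup.mem_center_iff.mp z.2 ⟨u, hu⟩
          have h2 := congrArg (fun a : (P : Subgroup G) => (a : G)) this
          simpa using h2
        rw [hbot, Subgroup.mem_bot] at hzZ
        apply Subtype.ext
        apply Subtype.ext
        simpa using hzZ
      obtain ⟨N, hNZ, hNn, hNne, hNmin⟩ := exists_minimal_normal_le Z hZne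
      have hNP : N ≤ P := le_trans hNZ (by rw [hZ]; exact inf_le_left)
      have hNc : (P : Subgroup G) ≤ Subgroup.centralizer (N : Set G) := by
        rw [Subgroup.le_centralizer_iff]
        exact le_trans hNZ (by rw [hZ]; exact inf_le_right)
      obtain ⟨K, hK⟩ := Subgroup.exists_right_complement'_of_coprime P.card_coprime_index
      have hNcard : Nat.card N = p :=
        minimal_normal_card_prime_of_clt p P N hNne hNP hNc hNmin K hK (h (N ⊔ K))
      have : Fact (Nat.card N).Prime := ⟨by rw [hNcard]; exact hpp⟩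
      have : IsCyclic N := isCyclic_of_prime_card rfl
      apply isSupersolvable_of_quotient_cyclic N
      apply ih (Nat.card (G ⧸ N)) _ (G ⧸ N) rfl
        (hereditaryCLT_quotient_of_prime h N p hpp hNcard hss)
      rw [← hcard]
      exact card_quotient_lt_of_ne_bot N hNne

theorem isSupersolvable_of_hereditaryCLT [Finite G] (h : HereditaryCLT G) : IsSupersolvable G :=
  isSupersolvable_of_hereditaryCLT_aux _ G rfl h

end Cfsg.Agent.Lib.Helper1
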