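import Mathlib
import Cfsg.Prelude.Def_SolvableStructure
import Cfsg.Agent.Lib.Helper1.SupersolvablePrime
import Cfsg.Agent.Lib.Helper1.SubnormalSylow

/-! Supersolvable groups: maximal subgroups have prime index. -/
set_option autoImplicit false
universe u v
open Cfsg
namespace Cfsg.Agent.Lib.Helper1
variable {G : Type u} [Group G]

theorem isCoatom_map_mk' (N M : Subgroup G) [N.Normal] (hNM : N ≤ M) (hM : IsCoatom M) :
    IsCoatom (M.map (QuotientGroup.mk' N)) := by
  have hsurj := QuotientGroup.mk'_surjective N
  have hcm : (M.map (QuotientGroup.mk' N)).comap (QuotientGroup.mk' N) = M := by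
    rw [Subgroup.comap_map_eq, QuotientGroup.ker_mk', sup_eq_left.mpr hNM]
  constructor
  · intro h
    apply hM.1
    rw [← hcm, h, Subgroup.comap_top]
  · intro K' hK'
    have h1 : M ≤ K'.comap (QuotientGroup.mk' N) := by
      rw [← hcm]; exact Subgroup.comap_mono hK'.le
    have h2 : M ≠ K'.comap (QuotientGroup.mk' N) := by
      intro h
      apply hK'.ne
      rw [h, Subgroup.map_comap_eq_self_of_surjective hsurj]
    have h3 := hM.2 _ (lt_of_le_of_ne h1 h2)
    rw [← Subgroup.map_comap_eq_self_of_surjective hsurj K', h3,
      Subgroup.map_top_of_surjective _ hsurj]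

theorem index_map_mk' [Finite G] (N M : Subgroup G) [N.Normal] (hNM : N ≤ M) :
    (M.map (QuotientGroup.mk' N)).index = M.index := by
  apply Subgroup.index_map_eq _ (QuotientGroup.mk'_surjective N)
  rw [QuotientGroup.ker_mk']; exact hNM

theorem index_prime_of_isCoatom_of_isSupersolvable (G : Type u) [Group G] [Finite G]
    (hG : IsSupersolvable G) (M : Subgroup G) (hM : IsCoatom M) : M.index.Prime := by
  have := supersolvable_induction_prime
    (fun G _ => Finite G → ∀ M : Subgroup G, IsCoatom M → M.index.Prime) ?_ ?_ G hG
  · exact this inferInstance M hM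
  · intro G _ _ _ M hM
    exact absurd (Subsingleton.elim M ⊤) hM.1
  · intro G _ _ N _ hNp _ _ ih _ M hM
    by_cases hNM : N ≤ M
    · rw [← index_map_mk' N M hNM]
      exact ih inferInstance _ (isCoatom_map_mk' N M hNM hM)
    · have hsup : M ⊔ N = ⊤ := by
        apply hM.2
        apply lt_of_le_of_ne le_sup_left
        intro h
        apply hNM
        rw [h]; exact le_sup_right
      have h1 : M.relIndex N = M.index := by
        rw [relIndex_eq_relIndex_sup_of_normal, hsup, Subgroup.relIndex_top_right]
      have h2 : M ⊓ N = ⊥ := by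
        have hd : Nat.card (M ⊓ N : Subgroup G) ∣ Nat.card N :=
          Subgroup.card_dvd_of_le inf_le_right
        rcases (Nat.dvd_prime hNp).mp hd with h | h
        · exact Subgroup.card_eq_one.mp h
        · exfalso
          apply hNM
          have : M ⊓ N = N := Subgroup.eq_of_le_of_card_ge inf_le_right h.ge
          rw [← this]; exact inf_le_left
      rw [← h1, ← Subgroup.inf_relIndex_right, h2, Subgroup.relIndex_bot_left]
      exact hNp

end Cfsg.Agent.Lib.Helper1
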