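import Mathlib
import Cfsg.Prelude.Def_SolvableStructure
import Cfsg.Agent.Lib.Helper1.HereditaryCLT
import Cfsg.Agent.Lib.Helper1.FrattiniHall
import Cfsg.Agent.Lib.Helper1.SupersolvableMax
set_option autoImplicit false
universe u v
open Cfsg
open scoped Pointwise
namespace Cfsg.Agent.Lib.Helper1
variable {G : Type u} [Group G]


theorem conj_smul_le_normalizer_conj_smul {H X : Subgroup G} (g : G)
    (h : H ≤ Subgroup.normalizer (X : Set G)) :
    MulAut.conj g • H ≤ Subgroup.normalizer ((MulAut.conj g • X : Subgroup G) : Set G) := by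
  intro y hy
  rw [Subgroup.mem_pointwise_smul_iff_inv_smul_mem] at hy
  have h1 : (MulAut.conj g)⁻¹ • y = g⁻¹ * y * g := by
    rw [← map_inv, MulAut.smul_def, MulAut.conj_apply, inv_inv]
  rw [h1] at hy
  have h2 := conj_smul_eq_of_mem_normalizer (h hy)
  apply mem_normalizer_of_conj_smul_eq
  rw [smul_smul, ← map_mul]
  have : y * g = g * (g⁻¹ * y * g) := by group
  rw [this, map_mul, ← smul_smul, h2]


theorem normal_sylow_largest_of_isSupersolvable [Finite G] (hG : IsSupersolvable G)
    (p : ℕ) [Fact p.Prime] (hdvd : p ∣ Nat.card G)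
    (hmax : ∀ q : ℕ, q.Prime → q ∣ Nat.card G → q ≤ p) (P : Sylow p G) :
    (P : Subgroup G).Normal :=
  normal_sylow_largest_of_hereditaryCLT
    (fun H => hasSubgroupOfEveryOrder_of_isSupersolvable _ (isSupersolvable_subgroup hG H))
    p hdvd hmax P

theorem supersolvable_hall_conj_aux (n : ℕ) :
    ∀ (G : Type u) [Group G] [Finite G] (H K : Subgroup G), Nat.card H = n →
      IsSupersolvable H → IsSupersolvable K → Nat.card H = Nat.card K →
      (Nat.card H).Coprime H.index → ∃ x : G, MulAut.conj x • H = K := by
  induction n using Nat.strong_induction_on with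
  | _ n ih =>
    intro G _ _ H K hn hH hK hcard hHall
    by_cases hn1 : n = 1
    · refine ⟨1, ?_⟩
      have h1 : H = ⊥ := Subgroup.card_eq_one.mp (hn.trans hn1)
      have h2 : K = ⊥ := Subgroup.card_eq_one.mp (hcard.symm.trans (hn.trans hn1))
      rw [h1, h2, map_one, one_smul]
    · have hn0 : n ≠ 0 := by rw [← hn]; exact Nat.card_pos.ne'
      have hne : n.primeFactors.Nonempty := by
        rw [Nat.nonempty_primeFactors]; omega
      obtain ⟨p, hp⟩ : ∃ p, p = n.primeFactors.max' hne := ⟨_, rfl⟩
      have hpmem : p ∈ n.primeFactors := by rw [hp]; exact Finset.max'_mem _ _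
      have hpp : p.Prime := Nat.prime_of_mem_primeFactors hpmem
      have hpd : p ∣ n := Nat.dvd_of_mem_primeFactors hpmem
      have hmax : ∀ q : ℕ, q.Prime → q ∣ n → q ≤ p := by
        intro q hq hqd
        rw [hp]
        apply Finset.le_max'
        exact Nat.mem_primeFactors.mpr ⟨hq, hqd, hn0⟩
      have : Fact p.Prime := ⟨hpp⟩
      have hKn : Nat.card K = n := hcard.symm.trans hn
      let P₁ : Sylow p H := default
      let Q₁ : Sylow p K := default
      have hP₁n : (P₁ : Subgroup H).Normal :=
        normal_sylow_largest_of_isSupersolvable hH p (by rw [hn]; exact hpd)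
          (by rw [hn]; exact hmax) P₁
      have hQ₁n : (Q₁ : Subgroup K).Normal :=
        normal_sylow_largest_of_isSupersolvable hK p (by rw [hKn]; exact hpd)
          (by rw [hKn]; exact hmax) Q₁
      -- factorization
      have hfac : (Nat.card G).factorization p = n.factorization p := by
        rw [← H.card_mul_index, hn, Nat.factorization_mul hn0 (Subgroup.index_ne_zero_of_finite)]
        have : (Nat.factorization H.index) p = 0 := by
          apply Nat.factorization_eq_zero_of_not_dvd
          intro h
          have := Nat.eq_one_of_dvd_coprimes hHall (hn ▸ hpd) h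
          exact hpp.one_lt.ne' this
        simp [this]
      obtain ⟨P', hP'⟩ : ∃ P' : Subgroup G, P' = (P₁ : Subgroup H).map H.subtype := ⟨_, rfl⟩
      obtain ⟨Q', hQ'⟩ : ∃ Q' : Subgroup G, Q' = (Q₁ : Subgroup K).map K.subtype := ⟨_, rfl⟩
      have hP'card : Nat.card P' = p ^ (Nat.card G).factorization p := by
        rw [hP', Subgroup.card_map_of_injective (Subgroup.subtype_injective H), hfac, ← hn]
        exact P₁.card_eq_multiplicity
      have hQ'card : Nat.card Q' = p ^ (Nat.card G).factorization p := by
        rw [hQ', Subgroup.card_map_of_injective (Subgroup.subtype_injective K), hfac, ← hKn]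
        exact Q₁.card_eq_multiplicity
      have hP'H : P' ≤ H := by rw [hP']; exact Subgroup.map_subtype_le _
      have hQ'K : Q' ≤ K := by rw [hQ']; exact Subgroup.map_subtype_le _
      have hHN : H ≤ Subgroup.normalizer (P' : Set G) := by
        rw [← Subgroup.normal_subgroupOf_iff_le_normalizer hP'H]
        have : P'.subgroupOf H = P₁ := by
          rw [hP']
          exact Subgroup.comap_map_eq_self_of_injective (Subgroup.subtype_injective H) _
        rw [this]; exact hP₁n
      have hKN : K ≤ Subgroup.normalizer (Q' : Set G) := by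
        rw [← Subgroup.normal_subgroupOf_iff_le_normalizer hQ'K]
        have : Q'.subgroupOf K = Q₁ := by
          rw [hQ']
          exact Subgroup.comap_map_eq_self_of_injective (Subgroup.subtype_injective K) _
        rw [this]; exact hQ₁n
      obtain ⟨g, hg⟩ := MulAction.exists_smul_eq G (Sylow.ofCard P' hP'card) (Sylow.ofCard Q' hQ'card)
      have hg' : MulAut.conj g • P' = Q' := by
        have := congrArg (fun S : Sylow p G => (S : Subgroup G)) hg
        simpa [Sylow.coe_subgroup_smul] using this
      obtain ⟨H', hH'⟩ : ∃ H' : Subgroup G, H' = MulAut.conj g • H := ⟨_, rfl⟩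
      have hH'card : Nat.card H' = n := by rw [hH', card_conj_smul, hn]
      have hH'idx : H'.index = H.index := by rw [hH', index_conj_smul]
      have hH'ss : IsSupersolvable H' := by
        rw [hH']
        exact isSupersolvable_of_mulEquiv (Subgroup.equivSMul (MulAut.conj g) H) hH
      have hQ'H' : Q' ≤ H' := by
        rw [hH', ← hg']
        exact Subgroup.pointwise_smul_le_pointwise_smul_iff.mpr hP'H
      have hH'N : H' ≤ Subgroup.normalizer (Q' : Set G) := by
        rw [hH', ← hg']
        exact conj_smul_le_normalizer_conj_smul g hHN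
      obtain ⟨L, hL⟩ : ∃ L : Subgroup G, L = Subgroup.normalizer (Q' : Set G) := ⟨_, rfl⟩
      rw [← hL] at hH'N hKN
      have hQ'L : Q' ≤ L := by rw [hL]; exact Subgroup.le_normalizer
      obtain ⟨N, hN⟩ : ∃ N : Subgroup L, N = Q'.subgroupOf L := ⟨_, rfl⟩
      have hNn : N.Normal := by
        rw [hN, hL]; exact Subgroup.normal_in_normalizer
      obtain ⟨H'', hH''⟩ : ∃ H'' : Subgroup L, H'' = H'.subgroupOf L := ⟨_, rfl⟩
      obtain ⟨K'', hK''⟩ : ∃ K'' : Subgroup L, K'' = K.subgroupOf L := ⟨_, rfl⟩
      have hNH'' : N ≤ H'' := by rw [hN, hH'']; exact Subgroup.subgroupOf_mono L hQ'H'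
      have hNK'' : N ≤ K'' := by rw [hN, hK'']; exact Subgroup.subgroupOf_mono L hQ'K
      have hH''card : Nat.card H'' = n := by rw [hH'', card_subgroupOf_of_le hH'N, hH'card]
      have hK''card : Nat.card K'' = n := by rw [hK'', card_subgroupOf_of_le hKN, hKn]
      have hNcard : Nat.card N = p ^ (Nat.card G).factorization p := by
        rw [hN, card_subgroupOf_of_le hQ'L, hQ'card]
      obtain ⟨f, hf0⟩ : ∃ f : L →* L ⧸ N, f = QuotientGroup.mk' N := ⟨_, rfl⟩
      have hf : Function.Surjective f := by rw [hf0]; exact QuotientGroup.mk'_surjective N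
      have hker : f.ker = N := by rw [hf0]; exact QuotientGroup.ker_mk' N
      have hcm : ∀ X : Subgroup L, N ≤ X → Nat.card N * Nat.card (X.map f) = Nat.card X := by
        intro X hX
        have e1 := card_comap_mk' N (X.map f)
        rw [← hf0, Subgroup.comap_map_eq, hker, sup_of_le_left hX] at e1
        exact e1.symm
      have hNgt : 1 < Nat.card N := by
        rw [hNcard, hfac]
        exact Nat.one_lt_pow (hpp.factorization_pos_of_dvd hn0 hpd).ne' hpp.one_lt
      have hlt : Nat.card (H''.map f) < n := by
        have := hcm H'' hNH''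
        rw [hH''card] at this
        have hpos : 0 < Nat.card (H''.map f) := Nat.card_pos
        nlinarith
      have hss1 : IsSupersolvable (H''.map f) := by
        apply isSupersolvable_of_surjective (f.subgroupMap H'') (f.subgroupMap_surjective H'')
        rw [hH'']
        exact isSupersolvable_of_mulEquiv (Subgroup.subgroupOfEquivOfLe hH'N).symm hH'ss
      have hss2 : IsSupersolvable (K''.map f) := by
        apply isSupersolvable_of_surjective (f.subgroupMap K'') (f.subgroupMap_surjective K'')
        rw [hK'']
        exact isSupersolvable_of_mulEquiv (Subgroup.subgroupOfEquivOfLe hKN).symm hK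
      have hcardeq : Nat.card (H''.map f) = Nat.card (K''.map f) := by
        have a := hcm H'' hNH''
        have b := hcm K'' hNK''
        rw [hH''card] at a
        rw [hK''card] at b
        exact Nat.eq_of_mul_eq_mul_left Nat.card_pos (a.trans b.symm)
      have hHall' : (Nat.card (H''.map f)).Coprime (H''.map f).index := by
        have hidx : (H''.map f).index = H''.index := by
          apply Subgroup.index_map_eq _ hf
          rw [hker]; exact hNH''
        rw [hidx]
        have h1 : H''.index ∣ H.index := by
          rw [hH'', ← hH'idx]; exact Subgroup.relIndex_dvd_index_of_le hH'N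
        have h2 : Nat.card (H''.map f) ∣ n := by
          have := hcm H'' hNH''
          rw [hH''card] at this
          exact ⟨Nat.card N, by rw [mul_comm]; exact this.symm⟩
        exact Nat.Coprime.coprime_dvd_left h2 (Nat.Coprime.coprime_dvd_right h1 (hn ▸ hHall))
      obtain ⟨xq, hxq⟩ := ih _ hlt (L ⧸ N) (H''.map f) (K''.map f) rfl hss1 hss2 hcardeq hHall'
      obtain ⟨l, hl⟩ := conj_sup_ker_of_map f hf ⟨xq, hxq⟩
      rw [hker, sup_of_le_left hNK''] at hl
      have hNle : N ≤ MulAut.conj l • H'' := by
        rw [← Subgroup.Normal.conj_smul_eq_self l N]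
        exact Subgroup.pointwise_smul_le_pointwise_smul_iff.mpr hNH''
      rw [sup_of_le_left hNle] at hl
      rw [hH'', hK''] at hl
      have hfin := conj_smul_of_subgroupOf hH'N hKN l hl
      refine ⟨(l : G) * g, ?_⟩
      rw [map_mul, ← smul_smul, ← hH']
      exact hfin

theorem supersolvable_hall_conj [Finite G] (H K : Subgroup G) (hH : IsSupersolvable H)
    (hK : IsSupersolvable K) (hcard : Nat.card H = Nat.card K)
    (hHall : (Nat.card H).Coprime H.index) : ∃ x : G, MulAut.conj x • H = K :=
  supersolvable_hall_conj_aux _ G H K rfl hH hK hcard hHall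

end Cfsg.Agent.Lib.Helper1
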