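import Mathlib
import Cfsg.Agent.Lib.Helper1.FrobeniusConj
import Cfsg.Agent.Lib.Helper1.FpfCyclic
import Cfsg.Agent.Lib.Helper1.SupersolvableHall
set_option autoImplicit false
universe u v
open scoped Pointwise
namespace Cfsg.Agent.Lib.Helper1
variable {G : Type u} [Group G]

/-- Fixed-point-freeness of every nonidentity element outside the kernel. -/
theorem frobenius_centralizer_inf_kernel {H N : Subgroup G} (hH : Cfsg.IsFrobeniusComplement H)
    (hN : (N : Set G) = Cfsg.frobeniusKernel H) (hNn : N.Normal) {h : G} (hh : h ∉ N) :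
    N ⊓ Subgroup.centralizer {h} = ⊥ := by
  have hdisj := frobenius_kernel_inf_eq_bot hN
  have hFK : h ∉ Cfsg.frobeniusKernel H := by rw [← hN]; exact hh
  have hh1 : h ≠ 1 := fun h1 => hFK (Or.inl h1)
  have hex : ∃ g : G, h ∈ MulAut.conj g • H := by
    by_contra hcon
    push Not at hcon
    exact hFK (Or.inr hcon)
  obtain ⟨g, hg⟩ := hex
  rw [eq_bot_iff]
  intro k hk
  obtain ⟨hkN, hkC⟩ := Subgroup.mem_inf.mp hk
  rw [Subgroup.mem_centralizer_singleton_iff] at hkC
  rw [Subgroup.mem_bot]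
  have h1 : k⁻¹ * h * k = h := by
    rw [mul_assoc, ← hkC]; group
  have h2 : k ∈ MulAut.conj g • H := by
    apply frobenius_mem_of_conj_mem (IsFrobeniusComplement.conj hH g) hg hh1
    rw [h1]; exact hg
  rw [mem_conj_smul_iff'] at h2
  have h3 : g⁻¹ * k * g ∈ N := by
    have := hNn.conj_mem k hkN g⁻¹
    simpa using this
  have h4 : g⁻¹ * k * g ∈ N ⊓ H := Subgroup.mem_inf.mpr ⟨h3, h2⟩
  rw [hdisj, Subgroup.mem_bot] at h4
  have e : k = g * (g⁻¹ * k * g) * g⁻¹ := by group
  rw [e, h4]; group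


theorem frobenius_coprime [Finite G] {H N : Subgroup G} (hH : Cfsg.IsFrobeniusComplement H)
    (hN : (N : Set G) = Cfsg.frobeniusKernel H) : (Nat.card N).Coprime (Nat.card H) := by
  have h1 : Nat.card N = H.index := by
    rw [← card_frobeniusKernel hH, ← hN]; rfl
  have h2 := index_mod_card_of_frobenius hH
  rw [h1]
  have h3 : H.index ≡ 1 [MOD Nat.card H] := h2
  have h4 := Nat.ModEq.gcd_eq h3
  unfold Nat.Coprime
  rw [h4]
  exact Nat.gcd_one_left _

theorem frobenius_exists_invariant_abelian [Finite G] {H N : Subgroup G}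
    (hH : Cfsg.IsFrobeniusComplement H) (hN : (N : Set G) = Cfsg.frobeniusKernel H)
    (hNn : N.Normal) (hNc : Subgroup.IsComplement' N H) :
    ∃ V : Subgroup G, V ≠ ⊥ ∧ V ≤ N ∧ IsMulCommutative V ∧
      H ≤ Subgroup.normalizer (V : Set G) := by
  have hNne : N ≠ ⊥ := by
    intro h
    have h1 := hNc.card_mul_card
    rw [h, Subgroup.card_bot, one_mul] at h1
    exact hH.2.1 (Subgroup.eq_top_of_card_eq _ h1)
  have hNcard : Nat.card N ≠ 1 := fun h => hNne (Subgroup.card_eq_one.mp h)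
  obtain ⟨r, hr, hrN⟩ := Nat.exists_prime_and_dvd hNcard
  have : Fact r.Prime := ⟨hr⟩
  obtain ⟨R⟩ : Nonempty (Sylow r N) := inferInstance
  obtain ⟨R', hR'⟩ : ∃ R' : Subgroup G, R' = (R : Subgroup N).map N.subtype := ⟨_, rfl⟩
  have hR'N : R' ≤ N := by rw [hR']; exact Subgroup.map_subtype_le _
  have hR'p : IsPGroup r R' := by rw [hR']; exact R.isPGroup'.map _
  have hR'ne : R' ≠ ⊥ := by
    intro h
    have h1 : Nat.card R' = Nat.card R := by
      rw [hR']; exact Subgroup.card_map_of_injective N.subtype_injective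
    rw [h, Subgroup.card_bot, R.card_eq_multiplicity] at h1
    have h2 : (Nat.card N).factorization r = 0 := by
      by_contra h0
      have : 1 < r ^ (Nat.card N).factorization r :=
        Nat.one_lt_pow h0 hr.one_lt
      omega
    have h3 := (Nat.factorization_eq_zero_iff _ _).mp h2
    rcases h3 with h3 | h3 | h3
    · exact h3 hr
    · exact h3 hrN
    · exact Nat.card_pos.ne' h3
  obtain ⟨L, hL⟩ : ∃ L : Subgroup G, L = Subgroup.normalizer (R' : Set G) := ⟨_, rfl⟩
  have hLN : L ⊔ N = ⊤ := by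
    rw [hL, hR']; exact Sylow.normalizer_sup_eq_top R
  obtain ⟨V₀, hV₀⟩ : ∃ V₀ : Subgroup G, V₀ = R' ⊓ Subgroup.centralizer (R' : Set G) := ⟨_, rfl⟩
  have hV₀ne : V₀ ≠ ⊥ := by
    have : Nontrivial R' := (Subgroup.nontrivial_iff_ne_bot R').mpr hR'ne
    have hc := hR'p.center_nontrivial
    obtain ⟨z, hz⟩ := exists_ne (1 : Subgroup.center R')
    intro h
    have hmem : ((z : R') : G) ∈ V₀ := by
      rw [hV₀]
      refine Subgroup.mem_inf.mpr ⟨(z : R').2, ?_⟩
      rw [Subgroup.mem_centralizer_iff]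
      intro y hy
      have := Subgroup.mem_center_iff.mp z.2 ⟨y, hy⟩
      exact congrArg Subtype.val this
    rw [h, Subgroup.mem_bot] at hmem
    apply hz
    apply Subtype.ext
    apply Subtype.ext
    exact hmem
  have hV₀comm : IsMulCommutative V₀ := by
    refine ⟨⟨fun a b => ?_⟩⟩
    apply Subtype.ext
    have ha : (a : G) ∈ R' ⊓ Subgroup.centralizer (R' : Set G) := hV₀ ▸ a.2
    have hb : (b : G) ∈ R' ⊓ Subgroup.centralizer (R' : Set G) := hV₀ ▸ b.2
    have := Subgroup.mem_centralizer_iff.mp (Subgroup.mem_inf.mp hb).2 a (Subgroup.mem_inf.mp ha).1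
    exact this
  have hLV₀ : L ≤ Subgroup.normalizer (V₀ : Set G) := by
    rw [hL]
    apply le_normalizer_of_conj_mem
    intro x hx z hz
    rw [hV₀] at hz ⊢
    obtain ⟨hz1, hz2⟩ := Subgroup.mem_inf.mp hz
    refine Subgroup.mem_inf.mpr ⟨(Subgroup.mem_normalizer_iff.mp hx z).mp hz1, ?_⟩
    rw [Subgroup.mem_centralizer_iff]
    intro y hy
    have hy' : x⁻¹ * y * x ∈ R' := by
      have := (Subgroup.mem_normalizer_iff.mp (Subgroup.inv_mem _ hx) y).mp hy
      simpa using this
    have h1 := Subgroup.mem_centralizer_iff.mp hz2 _ hy'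
    calc y * (x * z * x⁻¹) = x * ((x⁻¹ * y * x) * z) * x⁻¹ := by group
      _ = x * (z * (x⁻¹ * y * x)) * x⁻¹ := by rw [h1]
      _ = x * z * x⁻¹ * y := by group
  -- Schur–Zassenhaus inside L
  have hcopNH := frobenius_coprime hH hN
  have hK'n : (N.subgroupOf L).Normal := Subgroup.normal_subgroupOf
  have hidx : (N.subgroupOf L).index = Nat.card H := by
    have h1 : (N.subgroupOf L).index = N.relIndex L := rfl
    rw [h1, ← Subgroup.relIndex_sup_right, hLN, Subgroup.relIndex_top_right]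
    exact hNc.symm.index_eq_card
  have hcop : (Nat.card (N.subgroupOf L)).Coprime (N.subgroupOf L).index := by
    rw [hidx]
    exact Nat.Coprime.coprime_dvd_left (card_subgroupOf_dvd N L) hcopNH
  obtain ⟨H₁', hH₁'⟩ := Subgroup.exists_right_complement'_of_coprime hcop
  obtain ⟨H₁, hH₁⟩ : ∃ H₁ : Subgroup G, H₁ = H₁'.map L.subtype := ⟨_, rfl⟩
  have hH₁L : H₁ ≤ L := by rw [hH₁]; exact Subgroup.map_subtype_le _
  have hH₁card : Nat.card H₁ = Nat.card H := by
    rw [hH₁, Subgroup.card_map_of_injective L.subtype_injective, ← hidx]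
    exact hH₁'.symm.index_eq_card.symm
  have hdisj₁ : Disjoint N H₁ := by
    rw [Subgroup.disjoint_def]
    intro x hxN hxH₁
    rw [hH₁] at hxH₁
    obtain ⟨y, hy, rfl⟩ := hxH₁
    have h1 : y ∈ N.subgroupOf L ⊓ H₁' :=
      Subgroup.mem_inf.mpr ⟨Subgroup.mem_subgroupOf.mpr hxN, hy⟩
    rw [disjoint_iff.mp hH₁'.disjoint, Subgroup.mem_bot] at h1
    rw [h1]; rfl
  have hc₁ : Subgroup.IsComplement' N H₁ := by
    apply Subgroup.isComplement'_of_card_mul_and_disjoint _ hdisj₁
    rw [hH₁card]; exact hNc.card_mul_card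
  have hH₁ne : H₁ ≠ ⊥ := by
    intro h
    rw [h, Subgroup.card_bot] at hH₁card
    exact hH.1 (Subgroup.card_eq_one.mp hH₁card.symm)
  have hF₁ : Cfsg.IsFrobeniusComplement H₁ := by
    rw [frobenius_iff_fpf N H₁ hc₁ hNne hH₁ne]
    intro h hh h1
    apply frobenius_centralizer_inf_kernel hH hN hNn
    intro hhN
    exact h1 (Subgroup.disjoint_def.mp hdisj₁ hhN hh)
  obtain ⟨x, hx⟩ := frobenius_complement_conj_le H H₁ hH hF₁ hH₁card.le
  have hxeq : MulAut.conj x • H₁ = H := by
    apply Subgroup.eq_of_le_of_card_ge hx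
    rw [card_conj_smul, hH₁card]
  refine ⟨MulAut.conj x • V₀, ?_, ?_, ?_, ?_⟩
  · intro h
    apply hV₀ne
    have := congrArg (fun K => MulAut.conj x⁻¹ • K) h
    simpa [← mul_smul] using this
  · have h1 : V₀ ≤ N := by rw [hV₀]; exact inf_le_left.trans hR'N
    have h2 : MulAut.conj x • V₀ ≤ MulAut.conj x • N := Subgroup.pointwise_smul_le_pointwise_smul_iff.mpr h1
    rwa [Subgroup.Normal.conj_smul_eq_self x N] at h2
  · rw [conj_smul_eq_map]; infer_instance
  · rw [← hxeq]
    exact conj_smul_le_normalizer_conj_smul x (hH₁L.trans hLV₀)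


/-- A Frobenius complement has no Frobenius complement of its own. -/
theorem frobenius_complement_not_frobenius [Finite G] {H : Subgroup G}
    (hH : Cfsg.IsFrobeniusComplement H) (D : Subgroup H) (hD : Cfsg.IsFrobeniusComplement D) :
    False := by
  obtain ⟨N, hN, hNn, hNc⟩ := frobenius_theorem H hH
  obtain ⟨V, hVne, hVN, hVc, hHV⟩ := frobenius_exists_invariant_abelian hH hN hNn hNc
  have hfpf : ∀ a ∈ H, a ≠ 1 → V ⊓ Subgroup.centralizer {a} = ⊥ := by
    intro a ha ha1
    have h1 : a ∉ N := by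
      intro haN
      have := Subgroup.mem_inf.mpr ⟨haN, ha⟩
      rw [frobenius_kernel_inf_eq_bot hN, Subgroup.mem_bot] at this
      exact ha1 this
    have h2 := frobenius_centralizer_inf_kernel hH hN hNn h1
    rw [eq_bot_iff, ← h2]
    exact inf_le_inf_right _ hVN
  exact false_of_fpf_of_frobeniusComplement H V hVne hHV hfpf D hD

theorem frobenius_complements_conj [Finite G] (H H₀ : Subgroup G)
    (hH : Cfsg.IsFrobeniusComplement H) (hH₀ : Cfsg.IsFrobeniusComplement H₀) :
    ∃ g : G, MulAut.conj g • H₀ = H := by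
  have key : ∀ (A B : Subgroup G), Cfsg.IsFrobeniusComplement A → Cfsg.IsFrobeniusComplement B →
      Nat.card B ≤ Nat.card A → ∃ g : G, MulAut.conj g • B = A := by
    intro A B hA hB hle
    obtain ⟨g, hg⟩ := frobenius_complement_conj_le A B hA hB hle
    refine ⟨g, ?_⟩
    by_contra hne
    have hB' := IsFrobeniusComplement.conj hB g
    have h1 : A ⊓ MulAut.conj g • B ≠ ⊥ := by
      rw [inf_eq_right.mpr hg]; exact hB'.1
    have h2 : ¬ A ≤ MulAut.conj g • B := fun h => hne (le_antisymm hg h)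
    exact frobenius_complement_not_frobenius hA _ (frobenius_subgroupOf hB' A h1 h2)
  rcases le_total (Nat.card H₀) (Nat.card H) with h | h
  · exact key H H₀ hH hH₀ h
  · obtain ⟨g, hg⟩ := key H₀ H hH₀ hH h
    refine ⟨g⁻¹, ?_⟩
    rw [← hg, smul_smul, ← map_mul, inv_mul_cancel, map_one, one_smul]

end Cfsg.Agent.Lib.Helper1
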