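import Mathlib
import Cfsg.Agent.Lib.Helper1.SupersolvableMax
import Cfsg.Agent.Lib.Helper1.GlaubermanRepl3
import Cfsg.Agent.Lib.Helper1.FrobeniusTheorem
import Cfsg.Agent.Lib.Helper1.FrobeniusConj2
import Cfsg.Agent.Lib.Helper1.FrattiniHall
set_option autoImplicit false
open scoped Pointwise commutatorElement
universe u
namespace Cfsg.Agent.Lib.Helper1.AbelianMax

variable {G : Type u} [Group G]

theorem derived_two_of_comm_mem (M : Subgroup G) (hM : ∀ x ∈ M, ∀ y ∈ M, x * y = y * x)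
    (h : ∀ g₁ g₂ : G, ⁅g₁, g₂⁆ ∈ M) : derivedSeries G 2 = ⊥ := by
  have h1 : derivedSeries G 1 ≤ M := by
    rw [derivedSeries_succ, derivedSeries_zero, Subgroup.commutator_le]
    intro x _ y _
    exact h x y
  rw [derivedSeries_succ, eq_bot_iff]
  apply (Subgroup.commutator_mono h1 h1).trans
  rw [Subgroup.commutator_le]
  intro x hx y hy
  rw [Subgroup.mem_bot, commutatorElement_eq_one_iff_commute]
  exact hM x hx y hy

theorem derived_three_of_quotient_center
    (h : derivedSeries (G ⧸ Subgroup.center G) 2 = ⊥) : derivedSeries G 3 = ⊥ := by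
  have h1 := map_derivedSeries_eq (QuotientGroup.mk'_surjective (Subgroup.center G)) 2
  rw [h, ← le_bot_iff, Subgroup.map_le_iff_le_comap, MonoidHom.comap_bot, QuotientGroup.ker_mk'] at h1
  rw [derivedSeries_succ, eq_bot_iff]
  apply (Subgroup.commutator_mono h1 h1).trans
  rw [Subgroup.commutator_le]
  intro x hx y hy
  rw [Subgroup.mem_bot, commutatorElement_eq_one_iff_commute]
  exact (Subgroup.mem_center_iff.mp hx y).symm

theorem derived_two_of_normal_abelian_coatom (A : Subgroup G) [hAn : A.Normal] (hA : IsCoatom A)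
    (hAc : ∀ x ∈ A, ∀ y ∈ A, x * y = y * x) : derivedSeries G 2 = ⊥ := by
  apply derived_two_of_comm_mem A hAc
  obtain ⟨x, -, hx⟩ := SetLike.exists_of_lt (lt_top_iff_ne_top.mpr hA.1)
  have htop : A ⊔ Subgroup.zpowers x = ⊤ := by
    rw [← hA.lt_iff]
    apply lt_of_le_of_ne le_sup_left
    intro h
    apply hx
    rw [h]
    exact Subgroup.mem_sup_right (Subgroup.mem_zpowers x)
  have hform : ∀ g : G, ∃ k : ℤ, QuotientGroup.mk' A g = (QuotientGroup.mk' A x) ^ k := by
    intro g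
    have hg : g ∈ A ⊔ Subgroup.zpowers x := htop ▸ Subgroup.mem_top g
    obtain ⟨a, ha, y, hy, rfl⟩ := Subgroup.mem_sup_of_normal_left.mp hg
    obtain ⟨k, rfl⟩ := Subgroup.mem_zpowers_iff.mp hy
    refine ⟨k, ?_⟩
    have h1 : QuotientGroup.mk' A a = 1 := (QuotientGroup.eq_one_iff a).mpr ha
    rw [map_mul, h1, one_mul, map_zpow]
  intro g₁ g₂
  obtain ⟨k₁, h₁⟩ := hform g₁
  obtain ⟨k₂, h₂⟩ := hform g₂
  rw [← QuotientGroup.eq_one_iff]
  change QuotientGroup.mk' A ⁅g₁, g₂⁆ = 1
  rw [map_commutatorElement, h₁, h₂, commutatorElement_eq_one_iff_commute]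
  exact (Commute.refl _).zpow_zpow k₁ k₂

theorem derived_two_quotient_of_abelian_coatom [Finite G] (A : Subgroup G) (hA : IsCoatom A)
    (hAc : ∀ x ∈ A, ∀ y ∈ A, x * y = y * x) (hAn : ¬ A.Normal) (Z : Subgroup G) [hZn : Z.Normal]
    (hZ : Z = Subgroup.center G) : derivedSeries (G ⧸ Z) 2 = ⊥ := by
  have hZc : ∀ z ∈ Z, ∀ g : G, z * g = g * z := by
    intro z hz g
    rw [hZ] at hz
    exact (Subgroup.mem_center_iff.mp hz g).symm
  -- (1)
  have hZA : Z ≤ A := by
    by_contra h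
    apply hAn
    have htop : A ⊔ Z = ⊤ := by
      rw [← hA.lt_iff]
      apply lt_of_le_of_ne le_sup_left
      intro h'
      apply h
      calc Z ≤ A ⊔ Z := le_sup_right
        _ = A := h'.symm
    constructor
    intro n hn g
    have hg : g ∈ A ⊔ Z := by rw [htop]; exact Subgroup.mem_top g
    obtain ⟨a, ha, z, hz, rfl⟩ := Subgroup.mem_sup_of_normal_right.mp hg
    have e : a * z * n * (a * z)⁻¹ = a * n * a⁻¹ := by
      have h1 := hZc z hz n
      calc a * z * n * (a * z)⁻¹ = a * (z * n) * z⁻¹ * a⁻¹ := by group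
        _ = a * (n * z) * z⁻¹ * a⁻¹ := by rw [h1]
        _ = a * n * a⁻¹ := by group
    rw [e]
    exact A.mul_mem (A.mul_mem ha hn) (A.inv_mem ha)
  -- self-normalizing
  have hNA : ∀ g : G, g ∉ A → MulAut.conj g • A ≠ A := by
    intro g hg h
    have hgN : g ∈ Subgroup.normalizer (A : Set G) := mem_normalizer_of_conj_smul_eq h
    by_cases hN : Subgroup.normalizer (A : Set G) = A
    · rw [hN] at hgN; exact hg hgN
    · have : A < Subgroup.normalizer (A : Set G) :=
        lt_of_le_of_ne Subgroup.le_normalizer (Ne.symm hN)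
      exact hAn (Subgroup.normalizer_eq_top_iff.mp (hA.lt_iff.mp this))
  -- (2)
  have hinter : ∀ g : G, g ∉ A → ∀ x ∈ A, x ∈ MulAut.conj g • A → x ∈ Z := by
    intro g hg x hxA hxg
    have h1 : A ≤ Subgroup.centralizer ({x} : Set G) := by
      intro a ha
      rw [Subgroup.mem_centralizer_iff]
      intro y hy
      rw [Set.mem_singleton_iff] at hy
      rw [hy]; exact hAc x hxA a ha
    have h2 : MulAut.conj g • A ≤ Subgroup.centralizer ({x} : Set G) := by
      intro a ha
      rw [Subgroup.mem_centralizer_iff]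
      intro y hy
      rw [Set.mem_singleton_iff] at hy
      rw [hy]
      rw [mem_conj_smul_iff] at ha hxg
      have h3 := hAc _ hxg _ ha
      -- g⁻¹ x g * (g⁻¹ a g) = g⁻¹ a g * (g⁻¹ x g)
      have h4 : g⁻¹ * (x * a) * g = g⁻¹ * (a * x) * g := by
        calc g⁻¹ * (x * a) * g = (g⁻¹ * x * g) * (g⁻¹ * a * g) := by group
          _ = (g⁻¹ * a * g) * (g⁻¹ * x * g) := h3
          _ = g⁻¹ * (a * x) * g := by group
      exact mul_left_cancel (mul_right_cancel h4)
    have h3 : A ⊔ MulAut.conj g • A = ⊤ := by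
      rw [← hA.lt_iff]
      apply lt_of_le_of_ne le_sup_left
      intro h'
      have h4 : MulAut.conj g • A ≤ A :=
        calc MulAut.conj g • A ≤ A ⊔ MulAut.conj g • A := le_sup_right
          _ = A := h'.symm
      apply hNA g hg
      apply Subgroup.eq_of_le_of_card_ge h4
      rw [card_conj_smul]
    rw [hZ, Subgroup.mem_center_iff]
    intro k
    have hk : k ∈ Subgroup.centralizer ({x} : Set G) := by
      have : k ∈ A ⊔ MulAut.conj g • A := by rw [h3]; exact Subgroup.mem_top k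
      exact (sup_le h1 h2) this
    exact (Subgroup.mem_centralizer_iff.mp hk x rfl).symm
  -- (3)
  obtain ⟨Ab, hAb⟩ : ∃ Ab, Ab = A.map (QuotientGroup.mk' Z) := ⟨_, rfl⟩
  have hAbco : IsCoatom Ab := hAb ▸ isCoatom_map_mk' Z A hZA hA
  have hAbc : ∀ x ∈ Ab, ∀ y ∈ Ab, x * y = y * x := by
    rw [hAb]
    rintro _ ⟨x, hx, rfl⟩ _ ⟨y, hy, rfl⟩
    rw [← map_mul, ← map_mul, hAc x hx y hy]
  have hmemAb : ∀ g : G, QuotientGroup.mk' Z g ∈ Ab → g ∈ A := by
    intro g hg
    rw [hAb] at hg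
    obtain ⟨a, ha, hag⟩ := hg
    have h1 : a⁻¹ * g ∈ Z := by
      rw [← QuotientGroup.eq]; exact hag
    have : g = a * (a⁻¹ * g) := by group
    rw [this]
    exact A.mul_mem ha (hZA h1)
  have hfrob : Cfsg.IsFrobeniusComplement Ab := by
    refine ⟨?_, hAbco.1, ?_⟩
    · intro hbot
      apply hAn
      have hAZ : A ≤ Z := by
        intro a ha
        have h1 : QuotientGroup.mk' Z a ∈ Ab := hAb ▸ Subgroup.mem_map_of_mem _ ha
        rw [hbot, Subgroup.mem_bot] at h1
        exact (QuotientGroup.eq_one_iff a).mp h1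
      rw [le_antisymm hAZ hZA]
      exact hZn
    · intro q hq
      obtain ⟨g, rfl⟩ := QuotientGroup.mk'_surjective Z q
      have hg : g ∉ A := fun h => hq (hAb ▸ Subgroup.mem_map_of_mem _ h)
      rw [eq_bot_iff]
      rintro xb ⟨hx1, hx2⟩
      rw [Subgroup.mem_bot]
      have hx1' := hx1
      rw [hAb] at hx1'
      obtain ⟨a, ha, rfl⟩ := hx1'
      have hx2' : (QuotientGroup.mk' Z g)⁻¹ * QuotientGroup.mk' Z a * QuotientGroup.mk' Z g ∈ Ab :=
        mem_conj_smul_iff.mp hx2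
      rw [← map_inv, ← map_mul, ← map_mul] at hx2'
      have h3 := hmemAb _ hx2'
      have h4 : a ∈ MulAut.conj g • A := mem_conj_smul_iff.mpr h3
      exact (QuotientGroup.eq_one_iff a).mpr (hinter g hg a ha h4)
  -- (4)
  obtain ⟨Nb, hNbK, hNbn, hNbc⟩ := frobenius_theorem Ab hfrob
  -- (5)
  obtain ⟨V, hV1, hVN, hVc, hVn⟩ := frobenius_exists_invariant_abelian hfrob hNbK hNbn hNbc
  have hVNeq : V = Nb := by
    have hdisj : Ab ⊓ V = ⊥ := by
      rw [eq_bot_iff]
      intro x hx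
      have : x ∈ Nb ⊓ Ab := ⟨hVN hx.2, hx.1⟩
      rw [hNbc.disjoint.eq_bot] at this
      exact this
    have htop : Ab ⊔ V = ⊤ := by
      rw [← hAbco.lt_iff]
      apply lt_of_le_of_ne le_sup_left
      intro h'
      have h4 : V ≤ Ab :=
        calc V ≤ Ab ⊔ V := le_sup_right
          _ = Ab := h'.symm
      apply hV1
      rw [eq_bot_iff, ← hdisj]
      exact le_inf h4 le_rfl
    have h1 := GlaubermanRepl.card_sup_mul_card_inf_of_le_normalizer Ab V hVn
    rw [htop, hdisj, Subgroup.card_bot, mul_one, Subgroup.card_top, ← hNbc.card_mul_card,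
      mul_comm] at h1
    have h2 : Nat.card Nb = Nat.card V := Nat.eq_of_mul_eq_mul_left Nat.card_pos h1
    exact Subgroup.eq_of_le_of_card_ge hVN h2.le
  -- (6)
  apply derived_two_of_comm_mem Nb
  · intro x hx y hy
    rw [← hVNeq] at hx hy
    exact congrArg Subtype.val (mul_comm' (⟨x, hx⟩ : V) ⟨y, hy⟩)
  · have hform : ∀ q : G ⧸ Z, ∃ a ∈ Ab, QuotientGroup.mk' Nb q = QuotientGroup.mk' Nb a := by
      intro q
      have hq : q ∈ Nb ⊔ Ab := by rw [hNbc.sup_eq_top]; exact Subgroup.mem_top q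
      obtain ⟨n, hn, a, ha, rfl⟩ := Subgroup.mem_sup_of_normal_left.mp hq
      refine ⟨a, ha, ?_⟩
      have h1 : QuotientGroup.mk' Nb n = 1 := (QuotientGroup.eq_one_iff n).mpr hn
      rw [map_mul, h1, one_mul]
    intro q₁ q₂
    obtain ⟨a₁, ha₁, h₁⟩ := hform q₁
    obtain ⟨a₂, ha₂, h₂⟩ := hform q₂
    rw [← QuotientGroup.eq_one_iff]
    change QuotientGroup.mk' Nb ⁅q₁, q₂⁆ = 1
    rw [map_commutatorElement, h₁, h₂, ← map_commutatorElement]
    have : ⁅a₁, a₂⁆ = 1 := commutatorElement_eq_one_iff_commute.mpr (hAbc a₁ ha₁ a₂ ha₂)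
    rw [this, map_one]

/-- S0556 -/
theorem derived_three_of_abelian_coatom [Finite G] (A : Subgroup G) (hA : IsCoatom A)
    (hAc : ∀ x ∈ A, ∀ y ∈ A, x * y = y * x) : derivedSeries G 3 = ⊥ := by
  by_cases hAn : A.Normal
  · have := derived_two_of_normal_abelian_coatom A hA hAc
    rw [derivedSeries_succ, this, eq_bot_iff, Subgroup.commutator_le]
    intro x hx y _
    rw [Subgroup.mem_bot] at hx
    rw [hx, commutatorElement_one_left]
    exact Subgroup.one_mem _
  apply derived_three_of_quotient_center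
  exact derived_two_quotient_of_abelian_coatom A hA hAc hAn (Subgroup.center G) rfl

end Cfsg.Agent.Lib.Helper1.AbelianMax
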