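import Mathlib
import Cfsg.Agent.Lib.Helper1.PResidual
import Cfsg.Agent.Lib.Helper1.CoprimeAbelian
import Cfsg.Agent.Lib.Helper1.RelativeSZ
set_option autoImplicit false
open Pointwise
open scoped commutatorElement

namespace Cfsg.Agent.Lib.Helper1

universe u

variable {G : Type u} [Group G]

/-- For an abelian Sylow `p`-subgroup `P`, `P = C_P(N_G(P)) × (G' ∩ P)`. -/
theorem abelian_sylow_decomposition [Finite G] {p : ℕ} [hp : Fact p.Prime] (P : Sylow p G)
    (hc : IsMulCommutative (P : Subgroup G)) :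
    ((P : Subgroup G) ⊓ Subgroup.centralizer (Subgroup.normalizer (P : Set G) : Set G)) ⊓
        (commutator G ⊓ (P : Subgroup G)) = ⊥ ∧
    ((P : Subgroup G) ⊓ Subgroup.centralizer (Subgroup.normalizer (P : Set G) : Set G)) ⊔
        (commutator G ⊓ (P : Subgroup G)) = (P : Subgroup G) := by
  set N := Subgroup.normalizer ((P : Subgroup G) : Set G) with hNdef
  have hcopN : (Nat.card (P : Subgroup G)).Coprime ((P : Subgroup G).relIndex N) := by
    obtain ⟨k, hk⟩ := P.2.exists_card_eq
    rw [hk]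
    apply Nat.Coprime.pow_left
    rw [hp.out.coprime_iff_not_dvd]
    intro hdvd
    exact P.not_dvd_index (hdvd.trans (Subgroup.relIndex_dvd_index_of_le Subgroup.le_normalizer))
  obtain ⟨K, hKN, hKP, hPK, hKcard⟩ := exists_relative_complement (P : Subgroup G) N
    Subgroup.le_normalizer le_rfl hcopN
  have hcopK : (Nat.card K).Coprime (Nat.card (P : Subgroup G)) := by
    rw [hKcard]; exact hcopN.symm
  obtain ⟨h1, h2⟩ := coprime_abelian_decomposition K (P : Subgroup G) hKN hcopK
  have hcomm : ∀ a ∈ (P : Subgroup G), ∀ b ∈ (P : Subgroup G), a * b = b * a := fun a ha b hb =>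
    congrArg Subtype.val (hc.is_comm.comm ⟨a, ha⟩ ⟨b, hb⟩)
  have hPKle : ⁅(P : Subgroup G), K⁆ ≤ (P : Subgroup G) :=
    Subgroup.le_normalizer_iff_commutator_le_left.mp hKN
  -- C_P(K) = C_P(N)
  have hC : (P : Subgroup G) ⊓ Subgroup.centralizer (K : Set G) =
      (P : Subgroup G) ⊓ Subgroup.centralizer (N : Set G) := by
    apply le_antisymm
    · intro x hx
      obtain ⟨hxP, hxK⟩ := Subgroup.mem_inf.mp hx
      refine Subgroup.mem_inf.mpr ⟨hxP, ?_⟩
      have hle : (P : Subgroup G) ⊔ K ≤ Subgroup.centralizer {x} := by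
        refine sup_le ?_ ?_
        · intro a ha
          rw [Subgroup.mem_centralizer_singleton_iff]
          exact hcomm a ha x hxP
        · intro k hk
          rw [Subgroup.mem_centralizer_singleton_iff]
          exact hxK k hk
      rw [hPK] at hle
      rw [Subgroup.mem_centralizer_iff]
      intro n hn
      have := hle hn
      rw [Subgroup.mem_centralizer_singleton_iff] at this
      exact this
    · exact inf_le_inf_left _ (Subgroup.centralizer_le hKN)
  -- [P,N] = [P,K]
  have hD : ⁅(P : Subgroup G), N⁆ = ⁅(P : Subgroup G), K⁆ := by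
    apply le_antisymm
    · rw [Subgroup.commutator_le]
      intro x hx n hn
      have hn' : n ∈ (((P : Subgroup G) ⊔ K : Subgroup G) : Set G) := by rw [hPK]; exact hn
      rw [Subgroup.coe_mul_of_right_le_normalizer_left _ _ hKN] at hn'
      obtain ⟨a, ha, k, hk, rfl⟩ := Set.mem_mul.mp hn'
      have hxk : ⁅x, k⁆ ∈ ⁅(P : Subgroup G), K⁆ := Subgroup.commutator_mem_commutator hx hk
      have hxkP : ⁅x, k⁆ ∈ (P : Subgroup G) := hPKle hxk
      have e : ⁅x, a * k⁆ = ⁅x, k⁆ := by
        have e1 : ⁅x, a * k⁆ = ⁅x, a⁆ * (a * ⁅x, k⁆ * a⁻¹) := by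
          simp only [commutatorElement_def]; group
        have e2 : ⁅x, a⁆ = 1 := by
          rw [commutatorElement_eq_one_iff_commute]
          exact hcomm x hx a ha
        rw [e1, e2, one_mul, hcomm a ha _ hxkP, mul_inv_cancel_right]
      rw [e]; exact hxk
    · exact Subgroup.commutator_mono le_rfl hKN
  rw [commutator_inf_abelian_sylow P hc]
  change ((P : Subgroup G) ⊓ Subgroup.centralizer (N : Set G)) ⊓ ⁅(P : Subgroup G), N⁆ = ⊥ ∧
    ((P : Subgroup G) ⊓ Subgroup.centralizer (N : Set G)) ⊔ ⁅(P : Subgroup G), N⁆ = (P : Subgroup G)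
  rw [hD, ← hC]
  exact ⟨h1, h2⟩

theorem abelian_sylow_quotient_central [Finite G] {p : ℕ} [hp : Fact p.Prime] (P : Sylow p G)
    (hc : IsMulCommutative (P : Subgroup G)) :
    ∃ (N : Subgroup G) (_ : N.Normal), Nonempty (G ⧸ N ≃*
      ((P : Subgroup G) ⊓ Subgroup.centralizer (Subgroup.normalizer (P : Set G) : Set G) : Subgroup G)) := by
  obtain ⟨h1, h2⟩ := abelian_sylow_decomposition P hc
  set C := (P : Subgroup G) ⊓ Subgroup.centralizer (Subgroup.normalizer (P : Set G) : Set G) with hCdef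
  have hfoc : commutator G ⊓ (P : Subgroup G) = (P : Subgroup G).focalSubgroup :=
    Subgroup.commutator_inf_eq_focalSubgroup P
  rw [hfoc] at h1 h2
  let φ : C →* (P : Subgroup G) ⧸ (P : Subgroup G).focalSubgroupOf :=
    (QuotientGroup.mk' _).comp (Subgroup.inclusion (inf_le_left : C ≤ (P : Subgroup G)))
  have hinj : Function.Injective φ := by
    rw [injective_iff_map_eq_one]
    intro x hx
    have hx' : (Subgroup.inclusion (inf_le_left : C ≤ (P : Subgroup G)) x) ∈ (P : Subgroup G).focalSubgroupOf := by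
      rw [← QuotientGroup.eq_one_iff]; exact hx
    rw [Subgroup.focalSubgroupOf_def, Subgroup.mem_subgroupOf] at hx'
    have hx2 : (x : G) ∈ C ⊓ (P : Subgroup G).focalSubgroup := Subgroup.mem_inf.mpr ⟨x.2, hx'⟩
    rw [h1, Subgroup.mem_bot] at hx2
    exact Subtype.ext hx2
  have hsurj : Function.Surjective φ := by
    intro y
    obtain ⟨y, rfl⟩ := QuotientGroup.mk_surjective y
    have hy : (y : G) ∈ ((C ⊔ (P : Subgroup G).focalSubgroup : Subgroup G) : Set G) := by
      rw [h2]; exact y.2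
    have hle : C ≤ Subgroup.normalizer (((P : Subgroup G).focalSubgroup : Subgroup G) : Set G) := by
      refine le_trans ?_ (Subgroup.centralizer_le_normalizer _)
      refine inf_le_right.trans (Subgroup.centralizer_le ?_)
      exact (Subgroup.focalSubgroup_le _).trans Subgroup.le_normalizer
    rw [Subgroup.coe_mul_of_left_le_normalizer_right _ _ hle] at hy
    obtain ⟨c, hcC, d, hd, hcd⟩ := Set.mem_mul.mp hy
    refine ⟨⟨c, hcC⟩, ?_⟩
    show ((⟨c, (inf_le_left : C ≤ (P : Subgroup G)) hcC⟩ : (P : Subgroup G)) : (P : Subgroup G) ⧸ (P : Subgroup G).focalSubgroupOf) = (y : (P : Subgroup G) ⧸ (P : Subgroup G).focalSubgroupOf)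
    rw [QuotientGroup.eq]
    rw [Subgroup.focalSubgroupOf_def, Subgroup.mem_subgroupOf]
    have : ((⟨c, (inf_le_left : C ≤ (P : Subgroup G)) hcC⟩ : (P : Subgroup G))⁻¹ * y : (P : Subgroup G)) = (d : G) := by
      show c⁻¹ * (y : G) = d
      rw [← hcd]; group
    rw [this]; exact hd
  let e1 : C ≃* (P : Subgroup G) ⧸ (P : Subgroup G).focalSubgroupOf := MulEquiv.ofBijective φ ⟨hinj, hsurj⟩
  exact ⟨(P : Subgroup G).transferFocal.ker, inferInstance,
    ⟨(Subgroup.transferFocal.quotientKerMulEquivQuotientFocalSubroupOf P).trans e1.symm⟩⟩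

end Cfsg.Agent.Lib.Helper1
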