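import Mathlib
import Cfsg.Agent.Lib.Helper1.ClassTwo
set_option autoImplicit false
open scoped Pointwise commutatorElement
universe u
namespace Cfsg.Agent.Lib.Helper1.AlperinOmega

variable {G : Type u} [Group G]

theorem commute_of_zpowers_normalize {p : ℕ} [hp : Fact p.Prime] {u v : G} (hu : u ^ p = 1)
    (h1 : v * u * v⁻¹ ∈ Subgroup.zpowers u) (h2 : u * v * u⁻¹ ∈ Subgroup.zpowers v) :
    u * v = v * u := by
  by_contra hne
  obtain ⟨c, hc⟩ : ∃ c, c = u * v * u⁻¹ * v⁻¹ := ⟨_, rfl⟩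
  have hc1 : c ≠ 1 := by
    intro h
    apply hne
    rw [hc, mul_inv_eq_one, mul_inv_eq_iff_eq_mul] at h
    exact h
  have hcu : c ∈ Subgroup.zpowers u := by
    have : c = u * (v * u * v⁻¹)⁻¹ := by rw [hc]; group
    rw [this]; exact mul_mem (Subgroup.mem_zpowers u) (inv_mem h1)
  have hcv : c ∈ Subgroup.zpowers v := by
    rw [hc]
    exact mul_mem h2 (inv_mem (Subgroup.mem_zpowers v))
  have hu1 : u ≠ 1 := by rintro rfl; exact hne (by simp)
  have hord : orderOf u = p := orderOf_eq_prime hu hu1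
  have hcard : Nat.card (Subgroup.zpowers u) = p := by rw [Nat.card_zpowers, hord]
  have hmem : (⟨u, Subgroup.mem_zpowers u⟩ : Subgroup.zpowers u) ∈
      Subgroup.zpowers (⟨c, hcu⟩ : Subgroup.zpowers u) :=
    mem_zpowers_of_prime_card hcard (by intro h; exact hc1 (congrArg Subtype.val h))
  obtain ⟨k, hk⟩ := Subgroup.mem_zpowers_iff.mp hmem
  have huc : c ^ k = u := by
    have := congrArg Subtype.val hk
    simpa using this
  have huv : u ∈ Subgroup.zpowers v := huc ▸ zpow_mem hcv k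
  obtain ⟨j, hj⟩ := Subgroup.mem_zpowers_iff.mp huv
  apply hne; rw [← hj]; exact (Commute.zpow_left (Commute.refl v) j).eq

variable (A : Subgroup G) [hAn : A.Normal]

theorem mem_sup_zpowers_iff (x y : G) :
    y ∈ A ⊔ Subgroup.zpowers x ↔ ∃ a ∈ A, ∃ k : ℤ, y = a * x ^ k := by
  rw [Subgroup.mem_sup_of_normal_left]
  constructor
  · rintro ⟨a, ha, z, hz, rfl⟩
    obtain ⟨k, rfl⟩ := Subgroup.mem_zpowers_iff.mp hz
    exact ⟨a, ha, k, rfl⟩
  · rintro ⟨a, ha, k, rfl⟩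
    exact ⟨a, ha, _, Subgroup.zpow_mem_zpowers x k, rfl⟩

theorem conj_mem_sup_zpowers {x y : G} (g : G) (hy : y ∈ A ⊔ Subgroup.zpowers x) :
    g * y * g⁻¹ ∈ A ⊔ Subgroup.zpowers (g * x * g⁻¹) := by
  obtain ⟨a, ha, k, rfl⟩ := (mem_sup_zpowers_iff A x y).mp hy
  rw [mem_sup_zpowers_iff]
  refine ⟨g * a * g⁻¹, hAn.conj_mem a ha g, k, ?_⟩
  rw [conj_zpow]; group

theorem conj_mem_normalizer {x t : G} (g : G)
    (ht : t ∈ Subgroup.normalizer ((A ⊔ Subgroup.zpowers x : Subgroup G) : Set G)) :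
    g * t * g⁻¹ ∈ Subgroup.normalizer ((A ⊔ Subgroup.zpowers (g * x * g⁻¹) : Subgroup G) : Set G) := by
  have key : ∀ s : G, s ∈ Subgroup.normalizer ((A ⊔ Subgroup.zpowers x : Subgroup G) : Set G) →
      ∀ y ∈ A ⊔ Subgroup.zpowers (g * x * g⁻¹),
      (g * s * g⁻¹) * y * (g * s * g⁻¹)⁻¹ ∈ A ⊔ Subgroup.zpowers (g * x * g⁻¹) := by
    intro s hs y hy
    have h1 := conj_mem_sup_zpowers A g⁻¹ hy
    have e1 : g⁻¹ * (g * x * g⁻¹) * g⁻¹⁻¹ = x := by group
    rw [e1] at h1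
    have h2 := (Subgroup.mem_normalizer_iff.mp hs _).mp h1
    have h3 := conj_mem_sup_zpowers A g h2
    have e2 : g * (s * (g⁻¹ * y * g⁻¹⁻¹) * s⁻¹) * g⁻¹ = (g * s * g⁻¹) * y * (g * s * g⁻¹)⁻¹ := by group
    rw [e2] at h3
    exact h3
  rw [Subgroup.mem_normalizer_iff]
  intro y
  constructor
  · exact key t ht y
  · intro hy
    have := key t⁻¹ (inv_mem ht) _ hy
    have e : g * t⁻¹ * g⁻¹ * (g * t * g⁻¹ * y * (g * t * g⁻¹)⁻¹) * (g * t⁻¹ * g⁻¹)⁻¹ = y := by group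
    rw [e] at this
    exact this

end Cfsg.Agent.Lib.Helper1.AlperinOmega
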