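import Mathlib
import Cfsg.Agent.Lib.Helper1.ClassTwo
import Cfsg.Agent.Lib.Helper1.AlperinOmega1
set_option autoImplicit false
open scoped Pointwise commutatorElement
universe u
namespace Cfsg.Agent.Lib.Helper1.AlperinOmega

variable {G : Type u} [Group G]

theorem closure_commute_pow {Q : Type*} [Group Q] {p : ℕ} (T : Set Q)
    (hc : ∀ t ∈ T, ∀ t' ∈ T, t * t' = t' * t) (hp : ∀ t ∈ T, t ^ p = 1) :
    (∀ r ∈ Subgroup.closure T, ∀ r' ∈ Subgroup.closure T, r * r' = r' * r) ∧
    ∀ r ∈ Subgroup.closure T, r ^ p = 1 := by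
  have h1 : Subgroup.closure T ≤ Subgroup.centralizer T := by
    rw [Subgroup.closure_le]
    intro t ht
    change t ∈ Subgroup.centralizer T
    rw [Subgroup.mem_centralizer_iff]
    intro t' ht'
    exact hc t' ht' t ht
  have h2 : Subgroup.closure T ≤ Subgroup.centralizer (Subgroup.closure T : Set Q) := by
    rw [Subgroup.closure_le]
    intro t ht
    change t ∈ Subgroup.centralizer _
    rw [Subgroup.mem_centralizer_iff]
    intro r hr
    have := h1 hr
    rw [Subgroup.mem_centralizer_iff] at this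
    exact (this t ht).symm
  have hcomm : ∀ r ∈ Subgroup.closure T, ∀ r' ∈ Subgroup.closure T, r * r' = r' * r := by
    intro r hr r' hr'
    have := h2 hr'
    rw [Subgroup.mem_centralizer_iff] at this
    exact this r hr
  refine ⟨hcomm, ?_⟩
  intro r hr
  induction hr using Subgroup.closure_induction with
  | mem x hx => exact hp x hx
  | one => exact one_pow _
  | mul x y hx hy ihx ihy =>
    have : Commute x y := hcomm x hx y hy
    rw [this.mul_pow, ihx, ihy, one_mul]
  | inv x hx ih => rw [inv_pow, ih, inv_one]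

variable (A : Subgroup G) [hAn : A.Normal]

theorem comm_mem_of_normalize {p : ℕ} [Fact p.Prime] {s s' : G} (hs : s ^ p ∈ A)
    (h1 : s' ∈ Subgroup.normalizer ((A ⊔ Subgroup.zpowers s : Subgroup G) : Set G))
    (h2 : s ∈ Subgroup.normalizer ((A ⊔ Subgroup.zpowers s' : Subgroup G) : Set G)) :
    s * s' * s⁻¹ * s'⁻¹ ∈ A := by
  have hπ : ∀ x y : G, y ∈ A ⊔ Subgroup.zpowers x →
      (QuotientGroup.mk' A y) ∈ Subgroup.zpowers (QuotientGroup.mk' A x) := by
    intro x y hy
    obtain ⟨a, ha, k, rfl⟩ := (mem_sup_zpowers_iff A x y).mp hy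
    have hone : QuotientGroup.mk' A a = 1 := (QuotientGroup.eq_one_iff a).mpr ha
    rw [map_mul, map_zpow, hone, one_mul]
    exact Subgroup.zpow_mem_zpowers _ k
  have hu : (QuotientGroup.mk' A s) ^ p = 1 := by
    rw [← map_pow]; exact (QuotientGroup.eq_one_iff _).mpr hs
  have e1 : QuotientGroup.mk' A s' * QuotientGroup.mk' A s * (QuotientGroup.mk' A s')⁻¹ ∈
      Subgroup.zpowers (QuotientGroup.mk' A s) := by
    rw [← map_inv, ← map_mul, ← map_mul]
    apply hπ
    exact (Subgroup.mem_normalizer_iff.mp h1 s).mp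
      (Subgroup.mem_sup_right (Subgroup.mem_zpowers s))
  have e2 : QuotientGroup.mk' A s * QuotientGroup.mk' A s' * (QuotientGroup.mk' A s)⁻¹ ∈
      Subgroup.zpowers (QuotientGroup.mk' A s') := by
    rw [← map_inv, ← map_mul, ← map_mul]
    apply hπ
    exact (Subgroup.mem_normalizer_iff.mp h2 s').mp
      (Subgroup.mem_sup_right (Subgroup.mem_zpowers s'))
  have h3 := commute_of_zpowers_normalize hu e1 e2
  rw [← QuotientGroup.eq_one_iff]
  show QuotientGroup.mk' A (s * s' * s⁻¹ * s'⁻¹) = 1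
  rw [map_mul, map_mul, map_mul, map_inv, map_inv, h3]
  group

theorem comm_pow_mem_of_sup_closure {p : ℕ} (S : Set G) (hS : ∀ s ∈ S, s ^ p ∈ A)
    (hSS : ∀ s ∈ S, ∀ s' ∈ S, s * s' * s⁻¹ * s'⁻¹ ∈ A) :
    ∀ r ∈ A ⊔ Subgroup.closure S, (r ^ p ∈ A ∧ ∀ r' ∈ A ⊔ Subgroup.closure S,
      r * r' * r⁻¹ * r'⁻¹ ∈ A) := by
  have hmap : ∀ r ∈ A ⊔ Subgroup.closure S,
      QuotientGroup.mk' A r ∈ Subgroup.closure ((QuotientGroup.mk' A) '' S) := by
    intro r hr
    have : QuotientGroup.mk' A r ∈ (A ⊔ Subgroup.closure S).map (QuotientGroup.mk' A) :=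
      Subgroup.mem_map_of_mem _ hr
    rw [Subgroup.map_sup, QuotientGroup.map_mk'_self, bot_sup_eq, MonoidHom.map_closure] at this
    exact this
  have hT := closure_commute_pow (p := p) ((QuotientGroup.mk' A) '' S) (by
    rintro _ ⟨s, hs, rfl⟩ _ ⟨s', hs', rfl⟩
    have := (QuotientGroup.eq_one_iff _).mpr (hSS s hs s' hs')
    change QuotientGroup.mk' A _ = 1 at this
    rw [map_mul, map_mul, map_mul, map_inv, map_inv, mul_inv_eq_one, mul_inv_eq_iff_eq_mul] at this
    exact this) (by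
    rintro _ ⟨s, hs, rfl⟩
    rw [← map_pow]; exact (QuotientGroup.eq_one_iff _).mpr (hS s hs))
  intro r hr
  constructor
  · rw [← QuotientGroup.eq_one_iff]
    have := hT.2 _ (hmap r hr)
    rw [← map_pow] at this
    exact this
  · intro r' hr'
    rw [← QuotientGroup.eq_one_iff]
    show QuotientGroup.mk' A (r * r' * r⁻¹ * r'⁻¹) = 1
    rw [map_mul, map_mul, map_mul, map_inv, map_inv, hT.1 _ (hmap r hr) _ (hmap r' hr')]
    group

end Cfsg.Agent.Lib.Helper1.AlperinOmega
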