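import Mathlib
import Cfsg.Agent.Lib.Helper1.ClassTwo
import Cfsg.Agent.Lib.Helper1.AlperinOmega2
set_option autoImplicit false
open scoped Pointwise commutatorElement
universe u
namespace Cfsg.Agent.Lib.Helper1.AlperinOmega

variable {G : Type u} [Group G]

theorem prime_dvd_choose_two {p n : ℕ} (hp : p.Prime) (hn : p ^ n ≠ 2) (hn1 : n ≠ 0) :
    p ∣ (p ^ n).choose 2 := by
  have h2 : 2 * (p ^ n).choose 2 = p ^ n * (p ^ n - 1) := by
    rw [Nat.choose_two_right, Nat.two_mul_div_two_of_even (Nat.even_mul_pred_self _)]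
  have hpn : p ∣ p ^ n := dvd_pow_self p hn1
  by_cases hp2 : p = 2
  · subst hp2
    obtain ⟨m, rfl⟩ := Nat.exists_eq_succ_of_ne_zero hn1
    have hm : m ≠ 0 := by
      rintro rfl
      exact hn (by norm_num)
    obtain ⟨k, rfl⟩ := Nat.exists_eq_succ_of_ne_zero hm
    have e : 2 ^ (k + 1 + 1) = 2 * (2 * 2 ^ k) := by ring
    rw [e, mul_assoc] at h2
    have h3 := Nat.eq_of_mul_eq_mul_left (by norm_num : 0 < 2) h2
    rw [e, h3, mul_assoc]
    exact dvd_mul_right _ _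
  · have h3 : p ∣ 2 * (p ^ n).choose 2 := by rw [h2]; exact dvd_mul_of_dvd_left hpn _
    rcases (Nat.Prime.dvd_mul hp).mp h3 with h | h
    · exact absurd ((Nat.prime_dvd_prime_iff_eq hp Nat.prime_two).mp h) hp2
    · exact h

variable (A : Subgroup G) [hAn : A.Normal]

/-- exponent of `R` -/
theorem pow_eq_one_of_sup_closure {p n : ℕ} (hp : p.Prime) (hn : p ^ n ≠ 2) (hn1 : n ≠ 0)
    (hAe : ∀ a ∈ A, a ^ p ^ n = 1) (S : Set G) (hSe : ∀ s ∈ S, s ^ p ^ n = 1)
    (hSC : ∀ s ∈ S, s ∈ Subgroup.centralizer (A : Set G))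
    (hAA : A ≤ Subgroup.centralizer (A : Set G))
    (hR : ∀ r ∈ A ⊔ Subgroup.closure S, (r ^ p ∈ A ∧ ∀ r' ∈ A ⊔ Subgroup.closure S,
      r * r' * r⁻¹ * r'⁻¹ ∈ A)) :
    ∀ r ∈ A ⊔ Subgroup.closure S, r ^ p ^ n = 1 := by
  obtain ⟨R, hRdef⟩ : ∃ R, R = A ⊔ Subgroup.closure S := ⟨_, rfl⟩
  rw [← hRdef] at hR ⊢
  have hRC : R ≤ Subgroup.centralizer (A : Set G) := by
    rw [hRdef]
    apply sup_le hAA
    rw [Subgroup.closure_le]
    exact hSC
  have hcc : CommCentral R := by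
    intro x y z
    have h1 : (x : G) * y * (x : G)⁻¹ * (y : G)⁻¹ ∈ A := (hR x x.2).2 y y.2
    have h2 := hRC z.2
    rw [Subgroup.mem_centralizer_iff] at h2
    apply Subtype.ext
    have := h2 _ h1
    rw [commutatorElement_def]
    exact this
  have hcp : ∀ x y : R, ⁅y, x⁆ ^ p = 1 := by
    intro x y
    rw [← hcc.comm_pow_left]
    have h1 : ((y ^ p : R) : G) ∈ A := by
      have := (hR y y.2).1
      simpa using this
    have h2 := hRC x.2
    rw [Subgroup.mem_centralizer_iff] at h2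
    have h3 := h2 _ h1
    apply Subtype.ext
    rw [commutatorElement_def]
    show ((y ^ p : R) : G) * x * ((y ^ p : R) : G)⁻¹ * (x : G)⁻¹ = 1
    rw [h3]; group
  obtain ⟨k, hk⟩ := prime_dvd_choose_two hp hn hn1
  have hmul : ∀ x y : R, x ^ p ^ n = 1 → y ^ p ^ n = 1 → (x * y) ^ p ^ n = 1 := by
    intro x y hx hy
    rw [hcc.mul_pow_eq, hx, hy, hk, pow_mul, hcp, one_pow, mul_one, mul_one]
  have hgood : R ≤ (Subgroup.closure {r : G | r ∈ R ∧ r ^ p ^ n = 1}) := by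
    rw [hRdef]
    apply sup_le
    · intro a ha
      exact Subgroup.subset_closure ⟨Subgroup.mem_sup_left ha, hAe a ha⟩
    · apply Subgroup.closure_mono
      intro s hs
      exact ⟨Subgroup.mem_sup_right (Subgroup.subset_closure hs), hSe s hs⟩
  have hall : ∀ r ∈ Subgroup.closure {r : G | r ∈ R ∧ r ^ p ^ n = 1}, r ∈ R ∧ r ^ p ^ n = 1 := by
    intro r hr'
    induction hr' using Subgroup.closure_induction with
    | mem x hx => exact hx
    | one => exact ⟨R.one_mem, one_pow _⟩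
    | mul x y _ _ ihx ihy =>
      refine ⟨R.mul_mem ihx.1 ihy.1, ?_⟩
      have := hmul ⟨x, ihx.1⟩ ⟨y, ihy.1⟩ (Subtype.ext (by simpa using ihx.2))
        (Subtype.ext (by simpa using ihy.2))
      have := congrArg Subtype.val this
      simpa using this
    | inv x _ ih => exact ⟨R.inv_mem ih.1, by rw [inv_pow, ih.2, inv_one]⟩
  intro r hr
  exact (hall r (hgood hr)).2

/-- descent along the upper central series -/
theorem exists_comm_mem_of_not_mem [Group.IsNilpotent G] (R N : Subgroup G)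
    (hRN : ∀ h ∈ N, ∀ r ∈ R, h * r * h⁻¹ ∈ R) {r : G} (hr : r ∈ R) (hrA : r ∉ A) :
    ∃ r' ∈ R, r' ∉ A ∧ ∀ h ∈ N, h * r' * h⁻¹ * r'⁻¹ ∈ A := by
  have key : ∀ k : ℕ, ∀ r ∈ R, r ∈ Subgroup.upperCentralSeries G k → r ∉ A →
      ∃ r' ∈ R, r' ∉ A ∧ ∀ h ∈ N, h * r' * h⁻¹ * r'⁻¹ ∈ A := by
    intro k
    induction k with
    | zero =>
      intro r _ hr0 hrA
      rw [Subgroup.upperCentralSeries_zero, Subgroup.mem_bot] at hr0
      exact absurd (hr0 ▸ A.one_mem) hrA
    | succ k ih =>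
      intro r hr hrk hrA
      by_cases hall : ∀ h ∈ N, h * r * h⁻¹ * r⁻¹ ∈ A
      · exact ⟨r, hr, hrA, hall⟩
      · push_neg at hall
        obtain ⟨h, hh, hnot⟩ := hall
        apply ih (h * r * h⁻¹ * r⁻¹) (R.mul_mem (hRN h hh r hr) (R.inv_mem hr)) _ hnot
        rw [Subgroup.mem_upperCentralSeries_succ_iff] at hrk
        have := hrk h
        rw [commutatorElement_def] at this
        have h2 := (Subgroup.upperCentralSeries G k).inv_mem this
        have e : (r * h * r⁻¹ * h⁻¹)⁻¹ = h * r * h⁻¹ * r⁻¹ := by group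
        rw [e] at h2
        exact h2
  obtain ⟨k, hk⟩ := Group.IsNilpotent.nilpotent G
  exact key k r hr (hk ▸ Subgroup.mem_top r) hrA

end Cfsg.Agent.Lib.Helper1.AlperinOmega
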