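import Mathlib
import Cfsg.Agent.Lib.Helper1.FPF

/-! Basic facts on fixed-point-free automorphisms: restriction, quotients, invariant Sylow
subgroups. -/
set_option autoImplicit false
universe u
open scoped Pointwise

namespace Cfsg.Agent.Lib.Helper1.ThompsonFPF
variable {G : Type u} [Group G]

/-- `M` is mapped into itself by `φ`. -/
def Inv (φ : G ≃* G) (M : Subgroup G) : Prop := ∀ x ∈ M, φ x ∈ M

theorem Inv.map_eq [Finite G] {φ : G ≃* G} {M : Subgroup G} (h : Inv φ M) :
    M.map (φ : G →* G) = M := by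
  apply Subgroup.eq_of_le_of_card_ge
  · rintro _ ⟨x, hx, rfl⟩
    exact h x hx
  · rw [Subgroup.card_map_of_injective φ.injective]

theorem Inv.symm_mem [Finite G] {φ : G ≃* G} {M : Subgroup G} (h : Inv φ M) {x : G}
    (hx : x ∈ M) : φ.symm x ∈ M := by
  have h1 : x ∈ M.map (φ : G →* G) := by rw [h.map_eq]; exact hx
  obtain ⟨y, hy, rfl⟩ := h1
  have : φ.symm (φ y) = y := φ.symm_apply_apply y
  change φ.symm (φ y) ∈ M
  rw [this]; exact hy

theorem Inv.pow {φ : G ≃* G} {M : Subgroup G} (h : Inv φ M) (k : ℕ) : Inv (φ ^ k) M := by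
  induction k with
  | zero => intro x hx; simpa using hx
  | succ k ih =>
    intro x hx
    rw [pow_succ, MulAut.mul_apply]
    exact ih _ (h x hx)

/-- restriction of `φ` to an invariant subgroup -/
noncomputable def res [Finite G] (φ : G ≃* G) (M : Subgroup G) (h : Inv φ M) : M ≃* M :=
  (φ.subgroupMap M).trans (MulEquiv.subgroupCongr h.map_eq)

theorem res_apply [Finite G] (φ : G ≃* G) (M : Subgroup G) (h : Inv φ M) (x : M) :
    ((res φ M h x : M) : G) = φ x := rfl

theorem res_pow_apply [Finite G] (φ : G ≃* G) (M : Subgroup G) (h : Inv φ M) (k : ℕ) (x : M) :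
    (((res φ M h) ^ k) x : G) = (φ ^ k) x := by
  induction k generalizing x with
  | zero => simp
  | succ k ih =>
    rw [pow_succ, pow_succ, MulAut.mul_apply, MulAut.mul_apply, ih, res_apply]

theorem res_pow_eq_one [Finite G] (φ : G ≃* G) (M : Subgroup G) (h : Inv φ M) {r : ℕ}
    (hr : φ ^ r = 1) : (res φ M h) ^ r = 1 := by
  ext x
  rw [res_pow_apply, hr]
  simp

theorem res_fpf [Finite G] (φ : G ≃* G) (hφ : MonoidHom.FixedPointFree (φ : G →* G))
    (M : Subgroup G) (h : Inv φ M) : MonoidHom.FixedPointFree (res φ M h : M →* M) := by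
  intro x hx
  apply Subtype.ext
  have : ((res φ M h x : M) : G) = x := congrArg Subtype.val hx
  rw [res_apply] at this
  exact hφ x this

/-- the induced automorphism on the quotient by an invariant normal subgroup -/
noncomputable def quot [Finite G] (φ : G ≃* G) (N : Subgroup G) [N.Normal] (h : Inv φ N) :
    G ⧸ N ≃* G ⧸ N :=
  QuotientGroup.congr N N φ h.map_eq

theorem quot_mk [Finite G] (φ : G ≃* G) (N : Subgroup G) [N.Normal] (h : Inv φ N) (g : G) :
    quot φ N h (QuotientGroup.mk g) = QuotientGroup.mk (φ g) := rfl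

theorem quot_pow_mk [Finite G] (φ : G ≃* G) (N : Subgroup G) [N.Normal] (h : Inv φ N) (k : ℕ)
    (g : G) : ((quot φ N h) ^ k) (QuotientGroup.mk g) = QuotientGroup.mk ((φ ^ k) g) := by
  induction k generalizing g with
  | zero => simp
  | succ k ih =>
    rw [pow_succ, pow_succ, MulAut.mul_apply, MulAut.mul_apply, quot_mk, ih]

theorem quot_pow_eq_one [Finite G] (φ : G ≃* G) (N : Subgroup G) [N.Normal] (h : Inv φ N)
    {r : ℕ} (hr : φ ^ r = 1) : (quot φ N h) ^ r = 1 := by
  ext x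
  obtain ⟨g, rfl⟩ := QuotientGroup.mk_surjective x
  rw [quot_pow_mk, hr]
  simp

theorem quot_fpf [Finite G] (φ : G ≃* G) (hφ : MonoidHom.FixedPointFree (φ : G →* G))
    (N : Subgroup G) [N.Normal] (h : Inv φ N) :
    MonoidHom.FixedPointFree (quot φ N h : G ⧸ N →* G ⧸ N) := by
  intro x hx
  obtain ⟨g, rfl⟩ := QuotientGroup.mk_surjective x
  have h1 : quot φ N h (QuotientGroup.mk g) = QuotientGroup.mk g := hx
  rw [quot_mk] at h1
  have h2 : (φ g)⁻¹ * g ∈ N := QuotientGroup.eq.mp h1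
  obtain ⟨m, hm⟩ := fpf_surj (res φ N h) (res_fpf φ hφ N h) ⟨_, h2⟩
  have h3 : (φ (m : G))⁻¹ * (m : G) = (φ g)⁻¹ * g := by
    have := congrArg Subtype.val hm
    simpa [res_apply] using this
  have h4 : (m : G) = g := fpf_inj φ hφ h3
  rw [← h4]
  exact (QuotientGroup.eq_one_iff _).mpr m.2

theorem eq_bot_of_fpf_of_id (φ : G ≃* G) (hφ : MonoidHom.FixedPointFree (φ : G →* G))
    (h : φ = 1) : ∀ g : G, g = 1 := by
  intro g
  apply hφ g
  rw [h]
  rfl

/-- there is an invariant Sylow subgroup -/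
theorem exists_inv_sylow [Finite G] (φ : G ≃* G) (hφ : MonoidHom.FixedPointFree (φ : G →* G))
    (p : ℕ) [Fact p.Prime] : ∃ P : Sylow p G, Inv φ (P : Subgroup G) := by
  obtain ⟨P₀⟩ : Nonempty (Sylow p G) := inferInstance
  have hsurj : Function.Surjective (φ : G →* G) := φ.surjective
  obtain ⟨g, hg⟩ := MulAction.exists_smul_eq G P₀ (P₀.mapSurjective hsurj)
  obtain ⟨x, hx⟩ := fpf_surj φ hφ g
  refine ⟨x • P₀, ?_⟩
  intro y hy
  have hy' : y ∈ MulAut.conj x • (P₀ : Subgroup G) := by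
    rw [← Sylow.coe_subgroup_smul]; exact hy
  rw [Subgroup.mem_smul_pointwise_iff_exists] at hy'
  obtain ⟨z, hz, rfl⟩ := hy'
  have hz' : φ z ∈ ((P₀.mapSurjective hsurj : Sylow p G) : Subgroup G) := by
    rw [Sylow.coe_mapSurjective]; exact ⟨z, hz, rfl⟩
  rw [← hg, Sylow.coe_subgroup_smul, Subgroup.mem_smul_pointwise_iff_exists] at hz'
  obtain ⟨w, hw, hwz⟩ := hz'
  have hwz' : g * w * g⁻¹ = φ z := hwz
  change φ (MulAut.conj x • z) ∈ ((x • P₀ : Sylow p G) : Subgroup G)
  rw [Sylow.coe_subgroup_smul, Subgroup.mem_smul_pointwise_iff_exists]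
  refine ⟨w, hw, ?_⟩
  change x * w * x⁻¹ = φ (x * z * x⁻¹)
  rw [map_mul, map_mul, map_inv, ← hwz', ← hx]
  group

end Cfsg.Agent.Lib.Helper1.ThompsonFPF
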