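import Mathlib
import Cfsg.Agent.Lib.Helper1.ThompsonFPF1

/-! General lemmas for Alperin's theorem (S3782), reduction part:
fixed points on invariant subgroups and quotients, quantitative derived length. -/
set_option autoImplicit false
set_option maxHeartbeats 4000000
set_option maxRecDepth 100000
set_option linter.unusedVariables false
set_option linter.unusedSectionVars false
set_option linter.style.longLine false
set_option linter.unusedSimpArgs false
set_option linter.deprecated false
universe u

namespace Cfsg.Agent.Lib.Helper1.Alr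
open Cfsg.Agent.Lib.Helper1.ThompsonFPF
variable {G : Type u} [Group G]

/-- fixed points of the restriction inject into the fixed points -/
theorem card_fix_res_le [Finite G] (φ : G ≃* G) (M : Subgroup G) (h : Inv φ M) :
    Nat.card {x : M // res φ M h x = x} ≤ Nat.card {g : G // φ g = g} := by
  apply Nat.card_le_card_of_injective (fun x => (⟨((x.1 : M) : G), by
    have := congrArg Subtype.val x.2
    rwa [res_apply] at this⟩ : {g : G // φ g = g}))
  intro x y hxy
  apply Subtype.ext; apply Subtype.ext
  exact congrArg (fun t : {g : G // φ g = g} => (t : G)) hxy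

theorem fix_mul_inv (φ : G ≃* G) {g c : G} (h : g⁻¹ * φ g = c⁻¹ * φ c) :
    φ (g * c⁻¹) = g * c⁻¹ := by
  have h1 : φ g = g * (c⁻¹ * φ c) := by rw [← h]; group
  rw [map_mul, map_inv, h1]; group

/-- a chosen preimage under `g ↦ g⁻¹ φ(g)` -/
noncomputable def rep (φ : G ≃* G) (m : G) : G := by
  classical
  exact if h : ∃ g, g⁻¹ * φ g = m then h.choose else 1

theorem rep_spec (φ : G ≃* G) (g : G) :
    (rep φ (g⁻¹ * φ g))⁻¹ * φ (rep φ (g⁻¹ * φ g)) = g⁻¹ * φ g := by
  classical
  have h : ∃ g', g'⁻¹ * φ g' = g⁻¹ * φ g := ⟨g, rfl⟩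
  unfold rep
  rw [dif_pos h]
  exact h.choose_spec

/-- F1: the induced automorphism of a quotient has at most as many fixed points. -/
theorem card_fix_quot_le [Finite G] (φ : G ≃* G) (N : Subgroup G) [N.Normal] (h : Inv φ N) :
    Nat.card {x : G ⧸ N // quot φ N h x = x} ≤ Nat.card {g : G // φ g = g} := by
  classical
  have hmk : ∀ (x : {x : G ⧸ N // quot φ N h x = x}) (n : N),
      (QuotientGroup.mk (x.1.out * (n : G)) : G ⧸ N) = x.1 := by
    intro x n
    rw [QuotientGroup.mk_mul, QuotientGroup.out_eq', (QuotientGroup.eq_one_iff _).mpr n.2, mul_one]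
  have hmem : ∀ (x : {x : G ⧸ N // quot φ N h x = x}) (n : N),
      (x.1.out * (n : G))⁻¹ * φ (x.1.out * (n : G)) ∈ N := by
    intro x n
    have h1 := hmk x n
    have h2 : (QuotientGroup.mk (φ (x.1.out * (n : G))) : G ⧸ N) = x.1 := by
      rw [← quot_mk φ N h, h1, x.2]
    exact QuotientGroup.eq.mp (h1.trans h2.symm)
  let F : {x : G ⧸ N // quot φ N h x = x} × N → N × {g : G // φ g = g} := fun xn =>
    (⟨_, hmem xn.1 xn.2⟩,
      ⟨(xn.1.1.out * (xn.2 : G)) *
        (rep φ ((xn.1.1.out * (xn.2 : G))⁻¹ * φ (xn.1.1.out * (xn.2 : G))))⁻¹,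
        fix_mul_inv φ (rep_spec φ _).symm⟩)
  have hF : Function.Injective F := by
    rintro ⟨x, n⟩ ⟨y, m⟩ hxy
    have h1 : (x.1.out * (n : G))⁻¹ * φ (x.1.out * (n : G)) =
        (y.1.out * (m : G))⁻¹ * φ (y.1.out * (m : G)) :=
      congrArg (fun t => ((t.1 : N) : G)) hxy
    have h2 : (x.1.out * (n : G)) *
        (rep φ ((x.1.out * (n : G))⁻¹ * φ (x.1.out * (n : G))))⁻¹ =
        (y.1.out * (m : G)) *
        (rep φ ((y.1.out * (m : G))⁻¹ * φ (y.1.out * (m : G))))⁻¹ :=
      congrArg (fun t => ((t.2 : {g : G // φ g = g}) : G)) hxy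
    rw [h1] at h2
    have h3 : x.1.out * (n : G) = y.1.out * (m : G) := mul_right_cancel h2
    have h4 : x = y := by
      apply Subtype.ext
      rw [← hmk x n, ← hmk y m, h3]
    subst h4
    have h5 : n = m := Subtype.ext (mul_left_cancel h3)
    rw [h5]
  have key := Nat.card_le_card_of_injective F hF
  rw [Nat.card_prod, Nat.card_prod, mul_comm] at key
  exact Nat.le_of_mul_le_mul_left key Nat.card_pos

/-- quantitative version of `isSolvable_of_ker_le_range` -/
theorem derivedSeries_add_eq_bot {G' G'' : Type*} [Group G'] [Group G''] (f : G' →* G)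
    (g : G →* G'') (hfg : g.ker ≤ f.range) {m n : ℕ} (hm : derivedSeries G' m = ⊥)
    (hn : derivedSeries G'' n = ⊥) : derivedSeries G (n + m) = ⊥ := by
  refine le_bot_iff.mp (Subgroup.map_bot f ▸ hm ▸ ?_)
  clear hm
  induction m with
  | zero =>
    exact f.range_eq_map ▸ ((derivedSeries G n).map_eq_bot_iff.mp
      (le_bot_iff.mp ((map_derivedSeries_le_derivedSeries g n).trans hn.le))).trans hfg
  | succ m hm => exact Subgroup.commutator_le_map_commutator hm hm

/-- extension by a normal subgroup -/
theorem derivedSeries_add_eq_bot_of_normal (N : Subgroup G) [N.Normal] {m n : ℕ}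
    (hm : derivedSeries N m = ⊥) (hn : derivedSeries (G ⧸ N) n = ⊥) :
    derivedSeries G (n + m) = ⊥ := by
  apply derivedSeries_add_eq_bot N.subtype (QuotientGroup.mk' N) _ hm hn
  rw [QuotientGroup.ker_mk', Subgroup.range_subtype]

theorem derivedSeries_eq_bot_or [Finite G] [Group.IsSolvable G] (k : ℕ) :
    derivedSeries G k = ⊥ ∨ Nat.card (derivedSeries G k) + k ≤ Nat.card G := by
  induction k with
  | zero =>
    right
    rw [derivedSeries_zero, Subgroup.card_top]
    exact le_rfl
  | succ k ih =>
    by_cases hb : derivedSeries G k = ⊥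
    · left
      rw [derivedSeries_succ, hb]
      exact Subgroup.commutator_bot_left _
    · rcases ih with h | h
      · exact absurd h hb
      · right
        have hlt := Group.IsSolvable.commutator_lt_of_ne_bot hb
        rw [derivedSeries_succ]
        have h1 : Nat.card (⁅derivedSeries G k, derivedSeries G k⁆ : Subgroup G) <
            Nat.card (derivedSeries G k) := by
          by_contra hcon
          push Not at hcon
          exact hlt.ne (Subgroup.eq_of_le_of_card_ge hlt.le hcon)
        omega

/-- a finite solvable group has derived length at most its order -/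
theorem derivedSeries_card_eq_bot [Finite G] [Group.IsSolvable G] :
    derivedSeries G (Nat.card G) = ⊥ := by
  rcases derivedSeries_eq_bot_or (G := G) (Nat.card G) with h | h
  · exact h
  · have : 0 < Nat.card (derivedSeries G (Nat.card G)) := Nat.card_pos
    omega

theorem derivedSeries_eq_bot_of_card_le [Finite G] [Group.IsSolvable G] {B : ℕ}
    (h : Nat.card G ≤ B) : derivedSeries G B = ⊥ := by
  rw [eq_bot_iff]
  calc derivedSeries G B ≤ derivedSeries G (Nat.card G) := derivedSeries_antitone G h
    _ = ⊥ := derivedSeries_card_eq_bot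

/-- an abelian group of exponent `p` generated by a finset `S` has order at most `p ^ |S|` -/
theorem card_closure_le_pow {V : Type*} [CommGroup V] [Finite V] {p : ℕ} (hp : 0 < p)
    (hexp : ∀ v : V, v ^ p = 1) (S : Finset V) :
    Nat.card (Subgroup.closure (S : Set V)) ≤ p ^ S.card := by
  classical
  induction S using Finset.induction_on with
  | empty => simp
  | insert a S ha ih =>
    have e : Subgroup.closure ((insert a S : Finset V) : Set V) =
        Subgroup.zpowers a ⊔ Subgroup.closure (S : Set V) := by
      rw [Finset.coe_insert, Set.insert_eq, Subgroup.closure_union, Subgroup.zpowers_eq_closure]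
    rw [e, Finset.card_insert_of_notMem ha, pow_succ, mul_comm]
    have h1 : Nat.card (Subgroup.zpowers a ⊔ Subgroup.closure (S : Set V) : Subgroup V) ≤
        Nat.card (Subgroup.zpowers a) * Nat.card (Subgroup.closure (S : Set V)) := by
      have hsurj : Function.Surjective (fun x : Subgroup.zpowers a × Subgroup.closure (S : Set V) =>
          (⟨(x.1 : V) * (x.2 : V), Subgroup.mul_mem _ (Subgroup.mem_sup_left x.1.2)
            (Subgroup.mem_sup_right x.2.2)⟩ :
            (Subgroup.zpowers a ⊔ Subgroup.closure (S : Set V) : Subgroup V))) := by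
        rintro ⟨y, hy⟩
        obtain ⟨u, hu, v, hv, rfl⟩ := Subgroup.mem_sup.mp hy
        exact ⟨(⟨u, hu⟩, ⟨v, hv⟩), rfl⟩
      have := Nat.card_le_card_of_surjective _ hsurj
      rwa [Nat.card_prod] at this
    have h2 : Nat.card (Subgroup.zpowers a) ≤ p := by
      rw [Nat.card_zpowers]
      exact Nat.le_of_dvd hp (orderOf_dvd_of_pow_eq_one (hexp a))
    calc _ ≤ Nat.card (Subgroup.zpowers a) * Nat.card (Subgroup.closure (S : Set V)) := h1
      _ ≤ p * p ^ S.card := Nat.mul_le_mul h2 ih

end Cfsg.Agent.Lib.Helper1.Alr
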