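import Mathlib
set_option autoImplicit false
namespace Cfsg.Agent.Lib.Helper1.HH

open scoped BigOperators

/-- Frobenius-action lemma (abelian case of Hall–Higman Theorem B, abstract form):
if all `x ^ i` (`0 < i < N`) act fixed-point-freely on the finite subgroup `Q`, and the
norm `∏ i < N, x ^ i` kills the commutative module `M` on which `#Q` is invertible,
then `Q` acts trivially on `M`. -/
theorem trivial_action_of_norm_eq_one {L M : Type*} [Group L] [CommGroup M]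
    (ρ : L →* MulAut M) (x : L) (Q : Subgroup L) [Finite Q]
    (hxQ : ∀ b ∈ Q, x * b * x⁻¹ ∈ Q)
    (N : ℕ)
    (hfix : ∀ i, 0 < i → i < N → ∀ b ∈ Q, x ^ i * b = b * x ^ i → b = 1)
    (hinv : ∀ m : M, m ^ Nat.card Q = 1 → m = 1)
    (hnorm : ∀ m : M, ∏ i ∈ Finset.range N, ρ (x ^ i) m = 1) (hN : 0 < N) :
    ∀ b ∈ Q, ∀ m : M, ρ b m = m := by
  classical
  have := Fintype.ofFinite Q
  -- powers of x normalize Q
  have hxiQ : ∀ (i : ℕ), ∀ b ∈ Q, x ^ i * b * (x ^ i)⁻¹ ∈ Q := by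
    intro i
    induction i with
    | zero => intro b hb; simpa using hb
    | succ i ih =>
      intro b hb
      have h1 := hxQ _ (ih b hb)
      have e : x ^ (i + 1) * b * (x ^ (i + 1))⁻¹ = x * (x ^ i * b * (x ^ i)⁻¹) * x⁻¹ := by
        rw [pow_succ']; group
      rw [e]; exact h1
  -- the maps d_i
  have hd : ∀ (i : ℕ) (b : Q), (b : L) * (x ^ i * (b : L) * (x ^ i)⁻¹)⁻¹ ∈ Q := by
    intro i b
    exact Q.mul_mem b.2 (Q.inv_mem (hxiQ i b b.2))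
  let d : ℕ → Q → Q := fun i b => ⟨(b : L) * (x ^ i * (b : L) * (x ^ i)⁻¹)⁻¹, hd i b⟩
  have hdinj : ∀ i, 0 < i → i < N → Function.Injective (d i) := by
    intro i hi0 hiN b b' hbb'
    have h1 : (b : L) * (x ^ i * (b : L) * (x ^ i)⁻¹)⁻¹ =
        (b' : L) * (x ^ i * (b' : L) * (x ^ i)⁻¹)⁻¹ := congrArg Subtype.val hbb'
    have hu : ((b' : L)⁻¹ * (b : L)) ∈ Q := Q.mul_mem (Q.inv_mem b'.2) b.2
    have h2 : x ^ i * ((b' : L)⁻¹ * (b : L)) = ((b' : L)⁻¹ * (b : L)) * x ^ i := by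
      have h3 : (b' : L)⁻¹ * (b : L) = (x ^ i * (b' : L) * (x ^ i)⁻¹)⁻¹ * (x ^ i * (b : L) * (x ^ i)⁻¹) := by
        have h4 : (b' : L)⁻¹ * ((b : L) * (x ^ i * (b : L) * (x ^ i)⁻¹)⁻¹) =
            (b' : L)⁻¹ * ((b' : L) * (x ^ i * (b' : L) * (x ^ i)⁻¹)⁻¹) := by rw [h1]
        rw [inv_mul_cancel_left, ← mul_assoc] at h4
        rw [← h4]; group
      have h5 : (x ^ i * (b' : L) * (x ^ i)⁻¹)⁻¹ * (x ^ i * (b : L) * (x ^ i)⁻¹) =
          x ^ i * ((b' : L)⁻¹ * (b : L)) * (x ^ i)⁻¹ := by group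
      rw [h5] at h3
      calc x ^ i * ((b' : L)⁻¹ * (b : L)) = (x ^ i * ((b' : L)⁻¹ * (b : L)) * (x ^ i)⁻¹) * x ^ i := by group
        _ = ((b' : L)⁻¹ * (b : L)) * x ^ i := by rw [← h3]
    have h6 := hfix i hi0 hiN _ hu h2
    apply Subtype.ext
    have : (b : L) = (b' : L) * ((b' : L)⁻¹ * (b : L)) := by group
    rw [this, h6, mul_one]
  have hdbij : ∀ i, 0 < i → i < N → Function.Bijective (d i) := fun i h0 hN' =>
    Finite.injective_iff_bijective.mp (hdinj i h0 hN')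
  -- σ
  let σ : M → M := fun m => ∏ b : Q, ρ (b : L) m
  have hσ1 : ∀ a ∈ Q, ∀ m, σ (ρ a m) = σ m := by
    intro a ha m
    show ∏ b : Q, ρ (b : L) (ρ a m) = ∏ b : Q, ρ (b : L) m
    have h1 : ∀ b : Q, ρ (b : L) (ρ a m) = ρ ((b * ⟨a, ha⟩ : Q) : L) m := by
      intro b
      rw [Subgroup.coe_mul, map_mul, MulAut.mul_apply]
    simp_rw [h1]
    exact Equiv.prod_comp (Equiv.mulRight (⟨a, ha⟩ : Q)) (fun b : Q => ρ (b : L) m)
  have hσmul : ∀ m m', σ (m * m') = σ m * σ m' := by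
    intro m m'
    show ∏ b : Q, ρ (b : L) (m * m') = (∏ b : Q, ρ (b : L) m) * ∏ b : Q, ρ (b : L) m'
    rw [← Finset.prod_mul_distrib]
    exact Finset.prod_congr rfl (fun b _ => map_mul _ _ _)
  have hσinv : ∀ m, σ (m⁻¹) = (σ m)⁻¹ := by
    intro m
    show ∏ b : Q, ρ (b : L) (m⁻¹) = (∏ b : Q, ρ (b : L) m)⁻¹
    rw [← Finset.prod_inv_distrib]
    exact Finset.prod_congr rfl (fun b _ => map_inv _ _)
  -- conjugated norm relation
  have hconj : ∀ (b : Q) (m : M), ∏ i ∈ Finset.range N, ρ ((d i b : Q) : L) (ρ (x ^ i) m) = 1 := by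
    intro b m
    have h1 : ∀ i : ℕ, ρ ((d i b : Q) : L) (ρ (x ^ i) m) =
        ρ (b : L) (ρ (x ^ i) (ρ ((b : L)⁻¹) m)) := by
      intro i
      rw [← MulAut.mul_apply, ← MulAut.mul_apply, ← MulAut.mul_apply, ← map_mul, ← map_mul, ← map_mul]
      congr 2
      show (b : L) * (x ^ i * (b : L) * (x ^ i)⁻¹)⁻¹ * x ^ i = (b : L) * x ^ i * (b : L)⁻¹
      group
    simp_rw [h1]
    rw [← map_prod, hnorm, map_one]
  -- main identity
  have hmain : ∀ m : M, m ^ Nat.card Q * ∏ i ∈ Finset.range (N - 1), σ (ρ (x ^ (i + 1)) m) = 1 := by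
    intro m
    have h1 : ∏ b : Q, ∏ i ∈ Finset.range N, ρ ((d i b : Q) : L) (ρ (x ^ i) m) = 1 := by
      apply Finset.prod_eq_one
      intro b _
      exact hconj b m
    rw [Finset.prod_comm] at h1
    obtain ⟨N', rfl⟩ : ∃ N', N = N' + 1 := ⟨N - 1, by omega⟩
    rw [Finset.prod_range_succ'] at h1
    have h0 : ∏ b : Q, ρ ((d 0 b : Q) : L) (ρ (x ^ 0) m) = m ^ Nat.card Q := by
      have : ∀ b : Q, ρ ((d 0 b : Q) : L) (ρ (x ^ 0) m) = m := by
        intro b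
        have e : ((d 0 b : Q) : L) = 1 := by
          show (b : L) * (x ^ 0 * (b : L) * (x ^ 0)⁻¹)⁻¹ = 1
          simp
        rw [e, pow_zero, map_one, MulAut.one_apply, MulAut.one_apply]
      simp_rw [this]
      rw [Finset.prod_const, Finset.card_univ, Nat.card_eq_fintype_card]
    rw [h0, mul_comm] at h1
    have h2 : ∏ i ∈ Finset.range N', ∏ b : Q, ρ ((d (i + 1) b : Q) : L) (ρ (x ^ (i + 1)) m) =
        ∏ i ∈ Finset.range (N' + 1 - 1), σ (ρ (x ^ (i + 1)) m) := by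
      rw [Nat.add_sub_cancel]
      apply Finset.prod_congr rfl
      intro i hi
      rw [Finset.mem_range] at hi
      exact (hdbij (i + 1) (by omega) (by omega)).prod_comp
        (fun b : Q => ρ (b : L) (ρ (x ^ (i + 1)) m))
    rw [h2] at h1
    exact h1
  -- conclusion
  intro a ha m₀
  have hm := hmain (ρ a m₀ * m₀⁻¹)
  have hone : ∀ i : ℕ, σ (ρ (x ^ (i + 1)) (ρ a m₀ * m₀⁻¹)) = 1 := by
    intro i
    have haj := hxiQ (i + 1) a ha
    have e1 : ρ (x ^ (i + 1)) (ρ a m₀ * m₀⁻¹) =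
        ρ (x ^ (i + 1) * a * (x ^ (i + 1))⁻¹) (ρ (x ^ (i + 1)) m₀) * (ρ (x ^ (i + 1)) m₀)⁻¹ := by
      rw [map_mul, map_inv, ← MulAut.mul_apply, ← MulAut.mul_apply, ← map_mul, ← map_mul]
      congr 3
      group
    rw [e1, hσmul, hσinv, hσ1 _ haj, mul_inv_cancel]
  have h3 : ∏ i ∈ Finset.range (N - 1), σ (ρ (x ^ (i + 1)) (ρ a m₀ * m₀⁻¹)) = 1 :=
    Finset.prod_eq_one (fun i _ => hone i)
  rw [h3, mul_one] at hm
  have h4 := hinv _ hm
  exact mul_inv_eq_one.mp h4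

end Cfsg.Agent.Lib.Helper1.HH
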