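import Mathlib
import Cfsg.Agent.Lib.Helper1.CoprimeSylow
import Cfsg.Agent.Lib.Helper1.CoprimeAbelian
set_option autoImplicit false
open scoped Pointwise
namespace Cfsg.Agent.Lib.Helper1.HH

/-- In a cyclic `p`-group generated by `x`, the element `x ^ p ^ n` is a power of every
`x ^ i` with `0 < i < p ^ (n+1)`. -/
theorem pow_pow_mem_zpowers {L : Type*} [Group L] {p : ℕ} (hp : p.Prime) (x : L) (n : ℕ)
    (hx : x ^ p ^ (n + 1) = 1) (i : ℕ) (hi0 : 0 < i) (hi : i < p ^ (n + 1)) :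
    x ^ p ^ n ∈ Subgroup.zpowers (x ^ i) := by
  obtain ⟨j, i', hi', hij⟩ := Nat.exists_eq_pow_mul_and_not_dvd hi0.ne' p hp.ne_one
  have hi'0 : 0 < i' := Nat.pos_of_ne_zero (by rintro rfl; simp at hi')
  have hj : j ≤ n := by
    by_contra h
    push Not at h
    have h1 : p ^ (n + 1) ≤ p ^ j := Nat.pow_le_pow_right hp.pos h
    have h2 : p ^ j ≤ i := by rw [hij]; exact Nat.le_mul_of_pos_right _ hi'0
    omega
  have hcop : Nat.Coprime i' p := ((Nat.Prime.coprime_iff_not_dvd hp).mpr hi').symm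
  obtain ⟨u, -, hu⟩ := Nat.exists_mul_mod_eq_one_of_coprime hcop hp.one_lt
  obtain ⟨t, ht⟩ : ∃ t, i' * u = p * t + 1 :=
    ⟨i' * u / p, by rw [← hu]; exact (Nat.div_add_mod _ _).symm⟩
  rw [Subgroup.mem_zpowers_iff]
  refine ⟨((p ^ (n - j) * u : ℕ) : ℤ), ?_⟩
  rw [zpow_natCast, ← pow_mul]
  have e : i * (p ^ (n - j) * u) = p ^ (n + 1) * t + p ^ n := by
    rw [hij]
    have e1 : p ^ j * i' * (p ^ (n - j) * u) = (p ^ j * p ^ (n - j)) * (i' * u) := by ring
    rw [e1, ← pow_add, Nat.add_sub_cancel' hj, ht]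
    ring
  rw [e, pow_add, pow_mul, hx, one_pow, one_mul]

/-- `p`-elements lift along surjective homomorphisms of finite groups. -/
theorem exists_pElement_lift {G G' : Type*} [Group G] [Finite G] [Group G'] {p : ℕ}
    (hp : p.Prime) (f : G →* G') (hf : Function.Surjective f) (z' : G') (b : ℕ)
    (hz' : z' ^ p ^ b = 1) : ∃ z : G, f z = z' ∧ ∃ a, z ^ p ^ a = 1 := by
  obtain ⟨z₀, rfl⟩ := hf z'
  obtain ⟨a, m, hm, ham⟩ := Nat.exists_eq_pow_mul_and_not_dvd (orderOf_pos z₀).ne' p hp.ne_one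
  by_cases hb : b = 0
  · subst hb
    rw [pow_zero, pow_one] at hz'
    exact ⟨1, by rw [map_one, hz'], 0, by simp⟩
  have hcop : Nat.Coprime m (p ^ b) :=
    Nat.Coprime.pow_right _ ((Nat.Prime.coprime_iff_not_dvd hp).mpr hm).symm
  have h1 : 1 < p ^ b := Nat.one_lt_pow hb hp.one_lt
  obtain ⟨u, -, hu⟩ := Nat.exists_mul_mod_eq_one_of_coprime hcop h1
  obtain ⟨t, ht⟩ : ∃ t, m * u = p ^ b * t + 1 :=
    ⟨m * u / p ^ b, by rw [← hu]; exact (Nat.div_add_mod _ _).symm⟩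
  refine ⟨z₀ ^ (m * u), ?_, a, ?_⟩
  · rw [map_pow, ht, pow_add, pow_mul, hz', one_pow, one_mul, pow_one]
  · rw [← pow_mul]
    have : m * u * p ^ a = orderOf z₀ * u := by rw [ham]; ring
    rw [this, pow_mul, pow_orderOf_eq_one, one_pow]

/-- All `p`-elements have order dividing `p ^ n`. -/
def ExpLE (p n : ℕ) (G : Type*) [Group G] : Prop :=
  ∀ z : G, (∃ a, z ^ p ^ a = 1) → z ^ p ^ n = 1

theorem ExpLE.map {G G' : Type*} [Group G] [Finite G] [Group G'] {p n : ℕ} (hp : p.Prime)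
    (f : G →* G') (hf : Function.Surjective f) (h : ExpLE p n G) : ExpLE p n G' := by
  rintro z' ⟨b, hb⟩
  obtain ⟨z, rfl, ha⟩ := exists_pElement_lift hp f hf z' b hb
  rw [← map_pow, h z ha, map_one]

theorem expLE_of_sylow {G : Type*} [Group G] [Finite G] {p : ℕ} [hp : Fact p.Prime] (n : ℕ)
    (hexp : ∀ P : Sylow p G, ∀ x ∈ (P : Subgroup G), x ^ p ^ n = 1) : ExpLE p n G := by
  rintro z ⟨a, ha⟩
  have hz : IsPGroup p (Subgroup.zpowers z) := by
    obtain ⟨k, -, hk⟩ := (Nat.dvd_prime_pow hp.out).mp (orderOf_dvd_of_pow_eq_one ha)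
    exact IsPGroup.of_card (n := k) (by rw [Nat.card_zpowers, hk])
  obtain ⟨P, hP⟩ := hz.exists_le_sylow
  exact hexp P z (hP (Subgroup.mem_zpowers z))

/-- Sylow `q`-subgroups are abelian for all primes `q ≠ p`. -/
def AbSyl (p : ℕ) (G : Type*) [Group G] : Prop :=
  ∀ (q : ℕ) [Fact q.Prime], q ≠ p → ∀ Q : Sylow q G,
    ∀ a ∈ (Q : Subgroup G), ∀ b ∈ (Q : Subgroup G), a * b = b * a

theorem AbSyl.map {G G' : Type*} [Group G] [Finite G] [Group G'] {p : ℕ}
    (f : G →* G') (hf : Function.Surjective f) (h : AbSyl p G) : AbSyl p G' := by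
  intro q _ hq Q' a' ha' b' hb'
  have : Finite G' := Finite.of_surjective f hf
  obtain ⟨S⟩ : Nonempty (Sylow q G) := inferInstance
  obtain ⟨g', hg'⟩ := MulAction.exists_smul_eq G' (S.mapSurjective hf) Q'
  have key : ∀ c' ∈ (Q' : Subgroup G'), ∃ s ∈ (S : Subgroup G), c' = g' * f s * g'⁻¹ := by
    intro c' hc'
    rw [← hg', Sylow.coe_subgroup_smul, Subgroup.mem_smul_pointwise_iff_exists] at hc'
    obtain ⟨s', hs', rfl⟩ := hc'
    rw [Sylow.coe_mapSurjective] at hs'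
    obtain ⟨s, hs, rfl⟩ := hs'
    exact ⟨s, hs, by rw [MulAut.smul_def, MulAut.conj_apply]⟩
  obtain ⟨s, hs, rfl⟩ := key a' ha'
  obtain ⟨t, ht, rfl⟩ := key b' hb'
  have hst := h q hq S s hs t ht
  calc g' * f s * g'⁻¹ * (g' * f t * g'⁻¹) = g' * f (s * t) * g'⁻¹ := by rw [map_mul]; group
    _ = g' * f (t * s) * g'⁻¹ := by rw [hst]
    _ = g' * f t * g'⁻¹ * (g' * f s * g'⁻¹) := by rw [map_mul]; group

theorem AbSyl.comm_of_isPGroup {G : Type*} [Group G] [Finite G] {p : ℕ} (h : AbSyl p G)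
    (q : ℕ) [Fact q.Prime] (hq : q ≠ p) (T : Subgroup G) (hT : IsPGroup q T) :
    ∀ a ∈ T, ∀ b ∈ T, a * b = b * a := by
  obtain ⟨Q, hQ⟩ := hT.exists_le_sylow
  intro a ha b hb
  exact h q hq Q a (hQ ha) b (hQ hb)

/-- A coprime operator group `X` on `K`: if `y` does not centralize `K`, then some
`X`-invariant Sylow subgroup of `K` is not centralized by `y`. -/
theorem exists_invariant_sylow_not_centralized {L : Type*} [Group L] [Finite L]
    (X K : Subgroup L) (hXK : X ≤ Subgroup.normalizer (K : Set L))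
    (hcop : (Nat.card X).Coprime (Nat.card K))
    (hsolv : Group.IsSolvable X ∨ Group.IsSolvable K)
    (y : L) (hy : ¬ K ≤ Subgroup.centralizer {y}) :
    ∃ (q : ℕ) (_ : Fact q.Prime) (P : Sylow q K),
      X ≤ Subgroup.normalizer (((P : Subgroup K).map K.subtype : Subgroup L) : Set L) ∧
      ¬ ((P : Subgroup K).map K.subtype) ≤ Subgroup.centralizer {y} := by
  by_contra hcon
  push Not at hcon
  apply hy
  obtain ⟨C, hC⟩ : ∃ C, C = K ⊓ Subgroup.centralizer {y} := ⟨_, rfl⟩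
  have hCK : C ≤ K := by rw [hC]; exact inf_le_left
  have hdvd : Nat.card K ∣ Nat.card C := by
    rw [← Nat.factorization_prime_le_iff_dvd Nat.card_pos.ne' Nat.card_pos.ne']
    intro q hq
    have : Fact q.Prime := ⟨hq⟩
    obtain ⟨P, hP⟩ := coprime_exists_invariant_sylow X K hXK hcop hsolv q
    have h1 := hcon q ⟨hq⟩ P hP
    have h2 : (P : Subgroup K).map K.subtype ≤ C := by
      rw [hC]
      refine le_inf ?_ h1
      rintro _ ⟨k, -, rfl⟩
      exact k.2
    have h3 : Nat.card ((P : Subgroup K).map K.subtype) = q ^ (Nat.card K).factorization q := by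
      rw [Subgroup.card_map_of_injective K.subtype_injective]
      exact P.card_eq_multiplicity
    have h4 := Subgroup.card_dvd_of_le h2
    rw [h3] at h4
    exact (hq.pow_dvd_iff_le_factorization Nat.card_pos.ne').mp h4
  have hle : Nat.card K ≤ Nat.card C := Nat.le_of_dvd Nat.card_pos hdvd
  have heq : C = K := Subgroup.eq_of_le_of_card_ge hCK hle
  rw [← heq, hC]
  exact inf_le_right

end Cfsg.Agent.Lib.Helper1.HH
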