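import Mathlib
import Cfsg.Prelude.Def_Local
import Cfsg.Prelude.Def_PLocal
import Cfsg.Agent.Lib.Helper1.HH1
import Cfsg.Agent.Lib.Helper1.HH2
import Cfsg.Agent.Lib.Helper1.StableQuad4
import Cfsg.Agent.Lib.Helper1.PConstrainedOfPSolvable
import Cfsg.Agent.Lib.Helper1.PSolvSub
import Cfsg.Agent.Lib.Helper1.PLengthOne
import Cfsg.Agent.Lib.Helper1.FrattiniP
import Cfsg.Agent.Lib.Helper2.HHDual
import Cfsg.Agent.S4218
set_option autoImplicit false
open Cfsg
open scoped commutatorElement BigOperators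
universe u
namespace Cfsg.Agent.Lib.Helper1.HH
variable {G : Type u} [Group G]

/-- the section `H/Φ` realised inside `G/Φ` -/
def sec (H Φ : Subgroup G) [Φ.Normal] : Subgroup (G ⧸ Φ) := H.map (QuotientGroup.mk' Φ)

instance sec_normal (H Φ : Subgroup G) [H.Normal] [Φ.Normal] : (sec H Φ).Normal :=
  Subgroup.Normal.map inferInstance _ (QuotientGroup.mk'_surjective Φ)

/-- conjugation action of `G` on `H/Φ` -/
def secAct (H Φ : Subgroup G) [H.Normal] [Φ.Normal] : G →* MulAut ↥(sec H Φ) :=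
  (MulAut.conjNormal).comp (QuotientGroup.mk' Φ)

theorem secAct_apply_coe (H Φ : Subgroup G) [H.Normal] [Φ.Normal] (g : G) (m : ↥(sec H Φ)) :
    ((secAct H Φ g m : ↥(sec H Φ)) : G ⧸ Φ) =
      (QuotientGroup.mk' Φ g) * (m : G ⧸ Φ) * (QuotientGroup.mk' Φ g)⁻¹ := by
  simp [secAct]

theorem secAct_eq_one_iff (H Φ : Subgroup G) [H.Normal] [Φ.Normal] (g : G) :
    secAct H Φ g = 1 ↔ g ∈ sectionKernel H Φ := by
  unfold sectionKernel
  rw [Subgroup.mem_comap, Subgroup.mem_centralizer_iff]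
  constructor
  · intro h m hm
    have h1 := secAct_apply_coe H Φ g ⟨m, hm⟩
    rw [h, MulAut.one_apply] at h1
    change m = _ at h1
    calc m * (QuotientGroup.mk' Φ) g = ((QuotientGroup.mk' Φ g) * m * (QuotientGroup.mk' Φ g)⁻¹) *
          (QuotientGroup.mk' Φ) g := by rw [← h1]
      _ = (QuotientGroup.mk' Φ) g * m := by group
  · intro h
    ext m
    rw [secAct_apply_coe, MulAut.one_apply]
    have h1 := h (m : G ⧸ Φ) m.2
    calc (QuotientGroup.mk' Φ g) * (m : G ⧸ Φ) * (QuotientGroup.mk' Φ g)⁻¹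
        = ((m : G ⧸ Φ) * (QuotientGroup.mk' Φ) g) * (QuotientGroup.mk' Φ g)⁻¹ := by rw [h1]
      _ = m := by group

theorem sectionKernel_normal (H Φ : Subgroup G) [H.Normal] [Φ.Normal] :
    (sectionKernel H Φ).Normal := by
  unfold sectionKernel
  have : (H.map (QuotientGroup.mk' Φ)).Normal :=
    Subgroup.Normal.map inferInstance _ (QuotientGroup.mk'_surjective Φ)
  infer_instance

theorem conj_mem_commutator {L : Type*} [Group L] (T Y : Subgroup L) (g : L)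
    (hT : g ∈ Subgroup.normalizer (T : Set L)) (hY : g ∈ Subgroup.normalizer (Y : Set L)) :
    ∀ b ∈ ⁅T, Y⁆, g * b * g⁻¹ ∈ ⁅T, Y⁆ := by
  have h : ⁅T, Y⁆ ≤ (⁅T, Y⁆).comap (MulAut.conj g).toMonoidHom := by
    rw [Subgroup.commutator_le]
    intro t ht y hy
    rw [Subgroup.mem_comap]
    have e : (MulAut.conj g).toMonoidHom ⁅t, y⁆ = ⁅g * t * g⁻¹, g * y * g⁻¹⁆ := by
      simp only [MulEquiv.coe_toMonoidHom, MulAut.conj_apply, commutatorElement_def]
      group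
    rw [e]
    exact Subgroup.commutator_mem_commutator ((Subgroup.mem_normalizer_iff.mp hT t).mp ht)
      ((Subgroup.mem_normalizer_iff.mp hY y).mp hy)
  intro b hb
  have := h hb
  rw [Subgroup.mem_comap] at this
  simpa using this


theorem pow_mem_pCore_of_expLE [Finite G] {p : ℕ} [hp : Fact p.Prime]
    (hsol : IsPSolvable p G) (hbot : pPrimeCore p G = ⊥) (hab : AbSyl p G) (n : ℕ)
    (hexp : ExpLE p (n + 1) G) (x : G) (hx : ∃ a, x ^ p ^ a = 1) : x ^ p ^ n ∈ pCore p G := by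
  by_contra hxn
  obtain ⟨H, hH⟩ : ∃ H, H = pCore p G := ⟨_, rfl⟩
  rw [← hH] at hxn
  have hHn : H.Normal := by rw [hH]; infer_instance
  have hHp : IsPGroup p H := by rw [hH]; exact pCore_isPGroup p
  have hc : Subgroup.centralizer (H : Set G) ≤ H := by
    rw [hH]
    exact centralizer_pCore_le_of_isPSolvable hbot (PSolvSub.isPSolvable_subgroup hsol _)
  obtain ⟨Φ, hΦ⟩ : ∃ Φ, Φ = (frattini ↥H).map H.subtype := ⟨_, rfl⟩
  have hΦn : Φ.Normal := by rw [hΦ]; infer_instance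
  have hker : sectionKernel H Φ ≤ H := by
    have h1 : IsPGroup p (sectionKernel H Φ) := by
      subst hΦ
      exact StableQuad.isPGroup_sectionKernel_frattini H hHp hc
    exact (le_pCore (sectionKernel_normal H Φ) h1).trans_eq hH.symm
  have hcommΦ : ∀ a ∈ H, ∀ b ∈ H, a * b * a⁻¹ * b⁻¹ ∈ Φ := by
    intro a ha b hb
    rw [hΦ]
    have h2 : ⁅(⟨a, ha⟩ : H), ⟨b, hb⟩⁆ ∈ commutator ↥H :=
      Subgroup.commutator_mem_commutator (Subgroup.mem_top _) (Subgroup.mem_top _)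
    have h3 := commutator_le_frattini_of_isPGroup p hHp h2
    exact ⟨_, h3, by simp [commutatorElement_def]⟩
  have hcomm : ∀ a b : ↥(sec H Φ), a * b = b * a := by
    rintro ⟨_, a, ha, rfl⟩ ⟨_, b, hb, rfl⟩
    apply Subtype.ext
    show (QuotientGroup.mk' Φ a) * (QuotientGroup.mk' Φ b) =
      (QuotientGroup.mk' Φ b) * (QuotientGroup.mk' Φ a)
    rw [← map_mul, ← map_mul]
    apply Eq.symm
    show ((b * a : G) : G ⧸ Φ) = ((a * b : G) : G ⧸ Φ)
    rw [QuotientGroup.eq]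
    have := hcommΦ a⁻¹ (H.inv_mem ha) b⁻¹ (H.inv_mem hb)
    have e : (b * a)⁻¹ * (a * b) = a⁻¹ * b⁻¹ * a⁻¹⁻¹ * b⁻¹⁻¹ := by group
    rw [e]; exact this
  let _ : CommGroup ↥(sec H Φ) := { (inferInstance : Group ↥(sec H Φ)) with mul_comm := hcomm }
  have hHker : ∀ h ∈ H, secAct H Φ h = 1 := by
    intro h hh
    rw [secAct_eq_one_iff, StableQuad.mem_sectionKernel_iff]
    intro k hk
    exact hcommΦ h hh k hk
  obtain ⟨ρ, hρ⟩ : ∃ ρ : (G ⧸ H) →* MulAut ↥(sec H Φ),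
      ∀ g : G, ρ (QuotientGroup.mk' H g) = secAct H Φ g :=
    ⟨QuotientGroup.lift H (secAct H Φ) (fun h hh => MonoidHom.mem_ker.mpr (hHker h hh)),
      fun g => rfl⟩
  obtain ⟨π, hπ⟩ : ∃ π : G →* G ⧸ H, π = QuotientGroup.mk' H := ⟨_, rfl⟩
  have hπs : Function.Surjective π := by rw [hπ]; exact QuotientGroup.mk'_surjective H
  have hπker : ∀ g, π g = 1 ↔ g ∈ H := by
    intro g; rw [hπ]; exact QuotientGroup.eq_one_iff g
  obtain ⟨xh, hxh⟩ : ∃ xh, xh = π x := ⟨_, rfl⟩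
  have hxN : xh ^ p ^ (n + 1) = 1 := by rw [hxh, ← map_pow, hexp x hx, map_one]
  have hy1 : xh ^ p ^ n ≠ 1 := by
    rw [hxh, ← map_pow]; intro h; exact hxn ((hπker _).mp h)
  have hsolL : IsPSolvable p (G ⧸ H) := Cfsg.Agent.S4218.isPSolvable_quotient p H hsol
  have hOpL : pCore p (G ⧸ H) = ⊥ := by
    subst hH; exact Helper2.pCore_quotient_pCore_eq_bot p
  obtain ⟨K, hK⟩ : ∃ K, K = pPrimeCore p (G ⧸ H) := ⟨_, rfl⟩
  have hKn : K.Normal := by rw [hK]; infer_instance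
  have hKcop : (Nat.card K).Coprime p := by rw [hK]; exact pPrimeCore_card_coprime p
  have hcK : Subgroup.centralizer (K : Set (G ⧸ H)) ≤ K := by
    rw [hK]; exact Helper2.centralizer_pPrimeCore_le p hsolL hOpL
  obtain ⟨yh, hyh⟩ : ∃ yh, yh = xh ^ p ^ n := ⟨_, rfl⟩
  have hyp : yh ^ p = 1 := by rw [hyh, ← pow_mul, ← pow_succ]; exact hxN
  have hyK : ¬ K ≤ Subgroup.centralizer {yh} := by
    intro h
    have h1 : yh ∈ Subgroup.centralizer (K : Set (G ⧸ H)) := by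
      rw [Subgroup.mem_centralizer_iff]
      intro k hk
      have := Subgroup.mem_centralizer_iff.mp (h hk) yh (Set.mem_singleton _)
      exact this.symm
    have h2 : yh ∈ K := hcK h1
    have h3 : orderOf yh ∣ p := orderOf_dvd_of_pow_eq_one hyp
    have h4 : orderOf yh ∣ Nat.card K := Subgroup.orderOf_dvd_natCard K h2
    have h5 : orderOf yh = 1 := Nat.eq_one_of_dvd_coprimes hKcop h4 h3
    exact hy1 (by rw [← hyh]; exact orderOf_eq_one_iff.mp h5)
  obtain ⟨X, hX⟩ : ∃ X, X = Subgroup.zpowers xh := ⟨_, rfl⟩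
  have hXK : X ≤ Subgroup.normalizer (K : Set (G ⧸ H)) := by
    rw [Subgroup.normalizer_eq_top]; exact le_top
  have hXcard : Nat.card X ∣ p ^ (n + 1) := by
    rw [hX, Nat.card_zpowers]; exact orderOf_dvd_of_pow_eq_one hxN
  have hXcop : (Nat.card X).Coprime (Nat.card K) :=
    Nat.Coprime.coprime_dvd_left hXcard (Nat.Coprime.pow_left _ hKcop.symm)
  have hXsolv : Group.IsSolvable X := by rw [hX]; exact isSolvable_of_isMulCommutative _
  obtain ⟨q, hqF, P, hXP, hPy⟩ :=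
    exists_invariant_sylow_not_centralized X K hXK hXcop (Or.inl hXsolv) yh hyK
  obtain ⟨T, hT⟩ : ∃ T, T = (P : Subgroup K).map K.subtype := ⟨_, rfl⟩
  rw [← hT] at hXP hPy
  have hTq : IsPGroup q T := by rw [hT]; exact P.isPGroup'.map _
  have hTK : T ≤ K := by rw [hT]; rintro _ ⟨k, -, rfl⟩; exact k.2
  have hqp : q ≠ p := by
    intro hqp
    apply hPy
    intro t ht
    obtain ⟨j, hj⟩ := hTq ⟨t, ht⟩
    have hj' : t ^ q ^ j = 1 := by
      have := congrArg Subtype.val hj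
      simpa using this
    have h1 : orderOf t ∣ p ^ j := by rw [← hqp]; exact orderOf_dvd_of_pow_eq_one hj'
    have h2 : orderOf t ∣ Nat.card K := Subgroup.orderOf_dvd_natCard K (hTK ht)
    have h3 : orderOf t = 1 := Nat.eq_one_of_dvd_coprimes (Nat.Coprime.pow_right j hKcop) h2 h1
    rw [orderOf_eq_one_iff.mp h3]
    exact Subgroup.one_mem _
  have habL : AbSyl p (G ⧸ H) := hab.map π hπs
  have hTcomm := habL.comm_of_isPGroup q hqp T hTq
  have hTc : IsMulCommutative T := ⟨⟨fun a b => Subtype.ext (hTcomm a a.2 b b.2)⟩⟩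
  obtain ⟨Y, hY⟩ : ∃ Y, Y = Subgroup.zpowers yh := ⟨_, rfl⟩
  have hyX : yh ∈ X := by
    rw [hX, hyh]; exact Subgroup.pow_mem _ (Subgroup.mem_zpowers _) _
  have hYX : Y ≤ X := by rw [hY, Subgroup.zpowers_le]; exact hyX
  have hYT : Y ≤ Subgroup.normalizer (T : Set (G ⧸ H)) := hYX.trans hXP
  have hYcard : Nat.card Y ∣ p := by
    rw [hY, Nat.card_zpowers]; exact orderOf_dvd_of_pow_eq_one hyp
  obtain ⟨k, hk⟩ := (IsPGroup.iff_card).mp hTq
  have hpq : Nat.Coprime p q := (Nat.coprime_primes hp.out hqF.out).mpr hqp.symm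
  have hYcop : (Nat.card Y).Coprime (Nat.card T) := by
    rw [hk]; apply Nat.Coprime.pow_right; exact Nat.Coprime.coprime_dvd_left hYcard hpq
  obtain ⟨hdec1, hdec2⟩ := coprime_abelian_decomposition Y T hYT hYcop
  obtain ⟨Q₁, hQ₁⟩ : ∃ Q₁, Q₁ = ⁅T, Y⁆ := ⟨_, rfl⟩
  rw [← hQ₁] at hdec1 hdec2
  have hQ₁T : Q₁ ≤ T := le_sup_right.trans_eq hdec2
  have hQ₁ne : Q₁ ≠ ⊥ := by
    intro h
    rw [h, sup_bot_eq] at hdec2
    apply hPy
    intro t ht
    have h1 : t ∈ T ⊓ Subgroup.centralizer (Y : Set (G ⧸ H)) := by rw [hdec2]; exact ht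
    have h2 := Subgroup.mem_centralizer_iff.mp h1.2 yh (by rw [hY]; exact Subgroup.mem_zpowers _)
    rw [Subgroup.mem_centralizer_iff]
    intro z hz
    rw [Set.mem_singleton_iff] at hz
    rw [hz]; exact h2
  have hxhX : xh ∈ X := by rw [hX]; exact Subgroup.mem_zpowers _
  have hxhY : xh ∈ Subgroup.normalizer (Y : Set (G ⧸ H)) := by
    apply Subgroup.centralizer_le_normalizer
    rw [hY, Subgroup.mem_centralizer_iff]
    intro z hz
    obtain ⟨k, rfl⟩ := Subgroup.mem_zpowers_iff.mp hz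
    rw [hyh]
    exact (((Commute.refl xh).pow_left (p ^ n)).zpow_left k).eq
  have hxQ₁ : ∀ b ∈ Q₁, xh * b * xh⁻¹ ∈ Q₁ := by
    rw [hQ₁]; exact conj_mem_commutator T Y xh (hXP hxhX) hxhY
  have hfix : ∀ i, 0 < i → i < p ^ (n + 1) → ∀ b ∈ Q₁, xh ^ i * b = b * xh ^ i → b = 1 := by
    intro i hi0 hiN b hb hcm
    have h1 : yh ∈ Subgroup.zpowers (xh ^ i) := by
      rw [hyh]; exact pow_pow_mem_zpowers hp.out xh n hxN i hi0 hiN
    have h2 : Subgroup.zpowers (xh ^ i) ≤ Subgroup.centralizer {b} := by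
      rw [Subgroup.zpowers_le, Subgroup.mem_centralizer_iff]
      intro z hz; rw [Set.mem_singleton_iff] at hz; rw [hz]; exact hcm.symm
    have h3 : yh ∈ Subgroup.centralizer {b} := h2 h1
    have h4 : b * yh = yh * b := Subgroup.mem_centralizer_iff.mp h3 b (Set.mem_singleton _)
    have h5 : b ∈ Subgroup.centralizer (Y : Set (G ⧸ H)) := by
      rw [hY, Subgroup.mem_centralizer_iff]
      intro z hz
      obtain ⟨k, rfl⟩ := Subgroup.mem_zpowers_iff.mp hz
      exact ((Commute.zpow_left (show Commute yh b from h4.symm) k)).eq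
    have h6 : b ∈ (T ⊓ Subgroup.centralizer (Y : Set (G ⧸ H))) ⊓ Q₁ := ⟨⟨hQ₁T hb, h5⟩, hb⟩
    rw [hdec1] at h6
    exact Subgroup.mem_bot.mp h6
  have hM : IsPGroup p ↥(sec H Φ) := hHp.map (QuotientGroup.mk' Φ)
  have hinv : ∀ m : ↥(sec H Φ), m ^ Nat.card Q₁ = 1 → m = 1 := by
    intro m hm
    obtain ⟨j, hj⟩ := hM m
    have hQ₁q : IsPGroup q Q₁ := hTq.to_le hQ₁T
    obtain ⟨k', hk'⟩ := (IsPGroup.iff_card).mp hQ₁q
    rw [hk'] at hm
    have h1 : orderOf m ∣ p ^ j := orderOf_dvd_of_pow_eq_one hj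
    have h2 : orderOf m ∣ q ^ k' := orderOf_dvd_of_pow_eq_one hm
    have h3 : Nat.Coprime (p ^ j) (q ^ k') := Nat.Coprime.pow _ _ hpq
    exact orderOf_eq_one_iff.mp (Nat.eq_one_of_dvd_coprimes h3 h1 h2)
  have hxp : IsPGroup p (Subgroup.zpowers x) := by
    obtain ⟨a, ha⟩ := hx
    obtain ⟨k, -, hk⟩ := (Nat.dvd_prime_pow hp.out).mp (orderOf_dvd_of_pow_eq_one ha)
    exact IsPGroup.of_card (n := k) (by rw [Nat.card_zpowers, hk])
  have hHx : IsPGroup p (H ⊔ Subgroup.zpowers x : Subgroup G) :=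
    IsPGroup.to_sup_of_normal_left hHp hxp
  have hnorm : ∀ m : ↥(sec H Φ), ∏ i ∈ Finset.range (p ^ (n + 1)), ρ (xh ^ i) m = 1 := by
    rintro ⟨_, h, hh, rfl⟩
    have hρx : ∀ i : ℕ, ρ (xh ^ i) = secAct H Φ (x ^ i) := by
      intro i; rw [hxh, ← map_pow, hπ, hρ]
    have key : ∀ k : ℕ, ((∏ i ∈ Finset.range k,
        ρ (xh ^ i) ⟨QuotientGroup.mk' Φ h, ⟨h, hh, rfl⟩⟩ : ↥(sec H Φ)) : G ⧸ Φ) =
        QuotientGroup.mk' Φ ((h * x) ^ k * (x ^ k)⁻¹) := by
      intro k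
      induction k with
      | zero => simp
      | succ k ih =>
        rw [Finset.prod_range_succ, Subgroup.coe_mul, ih, hρx, secAct_apply_coe,
          ← map_inv, ← map_mul, ← map_mul, ← map_mul]
        congr 1
        rw [pow_succ, pow_succ]; group
    apply Subtype.ext
    rw [key]
    have h1 : ∃ a, (h * x) ^ p ^ a = 1 := by
      have hmem : h * x ∈ (H ⊔ Subgroup.zpowers x : Subgroup G) :=
        Subgroup.mul_mem _ (Subgroup.mem_sup_left hh)
          (Subgroup.mem_sup_right (Subgroup.mem_zpowers x))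
      obtain ⟨a, ha⟩ := hHx ⟨h * x, hmem⟩
      refine ⟨a, ?_⟩
      have := congrArg Subtype.val ha
      simpa using this
    rw [hexp _ h1, hexp x hx]
    simp
  have hN : 0 < p ^ (n + 1) := pow_pos hp.out.pos _
  have htriv := trivial_action_of_norm_eq_one ρ xh Q₁ hxQ₁ (p ^ (n + 1)) hfix hinv hnorm hN
  apply hQ₁ne
  rw [eq_bot_iff]
  intro b hb
  obtain ⟨g, rfl⟩ := hπs b
  have h1 : secAct H Φ g = 1 := by
    apply MulEquiv.ext
    intro m
    have := htriv _ hb m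
    rw [hπ, hρ] at this
    rw [this]; rfl
  rw [secAct_eq_one_iff] at h1
  exact Subgroup.mem_bot.mpr ((hπker g).mpr (hker h1))

end Cfsg.Agent.Lib.Helper1.HH
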