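import Mathlib
import Cfsg.Prelude.Def_PLocal
import Cfsg.Agent.Lib.Helper1.PCore
import Cfsg.Agent.Lib.Helper1.StableQuad1

/-! The key conjugation argument used for the stable normal closure. -/
set_option autoImplicit false
universe u v
open Cfsg
open scoped commutatorElement

namespace Cfsg.Agent.Lib.Helper1.StableQuad
variable {G : Type u} [Group G]

/-- If `N ⊴ H` is acted on `p`-stably, `X ≤ N` has the property that elements of a Sylow
`p`-subgroup `P` acting quadratically on `X` centralize `X`, then any element acting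
quadratically on `N` centralizes the normal closure of `X`. -/
theorem centE_normalClosure_of_stable [Finite G] {p : ℕ} [Fact p.Prime] (N : Subgroup G)
    [hN : N.Normal] (hst : Cfsg.IsPStableOn p N) (P : Sylow p G) (X : Subgroup G) (hXN : X ≤ N)
    (hX : ∀ s ∈ P, QuadE X s → CentE X s) (a : G) (ha : QuadE N a) :
    CentE (Subgroup.normalClosure (X : Set G)) a := by
  obtain ⟨C, hC⟩ : ∃ C : Subgroup G, C = Subgroup.centralizer (N : Set G) := ⟨_, rfl⟩
  have key : ∀ g : G, CentE X (g * a * g⁻¹) := by
    intro g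
    have hq : QuadE N (g * a * g⁻¹) := quadE_conj N ha g
    have hmem := hst (g * a * g⁻¹) ((quadE_iff N _).mpr hq)
    have hle := pCore_le_sylow p (P.mapSurjective
      (QuotientGroup.mk'_surjective (Subgroup.centralizer (N : Set G))))
    have h2 : (QuotientGroup.mk (g * a * g⁻¹) : G ⧸ Subgroup.centralizer (N : Set G)) ∈
        ((P.mapSurjective (QuotientGroup.mk'_surjective (Subgroup.centralizer (N : Set G))) :
          Sylow p (G ⧸ Subgroup.centralizer (N : Set G))) :
          Subgroup (G ⧸ Subgroup.centralizer (N : Set G))) := hle hmem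
    rw [Sylow.coe_mapSurjective] at h2
    obtain ⟨s, hs, hs2⟩ := h2
    change (QuotientGroup.mk s : G ⧸ Subgroup.centralizer (N : Set G)) = _ at hs2
    rw [QuotientGroup.eq] at hs2
    obtain ⟨c, hc⟩ : ∃ c : G, c = s⁻¹ * (g * a * g⁻¹) := ⟨_, rfl⟩
    rw [← hc] at hs2
    have hs3 : s = (g * a * g⁻¹) * c⁻¹ := by rw [hc]; group
    have hs4 : g * a * g⁻¹ = s * c := by rw [hc]; group
    have hqs : QuadE N s := by
      rw [hs3]
      exact quadE_mul_right N hq (Subgroup.inv_mem _ hs2)
    have hcs : CentE X s := hX s hs (hqs.mono hXN)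
    rw [hs4]
    exact centE_mul_right hcs (Subgroup.centralizer_le (by exact_mod_cast hXN) hs2)
  have hle : Subgroup.normalClosure (X : Set G) ≤ Subgroup.centralizer ({a} : Set G) := by
    unfold Subgroup.normalClosure
    rw [Subgroup.closure_le]
    intro y hy
    rw [Group.mem_conjugatesOfSet_iff] at hy
    obtain ⟨x, hx, hxy⟩ := hy
    rw [isConj_iff] at hxy
    obtain ⟨g, rfl⟩ := hxy
    change g * x * g⁻¹ ∈ Subgroup.centralizer ({a} : Set G)
    rw [Subgroup.mem_centralizer_iff]
    intro b hb
    rw [Set.mem_singleton_iff] at hb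
    subst hb
    have h1 := key g⁻¹ x hx
    rw [inv_inv] at h1
    calc b * (g * x * g⁻¹) = g * (g⁻¹ * b * g * x) * g⁻¹ := by group
      _ = g * (x * (g⁻¹ * b * g)) * g⁻¹ := by rw [h1]
      _ = g * x * g⁻¹ * b := by group
  intro v hv
  have := hle hv
  rw [Subgroup.mem_centralizer_iff] at this
  exact this a rfl

end Cfsg.Agent.Lib.Helper1.StableQuad
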