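import Mathlib
import Cfsg.Prelude.Def_PLocal
import Cfsg.Agent.Lib.Helper1.PCore
import Cfsg.Agent.Lib.Helper1.StableQuad2
import Cfsg.Agent.Lib.Helper1.StableNormalClosure

/-! No element of a finite p-group acts quadratically and nontrivially on `W(S)`. -/
set_option autoImplicit false
universe u v
open Cfsg
open scoped commutatorElement

namespace Cfsg.Agent.Lib.Helper1.StableQuad

theorem stableNormalClosure_le_omegaCenterThompson {S : Type u} [Group S] [Finite S] {p : ℕ}
    [Fact p.Prime] : stableNormalClosure p S ≤ omegaCenterThompson p S := by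
  apply sInf_le
  refine ⟨omegaOne_center_le_omegaCenterThompson, ?_⟩
  intro H _ τ hτ
  exact omegaCenterThompson_map_normal τ hτ.1 hτ.2.2.2.2.1

theorem omegaOne_center_le_stableNormalClosure {S : Type u} [Group S] {p : ℕ} :
    omegaOne p (Subgroup.center S) ≤ stableNormalClosure p S := by
  apply le_sInf
  rintro W ⟨hW, _⟩
  exact hW

theorem stableNormalClosure_map_normal {S H : Type u} [Group S] [Group H] [Finite S] {p : ℕ}
    [Fact p.Prime] (τ : S →* H) (hτ : IsStableEmbedding p τ) :
    ((stableNormalClosure p S).map τ).Normal := by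
  have hinj := hτ.1
  haveI hn : ((omegaCenterThompson p S).map τ).Normal :=
    omegaCenterThompson_map_normal τ hτ.1 hτ.2.2.2.2.1
  refine ⟨?_⟩
  rintro _ ⟨w, hw, rfl⟩ h
  have h1 : h * τ w * h⁻¹ ∈ (omegaCenterThompson p S).map τ :=
    hn.conj_mem _ ⟨w, stableNormalClosure_le_omegaCenterThompson hw, rfl⟩ h
  obtain ⟨w', -, hw'⟩ := h1
  refine ⟨w', ?_, hw'⟩
  change w' ∈ stableNormalClosure p S
  unfold stableNormalClosure
  rw [Subgroup.mem_sInf]
  rintro X ⟨hX1, hX2⟩
  have hXn := hX2 H τ hτ
  have hwX : w ∈ X := by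
    have : stableNormalClosure p S ≤ X := sInf_le ⟨hX1, hX2⟩
    exact this hw
  have h2 : h * τ w * h⁻¹ ∈ X.map τ := hXn.conj_mem _ ⟨w, hwX, rfl⟩ h
  obtain ⟨x, hx, hx2⟩ := h2
  have : x = w' := hinj (hx2.trans hw'.symm)
  rw [← this]
  exact hx

/-- The family of good subgroups. -/
def GoodSub {S : Type u} [Group S] (p : ℕ) (U : Subgroup S) : Prop :=
  U ≤ stableNormalClosure p S ∧ U.Normal ∧ ∀ x : S, QuadE U x → CentE U x

theorem goodSub_sSup {S : Type u} [Group S] (p : ℕ) :
    GoodSub p (sSup {U : Subgroup S | GoodSub p U}) := by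
  refine ⟨?_, ?_, ?_⟩
  · apply sSup_le
    intro U hU
    exact hU.1
  · apply Subgroup.sSup_normal
    intro U hU
    exact hU.2.1
  · intro x hx
    apply centE_sSup
    intro U hU
    exact hU.2.2 x (hx.mono (le_sSup hU))

theorem goodSub_omegaOne_center {S : Type u} [Group S] (p : ℕ) :
    GoodSub p (omegaOne p (Subgroup.center S)) := by
  have hle : omegaOne p (Subgroup.center S) ≤ Subgroup.center S := by
    unfold omegaOne
    rw [Subgroup.closure_le]
    rintro x ⟨hx, -⟩
    exact hx
  refine ⟨omegaOne_center_le_stableNormalClosure, ?_, ?_⟩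
  · refine ⟨?_⟩
    intro n hn g
    have hc := Subgroup.mem_center_iff.mp (hle hn) g
    have : g * n * g⁻¹ = n := by rw [hc]; group
    rw [this]; exact hn
  · intro x _ v hv
    exact Subgroup.mem_center_iff.mp (hle hv) x

theorem quad_imp_cent {S : Type u} [Group S] [Finite S] {p : ℕ} [Fact p.Prime]
    (x : S) (hq : QuadE (stableNormalClosure p S) x) : CentE (stableNormalClosure p S) x := by
  obtain ⟨Y, hYdef⟩ : ∃ Y : Subgroup S, Y = sSup {U : Subgroup S | GoodSub p U} := ⟨_, rfl⟩
  have hY : GoodSub p Y := by rw [hYdef]; exact goodSub_sSup p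
  suffices hWY : stableNormalClosure p S ≤ Y by
    have : stableNormalClosure p S = Y := le_antisymm hWY hY.1
    rw [this] at hq ⊢
    exact hY.2.2 x hq
  apply sInf_le
  refine ⟨?_, ?_⟩
  · rw [hYdef]; exact le_sSup (goodSub_omegaOne_center p)
  intro H _ τ hτ
  have hinj := hτ.1
  haveI : Finite H := hτ.2.1
  obtain ⟨P, hP⟩ := hτ.2.2.1
  haveI hWn : ((stableNormalClosure p S).map τ).Normal := stableNormalClosure_map_normal τ hτ
  obtain ⟨N, hNdef⟩ : ∃ N : Subgroup H, N = Subgroup.normalClosure ((Y.map τ : Subgroup H) : Set H) :=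
    ⟨_, rfl⟩
  haveI hNn : N.Normal := by rw [hNdef]; exact Subgroup.normalClosure_normal
  have hNW : N ≤ (stableNormalClosure p S).map τ := by
    rw [hNdef]
    apply Subgroup.normalClosure_le_normal
    exact Subgroup.map_mono hY.1
  have hYN : Y.map τ ≤ N := by rw [hNdef]; exact Subgroup.subset_normalClosure
  have hst : IsPStableOn p N :=
    hτ.2.2.2.2.2 N (hNW.trans (Subgroup.map_mono stableNormalClosure_le_omegaCenterThompson))
  -- the preimage
  have hV₀map : (N.comap τ).map τ = N := by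
    rw [Subgroup.map_comap_eq_self]
    exact hNW.trans (Subgroup.map_le_range τ _)
  have hV₀W : N.comap τ ≤ stableNormalClosure p S := by
    intro v hv
    obtain ⟨w, hw, hw2⟩ := hNW hv
    rw [← hinj hw2]; exact hw
  have hgood : GoodSub p (N.comap τ) := by
    refine ⟨hV₀W, hNn.comap τ, ?_⟩
    intro y hy
    have h1 : QuadE N (τ y) := by
      have := quadE_map τ hy
      rwa [hV₀map] at this
    have hX : ∀ s ∈ P, QuadE (Y.map τ) s → CentE (Y.map τ) s := by
      intro s hs hqs
      have hs' : s ∈ τ.range := by rw [← hP]; exact hs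
      obtain ⟨s₀, rfl⟩ := hs'
      exact centE_map τ (hY.2.2 s₀ (quadE_of_map τ hinj hqs))
    have h2 := centE_normalClosure_of_stable N hst P (Y.map τ) hYN hX (τ y) h1
    rw [← hNdef, ← hV₀map] at h2
    exact centE_of_map τ hinj h2
  have hle : N.comap τ ≤ Y := by rw [hYdef]; exact le_sSup hgood
  have heq : Y.map τ = N := by
    apply le_antisymm hYN
    rw [← hV₀map]
    exact Subgroup.map_mono hle
  rw [heq]
  exact hNn

theorem stableNormalClosure_quadratic_imp_central {S : Type u} [Group S] [Finite S] {p : ℕ}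
    [Fact p.Prime] (x : S)
    (hq : ⁅⁅Cfsg.stableNormalClosure p S, Subgroup.zpowers x⁆, Subgroup.zpowers x⁆ = ⊥) :
    ⁅Cfsg.stableNormalClosure p S, Subgroup.zpowers x⁆ = ⊥ := by
  rw [centE_iff]
  rw [quadE_iff] at hq
  exact quad_imp_cent x hq

end Cfsg.Agent.Lib.Helper1.StableQuad
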