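import Mathlib
import Cfsg.Prelude.Def_PLocal
import Cfsg.Agent.Lib.Helper1.PCore
import Cfsg.Agent.Lib.Helper1.StableQuad3
import Cfsg.Agent.Lib.Helper1.FrattiniAction
import Cfsg.Agent.Lib.Helper1.ThompsonBasic2

/-! The inclusion of a Sylow `p`-subgroup in the normalizer of its Thompson subgroup is a stable
embedding (for action-`p`-stable groups with `C_G(O_p(G)) ≤ O_p(G)`). -/
set_option autoImplicit false
universe u v
open Cfsg
open scoped commutatorElement

namespace Cfsg.Agent.Lib.Helper1.StableQuad
variable {G : Type u} [Group G]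

theorem sylow_le_normalizer_thompson {p : ℕ} (S : Subgroup G) :
    S ≤ Subgroup.normalizer (thompsonSubgroupOf p S : Set G) := by
  haveI := thompsonSubgroup_characteristic p ↥S
  exact Subgroup.le_normalizer.trans
    (normalizer_le_normalizer_map_characteristic S (thompsonSubgroup p ↥S))

theorem isStableEmbedding_inclusion [Finite G] {p : ℕ} [hp : Fact p.Prime]
    (hst : IsActionPStable p G)
    (hc : Subgroup.centralizer (pCore p G : Set G) ≤ pCore p G) (S : Sylow p G) :
    IsStableEmbedding p (Subgroup.inclusion (sylow_le_normalizer_thompson (p := p) (S : Subgroup G))) := by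
  obtain ⟨L, hL⟩ : ∃ L : Subgroup G,
    L = Subgroup.normalizer (thompsonSubgroupOf p (S : Subgroup G) : Set G) := ⟨_, rfl⟩
  have hSL : (S : Subgroup G) ≤ L := by rw [hL]; exact sylow_le_normalizer_thompson _
  have hclause := hst.2.2 S
  rw [← hL] at hclause
  suffices h : IsStableEmbedding p (Subgroup.inclusion hSL) by
    subst hL
    exact h
  have hcomp : ∀ s : (S : Subgroup G), ((Subgroup.inclusion hSL s : L) : G) = (s : G) := fun s => rfl
  have hQS : pCore p G ≤ S := pCore_le_sylow p S
  refine ⟨Subgroup.inclusion_injective hSL, inferInstance, ⟨S.subtype hSL, ?_⟩, ?_, ?_, ?_⟩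
  · rw [Sylow.coe_subtype]
    ext x
    rw [Subgroup.mem_subgroupOf, MonoidHom.mem_range]
    constructor
    · intro hx
      exact ⟨⟨x, hx⟩, Subtype.ext rfl⟩
    · rintro ⟨s, rfl⟩
      exact s.2
  · -- centralizer of the core
    have hQL : (pCore p G).subgroupOf L ≤ pCore p ↥L := by
      apply le_pCore
      · exact (pCore_normal p).subgroupOf L
      · exact (pCore_isPGroup p).comap_subtype
    intro c hcmem
    apply hQL
    rw [Subgroup.mem_subgroupOf]
    apply hc
    rw [Subgroup.mem_centralizer_iff]
    intro q hq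
    rw [Subgroup.mem_centralizer_iff] at hcmem
    have hqL : q ∈ L := hSL (hQS hq)
    have := hcmem ⟨q, hqL⟩ (hQL (by rw [Subgroup.mem_subgroupOf]; exact hq))
    exact congrArg Subtype.val this
  · -- J(S) normal in L
    have heq : (thompsonSubgroup p ↥(S : Subgroup G)).map (Subgroup.inclusion hSL) =
        (thompsonSubgroupOf p (S : Subgroup G)).subgroupOf L := by
      ext x
      rw [Subgroup.mem_subgroupOf]
      unfold thompsonSubgroupOf
      constructor
      · rintro ⟨t, ht, rfl⟩
        exact ⟨t, ht, rfl⟩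
      · rintro ⟨t, ht, htx⟩
        exact ⟨t, ht, Subtype.ext htx⟩
    rw [heq, hL]
    exact Subgroup.normal_in_normalizer
  · intro V hVn hV
    apply hclause V
    intro x hx
    obtain ⟨v, hv, rfl⟩ := hx
    obtain ⟨w, hw, rfl⟩ := hV hv
    exact ⟨w, hw, rfl⟩

theorem normalizer_thompson_le_normalizer_stableNormalClosure [Finite G] {p : ℕ}
    [hp : Fact p.Prime] (hst : IsActionPStable p G)
    (hc : Subgroup.centralizer (pCore p G : Set G) ≤ pCore p G) (S : Sylow p G) :
    Subgroup.normalizer (thompsonSubgroupOf p (S : Subgroup G) : Set G) ≤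
      Subgroup.normalizer (((stableNormalClosure p ↥(S : Subgroup G)).map
        (S : Subgroup G).subtype : Subgroup G) : Set G) := by
  have hn := stableNormalClosure_map_normal _ (isStableEmbedding_inclusion hst hc S)
  apply le_normalizer_of_conj_mem
  intro g hg x hx
  obtain ⟨w, hw, rfl⟩ := hx
  have h1 := hn.conj_mem _ (Subgroup.mem_map_of_mem _ hw) ⟨g, hg⟩
  obtain ⟨w', hw', hw2⟩ := h1
  refine ⟨w', hw', ?_⟩
  have := congrArg Subtype.val hw2
  exact this

end Cfsg.Agent.Lib.Helper1.StableQuad
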