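import Mathlib
import Cfsg.Prelude.Def_PLocal
import Cfsg.Agent.Lib.Helper1.PCore
import Cfsg.Agent.Lib.Helper1.StableQuad4
import Cfsg.Agent.Lib.Helper1.StableQuad5
import Cfsg.Agent.Lib.Helper1.OmegaCenter

/-! The normal closure of `W(S)` is elementary abelian. -/
set_option autoImplicit false
universe u v
open Cfsg
open scoped commutatorElement

namespace Cfsg.Agent.Lib.Helper1.StableQuad
variable {G : Type u} [Group G]

/-- `W(S)` viewed in `G`. -/
def WOf (p : ℕ) (S : Subgroup G) : Subgroup G := (stableNormalClosure p ↥S).map S.subtype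

theorem WOf_le (p : ℕ) (S : Subgroup G) : WOf p S ≤ S := Subgroup.map_subtype_le _

theorem WOf_elementaryAbelian [Finite G] {p : ℕ} [hp : Fact p.Prime] (S : Subgroup G) :
    IsElementaryAbelian p (WOf p S) := by
  have h1 : IsElementaryAbelian p (omegaCenterThompson p ↥S) := by
    unfold omegaCenterThompson
    exact isElementaryAbelian_omegaOne_center p _
  have h2 := isElementaryAbelian_mono h1 (stableNormalClosure_le_omegaCenterThompson (S := ↥S))
  exact isElementaryAbelian_map h2 _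

theorem le_normalizer_WOf [Finite G] {p : ℕ} [hp : Fact p.Prime] (S : Subgroup G) :
    S ≤ Subgroup.normalizer (WOf p S : Set G) := by
  have hS : IsPGroup p (⊥ : Subgroup G) := IsPGroup.of_bot
  have hch : (stableNormalClosure p ↥S).Characteristic := by
    rw [Subgroup.characteristic_iff_map_eq]
    intro ϕ
    exact stableNormalClosure_map_equiv ϕ
  exact Subgroup.le_normalizer.trans
    (normalizer_le_normalizer_map_characteristic S (stableNormalClosure p ↥S))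

theorem WOf_quad_imp_cent [Finite G] {p : ℕ} [hp : Fact p.Prime] (S : Subgroup G) (s : G)
    (hs : s ∈ S) (hq : QuadE (WOf p S) s) : CentE (WOf p S) s := by
  have h1 : QuadE (stableNormalClosure p ↥S) (⟨s, hs⟩ : S) :=
    quadE_of_map S.subtype S.subtype_injective hq
  exact centE_map S.subtype (quad_imp_cent _ h1)

theorem WOf_le_pCore [Finite G] {p : ℕ} [hp : Fact p.Prime] (hst : IsActionPStable p G)
    (hc : Subgroup.centralizer (pCore p G : Set G) ≤ pCore p G) (S : Sylow p G) :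
    WOf p (S : Subgroup G) ≤ pCore p G := by
  apply le_pCore_of_abelian_normal_in_sylow hst.2.1 hc S _ (le_normalizer_WOf _)
  exact (isElementaryAbelian_iff.mp (WOf_elementaryAbelian _)).1

theorem WOf_conj_comm [Finite G] {p : ℕ} [hp : Fact p.Prime] (hst : IsActionPStable p G)
    (hc : Subgroup.centralizer (pCore p G : Set G) ≤ pCore p G) (S : Sylow p G) (g : G)
    (x : G) (hx : x ∈ WOf p (S : Subgroup G)) (x' : G) (hx' : x' ∈ WOf p (S : Subgroup G)) :
    (g * x' * g⁻¹) * x = x * (g * x' * g⁻¹) := by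
  obtain ⟨X, hXdef⟩ : ∃ X : Subgroup G, X = WOf p (S : Subgroup G) := ⟨_, rfl⟩
  rw [← hXdef] at hx hx'
  have hXQ : X ≤ pCore p G := hXdef ▸ WOf_le_pCore hst hc S
  have hQS : pCore p G ≤ S := pCore_le_sylow p S
  have hQn : (pCore p G).Normal := pCore_normal p
  have hXc : ∀ a ∈ X, ∀ b ∈ X, a * b = b * a := by
    rw [hXdef]; exact (isElementaryAbelian_iff.mp (WOf_elementaryAbelian _)).1
  have hSX : (S : Subgroup G) ≤ Subgroup.normalizer (X : Set G) := hXdef ▸ le_normalizer_WOf _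
  obtain ⟨y, hy⟩ : ∃ y : G, y = g * x' * g⁻¹ := ⟨_, rfl⟩
  rw [← hy]
  have hyQ : y ∈ pCore p G := by rw [hy]; exact hQn.conj_mem _ (hXQ hx') g
  have hq : QuadE X y := by
    intro v hv
    -- ⁅v, y⁆ = g * (x'' * x'⁻¹) * g⁻¹ with x'' = (g⁻¹ v g) x' (g⁻¹ v g)⁻¹ ∈ X
    have hv' : g⁻¹ * v * g ∈ (S : Subgroup G) := by
      have := hQn.conj_mem _ (hXQ hv) g⁻¹
      rw [inv_inv] at this
      exact hQS this
    have hx'' : (g⁻¹ * v * g) * x' * (g⁻¹ * v * g)⁻¹ ∈ X :=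
      (Subgroup.mem_normalizer_iff.mp (hSX hv') x').mp hx'
    have e : ⁅v, y⁆ = g * ((g⁻¹ * v * g) * x' * (g⁻¹ * v * g)⁻¹ * x'⁻¹) * g⁻¹ := by
      rw [hy, commutatorElement_def]; group
    have hcomm : x' * ((g⁻¹ * v * g) * x' * (g⁻¹ * v * g)⁻¹ * x'⁻¹) =
        ((g⁻¹ * v * g) * x' * (g⁻¹ * v * g)⁻¹ * x'⁻¹) * x' :=
      hXc _ hx' _ (X.mul_mem hx'' (X.inv_mem hx'))
    rw [e, hy]
    calc g * x' * g⁻¹ * (g * ((g⁻¹ * v * g) * x' * (g⁻¹ * v * g)⁻¹ * x'⁻¹) * g⁻¹)
        = g * (x' * ((g⁻¹ * v * g) * x' * (g⁻¹ * v * g)⁻¹ * x'⁻¹)) * g⁻¹ := by group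
      _ = g * (((g⁻¹ * v * g) * x' * (g⁻¹ * v * g)⁻¹ * x'⁻¹) * x') * g⁻¹ := by rw [hcomm]
      _ = g * ((g⁻¹ * v * g) * x' * (g⁻¹ * v * g)⁻¹ * x'⁻¹) * g⁻¹ * (g * x' * g⁻¹) := by group
  have hcent : CentE X y := by
    rw [hXdef] at hq ⊢
    exact WOf_quad_imp_cent _ y (hQS hyQ) hq
  exact hcent x hx

theorem normalClosure_WOf_elementaryAbelian [Finite G] {p : ℕ} [hp : Fact p.Prime]
    (hst : IsActionPStable p G)
    (hc : Subgroup.centralizer (pCore p G : Set G) ≤ pCore p G) (S : Sylow p G) :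
    IsElementaryAbelian p (Subgroup.normalClosure (WOf p (S : Subgroup G) : Set G)) := by
  unfold Subgroup.normalClosure
  apply isElementaryAbelian_closure
  · intro a ha b hb
    rw [Group.mem_conjugatesOfSet_iff] at ha hb
    obtain ⟨x, hx, hxa⟩ := ha
    obtain ⟨y, hy, hyb⟩ := hb
    rw [isConj_iff] at hxa hyb
    obtain ⟨g, rfl⟩ := hxa
    obtain ⟨h, rfl⟩ := hyb
    have h1 := WOf_conj_comm hst hc S (h⁻¹ * g) y hy x hx
    calc g * x * g⁻¹ * (h * y * h⁻¹) = h * ((h⁻¹ * g) * x * (h⁻¹ * g)⁻¹ * y) * h⁻¹ := by group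
      _ = h * (y * ((h⁻¹ * g) * x * (h⁻¹ * g)⁻¹)) * h⁻¹ := by rw [h1]
      _ = h * y * h⁻¹ * (g * x * g⁻¹) := by group
  · intro a ha
    rw [Group.mem_conjugatesOfSet_iff] at ha
    obtain ⟨x, hx, hxa⟩ := ha
    rw [isConj_iff] at hxa
    obtain ⟨g, rfl⟩ := hxa
    rw [conj_pow, (WOf_elementaryAbelian (p := p) (S : Subgroup G)).2 x hx]
    group

end Cfsg.Agent.Lib.Helper1.StableQuad
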