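import Mathlib
import Cfsg.Prelude.Def_PLocal
import Cfsg.Agent.Lib.Helper1.ThompsonBasic2
import Cfsg.Agent.Lib.Helper1.OmegaCenter

/-! `J(S)` for a subgroup `S ≤ G` as a join inside `G`; normalizers. -/
set_option autoImplicit false
universe u v
open Cfsg
open scoped commutatorElement Pointwise

namespace Cfsg.Agent.Lib.Helper1
variable {G : Type u} [Group G] {p : ℕ}

/-- The maximal elementary abelian subgroups of `S`, viewed in `G`. -/
def maxElAbIn (p : ℕ) (S : Subgroup G) : Set (Subgroup G) :=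
  {A | A ≤ S ∧ IsElementaryAbelian p A ∧ ∀ B : Subgroup G, B ≤ S → IsElementaryAbelian p B →
    Nat.card B ≤ Nat.card A}

theorem map_subtype_mem_maxElAbIn {S : Subgroup G} {A : Subgroup S}
    (hA : A ∈ maxElementaryAbelianSubgroups p S) : A.map S.subtype ∈ maxElAbIn p S := by
  refine ⟨Subgroup.map_subtype_le _, isElementaryAbelian_map hA.1 _, ?_⟩
  intro B hBS hB
  have h1 : Nat.card (A.map S.subtype) = Nat.card A :=
    Subgroup.card_map_of_injective S.subtype_injective
  have h2 : Nat.card (B.subgroupOf S) = Nat.card B :=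
    Nat.card_congr (Subgroup.subgroupOfEquivOfLe hBS).toEquiv
  rw [h1, ← h2]
  exact hA.2 _ (isElementaryAbelian_comap_of_injective hB _ S.subtype_injective)

theorem subgroupOf_mem_of_mem_maxElAbIn {S A : Subgroup G} (hA : A ∈ maxElAbIn p S) :
    A.subgroupOf S ∈ maxElementaryAbelianSubgroups p S := by
  refine ⟨isElementaryAbelian_comap_of_injective hA.2.1 _ S.subtype_injective, ?_⟩
  intro B hB
  have h1 : Nat.card (B.map S.subtype) = Nat.card B :=
    Subgroup.card_map_of_injective S.subtype_injective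
  have h2 : Nat.card (A.subgroupOf S) = Nat.card A :=
    Nat.card_congr (Subgroup.subgroupOfEquivOfLe hA.1).toEquiv
  rw [h2, ← h1]
  exact hA.2.2 _ (Subgroup.map_subtype_le _) (isElementaryAbelian_map hB _)

theorem thompsonSubgroupOf_eq_sSup (p : ℕ) (S : Subgroup G) :
    thompsonSubgroupOf p S = sSup (maxElAbIn p S) := by
  apply le_antisymm
  · unfold thompsonSubgroupOf thompsonSubgroup
    rw [Subgroup.map_le_iff_le_comap]
    apply sSup_le
    intro A hA
    rw [← Subgroup.map_le_iff_le_comap]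
    exact le_sSup (map_subtype_mem_maxElAbIn hA)
  · apply sSup_le
    intro A hA
    have h1 : A = (A.subgroupOf S).map S.subtype := (Subgroup.map_subgroupOf_eq_of_le hA.1).symm
    rw [h1]
    exact Subgroup.map_mono (le_thompsonSubgroup (subgroupOf_mem_of_mem_maxElAbIn hA))

theorem thompsonSubgroupOf_le_self (p : ℕ) (S : Subgroup G) : thompsonSubgroupOf p S ≤ S :=
  Subgroup.map_subtype_le _

theorem le_thompsonSubgroupOf_of_mem {S A : Subgroup G} (hA : A ∈ maxElAbIn p S) :
    A ≤ thompsonSubgroupOf p S := by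
  rw [thompsonSubgroupOf_eq_sSup]; exact le_sSup hA

theorem conj_mem_maxElAbIn {S A : Subgroup G} (hA : A ∈ maxElAbIn p S) (g : G)
    (h : A.map (MulAut.conj g).toMonoidHom ≤ S) :
    A.map (MulAut.conj g).toMonoidHom ∈ maxElAbIn p S := by
  refine ⟨h, isElementaryAbelian_map hA.2.1 _, ?_⟩
  intro B hBS hB
  rw [Subgroup.card_map_of_injective (MulAut.conj g).injective]
  exact hA.2.2 B hBS hB

/-- If `J(S) ≤ T ≤ S` then `N_G(T) ≤ N_G(J(S))`. -/
theorem normalizer_le_normalizer_thompsonSubgroupOf {S T : Subgroup G}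
    (hJT : thompsonSubgroupOf p S ≤ T) (hTS : T ≤ S) :
    Subgroup.normalizer (T : Set G) ≤ Subgroup.normalizer (thompsonSubgroupOf p S : Set G) := by
  have key : ∀ g ∈ Subgroup.normalizer (T : Set G),
      (thompsonSubgroupOf p S).map (MulAut.conj g).toMonoidHom ≤ thompsonSubgroupOf p S := by
    intro g hg
    rw [Subgroup.map_le_iff_le_comap]
    nth_rewrite 1 [thompsonSubgroupOf_eq_sSup]
    apply sSup_le
    intro A hA
    rw [← Subgroup.map_le_iff_le_comap]
    apply le_thompsonSubgroupOf_of_mem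
    apply conj_mem_maxElAbIn hA
    refine le_trans ?_ hTS
    rintro _ ⟨a, ha, rfl⟩
    have haT : a ∈ T := hJT (le_thompsonSubgroupOf_of_mem hA ha)
    exact (Subgroup.mem_normalizer_iff.mp hg a).mp haT
  intro g hg
  rw [Subgroup.mem_normalizer_iff]
  intro x
  constructor
  · intro hx
    exact key g hg ⟨x, hx, rfl⟩
  · intro hx
    have := key g⁻¹ (Subgroup.inv_mem _ hg) ⟨_, hx, rfl⟩
    have e : (MulAut.conj g⁻¹).toMonoidHom (g * x * g⁻¹) = x := by
      show MulAut.conj g⁻¹ (g * x * g⁻¹) = x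
      rw [MulAut.conj_apply]; group
    rw [e] at this
    exact this

end Cfsg.Agent.Lib.Helper1
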