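import Mathlib
import Cfsg.Prelude.Def_PLocal
import Cfsg.Agent.Lib.Helper1.ThompsonBasic2
import Cfsg.Agent.Lib.Helper1.OmegaCenter

/-! Intersections of maximal (elementary) abelian subgroups. -/
set_option autoImplicit false
universe u v
open Cfsg
open scoped commutatorElement Pointwise

namespace Cfsg.Agent.Lib.Helper1
variable {G : Type u} [Group G] {p : ℕ}

theorem isMulCommutative_sup_zpowers {A : Subgroup G} (hA : IsMulCommutative A) {x : G}
    (hx : x ∈ Subgroup.centralizer (A : Set G)) : IsMulCommutative (A ⊔ Subgroup.zpowers x : Subgroup G) := by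
  have hcl : A ⊔ Subgroup.zpowers x = Subgroup.closure ((A : Set G) ∪ {x}) := by
    rw [Subgroup.closure_union, Subgroup.closure_eq, Subgroup.zpowers_eq_closure]
  rw [hcl]
  apply Subgroup.isMulCommutative_closure
  have hAc : ∀ a ∈ A, ∀ b ∈ A, a * b = b * a := fun a ha b hb =>
    congrArg Subtype.val (mul_comm' (⟨a, ha⟩ : A) ⟨b, hb⟩)
  rintro a (ha | ha) b (hb | hb)
  · exact hAc a ha b hb
  · rw [Set.mem_singleton_iff] at hb
    rw [hb]
    exact Subgroup.mem_centralizer_iff.mp hx a ha
  · rw [Set.mem_singleton_iff] at ha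
    rw [ha]
    exact (Subgroup.mem_centralizer_iff.mp hx b hb).symm
  · rw [Set.mem_singleton_iff] at ha hb
    rw [ha, hb]

theorem inter_max_abelian (𝒜 : Set (Subgroup G)) (hne : 𝒜.Nonempty)
    (hab : ∀ A ∈ 𝒜, IsMulCommutative A)
    (hmax : ∀ A ∈ 𝒜, ∀ B : Subgroup G, IsMulCommutative B → A ≤ B → B = A) :
    sInf 𝒜 = sSup 𝒜 ⊓ Subgroup.centralizer ((sSup 𝒜 : Subgroup G) : Set G) ∧
      sInf 𝒜 = Subgroup.centralizer ((sSup 𝒜 : Subgroup G) : Set G) := by
  have h1 : Subgroup.centralizer ((sSup 𝒜 : Subgroup G) : Set G) ≤ sInf 𝒜 := by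
    intro x hx
    rw [Subgroup.mem_sInf]
    intro A hA
    have hxA : x ∈ Subgroup.centralizer (A : Set G) := Subgroup.centralizer_le (show A ≤ sSup 𝒜 from le_sSup hA) hx
    have h2 := hmax A hA _ (isMulCommutative_sup_zpowers (hab A hA) hxA) le_sup_left
    rw [← h2]
    exact (le_sup_right : Subgroup.zpowers x ≤ _) (Subgroup.mem_zpowers x)
  have h2 : sInf 𝒜 ≤ Subgroup.centralizer ((sSup 𝒜 : Subgroup G) : Set G) := by
    rw [Subgroup.le_centralizer_iff]
    apply sSup_le
    intro A hA
    rw [Subgroup.le_centralizer_iff]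
    intro x hx
    have hxA : x ∈ A := Subgroup.mem_sInf.mp hx A hA
    have := hab A hA
    rw [Subgroup.mem_centralizer_iff]
    intro a ha
    exact congrArg Subtype.val (mul_comm' (⟨a, ha⟩ : A) ⟨x, hxA⟩)
  have h3 : sInf 𝒜 ≤ sSup 𝒜 := by
    obtain ⟨A, hA⟩ := hne
    exact (sInf_le hA).trans (le_sSup hA)
  have h4 := le_antisymm h2 h1
  refine ⟨?_, h4⟩
  apply le_antisymm (le_inf h3 h2)
  exact inf_le_right.trans h1

theorem mem_of_mem_max_of_centralizes {A : Subgroup G} (hA : A ∈ maxElementaryAbelianSubgroups p G)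
    [Finite G] {x : G} (hx : x ∈ Subgroup.centralizer (A : Set G)) (hxp : x ^ p = 1) : x ∈ A := by
  have h1 : IsElementaryAbelian p (Subgroup.zpowers x) := isElementaryAbelian_zpowers hxp
  have h2 : Subgroup.zpowers x ≤ Subgroup.centralizer (A : Set G) := by
    rw [Subgroup.zpowers_le]; exact hx
  have h3 := isElementaryAbelian_sup_of_le_centralizer hA.1 h1 h2
  have h4 := hA.2 _ h3
  have h5 : A = A ⊔ Subgroup.zpowers x := Subgroup.eq_of_le_of_card_ge le_sup_left h4
  rw [h5]
  exact (le_sup_right : Subgroup.zpowers x ≤ _) (Subgroup.mem_zpowers x)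

theorem inter_max_elementary_abelian [Finite G] [hp : Fact p.Prime] :
    sInf (Cfsg.maxElementaryAbelianSubgroups p G) = Cfsg.omegaCenterThompson p G ∧
      Cfsg.omegaCenterThompson p G =
        Cfsg.omegaOne p (Subgroup.centralizer (Cfsg.thompsonSubgroup p G : Set G)) := by
  constructor
  · apply le_antisymm
    · intro x hx
      obtain ⟨A₀, hA₀⟩ := exists_mem_maxElementaryAbelianSubgroups (G := G) p
      have hxA₀ : x ∈ A₀ := Subgroup.mem_sInf.mp hx A₀ hA₀
      apply Subgroup.subset_closure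
      refine ⟨Subgroup.mem_inf.mpr ⟨le_thompsonSubgroup hA₀ hxA₀, ?_⟩, hA₀.1.2 x hxA₀⟩
      have : thompsonSubgroup p G ≤ Subgroup.centralizer ({x} : Set G) := by
        apply sSup_le
        intro A hA a ha
        rw [Subgroup.mem_centralizer_iff]
        intro y hy
        rw [Set.mem_singleton_iff] at hy
        rw [hy]
        exact isElementaryAbelian_comm hA.1 (Subgroup.mem_sInf.mp hx A hA) ha
      rw [Subgroup.mem_centralizer_iff]
      intro j hj
      exact (Subgroup.mem_centralizer_iff.mp (this hj) x rfl).symm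
    · unfold omegaCenterThompson omegaOne
      rw [Subgroup.closure_le]
      rintro x ⟨hx, hxp⟩
      rw [SetLike.mem_coe, Subgroup.mem_sInf]
      intro A hA
      apply mem_of_mem_max_of_centralizes hA _ hxp
      exact Subgroup.centralizer_le (le_thompsonSubgroup hA) (Subgroup.mem_inf.mp hx).2
  · unfold omegaCenterThompson
    apply le_antisymm
    · exact omegaOne_mono p inf_le_right
    · apply Subgroup.closure_mono
      rintro x ⟨hx, hxp⟩
      exact ⟨Subgroup.mem_inf.mpr ⟨mem_thompsonSubgroup_of_mem_centralizer x hx hxp, hx⟩, hxp⟩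

end Cfsg.Agent.Lib.Helper1
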