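import Mathlib
import Cfsg.Prelude.Def_PLocal
import Cfsg.Agent.Lib.Helper1.OmegaCenter

/-! Nilpotent action of a group acting through a `p`-group on a `p`-subgroup. -/
set_option autoImplicit false
universe u v
open Cfsg
open scoped commutatorElement Pointwise

namespace Cfsg.Agent.Lib.Helper1
variable {G : Type u} [Group G] {p : ℕ}

theorem eq_bot_of_le_commutator_of_isNilpotent (N Y : Subgroup G) [hN : Group.IsNilpotent N]
    (hYN : Y ≤ N) (h : Y ≤ ⁅Y, N⁆) : Y = ⊥ := by
  have key : ∀ i, Y ≤ N.lowerCentralSeries i := by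
    intro i
    induction i with
    | zero => exact hYN
    | succ i ih =>
      rw [Subgroup.lowerCentralSeries_succ]
      exact h.trans (Subgroup.commutator_mono ih le_rfl)
  obtain ⟨n, hn⟩ := (Subgroup.isNilpotent_iff_lowerCentralSeries N).mp hN
  rw [eq_bot_iff, ← hn]
  exact key n

/-- Nilpotent action: a group `A` acting on a `p`-group `V` through a `p`-group cannot satisfy
`Y ≤ [Y, A]` for a nontrivial `Y ≤ V`. -/
theorem eq_bot_of_le_commutator_of_pgroup_action [Finite G] [hp : Fact p.Prime] (V A Y : Subgroup G)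
    (hV : IsPGroup p V) (hAV : A ≤ Subgroup.normalizer (V : Set G))
    (hA : ∀ a ∈ A, ∃ k : ℕ, a ^ (p ^ k) ∈ Subgroup.centralizer (V : Set G)) (hYV : Y ≤ V)
    (h : Y ≤ ⁅Y, A⁆) : Y = ⊥ := by
  obtain ⟨C', hC'⟩ : ∃ C' : Subgroup A, C' = (Subgroup.centralizer (V : Set G)).subgroupOf A := ⟨_, rfl⟩
  have hC'n : C'.Normal := by
    constructor
    intro c hc a
    rw [hC', Subgroup.mem_subgroupOf] at hc ⊢
    rw [Subgroup.mem_centralizer_iff] at hc ⊢
    intro v hv
    have hv' : (a : G)⁻¹ * v * (a : G) ∈ V := by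
      have := (Subgroup.mem_normalizer_iff.mp (Subgroup.inv_mem _ (hAV a.2)) v).mp hv
      simpa using this
    have h1 := hc _ hv'
    simp only [Subgroup.coe_mul, Subgroup.coe_inv]
    calc v * ((a : G) * c * (a : G)⁻¹) = (a : G) * (((a : G)⁻¹ * v * (a : G)) * c) * (a : G)⁻¹ := by group
      _ = (a : G) * (c * ((a : G)⁻¹ * v * (a : G))) * (a : G)⁻¹ := by rw [h1]
      _ = (a : G) * c * (a : G)⁻¹ * v := by group
  have hQp : IsPGroup p (A ⧸ C') := by
    intro q
    obtain ⟨a, rfl⟩ := QuotientGroup.mk_surjective q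
    obtain ⟨k, hk⟩ := hA a a.2
    refine ⟨k, ?_⟩
    rw [← QuotientGroup.mk_pow, QuotientGroup.eq_one_iff, hC', Subgroup.mem_subgroupOf]
    simpa using hk
  obtain ⟨k, hk⟩ := hQp.exists_card_eq
  let P : Sylow p A := default
  have htop : (⊤ : Subgroup A) ≤ (P : Subgroup A) ⊔ C' := by
    apply le_of_relIndex_prime_pow_of_sylow_le P C' ⊤ _ k _ le_sup_right le_sup_left
    rw [Subgroup.relIndex_top_right]
    exact hk
  obtain ⟨P', hP'⟩ : ∃ P' : Subgroup G, P' = (P : Subgroup A).map A.subtype := ⟨_, rfl⟩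
  have hP'p : IsPGroup p P' := by rw [hP']; exact P.2.map _
  have hP'A : P' ≤ A := by rw [hP']; exact Subgroup.map_subtype_le _
  have hdecomp : ∀ a ∈ A, ∃ x ∈ P', ∃ c ∈ Subgroup.centralizer (V : Set G), a = x * c := by
    intro a ha
    have h1 : (⟨a, ha⟩ : A) ∈ (P : Subgroup A) ⊔ C' := htop (Subgroup.mem_top _)
    rw [Subgroup.mem_sup_of_normal_right] at h1
    obtain ⟨x, hx, c, hc, hxc⟩ := h1
    refine ⟨x, ?_, c, ?_, ?_⟩
    · rw [hP']; exact ⟨x, hx, rfl⟩
    · rw [hC', Subgroup.mem_subgroupOf] at hc; exact hc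
    · have := congrArg Subtype.val hxc
      simpa using this.symm
  have hYA : ⁅Y, A⁆ ≤ ⁅Y, P'⁆ := by
    rw [Subgroup.commutator_le]
    intro y hy a ha
    obtain ⟨x, hx, c, hc, rfl⟩ := hdecomp a ha
    have h1 : c * y⁻¹ = y⁻¹ * c :=
      (Subgroup.mem_centralizer_iff.mp hc y⁻¹ (V.inv_mem (hYV hy))).symm
    have h2 : ⁅y, x * c⁆ = ⁅y, x⁆ := by
      calc ⁅y, x * c⁆ = y * x * (c * y⁻¹) * c⁻¹ * x⁻¹ := by
            simp only [commutatorElement_def]; group
        _ = y * x * (y⁻¹ * c) * c⁻¹ * x⁻¹ := by rw [h1]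
        _ = ⁅y, x⁆ := by simp only [commutatorElement_def]; group
    rw [h2]
    exact Subgroup.commutator_mem_commutator hy hx
  have hNp : IsPGroup p (V ⊔ P' : Subgroup G) :=
    IsPGroup.to_sup_of_normal_left' hV hP'p (hP'A.trans hAV)
  have : Group.IsNilpotent (V ⊔ P' : Subgroup G) := hNp.isNilpotent
  apply eq_bot_of_le_commutator_of_isNilpotent (V ⊔ P') Y (hYV.trans le_sup_left)
  exact h.trans (hYA.trans (Subgroup.commutator_mono le_rfl le_sup_right))

end Cfsg.Agent.Lib.Helper1
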