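import Mathlib
import Cfsg.Prelude.Def_PLocal
import Cfsg.Agent.Lib.Helper1.AbelianAction
import Cfsg.Agent.Lib.Helper1.SZHelpers

/-! The value `|B| * |C_V(B)|`: lattice property and the single-element replacement step. -/
set_option autoImplicit false
universe u v
open Cfsg
open scoped commutatorElement Pointwise

namespace Cfsg.Agent.Lib.Helper1
variable {G : Type u} [Group G] {p : ℕ}

/-- `f(B) = |B| * |C_V(B)|`. -/
noncomputable def offVal (V B : Subgroup G) : ℕ :=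
  Nat.card B * Nat.card ↥(V ⊓ Subgroup.centralizer (B : Set G))

theorem offVal_pos [Finite G] (V B : Subgroup G) : 0 < offVal V B :=
  Nat.mul_pos Nat.card_pos Nat.card_pos

/-- Lattice property of subgroups attaining the maximal value. -/
theorem offVal_inf_of_max [Finite G] (V A X Y : Subgroup G) (hX : X ≤ A) (hY : Y ≤ A)
    (hmax : ∀ B : Subgroup G, B ≤ A → offVal V B ≤ offVal V A)
    (hfX : offVal V X = offVal V A) (hfY : offVal V Y = offVal V A) :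
    offVal V (X ⊓ Y) = offVal V A ∧
      V ⊓ Subgroup.centralizer ((X ⊓ Y : Subgroup G) : Set G) =
        (V ⊓ Subgroup.centralizer (X : Set G)) ⊔ (V ⊓ Subgroup.centralizer (Y : Set G)) := by
  obtain ⟨m, hm⟩ : ∃ m, m = offVal V A := ⟨_, rfl⟩
  have hmpos : 0 < m := hm ▸ offVal_pos V A
  rw [← hm] at hfX hfY hmax ⊢
  have h1 := card_mul_card_le_card_sup_mul_card_inf X Y
  have h2 := card_mul_card_le_card_sup_mul_card_inf (V ⊓ Subgroup.centralizer (X : Set G))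
    (V ⊓ Subgroup.centralizer (Y : Set G))
  have h3 : (V ⊓ Subgroup.centralizer (X : Set G)) ⊓ (V ⊓ Subgroup.centralizer (Y : Set G)) =
      V ⊓ Subgroup.centralizer ((X ⊔ Y : Subgroup G) : Set G) := by
    rw [centralizer_sup_eq]
    apply le_antisymm
    · exact le_inf (inf_le_left.trans inf_le_left)
        (le_inf (inf_le_left.trans inf_le_right) (inf_le_right.trans inf_le_right))
    · exact le_inf (le_inf inf_le_left (inf_le_right.trans inf_le_left))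
        (le_inf inf_le_left (inf_le_right.trans inf_le_right))
  have h4 : (V ⊓ Subgroup.centralizer (X : Set G)) ⊔ (V ⊓ Subgroup.centralizer (Y : Set G)) ≤
      V ⊓ Subgroup.centralizer ((X ⊓ Y : Subgroup G) : Set G) := by
    apply sup_le
    · exact inf_le_inf_left V (Subgroup.centralizer_le (show X ⊓ Y ≤ X from inf_le_left))
    · exact inf_le_inf_left V (Subgroup.centralizer_le (show X ⊓ Y ≤ Y from inf_le_right))
  have h5 := hmax (X ⊔ Y) (sup_le hX hY)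
  have h6 := hmax (X ⊓ Y) (inf_le_left.trans hX)
  rw [h3] at h2
  unfold offVal at hfX hfY h5 h6 ⊢
  -- abbreviations
  obtain ⟨a, ha⟩ : ∃ a, a = Nat.card X := ⟨_, rfl⟩
  obtain ⟨b, hb⟩ : ∃ b, b = Nat.card Y := ⟨_, rfl⟩
  obtain ⟨s, hs⟩ : ∃ s, s = Nat.card (X ⊔ Y : Subgroup G) := ⟨_, rfl⟩
  obtain ⟨i, hi⟩ : ∃ i, i = Nat.card (X ⊓ Y : Subgroup G) := ⟨_, rfl⟩
  obtain ⟨cx, hcx⟩ : ∃ cx, cx = Nat.card ↥(V ⊓ Subgroup.centralizer (X : Set G)) := ⟨_, rfl⟩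
  obtain ⟨cy, hcy⟩ : ∃ cy, cy = Nat.card ↥(V ⊓ Subgroup.centralizer (Y : Set G)) := ⟨_, rfl⟩
  obtain ⟨cs, hcs⟩ : ∃ cs, cs = Nat.card ↥((V ⊓ Subgroup.centralizer (X : Set G)) ⊔
    (V ⊓ Subgroup.centralizer (Y : Set G)) : Subgroup G) := ⟨_, rfl⟩
  obtain ⟨ci, hci⟩ : ∃ ci, ci = Nat.card ↥(V ⊓ Subgroup.centralizer ((X ⊔ Y : Subgroup G) : Set G)) :=
    ⟨_, rfl⟩
  obtain ⟨ct, hct⟩ : ∃ ct, ct = Nat.card ↥(V ⊓ Subgroup.centralizer ((X ⊓ Y : Subgroup G) : Set G)) :=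
    ⟨_, rfl⟩
  have hcsct : cs ≤ ct := by rw [hcs, hct]; exact Subgroup.card_le_of_le h4
  rw [← ha, ← hb, ← hs, ← hi] at h1
  rw [← hcx, ← hcy, ← hcs, ← hci] at h2
  rw [← ha, ← hcx] at hfX
  rw [← hb, ← hcy] at hfY
  rw [← hs, ← hci] at h5
  rw [← hi, ← hct] at h6 ⊢
  have hipos : 0 < i := hi ▸ Nat.card_pos
  -- m*m ≤ m * (i*cs)
  have k1 : m * m ≤ m * (i * cs) := by
    calc m * m = (a * cx) * (b * cy) := by rw [hfX, hfY]
      _ = (a * b) * (cx * cy) := by ring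
      _ ≤ (s * i) * (cs * ci) := Nat.mul_le_mul h1 h2
      _ = (s * ci) * (i * cs) := by ring
      _ ≤ m * (i * cs) := Nat.mul_le_mul_right _ h5
  have k2 : m ≤ i * cs := Nat.le_of_mul_le_mul_left k1 hmpos
  have k3 : i * cs ≤ i * ct := Nat.mul_le_mul_left _ hcsct
  have k4 : i * ct = m := le_antisymm h6 (k2.trans k3)
  refine ⟨k4, ?_⟩
  have k5 : i * ct ≤ i * cs := by rw [k4]; exact k2
  have k6 : ct ≤ cs := Nat.le_of_mul_le_mul_left k5 hipos
  rw [hct, hcs] at k6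
  exact (Subgroup.eq_of_le_of_card_ge h4 k6).symm

theorem card_mul_le_of_coset_injective {α : Type u} {β : Type v} [Group α] [Group β] [Finite α]
    [Finite β] (H : Subgroup α) (K : Subgroup β) (ψ : α → β)
    (h : ∀ a b, (ψ a)⁻¹ * ψ b ∈ K → a⁻¹ * b ∈ H) :
    Nat.card α * Nat.card K ≤ Nat.card H * Nat.card β := by
  have hinj : Function.Injective (fun q : α ⧸ H => (QuotientGroup.mk (ψ q.out) : β ⧸ K)) := by
    intro q q' hqq
    have h1 : (ψ q.out)⁻¹ * ψ q'.out ∈ K := QuotientGroup.eq.mp hqq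
    have h2 := h _ _ h1
    have h3 : (QuotientGroup.mk q.out : α ⧸ H) = QuotientGroup.mk q'.out := QuotientGroup.eq.mpr h2
    rw [QuotientGroup.out_eq', QuotientGroup.out_eq'] at h3
    exact h3
  have h1 : H.index ≤ K.index := Nat.card_le_card_of_injective _ hinj
  calc Nat.card α * Nat.card K = Nat.card H * H.index * Nat.card K := by rw [Subgroup.card_mul_index]
    _ ≤ Nat.card H * K.index * Nat.card K :=
        Nat.mul_le_mul_right _ (Nat.mul_le_mul_left _ h1)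
    _ = Nat.card H * (Nat.card K * K.index) := by ring
    _ = Nat.card H * Nat.card β := by rw [Subgroup.card_mul_index]

theorem conj_commutatorElement_eq {V A : Subgroup G}
    (hAV : A ≤ Subgroup.normalizer (V : Set G))
    (hab : ⁅A, A⁆ ≤ Subgroup.centralizer (V : Set G)) {a c u : G} (ha : a ∈ A) (hc : c ∈ A)
    (hu : u ∈ V) : a * ⁅c, u⁆ * a⁻¹ = ⁅c, a * u * a⁻¹⁆ := by
  have h1 := conj_conj_comm_of_commutator_le_centralizer hAV hab ha hc hu
  calc a * ⁅c, u⁆ * a⁻¹ = (a * (c * u * c⁻¹) * a⁻¹) * (a * u * a⁻¹)⁻¹ := by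
        simp only [commutatorElement_def]; group
    _ = (c * (a * u * a⁻¹) * c⁻¹) * (a * u * a⁻¹)⁻¹ := by rw [h1]
    _ = ⁅c, a * u * a⁻¹⁆ := by simp only [commutatorElement_def]

theorem key_coset_condition {V A : Subgroup G} (hVc : ∀ x ∈ V, ∀ y ∈ V, x * y = y * x)
    (hAV : A ≤ Subgroup.normalizer (V : Set G))
    (hab : ⁅A, A⁆ ≤ Subgroup.centralizer (V : Set G)) {u : G} (hu : u ∈ V) {a b : G} (ha : a ∈ A)
    (hb : b ∈ A) (hd : ⁅a, u⁆⁻¹ * ⁅b, u⁆ ∈ Subgroup.centralizer (A : Set G)) :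
    a⁻¹ * b ∈ Subgroup.centralizer ((commSet A {u} : Subgroup G) : Set G) := by
  unfold commSet
  rw [Subgroup.centralizer_closure, Subgroup.mem_centralizer_iff]
  rintro x ⟨c, hc, u', hu', rfl⟩
  rw [Set.mem_singleton_iff] at hu'
  rw [hu']
  have hκa : a * u * a⁻¹ ∈ V := conj_mem_of_mem_normalizer (hAV ha) hu
  have hκb : b * u * b⁻¹ ∈ V := conj_mem_of_mem_normalizer (hAV hb) hu
  have hd' : ⁅a, u⁆⁻¹ * ⁅b, u⁆ = (a * u * a⁻¹)⁻¹ * (b * u * b⁻¹) := by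
    have h1 : ⁅a, u⁆⁻¹ * ⁅b, u⁆ = u * ((a * u * a⁻¹)⁻¹ * (b * u * b⁻¹)) * u⁻¹ := by
      simp only [commutatorElement_def]; group
    rw [h1, hVc u hu _ (V.mul_mem (V.inv_mem hκa) hκb)]
    group
  rw [hd'] at hd
  have hcd : ⁅c, (a * u * a⁻¹)⁻¹ * (b * u * b⁻¹)⁆ = 1 := by
    rw [commutatorElement_eq_one_iff_mul_comm]
    exact Subgroup.mem_centralizer_iff.mp hd c hc
  have h2 : ⁅c, b * u * b⁻¹⁆ = ⁅c, a * u * a⁻¹⁆ := by
    have e : b * u * b⁻¹ = (a * u * a⁻¹) * ((a * u * a⁻¹)⁻¹ * (b * u * b⁻¹)) := by group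
    rw [e, commutatorElement_mul_right_of_comm hVc (hAV hc) hκa (V.mul_mem (V.inv_mem hκa) hκb),
      hcd, mul_one]
  have h3 : a * ⁅c, u⁆ * a⁻¹ = b * ⁅c, u⁆ * b⁻¹ := by
    rw [conj_commutatorElement_eq hAV hab ha hc hu, conj_commutatorElement_eq hAV hab hb hc hu, h2]
  calc ⁅c, u⁆ * (a⁻¹ * b) = a⁻¹ * (a * ⁅c, u⁆ * a⁻¹) * b := by group
    _ = a⁻¹ * (b * ⁅c, u⁆ * b⁻¹) * b := by rw [h3]
    _ = a⁻¹ * b * ⁅c, u⁆ := by group

theorem offVal_single [Finite G] (V A : Subgroup G) (hVc : ∀ x ∈ V, ∀ y ∈ V, x * y = y * x)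
    (hAV : A ≤ Subgroup.normalizer (V : Set G))
    (hab : ⁅A, A⁆ ≤ Subgroup.centralizer (V : Set G))
    (hmax : ∀ B : Subgroup G, B ≤ A → offVal V B ≤ offVal V A) (u : G) (hu : u ∈ V) :
    offVal V (A ⊓ Subgroup.centralizer ((commSet A {u} : Subgroup G) : Set G)) = offVal V A ∧
    V ⊓ Subgroup.centralizer ((A ⊓ Subgroup.centralizer ((commSet A {u} : Subgroup G) : Set G) :
      Subgroup G) : Set G) = commSet A {u} ⊔ (V ⊓ Subgroup.centralizer (A : Set G)) := by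
  obtain ⟨W, hW⟩ : ∃ W : Subgroup G, W = commSet A {u} := ⟨_, rfl⟩
  rw [← hW]
  have hWV : W ≤ V := by
    rw [hW]; exact commSet_le hAV (Set.singleton_subset_iff.mpr hu)
  obtain ⟨Au, hAu⟩ : ∃ Au : Subgroup G, Au = A ⊓ Subgroup.centralizer (W : Set G) := ⟨_, rfl⟩
  rw [← hAu]
  have hAuA : Au ≤ A := by rw [hAu]; exact inf_le_left
  obtain ⟨K, hK⟩ : ∃ K : Subgroup G, K = W ⊓ Subgroup.centralizer (A : Set G) := ⟨_, rfl⟩
  have hKW : K ≤ W := by rw [hK]; exact inf_le_left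
  -- key inequality
  have key : Nat.card A * Nat.card K ≤ Nat.card Au * Nat.card W := by
    have hψ : ∀ a : A, ⁅(a : G), u⁆ ∈ W := by
      intro a
      rw [hW]
      exact Subgroup.subset_closure ⟨a, a.2, u, rfl, rfl⟩
    have := card_mul_le_of_coset_injective (Au.subgroupOf A) (K.subgroupOf W)
      (fun a : A => (⟨⁅(a : G), u⁆, hψ a⟩ : W)) (by
        intro a b hab'
        rw [Subgroup.mem_subgroupOf] at hab' ⊢
        have h1 : ⁅(a : G), u⁆⁻¹ * ⁅(b : G), u⁆ ∈ K := hab'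
        rw [hK] at h1
        have h2 := key_coset_condition hVc hAV hab hu a.2 b.2 (Subgroup.mem_inf.mp h1).2
        rw [hAu]
        refine Subgroup.mem_inf.mpr ⟨A.mul_mem (A.inv_mem a.2) b.2, ?_⟩
        rw [hW]
        exact h2)
    rw [card_subgroupOf_of_le hAuA, card_subgroupOf_of_le hKW] at this
    exact this
  have h2 := card_mul_card_le_card_sup_mul_card_inf W (V ⊓ Subgroup.centralizer (A : Set G))
  have hKeq : W ⊓ (V ⊓ Subgroup.centralizer (A : Set G)) = K := by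
    rw [hK, ← inf_assoc, inf_eq_left.mpr hWV]
  rw [hKeq] at h2
  have h3 : W ⊔ (V ⊓ Subgroup.centralizer (A : Set G)) ≤ V ⊓ Subgroup.centralizer (Au : Set G) := by
    apply sup_le
    · apply le_inf hWV
      rw [Subgroup.le_centralizer_iff, hAu]
      exact inf_le_right
    · exact inf_le_inf_left V (Subgroup.centralizer_le hAuA)
  have h4 := hmax Au hAuA
  unfold offVal at h4 ⊢
  obtain ⟨nA, hnA⟩ : ∃ n, n = Nat.card A := ⟨_, rfl⟩
  obtain ⟨nu, hnu⟩ : ∃ n, n = Nat.card Au := ⟨_, rfl⟩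
  obtain ⟨w, hw⟩ : ∃ n, n = Nat.card W := ⟨_, rfl⟩
  obtain ⟨k, hk⟩ : ∃ n, n = Nat.card K := ⟨_, rfl⟩
  obtain ⟨cA, hcA⟩ : ∃ n, n = Nat.card ↥(V ⊓ Subgroup.centralizer (A : Set G)) := ⟨_, rfl⟩
  obtain ⟨cu, hcu⟩ : ∃ n, n = Nat.card ↥(V ⊓ Subgroup.centralizer (Au : Set G)) := ⟨_, rfl⟩
  obtain ⟨j, hj⟩ : ∃ n, n = Nat.card ↥(W ⊔ (V ⊓ Subgroup.centralizer (A : Set G)) : Subgroup G) :=
    ⟨_, rfl⟩
  have hkpos : 0 < k := hk ▸ Nat.card_pos
  have hnupos : 0 < nu := hnu ▸ Nat.card_pos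
  have hjcu : j ≤ cu := by rw [hj, hcu]; exact Subgroup.card_le_of_le h3
  rw [← hnA, ← hnu, ← hw, ← hk] at key
  rw [← hw, ← hcA, ← hj, ← hk] at h2
  rw [← hnA, ← hnu, ← hcA, ← hcu] at h4
  rw [← hnA, ← hnu, ← hcA, ← hcu]
  have k1 : (nA * cA) * k ≤ (nu * j) * k := by
    calc (nA * cA) * k = (nA * k) * cA := by ring
      _ ≤ (nu * w) * cA := Nat.mul_le_mul_right _ key
      _ = nu * (w * cA) := by ring
      _ ≤ nu * (j * k) := Nat.mul_le_mul_left _ h2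
      _ = (nu * j) * k := by ring
  have k2 : nA * cA ≤ nu * j := Nat.le_of_mul_le_mul_right k1 hkpos
  have k3 : nu * j ≤ nu * cu := Nat.mul_le_mul_left _ hjcu
  have k4 : nu * cu = nA * cA := le_antisymm h4 (k2.trans k3)
  refine ⟨k4, ?_⟩
  have k5 : nu * cu ≤ nu * j := by rw [k4]; exact k2
  have k6 : cu ≤ j := Nat.le_of_mul_le_mul_left k5 hnupos
  rw [hcu, hj] at k6
  exact (Subgroup.eq_of_le_of_card_ge h3 k6).symm

end Cfsg.Agent.Lib.Helper1
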