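import Mathlib
import Cfsg.Prelude.Def_PLocal
import Cfsg.Agent.Lib.Helper1.OffVal

/-! Thompson/Timmesfeld replacement: the core dichotomy. -/
set_option autoImplicit false
universe u v
open Cfsg
open scoped commutatorElement Pointwise

namespace Cfsg.Agent.Lib.Helper1
variable {G : Type u} [Group G] {p : ℕ}

theorem centralizer_coe_bot : Subgroup.centralizer (((⊥ : Subgroup G)) : Set G) = ⊤ := by
  rw [eq_top_iff]
  intro x _
  rw [Subgroup.mem_centralizer_iff]
  intro h hh
  have : h = 1 := hh
  rw [this, one_mul, mul_one]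

theorem offVal_commSet_finset [Finite G] (V A : Subgroup G)
    (hVc : ∀ x ∈ V, ∀ y ∈ V, x * y = y * x)
    (hAV : A ≤ Subgroup.normalizer (V : Set G))
    (hab : ⁅A, A⁆ ≤ Subgroup.centralizer (V : Set G))
    (hmax : ∀ B : Subgroup G, B ≤ A → offVal V B ≤ offVal V A) (s : Finset G)
    (hs : ∀ u ∈ s, u ∈ V) :
    offVal V (A ⊓ Subgroup.centralizer ((commSet A (s : Set G) : Subgroup G) : Set G)) = offVal V A ∧
    V ⊓ Subgroup.centralizer ((A ⊓ Subgroup.centralizer ((commSet A (s : Set G) : Subgroup G) : Set G) :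
      Subgroup G) : Set G) = commSet A (s : Set G) ⊔ (V ⊓ Subgroup.centralizer (A : Set G)) := by
  classical
  induction s using Finset.induction_on with
  | empty =>
    rw [Finset.coe_empty, commSet_empty, centralizer_coe_bot, inf_top_eq, bot_sup_eq]
    exact ⟨rfl, rfl⟩
  | insert u s hus ih =>
    have hu : u ∈ V := hs u (Finset.mem_insert_self u s)
    have ih' := ih (fun v hv => hs v (Finset.mem_insert_of_mem hv))
    have h1 := offVal_single V A hVc hAV hab hmax u hu
    have e1 : ((insert u s : Finset G) : Set G) = {u} ∪ (s : Set G) := by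
      rw [Finset.coe_insert, Set.insert_eq]
    rw [e1, commSet_union, centralizer_sup_eq]
    have e2 : A ⊓ (Subgroup.centralizer ((commSet A {u} : Subgroup G) : Set G) ⊓
        Subgroup.centralizer ((commSet A (s : Set G) : Subgroup G) : Set G)) =
        (A ⊓ Subgroup.centralizer ((commSet A {u} : Subgroup G) : Set G)) ⊓
        (A ⊓ Subgroup.centralizer ((commSet A (s : Set G) : Subgroup G) : Set G)) :=
      inf_inf_distrib_left _ _ _
    rw [e2]
    have h2 := offVal_inf_of_max V A _ _ inf_le_left inf_le_left hmax h1.1 ih'.1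
    refine ⟨h2.1, ?_⟩
    rw [h2.2, h1.2, ih'.2]
    apply le_antisymm
    · apply sup_le
      · exact sup_le (le_sup_left.trans le_sup_left) le_sup_right
      · exact sup_le (le_sup_right.trans le_sup_left) le_sup_right
    · apply sup_le
      · exact sup_le (le_sup_left.trans le_sup_left) (le_sup_left.trans le_sup_right)
      · exact le_sup_right.trans le_sup_left

theorem thompson_replacement_dichotomy [Finite G] (V A : Subgroup G)
    (hVc : ∀ x ∈ V, ∀ y ∈ V, x * y = y * x)
    (hAV : A ≤ Subgroup.normalizer (V : Set G))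
    (hab : ⁅A, A⁆ ≤ Subgroup.centralizer (V : Set G))
    (hmax : ∀ B : Subgroup G, B ≤ A → offVal V B ≤ offVal V A) (U : Subgroup G) (hU : U ≤ V) :
    offVal V (A ⊓ Subgroup.centralizer ((⁅U, A⁆ : Subgroup G) : Set G)) = offVal V A ∧
    V ⊓ Subgroup.centralizer ((A ⊓ Subgroup.centralizer ((⁅U, A⁆ : Subgroup G) : Set G) :
      Subgroup G) : Set G) = ⁅U, A⁆ ⊔ (V ⊓ Subgroup.centralizer (A : Set G)) := by
  have h := offVal_commSet_finset V A hVc hAV hab hmax (Set.toFinite (U : Set G)).toFinset (by
    intro u hu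
    rw [Set.Finite.mem_toFinset] at hu
    exact hU hu)
  rw [Set.Finite.coe_toFinset, commSet_coe] at h
  exact h

end Cfsg.Agent.Lib.Helper1
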