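import Mathlib
import Cfsg.Prelude.Def_PLocal
import Cfsg.Agent.Lib.Helper1.ThompsonReplacement
import Cfsg.Agent.Lib.Helper1.NilpotentAction
import Cfsg.Agent.Lib.Helper1.Quadratic

/-! Timmesfeld replacement theorem. -/
set_option autoImplicit false
universe u v
open Cfsg
open scoped commutatorElement Pointwise

namespace Cfsg.Agent.Lib.Helper1
variable {G : Type u} [Group G] {p : ℕ}

theorem S0598_aux [Finite G] (V A : Subgroup G) (hV : Cfsg.IsElementaryAbelian p V)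
    (hAV : A ≤ Subgroup.normalizer (V : Set G)) (hab : ⁅A, A⁆ ≤ Subgroup.centralizer (V : Set G))
    (U : Subgroup G) (hU : U ≤ V) : ∃ B : Subgroup G, B ≤ A ∧ ((Nat.card A * Nat.card ↥(V ⊓ Subgroup.centralizer (A : Set G)) < Nat.card B * Nat.card ↥(V ⊓ Subgroup.centralizer (B : Set G))) ∨ (B = A ⊓ Subgroup.centralizer ((⁅U, A⁆ : Subgroup G) : Set G) ∧ (V ⊓ Subgroup.centralizer (B : Set G)) = ⁅U, A⁆ ⊔ (V ⊓ Subgroup.centralizer (A : Set G)) ∧ Nat.card A * Nat.card ↥(V ⊓ Subgroup.centralizer (A : Set G)) = Nat.card B * Nat.card ↥(V ⊓ Subgroup.centralizer (B : Set G)))) := by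
  have hVc : ∀ x ∈ V, ∀ y ∈ V, x * y = y * x := fun x hx y hy => isElementaryAbelian_comm hV hx hy
  by_cases hmax : ∀ B : Subgroup G, B ≤ A → offVal V B ≤ offVal V A
  · have h := thompson_replacement_dichotomy V A hVc hAV hab hmax U hU
    exact ⟨_, inf_le_left, Or.inr ⟨rfl, h.2, h.1.symm⟩⟩
  · push Not at hmax
    obtain ⟨B, hBA, hB⟩ := hmax
    exact ⟨B, hBA, Or.inl hB⟩

theorem timmesfeld_replacement [Finite G] [hp : Fact p.Prime] (V A : Subgroup G)
    (hV : Cfsg.IsElementaryAbelian p V)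
    (hAV : A ≤ Subgroup.normalizer (V : Set G)) (hA : Cfsg.IsBestOffenderOn p V A) (U : Subgroup G)
    (hU : U ≤ V) :
    Cfsg.IsBestOffenderOn p V (A ⊓ Subgroup.centralizer ((⁅U, A⁆ : Subgroup G) : Set G)) ∧
    V ⊓ Subgroup.centralizer ((A ⊓ Subgroup.centralizer ((⁅U, A⁆ : Subgroup G) : Set G) : Subgroup G) : Set G) = ⁅U, A⁆ ⊔ (V ⊓ Subgroup.centralizer (A : Set G)) ∧
    (⁅V, A⁆ ≠ ⊥ → ⁅V, A ⊓ Subgroup.centralizer ((⁅U, A⁆ : Subgroup G) : Set G)⁆ ≠ ⊥) := by
  have hVc : ∀ x ∈ V, ∀ y ∈ V, x * y = y * x := fun x hx y hy => isElementaryAbelian_comm hV hx hy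
  obtain ⟨hA1, hA2, hA3⟩ := hA
  have hmax : ∀ B : Subgroup G, B ≤ A → offVal V B ≤ offVal V A := hA1
  have h := thompson_replacement_dichotomy V A hVc hAV hA2 hmax U hU
  obtain ⟨A₀, hA₀⟩ : ∃ A₀ : Subgroup G, A₀ = A ⊓ Subgroup.centralizer ((⁅U, A⁆ : Subgroup G) : Set G) :=
    ⟨_, rfl⟩
  rw [← hA₀] at h ⊢
  have hA₀A : A₀ ≤ A := by rw [hA₀]; exact inf_le_left
  refine ⟨⟨?_, ?_, ?_⟩, h.2, ?_⟩
  · intro B hB
    have := hmax B (hB.trans hA₀A)
    rw [← h.1] at this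
    exact this
  · exact (Subgroup.commutator_mono hA₀A hA₀A).trans hA2
  · intro a ha
    exact hA3 a (hA₀A ha)
  · intro hne hbot
    apply hne
    have hVA₀ : V ≤ Subgroup.centralizer (A₀ : Set G) :=
      Subgroup.commutator_eq_bot_iff_le_centralizer.mp hbot
    have hVeq : V = ⁅U, A⁆ ⊔ (V ⊓ Subgroup.centralizer (A : Set G)) := by
      rw [← h.2, inf_eq_left.mpr hVA₀]
    obtain ⟨Y, hY⟩ : ∃ Y : Subgroup G, Y = ⁅V, A⁆ := ⟨_, rfl⟩
    rw [← hY]
    have hYV : Y ≤ V := by rw [hY]; exact commutator_le_of_le_normalizer V A hAV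
    have hWY : ⁅U, A⁆ ≤ Y := by rw [hY]; exact Subgroup.commutator_mono hU le_rfl
    apply eq_bot_of_le_commutator_of_pgroup_action V A Y (isElementaryAbelian_isPGroup hV) hAV
      (fun a ha => ⟨1, by rw [pow_one]; exact hA3 a ha⟩) hYV
    -- Y ≤ ⁅Y, A⁆
    have key : ∀ v ∈ Subgroup.closure (((⁅U, A⁆ : Subgroup G) : Set G) ∪ ((V ⊓ Subgroup.centralizer (A : Set G) : Subgroup G) : Set G)),
        v ∈ V ∧ ∀ a ∈ A, ⁅a, v⁆ ∈ ⁅Y, A⁆ := by
      intro v hv
      induction hv using Subgroup.closure_induction with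
      | mem x hx =>
        rcases hx with hx | hx
        · refine ⟨hYV (hWY hx), fun a ha => ?_⟩
          rw [← commutatorElement_inv]
          exact Subgroup.inv_mem _ (Subgroup.commutator_mem_commutator (hWY hx) ha)
        · refine ⟨(Subgroup.mem_inf.mp hx).1, fun a ha => ?_⟩
          have : ⁅a, x⁆ = 1 := by
            rw [commutatorElement_eq_one_iff_mul_comm]
            exact (Subgroup.mem_centralizer_iff.mp (Subgroup.mem_inf.mp hx).2 a ha)
          rw [this]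
          exact Subgroup.one_mem _
      | one =>
        refine ⟨V.one_mem, fun a _ => ?_⟩
        rw [commutatorElement_one_right]
        exact Subgroup.one_mem _
      | mul x y _ _ ihx ihy =>
        refine ⟨V.mul_mem ihx.1 ihy.1, fun a ha => ?_⟩
        rw [commutatorElement_mul_right_of_comm hVc (hAV ha) ihx.1 ihy.1]
        exact Subgroup.mul_mem _ (ihx.2 a ha) (ihy.2 a ha)
      | inv x _ ih =>
        refine ⟨V.inv_mem ih.1, fun a ha => ?_⟩
        have h1 := commutatorElement_mul_right_of_comm hVc (hAV ha) ih.1 (V.inv_mem ih.1)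
        rw [mul_inv_cancel, commutatorElement_one_right] at h1
        have h2 : ⁅a, x⁻¹⁆ = ⁅a, x⁆⁻¹ := (eq_inv_of_mul_eq_one_right h1.symm)
        rw [h2]
        exact Subgroup.inv_mem _ (ih.2 a ha)
    rw [← Subgroup.sup_eq_closure, ← hVeq] at key
    nth_rewrite 1 [hY]
    rw [Subgroup.commutator_le]
    intro v hv a ha
    rw [← commutatorElement_inv]
    exact Subgroup.inv_mem _ ((key v hv).2 a ha)

end Cfsg.Agent.Lib.Helper1
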