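import Mathlib
import Cfsg.Prelude.Def_PLocal
import Cfsg.Agent.Lib.Helper1.Timmesfeld
import Cfsg.Agent.Lib.Helper1.MaxAbelianInter

/-! Thompson replacement theorem for maximal elementary abelian subgroups. -/
set_option autoImplicit false
universe u v
open Cfsg
open scoped commutatorElement Pointwise

namespace Cfsg.Agent.Lib.Helper1
variable {G : Type u} [Group G] {p : ℕ}

theorem thompson_replacement_max [Finite G] [hp : Fact p.Prime] (V : Subgroup G) [hVn : V.Normal]
    (hV : Cfsg.IsElementaryAbelian p V) (A : Subgroup G)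
    (hA : A ∈ Cfsg.maxElementaryAbelianSubgroups p G) :
    (⁅V, A⁆ ⊔ (A ⊓ Subgroup.centralizer ((⁅V, A⁆ : Subgroup G) : Set G))) ∈ Cfsg.maxElementaryAbelianSubgroups p G ∧
    ⁅⁅V, ⁅V, A⁆ ⊔ (A ⊓ Subgroup.centralizer ((⁅V, A⁆ : Subgroup G) : Set G))⁆, ⁅V, A⁆ ⊔ (A ⊓ Subgroup.centralizer ((⁅V, A⁆ : Subgroup G) : Set G))⁆ = ⊥ ∧
    (⁅V, A⁆ ≠ ⊥ → ⁅V, ⁅V, A⁆ ⊔ (A ⊓ Subgroup.centralizer ((⁅V, A⁆ : Subgroup G) : Set G))⁆ ≠ ⊥) := by
  have hVc : ∀ x ∈ V, ∀ y ∈ V, x * y = y * x := fun x hx y hy => isElementaryAbelian_comm hV hx hy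
  have hAV : A ≤ Subgroup.normalizer (V : Set G) := by
    rw [Subgroup.normalizer_eq_top]; exact le_top
  have hbo := isBestOffenderOn_of_mem_max V hV A hA
  obtain ⟨hT1, hT2, hT3⟩ := timmesfeld_replacement V A hV hAV hbo V le_rfl
  have hfeq := (thompson_replacement_dichotomy V A hVc hAV hbo.2.1 hbo.1 V le_rfl).1
  obtain ⟨W, hW⟩ : ∃ W : Subgroup G, W = ⁅V, A⁆ := ⟨_, rfl⟩
  rw [← hW] at hT1 hT2 hT3 hfeq ⊢
  obtain ⟨A₀, hA₀⟩ : ∃ A₀ : Subgroup G, A₀ = A ⊓ Subgroup.centralizer (W : Set G) := ⟨_, rfl⟩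
  rw [← hA₀] at hT1 hT2 hT3 hfeq ⊢
  have hWV : W ≤ V := by rw [hW]; exact commutator_le_of_le_normalizer V A hAV
  have hA₀A : A₀ ≤ A := by rw [hA₀]; exact inf_le_left
  have hA₀W : A₀ ≤ Subgroup.centralizer (W : Set G) := by rw [hA₀]; exact inf_le_right
  have hWel : IsElementaryAbelian p W := isElementaryAbelian_mono hV hWV
  have hA₀el : IsElementaryAbelian p A₀ := isElementaryAbelian_mono hA.1 hA₀A
  have hXel : IsElementaryAbelian p (W ⊔ A₀) := isElementaryAbelian_sup_of_le_centralizer hWel hA₀el hA₀W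
  -- C_V(A) ≤ A₀
  have hCA : V ⊓ Subgroup.centralizer (A : Set G) ≤ A₀ := by
    intro x hx
    obtain ⟨hx1, hx2⟩ := Subgroup.mem_inf.mp hx
    rw [hA₀]
    refine Subgroup.mem_inf.mpr ⟨mem_of_mem_max_of_centralizes hA hx2 (hV.2 x hx1), ?_⟩
    rw [Subgroup.mem_centralizer_iff]
    intro w hw
    exact hVc w (hWV hw) x hx1
  -- X = A₀ ⊔ C_V(A₀) = W ⊔ A₀
  have hXeq : A₀ ⊔ (V ⊓ Subgroup.centralizer (A₀ : Set G)) = W ⊔ A₀ := by
    rw [hT2]
    apply le_antisymm
    · exact sup_le le_sup_right (sup_le le_sup_left (hCA.trans le_sup_right))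
    · exact sup_le (le_sup_left.trans le_sup_right) le_sup_left
  -- cardinality
  have hcard : Nat.card A ≤ Nat.card (W ⊔ A₀ : Subgroup G) := by
    have h1 := card_mul_card_le_card_sup_mul_card_inf A₀ (V ⊓ Subgroup.centralizer (A₀ : Set G))
    rw [hXeq] at h1
    have h2 : A₀ ⊓ (V ⊓ Subgroup.centralizer (A₀ : Set G)) ≤ V ⊓ Subgroup.centralizer (A : Set G) := by
      intro x hx
      obtain ⟨hx1, hx2⟩ := Subgroup.mem_inf.mp hx
      refine Subgroup.mem_inf.mpr ⟨(Subgroup.mem_inf.mp hx2).1, ?_⟩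
      rw [Subgroup.mem_centralizer_iff]
      intro a ha
      exact isElementaryAbelian_comm hA.1 ha (hA₀A hx1)
    have h3 := Subgroup.card_le_of_le h2
    unfold offVal at hfeq
    have h4 : Nat.card A * Nat.card ↥(V ⊓ Subgroup.centralizer (A : Set G)) ≤
        Nat.card (W ⊔ A₀ : Subgroup G) * Nat.card ↥(V ⊓ Subgroup.centralizer (A : Set G)) := by
      rw [← hfeq]
      exact h1.trans (Nat.mul_le_mul_left _ h3)
    exact Nat.le_of_mul_le_mul_right h4 Nat.card_pos
  have hXW : W ⊔ A₀ ≤ Subgroup.centralizer (W : Set G) := by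
    apply sup_le _ hA₀W
    intro x hx
    rw [Subgroup.mem_centralizer_iff]
    intro w hw
    exact hVc w (hWV hw) x (hWV hx)
  have hVX : ⁅V, W ⊔ A₀⁆ ≤ W := by
    rw [Subgroup.commutator_le]
    intro v hv x hx
    have key : ∀ x ∈ Subgroup.closure ((W : Set G) ∪ (A₀ : Set G)), ∀ v ∈ V, ⁅v, x⁆ ∈ W := by
      intro x hx
      induction hx using Subgroup.closure_induction with
      | mem x hx =>
        intro v hv
        rcases hx with hx | hx
        · have : ⁅v, x⁆ = 1 := by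
            rw [commutatorElement_eq_one_iff_mul_comm]
            exact hVc v hv x (hWV hx)
          rw [this]; exact W.one_mem
        · rw [hW]
          exact Subgroup.commutator_mem_commutator hv (hA₀A hx)
      | one =>
        intro v _
        rw [commutatorElement_one_right]; exact W.one_mem
      | mul x y hx hy ihx ihy =>
        intro v hv
        rw [← Subgroup.sup_eq_closure] at hx
        have e : ⁅v, x * y⁆ = ⁅v, x⁆ * (x * ⁅v, y⁆ * x⁻¹) := by
          simp only [commutatorElement_def]; group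
        have h1 := Subgroup.mem_centralizer_iff.mp (hXW hx) _ (ihy v hv)
        have e2 : x * ⁅v, y⁆ * x⁻¹ = ⁅v, y⁆ := by rw [← h1]; group
        rw [e, e2]
        exact W.mul_mem (ihx v hv) (ihy v hv)
      | inv x hx ih =>
        intro v hv
        rw [← Subgroup.sup_eq_closure] at hx
        have e : ⁅v, x⁻¹⁆ = x⁻¹ * ⁅v, x⁆⁻¹ * x := by
          simp only [commutatorElement_def]; group
        have h1 := Subgroup.mem_centralizer_iff.mp (hXW hx) _ (W.inv_mem (ih v hv))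
        have e2 : x⁻¹ * ⁅v, x⁆⁻¹ * x = ⁅v, x⁆⁻¹ := by rw [mul_assoc, h1]; group
        rw [e, e2]
        exact W.inv_mem (ih v hv)
    rw [← Subgroup.sup_eq_closure] at key
    exact key x hx v hv
  refine ⟨⟨hXel, fun B hB => (hA.2 B hB).trans hcard⟩, ?_, ?_⟩
  · rw [eq_bot_iff]
    refine (Subgroup.commutator_mono hVX le_rfl).trans ?_
    rw [le_bot_iff, Subgroup.commutator_eq_bot_iff_le_centralizer, Subgroup.le_centralizer_iff]
    exact hXW
  · intro hne
    have := hT3 hne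
    intro hbot
    apply this
    rw [eq_bot_iff, ← hbot]
    exact Subgroup.commutator_mono le_rfl le_sup_right

end Cfsg.Agent.Lib.Helper1
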