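import Mathlib
import Cfsg.Prelude.Def_PLocal
import Cfsg.Agent.Lib.Helper1.PCore
import Cfsg.Agent.Lib.Helper1.StableQuad6
import Cfsg.Agent.Lib.Helper1.ThompsonReplacementMax
import Cfsg.Agent.Lib.Helper1.ThompsonRelative
import Cfsg.Agent.Lib.Helper1.SubnormalSylow

/-! `W(S)` is normal in an action-`p`-stable group with `C_G(O_p(G)) ≤ O_p(G)`. -/
set_option autoImplicit false
universe u v
open Cfsg
open scoped commutatorElement

namespace Cfsg.Agent.Lib.Helper1.StableQuad
variable {G : Type u} [Group G]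

theorem thompson_le_centralizer_normalClosure_WOf [Finite G] {p : ℕ} [hp : Fact p.Prime]
    (hst : IsActionPStable p G)
    (hc : Subgroup.centralizer (pCore p G : Set G) ≤ pCore p G) (S : Sylow p G) :
    thompsonSubgroupOf p (S : Subgroup G) ≤
      Subgroup.centralizer (Subgroup.normalClosure (WOf p (S : Subgroup G) : Set G) : Set G) := by
  obtain ⟨V, hVdef⟩ : ∃ V : Subgroup G,
    V = Subgroup.normalClosure (WOf p (S : Subgroup G) : Set G) := ⟨_, rfl⟩
  rw [← hVdef]
  have hVel : IsElementaryAbelian p V := hVdef ▸ normalClosure_WOf_elementaryAbelian hst hc S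
  haveI hVn : V.Normal := hVdef ▸ Subgroup.normalClosure_normal
  have hQS : pCore p G ≤ S := pCore_le_sylow p S
  haveI hQn : (pCore p G).Normal := pCore_normal p
  have hVS : V ≤ S := by
    rw [hVdef]
    exact (Subgroup.normalClosure_le_normal (WOf_le_pCore hst hc S)).trans hQS
  have hstV : IsPStableOn p V := hst.1 V hVel
  have key : ∀ a ∈ (S : Subgroup G), QuadE V a → CentE V a := by
    intro a _ hq
    have := centE_normalClosure_of_stable V hstV S (WOf p (S : Subgroup G))
      (hVdef ▸ Subgroup.subset_normalClosure) (fun s hs => WOf_quad_imp_cent _ s hs) a hq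
    rwa [← hVdef] at this
  obtain ⟨V', hV'def⟩ : ∃ V' : Subgroup (S : Subgroup G), V' = V.subgroupOf (S : Subgroup G) :=
    ⟨_, rfl⟩
  haveI hV'n : V'.Normal := hV'def ▸ hVn.subgroupOf _
  have hV'el : IsElementaryAbelian p V' :=
    hV'def ▸ isElementaryAbelian_comap_of_injective hVel _ (S : Subgroup G).subtype_injective
  have hV'map : V'.map (S : Subgroup G).subtype = V := by
    rw [hV'def, Subgroup.subgroupOf_map_subtype, inf_eq_left.mpr hVS]
  have key' : ∀ a : (S : Subgroup G), QuadE V' a → CentE V' a := by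
    intro a hq
    have h1 := quadE_map (S : Subgroup G).subtype hq
    rw [hV'map] at h1
    have h2 := key a a.2 h1
    rw [← hV'map] at h2
    exact centE_of_map _ (S : Subgroup G).subtype_injective h2
  unfold thompsonSubgroupOf thompsonSubgroup
  rw [Subgroup.map_le_iff_le_comap]
  apply sSup_le
  intro A hA
  obtain ⟨_, hq, hne⟩ := thompson_replacement_max V' hV'el A hA
  obtain ⟨B, hB⟩ : ∃ B : Subgroup (S : Subgroup G),
    B = ⁅V', A⁆ ⊔ (A ⊓ Subgroup.centralizer ((⁅V', A⁆ : Subgroup (S : Subgroup G)) : Set _)) :=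
    ⟨_, rfl⟩
  rw [← hB] at hq hne
  have hcomm : ⁅V', A⁆ = ⊥ := by
    by_contra hcon
    apply hne hcon
    rw [Subgroup.commutator_eq_bot_iff_le_centralizer]
    intro v hv
    rw [Subgroup.mem_centralizer_iff]
    intro a ha
    have hqa : QuadE V' a := by
      rw [← quadE_iff, eq_bot_iff, ← hq]
      have h1 : Subgroup.zpowers a ≤ B := by rw [Subgroup.zpowers_le]; exact ha
      exact Subgroup.commutator_mono (Subgroup.commutator_mono le_rfl h1) h1
    exact key' a hqa v hv
  rw [Subgroup.commutator_eq_bot_iff_le_centralizer] at hcomm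
  intro a ha
  rw [Subgroup.mem_comap, Subgroup.mem_centralizer_iff]
  intro v hv
  have hv' : (⟨v, hVS hv⟩ : (S : Subgroup G)) ∈ V' := by
    rw [hV'def, Subgroup.mem_subgroupOf]; exact hv
  have h1 := hcomm hv'
  rw [Subgroup.mem_centralizer_iff] at h1
  have h2 := h1 a ha
  exact (congrArg Subtype.val h2).symm

theorem WOf_normal [Finite G] {p : ℕ} [hp : Fact p.Prime]
    (hst : IsActionPStable p G)
    (hc : Subgroup.centralizer (pCore p G : Set G) ≤ pCore p G) (S : Sylow p G) :
    (WOf p (S : Subgroup G)).Normal := by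
  obtain ⟨V, hVdef⟩ : ∃ V : Subgroup G,
    V = Subgroup.normalClosure (WOf p (S : Subgroup G) : Set G) := ⟨_, rfl⟩
  haveI hVn : V.Normal := hVdef ▸ Subgroup.normalClosure_normal
  have hJ := thompson_le_centralizer_normalClosure_WOf hst hc S
  rw [← hVdef] at hJ
  obtain ⟨C, hC⟩ : ∃ C : Subgroup G, C = Subgroup.centralizer (V : Set G) := ⟨_, rfl⟩
  rw [← hC] at hJ
  haveI hCn : C.Normal := by rw [hC]; infer_instance
  obtain ⟨Q, hQ⟩ := subnormal_inf_sylow p C hCn.isSubnormal S
  have hfr := Sylow.normalizer_sup_eq_top Q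
  have hQmap : (Q : Subgroup C).map C.subtype = (S : Subgroup G) ⊓ C := by
    rw [hQ, Subgroup.subgroupOf_map_subtype]
  rw [hQmap] at hfr
  have hJT : thompsonSubgroupOf p (S : Subgroup G) ≤ (S : Subgroup G) ⊓ C :=
    le_inf (thompsonSubgroupOf_le_self p _) hJ
  have h1 : Subgroup.normalizer (((S : Subgroup G) ⊓ C : Subgroup G) : Set G) ≤
      Subgroup.normalizer (WOf p (S : Subgroup G) : Set G) :=
    (normalizer_le_normalizer_thompsonSubgroupOf hJT inf_le_left).trans
      (normalizer_thompson_le_normalizer_stableNormalClosure hst hc S)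
  have h2 : C ≤ Subgroup.normalizer (WOf p (S : Subgroup G) : Set G) := by
    have hXV : WOf p (S : Subgroup G) ≤ V := hVdef ▸ Subgroup.subset_normalClosure
    intro c hc'
    rw [hC] at hc'
    have h3 := Subgroup.centralizer_le (show ((WOf p (S : Subgroup G) : Subgroup G) : Set G) ⊆ V from hXV) hc'
    exact Subgroup.centralizer_le_normalizer _ h3
  have htop : Subgroup.normalizer (WOf p (S : Subgroup G) : Set G) = ⊤ := by
    rw [eq_top_iff, ← hfr]
    exact sup_le h1 h2
  exact Subgroup.normalizer_eq_top_iff.mp htop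

end Cfsg.Agent.Lib.Helper1.StableQuad
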