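import Mathlib
import Cfsg.Prelude.Def_PLocal
import Cfsg.Prelude.Def_ConjugacyFunctors
import Cfsg.Agent.Lib.Helper1.NPC1
import Cfsg.Agent.Lib.Helper1.NPC3
import Cfsg.Agent.Lib.Helper1.StableQuad7
import Cfsg.Agent.Lib.Helper1.QuadStable9
import Cfsg.Agent.S2005

/-! Thompson's normal p-complement theorem for `W(S)`. -/
set_option autoImplicit false
universe u v
open Cfsg
open scoped commutatorElement

namespace Cfsg.Agent.Lib.Helper1.NPC
open Cfsg.Agent.Lib.Helper1.StableQuad Cfsg.Agent.Lib.Helper1.QuadSL2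

theorem isCharPFunctor_stableNormalClosure (p : ℕ) [Fact p.Prime] :
    IsCharPFunctor.{u} p (fun (Q : Type u) [Group Q] => stableNormalClosure p Q) := by
  refine ⟨?_, ?_⟩
  · intro Q _ _ hQ hnt
    exact (stableNormalClosure_basic hQ).2.2.2.1 hnt
  · intro Q R _ _ _ _ φ
    exact stableNormalClosure_map_equiv φ

theorem hasNormalPComplement_of_normalizer_WOf {G : Type u} [Group G] [Finite G] {p : ℕ}
    [Fact p.Prime] (hp : p ≠ 2) (S : Sylow p G)
    (hN : HasNormalPComplement p ↥(Subgroup.normalizer
      (((stableNormalClosure p ↥(S : Subgroup G)).map (S : Subgroup G).subtype) : Set G))) :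
    HasNormalPComplement p G := by
  apply Cfsg.Agent.S2005.result (fun (Q : Type u) [Group Q] => stableNormalClosure p Q)
    (isCharPFunctor_stableNormalClosure p) S hN
  intro K R hR hcen hnil T hco
  exact WOf_normal (isActionPStable_of_comm_sylow hp (comm_sylow_two_of_max_sylow hp hnil T hco))
    hcen T

end Cfsg.Agent.Lib.Helper1.NPC
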