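import Mathlib
import Cfsg.Agent.Lib.Helper1.ThompsonFPF1
import Cfsg.Agent.Lib.Helper1.QuadDual4

/-! The key computation for fixed-point-free automorphisms of prime order acting on `N ⋊ Q`. -/
set_option autoImplicit false
universe u
open scoped Pointwise

namespace Cfsg.Agent.Lib.Helper1.ThompsonFPF
open Cfsg.Agent.Lib.Helper1.QuadSL2
variable {G : Type u} [Group G]

theorem res_conjOn [Finite G] (φ : G ≃* G) (N Q : Subgroup G) (hN : Inv φ N) (hQ : Inv φ Q)
    (hQN : Q ≤ Subgroup.normalizer (N : Set G)) (k : ℕ) (x : Q) (n : N) :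
    ((res φ N hN) ^ k) (conjOn N Q hQN x n) =
      conjOn N Q hQN (((res φ Q hQ) ^ k) x) (((res φ N hN) ^ k) n) := by
  apply Subtype.ext
  rw [res_pow_apply, conjOn_apply, conjOn_apply, res_pow_apply, res_pow_apply, map_mul, map_mul,
    map_inv]

theorem pow_card_eq_one_of_fpf [Finite G] (φ : G ≃* G) {r : ℕ} (hr0 : 0 < r) (hr : φ ^ r = 1)
    (N Q : Subgroup G) (hNc : ∀ a ∈ N, ∀ b ∈ N, a * b = b * a) (hN : Inv φ N) (hQ : Inv φ Q)
    (hQN : Q ≤ Subgroup.normalizer (N : Set G))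
    (hfN : ∀ n ∈ N, φ n = n → n = 1)
    (hfQ : ∀ i, 0 < i → i < r → ∀ x ∈ Q, (φ ^ i) x = x → x = 1)
    (hC : ∀ n ∈ N, (∀ x ∈ Q, x * n * x⁻¹ = n) → n = 1) :
    ∀ n ∈ N, n ^ Nat.card Q = 1 := by
  classical
  letI : CommGroup N :=
    { (inferInstance : Group N) with mul_comm := fun a b => Subtype.ext (hNc a a.2 b b.2) }
  haveI : Fintype Q := Fintype.ofFinite Q
  obtain ⟨θ, hθ⟩ : ∃ θ : Q →* MulAut N, θ = conjOn N Q hQN := ⟨_, rfl⟩
  obtain ⟨ρ, hρ⟩ : ∃ ρ : N ≃* N, ρ = res φ N hN := ⟨_, rfl⟩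
  obtain ⟨ρQ, hρQ⟩ : ∃ ρQ : Q ≃* Q, ρQ = res φ Q hQ := ⟨_, rfl⟩
  have hcompat : ∀ (k : ℕ) (x : Q) (n : N), (ρ ^ k) (θ x n) = θ ((ρQ ^ k) x) ((ρ ^ k) n) := by
    intro k x n
    rw [hθ, hρ, hρQ]
    exact res_conjOn φ N Q hN hQ hQN k x n
  have hρr : ρ ^ r = 1 := by rw [hρ]; exact res_pow_eq_one φ N hN hr
  have hρfix : ∀ m : N, ρ m = m → m = 1 := by
    intro m hm
    apply Subtype.ext
    apply hfN m m.2
    have := congrArg Subtype.val hm
    rw [hρ, res_apply] at this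
    exact this
  -- τ
  have hτ : ∀ m : N, ∏ i ∈ Finset.range r, (ρ ^ i) m = 1 := by
    intro m
    apply hρfix
    rw [map_prod]
    have h1 : ∀ i ∈ Finset.range r, ρ ((ρ ^ i) m) = (ρ ^ (i + 1)) m := by
      intro i _
      rw [pow_succ', MulAut.mul_apply]
    rw [Finset.prod_congr rfl h1]
    have h2 := Finset.prod_range_succ (fun i => (ρ ^ i) m) r
    have h3 := Finset.prod_range_succ' (fun i => (ρ ^ i) m) r
    rw [h2] at h3
    simp only [pow_zero, MulAut.one_apply] at h3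
    rw [hρr, MulAut.one_apply] at h3
    exact (mul_right_cancel h3).symm
  -- σ
  have hσ : ∀ m : N, ∏ y : Q, θ y m = 1 := by
    intro m
    apply Subtype.ext
    apply hC _ (∏ y : Q, θ y m).2
    intro z hz
    have h1 : θ ⟨z, hz⟩ (∏ y : Q, θ y m) = ∏ y : Q, θ y m := by
      rw [map_prod]
      have h2 : ∀ y ∈ (Finset.univ : Finset Q), θ ⟨z, hz⟩ (θ y m) = θ (⟨z, hz⟩ * y) m := by
        intro y _
        rw [map_mul, MulAut.mul_apply]
      rw [Finset.prod_congr rfl h2]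
      exact Fintype.prod_bijective (fun y : Q => ⟨z, hz⟩ * y) (Group.mulLeft_bijective _) _ _
        (fun _ => rfl)
    have h3 := congrArg Subtype.val h1
    rw [hθ, conjOn_apply] at h3
    rw [hθ]
    exact h3
  intro n hn
  obtain ⟨n', hn'⟩ : ∃ n' : N, n' = ⟨n, hn⟩ := ⟨_, rfl⟩
  -- the double product
  have hdouble : ∏ x : Q, ∏ i ∈ Finset.range r, θ x⁻¹ ((ρ ^ i) (θ x n')) = 1 := by
    apply Finset.prod_eq_one
    intro x _
    rw [← map_prod, hτ, map_one]
  rw [Finset.prod_comm] at hdouble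
  have hterm : ∀ i ∈ Finset.range r, i ≠ 0 → ∏ x : Q, θ x⁻¹ ((ρ ^ i) (θ x n')) = 1 := by
    intro i hi hi0
    have hir : i < r := Finset.mem_range.mp hi
    have h1 : ∀ x ∈ (Finset.univ : Finset Q),
        θ x⁻¹ ((ρ ^ i) (θ x n')) = θ (x⁻¹ * (ρQ ^ i) x) ((ρ ^ i) n') := by
      intro x _
      rw [hcompat, map_mul, MulAut.mul_apply]
    rw [Finset.prod_congr rfl h1]
    have hbij : Function.Bijective (fun x : Q => x⁻¹ * (ρQ ^ i) x) := by
      rw [← Finite.injective_iff_bijective]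
      intro x y hxy
      have hxy' : x⁻¹ * (ρQ ^ i) x = y⁻¹ * (ρQ ^ i) y := hxy
      have h2 : (ρQ ^ i) (y * x⁻¹) = y * x⁻¹ := by
        rw [map_mul, map_inv]
        have : (ρQ ^ i) x = x * (y⁻¹ * (ρQ ^ i) y) := by rw [← hxy']; group
        rw [this]; group
      have h3 : ((φ ^ i) ((y * x⁻¹ : Q) : G)) = ((y * x⁻¹ : Q) : G) := by
        have := congrArg Subtype.val h2
        rw [hρQ, res_pow_apply] at this
        exact this
      have h4 := hfQ i (Nat.pos_of_ne_zero hi0) hir _ (y * x⁻¹ : Q).2 h3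
      have h5 : y * x⁻¹ = 1 := Subtype.ext h4
      exact (mul_inv_eq_one.mp h5).symm
    rw [Fintype.prod_bijective _ hbij _ (fun y : Q => θ y ((ρ ^ i) n')) (fun _ => rfl)]
    exact hσ _
  rw [Finset.prod_eq_single_of_mem 0 (Finset.mem_range.mpr hr0) hterm] at hdouble
  simp only [pow_zero, MulAut.one_apply] at hdouble
  have h6 : ∀ x ∈ (Finset.univ : Finset Q), θ x⁻¹ (θ x n') = n' := by
    intro x _
    rw [← MulAut.mul_apply, ← map_mul, inv_mul_cancel, map_one, MulAut.one_apply]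
  rw [Finset.prod_congr rfl h6, Finset.prod_const, Finset.card_univ] at hdouble
  have h7 := congrArg Subtype.val hdouble
  rw [hn'] at h7
  rw [Nat.card_eq_fintype_card]
  simpa using h7

end Cfsg.Agent.Lib.Helper1.ThompsonFPF
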