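import Mathlib
import Cfsg.Agent.Lib.Helper1.ThompsonFPF2

/-! Helper lemmas on invariant subgroups for fixed-point-free automorphisms. -/
set_option autoImplicit false
universe u
open scoped Pointwise

namespace Cfsg.Agent.Lib.Helper1.ThompsonFPF
variable {G : Type u} [Group G]

theorem fixed_pow_of_fixed (ψ : G ≃* G) (x : G) (h : ψ x = x) (j : ℕ) : (ψ ^ j) x = x := by
  induction j with
  | zero => simp
  | succ j ih => rw [pow_succ, MulAut.mul_apply, h, ih]

theorem fpf_pow (φ : G ≃* G) (hφ : MonoidHom.FixedPointFree (φ : G →* G)) {r : ℕ}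
    (hrp : r.Prime) (hr : φ ^ r = 1) (i : ℕ) (hi0 : 0 < i) (hir : i < r) (x : G)
    (h : (φ ^ i) x = x) : x = 1 := by
  have hcop : Nat.Coprime i r := by
    rw [Nat.coprime_comm, hrp.coprime_iff_not_dvd]
    intro hd
    exact absurd (Nat.le_of_dvd hi0 hd) (not_le.mpr hir)
  obtain ⟨m, -, hm⟩ := Nat.exists_mul_mod_eq_one_of_coprime hcop hrp.one_lt
  have h1 := fixed_pow_of_fixed (φ ^ i) x h m
  rw [← pow_mul] at h1
  have h2 : i * m = r * (i * m / r) + 1 := by
    have := Nat.div_add_mod (i * m) r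
    rw [hm] at this
    exact this.symm
  rw [h2, pow_add, pow_mul, hr, one_pow, one_mul, pow_one] at h1
  exact hφ x h1

theorem inv_commutator [Finite G] {φ : G ≃* G} {A B : Subgroup G} (hA : Inv φ A) (hB : Inv φ B) :
    Inv φ ⁅A, B⁆ := by
  intro x hx
  have h1 : (φ : G →* G) x ∈ (⁅A, B⁆).map (φ : G →* G) := Subgroup.mem_map_of_mem _ hx
  rw [Subgroup.map_commutator, hA.map_eq, hB.map_eq] at h1
  exact h1

theorem inv_sup [Finite G] {φ : G ≃* G} {A B : Subgroup G} (hA : Inv φ A) (hB : Inv φ B) :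
    Inv φ (A ⊔ B) := by
  intro x hx
  have h1 : (φ : G →* G) x ∈ (A ⊔ B).map (φ : G →* G) := Subgroup.mem_map_of_mem _ hx
  rw [Subgroup.map_sup, hA.map_eq, hB.map_eq] at h1
  exact h1

theorem inv_inf {φ : G ≃* G} {A B : Subgroup G} (hA : Inv φ A) (hB : Inv φ B) :
    Inv φ (A ⊓ B) := fun x hx => ⟨hA x hx.1, hB x hx.2⟩

theorem inv_centralizer [Finite G] {φ : G ≃* G} {A : Subgroup G} (hA : Inv φ A) :
    Inv φ (Subgroup.centralizer (A : Set G)) := by
  intro c hc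
  rw [Subgroup.mem_centralizer_iff] at hc ⊢
  intro y hy
  have hy' := hA.symm_mem hy
  have h1 := hc _ hy'
  have h2 := congrArg φ h1
  rw [map_mul, map_mul, φ.apply_symm_apply] at h2
  exact h2

theorem inv_normalizer [Finite G] {φ : G ≃* G} {A : Subgroup G} (hA : Inv φ A) :
    Inv φ (Subgroup.normalizer (A : Set G)) := by
  intro g hg
  rw [Subgroup.mem_normalizer_iff] at hg ⊢
  have key : ∀ y ∈ A, φ g * y * (φ g)⁻¹ ∈ A := by
    intro y hy
    have hy' := hA.symm_mem hy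
    have h1 := (hg _).mp hy'
    have h2 := hA _ h1
    rw [map_mul, map_mul, map_inv, φ.apply_symm_apply] at h2
    exact h2
  have key' : ∀ y ∈ A, (φ g)⁻¹ * y * (φ g) ∈ A := by
    intro y hy
    have hy' := hA.symm_mem hy
    have h1 := (hg (g⁻¹ * φ.symm y * g)).mpr (by
      have : g * (g⁻¹ * φ.symm y * g) * g⁻¹ = φ.symm y := by group
      rw [this]; exact hy')
    have h2 := hA _ h1
    rw [map_mul, map_mul, map_inv, φ.apply_symm_apply] at h2
    exact h2
  intro y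
  constructor
  · exact key y
  · intro h
    have := key' _ h
    have e : (φ g)⁻¹ * (φ g * y * (φ g)⁻¹) * φ g = y := by group
    rwa [e] at this

theorem inv_top (φ : G ≃* G) : Inv φ (⊤ : Subgroup G) := fun _ _ => Subgroup.mem_top _

/-- the elements of order dividing `p` in an abelian subgroup -/
def omegaP (p : ℕ) (N : Subgroup G) (hNc : ∀ a ∈ N, ∀ b ∈ N, a * b = b * a) : Subgroup G where
  carrier := {x | x ∈ N ∧ x ^ p = 1}
  one_mem' := ⟨N.one_mem, one_pow p⟩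
  mul_mem' := by
    rintro a b ⟨ha, hap⟩ ⟨hb, hbp⟩
    refine ⟨N.mul_mem ha hb, ?_⟩
    rw [(show Commute a b from hNc a ha b hb).mul_pow, hap, hbp, one_mul]
  inv_mem' := by
    rintro a ⟨ha, hap⟩
    exact ⟨N.inv_mem ha, by rw [inv_pow, hap, inv_one]⟩

theorem mem_omegaP (p : ℕ) (N : Subgroup G) (hNc : ∀ a ∈ N, ∀ b ∈ N, a * b = b * a) (x : G) :
    x ∈ omegaP p N hNc ↔ x ∈ N ∧ x ^ p = 1 := Iff.rfl

theorem omegaP_normal (p : ℕ) (N : Subgroup G) [hN : N.Normal]
    (hNc : ∀ a ∈ N, ∀ b ∈ N, a * b = b * a) : (omegaP p N hNc).Normal := by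
  refine ⟨?_⟩
  rintro x ⟨hx, hxp⟩ g
  exact ⟨hN.conj_mem x hx g, by rw [conj_pow, hxp]; group⟩

theorem omegaP_inv (p : ℕ) {φ : G ≃* G} (N : Subgroup G) (hN : Inv φ N)
    (hNc : ∀ a ∈ N, ∀ b ∈ N, a * b = b * a) : Inv φ (omegaP p N hNc) := by
  rintro x ⟨hx, hxp⟩
  exact ⟨hN x hx, by rw [← map_pow, hxp, map_one]⟩

theorem omegaP_ne_bot [Finite G] (p : ℕ) [hp : Fact p.Prime] (N : Subgroup G)
    (hNc : ∀ a ∈ N, ∀ b ∈ N, a * b = b * a) (hdvd : p ∣ Nat.card N) : omegaP p N hNc ≠ ⊥ := by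
  obtain ⟨x, hx⟩ := exists_prime_orderOf_dvd_card' p hdvd
  intro hbot
  have hmem : (x : G) ∈ omegaP p N hNc := by
    refine ⟨x.2, ?_⟩
    have : x ^ p = 1 := by rw [← hx]; exact pow_orderOf_eq_one x
    have h2 := congrArg Subtype.val this
    simpa using h2
  rw [hbot, Subgroup.mem_bot] at hmem
  have : x = 1 := Subtype.ext hmem
  rw [this, orderOf_one] at hx
  exact hp.out.one_lt.ne hx

end Cfsg.Agent.Lib.Helper1.ThompsonFPF
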