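import Mathlib
import Cfsg.Agent.Lib.Helper1.ThompsonFPF3
import Cfsg.Agent.Lib.Helper1.PCore

/-! Solvable groups with a fixed-point-free automorphism of prime order are nilpotent. -/
set_option autoImplicit false
universe u
open scoped Pointwise

namespace Cfsg.Agent.Lib.Helper1.ThompsonFPF

theorem sylow_normal_of_sup_ne_top {G : Type u} [Group G] [Finite G] (φ : G ≃* G)
    (N : Subgroup G) [hNn : N.Normal] (hN : Inv φ N) [hnilq : Group.IsNilpotent (G ⧸ N)]
    (hih : ∀ M : Subgroup G, M ≠ ⊤ → Inv φ M → Group.IsNilpotent M)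
    (q : ℕ) [hq : Fact q.Prime] (Q : Sylow q G) (hQ : Inv φ (Q : Subgroup G))
    (hne : N ⊔ (Q : Subgroup G) ≠ ⊤) : (Q : Subgroup G).Normal := by
  obtain ⟨M, hMdef⟩ : ∃ M : Subgroup G, M = N ⊔ (Q : Subgroup G) := ⟨_, rfl⟩
  have hsurj : Function.Surjective (QuotientGroup.mk' N) := QuotientGroup.mk'_surjective N
  have hMcomap : M = ((Q : Subgroup G).map (QuotientGroup.mk' N)).comap (QuotientGroup.mk' N) := by
    rw [Subgroup.comap_map_eq, QuotientGroup.ker_mk', hMdef, sup_comm]
  haveI hMn : M.Normal := by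
    rw [hMcomap]
    have h1 : ((Q.mapSurjective hsurj : Sylow q (G ⧸ N)) : Subgroup (G ⧸ N)).Normal :=
      inferInstance
    rw [Sylow.coe_mapSurjective] at h1
    exact h1.comap _
  have hMinv : Inv φ M := hMdef ▸ inv_sup hN hQ
  have hMnil : Group.IsNilpotent M := hih M (hMdef ▸ hne) hMinv
  have hQM : (Q : Subgroup G) ≤ M := hMdef ▸ le_sup_right
  obtain ⟨Q', hQ'⟩ : ∃ Q' : Sylow q M, (Q' : Subgroup M) = (Q : Subgroup G).subgroupOf M :=
    ⟨Q.subtype hQM, Sylow.coe_subtype _ _⟩
  have hQ'n : (Q' : Subgroup M).Normal := inferInstance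
  haveI hQ'c : (Q' : Subgroup M).Characteristic := Sylow.characteristic_of_normal Q' hQ'n
  have h2 : ((Q' : Subgroup M).map M.subtype).Normal := inferInstance
  rw [hQ', Subgroup.map_subgroupOf_eq_of_le hQM] at h2
  exact h2

theorem isNilpotent_of_fpf_of_solvable {r : ℕ} (hrp : r.Prime) :
    ∀ (n : ℕ) (G : Type u) [Group G] [Finite G], Nat.card G = n → Group.IsSolvable G →
      ∀ φ : G ≃* G, MonoidHom.FixedPointFree (φ : G →* G) → φ ^ r = 1 →
        Group.IsNilpotent G := by
  intro n
  induction n using Nat.strong_induction_on with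
  | _ n ih =>
  intro G _ _ hcard hsolv φ hφ hr
  by_contra hnil
  have hnt : Nontrivial G := by
    by_contra h
    rw [not_nontrivial_iff_subsingleton] at h
    exact hnil inferInstance
  -- induction hypothesis for invariant proper subgroups
  have hih : ∀ M : Subgroup G, M ≠ ⊤ → Inv φ M → Group.IsNilpotent M := by
    intro M hM hMinv
    have hlt : Nat.card M < n := by
      by_contra hcon
      push Not at hcon
      rw [← hcard] at hcon
      exact hM (Subgroup.eq_top_of_le_card M hcon)
    exact ih _ hlt M rfl inferInstance (res φ M hMinv) (res_fpf φ hφ M hMinv)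
      (res_pow_eq_one φ M hMinv hr)
  -- minimal invariant normal subgroup
  obtain ⟨N, ⟨hNn, hNinv, hNne⟩, hmin⟩ := Set.exists_min_image
    {N : Subgroup G | N.Normal ∧ Inv φ N ∧ N ≠ ⊥} (fun N => Nat.card N) (Set.toFinite _)
    ⟨⊤, inferInstance, inv_top φ, top_ne_bot⟩
  have hminle : ∀ N' : Subgroup G, N' ≤ N → N'.Normal → Inv φ N' → N' = ⊥ ∨ N' = N := by
    intro N' hle hn hinv
    by_cases hb : N' = ⊥
    · exact Or.inl hb
    · right
      exact Subgroup.eq_of_le_of_card_ge hle (hmin N' ⟨hn, hinv, hb⟩)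
  -- N abelian
  have hNc : ∀ a ∈ N, ∀ b ∈ N, a * b = b * a := by
    have hlt := Group.IsSolvable.commutator_lt_of_ne_bot hNne
    have hDn : (⁅N, N⁆ : Subgroup G).Normal := inferInstance
    rcases hminle _ hlt.le hDn (inv_commutator hNinv hNinv) with h | h
    · rw [Subgroup.commutator_eq_bot_iff_le_centralizer] at h
      intro a ha b hb
      exact (Subgroup.mem_centralizer_iff.mp (h ha) b hb).symm
    · exact absurd h hlt.ne
  -- N has exponent p
  have hcardN : Nat.card N ≠ 1 := fun h => hNne (Subgroup.card_eq_one.mp h)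
  obtain ⟨p, hp, hpd⟩ := Nat.exists_prime_and_dvd hcardN
  haveI : Fact p.Prime := ⟨hp⟩
  have hNp : ∀ x ∈ N, x ^ p = 1 := by
    have hEn := omegaP_normal p N hNc
    have hEle : omegaP p N hNc ≤ N := fun x hx => hx.1
    rcases hminle _ hEle hEn (omegaP_inv p N hNinv hNc) with h | h
    · exact absurd h (omegaP_ne_bot p N hNc hpd)
    · intro x hx
      have : x ∈ omegaP p N hNc := by rw [h]; exact hx
      exact this.2
  have hNpg : IsPGroup p N := by
    rintro ⟨x, hx⟩
    refine ⟨1, ?_⟩
    apply Subtype.ext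
    simpa using hNp x hx
  -- the quotient is nilpotent
  have hqnil : Group.IsNilpotent (G ⧸ N) := by
    have hlt : Nat.card (G ⧸ N) < n := by
      have h1 := Subgroup.card_eq_card_quotient_mul_card_subgroup N
      have h2 : 1 < Nat.card N := by
        have : 0 < Nat.card N := Nat.card_pos
        omega
      have h3 : 0 < Nat.card (G ⧸ N) := Nat.card_pos
      rw [← hcard, h1]
      nlinarith
    exact ih _ hlt (G ⧸ N) rfl inferInstance (quot φ N hNinv) (quot_fpf φ hφ N hNinv)
      (quot_pow_eq_one φ N hNinv hr)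
  by_cases hex : ∃ (q : ℕ) (_ : Fact q.Prime) (Q : Sylow q G),
      Inv φ (Q : Subgroup G) ∧ N ⊔ (Q : Subgroup G) = ⊤
  swap
  · -- all Sylow subgroups are normal
    apply hnil
    apply ((Group.isNilpotent_of_finite_tfae (G := G)).out 0 3).mpr
    intro q hq P
    obtain ⟨Q, hQinv⟩ := exists_inv_sylow φ hφ q
    have hne : N ⊔ (Q : Subgroup G) ≠ ⊤ := fun h => hex ⟨q, hq, Q, hQinv, h⟩
    have hQn := sylow_normal_of_sup_ne_top φ N hNinv hih q Q hQinv hne
    obtain ⟨g, hg⟩ := MulAction.exists_smul_eq G Q P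
    rw [Sylow.smul_eq_of_normal] at hg
    rw [← hg]
    exact hQn
  obtain ⟨q, hq, Q, hQinv, htop⟩ := hex
  -- q ≠ p
  have hqp : q ≠ p := by
    intro h
    subst h
    apply hnil
    have hNQ : N ≤ (Q : Subgroup G) := hNpg.le_sylow_of_normal Q
    have h1 : (Q : Subgroup G) = ⊤ := by rw [← htop]; exact (sup_eq_right.mpr hNQ).symm
    have h2 : IsPGroup q G := by
      have := Q.isPGroup'
      rw [h1] at this
      exact IsPGroup.of_surjective this (⊤ : Subgroup G).subtype
        (fun x => ⟨⟨x, Subgroup.mem_top x⟩, rfl⟩)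
    exact h2.isNilpotent
  -- the centralizer of Q in N
  obtain ⟨C, hCdef⟩ : ∃ C : Subgroup G,
    C = N ⊓ Subgroup.centralizer ((Q : Subgroup G) : Set G) := ⟨_, rfl⟩
  have hCcen : C ≤ Subgroup.center G := by
    intro c hc
    rw [hCdef] at hc
    rw [Subgroup.mem_center_iff]
    have hle : N ⊔ (Q : Subgroup G) ≤ Subgroup.centralizer ({c} : Set G) := by
      apply sup_le
      · intro x hx
        rw [Subgroup.mem_centralizer_iff]
        intro b hb
        rw [Set.mem_singleton_iff] at hb
        subst hb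
        exact hNc b hc.1 x hx
      · intro x hx
        rw [Subgroup.mem_centralizer_iff]
        intro b hb
        rw [Set.mem_singleton_iff] at hb
        subst hb
        exact (Subgroup.mem_centralizer_iff.mp hc.2 x hx).symm
    intro g
    have hg : g ∈ Subgroup.centralizer ({c} : Set G) := hle (htop ▸ Subgroup.mem_top g)
    rw [Subgroup.mem_centralizer_iff] at hg
    exact (hg c rfl).symm
  have hCn : C.Normal := by
    refine ⟨?_⟩
    intro c hc g
    have := Subgroup.mem_center_iff.mp (hCcen hc) g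
    have e : g * c * g⁻¹ = c := by rw [this]; group
    rw [e]; exact hc
  have hCinv : Inv φ C := hCdef ▸ inv_inf hNinv (inv_centralizer hQinv)
  have hCle : C ≤ N := hCdef ▸ inf_le_left
  have hCbot : C = ⊥ := by
    rcases hminle C hCle hCn hCinv with h | h
    · exact h
    · exfalso
      apply hnil
      apply Subgroup.isNilpotent_of_ker_le_center (QuotientGroup.mk' N)
      rw [QuotientGroup.ker_mk', ← h]
      exact hCcen
  -- the computation
  have hQN : (Q : Subgroup G) ≤ Subgroup.normalizer (N : Set G) := by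
    rw [Subgroup.normalizer_eq_top]; exact le_top
  have hkey := pow_card_eq_one_of_fpf φ hrp.pos hr N (Q : Subgroup G) hNc hNinv hQinv hQN
    (fun n _ h => hφ n h)
    (fun i hi0 hir x _ h => fpf_pow φ hφ hrp hr i hi0 hir x h)
    (by
      intro n hn hfix
      have : n ∈ C := by
        rw [hCdef]
        refine ⟨hn, ?_⟩
        change n ∈ Subgroup.centralizer ((Q : Subgroup G) : Set G)
        rw [Subgroup.mem_centralizer_iff]
        intro x hx
        have := hfix x hx
        calc x * n = (x * n * x⁻¹) * x := by group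
          _ = n * x := by rw [this]
      rw [hCbot, Subgroup.mem_bot] at this
      exact this)
  apply hNne
  rw [eq_bot_iff]
  intro x hx
  rw [Subgroup.mem_bot]
  have h1 := hkey x hx
  have h2 := hNp x hx
  obtain ⟨k, hk⟩ := (IsPGroup.iff_card).mp Q.isPGroup'
  have hk' : Nat.card (Q : Subgroup G) = q ^ k := hk
  rw [hk'] at h1
  have h3 : orderOf x ∣ Nat.gcd (q ^ k) p :=
    Nat.dvd_gcd (orderOf_dvd_of_pow_eq_one h1) (orderOf_dvd_of_pow_eq_one h2)
  have h4 : Nat.gcd (q ^ k) p = 1 :=
    Nat.Coprime.pow_left k ((Nat.coprime_primes hq.out hp).mpr hqp)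
  rw [h4, Nat.dvd_one, orderOf_eq_one_iff] at h3
  exact h3

end Cfsg.Agent.Lib.Helper1.ThompsonFPF
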