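import Mathlib
import Cfsg.Agent.Lib.Helper1.ThompsonFPF4
import Cfsg.Agent.Lib.Helper1.NPC4
import Cfsg.Agent.Lib.Helper6.PComplement

/-! Thompson's theorem: a finite group with a fixed-point-free automorphism of prime order is
nilpotent. -/
set_option autoImplicit false
universe u
open scoped Pointwise
open Cfsg

namespace Cfsg.Agent.Lib.Helper1.ThompsonFPF
open Cfsg.Agent.Lib.Helper1.NPC Cfsg.Agent.Lib.Helper1.StableQuad

theorem hasNormalPComplement_of_isNilpotent {E : Type u} [Group E] [Finite E]
    [Group.IsNilpotent E] (p : ℕ) [hp : Fact p.Prime] : HasNormalPComplement p E := by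
  obtain ⟨K, hKn, hKc, hKi⟩ := Cfsg.Agent.Lib.Helper6.exists_normal_pcomplement_of_nilpotent
    (E := E) p
  obtain ⟨P⟩ : Nonempty (Sylow p E) := inferInstance
  refine ⟨P, K, hKn, ?_⟩
  have hPcard : Nat.card (P : Subgroup E) = p ^ (Nat.card E).factorization p :=
    P.card_eq_multiplicity
  apply Subgroup.isComplement'_of_coprime
  · rw [hPcard, ← hKi]
    exact K.card_mul_index
  · rw [hPcard]
    exact Nat.Coprime.pow_right _ hKc

theorem inv_WOf {G : Type u} [Group G] [Finite G] (φ : G ≃* G) (p : ℕ) (P : Subgroup G)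
    (hP : Inv φ P) : Inv φ (WOf p P) := by
  rintro _ ⟨w, hw, rfl⟩
  have h1 := stableNormalClosure_map_equiv (p := p) (res φ P hP)
  have h2 : (res φ P hP) w ∈ stableNormalClosure p ↥P := by
    rw [← h1]; exact ⟨w, hw, rfl⟩
  exact ⟨_, h2, rfl⟩

theorem isNilpotent_of_fpf {r : ℕ} (hrp : r.Prime) :
    ∀ (n : ℕ) (G : Type u) [Group G] [Finite G], Nat.card G = n →
      ∀ φ : G ≃* G, MonoidHom.FixedPointFree (φ : G →* G) → φ ^ r = 1 →
        Group.IsNilpotent G := by
  intro n
  induction n using Nat.strong_induction_on with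
  | _ n ih =>
  intro G _ _ hcard φ hφ hr
  by_contra hnil
  have hih : ∀ M : Subgroup G, M ≠ ⊤ → Inv φ M → Group.IsNilpotent M := by
    intro M hM hMinv
    have hlt : Nat.card M < n := by
      by_contra hcon
      push Not at hcon
      rw [← hcard] at hcon
      exact hM (Subgroup.eq_top_of_le_card M hcon)
    exact ih _ hlt M rfl (res φ M hMinv) (res_fpf φ hφ M hMinv) (res_pow_eq_one φ M hMinv hr)
  have hihq : ∀ (N : Subgroup G) [N.Normal], N ≠ ⊥ → ∀ h : Inv φ N,
      Group.IsNilpotent (G ⧸ N) := by
    intro N _ hNne hNinv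
    have hlt : Nat.card (G ⧸ N) < n := by
      have h1 := Subgroup.card_eq_card_quotient_mul_card_subgroup N
      have h2 : 1 < Nat.card N := (Subgroup.one_lt_card_iff_ne_bot (H := N)).mpr hNne
      have h3 : 0 < Nat.card (G ⧸ N) := Nat.card_pos
      rw [← hcard, h1]
      nlinarith
    exact ih _ hlt (G ⧸ N) rfl (quot φ N hNinv) (quot_fpf φ hφ N hNinv)
      (quot_pow_eq_one φ N hNinv hr)
  -- an odd prime divisor
  have hodd : ∃ p : ℕ, p.Prime ∧ p ≠ 2 ∧ p ∣ Nat.card G := by
    by_contra hcon
    push Not at hcon
    apply hnil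
    have h1 : Nat.card G = 2 ^ (Nat.card G).primeFactorsList.length := by
      apply Nat.eq_prime_pow_of_unique_prime_dvd Nat.card_pos.ne'
      intro q hq hqd
      by_contra hq2
      exact hcon q hq hq2 hqd
    exact (IsPGroup.of_card h1).isNilpotent
  obtain ⟨p, hp, hp2, hpd⟩ := hodd
  haveI : Fact p.Prime := ⟨hp⟩
  obtain ⟨P, hPinv⟩ := exists_inv_sylow φ hφ p
  have hPne : (P : Subgroup G) ≠ ⊥ := by
    intro h
    have h1 := P.card_eq_multiplicity
    rw [h, Subgroup.card_bot] at h1
    have h3 : 0 < (Nat.card G).factorization p :=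
      hp.factorization_pos_of_dvd Nat.card_pos.ne' hpd
    have h4 : 1 < p ^ (Nat.card G).factorization p := Nat.one_lt_pow h3.ne' hp.one_lt
    omega
  -- G is solvable
  have hsolv : Group.IsSolvable G := by
    obtain ⟨X, hXdef⟩ : ∃ X : Subgroup G, X = WOf p (P : Subgroup G) := ⟨_, rfl⟩
    have hXinv : Inv φ X := hXdef ▸ inv_WOf φ p _ hPinv
    by_cases hM : Subgroup.normalizer (X : Set G) = ⊤
    · -- X is normal
      haveI hXn : X.Normal := Subgroup.normalizer_eq_top_iff.mp hM
      have hXne : X ≠ ⊥ := by
        haveI : Nontrivial (P : Subgroup G) := (Subgroup.nontrivial_iff_ne_bot _).mpr hPne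
        have h1 := (stableNormalClosure_basic (S := ↥(P : Subgroup G)) (p := p) P.isPGroup').2.2.2.1
          inferInstance
        intro hbot
        apply h1
        rw [eq_bot_iff]
        intro w hw
        have : ((w : (P : Subgroup G)) : G) ∈ X := by rw [hXdef]; exact ⟨w, hw, rfl⟩
        rw [hbot, Subgroup.mem_bot] at this
        rw [Subgroup.mem_bot]
        exact Subtype.ext this
      haveI := hihq X hXne hXinv
      have hXel := WOf_elementaryAbelian (p := p) (P : Subgroup G)
      rw [← hXdef] at hXel
      haveI : IsMulCommutative X := hXel.1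
      haveI : Group.IsSolvable X := by
        letI : CommGroup X := { (inferInstance : Group X) with mul_comm := mul_comm' }
        infer_instance
      haveI : Group.IsSolvable (G ⧸ X) := inferInstance
      apply solvable_of_ker_le_range X.subtype (QuotientGroup.mk' X)
      rw [QuotientGroup.ker_mk', Subgroup.range_subtype]
    · -- normalizer proper, nilpotent
      have hMinv : Inv φ (Subgroup.normalizer (X : Set G)) := inv_normalizer hXinv
      haveI := hih _ hM hMinv
      have h1 : HasNormalPComplement p ↥(Subgroup.normalizer (X : Set G)) :=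
        hasNormalPComplement_of_isNilpotent p
      rw [hXdef] at h1
      have h2 := hasNormalPComplement_of_normalizer_WOf hp2 P h1
      obtain ⟨K, hKn, hK⟩ := (hasNormalPComplement_iff P).mp h2
      have hKinv : Inv φ K := by
        intro x hx
        rw [mem_normal_complement_iff P K hK] at hx ⊢
        rw [MulEquiv.orderOf_eq]
        exact hx
      have hKne : K ≠ ⊤ := by
        intro h
        apply hPne
        have := hK.disjoint.eq_bot
        rw [h, top_inf_eq] at this
        exact this
      haveI := hih K hKne hKinv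
      haveI : Group.IsSolvable K := inferInstance
      have hq : IsPGroup p (G ⧸ K) := by
        apply IsPGroup.of_card (n := (Nat.card G).factorization p)
        rw [← Subgroup.index_eq_card, hK.symm.index_eq_card]
        exact P.card_eq_multiplicity
      haveI : Group.IsNilpotent (G ⧸ K) := hq.isNilpotent
      haveI : Group.IsSolvable (G ⧸ K) := inferInstance
      apply solvable_of_ker_le_range K.subtype (QuotientGroup.mk' K)
      rw [QuotientGroup.ker_mk', Subgroup.range_subtype]
  exact hnil (isNilpotent_of_fpf_of_solvable hrp _ G rfl hsolv φ hφ hr)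

theorem thompson_fpf {G : Type u} [Group G] [Finite G] (φ : G ≃* G)
    (hφ : MonoidHom.FixedPointFree (φ : G →* G)) (p : ℕ) (hp : p.Prime) (hord : orderOf φ = p) :
    Group.IsNilpotent G := by
  apply isNilpotent_of_fpf hp _ G rfl φ hφ
  rw [← hord]
  exact pow_orderOf_eq_one φ

end Cfsg.Agent.Lib.Helper1.ThompsonFPF
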