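import Mathlib
import Cfsg.Prelude.Def_PLocal
import Cfsg.Agent.Lib.Helper1.SZHelpers

/-! Regular `p`-groups: quotients; regular 2-groups are abelian. -/
set_option autoImplicit false
universe u v
open Cfsg
open scoped commutatorElement Pointwise

namespace Cfsg.Agent.Lib.Helper1
variable {G : Type u} [Group G] {p : ℕ}

theorem map_powerClosure_le {H : Type v} [Group H] (f : G →* H) (p n : ℕ) (K : Subgroup G) :
    (powerClosure p n K).map f ≤ powerClosure p n (K.map f) := by
  unfold powerClosure
  rw [MonoidHom.map_closure]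
  apply Subgroup.closure_mono
  rintro _ ⟨y, ⟨x, hx, rfl⟩, rfl⟩
  exact ⟨f x, Subgroup.mem_map_of_mem f hx, map_pow f x _⟩

theorem map_closure_pair {H : Type v} [Group H] (f : G →* H) (a b : G) :
    (Subgroup.closure ({a, b} : Set G)).map f = Subgroup.closure ({f a, f b} : Set H) := by
  rw [MonoidHom.map_closure, Set.image_pair]

theorem isRegularPGroup_of_surjective {H : Type v} [Group H] (f : G →* H)
    (hf : Function.Surjective f) (hG : IsRegularPGroup p G) : IsRegularPGroup p H := by
  refine ⟨hG.1.of_surjective f hf, ?_⟩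
  intro a' b' n
  obtain ⟨a, rfl⟩ := hf a'
  obtain ⟨b, rfl⟩ := hf b'
  obtain ⟨c, hc, hab⟩ := hG.2 a b n
  refine ⟨f c, ?_, ?_⟩
  · have h1 := map_powerClosure_le f p n _ (Subgroup.mem_map_of_mem f hc)
    rw [Subgroup.map_commutator, map_closure_pair] at h1
    exact h1
  · rw [← map_mul, ← map_pow, hab, map_mul, map_mul, map_pow, map_pow]

theorem isRegularPGroup_quotient (hG : IsRegularPGroup p G) (N : Subgroup G) [N.Normal] :
    IsRegularPGroup p (G ⧸ N) :=
  isRegularPGroup_of_surjective (QuotientGroup.mk' N) (QuotientGroup.mk'_surjective N) hG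

theorem isRegularPGroup_of_comm (hG : IsPGroup p G) (h : ∀ a b : G, a * b = b * a) :
    IsRegularPGroup p G := by
  refine ⟨hG, ?_⟩
  intro a b n
  refine ⟨1, Subgroup.one_mem _, ?_⟩
  rw [mul_one, (show Commute a b from h a b).mul_pow]

theorem regular_two_group_comm_aux : ∀ (n : ℕ) (G : Type u) [Group G] [Finite G],
    Nat.card G = n → IsRegularPGroup 2 G → ∀ a b : G, a * b = b * a := by
  intro n
  induction n using Nat.strong_induction_on with
  | _ n ih =>
  intro G _ _ hn hG a b
  by_cases htriv : Subsingleton G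
  · exact Subsingleton.elim _ _
  rw [not_subsingleton_iff_nontrivial] at htriv
  have : Fact (Nat.Prime 2) := ⟨Nat.prime_two⟩
  have hZ : Nontrivial (Subgroup.center G) := hG.1.center_nontrivial
  have h2 : 2 ∣ Nat.card (Subgroup.center G) := by
    obtain ⟨k, hk⟩ := (hG.1.to_subgroup (Subgroup.center G)).exists_card_eq
    have hk0 : k ≠ 0 := by
      rintro rfl
      rw [pow_zero] at hk
      have := Finite.one_lt_card_iff_nontrivial.mpr hZ
      omega
    rw [hk]
    exact dvd_pow_self 2 hk0
  obtain ⟨z, hz⟩ := exists_prime_orderOf_dvd_card' 2 h2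
  -- Z = zpowers z, normal
  obtain ⟨Z, hZdef⟩ : ∃ Z : Subgroup G, Z = Subgroup.zpowers (z : G) := ⟨_, rfl⟩
  have hzo : orderOf (z : G) = 2 := by rw [Subgroup.orderOf_coe]; exact hz
  have hZc : Z ≤ Subgroup.center G := by
    rw [hZdef, Subgroup.zpowers_le]; exact z.2
  have hZn : Z.Normal := by
    constructor
    intro x hx g
    have := Subgroup.mem_center_iff.mp (hZc hx) g
    rw [this]
    simpa using hx
  have hZcard : Nat.card Z = 2 := by rw [hZdef, Nat.card_zpowers, hzo]
  have hZne : Z ≠ ⊥ := by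
    intro h
    rw [h, Subgroup.card_bot] at hZcard
    omega
  have hlt : Nat.card (G ⧸ Z) < n := hn ▸ card_quotient_lt_of_ne_bot Z hZne
  have hq := ih _ hlt (G ⧸ Z) rfl (isRegularPGroup_quotient hG Z)
  -- commutators lie in Z
  have hcomm : ∀ x y : G, ⁅x, y⁆ ∈ Z := by
    intro x y
    rw [← QuotientGroup.eq_one_iff]
    show (QuotientGroup.mk' Z) ⁅x, y⁆ = 1
    rw [map_commutatorElement, commutatorElement_eq_one_iff_mul_comm]
    exact hq _ _
  have hcomm2 : ∀ x ∈ (⁅Subgroup.closure ({a, b} : Set G), Subgroup.closure ({a, b} : Set G)⁆ : Subgroup G),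
      x ^ 2 = 1 := by
    intro x hx
    have hxZ : x ∈ Z := by
      have : (⁅Subgroup.closure ({a, b} : Set G), Subgroup.closure ({a, b} : Set G)⁆ : Subgroup G) ≤ Z := by
        rw [Subgroup.commutator_le]
        intro x _ y _
        exact hcomm x y
      exact this hx
    rw [hZdef] at hxZ
    obtain ⟨k, rfl⟩ := Subgroup.mem_zpowers_iff.mp hxZ
    rw [← zpow_natCast, ← zpow_mul, mul_comm, zpow_mul, zpow_natCast, ← hzo, pow_orderOf_eq_one, one_zpow]
  obtain ⟨c, hc, hab⟩ := hG.2 a b 1
  have hc1 : c = 1 := by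
    have : powerClosure 2 1 (⁅Subgroup.closure ({a, b} : Set G), Subgroup.closure ({a, b} : Set G)⁆ : Subgroup G) = ⊥ := by
      unfold powerClosure
      rw [Subgroup.closure_eq_bot_iff]
      rintro y ⟨x, hx, rfl⟩
      rw [pow_one]
      exact hcomm2 x hx
    rw [this, Subgroup.mem_bot] at hc
    exact hc
  rw [hc1, mul_one, pow_one] at hab
  -- (ab)^2 = a^2 b^2 → ab = ba
  have : a * b * (a * b) = a * a * (b * b) := by rw [← pow_two, hab, pow_two, pow_two]
  have h3 : b * a = a * b := by
    have h4 : a * (b * a) * b = a * (a * b) * b := by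
      calc a * (b * a) * b = a * b * (a * b) := by group
        _ = a * a * (b * b) := this
        _ = a * (a * b) * b := by group
    exact mul_left_cancel (mul_right_cancel h4)
  exact h3.symm

theorem regular_two_group_iff_comm [Finite G] (hG : IsPGroup 2 G) :
    IsRegularPGroup 2 G ↔ ∀ a b : G, a * b = b * a :=
  ⟨fun h => regular_two_group_comm_aux _ G rfl h, fun h => isRegularPGroup_of_comm hG h⟩

end Cfsg.Agent.Lib.Helper1
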