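import Mathlib
import Cfsg.Prelude.Def_PLocal
import Cfsg.Agent.Lib.Helper1.RegularPGroup
import Cfsg.Agent.Lib.Helper1.FrattiniP
import Cfsg.Agent.Lib.Helper3.RegularP
import Cfsg.Agent.S4224

/-! Regular `p`-groups: the `p^n`-th powers form a subgroup. -/
set_option autoImplicit false
open scoped commutatorElement
universe u

namespace Cfsg.Agent.Lib.Helper1.Reg

/-- Products of two `p^n`-th powers are `p^n`-th powers. -/
def PowClosed (p : ℕ) (G : Type*) [Group G] : Prop :=
  ∀ (n : ℕ) (a b : G), ∃ e : G, a ^ p ^ n * b ^ p ^ n = e ^ p ^ n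

theorem exists_pow_of_mem_powerClosure {G : Type*} [Group G] {p : ℕ} (H : Subgroup G)
    (h : PowClosed p H) (n : ℕ) (x : G) (hx : x ∈ Cfsg.powerClosure p n H) :
    ∃ y ∈ H, x = y ^ p ^ n := by
  unfold Cfsg.powerClosure at hx
  induction hx using Subgroup.closure_induction with
  | mem z hz => exact hz
  | one => exact ⟨1, H.one_mem, by rw [one_pow]⟩
  | mul x₁ x₂ _ _ ih₁ ih₂ =>
    obtain ⟨y₁, hy₁, rfl⟩ := ih₁
    obtain ⟨y₂, hy₂, rfl⟩ := ih₂
    obtain ⟨e, he⟩ := h n ⟨y₁, hy₁⟩ ⟨y₂, hy₂⟩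
    refine ⟨e, e.2, ?_⟩
    have := congrArg (Subtype.val) he
    simpa using this
  | inv x _ ih =>
    obtain ⟨y, hy, rfl⟩ := ih
    exact ⟨y⁻¹, H.inv_mem hy, by rw [inv_pow]⟩

theorem card_lt_of_ne_top {G : Type*} [Group G] [Finite G] (H : Subgroup G) (h : H ≠ ⊤) :
    Nat.card H < Nat.card G :=
  lt_of_le_of_ne (Subgroup.card_le_card_group H) (fun e => h ((Subgroup.card_eq_iff_eq_top H).mp e))

theorem powClosed_aux (p : ℕ) [Fact p.Prime] : ∀ (m : ℕ) (G : Type u) [Group G] [Finite G],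
    Nat.card G = m → Cfsg.IsRegularPGroup p G → PowClosed p G := by
  intro m
  induction m using Nat.strong_induction_on with
  | _ m ih =>
    intro G _ _ hcard hG n a b
    by_cases hc : ∀ x y : G, x * y = y * x
    · exact ⟨a * b, by rw [(show Commute a b from hc a b).mul_pow]⟩
    have ihL : ∀ L : Subgroup G, L ≠ ⊤ → PowClosed p L := by
      intro L hL
      exact ih (Nat.card L) (hcard ▸ card_lt_of_ne_top L hL) L rfl
        (Cfsg.Agent.Lib.Helper3.regular_subgroup hG L)
    have hfr : frattini G ≠ ⊤ := by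
      intro h
      have h1 : (⊥ : Subgroup G) ⊔ frattini G = ⊤ := by rw [h, bot_sup_eq]
      have h2 := frattini_nongenerating h1
      apply hc
      intro x y
      have hx : x ∈ (⊥ : Subgroup G) := by rw [h2]; trivial
      rw [Subgroup.mem_bot] at hx
      rw [hx, one_mul, mul_one]
    by_cases hL : Subgroup.closure ({a, b} : Set G) = ⊤
    · obtain ⟨c, hcm, hceq⟩ := hG.2 a b n
      obtain ⟨D, hD⟩ : ∃ D : Subgroup G, D = ⁅Subgroup.closure ({a, b} : Set G),
        Subgroup.closure ({a, b} : Set G)⁆ := ⟨_, rfl⟩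
      rw [← hD] at hcm
      have hDfr : D ≤ frattini G := by
        rw [hD, hL, ← commutator_def]
        exact commutator_le_frattini_of_isPGroup p hG.1
      have hDtop : D ≠ ⊤ := by
        intro h
        rw [h, top_le_iff] at hDfr
        exact hfr hDfr
      obtain ⟨d, hd, rfl⟩ := exists_pow_of_mem_powerClosure D (ihL D hDtop) n c hcm
      obtain ⟨M, hM⟩ : ∃ M : Subgroup G, M = Subgroup.closure ({a * b, d⁻¹} : Set G) := ⟨_, rfl⟩
      have hMtop : M ≠ ⊤ := by
        intro h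
        have h1 : Subgroup.closure ({a * b} : Set G) ⊔ frattini G = ⊤ := by
          rw [eq_top_iff, ← h, hM, Subgroup.closure_le]
          intro x hx
          rcases hx with rfl | rfl
          · exact (le_sup_left : Subgroup.closure ({a * b} : Set G) ≤ _)
              (Subgroup.subset_closure rfl)
          · exact (le_sup_right : frattini G ≤ _) ((frattini G).inv_mem (hDfr hd))
        have h2 := frattini_nongenerating h1
        apply hc
        intro x y
        have hx : x ∈ Subgroup.closure ({a * b} : Set G) := by rw [h2]; trivial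
        have hy : y ∈ Subgroup.closure ({a * b} : Set G) := by rw [h2]; trivial
        rw [← Subgroup.zpowers_eq_closure] at hx hy
        obtain ⟨i, rfl⟩ := Subgroup.mem_zpowers_iff.mp hx
        obtain ⟨j, rfl⟩ := Subgroup.mem_zpowers_iff.mp hy
        rw [← zpow_add, ← zpow_add, add_comm]
      have habM : a * b ∈ M := by rw [hM]; exact Subgroup.subset_closure (Or.inl rfl)
      have hdM : d⁻¹ ∈ M := by rw [hM]; exact Subgroup.subset_closure (Or.inr rfl)
      obtain ⟨e, he⟩ := ihL M hMtop n ⟨a * b, habM⟩ ⟨d⁻¹, hdM⟩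
      refine ⟨e, ?_⟩
      have he' := congrArg (Subtype.val) he
      simp only [Subgroup.coe_mul, Subgroup.coe_pow] at he'
      rw [← he', hceq, inv_pow, mul_inv_cancel_right]
    · have haL : a ∈ Subgroup.closure ({a, b} : Set G) := Subgroup.subset_closure (Or.inl rfl)
      have hbL : b ∈ Subgroup.closure ({a, b} : Set G) := Subgroup.subset_closure (Or.inr rfl)
      obtain ⟨e, he⟩ := ihL _ hL n ⟨a, haL⟩ ⟨b, hbL⟩
      refine ⟨e, ?_⟩
      have he' := congrArg (Subtype.val) he
      simpa using he'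

theorem powClosed {G : Type u} [Group G] [Finite G] {p : ℕ} [Fact p.Prime]
    (hG : Cfsg.IsRegularPGroup p G) : PowClosed p G :=
  powClosed_aux p _ G rfl hG

theorem exists_pow_of_mem_powerClosure_regular {G : Type u} [Group G] [Finite G] {p : ℕ}
    [Fact p.Prime] (hG : Cfsg.IsRegularPGroup p G) (H : Subgroup G) (n : ℕ) (x : G)
    (hx : x ∈ Cfsg.powerClosure p n H) : ∃ y ∈ H, x = y ^ p ^ n :=
  exists_pow_of_mem_powerClosure H (powClosed (Cfsg.Agent.Lib.Helper3.regular_subgroup hG H)) n x hx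

theorem powerClosure_normal {G : Type*} [Group G] (p n : ℕ) (K : Subgroup G) [hK : K.Normal] :
    (Cfsg.powerClosure p n K).Normal := by
  constructor
  intro x hx g
  unfold Cfsg.powerClosure at hx ⊢
  induction hx using Subgroup.closure_induction with
  | mem z hz =>
    obtain ⟨y, hy, rfl⟩ := hz
    apply Subgroup.subset_closure
    exact ⟨g * y * g⁻¹, hK.conj_mem y hy g, by rw [conj_pow]⟩
  | one => simp
  | mul x₁ x₂ _ _ ih₁ ih₂ =>
    have : g * (x₁ * x₂) * g⁻¹ = (g * x₁ * g⁻¹) * (g * x₂ * g⁻¹) := by group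
    rw [this]
    exact Subgroup.mul_mem _ ih₁ ih₂
  | inv x _ ih =>
    have : g * x⁻¹ * g⁻¹ = (g * x * g⁻¹)⁻¹ := by group
    rw [this]
    exact Subgroup.inv_mem _ ih

/-- In a regular group, `[a^q, b] ∈ ℧_n(G')`. -/
theorem commutator_pow_mem {G : Type u} [Group G] [Finite G] {p : ℕ} [Fact p.Prime]
    (hG : Cfsg.IsRegularPGroup p G) (n : ℕ) (a b : G) :
    ⁅a ^ p ^ n, b⁆ ∈ Cfsg.powerClosure p n (commutator G) := by
  have : (Cfsg.powerClosure p n (commutator G)).Normal := powerClosure_normal p n _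
  obtain ⟨N, hN⟩ : ∃ N : Subgroup G, N = Cfsg.powerClosure p n (commutator G) := ⟨_, rfl⟩
  have : N.Normal := by rw [hN]; infer_instance
  rw [← hN]
  have hQ := isRegularPGroup_quotient hG N
  have hmem : (a⁻¹ * b⁻¹ * a * b) ^ p ^ n ∈ N := by
    rw [hN]
    apply Subgroup.subset_closure
    refine ⟨a⁻¹ * b⁻¹ * a * b, ?_, rfl⟩
    have : a⁻¹ * b⁻¹ * a * b = ⁅a⁻¹, b⁻¹⁆ := by rw [commutatorElement_def]; group
    rw [this]
    exact Subgroup.commutator_mem_commutator (Subgroup.mem_top _) (Subgroup.mem_top _)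
  have hq1 : ((QuotientGroup.mk' N a)⁻¹ * (QuotientGroup.mk' N b)⁻¹ * (QuotientGroup.mk' N a) *
      (QuotientGroup.mk' N b)) ^ p ^ n = 1 := by
    have e : ((QuotientGroup.mk' N a)⁻¹ * (QuotientGroup.mk' N b)⁻¹ * (QuotientGroup.mk' N a) *
      (QuotientGroup.mk' N b)) ^ p ^ n = QuotientGroup.mk' N ((a⁻¹ * b⁻¹ * a * b) ^ p ^ n) := by
      rw [map_pow, map_mul, map_mul, map_mul, map_inv, map_inv]
    rw [e]
    exact (QuotientGroup.eq_one_iff _).mpr hmem
  have h1 := (Cfsg.Agent.S4224.result hQ (QuotientGroup.mk' N a) (QuotientGroup.mk' N b) n).mpr hq1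
  rw [← QuotientGroup.eq_one_iff]
  show (QuotientGroup.mk' N) ⁅a ^ p ^ n, b⁆ = 1
  rw [map_commutatorElement, commutatorElement_eq_one_iff_mul_comm, map_pow]
  exact h1

theorem s0644 {G : Type u} [Group G] [Finite G] {p : ℕ} [Fact p.Prime]
    (hG : Cfsg.IsRegularPGroup p G) (H : Subgroup G) (n : ℕ) :
    {y : G | ∃ x ∈ H, y = x ^ (p ^ n)} = (Cfsg.powerClosure p n H : Set G) ∧
    ⁅Cfsg.powerClosure p n H, Cfsg.powerClosure p n H⁆ ≤ Cfsg.powerClosure p n ⁅H, H⁆ := by
  refine ⟨?_, ?_⟩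
  · apply Set.Subset.antisymm
    · intro y hy
      exact Subgroup.subset_closure hy
    · intro y hy
      exact exists_pow_of_mem_powerClosure_regular hG H n y hy
  · rw [Subgroup.commutator_le]
    intro x hx y hy
    obtain ⟨a, ha, rfl⟩ := exists_pow_of_mem_powerClosure_regular hG H n x hx
    obtain ⟨b, hb, rfl⟩ := exists_pow_of_mem_powerClosure_regular hG H n y hy
    have hH := Cfsg.Agent.Lib.Helper3.regular_subgroup hG H
    have h1 := commutator_pow_mem hH n ⟨a, ha⟩ (⟨b, hb⟩ ^ p ^ n)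
    have h2 : H.subtype ⁅(⟨a, ha⟩ : H) ^ p ^ n, (⟨b, hb⟩ : H) ^ p ^ n⁆ ∈
        (Cfsg.powerClosure p n (commutator H)).map H.subtype := Subgroup.mem_map_of_mem _ h1
    rw [Cfsg.Agent.Lib.Helper3.powerClosure_map, commutator_def, Subgroup.map_commutator,
      ← MonoidHom.range_eq_map, Subgroup.range_subtype] at h2
    simpa using h2

end Cfsg.Agent.Lib.Helper1.Reg
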