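import Mathlib
import Cfsg.Prelude.Def_PLocal
import Cfsg.Agent.Lib.Helper1.Reg1

/-! Regular `p`-groups: the first power condition suffices. -/
set_option autoImplicit false
open scoped commutatorElement
universe u

namespace Cfsg.Agent.Lib.Helper1.Reg

open Cfsg.Agent.Lib.Helper3

/-- The first power condition. -/
def WR (p : ℕ) (G : Type*) [Group G] : Prop :=
  ∀ a b : G, ∃ c ∈ ⁅Subgroup.closure ({a, b} : Set G), Subgroup.closure ({a, b} : Set G)⁆,
    (a * b) ^ p = a ^ p * b ^ p * c ^ p

theorem WR.subgroup {G : Type*} [Group G] {p : ℕ} (h : WR p G) (L : Subgroup G) : WR p L := by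
  intro a b
  obtain ⟨c, hc, hceq⟩ := h (a : G) (b : G)
  have hmap : (⁅Subgroup.closure ({a, b} : Set L), Subgroup.closure ({a, b} : Set L)⁆).map L.subtype =
      ⁅Subgroup.closure ({(a : G), (b : G)} : Set G),
        Subgroup.closure ({(a : G), (b : G)} : Set G)⁆ := by
    rw [Subgroup.map_commutator, closure_pair_map]
    rfl
  rw [← hmap] at hc
  obtain ⟨c', hc', rfl⟩ := hc
  refine ⟨c', hc', ?_⟩
  apply Subtype.ext
  simpa using hceq

theorem WR.of_surjective {G H : Type*} [Group G] [Group H] {p : ℕ} (f : G →* H)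
    (hf : Function.Surjective f) (h : WR p G) : WR p H := by
  intro a' b'
  obtain ⟨a, rfl⟩ := hf a'
  obtain ⟨b, rfl⟩ := hf b'
  obtain ⟨c, hc, hab⟩ := h a b
  refine ⟨f c, ?_, ?_⟩
  · have h1 := Subgroup.mem_map_of_mem f hc
    rw [Subgroup.map_commutator, map_closure_pair] at h1
    exact h1
  · rw [← map_mul, ← map_pow, hab, map_mul, map_mul, map_pow, map_pow, map_pow]

theorem powerClosure_mono {G : Type*} [Group G] (p n : ℕ) {X Y : Subgroup G} (h : X ≤ Y) :
    Cfsg.powerClosure p n X ≤ Cfsg.powerClosure p n Y := by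
  unfold Cfsg.powerClosure
  apply Subgroup.closure_mono
  rintro y ⟨x, hx, rfl⟩
  exact ⟨x, h hx, rfl⟩

theorem powerClosure_eq_bot {G : Type*} [Group G] (p n : ℕ) {X : Subgroup G}
    (h : ∀ x ∈ X, x ^ p ^ n = 1) : Cfsg.powerClosure p n X = ⊥ := by
  unfold Cfsg.powerClosure
  rw [Subgroup.closure_eq_bot_iff]
  rintro y ⟨x, hx, rfl⟩
  exact h x hx

theorem pow_eq_one_of_powerClosure_eq_bot {G : Type*} [Group G] (p n : ℕ) {X : Subgroup G}
    (h : Cfsg.powerClosure p n X = ⊥) (x : G) (hx : x ∈ X) : x ^ p ^ n = 1 := by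
  have : x ^ p ^ n ∈ Cfsg.powerClosure p n X := Subgroup.subset_closure ⟨x, hx, rfl⟩
  rw [h, Subgroup.mem_bot] at this
  exact this

/-- In a regular subgroup `L`, elements of order dividing `p^k` generate a subgroup of exponent
dividing `p^k`. -/
theorem pow_eq_one_of_mem_closure_sub {G : Type u} [Group G] [Finite G] {p : ℕ} [Fact p.Prime]
    (L : Subgroup G) (hL : Cfsg.IsRegularPGroup p L) (k : ℕ) (S : Set G) (hSL : S ⊆ L)
    (hS : ∀ z ∈ S, z ^ p ^ k = 1) : ∀ z ∈ Subgroup.closure S, z ∈ L ∧ z ^ p ^ k = 1 := by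
  intro z hz
  induction hz using Subgroup.closure_induction with
  | mem z hz => exact ⟨hSL hz, hS z hz⟩
  | one => exact ⟨L.one_mem, one_pow _⟩
  | mul x y _ _ ihx ihy =>
    refine ⟨L.mul_mem ihx.1 ihy.1, ?_⟩
    have := regular_pow_mul_eq_one hL ⟨x, ihx.1⟩ ⟨y, ihy.1⟩ k (Subtype.ext (by simpa using ihx.2))
      (Subtype.ext (by simpa using ihy.2))
    have h2 := congrArg Subtype.val this
    simpa using h2
  | inv x _ ih => exact ⟨L.inv_mem ih.1, by rw [inv_pow, ih.2, inv_one]⟩

/-- The regularity identity for elements of a regular subgroup, stated in the ambient group. -/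
theorem regular_sub_identity {G : Type*} [Group G] {p : ℕ} (L : Subgroup G)
    (hL : Cfsg.IsRegularPGroup p L) (x y : G) (hx : x ∈ L) (hy : y ∈ L) (k : ℕ) :
    ∃ c ∈ Cfsg.powerClosure p k ⁅Subgroup.closure ({x, y} : Set G),
      Subgroup.closure ({x, y} : Set G)⁆, (x * y) ^ p ^ k = x ^ p ^ k * y ^ p ^ k * c := by
  obtain ⟨c, hc, hceq⟩ := hL.2 ⟨x, hx⟩ ⟨y, hy⟩ k
  refine ⟨(c : G), ?_, ?_⟩
  · have h1 := Subgroup.mem_map_of_mem L.subtype hc
    rw [powerClosure_map, Subgroup.map_commutator, closure_pair_map] at h1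
    exact h1
  · have := congrArg Subtype.val hceq
    simpa using this

/-- In a regular subgroup `K` whose derived subgroup has exponent dividing `p^k`, the `p^k`-th
power map is multiplicative. -/
theorem mul_pow_of_sub_derived {G : Type*} [Group G] {p : ℕ} (K : Subgroup G)
    (hK : Cfsg.IsRegularPGroup p K) (k : ℕ) (hexp : ∀ z ∈ ⁅K, K⁆, z ^ p ^ k = 1)
    (x y : G) (hx : x ∈ K) (hy : y ∈ K) : (x * y) ^ p ^ k = x ^ p ^ k * y ^ p ^ k := by
  obtain ⟨c, hc, hceq⟩ := regular_sub_identity K hK x y hx hy k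
  have hle : Subgroup.closure ({x, y} : Set G) ≤ K := by
    rw [Subgroup.closure_le]
    rintro z (rfl | rfl)
    · exact hx
    · exact hy
  have hbot : Cfsg.powerClosure p k ⁅Subgroup.closure ({x, y} : Set G),
      Subgroup.closure ({x, y} : Set G)⁆ = ⊥ :=
    powerClosure_eq_bot p k (fun z hz => hexp z (Subgroup.commutator_mono hle hle hz))
  rw [hbot, Subgroup.mem_bot] at hc
  rw [hceq, hc, mul_one]

theorem regular_of_WR_aux (p : ℕ) [Fact p.Prime] : ∀ (m : ℕ) (G : Type u) [Group G] [Finite G],
    Nat.card G = m → IsPGroup p G → WR p G → Cfsg.IsRegularPGroup p G := by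
  intro m
  induction m using Nat.strong_induction_on with
  | _ m ih =>
    intro G _ _ hcard hG hW
    refine ⟨hG, ?_⟩
    intro a b n
    by_cases hc : ∀ x y : G, x * y = y * x
    · exact ⟨1, Subgroup.one_mem _, by rw [mul_one, (show Commute a b from hc a b).mul_pow]⟩
    have ihL : ∀ L : Subgroup G, L ≠ ⊤ → Cfsg.IsRegularPGroup p L := by
      intro L hL
      exact ih (Nat.card L) (hcard ▸ card_lt_of_ne_top L hL) L rfl (hG.to_subgroup L) (hW.subgroup L)
    have hfr : frattini G ≠ ⊤ := by
      intro h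
      have h1 : (⊥ : Subgroup G) ⊔ frattini G = ⊤ := by rw [h, bot_sup_eq]
      have h2 := frattini_nongenerating h1
      apply hc
      intro x y
      have hx : x ∈ (⊥ : Subgroup G) := by rw [h2]; trivial
      rw [Subgroup.mem_bot] at hx
      rw [hx, one_mul, mul_one]
    have hcyc : ∀ x : G, Subgroup.closure ({x} : Set G) ⊔ frattini G ≠ ⊤ := by
      intro x h1
      have h2 := frattini_nongenerating h1
      apply hc
      intro u v
      have hu : u ∈ Subgroup.closure ({x} : Set G) := by rw [h2]; trivial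
      have hv : v ∈ Subgroup.closure ({x} : Set G) := by rw [h2]; trivial
      rw [← Subgroup.zpowers_eq_closure] at hu hv
      obtain ⟨i, rfl⟩ := Subgroup.mem_zpowers_iff.mp hu
      obtain ⟨j, rfl⟩ := Subgroup.mem_zpowers_iff.mp hv
      rw [← zpow_add, ← zpow_add, add_comm]
    by_cases hL : Subgroup.closure ({a, b} : Set G) = ⊤
    swap
    · have haL : a ∈ Subgroup.closure ({a, b} : Set G) := Subgroup.subset_closure (Or.inl rfl)
      have hbL : b ∈ Subgroup.closure ({a, b} : Set G) := Subgroup.subset_closure (Or.inr rfl)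
      exact regular_sub_identity _ (ihL _ hL) a b haL hbL n
    rw [hL, ← commutator_def]
    obtain ⟨N, hN⟩ : ∃ N : Subgroup G, N = Cfsg.powerClosure p n (commutator G) := ⟨_, rfl⟩
    have hNn : N.Normal := by rw [hN]; exact powerClosure_normal p n _
    rw [← hN]
    by_cases hNbot : N = ⊥
    swap
    · -- pass to the quotient
      have hlt : Nat.card (G ⧸ N) < m := hcard ▸ card_quotient_lt_of_ne_bot N hNbot
      have hQ := ih _ hlt (G ⧸ N) rfl (hG.to_quotient N)
        (hW.of_surjective (QuotientGroup.mk' N) (QuotientGroup.mk'_surjective N))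
      obtain ⟨c, hcm, hceq⟩ := hQ.2 (QuotientGroup.mk' N a) (QuotientGroup.mk' N b) n
      have hbot : Cfsg.powerClosure p n (commutator (G ⧸ N)) = ⊥ := by
        have e1 : commutator (G ⧸ N) = (commutator G).map (QuotientGroup.mk' N) := by
          rw [commutator_def, commutator_def, Subgroup.map_commutator,
            ← MonoidHom.range_eq_map, MonoidHom.range_eq_top.mpr (QuotientGroup.mk'_surjective N)]
        rw [e1, ← powerClosure_map, ← hN, QuotientGroup.map_mk'_self]
      have hc1 : c = 1 := by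
        have := powerClosure_mono p n (show ⁅Subgroup.closure
          ({QuotientGroup.mk' N a, QuotientGroup.mk' N b} : Set (G ⧸ N)),
          Subgroup.closure ({QuotientGroup.mk' N a, QuotientGroup.mk' N b} : Set (G ⧸ N))⁆ ≤
            commutator (G ⧸ N) by
              rw [commutator_def]; exact Subgroup.commutator_mono le_top le_top) hcm
        rw [hbot, Subgroup.mem_bot] at this
        exact this
      rw [hc1, mul_one] at hceq
      refine ⟨(a ^ p ^ n * b ^ p ^ n)⁻¹ * (a * b) ^ p ^ n, ?_, by group⟩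
      rw [← QuotientGroup.eq_one_iff]
      show QuotientGroup.mk' N ((a ^ p ^ n * b ^ p ^ n)⁻¹ * (a * b) ^ p ^ n) = 1
      simp only [map_mul, map_inv, map_pow]
      rw [hceq, inv_mul_cancel]
    -- now `N = ⊥`
    refine ⟨1, Subgroup.one_mem _, ?_⟩
    rw [mul_one]
    have hexp : ∀ z ∈ commutator G, z ^ p ^ n = 1 := by
      intro z hz
      have hN' : Cfsg.powerClosure p n (commutator G) = ⊥ := by rw [← hN, hNbot]
      exact pow_eq_one_of_powerClosure_eq_bot p n hN' z hz
    cases n with
    | zero => simp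
    | succ k =>
      -- Step A
      have stepA : ∀ x y : G, ⁅x ^ p, y⁆ ^ p ^ k = 1 := by
        intro x y
        obtain ⟨u, hu⟩ : ∃ u : G, u = x := ⟨_, rfl⟩
        obtain ⟨v, hv⟩ : ∃ v : G, v = y * x⁻¹ * y⁻¹ := ⟨_, rfl⟩
        obtain ⟨L₁, hL₁⟩ : ∃ L₁ : Subgroup G, L₁ = Subgroup.closure ({u, v} : Set G) := ⟨_, rfl⟩
        have hL₁top : L₁ ≠ ⊤ := by
          intro h
          apply hcyc x
          rw [eq_top_iff, ← h, hL₁, Subgroup.closure_le]
          rintro z (hz | hz)
          · rw [hz, hu]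
            exact (le_sup_left : Subgroup.closure ({x} : Set G) ≤ _) (Subgroup.subset_closure rfl)
          · have e : v = ⁅y, x⁻¹⁆ * x⁻¹ := by rw [hv, commutatorElement_def]; group
            rw [hz, e]
            apply Subgroup.mul_mem
            · exact (le_sup_right : frattini G ≤ _) (commutator_le_frattini_of_isPGroup p hG
                (Subgroup.commutator_mem_commutator (Subgroup.mem_top _) (Subgroup.mem_top _)))
            · exact (le_sup_left : Subgroup.closure ({x} : Set G) ≤ _)
                (Subgroup.inv_mem _ (Subgroup.subset_closure rfl))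
        have hLreg := ihL L₁ hL₁top
        have huL : u ∈ L₁ := by rw [hL₁]; exact Subgroup.subset_closure (Or.inl rfl)
        have hvL : v ∈ L₁ := by rw [hL₁]; exact Subgroup.subset_closure (Or.inr rfl)
        obtain ⟨c₁, hc₁, hceq⟩ := regular_sub_identity L₁ hLreg u v huL hvL 1
        rw [← hL₁] at hc₁
        have e1 : ⁅x ^ p, y⁆ = u ^ p * v ^ p := by
          rw [hu, hv, commutatorElement_def, conj_pow, inv_pow]
          group
        have e2 : u * v = ⁅x, y⁆ := by rw [hu, hv, commutatorElement_def]; group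
        have e3 : u ^ p * v ^ p = ⁅x, y⁆ ^ p * c₁⁻¹ := by
          rw [← e2]
          rw [pow_one] at hceq
          rw [hceq]; group
        -- both factors lie in Ω_k(L₁)
        have hS := pow_eq_one_of_mem_closure_sub L₁ hLreg k
          ({z | z ∈ L₁ ∧ z ^ p ^ k = 1}) (fun z hz => hz.1) (fun z hz => hz.2)
        have hcomm_mem : ⁅x, y⁆ ∈ commutator G :=
          Subgroup.commutator_mem_commutator (Subgroup.mem_top _) (Subgroup.mem_top _)
        have h1 : ⁅x, y⁆ ^ p ∈ Subgroup.closure ({z | z ∈ L₁ ∧ z ^ p ^ k = 1} : Set G) := by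
          apply Subgroup.subset_closure
          refine ⟨?_, ?_⟩
          · rw [← e2]; exact L₁.pow_mem (L₁.mul_mem huL hvL) _
          · rw [← pow_mul, ← pow_succ']
            exact hexp _ hcomm_mem
        have h2 : c₁ ∈ Subgroup.closure ({z | z ∈ L₁ ∧ z ^ p ^ k = 1} : Set G) := by
          have : Cfsg.powerClosure p 1 ⁅L₁, L₁⁆ ≤
              Subgroup.closure ({z | z ∈ L₁ ∧ z ^ p ^ k = 1} : Set G) := by
            unfold Cfsg.powerClosure
            apply Subgroup.closure_mono
            rintro z ⟨w, hw, rfl⟩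
            have hwL : w ∈ L₁ := Subgroup.commutator_le_self L₁ hw
            refine ⟨L₁.pow_mem hwL _, ?_⟩
            rw [pow_one, ← pow_mul, ← pow_succ']
            apply hexp
            rw [commutator_def]
            exact Subgroup.commutator_mono le_top le_top hw
          exact this hc₁
        rw [e1, e3]
        exact (hS _ (Subgroup.mul_mem _ h1 (Subgroup.inv_mem _ h2))).2
      -- Step B
      obtain ⟨c, hcm, hceq⟩ := hW a b
      obtain ⟨K, hK⟩ : ∃ K : Subgroup G, K = Subgroup.closure ({a ^ p, b ^ p, c ^ p} : Set G) :=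
        ⟨_, rfl⟩
      have hKfr : K ≤ frattini G := by
        rw [hK, Subgroup.closure_le]
        rintro z (rfl | rfl | rfl) <;> exact pow_prime_mem_frattini_of_isPGroup p hG _
      have hKtop : K ≠ ⊤ := by
        intro h
        rw [h, top_le_iff] at hKfr
        exact hfr hKfr
      have hKreg := ihL K hKtop
      have haK : a ^ p ∈ K := by rw [hK]; exact Subgroup.subset_closure (Or.inl rfl)
      have hbK : b ^ p ∈ K := by rw [hK]; exact Subgroup.subset_closure (Or.inr (Or.inl rfl))
      have hcK : c ^ p ∈ K := by rw [hK]; exact Subgroup.subset_closure (Or.inr (Or.inr rfl))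
      obtain ⟨E, hE⟩ : ∃ E : Subgroup G, E = Subgroup.closure ({z | z ∈ K ∧ z ^ p ^ k = 1} : Set G) :=
        ⟨_, rfl⟩
      have hEexp := pow_eq_one_of_mem_closure_sub K hKreg k
          ({z | z ∈ K ∧ z ^ p ^ k = 1}) (fun z hz => hz.1) (fun z hz => hz.2)
      rw [← hE] at hEexp
      have hKE : ⁅K, K⁆ ≤ E := by
        rw [hK]
        apply commutator_closure_le
        · intro g hg z hz
          rw [← hK] at hg
          rw [hE] at hz ⊢
          induction hz using Subgroup.closure_induction with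
          | mem w hw =>
            apply Subgroup.subset_closure
            refine ⟨K.mul_mem (K.mul_mem hg hw.1) (K.inv_mem hg), ?_⟩
            rw [conj_pow, hw.2]; group
          | one => simp
          | mul w₁ w₂ _ _ ih₁ ih₂ =>
            have : g * (w₁ * w₂) * g⁻¹ = (g * w₁ * g⁻¹) * (g * w₂ * g⁻¹) := by group
            rw [this]
            exact Subgroup.mul_mem _ ih₁ ih₂
          | inv w _ ih =>
            have : g * w⁻¹ * g⁻¹ = (g * w * g⁻¹)⁻¹ := by group
            rw [this]
            exact Subgroup.inv_mem _ ih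
        · intro s hs t ht
          rw [hE]
          apply Subgroup.subset_closure
          have hsK : s ∈ K := by rw [hK]; exact Subgroup.subset_closure hs
          have htK : t ∈ K := by rw [hK]; exact Subgroup.subset_closure ht
          refine ⟨?_, ?_⟩
          · rw [commutatorElement_def]
            exact K.mul_mem (K.mul_mem (K.mul_mem hsK htK) (K.inv_mem hsK)) (K.inv_mem htK)
          · rcases hs with rfl | rfl | rfl <;> exact stepA _ _
      have hKexp : ∀ z ∈ ⁅K, K⁆, z ^ p ^ k = 1 := fun z hz => (hEexp z (hKE hz)).2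
      have hcpow : (c ^ p) ^ p ^ k = 1 := by
        rw [← pow_mul, ← pow_succ']
        apply hexp
        rw [commutator_def]
        exact Subgroup.commutator_mono le_top le_top hcm
      have e1 : (a * b) ^ p ^ (k + 1) = ((a * b) ^ p) ^ p ^ k := by rw [← pow_mul, ← pow_succ']
      rw [e1, hceq, mul_pow_of_sub_derived K hKreg k hKexp _ _ (K.mul_mem haK hbK) hcK,
        mul_pow_of_sub_derived K hKreg k hKexp _ _ haK hbK, hcpow, mul_one,
        ← pow_mul, ← pow_mul, ← pow_succ']

theorem regular_of_WR {G : Type u} [Group G] [Finite G] {p : ℕ} [Fact p.Prime]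
    (hG : IsPGroup p G) (h : WR p G) : Cfsg.IsRegularPGroup p G :=
  regular_of_WR_aux p _ G rfl hG h

theorem WR_of_regular {G : Type u} [Group G] [Finite G] {p : ℕ} [Fact p.Prime]
    (hG : Cfsg.IsRegularPGroup p G) : WR p G := by
  intro a b
  obtain ⟨c, hc, hceq⟩ := hG.2 a b 1
  obtain ⟨y, hy, rfl⟩ := exists_pow_of_mem_powerClosure_regular hG _ 1 c hc
  refine ⟨y, hy, ?_⟩
  simpa using hceq

theorem s0643 {G : Type u} [Group G] [Finite G] {p : ℕ} [Fact p.Prime] (hG : IsPGroup p G) :
    Cfsg.IsRegularPGroup p G ↔ ∀ a b : G, ∃ c ∈ ⁅Subgroup.closure ({a, b} : Set G),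
      Subgroup.closure ({a, b} : Set G)⁆, (a * b) ^ p = a ^ p * b ^ p * c ^ p :=
  ⟨fun h => WR_of_regular h, fun h => regular_of_WR hG h⟩

end Cfsg.Agent.Lib.Helper1.Reg
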