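import Mathlib
import Cfsg.Agent.Lib.Helper1.Alr1
import Cfsg.Agent.Lib.Helper1.HH3
import Cfsg.Agent.Lib.Helper1.QuadStable8
import Cfsg.Agent.Lib.Helper1.PLengthOne
import Cfsg.Agent.Lib.Helper2.Cores
import Cfsg.Agent.S3779
import Cfsg.Agent.S3780

/-! Alperin's theorem (S3782): reduction of the solvable case to the `p`-group case. -/
set_option autoImplicit false
set_option maxHeartbeats 4000000
set_option maxRecDepth 100000
set_option linter.unusedVariables false
set_option linter.unusedSectionVars false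
set_option linter.style.longLine false
set_option linter.unusedSimpArgs false
set_option linter.deprecated false
universe u

namespace Cfsg.Agent.Lib.Helper1.Alr
open Cfsg
open Cfsg.Agent.Lib.Helper1.ThompsonFPF

/-- invariance of a characteristic subgroup -/
theorem inv_of_characteristic {G : Type u} [Group G] (φ : G ≃* G) (M : Subgroup G)
    [hM : M.Characteristic] : Inv φ M := by
  intro x hx
  exact (Subgroup.characteristic_iff_map_le.mp hM φ) ⟨x, hx, rfl⟩

/-- the Frattini subgroup of an invariant subgroup is invariant -/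
theorem inv_frattini {G : Type u} [Group G] [Finite G] (φ : G ≃* G) (Q : Subgroup G)
    (hQ : Inv φ Q) : Inv φ ((frattini ↥Q).map Q.subtype) := by
  rintro _ ⟨y, hy, rfl⟩
  refine ⟨res φ Q hQ y, ?_, ?_⟩
  · exact inv_of_characteristic (res φ Q hQ) (frattini ↥Q) y hy
  · rfl

/-- bound on the order of an abelian group of exponent `p` with an automorphism `γ`,
`γ ^ p = 1`, having at most `p ^ n` fixed points -/
theorem card_le_of_fix {V : Type u} [CommGroup V] [Finite V] {p : ℕ} [hp : Fact p.Prime] (n : ℕ)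
    (hexp : ∀ v : V, v ^ p = 1) (γ : MulAut V) (hγ : γ ^ p = 1)
    (hfix : Nat.card {v : V // γ v = v} ≤ p ^ n) : Nat.card V ≤ p ^ (p * n) := by
  have hpn : p ^ n ≤ p ^ (p * n) :=
    Nat.pow_le_pow_right hp.out.pos (Nat.le_mul_of_pos_left n hp.out.pos)
  by_cases h1 : γ = 1
  · have e : Nat.card {v : V // γ v = v} = Nat.card V := by
      apply Nat.card_congr
      exact Equiv.subtypeUnivEquiv (fun v => by rw [h1]; rfl)
    rw [← e]
    exact hfix.trans hpn
  · have hord : orderOf γ = p := orderOf_eq_prime hγ h1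
    have hVp : IsPGroup p V := by
      intro v
      exact ⟨1, by rw [pow_one]; exact hexp v⟩
    let F : Subgroup V :=
      { carrier := {v | γ v = v}
        mul_mem' := by
          intro a b ha hb
          change γ (a * b) = a * b
          rw [map_mul, ha, hb]
        one_mem' := map_one γ
        inv_mem' := by
          intro a ha
          change γ a⁻¹ = a⁻¹
          rw [map_inv, ha] }
    have hF : Nat.card F = Nat.card {v : V // γ v = v} := rfl
    obtain ⟨m, hm⟩ := IsPGroup.iff_card.mp (hVp.to_subgroup F)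
    have hmn : m ≤ n := by
      have : p ^ m ≤ p ^ n := by rw [← hm, hF]; exact hfix
      exact (Nat.pow_le_pow_iff_right hp.out.one_lt).mp this
    obtain ⟨S, hS1, hS2⟩ := Cfsg.Agent.S3780.result hVp γ hord m (hF ▸ hm)
    have h2 := card_closure_le_pow hp.out.pos hexp S
    rw [hS2, Subgroup.card_top] at h2
    calc Nat.card V ≤ p ^ S.card := h2
      _ ≤ p ^ (p * m) := Nat.pow_le_pow_right hp.out.pos hS1
      _ ≤ p ^ (p * n) := Nat.pow_le_pow_right hp.out.pos (Nat.mul_le_mul_left p hmn)

/-- Part A: groups with trivial `p'`-core. -/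
theorem bound_of_pPrimeCore_eq_bot (p : ℕ) [hp : Fact p.Prime] (n l1 : ℕ)
    (H1 : ∀ (P : Type u) [Group P] [Finite P], IsPGroup p P → ∀ a : MulAut P, a ^ p = 1 →
      Nat.card {g : P // a g = g} ≤ p ^ n → derivedSeries P l1 = ⊥)
    (H : Type u) [Group H] [Finite H] (hsol : Group.IsSolvable H) (hO : pPrimeCore p H = ⊥)
    (β : H ≃* H) (hβ : β ^ p = 1) (hfix : Nat.card {g : H // β g = g} ≤ p ^ n) :
    derivedSeries H (Nat.factorial (p ^ (p * n)) + l1) = ⊥ := by
  obtain ⟨Q, hQ⟩ : ∃ Q, Q = pCore p H := ⟨_, rfl⟩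
  have hQchar : Q.Characteristic := by rw [hQ]; exact Cfsg.Agent.Lib.Helper2.pCore_characteristic p
  have hQn : Q.Normal := by rw [hQ]; exact Cfsg.Agent.Lib.Helper1.pCore_normal p
  have hQp : IsPGroup p Q := by rw [hQ]; exact Cfsg.Agent.Lib.Helper1.pCore_isPGroup p
  have hc : Subgroup.centralizer (Q : Set H) ≤ Q := by
    rw [hQ]; exact Cfsg.Agent.Lib.Helper1.centralizer_pCore_le p hO
  have hQinv : Inv β Q := inv_of_characteristic β Q
  -- derived length of Q
  have dQ : derivedSeries Q l1 = ⊥ :=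
    H1 Q hQp (res β Q hQinv) (res_pow_eq_one β Q hQinv hβ) ((card_fix_res_le β Q hQinv).trans hfix)
  -- Frattini subgroup
  obtain ⟨Φ, hΦ⟩ : ∃ Φ, Φ = (frattini ↥Q).map Q.subtype := ⟨_, rfl⟩
  have hΦn : Φ.Normal := by rw [hΦ]; infer_instance
  have hΦinv : Inv β Φ := by rw [hΦ]; exact inv_frattini β Q hQinv
  have hker : sectionKernel Q Φ ≤ Q := by
    have h1 : IsPGroup p (sectionKernel Q Φ) := by
      subst hΦ
      exact StableQuad.isPGroup_sectionKernel_frattini Q hQp hc
    exact (Cfsg.Agent.Lib.Helper1.le_pCore (HH.sectionKernel_normal Q Φ) h1).trans_eq hQ.symm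
  -- the section Q/Φ inside H/Φ
  have hEA : Cfsg.IsElementaryAbelian p (Q.map (QuotientGroup.mk' Φ)) :=
    QuadSL2.isElementaryAbelian_map_mk_of_frattini Q hQp Φ hΦ.ge
  have hcomm : ∀ a b : ↥(HH.sec Q Φ), a * b = b * a := by
    intro a b
    exact hEA.1.is_comm.comm a b
  have hexp : ∀ v : ↥(HH.sec Q Φ), v ^ p = 1 := by
    intro v
    apply Subtype.ext
    rw [Subgroup.coe_pow]
    exact hEA.2 v.1 v.2
  have hsecinv : Inv (quot β Φ hΦinv) (HH.sec Q Φ) := by
    rintro _ ⟨x, hx, rfl⟩
    exact ⟨β x, hQinv x hx, rfl⟩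
  have hcard : Nat.card ↥(HH.sec Q Φ) ≤ p ^ (p * n) := by
    let _ : CommGroup ↥(HH.sec Q Φ) :=
      { (inferInstance : Group ↥(HH.sec Q Φ)) with mul_comm := hcomm }
    exact card_le_of_fix n hexp (res (quot β Φ hΦinv) (HH.sec Q Φ) hsecinv)
      (res_pow_eq_one _ _ hsecinv (quot_pow_eq_one β Φ hΦinv hβ))
      (((card_fix_res_le _ _ hsecinv).trans (card_fix_quot_le β Φ hΦinv)).trans hfix)
  -- the index of Q
  have hkereq : (HH.secAct Q Φ).ker = sectionKernel Q Φ := by
    ext g
    rw [MonoidHom.mem_ker, HH.secAct_eq_one_iff]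
  have hidx : Q.index ≤ Nat.factorial (p ^ (p * n)) := by
    have h1 : Q.index ∣ (sectionKernel Q Φ).index := Subgroup.index_dvd_of_le hker
    have h2 : (sectionKernel Q Φ).index = Nat.card (HH.secAct Q Φ).range := by
      rw [← hkereq, Subgroup.index_ker]
    have h3 : Nat.card (HH.secAct Q Φ).range ≤ Nat.card (MulAut ↥(HH.sec Q Φ)) :=
      Nat.card_le_card_of_injective _ (Subgroup.subtype_injective _)
    have h4 : Nat.card (MulAut ↥(HH.sec Q Φ)) ≤ Nat.card (Equiv.Perm ↥(HH.sec Q Φ)) :=
      Nat.card_le_card_of_injective (fun e => e.toEquiv) MulEquiv.toEquiv_injective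
    have h5 : Nat.card (Equiv.Perm ↥(HH.sec Q Φ)) = (Nat.card ↥(HH.sec Q Φ)).factorial :=
      Nat.card_perm
    have h6 : 0 < (sectionKernel Q Φ).index := Nat.pos_of_ne_zero Subgroup.index_ne_zero_of_finite
    calc Q.index ≤ (sectionKernel Q Φ).index := Nat.le_of_dvd h6 h1
      _ = Nat.card (HH.secAct Q Φ).range := h2
      _ ≤ (Nat.card ↥(HH.sec Q Φ)).factorial := by rw [← h5]; exact h3.trans h4
      _ ≤ Nat.factorial (p ^ (p * n)) := Nat.factorial_le hcard
  have dHQ : derivedSeries (H ⧸ Q) (Nat.factorial (p ^ (p * n))) = ⊥ := by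
    apply derivedSeries_eq_bot_of_card_le
    rw [← Subgroup.index_eq_card]
    exact hidx
  exact derivedSeries_add_eq_bot_of_normal Q dQ dHQ

/-- Part B: the reduction theorem. -/
theorem reduction (p : ℕ) [hp : Fact p.Prime] (n l1 : ℕ)
    (H1 : ∀ (P : Type u) [Group P] [Finite P], IsPGroup p P → ∀ a : MulAut P, a ^ p = 1 →
      Nat.card {g : P // a g = g} ≤ p ^ n → derivedSeries P l1 = ⊥)
    (G : Type u) [Group G] [Finite G] (hsol : Group.IsSolvable G) (α : MulAut G)
    (hα : orderOf α = p) (hfix : Nat.card {g : G // α g = g} = p ^ n) :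
    derivedSeries G ((Nat.factorial (p ^ (p * n)) + l1) +
      Finset.sum (Finset.range (2 ^ (p - 1) - 1)) (fun i => (p - 1) ^ i)) = ⊥ := by
  have hαp : α ^ p = 1 := by rw [← hα]; exact pow_orderOf_eq_one α
  obtain ⟨K, hK⟩ : ∃ K, K = pPrimeCore p G := ⟨_, rfl⟩
  have hKchar : K.Characteristic := by
    rw [hK]; exact Cfsg.Agent.Lib.Helper2.pPrimeCore_characteristic p
  have hKn : K.Normal := by rw [hK]; exact Cfsg.Agent.Lib.Helper1.pPrimeCore_normal p
  have hKcop : (Nat.card K).Coprime p := by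
    rw [hK]; exact Cfsg.Agent.Lib.Helper1.pPrimeCore_card_coprime p
  have hKinv : Inv α K := inv_of_characteristic α K
  -- the fixed point subgroup
  let F : Subgroup G :=
    { carrier := {v | α v = v}
      mul_mem' := by
        intro a b ha hb
        change α (a * b) = a * b
        rw [map_mul, ha, hb]
      one_mem' := map_one α
      inv_mem' := by
        intro a ha
        change α a⁻¹ = a⁻¹
        rw [map_inv, ha] }
  have hF : Nat.card F = p ^ n := hfix
  -- α is fixed-point-free on K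
  have hfpf : ∀ x : K, res α K hKinv x = x → x = 1 := by
    intro x hx
    have h1 : α (x : G) = (x : G) := by
      have := congrArg Subtype.val hx
      rwa [res_apply] at this
    have h2 : (x : G) ^ (p ^ n) = 1 := by
      have h3 : (⟨(x : G), h1⟩ : F) ^ Nat.card F = 1 := pow_card_eq_one'
      rw [hF] at h3
      exact congrArg Subtype.val h3
    have h4 : (x : G) ^ Nat.card K = 1 := by
      have h5 : x ^ Nat.card K = 1 := pow_card_eq_one'
      have := congrArg Subtype.val h5
      rwa [Subgroup.coe_pow] at this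
    have h6 : (x : G) ^ (Nat.card K).gcd (p ^ n) = 1 := pow_gcd_eq_one.mpr ⟨h4, h2⟩
    have h7 : (Nat.card K).gcd (p ^ n) = 1 := Nat.Coprime.pow_right n hKcop
    rw [h7, pow_one] at h6
    exact Subtype.ext h6
  have dK : derivedSeries K
      (Finset.sum (Finset.range (2 ^ (p - 1) - 1)) (fun i => (p - 1) ^ i)) = ⊥ := by
    by_cases h1 : res α K hKinv = 1
    · have hsub : ∀ x : K, x = 1 := by
        intro x
        apply hfpf x
        rw [h1]; rfl
      rw [eq_bot_iff]
      intro x _
      rw [Subgroup.mem_bot]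
      exact hsub x
    · have hord : orderOf (res α K hKinv) = p :=
        orderOf_eq_prime (res_pow_eq_one α K hKinv hαp) h1
      have h2 := (Cfsg.Agent.S3779.result hp.out (res α K hKinv) hord hfpf).2.2
      rw [eq_bot_iff, ← h2]
      exact Subgroup.derived_le_lower_central _
  -- the quotient
  have hO : pPrimeCore p (G ⧸ K) = ⊥ := by
    subst hK
    exact Cfsg.Agent.Lib.Helper1.pPrimeCore_quotient_eq_bot p
  have dGK : derivedSeries (G ⧸ K) (Nat.factorial (p ^ (p * n)) + l1) = ⊥ := by
    apply bound_of_pPrimeCore_eq_bot p n l1 H1 (G ⧸ K) inferInstance hO (quot α K hKinv)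
      (quot_pow_eq_one α K hKinv hαp)
    exact (card_fix_quot_le α K hKinv).trans hfix.le
  exact derivedSeries_add_eq_bot_of_normal K dK dGK

end Cfsg.Agent.Lib.Helper1.Alr
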