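import Mathlib
import Cfsg.Agent.Lib.Helper1.Alr2

/-! F2 in general form: abelian `p`-group killed by `p ^ c` with an automorphism `γ`,
`γ ^ p = 1`, having at most `p ^ n` fixed points, has order at most `p ^ (c * (p * n))`. -/
set_option autoImplicit false
set_option maxHeartbeats 4000000
set_option maxRecDepth 100000
set_option linter.unusedVariables false
set_option linter.unusedSectionVars false
set_option linter.style.longLine false
set_option linter.unusedSimpArgs false
set_option linter.deprecated false
universe u

namespace Cfsg.Agent.Lib.Helper1.Alr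
open Cfsg

/-- an abelian group of exponent dividing `e` generated by a finset `S` has order at most
`e ^ |S|` -/
theorem card_closure_le_pow' {V : Type*} [CommGroup V] [Finite V] {e : ℕ} (he : 0 < e)
    (hexp : ∀ v : V, v ^ e = 1) (S : Finset V) :
    Nat.card (Subgroup.closure (S : Set V)) ≤ e ^ S.card :=
  card_closure_le_pow he hexp S

/-- the fixed points of an automorphism, as a subgroup -/
def fixSub {V : Type*} [Group V] (γ : MulAut V) : Subgroup V where
  carrier := {v | γ v = v}
  mul_mem' := by
    intro a b ha hb
    change γ (a * b) = a * b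
    rw [map_mul, ha, hb]
  one_mem' := map_one γ
  inv_mem' := by
    intro a ha
    change γ a⁻¹ = a⁻¹
    rw [map_inv, ha]

theorem mem_fixSub {V : Type*} [Group V] (γ : MulAut V) (v : V) : v ∈ fixSub γ ↔ γ v = v :=
  Iff.rfl

theorem card_fixSub {V : Type*} [Group V] (γ : MulAut V) :
    Nat.card (fixSub γ) = Nat.card {v : V // γ v = v} := rfl

theorem card_le_of_fix_exp {V : Type u} [CommGroup V] [Finite V] {p : ℕ} [hp : Fact p.Prime]
    (n c : ℕ) (hexp : ∀ v : V, v ^ (p ^ c) = 1) (γ : MulAut V) (hγ : γ ^ p = 1)
    (hfix : Nat.card {v : V // γ v = v} ≤ p ^ n) : Nat.card V ≤ p ^ (c * (p * n)) := by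
  have hVp : IsPGroup p V := fun v => ⟨c, hexp v⟩
  by_cases h1 : γ = 1
  · have e : Nat.card {v : V // γ v = v} = Nat.card V := by
      apply Nat.card_congr
      exact Equiv.subtypeUnivEquiv (fun v => by rw [h1]; rfl)
    rw [e] at hfix
    rcases Nat.eq_zero_or_pos c with hc | hc
    · subst hc
      have hsub : Subsingleton V := by
        constructor
        intro a b
        have ha := hexp a
        have hb := hexp b
        rw [pow_zero, pow_one] at ha hb
        rw [ha, hb]
      have : Nat.card V = 1 := Nat.card_unique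
      rw [this, zero_mul, pow_zero]
    · refine hfix.trans (Nat.pow_le_pow_right hp.out.pos ?_)
      calc n = 1 * (1 * n) := by ring
        _ ≤ c * (p * n) := Nat.mul_le_mul hc (Nat.mul_le_mul hp.out.pos le_rfl)
  · have hord : orderOf γ = p := orderOf_eq_prime hγ h1
    obtain ⟨m, hm⟩ := IsPGroup.iff_card.mp (hVp.to_subgroup (fixSub γ))
    have hmn : m ≤ n := by
      have : p ^ m ≤ p ^ n := by rw [← hm, card_fixSub]; exact hfix
      exact (Nat.pow_le_pow_iff_right hp.out.one_lt).mp this
    obtain ⟨S, hS1, hS2⟩ := Cfsg.Agent.S3780.result hVp γ hord m ((card_fixSub γ) ▸ hm)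
    have h2 := card_closure_le_pow (Nat.pow_pos hp.out.pos) hexp S
    rw [hS2, Subgroup.card_top, ← pow_mul] at h2
    refine h2.trans (Nat.pow_le_pow_right hp.out.pos ?_)
    exact Nat.mul_le_mul_left c (hS1.trans (Nat.mul_le_mul_left p hmn))

end Cfsg.Agent.Lib.Helper1.Alr
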