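import Mathlib
import Cfsg.Agent.S2750
import Cfsg.Agent.Lib.Helper1.PResidual

set_option autoImplicit false
set_option maxHeartbeats 4000000
set_option linter.unusedVariables false
set_option linter.unusedSectionVars false
set_option linter.deprecated false
set_option linter.style.longLine false
set_option linter.unusedSimpArgs false

/-! # Iterated closures `V_δ^{(n)}` on the coset graph: equivariance and the noncentral chief factor lemmas -/

namespace Cfsg.Agent.Lib.Helper1.AmV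

open Cfsg Cfsg.Agent.Lib.Helper2.Amalgam Cfsg.Agent.Lib.Helper7 Cfsg.Agent.S2750

universe u

variable {X : Type u} [Group X] {M₁ M₂ : Subgroup X}

/-- left translation as a graph hom -/
def smulHom (g : X) : cosetGraph M₁ M₂ →g cosetGraph M₁ M₂ where
  toFun := fun v => g • v
  map_rel' := fun h => adj_smul M₁ M₂ g h

theorem dist_smul_le (hconn : (cosetGraph M₁ M₂).Connected) (g : X) (u v : CosetVertex M₁ M₂) :
    (cosetGraph M₁ M₂).dist (g • u) (g • v) ≤ (cosetGraph M₁ M₂).dist u v := by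
  obtain ⟨w, hw⟩ := hconn.exists_walk_length_eq_dist u v
  have := SimpleGraph.dist_le (w.map (smulHom g))
  rw [SimpleGraph.Walk.length_map, hw] at this
  exact this

theorem dist_smul (hconn : (cosetGraph M₁ M₂).Connected) (g : X) (u v : CosetVertex M₁ M₂) :
    (cosetGraph M₁ M₂).dist (g • u) (g • v) = (cosetGraph M₁ M₂).dist u v := by
  apply le_antisymm (dist_smul_le hconn g u v)
  have := dist_smul_le hconn g⁻¹ (g • u) (g • v)
  rwa [inv_smul_smul, inv_smul_smul] at this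

section scc

variable {p : ℕ} [Fact p.Prime]

theorem scc_map_cj_le' (H : Subgroup X) [Finite H] (g : X) [Finite ↥(H.map (cj g))] :
    sylowCenterClosure p (H.map (cj g)) ≤ (sylowCenterClosure p H).map (cj g) := by
  rw [scc_le_iff]
  intro T hT
  have h1 : IsSylIn p (T.map (cj g⁻¹)) H := by
    have := hT.map_cj g⁻¹
    rwa [map_cj_map_cj_inv] at this
  have h2 := ozc_le_scc h1
  have h3 := Subgroup.map_mono (f := cj g) h2
  rwa [← ozc_map_cj, map_cj_inv_map_cj] at h3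

theorem scc_map_cj' (H : Subgroup X) [Finite H] (g : X) :
    sylowCenterClosure p (H.map (cj g)) = (sylowCenterClosure p H).map (cj g) := by
  haveI : Finite ↥(H.map (cj g)) := by
    have : Nat.card ↥(H.map (cj g)) = Nat.card H := Subgroup.card_map_of_injective (cj_injective g)
    apply Nat.finite_of_card_ne_zero
    rw [this]
    exact Nat.card_pos.ne'
  apply le_antisymm (scc_map_cj_le' H g)
  haveI : Finite ↥((H.map (cj g)).map (cj g⁻¹)) := by
    rw [map_cj_map_cj_inv]; infer_instance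
  have h1 := scc_map_cj_le' (p := p) (H.map (cj g)) g⁻¹
  rw [map_cj_map_cj_inv] at h1
  have h2 := Subgroup.map_mono (f := cj g) h1
  rwa [map_cj_inv_map_cj] at h2

end scc

section main

variable {p : ℕ} [Fact p.Prime]

theorem vertexZ_smul (hc : IsCharPAmalgamPair p M₁ M₂) (g : X) (δ : CosetVertex M₁ M₂) :
    vertexZ p (g • δ) = (vertexZ p δ).map (cj g) := by
  haveI := vertex_finite hc δ
  show sylowCenterClosure p (MulAction.stabilizer X (g • δ)) = _
  rw [MulAction.stabilizer_smul_eq_stabilizer_map_conj]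
  exact scc_map_cj' _ g

theorem vIter_smul (hc : IsCharPAmalgamPair p M₁ M₂) (g : X) (k : ℕ) (δ : CosetVertex M₁ M₂) :
    vertexVIter p M₁ M₂ k (g • δ) = (vertexVIter p M₁ M₂ k δ).map (cj g) := by
  have hconn := graph_connected hc
  unfold vertexVIter
  rw [Subgroup.map_iSup]
  apply le_antisymm
  · apply iSup_le
    rintro ⟨μ, hμ⟩
    have h1 : (cosetGraph M₁ M₂).dist δ (g⁻¹ • μ) ≤ k := by
      have := dist_smul hconn g⁻¹ (g • δ) μ
      rw [inv_smul_smul] at this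
      omega
    refine le_trans ?_ (le_iSup (fun ν : {ν : CosetVertex M₁ M₂ // (cosetGraph M₁ M₂).dist δ ν ≤ k} =>
      (vertexZ p (ν : CosetVertex M₁ M₂)).map (cj g)) ⟨g⁻¹ • μ, h1⟩)
    show vertexZ p μ ≤ (vertexZ p (g⁻¹ • μ)).map (cj g)
    rw [← vertexZ_smul hc, smul_inv_smul]
  · apply iSup_le
    rintro ⟨μ, hμ⟩
    have h1 : (cosetGraph M₁ M₂).dist (g • δ) (g • μ) ≤ k := by
      rw [dist_smul hconn]; exact hμ
    refine le_trans ?_ (le_iSup (fun ν : {ν : CosetVertex M₁ M₂ // (cosetGraph M₁ M₂).dist (g • δ) ν ≤ k} =>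
      vertexZ p (ν : CosetVertex M₁ M₂)) ⟨g • μ, h1⟩)
    show (vertexZ p μ).map (cj g) ≤ vertexZ p (g • μ)
    rw [vertexZ_smul hc]

theorem vertexZ_le_vIter (k : ℕ) {δ μ : CosetVertex M₁ M₂} (h : (cosetGraph M₁ M₂).dist δ μ ≤ k) :
    vertexZ p μ ≤ vertexVIter p M₁ M₂ k δ := by
  unfold vertexVIter
  exact le_iSup (fun ν : {ν : CosetVertex M₁ M₂ // (cosetGraph M₁ M₂).dist δ ν ≤ k} =>
      vertexZ p (ν : CosetVertex M₁ M₂)) ⟨μ, h⟩

theorem vertexZ_self_le_vIter (k : ℕ) (δ : CosetVertex M₁ M₂) :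
    vertexZ p δ ≤ vertexVIter p M₁ M₂ k δ :=
  vertexZ_le_vIter k (by rw [SimpleGraph.dist_self]; exact Nat.zero_le _)

theorem vIter_mono {k k' : ℕ} (hk : k ≤ k') (δ : CosetVertex M₁ M₂) :
    vertexVIter p M₁ M₂ k δ ≤ vertexVIter p M₁ M₂ k' δ := by
  unfold vertexVIter
  apply iSup_le
  rintro ⟨μ, hμ⟩
  exact le_iSup (fun ν : {ν : CosetVertex M₁ M₂ // (cosetGraph M₁ M₂).dist δ ν ≤ k'} =>
      vertexZ p (ν : CosetVertex M₁ M₂)) ⟨μ, hμ.trans hk⟩

theorem vIter_le_of_adj (hconn : (cosetGraph M₁ M₂).Connected) {δ μ : CosetVertex M₁ M₂}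
    (hadj : (cosetGraph M₁ M₂).Adj δ μ) (k : ℕ) :
    vertexVIter p M₁ M₂ k μ ≤ vertexVIter p M₁ M₂ (k + 1) δ := by
  unfold vertexVIter
  apply iSup_le
  rintro ⟨ν, hν⟩
  have h1 : (cosetGraph M₁ M₂).dist δ ν ≤ k + 1 := by
    have h2 := hconn.dist_triangle (u := δ) (v := μ) (w := ν)
    have h3 : (cosetGraph M₁ M₂).dist δ μ = 1 := SimpleGraph.dist_eq_one_iff_adj.2 hadj
    omega
  exact le_iSup (fun ν : {ν : CosetVertex M₁ M₂ // (cosetGraph M₁ M₂).dist δ ν ≤ k + 1} =>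
      vertexZ p (ν : CosetVertex M₁ M₂)) ⟨ν, h1⟩

/-- `Z_δ` is generated by the `Z_μ`, `μ` adjacent to `δ`. -/
theorem vertexZ_le_iSup_adj (hc : IsCharPAmalgamPair p M₁ M₂) (δ : CosetVertex M₁ M₂) :
    vertexZ p δ ≤ ⨆ μ : {μ : CosetVertex M₁ M₂ // (cosetGraph M₁ M₂).Adj δ μ},
      vertexZ p (μ : CosetVertex M₁ M₂) := by
  haveI := vertex_finite hc δ
  show sylowCenterClosure p (MulAction.stabilizer X δ) ≤ _
  rw [scc_le_iff]
  intro T hT
  obtain ⟨μ₀, hμ₀⟩ := exists_adj δ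
  have he := edgeHyp_of_adj hc hμ₀
  haveI := he.finInf
  obtain ⟨T₀, hT₀⟩ := exists_isSylIn (p := p) (MulAction.stabilizer X δ ⊓ MulAction.stabilizer X μ₀)
  have hT₀A := he.isSylIn_left hT₀
  obtain ⟨g, hg, rfl⟩ := hT₀A.exists_conj hT
  have h1 : IsSylIn p (T₀.map (cj g)) (MulAction.stabilizer X (g • μ₀)) := by
    have := (he.isSylIn_right hT₀).map_cj g
    rwa [← MulAction.stabilizer_smul_eq_stabilizer_map_conj] at this
  have hadj : (cosetGraph M₁ M₂).Adj δ (g • μ₀) := by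
    have := adj_smul M₁ M₂ g hμ₀
    rwa [MulAction.mem_stabilizer_iff.1 hg] at this
  haveI := vertex_finite hc (g • μ₀)
  exact (ozc_le_scc h1).trans
    (le_iSup (fun μ : {μ : CosetVertex M₁ M₂ // (cosetGraph M₁ M₂).Adj δ μ} =>
      vertexZ p (μ : CosetVertex M₁ M₂)) ⟨g • μ₀, hadj⟩)

theorem vIter_succ_le (hc : IsCharPAmalgamPair p M₁ M₂) (δ : CosetVertex M₁ M₂) (k : ℕ) :
    vertexVIter p M₁ M₂ (k + 1) δ ≤ ⨆ μ : {μ : CosetVertex M₁ M₂ // (cosetGraph M₁ M₂).Adj δ μ},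
      vertexVIter p M₁ M₂ k (μ : CosetVertex M₁ M₂) := by
  have hconn := graph_connected hc
  conv_lhs => unfold vertexVIter
  apply iSup_le
  rintro ⟨ν, hν⟩
  show vertexZ p ν ≤ _
  rcases Nat.eq_zero_or_pos ((cosetGraph M₁ M₂).dist δ ν) with h0 | hpos
  · have : δ = ν := hconn.dist_eq_zero_iff.1 h0
    subst this
    refine (vertexZ_le_iSup_adj hc δ).trans ?_
    apply iSup_le
    intro μ
    exact (vertexZ_self_le_vIter k μ.1).trans
      (le_iSup (fun μ : {μ : CosetVertex M₁ M₂ // (cosetGraph M₁ M₂).Adj δ μ} =>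
        vertexVIter p M₁ M₂ k (μ : CosetVertex M₁ M₂)) μ)
  · obtain ⟨j, hj⟩ : ∃ j, (cosetGraph M₁ M₂).dist δ ν = j + 1 := ⟨_, (Nat.succ_pred_eq_of_pos hpos).symm⟩
    obtain ⟨w, hw, hd⟩ := exists_adj_dist_eq hconn hj
    have hjk : (cosetGraph M₁ M₂).dist w ν ≤ k := by omega
    exact (vertexZ_le_vIter k hjk).trans
      (le_iSup (fun μ : {μ : CosetVertex M₁ M₂ // (cosetGraph M₁ M₂).Adj δ μ} =>
        vertexVIter p M₁ M₂ k (μ : CosetVertex M₁ M₂)) ⟨w, hw⟩)

theorem vIter_succ_le_conj (hc : IsCharPAmalgamPair p M₁ M₂) {δ μ : CosetVertex M₁ M₂}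
    (hadj : (cosetGraph M₁ M₂).Adj δ μ) (k : ℕ) :
    vertexVIter p M₁ M₂ (k + 1) δ ≤ ⨆ g : ↥(MulAction.stabilizer X δ),
      (vertexVIter p M₁ M₂ k μ).map (cj (g : X)) := by
  refine (vIter_succ_le hc δ k).trans ?_
  apply iSup_le
  rintro ⟨μ', hμ'⟩
  obtain ⟨g, hg, rfl⟩ := stabilizer_transitive_on_neighbours M₁ M₂ δ μ μ' hadj hμ'
  show vertexVIter p M₁ M₂ k (g • μ) ≤ _
  rw [vIter_smul hc]
  exact le_iSup (fun g : ↥(MulAction.stabilizer X δ) =>
      (vertexVIter p M₁ M₂ k μ).map (cj (g : X))) ⟨g, hg⟩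

theorem stab_le_normalizer_vIter (hc : IsCharPAmalgamPair p M₁ M₂) (k : ℕ) (δ : CosetVertex M₁ M₂) :
    MulAction.stabilizer X δ ≤ Subgroup.normalizer ((vertexVIter p M₁ M₂ k δ : Subgroup X) : Set X) := by
  intro g hg
  rw [Subgroup.mem_normalizer_iff_map_conj_eq]
  show (vertexVIter p M₁ M₂ k δ).map (cj g) = _
  rw [← vIter_smul hc, MulAction.mem_stabilizer_iff.1 hg]

end main

end Cfsg.Agent.Lib.Helper1.AmV
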