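import Mathlib
import Cfsg.Agent.Lib.Helper1.AmV1

set_option autoImplicit false
set_option maxHeartbeats 4000000
set_option linter.unusedVariables false
set_option linter.unusedSectionVars false
set_option linter.deprecated false
set_option linter.style.longLine false
set_option linter.unusedSimpArgs false
set_option linter.style.haveILetI false

/-! # The noncentral chief factor lemmas for `V_δ^{(n)}` -/

namespace Cfsg.Agent.Lib.Helper1.AmV

open Cfsg Cfsg.Agent.Lib.Helper2.Amalgam Cfsg.Agent.Lib.Helper7 Cfsg.Agent.S2750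
open scoped commutatorElement

universe u

section general

variable {X : Type u} [Group X]

theorem le_normalizer_of_commutator_le {R W : Subgroup X} (h : ⁅R, W⁆ ≤ W) :
    R ≤ Subgroup.normalizer (W : Set X) := by
  intro r hr
  rw [Subgroup.mem_normalizer_iff]
  intro w
  constructor
  · intro hw
    have e : r * w * r⁻¹ = ⁅r, w⁆ * w := by simp [commutatorElement_def]
    rw [e]
    exact W.mul_mem (h (Subgroup.commutator_mem_commutator hr hw)) hw
  · intro hw
    have e : w = ⁅r⁻¹, r * w * r⁻¹⁆ * (r * w * r⁻¹) := by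
      simp only [commutatorElement_def]; group
    rw [e]
    exact W.mul_mem (h (Subgroup.commutator_mem_commutator (R.inv_mem hr) hw)) hw

theorem commutator_le_of_le_normalizer {V Q : Subgroup X} (h : Q ≤ Subgroup.normalizer (V : Set X)) :
    ⁅V, Q⁆ ≤ V := by
  rw [Subgroup.commutator_le]
  intro v hv q hq
  have h1 : q * v⁻¹ * q⁻¹ ∈ V := ((Subgroup.mem_normalizer_iff.1 (h hq)) v⁻¹).1 (V.inv_mem hv)
  have e : ⁅v, q⁆ = v * (q * v⁻¹ * q⁻¹) := by simp only [commutatorElement_def]; group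
  rw [e]
  exact V.mul_mem hv h1

theorem nil_le_of_le_sup_commutator_top {Q : Type*} [Group Q] [Group.IsNilpotent Q]
    (U V : Subgroup Q) [U.Normal] (h : V ≤ U ⊔ ⁅V, ⊤⁆) : V ≤ U := by
  set f := QuotientGroup.mk' U with hf
  have hs : Function.Surjective f := QuotientGroup.mk'_surjective U
  have hU : U.map f = ⊥ := by
    rw [Subgroup.map_eq_bot_iff, QuotientGroup.ker_mk']
  have h1 : V.map f ≤ ⁅V.map f, ⊤⁆ := by
    have := Subgroup.map_mono (f := f) h
    rwa [Subgroup.map_sup, Subgroup.map_commutator, Subgroup.map_top_of_surjective f hs, hU,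
      bot_sup_eq] at this
  have h2 : ∀ n, V.map f ≤ Subgroup.lowerCentralSeries (⊤ : Subgroup (Q ⧸ U)) n := by
    intro n
    induction n with
    | zero => simp
    | succ n ih =>
      show V.map f ≤ ⁅Subgroup.lowerCentralSeries (⊤ : Subgroup (Q ⧸ U)) n, ⊤⁆
      exact h1.trans (Subgroup.commutator_mono ih le_rfl)
  obtain ⟨n, hn⟩ := Subgroup.nilpotent_iff_lowerCentralSeries.1 (inferInstance : Group.IsNilpotent (Q ⧸ U))
  have h3 : V.map f = ⊥ := le_bot_iff.1 (hn ▸ h2 n)
  intro v hv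
  have h4 : f v ∈ V.map f := ⟨v, hv, rfl⟩
  rw [h3, Subgroup.mem_bot] at h4
  exact (QuotientGroup.eq_one_iff v).1 h4

theorem le_of_le_sup_commutator {p : ℕ} [Fact p.Prime] {Q U V : Subgroup X} [Finite Q]
    (hQ : IsPGroup p Q) (hUQ : U ≤ Q) (hVQ : V ≤ Q)
    (hN : Q ≤ Subgroup.normalizer (U : Set X)) (h : V ≤ U ⊔ ⁅V, Q⁆) : V ≤ U := by
  haveI : Group.IsNilpotent Q := hQ.isNilpotent
  haveI : (U.subgroupOf Q).Normal := (Subgroup.normal_subgroupOf_iff_le_normalizer hUQ).2 hN
  have key : V.subgroupOf Q ≤ U.subgroupOf Q ⊔ ⁅V.subgroupOf Q, ⊤⁆ := by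
    rw [← Subgroup.map_le_map_iff_of_injective Q.subtype_injective, Subgroup.map_sup,
      Subgroup.map_commutator, Subgroup.subgroupOf_map_subtype, Subgroup.subgroupOf_map_subtype,
      ← MonoidHom.range_eq_map, Subgroup.range_subtype, inf_eq_left.2 hUQ, inf_eq_left.2 hVQ]
    exact h
  have h1 := nil_le_of_le_sup_commutator_top (U.subgroupOf Q) (V.subgroupOf Q) key
  intro v hv
  have : (⟨v, hVQ hv⟩ : Q) ∈ U.subgroupOf Q := h1 (Subgroup.mem_subgroupOf.2 hv)
  exact Subgroup.mem_subgroupOf.1 this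

theorem IsSylIn.of_le_of_le {p : ℕ} [Fact p.Prime] {T L A : Subgroup X} [Finite A]
    (hT : IsSylIn p T A) (hTL : T ≤ L) (hLA : L ≤ A) : IsSylIn p T L := by
  have hpp : p.Prime := Fact.out
  haveI : Finite L := Finite.of_injective (Subgroup.inclusion hLA) (Subgroup.inclusion_injective _)
  refine ⟨hTL, ?_⟩
  have h1 : Nat.card T ∣ Nat.card L := Subgroup.card_dvd_of_le hTL
  have h2 : Nat.card L ∣ Nat.card A := Subgroup.card_dvd_of_le hLA
  rw [hT.2] at h1 ⊢
  congr 1
  apply le_antisymm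
  · exact (hpp.pow_dvd_iff_le_factorization Nat.card_pos.ne').1 h1
  · exact (Nat.factorization_le_iff_dvd Nat.card_pos.ne' Nat.card_pos.ne').2 h2 p

theorem le_resid_sup_sylow {p : ℕ} [Fact p.Prime] (L : Subgroup X) [Finite L] {T : Subgroup X}
    (hT : IsSylIn p T L) : L ≤ (pResidual p ↥L).map L.subtype ⊔ T := by
  obtain ⟨P, rfl⟩ := (isSylIn_iff T L).1 hT
  have h1 := Cfsg.Agent.Lib.Helper1.sylow_sup_pResidual_eq_top P
  have h2 : ((P : Subgroup L) ⊔ Cfsg.pResidual p L).map L.subtype = L := by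
    rw [h1, ← MonoidHom.range_eq_map, Subgroup.range_subtype]
  rw [Subgroup.map_sup] at h2
  conv_lhs => rw [← h2]
  rw [sup_comm]

theorem exists_central_order_p {p : ℕ} [Fact p.Prime] {T : Subgroup X} [Finite T]
    (hT : IsPGroup p T) (hne : T ≠ ⊥) :
    ∃ c : X, c ∈ T ⊓ Subgroup.centralizer (T : Set X) ∧ c ≠ 1 ∧ c ^ p = 1 := by
  have hpp : p.Prime := Fact.out
  haveI : Nontrivial T := (Subgroup.nontrivial_iff_ne_bot T).2 hne
  haveI := hT.center_nontrivial
  have hCp : IsPGroup p (Subgroup.center T) := hT.to_subgroup _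
  have hdvd : p ∣ Nat.card (Subgroup.center T) := by
    rcases hCp.card_eq_or_dvd with h1 | h1
    · exact absurd h1 (Finite.one_lt_card_iff_nontrivial.2 inferInstance).ne'
    · exact h1
  obtain ⟨c, hc⟩ := exists_prime_orderOf_dvd_card' p hdvd
  refine ⟨((c : T) : X), Subgroup.mem_inf.2 ⟨(c : T).2, ?_⟩, ?_, ?_⟩
  · rw [Subgroup.mem_centralizer_iff]
    intro t ht
    have := (Subgroup.mem_center_iff.1 c.2) ⟨t, ht⟩
    exact congrArg Subtype.val this
  · intro h1
    have h2 : c = 1 := by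
      apply Subtype.ext; apply Subtype.ext; exact h1
    rw [h2, orderOf_one] at hc
    exact hpp.one_lt.ne hc
  · have h1 := pow_orderOf_eq_one c
    rw [hc] at h1
    have h2 := congrArg (fun z : Subgroup.center T => ((z : T) : X)) h1
    simpa using h2

end general

section main

variable {X : Type u} [Group X] {M₁ M₂ : Subgroup X} {p : ℕ} [Fact p.Prime]

theorem normHyp_of_adj (h : IsSpeAmalgamPair p M₁ M₂) {δ μ : CosetVertex M₁ M₂}
    (hμ : (cosetGraph M₁ M₂).Adj δ μ) :
    NormHyp p (MulAction.stabilizer X δ) (MulAction.stabilizer X μ) := by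
  obtain ⟨hchar, hnorm, -, -⟩ := h
  have he0 := edgeHyp_of_isCharPAmalgamPair hchar
  haveI := he0.finInf
  have hn0 : NormHyp p M₁ M₂ := by
    intro T₀ hT₀
    obtain ⟨S₀, rfl⟩ := (isSylIn_iff T₀ (M₁ ⊓ M₂)).1 hT₀
    exact (hnorm S₀).1
  obtain ⟨x, ⟨rfl, rfl⟩ | ⟨rfl, rfl⟩⟩ := adj_cases hμ
  · rw [stabilizer_inl_mk, stabilizer_inr_mk]
    exact hn0.conj x
  · rw [stabilizer_inl_mk, stabilizer_inr_mk]
    exact hn0.symm.conj x

/-- `G_δ = O^p(L_δ) (G_δ ∩ G_μ)`. -/
theorem stab_le_resid_sup (h : IsSpeAmalgamPair p M₁ M₂) {δ μ : CosetVertex M₁ M₂}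
    (hadj : (cosetGraph M₁ M₂).Adj δ μ) :
    MulAction.stabilizer X δ ≤
      (pResidual p ↥(pElementClosure p (MulAction.stabilizer X δ))).map
        (pElementClosure p (MulAction.stabilizer X δ)).subtype ⊔
        (MulAction.stabilizer X δ ⊓ MulAction.stabilizer X μ) := by
  have hc := h.1
  have he := edgeHyp_of_adj hc hadj
  haveI := he.finA
  haveI := he.finB
  haveI := he.finInf
  obtain ⟨T, hT⟩ := exists_isSylIn (p := p) (MulAction.stabilizer X δ ⊓ MulAction.stabilizer X μ)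
  have hTA := he.isSylIn_left hT
  have h1 := frattini_pElementClosure hTA
  have hn := normHyp_of_adj h hadj T hT
  have h2 : MulAction.stabilizer X δ ⊓ Subgroup.normalizer (T : Set X) ≤
      MulAction.stabilizer X δ ⊓ MulAction.stabilizer X μ :=
    le_inf inf_le_left (by rw [hn]; exact inf_le_left)
  set L := pElementClosure p (MulAction.stabilizer X δ) with hL
  have hLA : L ≤ MulAction.stabilizer X δ := pElementClosure_le p _
  haveI : Finite L := Finite.of_injective (Subgroup.inclusion hLA) (Subgroup.inclusion_injective _)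
  have hTL : IsSylIn p T L :=
    IsSylIn.of_le_of_le hTA (le_pElementClosure hTA.isPGroup hTA.1) hLA
  have h3 := le_resid_sup_sylow L hTL
  refine h1.trans (sup_le (h3.trans (sup_le le_sup_left (hT.1.trans le_sup_right)))
    (h2.trans le_sup_right))

theorem vIter_succ_le_of_normalizer (h : IsSpeAmalgamPair p M₁ M₂) {δ μ : CosetVertex M₁ M₂}
    (hadj : (cosetGraph M₁ M₂).Adj δ μ) (k : ℕ) (W : Subgroup X)
    (hUW : vertexVIter p M₁ M₂ k μ ≤ W)
    (hR : (pResidual p ↥(pElementClosure p (MulAction.stabilizer X δ))).map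
        (pElementClosure p (MulAction.stabilizer X δ)).subtype ≤ Subgroup.normalizer (W : Set X))
    (hE : MulAction.stabilizer X δ ⊓ MulAction.stabilizer X μ ≤ Subgroup.normalizer (W : Set X)) :
    vertexVIter p M₁ M₂ (k + 1) δ ≤ W := by
  have hG : MulAction.stabilizer X δ ≤ Subgroup.normalizer (W : Set X) :=
    (stab_le_resid_sup h hadj).trans (sup_le hR hE)
  refine (vIter_succ_le_conj h.1 hadj k).trans (iSup_le ?_)
  rintro ⟨g, hg⟩
  have h1 : W.map (cj g) = W := Subgroup.mem_normalizer_iff_map_conj_eq.1 (hG hg)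
  rw [← h1]
  exact Subgroup.map_mono hUW

theorem vertexZ_ne_bot (hc : IsCharPAmalgamPair p M₁ M₂) (δ : CosetVertex M₁ M₂) :
    vertexZ p δ ≠ ⊥ := by
  have hpp : p.Prime := Fact.out
  haveI := vertex_finite hc δ
  obtain ⟨T, hT⟩ := exists_isSylIn (p := p) (MulAction.stabilizer X δ)
  have hdiv : p ∣ Nat.card (MulAction.stabilizer X δ) := by
    rcases vertex_cases M₁ M₂ δ with ⟨x, rfl⟩ | ⟨x, rfl⟩
    · rw [stabilizer_inl_mk, Subgroup.card_map_of_injective (cj_injective x)]
      exact hc.2.2.2.1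
    · rw [stabilizer_inr_mk, Subgroup.card_map_of_injective (cj_injective x)]
      exact hc.2.2.2.2.1
  have hfac : 1 ≤ (Nat.card (MulAction.stabilizer X δ)).factorization p :=
    (hpp.dvd_iff_one_le_factorization Nat.card_pos.ne').1 hdiv
  haveI : Finite T := Finite.of_injective (Subgroup.inclusion hT.1) (Subgroup.inclusion_injective _)
  have hTne : T ≠ ⊥ := by
    intro h0
    have h1 := hT.2
    rw [h0, Subgroup.card_bot] at h1
    have : p ^ 1 ∣ p ^ (Nat.card (MulAction.stabilizer X δ)).factorization p := pow_dvd_pow p hfac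
    rw [← h1, pow_one] at this
    exact hpp.one_lt.ne' (Nat.dvd_one.1 this)
  obtain ⟨c, hc1, hc2, hc3⟩ := exists_central_order_p hT.isPGroup hTne
  intro h0
  have h1 : c ∈ ozc p T := Subgroup.subset_closure ⟨hc1, hc3⟩
  have h2 : c ∈ vertexZ p δ := ozc_le_scc hT h1
  rw [h0, Subgroup.mem_bot] at h2
  exact hc2 h2

theorem false_of_vIter_le (hc : IsCharPAmalgamPair p M₁ M₂) {δ μ : CosetVertex M₁ M₂}
    (hadj : (cosetGraph M₁ M₂).Adj δ μ) (k : ℕ)
    (hVQ : vertexVIter p M₁ M₂ (k + 1) δ ≤ vertexQ p δ)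
    (hle : vertexVIter p M₁ M₂ (k + 1) δ ≤ vertexVIter p M₁ M₂ k μ) : False := by
  have hconn := graph_connected hc
  have heq : vertexVIter p M₁ M₂ (k + 1) δ = vertexVIter p M₁ M₂ k μ :=
    le_antisymm hle (vIter_le_of_adj hconn hadj k)
  have h1 : MulAction.stabilizer X δ ≤
      Subgroup.normalizer ((vertexVIter p M₁ M₂ (k + 1) δ : Subgroup X) : Set X) :=
    stab_le_normalizer_vIter hc (k + 1) δ
  have h2 : MulAction.stabilizer X μ ≤
      Subgroup.normalizer ((vertexVIter p M₁ M₂ (k + 1) δ : Subgroup X) : Set X) := by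
    rw [heq]; exact stab_le_normalizer_vIter hc k μ
  have he := edgeHyp_of_adj hc hadj
  have hn : (vertexVIter p M₁ M₂ (k + 1) δ).Normal := by
    rw [← Subgroup.normalizer_eq_top_iff, eq_top_iff, ← he.gen]
    exact sup_le h1 h2
  have h3 : vertexVIter p M₁ M₂ (k + 1) δ ≤ MulAction.stabilizer X δ ⊓ MulAction.stabilizer X μ :=
    hVQ.trans (le_inf (pCoreIn_le p _) he.pCoreIn_le)
  have h4 := he.faithful _ h3 hn
  have h5 : vertexZ p δ ≤ vertexVIter p M₁ M₂ (k + 1) δ := vertexZ_self_le_vIter (k + 1) δ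
  rw [h4] at h5
  exact vertexZ_ne_bot hc δ (le_bot_iff.1 h5)

/-- S2857 core. -/
theorem s2857 (h : IsSpeAmalgamPair p M₁ M₂) (δ : CosetVertex M₁ M₂) (n : ℕ) (hn : 2 ≤ n)
    (hVQ : vertexVIter p M₁ M₂ n δ ≤ vertexQ p δ) :
    ¬ ⁅vertexVIter p M₁ M₂ n δ,
      (pResidual p ↥(pElementClosure p (MulAction.stabilizer X δ))).map
        (pElementClosure p (MulAction.stabilizer X δ)).subtype⁆ ≤ vertexVIter p M₁ M₂ (n - 2) δ := by
  obtain ⟨k, rfl⟩ : ∃ k, n = k + 2 := ⟨n - 2, by omega⟩
  have e : k + 2 - 2 = k := by omega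
  rw [e]
  intro hcomm
  have hc := h.1
  have hconn := graph_connected hc
  obtain ⟨μ, hadj⟩ := exists_adj δ
  have hUV : vertexVIter p M₁ M₂ (k + 1) μ ≤ vertexVIter p M₁ M₂ (k + 1 + 1) δ :=
    vIter_le_of_adj hconn hadj (k + 1)
  have h0 : vertexVIter p M₁ M₂ k δ ≤ vertexVIter p M₁ M₂ (k + 1) μ :=
    vIter_le_of_adj hconn hadj.symm k
  have hR : (pResidual p ↥(pElementClosure p (MulAction.stabilizer X δ))).map
        (pElementClosure p (MulAction.stabilizer X δ)).subtype ≤
      Subgroup.normalizer ((vertexVIter p M₁ M₂ (k + 1) μ : Subgroup X) : Set X) := by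
    apply le_normalizer_of_commutator_le
    refine (Subgroup.commutator_mono le_rfl hUV).trans ?_
    rw [Subgroup.commutator_comm]
    exact hcomm.trans h0
  have hE : MulAction.stabilizer X δ ⊓ MulAction.stabilizer X μ ≤
      Subgroup.normalizer ((vertexVIter p M₁ M₂ (k + 1) μ : Subgroup X) : Set X) :=
    inf_le_right.trans (stab_le_normalizer_vIter hc (k + 1) μ)
  have hle := vIter_succ_le_of_normalizer h hadj (k + 1) _ le_rfl hR hE
  exact false_of_vIter_le hc hadj (k + 1) hVQ hle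

/-- S2856 core. -/
theorem s2856 (h : IsSpeAmalgamPair p M₁ M₂) (δ : CosetVertex M₁ M₂) (n : ℕ) (hn : 1 ≤ n)
    (hVQ : vertexVIter p M₁ M₂ n δ ≤ vertexQ p δ) :
    ¬ ⁅vertexVIter p M₁ M₂ n δ,
      (pResidual p ↥(pElementClosure p (MulAction.stabilizer X δ))).map
        (pElementClosure p (MulAction.stabilizer X δ)).subtype⁆ ≤
        ⁅vertexVIter p M₁ M₂ n δ, vertexQ p δ⁆ := by
  obtain ⟨k, rfl⟩ : ∃ k, n = k + 1 := ⟨n - 1, by omega⟩
  intro hcomm
  have hc := h.1
  have hconn := graph_connected hc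
  obtain ⟨μ, hadj⟩ := exists_adj δ
  have he := edgeHyp_of_adj hc hadj
  haveI := he.finA
  set V := vertexVIter p M₁ M₂ (k + 1) δ with hV
  set U := vertexVIter p M₁ M₂ k μ with hU
  set Q := vertexQ p δ with hQ
  have hUV : U ≤ V := vIter_le_of_adj hconn hadj k
  have hQA : Q ≤ MulAction.stabilizer X δ := pCoreIn_le p _
  have hQB : Q ≤ MulAction.stabilizer X μ := he.pCoreIn_le
  have hQV : Q ≤ Subgroup.normalizer (V : Set X) := hQA.trans (stab_le_normalizer_vIter hc (k + 1) δ)
  have hQU : Q ≤ Subgroup.normalizer (U : Set X) := hQB.trans (stab_le_normalizer_vIter hc k μ)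
  have hcV : ⁅V, Q⁆ ≤ V := commutator_le_of_le_normalizer hQV
  set W := U ⊔ ⁅V, Q⁆ with hW
  have hWV : W ≤ V := sup_le hUV hcV
  have hR : (pResidual p ↥(pElementClosure p (MulAction.stabilizer X δ))).map
        (pElementClosure p (MulAction.stabilizer X δ)).subtype ≤
      Subgroup.normalizer (W : Set X) := by
    apply le_normalizer_of_commutator_le
    refine (Subgroup.commutator_mono le_rfl hWV).trans ?_
    rw [Subgroup.commutator_comm]
    exact hcomm.trans le_sup_right
  have hE : MulAction.stabilizer X δ ⊓ MulAction.stabilizer X μ ≤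
      Subgroup.normalizer (W : Set X) := by
    intro g hg
    rw [Subgroup.mem_normalizer_iff_map_conj_eq]
    have h1 : U.map (cj g) = U :=
      Subgroup.mem_normalizer_iff_map_conj_eq.1 (stab_le_normalizer_vIter hc k μ hg.2)
    have h2 : V.map (cj g) = V :=
      Subgroup.mem_normalizer_iff_map_conj_eq.1 (stab_le_normalizer_vIter hc (k + 1) δ hg.1)
    have h3 : Q.map (cj g) = Q :=
      Subgroup.mem_normalizer_iff_map_conj_eq.1 (le_normalizer_pCoreIn p _ hg.1)
    show (U ⊔ ⁅V, Q⁆).map (cj g) = U ⊔ ⁅V, Q⁆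
    rw [Subgroup.map_sup, Subgroup.map_commutator, h1, h2, h3]
  have hVW : V ≤ W := vIter_succ_le_of_normalizer h hadj k W le_sup_left hR hE
  have hQfin : Finite Q := Finite.of_injective (Subgroup.inclusion hQA) (Subgroup.inclusion_injective _)
  have hQp : IsPGroup p Q := pCoreIn_isPGroup p _
  have hle : V ≤ U := le_of_le_sup_commutator hQp (hUV.trans hVQ) hVQ hQU hVW
  exact false_of_vIter_le hc hadj k hVQ hle

end main

end Cfsg.Agent.Lib.Helper1.AmV
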