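import Mathlib
import Cfsg.Prelude.Def_ChevAutomorphisms
import Cfsg.Agent.Lib.Helper5.ChevXGL

set_option autoImplicit false

/-!
Shared definitions for the automorphism theorem of the Chevalley groups (S2156 / S2159 farm).
-/

namespace Cfsg.Agent.Lib.Helper1.ChevAut

open Cfsg Cfsg.Lie Cfsg.Agent.Lib.Helper5.ChevStruct

variable {F : Type*} [Field F]

/-- the root element `x_r(t)` as an element of the Chevalley group -/
def xG (D : ChevalleyDatum) (hD : D ∈ Seven) (r : ℕ) (t : F) : ↥(D.group F) :=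
  ⟨xGL D hD r t, xGL_mem_group D hD r t⟩

@[simp] theorem xG_coe (D : ChevalleyDatum) (hD : D ∈ Seven) (r : ℕ) (t : F) :
    ((xG D hD r t : ↥(D.group F)) : GL D.Idx F) = xGL D hD r t := rfl

theorem xG_val (D : ChevalleyDatum) (hD : D ∈ Seven) (r : ℕ) (t : F) :
    (((xG D hD r t : ↥(D.group F)) : GL D.Idx F) : Matrix D.Idx D.Idx F) = D.x F r t := rfl

/-- an element of the group whose matrix is `x_r(t)` is `xG r t` -/
theorem eq_xG_of_val (D : ChevalleyDatum) (hD : D ∈ Seven) (r : ℕ) (t : F) (g : ↥(D.group F))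
    (hg : ((g : GL D.Idx F) : Matrix D.Idx D.Idx F) = D.x F r t) : g = xG D hD r t :=
  Subtype.ext (Units.ext hg)

/-- the automorphism `θ` maps (the trace on the group of) `K₁` onto (that of) `K₂` -/
def Maps (D : ChevalleyDatum) (θ : ↥(D.group F) ≃* ↥(D.group F))
    (K₁ K₂ : Subgroup (GL D.Idx F)) : Prop :=
  ∀ g : ↥(D.group F), ((θ g : GL D.Idx F) ∈ K₂ ↔ (g : GL D.Idx F) ∈ K₁)

theorem Maps.trans {D : ChevalleyDatum} {θ θ' : ↥(D.group F) ≃* ↥(D.group F)}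
    {K₁ K₂ K₃ : Subgroup (GL D.Idx F)} (h : Maps D θ K₁ K₂) (h' : Maps D θ' K₂ K₃) :
    Maps D (θ.trans θ') K₁ K₃ := fun g => by
  rw [MulEquiv.trans_apply, h' (θ g), h g]

theorem Maps.symm {D : ChevalleyDatum} {θ : ↥(D.group F) ≃* ↥(D.group F)}
    {K₁ K₂ : Subgroup (GL D.Idx F)} (h : Maps D θ K₁ K₂) : Maps D θ.symm K₂ K₁ := fun g => by
  rw [← h (θ.symm g), MulEquiv.apply_symm_apply]

theorem Maps.inf {D : ChevalleyDatum} {θ : ↥(D.group F) ≃* ↥(D.group F)}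
    {K₁ K₂ L₁ L₂ : Subgroup (GL D.Idx F)} (h : Maps D θ K₁ K₂) (h' : Maps D θ L₁ L₂) :
    Maps D θ (K₁ ⊓ L₁) (K₂ ⊓ L₂) := fun g => by
  rw [Subgroup.mem_inf, Subgroup.mem_inf, h g, h' g]

theorem Maps.congr {D : ChevalleyDatum} {θ : ↥(D.group F) ≃* ↥(D.group F)}
    {K₁ K₂ K₁' K₂' : Subgroup (GL D.Idx F)} (h : Maps D θ K₁ K₂)
    (h1 : ∀ g ∈ D.group F, (g ∈ K₁ ↔ g ∈ K₁')) (h2 : ∀ g ∈ D.group F, (g ∈ K₂ ↔ g ∈ K₂')) :
    Maps D θ K₁' K₂' := fun g => by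
  rw [← h1 _ g.2, ← h2 _ (θ g).2, h g]

/-- conjugation by `x ∈ G` maps `K` onto `x K x⁻¹` -/
theorem maps_conj (D : ChevalleyDatum) (x : ↥(D.group F)) (K : Subgroup (GL D.Idx F)) :
    Maps D (MulAut.conj x) K (K.map (MulAut.conj (x : GL D.Idx F)).toMonoidHom) := fun g => by
  rw [Subgroup.mem_map]
  constructor
  · rintro ⟨k, hk, hkg⟩
    have : (g : GL D.Idx F) = k := by
      have h1 : ((MulAut.conj x g : ↥(D.group F)) : GL D.Idx F)
          = (x : GL D.Idx F) * g * (x : GL D.Idx F)⁻¹ := by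
        simp [MulAut.conj_apply]
      rw [h1] at hkg
      simp only [MulEquiv.coe_toMonoidHom, MulAut.conj_apply] at hkg
      exact (mul_left_cancel (mul_right_cancel hkg)).symm
    rw [this]; exact hk
  · intro hg
    refine ⟨g, hg, ?_⟩
    simp [MulAut.conj_apply]

end Cfsg.Agent.Lib.Helper1.ChevAut
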