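import Mathlib
import Cfsg.Agent.Lib.Helper1.AutDefs
import Cfsg.Agent.Lib.Helper5.ChevSylow

set_option autoImplicit false

/-!
Unit A1 of the S2156 farm: an inner twist of an automorphism preserves `U`.
-/

namespace Cfsg.Agent.Lib.Helper1.ChevAut

open Cfsg Cfsg.Lie Cfsg.Agent.Lib.Helper5.ChevStruct
open scoped Pointwise

variable {F : Type*} [Field F]

/-- **A1** Sylow: some inner twist of `θ` preserves `U`. -/
theorem exists_conj_maps_pos [Finite F] (D : ChevalleyDatum) (hD : D ∈ Seven)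
    (θ : ↥(D.group F) ≃* ↥(D.group F)) :
    ∃ x : ↥(D.group F), Maps D (θ.trans (MulAut.conj x)) (D.posUnipotent F) (D.posUnipotent F) := by
  classical
  have := Fintype.ofFinite F
  obtain ⟨p, hp⟩ := CharP.exists F
  have := hp
  have hprime : p.Prime :=
    (CharP.char_is_prime_or_zero F p).resolve_right (CharP.char_ne_zero_of_finite F p)
  have : Fact p.Prime := ⟨hprime⟩
  obtain ⟨P, hP⟩ := pos_isSylow (F := F) p D hD
  have : Finite ↥(D.group F) := inferInstance
  let θ' : MulAut ↥(D.group F) := θ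
  obtain ⟨x, hx⟩ := MulAction.exists_smul_eq ↥(D.group F) (θ' • P) P
  refine ⟨x, fun g => ?_⟩
  have hmemP : ∀ y : ↥(D.group F), (y : GL D.Idx F) ∈ D.posUnipotent F ↔
      y ∈ (P : Subgroup ↥(D.group F)) := by
    intro y
    rw [hP, Subgroup.mem_subgroupOf]
  rw [hmemP, hmemP]
  have hx' : (P : Subgroup ↥(D.group F))
      = MulAut.conj x • (θ' • (P : Subgroup ↥(D.group F))) := by
    have := congrArg (fun Q : Sylow p ↥(D.group F) => (Q : Subgroup ↥(D.group F))) hx
    exact this.symm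
  conv_lhs => rw [hx']
  rw [Subgroup.mem_pointwise_smul_iff_inv_smul_mem]
  have h2 : (MulAut.conj x)⁻¹ • (θ.trans (MulAut.conj x)) g = θ g := by
    simp [MulAut.smul_def, MulAut.conj_apply, mul_assoc]
  rw [h2, Subgroup.mem_pointwise_smul_iff_inv_smul_mem]
  have h3 : θ'⁻¹ • θ g = g := by
    show θ'⁻¹ (θ' g) = g
    simp
  rw [h3]

end Cfsg.Agent.Lib.Helper1.ChevAut
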