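import Mathlib
import Cfsg.Agent.Lib.Helper5.ChevBnB
import Cfsg.Agent.Lib.Helper5.ChevBruhat
import Cfsg.Agent.Lib.Helper5.ChevDiag
import Cfsg.Agent.Lib.Helper5.ChevXInj

set_option autoImplicit false

/-!
Unit B2 of the S2156 farm: `P_i ∩ V = X_{-p_i}`.
-/

namespace Cfsg.Agent.Lib.Helper1.ChevAut

open Cfsg Cfsg.Lie Cfsg.Agent.Lib.Helper5.ChevStruct Cfsg.Agent.Lib.Helper5.ChevSym

variable {F : Type*} [Field F]

/-- `t ↦ x_a(t)` is injective (copy of `Helper5.StPres.x_param_inj`, light imports) -/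
theorem h1_x_param_inj (D : ChevalleyDatum) (hD : D ∈ Seven) (a : ℕ) (ha : a < D.nroots) (t u : F)
    (h : D.x F a t = D.x F a u) : t = u := by
  obtain ⟨-, hna, hnea, -⟩ := checkCoPrim_spec D (chkCoPrim_all D hD) a ha
  obtain ⟨i, hi, hci⟩ := exists_coroot_ne_zero (F := F) D hD a ha
  unfold ChevalleyDatum.x at h
  rw [dif_pos ha, dif_pos ha] at h
  have h1 := xMat_inl_neg D ⟨a, ha⟩ ⟨D.neg a, hna⟩ rfl
    (fun e => hnea (congrArg Fin.val e)) t ⟨i, hi⟩
  have h2 := xMat_inl_neg D ⟨a, ha⟩ ⟨D.neg a, hna⟩ rfl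
    (fun e => hnea (congrArg Fin.val e)) u ⟨i, hi⟩
  rw [h, h2] at h1
  exact (mul_left_cancel₀ hci h1).symm

theorem xGL_one_ne_one (D : ChevalleyDatum) (hD : D ∈ Seven) (a : ℕ) (ha : a < D.nroots) :
    (xGL D hD a (1 : F) : GL D.Idx F) ≠ 1 := by
  intro h
  have h1 : D.x F a 1 = D.x F a 0 := by
    rw [x_at_zero, ← xGL_val D hD a 1, h]
    rfl
  exact one_ne_zero (h1_x_param_inj D hD a ha 1 0 h1)

/-- `x_{-p}(t) = x_p(t⁻¹) h n_p x_p(t⁻¹)` for `t ≠ 0` -/
theorem xGL_neg_eq (D : ChevalleyDatum) (hD : D ∈ Seven) (i : ℕ) (hi : i < D.rank) (t : F)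
    (ht : t ≠ 0) :
    ∃ hh ∈ D.diagonalSubgroup F, xGL D hD (D.neg (D.simple i)) t
      = xGL D hD (D.simple i) t⁻¹ * hh * nGL D hD i * xGL D hD (D.simple i) t⁻¹ := by
  have hr : D.simple i < D.nroots := (checkRows_spec D (checkRows_all D hD) i hi).2.1
  have hs : -t⁻¹ ≠ 0 := by simpa using ht
  set hh : GL D.Idx F := wordGL D hD (D.hWord (D.simple i) (-t⁻¹)) with hhdef
  have hhval : (hh : Matrix D.Idx D.Idx F) = D.hMat F (D.simple i) (-t⁻¹) := by
    rw [hhdef, wordGL_val]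
    rfl
  have hhmem : hh ∈ D.diagonalSubgroup F := mem_diagonal_of_val D hh _ hr _ hs hhval
  refine ⟨hh, hhmem, ?_⟩
  apply Units.ext
  rw [Units.val_mul, Units.val_mul, Units.val_mul, xGL_val, xGL_val, hhval, nGL_val,
    mul_assoc (D.x F (D.simple i) t⁻¹), ← nMat_eq_hMat_mul D hD, nMat_eq]
  have hst : -(-t⁻¹)⁻¹ = t := by rw [inv_neg, inv_inv, neg_neg]
  rw [hst]
  have e1 := x_mul_neg D hD (D.simple i) t⁻¹
  have e2 := x_neg_mul D hD (D.simple i) t⁻¹
  calc D.x F (D.neg (D.simple i)) t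
      = (D.x F (D.simple i) t⁻¹ * D.x F (D.simple i) (-t⁻¹)) * D.x F (D.neg (D.simple i)) t *
          (D.x F (D.simple i) (-t⁻¹) * D.x F (D.simple i) t⁻¹) := by
        rw [e1, e2, one_mul, mul_one]
    _ = _ := by simp only [mul_assoc]

theorem rootSubgroup_eq_rootSetSub (D : ChevalleyDatum) (r : ℕ) :
    D.rootSubgroup F r = rootSetSub D F {r} := by
  unfold ChevalleyDatum.rootSubgroup rootSetSub
  congr 1
  ext g
  constructor
  · rintro ⟨t, ht⟩
    exact ⟨r, t, rfl, ht⟩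
  · rintro ⟨s, t, hs, ht⟩
    rw [Set.mem_singleton_iff] at hs
    subst hs
    exact ⟨t, ht⟩

theorem negUnipotent_eq_rootSetSub (D : ChevalleyDatum) :
    D.negUnipotent F = rootSetSub D F {r | D.IsNegRoot r} := rfl

/-- `H` normalises the root subgroups -/
theorem diag_conj_mem_rootSubgroup (D : ChevalleyDatum) (hD : D ∈ Seven) (r : ℕ)
    (h : GL D.Idx F) (hh : h ∈ D.diagonalSubgroup F) (g : GL D.Idx F)
    (hg : g ∈ D.rootSubgroup F r) : h * g * h⁻¹ ∈ D.rootSubgroup F r := by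
  rw [rootSubgroup_eq_rootSetSub] at hg ⊢
  exact diag_conj_mem_rootSetSub D hD _ h hh g hg

/-- `H` normalises `V` -/
theorem diag_conj_mem_neg (D : ChevalleyDatum) (hD : D ∈ Seven)
    (h : GL D.Idx F) (hh : h ∈ D.diagonalSubgroup F) (g : GL D.Idx F)
    (hg : g ∈ D.negUnipotent F) : h * g * h⁻¹ ∈ D.negUnipotent F := by
  rw [negUnipotent_eq_rootSetSub] at hg ⊢
  exact diag_conj_mem_rootSetSub D hD _ h hh g hg

/-- **B2** `P_i ∩ V = X_{-p_i}`. -/
theorem parabolic_inf_neg (D : ChevalleyDatum) (hD : D ∈ Seven) (i : ℕ) (hi : i < D.rank)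
    (g : GL D.Idx F) (hg : g ∈ D.parabolicSubgroup F {i}) (hV : g ∈ D.negUnipotent F) :
    g ∈ D.rootSubgroup F (D.neg (D.simple i)) := by
  have hr : D.simple i < D.nroots := (checkRows_spec D (checkRows_all D hD) i hi).2.1
  obtain ⟨hp, -, hnn, hnlt, -⟩ := checkUp_spec D i (chkUp_all D hD i hi)
  have hnegroot : D.IsNegRoot (D.neg (D.simple i)) := by
    rcases checkPara_root D (chkPara_all D hD) _ hnlt with h | h
    · exact absurd h (checkUp_spec D i (chkUp_all D hD i hi)).2.1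
    · exact h.1
  have hBV : ∀ y : GL D.Idx F, y ∈ D.borelSubgroup F → y ∈ D.negUnipotent F → y = 1 := by
    intro y h1 h2
    have : y ∈ D.borelSubgroup F ⊓ D.negUnipotent F := ⟨h1, h2⟩
    rw [borel_inf_neg D hD] at this
    exact this
  have hXV : D.rootSubgroup F (D.neg (D.simple i)) ≤ D.negUnipotent F := by
    unfold ChevalleyDatum.rootSubgroup ChevalleyDatum.negUnipotent
    apply Subgroup.closure_mono
    rintro y ⟨t, ht⟩
    exact ⟨_, t, hnegroot, ht⟩
  -- step 1 : `P_i ⊆ B ∪ B n_i B`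
  obtain ⟨P, hP⟩ := borel_union_bnb (F := F) D hD i hi
  have hPi : D.parabolicSubgroup F {i} ≤ P := by
    unfold ChevalleyDatum.parabolicSubgroup
    apply sup_le
    · intro b hb
      rw [← SetLike.mem_coe, hP]
      exact Or.inl hb
    · rw [Subgroup.closure_le]
      rintro x ⟨j, hj, -, hx⟩
      rw [Set.mem_singleton_iff] at hj
      subst hj
      have hxn : x = nGL D hD j := Units.ext (by rw [hx, nGL_val])
      rw [hP]
      right
      rw [hxn, DoubleCoset.mem_doubleCoset]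
      exact ⟨1, one_mem _, 1, one_mem _, by simp⟩
  have hgP : g ∈ (P : Set (GL D.Idx F)) := hPi hg
  rw [hP] at hgP
  rcases hgP with hgB | hgN
  · rw [hBV g hgB hV]
    exact one_mem _
  · rw [DoubleCoset.mem_doubleCoset] at hgN
    obtain ⟨b, hb, b', hb', hgeq⟩ := hgN
    obtain ⟨u', hu', t, h, hh, hb'eq⟩ := borel_decomp D hD i hi b' hb'
    set n : GL D.Idx F := nGL D hD i with hn
    have hc : n * u' * n⁻¹ ∈ D.borelSubgroup F :=
      pos_le_borel D (upSub_le_pos D _ (nGL_conj_upSub D hD i hi u' hu').1)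
    by_cases ht : t = 0
    · -- `g = b₁ n h`; impossible
      exfalso
      have hx0 : xGL D hD (D.simple i) t = 1 := by
        apply Units.ext
        rw [xGL_val, ht, x_at_zero]
        rfl
      set y₁ : GL D.Idx F := xGL D hD (D.neg (D.simple i)) 1 with hy₁
      have hy₁X : y₁ ∈ D.rootSubgroup F (D.neg (D.simple i)) :=
        Subgroup.subset_closure ⟨1, xGL_val D hD _ _⟩
      set y₂ : GL D.Idx F := h⁻¹ * y₁ * h with hy₂
      have hy₂X : y₂ ∈ D.rootSubgroup F (D.neg (D.simple i)) := by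
        have := diag_conj_mem_rootSubgroup D hD _ h⁻¹ (inv_mem hh) y₁ hy₁X
        rwa [inv_inv] at this
      have hz : n * y₁ * n⁻¹ ∈ D.borelSubgroup F := by
        have hval := nGL_conj D hD i hi _ hnlt (1 : F) y₁ (xGL_val D hD _ _)
        rw [reflectRoot_neg D hD i hi _ hr, reflectRoot_simple, hnn] at hval
        have : n * y₁ * n⁻¹ = xGL D hD (D.simple i) ((eta D i (D.neg (D.simple i)) : F) * 1) :=
          Units.ext hval
        rw [this]
        exact pos_le_borel D (xGL_mem_pos D hD _ hp _)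
      have hconj : g * y₂ * g⁻¹ = (b * (n * u' * n⁻¹)) * (n * y₁ * n⁻¹) * (b * (n * u' * n⁻¹))⁻¹ := by
        rw [hgeq, hb'eq, hx0, hy₂]
        group
      have h1 : g * y₂ * g⁻¹ ∈ D.borelSubgroup F := by
        rw [hconj]
        exact mul_mem (mul_mem (mul_mem hb hc) hz) (inv_mem (mul_mem hb hc))
      have h2 : g * y₂ * g⁻¹ ∈ D.negUnipotent F :=
        mul_mem (mul_mem hV (hXV hy₂X)) (inv_mem hV)
      have h3 := hBV _ h1 h2
      have h4 : y₂ = 1 := by
        have : y₂ = g⁻¹ * (g * y₂ * g⁻¹) * g := by group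
        rw [this, h3]
        group
      have h5 : y₁ = 1 := by
        have : y₁ = h * y₂ * h⁻¹ := by rw [hy₂]; group
        rw [this, h4]
        group
      exact xGL_one_ne_one D hD _ hnlt h5
    · -- `t ≠ 0`
      obtain ⟨hh', hhh', hxeq⟩ := xGL_neg_eq D hD i hi t⁻¹ (inv_ne_zero ht)
      rw [inv_inv] at hxeq
      set y : GL D.Idx F := xGL D hD (D.neg (D.simple i)) t⁻¹ with hy
      have hyX : y ∈ D.rootSubgroup F (D.neg (D.simple i)) :=
        Subgroup.subset_closure ⟨t⁻¹, xGL_val D hD _ _⟩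
      set y' : GL D.Idx F := h⁻¹ * y * h with hy'
      have hy'X : y' ∈ D.rootSubgroup F (D.neg (D.simple i)) := by
        have := diag_conj_mem_rootSubgroup D hD _ h⁻¹ (inv_mem hh) y hyX
        rwa [inv_inv] at this
      -- `n x_p(t) = hh'⁻¹ x_p(t)⁻¹ y`
      have hnx : n * xGL D hD (D.simple i) t = hh'⁻¹ * (xGL D hD (D.simple i) t)⁻¹ * y := by
        rw [hxeq, hn]
        group
      have hxB : xGL D hD (D.simple i) t ∈ D.borelSubgroup F :=
        pos_le_borel D (xGL_mem_pos D hD _ hp _)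
      set b₃ : GL D.Idx F := b * (n * u' * n⁻¹) * hh'⁻¹ * (xGL D hD (D.simple i) t)⁻¹ * h with hb₃
      have hb₃B : b₃ ∈ D.borelSubgroup F :=
        mul_mem (mul_mem (mul_mem (mul_mem hb hc) (inv_mem (diagonal_le_borel D hhh')))
          (inv_mem hxB)) (diagonal_le_borel D hh)
      have hg3 : g = b₃ * y' := by
        rw [hgeq, hb'eq, hb₃, hy']
        have : b * n * (u' * xGL D hD (D.simple i) t * h)
            = b * (n * u' * n⁻¹) * (n * xGL D hD (D.simple i) t) * h := by group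
        rw [this, hnx]
        group
      have h1 : g * y'⁻¹ ∈ D.borelSubgroup F := by
        rw [hg3, mul_inv_cancel_right]
        exact hb₃B
      have h2 : g * y'⁻¹ ∈ D.negUnipotent F := mul_mem hV (inv_mem (hXV hy'X))
      have h3 := hBV _ h1 h2
      have : g = y' := by
        have : g = (g * y'⁻¹) * y' := by group
        rw [this, h3, one_mul]
      rw [this]
      exact hy'X

end Cfsg.Agent.Lib.Helper1.ChevAut
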