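import Mathlib
import Cfsg.Agent.Lib.Helper1.AutDefs
import Cfsg.Agent.Lib.Helper5.ChevTwistCore
import Cfsg.Agent.Lib.Helper5.ChevChk.W0All
import Cfsg.Agent.Lib.Helper5.ChevDiag
import Cfsg.Agent.Lib.Helper5.ChevPara
import Cfsg.Agent.Lib.Helper5.ChevBNPair

set_option autoImplicit false

/-!
Glue units A4 and B3 of the S2156 farm (stated with the other units as hypotheses).
-/

namespace Cfsg.Agent.Lib.Helper1.ChevAut

open Cfsg Cfsg.Lie Cfsg.Agent.Lib.Helper5.ChevStruct Cfsg.Agent.Lib.Helper5.ChevSym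

variable {F : Type*} [Field F]

/-- `θ` maps `a K₁ a⁻¹` onto `θ(a) K₂ θ(a)⁻¹` -/
theorem Maps.conj {D : ChevalleyDatum} {θ : ↥(D.group F) ≃* ↥(D.group F)}
    {K₁ K₂ : Subgroup (GL D.Idx F)} (h : Maps D θ K₁ K₂) (a : ↥(D.group F)) :
    Maps D θ (K₁.map (MulAut.conj (a : GL D.Idx F)).toMonoidHom)
      (K₂.map (MulAut.conj ((θ a : ↥(D.group F)) : GL D.Idx F)).toMonoidHom) := fun g => by
  have key : ∀ (K : Subgroup (GL D.Idx F)) (b y : GL D.Idx F),
      y ∈ K.map (MulAut.conj b).toMonoidHom ↔ b⁻¹ * y * b ∈ K := by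
    intro K b y
    rw [Subgroup.mem_map]
    constructor
    · rintro ⟨k, hk, rfl⟩
      simp only [MulEquiv.coe_toMonoidHom, MulAut.conj_apply]
      have : b⁻¹ * (b * k * b⁻¹) * b = k := by group
      rw [this]; exact hk
    · intro hy
      refine ⟨b⁻¹ * y * b, hy, ?_⟩
      simp only [MulEquiv.coe_toMonoidHom, MulAut.conj_apply]
      group
  rw [key, key]
  have h1 := h (a⁻¹ * g * a)
  have e : ((θ (a⁻¹ * g * a) : ↥(D.group F)) : GL D.Idx F)
      = ((θ a : ↥(D.group F)) : GL D.Idx F)⁻¹ * (θ g : ↥(D.group F)) * (θ a : ↥(D.group F)) := by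
    rw [map_mul, map_mul, map_inv]
    rfl
  rw [e] at h1
  exact h1

/-- `(K.map (conj b)).map (conj a) = K.map (conj (a * b))` -/
theorem map_conj_conj {G : Type*} [Group G] (K : Subgroup G) (a b : G) :
    (K.map (MulAut.conj b).toMonoidHom).map (MulAut.conj a).toMonoidHom
      = K.map (MulAut.conj (a * b)).toMonoidHom := by
  rw [Subgroup.map_map]
  congr 1
  ext y
  simp [MulAut.conj_apply, mul_assoc]

/-- conjugation by an element of the normaliser -/
theorem map_conj_of_mem_normalizer {G : Type*} [Group G] (K : Subgroup G) (a : G)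
    (ha : a ∈ Subgroup.normalizer (K : Set G)) : K.map (MulAut.conj a).toMonoidHom = K := by
  ext y
  rw [Subgroup.mem_map]
  constructor
  · rintro ⟨k, hk, rfl⟩
    simp only [MulEquiv.coe_toMonoidHom, MulAut.conj_apply]
    exact (ha k).1 hk
  · intro hy
    refine ⟨a⁻¹ * y * a, ?_, ?_⟩
    · have := (Subgroup.inv_mem _ ha (y)).1 hy
      simpa using this
    · simp only [MulEquiv.coe_toMonoidHom, MulAut.conj_apply]
      group

theorem trans_conj_mul {G : Type*} [Group G] (θ : G ≃* G) (a b : G) :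
    θ.trans (MulAut.conj (a * b)) = (θ.trans (MulAut.conj b)).trans (MulAut.conj a) := by
  ext y
  simp [MulAut.conj_apply, mul_assoc]

/-- `B` normalises `U` -/
theorem borel_le_normalizer_pos' (D : ChevalleyDatum) (hD : D ∈ Seven) :
    D.borelSubgroup F ≤ Subgroup.normalizer (D.posUnipotent F : Set (GL D.Idx F)) := by
  unfold ChevalleyDatum.borelSubgroup
  exact sup_le Subgroup.le_normalizer (diagonal_le_normalizer_pos D hD)

/-- **A4** (glue) some inner twist of `θ` preserves both `U` and `V`. -/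
theorem exists_conj_maps_pos_neg_of (D : ChevalleyDatum) (hD : D ∈ Seven)
    (θ : ↥(D.group F) ≃* ↥(D.group F))
    (hA1 : ∃ x : ↥(D.group F),
      Maps D (θ.trans (MulAut.conj x)) (D.posUnipotent F) (D.posUnipotent F))
    (hA3 : ∀ (w : List ℕ), checkW0 D w = true → ∀ (g : GL D.Idx F), g ∈ D.group F →
      (∀ u ∈ D.posUnipotent F, g * u * g⁻¹ ∈ D.posUnipotent F → u = 1) →
      ∃ u ∈ D.posUnipotent F, ∃ b ∈ D.borelSubgroup F, g = u * wGL D hD w * b) :
    ∃ x : ↥(D.group F),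
      Maps D (θ.trans (MulAut.conj x)) (D.posUnipotent F) (D.posUnipotent F) ∧
      Maps D (θ.trans (MulAut.conj x)) (D.negUnipotent F) (D.negUnipotent F) := by
  obtain ⟨x₁, h₁⟩ := hA1
  obtain ⟨w, hw⟩ := exists_w0 D hD
  obtain ⟨hwd, hV⟩ := conj_pos_eq_neg' (K := F) D hD w hw
  have hn₀N : (wGL D hD w : GL D.Idx F) ∈ D.monomialSubgroup F := wGL_mem D hD w hwd
  have hn₀G : (wGL D hD w : GL D.Idx F) ∈ D.group F := monomial_le_group D hD hn₀N
  set n₀ : ↥(D.group F) := ⟨wGL D hD w, hn₀G⟩ with hn₀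
  set θ₁ := θ.trans (MulAut.conj x₁) with hθ₁
  have hUG : D.posUnipotent F ≤ D.group F := le_trans (pos_le_borel D) (borel_le_group D hD)
  -- `θ₁` maps `V` onto `g U g⁻¹`
  have h₂ : Maps D θ₁ (D.negUnipotent F)
      ((D.posUnipotent F).map (MulAut.conj ((θ₁ n₀ : ↥(D.group F)) : GL D.Idx F)).toMonoidHom) := by
    have := h₁.conj n₀
    rw [show ((n₀ : ↥(D.group F)) : GL D.Idx F) = wGL D hD w from rfl, hV] at this
    exact this
  -- the disjointness hypothesis
  have hdisj : ∀ u ∈ D.posUnipotent F,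
      ((θ₁ n₀ : ↥(D.group F)) : GL D.Idx F) * u * ((θ₁ n₀ : ↥(D.group F)) : GL D.Idx F)⁻¹
        ∈ D.posUnipotent F → u = 1 := by
    intro u hu hgu
    -- `g u g⁻¹ ∈ g U g⁻¹`, so it is `θ₁ v` with `v ∈ V`; it is in `U` so `v ∈ U`
    set y : ↥(D.group F) := ⟨_, hUG hgu⟩ with hy
    have hyV : ((θ₁ (θ₁.symm y) : ↥(D.group F)) : GL D.Idx F) ∈
        (D.posUnipotent F).map
          (MulAut.conj ((θ₁ n₀ : ↥(D.group F)) : GL D.Idx F)).toMonoidHom := by
      rw [MulEquiv.apply_symm_apply]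
      exact ⟨u, hu, by simp [hy, MulAut.conj_apply]⟩
    have hv : ((θ₁.symm y : ↥(D.group F)) : GL D.Idx F) ∈ D.negUnipotent F := (h₂ _).1 hyV
    have hvU : ((θ₁.symm y : ↥(D.group F)) : GL D.Idx F) ∈ D.posUnipotent F := by
      rw [← h₁ (θ₁.symm y), MulEquiv.apply_symm_apply]
      exact hgu
    have h1 : ((θ₁.symm y : ↥(D.group F)) : GL D.Idx F) = 1 := by
      have : ((θ₁.symm y : ↥(D.group F)) : GL D.Idx F)
          ∈ D.borelSubgroup F ⊓ D.negUnipotent F := ⟨pos_le_borel D hvU, hv⟩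
      rw [borel_inf_neg D hD] at this
      exact this
    have h2 : θ₁.symm y = 1 := Subtype.ext h1
    have h3 : y = 1 := by
      have := congrArg θ₁ h2
      rwa [MulEquiv.apply_symm_apply, map_one] at this
    have h4 : ((θ₁ n₀ : ↥(D.group F)) : GL D.Idx F) * u
        * ((θ₁ n₀ : ↥(D.group F)) : GL D.Idx F)⁻¹ = 1 := congrArg Subtype.val h3
    have : u = ((θ₁ n₀ : ↥(D.group F)) : GL D.Idx F)⁻¹ * 1
        * ((θ₁ n₀ : ↥(D.group F)) : GL D.Idx F) := by
      rw [← h4]; group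
    rw [this]; group
  obtain ⟨u₀, hu₀, b, hb, hg⟩ := hA3 w hw _ (θ₁ n₀).2 hdisj
  set u₀G : ↥(D.group F) := ⟨u₀, hUG hu₀⟩ with hu₀G
  -- `g U g⁻¹ = u₀ V u₀⁻¹`
  have hgU : (D.posUnipotent F).map
      (MulAut.conj ((θ₁ n₀ : ↥(D.group F)) : GL D.Idx F)).toMonoidHom
      = (D.negUnipotent F).map (MulAut.conj u₀).toMonoidHom := by
    rw [hg, ← map_conj_conj, ← map_conj_conj,
      map_conj_of_mem_normalizer _ b (borel_le_normalizer_pos' D hD hb), hV]
  rw [hgU] at h₂
  refine ⟨u₀G⁻¹ * x₁, ?_, ?_⟩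
  · rw [trans_conj_mul]
    have := h₁.trans (maps_conj D u₀G⁻¹ (D.posUnipotent F))
    have e : (D.posUnipotent F).map
        (MulAut.conj ((u₀G⁻¹ : ↥(D.group F)) : GL D.Idx F)).toMonoidHom = D.posUnipotent F :=
      map_conj_of_mem_normalizer _ _
        (Subgroup.le_normalizer (Subgroup.inv_mem _ hu₀))
    rw [e] at this
    exact this
  · rw [trans_conj_mul]
    have := h₂.trans (maps_conj D u₀G⁻¹ ((D.negUnipotent F).map (MulAut.conj u₀).toMonoidHom))
    have e : ((D.negUnipotent F).map (MulAut.conj u₀).toMonoidHom).map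
        (MulAut.conj ((u₀G⁻¹ : ↥(D.group F)) : GL D.Idx F)).toMonoidHom = D.negUnipotent F := by
      rw [map_conj_conj]
      have : ((u₀G⁻¹ : ↥(D.group F)) : GL D.Idx F) * u₀ = 1 := by
        show u₀⁻¹ * u₀ = 1
        group
      rw [this]
      ext y
      simp
    rw [e] at this
    exact this

/-- for elements of the group: `g ∈ X_{-p_i} ↔ g ∈ P_i ⊓ V` (given **B2**) -/
theorem mem_neg_simple_iff (D : ChevalleyDatum) (hD : D ∈ Seven) (i : ℕ) (hi : i < D.rank)
    (hB2 : ∀ g ∈ D.parabolicSubgroup F {i}, g ∈ D.negUnipotent F →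
      g ∈ D.rootSubgroup F (D.neg (D.simple i)))
    (g : GL D.Idx F) :
    g ∈ D.parabolicSubgroup F {i} ⊓ D.negUnipotent F ↔ g ∈ D.rootSubgroup F (D.neg (D.simple i)) := by
  constructor
  · rintro ⟨h1, h2⟩
    exact hB2 g h1 h2
  · intro hg
    obtain ⟨t, ht⟩ := mem_rootSubgroup D hD _ g hg
    obtain ⟨-, hnlt, hcrt⟩ := checkPara_simple D (chkPara_all D hD) i hi
    refine ⟨?_, ?_⟩
    · refine x_mem_parabolic D hD {i} _ (D.neg (D.simple i)) le_rfl ⟨hnlt, fun j hj hji => ?_⟩ t g ht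
      exact hcrt j hj (fun h => hji (by rw [h]; exact Set.mem_singleton i))
    · have : g = xGL D hD (D.neg (D.simple i)) t := Units.ext ht
      rw [this]
      exact xGL_mem_neg D hD _ (isNegRoot_neg_simple D hD i hi) t

/-- **B3** (glue) the negative fundamental root subgroups are permuted. -/
theorem maps_neg_simple_of (D : ChevalleyDatum) (hD : D ∈ Seven)
    (θ : ↥(D.group F) ≃* ↥(D.group F))
    (hU : Maps D θ (D.posUnipotent F) (D.posUnipotent F))
    (hV : Maps D θ (D.negUnipotent F) (D.negUnipotent F))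
    (hA2 : Maps D θ (D.posUnipotent F) (D.posUnipotent F) →
      Maps D θ (D.borelSubgroup F) (D.borelSubgroup F))
    (hB1 : Maps D θ (D.borelSubgroup F) (D.borelSubgroup F) →
      ∃ ρ : Equiv.Perm (Fin D.rank), ∀ i : Fin D.rank,
        Maps D θ (D.parabolicSubgroup F {(i : ℕ)})
          (D.parabolicSubgroup F {((ρ i : Fin D.rank) : ℕ)}))
    (hB2 : ∀ i < D.rank, ∀ g ∈ D.parabolicSubgroup F {i}, g ∈ D.negUnipotent F →
      g ∈ D.rootSubgroup F (D.neg (D.simple i))) :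
    ∃ ρ : Equiv.Perm (Fin D.rank), ∀ i : Fin D.rank,
      Maps D θ (D.rootSubgroup F (D.neg (D.simple i)))
        (D.rootSubgroup F (D.neg (D.simple (ρ i)))) := by
  obtain ⟨ρ, hρ⟩ := hB1 (hA2 hU)
  refine ⟨ρ, fun i => ?_⟩
  exact ((hρ i).inf hV).congr
    (fun g _ => mem_neg_simple_iff D hD i i.2 (hB2 i i.2) g)
    (fun g _ => mem_neg_simple_iff D hD (ρ i) (ρ i).2 (hB2 (ρ i) (ρ i).2) g)

end Cfsg.Agent.Lib.Helper1.ChevAut
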