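import Mathlib
import Cfsg.Agent.Lib.Helper5.ChevChk.W0All

set_option autoImplicit false

/-!
Table fact for the S2156 farm: the longest element maps the negatives of the fundamental roots
to fundamental roots.
-/

namespace Cfsg.Agent.Lib.Helper1.ChevAut

open Cfsg Cfsg.Lie Cfsg.Agent.Lib.Helper5.ChevSym

/-- the Boolean check: `w` maps each `-p_k` to some `p_{k'}` -/
def checkW0Simple (D : ChevalleyDatum) (w : List ℕ) : Bool :=
  (List.range D.rank).all fun k => (List.range D.rank).any fun k' =>
    wActC D w (D.neg (D.simple k)) == D.simple k'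

theorem checkW0Simple_spec (D : ChevalleyDatum) (w : List ℕ) (h : checkW0Simple D w = true)
    (k : ℕ) (hk : k < D.rank) : ∃ k' < D.rank, wAct D w (D.neg (D.simple k)) = D.simple k' := by
  unfold checkW0Simple at h
  rw [List.all_eq_true] at h
  have h1 := h k (List.mem_range.2 hk)
  rw [List.any_eq_true] at h1
  obtain ⟨k', hk', h2⟩ := h1
  rw [wActC_eq] at h2
  exact ⟨k', List.mem_range.1 hk', by simpa using h2⟩

/-- the Boolean check: `k ↦ w(-p_k)` is injective, and the `p_k` are pairwise distinct -/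
def checkW0Inj (D : ChevalleyDatum) (w : List ℕ) : Bool :=
  (List.range D.rank).all fun k₁ => (List.range D.rank).all fun k₂ =>
    k₁ == k₂ || (wActC D w (D.neg (D.simple k₁)) != wActC D w (D.neg (D.simple k₂))
      && D.simple k₁ != D.simple k₂)

theorem checkW0Inj_spec (D : ChevalleyDatum) (w : List ℕ) (h : checkW0Inj D w = true)
    (k₁ k₂ : ℕ) (h1 : k₁ < D.rank) (h2 : k₂ < D.rank) (hne : k₁ ≠ k₂) :
    wAct D w (D.neg (D.simple k₁)) ≠ wAct D w (D.neg (D.simple k₂)) ∧
      D.simple k₁ ≠ D.simple k₂ := by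
  unfold checkW0Inj at h
  rw [List.all_eq_true] at h
  have h3 := h k₁ (List.mem_range.2 h1)
  rw [List.all_eq_true] at h3
  have h4 := h3 k₂ (List.mem_range.2 h2)
  rw [wActC_eq, wActC_eq] at h4
  simp only [Bool.or_eq_true, beq_iff_eq, Bool.and_eq_true, bne_iff_ne, ne_eq] at h4
  rcases h4 with h4 | h4
  · exact absurd h4 hne
  · exact h4

theorem exists_w0_simple (D : ChevalleyDatum)
    (hD : D ∈ [chevG2, chevB2, chevD4, chevF4, chevE6, chevE7, chevE8]) :
    ∃ w : List ℕ, checkW0 D w = true ∧ checkW0Simple D w = true ∧ checkW0Inj D w = true := by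
  simp only [List.mem_cons, List.not_mem_nil, or_false] at hD
  rcases hD with rfl | rfl | rfl | rfl | rfl | rfl | rfl
  · exact ⟨_, chkW0_G2, by decide +kernel, by decide +kernel⟩
  · exact ⟨_, chkW0_B2, by decide +kernel, by decide +kernel⟩
  · exact ⟨_, chkW0_D4, by decide +kernel, by decide +kernel⟩
  · exact ⟨_, chkW0_F4, by decide +kernel, by decide +kernel⟩
  · exact ⟨_, chkW0_E6, by decide +kernel, by decide +kernel⟩
  · exact ⟨_, chkW0_E7, by decide +kernel, by decide +kernel⟩
  · exact ⟨_, chkW0_E8, by decide +kernel, by decide +kernel⟩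

end Cfsg.Agent.Lib.Helper1.ChevAut
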