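import Mathlib
import Cfsg.Agent.Lib.Helper1.AutGlue
import Cfsg.Agent.Lib.Helper1.AutW0
import Cfsg.Agent.Lib.Helper5.ChevWKer
import Cfsg.Agent.Lib.Helper5.StChar.W0Cell

set_option autoImplicit false

/-!
Unit B4 of the S2156 farm: the positive fundamental root subgroups are permuted (`n₀`-trick).
-/

namespace Cfsg.Agent.Lib.Helper1.ChevAut

open Cfsg Cfsg.Lie Cfsg.Agent.Lib.Helper5.ChevStruct Cfsg.Agent.Lib.Helper5.ChevSym
  Cfsg.Agent.Lib.Helper5.StChar

variable {F : Type*} [Field F]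

/-- `n₀² ∈ H` -/
theorem w0_sq_mem_diagonal (D : ChevalleyDatum) (hD : D ∈ Seven) (w : List ℕ)
    (hw : checkW0 D w = true) :
    (wGL D hD w * wGL D hD w : GL D.Idx F) ∈ D.diagonalSubgroup F := by
  obtain ⟨hwd, hpos, -⟩ := checkW0_spec D w hw
  have hneg : ∀ j < D.rank, ¬ D.IsPosRoot (wAct D w (D.simple j)) := by
    intro j hj hp
    have h1 := (checkPara_simple D (chkPara_all D hD) j hj).1
    exact not_pos_of_neg D hD _ (hpos _ h1) hp
  have h1 : wPerm D hD w = wPerm D hD w.reverse := wPerm_eq_w0 D hD w hw w hwd hneg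
  have h2 : wPerm D hD (w ++ w) = wPerm D hD [] := by
    rw [wPerm_append, wPerm_nil]
    nth_rewrite 2 [h1]
    rw [wPerm_reverse D hD w hwd, mul_inv_cancel]
  have hwd2 : Wd D (w ++ w) := fun i hi => by
    rcases List.mem_append.1 hi with h | h <;> exact hwd i h
  have h3 := (wPerm_eq_iff D hD (w ++ w) [] hwd2 (fun i hi => by simp at hi)).1 h2
  have h4 := (hrel_iff_act_eq (F := F) D hD (w ++ w) [] hwd2 (fun i hi => by simp at hi)).2 h3
  rwa [wGL_append, wGL_nil, inv_one, mul_one] at h4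

/-- `n₀ X_r n₀⁻¹ = X_{w₀ r}` -/
theorem map_conj_rootSubgroup (D : ChevalleyDatum) (hD : D ∈ Seven) (w : List ℕ) (hwd : Wd D w)
    (r : ℕ) (hr : r < D.nroots) :
    (D.rootSubgroup F r).map (MulAut.conj (wGL D hD w : GL D.Idx F)).toMonoidHom
      = D.rootSubgroup F (wAct D w r) := by
  obtain ⟨ε, hε, hconj⟩ := wGL_conj (F := F) D hD w hwd r hr
  have hεε : ε * ε = 1 := by rcases hε with rfl | rfl <;> ring
  apply le_antisymm
  · unfold ChevalleyDatum.rootSubgroup
    rw [MonoidHom.map_closure, Subgroup.closure_le]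
    rintro _ ⟨x, ⟨t, hx⟩, rfl⟩
    apply Subgroup.subset_closure
    exact ⟨ε * t, by simpa [MulAut.conj_apply] using hconj t x hx⟩
  · unfold ChevalleyDatum.rootSubgroup
    rw [Subgroup.closure_le]
    rintro y ⟨t, hy⟩
    rw [SetLike.mem_coe, Subgroup.mem_map]
    refine ⟨xGL D hD r (ε * t), Subgroup.subset_closure ⟨ε * t, xGL_val D hD r _⟩, ?_⟩
    apply Units.ext
    have := hconj (ε * t) (xGL D hD r (ε * t)) (xGL_val D hD r _)
    simp only [MulEquiv.coe_toMonoidHom, MulAut.conj_apply]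
    rw [this, hy, ← mul_assoc, hεε, one_mul]

/-- **B4** (given **B3** for all automorphisms) the positive fundamental root subgroups are
permuted. -/
theorem maps_pos_simple_of (D : ChevalleyDatum) (hD : D ∈ Seven)
    (θ : ↥(D.group F) ≃* ↥(D.group F))
    (hU : Maps D θ (D.posUnipotent F) (D.posUnipotent F))
    (hV : Maps D θ (D.negUnipotent F) (D.negUnipotent F))
    (hB3 : ∀ θ' : ↥(D.group F) ≃* ↥(D.group F),
      Maps D θ' (D.posUnipotent F) (D.posUnipotent F) →
      Maps D θ' (D.negUnipotent F) (D.negUnipotent F) →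
      ∃ ρ : Equiv.Perm (Fin D.rank), ∀ i : Fin D.rank,
        Maps D θ' (D.rootSubgroup F (D.neg (D.simple i)))
          (D.rootSubgroup F (D.neg (D.simple (ρ i))))) :
    ∃ ρ : Equiv.Perm (Fin D.rank), ∀ i : Fin D.rank,
      Maps D θ (D.rootSubgroup F (D.simple i)) (D.rootSubgroup F (D.simple (ρ i))) := by
  obtain ⟨w, hw, hws, hwi⟩ := exists_w0_simple D hD
  obtain ⟨hwd, hV₀⟩ := conj_pos_eq_neg' (K := F) D hD w hw
  have hn₀G : (wGL D hD w : GL D.Idx F) ∈ D.group F :=
    monomial_le_group D hD (wGL_mem D hD w hwd)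
  set n₀ : ↥(D.group F) := ⟨wGL D hD w, hn₀G⟩ with hn₀
  have hc : ((n₀ : ↥(D.group F)) : GL D.Idx F) = wGL D hD w := rfl
  have hci : ((n₀⁻¹ : ↥(D.group F)) : GL D.Idx F) = (wGL D hD w)⁻¹ := rfl
  have hsq := w0_sq_mem_diagonal (F := F) D hD w hw
  -- `n₀ V n₀⁻¹ = U`
  have hU₀ : (D.negUnipotent F).map (MulAut.conj (wGL D hD w : GL D.Idx F)).toMonoidHom
      = D.posUnipotent F := by
    rw [← hV₀, map_conj_conj]
    exact map_conj_of_mem_normalizer _ _ (diagonal_le_normalizer_pos D hD hsq)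
  have hid : ∀ K : Subgroup (GL D.Idx F), K.map (MulAut.conj (1 : GL D.Idx F)).toMonoidHom = K := by
    intro K
    ext y
    simp
  -- `n₀⁻¹ V n₀ = U`, `n₀⁻¹ U n₀ = V`
  have hV₁ : (D.negUnipotent F).map (MulAut.conj (wGL D hD w : GL D.Idx F)⁻¹).toMonoidHom
      = D.posUnipotent F := by
    rw [← hV₀, map_conj_conj, inv_mul_cancel, hid]
  have hU₁ : (D.posUnipotent F).map (MulAut.conj (wGL D hD w : GL D.Idx F)⁻¹).toMonoidHom
      = D.negUnipotent F := by
    rw [← hU₀, map_conj_conj, inv_mul_cancel, hid]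
  -- the twisted automorphism
  set θ'' := (MulAut.conj n₀ : ↥(D.group F) ≃* ↥(D.group F)).trans
    (θ.trans (MulAut.conj n₀⁻¹)) with hθ''
  have hU'' : Maps D θ'' (D.posUnipotent F) (D.posUnipotent F) := by
    have h1 := maps_conj D n₀ (D.posUnipotent F)
    rw [hc, hV₀] at h1
    have h2 := maps_conj D n₀⁻¹ (D.negUnipotent F)
    rw [hci, hV₁] at h2
    exact h1.trans (hV.trans h2)
  have hV'' : Maps D θ'' (D.negUnipotent F) (D.negUnipotent F) := by
    have h1 := maps_conj D n₀ (D.negUnipotent F)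
    rw [hc, hU₀] at h1
    have h2 := maps_conj D n₀⁻¹ (D.posUnipotent F)
    rw [hci, hU₁] at h2
    exact h1.trans (hU.trans h2)
  obtain ⟨ρ'', h''⟩ := hB3 θ'' hU'' hV''
  -- the opposition bijection
  have he : ∀ k : Fin D.rank, ∃ k' : Fin D.rank,
      wAct D w (D.neg (D.simple k)) = D.simple k' := by
    intro k
    obtain ⟨k', hk', h⟩ := checkW0Simple_spec D w hws k k.2
    exact ⟨⟨k', hk'⟩, h⟩
  choose e he using he
  have hinj : Function.Injective e := by
    intro k₁ k₂ h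
    by_contra hne
    have hne' : (k₁ : ℕ) ≠ k₂ := fun h' => hne (Fin.ext h')
    have := (checkW0Inj_spec D w hwi k₁ k₂ k₁.2 k₂.2 hne').1
    rw [he, he, h] at this
    exact this rfl
  set E : Equiv.Perm (Fin D.rank) := Equiv.ofBijective e (Finite.injective_iff_bijective.1 hinj)
    with hE
  have hEe : ∀ k, E k = e k := fun k => rfl
  -- `θ = conj n₀⁻¹ ; θ'' ; conj n₀`
  have hθ : θ = (MulAut.conj n₀⁻¹ : ↥(D.group F) ≃* ↥(D.group F)).trans
      (θ''.trans (MulAut.conj n₀)) := by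
    ext y
    simp [hθ'', MulAut.conj_apply, mul_assoc]
  have hsl : ∀ i : Fin D.rank, D.simple i < D.nroots := fun i => simple_lt D hD i i.2
  have hnl : ∀ i : Fin D.rank, D.neg (D.simple i) < D.nroots := fun i =>
    (neg_lt D hD _ (hsl i)).1
  have hX : ∀ k : Fin D.rank,
      (D.rootSubgroup F (D.neg (D.simple k))).map
        (MulAut.conj (wGL D hD w : GL D.Idx F)).toMonoidHom
        = D.rootSubgroup F (D.simple (E k)) := by
    intro k
    rw [map_conj_rootSubgroup D hD w hwd _ (hnl k), he, hEe]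
  refine ⟨(E.symm.trans ρ'').trans E, fun i => ?_⟩
  set k := E.symm i with hk
  have hi : i = E k := by rw [hk, Equiv.apply_symm_apply]
  have hρ : ((E.symm.trans ρ'').trans E) i = E (ρ'' k) := by
    simp [hk]
  rw [hρ, hi, ← hX k, ← hX (ρ'' k), hθ]
  have h1 := maps_conj D n₀⁻¹ ((D.rootSubgroup F (D.neg (D.simple k))).map
    (MulAut.conj (wGL D hD w : GL D.Idx F)).toMonoidHom)
  rw [hci, map_conj_conj, inv_mul_cancel, hid] at h1
  have h2 := maps_conj D n₀ (D.rootSubgroup F (D.neg (D.simple (ρ'' k))))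
  rw [hc] at h2
  exact h1.trans ((h'' k).trans h2)

end Cfsg.Agent.Lib.Helper1.ChevAut
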