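import Mathlib

set_option autoImplicit false

/-!
# Abstract transport lemmas for automorphisms of a subgroup `G1` of an ambient group `A`

Ambient-group versions (no Chevalley imports) of the glue used for the automorphism theorem of the
untwisted Chevalley groups: `MapsT G1 θ K₁ K₂` says that the automorphism `θ` of `G1` maps the trace
of `K₁` on `G1` onto the trace of `K₂`.
-/

namespace Cfsg.Agent.Lib.Helper1.AutGen

open scoped Pointwise

variable {A : Type*} [Group A]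

/-- the automorphism `θ` of `G1` maps (the trace on `G1` of) `K₁` onto (that of) `K₂` -/
def MapsT (G1 : Subgroup A) (θ : ↥G1 ≃* ↥G1) (K₁ K₂ : Subgroup A) : Prop :=
  ∀ g : ↥G1, ((θ g : A) ∈ K₂ ↔ (g : A) ∈ K₁)

theorem MapsT.trans {G1 : Subgroup A} {θ θ' : ↥G1 ≃* ↥G1} {K₁ K₂ K₃ : Subgroup A}
    (h : MapsT G1 θ K₁ K₂) (h' : MapsT G1 θ' K₂ K₃) : MapsT G1 (θ.trans θ') K₁ K₃ := fun g => by
  rw [MulEquiv.trans_apply, h' (θ g), h g]

theorem MapsT.symm {G1 : Subgroup A} {θ : ↥G1 ≃* ↥G1} {K₁ K₂ : Subgroup A}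
    (h : MapsT G1 θ K₁ K₂) : MapsT G1 θ.symm K₂ K₁ := fun g => by
  rw [← h (θ.symm g), MulEquiv.apply_symm_apply]

theorem MapsT.inf {G1 : Subgroup A} {θ : ↥G1 ≃* ↥G1} {K₁ K₂ L₁ L₂ : Subgroup A}
    (h : MapsT G1 θ K₁ K₂) (h' : MapsT G1 θ L₁ L₂) : MapsT G1 θ (K₁ ⊓ L₁) (K₂ ⊓ L₂) := fun g => by
  rw [Subgroup.mem_inf, Subgroup.mem_inf, h g, h' g]

theorem MapsT.congr {G1 : Subgroup A} {θ : ↥G1 ≃* ↥G1} {K₁ K₂ K₁' K₂' : Subgroup A}
    (h : MapsT G1 θ K₁ K₂)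
    (h1 : ∀ g ∈ G1, (g ∈ K₁ ↔ g ∈ K₁')) (h2 : ∀ g ∈ G1, (g ∈ K₂ ↔ g ∈ K₂')) :
    MapsT G1 θ K₁' K₂' := fun g => by
  rw [← h1 _ g.2, ← h2 _ (θ g).2, h g]

theorem mapsT_refl (G1 : Subgroup A) (K : Subgroup A) : MapsT G1 (MulEquiv.refl _) K K :=
  fun _ => Iff.rfl

theorem mapsT_one (G1 : Subgroup A) (K : Subgroup A) : MapsT G1 (1 : MulAut ↥G1) K K :=
  fun _ => Iff.rfl

/-- `MapsT` in the `MulAut` group: products -/
theorem MapsT.mul {G1 : Subgroup A} {θ θ' : MulAut ↥G1} {K₁ K₂ K₃ : Subgroup A}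
    (h : MapsT G1 θ' K₁ K₂) (h' : MapsT G1 θ K₂ K₃) : MapsT G1 (θ * θ') K₁ K₃ := fun g => by
  rw [MulAut.mul_apply, h' (θ' g), h g]

theorem MapsT.inv {G1 : Subgroup A} {θ : MulAut ↥G1} {K₁ K₂ : Subgroup A}
    (h : MapsT G1 θ K₁ K₂) : MapsT G1 θ⁻¹ K₂ K₁ := fun g => by
  rw [← h (θ⁻¹ g), MulAut.apply_inv_self]

/-- membership in a conjugate subgroup -/
theorem mem_map_conj_iff (K : Subgroup A) (b y : A) :
    y ∈ K.map (MulAut.conj b).toMonoidHom ↔ b⁻¹ * y * b ∈ K := by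
  rw [Subgroup.mem_map]
  constructor
  · rintro ⟨k, hk, rfl⟩
    simp only [MulEquiv.coe_toMonoidHom, MulAut.conj_apply]
    have : b⁻¹ * (b * k * b⁻¹) * b = k := by group
    rw [this]; exact hk
  · intro hy
    refine ⟨b⁻¹ * y * b, hy, ?_⟩
    simp only [MulEquiv.coe_toMonoidHom, MulAut.conj_apply]
    group

/-- conjugation by `x ∈ G1` maps `K` onto `x K x⁻¹` -/
theorem mapsT_conj (G1 : Subgroup A) (x : ↥G1) (K : Subgroup A) :
    MapsT G1 (MulAut.conj x) K (K.map (MulAut.conj (x : A)).toMonoidHom) := fun g => by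
  rw [mem_map_conj_iff]
  have h1 : ((MulAut.conj x g : ↥G1) : A) = (x : A) * g * (x : A)⁻¹ := by
    simp [MulAut.conj_apply]
  rw [h1]
  have : (x : A)⁻¹ * ((x : A) * g * (x : A)⁻¹) * (x : A) = g := by group
  rw [this]

/-- `θ` maps `a K₁ a⁻¹` onto `θ(a) K₂ θ(a)⁻¹` -/
theorem MapsT.conj {G1 : Subgroup A} {θ : ↥G1 ≃* ↥G1} {K₁ K₂ : Subgroup A}
    (h : MapsT G1 θ K₁ K₂) (a : ↥G1) :
    MapsT G1 θ (K₁.map (MulAut.conj (a : A)).toMonoidHom)
      (K₂.map (MulAut.conj ((θ a : ↥G1) : A)).toMonoidHom) := fun g => by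
  rw [mem_map_conj_iff, mem_map_conj_iff]
  have h1 := h (a⁻¹ * g * a)
  have e : ((θ (a⁻¹ * g * a) : ↥G1) : A)
      = ((θ a : ↥G1) : A)⁻¹ * (θ g : ↥G1) * (θ a : ↥G1) := by
    rw [map_mul, map_mul, map_inv]
    rfl
  rw [e] at h1
  exact h1

/-- `(K.map (conj b)).map (conj a) = K.map (conj (a * b))` -/
theorem map_conj_conj (K : Subgroup A) (a b : A) :
    (K.map (MulAut.conj b).toMonoidHom).map (MulAut.conj a).toMonoidHom
      = K.map (MulAut.conj (a * b)).toMonoidHom := by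
  rw [Subgroup.map_map]
  congr 1
  ext y
  simp [MulAut.conj_apply, mul_assoc]

theorem map_conj_of_mem_normalizer (K : Subgroup A) (a : A)
    (ha : a ∈ Subgroup.normalizer (K : Set A)) : K.map (MulAut.conj a).toMonoidHom = K := by
  ext y
  rw [mem_map_conj_iff]
  have h1 := (Subgroup.mem_normalizer_iff.1 (Subgroup.inv_mem _ ha)) y
  rw [inv_inv] at h1
  exact h1.symm

theorem map_conj_one (K : Subgroup A) : K.map (MulAut.conj (1 : A)).toMonoidHom = K := by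
  ext y
  rw [mem_map_conj_iff]
  simp

theorem trans_conj_mul {G : Type*} [Group G] (θ : G ≃* G) (a b : G) :
    θ.trans (MulAut.conj (a * b)) = (θ.trans (MulAut.conj b)).trans (MulAut.conj a) := by
  ext y
  simp [MulAut.conj_apply, mul_assoc]

/-- transport of normalisers: if `θ` maps `K₁` onto `K₂` (both inside `G1`) then it maps
`N(K₁)` onto `N(K₂)` (traces on `G1`). -/
theorem MapsT.normalizer {G1 : Subgroup A} {θ : ↥G1 ≃* ↥G1} {K₁ K₂ : Subgroup A}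
    (h : MapsT G1 θ K₁ K₂) (h1 : K₁ ≤ G1) (h2 : K₂ ≤ G1) :
    MapsT G1 θ (Subgroup.normalizer (K₁ : Set A)) (Subgroup.normalizer (K₂ : Set A)) := fun g => by
  rw [Subgroup.mem_normalizer_iff, Subgroup.mem_normalizer_iff]
  constructor
  · intro hn k
    by_cases hk : k ∈ G1
    · have e1 := h ⟨k, hk⟩
      have e2 := h (g * ⟨k, hk⟩ * g⁻¹)
      have e3 := hn ((θ ⟨k, hk⟩ : ↥G1) : A)
      have e4 : ((θ (g * ⟨k, hk⟩ * g⁻¹) : ↥G1) : A)
          = ((θ g : ↥G1) : A) * (θ ⟨k, hk⟩ : ↥G1) * ((θ g : ↥G1) : A)⁻¹ := by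
        rw [map_mul, map_mul, map_inv]; rfl
      rw [e4] at e2
      have e5 : (((g * ⟨k, hk⟩ * g⁻¹ : ↥G1)) : A) = (g : A) * k * (g : A)⁻¹ := rfl
      rw [e5] at e2
      rw [← e1, ← e2]
      exact e3
    · constructor
      · intro hk1; exact absurd (h1 hk1) hk
      · intro hk1
        exfalso
        apply hk
        have := G1.mul_mem (G1.mul_mem (G1.inv_mem g.2) (h1 hk1)) g.2
        have e : (g : A)⁻¹ * ((g : A) * k * (g : A)⁻¹) * (g : A) = k := by group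
        rwa [e] at this
  · intro hn k
    by_cases hk : k ∈ G1
    · have e1 := h (θ.symm ⟨k, hk⟩)
      rw [MulEquiv.apply_symm_apply] at e1
      have e2 := h (g * θ.symm ⟨k, hk⟩ * g⁻¹)
      have e3 := hn ((θ.symm ⟨k, hk⟩ : ↥G1) : A)
      have e4 : ((θ (g * θ.symm ⟨k, hk⟩ * g⁻¹) : ↥G1) : A)
          = ((θ g : ↥G1) : A) * k * ((θ g : ↥G1) : A)⁻¹ := by
        rw [map_mul, map_mul, map_inv, MulEquiv.apply_symm_apply]; rfl
      rw [e4] at e2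
      have e5 : (((g * θ.symm ⟨k, hk⟩ * g⁻¹ : ↥G1)) : A)
          = (g : A) * (θ.symm ⟨k, hk⟩ : ↥G1) * (g : A)⁻¹ := rfl
      rw [e5] at e2
      rw [e1, e2]
      exact e3
    · constructor
      · intro hk1; exact absurd (h2 hk1) hk
      · intro hk1
        exfalso
        apply hk
        have := G1.mul_mem (G1.mul_mem (G1.inv_mem (θ g).2) (h2 hk1)) (θ g).2
        have e : ((θ g : ↥G1) : A)⁻¹ * (((θ g : ↥G1) : A) * k * ((θ g : ↥G1) : A)⁻¹)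
            * ((θ g : ↥G1) : A) = k := by group
        rwa [e] at this

/-- **A1** (abstract Sylow): if the trace of `U` on `G1` is a Sylow `p`-subgroup of the finite
group `G1`, some inner twist of `θ` preserves `U`. -/
theorem exists_conj_mapsT_of_sylow (G1 : Subgroup A) [Finite ↥G1] (p : ℕ) [Fact p.Prime]
    (U : Subgroup A) (P : Sylow p ↥G1) (hP : (P : Subgroup ↥G1) = U.subgroupOf G1)
    (θ : ↥G1 ≃* ↥G1) :
    ∃ x : ↥G1, MapsT G1 (θ.trans (MulAut.conj x)) U U := by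
  classical
  let θ' : MulAut ↥G1 := θ
  obtain ⟨x, hx⟩ := MulAction.exists_smul_eq ↥G1 (θ' • P) P
  refine ⟨x, fun g => ?_⟩
  have hmemP : ∀ y : ↥G1, (y : A) ∈ U ↔ y ∈ (P : Subgroup ↥G1) := by
    intro y
    rw [hP, Subgroup.mem_subgroupOf]
  rw [hmemP, hmemP]
  have hx' : (P : Subgroup ↥G1) = MulAut.conj x • (θ' • (P : Subgroup ↥G1)) := by
    have := congrArg (fun Q : Sylow p ↥G1 => (Q : Subgroup ↥G1)) hx
    exact this.symm
  conv_lhs => rw [hx']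
  rw [Subgroup.mem_pointwise_smul_iff_inv_smul_mem]
  have h2 : (MulAut.conj x)⁻¹ • (θ.trans (MulAut.conj x)) g = θ g := by
    simp [MulAut.smul_def, MulAut.conj_apply, mul_assoc]
  rw [h2, Subgroup.mem_pointwise_smul_iff_inv_smul_mem]
  have h3 : θ'⁻¹ • θ g = g := by
    show θ'⁻¹ (θ' g) = g
    simp
  rw [h3]

/-- **A4** (abstract glue): some inner twist of `θ` preserves both `U` and `V = n₀ U n₀⁻¹`,
given **A1** (`hA1`) and **A3** (`hA3`: an element `g` of `G1` with `g U g⁻¹ ∩ U = 1` lies in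
`U n₀ B`). -/
theorem exists_conj_mapsT_pos_neg_of (G1 U V B : Subgroup A) (n₀ : A)
    (hUG : U ≤ G1) (hn₀ : n₀ ∈ G1)
    (hV : U.map (MulAut.conj n₀).toMonoidHom = V)
    (hBU : B ≤ Subgroup.normalizer (U : Set A))
    (hUV : ∀ g, g ∈ U → g ∈ V → g = 1)
    (θ : ↥G1 ≃* ↥G1)
    (hA1 : ∃ x : ↥G1, MapsT G1 (θ.trans (MulAut.conj x)) U U)
    (hA3 : ∀ g ∈ G1, (∀ u ∈ U, g * u * g⁻¹ ∈ U → u = 1) →
      ∃ u ∈ U, ∃ b ∈ B, g = u * n₀ * b) :
    ∃ x : ↥G1, MapsT G1 (θ.trans (MulAut.conj x)) U U ∧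
      MapsT G1 (θ.trans (MulAut.conj x)) V V := by
  obtain ⟨x₁, h₁⟩ := hA1
  set n₀G : ↥G1 := ⟨n₀, hn₀⟩ with hn₀G
  set θ₁ := θ.trans (MulAut.conj x₁) with hθ₁
  -- `θ₁` maps `V` onto `g U g⁻¹`
  have h₂ : MapsT G1 θ₁ V (U.map (MulAut.conj ((θ₁ n₀G : ↥G1) : A)).toMonoidHom) := by
    have := h₁.conj n₀G
    rw [show ((n₀G : ↥G1) : A) = n₀ from rfl, hV] at this
    exact this
  have hdisj : ∀ u ∈ U, ((θ₁ n₀G : ↥G1) : A) * u * ((θ₁ n₀G : ↥G1) : A)⁻¹ ∈ U → u = 1 := by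
    intro u hu hgu
    set y : ↥G1 := ⟨_, hUG hgu⟩ with hy
    have hyV : ((θ₁ (θ₁.symm y) : ↥G1) : A) ∈
        U.map (MulAut.conj ((θ₁ n₀G : ↥G1) : A)).toMonoidHom := by
      rw [MulEquiv.apply_symm_apply]
      exact ⟨u, hu, by simp [hy, MulAut.conj_apply]⟩
    have hv : ((θ₁.symm y : ↥G1) : A) ∈ V := (h₂ _).1 hyV
    have hvU : ((θ₁.symm y : ↥G1) : A) ∈ U := by
      rw [← h₁ (θ₁.symm y), MulEquiv.apply_symm_apply]
      exact hgu
    have h1 : ((θ₁.symm y : ↥G1) : A) = 1 := hUV _ hvU hv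
    have h2 : θ₁.symm y = 1 := Subtype.ext h1
    have h3 : y = 1 := by
      have := congrArg θ₁ h2
      rwa [MulEquiv.apply_symm_apply, map_one] at this
    have h4 : ((θ₁ n₀G : ↥G1) : A) * u * ((θ₁ n₀G : ↥G1) : A)⁻¹ = 1 :=
      congrArg Subtype.val h3
    have : u = ((θ₁ n₀G : ↥G1) : A)⁻¹ * 1 * ((θ₁ n₀G : ↥G1) : A) := by
      rw [← h4]; group
    rw [this]; group
  obtain ⟨u₀, hu₀, b, hb, hg⟩ := hA3 _ (θ₁ n₀G).2 hdisj
  set u₀G : ↥G1 := ⟨u₀, hUG hu₀⟩ with hu₀G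
  have hgU : U.map (MulAut.conj ((θ₁ n₀G : ↥G1) : A)).toMonoidHom
      = V.map (MulAut.conj u₀).toMonoidHom := by
    rw [hg, ← map_conj_conj, ← map_conj_conj,
      map_conj_of_mem_normalizer _ b (hBU hb), hV]
  rw [hgU] at h₂
  refine ⟨u₀G⁻¹ * x₁, ?_, ?_⟩
  · rw [trans_conj_mul]
    have := h₁.trans (mapsT_conj G1 u₀G⁻¹ U)
    have e : U.map (MulAut.conj ((u₀G⁻¹ : ↥G1) : A)).toMonoidHom = U :=
      map_conj_of_mem_normalizer _ _ (Subgroup.le_normalizer (Subgroup.inv_mem _ hu₀))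
    rw [e] at this
    exact this
  · rw [trans_conj_mul]
    have := h₂.trans (mapsT_conj G1 u₀G⁻¹ (V.map (MulAut.conj u₀).toMonoidHom))
    have e : (V.map (MulAut.conj u₀).toMonoidHom).map
        (MulAut.conj ((u₀G⁻¹ : ↥G1) : A)).toMonoidHom = V := by
      rw [map_conj_conj]
      have : ((u₀G⁻¹ : ↥G1) : A) * u₀ = 1 := by
        show u₀⁻¹ * u₀ = 1
        group
      rw [this, map_conj_one]
    rw [e] at this
    exact this

end Cfsg.Agent.Lib.Helper1.AutGen
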