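import Mathlib
import Cfsg.Agent.Lib.Helper1.AutGen

set_option autoImplicit false

/-!
# Abstract versions of the units B3 and B4 (an automorphism preserving `U` and `V` permutes the
negative, then the positive, simple root subgroups)
-/

namespace Cfsg.Agent.Lib.Helper1.AutGen

variable {A : Type*} [Group A]

/-- **B3** (abstract): if `θ` preserves `V` and permutes the `P i` by `ρ`, and on `G1` the
subgroup `X i` is `P i ⊓ V`, then `θ` permutes the `X i` by `ρ`. -/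
theorem mapsT_family_of_inf {ι : Type*} (G1 : Subgroup A) (θ : ↥G1 ≃* ↥G1)
    (P X : ι → Subgroup A) (V : Subgroup A)
    (hX : ∀ i, ∀ g ∈ G1, (g ∈ P i ⊓ V ↔ g ∈ X i))
    (ρ : Equiv.Perm ι) (hP : ∀ i, MapsT G1 θ (P i) (P (ρ i))) (hV : MapsT G1 θ V V) (i : ι) :
    MapsT G1 θ (X i) (X (ρ i)) :=
  ((hP i).inf hV).congr (hX i) (hX (ρ i))

/-- **B3** (abstract, with the permutation of the `P i` given by a hypothesis on `B`). -/
theorem exists_perm_mapsT_family {ι : Type*} (G1 : Subgroup A) (θ : ↥G1 ≃* ↥G1)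
    (P X : ι → Subgroup A) (U V B : Subgroup A)
    (hX : ∀ i, ∀ g ∈ G1, (g ∈ P i ⊓ V ↔ g ∈ X i))
    (hU : MapsT G1 θ U U) (hV : MapsT G1 θ V V)
    (hA2 : MapsT G1 θ U U → MapsT G1 θ B B)
    (hB1 : MapsT G1 θ B B → ∃ ρ : Equiv.Perm ι, ∀ i, MapsT G1 θ (P i) (P (ρ i))) :
    ∃ ρ : Equiv.Perm ι, ∀ i, MapsT G1 θ (X i) (X (ρ i)) := by
  obtain ⟨ρ, hρ⟩ := hB1 (hA2 hU)
  exact ⟨ρ, fun i => mapsT_family_of_inf G1 θ P X V hX ρ hρ hV i⟩

/-- **B4** (abstract): if every automorphism preserving `U` and `V` permutes the `Xn i`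
(negative simple root subgroups), and `n₀` swaps `U` and `V` and carries `Xn k` to `Xp (E k)`,
then every automorphism preserving `U` and `V` permutes the `Xp i`. -/
theorem exists_perm_mapsT_pos_of {ι : Type*} (G1 U V : Subgroup A) (n₀ : A) (hn₀ : n₀ ∈ G1)
    (hUV : U.map (MulAut.conj n₀).toMonoidHom = V)
    (hVU : V.map (MulAut.conj n₀).toMonoidHom = U)
    (Xn Xp : ι → Subgroup A) (E : Equiv.Perm ι)
    (hE : ∀ k, (Xn k).map (MulAut.conj n₀).toMonoidHom = Xp (E k))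
    (hB3 : ∀ θ' : ↥G1 ≃* ↥G1, MapsT G1 θ' U U → MapsT G1 θ' V V →
      ∃ ρ : Equiv.Perm ι, ∀ i, MapsT G1 θ' (Xn i) (Xn (ρ i)))
    (θ : ↥G1 ≃* ↥G1) (hU : MapsT G1 θ U U) (hV : MapsT G1 θ V V) :
    ∃ ρ : Equiv.Perm ι, ∀ i, MapsT G1 θ (Xp i) (Xp (ρ i)) := by
  set n₀G : ↥G1 := ⟨n₀, hn₀⟩ with hn₀G
  have hc : ((n₀G : ↥G1) : A) = n₀ := rfl
  have hci : ((n₀G⁻¹ : ↥G1) : A) = n₀⁻¹ := rfl
  have hV₁ : V.map (MulAut.conj n₀⁻¹).toMonoidHom = U := by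
    rw [← hUV, map_conj_conj, inv_mul_cancel, map_conj_one]
  have hU₁ : U.map (MulAut.conj n₀⁻¹).toMonoidHom = V := by
    rw [← hVU, map_conj_conj, inv_mul_cancel, map_conj_one]
  set θ'' := (MulAut.conj n₀G : ↥G1 ≃* ↥G1).trans (θ.trans (MulAut.conj n₀G⁻¹)) with hθ''
  have hU'' : MapsT G1 θ'' U U := by
    have h1 := mapsT_conj G1 n₀G U
    rw [hc, hUV] at h1
    have h2 := mapsT_conj G1 n₀G⁻¹ V
    rw [hci, hV₁] at h2
    exact h1.trans (hV.trans h2)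
  have hV'' : MapsT G1 θ'' V V := by
    have h1 := mapsT_conj G1 n₀G V
    rw [hc, hVU] at h1
    have h2 := mapsT_conj G1 n₀G⁻¹ U
    rw [hci, hU₁] at h2
    exact h1.trans (hU.trans h2)
  obtain ⟨ρ'', h''⟩ := hB3 θ'' hU'' hV''
  have hθ : θ = (MulAut.conj n₀G⁻¹ : ↥G1 ≃* ↥G1).trans (θ''.trans (MulAut.conj n₀G)) := by
    ext y
    simp [hθ'', MulAut.conj_apply, mul_assoc]
  refine ⟨(E.symm.trans ρ'').trans E, fun i => ?_⟩
  set k := E.symm i with hk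
  have hi : i = E k := by rw [hk, Equiv.apply_symm_apply]
  have hρ : ((E.symm.trans ρ'').trans E) i = E (ρ'' k) := by
    simp [hk]
  rw [hρ, hi, ← hE k, ← hE (ρ'' k), hθ]
  have h1 := mapsT_conj G1 n₀G⁻¹ ((Xn k).map (MulAut.conj n₀).toMonoidHom)
  rw [hci, map_conj_conj, inv_mul_cancel, map_conj_one] at h1
  have h2 := mapsT_conj G1 n₀G (Xn (ρ'' k))
  rw [hc] at h2
  exact h1.trans ((h'' k).trans h2)

end Cfsg.Agent.Lib.Helper1.AutGen
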