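import Mathlib
import Cfsg.Agent.Lib.Helper1.AutGen

set_option autoImplicit false

/-!
# Abstract versions of the units A2 and A3 (normaliser of `U`; the big cell)
-/

namespace Cfsg.Agent.Lib.Helper1.AutGen

variable {A : Type*} [Group A]

/-- **A3** (abstract): with a Bruhat decomposition `G1 = ⋃_w U n_w B` in which every `n_w`,
`w ≠ w₀`, conjugates some non-trivial element of `U` into `U`, an element `g` of `G1` with
`g U g⁻¹ ∩ U = 1` lies in the big cell `U n_{w₀} B`. -/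
theorem mem_big_cell_of_disjoint {ι : Type*} (G1 U B : Subgroup A) (n : ι → A) (w₀ : ι)
    (hBU : B ≤ Subgroup.normalizer (U : Set A))
    (hbruhat : ∀ g ∈ G1, ∃ w, ∃ u ∈ U, ∃ b ∈ B, g = u * n w * b)
    (hfix : ∀ w, w ≠ w₀ → ∃ u ∈ U, u ≠ 1 ∧ n w * u * (n w)⁻¹ ∈ U)
    (g : A) (hg : g ∈ G1) (hdisj : ∀ u ∈ U, g * u * g⁻¹ ∈ U → u = 1) :
    ∃ u ∈ U, ∃ b ∈ B, g = u * n w₀ * b := by
  obtain ⟨w, u, hu, b, hb, rfl⟩ := hbruhat g hg
  by_cases hw : w = w₀
  · subst hw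
    exact ⟨u, hu, b, hb, rfl⟩
  · exfalso
    obtain ⟨u', hu', hne, hmem⟩ := hfix w hw
    -- `u'' = b⁻¹ u' b ∈ U`
    have hb' : b⁻¹ ∈ Subgroup.normalizer (U : Set A) := Subgroup.inv_mem _ (hBU hb)
    have hu'' : b⁻¹ * u' * b ∈ U := by
      have := (Subgroup.mem_normalizer_iff.1 hb' u').1 hu'
      rwa [inv_inv] at this
    have hconj : u * n w * b * (b⁻¹ * u' * b) * (u * n w * b)⁻¹
        = u * (n w * u' * (n w)⁻¹) * u⁻¹ := by group
    have h1 : u * n w * b * (b⁻¹ * u' * b) * (u * n w * b)⁻¹ ∈ U := by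
      rw [hconj]
      exact U.mul_mem (U.mul_mem hu hmem) (U.inv_mem hu)
    have h2 := hdisj _ hu'' h1
    apply hne
    have : u' = b * (b⁻¹ * u' * b) * b⁻¹ := by group
    rw [this, h2]
    group

/-- **A2** (abstract): if every subgroup of `G1` properly containing `B` contains some `n i`, and
no `n i` normalises `U`, then the normaliser of `U` in `G1` is `B`. -/
theorem normalizer_inf_eq_of_overgroups {ι : Type*} (G1 U B : Subgroup A) (n : ι → A)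
    (hBG : B ≤ G1) (hBU : B ≤ Subgroup.normalizer (U : Set A))
    (hover : ∀ X : Subgroup A, B ≤ X → X ≤ G1 → X ≠ B → ∃ i, n i ∈ X)
    (hn : ∀ i, ∃ u ∈ U, n i * u * (n i)⁻¹ ∉ U) :
    Subgroup.normalizer (U : Set A) ⊓ G1 = B := by
  by_contra hne
  obtain ⟨i, hi⟩ := hover (Subgroup.normalizer (U : Set A) ⊓ G1) (le_inf hBU hBG) inf_le_right hne
  obtain ⟨u, hu, hnu⟩ := hn i
  exact hnu ((Subgroup.mem_normalizer_iff.1 hi.1 u).1 hu)

/-- the trace on `G1` of `N(U) ∩ N(V)`, when `N_{G1}(U) = B` and `N_{G1}(V) = B'` -/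
theorem mapsT_inf_normalizers {G1 : Subgroup A} {θ : ↥G1 ≃* ↥G1} {U V B B' : Subgroup A}
    (hU : MapsT G1 θ U U) (hV : MapsT G1 θ V V) (hUG : U ≤ G1) (hVG : V ≤ G1)
    (hB : Subgroup.normalizer (U : Set A) ⊓ G1 = B)
    (hB' : Subgroup.normalizer (V : Set A) ⊓ G1 = B') :
    MapsT G1 θ B B ∧ MapsT G1 θ B' B' ∧ MapsT G1 θ (B ⊓ B') (B ⊓ B') := by
  have h1 : MapsT G1 θ B B := by
    refine (hU.normalizer hUG hUG).congr ?_ ?_ <;>
    · intro g hg
      rw [← hB, Subgroup.mem_inf]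
      exact ⟨fun h => ⟨h, hg⟩, fun h => h.1⟩
  have h2 : MapsT G1 θ B' B' := by
    refine (hV.normalizer hVG hVG).congr ?_ ?_ <;>
    · intro g hg
      rw [← hB', Subgroup.mem_inf]
      exact ⟨fun h => ⟨h, hg⟩, fun h => h.1⟩
  exact ⟨h1, h2, h1.inf h2⟩

end Cfsg.Agent.Lib.Helper1.AutGen
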