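import Mathlib
import Cfsg.Prelude.Def_ChevStructure
import Cfsg.Agent.Lib.Helper5.ChevRankOne
import Cfsg.Agent.Lib.Helper7.Ch2G4

set_option autoImplicit false

/-!
A subgroup `X` normalised by the torus `H` which contains one non-trivial element `x_k(t)` of a
root subgroup contains the whole root subgroup `X_k` (finite field).
-/

namespace Cfsg.Agent.Lib.Helper1.ChevRootFill

open Cfsg Cfsg.Lie Cfsg.Agent.Lib.Helper5.ChevSym Cfsg.Agent.Lib.Helper5.ChevStruct
  Cfsg.Agent.Lib.Helper7.Ch2G

variable {F : Type*} [Field F]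

/-- every root has a Cartan integer `±1` or `±2` against some fundamental root -/
def checkSmallCartan (D : ChevalleyDatum) : Bool :=
  (List.range D.nroots).all fun k => (List.range D.rank).any fun i =>
    decide (D.cartan i k = 1 ∨ D.cartan i k = -1 ∨ D.cartan i k = 2 ∨ D.cartan i k = -2)

theorem chkSmallCartan_all (D : ChevalleyDatum) (hD : D ∈ Seven) : checkSmallCartan D = true := by
  simp only [List.mem_cons, List.not_mem_nil, or_false] at hD
  rcases hD with rfl | rfl | rfl | rfl | rfl | rfl | rfl <;> decide +kernel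

theorem exists_small_cartan (D : ChevalleyDatum) (hD : D ∈ Seven) (k : ℕ) (hk : k < D.nroots) :
    ∃ i < D.rank, D.cartan i k = 1 ∨ D.cartan i k = -1 ∨ D.cartan i k = 2 ∨ D.cartan i k = -2 := by
  have h := chkSmallCartan_all D hD
  unfold checkSmallCartan at h
  rw [List.all_eq_true] at h
  have h1 := h k (List.mem_range.2 hk)
  rw [List.any_eq_true] at h1
  obtain ⟨i, hi, h2⟩ := h1
  exact ⟨i, List.mem_range.1 hi, of_decide_eq_true h2⟩

/-- in a finite field every element is a difference of two squares or a square -/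
theorem exists_sq_sub_sq [Fintype F] (x : F) : ∃ a b : F, x = a * a - b * b := by
  by_cases h2 : (2 : F) = 0
  · -- characteristic two: Frobenius is onto
    obtain ⟨a, ha⟩ := (FiniteField.isSquare_of_char_two (CharP.ringChar_of_prime_eq_zero
      Nat.prime_two (by exact_mod_cast h2)) x)
    exact ⟨a, 0, by rw [ha]; ring⟩
  · refine ⟨(x + 1) / 2, (x - 1) / 2, ?_⟩
    field_simp
    ring

/-- unit S5 -/
theorem root_fill [Fintype F] (D : ChevalleyDatum) (hD : D ∈ Seven) (X : Subgroup (GL D.Idx F))
    (hX : ∀ h ∈ D.diagonalSubgroup F, ∀ x ∈ X, h * x * h⁻¹ ∈ X) (k : ℕ) (hk : k < D.nroots)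
    (t : F) (ht : t ≠ 0) (hmem : xGL D hD k t ∈ X) : ∀ t' : F, xGL D hD k t' ∈ X := by
  obtain ⟨i, hi, hc⟩ := exists_small_cartan D hD k hk
  -- stability under squares
  have hsq : ∀ (z s : F), xGL D hD k s ∈ X → xGL D hD k (z * z * s) ∈ X := by
    intro z s hs
    by_cases hz : z = 0
    · rw [hz, zero_mul, zero_mul]
      have : xGL D hD k (0 : F) = 1 := by
        apply Units.ext
        rw [xGL_val, x_at_zero]; rfl
      rw [this]; exact one_mem _
    · have key : ∀ (w : F), w ≠ 0 → xGL D hD k (w ^ (D.cartan i k) * s) ∈ X := by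
        intro w hw
        have h1 := hX _ (hGL_simple_mem_diagonal D hD i hi w hw) _ hs
        rwa [hGL_conj_x D hD i hi w hw k s] at h1
      rcases hc with h | h | h | h
      · have := key (z * z) (mul_ne_zero hz hz)
        rwa [h, zpow_one] at this
      · have := key (z * z)⁻¹ (inv_ne_zero (mul_ne_zero hz hz))
        rwa [h, zpow_neg_one, inv_inv] at this
      · have := key z hz
        rwa [h, zpow_two] at this
      · have := key z⁻¹ (inv_ne_zero hz)
        rw [h, zpow_neg, zpow_two, ← mul_inv, inv_inv] at this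
        exact this
  have hneg : ∀ s : F, xGL D hD k s ∈ X → xGL D hD k (-s) ∈ X := by
    intro s hs
    have : xGL D hD k (-s) = (xGL D hD k s)⁻¹ := by
      rw [eq_comm, inv_eq_iff_mul_eq_one]
      apply Units.ext
      rw [Units.val_mul, xGL_val, xGL_val, Units.val_one, x_mul_neg D hD]
    rw [this]; exact inv_mem hs
  have hadd : ∀ s s' : F, xGL D hD k s ∈ X → xGL D hD k s' ∈ X → xGL D hD k (s + s') ∈ X := by
    intro s s' hs hs'
    have : xGL D hD k (s + s') = xGL D hD k s * xGL D hD k s' := by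
      apply Units.ext
      rw [Units.val_mul, xGL_val, xGL_val, xGL_val, x_add D hD]
    rw [this]; exact mul_mem hs hs'
  intro t'
  obtain ⟨a, b, hab⟩ := exists_sq_sub_sq (t' / t)
  have e : t' = a * a * t + -(b * b * t) := by
    have : t' = (t' / t) * t := by field_simp
    rw [this, hab]; ring
  rw [e]
  exact hadd _ _ (hsq a t hmem) (hneg _ (hsq b t hmem))

theorem rootSubgroup_le_of_mem [Fintype F] (D : ChevalleyDatum) (hD : D ∈ Seven)
    (X : Subgroup (GL D.Idx F))
    (hX : ∀ h ∈ D.diagonalSubgroup F, ∀ x ∈ X, h * x * h⁻¹ ∈ X) (k : ℕ) (hk : k < D.nroots)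
    (t : F) (ht : t ≠ 0) (hmem : xGL D hD k t ∈ X) : D.rootSubgroup F k ≤ X := by
  unfold ChevalleyDatum.rootSubgroup
  rw [Subgroup.closure_le]
  rintro g ⟨t', hg⟩
  have : g = xGL D hD k t' := Units.ext (by rw [hg, xGL_val])
  rw [this]
  exact root_fill D hD X hX k hk t ht hmem t'

end Cfsg.Agent.Lib.Helper1.ChevRootFill
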