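import Mathlib
import Cfsg.Prelude.Def_ChevStructure
import Cfsg.Agent.Lib.Helper1.ChevRootFill
import Cfsg.Agent.Lib.Helper5.ChevComm
import Cfsg.Agent.Lib.Helper5.ChevUOrd
import Cfsg.Agent.Lib.Helper5.ChevBruhat
import Cfsg.Agent.Lib.Helper5.ChevBnB
import Cfsg.Agent.Lib.Helper7.Ch2G4

set_option autoImplicit false

/-!
S2244 unit U3 (`peel_G2_four`): peeling at the long roots of `G₂` over the field with four
elements.
-/

namespace Cfsg.Agent.Lib.Helper1.WC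

open Cfsg Cfsg.Lie Cfsg.Agent.Lib.Helper5.ChevStruct Cfsg.Agent.Lib.Helper5.ChevSym
  Cfsg.Agent.Lib.Helper7.Ch2G

variable {F : Type*} [Field F]

/-- root elements with no commutator terms commute -/
theorem xGL_comm_of_nil (D : ChevalleyDatum) (hD : D ∈ Seven) (r s : ℕ) (hr : r < D.nroots)
    (hs : s < D.nroots) (hrs : s ≠ r) (hneg : s ≠ D.neg r) (hnil : D.commTerms r s = [])
    (t u : F) : xGL D hD s u * xGL D hD r t = xGL D hD r t * xGL D hD s u := by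
  apply Units.ext
  rw [Units.val_mul, Units.val_mul, xGL_val, xGL_val, comm_formula D hD r s hr hs hrs hneg t u]
  unfold ChevalleyDatum.commWord
  rw [hnil]
  simp [ChevalleyDatum.wordMat]

/-- an element of `⟨X_s : s ∈ T⟩` commutes with `g` when all the generators do -/
theorem rootSetSub_comm (D : ChevalleyDatum) (hD : D ∈ Seven) (T : Set ℕ) (g : GL D.Idx F)
    (hg : ∀ s ∈ T, ∀ u : F, xGL D hD s u * g = g * xGL D hD s u) (x : GL D.Idx F)
    (hx : x ∈ rootSetSub D F T) : x * g = g * x := by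
  unfold rootSetSub at hx
  induction hx using Subgroup.closure_induction with
  | mem y hy =>
    obtain ⟨s, u, hs, hy⟩ := hy
    have : y = xGL D hD s u := Units.ext (by rw [hy, xGL_val])
    rw [this]; exact hg s hs u
  | one => simp
  | mul a b _ _ ha hb =>
    calc a * b * g = a * (b * g) := by group
      _ = a * (g * b) := by rw [hb]
      _ = (a * g) * b := by group
      _ = (g * a) * b := by rw [ha]
      _ = _ := by group
  | inv a _ ha =>
    calc a⁻¹ * g = a⁻¹ * (g * a) * a⁻¹ := by group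
      _ = a⁻¹ * (a * g) * a⁻¹ := by rw [ha]
      _ = _ := by group

theorem xGL_zero (D : ChevalleyDatum) (hD : D ∈ Seven) (r : ℕ) : xGL D hD r (0 : F) = 1 := by
  apply Units.ext
  rw [xGL_val, x_at_zero]; rfl

theorem xGL_add' (D : ChevalleyDatum) (hD : D ∈ Seven) (r : ℕ) (a b : F) :
    xGL D hD r (a + b) = xGL D hD r a * xGL D hD r b := by
  apply Units.ext
  rw [Units.val_mul, xGL_val, xGL_val, xGL_val, x_add D hD]

theorem xGL_inv'' (D : ChevalleyDatum) (hD : D ∈ Seven) (r : ℕ) (t : F) :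
    (xGL D hD r t : GL D.Idx F)⁻¹ = xGL D hD r (-t) := by
  rw [inv_eq_iff_mul_eq_one]
  apply Units.ext
  rw [Units.val_mul, xGL_val, xGL_val, Units.val_one, x_mul_neg D hD]

/-- the stripping step: remove the `X_j`-coordinate of the tail -/
theorem strip (D : ChevalleyDatum) (hD : D ∈ Seven) (X : Subgroup (GL D.Idx F))
    (hB : ∀ b ∈ D.borelSubgroup F, ∀ x ∈ X, b * x * b⁻¹ ∈ X)
    (hfull : ∀ k, D.IsPosRoot k → ∀ t : F, t ≠ 0 → xGL D hD k t ∈ X → ∀ t' : F, xGL D hD k t' ∈ X)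
    (k₀ : ℕ) (hk₀ : D.IsPosRoot k₀) (j : ℕ) (hj : D.IsPosRoot j)
    (hpeel : ∀ t : F, ∀ u' ∈ upperSub D F (j + 1), xGL D hD j t * u' ∈ X → xGL D hD j t ∈ X)
    (i : ℕ) (hi : i < D.rank) (z : F) (hz0 : z ≠ 0) (hz6 : z ^ (D.cartan i k₀) = 1)
    (hzj : z ^ (D.cartan i j) ≠ 1) (t : F) (u' : GL D.Idx F) (hu' : u' ∈ upperSub D F j)
    (hg : xGL D hD k₀ t * u' ∈ X) :
    ∃ u'' ∈ upperSub D F (j + 1), xGL D hD k₀ t * u'' ∈ X := by
  obtain ⟨a, up, hup, rfl⟩ := upperSub_decomp D hD j hj u' hu'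
  set h := hGL D hD (D.simple i) z with hh
  have hhH : h ∈ D.diagonalSubgroup F := hGL_simple_mem_diagonal D hD i hi z hz0
  have hhB : h ∈ D.borelSubgroup F := diagonal_le_borel D hhH
  set χ := z ^ (D.cartan i j) with hχ
  -- conjugation by `h`
  have c1 : h * xGL D hD k₀ t * h⁻¹ = xGL D hD k₀ t := by
    rw [hh, hGL_conj_x D hD i hi z hz0 k₀ t, hz6, one_mul]
  have c2 : h * xGL D hD j a * h⁻¹ = xGL D hD j (χ * a) := by
    rw [hh, hGL_conj_x D hD i hi z hz0 j a]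
  have c3 : h * up * h⁻¹ ∈ upperSub D F (j + 1) :=
    diag_conj_mem_rootSetSub D hD _ h hhH up hup
  set g := xGL D hD k₀ t * (xGL D hD j a * up) with hgdef
  have hg' : h * g * h⁻¹ ∈ X := hB h hhB g hg
  have he : g⁻¹ * (h * g * h⁻¹) ∈ X := mul_mem (inv_mem hg) hg'
  -- `e = x_j((χ-1)a) * w`, `w ∈ U_{>j}`
  set c := (χ - 1) * a with hc
  have hxj : xGL D hD j c ∈ D.rootSubgroup F j :=
    Subgroup.subset_closure ⟨c, xGL_val D hD j c⟩
  have hnorm := rootSubgroup_le_normalizer_upperSub (F := F) D hD j hj (inv_mem hxj)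
  have hw1 : (xGL D hD j c)⁻¹ * up⁻¹ * ((xGL D hD j c)⁻¹)⁻¹ ∈ upperSub D F (j + 1) :=
    (Subgroup.mem_normalizer_iff.1 hnorm up⁻¹).1 (inv_mem hup)
  have hxc : xGL D hD j c = (xGL D hD j a)⁻¹ * xGL D hD j (χ * a) := by
    rw [xGL_inv'' D hD j a, ← xGL_add' D hD]
    congr 1
    rw [hc]; ring
  have heq : g⁻¹ * (h * g * h⁻¹) = xGL D hD j c *
      ((xGL D hD j c)⁻¹ * up⁻¹ * ((xGL D hD j c)⁻¹)⁻¹ * (h * up * h⁻¹)) := by
    have e1 : h * g * h⁻¹ = (h * xGL D hD k₀ t * h⁻¹) * ((h * xGL D hD j a * h⁻¹) *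
        (h * up * h⁻¹)) := by
      rw [hgdef]; group
    rw [e1, c1, c2, hgdef]
    have e2 : (xGL D hD k₀ t * (xGL D hD j a * up))⁻¹ * (xGL D hD k₀ t *
        (xGL D hD j (χ * a) * (h * up * h⁻¹)))
        = up⁻¹ * ((xGL D hD j a)⁻¹ * xGL D hD j (χ * a)) * (h * up * h⁻¹) := by group
    rw [e2, ← hxc]; group
  rw [heq] at he
  have hxjX : xGL D hD j c ∈ X := hpeel c _ (mul_mem hw1 c3) he
  -- hence `x_j(a) ∈ X`
  have hxa : xGL D hD j a ∈ X := by
    by_cases ha : a = 0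
    · rw [ha, xGL_zero]; exact one_mem _
    · have hc0 : c ≠ 0 := by
        rw [hc]
        exact mul_ne_zero (sub_ne_zero.2 hzj) ha
      exact hfull j hj c hc0 hxjX a
  -- remove it
  refine ⟨up, hup, ?_⟩
  have hxB : xGL D hD k₀ t ∈ D.borelSubgroup F := pos_le_borel D (xGL_mem_pos D hD k₀ hk₀ t)
  have hy : xGL D hD k₀ t * xGL D hD j a * (xGL D hD k₀ t)⁻¹ ∈ X := hB _ hxB _ hxa
  have : xGL D hD k₀ t * up = (xGL D hD k₀ t * xGL D hD j a * (xGL D hD k₀ t)⁻¹)⁻¹ * g := by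
    rw [hgdef]; group
  rw [this]
  exact mul_mem (inv_mem hy) hg


/-- extracting a commutator from a normal subgroup -/
theorem conj_extract {G : Type*} [Group G] (X P : Subgroup G)
    (hB : ∀ b ∈ P, ∀ x ∈ X, b * x * b⁻¹ ∈ X) (a y u W : G) (hy : y ∈ P) (hu : u ∈ P)
    (hg : a * u ∈ X) (hcomm : y * a = a * y * W) (hc : u * y = y * u) : W ∈ X := by
  have h1 : y * (a * u) * y⁻¹ ∈ X := hB y hy _ hg
  have h2 : (a * u)⁻¹ * (y * (a * u) * y⁻¹) ∈ X := mul_mem (inv_mem hg) h1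
  have hc' : u * y⁻¹ = y⁻¹ * u := by
    calc u * y⁻¹ = y⁻¹ * (y * u) * y⁻¹ := by group
      _ = y⁻¹ * (u * y) * y⁻¹ := by rw [hc]
      _ = _ := by group
  have e : (a * u)⁻¹ * (y * (a * u) * y⁻¹) = (u⁻¹ * y) * W * (u⁻¹ * y)⁻¹ := by
    calc (a * u)⁻¹ * (y * (a * u) * y⁻¹) = u⁻¹ * a⁻¹ * (y * a) * (u * y⁻¹) := by group
      _ = u⁻¹ * a⁻¹ * (a * y * W) * (y⁻¹ * u) := by rw [hcomm, hc']
      _ = _ := by group
  rw [e] at h2
  have hb : (u⁻¹ * y)⁻¹ ∈ P := inv_mem (mul_mem (inv_mem hu) hy)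
  have h3 := hB _ hb _ h2
  have e2 : (u⁻¹ * y)⁻¹ * ((u⁻¹ * y) * W * (u⁻¹ * y)⁻¹) * ((u⁻¹ * y)⁻¹)⁻¹ = W := by group
  rwa [e2] at h3

/-- the commutator formula for the elements `xGL` -/
theorem comm_xGL (D : ChevalleyDatum) (hD : D ∈ Seven) (r s : ℕ) (hr : r < D.nroots)
    (hs : s < D.nroots) (hrs : s ≠ r) (hneg : s ≠ D.neg r) (t u : F) :
    xGL D hD s u * xGL D hD r t
      = xGL D hD r t * xGL D hD s u * wordGL D hD (D.commWord F r s t u) := by
  apply Units.ext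
  rw [Units.val_mul, Units.val_mul, Units.val_mul, xGL_val, xGL_val, wordGL_val,
    comm_formula D hD r s hr hs hrs hneg t u]

theorem upperSub_le_pos (D : ChevalleyDatum) (k : ℕ) : upperSub D F k ≤ D.posUnipotent F := by
  rw [← upperSub_zero]
  apply rootSetSub_mono
  rintro s ⟨-, h2⟩
  exact ⟨Nat.zero_le _, h2⟩

/-- `U_{≥m} ≤ X` when the generators lie in `X` -/
theorem upperSub_le_of (D : ChevalleyDatum) (hD : D ∈ Seven) (X : Subgroup (GL D.Idx F)) (m : ℕ)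
    (h : ∀ s, m ≤ s → D.IsPosRoot s → ∀ u : F, xGL D hD s u ∈ X) : upperSub D F m ≤ X := by
  unfold upperSub rootSetSub
  rw [Subgroup.closure_le]
  rintro y ⟨s, u, ⟨hs1, hs2⟩, hy⟩
  have : y = xGL D hD s u := Units.ext (by rw [hy, xGL_val])
  rw [this]
  exact h s hs1 hs2 u

section G2

theorem g2_nroots : chevG2.nroots = 12 := by decide
theorem g2_pos (k : ℕ) (h1 : 6 ≤ k) (h2 : k < 12) : chevG2.IsPosRoot k := by
  have : k = 6 ∨ k = 7 ∨ k = 8 ∨ k = 9 ∨ k = 10 ∨ k = 11 := by omega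
  rcases this with rfl | rfl | rfl | rfl | rfl | rfl <;> decide
theorem g2_ct_6_10 : chevG2.commTerms 6 10 = [(11, 1, 1, 1)] := by decide
theorem g2_ct_6_7 : chevG2.commTerms 6 7 = [(8, 1, 1, 1), (9, 1, 1, 2), (10, -1, 1, 3),
    (11, -2, 2, 3)] := by decide
theorem g2_ct_6_11 : chevG2.commTerms 6 11 = [] := by decide
theorem g2_ct_10_11 : chevG2.commTerms 10 11 = [] := by decide
theorem g2_ct_7_10 : chevG2.commTerms 7 10 = [] := by decide
theorem g2_ct_7_11 : chevG2.commTerms 7 11 = [] := by decide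
theorem g2_neg6 : chevG2.neg 6 = 5 := by decide
theorem g2_neg7 : chevG2.neg 7 = 4 := by decide
theorem g2_neg10 : chevG2.neg 10 = 1 := by decide
theorem g2_simple0 : chevG2.simple 0 = 7 := by decide
theorem g2_c06 : chevG2.cartan 0 6 = -3 := by decide
theorem g2_c07 : chevG2.cartan 0 7 = 2 := by decide
theorem g2_c08 : chevG2.cartan 0 8 = -1 := by decide
theorem g2_c09 : chevG2.cartan 0 9 = 1 := by decide

variable (hD : chevG2 ∈ Seven)

/-- `x_10(u) x_6(t) = x_6(t) x_10(u) x_11(-t u)` -/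
theorem g2_comm_6_10 (t u : F) : xGL chevG2 hD 10 u * xGL chevG2 hD 6 t
    = xGL chevG2 hD 6 t * xGL chevG2 hD 10 u * xGL chevG2 hD 11 (-t * u) := by
  rw [comm_xGL chevG2 hD 6 10 (by decide) (by decide) (by decide) (by decide) t u]
  unfold ChevalleyDatum.commWord
  rw [g2_ct_6_10]
  simp [wordGL]

/-- `x_7(u) x_6(t) = x_6(t) x_7(u) x_8(-tu) x_9(-tu²) x_10(tu³) x_11(-2t²u³)` -/
theorem g2_comm_6_7 (t u : F) : xGL chevG2 hD 7 u * xGL chevG2 hD 6 t
    = xGL chevG2 hD 6 t * xGL chevG2 hD 7 u * (xGL chevG2 hD 8 (-t * u) *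
      (xGL chevG2 hD 9 (-t * u ^ 2) * (xGL chevG2 hD 10 (t * u ^ 3) *
        xGL chevG2 hD 11 (-2 * t ^ 2 * u ^ 3)))) := by
  rw [comm_xGL chevG2 hD 6 7 (by decide) (by decide) (by decide) (by decide) t u]
  unfold ChevalleyDatum.commWord
  rw [g2_ct_6_7]
  simp [wordGL]

/-- elements of `U_{≥10}` commute with `x_10(v)` and `x_7(v)`; of `U_{≥11}` with `x_6(v)` -/
theorem g2_comm_upper10_x10 (v : F) (x : GL chevG2.Idx F) (hx : x ∈ upperSub chevG2 F 10) :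
    x * xGL chevG2 hD 10 v = xGL chevG2 hD 10 v * x := by
  apply rootSetSub_comm chevG2 hD _ _ _ x hx
  rintro s ⟨h1, h2⟩ u
  have hs : s < 12 := by have := h2.1; rwa [g2_nroots] at this
  have : s = 10 ∨ s = 11 := by omega
  rcases this with rfl | rfl
  · rw [← xGL_add', ← xGL_add', add_comm]
  · exact xGL_comm_of_nil chevG2 hD 10 11 (by decide) (by decide) (by decide) (by decide)
      g2_ct_10_11 v u

theorem g2_comm_upper10_x7 (v : F) (x : GL chevG2.Idx F) (hx : x ∈ upperSub chevG2 F 10) :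
    x * xGL chevG2 hD 7 v = xGL chevG2 hD 7 v * x := by
  apply rootSetSub_comm chevG2 hD _ _ _ x hx
  rintro s ⟨h1, h2⟩ u
  have hs : s < 12 := by have := h2.1; rwa [g2_nroots] at this
  have : s = 10 ∨ s = 11 := by omega
  rcases this with rfl | rfl
  · exact xGL_comm_of_nil chevG2 hD 7 10 (by decide) (by decide) (by decide) (by decide)
      g2_ct_7_10 v u
  · exact xGL_comm_of_nil chevG2 hD 7 11 (by decide) (by decide) (by decide) (by decide)
      g2_ct_7_11 v u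

theorem g2_comm_upper11_x6 (v : F) (x : GL chevG2.Idx F) (hx : x ∈ upperSub chevG2 F 11) :
    x * xGL chevG2 hD 6 v = xGL chevG2 hD 6 v * x := by
  apply rootSetSub_comm chevG2 hD _ _ _ x hx
  rintro s ⟨h1, h2⟩ u
  have hs : s < 12 := by have := h2.1; rwa [g2_nroots] at this
  have : s = 11 := by omega
  subst this
  exact xGL_comm_of_nil chevG2 hD 6 11 (by decide) (by decide) (by decide) (by decide)
    g2_ct_6_11 v u

/-- from `x_6(t) u₃ ∈ X`, `u₃ ∈ U_{≥10}` or `x_10(t) u' ∈ X`: all of `X_11` lies in `X` -/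
theorem g2_x11_of_10 (X : Subgroup (GL chevG2.Idx F))
    (hB : ∀ b ∈ chevG2.borelSubgroup F, ∀ x ∈ X, b * x * b⁻¹ ∈ X)
    (t : F) (u' : GL chevG2.Idx F) (hu' : u' ∈ upperSub chevG2 F 11)
    (hg : xGL chevG2 hD 10 t * u' ∈ X) (v : F) : xGL chevG2 hD 11 (-v * t) ∈ X := by
  have hU : ∀ k, 6 ≤ k → k < 12 → ∀ c : F, xGL chevG2 hD k c ∈ chevG2.borelSubgroup F :=
    fun k h1 h2 c => pos_le_borel chevG2 (xGL_mem_pos chevG2 hD k (g2_pos k h1 h2) c)
  set g := xGL chevG2 hD 10 t * u' with hgdef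
  have h1 : xGL chevG2 hD 6 v * g * (xGL chevG2 hD 6 v)⁻¹ ∈ X := hB _ (hU 6 (by omega) (by omega) v) g hg
  have h2 : g⁻¹ * (xGL chevG2 hD 6 v * g * (xGL chevG2 hD 6 v)⁻¹) ∈ X := mul_mem (inv_mem hg) h1
  have hc := g2_comm_upper11_x6 hD v u' hu'
  have hcomm := g2_comm_6_10 hD v t
  have hu'B : u' ∈ chevG2.borelSubgroup F := pos_le_borel chevG2 (upperSub_le_pos chevG2 11 hu')
  -- `x_6(v) x_10(t) = x_10(t) x_6(v) x_11(-vt)⁻¹ ...`: rewrite via `hcomm`
  have e : g⁻¹ * (xGL chevG2 hD 6 v * g * (xGL chevG2 hD 6 v)⁻¹)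
      = (u'⁻¹ * xGL chevG2 hD 6 v) * (xGL chevG2 hD 11 (-v * t))⁻¹ * (u'⁻¹ * xGL chevG2 hD 6 v)⁻¹ := by
    have e1 : xGL chevG2 hD 6 v * xGL chevG2 hD 10 t
        = xGL chevG2 hD 10 t * xGL chevG2 hD 6 v * (xGL chevG2 hD 11 (-v * t))⁻¹ := by
      rw [hcomm]; group
    have hc' : u' * (xGL chevG2 hD 6 v)⁻¹ = (xGL chevG2 hD 6 v)⁻¹ * u' := by
      calc u' * (xGL chevG2 hD 6 v)⁻¹
          = (xGL chevG2 hD 6 v)⁻¹ * (xGL chevG2 hD 6 v * u') * (xGL chevG2 hD 6 v)⁻¹ := by group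
        _ = (xGL chevG2 hD 6 v)⁻¹ * (u' * xGL chevG2 hD 6 v) * (xGL chevG2 hD 6 v)⁻¹ := by rw [hc]
        _ = _ := by group
    calc g⁻¹ * (xGL chevG2 hD 6 v * g * (xGL chevG2 hD 6 v)⁻¹)
        = u'⁻¹ * (xGL chevG2 hD 10 t)⁻¹ * (xGL chevG2 hD 6 v * xGL chevG2 hD 10 t) *
          (u' * (xGL chevG2 hD 6 v)⁻¹) := by
          rw [hgdef]; group
      _ = u'⁻¹ * (xGL chevG2 hD 10 t)⁻¹ * (xGL chevG2 hD 10 t * xGL chevG2 hD 6 v *
          (xGL chevG2 hD 11 (-v * t))⁻¹) * ((xGL chevG2 hD 6 v)⁻¹ * u') := by rw [e1, hc']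
      _ = _ := by group
  rw [e] at h2
  have hbB : (u'⁻¹ * xGL chevG2 hD 6 v)⁻¹ ∈ chevG2.borelSubgroup F :=
    inv_mem (mul_mem (inv_mem hu'B) (hU 6 (by omega) (by omega) v))
  have h3 := hB _ hbB _ h2
  have e2 : (u'⁻¹ * xGL chevG2 hD 6 v)⁻¹ * ((u'⁻¹ * xGL chevG2 hD 6 v) *
      (xGL chevG2 hD 11 (-v * t))⁻¹ * (u'⁻¹ * xGL chevG2 hD 6 v)⁻¹) *
      ((u'⁻¹ * xGL chevG2 hD 6 v)⁻¹)⁻¹ = (xGL chevG2 hD 11 (-v * t))⁻¹ := by group
  rw [e2] at h3
  have := inv_mem h3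
  rwa [inv_inv] at this

/-- unit U3 -/
theorem peel_G2_four [Fintype F] (h4 : Fintype.card F = 4)
    (X : Subgroup (GL chevG2.Idx F)) (hXU : X ≤ chevG2.posUnipotent F)
    (hB : ∀ b ∈ chevG2.borelSubgroup F, ∀ x ∈ X, b * x * b⁻¹ ∈ X)
    (hshort : ∀ k, chevG2.IsPosRoot k → ¬ (k = 6 ∨ k = 10 ∨ k = 11) →
      ∀ t : F, ∀ u' ∈ upperSub chevG2 F (k + 1), xGL chevG2 hD k t * u' ∈ X →
        xGL chevG2 hD k t ∈ X)
    (k : ℕ) (hk : k = 6 ∨ k = 10 ∨ k = 11) :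
    ∀ t : F, ∀ u' ∈ upperSub chevG2 F (k + 1), xGL chevG2 hD k t * u' ∈ X →
      xGL chevG2 hD k t ∈ X := by
  have hH : ∀ h ∈ chevG2.diagonalSubgroup F, ∀ x ∈ X, h * x * h⁻¹ ∈ X := fun h hh x hx =>
    hB h (diagonal_le_borel chevG2 hh) x hx
  have hfull : ∀ k, chevG2.IsPosRoot k → ∀ t : F, t ≠ 0 → xGL chevG2 hD k t ∈ X →
      ∀ t' : F, xGL chevG2 hD k t' ∈ X := fun k hk t ht hx =>
    Cfsg.Agent.Lib.Helper1.ChevRootFill.root_fill chevG2 hD X hH k hk.1 t ht hx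
  have hU : ∀ k, 6 ≤ k → k < 12 → ∀ c : F, xGL chevG2 hD k c ∈ chevG2.borelSubgroup F :=
    fun k h1 h2 c => pos_le_borel chevG2 (xGL_mem_pos chevG2 hD k (g2_pos k h1 h2) c)
  have hupB : ∀ m, ∀ x ∈ upperSub chevG2 F m, x ∈ chevG2.borelSubgroup F := fun m x hx =>
    pos_le_borel chevG2 (upperSub_le_pos chevG2 m hx)
  -- all of `X_11` from one `x_10(t) u'`
  have h11 : ∀ t : F, t ≠ 0 → ∀ u' ∈ upperSub chevG2 F 11, xGL chevG2 hD 10 t * u' ∈ X →
      upperSub chevG2 F 11 ≤ X := by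
    intro t ht u' hu' hg
    have h1 := g2_x11_of_10 hD X hB t u' hu' hg 1
    have h2 := hfull 11 (g2_pos 11 (by omega) (by omega)) _ (by simpa using ht) h1
    apply upperSub_le_of chevG2 hD X 11
    intro s hs1 hs2 u
    have hs : s < 12 := by have := hs2.1; rwa [g2_nroots] at this
    have : s = 11 := by omega
    subst this
    exact h2 u
  intro t u' hu' hg
  by_cases ht : t = 0
  · rw [ht, xGL_zero]; exact one_mem _
  rcases hk with rfl | rfl | rfl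
  · -- `k = 6`
    -- an element of order three
    obtain ⟨z, hz0, hz1⟩ : ∃ z : F, z ≠ 0 ∧ z ≠ 1 := by
      classical
      by_contra hcon
      have hall : ∀ x : F, x = 0 ∨ x = 1 := by
        intro x
        by_contra h
        exact hcon ⟨x, fun h0 => h (Or.inl h0), fun h1 => h (Or.inr h1)⟩
      have hsub : (Finset.univ : Finset F) ⊆ {0, 1} := by
        intro x _
        rcases hall x with hx | hx
        · simp [hx]
        · simp [hx]
      have := Finset.card_le_card hsub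
      rw [Finset.card_univ, h4] at this
      have h2 : ({0, 1} : Finset F).card ≤ 2 := Finset.card_le_two
      omega
    have hz3 : z ^ 3 = 1 := by
      have := FiniteField.pow_card_sub_one_eq_one z hz0
      rwa [h4] at this
    have hpos : ∀ j, 6 ≤ j → j < 12 → chevG2.IsPosRoot j := g2_pos
    have hns : ∀ j, (j = 7 ∨ j = 8 ∨ j = 9) → ¬ (j = 6 ∨ j = 10 ∨ j = 11) := by omega
    have hz6 : z ^ (chevG2.cartan 0 6) = 1 := by
      rw [g2_c06]
      have : z ^ (-3 : ℤ) = (z ^ 3)⁻¹ := by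
        rw [zpow_neg]; norm_cast
      rw [this, hz3, inv_one]
    have hz7 : z ^ (chevG2.cartan 0 7) ≠ 1 := by
      rw [g2_c07]
      intro h
      have h' : z ^ 2 = 1 := by exact_mod_cast h
      apply hz1
      calc z = z ^ 3 * (z ^ 2)⁻¹ := by
            rw [pow_succ z 2]; field_simp
        _ = 1 := by rw [hz3, h', inv_one, one_mul]
    have hz8 : z ^ (chevG2.cartan 0 8) ≠ 1 := by
      rw [g2_c08, zpow_neg_one]
      intro h
      exact hz1 (inv_eq_one.1 h)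
    have hz9 : z ^ (chevG2.cartan 0 9) ≠ 1 := by
      rw [g2_c09, zpow_one]; exact hz1
    obtain ⟨u₁, hu₁, hg₁⟩ := strip chevG2 hD X hB hfull 6 (hpos 6 (by omega) (by omega)) 7
      (hpos 7 (by omega) (by omega)) (hshort 7 (hpos 7 (by omega) (by omega)) (hns 7 (by omega)))
      0 (by decide) z hz0 hz6 hz7 t u' hu' hg
    obtain ⟨u₂, hu₂, hg₂⟩ := strip chevG2 hD X hB hfull 6 (hpos 6 (by omega) (by omega)) 8
      (hpos 8 (by omega) (by omega)) (hshort 8 (hpos 8 (by omega) (by omega)) (hns 8 (by omega)))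
      0 (by decide) z hz0 hz6 hz8 t u₁ hu₁ hg₁
    obtain ⟨u₃, hu₃, hg₃⟩ := strip chevG2 hD X hB hfull 6 (hpos 6 (by omega) (by omega)) 9
      (hpos 9 (by omega) (by omega)) (hshort 9 (hpos 9 (by omega) (by omega)) (hns 9 (by omega)))
      0 (by decide) z hz0 hz6 hz9 t u₂ hu₂ hg₂
    -- step A: `X_11 ≤ X`
    have hA : xGL chevG2 hD 11 (-t * 1) ∈ X :=
      conj_extract X (chevG2.borelSubgroup F) hB (xGL chevG2 hD 6 t) (xGL chevG2 hD 10 1) u₃ _
        (hU 10 (by omega) (by omega) 1) (hupB 10 u₃ hu₃) hg₃ (g2_comm_6_10 hD t 1)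
        (g2_comm_upper10_x10 hD 1 u₃ hu₃)
    have h11all := hfull 11 (g2_pos 11 (by omega) (by omega)) _ (by simpa using ht) hA
    -- step B
    have hW := conj_extract X (chevG2.borelSubgroup F) hB (xGL chevG2 hD 6 t) (xGL chevG2 hD 7 1)
      u₃ _ (hU 7 (by omega) (by omega) 1) (hupB 10 u₃ hu₃) hg₃ (g2_comm_6_7 hD t 1)
      (g2_comm_upper10_x7 hD 1 u₃ hu₃)
    -- peel at 8
    have hxm : ∀ (m s : ℕ), m ≤ s → 6 ≤ s → s < 12 → ∀ c : F,
        xGL chevG2 hD s c ∈ upperSub chevG2 F m := fun m s hms h6 h12 c =>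
      xGL_mem_rootSetSub chevG2 hD {s | m ≤ s ∧ chevG2.IsPosRoot s} s ⟨hms, g2_pos s h6 h12⟩ c
    have hx10 : ∀ c : F, xGL chevG2 hD 10 c ∈ upperSub chevG2 F 10 := fun c =>
      hxm 10 10 (by omega) (by omega) (by omega) c
    have hx11 : ∀ (m : ℕ), m ≤ 11 → ∀ c : F, xGL chevG2 hD 11 c ∈ upperSub chevG2 F m :=
      fun m hm c => hxm m 11 hm (by omega) (by omega) c
    have hx9 : ∀ c : F, xGL chevG2 hD 9 c ∈ upperSub chevG2 F 9 := fun c =>
      hxm 9 9 (by omega) (by omega) (by omega) c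
    have ht10 : xGL chevG2 hD 10 (t * 1 ^ 3) * xGL chevG2 hD 11 (-2 * t ^ 2 * 1 ^ 3)
        ∈ upperSub chevG2 F 10 := mul_mem (hx10 _) (hx11 10 (by omega) _)
    have ht9 : xGL chevG2 hD 9 (-t * 1 ^ 2) * (xGL chevG2 hD 10 (t * 1 ^ 3) *
        xGL chevG2 hD 11 (-2 * t ^ 2 * 1 ^ 3)) ∈ upperSub chevG2 F 9 :=
      mul_mem (hx9 _) (upperSub_succ_le chevG2 9 ht10)
    have h8 := hshort 8 (hpos 8 (by omega) (by omega)) (hns 8 (by omega)) _ _ ht9 hW
    have hW1 : xGL chevG2 hD 9 (-t * 1 ^ 2) * (xGL chevG2 hD 10 (t * 1 ^ 3) *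
        xGL chevG2 hD 11 (-2 * t ^ 2 * 1 ^ 3)) ∈ X := by
      have := mul_mem (inv_mem h8) hW
      rwa [inv_mul_cancel_left] at this
    have h9 := hshort 9 (hpos 9 (by omega) (by omega)) (hns 9 (by omega)) _ _ ht10 hW1
    have hW2 : xGL chevG2 hD 10 (t * 1 ^ 3) * xGL chevG2 hD 11 (-2 * t ^ 2 * 1 ^ 3) ∈ X := by
      have := mul_mem (inv_mem h9) hW1
      rwa [inv_mul_cancel_left] at this
    have h10 : xGL chevG2 hD 10 (t * 1 ^ 3) ∈ X := by
      have := mul_mem hW2 (inv_mem (h11all (-2 * t ^ 2 * 1 ^ 3)))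
      rwa [mul_inv_cancel_right] at this
    have h10all := hfull 10 (g2_pos 10 (by omega) (by omega)) _ (by simpa using ht) h10
    -- conclusion
    have hle : upperSub chevG2 F 10 ≤ X := by
      apply upperSub_le_of chevG2 hD X 10
      intro s hs1 hs2 u
      have hs : s < 12 := by have := hs2.1; rwa [g2_nroots] at this
      have : s = 10 ∨ s = 11 := by omega
      rcases this with rfl | rfl
      · exact h10all u
      · exact h11all u
    have := mul_mem hg₃ (inv_mem (hle hu₃))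
    rwa [mul_inv_cancel_right] at this
  · -- `k = 10`
    have hle := h11 t ht u' hu' hg
    have := mul_mem hg (inv_mem (hle hu'))
    rwa [mul_inv_cancel_right] at this
  · -- `k = 11`
    have : upperSub chevG2 F (11 + 1) = ⊥ := upperSub_of_ge chevG2 12 (by rw [g2_nroots])
    rw [this, Subgroup.mem_bot] at hu'
    rw [hu', mul_one] at hg
    exact hg

end G2

end Cfsg.Agent.Lib.Helper1.WC
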