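import Mathlib
import Cfsg.Agent.Lib.Helper1.AutGlue
import Cfsg.Agent.Lib.Helper1.AutA1
import Cfsg.Agent.Lib.Helper1.AutB2
import Cfsg.Agent.Lib.Helper1.AutB4
import Cfsg.Agent.Lib.Helper8.AutA2
import Cfsg.Agent.Lib.Helper7.AutA3
import Cfsg.Agent.Lib.Helper4.AutB1
import Cfsg.Agent.Lib.Helper8.AutB5
import Cfsg.Agent.Lib.Helper8.AutB6
import Cfsg.Agent.Lib.Helper2.AutC3
import Cfsg.Agent.Lib.Helper8.AutD1
import Cfsg.Agent.Lib.Helper8.AutD2

set_option autoImplicit false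

/-!
S2156 farm: the assembly.  `aut_decomp_of` takes the two rank-one / per-type units C12 and C4 as
hypotheses.
-/

namespace Cfsg.Agent.Lib.Helper1.ChevAut

open Cfsg Cfsg.Lie Cfsg.Agent.Lib.Helper5.ChevStruct Cfsg.Agent.Lib.Helper5.ChevSym

variable {F : Type*} [Field F]

/-- **A4** some inner twist of `θ` preserves both `U` and `V`. -/
theorem exists_conj_maps_pos_neg [Finite F] (D : ChevalleyDatum) (hD : D ∈ Seven)
    (θ : ↥(D.group F) ≃* ↥(D.group F)) :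
    ∃ x : ↥(D.group F),
      Maps D (θ.trans (MulAut.conj x)) (D.posUnipotent F) (D.posUnipotent F) ∧
      Maps D (θ.trans (MulAut.conj x)) (D.negUnipotent F) (D.negUnipotent F) :=
  exists_conj_maps_pos_neg_of D hD θ (exists_conj_maps_pos D hD θ)
    (fun w hw g hg hdisj => Cfsg.Agent.Lib.Helper7.ChevAut.disjoint_conj D hD w hw g hg hdisj)

/-- **B3** the negative fundamental root subgroups are permuted. -/
theorem maps_neg_simple (D : ChevalleyDatum) (hD : D ∈ Seven) (θ : ↥(D.group F) ≃* ↥(D.group F))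
    (hU : Maps D θ (D.posUnipotent F) (D.posUnipotent F))
    (hV : Maps D θ (D.negUnipotent F) (D.negUnipotent F)) :
    ∃ ρ : Equiv.Perm (Fin D.rank), ∀ i : Fin D.rank,
      Maps D θ (D.rootSubgroup F (D.neg (D.simple i)))
        (D.rootSubgroup F (D.neg (D.simple (ρ i)))) :=
  maps_neg_simple_of D hD θ hU hV
    (fun h => Cfsg.Agent.Lib.Helper8.ChevAut.maps_borel D hD θ h)
    (fun h => Cfsg.Agent.Lib.Helper4.AutB1.exists_perm_parabolic D hD θ h)
    (fun i hi g hg hgV => parabolic_inf_neg D hD i hi g hg hgV)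

/-- **B4** the positive fundamental root subgroups are permuted. -/
theorem maps_pos_simple (D : ChevalleyDatum) (hD : D ∈ Seven) (θ : ↥(D.group F) ≃* ↥(D.group F))
    (hU : Maps D θ (D.posUnipotent F) (D.posUnipotent F))
    (hV : Maps D θ (D.negUnipotent F) (D.negUnipotent F)) :
    ∃ ρ : Equiv.Perm (Fin D.rank), ∀ i : Fin D.rank,
      Maps D θ (D.rootSubgroup F (D.simple i)) (D.rootSubgroup F (D.simple (ρ i))) :=
  maps_pos_simple_of D hD θ hU hV (fun θ' h1 h2 => maps_neg_simple D hD θ' h1 h2)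

/-- the statement of unit **C12** -/
def RankOneForm (D : ChevalleyDatum) (hD : D ∈ Seven) (F : Type*) [Field F] : Prop :=
  ∀ (r r' : ℕ), r < D.nroots → r' < D.nroots → ∀ θ : ↥(D.group F) ≃* ↥(D.group F),
    Maps D θ (D.rootSubgroup F r) (D.rootSubgroup F r') →
    Maps D θ (D.rootSubgroup F (D.neg r)) (D.rootSubgroup F (D.neg r')) →
    ∃ (c : Fˣ) (σ : F ≃+* F),
      (∀ t, θ (xG D hD r t) = xG D hD r' ((c : F) * σ t)) ∧
      (∀ t, θ (xG D hD (D.neg r) t) = xG D hD (D.neg r') (((c⁻¹ : Fˣ) : F) * σ t)) ∧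
      (∀ t, t ≠ 0 → ∀ g : ↥(D.group F), (g : GL D.Idx F) = hGL D hD r t →
        (θ g : GL D.Idx F) = hGL D hD r' (σ t))

/-- the statement of unit **C4** -/
def CommonSigma (D : ChevalleyDatum) (F : Type*) [Field F] : Prop :=
  ∀ (π : Equiv.Perm (Fin D.rank)), D.IsDiagramSymmetry π → ∀ σ : Fin D.rank → (F ≃+* F),
    (∀ i k : Fin D.rank, ∀ t : F, t ≠ 0 →
      (σ i t) ^ (D.cartan (π i) (D.simple (π k))) = (σ k t) ^ (D.cartan i (D.simple k))) →
    ∃ τ : F ≃+* F, ∀ (i : Fin D.rank) (t : F),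
      σ i t = (τ t) ^ (D.graphExp (ringChar F) i (π i))

/-- the automorphism theorem, given the units C12 and C4; the extra information `π`, `x` is kept
for the description of `Out`. -/
theorem aut_decomp_of [Finite F] (D : ChevalleyDatum) (hD : D ∈ Seven)
    (hC12 : RankOneForm D hD F) (hC4 : CommonSigma D F)
    (θ : ↥(D.group F) ≃* ↥(D.group F)) :
    ∃ (x : ↥(D.group F)) (d g f : ↥(D.group F) ≃* ↥(D.group F)),
      D.IsDiagonalAut d ∧ D.IsGraphAut g ∧ D.IsFieldAut f ∧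
        ∀ y : ↥(D.group F), θ y = x * d (g (f y)) * x⁻¹ := by
  obtain ⟨x, hU, hV⟩ := exists_conj_maps_pos_neg D hD θ
  obtain ⟨ρ, hneg⟩ := maps_neg_simple D hD _ hU hV
  obtain ⟨ρ', hpos⟩ := maps_pos_simple D hD _ hU hV
  have hρ : ρ' = ρ := Cfsg.Agent.Lib.Helper8.ChevAut.perm_eq_of_maps D hD _ ρ ρ' hneg hpos
  subst hρ
  have hsym := Cfsg.Agent.Lib.Helper8.ChevAut.isDiagramSymmetry_of_maps D hD _ ρ' hpos
  have hsl : ∀ i : Fin D.rank, D.simple i < D.nroots := fun i => simple_lt D hD i i.2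
  have hr1 : ∀ i : Fin D.rank, ∃ (c : Fˣ) (σ : F ≃+* F),
      (∀ t, (θ.trans (MulAut.conj x)) (xG D hD (D.simple i) t)
        = xG D hD (D.simple (ρ' i)) ((c : F) * σ t)) ∧
      (∀ t, (θ.trans (MulAut.conj x)) (xG D hD (D.neg (D.simple i)) t)
        = xG D hD (D.neg (D.simple (ρ' i))) (((c⁻¹ : Fˣ) : F) * σ t)) ∧
      (∀ t, t ≠ 0 → ∀ g : ↥(D.group F), (g : GL D.Idx F) = hGL D hD (D.simple i) t →
        ((θ.trans (MulAut.conj x)) g : GL D.Idx F) = hGL D hD (D.simple (ρ' i)) (σ t)) :=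
    fun i => hC12 (D.simple i) (D.simple (ρ' i)) (hsl i) (hsl (ρ' i)) _ (hpos i) (hneg i)
  choose c σ h1 h2 h3 using hr1
  have hrel : ∀ i k : Fin D.rank, ∀ t : F, t ≠ 0 →
      (σ i t) ^ (D.cartan (ρ' i) (D.simple (ρ' k))) = (σ k t) ^ (D.cartan i (D.simple k)) :=
    fun i k => Cfsg.Agent.Lib.Helper2.ChevAut.rank_two_rel D hD _ i k (ρ' i) (ρ' k) i.2 k.2
      (ρ' i).2 (ρ' k).2 (c k) (σ i) (σ k) (h3 i) (h1 k)
  obtain ⟨τ, hτ⟩ := hC4 ρ' hsym σ hrel
  obtain ⟨f, hf, hfx⟩ := Cfsg.Agent.Lib.Helper8.ChevAut.exists_fieldAut D hD τ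
  obtain ⟨d, hd, hdx⟩ := Cfsg.Agent.Lib.Helper8.ChevAut.exists_diagAut D hD
    (fun j => c (ρ'.symm j))
  have hfs : ∀ (r : ℕ) (t : F), f.symm (xG D hD r t) = xG D hD r (τ.symm t) := fun r t => by
    rw [MulEquiv.symm_apply_eq, hfx, RingEquiv.apply_symm_apply]
  refine ⟨x⁻¹, d, (f.symm.trans (θ.trans (MulAut.conj x))).trans d.symm, f, hd, ?_, hf, ?_⟩
  · refine ⟨ρ', hsym, fun z i t => ⟨fun hz => ?_, fun hz => ?_⟩⟩
    · rw [eq_xG_of_val D hD _ _ z hz]
      have e2 : d.symm (xG D hD (D.simple (ρ' i))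
          ((c i : F) * t ^ D.graphExp (ringChar F) i (ρ' i)))
          = xG D hD (D.simple (ρ' i)) (t ^ D.graphExp (ringChar F) i (ρ' i)) := by
        rw [MulEquiv.symm_apply_eq, (hdx (ρ' i) _).1]
        simp
      rw [MulEquiv.trans_apply, MulEquiv.trans_apply, hfs, h1 i, hτ i,
        RingEquiv.apply_symm_apply, e2]
      rfl
    · rw [eq_xG_of_val D hD _ _ z hz]
      have e2 : d.symm (xG D hD (D.neg (D.simple (ρ' i)))
          ((((c i)⁻¹ : Fˣ) : F) * t ^ D.graphExp (ringChar F) i (ρ' i)))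
          = xG D hD (D.neg (D.simple (ρ' i))) (t ^ D.graphExp (ringChar F) i (ρ' i)) := by
        rw [MulEquiv.symm_apply_eq, (hdx (ρ' i) _).2]
        simp
      rw [MulEquiv.trans_apply, MulEquiv.trans_apply, hfs, h2 i, hτ i,
        RingEquiv.apply_symm_apply, e2]
      rfl
  · intro y
    have e : d (((f.symm.trans (θ.trans (MulAut.conj x))).trans d.symm) (f y))
        = x * θ y * x⁻¹ := by
      simp [MulEquiv.trans_apply, MulAut.conj_apply]
    rw [e]
    group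

end Cfsg.Agent.Lib.Helper1.ChevAut
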