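import Mathlib

set_option autoImplicit false

/-!
# S4067 (automorphism orbits of a non-abelian group): shared definitions
-/

namespace Cfsg.Agent.Lib.Helper1.AutOrb

/-- the standing hypotheses of the exceptional case: `G'` has prime order `p`, is central, and `p` is the
least prime divisor of `|G|`. -/
structure Cl2 (G : Type*) [Group G] (p : ℕ) : Prop where
  hp : p.Prime
  hmin : p = (Nat.card G).minFac
  card : Nat.card (commutator G) = p
  central : commutator G ≤ Subgroup.center G

/-- what the automorphism construction delivers. -/
def Good (G : Type*) [Group G] (p : ℕ) : Prop :=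
  ∃ M W : Subgroup G, Subgroup.center G ≤ M ∧ M.index = p ∧ commutator G ≤ W ∧ Nat.card W = p ^ 2 ∧
    ∀ x : G, x ∉ M → ∀ u ∈ W, ∃ α : MulAut G, α x = x * u

end Cfsg.Agent.Lib.Helper1.AutOrb
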