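import Mathlib
import Cfsg.Agent.Lib.Helper1.AutOrbDefs

set_option autoImplicit false
set_option linter.unusedVariables false
set_option linter.style.longLine false

/-!
# S4067: the elementary facts on a group with central derived subgroup of prime order
-/

namespace Cfsg.Agent.Lib.Helper1.AutOrb

open scoped commutatorElement

variable {G : Type*} [Group G] {p : ℕ}

theorem comm_mem_commutator (g x : G) : ⁅g, x⁆ ∈ commutator G :=
  Subgroup.commutator_mem_commutator (Subgroup.mem_top g) (Subgroup.mem_top x)

theorem comm_mem_center (H : Cl2 G p) (g x : G) : ⁅g, x⁆ ∈ Subgroup.center G :=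
  H.central (comm_mem_commutator g x)

theorem comm_mul_left (H : Cl2 G p) (g h x : G) : ⁅g * h, x⁆ = ⁅g, x⁆ * ⁅h, x⁆ := by
  have hc := comm_mem_center H h x
  have h1 : ⁅g * h, x⁆ = g * ⁅h, x⁆ * g⁻¹ * ⁅g, x⁆ := by
    simp only [commutatorElement_def]; group
  rw [h1]
  have h2 : g * ⁅h, x⁆ = ⁅h, x⁆ * g := ((Subgroup.mem_center_iff.mp hc) g)
  rw [h2]
  have h3 : ⁅h, x⁆ * g * g⁻¹ = ⁅h, x⁆ := by group
  rw [h3]
  exact ((Subgroup.mem_center_iff.mp (comm_mem_center H g x)) ⁅h, x⁆)

/-- `g ↦ ⁅g, x⁆` as a homomorphism into the derived subgroup. -/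
def kap (H : Cl2 G p) (x : G) : G →* commutator G where
  toFun g := ⟨⁅g, x⁆, comm_mem_commutator g x⟩
  map_one' := by
    apply Subtype.ext
    simp
  map_mul' g h := by
    apply Subtype.ext
    simp only [Subgroup.coe_mul]
    exact comm_mul_left H g h x

theorem kap_apply (H : Cl2 G p) (x g : G) : ((kap H x g : commutator G) : G) = ⁅g, x⁆ := rfl

theorem comm_eq_one_iff (g x : G) : ⁅g, x⁆ = 1 ↔ g * x = x * g := by
  rw [commutatorElement_def]
  constructor
  · intro h
    have : g * x = (g * x * g⁻¹ * x⁻¹) * (x * g) := by group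
    rw [this, h, one_mul]
  · intro h
    have : g * x * g⁻¹ * x⁻¹ = (g * x) * (x * g)⁻¹ := by group
    rw [this, h, mul_inv_cancel]

theorem kap_ker (H : Cl2 G p) (x : G) : (kap H x).ker = Subgroup.centralizer ({x} : Set G) := by
  ext g
  rw [MonoidHom.mem_ker, Subgroup.mem_centralizer_singleton_iff]
  constructor
  · intro h
    have h1 : ⁅g, x⁆ = 1 := by
      have := congrArg Subtype.val h
      simpa [kap_apply] using this
    exact ((comm_eq_one_iff g x).mp h1)
  · intro h
    apply Subtype.ext
    rw [kap_apply]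
    exact (comm_eq_one_iff g x).mpr h

variable [Finite G]

theorem kap_surjective (H : Cl2 G p) (x : G) (hx : x ∉ Subgroup.center G) :
    Function.Surjective (kap H x) := by
  haveI : Fact p.Prime := ⟨H.hp⟩
  rw [← MonoidHom.range_eq_top]
  have hdvd : Nat.card (kap H x).range ∣ p := by
    have := Subgroup.card_subgroup_dvd_card (kap H x).range
    rwa [H.card] at this
  rcases (Nat.dvd_prime H.hp).mp hdvd with h1 | h1
  · exfalso
    apply hx
    rw [Subgroup.mem_center_iff]
    intro g
    have hbot : (kap H x).range = ⊥ := Subgroup.card_eq_one.mp h1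
    have hg : kap H x g ∈ (kap H x).range := ⟨g, rfl⟩
    rw [hbot, Subgroup.mem_bot] at hg
    have h2 : ⁅g, x⁆ = 1 := by
      have := congrArg Subtype.val hg
      simpa [kap_apply] using this
    exact (comm_eq_one_iff g x).mp h2
  · apply Subgroup.eq_top_of_card_eq
    rw [h1, H.card]

/-- C2 -/
theorem index_centralizer (H : Cl2 G p) (x : G) (hx : x ∉ Subgroup.center G) :
    (Subgroup.centralizer ({x} : Set G)).index = p := by
  rw [← kap_ker H x, Subgroup.index_ker, MonoidHom.range_eq_top.mpr (kap_surjective H x hx)]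
  rw [Subgroup.card_top, H.card]

/-- C3 -/
theorem conj_eq_mul (H : Cl2 G p) (x : G) (hx : x ∉ Subgroup.center G) (c : G)
    (hc : c ∈ commutator G) : ∃ g : G, g * x * g⁻¹ = x * c := by
  obtain ⟨g, hg⟩ := kap_surjective H x hx ⟨c, hc⟩
  have h1 : ⁅g, x⁆ = c := by
    have := congrArg Subtype.val hg
    simpa [kap_apply] using this
  refine ⟨g, ?_⟩
  have h2 : g * x * g⁻¹ = ⁅g, x⁆ * x := by
    rw [commutatorElement_def]; group
  rw [h2, h1]
  exact ((Subgroup.mem_center_iff.mp (H.central hc)) x).symm

/-- C1 -/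
theorem pow_mem_center (H : Cl2 G p) (x : G) : x ^ p ∈ Subgroup.center G := by
  rw [Subgroup.mem_center_iff]
  intro y
  have h1 : kap H y (x ^ p) = 1 := by
    rw [map_pow]
    have := pow_card_eq_one' (G := commutator G) (x := kap H y x)
    rwa [H.card] at this
  have h2 : ⁅x ^ p, y⁆ = 1 := by
    have h3 := congrArg Subtype.val h1
    rw [kap_apply, Subgroup.coe_one] at h3
    exact h3
  exact ((comm_eq_one_iff (x ^ p) y).mp h2).symm

theorem exists_not_mem_center (H : Cl2 G p) : ∃ x : G, x ∉ Subgroup.center G := by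
  by_contra hcon
  push_neg at hcon
  have hbot : commutator G = ⊥ := by
    rw [eq_bot_iff, commutator_def, Subgroup.commutator_le]
    intro a _ b _
    rw [Subgroup.mem_bot]
    exact (comm_eq_one_iff a b).mpr ((Subgroup.mem_center_iff.mp (hcon b)) a)
  have := H.card
  rw [hbot, Subgroup.card_bot] at this
  exact H.hp.one_lt.ne this

/-- C4 -/
theorem card_center_mul_sq_le (H : Cl2 G p) :
    Nat.card (Subgroup.center G) * p ^ 2 ≤ Nat.card G := by
  obtain ⟨x, hx⟩ := exists_not_mem_center H
  set C := Subgroup.centralizer ({x} : Set G) with hC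
  have hZC : Subgroup.center G ≤ C := Subgroup.center_le_centralizer _
  have hidx : C.index = p := index_centralizer H x hx
  have h1 : Nat.card C * p = Nat.card G := by
    rw [← hidx]; exact C.card_mul_index
  have h2 : Nat.card (Subgroup.center G) * (Subgroup.center G).relIndex C = Nat.card C := by
    rw [← Subgroup.card_mul_index ((Subgroup.center G).subgroupOf C)]
    congr 1
    exact (Nat.card_congr (Subgroup.subgroupOfEquivOfLe hZC).toEquiv).symm
  have hxC : x ∈ C := Subgroup.mem_centralizer_singleton_iff.mpr rfl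
  have hne1 : (Subgroup.center G).relIndex C ≠ 1 := by
    intro h1'
    apply hx
    have : C ≤ Subgroup.center G := Subgroup.relIndex_eq_one.mp h1'
    exact this hxC
  have hdvd : (Subgroup.center G).relIndex C ∣ Nat.card G := by
    refine Dvd.dvd.trans ?_ (Dvd.intro _ h1)
    exact Dvd.intro_left _ h2
  have hge : p ≤ (Subgroup.center G).relIndex C := by
    rw [H.hmin]
    exact Nat.minFac_le_of_dvd (by
      have : (Subgroup.center G).relIndex C ≠ 0 := by
        intro h0
        rw [h0, Nat.mul_zero] at h2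
        exact Nat.card_pos.ne' h2.symm
      omega) hdvd
  calc Nat.card (Subgroup.center G) * p ^ 2
      = Nat.card (Subgroup.center G) * p * p := by ring
    _ ≤ Nat.card (Subgroup.center G) * (Subgroup.center G).relIndex C * p :=
        Nat.mul_le_mul_right _ (Nat.mul_le_mul_left _ hge)
    _ = Nat.card G := by rw [h2, h1]

end Cfsg.Agent.Lib.Helper1.AutOrb
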