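import Mathlib
import Cfsg.Agent.Lib.Helper1.AutOrbDefs
import Cfsg.Agent.Lib.Helper1.AutOrbC

set_option autoImplicit false
set_option linter.unusedVariables false
set_option linter.style.longLine false

/-!
# S4067, piece D2 (part a): powers indexed by `ZMod p`, the `p`-th power map, an element of order `p`
outside the centre
-/

namespace Cfsg.Agent.Lib.Helper1.AutOrb

open scoped commutatorElement

variable {G : Type*} [Group G] {p : ℕ}

/-- `u ^ x` for `x : ZMod p`. -/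
def zp (u : G) (x : ZMod p) : G := u ^ x.val

section zp

variable [hp : Fact p.Prime]

theorem zp_zero (u : G) : zp u (0 : ZMod p) = 1 := by
  unfold zp
  rw [ZMod.val_zero, pow_zero]

theorem zp_add {u : G} (hu : u ^ p = 1) (x y : ZMod p) : zp u (x + y) = zp u x * zp u y := by
  unfold zp
  rw [ZMod.val_add, ← pow_add]
  exact (pow_eq_pow_mod _ hu).symm

theorem zp_natCast {u : G} (hu : u ^ p = 1) (k : ℕ) : zp u (k : ZMod p) = u ^ k := by
  unfold zp
  rw [ZMod.val_natCast]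
  exact (pow_eq_pow_mod _ hu).symm

theorem zp_pow {u : G} (hu : u ^ p = 1) (x : ZMod p) (k : ℕ) :
    (zp u x) ^ k = zp u (x * (k : ZMod p)) := by
  unfold zp
  rw [← pow_mul, ZMod.val_mul, ZMod.val_natCast, pow_eq_pow_mod (x.val * k) hu,
    pow_eq_pow_mod (x.val * (k % p) % p) hu, Nat.mod_mod, Nat.mul_mod x.val (k % p) p, Nat.mod_mod,
    ← Nat.mul_mod]

theorem zp_zp {u : G} (hu : u ^ p = 1) (x y : ZMod p) : (zp u x) ^ y.val = zp u (x * y) := by
  rw [zp_pow hu x y.val, ZMod.natCast_zmod_val]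

theorem zp_neg {u : G} (hu : u ^ p = 1) (x : ZMod p) : zp u (-x) = (zp u x)⁻¹ := by
  rw [eq_inv_iff_mul_eq_one, ← zp_add hu, neg_add_cancel, zp_zero]

theorem zp_pow_p {u : G} (hu : u ^ p = 1) (x : ZMod p) : (zp u x) ^ p = 1 := by
  unfold zp
  rw [← pow_mul, mul_comm, pow_mul, hu, one_pow]

theorem zp_eq_one {u : G} (hu : u ^ p = 1) (hu1 : u ≠ 1) (x : ZMod p) (h : zp u x = 1) : x = 0 := by
  unfold zp at h
  have ho : orderOf u = p := orderOf_eq_prime hu hu1
  have hd : p ∣ x.val := by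
    have := orderOf_dvd_of_pow_eq_one h
    rwa [ho] at this
  have hlt : x.val < p := ZMod.val_lt x
  have : x.val = 0 := Nat.eq_zero_of_dvd_of_lt hd hlt
  exact (ZMod.val_eq_zero x).mp this

theorem zp_inj {u : G} (hu : u ^ p = 1) (hu1 : u ≠ 1) (x y : ZMod p) (h : zp u x = zp u y) :
    x = y := by
  have h1 : zp u (x - y) = 1 := by
    rw [sub_eq_add_neg, zp_add hu, zp_neg hu, h, mul_inv_cancel]
  have := zp_eq_one hu hu1 _ h1
  exact sub_eq_zero.mp this

theorem zp_mem {u : G} (K : Subgroup G) (hK : u ∈ K) (x : ZMod p) : zp u x ∈ K :=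
  K.pow_mem hK _

end zp

variable [Finite G]

/-- `h^n * g = g * h^n * ⁅h,g⁆^n` in class two. -/
theorem pow_mul_comm' (H : Cl2 G p) (g h : G) (n : ℕ) : h ^ n * g = g * h ^ n * ⁅h, g⁆ ^ n := by
  have h1 : ⁅h ^ n, g⁆ = ⁅h, g⁆ ^ n := by
    have := map_pow (kap H g) h n
    have h2 := congrArg Subtype.val this
    rw [kap_apply, Subgroup.coe_pow, kap_apply] at h2
    exact h2
  have h3 : h ^ n * g = ⁅h ^ n, g⁆ * (g * h ^ n) := by
    rw [commutatorElement_def]; group
  rw [h3, h1]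
  have hc : ⁅h, g⁆ ^ n ∈ Subgroup.center G := Subgroup.pow_mem _ (comm_mem_center H h g) n
  exact ((Subgroup.mem_center_iff.mp hc) (g * h ^ n)).symm

theorem mul_pow_cl2 (H : Cl2 G p) (g h : G) (n : ℕ) :
    (g * h) ^ n = g ^ n * h ^ n * ⁅h, g⁆ ^ (n.choose 2) := by
  induction n with
  | zero => simp
  | succ n ih =>
    have hz : ∀ k : ℕ, ∀ y : G, y * ⁅h, g⁆ ^ k = ⁅h, g⁆ ^ k * y := fun k y =>
      (Subgroup.mem_center_iff.mp (Subgroup.pow_mem _ (comm_mem_center H h g) k)) y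
    have hch : (n + 1).choose 2 = n + n.choose 2 := by
      rw [Nat.choose_succ_succ' n 1, Nat.choose_one_right]
    have hfinal : ⁅h, g⁆ ^ ((n + 1).choose 2) = ⁅h, g⁆ ^ n * ⁅h, g⁆ ^ (n.choose 2) := by
      rw [hch, pow_add]
    have e1 : ⁅h, g⁆ ^ n.choose 2 * (g * h) = (g * h) * ⁅h, g⁆ ^ n.choose 2 := (hz _ _).symm
    have e2 : ⁅h, g⁆ ^ n * h = h * ⁅h, g⁆ ^ n := (hz _ _).symm
    have e3 := pow_mul_comm' H g h n
    rw [pow_succ (g * h), ih, hfinal]
    calc g ^ n * h ^ n * ⁅h, g⁆ ^ n.choose 2 * (g * h)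
        = g ^ n * h ^ n * (⁅h, g⁆ ^ n.choose 2 * (g * h)) := by
          simp only [mul_assoc]
      _ = g ^ n * h ^ n * ((g * h) * ⁅h, g⁆ ^ n.choose 2) := by rw [e1]
      _ = g ^ n * (h ^ n * g) * h * ⁅h, g⁆ ^ n.choose 2 := by
          simp only [mul_assoc]
      _ = g ^ n * (g * h ^ n * ⁅h, g⁆ ^ n) * h * ⁅h, g⁆ ^ n.choose 2 := by rw [e3]
      _ = g ^ n * g * h ^ n * (⁅h, g⁆ ^ n * h) * ⁅h, g⁆ ^ n.choose 2 := by
          simp only [mul_assoc]
      _ = g ^ n * g * h ^ n * (h * ⁅h, g⁆ ^ n) * ⁅h, g⁆ ^ n.choose 2 := by rw [e2]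
      _ = g ^ (n + 1) * h ^ (n + 1) * (⁅h, g⁆ ^ n * ⁅h, g⁆ ^ n.choose 2) := by
          rw [pow_succ g, pow_succ h]
          simp only [mul_assoc]

/-- the `p`-th power map is a homomorphism when `p` is odd. -/
theorem mul_pow_p (H : Cl2 G p) (hp2 : p ≠ 2) (g h : G) : (g * h) ^ p = g ^ p * h ^ p := by
  rw [mul_pow_cl2 H g h p]
  have hdvd : p ∣ p.choose 2 := by
    apply H.hp.dvd_choose_self (by norm_num)
    have := H.hp.two_le
    omega
  obtain ⟨m, hm⟩ := hdvd
  have hz : ⁅h, g⁆ ^ p = 1 := by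
    have := pow_card_eq_one' (G := commutator G) (x := ⟨⁅h, g⁆, comm_mem_commutator h g⟩)
    rw [H.card] at this
    have h2 := congrArg Subtype.val this
    rw [Subgroup.coe_pow, Subgroup.coe_one] at h2
    exact h2
  rw [hm, pow_mul, hz, one_pow, mul_one]

/-- the `p`-th power homomorphism. -/
def powHom (H : Cl2 G p) (hp2 : p ≠ 2) : G →* G where
  toFun g := g ^ p
  map_one' := one_pow p
  map_mul' g h := mul_pow_p H hp2 g h

/-- an element of order `p` outside the centre. -/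
theorem exists_order_p (H : Cl2 G p) (hp2 : p ≠ 2)
    (hΩ : ∀ w ∈ Subgroup.center G, w ^ p = 1 → w ∈ commutator G) :
    ∃ a : G, a ∉ Subgroup.center G ∧ a ^ p = 1 := by
  by_contra hcon
  push_neg at hcon
  have hker : (powHom H hp2).ker ≤ commutator G := by
    intro a ha
    have hap : a ^ p = 1 := ha
    by_cases hac : a ∈ Subgroup.center G
    · exact hΩ a hac hap
    · exact absurd hap (hcon a hac)
  have hrange : (powHom H hp2).range ≤ Subgroup.center G := by
    rintro _ ⟨g, rfl⟩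
    exact pow_mem_center H g
  have h1 : Nat.card (powHom H hp2).ker * Nat.card (powHom H hp2).range = Nat.card G := by
    rw [← Subgroup.index_ker]; exact Subgroup.card_mul_index _
  have h2 : Nat.card (powHom H hp2).ker ≤ p :=
    le_trans (Subgroup.card_le_of_le hker) (le_of_eq H.card)
  have h3 : Nat.card (powHom H hp2).range ≤ Nat.card (Subgroup.center G) :=
    Subgroup.card_le_of_le hrange
  have h4 := card_center_mul_sq_le H
  have hz : 0 < Nat.card (Subgroup.center G) := Nat.card_pos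
  have hp1 := H.hp.two_le
  have h5 : Nat.card G ≤ p * Nat.card (Subgroup.center G) := by
    rw [← h1]; exact Nat.mul_le_mul h2 h3
  nlinarith

end Cfsg.Agent.Lib.Helper1.AutOrb
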