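import Mathlib
import Cfsg.Agent.Lib.Helper1.AutOrbDefs
import Cfsg.Agent.Lib.Helper1.AutOrbC
import Cfsg.Agent.Lib.Helper1.AutOrbD2a

set_option autoImplicit false
set_option linter.unusedVariables false
set_option linter.style.longLine false

/-!
# S4067, piece D2: the transvection-like automorphisms for odd `p`
-/

namespace Cfsg.Agent.Lib.Helper1.AutOrb

open scoped commutatorElement

variable {G : Type*} [Group G] {p : ℕ}

/-- the quadratic correction exponent. -/
def EE (x : ZMod p) : ZMod p := -(x * (x - 1) * (2 : ZMod p)⁻¹)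

theorem EE_add [Fact p.Prime] (hp2 : p ≠ 2) (x y : ZMod p) : EE (x + y) = EE x + EE y - x * y := by
  have h2 : (2 : ZMod p) ≠ 0 := by
    intro h
    have h' : ((2 : ℕ) : ZMod p) = 0 := by exact_mod_cast h
    rw [ZMod.natCast_eq_zero_iff] at h'
    have hp := (Fact.out : p.Prime)
    have := (Nat.prime_dvd_prime_iff_eq hp Nat.prime_two).mp h'
    exact hp2 this
  unfold EE
  field_simp
  ring

/-- the data for the construction. -/
structure D2 (G : Type*) [Group G] (p : ℕ) where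
  H : Cl2 G p
  hp2 : p ≠ 2
  a : G
  ha : a ∉ Subgroup.center G
  hap : a ^ p = 1
  c : G
  hc : c ∈ commutator G
  hc1 : c ≠ 1
  i : G → ZMod p
  hi : ∀ g : G, ⁅g, a⁆ = zp c (i g)

variable [Finite G] [Fact p.Prime]

namespace D2

variable (D : D2 G p)

theorem c_center : D.c ∈ Subgroup.center G := D.H.central D.hc

theorem hcp : D.c ^ p = 1 := by
  have := pow_card_eq_one' (G := commutator G) (x := ⟨D.c, D.hc⟩)
  rw [D.H.card] at this
  have h2 := congrArg Subtype.val this
  rw [Subgroup.coe_pow, Subgroup.coe_one] at h2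
  exact h2

theorem zc_center (x : ZMod p) : zp D.c x ∈ Subgroup.center G :=
  zp_mem _ D.c_center x

theorem zc_comm (x : ZMod p) (y : G) : y * zp D.c x = zp D.c x * y :=
  (Subgroup.mem_center_iff.mp (D.zc_center x)) y

theorem zc_mem (x : ZMod p) : zp D.c x ∈ commutator G := zp_mem _ D.hc x

theorem i_mul (g h : G) : D.i (g * h) = D.i g + D.i h := by
  apply zp_inj D.hcp D.hc1
  rw [zp_add D.hcp, ← D.hi, ← D.hi, ← D.hi]
  exact comm_mul_left D.H g h D.a

theorem i_eq_zero_iff (g : G) : D.i g = 0 ↔ g * D.a = D.a * g := by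
  rw [← comm_eq_one_iff, D.hi]
  constructor
  · intro h; rw [h, zp_zero]
  · intro h; exact zp_eq_one D.hcp D.hc1 _ h

theorem i_of_comm (g : G) (h : g * D.a = D.a * g) : D.i g = 0 := (D.i_eq_zero_iff g).mpr h

theorem i_za (x : ZMod p) : D.i (zp D.a x) = 0 := by
  apply D.i_of_comm
  unfold zp
  exact ((Commute.refl D.a).pow_left _).eq

theorem i_center (z : G) (hz : z ∈ Subgroup.center G) : D.i z = 0 := by
  apply D.i_of_comm
  exact ((Subgroup.mem_center_iff.mp hz) D.a).symm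

theorem i_zc (x : ZMod p) : D.i (zp D.c x) = 0 := D.i_center _ (D.zc_center x)

/-- `h⁻¹ a h = c^{-i h} a`. -/
theorem conj_a (h : G) : h⁻¹ * D.a * h = zp D.c (-(D.i h)) * D.a := by
  have h1 : ⁅h, D.a⁆ = zp D.c (D.i h) := D.hi h
  rw [zp_neg D.hcp, ← h1]
  -- ⁅h,a⁆ central
  have hc : ⁅h, D.a⁆ ∈ Subgroup.center G := comm_mem_center D.H h D.a
  have h2 : h * D.a = ⁅h, D.a⁆ * (D.a * h) := by
    rw [commutatorElement_def]; group
  have h3 : ⁅h, D.a⁆ * (D.a * h) = (D.a * h) * ⁅h, D.a⁆ :=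
    ((Subgroup.mem_center_iff.mp hc) (D.a * h)).symm
  have h4 : D.a * h = h * D.a * ⁅h, D.a⁆⁻¹ := by
    rw [h2, h3]; group
  calc h⁻¹ * D.a * h = h⁻¹ * (D.a * h) := by rw [mul_assoc]
    _ = h⁻¹ * (h * D.a * ⁅h, D.a⁆⁻¹) := by rw [← h4]
    _ = D.a * ⁅h, D.a⁆⁻¹ := by group
    _ = ⁅h, D.a⁆⁻¹ * D.a :=
        ((Subgroup.mem_center_iff.mp (Subgroup.inv_mem _ hc)) D.a)

theorem conj_za (h : G) (x : ZMod p) :
    h⁻¹ * zp D.a x * h = zp D.c (-(D.i h) * x) * zp D.a x := by
  have h1 : h⁻¹ * zp D.a x * h = (h⁻¹ * D.a * h) ^ x.val := by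
    unfold zp
    have := conj_pow (a := h⁻¹) (b := D.a) (i := x.val)
    rw [inv_inv] at this
    exact this.symm
  rw [h1, D.conj_a h]
  have hcomm : Commute (zp D.c (-(D.i h))) D.a := (D.zc_comm _ D.a).symm
  rw [hcomm.mul_pow, zp_zp D.hcp]
  rfl

theorem sig_aux (g h Ag Ah Cg Ch Dd : G) (hCg : ∀ y, y * Cg = Cg * y) (hCh : ∀ y, y * Ch = Ch * y)
    (hD : ∀ y, y * Dd = Dd * y) (hconj : Ag * h = h * (Dd * Ag)) :
    g * h * (Ag * Ah) * (Dd * Ch * Cg) = g * Ag * Cg * (h * Ah * Ch) := by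
  symm
  calc g * Ag * Cg * (h * Ah * Ch)
      = g * Ag * (Cg * (h * Ah * Ch)) := by simp only [mul_assoc]
    _ = g * Ag * ((h * Ah * Ch) * Cg) := by rw [hCg (h * Ah * Ch)]
    _ = g * (Ag * h) * Ah * Ch * Cg := by simp only [mul_assoc]
    _ = g * (h * (Dd * Ag)) * Ah * Ch * Cg := by rw [hconj]
    _ = g * h * (Dd * (Ag * Ah * Ch * Cg)) := by simp only [mul_assoc]
    _ = g * h * ((Ag * Ah * Ch * Cg) * Dd) := by rw [hD (Ag * Ah * Ch * Cg)]
    _ = g * h * (Ag * Ah) * ((Ch * Cg) * Dd) := by simp only [mul_assoc]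
    _ = g * h * (Ag * Ah) * (Dd * (Ch * Cg)) := by rw [hD (Ch * Cg)]
    _ = g * h * (Ag * Ah) * (Dd * Ch * Cg) := by simp only [mul_assoc]

/-- the family of maps. -/
def sig (s : ZMod p) (g : G) : G := g * zp D.a (s * D.i g) * zp D.c (s * EE (D.i g))

theorem sig_mul (s : ZMod p) (g h : G) : D.sig s (g * h) = D.sig s g * D.sig s h := by
  unfold sig
  rw [D.i_mul g h]
  have hA : zp D.a (s * (D.i g + D.i h)) = zp D.a (s * D.i g) * zp D.a (s * D.i h) := by
    rw [mul_add, zp_add D.hap]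
  have hC : zp D.c (s * EE (D.i g + D.i h)) =
      zp D.c (-(D.i h) * (s * D.i g)) * zp D.c (s * EE (D.i h)) * zp D.c (s * EE (D.i g)) := by
    rw [← zp_add D.hcp, ← zp_add D.hcp]
    congr 1
    rw [EE_add D.hp2]
    ring
  have hconj : zp D.a (s * D.i g) * h = h * (zp D.c (-(D.i h) * (s * D.i g)) * zp D.a (s * D.i g)) := by
    rw [← D.conj_za h (s * D.i g)]
    group
  rw [hA, hC]
  exact sig_aux g h _ _ _ _ _ (fun y => D.zc_comm _ y) (fun y => D.zc_comm _ y)
    (fun y => D.zc_comm _ y) hconj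

theorem sig_one (s : ZMod p) : D.sig s 1 = 1 := by
  have h := D.sig_mul s 1 1
  rw [mul_one] at h
  exact (mul_eq_left.mp h.symm)

/-- the homomorphisms. -/
def sigHom (s : ZMod p) : G →* G where
  toFun := D.sig s
  map_one' := D.sig_one s
  map_mul' := D.sig_mul s

theorem i_sig (s : ZMod p) (g : G) : D.i (D.sig s g) = D.i g := by
  unfold sig
  rw [D.i_mul, D.i_mul, D.i_za, D.i_zc, add_zero, add_zero]

theorem sig_injective (s : ZMod p) : Function.Injective (D.sigHom s) := by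
  rw [injective_iff_map_eq_one]
  intro g hg
  have h1 : D.sig s g = 1 := hg
  have h2 : D.i g = 0 := by
    rw [← D.i_sig s g, h1]
    exact D.i_center 1 (Subgroup.one_mem _)
  unfold sig at h1
  rw [h2, mul_zero, zp_zero, mul_one] at h1
  have h3 : EE (0 : ZMod p) = 0 := by unfold EE; ring
  rw [h3, mul_zero, zp_zero, mul_one] at h1
  exact h1

/-- the automorphisms. -/
noncomputable def sigAut (s : ZMod p) : MulAut G :=
  MulEquiv.ofBijective (D.sigHom s) (Finite.injective_iff_bijective.mp (D.sig_injective s))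

theorem sigAut_apply (s : ZMod p) (g : G) : D.sigAut s g = D.sig s g := rfl

/-- the subgroup `⟨a⟩ G'`. -/
def WW : Subgroup G where
  carrier := {u | ∃ x : ZMod p, ∃ d ∈ commutator G, u = zp D.a x * d}
  one_mem' := ⟨0, 1, Subgroup.one_mem _, by rw [zp_zero, mul_one]⟩
  mul_mem' := by
    rintro _ _ ⟨x, d, hd, rfl⟩ ⟨y, e, he, rfl⟩
    refine ⟨x + y, d * e, Subgroup.mul_mem _ hd he, ?_⟩
    rw [zp_add D.hap]
    have hdc : ∀ z, z * d = d * z := fun z => (Subgroup.mem_center_iff.mp (D.H.central hd)) z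
    calc zp D.a x * d * (zp D.a y * e) = zp D.a x * (d * zp D.a y) * e := by simp only [mul_assoc]
      _ = zp D.a x * (zp D.a y * d) * e := by rw [hdc]
      _ = zp D.a x * zp D.a y * (d * e) := by simp only [mul_assoc]
  inv_mem' := by
    rintro _ ⟨x, d, hd, rfl⟩
    refine ⟨-x, d⁻¹, Subgroup.inv_mem _ hd, ?_⟩
    rw [zp_neg D.hap, mul_inv_rev]
    have hdc : ∀ z, z * d⁻¹ = d⁻¹ * z := fun z =>
      (Subgroup.mem_center_iff.mp (D.H.central (Subgroup.inv_mem _ hd))) z
    exact (hdc _).symm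

theorem mem_WW (u : G) : u ∈ D.WW ↔ ∃ x : ZMod p, ∃ d ∈ commutator G, u = zp D.a x * d := Iff.rfl

theorem za_not_mem (x : ZMod p) (hx : x ≠ 0) : zp D.a x ∉ Subgroup.center G := by
  intro h
  apply D.ha
  have h1 : (zp D.a x) ^ (x⁻¹).val = D.a := by
    rw [zp_zp D.hap, mul_inv_cancel₀ hx]
    have : zp D.a (1 : ZMod p) = D.a ^ 1 := by
      have := zp_natCast (p := p) D.hap 1
      rwa [Nat.cast_one] at this
    rw [this, pow_one]
  rw [← h1]
  exact Subgroup.pow_mem _ h _

theorem card_WW : Nat.card D.WW = p ^ 2 := by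
  have hbij : Function.Bijective
      (fun q : ZMod p × commutator G => (⟨zp D.a q.1 * (q.2 : G), ⟨q.1, q.2, q.2.2, rfl⟩⟩ : D.WW)) := by
    constructor
    · rintro ⟨x, d⟩ ⟨y, e⟩ hq
      have h1 : zp D.a x * (d : G) = zp D.a y * (e : G) := congrArg Subtype.val hq
      have h2 : zp D.a (x - y) = (e : G) * (d : G)⁻¹ := by
        rw [sub_eq_add_neg, zp_add D.hap, zp_neg D.hap]
        have hcomm : (zp D.a y)⁻¹ * zp D.a x = zp D.a x * (zp D.a y)⁻¹ := by
          rw [← zp_neg D.hap, ← zp_add D.hap, ← zp_add D.hap, add_comm]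
        rw [← hcomm]
        have : zp D.a x = zp D.a y * (e : G) * (d : G)⁻¹ := by rw [← h1]; group
        rw [this]; group
      have hxy : x = y := by
        by_contra hne
        apply D.za_not_mem (x - y) (sub_ne_zero.mpr hne)
        rw [h2]
        exact D.H.central (Subgroup.mul_mem _ e.2 (Subgroup.inv_mem _ d.2))
      subst hxy
      have : (d : G) = (e : G) := mul_left_cancel h1
      rw [Subtype.ext this]
    · rintro ⟨u, x, d, hd, rfl⟩
      exact ⟨(x, ⟨d, hd⟩), rfl⟩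
  rw [← Nat.card_congr (Equiv.ofBijective _ hbij), Nat.card_prod, Nat.card_zmod, D.H.card, sq]

include D in
theorem good : Good G p := by
  refine ⟨Subgroup.centralizer ({D.a} : Set G), D.WW, Subgroup.center_le_centralizer _,
    index_centralizer D.H D.a D.ha, ?_, D.card_WW, ?_⟩
  · intro d hd
    exact ⟨0, d, hd, by rw [zp_zero, one_mul]⟩
  · intro x hx u hu
    obtain ⟨k, d, hd, rfl⟩ := hu
    have hix : D.i x ≠ 0 := by
      intro h0
      apply hx
      rw [Subgroup.mem_centralizer_singleton_iff]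
      exact ((D.i_eq_zero_iff x).mp h0)
    set s : ZMod p := k * (D.i x)⁻¹ with hs
    set d0 : G := zp D.c (s * EE (D.i x)) with hd0
    have hy : D.sig s x = x * zp D.a k * d0 := by
      unfold sig
      have h1 : s * D.i x = k := by rw [hs, mul_assoc, inv_mul_cancel₀ hix, mul_one]
      rw [h1, hd0, mul_assoc]
    have hycen : D.sig s x ∉ Subgroup.center G := by
      intro hcen
      have := D.i_center _ hcen
      rw [D.i_sig] at this
      exact hix this
    have hd0mem : d0 ∈ commutator G := D.zc_mem _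
    obtain ⟨g, hg⟩ := conj_eq_mul D.H (D.sig s x) hycen (d0⁻¹ * d)
      (Subgroup.mul_mem _ (Subgroup.inv_mem _ hd0mem) hd)
    refine ⟨MulAut.conj g * D.sigAut s, ?_⟩
    rw [MulAut.mul_apply, D.sigAut_apply, MulAut.conj_apply, hg, hy]
    group

end D2

/-- D2 -/
theorem good_of_odd (H : Cl2 G p) (hp2 : p ≠ 2)
    (hΩ : ∀ w ∈ Subgroup.center G, w ^ p = 1 → w ∈ commutator G) : Good G p := by
  classical
  obtain ⟨a, ha, hap⟩ := exists_order_p H hp2 hΩ
  -- a generator of G'
  obtain ⟨t, ht⟩ : ∃ t : G, ⁅t, a⁆ ≠ 1 := by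
    by_contra hcon
    push_neg at hcon
    apply ha
    rw [Subgroup.mem_center_iff]
    intro g
    exact (comm_eq_one_iff g a).mp (hcon g)
  set c : G := ⁅t, a⁆ with hcdef
  have hc : c ∈ commutator G := comm_mem_commutator t a
  have hcp : c ^ p = 1 := by
    have := pow_card_eq_one' (G := commutator G) (x := ⟨c, hc⟩)
    rw [H.card] at this
    have h2 := congrArg Subtype.val this
    rw [Subgroup.coe_pow, Subgroup.coe_one] at h2
    exact h2
  have hgen : ∀ d ∈ commutator G, ∃ x : ZMod p, d = zp c x := by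
    intro d hd
    have hc1' : (⟨c, hc⟩ : commutator G) ≠ 1 := by
      intro h
      exact ht (congrArg Subtype.val h)
    have hmem : (⟨d, hd⟩ : commutator G) ∈ Subgroup.zpowers (⟨c, hc⟩ : commutator G) := by
      rw [zpowers_eq_top_of_prime_card H.card hc1']
      exact Subgroup.mem_top _
    obtain ⟨n, hn⟩ := (Subgroup.mem_zpowers_iff).mp hmem
    have hn' : c ^ n = d := by
      have := congrArg Subtype.val hn
      simpa using this
    refine ⟨((n % (p : ℤ)).toNat : ZMod p), ?_⟩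
    rw [zp_natCast hcp]
    have hp0 : (p : ℤ) ≠ 0 := by exact_mod_cast (Fact.out : p.Prime).ne_zero
    have hnn : 0 ≤ n % (p : ℤ) := Int.emod_nonneg n hp0
    rw [← hn', ← zpow_natCast, Int.toNat_of_nonneg hnn]
    have hcpz : c ^ (p : ℤ) = 1 := by rw [zpow_natCast]; exact hcp
    conv_lhs => rw [← Int.emod_add_mul_ediv n p]
    rw [zpow_add, zpow_mul, hcpz, one_zpow, mul_one]
  choose i hi using fun g : G => hgen ⁅g, a⁆ (comm_mem_commutator g a)
  exact D2.good (D2.mk H hp2 a ha hap c hc ht i hi)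

end Cfsg.Agent.Lib.Helper1.AutOrb
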