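import Mathlib
import Cfsg.Prelude.Def_ChevAutomorphisms
import Cfsg.Prelude.Def_KGroupFacts

set_option autoImplicit false

/-!
Shared definitions for the outer automorphism group of the Chevalley groups (S2159 farm).
-/

namespace Cfsg.Agent.Lib.Helper1.ChevAut

open Cfsg Cfsg.Lie

variable {F : Type*} [Field F]

/-- the set of diagonal automorphisms -/
def diagSet (D : ChevalleyDatum) (F : Type*) [Field F] : Set (MulAut ↥(D.group F)) :=
  {φ | D.IsDiagonalAut φ}

/-- the set of field automorphisms -/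
def fieldSet (D : ChevalleyDatum) (F : Type*) [Field F] : Set (MulAut ↥(D.group F)) :=
  {φ | D.IsFieldAut φ}

/-- `φ` is a graph automorphism with respect to the permutation `π` of the nodes -/
def GraphFor (D : ChevalleyDatum) (π : Equiv.Perm (Fin D.rank))
    (φ : ↥(D.group F) ≃* ↥(D.group F)) : Prop :=
  ∀ (g : ↥(D.group F)) (i : Fin D.rank) (t : F),
    (((g : GL D.Idx F) : Matrix D.Idx D.Idx F) = D.x F (D.simple i) t →
      ((φ g : GL D.Idx F) : Matrix D.Idx D.Idx F) =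
        D.x F (D.simple (π i)) (t ^ D.graphExp (ringChar F) i (π i))) ∧
    (((g : GL D.Idx F) : Matrix D.Idx D.Idx F) = D.x F (D.neg (D.simple i)) t →
      ((φ g : GL D.Idx F) : Matrix D.Idx D.Idx F) =
        D.x F (D.neg (D.simple (π i))) (t ^ D.graphExp (ringChar F) i (π i)))

theorem isGraphAut_iff (D : ChevalleyDatum) (φ : ↥(D.group F) ≃* ↥(D.group F)) :
    D.IsGraphAut φ ↔ ∃ π : Equiv.Perm (Fin D.rank), D.IsDiagramSymmetry π ∧ GraphFor D π φ :=
  Iff.rfl

/-- the subgroup `⟨diagonal⟩ ⊔ ⟨field⟩ ⊔ Inn` of `Aut G` -/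
def Ksub (D : ChevalleyDatum) (F : Type*) [Field F] : Subgroup (MulAut ↥(D.group F)) :=
  Subgroup.closure (diagSet D F) ⊔ Subgroup.closure (fieldSet D F) ⊔ Cfsg.Inn ↥(D.group F)

/-- the conclusion of S2156 as a hypothesis -/
def AutDecomp (D : ChevalleyDatum) (F : Type*) [Field F] : Prop :=
  ∀ θ : ↥(D.group F) ≃* ↥(D.group F),
    ∃ (x : ↥(D.group F)) (d g f : ↥(D.group F) ≃* ↥(D.group F)),
      D.IsDiagonalAut d ∧ D.IsGraphAut g ∧ D.IsFieldAut f ∧
        ∀ y : ↥(D.group F), θ y = x * d (g (f y)) * x⁻¹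

end Cfsg.Agent.Lib.Helper1.ChevAut
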