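import Mathlib
import Cfsg.Agent.Lib.Helper1.AutOutDefs
import Cfsg.Agent.Lib.Helper1.AutDefs
import Cfsg.Agent.Lib.Helper5.AutT8
import Cfsg.Agent.Lib.Helper7.OutT345
import Cfsg.Agent.Lib.Helper7.OutT8a
import Cfsg.Agent.Lib.Helper8.OutT1
import Cfsg.Agent.Lib.Helper8.OutT2
import Cfsg.Agent.Lib.Helper8.OutT7

/-!
# Structure of `Out` of an untwisted Chevalley group: final assembly

Units: T1, T6 (`Helper8/OutT1`), T2 (`Helper8/OutT2`), T7 (`Helper8/OutT7`),
T3, T4, T5 (`Helper7/OutT345`), T8a (`Helper7/OutT8a`), T8 (`Helper5/AutT8`).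
-/

set_option autoImplicit false

namespace Cfsg.Agent.Lib.Helper1.ChevOutMain

open Cfsg Cfsg.Lie Cfsg.Agent.Lib.Helper5.ChevStruct
open Cfsg.Agent.Lib.Helper1.ChevAut
open Cfsg.Agent.Lib.Helper8.ChevOut (diag_comm graphFor_unique field_closure_isCyclic card_symm_le)
open Cfsg.Agent.Lib.Helper7.ChevOutG (conj_diag_mem conj_field_mem exists_graph_coset)
open scoped commutatorElement

variable {F : Type*} [Field F]



theorem closure_comm_of_comm {G : Type*} [Group G] (S : Set G)
    (h : ∀ a ∈ S, ∀ b ∈ S, a * b = b * a) :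
    ∀ a ∈ Subgroup.closure S, ∀ b ∈ Subgroup.closure S, a * b = b * a := by
  have h1 : Subgroup.closure S ≤ Subgroup.centralizer S := by
    rw [Subgroup.closure_le]
    intro a ha
    rw [SetLike.mem_coe, Subgroup.mem_centralizer_iff]
    intro b hb
    exact h b hb a ha
  have h2 : Subgroup.closure S ≤ Subgroup.centralizer (Subgroup.closure S : Set G) := by
    rw [Subgroup.closure_le]
    intro a ha
    rw [SetLike.mem_coe, Subgroup.mem_centralizer_iff]
    intro b hb
    have := h1 hb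
    rw [Subgroup.mem_centralizer_iff] at this
    exact (this a ha).symm
  intro a ha b hb
  have := h2 ha
  rw [Subgroup.mem_centralizer_iff] at this
  exact (this b hb).symm

theorem conj_le_of_gens {G : Type*} [Group G] (S : Set G) (M : Subgroup G) (θ : G)
    (h : ∀ s ∈ S, θ * s * θ⁻¹ ∈ M) : ∀ n ∈ Subgroup.closure S, θ * n * θ⁻¹ ∈ M := by
  have : Subgroup.closure S ≤ M.comap (MulAut.conj θ).toMonoidHom := by
    rw [Subgroup.closure_le]
    intro s hs
    simpa [MulAut.conj_apply] using h s hs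
  intro n hn
  simpa [MulAut.conj_apply] using this hn

theorem dsub_inn_normal [Finite F] (D : ChevalleyDatum) (hD : D ∈ Seven) (hAut : AutDecomp D F) :
    (Subgroup.closure (diagSet D F) ⊔ Cfsg.Inn ↥(D.group F)).Normal := by
  refine ⟨fun n hn θ => ?_⟩
  have : Subgroup.closure (diagSet D F) ⊔ Cfsg.Inn ↥(D.group F)
      ≤ (Subgroup.closure (diagSet D F) ⊔ Cfsg.Inn ↥(D.group F)).comap
        (MulAut.conj θ).toMonoidHom := by
    apply sup_le
    · intro n hn
      have := conj_le_of_gens (diagSet D F) _ θ (fun d hd => conj_diag_mem D hD hAut θ d hd) n hn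
      simpa [MulAut.conj_apply] using this
    · intro n hn
      have h1 : θ * n * θ⁻¹ ∈ Cfsg.Inn ↥(D.group F) := (Cfsg.innNormal _).conj_mem n hn θ
      have : θ * n * θ⁻¹ ∈ Subgroup.closure (diagSet D F) ⊔ Cfsg.Inn ↥(D.group F) :=
        Subgroup.mem_sup_right h1
      simpa [MulAut.conj_apply] using this
  simpa [MulAut.conj_apply] using this hn

theorem ksub_normal [Finite F] (D : ChevalleyDatum) (hD : D ∈ Seven) (hAut : AutDecomp D F) :
    (Ksub D F).Normal := by
  refine ⟨fun n hn θ => ?_⟩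
  have : Ksub D F ≤ (Ksub D F).comap (MulAut.conj θ).toMonoidHom := by
    unfold Ksub
    apply sup_le
    · apply sup_le
      · intro n hn
        have h1 := conj_le_of_gens (diagSet D F) _ θ
          (fun d hd => conj_diag_mem D hD hAut θ d hd) n hn
        have h2 : θ * n * θ⁻¹ ∈ Subgroup.closure (diagSet D F) ⊔ Subgroup.closure (fieldSet D F)
            ⊔ Cfsg.Inn ↥(D.group F) :=
          (sup_le (le_sup_of_le_left le_sup_left) le_sup_right :
            Subgroup.closure (diagSet D F) ⊔ Cfsg.Inn ↥(D.group F) ≤ _) h1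
        simpa [MulAut.conj_apply] using h2
      · intro n hn
        have h1 := conj_le_of_gens (fieldSet D F) _ θ
          (fun f hf => conj_field_mem D hD hAut θ f hf) n hn
        simpa [MulAut.conj_apply, Ksub] using h1
    · intro n hn
      have h1 : θ * n * θ⁻¹ ∈ Cfsg.Inn ↥(D.group F) := (Cfsg.innNormal _).conj_mem n hn θ
      have : θ * n * θ⁻¹ ∈ Subgroup.closure (diagSet D F) ⊔ Subgroup.closure (fieldSet D F)
          ⊔ Cfsg.Inn ↥(D.group F) := Subgroup.mem_sup_right h1
      simpa [MulAut.conj_apply] using this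
  simpa [MulAut.conj_apply] using this hn

theorem ksub_index_le [Finite F] (D : ChevalleyDatum) (hD : D ∈ Seven) (hAut : AutDecomp D F) :
    (Ksub D F).index ≤ Nat.card {π : Equiv.Perm (Fin D.rank) // D.IsDiagramSymmetry π} := by
  classical
  have := ksub_normal D hD hAut
  rw [Subgroup.index]
  let Φ : {π : Equiv.Perm (Fin D.rank) // D.IsDiagramSymmetry π} →
      MulAut ↥(D.group F) ⧸ Ksub D F := fun π =>
    if h : ∃ g : ↥(D.group F) ≃* ↥(D.group F), GraphFor D π.1 g then
      QuotientGroup.mk (Classical.choose h : MulAut ↥(D.group F)) else 1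
  apply Nat.card_le_card_of_surjective Φ
  intro c
  obtain ⟨θ, rfl⟩ := QuotientGroup.mk_surjective c
  obtain ⟨g, hg, hθg⟩ := exists_graph_coset D hD hAut θ
  obtain ⟨π, hsym, hgf⟩ := hg
  refine ⟨⟨π, hsym⟩, ?_⟩
  have hex : ∃ g : ↥(D.group F) ≃* ↥(D.group F), GraphFor D π g := ⟨g, hgf⟩
  have hch : (Classical.choose hex) = g :=
    graphFor_unique D hD π _ _ (Classical.choose_spec hex) hgf
  show (if h : ∃ g : ↥(D.group F) ≃* ↥(D.group F), GraphFor D π g then
      (QuotientGroup.mk (Classical.choose h : MulAut ↥(D.group F)) :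
        MulAut ↥(D.group F) ⧸ Ksub D F) else 1) = _
  rw [dif_pos hex, hch, QuotientGroup.eq]
  have := (ksub_normal D hD hAut).mem_comm hθg
  exact this

theorem out_structure [Finite F] (D : ChevalleyDatum) (hD : D ∈ Seven) (hAut : AutDecomp D F)
    (Dbar Fbar : Subgroup (Cfsg.Out ↥(D.group F)))
    (hDbar : Dbar = (Subgroup.closure {φ : MulAut ↥(D.group F) | D.IsDiagonalAut φ}).map
      (QuotientGroup.mk' (Cfsg.Inn ↥(D.group F))))
    (hFbar : Fbar = (Subgroup.closure {φ : MulAut ↥(D.group F) | D.IsFieldAut φ}).map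
      (QuotientGroup.mk' (Cfsg.Inn ↥(D.group F)))) :
    Dbar.Normal ∧ IsMulCommutative ↥Dbar ∧ IsCyclic ↥Fbar ∧ (Dbar ⊔ Fbar).Normal ∧
      ((Dbar ⊔ Fbar).index = 1 ∨ (Dbar ⊔ Fbar).index = 2 ∨
        ((Dbar ⊔ Fbar).index = 6 ∧
          ¬ commutator (Cfsg.Out ↥(D.group F)) ≤ Dbar ⊔ Fbar)) := by
  classical
  set q := QuotientGroup.mk' (Cfsg.Inn ↥(D.group F)) with hq
  have hqs : Function.Surjective q := QuotientGroup.mk'_surjective _
  have hInn : (Cfsg.Inn ↥(D.group F)).map q = ⊥ := QuotientGroup.map_mk'_self _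
  have hD1 : Dbar = (Subgroup.closure (diagSet D F) ⊔ Cfsg.Inn ↥(D.group F)).map q := by
    rw [Subgroup.map_sup, hInn, sup_bot_eq, hDbar]
    rfl
  have hK1 : Dbar ⊔ Fbar = (Ksub D F).map q := by
    unfold Ksub
    rw [Subgroup.map_sup, Subgroup.map_sup, hInn, sup_bot_eq, hDbar, hFbar]
    rfl
  have hKn := ksub_normal D hD hAut
  refine ⟨?_, ?_, ?_, ?_, ?_⟩
  · rw [hD1]
    exact (dsub_inn_normal D hD hAut).map q hqs
  · refine ⟨⟨fun a b => ?_⟩⟩
    obtain ⟨a, ha⟩ := a
    obtain ⟨b, hb⟩ := b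
    apply Subtype.ext
    show a * b = b * a
    rw [hDbar] at ha hb
    obtain ⟨a', ha', rfl⟩ := ha
    obtain ⟨b', hb', rfl⟩ := hb
    rw [← map_mul, ← map_mul, closure_comm_of_comm _ (diag_comm D hD) a' ha' b' hb']
  · rw [hFbar]
    have hc : IsCyclic ↥(Subgroup.closure {φ : MulAut ↥(D.group F) | D.IsFieldAut φ}) :=
      field_closure_isCyclic (F := F) D hD
    exact isCyclic_of_surjective _
      ((QuotientGroup.mk' (Cfsg.Inn ↥(D.group F))).subgroupMap_surjective
        (Subgroup.closure {φ : MulAut ↥(D.group F) | D.IsFieldAut φ}))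
  · rw [hK1]
    exact hKn.map q hqs
  · rw [hK1]
    have hker : q.ker ≤ Ksub D F := by
      rw [hq, QuotientGroup.ker_mk']
      exact le_sup_right
    rw [Subgroup.index_map_eq _ hqs hker]
    by_cases hD4 : D = chevD4
    · subst hD4
      obtain ⟨h6, g₁, g₂, hg⟩ :=
        Cfsg.Agent.Lib.Helper5.AutT8.d4_index_of (F := F)
          (ksub_index_le chevD4 hD hAut)
      right; right
      refine ⟨h6, fun hle => hg ?_⟩
      have h1 : q (g₁ * g₂ * g₁⁻¹ * g₂⁻¹) ∈ commutator (Cfsg.Out ↥(chevD4.group F)) := by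
        rw [commutator_def]
        have : q (g₁ * g₂ * g₁⁻¹ * g₂⁻¹) = ⁅q g₁, q g₂⁆ := by
          rw [commutatorElement_def]
          simp only [map_mul, map_inv]
        rw [this]
        exact Subgroup.commutator_mem_commutator (Subgroup.mem_top _) (Subgroup.mem_top _)
      obtain ⟨k, hk, hkq⟩ := hle h1
      have h2 : k⁻¹ * (g₁ * g₂ * g₁⁻¹ * g₂⁻¹) ∈ q.ker := by
        rw [MonoidHom.mem_ker, map_mul, map_inv, hkq, inv_mul_cancel]
      have h3 := (Ksub chevD4 F).mul_mem hk (hker h2)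
      rwa [mul_inv_cancel_left] at h3
    · have h1 := le_trans (ksub_index_le D hD hAut) (card_symm_le D hD hD4)
      have : Finite (MulAut ↥(D.group F)) := inferInstance
      have h0 : (Ksub D F).index ≠ 0 := Subgroup.index_ne_zero_of_finite
      rcases Nat.lt_or_ge (Ksub D F).index 2 with h | h
      · left; omega
      · right; left; omega

end Cfsg.Agent.Lib.Helper1.ChevOutMain
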