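import Mathlib
import Cfsg.Agent.Lib.Helper1.AutOutDefs
import Cfsg.Agent.S2160

set_option autoImplicit false

/-!
Unit T5 of the S2159 farm: every automorphism lies in `K g` for a graph automorphism `g`.
-/

namespace Cfsg.Agent.Lib.Helper1.ChevAut

open Cfsg Cfsg.Lie

variable {F : Type*} [Field F]

/-- **T5** every automorphism is in `K g` for a graph automorphism `g`. -/
theorem exists_graph_coset [Finite F] (D : ChevalleyDatum)
    (hD : D ∈ [chevG2, chevB2, chevD4, chevF4, chevE6, chevE7, chevE8]) (hAut : AutDecomp D F)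
    (θ : MulAut ↥(D.group F)) :
    ∃ g : MulAut ↥(D.group F), D.IsGraphAut g ∧ θ * g⁻¹ ∈ Ksub D F := by
  obtain ⟨x, d, g, f, hd, hg, hf, hθ⟩ := hAut θ
  refine ⟨g, hg, ?_⟩
  have h1 : θ = MulAut.conj x * (d : MulAut ↥(D.group F)) * (g : MulAut ↥(D.group F))
      * (f : MulAut ↥(D.group F)) := by
    apply MulEquiv.ext
    intro y
    rw [hθ y]
    simp [MulAut.mul_apply, MulAut.conj_apply]
  have h2 : (f : MulAut ↥(D.group F)) * (g : MulAut ↥(D.group F))
      = (g : MulAut ↥(D.group F)) * (f : MulAut ↥(D.group F)) := by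
    apply MulEquiv.ext
    intro y
    simp only [MulAut.mul_apply]
    exact Cfsg.Agent.S2160.result D hD f g hf hg y
  have h4 : (g : MulAut ↥(D.group F)) * (f : MulAut ↥(D.group F)) * (g : MulAut ↥(D.group F))⁻¹
      = (f : MulAut ↥(D.group F)) := by
    rw [← h2, mul_inv_cancel_right]
  have h3 : θ * (g : MulAut ↥(D.group F))⁻¹
      = MulAut.conj x * (d : MulAut ↥(D.group F)) * (f : MulAut ↥(D.group F)) := by
    rw [← h4, h1]
    group
  rw [h3]
  unfold Ksub
  have hx : (MulAut.conj x : MulAut ↥(D.group F)) ∈ Cfsg.Inn ↥(D.group F) := ⟨x, rfl⟩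
  have hd' : (d : MulAut ↥(D.group F)) ∈ Subgroup.closure (diagSet D F) :=
    Subgroup.subset_closure hd
  have hf' : (f : MulAut ↥(D.group F)) ∈ Subgroup.closure (fieldSet D F) :=
    Subgroup.subset_closure hf
  exact mul_mem (mul_mem (Subgroup.mem_sup_right hx)
    (Subgroup.mem_sup_left (Subgroup.mem_sup_left hd')))
    (Subgroup.mem_sup_left (Subgroup.mem_sup_right hf'))

end Cfsg.Agent.Lib.Helper1.ChevAut
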