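import Mathlib
import Cfsg.Agent.Lib.Helper1.PResidual

/-!
# S2768 rider unit (helper1): the focal-subgroup step (T3) and (T3)+(T4)
-/

set_option autoImplicit false
set_option linter.unusedVariables false
set_option linter.unusedSectionVars false
set_option linter.style.longLine false
set_option linter.style.haveILetI false

namespace Cfsg.Agent.Lib.Helper1.PU2768F

open scoped commutatorElement

variable {X : Type*} [Group X] [Finite X] {p : ℕ} [Fact p.Prime]

/-- (T3): the focal subgroup of `T` modulo `Q0` lies in `J`. -/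
theorem focal_le (T : Sylow p X) (Q0 J C : Subgroup X) [Q0.Normal]
    (hQ0J : Q0 ≤ J) (hJT : J ≤ T) (hT : (T : Subgroup X) ≤ J ⊔ C)
    (hTT : ⁅(T : Subgroup X), (T : Subgroup X)⁆ ≤ Q0)
    (hCX : ⁅C, (⊤ : Subgroup X)⁆ ≤ Q0)
    (hNJ : Subgroup.normalizer ((T : Subgroup X) : Set X) ≤ Subgroup.normalizer (J : Set X)) :
    (T : Subgroup X) ⊓ (commutator X ⊔ Q0) ≤ J := by
  classical
  set π := QuotientGroup.mk' Q0 with hπ
  have hsurj : Function.Surjective π := QuotientGroup.mk'_surjective Q0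
  have hker : ∀ x : X, π x = 1 ↔ x ∈ Q0 := fun x => QuotientGroup.eq_one_iff x
  have hQ0T : Q0 ≤ (T : Subgroup X) := hQ0J.trans hJT
  set Tb : Sylow p (X ⧸ Q0) := T.mapSurjective hsurj with hTb
  have hTbcoe : (Tb : Subgroup (X ⧸ Q0)) = (T : Subgroup X).map π := Sylow.coe_mapSurjective hsurj T
  -- `T̄` is abelian
  have hTbab : IsMulCommutative (Tb : Subgroup (X ⧸ Q0)) := by
    refine ⟨⟨?_⟩⟩
    rintro ⟨a, ha⟩ ⟨b, hb⟩
    apply Subtype.ext
    rw [hTbcoe] at ha hb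
    obtain ⟨a', ha', rfl⟩ := ha
    obtain ⟨b', hb', rfl⟩ := hb
    show π a' * π b' = π b' * π a'
    have h1 : ⁅a', b'⁆ ∈ Q0 := hTT (Subgroup.commutator_mem_commutator ha' hb')
    have h2 : π ⁅a', b'⁆ = 1 := (hker _).2 h1
    rw [commutatorElement_def, map_mul, map_mul, map_mul, map_inv, map_inv] at h2
    calc π a' * π b' = (π a' * π b' * (π a')⁻¹ * (π b')⁻¹) * (π b' * π a') := by group
      _ = π b' * π a' := by rw [h2, one_mul]
  have hfocal := Cfsg.Agent.Lib.Helper1.commutator_inf_abelian_sylow Tb hTbab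
  -- the image of `C` is central
  have hCcent : ∀ c ∈ C, ∀ y : X ⧸ Q0, y * π c = π c * y := by
    intro c hc y
    obtain ⟨y', rfl⟩ := hsurj y
    have h1 : ⁅c, y'⁆ ∈ Q0 := hCX (Subgroup.commutator_mem_commutator hc (Subgroup.mem_top y'))
    have h2 : π ⁅c, y'⁆ = 1 := (hker _).2 h1
    rw [commutatorElement_def, map_mul, map_mul, map_mul, map_inv, map_inv] at h2
    calc π y' * π c = (π c * π y' * (π c)⁻¹ * (π y')⁻¹)⁻¹ * (π c * π y') := by group
      _ = π c * π y' := by rw [h2, inv_one, one_mul]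
  -- preimages of elements of `N(T̄)` normalise `T`
  have hnorm : ∀ n : X, π n ∈ Subgroup.normalizer ((Tb : Subgroup (X ⧸ Q0)) : Set (X ⧸ Q0)) →
      n ∈ Subgroup.normalizer ((T : Subgroup X) : Set X) := by
    intro n hn
    have hcomap : ∀ x : X, π x ∈ (Tb : Subgroup (X ⧸ Q0)) → x ∈ (T : Subgroup X) := by
      intro x hx
      rw [hTbcoe] at hx
      obtain ⟨t, ht, htx⟩ := hx
      have h1 : π (t⁻¹ * x) = 1 := by rw [map_mul, map_inv, htx, inv_mul_cancel]
      have h2 : t⁻¹ * x ∈ (T : Subgroup X) := hQ0T ((hker _).1 h1)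
      have h3 : x = t * (t⁻¹ * x) := by group
      rw [h3]; exact Subgroup.mul_mem _ ht h2
    have hone : ∀ m : X, π m ∈ Subgroup.normalizer ((Tb : Subgroup (X ⧸ Q0)) : Set (X ⧸ Q0)) →
        ∀ x ∈ (T : Subgroup X), m * x * m⁻¹ ∈ (T : Subgroup X) := by
      intro m hm x hx
      apply hcomap
      rw [map_mul, map_mul, map_inv]
      have hx' : π x ∈ (Tb : Subgroup (X ⧸ Q0)) := by rw [hTbcoe]; exact ⟨x, hx, rfl⟩
      exact (Subgroup.mem_normalizer_iff.1 hm (π x)).1 hx'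
    rw [Subgroup.mem_normalizer_iff]
    intro x
    constructor
    · exact hone n hn x
    · intro hx
      have hn' : π n⁻¹ ∈ Subgroup.normalizer ((Tb : Subgroup (X ⧸ Q0)) : Set (X ⧸ Q0)) := by
        rw [map_inv]; exact Subgroup.inv_mem _ hn
      have := hone n⁻¹ hn' _ hx
      have e : n⁻¹ * (n * x * n⁻¹) * n⁻¹⁻¹ = x := by group
      rwa [e] at this
  -- `[T̄, N(T̄)] ≤ J̄`
  have hcomm_le : ⁅(Tb : Subgroup (X ⧸ Q0)),
      Subgroup.normalizer ((Tb : Subgroup (X ⧸ Q0)) : Set (X ⧸ Q0))⁆ ≤ J.map π := by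
    rw [Subgroup.commutator_le]
    intro t ht n hn
    obtain ⟨n', rfl⟩ := hsurj n
    have hn'N : n' ∈ Subgroup.normalizer (J : Set X) := hNJ (hnorm n' hn)
    rw [hTbcoe] at ht
    obtain ⟨t', ht', rfl⟩ := ht
    have ht'' : t' ∈ J ⊔ C := hT ht'
    -- induction on `t' ∈ J ⊔ C`: use that `C̄` is central
    have hmem : π t' ∈ (J.map π ⊔ C.map π : Subgroup (X ⧸ Q0)) := by
      rw [← Subgroup.map_sup]; exact ⟨t', ht'', rfl⟩
    haveI hCn : (C.map π).Normal := by
      constructor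
      rintro y ⟨c, hc, rfl⟩ g
      have := hCcent c hc g
      rw [this, mul_inv_cancel_right]
      exact ⟨c, hc, rfl⟩
    have hmem' : π t' ∈ ((J.map π ⊔ C.map π : Subgroup (X ⧸ Q0)) : Set (X ⧸ Q0)) := hmem
    rw [Subgroup.mul_normal, Set.mem_mul] at hmem'
    obtain ⟨jb, hjb, cb, hcb, hjc⟩ := hmem'
    obtain ⟨j, hj, rfl⟩ := hjb
    obtain ⟨c, hc, rfl⟩ := hcb
    rw [← hjc]
    have hcc := hCcent c hc
    have e1 : ⁅π j * π c, π n'⁆ = ⁅π j, π n'⁆ := by
      rw [commutatorElement_def, commutatorElement_def]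
      have h1 : π j * π c * π n' * (π j * π c)⁻¹ * (π n')⁻¹
          = π j * (π c * π n') * (π c)⁻¹ * (π j)⁻¹ * (π n')⁻¹ := by group
      rw [h1, ← hcc (π n')]
      group
    rw [e1]
    have e2 : ⁅π j, π n'⁆ = π ⁅j, n'⁆ := by
      rw [commutatorElement_def, commutatorElement_def, map_mul, map_mul, map_mul, map_inv, map_inv]
    rw [e2]
    refine ⟨⁅j, n'⁆, ?_, rfl⟩
    rw [commutatorElement_def]
    have h3 : n' * j⁻¹ * n'⁻¹ ∈ J :=
      (Subgroup.mem_normalizer_iff.1 hn'N j⁻¹).1 (J.inv_mem hj)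
    have h4 : j * n' * j⁻¹ * n'⁻¹ = j * (n' * j⁻¹ * n'⁻¹) := by group
    rw [h4]; exact J.mul_mem hj h3
  -- conclusion
  intro x hx
  obtain ⟨hxT, hxD⟩ := hx
  have h1 : π x ∈ (Tb : Subgroup (X ⧸ Q0)) := by rw [hTbcoe]; exact ⟨x, hxT, rfl⟩
  have h2 : π x ∈ commutator (X ⧸ Q0) := by
    have h3 : π x ∈ (commutator X ⊔ Q0).map π := ⟨x, hxD, rfl⟩
    rw [Subgroup.map_sup] at h3
    have h4 : Q0.map π = ⊥ := by
      rw [eq_bot_iff]
      rintro y ⟨q, hq, rfl⟩
      exact Subgroup.mem_bot.2 ((hker q).2 hq)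
    rw [h4, sup_bot_eq, commutator_def, Subgroup.map_commutator] at h3
    rw [commutator_def]
    exact Subgroup.commutator_mono le_top le_top h3
  have h5 : π x ∈ commutator (X ⧸ Q0) ⊓ (Tb : Subgroup (X ⧸ Q0)) := ⟨h2, h1⟩
  rw [hfocal] at h5
  obtain ⟨j, hj, hjx⟩ := hcomm_le h5
  have h6 : π (j⁻¹ * x) = 1 := by rw [map_mul, map_inv, hjx, inv_mul_cancel]
  have h7 : j⁻¹ * x ∈ J := hQ0J ((hker _).1 h6)
  have h8 : x = j * (j⁻¹ * x) := by group
  rw [h8]; exact J.mul_mem hj h7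

/-- (T3)+(T4): if moreover the conjugates of `J` generate `X`, then `T = J`. -/
theorem sylow_eq_of_focal (T : Sylow p X) (Q0 J C : Subgroup X) [Q0.Normal]
    (hQ0J : Q0 ≤ J) (hJT : J ≤ T) (hT : (T : Subgroup X) ≤ J ⊔ C)
    (hTT : ⁅(T : Subgroup X), (T : Subgroup X)⁆ ≤ Q0)
    (hCX : ⁅C, (⊤ : Subgroup X)⁆ ≤ Q0)
    (hNJ : Subgroup.normalizer ((T : Subgroup X) : Set X) ≤ Subgroup.normalizer (J : Set X))
    (hgen : Subgroup.normalClosure (J : Set X) = ⊤) :
    (T : Subgroup X) = J := by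
  classical
  have hf := focal_le T Q0 J C hQ0J hJT hT hTT hCX hNJ
  apply le_antisymm _ hJT
  -- `X = J X'`
  have hnormal : (J ⊔ commutator X).Normal := by
    constructor
    intro n hn g
    have h1 : ⁅g, n⁆ ∈ commutator X := by
      rw [commutator_def]
      exact Subgroup.commutator_mem_commutator (Subgroup.mem_top g) (Subgroup.mem_top n)
    have h2 : g * n * g⁻¹ = ⁅g, n⁆ * n := by rw [commutatorElement_def]; group
    rw [h2]
    exact Subgroup.mul_mem _ (Subgroup.mem_sup_right h1) hn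
  have htop : J ⊔ commutator X = ⊤ := by
    apply top_le_iff.1
    rw [← hgen]
    exact Subgroup.normalClosure_le_normal (N := J ⊔ commutator X)
      (by intro x hx; exact Subgroup.mem_sup_left hx)
  intro t ht
  have h1 : t ∈ ((J ⊔ commutator X : Subgroup X) : Set X) := by rw [htop]; trivial
  rw [Subgroup.mul_normal, Set.mem_mul] at h1
  obtain ⟨j, hj, d, hd, rfl⟩ := h1
  have hdT : d ∈ (T : Subgroup X) := by
    have : d = j⁻¹ * (j * d) := by group
    rw [this]; exact Subgroup.mul_mem _ (Subgroup.inv_mem _ (hJT hj)) ht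
  have hdJ : d ∈ J := hf ⟨hdT, Subgroup.mem_sup_left hd⟩
  exact J.mul_mem hj hdJ

end Cfsg.Agent.Lib.Helper1.PU2768F
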