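import Mathlib
import Cfsg.Agent.Lib.Helper1.PU2768F

/-!
# S2768 rider unit (END) `endgame` (helper1), verbatim from helper2's stubs
-/

set_option autoImplicit false
set_option linter.unusedVariables false
set_option linter.unusedSectionVars false
set_option linter.style.longLine false

namespace Cfsg.Agent.Lib.Helper1.BAUe

open scoped commutatorElement

/-- (END) the abstract endgame: relative focal subgroup theorem + Dedekind -/
theorem endgame {H : Type*} [Group H] [Finite H] {p : ℕ} [Fact p.Prime] (T : Sylow p H)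
    (N R D : Subgroup H) [N.Normal] (hNR : N ≤ R) (hRT : R ≤ (T : Subgroup H))
    (hab : ∀ a ∈ (T : Subgroup H), ∀ b ∈ (T : Subgroup H), a * b * a⁻¹ * b⁻¹ ∈ N)
    (hT : (T : Subgroup H) ≤ R ⊔ D)
    (hD : ∀ d ∈ D, ∀ x : H, d * x * d⁻¹ * x⁻¹ ∈ N)
    (hR : ∀ x ∈ Subgroup.normalizer ((T : Subgroup H) : Set H), ∀ r ∈ R, x * r * x⁻¹ ∈ R)
    (hgen : Subgroup.normalClosure (R : Set H) = ⊤) :
    (T : Subgroup H) = R := by
  apply Cfsg.Agent.Lib.Helper1.PU2768F.sylow_eq_of_focal T N R D hNR hRT hT ?_ ?_ ?_ hgen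
  · rw [Subgroup.commutator_le]
    intro a ha b hb
    rw [commutatorElement_def]
    exact hab a ha b hb
  · rw [Subgroup.commutator_le]
    intro d hd x _
    rw [commutatorElement_def]
    exact hD d hd x
  · intro x hx
    rw [Subgroup.mem_normalizer_iff]
    intro r
    constructor
    · exact hR x hx r
    · intro hr
      have hx' : x⁻¹ ∈ Subgroup.normalizer ((T : Subgroup H) : Set H) := Subgroup.inv_mem _ hx
      have := hR x⁻¹ hx' _ hr
      have e : x⁻¹ * (x * r * x⁻¹) * x⁻¹⁻¹ = r := by group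
      rwa [e] at this

end Cfsg.Agent.Lib.Helper1.BAUe
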