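import Mathlib
import Cfsg.Prelude.Def_OddOrderLocal
import Cfsg.Prelude.Def_OddOrder
import Cfsg.Agent.Lib.Helper1.CoprimeSylow
import Cfsg.Agent.Lib.Helper2.Cores
import Cfsg.Agent.Lib.Helper1.ZJ11

set_option autoImplicit false
universe u
open scoped commutatorElement Pointwise

namespace Cfsg.Agent.Lib.Helper1.BG7

open Cfsg Subgroup

variable {G : Type u} [Group G]

/-! ### conjugation of subgroups -/

/-- conjugate of a subgroup by an element -/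
def cj (k : G) (Q : Subgroup G) : Subgroup G := Q.map (MulAut.conj k).toMonoidHom

theorem mem_cj {k x : G} {Q : Subgroup G} : x ∈ cj k Q ↔ k⁻¹ * x * k ∈ Q := by
  unfold cj
  constructor
  · rintro ⟨y, hy, rfl⟩
    have : k⁻¹ * (MulAut.conj k).toMonoidHom y * k = y := by
      show k⁻¹ * (k * y * k⁻¹) * k = y
      group
    rw [this]; exact hy
  · intro h
    refine ⟨k⁻¹ * x * k, h, ?_⟩
    show k * (k⁻¹ * x * k) * k⁻¹ = x
    group

theorem conj_mem_cj {k x : G} {Q : Subgroup G} (hx : x ∈ Q) : k * x * k⁻¹ ∈ cj k Q := by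
  rw [mem_cj]
  have : k⁻¹ * (k * x * k⁻¹) * k = x := by group
  rw [this]; exact hx

theorem cj_one (Q : Subgroup G) : cj 1 Q = Q := by
  ext x; rw [mem_cj]; simp

theorem cj_mul (k k' : G) (Q : Subgroup G) : cj (k * k') Q = cj k (cj k' Q) := by
  ext x
  rw [mem_cj, mem_cj, mem_cj]
  have : (k * k')⁻¹ * x * (k * k') = k'⁻¹ * (k⁻¹ * x * k) * k' := by group
  rw [this]

theorem cj_inv_cj (k : G) (Q : Subgroup G) : cj k⁻¹ (cj k Q) = Q := by
  rw [← cj_mul, inv_mul_cancel, cj_one]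

theorem cj_mono {k : G} {Q R : Subgroup G} (h : Q ≤ R) : cj k Q ≤ cj k R :=
  Subgroup.map_mono h

theorem cj_inf (k : G) (Q R : Subgroup G) : cj k (Q ⊓ R) = cj k Q ⊓ cj k R := by
  ext x
  rw [mem_cj, Subgroup.mem_inf, Subgroup.mem_inf, mem_cj, mem_cj]

theorem card_cj (k : G) (Q : Subgroup G) : Nat.card (cj k Q) = Nat.card Q :=
  Subgroup.card_map_of_injective (MulAut.conj k).injective

theorem cj_eq_bot_iff {k : G} {Q : Subgroup G} : cj k Q = ⊥ ↔ Q = ⊥ := by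
  unfold cj
  exact Subgroup.map_eq_bot_iff_of_injective _ (MulAut.conj k).injective

/-- conjugating by a centralizing element preserves being normalized by `A` -/
theorem le_normalizer_cj {A Q : Subgroup G} {c : G} (hc : c ∈ Subgroup.centralizer (A : Set G))
    (hQ : A ≤ Subgroup.normalizer (Q : Set G)) : A ≤ Subgroup.normalizer (cj c Q : Set G) := by
  intro a ha
  have hca : a * c = c * a := Subgroup.mem_centralizer_iff.mp hc a ha
  have hca' : c⁻¹ * a = a * c⁻¹ := by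
    rw [inv_mul_eq_iff_eq_mul, ← mul_assoc, ← hca, mul_assoc, mul_inv_cancel, mul_one]
  rw [Subgroup.mem_normalizer_iff]
  intro x
  rw [mem_cj, mem_cj]
  have h1 := (Subgroup.mem_normalizer_iff.mp (hQ ha)) (c⁻¹ * x * c)
  rw [h1]
  have : a * (c⁻¹ * x * c) * a⁻¹ = c⁻¹ * (a * x * a⁻¹) * c := by
    calc a * (c⁻¹ * x * c) * a⁻¹ = (a * c⁻¹) * x * (c * a⁻¹) := by group
      _ = (c⁻¹ * a) * x * (c * a⁻¹) := by rw [hca']
      _ = c⁻¹ * a * x * (a * c⁻¹)⁻¹ := by group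
      _ = c⁻¹ * a * x * (c⁻¹ * a)⁻¹ := by rw [hca']
      _ = c⁻¹ * (a * x * a⁻¹) * c := by group
  rw [this]

/-! ### `piCoreOf` -/

theorem piCoreOf_le (π : Set ℕ) (X : Subgroup G) : piCoreOf π X ≤ X :=
  Subgroup.map_subtype_le _

theorem piCoreOf_pi [Finite G] (π : Set ℕ) (X : Subgroup G) :
    ∀ p : ℕ, p.Prime → p ∣ Nat.card (piCoreOf π X) → p ∈ π := by
  intro p hp hd
  unfold piCoreOf at hd
  rw [Subgroup.card_map_of_injective X.subtype_injective] at hd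
  exact Helper2.piCore_pi π p hp hd

theorem le_piCoreOf {π : Set ℕ} {X Y : Subgroup G} (hYX : Y ≤ X)
    (hn : X ≤ Subgroup.normalizer (Y : Set G))
    (hπ : ∀ p : ℕ, p.Prime → p ∣ Nat.card Y → p ∈ π) : Y ≤ piCoreOf π X := by
  have hnorm : (Y.subgroupOf X).Normal := (Subgroup.normal_subgroupOf_iff_le_normalizer hYX).mpr hn
  have h1 : Y.subgroupOf X ≤ piCore π X := by
    apply Helper2.le_piCore
    intro p hp hd
    rw [Nat.card_congr (Subgroup.subgroupOfEquivOfLe hYX).toEquiv] at hd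
    exact hπ p hp hd
  intro y hy
  exact ⟨⟨y, hYX hy⟩, h1 (Subgroup.mem_subgroupOf.mpr hy), rfl⟩

theorem le_normalizer_piCoreOf (π : Set ℕ) (X : Subgroup G) :
    X ≤ Subgroup.normalizer (piCoreOf π X : Set G) := by
  intro x hx
  rw [Subgroup.mem_normalizer_iff]
  have key : ∀ (z : G), z ∈ X → ∀ n, n ∈ piCoreOf π X → z * n * z⁻¹ ∈ piCoreOf π X := by
    intro z hz n hn
    obtain ⟨n', hn', rfl⟩ := hn
    have := (piCore_normal π ↥X).conj_mem n' hn' ⟨z, hz⟩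
    exact ⟨_, this, rfl⟩
  intro n
  constructor
  · exact key x hx n
  · intro h
    have := key x⁻¹ (X.inv_mem hx) _ h
    have h2 : x⁻¹ * (x * n * x⁻¹) * x⁻¹⁻¹ = n := by group
    rwa [h2] at this

/-! ### invariant subgroups -/

theorem isPGroup_of_mem_invSubgroups [Finite G] {H A Q : Subgroup G} {q : ℕ} (hq : q.Prime)
    (hQ : Q ∈ invSubgroups H A {q}) : IsPGroup q Q := by
  have : Fact q.Prime := ⟨hq⟩
  have h1 : ∀ {d : ℕ}, d.Prime → d ∣ Nat.card Q → d = q := fun hd hdd => hQ.2.1 _ hd hdd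
  exact IsPGroup.of_card (Nat.eq_prime_pow_of_unique_prime_dvd Nat.card_pos.ne' h1)

theorem mem_invSubgroups_top_of_isPGroup [Finite G] {A Q : Subgroup G} {q : ℕ} (hq : q.Prime)
    (hQ : IsPGroup q Q) (hA : A ≤ Subgroup.normalizer (Q : Set G)) :
    Q ∈ invSubgroups ⊤ A {q} := by
  have : Fact q.Prime := ⟨hq⟩
  refine ⟨le_top, ?_, hA⟩
  intro p hp hd
  obtain ⟨k, hk⟩ := IsPGroup.iff_card.mp hQ
  rw [hk] at hd
  exact (Nat.prime_dvd_prime_iff_eq hp hq).mp (hp.dvd_of_dvd_pow hd)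

theorem exists_max_above [Finite G] {A Y : Subgroup G} {q : ℕ}
    (hY : Y ∈ invSubgroups ⊤ A {q}) : ∃ Q ∈ maxInvSubgroups ⊤ A {q}, Y ≤ Q := by
  have hfin : (invSubgroups ⊤ A ({q} : Set ℕ)).Finite := Set.toFinite _
  obtain ⟨Q, hYQ, hmax⟩ := hfin.exists_le_maximal hY
  refine ⟨Q, ⟨hmax.prop, ?_⟩, hYQ⟩
  intro R hR hQR
  exact le_antisymm (hmax.le_of_ge hR hQR) hQR

theorem cj_mem_invSubgroups {A Q : Subgroup G} {q : ℕ} {c : G}
    (hc : c ∈ Subgroup.centralizer (A : Set G)) (hQ : Q ∈ invSubgroups ⊤ A {q}) :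
    cj c Q ∈ invSubgroups ⊤ A {q} := by
  refine ⟨le_top, ?_, le_normalizer_cj hc hQ.2.2⟩
  intro p hp hd
  rw [card_cj] at hd
  exact hQ.2.1 p hp hd

theorem cj_mem_maxInvSubgroups {A Q : Subgroup G} {q : ℕ} {c : G}
    (hc : c ∈ Subgroup.centralizer (A : Set G)) (hQ : Q ∈ maxInvSubgroups ⊤ A {q}) :
    cj c Q ∈ maxInvSubgroups ⊤ A {q} := by
  refine ⟨cj_mem_invSubgroups hc hQ.1, ?_⟩
  intro R hR hle
  have hc' : c⁻¹ ∈ Subgroup.centralizer (A : Set G) := Subgroup.inv_mem _ hc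
  have h1 : cj c⁻¹ R ∈ invSubgroups ⊤ A {q} := cj_mem_invSubgroups hc' hR
  have h2 : Q ≤ cj c⁻¹ R := by
    have := cj_mono (k := c⁻¹) hle
    rwa [cj_inv_cj] at this
  have h3 := hQ.2 _ h1 h2
  have h4 : cj c (cj c⁻¹ R) = R := by
    have := cj_inv_cj c⁻¹ R
    rwa [inv_inv] at this
  rw [← h4, h3]

/-! ### coprime Sylow in subgroup form -/

theorem coprime_sylow_pair [Finite G] (A L : Subgroup G)
    (hAL : A ≤ Subgroup.normalizer (L : Set G))
    (hcop : (Nat.card A).Coprime (Nat.card L)) (hsolv : Group.IsSolvable A ∨ Group.IsSolvable L)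
    (q : ℕ) [Fact q.Prime] (U₁ U₂ : Subgroup G) (h₁L : U₁ ≤ L) (h₂L : U₂ ≤ L)
    (h₁q : IsPGroup q U₁) (h₂q : IsPGroup q U₂)
    (h₁A : A ≤ Subgroup.normalizer (U₁ : Set G)) (h₂A : A ≤ Subgroup.normalizer (U₂ : Set G)) :
    ∃ (S : Subgroup G) (c : G), c ∈ L ∧ c ∈ Subgroup.centralizer (A : Set G) ∧ IsPGroup q S ∧
      A ≤ Subgroup.normalizer (S : Set G) ∧ U₁ ≤ S ∧ U₂ ≤ cj c S := by
  obtain ⟨P₁, hU₁, hP₁⟩ := coprime_invariant_le_sylow A L hAL hcop hsolv q U₁ h₁L h₁q h₁A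
  obtain ⟨P₂, hU₂, hP₂⟩ := coprime_invariant_le_sylow A L hAL hcop hsolv q U₂ h₂L h₂q h₂A
  obtain ⟨c, hcA, hc⟩ := coprime_invariant_sylow_conj A L hAL hcop hsolv q P₁ P₂ hP₁ hP₂
  refine ⟨(P₁ : Subgroup L).map L.subtype, (c : G), c.2, hcA, P₁.2.map _, hP₁, hU₁, ?_⟩
  intro u hu
  obtain ⟨u', hu', rfl⟩ := hU₂ hu
  rw [← hc] at hu'
  have hu'' : u' ∈ MulAut.conj c • (P₁ : Subgroup L) := by
    rw [← Sylow.pointwise_smul_def]; exact hu'
  rw [Subgroup.mem_pointwise_smul_iff_inv_smul_mem] at hu''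
  rw [mem_cj]
  refine ⟨_, hu'', ?_⟩
  rw [MulAut.smul_def, MulAut.conj_inv_apply]
  rfl

end Cfsg.Agent.Lib.Helper1.BG7
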