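import Mathlib
import Cfsg.Agent.Lib.Helper1.BG7a

set_option autoImplicit false
universe u
open scoped commutatorElement Pointwise

namespace Cfsg.Agent.Lib.Helper1.BG7

open Cfsg Subgroup

variable {G : Type u} [Group G] [Finite G]

/-! ### consequences of minimal simplicity -/

omit [Finite G] in
theorem normalizer_ne_top (hG : IsMinSimpleOddOrder G) {D : Subgroup G} (h1 : D ≠ ⊥)
    (h2 : D ≠ ⊤) : Subgroup.normalizer (D : Set G) ≠ ⊤ := by
  intro h
  have hn : D.Normal := Subgroup.normalizer_eq_top_iff.mp h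
  have := hG.2.1
  rcases hn.eq_bot_or_eq_top with h | h
  · exact h1 h
  · exact h2 h

omit [Finite G] in
theorem isSolvable_of_ne_top (hG : IsMinSimpleOddOrder G) {H : Subgroup G} (h : H ≠ ⊤) :
    Group.IsSolvable H := hG.2.2.2 H h

theorem pgroup_ne_top (hG : IsMinSimpleOddOrder G) {q : ℕ} [hq : Fact q.Prime] {Q : Subgroup G}
    (hQ : IsPGroup q Q) : Q ≠ ⊤ := by
  intro h
  have hGq : IsPGroup q G := by
    intro g
    obtain ⟨k, hk⟩ := hQ ⟨g, by rw [h]; exact mem_top g⟩
    refine ⟨k, ?_⟩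
    have := congrArg Subtype.val hk
    rwa [Subgroup.coe_pow] at this
  have hsimple := hG.2.1
  have hnt : Nontrivial G := hsimple.toNontrivial
  have hc : Nontrivial (Subgroup.center G) := hGq.center_nontrivial
  have hcn : (Subgroup.center G).Normal := inferInstance
  rcases hcn.eq_bot_or_eq_top with h0 | h0
  · rw [h0] at hc
    exact not_nontrivial _ hc
  · apply hG.2.2.1
    refine ⟨⟨fun a b => ?_⟩⟩
    have : b ∈ Subgroup.center G := by rw [h0]; exact mem_top b
    exact (Subgroup.mem_center_iff.mp this a)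

/-! ### the group `K = O_{π'}(C_G(A))` -/

/-- `K = O_{π(A)'}(C_G(A))` -/
def KK (A : Subgroup G) : Subgroup G :=
  piCoreOf (primesNotDvd (Nat.card A)) (Subgroup.centralizer (A : Set G))

omit [Finite G] in
theorem KK_le_centralizer (A : Subgroup G) : KK A ≤ Subgroup.centralizer (A : Set G) :=
  piCoreOf_le _ _

omit [Finite G] in
theorem le_piCoreOf_of_mem_invSubgroups {A X Y : Subgroup G} (hA : TransitivityHypothesis A)
    (hX : X ≠ ⊤) (hAX : A ≤ X) (hY : Y ∈ invSubgroups X A (primesNotDvd (Nat.card A))) :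
    Y ≤ piCoreOf (primesNotDvd (Nat.card A)) X := by
  rw [← hA.2.2 X hX hAX]
  exact le_sSup hY

omit [Finite G] in
theorem coprime_card_of_pi' {A Y : Subgroup G}
    (hY : ∀ p : ℕ, p.Prime → p ∣ Nat.card Y → p ∈ primesNotDvd (Nat.card A)) :
    (Nat.card A).Coprime (Nat.card Y) := by
  apply Nat.coprime_of_dvd
  intro k hk hkA hkY
  exact (hY k hk hkY).2 hkA

theorem mem_KK_of_mem_piCoreOf (hG : IsMinSimpleOddOrder G) {A X : Subgroup G}
    (hA : TransitivityHypothesis A) {c : G}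
    (hc : c ∈ piCoreOf (primesNotDvd (Nat.card A)) X)
    (hcA : c ∈ Subgroup.centralizer (A : Set G)) : c ∈ KK A := by
  obtain ⟨X', hX'⟩ : ∃ X' : Subgroup G, X' = A ⊔ Subgroup.centralizer (A : Set G) := ⟨_, rfl⟩
  have hX'N : X' ≤ Subgroup.normalizer (A : Set G) := by
    rw [hX']
    exact sup_le Subgroup.le_normalizer (Subgroup.centralizer_le_normalizer _)
  have hX'top : X' ≠ ⊤ := by
    intro h
    apply normalizer_ne_top hG hA.1 hA.2.1
    rw [eq_top_iff, ← h]
    exact hX'N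
  have hAX' : A ≤ X' := by rw [hX']; exact le_sup_left
  have hCX' : Subgroup.centralizer (A : Set G) ≤ X' := by rw [hX']; exact le_sup_right
  obtain ⟨Y₀, hY₀⟩ : ∃ Y₀ : Subgroup G,
      Y₀ = piCoreOf (primesNotDvd (Nat.card A)) X ⊓ Subgroup.centralizer (A : Set G) := ⟨_, rfl⟩
  have hY₀inv : Y₀ ∈ invSubgroups X' A (primesNotDvd (Nat.card A)) := by
    refine ⟨?_, ?_, ?_⟩
    · rw [hY₀]; exact inf_le_right.trans hCX'
    · intro p hp hd
      apply piCoreOf_pi (primesNotDvd (Nat.card A)) X p hp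
      exact hd.trans (Subgroup.card_dvd_of_le (by rw [hY₀]; exact inf_le_left))
    · intro a ha
      rw [Subgroup.mem_normalizer_iff]
      intro y
      have key : ∀ z, z ∈ Y₀ → a * z * a⁻¹ = z := by
        intro z hz
        rw [hY₀] at hz
        have := Subgroup.mem_centralizer_iff.mp (Subgroup.mem_inf.mp hz).2 a ha
        rw [this, mul_inv_cancel_right]
      constructor
      · intro hy; rw [key y hy]; exact hy
      · intro hy
        have h1 := key _ hy
        have h2 : y = a * y * a⁻¹ := by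
          have := congrArg (fun t => a⁻¹ * t * a) h1
          beta_reduce at this
          have e1 : a⁻¹ * (a * (a * y * a⁻¹) * a⁻¹) * a = a * y * a⁻¹ := by group
          have e2 : a⁻¹ * (a * y * a⁻¹) * a = y := by group
          rw [e1, e2] at this
          exact this.symm
        rw [h2]; exact hy
  obtain ⟨M, hM⟩ : ∃ M : Subgroup G, M = piCoreOf (primesNotDvd (Nat.card A)) X' := ⟨_, rfl⟩
  have hY₀M : Y₀ ≤ M := by
    rw [hM]; exact le_piCoreOf_of_mem_invSubgroups hA hX'top hAX' hY₀inv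
  have hMX' : M ≤ X' := by rw [hM]; exact piCoreOf_le _ _
  have hMn : X' ≤ Subgroup.normalizer (M : Set G) := by rw [hM]; exact le_normalizer_piCoreOf _ _
  have hMpi : ∀ p : ℕ, p.Prime → p ∣ Nat.card M → p ∈ primesNotDvd (Nat.card A) := by
    rw [hM]; exact piCoreOf_pi _ _
  have hMA : M ⊓ A = ⊥ := by
    apply Disjoint.eq_bot
    apply Subgroup.disjoint_of_coprime_natCard
    exact (coprime_card_of_pi' hMpi).symm
  have hMC : M ≤ Subgroup.centralizer (A : Set G) := by
    intro m hm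
    rw [Subgroup.mem_centralizer_iff]
    intro a ha
    have h1 : ⁅m, a⁆ ∈ M ⊓ A := by
      refine Subgroup.mem_inf.mpr ⟨?_, ?_⟩
      · have h2 : a * m⁻¹ * a⁻¹ ∈ M :=
          (Subgroup.mem_normalizer_iff.mp (hMn (hAX' ha)) m⁻¹).mp (M.inv_mem hm)
        have : ⁅m, a⁆ = m * (a * m⁻¹ * a⁻¹) := by rw [commutatorElement_def]; group
        rw [this]; exact M.mul_mem hm h2
      · have h2 : m * a * m⁻¹ ∈ A :=
          (Subgroup.mem_normalizer_iff.mp (hX'N (hMX' hm)) a).mp ha
        rw [commutatorElement_def]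
        exact A.mul_mem h2 (A.inv_mem ha)
    rw [hMA, Subgroup.mem_bot, commutatorElement_eq_one_iff_mul_comm] at h1
    exact h1.symm
  have hMK : M ≤ KK A := le_piCoreOf hMC (hCX'.trans hMn) hMpi
  apply hMK
  apply hY₀M
  rw [hY₀]
  exact Subgroup.mem_inf.mpr ⟨hc, hcA⟩

/-! ### the conjugacy relation -/

/-- conjugacy under `K` -/
def Rel (A Q₁ Q₂ : Subgroup G) : Prop := ∃ k ∈ KK A, Q₂ = cj k Q₁

omit [Finite G] in
theorem Rel.refl (A Q : Subgroup G) : Rel A Q Q := ⟨1, Subgroup.one_mem _, (cj_one Q).symm⟩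

omit [Finite G] in
theorem Rel.trans {A Q₁ Q₂ Q₃ : Subgroup G} (h₁ : Rel A Q₁ Q₂) (h₂ : Rel A Q₂ Q₃) :
    Rel A Q₁ Q₃ := by
  obtain ⟨k, hk, rfl⟩ := h₁
  obtain ⟨k', hk', rfl⟩ := h₂
  exact ⟨k' * k, Subgroup.mul_mem _ hk' hk, (cj_mul k' k Q₁).symm⟩

end Cfsg.Agent.Lib.Helper1.BG7
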