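import Mathlib
import Cfsg.Agent.Lib.Helper1.BG7b
import Cfsg.Agent.Lib.Helper1.Coprime

set_option autoImplicit false
universe u
open scoped commutatorElement Pointwise

namespace Cfsg.Agent.Lib.Helper1.BG7

open Cfsg Subgroup

variable {G : Type u} [Group G] [Finite G]

theorem card_lt_of_lt' {D E : Subgroup G} (h : D < E) : Nat.card D < Nat.card E := by
  by_contra hcon
  push Not at hcon
  exact (ne_of_lt h) (Subgroup.eq_of_le_of_card_ge h.le hcon)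

/-- `A`-invariant `q`-subgroups of a proper subgroup `X ⊇ A` lie in `O_{π'}(X)`. -/
theorem qsub_le_piCoreOf {A X U : Subgroup G} (hA : TransitivityHypothesis A) {q : ℕ}
    [hq : Fact q.Prime] (hqA : ¬ q ∣ Nat.card A) (hX : X ≠ ⊤) (hAX : A ≤ X) (hUX : U ≤ X)
    (hU : IsPGroup q U) (hUA : A ≤ Subgroup.normalizer (U : Set G)) :
    U ≤ piCoreOf (primesNotDvd (Nat.card A)) X := by
  apply le_piCoreOf_of_mem_invSubgroups hA hX hAX
  refine ⟨hUX, ?_, hUA⟩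
  intro p hp hd
  obtain ⟨k, hk⟩ := IsPGroup.iff_card.mp hU
  rw [hk] at hd
  have := (Nat.prime_dvd_prime_iff_eq hp hq.out).mp (hp.dvd_of_dvd_pow hd)
  rw [this]
  exact ⟨hq.out, hqA⟩

/-- The linking step: two maximal invariant `q`-subgroups containing `A`-invariant subgroups of a
common proper overgroup of `A` can be linked through a third one. -/
theorem link_step (hG : IsMinSimpleOddOrder G) {A : Subgroup G} (hA : TransitivityHypothesis A)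
    {q : ℕ} [hq : Fact q.Prime] (hqA : ¬ q ∣ Nat.card A) {X U₁ U₂ : Subgroup G} (hX : X ≠ ⊤)
    (hAX : A ≤ X) (h₁X : U₁ ≤ X) (h₂X : U₂ ≤ X) (h₁q : IsPGroup q U₁) (h₂q : IsPGroup q U₂)
    (h₁A : A ≤ Subgroup.normalizer (U₁ : Set G)) (h₂A : A ≤ Subgroup.normalizer (U₂ : Set G)) :
    ∃ (c : G) (Q₃ : Subgroup G), c ∈ KK A ∧ Q₃ ∈ maxInvSubgroups ⊤ A {q} ∧ cj c U₁ ≤ Q₃ ∧
      U₂ ≤ Q₃ := by
  obtain ⟨L, hL⟩ : ∃ L : Subgroup G, L = piCoreOf (primesNotDvd (Nat.card A)) X := ⟨_, rfl⟩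
  have h₁L : U₁ ≤ L := by rw [hL]; exact qsub_le_piCoreOf hA hqA hX hAX h₁X h₁q h₁A
  have h₂L : U₂ ≤ L := by rw [hL]; exact qsub_le_piCoreOf hA hqA hX hAX h₂X h₂q h₂A
  have hLX : L ≤ X := by rw [hL]; exact piCoreOf_le _ _
  have hAL : A ≤ Subgroup.normalizer (L : Set G) := by
    rw [hL]; exact hAX.trans (le_normalizer_piCoreOf _ _)
  have hcop : (Nat.card A).Coprime (Nat.card L) := by
    rw [hL]; exact coprime_card_of_pi' (piCoreOf_pi _ _)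
  have hXs : Group.IsSolvable X := isSolvable_of_ne_top hG hX
  have hLs : Group.IsSolvable L := isSolvable_of_le hLX
  obtain ⟨S, c, hcL, hcA, hSq, hSA, hU₁S, hU₂S⟩ :=
    coprime_sylow_pair A L hAL hcop (Or.inr hLs) q U₁ U₂ h₁L h₂L h₁q h₂q h₁A h₂A
  have hcK : c ∈ KK A := mem_KK_of_mem_piCoreOf hG hA (hL ▸ hcL) hcA
  have hinv : cj c S ∈ invSubgroups ⊤ A {q} :=
    cj_mem_invSubgroups hcA (mem_invSubgroups_top_of_isPGroup hq.out hSq hSA)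
  obtain ⟨Q₃, hQ₃, hle⟩ := exists_max_above hinv
  exact ⟨c, Q₃, hcK, hQ₃, (cj_mono hU₁S).trans hle, hU₂S.trans hle⟩

theorem rel_of_inf_ne_bot (hG : IsMinSimpleOddOrder G) {A : Subgroup G}
    (hA : TransitivityHypothesis A) {q : ℕ} [hq : Fact q.Prime] (hqA : ¬ q ∣ Nat.card A) :
    ∀ n : ℕ, ∀ Q₁ Q₂ : Subgroup G, Q₁ ∈ maxInvSubgroups ⊤ A {q} → Q₂ ∈ maxInvSubgroups ⊤ A {q} →
      Q₁ ⊓ Q₂ ≠ ⊥ → Nat.card G - Nat.card (Q₁ ⊓ Q₂ : Subgroup G) = n → Rel A Q₁ Q₂ := by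
  intro n
  induction n using Nat.strong_induction_on with
  | _ n ih =>
    intro Q₁ Q₂ h₁ h₂ hne hn
    by_cases heq : Q₁ = Q₂
    · rw [heq]; exact Rel.refl A Q₂
    obtain ⟨D, hD⟩ : ∃ D : Subgroup G, D = Q₁ ⊓ Q₂ := ⟨_, rfl⟩
    rw [← hD] at hne hn
    have hq₁ : IsPGroup q Q₁ := isPGroup_of_mem_invSubgroups hq.out h₁.1
    have hq₂ : IsPGroup q Q₂ := isPGroup_of_mem_invSubgroups hq.out h₂.1
    have hD₁ : D < Q₁ := by
      refine lt_of_le_of_ne (by rw [hD]; exact inf_le_left) ?_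
      intro h
      have hle : Q₁ ≤ Q₂ := by rw [← h, hD]; exact inf_le_right
      exact heq (h₁.2 Q₂ h₂.1 hle).symm
    have hD₂ : D < Q₂ := by
      refine lt_of_le_of_ne (by rw [hD]; exact inf_le_right) ?_
      intro h
      have hle : Q₂ ≤ Q₁ := by rw [← h, hD]; exact inf_le_left
      exact heq (h₂.2 Q₁ h₁.1 hle)
    have hDtop : D ≠ ⊤ := by
      intro h
      apply pgroup_ne_top hG hq₁
      rw [eq_top_iff, ← h]
      exact hD₁.le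
    have hNtop := normalizer_ne_top hG hne hDtop
    have hAD : A ≤ Subgroup.normalizer (D : Set G) := by
      rw [hD]; exact le_normalizer_inf h₁.1.2.2 h₂.1.2.2
    have hANN : A ≤ Subgroup.normalizer ((Subgroup.normalizer (D : Set G) : Subgroup G) : Set G) :=
      hAD.trans Subgroup.le_normalizer
    have hlt₁ := ZJ.lt_inf_normalizer_of_lt hq₁ hD₁
    have hlt₂ := ZJ.lt_inf_normalizer_of_lt hq₂ hD₂
    obtain ⟨c, Q₃, hcK, hQ₃, hc₁, hc₂⟩ := link_step hG hA hqA hNtop hAD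
      (inf_le_right : Q₁ ⊓ Subgroup.normalizer (D : Set G) ≤ _)
      (inf_le_right : Q₂ ⊓ Subgroup.normalizer (D : Set G) ≤ _)
      (hq₁.to_le inf_le_left) (hq₂.to_le inf_le_left)
      (le_normalizer_inf h₁.1.2.2 hANN) (le_normalizer_inf h₂.1.2.2 hANN)
    have hcA : c ∈ Subgroup.centralizer (A : Set G) := KK_le_centralizer A hcK
    have hQ₁' : cj c Q₁ ∈ maxInvSubgroups ⊤ A {q} := cj_mem_maxInvSubgroups hcA h₁
    have hcardG : ∀ T : Subgroup G, Nat.card T ≤ Nat.card G := fun T => Subgroup.card_le_card_group T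
    -- first link
    have hrel₁ : Rel A (cj c Q₁) Q₃ := by
      have hle : cj c (Q₁ ⊓ Subgroup.normalizer (D : Set G)) ≤ cj c Q₁ ⊓ Q₃ :=
        le_inf (cj_mono inf_le_left) hc₁
      have hcard : Nat.card D < Nat.card (cj c Q₁ ⊓ Q₃ : Subgroup G) := by
        have h1 := Subgroup.card_le_of_le hle
        rw [card_cj] at h1
        have h2 := card_lt_of_lt' hlt₁
        omega
      have hne' : cj c Q₁ ⊓ Q₃ ≠ ⊥ := by
        intro h
        rw [h, Subgroup.card_bot] at hcard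
        have : 0 < Nat.card D := Nat.card_pos
        omega
      have h3 := hcardG (cj c Q₁ ⊓ Q₃)
      exact ih (Nat.card G - Nat.card (cj c Q₁ ⊓ Q₃ : Subgroup G)) (by omega) _ _ hQ₁' hQ₃ hne' rfl
    have hrel₂ : Rel A Q₃ Q₂ := by
      have hle : Q₂ ⊓ Subgroup.normalizer (D : Set G) ≤ Q₃ ⊓ Q₂ := le_inf hc₂ inf_le_left
      have hcard : Nat.card D < Nat.card (Q₃ ⊓ Q₂ : Subgroup G) := by
        have h1 := Subgroup.card_le_of_le hle
        have h2 := card_lt_of_lt' hlt₂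
        omega
      have hne' : Q₃ ⊓ Q₂ ≠ ⊥ := by
        intro h
        rw [h, Subgroup.card_bot] at hcard
        have : 0 < Nat.card D := Nat.card_pos
        omega
      have h3 := hcardG (Q₃ ⊓ Q₂)
      exact ih (Nat.card G - Nat.card (Q₃ ⊓ Q₂ : Subgroup G)) (by omega) _ _ hQ₃ h₂ hne' rfl
    exact (Rel.trans ⟨c, hcK, rfl⟩ hrel₁).trans hrel₂

/-- BG Theorem 7.2. -/
theorem t72 (hG : IsMinSimpleOddOrder G) {A : Subgroup G} (hA : TransitivityHypothesis A)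
    {q : ℕ} (hq : q.Prime) (hqA : ¬ q ∣ Nat.card A) {Q₁ Q₂ : Subgroup G}
    (h₁ : Q₁ ∈ maxInvSubgroups ⊤ A {q}) (h₂ : Q₂ ∈ maxInvSubgroups ⊤ A {q}) {H : Subgroup G}
    (hH : H ≠ ⊤) (hAH : A ≤ H) (hH₁ : H ⊓ Q₁ ≠ ⊥) (hH₂ : H ⊓ Q₂ ≠ ⊥) : Rel A Q₁ Q₂ := by
  have : Fact q.Prime := ⟨hq⟩
  have hq₁ : IsPGroup q Q₁ := isPGroup_of_mem_invSubgroups hq h₁.1
  have hq₂ : IsPGroup q Q₂ := isPGroup_of_mem_invSubgroups hq h₂.1
  have hAHn : A ≤ Subgroup.normalizer (H : Set G) := hAH.trans Subgroup.le_normalizer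
  obtain ⟨c, Q₃, hcK, hQ₃, hc₁, hc₂⟩ := link_step hG hA hqA hH hAH
    (inf_le_left : H ⊓ Q₁ ≤ H) (inf_le_left : H ⊓ Q₂ ≤ H)
    (hq₁.to_le inf_le_right) (hq₂.to_le inf_le_right)
    (le_normalizer_inf hAHn h₁.1.2.2) (le_normalizer_inf hAHn h₂.1.2.2)
  have hcA : c ∈ Subgroup.centralizer (A : Set G) := KK_le_centralizer A hcK
  have hQ₁' : cj c Q₁ ∈ maxInvSubgroups ⊤ A {q} := cj_mem_maxInvSubgroups hcA h₁
  have hrel₁ : Rel A (cj c Q₁) Q₃ := by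
    have hle : cj c (H ⊓ Q₁) ≤ cj c Q₁ ⊓ Q₃ := le_inf (cj_mono inf_le_right) hc₁
    have hne' : cj c Q₁ ⊓ Q₃ ≠ ⊥ := by
      intro h
      rw [h, le_bot_iff, cj_eq_bot_iff] at hle
      exact hH₁ hle
    exact rel_of_inf_ne_bot hG hA hqA _ _ _ hQ₁' hQ₃ hne' rfl
  have hrel₂ : Rel A Q₃ Q₂ := by
    have hle : H ⊓ Q₂ ≤ Q₃ ⊓ Q₂ := le_inf hc₂ inf_le_right
    have hne' : Q₃ ⊓ Q₂ ≠ ⊥ := by
      intro h
      rw [h, le_bot_iff] at hle
      exact hH₂ hle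
    exact rel_of_inf_ne_bot hG hA hqA _ _ _ hQ₃ h₂ hne' rfl
  exact (Rel.trans ⟨c, hcK, rfl⟩ hrel₁).trans hrel₂

end Cfsg.Agent.Lib.Helper1.BG7
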