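import Mathlib
import Cfsg.Agent.Lib.Helper1.BG7c
import Cfsg.Agent.S1324
import Cfsg.Agent.S0058

set_option autoImplicit false
universe u
open scoped commutatorElement Pointwise

namespace Cfsg.Agent.Lib.Helper1.BG7

open Cfsg Subgroup

variable {G : Type u} [Group G] [Finite G]

omit [Finite G] in
theorem Rel.symm {A Q₁ Q₂ : Subgroup G} (h : Rel A Q₁ Q₂) : Rel A Q₂ Q₁ := by
  obtain ⟨k, hk, rfl⟩ := h
  exact ⟨k⁻¹, Subgroup.inv_mem _ hk, (cj_inv_cj k Q₁).symm⟩

/-- Extract an elementary abelian subgroup from a failure of a rank bound. -/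
theorem exists_elementary_of_not_rankLE {Z : Subgroup G} {k : ℕ} (h : ¬ RankLE k ↥Z) :
    ∃ p : ℕ, p.Prime ∧ ∃ E : Subgroup G, E ≤ Z ∧ IsElementaryAbelian p E ∧
      p ^ (k + 1) ≤ Nat.card E := by
  unfold RankLE at h
  push Not at h
  obtain ⟨p, hp, hpr⟩ := h
  unfold PRankLE at hpr
  push Not at hpr
  obtain ⟨E₀, hc, hexp, hcard⟩ := hpr
  have : Fact p.Prime := ⟨hp⟩
  refine ⟨p, hp, E₀.map Z.subtype, Subgroup.map_subtype_le _, ⟨?_, ?_⟩, ?_⟩
  · refine ⟨⟨?_⟩⟩
    rintro ⟨_, a, ha, rfl⟩ ⟨_, b, hb, rfl⟩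
    apply Subtype.ext
    show Z.subtype a * Z.subtype b = Z.subtype b * Z.subtype a
    rw [← map_mul, ← map_mul]
    have := hc.is_comm.comm ⟨a, ha⟩ ⟨b, hb⟩
    exact congrArg (fun t : E₀ => Z.subtype (t : ↥Z)) this
  · rintro _ ⟨a, ha, rfl⟩
    rw [← map_pow, hexp a ha, map_one]
  · rw [Subgroup.card_map_of_injective Z.subtype_injective]
    have hE₀p : IsPGroup p E₀ := by
      intro x
      refine ⟨1, ?_⟩
      apply Subtype.ext
      rw [pow_one, Subgroup.coe_pow]
      exact hexp x x.2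
    obtain ⟨j, hj⟩ := IsPGroup.iff_card.mp hE₀p
    rw [hj] at hcard ⊢
    apply Nat.pow_le_pow_right hp.pos
    by_contra hcon
    push Not at hcon
    have : p ^ j ≤ p ^ k := Nat.pow_le_pow_right hp.pos (by omega)
    omega

omit [Finite G] in
theorem centralizer_singleton_ne_top (hG : IsMinSimpleOddOrder G) {b : G} (hb : b ≠ 1) :
    Subgroup.centralizer ({b} : Set G) ≠ ⊤ := by
  intro h
  have hbc : b ∈ Subgroup.center G := by
    rw [Subgroup.mem_center_iff]
    intro g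
    have : g ∈ Subgroup.centralizer ({b} : Set G) := by rw [h]; exact mem_top g
    exact (Subgroup.mem_centralizer_iff.mp this b rfl).symm
  have hsimple := hG.2.1
  have hcn : (Subgroup.center G).Normal := inferInstance
  rcases hcn.eq_bot_or_eq_top with h0 | h0
  · rw [h0, Subgroup.mem_bot] at hbc
    exact hb hbc
  · apply hG.2.2.1
    refine ⟨⟨fun x y => ?_⟩⟩
    have : y ∈ Subgroup.center G := by rw [h0]; exact mem_top y
    exact (Subgroup.mem_center_iff.mp this x)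

omit [Finite G] in
/-- `⊥` maximal forces every maximal invariant subgroup to be trivial. -/
theorem eq_bot_of_bot_mem {A Q : Subgroup G} {q : ℕ} (h : (⊥ : Subgroup G) ∈ maxInvSubgroups ⊤ A {q})
    (hQ : Q ∈ invSubgroups ⊤ A {q}) : Q = ⊥ := h.2 Q hQ bot_le

omit [Finite G] in
theorem le_centralizer_singleton_of_mem_center {A : Subgroup G} {b : G}
    (hb : b ∈ A ⊓ Subgroup.centralizer (A : Set G)) : A ≤ Subgroup.centralizer ({b} : Set G) := by
  intro a ha
  rw [Subgroup.mem_centralizer_iff]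
  intro x hx
  rw [Set.mem_singleton_iff] at hx
  subst hx
  exact (Subgroup.mem_centralizer_iff.mp (Subgroup.mem_inf.mp hb).2 a ha).symm

/-- BG Theorem 7.3. -/
theorem t73 (hG : IsMinSimpleOddOrder G) {A : Subgroup G} (hA : TransitivityHypothesis A)
    (hZ : ¬ RankLE 2 ↥(A ⊓ Subgroup.centralizer (A : Set G))) {q : ℕ} (hq : q.Prime)
    (hqA : ¬ q ∣ Nat.card A) {Q₁ Q₂ : Subgroup G}
    (h₁ : Q₁ ∈ maxInvSubgroups ⊤ A {q}) (h₂ : Q₂ ∈ maxInvSubgroups ⊤ A {q}) : Rel A Q₁ Q₂ := by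
  classical
  by_cases hb₁ : Q₁ = ⊥
  · have := eq_bot_of_bot_mem (hb₁ ▸ h₁) h₂.1
    rw [hb₁, this]; exact Rel.refl A ⊥
  by_cases hb₂ : Q₂ = ⊥
  · have := eq_bot_of_bot_mem (hb₂ ▸ h₂) h₁.1
    exact absurd this hb₁
  obtain ⟨p, hp, E, hEZ, hEe, hEcard⟩ := exists_elementary_of_not_rankLE hZ
  have : Fact p.Prime := ⟨hp⟩
  have hEA : E ≤ A := hEZ.trans inf_le_left
  have hpA : p ∣ Nat.card A := by
    have h1 : p ∣ Nat.card E := by
      obtain ⟨j, hj⟩ := IsPGroup.iff_card.mp (show IsPGroup p E from fun x => ⟨1, by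
        apply Subtype.ext; rw [pow_one, Subgroup.coe_pow]; exact hEe.2 x x.2⟩)
      have hEcard' : p ^ 3 ≤ Nat.card E := hEcard
      rw [hj] at hEcard' ⊢
      have : j ≠ 0 := by
        rintro rfl
        have : 1 < p ^ 3 := Nat.one_lt_pow (by norm_num) hp.one_lt
        rw [pow_zero] at hEcard'
        omega
      exact dvd_pow_self p this
    exact h1.trans (Subgroup.card_dvd_of_le hEA)
  have hE2 : p ^ 2 ≤ Nat.card E := le_trans (Nat.pow_le_pow_right hp.pos (by norm_num)) hEcard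
  have hpq : ∀ Q : Subgroup G, Q ∈ maxInvSubgroups ⊤ A {q} → ¬ p ∣ Nat.card Q := by
    intro Q hQ hd
    have := hQ.1.2.1 p hp hd
    rw [Set.mem_singleton_iff] at this
    rw [this] at hpA
    exact hqA hpA
  -- hyperplane with nontrivial centralizer
  have hyp : ∀ Q : Subgroup G, Q ∈ maxInvSubgroups ⊤ A {q} → Q ≠ ⊥ →
      ∃ B : Subgroup G, B ≤ E ∧ B.relIndex E ≤ p ∧ Q ⊓ Subgroup.centralizer (B : Set G) ≠ ⊥ := by
    intro Q hQ hQb
    have h1 := Cfsg.Agent.S1324.result p E Q hEe hE2 (hpq Q hQ) (hEA.trans hQ.1.2.2)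
    by_contra hcon
    push Not at hcon
    apply hQb
    rw [h1]
    apply le_antisymm _ bot_le
    apply iSup_le
    rintro ⟨B, hBE, hBi⟩
    rw [hcon B hBE hBi]
  obtain ⟨B₁, hB₁E, hB₁i, hB₁c⟩ := hyp Q₁ h₁ hb₁
  obtain ⟨B₂, hB₂E, hB₂i, hB₂c⟩ := hyp Q₂ h₂ hb₂
  -- B₁ ⊓ B₂ is nontrivial
  have hB : B₁ ⊓ B₂ ≠ ⊥ := by
    intro hbot
    have h1 : (B₁ ⊓ B₂).relIndex E ≤ p * p :=
      le_trans Subgroup.relIndex_inf_le (Nat.mul_le_mul hB₁i hB₂i)
    have h2 := Subgroup.relIndex_mul_relIndex ⊥ (B₁ ⊓ B₂) E bot_le (inf_le_left.trans hB₁E)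
    rw [Subgroup.relIndex_bot_left, Subgroup.relIndex_bot_left, hbot, Subgroup.card_bot,
      one_mul] at h2
    rw [hbot, h2] at h1
    have h3 : p ^ 3 = p * p * p := by ring
    have h4 : p * p < p * p * p := by
      have := hp.one_lt
      have h5 : 0 < p * p := Nat.mul_pos hp.pos hp.pos
      nlinarith
    simp only [Nat.reduceAdd] at hEcard
    omega
  obtain ⟨b, hb1⟩ := (Subgroup.ne_bot_iff_exists_ne_one (H := B₁ ⊓ B₂)).mp hB
  have hb1' : (b : G) ≠ 1 := fun h => hb1 (Subtype.ext h)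
  have hbB₁ : (b : G) ∈ B₁ := (Subgroup.mem_inf.mp b.2).1
  have hbB₂ : (b : G) ∈ B₂ := (Subgroup.mem_inf.mp b.2).2
  have hH := centralizer_singleton_ne_top hG hb1'
  have hAH : A ≤ Subgroup.centralizer ({(b : G)} : Set G) :=
    le_centralizer_singleton_of_mem_center (hEZ (hB₁E hbB₁))
  have hH₁ : Subgroup.centralizer ({(b : G)} : Set G) ⊓ Q₁ ≠ ⊥ := by
    intro h
    apply hB₁c
    rw [eq_bot_iff, ← h]
    refine le_inf (inf_le_right.trans ?_) inf_le_left
    apply Subgroup.centralizer_le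
    intro x hx
    rw [Set.mem_singleton_iff] at hx
    rw [hx]; exact hbB₁
  have hH₂ : Subgroup.centralizer ({(b : G)} : Set G) ⊓ Q₂ ≠ ⊥ := by
    intro h
    apply hB₂c
    rw [eq_bot_iff, ← h]
    refine le_inf (inf_le_right.trans ?_) inf_le_left
    apply Subgroup.centralizer_le
    intro x hx
    rw [Set.mem_singleton_iff] at hx
    rw [hx]; exact hbB₂
  exact t72 hG hA hq hqA h₁ h₂ hH hAH hH₁ hH₂

/-- BG Theorem 7.4. -/
theorem t74 (hG : IsMinSimpleOddOrder G) {A : Subgroup G} (hA : TransitivityHypothesis A)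
    (hZ : ¬ RankLE 1 ↥(A ⊓ Subgroup.centralizer (A : Set G))) {q : ℕ} (hq : q.Prime)
    (hqA : ¬ q ∣ Nat.card A) (hqC : q ∣ Nat.card (Subgroup.centralizer (A : Set G)))
    {Q₁ Q₂ : Subgroup G}
    (h₁ : Q₁ ∈ maxInvSubgroups ⊤ A {q}) (h₂ : Q₂ ∈ maxInvSubgroups ⊤ A {q}) : Rel A Q₁ Q₂ := by
  classical
  have : Fact q.Prime := ⟨hq⟩
  obtain ⟨p, hp, E, hEZ, hEe, hEcard⟩ := exists_elementary_of_not_rankLE hZ
  have : Fact p.Prime := ⟨hp⟩
  have hEA : E ≤ A := hEZ.trans inf_le_left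
  -- a nontrivial q-subgroup of C_G(A)
  obtain ⟨x, hx⟩ := exists_prime_orderOf_dvd_card' (G := ↥(Subgroup.centralizer (A : Set G))) q hqC
  obtain ⟨X, hXdef⟩ : ∃ X : Subgroup G, X = Subgroup.zpowers (x : G) := ⟨_, rfl⟩
  have hXC : X ≤ Subgroup.centralizer (A : Set G) := by
    rw [hXdef, Subgroup.zpowers_le]; exact x.2
  have hXne : X ≠ ⊥ := by
    rw [hXdef]
    intro h
    rw [Subgroup.zpowers_eq_bot] at h
    have h1 : x = 1 := Subtype.ext h
    rw [h1, orderOf_one] at hx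
    exact hq.one_lt.ne hx
  have hXq : IsPGroup q X := by
    rw [hXdef]
    apply IsPGroup.of_card (n := 1)
    rw [Nat.card_zpowers, pow_one, Subgroup.orderOf_coe, hx]
  have hXA : A ≤ Subgroup.normalizer (X : Set G) := by
    intro a ha
    rw [Subgroup.mem_normalizer_iff]
    intro y
    have key : ∀ z, z ∈ X → a * z * a⁻¹ = z := by
      intro z hz
      have := Subgroup.mem_centralizer_iff.mp (hXC hz) a ha
      rw [this, mul_inv_cancel_right]
    constructor
    · intro hy; rw [key y hy]; exact hy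
    · intro hy
      have h1 := key _ hy
      have h2 : y = a * y * a⁻¹ := by
        have := congrArg (fun t => a⁻¹ * t * a) h1
        beta_reduce at this
        have e1 : a⁻¹ * (a * (a * y * a⁻¹) * a⁻¹) * a = a * y * a⁻¹ := by group
        have e2 : a⁻¹ * (a * y * a⁻¹) * a = y := by group
        rw [e1, e2] at this
        exact this.symm
      rw [h2]; exact hy
  obtain ⟨Q₀, hQ₀, hXQ₀⟩ := exists_max_above (mem_invSubgroups_top_of_isPGroup hq hXq hXA)
  -- every maximal one is linked to Q₀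
  have key : ∀ Q : Subgroup G, Q ∈ maxInvSubgroups ⊤ A {q} → Rel A Q Q₀ := by
    intro Q hQ
    have hQb : Q ≠ ⊥ := by
      intro h
      have := eq_bot_of_bot_mem (h ▸ hQ) (mem_invSubgroups_top_of_isPGroup hq hXq hXA)
      exact hXne this
    have hEc : IsMulCommutative E := hEe.1
    have hEnc : ¬ IsCyclic E := by
      intro hcyc
      have h1 : Monoid.exponent E = Nat.card E := IsCyclic.exponent_eq_card
      have h2 : Monoid.exponent E ∣ p := Monoid.exponent_dvd_of_forall_pow_eq_one (fun g => by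
        apply Subtype.ext
        rw [Subgroup.coe_pow]
        exact hEe.2 g g.2)
      have h3 : Nat.card E ≤ p := h1 ▸ Nat.le_of_dvd hp.pos h2
      have h4 : p < p ^ 2 := by
        have := hp.one_lt
        nlinarith
      simp only [Nat.reduceAdd] at hEcard
      omega
    have hcop : (Nat.card E).Coprime (Nat.card Q) := by
      have hQq : IsPGroup q Q := isPGroup_of_mem_invSubgroups hq hQ.1
      obtain ⟨j, hj⟩ := IsPGroup.iff_card.mp hQq
      rw [hj]
      apply Nat.Coprime.pow_right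
      rw [Nat.coprime_comm, hq.coprime_iff_not_dvd]
      intro hd
      exact hqA (hd.trans (Subgroup.card_dvd_of_le hEA))
    have hgen := Cfsg.Agent.S0058.result E Q hEnc (hEA.trans hQ.1.2.2) hcop
    have hex : ∃ a : G, a ∈ E ∧ a ≠ 1 ∧ Q ⊓ Subgroup.centralizer ({a} : Set G) ≠ ⊥ := by
      by_contra hcon
      push Not at hcon
      apply hQb
      rw [← hgen]
      apply le_antisymm _ bot_le
      apply iSup_le
      intro a
      apply iSup_le
      rintro ⟨haE, ha1⟩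
      rw [hcon a haE ha1]
    obtain ⟨a, haE, ha1, hac⟩ := hex
    have hH := centralizer_singleton_ne_top hG ha1
    have hAH : A ≤ Subgroup.centralizer ({a} : Set G) :=
      le_centralizer_singleton_of_mem_center (hEZ haE)
    have hH₁ : Subgroup.centralizer ({a} : Set G) ⊓ Q ≠ ⊥ := by rw [inf_comm]; exact hac
    have hH₂ : Subgroup.centralizer ({a} : Set G) ⊓ Q₀ ≠ ⊥ := by
      intro h
      apply hXne
      rw [eq_bot_iff, ← h]
      refine le_inf (hXC.trans ?_) hXQ₀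
      apply Subgroup.centralizer_le
      intro y hy
      rw [Set.mem_singleton_iff] at hy
      rw [hy]; exact hEA haE
    exact t72 hG hA hq hqA hQ hQ₀ hH hAH hH₁ hH₂
  exact (key Q₁ h₁).trans (key Q₂ h₂).symm

end Cfsg.Agent.Lib.Helper1.BG7
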