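import Mathlib
import Cfsg.Agent.Lib.Helper1.BG7d
import Cfsg.Agent.Lib.Helper1.SZHelpers

set_option autoImplicit false
universe u
open scoped commutatorElement Pointwise

namespace Cfsg.Agent.Lib.Helper1.BG7

open Cfsg Subgroup

variable {G : Type u} [Group G] [Finite G]

/-! ### conjugation by elements of the normalizer -/

omit [Finite G] in
theorem le_normalizer_cj_of_mem_normalizer {A Q : Subgroup G} {g : G}
    (hg : g ∈ Subgroup.normalizer (A : Set G))
    (hQ : A ≤ Subgroup.normalizer (Q : Set G)) : A ≤ Subgroup.normalizer (cj g Q : Set G) := by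
  apply le_normalizer_of_conj_mem
  intro a ha x hx
  rw [mem_cj] at hx ⊢
  have hg' : g⁻¹ ∈ Subgroup.normalizer (A : Set G) := Subgroup.inv_mem _ hg
  have h1 : g⁻¹ * a * g⁻¹⁻¹ ∈ A := (Subgroup.mem_normalizer_iff.mp hg' a).mp ha
  rw [inv_inv] at h1
  have h2 := (Subgroup.mem_normalizer_iff.mp (hQ h1) (g⁻¹ * x * g)).mp hx
  have e : g⁻¹ * (a * x * a⁻¹) * g = g⁻¹ * a * g * (g⁻¹ * x * g) * (g⁻¹ * a * g)⁻¹ := by group
  rw [e]; exact h2

omit [Finite G] in
theorem cj_mem_invSubgroups_of_mem_normalizer {A Q : Subgroup G} {π : Set ℕ} {g : G}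
    (hg : g ∈ Subgroup.normalizer (A : Set G)) (hQ : Q ∈ invSubgroups ⊤ A π) :
    cj g Q ∈ invSubgroups ⊤ A π := by
  refine ⟨le_top, ?_, le_normalizer_cj_of_mem_normalizer hg hQ.2.2⟩
  intro p hp hd
  rw [card_cj] at hd
  exact hQ.2.1 p hp hd

omit [Finite G] in
theorem cj_mem_maxInvSubgroups_of_mem_normalizer {A Q : Subgroup G} {π : Set ℕ} {g : G}
    (hg : g ∈ Subgroup.normalizer (A : Set G)) (hQ : Q ∈ maxInvSubgroups ⊤ A π) :
    cj g Q ∈ maxInvSubgroups ⊤ A π := by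
  refine ⟨cj_mem_invSubgroups_of_mem_normalizer hg hQ.1, ?_⟩
  intro R hR hle
  have hg' : g⁻¹ ∈ Subgroup.normalizer (A : Set G) := Subgroup.inv_mem _ hg
  have h1 : cj g⁻¹ R ∈ invSubgroups ⊤ A π := cj_mem_invSubgroups_of_mem_normalizer hg' hR
  have h2 : Q ≤ cj g⁻¹ R := by
    have := cj_mono (k := g⁻¹) hle
    rwa [cj_inv_cj] at this
  have h3 := hQ.2 _ h1 h2
  have h4 : cj g (cj g⁻¹ R) = R := by
    have := cj_inv_cj g⁻¹ R
    rwa [inv_inv] at this
  rw [← h4, h3]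

omit [Finite G] in
theorem mem_normalizer_of_cj_eq {Q : Subgroup G} {g : G} (h : cj g Q = Q) :
    g ∈ Subgroup.normalizer (Q : Set G) := by
  rw [Subgroup.mem_normalizer_iff]
  intro x
  constructor
  · intro hx
    rw [← h]
    exact conj_mem_cj hx
  · intro hx
    rw [← h, mem_cj] at hx
    have e : g⁻¹ * (g * x * g⁻¹) * g = x := by group
    rwa [e] at hx

omit [Finite G] in
theorem cj_eq_of_mem_normalizer {Q : Subgroup G} {g : G}
    (h : g ∈ Subgroup.normalizer (Q : Set G)) : cj g Q = Q := by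
  ext x
  rw [mem_cj]
  have hg' : g⁻¹ ∈ Subgroup.normalizer (Q : Set G) := Subgroup.inv_mem _ h
  have := Subgroup.mem_normalizer_iff.mp hg' x
  rw [inv_inv] at this
  exact this.symm

omit [Finite G] in
theorem normalizer_le_normalizer_centralizer_self (P : Subgroup G) :
    Subgroup.normalizer (P : Set G) ≤
      Subgroup.normalizer (Subgroup.centralizer (P : Set G) : Set G) := by
  apply le_normalizer_of_conj_mem
  intro g hg z hz
  rw [Subgroup.mem_centralizer_iff] at hz ⊢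
  intro p hp
  have hg' : g⁻¹ ∈ Subgroup.normalizer (P : Set G) := Subgroup.inv_mem _ hg
  have h1 : g⁻¹ * p * g⁻¹⁻¹ ∈ P := (Subgroup.mem_normalizer_iff.mp hg' p).mp hp
  rw [inv_inv] at h1
  have h2 := hz _ h1
  calc p * (g * z * g⁻¹) = g * ((g⁻¹ * p * g) * z) * g⁻¹ := by group
    _ = g * (z * (g⁻¹ * p * g)) * g⁻¹ := by rw [h2]
    _ = g * z * g⁻¹ * p := by group

theorem normalizer_le_normalizer_piCoreOf_centralizer (π : Set ℕ) (P : Subgroup G) :
    Subgroup.normalizer (P : Set G) ≤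
      Subgroup.normalizer (piCoreOf π (Subgroup.centralizer (P : Set G)) : Set G) := by
  obtain ⟨C, hC⟩ : ∃ C : Subgroup G, C = Subgroup.centralizer (P : Set G) := ⟨_, rfl⟩
  rw [← hC]
  have hNC : Subgroup.normalizer (P : Set G) ≤ Subgroup.normalizer (C : Set G) := by
    rw [hC]; exact normalizer_le_normalizer_centralizer_self P
  apply le_normalizer_of_conj_mem
  intro g hg x hx
  have hgC := hNC hg
  have hle : cj g (piCoreOf π C) ≤ piCoreOf π C := by
    apply le_piCoreOf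
    · have h1 : cj g (piCoreOf π C) ≤ cj g C := cj_mono (piCoreOf_le π C)
      rw [cj_eq_of_mem_normalizer hgC] at h1
      exact h1
    · exact le_normalizer_cj_of_mem_normalizer hgC (le_normalizer_piCoreOf π C)
    · intro p hp hd
      rw [card_cj] at hd
      exact piCoreOf_pi π C p hp hd
  exact hle (conj_mem_cj hx)

/-! ### part (a) -/

theorem KK_inf_centralizer (hG : IsMinSimpleOddOrder G) {A P : Subgroup G}
    (hA : TransitivityHypothesis A) (hAP : A ≤ P) :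
    KK A ⊓ Subgroup.centralizer (P : Set G) =
      piCoreOf (primesNotDvd (Nat.card A)) (Subgroup.centralizer (P : Set G)) := by
  have hCC : Subgroup.centralizer (P : Set G) ≤ Subgroup.centralizer (A : Set G) :=
    Subgroup.centralizer_le (by exact_mod_cast hAP)
  apply le_antisymm
  · apply le_piCoreOf inf_le_right
    · apply le_normalizer_inf
      · exact hCC.trans (le_normalizer_piCoreOf _ _)
      · exact Subgroup.le_normalizer
    · intro p hp hd
      exact piCoreOf_pi _ _ p hp (hd.trans (Subgroup.card_dvd_of_le inf_le_left))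
  · intro c hc
    refine Subgroup.mem_inf.mpr ⟨?_, piCoreOf_le _ _ hc⟩
    exact mem_KK_of_mem_piCoreOf hG hA hc (hCC (piCoreOf_le _ _ hc))

/-! ### every `P`-invariant `q`-subgroup lies in a `P`-invariant maximal `A`-invariant one -/

theorem exists_invariant_max_above (hG : IsMinSimpleOddOrder G) {A P : Subgroup G}
    (hA : TransitivityHypothesis A) {q : ℕ} [hq : Fact q.Prime] (hqA : ¬ q ∣ Nat.card A)
    (hPπ : ∀ r : ℕ, r.Prime → r ∣ Nat.card P → r ∣ Nat.card A) (hAP : A ≤ P)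
    {Q₀ : Subgroup G} (hQ₀ : Q₀ ∈ maxInvSubgroups ⊤ A {q})
    (hPQ₀ : P ≤ Subgroup.normalizer (Q₀ : Set G)) :
    ∀ (n : ℕ) (Q : Subgroup G), Q ∈ invSubgroups ⊤ P {q} → Nat.card G - Nat.card Q = n →
      ∃ Q' ∈ maxInvSubgroups ⊤ A {q}, P ≤ Subgroup.normalizer (Q' : Set G) ∧ Q ≤ Q' := by
  intro n
  induction n using Nat.strong_induction_on with
  | _ n ih =>
    intro Q hQ hn
    by_cases hQbot : Q = ⊥
    · exact ⟨Q₀, hQ₀, hPQ₀, by rw [hQbot]; exact bot_le⟩
    have hQq : IsPGroup q Q := isPGroup_of_mem_invSubgroups hq.out hQ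
    have hQA : Q ∈ invSubgroups ⊤ A {q} := ⟨le_top, hQ.2.1, hAP.trans hQ.2.2⟩
    obtain ⟨Q₁, hQ₁, hQQ₁⟩ := exists_max_above hQA
    by_cases hEq : Q = Q₁
    · exact ⟨Q, hEq ▸ hQ₁, hQ.2.2, le_rfl⟩
    have hlt : Q < Q₁ := lt_of_le_of_ne hQQ₁ hEq
    have hQ₁q : IsPGroup q Q₁ := isPGroup_of_mem_invSubgroups hq.out hQ₁.1
    obtain ⟨N, hN⟩ : ∃ N : Subgroup G, N = Subgroup.normalizer (Q : Set G) := ⟨_, rfl⟩
    have hNtop : N ≠ ⊤ := by rw [hN]; exact normalizer_ne_top hG hQbot (pgroup_ne_top hG hQq)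
    have hPN : P ≤ N := by rw [hN]; exact hQ.2.2
    have hAN : A ≤ N := hAP.trans hPN
    obtain ⟨R, hR⟩ : ∃ R : Subgroup G, R = Q₁ ⊓ N := ⟨_, rfl⟩
    have hQR : Q < R := by rw [hR, hN]; exact ZJ.lt_inf_normalizer_of_lt hQ₁q hlt
    have hRq : IsPGroup q R := by rw [hR]; exact hQ₁q.to_le inf_le_left
    have hRA : A ≤ Subgroup.normalizer (R : Set G) := by
      rw [hR]
      apply le_normalizer_inf hQ₁.1.2.2
      rw [hN]
      exact (hAP.trans hQ.2.2).trans Subgroup.le_normalizer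
    have hRN : R ≤ N := by rw [hR]; exact inf_le_right
    obtain ⟨L, hL⟩ : ∃ L : Subgroup G, L = piCoreOf (primesNotDvd (Nat.card A)) N := ⟨_, rfl⟩
    have hRL : R ≤ L := by rw [hL]; exact qsub_le_piCoreOf hA hqA hNtop hAN hRN hRq hRA
    have hQL : Q ≤ L := hQR.le.trans hRL
    have hLN : L ≤ N := by rw [hL]; exact piCoreOf_le _ _
    have hPL : P ≤ Subgroup.normalizer (L : Set G) := by
      rw [hL]; exact hPN.trans (le_normalizer_piCoreOf _ _)
    have hcop : (Nat.card P).Coprime (Nat.card L) := by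
      apply Nat.coprime_of_dvd
      intro k hk hkP hkL
      have h1 := piCoreOf_pi (primesNotDvd (Nat.card A)) N k hk (hL ▸ hkL)
      exact h1.2 (hPπ k hk hkP)
    have hNs : Group.IsSolvable N := isSolvable_of_ne_top hG hNtop
    have hLs : Group.IsSolvable L := isSolvable_of_le hLN
    obtain ⟨S, hQS, hPS⟩ :=
      coprime_invariant_le_sylow P L hPL hcop (Or.inr hLs) q Q hQL hQq hQ.2.2
    obtain ⟨S', hS'⟩ : ∃ S' : Subgroup G, S' = (S : Subgroup L).map L.subtype := ⟨_, rfl⟩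
    rw [← hS'] at hQS hPS
    have hS'q : IsPGroup q S' := by rw [hS']; exact S.2.map _
    have hcard : Nat.card R ≤ Nat.card S' := by
      have hRq' : IsPGroup q (R.subgroupOf L) := hRq.comap_subtype
      obtain ⟨S₂, hS₂⟩ := hRq'.exists_le_sylow
      have h1 : Nat.card (R.subgroupOf L) ≤ Nat.card (S₂ : Subgroup L) :=
        Nat.le_of_dvd Nat.card_pos (Subgroup.card_dvd_of_le hS₂)
      rw [card_subgroupOf_of_le hRL] at h1
      have h2 : Nat.card (S₂ : Subgroup L) = Nat.card (S : Subgroup L) := by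
        rw [S₂.card_eq_multiplicity, S.card_eq_multiplicity]
      have h3 : Nat.card S' = Nat.card (S : Subgroup L) := by
        rw [hS']; exact Subgroup.card_map_of_injective L.subtype_injective
      omega
    have hQS' : Q < S' := by
      apply lt_of_le_of_ne hQS
      intro he
      have h1 := card_lt_of_lt' hQR
      rw [he] at h1
      omega
    have hS'inv : S' ∈ invSubgroups ⊤ P {q} :=
      mem_invSubgroups_top_of_isPGroup hq.out hS'q hPS
    have hlt2 : Nat.card G - Nat.card S' < n := by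
      have h1 := card_lt_of_lt' hQS'
      have h2 : Nat.card S' ≤ Nat.card G :=
        Nat.le_of_dvd Nat.card_pos (Subgroup.card_subgroup_dvd_card S')
      omega
    obtain ⟨Q', hQ', hPQ', hS'Q'⟩ := ih _ hlt2 S' hS'inv rfl
    exact ⟨Q', hQ', hPQ', hQS'.le.trans hS'Q'⟩

/-! ### the conjugation action on maximal invariant subgroups -/

omit [Finite G] in
/-- the conjugation action of a subgroup `Γ ≤ N_G(A)` on the maximal `A`-invariant `π`-subgroups -/
@[reducible] def maxInvAct (A : Subgroup G) (π : Set ℕ) (Γ : Subgroup G)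
    (hΓ : Γ ≤ Subgroup.normalizer (A : Set G)) :
    MulAction Γ {Q : Subgroup G // Q ∈ maxInvSubgroups ⊤ A π} where
  smul g Q := ⟨cj (g : G) Q.1, cj_mem_maxInvSubgroups_of_mem_normalizer (hΓ g.2) Q.2⟩
  one_smul Q := by
    apply Subtype.ext
    show cj ((1 : Γ) : G) Q.1 = Q.1
    rw [Subgroup.coe_one, cj_one]
  mul_smul g₁ g₂ Q := by
    apply Subtype.ext
    show cj ((g₁ * g₂ : Γ) : G) Q.1 = cj (g₁ : G) (cj (g₂ : G) Q.1)
    rw [Subgroup.coe_mul, cj_mul]

/-! ### the normal step -/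

theorem normal_step (hG : IsMinSimpleOddOrder G) {A P : Subgroup G}
    (hA : TransitivityHypothesis A) {q : ℕ} [hq : Fact q.Prime] (hqA : ¬ q ∣ Nat.card A)
    (hPtop : P ≠ ⊤) (hPπ : ∀ r : ℕ, r.Prime → r ∣ Nat.card P → r ∣ Nat.card A) (hAP : A ≤ P)
    (hPA : P ≤ Subgroup.normalizer (A : Set G))
    (htr : ∀ Q₁ ∈ maxInvSubgroups ⊤ A {q}, ∀ Q₂ ∈ maxInvSubgroups ⊤ A {q},
      ∃ k ∈ KK A, Q₂ = cj k Q₁) :
    (∀ Q ∈ maxInvSubgroups ⊤ P {q}, Q ∈ maxInvSubgroups ⊤ A {q}) ∧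
    (∀ Q₁ ∈ maxInvSubgroups ⊤ P {q}, ∀ Q₂ ∈ maxInvSubgroups ⊤ P {q},
      ∃ k ∈ KK A ⊓ Subgroup.centralizer (P : Set G), Q₂ = cj k Q₁) := by
  obtain ⟨K, hK⟩ : ∃ K : Subgroup G, K = KK A := ⟨_, rfl⟩
  have hKC : K ≤ Subgroup.centralizer (A : Set G) := by rw [hK]; exact KK_le_centralizer A
  have hKN : K ≤ Subgroup.normalizer (A : Set G) :=
    hKC.trans (Subgroup.centralizer_le_normalizer _)
  have hPK : P ≤ Subgroup.normalizer (K : Set G) := by
    rw [hK]; exact hPA.trans (normalizer_le_normalizer_piCoreOf_centralizer _ A)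
  have hcop : (Nat.card P).Coprime (Nat.card K) := by
    apply Nat.coprime_of_dvd
    intro k hk hkP hkK
    have h1 := piCoreOf_pi (primesNotDvd (Nat.card A)) (Subgroup.centralizer (A : Set G)) k hk
      (by rw [hK] at hkK; exact hkK)
    exact h1.2 (hPπ k hk hkP)
  have hPs : Group.IsSolvable P := isSolvable_of_ne_top hG hPtop
  have hΓN : K ⊔ P ≤ Subgroup.normalizer (A : Set G) := sup_le hKN hPA
  obtain ⟨hn, hc, hcop', hsolv'⟩ := coprime_action_data P K hPK hcop (Or.inl hPs)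
  have hsolv'' : Group.IsSolvable (K.subgroupOf (K ⊔ P)) ∨
      Group.IsSolvable ((K ⊔ P : Subgroup G) ⧸ K.subgroupOf (K ⊔ P)) := by
    rcases hsolv' with h | h
    · exact Or.inl h
    · exact Or.inr h
  let _ := maxInvAct A {q} (K ⊔ P) hΓN
  have hbot : (⊥ : Subgroup G) ∈ invSubgroups ⊤ A {q} := by
    refine mem_invSubgroups_top_of_isPGroup hq.out IsPGroup.of_bot ?_
    rw [Subgroup.normalizer_eq_top_iff.mpr (inferInstance : (⊥ : Subgroup G).Normal)]
    exact le_top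
  obtain ⟨Q₀', hQ₀', -⟩ := exists_max_above hbot
  have : Nonempty {Q : Subgroup G // Q ∈ maxInvSubgroups ⊤ A {q}} := ⟨⟨Q₀', hQ₀'⟩⟩
  have htrans : MulAction.IsPretransitive (K.subgroupOf (K ⊔ P))
      {Q : Subgroup G // Q ∈ maxInvSubgroups ⊤ A {q}} := by
    constructor
    intro x y
    obtain ⟨k, hk, hxy⟩ := htr x.1 x.2 y.1 y.2
    rw [← hK] at hk
    refine ⟨⟨⟨k, (le_sup_left : K ≤ K ⊔ P) hk⟩, hk⟩, ?_⟩
    apply Subtype.ext
    exact hxy.symm
  obtain ⟨x₀, hx₀⟩ := glauberman_exists_fixed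
    (X := {Q : Subgroup G // Q ∈ maxInvSubgroups ⊤ A {q}})
    (K.subgroupOf (K ⊔ P)) (P.subgroupOf (K ⊔ P)) hc hcop' hsolv'' htrans
  have hfix : ∀ x : {Q : Subgroup G // Q ∈ maxInvSubgroups ⊤ A {q}},
      (∀ h ∈ P.subgroupOf (K ⊔ P), h • x = x) ↔ P ≤ Subgroup.normalizer (x.1 : Set G) := by
    intro x
    constructor
    · intro h p hp
      have h1 := h ⟨p, (le_sup_right : P ≤ K ⊔ P) hp⟩ hp
      have h2 : cj p x.1 = x.1 := congrArg Subtype.val h1
      exact mem_normalizer_of_cj_eq h2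
    · intro h g hg
      apply Subtype.ext
      show cj (g : G) x.1 = x.1
      exact cj_eq_of_mem_normalizer (h (Subgroup.mem_subgroupOf.mp hg))
  have hPQ₀ : P ≤ Subgroup.normalizer (x₀.1 : Set G) := (hfix x₀).mp hx₀
  have hkey := exists_invariant_max_above hG hA hqA hPπ hAP x₀.2 hPQ₀
  have hsub : ∀ Q ∈ maxInvSubgroups ⊤ P {q}, Q ∈ maxInvSubgroups ⊤ A {q} := by
    intro Q hQ
    obtain ⟨Q', hQ', hPQ', hQQ'⟩ := hkey _ Q hQ.1 rfl
    have hQ'inv : Q' ∈ invSubgroups ⊤ P {q} := ⟨le_top, hQ'.1.2.1, hPQ'⟩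
    have := hQ.2 Q' hQ'inv hQQ'
    rw [← this]; exact hQ'
  refine ⟨hsub, ?_⟩
  intro Q₁ hQ₁ Q₂ hQ₂
  obtain ⟨k, ⟨hkK, hkC⟩, hk⟩ := glauberman_fixed_conj
    (X := {Q : Subgroup G // Q ∈ maxInvSubgroups ⊤ A {q}})
    (K.subgroupOf (K ⊔ P)) (P.subgroupOf (K ⊔ P)) hc hcop' hsolv'' htrans
    ⟨Q₁, hsub Q₁ hQ₁⟩ ⟨Q₂, hsub Q₂ hQ₂⟩ ((hfix _).mpr hQ₁.1.2.2) ((hfix _).mpr hQ₂.1.2.2)
  refine ⟨(k : G), Subgroup.mem_inf.mpr ⟨?_, ?_⟩, ?_⟩
  · rw [← hK]; exact Subgroup.mem_subgroupOf.mp hkK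
  · rw [Subgroup.mem_centralizer_iff]
    intro p hp
    have := Subgroup.mem_centralizer_iff.mp hkC ⟨p, (le_sup_right : P ≤ K ⊔ P) hp⟩
      (Subgroup.mem_subgroupOf.mpr hp)
    exact congrArg Subtype.val this
  · have h2 : cj (k : G) Q₁ = Q₂ := congrArg Subtype.val hk
    exact h2.symm

end Cfsg.Agent.Lib.Helper1.BG7
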