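import Mathlib
set_option autoImplicit false
open Pointwise
open scoped commutatorElement

namespace Cfsg.Agent.Lib.Helper1

universe u

variable {G : Type u} [Group G]

/-- If `N` is normal, `N ⊔ H = ⊤` and `H' ≤ N`, then `G' ≤ N`. -/
theorem commutator_le_of_sup_eq_top (N H : Subgroup G) [hN : N.Normal] (hsup : N ⊔ H = ⊤)
    (hH : ⁅H, H⁆ ≤ N) : commutator G ≤ N := by
  rw [← Subgroup.Normal.quotient_commutative_iff_commutator_le]
  constructor
  constructor
  intro a b
  obtain ⟨x, rfl⟩ := QuotientGroup.mk_surjective a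
  obtain ⟨y, rfl⟩ := QuotientGroup.mk_surjective b
  have hx : x ∈ N ⊔ H := by rw [hsup]; trivial
  have hy : y ∈ N ⊔ H := by rw [hsup]; trivial
  rw [Subgroup.mem_sup_of_normal_left] at hx hy
  obtain ⟨x1, hx1, x2, hx2, rfl⟩ := hx
  obtain ⟨y1, hy1, y2, hy2, rfl⟩ := hy
  have ex : ((x1 * x2 : G) : G ⧸ N) = (x2 : G ⧸ N) := by
    rw [QuotientGroup.mk_mul, (QuotientGroup.eq_one_iff x1).mpr hx1, one_mul]
  have ey : ((y1 * y2 : G) : G ⧸ N) = (y2 : G ⧸ N) := by
    rw [QuotientGroup.mk_mul, (QuotientGroup.eq_one_iff y1).mpr hy1, one_mul]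
  rw [ex, ey, ← QuotientGroup.mk_mul, ← QuotientGroup.mk_mul, QuotientGroup.eq]
  have : ⁅y2⁻¹, x2⁻¹⁆ ∈ N := hH (Subgroup.commutator_mem_commutator (H.inv_mem hy2) (H.inv_mem hx2))
  rw [commutatorElement_def] at this
  have e : (x2 * y2)⁻¹ * (y2 * x2) = y2⁻¹ * x2⁻¹ * y2⁻¹⁻¹ * x2⁻¹⁻¹ := by group
  rw [e]
  exact this

/-- Transfer into `H / H*` when `|G : H|` is prime to `|H : H'|`: the kernel `N` of the transfer
satisfies `N ∩ H = H*` and `N H = G`. -/
theorem transferFocal_ker_of_coprime [Finite G] (H : Subgroup G)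
    (h : Nat.Coprime H.index (⁅H, H⁆.relIndex H)) :
    H.transferFocal.ker ⊓ H = H.focalSubgroup ∧ H.transferFocal.ker ⊔ H = ⊤ := by
  have hcard : Nat.card (H ⧸ H.focalSubgroupOf) ∣ ⁅H, H⁆.relIndex H := by
    have : Nat.card (H ⧸ H.focalSubgroupOf) = H.focalSubgroup.relIndex H := rfl
    rw [this]
    exact Subgroup.relIndex_dvd_of_le_left H H.commutator_le_focalSubgroup
  have hcop : (Nat.card (H ⧸ H.focalSubgroupOf)).Coprime H.index :=
    (Nat.Coprime.coprime_dvd_right hcard h).symm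
  have hbij : Function.Bijective (fun y : H ⧸ H.focalSubgroupOf => y ^ H.index) :=
    (powCoprime hcop).bijective
  constructor
  · ext x
    constructor
    · rintro ⟨hxk, hxH⟩
      have h1 : H.transferFocal x = 1 := hxk
      have h2 := H.transferFocal_eq_pow ⟨x, hxH⟩
      rw [show ((⟨x, hxH⟩ : H) : G) = x from rfl, h1] at h2
      have h3 : ((⟨x, hxH⟩ : H) : H ⧸ H.focalSubgroupOf) = 1 := by
        apply hbij.1
        show _ ^ H.index = (1 : H ⧸ H.focalSubgroupOf) ^ H.index
        rw [one_pow]; exact h2.symm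
      rw [QuotientGroup.eq_one_iff] at h3
      exact Subgroup.mem_subgroupOf.mp h3
    · intro hx
      have hxH : x ∈ H := H.focalSubgroup_le hx
      refine Subgroup.mem_inf.mpr ⟨?_, hxH⟩
      rw [MonoidHom.mem_ker]
      have h2 := H.transferFocal_eq_pow ⟨x, hxH⟩
      rw [show ((⟨x, hxH⟩ : H) : G) = x from rfl] at h2
      rw [h2]
      have h3 : ((⟨x, hxH⟩ : H) : H ⧸ H.focalSubgroupOf) = 1 := by
        rw [QuotientGroup.eq_one_iff]
        exact Subgroup.mem_subgroupOf.mpr hx
      rw [h3, one_pow]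
  · rw [eq_top_iff]
    intro g _
    obtain ⟨y, hy⟩ := hbij.2 (H.transferFocal g)
    obtain ⟨y, rfl⟩ := QuotientGroup.mk_surjective y
    have h2 := H.transferFocal_eq_pow y
    have hy' : (y : H ⧸ H.focalSubgroupOf) ^ H.index = H.transferFocal g := hy
    rw [hy'] at h2
    have h3 : g * (y : G)⁻¹ ∈ H.transferFocal.ker := by
      rw [MonoidHom.mem_ker, map_mul, map_inv, h2, mul_inv_cancel]
    have e : g = g * (y : G)⁻¹ * y := by group
    rw [e]
    exact Subgroup.mul_mem _ (Subgroup.mem_sup_left h3) (Subgroup.mem_sup_right y.2)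

open scoped IsMulCommutative in
/-- The focal subgroup theorem for a subgroup `H` with `|G : H|` prime to `|H : H'|`. -/
theorem focalSubgroup_eq_of_coprime [Finite G] (H : Subgroup G)
    (h : Nat.Coprime H.index (⁅H, H⁆.relIndex H)) :
    H.focalSubgroup = commutator G ⊓ H := by
  apply le_antisymm
  · exact le_inf H.focalSubgroup_le_commutator H.focalSubgroup_le
  · rw [← (transferFocal_ker_of_coprime H h).1]
    refine inf_le_inf_right _ ?_
    exact Abelianization.commutator_subset_ker H.transferFocal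

end Cfsg.Agent.Lib.Helper1
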