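import Mathlib
import Cfsg.Agent.Lib.Helper1.BG7e
import Cfsg.Agent.S1460

set_option autoImplicit false
universe u
open scoped commutatorElement Pointwise

namespace Cfsg.Agent.Lib.Helper1.BG7

open Cfsg Subgroup

variable {G : Type u} [Group G] [Finite G]

omit [Finite G] in
theorem frattini_part (π : Set ℕ) {P : Subgroup G} {q : ℕ}
    (htr : ∀ Q₁ ∈ maxInvSubgroups ⊤ P {q}, ∀ Q₂ ∈ maxInvSubgroups ⊤ P {q},
      ∃ k ∈ piCoreOf π (Subgroup.centralizer (P : Set G)), Q₂ = cj k Q₁)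
    {Q : Subgroup G} (hQ : Q ∈ maxInvSubgroups ⊤ P {q}) :
    Subgroup.normalizer (P : Set G) = piCoreOf π (Subgroup.centralizer (P : Set G)) ⊔
      (Subgroup.normalizer (P : Set G) ⊓ Subgroup.normalizer (Q : Set G)) := by
  obtain ⟨Ks, hKs⟩ : ∃ Ks : Subgroup G, Ks = piCoreOf π (Subgroup.centralizer (P : Set G)) :=
    ⟨_, rfl⟩
  rw [← hKs]
  have hKsN : Ks ≤ Subgroup.normalizer (P : Set G) := by
    rw [hKs]; exact (piCoreOf_le _ _).trans (Subgroup.centralizer_le_normalizer _)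
  apply le_antisymm
  · intro n hn
    have h1 : cj n Q ∈ maxInvSubgroups ⊤ P {q} := cj_mem_maxInvSubgroups_of_mem_normalizer hn hQ
    obtain ⟨k, hk, hkQ⟩ := htr Q hQ _ h1
    rw [← hKs] at hk
    have h2 : cj (k⁻¹ * n) Q = Q := by
      rw [cj_mul, hkQ, cj_inv_cj]
    have h3 : k⁻¹ * n ∈ Subgroup.normalizer (Q : Set G) := mem_normalizer_of_cj_eq h2
    have h4 : k⁻¹ * n ∈ Subgroup.normalizer (P : Set G) :=
      Subgroup.mul_mem _ (Subgroup.inv_mem _ (hKsN hk)) hn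
    have e : n = k * (k⁻¹ * n) := by group
    rw [e]
    exact Subgroup.mul_mem_sup hk (Subgroup.mem_inf.mpr ⟨h4, h3⟩)
  · exact sup_le hKsN inf_le_left

theorem derived_part (hG : IsMinSimpleOddOrder G) {A P : Subgroup G} (hAbot : A ≠ ⊥)
    (hAP : A ≤ P) (hPtop : P ≠ ⊤)
    (hPπ : ∀ r : ℕ, r.Prime → r ∣ Nat.card P → r ∣ Nat.card A)
    {Q : Subgroup G} (hPQ : P ≤ Subgroup.normalizer (Q : Set G))
    (hfr : Subgroup.normalizer (P : Set G) =
      piCoreOf (primesNotDvd (Nat.card A)) (Subgroup.centralizer (P : Set G)) ⊔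
      (Subgroup.normalizer (P : Set G) ⊓ Subgroup.normalizer (Q : Set G))) :
    P ⊓ ⁅Subgroup.normalizer (P : Set G), Subgroup.normalizer (P : Set G)⁆ ≤
      ⁅Subgroup.normalizer (Q : Set G), Subgroup.normalizer (Q : Set G)⁆ := by
  obtain ⟨N, hN⟩ : ∃ N : Subgroup G, N = Subgroup.normalizer (P : Set G) := ⟨_, rfl⟩
  obtain ⟨Ks, hKs⟩ : ∃ Ks : Subgroup G,
    Ks = piCoreOf (primesNotDvd (Nat.card A)) (Subgroup.centralizer (P : Set G)) := ⟨_, rfl⟩
  rw [← hKs, ← hN] at hfr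
  rw [← hN]
  obtain ⟨U, hU⟩ : ∃ U : Subgroup G, U = N ⊓ Subgroup.normalizer (Q : Set G) := ⟨_, rfl⟩
  rw [← hU] at hfr
  have hPbot : P ≠ ⊥ := fun h => hAbot (by rw [eq_bot_iff, ← h]; exact hAP)
  have hNtop : N ≠ ⊤ := by rw [hN]; exact normalizer_ne_top hG hPbot hPtop
  have hNs : Group.IsSolvable N := isSolvable_of_ne_top hG hNtop
  have hPN : P ≤ N := by rw [hN]; exact Subgroup.le_normalizer
  have hKsN : Ks ≤ N := by
    rw [hKs, hN]; exact (piCoreOf_le _ _).trans (Subgroup.centralizer_le_normalizer _)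
  have hUN : U ≤ N := by rw [hU]; exact inf_le_left
  have hPU : P ≤ U := by rw [hU]; exact le_inf hPN hPQ
  have hKsn : (Ks.subgroupOf N).Normal := by
    apply (Subgroup.normal_subgroupOf_iff_le_normalizer hKsN).mpr
    rw [hKs, hN]; exact normalizer_le_normalizer_piCoreOf_centralizer _ P
  have hsup : Ks.subgroupOf N ⊔ U.subgroupOf N = ⊤ := by
    rw [← Subgroup.subgroupOf_sup hKsN hUN, ← hfr]
    exact Subgroup.subgroupOf_self (H := N)
  have hHU : P.subgroupOf N ≤ U.subgroupOf N := fun x hx => hPU hx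
  have hcop : (Nat.card (P.subgroupOf N)).Coprime (Nat.card (Ks.subgroupOf N)) := by
    rw [card_subgroupOf_of_le hPN, card_subgroupOf_of_le hKsN]
    apply Nat.coprime_of_dvd
    intro k hk hkP hkK
    have h1 := piCoreOf_pi (primesNotDvd (Nat.card A)) _ k hk (hKs ▸ hkK)
    exact h1.2 (hPπ k hk hkP)
  have key := (Cfsg.Agent.S1460.result (Ks.subgroupOf N) (U.subgroupOf N) (P.subgroupOf N)
    hsup hHU hcop).1
  intro x hx
  obtain ⟨hxP, hxN'⟩ := Subgroup.mem_inf.mp hx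
  have hxN : x ∈ N := hPN hxP
  have h1 : (⟨x, hxN⟩ : N) ∈ _root_.commutator N := by
    rw [← Subgroup.map_subtype_commutator N] at hxN'
    obtain ⟨y, hy, hyx⟩ := hxN'
    have : y = ⟨x, hxN⟩ := Subtype.ext hyx
    rw [← this]; exact hy
  have h2 : (⟨x, hxN⟩ : N) ∈ P.subgroupOf N ⊓ _root_.commutator N :=
    Subgroup.mem_inf.mpr ⟨hxP, h1⟩
  rw [key] at h2
  have h3 := (Subgroup.mem_inf.mp h2).2
  have h4 : x ∈ (⁅U.subgroupOf N, U.subgroupOf N⁆).map N.subtype := ⟨_, h3, rfl⟩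
  rw [Subgroup.map_commutator, Subgroup.subgroupOf_map_subtype] at h4
  have hUQ : U ⊓ N ≤ Subgroup.normalizer (Q : Set G) := by
    rw [hU]; exact inf_le_left.trans inf_le_right
  exact Subgroup.commutator_mono hUQ hUQ h4

theorem transHyp_of_le {A A₁ : Subgroup G} (hA : TransitivityHypothesis A) (hAA₁ : A ≤ A₁)
    (hA₁top : A₁ ≠ ⊤) (hπ : primesNotDvd (Nat.card A₁) = primesNotDvd (Nat.card A)) :
    TransitivityHypothesis A₁ := by
  refine ⟨?_, hA₁top, ?_⟩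
  · intro h; apply hA.1; rw [eq_bot_iff, ← h]; exact hAA₁
  · intro X hX hA₁X
    rw [hπ]
    apply le_antisymm
    · apply sSup_le
      intro Y hY
      apply le_piCoreOf_of_mem_invSubgroups hA hX (hAA₁.trans hA₁X)
      exact ⟨hY.1, hY.2.1, hAA₁.trans hY.2.2⟩
    · apply le_sSup
      exact ⟨piCoreOf_le _ _, piCoreOf_pi _ _, hA₁X.trans (le_normalizer_piCoreOf _ _)⟩

omit [Finite G] in
theorem primesNotDvd_eq {A A₁ P : Subgroup G} (hAA₁ : A ≤ A₁) (hA₁P : A₁ ≤ P)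
    (hPπ : ∀ r : ℕ, r.Prime → r ∣ Nat.card P → r ∣ Nat.card A) :
    primesNotDvd (Nat.card A₁) = primesNotDvd (Nat.card A) := by
  ext r
  constructor
  · rintro ⟨hr, hnd⟩
    exact ⟨hr, fun h => hnd (h.trans (Subgroup.card_dvd_of_le hAA₁))⟩
  · rintro ⟨hr, hnd⟩
    exact ⟨hr, fun h => hnd (hPπ r hr (h.trans (Subgroup.card_dvd_of_le hA₁P)))⟩

theorem t75_core (hG : IsMinSimpleOddOrder G) {q : ℕ} [hq : Fact q.Prime] {P : Subgroup G}
    (hPtop : P ≠ ⊤) :
    ∀ (n : ℕ) (A : Subgroup G), TransitivityHypothesis A → ¬ q ∣ Nat.card A →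
      (∀ r : ℕ, r.Prime → r ∣ Nat.card P → r ∣ Nat.card A) → A ≤ P →
      (A.subgroupOf P).IsSubnormal →
      (∀ Q₁ ∈ maxInvSubgroups ⊤ A {q}, ∀ Q₂ ∈ maxInvSubgroups ⊤ A {q},
        ∃ k ∈ KK A, Q₂ = cj k Q₁) →
      Nat.card P - Nat.card A = n →
      (∀ Q ∈ maxInvSubgroups ⊤ P {q}, Q ∈ maxInvSubgroups ⊤ A {q}) ∧
      (∀ Q₁ ∈ maxInvSubgroups ⊤ P {q}, ∀ Q₂ ∈ maxInvSubgroups ⊤ P {q},
        ∃ k ∈ piCoreOf (primesNotDvd (Nat.card A)) (Subgroup.centralizer (P : Set G)),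
          Q₂ = cj k Q₁) := by
  intro n
  induction n using Nat.strong_induction_on with
  | _ n ih =>
    intro A hA hqA hPπ hAP hsn htr hn
    by_cases hPA : P ≤ Subgroup.normalizer (A : Set G)
    · obtain ⟨h1, h2⟩ := normal_step hG hA hqA hPtop hPπ hAP hPA htr
      refine ⟨h1, ?_⟩
      intro Q₁ hQ₁ Q₂ hQ₂
      obtain ⟨k, hk, hkQ⟩ := h2 Q₁ hQ₁ Q₂ hQ₂
      rw [KK_inf_centralizer hG hA hAP] at hk
      exact ⟨k, hk, hkQ⟩
    · rw [IsSubnormal.iff_eq_top_or_exists] at hsn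
      rcases hsn with htop | ⟨K', hlt, hK'sn, hnorm⟩
      · exfalso
        apply hPA
        have : P ≤ A := Subgroup.subgroupOf_eq_top.mp htop
        have hAeq : A = P := le_antisymm hAP this
        rw [hAeq]; exact Subgroup.le_normalizer
      · obtain ⟨A₁, hA₁⟩ : ∃ A₁ : Subgroup G, A₁ = K'.map P.subtype := ⟨_, rfl⟩
        have hA₁P : A₁ ≤ P := by rw [hA₁]; exact Subgroup.map_subtype_le _
        have hK'eq : A₁.subgroupOf P = K' := by
          rw [hA₁]; exact Subgroup.comap_map_eq_self_of_injective P.subtype_injective K'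
        have hAA₁ : A ≤ A₁ := by
          intro a ha
          rw [hA₁]
          exact ⟨⟨a, hAP ha⟩, hlt.le (Subgroup.mem_subgroupOf.mpr ha), rfl⟩
        have hAneA₁ : A ≠ A₁ := by
          intro h
          apply ne_of_lt hlt
          rw [← hK'eq, ← h]
        have hAltA₁ : A < A₁ := lt_of_le_of_ne hAA₁ hAneA₁
        have hK'N : K' ≤ Subgroup.normalizer ((A.subgroupOf P : Subgroup P) : Set P) :=
          (Subgroup.normal_subgroupOf_iff_le_normalizer hlt.le).mp hnorm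
        have hA₁N : A₁ ≤ Subgroup.normalizer (A : Set G) := by
          apply le_normalizer_of_conj_mem
          intro g hg x hx
          rw [hA₁] at hg
          obtain ⟨k', hk', rfl⟩ := hg
          have h1 := (Subgroup.mem_normalizer_iff.mp (hK'N hk') ⟨x, hAP hx⟩).mp
            (Subgroup.mem_subgroupOf.mpr hx)
          exact h1
        have hA₁top : A₁ ≠ ⊤ := fun h => hPtop (by rw [eq_top_iff, ← h]; exact hA₁P)
        have hA₁π : ∀ r : ℕ, r.Prime → r ∣ Nat.card A₁ → r ∣ Nat.card A := fun r hr hd =>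
          hPπ r hr (hd.trans (Subgroup.card_dvd_of_le hA₁P))
        have hπeq : primesNotDvd (Nat.card A₁) = primesNotDvd (Nat.card A) :=
          primesNotDvd_eq hAA₁ hA₁P hPπ
        obtain ⟨h1, h2⟩ := normal_step hG hA hqA hA₁top hA₁π hAA₁ hA₁N htr
        have hA₁T : TransitivityHypothesis A₁ := transHyp_of_le hA hAA₁ hA₁top hπeq
        have hqA₁ : ¬ q ∣ Nat.card A₁ := fun h => hqA (hA₁π q hq.out h)
        have hPπ₁ : ∀ r : ℕ, r.Prime → r ∣ Nat.card P → r ∣ Nat.card A₁ := fun r hr hd =>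
          (hPπ r hr hd).trans (Subgroup.card_dvd_of_le hAA₁)
        have htr₁ : ∀ Q₁ ∈ maxInvSubgroups ⊤ A₁ {q}, ∀ Q₂ ∈ maxInvSubgroups ⊤ A₁ {q},
            ∃ k ∈ KK A₁, Q₂ = cj k Q₁ := by
          intro Q₁ hQ₁ Q₂ hQ₂
          obtain ⟨k, hk, hkQ⟩ := h2 Q₁ hQ₁ Q₂ hQ₂
          rw [KK_inf_centralizer hG hA hAA₁] at hk
          refine ⟨k, ?_, hkQ⟩
          unfold KK; rw [hπeq]; exact hk
        have hsn₁ : (A₁.subgroupOf P).IsSubnormal := by rw [hK'eq]; exact hK'sn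
        have hlt' : Nat.card P - Nat.card A₁ < n := by
          have h5 := card_lt_of_lt' hAltA₁
          have h6 := Nat.le_of_dvd Nat.card_pos (Subgroup.card_dvd_of_le hA₁P)
          omega
        obtain ⟨h3, h4⟩ := ih _ hlt' A₁ hA₁T hqA₁ hPπ₁ hA₁P hsn₁ htr₁ rfl
        refine ⟨fun Q hQ => h1 Q (h3 Q hQ), ?_⟩
        rw [hπeq] at h4
        exact h4

end Cfsg.Agent.Lib.Helper1.BG7
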