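import Mathlib
import Cfsg.Agent.Lib.Helper1.ClassTwo

set_option autoImplicit false
open scoped commutatorElement
universe u v

namespace Cfsg.Agent.Lib.Helper1

/-- data for the Baer construction on a group of class at most two with unique square roots -/
structure BaerData (D : Type u) [Group D] : Type u where
  /-- the exponent giving square roots -/
  h : ℕ
  /-- commutators are central -/
  cc : CommCentral D
  /-- `z ^ h` is a square root of `z` -/
  half : ∀ z : D, z ^ (2 * h) = z

/-- the Baer group of a group of class at most two with unique square roots -/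
structure Baer {D : Type u} [Group D] (B : BaerData D) : Type u where
  /-- underlying element -/
  val : D

namespace Baer

variable {D : Type u} [Group D] (B : BaerData D)

theorem ext_val {x y : Baer B} (h : x.val = y.val) : x = y := by
  cases x; cases y; cases h; rfl

instance instMulBaer : Mul (Baer B) := ⟨fun x y => ⟨x.val * y.val * ⁅y.val, x.val⁆ ^ B.h⟩⟩
instance instOneBaer : One (Baer B) := ⟨⟨1⟩⟩
instance instInvBaer : Inv (Baer B) := ⟨fun x => ⟨x.val⁻¹⟩⟩

theorem mul_val (x y : Baer B) : (x * y).val = x.val * y.val * ⁅y.val, x.val⁆ ^ B.h := rfl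
theorem one_val : (1 : Baer B).val = 1 := rfl
theorem inv_val (x : Baer B) : (x⁻¹).val = x.val⁻¹ := rfl

include B in
theorem central_pow (x y : D) (n : ℕ) (g : D) : Commute (⁅x, y⁆ ^ n) g :=
  (B.cc.comm_commute x y g).pow_left n

include B in
theorem comm_mul_central_right (z u x y : D) (n : ℕ) : ⁅z, u * ⁅x, y⁆ ^ n⁆ = ⁅z, u⁆ := by
  rw [B.cc.comm_mul_right]
  have : ⁅z, ⁅x, y⁆ ^ n⁆ = 1 :=
    commutatorElement_eq_one_iff_commute.mpr (central_pow B x y n z).symm
  rw [this, mul_one]

include B in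
theorem comm_mul_central_left (z u x y : D) (n : ℕ) : ⁅u * ⁅x, y⁆ ^ n, z⁆ = ⁅u, z⁆ := by
  rw [B.cc.comm_mul_left]
  have : ⁅⁅x, y⁆ ^ n, z⁆ = 1 :=
    commutatorElement_eq_one_iff_commute.mpr (central_pow B x y n z)
  rw [this, mul_one]

theorem mul_assoc_val (x y z : D) :
    (x * y * ⁅y, x⁆ ^ B.h) * z * ⁅z, x * y * ⁅y, x⁆ ^ B.h⁆ ^ B.h =
      x * (y * z * ⁅z, y⁆ ^ B.h) * ⁅y * z * ⁅z, y⁆ ^ B.h, x⁆ ^ B.h := by
  rw [comm_mul_central_right B, comm_mul_central_left B, B.cc.comm_mul_right, B.cc.comm_mul_left,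
    (B.cc.comm_commute z x ⁅z, y⁆).mul_pow, (B.cc.comm_commute y x ⁅z, x⁆).mul_pow]
  obtain ⟨P, hP⟩ : ∃ P, P = ⁅y, x⁆ ^ B.h := ⟨_, rfl⟩
  obtain ⟨Q, hQ⟩ : ∃ Q, Q = ⁅z, x⁆ ^ B.h := ⟨_, rfl⟩
  obtain ⟨R, hR⟩ : ∃ R, R = ⁅z, y⁆ ^ B.h := ⟨_, rfl⟩
  have cP : ∀ g, Commute P g := fun g => by rw [hP]; exact central_pow B y x _ g
  have cR : ∀ g, Commute R g := fun g => by rw [hR]; exact central_pow B z y _ g
  rw [← hP, ← hQ, ← hR]
  calc x * y * P * z * (Q * R) = x * y * (P * z) * (Q * R) := by simp only [mul_assoc]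
    _ = x * y * (z * P) * (Q * R) := by rw [(cP z).eq]
    _ = x * y * z * (P * Q * R) := by simp only [mul_assoc]
    _ = x * y * z * (R * (P * Q)) := by rw [(cR (P * Q)).eq]
    _ = x * (y * z * R) * (P * Q) := by simp only [mul_assoc]

theorem mul_comm_val (x y : D) : x * y * ⁅y, x⁆ ^ B.h = y * x * ⁅x, y⁆ ^ B.h := by
  obtain ⟨c, hc⟩ : ∃ c, c = ⁅x, y⁆ := ⟨_, rfl⟩
  have h1 : ⁅y, x⁆ = c⁻¹ := by rw [hc, commutatorElement_inv]
  have h2 : x * y = c * (y * x) := by rw [hc, commutatorElement_def]; group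
  have cc : ∀ g, Commute c g := fun g => by rw [hc]; exact B.cc.comm_commute x y g
  have h3 : c * (c⁻¹) ^ B.h = c ^ B.h := by
    have h4 := B.half c
    rw [two_mul, pow_add] at h4
    rw [inv_pow, mul_inv_eq_iff_eq_mul]
    exact h4.symm
  rw [h1, ← hc, h2]
  calc c * (y * x) * c⁻¹ ^ B.h = (y * x) * c * c⁻¹ ^ B.h := by rw [(cc (y * x)).eq]
    _ = y * x * (c * c⁻¹ ^ B.h) := by simp only [mul_assoc]
    _ = y * x * c ^ B.h := by rw [h3]

instance instCommGroupBaer : CommGroup (Baer B) where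
  mul_assoc x y z := by
    apply ext_val
    rw [mul_val, mul_val, mul_val, mul_val]
    exact mul_assoc_val B x.val y.val z.val
  one_mul x := by
    apply ext_val
    rw [mul_val, one_val]
    simp [commutatorElement_def]
  mul_one x := by
    apply ext_val
    rw [mul_val, one_val]
    simp [commutatorElement_def]
  inv_mul_cancel x := by
    apply ext_val
    rw [mul_val, inv_val, one_val]
    simp [commutatorElement_def]
  mul_comm x y := by
    apply ext_val
    rw [mul_val, mul_val]
    exact mul_comm_val B x.val y.val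

theorem pow_val (x : Baer B) (n : ℕ) : (x ^ n).val = x.val ^ n := by
  induction n with
  | zero => rw [pow_zero, pow_zero]; rfl
  | succ n ih =>
    rw [pow_succ, mul_val, ih, pow_succ]
    have : ⁅x.val, x.val ^ n⁆ = 1 :=
      commutatorElement_eq_one_iff_commute.mpr (Commute.pow_right (Commute.refl _) n)
    rw [this, one_pow, mul_one]

/-- the underlying bijection -/
def equivVal : Baer B ≃ D where
  toFun x := x.val
  invFun d := ⟨d⟩
  left_inv x := by cases x; rfl
  right_inv d := rfl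

instance instFiniteBaer [Finite D] : Finite (Baer B) := Finite.of_equiv D (equivVal B).symm

theorem card_eq : Nat.card (Baer B) = Nat.card D := Nat.card_congr (equivVal B)

theorem isPGroup {p : ℕ} (hD : IsPGroup p D) : IsPGroup p (Baer B) := by
  intro x
  obtain ⟨k, hk⟩ := hD x.val
  refine ⟨k, ?_⟩
  apply ext_val
  rw [pow_val, hk, one_val]

/-- an automorphism of `D` induces an endomorphism of the Baer group -/
def map (σ : MulAut D) : Baer B →* Baer B where
  toFun x := ⟨σ x.val⟩
  map_one' := by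
    apply ext_val
    show σ (1 : Baer B).val = (1 : Baer B).val
    rw [one_val, map_one]
  map_mul' x y := by
    apply ext_val
    show σ (x * y).val = ((⟨σ x.val⟩ : Baer B) * ⟨σ y.val⟩).val
    rw [mul_val, mul_val, map_mul, map_mul, map_pow, map_commutatorElement]

theorem map_val (σ : MulAut D) (x : Baer B) : (map B σ x).val = σ x.val := rfl

end Baer

/-- Baer data for a finite `p`-group of class at most two, `p` odd. -/
theorem exists_baerData {D : Type u} [Group D] [Finite D] {p : ℕ} [hp : Fact p.Prime]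
    (hp2 : p ≠ 2) (hD : IsPGroup p D) (hcc : CommCentral D) : Nonempty (BaerData D) := by
  obtain ⟨k, hk⟩ := IsPGroup.iff_card.mp hD
  have hodd : Odd (p ^ k) := (hp.out.odd_of_ne_two hp2).pow
  obtain ⟨m, hm⟩ := hodd
  refine ⟨⟨m + 1, hcc, ?_⟩⟩
  intro z
  have h1 : 2 * (m + 1) = Nat.card D + 1 := by rw [hk, hm]; ring
  rw [h1, pow_succ, pow_card_eq_one', one_mul]

end Cfsg.Agent.Lib.Helper1
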