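import Mathlib
import Cfsg.Agent.Lib.Helper1.Baer

set_option autoImplicit false
open scoped commutatorElement
universe u v

namespace Cfsg.Agent.Lib.Helper1

/-- **Core lemma.** Let `D` be a finite `p`-group of class at most two, `p` odd, acted on by a
group `Γ`; let `Y ≤ Γ` be a `p'`-subgroup normalised by a `p`-subgroup `A ≤ Γ`.  If every element
of order dividing `p` of `D` fixed by `A` is fixed by `Y`, then `Y` acts trivially on `D`. -/
theorem baer_core_lemma {D : Type u} [Group D] [Finite D] {p : ℕ} [hp : Fact p.Prime]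
    (hp2 : p ≠ 2) (hD : IsPGroup p D) (hcc : CommCentral D)
    {Γ : Type v} [Group Γ] (φ : Γ →* MulAut D) (Y A : Subgroup Γ) [Finite Y]
    (hYp : (Nat.card Y).Coprime p) (hA : IsPGroup p A)
    (hAY : A ≤ Subgroup.normalizer (Y : Set Γ))
    (hyp : ∀ x : D, x ^ p = 1 → (∀ a ∈ A, φ a x = x) → ∀ y ∈ Y, φ y x = x) :
    ∀ y ∈ Y, ∀ x : D, φ y x = x := by
  classical
  obtain ⟨B⟩ := exists_baerData hp2 hD hcc
  have : Fintype ↥Y := Fintype.ofFinite _
  obtain ⟨ν, hν⟩ : ∃ ν : Baer B →* Baer B, ∀ x, ν x = ∏ y : ↥Y, Baer.map B (φ (y : Γ)) x :=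
    ⟨∏ y : ↥Y, Baer.map B (φ (y : Γ)), fun x => MonoidHom.finsetProd_apply _ _ _⟩
  have hmapmap : ∀ (g₁ g₂ : Γ) (x : Baer B),
      Baer.map B (φ g₁) (Baer.map B (φ g₂) x) = Baer.map B (φ (g₁ * g₂)) x := by
    intro g₁ g₂ x
    apply Baer.ext_val
    rw [Baer.map_val, Baer.map_val, Baer.map_val, map_mul, MulAut.mul_apply]
  have hN0 : ∀ y₀ ∈ Y, ∀ x, ν (Baer.map B (φ y₀) x) = ν x := by
    intro y₀ hy₀ x
    rw [hν, hν]
    simp only [hmapmap]
    exact Equiv.prod_comp (Equiv.mulRight (⟨y₀, hy₀⟩ : ↥Y))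
      (fun y : ↥Y => Baer.map B (φ (y : Γ)) x)
  have hN1 : ∀ a ∈ A, ∀ x, ν (Baer.map B (φ a) x) = Baer.map B (φ a) (ν x) := by
    intro a ha x
    rw [hν, hν, map_prod]
    simp only [hmapmap]
    have haN := hAY ha
    let e : ↥Y ≃ ↥Y :=
      { toFun := fun y => ⟨a * y * a⁻¹, (Subgroup.mem_normalizer_iff.mp haN y).mp y.2⟩
        invFun := fun y => ⟨a⁻¹ * y * a, by
          have := (Subgroup.mem_normalizer_iff.mp (Subgroup.inv_mem _ haN) y).mp y.2
          rwa [inv_inv] at this⟩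
        left_inv := fun y => Subtype.ext (by
          show a⁻¹ * (a * (y : Γ) * a⁻¹) * a = y
          group)
        right_inv := fun y => Subtype.ext (by
          show a * (a⁻¹ * (y : Γ) * a) * a⁻¹ = y
          group) }
    rw [← Equiv.prod_comp e (fun y : ↥Y => Baer.map B (φ ((y : Γ) * a)) x)]
    apply Finset.prod_congr rfl
    intro y _
    show Baer.map B (φ (a * (y : Γ) * a⁻¹ * a)) x = Baer.map B (φ (a * (y : Γ))) x
    rw [inv_mul_cancel_right]
  have hN2 : ∀ x : Baer B, (∀ y ∈ Y, φ y x.val = x.val) → ν x = x ^ Nat.card Y := by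
    intro x hx
    rw [hν]
    have h1 : ∀ y : ↥Y, Baer.map B (φ (y : Γ)) x = x := fun y =>
      Baer.ext_val B (by rw [Baer.map_val]; exact hx y y.2)
    simp only [h1]
    rw [Finset.prod_const, Finset.card_univ, Nat.card_eq_fintype_card]
  by_contra hcon
  push Not at hcon
  obtain ⟨y₀, hy₀, d, hd⟩ := hcon
  obtain ⟨S₁, hS₁⟩ : ∃ S₁ : Subgroup (Baer B),
      S₁ = ν.ker ⊓ (powMonoidHom p : Baer B →* Baer B).ker := ⟨_, rfl⟩
  have hmemS₁ : ∀ x, x ∈ S₁ ↔ ν x = 1 ∧ x ^ p = 1 := by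
    intro x
    rw [hS₁, Subgroup.mem_inf, MonoidHom.mem_ker, MonoidHom.mem_ker, powMonoidHom_apply]
  have hBp : IsPGroup p (Baer B) := Baer.isPGroup B hD
  have hker : ν.ker ≠ ⊥ := by
    intro h
    have hx : (⟨d⟩ : Baer B)⁻¹ * Baer.map B (φ y₀) ⟨d⟩ ∈ ν.ker := by
      rw [MonoidHom.mem_ker, map_mul, map_inv, hN0 y₀ hy₀, inv_mul_cancel]
    rw [h, Subgroup.mem_bot, inv_mul_eq_one] at hx
    apply hd
    have := congrArg Baer.val hx
    exact this.symm
  have hkp : IsPGroup p ν.ker := hBp.to_subgroup _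
  have hknt : Nontrivial ν.ker := (Subgroup.nontrivial_iff_ne_bot _).mpr hker
  obtain ⟨n, hn0, hn⟩ := (hkp.nontrivial_iff_card).mp hknt
  have hdvd : p ∣ Nat.card ν.ker := by rw [hn]; exact dvd_pow_self p hn0.ne'
  obtain ⟨s, hs⟩ := exists_prime_orderOf_dvd_card' p hdvd
  have hs1 : (s : Baer B) ∈ S₁ := by
    rw [hmemS₁]
    refine ⟨MonoidHom.mem_ker.mp s.2, ?_⟩
    have h1 : s ^ p = 1 := by rw [← hs]; exact pow_orderOf_eq_one s
    have h2 := congrArg Subtype.val h1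
    simpa using h2
  have hs2 : (s : Baer B) ≠ 1 := by
    intro h
    have h1 : s = 1 := Subtype.ext h
    rw [h1, orderOf_one] at hs
    exact hp.out.one_lt.ne hs
  have hinv : ∀ a ∈ A, ∀ x ∈ S₁, Baer.map B (φ a) x ∈ S₁ := by
    intro a ha x hx
    rw [hmemS₁] at hx ⊢
    exact ⟨by rw [hN1 a ha, hx.1, map_one], by rw [← map_pow, hx.2, map_one]⟩
  let act : MulAction ↥A ↥S₁ :=
    { smul := fun a x => ⟨Baer.map B (φ (a : Γ)) x, hinv a a.2 x x.2⟩
      one_smul := fun x => Subtype.ext (Baer.ext_val B (by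
        show (φ ((1 : ↥A) : Γ)) (x : Baer B).val = (x : Baer B).val
        rw [Subgroup.coe_one, map_one, MulAut.one_apply]))
      mul_smul := fun a b x => Subtype.ext (Baer.ext_val B (by
        show (φ ((a * b : ↥A) : Γ)) (x : Baer B).val = φ (a : Γ) (φ (b : Γ) (x : Baer B).val)
        rw [Subgroup.coe_mul, map_mul, MulAut.mul_apply])) }
  have hp1 : p ∣ Nat.card ↥S₁ := by
    have hS₁p : IsPGroup p S₁ := hBp.to_subgroup _
    have hnt : Nontrivial S₁ := (Subgroup.nontrivial_iff_ne_bot _).mpr (fun h => hs2 (by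
      have h1 := hs1
      rw [h, Subgroup.mem_bot] at h1
      exact h1))
    obtain ⟨n', hn'0, hn'⟩ := (hS₁p.nontrivial_iff_card).mp hnt
    rw [hn']; exact dvd_pow_self p hn'0.ne'
  have hfix1 : (1 : ↥S₁) ∈ MulAction.fixedPoints ↥A ↥S₁ := by
    intro a
    apply Subtype.ext
    show Baer.map B (φ (a : Γ)) ((1 : ↥S₁) : Baer B) = ((1 : ↥S₁) : Baer B)
    rw [Subgroup.coe_one, map_one]
  obtain ⟨b, hb, hb1⟩ := hA.exists_fixed_point_of_prime_dvd_card_of_fixed_point ↥S₁ hp1 hfix1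
  have hbA : ∀ a ∈ A, φ a (b : Baer B).val = (b : Baer B).val := by
    intro a ha
    have h1 := hb ⟨a, ha⟩
    have h2 := congrArg (fun t : ↥S₁ => (t : Baer B).val) h1
    exact h2
  have hbS := (hmemS₁ _).mp b.2
  have hbp : (b : Baer B).val ^ p = 1 := by
    have h1 := congrArg Baer.val hbS.2
    rwa [Baer.pow_val, Baer.one_val] at h1
  have hbY := hyp _ hbp hbA
  have h3 := hN2 _ hbY
  rw [hbS.1] at h3
  have hb_one : (b : Baer B) = 1 := by
    have h4 : orderOf (b : Baer B) ∣ Nat.card Y := orderOf_dvd_of_pow_eq_one h3.symm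
    have h5 : orderOf (b : Baer B) ∣ p := orderOf_dvd_of_pow_eq_one hbS.2
    have hg : Nat.gcd (Nat.card Y) p = 1 := hYp
    have h6 : orderOf (b : Baer B) ∣ 1 := by
      have h7 := Nat.dvd_gcd h4 h5
      rwa [hg] at h7
    exact orderOf_eq_one_iff.mp (Nat.dvd_one.mp h6)
  exact hb1 (Subtype.ext hb_one.symm)

end Cfsg.Agent.Lib.Helper1
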