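import Mathlib
import Cfsg.Agent.Lib.Helper1.FrattiniP
import Cfsg.Agent.Lib.Helper1.Nilpotent

set_option autoImplicit false
open scoped commutatorElement
universe u
namespace Cfsg.Agent.Lib.Helper1
variable {P : Type u} [Group P]

/-- The subgroup `{x ∈ C_P(M) | x^p ∈ M, [x, P] ≤ M}`. -/
def criticalAux (p : ℕ) (M : Subgroup P) [M.Normal] : Subgroup P where
  carrier := {x | x ∈ Subgroup.centralizer (M : Set P) ∧ x ^ p ∈ M ∧ ∀ g : P, ⁅x, g⁆ ∈ M}
  one_mem' := by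
    refine ⟨Subgroup.one_mem _, ?_, ?_⟩
    · rw [one_pow]; exact M.one_mem
    · intro g
      rw [commutatorElement_one_left]; exact M.one_mem
  mul_mem' := by
    rintro x y ⟨hx1, hx2, hx3⟩ ⟨hy1, hy2, hy3⟩
    refine ⟨Subgroup.mul_mem _ hx1 hy1, ?_, ?_⟩
    · rw [← QuotientGroup.eq_one_iff]
      have hc : Commute (x : P ⧸ M) (y : P ⧸ M) := by
        have h1 : ((⁅x, y⁆ : P) : P ⧸ M) = 1 := (QuotientGroup.eq_one_iff _).mpr (hx3 y)
        rw [commutatorElement_def] at h1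
        have h2 : (x : P ⧸ M) * y * (x : P ⧸ M)⁻¹ * (y : P ⧸ M)⁻¹ = 1 := by
          simpa using h1
        show (x : P ⧸ M) * y = y * x
        calc (x : P ⧸ M) * y = ((x : P ⧸ M) * y * (x : P ⧸ M)⁻¹ * (y : P ⧸ M)⁻¹) * (y * x) := by
              group
          _ = y * x := by rw [h2, one_mul]
      have hxq : (x : P ⧸ M) ^ p = 1 := by
        rw [← QuotientGroup.mk_pow]; exact (QuotientGroup.eq_one_iff _).mpr hx2
      have hyq : (y : P ⧸ M) ^ p = 1 := by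
        rw [← QuotientGroup.mk_pow]; exact (QuotientGroup.eq_one_iff _).mpr hy2
      rw [QuotientGroup.mk_pow, QuotientGroup.mk_mul, hc.mul_pow, hxq, hyq, one_mul]
    · intro g
      have e : ⁅x * y, g⁆ = x * ⁅y, g⁆ * x⁻¹ * ⁅x, g⁆ := by
        simp only [commutatorElement_def]; group
      rw [e]
      exact M.mul_mem (‹M.Normal›.conj_mem _ (hy3 g) x) (hx3 g)
  inv_mem' := by
    rintro x ⟨hx1, hx2, hx3⟩
    refine ⟨Subgroup.inv_mem _ hx1, ?_, ?_⟩
    · rw [inv_pow]; exact M.inv_mem hx2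
    · intro g
      have e : ⁅x⁻¹, g⁆ = x⁻¹ * (⁅x, g⁆)⁻¹ * x⁻¹⁻¹ := by
        simp only [commutatorElement_def]; group
      rw [e]
      exact ‹M.Normal›.conj_mem _ (M.inv_mem (hx3 g)) x⁻¹

theorem mem_criticalAux {p : ℕ} {M : Subgroup P} [M.Normal] {x : P} :
    x ∈ criticalAux p M ↔
      x ∈ Subgroup.centralizer (M : Set P) ∧ x ^ p ∈ M ∧ ∀ g : P, ⁅x, g⁆ ∈ M := Iff.rfl

end Cfsg.Agent.Lib.Helper1
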