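import Mathlib
import Cfsg.Agent.Lib.Helper1.FrattiniP
import Cfsg.Agent.Lib.Helper1.Nilpotent
import Cfsg.Agent.Lib.Helper1.CriticalExists0

set_option autoImplicit false
open scoped commutatorElement
universe u
namespace Cfsg.Agent.Lib.Helper1
variable {P : Type u} [Group P]

theorem exists_critical_subgroup [Finite P] {p : ℕ} [hp : Fact p.Prime] (hP : IsPGroup p P) :
    ∃ H : Subgroup P, H.Characteristic ∧
      (frattini H).map H.subtype ≤ Subgroup.centralizer (H : Set P) ∧
      ⁅H, (⊤ : Subgroup P)⁆ ≤ H ⊓ Subgroup.centralizer (H : Set P) ∧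
      Subgroup.centralizer (H : Set P) ≤ H := by
  classical
  let S : Set (Subgroup P) := {M | M.Characteristic ∧ IsMulCommutative M}
  have hbot : IsMulCommutative (⊥ : Subgroup P) :=
    ⟨⟨fun a b => Subtype.ext (by
      rw [Subgroup.coe_mul, Subgroup.coe_mul, Subgroup.mem_bot.mp a.2, Subgroup.mem_bot.mp b.2])⟩⟩
  have hSne : S.Nonempty := ⟨⊥, Subgroup.botCharacteristic, hbot⟩
  obtain ⟨M, hMmax⟩ := (Set.toFinite S).exists_maximal hSne
  obtain ⟨hMchar, hMcomm⟩ := hMmax.prop
  have hMmax' : ∀ B : Subgroup P, B.Characteristic → IsMulCommutative B → M ≤ B → B ≤ M :=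
    fun B h1 h2 h3 => hMmax.le_of_ge ⟨h1, h2⟩ h3
  have hMn : M.Normal := inferInstance
  have hMφ : ∀ (φ : P ≃* P) (x : P), φ x ∈ M ↔ x ∈ M := by
    intro φ x
    have := Subgroup.characteristic_iff_comap_eq.mp hMchar φ
    constructor
    · intro h; rw [← this]; exact h
    · intro h; rw [← this] at h; exact h
  obtain ⟨H, hH⟩ : ∃ H, H = criticalAux p M := ⟨_, rfl⟩
  have hmem : ∀ x, x ∈ H ↔
      x ∈ Subgroup.centralizer (M : Set P) ∧ x ^ p ∈ M ∧ ∀ g : P, ⁅x, g⁆ ∈ M := by
    intro x; rw [hH]; exact mem_criticalAux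
  have hMcent : M ≤ Subgroup.centralizer (M : Set P) := by
    intro m hm
    rw [Subgroup.mem_centralizer_iff]
    intro m' hm'
    exact congrArg Subtype.val (mul_comm' (⟨m', hm'⟩ : M) ⟨m, hm⟩)
  have hMH : M ≤ H := by
    intro m hm
    rw [hmem]
    refine ⟨hMcent hm, M.pow_mem hm p, fun g => ?_⟩
    rw [commutatorElement_def]
    have : m * g * m⁻¹ * g⁻¹ = m * (g * m⁻¹ * g⁻¹) := by group
    rw [this]
    exact M.mul_mem hm (hMn.conj_mem _ (M.inv_mem hm) g)
  have hMcentH : M ≤ Subgroup.centralizer (H : Set P) := by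
    intro m hm
    rw [Subgroup.mem_centralizer_iff]
    intro h hh
    exact (Subgroup.mem_centralizer_iff.mp ((hmem h).mp hh).1 m hm).symm
  have hHchar : H.Characteristic := by
    rw [Subgroup.characteristic_iff_map_le]
    intro φ y hy
    obtain ⟨x, hx, rfl⟩ := Subgroup.mem_map.mp hy
    obtain ⟨hx1, hx2, hx3⟩ := (hmem x).mp hx
    show φ x ∈ H
    rw [hmem]
    refine ⟨?_, ?_, ?_⟩
    · rw [Subgroup.mem_centralizer_iff]
      intro m hm
      have hm' : φ.symm m ∈ M := (hMφ φ _).mp (by rw [φ.apply_symm_apply]; exact hm)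
      have h1 := Subgroup.mem_centralizer_iff.mp hx1 _ hm'
      have h2 := congrArg φ h1
      rwa [map_mul, map_mul, φ.apply_symm_apply] at h2
    · rw [← map_pow]; exact (hMφ φ _).mpr hx2
    · intro g
      have h1 := hx3 (φ.symm g)
      have h2 : φ ⁅x, φ.symm g⁆ = ⁅φ x, g⁆ := by
        rw [map_commutatorElement, φ.apply_symm_apply]
      rw [← h2]; exact (hMφ φ _).mpr h1
  have hHn : H.Normal := inferInstance
  refine ⟨H, hHchar, ?_, ?_, ?_⟩
  · -- frattini
    have h1 : frattini H ≤ M.subgroupOf H := by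
      apply frattini_le_of_elementary_quotient p
      · rw [commutator_def, Subgroup.commutator_le]
        intro a _ b _
        rw [Subgroup.mem_subgroupOf]
        exact ((hmem a).mp a.2).2.2 b
      · intro x
        rw [Subgroup.mem_subgroupOf]
        exact ((hmem x).mp x.2).2.1
    intro y hy
    obtain ⟨x, hx, rfl⟩ := Subgroup.mem_map.mp hy
    exact hMcentH (Subgroup.mem_subgroupOf.mp (h1 hx))
  · rw [Subgroup.commutator_le]
    intro h hh g _
    have := ((hmem h).mp hh).2.2 g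
    exact ⟨hMH this, hMcentH this⟩
  · -- centralizer H ≤ H
    obtain ⟨Q, hQ⟩ : ∃ Q, Q = Subgroup.centralizer (H : Set P) := ⟨_, rfl⟩
    rw [← hQ]
    have hQchar : Q.Characteristic := by rw [hQ]; infer_instance
    have hQn : Q.Normal := inferInstance
    have hZchar : (H ⊓ Q).Characteristic := inferInstance
    have hZcomm : IsMulCommutative (H ⊓ Q : Subgroup P) := by
      refine ⟨⟨fun a b => Subtype.ext ?_⟩⟩
      have ha : (a : P) ∈ Subgroup.centralizer (H : Set P) := hQ.le a.2.2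
      exact (Subgroup.mem_centralizer_iff.mp ha b b.2.1).symm
    have hZM : H ⊓ Q ≤ M := hMmax' _ hZchar hZcomm (le_inf hMH (hQ ▸ hMcentH))
    by_contra hQH
    obtain ⟨x, hxQ, hxH⟩ := SetLike.not_le_iff_exists.mp hQH
    have hxM : x ∉ M := fun h => hxH (hMH h)
    have hPq : IsPGroup p (P ⧸ M) := hP.to_quotient M
    have hnil : Group.IsNilpotent (P ⧸ M) := hPq.isNilpotent
    obtain ⟨N, hN⟩ : ∃ N, N = Q.map (QuotientGroup.mk' M) := ⟨_, rfl⟩
    have hNn : N.Normal := by
      rw [hN]; exact hQn.map _ (QuotientGroup.mk'_surjective M)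
    have hNne : N ≠ ⊥ := by
      intro hbot'
      have : (QuotientGroup.mk' M x) ∈ N := by rw [hN]; exact Subgroup.mem_map_of_mem _ hxQ
      rw [hbot', Subgroup.mem_bot] at this
      exact hxM ((QuotientGroup.eq_one_iff x).mp this)
    have hNZ := normal_inf_center_ne_bot N hNne
    obtain ⟨⟨z, hz⟩, hz1⟩ := (Subgroup.ne_bot_iff_exists_ne_one).mp hNZ
    have hz1' : z ≠ 1 := fun h => hz1 (Subtype.ext h)
    obtain ⟨k, hk⟩ := (IsPGroup.iff_orderOf.mp hPq) z
    have hk0 : k ≠ 0 := by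
      rintro rfl
      rw [pow_zero, orderOf_eq_one_iff] at hk
      exact hz1' hk
    obtain ⟨w, hw⟩ : ∃ w, w = z ^ (p ^ (k - 1)) := ⟨_, rfl⟩
    have hwp : w ^ p = 1 := by
      rw [hw, ← pow_mul, ← pow_succ, Nat.sub_add_cancel (Nat.one_le_iff_ne_zero.mpr hk0), ← hk,
        pow_orderOf_eq_one]
    have hw1 : w ≠ 1 := by
      intro h
      rw [hw] at h
      have h1 : orderOf z ∣ p ^ (k - 1) := orderOf_dvd_of_pow_eq_one h
      rw [hk] at h1
      have h2 : k ≤ k - 1 := (Nat.pow_dvd_pow_iff_le_right hp.out.one_lt).mp h1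
      omega
    have hwN : w ∈ N := by rw [hw]; exact N.pow_mem hz.1 _
    have hwZ : w ∈ Subgroup.center (P ⧸ M) := by rw [hw]; exact Subgroup.pow_mem _ hz.2 _
    rw [hN] at hwN
    obtain ⟨q, hqQ, hqw⟩ := Subgroup.mem_map.mp hwN
    have hqw' : (q : P ⧸ M) = w := hqw
    have hqH : q ∈ H := by
      rw [hmem]
      refine ⟨?_, ?_, ?_⟩
      · have : Subgroup.centralizer (H : Set P) ≤ Subgroup.centralizer (M : Set P) :=
          Subgroup.centralizer_le hMH
        exact this (hQ.le hqQ)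
      · rw [← QuotientGroup.eq_one_iff, QuotientGroup.mk_pow, hqw', hwp]
      · intro g
        rw [← QuotientGroup.eq_one_iff]
        have h1 : ((⁅q, g⁆ : P) : P ⧸ M) = ⁅(q : P ⧸ M), (g : P ⧸ M)⁆ := by
          simp [commutatorElement_def]
        rw [h1, hqw', commutatorElement_eq_one_iff_mul_comm]
        exact ((Subgroup.mem_center_iff.mp hwZ) g).symm
    have hqM : q ∈ M := hZM ⟨hqH, hqQ⟩
    apply hw1
    rw [← hqw']
    exact (QuotientGroup.eq_one_iff q).mpr hqM

end Cfsg.Agent.Lib.Helper1
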