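import Mathlib
import Cfsg.Prelude.Def_PLocal
import Cfsg.Agent.Lib.Helper2.CoprimeGen
import Cfsg.Agent.Lib.Helper1.OffVal
import Cfsg.Agent.Lib.Helper1.ThompsonPQ
import Cfsg.Agent.Lib.Helper1.GlaubermanRepl3
import Cfsg.Agent.Lib.Helper1.CoprimeSylow
import Cfsg.Agent.Lib.Helper1.Quadratic

/-! Generation of a coprime group by the centralizers of hyperplanes of an elementary abelian group. -/
set_option autoImplicit false
universe u v
open Cfsg
open scoped commutatorElement Pointwise

namespace Cfsg.Agent.Lib.Helper1.FF
variable {G : Type u} [Group G] {p : ℕ}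

theorem normalizes_inf_centralizer_of_comm {A K : Subgroup G} (hAc : ∀ x ∈ A, ∀ y ∈ A, x * y = y * x)
    (hAK : A ≤ Subgroup.normalizer (K : Set G)) (B : Subgroup G) (hBA : B ≤ A) :
    A ≤ Subgroup.normalizer ((K ⊓ Subgroup.centralizer (B : Set G) : Subgroup G) : Set G) := by
  apply Cfsg.Agent.Lib.Helper1.le_normalizer_of_conj_mem
  intro a ha x hx
  rw [Subgroup.mem_inf] at hx ⊢
  refine ⟨(Subgroup.mem_normalizer_iff.mp (hAK ha) x).mp hx.1, ?_⟩
  rw [Subgroup.mem_centralizer_iff]
  intro b hb
  have hbx : Commute b x := (Subgroup.mem_centralizer_iff.mp hx.2) b hb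
  have hba : Commute b a := (hAc a ha b (hBA hb)).symm
  exact ((hba.mul_right hbx).mul_right hba.inv_right).eq

theorem card_sup_zpowers [Finite G] [hp : Fact p.Prime] (A D : Subgroup G)
    (hAc : ∀ x ∈ A, ∀ y ∈ A, x * y = y * x) (hAp : ∀ a ∈ A, a ^ p = 1) (hDA : D ≤ A)
    (a : G) (haA : a ∈ A) (haD : a ∉ D) :
    Nat.card (D ⊔ Subgroup.zpowers a : Subgroup G) = p * Nat.card D := by
  have hDn : D ≤ Subgroup.normalizer ((Subgroup.zpowers a : Subgroup G) : Set G) := by
    apply Cfsg.Agent.Lib.Helper1.le_normalizer_of_conj_mem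
    intro d hd x hx
    obtain ⟨i, rfl⟩ := Subgroup.mem_zpowers_iff.mp hx
    have hc : d * a ^ i = a ^ i * d := hAc d (hDA hd) _ (A.zpow_mem haA i)
    rw [hc, mul_assoc, mul_inv_cancel, mul_one]
    exact Subgroup.zpow_mem _ (Subgroup.mem_zpowers a) i
  have hcard : Nat.card (Subgroup.zpowers a) = p := by
    rw [Nat.card_zpowers]
    apply orderOf_eq_prime (hAp a haA)
    intro h1
    apply haD
    rw [h1]; exact D.one_mem
  have hinf : D ⊓ Subgroup.zpowers a = ⊥ := by
    have h1 : Nat.card (D ⊓ Subgroup.zpowers a : Subgroup G) ∣ p := by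
      rw [← hcard]; exact Subgroup.card_dvd_of_le inf_le_right
    rcases (Nat.dvd_prime hp.out).mp h1 with h2 | h2
    · exact Subgroup.card_eq_one.mp h2
    · exfalso
      apply haD
      have h3 : D ⊓ Subgroup.zpowers a = Subgroup.zpowers a := by
        apply Subgroup.eq_of_le_of_card_ge inf_le_right
        rw [h2, hcard]
      have : Subgroup.zpowers a ≤ D := by rw [← h3]; exact inf_le_left
      exact this (Subgroup.mem_zpowers a)
  have h2 := GlaubermanRepl.card_sup_mul_card_inf_of_le_normalizer D (Subgroup.zpowers a) hDn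
  rw [hinf, Subgroup.card_bot, mul_one, hcard] at h2
  rw [h2, mul_comm]

theorem gen_aux [Finite G] [hp : Fact p.Prime] (A : Subgroup G)
    (hAc : ∀ x ∈ A, ∀ y ∈ A, x * y = y * x) (hAp : ∀ a ∈ A, a ^ p = 1) (W : Subgroup G) :
    ∀ n : ℕ, ∀ D K : Subgroup G, D ≤ A → Nat.card A - Nat.card D = n →
      A ≤ Subgroup.normalizer (K : Set G) → (Nat.card K).Coprime p →
      D ≤ Subgroup.centralizer (K : Set G) →
      (∀ B : Subgroup G, D ≤ B → B ≤ A → (B = A ∨ Nat.card A = p * Nat.card B) →
        K ⊓ Subgroup.centralizer (B : Set G) ≤ W) → K ≤ W := by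
  intro n
  induction n using Nat.strong_induction_on with
  | _ n ih =>
    intro D K hDA hn hAK hcop hDK hW
    have : IsMulCommutative A := ⟨⟨fun x y => Subtype.ext (hAc x x.2 y y.2)⟩⟩
    by_cases hcyc : ∃ a ∈ A, D ⊔ Subgroup.zpowers a = A
    · obtain ⟨a, haA, ha⟩ := hcyc
      have hK : K ⊓ Subgroup.centralizer (D : Set G) = K := by
        apply inf_eq_left.mpr
        intro k hk
        rw [Subgroup.mem_centralizer_iff]
        intro d hd
        exact ((Subgroup.mem_centralizer_iff.mp (hDK hd)) k hk).symm
      rw [← hK]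
      apply hW D le_rfl hDA
      by_cases haD : a ∈ D
      · left
        rw [← ha]
        apply le_antisymm le_sup_left
        apply sup_le le_rfl
        rw [Subgroup.zpowers_le]; exact haD
      · right
        rw [← ha]
        exact card_sup_zpowers A D hAc hAp hDA a haA haD
    · obtain ⟨r, hr, x, hxA, y, hyA, hxr, hyr, hxD, hxy⟩ :=
        Cfsg.Agent.Lib.Helper2.exists_noncyclic_pair A D hDA hcyc
      have hrp : r = p := by
        by_contra hne
        have hcop' : Nat.Coprime r p := (Nat.coprime_primes hr hp.out).mpr hne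
        apply hxD
        obtain ⟨m, -, hm⟩ := Nat.exists_mul_mod_eq_one_of_coprime hcop' hp.out.one_lt
        have h1 : x ^ (r * m) = x := by
          rw [pow_eq_pow_mod (r * m) (hAp x hxA), hm, pow_one]
        rw [← h1, pow_mul]
        exact D.pow_mem hxr m
      rw [hrp] at hxr hyr
      have hstep : ∀ z ∈ A, z ∉ D → K ⊓ Subgroup.centralizer {z} ≤ W := by
        intro z hzA hzD
        have hlt : Nat.card D < Nat.card (D ⊔ Subgroup.zpowers z : Subgroup G) := by
          rw [card_sup_zpowers A D hAc hAp hDA z hzA hzD]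
          have : 0 < Nat.card D := Nat.card_pos
          have := hp.out.one_lt
          nlinarith
        have hD'A : D ⊔ Subgroup.zpowers z ≤ A := by
          apply sup_le hDA
          rw [Subgroup.zpowers_le]; exact hzA
        have hle : Nat.card (D ⊔ Subgroup.zpowers z : Subgroup G) ≤ Nat.card A :=
          Subgroup.card_le_of_le hD'A
        have hKz : K ⊓ Subgroup.centralizer {z} =
            K ⊓ Subgroup.centralizer ((Subgroup.zpowers z : Subgroup G) : Set G) := by
          congr 1
          ext g
          rw [Cfsg.Agent.Lib.Helper1.mem_centralizer_zpowers_iff, Subgroup.mem_centralizer_iff]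
          constructor
          · intro h; exact (h z rfl)
          · intro h w hw; rw [Set.mem_singleton_iff] at hw; rw [hw]; exact h
        rw [hKz]
        apply ih (Nat.card A - Nat.card (D ⊔ Subgroup.zpowers z : Subgroup G)) (by omega)
          (D ⊔ Subgroup.zpowers z) _ hD'A rfl
        · exact normalizes_inf_centralizer_of_comm hAc hAK _ (by rw [Subgroup.zpowers_le]; exact hzA)
        · exact Nat.Coprime.coprime_dvd_left (Subgroup.card_dvd_of_le inf_le_left) hcop
        · apply sup_le
          · exact hDK.trans (Subgroup.centralizer_le inf_le_left)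
          · intro w hw
            rw [Subgroup.mem_centralizer_iff]
            intro k hk
            have := (Subgroup.mem_centralizer_iff.mp hk.2) w hw
            exact this.symm
        · intro B hDB hBA hB
          exact (inf_le_inf_right _ inf_le_left).trans (hW B (le_sup_left.trans hDB) hBA hB)
      have hA1 : p ∣ Nat.card A := by
        have h1 : orderOf x = p := by
          apply orderOf_eq_prime (hAp x hxA)
          intro h1; apply hxD; rw [h1]; exact D.one_mem
        rw [← h1, ← Subgroup.orderOf_mk x hxA]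
        exact orderOf_dvd_natCard _
      have hcopA : (Nat.card A).Coprime (Nat.card K) := by
        have hAcard : ∃ k, Nat.card A = p ^ k := by
          have hAp' : IsPGroup p A := by
            intro g
            refine ⟨1, ?_⟩
            apply Subtype.ext
            rw [pow_one, Subgroup.coe_pow, Subgroup.coe_one]
            exact hAp g g.2
          exact hAp'.exists_card_eq
        obtain ⟨k, hk⟩ := hAcard
        rw [hk]
        exact (Nat.Coprime.pow_right k hcop).symm
      apply Cfsg.Agent.Lib.Helper2.gen_general A K hAK hcopA hcop x y hxA hyA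
      · exact hDK hxr
      · exact hDK hyr
      · exact hstep x hxA hxD
      · intro j
        exact hstep _ (A.mul_mem (A.pow_mem hxA j) hyA) (hxy j)

theorem gen_by_hyperplanes [Finite G] [hp : Fact p.Prime] (A K : Subgroup G)
    (hAc : ∀ x ∈ A, ∀ y ∈ A, x * y = y * x) (hAp : ∀ a ∈ A, a ^ p = 1)
    (hAK : A ≤ Subgroup.normalizer (K : Set G)) (hcop : (Nat.card K).Coprime p) (W : Subgroup G)
    (hW : ∀ B : Subgroup G, B ≤ A → (B = A ∨ Nat.card A = p * Nat.card B) →
      K ⊓ Subgroup.centralizer (B : Set G) ≤ W) : K ≤ W :=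
  gen_aux A hAc hAp W _ ⊥ K bot_le rfl hAK hcop bot_le (fun B _ hBA hB => hW B hBA hB)

/-- the key lemma: an element acting nontrivially on the `p'`-group `Q` avoids some hyperplane with
larger fixed points -/
theorem exists_hyperplane [Finite G] [hp : Fact p.Prime] (V A Q : Subgroup G)
    (hV : IsElementaryAbelian p V)
    (hAc : ∀ x ∈ A, ∀ y ∈ A, x * y = y * x) (hAp : ∀ a ∈ A, a ^ p = 1)
    (hAV : A ≤ Subgroup.normalizer (V : Set G)) (hQV : Q ≤ Subgroup.normalizer (V : Set G))
    (hAQ : A ≤ Subgroup.normalizer (Q : Set G)) (hQ : (Nat.card Q).Coprime p)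
    (hQf : Q ⊓ Subgroup.centralizer (V : Set G) = ⊥)
    (a : G) (haA : a ∈ A) (haQ : a ∉ Subgroup.centralizer (Q : Set G)) :
    ∃ B : Subgroup G, B ≤ A ∧ Nat.card A = p * Nat.card B ∧ a ∉ B ∧
      V ⊓ Subgroup.centralizer (B : Set G) ≠ V ⊓ Subgroup.centralizer (A : Set G) := by
  by_contra hcon
  push Not at hcon
  apply haQ
  have hVp : IsPGroup p V := by
    intro g
    refine ⟨1, ?_⟩
    apply Subtype.ext
    rw [pow_one, Subgroup.coe_pow, Subgroup.coe_one]
    exact hV.2 g g.2
  have key : Q ≤ Subgroup.centralizer {a} := by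
    apply gen_by_hyperplanes A Q hAc hAp hAQ hQ
    intro B hBA hB
    by_cases haB : a ∈ B
    · intro g hg
      rw [Subgroup.mem_centralizer_iff]
      intro w hw
      rw [Set.mem_singleton_iff] at hw
      rw [hw]
      exact (Subgroup.mem_centralizer_iff.mp hg.2) a haB
    · have hBne : B ≠ A := fun h => haB (h ▸ haA)
      have hcard : Nat.card A = p * Nat.card B := hB.resolve_left hBne
      have hVB := hcon B hBA hcard haB
      obtain ⟨QB, hQBdef⟩ : ∃ QB : Subgroup G, QB = Q ⊓ Subgroup.centralizer (B : Set G) := ⟨_, rfl⟩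
      rw [← hQBdef]
      have hAQB : A ≤ Subgroup.normalizer (QB : Set G) := by
        rw [hQBdef]; exact normalizes_inf_centralizer_of_comm hAc hAQ B hBA
      obtain ⟨X, hXdef⟩ : ∃ X : Subgroup G, X = ⁅QB, A⁆ := ⟨_, rfl⟩
      have hXQB : X ≤ QB := by
        rw [hXdef]; exact Subgroup.le_normalizer_iff_commutator_le_left.mp hAQB
      have hQBQ : QB ≤ Q := by rw [hQBdef]; exact inf_le_left
      have hXcop : (Nat.card X).Coprime p :=
        Nat.Coprime.coprime_dvd_left (Subgroup.card_dvd_of_le (hXQB.trans hQBQ)) hQ
      have hBp : IsPGroup p B := by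
        intro g
        refine ⟨1, ?_⟩
        apply Subtype.ext
        rw [pow_one, Subgroup.coe_pow, Subgroup.coe_one]
        exact hAp g (hBA g.2)
      have hBX : B ≤ Subgroup.centralizer (X : Set G) := by
        intro b hb
        rw [Subgroup.mem_centralizer_iff]
        intro x hx
        have hx' : x ∈ Subgroup.centralizer (B : Set G) := by
          have := hXQB hx
          rw [hQBdef] at this
          exact this.2
        exact ((Subgroup.mem_centralizer_iff.mp hx') b hb).symm
      have hC : V ⊓ Subgroup.centralizer (B : Set G) ≤ Subgroup.centralizer (X : Set G) := by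
        -- X centralizes V₀ = C_V(B) = C_V(A)
        have hXC : X ≤ Subgroup.centralizer
            ((V ⊓ Subgroup.centralizer (B : Set G) : Subgroup G) : Set G) := by
          rw [hXdef, Subgroup.commutator_le]
          intro q hq a' ha'
          rw [Subgroup.mem_centralizer_iff]
          intro v hv
          -- q normalizes V₀
          have hqV : q⁻¹ * v * q ∈ V ⊓ Subgroup.centralizer (B : Set G) := by
            have hq' : q ∈ Q ⊓ Subgroup.centralizer (B : Set G) := hQBdef ▸ hq
            rw [Subgroup.mem_inf]
            refine ⟨?_, ?_⟩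
            · have := (Subgroup.mem_normalizer_iff.mp (Subgroup.inv_mem _ (hQV hq'.1)) v).mp hv.1
              simpa using this
            · rw [Subgroup.mem_centralizer_iff]
              intro b hb
              have hbq : Commute b q := (Subgroup.mem_centralizer_iff.mp hq'.2) b hb
              have hbv : Commute b v := (Subgroup.mem_centralizer_iff.mp hv.2) b hb
              exact ((hbq.inv_right.mul_right hbv).mul_right hbq).eq
          -- a' centralizes V₀
          have hcomm : ∀ w ∈ V ⊓ Subgroup.centralizer (B : Set G), Commute a' w := by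
            intro w hw
            rw [hVB] at hw
            exact (Subgroup.mem_centralizer_iff.mp hw.2) a' ha'
          have h1 : Commute a' (q⁻¹ * v * q) := hcomm _ hqV
          have h2 : Commute a' v := hcomm _ hv
          -- v * ⁅q, a'⁆ = ⁅q, a'⁆ * v
          have h3 : Commute (q * a' * q⁻¹) v := by
            have e : v = q * (q⁻¹ * v * q) * q⁻¹ := by group
            rw [e]
            change q * a' * q⁻¹ * (q * (q⁻¹ * v * q) * q⁻¹) = q * (q⁻¹ * v * q) * q⁻¹ * (q * a' * q⁻¹)
            have := h1.eq
            calc q * a' * q⁻¹ * (q * (q⁻¹ * v * q) * q⁻¹)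
                = q * (a' * (q⁻¹ * v * q)) * q⁻¹ := by group
              _ = q * ((q⁻¹ * v * q) * a') * q⁻¹ := by rw [this]
              _ = _ := by group
          have h4 : Commute ⁅q, a'⁆ v := by
            rw [commutatorElement_def]
            exact h3.mul_left h2.inv_left
          exact h4.eq.symm
        intro v hv
        rw [Subgroup.mem_centralizer_iff]
        intro x hx
        exact ((Subgroup.mem_centralizer_iff.mp (hXC hx)) v hv).symm
      have h5 := Cfsg.Agent.Lib.Helper1.thompson_PxQ p B X V hBp hXcop hVp hBX (hBA.trans hAV)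
        ((hXQB.trans hQBQ).trans hQV) hC
      have hXbot : X = ⊥ := by
        rw [eq_bot_iff, ← hQf]
        exact le_inf (hXQB.trans hQBQ) h5
      rw [hXdef, Subgroup.commutator_eq_bot_iff_le_centralizer] at hXbot
      intro g hg
      rw [Subgroup.mem_centralizer_iff]
      intro w hw
      rw [Set.mem_singleton_iff] at hw
      rw [hw]
      exact (Subgroup.mem_centralizer_iff.mp (hXbot hg)) a haA
  rw [Subgroup.mem_centralizer_iff]
  intro q hq
  have := (Subgroup.mem_centralizer_iff.mp (key hq)) a rfl
  exact this.symm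

end Cfsg.Agent.Lib.Helper1.FF
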