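import Mathlib
import Cfsg.Agent.Lib.Helper1.FF1
import Cfsg.Agent.Lib.Helper1.PLengthOne
import Cfsg.Agent.Lib.Helper1.FittingCentralizer

/-! Best offenders in groups with self-centralizing `p'`-core: the value is `|V|`. -/
set_option autoImplicit false
universe u v
open Cfsg
open scoped commutatorElement Pointwise

namespace Cfsg.Agent.Lib.Helper1.FF
variable {G : Type u} [Group G] {p : ℕ}

theorem offVal_bot [Finite G] (V : Subgroup G) : offVal V ⊥ = Nat.card V := by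
  unfold offVal
  rw [Subgroup.card_bot, one_mul]
  have : V ⊓ Subgroup.centralizer (((⊥ : Subgroup G) : Subgroup G) : Set G) = V := by
    apply inf_eq_left.mpr
    intro v _
    rw [Subgroup.mem_centralizer_iff]
    intro h hh
    have : h = 1 := Subgroup.mem_bot.mp hh
    rw [this, one_mul, mul_one]
  rw [this]

theorem isPGroup_of_pow_eq_one {A : Subgroup G} (hAp : ∀ a ∈ A, a ^ p = 1) : IsPGroup p A := by
  intro g
  refine ⟨1, ?_⟩
  apply Subtype.ext
  rw [pow_one, Subgroup.coe_pow, Subgroup.coe_one]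
  exact hAp g g.2

theorem exists_hyperplane_offVal [Finite G] [hp : Fact p.Prime] (V A Q : Subgroup G)
    (hV : IsElementaryAbelian p V)
    (hAc : ∀ x ∈ A, ∀ y ∈ A, x * y = y * x) (hAp : ∀ a ∈ A, a ^ p = 1)
    (hAV : A ≤ Subgroup.normalizer (V : Set G)) (hQV : Q ≤ Subgroup.normalizer (V : Set G))
    (hAQ : A ≤ Subgroup.normalizer (Q : Set G)) (hQ : (Nat.card Q).Coprime p)
    (hQf : Q ⊓ Subgroup.centralizer (V : Set G) = ⊥)
    (hmax : ∀ B : Subgroup G, B ≤ A → offVal V B ≤ offVal V A)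
    (a : G) (haA : a ∈ A) (haQ : a ∉ Subgroup.centralizer (Q : Set G)) :
    ∃ B : Subgroup G, B ≤ A ∧ Nat.card A = p * Nat.card B ∧ a ∉ B ∧ offVal V B = offVal V A := by
  obtain ⟨B, hBA, hcard, haB, hne⟩ := exists_hyperplane V A Q hV hAc hAp hAV hQV hAQ hQ hQf a haA haQ
  refine ⟨B, hBA, hcard, haB, ?_⟩
  have hle : V ⊓ Subgroup.centralizer (A : Set G) ≤ V ⊓ Subgroup.centralizer (B : Set G) :=
    inf_le_inf_left V (Subgroup.centralizer_le hBA)
  have hVp : IsPGroup p V := isPGroup_of_pow_eq_one hV.2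
  obtain ⟨i, hi⟩ := (hVp.to_le (inf_le_left : V ⊓ Subgroup.centralizer (A : Set G) ≤ V)).exists_card_eq
  obtain ⟨j, hj⟩ := (hVp.to_le (inf_le_left : V ⊓ Subgroup.centralizer (B : Set G) ≤ V)).exists_card_eq
  have hlt : Nat.card ↥(V ⊓ Subgroup.centralizer (A : Set G)) <
      Nat.card ↥(V ⊓ Subgroup.centralizer (B : Set G)) := by
    apply lt_of_le_of_ne (Subgroup.card_le_of_le hle)
    intro heq
    exact hne (Subgroup.eq_of_le_of_card_ge hle heq.ge).symm
  rw [hi, hj] at hlt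
  have hij : i < j := (Nat.pow_lt_pow_iff_right hp.out.one_lt).mp hlt
  have h1 : p ^ (i + 1) ≤ p ^ j := Nat.pow_le_pow_right hp.out.pos hij
  have h2 := hmax B hBA
  unfold offVal at h2 ⊢
  rw [hcard, hi, hj] at h2
  rw [hcard, hi, hj]
  have hBpos : 0 < Nat.card B := Nat.card_pos
  have h3 : p ^ j ≤ p ^ (i + 1) := by
    have : Nat.card B * p ^ j ≤ Nat.card B * p ^ (i + 1) := by
      calc Nat.card B * p ^ j ≤ p * Nat.card B * p ^ i := h2
        _ = Nat.card B * p ^ (i + 1) := by ring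
    exact Nat.le_of_mul_le_mul_left this hBpos
  have h4 : p ^ j = p ^ (i + 1) := le_antisymm h3 h1
  rw [h4]; ring

/-- (a): every nontrivial best offender has value `|V|` -/
theorem offVal_eq_card_aux [Finite G] [hp : Fact p.Prime] (V Q : Subgroup G)
    (hV : IsElementaryAbelian p V) (hQV : Q ≤ Subgroup.normalizer (V : Set G))
    (hQ : (Nat.card Q).Coprime p) (hQf : Q ⊓ Subgroup.centralizer (V : Set G) = ⊥) :
    ∀ n : ℕ, ∀ A : Subgroup G, Nat.card A = n →
      (∀ x ∈ A, ∀ y ∈ A, x * y = y * x) → (∀ a ∈ A, a ^ p = 1) →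
      A ≤ Subgroup.normalizer (V : Set G) → A ≤ Subgroup.normalizer (Q : Set G) →
      A ⊓ Subgroup.centralizer (Q : Set G) = ⊥ →
      (∀ B : Subgroup G, B ≤ A → offVal V B ≤ offVal V A) → offVal V A = Nat.card V := by
  intro n
  induction n using Nat.strong_induction_on with
  | _ n ih =>
    intro A hn hAc hAp hAV hAQ hAf hmax
    by_cases hA1 : A = ⊥
    · rw [hA1, offVal_bot]
    · obtain ⟨a, ha1⟩ := (Subgroup.ne_bot_iff_exists_ne_one).mp hA1
      have haA' : (a : G) ∈ A := a.2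
      have haQ : (a : G) ∉ Subgroup.centralizer (Q : Set G) := by
        intro h
        have : (a : G) ∈ A ⊓ Subgroup.centralizer (Q : Set G) := ⟨haA', h⟩
        rw [hAf, Subgroup.mem_bot] at this
        exact ha1 (Subtype.ext this)
      obtain ⟨B, hBA, hcard, haB, hval⟩ :=
        exists_hyperplane_offVal V A Q hV hAc hAp hAV hQV hAQ hQ hQf hmax (a : G) haA' haQ
      rw [← hval]
      have hBlt : Nat.card B < n := by
        rw [← hn, hcard]
        have : 0 < Nat.card B := Nat.card_pos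
        have := hp.out.one_lt
        nlinarith
      apply ih (Nat.card B) hBlt B rfl (fun x hx y hy => hAc x (hBA hx) y (hBA hy))
        (fun b hb => hAp b (hBA hb)) (hBA.trans hAV) (hBA.trans hAQ)
      · rw [eq_bot_iff, ← hAf]
        exact inf_le_inf_right _ hBA
      · intro B' hB'
        rw [hval]
        exact hmax B' (hB'.trans hBA)

/-- the standing hypotheses, unpacked: data for `Q = O_{p'}(H)` -/
structure Setup (p : ℕ) (V H Q : Subgroup G) : Prop where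
  hV : IsElementaryAbelian p V
  hHV : H ≤ Subgroup.normalizer (V : Set G)
  hf : H ⊓ Subgroup.centralizer (V : Set G) = ⊥
  hQH : Q ≤ H
  hHQ : H ≤ Subgroup.normalizer (Q : Set G)
  hQ : (Nat.card Q).Coprime p
  hCQ : H ⊓ Subgroup.centralizer (Q : Set G) ≤ Q

theorem setup_of_hyps [Finite G] [hp : Fact p.Prime] (V H : Subgroup G)
    (hV : IsElementaryAbelian p V) (hHV : H ≤ Subgroup.normalizer (V : Set G))
    (hf : H ⊓ Subgroup.centralizer (V : Set G) = ⊥)
    (hS1 : Subgroup.centralizer (Cfsg.pPrimeCore p ↥H : Set ↥H) ≤ Cfsg.pPrimeCore p ↥H) :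
    Setup p V H ((Cfsg.pPrimeCore p ↥H).map H.subtype) where
  hV := hV
  hHV := hHV
  hf := hf
  hQH := Subgroup.map_subtype_le _
  hHQ := by
    have hn : (Cfsg.pPrimeCore p ↥H).Normal := Cfsg.Agent.Lib.Helper1.pPrimeCore_normal p
    apply Cfsg.Agent.Lib.Helper1.le_normalizer_of_conj_mem
    rintro h hh _ ⟨x, hx, rfl⟩
    exact ⟨⟨h, hh⟩ * x * ⟨h, hh⟩⁻¹, hn.conj_mem x hx ⟨h, hh⟩, rfl⟩
  hQ := by
    rw [Subgroup.card_map_of_injective H.subtype_injective]
    exact Cfsg.Agent.Lib.Helper1.pPrimeCore_card_coprime p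
  hCQ := by
    intro x hx
    have hxH : x ∈ H := hx.1
    have : (⟨x, hxH⟩ : ↥H) ∈ Subgroup.centralizer (Cfsg.pPrimeCore p ↥H : Set ↥H) := by
      rw [Subgroup.mem_centralizer_iff]
      intro y hy
      apply Subtype.ext
      have hy' : (y : G) ∈ (Cfsg.pPrimeCore p ↥H).map H.subtype := ⟨y, hy, rfl⟩
      exact (Subgroup.mem_centralizer_iff.mp hx.2) (y : G) hy'
    exact ⟨⟨x, hxH⟩, hS1 this, rfl⟩

namespace Setup

variable {V H Q : Subgroup G}

theorem hQV (s : Setup p V H Q) : Q ≤ Subgroup.normalizer (V : Set G) := s.hQH.trans s.hHV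

theorem hQf (s : Setup p V H Q) : Q ⊓ Subgroup.centralizer (V : Set G) = ⊥ := by
  rw [eq_bot_iff, ← s.hf]
  exact inf_le_inf_right _ s.hQH

theorem comm_of_bo (s : Setup p V H Q) {A : Subgroup G} (hAH : A ≤ H)
    (hA : IsBestOffenderOn p V A) : ∀ x ∈ A, ∀ y ∈ A, x * y = y * x := by
  intro x hx y hy
  have h1 : ⁅x, y⁆ ∈ ⁅A, A⁆ := Subgroup.commutator_mem_commutator hx hy
  have h2 : ⁅x, y⁆ ∈ H ⊓ Subgroup.centralizer (V : Set G) :=
    ⟨H.mul_mem (H.mul_mem (H.mul_mem (hAH hx) (hAH hy)) (H.inv_mem (hAH hx))) (H.inv_mem (hAH hy)),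
      hA.2.1 h1⟩
  rw [s.hf, Subgroup.mem_bot, commutatorElement_eq_one_iff_mul_comm] at h2
  exact h2

theorem pow_of_bo (s : Setup p V H Q) {A : Subgroup G} (hAH : A ≤ H)
    (hA : IsBestOffenderOn p V A) : ∀ a ∈ A, a ^ p = 1 := by
  intro a ha
  have h2 : a ^ p ∈ H ⊓ Subgroup.centralizer (V : Set G) :=
    ⟨H.pow_mem (hAH ha) p, hA.2.2 a ha⟩
  rw [s.hf, Subgroup.mem_bot] at h2
  exact h2

theorem inf_centralizer_eq_bot [Finite G] [hp : Fact p.Prime] (s : Setup p V H Q) {A : Subgroup G}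
    (hAH : A ≤ H) (hAp : ∀ a ∈ A, a ^ p = 1) : A ⊓ Subgroup.centralizer (Q : Set G) = ⊥ := by
  rw [eq_bot_iff]
  intro a ha
  rw [Subgroup.mem_bot]
  have haQ : a ∈ Q := s.hCQ ⟨hAH ha.1, ha.2⟩
  have h1 : orderOf a ∣ p := orderOf_dvd_of_pow_eq_one (hAp a ha.1)
  have h2 : orderOf a ∣ Nat.card Q := by
    rw [← Subgroup.orderOf_mk a haQ]; exact orderOf_dvd_natCard _
  have h3 : orderOf a ∣ 1 := by
    have := Nat.dvd_gcd h2 h1
    rwa [Nat.Coprime.gcd_eq_one s.hQ] at this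
  exact orderOf_eq_one_iff.mp (Nat.dvd_one.mp h3)

/-- (a) -/
theorem offVal_eq_card [Finite G] [hp : Fact p.Prime] (s : Setup p V H Q) {A : Subgroup G}
    (hAH : A ≤ H) (hA : IsBestOffenderOn p V A) : offVal V A = Nat.card V :=
  offVal_eq_card_aux V Q s.hV s.hQV s.hQ s.hQf _ A rfl (s.comm_of_bo hAH hA) (s.pow_of_bo hAH hA)
    (hAH.trans s.hHV) (hAH.trans s.hHQ) (s.inf_centralizer_eq_bot hAH (s.pow_of_bo hAH hA)) hA.1

end Setup

end Cfsg.Agent.Lib.Helper1.FF
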