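import Mathlib
import Cfsg.Agent.Lib.Helper1.FF2

/-! Minimal best offenders have order `p`; decomposition of best offenders. -/
set_option autoImplicit false
universe u v
open Cfsg
open scoped commutatorElement Pointwise

namespace Cfsg.Agent.Lib.Helper1.FF
variable {G : Type u} [Group G] {p : ℕ}

/-- for a cyclic group acting on an abelian group: `|[V, a]| * |C_V(a)| = |V|` -/
theorem card_commutator_zpowers [Finite G] (V : Subgroup G)
    (hVc : ∀ x ∈ V, ∀ y ∈ V, x * y = y * x) (a : G)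
    (ha : a ∈ Subgroup.normalizer (V : Set G)) :
    Nat.card ↥(⁅V, Subgroup.zpowers a⁆) *
      Nat.card ↥(V ⊓ Subgroup.centralizer (Subgroup.zpowers a : Set G)) = Nat.card V := by
  have hHV : Subgroup.zpowers a ≤ Subgroup.normalizer (V : Set G) := by
    rw [Subgroup.zpowers_le]; exact ha
  have hVH := commutator_le_of_le_normalizer V _ hHV
  have hmem : ∀ v ∈ V, ⁅a, v⁆ ∈ ⁅V, Subgroup.zpowers a⁆ := by
    intro v hv
    rw [Subgroup.commutator_comm]
    exact Subgroup.commutator_mem_commutator (Subgroup.mem_zpowers a) hv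
  let f : V →* V := MonoidHom.mk' (fun v => ⟨⁅a, (v : G)⁆, hVH (hmem v v.2)⟩) (by
    intro v w
    apply Subtype.ext
    show ⁅a, (v : G) * w⁆ = ⁅a, (v : G)⁆ * ⁅a, (w : G)⁆
    have h1 : ⁅a, (v : G) * w⁆ = ⁅a, (v : G)⁆ * ((v : G) * ⁅a, (w : G)⁆ * (v : G)⁻¹) := by
      simp only [commutatorElement_def]; group
    rw [h1, hVc _ v.2 _ (hVH (hmem w w.2))]
    group)
  have hf : ∀ v : V, ((f v : V) : G) = ⁅a, (v : G)⁆ := fun v => rfl
  have hker : f.ker = (V ⊓ Subgroup.centralizer (Subgroup.zpowers a : Set G)).subgroupOf V := by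
    ext v
    rw [MonoidHom.mem_ker, Subgroup.mem_subgroupOf, Subgroup.mem_inf, mem_centralizer_zpowers_iff]
    constructor
    · intro h
      have h' : ⁅a, (v : G)⁆ = 1 := congrArg Subtype.val h
      rw [commutatorElement_eq_one_iff_mul_comm] at h'
      exact ⟨v.2, h'⟩
    · intro h
      apply Subtype.ext
      show ⁅a, (v : G)⁆ = 1
      rw [commutatorElement_eq_one_iff_mul_comm]
      exact h.2
  -- the range is the commutator
  have hrange : f.range.map V.subtype = ⁅V, Subgroup.zpowers a⁆ := by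
    apply le_antisymm
    · rintro _ ⟨_, ⟨v, rfl⟩, rfl⟩
      exact hmem v v.2
    · -- a normalizes the range
      have hconj : ∀ x ∈ f.range.map V.subtype, a * x * a⁻¹ ∈ f.range.map V.subtype := by
        rintro _ ⟨_, ⟨v, rfl⟩, rfl⟩
        have hv' : a * (v : G) * a⁻¹ ∈ V := (Subgroup.mem_normalizer_iff.mp ha v).mp v.2
        refine ⟨f ⟨a * v * a⁻¹, hv'⟩, ⟨_, rfl⟩, ?_⟩
        show ⁅a, a * (v : G) * a⁻¹⁆ = a * ⁅a, (v : G)⁆ * a⁻¹
        simp only [commutatorElement_def]; group
      have hpow : ∀ n : ℕ, ∀ v ∈ V, ⁅a ^ n, v⁆ ∈ f.range.map V.subtype := by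
        intro n
        induction n with
        | zero =>
          intro v _
          rw [pow_zero, commutatorElement_one_left]
          exact Subgroup.one_mem _
        | succ n ih =>
          intro v hv
          have e : ⁅a ^ (n + 1), v⁆ = a * ⁅a ^ n, v⁆ * a⁻¹ * ⁅a, v⁆ := by
            rw [pow_succ']
            simp only [commutatorElement_def]; group
          rw [e]
          exact Subgroup.mul_mem _ (hconj _ (ih v hv)) ⟨f ⟨v, hv⟩, ⟨_, rfl⟩, rfl⟩
      rw [Subgroup.commutator_le]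
      intro v hv z hz
      obtain ⟨n, rfl⟩ : ∃ n : ℕ, a ^ n = z := by
        have := (mem_powers_iff_mem_zpowers (x := a) (y := z)).mpr hz
        exact (Submonoid.mem_powers_iff z a).mp this
      have h1 : ⁅v, a ^ n⁆ = (⁅a ^ n, v⁆)⁻¹ := (commutatorElement_inv _ _).symm
      rw [h1]
      exact Subgroup.inv_mem _ (hpow n v hv)
  have hcard1 : Nat.card ((V ⊓ Subgroup.centralizer (Subgroup.zpowers a : Set G)).subgroupOf V) =
      Nat.card ↥(V ⊓ Subgroup.centralizer (Subgroup.zpowers a : Set G)) :=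
    Nat.card_congr (Subgroup.subgroupOfEquivOfLe inf_le_left).toEquiv
  have hcard2 : Nat.card f.range = Nat.card ↥(⁅V, Subgroup.zpowers a⁆) := by
    rw [← hrange, Subgroup.card_map_of_injective V.subtype_injective]
  have h1 : Nat.card V = Nat.card f.ker * Nat.card f.range := by
    rw [← Subgroup.index_ker, Subgroup.card_mul_index]
  rw [h1, hker, hcard1, hcard2, mul_comm]

theorem centralizer_zpowers_eq (a : G) :
    Subgroup.centralizer ((Subgroup.zpowers a : Subgroup G) : Set G) = Subgroup.centralizer {a} := by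
  ext g
  rw [mem_centralizer_zpowers_iff, Subgroup.mem_centralizer_iff]
  constructor
  · intro h w hw; rw [Set.mem_singleton_iff] at hw; rw [hw]; exact h
  · intro h; exact h a rfl

theorem le_centralizer_of_commutator_eq_bot {V B : Subgroup G} (h : ⁅V, B⁆ = ⊥) :
    B ≤ Subgroup.centralizer (V : Set G) := by
  rw [Subgroup.commutator_comm, Subgroup.commutator_eq_bot_iff_le_centralizer] at h
  exact h

namespace Setup

variable {V H Q : Subgroup G}

theorem isBestOffenderOn_of_offVal_eq (s : Setup p V H Q) {A B : Subgroup G}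
    (hA : IsBestOffenderOn p V A) (hBA : B ≤ A) (hval : offVal V B = offVal V A) :
    IsBestOffenderOn p V B := by
  refine ⟨?_, ?_, ?_⟩
  · intro B' hB'
    have := hA.1 B' (hB'.trans hBA)
    unfold offVal at hval
    rw [hval]
    exact this
  · exact (Subgroup.commutator_mono hBA hBA).trans hA.2.1
  · intro b hb
    exact hA.2.2 b (hBA hb)

theorem ne_bot_of_commutator_ne_bot {A : Subgroup G} (hAV : ⁅V, A⁆ ≠ ⊥) : A ≠ ⊥ := by
  intro h
  apply hAV
  rw [h, eq_bot_iff, Subgroup.commutator_le]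
  intro v _ a ha
  rw [Subgroup.mem_bot] at ha
  rw [ha, commutatorElement_one_right]
  exact Subgroup.one_mem _

theorem commutator_ne_bot_of_ne_bot (s : Setup p V H Q) {A : Subgroup G} (hAH : A ≤ H)
    (hA1 : A ≠ ⊥) : ⁅V, A⁆ ≠ ⊥ := by
  intro h
  apply hA1
  rw [eq_bot_iff, ← s.hf]
  exact le_inf hAH (le_centralizer_of_commutator_eq_bot h)

/-- (b) -/
theorem minimal_bo [Finite G] [hp : Fact p.Prime] (s : Setup p V H Q) {A : Subgroup G}
    (hAH : A ≤ H) (hA : IsBestOffenderOn p V A) (hAV : ⁅V, A⁆ ≠ ⊥)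
    (hmin : ∀ B : Subgroup G, B ≤ A → IsBestOffenderOn p V B → ⁅V, B⁆ ≠ ⊥ → B = A) :
    Nat.card A = p ∧ Nat.card ↥(⁅V, A⁆) = p ∧
      (V ⊓ Subgroup.centralizer (A : Set G)).relIndex V = p := by
  have hA1 : A ≠ ⊥ := ne_bot_of_commutator_ne_bot hAV
  have hAc := s.comm_of_bo hAH hA
  have hAp := s.pow_of_bo hAH hA
  obtain ⟨a, ha1⟩ := (Subgroup.ne_bot_iff_exists_ne_one).mp hA1
  have haA : (a : G) ∈ A := a.2
  have haQ : (a : G) ∉ Subgroup.centralizer (Q : Set G) := by
    intro h
    have : (a : G) ∈ A ⊓ Subgroup.centralizer (Q : Set G) := ⟨haA, h⟩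
    rw [s.inf_centralizer_eq_bot hAH hAp, Subgroup.mem_bot] at this
    exact ha1 (Subtype.ext this)
  obtain ⟨B, hBA, hcard, haB, hval⟩ :=
    exists_hyperplane_offVal V A Q s.hV hAc hAp (hAH.trans s.hHV) s.hQV (hAH.trans s.hHQ) s.hQ s.hQf
      hA.1 (a : G) haA haQ
  have hB := s.isBestOffenderOn_of_offVal_eq hA hBA hval
  have hBbot : B = ⊥ := by
    by_contra hB1
    have h1 := hmin B hBA hB (s.commutator_ne_bot_of_ne_bot (hBA.trans hAH) hB1)
    exact haB (h1 ▸ haA)
  have hcardA : Nat.card A = p := by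
    rw [hcard, hBbot, Subgroup.card_bot, mul_one]
  have hval' := s.offVal_eq_card hAH hA
  unfold offVal at hval'
  rw [hcardA] at hval'
  have hAz : A = Subgroup.zpowers (a : G) := by
    symm
    apply Subgroup.eq_of_le_of_card_ge
    · rw [Subgroup.zpowers_le]; exact haA
    · rw [hcardA, Nat.card_zpowers]
      apply le_of_eq
      symm
      apply orderOf_eq_prime (hAp _ haA)
      intro h; exact ha1 (Subtype.ext h)
  refine ⟨hcardA, ?_, ?_⟩
  · have hVc : ∀ x ∈ V, ∀ y ∈ V, x * y = y * x :=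
      fun x hx y hy => isElementaryAbelian_comm s.hV hx hy
    have h1 := card_commutator_zpowers V hVc (a : G) ((hAH.trans s.hHV) haA)
    rw [← hAz] at h1
    have hpos : 0 < Nat.card ↥(V ⊓ Subgroup.centralizer (A : Set G)) := Nat.card_pos
    have : Nat.card ↥(⁅V, A⁆) * Nat.card ↥(V ⊓ Subgroup.centralizer (A : Set G)) =
        p * Nat.card ↥(V ⊓ Subgroup.centralizer (A : Set G)) := by rw [h1, hval']
    exact Nat.eq_of_mul_eq_mul_right hpos this
  · have h1 := relIndex_mul_card_inf (V ⊓ Subgroup.centralizer (A : Set G)) V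
    have h2 : V ⊓ Subgroup.centralizer (A : Set G) ⊓ V = V ⊓ Subgroup.centralizer (A : Set G) :=
      inf_eq_left.mpr inf_le_left
    rw [h2, ← hval'] at h1
    have hpos : 0 < Nat.card ↥(V ⊓ Subgroup.centralizer (A : Set G)) := Nat.card_pos
    exact Nat.eq_of_mul_eq_mul_right hpos h1

end Setup

end Cfsg.Agent.Lib.Helper1.FF
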