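import Mathlib
import Cfsg.Agent.Lib.Helper1.FF3
import Cfsg.Agent.Lib.Helper2.Semisimple

/-! Decomposition of best offenders into minimal ones. -/
set_option autoImplicit false
universe u v
open Cfsg
open scoped commutatorElement Pointwise

namespace Cfsg.Agent.Lib.Helper1.FF
variable {G : Type u} [Group G] {p : ℕ}

/-- extending an independent family inside `B₀` by a complement `X` -/
theorem iSupIndep_cons {A B₀ X : Subgroup G} (hAc : ∀ x ∈ A, ∀ y ∈ A, x * y = y * x)
    (hB₀A : B₀ ≤ A) (hXA : X ≤ A) (hdisj : B₀ ⊓ X = ⊥)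
    {k : ℕ} (B : Fin k → Subgroup G) (hind : iSupIndep B) (hsup : ⨆ i, B i = B₀) :
    iSupIndep (Fin.cons X B : Fin (k + 1) → Subgroup G) ∧
      ⨆ i, (Fin.cons X B : Fin (k + 1) → Subgroup G) i = X ⊔ B₀ := by
  have hBle : ∀ i, B i ≤ B₀ := fun i => hsup ▸ le_iSup B i
  constructor
  · intro i
    rw [disjoint_iff]
    refine Fin.cases ?_ (fun j => ?_) i
    · -- X against the rest
      rw [Fin.cons_zero, eq_bot_iff, ← hdisj]
      apply le_inf _ inf_le_left
      apply inf_le_right.trans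
      apply iSup₂_le
      intro l hl
      obtain ⟨l', rfl⟩ := Fin.exists_succ_eq.mpr hl
      rw [Fin.cons_succ]
      exact hBle l'
    · rw [Fin.cons_succ, eq_bot_iff]
      intro z hz
      rw [Subgroup.mem_bot]
      have hz1 : z ∈ B j := hz.1
      have hz2 : z ∈ X ⊔ ⨆ (l) (_ : l ≠ j), B l := by
        have hle : (⨆ (l) (_ : l ≠ Fin.succ j), (Fin.cons X B : Fin (k + 1) → Subgroup G) l) ≤
            X ⊔ ⨆ (l) (_ : l ≠ j), B l := by
          apply iSup₂_le
          intro l hl
          revert hl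
          refine Fin.cases ?_ (fun l' => ?_) l
          · intro _
            rw [Fin.cons_zero]; exact le_sup_left
          · intro hl
            rw [Fin.cons_succ]
            have hl' : l' ≠ j := fun h => hl (by rw [h])
            exact le_trans (le_iSup₂ (f := fun l (_ : l ≠ j) => B l) l' hl') le_sup_right
        exact hle hz.2
      have hCle : (⨆ (l) (_ : l ≠ j), B l) ≤ B₀ := iSup₂_le (fun l _ => hBle l)
      have hcomm : ∀ x ∈ X, ∀ c ∈ (⨆ (l) (_ : l ≠ j), B l), x * c = c * x :=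
        fun x hx c hc => hAc x (hXA hx) c (hB₀A (hCle hc))
      obtain ⟨x, hx, c, hc, rfl⟩ :=
        Cfsg.Agent.Lib.Helper2.exists_mul_of_mem_sup_of_commute hcomm hz2
      have hx1 : x ∈ B₀ ⊓ X := by
        refine ⟨?_, hx⟩
        have : x = x * c * c⁻¹ := by group
        rw [this]
        exact B₀.mul_mem (hBle j hz1) (B₀.inv_mem (hCle hc))
      rw [hdisj, Subgroup.mem_bot] at hx1
      rw [hx1, one_mul] at hz1 ⊢
      have := (disjoint_iff.mp (hind j)).le ⟨hz1, hc⟩
      exact Subgroup.mem_bot.mp this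
  · apply le_antisymm
    · apply iSup_le
      intro i
      refine Fin.cases ?_ (fun j => ?_) i
      · rw [Fin.cons_zero]; exact le_sup_left
      · rw [Fin.cons_succ]; exact (hBle j).trans le_sup_right
    · apply sup_le
      · exact le_iSup (Fin.cons X B : Fin (k + 1) → Subgroup G) 0
      · rw [← hsup]
        apply iSup_le
        intro j
        exact le_iSup (Fin.cons X B : Fin (k + 1) → Subgroup G) (Fin.succ j)

namespace Setup

variable {V H Q : Subgroup G}

theorem isBestOffenderOn_of_max (s : Setup p V H Q) {A X : Subgroup G}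
    (hA : IsBestOffenderOn p V A) (hXA : X ≤ A) (hval : offVal V X = offVal V A) :
    IsBestOffenderOn p V X := s.isBestOffenderOn_of_offVal_eq hA hXA hval

/-- inside a best offender `A` with a maximal-value hyperplane `B₀`, there is a maximal-value
subgroup of order `p` outside `B₀` -/
theorem exists_order_p [Finite G] [hp : Fact p.Prime] (s : Setup p V H Q) {A B₀ : Subgroup G}
    (hAH : A ≤ H) (hA : IsBestOffenderOn p V A) (hB₀A : B₀ ≤ A)
    (hcardA : Nat.card A = p * Nat.card B₀) :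
    ∀ m : ℕ, ∀ X : Subgroup G, Nat.card X = m → X ≤ A → offVal V X = offVal V A → ¬ X ≤ B₀ →
      ∃ X' : Subgroup G, X' ≤ A ∧ offVal V X' = offVal V A ∧ ¬ X' ≤ B₀ ∧ Nat.card X' = p := by
  have hAc := s.comm_of_bo hAH hA
  have hAp := s.pow_of_bo hAH hA
  intro m
  induction m using Nat.strong_induction_on with
  | _ m ih =>
    intro X hm hXA hval hXB
    have hXbo := s.isBestOffenderOn_of_max hA hXA hval
    have hXp : IsPGroup p X := isPGroup_of_pow_eq_one (fun a ha => hAp a (hXA ha))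
    by_cases hinf : X ⊓ B₀ = ⊥
    · refine ⟨X, hXA, hval, hXB, ?_⟩
      have hXn : X ≤ Subgroup.normalizer (B₀ : Set G) := by
        apply Cfsg.Agent.Lib.Helper1.le_normalizer_of_conj_mem
        intro x hx b hb
        have : x * b = b * x := hAc x (hXA hx) b (hB₀A hb)
        rw [this, mul_assoc, mul_inv_cancel, mul_one]; exact hb
      have h1 := GlaubermanRepl.card_sup_mul_card_inf_of_le_normalizer X B₀ hXn
      rw [hinf, Subgroup.card_bot, mul_one] at h1
      have h2 : Nat.card (X ⊔ B₀ : Subgroup G) ≤ Nat.card A :=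
        Subgroup.card_le_of_le (sup_le hXA hB₀A)
      rw [h1, hcardA] at h2
      have hB₀pos : 0 < Nat.card B₀ := Nat.card_pos
      have h3 : Nat.card X ≤ p := Nat.le_of_mul_le_mul_right h2 hB₀pos
      obtain ⟨i, hi⟩ := hXp.exists_card_eq
      have hX1 : X ≠ ⊥ := fun h => hXB (h ▸ bot_le)
      have hi0 : i ≠ 0 := by
        intro h0
        rw [h0, pow_zero] at hi
        exact hX1 (Subgroup.card_eq_one.mp hi)
      have h4 : p ≤ Nat.card X := by
        rw [hi]
        calc p = p ^ 1 := (pow_one p).symm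
          _ ≤ p ^ i := Nat.pow_le_pow_right hp.out.pos (Nat.one_le_iff_ne_zero.mpr hi0)
      exact le_antisymm h3 h4
    · obtain ⟨a, ha1⟩ := (Subgroup.ne_bot_iff_exists_ne_one).mp hinf
      have haX : (a : G) ∈ X := a.2.1
      have haB₀ : (a : G) ∈ B₀ := a.2.2
      have haQ : (a : G) ∉ Subgroup.centralizer (Q : Set G) := by
        intro h
        have : (a : G) ∈ A ⊓ Subgroup.centralizer (Q : Set G) := ⟨hXA haX, h⟩
        rw [s.inf_centralizer_eq_bot hAH hAp, Subgroup.mem_bot] at this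
        exact ha1 (Subtype.ext this)
      obtain ⟨Y, hYX, hcard, haY, hvalY⟩ :=
        exists_hyperplane_offVal V X Q s.hV (fun x hx y hy => hAc x (hXA hx) y (hXA hy))
          (fun x hx => hAp x (hXA hx)) ((hXA.trans hAH).trans s.hHV) s.hQV
          ((hXA.trans hAH).trans s.hHQ) s.hQ s.hQf hXbo.1 (a : G) haX haQ
      have hYB : ¬ Y ≤ B₀ := by
        intro hYB
        have hY1 : Y ≤ X ⊓ B₀ := le_inf hYX hYB
        obtain ⟨t, ht⟩ := Subgroup.card_dvd_of_le hY1
        obtain ⟨u, hu⟩ := Subgroup.card_dvd_of_le (inf_le_left : X ⊓ B₀ ≤ X)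
        have hYpos : 0 < Nat.card Y := Nat.card_pos
        have h1 : p = t * u := by
          have : Nat.card Y * p = Nat.card Y * (t * u) := by
            calc Nat.card Y * p = Nat.card X := by rw [hcard, mul_comm]
              _ = Nat.card (X ⊓ B₀ : Subgroup G) * u := hu
              _ = Nat.card Y * t * u := by rw [ht]
              _ = Nat.card Y * (t * u) := by ring
          exact Nat.eq_of_mul_eq_mul_left hYpos this
        have htp : t ∣ p := ⟨u, h1⟩
        rcases (Nat.dvd_prime hp.out).mp htp with h2 | h2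
        · rw [h2, mul_one] at ht
          have : Y = X ⊓ B₀ := Subgroup.eq_of_le_of_card_ge hY1 ht.le
          apply haY
          rw [this]
          exact ⟨haX, haB₀⟩
        · have h3 : Nat.card (X ⊓ B₀ : Subgroup G) = Nat.card X := by
            rw [ht, h2, hcard, mul_comm]
          have : X ⊓ B₀ = X := Subgroup.eq_of_le_of_card_ge inf_le_left h3.ge
          exact hXB (this ▸ inf_le_right)
      have hlt : Nat.card Y < m := by
        rw [← hm, hcard]
        have : 0 < Nat.card Y := Nat.card_pos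
        have := hp.out.one_lt
        nlinarith
      exact ih (Nat.card Y) hlt Y rfl (hYX.trans hXA) (hvalY.trans hval) hYB

/-- (c) -/
theorem exists_decomp_aux [Finite G] [hp : Fact p.Prime] (s : Setup p V H Q) :
    ∀ n : ℕ, ∀ A : Subgroup G, Nat.card A = n → A ≤ H → IsBestOffenderOn p V A → A ≠ ⊥ →
      ∃ (k : ℕ) (B : Fin k → Subgroup G),
        (∀ i, B i ≤ A ∧ IsBestOffenderOn p V (B i) ∧ ⁅V, B i⁆ ≠ ⊥ ∧
          ∀ C : Subgroup G, C ≤ B i → IsBestOffenderOn p V C → ⁅V, C⁆ ≠ ⊥ → C = B i) ∧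
        iSupIndep B ∧ ⨆ i, B i = A := by
  intro n
  induction n using Nat.strong_induction_on with
  | _ n ih =>
    intro A hn hAH hA hA1
    have hAc := s.comm_of_bo hAH hA
    have hAp := s.pow_of_bo hAH hA
    obtain ⟨a, ha1⟩ := (Subgroup.ne_bot_iff_exists_ne_one).mp hA1
    have haA : (a : G) ∈ A := a.2
    have haQ : (a : G) ∉ Subgroup.centralizer (Q : Set G) := by
      intro h
      have : (a : G) ∈ A ⊓ Subgroup.centralizer (Q : Set G) := ⟨haA, h⟩
      rw [s.inf_centralizer_eq_bot hAH hAp, Subgroup.mem_bot] at this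
      exact ha1 (Subtype.ext this)
    obtain ⟨B₀, hB₀A, hcard, haB₀, hval₀⟩ :=
      exists_hyperplane_offVal V A Q s.hV hAc hAp (hAH.trans s.hHV) s.hQV (hAH.trans s.hHQ)
        s.hQ s.hQf hA.1 (a : G) haA haQ
    have hAB₀ : ¬ A ≤ B₀ := fun h => haB₀ (h haA)
    obtain ⟨X, hXA, hvalX, hXB₀, hXcard⟩ :=
      s.exists_order_p hAH hA hB₀A hcard _ A rfl le_rfl rfl hAB₀
    have hXbo := s.isBestOffenderOn_of_max hA hXA hvalX
    have hX1 : X ≠ ⊥ := fun h => hXB₀ (h ▸ bot_le)
    have hdisj : B₀ ⊓ X = ⊥ := by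
      have h1 : Nat.card (B₀ ⊓ X : Subgroup G) ∣ p := by
        rw [← hXcard]; exact Subgroup.card_dvd_of_le inf_le_right
      rcases (Nat.dvd_prime hp.out).mp h1 with h2 | h2
      · exact Subgroup.card_eq_one.mp h2
      · exfalso
        have : B₀ ⊓ X = X := Subgroup.eq_of_le_of_card_ge inf_le_right (by rw [h2, hXcard])
        exact hXB₀ (this ▸ inf_le_left)
    have hsupA : X ⊔ B₀ = A := by
      apply Subgroup.eq_of_le_of_card_ge (sup_le hXA hB₀A)
      have hXn : X ≤ Subgroup.normalizer (B₀ : Set G) := by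
        apply Cfsg.Agent.Lib.Helper1.le_normalizer_of_conj_mem
        intro x hx b hb
        have : x * b = b * x := hAc x (hXA hx) b (hB₀A hb)
        rw [this, mul_assoc, mul_inv_cancel, mul_one]; exact hb
      have h1 := GlaubermanRepl.card_sup_mul_card_inf_of_le_normalizer X B₀ hXn
      rw [inf_comm, hdisj, Subgroup.card_bot, mul_one, hXcard] at h1
      rw [h1, hcard]
    have hXmin : ∀ C : Subgroup G, C ≤ X → IsBestOffenderOn p V C → ⁅V, C⁆ ≠ ⊥ → C = X := by
      intro C hCX _ hC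
      have hC1 : C ≠ ⊥ := ne_bot_of_commutator_ne_bot hC
      have h1 : Nat.card C ∣ p := by rw [← hXcard]; exact Subgroup.card_dvd_of_le hCX
      rcases (Nat.dvd_prime hp.out).mp h1 with h2 | h2
      · exact absurd (Subgroup.card_eq_one.mp h2) hC1
      · exact Subgroup.eq_of_le_of_card_ge hCX (by rw [h2, hXcard])
    have hXV : ⁅V, X⁆ ≠ ⊥ := s.commutator_ne_bot_of_ne_bot (hXA.trans hAH) hX1
    -- the family for B₀
    have hB₀fam : ∃ (k : ℕ) (B : Fin k → Subgroup G),
        (∀ i, B i ≤ B₀ ∧ IsBestOffenderOn p V (B i) ∧ ⁅V, B i⁆ ≠ ⊥ ∧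
          ∀ C : Subgroup G, C ≤ B i → IsBestOffenderOn p V C → ⁅V, C⁆ ≠ ⊥ → C = B i) ∧
        iSupIndep B ∧ ⨆ i, B i = B₀ := by
      by_cases hB₀1 : B₀ = ⊥
      · refine ⟨0, fun i => i.elim0, fun i => i.elim0, fun i => i.elim0, ?_⟩
        rw [hB₀1, iSup_of_empty]
      · have hlt : Nat.card B₀ < n := by
          rw [← hn, hcard]
          have : 0 < Nat.card B₀ := Nat.card_pos
          have := hp.out.one_lt
          nlinarith
        exact ih (Nat.card B₀) hlt B₀ rfl (hB₀A.trans hAH)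
          (s.isBestOffenderOn_of_max hA hB₀A hval₀) hB₀1
    obtain ⟨k, B, hB, hind, hsup⟩ := hB₀fam
    obtain ⟨h1, h2⟩ := iSupIndep_cons hAc hB₀A hXA hdisj B hind hsup
    refine ⟨k + 1, Fin.cons X B, ?_, h1, h2.trans hsupA⟩
    intro i
    refine Fin.cases ?_ (fun j => ?_) i
    · rw [Fin.cons_zero]
      exact ⟨hXA, hXbo, hXV, hXmin⟩
    · rw [Fin.cons_succ]
      obtain ⟨hj1, hj2, hj3, hj4⟩ := hB j
      exact ⟨hj1.trans hB₀A, hj2, hj3, hj4⟩

theorem exists_decomp [Finite G] [hp : Fact p.Prime] (s : Setup p V H Q) {A : Subgroup G}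
    (hAH : A ≤ H) (hA : IsBestOffenderOn p V A) (hA1 : A ≠ ⊥) :
    ∃ (k : ℕ) (B : Fin k → Subgroup G),
      (∀ i, B i ≤ A ∧ IsBestOffenderOn p V (B i) ∧ ⁅V, B i⁆ ≠ ⊥ ∧
        ∀ C : Subgroup G, C ≤ B i → IsBestOffenderOn p V C → ⁅V, C⁆ ≠ ⊥ → C = B i) ∧
      iSupIndep B ∧ ⨆ i, B i = A :=
  s.exists_decomp_aux _ A rfl hAH hA hA1

end Setup

end Cfsg.Agent.Lib.Helper1.FF
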