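import Mathlib
import Cfsg.Agent.Lib.Helper1.FF4

/-! Pairs of transvection groups in a `p'`-by-`p` group: basic structure. -/
set_option autoImplicit false
universe u v
open Cfsg
open scoped commutatorElement Pointwise

namespace Cfsg.Agent.Lib.Helper1.FF
variable {G : Type u} [Group G] {p : ℕ}

theorem commutator_sup_le_of_le {V A B M : Subgroup G} (hMV : M ≤ V) (hA : ⁅V, A⁆ ≤ M)
    (hB : ⁅V, B⁆ ≤ M) : ⁅V, A ⊔ B⁆ ≤ M := by
  have key : ∀ g ∈ A ⊔ B, ∀ v ∈ V, ⁅v, g⁆ ∈ M ∧ ⁅v, g⁻¹⁆ ∈ M := by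
    intro g hg
    rw [Subgroup.sup_eq_closure] at hg
    induction hg using Subgroup.closure_induction with
    | mem y hy =>
      intro v hv
      rcases hy with hy | hy
      · exact ⟨hA (Subgroup.commutator_mem_commutator hv hy),
          hA (Subgroup.commutator_mem_commutator hv (A.inv_mem hy))⟩
      · exact ⟨hB (Subgroup.commutator_mem_commutator hv hy),
          hB (Subgroup.commutator_mem_commutator hv (B.inv_mem hy))⟩
    | one =>
      intro v _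
      rw [inv_one, commutatorElement_one_right]
      exact ⟨M.one_mem, M.one_mem⟩
    | mul y z _ _ hy hz =>
      intro v hv
      constructor
      · have e : ⁅v, y * z⁆ = ⁅v, y⁆ * ((⁅⁅v, z⁆, y⁆)⁻¹ * ⁅v, z⁆) := by
          simp only [commutatorElement_def]; group
        rw [e]
        exact M.mul_mem (hy v hv).1 (M.mul_mem (M.inv_mem (hy _ (hMV (hz v hv).1)).1) (hz v hv).1)
      · have e : ⁅v, (y * z)⁻¹⁆ = ⁅v, z⁻¹⁆ * ((⁅⁅v, y⁻¹⁆, z⁻¹⁆)⁻¹ * ⁅v, y⁻¹⁆) := by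
          simp only [commutatorElement_def]; group
        rw [e]
        exact M.mul_mem (hz v hv).2 (M.mul_mem (M.inv_mem (hz _ (hMV (hy v hv).2)).2) (hy v hv).2)
    | inv y _ hy =>
      intro v hv
      rw [inv_inv]
      exact ⟨(hy v hv).2, (hy v hv).1⟩
  rw [Subgroup.commutator_le]
  intro v hv g hg
  exact (key g hg v hv).1

theorem commutator_sup_eq {V A B : Subgroup G} (hAV : A ≤ Subgroup.normalizer (V : Set G))
    (hBV : B ≤ Subgroup.normalizer (V : Set G)) : ⁅V, A ⊔ B⁆ = ⁅V, A⁆ ⊔ ⁅V, B⁆ := by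
  apply le_antisymm
  · apply commutator_sup_le_of_le (sup_le (commutator_le_of_le_normalizer V A hAV)
      (commutator_le_of_le_normalizer V B hBV)) le_sup_left le_sup_right
  · exact sup_le (Subgroup.commutator_mono le_rfl le_sup_left)
      (Subgroup.commutator_mono le_rfl le_sup_right)

/-- a faithful group stabilizing `1 ≤ M ≤ V` is a `p`-group -/
theorem isPGroup_of_quadratic {V K : Subgroup G} (hV : IsElementaryAbelian p V)
    (hKV : K ≤ Subgroup.normalizer (V : Set G)) (hf : K ⊓ Subgroup.centralizer (V : Set G) = ⊥)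
    (hq : ⁅⁅V, K⁆, K⁆ = ⊥) : IsPGroup p K := by
  intro g
  refine ⟨1, ?_⟩
  apply Subtype.ext
  rw [pow_one, Subgroup.coe_pow, Subgroup.coe_one]
  have h1 := quadratic_pow_mem_centralizer V K hV hKV hq (g : G) g.2
  have h2 : (g : G) ^ p ∈ K ⊓ Subgroup.centralizer (V : Set G) := ⟨K.pow_mem g.2 p, h1⟩
  rw [hf, Subgroup.mem_bot] at h2
  exact h2

/-- the ambient `p'`-by-`p` group -/
structure PairSetup (p : ℕ) (V L Q : Subgroup G) : Prop where
  hV : IsElementaryAbelian p V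
  hLV : L ≤ Subgroup.normalizer (V : Set G)
  hf : L ⊓ Subgroup.centralizer (V : Set G) = ⊥
  hQL : Q ≤ L
  hLQ : L ≤ Subgroup.normalizer (Q : Set G)
  hQ : (Nat.card Q).Coprime p
  hcard : Nat.card L = p * Nat.card Q

namespace PairSetup

variable {V L Q : Subgroup G}

theorem card_dvd_of_isPGroup [Finite G] [hp : Fact p.Prime] (s : PairSetup p V L Q) {P : Subgroup G}
    (hPL : P ≤ L) (hP : IsPGroup p P) : Nat.card P ∣ p := by
  have h1 : Nat.card P ∣ p * Nat.card Q := s.hcard ▸ Subgroup.card_dvd_of_le hPL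
  obtain ⟨k, hk⟩ := hP.exists_card_eq
  have h2 : (Nat.card P).Coprime (Nat.card Q) := by
    rw [hk]; exact (Nat.Coprime.pow_right k s.hQ).symm
  exact h2.dvd_of_dvd_mul_right h1

theorem eq_of_isPGroup_le [Finite G] [hp : Fact p.Prime] (s : PairSetup p V L Q) {A P : Subgroup G}
    (hPL : P ≤ L) (hP : IsPGroup p P) (hAP : A ≤ P) (hA : Nat.card A = p) : A = P := by
  apply Subgroup.eq_of_le_of_card_ge hAP
  rw [hA]
  exact Nat.le_of_dvd hp.out.pos (s.card_dvd_of_isPGroup hPL hP)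

theorem inf_Q_eq_bot [Finite G] [hp : Fact p.Prime] (s : PairSetup p V L Q) {A : Subgroup G}
    (hA : IsPGroup p A) : A ⊓ Q = ⊥ := by
  rw [eq_bot_iff]
  intro a ha
  rw [Subgroup.mem_bot]
  obtain ⟨k, hk⟩ := hA ⟨a, ha.1⟩
  have hk' : a ^ p ^ k = 1 := by
    have := congrArg Subtype.val hk
    simpa using this
  have h1 : orderOf a ∣ p ^ k := orderOf_dvd_of_pow_eq_one hk'
  have h2 : orderOf a ∣ Nat.card Q := by
    rw [← Subgroup.orderOf_mk a ha.2]; exact orderOf_dvd_natCard _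
  have h3 : orderOf a ∣ 1 := by
    have := Nat.dvd_gcd h2 h1
    rwa [Nat.Coprime.gcd_eq_one (Nat.Coprime.pow_right k s.hQ)] at this
  exact orderOf_eq_one_iff.mp (Nat.dvd_one.mp h3)

/-- a transvection group inside `L` -/
structure IsTr (s : PairSetup p V L Q) (A : Subgroup G) : Prop where
  hAL : A ≤ L
  hcard : Nat.card A = p
  hZ : Nat.card ↥(⁅V, A⁆) = p

theorem IsTr.isPGroup [hp : Fact p.Prime] {s : PairSetup p V L Q} {A : Subgroup G} (h : s.IsTr A) :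
    IsPGroup p A := IsPGroup.of_card (n := 1) (by rw [h.hcard, pow_one])

theorem IsTr.hAV {s : PairSetup p V L Q} {A : Subgroup G} (h : s.IsTr A) :
    A ≤ Subgroup.normalizer (V : Set G) := h.hAL.trans s.hLV

theorem IsTr.commutator_le {s : PairSetup p V L Q} {A : Subgroup G} (h : s.IsTr A) :
    ⁅V, A⁆ ≤ V := commutator_le_of_le_normalizer V A h.hAV

theorem eq_bot_or_eq_of_le_of_card_prime [Finite G] [hp : Fact p.Prime] {Z Y : Subgroup G}
    (hYZ : Y ≤ Z) (hZ : Nat.card Z = p) : Y = ⊥ ∨ Y = Z := by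
  have h1 : Nat.card Y ∣ p := hZ ▸ Subgroup.card_dvd_of_le hYZ
  rcases (Nat.dvd_prime hp.out).mp h1 with h2 | h2
  · exact Or.inl (Subgroup.card_eq_one.mp h2)
  · exact Or.inr (Subgroup.eq_of_le_of_card_ge hYZ (by rw [h2, hZ]))

/-- quadratic action -/
theorem IsTr.quad [Finite G] [hp : Fact p.Prime] {s : PairSetup p V L Q} {A : Subgroup G}
    (h : s.IsTr A) : ⁅V, A⁆ ≤ Subgroup.centralizer (A : Set G) := by
  have hZp : IsPGroup p ↥(⁅V, A⁆) := IsPGroup.of_card (n := 1) (by rw [h.hZ, pow_one])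
  have hAZ : A ≤ Subgroup.normalizer ((⁅V, A⁆ : Subgroup G) : Set G) :=
    le_normalizer_commutator h.hAV Subgroup.le_normalizer
  have hne : ⁅V, A⁆ ≠ ⊥ := by
    intro h0
    have := h.hZ
    rw [h0, Subgroup.card_bot] at this
    exact hp.out.one_lt.ne this
  have hlt := commutator_lt_of_isPGroup p hZp h.isPGroup hAZ hne
  rcases eq_bot_or_eq_of_le_of_card_prime hlt.le h.hZ with h1 | h1
  · rw [Subgroup.commutator_eq_bot_iff_le_centralizer] at h1
    exact h1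
  · exact absurd h1 hlt.ne

theorem not_isPGroup_sup [Finite G] [hp : Fact p.Prime] (s : PairSetup p V L Q) {A₁ A₂ : Subgroup G}
    (h₁ : s.IsTr A₁) (h₂ : s.IsTr A₂) (hne : A₁ ≠ A₂) : ¬ IsPGroup p ↥(A₁ ⊔ A₂ : Subgroup G) := by
  intro hE
  have e1 := s.eq_of_isPGroup_le (sup_le h₁.hAL h₂.hAL) hE le_sup_left h₁.hcard
  have e2 := s.eq_of_isPGroup_le (sup_le h₁.hAL h₂.hAL) hE le_sup_right h₂.hcard
  exact hne (e1.trans e2.symm)

theorem centers_ne [Finite G] [hp : Fact p.Prime] (s : PairSetup p V L Q) {A₁ A₂ : Subgroup G}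
    (h₁ : s.IsTr A₁) (h₂ : s.IsTr A₂) (hne : A₁ ≠ A₂) : ⁅V, A₁⁆ ≠ ⁅V, A₂⁆ := by
  intro hZ
  apply s.not_isPGroup_sup h₁ h₂ hne
  have hEL : A₁ ⊔ A₂ ≤ L := sup_le h₁.hAL h₂.hAL
  apply isPGroup_of_quadratic s.hV (hEL.trans s.hLV)
  · rw [eq_bot_iff, ← s.hf]
    exact inf_le_inf_right _ hEL
  · rw [commutator_sup_eq h₁.hAV h₂.hAV, ← hZ, sup_idem,
      Subgroup.commutator_eq_bot_iff_le_centralizer, centralizer_sup_eq]
    exact le_inf h₁.quad (hZ ▸ h₂.quad)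

theorem centers_inf [Finite G] [hp : Fact p.Prime] (s : PairSetup p V L Q) {A₁ A₂ : Subgroup G}
    (h₁ : s.IsTr A₁) (h₂ : s.IsTr A₂) (hne : A₁ ≠ A₂) : ⁅V, A₁⁆ ⊓ ⁅V, A₂⁆ = ⊥ := by
  rcases eq_bot_or_eq_of_le_of_card_prime (inf_le_left : ⁅V, A₁⁆ ⊓ ⁅V, A₂⁆ ≤ ⁅V, A₁⁆) h₁.hZ
    with h | h
  · exact h
  · exfalso
    have h3 : ⁅V, A₁⁆ ≤ ⁅V, A₂⁆ := by rw [← h]; exact inf_le_right
    exact s.centers_ne h₁ h₂ hne (Subgroup.eq_of_le_of_card_ge h3 (by rw [h₁.hZ, h₂.hZ]))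

theorem card_commutator_sup [Finite G] [hp : Fact p.Prime] (s : PairSetup p V L Q)
    {A₁ A₂ : Subgroup G} (h₁ : s.IsTr A₁) (h₂ : s.IsTr A₂) (hne : A₁ ≠ A₂) :
    Nat.card ↥(⁅V, A₁ ⊔ A₂⁆) = p ^ 2 := by
  rw [commutator_sup_eq h₁.hAV h₂.hAV]
  have hn : ⁅V, A₁⁆ ≤ Subgroup.normalizer ((⁅V, A₂⁆ : Subgroup G) : Set G) := by
    apply Cfsg.Agent.Lib.Helper1.le_normalizer_of_conj_mem
    intro x hx b hb
    have : x * b = b * x := isElementaryAbelian_comm s.hV (h₁.commutator_le hx) (h₂.commutator_le hb)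
    rw [this, mul_assoc, mul_inv_cancel, mul_one]; exact hb
  have h := GlaubermanRepl.card_sup_mul_card_inf_of_le_normalizer _ _ hn
  rw [s.centers_inf h₁ h₂ hne, Subgroup.card_bot, mul_one, h₁.hZ, h₂.hZ] at h
  rw [h, sq]

/-- the pair acts faithfully on its commutator plane -/
theorem sup_inf_centralizer [Finite G] [hp : Fact p.Prime] (s : PairSetup p V L Q)
    {A₁ A₂ : Subgroup G} (h₁ : s.IsTr A₁) (h₂ : s.IsTr A₂) (hne : A₁ ≠ A₂) :
    (A₁ ⊔ A₂) ⊓ Subgroup.centralizer ((⁅V, A₁ ⊔ A₂⁆ : Subgroup G) : Set G) = ⊥ := by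
  obtain ⟨E, hE⟩ : ∃ E : Subgroup G, E = A₁ ⊔ A₂ := ⟨_, rfl⟩
  rw [← hE]
  have hEL : E ≤ L := hE ▸ sup_le h₁.hAL h₂.hAL
  have hEV : E ≤ Subgroup.normalizer (V : Set G) := hEL.trans s.hLV
  obtain ⟨K, hK⟩ : ∃ K : Subgroup G,
    K = E ⊓ Subgroup.centralizer ((⁅V, E⁆ : Subgroup G) : Set G) := ⟨_, rfl⟩
  rw [← hK]
  have hKE : K ≤ E := hK ▸ inf_le_left
  have hKp : IsPGroup p K := by
    apply isPGroup_of_quadratic s.hV (hKE.trans hEV)
    · rw [eq_bot_iff, ← s.hf]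
      exact inf_le_inf_right _ (hKE.trans hEL)
    · rw [eq_bot_iff]
      calc ⁅⁅V, K⁆, K⁆ ≤ ⁅⁅V, E⁆, K⁆ := Subgroup.commutator_mono (Subgroup.commutator_mono le_rfl hKE) le_rfl
        _ = ⊥ := by
          rw [Subgroup.commutator_comm, Subgroup.commutator_eq_bot_iff_le_centralizer, hK]
          exact inf_le_right
  have hEK : E ≤ Subgroup.normalizer (K : Set G) := by
    apply Cfsg.Agent.Lib.Helper1.le_normalizer_of_conj_mem
    intro e he k hk
    rw [hK] at hk ⊢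
    rw [Subgroup.mem_inf] at hk ⊢
    refine ⟨E.mul_mem (E.mul_mem he hk.1) (E.inv_mem he), ?_⟩
    have hN : E ≤ Subgroup.normalizer ((⁅V, E⁆ : Subgroup G) : Set G) :=
      le_normalizer_commutator hEV Subgroup.le_normalizer
    rw [Subgroup.mem_centralizer_iff]
    intro w hw
    have hw' : e⁻¹ * w * e ∈ ⁅V, E⁆ := by
      have := (Subgroup.mem_normalizer_iff.mp (hN (E.inv_mem he)) w).mp hw
      simpa using this
    have hc : Commute (e⁻¹ * w * e) k := (Subgroup.mem_centralizer_iff.mp hk.2) _ hw'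
    have e1 : w = e * (e⁻¹ * w * e) * e⁻¹ := by group
    rw [e1]
    calc e * (e⁻¹ * w * e) * e⁻¹ * (e * k * e⁻¹) = e * ((e⁻¹ * w * e) * k) * e⁻¹ := by group
      _ = e * (k * (e⁻¹ * w * e)) * e⁻¹ := by rw [hc.eq]
      _ = _ := by group
  by_contra hK1
  have key : ∀ A : Subgroup G, s.IsTr A → A ≤ E → A = K := by
    intro A hA hAE
    have hp1 : IsPGroup p ↥(K ⊔ A : Subgroup G) :=
      IsPGroup.to_sup_of_normal_left' hKp hA.isPGroup (hAE.trans hEK)
    have e1 := s.eq_of_isPGroup_le (sup_le (hKE.trans hEL) hA.hAL) hp1 le_sup_right hA.hcard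
    have hKA : K ≤ A := by rw [e1]; exact le_sup_left
    rcases eq_bot_or_eq_of_le_of_card_prime hKA hA.hcard with h | h
    · exact absurd h hK1
    · exact h.symm
  exact hne ((key A₁ h₁ (hE ▸ le_sup_left)).trans (key A₂ h₂ (hE ▸ le_sup_right)).symm)

end PairSetup

end Cfsg.Agent.Lib.Helper1.FF
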