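import Mathlib
import Cfsg.Prelude.Def_LocalEven
import Cfsg.Agent.Lib.Helper1.FreeStable2
set_option autoImplicit false
open scoped commutatorElement Pointwise IsMulCommutative
open Cfsg
universe u v w
namespace Cfsg.Agent.Lib.Helper1.FreeStable

open Cfsg.Agent.Lib.Helper1.QuadSL2 Cfsg.Agent.Lib.Helper1.StableQuad Cfsg.Agent.Lib.Helper1.NPC
  Cfsg.Agent.Lib.Helper1.NPStable Cfsg.Agent.Lib.Helper2.Inv

/-- a group with an injection into `C` and a surjection onto `B` makes `B` involved in `C` -/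
theorem involves_of_inj_surj {A : Type u} {B : Type v} {C : Type w} [Group A] [Group B] [Group C]
    (ι : A →* C) (hι : Function.Injective ι) (π : A →* B) (hπ : Function.Surjective π) :
    Cfsg.Involves B C := by
  have h1 : Cfsg.Involves B A :=
    involves_of_surjective ⊤ (π.comp (Subgroup.topEquiv : (⊤ : Subgroup A) ≃* A).toMonoidHom)
      (hπ.comp (Subgroup.topEquiv : (⊤ : Subgroup A) ≃* A).surjective)
  have h2 : Cfsg.Involves A C :=
    involves_congr (MonoidHom.ofInjective hι).symm (involves_subgroup ι.range)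
  exact involves_trans h1 h2

/-- lifting a normal `p`-subgroup through a surjection (Frattini argument) -/
theorem exists_lift_normal_pSubgroup {M : Type u} {S : Type v} [Group M] [Group S] [Finite M]
    (π : M →* S) (hπ : Function.Surjective π) {p : ℕ} [hp : Fact p.Prime] (Pb : Subgroup S)
    [hPbn : Pb.Normal] (hPb : IsPGroup p Pb) :
    ∃ T : Subgroup M, IsPGroup p T ∧ T.map π = Pb ∧
      (Subgroup.normalizer (T : Set M)).map π = ⊤ := by
  obtain ⟨P₁, hP₁⟩ : ∃ P₁ : Subgroup M, P₁ = Pb.comap π := ⟨_, rfl⟩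
  haveI hP₁n : P₁.Normal := by rw [hP₁]; exact hPbn.comap π
  obtain ⟨S₀⟩ : Nonempty (Sylow p ↥P₁) := inferInstance
  obtain ⟨T, hT⟩ : ∃ T : Subgroup M, T = (S₀ : Subgroup ↥P₁).map P₁.subtype := ⟨_, rfl⟩
  have hTp : IsPGroup p T := by rw [hT]; exact S₀.isPGroup'.map _
  have hTP₁ : T ≤ P₁ := by rw [hT]; exact Subgroup.map_subtype_le _
  have hfr : Subgroup.normalizer (T : Set M) ⊔ P₁ = ⊤ := by
    rw [hT]; exact Sylow.normalizer_sup_eq_top S₀
  -- restriction of `π` to `P₁ → Pb`
  let π₁ : ↥P₁ →* ↥Pb := (π.comp P₁.subtype).codRestrict Pb (by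
    intro x
    have h0 : ∀ z : M, z ∈ P₁ → π z ∈ Pb := by
      intro z hz; rw [hP₁] at hz; exact hz
    exact h0 _ x.2)
  have hπ₁ : Function.Surjective π₁ := by
    rintro ⟨y, hy⟩
    obtain ⟨x, rfl⟩ := hπ y
    exact ⟨⟨x, by rw [hP₁]; exact hy⟩, rfl⟩
  have htop : (S₀ : Subgroup ↥P₁).map π₁ = ⊤ := by
    rw [← Subgroup.index_eq_one]
    have h1 := Subgroup.index_map_dvd (S₀ : Subgroup ↥P₁) hπ₁
    haveI : Finite ↥Pb := Finite.of_surjective π₁ hπ₁
    obtain ⟨n, hn⟩ := hPb.index ((S₀ : Subgroup ↥P₁).map π₁)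
    have h2 := S₀.not_dvd_index
    rw [hn] at h1 ⊢
    rcases Nat.eq_zero_or_pos n with h0 | h0
    · rw [h0, pow_zero]
    · exfalso
      exact h2 ((dvd_pow_self p h0.ne').trans h1)
  have hTmap : T.map π = Pb := by
    apply le_antisymm
    · rintro _ ⟨x, hx, rfl⟩
      have : x ∈ Pb.comap π := hP₁ ▸ hTP₁ hx
      exact this
    · intro y hy
      have : (⟨y, hy⟩ : ↥Pb) ∈ (S₀ : Subgroup ↥P₁).map π₁ := by rw [htop]; trivial
      obtain ⟨s, hs, hsy⟩ := this
      refine ⟨(s : M), ?_, ?_⟩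
      · rw [hT]; exact ⟨s, hs, rfl⟩
      · have := congrArg Subtype.val hsy
        exact this
  refine ⟨T, hTp, hTmap, ?_⟩
  have h3 : (Subgroup.normalizer (T : Set M) ⊔ P₁).map π = ⊤ := by
    rw [hfr, ← MonoidHom.range_eq_map, MonoidHom.range_eq_top]; exact hπ
  rw [Subgroup.map_sup] at h3
  have h4 : P₁.map π ≤ (Subgroup.normalizer (T : Set M)).map π := by
    rw [hP₁, Subgroup.map_comap_eq_self_of_surjective hπ, ← hTmap]
    exact Subgroup.map_mono Subgroup.le_normalizer
  rwa [sup_eq_left.mpr h4] at h3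

variable {G : Type u} [Group G]

theorem isNormalizerPStable_of_local_free [Finite G] {p : ℕ} [hp : Fact p.Prime] (hp2 : p ≠ 2)
    (hloc : ∀ P : Subgroup G, IsPGroup p P → P ≠ ⊥ →
      SL2Free p ↥(Subgroup.normalizer (P : Set G))) : IsNormalizerPStable p G := by
  intro P hP g hg hquad
  by_cases hne : P = ⊥
  · have h1 : (QuotientGroup.mk (s := (Subgroup.centralizer (P : Set G)).subgroupOf
        (Subgroup.normalizer (P : Set G))) (⟨g, hg⟩ : ↥(Subgroup.normalizer (P : Set G)))) = 1 := by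
      rw [QuotientGroup.eq_one_iff, Subgroup.mem_subgroupOf, Subgroup.mem_centralizer_iff]
      intro y hy
      rw [hne] at hy
      have : y = 1 := hy
      rw [this, one_mul, mul_one]
    rw [h1]
    exact Subgroup.one_mem _
  have hPN : P ≤ Subgroup.normalizer (P : Set G) := Subgroup.le_normalizer
  haveI hP'n : (P.subgroupOf (Subgroup.normalizer (P : Set G))).Normal :=
    Subgroup.normal_in_normalizer
  have hP' : IsPGroup p (P.subgroupOf (Subgroup.normalizer (P : Set G))) := hP.comap_subtype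
  have hst := isPStableOn_of_free_of_isPGroup hp2
    (P.subgroupOf (Subgroup.normalizer (P : Set G))) hP'
    (hloc P hP hne)
  have hq : ⁅⁅P.subgroupOf (Subgroup.normalizer (P : Set G)),
      Subgroup.zpowers (⟨g, hg⟩ : ↥(Subgroup.normalizer (P : Set G)))⁆,
      Subgroup.zpowers (⟨g, hg⟩ : ↥(Subgroup.normalizer (P : Set G)))⁆ = ⊥ := by
    rw [quadE_iff]
    apply quadE_of_map (Subgroup.normalizer (P : Set G)).subtype (Subgroup.subtype_injective _)
    rw [Subgroup.subgroupOf_map_subtype, inf_eq_left.mpr hPN]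
    exact (quadE_iff P g).mp hquad
  have h1 := hst ⟨g, hg⟩ hq
  have hC : Subgroup.centralizer
      ((P.subgroupOf (Subgroup.normalizer (P : Set G)) :
        Subgroup ↥(Subgroup.normalizer (P : Set G))) : Set ↥(Subgroup.normalizer (P : Set G))) =
      (Subgroup.centralizer (P : Set G)).subgroupOf (Subgroup.normalizer (P : Set G)) := by
    ext x
    rw [Subgroup.mem_subgroupOf, Subgroup.mem_centralizer_iff, Subgroup.mem_centralizer_iff]
    constructor
    · intro h y hy
      have := h ⟨y, hPN hy⟩ (by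
        show (⟨y, hPN hy⟩ : ↥(Subgroup.normalizer (P : Set G))) ∈
          P.subgroupOf (Subgroup.normalizer (P : Set G))
        rw [Subgroup.mem_subgroupOf]; exact hy)
      exact congrArg Subtype.val this
    · intro h y hy
      have hy' : (y : G) ∈ P := by
        have : y ∈ P.subgroupOf (Subgroup.normalizer (P : Set G)) := hy
        rwa [Subgroup.mem_subgroupOf] at this
      exact Subtype.ext (h y hy')
  exact mem_pCore_quot_congr p _ _ hC _ h1



end Cfsg.Agent.Lib.Helper1.FreeStable
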