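import Mathlib
import Cfsg.Prelude.Def_PLocal
set_option autoImplicit false
open Matrix
namespace Cfsg.Agent.Lib.Helper1.QdA

/-- the affine subgroup of `SL₃(p)` as an explicit subgroup -/
def affSub (p : ℕ) [Fact p.Prime] : Subgroup (Matrix.SpecialLinearGroup (Fin 3) (ZMod p)) where
  carrier := {M | (M : Matrix (Fin 3) (Fin 3) (ZMod p)) 2 0 = 0 ∧
    (M : Matrix (Fin 3) (Fin 3) (ZMod p)) 2 1 = 0 ∧ (M : Matrix (Fin 3) (Fin 3) (ZMod p)) 2 2 = 1}
  one_mem' := by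
    refine ⟨?_, ?_, ?_⟩ <;> simp
  mul_mem' := by
    rintro M N ⟨h0, h1, h2⟩ ⟨k0, k1, k2⟩
    refine ⟨?_, ?_, ?_⟩
    · rw [Matrix.SpecialLinearGroup.coe_mul, Matrix.mul_apply, Fin.sum_univ_three, h0, h1, h2, k0]
      ring
    · rw [Matrix.SpecialLinearGroup.coe_mul, Matrix.mul_apply, Fin.sum_univ_three, h0, h1, h2, k1]
      ring
    · rw [Matrix.SpecialLinearGroup.coe_mul, Matrix.mul_apply, Fin.sum_univ_three, h0, h1, h2, k2]
      ring
  inv_mem' := by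
    rintro M ⟨h0, h1, h2⟩
    have hrow : (Pi.single 2 1 : Fin 3 → ZMod p) ᵥ* (M : Matrix (Fin 3) (Fin 3) (ZMod p)) =
        Pi.single 2 1 := by
      ext j
      rw [Matrix.single_vecMul, one_smul]
      change (M : Matrix (Fin 3) (Fin 3) (ZMod p)) 2 j = _
      fin_cases j
      · simpa using h0
      · simpa using h1
      · simpa using h2
    have hrow' : (Pi.single 2 1 : Fin 3 → ZMod p) ᵥ*
        ((M⁻¹ : Matrix.SpecialLinearGroup (Fin 3) (ZMod p)) : Matrix (Fin 3) (Fin 3) (ZMod p)) =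
        Pi.single 2 1 := by
      conv_lhs => rw [← hrow]
      rw [Matrix.vecMul_vecMul, ← Matrix.SpecialLinearGroup.coe_mul, mul_inv_cancel,
        Matrix.SpecialLinearGroup.coe_one, Matrix.vecMul_one]
    have key : ∀ j : Fin 3, ((M⁻¹ : Matrix.SpecialLinearGroup (Fin 3) (ZMod p)) :
        Matrix (Fin 3) (Fin 3) (ZMod p)) 2 j = (Pi.single 2 1 : Fin 3 → ZMod p) j := by
      intro j
      have := congrFun hrow' j
      rw [Matrix.single_vecMul, one_smul] at this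
      exact this
    refine ⟨?_, ?_, ?_⟩
    · have := key 0
      simpa using this
    · have := key 1
      simpa using this
    · have := key 2
      simpa using this

theorem mem_affSub_iff {p : ℕ} [Fact p.Prime] (M : Matrix.SpecialLinearGroup (Fin 3) (ZMod p)) :
    M ∈ affSub p ↔ (M : Matrix (Fin 3) (Fin 3) (ZMod p)) 2 0 = 0 ∧
    (M : Matrix (Fin 3) (Fin 3) (ZMod p)) 2 1 = 0 ∧ (M : Matrix (Fin 3) (Fin 3) (ZMod p)) 2 2 = 1 :=
  Iff.rfl

theorem qd_eq_affSub (p : ℕ) [Fact p.Prime] : Cfsg.qd p = affSub p := by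
  unfold Cfsg.qd
  exact Subgroup.closure_eq (affSub p)

theorem mem_qd_iff {p : ℕ} [Fact p.Prime] (M : Matrix.SpecialLinearGroup (Fin 3) (ZMod p)) :
    M ∈ Cfsg.qd p ↔ (M : Matrix (Fin 3) (Fin 3) (ZMod p)) 2 0 = 0 ∧
    (M : Matrix (Fin 3) (Fin 3) (ZMod p)) 2 1 = 0 ∧ (M : Matrix (Fin 3) (Fin 3) (ZMod p)) 2 2 = 1 := by
  rw [qd_eq_affSub]; exact Iff.rfl

end Cfsg.Agent.Lib.Helper1.QdA
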