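import Mathlib
import Cfsg.Agent.Lib.Helper1.QdA2
set_option autoImplicit false
open Matrix
namespace Cfsg.Agent.Lib.Helper1.QdA

variable {p : ℕ} [hp : Fact p.Prime]

/-- the plane, written multiplicatively -/
abbrev Pl (p : ℕ) := Multiplicative (Fin 2 → ZMod p)

/-- translations -/
def trans : Pl p →* ↥(Cfsg.qd p) where
  toFun v := qdMk 1 (Multiplicative.toAdd v)
  map_one' := qdMk_one
  map_mul' := by
    intro v u
    rw [qdMk_mul, mul_one, Matrix.SpecialLinearGroup.coe_one, Matrix.one_mulVec]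
    rfl

/-- linear part -/
def lin : Matrix.SpecialLinearGroup (Fin 2) (ZMod p) →* ↥(Cfsg.qd p) where
  toFun A := qdMk A 0
  map_one' := qdMk_one
  map_mul' := by
    intro A B
    rw [qdMk_mul, Matrix.mulVec_zero, add_zero]

/-- the natural action of `SL₂(p)` on the plane -/
def act : Matrix.SpecialLinearGroup (Fin 2) (ZMod p) →* MulAut (Pl p) where
  toFun A :=
    { toFun := fun v => Multiplicative.ofAdd
        ((A : Matrix (Fin 2) (Fin 2) (ZMod p)) *ᵥ Multiplicative.toAdd v)
      invFun := fun v => Multiplicative.ofAdd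
        (((A⁻¹ : Matrix.SpecialLinearGroup (Fin 2) (ZMod p)) : Matrix (Fin 2) (Fin 2) (ZMod p)) *ᵥ
          Multiplicative.toAdd v)
      left_inv := by
        intro v
        simp only [toAdd_ofAdd, Matrix.mulVec_mulVec, ← Matrix.SpecialLinearGroup.coe_mul,
          inv_mul_cancel, Matrix.SpecialLinearGroup.coe_one, Matrix.one_mulVec, ofAdd_toAdd]
      right_inv := by
        intro v
        simp only [toAdd_ofAdd, Matrix.mulVec_mulVec, ← Matrix.SpecialLinearGroup.coe_mul,
          mul_inv_cancel, Matrix.SpecialLinearGroup.coe_one, Matrix.one_mulVec, ofAdd_toAdd]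
      map_mul' := by
        intro v u
        simp only [toAdd_mul, Matrix.mulVec_add, ofAdd_add] }
  map_one' := by
    ext v
    simp
  map_mul' := by
    intro A B
    apply MulEquiv.ext
    intro v
    change Multiplicative.ofAdd (((A * B : Matrix.SpecialLinearGroup (Fin 2) (ZMod p)) :
      Matrix (Fin 2) (Fin 2) (ZMod p)) *ᵥ Multiplicative.toAdd v) =
      Multiplicative.ofAdd ((A : Matrix (Fin 2) (Fin 2) (ZMod p)) *ᵥ
        Multiplicative.toAdd (Multiplicative.ofAdd ((B : Matrix (Fin 2) (Fin 2) (ZMod p)) *ᵥ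
          Multiplicative.toAdd v)))
    rw [toAdd_ofAdd, Matrix.mulVec_mulVec, Matrix.SpecialLinearGroup.coe_mul]

theorem act_apply (A : Matrix.SpecialLinearGroup (Fin 2) (ZMod p)) (v : Pl p) :
    act A v = Multiplicative.ofAdd
      ((A : Matrix (Fin 2) (Fin 2) (ZMod p)) *ᵥ Multiplicative.toAdd v) := rfl

theorem lin_mul_trans (A : Matrix.SpecialLinearGroup (Fin 2) (ZMod p)) (v : Pl p) :
    lin A * trans v = trans (act A v) * lin A := by
  change qdMk A 0 * qdMk 1 (Multiplicative.toAdd v) =
    qdMk 1 (Multiplicative.toAdd (act A v)) * qdMk A 0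
  rw [qdMk_mul, qdMk_mul, mul_one, one_mul, zero_add, Matrix.mulVec_zero, add_zero, act_apply,
    toAdd_ofAdd]

theorem lin_trans_conj (A : Matrix.SpecialLinearGroup (Fin 2) (ZMod p)) (v : Pl p) :
    lin A * trans v * (lin A)⁻¹ = trans (act A v) := by
  rw [lin_mul_trans, mul_inv_cancel_right]

theorem exists_eq_trans_mul_lin (M : ↥(Cfsg.qd p)) :
    ∃ (v : Pl p) (A : Matrix.SpecialLinearGroup (Fin 2) (ZMod p)), M = trans v * lin A := by
  obtain ⟨A, v, rfl⟩ := exists_eq_qdMk M
  refine ⟨Multiplicative.ofAdd v, A, ?_⟩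
  change qdMk A v = qdMk 1 v * qdMk A 0
  rw [qdMk_mul, one_mul, Matrix.mulVec_zero, add_zero]

theorem trans_injective : Function.Injective (trans (p := p)) := by
  intro v u h
  exact (qdMk_injective h).2

theorem lin_injective : Function.Injective (lin (p := p)) := by
  intro A B h
  exact (qdMk_injective h).1

theorem act_neg_one (v : Pl p) : act (-1 : Matrix.SpecialLinearGroup (Fin 2) (ZMod p)) v = v⁻¹ := by
  rw [act_apply]
  simp [Matrix.neg_mulVec]

theorem pl_pow_p (v : Pl p) : v ^ p = 1 := by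
  apply Multiplicative.toAdd.injective
  rw [toAdd_pow, toAdd_one]
  ext i
  simp

end Cfsg.Agent.Lib.Helper1.QdA
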