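import Mathlib
import Cfsg.Agent.Lib.Helper1.QdA3
import Cfsg.Agent.Lib.Helper1.FreeStable3
set_option autoImplicit false
open Matrix
universe u v
namespace Cfsg.Agent.Lib.Helper1.QdA

open Cfsg.Agent.Lib.Helper1.FreeStable

variable {p : ℕ} [hp : Fact p.Prime]

/-- A plane `ι(Pl)` in `Y` together with a group `E` mapping injectively to `Y` and onto `SL₂(p)`,
acting on the plane through the natural action, gives a section `Qd(p)` of `Y`. -/
theorem involves_qd_of_equivariant {Y : Type u} [Group Y] {E : Type v} [Group E] [Finite E]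
    (hp2 : p ≠ 2) (ι : Pl p →* Y) (hι : Function.Injective ι)
    (τ : E →* Y) (hτ : Function.Injective τ)
    (θ : E →* Matrix.SpecialLinearGroup (Fin 2) (ZMod p)) (hθ : Function.Surjective θ)
    (heq : ∀ (e : E) (v : Pl p), τ e * ι v * (τ e)⁻¹ = ι (act (θ e) v)) :
    Cfsg.Involves ↥(Cfsg.qd p) Y := by
  -- a 2-element mapping to -1
  obtain ⟨z₀, hz₀⟩ := hθ (-1)
  obtain ⟨k, m, hm, hkm⟩ := Nat.exists_eq_two_pow_mul_odd (orderOf_pos z₀).ne'
  obtain ⟨z, hz⟩ : ∃ z : E, z = z₀ ^ m := ⟨_, rfl⟩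
  have hθz : θ z = -1 := by
    rw [hz, map_pow, hz₀, hm.neg_one_pow]
  have hzpow : z ^ (2 ^ k) = 1 := by
    rw [hz, ← pow_mul, mul_comm, ← hkm, pow_orderOf_eq_one]
  -- the preimage of the centre
  have hZn : (Subgroup.zpowers (-1 : Matrix.SpecialLinearGroup (Fin 2) (ZMod p))).Normal := by
    constructor
    intro n hn g
    obtain ⟨i, rfl⟩ := Subgroup.mem_zpowers_iff.mp hn
    have hc : g * (-1 : Matrix.SpecialLinearGroup (Fin 2) (ZMod p)) * g⁻¹ = -1 := by
      have : g * (-1 : Matrix.SpecialLinearGroup (Fin 2) (ZMod p)) = -1 * g := by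
        apply Subtype.ext
        simp
      rw [this, mul_inv_cancel_right]
    have : g * (-1 : Matrix.SpecialLinearGroup (Fin 2) (ZMod p)) ^ i * g⁻¹ =
        (g * (-1) * g⁻¹) ^ i := by
      rw [conj_zpow]
    rw [this, hc]
    exact Subgroup.zpow_mem_zpowers _ _
  obtain ⟨M₀, hM₀⟩ : ∃ M₀ : Subgroup E,
    M₀ = (Subgroup.zpowers (-1 : Matrix.SpecialLinearGroup (Fin 2) (ZMod p))).comap θ := ⟨_, rfl⟩
  haveI hM₀n : M₀.Normal := by rw [hM₀]; exact hZn.comap θ
  have hzM : z ∈ M₀ := by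
    rw [hM₀, Subgroup.mem_comap, hθz]; exact Subgroup.mem_zpowers _
  have h2grp : IsPGroup 2 (Subgroup.zpowers (⟨z, hzM⟩ : ↥M₀)) := by
    rintro ⟨y, hy⟩
    obtain ⟨i, rfl⟩ := Subgroup.mem_zpowers_iff.mp hy
    refine ⟨k, ?_⟩
    apply Subtype.ext
    apply Subtype.ext
    simp only [Subgroup.coe_pow, Subgroup.coe_zpow, Subgroup.coe_one]
    rw [← zpow_natCast, ← _root_.zpow_mul, mul_comm, _root_.zpow_mul, zpow_natCast, hzpow, _root_.one_zpow]
  obtain ⟨T, hT⟩ := h2grp.exists_le_sylow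
  obtain ⟨T', hT'⟩ : ∃ T' : Subgroup E, T' = (T : Subgroup ↥M₀).map M₀.subtype := ⟨_, rfl⟩
  have hzT : z ∈ T' := by
    rw [hT']
    exact ⟨⟨z, hzM⟩, hT (Subgroup.mem_zpowers _), rfl⟩
  have hT'2 : IsPGroup 2 T' := by rw [hT']; exact T.isPGroup'.map _
  have hfrat : Subgroup.normalizer (T' : Set E) ⊔ M₀ = ⊤ := by
    rw [hT']; exact Sylow.normalizer_sup_eq_top T
  obtain ⟨E₁, hE₁⟩ : ∃ E₁ : Subgroup E, E₁ = Subgroup.normalizer (T' : Set E) := ⟨_, rfl⟩
  rw [← hE₁] at hfrat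
  have hzE₁ : z ∈ E₁ := by rw [hE₁]; exact Subgroup.le_normalizer hzT
  -- θ restricted to E₁ is onto
  have hsurj : ∀ A : Matrix.SpecialLinearGroup (Fin 2) (ZMod p), ∃ e ∈ E₁, θ e = A := by
    intro A
    obtain ⟨e, rfl⟩ := hθ A
    have he : e ∈ ((E₁ ⊔ M₀ : Subgroup E) : Set E) := by rw [hfrat]; exact Subgroup.mem_top e
    rw [Subgroup.mul_normal] at he
    obtain ⟨n, hn, c, hc, rfl⟩ := Set.mem_mul.mp he
    have hc' : θ c ∈ Subgroup.zpowers (-1 : Matrix.SpecialLinearGroup (Fin 2) (ZMod p)) := by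
      rw [hM₀] at hc; exact hc
    obtain ⟨i, hi⟩ := Subgroup.mem_zpowers_iff.mp hc'
    refine ⟨n * z ^ i, E₁.mul_mem hn (E₁.zpow_mem hzE₁ i), ?_⟩
    rw [map_mul, map_mul, map_zpow, hθz, hi]
  -- E₁ meets the plane trivially
  have hmeet : ∀ e ∈ E₁, ∀ u : Pl p, τ e = ι u → u = 1 := by
    intro e he u heu
    have ht : e * z * e⁻¹ * z⁻¹ ∈ T' := by
      rw [hE₁] at he
      exact T'.mul_mem ((Subgroup.mem_normalizer_iff.mp he z).mp hzT) (T'.inv_mem hzT)
    have hτt : τ (e * z * e⁻¹ * z⁻¹) = ι (u * u) := by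
      have h1 := heq z u⁻¹
      rw [hθz, act_neg_one, inv_inv, map_inv] at h1
      calc τ (e * z * e⁻¹ * z⁻¹) = ι u * (τ z * (ι u)⁻¹ * (τ z)⁻¹) := by
            rw [map_mul, map_mul, map_mul, map_inv, map_inv, heu]; group
        _ = ι (u * u) := by rw [h1, map_mul]
    obtain ⟨r, hr⟩ := hT'2 ⟨_, ht⟩
    have hr' : (e * z * e⁻¹ * z⁻¹) ^ (2 ^ r) = 1 := by
      have := congrArg Subtype.val hr
      simpa using this
    have h3 : (u * u) ^ (2 ^ r) = 1 := by
      apply hι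
      rw [map_pow, ← hτt, ← map_pow, hr', map_one, map_one]
    have h4 : u ^ (2 ^ (r + 1)) = 1 := by
      rw [pow_succ, pow_mul', ← h3, pow_two]
    have h5 : orderOf u ∣ Nat.gcd (2 ^ (r + 1)) p :=
      Nat.dvd_gcd (orderOf_dvd_of_pow_eq_one h4) (orderOf_dvd_of_pow_eq_one (pl_pow_p u))
    have h6 : Nat.gcd (2 ^ (r + 1)) p = 1 := by
      apply Nat.Coprime.pow_left
      rw [Nat.coprime_comm]
      exact (Nat.coprime_primes hp.out Nat.prime_two).mpr hp2
    rw [h6, Nat.dvd_one, orderOf_eq_one_iff] at h5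
    exact h5
  -- the semidirect product
  let φ : ↥E₁ →* MulAut (Pl p) := act.comp (θ.comp E₁.subtype)
  let j : Pl p ⋊[φ] ↥E₁ →* Y := SemidirectProduct.lift ι (τ.comp E₁.subtype) (by
    intro e
    apply MonoidHom.ext
    intro v
    simp only [MonoidHom.comp_apply, MulEquiv.coe_toMonoidHom, MulAut.conj_apply, Subgroup.subtype_apply]
    exact (heq e v).symm)
  let π : Pl p ⋊[φ] ↥E₁ →* ↥(Cfsg.qd p) := SemidirectProduct.lift trans
    (lin.comp (θ.comp E₁.subtype)) (by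
    intro e
    apply MonoidHom.ext
    intro v
    simp only [MonoidHom.comp_apply, MulEquiv.coe_toMonoidHom, MulAut.conj_apply, Subgroup.subtype_apply]
    rw [lin_trans_conj]
    rfl)
  have hj : Function.Injective j := by
    rw [injective_iff_map_eq_one]
    intro a ha
    have h1 : ι a.left * τ (a.right : E) = 1 := ha
    have h2 : τ (a.right : E) = ι (a.left)⁻¹ := by
      rw [map_inv]
      exact eq_inv_of_mul_eq_one_right h1
    have h3 := hmeet _ a.right.2 _ h2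
    have h4 : a.left = 1 := inv_eq_one.mp h3
    have h5 : (a.right : E) = 1 := by
      apply hτ
      rw [h2, h3, map_one, map_one]
    apply SemidirectProduct.ext
    · exact h4
    · exact Subtype.ext h5
  have hπ : Function.Surjective π := by
    intro M
    obtain ⟨v, A, rfl⟩ := exists_eq_trans_mul_lin M
    obtain ⟨e, he, rfl⟩ := hsurj A
    exact ⟨⟨v, ⟨e, he⟩⟩, rfl⟩
  exact involves_of_inj_surj j hj π hπ

end Cfsg.Agent.Lib.Helper1.QdA
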