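import Mathlib
import Cfsg.Agent.Lib.Helper1.QdA4
import Cfsg.Agent.Lib.Helper1.Dickson15
set_option autoImplicit false
open Matrix
universe u v
namespace Cfsg.Agent.Lib.Helper1.QdA

open Cfsg.Agent.Lib.Helper1.FreeStable Cfsg.Agent.Lib.Helper1.SL2Three Cfsg.Agent.Lib.Helper1.Dickson

variable {p : ℕ} [hp : Fact p.Prime]

theorem act_injective : Function.Injective (act (p := p)) := by
  intro A B h
  apply Subtype.ext
  ext i j
  have h1 := congrArg (fun f : MulAut (Pl p) => Multiplicative.toAdd (f (Multiplicative.ofAdd (Pi.single j 1))) i) h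
  simpa [act_apply] using h1

/-- pairs `(d, A)` such that conjugation by `d` acts on the plane as `A` -/
def stabPair {Y : Type u} [Group Y] (ι : Pl p →* Y) :
    Subgroup (Y × Matrix.SpecialLinearGroup (Fin 2) (ZMod p)) where
  carrier := {x | ∀ v : Pl p, x.1 * ι v * x.1⁻¹ = ι (act x.2 v)}
  one_mem' := by
    intro v
    simp
  mul_mem' := by
    intro x y hx hy v
    have h1 := hy v
    have h2 := hx (act y.2 v)
    rw [Prod.fst_mul, Prod.snd_mul, map_mul, MulAut.mul_apply, ← h2, ← h1]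
    group
  inv_mem' := by
    intro x hx v
    have h1 := hx (act x.2⁻¹ v)
    rw [← MulAut.mul_apply, ← map_mul, mul_inv_cancel, map_one, MulAut.one_apply] at h1
    rw [Prod.fst_inv, Prod.snd_inv, ← h1]
    group

theorem involves_qd_of_plane_pair {Y : Type u} [Group Y] [Finite Y] (hp2 : p ≠ 2)
    (ι : Pl p →* Y) (hι : Function.Injective ι) (α β : Y) (m : ZMod p) (hm : m = 1 ∨ m = -1)
    (hα : ∀ v : Pl p, α * ι v * α⁻¹ = ι (act (xmat (ZMod p) 1) v))
    (hβ : ∀ v : Pl p, β * ι v * β⁻¹ = ι (act (ymat (ZMod p) m) v)) :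
    Cfsg.Involves ↥(Cfsg.qd p) Y := by
  obtain ⟨E, hE⟩ : ∃ E : Subgroup (Y × Matrix.SpecialLinearGroup (Fin 2) (ZMod p)),
    E = stabPair ι := ⟨_, rfl⟩
  have hmemE : ∀ x : ↥E, ∀ v : Pl p,
      (x : Y × Matrix.SpecialLinearGroup (Fin 2) (ZMod p)).1 * ι v *
        (x : Y × Matrix.SpecialLinearGroup (Fin 2) (ZMod p)).1⁻¹ =
      ι (act (x : Y × Matrix.SpecialLinearGroup (Fin 2) (ZMod p)).2 v) := by
    intro x v
    have hx : (x : Y × Matrix.SpecialLinearGroup (Fin 2) (ZMod p)) ∈ stabPair ι := by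
      rw [← hE]; exact x.2
    exact hx v
  let τ : ↥E →* Y := (MonoidHom.fst Y _).comp E.subtype
  let θ : ↥E →* Matrix.SpecialLinearGroup (Fin 2) (ZMod p) := (MonoidHom.snd Y _).comp E.subtype
  have hτ : Function.Injective τ := by
    intro x y hxy
    have h1 : (x : Y × Matrix.SpecialLinearGroup (Fin 2) (ZMod p)).1 =
      (y : Y × Matrix.SpecialLinearGroup (Fin 2) (ZMod p)).1 := hxy
    have h2 : (x : Y × Matrix.SpecialLinearGroup (Fin 2) (ZMod p)).2 =
        (y : Y × Matrix.SpecialLinearGroup (Fin 2) (ZMod p)).2 := by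
      apply act_injective
      apply MulEquiv.ext
      intro v
      apply hι
      rw [← hmemE x v, ← hmemE y v, h1]
    exact Subtype.ext (Prod.ext h1 h2)
  have hθ : Function.Surjective θ := by
    have hαE : (α, xmat (ZMod p) 1) ∈ E := by rw [hE]; exact hα
    have hβE : (β, ymat (ZMod p) m) ∈ E := by rw [hE]; exact hβ
    have hrange : θ.range = ⊤ := by
      rw [eq_top_iff, ← closure_xmat_ymat_eq_top p m hm, Subgroup.closure_le]
      rintro z (rfl | rfl)
      · exact ⟨⟨_, hαE⟩, rfl⟩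
      · exact ⟨⟨_, hβE⟩, rfl⟩
    exact MonoidHom.range_eq_top.mp hrange
  exact involves_qd_of_equivariant hp2 ι hι τ hτ θ hθ hmemE

end Cfsg.Agent.Lib.Helper1.QdA
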