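import Mathlib
import Cfsg.Agent.Lib.Helper1.QdA5
set_option autoImplicit false
open Matrix
universe u v
namespace Cfsg.Agent.Lib.Helper1.QdA

open Cfsg.Agent.Lib.Helper1.FreeStable Cfsg.Agent.Lib.Helper1.SL2Three Cfsg.Agent.Lib.Helper1.Dickson

variable {p : ℕ} [hp : Fact p.Prime]

/-- power with exponent in `ZMod p` -/
def zp {Y : Type u} [Group Y] (w : Y) (a : ZMod p) : Y := w ^ a.val

theorem pow_eq_zp {Y : Type u} [Group Y] {w : Y} (hw : w ^ p = 1) (n : ℕ) :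
    w ^ n = zp w (n : ZMod p) := by
  unfold zp
  rw [ZMod.val_natCast, pow_eq_pow_mod n hw]

theorem zp_add {Y : Type u} [Group Y] {w : Y} (hw : w ^ p = 1) (a b : ZMod p) :
    zp w (a + b) = zp w a * zp w b := by
  have h1 : zp w a * zp w b = w ^ (a.val + b.val) := by unfold zp; rw [pow_add]
  rw [h1, pow_eq_zp hw]
  congr 1
  push_cast
  rw [ZMod.natCast_zmod_val, ZMod.natCast_zmod_val]

theorem zp_zero {Y : Type u} [Group Y] (w : Y) : zp w (0 : ZMod p) = 1 := by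
  unfold zp; rw [ZMod.val_zero, pow_zero]

theorem zp_pow {Y : Type u} [Group Y] {w : Y} (hw : w ^ p = 1) (a : ZMod p) (n : ℕ) :
    (zp w a) ^ n = zp w ((n : ZMod p) * a) := by
  have h1 : (zp w a) ^ n = w ^ (a.val * n) := by unfold zp; rw [pow_mul]
  rw [h1, pow_eq_zp hw]
  congr 1
  push_cast
  rw [ZMod.natCast_zmod_val, mul_comm]

theorem zp_one {Y : Type u} [Group Y] {w : Y} (hw : w ^ p = 1) : zp w (1 : ZMod p) = w := by
  have := pow_eq_zp hw 1
  rw [pow_one, Nat.cast_one] at this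
  exact this.symm

theorem zp_comm {Y : Type u} [Group Y] {w w' : Y} (h : w * w' = w' * w) (a b : ZMod p) :
    zp w a * zp w' b = zp w' b * zp w a := by
  unfold zp
  exact ((Commute.pow_pow (show Commute w w' from h) _ _)).eq

theorem conj_zp {Y : Type u} [Group Y] (g w : Y) (a : ZMod p) :
    g * zp w a * g⁻¹ = zp (g * w * g⁻¹) a := by
  unfold zp
  rw [conj_pow]

/-- the plane spanned by two commuting elements of order `p` -/
def planeHom {Y : Type u} [Group Y] (u₀ u₁ : Y) (hcomm : u₀ * u₁ = u₁ * u₀) (h₀ : u₀ ^ p = 1)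
    (h₁ : u₁ ^ p = 1) : Pl p →* Y where
  toFun v := zp u₀ (Multiplicative.toAdd v 0) * zp u₁ (Multiplicative.toAdd v 1)
  map_one' := by
    simp [zp_zero]
  map_mul' := by
    intro v v'
    simp only [toAdd_mul, Pi.add_apply]
    rw [zp_add h₀, zp_add h₁]
    have := zp_comm (p := p) hcomm (Multiplicative.toAdd v' 0) (Multiplicative.toAdd v 1)
    calc zp u₀ (Multiplicative.toAdd v 0) * zp u₀ (Multiplicative.toAdd v' 0) *
          (zp u₁ (Multiplicative.toAdd v 1) * zp u₁ (Multiplicative.toAdd v' 1))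
        = zp u₀ (Multiplicative.toAdd v 0) * (zp u₀ (Multiplicative.toAdd v' 0) *
          zp u₁ (Multiplicative.toAdd v 1)) * zp u₁ (Multiplicative.toAdd v' 1) := by group
      _ = zp u₀ (Multiplicative.toAdd v 0) * (zp u₁ (Multiplicative.toAdd v 1) *
          zp u₀ (Multiplicative.toAdd v' 0)) * zp u₁ (Multiplicative.toAdd v' 1) := by rw [this]
      _ = _ := by group

theorem planeHom_apply {Y : Type u} [Group Y] (u₀ u₁ : Y) (hcomm : u₀ * u₁ = u₁ * u₀)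
    (h₀ : u₀ ^ p = 1) (h₁ : u₁ ^ p = 1) (v : Pl p) :
    planeHom u₀ u₁ hcomm h₀ h₁ v =
      zp u₀ (Multiplicative.toAdd v 0) * zp u₁ (Multiplicative.toAdd v 1) := rfl

theorem involves_qd_of_generators {Y : Type u} [Group Y] [Finite Y] (hp2 : p ≠ 2)
    (u₀ u₁ α β : Y) (m : ZMod p) (hm : m = 1 ∨ m = -1)
    (hcomm : u₀ * u₁ = u₁ * u₀) (h₀ : u₀ ^ p = 1) (h₁ : u₁ ^ p = 1)
    (hind : ∀ a b : ZMod p, zp u₀ a * zp u₁ b = 1 → a = 0 ∧ b = 0)
    (hα₀ : α * u₀ * α⁻¹ = u₀) (hα₁ : α * u₁ * α⁻¹ = u₀ * u₁)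
    (hβ₀ : β * u₀ * β⁻¹ = u₀ * zp u₁ m) (hβ₁ : β * u₁ * β⁻¹ = u₁) :
    Cfsg.Involves ↥(Cfsg.qd p) Y := by
  have hι : Function.Injective (planeHom u₀ u₁ hcomm h₀ h₁) := by
    rw [injective_iff_map_eq_one]
    intro v hv
    rw [planeHom_apply] at hv
    obtain ⟨ha, hb⟩ := hind _ _ hv
    apply Multiplicative.toAdd.injective
    ext i
    fin_cases i
    · exact ha
    · exact hb
  apply involves_qd_of_plane_pair hp2 _ hι α β m hm
  · intro v
    rw [planeHom_apply, planeHom_apply, act_apply, toAdd_ofAdd]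
    have e0 : (((xmat (ZMod p) 1 : Matrix.SpecialLinearGroup (Fin 2) (ZMod p)) :
        Matrix (Fin 2) (Fin 2) (ZMod p)) *ᵥ Multiplicative.toAdd v) 0 =
        Multiplicative.toAdd v 0 + Multiplicative.toAdd v 1 := by
      simp [xmat, Matrix.mulVec, dotProduct, Fin.sum_univ_two]
    have e1 : (((xmat (ZMod p) 1 : Matrix.SpecialLinearGroup (Fin 2) (ZMod p)) :
        Matrix (Fin 2) (Fin 2) (ZMod p)) *ᵥ Multiplicative.toAdd v) 1 =
        Multiplicative.toAdd v 1 := by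
      simp [xmat, Matrix.mulVec, dotProduct, Fin.sum_univ_two]
    rw [e0, e1]
    obtain ⟨a, ha⟩ : ∃ a, a = Multiplicative.toAdd v 0 := ⟨_, rfl⟩
    obtain ⟨b, hb⟩ : ∃ b, b = Multiplicative.toAdd v 1 := ⟨_, rfl⟩
    rw [← ha, ← hb]
    have h2 : α * (zp u₀ a * zp u₁ b) * α⁻¹ = (α * zp u₀ a * α⁻¹) * (α * zp u₁ b * α⁻¹) := by group
    rw [h2, conj_zp, conj_zp, hα₀, hα₁]
    have h3 : zp (u₀ * u₁) b = zp u₀ b * zp u₁ b := by
      unfold zp
      exact (show Commute u₀ u₁ from hcomm).mul_pow _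
    rw [h3, zp_add h₀, mul_assoc]
  · intro v
    rw [planeHom_apply, planeHom_apply, act_apply, toAdd_ofAdd]
    have e0 : (((ymat (ZMod p) m : Matrix.SpecialLinearGroup (Fin 2) (ZMod p)) :
        Matrix (Fin 2) (Fin 2) (ZMod p)) *ᵥ Multiplicative.toAdd v) 0 =
        Multiplicative.toAdd v 0 := by
      simp [ymat, Matrix.mulVec, dotProduct, Fin.sum_univ_two]
    have e1 : (((ymat (ZMod p) m : Matrix.SpecialLinearGroup (Fin 2) (ZMod p)) :
        Matrix (Fin 2) (Fin 2) (ZMod p)) *ᵥ Multiplicative.toAdd v) 1 =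
        m * Multiplicative.toAdd v 0 + Multiplicative.toAdd v 1 := by
      simp [ymat, Matrix.mulVec, dotProduct, Fin.sum_univ_two]
    rw [e0, e1]
    obtain ⟨a, ha⟩ : ∃ a, a = Multiplicative.toAdd v 0 := ⟨_, rfl⟩
    obtain ⟨b, hb⟩ : ∃ b, b = Multiplicative.toAdd v 1 := ⟨_, rfl⟩
    rw [← ha, ← hb]
    have h2 : β * (zp u₀ a * zp u₁ b) * β⁻¹ = (β * zp u₀ a * β⁻¹) * (β * zp u₁ b * β⁻¹) := by group
    rw [h2, conj_zp, conj_zp, hβ₀, hβ₁]
    have hc : Commute u₀ (zp u₁ m) := by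
      unfold zp
      exact (show Commute u₀ u₁ from hcomm).pow_right _
    have h3 : zp (u₀ * zp u₁ m) a = zp u₀ a * zp u₁ (m * a) := by
      have : zp (u₀ * zp u₁ m) a = zp u₀ a * (zp u₁ m) ^ a.val := by
        unfold zp
        exact hc.mul_pow _
      rw [this, zp_pow h₁, ZMod.natCast_zmod_val, mul_comm a m]
    rw [h3, zp_add h₁, mul_assoc]

end Cfsg.Agent.Lib.Helper1.QdA
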