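import Mathlib
import Cfsg.Agent.Lib.Helper1.NPStable1
import Cfsg.Agent.S2005

set_option autoImplicit false
universe u v
open Cfsg
open scoped commutatorElement

namespace Cfsg.Agent.Lib.Helper1.NPStable

open Cfsg.Agent.Lib.Helper1.StableQuad Cfsg.Agent.Lib.Helper1.NPC Cfsg.Agent.Lib.Helper1.QuadSL2

variable {G : Type u} [Group G]

/-- control of strong fusion by `N(U)` with `C(O_p) ≤ O_p ≤ T ≤ N(U)` forces `U` normal -/
theorem normal_of_controlsStrongFusion [Finite G] {p : ℕ} [hp : Fact p.Prime] (U : Subgroup G)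
    (hcent : Subgroup.centralizer ((pCore p G : Subgroup G) : Set G) ≤ pCore p G)
    (hOU : pCore p G ≤ Subgroup.normalizer (U : Set G))
    (hctl : ControlsStrongFusion p U) : U.Normal := by
  obtain ⟨T', hUT', hA⟩ := hctl
  have hOT' : ((pCore p G : Subgroup G) : Set G) ⊆ (T' : Subgroup G) := pCore_le_sylow p T'
  obtain ⟨-, hfus⟩ := hA _ hOT'
  haveI hOn : (pCore p G).Normal := pCore_normal p
  have hall : ∀ g : G, g ∈ Subgroup.normalizer (U : Set G) := by
    intro g
    have himg : (fun a => g * a * g⁻¹) '' ((pCore p G : Subgroup G) : Set G) ⊆ (T' : Subgroup G) := by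
      rintro _ ⟨a, ha, rfl⟩
      exact hOT' (hOn.conj_mem a ha g)
    obtain ⟨x, hx, hxa⟩ := hfus g himg
    have hc : x⁻¹ * g ∈ Subgroup.centralizer ((pCore p G : Subgroup G) : Set G) := by
      rw [Subgroup.mem_centralizer_iff]
      intro a ha
      have := hxa a ha
      calc a * (x⁻¹ * g) = x⁻¹ * (x * a * x⁻¹) * g := by group
        _ = x⁻¹ * (g * a * g⁻¹) * g := by rw [this]
        _ = x⁻¹ * g * a := by group
    have h1 : x⁻¹ * g ∈ Subgroup.normalizer (U : Set G) := hOU (hcent hc)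
    have : g = x * (x⁻¹ * g) := by group
    rw [this]
    exact Subgroup.mul_mem _ hx h1
  have : Subgroup.normalizer (U : Set G) = ⊤ := by
    rw [eq_top_iff]; intro g _; exact hall g
  exact Subgroup.normalizer_eq_top_iff.mp this

theorem sylow_le_normalizer_inducedFunctor [Finite G] {p : ℕ} [hp : Fact p.Prime]
    {W : ∀ (Q : Type u) [Group Q], Subgroup Q} (hW : IsCharPFunctor.{u} p W) (T : Sylow p G) :
    (T : Subgroup G) ≤ Subgroup.normalizer ((inducedFunctor (G := G) W (T : Subgroup G) : Subgroup G) : Set G) := by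
  intro g hg
  have h := (Cfsg.Agent.Lib.Helper7.isConjugacyFunctor_inducedFunctor (X := G) hW (T : Subgroup G) T.2).2.2 g
  have hT : (T : Subgroup G).map (MulAut.conj g).toMonoidHom = T := by
    apply le_antisymm
    · rintro _ ⟨t, ht, rfl⟩
      simp only [MulEquiv.toMonoidHom_eq_coe, MonoidHom.coe_coe, MulAut.conj_apply]
      exact Subgroup.mul_mem _ (Subgroup.mul_mem _ hg ht) (Subgroup.inv_mem _ hg)
    · intro t ht
      refine ⟨g⁻¹ * t * g, Subgroup.mul_mem _ (Subgroup.mul_mem _ (Subgroup.inv_mem _ hg) ht) hg, ?_⟩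
      simp only [MulEquiv.toMonoidHom_eq_coe, MonoidHom.coe_coe, MulAut.conj_apply]
      group
  rw [hT] at h
  rw [Subgroup.mem_normalizer_iff]
  intro x
  constructor
  · intro hx
    rw [h]
    exact ⟨x, hx, by simp⟩
  · intro hx
    rw [h] at hx
    obtain ⟨y, hy, hyx⟩ := hx
    simp only [MulEquiv.toMonoidHom_eq_coe, MonoidHom.coe_coe, MulAut.conj_apply] at hyx
    have : x = y := by
      calc x = g⁻¹ * (g * x * g⁻¹) * g := by group
        _ = g⁻¹ * (g * y * g⁻¹) * g := by rw [hyx]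
        _ = y := by group
    rw [this]; exact hy

theorem s1990 [Finite G] {p : ℕ} [Fact p.Prime] (hp : p ≠ 2)
    (W : ∀ (Q : Type u) [Group Q], Subgroup Q) (hW : Cfsg.IsCharPFunctor.{u} p W) (S : Sylow p G)
    (hN : Cfsg.HasNormalPComplement p ↥(Subgroup.normalizer ((Cfsg.inducedFunctor (G := G) W (S : Subgroup G) : Subgroup G) : Set G)))
    (hctl : ∀ (K R : Subgroup G) [hR : (R.subgroupOf K).Normal],
      (∀ (K' R' : Subgroup (↥K ⧸ R.subgroupOf K)) [hR' : (R'.subgroupOf K').Normal],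
        Cfsg.IsNormalizerPStable p (↥K' ⧸ R'.subgroupOf K')) →
      ∀ T : Sylow p (↥K ⧸ R.subgroupOf K),
        Cfsg.ControlsStrongFusion p (Cfsg.inducedFunctor (G := (↥K ⧸ R.subgroupOf K)) W (T : Subgroup (↥K ⧸ R.subgroupOf K)))) :
    Cfsg.HasNormalPComplement p G := by
  refine Cfsg.Agent.S2005.result W hW S hN ?_
  intro K R hR hcent hnil T hT
  have hab := comm_sylow_two_of_max_sylow hp hnil T hT
  have hst : ∀ (K' R' : Subgroup (↥K ⧸ R.subgroupOf K)) [hR' : (R'.subgroupOf K').Normal],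
      Cfsg.IsNormalizerPStable p (↥K' ⧸ R'.subgroupOf K') := by
    intro K' R' hR'
    exact isNormalizerPStable_section hp hab K' R'
  have h1 := hctl K R hst T
  refine normal_of_controlsStrongFusion _ hcent ?_ h1
  exact (pCore_le_sylow p T).trans (sylow_le_normalizer_inducedFunctor hW T)

end Cfsg.Agent.Lib.Helper1.NPStable
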