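import Mathlib
import Cfsg.Agent.Lib.Helper1.QdA6
import Cfsg.Agent.Lib.Helper1.SL2Q8c
set_option autoImplicit false
open Matrix
open scoped commutatorElement
universe u
namespace Cfsg.Agent.Lib.Helper1.QdB

open Cfsg.Agent.Lib.Helper1.QdA
open Cfsg.Agent.Lib.Helper1.SL2Three

section field
variable {F : Type u} [Field F] {p : ℕ} [hp : Fact p.Prime] [CharP F p]

theorem trace_eq_two_of_pow_eq_one (g : Matrix.SpecialLinearGroup (Fin 2) F) (k : ℕ)
    (hg : g ^ (p ^ k) = 1) :
    (g : Matrix (Fin 2) (Fin 2) F) 0 0 + (g : Matrix (Fin 2) (Fin 2) F) 1 1 = 2 := by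
  have h1 : ((g : Matrix (Fin 2) (Fin 2) F) - 1) ^ (p ^ k) = 0 := by
    rw [sub_pow_char_pow_of_commute p k (Commute.one_right _), one_pow,
      ← Matrix.SpecialLinearGroup.coe_pow, hg, Matrix.SpecialLinearGroup.coe_one, sub_self]
  have h2 : IsNilpotent ((g : Matrix (Fin 2) (Fin 2) F) - 1) := ⟨p ^ k, h1⟩
  have h3 := Matrix.isNilpotent_trace_of_isNilpotent h2
  have h4 : Matrix.trace ((g : Matrix (Fin 2) (Fin 2) F) - 1) = 0 := h3.eq_zero
  rw [Matrix.trace_fin_two] at h4
  simp only [Matrix.sub_apply, Matrix.one_apply_eq] at h4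
  linear_combination h4

theorem normal_pgroup_SL2_eq_bot (N : Subgroup (Matrix.SpecialLinearGroup (Fin 2) F)) [hN : N.Normal]
    (hNp : IsPGroup p N) : N = ⊥ := by
  rw [eq_bot_iff]
  intro g hg
  rw [Subgroup.mem_bot]
  have htr : ∀ h ∈ N, (h : Matrix (Fin 2) (Fin 2) F) 0 0 + (h : Matrix (Fin 2) (Fin 2) F) 1 1 = 2 := by
    intro h hh
    obtain ⟨k, hk⟩ := hNp ⟨h, hh⟩
    have : h ^ (p ^ k) = 1 := by simpa using congrArg Subtype.val hk
    exact trace_eq_two_of_pow_eq_one h k this
  have hconj : ∀ x : Matrix.SpecialLinearGroup (Fin 2) F, g * x * g⁻¹ * x⁻¹ ∈ N := by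
    intro x
    have h1 : x * g⁻¹ * x⁻¹ ∈ N := hN.conj_mem _ (N.inv_mem hg) _
    have h2 := N.mul_mem hg h1
    have : g * x * g⁻¹ * x⁻¹ = g * (x * g⁻¹ * x⁻¹) := by group
    rw [this]; exact h2
  have h1 := htr _ (hconj (xmat F 1))
  have h2 := htr _ (hconj (ymat F 1))
  have h0 := htr _ hg
  have hdet := det_entries g
  simp only [Matrix.SpecialLinearGroup.coe_mul, Matrix.SpecialLinearGroup.coe_inv,
    Matrix.adjugate_fin_two, coe_xmat, coe_ymat, Matrix.mul_apply, Fin.sum_univ_two,
    Matrix.of_apply, Matrix.cons_val', Matrix.cons_val_zero, Matrix.cons_val_one,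
    Matrix.cons_val_fin_one] at h1 h2
  have hg' : g = ⟨!![(g : Matrix (Fin 2) (Fin 2) F) 0 0, (g : Matrix (Fin 2) (Fin 2) F) 0 1;
      (g : Matrix (Fin 2) (Fin 2) F) 1 0, (g : Matrix (Fin 2) (Fin 2) F) 1 1], by
        rw [Matrix.det_fin_two_of]; exact hdet⟩ := by
    apply Subtype.ext
    exact Matrix.eta_fin_two _
  generalize (g : Matrix (Fin 2) (Fin 2) F) 0 0 = a at *
  generalize (g : Matrix (Fin 2) (Fin 2) F) 0 1 = b at *
  generalize (g : Matrix (Fin 2) (Fin 2) F) 1 0 = c at *
  generalize (g : Matrix (Fin 2) (Fin 2) F) 1 1 = d at *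
  have hc : c ^ 2 = 0 := by linear_combination h1 - 2 * hdet
  have hb : b ^ 2 = 0 := by linear_combination h2 - 2 * hdet
  have hc0 : c = 0 := pow_eq_zero_iff (two_ne_zero) |>.mp hc
  have hb0 : b = 0 := pow_eq_zero_iff (two_ne_zero) |>.mp hb
  subst hc0 hb0
  have ha : (a - 1) ^ 2 = 0 := by linear_combination a * h0 - hdet
  have ha1 : a = 1 := by
    have := pow_eq_zero_iff (two_ne_zero) |>.mp ha
    linear_combination this
  have hd1 : d = 1 := by linear_combination h0 - ha1
  subst ha1 hd1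
  rw [hg']
  apply Subtype.ext
  simp [Matrix.one_fin_two]

end field

section qd
variable {p : ℕ} [hp : Fact p.Prime]

theorem linPart_aux (M : ↥(Cfsg.qd p)) (A : Matrix.SpecialLinearGroup (Fin 2) (ZMod p))
    (v : Fin 2 → ZMod p) (h : M = qdMk A v) : Classical.choose (exists_eq_qdMk M) = A := by
  obtain ⟨u, hu⟩ := Classical.choose_spec (exists_eq_qdMk M)
  have h1 : qdMk A v = qdMk (Classical.choose (exists_eq_qdMk M)) u := h.symm.trans hu
  exact (qdMk_injective h1).1.symm

/-- the linear part of an element of `Qd(p)` -/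
noncomputable def linPart : ↥(Cfsg.qd p) →* Matrix.SpecialLinearGroup (Fin 2) (ZMod p) where
  toFun M := Classical.choose (exists_eq_qdMk M)
  map_one' := linPart_aux 1 1 0 qdMk_one.symm
  map_mul' := by
    intro M N
    obtain ⟨A, v, rfl⟩ := exists_eq_qdMk M
    obtain ⟨B, u, rfl⟩ := exists_eq_qdMk N
    rw [linPart_aux _ A v rfl, linPart_aux _ B u rfl]
    exact linPart_aux _ (A * B) _ (qdMk_mul A B v u)

theorem linPart_qdMk (A : Matrix.SpecialLinearGroup (Fin 2) (ZMod p)) (v : Fin 2 → ZMod p) :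
    linPart (qdMk A v) = A := linPart_aux _ A v rfl

theorem linPart_trans (v : Pl p) : linPart (trans v) = 1 := linPart_qdMk 1 _

theorem linPart_lin (A : Matrix.SpecialLinearGroup (Fin 2) (ZMod p)) : linPart (lin A) = A :=
  linPart_qdMk A 0

theorem linPart_surjective : Function.Surjective (linPart (p := p)) :=
  fun A => ⟨lin A, linPart_lin A⟩

theorem linPart_eq_one_iff (M : ↥(Cfsg.qd p)) : linPart M = 1 ↔ M ∈ (trans (p := p)).range := by
  constructor
  · intro h
    obtain ⟨A, v, rfl⟩ := exists_eq_qdMk M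
    rw [linPart_qdMk] at h
    subst h
    exact ⟨Multiplicative.ofAdd v, rfl⟩
  · rintro ⟨v, rfl⟩
    exact linPart_trans v

theorem ker_linPart : (linPart (p := p)).ker = (trans (p := p)).range := by
  ext M
  rw [MonoidHom.mem_ker, linPart_eq_one_iff]

instance trans_range_normal : ((trans (p := p)).range).Normal := by
  rw [← ker_linPart]; infer_instance

theorem isPGroup_trans_range : IsPGroup p (trans (p := p)).range := by
  rintro ⟨_, v, rfl⟩
  refine ⟨1, ?_⟩
  apply Subtype.ext
  rw [pow_one, Subgroup.coe_pow, Subgroup.coe_one, ← map_pow, pl_pow_p, map_one]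

theorem normal_pgroup_le_trans_range (N : Subgroup ↥(Cfsg.qd p)) [hN : N.Normal]
    (hNp : IsPGroup p N) : N ≤ (trans (p := p)).range := by
  have : (N.map (linPart (p := p))).Normal := hN.map _ linPart_surjective
  have h1 : N.map (linPart (p := p)) = ⊥ :=
    normal_pgroup_SL2_eq_bot (p := p) _ (hNp.map _)
  intro g hg
  rw [← linPart_eq_one_iff]
  have : linPart g ∈ N.map (linPart (p := p)) := ⟨g, hg, rfl⟩
  rw [h1, Subgroup.mem_bot] at this
  exact this

theorem centralizer_trans_range_le :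
    Subgroup.centralizer ((trans (p := p)).range : Set ↥(Cfsg.qd p)) ≤ (trans (p := p)).range := by
  intro g hg
  obtain ⟨v, A, rfl⟩ := exists_eq_trans_mul_lin g
  have hA : A = 1 := by
    apply act_injective
    apply MulEquiv.ext
    intro w
    have h1 := hg (trans w) ⟨w, rfl⟩
    -- trans w * (trans v * lin A) = trans v * lin A * trans w
    rw [mul_assoc (trans v), lin_mul_trans, ← mul_assoc, ← mul_assoc, ← map_mul, ← map_mul] at h1
    have h2 := trans_injective (mul_right_cancel h1)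
    rw [map_one, MulAut.one_apply]
    have h3 : w * v = act A w * v := by rw [h2, mul_comm]
    exact (mul_right_cancel h3).symm
  subst hA
  rw [map_one, mul_one]
  exact ⟨v, rfl⟩

theorem commutatorElement_trans_lin (w : Pl p) (B : Matrix.SpecialLinearGroup (Fin 2) (ZMod p)) :
    ⁅trans w, lin B⁆ = trans (w * act B w⁻¹) := by
  rw [commutatorElement_def, map_mul, ← lin_trans_conj, map_inv]
  group

theorem commute_trans_lin_of_fixed (u : Pl p) (B : Matrix.SpecialLinearGroup (Fin 2) (ZMod p))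
    (h : act B u = u) : Commute (trans u) (lin B) := by
  change trans u * lin B = lin B * trans u
  rw [lin_mul_trans, h]

/-- `s ↦ xmat s` as a homomorphism -/
def xhom : Multiplicative (ZMod p) →* Matrix.SpecialLinearGroup (Fin 2) (ZMod p) where
  toFun s := xmat (ZMod p) (Multiplicative.toAdd s)
  map_one' := xmat_zero _
  map_mul' := fun _ _ => xmat_add _ _ _

theorem xmat_one_zpow (i : ℤ) : ∃ s : ZMod p, (xmat (ZMod p) 1) ^ i = xmat (ZMod p) s := by
  refine ⟨Multiplicative.toAdd ((Multiplicative.ofAdd (1 : ZMod p)) ^ i), ?_⟩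
  change _ = xhom ((Multiplicative.ofAdd (1 : ZMod p)) ^ i)
  rw [map_zpow]
  rfl

theorem quad_core (w : Pl p) (i : ℤ) :
    Commute ⁅trans w, (lin (xmat (ZMod p) 1)) ^ i⁆ (lin (xmat (ZMod p) 1)) := by
  obtain ⟨s, hs⟩ := xmat_one_zpow (p := p) i
  rw [← map_zpow, hs, commutatorElement_trans_lin]
  apply commute_trans_lin_of_fixed
  rw [act_apply, act_apply]
  apply congrArg
  ext j
  fin_cases j <;>
    simp [Matrix.mulVec, dotProduct, Fin.sum_univ_two]

end qd

end Cfsg.Agent.Lib.Helper1.QdB
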