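import Mathlib
import Cfsg.Agent.Lib.Helper1.QdB1
import Cfsg.Agent.Lib.Helper1.PCore
import Cfsg.Agent.Lib.Helper8.ZJOn2
set_option autoImplicit false
open Matrix
open scoped commutatorElement
universe u
namespace Cfsg.Agent.Lib.Helper1.QdB

open Cfsg.Agent.Lib.Helper1.QdA
open Cfsg.Agent.Lib.Helper1.SL2Three

variable {p : ℕ} [hp : Fact p.Prime]

theorem xmat_one_ne_one : xmat (ZMod p) 1 ≠ 1 := by
  intro h
  have h1 := congrArg (fun M : Matrix.SpecialLinearGroup (Fin 2) (ZMod p) =>
    (M : Matrix (Fin 2) (Fin 2) (ZMod p)) 0 1) h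
  simp at h1

theorem lin_xmat_not_mem_trans_range : lin (xmat (ZMod p) 1) ∉ (trans (p := p)).range := by
  intro h
  rw [← linPart_eq_one_iff, linPart_lin] at h
  exact xmat_one_ne_one h

/-- a group isomorphic to `Qd(p)` is not `p`-stable in the normalizer form -/
theorem not_isNormalizerPStable_of_equiv {X : Type u} [Group X] (e : X ≃* ↥(Cfsg.qd p)) :
    ¬ Cfsg.IsNormalizerPStable p X := by
  intro hst
  have : Finite X := Finite.of_equiv _ e.symm.toEquiv
  obtain ⟨V, hVdef⟩ : ∃ V : Subgroup X, V = ((trans (p := p)).range).comap e.toMonoidHom := ⟨_, rfl⟩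
  have hVn : V.Normal := by rw [hVdef]; infer_instance
  have hV : IsPGroup p V := by
    rw [hVdef]
    exact isPGroup_trans_range.comap_of_injective e.toMonoidHom e.injective
  have hmemV : ∀ x : X, x ∈ V ↔ e x ∈ (trans (p := p)).range := by
    intro x; rw [hVdef]; rfl
  have hps := Helper8.ZJOn.isPStableOn_of_isNormalizerPStable hst V hV
  obtain ⟨a, hadef⟩ : ∃ a : X, a = e.symm (lin (xmat (ZMod p) 1)) := ⟨_, rfl⟩
  have hea : e a = lin (xmat (ZMod p) 1) := by rw [hadef]; simp
  have hquad : ⁅⁅V, Subgroup.zpowers a⁆, Subgroup.zpowers a⁆ = ⊥ := by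
    rw [Subgroup.commutator_eq_bot_iff_le_centralizer, Subgroup.commutator_le]
    rintro v hv _ ⟨i, rfl⟩
    rw [Subgroup.mem_centralizer_iff]
    rintro _ ⟨j, rfl⟩
    obtain ⟨w, hw⟩ := (hmemV v).mp hv
    have h1 : Commute ⁅v, a ^ i⁆ a := by
      have h2 := quad_core (p := p) w i
      rw [hw, ← hea, ← map_zpow, ← map_commutatorElement] at h2
      have h3 : e (⁅v, a ^ i⁆ * a) = e (a * ⁅v, a ^ i⁆) := by
        rw [map_mul, map_mul]; exact h2
      exact e.injective h3
    exact ((h1.zpow_right j).eq).symm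
  have hmem := hps a hquad
  obtain ⟨C, hCdef⟩ : ∃ C : Subgroup X, C = Subgroup.centralizer (V : Set X) := ⟨_, rfl⟩
  have hCV : C ≤ V := by
    intro c hc
    rw [hmemV]
    apply centralizer_trans_range_le
    rw [Subgroup.mem_centralizer_iff]
    rintro _ ⟨w, rfl⟩
    rw [hCdef, Subgroup.mem_centralizer_iff] at hc
    have h1 := hc (e.symm (trans w)) (by rw [SetLike.mem_coe, hmemV]; simp)
    have h2 := congrArg e h1
    simpa using h2
  have hC : IsPGroup p C := hV.to_le hCV
  obtain ⟨O, hOdef⟩ : ∃ O : Subgroup X, O = (Cfsg.pCore p (X ⧸ Subgroup.centralizer (V : Set X))).comap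
      (QuotientGroup.mk' (Subgroup.centralizer (V : Set X))) := ⟨_, rfl⟩
  have hOn : O.Normal := by
    rw [hOdef]
    exact (Cfsg.Agent.Lib.Helper1.pCore_normal p).comap _
  have hOp : IsPGroup p O := by
    rw [hOdef]
    apply IsPGroup.comap_of_ker_isPGroup (Cfsg.Agent.Lib.Helper1.pCore_isPGroup p)
    rw [QuotientGroup.ker_mk', ← hCdef]
    exact hC
  have haO : a ∈ O := by rw [hOdef]; exact hmem
  have : (O.map e.toMonoidHom).Normal := hOn.map _ e.surjective
  have h1 : O.map e.toMonoidHom ≤ (trans (p := p)).range :=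
    normal_pgroup_le_trans_range _ (hOp.map _)
  have h2 : lin (xmat (ZMod p) 1) ∈ (trans (p := p)).range := h1 ⟨a, haO, hea⟩
  exact lin_xmat_not_mem_trans_range h2

end Cfsg.Agent.Lib.Helper1.QdB
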