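import Mathlib
import Cfsg.Agent.Lib.Helper1.QdB2
import Cfsg.Agent.Lib.Helper4.SLCard
set_option autoImplicit false
open Matrix
open scoped commutatorElement
universe u
namespace Cfsg.Agent.Lib.Helper1.QdB

open Cfsg.Agent.Lib.Helper1.QdA
open Cfsg.Agent.Lib.Helper1.SL2Three

variable {p : ℕ} [hp : Fact p.Prime]

theorem card_Pl : Nat.card (Pl p) = p ^ 2 := by
  rw [Nat.card_congr (Multiplicative.toAdd : Pl p ≃ (Fin 2 → ZMod p)), Nat.card_fun,
    Nat.card_eq_fintype_card, Nat.card_eq_fintype_card, ZMod.card, Fintype.card_fin]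

theorem card_trans_range : Nat.card (trans (p := p)).range = p ^ 2 := by
  rw [← Nat.card_congr (MonoidHom.ofInjective (trans_injective (p := p))).toEquiv, card_Pl]

theorem card_qd : Nat.card ↥(Cfsg.qd p) = p ^ 3 * (p ^ 2 - 1) := by
  rw [Subgroup.card_eq_card_quotient_mul_card_subgroup (linPart (p := p)).ker,
    Nat.card_congr (QuotientGroup.quotientKerEquivOfSurjective _ (linPart_surjective (p := p))).toEquiv,
    ker_linPart, card_trans_range, Cfsg.Agent.Lib.Helper4.card_SL2, ZMod.card]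
  ring

/-- the vectors whose translation lies in `U` -/
def vecSub (U : Subgroup ↥(Cfsg.qd p)) : AddSubgroup (Fin 2 → ZMod p) where
  carrier := {v | QdA.trans (Multiplicative.ofAdd v) ∈ U}
  zero_mem' := by
    change QdA.trans (Multiplicative.ofAdd 0) ∈ U
    rw [ofAdd_zero, map_one]; exact U.one_mem
  add_mem' := by
    intro v w hv hw
    change QdA.trans (Multiplicative.ofAdd (v + w)) ∈ U
    rw [ofAdd_add, map_mul]; exact U.mul_mem hv hw
  neg_mem' := by
    intro v hv
    change QdA.trans (Multiplicative.ofAdd (-v)) ∈ U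
    rw [ofAdd_neg, map_inv]; exact U.inv_mem hv

theorem mem_vecSub (U : Subgroup ↥(Cfsg.qd p)) (v : Fin 2 → ZMod p) :
    v ∈ vecSub U ↔ QdA.trans (Multiplicative.ofAdd v) ∈ U := Iff.rfl

theorem mulVec_mem_vecSub (U : Subgroup ↥(Cfsg.qd p)) [hU : U.Normal]
    (A : Matrix.SpecialLinearGroup (Fin 2) (ZMod p)) {v : Fin 2 → ZMod p} (hv : v ∈ vecSub U) :
    (A : Matrix (Fin 2) (Fin 2) (ZMod p)) *ᵥ v ∈ vecSub U := by
  rw [mem_vecSub] at hv ⊢
  have h1 := hU.conj_mem _ hv (lin A)
  rw [lin_trans_conj, act_apply, toAdd_ofAdd] at h1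
  exact h1

theorem vecSub_eq_top_of_e1 (U : Subgroup ↥(Cfsg.qd p)) [hU : U.Normal] (c : ZMod p) (hc : c ≠ 0)
    (h : ![c, 0] ∈ vecSub U) : vecSub U = ⊤ := by
  have h1 : ![(1 : ZMod p), 0] ∈ vecSub U := by
    have := ZMod.smul_mem h c⁻¹
    have h2 : c⁻¹ • ![c, 0] = ![(1 : ZMod p), 0] := by
      ext i; fin_cases i <;> simp [hc]
    rwa [h2] at this
  have h2 : ![(0 : ZMod p), 1] ∈ vecSub U := by
    have := mulVec_mem_vecSub U (wmat (ZMod p)) h1
    have h3 : (wmat (ZMod p) : Matrix (Fin 2) (Fin 2) (ZMod p)) *ᵥ ![(1 : ZMod p), 0] = ![0, 1] := by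
      ext i; fin_cases i <;> simp [Matrix.mulVec, dotProduct, Fin.sum_univ_two]
    rwa [h3] at this
  rw [eq_top_iff]
  intro v _
  have h3 : v = v 0 • ![(1 : ZMod p), 0] + v 1 • ![(0 : ZMod p), 1] := by
    ext i; fin_cases i <;> simp
  rw [h3]
  exact (vecSub U).add_mem (ZMod.smul_mem h1 _) (ZMod.smul_mem h2 _)

theorem vecSub_eq_top_of_snd (U : Subgroup ↥(Cfsg.qd p)) [hU : U.Normal] (w : Fin 2 → ZMod p)
    (hw : w ∈ vecSub U) (h1 : w 1 ≠ 0) : vecSub U = ⊤ := by
  apply vecSub_eq_top_of_e1 U (w 1) h1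
  have h2 := (vecSub U).sub_mem (mulVec_mem_vecSub U (xmat (ZMod p) 1) hw) hw
  have h3 : (xmat (ZMod p) 1 : Matrix (Fin 2) (Fin 2) (ZMod p)) *ᵥ w - w = ![w 1, 0] := by
    ext i; fin_cases i <;> simp [Matrix.mulVec, dotProduct, Fin.sum_univ_two]
  rwa [h3] at h2

theorem vecSub_eq_top (U : Subgroup ↥(Cfsg.qd p)) [hU : U.Normal] (w : Fin 2 → ZMod p)
    (hw : w ∈ vecSub U) (h0 : w ≠ 0) : vecSub U = ⊤ := by
  by_cases h1 : w 1 = 0
  · have h2 : w 0 ≠ 0 := by
      intro h2
      apply h0
      ext i; fin_cases i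
      · exact h2
      · exact h1
    have h3 := mulVec_mem_vecSub U (wmat (ZMod p)) hw
    apply vecSub_eq_top_of_snd U _ h3
    simp [Matrix.mulVec, dotProduct, Fin.sum_univ_two, h2]
  · exact vecSub_eq_top_of_snd U w hw h1

/-- irreducibility of the plane -/
theorem eq_trans_range_of_normal (U : Subgroup ↥(Cfsg.qd p)) [hU : U.Normal]
    (hUV : U ≤ (trans (p := p)).range) (hne : U ≠ ⊥) : U = (trans (p := p)).range := by
  apply le_antisymm hUV
  obtain ⟨g, hg, hg1⟩ : ∃ g ∈ U, g ≠ 1 := by
    by_contra hcon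
    push Not at hcon
    apply hne
    rw [eq_bot_iff]
    intro g hg
    rw [Subgroup.mem_bot]
    exact hcon g hg
  obtain ⟨w, rfl⟩ := hUV hg
  have hw : Multiplicative.toAdd w ∈ vecSub U := by
    rw [mem_vecSub, ofAdd_toAdd]; exact hg
  have hw0 : Multiplicative.toAdd w ≠ 0 := by
    intro h
    apply hg1
    have : w = 1 := by
      apply Multiplicative.toAdd.injective
      rw [h, toAdd_one]
    rw [this, map_one]
  have htop := vecSub_eq_top U _ hw hw0
  rintro _ ⟨v, rfl⟩
  have : Multiplicative.toAdd v ∈ vecSub U := by rw [htop]; trivial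
  rw [mem_vecSub, ofAdd_toAdd] at this
  exact this

/-- the line spanned by the first basis vector -/
def lineHom : Multiplicative (ZMod p) →* Pl p where
  toFun t := Multiplicative.ofAdd ![Multiplicative.toAdd t, 0]
  map_one' := by
    apply Multiplicative.toAdd.injective
    ext i; fin_cases i <;> simp
  map_mul' := by
    intro s t
    apply Multiplicative.toAdd.injective
    ext i; fin_cases i <;> simp

theorem act_xhom_lineHom (s t : Multiplicative (ZMod p)) :
    act (xhom s) (lineHom t) = lineHom t := by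
  rw [act_apply]
  apply congrArg
  ext i
  fin_cases i <;> simp [xhom, lineHom, Matrix.mulVec, dotProduct, Fin.sum_univ_two]

/-- an abelian subgroup of order `p²` not contained in the plane -/
def abHom : Multiplicative (ZMod p) × Multiplicative (ZMod p) →* ↥(Cfsg.qd p) :=
  MonoidHom.noncommCoprod (lin.comp xhom) (trans.comp lineHom)
    (fun s t => (commute_trans_lin_of_fixed _ _ (act_xhom_lineHom s t)).symm)

theorem abHom_apply (s t : Multiplicative (ZMod p)) :
    abHom (s, t) = lin (xhom s) * trans (lineHom t) := rfl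

theorem xhom_injective : Function.Injective (xhom (p := p)) := by
  intro s t h
  have h1 := congrArg (fun M : Matrix.SpecialLinearGroup (Fin 2) (ZMod p) =>
    (M : Matrix (Fin 2) (Fin 2) (ZMod p)) 0 1) h
  simp only [xhom, MonoidHom.coe_mk, OneHom.coe_mk, coe_xmat, Matrix.of_apply, Matrix.cons_val',
    Matrix.cons_val_zero, Matrix.cons_val_one, Matrix.cons_val_fin_one] at h1
  exact Multiplicative.toAdd.injective h1

theorem lineHom_injective : Function.Injective (lineHom (p := p)) := by
  intro s t h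
  have h1 := congrFun (congrArg Multiplicative.toAdd h) 0
  simp only [lineHom, MonoidHom.coe_mk, OneHom.coe_mk, toAdd_ofAdd, Matrix.cons_val_zero] at h1
  exact Multiplicative.toAdd.injective h1

theorem abHom_injective : Function.Injective (abHom (p := p)) := by
  rw [injective_iff_map_eq_one]
  rintro ⟨s, t⟩ h
  rw [abHom_apply] at h
  have h1 := congrArg linPart h
  rw [map_mul, linPart_lin, linPart_trans, mul_one, map_one] at h1
  have hs : s = 1 := xhom_injective (by rw [h1, map_one])
  subst hs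
  rw [map_one, map_one, one_mul] at h
  have ht : t = 1 := lineHom_injective (trans_injective (by rw [h, map_one, map_one]))
  subst ht
  rfl

theorem card_abHom_range : Nat.card (abHom (p := p)).range = p ^ 2 := by
  rw [← Nat.card_congr (MonoidHom.ofInjective (abHom_injective (p := p))).toEquiv, Nat.card_prod,
    Nat.card_congr (Multiplicative.toAdd : Multiplicative (ZMod p) ≃ ZMod p),
    Nat.card_eq_fintype_card, ZMod.card]
  ring

theorem lin_xmat_mem_abHom_range : lin (xmat (ZMod p) 1) ∈ (abHom (p := p)).range := by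
  refine ⟨(Multiplicative.ofAdd (1 : ZMod p), (1 : Multiplicative (ZMod p))), ?_⟩
  rw [abHom_apply, map_one lineHom, map_one QdA.trans, mul_one]
  rfl

theorem abHom_range_comm : ∀ x ∈ (abHom (p := p)).range, ∀ y ∈ (abHom (p := p)).range,
    x * y = y * x := by
  rintro _ ⟨x, rfl⟩ _ ⟨y, rfl⟩
  rw [← map_mul, ← map_mul, mul_comm]

end Cfsg.Agent.Lib.Helper1.QdB
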