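import Mathlib
import Cfsg.Agent.Lib.Helper1.QdB4
import Cfsg.Agent.Lib.Helper1.NPStable2
import Cfsg.Agent.Lib.Helper1.FusionZJ3
import Cfsg.Agent.Lib.Helper1.NPC5
import Cfsg.Agent.Lib.Helper7.KInfFunctor
set_option autoImplicit false
open Matrix
open scoped commutatorElement
open Cfsg
universe u
namespace Cfsg.Agent.Lib.Helper1.QdB

open Cfsg.Agent.Lib.Helper1.QdA
open Cfsg.Agent.Lib.Helper1.SL2Three
open Cfsg.Agent.Lib.Helper1.ZJ

/-- the structure of a group isomorphic to `Qd(p)` that is needed for the fusion arguments -/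
structure IsQdData (p : ℕ) {X : Type u} [Group X] (V B : Subgroup X) : Prop where
  hVn : V.Normal
  hVp : IsPGroup p V
  hBc : ∀ x ∈ B, ∀ y ∈ B, x * y = y * x
  hcardB : Nat.card B = p ^ 2
  hcardV : Nat.card V = p ^ 2
  hBV : ¬ B ≤ V
  hcent : Subgroup.centralizer (V : Set X) ≤ V
  hmaxp : ∀ N : Subgroup X, N.Normal → IsPGroup p N → N ≤ V
  hirr : ∀ U : Subgroup X, U.Normal → U ≤ V → U ≠ ⊥ → U = V
  hcardX : Nat.card X = p ^ 3 * (p ^ 2 - 1)

variable {p : ℕ} [hp : Fact p.Prime]

theorem exists_isQdData {X : Type u} [Group X] (e : X ≃* ↥(Cfsg.qd p)) :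
    ∃ V B : Subgroup X, IsQdData p V B := by
  obtain ⟨V, hVdef⟩ : ∃ V : Subgroup X, V = ((trans (p := p)).range).comap e.toMonoidHom := ⟨_, rfl⟩
  obtain ⟨B, hBdef⟩ : ∃ B : Subgroup X, B = ((abHom (p := p)).range).comap e.toMonoidHom := ⟨_, rfl⟩
  have hmemV : ∀ x : X, x ∈ V ↔ e x ∈ (trans (p := p)).range := by
    intro x; rw [hVdef]; rfl
  have hmemB : ∀ x : X, x ∈ B ↔ e x ∈ (abHom (p := p)).range := by
    intro x; rw [hBdef]; rfl
  refine ⟨V, B, ⟨?_, ?_, ?_, ?_, ?_, ?_, ?_, ?_, ?_, ?_⟩⟩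
  · rw [hVdef]; infer_instance
  · rw [hVdef]
    exact isPGroup_trans_range.comap_of_injective e.toMonoidHom e.injective
  · intro x hx y hy
    apply e.injective
    rw [map_mul, map_mul]
    exact abHom_range_comm _ ((hmemB x).mp hx) _ ((hmemB y).mp hy)
  · rw [hBdef, Subgroup.comap_equiv_eq_map_symm', Subgroup.card_map_of_injective e.symm.injective,
      card_abHom_range]
  · rw [hVdef, Subgroup.comap_equiv_eq_map_symm', Subgroup.card_map_of_injective e.symm.injective,
      card_trans_range]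
  · intro hBV
    have h1 : e.symm (lin (xmat (ZMod p) 1)) ∈ B := by
      rw [hmemB]; simpa using lin_xmat_mem_abHom_range (p := p)
    have h2 := (hmemV _).mp (hBV h1)
    rw [MulEquiv.apply_symm_apply] at h2
    exact lin_xmat_not_mem_trans_range h2
  · intro c hc
    rw [hmemV]
    apply centralizer_trans_range_le
    rw [Subgroup.mem_centralizer_iff]
    rintro _ ⟨w, rfl⟩
    rw [Subgroup.mem_centralizer_iff] at hc
    have h1 := hc (e.symm (trans w)) (by rw [SetLike.mem_coe, hmemV]; simp)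
    have h2 := congrArg e h1
    simpa using h2
  · intro N hNn hNp x hx
    rw [hmemV]
    have : (N.map e.toMonoidHom).Normal := hNn.map _ e.surjective
    exact normal_pgroup_le_trans_range _ (hNp.map _) (Subgroup.mem_map_of_mem e.toMonoidHom hx)
  · intro U hUn hUV hne
    have : (U.map e.toMonoidHom).Normal := hUn.map _ e.surjective
    have h1 : U.map e.toMonoidHom ≤ (trans (p := p)).range := by
      rintro _ ⟨x, hx, rfl⟩
      exact (hmemV x).mp (hUV hx)
    have h2 : U.map e.toMonoidHom ≠ ⊥ := by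
      intro h
      exact hne ((Subgroup.map_eq_bot_iff_of_injective U e.injective).mp h)
    have h3 := eq_trans_range_of_normal _ h1 h2
    rw [hVdef, ← h3]
    exact (Subgroup.comap_map_eq_self_of_injective e.injective U).symm
  · rw [Nat.card_congr e.toEquiv, card_qd]

section generic
variable {X : Type u} [Group X] [Finite X] {V B : Subgroup X}

theorem IsQdData.pCore_eq (h : IsQdData p V B) : pCore p X = V := by
  apply le_antisymm
  · exact h.hmaxp _ (pCore_normal p) (pCore_isPGroup p)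
  · exact le_pCore h.hVn h.hVp

omit [Finite X] hp in
theorem IsQdData.isPGroup_B (h : IsQdData p V B) : IsPGroup p B :=
  IsPGroup.of_card h.hcardB

theorem IsQdData.normal_le (h : IsQdData p V B) (T : Sylow p X) (U : Subgroup X)
    (hUT : U ≤ T) (hTU : (T : Subgroup X) ≤ Subgroup.normalizer (U : Set X))
    (hctl : ControlsStrongFusion p U) : U.Normal ∧ U ≤ V := by
  have hU : U.Normal := by
    apply Cfsg.Agent.Lib.Helper1.NPStable.normal_of_controlsStrongFusion (p := p) U
    · rw [IsQdData.pCore_eq (p := p) h]; exact h.hcent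
    · exact (pCore_le_sylow p T).trans hTU
    · exact hctl
  exact ⟨hU, h.hmaxp U hU (T.2.to_le hUT)⟩

theorem IsQdData.not_controls_ZJ (h : IsQdData p V B) :
    ¬ ∀ T : Sylow p X, ControlsStrongFusion p (centerThompsonAOf (T : Subgroup X)) := by
  intro hall
  obtain ⟨T, hBT⟩ := h.isPGroup_B.exists_le_sylow
  obtain ⟨U, hUdef⟩ : ∃ U : Subgroup X, U = centerThompsonAOf (T : Subgroup X) := ⟨_, rfl⟩
  have hUeq : U = sInf (FPr (PrA (G := X)) (T : Subgroup X)) := by
    rw [hUdef, centerThompsonAOf_eq]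
  have hUT : U ≤ T := by
    rw [hUdef]; unfold centerThompsonAOf thompsonSubgroupAOf
    exact inf_le_left.trans (Subgroup.map_subtype_le _)
  have hTU : (T : Subgroup X) ≤ Subgroup.normalizer (U : Set X) := by
    have := Cfsg.Agent.Lib.Helper1.NPStable.sylow_le_normalizer_inducedFunctor
      (Cfsg.Agent.Lib.Helper1.NPC.isCharPFunctor_ZJA.{u} p) T
    unfold inducedFunctor at this
    rw [Cfsg.Agent.Lib.Helper1.NPC.map_subtype_ZJA] at this
    rw [hUdef]; exact this
  obtain ⟨hUn, hUV⟩ := h.normal_le T U hUT hTU (by rw [hUdef]; exact hall T)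
  -- `U ≠ ⊥`
  have hVT : V ≤ T := by
    rw [← IsQdData.pCore_eq (p := p) h]; exact pCore_le_sylow p T
  have hUne : U ≠ ⊥ := by
    intro hbot
    have hTne : Nontrivial (T : Subgroup X) := by
      rw [← Finite.one_lt_card_iff_nontrivial]
      have h1 : Nat.card V ≤ Nat.card (T : Subgroup X) := Subgroup.card_le_of_le hVT
      rw [h.hcardV] at h1
      have h2 : 1 < p ^ 2 := Nat.one_lt_pow (by norm_num) hp.out.one_lt
      omega
    have hc := T.2.center_nontrivial
    obtain ⟨z, hz1⟩ := exists_ne (1 : Subgroup.center (T : Subgroup X))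
    have hz : ((z : (T : Subgroup X)) : X) ∈ U := by
      rw [hUdef]
      apply Cfsg.Agent.Lib.Helper1.FusionZJ.center_le_centerThompsonAOf
      refine Subgroup.mem_inf.mpr ⟨(z : (T : Subgroup X)).2, ?_⟩
      rw [Subgroup.mem_centralizer_iff]
      intro t ht
      have := Subgroup.mem_center_iff.mp z.2 ⟨t, ht⟩
      exact congrArg Subtype.val this
    rw [hbot, Subgroup.mem_bot] at hz
    apply hz1
    apply Subtype.ext
    apply Subtype.ext
    exact hz
  have hUVeq : U = V := h.hirr U hUn hUV hUne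
  -- a member of the family
  have hbot : PrA (⊥ : Subgroup X) := by
    intro x hx y hy
    rw [Subgroup.mem_bot] at hx hy
    rw [hx, hy]
  obtain ⟨A, hA⟩ := FPr_nonempty hbot (T : Subgroup X)
  have hVA : V ≤ A := by
    rw [← hUVeq, hUeq]; exact sInf_le hA
  have hAV : A ≤ V := by
    intro a ha
    apply h.hcent
    rw [Subgroup.mem_centralizer_iff]
    intro v hv
    exact hA.2.1 v (hVA hv) a ha
  have hAeq : A = V := le_antisymm hAV hVA
  have hBmem : B ∈ FPr (PrA (G := X)) (T : Subgroup X) := by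
    refine ⟨hBT, h.hBc, ?_⟩
    intro B' hB'T hB'
    rw [h.hcardB, ← h.hcardV, ← hAeq]
    exact hA.2.2 B' hB'T hB'
  have hVB : V ≤ B := by
    rw [← hUVeq, hUeq]; exact sInf_le hBmem
  have hVBeq : V = B := by
    apply Subgroup.eq_of_le_of_card_ge hVB
    rw [h.hcardB, h.hcardV]
  exact h.hBV (le_of_eq hVBeq.symm)

omit hp in
theorem commutator_le_center_of_card_cube [hp' : Fact p.Prime] {P : Type u} [Group P]
    (hcard : Nat.card P = p ^ 3) : commutator P ≤ Subgroup.center P := by
  have : Finite P := Nat.finite_of_card_ne_zero (by rw [hcard]; exact pow_ne_zero _ hp'.out.ne_zero)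
  have hP : IsPGroup p P := IsPGroup.of_card hcard
  have : Nontrivial P := by
    rw [← Finite.one_lt_card_iff_nontrivial, hcard]
    exact Nat.one_lt_pow (by norm_num) hp'.out.one_lt
  have hc := hP.center_nontrivial
  rw [← Subgroup.Normal.quotient_commutative_iff_commutator_le]
  have hmul := Subgroup.card_eq_card_quotient_mul_card_subgroup (Subgroup.center P)
  rw [hcard] at hmul
  have hdvd : Nat.card (Subgroup.center P) ∣ p ^ 3 := ⟨_, by rw [hmul, mul_comm]⟩
  obtain ⟨k, hk3, hk⟩ := (Nat.dvd_prime_pow hp'.out).mp hdvd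
  have hk0 : k ≠ 0 := by
    intro hk0
    rw [hk0, pow_zero] at hk
    have := Finite.one_lt_card_iff_nontrivial.mpr hc
    omega
  have hq : Nat.card (P ⧸ Subgroup.center P) = p ^ (3 - k) := by
    rw [hk] at hmul
    have h3 : p ^ 3 = p ^ (3 - k) * p ^ k := by rw [← pow_add]; congr 1; omega
    rw [h3] at hmul
    exact (Nat.eq_of_mul_eq_mul_right (pow_pos hp'.out.pos k) hmul).symm
  have hcases : 3 - k = 0 ∨ 3 - k = 1 ∨ 3 - k = 2 := by omega
  rcases hcases with h0 | h1 | h2
  · rw [h0, pow_zero] at hq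
    have : Subsingleton (P ⧸ Subgroup.center P) := (Nat.card_eq_one_iff_unique.mp hq).1
    exact ⟨⟨fun a b => Subsingleton.elim _ _⟩⟩
  · rw [h1, pow_one] at hq
    have := isCyclic_of_prime_card hq
    exact ⟨⟨fun a b => IsCyclic.commGroup.mul_comm a b⟩⟩
  · rw [h2] at hq
    exact IsPGroup.isMulCommutative_of_card_eq_prime_sq hq

theorem kInfLower_eq_top_of_class_two {P : Type u} [Group P]
    (hc : commutator P ≤ Subgroup.center P) : kInfLower P = ⊤ := by
  rw [eq_top_iff]
  have h1 : (⊤ : Subgroup P) ∈ kLowerStarFamily (⊤ : Subgroup P) := by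
    have hcl : (⊤ : Subgroup P) ∈ classTwoSubgroups P := by
      change ⁅(⊤ : Subgroup P), ⊤⁆ ≤ Subgroup.centralizer ((⊤ : Subgroup P) : Set P)
      rw [Subgroup.coe_top, Subgroup.centralizer_univ]
      exact hc
    refine ⟨hcl, ?_, ?_⟩
    · intro x _
      rw [Subgroup.mem_normalizer_iff]
      intro y
      simp
    · intro A _ _ _ _ _
      rw [top_inf_eq]
      exact (Subgroup.commutator_mono le_rfl le_top).trans hcl
  have h2 : (⊤ : Subgroup P) ≤ kSeqEven P 0 := by
    unfold kSeqEven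
    exact le_sSup h1
  exact h2.trans (le_iSup (fun n => kSeqEven P n) 0)

theorem IsQdData.card_sylow (h : IsQdData p V B) (T : Sylow p X) :
    Nat.card (T : Subgroup X) = p ^ 3 := by
  rw [Sylow.card_eq_multiplicity, h.hcardX]
  congr 1
  have hp2 : 1 < p ^ 2 := Nat.one_lt_pow (by norm_num) hp.out.one_lt
  have hne : p ^ 2 - 1 ≠ 0 := by omega
  have hnd : ¬ p ∣ p ^ 2 - 1 := by
    intro hd
    have h1 : p ∣ p ^ 2 := dvd_pow_self p (by norm_num)
    have h2 : p ∣ p ^ 2 - (p ^ 2 - 1) := Nat.dvd_sub h1 hd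
    have h3 : p ^ 2 - (p ^ 2 - 1) = 1 := by omega
    rw [h3] at h2
    exact hp.out.one_lt.ne' (Nat.dvd_one.mp h2)
  rw [Nat.factorization_mul (pow_ne_zero _ hp.out.ne_zero) hne, Finsupp.add_apply,
    hp.out.factorization_pow, Finsupp.single_eq_same,
    Nat.factorization_eq_zero_of_not_dvd hnd]

theorem IsQdData.not_controls_kInf (h : IsQdData p V B) :
    ¬ ∀ T : Sylow p X, ControlsStrongFusion p (inducedFunctor kInfLower (T : Subgroup X)) := by
  intro hall
  obtain ⟨T, hBT⟩ := h.isPGroup_B.exists_le_sylow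
  have hk : kInfLower ↥(T : Subgroup X) = ⊤ :=
    kInfLower_eq_top_of_class_two (commutator_le_center_of_card_cube (p := p) (h.card_sylow T))
  have hU : inducedFunctor kInfLower (T : Subgroup X) = T := by
    unfold inducedFunctor
    rw [hk, ← MonoidHom.range_eq_map, Subgroup.range_subtype]
  have hctl := hall T
  rw [hU] at hctl
  obtain ⟨-, hTV⟩ := h.normal_le T T le_rfl Subgroup.le_normalizer hctl
  exact h.hBV (hBT.trans hTV)

end generic

end Cfsg.Agent.Lib.Helper1.QdB
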