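import Mathlib
import Cfsg.Agent.Lib.Helper1.QdB5
set_option autoImplicit false
open Matrix
open scoped commutatorElement Pointwise
universe u
namespace Cfsg.Agent.Lib.Helper1.QdC

open Cfsg.Agent.Lib.Helper1.QdA Cfsg.Agent.Lib.Helper1.QdB
open Cfsg.Agent.Lib.Helper1.SL2Three

variable {p : ℕ} [hp : Fact p.Prime]

/-- the standard Sylow `p`-subgroup of `Qd(p)` -/
noncomputable def UT (p : ℕ) [Fact p.Prime] : Subgroup ↥(Cfsg.qd p) :=
  ((xhom (p := p)).range).comap (linPart (p := p))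

theorem mem_UT_iff (g : ↥(Cfsg.qd p)) : g ∈ UT p ↔ ∃ s : ZMod p, linPart g = xmat (ZMod p) s := by
  unfold UT
  rw [Subgroup.mem_comap, MonoidHom.mem_range]
  constructor
  · rintro ⟨s, hs⟩
    exact ⟨Multiplicative.toAdd s, hs.symm⟩
  · rintro ⟨s, hs⟩
    exact ⟨Multiplicative.ofAdd s, hs.symm⟩

/-- elements of the standard Sylow subgroup -/
noncomputable def utMk (s : ZMod p) (v : Fin 2 → ZMod p) : ↥(UT p) :=
  ⟨qdMk (xmat (ZMod p) s) v, (mem_UT_iff _).mpr ⟨s, linPart_qdMk _ _⟩⟩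

theorem utMk_coe (s : ZMod p) (v : Fin 2 → ZMod p) :
    ((utMk s v : ↥(UT p)) : ↥(Cfsg.qd p)) = qdMk (xmat (ZMod p) s) v := rfl

theorem xmat_injective : Function.Injective (xmat (ZMod p)) := by
  intro s t h
  have h1 := congrArg (fun M : Matrix.SpecialLinearGroup (Fin 2) (ZMod p) =>
    (M : Matrix (Fin 2) (Fin 2) (ZMod p)) 0 1) h
  simpa using h1

theorem utMk_injective {s t : ZMod p} {v u : Fin 2 → ZMod p} (h : utMk s v = utMk t u) :
    s = t ∧ v = u := by
  have h1 := congrArg Subtype.val h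
  rw [utMk_coe, utMk_coe] at h1
  obtain ⟨h2, h3⟩ := qdMk_injective h1
  exact ⟨xmat_injective h2, h3⟩

theorem exists_eq_utMk (g : ↥(UT p)) : ∃ (s : ZMod p) (v : Fin 2 → ZMod p), g = utMk s v := by
  obtain ⟨s, hs⟩ := (mem_UT_iff _).mp g.2
  obtain ⟨A, v, hA⟩ := exists_eq_qdMk (g : ↥(Cfsg.qd p))
  rw [hA, linPart_qdMk] at hs
  refine ⟨s, v, Subtype.ext ?_⟩
  rw [utMk_coe, hA, hs]

theorem utMk_mul (s t : ZMod p) (v u : Fin 2 → ZMod p) :
    utMk s v * utMk t u = utMk (s + t) ![v 0 + u 0 + s * u 1, v 1 + u 1] := by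
  apply Subtype.ext
  rw [Subgroup.coe_mul, utMk_coe, utMk_coe, utMk_coe, qdMk_mul, ← xmat_add]
  congr 1
  ext i
  fin_cases i <;> simp [Matrix.mulVec, dotProduct, Fin.sum_univ_two] <;> ring

theorem utMk_bijective :
    Function.Bijective (fun x : ZMod p × (Fin 2 → ZMod p) => (utMk x.1 x.2 : ↥(UT p))) := by
  constructor
  · intro x y h
    obtain ⟨h1, h2⟩ := utMk_injective h
    exact Prod.ext h1 h2
  · intro g
    obtain ⟨s, v, rfl⟩ := exists_eq_utMk g
    exact ⟨(s, v), rfl⟩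

/-- coordinates on the standard Sylow subgroup -/
noncomputable def utEquiv : ZMod p × (Fin 2 → ZMod p) ≃ ↥(UT p) :=
  Equiv.ofBijective _ utMk_bijective

theorem utEquiv_symm_utMk (s : ZMod p) (v : Fin 2 → ZMod p) :
    (utEquiv (p := p)).symm (utMk s v) = (s, v) := by
  rw [Equiv.symm_apply_eq]; rfl

/-- the anti-transpose automorphism, in coordinates -/
noncomputable def phiFun (g : ↥(UT p)) : ↥(UT p) :=
  utMk (-((utEquiv (p := p)).symm g).2 1)
    ![((utEquiv (p := p)).symm g).1 * ((utEquiv (p := p)).symm g).2 1 -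
        ((utEquiv (p := p)).symm g).2 0, -((utEquiv (p := p)).symm g).1]

theorem phiFun_utMk (s : ZMod p) (v : Fin 2 → ZMod p) :
    phiFun (utMk s v) = utMk (-v 1) ![s * v 1 - v 0, -s] := by
  unfold phiFun
  rw [utEquiv_symm_utMk]

theorem phiFun_mul (g h : ↥(UT p)) : phiFun (g * h) = phiFun g * phiFun h := by
  obtain ⟨s, v, rfl⟩ := exists_eq_utMk g
  obtain ⟨t, u, rfl⟩ := exists_eq_utMk h
  rw [utMk_mul, phiFun_utMk, phiFun_utMk, phiFun_utMk, utMk_mul]
  congr 1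
  · simp; ring
  · ext i
    fin_cases i <;> simp <;> ring

theorem phiFun_phiFun (g : ↥(UT p)) : phiFun (phiFun g) = g := by
  obtain ⟨s, v, rfl⟩ := exists_eq_utMk g
  rw [phiFun_utMk, phiFun_utMk]
  congr 1
  · simp
  · ext i
    fin_cases i <;> simp <;> ring

/-- the anti-transpose automorphism of the standard Sylow subgroup -/
noncomputable def phi : ↥(UT p) ≃* ↥(UT p) where
  toFun := phiFun
  invFun := phiFun
  left_inv := phiFun_phiFun
  right_inv := phiFun_phiFun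
  map_mul' := phiFun_mul

theorem phi_utMk (s : ZMod p) (v : Fin 2 → ZMod p) :
    phi (utMk s v) = utMk (-v 1) ![s * v 1 - v 0, -s] := phiFun_utMk s v

theorem isPGroup_UT : IsPGroup p (UT p) := by
  unfold UT
  apply IsPGroup.comap_of_ker_isPGroup
  · rintro ⟨_, s, rfl⟩
    refine ⟨1, ?_⟩
    apply Subtype.ext
    rw [pow_one, Subgroup.coe_pow, Subgroup.coe_one, ← map_pow]
    have : s ^ p = 1 := by
      apply Multiplicative.toAdd.injective
      rw [toAdd_pow, toAdd_one]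
      simp
    rw [this, map_one]
  · rw [ker_linPart]; exact isPGroup_trans_range

theorem trans_range_le_UT : (trans (p := p)).range ≤ UT p := by
  rintro _ ⟨v, rfl⟩
  rw [mem_UT_iff]
  exact ⟨0, by rw [linPart_trans, xmat_zero]⟩

theorem lin_xmat_mem_UT (s : ZMod p) : lin (xmat (ZMod p) s) ∈ UT p := by
  rw [mem_UT_iff]
  exact ⟨s, linPart_lin _⟩

theorem card_UT : Nat.card (UT p) = p ^ 3 := by
  rw [← Nat.card_congr (utEquiv (p := p)), Nat.card_prod, Nat.card_fun,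
    Nat.card_eq_fintype_card, ZMod.card, Nat.card_eq_fintype_card, Fintype.card_fin]
  ring

theorem not_dvd_index_UT : ¬ p ∣ (UT p).index := by
  have h1 := (UT p).card_mul_index
  rw [card_UT, card_qd] at h1
  have h2 : (UT p).index = p ^ 2 - 1 :=
    Nat.eq_of_mul_eq_mul_left (pow_pos hp.out.pos 3) h1
  rw [h2]
  intro hd
  have hp2 : 1 < p ^ 2 := Nat.one_lt_pow (by norm_num) hp.out.one_lt
  have h3 : p ∣ p ^ 2 := dvd_pow_self p (by norm_num)
  have h4 : p ∣ p ^ 2 - (p ^ 2 - 1) := Nat.dvd_sub h3 hd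
  have h5 : p ^ 2 - (p ^ 2 - 1) = 1 := by omega
  rw [h5] at h4
  exact hp.out.one_lt.ne' (Nat.dvd_one.mp h4)

/-- the standard Sylow subgroup as a Sylow subgroup -/
noncomputable def sylowUT (p : ℕ) [Fact p.Prime] : Sylow p ↥(Cfsg.qd p) :=
  (isPGroup_UT (p := p)).toSylow not_dvd_index_UT

theorem coe_sylowUT : ((sylowUT p : Sylow p ↥(Cfsg.qd p)) : Subgroup ↥(Cfsg.qd p)) = UT p := rfl

end Cfsg.Agent.Lib.Helper1.QdC
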