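import Mathlib
import Cfsg.Agent.Lib.Helper1.QdC1
import Cfsg.Agent.Lib.Helper1.FrattiniAction
set_option autoImplicit false
open Matrix
open scoped commutatorElement Pointwise
universe u
namespace Cfsg.Agent.Lib.Helper1.QdC

open Cfsg.Agent.Lib.Helper1.QdA Cfsg.Agent.Lib.Helper1.QdB
open Cfsg.Agent.Lib.Helper1.SL2Three

variable {p : ℕ} [hp : Fact p.Prime]

/-- upper triangular matrices in `SL₂(p)` -/
def borelSL (p : ℕ) [Fact p.Prime] : Subgroup (Matrix.SpecialLinearGroup (Fin 2) (ZMod p)) where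
  carrier := {A | (A : Matrix (Fin 2) (Fin 2) (ZMod p)) 1 0 = 0}
  one_mem' := by simp
  mul_mem' := by
    intro A B hA hB
    simp only [Set.mem_ofPred_eq] at hA hB ⊢
    rw [Matrix.SpecialLinearGroup.coe_mul, Matrix.mul_apply, Fin.sum_univ_two, hA, hB]
    ring
  inv_mem' := by
    intro A hA
    simp only [Set.mem_ofPred_eq] at hA ⊢
    rw [Matrix.SpecialLinearGroup.coe_inv, Matrix.adjugate_fin_two]
    simp [hA]

theorem mem_borelSL (A : Matrix.SpecialLinearGroup (Fin 2) (ZMod p)) :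
    A ∈ borelSL p ↔ (A : Matrix (Fin 2) (Fin 2) (ZMod p)) 1 0 = 0 := Iff.rfl

theorem xmat_mem_borelSL (a : ZMod p) : xmat (ZMod p) a ∈ borelSL p := by
  rw [mem_borelSL]; simp

theorem ymat_nsmul (b : ZMod p) (n : ℕ) :
    ymat (ZMod p) ((n : ZMod p) * b) = ymat (ZMod p) b ^ n := by
  induction n with
  | zero =>
    simp only [Nat.cast_zero, zero_mul, pow_zero]
    ext i j
    rw [coe_ymat, Matrix.SpecialLinearGroup.coe_one]
    fin_cases i <;> fin_cases j <;> simp
  | succ n ih =>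
    rw [pow_succ, ← ih]
    ext i j
    rw [Matrix.SpecialLinearGroup.coe_mul, coe_ymat, coe_ymat, coe_ymat]
    fin_cases i <;> fin_cases j <;> simp [Matrix.mul_apply, Fin.sum_univ_two]
    ring

theorem borelSL_max (H : Subgroup (Matrix.SpecialLinearGroup (Fin 2) (ZMod p)))
    (hB : borelSL p ≤ H) : H = borelSL p ∨ H = ⊤ := by
  by_cases h : H ≤ borelSL p
  · exact Or.inl (le_antisymm h hB)
  · right
    obtain ⟨g, hgH, hg⟩ := SetLike.not_le_iff_exists.mp h
    rw [mem_borelSL] at hg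
    have hx : ∀ a, xmat (ZMod p) a ∈ H := fun a => hB (xmat_mem_borelSL a)
    have hyc : ymat (ZMod p) ((g : Matrix (Fin 2) (Fin 2) (ZMod p)) 1 0) ∈ H := by
      have h1 := bruhat_big_cell (ZMod p) g hg
      set α := ((g : Matrix (Fin 2) (Fin 2) (ZMod p)) 0 0 - 1) /
        (g : Matrix (Fin 2) (Fin 2) (ZMod p)) 1 0
      set β := ((g : Matrix (Fin 2) (Fin 2) (ZMod p)) 1 1 - 1) /
        (g : Matrix (Fin 2) (Fin 2) (ZMod p)) 1 0
      have h2 : ymat (ZMod p) ((g : Matrix (Fin 2) (Fin 2) (ZMod p)) 1 0) =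
          (xmat (ZMod p) α)⁻¹ * g * (xmat (ZMod p) β)⁻¹ := by
        nth_rewrite 2 [h1]
        group
      rw [h2]
      exact H.mul_mem (H.mul_mem (H.inv_mem (hx _)) hgH) (H.inv_mem (hx _))
    apply eq_top_of_xmat_ymat_mem _ _ hx
    intro b
    have : b = ((ZMod.val (b / (g : Matrix (Fin 2) (Fin 2) (ZMod p)) 1 0) : ℕ) : ZMod p) *
        (g : Matrix (Fin 2) (Fin 2) (ZMod p)) 1 0 := by
      rw [ZMod.natCast_zmod_val, div_mul_cancel₀ _ hg]
    rw [this, ymat_nsmul]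
    exact H.pow_mem hyc _

/-- the preimage of the upper triangular matrices -/
noncomputable def borel (p : ℕ) [Fact p.Prime] : Subgroup ↥(Cfsg.qd p) :=
  (borelSL p).comap (linPart (p := p))

theorem ker_le_borel : (linPart (p := p)).ker ≤ borel p := by
  intro g hg
  rw [MonoidHom.mem_ker] at hg
  change linPart g ∈ borelSL p
  rw [hg]
  exact (borelSL p).one_mem

theorem borel_max (H : Subgroup ↥(Cfsg.qd p)) (hB : borel p ≤ H) : H = borel p ∨ H = ⊤ := by
  have hker : (linPart (p := p)).ker ≤ H := ker_le_borel.trans hB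
  have h1 : (H.map (linPart (p := p))).comap (linPart (p := p)) = H :=
    Subgroup.comap_map_eq_self hker
  have h2 : borelSL p ≤ H.map (linPart (p := p)) := by
    have := Subgroup.map_mono (f := linPart (p := p)) hB
    rwa [borel, Subgroup.map_comap_eq_self_of_surjective linPart_surjective] at this
  rcases borelSL_max _ h2 with h3 | h3
  · left; rw [← h1, h3]; rfl
  · right; rw [← h1, h3]; exact Subgroup.comap_top _

theorem borelSL_le_normalizer :
    borelSL p ≤ Subgroup.normalizer (((xhom (p := p)).range :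
      Subgroup (Matrix.SpecialLinearGroup (Fin 2) (ZMod p))) : Set _) := by
  apply le_normalizer_of_conj_mem
  rintro A hA _ ⟨s, rfl⟩
  rw [mem_borelSL] at hA
  have hdet := det_entries A
  rw [hA, mul_zero, sub_zero] at hdet
  refine ⟨Multiplicative.ofAdd ((A : Matrix (Fin 2) (Fin 2) (ZMod p)) 0 0 *
    (A : Matrix (Fin 2) (Fin 2) (ZMod p)) 0 0 * Multiplicative.toAdd s), ?_⟩
  rw [eq_mul_inv_iff_mul_eq]
  ext i j
  change ((xmat (ZMod p) _ * A : Matrix.SpecialLinearGroup (Fin 2) (ZMod p)) :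
    Matrix (Fin 2) (Fin 2) (ZMod p)) i j =
    ((A * xmat (ZMod p) _ : Matrix.SpecialLinearGroup (Fin 2) (ZMod p)) :
    Matrix (Fin 2) (Fin 2) (ZMod p)) i j
  rw [Matrix.SpecialLinearGroup.coe_mul, Matrix.SpecialLinearGroup.coe_mul, coe_xmat, coe_xmat]
  fin_cases i <;> fin_cases j <;> simp [Matrix.mul_apply, Fin.sum_univ_two, hA]
  linear_combination ((A : Matrix (Fin 2) (Fin 2) (ZMod p)) 0 0 * Multiplicative.toAdd s) * hdet

theorem borel_le_normalizer : borel p ≤ Subgroup.normalizer ((UT p : Subgroup ↥(Cfsg.qd p)) : Set _) := by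
  unfold borel UT
  exact (Subgroup.comap_mono borelSL_le_normalizer).trans (Subgroup.le_normalizer_comap _)

/-- the data needed for the argument, for a subgroup `S` of `Qd(p)` -/
structure IsGoodSylow (S : Subgroup ↥(Cfsg.qd p)) : Prop where
  exists_max : ∃ M : Subgroup ↥(Cfsg.qd p), M ≤ Subgroup.normalizer (S : Set ↥(Cfsg.qd p)) ∧
    ∀ H : Subgroup ↥(Cfsg.qd p), M ≤ H → H = M ∨ H = ⊤
  exists_aut : ∃ (ψ : ↥S ≃* ↥S) (g₀ : ↥S), (g₀ : ↥(Cfsg.qd p)) ∈ (trans (p := p)).range ∧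
    ((ψ g₀ : ↥S) : ↥(Cfsg.qd p)) ∉ (trans (p := p)).range

theorem isGoodSylow_UT : IsGoodSylow (UT p) where
  exists_max := ⟨borel p, borel_le_normalizer, borel_max⟩
  exists_aut := by
    refine ⟨phi, utMk 0 ![0, 1], ?_, ?_⟩
    · rw [utMk_coe, ← linPart_eq_one_iff, linPart_qdMk, xmat_zero]
    · rw [phi_utMk, utMk_coe, ← linPart_eq_one_iff, linPart_qdMk, ← xmat_zero]
      intro h
      have := xmat_injective h
      simp at this

/-- conjugation as an isomorphism onto the conjugate subgroup -/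
noncomputable def conjEquiv (S : Subgroup ↥(Cfsg.qd p)) (h : ↥(Cfsg.qd p)) :
    ↥S ≃* ↥(S.map (MulAut.conj h).toMonoidHom) :=
  (MulAut.conj h).subgroupMap S

theorem conjEquiv_coe (S : Subgroup ↥(Cfsg.qd p)) (h : ↥(Cfsg.qd p)) (x : ↥S) :
    ((conjEquiv S h x : ↥(S.map (MulAut.conj h).toMonoidHom)) : ↥(Cfsg.qd p)) =
      h * (x : ↥(Cfsg.qd p)) * h⁻¹ := rfl

theorem IsGoodSylow.conj {S : Subgroup ↥(Cfsg.qd p)} (hS : IsGoodSylow S) (h : ↥(Cfsg.qd p)) :
    IsGoodSylow (S.map (MulAut.conj h).toMonoidHom) := by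
  obtain ⟨M, hMN, hMmax⟩ := hS.exists_max
  obtain ⟨ψ, g₀, hg₀, hψ⟩ := hS.exists_aut
  constructor
  · refine ⟨M.map (MulAut.conj h).toMonoidHom, ?_, ?_⟩
    · rw [← Subgroup.map_equiv_normalizer_eq]
      exact Subgroup.map_mono hMN
    · intro H hH
      rw [Subgroup.map_le_iff_le_comap] at hH
      have hH' : (H.comap (MulAut.conj h).toMonoidHom).map (MulAut.conj h).toMonoidHom = H :=
        Subgroup.map_comap_eq_self_of_surjective (MulAut.conj h).surjective H
      rcases hMmax _ hH with h1 | h1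
      · left; rw [← hH', h1]
      · right; rw [← hH', h1]; exact Subgroup.map_top_of_surjective _ (MulAut.conj h).surjective
  · refine ⟨(conjEquiv S h).symm.trans (ψ.trans (conjEquiv S h)), conjEquiv S h g₀, ?_, ?_⟩
    · rw [conjEquiv_coe]
      exact (trans_range_normal (p := p)).conj_mem _ hg₀ h
    · have h3 : ((conjEquiv S h).symm.trans (ψ.trans (conjEquiv S h))) (conjEquiv S h g₀) =
          conjEquiv S h (ψ g₀) := by
        rw [MulEquiv.trans_apply, MulEquiv.trans_apply, MulEquiv.symm_apply_apply]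
      rw [h3, conjEquiv_coe]
      intro hc
      apply hψ
      have := (trans_range_normal (p := p)).conj_mem _ hc h⁻¹
      have e2 : h⁻¹ * (h * ((ψ g₀ : ↥S) : ↥(Cfsg.qd p)) * h⁻¹) * h⁻¹⁻¹ =
          ((ψ g₀ : ↥S) : ↥(Cfsg.qd p)) := by
        group
      rwa [e2] at this

theorem main_of_isGoodSylow {S : Subgroup ↥(Cfsg.qd p)} (hS : IsGoodSylow S) (hSp : IsPGroup p S)
    (T : Subgroup ↥S) (hT : T ≠ ⊥) (hTc : T.Characteristic) :
    Subgroup.normalizer ((T.map S.subtype : Subgroup ↥(Cfsg.qd p)) : Set ↥(Cfsg.qd p)) =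
      Subgroup.normalizer (S : Set ↥(Cfsg.qd p)) ∧
    Subgroup.normalizer (S : Set ↥(Cfsg.qd p)) ≠ ⊤ := by
  obtain ⟨M, hMN, hMmax⟩ := hS.exists_max
  obtain ⟨ψ, g₀, hg₀, hψ⟩ := hS.exists_aut
  have hNS : Subgroup.normalizer (S : Set ↥(Cfsg.qd p)) ≠ ⊤ := by
    intro h
    have hn : S.Normal := Subgroup.normalizer_eq_top_iff.mp h
    exact hψ (normal_pgroup_le_trans_range S hSp (ψ g₀).2)
  have hNS' := (hMmax _ hMN).resolve_right hNS
  have hle := normalizer_le_normalizer_map_characteristic S T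
  have hT'S : T.map S.subtype ≤ S := by
    rintro _ ⟨t, -, rfl⟩; exact t.2
  have hNT : Subgroup.normalizer ((T.map S.subtype : Subgroup ↥(Cfsg.qd p)) : Set ↥(Cfsg.qd p)) ≠ ⊤ := by
    intro h
    have hn : (T.map S.subtype).Normal := Subgroup.normalizer_eq_top_iff.mp h
    have hp' : IsPGroup p (T.map S.subtype) := hSp.to_le hT'S
    have hne : T.map S.subtype ≠ ⊥ := by
      rw [Ne, Subgroup.map_eq_bot_iff_of_injective _ S.subtype_injective]
      exact hT
    have hV := eq_trans_range_of_normal _ (normal_pgroup_le_trans_range _ hp') hne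
    have h1 : g₀ ∈ T := by
      rw [← hV] at hg₀
      obtain ⟨t, ht, hte⟩ := hg₀
      have : t = g₀ := Subtype.ext hte
      rwa [← this]
    have h2 : ψ g₀ ∈ T := by
      have := Subgroup.characteristic_iff_map_eq.mp hTc ψ
      rw [← this]
      exact ⟨g₀, h1, rfl⟩
    apply hψ
    rw [← hV]
    exact ⟨ψ g₀, h2, rfl⟩
  have hNT' := (hMmax _ (hMN.trans hle)).resolve_right hNT
  exact ⟨hNT'.trans hNS'.symm, hNS⟩

theorem isGoodSylow_sylow (S : Sylow p ↥(Cfsg.qd p)) : IsGoodSylow (S : Subgroup ↥(Cfsg.qd p)) := by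
  obtain ⟨h, hh⟩ := MulAction.exists_smul_eq ↥(Cfsg.qd p) (sylowUT p) S
  have h1 : (S : Subgroup ↥(Cfsg.qd p)) = (UT p).map (MulAut.conj h).toMonoidHom := by
    rw [← hh, Sylow.coe_subgroup_smul, coe_sylowUT]
    rfl
  rw [h1]
  exact isGoodSylow_UT.conj h

theorem s2763 (S : Sylow p ↥(Cfsg.qd p)) (T : Subgroup ↥(S : Subgroup ↥(Cfsg.qd p)))
    (hT : T ≠ ⊥) (hTc : T.Characteristic) :
    Subgroup.normalizer ((T.map (S : Subgroup ↥(Cfsg.qd p)).subtype : Subgroup ↥(Cfsg.qd p)) :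
      Set ↥(Cfsg.qd p)) = Subgroup.normalizer ((S : Subgroup ↥(Cfsg.qd p)) : Set ↥(Cfsg.qd p)) ∧
    Subgroup.normalizer ((S : Subgroup ↥(Cfsg.qd p)) : Set ↥(Cfsg.qd p)) ≠ ⊤ :=
  main_of_isGoodSylow (isGoodSylow_sylow S) S.isPGroup' T hT hTc

end Cfsg.Agent.Lib.Helper1.QdC
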