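import Mathlib
import Cfsg.Agent.Lib.Helper1.FF5
import Cfsg.Agent.Lib.Helper1.QdA6
import Cfsg.Agent.Lib.Helper1.QdC2

/-! Recognition of `SL₂(p)` from a pair of transvections. -/
set_option autoImplicit false
universe u v
open Cfsg Matrix
open scoped commutatorElement Pointwise

namespace Cfsg.Agent.Lib.Helper1.FF
open Cfsg.Agent.Lib.Helper1.QdA Cfsg.Agent.Lib.Helper1.SL2Three

variable {G : Type u} [Group G] {p : ℕ} [hp : Fact p.Prime]

theorem planeHom_injective (u₀ u₁ : G) (hcomm : u₀ * u₁ = u₁ * u₀) (h₀ : u₀ ^ p = 1)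
    (h₁ : u₁ ^ p = 1) (hind : ∀ a b : ZMod p, zp u₀ a * zp u₁ b = 1 → a = 0 ∧ b = 0) :
    Function.Injective (planeHom u₀ u₁ hcomm h₀ h₁) := by
  rw [injective_iff_map_eq_one]
  intro v hv
  rw [planeHom_apply] at hv
  obtain ⟨ha, hb⟩ := hind _ _ hv
  apply Multiplicative.toAdd.injective
  ext i
  fin_cases i
  · exact ha
  · exact hb

theorem planeHom_conj_x (u₀ u₁ α : G) (hcomm : u₀ * u₁ = u₁ * u₀) (h₀ : u₀ ^ p = 1)
    (h₁ : u₁ ^ p = 1) (hα₀ : α * u₀ * α⁻¹ = u₀) (hα₁ : α * u₁ * α⁻¹ = u₀ * u₁) (v : Pl p) :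
    α * planeHom u₀ u₁ hcomm h₀ h₁ v * α⁻¹ =
      planeHom u₀ u₁ hcomm h₀ h₁ (act (xmat (ZMod p) 1) v) := by
  rw [planeHom_apply, planeHom_apply, act_apply, toAdd_ofAdd]
  have e0 : (((xmat (ZMod p) 1 : Matrix.SpecialLinearGroup (Fin 2) (ZMod p)) :
      Matrix (Fin 2) (Fin 2) (ZMod p)) *ᵥ Multiplicative.toAdd v) 0 =
      Multiplicative.toAdd v 0 + Multiplicative.toAdd v 1 := by
    simp [xmat, Matrix.mulVec, dotProduct, Fin.sum_univ_two]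
  have e1 : (((xmat (ZMod p) 1 : Matrix.SpecialLinearGroup (Fin 2) (ZMod p)) :
      Matrix (Fin 2) (Fin 2) (ZMod p)) *ᵥ Multiplicative.toAdd v) 1 =
      Multiplicative.toAdd v 1 := by
    simp [xmat, Matrix.mulVec, dotProduct, Fin.sum_univ_two]
  rw [e0, e1]
  obtain ⟨a, ha⟩ : ∃ a, a = Multiplicative.toAdd v 0 := ⟨_, rfl⟩
  obtain ⟨b, hb⟩ : ∃ b, b = Multiplicative.toAdd v 1 := ⟨_, rfl⟩
  rw [← ha, ← hb]
  have h2 : α * (zp u₀ a * zp u₁ b) * α⁻¹ = (α * zp u₀ a * α⁻¹) * (α * zp u₁ b * α⁻¹) := by group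
  rw [h2, conj_zp, conj_zp, hα₀, hα₁]
  have h3 : zp (u₀ * u₁) b = zp u₀ b * zp u₁ b := by
    unfold zp
    exact (show Commute u₀ u₁ from hcomm).mul_pow _
  rw [h3, zp_add h₀, mul_assoc]

theorem planeHom_conj_y (u₀ u₁ β : G) (m : ZMod p) (hcomm : u₀ * u₁ = u₁ * u₀) (h₀ : u₀ ^ p = 1)
    (h₁ : u₁ ^ p = 1) (hβ₀ : β * u₀ * β⁻¹ = u₀ * zp u₁ m) (hβ₁ : β * u₁ * β⁻¹ = u₁) (v : Pl p) :
    β * planeHom u₀ u₁ hcomm h₀ h₁ v * β⁻¹ =
      planeHom u₀ u₁ hcomm h₀ h₁ (act (ymat (ZMod p) m) v) := by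
  rw [planeHom_apply, planeHom_apply, act_apply, toAdd_ofAdd]
  have e0 : (((ymat (ZMod p) m : Matrix.SpecialLinearGroup (Fin 2) (ZMod p)) :
      Matrix (Fin 2) (Fin 2) (ZMod p)) *ᵥ Multiplicative.toAdd v) 0 =
      Multiplicative.toAdd v 0 := by
    simp [ymat, Matrix.mulVec, dotProduct, Fin.sum_univ_two]
  have e1 : (((ymat (ZMod p) m : Matrix.SpecialLinearGroup (Fin 2) (ZMod p)) :
      Matrix (Fin 2) (Fin 2) (ZMod p)) *ᵥ Multiplicative.toAdd v) 1 =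
      m * Multiplicative.toAdd v 0 + Multiplicative.toAdd v 1 := by
    simp [ymat, Matrix.mulVec, dotProduct, Fin.sum_univ_two]
  rw [e0, e1]
  obtain ⟨a, ha⟩ : ∃ a, a = Multiplicative.toAdd v 0 := ⟨_, rfl⟩
  obtain ⟨b, hb⟩ : ∃ b, b = Multiplicative.toAdd v 1 := ⟨_, rfl⟩
  rw [← ha, ← hb]
  have h2 : β * (zp u₀ a * zp u₁ b) * β⁻¹ = (β * zp u₀ a * β⁻¹) * (β * zp u₁ b * β⁻¹) := by group
  rw [h2, conj_zp, conj_zp, hβ₀, hβ₁]
  have hc : Commute u₀ (zp u₁ m) := by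
    unfold zp
    exact (show Commute u₀ u₁ from hcomm).pow_right _
  have h3 : zp (u₀ * zp u₁ m) a = zp u₀ a * zp u₁ (m * a) := by
    have : zp (u₀ * zp u₁ m) a = zp u₀ a * (zp u₁ m) ^ a.val := by
      unfold zp
      exact hc.mul_pow _
    rw [this, zp_pow h₁, ZMod.natCast_zmod_val, mul_comm a m]
  rw [h3, zp_add h₁, mul_assoc]

theorem planeHom_e0 (u₀ u₁ : G) (hcomm : u₀ * u₁ = u₁ * u₀) (h₀ : u₀ ^ p = 1)
    (h₁ : u₁ ^ p = 1) :
    planeHom u₀ u₁ hcomm h₀ h₁ (Multiplicative.ofAdd ![1, 0]) = u₀ := by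
  rw [planeHom_apply]
  simp [zp_one h₀, zp_zero]

theorem planeHom_e1 (u₀ u₁ : G) (hcomm : u₀ * u₁ = u₁ * u₀) (h₀ : u₀ ^ p = 1)
    (h₁ : u₁ ^ p = 1) :
    planeHom u₀ u₁ hcomm h₀ h₁ (Multiplicative.ofAdd ![0, 1]) = u₁ := by
  rw [planeHom_apply]
  simp [zp_one h₁, zp_zero]

/-- the subgroup generated by an upper and a lower transvection is `SL₂(p)` -/
theorem eq_top_of_xmat_one_ymat_mem (H : Subgroup (Matrix.SpecialLinearGroup (Fin 2) (ZMod p)))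
    (m : ZMod p) (hm : m ≠ 0) (hx : xmat (ZMod p) 1 ∈ H) (hy : ymat (ZMod p) m ∈ H) : H = ⊤ := by
  apply eq_top_of_xmat_ymat_mem
  · intro a
    have := xmat_nsmul (ZMod p) 1 a.val
    rw [ZMod.natCast_zmod_val, mul_one] at this
    rw [this]
    exact H.pow_mem hx _
  · intro b
    have := Cfsg.Agent.Lib.Helper1.QdC.ymat_nsmul m (b * m⁻¹).val
    rw [ZMod.natCast_zmod_val, mul_assoc, inv_mul_cancel₀ hm, mul_one] at this
    rw [this]
    exact H.pow_mem hy _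

theorem sl2_of_generators (u₀ u₁ α β : G) (m : ZMod p) (hm : m ≠ 0)
    (hcomm : u₀ * u₁ = u₁ * u₀) (h₀ : u₀ ^ p = 1) (h₁ : u₁ ^ p = 1)
    (hind : ∀ a b : ZMod p, zp u₀ a * zp u₁ b = 1 → a = 0 ∧ b = 0)
    (hα₀ : α * u₀ * α⁻¹ = u₀) (hα₁ : α * u₁ * α⁻¹ = u₀ * u₁)
    (hβ₀ : β * u₀ * β⁻¹ = u₀ * zp u₁ m) (hβ₁ : β * u₁ * β⁻¹ = u₁)
    (hfaith : ∀ e ∈ Subgroup.closure ({α, β} : Set G), e * u₀ = u₀ * e → e * u₁ = u₁ * e → e = 1) :
    ∃ φ : ↥(Subgroup.closure ({α, β} : Set G)) ≃* Matrix.SpecialLinearGroup (Fin 2) (ZMod p),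
      ∀ e : ↥(Subgroup.closure ({α, β} : Set G)), ∀ v : Pl p,
        (e : G) * planeHom u₀ u₁ hcomm h₀ h₁ v * (e : G)⁻¹ =
          planeHom u₀ u₁ hcomm h₀ h₁ (act (φ e) v) := by
  obtain ⟨E, hE⟩ : ∃ E : Subgroup G, E = Subgroup.closure ({α, β} : Set G) := ⟨_, rfl⟩
  rw [← hE]
  rw [← hE] at hfaith
  obtain ⟨ι, hιdef⟩ : ∃ ι : Pl p →* G, ι = planeHom u₀ u₁ hcomm h₀ h₁ := ⟨_, rfl⟩
  rw [← hιdef]
  have hι : Function.Injective ι := hιdef ▸ planeHom_injective u₀ u₁ hcomm h₀ h₁ hind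
  have hαι : ∀ v, α * ι v * α⁻¹ = ι (act (xmat (ZMod p) 1) v) := by
    intro v; rw [hιdef]; exact planeHom_conj_x u₀ u₁ α hcomm h₀ h₁ hα₀ hα₁ v
  have hβι : ∀ v, β * ι v * β⁻¹ = ι (act (ymat (ZMod p) m) v) := by
    intro v; rw [hιdef]; exact planeHom_conj_y u₀ u₁ β m hcomm h₀ h₁ hβ₀ hβ₁ v
  obtain ⟨S, hS⟩ : ∃ S : Subgroup (G × Matrix.SpecialLinearGroup (Fin 2) (ZMod p)),
    S = stabPair ι ⊓ E.prod ⊤ := ⟨_, rfl⟩
  have hmemS : ∀ x : ↥S, ∀ v : Pl p,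
      (x : G × Matrix.SpecialLinearGroup (Fin 2) (ZMod p)).1 * ι v *
        (x : G × Matrix.SpecialLinearGroup (Fin 2) (ZMod p)).1⁻¹ =
      ι (act (x : G × Matrix.SpecialLinearGroup (Fin 2) (ZMod p)).2 v) := by
    intro x v
    have hx : (x : G × Matrix.SpecialLinearGroup (Fin 2) (ZMod p)) ∈ stabPair ι ⊓ E.prod ⊤ := by
      rw [← hS]; exact x.2
    exact hx.1 v
  have hmemE : ∀ x : ↥S, (x : G × Matrix.SpecialLinearGroup (Fin 2) (ZMod p)).1 ∈ E := by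
    intro x
    have hx : (x : G × Matrix.SpecialLinearGroup (Fin 2) (ZMod p)) ∈ stabPair ι ⊓ E.prod ⊤ := by
      rw [← hS]; exact x.2
    exact (Subgroup.mem_prod.mp hx.2).1
  have hαS : (α, xmat (ZMod p) 1) ∈ S := by
    rw [hS]
    refine ⟨hαι, Subgroup.mem_prod.mpr ⟨?_, Subgroup.mem_top _⟩⟩
    rw [hE]; exact Subgroup.subset_closure (by simp)
  have hβS : (β, ymat (ZMod p) m) ∈ S := by
    rw [hS]
    refine ⟨hβι, Subgroup.mem_prod.mpr ⟨?_, Subgroup.mem_top _⟩⟩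
    rw [hE]; exact Subgroup.subset_closure (by simp)
  let τ : ↥S →* G := (MonoidHom.fst G _).comp S.subtype
  let θ : ↥S →* Matrix.SpecialLinearGroup (Fin 2) (ZMod p) := (MonoidHom.snd G _).comp S.subtype
  have hτ : Function.Injective τ := by
    intro x y hxy
    have h1 : (x : G × Matrix.SpecialLinearGroup (Fin 2) (ZMod p)).1 =
      (y : G × Matrix.SpecialLinearGroup (Fin 2) (ZMod p)).1 := hxy
    have h2 : (x : G × Matrix.SpecialLinearGroup (Fin 2) (ZMod p)).2 =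
        (y : G × Matrix.SpecialLinearGroup (Fin 2) (ZMod p)).2 := by
      apply act_injective
      apply MulEquiv.ext
      intro v
      apply hι
      rw [← hmemS x v, ← hmemS y v, h1]
    exact Subtype.ext (Prod.ext h1 h2)
  have hτr : τ.range = E := by
    apply le_antisymm
    · rintro _ ⟨x, rfl⟩
      exact hmemE x
    · rw [hE, Subgroup.closure_le]
      rintro z (rfl | rfl)
      · exact ⟨⟨_, hαS⟩, rfl⟩
      · exact ⟨⟨_, hβS⟩, rfl⟩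
  have hθi : Function.Injective θ := by
    intro x y hxy
    have h2 : (x : G × Matrix.SpecialLinearGroup (Fin 2) (ZMod p)).2 =
      (y : G × Matrix.SpecialLinearGroup (Fin 2) (ZMod p)).2 := hxy
    apply hτ
    change (x : G × Matrix.SpecialLinearGroup (Fin 2) (ZMod p)).1 =
      (y : G × Matrix.SpecialLinearGroup (Fin 2) (ZMod p)).1
    obtain ⟨c, hc⟩ : ∃ c : G, c = (x : G × Matrix.SpecialLinearGroup (Fin 2) (ZMod p)).1 := ⟨_, rfl⟩
    obtain ⟨d, hd⟩ : ∃ d : G, d = (y : G × Matrix.SpecialLinearGroup (Fin 2) (ZMod p)).1 := ⟨_, rfl⟩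
    rw [← hc, ← hd]
    have hcomm' : ∀ v, (d⁻¹ * c) * ι v = ι v * (d⁻¹ * c) := by
      intro v
      have e1 := hmemS x v
      have e2 := hmemS y v
      rw [h2, ← e2, ← hc, ← hd] at e1
      calc d⁻¹ * c * ι v = d⁻¹ * (c * ι v * c⁻¹) * c := by group
        _ = d⁻¹ * (d * ι v * d⁻¹) * c := by rw [e1]
        _ = _ := by group
    have hmem : d⁻¹ * c ∈ E := E.mul_mem (E.inv_mem (hd ▸ hmemE y)) (hc ▸ hmemE x)
    have k0 := hcomm' (Multiplicative.ofAdd ![1, 0])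
    have k1 := hcomm' (Multiplicative.ofAdd ![0, 1])
    rw [hιdef, planeHom_e0] at k0
    rw [hιdef, planeHom_e1] at k1
    have := hfaith _ hmem k0 k1
    calc c = d * (d⁻¹ * c) := by group
      _ = d := by rw [this, mul_one]
  have hθs : Function.Surjective θ := by
    have hrange : θ.range = ⊤ := by
      apply eq_top_of_xmat_one_ymat_mem _ m hm
      · exact ⟨⟨_, hαS⟩, rfl⟩
      · exact ⟨⟨_, hβS⟩, rfl⟩
    exact MonoidHom.range_eq_top.mp hrange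
  let φ : ↥E ≃* Matrix.SpecialLinearGroup (Fin 2) (ZMod p) :=
    ((MulEquiv.subgroupCongr hτr).symm.trans (MonoidHom.ofInjective hτ).symm).trans
      (MulEquiv.ofBijective θ ⟨hθi, hθs⟩)
  refine ⟨φ, ?_⟩
  intro e v
  obtain ⟨x, hx⟩ : ∃ x : ↥S, τ x = (e : G) := by
    have : (e : G) ∈ τ.range := by rw [hτr]; exact e.2
    exact this
  have hφ : φ e = θ x := by
    have h1 : (MonoidHom.ofInjective hτ).symm ((MulEquiv.subgroupCongr hτr).symm e) = x := by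
      rw [MulEquiv.symm_apply_eq]
      apply Subtype.ext
      rw [MonoidHom.ofInjective_apply]
      exact hx.symm
    change (MulEquiv.ofBijective θ ⟨hθi, hθs⟩)
      ((MonoidHom.ofInjective hτ).symm ((MulEquiv.subgroupCongr hτr).symm e)) = θ x
    rw [h1]
    rfl
  rw [hφ, ← hx]
  exact hmemS x v

end Cfsg.Agent.Lib.Helper1.FF
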