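import Mathlib
import Cfsg.Agent.Lib.Helper1.FF6
import Cfsg.Agent.Lib.Helper1.SL2Three5

/-! A pair of transvection groups generates `SL₂(p)`, and `p ∈ {2,3}`. -/
set_option autoImplicit false
universe u v
open Cfsg Matrix
open scoped commutatorElement Pointwise

namespace Cfsg.Agent.Lib.Helper1.FF
open Cfsg.Agent.Lib.Helper1.QdA Cfsg.Agent.Lib.Helper1.SL2Three

variable {G : Type u} [Group G] {p : ℕ}

theorem eq_zpowers_of_card_prime [Finite G] [hp : Fact p.Prime] {A : Subgroup G}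
    (hA : Nat.card A = p) {a : G} (ha : a ∈ A) (ha1 : a ≠ 1) : A = Subgroup.zpowers a := by
  symm
  apply Subgroup.eq_of_le_of_card_ge
  · rw [Subgroup.zpowers_le]; exact ha
  · rw [hA, Nat.card_zpowers]
    have h1 : orderOf a ∣ p := by
      rw [← hA, ← Subgroup.orderOf_mk a ha]; exact orderOf_dvd_natCard _
    rcases (Nat.dvd_prime hp.out).mp h1 with h | h
    · exact absurd (orderOf_eq_one_iff.mp h) ha1
    · exact h.ge

theorem exists_ne_one_of_card_prime [hp : Fact p.Prime] {A : Subgroup G}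
    (hA : Nat.card A = p) : ∃ a ∈ A, a ≠ 1 := by
  have : A ≠ ⊥ := by
    intro h
    rw [h, Subgroup.card_bot] at hA
    exact hp.out.one_lt.ne hA
  obtain ⟨a, ha⟩ := (Subgroup.ne_bot_iff_exists_ne_one).mp this
  exact ⟨a, a.2, fun h => ha (Subtype.ext h)⟩

theorem zp_eq_one_iff {u : G} [hp : Fact p.Prime] (hu : u ^ p = 1) (hu1 : u ≠ 1) (a : ZMod p) :
    zp u a = 1 ↔ a = 0 := by
  constructor
  · intro h
    unfold zp at h
    have h1 : orderOf u = p := orderOf_eq_prime hu hu1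
    have h2 : orderOf u ∣ a.val := orderOf_dvd_of_pow_eq_one h
    rw [h1] at h2
    have h3 : a.val = 0 := Nat.eq_zero_of_dvd_of_lt h2 (ZMod.val_lt a)
    exact (ZMod.val_eq_zero a).mp h3
  · intro h; rw [h, zp_zero]

theorem mem_zpowers_iff_zp {u z : G} [hp : Fact p.Prime] (hu : u ^ p = 1)
    (hz : z ∈ Subgroup.zpowers u) : ∃ m : ZMod p, z = zp u m := by
  have hfin : IsOfFinOrder u := isOfFinOrder_iff_pow_eq_one.mpr ⟨p, hp.out.pos, hu⟩
  have := hfin.mem_powers_iff_mem_zpowers.mpr hz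
  obtain ⟨n, hn⟩ := (Submonoid.mem_powers_iff z u).mp this
  exact ⟨(n : ZMod p), by rw [← hn, pow_eq_zp hu]⟩

namespace PairSetup

variable {V L Q : Subgroup G}

theorem sup_eq_L [Finite G] [hp : Fact p.Prime] (s : PairSetup p V L Q) {A : Subgroup G}
    (h : s.IsTr A) : Q ⊔ A = L := by
  apply Subgroup.eq_of_le_of_card_ge (sup_le s.hQL h.hAL)
  have h1 := GlaubermanRepl.card_sup_mul_card_inf_of_le_normalizer A Q (h.hAL.trans s.hLQ)
  rw [s.inf_Q_eq_bot h.isPGroup, Subgroup.card_bot, mul_one, h.hcard, sup_comm] at h1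
  rw [h1, s.hcard]

theorem exists_mul_of_mem_L [Finite G] [hp : Fact p.Prime] (s : PairSetup p V L Q) {A : Subgroup G}
    (h : s.IsTr A) {e : G} (he : e ∈ L) : ∃ q ∈ Q, ∃ a ∈ A, q * a = e := by
  rw [← s.sup_eq_L h, ← SetLike.mem_coe,
    Subgroup.coe_mul_of_right_le_normalizer_left Q A (h.hAL.trans s.hLQ)] at he
  obtain ⟨q, hq, a, ha, rfl⟩ := Set.mem_mul.mp he
  exact ⟨q, hq, a, ha, rfl⟩

/-- `A₁` does not centralize `E ∩ Q` -/
theorem not_le_centralizer_inf [Finite G] [hp : Fact p.Prime] (s : PairSetup p V L Q)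
    {A₁ A₂ : Subgroup G} (h₁ : s.IsTr A₁) (h₂ : s.IsTr A₂) (hne : A₁ ≠ A₂) :
    ¬ A₁ ≤ Subgroup.centralizer (((A₁ ⊔ A₂) ⊓ Q : Subgroup G) : Set G) := by
  intro hc
  apply s.not_isPGroup_sup h₁ h₂ hne
  apply IsPGroup.to_sup_of_normal_left' h₁.isPGroup h₂.isPGroup
  apply Cfsg.Agent.Lib.Helper1.le_normalizer_of_conj_mem
  intro e he b hb
  have heE : e ∈ A₁ ⊔ A₂ := (le_sup_right : A₂ ≤ A₁ ⊔ A₂) he
  obtain ⟨q, hq, a, ha, hqa⟩ := s.exists_mul_of_mem_L h₁ (h₂.hAL he)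
  have hqE : q ∈ (A₁ ⊔ A₂) ⊓ Q := by
    refine ⟨?_, hq⟩
    have : q = e * a⁻¹ := by rw [← hqa]; group
    rw [this]
    exact Subgroup.mul_mem _ heE (Subgroup.inv_mem _ ((le_sup_left : A₁ ≤ A₁ ⊔ A₂) ha))
  have hab : a * b * a⁻¹ ∈ A₁ := A₁.mul_mem (A₁.mul_mem ha hb) (A₁.inv_mem ha)
  have hcomm : (a * b * a⁻¹) * q = q * (a * b * a⁻¹) :=
    ((Subgroup.mem_centralizer_iff.mp (hc hab)) q hqE).symm
  have : e * b * e⁻¹ = a * b * a⁻¹ := by
    rw [← hqa]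
    calc q * a * b * (q * a)⁻¹ = q * (a * b * a⁻¹) * q⁻¹ := by group
      _ = (a * b * a⁻¹) * q * q⁻¹ := by rw [hcomm]
      _ = _ := by group
  rw [this]; exact hab

/-- the generators and relations in a pair -/
theorem exists_generators [Finite G] [hp : Fact p.Prime] (s : PairSetup p V L Q)
    {A₁ A₂ : Subgroup G} (h₁ : s.IsTr A₁) (h₂ : s.IsTr A₂) (hne : A₁ ≠ A₂) :
    ∃ (u₀ u₁ α β : G) (m : ZMod p), m ≠ 0 ∧ u₀ * u₁ = u₁ * u₀ ∧ u₀ ^ p = 1 ∧ u₁ ^ p = 1 ∧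
      (∀ a b : ZMod p, zp u₀ a * zp u₁ b = 1 → a = 0 ∧ b = 0) ∧
      α * u₀ * α⁻¹ = u₀ ∧ α * u₁ * α⁻¹ = u₀ * u₁ ∧
      β * u₀ * β⁻¹ = u₀ * zp u₁ m ∧ β * u₁ * β⁻¹ = u₁ ∧
      A₁ = Subgroup.zpowers α ∧ A₂ = Subgroup.zpowers β ∧
      ⁅V, A₁⁆ = Subgroup.zpowers u₀ ∧ ⁅V, A₂⁆ = Subgroup.zpowers u₁ := by
  have hfaith := s.sup_inf_centralizer h₁ h₂ hne
  rw [commutator_sup_eq h₁.hAV h₂.hAV, centralizer_sup_eq] at hfaith
  obtain ⟨a₁, ha₁, ha₁1⟩ := exists_ne_one_of_card_prime h₁.hcard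
  obtain ⟨a₂, ha₂, ha₂1⟩ := exists_ne_one_of_card_prime h₂.hcard
  obtain ⟨z, hz, hz1⟩ := exists_ne_one_of_card_prime h₂.hZ
  have hA₁ := eq_zpowers_of_card_prime h₁.hcard ha₁ ha₁1
  have hA₂ := eq_zpowers_of_card_prime h₂.hcard ha₂ ha₂1
  have hZ₂ := eq_zpowers_of_card_prime h₂.hZ hz hz1
  have hzV : z ∈ V := h₂.commutator_le hz
  obtain ⟨u, hu⟩ : ∃ u : G, u = a₁ * z * a₁⁻¹ * z⁻¹ := ⟨_, rfl⟩
  have huZ : u ∈ ⁅V, A₁⁆ := by
    have : u = (⁅z, a₁⁆)⁻¹ := by rw [hu, commutatorElement_def]; group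
    rw [this]
    exact Subgroup.inv_mem _ (Subgroup.commutator_mem_commutator hzV ha₁)
  have huV : u ∈ V := h₁.commutator_le huZ
  -- an element of `A_i` centralizing the other center is trivial
  have key₁ : ∀ a ∈ A₁, a * z = z * a → a = 1 := by
    intro a ha hc
    have : a ∈ (A₁ ⊔ A₂) ⊓ (Subgroup.centralizer ((⁅V, A₁⁆ : Subgroup G) : Set G) ⊓
        Subgroup.centralizer ((⁅V, A₂⁆ : Subgroup G) : Set G)) := by
      refine Subgroup.mem_inf.mpr ⟨(le_sup_left : A₁ ≤ A₁ ⊔ A₂) ha, Subgroup.mem_inf.mpr ⟨?_, ?_⟩⟩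
      · rw [Subgroup.mem_centralizer_iff]
        intro w hw
        exact ((Subgroup.mem_centralizer_iff.mp (h₁.quad hw)) a ha).symm
      · rw [hZ₂, centralizer_zpowers_eq, Subgroup.mem_centralizer_iff]
        intro w hw
        rw [Set.mem_singleton_iff] at hw
        rw [hw]; exact hc.symm
    rw [hfaith, Subgroup.mem_bot] at this
    exact this
  have hu1 : u ≠ 1 := by
    intro h
    apply ha₁1
    apply key₁ a₁ ha₁
    rw [hu] at h
    calc a₁ * z = (a₁ * z * a₁⁻¹ * z⁻¹) * z * a₁ := by group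
      _ = z * a₁ := by rw [h, one_mul]
  have hZ₁ := eq_zpowers_of_card_prime h₁.hZ huZ hu1
  have key₂ : ∀ a ∈ A₂, a * u = u * a → a = 1 := by
    intro a ha hc
    have : a ∈ (A₁ ⊔ A₂) ⊓ (Subgroup.centralizer ((⁅V, A₁⁆ : Subgroup G) : Set G) ⊓
        Subgroup.centralizer ((⁅V, A₂⁆ : Subgroup G) : Set G)) := by
      refine Subgroup.mem_inf.mpr ⟨(le_sup_right : A₂ ≤ A₁ ⊔ A₂) ha, Subgroup.mem_inf.mpr ⟨?_, ?_⟩⟩
      · rw [hZ₁, centralizer_zpowers_eq, Subgroup.mem_centralizer_iff]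
        intro w hw
        rw [Set.mem_singleton_iff] at hw
        rw [hw]; exact hc.symm
      · rw [Subgroup.mem_centralizer_iff]
        intro w hw
        exact ((Subgroup.mem_centralizer_iff.mp (h₂.quad hw)) a ha).symm
    rw [hfaith, Subgroup.mem_bot] at this
    exact this
  have hup : u ^ p = 1 := s.hV.2 u huV
  have hzp : z ^ p = 1 := s.hV.2 z hzV
  -- the action of `a₂` on `u`
  have hw : u⁻¹ * a₂ * u * a₂⁻¹ ∈ Subgroup.zpowers z := by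
    rw [← hZ₂]
    have : u⁻¹ * a₂ * u * a₂⁻¹ = ⁅u⁻¹, a₂⁆ := by rw [commutatorElement_def]; group
    rw [this]
    exact Subgroup.commutator_mem_commutator (V.inv_mem huV) ha₂
  obtain ⟨m, hm⟩ := mem_zpowers_iff_zp hzp hw
  refine ⟨u, z, a₁, a₂, m, ?_, isElementaryAbelian_comm s.hV huV hzV, hup, hzp, ?_, ?_, ?_, ?_, ?_,
    hA₁, hA₂, hZ₁, hZ₂⟩
  · intro hm0
    rw [hm0, zp_zero] at hm
    apply ha₂1
    apply key₂ a₂ ha₂
    calc a₂ * u = u * (u⁻¹ * a₂ * u * a₂⁻¹) * a₂ := by group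
      _ = u * a₂ := by rw [hm, mul_one]
  · intro a b hab
    have h1 : zp u a ∈ ⁅V, A₁⁆ ⊓ ⁅V, A₂⁆ := by
      constructor
      · rw [hZ₁]; exact Subgroup.pow_mem _ (Subgroup.mem_zpowers u) _
      · have : zp u a = (zp z b)⁻¹ := eq_inv_of_mul_eq_one_left hab
        rw [this, hZ₂]
        exact Subgroup.inv_mem _ (Subgroup.pow_mem _ (Subgroup.mem_zpowers z) _)
    rw [s.centers_inf h₁ h₂ hne, Subgroup.mem_bot] at h1
    rw [h1, one_mul] at hab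
    exact ⟨(zp_eq_one_iff hup hu1 a).mp h1, (zp_eq_one_iff hzp hz1 b).mp hab⟩
  · have := (Subgroup.mem_centralizer_iff.mp (h₁.quad huZ)) a₁ ha₁
    rw [this]; group
  · rw [hu]; group
  · rw [← hm]; group
  · have := (Subgroup.mem_centralizer_iff.mp (h₂.quad hz)) a₂ ha₂
    rw [this]; group

theorem sup_zpowers_eq_closure (α β : G) :
    Subgroup.zpowers α ⊔ Subgroup.zpowers β = Subgroup.closure ({α, β} : Set G) := by
  rw [Subgroup.zpowers_eq_closure, Subgroup.zpowers_eq_closure, ← Subgroup.closure_union]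
  rfl

theorem exists_sl2 [Finite G] [hp : Fact p.Prime] (s : PairSetup p V L Q)
    {A₁ A₂ : Subgroup G} (h₁ : s.IsTr A₁) (h₂ : s.IsTr A₂) (hne : A₁ ≠ A₂) :
    Nonempty (↥(A₁ ⊔ A₂ : Subgroup G) ≃* Matrix.SpecialLinearGroup (Fin 2) (ZMod p)) := by
  have hfaith := s.sup_inf_centralizer h₁ h₂ hne
  rw [commutator_sup_eq h₁.hAV h₂.hAV, centralizer_sup_eq] at hfaith
  obtain ⟨u₀, u₁, α, β, m, hm, hcomm, h₀, h₁', hind, hα₀, hα₁, hβ₀, hβ₁, hA₁, hA₂, hZ₁, hZ₂⟩ :=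
    s.exists_generators h₁ h₂ hne
  have hE : A₁ ⊔ A₂ = Subgroup.closure ({α, β} : Set G) := by
    rw [hA₁, hA₂, sup_zpowers_eq_closure]
  have hf : ∀ e ∈ Subgroup.closure ({α, β} : Set G), e * u₀ = u₀ * e → e * u₁ = u₁ * e → e = 1 := by
    intro e he h0 h1
    have : e ∈ (A₁ ⊔ A₂) ⊓ (Subgroup.centralizer ((⁅V, A₁⁆ : Subgroup G) : Set G) ⊓
        Subgroup.centralizer ((⁅V, A₂⁆ : Subgroup G) : Set G)) := by
      refine Subgroup.mem_inf.mpr ⟨hE ▸ he, Subgroup.mem_inf.mpr ⟨?_, ?_⟩⟩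
      · rw [hZ₁, centralizer_zpowers_eq, Subgroup.mem_centralizer_iff]
        intro w hw
        rw [Set.mem_singleton_iff] at hw
        rw [hw]; exact h0.symm
      · rw [hZ₂, centralizer_zpowers_eq, Subgroup.mem_centralizer_iff]
        intro w hw
        rw [Set.mem_singleton_iff] at hw
        rw [hw]; exact h1.symm
    rw [hfaith, Subgroup.mem_bot] at this
    exact this
  obtain ⟨φ, -⟩ := sl2_of_generators u₀ u₁ α β m hm hcomm h₀ h₁' hind hα₀ hα₁ hβ₀ hβ₁ hf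
  exact ⟨(MulEquiv.subgroupCongr hE).trans φ⟩

theorem p_eq_two_or_three [Finite G] [hp : Fact p.Prime] (s : PairSetup p V L Q)
    {A₁ A₂ : Subgroup G} (h₁ : s.IsTr A₁) (h₂ : s.IsTr A₂) (hne : A₁ ≠ A₂) : p = 2 ∨ p = 3 := by
  by_cases hp2 : p = 2
  · exact Or.inl hp2
  right
  obtain ⟨φ⟩ := s.exists_sl2 h₁ h₂ hne
  obtain ⟨E, hE⟩ : ∃ E : Subgroup G, E = A₁ ⊔ A₂ := ⟨_, rfl⟩
  rw [← hE] at φ
  have hA₁E : A₁ ≤ E := hE ▸ le_sup_left
  obtain ⟨a, ha, ha1⟩ := exists_ne_one_of_card_prime h₁.hcard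
  have hA₁ := eq_zpowers_of_card_prime h₁.hcard ha ha1
  obtain ⟨Q', hQ'⟩ : ∃ Q' : Subgroup (Matrix.SpecialLinearGroup (Fin 2) (ZMod p)),
    Q' = ((E ⊓ Q).subgroupOf E).map φ.toMonoidHom := ⟨_, rfl⟩
  have hcardQ' : Nat.card Q' = Nat.card ↥(E ⊓ Q : Subgroup G) := by
    rw [hQ', Subgroup.card_map_of_injective φ.injective]
    exact Nat.card_congr (Subgroup.subgroupOfEquivOfLe inf_le_left).toEquiv
  have : CharP (ZMod p) p := ZMod.charP p
  refine eq_three_of_coprime_action (K := ZMod p) hp2 Q' ?_ (φ ⟨a, hA₁E ha⟩) ?_ ?_ ?_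
  · rw [hcardQ']
    exact Nat.Coprime.coprime_dvd_left (Subgroup.card_dvd_of_le inf_le_right) s.hQ
  · rw [← map_pow]
    have : (⟨a, hA₁E ha⟩ : ↥E) ^ p = 1 := by
      apply Subtype.ext
      rw [Subgroup.coe_pow, Subgroup.coe_one]
      have h1 : orderOf a ∣ p := by
        rw [← h₁.hcard, ← Subgroup.orderOf_mk a ha]; exact orderOf_dvd_natCard _
      exact orderOf_dvd_iff_pow_eq_one.mp h1
    rw [this, map_one]
  · rw [Subgroup.mem_normalizer_iff]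
    have hconj : ∀ g : ↥E, (g : G) ∈ A₁ → ∀ y ∈ Q', φ g * y * (φ g)⁻¹ ∈ Q' := by
      intro g hg y hy
      rw [hQ'] at hy ⊢
      obtain ⟨q, hq, rfl⟩ := hy
      refine ⟨g * q * g⁻¹, ?_, by simp⟩
      rw [SetLike.mem_coe, Subgroup.mem_subgroupOf] at hq ⊢
      refine ⟨(g * q * g⁻¹).2, ?_⟩
      have hgL : (g : G) ∈ L := h₁.hAL hg
      have := (Subgroup.mem_normalizer_iff.mp (s.hLQ hgL) (q : G)).mp hq.2
      simpa using this
    intro y
    constructor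
    · exact hconj ⟨a, hA₁E ha⟩ ha y
    · intro hy
      have := hconj ⟨a⁻¹, hA₁E (A₁.inv_mem ha)⟩ (A₁.inv_mem ha) _ hy
      have e : φ ⟨a⁻¹, hA₁E (A₁.inv_mem ha)⟩ = (φ ⟨a, hA₁E ha⟩)⁻¹ := by
        rw [← map_inv]; rfl
      rw [e] at this
      simpa [mul_assoc] using this
  · intro hcomm
    apply s.not_le_centralizer_inf h₁ h₂ hne
    rw [← hE, hA₁, Subgroup.zpowers_le, Subgroup.mem_centralizer_iff]
    intro q hq
    have hqE : q ∈ E := hq.1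
    have h1 : φ ⟨q, hqE⟩ ∈ Q' := by
      rw [hQ']
      exact ⟨⟨q, hqE⟩, Subgroup.mem_subgroupOf.mpr hq, rfl⟩
    have h2 := hcomm _ h1
    rw [← map_mul, ← map_mul] at h2
    have h3 := congrArg Subtype.val (φ.injective h2)
    exact h3.symm

end PairSetup

end Cfsg.Agent.Lib.Helper1.FF
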