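import Mathlib
import Cfsg.Agent.Lib.Helper1.FF7

/-! Conjugates of transvection groups; statement (d) of the structure theorem. -/
set_option autoImplicit false
universe u v
open Cfsg Matrix
open scoped commutatorElement Pointwise

namespace Cfsg.Agent.Lib.Helper1.FF

variable {G : Type u} [Group G] {p : ℕ}

theorem map_conj_eq_of_mem_normalizer' (V : Subgroup G) {g : G}
    (hg : g ∈ Subgroup.normalizer (V : Set G)) : V.map (MulAut.conj g).toMonoidHom = V := by
  ext x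
  constructor
  · rintro ⟨v, hv, rfl⟩
    exact (Subgroup.mem_normalizer_iff.mp hg v).mp hv
  · intro hx
    refine ⟨g⁻¹ * x * g, ?_, ?_⟩
    · have := (Subgroup.mem_normalizer_iff.mp (Subgroup.inv_mem _ hg) x).mp hx
      simpa using this
    · simp [MulAut.conj_apply, mul_assoc]

theorem commutator_map_conj (V A : Subgroup G) {g : G}
    (hg : g ∈ Subgroup.normalizer (V : Set G)) :
    ⁅V, A.map (MulAut.conj g).toMonoidHom⁆ = (⁅V, A⁆).map (MulAut.conj g).toMonoidHom := by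
  rw [Subgroup.map_commutator, map_conj_eq_of_mem_normalizer' V hg]

namespace PairSetup

variable {V L Q : Subgroup G}

theorem IsTr.conj {s : PairSetup p V L Q} {A : Subgroup G} (h : s.IsTr A) {g : G} (hg : g ∈ L) :
    s.IsTr (A.map (MulAut.conj g).toMonoidHom) where
  hAL := by
    rintro _ ⟨a, ha, rfl⟩
    exact L.mul_mem (L.mul_mem hg (h.hAL ha)) (L.inv_mem hg)
  hcard := by
    rw [Subgroup.card_map_of_injective (MulAut.conj g).injective, h.hcard]
  hZ := by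
    rw [commutator_map_conj V A (s.hLV hg),
      Subgroup.card_map_of_injective (MulAut.conj g).injective, h.hZ]

/-- a conjugate by an element of `Q` not centralizing `A` is a different group -/
theorem IsTr.conj_ne [Finite G] [hp : Fact p.Prime] {s : PairSetup p V L Q} {A : Subgroup G}
    (h : s.IsTr A) {x : G} (hx : x ∈ Q) (hxA : x ∉ Subgroup.centralizer (A : Set G)) :
    A ≠ A.map (MulAut.conj x).toMonoidHom := by
  intro heq
  apply hxA
  rw [Subgroup.mem_centralizer_iff]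
  intro a ha
  have h1 : x * a * x⁻¹ ∈ A := by
    rw [heq]; exact ⟨a, ha, rfl⟩
  have h2 : x * a * x⁻¹ * a⁻¹ ∈ A ⊓ Q := by
    refine Subgroup.mem_inf.mpr ⟨A.mul_mem h1 (A.inv_mem ha), ?_⟩
    have h3 : a * x⁻¹ * a⁻¹ ∈ Q :=
      (Subgroup.mem_normalizer_iff.mp (s.hLQ (h.hAL ha)) x⁻¹).mp (Q.inv_mem hx)
    have : x * a * x⁻¹ * a⁻¹ = x * (a * x⁻¹ * a⁻¹) := by group
    rw [this]
    exact Q.mul_mem hx h3
  rw [s.inf_Q_eq_bot h.isPGroup, Subgroup.mem_bot] at h2
  calc a * x = (x * a * x⁻¹ * a⁻¹)⁻¹ * x * a := by group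
    _ = x * a := by rw [h2, inv_one, one_mul]

end PairSetup

namespace Setup

variable {V H Q : Subgroup G}

theorem pairSetup [Finite G] [hp : Fact p.Prime] (s : Setup p V H Q) {A : Subgroup G}
    (hAH : A ≤ H) (hcard : Nat.card A = p) : PairSetup p V (Q ⊔ A) Q where
  hV := s.hV
  hLV := sup_le s.hQV (hAH.trans s.hHV)
  hf := by
    rw [eq_bot_iff, ← s.hf]
    exact inf_le_inf_right _ (sup_le s.hQH hAH)
  hQL := le_sup_left
  hLQ := (sup_le s.hQH hAH).trans s.hHQ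
  hQ := s.hQ
  hcard := by
    have h1 := GlaubermanRepl.card_sup_mul_card_inf_of_le_normalizer A Q (hAH.trans s.hHQ)
    have h2 : A ⊓ Q = ⊥ := by
      apply disjoint_iff.mp
      apply Subgroup.disjoint_of_coprime_natCard
      rw [hcard]
      exact s.hQ.symm
    rw [h2, Subgroup.card_bot, mul_one, hcard, sup_comm] at h1
    exact h1

theorem isTr_of_minimal [Finite G] [hp : Fact p.Prime] (s : Setup p V H Q) {A : Subgroup G}
    (hAH : A ≤ H) (hA : IsBestOffenderOn p V A) (hAV : ⁅V, A⁆ ≠ ⊥)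
    (hmin : ∀ B : Subgroup G, B ≤ A → IsBestOffenderOn p V B → ⁅V, B⁆ ≠ ⊥ → B = A) :
    (s.pairSetup hAH (s.minimal_bo hAH hA hAV hmin).1).IsTr A where
  hAL := le_sup_right
  hcard := (s.minimal_bo hAH hA hAV hmin).1
  hZ := (s.minimal_bo hAH hA hAV hmin).2.1

/-- (d) -/
theorem conj_pair [Finite G] [hp : Fact p.Prime] (s : Setup p V H Q) {A : Subgroup G}
    (hAH : A ≤ H) (hA : IsBestOffenderOn p V A) (hAV : ⁅V, A⁆ ≠ ⊥)
    (hmin : ∀ B : Subgroup G, B ≤ A → IsBestOffenderOn p V B → ⁅V, B⁆ ≠ ⊥ → B = A)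
    (x : G) (hx : x ∈ Q) (hxA : x ∉ Subgroup.centralizer (A : Set G)) :
    (p = 2 ∨ p = 3) ∧ Nat.card ↥(⁅V, A ⊔ A.map (MulAut.conj x).toMonoidHom⁆) = p ^ 2 ∧
    (A ⊔ A.map (MulAut.conj x).toMonoidHom) ⊓ Subgroup.centralizer
      ((⁅V, A ⊔ A.map (MulAut.conj x).toMonoidHom⁆ : Subgroup G) : Set G) = ⊥ ∧
    Nonempty (↥(A ⊔ A.map (MulAut.conj x).toMonoidHom) ≃*
      Matrix.SpecialLinearGroup (Fin 2) (ZMod p)) := by
  have ps := s.pairSetup hAH (s.minimal_bo hAH hA hAV hmin).1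
  have h₁ : ps.IsTr A := s.isTr_of_minimal hAH hA hAV hmin
  have h₂ : ps.IsTr (A.map (MulAut.conj x).toMonoidHom) := h₁.conj (ps.hQL hx)
  have hne := h₁.conj_ne hx hxA
  exact ⟨ps.p_eq_two_or_three h₁ h₂ hne, ps.card_commutator_sup h₁ h₂ hne,
    ps.sup_inf_centralizer h₁ h₂ hne, ps.exists_sl2 h₁ h₂ hne⟩

end Setup

end Cfsg.Agent.Lib.Helper1.FF
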