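import Mathlib
import Cfsg.Agent.Lib.Helper1.FF8

/-! Any two distinct transvection groups of `L` generate all of them. -/
set_option autoImplicit false
universe u v
open Cfsg Matrix
open scoped commutatorElement Pointwise

namespace Cfsg.Agent.Lib.Helper1.FF
open Cfsg.Agent.Lib.Helper1.QdA Cfsg.Agent.Lib.Helper1.SL2Three

variable {G : Type u} [Group G] {p : ℕ}

/-- `SL₂(p)` is transitive on nonzero vectors -/
theorem exists_sl2_mulVec_eq [hp : Fact p.Prime] (w : Fin 2 → ZMod p) (hw : w ≠ 0) :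
    ∃ M : Matrix.SpecialLinearGroup (Fin 2) (ZMod p),
      (M : Matrix (Fin 2) (Fin 2) (ZMod p)) *ᵥ ![1, 0] = w := by
  by_cases h0 : w 0 = 0
  · have h1 : w 1 ≠ 0 := by
      intro h1
      apply hw
      ext i
      fin_cases i
      · exact h0
      · exact h1
    refine ⟨⟨!![w 0, -(w 1)⁻¹; w 1, 0], ?_⟩, ?_⟩
    · rw [Matrix.det_fin_two_of]
      field_simp
      ring
    · ext i
      fin_cases i <;> simp [Matrix.mulVec, dotProduct, Fin.sum_univ_two]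
  · refine ⟨⟨!![w 0, 0; w 1, (w 0)⁻¹], ?_⟩, ?_⟩
    · rw [Matrix.det_fin_two_of]
      field_simp
      ring
    · ext i
      fin_cases i <;> simp [Matrix.mulVec, dotProduct, Fin.sum_univ_two]

namespace PairSetup

variable {V L Q : Subgroup G}

/-- every line of the plane of a pair is the centre of a conjugate of `A₁` -/
theorem exists_conj_center [Finite G] [hp : Fact p.Prime] (s : PairSetup p V L Q)
    {A₁ A₂ : Subgroup G} (h₁ : s.IsTr A₁) (h₂ : s.IsTr A₂) (hne : A₁ ≠ A₂)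
    {u : G} (hu : u ∈ ⁅V, A₁⁆ ⊔ ⁅V, A₂⁆) (hu1 : u ≠ 1) :
    ∃ e ∈ A₁ ⊔ A₂, ⁅V, A₁.map (MulAut.conj e).toMonoidHom⁆ = Subgroup.zpowers u := by
  have hfaith := s.sup_inf_centralizer h₁ h₂ hne
  rw [commutator_sup_eq h₁.hAV h₂.hAV, centralizer_sup_eq] at hfaith
  obtain ⟨u₀, u₁, α, β, m, hm, hcomm, h₀, h₁', hind, hα₀, hα₁, hβ₀, hβ₁, hA₁, hA₂, hZ₁, hZ₂⟩ :=
    s.exists_generators h₁ h₂ hne
  have hE : A₁ ⊔ A₂ = Subgroup.closure ({α, β} : Set G) := by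
    rw [hA₁, hA₂, sup_zpowers_eq_closure]
  have hf : ∀ e ∈ Subgroup.closure ({α, β} : Set G), e * u₀ = u₀ * e → e * u₁ = u₁ * e → e = 1 := by
    intro e he h0 h1
    have : e ∈ (A₁ ⊔ A₂) ⊓ (Subgroup.centralizer ((⁅V, A₁⁆ : Subgroup G) : Set G) ⊓
        Subgroup.centralizer ((⁅V, A₂⁆ : Subgroup G) : Set G)) := by
      refine Subgroup.mem_inf.mpr ⟨hE ▸ he, Subgroup.mem_inf.mpr ⟨?_, ?_⟩⟩
      · rw [hZ₁, centralizer_zpowers_eq, Subgroup.mem_centralizer_iff]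
        intro w hw
        rw [Set.mem_singleton_iff] at hw
        rw [hw]; exact h0.symm
      · rw [hZ₂, centralizer_zpowers_eq, Subgroup.mem_centralizer_iff]
        intro w hw
        rw [Set.mem_singleton_iff] at hw
        rw [hw]; exact h1.symm
    rw [hfaith, Subgroup.mem_bot] at this
    exact this
  obtain ⟨φ, hφ⟩ := sl2_of_generators u₀ u₁ α β m hm hcomm h₀ h₁' hind hα₀ hα₁ hβ₀ hβ₁ hf
  have hrange : ⁅V, A₁⁆ ⊔ ⁅V, A₂⁆ ≤ (planeHom u₀ u₁ hcomm h₀ h₁').range := by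
    rw [hZ₁, hZ₂]
    apply sup_le
    · rw [Subgroup.zpowers_le]
      exact ⟨_, planeHom_e0 u₀ u₁ hcomm h₀ h₁'⟩
    · rw [Subgroup.zpowers_le]
      exact ⟨_, planeHom_e1 u₀ u₁ hcomm h₀ h₁'⟩
  obtain ⟨v, hv⟩ := hrange hu
  have hw : Multiplicative.toAdd v ≠ 0 := by
    intro h
    apply hu1
    have : v = 1 := Multiplicative.toAdd.injective h
    rw [← hv, this, map_one]
  obtain ⟨M, hM⟩ := exists_sl2_mulVec_eq _ hw
  obtain ⟨e, he⟩ : ∃ e : ↥(Subgroup.closure ({α, β} : Set G)), e = φ.symm M := ⟨_, rfl⟩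
  have heE : (e : G) ∈ A₁ ⊔ A₂ := by rw [hE]; exact e.2
  have hconj : (e : G) * u₀ * (e : G)⁻¹ = u := by
    have h1 := hφ e (Multiplicative.ofAdd ![1, 0])
    rw [planeHom_e0, he, MulEquiv.apply_symm_apply, act_apply, toAdd_ofAdd, hM, ofAdd_toAdd, hv] at h1
    rw [← he] at h1
    exact h1
  refine ⟨(e : G), heE, ?_⟩
  have heL : (e : G) ∈ L := (sup_le h₁.hAL h₂.hAL) heE
  rw [commutator_map_conj V A₁ (s.hLV heL), hZ₁, MonoidHom.map_zpowers]
  congr 1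

theorem IsTr.card_centralizer [Finite G] [hp : Fact p.Prime] {s : PairSetup p V L Q}
    {A : Subgroup G} (h : s.IsTr A) :
    p * Nat.card ↥(V ⊓ Subgroup.centralizer (A : Set G)) = Nat.card V := by
  obtain ⟨a, ha, ha1⟩ := exists_ne_one_of_card_prime h.hcard
  have hA := eq_zpowers_of_card_prime h.hcard ha ha1
  have hVc : ∀ x ∈ V, ∀ y ∈ V, x * y = y * x :=
    fun x hx y hy => isElementaryAbelian_comm s.hV hx hy
  have h1 := card_commutator_zpowers V hVc a (h.hAV ha)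
  rw [← hA, h.hZ] at h1
  exact h1

/-- a plane in `V` contains a nontrivial fixed point of a transvection group -/
theorem IsTr.exists_fixed_in_plane [Finite G] [hp : Fact p.Prime] {s : PairSetup p V L Q}
    {A : Subgroup G} (h : s.IsTr A) {P : Subgroup G} (hPV : P ≤ V) (hP : Nat.card P = p ^ 2) :
    ∃ u ∈ P, u ∈ Subgroup.centralizer (A : Set G) ∧ u ≠ 1 := by
  obtain ⟨C, hC⟩ : ∃ C : Subgroup G, C = V ⊓ Subgroup.centralizer (A : Set G) := ⟨_, rfl⟩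
  have hCV : C ≤ V := hC ▸ inf_le_left
  have hn : P ≤ Subgroup.normalizer (C : Set G) := by
    apply Cfsg.Agent.Lib.Helper1.le_normalizer_of_conj_mem
    intro x hx b hb
    have : x * b = b * x := isElementaryAbelian_comm s.hV (hPV hx) (hCV hb)
    rw [this, mul_assoc, mul_inv_cancel, mul_one]; exact hb
  have h1 := GlaubermanRepl.card_sup_mul_card_inf_of_le_normalizer P C hn
  have h2 : Nat.card ↥(P ⊔ C : Subgroup G) ≤ Nat.card V :=
    Nat.le_of_dvd Nat.card_pos (Subgroup.card_dvd_of_le (sup_le hPV hCV))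
  have h3 := h.card_centralizer
  rw [← hC] at h3
  have hne : P ⊓ C ≠ ⊥ := by
    intro hbot
    rw [hbot, Subgroup.card_bot, mul_one, hP] at h1
    have hCpos : 0 < Nat.card C := Nat.card_pos
    have hp1 := hp.out.one_lt
    rw [h1, ← h3] at h2
    have : p * Nat.card C < p ^ 2 * Nat.card C := by
      apply Nat.mul_lt_mul_of_pos_right _ hCpos
      nlinarith
    omega
  obtain ⟨u, hu⟩ := (Subgroup.ne_bot_iff_exists_ne_one).mp hne
  have huP : (u : G) ∈ P := (inf_le_left : P ⊓ C ≤ P) u.2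
  have huC : (u : G) ∈ V ⊓ Subgroup.centralizer (A : Set G) := hC ▸ (inf_le_right : P ⊓ C ≤ C) u.2
  exact ⟨u, huP, (Subgroup.mem_inf.mp huC).2, fun h => hu (Subtype.ext h)⟩

theorem center_le_of_three [Finite G] [hp : Fact p.Prime] (s : PairSetup p V L Q)
    {A₀ A₁ A₂ : Subgroup G} (h₀ : s.IsTr A₀) (h₁ : s.IsTr A₁) (h₂ : s.IsTr A₂) (h01 : A₀ ≠ A₁) :
    ⁅V, A₂⁆ ≤ ⁅V, A₀⁆ ⊔ ⁅V, A₁⁆ := by
  by_contra hcon
  have h20 : A₂ ≠ A₀ := by
    intro h; apply hcon; rw [h]; exact le_sup_left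
  have h12 : A₁ ≠ A₂ := by
    intro h; apply hcon; rw [← h]; exact le_sup_right
  have hcard01 := s.card_commutator_sup h₀ h₁ h01
  have hcard12 := s.card_commutator_sup h₁ h₂ h12
  rw [commutator_sup_eq h₀.hAV h₁.hAV] at hcard01
  rw [commutator_sup_eq h₁.hAV h₂.hAV] at hcard12
  have hdisj : ⁅V, A₀⁆ ⊓ (⁅V, A₁⁆ ⊔ ⁅V, A₂⁆) = ⊥ := by
    rcases eq_bot_or_eq_of_le_of_card_prime
      (inf_le_left : ⁅V, A₀⁆ ⊓ (⁅V, A₁⁆ ⊔ ⁅V, A₂⁆) ≤ ⁅V, A₀⁆) h₀.hZ with h | h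
    · exact h
    · exfalso
      have h3 : ⁅V, A₀⁆ ≤ ⁅V, A₁⁆ ⊔ ⁅V, A₂⁆ := by rw [← h]; exact inf_le_right
      have h4 : ⁅V, A₀⁆ ⊔ ⁅V, A₁⁆ = ⁅V, A₁⁆ ⊔ ⁅V, A₂⁆ :=
        Subgroup.eq_of_le_of_card_ge (sup_le h3 le_sup_left) (by rw [hcard01, hcard12])
      apply hcon
      rw [h4]; exact le_sup_right
  obtain ⟨u, huP, huC, hu1⟩ := h₀.exists_fixed_in_plane
    (sup_le h₁.commutator_le h₂.commutator_le) hcard12
  obtain ⟨e, he, hcen⟩ := s.exists_conj_center h₁ h₂ h12 huP hu1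
  have heL : e ∈ L := (sup_le h₁.hAL h₂.hAL) he
  have hB : s.IsTr (A₁.map (MulAut.conj e).toMonoidHom) := h₁.conj heL
  have hBne : A₀ ≠ A₁.map (MulAut.conj e).toMonoidHom := by
    intro h
    apply hu1
    have : u ∈ ⁅V, A₀⁆ ⊓ (⁅V, A₁⁆ ⊔ ⁅V, A₂⁆) := by
      refine Subgroup.mem_inf.mpr ⟨?_, huP⟩
      rw [h, hcen]; exact Subgroup.mem_zpowers u
    rw [hdisj, Subgroup.mem_bot] at this
    exact this
  have hfaith := s.sup_inf_centralizer h₀ hB hBne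
  rw [commutator_sup_eq h₀.hAV hB.hAV, centralizer_sup_eq, hcen] at hfaith
  have hA₀ : A₀ ≤ ⊥ := by
    rw [← hfaith]
    intro a ha
    refine Subgroup.mem_inf.mpr ⟨(le_sup_left : A₀ ≤ _) ha, Subgroup.mem_inf.mpr ⟨?_, ?_⟩⟩
    · rw [Subgroup.mem_centralizer_iff]
      intro w hw
      exact ((Subgroup.mem_centralizer_iff.mp (h₀.quad hw)) a ha).symm
    · rw [centralizer_zpowers_eq, Subgroup.mem_centralizer_iff]
      intro w hw
      rw [Set.mem_singleton_iff] at hw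
      rw [hw]
      exact ((Subgroup.mem_centralizer_iff.mp huC) a ha).symm
  have : Nat.card A₀ = 1 := by
    rw [le_bot_iff.mp hA₀, Subgroup.card_bot]
  rw [h₀.hcard] at this
  exact hp.out.one_lt.ne' this

/-- every transvection group of `L` lies in the group generated by any two distinct ones -/
theorem le_sup_of_isTr [Finite G] [hp : Fact p.Prime] (s : PairSetup p V L Q)
    {A₀ A₁ A₂ : Subgroup G} (h₀ : s.IsTr A₀) (h₁ : s.IsTr A₁) (h₂ : s.IsTr A₂) (h01 : A₀ ≠ A₁) :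
    A₂ ≤ A₀ ⊔ A₁ := by
  have hle := s.center_le_of_three h₀ h₁ h₂ h01
  obtain ⟨u, hu, hu1⟩ := exists_ne_one_of_card_prime h₂.hZ
  have hZ₂ := eq_zpowers_of_card_prime h₂.hZ hu hu1
  obtain ⟨e, he, hcen⟩ := s.exists_conj_center h₀ h₁ h01 (hle hu) hu1
  have heL : e ∈ L := (sup_le h₀.hAL h₁.hAL) he
  have hB : s.IsTr (A₀.map (MulAut.conj e).toMonoidHom) := h₀.conj heL
  have hBeq : A₀.map (MulAut.conj e).toMonoidHom = A₂ := by
    by_contra hne
    exact s.centers_ne hB h₂ hne (hcen.trans hZ₂.symm)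
  rw [← hBeq]
  rintro _ ⟨a, ha, rfl⟩
  exact Subgroup.mul_mem _ (Subgroup.mul_mem _ he ((le_sup_left : A₀ ≤ _) ha)) (Subgroup.inv_mem _ he)

end PairSetup

end Cfsg.Agent.Lib.Helper1.FF
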