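import Mathlib
import Cfsg.Agent.Lib.Helper1.FF9

/-! Transvection groups in `H`: the groups `E_A = [Q,A]A`. -/
set_option autoImplicit false
universe u v
open Cfsg Matrix
open scoped commutatorElement Pointwise

namespace Cfsg.Agent.Lib.Helper1.FF

variable {G : Type u} [Group G] {p : ℕ}

theorem conj_mem_sup_commutator {Q A : Subgroup G} {y a : G} (hy : y ∈ Q) (ha : a ∈ A) :
    y * a * y⁻¹ ∈ ⁅Q, A⁆ ⊔ A := by
  have : y * a * y⁻¹ = ⁅y, a⁆ * a := by rw [commutatorElement_def]; group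
  rw [this]
  exact Subgroup.mul_mem_sup (Subgroup.commutator_mem_commutator hy ha) ha

theorem le_normalizer_sup_commutator (Q A : Subgroup G) :
    Q ≤ Subgroup.normalizer ((⁅Q, A⁆ ⊔ A : Subgroup G) : Set G) := by
  apply Cfsg.Agent.Lib.Helper1.le_normalizer_of_conj_mem
  intro y hy e he
  have h1 : (⁅Q, A⁆ ⊔ A).map (MulAut.conj y).toMonoidHom ≤ ⁅Q, A⁆ ⊔ A := by
    rw [Subgroup.map_sup]
    apply sup_le
    · rintro _ ⟨n, hn, rfl⟩
      apply (le_sup_left : ⁅Q, A⁆ ≤ ⁅Q, A⁆ ⊔ A)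
      exact (Subgroup.mem_normalizer_iff.mp (le_normalizer_commutator_left Q A hy) n).mp hn
    · rintro _ ⟨a, ha, rfl⟩
      exact conj_mem_sup_commutator hy ha
  exact h1 ⟨e, he, rfl⟩

namespace Setup

variable {V H Q : Subgroup G}

/-- a transvection group in `H` -/
structure IsTrH (s : Setup p V H Q) (A : Subgroup G) : Prop where
  hAH : A ≤ H
  hcard : Nat.card A = p
  hZ : Nat.card ↥(⁅V, A⁆) = p

theorem isTrH_of_minimal [Finite G] [hp : Fact p.Prime] (s : Setup p V H Q) {A : Subgroup G}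
    (hAH : A ≤ H) (hA : IsBestOffenderOn p V A) (hAV : ⁅V, A⁆ ≠ ⊥)
    (hmin : ∀ B : Subgroup G, B ≤ A → IsBestOffenderOn p V B → ⁅V, B⁆ ≠ ⊥ → B = A) :
    s.IsTrH A :=
  ⟨hAH, (s.minimal_bo hAH hA hAV hmin).1, (s.minimal_bo hAH hA hAV hmin).2.1⟩

variable {s : Setup p V H Q} {A : Subgroup G}

theorem IsTrH.pair [Finite G] [hp : Fact p.Prime] (h : s.IsTrH A) : PairSetup p V (Q ⊔ A) Q :=
  s.pairSetup h.hAH h.hcard

theorem IsTrH.isTr [Finite G] [hp : Fact p.Prime] (h : s.IsTrH A) : h.pair.IsTr A :=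
  ⟨le_sup_right, h.hcard, h.hZ⟩

theorem IsTrH.hLH (h : s.IsTrH A) : Q ⊔ A ≤ H := sup_le s.hQH h.hAH

theorem IsTrH.conj (h : s.IsTrH A) {g : G} (hg : g ∈ H) :
    s.IsTrH (A.map (MulAut.conj g).toMonoidHom) where
  hAH := by
    rintro _ ⟨a, ha, rfl⟩
    exact H.mul_mem (H.mul_mem hg (h.hAH ha)) (H.inv_mem hg)
  hcard := by
    rw [Subgroup.card_map_of_injective (MulAut.conj g).injective, h.hcard]
  hZ := by
    rw [commutator_map_conj V A (s.hHV hg),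
      Subgroup.card_map_of_injective (MulAut.conj g).injective, h.hZ]

theorem IsTrH.pow_eq_one [hp : Fact p.Prime] (h : s.IsTrH A) : ∀ a ∈ A, a ^ p = 1 := by
  intro a ha
  have h1 : orderOf a ∣ p := by
    rw [← h.hcard, ← Subgroup.orderOf_mk a ha]; exact orderOf_dvd_natCard _
  exact orderOf_dvd_iff_pow_eq_one.mp h1

theorem IsTrH.ne_bot [hp : Fact p.Prime] (h : s.IsTrH A) : A ≠ ⊥ := by
  intro h0
  have := h.hcard
  rw [h0, Subgroup.card_bot] at this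
  exact hp.out.one_lt.ne this

theorem IsTrH.exists_not_centralizer [Finite G] [hp : Fact p.Prime] (h : s.IsTrH A) :
    ∃ x ∈ Q, x ∉ Subgroup.centralizer (A : Set G) := by
  by_contra hcon
  push Not at hcon
  apply h.ne_bot
  rw [eq_bot_iff, ← s.inf_centralizer_eq_bot h.hAH h.pow_eq_one]
  intro a ha
  refine Subgroup.mem_inf.mpr ⟨ha, ?_⟩
  rw [Subgroup.mem_centralizer_iff]
  intro x hx
  exact ((Subgroup.mem_centralizer_iff.mp (hcon x hx)) a ha).symm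

/-- (e): `[Q,A]A` is generated by `A` and any conjugate under a non-centralizing element -/
theorem IsTrH.E_eq [Finite G] [hp : Fact p.Prime] (h : s.IsTrH A) {x : G} (hx : x ∈ Q)
    (hxA : x ∉ Subgroup.centralizer (A : Set G)) :
    ⁅Q, A⁆ ⊔ A = A ⊔ A.map (MulAut.conj x).toMonoidHom := by
  have hne := h.isTr.conj_ne hx hxA
  have hx' : h.pair.IsTr (A.map (MulAut.conj x).toMonoidHom) := h.isTr.conj (h.pair.hQL hx)
  apply le_antisymm
  · apply sup_le _ le_sup_left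
    rw [Subgroup.commutator_le]
    intro y hy a ha
    have hy' : h.pair.IsTr (A.map (MulAut.conj y).toMonoidHom) := h.isTr.conj (h.pair.hQL hy)
    have h1 := h.pair.le_sup_of_isTr h.isTr hx' hy' hne
    have h2 : y * a * y⁻¹ ∈ A ⊔ A.map (MulAut.conj x).toMonoidHom := h1 ⟨a, ha, rfl⟩
    have : ⁅y, a⁆ = (y * a * y⁻¹) * a⁻¹ := by rw [commutatorElement_def]
    rw [this]
    exact Subgroup.mul_mem _ h2 (Subgroup.inv_mem _ ((le_sup_left : A ≤ _) ha))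
  · apply sup_le le_sup_right
    rintro _ ⟨a, ha, rfl⟩
    exact conj_mem_sup_commutator hx ha

/-- every transvection group of `QA` lies in `[Q,A]A` -/
theorem IsTrH.le_E_of_isTr [Finite G] [hp : Fact p.Prime] (h : s.IsTrH A) {B : Subgroup G}
    (hB : h.pair.IsTr B) : B ≤ ⁅Q, A⁆ ⊔ A := by
  obtain ⟨x, hx, hxA⟩ := h.exists_not_centralizer
  rw [h.E_eq hx hxA]
  exact h.pair.le_sup_of_isTr h.isTr (h.isTr.conj (h.pair.hQL hx)) hB (h.isTr.conj_ne hx hxA)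

theorem IsTrH.p23 [Finite G] [hp : Fact p.Prime] (h : s.IsTrH A) : p = 2 ∨ p = 3 := by
  obtain ⟨x, hx, hxA⟩ := h.exists_not_centralizer
  exact h.pair.p_eq_two_or_three h.isTr (h.isTr.conj (h.pair.hQL hx)) (h.isTr.conj_ne hx hxA)

theorem IsTrH.sl2 [Finite G] [hp : Fact p.Prime] (h : s.IsTrH A) :
    Nonempty (↥(⁅Q, A⁆ ⊔ A : Subgroup G) ≃* Matrix.SpecialLinearGroup (Fin 2) (ZMod p)) := by
  obtain ⟨x, hx, hxA⟩ := h.exists_not_centralizer
  rw [h.E_eq hx hxA]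
  exact h.pair.exists_sl2 h.isTr (h.isTr.conj (h.pair.hQL hx)) (h.isTr.conj_ne hx hxA)

theorem IsTrH.card_W [Finite G] [hp : Fact p.Prime] (h : s.IsTrH A) :
    Nat.card ↥(⁅V, ⁅Q, A⁆ ⊔ A⁆) = p ^ 2 := by
  obtain ⟨x, hx, hxA⟩ := h.exists_not_centralizer
  rw [h.E_eq hx hxA]
  exact h.pair.card_commutator_sup h.isTr (h.isTr.conj (h.pair.hQL hx)) (h.isTr.conj_ne hx hxA)

theorem IsTrH.faithful [Finite G] [hp : Fact p.Prime] (h : s.IsTrH A) :
    (⁅Q, A⁆ ⊔ A) ⊓ Subgroup.centralizer ((⁅V, ⁅Q, A⁆ ⊔ A⁆ : Subgroup G) : Set G) = ⊥ := by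
  obtain ⟨x, hx, hxA⟩ := h.exists_not_centralizer
  rw [h.E_eq hx hxA]
  exact h.pair.sup_inf_centralizer h.isTr (h.isTr.conj (h.pair.hQL hx)) (h.isTr.conj_ne hx hxA)

theorem IsTrH.E_le_L (h : s.IsTrH A) : ⁅Q, A⁆ ⊔ A ≤ Q ⊔ A := by
  apply sup_le _ le_sup_right
  have : ⁅Q, A⁆ ≤ Q := by
    apply commutator_le_of_le_normalizer
    exact h.hAH.trans s.hHQ
  exact this.trans le_sup_left

end Setup

end Cfsg.Agent.Lib.Helper1.FF
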