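import Mathlib
import Cfsg.Agent.Lib.Helper1.FF10

/-! The planes `W_A = [V, E_A]`: irreducibility under `Q`. -/
set_option autoImplicit false
universe u v
open Cfsg Matrix
open scoped commutatorElement Pointwise

namespace Cfsg.Agent.Lib.Helper1.FF

variable {G : Type u} [Group G] {p : ℕ}

theorem sup_commutator_le_of_le {Q A K : Subgroup G} (hAK : A ≤ K)
    (hQK : Q ≤ Subgroup.normalizer (K : Set G)) : ⁅Q, A⁆ ⊔ A ≤ K := by
  apply sup_le _ hAK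
  rw [Subgroup.commutator_le]
  intro y hy a ha
  have h1 : y * a * y⁻¹ ∈ K := (Subgroup.mem_normalizer_iff.mp (hQK hy) a).mp (hAK ha)
  rw [commutatorElement_def]
  exact K.mul_mem h1 (K.inv_mem (hAK ha))

theorem card_eq_of_dvd_prime_sq [hp : Fact p.Prime] {n : ℕ} (h : n ∣ p ^ 2) :
    n = 1 ∨ n = p ∨ n = p ^ 2 := by
  obtain ⟨k, hk, rfl⟩ := (Nat.dvd_prime_pow hp.out).mp h
  interval_cases k
  · left; simp
  · right; left; simp
  · right; right; rfl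

namespace Setup

variable {V H Q : Subgroup G} {s : Setup p V H Q} {A : Subgroup G}

theorem IsTrH.Q_le_normalizer_E (_h : s.IsTrH A) :
    Q ≤ Subgroup.normalizer ((⁅Q, A⁆ ⊔ A : Subgroup G) : Set G) :=
  le_normalizer_sup_commutator Q A

theorem IsTrH.E_le_H (h : s.IsTrH A) : ⁅Q, A⁆ ⊔ A ≤ H := h.E_le_L.trans h.hLH

theorem IsTrH.W_le_V (h : s.IsTrH A) : ⁅V, ⁅Q, A⁆ ⊔ A⁆ ≤ V :=
  commutator_le_of_le_normalizer _ _ (h.E_le_H.trans s.hHV)

theorem IsTrH.Q_le_normalizer_W (h : s.IsTrH A) :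
    Q ≤ Subgroup.normalizer ((⁅V, ⁅Q, A⁆ ⊔ A⁆ : Subgroup G) : Set G) :=
  le_normalizer_commutator s.hQV h.Q_le_normalizer_E

theorem IsTrH.center_le_W (_h : s.IsTrH A) : ⁅V, A⁆ ≤ ⁅V, ⁅Q, A⁆ ⊔ A⁆ :=
  Subgroup.commutator_mono le_rfl le_sup_right

/-- transvection groups of `H` inside `QA` have the same `E` -/
theorem IsTrH.E_eq_of_le [Finite G] [hp : Fact p.Prime] (h : s.IsTrH A) {B : Subgroup G}
    (hB : s.IsTrH B) (hBL : B ≤ Q ⊔ A) : ⁅Q, B⁆ ⊔ B = ⁅Q, A⁆ ⊔ A := by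
  have hBtr : h.pair.IsTr B := ⟨hBL, hB.hcard, hB.hZ⟩
  have hL : Q ⊔ B = Q ⊔ A := by
    apply Subgroup.eq_of_le_of_card_ge (sup_le le_sup_left hBL)
    rw [h.pair.hcard, hB.pair.hcard]
  have hAtr : hB.pair.IsTr A := ⟨hL ▸ le_sup_right, h.hcard, h.hZ⟩
  apply le_antisymm
  · exact sup_commutator_le_of_le (h.le_E_of_isTr hBtr) h.Q_le_normalizer_E
  · exact sup_commutator_le_of_le (hB.le_E_of_isTr hAtr) hB.Q_le_normalizer_E

/-- every line of `W_A` is the centre of a conjugate of `A` -/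
theorem IsTrH.exists_conj_center [Finite G] [hp : Fact p.Prime] (h : s.IsTrH A) {u : G}
    (hu : u ∈ ⁅V, ⁅Q, A⁆ ⊔ A⁆) (hu1 : u ≠ 1) :
    ∃ e ∈ ⁅Q, A⁆ ⊔ A, ⁅V, A.map (MulAut.conj e).toMonoidHom⁆ = Subgroup.zpowers u := by
  obtain ⟨x, hx, hxA⟩ := h.exists_not_centralizer
  have hx' : h.pair.IsTr (A.map (MulAut.conj x).toMonoidHom) := h.isTr.conj (h.pair.hQL hx)
  rw [h.E_eq hx hxA] at hu ⊢
  rw [commutator_sup_eq h.isTr.hAV hx'.hAV] at hu
  exact h.pair.exists_conj_center h.isTr hx' (h.isTr.conj_ne hx hxA) hu hu1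

/-- `W_A` is irreducible under `Q` -/
theorem IsTrH.irreducible [Finite G] [hp : Fact p.Prime] (h : s.IsTrH A) {U : Subgroup G}
    (hUW : U ≤ ⁅V, ⁅Q, A⁆ ⊔ A⁆) (hQU : Q ≤ Subgroup.normalizer (U : Set G)) :
    U = ⊥ ∨ U = ⁅V, ⁅Q, A⁆ ⊔ A⁆ := by
  have hdvd : Nat.card U ∣ p ^ 2 := h.card_W ▸ Subgroup.card_dvd_of_le hUW
  rcases card_eq_of_dvd_prime_sq hdvd with h1 | h1 | h1
  · exact Or.inl (Subgroup.card_eq_one.mp h1)
  · exfalso
    obtain ⟨u, hu, hu1⟩ := exists_ne_one_of_card_prime h1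
    have hUz := eq_zpowers_of_card_prime h1 hu hu1
    obtain ⟨e, he, hcen⟩ := h.exists_conj_center (hUW hu) hu1
    have heL : e ∈ Q ⊔ A := h.E_le_L he
    have hB : h.pair.IsTr (A.map (MulAut.conj e).toMonoidHom) := h.isTr.conj heL
    obtain ⟨B, hBdef⟩ : ∃ B : Subgroup G, B = A.map (MulAut.conj e).toMonoidHom := ⟨_, rfl⟩
    rw [← hBdef] at hB hcen
    have hBH : B ≤ H := hB.hAL.trans h.hLH
    have hBQ : Q ≤ Subgroup.centralizer (B : Set G) := by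
      intro y hy
      by_contra hyB
      have hne := hB.conj_ne hy hyB
      have hBy : h.pair.IsTr (B.map (MulAut.conj y).toMonoidHom) := hB.conj (h.pair.hQL hy)
      apply h.pair.centers_ne hB hBy hne
      rw [commutator_map_conj V B (s.hQV hy), hcen, ← hUz]
      exact (map_conj_eq_of_mem_normalizer' U (hQU hy)).symm
    have hBbot : B = ⊥ := by
      rw [eq_bot_iff, ← s.inf_centralizer_eq_bot hBH (fun b hb => by
        have h1 : orderOf b ∣ p := by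
          rw [← hB.hcard, ← Subgroup.orderOf_mk b hb]; exact orderOf_dvd_natCard _
        exact orderOf_dvd_iff_pow_eq_one.mp h1)]
      intro b hb
      refine Subgroup.mem_inf.mpr ⟨hb, ?_⟩
      rw [Subgroup.mem_centralizer_iff]
      intro y hy
      exact ((Subgroup.mem_centralizer_iff.mp (hBQ hy)) b hb).symm
    have := hB.hcard
    rw [hBbot, Subgroup.card_bot] at this
    exact hp.out.one_lt.ne this
  · exact Or.inr (Subgroup.eq_of_le_of_card_ge hUW (by rw [h1, h.card_W]))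

/-- two planes are equal or meet trivially -/
theorem IsTrH.W_inf [Finite G] [hp : Fact p.Prime] (h : s.IsTrH A) {B : Subgroup G}
    (hB : s.IsTrH B) (hne : ⁅V, ⁅Q, A⁆ ⊔ A⁆ ≠ ⁅V, ⁅Q, B⁆ ⊔ B⁆) :
    ⁅V, ⁅Q, A⁆ ⊔ A⁆ ⊓ ⁅V, ⁅Q, B⁆ ⊔ B⁆ = ⊥ := by
  rcases h.irreducible (inf_le_left : ⁅V, ⁅Q, A⁆ ⊔ A⁆ ⊓ ⁅V, ⁅Q, B⁆ ⊔ B⁆ ≤ _)
    (Cfsg.Agent.Lib.Helper1.le_normalizer_inf h.Q_le_normalizer_W hB.Q_le_normalizer_W) with h1 | h1
  · exact h1
  · exfalso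
    apply hne
    apply Subgroup.eq_of_le_of_card_ge
    · rw [← h1]; exact inf_le_right
    · rw [h.card_W, hB.card_W]

end Setup

end Cfsg.Agent.Lib.Helper1.FF
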