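import Mathlib
import Cfsg.Agent.Lib.Helper1.FF11

/-! The planes `W_A` are `H`-invariant; two groups `E_A`, `E_B` are equal or commute. -/
set_option autoImplicit false
universe u v
open Cfsg Matrix
open scoped commutatorElement Pointwise

namespace Cfsg.Agent.Lib.Helper1.FF

variable {G : Type u} [Group G] {p : ℕ}

theorem normalizer_le_normalizer_centralizer (W : Subgroup G) :
    Subgroup.normalizer (W : Set G) ≤
      Subgroup.normalizer ((Subgroup.centralizer (W : Set G) : Subgroup G) : Set G) := by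
  apply Cfsg.Agent.Lib.Helper1.le_normalizer_of_conj_mem
  intro g hg c hc
  rw [Subgroup.mem_centralizer_iff] at hc ⊢
  intro w hw
  have hw' : g⁻¹ * w * g ∈ W := by
    have := (Subgroup.mem_normalizer_iff.mp (Subgroup.inv_mem _ hg) w).mp hw
    simpa using this
  have h1 := hc _ hw'
  calc w * (g * c * g⁻¹) = g * ((g⁻¹ * w * g) * c) * g⁻¹ := by group
    _ = g * (c * (g⁻¹ * w * g)) * g⁻¹ := by rw [h1]
    _ = _ := by group

theorem card_sup_mul_card_inf_of_le_abelian {V X Y : Subgroup G}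
    (hVc : ∀ x ∈ V, ∀ y ∈ V, x * y = y * x) (hX : X ≤ V) (hY : Y ≤ V) :
    Nat.card ↥(X ⊔ Y : Subgroup G) * Nat.card ↥(X ⊓ Y : Subgroup G) = Nat.card X * Nat.card Y := by
  apply GlaubermanRepl.card_sup_mul_card_inf_of_le_normalizer
  apply Cfsg.Agent.Lib.Helper1.le_normalizer_of_conj_mem
  intro x hx b hb
  have : x * b = b * x := hVc x (hX hx) b (hY hb)
  rw [this, mul_assoc, mul_inv_cancel, mul_one]; exact hb

namespace Setup

variable {V H Q : Subgroup G} {s : Setup p V H Q} {A : Subgroup G}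

/-- `H` is generated by its transvection groups -/
theorem le_of_forall_isTrH [Finite G] [hp : Fact p.Prime] (s : Setup p V H Q)
    (hS3 : H = ⨆ A : {A : Subgroup G // A ≤ H ∧ IsBestOffenderOn p V A}, (A : Subgroup G))
    {K : Subgroup G} (hK : ∀ B, s.IsTrH B → B ≤ K) : H ≤ K := by
  refine hS3.le.trans (iSup_le ?_)
  rintro ⟨A, hAH, hA⟩
  change A ≤ K
  by_cases hA1 : A = ⊥
  · rw [hA1]; exact bot_le
  · obtain ⟨k, B, hB, -, hsup⟩ := s.exists_decomp hAH hA hA1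
    rw [← hsup]
    apply iSup_le
    intro i
    obtain ⟨h1, h2, h3, h4⟩ := hB i
    exact hK _ (s.isTrH_of_minimal (h1.trans hAH) h2 h3 h4)

/-- a transvection group of `H` normalizes every plane `W_A` -/
theorem IsTrH.le_normalizer_W [Finite G] [hp : Fact p.Prime] (h : s.IsTrH A) {B : Subgroup G}
    (hB : s.IsTrH B) : B ≤ Subgroup.normalizer ((⁅V, ⁅Q, A⁆ ⊔ A⁆ : Subgroup G) : Set G) := by
  obtain ⟨W, hW⟩ : ∃ W : Subgroup G, W = ⁅V, ⁅Q, A⁆ ⊔ A⁆ := ⟨_, rfl⟩
  rw [← hW]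
  have hWV : W ≤ V := hW ▸ h.W_le_V
  have hcardW : Nat.card W = p ^ 2 := hW ▸ h.card_W
  have hQW : Q ≤ Subgroup.normalizer (W : Set G) := hW ▸ h.Q_le_normalizer_W
  have hVc : ∀ x ∈ V, ∀ y ∈ V, x * y = y * x :=
    fun x hx y hy => isElementaryAbelian_comm s.hV hx hy
  have key : ∀ b ∈ B, W.map (MulAut.conj b).toMonoidHom = W := by
    intro b hb
    obtain ⟨W', hW'⟩ : ∃ W' : Subgroup G, W' = W.map (MulAut.conj b).toMonoidHom := ⟨_, rfl⟩
    rw [← hW']
    have hbH : b ∈ H := hB.hAH hb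
    have hcardW' : Nat.card W' = p ^ 2 := by
      rw [hW', Subgroup.card_map_of_injective (MulAut.conj b).injective, hcardW]
    have hW'V : W' ≤ V := by
      rw [hW']
      rintro _ ⟨w, hw, rfl⟩
      exact (Subgroup.mem_normalizer_iff.mp (s.hHV hbH) w).mp (hWV hw)
    have hQW' : Q ≤ Subgroup.normalizer (W' : Set G) := by
      apply Cfsg.Agent.Lib.Helper1.le_normalizer_of_conj_mem
      intro y hy w' hw'
      rw [hW'] at hw' ⊢
      obtain ⟨w, hw, rfl⟩ := hw'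
      have hy' : b⁻¹ * y * b ∈ Q := by
        have := (Subgroup.mem_normalizer_iff.mp (s.hHQ (H.inv_mem hbH)) y).mp hy
        simpa using this
      have hw2 : (b⁻¹ * y * b) * w * (b⁻¹ * y * b)⁻¹ ∈ W :=
        (Subgroup.mem_normalizer_iff.mp (hQW hy') w).mp hw
      refine ⟨_, hw2, ?_⟩
      simp only [MulEquiv.coe_toMonoidHom, MulAut.conj_apply]
      group
    have hW'le : W' ≤ W ⊔ ⁅V, B⁆ := by
      rw [hW']
      rintro _ ⟨w, hw, rfl⟩
      have : (MulAut.conj b).toMonoidHom w = (⁅w, b⁆)⁻¹ * w := by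
        simp only [MulEquiv.coe_toMonoidHom, MulAut.conj_apply, commutatorElement_def]
        group
      rw [this]
      exact Subgroup.mul_mem_sup (Subgroup.inv_mem _
        (Subgroup.commutator_mem_commutator (hWV hw) hb)) hw |> fun h => by
          rw [sup_comm]; exact h
    have hZBV : ⁅V, B⁆ ≤ V := commutator_le_of_le_normalizer _ _ (hB.hAH.trans s.hHV)
    have c1 := card_sup_mul_card_inf_of_le_abelian hVc hWV hZBV
    rw [hcardW, hB.hZ] at c1
    have c2 := card_sup_mul_card_inf_of_le_abelian hVc hWV hW'V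
    rw [hcardW, hcardW'] at c2
    have hle : Nat.card ↥(W ⊔ W' : Subgroup G) ≤ Nat.card ↥(W ⊔ ⁅V, B⁆ : Subgroup G) :=
      Nat.le_of_dvd Nat.card_pos (Subgroup.card_dvd_of_le (sup_le le_sup_left hW'le))
    have hle2 : Nat.card ↥(W ⊔ ⁅V, B⁆ : Subgroup G) ≤ p ^ 2 * p := by
      rw [← c1]
      exact Nat.le_mul_of_pos_right _ Nat.card_pos
    have hne : W ⊓ W' ≠ ⊥ := by
      intro hbot
      rw [hbot, Subgroup.card_bot, mul_one] at c2
      have hp1 := hp.out.one_lt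
      have : p ^ 2 * p ^ 2 ≤ p ^ 2 * p := by rw [← c2]; exact hle.trans hle2
      have h3 : p ^ 2 ≤ p := Nat.le_of_mul_le_mul_left this (by positivity)
      nlinarith
    have hirr : W ⊓ W' = W := by
      have := h.irreducible (U := W ⊓ W') (hW ▸ inf_le_left)
        (Cfsg.Agent.Lib.Helper1.le_normalizer_inf hQW hQW')
      rcases this with h1 | h1
      · exact absurd h1 hne
      · rw [h1, hW]
    symm
    apply Subgroup.eq_of_le_of_card_ge
    · rw [← hirr]; exact inf_le_right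
    · rw [hcardW, hcardW']
  apply Cfsg.Agent.Lib.Helper1.le_normalizer_of_conj_mem
  intro b hb w hw
  have := key b hb
  rw [← this]
  exact ⟨w, hw, rfl⟩

theorem IsTrH.H_le_normalizer_W [Finite G] [hp : Fact p.Prime] (h : s.IsTrH A)
    (hS3 : H = ⨆ A : {A : Subgroup G // A ≤ H ∧ IsBestOffenderOn p V A}, (A : Subgroup G)) :
    H ≤ Subgroup.normalizer ((⁅V, ⁅Q, A⁆ ⊔ A⁆ : Subgroup G) : Set G) :=
  s.le_of_forall_isTrH hS3 (fun _ hB => h.le_normalizer_W hB)

/-- groups with different planes centralize each other's plane -/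
theorem IsTrH.E_le_centralizer_W [Finite G] [hp : Fact p.Prime] (h : s.IsTrH A) {B : Subgroup G}
    (hB : s.IsTrH B) (hne : ⁅V, ⁅Q, A⁆ ⊔ A⁆ ≠ ⁅V, ⁅Q, B⁆ ⊔ B⁆) :
    ⁅Q, B⁆ ⊔ B ≤ Subgroup.centralizer ((⁅V, ⁅Q, A⁆ ⊔ A⁆ : Subgroup G) : Set G) := by
  apply sup_commutator_le_of_le
  · apply le_centralizer_of_commutator_eq_bot
    rw [eq_bot_iff, ← h.W_inf hB hne]
    apply le_inf
    · exact Subgroup.le_normalizer_iff_commutator_le_left.mp (h.le_normalizer_W hB)
    · exact (Subgroup.commutator_mono h.W_le_V le_rfl).trans hB.center_le_W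
  · exact h.Q_le_normalizer_W.trans (normalizer_le_normalizer_centralizer _)

theorem IsTrH.commutator_E_eq_bot [Finite G] [hp : Fact p.Prime] (h : s.IsTrH A) {B : Subgroup G}
    (hB : s.IsTrH B) (hne : ⁅V, ⁅Q, A⁆ ⊔ A⁆ ≠ ⁅V, ⁅Q, B⁆ ⊔ B⁆) :
    ⁅⁅Q, A⁆ ⊔ A, ⁅Q, B⁆ ⊔ B⁆ = ⊥ := by
  have h1 : ⁅⁅⁅Q, B⁆ ⊔ B, V⁆, ⁅Q, A⁆ ⊔ A⁆ = ⊥ := by
    rw [Subgroup.commutator_comm (⁅Q, B⁆ ⊔ B) V, Subgroup.commutator_eq_bot_iff_le_centralizer,
      Subgroup.le_centralizer_iff]
    exact hB.E_le_centralizer_W h hne.symm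
  have h2 : ⁅⁅V, ⁅Q, A⁆ ⊔ A⁆, ⁅Q, B⁆ ⊔ B⁆ = ⊥ := by
    rw [Subgroup.commutator_eq_bot_iff_le_centralizer, Subgroup.le_centralizer_iff]
    exact h.E_le_centralizer_W hB hne
  have h3 := Subgroup.commutator_commutator_eq_bot_of_rotate h1 h2
  rw [Subgroup.commutator_eq_bot_iff_le_centralizer] at h3
  rw [eq_bot_iff, ← s.hf]
  apply le_inf _ h3
  exact (Subgroup.commutator_mono h.E_le_H hB.E_le_H).trans
    (commutator_le_of_le_normalizer H H Subgroup.le_normalizer)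

end Setup

end Cfsg.Agent.Lib.Helper1.FF
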