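import Mathlib
import Cfsg.Agent.Lib.Helper1.FF12

/-! Groups `E_A`, `E_B` with the same plane are equal; `H` normalizes `E_A`. -/
set_option autoImplicit false
universe u v
open Cfsg Matrix
open scoped commutatorElement Pointwise

namespace Cfsg.Agent.Lib.Helper1.FF
open Cfsg.Agent.Lib.Helper1.QdA

variable {G : Type u} [Group G] {p : ℕ}

theorem conj_pow_of_conj {a w z : G} (h1 : a * w * a⁻¹ = z * w) (h2 : a * z = z * a) (n : ℕ) :
    a ^ n * w * (a ^ n)⁻¹ = z ^ n * w := by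
  induction n with
  | zero => simp
  | succ n ih =>
    have hc : a * z ^ n = z ^ n * a := (Commute.pow_right (show Commute a z from h2) n).eq
    calc a ^ (n + 1) * w * (a ^ (n + 1))⁻¹ = a * (a ^ n * w * (a ^ n)⁻¹) * a⁻¹ := by
          rw [pow_succ']; group
      _ = a * (z ^ n * w) * a⁻¹ := by rw [ih]
      _ = (a * z ^ n) * a⁻¹ * (a * w * a⁻¹) := by group
      _ = (z ^ n * a) * a⁻¹ * (z * w) := by rw [hc, h1]
      _ = z ^ (n + 1) * w := by rw [pow_succ]; group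

namespace Setup

variable {V H Q : Subgroup G} {s : Setup p V H Q} {A : Subgroup G}

theorem IsTrH.quad [Finite G] [hp : Fact p.Prime] (h : s.IsTrH A) :
    ⁅V, A⁆ ≤ Subgroup.centralizer (A : Set G) := h.isTr.quad

/-- an element centralizing a line and a further element of a plane centralizes the plane -/
theorem mem_centralizer_plane [Finite G] [hp : Fact p.Prime] {W Z : Subgroup G}
    (hW : Nat.card W = p ^ 2) (hZ : Nat.card Z = p) (hZW : Z ≤ W) {w₀ : G} (hw₀ : w₀ ∈ W)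
    (hw₀Z : w₀ ∉ Z) {g : G} (hgZ : ∀ z ∈ Z, g * z = z * g) (hgw : g * w₀ = w₀ * g) :
    g ∈ Subgroup.centralizer (W : Set G) := by
  obtain ⟨X, hX⟩ : ∃ X : Subgroup G, X = W ⊓ Subgroup.centralizer ({g} : Set G) := ⟨_, rfl⟩
  have hZX : Z ≤ X := by
    rw [hX]
    intro z hz
    refine Subgroup.mem_inf.mpr ⟨hZW hz, ?_⟩
    rw [Subgroup.mem_centralizer_iff]
    intro y hy
    rw [Set.mem_singleton_iff] at hy
    rw [hy]; exact hgZ z hz
  have hwX : w₀ ∈ X := by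
    rw [hX]
    refine Subgroup.mem_inf.mpr ⟨hw₀, ?_⟩
    rw [Subgroup.mem_centralizer_iff]
    intro y hy
    rw [Set.mem_singleton_iff] at hy
    rw [hy]; exact hgw
  have hXW : X ≤ W := hX ▸ inf_le_left
  have hdvd : Nat.card X ∣ p ^ 2 := hW ▸ Subgroup.card_dvd_of_le hXW
  have hXeq : X = W := by
    rcases card_eq_of_dvd_prime_sq hdvd with h1 | h1 | h1
    · exfalso
      have : X = ⊥ := Subgroup.card_eq_one.mp h1
      rw [this, Subgroup.mem_bot] at hwX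
      exact hw₀Z (hwX ▸ Z.one_mem)
    · exfalso
      have : Z = X := Subgroup.eq_of_le_of_card_ge hZX (by rw [h1, hZ])
      exact hw₀Z (this ▸ hwX)
    · exact Subgroup.eq_of_le_of_card_ge hXW (by rw [h1, hW])
  rw [Subgroup.mem_centralizer_iff]
  intro w hw
  have : w ∈ X := hXeq ▸ hw
  rw [hX] at this
  exact ((Subgroup.mem_centralizer_iff.mp (Subgroup.mem_inf.mp this).2) g rfl).symm

/-- transvection groups with the same centre and the same plane are equal -/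
theorem IsTrH.eq_of_center_eq [Finite G] [hp : Fact p.Prime] (h : s.IsTrH A) {B : Subgroup G}
    (hB : s.IsTrH B) (hZ : ⁅V, A⁆ = ⁅V, B⁆) : A = B := by
  obtain ⟨a, ha, ha1⟩ := exists_ne_one_of_card_prime h.hcard
  obtain ⟨b, hb, hb1⟩ := exists_ne_one_of_card_prime hB.hcard
  have hAz := eq_zpowers_of_card_prime h.hcard ha ha1
  have hBz := eq_zpowers_of_card_prime hB.hcard hb hb1
  obtain ⟨W, hWdef⟩ : ∃ W : Subgroup G, W = ⁅V, ⁅Q, A⁆ ⊔ A⁆ := ⟨_, rfl⟩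
  obtain ⟨Z, hZdef⟩ : ∃ Z : Subgroup G, Z = ⁅V, A⁆ := ⟨_, rfl⟩
  have hcardW : Nat.card W = p ^ 2 := hWdef ▸ h.card_W
  have hcardZ : Nat.card Z = p := hZdef ▸ h.hZ
  have hZW : Z ≤ W := by rw [hZdef, hWdef]; exact h.center_le_W
  have hWV : W ≤ V := hWdef ▸ h.W_le_V
  have haZ : ∀ z ∈ Z, a * z = z * a := by
    intro z hz
    rw [hZdef] at hz
    exact (Subgroup.mem_centralizer_iff.mp (h.quad hz)) a ha
  have hbZ : ∀ z ∈ Z, b * z = z * b := by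
    intro z hz
    rw [hZdef, hZ] at hz
    exact (Subgroup.mem_centralizer_iff.mp (hB.quad hz)) b hb
  obtain ⟨w₀, hw₀, hw₀Z⟩ : ∃ w₀ ∈ W, w₀ ∉ Z := by
    by_contra hcon
    push Not at hcon
    have hle : W ≤ Z := hcon
    have := Nat.le_of_dvd Nat.card_pos (Subgroup.card_dvd_of_le hle)
    rw [hcardW, hcardZ] at this
    have := hp.out.one_lt
    nlinarith
  have hcent := fun (g : G) (hgZ : ∀ z ∈ Z, g * z = z * g) (hgw : g * w₀ = w₀ * g) =>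
    mem_centralizer_plane hcardW hcardZ hZW hw₀ hw₀Z hgZ hgw
  obtain ⟨z₁, hz₁⟩ : ∃ z₁ : G, z₁ = a * w₀ * a⁻¹ * w₀⁻¹ := ⟨_, rfl⟩
  obtain ⟨z₂, hz₂⟩ : ∃ z₂ : G, z₂ = b * w₀ * b⁻¹ * w₀⁻¹ := ⟨_, rfl⟩
  have hz₁Z : z₁ ∈ Z := by
    have : z₁ = (⁅w₀, a⁆)⁻¹ := by rw [hz₁, commutatorElement_def]; group
    rw [this, hZdef]
    exact Subgroup.inv_mem _ (Subgroup.commutator_mem_commutator (hWV hw₀) ha)
  have hz₂Z : z₂ ∈ Z := by
    have : z₂ = (⁅w₀, b⁆)⁻¹ := by rw [hz₂, commutatorElement_def]; group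
    rw [this, hZdef, hZ]
    exact Subgroup.inv_mem _ (Subgroup.commutator_mem_commutator (hWV hw₀) hb)
  have hz₁1 : z₁ ≠ 1 := by
    intro h1
    apply ha1
    have hc : a * w₀ = w₀ * a := by
      calc a * w₀ = (a * w₀ * a⁻¹ * w₀⁻¹) * w₀ * a := by group
        _ = w₀ * a := by rw [← hz₁, h1, one_mul]
    have h2 : a ∈ (⁅Q, A⁆ ⊔ A) ⊓ Subgroup.centralizer ((⁅V, ⁅Q, A⁆ ⊔ A⁆ : Subgroup G) : Set G) :=
      Subgroup.mem_inf.mpr ⟨(le_sup_right : A ≤ _) ha, hWdef ▸ hcent a haZ hc⟩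
    rw [h.faithful, Subgroup.mem_bot] at h2
    exact h2
  have hz₁a : a * z₁ = z₁ * a := haZ z₁ hz₁Z
  have hz₂b : b * z₂ = z₂ * b := hbZ z₂ hz₂Z
  have hZz := eq_zpowers_of_card_prime hcardZ hz₁Z hz₁1
  have hz₁p : z₁ ^ p = 1 := s.hV.2 z₁ (hWV (hZW hz₁Z))
  obtain ⟨k, hk⟩ := mem_zpowers_iff_zp hz₁p (hZz ▸ hz₂Z)
  unfold zp at hk
  obtain ⟨n, hn⟩ : ∃ n : ℕ, n = k.val := ⟨_, rfl⟩
  rw [← hn] at hk
  have e1 : a * w₀ * a⁻¹ = z₁ * w₀ := by rw [hz₁]; group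
  have e2 := conj_pow_of_conj e1 hz₁a n
  rw [← hk] at e2
  have e3 : b * w₀ * b⁻¹ = z₂ * w₀ := by rw [hz₂]; group
  obtain ⟨c, hc⟩ : ∃ c : G, c = b⁻¹ * a ^ n := ⟨_, rfl⟩
  have hcw : c * w₀ = w₀ * c := by
    have e4 : a ^ n * w₀ = z₂ * w₀ * a ^ n := by
      calc a ^ n * w₀ = (a ^ n * w₀ * (a ^ n)⁻¹) * a ^ n := by group
        _ = z₂ * w₀ * a ^ n := by rw [e2]
    calc c * w₀ = b⁻¹ * (a ^ n * w₀) := by rw [hc]; group
      _ = b⁻¹ * (z₂ * w₀ * a ^ n) := by rw [e4]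
      _ = b⁻¹ * (z₂ * w₀) * a ^ n := by group
      _ = b⁻¹ * (b * w₀ * b⁻¹) * a ^ n := by rw [e3]
      _ = w₀ * c := by rw [hc]; group
  have hcZ : ∀ z ∈ Z, c * z = z * c := by
    intro z hz
    have h1 : a ^ n * z = z * a ^ n := (Commute.pow_left (show Commute a z from haZ z hz) n).eq
    have h2 : b⁻¹ * z = z * b⁻¹ := by
      calc b⁻¹ * z = b⁻¹ * (z * b) * b⁻¹ := by group
        _ = b⁻¹ * (b * z) * b⁻¹ := by rw [hbZ z hz]
        _ = z * b⁻¹ := by group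
    calc c * z = b⁻¹ * (a ^ n * z) := by rw [hc]; group
      _ = b⁻¹ * (z * a ^ n) := by rw [h1]
      _ = (b⁻¹ * z) * a ^ n := by group
      _ = (z * b⁻¹) * a ^ n := by rw [h2]
      _ = z * c := by rw [hc]; group
  have hcW : c ∈ Subgroup.centralizer (W : Set G) := hcent c hcZ hcw
  have hcH : c ∈ H := by
    rw [hc]
    exact H.mul_mem (H.inv_mem (hB.hAH hb)) (H.pow_mem (h.hAH ha) n)
  have hcAB : c ∈ A ⊔ B := by
    rw [hc]
    exact Subgroup.mul_mem _ (Subgroup.inv_mem _ ((le_sup_right : B ≤ A ⊔ B) hb))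
      (Subgroup.pow_mem _ ((le_sup_left : A ≤ A ⊔ B) ha) n)
  have hc1 : c = 1 := by
    by_contra hc1
    obtain ⟨C, hC⟩ : ∃ C : Subgroup G, C = Subgroup.zpowers c := ⟨_, rfl⟩
    have hCH : C ≤ H := by rw [hC, Subgroup.zpowers_le]; exact hcH
    have hCAB : C ≤ A ⊔ B := by rw [hC, Subgroup.zpowers_le]; exact hcAB
    have hVCZ : ⁅V, C⁆ ≤ Z := by
      calc ⁅V, C⁆ ≤ ⁅V, A ⊔ B⁆ := Subgroup.commutator_mono le_rfl hCAB
        _ = ⁅V, A⁆ ⊔ ⁅V, B⁆ := commutator_sup_eq (h.hAH.trans s.hHV) (hB.hAH.trans s.hHV)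
        _ = Z := by rw [← hZ, sup_idem, hZdef]
    have hCW : C ≤ Subgroup.centralizer (W : Set G) := by
      rw [hC, Subgroup.zpowers_le]; exact hcW
    have hq : ⁅⁅V, C⁆, C⁆ = ⊥ := by
      rw [Subgroup.commutator_eq_bot_iff_le_centralizer]
      refine (hVCZ.trans hZW).trans ?_
      rw [Subgroup.le_centralizer_iff]
      exact hCW
    have hcp : c ^ p = 1 := by
      have h1 := quadratic_pow_mem_centralizer V C s.hV (hCH.trans s.hHV) hq c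
        (hC ▸ Subgroup.mem_zpowers c)
      have h2 : c ^ p ∈ H ⊓ Subgroup.centralizer (V : Set G) :=
        Subgroup.mem_inf.mpr ⟨H.pow_mem hcH p, h1⟩
      rw [s.hf, Subgroup.mem_bot] at h2
      exact h2
    have hcardC : Nat.card C = p := by
      rw [hC, Nat.card_zpowers]
      exact orderOf_eq_prime hcp hc1
    have hC1 : C ≠ ⊥ := by
      intro h0
      rw [h0, Subgroup.card_bot] at hcardC
      exact hp.out.one_lt.ne hcardC
    have hVC : ⁅V, C⁆ = Z := by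
      rcases PairSetup.eq_bot_or_eq_of_le_of_card_prime hVCZ hcardZ with h1 | h1
      · exact absurd h1 (s.commutator_ne_bot_of_ne_bot hCH hC1)
      · exact h1
    have hCtr : s.IsTrH C := ⟨hCH, hcardC, by rw [hVC, hcardZ]⟩
    have hWC : ⁅V, ⁅Q, A⁆ ⊔ A⁆ = ⁅V, ⁅Q, C⁆ ⊔ C⁆ := by
      by_contra hne
      have h1 := h.W_inf hCtr hne
      have h2 : Z ≤ ⁅V, ⁅Q, A⁆ ⊔ A⁆ ⊓ ⁅V, ⁅Q, C⁆ ⊔ C⁆ :=
        le_inf (hWdef ▸ hZW) (hVC ▸ hCtr.center_le_W)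
      rw [h1, le_bot_iff] at h2
      rw [h2, Subgroup.card_bot] at hcardZ
      exact hp.out.one_lt.ne hcardZ
    have h3 : c ∈ (⁅Q, C⁆ ⊔ C) ⊓ Subgroup.centralizer ((⁅V, ⁅Q, C⁆ ⊔ C⁆ : Subgroup G) : Set G) := by
      refine Subgroup.mem_inf.mpr ⟨(le_sup_right : C ≤ _) (hC ▸ Subgroup.mem_zpowers c), ?_⟩
      rw [← hWC, ← hWdef]; exact hcW
    rw [hCtr.faithful, Subgroup.mem_bot] at h3
    exact hc1 h3
  have hbA : b ∈ A := by
    have : b = a ^ n := by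
      calc b = b * c := by rw [hc1, mul_one]
        _ = a ^ n := by rw [hc]; group
    rw [this]; exact A.pow_mem ha n
  symm
  apply Subgroup.eq_of_le_of_card_ge
  · rw [hBz, Subgroup.zpowers_le]; exact hbA
  · rw [h.hcard, hB.hcard]

/-- groups with the same plane are equal -/
theorem IsTrH.E_eq_of_W_eq [Finite G] [hp : Fact p.Prime] (h : s.IsTrH A) {B : Subgroup G}
    (hB : s.IsTrH B) (hW : ⁅V, ⁅Q, A⁆ ⊔ A⁆ = ⁅V, ⁅Q, B⁆ ⊔ B⁆) :
    ⁅Q, A⁆ ⊔ A = ⁅Q, B⁆ ⊔ B := by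
  obtain ⟨u, hu, hu1⟩ := exists_ne_one_of_card_prime hB.hZ
  have hZB := eq_zpowers_of_card_prime hB.hZ hu hu1
  have huW : u ∈ ⁅V, ⁅Q, A⁆ ⊔ A⁆ := hW ▸ hB.center_le_W hu
  obtain ⟨e, he, hcen⟩ := h.exists_conj_center huW hu1
  have hA' : s.IsTrH (A.map (MulAut.conj e).toMonoidHom) := h.conj (h.E_le_H he)
  have hA'L : A.map (MulAut.conj e).toMonoidHom ≤ Q ⊔ A := by
    rintro _ ⟨a, ha, rfl⟩
    have heL := h.E_le_L he
    exact Subgroup.mul_mem _ (Subgroup.mul_mem _ heL ((le_sup_right : A ≤ Q ⊔ A) ha))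
      (Subgroup.inv_mem _ heL)
  have hE' := h.E_eq_of_le hA' hA'L
  have hAB := hA'.eq_of_center_eq hB (hcen.trans hZB.symm)
  rw [← hE', hAB]

theorem IsTrH.le_normalizer_E [Finite G] [hp : Fact p.Prime] (h : s.IsTrH A) {B : Subgroup G}
    (hB : s.IsTrH B) : B ≤ Subgroup.normalizer ((⁅Q, A⁆ ⊔ A : Subgroup G) : Set G) := by
  by_cases hW : ⁅V, ⁅Q, A⁆ ⊔ A⁆ = ⁅V, ⁅Q, B⁆ ⊔ B⁆
  · rw [h.E_eq_of_W_eq hB hW]
    exact le_sup_right.trans Subgroup.le_normalizer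
  · have h1 := h.commutator_E_eq_bot hB hW
    rw [Subgroup.commutator_eq_bot_iff_le_centralizer, Subgroup.le_centralizer_iff] at h1
    exact (le_sup_right.trans h1).trans (Subgroup.centralizer_le_normalizer _)

theorem IsTrH.H_le_normalizer_E [Finite G] [hp : Fact p.Prime] (h : s.IsTrH A)
    (hS3 : H = ⨆ A : {A : Subgroup G // A ≤ H ∧ IsBestOffenderOn p V A}, (A : Subgroup G)) :
    H ≤ Subgroup.normalizer ((⁅Q, A⁆ ⊔ A : Subgroup G) : Set G) :=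
  s.le_of_forall_isTrH hS3 (fun _ hB => h.le_normalizer_E hB)

end Setup

end Cfsg.Agent.Lib.Helper1.FF
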