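import Mathlib
import Cfsg.Agent.Lib.Helper1.FF13

/-! The plane of a pair complements the fixed points; `E_A` is a direct factor of `H`. -/
set_option autoImplicit false
universe u v
open Cfsg Matrix
open scoped commutatorElement Pointwise

namespace Cfsg.Agent.Lib.Helper1.FF

variable {G : Type u} [Group G] {p : ℕ}

namespace PairSetup

variable {V L Q : Subgroup G}

theorem plane_inf_centralizer_left [Finite G] [hp : Fact p.Prime] (s : PairSetup p V L Q)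
    {A₁ A₂ : Subgroup G} (h₁ : s.IsTr A₁) (h₂ : s.IsTr A₂) (hne : A₁ ≠ A₂) :
    ⁅V, A₁ ⊔ A₂⁆ ⊓ Subgroup.centralizer (A₁ : Set G) = ⁅V, A₁⁆ := by
  have hcardW := s.card_commutator_sup h₁ h₂ hne
  have hfaith := s.sup_inf_centralizer h₁ h₂ hne
  obtain ⟨W, hW⟩ : ∃ W : Subgroup G, W = ⁅V, A₁ ⊔ A₂⁆ := ⟨_, rfl⟩
  rw [← hW] at hcardW hfaith ⊢
  have hZW : ⁅V, A₁⁆ ≤ W ⊓ Subgroup.centralizer (A₁ : Set G) :=
    le_inf (hW ▸ Subgroup.commutator_mono le_rfl le_sup_left) h₁.quad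
  have hdvd : Nat.card ↥(W ⊓ Subgroup.centralizer (A₁ : Set G) : Subgroup G) ∣ p ^ 2 :=
    hcardW ▸ Subgroup.card_dvd_of_le inf_le_left
  symm
  apply Subgroup.eq_of_le_of_card_ge hZW
  rw [h₁.hZ]
  rcases card_eq_of_dvd_prime_sq hdvd with h | h | h
  · rw [h]; exact hp.out.one_lt.le
  · exact h.le
  · exfalso
    have h1 : W ⊓ Subgroup.centralizer (A₁ : Set G) = W :=
      Subgroup.eq_of_le_of_card_ge inf_le_left (by rw [h, hcardW])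
    have h2 : W ≤ Subgroup.centralizer (A₁ : Set G) := by rw [← h1]; exact inf_le_right
    have h3 : A₁ ≤ (A₁ ⊔ A₂) ⊓ Subgroup.centralizer (W : Set G) :=
      le_inf le_sup_left (Subgroup.le_centralizer_iff.mp h2)
    rw [hfaith, le_bot_iff] at h3
    have := h₁.hcard
    rw [h3, Subgroup.card_bot] at this
    exact hp.out.one_lt.ne this

theorem plane_inf_centralizer [Finite G] [hp : Fact p.Prime] (s : PairSetup p V L Q)
    {A₁ A₂ : Subgroup G} (h₁ : s.IsTr A₁) (h₂ : s.IsTr A₂) (hne : A₁ ≠ A₂) :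
    ⁅V, A₁ ⊔ A₂⁆ ⊓ Subgroup.centralizer ((A₁ ⊔ A₂ : Subgroup G) : Set G) = ⊥ := by
  have e1 := s.plane_inf_centralizer_left h₁ h₂ hne
  have e2 := s.plane_inf_centralizer_left h₂ h₁ hne.symm
  rw [sup_comm] at e2
  rw [eq_bot_iff, ← s.centers_inf h₁ h₂ hne, ← e1, ← e2, centralizer_sup_eq]
  exact le_inf (inf_le_inf_left _ inf_le_left) (inf_le_inf_left _ inf_le_right)

theorem plane_sup_centralizer [Finite G] [hp : Fact p.Prime] (s : PairSetup p V L Q)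
    {A₁ A₂ : Subgroup G} (h₁ : s.IsTr A₁) (h₂ : s.IsTr A₂) (hne : A₁ ≠ A₂) :
    ⁅V, A₁ ⊔ A₂⁆ ⊔ (V ⊓ Subgroup.centralizer ((A₁ ⊔ A₂ : Subgroup G) : Set G)) = V := by
  have hVc : ∀ x ∈ V, ∀ y ∈ V, x * y = y * x :=
    fun x hx y hy => isElementaryAbelian_comm s.hV hx hy
  have hcardW := s.card_commutator_sup h₁ h₂ hne
  have hdisj := s.plane_inf_centralizer h₁ h₂ hne
  obtain ⟨W, hW⟩ : ∃ W : Subgroup G, W = ⁅V, A₁ ⊔ A₂⁆ := ⟨_, rfl⟩
  rw [← hW] at hcardW hdisj ⊢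
  have hWV : W ≤ V := hW ▸ commutator_le_of_le_normalizer _ _ (sup_le h₁.hAV h₂.hAV)
  obtain ⟨C₁, hC₁⟩ : ∃ C : Subgroup G, C = V ⊓ Subgroup.centralizer (A₁ : Set G) := ⟨_, rfl⟩
  obtain ⟨C₂, hC₂⟩ : ∃ C : Subgroup G, C = V ⊓ Subgroup.centralizer (A₂ : Set G) := ⟨_, rfl⟩
  have hC : V ⊓ Subgroup.centralizer ((A₁ ⊔ A₂ : Subgroup G) : Set G) = C₁ ⊓ C₂ := by
    rw [centralizer_sup_eq, hC₁, hC₂]
    ext x
    simp only [Subgroup.mem_inf]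
    tauto
  rw [hC]
  have hc1 := h₁.card_centralizer
  have hc2 := h₂.card_centralizer
  rw [← hC₁] at hc1
  rw [← hC₂] at hc2
  have hC₁V : C₁ ≤ V := hC₁ ▸ inf_le_left
  have hC₂V : C₂ ≤ V := hC₂ ▸ inf_le_left
  have k1 := card_sup_mul_card_inf_of_le_abelian hVc hC₁V hC₂V
  have k2 : Nat.card ↥(C₁ ⊔ C₂ : Subgroup G) ≤ Nat.card V :=
    Nat.le_of_dvd Nat.card_pos (Subgroup.card_dvd_of_le (sup_le hC₁V hC₂V))
  have k3 := card_sup_mul_card_inf_of_le_abelian hVc hWV ((inf_le_left : C₁ ⊓ C₂ ≤ C₁).trans hC₁V)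
  have hdisj' : W ⊓ (C₁ ⊓ C₂) = ⊥ := by
    rw [eq_bot_iff, ← hdisj, ← hC]
    exact inf_le_inf_left _ inf_le_right
  rw [hdisj', Subgroup.card_bot, mul_one, hcardW] at k3
  apply Subgroup.eq_of_le_of_card_ge (sup_le hWV ((inf_le_left : C₁ ⊓ C₂ ≤ C₁).trans hC₁V))
  rw [k3]
  -- `|V| ≤ p² |C₁ ∩ C₂|`
  have hVpos : 0 < Nat.card V := Nat.card_pos
  have key : Nat.card V * Nat.card V ≤ Nat.card V * (p ^ 2 * Nat.card ↥(C₁ ⊓ C₂ : Subgroup G)) := by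
    calc Nat.card V * Nat.card V = (p * Nat.card C₁) * (p * Nat.card C₂) := by rw [hc1, hc2]
      _ = p ^ 2 * (Nat.card C₁ * Nat.card C₂) := by ring
      _ = p ^ 2 * (Nat.card ↥(C₁ ⊔ C₂ : Subgroup G) * Nat.card ↥(C₁ ⊓ C₂ : Subgroup G)) := by
          rw [k1]
      _ ≤ p ^ 2 * (Nat.card V * Nat.card ↥(C₁ ⊓ C₂ : Subgroup G)) :=
          Nat.mul_le_mul_left _ (Nat.mul_le_mul_right _ k2)
      _ = _ := by ring
  exact Nat.le_of_mul_le_mul_left key hVpos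

end PairSetup

namespace Setup

variable {V H Q : Subgroup G} {s : Setup p V H Q} {A : Subgroup G}

theorem IsTrH.W_inf_centralizer [Finite G] [hp : Fact p.Prime] (h : s.IsTrH A) :
    ⁅V, ⁅Q, A⁆ ⊔ A⁆ ⊓ (V ⊓ Subgroup.centralizer ((⁅Q, A⁆ ⊔ A : Subgroup G) : Set G)) = ⊥ := by
  obtain ⟨x, hx, hxA⟩ := h.exists_not_centralizer
  rw [h.E_eq hx hxA, eq_bot_iff, ← h.pair.plane_inf_centralizer h.isTr
    (h.isTr.conj (h.pair.hQL hx)) (h.isTr.conj_ne hx hxA)]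
  exact inf_le_inf_left _ inf_le_right

theorem IsTrH.W_sup_centralizer [Finite G] [hp : Fact p.Prime] (h : s.IsTrH A) :
    ⁅V, ⁅Q, A⁆ ⊔ A⁆ ⊔ (V ⊓ Subgroup.centralizer ((⁅Q, A⁆ ⊔ A : Subgroup G) : Set G)) = V := by
  obtain ⟨x, hx, hxA⟩ := h.exists_not_centralizer
  rw [h.E_eq hx hxA]
  exact h.pair.plane_sup_centralizer h.isTr (h.isTr.conj (h.pair.hQL hx)) (h.isTr.conj_ne hx hxA)

theorem IsTrH.E_inf_F [Finite G] [hp : Fact p.Prime] (h : s.IsTrH A) :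
    (⁅Q, A⁆ ⊔ A) ⊓ (H ⊓ Subgroup.centralizer ((⁅V, ⁅Q, A⁆ ⊔ A⁆ : Subgroup G) : Set G)) = ⊥ := by
  rw [eq_bot_iff, ← h.faithful]
  exact inf_le_inf_left _ inf_le_right

theorem IsTrH.H_le_normalizer_F [Finite G] [hp : Fact p.Prime] (h : s.IsTrH A)
    (hS3 : H = ⨆ A : {A : Subgroup G // A ≤ H ∧ IsBestOffenderOn p V A}, (A : Subgroup G)) :
    H ≤ Subgroup.normalizer
      ((H ⊓ Subgroup.centralizer ((⁅V, ⁅Q, A⁆ ⊔ A⁆ : Subgroup G) : Set G) : Subgroup G) : Set G) :=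
  Cfsg.Agent.Lib.Helper1.le_normalizer_inf Subgroup.le_normalizer
    ((h.H_le_normalizer_W hS3).trans (normalizer_le_normalizer_centralizer _))

theorem IsTrH.commutator_E_F [Finite G] [hp : Fact p.Prime] (h : s.IsTrH A)
    (hS3 : H = ⨆ A : {A : Subgroup G // A ≤ H ∧ IsBestOffenderOn p V A}, (A : Subgroup G)) :
    ⁅⁅Q, A⁆ ⊔ A, H ⊓ Subgroup.centralizer ((⁅V, ⁅Q, A⁆ ⊔ A⁆ : Subgroup G) : Set G)⁆ = ⊥ := by
  rw [eq_bot_iff, ← h.E_inf_F]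
  apply le_inf
  · exact Subgroup.le_normalizer_iff_commutator_le_left.mp
      ((inf_le_left : H ⊓ _ ≤ H).trans (h.H_le_normalizer_E hS3))
  · rw [Subgroup.commutator_comm]
    exact Subgroup.le_normalizer_iff_commutator_le_left.mp
      (h.E_le_H.trans (h.H_le_normalizer_F hS3))

theorem IsTrH.E_sup_F [Finite G] [hp : Fact p.Prime] (h : s.IsTrH A)
    (hS3 : H = ⨆ A : {A : Subgroup G // A ≤ H ∧ IsBestOffenderOn p V A}, (A : Subgroup G)) :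
    (⁅Q, A⁆ ⊔ A) ⊔ (H ⊓ Subgroup.centralizer ((⁅V, ⁅Q, A⁆ ⊔ A⁆ : Subgroup G) : Set G)) = H := by
  apply le_antisymm (sup_le h.E_le_H inf_le_left)
  apply s.le_of_forall_isTrH hS3
  intro B hB
  by_cases hW : ⁅V, ⁅Q, A⁆ ⊔ A⁆ = ⁅V, ⁅Q, B⁆ ⊔ B⁆
  · refine le_trans ?_ le_sup_left
    rw [h.E_eq_of_W_eq hB hW]
    exact le_sup_right
  · refine le_trans ?_ le_sup_right
    exact le_inf hB.hAH (le_sup_right.trans (h.E_le_centralizer_W hB hW))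

theorem IsTrH.commutator_V_F [Finite G] [hp : Fact p.Prime] (h : s.IsTrH A)
    (hS3 : H = ⨆ A : {A : Subgroup G // A ≤ H ∧ IsBestOffenderOn p V A}, (A : Subgroup G)) :
    ⁅V, H ⊓ Subgroup.centralizer ((⁅V, ⁅Q, A⁆ ⊔ A⁆ : Subgroup G) : Set G)⁆ ≤
      V ⊓ Subgroup.centralizer ((⁅Q, A⁆ ⊔ A : Subgroup G) : Set G) := by
  apply le_inf
  · exact commutator_le_of_le_normalizer _ _ ((inf_le_left : H ⊓ _ ≤ H).trans s.hHV)
  · rw [← Subgroup.commutator_eq_bot_iff_le_centralizer]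
    apply Subgroup.commutator_commutator_eq_bot_of_rotate
    · rw [Subgroup.commutator_comm _ (⁅Q, A⁆ ⊔ A), h.commutator_E_F hS3]
      exact Subgroup.commutator_bot_left V
    · rw [Subgroup.commutator_comm (⁅Q, A⁆ ⊔ A) V, Subgroup.commutator_eq_bot_iff_le_centralizer,
        Subgroup.le_centralizer_iff]
      exact inf_le_right

end Setup

end Cfsg.Agent.Lib.Helper1.FF
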