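import Mathlib
import Cfsg.Agent.Lib.Helper1.FF14
import Cfsg.Agent.Lib.Helper1.CoprimeAbelian
import Cfsg.Agent.Lib.Helper4.SLCard

/-! The commutator `[Q, A]` for a transvection group `A`. -/
set_option autoImplicit false
universe u v
open Cfsg Matrix
open scoped commutatorElement Pointwise

namespace Cfsg.Agent.Lib.Helper1.FF

variable {G : Type u} [Group G] {p : ℕ}

namespace Setup

variable {V H Q : Subgroup G} {s : Setup p V H Q} {A : Subgroup G}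

theorem IsTrH.N_le_Q (h : s.IsTrH A) : ⁅Q, A⁆ ≤ Q :=
  commutator_le_of_le_normalizer _ _ (h.hAH.trans s.hHQ)

theorem IsTrH.A_le_normalizer_N (_h : s.IsTrH A) :
    A ≤ Subgroup.normalizer ((⁅Q, A⁆ : Subgroup G) : Set G) :=
  le_normalizer_commutator_right Q A

theorem IsTrH.A_inf_N [Finite G] [hp : Fact p.Prime] (h : s.IsTrH A) : A ⊓ ⁅Q, A⁆ = ⊥ := by
  rw [eq_bot_iff, ← h.pair.inf_Q_eq_bot h.isTr.isPGroup]
  exact inf_le_inf_left _ h.N_le_Q

theorem IsTrH.card_E [Finite G] [hp : Fact p.Prime] (h : s.IsTrH A) :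
    Nat.card ↥(⁅Q, A⁆ ⊔ A : Subgroup G) = p * Nat.card ↥(⁅Q, A⁆) := by
  have h1 := GlaubermanRepl.card_sup_mul_card_inf_of_le_normalizer A ⁅Q, A⁆ h.A_le_normalizer_N
  rw [h.A_inf_N, Subgroup.card_bot, mul_one, h.hcard, sup_comm] at h1
  exact h1

theorem IsTrH.card_N [Finite G] [hp : Fact p.Prime] (h : s.IsTrH A) :
    Nat.card ↥(⁅Q, A⁆) = p ^ 2 - 1 := by
  obtain ⟨φ⟩ := h.sl2
  have h1 := Nat.card_congr φ.toEquiv
  rw [h.card_E, Cfsg.Agent.Lib.Helper4.card_SL2, ZMod.card] at h1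
  exact Nat.eq_of_mul_eq_mul_left hp.out.pos h1

theorem IsTrH.exists_mul_of_mem_E [Finite G] [hp : Fact p.Prime] (h : s.IsTrH A) {e : G}
    (he : e ∈ ⁅Q, A⁆ ⊔ A) : ∃ n ∈ ⁅Q, A⁆, ∃ a ∈ A, n * a = e := by
  rw [← SetLike.mem_coe,
    Subgroup.coe_mul_of_right_le_normalizer_left ⁅Q, A⁆ A h.A_le_normalizer_N] at he
  obtain ⟨n, hn, a, ha, rfl⟩ := Set.mem_mul.mp he
  exact ⟨n, hn, a, ha, rfl⟩

/-- a central involution of `E_A` lies in `[Q,A]` when `p` is odd -/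
theorem IsTrH.central_involution_mem [Finite G] [hp : Fact p.Prime] (h : s.IsTrH A) (hp2 : p ≠ 2)
    {z : G} (hz : z ∈ ⁅Q, A⁆ ⊔ A) (hz2 : z ^ 2 = 1) (hzA : ∀ a ∈ A, a * z = z * a) :
    z ∈ ⁅Q, A⁆ := by
  obtain ⟨n, hn, a, ha, rfl⟩ := h.exists_mul_of_mem_E hz
  have hna : a * n = n * a := by
    have := hzA a ha
    calc a * n = (a * (n * a)) * a⁻¹ := by group
      _ = (n * a * a) * a⁻¹ := by rw [this]
      _ = n * a := by group
  have h2 : (n * a) ^ 2 = n ^ 2 * a ^ 2 := (show Commute n a from hna.symm).mul_pow 2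
  rw [h2] at hz2
  have ha2 : a ^ 2 ∈ A ⊓ ⁅Q, A⁆ := by
    refine Subgroup.mem_inf.mpr ⟨A.pow_mem ha 2, ?_⟩
    have : a ^ 2 = (n ^ 2)⁻¹ := eq_inv_of_mul_eq_one_right hz2
    rw [this]
    exact Subgroup.inv_mem _ (Subgroup.pow_mem _ hn 2)
  rw [h.A_inf_N, Subgroup.mem_bot] at ha2
  have hap := h.pow_eq_one a ha
  have ha1 : a = 1 := by
    have h3 : orderOf a ∣ 2 := orderOf_dvd_of_pow_eq_one ha2
    have h4 : orderOf a ∣ p := orderOf_dvd_of_pow_eq_one hap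
    have h5 : orderOf a ∣ Nat.gcd 2 p := Nat.dvd_gcd h3 h4
    have h6 : Nat.gcd 2 p = 1 := (Nat.coprime_primes Nat.prime_two hp.out).mpr (Ne.symm hp2)
    rw [h6, Nat.dvd_one] at h5
    exact orderOf_eq_one_iff.mp h5
  rw [ha1, mul_one]; exact hn

theorem IsTrH.N_not_comm [Finite G] [hp : Fact p.Prime] (h : s.IsTrH A) (hp2 : p ≠ 2) :
    ¬ IsMulCommutative ↥(⁅Q, A⁆) := by
  intro hcomm
  have hAQ : A ≤ Subgroup.normalizer (Q : Set G) := h.hAH.trans s.hHQ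
  have hcop : (Nat.card A).Coprime (Nat.card Q) := by
    rw [h.hcard]; exact s.hQ.symm
  have hsolv : Group.IsSolvable A := by
    have : Group.IsNilpotent A := h.isTr.isPGroup.isNilpotent
    infer_instance
  have hNN : ⁅⁅Q, A⁆, A⁆ = ⁅Q, A⁆ :=
    Cfsg.Agent.Lib.Helper1.coprime_commutator_commutator A Q hAQ hcop (Or.inl hsolv)
  have hcopN : (Nat.card A).Coprime (Nat.card ↥(⁅Q, A⁆)) :=
    Nat.Coprime.coprime_dvd_right (Subgroup.card_dvd_of_le h.N_le_Q) hcop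
  have hdec := (Cfsg.Agent.Lib.Helper1.coprime_abelian_decomposition A ⁅Q, A⁆
    h.A_le_normalizer_N hcopN).1
  rw [hNN, inf_eq_left.mpr (inf_le_left : ⁅Q, A⁆ ⊓ Subgroup.centralizer (A : Set G) ≤ ⁅Q, A⁆)]
    at hdec
  obtain ⟨φ⟩ := h.sl2
  obtain ⟨z, hz⟩ : ∃ z : ↥(⁅Q, A⁆ ⊔ A : Subgroup G), z = φ.symm (-1) := ⟨_, rfl⟩
  have hzc : ∀ g : ↥(⁅Q, A⁆ ⊔ A : Subgroup G), g * z = z * g := by
    intro g
    apply φ.injective
    rw [map_mul, map_mul, hz, MulEquiv.apply_symm_apply, mul_neg, neg_mul, mul_one, one_mul]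
  have hz2 : z ^ 2 = 1 := by
    apply φ.injective
    rw [map_pow, hz, MulEquiv.apply_symm_apply, map_one, neg_pow, one_pow]
    simp
  have hz1 : z ≠ 1 := by
    intro h1
    have : φ z = 1 := by rw [h1, map_one]
    rw [hz, MulEquiv.apply_symm_apply] at this
    have h3 := congrArg (fun M : Matrix.SpecialLinearGroup (Fin 2) (ZMod p) =>
      (M : Matrix (Fin 2) (Fin 2) (ZMod p)) 0 0) this
    simp only [Matrix.SpecialLinearGroup.coe_neg, Matrix.SpecialLinearGroup.coe_one,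
      Matrix.neg_apply, Matrix.one_apply_eq] at h3
    have h4 : (2 : ZMod p) = 0 := by
      have : (1 : ZMod p) + 1 = 0 := by
        nth_rewrite 1 [← h3]; ring
      rw [← this]; ring
    have h5 : ((2 : ℕ) : ZMod p) = 0 := by exact_mod_cast h4
    rw [ZMod.natCast_eq_zero_iff] at h5
    exact hp2 ((Nat.prime_dvd_prime_iff_eq hp.out Nat.prime_two).mp h5)
  have hzN : (z : G) ∈ ⁅Q, A⁆ := by
    apply h.central_involution_mem hp2 z.2
    · have := congrArg Subtype.val hz2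
      simpa using this
    · intro a ha
      have := congrArg Subtype.val (hzc ⟨a, (le_sup_right : A ≤ _) ha⟩)
      simpa using this
  have hzC : (z : G) ∈ ⁅Q, A⁆ ⊓ Subgroup.centralizer (A : Set G) := by
    refine Subgroup.mem_inf.mpr ⟨hzN, ?_⟩
    rw [Subgroup.mem_centralizer_iff]
    intro a ha
    have := congrArg Subtype.val (hzc ⟨a, (le_sup_right : A ≤ _) ha⟩)
    simpa using this
  rw [hdec, Subgroup.mem_bot] at hzC
  exact hz1 (Subtype.ext hzC)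

/-- S0614 -/
theorem IsTrH.N_structure [Finite G] [hp : Fact p.Prime] (h : s.IsTrH A) :
    (p = 2 ∧ IsPGroup 3 ↥(⁅Q, A⁆)) ∨
      (p = 3 ∧ IsPGroup 2 ↥(⁅Q, A⁆) ∧ ¬ IsMulCommutative ↥(⁅Q, A⁆)) := by
  have hc := h.card_N
  rcases h.p23 with h2 | h3
  · left
    refine ⟨h2, ?_⟩
    rw [h2] at hc
    have : Fact (Nat.Prime 3) := ⟨Nat.prime_three⟩
    exact IsPGroup.of_card (n := 1) (by rw [hc]; norm_num)
  · right
    refine ⟨h3, ?_, h.N_not_comm (by omega)⟩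
    rw [h3] at hc
    have : Fact (Nat.Prime 2) := ⟨Nat.prime_two⟩
    exact IsPGroup.of_card (n := 3) (by rw [hc]; norm_num)

end Setup

end Cfsg.Agent.Lib.Helper1.FF
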