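import Mathlib
import Cfsg.Agent.Lib.Helper1.FF15

/-! The structure theorem for failure of factorization. -/
set_option autoImplicit false
universe u v
open Cfsg Matrix
open scoped commutatorElement Pointwise

namespace Cfsg.Agent.Lib.Helper1.FF

variable {G : Type u} [Group G] {p : ℕ}

/-- Dedekind's modular law -/
theorem dedekind_of_le_normalizer {X Y Z : Subgroup G}
    (hXY : X ≤ Subgroup.normalizer (Y : Set G)) (hXZ : X ≤ Z) :
    (X ⊔ Y) ⊓ Z = X ⊔ (Y ⊓ Z) := by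
  apply le_antisymm
  · intro g hg
    obtain ⟨hg1, hg2⟩ := Subgroup.mem_inf.mp hg
    rw [← SetLike.mem_coe, Subgroup.coe_mul_of_left_le_normalizer_right X Y hXY] at hg1
    obtain ⟨x, hx, y, hy, rfl⟩ := Set.mem_mul.mp hg1
    have hyZ : y ∈ Z := by
      have : y = x⁻¹ * (x * y) := by group
      rw [this]
      exact Z.mul_mem (Z.inv_mem (hXZ hx)) hg2
    exact Subgroup.mul_mem_sup hx (Subgroup.mem_inf.mpr ⟨hy, hyZ⟩)
  · exact sup_le (le_inf le_sup_left hXZ) (inf_le_inf_right _ le_sup_right)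

theorem centralizer_iSup_eq {ι : Sort*} (E : ι → Subgroup G) :
    Subgroup.centralizer (((⨆ i, E i : Subgroup G)) : Set G) =
      ⨅ i, Subgroup.centralizer ((E i : Subgroup G) : Set G) := by
  apply le_antisymm
  · apply le_iInf
    intro i
    exact Subgroup.centralizer_le (le_iSup E i)
  · intro x hx
    rw [Subgroup.mem_iInf] at hx
    have : (⨆ i, E i) ≤ Subgroup.centralizer ({x} : Set G) := by
      apply iSup_le
      intro i g hg
      rw [Subgroup.mem_centralizer_iff]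
      intro y hy
      rw [Set.mem_singleton_iff] at hy
      rw [hy]
      exact ((Subgroup.mem_centralizer_iff.mp (hx i)) g hg).symm
    rw [Subgroup.mem_centralizer_iff]
    intro g hg
    exact ((Subgroup.mem_centralizer_iff.mp (this hg)) x rfl).symm

theorem decomposition_aux {ι : Type*} [DecidableEq ι] (V : Subgroup G)
    (hVc : ∀ x ∈ V, ∀ y ∈ V, x * y = y * x) (W E : ι → Subgroup G)
    (hWV : ∀ i, W i ≤ V)
    (hdisj : ∀ i, W i ⊓ (V ⊓ Subgroup.centralizer ((E i : Subgroup G) : Set G)) = ⊥)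
    (hsup : ∀ i, W i ⊔ (V ⊓ Subgroup.centralizer ((E i : Subgroup G) : Set G)) = V)
    (hcent : ∀ i j, i ≠ j → W i ≤ Subgroup.centralizer ((E j : Subgroup G) : Set G))
    (S : Finset ι) :
    (⨆ i ∈ S, W i) ⊔ (V ⊓ ⨅ i ∈ S, Subgroup.centralizer ((E i : Subgroup G) : Set G)) = V ∧
    (⨆ i ∈ S, W i) ⊓ (V ⊓ ⨅ i ∈ S, Subgroup.centralizer ((E i : Subgroup G) : Set G)) = ⊥ := by
  have hnorm : ∀ X Y : Subgroup G, X ≤ V → Y ≤ V → X ≤ Subgroup.normalizer (Y : Set G) := by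
    intro X Y hX hY
    apply Cfsg.Agent.Lib.Helper1.le_normalizer_of_conj_mem
    intro x hx b hb
    have : x * b = b * x := hVc x (hX hx) b (hY hb)
    rw [this, mul_assoc, mul_inv_cancel, mul_one]; exact hb
  induction S using Finset.induction_on with
  | empty => simp
  | insert i₀ S hi₀ ih =>
    obtain ⟨ih1, ih2⟩ := ih
    rw [Finset.iSup_insert, Finset.iInf_insert]
    obtain ⟨U, hU⟩ : ∃ U : Subgroup G, U = ⨆ i ∈ S, W i := ⟨_, rfl⟩
    obtain ⟨C, hC⟩ : ∃ C : Subgroup G,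
      C = V ⊓ ⨅ i ∈ S, Subgroup.centralizer ((E i : Subgroup G) : Set G) := ⟨_, rfl⟩
    obtain ⟨C₀, hC₀⟩ : ∃ C₀ : Subgroup G,
      C₀ = V ⊓ Subgroup.centralizer ((E i₀ : Subgroup G) : Set G) := ⟨_, rfl⟩
    rw [← hU, ← hC] at ih1 ih2
    rw [← hU]
    have hCC : V ⊓ (Subgroup.centralizer ((E i₀ : Subgroup G) : Set G) ⊓
        ⨅ i ∈ S, Subgroup.centralizer ((E i : Subgroup G) : Set G)) = C₀ ⊓ C := by
      rw [hC₀, hC]
      ext x
      simp only [Subgroup.mem_inf]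
      tauto
    rw [hCC]
    have hUV : U ≤ V := by
      rw [hU]
      exact iSup₂_le (fun i _ => hWV i)
    have hW₀C : W i₀ ≤ C := by
      rw [hC]
      apply le_inf (hWV i₀)
      apply le_iInf₂
      intro j hj
      exact hcent i₀ j (fun h => hi₀ (h ▸ hj))
    have hUC₀ : U ≤ C₀ := by
      rw [hC₀]
      apply le_inf hUV
      rw [hU]
      apply iSup₂_le
      intro j hj
      exact hcent j i₀ (fun h => hi₀ (h ▸ hj))
    have hC₀V : C₀ ≤ V := hC₀ ▸ inf_le_left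
    have hCV : C ≤ V := hC ▸ inf_le_left
    have d1 : (W i₀ ⊔ C₀) ⊓ C = W i₀ ⊔ (C₀ ⊓ C) :=
      dedekind_of_le_normalizer (hnorm _ _ (hWV i₀) hC₀V) hW₀C
    have d2 : (U ⊔ W i₀) ⊓ C₀ = U ⊔ (W i₀ ⊓ C₀) :=
      dedekind_of_le_normalizer (hnorm _ _ hUV (hWV i₀)) hUC₀
    have s0 := hsup i₀
    have t0 := hdisj i₀
    rw [← hC₀] at s0 t0
    constructor
    · have hCeq : C = W i₀ ⊔ (C₀ ⊓ C) := by
        rw [← d1, s0]
        exact (inf_eq_right.mpr hCV).symm
      calc W i₀ ⊔ U ⊔ (C₀ ⊓ C) = U ⊔ (W i₀ ⊔ (C₀ ⊓ C)) := by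
            rw [sup_comm (W i₀) U, sup_assoc]
        _ = U ⊔ C := by rw [← hCeq]
        _ = V := ih1
    · calc (W i₀ ⊔ U) ⊓ (C₀ ⊓ C) = ((U ⊔ W i₀) ⊓ C₀) ⊓ C := by
            rw [sup_comm (W i₀) U, inf_assoc]
        _ = U ⊓ C := by rw [d2, t0, sup_bot_eq]
        _ = ⊥ := ih2

end Cfsg.Agent.Lib.Helper1.FF

namespace Cfsg.Agent.Lib.Helper1.FF

variable {G : Type u} [Group G] {p : ℕ}

/-- the index type of the components -/
abbrev CompIdx (p : ℕ) (V H Q : Subgroup G) :=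
  {E : Subgroup G // ∃ A : Subgroup G, A ≤ H ∧ IsBestOffenderOn p V A ∧ ⁅V, A⁆ ≠ ⊥ ∧
    (∀ B : Subgroup G, B ≤ A → IsBestOffenderOn p V B → ⁅V, B⁆ ≠ ⊥ → B = A) ∧ E = ⁅Q, A⁆ ⊔ A}

namespace Setup

variable {V H Q : Subgroup G}

theorem le_of_forall_minimal [Finite G] [hp : Fact p.Prime] (s : Setup p V H Q)
    (hS3 : H = ⨆ A : {A : Subgroup G // A ≤ H ∧ IsBestOffenderOn p V A}, (A : Subgroup G))
    {K : Subgroup G} (hK : ∀ B : Subgroup G, B ≤ H → IsBestOffenderOn p V B → ⁅V, B⁆ ≠ ⊥ →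
      (∀ C : Subgroup G, C ≤ B → IsBestOffenderOn p V C → ⁅V, C⁆ ≠ ⊥ → C = B) → B ≤ K) :
    H ≤ K := by
  refine hS3.le.trans (iSup_le ?_)
  rintro ⟨A, hAH, hA⟩
  change A ≤ K
  by_cases hA1 : A = ⊥
  · rw [hA1]; exact bot_le
  · obtain ⟨k, B, hB, -, hsup⟩ := s.exists_decomp hAH hA hA1
    rw [← hsup]
    apply iSup_le
    intro i
    obtain ⟨h1, h2, h3, h4⟩ := hB i
    exact hK _ (h1.trans hAH) h2 h3 h4

theorem structure_theorem [Finite G] [hp : Fact p.Prime] (s : Setup p V H Q)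
    (hS3 : H = ⨆ A : {A : Subgroup G // A ≤ H ∧ IsBestOffenderOn p V A}, (A : Subgroup G))
    (hH1 : H ≠ ⊥) :
    (p = 2 ∨ p = 3) ∧
    (∀ E : CompIdx p V H Q, H ≤ Subgroup.normalizer ((E : Subgroup G) : Set G) ∧
      Nonempty (↥(E : Subgroup G) ≃* Matrix.SpecialLinearGroup (Fin 2) (ZMod p)) ∧
      Nat.card ↥(⁅V, (E : Subgroup G)⁆) = p ^ 2) ∧
    iSupIndep (fun E : CompIdx p V H Q => (E : Subgroup G)) ∧
    (⨆ E : CompIdx p V H Q, (E : Subgroup G)) = H ∧
    iSupIndep (fun o : Option (CompIdx p V H Q) =>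
      o.elim (V ⊓ Subgroup.centralizer (H : Set G)) (fun E => ⁅V, (E : Subgroup G)⁆)) ∧
    (V ⊓ Subgroup.centralizer (H : Set G)) ⊔ (⨆ E : CompIdx p V H Q, ⁅V, (E : Subgroup G)⁆) = V := by
  classical
  have hidx : ∀ E : CompIdx p V H Q, ∃ A, s.IsTrH A ∧ (E : Subgroup G) = ⁅Q, A⁆ ⊔ A := by
    rintro ⟨E, A, hAH, hA, hAV, hmin, rfl⟩
    exact ⟨A, s.isTrH_of_minimal hAH hA hAV hmin, rfl⟩
  have hEH : ∀ E : CompIdx p V H Q, (E : Subgroup G) ≤ H := by
    intro E
    obtain ⟨A, hA, hE⟩ := hidx E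
    rw [hE]; exact hA.E_le_H
  have hex : ∃ B, s.IsTrH B := by
    by_contra hcon
    push Not at hcon
    apply hH1
    rw [eq_bot_iff]
    exact s.le_of_forall_isTrH hS3 (fun B hB => absurd hB (hcon B))
  have hcent : ∀ E E' : CompIdx p V H Q, E ≠ E' →
      (E' : Subgroup G) ≤ Subgroup.centralizer ((⁅V, (E : Subgroup G)⁆ : Subgroup G) : Set G) := by
    intro E E' hne
    obtain ⟨A, hA, hE⟩ := hidx E
    obtain ⟨A', hA', hE'⟩ := hidx E'
    rw [hE, hE']
    apply hA.E_le_centralizer_W hA'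
    intro hW
    apply hne
    apply Subtype.ext
    rw [hE, hE']
    exact hA.E_eq_of_W_eq hA' hW
  have hcent' : ∀ E E' : CompIdx p V H Q, E ≠ E' →
      ⁅V, (E : Subgroup G)⁆ ≤ Subgroup.centralizer (((E' : Subgroup G)) : Set G) := by
    intro E E' hne
    rw [Subgroup.le_centralizer_iff]
    exact hcent E E' hne
  have hWV : ∀ E : CompIdx p V H Q, ⁅V, (E : Subgroup G)⁆ ≤ V := by
    intro E
    obtain ⟨A, hA, hE⟩ := hidx E
    rw [hE]; exact hA.W_le_V
  have hdisj : ∀ E : CompIdx p V H Q, ⁅V, (E : Subgroup G)⁆ ⊓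
      (V ⊓ Subgroup.centralizer (((E : Subgroup G)) : Set G)) = ⊥ := by
    intro E
    obtain ⟨A, hA, hE⟩ := hidx E
    rw [hE]; exact hA.W_inf_centralizer
  have hsup : ∀ E : CompIdx p V H Q, ⁅V, (E : Subgroup G)⁆ ⊔
      (V ⊓ Subgroup.centralizer (((E : Subgroup G)) : Set G)) = V := by
    intro E
    obtain ⟨A, hA, hE⟩ := hidx E
    rw [hE]; exact hA.W_sup_centralizer
  have hsupE : (⨆ E : CompIdx p V H Q, (E : Subgroup G)) = H := by
    apply le_antisymm (iSup_le hEH)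
    apply s.le_of_forall_minimal hS3
    intro B hBH hB hBV hmin
    exact le_iSup_of_le (⟨⁅Q, B⁆ ⊔ B, B, hBH, hB, hBV, hmin, rfl⟩ : CompIdx p V H Q) le_sup_right
  have : Finite (CompIdx p V H Q) := Subtype.finite
  have : Fintype (CompIdx p V H Q) := Fintype.ofFinite _
  have hVc : ∀ x ∈ V, ∀ y ∈ V, x * y = y * x :=
    fun x hx y hy => isElementaryAbelian_comm s.hV hx hy
  have haux := decomposition_aux V hVc (fun E : CompIdx p V H Q => ⁅V, (E : Subgroup G)⁆)
    (fun E : CompIdx p V H Q => (E : Subgroup G)) hWV hdisj hsup hcent' Finset.univ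
  have hinf : (⨅ i ∈ (Finset.univ : Finset (CompIdx p V H Q)),
      Subgroup.centralizer (((i : Subgroup G)) : Set G)) = Subgroup.centralizer (H : Set G) := by
    have e1 : Subgroup.centralizer (((⨆ E : CompIdx p V H Q, (E : Subgroup G)) : Subgroup G) : Set G)
        = Subgroup.centralizer (H : Set G) :=
      congrArg (fun K : Subgroup G => Subgroup.centralizer (K : Set G)) hsupE
    rw [← e1, centralizer_iSup_eq]
    simp
  have hsupW : (⨆ i ∈ (Finset.univ : Finset (CompIdx p V H Q)), ⁅V, (i : Subgroup G)⁆) =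
      ⨆ E : CompIdx p V H Q, ⁅V, (E : Subgroup G)⁆ := by
    simp
  rw [hinf, hsupW] at haux
  obtain ⟨B₀, hB₀⟩ := hex
  refine ⟨hB₀.p23, ?_, ?_, hsupE, ?_, ?_⟩
  · intro E
    obtain ⟨A, hA, hE⟩ := hidx E
    rw [hE]
    exact ⟨hA.H_le_normalizer_E hS3, hA.sl2, hA.card_W⟩
  · intro E
    rw [disjoint_iff, eq_bot_iff]
    obtain ⟨A, hA, hE⟩ := hidx E
    have h1 := hA.E_inf_F
    rw [← hE] at h1
    refine le_trans ?_ h1.le
    apply le_inf inf_le_left
    refine inf_le_right.trans ?_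
    apply iSup₂_le
    intro E' hne
    exact le_inf (hEH E') (hcent E E' (Ne.symm hne))
  · intro o
    rw [disjoint_iff, eq_bot_iff]
    cases o with
    | none =>
      change (V ⊓ Subgroup.centralizer (H : Set G)) ⊓ _ ≤ ⊥
      refine le_trans ?_ haux.2.le
      rw [inf_comm]
      apply inf_le_inf_right
      apply iSup₂_le
      intro j hj
      cases j with
      | none => exact absurd rfl hj
      | some E' => exact le_iSup (fun E : CompIdx p V H Q => ⁅V, (E : Subgroup G)⁆) E'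
    | some E =>
      change ⁅V, (E : Subgroup G)⁆ ⊓ _ ≤ ⊥
      refine le_trans ?_ (hdisj E).le
      apply inf_le_inf_left
      apply iSup₂_le
      intro j hj
      cases j with
      | none =>
        change V ⊓ Subgroup.centralizer (H : Set G) ≤ _
        exact inf_le_inf_left _ (Subgroup.centralizer_le (hEH E))
      | some E' =>
        change ⁅V, (E' : Subgroup G)⁆ ≤ _
        have hne : E' ≠ E := fun h => hj (congrArg some h)
        exact le_inf (hWV E') (hcent' E' E hne)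
  · rw [sup_comm]
    exact haux.1

end Setup

end Cfsg.Agent.Lib.Helper1.FF
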