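import Mathlib
import Cfsg.Agent.Lib.Helper1.FF16

/-! Transfer of the action of `G` on a normal subgroup `V` to a faithful setting
inside the holomorph of `V`. -/
set_option autoImplicit false
universe u v
open Cfsg
open scoped commutatorElement Pointwise

namespace Cfsg.Agent.Lib.Helper1.TF
open Cfsg.Agent.Lib.Helper1.FF

variable {G : Type u} [Group G] (V : Subgroup G) [V.Normal]

/-- the holomorph of `V` -/
abbrev Amb := ↥V ⋊[MonoidHom.id (MulAut ↥V)] MulAut ↥V

instance [Finite G] : Finite (Amb V) := Finite.of_equiv _ SemidirectProduct.equivProd.symm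

/-- the map `G → Aut(V) → Hol(V)` -/
def tau : G →* Amb V := SemidirectProduct.inr.comp (MulAut.conjNormal (H := V))

/-- the copy of `V` in the holomorph -/
def VV : Subgroup (Amb V) := (SemidirectProduct.inl : ↥V →* Amb V).range

/-- the transfer of a subgroup -/
abbrev tr (X : Subgroup G) : Subgroup (Amb V) := X.map (tau V)

theorem tau_conj (g : G) (v : ↥V) :
    tau V g * SemidirectProduct.inl v * (tau V g)⁻¹ =
      SemidirectProduct.inl ((MulAut.conjNormal (H := V) g) v) := by
  unfold tau
  rw [MonoidHom.comp_apply, ← map_inv, ← SemidirectProduct.inl_aut]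
  rfl

theorem mem_ker_tau {g : G} : g ∈ (tau V).ker ↔ g ∈ Subgroup.centralizer (V : Set G) := by
  rw [MonoidHom.mem_ker, Subgroup.mem_centralizer_iff]
  unfold tau
  rw [MonoidHom.comp_apply]
  constructor
  · intro h v hv
    have h1 : MulAut.conjNormal (H := V) g = 1 := by
      apply SemidirectProduct.inr_injective (φ := MonoidHom.id (MulAut ↥V))
      rw [h, map_one]
    have h2 := congrArg (fun f : MulAut ↥V => ((f ⟨v, hv⟩ : ↥V) : G)) h1
    simp only [MulAut.conjNormal_apply, MulAut.one_apply] at h2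
    calc v * g = (g * v * g⁻¹)⁻¹⁻¹ * g := by rw [h2]; group
      _ = g * v := by group
  · intro h
    have h1 : MulAut.conjNormal (H := V) g = 1 := by
      apply MulEquiv.ext
      intro v
      apply Subtype.ext
      rw [MulAut.conjNormal_apply, MulAut.one_apply, ← h v v.2]
      group
    rw [h1, map_one]

theorem ker_tau : (tau V).ker = Subgroup.centralizer (V : Set G) := by
  ext g; exact mem_ker_tau V

theorem mem_VV {x : Amb V} : x ∈ VV V ↔ ∃ v : ↥V, SemidirectProduct.inl v = x := Iff.rfl

theorem VV_isElementaryAbelian {p : ℕ} (hV : IsElementaryAbelian p V) :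
    IsElementaryAbelian p (VV V) := by
  rw [isElementaryAbelian_iff]
  constructor
  · rintro _ ⟨v, rfl⟩ _ ⟨w, rfl⟩
    rw [← map_mul, ← map_mul]
    congr 1
    apply Subtype.ext
    exact isElementaryAbelian_comm hV v.2 w.2
  · rintro _ ⟨v, rfl⟩
    rw [← map_pow]
    have : v ^ p = 1 := by
      apply Subtype.ext
      rw [Subgroup.coe_pow, Subgroup.coe_one]
      exact hV.2 v v.2
    rw [this, map_one]

theorem tr_le_normalizer (X : Subgroup G) : tr V X ≤ Subgroup.normalizer (VV V : Set (Amb V)) := by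
  apply Cfsg.Agent.Lib.Helper1.le_normalizer_of_conj_mem
  rintro _ ⟨g, -, rfl⟩ _ ⟨v, rfl⟩
  rw [tau_conj]
  exact ⟨_, rfl⟩

/-- faithfulness -/
theorem tr_inf_centralizer (X : Subgroup G) :
    tr V X ⊓ Subgroup.centralizer (VV V : Set (Amb V)) = ⊥ := by
  rw [eq_bot_iff]
  rintro _ ⟨⟨g, -, rfl⟩, hc⟩
  rw [Subgroup.mem_bot, ← MonoidHom.mem_ker, mem_ker_tau, Subgroup.mem_centralizer_iff]
  intro v hv
  have h1 := (Subgroup.mem_centralizer_iff.mp hc) (SemidirectProduct.inl ⟨v, hv⟩) ⟨_, rfl⟩
  have h2 : tau V g * SemidirectProduct.inl (⟨v, hv⟩ : ↥V) * (tau V g)⁻¹ =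
      SemidirectProduct.inl (⟨v, hv⟩ : ↥V) := by
    rw [← h1]; group
  rw [tau_conj] at h2
  have h3 := congrArg Subtype.val (SemidirectProduct.inl_injective h2)
  rw [MulAut.conjNormal_apply] at h3
  change g * v * g⁻¹ = v at h3
  calc v * g = (g * v * g⁻¹) * g := by rw [h3]
    _ = g * v := by group

/-- fixed points correspond -/
theorem VV_inf_centralizer_tr (X : Subgroup G) :
    VV V ⊓ Subgroup.centralizer (tr V X : Set (Amb V)) =
      ((V ⊓ Subgroup.centralizer (X : Set G)).subgroupOf V).map SemidirectProduct.inl := by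
  ext x
  constructor
  · rintro ⟨⟨v, rfl⟩, hc⟩
    refine ⟨v, ?_, rfl⟩
    rw [SetLike.mem_coe, Subgroup.mem_subgroupOf]
    refine Subgroup.mem_inf.mpr ⟨v.2, ?_⟩
    rw [Subgroup.mem_centralizer_iff]
    intro g hg
    have h1 := (Subgroup.mem_centralizer_iff.mp hc) (tau V g) ⟨g, hg, rfl⟩
    have h2 : tau V g * SemidirectProduct.inl v * (tau V g)⁻¹ = SemidirectProduct.inl v := by
      rw [h1]; group
    rw [tau_conj] at h2
    have h3 := congrArg Subtype.val (SemidirectProduct.inl_injective h2)
    rw [MulAut.conjNormal_apply] at h3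
    calc g * (v : G) = (g * v * g⁻¹) * g := by group
      _ = v * g := by rw [h3]
  · rintro ⟨v, hv, rfl⟩
    rw [SetLike.mem_coe, Subgroup.mem_subgroupOf] at hv
    refine Subgroup.mem_inf.mpr ⟨⟨v, rfl⟩, ?_⟩
    rw [Subgroup.mem_centralizer_iff]
    rintro _ ⟨g, hg, rfl⟩
    have h1 := (Subgroup.mem_centralizer_iff.mp (Subgroup.mem_inf.mp hv).2) g hg
    have h2 : tau V g * SemidirectProduct.inl v * (tau V g)⁻¹ = SemidirectProduct.inl v := by
      rw [tau_conj]
      congr 1
      apply Subtype.ext
      rw [MulAut.conjNormal_apply, h1]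
      group
    calc tau V g * SemidirectProduct.inl v
        = (tau V g * SemidirectProduct.inl v * (tau V g)⁻¹) * tau V g := by group
      _ = SemidirectProduct.inl v * tau V g := by rw [h2]

theorem card_VV_inf_centralizer_tr [Finite G] (X : Subgroup G) :
    Nat.card ↥(VV V ⊓ Subgroup.centralizer (tr V X : Set (Amb V))) =
      Nat.card ↥(V ⊓ Subgroup.centralizer (X : Set G)) := by
  rw [VV_inf_centralizer_tr, Subgroup.card_map_of_injective SemidirectProduct.inl_injective]
  exact Nat.card_congr (Subgroup.subgroupOfEquivOfLe inf_le_left).toEquiv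

theorem card_VV [Finite G] : Nat.card (VV V) = Nat.card V := by
  unfold VV
  rw [← Nat.card_congr (MonoidHom.ofInjective
    (SemidirectProduct.inl_injective (φ := MonoidHom.id (MulAut ↥V)))).toEquiv]

/-- `|X'| · |X ∩ C| = |X|` -/
theorem card_tr [Finite G] (X : Subgroup G) :
    Nat.card (tr V X) * Nat.card ↥(X ⊓ Subgroup.centralizer (V : Set G)) = Nat.card X := by
  have h1 : Nat.card (tr V X) = Nat.card ((tau V).comp X.subtype).range := by
    rw [MonoidHom.range_comp, Subgroup.range_subtype]
  have h2 : Nat.card ((tau V).comp X.subtype).ker =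
      Nat.card ↥(X ⊓ Subgroup.centralizer (V : Set G)) := by
    have e : ((tau V).comp X.subtype).ker = (Subgroup.centralizer (V : Set G)).subgroupOf X := by
      ext x
      rw [MonoidHom.mem_ker, MonoidHom.comp_apply, ← MonoidHom.mem_ker, mem_ker_tau,
        Subgroup.mem_subgroupOf]
      rfl
    rw [e, ← Subgroup.inf_subgroupOf_right, inf_comm]
    exact Nat.card_congr (Subgroup.subgroupOfEquivOfLe inf_le_left).toEquiv
  rw [h1, ← h2, mul_comm]
  have := Subgroup.card_mul_index ((tau V).comp X.subtype).ker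
  rw [Subgroup.index_ker] at this
  exact this

end Cfsg.Agent.Lib.Helper1.TF
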