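import Mathlib
import Cfsg.Agent.Lib.Helper1.TF1

/-! Automorphisms of `G` acting on the holomorph of a characteristic subgroup. -/
set_option autoImplicit false
universe u v
open Cfsg
open scoped commutatorElement Pointwise

namespace Cfsg.Agent.Lib.Helper1.TF

variable {G : Type u} [Group G] (V : Subgroup G) [hVc : V.Characteristic]

theorem map_mem_of_characteristic (φ : MulAut G) {v : G} (hv : v ∈ V) : φ v ∈ V := by
  have h := hVc.fixed φ
  have : v ∈ V.comap φ.toMonoidHom := by rw [h]; exact hv
  exact this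

/-- restriction of automorphisms to a characteristic subgroup -/
def resAut : MulAut G →* MulAut ↥V where
  toFun φ :=
    { toFun := fun v => ⟨φ v, map_mem_of_characteristic V φ v.2⟩
      invFun := fun v => ⟨φ⁻¹ v, map_mem_of_characteristic V φ⁻¹ v.2⟩
      left_inv := fun v => by
        apply Subtype.ext
        change φ⁻¹ (φ (v : G)) = v
        rw [← MulAut.mul_apply, inv_mul_cancel, MulAut.one_apply]
      right_inv := fun v => by
        apply Subtype.ext
        change φ (φ⁻¹ (v : G)) = v
        rw [← MulAut.mul_apply, mul_inv_cancel, MulAut.one_apply]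
      map_mul' := fun v w => by
        apply Subtype.ext
        change φ ((v : G) * (w : G)) = φ v * φ w
        rw [map_mul] }
  map_one' := by
    apply MulEquiv.ext
    intro v
    rfl
  map_mul' := fun φ ψ => by
    apply MulEquiv.ext
    intro v
    rfl

theorem resAut_apply (φ : MulAut G) (v : ↥V) : ((resAut V φ v : ↥V) : G) = φ (v : G) := rfl

/-- the action of `Aut(G)` inside the holomorph of `V` -/
def xi : MulAut G →* Amb V := SemidirectProduct.inr.comp (resAut V)

theorem xi_conj_inl (φ : MulAut G) (v : ↥V) :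
    xi V φ * SemidirectProduct.inl v * (xi V φ)⁻¹ = SemidirectProduct.inl (resAut V φ v) := by
  unfold xi
  rw [MonoidHom.comp_apply, ← map_inv, ← SemidirectProduct.inl_aut]
  rfl

theorem xi_conj_tau (φ : MulAut G) (g : G) :
    xi V φ * tau V g * (xi V φ)⁻¹ = tau V (φ g) := by
  unfold xi tau
  rw [MonoidHom.comp_apply, MonoidHom.comp_apply, MonoidHom.comp_apply, ← map_inv, ← map_mul,
    ← map_mul]
  congr 1
  apply MulEquiv.ext
  intro v
  apply Subtype.ext
  rw [MulAut.mul_apply, MulAut.mul_apply, MulAut.conjNormal_apply, resAut_apply,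
    MulAut.conjNormal_apply, map_mul, map_mul, map_inv, ← map_inv (resAut V), resAut_apply]
  rw [← MulAut.mul_apply, mul_inv_cancel, MulAut.one_apply]

theorem xi_mem_normalizer_VV (φ : MulAut G) :
    xi V φ ∈ Subgroup.normalizer (VV V : Set (Amb V)) := by
  have key : ∀ ψ : MulAut G, ∀ x ∈ VV V, xi V ψ * x * (xi V ψ)⁻¹ ∈ VV V := by
    rintro ψ _ ⟨v, rfl⟩
    rw [xi_conj_inl]
    exact ⟨_, rfl⟩
  rw [Subgroup.mem_normalizer_iff]
  intro x
  constructor
  · exact key φ x
  · intro hx
    have := key φ⁻¹ _ hx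
    rw [map_inv] at this
    have e : (xi V φ)⁻¹ * (xi V φ * x * (xi V φ)⁻¹) * (xi V φ)⁻¹⁻¹ = x := by group
    rw [e] at this
    exact this

theorem xi_mem_normalizer_tr (φ : MulAut G) (J : Subgroup G) [hJ : J.Characteristic] :
    xi V φ ∈ Subgroup.normalizer (tr V J : Set (Amb V)) := by
  have key : ∀ ψ : MulAut G, ∀ x ∈ tr V J, xi V ψ * x * (xi V ψ)⁻¹ ∈ tr V J := by
    rintro ψ _ ⟨j, hj, rfl⟩
    rw [xi_conj_tau]
    exact ⟨_, map_mem_of_characteristic J ψ hj, rfl⟩
  rw [Subgroup.mem_normalizer_iff]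
  intro x
  constructor
  · exact key φ x
  · intro hx
    have := key φ⁻¹ _ hx
    rw [map_inv] at this
    have e : (xi V φ)⁻¹ * (xi V φ * x * (xi V φ)⁻¹) * (xi V φ)⁻¹⁻¹ = x := by group
    rw [e] at this
    exact this

end Cfsg.Agent.Lib.Helper1.TF
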