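import Mathlib
import Cfsg.Agent.Lib.Helper1.BaerCore
import Cfsg.Agent.Lib.Helper1.CriticalExists
import Cfsg.Agent.Lib.Helper1.CoprimeAut
import Cfsg.Agent.Lib.Helper1.FittingCentralizer
import Cfsg.Agent.Lib.Helper1.PCore
import Cfsg.Agent.Lib.Helper1.PLengthOne
import Cfsg.Agent.Lib.Helper1.CoprimeLift
import Cfsg.Agent.Lib.Helper1.CoprimeSylow
import Cfsg.Agent.Lib.Helper1.TF5

set_option autoImplicit false
open scoped commutatorElement
universe u

namespace Cfsg.Agent.Lib.Helper1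

/-- In a solvable group `X` with `O_{p'}(X) = 1` (`p` odd), a `p'`-subgroup normalised by a
`p`-subgroup `A` containing all elements of order `p` of its centralizer is trivial. -/
theorem invariant_p'_eq_bot {X : Type u} [Group X] [Finite X] [Group.IsSolvable X] {p : ℕ}
    [hp : Fact p.Prime] (hp2 : p ≠ 2)
    (hO : Cfsg.pPrimeCore p X = ⊥) (A Y : Subgroup X) (hA : IsPGroup p A)
    (hAΩ : ∀ x ∈ Subgroup.centralizer (A : Set X), x ^ p = 1 → x ∈ A)
    (hY : (Nat.card Y).Coprime p) (hAY : A ≤ Subgroup.normalizer (Y : Set X)) : Y = ⊥ := by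
  obtain ⟨T, hT⟩ : ∃ T : Subgroup X, T = Cfsg.pCore p X := ⟨_, rfl⟩
  have hTn : T.Normal := by rw [hT]; exact pCore_normal p
  have hTp : IsPGroup p T := by rw [hT]; exact pCore_isPGroup p
  have hCT : Subgroup.centralizer (T : Set X) ≤ T := by rw [hT]; exact centralizer_pCore_le p hO
  have hYT : Y ⊓ T = ⊥ := by
    apply (Subgroup.disjoint_of_coprime_natCard ?_).eq_bot
    obtain ⟨k, hk⟩ := IsPGroup.iff_card.mp hTp
    rw [hk]; exact Nat.Coprime.pow_right k hY
  have h1 : ∀ b ∈ A, b ∈ T → ∀ y ∈ Y, y * b = b * y := by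
    intro b hbA hbT y hy
    have hc : y * b * y⁻¹ * b⁻¹ ∈ Y ⊓ T := by
      refine Subgroup.mem_inf.mpr ⟨?_, ?_⟩
      · have h2 : b * y⁻¹ * b⁻¹ ∈ Y :=
          (Subgroup.mem_normalizer_iff.mp (hAY hbA) y⁻¹).mp (Y.inv_mem hy)
        have e : y * b * y⁻¹ * b⁻¹ = y * (b * y⁻¹ * b⁻¹) := by group
        rw [e]; exact Y.mul_mem hy h2
      · exact T.mul_mem (hTn.conj_mem b hbT y) (T.inv_mem hbT)
    rw [hYT, Subgroup.mem_bot] at hc
    have h3 := congrArg (fun t => t * (b * y)) hc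
    beta_reduce at h3
    rw [one_mul] at h3
    rw [← h3]; group
  obtain ⟨Dc, hchar, hΦ, hcomm, hcent⟩ := exists_critical_subgroup (P := ↥T) hTp
  have hDp : IsPGroup p ↥Dc := hTp.to_subgroup Dc
  have hcc : CommCentral ↥Dc := by
    intro x y z
    have h2 : ⁅x, y⁆ ∈ commutator ↥Dc := by
      rw [commutator_def]
      exact Subgroup.commutator_mem_commutator (Subgroup.mem_top x) (Subgroup.mem_top y)
    have h3 : ⁅x, y⁆ ∈ frattini ↥Dc := commutator_le_frattini_of_isPGroup p hDp h2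
    have h4 : ((⁅x, y⁆ : ↥Dc) : ↥T) ∈ Subgroup.centralizer (Dc : Set ↥T) := hΦ ⟨_, h3, rfl⟩
    have h5 := Subgroup.mem_centralizer_iff.mp h4 (z : ↥T) z.2
    apply Subtype.ext
    rw [Subgroup.coe_mul, Subgroup.coe_mul]
    exact h5.symm
  obtain ⟨φ, hφ⟩ : ∃ φ : X →* MulAut ↥Dc, ∀ (g : X) (d : ↥Dc),
      (((φ g) d : ↥Dc) : ↥T) = MulAut.conjNormal g (d : ↥T) :=
    ⟨(TF.resAut Dc).comp (MulAut.conjNormal (H := T)), fun g d => rfl⟩
  have hφ' : ∀ (g : X) (d : ↥Dc), ((((φ g) d : ↥Dc) : ↥T) : X) = g * ((d : ↥T) : X) * g⁻¹ := by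
    intro g d
    rw [hφ, MulAut.conjNormal_apply]
  have hfixD := baer_core_lemma hp2 hDp hcc φ Y A hY hA hAY (by
    intro x hxp hxA y hy
    have hx' : (((x : ↥T) : X)) ∈ Subgroup.centralizer (A : Set X) := by
      rw [Subgroup.mem_centralizer_iff]
      intro a ha
      have h2 := congrArg (fun d : ↥Dc => ((d : ↥T) : X)) (hxA a ha)
      beta_reduce at h2
      rw [hφ'] at h2
      have h3 := congrArg (fun t => t * a) h2
      beta_reduce at h3
      rw [inv_mul_cancel_right] at h3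
      exact h3
    have hxpX : (((x : ↥T) : X)) ^ p = 1 := by
      have h2 := congrArg (fun d : ↥Dc => ((d : ↥T) : X)) hxp
      simpa using h2
    have hxA' := hAΩ _ hx' hxpX
    have hcomm' := h1 _ hxA' (x : ↥T).2 y hy
    apply Subtype.ext; apply Subtype.ext
    rw [hφ', hcomm']; group)
  rw [eq_bot_iff]
  intro y hy
  rw [Subgroup.mem_bot]
  obtain ⟨α, hα⟩ : ∃ α : MulAut ↥T, α = MulAut.conjNormal y := ⟨_, rfl⟩
  have hαfix : ∀ d ∈ Dc, α d = d := by
    intro d hd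
    have h2 := congrArg Subtype.val (hfixD y hy ⟨d, hd⟩)
    rw [hφ] at h2
    rw [hα]; exact h2
  have hαord : Nat.Coprime (orderOf α) p := by
    have h2 : orderOf α ∣ orderOf y := by
      rw [hα]; exact orderOf_map_dvd (MulAut.conjNormal (H := T)) y
    have h3 : orderOf y ∣ Nat.card Y := by
      have : orderOf (⟨y, hy⟩ : ↥Y) = orderOf y := Subgroup.orderOf_mk y hy
      rw [← this]; exact orderOf_dvd_natCard _
    exact Nat.Coprime.coprime_dvd_left (h2.trans h3) hY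
  have hα1 : α = 1 := coprime_aut_trivial_of_fix_self_centralizing hTp Dc hchar hcent α hαord hαfix
  have hyC : y ∈ Subgroup.centralizer (T : Set X) := by
    rw [Subgroup.mem_centralizer_iff]
    intro t ht
    have h2 : α ⟨t, ht⟩ = ⟨t, ht⟩ := by rw [hα1, MulAut.one_apply]
    rw [hα] at h2
    have h3 := congrArg Subtype.val h2
    rw [MulAut.conjNormal_apply] at h3
    -- y * t * y⁻¹ = t
    have h4 := congrArg (fun s => s * y) h3
    beta_reduce at h4
    rw [inv_mul_cancel_right] at h4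
    exact h4.symm
  have hyT : y ∈ Y ⊓ T := Subgroup.mem_inf.mpr ⟨hy, hCT hyC⟩
  rw [hYT, Subgroup.mem_bot] at hyT
  exact hyT

/-- In a solvable group `X` (`p` odd), a `p'`-subgroup normalised by a `p`-subgroup `A` containing
all elements of order `p` of its centralizer lies in `O_{p'}(X)`. -/
theorem invariant_p'_le_pPrimeCore {X : Type u} [Group X] [Finite X] [Group.IsSolvable X] {p : ℕ}
    [hp : Fact p.Prime] (hp2 : p ≠ 2) (A Y : Subgroup X) (hA : IsPGroup p A)
    (hAΩ : ∀ x ∈ Subgroup.centralizer (A : Set X), x ^ p = 1 → x ∈ A)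
    (hY : (Nat.card Y).Coprime p) (hAY : A ≤ Subgroup.normalizer (Y : Set X)) :
    Y ≤ Cfsg.pPrimeCore p X := by
  obtain ⟨R, hR⟩ : ∃ R : Subgroup X, R = Cfsg.pPrimeCore p X := ⟨_, rfl⟩
  have hRn : R.Normal := by rw [hR]; exact pPrimeCore_normal p
  have hRp : (Nat.card R).Coprime p := by rw [hR]; exact pPrimeCore_card_coprime p
  have hbot : Cfsg.pPrimeCore p (X ⧸ R) = ⊥ := by subst hR; exact pPrimeCore_quotient_eq_bot p
  rw [← hR]
  obtain ⟨π, hπ⟩ : ∃ π : X →* X ⧸ R, π = QuotientGroup.mk' R := ⟨_, rfl⟩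
  have hπker : ∀ g, π g = 1 ↔ g ∈ R := by
    intro g; rw [hπ]; exact QuotientGroup.eq_one_iff g
  have key := invariant_p'_eq_bot hp2 hbot (A.map π) (Y.map π) (hA.map π) (by
    intro xbar hxbar hxp
    obtain ⟨g, rfl⟩ : ∃ g, π g = xbar := by rw [hπ]; exact QuotientGroup.mk'_surjective R xbar
    have hg : ∀ a ∈ A, g * a * g⁻¹ * a⁻¹ ∈ R := by
      intro a ha
      rw [← hπker, map_mul, map_mul, map_mul, map_inv, map_inv]
      have h2 := Subgroup.mem_centralizer_iff.mp hxbar (π a) ⟨a, ha, rfl⟩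
      rw [← h2]; group
    obtain ⟨r, hr, c, hc, rfl⟩ := exists_mul_mem_centralizer_of_comm_mem R hRp A hA g hg
    have hπc : π (r * c) = π c := by rw [map_mul, (hπker r).mpr hr, one_mul]
    rw [hπc] at hxp ⊢
    obtain ⟨e, he⟩ : ∃ e, e = Nat.card R ^ Nat.totient p := ⟨_, rfl⟩
    have he1 : e ≡ 1 [MOD p] := by rw [he]; exact Nat.ModEq.pow_totient hRp
    have he2 : Nat.card R ∣ e := by
      rw [he]; exact dvd_pow_self _ (Nat.totient_pos.mpr hp.out.pos).ne'
    have hcp : (c ^ e) ^ p = 1 := by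
      have h1 : c ^ p ∈ R := by rw [← hπker, map_pow]; exact hxp
      obtain ⟨k, hk⟩ := he2
      have h2 : (c ^ p) ^ Nat.card R = 1 := by
        have h3 := pow_card_eq_one' (G := ↥R) (x := ⟨c ^ p, h1⟩)
        exact congrArg Subtype.val h3
      rw [← pow_mul, mul_comm, pow_mul, hk, pow_mul, h2, one_pow]
    have hcC : c ^ e ∈ Subgroup.centralizer (A : Set X) := Subgroup.pow_mem _ hc e
    have hcA : c ^ e ∈ A := hAΩ _ hcC hcp
    have hπe : π (c ^ e) = π c := by
      rw [map_pow]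
      have h3 : orderOf (π c) ∣ p := orderOf_dvd_of_pow_eq_one hxp
      have h4 : e ≡ 1 [MOD orderOf (π c)] := he1.of_dvd h3
      have h5 := pow_eq_pow_iff_modEq.mpr h4
      rw [h5, pow_one]
    rw [← hπe]
    exact ⟨_, hcA, rfl⟩)
    (Nat.Coprime.coprime_dvd_left (Subgroup.card_map_dvd Y π) hY)
    (by
      apply le_normalizer_of_conj_mem
      rintro _ ⟨a, ha, rfl⟩ _ ⟨y, hy, rfl⟩
      exact ⟨a * y * a⁻¹, (Subgroup.mem_normalizer_iff.mp (hAY ha) y).mp hy, by simp⟩)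
  intro y hy
  have h2 : π y ∈ Y.map π := ⟨y, hy, rfl⟩
  rw [key, Subgroup.mem_bot] at h2
  exact (hπker y).mp h2

end Cfsg.Agent.Lib.Helper1
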