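import Mathlib
import Cfsg.Agent.Lib.Helper1.BG7e
import Cfsg.Agent.Lib.Helper1.InvPPrime

set_option autoImplicit false
universe u
open scoped commutatorElement Pointwise

namespace Cfsg.Agent.Lib.Helper1.BG7

open Cfsg Subgroup

variable {G : Type u} [Group G] [Finite G]

/-- If `A` is a self-centralizing normal subgroup of a Sylow `p`-subgroup `P` of `G`, every element
of order dividing `p` in `C_G(A)` lies in `A`. -/
theorem mem_of_mem_centralizer_of_isSCN {p : ℕ} [hp : Fact p.Prime]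
    (P : Sylow p G) {A : Subgroup G} (hSCN : Cfsg.IsSCN (P : Subgroup G) A) {x : G}
    (hx : x ∈ Subgroup.centralizer (A : Set G)) (hxp : x ^ p = 1) : x ∈ A := by
  obtain ⟨hAP, hPN, hPC⟩ := hSCN
  obtain ⟨N, hN⟩ : ∃ N : Subgroup G, N = Subgroup.normalizer (A : Set G) := ⟨_, rfl⟩
  rw [← hN] at hPN
  have hxN : x ∈ N := by rw [hN]; exact Subgroup.centralizer_le_normalizer _ hx
  obtain ⟨x', hx'⟩ : ∃ x' : ↥N, x' = ⟨x, hxN⟩ := ⟨_, rfl⟩
  have hx'p : x' ^ p = 1 := by
    rw [hx']; exact Subtype.ext (by simpa using hxp)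
  have hZ : IsPGroup p (Subgroup.zpowers x') := by
    rintro ⟨g, hg⟩
    obtain ⟨k, rfl⟩ := Subgroup.mem_zpowers_iff.mp hg
    refine ⟨1, Subtype.ext ?_⟩
    rw [pow_one, Subgroup.coe_pow, Subgroup.coe_one, ← zpow_natCast, ← zpow_mul, mul_comm,
      zpow_mul, zpow_natCast, hx'p, one_zpow]
  obtain ⟨Q, hQ⟩ := hZ.exists_le_sylow
  obtain ⟨n, hn⟩ := MulAction.exists_smul_eq ↥N Q (P.subtype hPN)
  have h1 : n * x' * n⁻¹ ∈ ((P.subtype hPN : Sylow p ↥N) : Subgroup ↥N) := by
    rw [← hn, Sylow.coe_subgroup_smul]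
    have h2 : x' ∈ (Q : Subgroup ↥N) := hQ (Subgroup.mem_zpowers x')
    have h3 := Subgroup.smul_mem_pointwise_smul x' (MulAut.conj n) _ h2
    rwa [MulAut.smul_def, MulAut.conj_apply] at h3
  rw [Sylow.coe_subtype, Subgroup.mem_subgroupOf] at h1
  have h2 : (n : G) * x * (n : G)⁻¹ ∈ (P : Subgroup G) := by
    rw [hx'] at h1; simpa using h1
  have hnN : (n : G) ∈ Subgroup.normalizer (A : Set G) := by rw [← hN]; exact n.2
  have h3 : (n : G) * x * (n : G)⁻¹ ∈ Subgroup.centralizer (A : Set G) :=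
    (Subgroup.mem_normalizer_iff.mp (normalizer_le_normalizer_centralizer_self A hnN) x).mp hx
  have h4 : (n : G) * x * (n : G)⁻¹ ∈ A := by
    rw [← hPC]; exact Subgroup.mem_inf.mpr ⟨h2, h3⟩
  have hnN' : (n : G)⁻¹ ∈ Subgroup.normalizer (A : Set G) := Subgroup.inv_mem _ hnN
  have h5 := (Subgroup.mem_normalizer_iff.mp hnN' _).mp h4
  have e : (n : G)⁻¹ * ((n : G) * x * (n : G)⁻¹) * (n : G)⁻¹⁻¹ = x := by group
  rwa [e] at h5

/-- A nontrivial `p`-subgroup `A` of a minimal simple group of odd order containing all elements of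
order `p` of its centralizer satisfies the transitivity hypothesis. -/
theorem t76_of_omega (hG : IsMinSimpleOddOrder G) {p : ℕ} [hp : Fact p.Prime] {A : Subgroup G}
    (hAp : IsPGroup p A) (hAbot : A ≠ ⊥)
    (hAΩ : ∀ x ∈ Subgroup.centralizer (A : Set G), x ^ p = 1 → x ∈ A) :
    TransitivityHypothesis A := by
  have hAtop : A ≠ ⊤ := pgroup_ne_top hG hAp
  obtain ⟨k, hk⟩ := IsPGroup.iff_card.mp hAp
  have hpA : p ∣ Nat.card A := by
    rw [hk]
    apply dvd_pow_self
    intro h0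
    rw [h0, pow_zero] at hk
    exact hAbot (Subgroup.card_eq_one.mp hk)
  have hp2 : p ≠ 2 := by
    intro h2
    have hodd := hG.1
    have h3 : p ∣ Nat.card G := hpA.trans (Subgroup.card_subgroup_dvd_card A)
    rw [h2] at h3
    exact (Nat.not_even_iff_odd.mpr hodd) (even_iff_two_dvd.mpr h3)
  refine ⟨hAbot, hAtop, ?_⟩
  intro X hX hAX
  apply le_antisymm
  · apply sSup_le
    intro Y hY
    obtain ⟨hYX, hYπ, hAY⟩ := hY
    have hXs : Group.IsSolvable X := isSolvable_of_ne_top hG hX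
    have hYcop : (Nat.card (Y.subgroupOf X)).Coprime p := by
      rw [card_subgroupOf_of_le hYX, Nat.coprime_comm, Nat.Prime.coprime_iff_not_dvd hp.out]
      intro hd
      exact (hYπ p hp.out hd).2 hpA
    have key := invariant_p'_le_pPrimeCore (X := ↥X) hp2 (A.subgroupOf X) (Y.subgroupOf X)
      (hAp.comap_subtype) (by
        intro x hx hxp
        rw [Subgroup.mem_subgroupOf]
        apply hAΩ
        · rw [Subgroup.mem_centralizer_iff]
          intro a ha
          have h2 := Subgroup.mem_centralizer_iff.mp hx ⟨a, hAX ha⟩ (Subgroup.mem_subgroupOf.mpr ha)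
          exact congrArg Subtype.val h2
        · have h2 := congrArg Subtype.val hxp
          simpa using h2) hYcop (by
        intro a ha
        rw [Subgroup.mem_normalizer_iff]
        intro y
        rw [Subgroup.mem_subgroupOf, Subgroup.mem_subgroupOf]
        have h2 := Subgroup.mem_normalizer_iff.mp (hAY (Subgroup.mem_subgroupOf.mp ha)) (y : G)
        simpa using h2)
    have hRn : (Cfsg.pPrimeCore p ↥X).Normal := Helper1.pPrimeCore_normal p
    have hle : Cfsg.pPrimeCore p ↥X ≤ piCore (primesNotDvd (Nat.card A)) ↥X := by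
      apply Helper2.le_piCore
      intro q hq hd
      refine ⟨hq, ?_⟩
      intro hqA
      rw [hk] at hqA
      have hqp : q = p := (Nat.prime_dvd_prime_iff_eq hq hp.out).mp (hq.dvd_of_dvd_pow hqA)
      have hcop := Helper1.pPrimeCore_card_coprime (G := ↥X) p
      rw [hqp] at hd
      have : p ∣ Nat.gcd (Nat.card (Cfsg.pPrimeCore p ↥X)) p := Nat.dvd_gcd hd dvd_rfl
      rw [hcop] at this
      exact hp.out.one_lt.ne' (Nat.dvd_one.mp this)
    intro y hy
    exact ⟨⟨y, hYX hy⟩, hle (key (Subgroup.mem_subgroupOf.mpr hy)), rfl⟩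
  · apply le_sSup
    exact ⟨piCoreOf_le _ _, piCoreOf_pi _ _, hAX.trans (le_normalizer_piCoreOf _ _)⟩

/-- BG Theorem 7.6 -/
theorem t76 (hG : IsMinSimpleOddOrder G) (p : ℕ) [hp : Fact p.Prime] (hpG : p ∣ Nat.card G)
    (A : Subgroup G) (hAp : IsPGroup p A)
    (h : (∀ x ∈ Subgroup.centralizer (A : Set G), x ^ p = 1 ↔ x ∈ A) ∨
      ∃ P : Sylow p G, Cfsg.IsSCN (P : Subgroup G) A ∧ ¬ Cfsg.PRankLE p 1 A) :
    TransitivityHypothesis A := by
  rcases h with h | ⟨P, hSCN, hrank⟩
  · apply t76_of_omega hG hAp ?_ (fun x hx hxp => (h x hx).mp hxp)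
    intro hbot
    obtain ⟨g, hg⟩ := exists_prime_orderOf_dvd_card' p hpG
    have hgC : g ∈ Subgroup.centralizer (A : Set G) := by
      rw [Subgroup.mem_centralizer_iff]
      intro a ha
      have ha' : a ∈ A := ha
      rw [hbot, Subgroup.mem_bot] at ha'
      rw [ha', one_mul, mul_one]
    have hgp : g ^ p = 1 := by rw [← hg]; exact pow_orderOf_eq_one g
    have hgA := (h g hgC).mp hgp
    rw [hbot, Subgroup.mem_bot] at hgA
    rw [hgA, orderOf_one] at hg
    exact hp.out.one_lt.ne hg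
  · apply t76_of_omega hG hAp ?_ (fun x hx hxp => mem_of_mem_centralizer_of_isSCN P hSCN hx hxp)
    intro hbot
    apply hrank
    intro B _ _
    have h1 : Nat.card B ≤ Nat.card A := Nat.le_of_dvd Nat.card_pos (Subgroup.card_subgroup_dvd_card B)
    have hA1 : Nat.card A = 1 := by rw [Subgroup.card_eq_one]; exact hbot
    rw [hA1] at h1
    rw [pow_one]
    exact h1.trans hp.out.one_lt.le

end Cfsg.Agent.Lib.Helper1.BG7
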