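import Mathlib
import Cfsg.Agent.Lib.Helper1.BG7g
import Cfsg.Agent.Lib.Helper1.BG7f
import Cfsg.Agent.Lib.Helper7.Balance
import Cfsg.Agent.Lib.Helper1.FittingCentralizer

set_option autoImplicit false
universe u
open scoped commutatorElement Pointwise

namespace Cfsg.Agent.Lib.Helper1.BG8

open Cfsg Subgroup Cfsg.Agent.Lib.Helper1 Cfsg.Agent.Lib.Helper1.BG7

variable {G : Type u} [Group G]

/-- the set of naturals different from `q` (used as `q'`) -/
def ne (q : ℕ) : Set ℕ := {t | t ≠ q}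

/-- `Y` is a `π`-group -/
def PiGrp (π : Set ℕ) (Y : Subgroup G) : Prop := ∀ p : ℕ, p.Prime → p ∣ Nat.card Y → p ∈ π

theorem PiGrp.mono {π : Set ℕ} {Y Z : Subgroup G} (h : PiGrp π Z) (hYZ : Y ≤ Z) : PiGrp π Y :=
  fun p hp hd => h p hp (hd.trans (Subgroup.card_dvd_of_le hYZ))

theorem PiGrp.mono_left {π π' : Set ℕ} {Y : Subgroup G} (h : PiGrp π Y) (hπ : π ⊆ π') :
    PiGrp π' Y := fun p hp hd => hπ (h p hp hd)

theorem piGrp_bot (π : Set ℕ) : PiGrp π (⊥ : Subgroup G) := by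
  intro p hp hd
  rw [Subgroup.card_bot] at hd
  exact absurd (Nat.dvd_one.mp hd) hp.one_lt.ne'

theorem piGrp_singleton_iff [Finite G] {q : ℕ} [hq : Fact q.Prime] {Y : Subgroup G} :
    PiGrp {q} Y ↔ IsPGroup q Y := by
  constructor
  · intro h
    have h1 : ∀ {d : ℕ}, d.Prime → d ∣ Nat.card Y → d = q := fun hd hdd => h _ hd hdd
    exact IsPGroup.of_card (Nat.eq_prime_pow_of_unique_prime_dvd Nat.card_pos.ne' h1)
  · intro h p hp hd
    obtain ⟨k, hk⟩ := IsPGroup.iff_card.mp h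
    rw [hk] at hd
    exact (Nat.prime_dvd_prime_iff_eq hp hq.out).mp (hp.dvd_of_dvd_pow hd)

theorem piGrp_ne_iff [Finite G] {q : ℕ} [hq : Fact q.Prime] {Y : Subgroup G} :
    PiGrp (ne q) Y ↔ (Nat.card Y).Coprime q := by
  constructor
  · intro h
    rw [Nat.coprime_comm, Nat.Prime.coprime_iff_not_dvd hq.out]
    intro hd
    exact h q hq.out hd rfl
  · intro h p hp hd hpq
    have hpq' : p = q := hpq
    rw [hpq'] at hd
    rw [Nat.coprime_comm, Nat.Prime.coprime_iff_not_dvd hq.out] at h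
    exact h hd

theorem PiGrp.coprime {π π' : Set ℕ} {Y Z : Subgroup G} (hY : PiGrp π Y) (hZ : PiGrp π' Z)
    (hd : ∀ p, p ∈ π → p ∈ π' → False) : (Nat.card Y).Coprime (Nat.card Z) :=
  Nat.coprime_of_dvd fun k hk h1 h2 => hd k (hY k hk h1) (hZ k hk h2)

/-! ### more on `piCoreOf` -/

theorem piCoreOf_piGrp [Finite G] (π : Set ℕ) (X : Subgroup G) : PiGrp π (piCoreOf π X) :=
  piCoreOf_pi π X

theorem le_piCoreOf' {π : Set ℕ} {X Y : Subgroup G} (hYX : Y ≤ X)
    (hn : X ≤ Subgroup.normalizer (Y : Set G)) (hπ : PiGrp π Y) : Y ≤ piCoreOf π X :=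
  le_piCoreOf hYX hn hπ

theorem piCoreOf_mono [Finite G] {π π' : Set ℕ} (h : π ⊆ π') (X : Subgroup G) :
    piCoreOf π X ≤ piCoreOf π' X :=
  le_piCoreOf (piCoreOf_le π X) (le_normalizer_piCoreOf π X)
    (fun p hp hd => h (piCoreOf_pi π X p hp hd))

theorem normalizer_le_normalizer_piCoreOf [Finite G] (π : Set ℕ) (X : Subgroup G) :
    Subgroup.normalizer (X : Set G) ≤ Subgroup.normalizer (piCoreOf π X : Set G) := by
  apply le_normalizer_of_conj_mem
  intro g hg x hx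
  have hle : cj g (piCoreOf π X) ≤ piCoreOf π X := by
    apply le_piCoreOf
    · have h1 : cj g (piCoreOf π X) ≤ cj g X := cj_mono (piCoreOf_le π X)
      rw [cj_eq_of_mem_normalizer hg] at h1
      exact h1
    · exact le_normalizer_cj_of_mem_normalizer hg (le_normalizer_piCoreOf π X)
    · intro p hp hd
      rw [card_cj] at hd
      exact piCoreOf_pi π X p hp hd
  exact hle (conj_mem_cj hx)

theorem piCoreOf_inf_le [Finite G] (π : Set ℕ) {X Y : Subgroup G} (hYX : Y ≤ X) :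
    piCoreOf π X ⊓ Y ≤ piCoreOf π Y := by
  apply le_piCoreOf inf_le_right
  · exact le_normalizer_inf (hYX.trans (le_normalizer_piCoreOf π X)) Subgroup.le_normalizer
  · exact (piCoreOf_piGrp π X).mono inf_le_left

theorem piCoreOf_le_of_normal [Finite G] (π : Set ℕ) {N X : Subgroup G} (hNX : N ≤ X)
    (hn : X ≤ Subgroup.normalizer (N : Set G)) : piCoreOf π N ≤ piCoreOf π X :=
  le_piCoreOf ((piCoreOf_le π N).trans hNX) (hn.trans (normalizer_le_normalizer_piCoreOf π N))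
    (piCoreOf_piGrp π N)

/-- two subgroups normalizing each other with trivial intersection commute -/
theorem commute_of_normalize {N₁ N₂ : Subgroup G} (h12 : N₁ ≤ Subgroup.normalizer (N₂ : Set G))
    (h21 : N₂ ≤ Subgroup.normalizer (N₁ : Set G)) (hd : N₁ ⊓ N₂ = ⊥) :
    N₁ ≤ Subgroup.centralizer (N₂ : Set G) := by
  intro a ha
  rw [Subgroup.mem_centralizer_iff]
  intro b hb
  have hb' : b ∈ N₂ := hb
  have h1 : a * b * a⁻¹ * b⁻¹ ∈ N₂ :=
    N₂.mul_mem ((Subgroup.mem_normalizer_iff.mp (h12 ha) b).mp hb') (N₂.inv_mem hb')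
  have h2 : a * b * a⁻¹ * b⁻¹ ∈ N₁ := by
    have h3 : b * a⁻¹ * b⁻¹ ∈ N₁ :=
      (Subgroup.mem_normalizer_iff.mp (h21 hb') a⁻¹).mp (N₁.inv_mem ha)
    have e : a * b * a⁻¹ * b⁻¹ = a * (b * a⁻¹ * b⁻¹) := by group
    rw [e]; exact N₁.mul_mem ha h3
  have h3 : a * b * a⁻¹ * b⁻¹ ∈ N₁ ⊓ N₂ := Subgroup.mem_inf.mpr ⟨h2, h1⟩
  rw [hd, Subgroup.mem_bot] at h3
  have : a * b = b * a := by
    have e : a * b = (a * b * a⁻¹ * b⁻¹) * (b * a) := by group
    rw [e, h3, one_mul]
  exact this.symm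

theorem piCoreOf_commute [Finite G] {π π' : Set ℕ} (X : Subgroup G)
    (hd : ∀ p, p ∈ π → p ∈ π' → False) :
    piCoreOf π X ≤ Subgroup.centralizer (piCoreOf π' X : Set G) := by
  apply commute_of_normalize
  · exact (piCoreOf_le π X).trans (le_normalizer_piCoreOf π' X)
  · exact (piCoreOf_le π' X).trans (le_normalizer_piCoreOf π X)
  · exact (Subgroup.disjoint_of_coprime_natCard ((piCoreOf_piGrp π X).coprime (piCoreOf_piGrp π' X) hd)).eq_bot

/-! ### bridging with `pCore`, `pPrimeCore` -/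

theorem piCore_singleton [Finite G] (q : ℕ) [hq : Fact q.Prime] : piCore {q} G = pCore q G := by
  unfold piCore pCore
  congr 1
  ext N
  constructor
  · rintro ⟨hN, h⟩
    exact ⟨hN, piGrp_singleton_iff.mp h⟩
  · rintro ⟨hN, h⟩
    exact ⟨hN, piGrp_singleton_iff.mpr h⟩

theorem piCore_ne [Finite G] (q : ℕ) [hq : Fact q.Prime] : piCore (ne q) G = pPrimeCore q G := by
  unfold piCore pPrimeCore
  congr 1
  ext N
  constructor
  · rintro ⟨hN, h⟩
    exact ⟨hN, piGrp_ne_iff.mp h⟩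
  · rintro ⟨hN, h⟩
    exact ⟨hN, piGrp_ne_iff.mpr h⟩

theorem piCoreOf_singleton_isPGroup [Finite G] (q : ℕ) [hq : Fact q.Prime] (X : Subgroup G) :
    IsPGroup q (piCoreOf {q} X) := piGrp_singleton_iff.mp (piCoreOf_piGrp _ _)

theorem piCoreOf_ne_coprime [Finite G] (q : ℕ) [hq : Fact q.Prime] (X : Subgroup G) :
    (Nat.card (piCoreOf (ne q) X)).Coprime q := piGrp_ne_iff.mp (piCoreOf_piGrp _ _)

theorem le_piCoreOf_singleton [Finite G] {q : ℕ} [hq : Fact q.Prime] {X Y : Subgroup G}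
    (hYX : Y ≤ X) (hn : X ≤ Subgroup.normalizer (Y : Set G)) (hY : IsPGroup q Y) :
    Y ≤ piCoreOf {q} X := le_piCoreOf hYX hn (piGrp_singleton_iff.mpr hY)

theorem piCoreOf_singleton_le_ne [Finite G] {q r : ℕ} (hqr : q ≠ r) (X : Subgroup G) :
    piCoreOf {q} X ≤ piCoreOf (ne r) X :=
  piCoreOf_mono (fun t ht => by
    have : t = q := ht
    show t ≠ r
    rw [this]; exact hqr) X

/-- Hall--Higman 1.2.3 in relative form -/
theorem centralizer_piCoreOf_le [Finite G] (r : ℕ) [hr : Fact r.Prime] (X : Subgroup G)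
    [hX : Group.IsSolvable X] (h : piCoreOf (ne r) X = ⊥) :
    X ⊓ Subgroup.centralizer (piCoreOf {r} X : Set G) ≤ piCoreOf {r} X := by
  have h1 : pPrimeCore r ↥X = ⊥ := by
    rw [← piCore_ne]
    unfold piCoreOf at h
    exact (Subgroup.map_eq_bot_iff_of_injective _ X.subtype_injective).mp h
  have h2 := centralizer_pCore_le (G := ↥X) r h1
  intro x hx
  obtain ⟨hxX, hxC⟩ := Subgroup.mem_inf.mp hx
  have h3 : (⟨x, hxX⟩ : ↥X) ∈ Subgroup.centralizer (pCore r ↥X : Set ↥X) := by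
    rw [Subgroup.mem_centralizer_iff]
    intro y hy
    apply Subtype.ext
    have hy' : (y : G) ∈ piCoreOf {r} X := by
      unfold piCoreOf
      rw [piCore_singleton]
      exact ⟨y, hy, rfl⟩
    exact Subgroup.mem_centralizer_iff.mp hxC _ hy'
  have h4 := h2 h3
  unfold piCoreOf
  rw [piCore_singleton]
  exact ⟨⟨x, hxX⟩, h4, rfl⟩

/-- `O_{q'}(N_X(Q)) ≤ O_{q'}(X)` for a `q`-subgroup `Q` of a solvable group `X` -/
theorem piCoreOf_ne_normalizer_le [Finite G] (q : ℕ) [hq : Fact q.Prime] (X Q : Subgroup G)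
    [hX : Group.IsSolvable X] (hQX : Q ≤ X) (hQ : IsPGroup q Q) :
    piCoreOf (ne q) (X ⊓ Subgroup.normalizer (Q : Set G)) ≤ piCoreOf (ne q) X := by
  obtain ⟨N, hN⟩ : ∃ N : Subgroup G, N = X ⊓ Subgroup.normalizer (Q : Set G) := ⟨_, rfl⟩
  rw [← hN]
  obtain ⟨D, hD⟩ : ∃ D : Subgroup G, D = piCoreOf (ne q) N := ⟨_, rfl⟩
  rw [← hD]
  have hDN : D ≤ N := by rw [hD]; exact piCoreOf_le _ _
  have hNX : N ≤ X := by rw [hN]; exact inf_le_left
  have hQN : Q ≤ N := by rw [hN]; exact le_inf hQX Subgroup.le_normalizer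
  have hNQ : N ≤ Subgroup.normalizer (Q : Set G) := by rw [hN]; exact inf_le_right
  have hND : N ≤ Subgroup.normalizer (D : Set G) := by rw [hD]; exact le_normalizer_piCoreOf _ _
  have hDcop : (Nat.card D).Coprime q := by rw [hD]; exact piCoreOf_ne_coprime q N
  have hDQ : D ≤ Subgroup.centralizer (Q : Set G) := by
    apply commute_of_normalize (hDN.trans hNQ) (hQN.trans hND)
    apply Disjoint.eq_bot
    apply Subgroup.disjoint_of_coprime_natCard
    obtain ⟨k, hk⟩ := IsPGroup.iff_card.mp hQ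
    rw [hk]
    exact Nat.Coprime.pow_right k hDcop
  have key := Cfsg.Agent.Lib.Helper7.le_pPrimeCore_of_centralizer (H := ↥X) q
    (Q.subgroupOf X) (D.subgroupOf X) hQ.comap_subtype (by
      intro d hd
      rw [Subgroup.mem_centralizer_iff]
      intro y hy
      apply Subtype.ext
      exact Subgroup.mem_centralizer_iff.mp (hDQ (Subgroup.mem_subgroupOf.mp hd)) _
        (Subgroup.mem_subgroupOf.mp hy)) (by
      intro c hc
      have hcN : (c : G) ∈ N := by
        rw [hN]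
        refine Subgroup.mem_inf.mpr ⟨c.2, Subgroup.centralizer_le_normalizer _ ?_⟩
        rw [Subgroup.mem_centralizer_iff]
        intro y hy
        have := Subgroup.mem_centralizer_iff.mp hc ⟨y, hQX hy⟩ (Subgroup.mem_subgroupOf.mpr hy)
        exact congrArg Subtype.val this
      rw [Subgroup.mem_normalizer_iff]
      intro y
      rw [Subgroup.mem_subgroupOf, Subgroup.mem_subgroupOf]
      exact Subgroup.mem_normalizer_iff.mp (hND hcN) (y : G)) (by
      rw [card_subgroupOf_of_le (hDN.trans hNX)]; exact hDcop)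
  intro d hd
  unfold piCoreOf
  rw [piCore_ne]
  exact ⟨⟨d, hNX (hDN hd)⟩, key (Subgroup.mem_subgroupOf.mpr hd), rfl⟩

end Cfsg.Agent.Lib.Helper1.BG8
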