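import Mathlib
import Cfsg.Agent.Lib.Helper1.BG8a
import Cfsg.Agent.Lib.Helper1.Fitting
import Cfsg.Agent.Lib.Helper1.Nilpotent

set_option autoImplicit false
universe u
open scoped commutatorElement Pointwise

namespace Cfsg.Agent.Lib.Helper1.BG8

open Cfsg Subgroup Cfsg.Agent.Lib.Helper1 Cfsg.Agent.Lib.Helper1.BG7

variable {G : Type u} [Group G]

/-! ### coprime action centralizing a self-centralizing normal subgroup -/

theorem commutator_le_of_le_normalizer {N B : Subgroup G}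
    (hBN : B ≤ Subgroup.normalizer (N : Set G)) : ⁅N, B⁆ ≤ N := by
  rw [Subgroup.commutator_le]
  intro n hn b hb
  have h1 : b * n⁻¹ * b⁻¹ ∈ N := (Subgroup.mem_normalizer_iff.mp (hBN hb) n⁻¹).mp (N.inv_mem hn)
  have e : ⁅n, b⁆ = n * (b * n⁻¹ * b⁻¹) := by rw [commutatorElement_def]; group
  rw [e]; exact N.mul_mem hn h1

theorem centralizes_of_centralizes_self_centralizing [Finite G] (N B E : Subgroup G)
    (hNE : N ≤ Subgroup.normalizer (E : Set G)) (hBN : B ≤ Subgroup.normalizer (N : Set G))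
    (hcop : (Nat.card B).Coprime (Nat.card N)) (hsolv : Group.IsSolvable B ∨ Group.IsSolvable N)
    (hC : N ⊓ Subgroup.centralizer (E : Set G) ≤ E) (hBE : B ≤ Subgroup.centralizer (E : Set G)) :
    N ≤ Subgroup.centralizer (B : Set G) := by
  have hBE' : ⁅B, E⁆ = ⊥ := Subgroup.commutator_eq_bot_iff_le_centralizer.mpr hBE
  have hEB' : ⁅E, B⁆ = ⊥ := by rw [Subgroup.commutator_comm]; exact hBE'
  have h1 : ⁅⁅B, E⁆, N⁆ = ⊥ := by rw [hBE']; exact Subgroup.commutator_bot_left N
  have h2 : ⁅⁅E, N⁆, B⁆ = ⊥ := by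
    have h3 : ⁅E, N⁆ ≤ E := commutator_le_of_le_normalizer hNE
    rw [eq_bot_iff, ← hEB']
    exact Subgroup.commutator_mono h3 le_rfl
  have h3 : ⁅⁅N, B⁆, E⁆ = ⊥ := Subgroup.commutator_commutator_eq_bot_of_rotate h1 h2
  have h4 : ⁅N, B⁆ ≤ E :=
    (le_inf (commutator_le_of_le_normalizer hBN)
      (Subgroup.commutator_eq_bot_iff_le_centralizer.mp h3)).trans hC
  have h5 : ⁅N, B⁆ = ⊥ := by
    rw [← coprime_commutator_commutator B N hBN hcop hsolv, eq_bot_iff, ← hEB']
    exact Subgroup.commutator_mono h4 le_rfl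
  exact Subgroup.commutator_eq_bot_iff_le_centralizer.mp h5

/-! ### the Fitting subgroup, absolute form -/

theorem isPGroup_le_pCore_of_le_fitting {X : Type u} [Group X] [Finite X] {q : ℕ}
    [hq : Fact q.Prime] {Y : Subgroup X} (hY : Y ≤ fittingSubgroup X) (hYq : IsPGroup q Y) :
    Y ≤ pCore q X := by
  have hFn : (fittingSubgroup X).Normal := Helper1.fittingSubgroup_normal
  have hFnil : Group.IsNilpotent (fittingSubgroup X) := Helper1.fittingSubgroup_isNilpotent
  obtain ⟨S, hS⟩ := (hYq.comap_subtype (K := fittingSubgroup X)).exists_le_sylow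
  have hall : ∀ (p : ℕ) (_ : Fact p.Prime) (P : Sylow p (fittingSubgroup X)),
      (P : Subgroup (fittingSubgroup X)).Normal :=
    (Group.isNilpotent_of_finite_tfae.out 0 3).mp hFnil
  have hSn : (S : Subgroup (fittingSubgroup X)).Normal := hall q hq S
  have hSc : (S : Subgroup (fittingSubgroup X)).Characteristic := S.characteristic_of_normal hSn
  have hSN : ((S : Subgroup (fittingSubgroup X)).map (fittingSubgroup X).subtype).Normal :=
    ConjAct.normal_of_characteristic_of_normal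
  have hSq : IsPGroup q ((S : Subgroup (fittingSubgroup X)).map (fittingSubgroup X).subtype) :=
    S.2.map _
  intro y hy
  apply Helper1.le_pCore hSN hSq
  exact ⟨⟨y, hY hy⟩, hS (Subgroup.mem_subgroupOf.mpr hy), rfl⟩

theorem pCore_inf_center_fitting_ne_bot {X : Type u} [Group X] [Finite X] {q : ℕ}
    [hq : Fact q.Prime] (h : pCore q X ≠ ⊥) :
    ∃ z : X, z ≠ 1 ∧ z ∈ pCore q X ∧ z ∈ fittingSubgroup X ∧
      z ∈ Subgroup.centralizer (fittingSubgroup X : Set X) := by
  have hFn : (fittingSubgroup X).Normal := Helper1.fittingSubgroup_normal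
  have hFnil : Group.IsNilpotent (fittingSubgroup X) := Helper1.fittingSubgroup_isNilpotent
  have hpn : (pCore q X).Normal := Helper1.pCore_normal q
  have hle : pCore q X ≤ fittingSubgroup X := Helper2.pCore_le_fittingSubgroup q
  have hN : ((pCore q X).subgroupOf (fittingSubgroup X)).Normal := hpn.subgroupOf _
  have hne : (pCore q X).subgroupOf (fittingSubgroup X) ≠ ⊥ := by
    intro h0
    apply h
    rw [eq_bot_iff]
    intro y hy
    have : (⟨y, hle hy⟩ : fittingSubgroup X) ∈ (pCore q X).subgroupOf (fittingSubgroup X) :=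
      Subgroup.mem_subgroupOf.mpr hy
    rw [h0, Subgroup.mem_bot] at this
    rw [Subgroup.mem_bot]
    exact congrArg Subtype.val this
  have h1 := normal_inf_center_ne_bot _ hne
  obtain ⟨z, hz1⟩ := (Subgroup.ne_bot_iff_exists_ne_one).mp h1
  obtain ⟨hzN, hzC⟩ := Subgroup.mem_inf.mp z.2
  refine ⟨(z : fittingSubgroup X), ?_, Subgroup.mem_subgroupOf.mp hzN, (z : fittingSubgroup X).2, ?_⟩
  · intro h0
    apply hz1
    apply Subtype.ext
    apply Subtype.ext
    simpa using h0
  · rw [Subgroup.mem_centralizer_iff]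
    intro f hf
    have := Subgroup.mem_center_iff.mp hzC ⟨f, hf⟩
    exact congrArg Subtype.val this

/-! ### the Fitting subgroup, relative form -/

theorem fittingOf_le (M : Subgroup G) : fittingOf M ≤ M := Subgroup.map_subtype_le _

theorem le_normalizer_fittingOf (M : Subgroup G) :
    M ≤ Subgroup.normalizer (fittingOf M : Set G) := by
  apply le_normalizer_of_conj_mem
  intro g hg x hx
  obtain ⟨x', hx', rfl⟩ := hx
  have := (Helper1.fittingSubgroup_normal (G := ↥M)).conj_mem x' hx' ⟨g, hg⟩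
  exact ⟨_, this, rfl⟩

theorem isNilpotent_fittingOf [Finite G] (M : Subgroup G) : Group.IsNilpotent (fittingOf M) := by
  have : Group.IsNilpotent (fittingSubgroup ↥M) := Helper1.fittingSubgroup_isNilpotent
  exact (Group.isNilpotent_congr
    ((fittingSubgroup ↥M).equivMapOfInjective M.subtype M.subtype_injective)).mp inferInstance

theorem mem_fittingSubgroup_of_mem_fittingOf {M : Subgroup G} {y : ↥M}
    (hy : (y : G) ∈ fittingOf M) : y ∈ fittingSubgroup ↥M := by
  obtain ⟨f, hf, hfy⟩ := hy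
  have : f = y := Subtype.ext hfy
  rwa [← this]

theorem le_Oq_of_le_fittingOf [Finite G] {q : ℕ} [hq : Fact q.Prime] {M Y : Subgroup G}
    (hY : Y ≤ fittingOf M) (hYq : IsPGroup q Y) : Y ≤ piCoreOf {q} M := by
  have h1 : Y.subgroupOf M ≤ fittingSubgroup ↥M := by
    intro y hy
    exact mem_fittingSubgroup_of_mem_fittingOf (hY (Subgroup.mem_subgroupOf.mp hy))
  have h2 := isPGroup_le_pCore_of_le_fitting h1 hYq.comap_subtype
  intro y hy
  unfold piCoreOf
  rw [piCore_singleton]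
  exact ⟨⟨y, fittingOf_le M (hY hy)⟩, h2 (Subgroup.mem_subgroupOf.mpr hy), rfl⟩

theorem Oq_le_fittingOf [Finite G] (q : ℕ) [hq : Fact q.Prime] (M : Subgroup G) :
    piCoreOf {q} M ≤ fittingOf M := by
  unfold piCoreOf fittingOf
  rw [piCore_singleton]
  exact Subgroup.map_mono (Helper2.pCore_le_fittingSubgroup q)

theorem centralizer_fittingOf_le [Finite G] (M : Subgroup G) [hM : Group.IsSolvable M] :
    M ⊓ Subgroup.centralizer (fittingOf M : Set G) ≤ fittingOf M := by
  intro x hx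
  obtain ⟨hxM, hxC⟩ := Subgroup.mem_inf.mp hx
  have h1 : (⟨x, hxM⟩ : ↥M) ∈ Subgroup.centralizer (fittingSubgroup ↥M : Set ↥M) := by
    rw [Subgroup.mem_centralizer_iff]
    intro f hf
    apply Subtype.ext
    exact Subgroup.mem_centralizer_iff.mp hxC _ ⟨f, hf, rfl⟩
  exact ⟨⟨x, hxM⟩, centralizer_fittingSubgroup_le h1, rfl⟩

/-- the `q`-part of the centre of `F(M)` -/
def Zq (q : ℕ) (M : Subgroup G) : Subgroup G :=
  piCoreOf {q} M ⊓ (fittingOf M ⊓ Subgroup.centralizer (fittingOf M : Set G))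

theorem Zq_le_Oq (q : ℕ) (M : Subgroup G) : Zq q M ≤ piCoreOf {q} M := inf_le_left

theorem Zq_le_center (q : ℕ) (M : Subgroup G) :
    Zq q M ≤ fittingOf M ⊓ Subgroup.centralizer (fittingOf M : Set G) := inf_le_right

theorem Zq_le (q : ℕ) (M : Subgroup G) : Zq q M ≤ M := inf_le_left.trans (piCoreOf_le _ _)

theorem Zq_isPGroup [Finite G] (q : ℕ) [hq : Fact q.Prime] (M : Subgroup G) : IsPGroup q (Zq q M) :=
  (piCoreOf_singleton_isPGroup q M).to_le inf_le_left

theorem le_normalizer_Zq [Finite G] (q : ℕ) (M : Subgroup G) :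
    M ≤ Subgroup.normalizer (Zq q M : Set G) := by
  apply le_normalizer_inf (le_normalizer_piCoreOf _ _)
  apply le_normalizer_inf (le_normalizer_fittingOf M)
  exact (le_normalizer_fittingOf M).trans (normalizer_le_normalizer_centralizer_self _)

theorem Zq_ne_bot [Finite G] {q : ℕ} [hq : Fact q.Prime] {M : Subgroup G}
    (h : piCoreOf {q} M ≠ ⊥) : Zq q M ≠ ⊥ := by
  have h1 : pCore q ↥M ≠ ⊥ := by
    intro h0
    apply h
    unfold piCoreOf
    rw [piCore_singleton, h0, Subgroup.map_bot]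
  obtain ⟨z, hz1, hzp, hzF, hzC⟩ := pCore_inf_center_fitting_ne_bot h1
  intro h0
  have hz : (z : G) ∈ Zq q M := by
    refine Subgroup.mem_inf.mpr ⟨?_, Subgroup.mem_inf.mpr ⟨⟨z, hzF, rfl⟩, ?_⟩⟩
    · unfold piCoreOf
      rw [piCore_singleton]
      exact ⟨z, hzp, rfl⟩
    · rw [Subgroup.mem_centralizer_iff]
      rintro f ⟨f', hf', rfl⟩
      exact congrArg Subtype.val (Subgroup.mem_centralizer_iff.mp hzC f' hf')
  rw [h0, Subgroup.mem_bot] at hz
  exact hz1 (Subtype.ext hz)

theorem Oq_ne_bot_of_dvd [Finite G] {q : ℕ} [hq : Fact q.Prime] {M : Subgroup G}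
    (h : q ∣ Nat.card (fittingOf M)) : piCoreOf {q} M ≠ ⊥ := by
  obtain ⟨x, hx⟩ := exists_prime_orderOf_dvd_card' q h
  have hxo : orderOf (x : G) = q := by rw [Subgroup.orderOf_coe]; exact hx
  have h1 : Subgroup.zpowers (x : G) ≤ fittingOf M := by
    rw [Subgroup.zpowers_le]; exact x.2
  have h2 : IsPGroup q (Subgroup.zpowers (x : G)) := by
    apply IsPGroup.of_card (n := 1)
    rw [Nat.card_zpowers, hxo, pow_one]
  have h3 := le_Oq_of_le_fittingOf h1 h2
  intro h0
  have h4 : (x : G) ∈ piCoreOf {q} M := h3 (Subgroup.mem_zpowers _)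
  rw [h0, Subgroup.mem_bot] at h4
  rw [h4, orderOf_one] at hxo
  exact hq.out.one_lt.ne hxo

theorem dvd_card_of_isPGroup_ne_bot [Finite G] {q : ℕ} [hq : Fact q.Prime] {Y : Subgroup G}
    (hY : IsPGroup q Y) (h : Y ≠ ⊥) : q ∣ Nat.card Y := by
  obtain ⟨k, hk⟩ := IsPGroup.iff_card.mp hY
  rw [hk]
  apply dvd_pow_self
  intro h0
  rw [h0, pow_zero] at hk
  exact h (Subgroup.card_eq_one.mp hk)

theorem dvd_card_fittingOf_of_Oq_ne_bot [Finite G] {q : ℕ} [hq : Fact q.Prime] {M : Subgroup G}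
    (h : piCoreOf {q} M ≠ ⊥) : q ∣ Nat.card (fittingOf M) :=
  (dvd_card_of_isPGroup_ne_bot (piCoreOf_singleton_isPGroup q M) h).trans
    (Subgroup.card_dvd_of_le (Oq_le_fittingOf q M))

/-- a subgroup of `F(M)` lies in `H` as soon as all its primary parts do -/
theorem le_of_forall_inf_Oq_le [Finite G] {M A H : Subgroup G} (hA : A ≤ fittingOf M)
    (h : ∀ (q : ℕ) [Fact q.Prime], A ⊓ piCoreOf {q} M ≤ H) : A ≤ H := by
  have h1 : H.subgroupOf A = ⊤ := by
    apply eq_top_of_forall_sylow_le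
    intro q hq
    obtain ⟨S⟩ : Nonempty (Sylow q ↥A) := inferInstance
    refine ⟨S, ?_⟩
    intro s hs
    rw [Subgroup.mem_subgroupOf]
    have h2 : (S : Subgroup ↥A).map A.subtype ≤ piCoreOf {q} M :=
      le_Oq_of_le_fittingOf ((Subgroup.map_subtype_le _).trans hA) (S.2.map _)
    exact h q (Subgroup.mem_inf.mpr ⟨s.2, h2 ⟨s, hs, rfl⟩⟩)
  intro a ha
  have : (⟨a, ha⟩ : ↥A) ∈ H.subgroupOf A := by rw [h1]; exact Subgroup.mem_top _
  exact Subgroup.mem_subgroupOf.mp this

/-! ### maximal subgroups of a minimal simple group -/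

theorem coatom_ne_top {M : Subgroup G} (hM : IsCoatom M) : M ≠ ⊤ := hM.1

theorem eq_of_coatom_le {M N : Subgroup G} (hM : IsCoatom M) (hMN : M ≤ N) (hN : N ≠ ⊤) :
    N = M := by
  by_contra hne
  exact hN (hM.2 N (lt_of_le_of_ne hMN (Ne.symm hne)))

theorem normalizer_eq_of_coatom (hG : IsMinSimpleOddOrder G) {M D : Subgroup G} (hM : IsCoatom M)
    (hDM : D ≤ M) (hD : D ≠ ⊥) (hn : M ≤ Subgroup.normalizer (D : Set G)) :
    Subgroup.normalizer (D : Set G) = M := by
  have hDtop : D ≠ ⊤ := fun h => hM.1 (top_le_iff.mp (h ▸ hDM))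
  exact eq_of_coatom_le hM hn (normalizer_ne_top hG hD hDtop)

theorem centralizer_le_of_coatom (hG : IsMinSimpleOddOrder G) {M D : Subgroup G} (hM : IsCoatom M)
    (hDM : D ≤ M) (hD : D ≠ ⊥) (hn : M ≤ Subgroup.normalizer (D : Set G)) :
    Subgroup.centralizer (D : Set G) ≤ M := by
  rw [← normalizer_eq_of_coatom hG hM hDM hD hn]
  exact Subgroup.centralizer_le_normalizer _

end Cfsg.Agent.Lib.Helper1.BG8
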