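import Mathlib
import Cfsg.Agent.Lib.Helper1.BG8b

set_option autoImplicit false
universe u
open scoped commutatorElement Pointwise

namespace Cfsg.Agent.Lib.Helper1.BG8

open Cfsg Subgroup Cfsg.Agent.Lib.Helper1 Cfsg.Agent.Lib.Helper1.BG7

variable {G : Type u} [Group G] [Finite G]

/-- hypotheses of Bender's uniqueness theorem -/
structure BenderData (M A : Subgroup G) : Prop where
  coatom : IsCoatom M
  two : 2 ≤ (Nat.card (fittingOf M)).primeFactors.card
  le : A ≤ fittingOf M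
  center_le : fittingOf M ⊓ Subgroup.centralizer (fittingOf M : Set G) ≤ A
  inv : ∀ Y ∈ invSubgroups ⊤ A (primesNotDvd (Nat.card (fittingOf M))), Y = ⊥

namespace BenderData

variable {M A L : Subgroup G}

omit [Finite G] in
theorem le_M (D : BenderData M A) : A ≤ M := D.le.trans (fittingOf_le M)

theorem exists_other (D : BenderData M A) (r : ℕ) :
    ∃ q : ℕ, q.Prime ∧ q ∣ Nat.card (fittingOf M) ∧ q ≠ r := by
  obtain ⟨q, hq, hqr⟩ := Finset.exists_mem_ne (Nat.lt_of_lt_of_le Nat.one_lt_two D.two) r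
  obtain ⟨hq1, hq2, _⟩ := Nat.mem_primeFactors.mp hq
  exact ⟨q, hq1, hq2, hqr⟩

theorem Zq_ne_bot (D : BenderData M A) {q : ℕ} [hq : Fact q.Prime]
    (hqF : q ∣ Nat.card (fittingOf M)) : Zq q M ≠ ⊥ :=
  BG8.Zq_ne_bot (Oq_ne_bot_of_dvd hqF)

omit [Finite G] in
theorem Zq_le_A (D : BenderData M A) (q : ℕ) : Zq q M ≤ A := (Zq_le_center q M).trans D.center_le

theorem normalizer_Zq (hG : IsMinSimpleOddOrder G) (D : BenderData M A) {q : ℕ} [hq : Fact q.Prime]
    (hqF : q ∣ Nat.card (fittingOf M)) : Subgroup.normalizer (Zq q M : Set G) = M :=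
  normalizer_eq_of_coatom hG D.coatom (Zq_le q M) (D.Zq_ne_bot hqF) (le_normalizer_Zq q M)

theorem centralizer_Zq_le (hG : IsMinSimpleOddOrder G) (D : BenderData M A) {q : ℕ}
    [hq : Fact q.Prime] (hqF : q ∣ Nat.card (fittingOf M)) :
    Subgroup.centralizer (Zq q M : Set G) ≤ M :=
  centralizer_le_of_coatom hG D.coatom (Zq_le q M) (D.Zq_ne_bot hqF) (le_normalizer_Zq q M)

theorem core_eq_bot (D : BenderData M A) (hAL : A ≤ L) :
    piCoreOf (primesNotDvd (Nat.card (fittingOf M))) L = ⊥ :=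
  D.inv _ ⟨le_top, piCoreOf_pi _ _, hAL.trans (le_normalizer_piCoreOf _ _)⟩

theorem lemX3 (hG : IsMinSimpleOddOrder G) (D : BenderData M A) (hL : IsCoatom L) (hAL : A ≤ L)
    {q : ℕ} [hq : Fact q.Prime] (hqF : q ∣ Nat.card (fittingOf M)) :
    A ⊓ piCoreOf (ne q) M ≤ piCoreOf (ne q) L := by
  have hLs : Group.IsSolvable L := isSolvable_of_ne_top hG hL.1
  have h1 : A ⊓ piCoreOf (ne q) M ≤ piCoreOf (ne q) (L ⊓ M) :=
    (le_inf inf_le_right (le_inf (inf_le_left.trans hAL) (inf_le_left.trans D.le_M))).trans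
      (piCoreOf_inf_le (ne q) (inf_le_right : L ⊓ M ≤ M))
  have h2 := piCoreOf_ne_normalizer_le q L (Zq q M) ((D.Zq_le_A q).trans hAL) (Zq_isPGroup q M)
  rw [D.normalizer_Zq hG hqF] at h2
  exact h1.trans h2

theorem lemX4 (hG : IsMinSimpleOddOrder G) (D : BenderData M A) (hL : IsCoatom L) (hAL : A ≤ L)
    {r : ℕ} [hr : Fact r.Prime] (hrF : r ∣ Nat.card (fittingOf M)) :
    piCoreOf {r} L ≤ Subgroup.centralizer ((A ⊓ piCoreOf (ne r) M : Subgroup G) : Set G) := by
  have h1 : piCoreOf {r} L ≤ Subgroup.centralizer (piCoreOf (ne r) L : Set G) :=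
    piCoreOf_commute L (fun p hp hp' => hp' hp)
  exact h1.trans (Subgroup.centralizer_le (D.lemX3 hG hL hAL hrF))

theorem Oq_L_le (hG : IsMinSimpleOddOrder G) (D : BenderData M A) (hL : IsCoatom L) (hAL : A ≤ L)
    (r : ℕ) [hr : Fact r.Prime] : piCoreOf {r} L ≤ M := by
  by_cases hrF : r ∣ Nat.card (fittingOf M)
  · obtain ⟨q, hq, hqF, hqr⟩ := D.exists_other r
    have : Fact q.Prime := ⟨hq⟩
    have h1 : Zq q M ≤ A ⊓ piCoreOf (ne r) M :=
      le_inf (D.Zq_le_A q) ((Zq_le_Oq q M).trans (piCoreOf_singleton_le_ne hqr M))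
    exact ((D.lemX4 hG hL hAL hrF).trans (Subgroup.centralizer_le h1)).trans
      (D.centralizer_Zq_le hG hqF)
  · have h1 : piCoreOf {r} L ≤ piCoreOf (primesNotDvd (Nat.card (fittingOf M))) L :=
      piCoreOf_mono (fun t ht => by
        have : t = r := ht
        rw [this]; exact ⟨hr.out, hrF⟩) L
    rw [D.core_eq_bot hAL] at h1
    exact h1.trans bot_le

theorem fittingOf_L_le (hG : IsMinSimpleOddOrder G) (D : BenderData M A) (hL : IsCoatom L)
    (hAL : A ≤ L) : fittingOf L ≤ M :=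
  le_of_forall_inf_Oq_le (M := L) le_rfl (fun r _ => inf_le_right.trans (D.Oq_L_le hG hL hAL r))

theorem lemX6 (hG : IsMinSimpleOddOrder G) (D : BenderData M A) (hL : IsCoatom L) (hAL : A ≤ L)
    {r : ℕ} [hr : Fact r.Prime] (hrF : r ∣ Nat.card (fittingOf M)) :
    A ⊓ piCoreOf {r} M ≤ piCoreOf {r} L := by
  have hLs : Group.IsSolvable L := isSolvable_of_ne_top hG hL.1
  obtain ⟨q₀, hq₀, hq₀F, hq₀r⟩ := D.exists_other r
  obtain ⟨N, hN⟩ : ∃ N : Subgroup G, N = ⨅ q : {q : ℕ // q.Prime ∧ q ∣ Nat.card (fittingOf M) ∧ q ≠ r},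
      piCoreOf (ne q.1) L := ⟨_, rfl⟩
  have hNle : ∀ q : {q : ℕ // q.Prime ∧ q ∣ Nat.card (fittingOf M) ∧ q ≠ r},
      N ≤ piCoreOf (ne q.1) L := fun q => by rw [hN]; exact iInf_le _ q
  have hNL : N ≤ L := (hNle ⟨q₀, hq₀, hq₀F, hq₀r⟩).trans (piCoreOf_le _ _)
  have hLN : L ≤ Subgroup.normalizer (N : Set G) := by
    apply le_normalizer_of_conj_mem
    intro g hg x hx
    rw [hN, Subgroup.mem_iInf]
    intro q
    exact (Subgroup.mem_normalizer_iff.mp (le_normalizer_piCoreOf _ L hg) x).mp (hNle q hx)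
  have hNcop : ∀ q : {q : ℕ // q.Prime ∧ q ∣ Nat.card (fittingOf M) ∧ q ≠ r},
      (Nat.card N).Coprime q.1 := by
    intro q
    have : Fact q.1.Prime := ⟨q.2.1⟩
    exact Nat.Coprime.coprime_dvd_left (Subgroup.card_dvd_of_le (hNle q)) (piCoreOf_ne_coprime q.1 L)
  have hEN : piCoreOf {r} L ≤ N := by
    rw [hN]
    exact le_iInf fun q => piCoreOf_singleton_le_ne (Ne.symm q.2.2.2) L
  have hArN : A ⊓ piCoreOf {r} M ≤ N := by
    rw [hN]
    refine le_iInf fun q => ?_
    have : Fact q.1.Prime := ⟨q.2.1⟩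
    exact (inf_le_inf_left A (piCoreOf_singleton_le_ne (Ne.symm q.2.2.2) M)).trans
      (D.lemX3 hG hL hAL q.2.2.1)
  have hNs : Group.IsSolvable N := isSolvable_of_le hNL
  have hT : piCoreOf (ne r) N = ⊥ := by
    have h1 : piCoreOf (ne r) N ≤ piCoreOf (primesNotDvd (Nat.card (fittingOf M))) L := by
      apply le_piCoreOf ((piCoreOf_le _ N).trans hNL)
        (hLN.trans (normalizer_le_normalizer_piCoreOf _ N))
      intro p hp hd
      refine ⟨hp, fun hpF => ?_⟩
      by_cases hpr : p = r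
      · exact piCoreOf_piGrp (ne r) N p hp hd hpr
      · have h2 := hNcop ⟨p, hp, hpF, hpr⟩
        have h3 : p ∣ Nat.card N := hd.trans (Subgroup.card_dvd_of_le (piCoreOf_le _ N))
        have h4 : p ∣ Nat.gcd (Nat.card N) p := Nat.dvd_gcd h3 dvd_rfl
        rw [h2] at h4
        exact hp.one_lt.ne' (Nat.dvd_one.mp h4)
    rw [D.core_eq_bot hAL] at h1
    exact le_bot_iff.mp h1
  have h6 : piCoreOf {r} N = piCoreOf {r} L :=
    le_antisymm (piCoreOf_le_of_normal {r} hNL hLN)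
      (le_piCoreOf_singleton hEN (hNL.trans (le_normalizer_piCoreOf _ L))
        (piCoreOf_singleton_isPGroup r L))
  have hNC : N ⊓ Subgroup.centralizer (piCoreOf {r} L : Set G) ≤ piCoreOf {r} L := by
    have h5 := centralizer_piCoreOf_le r N hT
    rw [h6] at h5
    exact h5
  obtain ⟨B, hB⟩ : ∃ B : Subgroup G, B = A ⊓ piCoreOf (ne r) M := ⟨_, rfl⟩
  have hBA : B ≤ A := by rw [hB]; exact inf_le_left
  have hBN : B ≤ Subgroup.normalizer (N : Set G) := (hBA.trans hAL).trans hLN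
  have hBE : B ≤ Subgroup.centralizer (piCoreOf {r} L : Set G) := by
    rw [Subgroup.le_centralizer_iff, hB]
    exact D.lemX4 hG hL hAL hrF
  have hcop : (Nat.card B).Coprime (Nat.card N) := by
    apply Nat.coprime_of_dvd
    intro k hk hkB
    have hkF : k ∣ Nat.card (fittingOf M) := hkB.trans (Subgroup.card_dvd_of_le (hBA.trans D.le))
    have hkr : k ≠ r := by
      intro hkr
      have h1 : k ∣ Nat.card (piCoreOf (ne r) M) :=
        hkB.trans (Subgroup.card_dvd_of_le (by rw [hB]; exact inf_le_right))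
      exact piCoreOf_piGrp (ne r) M k hk h1 hkr
    have h2 := hNcop ⟨k, hk, hkF, hkr⟩
    rw [Nat.coprime_comm] at h2
    exact (Nat.Prime.coprime_iff_not_dvd hk).mp h2
  have hNB : N ≤ Subgroup.centralizer (B : Set G) :=
    centralizes_of_centralizes_self_centralizing N B (piCoreOf {r} L)
      (hNL.trans (le_normalizer_piCoreOf _ L)) hBN hcop (Or.inr hNs) hNC hBE
  have hNM : N ≤ M := by
    have : Fact q₀.Prime := ⟨hq₀⟩
    have h1 : Zq q₀ M ≤ B := by
      rw [hB]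
      exact le_inf (D.Zq_le_A q₀) ((Zq_le_Oq q₀ M).trans (piCoreOf_singleton_le_ne hq₀r M))
    exact (hNB.trans (Subgroup.centralizer_le h1)).trans (D.centralizer_Zq_le hG hq₀F)
  have h7 : piCoreOf {r} M ⊓ N ≤ piCoreOf {r} N :=
    le_piCoreOf_singleton inf_le_right
      (le_normalizer_inf (hNM.trans (le_normalizer_piCoreOf _ M)) Subgroup.le_normalizer)
      ((piCoreOf_singleton_isPGroup r M).to_le inf_le_left)
  exact ((le_inf inf_le_right hArN).trans h7).trans (piCoreOf_le_of_normal {r} hNL hLN)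

theorem le_fittingOf_L (hG : IsMinSimpleOddOrder G) (D : BenderData M A) (hL : IsCoatom L)
    (hAL : A ≤ L) : A ≤ fittingOf L := by
  apply le_of_forall_inf_Oq_le D.le
  intro q hq
  by_cases hqF : q ∣ Nat.card (fittingOf M)
  · exact (D.lemX6 hG hL hAL hqF).trans (Oq_le_fittingOf q L)
  · have h1 : piCoreOf {q} M = ⊥ := by
      by_contra h
      exact hqF (dvd_card_fittingOf_of_Oq_ne_bot h)
    rw [h1, inf_bot_eq]
    exact bot_le

theorem dvd_iff (hG : IsMinSimpleOddOrder G) (D : BenderData M A) (hL : IsCoatom L)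
    (hAL : A ≤ L) (r : ℕ) (hr : r.Prime) :
    r ∣ Nat.card (fittingOf L) ↔ r ∣ Nat.card (fittingOf M) := by
  have : Fact r.Prime := ⟨hr⟩
  constructor
  · intro h
    by_contra hrF
    have h1 : piCoreOf {r} L ≤ piCoreOf (primesNotDvd (Nat.card (fittingOf M))) L :=
      piCoreOf_mono (fun t ht => by
        have : t = r := ht
        rw [this]; exact ⟨hr, hrF⟩) L
    rw [D.core_eq_bot hAL] at h1
    exact Oq_ne_bot_of_dvd h (le_bot_iff.mp h1)
  · intro hrF
    apply dvd_card_fittingOf_of_Oq_ne_bot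
    intro h0
    have h1 : Zq r M ≤ piCoreOf {r} L :=
      (le_inf (D.Zq_le_A r) (Zq_le_Oq r M)).trans (D.lemX6 hG hL hAL hrF)
    rw [h0] at h1
    exact D.Zq_ne_bot hrF (le_bot_iff.mp h1)

end BenderData

theorem primesNotDvd_eq_of_dvd_iff {m n : ℕ} (h : ∀ r : ℕ, r.Prime → (r ∣ m ↔ r ∣ n)) :
    primesNotDvd m = primesNotDvd n := by
  ext q
  constructor
  · rintro ⟨hq, hd⟩
    exact ⟨hq, fun h' => hd ((h q hq).mpr h')⟩
  · rintro ⟨hq, hd⟩
    exact ⟨hq, fun h' => hd ((h q hq).mp h')⟩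

theorem primeFactors_eq_of_dvd_iff {m n : ℕ} (hm : m ≠ 0) (hn : n ≠ 0)
    (h : ∀ r : ℕ, r.Prime → (r ∣ m ↔ r ∣ n)) : m.primeFactors = n.primeFactors := by
  ext q
  rw [Nat.mem_primeFactors, Nat.mem_primeFactors]
  constructor
  · rintro ⟨hq, hd, _⟩
    exact ⟨hq, (h q hq).mp hd, hn⟩
  · rintro ⟨hq, hd, _⟩
    exact ⟨hq, (h q hq).mpr hd, hm⟩

/-- transport of the data to another maximal subgroup -/
theorem BenderData.transport (hG : IsMinSimpleOddOrder G) {M A L A' : Subgroup G}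
    (D : BenderData M A) (hL : IsCoatom L) (hAL : A ≤ L) (hAA' : A ≤ A')
    (hA'E : A' ≤ fittingOf L)
    (hZ : fittingOf L ⊓ Subgroup.centralizer (fittingOf L : Set G) ≤ A') : BenderData L A' := by
  have hiff := D.dvd_iff hG hL hAL
  refine ⟨hL, ?_, hA'E, hZ, ?_⟩
  · rw [primeFactors_eq_of_dvd_iff Nat.card_pos.ne' Nat.card_pos.ne' hiff]
    exact D.two
  · intro Y hY
    rw [primesNotDvd_eq_of_dvd_iff hiff] at hY
    exact D.inv Y ⟨hY.1, hY.2.1, hAA'.trans hY.2.2⟩

/-- Bender's uniqueness theorem -/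
theorem bender_uniqueness (hG : IsMinSimpleOddOrder G) {M A L : Subgroup G}
    (D : BenderData M A) (hL : IsCoatom L) (hAL : A ≤ L) : L = M := by
  have hEM : fittingOf L ≤ M := D.fittingOf_L_le hG hL hAL
  have hAE : A ≤ fittingOf L := D.le_fittingOf_L hG hL hAL
  -- second data: on `L`
  have D2 : BenderData L (A ⊔ (fittingOf L ⊓ Subgroup.centralizer (fittingOf L : Set G))) :=
    D.transport hG hL hAL le_sup_left (sup_le hAE inf_le_left) le_sup_right
  have hFL : fittingOf M ≤ L :=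
    D2.fittingOf_L_le hG D.coatom (sup_le D.le_M (inf_le_left.trans hEM))
  -- third: `F ≤ E`
  have D3 : BenderData M (fittingOf M) :=
    ⟨D.coatom, D.two, le_rfl, inf_le_left, fun Y hY => D.inv Y ⟨hY.1, hY.2.1, D.le.trans hY.2.2⟩⟩
  have hFE : fittingOf M ≤ fittingOf L := D3.le_fittingOf_L hG hL hFL
  -- fourth: `E ≤ F`
  have D4 : BenderData L (fittingOf L) := D.transport hG hL hAL hAE le_rfl inf_le_left
  have hEF : fittingOf L ≤ fittingOf M := D4.le_fittingOf_L hG D.coatom hEM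
  have hEq : fittingOf L = fittingOf M := le_antisymm hEF hFE
  have hFne : fittingOf M ≠ ⊥ := by
    intro h0
    have h1 := D.two
    rw [h0, Subgroup.card_bot] at h1
    simp at h1
  have h1 := normalizer_eq_of_coatom hG D.coatom (fittingOf_le M) hFne (le_normalizer_fittingOf M)
  have h2 := normalizer_eq_of_coatom hG hL (fittingOf_le L) (hEq ▸ hFne) (le_normalizer_fittingOf L)
  rw [← h2, hEq, h1]

end Cfsg.Agent.Lib.Helper1.BG8
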