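import Mathlib
import Cfsg.Agent.Lib.Helper1.BG8c
import Cfsg.Agent.Lib.Helper1.Subnormal
import Cfsg.Agent.Lib.Helper1.SZHelpers
import Cfsg.Agent.S1442

set_option autoImplicit false
universe u
open scoped commutatorElement Pointwise

namespace Cfsg.Agent.Lib.Helper1.BG8

open Cfsg Subgroup Cfsg.Agent.Lib.Helper1 Cfsg.Agent.Lib.Helper1.BG7

variable {G : Type u} [Group G] [Finite G]

omit [Finite G] in
/-- a variant of `commute_of_normalize` -/
theorem commute_of_normalize' {N₁ N₂ N₂' : Subgroup G}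
    (h12 : N₁ ≤ Subgroup.normalizer (N₂' : Set G)) (hle : N₂ ≤ N₂')
    (h21 : N₂ ≤ Subgroup.normalizer (N₁ : Set G)) (hd : N₁ ⊓ N₂' = ⊥) :
    N₁ ≤ Subgroup.centralizer (N₂ : Set G) := by
  intro y hy
  rw [Subgroup.mem_centralizer_iff]
  intro a ha
  have ha' : a ∈ N₂ := ha
  have h1 : a * y⁻¹ * a⁻¹ ∈ N₁ :=
    (Subgroup.mem_normalizer_iff.mp (h21 ha') y⁻¹).mp (N₁.inv_mem hy)
  have h2 : y * a * y⁻¹ ∈ N₂' := (Subgroup.mem_normalizer_iff.mp (h12 hy) a).mp (hle ha')
  have h3 : y * a * y⁻¹ * a⁻¹ ∈ N₁ ⊓ N₂' := by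
    refine Subgroup.mem_inf.mpr ⟨?_, N₂'.mul_mem h2 (N₂'.inv_mem (hle ha'))⟩
    have e : y * a * y⁻¹ * a⁻¹ = y * (a * y⁻¹ * a⁻¹) := by group
    rw [e]; exact N₁.mul_mem hy h1
  rw [hd, Subgroup.mem_bot] at h3
  have e : a * y = (y * a * y⁻¹ * a⁻¹)⁻¹ * (y * a) := by group
  rw [e, h3, inv_one, one_mul]

omit [Finite G] in
theorem eq_bot_of_le_of_coprime {Y F : Subgroup G} (h : Y ≤ F)
    (hcop : (Nat.card Y).Coprime (Nat.card F)) : Y = ⊥ := by
  have h1 : Nat.card Y = 1 := Nat.Coprime.eq_one_of_dvd hcop (Subgroup.card_dvd_of_le h)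
  exact Subgroup.card_eq_one.mp h1

/-- a subgroup of `M`, of order prime to `F(M)`, centralizing a self-centralizing subgroup of `F(M)`
is trivial -/
theorem eq_bot_of_centralizes (M : Subgroup G) [hMs : Group.IsSolvable M] {A Y : Subgroup G}
    (hAF : A ≤ fittingOf M)
    (hCA : fittingOf M ⊓ Subgroup.centralizer (A : Set G) ≤ A) (hYM : Y ≤ M)
    (hYA : Y ≤ Subgroup.centralizer (A : Set G))
    (hcop : (Nat.card Y).Coprime (Nat.card (fittingOf M))) : Y = ⊥ := by
  have hAY : A ≤ Subgroup.centralizer (Y : Set G) := Subgroup.le_centralizer_iff.mp hYA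
  have h1 : A ≤ fittingOf M ⊓ Subgroup.centralizer (Y : Set G) := le_inf hAF hAY
  have hC : fittingOf M ⊓ Subgroup.centralizer
      (((fittingOf M ⊓ Subgroup.centralizer (Y : Set G)) : Subgroup G) : Set G) ≤
      fittingOf M ⊓ Subgroup.centralizer (Y : Set G) :=
    ((inf_le_inf_left _ (Subgroup.centralizer_le h1)).trans hCA).trans h1
  have h2 : Y ≤ Subgroup.centralizer (fittingOf M : Set G) :=
    Cfsg.Agent.S1442.result (fittingOf M) Y (isNilpotent_fittingOf M)
      (hYM.trans (le_normalizer_fittingOf M)) hcop hC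
  exact eq_bot_of_le_of_coprime ((le_inf hYM h2).trans (centralizer_fittingOf_le M)) hcop

/-- hypotheses of Bender's uniqueness theorem, without the condition on invariant subgroups -/
structure BenderPre (M A : Subgroup G) : Prop where
  coatom : IsCoatom M
  two : 2 ≤ (Nat.card (fittingOf M)).primeFactors.card
  le : A ≤ fittingOf M
  center_le : fittingOf M ⊓ Subgroup.centralizer (fittingOf M : Set G) ≤ A

namespace BenderPre

variable {M A X : Subgroup G}

omit [Finite G] in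
theorem le_M (D : BenderPre M A) : A ≤ M := D.le.trans (fittingOf_le M)

omit [Finite G] in
theorem exists_other (D : BenderPre M A) (r : ℕ) :
    ∃ q : ℕ, q.Prime ∧ q ∣ Nat.card (fittingOf M) ∧ q ≠ r := by
  obtain ⟨q, hq, hqr⟩ := Finset.exists_mem_ne (Nat.lt_of_lt_of_le Nat.one_lt_two D.two) r
  obtain ⟨hq1, hq2, _⟩ := Nat.mem_primeFactors.mp hq
  exact ⟨q, hq1, hq2, hqr⟩

theorem Zq_ne_bot (_D : BenderPre M A) {q : ℕ} [hq : Fact q.Prime]
    (hqF : q ∣ Nat.card (fittingOf M)) : Zq q M ≠ ⊥ :=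
  BG8.Zq_ne_bot (Oq_ne_bot_of_dvd hqF)

omit [Finite G] in
theorem Zq_le_A (D : BenderPre M A) (q : ℕ) : Zq q M ≤ A := (Zq_le_center q M).trans D.center_le

theorem normalizer_Zq (hG : IsMinSimpleOddOrder G) (D : BenderPre M A) {q : ℕ} [hq : Fact q.Prime]
    (hqF : q ∣ Nat.card (fittingOf M)) : Subgroup.normalizer (Zq q M : Set G) = M :=
  normalizer_eq_of_coatom hG D.coatom (Zq_le q M) (D.Zq_ne_bot hqF) (le_normalizer_Zq q M)

theorem centralizer_Zq_le (hG : IsMinSimpleOddOrder G) (D : BenderPre M A) {q : ℕ}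
    [hq : Fact q.Prime] (hqF : q ∣ Nat.card (fittingOf M)) :
    Subgroup.centralizer (Zq q M : Set G) ≤ M :=
  centralizer_le_of_coatom hG D.coatom (Zq_le q M) (D.Zq_ne_bot hqF) (le_normalizer_Zq q M)

theorem dvd_card (D : BenderPre M A) (r : ℕ) (hr : r.Prime) (hrF : r ∣ Nat.card (fittingOf M)) :
    r ∣ Nat.card A := by
  have : Fact r.Prime := ⟨hr⟩
  exact (dvd_card_of_isPGroup_ne_bot (Zq_isPGroup r M) (D.Zq_ne_bot hrF)).trans
    (Subgroup.card_dvd_of_le (D.Zq_le_A r))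

theorem primesNotDvd_eq (D : BenderPre M A) :
    primesNotDvd (Nat.card A) = primesNotDvd (Nat.card (fittingOf M)) :=
  primesNotDvd_eq_of_dvd_iff fun r hr =>
    ⟨fun h => h.trans (Subgroup.card_dvd_of_le D.le), D.dvd_card r hr⟩

theorem ne_bot (D : BenderPre M A) : A ≠ ⊥ := by
  obtain ⟨q, hq, hqF, -⟩ := D.exists_other 0
  have : Fact q.Prime := ⟨hq⟩
  intro h
  have h1 := D.Zq_le_A q
  rw [h] at h1
  exact D.Zq_ne_bot hqF (le_bot_iff.mp h1)

omit [Finite G] in
theorem ne_top (D : BenderPre M A) : A ≠ ⊤ := by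
  intro h
  apply D.coatom.1
  rw [eq_top_iff, ← h]
  exact D.le_M

theorem centralizer_le (hG : IsMinSimpleOddOrder G) (D : BenderPre M A) :
    Subgroup.centralizer (A : Set G) ≤ M := by
  obtain ⟨q, hq, hqF, -⟩ := D.exists_other 0
  have : Fact q.Prime := ⟨hq⟩
  exact (Subgroup.centralizer_le (D.Zq_le_A q)).trans (D.centralizer_Zq_le hG hqF)

theorem inf_ne_le (hG : IsMinSimpleOddOrder G) (D : BenderPre M A) (hX : X ≠ ⊤) (hAX : A ≤ X)
    {q : ℕ} [hq : Fact q.Prime] (hqF : q ∣ Nat.card (fittingOf M)) :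
    A ⊓ piCoreOf (ne q) M ≤ piCoreOf (ne q) X := by
  have hXs : Group.IsSolvable X := isSolvable_of_ne_top hG hX
  have h1 : A ⊓ piCoreOf (ne q) M ≤ piCoreOf (ne q) (X ⊓ M) :=
    (le_inf inf_le_right (le_inf (inf_le_left.trans hAX) (inf_le_left.trans D.le_M))).trans
      (piCoreOf_inf_le (ne q) (inf_le_right : X ⊓ M ≤ M))
  have h2 := piCoreOf_ne_normalizer_le q X (Zq q M) ((D.Zq_le_A q).trans hAX) (Zq_isPGroup q M)
  rw [D.normalizer_Zq hG hqF] at h2
  exact h1.trans h2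

end BenderPre

/-- a subgroup of `X` lying in `O_{q'}(X)` for all prime divisors `q` of `n` lies in
`O_{π(n)'}(X)`. -/
theorem le_piCoreOf_of_forall_ne {X Y : Subgroup G} {n : ℕ} (hYX : Y ≤ X)
    (h : ∀ q : ℕ, q.Prime → q ∣ n → Y ≤ piCoreOf (ne q) X) :
    Y ≤ piCoreOf (primesNotDvd n) X := by
  obtain ⟨N, hN⟩ : ∃ N : Subgroup G, N = X ⊓ ⨅ q : {q : ℕ // q.Prime ∧ q ∣ n},
      piCoreOf (ne q.1) X := ⟨_, rfl⟩
  have hNle : ∀ q : {q : ℕ // q.Prime ∧ q ∣ n}, N ≤ piCoreOf (ne q.1) X := fun q => by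
    rw [hN]; exact inf_le_right.trans (iInf_le _ q)
  have hNX : N ≤ X := by rw [hN]; exact inf_le_left
  have hXN : X ≤ Subgroup.normalizer (N : Set G) := by
    apply le_normalizer_of_conj_mem
    intro g hg x hx
    rw [hN, Subgroup.mem_inf, Subgroup.mem_iInf]
    refine ⟨X.mul_mem (X.mul_mem hg (hNX hx)) (X.inv_mem hg), fun q => ?_⟩
    exact (Subgroup.mem_normalizer_iff.mp (le_normalizer_piCoreOf _ X hg) x).mp (hNle q hx)
  have hYN : Y ≤ N := by
    rw [hN]
    exact le_inf hYX (le_iInf fun q => h q.1 q.2.1 q.2.2)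
  refine hYN.trans (le_piCoreOf hNX hXN ?_)
  intro t ht hd
  refine ⟨ht, fun htn => ?_⟩
  have : Fact t.Prime := ⟨ht⟩
  have h2 : (Nat.card N).Coprime t :=
    Nat.Coprime.coprime_dvd_left (Subgroup.card_dvd_of_le (hNle ⟨t, ht, htn⟩))
      (piCoreOf_ne_coprime t X)
  have h4 : t ∣ Nat.gcd (Nat.card N) t := Nat.dvd_gcd hd dvd_rfl
  rw [h2] at h4
  exact ht.one_lt.ne' (Nat.dvd_one.mp h4)

omit [Finite G] in
theorem coprime_of_piGrp_primesNotDvd {Y F : Subgroup G}
    (hY : ∀ p : ℕ, p.Prime → p ∣ Nat.card Y → p ∈ primesNotDvd (Nat.card F)) :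
    (Nat.card Y).Coprime (Nat.card F) := by
  apply Nat.coprime_of_dvd
  intro k hk hkY hkF
  exact (hY k hk hkY).2 hkF

/-- the transitivity hypothesis for a self-centralizing subgroup of `F(M)` containing `Z(F(M))` -/
theorem BenderPre.transHyp (hG : IsMinSimpleOddOrder G) {M A : Subgroup G} (D : BenderPre M A)
    (hCA : fittingOf M ⊓ Subgroup.centralizer (A : Set G) ≤ A) : TransitivityHypothesis A := by
  have hMs : Group.IsSolvable M := isSolvable_of_ne_top hG D.coatom.1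
  refine ⟨D.ne_bot, D.ne_top, ?_⟩
  intro X hX hAX
  rw [D.primesNotDvd_eq]
  have hXs : Group.IsSolvable X := isSolvable_of_ne_top hG hX
  apply le_antisymm
  · apply sSup_le
    intro Y hY
    obtain ⟨hYX, hYπ, hAY⟩ := hY
    have hYF : (Nat.card Y).Coprime (Nat.card (fittingOf M)) := coprime_of_piGrp_primesNotDvd hYπ
    apply le_piCoreOf_of_forall_ne hYX
    intro q hq hqF
    have : Fact q.Prime := ⟨hq⟩
    obtain ⟨r, hr, hrF, hrq⟩ := D.exists_other q
    have : Fact r.Prime := ⟨hr⟩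
    obtain ⟨Ar, hAr⟩ : ∃ Ar : Subgroup G, Ar = A ⊓ piCoreOf {r} M := ⟨_, rfl⟩
    have hArA : Ar ≤ A := by rw [hAr]; exact inf_le_left
    have hAr_le : Ar ≤ piCoreOf (ne q) X := by
      rw [hAr]
      exact (inf_le_inf_left A (piCoreOf_singleton_le_ne hrq M)).trans
        (D.inf_ne_le hG hX hAX hqF)
    have hArY : Ar ≤ Subgroup.normalizer (Y : Set G) := hArA.trans hAY
    have hArr : IsPGroup r Ar := by
      rw [hAr]; exact (piCoreOf_singleton_isPGroup r M).to_le inf_le_right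
    have hcop : (Nat.card Ar).Coprime (Nat.card Y) := by
      obtain ⟨k, hk⟩ := IsPGroup.iff_card.mp hArr
      rw [hk]
      apply Nat.Coprime.pow_left
      rw [Nat.Prime.coprime_iff_not_dvd hr]
      intro hd
      exact (hYπ r hr hd).2 hrF
    have hYs : Group.IsSolvable Y := isSolvable_of_le hYX
    have hsplit := coprime_commutator_sup_centralizer Ar Y hArY hcop (Or.inr hYs)
    -- the commutator part
    have h1 : ⁅Y, Ar⁆ ≤ piCoreOf (ne q) X := by
      have h2 : ⁅Y, Ar⁆ ≤ ⁅X, piCoreOf (ne q) X⁆ := Subgroup.commutator_mono hYX hAr_le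
      have h3 : ⁅piCoreOf (ne q) X, X⁆ ≤ piCoreOf (ne q) X :=
        Subgroup.le_normalizer_iff_commutator_le_left.mp (le_normalizer_piCoreOf _ X)
      rw [Subgroup.commutator_comm] at h3
      exact h2.trans h3
    -- the centralizer part
    have h2 : Y ⊓ Subgroup.centralizer (Ar : Set G) = ⊥ := by
      obtain ⟨Y₀, hY₀⟩ : ∃ Y₀ : Subgroup G, Y₀ = Y ⊓ Subgroup.centralizer (Ar : Set G) := ⟨_, rfl⟩
      rw [← hY₀]
      have hZAr : Zq r M ≤ Ar := by
        rw [hAr]; exact le_inf (D.Zq_le_A r) (Zq_le_Oq r M)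
      have hY₀M : Y₀ ≤ M := by
        rw [hY₀]
        exact (inf_le_right.trans (Subgroup.centralizer_le hZAr)).trans (D.centralizer_Zq_le hG hrF)
      have hY₀Y : Y₀ ≤ Y := by rw [hY₀]; exact inf_le_left
      have hAAr : A ≤ Subgroup.normalizer (Ar : Set G) := by
        rw [hAr]
        exact le_normalizer_inf Subgroup.le_normalizer (D.le_M.trans (le_normalizer_piCoreOf _ M))
      have hAY₀ : A ≤ Subgroup.normalizer (Y₀ : Set G) := by
        rw [hY₀]
        exact le_normalizer_inf hAY (hAAr.trans (normalizer_le_normalizer_centralizer_self _))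
      have hcop₀ : (Nat.card Y₀).Coprime (Nat.card (fittingOf M)) :=
        Nat.Coprime.coprime_dvd_left (Subgroup.card_dvd_of_le hY₀Y) hYF
      have hd : Y₀ ⊓ fittingOf M = ⊥ := (Subgroup.disjoint_of_coprime_natCard hcop₀).eq_bot
      have hY₀A : Y₀ ≤ Subgroup.centralizer (A : Set G) :=
        commute_of_normalize' (hY₀M.trans (le_normalizer_fittingOf M)) D.le hAY₀ hd
      exact eq_bot_of_centralizes M D.le hCA hY₀M hY₀A hcop₀
    rw [h2, sup_bot_eq] at hsplit
    rw [← hsplit]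
    exact h1
  · apply le_sSup
    exact ⟨piCoreOf_le _ _, piCoreOf_pi _ _, hAX.trans (le_normalizer_piCoreOf _ _)⟩

theorem BenderPre.KK_eq_bot (hG : IsMinSimpleOddOrder G) {M A : Subgroup G} (D : BenderPre M A)
    (hCA : fittingOf M ⊓ Subgroup.centralizer (A : Set G) ≤ A) : KK A = ⊥ := by
  have hMs : Group.IsSolvable M := isSolvable_of_ne_top hG D.coatom.1
  apply eq_bot_of_centralizes M D.le hCA ((KK_le_centralizer A).trans (D.centralizer_le hG))
    (KK_le_centralizer A)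
  apply coprime_of_piGrp_primesNotDvd
  rw [← D.primesNotDvd_eq]
  exact piCoreOf_pi _ _

omit [Finite G] in
theorem not_rankLE_of_elementary {p : ℕ} [hp : Fact p.Prime] {Z A₀ : Subgroup G} (hA₀Z : A₀ ≤ Z)
    (hA₀e : IsElementaryAbelian p A₀) (hA₀3 : p ^ 3 ≤ Nat.card A₀) : ¬ RankLE 2 ↥Z := by
  intro h
  have h1 := h p hp.out (A₀.subgroupOf Z) ?_ ?_
  · rw [card_subgroupOf_of_le hA₀Z] at h1
    have h2 : p ^ 2 < p ^ 3 := Nat.pow_lt_pow_right hp.out.one_lt (by norm_num)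
    omega
  · have hc := hA₀e.1
    refine ⟨⟨fun a b => ?_⟩⟩
    have := hc.is_comm.comm ⟨a.1.1, a.2⟩ ⟨b.1.1, b.2⟩
    have h3 : (a.1.1 : G) * b.1.1 = b.1.1 * a.1.1 := congrArg Subtype.val this
    apply Subtype.ext
    apply Subtype.ext
    exact h3
  · intro a ha
    apply Subtype.ext
    rw [Subgroup.coe_pow, Subgroup.coe_one]
    exact hA₀e.2 _ (Subgroup.mem_subgroupOf.mp ha)

/-- in the situation of `BenderPre`, with `A` self-centralizing in `F(M)` and of rank at least 3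
in its centre, all `A`-invariant `q`-subgroups with `q ∤ |F(M)|` are trivial. -/
theorem BenderPre.maxInv_eq_bot (hG : IsMinSimpleOddOrder G) {M A : Subgroup G} (D : BenderPre M A)
    (hCA : fittingOf M ⊓ Subgroup.centralizer (A : Set G) ≤ A)
    (hZ : ¬ RankLE 2 ↥(A ⊓ Subgroup.centralizer (A : Set G))) {q : ℕ} (hq : q.Prime)
    (hqF : ¬ q ∣ Nat.card (fittingOf M)) {Q : Subgroup G} (hQ : Q ∈ maxInvSubgroups ⊤ A {q}) :
    Q = ⊥ := by
  have : Fact q.Prime := ⟨hq⟩
  have hMs : Group.IsSolvable M := isSolvable_of_ne_top hG D.coatom.1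
  have hT := D.transHyp hG hCA
  have hKK := D.KK_eq_bot hG hCA
  have hqA : ¬ q ∣ Nat.card A := fun h => hqF (h.trans (Subgroup.card_dvd_of_le D.le))
  have huniq : ∀ Q₁ ∈ maxInvSubgroups ⊤ A {q}, ∀ Q₂ ∈ maxInvSubgroups ⊤ A {q}, Q₂ = Q₁ := by
    intro Q₁ h₁ Q₂ h₂
    obtain ⟨k, hk, hkQ⟩ := t73 hG hT hZ hq hqA h₁ h₂
    rw [hKK, Subgroup.mem_bot] at hk
    rw [hkQ, hk, cj_one]
  have hFtop : fittingOf M ≠ ⊤ := by
    intro h
    apply D.coatom.1
    rw [eq_top_iff, ← h]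
    exact fittingOf_le M
  have hFnil : Group.IsNilpotent (fittingOf M) := isNilpotent_fittingOf M
  have hsn : (A.subgroupOf (fittingOf M)).IsSubnormal :=
    (isNilpotent_iff_forall_isSubnormal.mp hFnil) _
  have h75 := (t75_core hG hFtop (Nat.card (fittingOf M) - Nat.card A) A hT hqA D.dvd_card D.le hsn
    (fun Q₁ h₁ Q₂ h₂ => t73 hG hT hZ hq hqA h₁ h₂) rfl).1
  -- `Q` is the unique maximal `F`-invariant `q`-subgroup
  have hbotF : (⊥ : Subgroup G) ∈ invSubgroups ⊤ (fittingOf M) {q} := by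
    refine ⟨le_top, piGrp_bot _, ?_⟩
    intro x _
    rw [Subgroup.mem_normalizer_iff]
    intro z
    rw [Subgroup.mem_bot, Subgroup.mem_bot]
    constructor
    · intro h; rw [h]; group
    · intro h
      have e : z = x⁻¹ * (x * z * x⁻¹) * x := by group
      rw [e, h]; group
  obtain ⟨Q', hQ', -⟩ := exists_max_above hbotF
  have hQ'Q : Q' = Q := huniq Q hQ Q' (h75 Q' hQ')
  rw [hQ'Q] at hQ'
  have hMQ : M ≤ Subgroup.normalizer (Q : Set G) := by
    intro m hm
    apply mem_normalizer_of_cj_eq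
    have h1 := cj_mem_maxInvSubgroups_of_mem_normalizer (le_normalizer_fittingOf M hm) hQ'
    exact huniq Q hQ _ (h75 _ h1)
  by_contra hQbot
  have hQq : IsPGroup q Q := isPGroup_of_mem_invSubgroups hq hQ.1
  have hQtop : Q ≠ ⊤ := pgroup_ne_top hG hQq
  have hN : Subgroup.normalizer (Q : Set G) = M :=
    eq_of_coatom_le D.coatom hMQ (normalizer_ne_top hG hQbot hQtop)
  have hQM : Q ≤ M := by rw [← hN]; exact Subgroup.le_normalizer
  have hcop : (Nat.card Q).Coprime (Nat.card (fittingOf M)) := by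
    obtain ⟨k, hk⟩ := IsPGroup.iff_card.mp hQq
    rw [hk]
    apply Nat.Coprime.pow_left
    exact (Nat.Prime.coprime_iff_not_dvd hq).mpr hqF
  have hd : Q ⊓ fittingOf M = ⊥ := (Subgroup.disjoint_of_coprime_natCard hcop).eq_bot
  have hQC : Q ≤ Subgroup.centralizer (fittingOf M : Set G) :=
    commute_of_normalize (hQM.trans (le_normalizer_fittingOf M)) hQ'.1.2.2 hd
  exact hQbot (eq_bot_of_le_of_coprime ((le_inf hQM hQC).trans (centralizer_fittingOf_le M)) hcop)

/-- all `A`-invariant `π(F)'`-subgroups are trivial -/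
theorem BenderPre.inv (hG : IsMinSimpleOddOrder G) {M A : Subgroup G} (D : BenderPre M A)
    (hCA : fittingOf M ⊓ Subgroup.centralizer (A : Set G) ≤ A)
    (hZ : ¬ RankLE 2 ↥(A ⊓ Subgroup.centralizer (A : Set G))) :
    ∀ Y ∈ invSubgroups ⊤ A (primesNotDvd (Nat.card (fittingOf M))), Y = ⊥ := by
  intro Y hY
  obtain ⟨-, hYπ, hAY⟩ := hY
  by_contra hYbot
  have hcard : Nat.card Y ≠ 1 := fun h => hYbot (Subgroup.card_eq_one.mp h)
  obtain ⟨q, hq, hqY⟩ := Nat.exists_prime_and_dvd hcard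
  have : Fact q.Prime := ⟨hq⟩
  have hqF : ¬ q ∣ Nat.card (fittingOf M) := (hYπ q hq hqY).2
  have hYF : (Nat.card Y).Coprime (Nat.card (fittingOf M)) := coprime_of_piGrp_primesNotDvd hYπ
  have hYtop : Y ≠ ⊤ := by
    intro h
    obtain ⟨r, hr, hrF, -⟩ := D.exists_other 0
    have h1 : r ∣ Nat.card Y := by
      rw [h, Subgroup.card_top]
      exact hrF.trans (Subgroup.card_subgroup_dvd_card _)
    exact (hYπ r hr h1).2 hrF
  have hYs : Group.IsSolvable Y := isSolvable_of_ne_top hG hYtop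
  have hcop : (Nat.card A).Coprime (Nat.card Y) :=
    (Nat.Coprime.coprime_dvd_right (Subgroup.card_dvd_of_le D.le) hYF).symm
  obtain ⟨S, hS⟩ := coprime_exists_invariant_sylow A Y hAY hcop (Or.inr hYs) q
  have hSq : IsPGroup q ((S : Subgroup Y).map Y.subtype) := S.isPGroup'.map _
  obtain ⟨Q, hQ, hSQ⟩ := exists_max_above (mem_invSubgroups_top_of_isPGroup hq hSq hS)
  rw [D.maxInv_eq_bot hG hCA hZ hq hqF hQ, le_bot_iff] at hSQ
  have h1 : (S : Subgroup Y) = ⊥ :=
    (Subgroup.map_eq_bot_iff_of_injective _ Y.subtype_injective).mp hSQ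
  exact S.ne_bot_of_dvd_card hqY h1

/-- BG Theorem 8.1(a) -/
theorem bender_81a (hG : IsMinSimpleOddOrder G) {M : Subgroup G} (hM : IsCoatom M) {p : ℕ}
    [hp : Fact p.Prime] {A₀ : Subgroup G} (hA₀ : A₀ ≤ fittingOf M)
    (hA₀e : IsElementaryAbelian p A₀) (hA₀3 : p ^ 3 ≤ Nat.card A₀)
    (hF : ¬ IsPGroup p ↥(fittingOf M)) :
    BenderData M (fittingOf M ⊓ Subgroup.centralizer (A₀ : Set G)) := by
  have hA₀C : A₀ ≤ Subgroup.centralizer (A₀ : Set G) := by
    intro a ha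
    rw [Subgroup.mem_centralizer_iff]
    intro b hb
    have := hA₀e.1.is_comm.comm ⟨b, hb⟩ ⟨a, ha⟩
    exact congrArg Subtype.val this
  have hA₀A : A₀ ≤ fittingOf M ⊓ Subgroup.centralizer (A₀ : Set G) := le_inf hA₀ hA₀C
  have hA₀p : IsPGroup p A₀ := by
    intro a
    refine ⟨1, ?_⟩
    apply Subtype.ext
    rw [pow_one, Subgroup.coe_pow, Subgroup.coe_one]
    exact hA₀e.2 _ a.2
  have hpF : p ∣ Nat.card (fittingOf M) := by
    obtain ⟨k, hk⟩ := IsPGroup.iff_card.mp hA₀p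
    have hk0 : k ≠ 0 := by
      intro h0
      rw [h0, pow_zero] at hk
      rw [hk] at hA₀3
      have : 1 < p ^ 3 := Nat.one_lt_pow (by norm_num) hp.out.one_lt
      omega
    have h1 : p ∣ Nat.card A₀ := by rw [hk]; exact dvd_pow_self p hk0
    exact h1.trans (Subgroup.card_dvd_of_le hA₀)
  have htwo : 2 ≤ (Nat.card (fittingOf M)).primeFactors.card := by
    obtain ⟨s, hs, hsF, hsp⟩ : ∃ s : ℕ, s.Prime ∧ s ∣ Nat.card (fittingOf M) ∧ s ≠ p := by
      by_contra hcon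
      push Not at hcon
      apply hF
      have := Nat.eq_prime_pow_of_unique_prime_dvd (p := p) Nat.card_pos.ne'
        (fun {d} hd hdd => hcon d hd hdd)
      exact IsPGroup.of_card this
    have h1 : ({p, s} : Finset ℕ) ⊆ (Nat.card (fittingOf M)).primeFactors := by
      intro x hx
      rw [Finset.mem_insert, Finset.mem_singleton] at hx
      rw [Nat.mem_primeFactors]
      rcases hx with rfl | rfl
      · exact ⟨hp.out, hpF, Nat.card_pos.ne'⟩
      · exact ⟨hs, hsF, Nat.card_pos.ne'⟩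
    have h2 := Finset.card_le_card h1
    rwa [Finset.card_pair (Ne.symm hsp)] at h2
  have D : BenderPre M (fittingOf M ⊓ Subgroup.centralizer (A₀ : Set G)) :=
    ⟨hM, htwo, inf_le_left, inf_le_inf_left _ (Subgroup.centralizer_le hA₀)⟩
  have hCA : fittingOf M ⊓ Subgroup.centralizer
      ((fittingOf M ⊓ Subgroup.centralizer (A₀ : Set G) : Subgroup G) : Set G) ≤
      fittingOf M ⊓ Subgroup.centralizer (A₀ : Set G) :=
    inf_le_inf_left _ (Subgroup.centralizer_le hA₀A)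
  have hA₀Z : A₀ ≤ (fittingOf M ⊓ Subgroup.centralizer (A₀ : Set G)) ⊓ Subgroup.centralizer
      ((fittingOf M ⊓ Subgroup.centralizer (A₀ : Set G) : Subgroup G) : Set G) := by
    refine le_inf hA₀A ?_
    rw [Subgroup.le_centralizer_iff]
    exact inf_le_right
  have hZ := not_rankLE_of_elementary hA₀Z hA₀e hA₀3
  exact ⟨hM, htwo, D.le, D.center_le, D.inv hG hCA hZ⟩

end Cfsg.Agent.Lib.Helper1.BG8
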