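import Mathlib
open Pointwise

set_option autoImplicit false

namespace Cfsg.Agent.Lib.Helper1

universe u

variable {G : Type u} [Group G]

/-- Normalisers grow in nilpotent subgroups: if `D < P` with `P` nilpotent, there is
`x ∈ P`, `x ∉ D` normalising `D`. -/
theorem exists_mem_normalizer_not_mem_of_lt {D P : Subgroup G} (hnil : Group.IsNilpotent P)
    (hlt : D < P) : ∃ x ∈ P, x ∈ Subgroup.normalizer (D : Set G) ∧ x ∉ D := by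
  have h1 : D.subgroupOf P < ⊤ := by
    rw [lt_top_iff_ne_top]
    intro h
    exact (not_le_of_gt hlt) (Subgroup.subgroupOf_eq_top.mp h)
  have h2 := Group.normalizerCondition_of_isNilpotent (G := P) _ h1
  obtain ⟨x, hxN, hxD⟩ := SetLike.exists_of_lt h2
  rw [← Subgroup.subgroupOf_normalizer_eq hlt.le, Subgroup.mem_subgroupOf] at hxN
  rw [Subgroup.mem_subgroupOf] at hxD
  exact ⟨x, x.2, hxN, hxD⟩

theorem exists_max_inter [Finite G] (X : Set (Subgroup G)) (P Q : Subgroup G) (hP : P ∈ X)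
    (hQ : Q ∈ X) (hne : P ≠ Q) :
    ∃ P₁ ∈ X, ∃ P₂ ∈ X, P₁ ≠ P₂ ∧ Nat.card (P ⊓ Q : Subgroup G) ≤ Nat.card (P₁ ⊓ P₂ : Subgroup G) ∧
      ∀ Q₁ ∈ X, ∀ Q₂ ∈ X, Q₁ ≠ Q₂ →
        Nat.card (Q₁ ⊓ Q₂ : Subgroup G) ≤ Nat.card (P₁ ⊓ P₂ : Subgroup G) := by
  let α := {pr : Subgroup G × Subgroup G // pr.1 ∈ X ∧ pr.2 ∈ X ∧ pr.1 ≠ pr.2}
  have : Nonempty α := ⟨⟨(P, Q), hP, hQ, hne⟩⟩
  obtain ⟨x₀, hx₀⟩ := Finite.exists_max (fun pr : α => Nat.card (pr.1.1 ⊓ pr.1.2 : Subgroup G))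
  refine ⟨x₀.1.1, x₀.2.1, x₀.1.2, x₀.2.2.1, x₀.2.2.2, hx₀ ⟨(P, Q), hP, hQ, hne⟩, ?_⟩
  intro Q₁ hQ₁ Q₂ hQ₂ hne'
  exact hx₀ ⟨(Q₁, Q₂), hQ₁, hQ₂, hne'⟩

/-- Maximal intersection trick. -/
theorem normalizer_not_le_of_max_inter [Finite G] (X : Set (Subgroup G))
    (hnil : ∀ P ∈ X, Group.IsNilpotent P)
    (hanti : ∀ P ∈ X, ∀ Q ∈ X, P ≤ Q → P = Q)
    (P₁ P₂ : Subgroup G) (h₁ : P₁ ∈ X) (h₂ : P₂ ∈ X) (hne : P₁ ≠ P₂)
    (hmax : ∀ Q₁ ∈ X, ∀ Q₂ ∈ X, Q₁ ≠ Q₂ →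
      Nat.card (Q₁ ⊓ Q₂ : Subgroup G) ≤ Nat.card (P₁ ⊓ P₂ : Subgroup G))
    (P₃ : Subgroup G) (h₃ : P₃ ∈ X) :
    ¬ Subgroup.normalizer ((P₁ ⊓ P₂ : Subgroup G) : Set G) ≤ P₃ := by
  intro hle
  set D := P₁ ⊓ P₂ with hD
  have key : ∀ P ∈ X, D < P → P₃ = P := by
    intro P hP hlt
    by_contra hne3
    obtain ⟨x, hxP, hxN, hxD⟩ := exists_mem_normalizer_not_mem_of_lt (hnil P hP) hlt
    have h1 := hmax P₃ h₃ P hP hne3
    have h2 : D < P₃ ⊓ P := by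
      refine lt_of_le_of_ne (le_inf (Subgroup.le_normalizer.trans hle) hlt.le) ?_
      intro heq
      apply hxD
      rw [heq]
      exact ⟨hle hxN, hxP⟩
    have h3 : Nat.card D < Nat.card (P₃ ⊓ P : Subgroup G) :=
      Set.ncard_lt_ncard h2 (Set.toFinite _)
    omega
  have hlt1 : D < P₁ := by
    refine lt_of_le_of_ne inf_le_left ?_
    intro heq
    have : P₁ ≤ P₂ := by rw [← heq]; exact inf_le_right
    exact hne (hanti P₁ h₁ P₂ h₂ this)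
  have hlt2 : D < P₂ := by
    refine lt_of_le_of_ne inf_le_right ?_
    intro heq
    have : P₂ ≤ P₁ := by rw [← heq]; exact inf_le_left
    exact hne (hanti P₂ h₂ P₁ h₁ this).symm
  exact hne ((key P₁ h₁ hlt1).symm.trans (key P₂ h₂ hlt2))

end Cfsg.Agent.Lib.Helper1
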