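import Mathlib
import Cfsg.Agent.Lib.Helper1.Fusion
import Cfsg.Agent.Lib.Helper1.FrobeniusBasic
import Cfsg.Agent.Lib.Helper1.FrattiniHall
import Cfsg.Prelude.Def_Transfer
set_option autoImplicit false
open Pointwise

namespace Cfsg.Agent.Lib.Helper1

theorem map_conj_eq_smul {G : Type*} [Group G] (g : G) (W : Subgroup G) :
    W.map (MulAut.conj g).toMonoidHom = MulAut.conj g • W := rfl

/-- Two `p`-subgroups of a subgroup `C` can be brought into a common Sylow `p`-subgroup of `G`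
by conjugating one of them by an element of `C`. -/
theorem exists_conj_le_common_sylow {G : Type*} [Group G] [Finite G] {p : ℕ} [Fact p.Prime]
    (C A B : Subgroup G) (hA : IsPGroup p A) (hB : IsPGroup p B) (hAC : A ≤ C) (hBC : B ≤ C) :
    ∃ c ∈ C, ∃ R : Sylow p G, A ≤ R ∧ MulAut.conj c • B ≤ R := by
  have hA' : IsPGroup p (A.subgroupOf C) := hA.of_equiv (Subgroup.subgroupOfEquivOfLe hAC).symm
  have hB' : IsPGroup p (B.subgroupOf C) := hB.of_equiv (Subgroup.subgroupOfEquivOfLe hBC).symm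
  obtain ⟨S, hS⟩ := hA'.exists_le_sylow
  obtain ⟨T, hT⟩ := hB'.exists_le_sylow
  obtain ⟨c, hc⟩ := MulAction.exists_smul_eq C T S
  have hSp : IsPGroup p ((S : Subgroup C).map C.subtype) := S.2.map _
  obtain ⟨R, hR⟩ := hSp.exists_le_sylow
  refine ⟨c, c.2, R, ?_, ?_⟩
  · intro a ha
    apply hR
    exact ⟨⟨a, hAC ha⟩, hS (Subgroup.mem_subgroupOf.mpr ha), rfl⟩
  · intro x hx
    rw [mem_conj_smul_iff] at hx
    apply hR
    have hxC : x ∈ C := by
      have := C.mul_mem (C.mul_mem c.2 (hBC hx)) (C.inv_mem c.2)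
      have e : (c : G) * ((c : G)⁻¹ * x * c) * (c : G)⁻¹ = x := by group
      rwa [e] at this
    refine ⟨⟨x, hxC⟩, ?_, rfl⟩
    have h1 : (⟨(c : G)⁻¹ * x * c, hBC hx⟩ : C) ∈ (T : Subgroup C) :=
      hT (Subgroup.mem_subgroupOf.mpr hx)
    have h2 : (MulAut.conj c • (T : Subgroup C)) = ((c • T : Sylow p C) : Subgroup C) := rfl
    have h3 : (⟨x, hxC⟩ : C) ∈ MulAut.conj c • (T : Subgroup C) := by
      rw [mem_conj_smul_iff]
      convert h1 using 1
      exact Subtype.ext rfl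
    rw [h2, hc] at h3
    exact h3

theorem weaklyClosed_central_controls_fusion {G : Type*} [Group G] [Finite G] {p : ℕ} [Fact p.Prime]
    (P : Sylow p G) (Z : Subgroup G) (hZ : Z ≤ Subgroup.centralizer (P : Set G))
    (hW : Cfsg.IsWeaklyClosed Z P) (x : G) (hx : x ∈ P) (g : G) (hy : g * x * g⁻¹ ∈ P) :
    ∃ n ∈ Subgroup.normalizer (Z : Set G), n * x * n⁻¹ = g * x * g⁻¹ := by
  obtain ⟨hZP, hWC⟩ := hW
  simp only [map_conj_eq_smul] at hWC
  set y := g * x * g⁻¹ with hydef
  have hZp : IsPGroup p Z := P.2.to_le hZP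
  have hZgp : IsPGroup p (MulAut.conj g • Z : Subgroup G) := by
    have : (MulAut.conj g • Z : Subgroup G) = Z.map (MulAut.conj g).toMonoidHom := rfl
    rw [this]; exact hZp.map _
  have h1 : Z ≤ Subgroup.centralizer {y} := by
    intro z hz
    rw [Subgroup.mem_centralizer_singleton_iff]
    exact (hZ hz y hy).symm
  have h2 : (MulAut.conj g • Z : Subgroup G) ≤ Subgroup.centralizer {y} := by
    intro z hz
    rw [mem_conj_smul_iff] at hz
    rw [Subgroup.mem_centralizer_singleton_iff]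
    have := hZ hz x hx
    -- x * (g⁻¹ z g) = (g⁻¹ z g) * x
    rw [hydef]
    have e1 : z * (g * x * g⁻¹) = g * ((g⁻¹ * z * g) * x) * g⁻¹ := by group
    have e2 : g * x * g⁻¹ * z = g * (x * (g⁻¹ * z * g)) * g⁻¹ := by group
    rw [e1, e2, this]
  obtain ⟨c, hc, R, hZR, hcR⟩ := exists_conj_le_common_sylow (Subgroup.centralizer {y}) Z
    (MulAut.conj g • Z) hZp hZgp h1 h2
  obtain ⟨r, hr⟩ := MulAction.exists_smul_eq G P R
  have hR : (R : Subgroup G) = MulAut.conj r • (P : Subgroup G) := by rw [← hr]; rfl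
  have k1 : MulAut.conj r⁻¹ • Z ≤ (P : Subgroup G) := by
    rw [map_inv]
    exact Subgroup.subset_pointwise_smul_iff.mp (hR ▸ hZR)
  have k1' := hWC r⁻¹ k1
  have k2 : MulAut.conj r⁻¹ • (MulAut.conj c • MulAut.conj g • Z) ≤ (P : Subgroup G) := by
    rw [map_inv]
    exact Subgroup.subset_pointwise_smul_iff.mp (hR ▸ hcR)
  rw [smul_smul, smul_smul, ← map_mul, ← map_mul] at k2
  have k2' := hWC _ k2
  have k3 : MulAut.conj (c * g) • Z = Z := by
    have e : MulAut.conj (c * g) = MulAut.conj r * MulAut.conj (r⁻¹ * c * g) := by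
      rw [← map_mul]; congr 1; group
    rw [e, mul_smul, k2']
    have e2 : MulAut.conj r • (MulAut.conj r⁻¹ • Z) = Z := by
      rw [smul_smul, ← map_mul, mul_inv_cancel, map_one, one_smul]
    rw [k1'] at e2
    exact e2
  refine ⟨c * g, mem_normalizer_of_conj_smul_eq k3, ?_⟩
  rw [Subgroup.mem_centralizer_singleton_iff] at hc
  have e : c * g * x * (c * g)⁻¹ = c * y * c⁻¹ := by rw [hydef]; group
  rw [e, hc]; group

end Cfsg.Agent.Lib.Helper1
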