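import Mathlib
import Cfsg.Agent.Lib.Helper1.Fusion2
import Cfsg.Agent.Lib.Helper1.SubnormalSylow
import Cfsg.Agent.Lib.Helper1.TransferFocal
import Cfsg.Agent.Lib.Helper1.NormalPComplement
import Cfsg.Agent.Lib.Helper1.Coprime
set_option autoImplicit false
open Pointwise
open scoped commutatorElement

namespace Cfsg.Agent.Lib.Helper1

universe u

variable {G : Type u} [Group G]

/-- `P` controls its own fusion in `G`. -/
def ControlsOwnFusion {p : ℕ} (P : Sylow p G) : Prop :=
  ∀ x ∈ P, ∀ g : G, g * x * g⁻¹ ∈ P → ∃ s ∈ P, s * x * s⁻¹ = g * x * g⁻¹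

/-- If `P` controls its own fusion, then every element of `P` is fully centralized:
`C_P(x)` is a Sylow `p`-subgroup of `C_G(x)`. -/
theorem not_dvd_relIndex_centralizer_of_controlsOwnFusion [Finite G] {p : ℕ} [hp : Fact p.Prime]
    (P : Sylow p G) (hctl : ControlsOwnFusion P) (x : G) (hx : x ∈ P) :
    ¬ p ∣ (P : Subgroup G).relIndex (Subgroup.centralizer {x}) := by
  set C := Subgroup.centralizer ({x} : Set G) with hC
  have hxC : x ∈ C := Subgroup.mem_centralizer_singleton_iff.mpr rfl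
  have hxp : IsPGroup p ((Subgroup.zpowers x).subgroupOf C) := by
    have h1 : IsPGroup p (Subgroup.zpowers x) := P.2.to_le (Subgroup.zpowers_le.mpr hx)
    have hle : Subgroup.zpowers x ≤ C := Subgroup.zpowers_le.mpr hxC
    exact h1.of_equiv (Subgroup.subgroupOfEquivOfLe hle).symm
  obtain ⟨T, hT⟩ := hxp.exists_le_sylow
  have hxT : (⟨x, hxC⟩ : C) ∈ (T : Subgroup C) :=
    hT (Subgroup.mem_subgroupOf.mpr (Subgroup.mem_zpowers x))
  have hTp : IsPGroup p ((T : Subgroup C).map C.subtype) := T.2.map _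
  obtain ⟨R, hR⟩ := hTp.exists_le_sylow
  obtain ⟨g, hg⟩ := MulAction.exists_smul_eq G P R
  have hRdef : (R : Subgroup G) = MulAut.conj g • (P : Subgroup G) := by rw [← hg]; rfl
  have hxR : x ∈ (R : Subgroup G) := hR ⟨⟨x, hxC⟩, hxT, rfl⟩
  rw [hRdef, mem_conj_smul_iff] at hxR
  -- x' = g⁻¹ x g ∈ P, and g x' g⁻¹ = x ∈ P
  have hback : g * (g⁻¹ * x * g) * g⁻¹ = x := by group
  obtain ⟨s, hs, hsx⟩ := hctl (g⁻¹ * x * g) hxR g (by rw [hback]; exact hx)
  rw [hback] at hsx
  -- w = s g⁻¹ centralizes x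
  have hw : s * g⁻¹ ∈ C := by
    rw [hC, Subgroup.mem_centralizer_singleton_iff]
    have : s * g⁻¹ * x * (s * g⁻¹)⁻¹ = x := by
      have e : s * g⁻¹ * x * (s * g⁻¹)⁻¹ = s * (g⁻¹ * x * g) * s⁻¹ := by group
      rw [e, hsx]
    calc s * g⁻¹ * x = (s * g⁻¹ * x * (s * g⁻¹)⁻¹) * (s * g⁻¹) := by group
      _ = x * (s * g⁻¹) := by rw [this]
  -- the conjugate Sylow subgroup of C
  let w : C := ⟨s * g⁻¹, hw⟩
  have hle : ((w • T : Sylow p C) : Subgroup C) ≤ (P : Subgroup G).subgroupOf C := by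
    intro y hy
    have hy' : y ∈ MulAut.conj w • (T : Subgroup C) := hy
    rw [mem_conj_smul_iff] at hy'
    rw [Subgroup.mem_subgroupOf]
    have h1 : ((w⁻¹ * y * w : C) : G) ∈ (R : Subgroup G) := hR ⟨_, hy', rfl⟩
    rw [hRdef, mem_conj_smul_iff] at h1
    have h2 : g⁻¹ * ((w⁻¹ * y * w : C) : G) * g = s⁻¹ * (y : G) * s := by
      show g⁻¹ * ((s * g⁻¹)⁻¹ * (y : G) * (s * g⁻¹)) * g = _
      group
    rw [h2] at h1
    have := (P : Subgroup G).mul_mem ((P : Subgroup G).mul_mem hs h1) ((P : Subgroup G).inv_mem hs)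
    have e : s * (s⁻¹ * (y : G) * s) * s⁻¹ = (y : G) := by group
    rwa [e] at this
  intro hdvd
  have h3 : ((P : Subgroup G).subgroupOf C).index ∣ ((w • T : Sylow p C) : Subgroup C).index :=
    Subgroup.index_dvd_of_le hle
  exact (w • T).not_dvd_index (hdvd.trans h3)

theorem exists_mul_of_not_dvd_relIndex [Finite G] {p : ℕ} [hp : Fact p.Prime] (S C N : Subgroup G)
    [hN : N.Normal] (hSC : S ≤ C) (hidx : ∃ k, N.index = p ^ k) (hS : ¬ p ∣ S.relIndex C)
    (c : G) (hc : c ∈ C) : ∃ s ∈ S, ∃ m ∈ C ⊓ N, c = s * m := by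
  set M := C ⊓ N with hM
  have h1 : (S ⊔ M).relIndex C ∣ S.relIndex C := Subgroup.relIndex_dvd_of_le_left C le_sup_left
  have h2 : (S ⊔ M).relIndex C ∣ M.relIndex C := Subgroup.relIndex_dvd_of_le_left C le_sup_right
  have h3 : M.relIndex C = N.relIndex C := by rw [hM, Subgroup.inf_relIndex_left]
  have h4 : N.relIndex C ∣ N.index := Subgroup.relIndex_dvd_index_of_normal N C
  obtain ⟨k, hk⟩ := hidx
  rw [h3] at h2
  have h5 : (S ⊔ M).relIndex C ∣ p ^ k := hk ▸ h2.trans h4
  obtain ⟨j, -, hj⟩ := (Nat.dvd_prime_pow hp.out).mp h5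
  have hj0 : j = 0 := by
    by_contra hj0
    apply hS
    refine dvd_trans ?_ h1
    rw [hj]; exact dvd_pow_self p hj0
  rw [hj0, pow_zero] at hj
  have hle : C ≤ S ⊔ M := Subgroup.relIndex_eq_one.mp hj
  have hCn : C ≤ Subgroup.normalizer (M : Set G) := by
    apply le_normalizer_inf Subgroup.le_normalizer
    rw [Subgroup.normalizer_eq_top_iff.mpr hN]; exact le_top
  have hc' : c ∈ ((S ⊔ M : Subgroup G) : Set G) := hle hc
  rw [Subgroup.coe_mul_of_left_le_normalizer_right S M (hSC.trans hCn)] at hc'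
  obtain ⟨s, hs, m, hm, rfl⟩ := Set.mem_mul.mp hc'
  exact ⟨s, hs, m, hm, rfl⟩

theorem index_eq_prime_pow_of_sup_sylow_eq_top [Finite G] {p : ℕ} [hp : Fact p.Prime] (P : Sylow p G)
    (N : Subgroup G) [N.Normal] (h : N ⊔ (P : Subgroup G) = ⊤) : ∃ k, N.index = p ^ k := by
  have h1 : N.relIndex ((P : Subgroup G) ⊔ N) = N.relIndex (P : Subgroup G) :=
    Subgroup.relIndex_sup_right _ _
  rw [sup_comm, h, Subgroup.relIndex_top_right] at h1
  obtain ⟨k, hk⟩ := P.2.exists_card_eq
  have h2 : N.relIndex (P : Subgroup G) ∣ p ^ k := hk ▸ Subgroup.relIndex_dvd_card _ _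
  obtain ⟨j, -, hj⟩ := (Nat.dvd_prime_pow hp.out).mp h2
  exact ⟨j, by rw [h1, hj]⟩

theorem normal_complement_of_controlsOwnFusion_aux {p : ℕ} [hp : Fact p.Prime] :
    ∀ (n : ℕ) (G : Type u) [Group G] [Finite G], Nat.card G = n → ∀ P : Sylow p G,
      ControlsOwnFusion P → ∃ K : Subgroup G, K.Normal ∧ K.IsComplement' (P : Subgroup G) := by
  intro n
  induction n using Nat.strong_induction_on with
  | _ n ih =>
  intro G _ _ hn P hctl
  by_cases hPbot : (P : Subgroup G) = ⊥
  · exact ⟨⊤, inferInstance, by rw [hPbot]; exact Subgroup.isComplement'_top_bot⟩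
  have hPP_le : ⁅(P : Subgroup G), (P : Subgroup G)⁆ ≤ (P : Subgroup G) := by
    rw [← Subgroup.map_subtype_commutator]; exact Subgroup.map_subtype_le _
  have hfoc : commutator G ⊓ (P : Subgroup G) = ⁅(P : Subgroup G), (P : Subgroup G)⁆ := by
    rw [commutator_inf_sylow_eq_of_controls_fusion P (P : Subgroup G) hctl le_rfl]
    exact inf_eq_left.mpr hPP_le
  have hcop : Nat.Coprime (P : Subgroup G).index
      (⁅(P : Subgroup G), (P : Subgroup G)⁆.relIndex (P : Subgroup G)) := by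
    obtain ⟨k, hk⟩ := P.2.exists_card_eq
    have hdvd : ⁅(P : Subgroup G), (P : Subgroup G)⁆.relIndex (P : Subgroup G) ∣ p ^ k := by
      rw [← hk]
      exact Subgroup.relIndex_dvd_card _ _
    apply Nat.Coprime.coprime_dvd_right hdvd
    apply Nat.Coprime.pow_right
    rw [Nat.coprime_comm, hp.out.coprime_iff_not_dvd]
    exact P.not_dvd_index
  obtain ⟨h1, h2⟩ := transferFocal_ker_of_coprime (P : Subgroup G) hcop
  set N := (P : Subgroup G).transferFocal.ker with hNdef
  have hNP : N ⊓ (P : Subgroup G) = ⁅(P : Subgroup G), (P : Subgroup G)⁆ := by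
    rw [h1, focalSubgroup_eq_of_coprime _ hcop, hfoc]
  have hNtop : N ≠ ⊤ := by
    intro htop
    rw [htop, top_inf_eq] at hNP
    have hnt : Nontrivial (P : Subgroup G) := (Subgroup.nontrivial_iff_ne_bot _).mpr hPbot
    have hnil : Group.IsNilpotent (P : Subgroup G) := P.2.isNilpotent
    have hlt : commutator (P : Subgroup G) < ⊤ := Group.IsSolvable.commutator_lt_top_of_nontrivial _
    apply hlt.ne
    rw [eq_top_iff]
    intro x _
    have hx : (x : G) ∈ ⁅(P : Subgroup G), (P : Subgroup G)⁆ := by rw [← hNP]; exact x.2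
    rw [← Subgroup.map_subtype_commutator, Subgroup.mem_map] at hx
    obtain ⟨y, hy, hyx⟩ := hx
    have : y = x := Subtype.ext hyx
    rwa [← this]
  have hcardN : Nat.card N < n := hn ▸ card_lt_of_ne_top N hNtop
  obtain ⟨Q, hQ⟩ := subnormal_inf_sylow p N (Subgroup.Normal.isSubnormal inferInstance) P
  have hQmem : ∀ y : N, y ∈ Q ↔ (y : G) ∈ (P : Subgroup G) := by
    intro y
    show y ∈ (Q : Subgroup N) ↔ _
    rw [hQ, Subgroup.mem_subgroupOf]
  have hNidx := index_eq_prime_pow_of_sup_sylow_eq_top P N h2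
  have hQctl : ControlsOwnFusion Q := by
    intro x hx m hm
    rw [hQmem] at hx hm
    have hm' : (m : G) * (x : G) * (m : G)⁻¹ ∈ (P : Subgroup G) := hm
    obtain ⟨u, hu, hux⟩ := hctl (x : G) hx (m : G) hm'
    set C := Subgroup.centralizer ({(x : G)} : Set G) with hC
    have hc0 : u⁻¹ * (m : G) ∈ C := by
      rw [hC, Subgroup.mem_centralizer_singleton_iff]
      have e1 : u⁻¹ * (m : G) * (x : G) = u⁻¹ * ((m : G) * (x : G) * (m : G)⁻¹) * (m : G) := by group
      rw [e1, ← hux]; group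
    have hrel : ¬ p ∣ ((P : Subgroup G) ⊓ C).relIndex C := by
      rw [Subgroup.inf_relIndex_right]
      exact not_dvd_relIndex_centralizer_of_controlsOwnFusion P hctl (x : G) hx
    obtain ⟨c, hc, m', hm', hcm⟩ := exists_mul_of_not_dvd_relIndex ((P : Subgroup G) ⊓ C) C N
      inf_le_right hNidx hrel _ hc0
    obtain ⟨hcP, hcC⟩ := Subgroup.mem_inf.mp hc
    obtain ⟨hm'C, hm'N⟩ := Subgroup.mem_inf.mp hm'
    have hvN : u * c ∈ N := by
      have : u * c = (m : G) * m'⁻¹ := by
        have : (m : G) = u * (c * m') := by rw [← hcm]; group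
        rw [this]; group
      rw [this]
      exact N.mul_mem m.2 (N.inv_mem hm'N)
    refine ⟨⟨u * c, hvN⟩, ?_, ?_⟩
    · rw [hQmem]
      exact (P : Subgroup G).mul_mem hu hcP
    · apply Subtype.ext
      show u * c * (x : G) * (u * c)⁻¹ = (m : G) * (x : G) * (m : G)⁻¹
      rw [hC, Subgroup.mem_centralizer_singleton_iff] at hcC
      rw [← hux]
      have : u * c * (x : G) * (u * c)⁻¹ = u * (c * (x : G)) * c⁻¹ * u⁻¹ := by group
      rw [this, hcC]; group
  obtain ⟨K', hK'n, hK'c⟩ := ih (Nat.card N) hcardN N rfl Q hQctl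
  have hK'mem : ∀ y : N, y ∈ K' ↔ Nat.Coprime (orderOf y) p :=
    fun y => mem_normal_complement_iff Q K' hK'c y
  refine ⟨K'.map N.subtype, ?_, ?_⟩
  · constructor
    intro k hk g
    obtain ⟨k', hk', rfl⟩ := hk
    have hgN : g * (k' : G) * g⁻¹ ∈ N := (inferInstance : N.Normal).conj_mem _ k'.2 g
    refine ⟨⟨g * (k' : G) * g⁻¹, hgN⟩, ?_, rfl⟩
    have hk'' : k' ∈ K' := hk'
    show (⟨g * (k' : G) * g⁻¹, hgN⟩ : N) ∈ K'
    rw [hK'mem] at hk'' ⊢
    have e : orderOf (⟨g * (k' : G) * g⁻¹, hgN⟩ : N) = orderOf k' := by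
      rw [← Subgroup.orderOf_coe, ← Subgroup.orderOf_coe]
      exact (MulAut.conj g).orderOf_eq (k' : G)
    rw [e]; exact hk''
  · have hcK : Nat.card (K'.map N.subtype) = Nat.card K' :=
      Subgroup.card_map_of_injective (Subgroup.subtype_injective N)
    have hidx : N.index = N.relIndex (P : Subgroup G) := by
      have h3 : N.relIndex ((P : Subgroup G) ⊔ N) = N.relIndex (P : Subgroup G) :=
        Subgroup.relIndex_sup_right _ _
      rw [sup_comm, h2, Subgroup.relIndex_top_right] at h3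
      exact h3
    have hcQ : Nat.card (Q : Subgroup N) = Nat.card (N ⊓ (P : Subgroup G) : Subgroup G) := by
      rw [hQ, ← Subgroup.inf_subgroupOf_right, card_subgroupOf_of_le inf_le_right, inf_comm]
    have hcP := relIndex_mul_card_inf N (P : Subgroup G)
    have hKQ : Nat.card K' * Nat.card (Q : Subgroup N) = Nat.card N := hK'c.card_mul_card
    apply Subgroup.isComplement'_of_coprime
    · rw [hcK, ← hcP, ← hidx, ← hcQ]
      calc Nat.card K' * (N.index * Nat.card (Q : Subgroup N))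
          = (Nat.card K' * Nat.card (Q : Subgroup N)) * N.index := by ring
        _ = Nat.card N * N.index := by rw [hKQ]
        _ = Nat.card G := N.card_mul_index
    · rw [hcK, ← hK'c.index_eq_card]
      obtain ⟨k, hk⟩ := P.2.exists_card_eq
      rw [hk]
      apply Nat.Coprime.pow_right
      rw [Nat.coprime_comm, hp.out.coprime_iff_not_dvd]
      exact Q.not_dvd_index

/-- If a Sylow `p`-subgroup controls its own fusion, then `G` has a normal `p`-complement. -/
theorem normal_complement_of_controlsOwnFusion [Finite G] {p : ℕ} [Fact p.Prime] (P : Sylow p G)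
    (h : ControlsOwnFusion P) : ∃ K : Subgroup G, K.Normal ∧ K.IsComplement' (P : Subgroup G) :=
  normal_complement_of_controlsOwnFusion_aux (Nat.card G) G rfl P h

end Cfsg.Agent.Lib.Helper1
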