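import Mathlib
import Cfsg.Agent.Lib.Helper1.FusionControl
import Cfsg.Agent.Lib.Helper1.PResidual
import Cfsg.Agent.Lib.Helper1.MaxInter
set_option autoImplicit false
open Pointwise
open scoped commutatorElement

namespace Cfsg.Agent.Lib.Helper1

universe u

variable {G : Type u} [Group G]

/-- Frobenius' condition: every `p'`-element normalizing a `p`-subgroup centralizes it. -/
def FrobeniusCondition (p : ℕ) (G : Type u) [Group G] : Prop :=
  ∀ Q : Subgroup G, IsPGroup p Q → ∀ g ∈ Subgroup.normalizer (Q : Set G),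
    Nat.Coprime (orderOf g) p → g ∈ Subgroup.centralizer (Q : Set G)

theorem frobeniusCondition_of_sylow [Finite G] {p : ℕ} [Fact p.Prime] (P : Sylow p G)
    (h : ∀ Q : Subgroup G, Q ≤ (P : Subgroup G) → ∀ g ∈ Subgroup.normalizer (Q : Set G),
      Nat.Coprime (orderOf g) p → g ∈ Subgroup.centralizer (Q : Set G)) :
    FrobeniusCondition p G := by
  intro Q hQ g hg hgo
  obtain ⟨R, hR⟩ := hQ.exists_le_sylow
  obtain ⟨u, hu⟩ := MulAction.exists_smul_eq G R P
  -- u • R = P, so conj u • Q ≤ P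
  have hle : MulAut.conj u • Q ≤ (P : Subgroup G) := by
    rw [← hu]
    show MulAut.conj u • Q ≤ MulAut.conj u • (R : Subgroup G)
    exact Subgroup.pointwise_smul_le_pointwise_smul_iff.mpr hR
  have hgn : u * g * u⁻¹ ∈ Subgroup.normalizer ((MulAut.conj u • Q : Subgroup G) : Set G) := by
    apply mem_normalizer_of_conj_smul_eq
    rw [smul_smul, ← map_mul]
    have e : u * g * u⁻¹ * u = u * g := by group
    rw [e, map_mul, mul_smul, conj_smul_eq_of_mem_normalizer hg]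
  have hord : orderOf (u * g * u⁻¹) = orderOf g := (MulAut.conj u).orderOf_eq g
  have hc := h _ hle _ hgn (hord ▸ hgo)
  rw [Subgroup.mem_centralizer_iff] at hc ⊢
  intro y hy
  have hy' : u * y * u⁻¹ ∈ MulAut.conj u • Q := by
    rw [mem_conj_smul_iff]
    have e : u⁻¹ * (u * y * u⁻¹) * u = y := by group
    rw [e]; exact hy
  have := hc _ hy'
  -- (u y u⁻¹) (u g u⁻¹) = (u g u⁻¹) (u y u⁻¹)
  have e1 : u * y * u⁻¹ * (u * g * u⁻¹) = u * (y * g) * u⁻¹ := by group
  have e2 : u * g * u⁻¹ * (u * y * u⁻¹) = u * (g * y) * u⁻¹ := by group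
  rw [e1, e2] at this
  have := mul_left_cancel (mul_right_cancel this)
  exact this

/-- Decomposition `N = T · (M ∩ N)` when `T` is a Sylow `p`-subgroup of `N` and `M` contains all
`p'`-elements of `N`. -/
theorem exists_mul_of_sylow_of_coprime_mem [Finite G] {p : ℕ} [hp : Fact p.Prime] (N M : Subgroup G)
    (hM : ∀ g ∈ N, Nat.Coprime (orderOf g) p → g ∈ M) (T : Sylow p N) (n : G) (hn : n ∈ N) :
    ∃ t : N, t ∈ T ∧ ∃ m ∈ M ⊓ N, n = (t : G) * m := by
  have hres : Cfsg.pResidual p N ≤ M.subgroupOf N := by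
    unfold Cfsg.pResidual
    rw [Subgroup.closure_le]
    intro g hg
    have hg' : (orderOf g).Coprime p := hg
    rw [SetLike.mem_coe, Subgroup.mem_subgroupOf]
    apply hM _ g.2
    rwa [Subgroup.orderOf_coe]
  have hn' : (⟨n, hn⟩ : N) ∈ (T : Subgroup N) ⊔ Cfsg.pResidual p N := by
    rw [sylow_sup_pResidual_eq_top]; trivial
  rw [Subgroup.mem_sup_of_normal_right] at hn'
  obtain ⟨t, ht, m, hm, htm⟩ := hn'
  refine ⟨t, ht, (m : G), Subgroup.mem_inf.mpr ⟨Subgroup.mem_subgroupOf.mp (hres hm), m.2⟩, ?_⟩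
  have := congrArg Subtype.val htm
  exact this.symm

theorem card_lt_card_of_lt' [Finite G] {D E : Subgroup G} (h : D < E) : Nat.card D < Nat.card E := by
  by_contra hle
  push Not at hle
  exact h.ne (Subgroup.eq_of_le_of_card_ge h.le hle)

theorem sylow_conj_centralizer_of_frobeniusCondition [Finite G] {p : ℕ} [hp : Fact p.Prime]
    (hF : FrobeniusCondition p G) :
    ∀ (k : ℕ) (R S : Sylow p G), Nat.card G - Nat.card ((R : Subgroup G) ⊓ S : Subgroup G) = k →
      ∀ x : G, x ∈ R → x ∈ S → ∃ c ∈ Subgroup.centralizer ({x} : Set G), c • S = R := by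
  intro k
  induction k using Nat.strong_induction_on with
  | _ k ih =>
  intro R S hk x hxR hxS
  set D := (R : Subgroup G) ⊓ S with hD
  have hxD : x ∈ D := Subgroup.mem_inf.mpr ⟨hxR, hxS⟩
  by_cases hRS : (R : Subgroup G) ≤ S
  · have hSR : (S : Subgroup G) = R := R.is_maximal' S.2 hRS
    exact ⟨1, Subgroup.one_mem _, by rw [one_smul]; exact Sylow.ext hSR⟩
  have hDltR : D < (R : Subgroup G) :=
    lt_of_le_of_ne inf_le_left (fun h => hRS (h ▸ inf_le_right))
  have hSR : ¬ (S : Subgroup G) ≤ R := fun h => hRS (S.is_maximal' R.2 h).le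
  have hDltS : D < (S : Subgroup G) :=
    lt_of_le_of_ne inf_le_right (fun h => hSR (h ▸ inf_le_left))
  obtain ⟨r, hrR, hrN, hrD⟩ := exists_mem_normalizer_not_mem_of_lt R.2.isNilpotent hDltR
  obtain ⟨s, hsS, hsN, hsD⟩ := exists_mem_normalizer_not_mem_of_lt S.2.isNilpotent hDltS
  set N := Subgroup.normalizer (D : Set G) with hN
  have hDp : IsPGroup p D := R.2.to_le inf_le_left
  have hDN : D ≤ N := Subgroup.le_normalizer
  have hM : ∀ g ∈ N, Nat.Coprime (orderOf g) p → g ∈ Subgroup.centralizer (D : Set G) :=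
    fun g hg hgo => hF D hDp g hg hgo
  -- Sylow subgroups of N
  have hAp : IsPGroup p (((R : Subgroup G) ⊓ N).subgroupOf N) :=
    (R.2.to_le inf_le_left).of_equiv (Subgroup.subgroupOfEquivOfLe inf_le_right).symm
  have hBp : IsPGroup p (((S : Subgroup G) ⊓ N).subgroupOf N) :=
    (S.2.to_le inf_le_left).of_equiv (Subgroup.subgroupOfEquivOfLe inf_le_right).symm
  obtain ⟨T, hT⟩ := hAp.exists_le_sylow
  obtain ⟨T₂, hT₂⟩ := hBp.exists_le_sylow
  obtain ⟨n, hn⟩ := MulAction.exists_smul_eq N T₂ T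
  obtain ⟨t, ht, m, hm, hnm⟩ := exists_mul_of_sylow_of_coprime_mem N _ hM T (n : G) n.2
  obtain ⟨hmC, hmN⟩ := Subgroup.mem_inf.mp hm
  have hTp : IsPGroup p ((T : Subgroup N).map N.subtype) := T.2.map _
  obtain ⟨R₁, hR₁⟩ := hTp.exists_le_sylow
  have hA_le : ∀ a ∈ (R : Subgroup G), a ∈ N → a ∈ (R₁ : Subgroup G) := by
    intro a haR haN
    apply hR₁
    exact ⟨⟨a, haN⟩, hT (Subgroup.mem_subgroupOf.mpr (Subgroup.mem_inf.mpr ⟨haR, haN⟩)), rfl⟩
  have hB_le : ∀ b ∈ (S : Subgroup G), b ∈ N → m * b * m⁻¹ ∈ (R₁ : Subgroup G) := by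
    intro b hbS hbN
    apply hR₁
    have h1 : (⟨b, hbN⟩ : N) ∈ (T₂ : Subgroup N) :=
      hT₂ (Subgroup.mem_subgroupOf.mpr (Subgroup.mem_inf.mpr ⟨hbS, hbN⟩))
    have h2 : n * ⟨b, hbN⟩ * n⁻¹ ∈ (T : Subgroup N) := by
      have : n * ⟨b, hbN⟩ * n⁻¹ ∈ MulAut.conj n • (T₂ : Subgroup N) := by
        rw [mem_conj_smul_iff]
        have e : n⁻¹ * (n * ⟨b, hbN⟩ * n⁻¹) * n = ⟨b, hbN⟩ := by group
        rw [e]; exact h1
      have h3 : (MulAut.conj n • (T₂ : Subgroup N)) = ((n • T₂ : Sylow p N) : Subgroup N) := rfl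
      rw [h3, hn] at this
      exact this
    have h4 : t⁻¹ * (n * ⟨b, hbN⟩ * n⁻¹) * t ∈ (T : Subgroup N) :=
      (T : Subgroup N).mul_mem ((T : Subgroup N).mul_mem ((T : Subgroup N).inv_mem ht) h2) ht
    refine ⟨_, h4, ?_⟩
    show (t : G)⁻¹ * ((n : G) * b * (n : G)⁻¹) * (t : G) = m * b * m⁻¹
    rw [hnm]; group
  have hx₁ : x ∈ (R₁ : Subgroup G) := hA_le x hxR (hDN hxD)
  have hmx : m ∈ Subgroup.centralizer ({x} : Set G) := by
    rw [Subgroup.mem_centralizer_singleton_iff]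
    exact (Subgroup.mem_centralizer_iff.mp hmC x hxD).symm
  have hmD : MulAut.conj m • D = D :=
    conj_smul_eq_of_mem_normalizer (Subgroup.centralizer_le_normalizer _ hmC)
  -- first induction step: R and R₁
  have hlt1 : D < (R : Subgroup G) ⊓ R₁ := by
    refine lt_of_le_of_ne (le_inf inf_le_left (fun a ha => hA_le a (inf_le_left (a := (R : Subgroup G)) ha) (hDN ha))) ?_
    intro h
    apply hrD
    rw [h]
    exact Subgroup.mem_inf.mpr ⟨hrR, hA_le r hrR hrN⟩
  have hcard1 := card_lt_card_of_lt' hlt1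
  have hle1 : Nat.card ((R : Subgroup G) ⊓ R₁ : Subgroup G) ≤ Nat.card G :=
    Subgroup.card_le_card_group _
  obtain ⟨c₁, hc₁, hc₁R⟩ := ih (Nat.card G - Nat.card ((R : Subgroup G) ⊓ R₁ : Subgroup G))
    (by omega) R R₁ rfl x hxR hx₁
  -- second induction step: R₁ and m • S
  have hmS : ((m • S : Sylow p G) : Subgroup G) = MulAut.conj m • (S : Subgroup G) := rfl
  have hDmS : D ≤ ((m • S : Sylow p G) : Subgroup G) := by
    rw [hmS, ← hmD]
    exact Subgroup.pointwise_smul_le_pointwise_smul_iff.mpr inf_le_right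
  have hlt2 : D < (R₁ : Subgroup G) ⊓ (m • S : Sylow p G) := by
    refine lt_of_le_of_ne (le_inf (fun a ha => hA_le a (inf_le_left (a := (R : Subgroup G)) ha) (hDN ha)) hDmS) ?_
    intro h
    apply hsD
    have h1 : m * s * m⁻¹ ∈ (R₁ : Subgroup G) ⊓ (m • S : Sylow p G) := by
      refine Subgroup.mem_inf.mpr ⟨hB_le s hsS hsN, ?_⟩
      rw [hmS, mem_conj_smul_iff]
      have e : m⁻¹ * (m * s * m⁻¹) * m = s := by group
      rw [e]; exact hsS
    rw [← h, ← hmD, mem_conj_smul_iff] at h1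
    have e : m⁻¹ * (m * s * m⁻¹) * m = s := by group
    rwa [e] at h1
  have hcard2 := card_lt_card_of_lt' hlt2
  have hle2 : Nat.card ((R₁ : Subgroup G) ⊓ (m • S : Sylow p G) : Subgroup G) ≤ Nat.card G :=
    Subgroup.card_le_card_group _
  have hxmS : x ∈ (m • S : Sylow p G) := hDmS hxD
  obtain ⟨c₂, hc₂, hc₂R⟩ := ih (Nat.card G - Nat.card ((R₁ : Subgroup G) ⊓ (m • S : Sylow p G) : Subgroup G))
    (by omega) R₁ (m • S) rfl x hx₁ hxmS
  refine ⟨c₁ * c₂ * m, Subgroup.mul_mem _ (Subgroup.mul_mem _ hc₁ hc₂) hmx, ?_⟩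
  rw [mul_smul, mul_smul, hc₂R, hc₁R]

theorem controlsOwnFusion_of_frobeniusCondition [Finite G] {p : ℕ} [hp : Fact p.Prime]
    (hF : FrobeniusCondition p G) (P : Sylow p G) : ControlsOwnFusion P := by
  intro x hx g hg
  have hxS : x ∈ (g⁻¹ • P : Sylow p G) := by
    show x ∈ MulAut.conj g⁻¹ • (P : Subgroup G)
    rw [mem_conj_smul_iff, inv_inv]
    exact hg
  obtain ⟨c, hc, hcP⟩ := sylow_conj_centralizer_of_frobeniusCondition hF _ P (g⁻¹ • P) rfl x hx hxS
  rw [smul_smul] at hcP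
  have hn0 : c * g⁻¹ ∈ Subgroup.normalizer ((P : Subgroup G) : Set G) :=
    Sylow.smul_eq_iff_mem_normalizer.mp hcP
  have hn : g * c⁻¹ ∈ Subgroup.normalizer ((P : Subgroup G) : Set G) := by
    have := Subgroup.inv_mem _ hn0
    rwa [mul_inv_rev, inv_inv] at this
  have hM : ∀ a ∈ Subgroup.normalizer ((P : Subgroup G) : Set G), Nat.Coprime (orderOf a) p →
      a ∈ Subgroup.centralizer ((P : Subgroup G) : Set G) := fun a ha hao => hF P P.2 a ha hao
  obtain ⟨t, ht, m, hm, htm⟩ := exists_mul_of_sylow_of_coprime_mem _ _ hM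
    (P.subtype Subgroup.le_normalizer) (g * c⁻¹) hn
  have htP : (t : G) ∈ (P : Subgroup G) := by
    have : t ∈ ((P.subtype Subgroup.le_normalizer : Sylow p _) : Subgroup _) := ht
    rw [Sylow.coe_subtype, Subgroup.mem_subgroupOf] at this
    exact this
  refine ⟨t, htP, ?_⟩
  have hmx : m * x = x * m := (Subgroup.mem_centralizer_iff.mp (Subgroup.mem_inf.mp hm).1 x hx).symm
  have hcx : c * x = x * c := Subgroup.mem_centralizer_singleton_iff.mp hc
  have e1 : g * x * g⁻¹ = (g * c⁻¹) * x * (g * c⁻¹)⁻¹ := by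
    have : (g * c⁻¹) * x * (g * c⁻¹)⁻¹ = g * (c⁻¹ * (x * c)) * g⁻¹ := by group
    rw [this, ← hcx]; group
  rw [e1, htm]
  have : (t : G) * m * x * ((t : G) * m)⁻¹ = (t : G) * (m * x) * m⁻¹ * (t : G)⁻¹ := by group
  rw [this, hmx]; group

/-- Frobenius' normal `p`-complement theorem. -/
theorem frobenius_normal_p_complement [Finite G] {p : ℕ} [hp : Fact p.Prime] (P : Sylow p G) :
    (∃ N : Subgroup G, N.Normal ∧ N.IsComplement' (P : Subgroup G)) ↔
      ∀ Q : Subgroup G, Q ≤ (P : Subgroup G) → ∀ g ∈ Subgroup.normalizer (Q : Set G),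
        Nat.Coprime (orderOf g) p → g ∈ Subgroup.centralizer (Q : Set G) := by
  constructor
  · rintro ⟨N, hNn, hN⟩ Q hQP g hg hgo
    have hgN : g ∈ N := (mem_normal_complement_iff P N hN g).mpr hgo
    rw [Subgroup.mem_centralizer_iff]
    intro x hx
    have h1 : g * x * g⁻¹ * x⁻¹ ∈ (P : Subgroup G) :=
      hQP (Q.mul_mem ((Subgroup.mem_normalizer_iff.mp hg x).mp hx) (Q.inv_mem hx))
    have h2 : g * x * g⁻¹ * x⁻¹ ∈ N := by
      have := N.mul_mem hgN (hNn.conj_mem g⁻¹ (N.inv_mem hgN) x)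
      have e : g * (x * g⁻¹ * x⁻¹) = g * x * g⁻¹ * x⁻¹ := by group
      rwa [e] at this
    have h3 : g * x * g⁻¹ * x⁻¹ ∈ N ⊓ (P : Subgroup G) := Subgroup.mem_inf.mpr ⟨h2, h1⟩
    rw [hN.disjoint.eq_bot, Subgroup.mem_bot] at h3
    have := congrArg (fun t => t * x * g) h3
    simpa [mul_assoc] using this.symm
  · intro h
    exact normal_complement_of_controlsOwnFusion P
      (controlsOwnFusion_of_frobeniusCondition (frobeniusCondition_of_sylow P h) P)

end Cfsg.Agent.Lib.Helper1
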