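import Mathlib
import Cfsg.Agent.Lib.Helper1.FrobeniusPComplement
set_option autoImplicit false
open Pointwise
open scoped commutatorElement

namespace Cfsg.Agent.Lib.Helper1

universe u

variable {G : Type u} [Group G]

theorem hasNormalPComplement_iff_frobeniusCondition [Finite G] {p : ℕ} [hp : Fact p.Prime] :
    Cfsg.HasNormalPComplement p G ↔ FrobeniusCondition p G := by
  let P : Sylow p G := default
  rw [hasNormalPComplement_iff P, frobenius_normal_p_complement P]
  constructor
  · exact frobeniusCondition_of_sylow P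
  · intro h Q hQ g hg hgo
    exact h Q (P.2.to_le hQ) g hg hgo

theorem frobeniusCondition_subgroup {p : ℕ} (h : FrobeniusCondition p G) (H : Subgroup G) :
    FrobeniusCondition p H := by
  intro Q hQ g hg hgo
  have hQ' : IsPGroup p (Q.map H.subtype) := hQ.map _
  have hg' : (g : G) ∈ Subgroup.normalizer ((Q.map H.subtype : Subgroup G) : Set G) := by
    rw [Subgroup.mem_normalizer_iff]
    intro y
    constructor
    · rintro ⟨y₀, hy₀, rfl⟩
      exact ⟨g * y₀ * g⁻¹, (Subgroup.mem_normalizer_iff.mp hg y₀).mp hy₀, rfl⟩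
    · rintro ⟨z₀, hz₀, hz⟩
      have hyH : y ∈ H := by
        have : y = (g : G)⁻¹ * ((g : G) * y * (g : G)⁻¹) * g := by group
        rw [this, ← hz]
        exact H.mul_mem (H.mul_mem (H.inv_mem g.2) z₀.2) g.2
      refine ⟨⟨y, hyH⟩, ?_, rfl⟩
      show (⟨y, hyH⟩ : H) ∈ Q
      rw [Subgroup.mem_normalizer_iff.mp hg ⟨y, hyH⟩]
      have hz₀' : z₀ ∈ Q := hz₀
      have e : g * ⟨y, hyH⟩ * g⁻¹ = z₀ := Subtype.ext hz.symm
      rw [e]; exact hz₀'
  have hgo' : Nat.Coprime (orderOf (g : G)) p := by rwa [Subgroup.orderOf_coe]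
  have hc := h _ hQ' _ hg' hgo'
  rw [Subgroup.mem_centralizer_iff] at hc ⊢
  intro y hy
  apply Subtype.ext
  exact hc (y : G) ⟨y, hy, rfl⟩

theorem hasNormalPComplement_subgroup [Finite G] {p : ℕ} [hp : Fact p.Prime]
    (h : Cfsg.HasNormalPComplement p G) (H : Subgroup G) : Cfsg.HasNormalPComplement p H := by
  rw [hasNormalPComplement_iff_frobeniusCondition] at h ⊢
  exact frobeniusCondition_subgroup h H

theorem hasNormalPComplement_iff_local [Finite G] (p : ℕ) [hp : Fact p.Prime] :
    Cfsg.HasNormalPComplement p G ↔ ∀ Q : Subgroup G, IsPGroup p Q → Q ≠ ⊥ →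
      Cfsg.HasNormalPComplement p (Subgroup.normalizer (Q : Set G)) := by
  constructor
  · intro h Q _ _
    exact hasNormalPComplement_subgroup h _
  · intro h
    rw [hasNormalPComplement_iff_frobeniusCondition]
    intro Q hQ g hg hgo
    by_cases hQb : Q = ⊥
    · rw [hQb, Subgroup.mem_centralizer_iff]
      intro y hy
      have : y = 1 := hy
      rw [this, one_mul, mul_one]
    · have hN := h Q hQ hQb
      rw [hasNormalPComplement_iff_frobeniusCondition] at hN
      set N := Subgroup.normalizer (Q : Set G) with hNdef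
      have hQN : Q ≤ N := Subgroup.le_normalizer
      have hQ' : IsPGroup p (Q.subgroupOf N) := hQ.of_equiv (Subgroup.subgroupOfEquivOfLe hQN).symm
      have hg' : (⟨g, hg⟩ : N) ∈ Subgroup.normalizer ((Q.subgroupOf N : Subgroup N) : Set N) := by
        rw [← Subgroup.subgroupOf_normalizer_eq hQN, Subgroup.mem_subgroupOf]
        exact hg
      have hgo' : Nat.Coprime (orderOf (⟨g, hg⟩ : N)) p := by
        rw [← Subgroup.orderOf_coe]; exact hgo
      have hc := hN _ hQ' _ hg' hgo'
      rw [Subgroup.mem_centralizer_iff] at hc ⊢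
      intro y hy
      have := hc ⟨y, hQN hy⟩ (Subgroup.mem_subgroupOf.mpr hy)
      exact congrArg Subtype.val this

end Cfsg.Agent.Lib.Helper1
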