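import Mathlib
import Cfsg.Prelude.Def_PLocal
import Cfsg.Agent.Lib.Helper1.ZJ7
import Cfsg.Agent.Lib.Lead.FixOmega
set_option autoImplicit false
open scoped Pointwise commutatorElement
universe u
namespace Cfsg.Agent.Lib.Helper1.ZJ

open Cfsg.Agent.Lib.Helper1.GlaubermanRepl

variable {G : Type u} [Group G]

/-- an element of order dividing `p` centralizing a maximal elementary abelian subgroup lies in it -/
theorem mem_of_commute_FE [Finite G] {p : ℕ} {X A : Subgroup G}
    (hA : A ∈ FPr (PrE (G := G) p) X)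
    {z : G} (hzX : z ∈ X) (hzp : z ^ p = 1) (hzA : ∀ a ∈ A, a * z = z * a) : z ∈ A := by
  have hcomm : ∀ x ∈ Subgroup.closure ((A : Set G) ∪ {z}),
      ∀ y ∈ Subgroup.closure ((A : Set G) ∪ {z}), x * y = y * x := by
    have h1 : ∀ x ∈ (A : Set G) ∪ {z}, ∀ y ∈ (A : Set G) ∪ {z}, x * y = y * x := by
      rintro x (hx | hx) y (hy | hy)
      · exact hA.2.1.1 x hx y hy
      · rw [Set.mem_singleton_iff] at hy
        rw [hy]; exact hzA x hx
      · rw [Set.mem_singleton_iff] at hx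
        rw [hx]; exact (hzA y hy).symm
      · rw [Set.mem_singleton_iff] at hx hy
        rw [hx, hy]
    have := Subgroup.isMulCommutative_closure h1
    intro x hx y hy
    have h2 := mul_comm' (⟨x, hx⟩ : Subgroup.closure ((A : Set G) ∪ {z})) ⟨y, hy⟩
    exact congrArg Subtype.val h2
  have hPr : PrE p (Subgroup.closure ((A : Set G) ∪ {z})) := by
    refine ⟨hcomm, ?_⟩
    intro a ha
    induction ha using Subgroup.closure_induction with
    | mem x hx =>
      rcases hx with hx | hx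
      · exact hA.2.1.2 x hx
      · rw [Set.mem_singleton_iff] at hx
        rw [hx]; exact hzp
    | one => exact one_pow p
    | mul x y hx hy ihx ihy =>
      have hc : Commute x y := hcomm x hx y hy
      rw [hc.mul_pow, ihx, ihy, one_mul]
    | inv x hx ihx => rw [inv_pow, ihx, inv_one]
  have h1 : Subgroup.closure ((A : Set G) ∪ {z}) ≤ X := by
    rw [Subgroup.closure_le]
    rintro t (ht | ht)
    · exact hA.1 ht
    · rw [Set.mem_singleton_iff] at ht
      rw [ht]; exact hzX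
  have h2 := hA.2.2 _ h1 hPr
  have h3 : A ≤ Subgroup.closure ((A : Set G) ∪ {z}) := by
    intro a ha
    exact Subgroup.subset_closure (Or.inl ha)
  have h4 := Subgroup.eq_of_le_of_card_ge h3 h2
  rw [h4]
  exact Subgroup.subset_closure (Or.inr rfl)

/-- the centre of the join of a family -/
def ZF (F : Subgroup G → Set (Subgroup G)) (X : Subgroup G) : Subgroup G :=
  sSup (F X) ⊓ Subgroup.centralizer ((sSup (F X) : Subgroup G) : Set G)

namespace ZJFamily

variable {p : ℕ} {F : Subgroup G → Set (Subgroup G)}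

theorem map_sSup_le (fam : ZJFamily p F) (φ : G ≃* G) (X : Subgroup G) :
    (sSup (F X)).map φ.toMonoidHom ≤ sSup (F (X.map φ.toMonoidHom)) := by
  rw [Subgroup.map_le_iff_le_comap]
  apply sSup_le
  intro A hA
  rw [← Subgroup.map_le_iff_le_comap]
  exact le_sSup (fam.map_mem φ hA)

theorem conj_mem_sSup (fam : ZJFamily p F) {X : Subgroup G} {g : G}
    (hg : g ∈ Subgroup.normalizer (X : Set G)) {x : G} (hx : x ∈ sSup (F X)) :
    g * x * g⁻¹ ∈ sSup (F X) := by
  have h1 : X.map (MulAut.conj g).toMonoidHom = X := conj_smul_eq_of_mem_normalizer hg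
  have h2 := fam.map_sSup_le (MulAut.conj g) X
  rw [h1] at h2
  have h3 : MulAut.conj g x ∈ (sSup (F X)).map (MulAut.conj g).toMonoidHom :=
    Subgroup.mem_map_of_mem _ hx
  have h4 := h2 h3
  simpa using h4

theorem conj_mem_ZF (fam : ZJFamily p F) {X : Subgroup G} {g : G}
    (hg : g ∈ Subgroup.normalizer (X : Set G)) {x : G} (hx : x ∈ ZF F X) :
    g * x * g⁻¹ ∈ ZF F X := by
  refine ⟨fam.conj_mem_sSup hg hx.1, ?_⟩
  change g * x * g⁻¹ ∈ Subgroup.centralizer ((sSup (F X) : Subgroup G) : Set G)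
  rw [Subgroup.mem_centralizer_iff]
  intro y hy
  have h1 : g⁻¹ * y * g⁻¹⁻¹ ∈ sSup (F X) :=
    fam.conj_mem_sSup (Subgroup.inv_mem _ hg) hy
  have h2 := Subgroup.mem_centralizer_iff.mp hx.2 _ h1
  -- (g⁻¹ y g) x = x (g⁻¹ y g)
  have e1 : y * (g * x * g⁻¹) = g * ((g⁻¹ * y * g⁻¹⁻¹) * x) * g⁻¹ := by group
  have e2 : g * x * g⁻¹ * y = g * (x * (g⁻¹ * y * g⁻¹⁻¹)) * g⁻¹ := by group
  rw [e1, e2, h2]

theorem ZF_le (fam : ZJFamily p F) (X : Subgroup G) : ZF F X ≤ X := by
  intro x hx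
  have : sSup (F X) ≤ X := sSup_le (fun A hA => fam.le hA)
  exact this hx.1

theorem ZF_comm (X : Subgroup G) : ∀ x ∈ ZF F X, ∀ y ∈ ZF F X, x * y = y * x := by
  intro x hx y hy
  exact Subgroup.mem_centralizer_iff.mp hy.2 x hx.1

end ZJFamily

/-- `C_G(Ω₁(B))` is a `p`-group modulo `C_G(B)` for `p` odd -/
theorem comap_pCore_omega_le [Finite G] {p : ℕ} [hp : Fact p.Prime] (hp2 : p ≠ 2)
    (B V : Subgroup G) [hBn : B.Normal] [hVn : V.Normal] (hB : IsPGroup p B)
    (hV : ∀ x ∈ B, x ^ p = 1 → x ∈ V) :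
    (Cfsg.pCore p (G ⧸ Subgroup.centralizer (V : Set G))).comap
      (QuotientGroup.mk' (Subgroup.centralizer (V : Set G))) ≤
    (Cfsg.pCore p (G ⧸ Subgroup.centralizer (B : Set G))).comap
      (QuotientGroup.mk' (Subgroup.centralizer (B : Set G))) := by
  obtain ⟨LV, hLV⟩ : ∃ LV, LV = (Cfsg.pCore p (G ⧸ Subgroup.centralizer (V : Set G))).comap
      (QuotientGroup.mk' (Subgroup.centralizer (V : Set G))) := ⟨_, rfl⟩
  rw [← hLV]
  have hLVn : LV.Normal := hLV ▸ Subgroup.Normal.comap (pCore_normal p) _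
  have hmapn : (LV.map (QuotientGroup.mk' (Subgroup.centralizer (B : Set G)))).Normal :=
    Subgroup.Normal.map hLVn _ (QuotientGroup.mk'_surjective _)
  have hkey : ∀ g ∈ LV, ∃ k : ℕ, g ^ (p ^ k) ∈ Subgroup.centralizer (B : Set G) := by
    intro g hg
    rw [hLV, Subgroup.mem_comap] at hg
    obtain ⟨a, ha⟩ := (pCore_isPGroup (G := G ⧸ Subgroup.centralizer (V : Set G)) p) ⟨_, hg⟩
    have ha' : (QuotientGroup.mk' (Subgroup.centralizer (V : Set G)) g) ^ (p ^ a) = 1 := by
      have := congrArg Subtype.val ha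
      simpa using this
    rw [← map_pow, QuotientGroup.mk'_apply, QuotientGroup.eq_one_iff] at ha'
    obtain ⟨h, hh⟩ : ∃ h, h = g ^ (p ^ a) := ⟨_, rfl⟩
    rw [← hh] at ha'
    have hpos : 0 < orderOf h := orderOf_pos h
    obtain ⟨b, m, hm, hbm⟩ := Nat.exists_eq_pow_mul_and_not_dvd hpos.ne' p hp.out.ne_one
    obtain ⟨l, hl⟩ : ∃ l, l = h ^ (p ^ b) := ⟨_, rfl⟩
    have hlo : orderOf l = m := by
      rw [hl, orderOf_pow' h (pow_ne_zero b hp.out.ne_zero), hbm]
      have hg1 : (p ^ b * m).gcd (p ^ b) = p ^ b :=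
        Nat.gcd_eq_right (Dvd.intro _ rfl)
      rw [hg1, Nat.mul_div_cancel_left _ (pow_pos hp.out.pos b)]
    have hlC : l ∈ Subgroup.centralizer (V : Set G) := hl ▸ Subgroup.pow_mem _ ha' _
    have hcop : (orderOf l).Coprime p := by
      rw [hlo]
      exact ((Nat.Prime.coprime_iff_not_dvd hp.out).mpr hm).symm
    have hcen := Cfsg.Agent.Lib.Lead.FixOmega.centralizes_of_centralizes_omega hp2 B hB l
      (by rw [Subgroup.normalizer_eq_top_iff.mpr hBn]; trivial) hcop
      (fun x hx hxp => (Subgroup.mem_centralizer_iff.mp hlC x (hV x hx hxp)).symm)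
    refine ⟨a + b, ?_⟩
    rw [pow_add, pow_mul, ← hh, ← hl, Subgroup.mem_centralizer_iff]
    intro x hx
    exact (hcen x hx).symm
  have hmapp : IsPGroup p (LV.map (QuotientGroup.mk' (Subgroup.centralizer (B : Set G)))) := by
    rintro ⟨y, g, hg, rfl⟩
    obtain ⟨k, hk⟩ := hkey g hg
    refine ⟨k, ?_⟩
    apply Subtype.ext
    simp only [Subgroup.coe_pow, Subgroup.coe_one]
    rw [← map_pow, QuotientGroup.mk'_apply, QuotientGroup.eq_one_iff]
    exact hk
  have h1 := le_pCore hmapn hmapp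
  rw [Subgroup.map_le_iff_le_comap] at h1
  exact h1

end Cfsg.Agent.Lib.Helper1.ZJ
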