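import Mathlib
import Cfsg.Prelude.Def_PLocal
import Cfsg.Agent.Lib.Helper1.ZJF1
set_option autoImplicit false
open scoped Pointwise commutatorElement
universe u
namespace Cfsg.Agent.Lib.Helper1.ZJ

open Cfsg.Agent.Lib.Helper1.GlaubermanRepl

variable {G : Type u} [Group G]

/-- class two algebra inside a normal subgroup whose commutator subgroup is central in it -/
theorem comm_mul_left_of_central {B : Subgroup G}
    (hcen : ∀ c ∈ ⁅B, B⁆, ∀ b ∈ B, c * b = b * c) {a b c : G} (ha : a ∈ B) (hb : b ∈ B)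
    (hc : c ∈ B) : ⁅a * b, c⁆ = ⁅a, c⁆ * ⁅b, c⁆ := by
  have e : ⁅a * b, c⁆ = a * ⁅b, c⁆ * a⁻¹ * ⁅a, c⁆ := by
    simp only [commutatorElement_def]; group
  have hbc : ⁅b, c⁆ ∈ ⁅B, B⁆ := Subgroup.commutator_mem_commutator hb hc
  have hac : ⁅a, c⁆ ∈ B := by
    rw [commutatorElement_def]
    exact B.mul_mem (B.mul_mem (B.mul_mem ha hc) (B.inv_mem ha)) (B.inv_mem hc)
  rw [e, ← hcen _ hbc a ha, mul_inv_cancel_right, hcen _ hbc _ hac]

theorem comm_pow_eq_one_of_central {p : ℕ} {B : Subgroup G}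
    (hcen : ∀ c ∈ ⁅B, B⁆, ∀ b ∈ B, c * b = b * c) :
    ∀ v ∈ Subgroup.closure {x : G | x ∈ B ∧ x ^ p = 1}, ∀ w ∈ B, ⁅v, w⁆ ^ p = 1 := by
  have hVB : Subgroup.closure {x : G | x ∈ B ∧ x ^ p = 1} ≤ B := by
    rw [Subgroup.closure_le]
    intro x hx
    exact hx.1
  intro v hv w hw
  induction hv using Subgroup.closure_induction with
  | mem x hx =>
    have hpow : ∀ n : ℕ, ⁅x ^ n, w⁆ = ⁅x, w⁆ ^ n := by
      intro n
      induction n with
      | zero => simp [commutatorElement_def]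
      | succ n ih =>
        rw [pow_succ, comm_mul_left_of_central hcen (B.pow_mem hx.1 n) hx.1 hw, ih, pow_succ]
    rw [← hpow, hx.2]
    simp [commutatorElement_def]
  | one => simp [commutatorElement_def]
  | mul x y hx hy ihx ihy =>
    rw [comm_mul_left_of_central hcen (hVB hx) (hVB hy) hw]
    have hxw : ⁅x, w⁆ ∈ ⁅B, B⁆ := Subgroup.commutator_mem_commutator (hVB hx) hw
    have hyw : ⁅y, w⁆ ∈ B := by
      rw [commutatorElement_def]
      exact B.mul_mem (B.mul_mem (B.mul_mem (hVB hy) hw) (B.inv_mem (hVB hy))) (B.inv_mem hw)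
    have hc : Commute ⁅x, w⁆ ⁅y, w⁆ := hcen _ hxw _ hyw
    rw [hc.mul_pow, ihx, ihy, one_mul]
  | inv x hx ihx =>
    have h1 := comm_mul_left_of_central hcen (B.inv_mem (hVB hx)) (hVB hx) hw
    rw [inv_mul_cancel] at h1
    have h2 : ⁅(1 : G), w⁆ = 1 := by simp [commutatorElement_def]
    rw [h2] at h1
    have h3 : ⁅x⁻¹, w⁆ = ⁅x, w⁆⁻¹ := eq_inv_of_mul_eq_one_left h1.symm
    rw [h3, inv_pow, ihx, inv_one]

theorem ZFE_inf_normal_step [Finite G] {p : ℕ} [hp : Fact p.Prime] (hp2 : p ≠ 2)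
    (hst : ∀ (P : Subgroup G) [P.Normal], IsPGroup p P → Cfsg.IsPStableOn p P) (S : Sylow p G)
    (B : Subgroup G) [hBn : B.Normal] (hB : IsPGroup p B)
    (IH : ∀ B' : Subgroup G, B'.Normal → B' < B →
      (ZF (FPr (PrE (G := G) p)) (S : Subgroup G) ⊓ B').Normal) :
    (ZF (FPr (PrE (G := G) p)) (S : Subgroup G) ⊓ B).Normal := by
  have hodd : Odd p := hp.out.odd_of_ne_two hp2
  have fam := zjFamily_E (G := G) p hodd
  obtain ⟨F, hF⟩ : ∃ F, F = FPr (PrE (G := G) p) := ⟨_, rfl⟩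
  obtain ⟨P, hP⟩ : ∃ P : Subgroup G, P = ↑S := ⟨_, rfl⟩
  rw [← hP] at IH ⊢
  have hPp : IsPGroup p P := hP ▸ S.2
  have hBP : B ≤ P := (le_pCore hBn hB).trans (hP ▸ pCore_le_sylow p S)
  obtain ⟨J, hJ⟩ : ∃ J, J = sSup (FPr (PrE (G := G) p) P) := ⟨_, rfl⟩
  obtain ⟨Z, hZ⟩ : ∃ Z, Z = ZF (FPr (PrE (G := G) p)) P := ⟨_, rfl⟩
  rw [← hZ] at IH ⊢
  have hZP : Z ≤ P := hZ ▸ fam.ZF_le P
  have hZc : ∀ x ∈ Z, ∀ y ∈ Z, x * y = y * x := hZ ▸ ZJFamily.ZF_comm P
  have hPZ : ∀ g ∈ P, ∀ x ∈ Z, g * x * g⁻¹ ∈ Z := by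
    intro g hg x hx
    rw [hZ] at hx ⊢
    exact fam.conj_mem_ZF (Subgroup.le_normalizer hg) hx
  have hAJ : ∀ A ∈ FPr (PrE (G := G) p) P, A ≤ J := fun A hA => hJ ▸ le_sSup hA
  have hZJ : ∀ z ∈ Z, ∀ y ∈ J, y * z = z * y := by
    intro z hz y hy
    rw [hZ] at hz
    rw [hJ] at hy
    exact Subgroup.mem_centralizer_iff.mp hz.2 y hy
  have hZA : ∀ A ∈ FPr (PrE (G := G) p) P, ∀ z ∈ Z, z ^ p = 1 → z ∈ A := by
    intro A hA z hz hzp
    exact mem_of_commute_FE hA (hZP hz) hzp (fun a ha => hZJ z hz a (hAJ A hA ha))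
  by_cases hcl : Subgroup.normalClosure ((Z ⊓ B : Subgroup G) : Set G) = B
  swap
  · have hle : Subgroup.normalClosure ((Z ⊓ B : Subgroup G) : Set G) ≤ B :=
      Subgroup.normalClosure_le_normal inf_le_right
    have hlt : Subgroup.normalClosure ((Z ⊓ B : Subgroup G) : Set G) < B := lt_of_le_of_ne hle hcl
    have h1 := IH _ Subgroup.normalClosure_normal hlt
    have e : Z ⊓ Subgroup.normalClosure ((Z ⊓ B : Subgroup G) : Set G) = Z ⊓ B :=
      le_antisymm (inf_le_inf_left _ hle) (le_inf inf_le_left Subgroup.subset_normalClosure)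
    rw [← e]; exact h1
  by_cases hbot : B = ⊥
  · subst hbot; rw [inf_bot_eq]; infer_instance
  have hB'lt : ⁅B, B⁆ < B := commutator_lt_of_isPGroup hB hbot
  have hN : (Z ⊓ ⁅B, B⁆).Normal := IH _ (Subgroup.commutator_normal B B) hB'lt
  have h1 : ⁅Z ⊓ B, B⁆ ≤ Z ⊓ ⁅B, B⁆ := by
    apply le_inf _ (Subgroup.commutator_mono inf_le_right le_rfl)
    rw [Subgroup.commutator_le]
    intro z hz b hb
    rw [commutatorElement_def, mul_assoc, mul_assoc]
    apply Z.mul_mem hz.1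
    rw [← mul_assoc]
    exact hPZ b (hBP hb) _ (Z.inv_mem hz.1)
  have h2 : ⁅B, B⁆ ≤ Z ⊓ ⁅B, B⁆ := commutator_le_of_normalClosure hcl h1
  have hB'Z : ⁅B, B⁆ ≤ Z := h2.trans inf_le_left
  -- the derived subgroup is central in `B`
  have hcen : ∀ c ∈ ⁅B, B⁆, ∀ b ∈ B, c * b = b * c := by
    have hB'n : (⁅B, B⁆).Normal := Subgroup.commutator_normal B B
    have hle : Subgroup.normalClosure ((Z ⊓ B : Subgroup G) : Set G) ≤
        Subgroup.centralizer ((⁅B, B⁆ : Subgroup G) : Set G) := by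
      apply Subgroup.normalClosure_le_normal
      intro z hz
      change z ∈ Subgroup.centralizer ((⁅B, B⁆ : Subgroup G) : Set G)
      rw [Subgroup.mem_centralizer_iff]
      intro c hc
      exact hZc c (hB'Z hc) z hz.1
    rw [hcl] at hle
    intro c hc b hb
    exact Subgroup.mem_centralizer_iff.mp (hle hb) c hc
  -- `V = Ω₁(B)`
  obtain ⟨V, hV⟩ : ∃ V, V = Subgroup.closure {x : G | x ∈ B ∧ x ^ p = 1} := ⟨_, rfl⟩
  have hVB : V ≤ B := by
    rw [hV, Subgroup.closure_le]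
    intro x hx
    exact hx.1
  have hVn : V.Normal := by
    rw [hV]
    constructor
    intro x hx g
    induction hx using Subgroup.closure_induction with
    | mem x hx =>
      apply Subgroup.subset_closure
      refine ⟨hBn.conj_mem _ hx.1 g, ?_⟩
      rw [conj_pow, hx.2, mul_one, mul_inv_cancel]
    | one => rw [mul_one, mul_inv_cancel]; exact Subgroup.one_mem _
    | mul x y _ _ ihx ihy =>
      have e : g * (x * y) * g⁻¹ = (g * x * g⁻¹) * (g * y * g⁻¹) := by group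
      rw [e]; exact Subgroup.mul_mem _ ihx ihy
    | inv x _ ihx =>
      have e : g * x⁻¹ * g⁻¹ = (g * x * g⁻¹)⁻¹ := by group
      rw [e]; exact Subgroup.inv_mem _ ihx
  have hVp : IsPGroup p V := hB.to_le hVB
  have hVP : V ≤ P := hVB.trans hBP
  have hVgen : ∀ x ∈ B, x ^ p = 1 → x ∈ V := by
    intro x hx hxp
    rw [hV]; exact Subgroup.subset_closure ⟨hx, hxp⟩
  have h3 : ∀ A ∈ FPr (PrE (G := G) p) P, ⁅V, V⁆ ≤ A := by
    intro A hA
    rw [Subgroup.commutator_le]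
    intro v hv w hw
    apply hZA A hA _ (hB'Z (Subgroup.commutator_mem_commutator (hVB hv) (hVB hw)))
    rw [hV] at hv
    exact comm_pow_eq_one_of_central hcen v hv w (hVB hw)
  obtain ⟨L, hL⟩ : ∃ L, L = (Cfsg.pCore p (G ⧸ Subgroup.centralizer (B : Set G))).comap
      (QuotientGroup.mk' (Subgroup.centralizer (B : Set G))) := ⟨_, rfl⟩
  obtain ⟨R, hR⟩ : ∃ R, R = P ⊓ L := ⟨_, rfl⟩
  have hAL : ∀ A ∈ FPr (PrE (G := G) p) P, V ≤ Subgroup.normalizer (A : Set G) → A ≤ L := by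
    intro A hA hVA
    rw [hL]
    exact (le_comap_pCore_of_quadratic V (hst V hVp) (fam.comm hA) hVA).trans
      (comap_pCore_omega_le hp2 B V hB hVgen)
  have htop : Subgroup.normalizer (R : Set G) ⊔ Subgroup.centralizer (B : Set G) = ⊤ := by
    rw [hR, hP, hL]
    exact normalizer_inf_sup_eq_top S (Subgroup.centralizer (B : Set G))
  have hRP : R ≤ P := hR ▸ inf_le_left
  -- `B` centralizes `J_e(R)` as soon as `R` contains a member of the family
  have hBcent : ∀ A₀ ∈ FPr (PrE (G := G) p) P, A₀ ≤ R →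
      B ≤ Subgroup.centralizer ((sSup (FPr (PrE (G := G) p) R) : Subgroup G) : Set G) := by
    intro A₀ hA₀F hA₀R
    have hFR := fam.mono hRP hA₀F hA₀R
    have hKJ : sSup (FPr (PrE (G := G) p) R) ≤ J :=
      sSup_le (fun A hA => hAJ A ((hFR A).mp hA).1)
    obtain ⟨Y, hY⟩ : ∃ Y, Y = B ⊓
        Subgroup.centralizer ((sSup (FPr (PrE (G := G) p) R) : Subgroup G) : Set G) := ⟨_, rfl⟩
    have hYn : Y.Normal := by
      rw [← Subgroup.normalizer_eq_top_iff, eq_top_iff, ← htop]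
      apply sup_le
      · intro g hg
        apply mem_normalizer_of_conj_mem_of_finite
        intro x hx
        rw [hY] at hx ⊢
        refine ⟨hBn.conj_mem _ hx.1 g, ?_⟩
        change g * x * g⁻¹ ∈ Subgroup.centralizer _
        rw [Subgroup.mem_centralizer_iff]
        intro y hy
        have h1 : g⁻¹ * y * g⁻¹⁻¹ ∈ sSup (FPr (PrE (G := G) p) R) :=
          fam.conj_mem_sSup (Subgroup.inv_mem _ hg) hy
        have h2 := Subgroup.mem_centralizer_iff.mp hx.2 _ h1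
        have e1 : y * (g * x * g⁻¹) = g * ((g⁻¹ * y * g⁻¹⁻¹) * x) * g⁻¹ := by group
        have e2 : g * x * g⁻¹ * y = g * (x * (g⁻¹ * y * g⁻¹⁻¹)) * g⁻¹ := by group
        rw [e1, e2, h2]
      · intro c hc
        apply mem_normalizer_of_conj_mem_of_finite
        intro x hx
        have hxB : x ∈ B := by rw [hY] at hx; exact hx.1
        have := Subgroup.mem_centralizer_iff.mp hc x hxB
        rw [← this, mul_inv_cancel_right]
        exact hx
    have hZY : ((Z ⊓ B : Subgroup G) : Set G) ⊆ Y := by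
      intro z hz
      rw [hY]
      refine ⟨hz.2, ?_⟩
      change z ∈ Subgroup.centralizer _
      rw [Subgroup.mem_centralizer_iff]
      intro y hy
      exact hZJ z hz.1 y (hKJ hy)
    have := Subgroup.normalClosure_le_normal hZY
    rw [hcl, hY] at this
    exact this.trans inf_le_right
  have hall : ∀ A ∈ FPr (PrE (G := G) p) P, A ≤ L := by
    by_contra hne
    push Not at hne
    obtain ⟨A₁, hA₁F, hA₁L⟩ := hne
    obtain ⟨A, hAmem, hmax⟩ := Set.exists_max_image {A | A ∈ FPr (PrE (G := G) p) P ∧ ¬ A ≤ L}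
      (fun A => Nat.card (A ⊓ V : Subgroup G)) (Set.toFinite _) ⟨A₁, hA₁F, hA₁L⟩
    by_cases hVN : V ≤ Subgroup.normalizer (A : Set G)
    · exact hAmem.2 (hAL A hAmem.1 hVN)
    · obtain ⟨A', hA'F, hlt, hnV⟩ :=
        fam.exists_replacement hp2 hPp hVP hAmem.1 (h3 A hAmem.1) hVN
      by_cases hA'L : A' ≤ L
      · have hA'R : A' ≤ R := hR ▸ le_inf hA'F.1 hA'L
        have hBc := hBcent A' hA'F hA'R
        have hFR := fam.mono hRP hA'F hA'R
        apply hnV
        rw [hV, Subgroup.closure_le]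
        intro x hx
        apply mem_of_commute_FE hA'F (hBP hx.1) hx.2
        intro a ha
        have haK : a ∈ sSup (FPr (PrE (G := G) p) R) :=
          (le_sSup ((hFR A').mpr ⟨hA'F, hA'R⟩) : A' ≤ _) ha
        exact Subgroup.mem_centralizer_iff.mp (hBc hx.1) a haK
      · have h5 := hmax A' ⟨hA'F, hA'L⟩
        have h6 := card_lt_card_of_lt hlt
        omega
  -- now `J ≤ R`
  obtain ⟨A₀, hA₀F⟩ := FPr_nonempty (PrE_bot (G := G) p) P
  have hA₀R : A₀ ≤ R := hR ▸ le_inf hA₀F.1 (hall A₀ hA₀F)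
  have hFR := fam.mono hRP hA₀F hA₀R
  have hKJ : sSup (FPr (PrE (G := G) p) R) = J := by
    rw [hJ]
    apply le_antisymm
    · exact sSup_le (fun A hA => le_sSup ((hFR A).mp hA).1)
    · apply sSup_le
      intro A hA
      exact le_sSup ((hFR A).mpr ⟨hA, hR ▸ le_inf hA.1 (hall A hA)⟩)
  have hZR : Z = ZF (FPr (PrE (G := G) p)) R := by
    rw [hZ]; unfold ZF; rw [hKJ, hJ]
  rw [← Subgroup.normalizer_eq_top_iff, eq_top_iff, ← htop]
  apply sup_le
  · intro g hg
    apply mem_normalizer_of_conj_mem_of_finite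
    intro x hx
    refine ⟨?_, hBn.conj_mem _ hx.2 g⟩
    have hx1 := hx.1
    rw [hZR] at hx1 ⊢
    exact fam.conj_mem_ZF hg hx1
  · intro c hc
    apply mem_normalizer_of_conj_mem_of_finite
    intro x hx
    have := Subgroup.mem_centralizer_iff.mp hc x hx.2
    rw [← this, mul_inv_cancel_right]
    exact hx

end Cfsg.Agent.Lib.Helper1.ZJ
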