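import Mathlib
import Cfsg.Prelude.Def_PLocal
import Cfsg.Prelude.Def_Transfer
import Cfsg.Agent.Lib.Helper1.ZJF2
set_option autoImplicit false
open scoped Pointwise commutatorElement
universe u
namespace Cfsg.Agent.Lib.Helper1.ZJ

open Cfsg.Agent.Lib.Helper1.GlaubermanRepl

variable {G : Type u} [Group G]

theorem ZFE_inf_normal [Finite G] {p : ℕ} [hp : Fact p.Prime] (hp2 : p ≠ 2)
    (hst : ∀ (P : Subgroup G) [P.Normal], IsPGroup p P → Cfsg.IsPStableOn p P) (S : Sylow p G)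
    (B : Subgroup G) [hBn : B.Normal] (hB : IsPGroup p B) :
    (ZF (FPr (PrE (G := G) p)) (S : Subgroup G) ⊓ B).Normal := by
  induction' h : Nat.card B using Nat.strong_induction_on with n ih generalizing B
  apply ZFE_inf_normal_step hp2 hst S B hB
  intro B' hB'n hlt
  exact ih (Nat.card B') (h ▸ card_lt_card_of_lt hlt) B' (hB.to_le hlt.le) rfl

theorem ZFE_le_pCore [Finite G] {p : ℕ} [hp : Fact p.Prime] (hp2 : p ≠ 2)
    (hc : Subgroup.centralizer (Cfsg.pCore p G : Set G) ≤ Cfsg.pCore p G)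
    (hst : ∀ (P : Subgroup G) [P.Normal], IsPGroup p P → Cfsg.IsPStableOn p P) (S : Sylow p G) :
    ZF (FPr (PrE (G := G) p)) (S : Subgroup G) ≤ Cfsg.pCore p G := by
  have fam := zjFamily_E (G := G) p (hp.out.odd_of_ne_two hp2)
  obtain ⟨Q, hQ⟩ : ∃ Q, Q = Cfsg.pCore p G := ⟨_, rfl⟩
  rw [← hQ] at hc ⊢
  have hQn : Q.Normal := hQ ▸ pCore_normal p
  have hQp : IsPGroup p Q := hQ ▸ pCore_isPGroup p
  have hQS : Q ≤ S := hQ ▸ pCore_le_sylow p S
  obtain ⟨Z, hZ⟩ : ∃ Z, Z = ZF (FPr (PrE (G := G) p)) (S : Subgroup G) := ⟨_, rfl⟩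
  rw [← hZ]
  have hZc : ∀ x ∈ Z, ∀ y ∈ Z, x * y = y * x := hZ ▸ ZJFamily.ZF_comm _
  have hPZ : ∀ g ∈ (S : Subgroup G), ∀ x ∈ Z, g * x * g⁻¹ ∈ Z := by
    intro g hg x hx
    rw [hZ] at hx ⊢
    exact fam.conj_mem_ZF (Subgroup.le_normalizer hg) hx
  obtain ⟨D, hD⟩ : ∃ D, D = (Cfsg.pCore p (G ⧸ Subgroup.centralizer (Q : Set G))).comap
      (QuotientGroup.mk' (Subgroup.centralizer (Q : Set G))) := ⟨_, rfl⟩
  have hDn : D.Normal := hD ▸ Subgroup.Normal.comap (pCore_normal p) _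
  have hDp : IsPGroup p D := by
    rw [hD]
    apply IsPGroup.comap_of_ker_isPGroup (pCore_isPGroup p)
    rw [QuotientGroup.ker_mk']
    exact hQp.to_le hc
  have hDQ : D ≤ Q := hQ ▸ le_pCore hDn hDp
  intro z hz
  apply hDQ
  rw [hD, Subgroup.mem_comap]
  apply hst Q hQp z
  rw [eq_bot_iff, Subgroup.commutator_le]
  intro x hx y hy
  have hzZ : Subgroup.zpowers z ≤ Z := by
    rw [Subgroup.zpowers_le]; exact hz
  have h1 : ⁅Q, Subgroup.zpowers z⁆ ≤ Z := by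
    rw [Subgroup.commutator_le]
    intro q hq t ht
    rw [commutatorElement_def]
    exact Z.mul_mem (hPZ q (hQS hq) t (hzZ ht)) (Z.inv_mem (hzZ ht))
  rw [Subgroup.mem_bot, commutatorElement_eq_one_iff_commute]
  exact hZc x (h1 hx) y (hzZ hy)

theorem ZFE_normal [Finite G] {p : ℕ} [hp : Fact p.Prime] (hp2 : p ≠ 2)
    (hc : Subgroup.centralizer (Cfsg.pCore p G : Set G) ≤ Cfsg.pCore p G)
    (hst : ∀ (P : Subgroup G) [P.Normal], IsPGroup p P → Cfsg.IsPStableOn p P) (S : Sylow p G) :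
    (ZF (FPr (PrE (G := G) p)) (S : Subgroup G)).Normal := by
  have := pCore_normal (G := G) p
  have := ZFE_inf_normal hp2 hst S (Cfsg.pCore p G) (pCore_isPGroup p)
  rwa [inf_eq_left.mpr (ZFE_le_pCore hp2 hc hst S)] at this

theorem centerThompsonOf_eq_ZF (p : ℕ) (X : Subgroup G) :
    Cfsg.centerThompsonOf p X = ZF (FPr (PrE (G := G) p)) X := by
  unfold Cfsg.centerThompsonOf Cfsg.thompsonSubgroupOf ZF
  rw [thompsonSubgroupOf_eq]

/-- Glauberman's ZJ-theorem for `Z(J_e(S))` (elementary abelian version of the Thompson subgroup),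
not only for `Ω₁` of it. -/
theorem zj_theorem_E_full [Finite G] {p : ℕ} [hp : Fact p.Prime] (hp2 : p ≠ 2)
    (hc : Subgroup.centralizer (Cfsg.pCore p G : Set G) ≤ Cfsg.pCore p G)
    (hst : ∀ (P : Subgroup G) [P.Normal], IsPGroup p P → Cfsg.IsPStableOn p P) (S : Sylow p G) :
    (Cfsg.centerThompsonOf p (S : Subgroup G)).Normal := by
  rw [centerThompsonOf_eq_ZF]
  exact ZFE_normal hp2 hc hst S

end Cfsg.Agent.Lib.Helper1.ZJ
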