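import Mathlib
import Cfsg.Prelude.Def_PLocal
import Cfsg.Prelude.Def_ConjugacyFunctors
import Cfsg.Agent.Lib.Helper1.NPC1
import Cfsg.Agent.Lib.Helper1.NPC3
import Cfsg.Agent.Lib.Helper1.ZJF3
import Cfsg.Agent.Lib.Helper1.StableNormalClosure
import Cfsg.Agent.Lib.Helper1.PNilpotentLocal
import Cfsg.Agent.S2005

/-! Glauberman–Thompson normal p-complement theorem for `Z(J_e(P))`, elementary abelian version. -/
set_option autoImplicit false
universe u v
open Cfsg
open scoped commutatorElement

namespace Cfsg.Agent.Lib.Helper1.NPC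
open Cfsg.Agent.Lib.Helper1.ZJ

/-- The centre of the (elementary abelian version) Thompson subgroup as a functor. -/
def ZJE (p : ℕ) (Q : Type u) [Group Q] : Subgroup Q :=
  thompsonSubgroup p Q ⊓ Subgroup.centralizer (thompsonSubgroup p Q : Set Q)

theorem map_subtype_ZJE {G : Type u} [Group G] (p : ℕ) (X : Subgroup G) :
    (ZJE p ↥X).map X.subtype = centerThompsonOf p X := by
  unfold ZJE centerThompsonOf thompsonSubgroupOf
  exact map_subtype_inf_centralizer X _

theorem ZJE_map_equiv (p : ℕ) {Q : Type u} {R : Type v} [Group Q] [Group R] (φ : Q ≃* R) :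
    (ZJE p Q).map φ.toMonoidHom = ZJE p R := by
  unfold ZJE
  rw [map_inf_centralizer_of_injective φ.toMonoidHom φ.injective, thompsonSubgroup_map_equiv]

theorem centerThompsonOf_ne_bot {G : Type u} [Group G] [Finite G] {p : ℕ} [hp : Fact p.Prime]
    {R : Subgroup G} (hR : IsPGroup p R) (hne : R ≠ ⊥) : Cfsg.centerThompsonOf p R ≠ ⊥ := by
  have : Nontrivial R := (Subgroup.nontrivial_iff_ne_bot R).mpr hne
  have hcn := hR.center_nontrivial
  have hcp : IsPGroup p (Subgroup.center R) := hR.to_subgroup _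
  have hdvd : p ∣ Nat.card (Subgroup.center R) := by
    rcases hcp.card_eq_or_dvd with h | h
    · exact absurd (Finite.one_lt_card_iff_nontrivial.mpr hcn) (by omega)
    · exact h
  obtain ⟨z, hz⟩ := exists_prime_orderOf_dvd_card' p hdvd
  have hz1 : (z : R) ≠ 1 := by
    intro h
    have : z = 1 := Subtype.ext h
    rw [this, orderOf_one] at hz
    exact hp.out.one_lt.ne hz
  have hzp : ((z : R) : G) ^ p = 1 := by
    have h1 : z ^ p = 1 := by rw [← hz]; exact pow_orderOf_eq_one z
    have h2 := congrArg (fun t : Subgroup.center R => ((t : R) : G)) h1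
    simpa using h2
  have hzc : ∀ x ∈ R, x * ((z : R) : G) = ((z : R) : G) * x := by
    intro x hx
    have := Subgroup.mem_center_iff.mp z.2 ⟨x, hx⟩
    have h2 := congrArg Subtype.val this
    simpa using h2
  have hmem : ((z : R) : G) ∈ Cfsg.centerThompsonOf p R := by
    rw [centerThompsonOf_eq_ZF]
    apply sInf_le_center_sSup (fun A (h : PrE p A) => h.1) (PrE_bot p) R
    rw [Subgroup.mem_sInf]
    intro A hA
    exact mem_of_commute_FE hA (z : R).2 hzp (fun a ha => hzc a (hA.1 ha))
  intro hbot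
  rw [hbot, Subgroup.mem_bot] at hmem
  apply hz1
  apply Subtype.ext
  simpa using hmem

theorem ZJE_ne_bot {Q : Type u} [Group Q] [Finite Q] {p : ℕ} [Fact p.Prime] (hQ : IsPGroup p Q)
    [hnt : Nontrivial Q] : ZJE p Q ≠ ⊥ := by
  have htop : (⊤ : Subgroup Q) ≠ ⊥ := by
    intro h
    obtain ⟨x, hx⟩ := exists_ne (1 : Q)
    have : x ∈ (⊥ : Subgroup Q) := h ▸ Subgroup.mem_top x
    exact hx (Subgroup.mem_bot.mp this)
  have hp : IsPGroup p (⊤ : Subgroup Q) := hQ.to_subgroup _
  have h1 := centerThompsonOf_ne_bot hp htop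
  rw [← map_subtype_ZJE] at h1
  intro hbot
  apply h1
  have h2 := ZJE_map_equiv p (Subgroup.topEquiv (G := Q)).symm
  rw [hbot, Subgroup.map_bot] at h2
  rw [← h2, Subgroup.map_bot]

theorem isCharPFunctor_ZJE (p : ℕ) [Fact p.Prime] :
    IsCharPFunctor.{u} p (fun (Q : Type u) [Group Q] => ZJE p Q) := by
  refine ⟨?_, ?_⟩
  · intro Q _ _ hQ hnt
    exact ZJE_ne_bot hQ
  · intro Q R _ _ _ _ φ
    exact ZJE_map_equiv p φ

theorem hasNormalPComplement_of_normalizer_ZJE {G : Type u} [Group G] [Finite G] {p : ℕ}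
    [Fact p.Prime] (hp : p ≠ 2) (P : Sylow p G)
    (hN : HasNormalPComplement p
      ↥(Subgroup.normalizer (centerThompsonOf p ((P : Subgroup G)) : Set G))) :
    HasNormalPComplement p G := by
  apply Cfsg.Agent.S2005.result (fun (Q : Type u) [Group Q] => ZJE p Q)
    (isCharPFunctor_ZJE p) P
  · unfold inducedFunctor
    rw [map_subtype_ZJE]
    exact hN
  intro K R hR hcen hnil T hco
  unfold inducedFunctor
  rw [map_subtype_ZJE]
  have hab := comm_sylow_two_of_max_sylow hp hnil T hco
  exact zj_theorem_E_full hp hcen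
    (fun P hPn hP => @isPStableOn_of_comm_sylow_of_isPGroup _ _ _ p _ hp P hPn hP hab) T

/-- S0117 -/
theorem glauberman_thompson_E {G : Type u} [Group G] [Finite G] {p : ℕ}
    [Fact p.Prime] (hp : p ≠ 2) (P : Sylow p G) :
    HasNormalPComplement p G ↔ HasNormalPComplement p
      ↥(Subgroup.normalizer (centerThompsonOf p ((P : Subgroup G)) : Set G)) :=
  ⟨fun h => hasNormalPComplement_subgroup h _, hasNormalPComplement_of_normalizer_ZJE hp P⟩

end Cfsg.Agent.Lib.Helper1.NPC
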