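import Mathlib
import Cfsg.Prelude.Def_PLocal
import Cfsg.Prelude.Def_Transfer
import Cfsg.Agent.Lib.Helper1.NPC6
import Cfsg.Agent.Lib.Helper1.OddStable1
import Cfsg.Agent.Lib.Helper1.PConstrainedOfPSolvable
import Cfsg.Agent.Lib.Helper1.PLengthOne
import Cfsg.Agent.Lib.Helper3.PSolvable
set_option autoImplicit false
open scoped Pointwise commutatorElement
universe u v
namespace Cfsg.Agent.Lib.Helper1.ZJ

open Cfsg Cfsg.Agent.Lib.Helper1.NPC

theorem map_ZJE_of_injective {Q : Type u} [Group Q] {G' : Type v} [Group G'] (p : ℕ)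
    (g : Q →* G') (hg : Function.Injective g) :
    (ZJE p Q).map g = Cfsg.centerThompsonOf p g.range := by
  have h1 := ZJE_map_equiv p (MonoidHom.ofInjective hg)
  have h2 := map_subtype_ZJE p g.range
  rw [← h2, ← h1, Subgroup.map_map]
  congr 1

theorem centerThompsonOf_map_of_injOn {G : Type u} [Group G] {G' : Type v} [Group G'] (p : ℕ)
    (f : G →* G') (X : Subgroup G) (hinj : Set.InjOn f X) :
    Cfsg.centerThompsonOf p (X.map f) = (Cfsg.centerThompsonOf p X).map f := by
  have hg : Function.Injective (f.comp X.subtype) := by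
    intro a b hab
    apply Subtype.ext
    exact hinj a.2 b.2 hab
  have h1 := map_ZJE_of_injective p (f.comp X.subtype) hg
  have h2 : (f.comp X.subtype).range = X.map f := by
    rw [MonoidHom.range_comp, Subgroup.range_subtype]
  rw [h2] at h1
  rw [← h1, ← map_subtype_ZJE, Subgroup.map_map]

/-- S1458 -/
theorem centerThompsonOf_sup_pPrimeCore_normal {G : Type u} [Group G] [Finite G]
    [hsolv : Group.IsSolvable G] (hodd : Odd (Nat.card G)) (p : ℕ) [hp : Fact p.Prime]
    (S : Sylow p G) :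
    (Cfsg.centerThompsonOf p (S : Subgroup G) ⊔ Cfsg.pPrimeCore p G).Normal := by
  by_cases hp2 : p = 2
  · subst hp2
    have h1 : Cfsg.pPrimeCore 2 G = ⊤ := by
      rw [eq_top_iff]
      apply le_sSup
      refine ⟨inferInstance, ?_⟩
      rw [Subgroup.card_top]
      exact hodd.coprime_two_right
    rw [h1, sup_top_eq]
    infer_instance
  · obtain ⟨N, hN⟩ : ∃ N, N = Cfsg.pPrimeCore p G := ⟨_, rfl⟩
    have hNn : N.Normal := hN ▸ pPrimeCore_normal p
    rw [← hN]
    have hNc : (Nat.card N).Coprime p := hN ▸ pPrimeCore_card_coprime p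
    have hinj : Set.InjOn (QuotientGroup.mk' N) (S : Subgroup G) := by
      intro a ha b hb hab
      have h1 : a⁻¹ * b ∈ N := QuotientGroup.eq.mp hab
      have h2 : a⁻¹ * b ∈ (S : Subgroup G) := Subgroup.mul_mem _ (Subgroup.inv_mem _ ha) hb
      have h3 : (S : Subgroup G) ⊓ N = ⊥ := by
        apply (Subgroup.disjoint_of_coprime_natCard _).eq_bot
        obtain ⟨k, hk⟩ := (S.2).exists_card_eq
        rw [hk]
        exact (Nat.Coprime.pow_left k hNc.symm)
      have h4 : a⁻¹ * b ∈ (S : Subgroup G) ⊓ N := ⟨h2, h1⟩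
      rw [h3, Subgroup.mem_bot] at h4
      exact (inv_mul_eq_one.mp h4)
    obtain ⟨Sb, hSb⟩ : ∃ Sb : Sylow p (G ⧸ N), (Sb : Subgroup (G ⧸ N)) =
        (S : Subgroup G).map (QuotientGroup.mk' N) :=
      ⟨S.mapSurjective (QuotientGroup.mk'_surjective _), Sylow.coe_mapSurjective _ _⟩
    have hbot : Cfsg.pPrimeCore p (G ⧸ N) = ⊥ := by
      subst hN
      exact pPrimeCore_quotient_eq_bot p
    have hsolq : Cfsg.IsPSolvable p (G ⧸ N) :=
      Cfsg.Agent.Lib.Helper3.isPSolvable_of_isSolvable p inferInstance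
    have hoddq : Odd (Nat.card (G ⧸ N)) := OddStable.odd_card_quotient hodd N
    have hc : Subgroup.centralizer (Cfsg.pCore p (G ⧸ N) : Set (G ⧸ N)) ≤ Cfsg.pCore p (G ⧸ N) := by
      apply centralizer_pCore_le_of_isPSolvable hbot
      exact Cfsg.Agent.Lib.Helper3.isPSolvable_of_isSolvable p inferInstance
    have hnorm := zj_theorem_E_full hp2 hc
      (fun P hPn hP => @OddStable.isPStableOn_of_odd_of_isPGroup _ _ _ p _ hp2 P hPn hP hsolq hoddq) Sb
    rw [hSb, centerThompsonOf_map_of_injOn p _ _ hinj] at hnorm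
    have h5 := Subgroup.Normal.comap hnorm (QuotientGroup.mk' N)
    rw [Subgroup.comap_map_eq, QuotientGroup.ker_mk'] at h5
    exact h5

end Cfsg.Agent.Lib.Helper1.ZJ
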