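import Mathlib
import Cfsg.Agent.Lib.Helper1.BG8d
import Cfsg.Agent.Lib.Helper1.BG7g
import Cfsg.Agent.Lib.Helper1.ZJF4
import Cfsg.Agent.Lib.Helper1.NPC6
import Cfsg.Agent.Lib.Helper1.MaxInter
import Cfsg.Agent.Lib.Helper1.PConstrainedQuotient
import Cfsg.Agent.S1457

set_option autoImplicit false
universe u
open scoped commutatorElement Pointwise

namespace Cfsg.Agent.Lib.Helper1.BG8

open Cfsg Subgroup Cfsg.Agent.Lib.Helper1 Cfsg.Agent.Lib.Helper1.BG7 Cfsg.Agent.Lib.Helper1.ZJ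
  Cfsg.Agent.Lib.Helper1.NPC

variable {G : Type u} [Group G]

/-- `S` is a maximal `p`-subgroup (a Sylow `p`-subgroup) of `X`. -/
def IsMaxP (p : ℕ) (S X : Subgroup G) : Prop :=
  S ≤ X ∧ IsPGroup p S ∧ ∀ T : Subgroup G, IsPGroup p T → S ≤ T → T ≤ X → T = S

theorem isMaxP_of_sylow {p : ℕ} {X : Subgroup G} (R : Sylow p ↥X) :
    IsMaxP p ((R : Subgroup X).map X.subtype) X := by
  refine ⟨Subgroup.map_subtype_le _, R.isPGroup'.map _, fun T hT hST hTX => ?_⟩
  have h1 : (R : Subgroup X) ≤ T.subgroupOf X := by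
    intro x hx
    rw [Subgroup.mem_subgroupOf]
    exact hST (Subgroup.mem_map_of_mem _ hx)
  have h2 : T.subgroupOf X = (R : Subgroup X) := R.is_maximal' hT.comap_subtype h1
  rw [← h2, Subgroup.map_subgroupOf_eq_of_le hTX]

theorem IsMaxP.exists_sylow {p : ℕ} {S X : Subgroup G} (h : IsMaxP p S X) :
    ∃ R : Sylow p ↥X, (R : Subgroup X).map X.subtype = S := by
  refine ⟨⟨S.subgroupOf X, h.2.1.comap_subtype, fun {Q} hQ hle => ?_⟩, ?_⟩
  · have h1 : S ≤ Q.map X.subtype := by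
      intro x hx
      exact ⟨⟨x, h.1 hx⟩, hle (Subgroup.mem_subgroupOf.mpr hx), rfl⟩
    have h2 := h.2.2 _ (hQ.map _) h1 (Subgroup.map_subtype_le _)
    rw [← h2, Subgroup.subgroupOf, Subgroup.comap_map_eq_self_of_injective X.subtype_injective]
  · exact Subgroup.map_subgroupOf_eq_of_le h.1

theorem IsMaxP.exists_sylow_top {p : ℕ} {S : Subgroup G} (h : IsMaxP p S ⊤) :
    ∃ R : Sylow p G, (R : Subgroup G) = S :=
  ⟨⟨S, h.2.1, fun {Q} hQ hle => h.2.2 Q hQ hle le_top⟩, rfl⟩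

theorem IsMaxP.mono {p : ℕ} {S X Y : Subgroup G} (h : IsMaxP p S X) (hSY : S ≤ Y) (hYX : Y ≤ X) :
    IsMaxP p S Y :=
  ⟨hSY, h.2.1, fun T hT hST hTY => h.2.2 T hT hST (hTY.trans hYX)⟩

theorem exists_lt_normalizer_of_lt [Finite G] {p : ℕ} [hp : Fact p.Prime] {S T : Subgroup G}
    (hT : IsPGroup p T) (hlt : S < T) :
    ∃ T₁ : Subgroup G, IsPGroup p T₁ ∧ S < T₁ ∧ T₁ ≤ T ∧
      T₁ ≤ Subgroup.normalizer (S : Set G) := by
  have hnil : Group.IsNilpotent T := hT.isNilpotent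
  obtain ⟨x, hxT, hxN, hxS⟩ := exists_mem_normalizer_not_mem_of_lt hnil hlt
  refine ⟨T ⊓ Subgroup.normalizer (S : Set G), hT.to_le inf_le_left, ?_, inf_le_left, inf_le_right⟩
  refine SetLike.lt_iff_le_and_exists.mpr ⟨le_inf hlt.le Subgroup.le_normalizer, x, ?_, hxS⟩
  exact Subgroup.mem_inf.mpr ⟨hxT, hxN⟩

theorem IsMaxP.top_of_normalizer_le [Finite G] {p : ℕ} [hp : Fact p.Prime] {S M : Subgroup G}
    (h : IsMaxP p S M) (hN : Subgroup.normalizer (S : Set G) ≤ M) : IsMaxP p S ⊤ := by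
  refine ⟨le_top, h.2.1, fun T hT hST _ => ?_⟩
  by_contra hne
  have hlt : S < T := lt_of_le_of_ne hST (Ne.symm hne)
  obtain ⟨T₁, hT₁p, hST₁, -, hT₁N⟩ := exists_lt_normalizer_of_lt hT hlt
  exact (ne_of_lt hST₁) (h.2.2 T₁ hT₁p hST₁.le (hT₁N.trans hN)).symm

theorem IsMaxP.not_dvd_index [Finite G] {p : ℕ} [hp : Fact p.Prime] {S : Subgroup G}
    (h : IsMaxP p S ⊤) : ¬ p ∣ S.index := by
  obtain ⟨R, hR⟩ := h.exists_sylow_top
  rw [← hR]
  exact R.not_dvd_index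

/-! ### `Z(J(S))` -/

theorem cj_centerThompsonOf (p : ℕ) (g : G) (X : Subgroup G) :
    cj g (centerThompsonOf p X) = centerThompsonOf p (cj g X) :=
  (centerThompsonOf_map_of_injOn p (MulAut.conj g).toMonoidHom X
    ((MulAut.conj g).injective.injOn)).symm

theorem normalizer_le_normalizer_centerThompsonOf (p : ℕ) (X : Subgroup G) :
    Subgroup.normalizer (X : Set G) ≤ Subgroup.normalizer (centerThompsonOf p X : Set G) := by
  intro g hg
  apply mem_normalizer_of_cj_eq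
  rw [cj_centerThompsonOf, cj_eq_of_mem_normalizer hg]

theorem centerThompsonOf_le (p : ℕ) (X : Subgroup G) : centerThompsonOf p X ≤ X := by
  unfold centerThompsonOf thompsonSubgroupOf
  exact inf_le_left.trans (Subgroup.map_subtype_le _)

variable [Finite G]

theorem pPrimeCore_eq_bot_of_piCoreOf (p : ℕ) [hp : Fact p.Prime] (H : Subgroup G)
    (h : piCoreOf (ne p) H = ⊥) : pPrimeCore p ↥H = ⊥ := by
  unfold piCoreOf at h
  rw [piCore_ne] at h
  exact (Subgroup.map_eq_bot_iff_of_injective _ H.subtype_injective).mp h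

omit [Finite G] in
theorem odd_card_subgroup (hG : IsMinSimpleOddOrder G) (H : Subgroup G) : Odd (Nat.card H) :=
  Odd.of_dvd_nat hG.1 (Subgroup.card_subgroup_dvd_card H)

/-- In a maximal subgroup `H` with `O_{p'}(H) = 1`, `H` is the normalizer of `Z(J(S))` for every
Sylow `p`-subgroup `S` of `H`. -/
theorem normalizer_centerThompsonOf_eq (hG : IsMinSimpleOddOrder G) {p : ℕ} [hp : Fact p.Prime]
    {H S : Subgroup G} (hH : IsCoatom H) (hO : piCoreOf (ne p) H = ⊥) (hS : IsMaxP p S H)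
    (hSbot : S ≠ ⊥) : Subgroup.normalizer (centerThompsonOf p S : Set G) = H := by
  have hHs : Group.IsSolvable H := isSolvable_of_ne_top hG hH.1
  obtain ⟨R, hR⟩ := hS.exists_sylow
  have hpp := pPrimeCore_eq_bot_of_piCoreOf p H hO
  have hn := centerThompsonOf_sup_pPrimeCore_normal (G := ↥H) (odd_card_subgroup hG H) p R
  rw [hpp, sup_bot_eq] at hn
  have hZ : centerThompsonOf p S = (centerThompsonOf p (R : Subgroup H)).map H.subtype := by
    rw [← hR]
    exact centerThompsonOf_map_of_injOn p H.subtype (R : Subgroup H) H.subtype_injective.injOn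
  have hHN : H ≤ Subgroup.normalizer (centerThompsonOf p S : Set G) := by
    apply le_normalizer_of_conj_mem
    intro g hg x hx
    rw [hZ] at hx ⊢
    obtain ⟨y, hy, rfl⟩ := hx
    exact ⟨⟨g, hg⟩ * y * ⟨g, hg⟩⁻¹, hn.conj_mem y hy ⟨g, hg⟩, rfl⟩
  exact normalizer_eq_of_coatom hG hH ((centerThompsonOf_le p S).trans hS.1)
    (centerThompsonOf_ne_bot hS.2.1 hSbot) hHN

theorem Opprime_eq_bot_of_fitting_pgroup {p : ℕ} [hp : Fact p.Prime] (M : Subgroup G)
    [hMs : Group.IsSolvable M] (hF : IsPGroup p (fittingOf M)) : piCoreOf (ne p) M = ⊥ := by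
  have hcop : (Nat.card (piCoreOf (ne p) M)).Coprime (Nat.card (fittingOf M)) := by
    obtain ⟨k, hk⟩ := IsPGroup.iff_card.mp hF
    rw [hk]
    exact Nat.Coprime.pow_right _ (piCoreOf_ne_coprime p M)
  have hd : piCoreOf (ne p) M ⊓ fittingOf M = ⊥ :=
    (Subgroup.disjoint_of_coprime_natCard hcop).eq_bot
  have hC : piCoreOf (ne p) M ≤ Subgroup.centralizer (fittingOf M : Set G) :=
    commute_of_normalize ((piCoreOf_le _ M).trans (le_normalizer_fittingOf M))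
      ((fittingOf_le M).trans (le_normalizer_piCoreOf _ M)) hd
  exact eq_bot_of_le_of_coprime
    ((le_inf (piCoreOf_le _ M) hC).trans (centralizer_fittingOf_le M)) hcop

/-- pushing up -/
theorem pushing_up {p : ℕ} [hp : Fact p.Prime] {M H B : Subgroup G}
    (hmax : ∀ L : Subgroup G, IsCoatom L → B ≤ L → L ≠ M →
      (Nat.card ↥(L ⊓ M)).factorization p ≤ (Nat.card ↥(H ⊓ M)).factorization p)
    (R : Sylow p ↥(H ⊓ M)) {Y T₁ : Subgroup G} (hY : Y ≠ ⊤) (hBY : B ≤ Y) (hT₁ : IsPGroup p T₁)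
    (hT₁Y : T₁ ≤ Y) (hT₁M : T₁ ≤ M)
    (hlt : (R : Subgroup ↥(H ⊓ M)).map (H ⊓ M).subtype < T₁) : Y ≤ M := by
  obtain ⟨L, hL, hYL⟩ := (eq_top_or_exists_le_coatom Y).resolve_left hY
  by_contra hYM
  have hLM : L ≠ M := fun h => hYM (h ▸ hYL)
  have h1 := hmax L hL (hBY.trans hYL) hLM
  have h2 : Nat.card ((R : Subgroup ↥(H ⊓ M)).map (H ⊓ M).subtype) =
      p ^ (Nat.card ↥(H ⊓ M)).factorization p := by
    rw [Subgroup.card_map_of_injective (H ⊓ M).subtype_injective]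
    exact R.card_eq_multiplicity
  obtain ⟨t, ht⟩ := IsPGroup.iff_card.mp hT₁
  have h3 := card_lt_of_lt' hlt
  rw [h2, ht] at h3
  have h4 : (Nat.card ↥(H ⊓ M)).factorization p < t :=
    (Nat.pow_lt_pow_iff_right hp.out.one_lt).mp h3
  have h5 : p ^ t ∣ Nat.card ↥(L ⊓ M) := by
    rw [← ht]
    exact Subgroup.card_dvd_of_le (le_inf (hT₁Y.trans hYL) hT₁M)
  have h6 : t ≤ (Nat.card ↥(L ⊓ M)).factorization p :=
    (hp.out.pow_dvd_iff_le_factorization Nat.card_pos.ne').mp h5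
  omega

omit [Finite G] in
theorem bot_mem_invSubgroups (A : Subgroup G) (π : Set ℕ) :
    (⊥ : Subgroup G) ∈ invSubgroups ⊤ A π := by
  refine ⟨le_top, piGrp_bot _, ?_⟩
  intro x _
  rw [Subgroup.mem_normalizer_iff]
  intro z
  rw [Subgroup.mem_bot, Subgroup.mem_bot]
  constructor
  · intro h; rw [h]; group
  · intro h
    have e : z = x⁻¹ * (x * z * x⁻¹) * x := by group
    rw [e, h]; group

/-- if all `A`-invariant `q`-subgroups (`q ≠ p`) are trivial, so are all `A`-invariant `p'`-subgroups -/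
theorem eq_bot_of_forall_q (hG : IsMinSimpleOddOrder G) {p : ℕ} [hp : Fact p.Prime]
    {A Y : Subgroup G} (hAp : IsPGroup p A)
    (hq : ∀ q : ℕ, q.Prime → q ≠ p → ∀ Q ∈ invSubgroups ⊤ A {q}, Q = ⊥)
    (hYtop : Y ≠ ⊤) (hYp : (Nat.card Y).Coprime p)
    (hAY : A ≤ Subgroup.normalizer (Y : Set G)) : Y = ⊥ := by
  by_contra hYbot
  have hcard : Nat.card Y ≠ 1 := fun h => hYbot (Subgroup.card_eq_one.mp h)
  obtain ⟨q, hqp, hqY⟩ := Nat.exists_prime_and_dvd hcard
  have : Fact q.Prime := ⟨hqp⟩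
  have hqne : q ≠ p := by
    rintro rfl
    have h4 : q ∣ Nat.gcd (Nat.card Y) q := Nat.dvd_gcd hqY dvd_rfl
    rw [hYp] at h4
    exact hqp.one_lt.ne' (Nat.dvd_one.mp h4)
  have hYs : Group.IsSolvable Y := isSolvable_of_ne_top hG hYtop
  have hcop : (Nat.card A).Coprime (Nat.card Y) := by
    obtain ⟨k, hk⟩ := IsPGroup.iff_card.mp hAp
    rw [hk]
    exact Nat.Coprime.pow_left _ hYp.symm
  obtain ⟨S, hS⟩ := coprime_exists_invariant_sylow A Y hAY hcop (Or.inr hYs) q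
  have hSq : IsPGroup q ((S : Subgroup Y).map Y.subtype) := S.isPGroup'.map _
  have h0 := hq q hqp hqne _ (mem_invSubgroups_top_of_isPGroup hqp hSq hS)
  have h1 : (S : Subgroup Y) = ⊥ :=
    (Subgroup.map_eq_bot_iff_of_injective _ Y.subtype_injective).mp h0
  exact S.ne_bot_of_dvd_card hqY h1

/-- an `F(M)`-invariant `q`-subgroup normalized by `M`, `q ∤ |F(M)|`, is trivial -/
theorem eq_bot_of_normal_inv (hG : IsMinSimpleOddOrder G) {M Q : Subgroup G} (hM : IsCoatom M)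
    {q : ℕ} (hq : q.Prime) (hqF : ¬ q ∣ Nat.card (fittingOf M))
    (hQ : Q ∈ invSubgroups ⊤ (fittingOf M) {q})
    (hMQ : M ≤ Subgroup.normalizer (Q : Set G)) : Q = ⊥ := by
  have : Fact q.Prime := ⟨hq⟩
  have hMs : Group.IsSolvable M := isSolvable_of_ne_top hG hM.1
  by_contra hQbot
  have hQq : IsPGroup q Q := isPGroup_of_mem_invSubgroups hq hQ
  have hQtop : Q ≠ ⊤ := pgroup_ne_top hG hQq
  have hN : Subgroup.normalizer (Q : Set G) = M :=
    eq_of_coatom_le hM hMQ (normalizer_ne_top hG hQbot hQtop)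
  have hQM : Q ≤ M := by rw [← hN]; exact Subgroup.le_normalizer
  have hcop : (Nat.card Q).Coprime (Nat.card (fittingOf M)) := by
    obtain ⟨k, hk⟩ := IsPGroup.iff_card.mp hQq
    rw [hk]
    apply Nat.Coprime.pow_left
    exact (Nat.Prime.coprime_iff_not_dvd hq).mpr hqF
  have hd : Q ⊓ fittingOf M = ⊥ := (Subgroup.disjoint_of_coprime_natCard hcop).eq_bot
  have hQC : Q ≤ Subgroup.centralizer (fittingOf M : Set G) :=
    commute_of_normalize (hQM.trans (le_normalizer_fittingOf M)) hQ.2.2 hd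
  exact hQbot (eq_bot_of_le_of_coprime ((le_inf hQM hQC).trans (centralizer_fittingOf_le M)) hcop)

theorem prime_eq_of_dvd_card_isPGroup {p r : ℕ} [hp : Fact p.Prime] {F : Subgroup G}
    (hF : IsPGroup p F) (hr : r.Prime) (h : r ∣ Nat.card F) : r = p := by
  obtain ⟨k, hk⟩ := IsPGroup.iff_card.mp hF
  rw [hk] at h
  exact (Nat.prime_dvd_prime_iff_eq hr hp.out).mp (hr.dvd_of_dvd_pow h)

/-- the invariant-subgroup part of BG Theorem 8.1(b) -/
theorem bender_81b_inv (hG : IsMinSimpleOddOrder G) {M : Subgroup G} (hM : IsCoatom M) {p : ℕ}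
    [hp : Fact p.Prime] (hF : IsPGroup p (fittingOf M)) (hFbot : fittingOf M ≠ ⊥)
    {A : Subgroup G} (hAF : A ≤ fittingOf M) (hAbot : A ≠ ⊥) (hT : TransitivityHypothesis A)
    (hZ : ¬ RankLE 2 ↥(A ⊓ Subgroup.centralizer (A : Set G))) {q : ℕ} (hq : q.Prime)
    (hqp : q ≠ p) : ∀ Q ∈ invSubgroups ⊤ A {q}, Q = ⊥ := by
  have : Fact q.Prime := ⟨hq⟩
  have hMs : Group.IsSolvable M := isSolvable_of_ne_top hG hM.1
  have hAp : IsPGroup p A := hF.to_le hAF
  have hpA : p ∣ Nat.card A := dvd_card_of_isPGroup_ne_bot hAp hAbot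
  have hqA : ¬ q ∣ Nat.card A := fun h => hqp (prime_eq_of_dvd_card_isPGroup hAp hq h)
  have hqF : ¬ q ∣ Nat.card (fittingOf M) := fun h => hqp (prime_eq_of_dvd_card_isPGroup hF hq h)
  have hFtop : fittingOf M ≠ ⊤ := by
    intro h
    apply hM.1
    rw [eq_top_iff, ← h]
    exact fittingOf_le M
  have hFnil : Group.IsNilpotent (fittingOf M) := isNilpotent_fittingOf M
  have hsn : (A.subgroupOf (fittingOf M)).IsSubnormal :=
    (isNilpotent_iff_forall_isSubnormal.mp hFnil) _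
  have hPπ : ∀ r : ℕ, r.Prime → r ∣ Nat.card (fittingOf M) → r ∣ Nat.card A := by
    intro r hr h
    rw [prime_eq_of_dvd_card_isPGroup hF hr h]
    exact hpA
  obtain ⟨h1, h2⟩ := t75_core hG hFtop (Nat.card (fittingOf M) - Nat.card A) A hT hqA hPπ hAF hsn
    (fun Q₁ h₁ Q₂ h₂ => t73 hG hT hZ hq hqA h₁ h₂) rfl
  have hK : piCoreOf (primesNotDvd (Nat.card A)) (Subgroup.centralizer (fittingOf M : Set G)) = ⊥ := by
    have hCM : Subgroup.centralizer (fittingOf M : Set G) ≤ M :=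
      centralizer_le_of_coatom hG hM (fittingOf_le M) hFbot (le_normalizer_fittingOf M)
    have hle : piCoreOf (primesNotDvd (Nat.card A)) (Subgroup.centralizer (fittingOf M : Set G)) ≤
        fittingOf M :=
      (le_inf ((piCoreOf_le _ _).trans hCM) (piCoreOf_le _ _)).trans (centralizer_fittingOf_le M)
    apply eq_bot_of_le_of_coprime hle
    apply Nat.coprime_of_dvd
    intro k hk hkK hkF
    have hkp := prime_eq_of_dvd_card_isPGroup hF hk hkF
    rw [hkp] at hkK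
    exact (piCoreOf_pi _ _ p hp.out hkK).2 hpA
  obtain ⟨Q', hQ', -⟩ := exists_max_above (bot_mem_invSubgroups (fittingOf M) {q})
  have huniq : ∀ Q₂ ∈ maxInvSubgroups ⊤ (fittingOf M) {q}, Q₂ = Q' := by
    intro Q₂ hQ₂
    obtain ⟨k, hk, hkQ⟩ := h2 Q' hQ' Q₂ hQ₂
    rw [hK, Subgroup.mem_bot] at hk
    rw [hkQ, hk, cj_one]
  have hMQ : M ≤ Subgroup.normalizer (Q' : Set G) := by
    intro m hm
    apply mem_normalizer_of_cj_eq
    exact huniq _ (cj_mem_maxInvSubgroups_of_mem_normalizer (le_normalizer_fittingOf M hm) hQ')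
  have hQ'bot : Q' = ⊥ := eq_bot_of_normal_inv hG hM hq hqF hQ'.1 hMQ
  have hbot : (⊥ : Subgroup G) ∈ maxInvSubgroups ⊤ A {q} := hQ'bot ▸ h1 Q' hQ'
  intro Q hQ
  exact eq_bot_of_bot_mem hbot hQ

omit [Finite G] in
theorem ne_bot_of_not_pRankLE {p k : ℕ} (hp : 0 < p) {A : Subgroup G}
    (h : ¬ PRankLE p k ↥A) : A ≠ ⊥ := by
  intro hA
  apply h
  intro E _ _
  have h1 : Nat.card A = 1 := by rw [hA]; exact Subgroup.card_bot
  have : Subsingleton ↥A := (Nat.card_eq_one_iff_unique.mp h1).1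
  have h2 : Nat.card E = 1 := Nat.card_eq_one_iff_unique.mpr ⟨inferInstance, ⟨1⟩⟩
  rw [h2]
  exact Nat.one_le_pow _ _ hp

omit [Finite G] in
theorem not_pRankLE_mono {p k l : ℕ} (hp : 0 < p) (hkl : k ≤ l) {X : Type*} [Group X]
    (h : ¬ PRankLE p l X) : ¬ PRankLE p k X := by
  intro h'
  apply h
  intro E hE1 hE2
  exact (h' E hE1 hE2).trans (Nat.pow_le_pow_right hp hkl)

/-- BG Theorem 8.1(b) -/
theorem bender_81b (hG : IsMinSimpleOddOrder G) {M : Subgroup G} (hM : IsCoatom M) {p : ℕ}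
    [hp : Fact p.Prime] {A₀ : Subgroup G} (hA₀ : A₀ ≤ fittingOf M)
    (hA₀3 : p ^ 3 ≤ Nat.card A₀)
    (hF : IsPGroup p ↥(fittingOf M)) (P : Sylow p M) :
    ¬ p ∣ ((P : Subgroup M).map M.subtype).index ∧
      ∀ A : Subgroup G, IsSCN ((P : Subgroup M).map M.subtype) A → ¬ PRankLE p 2 ↥A →
        A ≤ fittingOf M ∧ InUniqueMaximal A := by
  have hMs : Group.IsSolvable M := isSolvable_of_ne_top hG hM.1
  have hFbot : fittingOf M ≠ ⊥ := by
    intro h
    rw [h, le_bot_iff] at hA₀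
    rw [hA₀, Subgroup.card_bot] at hA₀3
    have : 1 < p ^ 3 := Nat.one_lt_pow (by norm_num) hp.out.one_lt
    omega
  have hpF : p ∣ Nat.card (fittingOf M) := dvd_card_of_isPGroup_ne_bot hF hFbot
  have hpM : p ∣ Nat.card M := hpF.trans (Subgroup.card_dvd_of_le (fittingOf_le M))
  have hpG : p ∣ Nat.card G := hpM.trans (Subgroup.card_subgroup_dvd_card M)
  have hO : piCoreOf (ne p) M = ⊥ := Opprime_eq_bot_of_fitting_pgroup M hF
  obtain ⟨PG, hPG⟩ : ∃ PG : Subgroup G, PG = (P : Subgroup M).map M.subtype := ⟨_, rfl⟩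
  rw [← hPG]
  have hPmax : IsMaxP p PG M := hPG ▸ isMaxP_of_sylow P
  have hPbot : PG ≠ ⊥ := by
    rw [hPG]
    intro h
    exact P.ne_bot_of_dvd_card hpM
      ((Subgroup.map_eq_bot_iff_of_injective _ M.subtype_injective).mp h)
  have hNZ := normalizer_centerThompsonOf_eq hG hM hO hPmax hPbot
  have hNP : Subgroup.normalizer (PG : Set G) ≤ M :=
    (normalizer_le_normalizer_centerThompsonOf p PG).trans hNZ.le
  have hPtop : IsMaxP p PG ⊤ := hPmax.top_of_normalizer_le hNP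
  refine ⟨hPtop.not_dvd_index, ?_⟩
  intro A hSCN hrank
  obtain ⟨hAP, hPA, hCA⟩ := hSCN
  have hAM : A ≤ M := hAP.trans hPmax.1
  have hAp : IsPGroup p A := hPmax.2.1.to_le hAP
  have hAC : A ≤ Subgroup.centralizer (A : Set G) := by
    rw [← hCA]; exact inf_le_right.trans (Subgroup.centralizer_le (by rw [hCA]))
  have hAbot : A ≠ ⊥ := ne_bot_of_not_pRankLE hp.out.pos hrank
  -- `A ≤ F(M)`
  have hAF : A ≤ fittingOf M := by
    have hpp := pPrimeCore_eq_bot_of_piCoreOf p M hO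
    have hA'P : A.subgroupOf M ≤ (P : Subgroup M) := by
      intro x hx
      have h1 : (x : G) ∈ PG := hAP (Subgroup.mem_subgroupOf.mp hx)
      rw [hPG] at h1
      obtain ⟨y, hy, hyx⟩ := h1
      have : y = x := Subtype.ext hyx
      rwa [← this]
    have hA'c : IsMulCommutative (A.subgroupOf M) := by
      refine ⟨⟨fun a b => ?_⟩⟩
      have h1 := Subgroup.mem_centralizer_iff.mp (hAC (Subgroup.mem_subgroupOf.mp a.2)) _
        (Subgroup.mem_subgroupOf.mp b.2)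
      apply Subtype.ext
      apply Subtype.ext
      exact h1.symm
    have hA'n : (P : Subgroup M) ≤ Subgroup.normalizer ((A.subgroupOf M : Subgroup M) : Set M) := by
      intro g hg
      have hgN : (g : G) ∈ Subgroup.normalizer (A : Set G) := by
        apply hPA
        rw [hPG]
        exact Subgroup.mem_map_of_mem _ hg
      rw [Subgroup.mem_normalizer_iff]
      intro x
      rw [Subgroup.mem_subgroupOf, Subgroup.mem_subgroupOf]
      exact Subgroup.mem_normalizer_iff.mp hgN x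
    have h1 := Cfsg.Agent.S1457.result (G := ↥M) (odd_card_subgroup hG M) p P (A.subgroupOf M)
      hA'P hA'c hA'n
    rw [pPrimePCore_eq_pCore_of_pPrimeCore_eq_bot p hpp] at h1
    intro a ha
    exact ⟨⟨a, hAM ha⟩, Helper2.pCore_le_fittingSubgroup p (h1 (Subgroup.mem_subgroupOf.mpr ha)), rfl⟩
  refine ⟨hAF, ?_⟩
  -- transitivity
  obtain ⟨Psyl, hPsyl⟩ := hPtop.exists_sylow_top
  have hT : TransitivityHypothesis A := by
    apply t76 hG p hpG A hAp
    refine Or.inr ⟨Psyl, ?_, not_pRankLE_mono hp.out.pos (by norm_num) hrank⟩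
    rw [hPsyl]
    exact ⟨hAP, hPA, hCA⟩
  have hZ : ¬ RankLE 2 ↥(A ⊓ Subgroup.centralizer (A : Set G)) := by
    rw [inf_eq_left.mpr hAC]
    intro h
    exact hrank (h p hp.out)
  have hinv : ∀ q : ℕ, q.Prime → q ≠ p → ∀ Q ∈ invSubgroups ⊤ A {q}, Q = ⊥ :=
    fun q hq hqp => bender_81b_inv hG hM hF hFbot hAF hAbot hT hZ hq hqp
  have hOL : ∀ L : Subgroup G, IsCoatom L → A ≤ L → piCoreOf (ne p) L = ⊥ := by
    intro L hL hAL
    apply eq_bot_of_forall_q hG hAp hinv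
    · intro h
      apply hL.1
      rw [eq_top_iff, ← h]
      exact piCoreOf_le _ L
    · exact piCoreOf_ne_coprime p L
    · exact hAL.trans (le_normalizer_piCoreOf _ L)
  -- uniqueness
  refine ⟨M, ⟨hM, hAM⟩, ?_⟩
  rintro L₀ ⟨hL₀, hAL₀⟩
  by_contra hL₀M
  obtain ⟨H, ⟨hH, hAH, hHM⟩, hmax'⟩ := Set.exists_max_image
    {L : Subgroup G | IsCoatom L ∧ A ≤ L ∧ L ≠ M}
    (fun L => (Nat.card ↥(L ⊓ M)).factorization p) (Set.toFinite _) ⟨L₀, hL₀, hAL₀, hL₀M⟩
  have hmax : ∀ L : Subgroup G, IsCoatom L → A ≤ L → L ≠ M →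
      (Nat.card ↥(L ⊓ M)).factorization p ≤ (Nat.card ↥(H ⊓ M)).factorization p :=
    fun L h1 h2 h3 => hmax' L ⟨h1, h2, h3⟩
  obtain ⟨R, hR⟩ := (hAp.comap_subtype (K := H ⊓ M)).exists_le_sylow
  obtain ⟨S, hS⟩ : ∃ S : Subgroup G, S = (R : Subgroup ↥(H ⊓ M)).map (H ⊓ M).subtype := ⟨_, rfl⟩
  have hSHM : IsMaxP p S (H ⊓ M) := hS ▸ isMaxP_of_sylow R
  have hAS : A ≤ S := by
    intro a ha
    rw [hS]
    exact ⟨⟨a, Subgroup.mem_inf.mpr ⟨hAH ha, hAM ha⟩⟩, hR (Subgroup.mem_subgroupOf.mpr ha), rfl⟩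
  have hSbot : S ≠ ⊥ := fun h => hAbot (le_bot_iff.mp (h ▸ hAS))
  have hSp : IsPGroup p S := hSHM.2.1
  have hSH : S ≤ H := hSHM.1.trans inf_le_left
  have hSM : S ≤ M := hSHM.1.trans inf_le_right
  have hStop : S ≠ ⊤ := pgroup_ne_top hG hSp
  by_cases hSmaxM : IsMaxP p S M
  · have hNZM := normalizer_centerThompsonOf_eq hG hM hO hSmaxM hSbot
    have hNS : Subgroup.normalizer (S : Set G) ≤ M :=
      (normalizer_le_normalizer_centerThompsonOf p S).trans hNZM.le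
    have hStop' := hSmaxM.top_of_normalizer_le hNS
    have hNZH := normalizer_centerThompsonOf_eq hG hH (hOL H hH hAH) (hStop'.mono hSH le_top) hSbot
    exact hHM (hNZH.symm.trans hNZM)
  · obtain ⟨T, hTp, hST, hTM, hTS⟩ : ∃ T : Subgroup G, IsPGroup p T ∧ S ≤ T ∧ T ≤ M ∧ T ≠ S := by
      by_contra hcon
      push Not at hcon
      exact hSmaxM ⟨hSM, hSp, hcon⟩
    obtain ⟨T₁, hT₁p, hST₁, hT₁T, hT₁N⟩ :=
      exists_lt_normalizer_of_lt hTp (lt_of_le_of_ne hST (Ne.symm hTS))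
    by_cases hSmaxH : IsMaxP p S H
    · have hNZH := normalizer_centerThompsonOf_eq hG hH (hOL H hH hAH) hSmaxH hSbot
      have hNS : Subgroup.normalizer (S : Set G) ≤ H :=
        (normalizer_le_normalizer_centerThompsonOf p S).trans hNZH.le
      exact (ne_of_lt hST₁) (hSHM.2.2 T₁ hT₁p hST₁.le
        (le_inf (hT₁N.trans hNS) (hT₁T.trans hTM))).symm
    · obtain ⟨T', hT'p, hST', hT'H, hT'S⟩ :
          ∃ T : Subgroup G, IsPGroup p T ∧ S ≤ T ∧ T ≤ H ∧ T ≠ S := by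
        by_contra hcon
        push Not at hcon
        exact hSmaxH ⟨hSH, hSp, hcon⟩
      obtain ⟨T₁', hT₁'p, hST₁', hT₁'T, hT₁'N⟩ :=
        exists_lt_normalizer_of_lt hT'p (lt_of_le_of_ne hST' (Ne.symm hT'S))
      have hNSM : Subgroup.normalizer (S : Set G) ≤ M :=
        pushing_up hmax R (normalizer_ne_top hG hSbot hStop)
          (hAS.trans Subgroup.le_normalizer) hT₁p hT₁N (hT₁T.trans hTM) (hS ▸ hST₁)
      exact (ne_of_lt hST₁') (hSHM.2.2 T₁' hT₁'p hST₁'.le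
        (le_inf (hT₁'T.trans hT'H) (hT₁'N.trans hNSM))).symm

end Cfsg.Agent.Lib.Helper1.BG8
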