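import Mathlib

set_option autoImplicit false
universe u

namespace Cfsg.Agent.Lib.Helper1.GLTwo

open Matrix

variable {F : Type u} [Field F]

/-- Entrywise description of commuting `2 × 2` matrices. -/
theorem comm_entries (x a : Matrix (Fin 2) (Fin 2) F) (h : x * a = a * x) :
    x 0 1 * a 1 0 = a 0 1 * x 1 0 ∧
    a 0 1 * (x 0 0 - x 1 1) = x 0 1 * (a 0 0 - a 1 1) ∧
    a 1 0 * (x 0 0 - x 1 1) = x 1 0 * (a 0 0 - a 1 1) := by
  have h00 := congrFun (congrFun h 0) 0
  have h01 := congrFun (congrFun h 0) 1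
  have h10 := congrFun (congrFun h 1) 0
  simp only [Matrix.mul_apply, Fin.sum_univ_two] at h00 h01 h10
  refine ⟨?_, ?_, ?_⟩
  · linear_combination h00
  · linear_combination h01
  · linear_combination -h10

/-- A matrix is scalar. -/
def IsScalar (a : Matrix (Fin 2) (Fin 2) F) : Prop := a 0 1 = 0 ∧ a 1 0 = 0 ∧ a 0 0 = a 1 1

omit [Field F] in
theorem eq_of_entries (x y : Matrix (Fin 2) (Fin 2) F) (h00 : x 0 0 = y 0 0) (h01 : x 0 1 = y 0 1)
    (h10 : x 1 0 = y 1 0) (h11 : x 1 1 = y 1 1) : x = y := by
  ext i j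
  fin_cases i <;> fin_cases j
  · exact h00
  · exact h01
  · exact h10
  · exact h11

/-- The centralizer of a non-scalar matrix `a` is `F[a]`. -/
theorem exists_smul_add (a x : Matrix (Fin 2) (Fin 2) F) (ha : ¬ IsScalar a)
    (hx : x * a = a * x) : ∃ α β : F, x = α • (1 : Matrix (Fin 2) (Fin 2) F) + β • a := by
  obtain ⟨x1, x2, x3⟩ := comm_entries x a hx
  have hcases : a 0 1 ≠ 0 ∨ a 1 0 ≠ 0 ∨ a 0 0 - a 1 1 ≠ 0 := by
    by_contra h
    push Not at h
    exact ha ⟨h.1, h.2.1, sub_eq_zero.mp h.2.2⟩
  rcases hcases with h | h | h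
  · refine ⟨x 0 0 - x 0 1 / a 0 1 * a 0 0, x 0 1 / a 0 1, ?_⟩
    apply eq_of_entries <;>
      simp only [Matrix.add_apply, Matrix.smul_apply, Matrix.one_apply_eq, Matrix.one_apply_ne,
        smul_eq_mul, ne_eq, zero_ne_one, one_ne_zero, not_false_eq_true, mul_one, mul_zero,
        zero_add, Fin.isValue]
    · ring
    · field_simp
    · field_simp; linear_combination -x1
    · field_simp; linear_combination -x2
  · refine ⟨x 0 0 - x 1 0 / a 1 0 * a 0 0, x 1 0 / a 1 0, ?_⟩
    apply eq_of_entries <;>
      simp only [Matrix.add_apply, Matrix.smul_apply, Matrix.one_apply_eq, Matrix.one_apply_ne,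
        smul_eq_mul, ne_eq, zero_ne_one, one_ne_zero, not_false_eq_true, mul_one, mul_zero,
        zero_add, Fin.isValue]
    · ring
    · field_simp; linear_combination x1
    · field_simp
    · field_simp; linear_combination -x3
  · refine ⟨x 0 0 - (x 0 0 - x 1 1) / (a 0 0 - a 1 1) * a 0 0,
      (x 0 0 - x 1 1) / (a 0 0 - a 1 1), ?_⟩
    apply eq_of_entries <;>
      simp only [Matrix.add_apply, Matrix.smul_apply, Matrix.one_apply_eq, Matrix.one_apply_ne,
        smul_eq_mul, ne_eq, zero_ne_one, one_ne_zero, not_false_eq_true, mul_one, mul_zero,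
        zero_add, Fin.isValue]
    · ring
    · field_simp; linear_combination -x2
    · field_simp; linear_combination -x3
    · field_simp; ring

/-- The centralizer of a non-scalar matrix is commutative. -/
theorem comm_of_comm_nonscalar (a x y : Matrix (Fin 2) (Fin 2) F) (ha : ¬ IsScalar a)
    (hx : x * a = a * x) (hy : y * a = a * y) : x * y = y * x := by
  obtain ⟨α, β, rfl⟩ := exists_smul_add a x ha hx
  obtain ⟨γ, δ, rfl⟩ := exists_smul_add a y ha hy
  simp only [add_mul, mul_add, smul_mul_assoc, mul_smul_comm, one_mul, mul_one]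
  module

/-- Cayley–Hamilton for `2 × 2` matrices. -/
theorem cayley (a : Matrix (Fin 2) (Fin 2) F) :
    a * a = a.trace • a - a.det • (1 : Matrix (Fin 2) (Fin 2) F) := by
  apply eq_of_entries <;>
    simp only [Matrix.mul_apply, Fin.sum_univ_two, Matrix.sub_apply, Matrix.smul_apply,
      Matrix.one_apply_eq, Matrix.one_apply_ne, smul_eq_mul, Matrix.trace_fin_two,
      Matrix.det_fin_two, ne_eq, zero_ne_one, one_ne_zero, not_false_eq_true, mul_one, mul_zero,
      sub_zero, Fin.isValue] <;> ring

theorem trace_smul_add (a : Matrix (Fin 2) (Fin 2) F) (α β : F) :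
    (α • (1 : Matrix (Fin 2) (Fin 2) F) + β • a).trace = 2 * α + β * a.trace := by
  simp only [Matrix.trace_fin_two, Matrix.add_apply, Matrix.smul_apply, Matrix.one_apply_eq,
    smul_eq_mul, mul_one]
  ring

theorem det_smul_add (a : Matrix (Fin 2) (Fin 2) F) (α β : F) :
    (α • (1 : Matrix (Fin 2) (Fin 2) F) + β • a).det =
      α ^ 2 + α * β * a.trace + β ^ 2 * a.det := by
  simp only [Matrix.det_fin_two, Matrix.trace_fin_two, Matrix.add_apply, Matrix.smul_apply,
    Matrix.one_apply_eq, Matrix.one_apply_ne, smul_eq_mul, ne_eq, zero_ne_one, one_ne_zero,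
    not_false_eq_true, mul_one, mul_zero, zero_add, Fin.isValue]
  ring

/-- A matrix commuting with the non-scalar semisimple `a`, with the same trace and determinant,
is `a` or its conjugate `tr a - a`. -/
theorem eq_or_eq_conj (h2 : (2 : F) ≠ 0) (a a' : Matrix (Fin 2) (Fin 2) F) (ha : ¬ IsScalar a)
    (hdisc : a.trace ^ 2 - 4 * a.det ≠ 0) (hc : a' * a = a * a') (htr : a'.trace = a.trace)
    (hdet : a'.det = a.det) :
    a' = a ∨ a' = a.trace • (1 : Matrix (Fin 2) (Fin 2) F) - a := by
  obtain ⟨α, β, rfl⟩ := exists_smul_add a a' ha hc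
  rw [trace_smul_add] at htr
  rw [det_smul_add] at hdet
  have h1 : (1 - β ^ 2) * (a.trace ^ 2 - 4 * a.det) = 0 := by
    have hα : 2 * α = a.trace * (1 - β) := by linear_combination htr
    linear_combination (4 : F) * hdet - (a.trace * (1 - β) + 2 * α + 2 * β * a.trace) * hα
  have h3 : 1 - β ^ 2 = 0 := by
    rcases mul_eq_zero.mp h1 with h | h
    · exact h
    · exact absurd h hdisc
  have h4 : (1 - β) * (1 + β) = 0 := by linear_combination h3
  rcases mul_eq_zero.mp h4 with h | h
  · left
    have hβ : β = 1 := by linear_combination -h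
    have hα : α = 0 := by
      have : 2 * α = 0 := by rw [hβ] at htr; linear_combination htr
      rcases mul_eq_zero.mp this with h' | h'
      · exact absurd h' h2
      · exact h'
    rw [hα, hβ, zero_smul, zero_add, one_smul]
  · right
    have hβ : β = -1 := by linear_combination h
    have hα : α = a.trace := by
      have : 2 * (α - a.trace) = 0 := by rw [hβ] at htr; linear_combination htr
      rcases mul_eq_zero.mp this with h' | h'
      · exact absurd h' h2
      · exact sub_eq_zero.mp h'
    rw [hα, hβ, neg_smul, one_smul, sub_eq_add_neg]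

end Cfsg.Agent.Lib.Helper1.GLTwo
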