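import Mathlib
import Cfsg.Agent.Lib.Helper1.GL1

set_option autoImplicit false
universe u

namespace Cfsg.Agent.Lib.Helper1.GLTwo

open Matrix

variable {F : Type u} [Field F]

theorem pow_smul_one_add_nilp (s : F) (n : Matrix (Fin 2) (Fin 2) F) (hn : n * n = 0) (k : ℕ) :
    (s • (1 : Matrix (Fin 2) (Fin 2) F) + n) ^ k =
      s ^ k • (1 : Matrix (Fin 2) (Fin 2) F) + ((k : F) * s ^ (k - 1)) • n := by
  induction k with
  | zero => simp
  | succ k ih =>
    rw [pow_succ, ih]
    simp only [add_mul, mul_add, smul_mul_assoc, mul_smul_comm, one_mul, mul_one, hn, smul_zero,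
      add_zero, Nat.add_sub_cancel]
    rcases Nat.eq_zero_or_pos k with h0 | hpos
    · subst h0; simp
    · have h1 : s ^ k = s ^ (k - 1) * s := by rw [← pow_succ, Nat.sub_add_cancel hpos]
      rw [pow_succ]
      push_cast
      have h2 : (↑k * s ^ (k - 1)) * s = ↑k * s ^ k := by rw [mul_assoc, ← h1]
      have h3 : (s • (s ^ k • (1 : Matrix (Fin 2) (Fin 2) F) + (↑k * s ^ (k - 1)) • n) + s ^ k • n) =
          (s ^ k * s) • (1 : Matrix (Fin 2) (Fin 2) F) + ((↑k * s ^ (k - 1)) * s + s ^ k) • n := by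
        module
      rw [h3, h2]
      module

theorem isScalar_smul_one (c : F) : IsScalar (c • (1 : Matrix (Fin 2) (Fin 2) F)) := by
  refine ⟨?_, ?_, ?_⟩ <;> simp

theorem eq_smul_one_of_isScalar (m : Matrix (Fin 2) (Fin 2) F) (h : IsScalar m) :
    m = (m 0 0) • (1 : Matrix (Fin 2) (Fin 2) F) := by
  obtain ⟨h1, h2, h3⟩ := h
  apply eq_of_entries <;> simp [h1, h2, h3]

theorem comm_of_isScalar (m x : Matrix (Fin 2) (Fin 2) F) (h : IsScalar m) : m * x = x * m := by
  rw [eq_smul_one_of_isScalar m h]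
  simp

/-- Semisimplicity: a non-scalar matrix of order prime to the characteristic has nonzero
discriminant. -/
theorem disc_ne_zero (p : ℕ) [CharP F p] (h2 : (2 : F) ≠ 0) (a : Matrix (Fin 2) (Fin 2) F)
    (ha : ¬ IsScalar a) (m : ℕ) (hm : a ^ m = 1) (hpm : ¬ p ∣ m) :
    a.trace ^ 2 - 4 * a.det ≠ 0 := by
  intro hdisc
  set s : F := a.trace / 2 with hs
  set n : Matrix (Fin 2) (Fin 2) F := a - s • (1 : Matrix (Fin 2) (Fin 2) F) with hn
  have hnn : n * n = 0 := by
    have h1 : n * n = a * a - (2 * s) • a + (s * s) • (1 : Matrix (Fin 2) (Fin 2) F) := by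
      rw [hn]
      simp only [sub_mul, mul_sub, smul_mul_assoc, mul_smul_comm, one_mul, mul_one, smul_sub,
        smul_smul]
      module
    rw [h1, cayley]
    have h3 : 2 * s = a.trace := by rw [hs]; field_simp
    have h4 : s * s = a.det := by
      rw [hs]; field_simp; linear_combination hdisc
    rw [h3, h4]
    module
  have hasn : a = s • (1 : Matrix (Fin 2) (Fin 2) F) + n := by rw [hn]; abel
  have hpow := pow_smul_one_add_nilp s n hnn m
  rw [← hasn, hm] at hpow
  set c : F := (m : F) * s ^ (m - 1) with hc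
  have hc0 : c = 0 := by
    by_contra hne
    apply ha
    have h5 : n = (c⁻¹ * (1 - s ^ m)) • (1 : Matrix (Fin 2) (Fin 2) F) := by
      have h6 : c • n = (1 - s ^ m) • (1 : Matrix (Fin 2) (Fin 2) F) := by
        rw [sub_smul, one_smul]
        rw [eq_sub_iff_add_eq, add_comm]; exact hpow.symm
      rw [mul_smul, ← h6, smul_smul, inv_mul_cancel₀ hne, one_smul]
    rw [hasn, h5, ← add_smul]
    exact isScalar_smul_one _
  rw [hc0, zero_smul, add_zero] at hpow
  have h7 : s ^ m = 1 := by
    have := congrFun (congrFun hpow 0) 0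
    simp at this
    exact this.symm
  have hs0 : s ≠ 0 := by
    intro h
    rcases Nat.eq_zero_or_pos m with h0 | hpos
    · exact hpm (h0 ▸ dvd_zero p)
    · rw [h, zero_pow hpos.ne'] at h7; exact zero_ne_one h7
  have hm0 : (m : F) = 0 := by
    rcases mul_eq_zero.mp hc0 with h | h
    · exact h
    · exact absurd (pow_eq_zero_iff (by
        intro h0
        rw [h0, pow_zero] at h; exact one_ne_zero h) |>.mp h) hs0
  exact hpm ((CharP.cast_eq_zero_iff F p m).mp hm0)

/-- An element of odd order normalizing "up to centralizer" a semisimple non-scalar matrix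
centralizes it. -/
theorem comm_of_conj_comm (h2 : (2 : F) ≠ 0) (b : GL (Fin 2) F) (a : Matrix (Fin 2) (Fin 2) F)
    (ha : ¬ IsScalar a) (hdisc : a.trace ^ 2 - 4 * a.det ≠ 0)
    (hc : ((b : Matrix (Fin 2) (Fin 2) F) * a * ((b⁻¹ : GL (Fin 2) F) : Matrix (Fin 2) (Fin 2) F)) * a =
      a * ((b : Matrix (Fin 2) (Fin 2) F) * a * ((b⁻¹ : GL (Fin 2) F) : Matrix (Fin 2) (Fin 2) F)))
    (k : ℕ) (hk : Odd k) (hbk : b ^ k = 1) :
    (b : Matrix (Fin 2) (Fin 2) F) * a = a * (b : Matrix (Fin 2) (Fin 2) F) := by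
  set B : Matrix (Fin 2) (Fin 2) F := (b : Matrix (Fin 2) (Fin 2) F) with hB
  set Bi : Matrix (Fin 2) (Fin 2) F := ((b⁻¹ : GL (Fin 2) F) : Matrix (Fin 2) (Fin 2) F) with hBi
  have hBBi : B * Bi = 1 := by rw [hB, hBi, ← Units.val_mul, mul_inv_cancel]; rfl
  have hBiB : Bi * B = 1 := by rw [hB, hBi, ← Units.val_mul, inv_mul_cancel]; rfl
  have htr : (B * a * Bi).trace = a.trace := by
    rw [Matrix.trace_mul_comm, ← mul_assoc, hBiB, one_mul]
  have hdet : (B * a * Bi).det = a.det := by
    rw [Matrix.det_mul, Matrix.det_mul, mul_comm, ← mul_assoc, ← Matrix.det_mul, hBiB,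
      Matrix.det_one, one_mul]
  rcases eq_or_eq_conj h2 a (B * a * Bi) ha hdisc hc htr hdet with h | h
  · calc B * a = B * a * (Bi * B) := by rw [hBiB, mul_one]
      _ = (B * a * Bi) * B := by simp only [mul_assoc]
      _ = a * B := by rw [h]
  · -- `b²` centralizes `a`
    have h3 : B * (B * a * Bi) * Bi = a := by
      rw [h, mul_sub, sub_mul, mul_smul_comm, mul_one, smul_mul_assoc, hBBi, h]
      abel
    have h4 : (B * B) * a = a * (B * B) := by
      calc (B * B) * a = (B * B) * a * (Bi * Bi * (B * B)) := by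
            have : Bi * Bi * (B * B) = 1 := by
              rw [mul_assoc, ← mul_assoc Bi B B, hBiB, one_mul, hBiB]
            rw [this, mul_one]
        _ = (B * (B * a * Bi) * Bi) * (B * B) := by simp only [mul_assoc]
        _ = a * (B * B) := by rw [h3]
    obtain ⟨j, hj⟩ := hk
    have h5 : ∀ i : ℕ, (B * B) ^ i * a = a * (B * B) ^ i := by
      intro i
      induction i with
      | zero => simp
      | succ i ih => rw [pow_succ, mul_assoc, h4, ← mul_assoc, ih, mul_assoc]
    have h6 : (B * B) ^ (j + 1) = B := by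
      have h7 : b ^ (2 * j + 1) = 1 := hj ▸ hbk
      have h8 : (b * b) ^ (j + 1) = b := by
        rw [← pow_two, ← pow_mul]
        have : 2 * (j + 1) = (2 * j + 1) + 1 := by ring
        rw [this, pow_succ, h7, one_mul]
      have := congrArg (fun u : GL (Fin 2) F => (u : Matrix (Fin 2) (Fin 2) F)) h8
      simp only [Units.val_pow_eq_pow_val, Units.val_mul] at this
      exact this
    have := h5 (j + 1)
    rwa [h6] at this

end Cfsg.Agent.Lib.Helper1.GLTwo
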