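import Mathlib
import Cfsg.Agent.Lib.Helper1.GL2
import Cfsg.Agent.S1463

set_option autoImplicit false
universe u
open scoped commutatorElement

namespace Cfsg.Agent.Lib.Helper1.GLTwo

open Matrix

variable {F : Type u} [Field F]

theorem two_ne_zero_of_char (p : ℕ) [hp : Fact p.Prime] [CharP F p] (hp2 : p ≠ 2) : (2 : F) ≠ 0 := by
  intro h
  have h1 : ((2 : ℕ) : F) = 0 := by exact_mod_cast h
  have h2 := (CharP.cast_eq_zero_iff F p 2).mp h1
  have := (Nat.prime_dvd_prime_iff_eq hp.out Nat.prime_two).mp h2
  exact hp2 this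

theorem conj_eq_comm_mul {G : Type*} [Group G] (b a : G) : b * a * b⁻¹ = ⁅b, a⁆ * a := by
  rw [commutatorElement_def]; group

/-- Solvable odd-order subgroups of `GL₂(F)` of order prime to the characteristic are abelian. -/
theorem abelian_of_coprime (p : ℕ) [hp : Fact p.Prime] [CharP F p] (hp2 : p ≠ 2) :
    ∀ (n : ℕ) (H : Subgroup (GL (Fin 2) F)) [Finite H], Nat.card H = n → Odd n →
      Group.IsSolvable H → ¬ p ∣ n → ∀ x ∈ H, ∀ y ∈ H, x * y = y * x := by
  have h2 : (2 : F) ≠ 0 := two_ne_zero_of_char p hp2
  intro n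
  induction n using Nat.strong_induction_on with
  | _ n ih =>
    intro H _ hcard hodd hsolv hpn
    have hpow : ∀ g ∈ H, g ^ n = 1 := by
      intro g hg
      have := pow_card_eq_one' (G := H) (x := ⟨g, hg⟩)
      rw [hcard] at this
      have := congrArg Subtype.val this
      rwa [Subgroup.coe_pow] at this
    have hpowM : ∀ g ∈ H, ((g : GL (Fin 2) F) : Matrix (Fin 2) (Fin 2) F) ^ n = 1 := by
      intro g hg
      rw [← Units.val_pow_eq_pow_val, hpow g hg]; rfl
    have key : ∀ a ∈ H, ¬ IsScalar ((a : GL (Fin 2) F) : Matrix (Fin 2) (Fin 2) F) →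
        (∀ b ∈ H, (b * a * b⁻¹) * a = a * (b * a * b⁻¹)) → ∀ x ∈ H, ∀ y ∈ H, x * y = y * x := by
      intro a haH hns hconj
      have hdisc := disc_ne_zero p h2 _ hns n (hpowM a haH) hpn
      have hcent : ∀ b ∈ H, ((b : GL (Fin 2) F) : Matrix (Fin 2) (Fin 2) F) * a =
          (a : Matrix (Fin 2) (Fin 2) F) * b := by
        intro b hb
        apply comm_of_conj_comm h2 b _ hns hdisc _ n hodd (hpow b hb)
        have := congrArg (fun u : GL (Fin 2) F => (u : Matrix (Fin 2) (Fin 2) F)) (hconj b hb)
        simp only [Units.val_mul] at this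
        exact this
      intro x hx y hy
      apply Units.ext
      rw [Units.val_mul, Units.val_mul]
      exact comm_of_comm_nonscalar _ _ _ hns (hcent x hx) (hcent y hy)
    by_cases hallsc : ∀ g ∈ H, IsScalar ((g : GL (Fin 2) F) : Matrix (Fin 2) (Fin 2) F)
    · intro x hx y hy
      apply Units.ext
      rw [Units.val_mul, Units.val_mul]
      exact comm_of_isScalar _ _ (hallsc x hx)
    push Not at hallsc
    obtain ⟨a₀, ha₀H, ha₀⟩ := hallsc
    have hHnt : Nontrivial H := by
      rw [Subgroup.nontrivial_iff_ne_bot]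
      intro h
      apply ha₀
      have : a₀ = 1 := by rw [h] at ha₀H; exact Subgroup.mem_bot.mp ha₀H
      rw [this]
      have := isScalar_smul_one (F := F) 1
      rwa [one_smul] at this
    have hlt : commutator H < ⊤ := Group.IsSolvable.commutator_lt_top_of_nontrivial H
    set K : Subgroup (GL (Fin 2) F) := ⁅H, H⁆ with hK
    have hKH : K ≤ H := by
      rw [hK, Subgroup.commutator_le]
      intro x hx y hy
      exact H.mul_mem (H.mul_mem (H.mul_mem hx hy) (H.inv_mem hx)) (H.inv_mem hy)
    have hKmap : (commutator H).map H.subtype = K := by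
      rw [hK]; exact Subgroup.map_subtype_commutator H
    have hKne : K ≠ H := by
      intro h
      have h1 : (commutator H).map H.subtype = (⊤ : Subgroup H).map H.subtype := by
        rw [hKmap, h, ← MonoidHom.range_eq_map, Subgroup.range_subtype]
      have h2' := Subgroup.map_injective H.subtype_injective h1
      exact hlt.ne h2'
    have hKfin : Finite K :=
      Finite.of_injective (Subgroup.inclusion hKH) (Subgroup.inclusion_injective hKH)
    have hKdvd : Nat.card K ∣ n := hcard ▸ Subgroup.card_dvd_of_le hKH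
    have hKlt : Nat.card K < n := by
      rcases Nat.lt_or_ge (Nat.card K) n with h | h
      · exact h
      · exfalso
        apply hKne
        apply Subgroup.eq_of_le_of_card_ge hKH
        rw [hcard]; exact h
    have hKsolv : Group.IsSolvable K :=
      Group.isSolvable_of_isSolvable_injective (Subgroup.inclusion_injective hKH)
    have hKab := ih (Nat.card K) hKlt K rfl (Odd.of_dvd_nat hodd hKdvd) hKsolv
      (fun h => hpn (h.trans hKdvd))
    have hcomm_mem : ∀ b ∈ H, ∀ a ∈ H, ⁅b, a⁆ ∈ K := by
      intro b hb a ha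
      exact Subgroup.commutator_mem_commutator hb ha
    by_cases hKsc : ∀ g ∈ K, IsScalar ((g : GL (Fin 2) F) : Matrix (Fin 2) (Fin 2) F)
    · apply key a₀ ha₀H ha₀
      intro b hb
      rw [conj_eq_comm_mul]
      have hc := hKsc _ (hcomm_mem b hb a₀ ha₀H)
      have hcc : ⁅b, a₀⁆ * a₀ = a₀ * ⁅b, a₀⁆ := by
        apply Units.ext
        rw [Units.val_mul, Units.val_mul]
        exact comm_of_isScalar _ _ hc
      rw [mul_assoc, ← mul_assoc a₀, ← hcc, mul_assoc]
    · push Not at hKsc
      obtain ⟨a, haK, hans⟩ := hKsc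
      apply key a (hKH haK) hans
      intro b hb
      apply hKab
      · rw [conj_eq_comm_mul]
        exact K.mul_mem (hcomm_mem b hb a (hKH haK)) haK
      · exact haK

end Cfsg.Agent.Lib.Helper1.GLTwo

namespace Cfsg.Agent.Lib.Helper1.GLTwo

open Matrix

variable {F : Type u} [Field F]

/-- A matrix fixing a nonzero vector, of determinant one, satisfies `m ^ p = 1` in
characteristic `p`. -/
theorem pow_char_eq_one_of_fix (p : ℕ) [CharP F p]
    (m : Matrix (Fin 2) (Fin 2) F) (v : Fin 2 → F) (hv : v ≠ 0) (hmv : m.mulVec v = v)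
    (hdet : m.det = 1) : m ^ p = 1 := by
  have h1 : (m - 1).det = 0 := by
    apply Matrix.exists_mulVec_eq_zero_iff.mp
    refine ⟨v, hv, ?_⟩
    rw [Matrix.sub_mulVec, hmv, Matrix.one_mulVec, sub_self]
  have htr : m.trace = 2 := by
    have h2 : (m - 1).det = m.det - m.trace + 1 := by
      simp only [Matrix.det_fin_two, Matrix.trace_fin_two, Matrix.sub_apply, Matrix.one_apply_eq,
        Matrix.one_apply_ne, ne_eq, zero_ne_one, one_ne_zero, not_false_eq_true, sub_zero,
        Fin.isValue]
      ring
    rw [h2, hdet] at h1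
    linear_combination -h1
  set n : Matrix (Fin 2) (Fin 2) F := m - 1 with hn
  have hnn : n * n = 0 := by
    have h3 : n * n = m * m - (2 : F) • m + 1 := by
      rw [hn]
      simp only [sub_mul, mul_sub, one_mul, mul_one]
      rw [two_smul]; abel
    rw [h3, cayley, htr, hdet]
    module
  have hm : m = (1 : F) • (1 : Matrix (Fin 2) (Fin 2) F) + n := by rw [hn, one_smul]; abel
  rw [hm, pow_smul_one_add_nilp 1 n hnn p, one_pow, one_pow, mul_one, one_smul,
    CharP.cast_eq_zero F p, zero_smul, add_zero]

/-- The commutator subgroup of a solvable odd-order subgroup of `GL₂(F)`, `char F = p` odd,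
has exponent dividing `p`. -/
theorem commutator_pow_char (p : ℕ) [hp : Fact p.Prime] [CharP F p] (hp2 : p ≠ 2)
    (H : Subgroup (GL (Fin 2) F)) [Finite H] (hodd : Odd (Nat.card H))
    (hsolv : Group.IsSolvable H) : ∀ g ∈ ⁅H, H⁆, g ^ p = 1 := by
  by_cases hirr : ∀ v : Fin 2 → F, v ≠ 0 → ∃ g ∈ H,
      (g : Matrix (Fin 2) (Fin 2) F).mulVec v ∉ Submodule.span F {v}
  · have hpn := Cfsg.Agent.S1463.result p hp2 H hodd hirr
    have hab := abelian_of_coprime p hp2 (Nat.card H) H rfl hodd hsolv hpn
    have hbot : ⁅H, H⁆ = ⊥ := by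
      rw [eq_bot_iff, Subgroup.commutator_le]
      intro x hx y hy
      rw [Subgroup.mem_bot, commutatorElement_eq_one_iff_mul_comm]
      exact hab x hx y hy
    intro g hg
    rw [hbot, Subgroup.mem_bot] at hg
    rw [hg, one_pow]
  · push Not at hirr
    obtain ⟨v, hv, hinv⟩ := hirr
    -- eigenvalue function
    have heig : ∀ g ∈ H, ∃ c : F, (g : Matrix (Fin 2) (Fin 2) F).mulVec v = c • v := by
      intro g hg
      obtain ⟨c, hc⟩ := Submodule.mem_span_singleton.mp (hinv g hg)
      exact ⟨c, hc.symm⟩
    let S : Subgroup (GL (Fin 2) F) :=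
      { carrier := {g | (g : Matrix (Fin 2) (Fin 2) F).mulVec v = v ∧
          (g : Matrix (Fin 2) (Fin 2) F).det = 1}
        one_mem' := by
          refine ⟨?_, ?_⟩
          · show (1 : Matrix (Fin 2) (Fin 2) F).mulVec v = v
            exact Matrix.one_mulVec v
          · show (1 : Matrix (Fin 2) (Fin 2) F).det = 1
            exact Matrix.det_one
        mul_mem' := by
          rintro x y ⟨hx1, hx2⟩ ⟨hy1, hy2⟩
          refine ⟨?_, ?_⟩
          · show ((x * y : GL (Fin 2) F) : Matrix (Fin 2) (Fin 2) F).mulVec v = v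
            rw [Units.val_mul, ← Matrix.mulVec_mulVec, hy1, hx1]
          · show ((x * y : GL (Fin 2) F) : Matrix (Fin 2) (Fin 2) F).det = 1
            rw [Units.val_mul, Matrix.det_mul, hx2, hy2, one_mul]
        inv_mem' := by
          rintro x ⟨hx1, hx2⟩
          have hxi : ((x⁻¹ : GL (Fin 2) F) : Matrix (Fin 2) (Fin 2) F) *
              (x : Matrix (Fin 2) (Fin 2) F) = 1 := by
            rw [← Units.val_mul, inv_mul_cancel]; rfl
          refine ⟨?_, ?_⟩
          · show ((x⁻¹ : GL (Fin 2) F) : Matrix (Fin 2) (Fin 2) F).mulVec v = v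
            conv_lhs => rw [← hx1]
            rw [Matrix.mulVec_mulVec, hxi, Matrix.one_mulVec]
          · show ((x⁻¹ : GL (Fin 2) F) : Matrix (Fin 2) (Fin 2) F).det = 1
            have := congrArg Matrix.det hxi
            rw [Matrix.det_mul, hx2, mul_one, Matrix.det_one] at this
            exact this }
    have hle : ⁅H, H⁆ ≤ S := by
      rw [Subgroup.commutator_le]
      intro x hx y hy
      obtain ⟨c, hc⟩ := heig x hx
      obtain ⟨d, hd⟩ := heig y hy
      obtain ⟨c', hc'⟩ := heig x⁻¹ (H.inv_mem hx)
      obtain ⟨d', hd'⟩ := heig y⁻¹ (H.inv_mem hy)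
      have hcc' : c * c' = 1 := by
        have h1 : ((x * x⁻¹ : GL (Fin 2) F) : Matrix (Fin 2) (Fin 2) F).mulVec v = (c * c') • v := by
          rw [Units.val_mul, ← Matrix.mulVec_mulVec, hc', Matrix.mulVec_smul, hc, smul_smul,
            mul_comm]
        rw [mul_inv_cancel] at h1
        have h2 : (1 : F) • v = (c * c') • v := by
          rw [one_smul]
          rw [← h1]
          exact (Matrix.one_mulVec v).symm
        by_contra hne
        apply hv
        have h3 : ((1 : F) - c * c') • v = 0 := by rw [sub_smul, h2, sub_self]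
        rcases smul_eq_zero.mp h3 with h | h
        · exact absurd (sub_eq_zero.mp h).symm hne
        · exact h
      have hdd' : d * d' = 1 := by
        have h1 : ((y * y⁻¹ : GL (Fin 2) F) : Matrix (Fin 2) (Fin 2) F).mulVec v = (d * d') • v := by
          rw [Units.val_mul, ← Matrix.mulVec_mulVec, hd', Matrix.mulVec_smul, hd, smul_smul,
            mul_comm]
        rw [mul_inv_cancel] at h1
        have h2 : (1 : F) • v = (d * d') • v := by
          rw [one_smul]
          rw [← h1]
          exact (Matrix.one_mulVec v).symm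
        by_contra hne
        apply hv
        have h3 : ((1 : F) - d * d') • v = 0 := by rw [sub_smul, h2, sub_self]
        rcases smul_eq_zero.mp h3 with h | h
        · exact absurd (sub_eq_zero.mp h).symm hne
        · exact h
      refine ⟨?_, ?_⟩
      · show ((⁅x, y⁆ : GL (Fin 2) F) : Matrix (Fin 2) (Fin 2) F).mulVec v = v
        have step : ∀ (g : Matrix (Fin 2) (Fin 2) F) (c t : F), g.mulVec v = c • v →
            g.mulVec (t • v) = (t * c) • v := by
          intro g c t h
          rw [Matrix.mulVec_smul, h, smul_smul]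
        rw [commutatorElement_def, Units.val_mul, Units.val_mul, Units.val_mul,
          ← Matrix.mulVec_mulVec, ← Matrix.mulVec_mulVec, ← Matrix.mulVec_mulVec, hd',
          step _ c' d' hc', step _ d (d' * c') hd, step _ c (d' * c' * d) hc]
        have : d' * c' * d * c = 1 := by
          calc d' * c' * d * c = (c * c') * (d * d') := by ring
            _ = 1 := by rw [hcc', hdd', one_mul]
        rw [this, one_smul]
      · show ((⁅x, y⁆ : GL (Fin 2) F) : Matrix (Fin 2) (Fin 2) F).det = 1
        have h1 : Matrix.GeneralLinearGroup.det (⁅x, y⁆) = 1 := by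
          rw [commutatorElement_def, map_mul, map_mul, map_mul, map_inv, map_inv]
          rw [mul_comm (Matrix.GeneralLinearGroup.det x) _, mul_assoc, mul_assoc]
          simp
        have := congrArg Units.val h1
        exact this
    intro g hg
    obtain ⟨hg1, hg2⟩ := hle hg
    apply Units.ext
    rw [Units.val_pow_eq_pow_val]
    exact pow_char_eq_one_of_fix p _ v hv hg1 hg2

end Cfsg.Agent.Lib.Helper1.GLTwo
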