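import Mathlib
import Cfsg.Agent.Lib.Helper1.GL3

set_option autoImplicit false
universe u v
open scoped commutatorElement

namespace Cfsg.Agent.Lib.Helper1.GLTwo

open Matrix

/-- Bridge: a solvable group of odd order acting on an elementary abelian group of order `p²`
(`p` odd) has derived subgroup acting with exponent dividing `p`. -/
theorem commutator_pow_of_action {V : Type u} {B : Type v} [Group V] [Finite V] [Group B]
    [Finite B] (p : ℕ) [hp : Fact p.Prime] (hp2 : p ≠ 2) (hcomm : ∀ x y : V, x * y = y * x)
    (hexp : ∀ x : V, x ^ p = 1) (hcard : Nat.card V = p ^ 2) (ρ : B →* MulAut V)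
    (hodd : Odd (Nat.card B)) (hsolv : Group.IsSolvable B) :
    ∀ x ∈ commutator B, (ρ x) ^ p = 1 := by
  classical
  letI instC : CommGroup V := { ‹Group V› with mul_comm := hcomm }
  have hexpW : ∀ w : Additive V, p • w = 0 := by
    intro w
    change Additive.ofMul ((Additive.toMul w) ^ p) = 0
    rw [hexp]; rfl
  letI instM : Module (ZMod p) (Additive V) := AddCommGroup.zmodModule (n := p) hexpW
  haveI : Finite (Additive V) := inferInstanceAs (Finite V)
  haveI i2 : Module.Finite (ZMod p) (Additive V) := Module.Finite.of_finite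
  have hfin : Module.finrank (ZMod p) (Additive V) = 2 := by
    have h1 : Nat.card (Additive V) = Nat.card (ZMod p) ^ Module.finrank (ZMod p) (Additive V) :=
      Module.natCard_eq_pow_finrank
    have h2 : Nat.card (Additive V) = p ^ 2 := hcard
    rw [h2, Nat.card_zmod] at h1
    exact (Nat.pow_right_injective hp.out.two_le h1).symm
  let bas : Module.Basis (Fin 2) (ZMod p) (Additive V) :=
    Module.finBasisOfFinrankEq (ZMod p) (Additive V) hfin
  let L : MulAut V → (Additive V →ₗ[ZMod p] Additive V) := fun φ =>
    (MulEquiv.toAdditive (φ : V ≃* V)).toAddMonoidHom.toZModLinearMap p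
  have hL : ∀ (φ : MulAut V) (w : Additive V), L φ w = Additive.ofMul (φ (Additive.toMul w)) :=
    fun φ w => rfl
  let Mhom : MulAut V →* Matrix (Fin 2) (Fin 2) (ZMod p) :=
    { toFun := fun φ => LinearMap.toMatrix bas bas (L φ)
      map_one' := by
        have : L 1 = LinearMap.id := by
          ext w; rw [hL]; rfl
        show LinearMap.toMatrix bas bas (L 1) = 1
        rw [this, LinearMap.toMatrix_id]
      map_mul' := by
        intro φ ψ
        have : L (φ * ψ) = L φ ∘ₗ L ψ := by
          ext w; rw [hL]; rfl
        show LinearMap.toMatrix bas bas (L (φ * ψ)) = _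
        rw [this, LinearMap.toMatrix_comp bas bas bas] }
  let Θ : MulAut V →* GL (Fin 2) (ZMod p) := Mhom.toHomUnits
  have hΘval : ∀ φ : MulAut V, ((Θ φ : GL (Fin 2) (ZMod p)) : Matrix (Fin 2) (Fin 2) (ZMod p)) =
      LinearMap.toMatrix bas bas (L φ) := fun φ => rfl
  have hΘinj : Function.Injective Θ := by
    rw [injective_iff_map_eq_one]
    intro φ hφ
    have h1 : LinearMap.toMatrix bas bas (L φ) = 1 := by
      rw [← hΘval, hφ]; rfl
    have h2 : L φ = LinearMap.id := by
      apply (LinearMap.toMatrix bas bas).injective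
      rw [h1, LinearMap.toMatrix_id]
    ext x
    have := LinearMap.congr_fun h2 (Additive.ofMul x)
    rw [hL] at this
    exact this
  let f : B →* GL (Fin 2) (ZMod p) := Θ.comp ρ
  have hHfin : Finite f.range := Finite.of_surjective f.rangeRestrict f.rangeRestrict_surjective
  have hHodd : Odd (Nat.card f.range) := Odd.of_dvd_nat hodd (Subgroup.card_range_dvd f)
  have hHsolv : Group.IsSolvable f.range :=
    Group.isSolvable_of_surjective f.rangeRestrict_surjective
  have hmain := commutator_pow_char p hp2 f.range hHodd hHsolv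
  intro x hx
  have h1 : f x ∈ ⁅f.range, f.range⁆ := by
    have h2 : (commutator B).map f = ⁅f.range, f.range⁆ := by
      rw [commutator_def, Subgroup.map_commutator, ← MonoidHom.range_eq_map]
    rw [← h2]
    exact Subgroup.mem_map_of_mem f hx
  have h3 := hmain _ h1
  apply hΘinj
  rw [map_pow, map_one]
  exact h3

end Cfsg.Agent.Lib.Helper1.GLTwo
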