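import Mathlib
import Cfsg.Agent.Lib.Helper1.FrattiniP
set_option autoImplicit false
universe u v
open scoped Pointwise commutatorElement
namespace Cfsg.Agent.Lib.Helper1
variable {G : Type u} [Group G]

theorem relIndex_zpowers_sup_eq_prime [Finite G] (p : ℕ) [hp : Fact p.Prime] (N : Subgroup G) [hN : N.Normal]
    (a : G) (ha : a ∉ N) (hap : a ^ p ∈ N) : N.relIndex (Subgroup.zpowers a ⊔ N) = p := by
  rw [Subgroup.relIndex_sup_right]
  have h1 := Subgroup.relIndex_ker (K := Subgroup.zpowers a) (QuotientGroup.mk' N)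
  rw [QuotientGroup.ker_mk'] at h1
  rw [h1, MonoidHom.map_zpowers, Nat.card_zpowers]
  apply orderOf_eq_prime
  · rw [QuotientGroup.mk'_apply, ← QuotientGroup.mk_pow]
    exact (QuotientGroup.eq_one_iff _).mpr hap
  · intro h
    exact ha ((QuotientGroup.eq_one_iff _).mp h)

theorem burnside_basis_aux [Finite G] (p : ℕ) [hp : Fact p.Prime]
    (hG : IsPGroup p G) (S : Finset G) :
    ∃ T : Finset G, T ⊆ S ∧
      Subgroup.closure (T : Set G) ⊔ frattini G = Subgroup.closure (S : Set G) ⊔ frattini G ∧
      (frattini G).relIndex (Subgroup.closure (S : Set G) ⊔ frattini G) = p ^ T.card := by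
  classical
  induction S using Finset.induction_on with
  | empty => exact ⟨∅, subset_rfl, rfl, by simp⟩
  | insert a S' ha ih =>
    obtain ⟨T', hT'S, hT'cl, hT'card⟩ := ih
    have hins : ∀ X : Finset G, Subgroup.closure ((insert a X : Finset G) : Set G) ⊔ frattini G
        = Subgroup.zpowers a ⊔ (Subgroup.closure (X : Set G) ⊔ frattini G) := by
      intro X
      rw [Finset.coe_insert, Set.insert_eq, Subgroup.closure_union, Subgroup.zpowers_eq_closure,
        sup_assoc]
    by_cases hmem : a ∈ Subgroup.closure (S' : Set G) ⊔ frattini G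
    · have hz : Subgroup.zpowers a ≤ Subgroup.closure (S' : Set G) ⊔ frattini G := by
        rw [Subgroup.zpowers_le]; exact hmem
      refine ⟨T', hT'S.trans (Finset.subset_insert _ _), ?_, ?_⟩
      · rw [hT'cl, hins, sup_eq_right.mpr hz]
      · rw [hins, sup_eq_right.mpr hz, hT'card]
    · refine ⟨insert a T', Finset.insert_subset_insert a hT'S, ?_, ?_⟩
      · rw [hins, hins, hT'cl]
      · have haT : a ∉ T' := fun h => ha (hT'S h)
        rw [hins, Finset.card_insert_of_notMem haT, pow_succ, ← hT'card]
        have hN : (Subgroup.closure (S' : Set G) ⊔ frattini G).Normal := by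
          apply normal_of_commutator_le
          exact (commutator_le_frattini_of_isPGroup p hG).trans le_sup_right
        have h2 := relIndex_zpowers_sup_eq_prime p (Subgroup.closure (S' : Set G) ⊔ frattini G) a hmem
          (le_sup_right (a := Subgroup.closure (S' : Set G)) (pow_prime_mem_frattini_of_isPGroup p hG a))
        rw [← Subgroup.relIndex_mul_relIndex (frattini G) (Subgroup.closure (S' : Set G) ⊔ frattini G)
          (Subgroup.zpowers a ⊔ (Subgroup.closure (S' : Set G) ⊔ frattini G)) le_sup_right le_sup_right, h2]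

theorem burnside_basis [Finite G] (p n : ℕ) [hp : Fact p.Prime]
    (hG : IsPGroup p G) (hn : (frattini G).index = p ^ n) :
    (∀ S : Finset G, Subgroup.closure (S : Set G) = ⊤ → ∃ T : Finset G, T ⊆ S ∧ T.card = n ∧ Subgroup.closure (T : Set G) = ⊤) ∧
    (∀ T : Finset G, Subgroup.closure (T : Set G) = ⊤ → n ≤ T.card) := by
  have key : ∀ S : Finset G, Subgroup.closure (S : Set G) = ⊤ →
      ∃ T : Finset G, T ⊆ S ∧ T.card = n ∧ Subgroup.closure (T : Set G) = ⊤ := by
    intro S hS
    obtain ⟨T, hTS, hcl, hcard⟩ := burnside_basis_aux p hG S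
    rw [hS, top_sup_eq] at hcl hcard
    rw [Subgroup.relIndex_top_right, hn] at hcard
    refine ⟨T, hTS, (Nat.pow_right_injective hp.out.two_le hcard).symm, ?_⟩
    exact frattini_nongenerating hcl
  refine ⟨key, ?_⟩
  intro T hT
  obtain ⟨T', hT'T, hcard, -⟩ := key T hT
  rw [← hcard]
  exact Finset.card_le_card hT'T

end Cfsg.Agent.Lib.Helper1
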