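import Mathlib
import Cfsg.Prelude.Def_OddOrderLocal
import Cfsg.Agent.S4207
import Cfsg.Agent.Lib.Helper1.BurnsideBasis

set_option autoImplicit false
universe u
open scoped commutatorElement

namespace Cfsg.Agent.Lib.Helper1.MC

variable {X : Type u} [Group X]

/-- No subgroup of index two is invariant under `α`. -/
def NoInv (α : MulAut X) : Prop :=
  ∀ M : Subgroup X, M.index = 2 → (∀ x ∈ M, α x ∈ M) → False

/-- Every element is `a ^ i * b ^ j`. -/
def Gen (a b : X) : Prop := ∀ x : X, ∃ i j : ℤ, x = a ^ i * b ^ j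

theorem exists_gen (h : Cfsg.IsMetacyclic X) :
    ∃ a b : X, Gen a b ∧ (Subgroup.zpowers a).Normal := by
  obtain ⟨N, hN, hNc, hQc⟩ := h
  obtain ⟨⟨a, haN⟩, ha⟩ := hNc.exists_generator
  obtain ⟨q, hq⟩ := hQc.exists_generator
  obtain ⟨b, rfl⟩ := QuotientGroup.mk_surjective q
  have hNa : N = Subgroup.zpowers a := by
    apply le_antisymm
    · intro n hn
      obtain ⟨k, hk⟩ := Subgroup.mem_zpowers_iff.mp (ha ⟨n, hn⟩)
      have h1 := congrArg Subtype.val hk
      rw [Subgroup.coe_zpow] at h1
      exact Subgroup.mem_zpowers_iff.mpr ⟨k, h1⟩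
    · rw [Subgroup.zpowers_le]; exact haN
  refine ⟨a, b, ?_, hNa ▸ hN⟩
  intro x
  obtain ⟨j, hj⟩ := Subgroup.mem_zpowers_iff.mp (hq (x : X ⧸ N))
  have h1 : (b ^ j)⁻¹ * x ∈ N := by
    rw [← QuotientGroup.eq, QuotientGroup.mk_zpow]; exact hj
  have h2 : b ^ j * ((b ^ j)⁻¹ * x) * (b ^ j)⁻¹ ∈ N := hN.conj_mem _ h1 _
  rw [hNa] at h2
  obtain ⟨i, hi⟩ := Subgroup.mem_zpowers_iff.mp h2
  refine ⟨i, j, ?_⟩
  rw [hi]; group

theorem frattini_le_of_index_two (M : Subgroup X) (hM : M.index = 2) : frattini X ≤ M := by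
  apply frattini_le_coatom
  constructor
  · intro h; rw [h, Subgroup.index_top] at hM; omega
  · intro K hK
    have h1 := Subgroup.relIndex_mul_index hK.le
    rw [hM] at h1
    have h2 : K.index = 1 ∨ K.index = 2 :=
      (Nat.dvd_prime Nat.prime_two).mp (Dvd.intro_left _ h1)
    rcases h2 with h2 | h2
    · exact Subgroup.index_eq_one.mp h2
    · rw [h2] at h1
      have h3 : M.relIndex K = 1 := by omega
      exact absurd (Subgroup.relIndex_eq_one.mp h3) (not_le_of_gt hK)

/-- Automorphisms acting trivially on the Frattini quotient. -/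
def trivModFrattini (X : Type u) [Group X] : Subgroup (MulAut X) where
  carrier := {γ | ∀ x, γ x * x⁻¹ ∈ frattini X}
  one_mem' := by intro x; simp
  mul_mem' := by
    intro γ δ hγ hδ x
    have : (γ * δ) x * x⁻¹ = (γ (δ x) * (δ x)⁻¹) * (δ x * x⁻¹) := by
      rw [MulAut.mul_apply]; group
    rw [this]; exact mul_mem (hγ _) (hδ _)
  inv_mem' := by
    intro γ hγ x
    have h := hγ (γ⁻¹ x)
    rw [MulAut.apply_inv_self] at h
    have : γ⁻¹ x * x⁻¹ = (x * (γ⁻¹ x)⁻¹)⁻¹ := by group
    rw [this]; exact inv_mem h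

theorem frattini_aut_mem (γ : MulAut X) (x : X) : γ x ∈ frattini X ↔ x ∈ frattini X := by
  have h := (frattini_characteristic (G := X)).fixed γ
  constructor
  · intro hx
    rw [← h]; exact Subgroup.mem_comap.mpr hx
  · intro hx
    rw [← h] at hx; exact Subgroup.mem_comap.mp hx

theorem noInv_of_odd [Finite X] (hX : IsPGroup 2 X) (a b : X) (hgen : Gen a b)
    (α : MulAut X) (hodd : Odd (orderOf α)) (hα : α ≠ 1) : NoInv α := by
  intro M hM hinv
  classical
  have hcl : Subgroup.closure (({a, b} : Finset X) : Set X) = ⊤ := by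
    rw [eq_top_iff]; intro x _
    obtain ⟨i, j, rfl⟩ := hgen x
    apply Subgroup.mul_mem
    · apply Subgroup.zpow_mem; apply Subgroup.subset_closure; simp
    · apply Subgroup.zpow_mem; apply Subgroup.subset_closure; simp
  obtain ⟨T, hTS, -, hcard⟩ := burnside_basis_aux 2 hX ({a, b} : Finset X)
  rw [hcl, top_sup_eq, Subgroup.relIndex_top_right] at hcard
  have hT2 : T.card ≤ 2 := (Finset.card_le_card hTS).trans Finset.card_le_two
  have hΦM : frattini X ≤ M := frattini_le_of_index_two M hM
  have hΦn : (frattini X).Normal := Subgroup.normal_of_characteristic _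
  have hrel := Subgroup.relIndex_mul_index hΦM
  rw [hM, hcard] at hrel
  have hr : (frattini X).relIndex M = 1 ∨ (frattini X).relIndex M = 2 := by
    have : T.card = 0 ∨ T.card = 1 ∨ T.card = 2 := by omega
    rcases this with h | h | h <;> rw [h] at hrel <;> omega
  -- K1
  have K1 : ∀ s t : X, s ∈ M → t ∈ M → s ∉ frattini X → t ∉ frattini X → s⁻¹ * t ∈ frattini X := by
    intro s t hs ht hsΦ htΦ
    rcases hr with hr | hr
    · exact absurd (Subgroup.relIndex_eq_one.mp hr hs) hsΦ
    · have h2 : ((frattini X).subgroupOf M).index = 2 := hr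
      have h3 := Subgroup.mul_mem_iff_of_index_two h2 (a := (⟨s⁻¹, inv_mem hs⟩ : M)) (b := ⟨t, ht⟩)
      rw [Subgroup.mem_subgroupOf, Subgroup.mem_subgroupOf, Subgroup.mem_subgroupOf] at h3
      apply h3.mpr
      constructor
      · intro h; exact absurd (inv_mem_iff.mp h) hsΦ
      · intro h; exact absurd h htΦ
  -- K2
  have K2 : ∀ x ∈ M, α x * x⁻¹ ∈ frattini X := by
    intro x hx
    by_cases hxΦ : x ∈ frattini X
    · exact mul_mem ((frattini_aut_mem α x).mpr hxΦ) (inv_mem hxΦ)
    · have h1 : α x ∉ frattini X := fun h => hxΦ ((frattini_aut_mem α x).mp h)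
      have h2 := K1 x (α x) hx (hinv x hx) hxΦ h1
      have h3 := hΦn.conj_mem _ h2 x
      have : x * (x⁻¹ * α x) * x⁻¹ = α x * x⁻¹ := by group
      rw [this] at h3; exact h3
  -- α^k preserves M
  have hpow : ∀ k : ℕ, ∀ x ∈ M, (α ^ k) x ∈ M := by
    intro k
    induction k with
    | zero => intro x hx; simpa using hx
    | succ k ih =>
      intro x hx
      rw [pow_succ, MulAut.mul_apply]
      exact ih _ (hinv x hx)
  have hinvM : ∀ x, α x ∈ M → x ∈ M := by
    intro x hx
    have h1 := hpow (orderOf α - 1) (α x) hx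
    have h2 : (α ^ (orderOf α - 1)) (α x) = x := by
      rw [← MulAut.mul_apply, ← pow_succ]
      have hpos : 0 < orderOf α := orderOf_pos α
      rw [Nat.sub_add_cancel hpos, pow_orderOf_eq_one]; rfl
    rw [h2] at h1; exact h1
  -- β = α * α is trivial modulo Φ
  have hβ : α * α ∈ trivModFrattini X := by
    intro x
    by_cases hx : x ∈ M
    · have h1 := K2 x hx
      have h2 := K2 (α x) (hinv x hx)
      have : (α * α) x * x⁻¹ = (α (α x) * (α x)⁻¹) * (α x * x⁻¹) := by
        rw [MulAut.mul_apply]; group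
      rw [this]; exact mul_mem h2 h1
    · have h1 : α x ∉ M := fun h => hx (hinvM x h)
      have h2 : x⁻¹ * α x ∈ M := by
        apply (Subgroup.mul_mem_iff_of_index_two hM).mpr
        constructor
        · intro h; exact absurd (inv_mem_iff.mp h) hx
        · intro h; exact absurd h h1
      set m := x⁻¹ * α x with hm
      have h3 : α x = x * m := by rw [hm]; group
      have h4 := K2 m h2
      have h5 : m * m ∈ frattini X := by
        have := pow_prime_mem_frattini_of_isPGroup 2 hX m
        rwa [pow_two] at this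
      have h6 : m * α m ∈ frattini X := by
        have h7 := hΦn.conj_mem _ h4 m
        have : m * α m = (m * (α m * m⁻¹) * m⁻¹) * (m * m) := by group
        rw [this]; exact mul_mem h7 h5
      have h8 := hΦn.conj_mem _ h6 x
      have : (α * α) x * x⁻¹ = x * (m * α m) * x⁻¹ := by
        rw [MulAut.mul_apply]
        conv_lhs => rw [h3, map_mul, h3]
        group
      rw [this]; exact h8
  obtain ⟨n, hn⟩ := IsPGroup.iff_card.mp hX
  have hdvd := Cfsg.Agent.S4207.result (P := X) (p := 2) (n := n) (r := T.card) hn hcard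
    (trivModFrattini X) (fun γ hγ x => hγ x)
  have h1 : orderOf (α * α) ∣ 2 ^ (T.card * (n - T.card)) :=
    (Subgroup.orderOf_dvd_natCard _ hβ).trans hdvd
  have h2 : orderOf (α * α) ∣ orderOf α := by
    rw [← pow_two]; exact orderOf_pow_dvd 2
  have h3 : Odd (orderOf (α * α)) := Odd.of_dvd_nat hodd h2
  have h4 : orderOf (α * α) = 1 := by
    apply Nat.Coprime.eq_one_of_dvd _ h1
    exact (Nat.Coprime.pow_right _ (Nat.coprime_two_right.mpr h3))
  have h5 : α ^ 2 = 1 := by rw [pow_two]; exact orderOf_eq_one_iff.mp h4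
  have h6 : orderOf α ∣ 2 := orderOf_dvd_of_pow_eq_one h5
  have h7 : orderOf α = 1 := by
    rcases (Nat.dvd_prime Nat.prime_two).mp h6 with h | h
    · exact h
    · rw [h] at hodd; exact absurd hodd (by decide)
  exact hα (orderOf_eq_one_iff.mp h7)

end Cfsg.Agent.Lib.Helper1.MC
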