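import Mathlib
import Cfsg.Prelude.Def_PLocal
import Cfsg.Agent.Lib.Helper1.Reg2

/-! Collection formula in class at most three, and consequences. -/
set_option autoImplicit false
open scoped commutatorElement
universe u

namespace Cfsg.Agent.Lib.Helper1.Reg

section collect
variable {G : Type*} [Group G]

/-- `[b,a] = b⁻¹a⁻¹ba`. -/
def cu (a b : G) : G := b⁻¹ * a⁻¹ * b * a
/-- `[[b,a],a]`. -/
def cv (a b : G) : G := (cu a b)⁻¹ * a⁻¹ * cu a b * a
/-- `[[b,a],b]`. -/
def cw (a b : G) : G := (cu a b)⁻¹ * b⁻¹ * cu a b * b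

/-- exponent of `[[b,a],b]` in the collection formula. -/
def cgam : ℕ → ℕ
  | 0 => 0
  | (n + 1) => n + Nat.choose n 2 + Nat.choose n 2 + cgam n

theorem two_mul_choose_two (n : ℕ) : 2 * Nat.choose (n + 1) 2 = (n + 1) * n := by
  induction n with
  | zero => simp
  | succ k ih =>
    rw [Nat.choose_succ_succ, Nat.choose_one_right, mul_add, ih]
    ring

theorem six_mul_cgam (n : ℕ) : 6 * cgam (n + 1) = n * (n + 1) * (2 * n + 1) := by
  induction n with
  | zero => simp [cgam]
  | succ k ih =>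
    have h2 := two_mul_choose_two k
    show 6 * (k + 1 + Nat.choose (k + 1) 2 + Nat.choose (k + 1) 2 + cgam (k + 1)) = _
    have : 6 * (k + 1 + Nat.choose (k + 1) 2 + Nat.choose (k + 1) 2 + cgam (k + 1)) =
        6 * (k + 1) + 6 * (2 * Nat.choose (k + 1) 2) + 6 * cgam (k + 1) := by ring
    rw [this, ih, h2]
    ring

theorem central_comm {z x : G} (h : Commute z x) (r : G) : z * (x * r) = x * (z * r) := by
  rw [← mul_assoc, h.eq, mul_assoc]

variable (a b : G)

theorem cu_a (r : G) : cu a b * (a * r) = a * (cu a b * (cv a b * r)) := by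
  unfold cv; group

theorem cu_b (r : G) : cu a b * (b * r) = b * (cu a b * (cw a b * r)) := by
  unfold cw; group

theorem b_a (r : G) : b * (a * r) = a * (b * (cu a b * r)) := by
  unfold cu; group

variable {a b}
variable (hva : Commute (cv a b) a) (hvb : Commute (cv a b) b)
  (hwa : Commute (cw a b) a) (hwb : Commute (cw a b) b)

include hva hvb in
theorem cv_cu : Commute (cv a b) (cu a b) := by
  unfold cu
  exact (((hvb.inv_right).mul_right (hva.inv_right)).mul_right hvb).mul_right hva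

include hwa hwb in
theorem cw_cu : Commute (cw a b) (cu a b) := by
  unfold cu
  exact (((hwb.inv_right).mul_right (hwa.inv_right)).mul_right hwb).mul_right hwa

include hva hvb in
theorem cv_cw : Commute (cv a b) (cw a b) := by
  have h := cv_cu hva hvb
  unfold cw
  exact (((h.inv_right).mul_right (hvb.inv_right)).mul_right h).mul_right hvb

include hva hvb in
theorem cu_pow_a (m : ℕ) (r : G) :
    cu a b ^ m * (a * r) = a * (cu a b ^ m * (cv a b ^ m * r)) := by
  induction m generalizing r with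
  | zero => simp
  | succ k ih =>
    rw [pow_succ, mul_assoc, cu_a, ih, pow_succ (cv a b), mul_assoc (cu a b ^ k) (cu a b),
      central_comm ((cv_cu hva hvb).pow_left k), mul_assoc]

include hwa hwb in
theorem cu_pow_b (m : ℕ) (r : G) :
    cu a b ^ m * (b * r) = b * (cu a b ^ m * (cw a b ^ m * r)) := by
  induction m generalizing r with
  | zero => simp
  | succ k ih =>
    rw [pow_succ, mul_assoc, cu_b, ih, pow_succ (cw a b), mul_assoc (cu a b ^ k) (cu a b),
      central_comm ((cw_cu hwa hwb).pow_left k), mul_assoc]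

include hwb in
theorem cu_b_pow (n : ℕ) (r : G) :
    cu a b * (b ^ n * r) = b ^ n * (cu a b * (cw a b ^ n * r)) := by
  induction n generalizing r with
  | zero => simp
  | succ k ih =>
    calc cu a b * (b ^ (k + 1) * r) = cu a b * (b ^ k * (b * r)) := by rw [pow_succ, mul_assoc]
      _ = b ^ k * (cu a b * (cw a b ^ k * (b * r))) := ih _
      _ = b ^ k * (cu a b * (b * (cw a b ^ k * r))) := by rw [central_comm (hwb.pow_left k)]
      _ = b ^ k * (b * (cu a b * (cw a b * (cw a b ^ k * r)))) := by rw [cu_b]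
      _ = b ^ (k + 1) * (cu a b * (cw a b ^ (k + 1) * r)) := by
        rw [pow_succ b, pow_succ' (cw a b), mul_assoc, mul_assoc]

include hwa hwb in
theorem b_pow_a (n : ℕ) (r : G) :
    b ^ n * (a * r) = a * (b ^ n * (cu a b ^ n * (cw a b ^ (Nat.choose n 2) * r))) := by
  induction n generalizing r with
  | zero => simp
  | succ k ih =>
    have hwu := cw_cu hwa hwb
    calc b ^ (k + 1) * (a * r) = b * (b ^ k * (a * r)) := by rw [pow_succ', mul_assoc]
      _ = b * (a * (b ^ k * (cu a b ^ k * (cw a b ^ (Nat.choose k 2) * r)))) := by rw [ih]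
      _ = a * (b * (cu a b * (b ^ k * (cu a b ^ k * (cw a b ^ (Nat.choose k 2) * r))))) := by
        rw [b_a]
      _ = a * (b * (b ^ k * (cu a b * (cw a b ^ k * (cu a b ^ k *
            (cw a b ^ (Nat.choose k 2) * r)))))) := by rw [cu_b_pow hwb]
      _ = a * (b * (b ^ k * (cu a b * (cu a b ^ k * (cw a b ^ k *
            (cw a b ^ (Nat.choose k 2) * r)))))) := by rw [central_comm (hwu.pow_pow k k)]
      _ = a * (b ^ (k + 1) * (cu a b ^ (k + 1) * (cw a b ^ (Nat.choose (k + 1) 2) * r))) := by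
        have e : Nat.choose (k + 1) 2 = k + Nat.choose k 2 := by
          rw [Nat.choose_succ_succ, Nat.choose_one_right]
        rw [e, pow_add (cw a b), pow_succ' b, pow_succ' (cu a b), mul_assoc, mul_assoc, mul_assoc]

include hva hvb hwa hwb in
theorem collect (n : ℕ) (r : G) :
    (a * b) ^ n * r = a ^ n * (b ^ n * (cu a b ^ (Nat.choose n 2) *
      (cv a b ^ (Nat.choose n 3) * (cw a b ^ (cgam n) * r)))) := by
  induction n generalizing r with
  | zero => simp [cgam]
  | succ k ih =>
    have hwu := cw_cu hwa hwb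
    have hvu := cv_cu hva hvb
    have hvw := cv_cw hva hvb
    have e2 : Nat.choose (k + 1) 2 = k + Nat.choose k 2 := by
      rw [Nat.choose_succ_succ, Nat.choose_one_right]
    have e3 : Nat.choose (k + 1) 3 = Nat.choose k 2 + Nat.choose k 3 := by
      rw [Nat.choose_succ_succ]
    have eg : cgam (k + 1) = k + Nat.choose k 2 + Nat.choose k 2 + cgam k := rfl
    calc (a * b) ^ (k + 1) * r = (a * b) ^ k * (a * (b * r)) := by
          rw [pow_succ, mul_assoc, mul_assoc]
      _ = a ^ k * (b ^ k * (cu a b ^ (Nat.choose k 2) *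
            (cv a b ^ (Nat.choose k 3) * (cw a b ^ (cgam k) * (a * (b * r)))))) := ih _
      _ = a ^ k * (b ^ k * (cu a b ^ (Nat.choose k 2) *
            (a * (cv a b ^ (Nat.choose k 3) * (cw a b ^ (cgam k) * (b * r)))))) := by
        rw [central_comm (hwa.pow_left _), central_comm (hva.pow_left _)]
      _ = a ^ k * (b ^ k * (a * (cu a b ^ (Nat.choose k 2) * (cv a b ^ (Nat.choose k 2) *
            (cv a b ^ (Nat.choose k 3) * (cw a b ^ (cgam k) * (b * r))))))) := by
        rw [cu_pow_a hva hvb]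
      _ = a ^ k * (a * (b ^ k * (cu a b ^ k * (cw a b ^ (Nat.choose k 2) *
            (cu a b ^ (Nat.choose k 2) * (cv a b ^ (Nat.choose k 2) *
            (cv a b ^ (Nat.choose k 3) * (cw a b ^ (cgam k) * (b * r))))))))) := by
        rw [b_pow_a hwa hwb]
      _ = a ^ k * (a * (b ^ k * (cu a b ^ k * (cw a b ^ (Nat.choose k 2) *
            (cu a b ^ (Nat.choose k 2) * (b * (cv a b ^ (Nat.choose k 2) *
            (cv a b ^ (Nat.choose k 3) * (cw a b ^ (cgam k) * r))))))))) := by
        rw [central_comm (hwb.pow_left (cgam k)), central_comm (hvb.pow_left (Nat.choose k 3)),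
          central_comm (hvb.pow_left (Nat.choose k 2))]
      _ = a ^ k * (a * (b ^ k * (cu a b ^ k * (cw a b ^ (Nat.choose k 2) *
            (b * (cu a b ^ (Nat.choose k 2) * (cw a b ^ (Nat.choose k 2) *
            (cv a b ^ (Nat.choose k 2) *
            (cv a b ^ (Nat.choose k 3) * (cw a b ^ (cgam k) * r)))))))))) := by
        rw [cu_pow_b hwa hwb]
      _ = a ^ k * (a * (b ^ k * (b * (cu a b ^ k * (cw a b ^ k * (cw a b ^ (Nat.choose k 2) *
            (cu a b ^ (Nat.choose k 2) * (cw a b ^ (Nat.choose k 2) *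
            (cv a b ^ (Nat.choose k 2) *
            (cv a b ^ (Nat.choose k 3) * (cw a b ^ (cgam k) * r))))))))))) := by
        rw [central_comm (hwb.pow_left (Nat.choose k 2)), cu_pow_b hwa hwb]
      _ = a ^ (k + 1) * (b ^ (k + 1) * (cu a b ^ (Nat.choose (k + 1) 2) *
            (cv a b ^ (Nat.choose (k + 1) 3) * (cw a b ^ (cgam (k + 1)) * r)))) := by
        rw [e2, e3, eg]
        rw [pow_succ a, pow_succ b, mul_assoc (a ^ k) a, mul_assoc (b ^ k) b]
        congr 4
        rw [pow_add (cu a b), mul_assoc]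
        congr 1
        -- move w-powers right past `u ^ choose`
        rw [central_comm (hwu.pow_pow (Nat.choose k 2) (Nat.choose k 2)),
          central_comm (hwu.pow_pow k (Nat.choose k 2))]
        congr 1
        -- now only v's and w's
        rw [central_comm (hvw.symm.pow_pow (Nat.choose k 2) (Nat.choose k 2)),
          central_comm (hvw.symm.pow_pow (Nat.choose k 2) (Nat.choose k 2)),
          central_comm (hvw.symm.pow_pow k (Nat.choose k 2))]
        rw [central_comm (hvw.symm.pow_pow (Nat.choose k 2) (Nat.choose k 3)),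
          central_comm (hvw.symm.pow_pow (Nat.choose k 2) (Nat.choose k 3)),
          central_comm (hvw.symm.pow_pow k (Nat.choose k 3))]
        rw [pow_add (cv a b), pow_add (cw a b), pow_add (cw a b), pow_add (cw a b)]
        simp only [mul_assoc]

include hva hvb hwa hwb in
theorem exists_pow_of_collect {p : ℕ} (α' : ℕ) (h2 : Nat.choose p 2 = α' * p)
    (hv : ∃ β' : ℕ, cv a b ^ (Nat.choose p 3) = (cv a b ^ β') ^ p)
    (hw : ∃ γ' : ℕ, cw a b ^ (cgam p) = (cw a b ^ γ') ^ p) :
    ∃ β' γ' : ℕ, (a * b) ^ p = a ^ p * b ^ p * (cu a b ^ α' * (cv a b ^ β' * cw a b ^ γ')) ^ p := by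
  obtain ⟨β', hβ⟩ := hv
  obtain ⟨γ', hγ⟩ := hw
  refine ⟨β', γ', ?_⟩
  have hwu := cw_cu hwa hwb
  have hvu := cv_cu hva hvb
  have hvw := cv_cw hva hvb
  have h := collect hva hvb hwa hwb p 1
  rw [mul_one, mul_one] at h
  rw [h, h2, hβ, hγ, pow_mul]
  have c1 : Commute (cu a b ^ α') (cv a b ^ β' * cw a b ^ γ') :=
    ((hvu.symm.pow_pow α' β').mul_right (hwu.symm.pow_pow α' γ'))
  rw [c1.mul_pow, (hvw.pow_pow β' γ').mul_pow]
  simp only [mul_assoc]

end collect

section classThree
variable {R : Type u} [Group R]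

theorem cu_mem (a b : R) : cu a b ∈ ⁅Subgroup.closure ({a, b} : Set R),
    Subgroup.closure ({a, b} : Set R)⁆ := by
  have e : cu a b = ⁅b⁻¹, a⁻¹⁆ := by rw [commutatorElement_def]; unfold cu; group
  rw [e]
  exact Subgroup.commutator_mem_commutator
    (Subgroup.inv_mem _ (Subgroup.subset_closure (Or.inr rfl)))
    (Subgroup.inv_mem _ (Subgroup.subset_closure (Or.inl rfl)))

theorem cv_eq (a b : R) : cv a b = ⁅(cu a b)⁻¹, a⁻¹⁆ := by
  rw [commutatorElement_def]; unfold cv; group

theorem cw_eq (a b : R) : cw a b = ⁅(cu a b)⁻¹, b⁻¹⁆ := by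
  rw [commutatorElement_def]; unfold cw; group

theorem cv_mem (a b : R) : cv a b ∈ ⁅Subgroup.closure ({a, b} : Set R),
    Subgroup.closure ({a, b} : Set R)⁆ := by
  rw [cv_eq]
  exact Subgroup.commutator_mem_commutator
    (Subgroup.inv_mem _ (Subgroup.commutator_le_self _ (cu_mem a b)))
    (Subgroup.inv_mem _ (Subgroup.subset_closure (Or.inl rfl)))

theorem cw_mem (a b : R) : cw a b ∈ ⁅Subgroup.closure ({a, b} : Set R),
    Subgroup.closure ({a, b} : Set R)⁆ := by
  rw [cw_eq]
  exact Subgroup.commutator_mem_commutator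
    (Subgroup.inv_mem _ (Subgroup.commutator_le_self _ (cu_mem a b)))
    (Subgroup.inv_mem _ (Subgroup.subset_closure (Or.inr rfl)))

theorem cu_mem_commutator (a b : R) : cu a b ∈ commutator R := by
  rw [commutator_def]
  exact Subgroup.commutator_mono le_top le_top (cu_mem a b)

theorem commute_of_mem_of_commutator_eq_bot {K : Subgroup R} (h : ⁅K, (⊤ : Subgroup R)⁆ = ⊥)
    {z : R} (hz : z ∈ K) (g : R) : Commute z g := by
  have : ⁅z, g⁆ ∈ ⁅K, (⊤ : Subgroup R)⁆ :=
    Subgroup.commutator_mem_commutator hz (Subgroup.mem_top g)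
  rw [h, Subgroup.mem_bot, commutatorElement_eq_one_iff_mul_comm] at this
  exact this

theorem dvd_cgam {p : ℕ} (hp : p.Prime) (h3 : 3 < p) : p ∣ cgam p := by
  have h6 := six_mul_cgam (p - 1)
  rw [Nat.sub_add_cancel hp.one_le] at h6
  have hd : p ∣ 6 * cgam p := ⟨(p - 1) * (2 * (p - 1) + 1), by rw [h6]; ring⟩
  rcases (Nat.Prime.dvd_mul hp).mp hd with h | h
  · exfalso
    have hle := Nat.le_of_dvd (by norm_num) h
    interval_cases p
    · exact absurd hp (by norm_num)
    · exact absurd h (by norm_num)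
    · exact absurd hp (by norm_num)
  · exact h

theorem WR_of_class_three {p : ℕ} [hp : Fact p.Prime] (h3 : 3 < p)
    (hcl : ⁅⁅commutator R, (⊤ : Subgroup R)⁆, (⊤ : Subgroup R)⁆ = ⊥) : WR p R := by
  intro a b
  have hvm : cv a b ∈ ⁅commutator R, (⊤ : Subgroup R)⁆ := by
    rw [cv_eq]
    exact Subgroup.commutator_mem_commutator (Subgroup.inv_mem _ (cu_mem_commutator a b))
      (Subgroup.mem_top _)
  have hwm : cw a b ∈ ⁅commutator R, (⊤ : Subgroup R)⁆ := by
    rw [cw_eq]
    exact Subgroup.commutator_mem_commutator (Subgroup.inv_mem _ (cu_mem_commutator a b))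
      (Subgroup.mem_top _)
  have hva := commute_of_mem_of_commutator_eq_bot hcl hvm a
  have hvb := commute_of_mem_of_commutator_eq_bot hcl hvm b
  have hwa := commute_of_mem_of_commutator_eq_bot hcl hwm a
  have hwb := commute_of_mem_of_commutator_eq_bot hcl hwm b
  obtain ⟨α', h2⟩ := hp.out.dvd_choose_self (k := 2) (by norm_num) (by omega)
  obtain ⟨β', hβ⟩ := hp.out.dvd_choose_self (k := 3) (by norm_num) h3
  obtain ⟨γ', hγ⟩ := dvd_cgam hp.out h3
  obtain ⟨β'', γ'', h⟩ := exists_pow_of_collect hva hvb hwa hwb α' (by rw [h2, mul_comm])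
    ⟨β', by rw [hβ, mul_comm, pow_mul]⟩ ⟨γ', by rw [hγ, mul_comm, pow_mul]⟩
  refine ⟨_, ?_, h⟩
  exact Subgroup.mul_mem _ (Subgroup.pow_mem _ (cu_mem a b) _)
    (Subgroup.mul_mem _ (Subgroup.pow_mem _ (cv_mem a b) _) (Subgroup.pow_mem _ (cw_mem a b) _))

theorem WR_of_class_two {p : ℕ} [hp : Fact p.Prime] (h2 : p ≠ 2)
    (hcl : ⁅commutator R, (⊤ : Subgroup R)⁆ = ⊥) : WR p R := by
  intro a b
  have hu := commute_of_mem_of_commutator_eq_bot hcl (cu_mem_commutator a b)
  have hv1 : cv a b = 1 := by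
    unfold cv
    rw [mul_assoc, (hu a).eq]
    group
  have hw1 : cw a b = 1 := by
    unfold cw
    rw [mul_assoc, (hu b).eq]
    group
  have hva : Commute (cv a b) a := by rw [hv1]; exact Commute.one_left a
  have hvb : Commute (cv a b) b := by rw [hv1]; exact Commute.one_left b
  have hwa : Commute (cw a b) a := by rw [hw1]; exact Commute.one_left a
  have hwb : Commute (cw a b) b := by rw [hw1]; exact Commute.one_left b
  have hp2 : 2 < p := lt_of_le_of_ne hp.out.two_le (Ne.symm h2)
  obtain ⟨α', h2'⟩ := hp.out.dvd_choose_self (k := 2) (by norm_num) hp2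
  obtain ⟨β'', γ'', h⟩ := exists_pow_of_collect hva hvb hwa hwb α' (by rw [h2', mul_comm])
    ⟨0, by rw [hv1]; simp⟩ ⟨0, by rw [hw1]; simp⟩
  refine ⟨_, ?_, h⟩
  exact Subgroup.mul_mem _ (Subgroup.pow_mem _ (cu_mem a b) _)
    (Subgroup.mul_mem _ (Subgroup.pow_mem _ (cv_mem a b) _) (Subgroup.pow_mem _ (cw_mem a b) _))

variable [Finite R]

theorem pow_eq_one_of_mem_closure_regular {p : ℕ} [Fact p.Prime] (hR : Cfsg.IsRegularPGroup p R)
    (g : R) (hg : g ∈ Subgroup.closure {x : R | x ^ p = 1}) : g ^ p = 1 := by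
  induction hg using Subgroup.closure_induction with
  | mem z hz => exact hz
  | one => exact one_pow _
  | mul x y _ _ ihx ihy =>
    have := Cfsg.Agent.Lib.Helper3.regular_pow_mul_eq_one hR x y 1 (by rw [pow_one]; exact ihx)
      (by rw [pow_one]; exact ihy)
    rwa [pow_one] at this
  | inv x _ ih => rw [inv_pow, ih, inv_one]

theorem s0124 {p : ℕ} [Fact p.Prime] (hp : 3 < p) (hR : IsPGroup p R)
    (hcl : ⁅⁅commutator R, (⊤ : Subgroup R)⁆, (⊤ : Subgroup R)⁆ = ⊥) (g : R)
    (hg : g ∈ Subgroup.closure {x : R | x ^ p = 1}) : g ^ p = 1 :=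
  pow_eq_one_of_mem_closure_regular (regular_of_WR hR (WR_of_class_three hp hcl)) g hg

theorem s0123 {p : ℕ} [Fact p.Prime] (hR : IsPGroup p R)
    (hcl : (p ≠ 2 ∧ ⁅commutator R, (⊤ : Subgroup R)⁆ = ⊥) ∨
      (3 < p ∧ ⁅⁅commutator R, (⊤ : Subgroup R)⁆, (⊤ : Subgroup R)⁆ = ⊥))
    (hder : commutator R ≤ Subgroup.closure {x : R | x ^ p = 1}) (x y : R) :
    (x * y) ^ p = x ^ p * y ^ p := by
  have hW : WR p R := by
    rcases hcl with ⟨h2, hcl⟩ | ⟨h3, hcl⟩
    · exact WR_of_class_two h2 hcl
    · exact WR_of_class_three h3 hcl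
  have hreg := regular_of_WR hR hW
  obtain ⟨c, hc, hceq⟩ := hW x y
  have hc' : c ∈ commutator R := by
    rw [commutator_def]
    exact Subgroup.commutator_mono le_top le_top hc
  rw [hceq, pow_eq_one_of_mem_closure_regular hreg c (hder hc'), mul_one]

end classThree

end Cfsg.Agent.Lib.Helper1.Reg
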