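import Mathlib
import Cfsg.Prelude.Def_PLocal
import Cfsg.Agent.Lib.Helper1.ThompsonBasic2
import Cfsg.Agent.Lib.Helper1.Nilpotent
import Cfsg.Agent.Lib.Helper1.FrattiniP
import Cfsg.Agent.Lib.Helper1.Hall
import Cfsg.Agent.Lib.Helper1.Reg3
import Cfsg.Agent.Lib.Helper2.PGroupOdd
import Cfsg.Agent.Lib.Lead.ConjOrbit

/-! Odd `p`: a `p`-group of rank at least three has a normal elementary abelian subgroup of
order `p^3` (containing any given normal elementary abelian subgroup of order `p^2`). -/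
set_option autoImplicit false
open scoped commutatorElement
universe u

namespace Cfsg.Agent.Lib.Helper1.Rk

open Cfsg Cfsg.Agent.Lib.Helper1

section step
variable {P : Type*} [Group P] [Finite P] {p : ℕ} [hp : Fact p.Prime]

/-- Between two normal subgroups `A < K` of a `p`-group there is a normal subgroup of order
`p * |A|`. -/
theorem exists_normal_step (hP : IsPGroup p P) (A K : Subgroup P) [hA : A.Normal] [hK : K.Normal]
    (hAK : A ≤ K) (hne : A ≠ K) :
    ∃ N : Subgroup P, N.Normal ∧ A ≤ N ∧ N ≤ K ∧ Nat.card N = Nat.card A * p := by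
  have : Group.IsNilpotent (P ⧸ A) := (hP.to_quotient A).isNilpotent
  let f := QuotientGroup.mk' A
  have hf : Function.Surjective f := QuotientGroup.mk'_surjective A
  have hKbn : (K.map f).Normal := hK.map f hf
  have hKbne : K.map f ≠ ⊥ := by
    intro h
    apply hne
    apply le_antisymm hAK
    intro k hk
    have : f k ∈ K.map f := Subgroup.mem_map_of_mem f hk
    rw [h, Subgroup.mem_bot] at this
    exact (QuotientGroup.eq_one_iff k).mp this
  have hmeet := normal_inf_center_ne_bot (K.map f) hKbne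
  obtain ⟨M, hM⟩ : ∃ M : Subgroup (P ⧸ A), M = K.map f ⊓ Subgroup.center (P ⧸ A) := ⟨_, rfl⟩
  rw [← hM] at hmeet
  have hMp : IsPGroup p M := (hP.to_quotient A).to_subgroup M
  have hdvd : p ∣ Nat.card M := by
    obtain ⟨k, hk⟩ := IsPGroup.iff_card.mp hMp
    have hk0 : k ≠ 0 := by
      rintro rfl
      rw [pow_zero] at hk
      exact hmeet (Subgroup.card_eq_one.mp hk)
    rw [hk]
    exact dvd_pow_self p hk0
  obtain ⟨y, hy⟩ := exists_prime_orderOf_dvd_card' p hdvd
  have hyo : orderOf (y : P ⧸ A) = p := by rw [Subgroup.orderOf_coe]; exact hy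
  have hyK : (y : P ⧸ A) ∈ K.map f := (hM.le y.2).1
  have hyZ : (y : P ⧸ A) ∈ Subgroup.center (P ⧸ A) := (hM.le y.2).2
  obtain ⟨Z₀, hZ₀⟩ : ∃ Z₀ : Subgroup (P ⧸ A), Z₀ = Subgroup.zpowers (y : P ⧸ A) := ⟨_, rfl⟩
  have hZn : Z₀.Normal := by
    constructor
    intro z hz g
    rw [hZ₀] at hz ⊢
    obtain ⟨i, rfl⟩ := Subgroup.mem_zpowers_iff.mp hz
    have hcomm : g * (y : P ⧸ A) ^ i = (y : P ⧸ A) ^ i * g := by
      have h1 : (y : P ⧸ A) ^ i ∈ Subgroup.center (P ⧸ A) := Subgroup.zpow_mem _ hyZ i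
      exact (Subgroup.mem_center_iff.mp h1 g)
    rw [hcomm, mul_inv_cancel_right]
    exact Subgroup.zpow_mem _ (Subgroup.mem_zpowers _) i
  have hZcard : Nat.card Z₀ = p := by rw [hZ₀, Nat.card_zpowers, hyo]
  have hZK : Z₀ ≤ K.map f := by rw [hZ₀, Subgroup.zpowers_le]; exact hyK
  refine ⟨Z₀.comap f, hZn.comap f, ?_, ?_, ?_⟩
  · intro a ha
    show f a ∈ Z₀
    have : f a = 1 := (QuotientGroup.eq_one_iff a).mpr ha
    rw [this]; exact Z₀.one_mem
  · intro x hx
    obtain ⟨k, hk, hkx⟩ := hZK hx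
    have h1 : k⁻¹ * x ∈ A := by
      rw [← QuotientGroup.eq_one_iff]
      show f (k⁻¹ * x) = 1
      rw [map_mul, map_inv, hkx, inv_mul_cancel]
    have : x = k * (k⁻¹ * x) := by group
    rw [this]
    exact K.mul_mem hk (hAK h1)
  · rw [card_comap_mk', hZcard]

end step

section collect
variable {G : Type*} [Group G]

/-- `(ab)^p = a^p b^p` when `[b,a]` commutes with `a`, `b` and has order dividing `p` (odd). -/
theorem mul_pow_of_central_commutator {p : ℕ} [hp : Fact p.Prime] (hp2 : p ≠ 2) (a b : G)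
    (hua : Commute (Reg.cu a b) a) (hub : Commute (Reg.cu a b) b) (hup : Reg.cu a b ^ p = 1) :
    (a * b) ^ p = a ^ p * b ^ p := by
  have hv1 : Reg.cv a b = 1 := by
    unfold Reg.cv
    rw [mul_assoc, hua.eq]
    group
  have hw1 : Reg.cw a b = 1 := by
    unfold Reg.cw
    rw [mul_assoc, hub.eq]
    group
  have hva : Commute (Reg.cv a b) a := by rw [hv1]; exact Commute.one_left a
  have hvb : Commute (Reg.cv a b) b := by rw [hv1]; exact Commute.one_left b
  have hwa : Commute (Reg.cw a b) a := by rw [hw1]; exact Commute.one_left a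
  have hwb : Commute (Reg.cw a b) b := by rw [hw1]; exact Commute.one_left b
  have hp2' : 2 < p := lt_of_le_of_ne hp.out.two_le (Ne.symm hp2)
  obtain ⟨α', h2'⟩ := hp.out.dvd_choose_self (k := 2) (by norm_num) hp2'
  have h := Reg.collect hva hvb hwa hwb p 1
  rw [mul_one, hv1, hw1, one_pow, one_pow, one_mul, mul_one, h2', pow_mul, hup, one_pow, mul_one] at h
  rw [h, mul_one]

end collect

section main
variable {p : ℕ} [hp : Fact p.Prime]

theorem card_lt_of_lt {P : Type*} [Group P] [Finite P] {D E : Subgroup P} (h : D < E) :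
    Nat.card D < Nat.card E := by
  apply lt_of_le_of_ne (Subgroup.card_le_of_le h.le)
  intro he
  exact h.ne (Subgroup.eq_of_le_of_card_ge h.le he.ge)

theorem card_ge_sq_of_gt {P : Type*} [Group P] [Finite P] (H : Subgroup P) (hH : IsPGroup p H)
    (h : p < Nat.card H) : p ^ 2 ≤ Nat.card H := by
  obtain ⟨m, hm⟩ := IsPGroup.iff_card.mp hH
  rw [hm] at h ⊢
  have h1 : 1 < m := by
    by_contra hcon
    push Not at hcon
    have : p ^ m ≤ p ^ 1 := Nat.pow_le_pow_right hp.out.pos hcon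
    rw [pow_one] at this
    omega
  exact Nat.pow_le_pow_right hp.out.pos h1

theorem exists_mem_centralizer_not_mem {P : Type*} [Group P] [Finite P] (hP : IsPGroup p P)
    (B : Subgroup P) [hBn : B.Normal] (hB : IsElementaryAbelian p B) (hB2 : Nat.card B = p ^ 2)
    (A : Subgroup P) (hA : IsElementaryAbelian p A) (hA3 : p ^ 2 < Nat.card A) :
    ∃ x ∈ Subgroup.centralizer (B : Set P), x ∉ B ∧ x ^ p = 1 := by
  have hnil : Group.IsNilpotent P := hP.isNilpotent
  have hp1 : 1 < p := hp.out.one_lt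
  have hBne : B ≠ ⊥ := by
    intro h
    rw [h, Subgroup.card_bot] at hB2
    have : 1 < p ^ 2 := Nat.one_lt_pow (by norm_num) hp1
    omega
  have hmeet := normal_inf_center_ne_bot B hBne
  obtain ⟨⟨z, hz⟩, hz1⟩ := (Subgroup.ne_bot_iff_exists_ne_one).mp hmeet
  have hz1' : z ≠ 1 := fun h => hz1 (Subtype.ext h)
  obtain ⟨hzB, hzZ⟩ := Subgroup.mem_inf.mp hz
  have hzp : z ^ p = 1 := hB.2 z hzB
  have hzo : orderOf z = p := orderOf_eq_prime hzp hz1'
  obtain ⟨Z₁, hZ₁⟩ : ∃ Z₁ : Subgroup P, Z₁ = Subgroup.zpowers z := ⟨_, rfl⟩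
  have hZ₁card : Nat.card Z₁ = p := by rw [hZ₁, Nat.card_zpowers, hzo]
  have hZ₁B : Z₁ ≤ B := by rw [hZ₁, Subgroup.zpowers_le]; exact hzB
  have hZ₁cen : ∀ w ∈ Z₁, ∀ g : P, g * w = w * g := by
    intro w hw g
    rw [hZ₁] at hw
    obtain ⟨i, rfl⟩ := Subgroup.mem_zpowers_iff.mp hw
    exact Subgroup.mem_center_iff.mp (Subgroup.zpow_mem _ hzZ i) g
  obtain ⟨b, hbB, hbZ⟩ : ∃ b ∈ B, b ∉ Z₁ := by
    by_contra hno
    push Not at hno
    have h1 : Nat.card B ≤ Nat.card Z₁ := Subgroup.card_le_of_le hno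
    rw [hB2, hZ₁card] at h1
    nlinarith
  have hBgen : Z₁ ⊔ Subgroup.zpowers b = B := by
    have hle : Z₁ ⊔ Subgroup.zpowers b ≤ B :=
      sup_le hZ₁B (by rw [Subgroup.zpowers_le]; exact hbB)
    apply Subgroup.eq_of_le_of_card_ge hle
    have hlt : Z₁ < Z₁ ⊔ Subgroup.zpowers b := by
      apply lt_of_le_of_ne le_sup_left
      intro h
      apply hbZ
      rw [h]
      exact (le_sup_right : Subgroup.zpowers b ≤ _) (Subgroup.mem_zpowers b)
    have h1 : Nat.card Z₁ < Nat.card (Z₁ ⊔ Subgroup.zpowers b : Subgroup P) := card_lt_of_lt hlt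
    have h2 := card_ge_sq_of_gt (Z₁ ⊔ Subgroup.zpowers b) (hP.to_subgroup _) (by rw [← hZ₁card]; exact h1)
    rw [hB2]; exact h2
  -- the orbit of `b` under `A`
  obtain ⟨O, hO⟩ : ∃ O : Set P, O = {h : P | ∃ n ∈ A, n * b * n⁻¹ = h} := ⟨_, rfl⟩
  have hcount := Cfsg.Agent.Lib.Lead.ConjOrbit.card_eq_card_centralizer_inf_mul_ncard_conj A b
  rw [← hO] at hcount
  have hOsub : O ⊆ (B : Set P) \ (Z₁ : Set P) := by
    rw [hO]
    rintro h ⟨n, hn, rfl⟩
    refine ⟨hBn.conj_mem b hbB n, ?_⟩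
    intro hmem
    apply hbZ
    have h1 := hZ₁cen _ hmem n⁻¹
    have h2 : b = n⁻¹ * (n * b * n⁻¹) * n := by group
    rw [h2, h1]
    have h3 : n * b * n⁻¹ * n⁻¹ * n = n * b * n⁻¹ := by group
    rw [h3]
    exact hmem
  have hOle : O.ncard ≤ p ^ 2 - p := by
    have h1 := Set.ncard_le_ncard hOsub (Set.toFinite _)
    have h2 : ((B : Set P) \ (Z₁ : Set P)).ncard = (B : Set P).ncard - (Z₁ : Set P).ncard :=
      Set.ncard_sdiff (by exact_mod_cast hZ₁B) (Set.toFinite _)
    have h3 : (B : Set P).ncard = p ^ 2 := by rw [← hB2]; exact (Nat.card_coe_set_eq _).symm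
    have h4 : (Z₁ : Set P).ncard = p := by rw [← hZ₁card]; exact (Nat.card_coe_set_eq _).symm
    rw [h2, h3, h4] at h1
    exact h1
  have hOp : O.ncard ≤ p := by
    have hdvd : O.ncard ∣ Nat.card A := ⟨_, by rw [hcount]; ring⟩
    obtain ⟨k, hk⟩ := IsPGroup.iff_card.mp (hP.to_subgroup A)
    rw [hk] at hdvd
    obtain ⟨j, _, hj⟩ := (Nat.dvd_prime_pow hp.out).mp hdvd
    rw [hj] at hOle ⊢
    by_contra hcon
    push Not at hcon
    have h1 : 1 < j := by
      by_contra hj1
      push Not at hj1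
      have : p ^ j ≤ p ^ 1 := Nat.pow_le_pow_right hp.out.pos hj1
      rw [pow_one] at this
      omega
    have h2 : p ^ 2 ≤ p ^ j := Nat.pow_le_pow_right hp.out.pos h1
    have h3 : 0 < p := hp.out.pos
    have h4 : p ≤ p ^ 2 := by nlinarith
    omega
  obtain ⟨A₁, hA₁⟩ : ∃ A₁ : Subgroup P, A₁ = Subgroup.centralizer ({b} : Set P) ⊓ A := ⟨_, rfl⟩
  rw [← hA₁] at hcount
  have hA₁gt : p < Nat.card A₁ := by
    by_contra hcon
    push Not at hcon
    have : Nat.card A ≤ p * p := by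
      rw [hcount]
      exact Nat.mul_le_mul hcon hOp
    rw [sq] at hA3
    omega
  have hA₁sq : p ^ 2 ≤ Nat.card A₁ := card_ge_sq_of_gt A₁ (hP.to_subgroup _) hA₁gt
  obtain ⟨x, hxA₁, hxB⟩ : ∃ x ∈ A₁, x ∉ B := by
    by_contra hno
    push Not at hno
    have hle : A₁ ≤ B := hno
    have heq : A₁ = B := Subgroup.eq_of_le_of_card_ge hle (by rw [hB2]; exact hA₁sq)
    have hbA : b ∈ A := by
      have : b ∈ A₁ := by rw [heq]; exact hbB
      rw [hA₁] at this
      exact this.2
    have hAle : A ≤ A₁ := by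
      intro a ha
      rw [hA₁]
      refine Subgroup.mem_inf.mpr ⟨?_, ha⟩
      rw [Subgroup.mem_centralizer_iff]
      intro y hy
      rw [Set.mem_singleton_iff] at hy
      rw [hy]
      exact isElementaryAbelian_comm hA hbA ha
    have : Nat.card A ≤ Nat.card B := by
      rw [← heq]; exact Subgroup.card_le_of_le hAle
    rw [hB2] at this
    omega
  have hxA : x ∈ A := by rw [hA₁] at hxA₁; exact hxA₁.2
  have hxb : b * x = x * b := by
    rw [hA₁] at hxA₁
    exact Subgroup.mem_centralizer_iff.mp hxA₁.1 b rfl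
  refine ⟨x, ?_, hxB, hA.2 x hxA⟩
  have hD : Z₁ ⊔ Subgroup.zpowers b ≤ Subgroup.centralizer ({x} : Set P) := by
    apply sup_le
    · intro w hw
      rw [Subgroup.mem_centralizer_iff]
      intro y hy
      rw [Set.mem_singleton_iff] at hy
      rw [hy]
      exact hZ₁cen w hw x
    · rw [Subgroup.zpowers_le, Subgroup.mem_centralizer_iff]
      intro y hy
      rw [Set.mem_singleton_iff] at hy
      rw [hy]
      exact hxb.symm
  rw [hBgen] at hD
  rw [Subgroup.mem_centralizer_iff]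
  intro y hy
  exact (Subgroup.mem_centralizer_iff.mp (hD hy) x rfl).symm

theorem conj_mem_of_normal_sub {P : Type*} [Group P] {M : Subgroup P} {N₁ : Subgroup M}
    (hN : N₁.Normal) {m e : P} (hm : m ∈ M) (he : e ∈ N₁.map M.subtype) :
    m * e * m⁻¹ ∈ N₁.map M.subtype := by
  obtain ⟨e', he', rfl⟩ := he
  refine ⟨⟨m, hm⟩ * e' * ⟨m, hm⟩⁻¹, hN.conj_mem e' he' ⟨m, hm⟩, ?_⟩
  simp

theorem exists_normal_elementary_cube_aux (hp2 : p ≠ 2) : ∀ (n : ℕ) (P : Type u) [Group P]
    [Finite P], Nat.card P = n → IsPGroup p P → ∀ B : Subgroup P, B.Normal →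
    IsElementaryAbelian p B → Nat.card B = p ^ 2 →
    (∃ A : Subgroup P, IsElementaryAbelian p A ∧ p ^ 2 < Nat.card A) →
    ∃ N : Subgroup P, N.Normal ∧ IsElementaryAbelian p N ∧ Nat.card N = p ^ 3 ∧ B ≤ N := by
  intro n
  induction n using Nat.strong_induction_on with
  | _ n ih =>
  intro P _ _ hcard hP B hBn hB hB2 ⟨A, hA, hA3⟩
  obtain ⟨x, hxC, hxB, hxp⟩ := exists_mem_centralizer_not_mem hP B hB hB2 A hA hA3
  obtain ⟨C, hC⟩ : ∃ C : Subgroup P, C = Subgroup.centralizer (B : Set P) := ⟨_, rfl⟩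
  rw [← hC] at hxC
  have hCn : C.Normal := by rw [hC]; infer_instance
  have hBC : B ≤ C := by
    intro y hy
    rw [hC, Subgroup.mem_centralizer_iff]
    intro w hw
    exact isElementaryAbelian_comm hB hw hy
  obtain ⟨E, hE⟩ : ∃ E : Subgroup P, E = B ⊔ Subgroup.zpowers x := ⟨_, rfl⟩
  have hxE : x ∈ E := by rw [hE]; exact (le_sup_right : Subgroup.zpowers x ≤ _) (Subgroup.mem_zpowers x)
  have hBE : B ≤ E := by rw [hE]; exact le_sup_left
  have hEel : IsElementaryAbelian p E := by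
    rw [hE]
    apply isElementaryAbelian_sup_of_le_centralizer hB (isElementaryAbelian_zpowers hxp)
    rw [Subgroup.zpowers_le, ← hC]; exact hxC
  have hEC : E ≤ C := by
    rw [hE]; exact sup_le hBC (by rw [Subgroup.zpowers_le]; exact hxC)
  have hBltE : B < E := lt_of_le_of_ne hBE (fun h => hxB (h ▸ hxE))
  have hEcard : p ^ 2 < Nat.card E := by rw [← hB2]; exact card_lt_of_lt hBltE
  -- the normal proper subgroup `M`
  have hM : E = ⊤ ∨ ∃ M : Subgroup P, M.Normal ∧ M ≠ ⊤ ∧ E ≤ M ∧ M ≤ C := by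
    by_cases hCtop : C = ⊤
    · by_cases hEtop : E = ⊤
      · exact Or.inl hEtop
      · right
        obtain ⟨M, hMco, hEM⟩ := (eq_top_or_exists_le_coatom E).resolve_left hEtop
        exact ⟨M, normal_of_isCoatom_of_isPGroup p hP M hMco, hMco.1, hEM, by rw [hCtop]; exact le_top⟩
    · exact Or.inr ⟨C, hCn, hCtop, hEC, le_rfl⟩
  rcases hM with hEtop | ⟨M, hMn, hMtop, hEM, hMC⟩
  · -- `P` itself is elementary abelian
    have hne : B ≠ ⊤ := fun h => hxB (h ▸ Subgroup.mem_top x)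
    obtain ⟨N, hNn, hBN, -, hNcard⟩ := exists_normal_step hP B ⊤ le_top hne
    refine ⟨N, hNn, isElementaryAbelian_mono (hEtop ▸ hEel) le_top, ?_, hBN⟩
    rw [hNcard, hB2]; ring
  -- induction on `M`
  have hBM : B ≤ M := hBE.trans hEM
  have hlt : Nat.card M < n := hcard ▸ Reg.card_lt_of_ne_top M hMtop
  have hB'n : (B.subgroupOf M).Normal := hBn.subgroupOf M
  have hB'el : IsElementaryAbelian p (B.subgroupOf M) :=
    isElementaryAbelian_comap_of_injective hB _ M.subtype_injective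
  have hB'card : Nat.card (B.subgroupOf M) = p ^ 2 := by
    rw [← hB2]; exact Nat.card_congr (Subgroup.subgroupOfEquivOfLe hBM).toEquiv
  have hE'el : IsElementaryAbelian p (E.subgroupOf M) :=
    isElementaryAbelian_comap_of_injective hEel _ M.subtype_injective
  have hE'card : p ^ 2 < Nat.card (E.subgroupOf M) := by
    rw [Nat.card_congr (Subgroup.subgroupOfEquivOfLe hEM).toEquiv]; exact hEcard
  obtain ⟨N₁, hN₁n, hN₁el, hN₁card, hBN₁⟩ := ih _ hlt M rfl (hP.to_subgroup M) (B.subgroupOf M)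
    hB'n hB'el hB'card ⟨E.subgroupOf M, hE'el, hE'card⟩
  obtain ⟨E₁, hE₁⟩ : ∃ E₁ : Subgroup P, E₁ = N₁.map M.subtype := ⟨_, rfl⟩
  have hE₁el : IsElementaryAbelian p E₁ := by rw [hE₁]; exact isElementaryAbelian_map hN₁el _
  have hE₁card : Nat.card E₁ = p ^ 3 := by
    rw [hE₁, Subgroup.card_map_of_injective M.subtype_injective, hN₁card]
  have hE₁M : E₁ ≤ M := by rw [hE₁]; exact Subgroup.map_subtype_le _
  have hBE₁ : B ≤ E₁ := by
    rw [hE₁, ← Subgroup.map_subgroupOf_eq_of_le hBM]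
    exact Subgroup.map_mono hBN₁
  have hE₁norm : ∀ m ∈ M, ∀ e ∈ E₁, m * e * m⁻¹ ∈ E₁ := by
    intro m hm e he
    rw [hE₁] at he ⊢
    exact conj_mem_of_normal_sub hN₁n hm he
  -- `B` is central in `M`
  have hBcen : ∀ y ∈ B, ∀ m ∈ M, m * y = y * m := by
    intro y hy m hm
    have := hMC hm
    rw [hC] at this
    exact Subgroup.mem_centralizer_iff.mp this y hy |>.symm
  -- conjugates of `E₁`
  have hconjM : ∀ g e : P, e ∈ E₁ → g * e * g⁻¹ ∈ M :=
    fun g e he => hMn.conj_mem e (hE₁M he) g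
  -- key: commutators of conjugates lie in `B`
  have hkey : ∀ g h e e' : P, e ∈ E₁ → e' ∈ E₁ → ⁅g * e * g⁻¹, h * e' * h⁻¹⁆ ∈ B := by
    intro g h e e' he he'
    -- the two conjugate subgroups
    obtain ⟨Eg, hEg⟩ : ∃ Eg : Subgroup P, Eg = E₁.map (MulAut.conj g).toMonoidHom := ⟨_, rfl⟩
    obtain ⟨Eh, hEh⟩ : ∃ Eh : Subgroup P, Eh = E₁.map (MulAut.conj h).toMonoidHom := ⟨_, rfl⟩
    have hmemg : ∀ w : P, w ∈ Eg ↔ g⁻¹ * w * g ∈ E₁ := by
      intro w
      rw [hEg]
      constructor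
      · rintro ⟨v, hv, rfl⟩
        have : g⁻¹ * (MulAut.conj g).toMonoidHom v * g = v := by
          show g⁻¹ * (MulAut.conj g v) * g = v
          rw [MulAut.conj_apply]; group
        rw [this]; exact hv
      · intro hw
        refine ⟨g⁻¹ * w * g, hw, ?_⟩
        show MulAut.conj g (g⁻¹ * w * g) = w
        rw [MulAut.conj_apply]; group
    have hmemh : ∀ w : P, w ∈ Eh ↔ h⁻¹ * w * h ∈ E₁ := by
      intro w
      rw [hEh]
      constructor
      · rintro ⟨v, hv, rfl⟩
        have : h⁻¹ * (MulAut.conj h).toMonoidHom v * h = v := by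
          show h⁻¹ * (MulAut.conj h v) * h = v
          rw [MulAut.conj_apply]; group
        rw [this]; exact hv
      · intro hw
        refine ⟨h⁻¹ * w * h, hw, ?_⟩
        show MulAut.conj h (h⁻¹ * w * h) = w
        rw [MulAut.conj_apply]; group
    -- normalized by `M`
    have hnormg : ∀ m ∈ M, ∀ w ∈ Eg, m * w * m⁻¹ ∈ Eg := by
      intro m hm w hw
      rw [hmemg] at hw ⊢
      have h1 : g⁻¹ * m * g ∈ M := by
        have := hMn.conj_mem m hm g⁻¹
        rwa [inv_inv] at this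
      have := hE₁norm _ h1 _ hw
      have e1 : g⁻¹ * (m * w * m⁻¹) * g = g⁻¹ * m * g * (g⁻¹ * w * g) * (g⁻¹ * m * g)⁻¹ := by group
      rw [e1]; exact this
    have hnormh : ∀ m ∈ M, ∀ w ∈ Eh, m * w * m⁻¹ ∈ Eh := by
      intro m hm w hw
      rw [hmemh] at hw ⊢
      have h1 : h⁻¹ * m * h ∈ M := by
        have := hMn.conj_mem m hm h⁻¹
        rwa [inv_inv] at this
      have := hE₁norm _ h1 _ hw
      have e1 : h⁻¹ * (m * w * m⁻¹) * h = h⁻¹ * m * h * (h⁻¹ * w * h) * (h⁻¹ * m * h)⁻¹ := by group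
      rw [e1]; exact this
    have huEg : g * e * g⁻¹ ∈ Eg := by
      rw [hmemg]
      have : g⁻¹ * (g * e * g⁻¹) * g = e := by group
      rw [this]; exact he
    have hvEh : h * e' * h⁻¹ ∈ Eh := by
      rw [hmemh]
      have : h⁻¹ * (h * e' * h⁻¹) * h = e' := by group
      rw [this]; exact he'
    have huM := hconjM g e he
    have hvM := hconjM h e' he'
    have hBEg : B ≤ Eg := by
      intro y hy
      rw [hmemg]
      apply hBE₁
      have := hBn.conj_mem y hy g⁻¹
      rwa [inv_inv] at this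
    have hBEh : B ≤ Eh := by
      intro y hy
      rw [hmemh]
      apply hBE₁
      have := hBn.conj_mem y hy h⁻¹
      rwa [inv_inv] at this
    have hcardg : Nat.card Eg = p ^ 3 := by
      rw [hEg, Subgroup.card_map_of_injective (MulAut.conj g).injective, hE₁card]
    have hcardh : Nat.card Eh = p ^ 3 := by
      rw [hEh, Subgroup.card_map_of_injective (MulAut.conj h).injective, hE₁card]
    have hEgel : IsElementaryAbelian p Eg := by rw [hEg]; exact isElementaryAbelian_map hE₁el _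
    by_cases heq : Eg = Eh
    · have : ⁅g * e * g⁻¹, h * e' * h⁻¹⁆ = 1 := by
        rw [commutatorElement_eq_one_iff_mul_comm]
        exact isElementaryAbelian_comm hEgel huEg (heq ▸ hvEh)
      rw [this]; exact B.one_mem
    · have hinf : ⁅g * e * g⁻¹, h * e' * h⁻¹⁆ ∈ Eg ⊓ Eh := by
        rw [commutatorElement_def]
        constructor
        · have h1 := hnormg _ hvM _ (Eg.inv_mem huEg)
          have e1 : g * e * g⁻¹ * (h * e' * h⁻¹) * (g * e * g⁻¹)⁻¹ * (h * e' * h⁻¹)⁻¹ =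
              (g * e * g⁻¹) * ((h * e' * h⁻¹) * (g * e * g⁻¹)⁻¹ * (h * e' * h⁻¹)⁻¹) := by group
          rw [e1]
          exact Eg.mul_mem huEg h1
        · have h1 := hnormh _ huM _ hvEh
          exact Eh.mul_mem h1 (Eh.inv_mem hvEh)
      have hBinf : B ≤ Eg ⊓ Eh := le_inf hBEg hBEh
      have hlt' : Eg ⊓ Eh < Eg := by
        apply lt_of_le_of_ne inf_le_left
        intro h1
        apply heq
        have h2 : Eg ≤ Eh := by rw [← h1]; exact inf_le_right
        exact Subgroup.eq_of_le_of_card_ge h2 (by rw [hcardg, hcardh])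
      have hc1 : Nat.card (Eg ⊓ Eh : Subgroup P) < p ^ 3 := by
        rw [← hcardg]; exact card_lt_of_lt hlt'
      have hc2 : Nat.card (Eg ⊓ Eh : Subgroup P) ≤ p ^ 2 := by
        obtain ⟨k, hk⟩ := IsPGroup.iff_card.mp (hP.to_subgroup (Eg ⊓ Eh))
        rw [hk] at hc1 ⊢
        have : k < 3 := (Nat.pow_lt_pow_iff_right hp.out.one_lt).mp hc1
        exact Nat.pow_le_pow_right hp.out.pos (by omega)
      have : B = Eg ⊓ Eh := Subgroup.eq_of_le_of_card_ge hBinf (by rw [hB2]; exact hc2)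
      rw [this]; exact hinf
  -- the normal closure
  obtain ⟨F, hF⟩ : ∃ F : Subgroup P, F = Subgroup.normalClosure (E₁ : Set P) := ⟨_, rfl⟩
  have hFn : F.Normal := by rw [hF]; exact Subgroup.normalClosure_normal
  have hE₁F : E₁ ≤ F := by rw [hF]; exact Subgroup.subset_normalClosure
  have hFM : F ≤ M := by rw [hF]; exact Subgroup.normalClosure_le_normal hE₁M
  have hFcl : F = Subgroup.closure (Group.conjugatesOfSet (E₁ : Set P)) := by rw [hF]; rfl
  have hgenform : ∀ s ∈ Group.conjugatesOfSet (E₁ : Set P), ∃ g e : P, e ∈ E₁ ∧ s = g * e * g⁻¹ := by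
    intro s hs
    rw [Group.mem_conjugatesOfSet_iff] at hs
    obtain ⟨e, he, hconj⟩ := hs
    rw [isConj_iff] at hconj
    obtain ⟨c, rfl⟩ := hconj
    exact ⟨c, e, he, rfl⟩
  have hFF : ⁅F, F⁆ ≤ B := by
    rw [hFcl]
    apply Cfsg.Agent.Lib.Helper3.commutator_closure_le
    · intro g _ y hy
      exact hBn.conj_mem y hy g
    · intro s hs t ht
      obtain ⟨g, e, he, rfl⟩ := hgenform s hs
      obtain ⟨h, e', he', rfl⟩ := hgenform t ht
      exact hkey g h e e' he he'
  have hFexp : ∀ f ∈ F, f ^ p = 1 := by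
    intro f hf
    rw [hFcl] at hf
    have : f ∈ F ∧ f ^ p = 1 := by
      induction hf using Subgroup.closure_induction with
      | mem s hs =>
        obtain ⟨g, e, he, rfl⟩ := hgenform s hs
        refine ⟨by rw [hFcl]; exact Subgroup.subset_closure hs, ?_⟩
        rw [conj_pow, hE₁el.2 e he]; group
      | one => exact ⟨F.one_mem, one_pow _⟩
      | mul a b _ _ iha ihb =>
        refine ⟨F.mul_mem iha.1 ihb.1, ?_⟩
        have hu : Reg.cu a b ∈ B := by
          apply hFF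
          have e1 : Reg.cu a b = ⁅b⁻¹, a⁻¹⁆ := by rw [commutatorElement_def]; unfold Reg.cu; group
          rw [e1]
          exact Subgroup.commutator_mem_commutator (F.inv_mem ihb.1) (F.inv_mem iha.1)
        rw [mul_pow_of_central_commutator hp2 a b (hBcen _ hu a (hFM iha.1)).symm
          (hBcen _ hu b (hFM ihb.1)).symm (hB.2 _ hu), iha.2, ihb.2, one_mul]
      | inv a _ iha => exact ⟨F.inv_mem iha.1, by rw [inv_pow, iha.2, inv_one]⟩
    exact this.2
  have hBF : B ≤ F := hBE₁.trans hE₁F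
  have hBneF : B ≠ F := by
    intro h
    have : Nat.card E₁ ≤ Nat.card B := Subgroup.card_le_of_le (h ▸ hE₁F)
    rw [hE₁card, hB2] at this
    have := Nat.pow_lt_pow_right hp.out.one_lt (show 2 < 3 by norm_num)
    omega
  obtain ⟨N, hNn, hBN, hNF, hNcard⟩ := exists_normal_step hP B F hBF hBneF
  have hNcard' : Nat.card N = p ^ 3 := by rw [hNcard, hB2]; ring
  refine ⟨N, hNn, ?_, hNcard', hBN⟩
  -- `N` is elementary abelian
  obtain ⟨y, hyN, hyB⟩ : ∃ y ∈ N, y ∉ B := by
    by_contra hno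
    push Not at hno
    have : Nat.card N ≤ Nat.card B := Subgroup.card_le_of_le hno
    rw [hNcard', hB2] at this
    have := Nat.pow_lt_pow_right hp.out.one_lt (show 2 < 3 by norm_num)
    omega
  have hyp : y ^ p = 1 := hFexp y (hNF hyN)
  have hNeq : B ⊔ Subgroup.zpowers y = N := by
    have hle : B ⊔ Subgroup.zpowers y ≤ N := sup_le hBN (by rw [Subgroup.zpowers_le]; exact hyN)
    apply Subgroup.eq_of_le_of_card_ge hle
    have hlt' : B < B ⊔ Subgroup.zpowers y := by
      apply lt_of_le_of_ne le_sup_left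
      intro h
      apply hyB
      rw [h]
      exact (le_sup_right : Subgroup.zpowers y ≤ _) (Subgroup.mem_zpowers y)
    have h1 := card_lt_of_lt hlt'
    obtain ⟨k, hk⟩ := IsPGroup.iff_card.mp (hP.to_subgroup (B ⊔ Subgroup.zpowers y))
    rw [hk, hB2] at h1
    rw [hk, hNcard']
    have : 2 < k := (Nat.pow_lt_pow_iff_right hp.out.one_lt).mp h1
    exact Nat.pow_le_pow_right hp.out.pos (by omega)
  rw [← hNeq]
  apply isElementaryAbelian_sup_of_le_centralizer hB (isElementaryAbelian_zpowers hyp)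
  rw [Subgroup.zpowers_le, Subgroup.mem_centralizer_iff]
  intro w hw
  exact (hBcen w hw y (hFM (hNF hyN))).symm

theorem exists_normal_elementary_cube {P : Type u} [Group P] [Finite P] (hp2 : p ≠ 2)
    (hP : IsPGroup p P) (B : Subgroup P) [hBn : B.Normal] (hB : IsElementaryAbelian p B)
    (hB2 : Nat.card B = p ^ 2) (A : Subgroup P) (hA : IsElementaryAbelian p A)
    (hA3 : p ^ 2 < Nat.card A) :
    ∃ N : Subgroup P, N.Normal ∧ IsElementaryAbelian p N ∧ Nat.card N = p ^ 3 ∧ B ≤ N :=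
  exists_normal_elementary_cube_aux hp2 _ P rfl hP B hBn hB hB2 ⟨A, hA, hA3⟩

end main

end Cfsg.Agent.Lib.Helper1.Rk
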