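import Mathlib
import Cfsg.Prelude.Def_PLocal
import Cfsg.Prelude.Def_CaseTheorems
import Cfsg.Agent.Lib.Helper1.Rk1
import Cfsg.Agent.Lib.Helper1.MaxAbelianNormal
import Cfsg.Agent.S0126

/-! Consequences: rank at most two without normal `E_{p^3}`; normal `E_{p^2}` inside `SCN_3`. -/
set_option autoImplicit false
universe u

namespace Cfsg.Agent.Lib.Helper1.Rk

open Cfsg Cfsg.Agent.Lib.Helper1

variable {p : ℕ} [hp : Fact p.Prime]

theorem not_isCyclic_of_elementary {P : Type*} [Group P] [Finite P] (E : Subgroup P)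
    (hE : IsElementaryAbelian p E) (hcard : p ^ 2 < Nat.card E) : ¬ IsCyclic P := by
  intro hcyc
  have hEc : IsCyclic E := inferInstance
  obtain ⟨g, hg⟩ := hEc.exists_generator
  have h1 : orderOf g = Nat.card E := orderOf_eq_card_of_forall_mem_zpowers hg
  have h2 : g ^ p = 1 := Subtype.ext (by simpa using hE.2 g g.2)
  have h3 : orderOf g ∣ p := orderOf_dvd_of_pow_eq_one h2
  have h4 := Nat.le_of_dvd hp.out.pos h3
  rw [h1] at h4
  have : p ≤ p ^ 2 := by nlinarith [hp.out.pos]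
  omega

theorem s0100 {P : Type u} [Group P] [Finite P] (hp2 : p ≠ 2) (hP : IsPGroup p P)
    (h : ∀ A : Subgroup P, A.Normal → IsMulCommutative A → (∀ a ∈ A, a ^ p = 1) →
      Nat.card A ≠ p ^ 3)
    (E : Subgroup P) (hE : IsMulCommutative E) (hEe : ∀ e ∈ E, e ^ p = 1) :
    Nat.card E ≤ p ^ 2 := by
  by_contra hcon
  push Not at hcon
  have hEel : IsElementaryAbelian p E := ⟨hE, hEe⟩
  have hnc := not_isCyclic_of_elementary E hEel hcon
  obtain ⟨B, hBn, hBel, hB2⟩ := Cfsg.Agent.S0126.result hp2 hP hnc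
  obtain ⟨N, hNn, hNel, hNcard, -⟩ := exists_normal_elementary_cube hp2 hP B hBel hB2 E hEel hcon
  exact h N hNn hNel.1 hNel.2 hNcard

theorem s1452 {R : Type u} [Group R] [Finite R] (hp2 : p ≠ 2) (hR : IsPGroup p R)
    (hr : ¬ Cfsg.PRankLE p 2 R)
    (E : Subgroup R) [hEn : E.Normal] (hE : Cfsg.IsElementaryAbelian p E)
    (hE2 : Nat.card E = p ^ 2) :
    ∃ A : Subgroup R, E ≤ A ∧ A.Normal ∧ Subgroup.centralizer (A : Set R) = A ∧
      ¬ Cfsg.PRankLE p 2 A := by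
  unfold Cfsg.PRankLE at hr
  push Not at hr
  obtain ⟨A₁, hA₁c, hA₁e, hA₁card⟩ := hr
  obtain ⟨N, hNn, hNel, hNcard, hEN⟩ :=
    exists_normal_elementary_cube hp2 hR E hE hE2 A₁ ⟨hA₁c, hA₁e⟩ hA₁card
  have hnil : Group.IsNilpotent R := hR.isNilpotent
  obtain ⟨AA, hAA⟩ : ∃ AA : Set (Subgroup R), AA = {M : Subgroup R |
      M.Normal ∧ IsMulCommutative M ∧ N ≤ M} := ⟨_, rfl⟩
  have hNmem : N ∈ AA := by rw [hAA]; exact ⟨hNn, hNel.1, le_rfl⟩
  obtain ⟨A₀, hNA₀, hmax⟩ := (Set.toFinite AA).exists_le_maximal hNmem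
  have hprop := hmax.prop
  rw [hAA] at hprop
  obtain ⟨hA₀n, hA₀c, hNA⟩ := hprop
  have hcen := centralizer_eq_of_maximal_abelian_normal A₀ (by
    intro M hMn hMc hle
    have hM : M ∈ AA := by rw [hAA]; exact ⟨hMn, hMc, hNA.trans hle⟩
    exact le_antisymm (hmax.le_of_ge hM hle) hle)
  refine ⟨A₀, hEN.trans hNA, hA₀n, hcen, ?_⟩
  intro hrk
  have h1 := hrk (N.subgroupOf A₀)
    (isElementaryAbelian_comap_of_injective hNel _ A₀.subtype_injective).1
    (isElementaryAbelian_comap_of_injective hNel _ A₀.subtype_injective).2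
  rw [Nat.card_congr (Subgroup.subgroupOfEquivOfLe hNA).toEquiv, hNcard] at h1
  have := Nat.pow_lt_pow_right hp.out.one_lt (show 2 < 3 by norm_num)
  omega

end Cfsg.Agent.Lib.Helper1.Rk
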