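import Mathlib
import Cfsg.Prelude.Def_PLocal
import Cfsg.Prelude.Def_CaseTheorems
import Cfsg.Agent.Lib.Helper1.Rk2
import Cfsg.Agent.Lib.Helper1.OmegaCenter

/-! `p`-groups of rank at least three with a maximal elementary abelian subgroup of order `p^2`. -/
set_option autoImplicit false
universe u

namespace Cfsg.Agent.Lib.Helper1.Rk

open Cfsg Cfsg.Agent.Lib.Helper1 Subgroup
open scoped commutatorElement

section ucs2
variable {R : Type*} [Group R]

theorem mem_ucs2_iff {x : R} : x ∈ Subgroup.upperCentralSeries R 2 ↔ ∀ y, ⁅x, y⁆ ∈ center R := by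
  rw [show (2 : ℕ) = 1 + 1 from rfl, Subgroup.mem_upperCentralSeries_succ_iff, Subgroup.upperCentralSeries_one]

theorem comm_mul_left_of_ucs2 {x x' : R} (hx' : x' ∈ Subgroup.upperCentralSeries R 2) (y : R) :
    ⁅x * x', y⁆ = ⁅x, y⁆ * ⁅x', y⁆ := by
  have hc := mem_center_iff.mp (mem_ucs2_iff.mp hx' y)
  have h1 : ⁅x * x', y⁆ = x * ⁅x', y⁆ * y * x⁻¹ * y⁻¹ := by
    simp only [commutatorElement_def]; group
  rw [h1, hc x, hc ⁅x, y⁆]
  simp only [commutatorElement_def]; group

theorem comm_mul_right_of_ucs2 {x : R} (hx : x ∈ Subgroup.upperCentralSeries R 2) (y y' : R) :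
    ⁅x, y * y'⁆ = ⁅x, y⁆ * ⁅x, y'⁆ := by
  have hc := mem_center_iff.mp (mem_ucs2_iff.mp hx y')
  have h1 : ⁅x, y * y'⁆ = x * y * x⁻¹ * ⁅x, y'⁆ * y⁻¹ := by
    simp only [commutatorElement_def]; group
  rw [h1, mul_assoc, ← hc y⁻¹]
  simp only [commutatorElement_def]; group

theorem comm_pow_left_of_ucs2 {x : R} (hx : x ∈ Subgroup.upperCentralSeries R 2) (y : R) (n : ℕ) :
    ⁅x ^ n, y⁆ = ⁅x, y⁆ ^ n := by
  induction n with
  | zero => simp
  | succ n ih => rw [pow_succ, comm_mul_left_of_ucs2 hx, ih, pow_succ]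

variable {p : ℕ} [hp : Fact p.Prime]

theorem mem_closure_ucs2_pow (hp2 : p ≠ 2) {x : R}
    (hx : x ∈ closure {x : R | x ∈ Subgroup.upperCentralSeries R 2 ∧ x ^ p = 1}) :
    x ∈ Subgroup.upperCentralSeries R 2 ∧ x ^ p = 1 := by
  induction hx using closure_induction with
  | mem x hx => exact hx
  | one => exact ⟨one_mem _, one_pow _⟩
  | mul x y _ _ hx hy =>
    refine ⟨mul_mem hx.1 hy.1, ?_⟩
    have hcu : Reg.cu x y = ⁅y⁻¹, x⁻¹⁆ := by
      unfold Reg.cu; rw [commutatorElement_def]; group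
    have hcen : Reg.cu x y ∈ center R := by
      rw [hcu]; exact mem_ucs2_iff.mp (inv_mem hy.1) _
    have hcp : Reg.cu x y ^ p = 1 := by
      rw [hcu, ← comm_pow_left_of_ucs2 (inv_mem hy.1), inv_pow, hy.2]
      simp
    have hc := mem_center_iff.mp hcen
    rw [mul_pow_of_central_commutator hp2 x y (hc x).symm (hc y).symm hcp, hx.2, hy.2, one_mul]
  | inv x _ hx => exact ⟨inv_mem hx.1, by rw [inv_pow, hx.2, inv_one]⟩

theorem mem_closure_center_pow {x : R}
    (hx : x ∈ closure {x : R | x ∈ center R ∧ x ^ p = 1}) :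
    x ∈ center R ∧ x ^ p = 1 := by
  induction hx using closure_induction with
  | mem x hx => exact hx
  | one => exact ⟨one_mem _, one_pow _⟩
  | mul x y _ _ hx hy =>
    refine ⟨mul_mem hx.1 hy.1, ?_⟩
    have hc : Commute x y := (mem_center_iff.mp hx.1 y).symm
    rw [hc.mul_pow, hx.2, hy.2, one_mul]
  | inv x _ hx => exact ⟨inv_mem hx.1, by rw [inv_pow, hx.2, inv_one]⟩

end ucs2

section normal
variable {P : Type*} [Group P] [Finite P] {p : ℕ} [hp : Fact p.Prime]

/-- A normal subgroup of prime order of a nilpotent group is central. -/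
theorem le_center_of_normal_card_prime [Group.IsNilpotent P] (N : Subgroup P) [N.Normal]
    (hN : Nat.card N = p) : N ≤ center P := by
  have hne : N ≠ ⊥ := by
    intro h
    rw [h, Subgroup.card_bot] at hN
    exact hp.out.one_lt.ne hN
  have h1 := normal_inf_center_ne_bot N hne
  have h2 : Nat.card (N ⊓ center P : Subgroup P) ∣ p := by
    rw [← hN]; exact Subgroup.card_dvd_of_le inf_le_left
  rcases (Nat.dvd_prime hp.out).mp h2 with h | h
  · exact absurd (Subgroup.card_eq_one.mp h) h1
  · have : N ⊓ center P = N := Subgroup.eq_of_le_of_card_ge inf_le_left (by rw [h, hN])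
    rw [← this]; exact inf_le_right

/-- A normal subgroup of order `p^2` of a `p`-group lies in the second centre. -/
theorem le_ucs2_of_normal_card_sq (hP : IsPGroup p P) (F : Subgroup P) [hF : F.Normal]
    (hF2 : Nat.card F = p ^ 2) : F ≤ Subgroup.upperCentralSeries P 2 := by
  have hnil : Group.IsNilpotent P := hP.isNilpotent
  have hbot : (⊥ : Subgroup P) ≠ F := by
    intro h
    rw [← h, Subgroup.card_bot] at hF2
    have : 1 < p ^ 2 := Nat.one_lt_pow (by norm_num) hp.out.one_lt
    omega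
  obtain ⟨N, hNn, -, hNF, hNcard⟩ := exists_normal_step hP ⊥ F bot_le hbot
  rw [Subgroup.card_bot, one_mul] at hNcard
  have hNZ : N ≤ center P := le_center_of_normal_card_prime N hNcard
  have hnilQ : Group.IsNilpotent (P ⧸ N) := (hP.to_quotient N).isNilpotent
  have hFbn : (F.map (QuotientGroup.mk' N)).Normal := hF.map _ (QuotientGroup.mk'_surjective N)
  have hFbcard : Nat.card (F.map (QuotientGroup.mk' N)) = p := by
    have h1 := card_comap_mk' N (F.map (QuotientGroup.mk' N))
    rw [Subgroup.comap_map_eq_self (by rw [QuotientGroup.ker_mk']; exact hNF), hF2, hNcard, sq] at h1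
    exact (Nat.eq_of_mul_eq_mul_left hp.out.pos h1).symm
  have hFbZ := le_center_of_normal_card_prime (F.map (QuotientGroup.mk' N)) hFbcard
  intro f hf
  rw [mem_ucs2_iff]
  intro y
  apply hNZ
  rw [← QuotientGroup.eq_one_iff]
  have h1 : ((f : P) : P ⧸ N) ∈ center (P ⧸ N) := hFbZ (Subgroup.mem_map_of_mem _ hf)
  have h2 := mem_center_iff.mp h1 (y : P ⧸ N)
  rw [commutatorElement_def]
  have h3 : ((f * y * f⁻¹ * y⁻¹ : P) : P ⧸ N) =
      (f : P ⧸ N) * (y : P ⧸ N) * (f : P ⧸ N)⁻¹ * (y : P ⧸ N)⁻¹ := rfl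
  rw [h3, ← h2]
  group

end normal

section main
variable {p : ℕ} [hp : Fact p.Prime]

theorem not_isCyclic_of_elementary_sq {P : Type*} [Group P] [Finite P] (E : Subgroup P)
    (hE : IsElementaryAbelian p E) (hcard : Nat.card E = p ^ 2) : ¬ IsCyclic P := by
  intro hcyc
  have hEc : IsCyclic E := inferInstance
  obtain ⟨g, hg⟩ := hEc.exists_generator
  have h1 : orderOf g = Nat.card E := orderOf_eq_card_of_forall_mem_zpowers hg
  have h2 : g ^ p = 1 := Subtype.ext (by simpa using hE.2 g g.2)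
  have h3 : orderOf g ∣ p := orderOf_dvd_of_pow_eq_one h2
  have h4 := Nat.le_of_dvd hp.out.pos h3
  rw [h1, hcard] at h4
  have : p < p ^ 2 := by nlinarith [hp.out.one_lt]
  omega

theorem s1453 {R : Type u} [Group R] [Finite R] (hp2 : p ≠ 2) (hR : IsPGroup p R)
    (hr : ¬ Cfsg.PRankLE p 2 R)
    (E : Subgroup R) (hE : Cfsg.IsElementaryAbelian p E) (hE2 : Nat.card E = p ^ 2)
    (hEmax : ∀ B : Subgroup R, Cfsg.IsElementaryAbelian p B → E ≤ B → B = E) :
    ¬ E ≤ Subgroup.centralizer ((Subgroup.closure {x : R | x ∈ Subgroup.upperCentralSeries R 2 ∧ x ^ p = 1} : Subgroup R) : Set R) ∧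
      Nat.card ↥(Subgroup.closure {x : R | x ∈ Subgroup.center R ∧ x ^ p = 1}) = p ∧
      (Cfsg.IsElementaryAbelian p (Subgroup.closure {x : R | x ∈ Subgroup.upperCentralSeries R 2 ∧ x ^ p = 1}) ∧
        Nat.card ↥(Subgroup.closure {x : R | x ∈ Subgroup.upperCentralSeries R 2 ∧ x ^ p = 1}) = p ^ 2) ∧
      (Subgroup.centralizer ((Subgroup.closure {x : R | x ∈ Subgroup.upperCentralSeries R 2 ∧ x ^ p = 1} : Subgroup R) : Set R)).Characteristic ∧
      (Subgroup.centralizer ((Subgroup.closure {x : R | x ∈ Subgroup.upperCentralSeries R 2 ∧ x ^ p = 1} : Subgroup R) : Set R)).index = p := by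
  have hnil : Group.IsNilpotent R := hR.isNilpotent
  have hp1 : 1 < p := hp.out.one_lt
  unfold Cfsg.PRankLE at hr
  push Not at hr
  obtain ⟨A₁, hA₁c, hA₁e, hA₁card⟩ := hr
  obtain ⟨W, hW⟩ : ∃ W : Subgroup R, W = closure {x : R | x ∈ Subgroup.upperCentralSeries R 2 ∧ x ^ p = 1} :=
    ⟨_, rfl⟩
  obtain ⟨Z, hZ⟩ : ∃ Z : Subgroup R, Z = closure {x : R | x ∈ center R ∧ x ^ p = 1} := ⟨_, rfl⟩
  rw [← hW, ← hZ]
  have hWmem : ∀ x, x ∈ W ↔ x ∈ Subgroup.upperCentralSeries R 2 ∧ x ^ p = 1 := by
    intro x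
    rw [hW]
    exact ⟨mem_closure_ucs2_pow hp2, fun h => subset_closure h⟩
  have hZmem : ∀ x, x ∈ Z ↔ x ∈ center R ∧ x ^ p = 1 := by
    intro x
    rw [hZ]
    exact ⟨mem_closure_center_pow, fun h => subset_closure h⟩
  -- (i)
  have hi : ∀ x : R, x ^ p = 1 → (∀ e ∈ E, e * x = x * e) → x ∈ E := by
    intro x hx hc
    have hB : IsElementaryAbelian p (E ⊔ zpowers x) :=
      isElementaryAbelian_sup_of_le_centralizer hE (isElementaryAbelian_zpowers hx) (by
        rw [zpowers_le, mem_centralizer_iff]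
        intro e he
        exact hc e he)
    have := hEmax _ hB le_sup_left
    rw [← this]
    exact (le_sup_right : zpowers x ≤ _) (mem_zpowers x)
  -- (ii)
  have hii : ¬ E.Normal := by
    intro hEn
    obtain ⟨N, hNn, hNel, hNcard, hEN⟩ :=
      exists_normal_elementary_cube hp2 hR E hE hE2 A₁ ⟨hA₁c, hA₁e⟩ hA₁card
    have := hEmax N hNel hEN
    rw [this, hE2] at hNcard
    have := Nat.pow_lt_pow_right hp1 (show 2 < 3 by norm_num)
    omega
  -- `Z`
  have hZE : Z ≤ E := by
    intro z hz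
    obtain ⟨hzc, hzp⟩ := (hZmem z).mp hz
    exact hi z hzp (fun e _ => mem_center_iff.mp hzc e)
  have hZW : Z ≤ W := by
    intro z hz
    obtain ⟨hzc, hzp⟩ := (hZmem z).mp hz
    refine (hWmem z).mpr ⟨?_, hzp⟩
    rw [mem_ucs2_iff]
    intro y
    rw [commutatorElement_def, ← mem_center_iff.mp hzc y]
    simp
  have hZne : Z ≠ ⊥ := by
    have hRnt : Nontrivial R := by
      by_contra hnt
      rw [not_nontrivial_iff_subsingleton] at hnt
      have : Nat.card E = 1 := Nat.card_unique
      rw [hE2] at this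
      have : 1 < p ^ 2 := Nat.one_lt_pow (by norm_num) hp1
      omega
    have hcnt := hR.center_nontrivial
    have hdvd : p ∣ Nat.card (center R) := by
      obtain ⟨k, hk⟩ := IsPGroup.iff_card.mp (hR.to_subgroup (center R))
      have hk0 : k ≠ 0 := by
        rintro rfl
        rw [pow_zero] at hk
        have := (Nat.card_eq_one_iff_unique.mp hk).1
        exact not_subsingleton _ this
      rw [hk]
      exact dvd_pow_self p hk0
    obtain ⟨y, hy⟩ := exists_prime_orderOf_dvd_card' p hdvd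
    intro hbot
    have hyZ : (y : R) ∈ Z := by
      refine (hZmem _).mpr ⟨y.2, ?_⟩
      have : y ^ p = 1 := by rw [← hy]; exact pow_orderOf_eq_one y
      exact_mod_cast congrArg Subtype.val this
    rw [hbot, mem_bot] at hyZ
    have : y = 1 := Subtype.ext hyZ
    rw [this, orderOf_one] at hy
    omega
  have hZcard : Nat.card Z = p := by
    have hdvd : Nat.card Z ∣ p ^ 2 := by rw [← hE2]; exact Subgroup.card_dvd_of_le hZE
    obtain ⟨j, hj, hjc⟩ := (Nat.dvd_prime_pow hp.out).mp hdvd
    have hj0 : j ≠ 0 := by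
      rintro rfl
      rw [pow_zero] at hjc
      exact hZne (Subgroup.card_eq_one.mp hjc)
    have hj2 : j ≠ 2 := by
      rintro rfl
      have hZeq : Z = E := Subgroup.eq_of_le_of_card_ge hZE (by rw [hjc, hE2])
      apply hii
      constructor
      intro n hn g
      have hnc : n ∈ center R := ((hZmem n).mp (hZeq ▸ hn)).1
      rw [mem_center_iff.mp hnc g, mul_inv_cancel_right]
      exact hn
    have hj1 : j = 1 := by omega
    rw [hjc, hj1, pow_one]
  -- a normal elementary abelian subgroup of order `p^2`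
  have hnc := not_isCyclic_of_elementary_sq E hE hE2
  obtain ⟨F, hFn, hFel, hF2⟩ := Cfsg.Agent.S0126.result hp2 hR hnc
  have hFW : F ≤ W := by
    intro f hf
    exact (hWmem f).mpr ⟨le_ucs2_of_normal_card_sq hR F hF2 hf, hFel.2 f hf⟩
  -- commutators of `W` with `R` lie in `Z`
  have hWR : ∀ w ∈ W, ∀ r : R, ⁅w, r⁆ ∈ Z := by
    intro w hw r
    obtain ⟨hw2, hwp⟩ := (hWmem w).mp hw
    refine (hZmem _).mpr ⟨mem_ucs2_iff.mp hw2 r, ?_⟩
    rw [← comm_pow_left_of_ucs2 hw2, hwp]
    simp
  -- an element of `E` outside `Z`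
  obtain ⟨x, hxE, hxZ⟩ : ∃ x ∈ E, x ∉ Z := by
    by_contra hno
    push Not at hno
    have h1 : Nat.card E ≤ Nat.card Z := Subgroup.card_le_of_le hno
    rw [hE2, hZcard] at h1
    nlinarith
  have hEgen : Z ⊔ zpowers x = E := by
    have hle : Z ⊔ zpowers x ≤ E := sup_le hZE (by rw [zpowers_le]; exact hxE)
    apply Subgroup.eq_of_le_of_card_ge hle
    have hlt : Z < Z ⊔ zpowers x := by
      apply lt_of_le_of_ne le_sup_left
      intro h
      apply hxZ
      rw [h]
      exact (le_sup_right : zpowers x ≤ _) (mem_zpowers x)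
    have h1 : Nat.card Z < Nat.card (Z ⊔ zpowers x : Subgroup R) := card_lt_of_lt hlt
    have h2 := card_ge_sq_of_gt (Z ⊔ zpowers x) (hR.to_subgroup _) (by rw [← hZcard]; exact h1)
    rw [hE2]; exact h2
  -- `C_W(x) ≤ E`
  have hCWx : W ⊓ centralizer ({x} : Set R) ≤ E := by
    intro w hw
    obtain ⟨hwW, hwx⟩ := mem_inf.mp hw
    apply hi w ((hWmem w).mp hwW).2
    intro e he
    have hD : Z ⊔ zpowers x ≤ centralizer ({w} : Set R) := by
      apply sup_le
      · intro z hz
        rw [mem_centralizer_iff]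
        intro y hy
        rw [Set.mem_singleton_iff] at hy
        rw [hy]
        exact mem_center_iff.mp ((hZmem z).mp hz).1 w
      · rw [zpowers_le, mem_centralizer_iff]
        intro y hy
        rw [Set.mem_singleton_iff] at hy
        rw [hy]
        exact (mem_centralizer_iff.mp hwx x rfl).symm
    rw [hEgen] at hD
    exact (mem_centralizer_iff.mp (hD he) w rfl).symm
  -- the commutator map `W → Z`, `w ↦ [w,x]`
  have hWcard_le : Nat.card W ≤ Nat.card (W ⊓ centralizer ({x} : Set R) : Subgroup R) * p := by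
    let φ : W →* R := MonoidHom.mk' (fun w => ⁅(w : R), x⁆) (by
      intro a b
      exact comm_mul_left_of_ucs2 ((hWmem b).mp b.2).1 x)
    have hker : φ.ker = (W ⊓ centralizer ({x} : Set R)).subgroupOf W := by
      ext w
      rw [MonoidHom.mem_ker, mem_subgroupOf, mem_inf]
      show ⁅(w : R), x⁆ = 1 ↔ _
      rw [commutatorElement_eq_one_iff_commute]
      constructor
      · intro h
        refine ⟨w.2, ?_⟩
        rw [mem_centralizer_iff]
        intro y hy
        rw [Set.mem_singleton_iff] at hy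
        rw [hy]
        exact h.eq.symm
      · intro h
        exact (mem_centralizer_iff.mp h.2 x rfl).symm
    have hrange : φ.range ≤ Z := by
      rintro _ ⟨w, rfl⟩
      exact hWR w w.2 x
    have h1 := Subgroup.card_mul_index φ.ker
    rw [Subgroup.index_ker, hker] at h1
    have h2 : Nat.card φ.range ≤ p := by rw [← hZcard]; exact Subgroup.card_le_of_le hrange
    have h3 : Nat.card ((W ⊓ centralizer ({x} : Set R)).subgroupOf W) =
        Nat.card (W ⊓ centralizer ({x} : Set R) : Subgroup R) :=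
      Nat.card_congr (Subgroup.subgroupOfEquivOfLe inf_le_left).toEquiv
    rw [h3] at h1
    rw [← h1]
    exact Nat.mul_le_mul_left _ h2
  have hWcard : Nat.card W = p ^ 2 := by
    have hge : p ^ 2 ≤ Nat.card W := by rw [← hF2]; exact Subgroup.card_le_of_le hFW
    apply le_antisymm _ hge
    by_contra hcon
    push Not at hcon
    -- `|W| ≥ p^3`
    obtain ⟨k, hk⟩ := IsPGroup.iff_card.mp (hR.to_subgroup W)
    have hk3 : 3 ≤ k := by
      by_contra hk3
      push Not at hk3
      have : p ^ k ≤ p ^ 2 := Nat.pow_le_pow_right hp.out.pos (by omega)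
      omega
    have hW3 : p ^ 3 ≤ Nat.card W := by rw [hk]; exact Nat.pow_le_pow_right hp.out.pos hk3
    have hC2 : p ^ 2 ≤ Nat.card (W ⊓ centralizer ({x} : Set R) : Subgroup R) := by
      have h1 : p ^ 2 * p ≤ Nat.card (W ⊓ centralizer ({x} : Set R) : Subgroup R) * p := by
        calc p ^ 2 * p = p ^ 3 := by ring
          _ ≤ _ := hW3.trans hWcard_le
      exact Nat.le_of_mul_le_mul_right h1 hp.out.pos
    have hCE : W ⊓ centralizer ({x} : Set R) = E :=
      Subgroup.eq_of_le_of_card_ge hCWx (by rw [hE2]; exact hC2)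
    have hEW : E ≤ W := by rw [← hCE]; exact inf_le_left
    apply hii
    constructor
    intro e he g
    have h1 : g * e * g⁻¹ = (⁅e, g⁆)⁻¹ * e := by rw [commutatorElement_def]; group
    rw [h1]
    exact E.mul_mem (E.inv_mem (hZE (hWR e (hEW he) g))) he
  have hWF : F = W := Subgroup.eq_of_le_of_card_ge hFW (by rw [hWcard, hF2])
  have hWel : IsElementaryAbelian p W := hWF ▸ hFel
  have hWn : W.Normal := hWF ▸ hFn
  -- (a)
  have ha : ¬ E ≤ centralizer (W : Set R) := by
    intro hle
    have hWE : W ≤ E := by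
      intro w hw
      apply hi w ((hWmem w).mp hw).2
      intro e he
      exact (mem_centralizer_iff.mp (hle he) w hw).symm
    have : W = E := Subgroup.eq_of_le_of_card_ge hWE (by rw [hWcard, hE2])
    exact hii (this ▸ hWn)
  have hWchar : W.Characteristic := by
    rw [characteristic_iff_map_le]
    intro ϕ
    rw [map_le_iff_le_comap, hW, closure_le]
    rintro y ⟨hy2, hyp⟩
    apply Subgroup.subset_closure
    refine ⟨?_, ?_⟩
    · have h1 := Subgroup.characteristic_iff_comap_eq.mp
        (inferInstance : (Subgroup.upperCentralSeries R 2).Characteristic) ϕ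
      have h2 : y ∈ (Subgroup.upperCentralSeries R 2).comap ϕ.toMonoidHom := by rw [h1]; exact hy2
      exact h2
    · show (ϕ y) ^ p = 1
      rw [← map_pow, hyp, map_one]
  refine ⟨ha, hZcard, ⟨hWel, hWcard⟩, inferInstance, ?_⟩
  -- the index
  obtain ⟨w₀, hw₀W, hw₀Z⟩ : ∃ w ∈ W, w ∉ Z := by
    by_contra hno
    push Not at hno
    have h1 : Nat.card W ≤ Nat.card Z := Subgroup.card_le_of_le hno
    rw [hWcard, hZcard] at h1
    nlinarith
  have hWgen : Z ⊔ zpowers w₀ = W := by
    have hle : Z ⊔ zpowers w₀ ≤ W := sup_le hZW (by rw [zpowers_le]; exact hw₀W)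
    apply Subgroup.eq_of_le_of_card_ge hle
    have hlt : Z < Z ⊔ zpowers w₀ := by
      apply lt_of_le_of_ne le_sup_left
      intro h
      apply hw₀Z
      rw [h]
      exact (le_sup_right : zpowers w₀ ≤ _) (mem_zpowers w₀)
    have h1 : Nat.card Z < Nat.card (Z ⊔ zpowers w₀ : Subgroup R) := card_lt_of_lt hlt
    have h2 := card_ge_sq_of_gt (Z ⊔ zpowers w₀) (hR.to_subgroup _) (by rw [← hZcard]; exact h1)
    rw [hWcard]; exact h2
  have hw₀2 := ((hWmem w₀).mp hw₀W).1
  let ψ : R →* R := MonoidHom.mk' (fun r => ⁅w₀, r⁆) (by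
    intro a b
    exact comm_mul_right_of_ucs2 hw₀2 a b)
  have hker : ψ.ker = centralizer (W : Set R) := by
    ext r
    rw [MonoidHom.mem_ker]
    show ⁅w₀, r⁆ = 1 ↔ _
    rw [commutatorElement_eq_one_iff_commute]
    constructor
    · intro h
      have hD : Z ⊔ zpowers w₀ ≤ centralizer ({r} : Set R) := by
        apply sup_le
        · intro z hz
          rw [mem_centralizer_iff]
          intro y hy
          rw [Set.mem_singleton_iff] at hy
          rw [hy]
          exact mem_center_iff.mp ((hZmem z).mp hz).1 r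
        · rw [zpowers_le, mem_centralizer_iff]
          intro y hy
          rw [Set.mem_singleton_iff] at hy
          rw [hy]
          exact h.eq.symm
      rw [hWgen] at hD
      rw [mem_centralizer_iff]
      intro w hw
      exact (mem_centralizer_iff.mp (hD hw) r rfl).symm
    · intro h
      exact (mem_centralizer_iff.mp h w₀ hw₀W)
  have hrange : ψ.range ≤ Z := by
    rintro _ ⟨r, rfl⟩
    exact hWR w₀ hw₀W r
  have h1 : (centralizer (W : Set R)).index ≤ p := by
    rw [← hker, Subgroup.index_ker, ← hZcard]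
    exact Subgroup.card_le_of_le hrange
  have h2 : (centralizer (W : Set R)).index ≠ 1 := by
    intro h
    rw [Subgroup.index_eq_one] at h
    apply ha
    rw [h]
    exact le_top
  obtain ⟨k, hk⟩ := (hR.index (centralizer (W : Set R)))
  rw [hk] at h1 h2 ⊢
  have hk0 : k ≠ 0 := by
    rintro rfl
    exact h2 (pow_zero p)
  have hk1 : k ≤ 1 := by
    by_contra hcon
    push Not at hcon
    have : p ^ 2 ≤ p ^ k := Nat.pow_le_pow_right hp.out.pos hcon
    nlinarith
  have : k = 1 := by omega
  rw [this, pow_one]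

end main

end Cfsg.Agent.Lib.Helper1.Rk
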