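import Mathlib
import Cfsg.Prelude.Def_PLocal
import Cfsg.Prelude.Def_CaseTheorems
import Cfsg.Agent.Lib.Helper1.Rk3
import Cfsg.Agent.Lib.Helper1.CoprimeAut
import Cfsg.Agent.Lib.Helper1.CriticalExists

/-! Automorphisms of `p'`-order of `p`-groups of rank at most two (odd `p`). -/
set_option autoImplicit false
universe u

namespace Cfsg.Agent.Lib.Helper1.Rk

open Cfsg Cfsg.Agent.Lib.Helper1 Subgroup
open scoped commutatorElement

section fixed
variable {P : Type u} [Group P]

/-- The subgroup of fixed points of an automorphism. -/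
def fixedSub (c : MulAut P) : Subgroup P where
  carrier := {x | c x = x}
  mul_mem' := by
    intro a b ha hb
    simp only [Set.mem_setOf_eq] at *
    rw [map_mul, ha, hb]
  one_mem' := map_one c
  inv_mem' := by
    intro a ha
    simp only [Set.mem_setOf_eq] at *
    rw [map_inv, ha]

theorem mem_fixedSub {c : MulAut P} {x : P} : x ∈ fixedSub c ↔ c x = x := Iff.rfl

theorem card_modEq_card_fixedSub [Finite P] (c : MulAut P) {q : ℕ} [hq : Fact q.Prime]
    (hcq : c ^ q = 1) : Nat.card P ≡ Nat.card (fixedSub c) [MOD q] := by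
  have hK : IsPGroup q (Subgroup.zpowers c) := by
    rintro ⟨k, hk⟩
    refine ⟨1, ?_⟩
    obtain ⟨n, rfl⟩ := Subgroup.mem_zpowers_iff.mp hk
    apply Subtype.ext
    rw [pow_one]
    show (c ^ n) ^ q = 1
    rw [← zpow_natCast, ← zpow_mul, mul_comm, zpow_mul, zpow_natCast, hcq, one_zpow]
  have h1 := hK.card_modEq_card_fixedPoints P
  have h2 : (MulAction.fixedPoints (Subgroup.zpowers c) P) = (fixedSub c : Set P) := by
    ext x
    rw [MulAction.mem_fixedPoints]
    constructor
    · intro h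
      exact h ⟨c, Subgroup.mem_zpowers c⟩
    · rintro h ⟨k, hk⟩
      obtain ⟨n, rfl⟩ := Subgroup.mem_zpowers_iff.mp hk
      show (c ^ n) x = x
      have hx : x ∈ fixedSub c := h
      have : ∀ m : ℕ, (c ^ m) x = x := by
        intro m
        induction m with
        | zero => simp
        | succ m ih => rw [pow_succ, MulAut.mul_apply, mem_fixedSub.mp hx, ih]
      rcases Int.eq_nat_or_neg n with ⟨m, rfl | rfl⟩
      · rw [zpow_natCast]; exact this m
      · rw [zpow_neg, zpow_natCast]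
        have h3 := this m
        calc (c ^ m)⁻¹ x = (c ^ m)⁻¹ ((c ^ m) x) := by rw [h3]
          _ = x := by rw [← MulAut.mul_apply, inv_mul_cancel, MulAut.one_apply]
  have h3 : Nat.card (MulAction.fixedPoints (Subgroup.zpowers c) P) = Nat.card (fixedSub c) := by
    rw [h2]; rfl
  rw [h3] at h1
  exact h1

theorem card_modEq_card_inf_fixedSub [Finite P] (c : MulAut P) {q : ℕ} [hq : Fact q.Prime]
    (hcq : c ^ q = 1) (Y : Subgroup P) (hY : ∀ y ∈ Y, c y ∈ Y) :
    Nat.card Y ≡ Nat.card (Y ⊓ fixedSub c : Subgroup P) [MOD q] := by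
  have hc' : (restrictAut c Y hY) ^ q = 1 := by
    ext x
    rw [restrictAut_pow_apply, hcq]
    rfl
  have h1 := card_modEq_card_fixedSub (restrictAut c Y hY) hc'
  have h2 : fixedSub (restrictAut c Y hY) = (Y ⊓ fixedSub c).subgroupOf Y := by
    ext x
    rw [mem_fixedSub, mem_subgroupOf, mem_inf, mem_fixedSub]
    constructor
    · intro h
      refine ⟨x.2, ?_⟩
      have := congrArg Subtype.val h
      rwa [restrictAut_apply] at this
    · intro h
      apply Subtype.ext
      rw [restrictAut_apply]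
      exact h.2
  rw [h2, Nat.card_congr (Subgroup.subgroupOfEquivOfLe (inf_le_left : Y ⊓ fixedSub c ≤ Y)).toEquiv] at h1
  exact h1

end fixed

section arith

theorem dvd_sq_sub_one_of_modEq {p q i j : ℕ} (hp : p.Prime) (hq : q.Prime) (hqp : q ≠ p)
    (hji : j < i) (hd : i - j ≤ 2) (h : p ^ i ≡ p ^ j [MOD q]) : q ∣ p ^ 2 - 1 := by
  have hcop : Nat.gcd q (p ^ j) = 1 :=
    Nat.Coprime.pow_right j ((Nat.coprime_primes hq hp).mpr hqp)
  have h1 : p ^ j * p ^ (i - j) ≡ p ^ j * 1 [MOD q] := by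
    rw [← pow_add, mul_one, show j + (i - j) = i by omega]
    exact h
  have h2 : p ^ (i - j) ≡ 1 [MOD q] := Nat.ModEq.cancel_left_of_coprime hcop h1
  have h3 : p ^ 2 ≡ 1 [MOD q] := by
    have hcases : i - j = 1 ∨ i - j = 2 := by omega
    rcases hcases with h | h
    · rw [h, pow_one] at h2
      have := h2.pow 2
      rwa [one_pow] at this
    · rwa [h] at h2
  exact (Nat.modEq_iff_dvd' (Nat.one_le_pow 2 p hp.pos)).mp h3.symm

theorem lt_of_prime_dvd_sq_sub_one {p q : ℕ} (hp : p.Prime) (hp2 : p ≠ 2) (hq : q.Prime)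
    (hqp : q ≠ p) (h : q ∣ p ^ 2 - 1) : q < p := by
  have hfac : p ^ 2 - 1 = (p - 1) * (p + 1) := by
    have h1 : 1 ≤ p := hp.pos
    obtain ⟨m, rfl⟩ : ∃ m, p = m + 1 := ⟨p - 1, by omega⟩
    have : (m + 1) ^ 2 - 1 = m * (m + 2) := by
      have : (m + 1) ^ 2 = m * (m + 2) + 1 := by ring
      omega
    rw [this]
    simp
  rw [hfac] at h
  rcases (Nat.Prime.dvd_mul hq).mp h with h | h
  · have h1 : 0 < p - 1 := by have := hp.two_le; omega
    have := Nat.le_of_dvd h1 h
    omega
  · have h1 := Nat.le_of_dvd (by omega) h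
    by_contra hcon
    push Not at hcon
    have hq1 : q = p + 1 := by omega
    rcases hp.eq_two_or_odd' with h2 | hodd
    · exact hp2 h2
    · have heven : 2 ∣ q := by
        rw [hq1]
        obtain ⟨k, hk⟩ := hodd
        exact ⟨k + 1, by omega⟩
      have := (Nat.prime_dvd_prime_iff_eq Nat.prime_two hq).mp heven
      have := hp.two_le
      omega

end arith

section rank
variable {p : ℕ} [hp : Fact p.Prime]

theorem pRankLE_subgroup {G : Type*} [Group G] {k : ℕ} (h : PRankLE p k G) (H : Subgroup G) :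
    PRankLE p k H := by
  intro A hA hAe
  have hel : IsElementaryAbelian p A := ⟨hA, hAe⟩
  have h1 := isElementaryAbelian_map hel H.subtype
  have h2 := h (A.map H.subtype) h1.1 h1.2
  rwa [Subgroup.card_map_of_injective H.subtype_injective] at h2

/-- A group of exponent `p` (odd) and rank at most two has order at most `p^3`. -/
theorem card_le_cube_of_exponent_rank_two {P : Type u} [Group P] [Finite P] (hp2 : p ≠ 2)
    (hP : IsPGroup p P) (hexp : ∀ x : P, x ^ p = 1) (hrk : PRankLE p 2 P) :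
    Nat.card P ≤ p ^ 3 := by
  have hnil : Group.IsNilpotent P := hP.isNilpotent
  have hp1 : 1 < p := hp.out.one_lt
  by_cases hcyc : IsCyclic P
  · obtain ⟨g, hg⟩ := hcyc.exists_generator
    have h1 : orderOf g = Nat.card P := orderOf_eq_card_of_forall_mem_zpowers hg
    have h3 : orderOf g ∣ p := orderOf_dvd_of_pow_eq_one (hexp g)
    have h4 := Nat.le_of_dvd hp.out.pos h3
    rw [h1] at h4
    have : p ≤ p ^ 3 := by
      calc p = p ^ 1 := (pow_one p).symm
        _ ≤ p ^ 3 := Nat.pow_le_pow_right hp.out.pos (by norm_num)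
    omega
  obtain ⟨B, hBn, hBel, hB2⟩ := Cfsg.Agent.S0126.result hp2 hP hcyc
  -- `C_P(B) = B`
  have hCB : ∀ c : P, (∀ e ∈ B, e * c = c * e) → c ∈ B := by
    intro c hc
    have hD : IsElementaryAbelian p (B ⊔ zpowers c) :=
      isElementaryAbelian_sup_of_le_centralizer hBel (isElementaryAbelian_zpowers (hexp c)) (by
        rw [zpowers_le, mem_centralizer_iff]
        intro e he
        exact hc e he)
    have h1 := hrk _ hD.1 hD.2
    have h2 : B ⊔ zpowers c = B := by
      symm
      apply Subgroup.eq_of_le_of_card_ge le_sup_left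
      rw [hB2]; exact h1
    rw [← h2]
    exact (le_sup_right : zpowers c ≤ _) (mem_zpowers c)
  by_cases hBZ : B ≤ center P
  · have : (⊤ : Subgroup P) ≤ B := by
      intro c _
      apply hCB
      intro e he
      exact (mem_center_iff.mp (hBZ he) c).symm
    have h1 : Nat.card P ≤ Nat.card B := by
      rw [← Subgroup.card_top (G := P)]
      exact Subgroup.card_le_of_le this
    rw [hB2] at h1
    have : p ^ 2 ≤ p ^ 3 := Nat.pow_le_pow_right hp.out.pos (by norm_num)
    omega
  obtain ⟨b, hbB, hbZ⟩ : ∃ b ∈ B, b ∉ center P := by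
    by_contra hno
    push Not at hno
    exact hBZ hno
  obtain ⟨Z₁, hZ₁⟩ : ∃ Z₁ : Subgroup P, Z₁ = B ⊓ center P := ⟨_, rfl⟩
  have hBne : B ≠ ⊥ := by
    intro h
    rw [h, Subgroup.card_bot] at hB2
    have : 1 < p ^ 2 := Nat.one_lt_pow (by norm_num) hp1
    omega
  have hZ₁ne : Z₁ ≠ ⊥ := by rw [hZ₁]; exact normal_inf_center_ne_bot B hBne
  have hZ₁B : Z₁ ≤ B := by rw [hZ₁]; exact inf_le_left
  have hZ₁card : Nat.card Z₁ = p := by
    have hdvd : Nat.card Z₁ ∣ p ^ 2 := by rw [← hB2]; exact Subgroup.card_dvd_of_le hZ₁B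
    obtain ⟨j, hj, hjc⟩ := (Nat.dvd_prime_pow hp.out).mp hdvd
    have hj0 : j ≠ 0 := by
      rintro rfl
      rw [pow_zero] at hjc
      exact hZ₁ne (Subgroup.card_eq_one.mp hjc)
    have hj2 : j ≠ 2 := by
      rintro rfl
      have hZeq : Z₁ = B := Subgroup.eq_of_le_of_card_ge hZ₁B (by rw [hjc, hB2])
      apply hbZ
      have : b ∈ Z₁ := by rw [hZeq]; exact hbB
      rw [hZ₁] at this
      exact this.2
    have hj1 : j = 1 := by omega
    rw [hjc, hj1, pow_one]
  have hbZ₁ : b ∉ Z₁ := by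
    intro h
    rw [hZ₁] at h
    exact hbZ h.2
  have hBgen : Z₁ ⊔ zpowers b = B := by
    have hle : Z₁ ⊔ zpowers b ≤ B := sup_le hZ₁B (by rw [zpowers_le]; exact hbB)
    apply Subgroup.eq_of_le_of_card_ge hle
    have hlt : Z₁ < Z₁ ⊔ zpowers b := by
      apply lt_of_le_of_ne le_sup_left
      intro h
      apply hbZ₁
      rw [h]
      exact (le_sup_right : zpowers b ≤ _) (mem_zpowers b)
    have h1 : Nat.card Z₁ < Nat.card (Z₁ ⊔ zpowers b : Subgroup P) := card_lt_of_lt hlt
    have h2 := card_ge_sq_of_gt (Z₁ ⊔ zpowers b) (hP.to_subgroup _) (by rw [← hZ₁card]; exact h1)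
    rw [hB2]; exact h2
  have hb2 : b ∈ Subgroup.upperCentralSeries P 2 := le_ucs2_of_normal_card_sq hP B hB2 hbB
  let ψ : P →* P := MonoidHom.mk' (fun r => ⁅b, r⁆) (by
    intro x y
    exact comm_mul_right_of_ucs2 hb2 x y)
  have hker : ψ.ker ≤ B := by
    intro r hr
    rw [MonoidHom.mem_ker] at hr
    have hr' : ⁅b, r⁆ = 1 := hr
    rw [commutatorElement_eq_one_iff_commute] at hr'
    apply hCB
    intro e he
    have hD : Z₁ ⊔ zpowers b ≤ centralizer ({r} : Set P) := by
      apply sup_le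
      · intro z hz
        rw [mem_centralizer_iff]
        intro y hy
        rw [Set.mem_singleton_iff] at hy
        rw [hy]
        rw [hZ₁] at hz
        exact mem_center_iff.mp hz.2 r
      · rw [zpowers_le, mem_centralizer_iff]
        intro y hy
        rw [Set.mem_singleton_iff] at hy
        rw [hy]
        exact hr'.eq.symm
    rw [hBgen] at hD
    exact (mem_centralizer_iff.mp (hD he) r rfl).symm
  have hrange : ψ.range ≤ Z₁ := by
    rintro _ ⟨r, rfl⟩
    show ⁅b, r⁆ ∈ Z₁
    rw [hZ₁]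
    refine mem_inf.mpr ⟨?_, mem_ucs2_iff.mp hb2 r⟩
    rw [commutatorElement_def]
    have h1 : r * b⁻¹ * r⁻¹ ∈ B := hBn.conj_mem _ (B.inv_mem hbB) r
    have h2 : b * r * b⁻¹ * r⁻¹ = b * (r * b⁻¹ * r⁻¹) := by group
    rw [h2]
    exact B.mul_mem hbB h1
  have h1 := Subgroup.card_mul_index ψ.ker
  rw [Subgroup.index_ker] at h1
  have h2 : Nat.card ψ.range ≤ p := by rw [← hZ₁card]; exact Subgroup.card_le_of_le hrange
  have h3 : Nat.card ψ.ker ≤ p ^ 2 := by rw [← hB2]; exact Subgroup.card_le_of_le hker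
  calc Nat.card P = Nat.card ψ.ker * Nat.card ψ.range := h1.symm
    _ ≤ p ^ 2 * p := Nat.mul_le_mul h3 h2
    _ = p ^ 3 := by ring

theorem dvd_sq_sub_one_of_aut {P : Type u} [Group P] [Finite P] (hp2 : p ≠ 2)
    (hP : IsPGroup p P) (hexp : ∀ x : P, x ^ p = 1) (hrk : PRankLE p 2 P) (c : MulAut P)
    {q : ℕ} [hq : Fact q.Prime] (hqp : q ≠ p) (hcq : c ^ q = 1) (hc1 : c ≠ 1) :
    q ∣ p ^ 2 - 1 := by
  have hp1 : 1 < p := hp.out.one_lt
  obtain ⟨i, hi⟩ := IsPGroup.iff_card.mp hP
  obtain ⟨j, hj⟩ := IsPGroup.iff_card.mp (hP.to_subgroup (fixedSub c))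
  have hcube := card_le_cube_of_exponent_rank_two hp2 hP hexp hrk
  have hi3 : i ≤ 3 := by
    rw [hi] at hcube
    exact (Nat.pow_le_pow_iff_right hp1).mp hcube
  have hFne : fixedSub c ≠ ⊤ := by
    intro h
    apply hc1
    ext x
    rw [MulAut.one_apply]
    exact mem_fixedSub.mp (h ▸ mem_top x)
  have hji : j < i := by
    have h1 : Nat.card (fixedSub c) < Nat.card P := by
      rw [← Subgroup.card_top (G := P)]
      exact card_lt_of_lt (lt_top_iff_ne_top.mpr hFne)
    rw [hi, hj] at h1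
    exact (Nat.pow_lt_pow_iff_right hp1).mp h1
  have hmod := card_modEq_card_fixedSub c hcq
  rw [hi, hj] at hmod
  by_cases hd : i - j ≤ 2
  · exact dvd_sq_sub_one_of_modEq hp.out hq.out hqp hji hd hmod
  · have hi3' : i = 3 := by omega
    have hj0 : j = 0 := by omega
    have hFbot : fixedSub c = ⊥ := by
      rw [hj0, pow_zero] at hj
      exact Subgroup.card_eq_one.mp hj
    have hZinv : ∀ y ∈ center P, c y ∈ center P := by
      intro y hy
      have h1 := Subgroup.characteristic_iff_comap_eq.mp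
        (inferInstance : (center P).Characteristic) c
      have h2 : y ∈ (center P).comap c.toMonoidHom := by rw [h1]; exact hy
      exact h2
    have hmodZ := card_modEq_card_inf_fixedSub c hcq (center P) hZinv
    rw [hFbot, inf_bot_eq, Subgroup.card_bot] at hmodZ
    obtain ⟨k, hk⟩ := IsPGroup.iff_card.mp (hP.to_subgroup (center P))
    have hk2 : k ≤ 2 := by
      have hZel : IsElementaryAbelian p (center P) :=
        ⟨inferInstance, fun a _ => hexp a⟩
      have := hrk (center P) hZel.1 hZel.2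
      rw [hk] at this
      exact (Nat.pow_le_pow_iff_right hp1).mp this
    have hk0 : 0 < k := by
      by_contra hk0
      push Not at hk0
      have hk0' : k = 0 := by omega
      rw [hk0', pow_zero] at hk
      have hPnt : Nontrivial P := by
        by_contra hnt
        rw [not_nontrivial_iff_subsingleton] at hnt
        have : Nat.card P = 1 := Nat.card_unique
        rw [hi, hi3'] at this
        have : 1 < p ^ 3 := Nat.one_lt_pow (by norm_num) hp1
        omega
      have hcnt := hP.center_nontrivial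
      have := (Nat.card_eq_one_iff_unique.mp hk).1
      exact not_subsingleton _ this
    rw [hk] at hmodZ
    have hmodZ' : p ^ k ≡ p ^ 0 [MOD q] := by rw [pow_zero]; exact hmodZ
    exact dvd_sq_sub_one_of_modEq hp.out hq.out hqp hk0 (by omega) hmodZ'

theorem s0640 {R : Type u} [Group R] [Finite R] (hp2 : p ≠ 2) (hR : IsPGroup p R)
    (hrk : Cfsg.PRankLE p 2 R) (q : ℕ) (hq : q.Prime) (hqp : q ≠ p)
    (hdvd : q ∣ Nat.card (MulAut R)) : q ∣ p ^ 2 - 1 ∧ q < p := by
  haveI : Fact q.Prime := ⟨hq⟩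
  suffices h : q ∣ p ^ 2 - 1 from ⟨h, lt_of_prime_dvd_sq_sub_one hp.out hp2 hq hqp h⟩
  obtain ⟨a, ha⟩ := exists_prime_orderOf_dvd_card' q hdvd
  have hcop : Nat.Coprime q p := (Nat.coprime_primes hq hp.out).mpr hqp
  obtain ⟨H, hHchar, hfrat, hcomm, hcent⟩ := exists_critical_subgroup hR
  have hHinv : ∀ x ∈ H, a x ∈ H := by
    intro y hy
    have h1 := Subgroup.characteristic_iff_comap_eq.mp hHchar a
    have h2 : y ∈ H.comap a.toMonoidHom := by rw [h1]; exact hy
    exact h2
  obtain ⟨b, hb⟩ : ∃ b : MulAut H, b = restrictAut a H hHinv := ⟨_, rfl⟩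
  have hbq : b ^ q = 1 := by
    rw [hb]
    ext x
    rw [restrictAut_pow_apply, ← ha, pow_orderOf_eq_one]
    rfl
  have hb1 : b ≠ 1 := by
    intro h1
    have : a = 1 := by
      apply coprime_aut_trivial_of_fix_self_centralizing hR H hHchar hcent a (by rw [ha]; exact hcop)
      intro x hx
      have h2 := congrArg (fun f : MulAut H => ((f ⟨x, hx⟩ : H) : R)) h1
      simp only [MulAut.one_apply] at h2
      rw [hb, restrictAut_apply] at h2
      exact h2
    rw [this, orderOf_one] at ha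
    exact hq.one_lt.ne ha
  have hbord : orderOf b = q := by
    have h1 : orderOf b ∣ q := orderOf_dvd_of_pow_eq_one hbq
    rcases (Nat.dvd_prime hq).mp h1 with h | h
    · exact absurd (orderOf_eq_one_iff.mp h) hb1
    · exact h
  have hHp : IsPGroup p H := hR.to_subgroup H
  have hCC : CommCentral H := by
    intro x y z
    have h1 : ⁅(x : R), (y : R)⁆ ∈ ⁅H, (⊤ : Subgroup R)⁆ :=
      Subgroup.commutator_mem_commutator x.2 (mem_top _)
    have h2 := (mem_inf.mp (hcomm h1)).2
    have h3 := mem_centralizer_iff.mp h2 z z.2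
    apply Subtype.ext
    exact h3.symm
  obtain ⟨T, hT⟩ : ∃ T : Subgroup H, T = closure {x : H | x ^ p = 1} := ⟨_, rfl⟩
  have hTexp : ∀ x ∈ T, x ^ p = 1 := by
    intro x hx
    rw [hT] at hx
    exact hCC.omega_exponent hp.out hp2 x hx
  have hTinv : ∀ x ∈ T, b x ∈ T := by
    intro x hx
    rw [hT]
    apply Subgroup.subset_closure
    show (b x) ^ p = 1
    rw [← map_pow, hTexp x hx, map_one]
  obtain ⟨c, hc⟩ : ∃ c : MulAut T, c = restrictAut b T hTinv := ⟨_, rfl⟩
  have hcq : c ^ q = 1 := by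
    rw [hc]
    ext x
    rw [restrictAut_pow_apply, hbq]
    rfl
  have hc1 : c ≠ 1 := by
    intro h1
    apply hb1
    apply coprime_aut_trivial_of_fix_omega hp2 hHp b (by rw [hbord]; exact hcop)
    intro x hx
    have hxT : x ∈ T := by rw [hT]; exact Subgroup.subset_closure hx
    have h2 := congrArg (fun f : MulAut T => ((f ⟨x, hxT⟩ : T) : H)) h1
    simp only [MulAut.one_apply] at h2
    rw [hc, restrictAut_apply] at h2
    exact h2
  have hTp : IsPGroup p T := hHp.to_subgroup T
  have hTexp' : ∀ x : T, x ^ p = 1 := fun x => Subtype.ext (by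
    rw [Subgroup.coe_pow, hTexp x x.2]; rfl)
  have hTrk : PRankLE p 2 T := pRankLE_subgroup (pRankLE_subgroup hrk H) T
  exact dvd_sq_sub_one_of_aut hp2 hTp hTexp' hTrk c hqp hcq hc1

end rank

end Cfsg.Agent.Lib.Helper1.Rk
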