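import Mathlib
import Cfsg.Agent.Lib.Helper1.Rk4
import Cfsg.Agent.Lib.Helper1.MC1
import Cfsg.Agent.Lib.Helper1.TF5

set_option autoImplicit false
universe u
open scoped commutatorElement

namespace Cfsg.Agent.Lib.Helper1.RT

open Cfsg Cfsg.Agent.Lib.Helper1 Subgroup

variable {p : ℕ} [hp : Fact p.Prime]

/-- Burnside: a `p'`-automorphism of a `p`-group acting trivially on the Frattini quotient is
trivial. -/
theorem aut_eq_one_of_trivial_mod_frattini {P : Type u} [Group P] [Finite P] (hP : IsPGroup p P)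
    (φ : MulAut P) (hcop : Nat.Coprime (orderOf φ) p) (h : ∀ x : P, φ x * x⁻¹ ∈ frattini P) :
    φ = 1 := by
  obtain ⟨n, hn⟩ := IsPGroup.iff_card.mp hP
  obtain ⟨r, hr⟩ : ∃ r, (frattini P).index = p ^ r := by
    have h1 : (frattini P).index ∣ p ^ n := hn ▸ Subgroup.index_dvd_card _
    obtain ⟨r, -, hr⟩ := (Nat.dvd_prime_pow hp.out).mp h1
    exact ⟨r, hr⟩
  have hφ : φ ∈ MC.trivModFrattini P := h
  have hdvd := Cfsg.Agent.S4207.result (P := P) (p := p) (n := n) (r := r) hn hr
    (MC.trivModFrattini P) (fun γ hγ x => hγ x)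
  have h1 : orderOf φ ∣ p ^ (r * (n - r)) := (Subgroup.orderOf_dvd_natCard _ hφ).trans hdvd
  have h2 : orderOf φ = 1 := Nat.Coprime.eq_one_of_dvd (Nat.Coprime.pow_right _ hcop) h1
  exact orderOf_eq_one_iff.mp h2

/-- A `p`-group of rank at most two (`p` odd) has a characteristic subgroup of exponent `p` and
order at most `p³` on which `p'`-automorphisms act faithfully. -/
theorem exists_small_faithful {R : Type u} [Group R] [Finite R] (hp2 : p ≠ 2) (hR : IsPGroup p R)
    (hrk : Cfsg.PRankLE p 2 R) :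
    ∃ U : Subgroup R, U.Characteristic ∧ (∀ x ∈ U, x ^ p = 1) ∧ Nat.card U ≤ p ^ 3 ∧
      ∀ a : MulAut R, Nat.Coprime (orderOf a) p → (∀ x ∈ U, a x = x) → a = 1 := by
  obtain ⟨H, hHchar, hfrat, hcomm, hcent⟩ := exists_critical_subgroup hR
  have hHp : IsPGroup p H := hR.to_subgroup H
  have hCC : CommCentral H := by
    intro x y z
    have h1 : ⁅(x : R), (y : R)⁆ ∈ ⁅H, (⊤ : Subgroup R)⁆ :=
      Subgroup.commutator_mem_commutator x.2 (mem_top _)
    have h2 := (mem_inf.mp (hcomm h1)).2
    have h3 := mem_centralizer_iff.mp h2 z z.2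
    apply Subtype.ext
    exact h3.symm
  obtain ⟨T, hT⟩ : ∃ T : Subgroup H, T = closure {x : H | x ^ p = 1} := ⟨_, rfl⟩
  have hTexp : ∀ x ∈ T, x ^ p = 1 := by
    intro x hx
    rw [hT] at hx
    exact hCC.omega_exponent hp.out hp2 x hx
  have hHinv : ∀ (a : MulAut R), ∀ x ∈ H, a x ∈ H := by
    intro a y hy
    have h1 := Subgroup.characteristic_iff_comap_eq.mp hHchar a
    have h2 : y ∈ H.comap a.toMonoidHom := by rw [h1]; exact hy
    exact h2
  refine ⟨T.map H.subtype, ?_, ?_, ?_, ?_⟩
  · rw [Subgroup.characteristic_iff_map_le]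
    intro φ
    rintro _ ⟨_, ⟨t, ht, rfl⟩, rfl⟩
    have htH : φ (t : R) ∈ H := hHinv φ _ t.2
    refine ⟨⟨φ t, htH⟩, ?_, rfl⟩
    rw [hT]
    apply Subgroup.subset_closure
    show (⟨φ (t : R), htH⟩ : H) ^ p = 1
    apply Subtype.ext
    rw [Subgroup.coe_pow]
    show (φ (t : R)) ^ p = 1
    rw [← map_pow]
    have := congrArg Subtype.val (hTexp t ht)
    rw [Subgroup.coe_pow] at this
    rw [this]
    exact map_one φ
  · rintro _ ⟨t, ht, rfl⟩
    have := congrArg Subtype.val (hTexp t ht)
    rw [Subgroup.coe_pow] at this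
    exact this
  · rw [Subgroup.card_map_of_injective H.subtype_injective]
    have hTp : IsPGroup p T := hHp.to_subgroup T
    have hTexp' : ∀ x : T, x ^ p = 1 := fun x => Subtype.ext (by
      rw [Subgroup.coe_pow, hTexp x x.2]; rfl)
    have hTrk : PRankLE p 2 T := Rk.pRankLE_subgroup (Rk.pRankLE_subgroup hrk H) T
    exact Rk.card_le_cube_of_exponent_rank_two hp2 hTp hTexp' hTrk
  · intro a hcop hfix
    apply coprime_aut_trivial_of_fix_self_centralizing hR H hHchar hcent a hcop
    obtain ⟨b, hb⟩ : ∃ b : MulAut H, b = restrictAut a H (hHinv a) := ⟨_, rfl⟩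
    have hb1 : b = 1 := by
      apply coprime_aut_trivial_of_fix_omega hp2 hHp b
      · exact Nat.Coprime.coprime_dvd_left (hb ▸ orderOf_restrictAut_dvd a H (hHinv a)) hcop
      · intro x hx
        have hxT : x ∈ T := by rw [hT]; exact Subgroup.subset_closure hx
        apply Subtype.ext
        rw [hb, restrictAut_apply]
        exact hfix _ ⟨x, hxT, rfl⟩
    intro x hx
    have h2 := congrArg (fun f : MulAut H => ((f ⟨x, hx⟩ : H) : R)) hb1
    simp only [MulAut.one_apply] at h2
    rw [hb, restrictAut_apply] at h2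
    exact h2

/-- Automorphisms induce automorphisms of the quotient by a characteristic subgroup. -/
noncomputable def quotAut {U : Type u} [Group U] (N : Subgroup U) [hN : N.Characteristic] :
    MulAut U →* MulAut (U ⧸ N) where
  toFun φ := QuotientGroup.congr N N φ (Subgroup.characteristic_iff_map_eq.mp hN φ)
  map_one' := by
    apply MulEquiv.ext
    intro y
    obtain ⟨x, rfl⟩ := QuotientGroup.mk_surjective y
    rfl
  map_mul' := by
    intro φ ψ
    apply MulEquiv.ext
    intro y
    obtain ⟨x, rfl⟩ := QuotientGroup.mk_surjective y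
    rfl

theorem quotAut_mk {U : Type u} [Group U] (N : Subgroup U) [hN : N.Characteristic]
    (φ : MulAut U) (x : U) : quotAut N φ (x : U ⧸ N) = ((φ x : U) : U ⧸ N) :=
  rfl

end Cfsg.Agent.Lib.Helper1.RT
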