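import Mathlib

/-! The diagonal ("norm") map attached to a subgroup permuted by an abelian group with
commuting distinct conjugates. -/
set_option autoImplicit false
universe u
open scoped commutatorElement Pointwise

namespace Cfsg.Agent.Lib.Helper1.CX

variable {G : Type u} [Group G]

theorem noncommProd_univ_equiv {ι M : Type*} [Fintype ι] [Monoid M] (σ : ι ≃ ι) (f : ι → M)
    (comm : ((Finset.univ : Finset ι) : Set ι).Pairwise (Function.onFun Commute (fun c => f (σ c))))
    (comm' : ((Finset.univ : Finset ι) : Set ι).Pairwise (Function.onFun Commute f)) :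
    Finset.univ.noncommProd (fun c => f (σ c)) comm = Finset.univ.noncommProd f comm' := by
  unfold Finset.noncommProd
  have h : Multiset.map (fun c => f (σ c)) Finset.univ.val = Multiset.map f Finset.univ.val := by
    conv_rhs => rw [← Multiset.map_univ_val_equiv σ]
    rw [Multiset.map_map]
    rfl
  congr 1

theorem exists_diag [Finite G] (Y L : Subgroup G)
    (hYc : ∀ a ∈ Y, ∀ b ∈ Y, a * b = b * a)
    (hdich : ∀ y ∈ Y, y ∈ Subgroup.centralizer (L : Set G) ∨
      L.map (MulAut.conj y).toMonoidHom ≤ Subgroup.centralizer (L : Set G)) :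
    ∃ ν : ↥L →* G,
      (∀ l : ↥L, ∀ y ∈ Y, y * ν l = ν l * y) ∧
      (∀ l : ↥L, ∃ r : G, ν l = (l : G) * r ∧ r ∈ Subgroup.centralizer (L : Set G) ∧
        ∀ P : Subgroup G, Y ≤ Subgroup.normalizer (P : Set G) → (l : G) ∈ P → r ∈ P) := by
  classical
  obtain ⟨Y₁, hY₁⟩ : ∃ Y₁ : Subgroup ↥Y, Y₁ = (Subgroup.centralizer (L : Set G)).subgroupOf Y :=
    ⟨_, rfl⟩
  have hY₁n : Y₁.Normal := by
    constructor
    intro n hn g
    have : g * n * g⁻¹ = n := by
      apply Subtype.ext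
      have := hYc g g.2 n n.2
      simp only [Subgroup.coe_mul, Subgroup.coe_inv]
      rw [this]; group
    rw [this]; exact hn
  let T := ↥Y ⧸ Y₁
  letI : Fintype T := Fintype.ofFinite T
  let rep : T → ↥Y := fun c => Quotient.out c
  have hrep : ∀ c : T, (QuotientGroup.mk (rep c) : T) = c := fun c => QuotientGroup.out_eq' c
  let g : ↥L → T → G := fun l c => ((rep c : ↥Y) : G) * (l : G) * ((rep c : ↥Y) : G)⁻¹
  have hcomm : ∀ c c' : T, c ≠ c' → ∀ l l' : ↥L, Commute (g l c) (g l' c') := by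
    intro c c' hne l l'
    have hz : ((rep c)⁻¹ * rep c' : ↥Y) ∉ Y₁ := by
      intro h
      apply hne
      rw [← hrep c, ← hrep c']
      exact QuotientGroup.eq.mpr h
    rw [hY₁, Subgroup.mem_subgroupOf] at hz
    have h1 := (hdich _ ((rep c)⁻¹ * rep c' : ↥Y).2).resolve_left hz
    have h2 : (((rep c)⁻¹ * rep c' : ↥Y) : G) * (l' : G) * (((rep c)⁻¹ * rep c' : ↥Y) : G)⁻¹ ∈
        Subgroup.centralizer (L : Set G) := h1 ⟨l', l'.2, rfl⟩
    have h3 := Subgroup.mem_centralizer_iff.mp h2 l l.2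
    simp only [Subgroup.coe_mul, Subgroup.coe_inv] at h3
    change ((rep c : ↥Y) : G) * (l : G) * ((rep c : ↥Y) : G)⁻¹ *
      (((rep c' : ↥Y) : G) * (l' : G) * ((rep c' : ↥Y) : G)⁻¹) =
      ((rep c' : ↥Y) : G) * (l' : G) * ((rep c' : ↥Y) : G)⁻¹ *
      (((rep c : ↥Y) : G) * (l : G) * ((rep c : ↥Y) : G)⁻¹)
    have e1 : ((rep c : ↥Y) : G) * (l : G) * ((rep c : ↥Y) : G)⁻¹ *
      (((rep c' : ↥Y) : G) * (l' : G) * ((rep c' : ↥Y) : G)⁻¹) =
      ((rep c : ↥Y) : G) * ((l : G) * ((((rep c : ↥Y) : G))⁻¹ * ((rep c' : ↥Y) : G) * (l' : G) *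
        ((((rep c : ↥Y) : G))⁻¹ * ((rep c' : ↥Y) : G))⁻¹)) * ((rep c : ↥Y) : G)⁻¹ := by group
    have e2 : ((rep c' : ↥Y) : G) * (l' : G) * ((rep c' : ↥Y) : G)⁻¹ *
      (((rep c : ↥Y) : G) * (l : G) * ((rep c : ↥Y) : G)⁻¹) =
      ((rep c : ↥Y) : G) * ((((rep c : ↥Y) : G))⁻¹ * ((rep c' : ↥Y) : G) * (l' : G) *
        ((((rep c : ↥Y) : G))⁻¹ * ((rep c' : ↥Y) : G))⁻¹ * (l : G)) * ((rep c : ↥Y) : G)⁻¹ := by group
    rw [e1, e2, h3]
  let φ : T → (↥L →* G) := fun c => ((MulAut.conj ((rep c : ↥Y) : G)).toMonoidHom).comp L.subtype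
  have hφ : ∀ c l, φ c l = g l c := fun c l => rfl
  have hcommφ : Pairwise fun c c' : T => ∀ x y : ↥L, Commute (φ c x) (φ c' y) := by
    intro c c' hne x y
    exact hcomm c c' hne x y
  let ν : ↥L →* G := (MonoidHom.noncommPiCoprod φ hcommφ).comp
    (MonoidHom.pi (fun _ : T => MonoidHom.id ↥L))
  have hcommS : ∀ l : ↥L, ((Finset.univ : Finset T) : Set T).Pairwise
      (Function.onFun Commute (g l)) := fun l c _ c' _ hne => hcomm c c' hne l l
  have hν : ∀ l : ↥L, ν l = Finset.univ.noncommProd (g l) (hcommS l) := fun l => rfl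
  have hY₁mem : ∀ y : ↥Y, y ∈ Y₁ ↔ (y : G) ∈ Subgroup.centralizer (L : Set G) := by
    intro y; rw [hY₁, Subgroup.mem_subgroupOf]
  have hcentconj : ∀ z : G, z ∈ Subgroup.centralizer (L : Set G) → ∀ l : ↥L,
      z * (l : G) * z⁻¹ = (l : G) := by
    intro z hz l
    have := Subgroup.mem_centralizer_iff.mp hz l l.2
    rw [← this]; group
  refine ⟨ν, ?_, ?_⟩
  · intro l y hy
    have key : MulAut.conj y (ν l) = ν l := by
      rw [hν]
      have hmap := Finset.map_noncommProd Finset.univ (g l) (hcommS l) (MulAut.conj y)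
      rw [hmap]
      let σ : T ≃ T := Equiv.mulLeft (QuotientGroup.mk (⟨y, hy⟩ : ↥Y) : T)
      have hσ : ∀ c : T, MulAut.conj y (g l c) = g l (σ c) := by
        intro c
        have hz : ((rep (σ c))⁻¹ * ((⟨y, hy⟩ : ↥Y) * rep c) : ↥Y) ∈ Y₁ := by
          apply QuotientGroup.eq.mp
          rw [hrep, QuotientGroup.mk_mul, hrep]
          rfl
        rw [hY₁mem] at hz
        have h1 := hcentconj _ hz l
        simp only [Subgroup.coe_mul, Subgroup.coe_inv] at h1
        change y * (((rep c : ↥Y) : G) * (l : G) * ((rep c : ↥Y) : G)⁻¹) * y⁻¹ =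
          ((rep (σ c) : ↥Y) : G) * (l : G) * ((rep (σ c) : ↥Y) : G)⁻¹
        have e : y * (((rep c : ↥Y) : G) * (l : G) * ((rep c : ↥Y) : G)⁻¹) * y⁻¹ =
            ((rep (σ c) : ↥Y) : G) * ((((rep (σ c) : ↥Y) : G))⁻¹ * (y * ((rep c : ↥Y) : G)) * (l : G) *
              ((((rep (σ c) : ↥Y) : G))⁻¹ * (y * ((rep c : ↥Y) : G)))⁻¹) *
              ((rep (σ c) : ↥Y) : G)⁻¹ := by group
        rw [e, h1]
      have hfun : (fun c => MulAut.conj y (g l c)) = fun c => g l (σ c) := funext hσ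
      have := noncommProd_univ_equiv σ (g l)
        (fun c _ c' _ hne => hcomm (σ c) (σ c') (fun h => hne (σ.injective h)) l l)
        (hcommS l)
      rw [← this]
      congr 1
    rw [MulAut.conj_apply] at key
    calc y * ν l = (y * ν l * y⁻¹) * y := by group
      _ = ν l * y := by rw [key]
  · intro l
    have hc₀ : ((rep (1 : T) : ↥Y) : G) ∈ Subgroup.centralizer (L : Set G) := by
      rw [← hY₁mem, ← QuotientGroup.eq_one_iff]
      exact hrep 1
    have hg₀ : g l 1 = (l : G) := hcentconj _ hc₀ l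
    have hcommE : (((Finset.univ : Finset T).erase 1 : Finset T) : Set T).Pairwise
        (Function.onFun Commute (g l)) := fun c _ c' _ hne => hcomm c c' hne l l
    have hsplit : g l 1 * ((Finset.univ : Finset T).erase 1).noncommProd (g l) hcommE =
        Finset.univ.noncommProd (g l) (hcommS l) :=
      Finset.mul_noncommProd_erase Finset.univ (Finset.mem_univ (1 : T)) (g l) (hcommS l)
    refine ⟨((Finset.univ : Finset T).erase 1).noncommProd (g l) hcommE, ?_, ?_, ?_⟩
    · rw [hν, ← hsplit, hg₀]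
    · apply Subgroup.noncommProd_mem
      intro c hc
      have hc1 : c ≠ 1 := (Finset.mem_erase.mp hc).1
      have hrc : ((rep c : ↥Y) : G) ∉ Subgroup.centralizer (L : Set G) := by
        intro h
        apply hc1
        rw [← hrep c, QuotientGroup.eq_one_iff, hY₁mem]
        exact h
      exact ((hdich _ (rep c).2).resolve_left hrc) ⟨l, l.2, rfl⟩
    · intro P hP hl
      apply Subgroup.noncommProd_mem
      intro c _
      exact (Subgroup.mem_normalizer_iff.mp (hP (rep c).2) _).mp hl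

end Cfsg.Agent.Lib.Helper1.CX
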