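import Mathlib
import Cfsg.Agent.Lib.Helper1.FF16
import Cfsg.Agent.Lib.Helper1.CX1
import Cfsg.Agent.Lib.Lead.FixedMod

/-! Components fixed by a coprime abelian operator group: the diagonal `SL(2,p)`. -/
set_option autoImplicit false
universe u
open Cfsg
open scoped commutatorElement Pointwise

namespace Cfsg.Agent.Lib.Helper1.CX
open Cfsg.Agent.Lib.Helper1.FF

variable {G : Type u} [Group G]

/-- a `q`-group normalizing a group of order `p²` centralizes it unless `q ∣ p² - 1` or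
`q ∣ p² - p` -/
theorem le_centralizer_of_isPGroup_of_card_sq [Finite G] {p q : ℕ} [hp : Fact p.Prime]
    [hq : Fact q.Prime] {Y W : Subgroup G} (hY : IsPGroup q Y)
    (hYW : Y ≤ Subgroup.normalizer (W : Set G)) (hW : Nat.card W = p ^ 2)
    (h1 : ¬ q ∣ p ^ 2 - 1) (h2 : ¬ q ∣ p ^ 2 - p) : Y ≤ Subgroup.centralizer (W : Set G) := by
  letI : MulAction ↥Y G := MulAction.compHom G ((MulAut.conj (G := G)).comp Y.subtype)
  have hsmul : ∀ (y : ↥Y) (x : G), y • x = (y : G) * x * (y : G)⁻¹ := fun y x => rfl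
  have hinv : ∀ g : ↥Y, ∀ x ∈ (W : Set G), g • x ∈ (W : Set G) := by
    intro g x hx
    rw [hsmul]
    exact (Subgroup.mem_normalizer_iff.mp (hYW g.2) x).mp hx
  have hmod := Cfsg.Agent.Lib.Lead.FixedMod.card_modEq_inter_fixedPoints hY (W : Set G) hinv
  have hset : ((W : Set G) ∩ MulAction.fixedPoints ↥Y G) =
      ((W ⊓ Subgroup.centralizer (Y : Set G) : Subgroup G) : Set G) := by
    ext x
    simp only [Set.mem_inter_iff, SetLike.mem_coe, MulAction.mem_fixedPoints, Subgroup.coe_inf,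
      Subgroup.mem_centralizer_iff]
    constructor
    · rintro ⟨hx, hfix⟩
      refine ⟨hx, ?_⟩
      intro y hy
      have := hfix ⟨y, hy⟩
      rw [hsmul] at this
      calc y * x = (y * x * y⁻¹) * y := by group
        _ = x * y := by rw [this]
    · rintro ⟨hx, hc⟩
      refine ⟨hx, ?_⟩
      intro y
      rw [hsmul, hc y y.2]; group
  rw [hset] at hmod
  have hcW : Nat.card (W : Set G) = p ^ 2 := hW
  have hdvd : Nat.card ↥(W ⊓ Subgroup.centralizer (Y : Set G) : Subgroup G) ∣ p ^ 2 := by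
    rw [← hW]; exact Subgroup.card_dvd_of_le inf_le_left
  have hcases := card_eq_of_dvd_prime_sq hdvd
  have hmod' : p ^ 2 ≡ Nat.card ↥(W ⊓ Subgroup.centralizer (Y : Set G) : Subgroup G) [MOD q] := by
    rw [← hcW]; exact hmod
  have hp1 : 1 ≤ p := hp.out.one_lt.le
  rcases hcases with h | h | h
  · exfalso
    rw [h] at hmod'
    apply h1
    exact (Nat.modEq_iff_dvd' (Nat.one_le_pow _ _ hp.out.pos)).mp hmod'.symm
  · exfalso
    rw [h] at hmod'
    apply h2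
    have hle : p ≤ p ^ 2 := by nlinarith
    exact (Nat.modEq_iff_dvd' hle).mp hmod'.symm
  · have heq : W ⊓ Subgroup.centralizer (Y : Set G) = W := by
      apply Subgroup.eq_of_le_of_card_ge inf_le_left
      rw [h, hW]
    rw [Subgroup.le_centralizer_iff, ← heq]
    exact inf_le_right

namespace Ops

variable {p : ℕ} {V H Q : Subgroup G} {s : Setup p V H Q} {A : Subgroup G}

/-- conjugation by an element normalizing `V` and `H` preserves transvection groups -/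
theorem isTrH_conj (h : s.IsTrH A) {y : G} (hyV : y ∈ Subgroup.normalizer (V : Set G))
    (hyH : y ∈ Subgroup.normalizer (H : Set G)) :
    s.IsTrH (A.map (MulAut.conj y).toMonoidHom) where
  hAH := by
    rintro _ ⟨a, ha, rfl⟩
    exact (Subgroup.mem_normalizer_iff.mp hyH a).mp (h.hAH ha)
  hcard := by
    rw [Subgroup.card_map_of_injective (MulAut.conj y).injective, h.hcard]
  hZ := by
    rw [commutator_map_conj V A hyV,
      Subgroup.card_map_of_injective (MulAut.conj y).injective, h.hZ]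

theorem E_map_conj {y : G} (hyQ : y ∈ Subgroup.normalizer (Q : Set G)) :
    (⁅Q, A⁆ ⊔ A).map (MulAut.conj y).toMonoidHom =
      ⁅Q, A.map (MulAut.conj y).toMonoidHom⁆ ⊔ A.map (MulAut.conj y).toMonoidHom := by
  rw [Subgroup.map_sup, commutator_map_conj Q A hyQ]

theorem W_map_conj {y : G} (hyV : y ∈ Subgroup.normalizer (V : Set G))
    (hyQ : y ∈ Subgroup.normalizer (Q : Set G)) :
    (⁅V, ⁅Q, A⁆ ⊔ A⁆).map (MulAut.conj y).toMonoidHom =
      ⁅V, ⁅Q, A.map (MulAut.conj y).toMonoidHom⁆ ⊔ A.map (MulAut.conj y).toMonoidHom⁆ := by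
  rw [← commutator_map_conj V _ hyV, E_map_conj hyQ]

theorem mem_centralizer_sup {X Y : Subgroup G} {y : G}
    (hX : y ∈ Subgroup.centralizer (X : Set G)) (hY : y ∈ Subgroup.centralizer (Y : Set G)) :
    y ∈ Subgroup.centralizer ((X ⊔ Y : Subgroup G) : Set G) := by
  have h1 : X ≤ Subgroup.centralizer ((Subgroup.zpowers y : Subgroup G) : Set G) := by
    rw [Subgroup.le_centralizer_iff, Subgroup.zpowers_le]; exact hX
  have h2 : Y ≤ Subgroup.centralizer ((Subgroup.zpowers y : Subgroup G) : Set G) := by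
    rw [Subgroup.le_centralizer_iff, Subgroup.zpowers_le]; exact hY
  have h3 := sup_le h1 h2
  rw [Subgroup.le_centralizer_iff, Subgroup.zpowers_le] at h3
  exact h3

theorem mem_normalizer_of_map_conj_eq {W : Subgroup G} {y : G}
    (h : W.map (MulAut.conj y).toMonoidHom = W) : y ∈ Subgroup.normalizer (W : Set G) := by
  rw [Subgroup.mem_normalizer_iff]
  intro w
  constructor
  · intro hw
    rw [← h]; exact ⟨w, hw, rfl⟩
  · intro hw
    rw [← h] at hw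
    obtain ⟨w', hw', he⟩ := hw
    have : w' = w := (MulAut.conj y).injective he
    rw [← this]; exact hw'

/-- the dichotomy: an operator either centralizes `W E` or moves it to a commuting conjugate -/
theorem dichotomy [Finite G] [hp : Fact p.Prime] (h : s.IsTrH A) {q : ℕ} [hq : Fact q.Prime]
    {y : G} (hyq : IsPGroup q (Subgroup.zpowers y))
    (hyV : y ∈ Subgroup.normalizer (V : Set G)) (hyH : y ∈ Subgroup.normalizer (H : Set G))
    (hyQ : y ∈ Subgroup.normalizer (Q : Set G))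
    (h1 : ¬ q ∣ p ^ 2 - 1) (h2 : ¬ q ∣ p ^ 2 - p) :
    y ∈ Subgroup.centralizer ((⁅V, ⁅Q, A⁆ ⊔ A⁆ ⊔ (⁅Q, A⁆ ⊔ A) : Subgroup G) : Set G) ∨
      (⁅V, ⁅Q, A⁆ ⊔ A⁆ ⊔ (⁅Q, A⁆ ⊔ A)).map (MulAut.conj y).toMonoidHom ≤
        Subgroup.centralizer ((⁅V, ⁅Q, A⁆ ⊔ A⁆ ⊔ (⁅Q, A⁆ ⊔ A) : Subgroup G) : Set G) := by
  have hB := isTrH_conj h hyV hyH
  have hEy := E_map_conj (A := A) hyQ
  have hWy := W_map_conj (A := A) hyV hyQ
  by_cases hW : ⁅V, ⁅Q, A⁆ ⊔ A⁆ =
      ⁅V, ⁅Q, A.map (MulAut.conj y).toMonoidHom⁆ ⊔ A.map (MulAut.conj y).toMonoidHom⁆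
  · left
    have hE := h.E_eq_of_W_eq hB hW
    have hyW : y ∈ Subgroup.centralizer ((⁅V, ⁅Q, A⁆ ⊔ A⁆ : Subgroup G) : Set G) := by
      have hnorm : Subgroup.zpowers y ≤
          Subgroup.normalizer ((⁅V, ⁅Q, A⁆ ⊔ A⁆ : Subgroup G) : Set G) := by
        rw [Subgroup.zpowers_le]
        apply mem_normalizer_of_map_conj_eq
        rw [hWy, ← hW]
      have := le_centralizer_of_isPGroup_of_card_sq hyq hnorm h.card_W h1 h2
      exact this (Subgroup.mem_zpowers y)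
    apply mem_centralizer_sup hyW
    rw [Subgroup.mem_centralizer_iff]
    intro e he
    have hye : y * e * y⁻¹ ∈ ⁅Q, A⁆ ⊔ A := by
      have : y * e * y⁻¹ ∈ (⁅Q, A⁆ ⊔ A).map (MulAut.conj y).toMonoidHom := ⟨e, he, rfl⟩
      rw [hEy, ← hE] at this
      exact this
    have hmem : e⁻¹ * (y * e * y⁻¹) ∈ (⁅Q, A⁆ ⊔ A) ⊓
        Subgroup.centralizer ((⁅V, ⁅Q, A⁆ ⊔ A⁆ : Subgroup G) : Set G) := by
      refine Subgroup.mem_inf.mpr ⟨Subgroup.mul_mem _ (Subgroup.inv_mem _ he) hye, ?_⟩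
      rw [Subgroup.mem_centralizer_iff]
      intro w hw
      have hEW : ⁅Q, A⁆ ⊔ A ≤ Subgroup.normalizer ((⁅V, ⁅Q, A⁆ ⊔ A⁆ : Subgroup G) : Set G) :=
        le_normalizer_commutator_right V _
      have hw1 : e * w * e⁻¹ ∈ ⁅V, ⁅Q, A⁆ ⊔ A⁆ :=
        (Subgroup.mem_normalizer_iff.mp (hEW he) w).mp hw
      have hc1 := Subgroup.mem_centralizer_iff.mp hyW w hw
      have hc2 := Subgroup.mem_centralizer_iff.mp hyW _ hw1
      -- y commutes with w and with e w e⁻¹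
      have e1 : y⁻¹ * w * y = w := by
        calc y⁻¹ * w * y = y⁻¹ * (w * y) := by group
          _ = w := by rw [hc1]; group
      have e2 : y * (e * w * e⁻¹) * y⁻¹ = e * w * e⁻¹ := by
        calc y * (e * w * e⁻¹) * y⁻¹ = (e * w * e⁻¹ * y) * y⁻¹ := by rw [hc2]
          _ = e * w * e⁻¹ := by group
      have e3 : y * w * y⁻¹ = w := by
        calc y * w * y⁻¹ = (w * y) * y⁻¹ := by rw [hc1]
          _ = w := by group
      calc w * (e⁻¹ * (y * e * y⁻¹)) = e⁻¹ * ((e * w * e⁻¹) * y) * e * y⁻¹ := by group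
        _ = e⁻¹ * (y * (e * w * e⁻¹)) * e * y⁻¹ := by rw [hc2]
        _ = e⁻¹ * (y * e * y⁻¹) * (y * w * y⁻¹) := by group
        _ = e⁻¹ * (y * e * y⁻¹) * w := by rw [e3]
    rw [h.faithful, Subgroup.mem_bot] at hmem
    have h3 : y * e * y⁻¹ = e := by
      calc y * e * y⁻¹ = e * (e⁻¹ * (y * e * y⁻¹)) := by group
        _ = e := by rw [hmem, mul_one]
    calc e * y = (y * e * y⁻¹) * y := by rw [h3]
      _ = y * e := by group
  · right
    have hc1 := h.E_le_centralizer_W hB hW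
    have hc2 := hB.E_le_centralizer_W h (Ne.symm hW)
    have hc3 := h.commutator_E_eq_bot hB hW
    rw [Subgroup.commutator_eq_bot_iff_le_centralizer] at hc3
    rw [Subgroup.map_sup, hWy, hEy]
    have hVc : ∀ x ∈ V, ∀ z ∈ V, x * z = z * x := fun x hx z hz =>
      Cfsg.Agent.Lib.Helper1.isElementaryAbelian_comm s.hV hx hz
    apply sup_le
    · -- W' centralizes W and E
      rw [Subgroup.le_centralizer_iff]
      apply sup_le
      · intro w hw
        rw [Subgroup.mem_centralizer_iff]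
        intro w' hw'
        exact hVc w' (hB.W_le_V hw') w (h.W_le_V hw)
      · exact hc2
    · rw [Subgroup.le_centralizer_iff]
      apply sup_le
      · rw [← Subgroup.le_centralizer_iff]
        exact hc1
      · exact hc3

/-- the diagonal map on `W E` -/
theorem exists_diag_component [Finite G] [hp : Fact p.Prime] (h : s.IsTrH A) {q : ℕ}
    [hq : Fact q.Prime] (Y : Subgroup G) (hYq : IsPGroup q Y)
    (hYc : ∀ a ∈ Y, ∀ b ∈ Y, a * b = b * a)
    (hYV : Y ≤ Subgroup.normalizer (V : Set G)) (hYH : Y ≤ Subgroup.normalizer (H : Set G))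
    (hYQ : Y ≤ Subgroup.normalizer (Q : Set G))
    (h1 : ¬ q ∣ p ^ 2 - 1) (h2 : ¬ q ∣ p ^ 2 - p) :
    ∃ ν : ↥(⁅V, ⁅Q, A⁆ ⊔ A⁆ ⊔ (⁅Q, A⁆ ⊔ A) : Subgroup G) →* G,
      (∀ l, ∀ y ∈ Y, y * ν l = ν l * y) ∧
      (∀ l, ∃ r : G, ν l = (l : G) * r ∧
        r ∈ Subgroup.centralizer ((⁅V, ⁅Q, A⁆ ⊔ A⁆ ⊔ (⁅Q, A⁆ ⊔ A) : Subgroup G) : Set G) ∧
        ∀ P : Subgroup G, Y ≤ Subgroup.normalizer (P : Set G) → (l : G) ∈ P → r ∈ P) := by
  apply exists_diag Y _ hYc
  intro y hy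
  have hyq : IsPGroup q (Subgroup.zpowers y) :=
    hYq.to_le (Subgroup.zpowers_le.mpr hy)
  exact dichotomy h hyq (hYV hy) (hYH hy) (hYQ hy) h1 h2

/-- a fixed plane with a fixed `SL(2,p)` acting faithfully on it -/
theorem exists_fixed_sl2 [Finite G] [hp : Fact p.Prime] (h : s.IsTrH A) {q : ℕ}
    [hq : Fact q.Prime] (Y : Subgroup G) (hYq : IsPGroup q Y)
    (hYc : ∀ a ∈ Y, ∀ b ∈ Y, a * b = b * a)
    (hYV : Y ≤ Subgroup.normalizer (V : Set G)) (hYH : Y ≤ Subgroup.normalizer (H : Set G))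
    (hYQ : Y ≤ Subgroup.normalizer (Q : Set G))
    (h1 : ¬ q ∣ p ^ 2 - 1) (h2 : ¬ q ∣ p ^ 2 - p) :
    ∃ W' D' : Subgroup G, W' ≤ V ⊓ Subgroup.centralizer (Y : Set G) ∧
      D' ≤ H ⊓ Subgroup.centralizer (Y : Set G) ∧ Nat.card W' = p ^ 2 ∧
      D' ≤ Subgroup.normalizer (W' : Set G) ∧ D' ⊓ Subgroup.centralizer (W' : Set G) = ⊥ ∧
      Nonempty (↥D' ≃* Matrix.SpecialLinearGroup (Fin 2) (ZMod p)) := by
  obtain ⟨ν, hfix, hform⟩ := exists_diag_component h Y hYq hYc hYV hYH hYQ h1 h2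
  have hWL : ⁅V, ⁅Q, A⁆ ⊔ A⁆ ≤ ⁅V, ⁅Q, A⁆ ⊔ A⁆ ⊔ (⁅Q, A⁆ ⊔ A) := le_sup_left
  have hEL : ⁅Q, A⁆ ⊔ A ≤ ⁅V, ⁅Q, A⁆ ⊔ A⁆ ⊔ (⁅Q, A⁆ ⊔ A) := le_sup_right
  have hEW : ⁅Q, A⁆ ⊔ A ≤ Subgroup.normalizer ((⁅V, ⁅Q, A⁆ ⊔ A⁆ : Subgroup G) : Set G) :=
    le_normalizer_commutator_right V _
  obtain ⟨νW, hνW⟩ : ∃ νW : ↥(⁅V, ⁅Q, A⁆ ⊔ A⁆) →* G, νW = ν.comp (Subgroup.inclusion hWL) :=
    ⟨_, rfl⟩
  obtain ⟨νE, hνE⟩ : ∃ νE : ↥(⁅Q, A⁆ ⊔ A : Subgroup G) →* G,
    νE = ν.comp (Subgroup.inclusion hEL) := ⟨_, rfl⟩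
  -- conjugation compatibility
  have hconj : ∀ (e : ↥(⁅Q, A⁆ ⊔ A : Subgroup G)) (w : ↥(⁅V, ⁅Q, A⁆ ⊔ A⁆)),
      νE e * νW w * (νE e)⁻¹ = νW ⟨(e : G) * (w : G) * (e : G)⁻¹,
        (Subgroup.mem_normalizer_iff.mp (hEW e.2) w).mp w.2⟩ := by
    intro e w
    have e1 : Subgroup.inclusion hEL e * Subgroup.inclusion hWL w * (Subgroup.inclusion hEL e)⁻¹ =
        Subgroup.inclusion hWL ⟨(e : G) * (w : G) * (e : G)⁻¹,
          (Subgroup.mem_normalizer_iff.mp (hEW e.2) w).mp w.2⟩ := by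
      apply Subtype.ext
      simp only [Subgroup.coe_mul, Subgroup.coe_inv, Subgroup.coe_inclusion]
    rw [hνE, hνW, MonoidHom.comp_apply, MonoidHom.comp_apply, MonoidHom.comp_apply,
      ← map_inv, ← map_mul, ← map_mul, e1]
  -- injectivity on the plane
  have hWinj : ∀ w : ↥(⁅V, ⁅Q, A⁆ ⊔ A⁆), νW w = 1 → w = 1 := by
    intro w hw
    obtain ⟨r, hr, hrc, -⟩ := hform (Subgroup.inclusion hWL w)
    have hr' : νW w = (w : G) * r := by rw [hνW]; exact hr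
    have hwr : (w : G) * r = 1 := by rw [← hr']; exact hw
    have hmem : (w : G) ∈ ⁅V, ⁅Q, A⁆ ⊔ A⁆ ⊓
        (V ⊓ Subgroup.centralizer ((⁅Q, A⁆ ⊔ A : Subgroup G) : Set G)) := by
      refine Subgroup.mem_inf.mpr ⟨w.2, Subgroup.mem_inf.mpr ⟨h.W_le_V w.2, ?_⟩⟩
      rw [Subgroup.mem_centralizer_iff]
      intro e he
      have hre := Subgroup.mem_centralizer_iff.mp hrc e (hEL he)
      have hwinv : (w : G) = r⁻¹ := eq_inv_of_mul_eq_one_left hwr
      rw [hwinv]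
      calc e * r⁻¹ = r⁻¹ * (r * e) * r⁻¹ := by group
        _ = r⁻¹ * (e * r) * r⁻¹ := by rw [hre]
        _ = r⁻¹ * e := by group
    rw [h.W_inf_centralizer, Subgroup.mem_bot] at hmem
    exact Subtype.ext hmem
  have hWinj' : Function.Injective νW := (injective_iff_map_eq_one νW).mpr hWinj
  -- faithfulness
  have hfaith : ∀ e : ↥(⁅Q, A⁆ ⊔ A : Subgroup G),
      (∀ w : ↥(⁅V, ⁅Q, A⁆ ⊔ A⁆), νE e * νW w = νW w * νE e) → e = 1 := by
    intro e he
    have hmem : (e : G) ∈ (⁅Q, A⁆ ⊔ A) ⊓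
        Subgroup.centralizer ((⁅V, ⁅Q, A⁆ ⊔ A⁆ : Subgroup G) : Set G) := by
      refine Subgroup.mem_inf.mpr ⟨e.2, ?_⟩
      rw [Subgroup.mem_centralizer_iff]
      intro w hw
      have h3 := hconj e ⟨w, hw⟩
      rw [he ⟨w, hw⟩, mul_assoc, mul_inv_cancel, mul_one] at h3
      have h4 := congrArg Subtype.val (hWinj' h3)
      simp only at h4
      calc w * (e : G) = ((e : G) * w * (e : G)⁻¹) * (e : G) := by rw [← h4]
        _ = (e : G) * w := by group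
    rw [h.faithful, Subgroup.mem_bot] at hmem
    exact Subtype.ext hmem
  have hEinj : Function.Injective νE := by
    rw [injective_iff_map_eq_one]
    intro e he
    apply hfaith
    intro w
    rw [he, one_mul, mul_one]
  refine ⟨νW.range, νE.range, ?_, ?_, ?_, ?_, ?_, ?_⟩
  · rintro _ ⟨w, rfl⟩
    refine Subgroup.mem_inf.mpr ⟨?_, ?_⟩
    · obtain ⟨r, hr, -, hP⟩ := hform (Subgroup.inclusion hWL w)
      have hr' : νW w = (w : G) * r := by rw [hνW]; exact hr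
      rw [hr']
      exact V.mul_mem (h.W_le_V w.2) (hP V hYV (h.W_le_V w.2))
    · rw [Subgroup.mem_centralizer_iff]
      intro y hy
      rw [hνW]
      exact hfix _ y hy
  · rintro _ ⟨e, rfl⟩
    refine Subgroup.mem_inf.mpr ⟨?_, ?_⟩
    · obtain ⟨r, hr, -, hP⟩ := hform (Subgroup.inclusion hEL e)
      have hr' : νE e = (e : G) * r := by rw [hνE]; exact hr
      rw [hr']
      exact H.mul_mem (h.E_le_H e.2) (hP H hYH (h.E_le_H e.2))
    · rw [Subgroup.mem_centralizer_iff]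
      intro y hy
      rw [hνE]
      exact hfix _ y hy
  · rw [← Nat.card_congr (MonoidHom.ofInjective hWinj').toEquiv, h.card_W]
  · apply Cfsg.Agent.Lib.Helper1.le_normalizer_of_conj_mem
    rintro _ ⟨e, rfl⟩ _ ⟨w, rfl⟩
    rw [hconj]
    exact ⟨_, rfl⟩
  · rw [eq_bot_iff]
    rintro _ ⟨⟨e, rfl⟩, hc⟩
    rw [Subgroup.mem_bot]
    have : e = 1 := by
      apply hfaith
      intro w
      exact (Subgroup.mem_centralizer_iff.mp hc (νW w) ⟨w, rfl⟩).symm
    rw [this, map_one]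
  · obtain ⟨φ⟩ := h.sl2
    exact ⟨(MonoidHom.ofInjective hEinj).symm.trans φ⟩

end Ops

end Cfsg.Agent.Lib.Helper1.CX
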