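import Mathlib
import Cfsg.Agent.Lib.Helper1.TF1
import Cfsg.Agent.Lib.Helper1.SubnormalPCore
import Cfsg.Agent.Lib.Helper1.PSolvSub
import Cfsg.Agent.Lib.Helper1.PConstrainedOfPSolvable
import Cfsg.Agent.Lib.Helper2.HHDual

/-! Transfer of best offenders and of the hypothesis (S1). -/
set_option autoImplicit false
universe u v
open Cfsg
open scoped commutatorElement Pointwise

namespace Cfsg.Agent.Lib.Helper1.TF
open Cfsg.Agent.Lib.Helper1.FF

variable {G : Type u} [Group G] (V : Subgroup G) [V.Normal]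

theorem exists_of_le_tr {X : Subgroup G} {B' : Subgroup (Amb V)} (h : B' ≤ tr V X) :
    ∃ B : Subgroup G, B ≤ X ∧ X ⊓ Subgroup.centralizer (V : Set G) ≤ B ∧ tr V B = B' := by
  refine ⟨X ⊓ B'.comap (tau V), inf_le_left, ?_, ?_⟩
  · intro x hx
    refine Subgroup.mem_inf.mpr ⟨(Subgroup.mem_inf.mp hx).1, ?_⟩
    rw [Subgroup.mem_comap]
    have : tau V x = 1 := by
      rw [← MonoidHom.mem_ker, mem_ker_tau]; exact (Subgroup.mem_inf.mp hx).2
    rw [this]; exact B'.one_mem
  · apply le_antisymm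
    · rintro _ ⟨x, hx, rfl⟩
      exact (Subgroup.mem_inf.mp hx).2
    · intro b hb
      obtain ⟨x, hx, rfl⟩ := h hb
      exact ⟨x, Subgroup.mem_inf.mpr ⟨hx, hb⟩, rfl⟩

theorem isBestOffenderOn_tr [Finite G] {p : ℕ} {A : Subgroup G} (hA : IsBestOffenderOn p V A) :
    IsBestOffenderOn p (VV V) (tr V A) := by
  refine ⟨?_, ?_, ?_⟩
  · intro B' hB'
    obtain ⟨B, hBA, hCB, rfl⟩ := exists_of_le_tr V hB'
    have hBC : B ⊓ Subgroup.centralizer (V : Set G) = A ⊓ Subgroup.centralizer (V : Set G) :=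
      le_antisymm (inf_le_inf_right _ hBA) (le_inf hCB inf_le_right)
    have h1 := card_tr V B
    have h2 := card_tr V A
    rw [hBC] at h1
    have h3 := hA.1 B hBA
    rw [card_VV_inf_centralizer_tr, card_VV_inf_centralizer_tr]
    rw [← h1, ← h2] at h3
    have hk : 0 < Nat.card ↥(A ⊓ Subgroup.centralizer (V : Set G)) := Nat.card_pos
    have h4 : Nat.card ↥(A ⊓ Subgroup.centralizer (V : Set G)) *
        (Nat.card (tr V B) * Nat.card ↥(V ⊓ Subgroup.centralizer (B : Set G))) ≤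
        Nat.card ↥(A ⊓ Subgroup.centralizer (V : Set G)) *
        (Nat.card (tr V A) * Nat.card ↥(V ⊓ Subgroup.centralizer (A : Set G))) := by
      calc _ = Nat.card (tr V B) * Nat.card ↥(A ⊓ Subgroup.centralizer (V : Set G)) *
            Nat.card ↥(V ⊓ Subgroup.centralizer (B : Set G)) := by ring
        _ ≤ Nat.card (tr V A) * Nat.card ↥(A ⊓ Subgroup.centralizer (V : Set G)) *
            Nat.card ↥(V ⊓ Subgroup.centralizer (A : Set G)) := h3
        _ = _ := by ring
    exact Nat.le_of_mul_le_mul_left h4 hk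
  · have h1 : ⁅tr V A, tr V A⁆ = (⁅A, A⁆).map (tau V) := (Subgroup.map_commutator A A (tau V)).symm
    rw [h1]
    rintro _ ⟨x, hx, rfl⟩
    have : tau V x = 1 := by
      rw [← MonoidHom.mem_ker, mem_ker_tau]; exact hA.2.1 hx
    rw [this]; exact Subgroup.one_mem _
  · rintro _ ⟨a, ha, rfl⟩
    rw [← map_pow]
    have : tau V (a ^ p) = 1 := by
      rw [← MonoidHom.mem_ker, mem_ker_tau]; exact hA.2.2 a ha
    rw [this]; exact Subgroup.one_mem _

theorem tr_generated [Finite G] {p : ℕ} (𝒜 : Set (Subgroup G))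
    (h𝒜 : ∀ A ∈ 𝒜, IsBestOffenderOn p V A) :
    tr V (sSup 𝒜) = ⨆ A' : {A' : Subgroup (Amb V) // A' ≤ tr V (sSup 𝒜) ∧
      IsBestOffenderOn p (VV V) A'}, (A' : Subgroup (Amb V)) := by
  apply le_antisymm
  · have e1 : tr V (sSup 𝒜) = ⨆ A ∈ 𝒜, tr V A := by
      rw [sSup_eq_iSup]
      unfold tr
      rw [Subgroup.map_iSup]
      congr 1
      ext A
      rw [Subgroup.map_iSup]
    refine e1.le.trans ?_
    apply iSup₂_le
    intro A hA
    have hle : tr V A ≤ tr V (sSup 𝒜) := Subgroup.map_mono (le_sSup hA)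
    exact le_iSup_of_le (⟨tr V A, hle, isBestOffenderOn_tr V (h𝒜 A hA)⟩ :
      {A' : Subgroup (Amb V) // A' ≤ tr V (sSup 𝒜) ∧ IsBestOffenderOn p (VV V) A'}) le_rfl
  · apply iSup_le
    intro A'
    exact A'.2.1

theorem tau_conj_mem_tr {J : Subgroup G} [hJ : J.Normal] (g : G) {x : Amb V} (hx : x ∈ tr V J) :
    tau V g * x * (tau V g)⁻¹ ∈ tr V J := by
  obtain ⟨j, hj, rfl⟩ := hx
  exact ⟨g * j * g⁻¹, hJ.conj_mem j hj g, by simp⟩

theorem isPSolvable_tr [Finite G] {p : ℕ} [hp : Fact p.Prime] (hsep : IsPSolvable p G)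
    (J : Subgroup G) : IsPSolvable p ↥(tr V J) :=
  Cfsg.Agent.Lib.Helper1.isPSolvable_of_surjective p ((tau V).subgroupMap J)
    ((tau V).subgroupMap_surjective J) (Cfsg.Agent.Lib.Helper1.PSolvSub.isPSolvable_subgroup hsep J)

/-- `O_p` of the transfer of a normal subgroup is trivial if `O_p(G/C_G(V)) = 1` -/
theorem pCore_tr_eq_bot [Finite G] {p : ℕ} [hp : Fact p.Prime] (J : Subgroup G) [hJ : J.Normal]
    (hOp : ∀ D : Subgroup G, D.Normal → Subgroup.centralizer (V : Set G) ≤ D →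
      (∃ k : ℕ, (Subgroup.centralizer (V : Set G)).relIndex D = p ^ k) →
      D = Subgroup.centralizer (V : Set G)) :
    Cfsg.pCore p ↥(tr V J) = ⊥ := by
  obtain ⟨P, hP⟩ : ∃ P : Subgroup (Amb V), P = (Cfsg.pCore p ↥(tr V J)).map (tr V J).subtype :=
    ⟨_, rfl⟩
  have hPJ : P ≤ tr V J := hP ▸ Subgroup.map_subtype_le _
  have hPp : IsPGroup p P := hP ▸ (Cfsg.Agent.Lib.Helper1.pCore_isPGroup p).map _
  have hnorm : ∀ g : G, tau V g ∈ Subgroup.normalizer (P : Set (Amb V)) := by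
    intro g
    have h1 : tau V g ∈ Subgroup.normalizer ((tr V J : Subgroup (Amb V)) : Set (Amb V)) := by
      have : (tr V ⊤) ≤ Subgroup.normalizer ((tr V J : Subgroup (Amb V)) : Set (Amb V)) := by
        apply Cfsg.Agent.Lib.Helper1.le_normalizer_of_conj_mem
        rintro _ ⟨g, -, rfl⟩ x hx
        exact tau_conj_mem_tr V g hx
      exact this ⟨g, Subgroup.mem_top g, rfl⟩
    rw [hP]
    exact Cfsg.Agent.Lib.Helper1.normalizer_le_normalizer_map_characteristic _ _ h1
  obtain ⟨D, hD⟩ : ∃ D : Subgroup G, D = P.comap (tau V) := ⟨_, rfl⟩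
  have hDn : D.Normal := by
    constructor
    intro d hd g
    rw [hD, Subgroup.mem_comap] at hd ⊢
    rw [map_mul, map_mul, map_inv]
    exact (Subgroup.mem_normalizer_iff.mp (hnorm g) _).mp hd
  have hCD : Subgroup.centralizer (V : Set G) ≤ D := by
    intro x hx
    rw [hD, Subgroup.mem_comap]
    have : tau V x = 1 := by rw [← MonoidHom.mem_ker, mem_ker_tau]; exact hx
    rw [this]; exact P.one_mem
  have hDP : tr V D = P := by
    rw [hD]
    apply Subgroup.map_comap_eq_self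
    exact hPJ.trans (Subgroup.map_le_range _ _)
  have hrel : ∃ k : ℕ, (Subgroup.centralizer (V : Set G)).relIndex D = p ^ k := by
    obtain ⟨k, hk⟩ := hPp.exists_card_eq
    refine ⟨k, ?_⟩
    have h1 := card_tr V D
    rw [hDP, inf_eq_right.mpr hCD, hk] at h1
    have h2 := Subgroup.relIndex_mul_relIndex ⊥ (Subgroup.centralizer (V : Set G)) D bot_le hCD
    rw [Subgroup.relIndex_bot_left, Subgroup.relIndex_bot_left] at h2
    have hpos : 0 < Nat.card ↥(Subgroup.centralizer (V : Set G)) := Nat.card_pos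
    apply Nat.eq_of_mul_eq_mul_left hpos
    rw [h2, ← h1, mul_comm]
  have hDC := hOp D hDn hCD hrel
  have hPbot : P = ⊥ := by
    rw [← hDP, hDC, eq_bot_iff]
    rintro _ ⟨x, hx, rfl⟩
    rw [Subgroup.mem_bot, ← MonoidHom.mem_ker, mem_ker_tau]
    exact hx
  rw [hP, Subgroup.map_eq_bot_iff_of_injective _ (Subgroup.subtype_injective _)] at hPbot
  exact hPbot

/-- (S1) for the transfer -/
theorem hS1_tr [Finite G] {p : ℕ} [hp : Fact p.Prime] (hsep : IsPSolvable p G)
    (J : Subgroup G) [hJ : J.Normal]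
    (hOp : ∀ D : Subgroup G, D.Normal → Subgroup.centralizer (V : Set G) ≤ D →
      (∃ k : ℕ, (Subgroup.centralizer (V : Set G)).relIndex D = p ^ k) →
      D = Subgroup.centralizer (V : Set G)) :
    Subgroup.centralizer (Cfsg.pPrimeCore p ↥(tr V J) : Set ↥(tr V J)) ≤
      Cfsg.pPrimeCore p ↥(tr V J) :=
  Cfsg.Agent.Lib.Helper2.centralizer_pPrimeCore_le p (isPSolvable_tr V hsep J)
    (pCore_tr_eq_bot V J hOp)

/-- the faithful setup -/
theorem setup_tr [Finite G] {p : ℕ} [hp : Fact p.Prime] (hV : IsElementaryAbelian p V)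
    (hsep : IsPSolvable p G) (J : Subgroup G) [hJ : J.Normal]
    (hOp : ∀ D : Subgroup G, D.Normal → Subgroup.centralizer (V : Set G) ≤ D →
      (∃ k : ℕ, (Subgroup.centralizer (V : Set G)).relIndex D = p ^ k) →
      D = Subgroup.centralizer (V : Set G)) :
    Setup p (VV V) (tr V J) ((Cfsg.pPrimeCore p ↥(tr V J)).map (tr V J).subtype) :=
  setup_of_hyps (VV V) (tr V J) (VV_isElementaryAbelian V hV) (tr_le_normalizer V J)
    (tr_inf_centralizer V J) (hS1_tr V hsep J hOp)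

end Cfsg.Agent.Lib.Helper1.TF
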