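import Mathlib
import Cfsg.Prelude.Def_PLocal
import Cfsg.Agent.Lib.Helper1.ThompsonBasic2
import Cfsg.Agent.Lib.Helper1.OmegaCenter
import Cfsg.Agent.Lib.Helper1.ThompsonRelative

/-! Thompson factorizability with trivial `p'`-core. -/
set_option autoImplicit false
universe u v
open Cfsg
open scoped commutatorElement Pointwise

namespace Cfsg.Agent.Lib.Helper1
variable {G : Type u} [Group G] {p : ℕ}

theorem omegaOne_center_conj_smul (p : ℕ) (g : G) (P : Subgroup G) :
    omegaOne p ((MulAut.conj g • P) ⊓ Subgroup.centralizer ((MulAut.conj g • P : Subgroup G) : Set G)) =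
    (omegaOne p (P ⊓ Subgroup.centralizer (P : Set G))).map (MulAut.conj g).toMonoidHom := by
  apply le_antisymm _ (map_conj_omegaOne_center_le p g P)
  have h1 := map_conj_omegaOne_center_le p g⁻¹ (MulAut.conj g • P)
  rw [← mul_smul, ← map_mul, inv_mul_cancel, map_one, one_smul] at h1
  have h2 := Subgroup.map_mono (f := (MulAut.conj g).toMonoidHom) h1
  rw [Subgroup.map_map] at h2
  have e : (MulAut.conj g).toMonoidHom.comp (MulAut.conj g⁻¹).toMonoidHom = MonoidHom.id G := by
    ext x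
    show MulAut.conj g (MulAut.conj g⁻¹ x) = x
    rw [MulAut.conj_apply, MulAut.conj_apply]; group
  rw [e, Subgroup.map_id] at h2
  exact h2

theorem thompsonSubgroupOf_sylow_le [Finite G] [hp : Fact p.Prime] (S : Sylow p G) :
    thompsonSubgroupOf p (S : Subgroup G) ≤ thompsonSubgroup p G := by
  rw [thompsonSubgroup_eq_iSup_sylow]
  exact le_iSup (fun S : Sylow p G => thompsonSubgroupOf p (S : Subgroup G)) S

theorem thompsonFactorizable_iff [Finite G] [hp : Fact p.Prime] (hO : Cfsg.pPrimeCore p G = ⊥) :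
    Cfsg.IsThompsonFactorizable p G ↔ Cfsg.thompsonSubgroup p G ≤ Subgroup.centralizer ((⨆ S : Sylow p G, Cfsg.omegaOne p (((S : Subgroup G)) ⊓ Subgroup.centralizer ((S : Subgroup G) : Set G)) : Subgroup G) : Set G) := by
  obtain ⟨W, hW⟩ : ∃ W : Subgroup G, W = ⨆ S : Sylow p G, Cfsg.omegaOne p (((S : Subgroup G)) ⊓ Subgroup.centralizer ((S : Subgroup G) : Set G)) := ⟨_, rfl⟩
  rw [← hW]
  have hWn : W.Normal := by rw [hW]; exact iSup_omegaOne_center_sylow_normal p
  have hZW : ∀ S : Sylow p G, Cfsg.omegaOne p (((S : Subgroup G)) ⊓ Subgroup.centralizer ((S : Subgroup G) : Set G)) ≤ W := by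
    intro S; rw [hW]
    exact le_iSup (fun S : Sylow p G => Cfsg.omegaOne p (((S : Subgroup G)) ⊓ Subgroup.centralizer ((S : Subgroup G) : Set G))) S
  constructor
  · intro hTF
    rw [thompsonSubgroup_eq_iSup_sylow]
    apply iSup_le
    intro S
    rw [Subgroup.le_centralizer_iff, hW]
    apply iSup_le
    intro S'
    obtain ⟨g, hg⟩ := MulAction.exists_smul_eq G S S'
    rw [← hg, Sylow.coe_subgroup_smul, omegaOne_center_conj_smul]
    rintro _ ⟨z, hz, rfl⟩
    obtain ⟨x, hx, c, hc, n, hn, hgxcn⟩ := hTF S g⁻¹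
    rw [hO, Subgroup.mem_bot] at hx
    rw [hx, one_mul] at hgxcn
    have hg' : g = n⁻¹ * c⁻¹ := by rw [← inv_inv g, hgxcn]; group
    have hcz : z * c = c * z := Subgroup.mem_centralizer_iff.mp hc z hz
    have hzS : z ∈ Subgroup.centralizer ((S : Subgroup G) : Set G) :=
      (Subgroup.mem_inf.mp (omegaOne_le p _ hz)).2
    rw [Subgroup.mem_centralizer_iff]
    intro j hj
    show j * (MulAut.conj g z) = (MulAut.conj g z) * j
    rw [MulAut.conj_apply, hg']
    have h1 : n * j * n⁻¹ ∈ thompsonSubgroupOf p (S : Subgroup G) :=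
      (Subgroup.mem_normalizer_iff.mp hn j).mp hj
    have h2 := Subgroup.mem_centralizer_iff.mp hzS _ (thompsonSubgroupOf_le_self p _ h1)
    have h3 : n⁻¹ * c⁻¹ * z * (n⁻¹ * c⁻¹)⁻¹ = n⁻¹ * z * n := by
      have : c⁻¹ * z * c = z := by rw [mul_assoc, hcz]; group
      calc n⁻¹ * c⁻¹ * z * (n⁻¹ * c⁻¹)⁻¹ = n⁻¹ * (c⁻¹ * z * c) * n := by group
        _ = n⁻¹ * z * n := by rw [this]
    rw [h3]
    calc j * (n⁻¹ * z * n) = n⁻¹ * ((n * j * n⁻¹) * z) * n := by group
      _ = n⁻¹ * (z * (n * j * n⁻¹)) * n := by rw [h2]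
      _ = n⁻¹ * z * n * j := by group
  · intro hJ S g
    obtain ⟨C, hC⟩ : ∃ C : Subgroup G, C = Subgroup.centralizer (W : Set G) := ⟨_, rfl⟩
    rw [← hC] at hJ
    have hCn : C.Normal := by rw [hC]; infer_instance
    obtain ⟨Q, hQ⟩ := subnormal_inf_sylow p C hCn.isSubnormal S
    have hfr := Sylow.normalizer_sup_eq_top Q
    have hQmap : (Q : Subgroup C).map C.subtype = (S : Subgroup G) ⊓ C := by
      rw [hQ, Subgroup.subgroupOf_map_subtype]
    rw [hQmap] at hfr
    have hJT : thompsonSubgroupOf p (S : Subgroup G) ≤ (S : Subgroup G) ⊓ C :=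
      le_inf (thompsonSubgroupOf_le_self p _) ((thompsonSubgroupOf_sylow_le S).trans hJ)
    have hg : g ∈ C ⊔ Subgroup.normalizer (((S : Subgroup G) ⊓ C : Subgroup G) : Set G) := by
      rw [sup_comm, hfr]; exact Subgroup.mem_top g
    rw [Subgroup.mem_sup_of_normal_left] at hg
    obtain ⟨c, hc, n, hn, hcn⟩ := hg
    refine ⟨1, Subgroup.one_mem _, c, ?_, n, ?_, ?_⟩
    · rw [hC] at hc
      exact Subgroup.centralizer_le (hZW S) hc
    · exact normalizer_le_normalizer_thompsonSubgroupOf hJT inf_le_left hn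
    · rw [one_mul, hcn]

end Cfsg.Agent.Lib.Helper1
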