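import Mathlib
import Cfsg.Agent.Lib.Helper1.TF2
import Cfsg.Agent.Lib.Helper1.OmegaCenter
import Cfsg.Agent.Lib.Helper1.BestOffender
import Cfsg.Agent.Lib.Helper1.ThompsonFactorizable
import Cfsg.Agent.Lib.Helper1.ThompsonBasic2

/-! Failure of Thompson factorization in `p`-separable groups. -/
set_option autoImplicit false
universe u v
open Cfsg
open scoped commutatorElement Pointwise

namespace Cfsg.Agent.Lib.Helper1.TF
open Cfsg.Agent.Lib.Helper1.FF

variable {G : Type u} [Group G] (V : Subgroup G) [V.Normal]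

/-- pull a subgroup of the transfer back to `G` -/
theorem pullback {J : Subgroup G} {E' : Subgroup (Amb V)} (hE' : E' ≤ tr V J)
    (hn : tr V J ≤ Subgroup.normalizer (E' : Set (Amb V))) {M : Type*} [Group M] (φ : ↥E' ≃* M) :
    ∃ E : Subgroup G, Subgroup.centralizer (V : Set G) ≤ E ∧
      E ≤ J ⊔ Subgroup.centralizer (V : Set G) ∧
      J ⊔ Subgroup.centralizer (V : Set G) ≤ Subgroup.normalizer (E : Set G) ∧
      ∃ hn : ((Subgroup.centralizer (V : Set G)).subgroupOf E).Normal,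
        Nonempty ((↥E ⧸ (Subgroup.centralizer (V : Set G)).subgroupOf E) ≃* M) := by
  obtain ⟨E, hE⟩ : ∃ E : Subgroup G, E = E'.comap (tau V) := ⟨_, rfl⟩
  have hCE : Subgroup.centralizer (V : Set G) ≤ E := by
    intro x hx
    rw [hE, Subgroup.mem_comap]
    have : tau V x = 1 := by rw [← MonoidHom.mem_ker, mem_ker_tau]; exact hx
    rw [this]; exact E'.one_mem
  refine ⟨E, hCE, ?_, ?_, ?_⟩
  · intro x hx
    rw [hE, Subgroup.mem_comap] at hx
    obtain ⟨j, hj, hjx⟩ := hE' hx
    have h1 : j⁻¹ * x ∈ Subgroup.centralizer (V : Set G) := by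
      rw [← mem_ker_tau, MonoidHom.mem_ker, map_mul, map_inv, hjx, inv_mul_cancel]
    have : x = j * (j⁻¹ * x) := by group
    rw [this]
    exact Subgroup.mul_mem_sup hj h1
  · apply sup_le
    · intro j hj
      have h1 : tau V j ∈ Subgroup.normalizer (E' : Set (Amb V)) := hn ⟨j, hj, rfl⟩
      rw [hE]
      exact Subgroup.le_normalizer_comap (tau V) (Subgroup.mem_comap.mpr h1)
    · exact hCE.trans Subgroup.le_normalizer
  · have hnorm : ((Subgroup.centralizer (V : Set G)).subgroupOf E).Normal := inferInstance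
    refine ⟨hnorm, ?_⟩
    have hEE : E'.comap (tau V) = E := hE.symm
    subst hEE
    let f : ↥(E'.comap (tau V)) →* ↥E' := (tau V).subgroupComap E'
    have hf : Function.Surjective f := by
      rintro ⟨e, he⟩
      obtain ⟨j, -, hje⟩ := hE' he
      refine ⟨⟨j, ?_⟩, ?_⟩
      · rw [Subgroup.mem_comap, hje]; exact he
      · apply Subtype.ext
        exact hje
    have hker : f.ker = (Subgroup.centralizer (V : Set G)).subgroupOf (E'.comap (tau V)) := by
      ext x
      rw [MonoidHom.mem_ker, Subgroup.mem_subgroupOf, ← mem_ker_tau, MonoidHom.mem_ker]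
      constructor
      · intro h
        exact congrArg Subtype.val h
      · intro h
        apply Subtype.ext
        exact h
    exact ⟨((QuotientGroup.quotientMulEquivOfEq hker.symm).trans
      (QuotientGroup.quotientKerEquivOfSurjective f hf)).trans φ⟩

theorem centralizer_iSup_set_eq {ι : Sort*} (K : ι → Subgroup G) :
    Subgroup.centralizer ((⨆ i, (K i : Set G)) : Set G) =
      Subgroup.centralizer (((⨆ i, K i : Subgroup G)) : Set G) := by
  rw [Subgroup.iSup_eq_closure, Subgroup.centralizer_closure]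
  rfl

/-- S0618, with the centralizer of the subgroup generated -/
theorem s0618_aux [Finite G] {p : ℕ} [hp : Fact p.Prime] (hsep : Cfsg.IsPSolvable p G)
    (hO : Cfsg.pPrimeCore p G = ⊥) (hnf : ¬ Cfsg.IsThompsonFactorizable p G) :
    (p = 2 ∨ p = 3) ∧ ∃ E : Subgroup G,
      Subgroup.centralizer (((⨆ S : Sylow p G, Cfsg.omegaOne p ((S : Subgroup G) ⊓
        Subgroup.centralizer ((S : Subgroup G) : Set G)) : Subgroup G)) : Set G) ≤ E ∧
      E ≤ Cfsg.thompsonSubgroup p G ⊔ Subgroup.centralizer (((⨆ S : Sylow p G,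
        Cfsg.omegaOne p ((S : Subgroup G) ⊓ Subgroup.centralizer ((S : Subgroup G) : Set G)) :
          Subgroup G)) : Set G) ∧
      Cfsg.thompsonSubgroup p G ⊔ Subgroup.centralizer (((⨆ S : Sylow p G,
        Cfsg.omegaOne p ((S : Subgroup G) ⊓ Subgroup.centralizer ((S : Subgroup G) : Set G)) :
          Subgroup G)) : Set G) ≤
        Subgroup.normalizer (E : Set G) ∧
      ∃ hn : ((Subgroup.centralizer (((⨆ S : Sylow p G, Cfsg.omegaOne p ((S : Subgroup G) ⊓
        Subgroup.centralizer ((S : Subgroup G) : Set G)) : Subgroup G)) : Set G)).subgroupOf E).Normal,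
        Nonempty ((↥E ⧸ (Subgroup.centralizer (((⨆ S : Sylow p G, Cfsg.omegaOne p ((S : Subgroup G) ⊓
          Subgroup.centralizer ((S : Subgroup G) : Set G)) : Subgroup G)) : Set G)).subgroupOf E) ≃*
          Matrix.SpecialLinearGroup (Fin 2) (ZMod p)) := by
  have hc : Subgroup.centralizer (Cfsg.pCore p G : Set G) ≤ Cfsg.pCore p G :=
    Cfsg.Agent.Lib.Helper1.centralizer_pCore_le_of_isPSolvable hO
      (Cfsg.Agent.Lib.Helper1.PSolvSub.isPSolvable_subgroup hsep _)
  obtain ⟨hVn, hV, hOp⟩ := Cfsg.Agent.Lib.Helper1.S0601_aux (p := p) hc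
  obtain ⟨W, hW⟩ : ∃ W : Subgroup G, W = ⨆ S : Sylow p G, Cfsg.omegaOne p ((S : Subgroup G) ⊓
        Subgroup.centralizer ((S : Subgroup G) : Set G)) := ⟨_, rfl⟩
  rw [← hW] at hVn hV hOp ⊢
  have hJC : ¬ Cfsg.thompsonSubgroup p G ≤ Subgroup.centralizer (W : Set G) := by
    intro h
    apply hnf
    rw [Cfsg.Agent.Lib.Helper1.thompsonFactorizable_iff hO, ← hW]
    exact h
  have hJchar := Cfsg.Agent.Lib.Helper1.thompsonSubgroup_characteristic p G
  have hJn : (Cfsg.thompsonSubgroup p G).Normal := inferInstance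
  have s := setup_tr W hV hsep (Cfsg.thompsonSubgroup p G) hOp
  have hS3 := tr_generated W (Cfsg.maxElementaryAbelianSubgroups p G)
    (fun A hA => Cfsg.Agent.Lib.Helper1.isBestOffenderOn_of_mem_max W hV A hA)
  have hH1 : tr W (Cfsg.thompsonSubgroup p G) ≠ ⊥ := by
    intro h0
    apply hJC
    intro j hj
    rw [← mem_ker_tau, MonoidHom.mem_ker]
    have : tau W j ∈ tr W (Cfsg.thompsonSubgroup p G) := ⟨j, hj, rfl⟩
    rw [h0, Subgroup.mem_bot] at this
    exact this
  obtain ⟨hp23, hcomp, -, hsup, -, -⟩ := s.structure_theorem hS3 hH1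
  refine ⟨hp23, ?_⟩
  have hne : Nonempty (CompIdx p (VV W) (tr W (Cfsg.thompsonSubgroup p G))
      ((Cfsg.pPrimeCore p ↥(tr W (Cfsg.thompsonSubgroup p G))).map
        (tr W (Cfsg.thompsonSubgroup p G)).subtype)) := by
    by_contra hemp
    rw [not_nonempty_iff] at hemp
    apply hH1
    rw [← hsup, iSup_of_empty]
  obtain ⟨E₀⟩ := hne
  obtain ⟨hn, ⟨φ⟩, -⟩ := hcomp E₀
  have hE₀ : (E₀ : Subgroup (Amb W)) ≤ tr W (Cfsg.thompsonSubgroup p G) := by
    exact (le_iSup (fun E : CompIdx p (VV W) (tr W (Cfsg.thompsonSubgroup p G))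
      ((Cfsg.pPrimeCore p ↥(tr W (Cfsg.thompsonSubgroup p G))).map
        (tr W (Cfsg.thompsonSubgroup p G)).subtype) => (E : Subgroup (Amb W))) E₀).trans hsup.le
  exact pullback W hE₀ hn φ

/-- S0618 -/
theorem s0618 [Finite G] {p : ℕ} [hp : Fact p.Prime] (hsep : Cfsg.IsPSolvable p G)
    (hO : Cfsg.pPrimeCore p G = ⊥) (hnf : ¬ Cfsg.IsThompsonFactorizable p G) :
    (p = 2 ∨ p = 3) ∧ ∃ E : Subgroup G, Subgroup.centralizer ((⨆ S : Sylow p G, Cfsg.omegaOne p ((S : Subgroup G) ⊓ Subgroup.centralizer ((S : Subgroup G) : Set G))) : Set G) ≤ E ∧ E ≤ Cfsg.thompsonSubgroup p G ⊔ Subgroup.centralizer ((⨆ S : Sylow p G, Cfsg.omegaOne p ((S : Subgroup G) ⊓ Subgroup.centralizer ((S : Subgroup G) : Set G))) : Set G) ∧ Cfsg.thompsonSubgroup p G ⊔ Subgroup.centralizer ((⨆ S : Sylow p G, Cfsg.omegaOne p ((S : Subgroup G) ⊓ Subgroup.centralizer ((S : Subgroup G) : Set G))) : Set G) ≤ Subgroup.normalizer (E : Set G) ∧ ∃ hn : ((Subgroup.centralizer ((⨆ S : Sylow p G, Cfsg.omegaOne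 p ((S : Subgroup G) ⊓ Subgroup.centralizer ((S : Subgroup G) : Set G))) : Set G)).subgroupOf E).Normal, Nonempty ((↥E ⧸ (Subgroup.centralizer ((⨆ S : Sylow p G, Cfsg.omegaOne p ((S : Subgroup G) ⊓ Subgroup.centralizer ((S : Subgroup G) : Set G))) : Set G)).subgroupOf E) ≃* Matrix.SpecialLinearGroup (Fin 2) (ZMod p)) := by
  have h := s0618_aux hsep hO hnf
  have e := centralizer_iSup_set_eq (fun S : Sylow p G => Cfsg.omegaOne p ((S : Subgroup G) ⊓
    Subgroup.centralizer ((S : Subgroup G) : Set G)))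
  rw [← e] at h
  exact h

end Cfsg.Agent.Lib.Helper1.TF
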