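import Mathlib
import Cfsg.Agent.Lib.Helper1.TF5
import Cfsg.Agent.Lib.Helper1.TF3
import Cfsg.Agent.Lib.Helper1.CX2
import Cfsg.Agent.Lib.Helper1.Coprime
import Cfsg.Agent.Lib.Helper4.SLCard

/-! Coprime operator groups on `p`-solvable groups in which Thompson factorization fails. -/
set_option autoImplicit false
universe u v
open Cfsg
open scoped commutatorElement Pointwise

namespace Cfsg.Agent.Lib.Helper1.TF
open Cfsg.Agent.Lib.Helper1.FF

variable {G : Type u} [Group G]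

theorem map_equiv_omegaOne_center_le (p : ℕ) (φ : MulAut G) (P : Subgroup G) :
    (omegaOne p (P ⊓ Subgroup.centralizer (P : Set G))).map φ.toMonoidHom ≤
      omegaOne p ((P.map φ.toMonoidHom) ⊓
        Subgroup.centralizer ((P.map φ.toMonoidHom : Subgroup G) : Set G)) := by
  unfold omegaOne
  rw [MonoidHom.map_closure]
  apply Subgroup.closure_mono
  rintro _ ⟨x, ⟨hx, hxp⟩, rfl⟩
  have hx1 := (Subgroup.mem_inf.mp hx).1
  have hx2 := (Subgroup.mem_inf.mp hx).2
  refine ⟨Subgroup.mem_inf.mpr ⟨Subgroup.mem_map_of_mem _ hx1, ?_⟩, ?_⟩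
  · rw [Subgroup.mem_centralizer_iff]
    rintro _ ⟨y, hy, rfl⟩
    have := Subgroup.mem_centralizer_iff.mp hx2 y hy
    show φ y * φ x = φ x * φ y
    rw [← map_mul, ← map_mul, this]
  · show (φ x) ^ p = 1
    rw [← map_pow, hxp, map_one]

theorem iSup_omegaOne_center_sylow_characteristic (p : ℕ) :
    (⨆ S : Sylow p G, omegaOne p ((S : Subgroup G) ⊓
      Subgroup.centralizer ((S : Subgroup G) : Set G))).Characteristic := by
  rw [Subgroup.characteristic_iff_map_le]
  intro φ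
  rw [Subgroup.map_iSup]
  apply iSup_le
  intro S
  refine (map_equiv_omegaOne_center_le p φ S).trans ?_
  have := le_iSup (fun S : Sylow p G => omegaOne p ((S : Subgroup G) ⊓
    Subgroup.centralizer ((S : Subgroup G) : Set G))) ((φ : MulAut G) • S)
  exact this

section main

variable (K X : Subgroup G)

/-- the operator homomorphism -/
def zeta (hXK : X ≤ Subgroup.normalizer (K : Set G)) : ↥X →* MulAut ↥K :=
  K.normalizerMonoidHom.comp (Subgroup.inclusion hXK)

theorem zeta_apply (hXK : X ≤ Subgroup.normalizer (K : Set G)) (x : ↥X) (k : ↥K) :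
    ((zeta K X hXK x k : ↥K) : G) = (x : G) * (k : G) * (x : G)⁻¹ := rfl

/-- the image of the operator group in the holomorph -/
def opS (V : Subgroup ↥K) [V.Characteristic] (hXK : X ≤ Subgroup.normalizer (K : Set G)) :
    Subgroup (Amb V) := ((xi V).comp (zeta K X hXK)).range

theorem pullback_fixed [Finite G] {p q : ℕ} [hp : Fact p.Prime] [hq : Fact q.Prime]
    (hXK : X ≤ Subgroup.normalizer (K : Set G)) (hXq : IsPGroup q X)
    (hqK : ¬ q ∣ Nat.card K) (V : Subgroup ↥K) [hVc : V.Characteristic]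
    (hV : IsElementaryAbelian p V) {W' D' : Subgroup (Amb V)}
    (hW'V : W' ≤ VV V) (hW'X : W' ≤ Subgroup.centralizer (opS K X V hXK : Set (Amb V)))
    (hD'r : D' ≤ (tau V).range) (hD'X : D' ≤ Subgroup.centralizer (opS K X V hXK : Set (Amb V)))
    (hcard : Nat.card W' = p ^ 2) (hDW : D' ≤ Subgroup.normalizer (W' : Set (Amb V)))
    (hfaith : D' ⊓ Subgroup.centralizer (W' : Set (Amb V)) = ⊥)
    {M : Type*} [Group M] (φ : ↥D' ≃* M) :
    ∃ W D : Subgroup G, W ≤ K ⊓ Subgroup.centralizer (X : Set G) ∧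
      D ≤ K ⊓ Subgroup.centralizer (X : Set G) ∧ IsElementaryAbelian p W ∧ Nat.card W = p ^ 2 ∧
      D ≤ Subgroup.normalizer (W : Set G) ∧
      ∃ hn : ((Subgroup.centralizer (W : Set G)).subgroupOf D).Normal,
        Nonempty ((↥D ⧸ (Subgroup.centralizer (W : Set G)).subgroupOf D) ≃* M) := by
  classical
  -- operators
  have hop : ∀ x : ↥X, xi V (zeta K X hXK x) ∈ opS K X V hXK := fun x => ⟨x, rfl⟩
  obtain ⟨W, hWdef⟩ : ∃ W : Subgroup G,
    W = ((W'.comap (SemidirectProduct.inl : ↥V →* Amb V)).map V.subtype).map K.subtype := ⟨_, rfl⟩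
  have hWmem : ∀ g : G, g ∈ W ↔ ∃ v : ↥V, SemidirectProduct.inl v ∈ W' ∧ ((v : ↥K) : G) = g := by
    intro g
    rw [hWdef]
    constructor
    · rintro ⟨_, ⟨v, hv, rfl⟩, rfl⟩
      exact ⟨v, hv, rfl⟩
    · rintro ⟨v, hv, rfl⟩
      exact ⟨_, ⟨v, hv, rfl⟩, rfl⟩
  have hinlconj : ∀ (k : ↥K) (v : ↥V), tau V k * SemidirectProduct.inl v * (tau V k)⁻¹ =
      SemidirectProduct.inl ((MulAut.conjNormal (H := V) k) v) := fun k v => tau_conj V k v
  obtain ⟨D, hDdef⟩ : ∃ D : Subgroup G, D = ((D'.comap (tau V)).map K.subtype) ⊓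
      Subgroup.centralizer (X : Set G) := ⟨_, rfl⟩
  have hDK : D ≤ K := by
    rw [hDdef]; exact inf_le_left.trans (Subgroup.map_subtype_le _)
  have hDmem : ∀ d : ↥D, tau V (Subgroup.inclusion hDK d) ∈ D' := by
    intro d
    have hd := hDdef.le d.2
    obtain ⟨k, hk, hkd⟩ := (Subgroup.mem_inf.mp hd).1
    have : Subgroup.inclusion hDK d = k := Subtype.ext hkd.symm
    rw [this]; exact hk
  -- W in K ∩ C(X)
  have hWK : W ≤ K ⊓ Subgroup.centralizer (X : Set G) := by
    intro g hg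
    obtain ⟨v, hv, rfl⟩ := (hWmem g).mp hg
    refine Subgroup.mem_inf.mpr ⟨(v : ↥K).2, ?_⟩
    rw [Subgroup.mem_centralizer_iff]
    intro x hx
    have h1 := Subgroup.mem_centralizer_iff.mp (hW'X hv) _ (hop ⟨x, hx⟩)
    have h2 : xi V (zeta K X hXK ⟨x, hx⟩) * SemidirectProduct.inl v *
        (xi V (zeta K X hXK ⟨x, hx⟩))⁻¹ = SemidirectProduct.inl v := by
      rw [h1]; group
    rw [xi_conj_inl] at h2
    have h3 := congrArg (fun w : ↥V => ((w : ↥K) : G)) (SemidirectProduct.inl_injective h2)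
    simp only [resAut_apply, zeta_apply] at h3
    calc x * ((v : ↥K) : G) = (x * ((v : ↥K) : G) * x⁻¹) * x := by group
      _ = ((v : ↥K) : G) * x := by rw [h3]
  have hWel : IsElementaryAbelian p W := by
    have h1 : IsElementaryAbelian p ((V.map K.subtype : Subgroup G)) :=
      Cfsg.Agent.Lib.Helper1.isElementaryAbelian_map hV _
    apply Cfsg.Agent.Lib.Helper1.isElementaryAbelian_mono h1
    rw [hWdef]
    exact Subgroup.map_mono (Subgroup.map_subtype_le _)
  have hWcard : Nat.card W = p ^ 2 := by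
    rw [hWdef, Subgroup.card_map_of_injective K.subtype_injective,
      Subgroup.card_map_of_injective V.subtype_injective, ← hcard]
    have : (W'.comap (SemidirectProduct.inl : ↥V →* Amb V)).map SemidirectProduct.inl = W' :=
      Subgroup.map_comap_eq_self hW'V
    conv_rhs => rw [← this]
    rw [Subgroup.card_map_of_injective SemidirectProduct.inl_injective]
  -- D normalizes W
  have hDW' : D ≤ Subgroup.normalizer (W : Set G) := by
    apply Cfsg.Agent.Lib.Helper1.le_normalizer_of_conj_mem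
    intro d hd w hw
    obtain ⟨v, hv, rfl⟩ := (hWmem w).mp hw
    rw [hWmem]
    refine ⟨(MulAut.conjNormal (H := V) (⟨d, hDK hd⟩ : ↥K)) v, ?_, ?_⟩
    · rw [← hinlconj]
      exact (Subgroup.mem_normalizer_iff.mp (hDW (hDmem ⟨d, hd⟩)) _).mp hv
    · rw [MulAut.conjNormal_apply]
      rfl
  -- the homomorphism D → D'
  let θ : ↥D →* ↥D' := ((tau V).comp (Subgroup.inclusion hDK)).codRestrict D' hDmem
  have hθ : ∀ d : ↥D, ((θ d : ↥D') : Amb V) = tau V (Subgroup.inclusion hDK d) := fun d => rfl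
  -- the normal subgroup for the coprime lemma
  obtain ⟨N, hNdef⟩ : ∃ N : Subgroup G, N = ((tau V).ker).map K.subtype := ⟨_, rfl⟩
  have hNK : N ≤ K := by rw [hNdef]; exact Subgroup.map_subtype_le _
  have hNn : K ≤ Subgroup.normalizer (N : Set G) := by
    apply Cfsg.Agent.Lib.Helper1.le_normalizer_of_conj_mem
    intro k hk n hn
    rw [hNdef] at hn ⊢
    obtain ⟨n', hn', rfl⟩ := hn
    refine ⟨⟨k, hk⟩ * n' * ⟨k, hk⟩⁻¹, ?_, rfl⟩
    exact (MonoidHom.normal_ker (tau V)).conj_mem n' hn' ⟨k, hk⟩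
  have hNX : X ≤ Subgroup.normalizer (N : Set G) := by
    apply Cfsg.Agent.Lib.Helper1.le_normalizer_of_conj_mem
    intro x hx n hn
    rw [hNdef] at hn ⊢
    obtain ⟨n', hn', rfl⟩ := hn
    refine ⟨zeta K X hXK ⟨x, hx⟩ n', ?_, rfl⟩
    rw [SetLike.mem_coe, MonoidHom.mem_ker] at hn' ⊢
    rw [← xi_conj_tau, hn', mul_one, mul_inv_cancel]
  have hcop : (Nat.card X).Coprime (Nat.card K) := by
    obtain ⟨n, hn⟩ := hXq.exists_card_eq
    rw [hn]
    apply Nat.Coprime.pow_left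
    exact (Nat.Prime.coprime_iff_not_dvd hq.out).mpr hqK
  have hsolv : Group.IsSolvable X := by
    have := hXq.isNilpotent
    infer_instance
  have hsurj : Function.Surjective θ := by
    rintro ⟨d', hd'⟩
    obtain ⟨k, rfl⟩ := hD'r hd'
    have hfix : ∀ a ∈ X, a * (k : G) * a⁻¹ * (k : G)⁻¹ ∈ N := by
      intro a ha
      rw [hNdef]
      refine ⟨zeta K X hXK ⟨a, ha⟩ k * k⁻¹, ?_, rfl⟩
      rw [SetLike.mem_coe, MonoidHom.mem_ker, map_mul, ← xi_conj_tau, map_inv]
      have h1 := Subgroup.mem_centralizer_iff.mp (hD'X hd') _ (hop ⟨a, ha⟩)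
      rw [h1]; group
    obtain ⟨c, hc, hkc⟩ := Cfsg.Agent.Lib.Helper1.coprime_fixed_points_quotient X K hXK hcop
      (Or.inl hsolv) N hNK hNn hNX (k : G) k.2 hfix
    have hcK : c ∈ K := (Subgroup.mem_inf.mp hc).1
    have htau : tau V ⟨c, hcK⟩ = tau V k := by
      rw [hNdef] at hkc
      obtain ⟨n', hn', hn'e⟩ := hkc
      have : (⟨c, hcK⟩ : ↥K) = k * n' := by
        apply Subtype.ext
        rw [Subgroup.coe_mul]
        have : ((n' : ↥K) : G) = (k : G)⁻¹ * c := hn'e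
        rw [this]; group
      rw [this, map_mul, MonoidHom.mem_ker.mp hn', mul_one]
    have hcD : c ∈ D := by
      rw [hDdef]
      refine Subgroup.mem_inf.mpr ⟨⟨⟨c, hcK⟩, ?_, rfl⟩, (Subgroup.mem_inf.mp hc).2⟩
      rw [SetLike.mem_coe, Subgroup.mem_comap, htau]
      exact hd'
    refine ⟨⟨c, hcD⟩, ?_⟩
    apply Subtype.ext
    rw [hθ]
    exact htau
  have hker : θ.ker = (Subgroup.centralizer (W : Set G)).subgroupOf D := by
    ext d
    rw [MonoidHom.mem_ker, Subgroup.mem_subgroupOf]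
    constructor
    · intro h
      have h1 : tau V (Subgroup.inclusion hDK d) = 1 := by
        rw [← hθ, h]; rfl
      have h2 : Subgroup.inclusion hDK d ∈ Subgroup.centralizer (V : Set ↥K) := by
        rw [← mem_ker_tau, MonoidHom.mem_ker]; exact h1
      rw [Subgroup.mem_centralizer_iff]
      intro w hw
      obtain ⟨v, -, rfl⟩ := (hWmem w).mp hw
      have h3 := Subgroup.mem_centralizer_iff.mp h2 (v : ↥K) v.2
      exact congrArg Subtype.val h3
    · intro h
      have h1 : tau V (Subgroup.inclusion hDK d) ∈ D' ⊓ Subgroup.centralizer (W' : Set (Amb V)) := by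
        refine Subgroup.mem_inf.mpr ⟨hDmem d, ?_⟩
        rw [Subgroup.mem_centralizer_iff]
        intro w' hw'
        obtain ⟨v, rfl⟩ := hW'V hw'
        have h2 : tau V (Subgroup.inclusion hDK d) * SemidirectProduct.inl v *
            (tau V (Subgroup.inclusion hDK d))⁻¹ = SemidirectProduct.inl v := by
          rw [hinlconj]
          congr 1
          apply Subtype.ext
          apply Subtype.ext
          rw [MulAut.conjNormal_apply]
          have h3 := Subgroup.mem_centralizer_iff.mp h ((v : ↥K) : G)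
            ((hWmem _).mpr ⟨v, hw', rfl⟩)
          change (d : G) * ((v : ↥K) : G) * (d : G)⁻¹ = ((v : ↥K) : G)
          rw [← h3]; group
        calc SemidirectProduct.inl v * tau V (Subgroup.inclusion hDK d)
            = (tau V (Subgroup.inclusion hDK d) * SemidirectProduct.inl v *
              (tau V (Subgroup.inclusion hDK d))⁻¹) * tau V (Subgroup.inclusion hDK d) := by
              rw [h2]
          _ = tau V (Subgroup.inclusion hDK d) * SemidirectProduct.inl v := by group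
      rw [hfaith, Subgroup.mem_bot] at h1
      apply Subtype.ext
      rw [hθ, h1]; rfl
  have hDKX : D ≤ K ⊓ Subgroup.centralizer (X : Set G) := by
    rw [hDdef]
    exact inf_le_inf_right _ (Subgroup.map_subtype_le _)
  have hn : ((Subgroup.centralizer (W : Set G)).subgroupOf D).Normal := by
    rw [← hker]; infer_instance
  refine ⟨W, D, hWK, hDKX, hWel, hWcard, hDW', hn, ?_⟩
  exact ⟨((QuotientGroup.quotientMulEquivOfEq hker.symm).trans
    (QuotientGroup.quotientKerEquivOfSurjective θ hsurj)).trans φ⟩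

theorem isPGroup_of_isElementaryAbelian {q : ℕ} {X : Subgroup G} (hX : IsElementaryAbelian q X) :
    IsPGroup q X := by
  rintro ⟨x, hx⟩
  refine ⟨1, ?_⟩
  apply Subtype.ext
  rw [pow_one, Subgroup.coe_pow, Subgroup.coe_one]
  exact hX.2 x hx

/-- S0621 -/
theorem s0621 [Finite G] {p q : ℕ} [hp : Fact p.Prime] [hq : Fact q.Prime]
    (hXK : X ≤ Subgroup.normalizer (K : Set G)) (hX : IsElementaryAbelian q X)
    (hqK : ¬ q ∣ Nat.card K) (hsep : Cfsg.IsPSolvable p ↥K) (hO : Cfsg.pPrimeCore p ↥K = ⊥)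
    (hnf : ¬ Cfsg.IsThompsonFactorizable p ↥K) :
    (p = 2 ∨ p = 3) ∧ ∃ W D : Subgroup G, W ≤ K ⊓ Subgroup.centralizer (X : Set G) ∧
      D ≤ K ⊓ Subgroup.centralizer (X : Set G) ∧ Cfsg.IsElementaryAbelian p W ∧
      Nat.card W = p ^ 2 ∧ D ≤ Subgroup.normalizer (W : Set G) ∧
      ∃ hn : ((Subgroup.centralizer (W : Set G)).subgroupOf D).Normal,
        Nonempty ((↥D ⧸ (Subgroup.centralizer (W : Set G)).subgroupOf D) ≃*
          Matrix.SpecialLinearGroup (Fin 2) (ZMod p)) := by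
  have hc : Subgroup.centralizer (Cfsg.pCore p ↥K : Set ↥K) ≤ Cfsg.pCore p ↥K :=
    Cfsg.Agent.Lib.Helper1.centralizer_pCore_le_of_isPSolvable hO
      (Cfsg.Agent.Lib.Helper1.PSolvSub.isPSolvable_subgroup hsep _)
  obtain ⟨-, hV, hOp⟩ := Cfsg.Agent.Lib.Helper1.S0601_aux (p := p) hc
  have hWchar := iSup_omegaOne_center_sylow_characteristic (G := ↥K) p
  obtain ⟨W₀, hW₀⟩ : ∃ W₀ : Subgroup ↥K, W₀ = ⨆ S : Sylow p ↥K, Cfsg.omegaOne p
    ((S : Subgroup ↥K) ⊓ Subgroup.centralizer ((S : Subgroup ↥K) : Set ↥K)) := ⟨_, rfl⟩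
  rw [← hW₀] at hV hOp hWchar
  have hJC : ¬ Cfsg.thompsonSubgroup p ↥K ≤ Subgroup.centralizer (W₀ : Set ↥K) := by
    intro h
    apply hnf
    rw [Cfsg.Agent.Lib.Helper1.thompsonFactorizable_iff hO, ← hW₀]
    exact h
  have hJchar := Cfsg.Agent.Lib.Helper1.thompsonSubgroup_characteristic p ↥K
  have s := setup_tr W₀ hV hsep (Cfsg.thompsonSubgroup p ↥K) hOp
  have hS3 := tr_generated W₀ (Cfsg.maxElementaryAbelianSubgroups p ↥K)
    (fun A hA => Cfsg.Agent.Lib.Helper1.isBestOffenderOn_of_mem_max W₀ hV A hA)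
  have hH1 : tr W₀ (Cfsg.thompsonSubgroup p ↥K) ≠ ⊥ := by
    intro h0
    apply hJC
    intro j hj
    rw [← mem_ker_tau, MonoidHom.mem_ker]
    have : tau W₀ j ∈ tr W₀ (Cfsg.thompsonSubgroup p ↥K) := ⟨j, hj, rfl⟩
    rw [h0, Subgroup.mem_bot] at this
    exact this
  have hex : ∃ B, s.IsTrH B := by
    by_contra hcon
    push Not at hcon
    apply hH1
    rw [eq_bot_iff]
    exact s.le_of_forall_isTrH hS3 (fun B hB => absurd hB (hcon B))
  obtain ⟨A, hA⟩ := hex
  refine ⟨hA.p23, ?_⟩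
  -- the operator group
  have hXq : IsPGroup q X := isPGroup_of_isElementaryAbelian hX
  have hYq : IsPGroup q (opS K X W₀ hXK) :=
    hXq.of_surjective ((xi W₀).comp (zeta K X hXK)).rangeRestrict
      (MonoidHom.rangeRestrict_surjective _)
  have hYc : ∀ a ∈ opS K X W₀ hXK, ∀ b ∈ opS K X W₀ hXK, a * b = b * a := by
    rintro _ ⟨x, rfl⟩ _ ⟨y, rfl⟩
    rw [← map_mul, ← map_mul]
    congr 1
    apply Subtype.ext
    exact Cfsg.Agent.Lib.Helper1.isElementaryAbelian_comm hX x.2 y.2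
  have hYV : opS K X W₀ hXK ≤ Subgroup.normalizer (VV W₀ : Set (Amb W₀)) := by
    rintro _ ⟨x, rfl⟩
    exact xi_mem_normalizer_VV W₀ _
  have hYH : opS K X W₀ hXK ≤
      Subgroup.normalizer (tr W₀ (Cfsg.thompsonSubgroup p ↥K) : Set (Amb W₀)) := by
    rintro _ ⟨x, rfl⟩
    exact xi_mem_normalizer_tr W₀ _ _
  have hYQ : opS K X W₀ hXK ≤ Subgroup.normalizer
      (((Cfsg.pPrimeCore p ↥(tr W₀ (Cfsg.thompsonSubgroup p ↥K))).map
        (tr W₀ (Cfsg.thompsonSubgroup p ↥K)).subtype : Subgroup (Amb W₀)) : Set (Amb W₀)) := by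
    intro y hy
    have hch : (Cfsg.pPrimeCore p ↥(tr W₀ (Cfsg.thompsonSubgroup p ↥K))).Characteristic :=
      Cfsg.Agent.Lib.Helper2.pPrimeCore_characteristic p
    exact Cfsg.Agent.Lib.Helper1.normalizer_le_normalizer_map_characteristic _ _ (hYH hy)
  -- arithmetic
  have hdvd : p * (p ^ 2 - 1) ∣ Nat.card K := by
    obtain ⟨φ⟩ := hA.sl2
    have h1 : Nat.card ↥(⁅(Cfsg.pPrimeCore p ↥(tr W₀ (Cfsg.thompsonSubgroup p ↥K))).map
        (tr W₀ (Cfsg.thompsonSubgroup p ↥K)).subtype, A⁆ ⊔ A : Subgroup (Amb W₀)) =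
        p * (p ^ 2 - 1) := by
      rw [Nat.card_congr φ.toEquiv, Cfsg.Agent.Lib.Helper4.card_SL2, ZMod.card]
    rw [← h1]
    refine (Subgroup.card_dvd_of_le hA.E_le_H).trans ?_
    have h2 := card_tr W₀ (Cfsg.thompsonSubgroup p ↥K)
    refine (Dvd.intro _ h2).trans ?_
    exact Subgroup.card_subgroup_dvd_card _
  have h1 : ¬ q ∣ p ^ 2 - 1 := fun h => hqK ((h.mul_left p).trans hdvd)
  have h2 : ¬ q ∣ p ^ 2 - p := by
    intro h
    apply hqK
    refine (h.trans ?_).trans hdvd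
    have hp1 : 1 ≤ p := hp.out.one_lt.le
    have e1 : p ^ 2 - p = p * (p - 1) := by
      rw [Nat.mul_sub, mul_one, sq]
    have e2 : p ^ 2 - 1 = (p - 1) * (p + 1) := by
      zify [hp1, Nat.one_le_pow 2 p hp.out.pos]; ring
    rw [e1, e2]
    exact ⟨p + 1, by ring⟩
  obtain ⟨W', D', hW', hD', hcard, hDW, hfaith, ⟨φ⟩⟩ :=
    Cfsg.Agent.Lib.Helper1.CX.Ops.exists_fixed_sl2 hA (opS K X W₀ hXK) hYq hYc hYV hYH hYQ h1 h2
  exact pullback_fixed K X hXK hXq hqK W₀ hV (hW'.trans inf_le_left) (hW'.trans inf_le_right)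
    ((hD'.trans inf_le_left).trans (Subgroup.map_le_range _ _)) (hD'.trans inf_le_right)
    hcard hDW hfaith φ

end main

end Cfsg.Agent.Lib.Helper1.TF
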