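import Mathlib
import Cfsg.Agent.Lib.Helper1.RT1
import Cfsg.Agent.Lib.Helper1.GL4
import Cfsg.Agent.Lib.Helper1.TF6
import Cfsg.Agent.Lib.Helper1.FrattiniP

set_option autoImplicit false
universe u v
open scoped commutatorElement

namespace Cfsg.Agent.Lib.Helper1.RT

open Cfsg Cfsg.Agent.Lib.Helper1 Subgroup

variable {p : ℕ} [hp : Fact p.Prime]

/-- Automorphisms of a cyclic group commute. -/
theorem mulAut_comm_of_isCyclic {V : Type u} [Group V] [IsCyclic V] (a b : MulAut V) :
    a * b = b * a := by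
  apply (IsCyclic.mulAutMulEquiv V).injective
  rw [map_mul, map_mul, mul_comm]

theorem commutator_le_ker_of_comm {B : Type v} {M : Type u} [Group B] [Group M] (ρ : B →* M)
    (h : ∀ a b : M, a * b = b * a) : commutator B ≤ ρ.ker := by
  rw [commutator_def, Subgroup.commutator_le]
  intro a _ b _
  rw [MonoidHom.mem_ker, map_commutatorElement, commutatorElement_eq_one_iff_mul_comm]
  exact h _ _

/-- The Frattini quotient of the small faithful subgroup has order at most `p²`. -/
theorem card_frattini_quotient_le {P : Type u} [Group P] [Finite P] (hP : IsPGroup p P)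
    (hrk : Cfsg.PRankLE p 2 P) (U : Subgroup P) (hUexp : ∀ x ∈ U, x ^ p = 1)
    (hUcard : Nat.card U ≤ p ^ 3) :
    ∃ j, j ≤ 2 ∧ Nat.card (↥U ⧸ frattini ↥U) = p ^ j := by
  have hUp : IsPGroup p U := hP.to_subgroup U
  have hVp : IsPGroup p (↥U ⧸ frattini ↥U) := hUp.to_quotient _
  obtain ⟨j, hj⟩ := IsPGroup.iff_card.mp hVp
  refine ⟨j, ?_, hj⟩
  by_contra hcon
  push Not at hcon
  have h1 : (frattini ↥U).index = p ^ j := hj
  have h2 := (frattini ↥U).card_mul_index
  have h3 : p ^ 3 ≤ p ^ j := Nat.pow_le_pow_right hp.out.pos hcon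
  have h4 : Nat.card (frattini ↥U) = 1 := by
    have h5 : 0 < Nat.card (frattini ↥U) := Nat.card_pos
    by_contra h6
    have h7 : 2 ≤ Nat.card (frattini ↥U) := by omega
    have h8 : 2 * p ^ j ≤ Nat.card U := by
      rw [← h2, h1]
      exact Nat.mul_le_mul_right _ h7
    have h9 : 0 < p ^ j := pow_pos hp.out.pos _
    omega
  have h5 : frattini ↥U = ⊥ := Subgroup.eq_bot_of_card_eq _ h4
  have h6 : commutator ↥U = ⊥ := by
    have := commutator_le_frattini_of_isPGroup p hUp
    rw [h5] at this
    exact le_bot_iff.mp this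
  have hcomm : IsMulCommutative ↥U := by
    refine ⟨⟨fun a b => ?_⟩⟩
    have h7 : ⁅a, b⁆ ∈ commutator ↥U := by
      rw [commutator_def]
      exact Subgroup.commutator_mem_commutator (mem_top _) (mem_top _)
    rw [h6, Subgroup.mem_bot, commutatorElement_eq_one_iff_mul_comm] at h7
    exact h7
  have h7 := hrk U hcomm hUexp
  rw [h4, one_mul, h1] at h2
  have h8 : p ^ 2 < p ^ 3 := Nat.pow_lt_pow_right hp.out.one_lt (by norm_num)
  omega

/-- Abstract form of BG 4.18(a)-type statement: a solvable group of odd order acting faithfully on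
a `p`-group of rank at most two has a derived subgroup consisting of `p`-elements. -/
theorem commutator_pElements_of_faithful {P : Type u} {B : Type v} [Group P] [Finite P] [Group B]
    [Finite B] (hp2 : p ≠ 2) (hP : IsPGroup p P) (hrk : Cfsg.PRankLE p 2 P) (ζ : B →* MulAut P)
    (hζ : Function.Injective ζ) (hodd : Odd (Nat.card B)) (hsolv : Group.IsSolvable B) :
    ∀ g ∈ commutator B, ∃ k : ℕ, g ^ (p ^ k) = 1 := by
  obtain ⟨U, hUchar, hUexp, hUcard, hUfaith⟩ := exists_small_faithful hp2 hP hrk
  have := hUchar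
  have hUp : IsPGroup p U := hP.to_subgroup U
  obtain ⟨ρ, hρ⟩ : ∃ ρ : B →* MulAut (↥U ⧸ frattini ↥U),
      ρ = (quotAut (frattini ↥U)).comp ((TF.resAut U).comp ζ) := ⟨_, rfl⟩
  -- step 1: p'-elements in the kernel are trivial
  have step1 : ∀ x : B, ρ x = 1 → Nat.Coprime (orderOf x) p → x = 1 := by
    intro x hx hcop
    have ha : Nat.Coprime (orderOf (ζ x)) p :=
      Nat.Coprime.coprime_dvd_left (orderOf_map_dvd ζ x) hcop
    have hb : Nat.Coprime (orderOf (TF.resAut U (ζ x))) p :=
      Nat.Coprime.coprime_dvd_left (orderOf_map_dvd (TF.resAut U) (ζ x)) ha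
    have hb1 : TF.resAut U (ζ x) = 1 := by
      apply aut_eq_one_of_trivial_mod_frattini hUp _ hb
      intro u
      have h1 := congrArg (fun f : MulAut (↥U ⧸ frattini ↥U) => f (u : ↥U ⧸ frattini ↥U)) hx
      beta_reduce at h1
      rw [hρ] at h1
      simp only [MonoidHom.comp_apply, quotAut_mk, MulAut.one_apply] at h1
      rw [← QuotientGroup.eq_one_iff, QuotientGroup.mk_mul, h1, QuotientGroup.mk_inv,
        mul_inv_cancel]
    have ha1 : ζ x = 1 := by
      apply hUfaith _ ha
      intro u hu
      have h1 := congrArg (fun f : MulAut ↥U => ((f ⟨u, hu⟩ : ↥U) : P)) hb1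
      beta_reduce at h1
      rw [TF.resAut_apply] at h1
      exact h1
    apply hζ
    rw [ha1, map_one]
  -- step 2: the derived subgroup acts with exponent p
  have step2 : ∀ g ∈ commutator B, (ρ g) ^ p = 1 := by
    obtain ⟨j, hj2, hj⟩ := card_frattini_quotient_le hP hrk U hUexp hUcard
    have hVexp : ∀ v : ↥U ⧸ frattini ↥U, v ^ p = 1 := by
      intro v
      obtain ⟨u, rfl⟩ := QuotientGroup.mk_surjective v
      rw [← QuotientGroup.mk_pow]
      have : u ^ p = 1 := by
        apply Subtype.ext
        rw [Subgroup.coe_pow]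
        exact hUexp u u.2
      rw [this]; rfl
    rcases Nat.lt_or_ge j 2 with hlt | hge
    · have hcyc : IsCyclic (↥U ⧸ frattini ↥U) := by
        interval_cases j
        · rw [pow_zero] at hj
          have : Subsingleton (↥U ⧸ frattini ↥U) := (Nat.card_eq_one_iff_unique.mp hj).1
          infer_instance
        · rw [pow_one] at hj
          exact isCyclic_of_prime_card hj
      intro g hg
      have := commutator_le_ker_of_comm ρ (fun a b => mulAut_comm_of_isCyclic a b) hg
      rw [MonoidHom.mem_ker] at this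
      rw [this, one_pow]
    · have hj' : j = 2 := le_antisymm hj2 hge
      subst hj'
      have hcomm : ∀ x y : ↥U ⧸ frattini ↥U, x * y = y * x := by
        have hVp : IsPGroup p (↥U ⧸ frattini ↥U) := hUp.to_quotient _
        intro x y
        exact (IsPGroup.isMulCommutative_of_card_eq_prime_sq hj).is_comm.comm x y
      exact GLTwo.commutator_pow_of_action p hp2 hcomm hVexp hj ρ hodd hsolv
  -- step 3
  intro g hg
  obtain ⟨k, m, hm, hkm⟩ := Nat.exists_eq_pow_mul_and_not_dvd (orderOf_pos g).ne' p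
    hp.out.ne_one
  refine ⟨k + 1, ?_⟩
  apply step1
  · rw [map_pow, pow_succ, mul_comm, pow_mul, step2 g hg, one_pow]
  · have h1 : (g ^ p ^ (k + 1)) ^ m = 1 := by
      rw [← pow_mul, pow_succ, mul_assoc, mul_comm p m, ← mul_assoc, ← hkm, pow_mul,
        pow_orderOf_eq_one, one_pow]
    have h2 : orderOf (g ^ p ^ (k + 1)) ∣ m := orderOf_dvd_of_pow_eq_one h1
    exact Nat.Coprime.coprime_dvd_left h2
      ((Nat.Prime.coprime_iff_not_dvd hp.out).mpr hm).symm

end Cfsg.Agent.Lib.Helper1.RT
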