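import Mathlib
import Cfsg.Agent.Lib.Helper1.RT2

set_option autoImplicit false
universe u v
open scoped commutatorElement

namespace Cfsg.Agent.Lib.Helper1.RT

open Cfsg Cfsg.Agent.Lib.Helper1 Subgroup

variable {p : ℕ} [hp : Fact p.Prime]

/-- A normal `p'`-subgroup with `p`-power quotient is a complement to every Sylow `p`-subgroup and
contains every `p'`-subgroup. -/
theorem npc_of_normal_coprime {H : Type u} [Group H] [Finite H] (N : Subgroup H) [hN : N.Normal]
    (hcop : (Nat.card N).Coprime p) (hq : ∀ h : H, ∃ k : ℕ, h ^ (p ^ k) ∈ N) :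
    (∀ P : Sylow p H, N.IsComplement' (P : Subgroup H)) ∧
    ∀ L : Subgroup H, (Nat.card L).Coprime p → L ≤ N := by
  have hQ : IsPGroup p (H ⧸ N) := by
    intro x
    obtain ⟨h, rfl⟩ := QuotientGroup.mk_surjective x
    obtain ⟨k, hk⟩ := hq h
    exact ⟨k, by rw [← QuotientGroup.mk_pow]; exact (QuotientGroup.eq_one_iff _).mpr hk⟩
  obtain ⟨j, hj⟩ := IsPGroup.iff_card.mp hQ
  have hidx : N.index = p ^ j := hj
  constructor
  · intro P
    have hcard : Nat.card N * p ^ j = Nat.card H := by rw [← hidx]; exact N.card_mul_index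
    have hP : Nat.card P = p ^ j := by
      obtain ⟨i, hi⟩ := IsPGroup.iff_card.mp P.2
      have h1 : p ^ i ∣ Nat.card N * p ^ j := by
        rw [hcard, ← hi]; exact Subgroup.card_subgroup_dvd_card _
      have h2 : p ^ i ∣ p ^ j :=
        (Nat.Coprime.pow_left i (Nat.coprime_comm.mp hcop)).dvd_of_dvd_mul_left h1
      have h3 : ¬ p ∣ (P : Subgroup H).index := P.not_dvd_index
      have h4 := (P : Subgroup H).card_mul_index
      rw [hi, ← hcard] at h4
      have h5 : p ^ j ∣ p ^ i * (P : Subgroup H).index := by rw [h4]; exact dvd_mul_left _ _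
      have h6 : p ^ j ∣ p ^ i :=
        (Nat.Coprime.pow_left j ((Nat.Prime.coprime_iff_not_dvd hp.out).mpr h3)).dvd_of_dvd_mul_right
          h5
      rw [hi]
      exact Nat.dvd_antisymm h2 h6
    apply Subgroup.isComplement'_of_coprime
    · rw [hP]; exact hcard
    · rw [hP]; exact Nat.Coprime.pow_right j hcop
  · intro L hL x hx
    rw [← QuotientGroup.eq_one_iff, ← orderOf_eq_one_iff]
    have h1 : orderOf (x : H ⧸ N) ∣ orderOf x := orderOf_dvd_of_pow_eq_one (by
      rw [← QuotientGroup.mk_pow, pow_orderOf_eq_one]; rfl)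
    have h2 : orderOf x ∣ Nat.card L := by
      have := orderOf_dvd_natCard (⟨x, hx⟩ : L)
      rwa [← Subgroup.orderOf_coe] at this
    have h3 : orderOf (x : H ⧸ N) ∣ p ^ j := hj ▸ orderOf_dvd_natCard _
    have h4 : Nat.Coprime (orderOf (x : H ⧸ N)) (p ^ j) :=
      Nat.Coprime.pow_right j (Nat.Coprime.coprime_dvd_left (h1.trans h2) hL)
    exact Nat.eq_one_of_dvd_coprimes h4 dvd_rfl h3

theorem hasNormalPComplement_of_normal_coprime {H : Type u} [Group H] [Finite H] (N : Subgroup H)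
    [hN : N.Normal] (hcop : (Nat.card N).Coprime p) (hq : ∀ h : H, ∃ k : ℕ, h ^ (p ^ k) ∈ N) :
    Cfsg.HasNormalPComplement p H := by
  obtain ⟨P⟩ : Nonempty (Sylow p H) := inferInstance
  exact ⟨P, N, hN, (npc_of_normal_coprime N hcop hq).1 P⟩

/-- The `p`-rank does not grow on passing to the quotient by a normal `p'`-subgroup. -/
theorem pRankLE_quotient {G : Type u} [Group G] [Finite G] {k : ℕ} (hrk : Cfsg.PRankLE p k G)
    (K : Subgroup G) [hKn : K.Normal] (hK : (Nat.card K).Coprime p) :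
    Cfsg.PRankLE p k (G ⧸ K) := by
  intro E hEc hEexp
  obtain ⟨H, hH⟩ : ∃ H : Subgroup G, H = E.comap (QuotientGroup.mk' K) := ⟨_, rfl⟩
  have hHmem : ∀ g : G, g ∈ H ↔ (g : G ⧸ K) ∈ E := by
    intro g; rw [hH]; rfl
  have hKH : K ≤ H := by
    intro x hx
    rw [hHmem, (QuotientGroup.eq_one_iff x).mpr hx]
    exact one_mem _
  have hNn : (K.subgroupOf H).Normal := inferInstance
  have hNc : (Nat.card (K.subgroupOf H)).Coprime p := by
    rw [Nat.card_congr (Subgroup.subgroupOfEquivOfLe hKH).toEquiv]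
    exact hK
  have hq : ∀ h : ↥H, ∃ j : ℕ, h ^ (p ^ j) ∈ K.subgroupOf H := by
    intro h
    refine ⟨1, ?_⟩
    rw [pow_one, Subgroup.mem_subgroupOf, Subgroup.coe_pow, ← QuotientGroup.eq_one_iff,
      QuotientGroup.mk_pow]
    have h1 : ((h : G) : G ⧸ K) ∈ E := (hHmem _).mp h.2
    exact hEexp _ h1
  obtain ⟨P⟩ : Nonempty (Sylow p ↥H) := inferInstance
  have hcompl := (npc_of_normal_coprime (K.subgroupOf H) hNc hq).1 P
  obtain ⟨A, hA⟩ : ∃ A : Subgroup G, A = (P : Subgroup ↥H).map H.subtype := ⟨_, rfl⟩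
  have hAp : IsPGroup p A := by rw [hA]; exact P.2.map _
  have hAK : A ⊓ K = ⊥ := by
    apply Disjoint.eq_bot
    apply Subgroup.disjoint_of_coprime_natCard
    obtain ⟨i, hi⟩ := IsPGroup.iff_card.mp hAp
    rw [hi]
    exact Nat.Coprime.pow_left i (Nat.coprime_comm.mp hK)
  have hinj : ∀ a ∈ A, ∀ b ∈ A, (a : G ⧸ K) = (b : G ⧸ K) → a = b := by
    intro a ha b hb hab
    have h1 : a⁻¹ * b ∈ K := QuotientGroup.eq.mp hab
    have h2 : a⁻¹ * b ∈ A ⊓ K := Subgroup.mem_inf.mpr ⟨A.mul_mem (A.inv_mem ha) hb, h1⟩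
    rw [hAK, Subgroup.mem_bot] at h2
    exact (inv_mul_eq_one.mp h2)
  have hAE : ∀ a ∈ A, (a : G ⧸ K) ∈ E := by
    intro a ha
    rw [hA] at ha
    obtain ⟨x, -, rfl⟩ := ha
    exact (hHmem _).mp x.2
  have hAcomm : IsMulCommutative A := by
    refine ⟨⟨fun a b => ?_⟩⟩
    apply Subtype.ext
    rw [Subgroup.coe_mul, Subgroup.coe_mul]
    apply hinj _ (A.mul_mem a.2 b.2) _ (A.mul_mem b.2 a.2)
    rw [QuotientGroup.mk_mul, QuotientGroup.mk_mul]
    have h1 := hEc.is_comm.comm ⟨_, hAE a a.2⟩ ⟨_, hAE b b.2⟩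
    exact congrArg Subtype.val h1
  have hAexp : ∀ a ∈ A, a ^ p = 1 := by
    intro a ha
    apply hinj _ (A.pow_mem ha p) _ A.one_mem
    rw [QuotientGroup.mk_pow, hEexp _ (hAE a ha)]
    rfl
  have hAcard := hrk A hAcomm hAexp
  refine le_trans ?_ hAcard
  -- surjection from A onto E
  have hsurj : Function.Surjective (fun a : A => (⟨((a : G) : G ⧸ K), hAE a a.2⟩ : E)) := by
    rintro ⟨e, he⟩
    obtain ⟨g, rfl⟩ := QuotientGroup.mk_surjective e
    have hgH : g ∈ H := (hHmem _).mpr he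
    obtain ⟨⟨⟨n, hn⟩, ⟨x, hx⟩⟩, hnx, -⟩ := hcompl.existsUnique (⟨g, hgH⟩ : ↥H)
    simp only at hnx
    refine ⟨⟨(x : G), by rw [hA]; exact ⟨x, hx, rfl⟩⟩, ?_⟩
    apply Subtype.ext
    simp only
    have h1 : g = (n : G) * (x : G) := by
      have := congrArg Subtype.val hnx
      rw [Subgroup.coe_mul] at this
      exact this.symm
    rw [h1, QuotientGroup.mk_mul]
    have h2 : ((n : G) : G ⧸ K) = 1 := (QuotientGroup.eq_one_iff _).mpr (Subgroup.mem_subgroupOf.mp hn)
    rw [h2, one_mul]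
  exact Nat.card_le_card_of_surjective _ hsurj

end Cfsg.Agent.Lib.Helper1.RT
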