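import Mathlib
import Cfsg.Agent.Lib.Helper1.RT3
import Cfsg.Agent.Lib.Helper1.FittingCentralizer
import Cfsg.Agent.Lib.Helper1.PCore

set_option autoImplicit false
universe u v
open scoped commutatorElement

namespace Cfsg.Agent.Lib.Helper1.RT

open Cfsg Cfsg.Agent.Lib.Helper1 Subgroup

variable {p : ℕ} [hp : Fact p.Prime]

theorem map_mem_commutator {X : Type u} {Y : Type v} [Group X] [Group Y] (f : X →* Y) {g : X}
    (hg : g ∈ commutator X) : f g ∈ commutator Y := by
  have h1 : f g ∈ (commutator X).map f := ⟨g, hg, rfl⟩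
  rw [commutator_def, Subgroup.map_commutator] at h1
  rw [commutator_def]
  exact Subgroup.commutator_mono le_top le_top h1

/-- Core of BG 4.18 for groups with trivial `p'`-core. -/
theorem core_of_pPrimeCore_eq_bot {X : Type u} [Group X] [Finite X] [hsolv : Group.IsSolvable X]
    (hp2 : p ≠ 2) (hodd : Odd (Nat.card X)) (hO : Cfsg.pPrimeCore p X = ⊥)
    (hrk : Cfsg.PRankLE p 2 X) :
    (∀ q : ℕ, q.Prime → q ∣ Nat.card X → q ≤ p) ∧ commutator X ≤ Cfsg.pCore p X ∧
      ((Cfsg.pCore p X).index).Coprime p := by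
  obtain ⟨R, hRdef⟩ : ∃ R : Subgroup X, R = Cfsg.pCore p X := ⟨_, rfl⟩
  have hRn : R.Normal := by rw [hRdef]; infer_instance
  have hRp : IsPGroup p R := by rw [hRdef]; exact pCore_isPGroup p
  have hC : Subgroup.centralizer (R : Set X) ≤ R := by
    rw [hRdef]; exact centralizer_pCore_le p hO
  rw [← hRdef]
  obtain ⟨ζ₀, hζ₀⟩ : ∃ ζ₀ : X →* MulAut ↥R, ζ₀ = MulAut.conjNormal := ⟨_, rfl⟩
  have hker : ζ₀.ker ≤ R := by
    intro g hg
    apply hC
    rw [Subgroup.mem_centralizer_iff]
    intro r hr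
    rw [MonoidHom.mem_ker] at hg
    have h1 := congrArg (fun f : MulAut ↥R => ((f ⟨r, hr⟩ : ↥R) : X)) hg
    beta_reduce at h1
    rw [hζ₀, MulAut.conjNormal_apply] at h1
    simp only [MulAut.one_apply] at h1
    calc r * g = (g * r * g⁻¹) * g := by rw [h1]
      _ = g * r := by group
  have hinj : Function.Injective (QuotientGroup.kerLift ζ₀) := QuotientGroup.kerLift_injective ζ₀
  have hBodd : Odd (Nat.card (X ⧸ ζ₀.ker)) :=
    Odd.of_dvd_nat hodd (Subgroup.card_quotient_dvd_card _)
  have hBsolv : Group.IsSolvable (X ⧸ ζ₀.ker) :=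
    Group.isSolvable_of_surjective (QuotientGroup.mk'_surjective ζ₀.ker)
  have hrkR : Cfsg.PRankLE p 2 ↥R := Rk.pRankLE_subgroup hrk R
  have key := commutator_pElements_of_faithful hp2 hRp hrkR (QuotientGroup.kerLift ζ₀) hinj hBodd
    hBsolv
  have hcomm : commutator X ≤ R := by
    have hcp : IsPGroup p ↥(commutator X) := by
      intro g
      have h1 := map_mem_commutator (QuotientGroup.mk' ζ₀.ker) g.2
      obtain ⟨k, hk⟩ := key _ h1
      rw [QuotientGroup.mk'_apply, ← QuotientGroup.mk_pow, QuotientGroup.eq_one_iff] at hk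
      obtain ⟨j, hj⟩ := hRp ⟨_, hker hk⟩
      refine ⟨k + j, ?_⟩
      apply Subtype.ext
      have h2 := congrArg Subtype.val hj
      rw [Subgroup.coe_pow] at h2 ⊢
      rw [pow_add, pow_mul]
      exact h2
    rw [hRdef]
    exact le_pCore inferInstance hcp
  refine ⟨?_, hcomm, ?_⟩
  · intro q hq hqX
    by_cases hqp : q = p
    · exact hqp.le
    have h1 := ζ₀.ker.card_mul_index
    rw [← h1] at hqX
    rcases (Nat.Prime.dvd_mul hq).mp hqX with h2 | h2
    · exfalso
      obtain ⟨i, hi⟩ := IsPGroup.iff_card.mp (hRp.to_le hker)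
      rw [hi] at h2
      exact hqp ((Nat.prime_dvd_prime_iff_eq hq hp.out).mp (hq.dvd_of_dvd_pow h2))
    · have h3 : Nat.card (X ⧸ ζ₀.ker) ∣ Nat.card (MulAut ↥R) :=
        Subgroup.card_dvd_of_injective _ hinj
      exact (Rk.s0640 hp2 hRp hrkR q hq hqp (h2.trans h3)).2.le
  · obtain ⟨S⟩ : Nonempty (Sylow p X) := inferInstance
    have hRS : R ≤ (S : Subgroup X) := by
      rw [hRdef, pCore_eq_iInf_sylow]
      exact iInf_le _ S
    have hSn : (S : Subgroup X).Normal := by
      constructor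
      intro s hs g
      have h1 : g * s * g⁻¹ = ⁅g, s⁆ * s := by rw [commutatorElement_def]; group
      rw [h1]
      apply Subgroup.mul_mem _ _ hs
      apply hRS
      apply hcomm
      rw [_root_.commutator_def]
      exact Subgroup.commutator_mem_commutator (mem_top _) (mem_top _)
    have hSR : (S : Subgroup X) ≤ R := by
      rw [hRdef]
      exact le_pCore hSn S.2
    have hSeq : R = (S : Subgroup X) := le_antisymm hRS hSR
    rw [hSeq]
    exact ((Nat.Prime.coprime_iff_not_dvd hp.out).mpr S.not_dvd_index).symm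

end Cfsg.Agent.Lib.Helper1.RT
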