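import Mathlib
import Cfsg.Agent.Lib.Helper1.RT4
import Cfsg.Agent.Lib.Helper1.PLengthOne
import Cfsg.Prelude.Def_Local
import Cfsg.Prelude.Def_CaseTheorems

set_option autoImplicit false
universe u v
open scoped commutatorElement

namespace Cfsg.Agent.Lib.Helper1.RT

open Cfsg Cfsg.Agent.Lib.Helper1 Subgroup

variable {p : ℕ} [hp : Fact p.Prime]

theorem s1450 {G : Type u} [Group G] [Finite G] [Group.IsSolvable G] (hodd : Odd (Nat.card G))
    (hpG : p ∣ Nat.card G) (hr : Cfsg.PRankLE p 2 G) :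
    (∀ q : ℕ, q.Prime → q ∣ (Cfsg.pPrimeCore p G).index → q ≤ p) ∧
      ((p = 3 ∨ ∀ q : ℕ, q.Prime → q ∣ Nat.card G → p ≤ q) → Cfsg.HasNormalPComplement p G) ∧
      Cfsg.HasNormalPComplement p ↥(commutator G) ∧
      (∀ L : Subgroup ↥(commutator G), (Nat.card L).Coprime p →
        L ≤ Cfsg.pPrimeCore p ↥(commutator G)) ∧
      commutator G ≤ Cfsg.pPrimePCore p G ∧ ((Cfsg.pPrimePCore p G).index).Coprime p := by
  classical
  have hp2 : p ≠ 2 := by
    rintro rfl
    exact (Nat.not_even_iff_odd.mpr hodd) (even_iff_two_dvd.mpr hpG)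
  have hKc : (Nat.card (Cfsg.pPrimeCore p G)).Coprime p := pPrimeCore_card_coprime p
  have hO : Cfsg.pPrimeCore p (G ⧸ Cfsg.pPrimeCore p G) = ⊥ := pPrimeCore_quotient_eq_bot p
  have hXodd : Odd (Nat.card (G ⧸ Cfsg.pPrimeCore p G)) :=
    Odd.of_dvd_nat hodd (Subgroup.card_quotient_dvd_card _)
  have hXsolv : Group.IsSolvable (G ⧸ Cfsg.pPrimeCore p G) :=
    Group.isSolvable_of_surjective (QuotientGroup.mk'_surjective _)
  have hXrk := pRankLE_quotient hr (Cfsg.pPrimeCore p G) hKc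
  obtain ⟨c1, c2, c3⟩ := core_of_pPrimeCore_eq_bot hp2 hXodd hO hXrk
  have hpow : ∀ g ∈ commutator G, ∃ k : ℕ, g ^ (p ^ k) ∈ Cfsg.pPrimeCore p G := by
    intro g hg
    have h1 := map_mem_commutator (QuotientGroup.mk' (Cfsg.pPrimeCore p G)) hg
    have h2 := c2 h1
    obtain ⟨k, hk⟩ := (pCore_isPGroup (G := G ⧸ Cfsg.pPrimeCore p G) p) ⟨_, h2⟩
    refine ⟨k, ?_⟩
    rw [← QuotientGroup.eq_one_iff, QuotientGroup.mk_pow]
    have h3 := congrArg Subtype.val hk
    rw [Subgroup.coe_pow] at h3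
    exact h3
  obtain ⟨N, hN⟩ : ∃ N : Subgroup ↥(commutator G),
      N = (Cfsg.pPrimeCore p G).subgroupOf (commutator G) := ⟨_, rfl⟩
  have hNn : N.Normal := by rw [hN]; infer_instance
  have hNc : (Nat.card N).Coprime p := by
    have h1 : Nat.card N ∣ Nat.card (Cfsg.pPrimeCore p G) := by
      have h2 := Subgroup.card_map_of_injective (K := N) (f := (commutator G).subtype)
        (commutator G).subtype_injective
      rw [← h2, hN, Subgroup.subgroupOf_map_subtype]
      exact Subgroup.card_dvd_of_le inf_le_left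
    exact Nat.Coprime.coprime_dvd_left h1 hKc
  have hNq : ∀ h : ↥(commutator G), ∃ k : ℕ, h ^ (p ^ k) ∈ N := by
    intro h
    obtain ⟨k, hk⟩ := hpow h h.2
    refine ⟨k, ?_⟩
    rw [hN, Subgroup.mem_subgroupOf, Subgroup.coe_pow]
    exact hk
  refine ⟨?_, ?_, ?_, ?_, ?_, ?_⟩
  · intro q hq hqd
    exact c1 q hq hqd
  · intro h
    apply hasNormalPComplement_of_normal_coprime (Cfsg.pPrimeCore p G) hKc
    have hall : ∀ {q : ℕ}, q.Prime → q ∣ Nat.card (G ⧸ Cfsg.pPrimeCore p G) → q = p := by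
      intro q hq hqd
      have hle := c1 q hq hqd
      rcases h with h | h
      · have hq2 : q ≠ 2 := by
          rintro rfl
          exact (Nat.not_even_iff_odd.mpr hXodd) (even_iff_two_dvd.mpr hqd)
        have := hq.two_le
        omega
      · exact le_antisymm hle (h q hq (hqd.trans (Subgroup.card_quotient_dvd_card _)))
    have hcard := Nat.eq_prime_pow_of_unique_prime_dvd (Nat.card_pos).ne' hall
    have hXp : IsPGroup p (G ⧸ Cfsg.pPrimeCore p G) := IsPGroup.of_card hcard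
    intro g
    obtain ⟨k, hk⟩ := hXp (g : G ⧸ Cfsg.pPrimeCore p G)
    exact ⟨k, by rw [← QuotientGroup.eq_one_iff, QuotientGroup.mk_pow]; exact hk⟩
  · exact hasNormalPComplement_of_normal_coprime N hNc hNq
  · intro L hL
    exact ((npc_of_normal_coprime N hNc hNq).2 L hL).trans (le_pPrimeCore hNn hNc)
  · intro g hg
    unfold Cfsg.pPrimePCore
    rw [Subgroup.mem_comap]
    exact c2 (map_mem_commutator _ hg)
  · unfold Cfsg.pPrimePCore
    rw [Subgroup.index_comap_of_surjective _ (QuotientGroup.mk'_surjective _)]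
    exact c3

end Cfsg.Agent.Lib.Helper1.RT
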