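import Mathlib
import Cfsg.Agent.Lib.Helper1.BG8e
import Cfsg.Agent.Lib.Helper1.InvPPrime
import Cfsg.Agent.Lib.Helper1.NormalElementarySq
import Cfsg.Agent.Lib.Helper1.ZJ10
import Cfsg.Agent.Lib.Helper1.CoprimeGenCentralizers
import Cfsg.Agent.Lib.Helper7.PConstrained4
import Cfsg.Agent.S1450
import Cfsg.Agent.S1452

set_option autoImplicit false
universe u
open scoped commutatorElement Pointwise

namespace Cfsg.Agent.Lib.Helper1.BG9

open Cfsg Subgroup Cfsg.Agent.Lib.Helper1 Cfsg.Agent.Lib.Helper1.BG7 Cfsg.Agent.Lib.Helper1.BG8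
  Cfsg.Agent.Lib.Helper1.ZJ Cfsg.Agent.Lib.Helper1.NPC

variable {G : Type u} [Group G]

theorem coe_mem_normalizer_map {H : Subgroup G} {Z : Subgroup ↥H} {n : ↥H}
    (hn : n ∈ Subgroup.normalizer (Z : Set ↥H)) :
    (n : G) ∈ Subgroup.normalizer ((Z.map H.subtype : Subgroup G) : Set G) := by
  have key : ∀ m : ↥H, m ∈ Subgroup.normalizer (Z : Set ↥H) → ∀ x ∈ Z.map H.subtype,
      (m : G) * x * (m : G)⁻¹ ∈ Z.map H.subtype := by
    intro m hm x hx
    obtain ⟨z, hz, rfl⟩ := hx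
    exact ⟨m * z * m⁻¹, (Subgroup.mem_normalizer_iff.mp hm z).mp hz, rfl⟩
  rw [Subgroup.mem_normalizer_iff]
  intro x
  constructor
  · exact key n hn x
  · intro hx
    have := key n⁻¹ (Subgroup.inv_mem _ hn) _ hx
    have e : ((n⁻¹ : ↥H) : G) * ((n : G) * x * (n : G)⁻¹) * ((n⁻¹ : ↥H) : G)⁻¹ = x := by
      rw [Subgroup.coe_inv]; group
    rwa [e] at this

theorem piCoreOf_ne_eq_map [Finite G] (p : ℕ) [hp : Fact p.Prime] (H : Subgroup G) :
    piCoreOf (ne p) H = (pPrimeCore p ↥H).map H.subtype := by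
  unfold piCoreOf
  rw [piCore_ne]

/-- `O_{p',p}(H)` as a subgroup of `G`. -/
def OppOf (p : ℕ) (H : Subgroup G) : Subgroup G := (pPrimePCore p ↥H).map H.subtype

/-- Frattini factorization `H = O_{p'}(H) N_H(S ∩ O_{p',p}(H))`, in the form of a containment -/
theorem le_of_core_le_of_normalizer_le [Finite G] {p : ℕ} [hp : Fact p.Prime] {H S M : Subgroup G}
    (hS : IsMaxP p S H) (hK : piCoreOf (ne p) H ≤ M)
    (hN : Subgroup.normalizer ((S ⊓ OppOf p H : Subgroup G) : Set G) ≤ M) : H ≤ M := by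
  obtain ⟨R, hR⟩ := hS.exists_sylow
  have hfr := Helper7.normalizer_sylow_inf_sup_pPrimeCore R
  have hT : S ⊓ OppOf p H = ((R : Subgroup ↥H) ⊓ pPrimePCore p ↥H).map H.subtype := by
    rw [Subgroup.map_inf _ _ _ H.subtype_injective, hR]; rfl
  intro h hh
  have h1 : (⟨h, hh⟩ : ↥H) ∈ (⊤ : Subgroup ↥H) := Subgroup.mem_top _
  rw [← hfr, Subgroup.mem_sup_of_normal_right] at h1
  obtain ⟨n, hn, k, hk, hnk⟩ := h1
  have e : h = (n : G) * (k : G) := by rw [← Subgroup.coe_mul, hnk]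
  rw [e]
  refine M.mul_mem (hN ?_) (hK ?_)
  · rw [hT]; exact coe_mem_normalizer_map hn
  · rw [piCoreOf_ne_eq_map]; exact Subgroup.mem_map_of_mem _ hk

/-- Glauberman factorization `H = O_{p'}(H) N_H(Z(J(S)))`, in the form of a containment -/
theorem le_of_core_le_of_normalizer_ZJ_le [Finite G] {p : ℕ} [hp : Fact p.Prime]
    {H S M : Subgroup G} [hHs : Group.IsSolvable H] (hodd : Odd (Nat.card H))
    (hS : IsMaxP p S H) (hK : piCoreOf (ne p) H ≤ M)
    (hN : Subgroup.normalizer (centerThompsonOf p S : Set G) ≤ M) : H ≤ M := by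
  obtain ⟨R, hR⟩ := hS.exists_sylow
  have hn := centerThompsonOf_sup_pPrimeCore_normal (G := ↥H) hodd p R
  have hZp : IsPGroup p (centerThompsonOf p (R : Subgroup ↥H)) :=
    R.isPGroup'.to_le (centerThompsonOf_le p _)
  have htop := sup_normalizer_eq_top_of_sup_normal (pPrimeCore p ↥H)
    (pPrimeCore_card_coprime p) (centerThompsonOf p (R : Subgroup ↥H)) hZp hn
  have hZ : centerThompsonOf p S = (centerThompsonOf p (R : Subgroup H)).map H.subtype := by
    rw [← hR]
    exact centerThompsonOf_map_of_injOn p H.subtype (R : Subgroup H) H.subtype_injective.injOn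
  intro h hh
  have h1 : (⟨h, hh⟩ : ↥H) ∈ (⊤ : Subgroup ↥H) := Subgroup.mem_top _
  rw [← htop, sup_comm, Subgroup.mem_sup_of_normal_right] at h1
  obtain ⟨n, hn', k, hk, hnk⟩ := h1
  have e : h = (n : G) * (k : G) := by rw [← Subgroup.coe_mul, hnk]
  rw [e]
  refine M.mul_mem (hN ?_) (hK ?_)
  · rw [hZ]; exact coe_mem_normalizer_map hn'
  · rw [piCoreOf_ne_eq_map]; exact Subgroup.mem_map_of_mem _ hk

theorem isPGroup_zpowers_of_pow_eq_one {p : ℕ} [hp : Fact p.Prime] {x : G} (hx : x ^ p = 1) :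
    IsPGroup p (Subgroup.zpowers x) := by
  intro y
  refine ⟨1, ?_⟩
  obtain ⟨y, hy⟩ := y
  obtain ⟨k, rfl⟩ := Subgroup.mem_zpowers_iff.mp hy
  apply Subtype.ext
  rw [pow_one, Subgroup.coe_pow, Subgroup.coe_one]
  show (x ^ k) ^ p = 1
  rw [← zpow_natCast, ← zpow_mul, mul_comm, zpow_mul, zpow_natCast, hx, one_zpow]

/-- a `p'`-subgroup of a solvable group of odd order normalized by a Sylow `p`-subgroup lies in
`O_{p'}` -/
theorem le_core_of_sylow_invariant [Finite G] {p : ℕ} [hp : Fact p.Prime] (hp2 : p ≠ 2)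
    {M S Y : Subgroup G} [hMs : Group.IsSolvable M] (hS : IsMaxP p S M) (hYM : Y ≤ M)
    (hY : (Nat.card Y).Coprime p) (hSY : S ≤ Subgroup.normalizer (Y : Set G)) :
    Y ≤ piCoreOf (ne p) M := by
  have hA : IsPGroup p (S.subgroupOf M) := hS.2.1.comap_subtype
  have hAΩ : ∀ x ∈ Subgroup.centralizer ((S.subgroupOf M : Subgroup ↥M) : Set ↥M), x ^ p = 1 →
      x ∈ S.subgroupOf M := by
    intro x hx hxp
    have hxp' : (x : G) ^ p = 1 := by
      have := congrArg Subtype.val hxp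
      simpa using this
    have hxS : Subgroup.zpowers (x : G) ≤ Subgroup.normalizer (S : Set G) := by
      rw [Subgroup.zpowers_le]
      apply Subgroup.centralizer_le_normalizer
      rw [Subgroup.mem_centralizer_iff]
      intro t ht
      have h1 := Subgroup.mem_centralizer_iff.mp hx ⟨t, hS.1 ht⟩
        (Subgroup.mem_subgroupOf.mpr ht)
      exact congrArg Subtype.val h1
    have hT : IsPGroup p (Subgroup.zpowers (x : G) ⊔ S : Subgroup G) :=
      IsPGroup.to_sup_of_normal_right' (isPGroup_zpowers_of_pow_eq_one hxp') hS.2.1 hxS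
    have hTM : Subgroup.zpowers (x : G) ⊔ S ≤ M :=
      sup_le (by rw [Subgroup.zpowers_le]; exact x.2) hS.1
    have h1 := hS.2.2 _ hT le_sup_right hTM
    rw [Subgroup.mem_subgroupOf, ← h1]
    exact (le_sup_left : Subgroup.zpowers (x : G) ≤ _) (Subgroup.mem_zpowers _)
  have hY' : (Nat.card (Y.subgroupOf M)).Coprime p := by
    rw [card_subgroupOf_of_le hYM]; exact hY
  have hAY' : S.subgroupOf M ≤ Subgroup.normalizer ((Y.subgroupOf M : Subgroup ↥M) : Set ↥M) := by
    intro a ha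
    have haN := hSY (Subgroup.mem_subgroupOf.mp ha)
    rw [Subgroup.mem_normalizer_iff]
    intro y
    rw [Subgroup.mem_subgroupOf, Subgroup.mem_subgroupOf]
    exact Subgroup.mem_normalizer_iff.mp haN y
  have h1 := invariant_p'_le_pPrimeCore hp2 (S.subgroupOf M) (Y.subgroupOf M) hA hAΩ hY' hAY'
  rw [piCoreOf_ne_eq_map]
  intro y hy
  exact ⟨⟨y, hYM hy⟩, h1 (Subgroup.mem_subgroupOf.mpr hy), rfl⟩

theorem isPGroup_fittingOf_of_core_eq_bot [Finite G] {p : ℕ} [hp : Fact p.Prime] (M : Subgroup G)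
    (hO : piCoreOf (ne p) M = ⊥) : IsPGroup p (fittingOf M) := by
  refine IsPGroup.of_card (Nat.eq_prime_pow_of_unique_prime_dvd (p := p) Nat.card_pos.ne' ?_)
  intro d hd hdd
  by_contra hne
  have : Fact d.Prime := ⟨hd⟩
  have h1 := Oq_ne_bot_of_dvd (M := M) hdd
  have h2 := piCoreOf_singleton_le_ne hne M
  rw [hO] at h2
  exact h1 (le_bot_iff.mp h2)

theorem fittingOf_le_of_isMaxP [Finite G] {p : ℕ} [hp : Fact p.Prime] {M S : Subgroup G}
    (hF : IsPGroup p (fittingOf M)) (hS : IsMaxP p S M) : fittingOf M ≤ S := by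
  have hT : IsPGroup p (S ⊔ fittingOf M : Subgroup G) :=
    IsPGroup.to_sup_of_normal_right' hS.2.1 hF (hS.1.trans (le_normalizer_fittingOf M))
  have h1 := hS.2.2 _ hT le_sup_left (sup_le hS.1 (fittingOf_le M))
  rw [← h1]
  exact le_sup_right

/-! ### rank -/

theorem pRankLE_of_injective {p k : ℕ} {X Y : Type*} [Group X] [Group Y] (f : X →* Y)
    (hf : Function.Injective f) (h : PRankLE p k Y) : PRankLE p k X := by
  intro E hEc hEe
  have h1 := h (E.map f) ?_ ?_
  · rwa [Subgroup.card_map_of_injective hf] at h1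
  · refine ⟨⟨fun a b => ?_⟩⟩
    obtain ⟨a, x, hx, rfl⟩ := a
    obtain ⟨b, y, hy, rfl⟩ := b
    apply Subtype.ext
    have := hEc.is_comm.comm ⟨x, hx⟩ ⟨y, hy⟩
    have h2 : x * y = y * x := congrArg Subtype.val this
    show f x * f y = f y * f x
    rw [← map_mul, ← map_mul, h2]
  · rintro a ⟨x, hx, rfl⟩
    rw [← map_pow, hEe x hx, map_one]

theorem pRankLE_of_isCyclic {p k : ℕ} (hp : p.Prime) (hk : 1 ≤ k) {X : Type*} [Group X] [Finite X]
    [hX : IsCyclic X] : PRankLE p k X := by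
  intro E _ hEe
  have hEcyc : IsCyclic E := inferInstance
  obtain ⟨g, hg⟩ := hEcyc.exists_generator
  have h1 : orderOf g = Nat.card E := orderOf_eq_card_of_forall_mem_zpowers hg
  have h2 : g ^ p = 1 := by
    apply Subtype.ext
    rw [Subgroup.coe_pow, Subgroup.coe_one]
    exact hEe _ g.2
  have h3 : orderOf g ∣ p := orderOf_dvd_of_pow_eq_one h2
  rw [← h1]
  calc orderOf g ≤ p := Nat.le_of_dvd hp.pos h3
    _ = p ^ 1 := (pow_one p).symm
    _ ≤ p ^ k := Nat.pow_le_pow_right hp.pos hk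

theorem pRankLE_of_sylow {p k : ℕ} [hp : Fact p.Prime] {X : Type*} [Group X] [Finite X]
    (R : Sylow p X) (h : PRankLE p k ↥(R : Subgroup X)) : PRankLE p k X := by
  intro E hEc hEe
  have hEp : IsPGroup p E := by
    intro a
    refine ⟨1, ?_⟩
    apply Subtype.ext
    rw [pow_one, Subgroup.coe_pow, Subgroup.coe_one]
    exact hEe _ a.2
  obtain ⟨Q, hQ⟩ := hEp.exists_le_sylow
  obtain ⟨g, hg⟩ := MulAction.exists_smul_eq X Q R
  have hle : E.map (MulAut.conj g).toMonoidHom ≤ (R : Subgroup X) := by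
    rw [← hg]
    rintro x ⟨y, hy, rfl⟩
    rw [Sylow.smul_def, Sylow.pointwise_smul_def]
    exact Subgroup.smul_mem_pointwise_smul y (MulAut.conj g) _ (hQ hy)
  have h1 := h ((E.map (MulAut.conj g).toMonoidHom).subgroupOf (R : Subgroup X)) ?_ ?_
  · rw [card_subgroupOf_of_le hle, Subgroup.card_map_of_injective (MulAut.conj g).injective] at h1
    exact h1
  · refine ⟨⟨fun a b => ?_⟩⟩
    obtain ⟨x, hx, hxa⟩ := Subgroup.mem_subgroupOf.mp a.2
    obtain ⟨y, hy, hyb⟩ := Subgroup.mem_subgroupOf.mp b.2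
    have := hEc.is_comm.comm ⟨x, hx⟩ ⟨y, hy⟩
    have h2 : x * y = y * x := congrArg Subtype.val this
    apply Subtype.ext
    apply Subtype.ext
    show ((a : ↥(R : Subgroup X)) : X) * ((b : ↥(R : Subgroup X)) : X) = (b : X) * (a : X)
    rw [← hxa, ← hyb, ← map_mul, ← map_mul, h2]
  · intro a ha
    obtain ⟨x, hx, hxa⟩ := Subgroup.mem_subgroupOf.mp ha
    apply Subtype.ext
    rw [Subgroup.coe_pow, Subgroup.coe_one, ← hxa, ← map_pow, hEe x hx, map_one]

/-- existence of `SCN_3` -/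
theorem exists_SCN3 [Finite G] {p : ℕ} [hp : Fact p.Prime] (hp2 : p ≠ 2) {S : Subgroup G}
    (hS : IsPGroup p S) (hr : ¬ PRankLE p 2 ↥S) :
    ∃ A : Subgroup G, IsSCN S A ∧ ¬ PRankLE p 2 ↥A := by
  have hnc : ¬ IsCyclic ↥(⊤ : Subgroup ↥S) := by
    intro hc
    apply hr
    have : IsCyclic ↥S :=
      isCyclic_of_surjective (Subgroup.topEquiv (G := ↥S)).toMonoidHom
        (Subgroup.topEquiv (G := ↥S)).surjective
    exact pRankLE_of_isCyclic hp.out (by norm_num)
  obtain ⟨E, -, hEn, hEe, hE2⟩ := exists_normal_elementary_sq_in_normal hp2 hS ⊤ hnc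
  obtain ⟨A₁, -, hA₁n, hA₁c, hA₁r⟩ := Cfsg.Agent.S1452.result p hp2 hS hr E hEe hE2
  refine ⟨A₁.map S.subtype, ⟨Subgroup.map_subtype_le _, ?_, ?_⟩, ?_⟩
  · intro g hg
    have h1 : (⟨g, hg⟩ : ↥S) ∈ Subgroup.normalizer (A₁ : Set ↥S) := by
      rw [Subgroup.normalizer_eq_top_iff.mpr hA₁n]; exact Subgroup.mem_top _
    exact coe_mem_normalizer_map h1
  · ext x
    rw [Subgroup.mem_inf]
    constructor
    · rintro ⟨hxS, hxC⟩
      have h1 : (⟨x, hxS⟩ : ↥S) ∈ Subgroup.centralizer (A₁ : Set ↥S) := by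
        rw [Subgroup.mem_centralizer_iff]
        intro a ha
        apply Subtype.ext
        exact Subgroup.mem_centralizer_iff.mp hxC (a : G) (Subgroup.mem_map_of_mem _ ha)
      rw [hA₁c] at h1
      exact ⟨⟨x, hxS⟩, h1, rfl⟩
    · rintro ⟨a, ha, rfl⟩
      refine ⟨a.2, ?_⟩
      rw [Subgroup.mem_centralizer_iff]
      rintro y ⟨b, hb, rfl⟩
      have ha' : a ∈ Subgroup.centralizer (A₁ : Set ↥S) := by rw [hA₁c]; exact ha
      have := Subgroup.mem_centralizer_iff.mp ha' b hb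
      exact congrArg Subtype.val this
  · intro h
    apply hA₁r
    exact pRankLE_of_injective (A₁.equivMapOfInjective S.subtype S.subtype_injective).toMonoidHom
      (A₁.equivMapOfInjective S.subtype S.subtype_injective).injective h

/-- a normal subgroup of index prime to `p` contains every `p`-subgroup -/
theorem le_of_normal_of_index_coprime {X : Type*} [Group X] [Finite X] {p : ℕ} [hp : Fact p.Prime]
    (W : Subgroup X) [hW : W.Normal] (hidx : (W.index).Coprime p) {S : Subgroup X}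
    (hS : IsPGroup p S) : S ≤ W := by
  intro x hx
  obtain ⟨k, hk⟩ := hS ⟨x, hx⟩
  have hk' : x ^ p ^ k = 1 := by
    have := congrArg Subtype.val hk
    simpa using this
  have h1 : (QuotientGroup.mk x : X ⧸ W) ^ p ^ k = 1 := by
    rw [← QuotientGroup.mk_pow, hk', QuotientGroup.mk_one]
  have h2 : (QuotientGroup.mk x : X ⧸ W) ^ W.index = 1 := by
    rw [Subgroup.index_eq_card]; exact pow_card_eq_one'
  have h3 : orderOf (QuotientGroup.mk x : X ⧸ W) ∣ Nat.gcd (p ^ k) W.index :=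
    Nat.dvd_gcd (orderOf_dvd_of_pow_eq_one h1) (orderOf_dvd_of_pow_eq_one h2)
  have h4 : Nat.gcd (p ^ k) W.index = 1 := Nat.Coprime.pow_left _ hidx.symm
  rw [h4, Nat.dvd_one, orderOf_eq_one_iff] at h3
  exact (QuotientGroup.eq_one_iff x).mp h3

/-- an abelian normal subgroup of a Sylow `p`-subgroup of a solvable group of odd order lies in
`O_{p',p}` -/
theorem le_OppOf_of_abelian_normal [Finite G] {p : ℕ} [hp : Fact p.Prime] {H S A : Subgroup G}
    [hHs : Group.IsSolvable H] (hodd : Odd (Nat.card H)) (hS : IsMaxP p S H) (hAS : A ≤ S)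
    (hAC : A ≤ Subgroup.centralizer (A : Set G)) (hSA : S ≤ Subgroup.normalizer (A : Set G)) :
    A ≤ OppOf p H := by
  obtain ⟨R, hR⟩ := hS.exists_sylow
  have hAH : A ≤ H := hAS.trans hS.1
  have hA'P : A.subgroupOf H ≤ (R : Subgroup H) := by
    intro x hx
    have h1 : (x : G) ∈ S := hAS (Subgroup.mem_subgroupOf.mp hx)
    rw [← hR] at h1
    obtain ⟨y, hy, hyx⟩ := h1
    have : y = x := Subtype.ext hyx
    rwa [← this]
  have hA'c : IsMulCommutative (A.subgroupOf H) := by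
    refine ⟨⟨fun a b => ?_⟩⟩
    have h1 := Subgroup.mem_centralizer_iff.mp (hAC (Subgroup.mem_subgroupOf.mp a.2)) _
      (Subgroup.mem_subgroupOf.mp b.2)
    apply Subtype.ext
    apply Subtype.ext
    exact h1.symm
  have hA'n : (R : Subgroup H) ≤ Subgroup.normalizer ((A.subgroupOf H : Subgroup H) : Set H) := by
    intro g hg
    have hgN : (g : G) ∈ Subgroup.normalizer (A : Set G) := by
      apply hSA
      rw [← hR]
      exact Subgroup.mem_map_of_mem _ hg
    rw [Subgroup.mem_normalizer_iff]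
    intro x
    rw [Subgroup.mem_subgroupOf, Subgroup.mem_subgroupOf]
    exact Subgroup.mem_normalizer_iff.mp hgN x
  have h1 := Cfsg.Agent.S1457.result (G := ↥H) hodd p R (A.subgroupOf H) hA'P hA'c hA'n
  intro a ha
  exact ⟨⟨a, hAH ha⟩, h1 (Subgroup.mem_subgroupOf.mpr ha), rfl⟩

/-- for `p`-rank at most 2, a Sylow `p`-subgroup lies in `O_{p',p}` -/
theorem le_OppOf_of_pRankLE [Finite G] {p : ℕ} [hp : Fact p.Prime] {H S : Subgroup G}
    [hHs : Group.IsSolvable H] (hodd : Odd (Nat.card H)) (hS : IsMaxP p S H) (hSbot : S ≠ ⊥)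
    (hr : PRankLE p 2 ↥S) : S ≤ OppOf p H := by
  obtain ⟨R, hR⟩ := hS.exists_sylow
  have hpH : p ∣ Nat.card H :=
    (dvd_card_of_isPGroup_ne_bot hS.2.1 hSbot).trans (Subgroup.card_dvd_of_le hS.1)
  have hrR : PRankLE p 2 ↥(R : Subgroup ↥H) := by
    have e : (R : Subgroup ↥H) ≃* ↥S :=
      ((R : Subgroup ↥H).equivMapOfInjective H.subtype H.subtype_injective).trans
        (MulEquiv.subgroupCongr hR)
    exact pRankLE_of_injective e.toMonoidHom e.injective hr
  have hrH : PRankLE p 2 ↥H := pRankLE_of_sylow R hrR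
  have h := (Cfsg.Agent.S1450.result (G := ↥H) hodd p hpH hrH).2.2.2.2.2
  have h1 : (R : Subgroup ↥H) ≤ pPrimePCore p ↥H := by
    have : (pPrimePCore p ↥H).Normal := by
      unfold pPrimePCore; infer_instance
    exact le_of_normal_of_index_coprime _ h R.isPGroup'
  rw [← hR]
  exact Subgroup.map_mono h1

end Cfsg.Agent.Lib.Helper1.BG9
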