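import Mathlib
import Cfsg.Agent.Lib.Helper1.BG9a

set_option autoImplicit false
universe u
open scoped commutatorElement Pointwise

namespace Cfsg.Agent.Lib.Helper1.BG9

open Cfsg Subgroup Cfsg.Agent.Lib.Helper1 Cfsg.Agent.Lib.Helper1.BG7 Cfsg.Agent.Lib.Helper1.BG8
  Cfsg.Agent.Lib.Helper1.ZJ Cfsg.Agent.Lib.Helper1.NPC

variable {G : Type u} [Group G] [Finite G]

theorem mem_normalizer_of_cj_le {K : Subgroup G} {g : G} (h : cj g K ≤ K) :
    g ∈ Subgroup.normalizer (K : Set G) := by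
  apply mem_normalizer_of_cj_eq
  apply Subgroup.eq_of_le_of_card_ge h
  rw [card_cj]

theorem coprime_card_of_isPGroup_ne {p q : ℕ} [hp : Fact p.Prime] (hq : q.Prime) (hqp : q ≠ p)
    {Q : Subgroup G} (hQ : IsPGroup q Q) : (Nat.card Q).Coprime p := by
  have : Fact q.Prime := ⟨hq⟩
  obtain ⟨k, hk⟩ := IsPGroup.iff_card.mp hQ
  rw [hk]
  apply Nat.Coprime.pow_left
  exact (Nat.coprime_primes hq hp.out).mpr hqp

theorem coprime_card_isPGroup_of_coprime {p : ℕ} [hp : Fact p.Prime] {A Y : Subgroup G}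
    (hA : IsPGroup p A) (hY : (Nat.card Y).Coprime p) : (Nat.card A).Coprime (Nat.card Y) := by
  obtain ⟨k, hk⟩ := IsPGroup.iff_card.mp hA
  rw [hk]
  exact Nat.Coprime.pow_left _ hY.symm

omit [Finite G] in
theorem cj_le_of_mem {M Q : Subgroup G} {k : G} (hk : k ∈ M) (hQ : Q ≤ M) : cj k Q ≤ M := by
  intro x hx
  rw [mem_cj] at hx
  have h1 := hQ hx
  have e : x = k * (k⁻¹ * x * k) * k⁻¹ := by group
  rw [e]
  exact M.mul_mem (M.mul_mem hk h1) (M.inv_mem hk)

/-- in the rank-3 case, all `A'`-invariant `p'`-subgroups lie in `M` -/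
theorem inv_le_of_SCN3 (hG : IsMinSimpleOddOrder G) {M B S A' : Subgroup G} {p : ℕ}
    [hp : Fact p.Prime]
    (hb : ∀ Y : Subgroup G, (Nat.card Y).Coprime p → B ≤ Subgroup.normalizer (Y : Set G) → Y ≤ M)
    (hBS : B ≤ S) (hStop : IsMaxP p S ⊤) (hSCN : IsSCN S A') (hrank : ¬ PRankLE p 2 ↥A') :
    TransitivityHypothesis A' ∧
    ∀ Y : Subgroup G, (Nat.card Y).Coprime p → A' ≤ Subgroup.normalizer (Y : Set G) → Y ≤ M := by
  obtain ⟨hA'S, hSA', hCA'⟩ := hSCN
  have hSp : IsPGroup p S := hStop.2.1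
  have hA'p : IsPGroup p A' := hSp.to_le hA'S
  have hA'bot : A' ≠ ⊥ := ne_bot_of_not_pRankLE hp.out.pos hrank
  have hpA' : p ∣ Nat.card A' := dvd_card_of_isPGroup_ne_bot hA'p hA'bot
  have hpG : p ∣ Nat.card G := hpA'.trans (Subgroup.card_subgroup_dvd_card A')
  have hA'C : A' ≤ Subgroup.centralizer (A' : Set G) := by
    rw [← hCA']; exact inf_le_right.trans (Subgroup.centralizer_le (by rw [hCA']))
  obtain ⟨Psyl, hPsyl⟩ := hStop.exists_sylow_top
  have hT : TransitivityHypothesis A' := by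
    apply t76 hG p hpG A' hA'p
    refine Or.inr ⟨Psyl, ?_, not_pRankLE_mono hp.out.pos (by norm_num) hrank⟩
    rw [hPsyl]
    exact ⟨hA'S, hSA', hCA'⟩
  refine ⟨hT, ?_⟩
  have hZ : ¬ RankLE 2 ↥(A' ⊓ Subgroup.centralizer (A' : Set G)) := by
    rw [inf_eq_left.mpr hA'C]
    intro h
    exact hrank (h p hp.out)
  have hStop' : S ≠ ⊤ := pgroup_ne_top hG hSp
  have hSnil : Group.IsNilpotent S := hSp.isNilpotent
  have hsn : (A'.subgroupOf S).IsSubnormal := (isNilpotent_iff_forall_isSubnormal.mp hSnil) _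
  have hPπ : ∀ r : ℕ, r.Prime → r ∣ Nat.card S → r ∣ Nat.card A' := by
    intro r hr h
    rw [prime_eq_of_dvd_card_isPGroup hSp hr h]
    exact hpA'
  -- `KK A' ≤ M`
  have hKK : KK A' ≤ M := by
    apply hb
    · apply Nat.Coprime.symm
      rw [Nat.Prime.coprime_iff_not_dvd hp.out]
      intro h
      exact (piCoreOf_pi _ _ p hp.out h).2 hpA'
    · exact ((hBS.trans hSA').trans (normalizer_le_normalizer_centralizer_self A')).trans
        (normalizer_le_normalizer_piCoreOf _ _)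
  have hqM : ∀ q : ℕ, q.Prime → q ≠ p → ∀ Q ∈ invSubgroups ⊤ A' {q}, Q ≤ M := by
    intro q hq hqp Q hQ
    have : Fact q.Prime := ⟨hq⟩
    have hqA' : ¬ q ∣ Nat.card A' := fun h => hqp (prime_eq_of_dvd_card_isPGroup hA'p hq h)
    have h75 := (t75_core hG hStop' (Nat.card S - Nat.card A') A' hT hqA' hPπ hA'S hsn
      (fun Q₁ h₁ Q₂ h₂ => t73 hG hT hZ hq hqA' h₁ h₂) rfl).1
    obtain ⟨Q₀, hQ₀, -⟩ := exists_max_above (bot_mem_invSubgroups S {q})
    have hQ₀M : Q₀ ≤ M :=
      hb Q₀ (coprime_card_of_isPGroup_ne hq hqp (isPGroup_of_mem_invSubgroups hq hQ₀.1))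
        (hBS.trans hQ₀.1.2.2)
    obtain ⟨Q₁, hQ₁, hQQ₁⟩ := exists_max_above hQ
    obtain ⟨k, hk, hkQ⟩ := t73 hG hT hZ hq hqA' (h75 Q₀ hQ₀) hQ₁
    rw [hkQ] at hQQ₁
    exact hQQ₁.trans (cj_le_of_mem (hKK hk) hQ₀M)
  intro Y hY hA'Y
  have hYtop : Y ≠ ⊤ := by
    intro h
    rw [h, Subgroup.card_top] at hY
    have h4 : p ∣ Nat.gcd (Nat.card G) p := Nat.dvd_gcd hpG dvd_rfl
    rw [hY] at h4
    exact hp.out.one_lt.ne' (Nat.dvd_one.mp h4)
  have hYs : Group.IsSolvable Y := isSolvable_of_ne_top hG hYtop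
  have hcop := coprime_card_isPGroup_of_coprime hA'p hY
  have h1 : M.subgroupOf Y = ⊤ := by
    apply eq_top_of_forall_sylow_le
    intro q hq
    obtain ⟨P, hP⟩ := coprime_exists_invariant_sylow A' Y hA'Y hcop (Or.inr hYs) q
    refine ⟨P, ?_⟩
    have hPq : IsPGroup q ((P : Subgroup Y).map Y.subtype) := P.isPGroup'.map _
    have hPM : (P : Subgroup Y).map Y.subtype ≤ M := by
      by_cases hqp : q = p
      · have h2 : (Nat.card ((P : Subgroup Y).map Y.subtype)).Coprime p :=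
          Nat.Coprime.coprime_dvd_left (Subgroup.card_dvd_of_le (Subgroup.map_subtype_le _)) hY
        obtain ⟨k, hk⟩ := IsPGroup.iff_card.mp hPq
        have h3 : (P : Subgroup Y).map Y.subtype = ⊥ := by
          apply Subgroup.card_eq_one.mp
          rw [hk, hqp] at h2
          rw [hk, hqp]
          rcases Nat.eq_zero_or_pos k with h0 | hpos
          · rw [h0, pow_zero]
          · exfalso
            have h5 : p ∣ Nat.gcd (p ^ k) p := Nat.dvd_gcd (dvd_pow_self p hpos.ne') dvd_rfl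
            rw [h2] at h5
            exact hp.out.one_lt.ne' (Nat.dvd_one.mp h5)
        rw [h3]; exact bot_le
      · exact hqM q hq.out hqp _ (mem_invSubgroups_top_of_isPGroup hq.out hPq hP)
    intro x hx
    rw [Subgroup.mem_subgroupOf]
    exact hPM (Subgroup.mem_map_of_mem _ hx)
  intro y hy
  have : (⟨y, hy⟩ : ↥Y) ∈ M.subgroupOf Y := by rw [h1]; exact Subgroup.mem_top _
  exact Subgroup.mem_subgroupOf.mp this

/-- BG Theorem 9.1(b), for an arbitrary nontrivial `p`-subgroup `B`. -/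
theorem uniqueness_of_inv_le (hG : IsMinSimpleOddOrder G) {M B : Subgroup G} (hM : IsCoatom M)
    {p : ℕ} [hp : Fact p.Prime] (hBM : B ≤ M) (hBp : IsPGroup p B) (hBbot : B ≠ ⊥)
    (hb : ∀ Y : Subgroup G, (Nat.card Y).Coprime p → B ≤ Subgroup.normalizer (Y : Set G) → Y ≤ M) :
    ∀ L : Subgroup G, IsCoatom L → B ≤ L → L = M := by
  intro L₀ hL₀ hBL₀
  by_contra hL₀M
  have hMs : Group.IsSolvable M := isSolvable_of_ne_top hG hM.1
  have hpB : p ∣ Nat.card B := dvd_card_of_isPGroup_ne_bot hBp hBbot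
  have hpG : p ∣ Nat.card G := hpB.trans (Subgroup.card_subgroup_dvd_card B)
  have hp2 : p ≠ 2 := by
    rintro rfl
    have := hG.1
    rw [Nat.odd_iff] at this
    omega
  obtain ⟨H, ⟨hH, hBH, hHM⟩, hmax'⟩ := Set.exists_max_image
    {L : Subgroup G | IsCoatom L ∧ B ≤ L ∧ L ≠ M}
    (fun L => (Nat.card ↥(L ⊓ M)).factorization p) (Set.toFinite _) ⟨L₀, hL₀, hBL₀, hL₀M⟩
  have hmax : ∀ L : Subgroup G, IsCoatom L → B ≤ L → L ≠ M →
      (Nat.card ↥(L ⊓ M)).factorization p ≤ (Nat.card ↥(H ⊓ M)).factorization p :=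
    fun L h1 h2 h3 => hmax' L ⟨h1, h2, h3⟩
  have hHs : Group.IsSolvable H := isSolvable_of_ne_top hG hH.1
  obtain ⟨R, hR⟩ := (hBp.comap_subtype (K := H ⊓ M)).exists_le_sylow
  obtain ⟨S, hS⟩ : ∃ S : Subgroup G, S = (R : Subgroup ↥(H ⊓ M)).map (H ⊓ M).subtype := ⟨_, rfl⟩
  have hSHM : IsMaxP p S (H ⊓ M) := hS ▸ isMaxP_of_sylow R
  have hBS : B ≤ S := by
    intro a ha
    rw [hS]
    exact ⟨⟨a, Subgroup.mem_inf.mpr ⟨hBH ha, hBM ha⟩⟩, hR (Subgroup.mem_subgroupOf.mpr ha), rfl⟩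
  have hSbot : S ≠ ⊥ := fun h => hBbot (le_bot_iff.mp (h ▸ hBS))
  have hSp : IsPGroup p S := hSHM.2.1
  have hSH : S ≤ H := hSHM.1.trans inf_le_left
  have hSM : S ≤ M := hSHM.1.trans inf_le_right
  have hStop : S ≠ ⊤ := pgroup_ne_top hG hSp
  have hKH : piCoreOf (ne p) H ≤ M :=
    hb _ (piCoreOf_ne_coprime p H) (hBH.trans (le_normalizer_piCoreOf _ H))
  have hHleM : ¬ H ≤ M := fun h => hHM (eq_of_coatom_le hH h hM.1).symm
  -- Step A
  have hSmaxM : IsMaxP p S M := by
    by_contra hSmaxM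
    obtain ⟨T, hTp, hST, hTM, hTS⟩ : ∃ T : Subgroup G, IsPGroup p T ∧ S ≤ T ∧ T ≤ M ∧ T ≠ S := by
      by_contra hcon
      push Not at hcon
      exact hSmaxM ⟨hSM, hSp, hcon⟩
    obtain ⟨T₁, hT₁p, hST₁, hT₁T, hT₁N⟩ :=
      exists_lt_normalizer_of_lt hTp (lt_of_le_of_ne hST (Ne.symm hTS))
    have hPU : ∀ Y : Subgroup G, Y ≠ ⊤ → B ≤ Y → T₁ ≤ Y → Y ≤ M := fun Y hY hBY hT₁Y =>
      pushing_up hmax R hY hBY hT₁p hT₁Y (hT₁T.trans hTM) (hS ▸ hST₁)
    have hNS : Subgroup.normalizer (S : Set G) ≤ M :=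
      hPU _ (normalizer_ne_top hG hSbot hStop) (hBS.trans Subgroup.le_normalizer) hT₁N
    have hSmaxH : IsMaxP p S H := by
      by_contra hSmaxH
      obtain ⟨T', hT'p, hST', hT'H, hT'S⟩ :
          ∃ T : Subgroup G, IsPGroup p T ∧ S ≤ T ∧ T ≤ H ∧ T ≠ S := by
        by_contra hcon
        push Not at hcon
        exact hSmaxH ⟨hSH, hSp, hcon⟩
      obtain ⟨T₁', hT₁'p, hST₁', hT₁'T, hT₁'N⟩ :=
        exists_lt_normalizer_of_lt hT'p (lt_of_le_of_ne hST' (Ne.symm hT'S))
      exact (ne_of_lt hST₁') (hSHM.2.2 T₁' hT₁'p hST₁'.le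
        (le_inf (hT₁'T.trans hT'H) (hT₁'N.trans hNS))).symm
    have hZbot : centerThompsonOf p S ≠ ⊥ := centerThompsonOf_ne_bot hSp hSbot
    have hZtop : centerThompsonOf p S ≠ ⊤ :=
      pgroup_ne_top hG (hSp.to_le (centerThompsonOf_le p S))
    have hNZ : Subgroup.normalizer (centerThompsonOf p S : Set G) ≤ M :=
      hPU _ (normalizer_ne_top hG hZbot hZtop)
        ((hBS.trans Subgroup.le_normalizer).trans (normalizer_le_normalizer_centerThompsonOf p S))
        (hT₁N.trans (normalizer_le_normalizer_centerThompsonOf p S))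
    exact hHleM (le_of_core_le_of_normalizer_ZJ_le (odd_card_subgroup hG H) hSmaxH hKH hNZ)
  -- Step B
  by_cases hO : piCoreOf (ne p) M = ⊥
  · have hF := isPGroup_fittingOf_of_core_eq_bot M hO
    have hNZM := normalizer_centerThompsonOf_eq hG hM hO hSmaxM hSbot
    have hNS : Subgroup.normalizer (S : Set G) ≤ M :=
      (normalizer_le_normalizer_centerThompsonOf p S).trans hNZM.le
    have hStop' := hSmaxM.top_of_normalizer_le hNS
    have hSmaxH : IsMaxP p S H := hStop'.mono hSH le_top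
    have hFS : fittingOf M ≤ S := fittingOf_le_of_isMaxP hF hSmaxM
    have hOH : piCoreOf (ne p) H = ⊥ := by
      have hcop : (Nat.card (piCoreOf (ne p) H)).Coprime (Nat.card (fittingOf M)) := by
        obtain ⟨k, hk⟩ := IsPGroup.iff_card.mp hF
        rw [hk]
        exact Nat.Coprime.pow_right _ (piCoreOf_ne_coprime p H)
      have hd : piCoreOf (ne p) H ⊓ fittingOf M = ⊥ :=
        (Subgroup.disjoint_of_coprime_natCard hcop).eq_bot
      have hC : piCoreOf (ne p) H ≤ Subgroup.centralizer (fittingOf M : Set G) :=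
        commute_of_normalize (hKH.trans (le_normalizer_fittingOf M))
          ((hFS.trans hSH).trans (le_normalizer_piCoreOf _ H)) hd
      exact eq_bot_of_le_of_coprime ((le_inf hKH hC).trans (centralizer_fittingOf_le M)) hcop
    have hNZH := normalizer_centerThompsonOf_eq hG hH hOH hSmaxH hSbot
    exact hHM (hNZH.symm.trans hNZM)
  · have hNK : Subgroup.normalizer (piCoreOf (ne p) M : Set G) = M :=
      normalizer_eq_of_coatom hG hM (piCoreOf_le _ M) hO (le_normalizer_piCoreOf _ M)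
    have hNS : Subgroup.normalizer (S : Set G) ≤ M := by
      intro g hg
      rw [← hNK]
      apply mem_normalizer_of_cj_le
      have h1 : S ≤ Subgroup.normalizer (cj g (piCoreOf (ne p) M) : Set G) :=
        le_normalizer_cj_of_mem_normalizer hg (hSM.trans (le_normalizer_piCoreOf _ M))
      have hcop : (Nat.card (cj g (piCoreOf (ne p) M))).Coprime p := by
        rw [card_cj]; exact piCoreOf_ne_coprime p M
      exact le_core_of_sylow_invariant hp2 hSmaxM (hb _ hcop (hBS.trans h1)) hcop h1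
    have hStop' := hSmaxM.top_of_normalizer_le hNS
    have hSmaxH : IsMaxP p S H := hStop'.mono hSH le_top
    -- Step C
    by_cases hr : PRankLE p 2 ↥S
    · have h1 : S ≤ OppOf p H := le_OppOf_of_pRankLE (odd_card_subgroup hG H) hSmaxH hSbot hr
      apply hHleM
      apply le_of_core_le_of_normalizer_le hSmaxH hKH
      rw [inf_eq_left.mpr h1]
      exact hNS
    · obtain ⟨A', hSCN, hA'rank⟩ := exists_SCN3 hp2 hSp hr
      obtain ⟨hT, hYM⟩ := inv_le_of_SCN3 hG hb hBS hStop' hSCN hA'rank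
      obtain ⟨hA'S, hSA', hCA'⟩ := hSCN
      have hA'p : IsPGroup p A' := hSp.to_le hA'S
      have hA'bot : A' ≠ ⊥ := ne_bot_of_not_pRankLE hp.out.pos hA'rank
      have hpA' : p ∣ Nat.card A' := dvd_card_of_isPGroup_ne_bot hA'p hA'bot
      have hA'C : A' ≤ Subgroup.centralizer (A' : Set G) := by
        rw [← hCA']; exact inf_le_right.trans (Subgroup.centralizer_le (by rw [hCA']))
      have hA'Opp : A' ≤ OppOf p H :=
        le_OppOf_of_abelian_normal (odd_card_subgroup hG H) hSmaxH hA'S hA'C hSA'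
      have hNT : Subgroup.normalizer ((S ⊓ OppOf p H : Subgroup G) : Set G) ≤ M := by
        intro g hg
        rw [← hNK]
        apply mem_normalizer_of_cj_le
        have h1 : S ⊓ OppOf p H ≤ Subgroup.normalizer (cj g (piCoreOf (ne p) M) : Set G) :=
          le_normalizer_cj_of_mem_normalizer hg
            ((inf_le_left.trans hSM).trans (le_normalizer_piCoreOf _ M))
        have h2 : A' ≤ Subgroup.normalizer (cj g (piCoreOf (ne p) M) : Set G) :=
          (le_inf hA'S hA'Opp).trans h1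
        have hcop : (Nat.card (cj g (piCoreOf (ne p) M))).Coprime p := by
          rw [card_cj]; exact piCoreOf_ne_coprime p M
        have h3 : cj g (piCoreOf (ne p) M) ≤ M := hYM _ hcop h2
        have h4 : cj g (piCoreOf (ne p) M) ∈ invSubgroups M A' (primesNotDvd (Nat.card A')) := by
          refine ⟨h3, ?_, h2⟩
          intro r hr hd
          refine ⟨hr, fun hrA' => ?_⟩
          rw [prime_eq_of_dvd_card_isPGroup hA'p hr hrA'] at hd
          have h5 : p ∣ Nat.gcd (Nat.card (cj g (piCoreOf (ne p) M))) p := Nat.dvd_gcd hd dvd_rfl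
          rw [hcop] at h5
          exact hp.out.one_lt.ne' (Nat.dvd_one.mp h5)
        have h5 := le_piCoreOf_of_mem_invSubgroups hT hM.1 (hA'S.trans hSM) h4
        refine h5.trans (piCoreOf_mono ?_ M)
        intro t ht
        show t ≠ p
        rintro rfl
        exact ht.2 hpA'
      exact hHleM (le_of_core_le_of_normalizer_le hSmaxH hKH hNT)

/-- BG Theorem 9.1 -/
theorem bg91 (hG : IsMinSimpleOddOrder G) {M B : Subgroup G} (hM : IsCoatom M)
    {p : ℕ} [hp : Fact p.Prime] (hBM : B ≤ M) (hBe : IsElementaryAbelian p B) (hBnc : ¬ IsCyclic B)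
    (h : (∀ b ∈ B, b ≠ 1 → Subgroup.centralizer ({b} : Set G) ≤ M) ∨
      ∀ Y ∈ invSubgroups ⊤ B (primesNotDvd p), Y ≤ M) : InUniqueMaximal B := by
  have hBp : IsPGroup p B := by
    intro a
    refine ⟨1, ?_⟩
    apply Subtype.ext
    rw [pow_one, Subgroup.coe_pow, Subgroup.coe_one]
    exact hBe.2 _ a.2
  have hBbot : B ≠ ⊥ := by
    intro h0
    apply hBnc
    rw [h0]
    exact inferInstance
  have hb : ∀ Y : Subgroup G, (Nat.card Y).Coprime p →
      B ≤ Subgroup.normalizer (Y : Set G) → Y ≤ M := by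
    intro Y hY hBY
    rcases h with ha | hb
    · have : IsMulCommutative B := hBe.1
      have hgen := coprime_generated_by_centralizers B Y hBnc hBY
        (coprime_card_isPGroup_of_coprime hBp hY)
      rw [← hgen]
      apply iSup₂_le
      intro a ha'
      exact inf_le_right.trans (ha a ha'.1 ha'.2)
    · apply hb Y
      refine ⟨le_top, ?_, hBY⟩
      intro r hr hd
      refine ⟨hr, fun hrp => ?_⟩
      have hrp' : r = p := (Nat.prime_dvd_prime_iff_eq hr hp.out).mp hrp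
      rw [hrp'] at hd
      have h5 : p ∣ Nat.gcd (Nat.card Y) p := Nat.dvd_gcd hd dvd_rfl
      rw [hY] at h5
      exact hp.out.one_lt.ne' (Nat.dvd_one.mp h5)
  exact ⟨M, ⟨hM, hBM⟩, fun L hL => uniqueness_of_inv_le hG hM hBM hBp hBbot hb L hL.1 hL.2⟩

end Cfsg.Agent.Lib.Helper1.BG9
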