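import Mathlib
import Cfsg.Agent.Lib.Helper1.BG9b
import Cfsg.Agent.Lib.Helper1.Rk1
import Cfsg.Agent.Lib.Helper1.NormalElementarySq

set_option autoImplicit false
universe u
open scoped commutatorElement Pointwise

namespace Cfsg.Agent.Lib.Helper1.BG9

open Cfsg Subgroup Cfsg.Agent.Lib.Helper1 Cfsg.Agent.Lib.Helper1.BG7 Cfsg.Agent.Lib.Helper1.BG8
  Cfsg.Agent.Lib.Helper1.ZJ Cfsg.Agent.Lib.Helper1.NPC

variable {G : Type u} [Group G] [Finite G]

/-! ### conjugation and uniqueness subgroups -/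

omit [Finite G] in
theorem cj_cj_inv (k : G) (Q : Subgroup G) : cj k (cj k⁻¹ Q) = Q := by
  have := cj_inv_cj k⁻¹ Q
  rwa [inv_inv] at this

theorem cj_ne_top {k : G} {Q : Subgroup G} (h : Q ≠ ⊤) : cj k Q ≠ ⊤ := by
  intro h1
  apply h
  apply (Subgroup.card_eq_iff_eq_top Q).mp
  rw [← card_cj k Q, h1, Subgroup.card_top]

theorem isCoatom_cj {M : Subgroup G} (hM : IsCoatom M) (g : G) : IsCoatom (cj g M) := by
  refine ⟨cj_ne_top hM.1, fun N hN => ?_⟩
  have h1 : M ≤ cj g⁻¹ N := by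
    have := cj_mono (k := g⁻¹) hN.le
    rwa [cj_inv_cj] at this
  have h2 : M ≠ cj g⁻¹ N := by
    intro h
    apply hN.ne
    rw [h, cj_cj_inv]
  have h3 := hM.2 _ (lt_of_le_of_ne h1 h2)
  by_contra h4
  exact cj_ne_top h4 h3

theorem inUniqueMaximal_cj {X : Subgroup G} (hX : InUniqueMaximal X) (g : G) :
    InUniqueMaximal (cj g X) := by
  obtain ⟨M, ⟨hM, hXM⟩, hu⟩ := hX
  refine ⟨cj g M, ⟨isCoatom_cj hM g, cj_mono hXM⟩, ?_⟩
  rintro N ⟨hN, hXN⟩
  have h1 : X ≤ cj g⁻¹ N := by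
    have := cj_mono (k := g⁻¹) hXN
    rwa [cj_inv_cj] at this
  have h2 := hu _ ⟨isCoatom_cj hN g⁻¹, h1⟩
  rw [← h2, cj_cj_inv]

theorem inUniqueMaximal_of_le {X Y : Subgroup G} (hX : InUniqueMaximal X) (hXY : X ≤ Y)
    (hY : Y ≠ ⊤) : InUniqueMaximal Y := by
  obtain ⟨M, ⟨hM, hXM⟩, hu⟩ := hX
  rcases eq_top_or_exists_le_coatom Y with h | ⟨N, hN, hYN⟩
  · exact absurd h hY
  · have hNM : N = M := hu N ⟨hN, hXY.trans hYN⟩
    exact ⟨M, ⟨hM, hNM ▸ hYN⟩, fun L hL => hu L ⟨hL.1, hXY.trans hL.2⟩⟩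

theorem le_of_inUniqueMaximal {X Y M : Subgroup G} (hu : ∀ L : Subgroup G, IsCoatom L ∧ X ≤ L → L = M)
    (hXY : X ≤ Y) (hY : Y ≠ ⊤) : Y ≤ M := by
  rcases eq_top_or_exists_le_coatom Y with h | ⟨N, hN, hYN⟩
  · exact absurd h hY
  · have hNM : N = M := hu N ⟨hN, hXY.trans hYN⟩
    exact hNM ▸ hYN

omit [Finite G] in
theorem cj_le_normalizer_cj {P V : Subgroup G} (g : G)
    (h : P ≤ Subgroup.normalizer (V : Set G)) : cj g P ≤ Subgroup.normalizer (cj g V : Set G) := by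
  apply le_normalizer_of_conj_mem
  intro a ha x hx
  rw [mem_cj] at ha hx ⊢
  have h2 := (Subgroup.mem_normalizer_iff.mp (h ha) (g⁻¹ * x * g)).mp hx
  have e : g⁻¹ * (a * x * a⁻¹) * g = g⁻¹ * a * g * (g⁻¹ * x * g) * (g⁻¹ * a * g)⁻¹ := by group
  rw [e]; exact h2

omit [Finite G] in
theorem isElementaryAbelian_cj {p : ℕ} {V : Subgroup G} (g : G) (hV : IsElementaryAbelian p V) :
    IsElementaryAbelian p (cj g V) := by
  refine ⟨⟨⟨?_⟩⟩, ?_⟩
  · rintro ⟨x, hx⟩ ⟨y, hy⟩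
    apply Subtype.ext
    show x * y = y * x
    rw [mem_cj] at hx hy
    have h1 := isElementaryAbelian_comm hV hx hy
    have e1 : x * y = g * ((g⁻¹ * x * g) * (g⁻¹ * y * g)) * g⁻¹ := by group
    have e2 : y * x = g * ((g⁻¹ * y * g) * (g⁻¹ * x * g)) * g⁻¹ := by group
    rw [e1, e2, h1]
  · intro x hx
    rw [mem_cj] at hx
    have h1 := hV.2 _ hx
    have e : g⁻¹ * x * g = g⁻¹ * x * g⁻¹⁻¹ := by rw [inv_inv]
    rw [e, conj_pow] at h1
    have e2 : x ^ p = g * (g⁻¹ * x ^ p * g⁻¹⁻¹) * g⁻¹ := by group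
    rw [e2, h1]
    group

/-! ### elementary abelian subgroups and rank -/

omit [Finite G] in
theorem isPGroup_of_isElementaryAbelian {p : ℕ} {E : Subgroup G} (hE : IsElementaryAbelian p E) :
    IsPGroup p E := by
  intro a
  refine ⟨1, ?_⟩
  apply Subtype.ext
  rw [pow_one, Subgroup.coe_pow, Subgroup.coe_one]
  exact hE.2 _ a.2

omit [Finite G] in
theorem isElementaryAbelian_of_le {p : ℕ} {D E : Subgroup G} (hE : IsElementaryAbelian p E)
    (hDE : D ≤ E) : IsElementaryAbelian p D := by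
  refine ⟨⟨⟨?_⟩⟩, fun a ha => hE.2 a (hDE ha)⟩
  rintro ⟨x, hx⟩ ⟨y, hy⟩
  apply Subtype.ext
  exact isElementaryAbelian_comm hE (hDE hx) (hDE hy)

omit [Finite G] in
theorem le_centralizer_of_isElementaryAbelian {p : ℕ} {D E : Subgroup G}
    (hE : IsElementaryAbelian p E) (hDE : D ≤ E) : D ≤ Subgroup.centralizer (E : Set G) := by
  intro a ha
  rw [Subgroup.mem_centralizer_iff]
  intro b hb
  exact isElementaryAbelian_comm hE hb (hDE ha)

omit [Finite G] in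
theorem le_centralizer_of_isMulCommutative {A : Subgroup G} (hA : IsMulCommutative A) :
    A ≤ Subgroup.centralizer (A : Set G) := by
  intro a ha
  rw [Subgroup.mem_centralizer_iff]
  intro b hb
  have := hA.is_comm.comm ⟨b, hb⟩ ⟨a, ha⟩
  exact congrArg Subtype.val this

omit [Finite G] in
theorem le_centralizer_symm {A B : Subgroup G} (h : A ≤ Subgroup.centralizer (B : Set G)) :
    B ≤ Subgroup.centralizer (A : Set G) := by
  intro b hb
  rw [Subgroup.mem_centralizer_iff]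
  intro a ha
  exact (Subgroup.mem_centralizer_iff.mp (h ha) b hb).symm

omit [Finite G] in
theorem not_pRankLE_of_elementary {p k : ℕ} (hp : p.Prime) {Z E : Subgroup G} (hEZ : E ≤ Z)
    (hEe : IsElementaryAbelian p E) (hE : p ^ (k + 1) ≤ Nat.card E) : ¬ PRankLE p k ↥Z := by
  intro h
  have h1 := h (E.subgroupOf Z) ?_ ?_
  · rw [card_subgroupOf_of_le hEZ] at h1
    have h2 : p ^ k < p ^ (k + 1) := Nat.pow_lt_pow_right hp.one_lt (by omega)
    omega
  · have hc := hEe.1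
    refine ⟨⟨fun a b => ?_⟩⟩
    have := hc.is_comm.comm ⟨a.1.1, a.2⟩ ⟨b.1.1, b.2⟩
    have h3 : (a.1.1 : G) * b.1.1 = b.1.1 * a.1.1 := congrArg Subtype.val this
    apply Subtype.ext
    apply Subtype.ext
    exact h3
  · intro a ha
    apply Subtype.ext
    rw [Subgroup.coe_pow, Subgroup.coe_one]
    exact hEe.2 _ (Subgroup.mem_subgroupOf.mp ha)

omit [Finite G] in
theorem not_rankLE_of_elementary' {p k : ℕ} (hp : p.Prime) {Z E : Subgroup G} (hEZ : E ≤ Z)
    (hEe : IsElementaryAbelian p E) (hE : p ^ (k + 1) ≤ Nat.card E) : ¬ RankLE k ↥Z :=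
  fun h => not_pRankLE_of_elementary hp hEZ hEe hE (h p hp)

theorem exists_elementary_of_not_pRankLE {p k : ℕ} (hp : p.Prime) {Z : Subgroup G}
    (h : ¬ PRankLE p k ↥Z) :
    ∃ E : Subgroup G, E ≤ Z ∧ IsElementaryAbelian p E ∧ p ^ (k + 1) ≤ Nat.card E := by
  unfold PRankLE at h
  push Not at h
  obtain ⟨E₀, hc, hexp, hcard⟩ := h
  have : Fact p.Prime := ⟨hp⟩
  refine ⟨E₀.map Z.subtype, Subgroup.map_subtype_le _, ⟨?_, ?_⟩, ?_⟩
  · refine ⟨⟨?_⟩⟩
    rintro ⟨_, a, ha, rfl⟩ ⟨_, b, hb, rfl⟩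
    apply Subtype.ext
    show Z.subtype a * Z.subtype b = Z.subtype b * Z.subtype a
    rw [← map_mul, ← map_mul]
    have := hc.is_comm.comm ⟨a, ha⟩ ⟨b, hb⟩
    exact congrArg (fun t : E₀ => Z.subtype (t : ↥Z)) this
  · rintro _ ⟨a, ha, rfl⟩
    rw [← map_pow, hexp a ha, map_one]
  · rw [Subgroup.card_map_of_injective Z.subtype_injective]
    have hE₀p : IsPGroup p E₀ := by
      intro x
      refine ⟨1, ?_⟩
      apply Subtype.ext
      rw [pow_one, Subgroup.coe_pow]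
      exact hexp x x.2
    obtain ⟨j, hj⟩ := IsPGroup.iff_card.mp hE₀p
    rw [hj] at hcard ⊢
    apply Nat.pow_le_pow_right hp.pos
    by_contra hcon
    push Not at hcon
    have : p ^ j ≤ p ^ k := Nat.pow_le_pow_right hp.pos (by omega)
    omega

theorem not_pRankLE_of_le {p k : ℕ} (hp : p.Prime) {Y Z : Subgroup G} (hYZ : Y ≤ Z)
    (h : ¬ PRankLE p k ↥Y) : ¬ PRankLE p k ↥Z := by
  obtain ⟨E, hEY, hEe, hE⟩ := exists_elementary_of_not_pRankLE hp h
  exact not_pRankLE_of_elementary hp (hEY.trans hYZ) hEe hE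

omit [Finite G] in
theorem card_le_of_isCyclic_elementary {p : ℕ} (hp : p.Prime) {E : Subgroup G}
    (hE : IsElementaryAbelian p E) (hc : IsCyclic E) : Nat.card E ≤ p := by
  obtain ⟨g, hg⟩ := IsCyclic.exists_generator (α := E)
  rw [← orderOf_eq_card_of_forall_mem_zpowers hg]
  apply Nat.le_of_dvd hp.pos
  apply orderOf_dvd_of_pow_eq_one
  apply Subtype.ext
  rw [Subgroup.coe_pow, Subgroup.coe_one]
  exact hE.2 _ g.2

omit [Finite G] in
theorem not_isCyclic_of_elementary {p : ℕ} (hp : p.Prime) {Z E : Subgroup G} (hEZ : E ≤ Z)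
    (hEe : IsElementaryAbelian p E) (hE : p ^ 2 ≤ Nat.card E) : ¬ IsCyclic Z := by
  intro hc
  have h1 : IsCyclic (E.subgroupOf Z) := inferInstance
  have h2 : IsCyclic E :=
    isCyclic_of_surjective (Subgroup.subgroupOfEquivOfLe hEZ) (Subgroup.subgroupOfEquivOfLe hEZ).surjective
  have h3 := card_le_of_isCyclic_elementary hp hEe h2
  have h4 : p < p ^ 2 := by
    have := hp.one_lt
    nlinarith
  omega

/-! ### BG Lemma 9.2 -/

theorem bg92 (hG : IsMinSimpleOddOrder G) {L K : Subgroup G} (hL : InUniqueMaximal L)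
    (hK : K ≤ Subgroup.centralizer (L : Set G)) (hKr : ¬ RankLE 1 ↥K) : InUniqueMaximal K := by
  obtain ⟨M, ⟨hM, hLM⟩, huniq⟩ := hL
  have hLbot : L ≠ ⊥ := by
    rintro rfl
    have hall : ∀ N : Subgroup G, IsCoatom N → N = M := fun N hN => huniq N ⟨hN, bot_le⟩
    obtain ⟨x, hx⟩ : ∃ x, x ∉ M := by
      by_contra h
      push Not at h
      exact hM.1 (eq_top_iff.mpr fun y _ => h y)
    rcases eq_top_or_exists_le_coatom (Subgroup.zpowers x) with h | ⟨N, hN, hxN⟩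
    · apply hG.2.2.1
      refine ⟨⟨fun a b => ?_⟩⟩
      have ha : a ∈ Subgroup.zpowers x := by rw [h]; exact Subgroup.mem_top a
      have hb : b ∈ Subgroup.zpowers x := by rw [h]; exact Subgroup.mem_top b
      obtain ⟨i, rfl⟩ := Subgroup.mem_zpowers_iff.mp ha
      obtain ⟨j, rfl⟩ := Subgroup.mem_zpowers_iff.mp hb
      rw [← zpow_add, ← zpow_add, add_comm]
    · rw [hall N hN] at hxN
      exact hx (hxN (Subgroup.mem_zpowers x))
  have hLtop : L ≠ ⊤ := fun h => hM.1 (top_le_iff.mp (h ▸ hLM))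
  have hNL : Subgroup.normalizer (L : Set G) ≤ M :=
    le_of_inUniqueMaximal huniq Subgroup.le_normalizer (normalizer_ne_top hG hLbot hLtop)
  have hCL : Subgroup.centralizer (L : Set G) ≤ M :=
    (Subgroup.centralizer_le_normalizer (L : Set G)).trans hNL
  have hKM : K ≤ M := hK.trans hCL
  obtain ⟨p, hp, E, hEK, hEe, hEcard⟩ := exists_elementary_of_not_rankLE hKr
  have : Fact p.Prime := ⟨hp⟩
  have hEnc : ¬ IsCyclic E := not_isCyclic_of_elementary hp le_rfl hEe hEcard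
  have hcent : ∀ b ∈ E, b ≠ 1 → Subgroup.centralizer ({b} : Set G) ≤ M := by
    intro b hbE hb1
    apply le_of_inUniqueMaximal huniq ?_ (centralizer_singleton_ne_top hG hb1)
    intro l hl
    rw [Subgroup.mem_centralizer_iff]
    intro y hy
    rw [Set.mem_singleton_iff] at hy
    rw [hy]
    exact (Subgroup.mem_centralizer_iff.mp (hK (hEK hbE)) l hl).symm
  obtain ⟨M', ⟨hM', hEM'⟩, hu'⟩ := bg91 hG hM (hEK.trans hKM) hEe hEnc (Or.inl hcent)
  have hMM' : M = M' := hu' M ⟨hM, hEK.trans hKM⟩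
  refine ⟨M, ⟨hM, hKM⟩, fun N hN => ?_⟩
  rw [hMM']
  exact hu' N ⟨hN.1, hEK.trans hN.2⟩

end Cfsg.Agent.Lib.Helper1.BG9
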