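import Mathlib
import Cfsg.Agent.Lib.Helper1.BG9c

set_option autoImplicit false
universe u
open scoped commutatorElement Pointwise

namespace Cfsg.Agent.Lib.Helper1.BG9

open Cfsg Subgroup Cfsg.Agent.Lib.Helper1 Cfsg.Agent.Lib.Helper1.BG7 Cfsg.Agent.Lib.Helper1.BG8
  Cfsg.Agent.Lib.Helper1.ZJ Cfsg.Agent.Lib.Helper1.NPC

/-- In a `p`-group, a normal elementary abelian subgroup of order `p^2` is centralized by a
subgroup of index at most `p` in any given subgroup. -/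
theorem card_le_mul_card_centralizer_inf {P : Type*} [Group P] [Finite P] {p : ℕ}
    [hp : Fact p.Prime] (hP : IsPGroup p P)
    (B : Subgroup P) [hBn : B.Normal] (hB : IsElementaryAbelian p B) (hB2 : Nat.card B = p ^ 2)
    (A : Subgroup P) :
    Nat.card A ≤ p * Nat.card (Subgroup.centralizer (B : Set P) ⊓ A : Subgroup P) := by
  have hnil : Group.IsNilpotent P := hP.isNilpotent
  have hp1 : 1 < p := hp.out.one_lt
  have hBne : B ≠ ⊥ := by
    intro h
    rw [h, Subgroup.card_bot] at hB2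
    have : 1 < p ^ 2 := Nat.one_lt_pow (by norm_num) hp1
    omega
  have hmeet := normal_inf_center_ne_bot B hBne
  obtain ⟨⟨z, hz⟩, hz1⟩ := (Subgroup.ne_bot_iff_exists_ne_one).mp hmeet
  have hz1' : z ≠ 1 := fun h => hz1 (Subtype.ext h)
  obtain ⟨hzB, hzZ⟩ := Subgroup.mem_inf.mp hz
  have hzp : z ^ p = 1 := hB.2 z hzB
  have hzo : orderOf z = p := orderOf_eq_prime hzp hz1'
  obtain ⟨Z₁, hZ₁⟩ : ∃ Z₁ : Subgroup P, Z₁ = Subgroup.zpowers z := ⟨_, rfl⟩
  have hZ₁card : Nat.card Z₁ = p := by rw [hZ₁, Nat.card_zpowers, hzo]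
  have hZ₁B : Z₁ ≤ B := by rw [hZ₁, Subgroup.zpowers_le]; exact hzB
  have hZ₁cen : ∀ w ∈ Z₁, ∀ g : P, g * w = w * g := by
    intro w hw g
    rw [hZ₁] at hw
    obtain ⟨i, rfl⟩ := Subgroup.mem_zpowers_iff.mp hw
    exact Subgroup.mem_center_iff.mp (Subgroup.zpow_mem _ hzZ i) g
  obtain ⟨b, hbB, hbZ⟩ : ∃ b ∈ B, b ∉ Z₁ := by
    by_contra hno
    push Not at hno
    have h1 : Nat.card B ≤ Nat.card Z₁ := Subgroup.card_le_of_le hno
    rw [hB2, hZ₁card] at h1
    nlinarith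
  have hBgen : Z₁ ⊔ Subgroup.zpowers b = B := by
    have hle : Z₁ ⊔ Subgroup.zpowers b ≤ B :=
      sup_le hZ₁B (by rw [Subgroup.zpowers_le]; exact hbB)
    apply Subgroup.eq_of_le_of_card_ge hle
    have hlt : Z₁ < Z₁ ⊔ Subgroup.zpowers b := by
      apply lt_of_le_of_ne le_sup_left
      intro h
      apply hbZ
      rw [h]
      exact (le_sup_right : Subgroup.zpowers b ≤ _) (Subgroup.mem_zpowers b)
    have h1 : Nat.card Z₁ < Nat.card (Z₁ ⊔ Subgroup.zpowers b : Subgroup P) := Rk.card_lt_of_lt hlt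
    have h2 := Rk.card_ge_sq_of_gt (Z₁ ⊔ Subgroup.zpowers b) (hP.to_subgroup _)
      (by rw [← hZ₁card]; exact h1)
    rw [hB2]; exact h2
  obtain ⟨O, hO⟩ : ∃ O : Set P, O = {h : P | ∃ n ∈ A, n * b * n⁻¹ = h} := ⟨_, rfl⟩
  have hcount := Cfsg.Agent.Lib.Lead.ConjOrbit.card_eq_card_centralizer_inf_mul_ncard_conj A b
  rw [← hO] at hcount
  have hOsub : O ⊆ (B : Set P) \ (Z₁ : Set P) := by
    rw [hO]
    rintro h ⟨n, hn, rfl⟩
    refine ⟨hBn.conj_mem b hbB n, ?_⟩
    intro hmem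
    apply hbZ
    have h1 := hZ₁cen _ hmem n⁻¹
    have h2 : b = n⁻¹ * (n * b * n⁻¹) * n := by group
    rw [h2, h1]
    have h3 : n * b * n⁻¹ * n⁻¹ * n = n * b * n⁻¹ := by group
    rw [h3]
    exact hmem
  have hOle : O.ncard ≤ p ^ 2 - p := by
    have h1 := Set.ncard_le_ncard hOsub (Set.toFinite _)
    have h2 : ((B : Set P) \ (Z₁ : Set P)).ncard = (B : Set P).ncard - (Z₁ : Set P).ncard :=
      Set.ncard_sdiff (by exact_mod_cast hZ₁B) (Set.toFinite _)
    have h3 : (B : Set P).ncard = p ^ 2 := by rw [← hB2]; exact (Nat.card_coe_set_eq _).symm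
    have h4 : (Z₁ : Set P).ncard = p := by rw [← hZ₁card]; exact (Nat.card_coe_set_eq _).symm
    rw [h2, h3, h4] at h1
    exact h1
  have hOp : O.ncard ≤ p := by
    have hdvd : O.ncard ∣ Nat.card A := ⟨_, by rw [hcount]; ring⟩
    obtain ⟨k, hk⟩ := IsPGroup.iff_card.mp (hP.to_subgroup A)
    rw [hk] at hdvd
    obtain ⟨j, _, hj⟩ := (Nat.dvd_prime_pow hp.out).mp hdvd
    rw [hj] at hOle ⊢
    by_contra hcon
    push Not at hcon
    have h1 : 1 < j := by
      by_contra hj1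
      push Not at hj1
      have : p ^ j ≤ p ^ 1 := Nat.pow_le_pow_right hp.out.pos hj1
      rw [pow_one] at this
      omega
    have h2 : p ^ 2 ≤ p ^ j := Nat.pow_le_pow_right hp.out.pos h1
    have h3 : 0 < p := hp.out.pos
    have h4 : p ≤ p ^ 2 := by nlinarith
    omega
  have hcen : Subgroup.centralizer ({b} : Set P) ⊓ A ≤ Subgroup.centralizer (B : Set P) ⊓ A := by
    intro x hx
    obtain ⟨hx1, hx2⟩ := Subgroup.mem_inf.mp hx
    refine Subgroup.mem_inf.mpr ⟨?_, hx2⟩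
    have hxb : b * x = x * b := Subgroup.mem_centralizer_iff.mp hx1 b rfl
    have hD : Z₁ ⊔ Subgroup.zpowers b ≤ Subgroup.centralizer ({x} : Set P) := by
      apply sup_le
      · intro w hw
        rw [Subgroup.mem_centralizer_iff]
        intro y hy
        rw [Set.mem_singleton_iff] at hy
        rw [hy]
        exact hZ₁cen w hw x
      · rw [Subgroup.zpowers_le, Subgroup.mem_centralizer_iff]
        intro y hy
        rw [Set.mem_singleton_iff] at hy
        rw [hy]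
        exact hxb.symm
    rw [hBgen] at hD
    rw [Subgroup.mem_centralizer_iff]
    intro y hy
    exact (Subgroup.mem_centralizer_iff.mp (hD hy) x rfl).symm
  calc Nat.card A = Nat.card (Subgroup.centralizer ({b} : Set P) ⊓ A : Subgroup P) * O.ncard := hcount
    _ ≤ Nat.card (Subgroup.centralizer (B : Set P) ⊓ A : Subgroup P) * p :=
        Nat.mul_le_mul (Subgroup.card_le_of_le hcen) hOp
    _ = p * Nat.card (Subgroup.centralizer (B : Set P) ⊓ A : Subgroup P) := mul_comm _ _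

variable {G : Type u} [Group G] [Finite G]

theorem card_le_mul_card_inf_centralizer {p : ℕ} [hp : Fact p.Prime] {P V A : Subgroup G}
    (hP : IsPGroup p P) (hVP : V ≤ P) (hPV : P ≤ Subgroup.normalizer (V : Set G))
    (hVe : IsElementaryAbelian p V) (hV2 : Nat.card V = p ^ 2) (hAP : A ≤ P) :
    Nat.card A ≤ p * Nat.card (A ⊓ Subgroup.centralizer (V : Set G) : Subgroup G) := by
  have hVn : (V.subgroupOf P).Normal := (Subgroup.normal_subgroupOf_iff_le_normalizer hVP).mpr hPV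
  have hVe' : IsElementaryAbelian p (V.subgroupOf P) := by
    refine ⟨⟨⟨?_⟩⟩, ?_⟩
    · rintro ⟨x, hx⟩ ⟨y, hy⟩
      apply Subtype.ext
      apply Subtype.ext
      exact isElementaryAbelian_comm hVe (Subgroup.mem_subgroupOf.mp hx) (Subgroup.mem_subgroupOf.mp hy)
    · intro a ha
      apply Subtype.ext
      rw [Subgroup.coe_pow, Subgroup.coe_one]
      exact hVe.2 _ (Subgroup.mem_subgroupOf.mp ha)
  have hV2' : Nat.card (V.subgroupOf P) = p ^ 2 := by rw [card_subgroupOf_of_le hVP]; exact hV2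
  have h := card_le_mul_card_centralizer_inf (P := ↥P) hP (V.subgroupOf P) hVe' hV2' (A.subgroupOf P)
  rw [card_subgroupOf_of_le hAP] at h
  refine h.trans (Nat.mul_le_mul le_rfl ?_)
  have hmap : (Subgroup.centralizer ((V.subgroupOf P : Subgroup ↥P) : Set ↥P) ⊓ A.subgroupOf P).map
      P.subtype ≤ A ⊓ Subgroup.centralizer (V : Set G) := by
    rintro _ ⟨x, hx, rfl⟩
    obtain ⟨hx1, hx2⟩ := Subgroup.mem_inf.mp hx
    refine Subgroup.mem_inf.mpr ⟨Subgroup.mem_subgroupOf.mp hx2, ?_⟩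
    rw [Subgroup.mem_centralizer_iff]
    intro v hv
    have := Subgroup.mem_centralizer_iff.mp hx1 ⟨v, hVP hv⟩ (Subgroup.mem_subgroupOf.mpr hv)
    exact congrArg Subtype.val this
  have := Subgroup.card_le_of_le hmap
  rwa [Subgroup.card_map_of_injective P.subtype_injective] at this

/-- a noncyclic `p`-subgroup (`p` odd) has a normal elementary abelian subgroup of order `p^2` -/
theorem exists_normal_elementary_sq {p : ℕ} [hp : Fact p.Prime] (hp2 : p ≠ 2) {P : Subgroup G}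
    (hP : IsPGroup p P) (hnc : ¬ IsCyclic P) :
    ∃ V : Subgroup G, V ≤ P ∧ P ≤ Subgroup.normalizer (V : Set G) ∧ IsElementaryAbelian p V ∧
      Nat.card V = p ^ 2 := by
  have hnc' : ¬ IsCyclic ↥(⊤ : Subgroup ↥P) := by
    intro hc
    apply hnc
    exact isCyclic_of_surjective (Subgroup.topEquiv : (⊤ : Subgroup ↥P) ≃* ↥P)
      Subgroup.topEquiv.surjective
  obtain ⟨V', -, hV'n, hV'e, hV'2⟩ := exists_normal_elementary_sq_in_normal hp2 hP ⊤ hnc'
  refine ⟨V'.map P.subtype, Subgroup.map_subtype_le _, ?_, ⟨⟨⟨?_⟩⟩, ?_⟩, ?_⟩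
  · apply le_normalizer_of_conj_mem
    rintro g hg _ ⟨x, hx, rfl⟩
    exact ⟨⟨g, hg⟩ * x * ⟨g, hg⟩⁻¹, hV'n.conj_mem x hx ⟨g, hg⟩, by simp⟩
  · rintro ⟨_, a, ha, rfl⟩ ⟨_, b, hb, rfl⟩
    apply Subtype.ext
    show P.subtype a * P.subtype b = P.subtype b * P.subtype a
    rw [← map_mul, ← map_mul]
    exact congrArg _ (isElementaryAbelian_comm hV'e ha hb)
  · rintro _ ⟨a, ha, rfl⟩
    rw [← map_pow, hV'e.2 a ha, map_one]
  · rw [Subgroup.card_map_of_injective P.subtype_injective]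
    exact hV'2

theorem not_rankLE_one_of_not_isCyclic {p : ℕ} [hp : Fact p.Prime] (hp2 : p ≠ 2) {B : Subgroup G}
    (hB : IsPGroup p B) (hnc : ¬ IsCyclic B) : ¬ RankLE 1 ↥B := by
  obtain ⟨V, hVB, -, hVe, hV2⟩ := exists_normal_elementary_sq hp2 hB hnc
  exact not_rankLE_of_elementary' hp.out hVB hVe (by rw [hV2])

omit [Finite G] in
theorem odd_prime_of_dvd (hG : IsMinSimpleOddOrder G) {p : ℕ} (hpG : p ∣ Nat.card G) : p ≠ 2 := by
  rintro rfl
  have := hG.1
  rw [Nat.odd_iff] at this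
  omega

/-- if `D ≤ E` with `E` elementary abelian of order at least `p^3` and index at most `p`... -/
theorem sq_le_card_of_cube_le {p a d : ℕ} (hp : p.Prime) (h3 : p ^ 3 ≤ a) (h : a ≤ p * d) :
    p ^ 2 ≤ d := by
  have h1 : p * p ^ 2 ≤ p * d := by
    calc p * p ^ 2 = p ^ 3 := by ring
      _ ≤ a := h3
      _ ≤ p * d := h
  exact Nat.le_of_mul_le_mul_left h1 hp.pos

/-- BG Lemma 9.3, second half: with a normal `V ∈ 𝓤` of order `p^2` in `P`, every elementary
abelian subgroup of order at least `p^3` of `P` is in `𝓤`. -/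
theorem bg93b (hG : IsMinSimpleOddOrder G) {p : ℕ} [hp : Fact p.Prime] {P V E : Subgroup G}
    (hP : IsPGroup p P) (hVP : V ≤ P) (hPV : P ≤ Subgroup.normalizer (V : Set G))
    (hVe : IsElementaryAbelian p V) (hV2 : Nat.card V = p ^ 2) (hVU : InUniqueMaximal V)
    (hEP : E ≤ P) (hEe : IsElementaryAbelian p E) (hE3 : p ^ 3 ≤ Nat.card E) :
    InUniqueMaximal E := by
  have h1 := card_le_mul_card_inf_centralizer hP hVP hPV hVe hV2 hEP
  have h2 : p ^ 2 ≤ Nat.card (E ⊓ Subgroup.centralizer (V : Set G) : Subgroup G) :=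
    sq_le_card_of_cube_le hp.out hE3 h1
  have hDe : IsElementaryAbelian p (E ⊓ Subgroup.centralizer (V : Set G)) :=
    isElementaryAbelian_of_le hEe inf_le_left
  have hDU : InUniqueMaximal (E ⊓ Subgroup.centralizer (V : Set G)) :=
    bg92 hG hVU inf_le_right (not_rankLE_of_elementary' hp.out le_rfl hDe h2)
  have hE2 : p ^ 2 ≤ Nat.card E := by
    refine le_trans ?_ hE3
    exact Nat.pow_le_pow_right hp.out.pos (by norm_num)
  exact bg92 hG hDU
    (le_centralizer_symm (le_centralizer_of_isElementaryAbelian hEe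
      (inf_le_left : E ⊓ Subgroup.centralizer (V : Set G) ≤ E)))
    (not_rankLE_of_elementary' hp.out le_rfl hEe hE2)

/-- BG Lemma 9.3, first half. -/
theorem bg93a (hG : IsMinSimpleOddOrder G) {p : ℕ} [hp : Fact p.Prime] {A P : Subgroup G}
    (hAc : IsMulCommutative A) (hA3 : ¬ PRankLE p 2 ↥A) (hAU : InUniqueMaximal A)
    (hP : IsPGroup p P) (hAP : A ≤ P) :
    ∃ V : Subgroup G, V ≤ P ∧ P ≤ Subgroup.normalizer (V : Set G) ∧ IsElementaryAbelian p V ∧
      Nat.card V = p ^ 2 ∧ InUniqueMaximal V := by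
  obtain ⟨E₀, hE₀A, hE₀e, hE₀3⟩ := exists_elementary_of_not_pRankLE hp.out hA3
  have hE₀2 : p ^ 2 ≤ Nat.card E₀ :=
    le_trans (Nat.pow_le_pow_right hp.out.pos (by norm_num)) hE₀3
  have hpG : p ∣ Nat.card G := by
    have h1 : p ∣ Nat.card E₀ := by
      obtain ⟨k, hk⟩ := IsPGroup.iff_card.mp (isPGroup_of_isElementaryAbelian hE₀e)
      rw [hk] at hE₀3 ⊢
      apply dvd_pow_self
      rintro rfl
      rw [pow_zero] at hE₀3
      have : 1 < p ^ (2 + 1) := Nat.one_lt_pow (by norm_num) hp.out.one_lt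
      omega
    exact h1.trans (Subgroup.card_subgroup_dvd_card E₀)
  have hp2 : p ≠ 2 := odd_prime_of_dvd hG hpG
  have hPnc : ¬ IsCyclic P := not_isCyclic_of_elementary hp.out (hE₀A.trans hAP) hE₀e hE₀2
  obtain ⟨V, hVP, hPV, hVe, hV2⟩ := exists_normal_elementary_sq hp2 hP hPnc
  refine ⟨V, hVP, hPV, hVe, hV2, ?_⟩
  have hE₀U : InUniqueMaximal E₀ :=
    bg92 hG hAU (hE₀A.trans (le_centralizer_of_isMulCommutative hAc))
      (not_rankLE_of_elementary' hp.out le_rfl hE₀e hE₀2)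
  have h1 := card_le_mul_card_inf_centralizer hP hVP hPV hVe hV2 (hE₀A.trans hAP)
  have h2 : p ^ 2 ≤ Nat.card (E₀ ⊓ Subgroup.centralizer (V : Set G) : Subgroup G) :=
    sq_le_card_of_cube_le hp.out hE₀3 h1
  have hDe : IsElementaryAbelian p (E₀ ⊓ Subgroup.centralizer (V : Set G)) :=
    isElementaryAbelian_of_le hE₀e inf_le_left
  have hDU : InUniqueMaximal (E₀ ⊓ Subgroup.centralizer (V : Set G)) :=
    bg92 hG hE₀U (le_centralizer_of_isElementaryAbelian hE₀e inf_le_left)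
      (not_rankLE_of_elementary' hp.out le_rfl hDe h2)
  exact bg92 hG hDU (le_centralizer_symm inf_le_right)
    (not_rankLE_of_elementary' hp.out le_rfl hVe (by rw [hV2]))

/-- BG Lemma 9.3 -/
theorem bg93 (hG : IsMinSimpleOddOrder G) {p : ℕ} [hp : Fact p.Prime] {A B : Subgroup G}
    (hAp : IsPGroup p A) (hAc : IsMulCommutative A) (hA3 : ¬ PRankLE p 2 ↥A)
    (hAU : InUniqueMaximal A) (hBp : IsPGroup p B) (hBnc : ¬ IsCyclic B)
    (hB3 : ¬ PRankLE p 2 ↥(Subgroup.centralizer (B : Set G))) : InUniqueMaximal B := by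
  obtain ⟨E, hEC, hEe, hE3⟩ := exists_elementary_of_not_pRankLE hp.out hB3
  have hE2 : p ^ 2 ≤ Nat.card E :=
    le_trans (Nat.pow_le_pow_right hp.out.pos (by norm_num)) hE3
  obtain ⟨P₀, hAP₀⟩ := hAp.exists_le_sylow
  obtain ⟨P₁, hEP₁⟩ := (isPGroup_of_isElementaryAbelian hEe).exists_le_sylow
  obtain ⟨V₀, hV₀P, hPV₀, hV₀e, hV₀2, hV₀U⟩ := bg93a hG hAc hA3 hAU P₀.isPGroup' hAP₀
  obtain ⟨g, hg⟩ := MulAction.exists_smul_eq G P₀ P₁
  have hP₁ : (P₁ : Subgroup G) = cj g (P₀ : Subgroup G) := by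
    rw [← hg, Sylow.smul_def, Sylow.pointwise_smul_def]
    rfl
  have hpG : p ∣ Nat.card G := by
    have h1 : p ∣ Nat.card V₀ := by rw [hV₀2]; exact dvd_pow_self p (by norm_num)
    exact h1.trans (Subgroup.card_subgroup_dvd_card V₀)
  have hp2 : p ≠ 2 := odd_prime_of_dvd hG hpG
  have hEU : InUniqueMaximal E := by
    apply bg93b hG P₁.isPGroup' (V := cj g V₀) ?_ ?_ (isElementaryAbelian_cj g hV₀e) ?_
      (inUniqueMaximal_cj hV₀U g) hEP₁ hEe hE3
    · rw [hP₁]; exact cj_mono hV₀P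
    · rw [hP₁]; exact cj_le_normalizer_cj g hPV₀
    · rw [card_cj]; exact hV₀2
  exact bg92 hG hEU (le_centralizer_symm hEC) (not_rankLE_one_of_not_isCyclic hp2 hBp hBnc)

/-- BG Theorem 9.4 -/
theorem bg94 (hG : IsMinSimpleOddOrder G) {M : Subgroup G} (hM : IsCoatom M) {p : ℕ}
    [hp : Fact p.Prime] (hF : ¬ PRankLE p 2 ↥(fittingOf M)) {A : Subgroup G}
    (hAp : IsPGroup p A) (hAc : IsMulCommutative A) (hA3 : ¬ PRankLE p 2 ↥A) :
    InUniqueMaximal A := by
  obtain ⟨A₀, hA₀F, hA₀e, hA₀3⟩ := exists_elementary_of_not_pRankLE hp.out hF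
  have hA₀2 : p ^ 2 ≤ Nat.card A₀ :=
    le_trans (Nat.pow_le_pow_right hp.out.pos (by norm_num)) hA₀3
  have hpG : p ∣ Nat.card G := by
    have h1 : p ∣ Nat.card A₀ := by
      obtain ⟨k, hk⟩ := IsPGroup.iff_card.mp (isPGroup_of_isElementaryAbelian hA₀e)
      rw [hk] at hA₀3 ⊢
      apply dvd_pow_self
      rintro rfl
      rw [pow_zero] at hA₀3
      have : 1 < p ^ (2 + 1) := Nat.one_lt_pow (by norm_num) hp.out.one_lt
      omega
    exact h1.trans (Subgroup.card_subgroup_dvd_card A₀)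
  have hp2 : p ≠ 2 := odd_prime_of_dvd hG hpG
  -- a uniqueness abelian `p`-subgroup of rank at least three
  obtain ⟨A₁, hA₁p, hA₁c, hA₁3, hA₁U⟩ : ∃ A₁ : Subgroup G, IsPGroup p A₁ ∧ IsMulCommutative A₁ ∧
      ¬ PRankLE p 2 ↥A₁ ∧ InUniqueMaximal A₁ := by
    by_cases hFp : IsPGroup p ↥(fittingOf M)
    · obtain ⟨P⟩ : Nonempty (Sylow p M) := inferInstance
      have h81 := bender_81b hG hM hA₀F hA₀3 hFp P
      have hPmax : IsMaxP p ((P : Subgroup M).map M.subtype) M := isMaxP_of_sylow P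
      have hFP : fittingOf M ≤ (P : Subgroup M).map M.subtype := fittingOf_le_of_isMaxP hFp hPmax
      have hr : ¬ PRankLE p 2 ↥((P : Subgroup M).map M.subtype) :=
        not_pRankLE_of_le hp.out hFP hF
      obtain ⟨A', hSCN, hA'3⟩ := exists_SCN3 hp2 hPmax.2.1 hr
      have hA'U := (h81.2 A' hSCN hA'3).2
      obtain ⟨hA'S, hSA', hCA'⟩ := hSCN
      have hA'C : A' ≤ Subgroup.centralizer (A' : Set G) := by
        rw [← hCA']; exact inf_le_right.trans (Subgroup.centralizer_le (by rw [hCA']))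
      refine ⟨A', hPmax.2.1.to_le hA'S, ?_, hA'3, hA'U⟩
      refine ⟨⟨fun a b => ?_⟩⟩
      apply Subtype.ext
      exact (Subgroup.mem_centralizer_iff.mp (hA'C b.2) a a.2)
    · have D := bender_81a hG hM hA₀F hA₀e hA₀3 hFp
      have hCU : InUniqueMaximal (fittingOf M ⊓ Subgroup.centralizer (A₀ : Set G)) :=
        ⟨M, ⟨hM, D.le_M⟩, fun L hL => bender_uniqueness hG D hL.1 hL.2⟩
      have hA₀U : InUniqueMaximal A₀ :=
        bg92 hG hCU (le_centralizer_symm inf_le_right)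
          (not_rankLE_of_elementary' hp.out le_rfl hA₀e hA₀2)
      refine ⟨A₀, isPGroup_of_isElementaryAbelian hA₀e, hA₀e.1, ?_, hA₀U⟩
      exact not_pRankLE_of_elementary hp.out le_rfl hA₀e hA₀3
  obtain ⟨E, hEA, hEe, hE3⟩ := exists_elementary_of_not_pRankLE hp.out hA3
  have hE2 : p ^ 2 ≤ Nat.card E :=
    le_trans (Nat.pow_le_pow_right hp.out.pos (by norm_num)) hE3
  apply bg93 hG hA₁p hA₁c hA₁3 hA₁U hAp (not_isCyclic_of_elementary hp.out hEA hEe hE2)
  exact not_pRankLE_of_le hp.out (le_centralizer_of_isMulCommutative hAc) hA3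

end Cfsg.Agent.Lib.Helper1.BG9
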