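import Mathlib
import Cfsg.Prelude.Def_PLocal
import Cfsg.Prelude.Def_CaseTheorems

/-! Utilities for B&G Theorem 4.18 (S1448): commutator bilinearity with local centrality,
the centre of a nonabelian group of order `p³`, and index-`p` decompositions. -/
set_option autoImplicit false
set_option maxHeartbeats 4000000
set_option linter.unusedVariables false
set_option linter.unusedSectionVars false
set_option linter.style.haveILetI false
set_option linter.deprecated false
universe u
open scoped commutatorElement Pointwise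

namespace Cfsg.Agent.Lib.Helper1.BK

section comm
variable {P : Type*} [Group P]

theorem comm_mul_right' (x g h : P) (hc : ∀ k : P, ⁅x, h⁆ * k = k * ⁅x, h⁆) :
    ⁅x, g * h⁆ = ⁅x, g⁆ * ⁅x, h⁆ := by
  have h1 : ⁅x, g * h⁆ = ⁅x, g⁆ * (g * ⁅x, h⁆ * g⁻¹) := by
    simp only [commutatorElement_def]; group
  rw [h1, ← hc g, mul_inv_cancel_right]

theorem comm_mul_left' (x y g : P) (hc : ∀ k : P, ⁅y, g⁆ * k = k * ⁅y, g⁆) :
    ⁅x * y, g⁆ = ⁅x, g⁆ * ⁅y, g⁆ := by
  have h1 : ⁅x * y, g⁆ = x * ⁅y, g⁆ * x⁻¹ * ⁅x, g⁆ := by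
    simp only [commutatorElement_def]; group
  rw [h1, ← hc x, mul_inv_cancel_right]
  exact hc _

theorem comm_pow_right' (x g : P) (hc : ∀ k : P, ⁅x, g⁆ * k = k * ⁅x, g⁆) (n : ℕ) :
    ⁅x, g ^ n⁆ = ⁅x, g⁆ ^ n := by
  induction n with
  | zero => simp
  | succ n ih => rw [pow_succ, comm_mul_right' x (g ^ n) g hc, ih, pow_succ]

theorem comm_pow_left' (x g : P) (hc : ∀ k : P, ⁅x, g⁆ * k = k * ⁅x, g⁆) (n : ℕ) :
    ⁅x ^ n, g⁆ = ⁅x, g⁆ ^ n := by
  induction n with
  | zero => simp
  | succ n ih => rw [pow_succ, comm_mul_left' (x ^ n) x g hc, ih, pow_succ]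

theorem comm_eq_one_of_commute {x y : P} (h : x * y = y * x) : ⁅x, y⁆ = 1 :=
  commutatorElement_eq_one_iff_mul_comm.mpr h

theorem central_of_eq_one {x : P} (h : x = 1) : ∀ k : P, x * k = k * x := by
  intro k; rw [h, one_mul, mul_one]

theorem central_inv {x : P} (h : ∀ k : P, x * k = k * x) : ∀ k : P, x⁻¹ * k = k * x⁻¹ := by
  intro k
  have := h k
  calc x⁻¹ * k = x⁻¹ * (k * x) * x⁻¹ := by group
    _ = x⁻¹ * (x * k) * x⁻¹ := by rw [this]
    _ = k * x⁻¹ := by group

theorem central_pow {x : P} (h : ∀ k : P, x * k = k * x) (n : ℕ) : ∀ k : P, x ^ n * k = k * x ^ n := by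
  intro k
  exact ((show Commute x k from h k).pow_left n)

end comm

section cube

/-- The centre of a nonabelian group of order `p³` has order `p`. -/
theorem card_center_of_card_cube {X : Type*} [Group X] {p : ℕ} [hp : Fact p.Prime]
    (hcard : Nat.card X = p ^ 3) (hnc : ¬ ∀ a b : X, a * b = b * a) :
    Nat.card (Subgroup.center X) = p := by
  have : Finite X := Nat.finite_of_card_ne_zero (by rw [hcard]; exact pow_ne_zero _ hp.out.ne_zero)
  have hP : IsPGroup p X := IsPGroup.of_card hcard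
  have : Nontrivial X := by
    rw [← Finite.one_lt_card_iff_nontrivial, hcard]
    exact Nat.one_lt_pow (by norm_num) hp.out.one_lt
  have hc := hP.center_nontrivial
  have hmul := Subgroup.card_eq_card_quotient_mul_card_subgroup (Subgroup.center X)
  rw [hcard] at hmul
  have hdvd : Nat.card (Subgroup.center X) ∣ p ^ 3 := ⟨_, by rw [hmul, mul_comm]⟩
  obtain ⟨k, hk3, hk⟩ := (Nat.dvd_prime_pow hp.out).mp hdvd
  have hk0 : k ≠ 0 := by
    intro hk0
    rw [hk0, pow_zero] at hk
    have := Finite.one_lt_card_iff_nontrivial.mpr hc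
    omega
  have hk3' : k ≠ 3 := by
    intro h3
    apply hnc
    have htop : Subgroup.center X = ⊤ := by
      apply (Subgroup.card_eq_iff_eq_top _).mp
      rw [hk, h3, hcard]
    intro a b
    have ha : a ∈ Subgroup.center X := by rw [htop]; trivial
    exact ((Subgroup.mem_center_iff.mp ha) b).symm
  have hk2' : k ≠ 2 := by
    intro h2
    apply hnc
    have hq : Nat.card (X ⧸ Subgroup.center X) = p := by
      rw [hk, h2] at hmul
      have h3 : p ^ 3 = p * p ^ 2 := by ring
      rw [h3] at hmul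
      exact (Nat.eq_of_mul_eq_mul_right (pow_pos hp.out.pos 2) hmul).symm
    haveI : IsCyclic (X ⧸ Subgroup.center X) := isCyclic_of_prime_card hq
    exact commutative_of_cyclic_center_quotient (QuotientGroup.mk' (Subgroup.center X))
      (le_of_eq (QuotientGroup.ker_mk' _))
  have : k = 1 := by omega
  rw [hk, this, pow_one]

end cube

section index
variable {P : Type*} [Group P] [Finite P] {p : ℕ} [hp : Fact p.Prime]

/-- No subgroup lies strictly between `H` and `K` when `|K| = |H| p`. -/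
theorem eq_or_eq_of_card_mul_prime {H M K : Subgroup P} (hHM : H ≤ M) (hMK : M ≤ K)
    (hcard : Nat.card K = Nat.card H * p) : M = H ∨ M = K := by
  have h1 : Nat.card H ∣ Nat.card M := Subgroup.card_dvd_of_le hHM
  have h2 : Nat.card M ∣ Nat.card K := Subgroup.card_dvd_of_le hMK
  obtain ⟨j, hj⟩ := h1
  rw [hj, hcard] at h2
  have hHpos : 0 < Nat.card H := Nat.card_pos
  have hjp : j ∣ p := Nat.dvd_of_mul_dvd_mul_left hHpos h2
  rcases (Nat.dvd_prime hp.out).mp hjp with h | h
  · left
    rw [h, mul_one] at hj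
    exact (Subgroup.eq_of_le_of_card_ge hHM (le_of_eq hj)).symm
  · right
    apply Subgroup.eq_of_le_of_card_ge hMK
    rw [hj, hcard, h]

/-- Elements of `K` decompose as a power of `x` times an element of `H` when `|K : H| = p`,
`H` is normal and `x ∈ K \ H`. -/
theorem exists_pow_mul_of_card_mul {H K : Subgroup P} [hH : H.Normal] (hHK : H ≤ K)
    (hcard : Nat.card K = Nat.card H * p) {x : P} (hxK : x ∈ K) (hxH : x ∉ H) :
    ∀ k ∈ K, ∃ (i : ℕ) (h : P), h ∈ H ∧ k = x ^ i * h := by
  have hle : Subgroup.zpowers x ⊔ H ≤ K := sup_le (by rwa [Subgroup.zpowers_le]) hHK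
  have hM : Subgroup.zpowers x ⊔ H = K := by
    rcases eq_or_eq_of_card_mul_prime (le_sup_right : H ≤ Subgroup.zpowers x ⊔ H) hle hcard with h | h
    · exfalso
      apply hxH
      rw [← h]
      exact Subgroup.mem_sup_left (Subgroup.mem_zpowers x)
    · exact h
  intro k hk
  rw [← hM] at hk
  have hk' : k ∈ ((Subgroup.zpowers x ⊔ H : Subgroup P) : Set P) := hk
  rw [Subgroup.mul_normal] at hk'
  obtain ⟨y, hy, h, hh, rfl⟩ := Set.mem_mul.mp hk'
  have hy' : y ∈ Submonoid.powers x := mem_powers_iff_mem_zpowers.mpr hy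
  obtain ⟨i, rfl⟩ := hy'
  exact ⟨i, h, hh, rfl⟩

/-- A subgroup of order `p` is generated by any of its nonidentity elements. -/
theorem zpowers_eq_of_card_prime {Z : Subgroup P} (hZ : Nat.card Z = p) {z : P} (hz : z ∈ Z)
    (hz1 : z ≠ 1) : Subgroup.zpowers z = Z := by
  have hzp : z ^ p = 1 := by
    have h1 : (⟨z, hz⟩ : Z) ^ p = 1 := by rw [← hZ]; exact pow_card_eq_one'
    have := congrArg Subtype.val h1
    simpa using this
  apply Subgroup.eq_of_le_of_card_ge
  · rw [Subgroup.zpowers_le]; exact hz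
  · rw [Nat.card_zpowers, orderOf_eq_prime hzp hz1, hZ]

theorem exists_pow_of_mem_card_prime {Z : Subgroup P} (hZ : Nat.card Z = p) {z : P} (hz : z ∈ Z)
    (hz1 : z ≠ 1) {w : P} (hw : w ∈ Z) : ∃ i : ℕ, w = z ^ i := by
  rw [← zpowers_eq_of_card_prime hZ hz hz1] at hw
  have hw' : w ∈ Submonoid.powers z := mem_powers_iff_mem_zpowers.mpr hw
  obtain ⟨i, rfl⟩ := hw'
  exact ⟨i, rfl⟩

theorem pow_prime_eq_one_of_mem_card_prime {Z : Subgroup P} (hZ : Nat.card Z = p) {z : P}
    (hz : z ∈ Z) : z ^ p = 1 := by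
  have h1 : (⟨z, hz⟩ : Z) ^ p = 1 := by rw [← hZ]; exact pow_card_eq_one'
  have := congrArg Subtype.val h1
  simpa using this

end index

end Cfsg.Agent.Lib.Helper1.BK
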