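import Mathlib
import Cfsg.Agent.Lib.Helper1.BK1
import Cfsg.Agent.Lib.Helper4.RegOmega
import Cfsg.Agent.Lib.Lead.UniqueP
import Cfsg.Agent.Lib.Helper1.BestOffender
import Cfsg.Agent.S4224

/-! B&G Theorem 4.18 (S1448), regular part: structure of `E = Ω₁(P)` of order `p³` and of its
centralizer in a regular `p`-group of rank two. -/
set_option autoImplicit false
set_option maxHeartbeats 4000000
set_option linter.unusedVariables false
set_option linter.unusedSectionVars false
set_option linter.style.haveILetI false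
set_option linter.deprecated false
universe u
open scoped commutatorElement Pointwise

namespace Cfsg.Agent.Lib.Helper1.BK

open Cfsg.Agent.Lib.Helper4

variable {P : Type u} [Group P] [Finite P] {p : ℕ} [hp : Fact p.Prime]

theorem pow_comm_of_pow_eq_one (hreg : Cfsg.IsRegularPGroup p P) (x e : P) (he : e ^ p = 1) :
    x ^ p * e = e * x ^ p := by
  have h1 := (Cfsg.Agent.S4224.result hreg e x 1).mp (by rw [pow_one, he, one_mul, mul_one])
  rw [pow_one] at h1
  have h2 := (Cfsg.Agent.S4224.result hreg x e 1).mpr (by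
    rw [pow_one]
    have e1 : x⁻¹ * e⁻¹ * x * e = (e⁻¹ * x⁻¹ * e * x)⁻¹ := by group
    rw [e1, inv_pow, h1, inv_one])
  rwa [pow_one] at h2

theorem structure_E (hp2 : p ≠ 2) (hreg : Cfsg.IsRegularPGroup p P) (hrk : Cfsg.PRankLE p 2 P)
    (E : Subgroup P) (hE : ∀ x, x ∈ E ↔ x ^ p = 1) (hEcard : Nat.card E = p ^ 3) :
    (¬ ∀ x ∈ E, ∀ y ∈ E, x * y = y * x) ∧
    Nat.card (E ⊓ Subgroup.centralizer (E : Set P) : Subgroup P) = p ∧
    IsCyclic (Subgroup.centralizer (E : Set P)) ∧
    (∀ x : P, x ^ p ∈ Subgroup.centralizer (E : Set P)) := by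
  have hnc : ¬ ∀ x ∈ E, ∀ y ∈ E, x * y = y * x := by
    intro h
    have h1 := hrk E ⟨⟨fun a b => Subtype.ext (h a a.2 b b.2)⟩⟩ (fun a ha => (hE a).mp ha)
    rw [hEcard] at h1
    have := Nat.pow_lt_pow_right hp.out.one_lt (show 2 < 3 by norm_num)
    omega
  have hZ : Nat.card (E ⊓ Subgroup.centralizer (E : Set P) : Subgroup P) = p := by
    have h1 : Nat.card (Subgroup.center ↥E) = p := by
      apply card_center_of_card_cube hEcard
      intro h
      apply hnc
      intro x hx y hy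
      exact congrArg Subtype.val (h ⟨x, hx⟩ ⟨y, hy⟩)
    have h2 : (Subgroup.center ↥E).map E.subtype = E ⊓ Subgroup.centralizer (E : Set P) := by
      ext x
      constructor
      · rintro ⟨y, hy, rfl⟩
        refine Subgroup.mem_inf.mpr ⟨y.2, ?_⟩
        rw [Subgroup.mem_centralizer_iff]
        intro e he
        have := Subgroup.mem_center_iff.mp hy ⟨e, he⟩
        exact congrArg Subtype.val this
      · intro hx
        obtain ⟨hx1, hx2⟩ := Subgroup.mem_inf.mp hx
        refine ⟨⟨x, hx1⟩, ?_, rfl⟩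
        rw [SetLike.mem_coe, Subgroup.mem_center_iff]
        intro g
        apply Subtype.ext
        exact Subgroup.mem_centralizer_iff.mp hx2 g g.2
    rw [← h2, Subgroup.card_map_of_injective E.subtype_injective, h1]
  have hpowC : ∀ x : P, x ^ p ∈ Subgroup.centralizer (E : Set P) := by
    intro x
    rw [Subgroup.mem_centralizer_iff]
    intro e he
    exact (pow_comm_of_pow_eq_one hreg x e ((hE e).mp he)).symm
  refine ⟨hnc, hZ, ?_, hpowC⟩
  have hCp : IsPGroup p (Subgroup.centralizer (E : Set P)) := hreg.1.to_subgroup _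
  have hu : Cfsg.Agent.Lib.Lead.UniqueP.UOP p (Subgroup.centralizer (E : Set P)) := by
    intro x y hx hy hx1
    have hx' : (x : P) ^ p = 1 := by rw [← Subgroup.coe_pow, hx]; rfl
    have hy' : (y : P) ^ p = 1 := by rw [← Subgroup.coe_pow, hy]; rfl
    have hxZ : (x : P) ∈ E ⊓ Subgroup.centralizer (E : Set P) :=
      Subgroup.mem_inf.mpr ⟨(hE _).mpr hx', x.2⟩
    have hyZ : (y : P) ∈ E ⊓ Subgroup.centralizer (E : Set P) :=
      Subgroup.mem_inf.mpr ⟨(hE _).mpr hy', y.2⟩
    have hx1' : (x : P) ≠ 1 := fun h => hx1 (Subtype.ext h)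
    have heq := zpowers_eq_of_card_prime hZ hxZ hx1'
    have : (y : P) ∈ Subgroup.zpowers (x : P) := by rw [heq]; exact hyZ
    obtain ⟨k, hk⟩ := Subgroup.mem_zpowers_iff.mp this
    rw [Subgroup.mem_zpowers_iff]
    exact ⟨k, Subtype.ext (by rw [Subgroup.coe_zpow]; exact hk)⟩
  rcases Cfsg.Agent.Lib.Lead.UniqueP.cyclic_or_quaternion p hCp hu with h | ⟨h, -⟩
  · exact h
  · exact absurd h hp2

theorem dichotomy (hp2 : p ≠ 2) (hreg : Cfsg.IsRegularPGroup p P) (hrk : Cfsg.PRankLE p 2 P)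
    (E : Subgroup P) (hE : ∀ x, x ∈ E ↔ x ^ p = 1) (hEcard : Nat.card E = p ^ 3) :
    E ⊔ Subgroup.centralizer (E : Set P) = ⊤ ∨
      ∃ u c₀ : P, u ^ p = c₀ ∧ Subgroup.centralizer (E : Set P) = Subgroup.zpowers c₀ := by
  obtain ⟨hnc, hZ, hCcyc, hpowC⟩ := structure_E hp2 hreg hrk E hE hEcard
  obtain ⟨C, hC⟩ : ∃ C, C = Subgroup.centralizer (E : Set P) := ⟨_, rfl⟩
  rw [← hC] at hZ hCcyc hpowC ⊢
  obtain ⟨g, hg⟩ := hCcyc.exists_generator
  have hCz : C = Subgroup.zpowers (g : P) := by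
    ext x
    constructor
    · intro hx
      obtain ⟨k, hk⟩ := Subgroup.mem_zpowers_iff.mp (hg ⟨x, hx⟩)
      rw [Subgroup.mem_zpowers_iff]
      refine ⟨k, ?_⟩
      have := congrArg Subtype.val hk
      rwa [Subgroup.coe_zpow] at this
    · intro hx
      obtain ⟨k, hk⟩ := Subgroup.mem_zpowers_iff.mp hx
      rw [← hk]
      exact C.zpow_mem g.2 k
  by_cases hex : ∃ u : P, u ^ p = (g : P)
  · obtain ⟨u, hu⟩ := hex
    exact Or.inr ⟨u, g, hu, hCz⟩
  · left
    push Not at hex
    obtain ⟨M, hM⟩ : ∃ M, M = Cfsg.powerClosure p 1 (⊤ : Subgroup P) := ⟨_, rfl⟩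
    have hMmem : ∀ y, y ∈ M ↔ ∃ x : P, y = x ^ p :=
      fun y => hM ▸ RegOmega.mem_powerClosure_top hreg y
    have hMC : M ≤ C := by
      intro y hy
      obtain ⟨x, rfl⟩ := (hMmem y).mp hy
      exact hpowC x
    have hgM : (g : P) ∉ M := by
      intro h
      obtain ⟨x, hx⟩ := (hMmem _).mp h
      exact hex x hx.symm
    have hEeq : E = Cfsg.omegaOne p (⊤ : Subgroup P) := by
      ext x
      rw [hE, RegOmega.mem_omegaOne_top hreg]
    have hcardP : Nat.card P = Nat.card M * p ^ 3 := by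
      have := RegOmega.card_eq_top hreg
      rw [← hM, ← hEeq, hEcard] at this
      exact this
    have hMlt : Nat.card M * p ≤ Nat.card C := by
      have hdvd : Nat.card M ∣ Nat.card C := Subgroup.card_dvd_of_le hMC
      obtain ⟨j, hj⟩ := hdvd
      have hCp : IsPGroup p C := hreg.1.to_subgroup _
      obtain ⟨n, hn⟩ := IsPGroup.iff_card.mp hCp
      have hjd : j ∣ p ^ n := ⟨Nat.card M, by rw [← hn, hj, mul_comm]⟩
      obtain ⟨i, -, hi⟩ := (Nat.dvd_prime_pow hp.out).mp hjd
      have hi0 : i ≠ 0 := by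
        intro h0
        rw [h0, pow_zero] at hi
        rw [hi, mul_one] at hj
        have := Subgroup.eq_of_le_of_card_ge hMC (le_of_eq hj)
        apply hgM
        rw [this]
        exact g.2
      rw [hj, hi]
      apply Nat.mul_le_mul_left
      calc p = p ^ 1 := (pow_one p).symm
        _ ≤ p ^ i := Nat.pow_le_pow_right hp.out.pos (Nat.one_le_iff_ne_zero.mpr hi0)
    have hprod := card_mul_card_le_card_sup_mul_card_inf E C
    rw [hEcard, hZ] at hprod
    apply (Subgroup.card_eq_iff_eq_top _).mp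
    apply le_antisymm (Subgroup.card_le_card_group _)
    rw [hcardP]
    have h3 : p ^ 3 * (Nat.card M * p) ≤ Nat.card (E ⊔ C : Subgroup P) * p :=
      (Nat.mul_le_mul_left _ hMlt).trans hprod
    have h4 : (Nat.card M * p ^ 3) * p ≤ Nat.card (E ⊔ C : Subgroup P) * p := by
      calc (Nat.card M * p ^ 3) * p = p ^ 3 * (Nat.card M * p) := by ring
        _ ≤ _ := h3
    exact Nat.le_of_mul_le_mul_right h4 hp.out.pos

end Cfsg.Agent.Lib.Helper1.BK
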