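import Mathlib
import Cfsg.Agent.Lib.Helper1.BK3

/-! B&G Theorem 4.18 (S1448): the abstract statement for a regular `p`-group of rank two with
`|Ω₁(P)| = p³`. -/
set_option autoImplicit false
set_option maxHeartbeats 4000000
set_option linter.unusedVariables false
set_option linter.unusedSectionVars false
set_option linter.style.haveILetI false
set_option linter.deprecated false
universe u
open scoped commutatorElement Pointwise

namespace Cfsg.Agent.Lib.Helper1.BK

variable {P : Type u} [Group P] [Finite P] {p : ℕ} [hp : Fact p.Prime]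

/-- In a group of order `p³` all commutators are central. -/
theorem comm_mem_center_of_card_cube {X : Type*} [Group X] {q : ℕ} [hq : Fact q.Prime]
    (hcard : Nat.card X = q ^ 3) (x y : X) : ⁅x, y⁆ ∈ Subgroup.center X := by
  by_cases hc : ∀ a b : X, a * b = b * a
  · rw [commutatorElement_eq_one_iff_mul_comm.mpr (hc x y)]
    exact Subgroup.one_mem _
  · have : Finite X := Nat.finite_of_card_ne_zero (by rw [hcard]; exact pow_ne_zero _ hq.out.ne_zero)
    have hZ := card_center_of_card_cube hcard hc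
    have hmul := Subgroup.card_eq_card_quotient_mul_card_subgroup (Subgroup.center X)
    rw [hcard, hZ] at hmul
    have hq2 : Nat.card (X ⧸ Subgroup.center X) = q ^ 2 := by
      have h3 : q ^ 3 = q ^ 2 * q := by ring
      rw [h3] at hmul
      exact (Nat.eq_of_mul_eq_mul_right hq.out.pos hmul).symm
    have hcomm := IsPGroup.commutative_of_card_eq_prime_sq (p := q) hq2
      (QuotientGroup.mk' (Subgroup.center X) x) (QuotientGroup.mk' (Subgroup.center X) y)
    rw [← QuotientGroup.eq_one_iff]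
    show (QuotientGroup.mk' (Subgroup.center X)) ⁅x, y⁆ = 1
    rw [map_commutatorElement]
    exact commutatorElement_eq_one_iff_mul_comm.mpr hcomm

theorem main_abstract (hp2 : p ≠ 2) (hreg : Cfsg.IsRegularPGroup p P) (hrk : Cfsg.PRankLE p 2 P)
    (E : Subgroup P) (hE : ∀ x, x ∈ E ↔ x ^ p = 1) (hEcard : Nat.card E = p ^ 3)
    (𝒜 : Set (MulAut P)) (hodd : ∀ α ∈ 𝒜, ∃ o : ℕ, Odd o ∧ α ^ o = 1)
    (hgen : ∀ T : Subgroup P, (∀ α ∈ 𝒜, ∀ x : P, α x * x⁻¹ ∈ T) → T = ⊤) :
    ∃ R₁ R₂ : Subgroup P, R₁ ⊔ R₂ = ⊤ ∧ (∀ a ∈ R₁, ∀ b ∈ R₂, a * b = b * a) ∧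
      ¬ IsMulCommutative R₁ ∧ Nat.card R₁ = p ^ 3 ∧ Monoid.exponent R₁ = p ∧ IsCyclic R₂ ∧
      Subgroup.closure {x : P | x ∈ R₂ ∧ x ^ p = 1} = ⁅R₁, R₁⁆ := by
  obtain ⟨hnc, hZ, hCcyc, hpowC⟩ := structure_E hp2 hreg hrk E hE hEcard
  refine ⟨E, Subgroup.centralizer (E : Set P), ?_, ?_, ?_, hEcard, ?_, hCcyc, ?_⟩
  · rcases dichotomy hp2 hreg hrk E hE hEcard with h | ⟨u, c₀, hu, hC⟩
    · exact h
    · exact (no_power_root hp2 hreg hrk E hE hEcard u c₀ hu hC 𝒜 hodd hgen).elim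
  · intro a ha b hb
    exact Subgroup.mem_centralizer_iff.mp hb a ha
  · intro h
    apply hnc
    intro x hx y hy
    have := h.is_comm.comm (⟨x, hx⟩ : E) ⟨y, hy⟩
    exact congrArg Subtype.val this
  · have hdvd : Monoid.exponent ↥E ∣ p :=
      Monoid.exponent_dvd_of_forall_pow_eq_one
        (fun g => Subtype.ext (by rw [Subgroup.coe_pow]; exact (hE g).mp g.2))
    rcases (Nat.dvd_prime hp.out).mp hdvd with h | h
    · exfalso
      have hsub : Subsingleton ↥E := Monoid.exp_eq_one_iff.mp h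
      have h1 : Nat.card E = 1 := Nat.card_eq_one_iff_unique.mpr ⟨hsub, ⟨1⟩⟩
      rw [hEcard] at h1
      have := Nat.one_lt_pow (n := 3) (by norm_num) hp.out.one_lt
      omega
    · exact h
  · obtain ⟨Z, hZdef⟩ : ∃ Z, Z = E ⊓ Subgroup.centralizer (E : Set P) := ⟨_, rfl⟩
    rw [← hZdef] at hZ
    have hset : {x : P | x ∈ Subgroup.centralizer (E : Set P) ∧ x ^ p = 1} = (Z : Set P) := by
      ext x
      rw [hZdef]
      constructor
      · rintro ⟨h1, h2⟩; exact Subgroup.mem_inf.mpr ⟨(hE x).mpr h2, h1⟩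
      · intro h; obtain ⟨h1, h2⟩ := Subgroup.mem_inf.mp h; exact ⟨h2, (hE x).mp h1⟩
    rw [hset, Subgroup.closure_eq]
    symm
    have hle : ⁅E, E⁆ ≤ Z := by
      rw [Subgroup.commutator_le]
      intro x hx y hy
      have h2 : ⁅(⟨x, hx⟩ : E), ⟨y, hy⟩⁆ ∈ Subgroup.center ↥E :=
        comm_mem_center_of_card_cube (q := p) hEcard _ _
      have hcoe : ((⁅(⟨x, hx⟩ : E), ⟨y, hy⟩⁆ : E) : P) = ⁅x, y⁆ := rfl
      rw [hZdef]
      refine Subgroup.mem_inf.mpr ⟨?_, ?_⟩
      · rw [← hcoe]; exact (⁅(⟨x, hx⟩ : E), ⟨y, hy⟩⁆ : E).2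
      · rw [Subgroup.mem_centralizer_iff]
        intro e he
        have := Subgroup.mem_center_iff.mp h2 ⟨e, he⟩
        have := congrArg Subtype.val this
        rw [Subgroup.coe_mul, Subgroup.coe_mul, hcoe] at this
        exact this
    have hne : ⁅E, E⁆ ≠ ⊥ := by
      intro h
      apply hnc
      intro x hx y hy
      have : ⁅x, y⁆ ∈ ⁅E, E⁆ := Subgroup.commutator_mem_commutator hx hy
      rw [h, Subgroup.mem_bot] at this
      exact commutatorElement_eq_one_iff_mul_comm.mp this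
    rcases eq_or_eq_of_card_mul_prime (p := p) (bot_le : ⊥ ≤ ⁅E, E⁆) hle
      (by rw [Subgroup.card_bot, one_mul]; exact hZ) with h | h
    · exact absurd h hne
    · exact h

end Cfsg.Agent.Lib.Helper1.BK
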