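import Mathlib
import Cfsg.Agent.Lib.Helper1.RT2
import Cfsg.Agent.Lib.Helper1.Rk3
import Cfsg.Agent.Lib.Helper1.BK1
import Cfsg.Agent.Lib.Helper1.SubnormalSylow
import Cfsg.Prelude.Def_OddOrderLocal

/-! Narrow `p`-groups of rank at least three (B&G Section 5): the automorphism group is an
extension of a `p`-group by an abelian group of exponent dividing `p - 1`. -/
set_option autoImplicit false
set_option maxHeartbeats 4000000
set_option linter.unusedVariables false
set_option linter.unusedSectionVars false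
set_option linter.style.haveILetI false
set_option linter.deprecated false
universe u v
open scoped commutatorElement

namespace Cfsg.Agent.Lib.Helper1.NW

open Cfsg Cfsg.Agent.Lib.Helper1 Subgroup

variable {p : ℕ} [hp : Fact p.Prime]

/-! ### Generalities -/

theorem mem_sup_of_commute' {G : Type*} [Group G] {H K : Subgroup G}
    (hc : ∀ a ∈ H, ∀ b ∈ K, a * b = b * a) {x : G} (hx : x ∈ H ⊔ K) :
    ∃ a ∈ H, ∃ b ∈ K, x = a * b := by
  rw [Subgroup.sup_eq_closure] at hx
  induction hx using Subgroup.closure_induction with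
  | mem y hy =>
    rcases hy with hy | hy
    · exact ⟨y, hy, 1, K.one_mem, (mul_one y).symm⟩
    · exact ⟨1, H.one_mem, y, hy, (one_mul y).symm⟩
  | one => exact ⟨1, H.one_mem, 1, K.one_mem, (mul_one 1).symm⟩
  | mul y z _ _ hy hz =>
    obtain ⟨a, ha, b, hb, rfl⟩ := hy
    obtain ⟨a', ha', b', hb', rfl⟩ := hz
    refine ⟨a * a', H.mul_mem ha ha', b * b', K.mul_mem hb hb', ?_⟩
    calc a * b * (a' * b') = a * (b * a') * b' := by group
      _ = a * (a' * b) * b' := by rw [hc a' ha' b hb]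
      _ = a * a' * (b * b') := by group
  | inv y _ hy =>
    obtain ⟨a, ha, b, hb, rfl⟩ := hy
    refine ⟨a⁻¹, H.inv_mem ha, b⁻¹, K.inv_mem hb, ?_⟩
    rw [mul_inv_rev, hc a⁻¹ (H.inv_mem ha) b⁻¹ (K.inv_mem hb)]

theorem isPGroup_of_coprime_trivial {B : Type v} [Group B] [Finite B]
    (h : ∀ b : B, (orderOf b).Coprime p → b = 1) : IsPGroup p B := by
  have hall : ∀ {q : ℕ}, q.Prime → q ∣ Nat.card B → q = p := by
    intro q hq hqd
    by_contra hne
    haveI : Fact q.Prime := ⟨hq⟩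
    obtain ⟨x, hx⟩ := exists_prime_orderOf_dvd_card' q hqd
    have h1 : x = 1 := h x (by rw [hx]; exact (Nat.coprime_primes hq hp.out).mpr hne)
    rw [h1, orderOf_one] at hx
    exact hq.ne_one hx.symm
  exact IsPGroup.of_card (Nat.eq_prime_pow_of_unique_prime_dvd (Nat.card_pos).ne' hall)

/-- A coprime automorphism with `b x = x y`, `b y = y`, `y` a `p`-element, has `y = 1`. -/
theorem eq_one_of_aut_coprime {R : Type u} [Group R] (b : MulAut R) (x y : R)
    (hbx : b x = x * y) (hby : b y = y) (j : ℕ) (hy : y ^ (p ^ j) = 1)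
    (hcop : (orderOf b).Coprime p) : y = 1 := by
  have h1 : ∀ n : ℕ, (b ^ n) x = x * y ^ n := by
    intro n
    induction n with
    | zero => simp
    | succ n ih =>
      rw [pow_succ', MulAut.mul_apply, ih, map_mul, map_pow, hbx, hby, pow_succ', mul_assoc]
  have h2 := h1 (orderOf b)
  rw [pow_orderOf_eq_one, MulAut.one_apply] at h2
  have h3 : y ^ orderOf b = 1 := by
    have h4 : x * 1 = x * y ^ orderOf b := by rw [mul_one]; exact h2
    exact (mul_left_cancel h4).symm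
  have h4 : orderOf y ∣ orderOf b := orderOf_dvd_of_pow_eq_one h3
  have h5 : orderOf y ∣ p ^ j := orderOf_dvd_of_pow_eq_one hy
  have h6 : orderOf y = 1 := Nat.eq_one_of_dvd_coprimes (Nat.Coprime.pow_right j hcop) h4 h5
  exact orderOf_eq_one_iff.mp h6

/-- Fibre counting for the map `v ↦ ⁅v, e⁆`. -/
theorem card_le_of_comm_fibers {R : Type u} [Group R] [Finite R] (M L Z : Subgroup R) (e : R)
    (h1 : ∀ v ∈ M, ⁅v, e⁆ ∈ L) (h2 : ∀ x ∈ M, x * e = e * x → x ∈ Z) :
    Nat.card M ≤ Nat.card L * Nat.card Z := by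
  classical
  obtain ⟨σ, hσ⟩ : ∃ σ : R → R, ∀ v : M, σ ⁅(v : R), e⁆ ∈ M ∧ ⁅σ ⁅(v : R), e⁆, e⁆ = ⁅(v : R), e⁆ := by
    refine ⟨fun y => if h : ∃ w : M, ⁅(w : R), e⁆ = y then ((Classical.choose h : M) : R) else 1, ?_⟩
    intro v
    have h : ∃ w : M, ⁅(w : R), e⁆ = ⁅(v : R), e⁆ := ⟨v, rfl⟩
    simp only [dif_pos h]
    exact ⟨(Classical.choose h).2, Classical.choose_spec h⟩
  have hcomm : ∀ a b : R, ⁅a, e⁆ = ⁅b, e⁆ → (a⁻¹ * b) * e = e * (a⁻¹ * b) := by
    intro a b hab
    rw [commutatorElement_def, commutatorElement_def] at hab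
    have h3 : a * e * a⁻¹ = b * e * b⁻¹ := mul_right_cancel hab
    calc a⁻¹ * b * e = a⁻¹ * (b * e * b⁻¹) * b := by group
      _ = a⁻¹ * (a * e * a⁻¹) * b := by rw [h3]
      _ = e * (a⁻¹ * b) := by group
  obtain ⟨g, hg⟩ : ∃ g : M → L × Z, ∀ v : M, ((g v).1 : R) = ⁅(v : R), e⁆ ∧
      ((g v).2 : R) = (σ ⁅(v : R), e⁆)⁻¹ * v := by
    refine ⟨fun v => (⟨⁅(v : R), e⁆, h1 v v.2⟩, ⟨(σ ⁅(v : R), e⁆)⁻¹ * v,
      h2 _ (M.mul_mem (M.inv_mem (hσ v).1) v.2) (hcomm _ _ (hσ v).2)⟩), ?_⟩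
    intro v
    exact ⟨rfl, rfl⟩
  have hginj : Function.Injective g := by
    intro v w hvw
    have h3 : ⁅(v : R), e⁆ = ⁅(w : R), e⁆ := by
      rw [← (hg v).1, ← (hg w).1, hvw]
    have h4 : (σ ⁅(v : R), e⁆)⁻¹ * v = (σ ⁅(w : R), e⁆)⁻¹ * w := by
      rw [← (hg v).2, ← (hg w).2, hvw]
    rw [h3] at h4
    exact Subtype.ext (mul_left_cancel h4)
  calc Nat.card M ≤ Nat.card (L × Z) := Nat.card_le_card_of_injective g hginj
    _ = Nat.card L * Nat.card Z := Nat.card_prod _ _

/-! ### Step (0): a characteristic subgroup of exponent `p` on which `p'`-automorphisms act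
faithfully -/

theorem exists_char_exp_faithful {R : Type u} [Group R] [Finite R] (hp2 : p ≠ 2)
    (hR : IsPGroup p R) :
    ∃ U : Subgroup R, U.Characteristic ∧ (∀ x ∈ U, x ^ p = 1) ∧
      ∀ a : MulAut R, Nat.Coprime (orderOf a) p → (∀ x ∈ U, a x = x) → a = 1 := by
  obtain ⟨H, hHchar, hfrat, hcomm, hcent⟩ := exists_critical_subgroup hR
  have hHp : IsPGroup p H := hR.to_subgroup H
  have hCC : CommCentral H := by
    intro x y z
    have h1 : ⁅(x : R), (y : R)⁆ ∈ ⁅H, (⊤ : Subgroup R)⁆ :=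
      Subgroup.commutator_mem_commutator x.2 (mem_top _)
    have h2 := (mem_inf.mp (hcomm h1)).2
    have h3 := mem_centralizer_iff.mp h2 z z.2
    apply Subtype.ext
    exact h3.symm
  obtain ⟨T, hT⟩ : ∃ T : Subgroup H, T = closure {x : H | x ^ p = 1} := ⟨_, rfl⟩
  have hTexp : ∀ x ∈ T, x ^ p = 1 := by
    intro x hx
    rw [hT] at hx
    exact hCC.omega_exponent hp.out hp2 x hx
  have hHinv : ∀ (a : MulAut R), ∀ x ∈ H, a x ∈ H := by
    intro a y hy
    have h1 := Subgroup.characteristic_iff_comap_eq.mp hHchar a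
    have h2 : y ∈ H.comap a.toMonoidHom := by rw [h1]; exact hy
    exact h2
  refine ⟨T.map H.subtype, ?_, ?_, ?_⟩
  · rw [Subgroup.characteristic_iff_map_le]
    intro φ
    rintro _ ⟨_, ⟨t, ht, rfl⟩, rfl⟩
    have htH : φ (t : R) ∈ H := hHinv φ _ t.2
    refine ⟨⟨φ t, htH⟩, ?_, rfl⟩
    rw [hT]
    apply Subgroup.subset_closure
    show (⟨φ (t : R), htH⟩ : H) ^ p = 1
    apply Subtype.ext
    rw [Subgroup.coe_pow]
    show (φ (t : R)) ^ p = 1
    rw [← map_pow]
    have := congrArg Subtype.val (hTexp t ht)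
    rw [Subgroup.coe_pow] at this
    rw [this]
    exact map_one φ
  · rintro _ ⟨t, ht, rfl⟩
    have := congrArg Subtype.val (hTexp t ht)
    rw [Subgroup.coe_pow] at this
    exact this
  · intro a hcop hfix
    apply coprime_aut_trivial_of_fix_self_centralizing hR H hHchar hcent a hcop
    obtain ⟨b, hb⟩ : ∃ b : MulAut H, b = restrictAut a H (hHinv a) := ⟨_, rfl⟩
    have hb1 : b = 1 := by
      apply coprime_aut_trivial_of_fix_omega hp2 hHp b
      · exact Nat.Coprime.coprime_dvd_left (hb ▸ orderOf_restrictAut_dvd a H (hHinv a)) hcop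
      · intro x hx
        have hxT : x ∈ T := by rw [hT]; exact Subgroup.subset_closure hx
        apply Subtype.ext
        rw [hb, restrictAut_apply]
        exact hfix _ ⟨x, hxT, rfl⟩
    intro x hx
    have h2 := congrArg (fun f : MulAut H => ((f ⟨x, hx⟩ : H) : R)) hb1
    simp only [MulAut.one_apply] at h2
    rw [hb, restrictAut_apply] at h2
    exact h2

/-! ### Action on characteristic sections -/

section sec
variable {R : Type u} [Group R]

theorem map_mem_iff_of_char (X : Subgroup R) (hX : X.Characteristic) (φ : MulAut R) (x : R) :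
    φ x ∈ X ↔ x ∈ X := by
  haveI := hX
  constructor
  · intro h
    have h1 := TF.map_mem_of_characteristic X φ⁻¹ h
    rwa [← MulAut.mul_apply, inv_mul_cancel, MulAut.one_apply] at h1
  · intro h
    exact TF.map_mem_of_characteristic X φ h

theorem inf_char (H K : Subgroup R) (hH : H.Characteristic) (hK : K.Characteristic) :
    (H ⊓ K).Characteristic := by
  rw [Subgroup.characteristic_iff_le_comap]
  intro φ x hx
  rw [Subgroup.mem_comap]
  exact Subgroup.mem_inf.mpr ⟨(map_mem_iff_of_char H hH φ x).mpr (Subgroup.mem_inf.mp hx).1,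
    (map_mem_iff_of_char K hK φ x).mpr (Subgroup.mem_inf.mp hx).2⟩

theorem map_subgroupOf_resAut (X Y : Subgroup R) [hX : X.Characteristic] (hY : Y.Characteristic)
    (φ : MulAut R) :
    (Y.subgroupOf X).map (TF.resAut X φ).toMonoidHom = Y.subgroupOf X := by
  ext x
  constructor
  · rintro ⟨y, hy, rfl⟩
    have hy' : (y : R) ∈ Y := Subgroup.mem_subgroupOf.mp hy
    rw [Subgroup.mem_subgroupOf]
    show φ (y : R) ∈ Y
    exact (map_mem_iff_of_char Y hY φ _).mpr hy'
  · intro hx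
    refine ⟨TF.resAut X φ⁻¹ x, ?_, ?_⟩
    · rw [Subgroup.mem_subgroupOf] at hx
      show φ⁻¹ (x : R) ∈ Y
      exact (map_mem_iff_of_char Y hY φ⁻¹ _).mpr hx
    · apply Subtype.ext
      show φ (φ⁻¹ (x : R)) = x
      rw [← MulAut.mul_apply, mul_inv_cancel, MulAut.one_apply]

/-- The action of `Aut R` on the section `X / (X ∩ Y)` for characteristic `X`, `Y`. -/
noncomputable def secAut (X Y : Subgroup R) [hX : X.Characteristic] [hY : Y.Characteristic] :
    MulAut R →* MulAut (↥X ⧸ Y.subgroupOf X) where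
  toFun φ := QuotientGroup.congr (Y.subgroupOf X) (Y.subgroupOf X) (TF.resAut X φ)
    (map_subgroupOf_resAut X Y hY φ)
  map_one' := by
    apply MulEquiv.ext
    intro y
    obtain ⟨x, rfl⟩ := QuotientGroup.mk_surjective y
    rfl
  map_mul' := by
    intro φ ψ
    apply MulEquiv.ext
    intro y
    obtain ⟨x, rfl⟩ := QuotientGroup.mk_surjective y
    rfl

theorem secAut_mk (X Y : Subgroup R) [hX : X.Characteristic] [hY : Y.Characteristic]
    (φ : MulAut R) (x : ↥X) :
    secAut X Y φ (x : ↥X ⧸ Y.subgroupOf X) =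
      ((TF.resAut X φ x : ↥X) : ↥X ⧸ Y.subgroupOf X) := rfl

theorem mem_ker_secAut_iff (X Y : Subgroup R) [hX : X.Characteristic] [hY : Y.Characteristic]
    (φ : MulAut R) : φ ∈ (secAut X Y).ker ↔ ∀ x ∈ X, x⁻¹ * φ x ∈ Y := by
  rw [MonoidHom.mem_ker]
  constructor
  · intro h x hx
    have h1 := congrArg (fun f : MulAut (↥X ⧸ Y.subgroupOf X) =>
      f ((⟨x, hx⟩ : ↥X) : ↥X ⧸ Y.subgroupOf X)) h
    beta_reduce at h1
    rw [secAut_mk, MulAut.one_apply] at h1
    have h2 := QuotientGroup.eq.mp h1.symm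
    rw [Subgroup.mem_subgroupOf] at h2
    exact h2
  · intro h
    apply MulEquiv.ext
    intro y
    obtain ⟨x, rfl⟩ := QuotientGroup.mk_surjective y
    rw [secAut_mk, MulAut.one_apply]
    have h2 : (x : ↥X ⧸ Y.subgroupOf X) =
        ((TF.resAut X φ x : ↥X) : ↥X ⧸ Y.subgroupOf X) := by
      rw [QuotientGroup.eq, Subgroup.mem_subgroupOf]
      exact h x x.2
    exact h2.symm

theorem isCyclic_section [Finite R] (hR : IsPGroup p R) (X Y : Subgroup R) [hY : Y.Normal]
    (hYX : Y ≤ X) (hcard : Nat.card X ≤ Nat.card Y * p) :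
    IsCyclic (↥X ⧸ Y.subgroupOf X) ∧ Nat.card (MulAut (↥X ⧸ Y.subgroupOf X)) ∣ p - 1 := by
  have h1 : Nat.card Y * Nat.card (↥X ⧸ Y.subgroupOf X) = Nat.card X := by
    rw [← Nat.card_congr (Subgroup.subgroupOfEquivOfLe hYX).toEquiv, ← Subgroup.index_eq_card]
    exact Subgroup.card_mul_index _
  have hQp : IsPGroup p (↥X ⧸ Y.subgroupOf X) := (hR.to_subgroup X).to_quotient _
  obtain ⟨j, hj⟩ := IsPGroup.iff_card.mp hQp
  have hYpos : 0 < Nat.card Y := Nat.card_pos
  have hle : Nat.card (↥X ⧸ Y.subgroupOf X) ≤ p := by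
    have h2 : Nat.card Y * Nat.card (↥X ⧸ Y.subgroupOf X) ≤ Nat.card Y * p := by
      rw [h1]; exact hcard
    exact Nat.le_of_mul_le_mul_left h2 hYpos
  have hj1 : j ≤ 1 := by
    by_contra hcon
    push Not at hcon
    have h3 : p ^ 2 ≤ p ^ j := Nat.pow_le_pow_right hp.out.pos hcon
    rw [hj] at hle
    have h4 : p < p ^ 2 := by nlinarith [hp.out.one_lt]
    omega
  rcases Nat.le_one_iff_eq_zero_or_eq_one.mp hj1 with h0 | h0
  · rw [h0, pow_zero] at hj
    haveI : Subsingleton (↥X ⧸ Y.subgroupOf X) := (Nat.card_eq_one_iff_unique.mp hj).1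
    haveI hcyc : IsCyclic (↥X ⧸ Y.subgroupOf X) := isCyclic_of_subsingleton
    refine ⟨hcyc, ?_⟩
    rw [IsCyclic.card_mulAut, hj, Nat.totient_one]
    exact one_dvd _
  · rw [h0, pow_one] at hj
    haveI hcyc : IsCyclic (↥X ⧸ Y.subgroupOf X) := isCyclic_of_prime_card hj
    refine ⟨hcyc, ?_⟩
    rw [IsCyclic.card_mulAut, hj, Nat.totient_prime hp.out]

theorem section_ker [Finite R] (hR : IsPGroup p R) (X Y : Subgroup R) [hX : X.Characteristic]
    [hY : Y.Characteristic] (hYX : Y ≤ X) (hcard : Nat.card X ≤ Nat.card Y * p) :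
    (∀ a b : MulAut R, ⁅a, b⁆ ∈ (secAut X Y).ker) ∧
      ∀ a : MulAut R, a ^ (p - 1) ∈ (secAut X Y).ker := by
  obtain ⟨hcyc, hdvd⟩ := isCyclic_section hR X Y hYX hcard
  haveI := hcyc
  constructor
  · intro a b
    rw [MonoidHom.mem_ker, map_commutatorElement, commutatorElement_eq_one_iff_mul_comm]
    exact RT.mulAut_comm_of_isCyclic _ _
  · intro a
    rw [MonoidHom.mem_ker, map_pow]
    exact orderOf_dvd_iff_pow_eq_one.mp ((_root_.orderOf_dvd_natCard _).trans hdvd)

end sec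

end Cfsg.Agent.Lib.Helper1.NW
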