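import Mathlib
import Cfsg.Agent.Lib.Helper1.NW1
import Cfsg.Agent.Lib.Helper1.PCore

/-! Narrow `p`-groups of rank at least three: the main theorem on automorphisms. -/
set_option autoImplicit false
set_option maxHeartbeats 4000000
set_option linter.unusedVariables false
set_option linter.unusedSectionVars false
set_option linter.style.haveILetI false
set_option linter.deprecated false
universe u v
open scoped commutatorElement

namespace Cfsg.Agent.Lib.Helper1.NW

open Cfsg Cfsg.Agent.Lib.Helper1 Subgroup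

variable {p : ℕ} [hp : Fact p.Prime]

theorem commute_zpowers {G : Type*} [Group G] {e x : G} (h : x * e = e * x) {a : G}
    (ha : a ∈ Subgroup.zpowers e) : a * x = x * a := by
  obtain ⟨k, rfl⟩ := Subgroup.mem_zpowers_iff.mp ha
  have hc : Commute e x := h.symm
  exact (hc.zpow_left k).eq

theorem narrow_data {R : Type u} [Group R] [Finite R] (hp2 : p ≠ 2) (hR : IsPGroup p R)
    (hr : ¬ Cfsg.PRankLE p 2 R) (hn : Cfsg.IsNarrow p R) :
    ∃ (e : R) (T Z : Subgroup R), T.Characteristic ∧ T.index = p ∧ Nat.card Z ≤ p ∧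
      ∀ x ∈ T, x ^ p = 1 → x * e = e * x → x ∈ Z := by
  classical
  have hp1 : 1 < p := hp.out.one_lt
  rcases hn with hn | ⟨R₀, R₁, hR₀, hR₁, hinf, hcomm, hsup⟩
  · exact absurd hn hr
  obtain ⟨e, heR₀, he1⟩ : ∃ e ∈ R₀, e ≠ 1 := by
    by_contra hcon
    push Not at hcon
    have h1 : R₀ = ⊥ := (Subgroup.eq_bot_iff_forall _).mpr hcon
    rw [h1, Subgroup.card_bot] at hR₀
    omega
  have hzp : Subgroup.zpowers e = R₀ := BK.zpowers_eq_of_card_prime hR₀ heR₀ he1
  have hep : e ^ p = 1 := BK.pow_prime_eq_one_of_mem_card_prime hR₀ heR₀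
  obtain ⟨C, hC⟩ : ∃ C : Subgroup R, C = Subgroup.centralizer (R₀ : Set R) := ⟨_, rfl⟩
  rw [← hC] at hsup
  have hCmem : ∀ x : R, x ∈ C ↔ x * e = e * x := by
    intro x
    rw [hC, Subgroup.mem_centralizer_iff]
    constructor
    · intro h; exact (h e heR₀).symm
    · intro h a ha
      have ha' : a ∈ Subgroup.zpowers e := by rw [hzp]; exact ha
      exact commute_zpowers h ha'
  have hR₀comm : ∀ a ∈ R₀, ∀ b ∈ R₀, a * b = b * a := by
    intro a ha b hb
    rw [← hzp] at ha hb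
    obtain ⟨i, rfl⟩ := Subgroup.mem_zpowers_iff.mp ha
    obtain ⟨j, rfl⟩ := Subgroup.mem_zpowers_iff.mp hb
    exact (Commute.zpow_zpow_self e i j).eq
  have hR₁comm : ∀ a ∈ R₁, ∀ b ∈ R₁, a * b = b * a := by
    intro a ha b hb
    haveI := hR₁
    obtain ⟨g, hg⟩ := IsCyclic.exists_generator (α := ↥R₁)
    obtain ⟨m, hm⟩ := Subgroup.mem_zpowers_iff.mp (hg ⟨a, ha⟩)
    obtain ⟨n, hn'⟩ := Subgroup.mem_zpowers_iff.mp (hg ⟨b, hb⟩)
    have h1 : (⟨a, ha⟩ : ↥R₁) * ⟨b, hb⟩ = ⟨b, hb⟩ * ⟨a, ha⟩ := by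
      rw [← hm, ← hn']; exact (Commute.zpow_zpow_self g m n).eq
    exact congrArg Subtype.val h1
  have hdec : ∀ x ∈ C, ∃ a ∈ R₀, ∃ b ∈ R₁, x = a * b := by
    intro x hx
    rw [← hsup] at hx
    exact mem_sup_of_commute' hcomm hx
  have hR₀C : R₀ ≤ C := by rw [← hsup]; exact le_sup_left
  have hR₁C : R₁ ≤ C := by rw [← hsup]; exact le_sup_right
  have hCcomm : ∀ x ∈ C, ∀ y ∈ C, x * y = y * x := by
    intro x hx y hy
    obtain ⟨a, ha, b, hb, rfl⟩ := hdec x hx
    obtain ⟨a', ha', b', hb', rfl⟩ := hdec y hy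
    calc a * b * (a' * b') = a * (b * a') * b' := by group
      _ = a * (a' * b) * b' := by rw [hcomm a' ha' b hb]
      _ = (a * a') * (b * b') := by group
      _ = (a' * a) * (b' * b) := by rw [hR₀comm a ha a' ha', hR₁comm b hb b' hb']
      _ = a' * (a * b') * b := by group
      _ = a' * (b' * a) * b := by rw [hcomm a ha b' hb']
      _ = a' * b' * (a * b) := by group
  obtain ⟨E, hE⟩ : ∃ E : Subgroup R, ∀ x, x ∈ E ↔ x ∈ C ∧ x ^ p = 1 := by
    refine ⟨{ carrier := {x | x ∈ C ∧ x ^ p = 1}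
              mul_mem' := ?_
              one_mem' := ?_
              inv_mem' := ?_ }, fun x => Iff.rfl⟩
    · intro x y hx hy
      obtain ⟨hx, hxp⟩ := hx
      obtain ⟨hy, hyp⟩ := hy
      refine ⟨C.mul_mem hx hy, ?_⟩
      have hc : Commute x y := hCcomm x hx y hy
      rw [hc.mul_pow, hxp, hyp, one_mul]
    · exact ⟨C.one_mem, one_pow p⟩
    · intro x hx
      obtain ⟨hx, hxp⟩ := hx
      exact ⟨C.inv_mem hx, by rw [inv_pow, hxp, inv_one]⟩
  have hEel : Cfsg.IsElementaryAbelian p E := by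
    refine ⟨⟨⟨fun a b => ?_⟩⟩, fun a ha => ((hE a).mp ha).2⟩
    apply Subtype.ext
    exact hCcomm a.1 ((hE _).mp a.2).1 b.1 ((hE _).mp b.2).1
  have hR₀E : R₀ ≤ E := fun a ha =>
    (hE a).mpr ⟨hR₀C ha, BK.pow_prime_eq_one_of_mem_card_prime hR₀ ha⟩
  have hR₁ne : R₁ ≠ ⊥ := by
    intro hbot
    apply hr
    have hCR₀ : C = R₀ := by rw [← hsup, hbot, sup_bot_eq]
    have hcen : Subgroup.center R ≤ R₀ := by
      rw [← hCR₀, hC]; exact Subgroup.center_le_centralizer _
    haveI : Nontrivial R := ⟨⟨e, 1, he1⟩⟩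
    haveI hcnt : Nontrivial (Subgroup.center R) := hR.center_nontrivial
    obtain ⟨z, hz1⟩ := exists_ne (1 : Subgroup.center R)
    have hzR₀ : (z : R) ∈ R₀ := hcen z.2
    have hz1' : (z : R) ≠ 1 := fun h => hz1 (Subtype.ext h)
    have hzz : Subgroup.zpowers (z : R) = R₀ := BK.zpowers_eq_of_card_prime hR₀ hzR₀ hz1'
    have hecen : e ∈ Subgroup.center R := by
      have h1 : e ∈ Subgroup.zpowers (z : R) := by rw [hzz]; exact heR₀
      exact (Subgroup.zpowers_le.mpr z.2) h1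
    have htop : C = ⊤ := by
      rw [eq_top_iff]
      intro x _
      rw [hCmem]
      exact Subgroup.mem_center_iff.mp hecen x
    have hcardR : Nat.card R = p := by
      rw [← Subgroup.card_top (G := R), ← htop, hCR₀, hR₀]
    intro A hAc hAe
    calc Nat.card A ≤ Nat.card R := Nat.le_of_dvd Nat.card_pos (Subgroup.card_subgroup_dvd_card A)
      _ = p := hcardR
      _ ≤ p ^ 2 := by nlinarith
  have hR₁p : IsPGroup p R₁ := hR.to_subgroup R₁
  obtain ⟨b₀, hb₀R₁, hb₀1, hb₀p⟩ : ∃ b ∈ R₁, b ≠ 1 ∧ b ^ p = 1 := by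
    have hnt : Nat.card R₁ ≠ 1 := fun h => hR₁ne (Subgroup.card_eq_one.mp h)
    obtain ⟨k, hk⟩ := IsPGroup.iff_card.mp hR₁p
    have hk0 : k ≠ 0 := by rintro rfl; exact hnt (by rw [hk, pow_zero])
    have hdvd : p ∣ Nat.card R₁ := by rw [hk]; exact dvd_pow_self p hk0
    obtain ⟨x, hx⟩ := exists_prime_orderOf_dvd_card' p hdvd
    refine ⟨x, x.2, ?_, ?_⟩
    · intro h
      have h1 : x = 1 := Subtype.ext h
      rw [h1, orderOf_one] at hx
      omega
    · have h1 : x ^ p = 1 := by rw [← hx]; exact pow_orderOf_eq_one x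
      have h2 := congrArg Subtype.val h1
      rwa [Subgroup.coe_pow] at h2
  have hb₀E : b₀ ∈ E := (hE b₀).mpr ⟨hR₁C hb₀R₁, hb₀p⟩
  have hb₀R₀ : b₀ ∉ R₀ := by
    intro h
    have h1 : b₀ ∈ R₀ ⊓ R₁ := Subgroup.mem_inf.mpr ⟨h, hb₀R₁⟩
    rw [hinf, Subgroup.mem_bot] at h1
    exact hb₀1 h1
  have hEp : IsPGroup p E := hR.to_subgroup E
  obtain ⟨k, hk⟩ := IsPGroup.iff_card.mp hEp
  have hk2 : 2 ≤ k := by
    by_contra hcon
    push Not at hcon
    have h1 : Nat.card E ≤ p := by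
      rw [hk]
      calc p ^ k ≤ p ^ 1 := Nat.pow_le_pow_right hp.out.pos (by omega)
        _ = p := pow_one p
    have h2 : R₀ = E := Subgroup.eq_of_le_of_card_ge hR₀E (by rw [hR₀]; exact h1)
    exact hb₀R₀ (by rw [h2]; exact hb₀E)
  obtain ⟨D, hD⟩ : ∃ D : Subgroup R, D = E ⊓ R₁ := ⟨_, rfl⟩
  have hDcard : Nat.card D ≤ p := by
    haveI := hR₁
    have hDR₁ : D ≤ R₁ := by rw [hD]; exact inf_le_right
    rw [← Nat.card_congr (Subgroup.subgroupOfEquivOfLe hDR₁).toEquiv]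
    obtain ⟨g, hg⟩ := IsCyclic.exists_generator (α := ↥(D.subgroupOf R₁))
    have h1 : orderOf g = Nat.card ↥(D.subgroupOf R₁) := orderOf_eq_card_of_forall_mem_zpowers hg
    have h2 : g ^ p = 1 := by
      apply Subtype.ext
      apply Subtype.ext
      have h3 : ((g : ↥R₁) : R) ∈ D := Subgroup.mem_subgroupOf.mp g.2
      have hDE : D ≤ E := by rw [hD]; exact inf_le_left
      have h4 := ((hE _).mp (hDE h3)).2
      simpa using h4
    rw [← h1]
    exact Nat.le_of_dvd hp.out.pos (orderOf_dvd_of_pow_eq_one h2)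
  have hEle : Nat.card E ≤ p * p := by
    obtain ⟨f, hf⟩ : ∃ f : ↥E → ↥R₀ × ↥D, ∀ x : ↥E, (x : R) = ((f x).1 : R) * ((f x).2 : R) := by
      have hex : ∀ x : ↥E, ∃ ab : ↥R₀ × ↥D, (x : R) = (ab.1 : R) * (ab.2 : R) := by
        intro x
        obtain ⟨hxC, hxp⟩ := (hE _).mp x.2
        obtain ⟨a, ha, b, hb, hab⟩ := hdec _ hxC
        have hbE : b ∈ E := by
          have h1 : b = a⁻¹ * x := by rw [hab]; group
          rw [h1]
          exact E.mul_mem (E.inv_mem (hR₀E ha)) x.2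
        have hbD : b ∈ D := by rw [hD]; exact Subgroup.mem_inf.mpr ⟨hbE, hb⟩
        exact ⟨(⟨a, ha⟩, ⟨b, hbD⟩), hab⟩
      exact ⟨fun x => Classical.choose (hex x), fun x => Classical.choose_spec (hex x)⟩
    have hfinj : Function.Injective f := by
      intro x y hxy
      apply Subtype.ext
      rw [hf x, hf y, hxy]
    calc Nat.card E ≤ Nat.card (↥R₀ × ↥D) := Nat.card_le_card_of_injective f hfinj
      _ = Nat.card R₀ * Nat.card D := Nat.card_prod _ _
      _ ≤ p * p := by rw [hR₀]; exact Nat.mul_le_mul_left p hDcard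
  have hE2 : Nat.card E = p ^ 2 := by
    have h1 : p ^ k ≤ p ^ 2 := by rw [← hk, pow_two]; exact hEle
    have h2 : k ≤ 2 := (Nat.pow_le_pow_iff_right hp1).mp h1
    have h3 : k = 2 := le_antisymm h2 hk2
    rw [hk, h3]
  have hEmax : ∀ B : Subgroup R, Cfsg.IsElementaryAbelian p B → E ≤ B → B = E := by
    intro B hB hEB
    apply le_antisymm _ hEB
    intro x hx
    rw [hE]
    refine ⟨?_, hB.2 x hx⟩
    rw [hCmem]
    have h1 := hB.1.is_comm.comm (⟨x, hx⟩ : ↥B) ⟨e, hEB (hR₀E heR₀)⟩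
    exact congrArg Subtype.val h1
  obtain ⟨hnot, -, -, hTchar, hTidx⟩ := Rk.s1453 hp2 hR hr E hEel hE2 hEmax
  obtain ⟨T, hT⟩ : ∃ T : Subgroup R, T = Subgroup.centralizer ((Subgroup.closure
      {x : R | x ∈ Subgroup.upperCentralSeries R 2 ∧ x ^ p = 1} : Subgroup R) : Set R) := ⟨_, rfl⟩
  rw [← hT] at hnot hTchar hTidx
  refine ⟨e, T, E ⊓ T, hTchar, hTidx, ?_, ?_⟩
  · have h1 : Nat.card (E ⊓ T : Subgroup R) ∣ p ^ 2 := by
      rw [← hE2]; exact Subgroup.card_dvd_of_le inf_le_left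
    obtain ⟨i, hi2, hi⟩ := (Nat.dvd_prime_pow hp.out).mp h1
    have hi1 : i ≤ 1 := by
      by_contra hcon
      have hi' : i = 2 := by omega
      rw [hi'] at hi
      have h2 : E ⊓ T = E := Subgroup.eq_of_le_of_card_ge inf_le_left (by rw [hi, hE2])
      apply hnot
      rw [← h2]
      exact inf_le_right
    rw [hi]
    calc p ^ i ≤ p ^ 1 := Nat.pow_le_pow_right hp.out.pos hi1
      _ = p := pow_one p
  · intro x hxT hxp hxe
    exact Subgroup.mem_inf.mpr ⟨(hE x).mpr ⟨(hCmem x).mpr hxe, hxp⟩, hxT⟩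

theorem narrow_main {R : Type u} [Group R] [Finite R] (hp2 : p ≠ 2) (hR : IsPGroup p R)
    (hr : ¬ Cfsg.PRankLE p 2 R) (hn : Cfsg.IsNarrow p R) :
    ∃ B : Subgroup (MulAut R), B.Normal ∧ IsPGroup p B ∧ (∀ a b : MulAut R, ⁅a, b⁆ ∈ B) ∧
      ∀ a : MulAut R, a ^ (p - 1) ∈ B := by
  classical
  obtain ⟨e, T, Z, hTchar, hTidx, hZcard, hZ⟩ := narrow_data hp2 hR hr hn
  obtain ⟨U, hUchar, hUexp, hUfaith⟩ := exists_char_exp_faithful hp2 hR
  obtain ⟨V, hV⟩ : ∃ V : Subgroup R, V = U ⊓ T := ⟨_, rfl⟩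
  have hVchar : V.Characteristic := by rw [hV]; exact inf_char U T hUchar hTchar
  have hVn : V.Normal := by haveI := hVchar; infer_instance
  obtain ⟨L, hL⟩ : ∃ L : ℕ → Subgroup R, ∀ k, L k = V ⊓ Subgroup.upperCentralSeries R k :=
    ⟨_, fun _ => rfl⟩
  have hLchar : ∀ k, (L k).Characteristic := by
    intro k; rw [hL k]; exact inf_char V _ hVchar inferInstance
  have hLmono : ∀ k, L k ≤ L (k + 1) := by
    intro k; rw [hL k, hL (k+1)]
    exact inf_le_inf_left V (Subgroup.upperCentralSeries_mono R (Nat.le_succ k))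
  have hL0 : L 0 = ⊥ := by rw [hL 0, Subgroup.upperCentralSeries_zero, inf_bot_eq]
  obtain ⟨n, hn'⟩ : ∃ n, L n = V := by
    haveI : Group.IsNilpotent R := hR.isNilpotent
    obtain ⟨n, hn'⟩ := Group.IsNilpotent.nilpotent' (G := R)
    exact ⟨n, by rw [hL n, hn', inf_top_eq]⟩
  have hLV : ∀ k, L k ≤ V := fun k => by rw [hL k]; exact inf_le_left
  have hLcard : ∀ k, Nat.card (L (k + 1)) ≤ Nat.card (L k) * p := by
    intro k
    have h1 : ∀ v ∈ L (k + 1), ⁅v, e⁆ ∈ L k := by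
      intro v hv
      rw [hL (k+1)] at hv
      obtain ⟨hvV, hvZ⟩ := Subgroup.mem_inf.mp hv
      rw [hL k]
      refine Subgroup.mem_inf.mpr ⟨?_, ?_⟩
      · have h2 : ⁅v, e⁆ = v * (e * v⁻¹ * e⁻¹) := by rw [commutatorElement_def]; group
        rw [h2]
        exact V.mul_mem hvV (hVn.conj_mem _ (V.inv_mem hvV) e)
      · rw [commutatorElement_def]
        exact Subgroup.mem_upperCentralSeries_succ_iff.mp hvZ e
    have h2 : ∀ x ∈ L (k + 1), x * e = e * x → x ∈ Z := by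
      intro x hx hxe
      have hxV := hLV _ hx
      rw [hV] at hxV
      obtain ⟨hxU, hxT⟩ := Subgroup.mem_inf.mp hxV
      exact hZ x hxT (hUexp x hxU) hxe
    calc Nat.card (L (k+1)) ≤ Nat.card (L k) * Nat.card Z :=
          card_le_of_comm_fibers _ _ Z e h1 h2
      _ ≤ Nat.card (L k) * p := Nat.mul_le_mul_left _ hZcard
  have hVU : V ≤ U := by rw [hV]; exact inf_le_left
  have hUcard : Nat.card U ≤ Nat.card V * p := by
    have h1 := relIndex_mul_card_inf T U
    have h2 : T.relIndex U ≤ p := by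
      rw [← hTidx, ← Subgroup.relIndex_top_right]
      apply Subgroup.relIndex_le_of_le_right le_top
      rw [Subgroup.relIndex_top_right, hTidx]
      exact hp.out.ne_zero
    rw [inf_comm, ← hV] at h1
    rw [← h1, mul_comm]
    exact Nat.mul_le_mul_left _ h2
  obtain ⟨B, hB⟩ : ∃ B : Subgroup (MulAut R),
      B = (⨅ k : ℕ, (@secAut R _ (L (k + 1)) (L k) (hLchar (k + 1)) (hLchar k)).ker) ⊓
        (@secAut R _ U V hUchar hVchar).ker := ⟨_, rfl⟩
  have hBmem : ∀ c : MulAut R, c ∈ B ↔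
      (∀ k, ∀ x ∈ L (k + 1), x⁻¹ * c x ∈ L k) ∧ ∀ x ∈ U, x⁻¹ * c x ∈ V := by
    intro c
    rw [hB, Subgroup.mem_inf, Subgroup.mem_iInf]
    constructor
    · rintro ⟨h1, h2⟩
      refine ⟨fun k => ?_, ?_⟩
      · haveI := hLchar (k + 1)
        haveI := hLchar k
        exact (mem_ker_secAut_iff (L (k+1)) (L k) c).mp (h1 k)
      · haveI := hUchar
        haveI := hVchar
        exact (mem_ker_secAut_iff U V c).mp h2
    · rintro ⟨h1, h2⟩
      refine ⟨fun k => ?_, ?_⟩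
      · haveI := hLchar (k + 1)
        haveI := hLchar k
        exact (mem_ker_secAut_iff (L (k+1)) (L k) c).mpr (h1 k)
      · haveI := hUchar
        haveI := hVchar
        exact (mem_ker_secAut_iff U V c).mpr h2
  have hBn : B.Normal := by
    rw [hB]
    haveI h1 : (⨅ k : ℕ, (@secAut R _ (L (k + 1)) (L k) (hLchar (k + 1)) (hLchar k)).ker).Normal :=
      Subgroup.normal_iInf_normal (fun k => MonoidHom.normal_ker _)
    infer_instance
  have hBc : ∀ a b : MulAut R, ⁅a, b⁆ ∈ B := by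
    intro a b
    rw [hB, Subgroup.mem_inf, Subgroup.mem_iInf]
    refine ⟨fun k => ?_, ?_⟩
    · haveI := hLchar (k + 1)
      haveI := hLchar k
      exact (section_ker hR (L (k+1)) (L k) (hLmono k) (hLcard k)).1 a b
    · haveI := hUchar
      haveI := hVchar
      exact (section_ker hR U V hVU hUcard).1 a b
  have hBpow : ∀ a : MulAut R, a ^ (p - 1) ∈ B := by
    intro a
    rw [hB, Subgroup.mem_inf, Subgroup.mem_iInf]
    refine ⟨fun k => ?_, ?_⟩
    · haveI := hLchar (k + 1)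
      haveI := hLchar k
      exact (section_ker hR (L (k+1)) (L k) (hLmono k) (hLcard k)).2 a
    · haveI := hUchar
      haveI := hVchar
      exact (section_ker hR U V hVU hUcard).2 a
  have hBp : IsPGroup p B := by
    apply isPGroup_of_coprime_trivial
    intro b hb
    have hb' : (orderOf (b : MulAut R)).Coprime p := by rwa [Subgroup.orderOf_coe]
    obtain ⟨hk, hU'⟩ := (hBmem b).mp b.2
    have hfixL : ∀ k, ∀ x ∈ L k, (b : MulAut R) x = x := by
      intro k
      induction k with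
      | zero =>
        intro x hx
        rw [hL0, Subgroup.mem_bot] at hx
        rw [hx, map_one]
      | succ k ih =>
        intro x hx
        have hy := hk k x hx
        obtain ⟨j, hj⟩ := hR (x⁻¹ * (b : MulAut R) x)
        have h1 : x⁻¹ * (b : MulAut R) x = 1 :=
          eq_one_of_aut_coprime (b : MulAut R) x _ (by group) (ih _ hy) j hj hb'
        calc (b : MulAut R) x = x * (x⁻¹ * (b : MulAut R) x) := by group
          _ = x := by rw [h1, mul_one]
    have hfixV : ∀ x ∈ V, (b : MulAut R) x = x := by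
      intro x hx; rw [← hn'] at hx; exact hfixL n x hx
    have hfixU : ∀ x ∈ U, (b : MulAut R) x = x := by
      intro x hx
      have hy := hU' x hx
      obtain ⟨j, hj⟩ := hR (x⁻¹ * (b : MulAut R) x)
      have h1 : x⁻¹ * (b : MulAut R) x = 1 :=
        eq_one_of_aut_coprime (b : MulAut R) x _ (by group) (hfixV _ hy) j hj hb'
      calc (b : MulAut R) x = x * (x⁻¹ * (b : MulAut R) x) := by group
        _ = x := by rw [h1, mul_one]
    exact Subtype.ext (hUfaith _ hb' hfixU)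
  exact ⟨B, hBn, hBp, hBc, hBpow⟩

/-- Consequence for a group acting on a narrow `p`-group of rank at least three. -/
theorem narrow_faithful {R : Type u} {A : Type v} [Group R] [Finite R] [Group A]
    (hp2 : p ≠ 2) (hR : IsPGroup p R) (hr : ¬ Cfsg.PRankLE p 2 R) (hn : Cfsg.IsNarrow p R)
    (ζ : A →* MulAut R) (hζ : IsPGroup p ζ.ker) :
    ∃ B : Subgroup A, B.Normal ∧ IsPGroup p B ∧ commutator A ≤ B ∧ ∀ a : A, a ^ (p - 1) ∈ B := by
  obtain ⟨B₀, hBn, hBp, hBc, hBpow⟩ := narrow_main hp2 hR hr hn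
  refine ⟨B₀.comap ζ, hBn.comap ζ, hBp.comap_of_ker_isPGroup ζ hζ, ?_, ?_⟩
  · rw [commutator_def, Subgroup.commutator_le]
    intro a _ b _
    rw [Subgroup.mem_comap, map_commutatorElement]
    exact hBc _ _
  · intro a
    rw [Subgroup.mem_comap, map_pow]
    exact hBpow _

theorem pCore_facts {A : Type v} [Group A] [Finite A] (B : Subgroup A) (hBn : B.Normal)
    (hBp : IsPGroup p B) (hc : commutator A ≤ B) :
    commutator A ≤ Cfsg.pCore p A ∧ ((Cfsg.pCore p A).index).Coprime p := by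
  have hcomm : commutator A ≤ Cfsg.pCore p A := hc.trans (le_pCore hBn hBp)
  refine ⟨hcomm, ?_⟩
  obtain ⟨S⟩ : Nonempty (Sylow p A) := inferInstance
  have hRS : Cfsg.pCore p A ≤ (S : Subgroup A) := by
    rw [pCore_eq_iInf_sylow]; exact iInf_le _ S
  have hSn : (S : Subgroup A).Normal := by
    constructor
    intro s hs g
    have h1 : g * s * g⁻¹ = ⁅g, s⁆ * s := by rw [commutatorElement_def]; group
    rw [h1]
    apply Subgroup.mul_mem _ _ hs
    apply hRS
    apply hcomm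
    rw [_root_.commutator_def]
    exact Subgroup.commutator_mem_commutator (mem_top _) (mem_top _)
  have hSR : (S : Subgroup A) ≤ Cfsg.pCore p A := le_pCore hSn S.2
  have hSeq : Cfsg.pCore p A = (S : Subgroup A) := le_antisymm hRS hSR
  rw [hSeq]
  exact ((Nat.Prime.coprime_iff_not_dvd hp.out).mpr S.not_dvd_index).symm

theorem orderOf_dvd_of_pow_mem {A : Type v} [Group A] (B : Subgroup A)
    (hBp : IsPGroup p B) (hpow : ∀ a : A, a ^ (p - 1) ∈ B) (a : A)
    (hcop : (orderOf a).Coprime p) : orderOf a ∣ p - 1 := by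
  obtain ⟨k, hk⟩ := hBp ⟨a ^ (p - 1), hpow a⟩
  have h1 : (a ^ (p - 1)) ^ (p ^ k) = 1 := by
    have h0 := congrArg Subtype.val hk
    rwa [Subgroup.coe_pow] at h0
  have h2 : orderOf (a ^ (p - 1)) ∣ p ^ k := orderOf_dvd_of_pow_eq_one h1
  have h3 : orderOf (a ^ (p - 1)) ∣ orderOf a := orderOf_pow_dvd (p - 1)
  have h4 : orderOf (a ^ (p - 1)) = 1 :=
    Nat.eq_one_of_dvd_coprimes (Nat.Coprime.pow_right k hcop) h3 h2
  exact orderOf_dvd_of_pow_eq_one (orderOf_eq_one_iff.mp h4)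

end Cfsg.Agent.Lib.Helper1.NW
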