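import Mathlib
import Cfsg.Agent.Lib.Helper1.RT5
import Cfsg.Agent.Lib.Helper1.Fitting
import Cfsg.Agent.Lib.Helper3.Fitting
import Cfsg.Prelude.Def_OddOrderLocal

set_option autoImplicit false
universe u v
open scoped commutatorElement

namespace Cfsg.Agent.Lib.Helper1.RT

open Cfsg Cfsg.Agent.Lib.Helper1 Subgroup

theorem pRankLE_of_injective {H : Type u} {G : Type v} [Group H] [Group G] {p k : ℕ} (f : H →* G)
    (hf : Function.Injective f) (h : Cfsg.PRankLE p k G) : Cfsg.PRankLE p k H := by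
  intro A hAc hAexp
  have h1 := h (A.map f) ?_ ?_
  · rwa [Subgroup.card_map_of_injective hf] at h1
  · refine ⟨⟨?_⟩⟩
    rintro ⟨_, a, ha, rfl⟩ ⟨_, b, hb, rfl⟩
    apply Subtype.ext
    show f a * f b = f b * f a
    rw [← map_mul, ← map_mul]
    have := hAc.is_comm.comm ⟨a, ha⟩ ⟨b, hb⟩
    exact congrArg (fun t : A => f (t : H)) this
  · rintro _ ⟨a, ha, rfl⟩
    rw [← map_pow, hAexp a ha, map_one]

theorem rank_pCore_of_hyp {G : Type u} [Group G] [Finite G]
    (hr : Cfsg.RankLE 2 G ∨ Cfsg.RankLE 2 (Cfsg.fittingSubgroup G)) (r : ℕ) [hr' : Fact r.Prime] :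
    Cfsg.PRankLE r 2 ↥(Cfsg.pCore r G) := by
  rcases hr with h | h
  · exact Rk.pRankLE_subgroup (h r hr'.out) _
  · exact pRankLE_of_injective (Subgroup.inclusion (Helper3.pCore_le_fittingSubgroup r))
      (Subgroup.inclusion_injective _) (h r hr'.out)

/-- The action of an odd-order solvable group on a normal `r`-subgroup of rank at most two. -/
theorem act_lemma {G : Type u} [Group G] [Finite G] [Group.IsSolvable G] (hodd : Odd (Nat.card G))
    {r : ℕ} [hr : Fact r.Prime] (Q : Subgroup G) [hQn : Q.Normal] (hQ : IsPGroup r Q)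
    (hrk : Cfsg.PRankLE r 2 ↥Q) :
    (∀ g ∈ commutator G, ∃ k : ℕ, g ^ (r ^ k) ∈ Subgroup.centralizer (Q : Set G)) ∧
    (∀ q : ℕ, q.Prime → q ∣ (Subgroup.centralizer (Q : Set G)).index → q ≤ r) := by
  by_cases hr2 : r = 2
  · subst hr2
    have hQbot : Q = ⊥ := by
      obtain ⟨k, hk⟩ := IsPGroup.iff_card.mp hQ
      rcases Nat.eq_zero_or_pos k with h0 | h0
      · rw [h0, pow_zero] at hk
        exact Subgroup.card_eq_one.mp hk
      · exfalso
        have h1 : 2 ∣ Nat.card Q := by rw [hk]; exact dvd_pow_self 2 h0.ne'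
        have h2 : 2 ∣ Nat.card G := h1.trans (Subgroup.card_subgroup_dvd_card _)
        exact (Nat.not_even_iff_odd.mpr hodd) (even_iff_two_dvd.mpr h2)
    have hcent : Subgroup.centralizer (Q : Set G) = ⊤ := by
      rw [hQbot, Subgroup.coe_bot, Subgroup.centralizer_eq_top_iff_subset]
      intro x hx
      rw [Set.mem_singleton_iff] at hx
      rw [hx]
      exact Subgroup.one_mem _
    rw [hcent]
    refine ⟨fun g _ => ⟨0, mem_top _⟩, ?_⟩
    intro q hq hqd
    rw [Subgroup.index_top] at hqd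
    exact absurd (Nat.dvd_one.mp hqd) hq.ne_one
  obtain ⟨ζ₀, hζ₀⟩ : ∃ ζ₀ : G →* MulAut ↥Q, ζ₀ = MulAut.conjNormal := ⟨_, rfl⟩
  have hker : ζ₀.ker ≤ Subgroup.centralizer (Q : Set G) := by
    intro g hg
    rw [Subgroup.mem_centralizer_iff]
    intro x hx
    rw [MonoidHom.mem_ker] at hg
    have h1 := congrArg (fun f : MulAut ↥Q => ((f ⟨x, hx⟩ : ↥Q) : G)) hg
    beta_reduce at h1
    rw [hζ₀, MulAut.conjNormal_apply] at h1
    simp only [MulAut.one_apply] at h1
    calc x * g = (g * x * g⁻¹) * g := by rw [h1]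
      _ = g * x := by group
  have hinj : Function.Injective (QuotientGroup.kerLift ζ₀) := QuotientGroup.kerLift_injective ζ₀
  have hBodd : Odd (Nat.card (G ⧸ ζ₀.ker)) :=
    Odd.of_dvd_nat hodd (Subgroup.card_quotient_dvd_card _)
  have hBsolv : Group.IsSolvable (G ⧸ ζ₀.ker) :=
    Group.isSolvable_of_surjective (QuotientGroup.mk'_surjective ζ₀.ker)
  have key := commutator_pElements_of_faithful hr2 hQ hrk (QuotientGroup.kerLift ζ₀) hinj hBodd
    hBsolv
  constructor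
  · intro g hg
    have h1 := map_mem_commutator (QuotientGroup.mk' ζ₀.ker) hg
    obtain ⟨k, hk⟩ := key _ h1
    rw [QuotientGroup.mk'_apply, ← QuotientGroup.mk_pow, QuotientGroup.eq_one_iff] at hk
    exact ⟨k, hker hk⟩
  · intro q hq hqd
    by_cases hqr : q = r
    · exact hqr.le
    have h2 : q ∣ ζ₀.ker.index := hqd.trans (Subgroup.index_dvd_of_le hker)
    have h3 : Nat.card (G ⧸ ζ₀.ker) ∣ Nat.card (MulAut ↥Q) :=
      Subgroup.card_dvd_of_injective _ hinj
    exact (Rk.s0640 hr2 hQ hrk q hq hqr (h2.trans h3)).2.le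

/-- Normal closure of a set of `p`-elements inside a `p`-subgroup. -/
theorem central_npc {L : Type u} [Group L] [Finite L] {p : ℕ} [hp : Fact p.Prime] (A : Subgroup L)
    (hA : ∀ a ∈ A, ∀ l : L, a * l = l * a) (hcop : (Nat.card A).Coprime p)
    (hq : ∀ g : L, ∃ k : ℕ, g ^ (p ^ k) ∈ A) :
    ∃ P : Subgroup L, IsPGroup p P ∧ ∀ x : L, (∃ k : ℕ, x ^ (p ^ k) = 1) → x ∈ P := by
  have hAn : A.Normal := by
    constructor
    intro a ha g
    rw [← hA a ha g, mul_inv_cancel_right]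
    exact ha
  obtain ⟨P⟩ : Nonempty (Sylow p L) := inferInstance
  have hcompl := (npc_of_normal_coprime A hcop hq).1 P
  refine ⟨P, P.2, ?_⟩
  rintro x ⟨k, hk⟩
  obtain ⟨⟨⟨a, ha⟩, ⟨y, hy⟩⟩, hay, -⟩ := hcompl.existsUnique x
  simp only at hay
  have h1 : a ^ (p ^ k) * y ^ (p ^ k) = 1 := by
    rw [← hk, ← hay]
    exact ((Commute.mul_pow (hA a ha y) _)).symm
  have h2 : a ^ (p ^ k) ∈ A ⊓ (P : Subgroup L) := by
    refine Subgroup.mem_inf.mpr ⟨A.pow_mem ha _, ?_⟩
    rw [eq_inv_of_mul_eq_one_left h1]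
    exact Subgroup.inv_mem _ (Subgroup.pow_mem _ hy _)
  rw [hcompl.disjoint.eq_bot, Subgroup.mem_bot] at h2
  have h3 : orderOf a ∣ p ^ k := orderOf_dvd_of_pow_eq_one h2
  have h4 : orderOf a ∣ Nat.card A := by
    have := orderOf_dvd_natCard (⟨a, ha⟩ : A)
    rwa [← Subgroup.orderOf_coe] at this
  have h5 : orderOf a = 1 :=
    Nat.eq_one_of_dvd_coprimes (Nat.Coprime.pow_right k hcop) h4 h3
  rw [orderOf_eq_one_iff] at h5
  rw [← hay, h5, one_mul]
  exact hy

end Cfsg.Agent.Lib.Helper1.RT
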