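import Mathlib
import Cfsg.Agent.Lib.Helper1.NW2
import Cfsg.Agent.Lib.Helper1.RT6
import Cfsg.Agent.Lib.Helper4.SylTwoMax1

/-! Transfer lemmas for narrow groups and the rank-two prime-order part of B&G Theorem 5.5. -/
set_option autoImplicit false
set_option maxHeartbeats 4000000
set_option linter.unusedVariables false
set_option linter.unusedSectionVars false
set_option linter.style.haveILetI false
set_option linter.deprecated false
universe u v
open scoped commutatorElement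

namespace Cfsg.Agent.Lib.Helper1.NW

open Cfsg Cfsg.Agent.Lib.Helper1 Subgroup

variable {p : ℕ} [hp : Fact p.Prime]

theorem sq_sub_one (n : ℕ) (hn : 1 ≤ n) : n ^ 2 - 1 = (n - 1) * (n + 1) := by
  obtain ⟨m, rfl⟩ : ∃ m, n = m + 1 := ⟨n - 1, by omega⟩
  have h : (m + 1) ^ 2 = m * (m + 1 + 1) + 1 := by ring
  rw [h]
  simp

theorem zeta_injective {G : Type*} [Group G] (R A : Subgroup G)
    (hA : A ≤ Subgroup.normalizer (R : Set G))
    (hfaith : A ⊓ Subgroup.centralizer (R : Set G) = ⊥) :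
    Function.Injective (TF.zeta R A hA) := by
  rw [injective_iff_map_eq_one]
  intro a ha
  have h1 : (a : G) ∈ A ⊓ Subgroup.centralizer (R : Set G) := by
    refine Subgroup.mem_inf.mpr ⟨a.2, ?_⟩
    rw [Subgroup.mem_centralizer_iff]
    intro r hr'
    have h2 := congrArg (fun f : MulAut ↥R => ((f ⟨r, hr'⟩ : ↥R) : G)) ha
    beta_reduce at h2
    rw [TF.zeta_apply] at h2
    simp only [MulAut.one_apply] at h2
    calc r * (a : G) = ((a : G) * r * (a : G)⁻¹) * (a : G) := by rw [h2]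
      _ = (a : G) * r := by group
  rw [hfaith, Subgroup.mem_bot] at h1
  exact Subtype.ext h1

theorem isNarrow_of_mulEquiv {R : Type u} {R' : Type v} [Group R] [Group R'] (e : R ≃* R')
    (h : Cfsg.IsNarrow p R) : Cfsg.IsNarrow p R' := by
  rcases h with h | ⟨R₀, R₁, h0, h1, h2, h3, h4⟩
  · left
    exact RT.pRankLE_of_injective e.symm.toMonoidHom e.symm.injective h
  · right
    refine ⟨R₀.map e.toMonoidHom, R₁.map e.toMonoidHom, ?_, ?_, ?_, ?_, ?_⟩
    · rw [Subgroup.card_map_of_injective (f := e.toMonoidHom) e.injective]; exact h0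
    · haveI := h1
      exact isCyclic_of_surjective (R₁.equivMapOfInjective e.toMonoidHom e.injective)
        (MulEquiv.surjective _)
    · rw [← Subgroup.map_inf _ _ e.toMonoidHom e.injective, h2, Subgroup.map_bot]
    · rintro _ ⟨a, ha, rfl⟩ _ ⟨b, hb, rfl⟩
      show e a * e b = e b * e a
      rw [← map_mul, ← map_mul, h3 a ha b hb]
    · rw [← Subgroup.map_sup, h4]
      ext y
      constructor
      · rintro ⟨x, hx, rfl⟩
        rw [Subgroup.mem_centralizer_iff]
        rintro _ ⟨a, ha, rfl⟩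
        have h5 := Subgroup.mem_centralizer_iff.mp hx a ha
        show e a * e x = e x * e a
        rw [← map_mul, ← map_mul, h5]
      · intro hy
        refine ⟨e.symm y, ?_, e.apply_symm_apply y⟩
        show e.symm y ∈ Subgroup.centralizer (R₀ : Set R)
        rw [Subgroup.mem_centralizer_iff]
        intro a ha
        have h5 := Subgroup.mem_centralizer_iff.mp hy (e a) ⟨a, ha, rfl⟩
        apply e.injective
        rw [map_mul, map_mul, e.apply_symm_apply]
        exact h5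

theorem pRankLE_of_sylow {G : Type u} [Group G] [Finite G] {k : ℕ} (S : Sylow p G)
    (h : Cfsg.PRankLE p k ↥(S : Subgroup G)) : Cfsg.PRankLE p k G := by
  intro A hAc hAexp
  have hAp : IsPGroup p A := by
    intro a
    refine ⟨1, ?_⟩
    apply Subtype.ext
    rw [pow_one, Subgroup.coe_pow]
    exact hAexp a a.2
  obtain ⟨g, hg⟩ := Cfsg.Agent.Lib.Helper4.SylTwoMax1.exists_conj_le_sylow S A hAp
  obtain ⟨f, hf⟩ : ∃ f : ↥A →* ↥(S : Subgroup G), ∀ a : ↥A, ((f a : ↥(S : Subgroup G)) : G) = g * a * g⁻¹ := by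
    refine ⟨{ toFun := fun a => ⟨g * a * g⁻¹, hg a a.2⟩
              map_one' := ?_
              map_mul' := ?_ }, fun a => rfl⟩
    · apply Subtype.ext
      show g * ((1 : ↥A) : G) * g⁻¹ = 1
      rw [Subgroup.coe_one, mul_one, mul_inv_cancel]
    · intro a b
      apply Subtype.ext
      show g * ((a * b : ↥A) : G) * g⁻¹ = (g * a * g⁻¹) * (g * b * g⁻¹)
      rw [Subgroup.coe_mul]
      group
  have hfinj : Function.Injective f := by
    intro a b hab
    have h1 : g * (a : G) * g⁻¹ = g * (b : G) * g⁻¹ := by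
      rw [← hf a, ← hf b, hab]
    apply Subtype.ext
    exact mul_left_cancel (mul_right_cancel h1)
  have h2 := RT.pRankLE_of_injective f hfinj h ⊤ ?_ ?_
  · rwa [Subgroup.card_top] at h2
  · exact ⟨⟨fun a b => Subtype.ext (hAc.is_comm.comm a.1 b.1)⟩⟩
  · intro a _
    apply Subtype.ext
    rw [Subgroup.coe_pow]
    exact hAexp a a.2

/-- The final part of B&G Theorem 5.5(c): a group of prime order `q ∤ p (p - 1)` acting on
`R = R₁ ∘ R₂` with `[R, A] = R` forces `R = R₁`. -/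
theorem card_cube_of_prime_act {G : Type*} [Group G] [Finite G] (R A : Subgroup G)
    (hR : IsPGroup p R) (hA : A ≤ Subgroup.normalizer (R : Set G)) {q : ℕ} (hq : q.Prime)
    (hAq : Nat.card A = q) (hqp : ¬ q ∣ p * (p - 1)) (hRA : ⁅R, A⁆ = R)
    (R₁ R₂ : Subgroup G) (hsup : R₁ ⊔ R₂ = R) (hcm : ∀ a ∈ R₁, ∀ b ∈ R₂, a * b = b * a)
    (hc1 : Nat.card R₁ = p ^ 3) (hexp : Monoid.exponent R₁ = p) (hcyc : IsCyclic R₂)
    (hcl : Subgroup.closure {x : G | x ∈ R₂ ∧ x ^ p = 1} = ⁅R₁, R₁⁆) : Nat.card R = p ^ 3 := by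
  classical
  have hR₁R : R₁ ≤ R := by rw [← hsup]; exact le_sup_left
  have hR₂R : R₂ ≤ R := by rw [← hsup]; exact le_sup_right
  have hcomR₁ : ⁅R₁, R₁⁆ ≤ R₁ := by
    rw [Subgroup.commutator_le]
    intro a ha b hb
    rw [commutatorElement_def]
    exact R₁.mul_mem (R₁.mul_mem (R₁.mul_mem ha hb) (R₁.inv_mem ha)) (R₁.inv_mem hb)
  have hpowR₁ : ∀ x ∈ R₁, x ^ p = 1 := by
    intro x hx1
    have h1 : (⟨x, hx1⟩ : ↥R₁) ^ p = 1 := by rw [← hexp]; exact Monoid.pow_exponent_eq_one _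
    have h2 := congrArg Subtype.val h1
    rwa [Subgroup.coe_pow] at h2
  have hmemR₁ : ∀ x ∈ R, (x ∈ R₁ ↔ x ^ p = 1) := by
    intro x hx
    constructor
    · exact hpowR₁ x
    · intro hxp
      rw [← hsup] at hx
      obtain ⟨a, ha, b, hb, rfl⟩ := mem_sup_of_commute' hcm hx
      have hc : Commute a b := hcm a ha b hb
      rw [hc.mul_pow, hpowR₁ a ha, one_mul] at hxp
      have hb1 : b ∈ R₁ := by
        apply hcomR₁
        rw [← hcl]
        exact Subgroup.subset_closure ⟨hb, hxp⟩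
      exact R₁.mul_mem ha hb1
  obtain ⟨N, hN⟩ : ∃ N : Subgroup ↥R, N = R₁.subgroupOf R := ⟨_, rfl⟩
  have hNmem : ∀ x : ↥R, x ∈ N ↔ x ^ p = 1 := by
    intro x
    rw [hN, Subgroup.mem_subgroupOf, hmemR₁ _ x.2]
    constructor
    · intro h; apply Subtype.ext; rw [Subgroup.coe_pow]; exact h
    · intro h
      have h1 := congrArg Subtype.val h
      rwa [Subgroup.coe_pow] at h1
  have hNchar : N.Characteristic := by
    rw [Subgroup.characteristic_iff_le_comap]
    intro φ x hx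
    rw [Subgroup.mem_comap, hNmem]
    show (φ x) ^ p = 1
    rw [← map_pow, (hNmem x).mp hx, map_one]
  haveI := hNchar
  have hQcyc : IsCyclic (↥R ⧸ N) := by
    haveI := hcyc
    obtain ⟨g, hg⟩ := IsCyclic.exists_generator (α := ↥R₂)
    refine ⟨⟨((⟨(g : G), hR₂R g.2⟩ : ↥R) : ↥R ⧸ N), fun y => ?_⟩⟩
    obtain ⟨r, rfl⟩ := QuotientGroup.mk_surjective y
    have hr : (r : G) ∈ R₁ ⊔ R₂ := by rw [hsup]; exact r.2
    obtain ⟨a, ha, b, hb, hab⟩ := mem_sup_of_commute' hcm hr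
    obtain ⟨i, hi⟩ := Subgroup.mem_zpowers_iff.mp (hg ⟨b, hb⟩)
    refine ⟨i, ?_⟩
    show ((⟨(g : G), hR₂R g.2⟩ : ↥R) : ↥R ⧸ N) ^ i = (r : ↥R ⧸ N)
    rw [← QuotientGroup.mk_zpow, QuotientGroup.eq, hN, Subgroup.mem_subgroupOf]
    have h2 : ((g : G)) ^ i = b := by
      have h3 := congrArg Subtype.val hi
      rwa [Subgroup.coe_zpow] at h3
    have h1 : (((⟨(g : G), hR₂R g.2⟩ : ↥R) ^ i)⁻¹ * r : ↥R) = (a : G) := by
      rw [Subgroup.coe_mul, Subgroup.coe_inv, Subgroup.coe_zpow]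
      show ((g : G) ^ i)⁻¹ * (r : G) = a
      rw [h2, hab, hcm a ha b hb]
      group
    rw [h1]; exact ha
  obtain ⟨ρ, hρ⟩ : ∃ ρ : ↥A →* MulAut (↥R ⧸ N), ρ = (RT.quotAut N).comp (TF.zeta R A hA) :=
    ⟨_, rfl⟩
  have hρ1 : ∀ a : ↥A, ρ a = 1 := by
    intro a
    have h1 : orderOf (ρ a) ∣ q := by
      rw [← hAq]; exact (orderOf_map_dvd ρ a).trans (_root_.orderOf_dvd_natCard a)
    have h2 : orderOf (ρ a) ∣ Nat.card (MulAut (↥R ⧸ N)) := _root_.orderOf_dvd_natCard _
    haveI := hQcyc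
    rw [IsCyclic.card_mulAut] at h2
    have hQp : IsPGroup p (↥R ⧸ N) := hR.to_quotient N
    obtain ⟨k, hk⟩ := IsPGroup.iff_card.mp hQp
    rw [hk] at h2
    have hcop : Nat.Coprime q (Nat.totient (p ^ k)) := by
      rcases Nat.eq_zero_or_pos k with h0 | h0
      · rw [h0, pow_zero, Nat.totient_one]; exact Nat.coprime_one_right q
      · rw [Nat.totient_prime_pow hp.out h0]
        have hqp' : ¬ q ∣ p := fun h => hqp (h.mul_right _)
        have hqp1 : ¬ q ∣ p - 1 := fun h => hqp (h.mul_left _)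
        exact Nat.Coprime.mul_right
          (Nat.Coprime.pow_right _ ((Nat.Prime.coprime_iff_not_dvd hq).mpr hqp'))
          ((Nat.Prime.coprime_iff_not_dvd hq).mpr hqp1)
    have h3 : orderOf (ρ a) = 1 := Nat.eq_one_of_dvd_coprimes hcop h1 h2
    exact orderOf_eq_one_iff.mp h3
  have hkey : ∀ a ∈ A, ∀ r ∈ R, r⁻¹ * (a * r * a⁻¹) ∈ R₁ := by
    intro a ha r hr
    have h1 := hρ1 ⟨a, ha⟩
    have h2 := congrArg (fun f : MulAut (↥R ⧸ N) => f ((⟨r, hr⟩ : ↥R) : ↥R ⧸ N)) h1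
    beta_reduce at h2
    rw [hρ, MonoidHom.comp_apply, RT.quotAut_mk, MulAut.one_apply] at h2
    have h3 := QuotientGroup.eq.mp h2.symm
    rw [hN, Subgroup.mem_subgroupOf, Subgroup.coe_mul, Subgroup.coe_inv, TF.zeta_apply] at h3
    exact h3
  have hle : R ≤ R₁ := by
    rw [← hRA, Subgroup.commutator_le]
    intro r hr a ha
    have h1 := hkey a ha r⁻¹ (R.inv_mem hr)
    have h2 : ⁅r, a⁆ = r⁻¹⁻¹ * (a * r⁻¹ * a⁻¹) := by rw [commutatorElement_def]; group
    rw [h2]; exact h1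
  have hReq : R = R₁ := le_antisymm hle hR₁R
  rw [hReq]; exact hc1

end Cfsg.Agent.Lib.Helper1.NW
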