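import Mathlib
import Cfsg.Prelude.Def_OddOrderLocal
import Cfsg.Prelude.Def_PLocal
import Cfsg.Agent.Lib.Helper1.ClassTwo
import Cfsg.Agent.Lib.Helper1.SplitPResidual3
import Cfsg.Agent.Lib.Helper2.PGroupOdd
set_option autoImplicit false
open scoped commutatorElement
universe u
namespace Cfsg.Agent.Lib.Helper1
variable {G : Type u} [Group G]

/-- A finite cyclic group all of whose elements have `p`-th power one has at most `p` elements. -/
theorem card_le_of_isCyclic_of_pow_eq_one {C : Type*} [Group C] [Finite C] [IsCyclic C] {p : ℕ}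
    (hp : 0 < p) (h : ∀ c : C, c ^ p = 1) : Nat.card C ≤ p := by
  obtain ⟨g, hg⟩ := IsCyclic.exists_generator (α := C)
  have h1 : orderOf g = Nat.card C := orderOf_eq_card_of_forall_mem_zpowers hg
  rw [← h1]
  exact Nat.le_of_dvd hp (orderOf_dvd_of_pow_eq_one (h g))

/-- In a metacyclic group, a subgroup of exponent `p` has order at most `p²`. -/
theorem card_le_sq_of_metacyclic [Finite G] {p : ℕ} (hp : 0 < p)
    (N : Subgroup G) [N.Normal] [IsCyclic N] [IsCyclic (G ⧸ N)]
    (K : Subgroup G) (hK : ∀ k ∈ K, k ^ p = 1) : Nat.card K ≤ p ^ 2 := by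
  obtain ⟨f, hf⟩ : ∃ f : K →* G ⧸ N, f = (QuotientGroup.mk' N).comp K.subtype := ⟨_, rfl⟩
  have h1 : Nat.card K = Nat.card f.ker * Nat.card f.range := by
    rw [← Subgroup.index_ker, mul_comm, Subgroup.index_mul_card]
  have h2 : Nat.card f.range ≤ p := by
    apply card_le_of_isCyclic_of_pow_eq_one hp
    rintro ⟨c, k, rfl⟩
    apply Subtype.ext
    simp only [SubgroupClass.coe_pow, Subgroup.coe_one]
    rw [← map_pow]
    have : k ^ p = 1 := by
      apply Subtype.ext
      simp only [SubgroupClass.coe_pow, Subgroup.coe_one]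
      exact hK k k.2
    rw [this, map_one]
  have h3 : Nat.card f.ker ≤ p := by
    have hmem : ∀ k : f.ker, (k : G) ∈ N := by
      rintro ⟨k, hk⟩
      rw [MonoidHom.mem_ker, hf] at hk
      simpa using hk
    let φ : f.ker →* N :=
      { toFun := fun k => ⟨(k : G), hmem k⟩
        map_one' := rfl
        map_mul' := fun a b => rfl }
    have hφ : Function.Injective φ := by
      intro a b hab
      have := congrArg Subtype.val hab
      exact Subtype.ext (Subtype.ext this)
    have : IsCyclic f.ker := isCyclic_of_injective φ hφ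
    apply card_le_of_isCyclic_of_pow_eq_one hp
    intro c
    apply Subtype.ext
    apply Subtype.ext
    simp only [SubgroupClass.coe_pow, Subgroup.coe_one]
    exact hK _ c.1.2
  rw [h1, sq]
  exact Nat.mul_le_mul h3 h2

/-- A finite group of order dividing `p³` has class at most two. -/
theorem commCentral_of_card_dvd_cube [Finite G] {p : ℕ} [hp : Fact p.Prime]
    (h : Nat.card G ∣ p ^ 3) : CommCentral G := by
  apply commCentral_of_commutator_le_center
  rw [← Subgroup.Normal.quotient_commutative_iff_commutator_le]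
  obtain ⟨k, hk3, hk⟩ := (Nat.dvd_prime_pow hp.out).mp h
  have hG : IsPGroup p G := IsPGroup.of_card hk
  rcases Nat.eq_zero_or_pos k with rfl | hkpos
  · have : Subsingleton G := by
      rw [← Finite.card_le_one_iff_subsingleton, hk]; simp
    exact ⟨⟨fun a b => Subsingleton.elim _ _⟩⟩
  obtain ⟨j, hj0, hj⟩ := IsPGroup.card_center_eq_prime_pow hk hkpos
  have hidx : (Subgroup.center G).index * p ^ j = p ^ k := by
    rw [← hj, ← hk, Subgroup.index_mul_card]
  have hjk : j ≤ k := by
    have : p ^ j ∣ p ^ k := Dvd.intro_left _ hidx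
    exact (Nat.pow_dvd_pow_iff_le_right hp.out.one_lt).mp this
  have hidx' : (Subgroup.center G).index = p ^ (k - j) := by
    have : p ^ k = p ^ (k - j) * p ^ j := by rw [← pow_add]; congr 1; omega
    rw [this] at hidx
    exact Nat.eq_of_mul_eq_mul_right (pow_pos hp.out.pos j) hidx
  have hcard : Nat.card (G ⧸ Subgroup.center G) = p ^ (k - j) := by
    rw [← hidx']; rfl
  have hle : k - j ≤ 2 := by omega
  interval_cases hkj : k - j
  · have : Subsingleton (G ⧸ Subgroup.center G) := by
      rw [← Finite.card_le_one_iff_subsingleton, hcard]; simp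
    exact ⟨⟨fun a b => Subsingleton.elim _ _⟩⟩
  · have : IsCyclic (G ⧸ Subgroup.center G) := isCyclic_of_prime_card (p := p) (by rw [hcard]; simp)
    exact IsCyclic.isMulCommutative
  · exact IsPGroup.isMulCommutative_of_card_eq_prime_sq hcard

/-- If a subgroup `K` of class at most two is generated by elements of order dividing an odd prime
`p`, then `K` has exponent dividing `p`. -/
theorem pow_eq_one_of_closure {p : ℕ} (hp : p.Prime) (hp2 : p ≠ 2) (S : Set G)
    (hS : ∀ s ∈ S, s ^ p = 1) (hc : CommCentral (Subgroup.closure S)) :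
    ∀ k ∈ Subgroup.closure S, k ^ p = 1 := by
  obtain ⟨K, hKdef⟩ : ∃ K, K = Subgroup.closure S := ⟨_, rfl⟩
  rw [← hKdef] at hc ⊢
  obtain ⟨T, hT⟩ : ∃ T : Subgroup K, T = Subgroup.closure {k : K | k ^ p = 1} := ⟨_, rfl⟩
  have h1 : K ≤ T.map K.subtype := by
    have h0 : Subgroup.closure S ≤ T.map K.subtype := by
      rw [Subgroup.closure_le]
      intro s hs
      have hsK : s ∈ K := by rw [hKdef]; exact Subgroup.subset_closure hs
      refine ⟨⟨s, hsK⟩, ?_, rfl⟩
      rw [hT]
      apply Subgroup.subset_closure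
      apply Subtype.ext
      simp only [SubgroupClass.coe_pow, Subgroup.coe_one]
      exact hS s hs
    exact hKdef.le.trans h0
  intro k hk
  obtain ⟨t, ht, rfl⟩ := h1 hk
  rw [SetLike.mem_coe, hT] at ht
  have := hc.omega_exponent hp hp2 t ht
  have h2 := congrArg Subtype.val this
  simpa using h2

/-- For odd `p`, in a non-cyclic metacyclic `p`-group the elements of order dividing `p` generate an
elementary abelian subgroup of order `p²`. -/
theorem metacyclic_omegaOne [Finite G] {p : ℕ} [hp : Fact p.Prime] (hp2 : p ≠ 2)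
    (hG : IsPGroup p G) (hm : Cfsg.IsMetacyclic G) (hnc : ¬ IsCyclic G) :
    Cfsg.IsElementaryAbelian p (Cfsg.omegaOne p (⊤ : Subgroup G)) ∧
      Nat.card (Cfsg.omegaOne p (⊤ : Subgroup G)) = p ^ 2 := by
  obtain ⟨N, hNn, hNc, hQc⟩ := hm
  obtain ⟨E, hEn, hEc, hEe⟩ := Cfsg.Agent.Lib.Helper2.exists_normal_elementary_sq hp2 hG hnc
  have key : ∀ x : G, x ^ p = 1 → x ∈ E := by
    intro x hx
    obtain ⟨S, hS⟩ : ∃ S : Set G, S = (Subgroup.zpowers x : Set G) ∪ E := ⟨_, rfl⟩
    have hSe : ∀ s ∈ S, s ^ p = 1 := by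
      intro s hs
      rw [hS] at hs
      rcases hs with hs | hs
      · obtain ⟨n, rfl⟩ := Subgroup.mem_zpowers_iff.mp hs
        rw [← zpow_natCast, ← zpow_mul, mul_comm, zpow_mul, zpow_natCast, hx, one_zpow]
      · exact hEe s hs
    have hcl : Subgroup.closure S = Subgroup.zpowers x ⊔ E := by
      rw [hS, Subgroup.closure_union, Subgroup.closure_eq, Subgroup.closure_eq]
    have hcard : Nat.card (Subgroup.closure S) ∣ p ^ 3 := by
      rw [hcl]
      have h1 := card_sup_mul_card_inf_normal' (Subgroup.zpowers x) E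
      have h2 : Nat.card (Subgroup.zpowers x) ∣ p := by
        rw [Nat.card_zpowers]; exact orderOf_dvd_of_pow_eq_one hx
      have h3 : Nat.card (Subgroup.zpowers x ⊔ E : Subgroup G) ∣
          Nat.card (Subgroup.zpowers x) * Nat.card E := Dvd.intro _ h1
      refine h3.trans ?_
      rw [hEc, pow_succ' p 2]
      exact Nat.mul_dvd_mul h2 dvd_rfl
    have hcc : CommCentral (Subgroup.closure S) := commCentral_of_card_dvd_cube hcard
    have hexp := pow_eq_one_of_closure hp.out hp2 S hSe hcc
    have hle := card_le_sq_of_metacyclic hp.out.pos N (Subgroup.closure S) hexp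
    have hEle : E ≤ Subgroup.closure S := by rw [hcl]; exact le_sup_right
    have := Subgroup.eq_of_le_of_card_ge hEle (by rw [hEc]; exact hle)
    rw [this]
    apply Subgroup.subset_closure
    rw [hS]
    left
    exact Subgroup.mem_zpowers x
  have hΩ : Cfsg.omegaOne p (⊤ : Subgroup G) = E := by
    apply le_antisymm
    · unfold Cfsg.omegaOne
      rw [Subgroup.closure_le]
      intro x hx
      exact key x hx.2
    · intro e he
      exact Subgroup.subset_closure ⟨Subgroup.mem_top e, hEe e he⟩
  rw [hΩ]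
  exact ⟨⟨IsPGroup.isMulCommutative_of_card_eq_prime_sq hEc, hEe⟩, hEc⟩

end Cfsg.Agent.Lib.Helper1
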