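import Mathlib
import Cfsg.Agent.Lib.Helper1.RT5
import Cfsg.Agent.Lib.Helper1.NW3
import Cfsg.Agent.Lib.Helper1.Rk4
import Cfsg.Agent.Lib.Helper1.ZJ11
import Cfsg.Agent.Lib.Helper1.BG7b
import Cfsg.Agent.Lib.Helper1.Fusion
import Cfsg.Agent.Lib.Helper1.FrattiniP
import Cfsg.Agent.Lib.Helper1.RelativeSZ
import Cfsg.Agent.Lib.Helper1.PLengthOne
import Cfsg.Agent.Lib.Helper1.BK4
import Cfsg.Agent.S3071
import Cfsg.Agent.S1448

set_option autoImplicit false
set_option maxHeartbeats 4000000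
set_option linter.unusedVariables false
set_option linter.unusedSectionVars false
set_option linter.style.longLine false
set_option linter.unusedSimpArgs false

/-!
# Sylow subgroups of rank at most two in a minimal simple group of odd order (B&G 9.? / S1412)
-/

open scoped commutatorElement Pointwise
universe u
namespace Cfsg.Agent.Lib.Helper1.MS

open Cfsg

variable {G : Type u} [Group G]

/-- A group of odd order has no section isomorphic to `SL(2,p)`, `p` odd. -/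
theorem no_sl2_section_of_odd [Finite G] (hodd : Odd (Nat.card G)) {p : ℕ}
    [hp : Fact p.Prime] (hp2 : p ≠ 2) :
    ¬ ∃ (H K : Subgroup G) (hK : (K.subgroupOf H).Normal),
      Nonempty ((H ⧸ K.subgroupOf H) ≃* Matrix.SpecialLinearGroup (Fin 2) (ZMod p)) := by
  rintro ⟨H, K, hK, ⟨e⟩⟩
  have : Fact (Even (Fintype.card (Fin 2))) := ⟨by decide⟩
  have : Fact (2 < p) := ⟨lt_of_le_of_ne hp.out.two_le (Ne.symm hp2)⟩
  have ht2 : (-1 : Matrix.SpecialLinearGroup (Fin 2) (ZMod p)) ^ 2 = 1 := by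
    rw [sq]; simp
  have ht1 : (-1 : Matrix.SpecialLinearGroup (Fin 2) (ZMod p)) ≠ 1 := by
    intro h
    have h1 := congrArg (fun A : Matrix.SpecialLinearGroup (Fin 2) (ZMod p) =>
      (A : Matrix (Fin 2) (Fin 2) (ZMod p)) 0 0) h
    simp only [Matrix.SpecialLinearGroup.coe_neg, Matrix.SpecialLinearGroup.coe_one,
      Matrix.neg_apply, Matrix.one_apply_eq] at h1
    exact ZMod.neg_one_ne_one h1
  have : Fact (Nat.Prime 2) := ⟨Nat.prime_two⟩
  have ho : orderOf (-1 : Matrix.SpecialLinearGroup (Fin 2) (ZMod p)) = 2 :=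
    orderOf_eq_prime ht2 ht1
  have ho' : orderOf (e.symm (-1)) = 2 := by
    rw [MulEquiv.orderOf_eq]; exact ho
  have h1 : 2 ∣ Nat.card (H ⧸ K.subgroupOf H) := by
    rw [← ho']; exact orderOf_dvd_natCard _
  have h2 : Nat.card (H ⧸ K.subgroupOf H) ∣ Nat.card H := Subgroup.card_quotient_dvd_card _
  have h3 : Nat.card H ∣ Nat.card G := Subgroup.card_subgroup_dvd_card H
  exact hodd.not_two_dvd_nat (h1.trans (h2.trans h3))

/-- If a Sylow `p`-subgroup lies in `O_{p',p}(G)` then `P O_{p'}(G)` is normal. -/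
theorem sylow_sup_pPrimeCore_normal_of_le [Finite G] (p : ℕ) [Fact p.Prime] (P : Sylow p G)
    (hP : (P : Subgroup G) ≤ Cfsg.pPrimePCore p G) :
    ((P : Subgroup G) ⊔ Cfsg.pPrimeCore p G).Normal := by
  have hsurj := QuotientGroup.mk'_surjective (Cfsg.pPrimeCore p G)
  obtain ⟨Pq, hPq⟩ : ∃ Pq : Sylow p (G ⧸ Cfsg.pPrimeCore p G), Pq = P.mapSurjective hsurj :=
    ⟨_, rfl⟩
  have hcoe : (Pq : Subgroup (G ⧸ Cfsg.pPrimeCore p G)) =
      (P : Subgroup G).map (QuotientGroup.mk' (Cfsg.pPrimeCore p G)) := by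
    rw [hPq]; exact Sylow.coe_mapSurjective hsurj P
  have hle : Cfsg.pCore p (G ⧸ Cfsg.pPrimeCore p G) ≤ Pq := pCore_le_sylow p Pq
  have h1 : (Pq : Subgroup (G ⧸ Cfsg.pPrimeCore p G)) ≤ Cfsg.pCore p (G ⧸ Cfsg.pPrimeCore p G) := by
    rw [hcoe]
    rintro _ ⟨a, ha, rfl⟩
    have h0 : a ∈ (Cfsg.pCore p (G ⧸ Cfsg.pPrimeCore p G)).comap
        (QuotientGroup.mk' (Cfsg.pPrimeCore p G)) := hP ha
    exact h0
  have h2 := le_antisymm h1 hle
  have h3 : (Pq : Subgroup (G ⧸ Cfsg.pPrimeCore p G)).Normal := by rw [h2]; exact pCore_normal p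
  have h4 : (P : Subgroup G) ⊔ Cfsg.pPrimeCore p G =
      (Pq : Subgroup (G ⧸ Cfsg.pPrimeCore p G)).comap (QuotientGroup.mk' (Cfsg.pPrimeCore p G)) := by
    rw [hcoe, Subgroup.comap_map_eq, QuotientGroup.ker_mk']
  rw [h4]
  exact h3.comap _

/-- If `P K` is normal with `K` a normal `p'`-subgroup, then `N_G(P)` controls fusion in `P`. -/
theorem normalizer_controls_of_sup_normal [Finite G] {p : ℕ} [Fact p.Prime] (P : Sylow p G)
    (K : Subgroup G) [hKn : K.Normal] (hK : (Nat.card K).Coprime p)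
    (hL : ((P : Subgroup G) ⊔ K).Normal) :
    ∀ x ∈ (P : Subgroup G), ∀ g : G, g * x * g⁻¹ ∈ (P : Subgroup G) →
      ∃ m ∈ Subgroup.normalizer ((P : Subgroup G) : Set G), m * x * m⁻¹ = g * x * g⁻¹ := by
  intro x hx g hgx
  have hPL : (P : Subgroup G) ≤ (P : Subgroup G) ⊔ K := le_sup_left
  have hgPL : ((g • P : Sylow p G) : Subgroup G) ≤ (P : Subgroup G) ⊔ K := by
    intro z hz
    have hz' : z ∈ MulAut.conj g • (P : Subgroup G) := hz
    rw [Subgroup.mem_pointwise_smul_iff_inv_smul_mem] at hz'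
    have hz2 : g⁻¹ * z * g ∈ (P : Subgroup G) := by simpa [MulAut.smul_def] using hz'
    have h3 := hL.conj_mem _ (hPL hz2) g
    have e : g * (g⁻¹ * z * g) * g⁻¹ = z := by group
    rwa [e] at h3
  obtain ⟨l, hl, hlP⟩ := sylow_conj_of_le ((P : Subgroup G) ⊔ K) (g • P) P hgPL hPL
  have hl' : l ∈ ((P : Subgroup G) : Set G) * (K : Set G) := by
    rw [← Subgroup.mul_normal]; exact hl
  obtain ⟨y, hy, k, hk, rfl⟩ := Set.mem_mul.mp hl'
  have hm : (k * g) • P = P := by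
    have h1 : (y * k) • (g • P) = y • ((k * g) • P) := by rw [mul_smul, mul_smul]
    rw [h1] at hlP
    have h2 : y⁻¹ • P = P :=
      Sylow.smul_eq_iff_mem_normalizer.mpr (Subgroup.le_normalizer (inv_mem hy))
    calc (k * g) • P = y⁻¹ • (y • ((k * g) • P)) := by rw [inv_smul_smul]
      _ = y⁻¹ • P := by rw [hlP]
      _ = P := h2
  have hmN : k * g ∈ Subgroup.normalizer ((P : Subgroup G) : Set G) :=
    Sylow.smul_eq_iff_mem_normalizer.mp hm
  refine ⟨k * g, hmN, ?_⟩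
  obtain ⟨y', hy'⟩ : ∃ y', y' = g * x * g⁻¹ := ⟨_, rfl⟩
  rw [← hy'] at hgx ⊢
  have e1 : k * g * x * (k * g)⁻¹ = k * y' * k⁻¹ := by rw [hy']; group
  rw [e1]
  have h3 : k * y' * k⁻¹ ∈ (P : Subgroup G) := by
    have := (Subgroup.mem_normalizer_iff.mp hmN x).mp hx
    rwa [e1] at this
  have h4 : k * y' * k⁻¹ * y'⁻¹ ∈ (P : Subgroup G) ⊓ K := by
    rw [Subgroup.mem_inf]
    refine ⟨mul_mem h3 (inv_mem hgx), ?_⟩
    have h5 : y' * k⁻¹ * y'⁻¹ ∈ K := hKn.conj_mem _ (inv_mem hk) y'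
    have e2 : k * y' * k⁻¹ * y'⁻¹ = k * (y' * k⁻¹ * y'⁻¹) := by group
    rw [e2]; exact mul_mem hk h5
  have hdisj : (P : Subgroup G) ⊓ K = ⊥ := by
    apply disjoint_iff.mp
    apply Subgroup.disjoint_of_coprime_natCard
    obtain ⟨n, hn⟩ := P.2.exists_card_eq
    rw [hn]; exact Nat.Coprime.pow_left n hK.symm
  rw [hdisj, Subgroup.mem_bot] at h4
  calc k * y' * k⁻¹ = (k * y' * k⁻¹ * y'⁻¹) * y' := by group
    _ = y' := by rw [h4, one_mul]

/-- If `H` controls fusion in the Sylow subgroup `P` then `G' ∩ P ≤ [P, H]`. -/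
theorem commutator_inf_sylow_le_of_controls [Finite G] {p : ℕ} [Fact p.Prime]
    (P : Sylow p G) (H : Subgroup G)
    (hctl : ∀ x ∈ (P : Subgroup G), ∀ g : G, g * x * g⁻¹ ∈ (P : Subgroup G) →
      ∃ h ∈ H, h * x * h⁻¹ = g * x * g⁻¹) :
    commutator G ⊓ (P : Subgroup G) ≤ ⁅(P : Subgroup G), H⁆ := by
  rw [Subgroup.commutator_inf_eq_focalSubgroup]
  rw [Subgroup.focalSubgroup_def, Subgroup.closure_le]
  rintro g ⟨hgP, x, hxP, u, rfl⟩
  have h1 : u * x⁻¹ * u⁻¹ ∈ (P : Subgroup G) := by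
    have := (P : Subgroup G).mul_mem ((P : Subgroup G).inv_mem hxP) hgP
    rw [commutatorElement_def] at this
    have e : x⁻¹ * (x * u * x⁻¹ * u⁻¹) = u * x⁻¹ * u⁻¹ := by group
    rwa [e] at this
  obtain ⟨h, hh, hhx⟩ := hctl x⁻¹ ((P : Subgroup G).inv_mem hxP) u h1
  have e : ⁅x, u⁆ = ⁅x, h⁆ := by
    rw [commutatorElement_def, commutatorElement_def]
    have e1 : x * u * x⁻¹ * u⁻¹ = x * (u * x⁻¹ * u⁻¹) := by group
    have e2 : x * h * x⁻¹ * h⁻¹ = x * (h * x⁻¹ * h⁻¹) := by group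
    rw [e1, e2, hhx]
  rw [e]
  exact Subgroup.commutator_mem_commutator hxP hh

/-- If `P` is a `p`-group normalized by `V` with `P ≤ [P, PV]`, then `[P, V] = P`. -/
theorem commutator_eq_of_le_commutator_sup [Finite G] {p : ℕ} [Fact p.Prime] (P V : Subgroup G)
    (hP : IsPGroup p P) (hV : V ≤ Subgroup.normalizer (P : Set G)) (h : P ≤ ⁅P, P ⊔ V⁆) :
    ⁅P, V⁆ = P := by
  have h1 : ⁅P, V⁆ ≤ P := by
    rw [Subgroup.commutator_le]
    intro x hx v hv
    have h2 := (Subgroup.mem_normalizer_iff.mp (hV hv) x⁻¹).mp (inv_mem hx)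
    have e : ⁅x, v⁆ = x * (v * x⁻¹ * v⁻¹) := by rw [commutatorElement_def]; group
    rw [e]; exact mul_mem hx h2
  have hnorm : ∀ y ∈ P, ∀ r ∈ ⁅P, V⁆, y * r * y⁻¹ ∈ ⁅P, V⁆ := by
    intro y hy
    have h2 : ⁅P, V⁆ ≤ (⁅P, V⁆).comap (MulAut.conj y).toMonoidHom := by
      rw [Subgroup.commutator_le]
      intro x hx v hv
      rw [Subgroup.mem_comap]
      have e : (MulAut.conj y).toMonoidHom ⁅x, v⁆ = ⁅y * x, v⁆ * ⁅y, v⁆⁻¹ := by
        show y * ⁅x, v⁆ * y⁻¹ = _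
        simp only [commutatorElement_def]; group
      rw [e]
      exact mul_mem (Subgroup.commutator_mem_commutator (mul_mem hy hx) hv)
        (inv_mem (Subgroup.commutator_mem_commutator hy hv))
    intro r hr
    exact h2 hr
  have h3 : ⁅P, P ⊔ V⁆ ≤ ⁅P, P⁆ ⊔ ⁅P, V⁆ := by
    rw [Subgroup.commutator_le]
    intro x hx g hg
    have hg' : g ∈ (P : Set G) * (V : Set G) := by
      rw [← Subgroup.coe_mul_of_right_le_normalizer_left P V hV]; exact hg
    obtain ⟨y, hy, v, hv, rfl⟩ := Set.mem_mul.mp hg'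
    have e : ⁅x, y * v⁆ = ⁅x, y⁆ * (y * ⁅x, v⁆ * y⁻¹) := by
      simp only [commutatorElement_def]; group
    rw [e]
    exact Subgroup.mul_mem_sup (Subgroup.commutator_mem_commutator hx hy)
      (hnorm y hy _ (Subgroup.commutator_mem_commutator hx hv))
  have h4 : P ≤ ⁅P, P⁆ ⊔ ⁅P, V⁆ := h.trans h3
  have h5 : (⁅P, V⁆).subgroupOf P = ⊤ := by
    apply frattini_nongenerating
    rw [eq_top_iff]
    intro z _
    have hz : (z : G) ∈ ((⁅P, V⁆).subgroupOf P ⊔ commutator ↥P).map P.subtype := by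
      rw [Subgroup.map_sup, Subgroup.subgroupOf_map_subtype, Subgroup.map_subtype_commutator,
        inf_eq_left.mpr h1, sup_comm]
      exact h4 z.2
    obtain ⟨w, hw, hwz⟩ := hz
    have hwz' : w = z := Subtype.ext hwz
    rw [← hwz']
    exact (sup_le_sup_left (commutator_le_frattini_of_isPGroup p hP) _) hw
  apply le_antisymm h1
  intro x hx
  have : (⟨x, hx⟩ : ↥P) ∈ (⁅P, V⁆).subgroupOf P := by rw [h5]; exact Subgroup.mem_top _
  exact Subgroup.mem_subgroupOf.mp this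

/-- In a nonabelian group of order `p³` the derived subgroup is the centre. -/
theorem commutator_eq_center_of_card_cube [Finite G] {p : ℕ} [hp : Fact p.Prime] (R₁ : Subgroup G)
    (hc : Nat.card R₁ = p ^ 3) (hnc : ¬ IsMulCommutative R₁) :
    ⁅R₁, R₁⁆ = R₁ ⊓ Subgroup.centralizer (R₁ : Set G) := by
  have hnc' : ¬ ∀ a b : ↥R₁, a * b = b * a := fun h => hnc ⟨⟨h⟩⟩
  have hZc := BK.card_center_of_card_cube hc hnc'
  have hle : ⁅R₁, R₁⁆ ≤ R₁ ⊓ Subgroup.centralizer (R₁ : Set G) := by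
    rw [Subgroup.commutator_le]
    intro a ha b hb
    rw [Subgroup.mem_inf]
    refine ⟨?_, ?_⟩
    · rw [commutatorElement_def]
      exact mul_mem (mul_mem (mul_mem ha hb) (inv_mem ha)) (inv_mem hb)
    · rw [Subgroup.mem_centralizer_iff]
      intro c hc'
      have h := BK.comm_mem_center_of_card_cube hc (⟨a, ha⟩ : ↥R₁) ⟨b, hb⟩
      rw [Subgroup.mem_center_iff] at h
      have h2 := h ⟨c, hc'⟩
      have h3 := congrArg Subtype.val h2
      simpa [commutatorElement_def] using h3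
  have hcardZ : Nat.card ↥(R₁ ⊓ Subgroup.centralizer (R₁ : Set G)) = p := by
    have e : (R₁ ⊓ Subgroup.centralizer (R₁ : Set G)).subgroupOf R₁ = Subgroup.center ↥R₁ := by
      ext z
      rw [Subgroup.mem_subgroupOf, Subgroup.mem_inf, Subgroup.mem_center_iff,
        Subgroup.mem_centralizer_iff]
      constructor
      · rintro ⟨_, h⟩ g
        apply Subtype.ext
        simpa using h g g.2
      · intro h
        refine ⟨z.2, fun c hc' => ?_⟩
        simpa using congrArg Subtype.val (h ⟨c, hc'⟩)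
    rw [← hZc, ← e]
    exact (Nat.card_congr (Subgroup.subgroupOfEquivOfLe inf_le_left).toEquiv).symm
  have hne : ⁅R₁, R₁⁆ ≠ ⊥ := by
    intro h
    apply hnc'
    intro a b
    have h1 : ⁅(a : G), (b : G)⁆ ∈ ⁅R₁, R₁⁆ := Subgroup.commutator_mem_commutator a.2 b.2
    rw [h, Subgroup.mem_bot] at h1
    exact Subtype.ext (commutatorElement_eq_one_iff_mul_comm.mp h1)
  have hdvd : Nat.card ↥⁅R₁, R₁⁆ ∣ p := by
    rw [← hcardZ]; exact Subgroup.card_dvd_of_le hle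
  rcases (Nat.dvd_prime hp.out).mp hdvd with h | h
  · exact absurd (Subgroup.eq_bot_of_card_eq _ h) hne
  · exact Subgroup.eq_of_le_of_card_ge hle (by rw [hcardZ, h])

/-- In a minimal simple group of odd order, a nontrivial Sylow `p`-subgroup of rank at most two
satisfies `P ≤ [P, N_G(P)]`. -/
theorem sylow_le_commutator_normalizer [Finite G] (hG : Cfsg.IsMinSimpleOddOrder G) (p : ℕ)
    [Fact p.Prime] (P : Sylow p G) (hr : Cfsg.PRankLE p 2 (P : Subgroup G))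
    (hP1 : (P : Subgroup G) ≠ ⊥) :
    p ≠ 2 ∧ p ∣ Nat.card (P : Subgroup G) ∧
      (P : Subgroup G) ≤ ⁅(P : Subgroup G), Subgroup.normalizer ((P : Subgroup G) : Set G)⁆ := by
  classical
  have hpp : p.Prime := Fact.out
  have hodd := hG.1
  have hPdvd : p ∣ Nat.card (P : Subgroup G) := by
    obtain ⟨n, hn⟩ := P.2.exists_card_eq
    rw [hn]
    apply dvd_pow_self
    rintro rfl
    apply hP1
    rw [pow_zero] at hn
    exact Subgroup.eq_bot_of_card_eq _ hn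
  have hpG : p ∣ Nat.card G := hPdvd.trans (Subgroup.card_subgroup_dvd_card _)
  have hp2 : p ≠ 2 := by
    rintro rfl
    exact (Nat.not_even_iff_odd.mpr hodd) (even_iff_two_dvd.mpr hpG)
  refine ⟨hp2, hPdvd, ?_⟩
  obtain ⟨Z, hZ⟩ : ∃ Z, Z = Cfsg.centerThompsonAOf (P : Subgroup G) := ⟨_, rfl⟩
  have hZ1 : Z ≠ ⊥ := by rw [hZ]; exact ZJ.centerThompsonAOf_ne_bot P.2 hP1
  have hZP : Z ≤ (P : Subgroup G) := by rw [hZ]; exact ZJ.centerThompsonAOf_le _
  have hPtop : (P : Subgroup G) ≠ ⊤ := BG7.pgroup_ne_top hG P.2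
  have hZtop : Z ≠ ⊤ := by
    intro h; apply hPtop; rw [eq_top_iff, ← h]; exact hZP
  obtain ⟨N, hN⟩ : ∃ N, N = Subgroup.normalizer (Z : Set G) := ⟨_, rfl⟩
  have hNtop : N ≠ ⊤ := by rw [hN]; exact BG7.normalizer_ne_top hG hZ1 hZtop
  have hNP : Subgroup.normalizer ((P : Subgroup G) : Set G) ≤ N := by
    rw [hN, hZ]; exact ZJ.normalizer_le_normalizer_centerThompsonAOf _
  have hPN : (P : Subgroup G) ≤ N := Subgroup.le_normalizer.trans hNP
  have hNsolv : Group.IsSolvable ↥N := BG7.isSolvable_of_ne_top hG hNtop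
  have hNodd : Odd (Nat.card ↥N) := Odd.of_dvd_nat hodd (Subgroup.card_subgroup_dvd_card N)
  have hpN : p ∣ Nat.card ↥N := hPdvd.trans (Subgroup.card_dvd_of_le hPN)
  have hrG : Cfsg.PRankLE p 2 G := NW.pRankLE_of_sylow P hr
  have hrN : Cfsg.PRankLE p 2 ↥N := Rk.pRankLE_subgroup hrG N
  have hfree : ∀ P' : Subgroup G,
      (P : Subgroup G) ⊓ Subgroup.centralizer ((P : Subgroup G) : Set G) ≤ P' → P' ≤ P →
      ¬ ∃ (H K : Subgroup G) (hK : (K.subgroupOf H).Normal),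
        H ≤ Subgroup.normalizer (P' : Set G) ∧
        Nonempty ((H ⧸ K.subgroupOf H) ≃* Matrix.SpecialLinearGroup (Fin 2) (ZMod p)) := by
    intro P' _ _
    rintro ⟨H, K, hK, _, he⟩
    exact no_sl2_section_of_odd hodd hp2 ⟨H, K, hK, he⟩
  have hfus := Cfsg.Agent.S3071.result hp2 P hfree
  have hctlN : ∀ x ∈ P, ∀ g : G, g * x * g⁻¹ ∈ P → ∃ h ∈ N, h * x * h⁻¹ = g * x * g⁻¹ := by
    intro x hx g hgx
    obtain ⟨n, hn, hnx⟩ := (hfus x hx (g * x * g⁻¹) hgx).mp ⟨g, rfl⟩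
    rw [← hZ, ← hN] at hn
    exact ⟨n, hn, hnx⟩
  have hperf : commutator G = ⊤ := by
    have := hG.2.1
    rcases (inferInstance : (commutator G).Normal).eq_bot_or_eq_top with h | h
    · exfalso
      apply hG.2.2.1
      refine ⟨⟨fun a b => ?_⟩⟩
      have h1 : ⁅a, b⁆ ∈ commutator G := by
        rw [commutator_def]
        exact Subgroup.commutator_mem_commutator (Subgroup.mem_top a) (Subgroup.mem_top b)
      rw [h, Subgroup.mem_bot] at h1
      exact commutatorElement_eq_one_iff_mul_comm.mp h1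
    · exact h
  have hPcomm : (P : Subgroup G) ≤ ⁅N, N⁆ := by
    have h1 := commutator_inf_sylow_eq_of_controls_fusion P N hctlN hPN
    rw [hperf, top_inf_eq] at h1
    have h2 : (P : Subgroup G) ≤ ⁅N, N⁆ ⊓ (P : Subgroup G) := h1.le
    exact h2.trans inf_le_left
  obtain ⟨Q, hQ⟩ : ∃ Q : Sylow p ↥N, Q = P.subtype hPN := ⟨_, rfl⟩
  have hQcoe : (Q : Subgroup ↥N) = (P : Subgroup G).subgroupOf N := by
    rw [hQ]; rfl
  have hmemQ : ∀ z : ↥N, z ∈ (Q : Subgroup ↥N) ↔ (z : G) ∈ (P : Subgroup G) := by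
    intro z; rw [hQcoe, Subgroup.mem_subgroupOf]
  obtain ⟨-, -, -, -, c5, -⟩ := RT.s1450 hNodd hpN hrN
  have hQL : (Q : Subgroup ↥N) ≤ Cfsg.pPrimePCore p ↥N := by
    intro z hz
    apply c5
    have h1 : (z : G) ∈ ⁅N, N⁆ := hPcomm ((hmemQ z).mp hz)
    rw [← Subgroup.map_subtype_commutator] at h1
    obtain ⟨w, hw, hwz⟩ := h1
    have : w = z := Subtype.ext hwz
    rwa [this] at hw
  have hLn := sylow_sup_pPrimeCore_normal_of_le p Q hQL
  have hctlQ := normalizer_controls_of_sup_normal Q (Cfsg.pPrimeCore p ↥N)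
    (pPrimeCore_card_coprime p) hLn
  have hctlM : ∀ x ∈ (P : Subgroup G), ∀ g : G, g * x * g⁻¹ ∈ (P : Subgroup G) →
      ∃ m ∈ Subgroup.normalizer ((P : Subgroup G) : Set G), m * x * m⁻¹ = g * x * g⁻¹ := by
    intro x hx g hgx
    obtain ⟨n, hn, hnx⟩ := hctlN x hx g hgx
    have hxQ : (⟨x, hPN hx⟩ : ↥N) ∈ (Q : Subgroup ↥N) := (hmemQ _).mpr hx
    have hnxQ : (⟨n, hn⟩ : ↥N) * ⟨x, hPN hx⟩ * (⟨n, hn⟩ : ↥N)⁻¹ ∈ (Q : Subgroup ↥N) := by
      rw [hmemQ]
      show n * x * n⁻¹ ∈ (P : Subgroup G)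
      rw [hnx]; exact hgx
    obtain ⟨m, hm, hmx⟩ := hctlQ _ hxQ _ hnxQ
    refine ⟨(m : G), ?_, ?_⟩
    · have h1 : m ∈ (Subgroup.normalizer ((P : Subgroup G) : Set G)).subgroupOf N := by
        rw [Subgroup.subgroupOf_normalizer_eq hPN, ← hQcoe]; exact hm
      exact Subgroup.mem_subgroupOf.mp h1
    · have h2 := congrArg Subtype.val hmx
      simp only [Subgroup.coe_mul, Subgroup.coe_inv] at h2
      rw [← hnx]; exact h2
  have h1 := commutator_inf_sylow_le_of_controls P _ hctlM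
  rw [hperf, top_inf_eq] at h1
  exact h1

/-- S1412. -/
theorem s1412 [Finite G] (hG : Cfsg.IsMinSimpleOddOrder G) (p : ℕ) [Fact p.Prime] (P : Sylow p G)
    (hr : Cfsg.PRankLE p 2 (P : Subgroup G)) :
    IsMulCommutative (P : Subgroup G) ∨ ∃ P₁ P₂ : Subgroup G, P₁ ⊔ P₂ = (P : Subgroup G) ∧
      (∀ a ∈ P₁, ∀ b ∈ P₂, a * b = b * a) ∧
        ¬ IsMulCommutative P₁ ∧ Nat.card P₁ = p ^ 3 ∧ Monoid.exponent P₁ = p ∧ IsCyclic P₂ ∧
        Subgroup.closure {x : G | x ∈ P₂ ∧ x ^ p = 1} =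
          P₁ ⊓ Subgroup.centralizer (P₁ : Set G) := by
  classical
  by_cases hP1 : (P : Subgroup G) = ⊥
  · left
    refine ⟨⟨fun a b => ?_⟩⟩
    have ha : (a : G) = 1 := Subgroup.mem_bot.mp (hP1.le a.2)
    have hb : (b : G) = 1 := Subgroup.mem_bot.mp (hP1.le b.2)
    apply Subtype.ext
    rw [Subgroup.coe_mul, Subgroup.coe_mul, ha, hb]
  obtain ⟨hp2, hPdvd, hPM⟩ := sylow_le_commutator_normalizer hG p P hr hP1
  obtain ⟨M, hM⟩ : ∃ M, M = Subgroup.normalizer ((P : Subgroup G) : Set G) := ⟨_, rfl⟩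
  rw [← hM] at hPM
  have hPleM : (P : Subgroup G) ≤ M := by rw [hM]; exact Subgroup.le_normalizer
  have hrel : (P : Subgroup G).relIndex M ∣ (P : Subgroup G).index :=
    Dvd.intro _ (Subgroup.relIndex_mul_index hPleM)
  have hcop0 : (Nat.card (P : Subgroup G)).Coprime ((P : Subgroup G).relIndex M) :=
    Nat.Coprime.coprime_dvd_right hrel P.card_coprime_index
  obtain ⟨V, hVM, hVP, hPV, hVcard⟩ :=
    exists_relative_complement (P : Subgroup G) M hPleM (by rw [hM]) hcop0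
  have hVN : V ≤ Subgroup.normalizer ((P : Subgroup G) : Set G) := by rw [← hM]; exact hVM
  have hVdvd : Nat.card V ∣ (P : Subgroup G).index := by rw [hVcard]; exact hrel
  have hVcop : (Nat.card V).Coprime p := by
    have h1 : Nat.Coprime p (P : Subgroup G).index :=
      Nat.Coprime.coprime_dvd_left hPdvd P.card_coprime_index
    exact (Nat.Coprime.coprime_dvd_right hVdvd h1).symm
  have hVodd : Odd (Nat.card V) := Odd.of_dvd_nat hG.1 (Subgroup.card_subgroup_dvd_card V)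
  have hRA : ⁅(P : Subgroup G), V⁆ = (P : Subgroup G) :=
    commutator_eq_of_le_commutator_sup (P : Subgroup G) V P.2 hVN (by rw [hPV]; exact hPM)
  obtain ⟨_, h⟩ := Cfsg.Agent.S1448.result p hp2 (P : Subgroup G) V P.2 hP1 hr hVN hVcop hVodd hRA
  rcases h with h | ⟨R₁, R₂, h1, h2, h3, h4, h5, h6, h7⟩
  · left; exact h
  · right
    refine ⟨R₁, R₂, h1, h2, h3, h4, h5, h6, ?_⟩
    rw [h7]
    exact commutator_eq_center_of_card_cube R₁ h4 h3

end Cfsg.Agent.Lib.Helper1.MS
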