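import Mathlib
import Cfsg.Agent.Lib.Helper1.NW3
import Cfsg.Agent.Lib.Helper1.RT5
import Cfsg.Agent.Lib.Lead.PLength

/-! B&G Corollary 5.6-type statements: solvable groups of odd order with narrow Sylow subgroups. -/
set_option autoImplicit false
set_option maxHeartbeats 4000000
set_option linter.unusedVariables false
set_option linter.unusedSectionVars false
set_option linter.style.haveILetI false
set_option linter.deprecated false
universe u v
open scoped commutatorElement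

namespace Cfsg.Agent.Lib.Helper1.NW

open Cfsg Cfsg.Agent.Lib.Helper1 Cfsg.Agent.Lib.Helper1.RT Subgroup

variable {p : ℕ} [hp : Fact p.Prime]

/-- The deduction of the statements of B&G 4.18/5.6 from the structure of `G / O_{p'}(G)`. -/
theorem s1450_of_core {G : Type u} [Group G] [Finite G] [Group.IsSolvable G]
    (hodd : Odd (Nat.card G)) (hpG : p ∣ Nat.card G)
    (c1 : ∀ q : ℕ, q.Prime → q ∣ Nat.card (G ⧸ Cfsg.pPrimeCore p G) → q ≤ p)
    (c2 : commutator (G ⧸ Cfsg.pPrimeCore p G) ≤ Cfsg.pCore p (G ⧸ Cfsg.pPrimeCore p G))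
    (c3 : ((Cfsg.pCore p (G ⧸ Cfsg.pPrimeCore p G)).index).Coprime p) :
    (∀ q : ℕ, q.Prime → q ∣ (Cfsg.pPrimeCore p G).index → q ≤ p) ∧
      ((p = 3 ∨ ∀ q : ℕ, q.Prime → q ∣ Nat.card G → p ≤ q) → Cfsg.HasNormalPComplement p G) ∧
      Cfsg.HasNormalPComplement p ↥(commutator G) ∧
      (∀ L : Subgroup ↥(commutator G), (Nat.card L).Coprime p →
        L ≤ Cfsg.pPrimeCore p ↥(commutator G)) ∧
      commutator G ≤ Cfsg.pPrimePCore p G ∧ ((Cfsg.pPrimePCore p G).index).Coprime p := by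
  classical
  have hKc : (Nat.card (Cfsg.pPrimeCore p G)).Coprime p := pPrimeCore_card_coprime p
  have hXodd : Odd (Nat.card (G ⧸ Cfsg.pPrimeCore p G)) :=
    Odd.of_dvd_nat hodd (Subgroup.card_quotient_dvd_card _)
  have hpow : ∀ g ∈ commutator G, ∃ k : ℕ, g ^ (p ^ k) ∈ Cfsg.pPrimeCore p G := by
    intro g hg
    have h1 := map_mem_commutator (QuotientGroup.mk' (Cfsg.pPrimeCore p G)) hg
    have h2 := c2 h1
    obtain ⟨k, hk⟩ := (pCore_isPGroup (G := G ⧸ Cfsg.pPrimeCore p G) p) ⟨_, h2⟩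
    refine ⟨k, ?_⟩
    rw [← QuotientGroup.eq_one_iff, QuotientGroup.mk_pow]
    have h3 := congrArg Subtype.val hk
    rw [Subgroup.coe_pow] at h3
    exact h3
  obtain ⟨N, hN⟩ : ∃ N : Subgroup ↥(commutator G),
      N = (Cfsg.pPrimeCore p G).subgroupOf (commutator G) := ⟨_, rfl⟩
  have hNn : N.Normal := by rw [hN]; infer_instance
  have hNc : (Nat.card N).Coprime p := by
    have h1 : Nat.card N ∣ Nat.card (Cfsg.pPrimeCore p G) := by
      have h2 := Subgroup.card_map_of_injective (K := N) (f := (commutator G).subtype)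
        (commutator G).subtype_injective
      rw [← h2, hN, Subgroup.subgroupOf_map_subtype]
      exact Subgroup.card_dvd_of_le inf_le_left
    exact Nat.Coprime.coprime_dvd_left h1 hKc
  have hNq : ∀ h : ↥(commutator G), ∃ k : ℕ, h ^ (p ^ k) ∈ N := by
    intro h
    obtain ⟨k, hk⟩ := hpow h h.2
    refine ⟨k, ?_⟩
    rw [hN, Subgroup.mem_subgroupOf, Subgroup.coe_pow]
    exact hk
  refine ⟨?_, ?_, ?_, ?_, ?_, ?_⟩
  · intro q hq hqd
    exact c1 q hq hqd
  · intro h
    apply hasNormalPComplement_of_normal_coprime (Cfsg.pPrimeCore p G) hKc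
    have hall : ∀ {q : ℕ}, q.Prime → q ∣ Nat.card (G ⧸ Cfsg.pPrimeCore p G) → q = p := by
      intro q hq hqd
      have hle := c1 q hq hqd
      rcases h with h | h
      · have hq2 : q ≠ 2 := by
          rintro rfl
          exact (Nat.not_even_iff_odd.mpr hXodd) (even_iff_two_dvd.mpr hqd)
        have := hq.two_le
        omega
      · exact le_antisymm hle (h q hq (hqd.trans (Subgroup.card_quotient_dvd_card _)))
    have hcard := Nat.eq_prime_pow_of_unique_prime_dvd (Nat.card_pos).ne' hall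
    have hXp : IsPGroup p (G ⧸ Cfsg.pPrimeCore p G) := IsPGroup.of_card hcard
    intro g
    obtain ⟨k, hk⟩ := hXp (g : G ⧸ Cfsg.pPrimeCore p G)
    exact ⟨k, by rw [← QuotientGroup.eq_one_iff, QuotientGroup.mk_pow]; exact hk⟩
  · exact hasNormalPComplement_of_normal_coprime N hNc hNq
  · intro L hL
    exact ((npc_of_normal_coprime N hNc hNq).2 L hL).trans (le_pPrimeCore hNn hNc)
  · intro g hg
    unfold Cfsg.pPrimePCore
    rw [Subgroup.mem_comap]
    exact c2 (map_mem_commutator _ hg)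
  · unfold Cfsg.pPrimePCore
    rw [Subgroup.index_comap_of_surjective _ (QuotientGroup.mk'_surjective _)]
    exact c3

/-- The core facts for a group with trivial `p'`-core whose `p`-core is narrow of rank at least
three. -/
theorem core_narrow {X : Type u} [Group X] [Finite X] [hsolv : Group.IsSolvable X] (hp2 : p ≠ 2)
    (hO : Cfsg.pPrimeCore p X = ⊥) (hnar : Cfsg.IsNarrow p ↥(Cfsg.pCore p X))
    (hr : ¬ Cfsg.PRankLE p 2 ↥(Cfsg.pCore p X)) :
    (∀ q : ℕ, q.Prime → q ∣ Nat.card X → q ≤ p) ∧ commutator X ≤ Cfsg.pCore p X ∧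
      ((Cfsg.pCore p X).index).Coprime p := by
  have hRp : IsPGroup p ↥(Cfsg.pCore p X) := pCore_isPGroup p
  have hC : Subgroup.centralizer (Cfsg.pCore p X : Set X) ≤ Cfsg.pCore p X :=
    centralizer_pCore_le p hO
  obtain ⟨ζ₀, hζ₀⟩ : ∃ ζ₀ : X →* MulAut ↥(Cfsg.pCore p X), ζ₀ = MulAut.conjNormal := ⟨_, rfl⟩
  have hker : ζ₀.ker ≤ Cfsg.pCore p X := by
    intro g hg
    apply hC
    rw [Subgroup.mem_centralizer_iff]
    intro r hr
    rw [MonoidHom.mem_ker] at hg
    have h1 := congrArg (fun f : MulAut ↥(Cfsg.pCore p X) => ((f ⟨r, hr⟩ : ↥(Cfsg.pCore p X)) : X)) hg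
    beta_reduce at h1
    rw [hζ₀, MulAut.conjNormal_apply] at h1
    simp only [MulAut.one_apply] at h1
    calc r * g = (g * r * g⁻¹) * g := by rw [h1]
      _ = g * r := by group
  obtain ⟨B, hBn, hBp, hBc, hBpow⟩ := narrow_faithful hp2 hRp hr hnar ζ₀ (hRp.to_le hker)
  obtain ⟨d2, d3⟩ := pCore_facts B hBn hBp hBc
  refine ⟨?_, d2, d3⟩
  intro q hq hqX
  by_cases hqp : q = p
  · exact hqp.le
  haveI : Fact q.Prime := ⟨hq⟩
  obtain ⟨g, hg⟩ := exists_prime_orderOf_dvd_card' q hqX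
  have hcop : (orderOf g).Coprime p := by
    rw [hg]; exact (Nat.coprime_primes hq hp.out).mpr hqp
  have h1 := orderOf_dvd_of_pow_mem B hBp hBpow g hcop
  rw [hg] at h1
  have h2 : 0 < p - 1 := by have := hp.out.two_le; omega
  have h3 := Nat.le_of_dvd h2 h1
  omega

/-- For a group of `p`-length one, `O_p(G / O_{p'}(G))` is isomorphic to a Sylow `p`-subgroup. -/
theorem narrow_pCore_quotient {G : Type u} [Group G] [Finite G] (S : Sylow p G)
    (hS : Cfsg.IsNarrow p ↥(S : Subgroup G)) (hr : ¬ Cfsg.PRankLE p 2 ↥(S : Subgroup G))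
    (hpl : Cfsg.PLengthLE p 1 G) :
    Cfsg.IsNarrow p ↥(Cfsg.pCore p (G ⧸ Cfsg.pPrimeCore p G)) ∧
      ¬ Cfsg.PRankLE p 2 ↥(Cfsg.pCore p (G ⧸ Cfsg.pPrimeCore p G)) := by
  obtain ⟨hKSn, hKSi, -, hKS⟩ := Cfsg.Agent.Lib.Lead.PLength.pLengthLE_one_core p hpl S
  obtain ⟨π, hπ⟩ : ∃ π : G →* G ⧸ Cfsg.pPrimeCore p G,
      π = QuotientGroup.mk' (Cfsg.pPrimeCore p G) := ⟨_, rfl⟩
  have hπsurj : Function.Surjective π := by rw [hπ]; exact QuotientGroup.mk'_surjective _
  have hπker : π.ker = Cfsg.pPrimeCore p G := by rw [hπ]; exact QuotientGroup.ker_mk' _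
  obtain ⟨R, hRdef⟩ : ∃ R : Subgroup (G ⧸ Cfsg.pPrimeCore p G), R = (S : Subgroup G).map π :=
    ⟨_, rfl⟩
  have hRn : R.Normal := by
    have h1 : (Cfsg.pPrimeCore p G ⊔ (S : Subgroup G)).map π = R := by
      rw [Subgroup.map_sup, (Subgroup.map_eq_bot_iff _).mpr (le_of_eq hπker.symm), bot_sup_eq,
        hRdef]
    rw [← h1]
    exact Subgroup.Normal.map hKSn π hπsurj
  have hRp : IsPGroup p R := by rw [hRdef]; exact S.2.map π
  have hRi : (R.index).Coprime p := by
    rw [hRdef, Subgroup.index_map, hπker, MonoidHom.range_eq_top.mpr hπsurj, Subgroup.index_top,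
      mul_one, sup_comm]
    exact hKSi
  have hReq : R = Cfsg.pCore p (G ⧸ Cfsg.pPrimeCore p G) := by
    haveI := hRn
    apply le_antisymm (le_pCore hRn hRp)
    exact Cfsg.Agent.Lib.Lead.PLength.le_of_isPGroup_of_index_coprime hRi (pCore_isPGroup p)
  obtain ⟨f, hf⟩ : ∃ f : ↥(S : Subgroup G) →* ↥((S : Subgroup G).map π),
      f = π.subgroupMap (S : Subgroup G) := ⟨_, rfl⟩
  have hfsurj : Function.Surjective f := by rw [hf]; exact π.subgroupMap_surjective _
  have hfinj : Function.Injective f := by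
    rw [injective_iff_map_eq_one]
    intro s hs
    have h1 : π (s : G) = 1 := by
      have h0 := congrArg Subtype.val hs
      rw [hf] at h0
      exact h0
    have h2 : (s : G) ∈ Cfsg.pPrimeCore p G := by rw [← hπker]; exact h1
    have h3 : (s : G) ∈ Cfsg.pPrimeCore p G ⊓ (S : Subgroup G) := Subgroup.mem_inf.mpr ⟨h2, s.2⟩
    rw [hKS, Subgroup.mem_bot] at h3
    exact Subtype.ext h3
  have e : ↥(S : Subgroup G) ≃* ↥((S : Subgroup G).map π) :=
    MulEquiv.ofBijective f ⟨hfinj, hfsurj⟩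
  rw [← hReq, hRdef]
  exact ⟨isNarrow_of_mulEquiv e hS,
    fun h => hr (RT.pRankLE_of_injective e.toMonoidHom e.injective h)⟩

end Cfsg.Agent.Lib.Helper1.NW
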