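import Mathlib
import Cfsg.Agent.Lib.Helper1.Fitting
import Cfsg.Agent.Lib.Helper1.PCore
import Cfsg.Agent.Lib.Helper1.SZHelpers
open Pointwise

set_option autoImplicit false

namespace Cfsg.Agent.Lib.Helper1

universe u

variable {G : Type u} [Group G]

theorem fittingSubgroup_quotient_of_le_frattini [Finite G] (Φ : Subgroup G) [hΦn : Φ.Normal]
    (hΦle : Φ ≤ frattini G) :
    Cfsg.fittingSubgroup (G ⧸ Φ) =
      (Cfsg.fittingSubgroup G).map (QuotientGroup.mk' Φ) := by
  set π := QuotientGroup.mk' Φ with hπ
  have hsurj : Function.Surjective π := QuotientGroup.mk'_surjective Φ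
  have hFn : (Cfsg.fittingSubgroup G).Normal := fittingSubgroup_normal
  apply le_antisymm
  · rw [fittingSubgroup_eq_iSup_pCore]
    apply iSup_le
    intro p
    have : Fact (p : ℕ).Prime := ⟨p.2⟩
    set Q := Cfsg.pCore (p : ℕ) (G ⧸ Φ) with hQ
    have hQn : Q.Normal := pCore_normal _
    set K := Q.comap π with hK
    have hKn : K.Normal := hQn.comap π
    have hKmap : K.map π = Q := Subgroup.map_comap_eq_self_of_surjective hsurj Q
    have hQp : IsPGroup (p : ℕ) (K.map π) := by rw [hKmap]; exact pCore_isPGroup _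
    -- a Sylow p-subgroup of K
    obtain ⟨P⟩ : Nonempty (Sylow (p : ℕ) K) := inferInstance
    set P' : Subgroup G := (P : Subgroup K).map K.subtype with hP'
    have hfsurj := π.subgroupMap_surjective K
    have htop : ((P.mapSurjective hfsurj : Sylow (p : ℕ) (K.map π)) : Subgroup (K.map π)) = ⊤ :=
      ((P.mapSurjective hfsurj).is_maximal' (Q := ⊤)
        (hQp.of_equiv Subgroup.topEquiv.symm) le_top).symm
    rw [Sylow.coe_mapSurjective] at htop
    have hKle : K ≤ P' ⊔ Φ := by
      intro k hk
      have h1 : (⟨π k, Subgroup.mem_map_of_mem π hk⟩ : K.map π) ∈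
          (P : Subgroup K).map (π.subgroupMap K) := by rw [htop]; exact Subgroup.mem_top _
      obtain ⟨x, hx, hxk⟩ := h1
      have h2 : π (x : G) = π k := congrArg Subtype.val hxk
      have h3 : (x : G)⁻¹ * k ∈ Φ := by
        have := QuotientGroup.eq.mp h2
        exact this
      have e : k = (x : G) * ((x : G)⁻¹ * k) := by group
      rw [e]
      exact Subgroup.mul_mem_sup ⟨x, hx, rfl⟩ h3
    -- Frattini argument
    have h1 : Subgroup.normalizer (P' : Set G) ⊔ K = ⊤ := Sylow.normalizer_sup_eq_top P
    have h2 : Subgroup.normalizer (P' : Set G) ⊔ Φ = ⊤ := by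
      rw [eq_top_iff, ← h1]
      apply sup_le le_sup_left
      exact hKle.trans (sup_le (Subgroup.le_normalizer.trans le_sup_left) le_sup_right)
    have h2' : Subgroup.normalizer (P' : Set G) ⊔ frattini G = ⊤ := by
      rw [eq_top_iff, ← h2]
      exact sup_le_sup_left hΦle _
    have h3 := frattini_nongenerating h2'
    have hP'n : P'.Normal := Subgroup.normalizer_eq_top_iff.mp h3
    have hP'p : IsPGroup (p : ℕ) P' := P.2.map _
    have hP'F : P' ≤ Cfsg.fittingSubgroup G := by
      rw [fittingSubgroup_eq_iSup_pCore]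
      exact (le_pCore hP'n hP'p).trans (le_iSup (fun q : Nat.Primes => Cfsg.pCore (q : ℕ) G) p)
    have hΦF : Φ ≤ Cfsg.fittingSubgroup G :=
      hΦle.trans (le_fittingSubgroup inferInstance frattini_nilpotent)
    rw [← hKmap]
    exact Subgroup.map_mono (hKle.trans (sup_le hP'F hΦF))
  · apply le_fittingSubgroup
    · exact hFn.map π hsurj
    · have : Group.IsNilpotent (Cfsg.fittingSubgroup G) := fittingSubgroup_isNilpotent
      exact Group.nilpotent_of_surjective _ (π.subgroupMap_surjective (Cfsg.fittingSubgroup G))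


theorem isNilpotent_of_le {H K : Subgroup G} (h : H ≤ K) (hK : Group.IsNilpotent K) :
    Group.IsNilpotent H := by
  have : Group.IsNilpotent (H.subgroupOf K) := inferInstance
  exact Group.nilpotent_of_mulEquiv (Subgroup.subgroupOfEquivOfLe h)

theorem isNilpotent_of_quotient_le_frattini [Finite G] (A B : Subgroup G) [hAn : A.Normal]
    [hBn : B.Normal] (_hBA : B ≤ A) (hB : B ≤ frattini G)
    (h : Group.IsNilpotent (↥A ⧸ B.subgroupOf A)) : Group.IsNilpotent A := by
  set π := QuotientGroup.mk' B with hπ
  have hsurj : Function.Surjective π := QuotientGroup.mk'_surjective B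
  -- the image of A is nilpotent
  have hker : B.subgroupOf A ≤ (π.subgroupMap A).ker := by
    intro x hx
    rw [MonoidHom.mem_ker]
    apply Subtype.ext
    show π (x : G) = 1
    exact (QuotientGroup.eq_one_iff _).mpr (Subgroup.mem_subgroupOf.mp hx)
  let φ : ↥A ⧸ B.subgroupOf A →* A.map π := QuotientGroup.lift (B.subgroupOf A) (π.subgroupMap A) hker
  have hφ : Function.Surjective φ := by
    intro y
    obtain ⟨x, rfl⟩ := π.subgroupMap_surjective A y
    exact ⟨QuotientGroup.mk x, rfl⟩
  have hnil : Group.IsNilpotent (A.map π) := Group.nilpotent_of_surjective φ hφ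
  have h1 : A.map π ≤ Cfsg.fittingSubgroup (G ⧸ B) :=
    le_fittingSubgroup (hAn.map π hsurj) hnil
  rw [fittingSubgroup_quotient_of_le_frattini B hB] at h1
  have hBF : B ≤ Cfsg.fittingSubgroup G :=
    hB.trans (le_fittingSubgroup inferInstance frattini_nilpotent)
  have h2 : A ≤ Cfsg.fittingSubgroup G := by
    have h3 := Subgroup.comap_mono (f := π) h1
    rw [Subgroup.comap_map_eq, Subgroup.comap_map_eq, QuotientGroup.ker_mk'] at h3
    exact (le_sup_left.trans h3).trans (sup_le le_rfl hBF)
  exact isNilpotent_of_le h2 fittingSubgroup_isNilpotent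

end Cfsg.Agent.Lib.Helper1
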