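import Mathlib
import Cfsg.Agent.Lib.Helper1.RT6
import Cfsg.Agent.Lib.Helper1.FittingCentralizer
import Cfsg.Agent.Lib.Helper1.FittingFrattini2

set_option autoImplicit false
universe u v
open scoped commutatorElement

namespace Cfsg.Agent.Lib.Helper1.RT

open Cfsg Cfsg.Agent.Lib.Helper1 Subgroup

section

variable {G : Type u} [Group G] [Finite G]

/-- An element centralizing every `O_r(G)` centralizes the Fitting subgroup. -/
theorem mem_centralizer_fitting_of_forall {h : G}
    (hh : ∀ r : Nat.Primes, h ∈ Subgroup.centralizer (Cfsg.pCore (r : ℕ) G : Set G)) :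
    h ∈ Subgroup.centralizer (Cfsg.fittingSubgroup G : Set G) := by
  have h1 : Cfsg.fittingSubgroup G ≤ Subgroup.centralizer ((Subgroup.zpowers h : Subgroup G) : Set G) := by
    rw [fittingSubgroup_eq_iSup_pCore]
    apply iSup_le
    intro r
    rw [Subgroup.le_centralizer_iff, Subgroup.zpowers_le]
    exact hh r
  rw [Subgroup.mem_centralizer_iff]
  intro f hf
  have := Subgroup.mem_centralizer_iff.mp (h1 hf) h (Subgroup.mem_zpowers h)
  exact this.symm

theorem pElement_commutator_mem_pCore [Group.IsSolvable G] (hodd : Odd (Nat.card G))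
    (hrk : ∀ (r : ℕ) [Fact r.Prime], Cfsg.PRankLE r 2 ↥(Cfsg.pCore r G))
    (p : ℕ) [hp : Fact p.Prime] (x : G) (hx : x ∈ commutator G) (hxp : ∃ k : ℕ, x ^ (p ^ k) = 1) :
    x ∈ Cfsg.pCore p G := by
  classical
  -- the action lemma for each prime
  have act : ∀ r : Nat.Primes, ∀ g ∈ commutator G, ∃ k : ℕ,
      g ^ ((r : ℕ) ^ k) ∈ Subgroup.centralizer (Cfsg.pCore (r : ℕ) G : Set G) := by
    intro r
    have : Fact (r : ℕ).Prime := ⟨r.2⟩
    exact (act_lemma hodd (Cfsg.pCore (r : ℕ) G) (pCore_isPGroup (r : ℕ)) (hrk (r : ℕ))).1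
  obtain ⟨D, hD⟩ : ∃ D : Subgroup G, D = ⨅ r : {r : Nat.Primes // (r : ℕ) ≠ p},
      Subgroup.centralizer (Cfsg.pCore ((r : Nat.Primes) : ℕ) G : Set G) := ⟨_, rfl⟩
  have hDn : D.Normal := by
    rw [hD]
    exact Subgroup.normal_iInf_normal (fun r => Subgroup.normal_centralizer)
  obtain ⟨Y, hY⟩ : ∃ Y : Subgroup G, Y = ⨆ r : {r : Nat.Primes // (r : ℕ) ≠ p},
      Cfsg.pCore ((r : Nat.Primes) : ℕ) G := ⟨_, rfl⟩
  have hYn : Y.Normal := by rw [hY]; infer_instance
  have hYc : (Nat.card Y).Coprime p := by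
    have h1 : Y ≤ Cfsg.pPrimeCore p G := by
      rw [hY]
      apply iSup_le
      rintro ⟨r, hr⟩
      have : Fact (r : ℕ).Prime := ⟨r.2⟩
      exact pCore_le_pPrimeCore hr
    exact Nat.Coprime.coprime_dvd_left (Subgroup.card_dvd_of_le h1) (pPrimeCore_card_coprime p)
  have hDY : D ≤ Subgroup.centralizer (Y : Set G) := by
    rw [Subgroup.le_centralizer_iff, hY]
    apply iSup_le
    intro r
    rw [Subgroup.le_centralizer_iff, hD]
    exact iInf_le _ r
  obtain ⟨L, hL⟩ : ∃ L : Subgroup G, L = commutator G ⊓ D := ⟨_, rfl⟩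
  have hLn : L.Normal := by rw [hL]; infer_instance
  have hLD : L ≤ D := by rw [hL]; exact inf_le_right
  have hFle : Cfsg.fittingSubgroup G ≤ Cfsg.pCore p G ⊔ Y := by
    rw [fittingSubgroup_eq_iSup_pCore]
    apply iSup_le
    intro r
    by_cases hr : (r : ℕ) = p
    · rw [hr]; exact le_sup_left
    · refine le_trans ?_ le_sup_right
      rw [hY]
      exact le_iSup (fun r : {r : Nat.Primes // (r : ℕ) ≠ p} =>
        Cfsg.pCore ((r : Nat.Primes) : ℕ) G) ⟨r, hr⟩
  -- p-power property for L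
  have hLpow : ∀ g ∈ L, ∃ k : ℕ, g ^ (p ^ k) ∈ Y := by
    intro g hg
    rw [hL] at hg
    obtain ⟨hg1, hg2⟩ := Subgroup.mem_inf.mp hg
    obtain ⟨k, hk⟩ := act ⟨p, hp.out⟩ g hg1
    have h1 : g ^ (p ^ k) ∈ Subgroup.centralizer (Cfsg.fittingSubgroup G : Set G) := by
      apply mem_centralizer_fitting_of_forall
      intro r
      by_cases hr : (r : ℕ) = p
      · have : r = ⟨p, hp.out⟩ := Subtype.ext hr
        rw [this]; exact hk
      · apply Subgroup.pow_mem
        rw [hD] at hg2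
        exact (Subgroup.mem_iInf.mp hg2) ⟨r, hr⟩
    have h2 : g ^ (p ^ k) ∈ Cfsg.pCore p G ⊔ Y := hFle (centralizer_fittingSubgroup_le h1)
    obtain ⟨a, ha, b, hb, hab⟩ := Subgroup.mem_sup_of_normal_right.mp h2
    obtain ⟨j, hj⟩ := (pCore_isPGroup (G := G) p) ⟨a, ha⟩
    have hj' : a ^ (p ^ j) = 1 := by
      have := congrArg Subtype.val hj
      rwa [Subgroup.coe_pow] at this
    refine ⟨k + j, ?_⟩
    rw [pow_add, pow_mul, ← QuotientGroup.eq_one_iff, QuotientGroup.mk_pow, ← hab,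
      QuotientGroup.mk_mul, (QuotientGroup.eq_one_iff b).mpr hb, mul_one, ← QuotientGroup.mk_pow,
      hj']
    rfl
  -- apply the central complement lemma inside L
  obtain ⟨A, hA⟩ : ∃ A : Subgroup ↥L, A = Y.subgroupOf L := ⟨_, rfl⟩
  have hAcent : ∀ a ∈ A, ∀ l : ↥L, a * l = l * a := by
    intro a ha l
    rw [hA, Subgroup.mem_subgroupOf] at ha
    have hl : (l : G) ∈ D := hLD l.2
    have := Subgroup.mem_centralizer_iff.mp (hDY hl) (a : G) ha
    apply Subtype.ext
    rw [Subgroup.coe_mul, Subgroup.coe_mul]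
    exact this
  have hAc : (Nat.card A).Coprime p := by
    have h1 : Nat.card A ∣ Nat.card Y := by
      have h2 := Subgroup.card_map_of_injective (K := A) (f := L.subtype) L.subtype_injective
      rw [← h2, hA, Subgroup.subgroupOf_map_subtype]
      exact Subgroup.card_dvd_of_le inf_le_left
    exact Nat.Coprime.coprime_dvd_left h1 hYc
  have hAq : ∀ g : ↥L, ∃ k : ℕ, g ^ (p ^ k) ∈ A := by
    intro g
    obtain ⟨k, hk⟩ := hLpow g g.2
    refine ⟨k, ?_⟩
    rw [hA, Subgroup.mem_subgroupOf, Subgroup.coe_pow]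
    exact hk
  obtain ⟨P, hPp, hP⟩ := central_npc A hAcent hAc hAq
  -- x lies in L
  have hxD : x ∈ D := by
    rw [hD, Subgroup.mem_iInf]
    rintro ⟨r, hr⟩
    obtain ⟨k, hk⟩ := act r x hx
    obtain ⟨k', hk'⟩ := hxp
    have h1 : orderOf x ∣ p ^ k' := orderOf_dvd_of_pow_eq_one hk'
    have h2 : Nat.Coprime ((r : ℕ) ^ k) (orderOf x) := by
      apply Nat.Coprime.coprime_dvd_right h1
      apply Nat.Coprime.pow
      exact (Nat.coprime_primes r.2 hp.out).mpr hr
    exact Helper3.mem_of_pow_mem_of_coprime _ x _ h2 hk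
  have hxL : x ∈ L := by rw [hL]; exact Subgroup.mem_inf.mpr ⟨hx, hxD⟩
  -- the normal closure of x is a p-group
  have hcl : Subgroup.normalClosure {x} ≤ P.map L.subtype := by
    unfold Subgroup.normalClosure
    rw [Subgroup.closure_le]
    intro y hy
    rw [Group.mem_conjugatesOfSet_iff] at hy
    obtain ⟨a, ha, hay⟩ := hy
    rw [Set.mem_singleton_iff] at ha
    subst ha
    obtain ⟨c, hc⟩ := isConj_iff.mp hay
    have hyL : y ∈ L := by rw [← hc]; exact hLn.conj_mem a hxL c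
    refine ⟨⟨y, hyL⟩, ?_, rfl⟩
    apply hP
    obtain ⟨k', hk'⟩ := hxp
    refine ⟨k', ?_⟩
    apply Subtype.ext
    rw [Subgroup.coe_pow]
    show y ^ (p ^ k') = 1
    rw [← hc, conj_pow, hk', mul_one, mul_inv_cancel]
  have hclp : IsPGroup p (Subgroup.normalClosure ({x} : Set G)) :=
    (hPp.map L.subtype).to_le hcl
  exact le_pCore Subgroup.normalClosure_normal hclp (Subgroup.subset_normalClosure rfl)

/-- BG 4.20(a): the derived subgroup lies in the Fitting subgroup. -/
theorem commutator_le_fitting [Group.IsSolvable G] (hodd : Odd (Nat.card G))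
    (hrk : ∀ (r : ℕ) [Fact r.Prime], Cfsg.PRankLE r 2 ↥(Cfsg.pCore r G)) :
    commutator G ≤ Cfsg.fittingSubgroup G := by
  intro x hx
  apply Helper3.mem_of_pParts_mem
  intro p hp
  have : Fact p.Prime := ⟨hp⟩
  apply Helper3.pCore_le_fittingSubgroup p
  apply pElement_commutator_mem_pCore hodd hrk p _ (Helper3.pPart_mem hx p)
  refine ⟨(orderOf x).factorization p, ?_⟩
  rw [← Helper3.orderOf_pPart x p]
  exact pow_orderOf_eq_one _

end

end Cfsg.Agent.Lib.Helper1.RT
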