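import Mathlib
import Cfsg.Agent.Lib.Helper1.NW4
import Cfsg.Agent.Lib.Helper1.RT7
import Cfsg.Agent.Lib.Helper1.BestOffender
import Cfsg.Agent.Lib.Lead.UniqueP

/-! B&G Theorem 5.6-type statement: `G' ≤ F(G)` when `C_{F(G)}(E)` has rank at most two. -/
set_option autoImplicit false
set_option maxHeartbeats 4000000
set_option linter.unusedVariables false
set_option linter.unusedSectionVars false
set_option linter.style.haveILetI false
set_option linter.deprecated false
universe u v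
open scoped commutatorElement

namespace Cfsg.Agent.Lib.Helper1.NW

open Cfsg Cfsg.Agent.Lib.Helper1 Cfsg.Agent.Lib.Helper1.RT Subgroup

section narrow
variable {p : ℕ} [hp : Fact p.Prime]

/-- A `p`-group of rank at least three in which some elementary abelian subgroup has a centralizer
of rank at most two is narrow. -/
theorem narrow_of_centralizer_rank {P : Type u} [Group P] [Finite P] (hp2 : p ≠ 2)
    (hP : IsPGroup p P) (hr : ¬ Cfsg.PRankLE p 2 P) (E : Subgroup P)
    (hE : Cfsg.IsElementaryAbelian p E)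
    (hC : Cfsg.PRankLE p 2 ↥(Subgroup.centralizer (E : Set P))) : Cfsg.IsNarrow p P := by
  classical
  have hp1 : 1 < p := hp.out.one_lt
  obtain ⟨Z, hZ⟩ : ∃ Z : Subgroup P, Z = closure {x : P | x ∈ center P ∧ x ^ p = 1} := ⟨_, rfl⟩
  have hZmem : ∀ x, x ∈ Z ↔ x ∈ center P ∧ x ^ p = 1 := by
    intro x
    rw [hZ]
    exact ⟨Rk.mem_closure_center_pow, fun h => subset_closure h⟩
  have hbound : ∀ B : Subgroup P, Cfsg.IsElementaryAbelian p B → E ≤ B → Nat.card B ≤ p ^ 2 := by
    intro B hB hEB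
    have hBC : B ≤ Subgroup.centralizer (E : Set P) := by
      intro x hx
      rw [Subgroup.mem_centralizer_iff]
      intro y hy
      have h0 := hB.1.is_comm.comm (⟨y, hEB hy⟩ : ↥B) ⟨x, hx⟩
      exact congrArg Subtype.val h0
    have h1 := hC (B.subgroupOf (Subgroup.centralizer (E : Set P))) ?_ ?_
    · rwa [Nat.card_congr (Subgroup.subgroupOfEquivOfLe hBC).toEquiv] at h1
    · refine ⟨⟨fun a b => ?_⟩⟩
      apply Subtype.ext
      apply Subtype.ext
      have h0 := hB.1.is_comm.comm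
        (⟨((a : ↥(Subgroup.centralizer (E : Set P))) : P), Subgroup.mem_subgroupOf.mp a.2⟩ : ↥B)
        ⟨((b : ↥(Subgroup.centralizer (E : Set P))) : P), Subgroup.mem_subgroupOf.mp b.2⟩
      have h1 : ((a : ↥(Subgroup.centralizer (E : Set P))) : P) *
          ((b : ↥(Subgroup.centralizer (E : Set P))) : P) =
          ((b : ↥(Subgroup.centralizer (E : Set P))) : P) *
          ((a : ↥(Subgroup.centralizer (E : Set P))) : P) := congrArg Subtype.val h0
      exact h1
    · intro a ha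
      apply Subtype.ext
      rw [Subgroup.coe_pow]
      exact hB.2 _ (Subgroup.mem_subgroupOf.mp ha)
  have hEZcomm : ∀ a ∈ E, ∀ b ∈ Z, a * b = b * a := by
    intro a _ b hb
    exact Subgroup.mem_center_iff.mp ((hZmem b).mp hb).1 a
  obtain ⟨E', hE'⟩ : ∃ E' : Subgroup P, E' = E ⊔ Z := ⟨_, rfl⟩
  have hE'dec : ∀ x ∈ E', ∃ a ∈ E, ∃ b ∈ Z, x = a * b := by
    intro x hx
    rw [hE'] at hx
    exact mem_sup_of_commute' hEZcomm hx
  have hEcomm : ∀ a ∈ E, ∀ b ∈ E, a * b = b * a := by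
    intro a ha b hb
    exact congrArg Subtype.val (hE.1.is_comm.comm (⟨a, ha⟩ : ↥E) ⟨b, hb⟩)
  have hE'el : Cfsg.IsElementaryAbelian p E' := by
    refine ⟨⟨⟨fun x y => ?_⟩⟩, ?_⟩
    · apply Subtype.ext
      obtain ⟨a, ha, b, hb, hab⟩ := hE'dec _ x.2
      obtain ⟨a', ha', b', hb', hab'⟩ := hE'dec _ y.2
      have hbc := ((hZmem b).mp hb).1
      have hbc' := ((hZmem b').mp hb').1
      show (x : P) * (y : P) = (y : P) * (x : P)
      rw [hab, hab']
      have h1 : ∀ g : P, g * b = b * g := Subgroup.mem_center_iff.mp hbc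
      have h2 : ∀ g : P, g * b' = b' * g := Subgroup.mem_center_iff.mp hbc'
      calc a * b * (a' * b') = a * (b * a') * b' := by group
        _ = a * (a' * b) * b' := by rw [h1 a']
        _ = (a * a') * (b * b') := by group
        _ = (a' * a) * (b' * b) := by rw [hEcomm a ha a' ha', ← h2 b]
        _ = a' * (a * b') * b := by group
        _ = a' * (b' * a) * b := by rw [h2 a]
        _ = a' * b' * (a * b) := by group
    · intro x hx
      obtain ⟨a, ha, b, hb, rfl⟩ := hE'dec x hx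
      have hc : Commute a b := hEZcomm a ha b hb
      rw [hc.mul_pow, hE.2 a ha, ((hZmem b).mp hb).2, one_mul]
  have hEE' : E ≤ E' := by rw [hE']; exact le_sup_left
  have hZE' : Z ≤ E' := by rw [hE']; exact le_sup_right
  have hE'le : Nat.card E' ≤ p ^ 2 := hbound E' hE'el hEE'
  haveI : Nontrivial P := by
    by_contra hcon
    rw [not_nontrivial_iff_subsingleton] at hcon
    apply hr
    intro A _ _
    have h1 : Nat.card A ≤ Nat.card P :=
      Nat.le_of_dvd Nat.card_pos (Subgroup.card_subgroup_dvd_card A)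
    have h2 : Nat.card P = 1 := Nat.card_eq_one_iff_unique.mpr ⟨hcon, ⟨1⟩⟩
    have h3 := Nat.one_le_pow 2 p hp.out.pos
    omega
  obtain ⟨z, hzZ, hz1⟩ : ∃ z ∈ Z, z ≠ 1 := by
    haveI hcnt : Nontrivial (Subgroup.center P) := hP.center_nontrivial
    obtain ⟨k, hk⟩ := IsPGroup.iff_card.mp (hP.to_subgroup (Subgroup.center P))
    have hk0 : k ≠ 0 := by
      rintro rfl
      rw [pow_zero] at hk
      have h1 := Finite.one_lt_card (α := ↥(Subgroup.center P))
      omega
    have hdvd : p ∣ Nat.card (Subgroup.center P) := by rw [hk]; exact dvd_pow_self p hk0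
    obtain ⟨x, hx⟩ := exists_prime_orderOf_dvd_card' p hdvd
    refine ⟨(x : P), (hZmem _).mpr ⟨x.2, ?_⟩, ?_⟩
    · have h1 : x ^ p = 1 := by rw [← hx]; exact pow_orderOf_eq_one x
      have h2 := congrArg Subtype.val h1
      rwa [Subgroup.coe_pow] at h2
    · intro h
      have h1 : x = 1 := Subtype.ext h
      rw [h1, orderOf_one] at hx
      omega
  have hE'p : IsPGroup p E' := hP.to_subgroup E'
  obtain ⟨k, hk⟩ := IsPGroup.iff_card.mp hE'p
  have hk2 : k ≤ 2 := by
    rw [hk] at hE'le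
    exact (Nat.pow_le_pow_iff_right hp1).mp hE'le
  have hk2' : k = 2 := by
    by_contra hne
    have hk1 : k ≤ 1 := by omega
    apply hr
    have hzz : Subgroup.zpowers z ≤ E' := by rw [Subgroup.zpowers_le]; exact hZE' hzZ
    have hzp : z ^ p = 1 := ((hZmem z).mp hzZ).2
    have hcz : Nat.card (Subgroup.zpowers z) = p := by
      rw [Nat.card_zpowers, orderOf_eq_prime hzp hz1]
    have hE'eq : Subgroup.zpowers z = E' := by
      apply Subgroup.eq_of_le_of_card_ge hzz
      rw [hcz, hk]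
      calc p ^ k ≤ p ^ 1 := Nat.pow_le_pow_right hp.out.pos hk1
        _ = p := pow_one p
    have hEcen : E ≤ Subgroup.center P := by
      intro x hx
      have h1 : x ∈ Subgroup.zpowers z := by rw [hE'eq]; exact hEE' hx
      exact (Subgroup.zpowers_le.mpr ((hZmem z).mp hzZ).1) h1
    have htop : Subgroup.centralizer (E : Set P) = ⊤ := by
      rw [eq_top_iff]
      intro x _
      rw [Subgroup.mem_centralizer_iff]
      intro y hy
      exact (Subgroup.mem_center_iff.mp (hEcen hy) x).symm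
    have e : P ≃* ↥(Subgroup.centralizer (E : Set P)) :=
      Subgroup.topEquiv.symm.trans (MulEquiv.subgroupCongr htop.symm)
    exact RT.pRankLE_of_injective e.toMonoidHom e.injective hC
  have hE'2 : Nat.card E' = p ^ 2 := by rw [hk, hk2']
  have hE'max : ∀ B : Subgroup P, Cfsg.IsElementaryAbelian p B → E' ≤ B → B = E' := by
    intro B hB hE'B
    have h1 := hbound B hB (hEE'.trans hE'B)
    exact (Subgroup.eq_of_le_of_card_ge hE'B (by rw [hE'2]; exact h1)).symm
  obtain ⟨hnot, hZcard, -, hTchar, hTidx⟩ := Rk.s1453 hp2 hP hr E' hE'el hE'2 hE'max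
  rw [← hZ] at hZcard
  obtain ⟨T, hT⟩ : ∃ T : Subgroup P, T = Subgroup.centralizer ((Subgroup.closure
      {x : P | x ∈ Subgroup.upperCentralSeries P 2 ∧ x ^ p = 1} : Subgroup P) : Set P) := ⟨_, rfl⟩
  rw [← hT] at hnot hTchar hTidx
  have hZT : Z ≤ T := by
    intro x hx
    rw [hT]
    exact Subgroup.center_le_centralizer _ ((hZmem x).mp hx).1
  obtain ⟨e, heE', heT⟩ : ∃ e ∈ E', e ∉ T := by
    by_contra hcon
    push Not at hcon
    exact hnot hcon
  have hep : e ^ p = 1 := hE'el.2 e heE'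
  have he1 : e ≠ 1 := fun h => heT (h ▸ T.one_mem)
  obtain ⟨R₀, hR₀⟩ : ∃ R₀ : Subgroup P, R₀ = Subgroup.zpowers e := ⟨_, rfl⟩
  have hR₀card : Nat.card R₀ = p := by rw [hR₀, Nat.card_zpowers, orderOf_eq_prime hep he1]
  obtain ⟨R₁, hR₁⟩ : ∃ R₁ : Subgroup P, R₁ = T ⊓ Subgroup.centralizer ({e} : Set P) := ⟨_, rfl⟩
  have hR₁mem : ∀ x, x ∈ R₁ ↔ x ∈ T ∧ e * x = x * e := by
    intro x
    rw [hR₁, Subgroup.mem_inf, Subgroup.mem_centralizer_iff]
    constructor
    · rintro ⟨h1, h2⟩
      exact ⟨h1, h2 e (Set.mem_singleton e)⟩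
    · rintro ⟨h1, h2⟩
      refine ⟨h1, fun h hh => ?_⟩
      rw [Set.mem_singleton_iff] at hh
      rw [hh]
      exact h2
  have hE'T : E' ⊓ T = Z := by
    have h1 : Nat.card (E' ⊓ T : Subgroup P) ∣ p ^ 2 := by
      rw [← hE'2]; exact Subgroup.card_dvd_of_le inf_le_left
    obtain ⟨i, hi2, hi⟩ := (Nat.dvd_prime_pow hp.out).mp h1
    have hi1 : i ≤ 1 := by
      by_contra hcon
      have hi' : i = 2 := by omega
      rw [hi'] at hi
      have h2 : E' ⊓ T = E' := Subgroup.eq_of_le_of_card_ge inf_le_left (by rw [hi, hE'2])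
      apply hnot
      rw [← h2]
      exact inf_le_right
    have hle : Z ≤ E' ⊓ T := le_inf hZE' hZT
    exact (Subgroup.eq_of_le_of_card_ge hle (by
      rw [hi, hZcard]
      calc p ^ i ≤ p ^ 1 := Nat.pow_le_pow_right hp.out.pos hi1
        _ = p := pow_one p)).symm
  have hR₀T : R₀ ⊓ T = ⊥ := by
    rw [eq_bot_iff]
    intro x hx
    obtain ⟨hx0, hxT⟩ := Subgroup.mem_inf.mp hx
    rw [Subgroup.mem_bot]
    by_contra hx1
    have h1 : Subgroup.zpowers x = R₀ := BK.zpowers_eq_of_card_prime hR₀card hx0 hx1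
    apply heT
    have h2 : e ∈ Subgroup.zpowers x := by rw [h1, hR₀]; exact Subgroup.mem_zpowers e
    exact (Subgroup.zpowers_le.mpr hxT) h2
  have hR₀E' : R₀ ≤ E' := by rw [hR₀, Subgroup.zpowers_le]; exact heE'
  have hE'eq : R₀ ⊔ Z = E' := by
    apply Subgroup.eq_of_le_of_card_ge (sup_le hR₀E' hZE')
    have h1 := card_mul_card_le_card_sup_mul_card_inf R₀ Z
    have h2 : R₀ ⊓ Z = ⊥ := by
      rw [eq_bot_iff, ← hR₀T]
      exact inf_le_inf_left R₀ hZT
    rw [h2, Subgroup.card_bot, mul_one, hR₀card, hZcard] at h1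
    rw [hE'2, pow_two]
    exact h1
  have hcommE' : ∀ x : P, e * x = x * e → ∀ y ∈ E', y * x = x * y := by
    intro x hx y hy
    rw [← hE'eq] at hy
    have hc : ∀ a ∈ R₀, ∀ b ∈ Z, a * b = b * a := fun a _ b hb =>
      Subgroup.mem_center_iff.mp ((hZmem b).mp hb).1 a
    obtain ⟨a, ha, b, hb, rfl⟩ := mem_sup_of_commute' hc hy
    have hax : a * x = x * a := by
      rw [hR₀] at ha
      exact commute_zpowers hx.symm ha
    have hbx : b * x = x * b := (Subgroup.mem_center_iff.mp ((hZmem b).mp hb).1 x).symm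
    calc a * b * x = a * (b * x) := by group
      _ = a * (x * b) := by rw [hbx]
      _ = (a * x) * b := by group
      _ = (x * a) * b := by rw [hax]
      _ = x * (a * b) := by group
  have hi : ∀ x : P, x ^ p = 1 → e * x = x * e → x ∈ E' := by
    intro x hxp hxe
    have hc : ∀ a ∈ E', ∀ b ∈ Subgroup.zpowers x, a * b = b * a := by
      intro a ha b hb
      obtain ⟨i, rfl⟩ := Subgroup.mem_zpowers_iff.mp hb
      have h1 : Commute a x := hcommE' x hxe a ha
      exact (h1.zpow_right i).eq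
    have hBel : Cfsg.IsElementaryAbelian p (E' ⊔ Subgroup.zpowers x) := by
      refine ⟨⟨⟨fun u v => ?_⟩⟩, ?_⟩
      · apply Subtype.ext
        obtain ⟨a, ha, b, hb, hab⟩ := mem_sup_of_commute' hc u.2
        obtain ⟨a', ha', b', hb', hab'⟩ := mem_sup_of_commute' hc v.2
        show (u : P) * (v : P) = (v : P) * (u : P)
        rw [hab, hab']
        have h1 : a * a' = a' * a :=
          congrArg Subtype.val (hE'el.1.is_comm.comm (⟨a, ha⟩ : ↥E') ⟨a', ha'⟩)
        have h2 : b * b' = b' * b := by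
          obtain ⟨i, rfl⟩ := Subgroup.mem_zpowers_iff.mp hb
          obtain ⟨j, rfl⟩ := Subgroup.mem_zpowers_iff.mp hb'
          exact (Commute.zpow_zpow_self x i j).eq
        calc a * b * (a' * b') = a * (b * a') * b' := by group
          _ = a * (a' * b) * b' := by rw [hc a' ha' b hb]
          _ = (a * a') * (b * b') := by group
          _ = (a' * a) * (b' * b) := by rw [h1, h2]
          _ = a' * (a * b') * b := by group
          _ = a' * (b' * a) * b := by rw [hc a ha b' hb']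
          _ = a' * b' * (a * b) := by group
      · intro u hu
        obtain ⟨a, ha, b, hb, rfl⟩ := mem_sup_of_commute' hc hu
        have hcab : Commute a b := hc a ha b hb
        obtain ⟨i, rfl⟩ := Subgroup.mem_zpowers_iff.mp hb
        have h3 : (x ^ i) ^ p = 1 := by
          rw [← zpow_natCast, ← zpow_mul, mul_comm, zpow_mul, zpow_natCast, hxp, one_zpow]
        rw [hcab.mul_pow, hE'el.2 a ha, one_mul, h3]
    have h1 := hE'max _ hBel le_sup_left
    rw [← h1]
    exact Subgroup.mem_sup_right (Subgroup.mem_zpowers x)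
  have hR₁cyc : IsCyclic ↥R₁ := by
    have hR₁p : IsPGroup p ↥R₁ := hP.to_subgroup R₁
    have hu : Cfsg.Agent.Lib.Lead.UniqueP.UOP p ↥R₁ := by
      intro x y hx hy hx1
      have hxZ : ∀ w : ↥R₁, w ^ p = 1 → (w : P) ∈ Z := by
        intro w hw
        have hwp : (w : P) ^ p = 1 := by
          have h0 := congrArg Subtype.val hw
          rwa [Subgroup.coe_pow] at h0
        obtain ⟨hwT, hwe⟩ := (hR₁mem _).mp w.2
        rw [← hE'T]
        exact Subgroup.mem_inf.mpr ⟨hi _ hwp hwe, hwT⟩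
      have h1 : Subgroup.zpowers (x : P) = Z :=
        BK.zpowers_eq_of_card_prime hZcard (hxZ x hx) (fun h => hx1 (Subtype.ext h))
      have h2 : (y : P) ∈ Subgroup.zpowers (x : P) := by rw [h1]; exact hxZ y hy
      obtain ⟨i, hi'⟩ := Subgroup.mem_zpowers_iff.mp h2
      rw [Subgroup.mem_zpowers_iff]
      exact ⟨i, Subtype.ext (by rw [Subgroup.coe_zpow]; exact hi')⟩
    rcases Cfsg.Agent.Lib.Lead.UniqueP.cyclic_or_quaternion p hR₁p hu with h | ⟨h, -⟩
    · exact h
    · exact absurd h hp2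
  right
  refine ⟨R₀, R₁, hR₀card, hR₁cyc, ?_, ?_, ?_⟩
  · rw [eq_bot_iff, ← hR₀T]
    exact inf_le_inf_left R₀ (by rw [hR₁]; exact inf_le_left)
  · intro a ha b hb
    rw [hR₀] at ha
    have hbe := ((hR₁mem b).mp hb).2
    exact commute_zpowers hbe.symm ha
  · apply le_antisymm
    · apply sup_le
      · intro a ha
        rw [Subgroup.mem_centralizer_iff]
        intro b hb
        have ha' : a ∈ Subgroup.zpowers e := by rw [← hR₀]; exact ha
        have hb' : b ∈ Subgroup.zpowers e := by rw [← hR₀]; exact hb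
        obtain ⟨i, rfl⟩ := Subgroup.mem_zpowers_iff.mp ha'
        obtain ⟨j, rfl⟩ := Subgroup.mem_zpowers_iff.mp hb'
        exact (Commute.zpow_zpow_self e j i).eq
      · intro b hb
        rw [Subgroup.mem_centralizer_iff]
        intro a ha
        have ha' : a ∈ Subgroup.zpowers e := by rw [← hR₀]; exact ha
        exact commute_zpowers ((hR₁mem b).mp hb).2.symm ha'
    · intro x hx
      have hxe : e * x = x * e := by
        rw [Subgroup.mem_centralizer_iff] at hx
        exact hx e (by rw [hR₀]; exact Subgroup.mem_zpowers e)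
      haveI : T.Normal := by haveI := hTchar; infer_instance
      have hcard : Nat.card (⊤ : Subgroup P) = Nat.card T * p := by
        rw [Subgroup.card_top, ← hTidx]; exact (Subgroup.card_mul_index T).symm
      obtain ⟨i, t, ht, hxt⟩ := BK.exists_pow_mul_of_card_mul (le_top : T ≤ ⊤) hcard
        (Subgroup.mem_top e) heT x (Subgroup.mem_top x)
      have hte : e * t = t * e := by
        have h1 : t = (e ^ i)⁻¹ * x := by rw [hxt]; group
        rw [h1]
        have hc1 : Commute e x := hxe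
        have hc2 : Commute e ((e ^ i)⁻¹) := ((Commute.refl e).pow_right i).inv_right
        exact (hc2.mul_right hc1).eq
      rw [hxt]
      exact Subgroup.mul_mem_sup
        (by rw [hR₀]; exact Subgroup.pow_mem _ (Subgroup.mem_zpowers e) i)
        ((hR₁mem t).mpr ⟨ht, hte⟩)

/-- The action lemma for a normal narrow `r`-subgroup of rank at least three. -/
theorem act_narrow {G : Type u} [Group G] [Finite G] (hp2 : p ≠ 2)
    (Q : Subgroup G) [hQn : Q.Normal] (hQ : IsPGroup p Q) (hnar : Cfsg.IsNarrow p ↥Q)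
    (hrk : ¬ Cfsg.PRankLE p 2 ↥Q) :
    ∀ g ∈ commutator G, ∃ k : ℕ, g ^ (p ^ k) ∈ Subgroup.centralizer (Q : Set G) := by
  obtain ⟨B₀, hBn, hBp, hBc, hBpow⟩ := narrow_main hp2 hQ hrk hnar
  obtain ⟨ζ₀, hζ₀⟩ : ∃ ζ₀ : G →* MulAut ↥Q, ζ₀ = MulAut.conjNormal := ⟨_, rfl⟩
  have hker : ζ₀.ker ≤ Subgroup.centralizer (Q : Set G) := by
    intro g hg
    rw [Subgroup.mem_centralizer_iff]
    intro x hx
    rw [MonoidHom.mem_ker] at hg
    have h1 := congrArg (fun f : MulAut ↥Q => ((f ⟨x, hx⟩ : ↥Q) : G)) hg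
    beta_reduce at h1
    rw [hζ₀, MulAut.conjNormal_apply] at h1
    simp only [MulAut.one_apply] at h1
    calc x * g = (g * x * g⁻¹) * g := by rw [h1]
      _ = g * x := by group
  intro g hg
  have h1 : ζ₀ g ∈ B₀ := by
    have h2 : commutator G ≤ B₀.comap ζ₀ := by
      rw [commutator_def, Subgroup.commutator_le]
      intro a _ b _
      rw [Subgroup.mem_comap, map_commutatorElement]
      exact hBc _ _
    exact h2 hg
  obtain ⟨k, hk⟩ := hBp ⟨ζ₀ g, h1⟩
  refine ⟨k, hker ?_⟩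
  rw [MonoidHom.mem_ker, map_pow]
  have h0 := congrArg Subtype.val hk
  rwa [Subgroup.coe_pow] at h0

end narrow

section fit

variable {G : Type u} [Group G] [Finite G]

theorem pElement_commutator_mem_pCore' [Group.IsSolvable G]
    (act : ∀ r : Nat.Primes, ∀ g ∈ commutator G, ∃ k : ℕ,
      g ^ ((r : ℕ) ^ k) ∈ Subgroup.centralizer (Cfsg.pCore (r : ℕ) G : Set G))
    (p : ℕ) [hp : Fact p.Prime] (x : G) (hx : x ∈ commutator G) (hxp : ∃ k : ℕ, x ^ (p ^ k) = 1) :
    x ∈ Cfsg.pCore p G := by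
  classical
  obtain ⟨D, hD⟩ : ∃ D : Subgroup G, D = ⨅ r : {r : Nat.Primes // (r : ℕ) ≠ p},
      Subgroup.centralizer (Cfsg.pCore ((r : Nat.Primes) : ℕ) G : Set G) := ⟨_, rfl⟩
  have hDn : D.Normal := by
    rw [hD]
    exact Subgroup.normal_iInf_normal (fun r => Subgroup.normal_centralizer)
  obtain ⟨Y, hY⟩ : ∃ Y : Subgroup G, Y = ⨆ r : {r : Nat.Primes // (r : ℕ) ≠ p},
      Cfsg.pCore ((r : Nat.Primes) : ℕ) G := ⟨_, rfl⟩
  have hYn : Y.Normal := by rw [hY]; infer_instance
  have hYc : (Nat.card Y).Coprime p := by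
    have h1 : Y ≤ Cfsg.pPrimeCore p G := by
      rw [hY]
      apply iSup_le
      rintro ⟨r, hr⟩
      have : Fact (r : ℕ).Prime := ⟨r.2⟩
      exact pCore_le_pPrimeCore hr
    exact Nat.Coprime.coprime_dvd_left (Subgroup.card_dvd_of_le h1) (pPrimeCore_card_coprime p)
  have hDY : D ≤ Subgroup.centralizer (Y : Set G) := by
    rw [Subgroup.le_centralizer_iff, hY]
    apply iSup_le
    intro r
    rw [Subgroup.le_centralizer_iff, hD]
    exact iInf_le _ r
  obtain ⟨L, hL⟩ : ∃ L : Subgroup G, L = commutator G ⊓ D := ⟨_, rfl⟩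
  have hLn : L.Normal := by rw [hL]; infer_instance
  have hLD : L ≤ D := by rw [hL]; exact inf_le_right
  have hFle : Cfsg.fittingSubgroup G ≤ Cfsg.pCore p G ⊔ Y := by
    rw [fittingSubgroup_eq_iSup_pCore]
    apply iSup_le
    intro r
    by_cases hr : (r : ℕ) = p
    · rw [hr]; exact le_sup_left
    · refine le_trans ?_ le_sup_right
      rw [hY]
      exact le_iSup (fun r : {r : Nat.Primes // (r : ℕ) ≠ p} =>
        Cfsg.pCore ((r : Nat.Primes) : ℕ) G) ⟨r, hr⟩
  -- p-power property for L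
  have hLpow : ∀ g ∈ L, ∃ k : ℕ, g ^ (p ^ k) ∈ Y := by
    intro g hg
    rw [hL] at hg
    obtain ⟨hg1, hg2⟩ := Subgroup.mem_inf.mp hg
    obtain ⟨k, hk⟩ := act ⟨p, hp.out⟩ g hg1
    have h1 : g ^ (p ^ k) ∈ Subgroup.centralizer (Cfsg.fittingSubgroup G : Set G) := by
      apply mem_centralizer_fitting_of_forall
      intro r
      by_cases hr : (r : ℕ) = p
      · have : r = ⟨p, hp.out⟩ := Subtype.ext hr
        rw [this]; exact hk
      · apply Subgroup.pow_mem
        rw [hD] at hg2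
        exact (Subgroup.mem_iInf.mp hg2) ⟨r, hr⟩
    have h2 : g ^ (p ^ k) ∈ Cfsg.pCore p G ⊔ Y := hFle (centralizer_fittingSubgroup_le h1)
    obtain ⟨a, ha, b, hb, hab⟩ := Subgroup.mem_sup_of_normal_right.mp h2
    obtain ⟨j, hj⟩ := (pCore_isPGroup (G := G) p) ⟨a, ha⟩
    have hj' : a ^ (p ^ j) = 1 := by
      have := congrArg Subtype.val hj
      rwa [Subgroup.coe_pow] at this
    refine ⟨k + j, ?_⟩
    rw [pow_add, pow_mul, ← QuotientGroup.eq_one_iff, QuotientGroup.mk_pow, ← hab,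
      QuotientGroup.mk_mul, (QuotientGroup.eq_one_iff b).mpr hb, mul_one, ← QuotientGroup.mk_pow,
      hj']
    rfl
  -- apply the central complement lemma inside L
  obtain ⟨A, hA⟩ : ∃ A : Subgroup ↥L, A = Y.subgroupOf L := ⟨_, rfl⟩
  have hAcent : ∀ a ∈ A, ∀ l : ↥L, a * l = l * a := by
    intro a ha l
    rw [hA, Subgroup.mem_subgroupOf] at ha
    have hl : (l : G) ∈ D := hLD l.2
    have := Subgroup.mem_centralizer_iff.mp (hDY hl) (a : G) ha
    apply Subtype.ext
    rw [Subgroup.coe_mul, Subgroup.coe_mul]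
    exact this
  have hAc : (Nat.card A).Coprime p := by
    have h1 : Nat.card A ∣ Nat.card Y := by
      have h2 := Subgroup.card_map_of_injective (K := A) (f := L.subtype) L.subtype_injective
      rw [← h2, hA, Subgroup.subgroupOf_map_subtype]
      exact Subgroup.card_dvd_of_le inf_le_left
    exact Nat.Coprime.coprime_dvd_left h1 hYc
  have hAq : ∀ g : ↥L, ∃ k : ℕ, g ^ (p ^ k) ∈ A := by
    intro g
    obtain ⟨k, hk⟩ := hLpow g g.2
    refine ⟨k, ?_⟩
    rw [hA, Subgroup.mem_subgroupOf, Subgroup.coe_pow]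
    exact hk
  obtain ⟨P, hPp, hP⟩ := central_npc A hAcent hAc hAq
  -- x lies in L
  have hxD : x ∈ D := by
    rw [hD, Subgroup.mem_iInf]
    rintro ⟨r, hr⟩
    obtain ⟨k, hk⟩ := act r x hx
    obtain ⟨k', hk'⟩ := hxp
    have h1 : orderOf x ∣ p ^ k' := orderOf_dvd_of_pow_eq_one hk'
    have h2 : Nat.Coprime ((r : ℕ) ^ k) (orderOf x) := by
      apply Nat.Coprime.coprime_dvd_right h1
      apply Nat.Coprime.pow
      exact (Nat.coprime_primes r.2 hp.out).mpr hr
    exact Helper3.mem_of_pow_mem_of_coprime _ x _ h2 hk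
  have hxL : x ∈ L := by rw [hL]; exact Subgroup.mem_inf.mpr ⟨hx, hxD⟩
  -- the normal closure of x is a p-group
  have hcl : Subgroup.normalClosure {x} ≤ P.map L.subtype := by
    unfold Subgroup.normalClosure
    rw [Subgroup.closure_le]
    intro y hy
    rw [Group.mem_conjugatesOfSet_iff] at hy
    obtain ⟨a, ha, hay⟩ := hy
    rw [Set.mem_singleton_iff] at ha
    subst ha
    obtain ⟨c, hc⟩ := isConj_iff.mp hay
    have hyL : y ∈ L := by rw [← hc]; exact hLn.conj_mem a hxL c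
    refine ⟨⟨y, hyL⟩, ?_, rfl⟩
    apply hP
    obtain ⟨k', hk'⟩ := hxp
    refine ⟨k', ?_⟩
    apply Subtype.ext
    rw [Subgroup.coe_pow]
    show y ^ (p ^ k') = 1
    rw [← hc, conj_pow, hk', mul_one, mul_inv_cancel]
  have hclp : IsPGroup p (Subgroup.normalClosure ({x} : Set G)) :=
    (hPp.map L.subtype).to_le hcl
  exact le_pCore Subgroup.normalClosure_normal hclp (Subgroup.subset_normalClosure rfl)

/-- BG 4.20(a): the derived subgroup lies in the Fitting subgroup. -/
theorem commutator_le_fitting' [Group.IsSolvable G]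
    (act : ∀ r : Nat.Primes, ∀ g ∈ commutator G, ∃ k : ℕ,
      g ^ ((r : ℕ) ^ k) ∈ Subgroup.centralizer (Cfsg.pCore (r : ℕ) G : Set G)) :
    commutator G ≤ Cfsg.fittingSubgroup G := by
  intro x hx
  apply Helper3.mem_of_pParts_mem
  intro p hp
  have : Fact p.Prime := ⟨hp⟩
  apply Helper3.pCore_le_fittingSubgroup p
  apply pElement_commutator_mem_pCore' act p _ (Helper3.pPart_mem hx p)
  refine ⟨(orderOf x).factorization p, ?_⟩
  rw [← Helper3.orderOf_pPart x p]
  exact pow_orderOf_eq_one _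

/-- A `p`-subgroup of the Fitting subgroup lies in `O_p(G)`. -/
theorem le_pCore_of_le_fitting {p : ℕ} [hp : Fact p.Prime] (E : Subgroup G)
    (hE : E ≤ Cfsg.fittingSubgroup G) (hEp : IsPGroup p E) : E ≤ Cfsg.pCore p G := by
  classical
  obtain ⟨Y, hY⟩ : ∃ Y : Subgroup G, Y = ⨆ r : {r : Nat.Primes // (r : ℕ) ≠ p},
      Cfsg.pCore ((r : Nat.Primes) : ℕ) G := ⟨_, rfl⟩
  have hYn : Y.Normal := by rw [hY]; infer_instance
  have hYc : (Nat.card Y).Coprime p := by
    have h1 : Y ≤ Cfsg.pPrimeCore p G := by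
      rw [hY]
      apply iSup_le
      rintro ⟨r, hr⟩
      have : Fact (r : ℕ).Prime := ⟨r.2⟩
      exact pCore_le_pPrimeCore hr
    exact Nat.Coprime.coprime_dvd_left (Subgroup.card_dvd_of_le h1) (pPrimeCore_card_coprime p)
  have hFle : Cfsg.fittingSubgroup G ≤ Cfsg.pCore p G ⊔ Y := by
    rw [fittingSubgroup_eq_iSup_pCore]
    apply iSup_le
    intro r
    by_cases hr : (r : ℕ) = p
    · rw [hr]; exact le_sup_left
    · refine le_trans ?_ le_sup_right
      rw [hY]
      exact le_iSup (fun r : {r : Nat.Primes // (r : ℕ) ≠ p} =>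
        Cfsg.pCore ((r : Nat.Primes) : ℕ) G) ⟨r, hr⟩
  intro x hx
  have h2 : x ∈ Cfsg.pCore p G ⊔ Y := hFle (hE hx)
  obtain ⟨a, ha, b, hb, hab⟩ := Subgroup.mem_sup_of_normal_right.mp h2
  obtain ⟨j, hj⟩ := hEp ⟨x, hx⟩
  have hxj : x ^ (p ^ j) = 1 := by
    have h0 := congrArg Subtype.val hj
    rwa [Subgroup.coe_pow] at h0
  have hmk : ((b : G) : G ⧸ Cfsg.pCore p G) = ((x : G) : G ⧸ Cfsg.pCore p G) := by
    rw [← hab, QuotientGroup.mk_mul, (QuotientGroup.eq_one_iff a).mpr ha, one_mul]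
  have h3 : ((b : G) : G ⧸ Cfsg.pCore p G) ^ (p ^ j) = 1 := by
    rw [hmk, ← QuotientGroup.mk_pow, hxj]
    rfl
  have h4 : orderOf ((b : G) : G ⧸ Cfsg.pCore p G) ∣ p ^ j := orderOf_dvd_of_pow_eq_one h3
  have h5 : orderOf ((b : G) : G ⧸ Cfsg.pCore p G) ∣ Nat.card Y := by
    have h6 : orderOf ((QuotientGroup.mk' (Cfsg.pCore p G)) b) ∣ orderOf b := orderOf_map_dvd _ b
    exact h6.trans (Subgroup.orderOf_dvd_natCard Y hb)
  have h7 : orderOf ((b : G) : G ⧸ Cfsg.pCore p G) = 1 :=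
    Nat.eq_one_of_dvd_coprimes (Nat.Coprime.pow_right j hYc) h5 h4
  have hbO : b ∈ Cfsg.pCore p G := (QuotientGroup.eq_one_iff b).mp (orderOf_eq_one_iff.mp h7)
  rw [← hab]
  exact Subgroup.mul_mem _ ha hbO

/-- The action lemma at the prime `p` under the centralizer-rank hypothesis. -/
theorem act_of_centralizer_rank [Group.IsSolvable G] {p : ℕ} [hp : Fact p.Prime]
    (hodd : Odd (Nat.card G)) (E : Subgroup G) (hEO : E ≤ Cfsg.pCore p G)
    (hEe : Cfsg.IsElementaryAbelian p E)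
    (hrk : Cfsg.PRankLE p 2 ↥(Cfsg.pCore p G ⊓ Subgroup.centralizer (E : Set G))) :
    ∀ g ∈ commutator G, ∃ k : ℕ, g ^ (p ^ k) ∈ Subgroup.centralizer (Cfsg.pCore p G : Set G) := by
  by_cases h2 : Cfsg.PRankLE p 2 ↥(Cfsg.pCore p G)
  · exact (RT.act_lemma hodd (Cfsg.pCore p G) (pCore_isPGroup p) h2).1
  · have hp2 : p ≠ 2 := by
      rintro rfl
      apply h2
      have hbot : Cfsg.pCore 2 G = ⊥ := pCore_eq_bot_of_not_dvd 2
        (fun h => (Nat.not_even_iff_odd.mpr hodd) (even_iff_two_dvd.mpr h))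
      have h4 : Nat.card ↥(Cfsg.pCore 2 G) = 1 := by rw [hbot]; exact Subgroup.card_bot
      intro A _ _
      have h3 : Nat.card A ≤ Nat.card ↥(Cfsg.pCore 2 G) :=
        Nat.le_of_dvd Nat.card_pos (Subgroup.card_subgroup_dvd_card A)
      have h5 : (2 : ℕ) ^ 2 = 4 := by norm_num
      omega
    obtain ⟨E₀, hE₀⟩ : ∃ E₀ : Subgroup ↥(Cfsg.pCore p G), E₀ = E.subgroupOf (Cfsg.pCore p G) :=
      ⟨_, rfl⟩
    have hE₀el : Cfsg.IsElementaryAbelian p E₀ := by
      rw [hE₀]
      refine ⟨⟨⟨fun a b => ?_⟩⟩, ?_⟩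
      · apply Subtype.ext
        apply Subtype.ext
        have h0 := hEe.1.is_comm.comm
          (⟨((a : ↥(Cfsg.pCore p G)) : G), Subgroup.mem_subgroupOf.mp a.2⟩ : ↥E)
          ⟨((b : ↥(Cfsg.pCore p G)) : G), Subgroup.mem_subgroupOf.mp b.2⟩
        have h1 : ((a : ↥(Cfsg.pCore p G)) : G) * ((b : ↥(Cfsg.pCore p G)) : G) =
            ((b : ↥(Cfsg.pCore p G)) : G) * ((a : ↥(Cfsg.pCore p G)) : G) :=
          congrArg Subtype.val h0
        exact h1
      · intro a ha
        apply Subtype.ext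
        rw [Subgroup.coe_pow]
        exact hEe.2 _ (Subgroup.mem_subgroupOf.mp ha)
    have hC₀ : Cfsg.PRankLE p 2 ↥(Subgroup.centralizer (E₀ : Set ↥(Cfsg.pCore p G))) := by
      obtain ⟨f, hf⟩ : ∃ f : ↥(Subgroup.centralizer (E₀ : Set ↥(Cfsg.pCore p G))) →*
          ↥(Cfsg.pCore p G ⊓ Subgroup.centralizer (E : Set G)),
          ∀ x, ((f x : ↥(Cfsg.pCore p G ⊓ Subgroup.centralizer (E : Set G))) : G) =
            ((x : ↥(Cfsg.pCore p G)) : G) := by
        refine ⟨MonoidHom.codRestrict ((Cfsg.pCore p G).subtype.comp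
          (Subgroup.centralizer (E₀ : Set ↥(Cfsg.pCore p G))).subtype) _ ?_, fun x => rfl⟩
        intro x
        refine Subgroup.mem_inf.mpr ⟨(x : ↥(Cfsg.pCore p G)).2, ?_⟩
        rw [Subgroup.mem_centralizer_iff]
        intro y hy
        have hyE₀ : (⟨y, hEO hy⟩ : ↥(Cfsg.pCore p G)) ∈ E₀ := by
          rw [hE₀, Subgroup.mem_subgroupOf]; exact hy
        have h3 := Subgroup.mem_centralizer_iff.mp x.2 ⟨y, hEO hy⟩ hyE₀
        exact congrArg Subtype.val h3
      have hfinj : Function.Injective f := by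
        intro x y hxy
        apply Subtype.ext
        apply Subtype.ext
        rw [← hf x, ← hf y, hxy]
      exact RT.pRankLE_of_injective f hfinj hrk
    have hnar := narrow_of_centralizer_rank hp2 (pCore_isPGroup p) h2 E₀ hE₀el hC₀
    exact act_narrow hp2 (Cfsg.pCore p G) (pCore_isPGroup p) hnar h2

end fit

end Cfsg.Agent.Lib.Helper1.NW
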