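import Mathlib
import Cfsg.Agent.Lib.Helper1.FittingCentralizer
import Cfsg.Agent.Lib.Helper1.SZHelpers
open Pointwise

set_option autoImplicit false

namespace Cfsg.Agent.Lib.Helper1

universe u

theorem exists_pCore_ne_bot_of_solvable (H : Type u) [Group H] [Finite H] [Group.IsSolvable H]
    [Nontrivial H] : ∃ p : ℕ, p.Prime ∧ Cfsg.pCore p H ≠ ⊥ := by
  by_contra hcon
  push Not at hcon
  have h1 : Cfsg.fittingSubgroup H = ⊥ := by
    rw [fittingSubgroup_eq_iSup_pCore, eq_bot_iff]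
    apply iSup_le
    intro q
    rw [hcon q q.2]
  have h2 := centralizer_fittingSubgroup_le (G := H)
  rw [h1] at h2
  have h3 : (⊤ : Subgroup H) ≤ ⊥ := by
    refine le_trans ?_ h2
    intro x _
    rw [Subgroup.mem_centralizer_iff]
    intro y hy
    have : y = 1 := hy
    rw [this]; simp
  obtain ⟨x, hx⟩ := exists_ne (1 : H)
  exact hx (Subgroup.mem_bot.mp (h3 (Subgroup.mem_top x)))

variable {G : Type u} [Group G]

theorem isSolvable_of_le' {H K : Subgroup G} (h : H ≤ K) [hK : Group.IsSolvable K] :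
    Group.IsSolvable H :=
  Group.isSolvable_of_isSolvable_injective (Subgroup.inclusion_injective h)

/-- A `p`-subgroup `M ≤ H₁` normalised by `H₁`, where `G = H₁ H₂` and `p ∤ [G : H₂]`, has its normal
closure inside `H₂`. -/
theorem normalClosure_le_of_factorization [Finite G] (H₁ H₂ : Subgroup G) (p : ℕ) [Fact p.Prime]
    (M : Subgroup G) (hM : IsPGroup p M) (hMn : H₁ ≤ Subgroup.normalizer (M : Set G))
    (h12 : ∀ g : G, ∃ x ∈ H₁, ∃ y ∈ H₂, g = x * y) (hp : ¬ p ∣ H₂.index) :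
    Subgroup.normalClosure (M : Set G) ≤ H₂ := by
  -- M fixes a coset of H₂
  have hp' : ¬ p ∣ Nat.card (G ⧸ H₂) := hp
  obtain ⟨q, hq⟩ := hM.nonempty_fixed_point_of_prime_not_dvd_card (G ⧸ H₂) hp'
  obtain ⟨g, rfl⟩ := QuotientGroup.mk_surjective q
  have h1 : ∀ m ∈ M, g⁻¹ * m * g ∈ H₂ := by
    intro m hm
    have := hq ⟨m, hm⟩
    have h2 : ((m * g : G) : G ⧸ H₂) = (g : G ⧸ H₂) := this
    rw [QuotientGroup.eq] at h2
    have h3 := H₂.inv_mem h2
    have e : ((m * g)⁻¹ * g)⁻¹ = g⁻¹ * m * g := by group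
    rwa [e] at h3
  -- M ≤ H₂
  have hMH₂ : M ≤ H₂ := by
    intro m hm
    obtain ⟨x, hx, y, hy, hg⟩ := h12 g
    have h2 : x * m * x⁻¹ ∈ M := (Subgroup.mem_normalizer_iff.mp (hMn hx) m).mp hm
    have h3 := h1 _ h2
    have e : g⁻¹ * (x * m * x⁻¹) * g = y⁻¹ * m * y := by
      rw [hg]; group
    rw [e] at h3
    have := H₂.mul_mem (H₂.mul_mem hy h3) (H₂.inv_mem hy)
    have e3 : y * (y⁻¹ * m * y) * y⁻¹ = m := by group
    rwa [e3] at this
  -- conjugates
  rw [Subgroup.normalClosure, Subgroup.closure_le]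
  intro a ha
  rw [Group.mem_conjugatesOfSet_iff] at ha
  obtain ⟨m, hm, hconj⟩ := ha
  rw [isConj_iff] at hconj
  obtain ⟨c, rfl⟩ := hconj
  -- c = y x with y ∈ H₂, x ∈ H₁
  obtain ⟨x, hx, y, hy, hc⟩ := h12 c⁻¹
  have hc' : c = y⁻¹ * x⁻¹ := by
    have : c = (c⁻¹)⁻¹ := (inv_inv c).symm
    rw [this, hc]; group
  have h2 : x⁻¹ * m * x⁻¹⁻¹ ∈ M :=
    (Subgroup.mem_normalizer_iff.mp (Subgroup.inv_mem _ (hMn hx)) m).mp hm
  have h3 : x⁻¹ * m * x⁻¹⁻¹ ∈ H₂ := hMH₂ h2
  have e : c * m * c⁻¹ = y⁻¹ * (x⁻¹ * m * x⁻¹⁻¹) * y := by rw [hc']; group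
  show c * m * c⁻¹ ∈ H₂
  rw [e]
  exact H₂.mul_mem (H₂.mul_mem (H₂.inv_mem hy) h3) hy

theorem three_solvable_aux : ∀ (n : ℕ) (G : Type u) [Group G] [Finite G], Nat.card G = n →
    ∀ (H₁ H₂ H₃ : Subgroup G), Group.IsSolvable H₁ → Group.IsSolvable H₂ → Group.IsSolvable H₃ →
    (∀ g : G, ∃ x ∈ H₁, ∃ y ∈ H₂, g = x * y) → (∀ g : G, ∃ x ∈ H₁, ∃ y ∈ H₃, g = x * y) →
    H₂.index.Coprime H₃.index → Group.IsSolvable G := by
  intro n
  induction n using Nat.strong_induction_on with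
  | _ n ih =>
    intro G _ _ hcard H₁ H₂ H₃ h₁ h₂ h₃ h12 h13 hcop
    by_cases hH₁ : H₁ = ⊥
    · -- G = H₂
      have htop : H₂ = ⊤ := by
        rw [eq_top_iff]
        intro g _
        obtain ⟨x, hx, y, hy, rfl⟩ := h12 g
        rw [hH₁, Subgroup.mem_bot] at hx
        rw [hx, one_mul]; exact hy
      have : Group.IsSolvable (⊤ : Subgroup G) := htop ▸ h₂
      exact Group.isSolvable_of_isSolvable_injective
        (f := (Subgroup.topEquiv (G := G)).symm.toMonoidHom) (Subgroup.topEquiv.symm.injective)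
    -- nontrivial p-core of H₁
    have hnt : Nontrivial H₁ := (Subgroup.nontrivial_iff_ne_bot H₁).mpr hH₁
    obtain ⟨p, hp, hcore⟩ := exists_pCore_ne_bot_of_solvable H₁
    have : Fact p.Prime := ⟨hp⟩
    set M : Subgroup G := (Cfsg.pCore p H₁).map H₁.subtype with hMdef
    have hMp : IsPGroup p M := (pCore_isPGroup (G := H₁) p).map _
    have hMne : M ≠ ⊥ := by
      intro h
      apply hcore
      rw [hMdef] at h
      exact (Subgroup.map_eq_bot_iff_of_injective _ H₁.subtype_injective).mp h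
    have hMn : H₁ ≤ Subgroup.normalizer (M : Set G) := by
      have h1 := Subgroup.le_normalizer_map (H := Cfsg.pCore p H₁) H₁.subtype
      have h2 : Subgroup.normalizer ((Cfsg.pCore p H₁ : Subgroup H₁) : Set H₁) = ⊤ :=
        Subgroup.normalizer_eq_top_iff.mpr (pCore_normal p)
      rw [h2, ← MonoidHom.range_eq_map, Subgroup.range_subtype] at h1
      exact h1
    -- the normal closure N of M is solvable
    set N : Subgroup G := Subgroup.normalClosure (M : Set G) with hNdef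
    have hNn : N.Normal := Subgroup.normalClosure_normal
    have hMN : M ≤ N := Subgroup.le_normalClosure
    have hNne : N ≠ ⊥ := fun h => hMne (eq_bot_iff.mpr (h ▸ hMN))
    have hNsolv : Group.IsSolvable N := by
      by_cases hp2 : p ∣ H₂.index
      · have hp3 : ¬ p ∣ H₃.index := by
          intro hp3
          have := Nat.eq_one_of_dvd_coprimes hcop hp2 hp3
          exact hp.one_lt.ne' this
        have hle := normalClosure_le_of_factorization H₁ H₃ p M hMp hMn h13 hp3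
        exact isSolvable_of_le' hle
      · have hle := normalClosure_le_of_factorization H₁ H₂ p M hMp hMn h12 hp2
        exact isSolvable_of_le' hle
    -- the quotient
    have hcardlt : Nat.card (G ⧸ N) < n := hcard ▸ card_quotient_lt_of_ne_bot N hNne
    have hsurj := QuotientGroup.mk'_surjective N
    have hq : Group.IsSolvable (G ⧸ N) := by
      refine ih _ hcardlt (G ⧸ N) rfl (H₁.map (QuotientGroup.mk' N)) (H₂.map (QuotientGroup.mk' N))
        (H₃.map (QuotientGroup.mk' N)) (isSolvable_map _ H₁) (isSolvable_map _ H₂)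
        (isSolvable_map _ H₃) ?_ ?_ ?_
      · intro q
        obtain ⟨g, rfl⟩ := hsurj q
        obtain ⟨x, hx, y, hy, rfl⟩ := h12 g
        exact ⟨_, Subgroup.mem_map_of_mem _ hx, _, Subgroup.mem_map_of_mem _ hy, map_mul _ _ _⟩
      · intro q
        obtain ⟨g, rfl⟩ := hsurj q
        obtain ⟨x, hx, y, hy, rfl⟩ := h13 g
        exact ⟨_, Subgroup.mem_map_of_mem _ hx, _, Subgroup.mem_map_of_mem _ hy, map_mul _ _ _⟩
      · exact Nat.Coprime.coprime_dvd_left (Subgroup.index_map_dvd H₂ hsurj)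
          (Nat.Coprime.coprime_dvd_right (Subgroup.index_map_dvd H₃ hsurj) hcop)
    exact Group.isSolvable_of_ker_le_range N.subtype (QuotientGroup.mk' N) (by simp)

end Cfsg.Agent.Lib.Helper1
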