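import Mathlib
import Cfsg.Agent.Lib.Helper1.MS1
import Cfsg.Agent.Lib.Helper1.BG9d
import Cfsg.Agent.Lib.Helper1.NW5
import Cfsg.Agent.Lib.Helper1.Hall
import Cfsg.Agent.Lib.Helper1.ThreeSolvable
import Cfsg.Agent.Lib.Helper1.FF1
import Cfsg.Agent.Lib.Helper1.BestOffender
import Cfsg.Agent.Lib.Helper1.ThompsonBasic
import Cfsg.Agent.Lib.Helper1.TF6
import Cfsg.Agent.Lib.Helper1.CoprimeSylow
import Cfsg.Agent.Lib.Helper1.CoprimeGenCentralizers
import Cfsg.Agent.Lib.Helper2.CoprimeGen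

set_option autoImplicit false
set_option maxHeartbeats 4000000
set_option linter.unusedVariables false
set_option linter.unusedSectionVars false
set_option linter.style.longLine false
set_option linter.unusedSimpArgs false
set_option linter.style.haveILetI false

/-!
# General lemmas for B&G Lemma 9.5 (S1402)
-/

open scoped commutatorElement Pointwise
universe u
namespace Cfsg.Agent.Lib.Helper1.MS

open Cfsg

variable {G : Type u} [Group G]

/-- commutators of `R Y` modulo the normalized subgroup `R` -/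
theorem commutator_sup_le (R Y : Subgroup G) (hYR : Y ≤ Subgroup.normalizer (R : Set G)) :
    ⁅R ⊔ Y, R ⊔ Y⁆ ≤ R ⊔ ⁅Y, Y⁆ := by
  have hconj : ∀ y ∈ Y, ∀ r ∈ R, y * r * y⁻¹ ∈ R :=
    fun y hy r hr => (Subgroup.mem_normalizer_iff.mp (hYR hy) r).mp hr
  rw [Subgroup.commutator_le]
  intro g₁ hg₁ g₂ hg₂
  have hg₁' : g₁ ∈ (R : Set G) * (Y : Set G) := by
    rw [← Subgroup.coe_mul_of_right_le_normalizer_left R Y hYR]; exact hg₁
  have hg₂' : g₂ ∈ (R : Set G) * (Y : Set G) := by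
    rw [← Subgroup.coe_mul_of_right_le_normalizer_left R Y hYR]; exact hg₂
  obtain ⟨r₁, hr₁, y₁, hy₁, rfl⟩ := Set.mem_mul.mp hg₁'
  obtain ⟨r₂, hr₂, y₂, hy₂, rfl⟩ := Set.mem_mul.mp hg₂'
  have e : ⁅r₁ * y₁, r₂ * y₂⁆ = (r₁ * (y₁ * r₂ * y₁⁻¹) *
      ((y₁ * y₂ * y₁⁻¹) * r₁⁻¹ * (y₁ * y₂ * y₁⁻¹)⁻¹) *
      ((y₁ * y₂ * y₁⁻¹ * y₂⁻¹) * r₂⁻¹ * (y₁ * y₂ * y₁⁻¹ * y₂⁻¹)⁻¹)) * ⁅y₁, y₂⁆ := by
    simp only [commutatorElement_def]; group
  rw [e]
  have hw : y₁ * y₂ * y₁⁻¹ ∈ Y := Y.mul_mem (Y.mul_mem hy₁ hy₂) (Y.inv_mem hy₁)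
  have hc : y₁ * y₂ * y₁⁻¹ * y₂⁻¹ ∈ Y := Y.mul_mem hw (Y.inv_mem hy₂)
  refine Subgroup.mul_mem_sup ?_ (Subgroup.commutator_mem_commutator hy₁ hy₂)
  exact R.mul_mem (R.mul_mem (R.mul_mem hr₁ (hconj y₁ hy₁ r₂ hr₂))
    (hconj _ hw _ (R.inv_mem hr₁))) (hconj _ hc _ (R.inv_mem hr₂))

theorem commutator_self_le (Y : Subgroup G) : ⁅Y, Y⁆ ≤ Y := by
  rw [Subgroup.commutator_le]
  intro a ha b hb
  rw [commutatorElement_def]
  exact Y.mul_mem (Y.mul_mem (Y.mul_mem ha hb) (Y.inv_mem ha)) (Y.inv_mem hb)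

/-- If `X = R Y` with `R` a normal `p'`-subgroup, then a `p`-element of `Y ∩ X'` lies in `Y'`. -/
theorem mem_commutator_of_sup_coprime [Finite G] {p : ℕ} [hp : Fact p.Prime] (R Y : Subgroup G)
    (hYR : Y ≤ Subgroup.normalizer (R : Set G)) (hRp : (Nat.card R).Coprime p) {z : G}
    (hz : z ∈ ⁅R ⊔ Y, R ⊔ Y⁆) (hzY : z ∈ Y) (hzp : ∃ k : ℕ, z ^ p ^ k = 1) : z ∈ ⁅Y, Y⁆ := by
  have hcY : ⁅Y, Y⁆ ≤ Y := commutator_self_le Y
  have h1 := commutator_sup_le R Y hYR hz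
  have h1' : z ∈ (R : Set G) * ((⁅Y, Y⁆ : Subgroup G) : Set G) := by
    rw [← Subgroup.coe_mul_of_right_le_normalizer_left R ⁅Y, Y⁆ (hcY.trans hYR)]; exact h1
  obtain ⟨r, hr, c, hc, hrc⟩ := Set.mem_mul.mp h1'
  have hcY' : c ∈ Y := hcY hc
  have hrY : r ∈ Y := by
    have e : r = z * c⁻¹ := by rw [← hrc]; group
    rw [e]; exact Y.mul_mem hzY (Y.inv_mem hcY')
  have hcker : (⟨c, hcY'⟩ : ↥Y) ∈ commutator ↥Y := by
    have h2 : c ∈ (commutator ↥Y).map Y.subtype := by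
      rw [Subgroup.map_subtype_commutator]; exact hc
    obtain ⟨w, hw, hwc⟩ := h2
    have : w = ⟨c, hcY'⟩ := Subtype.ext hwc
    rwa [this] at hw
  have hzrc : (⟨z, hzY⟩ : ↥Y) = ⟨r, hrY⟩ * ⟨c, hcY'⟩ := Subtype.ext hrc.symm
  have hφc : Abelianization.of (⟨c, hcY'⟩ : ↥Y) = 1 := by
    rw [← MonoidHom.mem_ker, Abelianization.ker_of]; exact hcker
  have hφ : Abelianization.of (⟨z, hzY⟩ : ↥Y) = Abelianization.of (⟨r, hrY⟩ : ↥Y) := by
    rw [hzrc, map_mul, hφc, mul_one]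
  have hrn : r ^ Nat.card R = 1 := by
    have h3 := pow_card_eq_one' (G := ↥R) (x := ⟨r, hr⟩)
    have h4 := congrArg Subtype.val h3
    rw [Subgroup.coe_pow, Subgroup.coe_one] at h4
    exact h4
  have h4 : (Abelianization.of (⟨z, hzY⟩ : ↥Y)) ^ Nat.card R = 1 := by
    rw [hφ, ← map_pow]
    have : (⟨r, hrY⟩ : ↥Y) ^ Nat.card R = 1 := Subtype.ext (by simpa using hrn)
    rw [this, map_one]
  obtain ⟨k, hk⟩ := hzp
  have h5 : (Abelianization.of (⟨z, hzY⟩ : ↥Y)) ^ p ^ k = 1 := by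
    rw [← map_pow]
    have : (⟨z, hzY⟩ : ↥Y) ^ p ^ k = 1 := Subtype.ext (by simpa using hk)
    rw [this, map_one]
  have h6 : orderOf (Abelianization.of (⟨z, hzY⟩ : ↥Y)) = 1 :=
    Nat.eq_one_of_dvd_coprimes (Nat.Coprime.pow_right k hRp) (orderOf_dvd_of_pow_eq_one h4)
      (orderOf_dvd_of_pow_eq_one h5)
  have h7 : (⟨z, hzY⟩ : ↥Y) ∈ commutator ↥Y := by
    rw [← Abelianization.ker_of, MonoidHom.mem_ker]
    exact orderOf_eq_one_iff.mp h6
  have h8 : z ∈ (commutator ↥Y).map Y.subtype := ⟨⟨z, hzY⟩, h7, rfl⟩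
  rwa [Subgroup.map_subtype_commutator] at h8

/-- In a minimal simple group of odd order, `P ≤ N'` for `N = N_G(Z(J(P)))`. -/
theorem sylow_le_commutator_normalizer_ZJ [Finite G] (hG : Cfsg.IsMinSimpleOddOrder G) (p : ℕ)
    [Fact p.Prime] (P : Sylow p G) (hP1 : (P : Subgroup G) ≠ ⊥) :
    (P : Subgroup G) ≤
      ⁅Subgroup.normalizer (Cfsg.centerThompsonAOf (P : Subgroup G) : Set G),
        Subgroup.normalizer (Cfsg.centerThompsonAOf (P : Subgroup G) : Set G)⁆ ∧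
    Subgroup.normalizer (Cfsg.centerThompsonAOf (P : Subgroup G) : Set G) ≠ ⊤ ∧
    (P : Subgroup G) ≤ Subgroup.normalizer (Cfsg.centerThompsonAOf (P : Subgroup G) : Set G) := by
  classical
  have hpp : p.Prime := Fact.out
  have hodd := hG.1
  have hPdvd : p ∣ Nat.card (P : Subgroup G) := by
    obtain ⟨n, hn⟩ := P.2.exists_card_eq
    rw [hn]
    apply dvd_pow_self
    rintro rfl
    apply hP1
    rw [pow_zero] at hn
    exact Subgroup.eq_bot_of_card_eq _ hn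
  have hpG : p ∣ Nat.card G := hPdvd.trans (Subgroup.card_subgroup_dvd_card _)
  have hp2 : p ≠ 2 := by
    rintro rfl
    exact (Nat.not_even_iff_odd.mpr hodd) (even_iff_two_dvd.mpr hpG)
  obtain ⟨Z, hZ⟩ : ∃ Z, Z = Cfsg.centerThompsonAOf (P : Subgroup G) := ⟨_, rfl⟩
  have hZ1 : Z ≠ ⊥ := by rw [hZ]; exact ZJ.centerThompsonAOf_ne_bot P.2 hP1
  have hZP : Z ≤ (P : Subgroup G) := by rw [hZ]; exact ZJ.centerThompsonAOf_le _
  have hPtop : (P : Subgroup G) ≠ ⊤ := BG7.pgroup_ne_top hG P.2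
  have hZtop : Z ≠ ⊤ := by
    intro h; apply hPtop; rw [eq_top_iff, ← h]; exact hZP
  obtain ⟨N, hN⟩ : ∃ N, N = Subgroup.normalizer (Z : Set G) := ⟨_, rfl⟩
  have hNtop : N ≠ ⊤ := by rw [hN]; exact BG7.normalizer_ne_top hG hZ1 hZtop
  have hNP : Subgroup.normalizer ((P : Subgroup G) : Set G) ≤ N := by
    rw [hN, hZ]; exact ZJ.normalizer_le_normalizer_centerThompsonAOf _
  have hPN : (P : Subgroup G) ≤ N := Subgroup.le_normalizer.trans hNP
  have hfree : ∀ P' : Subgroup G,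
      (P : Subgroup G) ⊓ Subgroup.centralizer ((P : Subgroup G) : Set G) ≤ P' → P' ≤ P →
      ¬ ∃ (H K : Subgroup G) (hK : (K.subgroupOf H).Normal),
        H ≤ Subgroup.normalizer (P' : Set G) ∧
        Nonempty ((H ⧸ K.subgroupOf H) ≃* Matrix.SpecialLinearGroup (Fin 2) (ZMod p)) := by
    intro P' _ _
    rintro ⟨H, K, hK, _, he⟩
    exact no_sl2_section_of_odd hodd hp2 ⟨H, K, hK, he⟩
  have hfus := Cfsg.Agent.S3071.result hp2 P hfree
  have hctlN : ∀ x ∈ P, ∀ g : G, g * x * g⁻¹ ∈ P → ∃ h ∈ N, h * x * h⁻¹ = g * x * g⁻¹ := by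
    intro x hx g hgx
    obtain ⟨n, hn, hnx⟩ := (hfus x hx (g * x * g⁻¹) hgx).mp ⟨g, rfl⟩
    rw [← hZ, ← hN] at hn
    exact ⟨n, hn, hnx⟩
  have hperf : commutator G = ⊤ := by
    have := hG.2.1
    rcases (inferInstance : (commutator G).Normal).eq_bot_or_eq_top with h | h
    · exfalso
      apply hG.2.2.1
      refine ⟨⟨fun a b => ?_⟩⟩
      have h1 : ⁅a, b⁆ ∈ commutator G := by
        rw [commutator_def]
        exact Subgroup.commutator_mem_commutator (Subgroup.mem_top a) (Subgroup.mem_top b)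
      rw [h, Subgroup.mem_bot] at h1
      exact commutatorElement_eq_one_iff_mul_comm.mp h1
    · exact h
  have hPcomm : (P : Subgroup G) ≤ ⁅N, N⁆ := by
    have h1 := commutator_inf_sylow_eq_of_controls_fusion P N hctlN hPN
    rw [hperf, top_inf_eq] at h1
    have h2 : (P : Subgroup G) ≤ ⁅N, N⁆ ⊓ (P : Subgroup G) := h1.le
    exact h2.trans inf_le_left
  rw [← hZ, ← hN]
  exact ⟨hPcomm, hNtop, hPN⟩

/-- two-step generation for an elementary abelian group of order `p³` acting coprimely -/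
theorem gen2 [Finite G] {p : ℕ} [hp : Fact p.Prime] (E T X : Subgroup G)
    (hEe : Cfsg.IsElementaryAbelian p E) (hE3 : Nat.card E = p ^ 3)
    (hET : E ≤ Subgroup.normalizer (T : Set G)) (hcop : (Nat.card E).Coprime (Nat.card T))
    (h : ∀ D : Subgroup G, D ≤ E → Nat.card D = p ^ 2 →
      T ⊓ Subgroup.centralizer (D : Set G) ≤ X) : T ≤ X := by
  classical
  have hpp : p.Prime := hp.out
  have hp1 : 1 < p := hpp.one_lt
  haveI : IsMulCommutative E := hEe.1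
  have hAc : ∀ x ∈ E, ∀ y ∈ E, x * y = y * x := fun x hx y hy =>
    congrArg Subtype.val (hEe.1.is_comm.comm (⟨x, hx⟩ : ↥E) ⟨y, hy⟩)
  have hpE : p ∣ Nat.card E := by rw [hE3]; exact dvd_pow_self p (by norm_num)
  have hEnc : ¬ IsCyclic ↥E := by
    apply BG9.not_isCyclic_of_elementary hpp le_rfl hEe
    rw [hE3]; exact Nat.pow_le_pow_right hpp.pos (by norm_num)
  have hA : ∀ b ∈ E, b ≠ 1 → T ⊓ Subgroup.centralizer {b} ≤ X := by
    intro b hbE hb1
    obtain ⟨D₀, hD₀⟩ : ∃ D₀ : Subgroup G, D₀ = Subgroup.zpowers b := ⟨_, rfl⟩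
    have hD₀E : D₀ ≤ E := by rw [hD₀, Subgroup.zpowers_le]; exact hbE
    have hD₀card : Nat.card D₀ = p := by
      rw [hD₀, Nat.card_zpowers]; exact orderOf_eq_prime (hEe.2 b hbE) hb1
    have hcard2 : ∀ c ∈ E, c ∉ D₀ →
        Nat.card (D₀ ⊔ Subgroup.zpowers c : Subgroup G) = p ^ 2 := by
      intro c hcE hcD
      rw [FF.card_sup_zpowers E D₀ hAc hEe.2 hD₀E c hcE hcD, hD₀card, sq]
    have hnc : ¬ ∃ a ∈ E, D₀ ⊔ Subgroup.zpowers a = E := by
      rintro ⟨a, haE, ha⟩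
      by_cases haD : a ∈ D₀
      · have h1 : D₀ ⊔ Subgroup.zpowers a = D₀ :=
          sup_eq_left.mpr (by rw [Subgroup.zpowers_le]; exact haD)
        rw [h1] at ha
        rw [← ha, hD₀card] at hE3
        have h2 : p ^ 1 < p ^ 3 := Nat.pow_lt_pow_right hp1 (by norm_num)
        rw [pow_one] at h2; omega
      · have h1 := hcard2 a haE haD
        rw [ha, hE3] at h1
        have h2 : p ^ 2 < p ^ 3 := Nat.pow_lt_pow_right hp1 (by norm_num)
        omega
    obtain ⟨r, hr, x, hxE, y, hyE, hxr, hyr, hxD, hxy⟩ :=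
      Cfsg.Agent.Lib.Helper2.exists_noncyclic_pair E D₀ hD₀E hnc
    obtain ⟨Tb, hTb⟩ : ∃ Tb : Subgroup G, Tb = T ⊓ Subgroup.centralizer {b} := ⟨_, rfl⟩
    have hEcb : E ≤ Subgroup.centralizer ({b} : Set G) := by
      intro e he
      rw [Subgroup.mem_centralizer_iff]
      intro z hz
      rw [Set.mem_singleton_iff] at hz
      rw [hz]; exact hAc b hbE e he
    have hETb : E ≤ Subgroup.normalizer (Tb : Set G) := by
      rw [hTb]
      exact le_normalizer_inf hET (hEcb.trans Subgroup.le_normalizer)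
    have hTbT : Tb ≤ T := by rw [hTb]; exact inf_le_left
    have hcopb : (Nat.card E).Coprime (Nat.card Tb) :=
      Nat.Coprime.coprime_dvd_right (Subgroup.card_dvd_of_le hTbT) hcop
    have hrH : (Nat.card Tb).Coprime p := (Nat.Coprime.coprime_dvd_left hpE hcopb).symm
    have hone : ∀ z ∈ E, z ^ p ∈ Subgroup.centralizer (Tb : Set G) := by
      intro z hz; rw [hEe.2 z hz]; exact Subgroup.one_mem _
    have hkey : ∀ c ∈ E, c ∉ D₀ → Tb ⊓ Subgroup.centralizer {c} ≤ X := by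
      intro c hcE hcD
      refine le_trans ?_ (h (D₀ ⊔ Subgroup.zpowers c)
        (sup_le hD₀E (by rw [Subgroup.zpowers_le]; exact hcE)) (hcard2 c hcE hcD))
      intro u hu
      rw [hTb] at hu
      obtain ⟨hu1, huc⟩ := Subgroup.mem_inf.mp hu
      obtain ⟨huT, hub⟩ := Subgroup.mem_inf.mp hu1
      refine Subgroup.mem_inf.mpr ⟨huT, ?_⟩
      have h1 : D₀ ⊔ Subgroup.zpowers c ≤ Subgroup.centralizer ({u} : Set G) := by
        apply sup_le
        · rw [hD₀, Subgroup.zpowers_le, Subgroup.mem_centralizer_iff]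
          intro z hz; rw [Set.mem_singleton_iff] at hz; rw [hz]
          exact ((Subgroup.mem_centralizer_iff.mp hub) b rfl).symm
        · rw [Subgroup.zpowers_le, Subgroup.mem_centralizer_iff]
          intro z hz; rw [Set.mem_singleton_iff] at hz; rw [hz]
          exact ((Subgroup.mem_centralizer_iff.mp huc) c rfl).symm
      rw [Subgroup.mem_centralizer_iff]
      intro d hd
      exact ((Subgroup.mem_centralizer_iff.mp (h1 hd)) u rfl).symm
    rw [← hTb]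
    exact Cfsg.Agent.Lib.Helper2.gen_general E Tb hETb hcopb hrH x y hxE hyE (hone x hxE)
      (hone y hyE) X (hkey x hxE hxD)
      (fun j => hkey (x ^ j * y) (E.mul_mem (E.pow_mem hxE j) hyE) (hxy j))
  have hgen := Cfsg.Agent.Lib.Helper1.coprime_generated_by_centralizers E T hEnc hET hcop
  rw [← hgen]
  apply iSup₂_le
  intro a ha
  exact hA a ha.1 ha.2

/-- Frattini non-generation for subgroups of `G` inside `T` -/
theorem le_of_le_sup_frattini [Finite G] (T X : Subgroup G) (hXT : X ≤ T)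
    (h : T ≤ X ⊔ (frattini ↥T).map T.subtype) : T ≤ X := by
  have hFT : (frattini ↥T).map T.subtype ≤ T := Subgroup.map_subtype_le _
  have h1 : X.subgroupOf T ⊔ frattini ↥T = ⊤ := by
    have h2 : (X ⊔ (frattini ↥T).map T.subtype).subgroupOf T = ⊤ :=
      Subgroup.subgroupOf_eq_top.mpr h
    rw [Subgroup.subgroupOf_sup hXT hFT] at h2
    have h3 : ((frattini ↥T).map T.subtype).subgroupOf T = frattini ↥T :=
      Subgroup.comap_map_eq_self_of_injective T.subtype_injective _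
    rwa [h3] at h2
  have h4 := frattini_nongenerating h1
  exact Subgroup.subgroupOf_eq_top.mp h4

/-- two subgroups of order `p²` in a group of order `p³` meet nontrivially -/
theorem exists_ne_one_mem_inf [Finite G] {p : ℕ} [hp : Fact p.Prime] {E D₁ D₂ : Subgroup G}
    (hE3 : Nat.card E = p ^ 3) (hD₁E : D₁ ≤ E) (hD₂E : D₂ ≤ E) (hD₁c : Nat.card D₁ = p ^ 2)
    (hD₂c : Nat.card D₂ = p ^ 2) : ∃ a ∈ D₁ ⊓ D₂, a ≠ 1 := by
  by_contra hno
  push Not at hno
  have h : D₁ ⊓ D₂ = ⊥ := (Subgroup.eq_bot_iff_forall _).mpr hno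
  have h1 := card_mul_card_le_card_sup_mul_card_inf D₁ D₂
  rw [h, Subgroup.card_bot, mul_one, hD₁c, hD₂c] at h1
  have h2 : Nat.card (D₁ ⊔ D₂ : Subgroup G) ≤ Nat.card E :=
    Subgroup.card_le_of_le (sup_le hD₁E hD₂E)
  rw [hE3] at h2
  have h3 : p ^ 3 < p ^ 2 * p ^ 2 := by
    rw [← pow_add]; exact Nat.pow_lt_pow_right hp.out.one_lt (by norm_num)
  omega

/-- An elementary abelian group of order `p³` acting coprimely on a noncyclic `t`-group has a
nonidentity element with noncyclic centralizer. -/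
theorem exists_noncyclic_centralizer [Finite G] {p t : ℕ} [hp : Fact p.Prime] [ht : Fact t.Prime]
    (E T : Subgroup G) (hEe : Cfsg.IsElementaryAbelian p E) (hE3 : Nat.card E = p ^ 3)
    (hET : E ≤ Subgroup.normalizer (T : Set G)) (hcop : (Nat.card E).Coprime (Nat.card T))
    (hT : IsPGroup t T) (hTnc : ¬ IsCyclic ↥T) :
    ∃ a ∈ E, a ≠ 1 ∧ ¬ IsCyclic ↥(T ⊓ Subgroup.centralizer ({a} : Set G)) := by
  classical
  by_contra hcon
  push Not at hcon
  have hpp := hp.out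
  have htp := ht.out
  obtain ⟨F, hF⟩ : ∃ F : Subgroup G, F = (frattini ↥T).map T.subtype := ⟨_, rfl⟩
  have hFT : F ≤ T := by rw [hF]; exact Subgroup.map_subtype_le _
  have hpowF : ∀ c ∈ T, c ^ t ∈ F := by
    intro c hc
    rw [hF]
    exact ⟨⟨c, hc⟩ ^ t, pow_prime_mem_frattini_of_isPGroup t hT ⟨c, hc⟩, rfl⟩
  have hCL : ∀ a ∈ E, a ≠ 1 → ∀ X : Subgroup G, F ≤ X →
      (∃ u ∈ T ⊓ Subgroup.centralizer ({a} : Set G), u ∈ X ∧ u ∉ F) →
      T ⊓ Subgroup.centralizer ({a} : Set G) ≤ X := by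
    intro a haE ha1 X hFX ⟨u, huC, huX, huF⟩
    haveI hcyc : IsCyclic ↥(T ⊓ Subgroup.centralizer ({a} : Set G)) := hcon a haE ha1
    obtain ⟨⟨c, hc⟩, hgen⟩ :=
      IsCyclic.exists_monoid_generator (α := ↥(T ⊓ Subgroup.centralizer ({a} : Set G)))
    have hpows : ∀ v ∈ T ⊓ Subgroup.centralizer ({a} : Set G), ∃ n : ℕ, c ^ n = v := by
      intro v hv
      obtain ⟨n, hn⟩ := (Submonoid.mem_powers_iff _ _).mp (hgen ⟨v, hv⟩)
      exact ⟨n, by simpa using congrArg Subtype.val hn⟩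
    have hcT : c ∈ T := (Subgroup.mem_inf.mp hc).1
    obtain ⟨i, hi⟩ := hpows u huC
    have hti : ¬ t ∣ i := by
      rintro ⟨j, rfl⟩
      apply huF
      rw [← hi, pow_mul]
      exact F.pow_mem (hpowF c hcT) j
    have hcop' : Nat.Coprime i t := ((Nat.Prime.coprime_iff_not_dvd htp).mpr hti).symm
    obtain ⟨m, -, hm⟩ := Nat.exists_mul_mod_eq_one_of_coprime hcop' htp.one_lt
    have hcX : c ∈ X := by
      have e1 : i * m = t * (i * m / t) + 1 := by
        have := Nat.div_add_mod (i * m) t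
        rw [hm] at this; exact this.symm
      have e2 : c ^ (i * m) = (c ^ t) ^ (i * m / t) * c := by
        conv_lhs => rw [e1]
        rw [pow_succ, pow_mul]
      have e3 : ((c ^ t) ^ (i * m / t))⁻¹ * (c ^ i) ^ m = c := by
        have e4 : (c ^ i) ^ m = c ^ (i * m) := (pow_mul c i m).symm
        rw [e4, e2, inv_mul_cancel_left]
      rw [← e3]
      refine X.mul_mem (X.inv_mem (X.pow_mem (hFX (hpowF c hcT)) _)) (X.pow_mem ?_ m)
      rw [hi]; exact huX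
    intro v hv
    obtain ⟨n, hn⟩ := hpows v hv
    rw [← hn]; exact X.pow_mem hcX n
  have hT1 : T ≠ ⊥ := by
    rintro h; apply hTnc; rw [h]; infer_instance
  have hnotF : ¬ T ≤ F := by
    intro h
    have h1 : T ≤ ⊥ ⊔ (frattini ↥T).map T.subtype := by rw [bot_sup_eq, ← hF]; exact h
    have h2 := le_of_le_sup_frattini T ⊥ bot_le h1
    exact hT1 (le_bot_iff.mp h2)
  obtain ⟨D₁, hD₁E, hD₁c, hD₁⟩ : ∃ D₁ : Subgroup G, D₁ ≤ E ∧ Nat.card D₁ = p ^ 2 ∧
      ¬ T ⊓ Subgroup.centralizer (D₁ : Set G) ≤ F := by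
    by_contra hno
    push Not at hno
    exact hnotF (gen2 E T F hEe hE3 hET hcop hno)
  obtain ⟨u, huC, huF⟩ := SetLike.not_le_iff_exists.mp hD₁
  obtain ⟨X₁, hX₁⟩ : ∃ X₁ : Subgroup G,
      X₁ = (T ⊓ Subgroup.centralizer (D₁ : Set G)) ⊔ F := ⟨_, rfl⟩
  have hFX₁ : F ≤ X₁ := by rw [hX₁]; exact le_sup_right
  have huX₁ : u ∈ X₁ := by
    rw [hX₁]; exact (le_sup_left : T ⊓ Subgroup.centralizer (D₁ : Set G) ≤ _) huC
  have hcentD : ∀ (D : Subgroup G) (a : G), a ∈ D →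
      T ⊓ Subgroup.centralizer (D : Set G) ≤ T ⊓ Subgroup.centralizer ({a} : Set G) := by
    intro D a ha
    apply inf_le_inf_left
    apply Subgroup.centralizer_le
    intro z hz; rw [Set.mem_singleton_iff] at hz; rw [hz]; exact ha
  by_cases hTX : T ≤ X₁
  · have h1 : T ≤ T ⊓ Subgroup.centralizer (D₁ : Set G) :=
      le_of_le_sup_frattini T _ inf_le_left (by rw [← hF, ← hX₁]; exact hTX)
    have hD₁bot : D₁ ≠ ⊥ := by
      intro h; rw [h, Subgroup.card_bot] at hD₁c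
      have : 1 < p ^ 2 := Nat.one_lt_pow (by norm_num) hpp.one_lt
      omega
    obtain ⟨a, haD, ha1⟩ : ∃ a ∈ D₁, a ≠ 1 := by
      by_contra hno; push Not at hno
      exact hD₁bot ((Subgroup.eq_bot_iff_forall _).mpr hno)
    have hEq : T ⊓ Subgroup.centralizer ({a} : Set G) = T :=
      le_antisymm inf_le_left (h1.trans (hcentD D₁ a haD))
    have hc := hcon a (hD₁E haD) ha1
    rw [hEq] at hc
    exact hTnc hc
  · obtain ⟨D₂, hD₂E, hD₂c, hD₂⟩ : ∃ D₂ : Subgroup G, D₂ ≤ E ∧ Nat.card D₂ = p ^ 2 ∧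
        ¬ T ⊓ Subgroup.centralizer (D₂ : Set G) ≤ X₁ := by
      by_contra hno
      push Not at hno
      exact hTX (gen2 E T X₁ hEe hE3 hET hcop hno)
    obtain ⟨a, ha, ha1⟩ := exists_ne_one_mem_inf hE3 hD₁E hD₂E hD₁c hD₂c
    have haD₁ := (Subgroup.mem_inf.mp ha).1
    have haD₂ := (Subgroup.mem_inf.mp ha).2
    have haE : a ∈ E := hD₁E haD₁
    have h1 := hCL a haE ha1 X₁ hFX₁ ⟨u, hcentD D₁ a haD₁ huC, huX₁, huF⟩
    exact hD₂ ((hcentD D₂ a haD₂).trans h1)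

/-- In a non-narrow `t`-group of rank at least three, the centralizer of every elementary abelian
subgroup has rank at least three. -/
theorem nonnarrow_centralizer_rank [Finite G] {t : ℕ} [ht : Fact t.Prime] (ht2 : t ≠ 2)
    (T : Subgroup G) (hT : IsPGroup t T) (hr : ¬ Cfsg.PRankLE t 2 ↥T)
    (hnn : ¬ Cfsg.IsNarrow t ↥T) (E : Subgroup G) (hET : E ≤ T)
    (hEe : Cfsg.IsElementaryAbelian t E) :
    ∃ B : Subgroup G, B ≤ T ∧ B ≤ Subgroup.centralizer (E : Set G) ∧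
      Cfsg.IsElementaryAbelian t B ∧ t ^ 3 ≤ Nat.card B := by
  have hE' : Cfsg.IsElementaryAbelian t (E.subgroupOf T) :=
    isElementaryAbelian_comap_of_injective hEe T.subtype T.subtype_injective
  have h1 : ¬ Cfsg.PRankLE t 2
      ↥(Subgroup.centralizer ((E.subgroupOf T : Subgroup ↥T) : Set ↥T)) := by
    intro h
    exact hnn (NW.narrow_of_centralizer_rank ht2 hT hr (E.subgroupOf T) hE' h)
  obtain ⟨B₁, hB₁C, hB₁e, hB₁3⟩ := BG9.exists_elementary_of_not_pRankLE ht.out h1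
  refine ⟨B₁.map T.subtype, Subgroup.map_subtype_le _, ?_, isElementaryAbelian_map hB₁e _, ?_⟩
  · rintro _ ⟨b, hb, rfl⟩
    rw [Subgroup.mem_centralizer_iff]
    intro e he
    have h2 := (Subgroup.mem_centralizer_iff.mp (hB₁C hb)) ⟨e, hET he⟩
      (Subgroup.mem_subgroupOf.mpr he)
    exact congrArg Subtype.val h2
  · rw [Subgroup.card_map_of_injective T.subtype_injective]
    exact hB₁3

/-- `Ω₁(Z(D))` -/
theorem exists_omega_center [Finite G] {t : ℕ} [ht : Fact t.Prime] (D : Subgroup G)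
    (hD : IsPGroup t D) (hD1 : D ≠ ⊥) :
    ∃ D₁ : Subgroup G, D₁ ≤ D ∧ D₁ ≠ ⊥ ∧ Cfsg.IsElementaryAbelian t D₁ ∧
      Subgroup.normalizer (D : Set G) ≤ Subgroup.normalizer (D₁ : Set G) := by
  classical
  obtain ⟨D₁, hmem⟩ : ∃ D₁ : Subgroup G, ∀ x, x ∈ D₁ ↔
      (x ∈ D ∧ x ∈ Subgroup.centralizer (D : Set G) ∧ x ^ t = 1) := by
    refine ⟨{ carrier := {x | x ∈ D ∧ x ∈ Subgroup.centralizer (D : Set G) ∧ x ^ t = 1}
              mul_mem' := ?_
              one_mem' := ⟨D.one_mem, Subgroup.one_mem _, one_pow _⟩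
              inv_mem' := ?_ }, fun x => Iff.rfl⟩
    · rintro x y ⟨hxD, hxC, hxt⟩ ⟨hyD, hyC, hyt⟩
      refine ⟨D.mul_mem hxD hyD, Subgroup.mul_mem _ hxC hyC, ?_⟩
      have hc : Commute x y := by
        show x * y = y * x
        exact ((Subgroup.mem_centralizer_iff.mp hxC) y hyD).symm
      rw [hc.mul_pow, hxt, hyt, one_mul]
    · rintro x ⟨hxD, hxC, hxt⟩
      exact ⟨D.inv_mem hxD, Subgroup.inv_mem _ hxC, by rw [inv_pow, hxt, inv_one]⟩
  refine ⟨D₁, fun x hx => ((hmem x).mp hx).1, ?_, ?_, ?_⟩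
  · haveI : Nontrivial ↥D := (Subgroup.nontrivial_iff_ne_bot D).mpr hD1
    haveI : Nontrivial ↥(Subgroup.center ↥D) := hD.center_nontrivial
    have hcardZ : t ∣ Nat.card ↥(Subgroup.center ↥D) := by
      rcases (hD.to_subgroup (Subgroup.center ↥D)).card_eq_or_dvd with h | h
      · exfalso
        exact (Finite.one_lt_card (α := ↥(Subgroup.center ↥D))).ne' h
      · exact h
    obtain ⟨z, hz⟩ := exists_prime_orderOf_dvd_card' t hcardZ
    intro hbot
    have hzt : z ^ t = 1 := by rw [← hz]; exact pow_orderOf_eq_one z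
    have hg : ((z : ↥D) : G) ∈ D₁ := by
      rw [hmem]
      refine ⟨(z : ↥D).2, ?_, ?_⟩
      · rw [Subgroup.mem_centralizer_iff]
        intro d hd
        have h1 := Subgroup.mem_center_iff.mp z.2 ⟨d, hd⟩
        exact congrArg Subtype.val h1
      · have h1 := congrArg (fun w : ↥(Subgroup.center ↥D) => ((w : ↥D) : G)) hzt
        simpa using h1
    rw [hbot, Subgroup.mem_bot] at hg
    have hz1 : z = 1 := by
      apply Subtype.ext
      apply Subtype.ext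
      simpa using hg
    rw [hz1, orderOf_one] at hz
    exact ht.out.one_lt.ne hz
  · refine ⟨⟨⟨fun a b => ?_⟩⟩, fun a ha => ((hmem a).mp ha).2.2⟩
    apply Subtype.ext
    have ha := ((hmem a.1).mp a.2).2.1
    have hb := ((hmem b.1).mp b.2).1
    exact ((Subgroup.mem_centralizer_iff.mp ha) b.1 hb).symm
  · apply le_normalizer_of_conj_mem
    intro n hn x hx
    obtain ⟨hxD, hxC, hxt⟩ := (hmem x).mp hx
    rw [hmem]
    refine ⟨(Subgroup.mem_normalizer_iff.mp hn x).mp hxD, ?_, ?_⟩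
    · rw [Subgroup.mem_centralizer_iff]
      intro d hd
      have hd' : n⁻¹ * d * n⁻¹⁻¹ ∈ D :=
        (Subgroup.mem_normalizer_iff.mp (Subgroup.inv_mem _ hn) d).mp hd
      have hcomm := (Subgroup.mem_centralizer_iff.mp hxC) _ hd'
      calc d * (n * x * n⁻¹) = n * ((n⁻¹ * d * n⁻¹⁻¹) * x) * n⁻¹ := by group
        _ = n * (x * (n⁻¹ * d * n⁻¹⁻¹)) * n⁻¹ := by rw [hcomm]
        _ = n * x * n⁻¹ * d := by group
    · rw [conj_pow, hxt, mul_one, mul_inv_cancel]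

/-- In the narrow case, a `p`-subgroup of `N_G(T)'` centralizes `T`. -/
theorem le_centralizer_of_narrow [Finite G] {t p : ℕ} [ht : Fact t.Prime] [hp : Fact p.Prime]
    (ht2 : t ≠ 2) (htp : t ≠ p) (T P : Subgroup G) (hT : IsPGroup t T)
    (hr : ¬ Cfsg.PRankLE t 2 ↥T) (hn : Cfsg.IsNarrow t ↥T) (hP : IsPGroup p P)
    (hPN : P ≤ ⁅Subgroup.normalizer (T : Set G), Subgroup.normalizer (T : Set G)⁆) :
    P ≤ Subgroup.centralizer (T : Set G) := by
  obtain ⟨B, hBn, hBp, hBc, -⟩ := NW.narrow_main ht2 hT hr hn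
  obtain ⟨N, hN⟩ : ∃ N, N = Subgroup.normalizer (T : Set G) := ⟨_, rfl⟩
  rw [← hN] at hPN
  have hNT : N ≤ Subgroup.normalizer (T : Set G) := hN.le
  have hcomm : commutator ↥N ≤ B.comap (TF.zeta T N hNT) := by
    rw [commutator_def, Subgroup.commutator_le]
    intro a _ b _
    rw [Subgroup.mem_comap, map_commutatorElement]
    exact hBc _ _
  intro x hx
  have h1 : x ∈ (commutator ↥N).map N.subtype := by
    rw [Subgroup.map_subtype_commutator]; exact hPN hx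
  obtain ⟨w, hw, hwx⟩ := h1
  have hwx' : (w : G) = x := hwx
  have hζB : TF.zeta T N hNT w ∈ B := hcomm hw
  obtain ⟨k, hk⟩ := hBp ⟨_, hζB⟩
  have hk' : (TF.zeta T N hNT w) ^ t ^ k = 1 := by
    have := congrArg Subtype.val hk
    simpa using this
  obtain ⟨j, hj⟩ := hP ⟨x, hx⟩
  have hj' : w ^ p ^ j = 1 := by
    apply Subtype.ext
    have := congrArg Subtype.val hj
    simp only [Subgroup.coe_pow, Subgroup.coe_one] at this ⊢
    rw [hwx']; exact this
  have hj'' : (TF.zeta T N hNT w) ^ p ^ j = 1 := by rw [← map_pow, hj', map_one]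
  have hone : TF.zeta T N hNT w = 1 := by
    rw [← orderOf_eq_one_iff]
    exact Nat.eq_one_of_dvd_coprimes
      (Nat.Coprime.pow k j ((Nat.coprime_primes ht.out hp.out).mpr htp))
      (orderOf_dvd_of_pow_eq_one hk') (orderOf_dvd_of_pow_eq_one hj'')
  rw [Subgroup.mem_centralizer_iff]
  intro s hs
  have h2 := congrArg (fun f : MulAut ↥T => ((f ⟨s, hs⟩ : ↥T) : G)) hone
  simp only [TF.zeta_apply, MulAut.one_apply] at h2
  rw [hwx'] at h2
  calc s * x = (x * s * x⁻¹) * x := by rw [h2]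
    _ = x * s := by group

end Cfsg.Agent.Lib.Helper1.MS
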