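import Mathlib
import Cfsg.Agent.Lib.Helper1.MS2

set_option autoImplicit false
set_option maxHeartbeats 4000000
set_option linter.unusedVariables false
set_option linter.unusedSectionVars false
set_option linter.style.longLine false
set_option linter.unusedSimpArgs false
set_option linter.style.haveILetI false

/-!
# B&G Lemma 9.5 (S1402): Hall pairs and the subgroup `O_{p'}(C_G(x))`
-/

open scoped commutatorElement Pointwise
universe u
namespace Cfsg.Agent.Lib.Helper1.MS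

open Cfsg

variable {G : Type u} [Group G]

theorem smul_eq_cj (g : G) (H : Subgroup G) : MulAut.conj g • H = BG7.cj g H := by
  ext x
  rw [Subgroup.mem_pointwise_smul_iff_inv_smul_mem, BG7.mem_cj, MulAut.smul_def,
    MulAut.conj_inv_apply]

/-- Two Sylow subgroups for different primes in a solvable group, up to conjugacy inside a Hall
subgroup whose Fitting subgroup is nontrivial. -/
theorem hall_pair {Θ : Type u} [Group Θ] [Finite Θ] [Group.IsSolvable Θ] {t s : ℕ}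
    [ht : Fact t.Prime] [hs : Fact s.Prime] (hts : t ≠ s) (U V : Subgroup Θ)
    (hU : Nat.card U = t ^ (Nat.card Θ).factorization t)
    (hV : Nat.card V = s ^ (Nat.card Θ).factorization s) (hU1 : U ≠ ⊥) :
    ∃ (J : Subgroup Θ) (c : Θ), U ≤ J ∧ V ≤ BG7.cj c J ∧
      ((∃ D : Subgroup Θ, D ≠ ⊥ ∧ D ≤ U ∧ J ≤ Subgroup.normalizer (D : Set Θ)) ∨
       (∃ D : Subgroup Θ, D ≠ ⊥ ∧ D ≤ V ∧
          BG7.cj c J ≤ Subgroup.normalizer (D : Set Θ))) := by
  classical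
  have htp := ht.out
  have hsp := hs.out
  have hUsyl := hU
  have hVsyl := hV
  obtain ⟨N, hN⟩ : ∃ N, N = Nat.card Θ := ⟨_, rfl⟩
  have hN0 : N ≠ 0 := by rw [hN]; exact Nat.card_pos.ne'
  obtain ⟨a, ha⟩ : ∃ a, a = N.factorization t := ⟨_, rfl⟩
  obtain ⟨b, hb⟩ : ∃ b, b = N.factorization s := ⟨_, rfl⟩
  rw [← hN, ← ha] at hU
  rw [← hN, ← hb] at hV
  have hcop_ts : Nat.Coprime (t ^ a) (s ^ b) :=
    Nat.Coprime.pow a b ((Nat.coprime_primes htp hsp).mpr hts)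
  have hta : t ^ a ∣ N := by rw [ha]; exact Nat.ordProj_dvd N t
  have hsb : s ^ b ∣ N := by rw [hb]; exact Nat.ordProj_dvd N s
  have hmN : t ^ a * s ^ b ∣ N := Nat.Coprime.mul_dvd_of_dvd_of_dvd hcop_ts hta hsb
  obtain ⟨n, hn⟩ := hmN
  have htn : ¬ t ∣ n := by
    rintro ⟨c, hc⟩
    apply Nat.pow_succ_factorization_not_dvd hN0 htp
    rw [← ha]
    refine ⟨s ^ b * c, ?_⟩
    rw [hn, hc, pow_succ]; ring
  have hsn : ¬ s ∣ n := by
    rintro ⟨c, hc⟩
    apply Nat.pow_succ_factorization_not_dvd hN0 hsp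
    rw [← hb]
    refine ⟨t ^ a * c, ?_⟩
    rw [hn, hc, pow_succ]; ring
  have hcop_tn : Nat.Coprime (t ^ a) n :=
    Nat.Coprime.pow_left a ((Nat.Prime.coprime_iff_not_dvd htp).mpr htn)
  have hcop_sn : Nat.Coprime (s ^ b) n :=
    Nat.Coprime.pow_left b ((Nat.Prime.coprime_iff_not_dvd hsp).mpr hsn)
  have hcop_mn : Nat.Coprime (t ^ a * s ^ b) n := Nat.Coprime.mul_left hcop_tn hcop_sn
  have hmpos : 0 < t ^ a * s ^ b := Nat.mul_pos (pow_pos htp.pos a) (pow_pos hsp.pos b)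
  obtain ⟨J₀, hJ₀⟩ := hall_exists (G := Θ) (t ^ a * s ^ b) n (by rw [← hN]; exact hn) hcop_mn
  have hidx : ∀ J : Subgroup Θ, Nat.card J = t ^ a * s ^ b → J.index = n := by
    intro J hJ
    have h1 := Subgroup.card_mul_index J
    rw [hJ, ← hN, hn] at h1
    exact Nat.eq_of_mul_eq_mul_left hmpos h1
  have hJ₀idx := hidx J₀ hJ₀
  obtain ⟨g, hg⟩ := hall_dominance J₀ U (by rw [hJ₀, hJ₀idx]; exact hcop_mn)
    (by rw [hU, hJ₀idx]; exact hcop_tn)
  obtain ⟨J, hJdef⟩ : ∃ J, J = BG7.cj g J₀ := ⟨_, rfl⟩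
  have hUJ : U ≤ J := by rw [hJdef, ← smul_eq_cj]; exact hg
  have hJcard : Nat.card J = t ^ a * s ^ b := by rw [hJdef, BG7.card_cj, hJ₀]
  have hJidx := hidx J hJcard
  obtain ⟨c, hc⟩ := hall_dominance J V (by rw [hJcard, hJidx]; exact hcop_mn)
    (by rw [hV, hJidx]; exact hcop_sn)
  rw [smul_eq_cj] at hc
  refine ⟨J, c, hUJ, hc, ?_⟩
  haveI : Nontrivial ↥J := by
    rw [Subgroup.nontrivial_iff_ne_bot]
    intro h; apply hU1; rw [eq_bot_iff, ← h]; exact hUJ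
  obtain ⟨q, hq, hOq⟩ := exists_pCore_ne_bot_of_solvable ↥J
  haveI : Fact q.Prime := ⟨hq⟩
  have hqJ : q ∣ Nat.card ↥J := by
    have h1 : q ∣ Nat.card ↥(Cfsg.pCore q ↥J) := by
      rcases (pCore_isPGroup (G := ↥J) q).card_eq_or_dvd with h | h
      · exact absurd (Subgroup.card_eq_one.mp h) hOq
      · exact h
    exact h1.trans (Subgroup.card_subgroup_dvd_card _)
  rw [hJcard] at hqJ
  have hq_ts : q = t ∨ q = s := by
    rcases (Nat.Prime.dvd_mul hq).mp hqJ with h | h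
    · left; exact (Nat.prime_dvd_prime_iff_eq hq htp).mp (hq.dvd_of_dvd_pow h)
    · right; exact (Nat.prime_dvd_prime_iff_eq hq hsp).mp (hq.dvd_of_dvd_pow h)
  have hnormJ : ∀ r : ℕ, J ≤ Subgroup.normalizer
      (((Cfsg.pCore r ↥J).map J.subtype : Subgroup Θ) : Set Θ) := by
    intro r
    apply le_normalizer_of_conj_mem
    intro j hj x hx
    obtain ⟨y, hy, rfl⟩ := hx
    exact ⟨⟨j, hj⟩ * y * ⟨j, hj⟩⁻¹, (pCore_normal (G := ↥J) r).conj_mem y hy ⟨j, hj⟩, rfl⟩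
  rcases hq_ts with hqt | hqs
  · left
    have hOt : Cfsg.pCore t ↥J ≠ ⊥ := hqt ▸ hOq
    refine ⟨(Cfsg.pCore t ↥J).map J.subtype, ?_, ?_, hnormJ t⟩
    · rw [Ne, Subgroup.map_eq_bot_iff_of_injective _ J.subtype_injective]; exact hOt
    · have h1 := pCore_le_sylow t ((Sylow.ofCard U hUsyl).subtype (show U ≤ J from hUJ))
      rintro _ ⟨y, hy, rfl⟩
      have h2 : y ∈ U.subgroupOf J := h1 hy
      exact Subgroup.mem_subgroupOf.mp h2
  · right
    have hOs : Cfsg.pCore s ↥J ≠ ⊥ := hqs ▸ hOq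
    refine ⟨BG7.cj c ((Cfsg.pCore s ↥J).map J.subtype), ?_, ?_,
      BG9.cj_le_normalizer_cj c (hnormJ s)⟩
    · rw [Ne, BG7.cj_eq_bot_iff, Subgroup.map_eq_bot_iff_of_injective _ J.subtype_injective]
      exact hOs
    · have hV' : BG7.cj c⁻¹ V ≤ J := by
        have := BG7.cj_mono (k := c⁻¹) hc
        rwa [BG7.cj_inv_cj] at this
      have hVsyl' : Nat.card (BG7.cj c⁻¹ V) = s ^ (Nat.card Θ).factorization s := by
        rw [BG7.card_cj, hVsyl]
      have h1 := pCore_le_sylow s ((Sylow.ofCard _ hVsyl').subtype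
        (show BG7.cj c⁻¹ V ≤ J from hV'))
      have h2 : (Cfsg.pCore s ↥J).map J.subtype ≤ BG7.cj c⁻¹ V := by
        rintro _ ⟨y, hy, rfl⟩
        have h3 : y ∈ (BG7.cj c⁻¹ V).subgroupOf J := h1 hy
        exact Subgroup.mem_subgroupOf.mp h3
      have h4 := BG7.cj_mono (k := c) h2
      rwa [BG9.cj_cj_inv] at h4

theorem inf_centralizer_le_singleton (T D : Subgroup G) {a : G} (ha : a ∈ D) :
    T ⊓ Subgroup.centralizer (D : Set G) ≤ T ⊓ Subgroup.centralizer ({a} : Set G) := by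
  apply inf_le_inf_left
  apply Subgroup.centralizer_le
  intro z hz; rw [Set.mem_singleton_iff] at hz; rw [hz]; exact ha

theorem cj_centralizer_singleton {k x : G} (hk : k * x = x * k) :
    BG7.cj k (Subgroup.centralizer ({x} : Set G)) = Subgroup.centralizer ({x} : Set G) := by
  apply BG7.cj_eq_of_mem_normalizer
  apply Subgroup.le_normalizer
  rw [Subgroup.mem_centralizer_iff]
  intro z hz; rw [Set.mem_singleton_iff] at hz; rw [hz]; exact hk.symm

section ctx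
variable [Finite G]

/-- an `A`-invariant `s`-subgroup of `C_G(x)` lies in a `K`-conjugate of `C_S(x)` -/
theorem le_cj_inf_centralizer (hG : IsMinSimpleOddOrder G) {A : Subgroup G}
    (hTH : TransitivityHypothesis A)
    (hZ : ¬ RankLE 2 ↥(A ⊓ Subgroup.centralizer (A : Set G))) {s : ℕ} (hs : s.Prime)
    (hsA : ¬ s ∣ Nat.card A) {S : Subgroup G} (hS : S ∈ maxInvSubgroups ⊤ A {s}) {x : G}
    (hx : x ∈ A) {Y : Subgroup G} (hYs : IsPGroup s Y)
    (hAY : A ≤ Subgroup.normalizer (Y : Set G))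
    (hYx : Y ≤ Subgroup.centralizer ({x} : Set G)) :
    ∃ k ∈ BG7.KK A, Y ≤ BG7.cj k (S ⊓ Subgroup.centralizer ({x} : Set G)) := by
  have hYinv : Y ∈ invSubgroups ⊤ A {s} := BG7.mem_invSubgroups_top_of_isPGroup hs hYs hAY
  obtain ⟨S', hS', hYS'⟩ := BG7.exists_max_above hYinv
  obtain ⟨k, hk, hkS⟩ := BG7.t73 hG hTH hZ hs hsA hS hS'
  refine ⟨k, hk, ?_⟩
  have hkx : k * x = x * k :=
    (Subgroup.mem_centralizer_iff.mp (BG7.KK_le_centralizer A hk) x hx).symm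
  rw [BG7.cj_inf, cj_centralizer_singleton hkx, ← hkS]
  exact le_inf hYS' hYx

theorem theta_facts (hG : IsMinSimpleOddOrder G) {A : Subgroup G}
    (hAab : A ≤ Subgroup.centralizer (A : Set G)) {x : G} (hxA : x ∈ A) (hx1 : x ≠ 1) :
    Subgroup.centralizer ({x} : Set G) ≠ ⊤ ∧ A ≤ Subgroup.centralizer ({x} : Set G) ∧
    A ≤ Subgroup.normalizer
      (piCoreOf (primesNotDvd (Nat.card A)) (Subgroup.centralizer ({x} : Set G)) : Set G) ∧
    (Nat.card A).Coprime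
      (Nat.card (piCoreOf (primesNotDvd (Nat.card A)) (Subgroup.centralizer ({x} : Set G)))) ∧
    Group.IsSolvable
      ↥(piCoreOf (primesNotDvd (Nat.card A)) (Subgroup.centralizer ({x} : Set G))) := by
  have hC := BG7.centralizer_singleton_ne_top hG hx1
  have hAC : A ≤ Subgroup.centralizer ({x} : Set G) := by
    intro a ha
    rw [Subgroup.mem_centralizer_iff]
    intro z hz; rw [Set.mem_singleton_iff] at hz; rw [hz]
    exact (Subgroup.mem_centralizer_iff.mp (hAab hxA) a ha).symm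
  refine ⟨hC, hAC, hAC.trans (BG7.le_normalizer_piCoreOf _ _),
    BG7.coprime_card_of_pi' (BG7.piCoreOf_pi _ _), ?_⟩
  apply BG7.isSolvable_of_ne_top hG
  intro h
  apply hC
  rw [eq_top_iff, ← h]; exact BG7.piCoreOf_le _ _

/-- `C_T(x)` is a Sylow `t`-subgroup of `O_{p'}(C_G(x))`. -/
theorem card_inf_centralizer (hG : IsMinSimpleOddOrder G) {A : Subgroup G}
    (hAab : A ≤ Subgroup.centralizer (A : Set G)) (hTH : TransitivityHypothesis A)
    (hZ : ¬ RankLE 2 ↥(A ⊓ Subgroup.centralizer (A : Set G))) {t : ℕ} (ht : t.Prime)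
    (htA : ¬ t ∣ Nat.card A) {T : Subgroup G} (hT : T ∈ maxInvSubgroups ⊤ A {t}) {x : G}
    (hxA : x ∈ A) (hx1 : x ≠ 1) :
    T ⊓ Subgroup.centralizer ({x} : Set G) ≤
      piCoreOf (primesNotDvd (Nat.card A)) (Subgroup.centralizer ({x} : Set G)) ∧
    Nat.card ↥(T ⊓ Subgroup.centralizer ({x} : Set G)) =
      t ^ (Nat.card ↥(piCoreOf (primesNotDvd (Nat.card A))
        (Subgroup.centralizer ({x} : Set G)))).factorization t := by
  obtain ⟨hC, hAC, hAθ, hcop, hθs⟩ := theta_facts hG hAab hxA hx1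
  obtain ⟨θ, hθ⟩ : ∃ θ, θ = piCoreOf (primesNotDvd (Nat.card A))
    (Subgroup.centralizer ({x} : Set G)) := ⟨_, rfl⟩
  rw [← hθ] at hAθ hcop hθs ⊢
  haveI : Fact t.Prime := ⟨ht⟩
  obtain ⟨U, hU⟩ : ∃ U, U = T ⊓ Subgroup.centralizer ({x} : Set G) := ⟨_, rfl⟩
  rw [← hU]
  have hTt : IsPGroup t T := BG7.isPGroup_of_mem_invSubgroups ht hT.1
  have hUt : IsPGroup t U := hTt.to_le (by rw [hU]; exact inf_le_left)
  have hAU : A ≤ Subgroup.normalizer (U : Set G) := by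
    rw [hU]; exact le_normalizer_inf hT.1.2.2 (hAC.trans Subgroup.le_normalizer)
  have hUθ : U ≤ θ := by
    rw [hθ]
    exact BG7.qsub_le_piCoreOf hTH htA hC hAC (by rw [hU]; exact inf_le_right) hUt hAU
  obtain ⟨Y, hUY, hAY⟩ := coprime_invariant_le_sylow A θ hAθ hcop (Or.inr hθs) t U hUθ hUt hAU
  have hYt : IsPGroup t ((Y : Subgroup ↥θ).map θ.subtype) := Y.isPGroup'.map _
  have hYx : (Y : Subgroup ↥θ).map θ.subtype ≤ Subgroup.centralizer ({x} : Set G) := by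
    refine (Subgroup.map_subtype_le _).trans ?_
    rw [hθ]; exact BG7.piCoreOf_le _ _
  obtain ⟨k, hk, hYk⟩ := le_cj_inf_centralizer hG hTH hZ ht htA hT hxA hYt hAY hYx
  rw [← hU] at hYk
  have h1 : Nat.card ((Y : Subgroup ↥θ).map θ.subtype) ≤ Nat.card U := by
    have := Subgroup.card_le_of_le hYk; rwa [BG7.card_cj] at this
  have h2 : U = (Y : Subgroup ↥θ).map θ.subtype := Subgroup.eq_of_le_of_card_ge hUY h1
  refine ⟨hUθ, ?_⟩
  rw [h2, Subgroup.card_map_of_injective θ.subtype_injective, Y.card_eq_multiplicity]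

/-- If `M ⊇ A, K` contains an `s`-subgroup of `O_{p'}(C_G(x))` as large as `C_S(x)`, then
`C_S(x) ≤ M`. -/
theorem inf_centralizer_le_of_card (hG : IsMinSimpleOddOrder G) {A : Subgroup G}
    (hAab : A ≤ Subgroup.centralizer (A : Set G)) (hTH : TransitivityHypothesis A)
    (hZ : ¬ RankLE 2 ↥(A ⊓ Subgroup.centralizer (A : Set G))) {s : ℕ} (hs : s.Prime)
    (hsA : ¬ s ∣ Nat.card A) {S : Subgroup G} (hS : S ∈ maxInvSubgroups ⊤ A {s}) {x : G}
    (hxA : x ∈ A) (hx1 : x ≠ 1) {M V₀ : Subgroup G} (hAM : A ≤ M) (hKM : BG7.KK A ≤ M)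
    (hV₀M : V₀ ≤ M)
    (hV₀θ : V₀ ≤ piCoreOf (primesNotDvd (Nat.card A)) (Subgroup.centralizer ({x} : Set G)))
    (hV₀s : IsPGroup s V₀)
    (hcard : Nat.card ↥(S ⊓ Subgroup.centralizer ({x} : Set G)) ≤ Nat.card V₀) :
    S ⊓ Subgroup.centralizer ({x} : Set G) ≤ M := by
  obtain ⟨hC, hAC, hAθ, hcop, hθs⟩ := theta_facts hG hAab hxA hx1
  obtain ⟨θ, hθ⟩ : ∃ θ, θ = piCoreOf (primesNotDvd (Nat.card A))
    (Subgroup.centralizer ({x} : Set G)) := ⟨_, rfl⟩
  rw [← hθ] at hAθ hcop hθs hV₀θ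
  haveI : Fact s.Prime := ⟨hs⟩
  obtain ⟨L, hL⟩ : ∃ L, L = M ⊓ θ := ⟨_, rfl⟩
  have hLθ : L ≤ θ := by rw [hL]; exact inf_le_right
  have hLM : L ≤ M := by rw [hL]; exact inf_le_left
  have hAL : A ≤ Subgroup.normalizer (L : Set G) := by
    rw [hL]; exact le_normalizer_inf (hAM.trans Subgroup.le_normalizer) hAθ
  have hcopL : (Nat.card A).Coprime (Nat.card L) :=
    Nat.Coprime.coprime_dvd_right (Subgroup.card_dvd_of_le hLθ) hcop
  have hLs : Group.IsSolvable ↥L := by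
    haveI := hθs
    exact isSolvable_of_le hLθ
  obtain ⟨Y, hAY⟩ := coprime_exists_invariant_sylow A L hAL hcopL (Or.inr hLs) s
  have hV₀L : V₀ ≤ L := by rw [hL]; exact le_inf hV₀M hV₀θ
  have hcardY : Nat.card V₀ ≤ Nat.card ((Y : Subgroup ↥L).map L.subtype) := by
    obtain ⟨Q, hQ⟩ := (hV₀s.comap_subtype (K := L)).exists_le_sylow
    have h1 : Nat.card (V₀.subgroupOf L) ≤ Nat.card (Q : Subgroup ↥L) :=
      Subgroup.card_le_of_le hQ
    rw [card_subgroupOf_of_le hV₀L] at h1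
    rw [Subgroup.card_map_of_injective L.subtype_injective, Y.card_eq_multiplicity,
      ← Q.card_eq_multiplicity]
    exact h1
  have hYs : IsPGroup s ((Y : Subgroup ↥L).map L.subtype) := Y.isPGroup'.map _
  have hYL : (Y : Subgroup ↥L).map L.subtype ≤ L := Subgroup.map_subtype_le _
  have hYx : (Y : Subgroup ↥L).map L.subtype ≤ Subgroup.centralizer ({x} : Set G) := by
    refine hYL.trans (hLθ.trans ?_)
    rw [hθ]; exact BG7.piCoreOf_le _ _
  obtain ⟨k, hk, hYk⟩ := le_cj_inf_centralizer hG hTH hZ hs hsA hS hxA hYs hAY hYx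
  have h2 : (Y : Subgroup ↥L).map L.subtype =
      BG7.cj k (S ⊓ Subgroup.centralizer ({x} : Set G)) := by
    apply Subgroup.eq_of_le_of_card_ge hYk
    rw [BG7.card_cj]; exact hcard.trans hcardY
  have hYM : (Y : Subgroup ↥L).map L.subtype ≤ M := hYL.trans hLM
  have h3 : BG7.cj k⁻¹ ((Y : Subgroup ↥L).map L.subtype) ≤ M :=
    BG9.cj_le_of_mem (M.inv_mem (hKM hk)) hYM
  rw [h2, BG7.cj_inv_cj] at h3
  exact h3

end ctx

end Cfsg.Agent.Lib.Helper1.MS
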