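import Mathlib
import Cfsg.Agent.Lib.Helper1.MS3

set_option autoImplicit false
set_option maxHeartbeats 4000000
set_option linter.unusedVariables false
set_option linter.unusedSectionVars false
set_option linter.style.longLine false
set_option linter.unusedSimpArgs false
set_option linter.style.haveILetI false

/-!
# B&G Lemma 9.5 (S1402)
-/

open scoped commutatorElement Pointwise
universe u
namespace Cfsg.Agent.Lib.Helper1.MS

open Cfsg

variable {G : Type u} [Group G]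

/-- data attached to a prime `t ≠ p` -/
structure Good (A : Subgroup G) (p t : ℕ) (T H : Subgroup G) : Prop where
  ht : t.Prime
  htp : t ≠ p
  hT : T ∈ maxInvSubgroups ⊤ A {t}
  hH : IsCoatom H
  hTH : T ≤ H
  hAH : A ≤ H
  hKH : BG7.KK A ≤ H
  huniq : ∀ L : Subgroup G, IsCoatom L → T ≤ L → L = H
  hnorm : ∀ D : Subgroup G, D ≤ T → D ≠ ⊥ → Subgroup.normalizer (D : Set G) ≤ H

variable [Finite G]

theorem good_of_nonnarrow (hG : IsMinSimpleOddOrder G) {p : ℕ} [hp : Fact p.Prime]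
    {A E₃ : Subgroup G} (hE₃A : E₃ ≤ A) (hE₃e : IsElementaryAbelian p E₃)
    (hE₃c : Nat.card E₃ = p ^ 3) {t : ℕ} [ht : Fact t.Prime] (htp : t ≠ p) {T H : Subgroup G}
    (hT : T ∈ maxInvSubgroups ⊤ A {t}) (hr : ¬ PRankLE t 2 ↥T) (hnn : ¬ IsNarrow t ↥T)
    (hU : ∀ B : Subgroup G, IsPGroup t B → IsMulCommutative B → ¬ PRankLE t 2 ↥B →
      InUniqueMaximal B)
    (hH : IsCoatom H) (hTH : T ≤ H) : Good A p t T H := by
  classical
  have htt := ht.out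
  have hTt : IsPGroup t T := BG7.isPGroup_of_mem_invSubgroups htt hT.1
  have hT1 : T ≠ ⊥ := BG8.ne_bot_of_not_pRankLE htt.pos hr
  have htG : t ∣ Nat.card G :=
    (BG8.dvd_card_of_isPGroup_ne_bot hTt hT1).trans (Subgroup.card_subgroup_dvd_card T)
  have ht2 : t ≠ 2 := BG9.odd_prime_of_dvd hG htG
  -- rank 3 subgroups
  have hB3 : ∀ B : Subgroup G, B ≤ T → IsElementaryAbelian t B → t ^ 3 ≤ Nat.card B →
      InUniqueMaximal B ∧ ∀ X : Subgroup G, X ≠ ⊤ → B ≤ X → X ≤ H := by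
    intro B hBT hBe hB3
    have hBU := hU B (BG9.isPGroup_of_isElementaryAbelian hBe) hBe.1
      (BG9.not_pRankLE_of_elementary htt le_rfl hBe (by simpa using hB3))
    refine ⟨hBU, ?_⟩
    intro X hX hBX
    obtain ⟨M, ⟨hM, hBM⟩, hMu⟩ := hBU
    have hHM : H = M := hMu H ⟨hH, hBT.trans hTH⟩
    have h1 := BG9.le_of_inUniqueMaximal (fun L hL => hMu L hL) hBX hX
    rw [hHM]; exact h1
  -- noncyclic subgroups
  have hnc : ∀ D : Subgroup G, D ≤ T → ¬ IsCyclic ↥D →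
      ∀ X : Subgroup G, X ≠ ⊤ → D ≤ X → X ≤ H := by
    intro D hDT hDnc X hX hDX
    obtain ⟨V, hVD, -, hVe, hV2⟩ := BG9.exists_normal_elementary_sq ht2 (hTt.to_le hDT) hDnc
    obtain ⟨B, hBT, hBC, hBe, hB3'⟩ :=
      nonnarrow_centralizer_rank ht2 T hTt hr hnn V (hVD.trans hDT) hVe
    obtain ⟨hBU, -⟩ := hB3 B hBT hBe hB3'
    have hVnc : ¬ IsCyclic ↥V :=
      BG9.not_isCyclic_of_elementary htt le_rfl hVe (by rw [hV2])
    have hVU : InUniqueMaximal V :=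
      BG9.bg93 hG (BG9.isPGroup_of_isElementaryAbelian hBe) hBe.1
        (BG9.not_pRankLE_of_elementary htt le_rfl hBe (by simpa using hB3')) hBU
        (BG9.isPGroup_of_isElementaryAbelian hVe) hVnc
        (BG9.not_pRankLE_of_elementary htt hBC hBe (by simpa using hB3'))
    obtain ⟨M, ⟨hM, hVM⟩, hMu⟩ := hVU
    have hHM : H = M := hMu H ⟨hH, (hVD.trans hDT).trans hTH⟩
    have h1 := BG9.le_of_inUniqueMaximal (fun L hL => hMu L hL) (hVD.trans hDX) hX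
    rw [hHM]; exact h1
  have hnorm : ∀ D : Subgroup G, D ≤ T → D ≠ ⊥ → Subgroup.normalizer (D : Set G) ≤ H := by
    intro D hDT hD1
    obtain ⟨D₁, hD₁D, hD₁1, hD₁e, hN⟩ := exists_omega_center D (hTt.to_le hDT) hD1
    obtain ⟨B, hBT, hBC, hBe, hB3'⟩ :=
      nonnarrow_centralizer_rank ht2 T hTt hr hnn D₁ (hD₁D.trans hDT) hD₁e
    have hD₁top : D₁ ≠ ⊤ := BG7.pgroup_ne_top hG (BG9.isPGroup_of_isElementaryAbelian hD₁e)
    have hNtop := BG7.normalizer_ne_top hG hD₁1 hD₁top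
    exact hN.trans ((hB3 B hBT hBe hB3').2 _ hNtop
      (hBC.trans (Subgroup.centralizer_le_normalizer _)))
  obtain ⟨E, hET', hEe, hE3⟩ := BG9.exists_elementary_of_not_pRankLE htt hr
  have hTnc : ¬ IsCyclic ↥T := by
    apply BG9.not_isCyclic_of_elementary htt hET' hEe
    refine le_trans ?_ hE3
    exact Nat.pow_le_pow_right htt.pos (by norm_num)
  have hET : E₃ ≤ Subgroup.normalizer (T : Set G) := hE₃A.trans hT.1.2.2
  have hcop : (Nat.card E₃).Coprime (Nat.card T) := by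
    rw [hE₃c]
    obtain ⟨k, hk⟩ := IsPGroup.iff_card.mp hTt
    rw [hk]
    exact Nat.Coprime.pow 3 k ((Nat.coprime_primes hp.out htt).mpr htp.symm)
  refine ⟨htt, htp, hT, hH, hTH, hT.1.2.2.trans (hnorm T le_rfl hT1), ?_, ?_, hnorm⟩
  · obtain ⟨a, haE, ha1, hanc⟩ :=
      exists_noncyclic_centralizer E₃ T hE₃e hE₃c hET hcop hTt hTnc
    have hCa := BG7.centralizer_singleton_ne_top hG ha1
    have h1 : Subgroup.centralizer ({a} : Set G) ≤ H := hnc _ inf_le_left hanc _ hCa inf_le_right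
    exact (BG7.KK_le_centralizer A).trans
      ((Subgroup.centralizer_le (Set.singleton_subset_iff.mpr (hE₃A haE))).trans h1)
  · intro L hL hTL
    have h1 : L ≤ H := hnc T le_rfl hTnc L hL.1 hTL
    exact (BG8.eq_of_coatom_le hL h1 hH.1).symm

theorem two_good (hG : IsMinSimpleOddOrder G) {p : ℕ} [hp : Fact p.Prime] {A E₃ : Subgroup G}
    (hAp : IsPGroup p A) (hAab : A ≤ Subgroup.centralizer (A : Set G))
    (hTH : TransitivityHypothesis A)
    (hZ : ¬ RankLE 2 ↥(A ⊓ Subgroup.centralizer (A : Set G)))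
    (hE₃A : E₃ ≤ A) (hE₃e : IsElementaryAbelian p E₃) (hE₃c : Nat.card E₃ = p ^ 3)
    {t s : ℕ} {T H S H' : Subgroup G} (g₁ : Good A p t T H) (g₂ : Good A p s S H') :
    H = H' := by
  classical
  have htA : ¬ t ∣ Nat.card A :=
    fun h => g₁.htp (BG8.prime_eq_of_dvd_card_isPGroup hAp g₁.ht h)
  have hsA : ¬ s ∣ Nat.card A :=
    fun h => g₂.htp (BG8.prime_eq_of_dvd_card_isPGroup hAp g₂.ht h)
  by_contra hne
  by_cases hts : t = s
  · subst hts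
    obtain ⟨k, hk, hkS⟩ := BG7.t73 hG hTH hZ g₁.ht htA g₁.hT g₂.hT
    have h1 : S ≤ H := by rw [hkS]; exact BG9.cj_le_of_mem (g₁.hKH hk) g₁.hTH
    exact hne (g₂.huniq H g₁.hH h1)
  · haveI : Fact t.Prime := ⟨g₁.ht⟩
    haveI : Fact s.Prime := ⟨g₂.ht⟩
    have hTH' : ¬ T ≤ H' := fun h => hne (g₁.huniq H' g₂.hH h).symm
    have hSH : ¬ S ≤ H := fun h => hne (g₂.huniq H g₁.hH h)
    have hTt : IsPGroup t T := BG7.isPGroup_of_mem_invSubgroups g₁.ht g₁.hT.1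
    have hSs : IsPGroup s S := BG7.isPGroup_of_mem_invSubgroups g₂.ht g₂.hT.1
    have hET : E₃ ≤ Subgroup.normalizer (T : Set G) := hE₃A.trans g₁.hT.1.2.2
    have hES : E₃ ≤ Subgroup.normalizer (S : Set G) := hE₃A.trans g₂.hT.1.2.2
    have hcopT : (Nat.card E₃).Coprime (Nat.card T) := by
      rw [hE₃c]
      obtain ⟨k, hk⟩ := IsPGroup.iff_card.mp hTt
      rw [hk]
      exact Nat.Coprime.pow 3 k ((Nat.coprime_primes hp.out g₁.ht).mpr g₁.htp.symm)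
    have hcopS : (Nat.card E₃).Coprime (Nat.card S) := by
      rw [hE₃c]
      obtain ⟨k, hk⟩ := IsPGroup.iff_card.mp hSs
      rw [hk]
      exact Nat.Coprime.pow 3 k ((Nat.coprime_primes hp.out g₂.ht).mpr g₂.htp.symm)
    obtain ⟨Dt, hDtE, hDtc, hDt⟩ : ∃ D : Subgroup G, D ≤ E₃ ∧ Nat.card D = p ^ 2 ∧
        ¬ T ⊓ Subgroup.centralizer (D : Set G) ≤ H' := by
      by_contra hno
      push Not at hno
      exact hTH' (gen2 E₃ T H' hE₃e hE₃c hET hcopT hno)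
    obtain ⟨Ds, hDsE, hDsc, hDs⟩ : ∃ D : Subgroup G, D ≤ E₃ ∧ Nat.card D = p ^ 2 ∧
        ¬ S ⊓ Subgroup.centralizer (D : Set G) ≤ H := by
      by_contra hno
      push Not at hno
      exact hSH (gen2 E₃ S H hE₃e hE₃c hES hcopS hno)
    obtain ⟨x, hx, hx1⟩ := exists_ne_one_mem_inf hE₃c hDtE hDsE hDtc hDsc
    have hxDt := (Subgroup.mem_inf.mp hx).1
    have hxDs := (Subgroup.mem_inf.mp hx).2
    have hxA : x ∈ A := hE₃A (hDtE hxDt)
    have hUt : ¬ T ⊓ Subgroup.centralizer ({x} : Set G) ≤ H' :=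
      fun h => hDt ((inf_centralizer_le_singleton T Dt hxDt).trans h)
    have hUs : ¬ S ⊓ Subgroup.centralizer ({x} : Set G) ≤ H :=
      fun h => hDs ((inf_centralizer_le_singleton S Ds hxDs).trans h)
    obtain ⟨hUtθ, hUtc⟩ := card_inf_centralizer hG hAab hTH hZ g₁.ht htA g₁.hT hxA hx1
    obtain ⟨hUsθ, hUsc⟩ := card_inf_centralizer hG hAab hTH hZ g₂.ht hsA g₂.hT hxA hx1
    obtain ⟨-, -, -, -, hθs⟩ := theta_facts hG hAab hxA hx1
    obtain ⟨θ, hθ⟩ : ∃ θ, θ = piCoreOf (primesNotDvd (Nat.card A))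
      (Subgroup.centralizer ({x} : Set G)) := ⟨_, rfl⟩
    rw [← hθ] at hUtθ hUtc hUsθ hUsc hθs
    haveI := hθs
    obtain ⟨Ut, hUtdef⟩ : ∃ Ut, Ut = T ⊓ Subgroup.centralizer ({x} : Set G) := ⟨_, rfl⟩
    obtain ⟨Us, hUsdef⟩ : ∃ Us, Us = S ⊓ Subgroup.centralizer ({x} : Set G) := ⟨_, rfl⟩
    rw [← hUtdef] at hUt hUtθ hUtc
    rw [← hUsdef] at hUs hUsθ hUsc
    have hUtT : Ut ≤ T := by rw [hUtdef]; exact inf_le_left
    have hUsS : Us ≤ S := by rw [hUsdef]; exact inf_le_left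
    have hU'c : Nat.card (Ut.subgroupOf θ) = t ^ (Nat.card ↥θ).factorization t := by
      rw [card_subgroupOf_of_le hUtθ]; exact hUtc
    have hV'c : Nat.card (Us.subgroupOf θ) = s ^ (Nat.card ↥θ).factorization s := by
      rw [card_subgroupOf_of_le hUsθ]; exact hUsc
    have hU'1 : Ut.subgroupOf θ ≠ ⊥ := by
      intro h
      have h1 : Nat.card Ut = 1 := by
        rw [← card_subgroupOf_of_le hUtθ, h, Subgroup.card_bot]
      have h2 := Subgroup.card_eq_one.mp h1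
      rw [h2] at hUt
      exact hUt bot_le
    obtain ⟨J, c, hUJ, hVJ, hcase⟩ := hall_pair hts _ _ hU'c hV'c hU'1
    have hmapcj : ∀ (r : ℕ) (W : Subgroup G) (d : ↥θ), IsPGroup r W →
        IsPGroup r ((BG7.cj d (W.subgroupOf θ)).map θ.subtype) := by
      intro r W d hW
      exact ((hW.comap_subtype (K := θ)).map _).map _
    rcases hcase with ⟨D, hD1, hDU, hJD⟩ | ⟨D, hD1, hDV, hJD⟩
    · have hDG1 : D.map θ.subtype ≠ ⊥ := by
        rw [Ne, Subgroup.map_eq_bot_iff_of_injective _ θ.subtype_injective]; exact hD1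
      have hDGT : D.map θ.subtype ≤ T := by
        rintro _ ⟨d, hd, rfl⟩
        exact hUtT (Subgroup.mem_subgroupOf.mp (hDU hd))
      have hN := g₁.hnorm _ hDGT hDG1
      have hJH : J.map θ.subtype ≤ H := by
        rintro _ ⟨j, hj, rfl⟩
        exact hN (BG9.coe_mem_normalizer_map (hJD hj))
      have hV'J : BG7.cj c⁻¹ (Us.subgroupOf θ) ≤ J := by
        have := BG7.cj_mono (k := c⁻¹) hVJ
        rwa [BG7.cj_inv_cj] at this
      apply hUs
      rw [hUsdef]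
      apply inf_centralizer_le_of_card hG hAab hTH hZ g₂.ht hsA g₂.hT hxA hx1 g₁.hAH g₁.hKH
        (V₀ := (BG7.cj c⁻¹ (Us.subgroupOf θ)).map θ.subtype)
      · exact (Subgroup.map_mono hV'J).trans hJH
      · rw [← hθ]; exact Subgroup.map_subtype_le _
      · exact hmapcj s Us c⁻¹ (hSs.to_le hUsS)
      · rw [Subgroup.card_map_of_injective θ.subtype_injective, BG7.card_cj,
          card_subgroupOf_of_le hUsθ, hUsdef]
    · have hDG1 : D.map θ.subtype ≠ ⊥ := by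
        rw [Ne, Subgroup.map_eq_bot_iff_of_injective _ θ.subtype_injective]; exact hD1
      have hDGS : D.map θ.subtype ≤ S := by
        rintro _ ⟨d, hd, rfl⟩
        exact hUsS (Subgroup.mem_subgroupOf.mp (hDV hd))
      have hN := g₂.hnorm _ hDGS hDG1
      have hJH : (BG7.cj c J).map θ.subtype ≤ H' := by
        rintro _ ⟨j, hj, rfl⟩
        exact hN (BG9.coe_mem_normalizer_map (hJD hj))
      apply hUt
      rw [hUtdef]
      apply inf_centralizer_le_of_card hG hAab hTH hZ g₁.ht htA g₁.hT hxA hx1 g₂.hAH g₂.hKH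
        (V₀ := (BG7.cj c (Ut.subgroupOf θ)).map θ.subtype)
      · exact (Subgroup.map_mono (BG7.cj_mono hUJ)).trans hJH
      · rw [← hθ]; exact Subgroup.map_subtype_le _
      · exact hmapcj t Ut c (hTt.to_le hUtT)
      · rw [Subgroup.card_map_of_injective θ.subtype_injective, BG7.card_cj,
          card_subgroupOf_of_le hUtθ, hUtdef]

/-- `P ≤ N_G(Q)'` for `Q` a maximal `P`-invariant `q`-subgroup. -/
theorem sylow_le_commutator_normalizer_maxInv (hG : IsMinSimpleOddOrder G) {p : ℕ}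
    [hp : Fact p.Prime] (P : Sylow p G) {A : Subgroup G} (hA : IsSCN (P : Subgroup G) A)
    (hA1 : A ≠ ⊥) (hTH : TransitivityHypothesis A)
    (hZ : ¬ RankLE 2 ↥(A ⊓ Subgroup.centralizer (A : Set G))) {q : ℕ} (hq : q.Prime)
    (hqp : q ≠ p) {Q : Subgroup G} (hQ : Q ∈ maxInvSubgroups ⊤ (P : Subgroup G) {q}) :
    (P : Subgroup G) ≤ ⁅Subgroup.normalizer (Q : Set G), Subgroup.normalizer (Q : Set G)⁆ := by
  classical
  obtain ⟨hAP, hPA, hCA⟩ := hA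
  haveI : Fact q.Prime := ⟨hq⟩
  have hAp : IsPGroup p A := P.2.to_le hAP
  have hpA : p ∣ Nat.card A := BG8.dvd_card_of_isPGroup_ne_bot hAp hA1
  have hqA : ¬ q ∣ Nat.card A := fun h => hqp (BG8.prime_eq_of_dvd_card_isPGroup hAp hq h)
  have hAab : A ≤ Subgroup.centralizer (A : Set G) := by
    rw [← hCA]; exact inf_le_right.trans (Subgroup.centralizer_le (by rw [hCA]))
  have hP1 : (P : Subgroup G) ≠ ⊥ := fun h => hA1 (le_bot_iff.mp (h ▸ hAP))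
  have hPtop : (P : Subgroup G) ≠ ⊤ := BG7.pgroup_ne_top hG P.2
  obtain ⟨hPN₀', hN₀top, hPN₀⟩ := sylow_le_commutator_normalizer_ZJ hG p P hP1
  obtain ⟨N₀, hN₀⟩ : ∃ N₀, N₀ =
    Subgroup.normalizer (Cfsg.centerThompsonAOf (P : Subgroup G) : Set G) := ⟨_, rfl⟩
  rw [← hN₀] at hPN₀' hN₀top hPN₀
  haveI hN₀s : Group.IsSolvable ↥N₀ := BG7.isSolvable_of_ne_top hG hN₀top
  have hN₀odd : Odd (Nat.card ↥N₀) := BG8.odd_card_subgroup hG N₀
  have hmax0 : BG8.IsMaxP p (P : Subgroup G) ⊤ :=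
    ⟨le_top, P.2, fun T hT hPT _ => P.is_maximal' hT hPT⟩
  have hmax : BG8.IsMaxP p (P : Subgroup G) N₀ := hmax0.mono hPN₀ le_top
  have hAO : A ≤ BG9.OppOf p N₀ := BG9.le_OppOf_of_abelian_normal hN₀odd hmax hAP hAab hPA
  obtain ⟨R₁, hR₁⟩ := hmax.exists_sylow
  obtain ⟨P₁, hP₁⟩ : ∃ P₁ : Subgroup G,
    P₁ = ((R₁ : Subgroup ↥N₀) ⊓ pPrimePCore p ↥N₀).map N₀.subtype := ⟨_, rfl⟩
  have hP₁eq : (P : Subgroup G) ⊓ BG9.OppOf p N₀ = P₁ := by
    rw [hP₁, Subgroup.map_inf _ _ _ N₀.subtype_injective, hR₁]; rfl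
  have hAP₁ : A ≤ P₁ := by rw [← hP₁eq]; exact le_inf hAP hAO
  have hP₁P : P₁ ≤ P := by rw [← hP₁eq]; exact inf_le_left
  have hR₁norm : (R₁ : Subgroup ↥N₀) ≤ Subgroup.normalizer
      (((R₁ : Subgroup ↥N₀) ⊓ pPrimePCore p ↥N₀ : Subgroup ↥N₀) : Set ↥N₀) := by
    apply le_normalizer_inf Subgroup.le_normalizer
    apply le_normalizer_of_conj_mem
    intro g _ x hx
    exact (inferInstance : (pPrimePCore p ↥N₀).Normal).conj_mem x hx g
  have hPsub : ∀ z ∈ (P : Subgroup G), ∃ hz : z ∈ N₀, (⟨z, hz⟩ : ↥N₀) ∈ (R₁ : Subgroup ↥N₀) := by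
    intro z hz
    rw [← hR₁] at hz
    obtain ⟨w, hw, rfl⟩ := hz
    exact ⟨w.2, hw⟩
  have hPNP₁ : (P : Subgroup G) ≤ Subgroup.normalizer (P₁ : Set G) := by
    intro z hz
    obtain ⟨hzN, hzR⟩ := hPsub z hz
    rw [hP₁]
    exact BG9.coe_mem_normalizer_map (n := ⟨z, hzN⟩) (hR₁norm hzR)
  have hzp : ∀ z ∈ (P : Subgroup G), ∃ k : ℕ, z ^ p ^ k = 1 := by
    intro z hz
    obtain ⟨k, hk⟩ := P.2 ⟨z, hz⟩
    refine ⟨k, ?_⟩
    have := congrArg Subtype.val hk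
    simpa using this
  -- first factorization
  have hfr := Helper7.normalizer_sylow_inf_sup_pPrimeCore R₁
  obtain ⟨R, hR⟩ : ∃ R : Subgroup G, R = piCoreOf (BG8.ne p) N₀ := ⟨_, rfl⟩
  have hR' : R = (pPrimeCore p ↥N₀).map N₀.subtype := by rw [hR, BG9.piCoreOf_ne_eq_map]
  obtain ⟨Y, hY⟩ : ∃ Y : Subgroup G, Y = (Subgroup.normalizer
    (((R₁ : Subgroup ↥N₀) ⊓ pPrimePCore p ↥N₀ : Subgroup ↥N₀) : Set ↥N₀)).map N₀.subtype :=
    ⟨_, rfl⟩
  have hRY : R ⊔ Y = N₀ := by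
    rw [hR', hY, ← Subgroup.map_sup, sup_comm, hfr, ← MonoidHom.range_eq_map,
      Subgroup.range_subtype]
  have hYN₀ : Y ≤ N₀ := by rw [hY]; exact Subgroup.map_subtype_le _
  have hYR : Y ≤ Subgroup.normalizer (R : Set G) := by
    rw [hR]; exact hYN₀.trans (BG7.le_normalizer_piCoreOf _ _)
  have hRp : (Nat.card R).Coprime p := by rw [hR]; exact BG8.piCoreOf_ne_coprime p N₀
  have hYNP₁ : Y ≤ Subgroup.normalizer (P₁ : Set G) := by
    rw [hY]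
    rintro _ ⟨n, hn, rfl⟩
    rw [hP₁]; exact BG9.coe_mem_normalizer_map hn
  have step1 : (P : Subgroup G) ≤
      ⁅Subgroup.normalizer (P₁ : Set G), Subgroup.normalizer (P₁ : Set G)⁆ := by
    intro z hz
    have hzN₀' : z ∈ ⁅R ⊔ Y, R ⊔ Y⁆ := by rw [hRY]; exact hPN₀' hz
    have hzY : z ∈ Y := by
      obtain ⟨hzN, hzR⟩ := hPsub z hz
      rw [hY]
      exact ⟨⟨z, hzN⟩, hR₁norm hzR, rfl⟩
    have h1 := mem_commutator_of_sup_coprime R Y hYR hRp hzN₀' hzY (hzp z hz)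
    exact Subgroup.commutator_mono hYNP₁ hYNP₁ h1
  -- transitivity for `P₁`
  have hP₁p : IsPGroup p P₁ := P.2.to_le hP₁P
  have hP₁top : P₁ ≠ ⊤ := BG7.pgroup_ne_top hG hP₁p
  have hP₁π : ∀ r : ℕ, r.Prime → r ∣ Nat.card P₁ → r ∣ Nat.card A := by
    intro r hr h
    rw [BG8.prime_eq_of_dvd_card_isPGroup hP₁p hr h]; exact hpA
  have hPπ : ∀ r : ℕ, r.Prime → r ∣ Nat.card (P : Subgroup G) → r ∣ Nat.card A := by
    intro r hr h
    rw [BG8.prime_eq_of_dvd_card_isPGroup P.2 hr h]; exact hpA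
  have hsn₁ : (A.subgroupOf P₁).IsSubnormal :=
    Subgroup.Normal.isSubnormal
      ((Subgroup.normal_subgroupOf_iff_le_normalizer hAP₁).mpr (hP₁P.trans hPA))
  have hsn : (A.subgroupOf (P : Subgroup G)).IsSubnormal :=
    Subgroup.Normal.isSubnormal ((Subgroup.normal_subgroupOf_iff_le_normalizer hAP).mpr hPA)
  have htrA : ∀ Q₁ ∈ maxInvSubgroups ⊤ A {q}, ∀ Q₂ ∈ maxInvSubgroups ⊤ A {q},
      ∃ k ∈ BG7.KK A, Q₂ = BG7.cj k Q₁ :=
    fun Q₁ h₁ Q₂ h₂ => BG7.t73 hG hTH hZ hq hqA h₁ h₂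
  have h75P₁ := BG7.t75_core hG hP₁top (Nat.card P₁ - Nat.card A) A hTH hqA hP₁π hAP₁ hsn₁
    htrA rfl
  have h75P := BG7.t75_core hG hPtop (Nat.card (P : Subgroup G) - Nat.card A) A hTH hqA hPπ
    hAP hsn htrA rfl
  have hQA : Q ∈ maxInvSubgroups ⊤ A {q} := h75P.1 Q hQ
  have hQP₁ : Q ∈ maxInvSubgroups ⊤ P₁ {q} :=
    ⟨⟨le_top, hQ.1.2.1, hP₁P.trans hQ.1.2.2⟩,
      fun R' hR' hQR => hQA.2 R' ⟨le_top, hR'.2.1, hAP₁.trans hR'.2.2⟩ hQR⟩
  have hfrP₁ := BG7.frattini_part (primesNotDvd (Nat.card A)) h75P₁.2 hQP₁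
  obtain ⟨R₂, hR₂⟩ : ∃ R₂ : Subgroup G, R₂ = piCoreOf (primesNotDvd (Nat.card A))
    (Subgroup.centralizer (P₁ : Set G)) := ⟨_, rfl⟩
  obtain ⟨Y₂, hY₂⟩ : ∃ Y₂ : Subgroup G, Y₂ = Subgroup.normalizer (P₁ : Set G) ⊓
    Subgroup.normalizer (Q : Set G) := ⟨_, rfl⟩
  rw [← hR₂, ← hY₂] at hfrP₁
  have hY₂R₂ : Y₂ ≤ Subgroup.normalizer (R₂ : Set G) := by
    rw [hY₂, hR₂]
    exact inf_le_left.trans (BG7.normalizer_le_normalizer_piCoreOf_centralizer _ P₁)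
  have hR₂p : (Nat.card R₂).Coprime p := by
    apply Nat.Coprime.symm
    rw [Nat.Prime.coprime_iff_not_dvd hp.out]
    intro h
    rw [hR₂] at h
    exact (BG7.piCoreOf_pi _ _ p hp.out h).2 hpA
  intro z hz
  have h1 : z ∈ ⁅R₂ ⊔ Y₂, R₂ ⊔ Y₂⁆ := by rw [← hfrP₁]; exact step1 hz
  have hzY₂ : z ∈ Y₂ := by
    rw [hY₂]; exact Subgroup.mem_inf.mpr ⟨hPNP₁ hz, hQ.1.2.2 hz⟩
  have h2 := mem_commutator_of_sup_coprime R₂ Y₂ hY₂R₂ hR₂p h1 hzY₂ (hzp z hz)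
  have hY₂Q : Y₂ ≤ Subgroup.normalizer (Q : Set G) := by rw [hY₂]; exact inf_le_right
  exact Subgroup.commutator_mono hY₂Q hY₂Q h2

end Cfsg.Agent.Lib.Helper1.MS
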