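import Mathlib
import Cfsg.Agent.Lib.Helper1.RT7
import Cfsg.Agent.Lib.Helper1.TF6
import Cfsg.Agent.Lib.Helper7.PConstrained
import Cfsg.Agent.Lib.Helper2.Cores

set_option autoImplicit false
universe u v
open scoped commutatorElement

namespace Cfsg.Agent.Lib.Helper1.RT

open Cfsg Cfsg.Agent.Lib.Helper1 Subgroup

section

variable {G : Type u} [Group G] [Finite G]

omit [Finite G] in
theorem normal_of_commutator_le {M : Subgroup G} (h : commutator G ≤ M) : M.Normal := by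
  constructor
  intro s hs g
  have h1 : g * s * g⁻¹ = ⁅g, s⁆ * s := by rw [commutatorElement_def]; group
  rw [h1]
  apply Subgroup.mul_mem _ _ hs
  apply h
  rw [_root_.commutator_def]
  exact Subgroup.commutator_mem_commutator (mem_top _) (mem_top _)

/-- BG 4.20(b). -/
theorem char_sub_derived_sylow_normal [Group.IsSolvable G] (hodd : Odd (Nat.card G))
    (hrk : ∀ (r : ℕ) [Fact r.Prime], Cfsg.PRankLE r 2 ↥(Cfsg.pCore r G))
    (q : ℕ) [hq : Fact q.Prime] (S : Sylow q G) (T : Subgroup ↥(S : Subgroup G))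
    (hTc : T.Characteristic)
    (hT : T.map (S : Subgroup G).subtype ≤ ⁅(S : Subgroup G), (S : Subgroup G)⁆) :
    (T.map (S : Subgroup G).subtype).Normal := by
  classical
  obtain ⟨T', hT'⟩ : ∃ T' : Subgroup G, T' = T.map (S : Subgroup G).subtype := ⟨_, rfl⟩
  rw [← hT'] at hT ⊢
  obtain ⟨Q, hQ⟩ : ∃ Q : Subgroup G, Q = Cfsg.pCore q G := ⟨_, rfl⟩
  have hQS : Q ≤ (S : Subgroup G) := by
    rw [hQ, pCore_eq_iInf_sylow]
    exact iInf_le _ S
  have hT'S : T' ≤ (S : Subgroup G) := by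
    rw [hT']; exact Subgroup.map_subtype_le _
  have hT'Q : T' ≤ Q := by
    intro t ht
    rw [hQ]
    apply pElement_commutator_mem_pCore hodd hrk q t
    · have h1 := hT ht
      rw [_root_.commutator_def]
      exact Subgroup.commutator_mono le_top le_top h1
    · obtain ⟨k, hk⟩ := S.2 ⟨t, hT'S ht⟩
      refine ⟨k, ?_⟩
      have := congrArg Subtype.val hk
      rwa [Subgroup.coe_pow] at this
  -- the set of elements normalizing T'
  have hmul : ∀ g₁ g₂ : G, (∀ t ∈ T', g₁ * t * g₁⁻¹ ∈ T') → (∀ t ∈ T', g₂ * t * g₂⁻¹ ∈ T') →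
      ∀ t ∈ T', (g₁ * g₂) * t * (g₁ * g₂)⁻¹ ∈ T' := by
    intro g₁ g₂ h1 h2 t ht
    have : (g₁ * g₂) * t * (g₁ * g₂)⁻¹ = g₁ * (g₂ * t * g₂⁻¹) * g₁⁻¹ := by group
    rw [this]
    exact h1 _ (h2 t ht)
  have hNS : ∀ n ∈ Subgroup.normalizer ((S : Subgroup G) : Set G), ∀ t ∈ T', n * t * n⁻¹ ∈ T' := by
    intro n hn t ht
    rw [hT'] at ht ⊢
    obtain ⟨t₀, ht₀, rfl⟩ := ht
    have h1 := TF.map_mem_of_characteristic T
      (TF.zeta (S : Subgroup G) (Subgroup.normalizer ((S : Subgroup G) : Set G)) le_rfl ⟨n, hn⟩) ht₀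
    refine ⟨_, h1, ?_⟩
    rw [Subgroup.coe_subtype, TF.zeta_apply]
  have hCQ : ∀ z ∈ Subgroup.centralizer (Q : Set G), ∀ t ∈ T', z * t * z⁻¹ ∈ T' := by
    intro z hz t ht
    have := Subgroup.mem_centralizer_iff.mp hz t (hT'Q ht)
    rw [← this, mul_inv_cancel_right]
    exact ht
  have hSn : ∀ s ∈ (S : Subgroup G), ∀ t ∈ T', s * t * s⁻¹ ∈ T' :=
    fun s hs => hNS s (Subgroup.le_normalizer hs)
  have hact := (act_lemma hodd (Cfsg.pCore q G) (pCore_isPGroup q) (hrk q)).1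
  have hcomm : ∀ c ∈ commutator G, ∀ t ∈ T', c * t * c⁻¹ ∈ T' := by
    intro c hc
    obtain ⟨x, hx, y, hy, hcxy, hxcop, hyq⟩ := Helper7.exists_pPart_decomp q c
    rw [hcxy]
    have hzc : Subgroup.zpowers c ≤ commutator G := by
      rw [Subgroup.zpowers_le]; exact hc
    apply hmul
    · apply hCQ
      obtain ⟨k, hk⟩ := hact x (hzc hx)
      rw [hQ]
      exact Helper3.mem_of_pow_mem_of_coprime _ x _ (Nat.Coprime.pow_left k hxcop.symm) hk
    · apply hSn
      apply hQS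
      rw [hQ]
      exact pElement_commutator_mem_pCore hodd hrk q y (hzc hy) hyq
  -- Frattini argument
  obtain ⟨M, hM⟩ : ∃ M : Subgroup G, M = (S : Subgroup G) ⊔ commutator G := ⟨_, rfl⟩
  have hMn : M.Normal := normal_of_commutator_le (by rw [hM]; exact le_sup_right)
  have hSM : (S : Subgroup G) ≤ M := by rw [hM]; exact le_sup_left
  have hfr : Subgroup.normalizer ((S : Subgroup G) : Set G) ⊔ M = ⊤ :=
    Sylow.normalizer_sup_eq_top' S hSM
  constructor
  intro t ht g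
  have hg : g ∈ Subgroup.normalizer ((S : Subgroup G) : Set G) ⊔ M := by rw [hfr]; exact mem_top _
  obtain ⟨n, hn, m, hm, rfl⟩ := Subgroup.mem_sup_of_normal_right.mp hg
  rw [hM] at hm
  obtain ⟨s, hs, c, hc, rfl⟩ := Subgroup.mem_sup_of_normal_right.mp hm
  exact hmul _ _ (hNS n hn) (hmul _ _ (hSn s hs) (hcomm c hc)) t ht

end

end Cfsg.Agent.Lib.Helper1.RT
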