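import Mathlib
import Cfsg.Agent.Lib.Helper1.RT8

set_option autoImplicit false
universe u v
open scoped commutatorElement

namespace Cfsg.Agent.Lib.Helper1.RT

open Cfsg Cfsg.Agent.Lib.Helper1 Subgroup

section

variable {G : Type u} [Group G] [Finite G]

omit [Finite G] in
theorem mem_of_pElement_of_not_dvd_index {q : ℕ} (hq : q.Prime) (C : Subgroup G) [C.Normal]
    (hC : ¬ q ∣ C.index) (s : G) (hs : ∃ k : ℕ, s ^ (q ^ k) = 1) : s ∈ C := by
  obtain ⟨k, hk⟩ := hs
  rw [← QuotientGroup.eq_one_iff, ← orderOf_eq_one_iff]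
  have h1 : orderOf (s : G ⧸ C) ∣ q ^ k := orderOf_dvd_of_pow_eq_one (by
    rw [← QuotientGroup.mk_pow, hk]; rfl)
  obtain ⟨j, -, hj⟩ := (Nat.dvd_prime_pow hq).mp h1
  rcases Nat.eq_zero_or_pos j with h0 | h0
  · rw [hj, h0, pow_zero]
  · exfalso
    apply hC
    have h2 : q ∣ orderOf (s : G ⧸ C) := by rw [hj]; exact dvd_pow_self q h0.ne'
    exact h2.trans (orderOf_dvd_natCard _)

/-- BG 4.20(c). -/
theorem exists_char_hall [Group.IsSolvable G] (hodd : Odd (Nat.card G))
    (hrk : ∀ (r : ℕ) [Fact r.Prime], Cfsg.PRankLE r 2 ↥(Cfsg.pCore r G)) (p : ℕ) :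
    ∃ N : Subgroup G, N.Characteristic ∧ Cfsg.IsPiHall {q | q.Prime ∧ p < q} N := by
  classical
  obtain ⟨N, hN⟩ : ∃ N : Subgroup G, N = Cfsg.piCore {q | q.Prime ∧ p < q} G := ⟨_, rfl⟩
  have hNn : N.Normal := by rw [hN]; infer_instance
  have hNpi : ∀ q : ℕ, q.Prime → q ∣ Nat.card N → q ∈ {q : ℕ | q.Prime ∧ p < q} := by
    rw [hN]; exact Helper2.piCore_pi _
  obtain ⟨Y, hY⟩ : ∃ Y : Subgroup G, Y = ⨆ r : {r : Nat.Primes // (r : ℕ) ≤ p},
      Cfsg.pCore ((r : Nat.Primes) : ℕ) G := ⟨_, rfl⟩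
  have hYn : Y.Normal := by rw [hY]; infer_instance
  have hYpi : ∀ q : ℕ, q.Prime → q ∣ Nat.card Y → q ≤ p := by
    have h1 : Y ≤ Cfsg.piCore {q | q ≤ p} G := by
      rw [hY]
      apply iSup_le
      rintro ⟨r, hr⟩
      have : Fact (r : ℕ).Prime := ⟨r.2⟩
      apply Helper2.le_piCore
      intro q hq hqd
      obtain ⟨k, hk⟩ := IsPGroup.iff_card.mp (pCore_isPGroup (G := G) (r : ℕ))
      rw [hk] at hqd
      have := (Nat.prime_dvd_prime_iff_eq hq r.2).mp (hq.dvd_of_dvd_pow hqd)
      show q ≤ p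
      rw [this]; exact hr
    intro q hq hqd
    exact Helper2.piCore_pi {q | q ≤ p} q hq (hqd.trans (Subgroup.card_dvd_of_le h1))
  have hFle : Cfsg.fittingSubgroup G ≤ N ⊔ Y := by
    rw [fittingSubgroup_eq_iSup_pCore]
    apply iSup_le
    intro r
    have : Fact (r : ℕ).Prime := ⟨r.2⟩
    by_cases hr : (r : ℕ) ≤ p
    · refine le_trans ?_ le_sup_right
      rw [hY]
      exact le_iSup (fun r : {r : Nat.Primes // (r : ℕ) ≤ p} =>
        Cfsg.pCore ((r : Nat.Primes) : ℕ) G) ⟨r, hr⟩
    · refine le_trans ?_ le_sup_left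
      rw [hN]
      apply Helper2.le_piCore
      intro q hq hqd
      obtain ⟨k, hk⟩ := IsPGroup.iff_card.mp (pCore_isPGroup (G := G) (r : ℕ))
      rw [hk] at hqd
      have := (Nat.prime_dvd_prime_iff_eq hq r.2).mp (hq.dvd_of_dvd_pow hqd)
      rw [this]
      exact ⟨r.2, not_le.mp hr⟩
  have hGF := commutator_le_fitting hodd hrk
  have hNYdisj : Disjoint N Y := by
    apply Subgroup.disjoint_of_coprime_natCard
    apply Nat.coprime_of_dvd
    intro k hk hkN hkY
    have h1 := (hNpi k hk hkN).2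
    have h2 := hYpi k hk hkY
    omega
  have hNY : N ≤ Subgroup.centralizer (Y : Set G) := by
    intro n hn
    rw [Subgroup.mem_centralizer_iff]
    intro y hy
    exact ((Subgroup.commute_of_normal_of_disjoint N Y hNn hYn hNYdisj n y hn hy).eq).symm
  have key : ∀ (q : ℕ) [Fact q.Prime], p < q → ∀ S : Sylow q G, (S : Subgroup G) ≤ N := by
    intro q hq hpq S
    obtain ⟨E, hE⟩ : ∃ E : Subgroup G, E = (S : Subgroup G) ⊔ N := ⟨_, rfl⟩
    have hEpi : ∀ q' : ℕ, q'.Prime → q' ∣ Nat.card E → q' ∈ {q : ℕ | q.Prime ∧ p < q} := by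
      intro q' hq' hd
      have h1 : q' ∣ Nat.card (S : Subgroup G) * Nat.card N := by
        rw [hE] at hd
        exact hd.trans (Helper2.card_sup_dvd _ _)
      rcases (Nat.Prime.dvd_mul hq').mp h1 with h2 | h2
      · obtain ⟨k, hk⟩ := IsPGroup.iff_card.mp S.2
        rw [hk] at h2
        have := (Nat.prime_dvd_prime_iff_eq hq' hq.out).mp (hq'.dvd_of_dvd_pow h2)
        rw [this]
        exact ⟨hq.out, hpq⟩
      · exact hNpi q' hq' h2
    have hSY : (S : Subgroup G) ≤ Subgroup.centralizer (Y : Set G) := by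
      rw [Subgroup.le_centralizer_iff, hY]
      apply iSup_le
      rintro ⟨r, hr⟩
      have : Fact (r : ℕ).Prime := ⟨r.2⟩
      rw [Subgroup.le_centralizer_iff]
      intro s hs
      have hact := (act_lemma hodd (Cfsg.pCore (r : ℕ) G) (pCore_isPGroup (r : ℕ))
        (hrk (r : ℕ))).2
      apply mem_of_pElement_of_not_dvd_index hq.out
      · intro hd
        have := hact q hq.out hd
        omega
      · obtain ⟨k, hk⟩ := S.2 ⟨s, hs⟩
        refine ⟨k, ?_⟩
        have := congrArg Subtype.val hk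
        rwa [Subgroup.coe_pow] at this
    have hEY : E ≤ Subgroup.centralizer (Y : Set G) := by
      rw [hE]; exact sup_le hSY hNY
    have hEYn : (E ⊔ Y).Normal := by
      apply normal_of_commutator_le
      refine hGF.trans (hFle.trans ?_)
      apply sup_le_sup_right
      rw [hE]; exact le_sup_right
    have hEcop : Nat.Coprime (Nat.card E) (Nat.card Y) := by
      apply Nat.coprime_of_dvd
      intro k hk hkE hkY
      have h1 := (hEpi k hk hkE).2
      have h2 := hYpi k hk hkY
      omega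
    have hEn : E.Normal := by
      constructor
      intro e he g
      have h1 : g * e * g⁻¹ ∈ E ⊔ Y := hEYn.conj_mem e (Subgroup.mem_sup_left he) g
      obtain ⟨e', he', y, hy, heq⟩ := Subgroup.mem_sup_of_normal_right.mp h1
      have hcomm : Commute e' y := by
        have := Subgroup.mem_centralizer_iff.mp (hEY he') y hy
        exact this.symm
      have h2 : (g * e * g⁻¹) ^ Nat.card E = 1 := by
        rw [conj_pow]
        have : e ^ Nat.card E = 1 := by
          have := pow_card_eq_one' (G := E) (x := ⟨e, he⟩)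
          have := congrArg Subtype.val this
          rwa [Subgroup.coe_pow] at this
        rw [this, mul_one, mul_inv_cancel]
      have h3 : y ^ Nat.card E = 1 := by
        rw [← heq, hcomm.mul_pow] at h2
        have : e' ^ Nat.card E = 1 := by
          have := pow_card_eq_one' (G := E) (x := ⟨e', he'⟩)
          have := congrArg Subtype.val this
          rwa [Subgroup.coe_pow] at this
        rwa [this, one_mul] at h2
      have h4 : orderOf y ∣ Nat.card E := orderOf_dvd_of_pow_eq_one h3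
      have h5 : orderOf y ∣ Nat.card Y := by
        have := orderOf_dvd_natCard (⟨y, hy⟩ : Y)
        rwa [← Subgroup.orderOf_coe] at this
      have h6 : orderOf y = 1 := Nat.eq_one_of_dvd_coprimes hEcop h4 h5
      rw [orderOf_eq_one_iff] at h6
      rw [← heq, h6, mul_one]
      exact he'
    have hEN : E ≤ N := by
      rw [hN]
      exact Helper2.le_piCore hEpi
    exact le_trans (by rw [hE]; exact le_sup_left) hEN
  refine ⟨N, ?_, hNpi, ?_⟩
  · rw [hN]; exact Helper2.piCore_characteristic _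
  · intro q hq hqπ hd
    have : Fact q.Prime := ⟨hq⟩
    obtain ⟨S⟩ : Nonempty (Sylow q G) := inferInstance
    have h1 := key q hqπ.2 S
    exact S.not_dvd_index (hd.trans (Subgroup.index_dvd_of_le h1))

/-- BG 4.20. -/
theorem s1451 [Group.IsSolvable G] (hodd : Odd (Nat.card G))
    (hr : Cfsg.RankLE 2 G ∨ Cfsg.RankLE 2 (Cfsg.fittingSubgroup G)) :
    Group.IsNilpotent ↥(commutator G) ∧
      (∀ (q : ℕ) [Fact q.Prime] (S : Sylow q G) (T : Subgroup ↥(S : Subgroup G)),
        T.Characteristic →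
        T.map (S : Subgroup G).subtype ≤ ⁅(S : Subgroup G), (S : Subgroup G)⁆ →
        (T.map (S : Subgroup G).subtype).Normal) ∧
      ∀ p : ℕ, ∃ N : Subgroup G, N.Characteristic ∧ Cfsg.IsPiHall {q | q.Prime ∧ p < q} N := by
  have hrk : ∀ (r : ℕ) [Fact r.Prime], Cfsg.PRankLE r 2 ↥(Cfsg.pCore r G) :=
    fun r _ => rank_pCore_of_hyp hr r
  refine ⟨?_, ?_, ?_⟩
  · exact isNilpotent_of_le (commutator_le_fitting hodd hrk) fittingSubgroup_isNilpotent
  · intro q _ S T hTc hT
    exact char_sub_derived_sylow_normal hodd hrk q S T hTc hT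
  · exact exists_char_hall hodd hrk

end

end Cfsg.Agent.Lib.Helper1.RT
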