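import Mathlib
import Cfsg.Agent.Lib.Helper1.MS4
import Cfsg.Agent.Lib.Helper1.RT9

set_option autoImplicit false
set_option maxHeartbeats 4000000
set_option linter.unusedVariables false
set_option linter.unusedSectionVars false
set_option linter.style.longLine false
set_option linter.unusedSimpArgs false
set_option linter.style.haveILetI false

/-!
# B&G Lemma 9.5 (S1402): the main argument
-/

open scoped commutatorElement Pointwise
universe u
namespace Cfsg.Agent.Lib.Helper1.MS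

open Cfsg

variable {G : Type u} [Group G] [Finite G]

theorem good_or_unique (hG : IsMinSimpleOddOrder G) {p : ℕ} [hp : Fact p.Prime] (P : Sylow p G)
    {A E₃ : Subgroup G} (hA : IsSCN (P : Subgroup G) A) (hA3 : ¬ PRankLE p 2 ↥A)
    (hTH : TransitivityHypothesis A)
    (hZ : ¬ RankLE 2 ↥(A ⊓ Subgroup.centralizer (A : Set G)))
    (hE₃A : E₃ ≤ A) (hE₃e : IsElementaryAbelian p E₃) (hE₃c : Nat.card E₃ = p ^ 3)
    {q : ℕ} (hq : q.Prime) (hqp : q ≠ p) {Q : Subgroup G}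
    (hQ : Q ∈ maxInvSubgroups ⊤ (P : Subgroup G) {q}) (hQ1 : Q ≠ ⊥) :
    InUniqueMaximal A ∨ ∃ (t : ℕ) (T H : Subgroup G), Good A p t T H ∧ Q ≤ H := by
  classical
  have hA' := hA
  obtain ⟨hAP, hPA, hCA⟩ := hA
  haveI : Fact q.Prime := ⟨hq⟩
  have hpp := hp.out
  have hAp : IsPGroup p A := P.2.to_le hAP
  have hA1 : A ≠ ⊥ := BG8.ne_bot_of_not_pRankLE hpp.pos hA3
  have hpA : p ∣ Nat.card A := BG8.dvd_card_of_isPGroup_ne_bot hAp hA1
  have hAab : A ≤ Subgroup.centralizer (A : Set G) := by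
    rw [← hCA]; exact inf_le_right.trans (Subgroup.centralizer_le (by rw [hCA]))
  have hAc : IsMulCommutative ↥A := by
    refine ⟨⟨fun a b => ?_⟩⟩
    apply Subtype.ext
    exact ((Subgroup.mem_centralizer_iff.mp (hAab a.2)) b.1 b.2).symm
  have hPtop : (P : Subgroup G) ≠ ⊤ := BG7.pgroup_ne_top hG P.2
  have hQq : IsPGroup q Q := BG7.isPGroup_of_mem_invSubgroups hq hQ.1
  have hQtop : Q ≠ ⊤ := BG7.pgroup_ne_top hG hQq
  have hNQtop := BG7.normalizer_ne_top hG hQ1 hQtop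
  obtain ⟨H₁, hH₁, hNH₁⟩ : ∃ H₁ : Subgroup G, IsCoatom H₁ ∧
      Subgroup.normalizer (Q : Set G) ≤ H₁ :=
    (eq_top_or_exists_le_coatom _).resolve_left hNQtop
  have hPN' := sylow_le_commutator_normalizer_maxInv hG P hA' hA1 hTH hZ hq hqp hQ
  have hPH₁' : (P : Subgroup G) ≤ ⁅H₁, H₁⁆ :=
    hPN'.trans (Subgroup.commutator_mono hNH₁ hNH₁)
  haveI hH₁s : Group.IsSolvable ↥H₁ := BG7.isSolvable_of_ne_top hG hH₁.1
  have hH₁odd : Odd (Nat.card ↥H₁) := BG8.odd_card_subgroup hG H₁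
  have hPH₁ : (P : Subgroup G) ≤ H₁ := hQ.1.2.2.trans hNH₁
  have hF2 : ¬ RankLE 2 ↥(fittingSubgroup ↥H₁) := by
    intro hF2
    have h1 : commutator ↥H₁ ≤ fittingSubgroup ↥H₁ :=
      RT.commutator_le_fitting hH₁odd (fun r _ => RT.rank_pCore_of_hyp (Or.inr hF2) r)
    have hPF : (P : Subgroup G) ≤ fittingOf H₁ := by
      intro z hz
      have h2 := hPH₁' hz
      rw [← Subgroup.map_subtype_commutator] at h2
      obtain ⟨w, hw, rfl⟩ := h2
      exact ⟨w, h1 hw, rfl⟩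
    have hE₃F : E₃ ≤ (fittingSubgroup ↥H₁).map H₁.subtype := (hE₃A.trans hAP).trans hPF
    have hF2' : ¬ PRankLE p 2 ↥E₃ :=
      BG9.not_pRankLE_of_elementary hpp le_rfl hE₃e (by rw [hE₃c])
    apply hF2'
    exact BG9.pRankLE_of_injective
      ((Subgroup.equivMapOfInjective (fittingSubgroup ↥H₁) H₁.subtype
        H₁.subtype_injective).symm.toMonoidHom.comp (Subgroup.inclusion hE₃F))
      ((Subgroup.equivMapOfInjective (fittingSubgroup ↥H₁) H₁.subtype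
        H₁.subtype_injective).symm.injective.comp (Subgroup.inclusion_injective hE₃F))
      (hF2 p hpp)
  obtain ⟨t, ht, W, hWF, hWe, hW3⟩ := BG7.exists_elementary_of_not_rankLE hF2
  haveI : Fact t.Prime := ⟨ht⟩
  obtain ⟨WG, hWG⟩ : ∃ WG : Subgroup G, WG = W.map H₁.subtype := ⟨_, rfl⟩
  have hWGF : WG ≤ fittingOf H₁ := by rw [hWG]; exact Subgroup.map_mono hWF
  have hWGe : IsElementaryAbelian t WG := by rw [hWG]; exact isElementaryAbelian_map hWe _
  have hWG3 : t ^ (2 + 1) ≤ Nat.card WG := by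
    rw [hWG, Subgroup.card_map_of_injective H₁.subtype_injective]; exact hW3
  have hWGp : IsPGroup t WG := BG9.isPGroup_of_isElementaryAbelian hWGe
  have hFt : ¬ PRankLE t 2 ↥(fittingOf H₁) := BG9.not_pRankLE_of_elementary ht hWGF hWGe hWG3
  have hU : ∀ B : Subgroup G, IsPGroup t B → IsMulCommutative B → ¬ PRankLE t 2 ↥B →
      InUniqueMaximal B := fun B h1 h2 h3 => BG9.bg94 hG hH₁ hFt h1 h2 h3
  by_cases htp : t = p
  · left
    have hFp : ¬ PRankLE p 2 ↥(fittingOf H₁) := htp ▸ hFt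
    exact BG9.bg94 hG hH₁ hFp hAp hAc hA3
  · have hWT₀ : WG ≤ piCoreOf {t} H₁ := BG8.le_Oq_of_le_fittingOf hWGF hWGp
    have hT₀inv : piCoreOf {t} H₁ ∈ invSubgroups ⊤ (P : Subgroup G) {t} :=
      BG7.mem_invSubgroups_top_of_isPGroup ht (BG8.piCoreOf_singleton_isPGroup t H₁)
        (hPH₁.trans (BG7.le_normalizer_piCoreOf _ _))
    obtain ⟨T, hT, hT₀T⟩ := BG7.exists_max_above hT₀inv
    have htA : ¬ t ∣ Nat.card A := fun h => htp (BG8.prime_eq_of_dvd_card_isPGroup hAp ht h)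
    have hPπ : ∀ r : ℕ, r.Prime → r ∣ Nat.card (P : Subgroup G) → r ∣ Nat.card A := by
      intro r hr h
      rw [BG8.prime_eq_of_dvd_card_isPGroup P.2 hr h]; exact hpA
    have hsn : (A.subgroupOf (P : Subgroup G)).IsSubnormal :=
      Subgroup.Normal.isSubnormal ((Subgroup.normal_subgroupOf_iff_le_normalizer hAP).mpr hPA)
    have h75t := BG7.t75_core hG (q := t) hPtop (Nat.card (P : Subgroup G) - Nat.card A) A hTH
      htA hPπ hAP hsn (fun Q₁ h₁ Q₂ h₂ => BG7.t73 hG hTH hZ ht htA h₁ h₂) rfl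
    have hTA : T ∈ maxInvSubgroups ⊤ A {t} := h75t.1 T hT
    have hWT : WG ≤ T := hWT₀.trans hT₀T
    have hTr : ¬ PRankLE t 2 ↥T := BG9.not_pRankLE_of_elementary ht hWT hWGe hWG3
    have hTt : IsPGroup t T := BG7.isPGroup_of_mem_invSubgroups ht hT.1
    have hTtop : T ≠ ⊤ := BG7.pgroup_ne_top hG hTt
    have hWU : InUniqueMaximal WG :=
      hU WG hWGp hWGe.1 (BG9.not_pRankLE_of_elementary ht le_rfl hWGe hWG3)
    have hTU : InUniqueMaximal T := BG9.inUniqueMaximal_of_le hWU hWT hTtop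
    have hTH₁ : T ≤ H₁ := by
      obtain ⟨M, ⟨hM, hWM⟩, hMu⟩ := hWU
      have hHM : H₁ = M := hMu H₁ ⟨hH₁, hWGF.trans (BG8.fittingOf_le H₁)⟩
      have h1 := BG9.le_of_inUniqueMaximal (fun L hL => hMu L hL) hWT hTtop
      rw [hHM]; exact h1
    by_cases hn : IsNarrow t ↥T
    · left
      have hT1 : T ≠ ⊥ := BG8.ne_bot_of_not_pRankLE ht.pos hTr
      have htG : t ∣ Nat.card G :=
        (BG8.dvd_card_of_isPGroup_ne_bot hTt hT1).trans (Subgroup.card_subgroup_dvd_card T)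
      have ht2 : t ≠ 2 := BG9.odd_prime_of_dvd hG htG
      have hPNT := sylow_le_commutator_normalizer_maxInv hG P hA' hA1 hTH hZ ht htp hT
      have hPC := le_centralizer_of_narrow ht2 htp T (P : Subgroup G) hTt hTr hn P.2 hPNT
      have hAr1 : ¬ RankLE 1 ↥A :=
        BG9.not_rankLE_of_elementary' hpp hE₃A hE₃e
          (by rw [hE₃c]; exact Nat.pow_le_pow_right hpp.pos (by norm_num))
      exact BG9.bg92 hG hTU (hAP.trans hPC) hAr1
    · right
      exact ⟨t, T, H₁, good_of_nonnarrow hG hE₃A hE₃e hE₃c htp hTA hTr hn hU hH₁ hTH₁,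
        Subgroup.le_normalizer.trans hNH₁⟩

/-- B&G Lemma 9.5 / S1402. -/
theorem s1402 (hG : IsMinSimpleOddOrder G) (p : ℕ) [hp : Fact p.Prime] (P : Sylow p G)
    (A : Subgroup G) (hA : IsSCN (P : Subgroup G) A) (hA3 : ¬ PRankLE p 2 ↥A) :
    InUniqueMaximal A := by
  classical
  by_contra hnot
  have hA' := hA
  obtain ⟨hAP, hPA, hCA⟩ := hA
  have hpp := hp.out
  have hAp : IsPGroup p A := P.2.to_le hAP
  have hA1 : A ≠ ⊥ := BG8.ne_bot_of_not_pRankLE hpp.pos hA3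
  have hpA : p ∣ Nat.card A := BG8.dvd_card_of_isPGroup_ne_bot hAp hA1
  have hpG : p ∣ Nat.card G := hpA.trans (Subgroup.card_subgroup_dvd_card A)
  have hAab : A ≤ Subgroup.centralizer (A : Set G) := by
    rw [← hCA]; exact inf_le_right.trans (Subgroup.centralizer_le (by rw [hCA]))
  have hTH : TransitivityHypothesis A := by
    apply BG7.t76 hG p hpG A hAp
    exact Or.inr ⟨P, hA', BG8.not_pRankLE_mono hpp.pos (by norm_num) hA3⟩
  have hZ : ¬ RankLE 2 ↥(A ⊓ Subgroup.centralizer (A : Set G)) := by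
    rw [inf_eq_left.mpr hAab]
    intro h
    exact hA3 (h p hpp)
  have hPtop : (P : Subgroup G) ≠ ⊤ := BG7.pgroup_ne_top hG P.2
  have hAtop : A ≠ ⊤ := BG7.pgroup_ne_top hG hAp
  -- the elementary abelian subgroup of order `p³`
  obtain ⟨E, hEA, hEe, hE3⟩ := BG9.exists_elementary_of_not_pRankLE hpp hA3
  have hEp : IsPGroup p ↥E := BG9.isPGroup_of_isElementaryAbelian hEe
  obtain ⟨E₀, hE₀⟩ := Sylow.exists_subgroup_card_pow_prime_of_le_card (n := 3) hpp hEp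
    (by simpa using hE3)
  obtain ⟨E₃, hE₃⟩ : ∃ E₃ : Subgroup G, E₃ = E₀.map E.subtype := ⟨_, rfl⟩
  have hE₃E : E₃ ≤ E := by rw [hE₃]; exact Subgroup.map_subtype_le _
  have hE₃A : E₃ ≤ A := hE₃E.trans hEA
  have hE₃e : IsElementaryAbelian p E₃ := BG9.isElementaryAbelian_of_le hEe hE₃E
  have hE₃c : Nat.card E₃ = p ^ 3 := by
    rw [hE₃, Subgroup.card_map_of_injective E.subtype_injective]; exact hE₀
  have hC1 : ∀ q : ℕ, q.Prime → q ≠ p → ∀ Q ∈ maxInvSubgroups ⊤ (P : Subgroup G) {q},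
      Q ≠ ⊥ → ∃ (t : ℕ) (T H : Subgroup G), Good A p t T H ∧ Q ≤ H :=
    fun q hq hqp Q hQ hQ1 =>
      (good_or_unique hG P hA' hA3 hTH hZ hE₃A hE₃e hE₃c hq hqp hQ hQ1).resolve_left hnot
  have hPπ : ∀ r : ℕ, r.Prime → r ∣ Nat.card (P : Subgroup G) → r ∣ Nat.card A := by
    intro r hr h
    rw [BG8.prime_eq_of_dvd_card_isPGroup P.2 hr h]; exact hpA
  have hsn : (A.subgroupOf (P : Subgroup G)).IsSubnormal :=
    Subgroup.Normal.isSubnormal ((Subgroup.normal_subgroupOf_iff_le_normalizer hAP).mpr hPA)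
  -- the maximal subgroup
  have hM : ∃ M : Subgroup G, IsCoatom M ∧ A ≤ M ∧
      ∀ q : ℕ, q.Prime → q ≠ p → ∀ Q' ∈ invSubgroups ⊤ A {q}, Q' ≤ M := by
    have hred : ∀ M : Subgroup G, BG7.KK A ≤ M →
        (∀ q : ℕ, q.Prime → q ≠ p → ∀ Q ∈ maxInvSubgroups ⊤ (P : Subgroup G) {q}, Q ≤ M) →
        ∀ q : ℕ, q.Prime → q ≠ p → ∀ Q' ∈ invSubgroups ⊤ A {q}, Q' ≤ M := by
      intro M hKM hall q hq hqp Q' hQ'
      haveI : Fact q.Prime := ⟨hq⟩
      have hqA : ¬ q ∣ Nat.card A := fun h => hqp (BG8.prime_eq_of_dvd_card_isPGroup hAp hq h)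
      have h75 := BG7.t75_core hG (q := q) hPtop (Nat.card (P : Subgroup G) - Nat.card A) A hTH
        hqA hPπ hAP hsn (fun Q₁ h₁ Q₂ h₂ => BG7.t73 hG hTH hZ hq hqA h₁ h₂) rfl
      obtain ⟨Q₀, hQ₀, -⟩ := BG7.exists_max_above (BG8.bot_mem_invSubgroups (P : Subgroup G) {q})
      obtain ⟨Q₁, hQ₁, hQQ₁⟩ := BG7.exists_max_above hQ'
      obtain ⟨k, hk, hkQ⟩ := BG7.t73 hG hTH hZ hq hqA (h75.1 Q₀ hQ₀) hQ₁
      rw [hkQ] at hQQ₁
      exact hQQ₁.trans (BG9.cj_le_of_mem (hKM hk) (hall q hq hqp Q₀ hQ₀))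
    by_cases hex : ∃ (t : ℕ) (T H : Subgroup G), Good A p t T H
    · obtain ⟨t₀, T₀, M, g₀⟩ := hex
      refine ⟨M, g₀.hH, g₀.hAH, hred M g₀.hKH ?_⟩
      intro q hq hqp Q hQ
      by_cases hQ1 : Q = ⊥
      · rw [hQ1]; exact bot_le
      · obtain ⟨t, T, H, g, hQH⟩ := hC1 q hq hqp Q hQ hQ1
        have hHM : H = M := two_good hG hAp hAab hTH hZ hE₃A hE₃e hE₃c g g₀
        rw [← hHM]; exact hQH
    · obtain ⟨M, hM, hAM⟩ : ∃ M : Subgroup G, IsCoatom M ∧ A ≤ M :=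
        (eq_top_or_exists_le_coatom A).resolve_left hAtop
      have hall : ∀ q : ℕ, q.Prime → q ≠ p →
          ∀ Q ∈ maxInvSubgroups ⊤ (P : Subgroup G) {q}, Q = ⊥ := by
        intro q hq hqp Q hQ
        by_contra hQ1
        obtain ⟨t, T, H, g, -⟩ := hC1 q hq hqp Q hQ hQ1
        exact hex ⟨t, T, H, g⟩
      refine ⟨M, hM, hAM, ?_⟩
      intro q hq hqp Q' hQ'
      haveI : Fact q.Prime := ⟨hq⟩
      have hqA : ¬ q ∣ Nat.card A := fun h => hqp (BG8.prime_eq_of_dvd_card_isPGroup hAp hq h)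
      have h75 := BG7.t75_core hG (q := q) hPtop (Nat.card (P : Subgroup G) - Nat.card A) A hTH
        hqA hPπ hAP hsn (fun Q₁ h₁ Q₂ h₂ => BG7.t73 hG hTH hZ hq hqA h₁ h₂) rfl
      obtain ⟨Q₀, hQ₀, -⟩ := BG7.exists_max_above (BG8.bot_mem_invSubgroups (P : Subgroup G) {q})
      obtain ⟨Q₁, hQ₁, hQQ₁⟩ := BG7.exists_max_above hQ'
      obtain ⟨k, hk, hkQ⟩ := BG7.t73 hG hTH hZ hq hqA (h75.1 Q₀ hQ₀) hQ₁
      have h0 : Q₀ = ⊥ := hall q hq hqp Q₀ hQ₀
      have h1 : Q₁ = ⊥ := by rw [hkQ, h0]; exact BG7.cj_eq_bot_iff.mpr rfl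
      rw [h1] at hQQ₁
      exact hQQ₁.trans bot_le
  obtain ⟨M, hM, hAM, hqM⟩ := hM
  have hb : ∀ Y : Subgroup G, (Nat.card Y).Coprime p →
      A ≤ Subgroup.normalizer (Y : Set G) → Y ≤ M := by
    intro Y hY hAY
    have hYtop : Y ≠ ⊤ := by
      intro h
      rw [h, Subgroup.card_top] at hY
      have h4 : p ∣ Nat.gcd (Nat.card G) p := Nat.dvd_gcd hpG dvd_rfl
      rw [hY] at h4
      exact hpp.one_lt.ne' (Nat.dvd_one.mp h4)
    have hYs : Group.IsSolvable ↥Y := BG7.isSolvable_of_ne_top hG hYtop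
    have hcop := BG9.coprime_card_isPGroup_of_coprime hAp hY
    apply Cfsg.Agent.Lib.Helper2.le_of_forall_sylow_le
    intro q hq
    obtain ⟨R, hR⟩ := coprime_exists_invariant_sylow A Y hAY hcop (Or.inr hYs) q
    refine ⟨R, ?_⟩
    have hRq : IsPGroup q ((R : Subgroup ↥Y).map Y.subtype) := R.isPGroup'.map _
    by_cases hqp : q = p
    · have h2 : (Nat.card ((R : Subgroup ↥Y).map Y.subtype)).Coprime p :=
        Nat.Coprime.coprime_dvd_left (Subgroup.card_dvd_of_le (Subgroup.map_subtype_le _)) hY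
      obtain ⟨k, hk⟩ := IsPGroup.iff_card.mp hRq
      have h3 : (R : Subgroup ↥Y).map Y.subtype = ⊥ := by
        apply Subgroup.card_eq_one.mp
        rw [hk, hqp] at h2
        rw [hk, hqp]
        rcases Nat.eq_zero_or_pos k with h0 | hpos
        · rw [h0, pow_zero]
        · exfalso
          have h5 : p ∣ Nat.gcd (p ^ k) p := Nat.dvd_gcd (dvd_pow_self p hpos.ne') dvd_rfl
          rw [h2] at h5
          exact hpp.one_lt.ne' (Nat.dvd_one.mp h5)
      rw [h3]; exact bot_le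
    · exact hqM q hq.out hqp _ (BG7.mem_invSubgroups_top_of_isPGroup hq.out hRq hR)
  have huniq := BG9.uniqueness_of_inv_le hG hM hAM hAp hA1 hb
  exact hnot ⟨M, ⟨hM, hAM⟩, fun L hL => huniq L hL.1 hL.2⟩

end Cfsg.Agent.Lib.Helper1.MS
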