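import Mathlib
import Cfsg.Agent.Lib.Helper1.MS5
import Cfsg.Agent.Lib.Helper4.SylTwoMax1

set_option autoImplicit false
set_option maxHeartbeats 4000000
set_option linter.unusedVariables false
set_option linter.unusedSectionVars false
set_option linter.style.longLine false
set_option linter.unusedSimpArgs false
set_option linter.style.haveILetI false

/-!
# B&G Theorem 10.1 (S1404): transitivity for primes in `σ(M)`
-/

open scoped commutatorElement Pointwise
universe u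
namespace Cfsg.Agent.Lib.Helper1.BT

open Cfsg

/-- Frattini factorization modulo the centralizer of a normal `r`-subgroup of rank at most two. -/
theorem normalizer_sylow_sup_centralizer {H : Type u} [Group H] [Finite H] [Group.IsSolvable H]
    (hodd : Odd (Nat.card H)) {r : ℕ} [hr : Fact r.Prime] (Q : Subgroup H) [hQn : Q.Normal]
    (hQ : IsPGroup r Q) (hrk : PRankLE r 2 ↥Q) (R : Sylow r H) :
    Subgroup.normalizer ((R : Subgroup H) : Set H) ⊔ Subgroup.centralizer (Q : Set H) = ⊤ := by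
  obtain ⟨hact, -⟩ := RT.act_lemma hodd Q hQ hrk
  obtain ⟨C, hC⟩ : ∃ C : Subgroup H, C = Subgroup.centralizer (Q : Set H) := ⟨_, rfl⟩
  haveI hCn : C.Normal := by rw [hC]; infer_instance
  rw [← hC] at hact ⊢
  have hsurj := QuotientGroup.mk'_surjective C
  have hcommP : IsPGroup r ↥(commutator (H ⧸ C)) := by
    rintro ⟨x, hx⟩
    have hx' : x ∈ (commutator H).map (QuotientGroup.mk' C) := by
      rw [commutator_def, Subgroup.map_commutator, Subgroup.map_top_of_surjective _ hsurj,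
        ← commutator_def]
      exact hx
    obtain ⟨g, hg, rfl⟩ := hx'
    obtain ⟨k, hk⟩ := hact g hg
    refine ⟨k, ?_⟩
    apply Subtype.ext
    rw [Subgroup.coe_pow, Subgroup.coe_one, ← map_pow]
    exact (QuotientGroup.eq_one_iff _).mpr hk
  have hle : commutator (H ⧸ C) ≤
      ((R.mapSurjective hsurj : Sylow r (H ⧸ C)) : Subgroup (H ⧸ C)) :=
    (le_pCore inferInstance hcommP).trans (pCore_le_sylow r _)
  have hRn : ((R : Subgroup H).map (QuotientGroup.mk' C)).Normal := by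
    have h1 : ((R.mapSurjective hsurj : Sylow r (H ⧸ C)) : Subgroup (H ⧸ C)).Normal :=
      normal_of_commutator_le hle
    rwa [Sylow.coe_mapSurjective] at h1
  haveI hWn : ((R : Subgroup H) ⊔ C).Normal := by
    have h1 := hRn.comap (QuotientGroup.mk' C)
    rwa [Subgroup.comap_map_eq, QuotientGroup.ker_mk'] at h1
  have h2 : Subgroup.normalizer ((R : Subgroup H) : Set H) ⊔ ((R : Subgroup H) ⊔ C) = ⊤ :=
    Sylow.normalizer_sup_eq_top' R (le_sup_left : (R : Subgroup H) ≤ (R : Subgroup H) ⊔ C)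
  rw [← sup_assoc, sup_eq_left.mpr Subgroup.le_normalizer] at h2
  exact h2

variable {G : Type u} [Group G] [Finite G]

/-- every elementary abelian subgroup of order at least `p³` is a uniqueness subgroup -/
theorem inUniqueMaximal_of_elementary_cube (hG : IsMinSimpleOddOrder G) {p : ℕ} (hp : p.Prime)
    {E : Subgroup G} (hEe : IsElementaryAbelian p E) (hE3 : p ^ (2 + 1) ≤ Nat.card E) :
    InUniqueMaximal E := by
  classical
  haveI : Fact p.Prime := ⟨hp⟩
  have hEp : IsPGroup p E := BG9.isPGroup_of_isElementaryAbelian hEe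
  obtain ⟨P, hEP⟩ := hEp.exists_le_sylow
  have hPr : ¬ PRankLE p 2 ↥(P : Subgroup G) := BG9.not_pRankLE_of_elementary hp hEP hEe hE3
  have hE1 : E ≠ ⊥ := by
    intro h
    rw [h, Subgroup.card_bot] at hE3
    have : 1 < p ^ (2 + 1) := Nat.one_lt_pow (by norm_num) hp.one_lt
    omega
  have hpG : p ∣ Nat.card G :=
    (BG8.dvd_card_of_isPGroup_ne_bot hEp hE1).trans (Subgroup.card_subgroup_dvd_card E)
  have hp2 : p ≠ 2 := BG9.odd_prime_of_dvd hG hpG
  obtain ⟨A, hA, hA3⟩ := BG9.exists_SCN3 hp2 P.2 hPr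
  have hAU := MS.s1402 hG p P A hA hA3
  have hAp : IsPGroup p A := P.2.to_le hA.1
  have hAab : A ≤ Subgroup.centralizer (A : Set G) := by
    rw [← hA.2.2]; exact inf_le_right.trans (Subgroup.centralizer_le (by rw [hA.2.2]))
  have hAc : IsMulCommutative ↥A := by
    refine ⟨⟨fun a b => ?_⟩⟩
    apply Subtype.ext
    exact ((Subgroup.mem_centralizer_iff.mp (hAab a.2)) b.1 b.2).symm
  have hEnc : ¬ IsCyclic ↥E :=
    BG9.not_isCyclic_of_elementary hp le_rfl hEe
      (le_trans (Nat.pow_le_pow_right hp.pos (by norm_num)) hE3)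
  have hEC : E ≤ Subgroup.centralizer (E : Set G) :=
    BG9.le_centralizer_of_isElementaryAbelian hEe le_rfl
  exact BG9.bg93 hG hAp hAc hA3 hAU hEp hEnc (BG9.not_pRankLE_of_elementary hp hEC hEe hE3)

/-- a proper subgroup of `p`-rank at least three lies in a unique maximal subgroup; if it lies in
`M` then every proper overgroup lies in `M` -/
theorem le_of_rank_three (hG : IsMinSimpleOddOrder G) {p : ℕ} (hp : p.Prime) {M X Y : Subgroup G}
    (hM : IsCoatom M) (hXM : X ≤ M) (hr : ¬ PRankLE p 2 ↥X) (hXY : X ≤ Y) (hY : Y ≠ ⊤) :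
    Y ≤ M := by
  obtain ⟨E, hEX, hEe, hE3⟩ := BG9.exists_elementary_of_not_pRankLE hp hr
  obtain ⟨M₀, ⟨hM₀, hEM₀⟩, hu⟩ := inUniqueMaximal_of_elementary_cube hG hp hEe hE3
  have hMM₀ : M = M₀ := hu M ⟨hM, hEX.trans hXM⟩
  have h1 := BG9.le_of_inUniqueMaximal (fun L hL => hu L hL) (hEX.trans hXY) hY
  rw [hMM₀]; exact h1

theorem cj_normalizer (g : G) (X : Subgroup G) :
    BG7.cj g (Subgroup.normalizer (X : Set G)) = Subgroup.normalizer (BG7.cj g X : Set G) := by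
  apply le_antisymm (BG9.cj_le_normalizer_cj g le_rfl)
  have h1 := BG9.cj_le_normalizer_cj g⁻¹ (le_refl (Subgroup.normalizer (BG7.cj g X : Set G)))
  rw [BG7.cj_inv_cj] at h1
  have h2 := BG7.cj_mono (k := g) h1
  rwa [BG9.cj_cj_inv] at h2

theorem isMaxP_cj {p : ℕ} {R H : Subgroup G} (h : BG8.IsMaxP p R H) (g : G) :
    BG8.IsMaxP p (BG7.cj g R) (BG7.cj g H) := by
  refine ⟨BG7.cj_mono h.1, h.2.1.map _, fun T hT hRT hTH => ?_⟩
  have h1 : R ≤ BG7.cj g⁻¹ T := by
    have := BG7.cj_mono (k := g⁻¹) hRT; rwa [BG7.cj_inv_cj] at this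
  have h2 : BG7.cj g⁻¹ T ≤ H := by
    have := BG7.cj_mono (k := g⁻¹) hTH; rwa [BG7.cj_inv_cj] at this
  have h3 : BG7.cj g⁻¹ T = R :=
    h.2.2 _ (show IsPGroup p ↥(BG7.cj g⁻¹ T) from hT.map _) h1 h2
  rw [← h3, BG9.cj_cj_inv]

theorem isMaxP_cj_of_mem {p : ℕ} {R H : Subgroup G} (h : BG8.IsMaxP p R H) {g : G} (hg : g ∈ H) :
    BG8.IsMaxP p (BG7.cj g R) H := by
  have h1 := isMaxP_cj h g
  have h2 : BG7.cj g H = H := BG7.cj_eq_of_mem_normalizer (Subgroup.le_normalizer hg)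
  rwa [h2] at h1

theorem isMaxP_conj {p : ℕ} [hp : Fact p.Prime] {R R' H : Subgroup G} (h : BG8.IsMaxP p R H)
    (h' : BG8.IsMaxP p R' H) : ∃ n ∈ H, R' = BG7.cj n R := by
  obtain ⟨Q, hQ⟩ := h.exists_sylow
  obtain ⟨Q', hQ'⟩ := h'.exists_sylow
  obtain ⟨n, hn⟩ := MulAction.exists_smul_eq ↥H Q Q'
  refine ⟨(n : G), n.2, ?_⟩
  rw [← hQ, ← hQ', ← hn]
  ext x
  rw [BG7.mem_cj]
  constructor
  · rintro ⟨y, hy, rfl⟩
    have hy' : y ∈ MulAut.conj n • (Q : Subgroup ↥H) := by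
      rw [← Sylow.pointwise_smul_def]; exact hy
    rw [Subgroup.mem_pointwise_smul_iff_inv_smul_mem, MulAut.smul_def,
      MulAut.conj_inv_apply] at hy'
    exact ⟨_, hy', rfl⟩
  · rintro ⟨y, hy, hyx⟩
    have hxH : x ∈ H := by
      have e : x = (n : G) * ((n : G)⁻¹ * x * (n : G)) * (n : G)⁻¹ := by group
      rw [e, ← hyx]
      exact H.mul_mem (H.mul_mem n.2 y.2) (H.inv_mem n.2)
    refine ⟨⟨x, hxH⟩, ?_, rfl⟩
    have h1 : (⟨x, hxH⟩ : ↥H) ∈ MulAut.conj n • (Q : Subgroup ↥H) := by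
      rw [Subgroup.mem_pointwise_smul_iff_inv_smul_mem, MulAut.smul_def, MulAut.conj_inv_apply]
      have e : n⁻¹ * (⟨x, hxH⟩ : ↥H) * n = y := by
        apply Subtype.ext
        simp only [Subgroup.coe_mul, Subgroup.coe_inv]
        exact hyx.symm
      rw [e]; exact hy
    rw [← Sylow.pointwise_smul_def] at h1
    exact h1

theorem exists_isMaxP_ge {p : ℕ} [hp : Fact p.Prime] {Y H : Subgroup G} (hY : IsPGroup p Y)
    (hYH : Y ≤ H) : ∃ R, BG8.IsMaxP p R H ∧ Y ≤ R := by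
  obtain ⟨Q, hQ⟩ := (hY.comap_subtype (K := H)).exists_le_sylow
  refine ⟨(Q : Subgroup ↥H).map H.subtype, BG8.isMaxP_of_sylow Q, ?_⟩
  intro y hy
  exact ⟨⟨y, hYH hy⟩, hQ (Subgroup.mem_subgroupOf.mpr hy), rfl⟩

theorem exists_cj_ge {p : ℕ} [hp : Fact p.Prime] {S H X : Subgroup G} (hS : BG8.IsMaxP p S H)
    (hX : IsPGroup p X) (hXH : X ≤ H) : ∃ m ∈ H, X ≤ BG7.cj m S := by
  obtain ⟨R, hR, hXR⟩ := exists_isMaxP_ge hX hXH
  obtain ⟨n, hn, hRn⟩ := isMaxP_conj hS hR
  exact ⟨n, hn, hRn ▸ hXR⟩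

/-- the product decomposition of `(M ∩ N(X)) C(X)` -/
theorem mem_sup_centralizer {M X : Subgroup G} {n : G}
    (hn : n ∈ (M ⊓ Subgroup.normalizer (X : Set G)) ⊔ Subgroup.centralizer (X : Set G)) :
    ∃ m ∈ M ⊓ Subgroup.normalizer (X : Set G), ∃ c ∈ Subgroup.centralizer (X : Set G),
      n = m * c := by
  have hle : M ⊓ Subgroup.normalizer (X : Set G) ≤
      Subgroup.normalizer (Subgroup.centralizer (X : Set G) : Set G) :=
    inf_le_right.trans (BG7.normalizer_le_normalizer_centralizer_self X)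
  have h1 : n ∈ ((M ⊓ Subgroup.normalizer (X : Set G) : Subgroup G) : Set G) *
      ((Subgroup.centralizer (X : Set G) : Subgroup G) : Set G) := by
    rw [← Subgroup.coe_mul_of_left_le_normalizer_right _ _ hle]; exact hn
  obtain ⟨m, hm, c, hc, rfl⟩ := Set.mem_mul.mp h1
  exact ⟨m, hm, c, hc, rfl⟩

/-- B&G Theorem 10.1 (a), (c), by induction. -/
theorem sigma_trans (hG : IsMinSimpleOddOrder G) {M : Subgroup G} (hM : IsCoatom M) {p : ℕ}
    [hp : Fact p.Prime] (hpσ : p ∈ sigma M) :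
    ∀ (n : ℕ) (X : Subgroup G), IsPGroup p X → X ≠ ⊥ → X ≤ M → Nat.card G - Nat.card X = n →
      (∀ g : G, BG7.cj g X ≤ M →
        ∃ m ∈ M, ∃ c ∈ Subgroup.centralizer (X : Set G), g = m * c) ∧
      Subgroup.normalizer (X : Set G) =
        (M ⊓ Subgroup.normalizer (X : Set G)) ⊔ Subgroup.centralizer (X : Set G) := by
  classical
  obtain ⟨hpp, hpM, S₀, hNS⟩ := hpσ
  obtain ⟨S, hS⟩ : ∃ S : Subgroup G, S = (S₀ : Subgroup ↥M).map M.subtype := ⟨_, rfl⟩
  rw [← hS] at hNS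
  have hSmaxM : BG8.IsMaxP p S M := hS ▸ BG8.isMaxP_of_sylow S₀
  have hStop : BG8.IsMaxP p S ⊤ := hSmaxM.top_of_normalizer_le hNS
  have hSM : S ≤ M := hSmaxM.1
  have hSp : IsPGroup p S := hSmaxM.2.1
  have hcjM : ∀ m ∈ M, BG7.cj m S ≤ M := fun m hm => BG9.cj_le_of_mem hm hSM
  -- normalizers of Sylow subgroups of `M`
  have hF3 : ∀ m ∈ M, Subgroup.normalizer (BG7.cj m S : Set G) ≤ M := by
    intro m hm
    rw [← cj_normalizer]
    exact BG9.cj_le_of_mem hm hNS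
  -- trivial direction of (c)
  have hc_of_le : ∀ X : Subgroup G, Subgroup.normalizer (X : Set G) ≤ M →
      Subgroup.normalizer (X : Set G) =
        (M ⊓ Subgroup.normalizer (X : Set G)) ⊔ Subgroup.centralizer (X : Set G) := by
    intro X h
    apply le_antisymm
    · exact (le_inf h le_rfl).trans le_sup_left
    · exact sup_le inf_le_right (Subgroup.centralizer_le_normalizer _)
  intro n
  induction n using Nat.strong_induction_on with
  | _ n ih =>
  intro X hXp hX1 hXM hn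
  have hXtop : X ≠ ⊤ := BG7.pgroup_ne_top hG hXp
  have hIH : ∀ Y : Subgroup G, IsPGroup p Y → Y ≠ ⊥ → Y ≤ M → Nat.card X < Nat.card Y →
      (∀ g : G, BG7.cj g Y ≤ M →
        ∃ m ∈ M, ∃ c ∈ Subgroup.centralizer (Y : Set G), g = m * c) ∧
      Subgroup.normalizer (Y : Set G) =
        (M ⊓ Subgroup.normalizer (Y : Set G)) ⊔ Subgroup.centralizer (Y : Set G) := by
    intro Y hYp hY1 hYM hlt
    have hYG : Nat.card Y ≤ Nat.card G := Subgroup.card_le_card_group Y
    have hXG : Nat.card X ≤ Nat.card G := Subgroup.card_le_card_group X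
    exact ih (Nat.card G - Nat.card Y) (by omega) Y hYp hY1 hYM rfl
  obtain ⟨m₀, hm₀, hXm₀⟩ := exists_cj_ge hSmaxM hXp hXM
  by_cases hXS : Nat.card X = Nat.card S
  · -- `X` is a Sylow subgroup of `M`
    have hXeq : X = BG7.cj m₀ S :=
      Subgroup.eq_of_le_of_card_ge hXm₀ (by rw [BG7.card_cj, hXS])
    have hNX : Subgroup.normalizer (X : Set G) ≤ M := by rw [hXeq]; exact hF3 m₀ hm₀
    refine ⟨?_, hc_of_le X hNX⟩
    intro g hg
    obtain ⟨m₁, hm₁, hgm₁⟩ := exists_cj_ge hSmaxM (hXp.map _) hg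
    have h1 : BG7.cj g X = BG7.cj m₁ S :=
      Subgroup.eq_of_le_of_card_ge hgm₁ (by rw [BG7.card_cj, BG7.card_cj, hXS])
    rw [hXeq, ← BG7.cj_mul] at h1
    have h2 : BG7.cj (m₁⁻¹ * (g * m₀)) S = S := by
      rw [BG7.cj_mul, h1, BG7.cj_inv_cj]
    have h3 : m₁⁻¹ * (g * m₀) ∈ M := hNS (BG7.mem_normalizer_of_cj_eq h2)
    refine ⟨g, ?_, 1, Subgroup.one_mem _, (mul_one g).symm⟩
    have e : g = m₁ * (m₁⁻¹ * (g * m₀)) * m₀⁻¹ := by group
    rw [e]
    exact M.mul_mem (M.mul_mem hm₁ h3) (M.inv_mem hm₀)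
  · -- `X` is not a Sylow subgroup
    have hXlt : Nat.card X < Nat.card S := by
      have h1 : Nat.card X ≤ Nat.card (BG7.cj m₀ S) := Subgroup.card_le_of_le hXm₀
      rw [BG7.card_cj] at h1
      omega
    -- B1
    have hB1 : ∀ X' : Subgroup G, IsPGroup p X' → X' ≠ ⊥ → X' ≤ M → Nat.card X' = Nat.card X →
        ∃ R : Subgroup G, BG8.IsMaxP p R (Subgroup.normalizer (X' : Set G)) ∧ R ≤ M ∧
          X' ≤ R ∧ Nat.card X < Nat.card R := by
      intro X' hX'p hX'1 hX'M hX'c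
      obtain ⟨m, hm, hX'm⟩ := exists_cj_ge hSmaxM hX'p hX'M
      have hne : X' ≠ BG7.cj m S := by
        intro h
        have := congrArg (fun K : Subgroup G => Nat.card K) h
        simp only [BG7.card_cj] at this
        omega
      obtain ⟨Y₁, hY₁p, hXY₁, hY₁S, hY₁N⟩ :=
        BG8.exists_lt_normalizer_of_lt (hSp.map _ : IsPGroup p (BG7.cj m S))
          (lt_of_le_of_ne hX'm hne)
      have hY₁M : Y₁ ≤ M := hY₁S.trans (hcjM m hm)
      have hY₁1 : Y₁ ≠ ⊥ := fun h => hX'1 (le_bot_iff.mp (h ▸ hXY₁.le))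
      have hY₁c : Nat.card X < Nat.card Y₁ := by
        rw [← hX'c]; exact BG7.card_lt_of_lt' hXY₁
      obtain ⟨R₀, hR₀, hY₁R₀⟩ := exists_isMaxP_ge hY₁p hY₁N
      obtain ⟨g₀, -, hR₀g₀⟩ := exists_cj_ge hStop hR₀.2.1 le_top
      have h1 : BG7.cj g₀⁻¹ Y₁ ≤ M := by
        have := BG7.cj_mono (k := g₀⁻¹) (hY₁R₀.trans hR₀g₀)
        rw [BG7.cj_inv_cj] at this
        exact this.trans hSM
      obtain ⟨m₁, hm₁, c₁, hc₁, hg₀⟩ := (hIH Y₁ hY₁p hY₁1 hY₁M hY₁c).1 g₀⁻¹ h1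
      have hc₁X : c₁ ∈ Subgroup.normalizer (X' : Set G) :=
        Subgroup.centralizer_le_normalizer _ (Subgroup.centralizer_le hXY₁.le hc₁)
      refine ⟨BG7.cj c₁ R₀, isMaxP_cj_of_mem hR₀ hc₁X, ?_, ?_, ?_⟩
      · have h2 : BG7.cj c₁ R₀ ≤ BG7.cj (c₁ * g₀) S := by
          rw [BG7.cj_mul]; exact BG7.cj_mono hR₀g₀
        have e : c₁ * g₀ = m₁⁻¹ := by
          have : g₀ = (m₁ * c₁)⁻¹ := by rw [← hg₀, inv_inv]
          rw [this]; group
        rw [e] at h2
        exact h2.trans (hcjM _ (M.inv_mem hm₁))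
      · have h2 : BG7.cj c₁ Y₁ = Y₁ :=
          BG7.cj_eq_of_mem_normalizer (Subgroup.centralizer_le_normalizer _ hc₁)
        have h3 := BG7.cj_mono (k := c₁) hY₁R₀
        rw [h2] at h3
        exact hXY₁.le.trans h3
      · have h3 : Nat.card Y₁ ≤ Nat.card (BG7.cj c₁ R₀) := by
          rw [BG7.card_cj]; exact Subgroup.card_le_of_le hY₁R₀
        omega
    -- B2
    have hB2 : ∀ X' : Subgroup G, IsPGroup p X' → X' ≠ ⊥ → X' ≤ M → Nat.card X' = Nat.card X →
        Subgroup.normalizer (X' : Set G) =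
          (M ⊓ Subgroup.normalizer (X' : Set G)) ⊔ Subgroup.centralizer (X' : Set G) := by
      intro X' hX'p hX'1 hX'M hX'c
      have hX'top : X' ≠ ⊤ := BG7.pgroup_ne_top hG hX'p
      have hHtop := BG7.normalizer_ne_top hG hX'1 hX'top
      by_cases hr : PRankLE p 2 ↥X'
      · obtain ⟨H, hH⟩ : ∃ H, H = Subgroup.normalizer (X' : Set G) := ⟨_, rfl⟩
        obtain ⟨R, hR, hRM, hX'R, hRc⟩ := hB1 X' hX'p hX'1 hX'M hX'c
        rw [← hH] at hR hHtop ⊢
        haveI hHs : Group.IsSolvable ↥H := BG7.isSolvable_of_ne_top hG hHtop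
        have hHodd : Odd (Nat.card ↥H) := BG8.odd_card_subgroup hG H
        obtain ⟨R', hR'⟩ := hR.exists_sylow
        have hX'H : X' ≤ H := by rw [hH]; exact Subgroup.le_normalizer
        haveI hQn : (X'.subgroupOf H).Normal := by
          rw [hH]; infer_instance
        have hQp : IsPGroup p ↥(X'.subgroupOf H) := hX'p.comap_subtype
        have hQr : PRankLE p 2 ↥(X'.subgroupOf H) :=
          BG9.pRankLE_of_injective (Subgroup.subgroupOfEquivOfLe hX'H).toMonoidHom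
            (Subgroup.subgroupOfEquivOfLe hX'H).injective hr
        have hFR := normalizer_sylow_sup_centralizer hHodd (X'.subgroupOf H) hQp hQr R'
        have hR1 : R ≠ ⊥ := fun h => hX'1 (le_bot_iff.mp (h ▸ hX'R))
        have hIHR := (hIH R hR.2.1 hR1 hRM hRc).2
        apply le_antisymm
        · intro h hh
          have h1 : (⟨h, hh⟩ : ↥H) ∈ (⊤ : Subgroup ↥H) := Subgroup.mem_top _
          rw [← hFR, Subgroup.mem_sup_of_normal_right] at h1
          obtain ⟨n', hn', c', hc', hnc⟩ := h1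
          have e : h = (n' : G) * (c' : G) := by rw [← Subgroup.coe_mul, hnc]
          have hnN : (n' : G) ∈ Subgroup.normalizer (R : Set G) := by
            rw [← hR']; exact BG9.coe_mem_normalizer_map hn'
          have hcC : (c' : G) ∈ Subgroup.centralizer (X' : Set G) := by
            rw [Subgroup.mem_centralizer_iff]
            intro x hx
            have h2 := (Subgroup.mem_centralizer_iff.mp hc') ⟨x, hX'H hx⟩
              (Subgroup.mem_subgroupOf.mpr hx)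
            exact congrArg Subtype.val h2
          rw [hIHR] at hnN
          obtain ⟨m₁, hm₁, c₁, hc₁, hn'eq⟩ := mem_sup_centralizer hnN
          have hc₁X : c₁ ∈ Subgroup.centralizer (X' : Set G) := Subgroup.centralizer_le hX'R hc₁
          have hm₁N : m₁ ∈ H := by
            have e2 : m₁ = (n' : G) * c₁⁻¹ := by rw [hn'eq]; group
            rw [e2]
            refine H.mul_mem n'.2 (H.inv_mem ?_)
            rw [hH]; exact Subgroup.centralizer_le_normalizer _ hc₁X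
          rw [e, hn'eq, mul_assoc]
          refine Subgroup.mul_mem_sup (Subgroup.mem_inf.mpr ⟨(Subgroup.mem_inf.mp hm₁).1, ?_⟩)
            (Subgroup.mul_mem _ hc₁X hcC)
          exact hm₁N
        · rw [hH]
          exact sup_le inf_le_right (Subgroup.centralizer_le_normalizer _)
      · exact hc_of_le X' (le_of_rank_three hG hpp hM hX'M hr Subgroup.le_normalizer hHtop)
    refine ⟨?_, hB2 X hXp hX1 hXM rfl⟩
    -- B3
    intro g hg
    obtain ⟨X₂, hX₂⟩ : ∃ X₂, X₂ = BG7.cj g X := ⟨_, rfl⟩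
    rw [← hX₂] at hg
    have hX₂p : IsPGroup p X₂ := by rw [hX₂]; exact hXp.map _
    have hX₂1 : X₂ ≠ ⊥ := by rw [hX₂, Ne, BG7.cj_eq_bot_iff]; exact hX1
    have hX₂c : Nat.card X₂ = Nat.card X := by rw [hX₂, BG7.card_cj]
    obtain ⟨R, hR, hRM, hXR, hRc⟩ := hB1 X hXp hX1 hXM rfl
    obtain ⟨R₂, hR₂, hR₂M, hX₂R₂, hR₂c⟩ := hB1 X₂ hX₂p hX₂1 hg hX₂c
    have hgR : BG8.IsMaxP p (BG7.cj g R) (Subgroup.normalizer (X₂ : Set G)) := by
      have := isMaxP_cj hR g
      rwa [cj_normalizer, ← hX₂] at this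
    obtain ⟨n₁, hn₁, hR₂eq⟩ := isMaxP_conj hgR hR₂
    rw [← BG7.cj_mul] at hR₂eq
    have hR1 : R ≠ ⊥ := fun h => hX1 (le_bot_iff.mp (h ▸ hXR))
    obtain ⟨m, hm, c, hc, hngeq⟩ := (hIH R hR.2.1 hR1 hRM hRc).1 (n₁ * g) (hR₂eq ▸ hR₂M)
    have hcX : c ∈ Subgroup.centralizer (X : Set G) := Subgroup.centralizer_le hXR hc
    have hn₁inv : n₁⁻¹ ∈ Subgroup.normalizer (X₂ : Set G) := Subgroup.inv_mem _ hn₁
    rw [hB2 X₂ hX₂p hX₂1 hg hX₂c] at hn₁inv
    obtain ⟨m', hm', c', hc', hn₁eq⟩ := mem_sup_centralizer hn₁inv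
    have hgeq : g = m' * c' * m * c := by
      have e : g = n₁⁻¹ * (n₁ * g) := by group
      rw [e, hngeq, hn₁eq]; group
    -- `cj m X = X₂`
    have hcjc : BG7.cj c X = X :=
      BG7.cj_eq_of_mem_normalizer (Subgroup.centralizer_le_normalizer _ hcX)
    have hcjm' : BG7.cj m'⁻¹ X₂ = X₂ :=
      BG7.cj_eq_of_mem_normalizer (Subgroup.inv_mem _ (Subgroup.mem_inf.mp hm').2)
    have hcjc' : BG7.cj c'⁻¹ X₂ = X₂ :=
      BG7.cj_eq_of_mem_normalizer (Subgroup.inv_mem _ (Subgroup.centralizer_le_normalizer _ hc'))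
    have hmX : BG7.cj m X = X₂ := by
      have h1 : X₂ = BG7.cj m' (BG7.cj c' (BG7.cj m X)) := by
        rw [hX₂]
        conv_lhs => rw [hgeq]
        rw [BG7.cj_mul, BG7.cj_mul, BG7.cj_mul, hcjc]
      have h2 : BG7.cj m'⁻¹ X₂ = BG7.cj c' (BG7.cj m X) := by
        conv_lhs => rw [h1]
        rw [BG7.cj_inv_cj]
      rw [hcjm'] at h2
      have h3 : BG7.cj c'⁻¹ X₂ = BG7.cj m X := by
        conv_lhs => rw [h2]
        rw [BG7.cj_inv_cj]
      rw [hcjc'] at h3
      exact h3.symm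
    have hcc : m⁻¹ * c' * m ∈ Subgroup.centralizer (X : Set G) := by
      rw [Subgroup.mem_centralizer_iff]
      intro x hx
      have hx₂ : m * x * m⁻¹ ∈ X₂ := by rw [← hmX]; exact BG7.conj_mem_cj hx
      have h1 := (Subgroup.mem_centralizer_iff.mp hc') _ hx₂
      calc x * (m⁻¹ * c' * m) = m⁻¹ * ((m * x * m⁻¹) * c') * m := by group
        _ = m⁻¹ * (c' * (m * x * m⁻¹)) * m := by rw [h1]
        _ = m⁻¹ * c' * m * x := by group
    refine ⟨m' * m, M.mul_mem (Subgroup.mem_inf.mp hm').1 hm, (m⁻¹ * c' * m) * c,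
      Subgroup.mul_mem _ hcc hcX, ?_⟩
    rw [hgeq]; group

end Cfsg.Agent.Lib.Helper1.BT
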