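import Mathlib
import Cfsg.Agent.Lib.Helper1.BT1
import Cfsg.Agent.Lib.Helper1.MS1
import Cfsg.Agent.Lib.Helper1.RT9
import Cfsg.Agent.Lib.Helper2.Cores
import Cfsg.Agent.Lib.Helper1.FittingFrattini2

set_option autoImplicit false
set_option maxHeartbeats 4000000
set_option linter.unusedVariables false
set_option linter.unusedSectionVars false
set_option linter.style.longLine false
set_option linter.unusedSimpArgs false
set_option linter.style.haveILetI false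

/-!
# B&G Theorem 10.2 (S1405): the subgroup `M_α`
-/

open scoped commutatorElement Pointwise
universe u
namespace Cfsg.Agent.Lib.Helper1.BT

open Cfsg

variable {G : Type u} [Group G] [Finite G]

theorem commutator_eq_top (hG : IsMinSimpleOddOrder G) : commutator G = ⊤ := by
  have := hG.2.1
  rcases (inferInstance : (commutator G).Normal).eq_bot_or_eq_top with h | h
  · exfalso
    apply hG.2.2.1
    refine ⟨⟨fun a b => ?_⟩⟩
    have h1 : ⁅a, b⁆ ∈ commutator G := by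
      rw [commutator_def]
      exact Subgroup.commutator_mem_commutator (Subgroup.mem_top a) (Subgroup.mem_top b)
    rw [h, Subgroup.mem_bot] at h1
    exact commutatorElement_eq_one_iff_mul_comm.mp h1
  · exact h

/-- `α(M) ⊆ σ(M)` -/
theorem alpha_subset_sigma (hG : IsMinSimpleOddOrder G) {M : Subgroup G} (hM : IsCoatom M) {p : ℕ}
    (hp : p ∈ alpha M) : p ∈ sigma M := by
  obtain ⟨hpp, hr⟩ := hp
  haveI : Fact p.Prime := ⟨hpp⟩
  obtain ⟨E, hEM, hEe, hE3⟩ := BG9.exists_elementary_of_not_pRankLE hpp hr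
  have hEp : IsPGroup p E := BG9.isPGroup_of_isElementaryAbelian hEe
  obtain ⟨S, hS, hES⟩ := exists_isMaxP_ge hEp hEM
  obtain ⟨S₀, hS₀⟩ := hS.exists_sylow
  have hE1 : E ≠ ⊥ := by
    intro h
    rw [h, Subgroup.card_bot] at hE3
    have : 1 < p ^ (2 + 1) := Nat.one_lt_pow (by norm_num) hpp.one_lt
    omega
  have hpM : p ∣ Nat.card M :=
    (BG8.dvd_card_of_isPGroup_ne_bot hEp hE1).trans (Subgroup.card_dvd_of_le hEM)
  have hSr : ¬ PRankLE p 2 ↥S := BG9.not_pRankLE_of_elementary hpp hES hEe hE3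
  have hS1 : S ≠ ⊥ := fun h => hE1 (le_bot_iff.mp (h ▸ hES))
  have hStop : S ≠ ⊤ := BG7.pgroup_ne_top hG hS.2.1
  have hN : Subgroup.normalizer (S : Set G) ≤ M :=
    le_of_rank_three hG hpp hM hS.1 hSr Subgroup.le_normalizer (BG7.normalizer_ne_top hG hS1 hStop)
  refine ⟨hpp, hpM, S₀, ?_⟩
  rw [hS₀]; exact hN

/-- for `p ∈ σ(M)`, every Sylow `p`-subgroup of `M` lies in `M'`, is a Sylow subgroup of `G`, and
has its normalizer in `M` -/
theorem sigma_sylow_le_commutator (hG : IsMinSimpleOddOrder G) {M : Subgroup G} (hM : IsCoatom M)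
    {p : ℕ} [hp : Fact p.Prime] (hpσ : p ∈ sigma M) {S : Subgroup G} (hS : BG8.IsMaxP p S M) :
    S ≤ ⁅M, M⁆ ∧ BG8.IsMaxP p S ⊤ ∧ Subgroup.normalizer (S : Set G) ≤ M := by
  classical
  obtain ⟨hpp, hpM, S₁', hNS₁⟩ := id hpσ
  obtain ⟨S₁, hS₁def⟩ : ∃ S₁ : Subgroup G, S₁ = (S₁' : Subgroup ↥M).map M.subtype := ⟨_, rfl⟩
  rw [← hS₁def] at hNS₁
  have hS₁ : BG8.IsMaxP p S₁ M := hS₁def ▸ BG8.isMaxP_of_sylow S₁'
  have hS₁top : BG8.IsMaxP p S₁ ⊤ := hS₁.top_of_normalizer_le hNS₁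
  obtain ⟨P, hP⟩ := hS₁top.exists_sylow_top
  have hPM : (P : Subgroup G) ≤ M := hP ▸ hS₁.1
  have hctl : ∀ x ∈ (P : Subgroup G), ∀ g : G, g * x * g⁻¹ ∈ (P : Subgroup G) →
      ∃ h ∈ M, h * x * h⁻¹ = g * x * g⁻¹ := by
    intro x hx g hgx
    by_cases hx1 : x = 1
    · refine ⟨1, one_mem _, ?_⟩
      rw [hx1]; group
    obtain ⟨X, hXdef⟩ : ∃ X : Subgroup G, X = Subgroup.zpowers x := ⟨_, rfl⟩
    have hxX : x ∈ X := by rw [hXdef]; exact Subgroup.mem_zpowers x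
    have hXP : X ≤ (P : Subgroup G) := by rw [hXdef, Subgroup.zpowers_le]; exact hx
    have hXp : IsPGroup p X := P.2.to_le hXP
    have hX1 : X ≠ ⊥ := by
      intro h
      apply hx1
      have h2 := hxX
      rw [h, Subgroup.mem_bot] at h2
      exact h2
    have hcj : BG7.cj g X ≤ M := by
      intro y hy
      rw [BG7.mem_cj, hXdef] at hy
      obtain ⟨i, hi⟩ := Subgroup.mem_zpowers_iff.mp hy
      have e : y = (g * x * g⁻¹) ^ i := by
        rw [conj_zpow, hi]; group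
      rw [e]
      exact hPM (Subgroup.zpow_mem _ hgx i)
    obtain ⟨m, hm, c, hc, hgmc⟩ :=
      (sigma_trans hG hM hpσ _ X hXp hX1 (hXP.trans hPM) rfl).1 g hcj
    refine ⟨m, hm, ?_⟩
    have hxc : x * c = c * x := Subgroup.mem_centralizer_iff.mp hc x hxX
    have h3 : c * x * c⁻¹ = x := by rw [← hxc]; group
    rw [hgmc]
    calc m * x * m⁻¹ = m * (c * x * c⁻¹) * m⁻¹ := by rw [h3]
      _ = m * c * x * (m * c)⁻¹ := by group
  have h1 := MS.commutator_inf_sylow_le_of_controls P M hctl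
  rw [commutator_eq_top hG, top_inf_eq] at h1
  have hS₁c : S₁ ≤ ⁅M, M⁆ := by
    rw [← hP]; exact h1.trans (Subgroup.commutator_mono hPM le_rfl)
  obtain ⟨n, hn, hSn⟩ := isMaxP_conj hS₁ hS
  have hnorm : M ≤ Subgroup.normalizer ((⁅M, M⁆ : Subgroup G) : Set G) :=
    Subgroup.normalizer_commutator_ge_left M M
  have hN : Subgroup.normalizer (S : Set G) ≤ M := by
    rw [hSn, ← cj_normalizer]; exact BG9.cj_le_of_mem hn hNS₁
  refine ⟨?_, hS.top_of_normalizer_le hN, hN⟩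
  rw [hSn]
  intro y hy
  rw [BG7.mem_cj] at hy
  have h2 := hS₁c hy
  have h3 := (Subgroup.mem_normalizer_iff.mp (hnorm hn) _).mp h2
  have e : n * (n⁻¹ * y * n) * n⁻¹ = y := by group
  rwa [e] at h3

/-- the facts about `M / N` for `N` the largest normal `α(M)`-subgroup of `M` -/
theorem alpha_quotient_facts_aux {M : Subgroup G} (N : Subgroup ↥M) [hNn : N.Normal]
    (hNpi : ∀ q : ℕ, q.Prime → q ∣ Nat.card N → q ∈ alpha M)
    (hNmax : ∀ C : Subgroup ↥M, C.Normal → (∀ q : ℕ, q.Prime → q ∣ Nat.card C → q ∈ alpha M) →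
      C ≤ N) :
    (∀ r : ℕ, r ∈ alpha M → Cfsg.pCore r (↥M ⧸ N) = ⊥) ∧
    (∀ (r : ℕ) [Fact r.Prime], r ∉ alpha M → PRankLE r 2 (↥M ⧸ N)) ∧
    (∀ (r : ℕ) [Fact r.Prime], PRankLE r 2 ↥(Cfsg.pCore r (↥M ⧸ N))) := by
  classical
  have hbot : ∀ r : ℕ, r ∈ alpha M → Cfsg.pCore r (↥M ⧸ N) = ⊥ := by
    intro r hrα
    haveI : Fact r.Prime := ⟨hrα.1⟩
    obtain ⟨C, hC⟩ : ∃ C : Subgroup ↥M,
      C = (Cfsg.pCore r (↥M ⧸ N)).comap (QuotientGroup.mk' N) := ⟨_, rfl⟩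
    have hCn : C.Normal := by
      rw [hC]; exact (inferInstance : (Cfsg.pCore r (↥M ⧸ N)).Normal).comap _
    have hCcard : Nat.card C = Nat.card N * Nat.card (Cfsg.pCore r (↥M ⧸ N)) := by
      rw [hC]; exact card_comap_mk' N _
    have hCpi : ∀ q : ℕ, q.Prime → q ∣ Nat.card C → q ∈ alpha M := by
      intro q hq hqC
      rw [hCcard] at hqC
      rcases (hq.dvd_mul).mp hqC with h | h
      · exact hNpi q hq h
      · have h2 : q = r :=
          BG8.prime_eq_of_dvd_card_isPGroup (Helper2.pCore_isPGroup r) hq h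
        rw [h2]; exact hrα
    have hCN : C ≤ N := hNmax C hCn hCpi
    rw [eq_bot_iff]
    intro x hx
    obtain ⟨y, rfl⟩ := QuotientGroup.mk'_surjective N x
    have hyC : y ∈ C := by rw [hC]; exact hx
    rw [Subgroup.mem_bot]
    exact (QuotientGroup.eq_one_iff y).mpr (hCN hyC)
  have hrk2 : ∀ (r : ℕ) [Fact r.Prime], r ∉ alpha M → PRankLE r 2 (↥M ⧸ N) := by
    intro r hr hrα
    have hrM : PRankLE r 2 ↥M := by
      by_contra h
      exact hrα ⟨hr.out, h⟩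
    have hcop : (Nat.card N).Coprime r := by
      rw [Nat.coprime_comm, Nat.Prime.coprime_iff_not_dvd hr.out]
      intro h
      exact hrα (hNpi r hr.out h)
    exact RT.pRankLE_quotient hrM N hcop
  refine ⟨hbot, hrk2, ?_⟩
  intro r hr
  by_cases hrα : r ∈ alpha M
  · intro A _ _
    have h1 : Nat.card A ∣ Nat.card ↥(Cfsg.pCore r (↥M ⧸ N)) := Subgroup.card_subgroup_dvd_card A
    have h0 : Nat.card ↥(Cfsg.pCore r (↥M ⧸ N)) = 1 := by
      rw [hbot r hrα]; exact Subgroup.card_bot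
    rw [h0] at h1
    have h2 : Nat.card A = 1 := Nat.dvd_one.mp h1
    rw [h2]
    exact Nat.one_le_pow _ _ hr.out.pos
  · exact Rk.pRankLE_subgroup (hrk2 r hrα) _

/-- the facts about `M / M_α` -/
theorem alpha_quotient_facts (M : Subgroup G) :
    (∀ r : ℕ, r ∈ alpha M → Cfsg.pCore r (↥M ⧸ piCore (alpha M) ↥M) = ⊥) ∧
    (∀ (r : ℕ) [Fact r.Prime], r ∉ alpha M → PRankLE r 2 (↥M ⧸ piCore (alpha M) ↥M)) ∧
    (∀ (r : ℕ) [Fact r.Prime], PRankLE r 2 ↥(Cfsg.pCore r (↥M ⧸ piCore (alpha M) ↥M))) :=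
  alpha_quotient_facts_aux (piCore (alpha M) ↥M) (Helper2.piCore_pi _)
    (fun C hCn hCpi => by haveI := hCn; exact Helper2.le_piCore hCpi)

/-- B&G 10.2(a): the Sylow `p`-subgroups of `M`, `p ∈ α(M)`, lie in `O_{α(M)}(M)`. -/
theorem alpha_sylow_le_piCore (hG : IsMinSimpleOddOrder G) {M : Subgroup G} (hM : IsCoatom M)
    {p : ℕ} [hp : Fact p.Prime] (hpα : p ∈ alpha M) (S₀ : Sylow p ↥M) :
    (S₀ : Subgroup ↥M) ≤ piCore (alpha M) ↥M := by
  classical
  obtain ⟨hbot, hrk2, hrk⟩ := alpha_quotient_facts M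
  haveI hMs : Group.IsSolvable ↥M := BG7.isSolvable_of_ne_top hG hM.1
  have hMo : Odd (Nat.card ↥M) := BG8.odd_card_subgroup hG M
  haveI hQs : Group.IsSolvable (↥M ⧸ piCore (alpha M) ↥M) :=
    Group.isSolvable_of_surjective (QuotientGroup.mk'_surjective (piCore (alpha M) ↥M))
  have hQo : Odd (Nat.card (↥M ⧸ piCore (alpha M) ↥M)) :=
    Odd.of_dvd_nat hMo (Subgroup.card_quotient_dvd_card _)
  have hpσ : p ∈ sigma M := alpha_subset_sigma hG hM hpα
  obtain ⟨hSc, -, -⟩ := sigma_sylow_le_commutator hG hM hpσ (BG8.isMaxP_of_sylow S₀)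
  intro x hx
  have hxc : x ∈ commutator ↥M := by
    have h1 : (x : G) ∈ ⁅M, M⁆ := hSc (Subgroup.mem_map_of_mem _ hx)
    rw [← Subgroup.map_subtype_commutator] at h1
    obtain ⟨w, hw, hwx⟩ := h1
    have : w = x := Subtype.ext hwx
    rw [← this]; exact hw
  have hxq : (QuotientGroup.mk' (piCore (alpha M) ↥M) x) ∈
      commutator (↥M ⧸ piCore (alpha M) ↥M) := RT.map_mem_commutator _ hxc
  obtain ⟨k, hk⟩ := S₀.2 ⟨x, hx⟩
  have hk' : x ^ (p ^ k) = 1 := by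
    have := congrArg Subtype.val hk
    simpa using this
  have hxp : ∃ k : ℕ, (QuotientGroup.mk' (piCore (alpha M) ↥M) x) ^ (p ^ k) = 1 :=
    ⟨k, by rw [← map_pow, hk', map_one]⟩
  have h2 := RT.pElement_commutator_mem_pCore hQo hrk p _ hxq hxp
  rw [hbot p hpα, Subgroup.mem_bot] at h2
  exact (QuotientGroup.eq_one_iff x).mp h2

end Cfsg.Agent.Lib.Helper1.BT
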