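import Mathlib
import Cfsg.Agent.Lib.Helper1.BT2
import Cfsg.Agent.Lib.Helper1.Rk3
import Cfsg.Agent.Lib.Helper1.NW1
import Cfsg.Agent.Lib.Helper1.FF1
import Cfsg.Agent.Lib.Helper1.OmegaCenter
import Cfsg.Agent.Lib.Helper1.Coprime
import Cfsg.Agent.Lib.Helper1.CoprimeSylow
import Cfsg.Agent.Lib.Helper1.FrattiniAction

set_option autoImplicit false
set_option maxHeartbeats 4000000
set_option linter.unusedVariables false
set_option linter.unusedSectionVars false
set_option linter.style.longLine false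
set_option linter.unusedSimpArgs false
set_option linter.style.haveILetI false

/-!
# B&G Lemmas 10.3, 10.4, 10.5 (S1406 - S1409)
-/

open scoped commutatorElement Pointwise
universe u
namespace Cfsg.Agent.Lib.Helper1.BT

open Cfsg

variable {G : Type u} [Group G]

/-- `Ω₁(Z(P))` as a subgroup of the ambient group -/
def omegaZ (p : ℕ) (P : Subgroup G) : Subgroup G where
  carrier := {x | x ∈ P ∧ x ∈ Subgroup.centralizer (P : Set G) ∧ x ^ p = 1}
  mul_mem' := by
    rintro x y ⟨hxD, hxC, hxt⟩ ⟨hyD, hyC, hyt⟩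
    refine ⟨P.mul_mem hxD hyD, Subgroup.mul_mem _ hxC hyC, ?_⟩
    have hc : Commute x y := by
      show x * y = y * x
      exact ((Subgroup.mem_centralizer_iff.mp hxC) y hyD).symm
    rw [hc.mul_pow, hxt, hyt, one_mul]
  one_mem' := ⟨P.one_mem, Subgroup.one_mem _, one_pow _⟩
  inv_mem' := by
    rintro x ⟨hxD, hxC, hxt⟩
    exact ⟨P.inv_mem hxD, Subgroup.inv_mem _ hxC, by rw [inv_pow, hxt, inv_one]⟩

theorem mem_omegaZ {p : ℕ} {P : Subgroup G} {x : G} :
    x ∈ omegaZ p P ↔ x ∈ P ∧ x ∈ Subgroup.centralizer (P : Set G) ∧ x ^ p = 1 := Iff.rfl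

theorem omegaZ_le (p : ℕ) (P : Subgroup G) : omegaZ p P ≤ P := fun x hx => hx.1

theorem omegaZ_le_centralizer (p : ℕ) (P : Subgroup G) :
    omegaZ p P ≤ Subgroup.centralizer (P : Set G) := fun x hx => hx.2.1

theorem omegaZ_elementary (p : ℕ) (P : Subgroup G) : IsElementaryAbelian p (omegaZ p P) := by
  refine ⟨⟨⟨fun a b => ?_⟩⟩, fun a ha => ha.2.2⟩
  apply Subtype.ext
  exact ((Subgroup.mem_centralizer_iff.mp a.2.2.1) b.1 b.2.1).symm

theorem normalizer_le_normalizer_omegaZ (p : ℕ) (P : Subgroup G) :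
    Subgroup.normalizer (P : Set G) ≤ Subgroup.normalizer (omegaZ p P : Set G) := by
  apply le_normalizer_of_conj_mem
  intro n hn x hx
  obtain ⟨hxD, hxC, hxt⟩ := hx
  refine ⟨(Subgroup.mem_normalizer_iff.mp hn x).mp hxD, ?_, ?_⟩
  · rw [Subgroup.mem_centralizer_iff]
    intro d hd
    have hd' : n⁻¹ * d * n⁻¹⁻¹ ∈ P :=
      (Subgroup.mem_normalizer_iff.mp (Subgroup.inv_mem _ hn) d).mp hd
    have hcomm := (Subgroup.mem_centralizer_iff.mp hxC) _ hd'
    calc d * (n * x * n⁻¹) = n * ((n⁻¹ * d * n⁻¹⁻¹) * x) * n⁻¹ := by group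
      _ = n * (x * (n⁻¹ * d * n⁻¹⁻¹)) * n⁻¹ := by rw [hcomm]
      _ = n * x * n⁻¹ * d := by group
  · rw [conj_pow, hxt, mul_one, mul_inv_cancel]

theorem omegaZ_ne_bot [Finite G] {p : ℕ} [hp : Fact p.Prime] {P : Subgroup G}
    (hP : IsPGroup p P) (hP1 : P ≠ ⊥) : omegaZ p P ≠ ⊥ := by
  haveI : Nontrivial ↥P := (Subgroup.nontrivial_iff_ne_bot P).mpr hP1
  haveI : Nontrivial ↥(Subgroup.center ↥P) := hP.center_nontrivial
  have hcardZ : p ∣ Nat.card ↥(Subgroup.center ↥P) := by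
    rcases (hP.to_subgroup (Subgroup.center ↥P)).card_eq_or_dvd with h | h
    · exfalso
      exact (Finite.one_lt_card (α := ↥(Subgroup.center ↥P))).ne' h
    · exact h
  obtain ⟨z, hz⟩ := exists_prime_orderOf_dvd_card' p hcardZ
  intro hbot
  have hzt : z ^ p = 1 := by rw [← hz]; exact pow_orderOf_eq_one z
  have hg : ((z : ↥P) : G) ∈ omegaZ p P := by
    refine ⟨(z : ↥P).2, ?_, ?_⟩
    · rw [Subgroup.mem_centralizer_iff]
      intro d hd
      have h1 := Subgroup.mem_center_iff.mp z.2 ⟨d, hd⟩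
      exact congrArg Subtype.val h1
    · have h1 := congrArg (fun w : ↥(Subgroup.center ↥P) => ((w : ↥P) : G)) hzt
      simpa using h1
  rw [hbot, Subgroup.mem_bot] at hg
  have hz1 : z = 1 := by
    apply Subtype.ext
    apply Subtype.ext
    simpa using hg
  rw [hz1, orderOf_one] at hz
  exact hp.out.one_lt.ne hz

/-- adjoining a commuting element of order `p` to an elementary abelian subgroup -/
theorem elementary_sup_zpowers [Finite G] {p : ℕ} [hp : Fact p.Prime] {D : Subgroup G}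
    (hD : IsElementaryAbelian p D) {u : G} (huC : u ∈ Subgroup.centralizer (D : Set G))
    (hup : u ^ p = 1) (huD : u ∉ D) :
    IsElementaryAbelian p (D ⊔ Subgroup.zpowers u) ∧
      Nat.card (D ⊔ Subgroup.zpowers u : Subgroup G) = p * Nat.card D := by
  have hB : IsElementaryAbelian p (Subgroup.closure ((D : Set G) ∪ {u})) := by
    apply isElementaryAbelian_closure
    · intro x hx y hy
      rcases hx with hx | hx <;> rcases hy with hy | hy
      · exact isElementaryAbelian_comm hD hx hy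
      · rw [Set.mem_singleton_iff] at hy; rw [hy]
        exact Subgroup.mem_centralizer_iff.mp huC x hx
      · rw [Set.mem_singleton_iff] at hx; rw [hx]
        exact (Subgroup.mem_centralizer_iff.mp huC y hy).symm
      · rw [Set.mem_singleton_iff] at hx hy; rw [hx, hy]
    · intro x hx
      rcases hx with hx | hx
      · exact hD.2 x hx
      · rw [Set.mem_singleton_iff] at hx; rw [hx]; exact hup
  have hDB : D ≤ Subgroup.closure ((D : Set G) ∪ {u}) :=
    fun x hx => Subgroup.subset_closure (Or.inl hx)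
  have huB : u ∈ Subgroup.closure ((D : Set G) ∪ {u}) := Subgroup.subset_closure (Or.inr rfl)
  have hle : D ⊔ Subgroup.zpowers u ≤ Subgroup.closure ((D : Set G) ∪ {u}) :=
    sup_le hDB (by rw [Subgroup.zpowers_le]; exact huB)
  obtain ⟨hBc, hBp⟩ := isElementaryAbelian_iff.mp hB
  exact ⟨BG9.isElementaryAbelian_of_le hB hle, FF.card_sup_zpowers _ D hBc hBp hDB u huB huD⟩

theorem centralizer_zpowers_eq (z : G) :
    Subgroup.centralizer ((Subgroup.zpowers z : Subgroup G) : Set G) =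
      Subgroup.centralizer ({z} : Set G) := by
  ext g
  rw [Subgroup.mem_centralizer_iff, Subgroup.mem_centralizer_iff]
  constructor
  · intro h b hb
    rw [Set.mem_singleton_iff] at hb
    rw [hb]
    exact h z (Subgroup.mem_zpowers z)
  · intro h y hy
    obtain ⟨i, rfl⟩ := Subgroup.mem_zpowers_iff.mp hy
    have h1 : Commute z g := h z rfl
    exact (h1.zpow_left i).eq

variable [Finite G]

/-- a group of odd order that is not a Z-group has rank at least two -/
theorem not_rankLE_one_of_not_isZGroup (hG : IsMinSimpleOddOrder G) {H : Subgroup G}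
    (h : ¬ IsZGroup ↥H) : ¬ RankLE 1 ↥H := by
  rw [isZGroup_iff] at h
  push Not at h
  obtain ⟨q, hq, Q, hnc⟩ := h
  haveI : Fact q.Prime := ⟨hq⟩
  obtain ⟨QG, hQG⟩ : ∃ QG : Subgroup G, QG = (Q : Subgroup ↥H).map H.subtype := ⟨_, rfl⟩
  have hQGp : IsPGroup q QG := hQG ▸ Q.2.map _
  have hQGH : QG ≤ H := hQG ▸ Subgroup.map_subtype_le _
  have hnc' : ¬ IsCyclic ↥QG := by
    intro hc
    apply hnc
    rw [hQG] at hc
    exact isCyclic_of_surjective
      ((Subgroup.equivMapOfInjective (Q : Subgroup ↥H) H.subtype H.subtype_injective).symm)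
      (MulEquiv.surjective _)
  have hQG1 : QG ≠ ⊥ := by
    intro hb
    apply hnc'
    rw [hb]
    infer_instance
  have hqG : q ∣ Nat.card G :=
    (BG8.dvd_card_of_isPGroup_ne_bot hQGp hQG1).trans (Subgroup.card_subgroup_dvd_card QG)
  have hq2 : q ≠ 2 := BG9.odd_prime_of_dvd hG hqG
  obtain ⟨V, hVQ, -, hVe, hV2⟩ := BG9.exists_normal_elementary_sq hq2 hQGp hnc'
  exact BG9.not_rankLE_of_elementary' hq (hVQ.trans hQGH) hVe (by rw [hV2])

/-- a normal elementary abelian subgroup of order `p²` of a `p`-group of rank at least three is a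
uniqueness subgroup -/
theorem inUniqueMaximal_of_normal_sq (hG : IsMinSimpleOddOrder G) {p : ℕ} [hp : Fact p.Prime]
    {P V : Subgroup G} (hP : IsPGroup p P) (hr : ¬ PRankLE p 2 ↥P) (hVP : V ≤ P)
    (hPV : P ≤ Subgroup.normalizer (V : Set G)) (hVe : IsElementaryAbelian p V)
    (hV2 : Nat.card V = p ^ 2) : InUniqueMaximal V := by
  have hpp := hp.out
  obtain ⟨E, hEP, hEe, hE3⟩ := BG9.exists_elementary_of_not_pRankLE hpp hr
  have hEU := inUniqueMaximal_of_elementary_cube hG hpp hEe hE3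
  have h1 := BG9.card_le_mul_card_inf_centralizer hP hVP hPV hVe hV2 hEP
  have h2 : p ^ 2 ≤ Nat.card (E ⊓ Subgroup.centralizer (V : Set G) : Subgroup G) :=
    BG9.sq_le_card_of_cube_le hpp hE3 h1
  have hDe : IsElementaryAbelian p (E ⊓ Subgroup.centralizer (V : Set G)) :=
    BG9.isElementaryAbelian_of_le hEe inf_le_left
  have hDU : InUniqueMaximal (E ⊓ Subgroup.centralizer (V : Set G)) :=
    BG9.bg92 hG hEU (BG9.le_centralizer_of_isElementaryAbelian hEe inf_le_left)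
      (BG9.not_rankLE_of_elementary' hpp le_rfl hDe h2)
  exact BG9.bg92 hG hDU (BG9.le_centralizer_symm inf_le_right)
    (BG9.not_rankLE_of_elementary' hpp le_rfl hVe (by rw [hV2]))

/-- The `p`-group lemma behind B&G 10.3. -/
theorem pgroup_lemma {p : ℕ} [hp : Fact p.Prime] (hp2 : p ≠ 2) {P X A : Subgroup G}
    (hP : IsPGroup p P) (hXP : X ≤ Subgroup.normalizer (P : Set G))
    (hcop : (Nat.card X).Coprime (Nat.card P)) (hAP : A ≤ P)
    (hAX : A ≤ Subgroup.centralizer (X : Set G)) (hAe : IsElementaryAbelian p A)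
    (hA2 : Nat.card A = p ^ 2) :
    (∃ B : Subgroup G, B ≤ P ∧ IsElementaryAbelian p B ∧ A ≤ B ∧ p ^ (2 + 1) ≤ Nat.card B) ∨
    (∃ V : Subgroup G, V ≤ P ∧ P ≤ Subgroup.normalizer (V : Set G) ∧ IsElementaryAbelian p V ∧
      Nat.card V = p ^ 2 ∧ (V ≤ Subgroup.centralizer (X : Set G) ∨
        A ≤ Subgroup.centralizer (V : Set G))) := by
  classical
  have hpp := hp.out
  have hA1 : A ≠ ⊥ := by
    intro h
    rw [h, Subgroup.card_bot] at hA2
    have : 1 < p ^ 2 := Nat.one_lt_pow (by norm_num) hpp.one_lt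
    omega
  have hP1 : P ≠ ⊥ := fun h => hA1 (le_bot_iff.mp (h ▸ hAP))
  obtain ⟨Z, hZdef⟩ : ∃ Z : Subgroup G, Z = omegaZ p P := ⟨_, rfl⟩
  have hZP : Z ≤ P := hZdef ▸ omegaZ_le p P
  have hZC : Z ≤ Subgroup.centralizer (P : Set G) := hZdef ▸ omegaZ_le_centralizer p P
  have hZe : IsElementaryAbelian p Z := hZdef ▸ omegaZ_elementary p P
  have hZ1 : Z ≠ ⊥ := hZdef ▸ omegaZ_ne_bot hP hP1
  have hPZ : P ≤ Subgroup.normalizer (Z : Set G) :=
    Subgroup.le_normalizer.trans (hZdef ▸ normalizer_le_normalizer_omegaZ p P)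
  have hZcent : ∀ w ∈ Z, ∀ g ∈ P, g * w = w * g :=
    fun w hw g hg => Subgroup.mem_centralizer_iff.mp (hZC hw) g hg
  by_cases hZA : Z ≤ A
  swap
  · left
    obtain ⟨z, hzZ, hzA⟩ := SetLike.not_le_iff_exists.mp hZA
    have hzC : z ∈ Subgroup.centralizer (A : Set G) := by
      rw [Subgroup.mem_centralizer_iff]
      intro a ha
      exact hZcent z hzZ a (hAP ha)
    obtain ⟨hBe, hBc⟩ := elementary_sup_zpowers hAe hzC (hZe.2 z hzZ) hzA
    refine ⟨A ⊔ Subgroup.zpowers z, sup_le hAP ((Subgroup.zpowers_le).mpr (hZP hzZ)), hBe,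
      le_sup_left, ?_⟩
    rw [hBc, hA2]
    exact le_of_eq (by ring)
  have hZX : Z ≤ Subgroup.centralizer (X : Set G) := hZA.trans hAX
  by_cases hZeq : Z = A
  · right
    exact ⟨A, hAP, hZeq ▸ hPZ, hAe, hA2, Or.inl hAX⟩
  have hZcard : Nat.card Z = p := by
    obtain ⟨k, hk⟩ := IsPGroup.iff_card.mp (hP.to_le hZP)
    have hlt : Nat.card Z < Nat.card A := BG7.card_lt_of_lt' (lt_of_le_of_ne hZA hZeq)
    rw [hk, hA2] at hlt
    have hk2 : k < 2 := (Nat.pow_lt_pow_iff_right hpp.one_lt).mp hlt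
    have hk0 : k ≠ 0 := by
      rintro rfl
      rw [pow_zero] at hk
      exact hZ1 (Subgroup.card_eq_one.mp hk)
    have hk1 : k = 1 := by omega
    rw [hk, hk1, pow_one]
  -- the subgroup `T = Ω₁(Z₂(P))`
  obtain ⟨T₀, hT₀def⟩ : ∃ T₀ : Subgroup ↥P, T₀ =
    Subgroup.closure {u : ↥P | u ∈ Subgroup.upperCentralSeries ↥P 2 ∧ u ^ p = 1} := ⟨_, rfl⟩
  have hT₀mem : ∀ u ∈ T₀, u ∈ Subgroup.upperCentralSeries ↥P 2 ∧ u ^ p = 1 := by
    intro u hu
    rw [hT₀def] at hu
    exact Rk.mem_closure_ucs2_pow hp2 hu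
  haveI hT₀char : T₀.Characteristic := by
    rw [Subgroup.characteristic_iff_map_le]
    intro φ
    rw [hT₀def, MonoidHom.map_closure, Subgroup.closure_le]
    rintro _ ⟨u, ⟨hu2, hup⟩, rfl⟩
    apply Subgroup.subset_closure
    refine ⟨?_, ?_⟩
    · exact (NW.map_mem_iff_of_char _ inferInstance φ u).mpr hu2
    · show (φ u) ^ p = 1
      rw [← map_pow, hup, map_one]
  obtain ⟨T, hTdef⟩ : ∃ T : Subgroup G, T = T₀.map P.subtype := ⟨_, rfl⟩
  have hTP : T ≤ P := hTdef ▸ Subgroup.map_subtype_le _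
  have hXT : X ≤ Subgroup.normalizer (T : Set G) :=
    hXP.trans (hTdef ▸ normalizer_le_normalizer_map_characteristic P T₀)
  have hTp : ∀ u ∈ T, u ^ p = 1 := by
    intro u hu
    rw [hTdef] at hu
    obtain ⟨t, ht, rfl⟩ := hu
    have h1 := (hT₀mem t ht).2
    have h2 := congrArg Subtype.val h1
    simpa using h2
  have hTZ : ∀ u ∈ T, ∀ y ∈ P, ⁅u, y⁆ ∈ Z := by
    intro u hu y hy
    rw [hTdef] at hu
    obtain ⟨t, ht, rfl⟩ := hu
    obtain ⟨ht2, htp⟩ := hT₀mem t ht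
    have hc : ⁅t, (⟨y, hy⟩ : ↥P)⁆ ∈ Subgroup.center ↥P := Rk.mem_ucs2_iff.mp ht2 _
    have hcp : ⁅t, (⟨y, hy⟩ : ↥P)⁆ ^ p = 1 := by
      rw [← Rk.comm_pow_left_of_ucs2 ht2, htp]
      simp
    have e : ⁅(P.subtype t), y⁆ = ((⁅t, (⟨y, hy⟩ : ↥P)⁆ : ↥P) : G) := by
      simp [commutatorElement_def]
    rw [e, hZdef, mem_omegaZ]
    refine ⟨(⁅t, (⟨y, hy⟩ : ↥P)⁆ : ↥P).2, ?_, ?_⟩
    · rw [Subgroup.mem_centralizer_iff]
      intro d hd
      have h1 := Subgroup.mem_center_iff.mp hc ⟨d, hd⟩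
      exact congrArg Subtype.val h1
    · have h1 := congrArg Subtype.val hcp
      simpa using h1
  have hZT : Z ≤ T := by
    intro z hz
    have hzP := hZP hz
    rw [hTdef]
    refine ⟨⟨z, hzP⟩, ?_, rfl⟩
    rw [hT₀def]
    apply Subgroup.subset_closure
    refine ⟨?_, ?_⟩
    · rw [Rk.mem_ucs2_iff]
      intro y
      have h1 : ⁅(⟨z, hzP⟩ : ↥P), y⁆ = 1 := by
        rw [commutatorElement_eq_one_iff_mul_comm]
        apply Subtype.ext
        exact (hZcent z hz y.1 y.2).symm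
      rw [h1]; exact Subgroup.one_mem _
    · apply Subtype.ext
      simpa using hZe.2 z hz
  have hPnc : ¬ IsCyclic ↥P := BG9.not_isCyclic_of_elementary hpp hAP hAe (by rw [hA2])
  obtain ⟨V₀, hV₀P, hPV₀, hV₀e, hV₀2⟩ := BG9.exists_normal_elementary_sq hp2 hP hPnc
  have hV₀T : V₀ ≤ T := by
    haveI hV₀n : (V₀.subgroupOf P).Normal :=
      (Subgroup.normal_subgroupOf_iff_le_normalizer hV₀P).mpr hPV₀
    have hcard : Nat.card (V₀.subgroupOf P) = p ^ 2 := by
      rw [card_subgroupOf_of_le hV₀P, hV₀2]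
    have hle := Rk.le_ucs2_of_normal_card_sq (show IsPGroup p ↥P from hP) (V₀.subgroupOf P) hcard
    intro v hv
    rw [hTdef]
    refine ⟨⟨v, hV₀P hv⟩, ?_, rfl⟩
    rw [hT₀def]
    apply Subgroup.subset_closure
    refine ⟨hle (Subgroup.mem_subgroupOf.mpr hv), ?_⟩
    apply Subtype.ext
    simpa using hV₀e.2 v hv
  obtain ⟨u₀, hu₀T, hu₀Z⟩ : ∃ u₀ ∈ T, u₀ ∉ Z := by
    by_contra hcon
    push Not at hcon
    have hle : V₀ ≤ Z := fun v hv => hcon v (hV₀T hv)
    have h1 := Subgroup.card_le_of_le hle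
    rw [hV₀2, hZcard] at h1
    have h2 : p ^ 1 < p ^ 2 := Nat.pow_lt_pow_right hpp.one_lt (by norm_num)
    rw [pow_one] at h2
    omega
  have hVu : ∀ u ∈ T, u ∉ Z → (Z ⊔ Subgroup.zpowers u ≤ P) ∧
      P ≤ Subgroup.normalizer ((Z ⊔ Subgroup.zpowers u : Subgroup G) : Set G) ∧
      IsElementaryAbelian p (Z ⊔ Subgroup.zpowers u) ∧
      Nat.card (Z ⊔ Subgroup.zpowers u : Subgroup G) = p ^ 2 := by
    intro u hu huZ
    have huP := hTP hu
    have huC : u ∈ Subgroup.centralizer (Z : Set G) := BG9.le_centralizer_symm hZC huP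
    obtain ⟨hVe, hVc⟩ := elementary_sup_zpowers hZe huC (hTp u hu) huZ
    refine ⟨sup_le hZP ((Subgroup.zpowers_le).mpr huP), ?_, hVe, by rw [hVc, hZcard, sq]⟩
    apply le_normalizer_of_conj_mem
    intro y hy v hv
    have hsub : Z ⊔ Subgroup.zpowers u ≤
        (Z ⊔ Subgroup.zpowers u).comap (MulAut.conj y).toMonoidHom := by
      apply sup_le
      · intro z hz
        rw [Subgroup.mem_comap]
        show y * z * y⁻¹ ∈ _
        have h1 : y * z * y⁻¹ = z := by
          rw [hZcent z hz y hy]; group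
        rw [h1]; exact Subgroup.mem_sup_left hz
      · rw [Subgroup.zpowers_le, Subgroup.mem_comap]
        show y * u * y⁻¹ ∈ _
        have h1 : ⁅y, u⁆ ∈ Z := by
          have h2 := hTZ u hu y hy
          rw [← commutatorElement_inv]
          exact Z.inv_mem h2
        have e : y * u * y⁻¹ = ⁅y, u⁆ * u := by rw [commutatorElement_def]; group
        rw [e]
        exact Subgroup.mul_mem_sup h1 (Subgroup.mem_zpowers u)
    exact hsub hv
  by_cases hcase : ∃ u ∈ T, u ∉ Z ∧ u ∈ Subgroup.centralizer (X : Set G)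
  · obtain ⟨u, hu, huZ, huX⟩ := hcase
    obtain ⟨h1, h2, h3, h4⟩ := hVu u hu huZ
    right
    exact ⟨_, h1, h2, h3, h4, Or.inl (sup_le hZX ((Subgroup.zpowers_le).mpr huX))⟩
  push Not at hcase
  obtain ⟨h1, h2, h3, h4⟩ := hVu u₀ hu₀T hu₀Z
  right
  refine ⟨_, h1, h2, h3, h4, Or.inr ?_⟩
  have hclaim : ∀ a ∈ A, ∀ u ∈ T, u * a = a * u := by
    intro a ha u hu
    have haP := hAP ha
    have haX : ∀ x ∈ X, x * a = a * x :=
      fun x hx => Subgroup.mem_centralizer_iff.mp (hAX ha) x hx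
    obtain ⟨N, hNdef⟩ : ∃ N : Subgroup G, N = T ⊓ Subgroup.centralizer ({a} : Set G) :=
      ⟨_, rfl⟩
    have hmemN : ∀ g, g ∈ N ↔ g ∈ T ∧ a * g = g * a := by
      intro g
      rw [hNdef, Subgroup.mem_inf, Subgroup.mem_centralizer_iff]
      constructor
      · rintro ⟨h1, h2⟩
        exact ⟨h1, h2 a rfl⟩
      · rintro ⟨h1, h2⟩
        refine ⟨h1, ?_⟩
        intro b hb
        rw [Set.mem_singleton_iff] at hb
        rw [hb]; exact h2
    have hconj : ∀ t ∈ T, ∃ w ∈ Z, a * t * a⁻¹ = w * t := by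
      intro t ht
      refine ⟨⁅a, t⁆, ?_, by rw [commutatorElement_def]; group⟩
      have h5 := hTZ t ht a haP
      rw [← commutatorElement_inv]
      exact Z.inv_mem h5
    have hZx : ∀ w ∈ Z, ∀ x ∈ X, x * w = w * x :=
      fun w hw x hx => Subgroup.mem_centralizer_iff.mp (hZX hw) x hx
    have hZN : Z ≤ N := by
      intro z hz
      rw [hmemN]
      exact ⟨hZT hz, hZcent z hz a haP⟩
    have hNT : N ≤ T := by rw [hNdef]; exact inf_le_left
    have hTN : T ≤ Subgroup.normalizer (N : Set G) := by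
      apply le_normalizer_of_conj_mem
      intro t ht n hn
      obtain ⟨hnT, hna⟩ := (hmemN n).mp hn
      rw [hmemN]
      refine ⟨T.mul_mem (T.mul_mem ht hnT) (T.inv_mem ht), ?_⟩
      obtain ⟨c, hcdef⟩ : ∃ c, c = ⁅t, n⁆ := ⟨_, rfl⟩
      have hcZ : c ∈ Z := hcdef ▸ hTZ t ht n (hTP hnT)
      have e : t * n * t⁻¹ = c * n := by rw [hcdef, commutatorElement_def]; group
      rw [e]
      have h6 := hZcent c hcZ a haP
      calc a * (c * n) = (a * c) * n := by group
        _ = c * a * n := by rw [h6]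
        _ = c * (a * n) := by group
        _ = c * (n * a) := by rw [hna]
        _ = c * n * a := by group
    have hXN : X ≤ Subgroup.normalizer (N : Set G) := by
      apply le_normalizer_of_conj_mem
      intro x hx n hn
      obtain ⟨hnT, hna⟩ := (hmemN n).mp hn
      rw [hmemN]
      refine ⟨(Subgroup.mem_normalizer_iff.mp (hXT hx) n).mp hnT, ?_⟩
      have hxa := haX x hx
      have hxa' : a * x⁻¹ = x⁻¹ * a := by
        calc a * x⁻¹ = x⁻¹ * (x * a) * x⁻¹ := by group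
          _ = x⁻¹ * (a * x) * x⁻¹ := by rw [hxa]
          _ = x⁻¹ * a := by group
      calc a * (x * n * x⁻¹) = (a * x) * n * x⁻¹ := by group
        _ = (x * a) * n * x⁻¹ := by rw [hxa]
        _ = x * (a * n) * x⁻¹ := by group
        _ = x * (n * a) * x⁻¹ := by rw [hna]
        _ = x * n * (a * x⁻¹) := by group
        _ = x * n * (x⁻¹ * a) := by rw [hxa']
        _ = x * n * x⁻¹ * a := by group
    have hfix : ∀ x ∈ X, x * u * x⁻¹ * u⁻¹ ∈ N := by
      intro x hx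
      have hxu : x * u * x⁻¹ ∈ T := (Subgroup.mem_normalizer_iff.mp (hXT hx) u).mp hu
      rw [hmemN]
      refine ⟨T.mul_mem hxu (T.inv_mem hu), ?_⟩
      obtain ⟨w, hw, hwu⟩ := hconj u hu
      have hxa := haX x hx
      have hwx := hZx w hw x hx
      have h7 : a * (x * u * x⁻¹) * a⁻¹ = w * (x * u * x⁻¹) := by
        calc a * (x * u * x⁻¹) * a⁻¹ = (a * x) * u * (a * x)⁻¹ := by group
          _ = (x * a) * u * (x * a)⁻¹ := by rw [hxa]
          _ = x * (a * u * a⁻¹) * x⁻¹ := by group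
          _ = x * (w * u) * x⁻¹ := by rw [hwu]
          _ = (x * w) * u * x⁻¹ := by group
          _ = (w * x) * u * x⁻¹ := by rw [hwx]
          _ = w * (x * u * x⁻¹) := by group
      have hgP : x * u * x⁻¹ * u⁻¹ ∈ P := hTP (T.mul_mem hxu (T.inv_mem hu))
      have hwg := hZcent w hw _ hgP
      have h8 : a * (x * u * x⁻¹ * u⁻¹) * a⁻¹ = x * u * x⁻¹ * u⁻¹ := by
        calc a * (x * u * x⁻¹ * u⁻¹) * a⁻¹
            = (a * (x * u * x⁻¹) * a⁻¹) * (a * u * a⁻¹)⁻¹ := by group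
          _ = (w * (x * u * x⁻¹)) * (w * u)⁻¹ := by rw [h7, hwu]
          _ = w * (x * u * x⁻¹ * u⁻¹) * w⁻¹ := by group
          _ = (x * u * x⁻¹ * u⁻¹) * w * w⁻¹ := by rw [← hwg]
          _ = x * u * x⁻¹ * u⁻¹ := by group
      calc a * (x * u * x⁻¹ * u⁻¹) = (a * (x * u * x⁻¹ * u⁻¹) * a⁻¹) * a := by group
        _ = (x * u * x⁻¹ * u⁻¹) * a := by rw [h8]
    have hTpg : IsPGroup p ↥T := hP.to_le hTP
    haveI : Group.IsNilpotent ↥T := hTpg.isNilpotent
    have hcopT : (Nat.card X).Coprime (Nat.card T) :=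
      Nat.Coprime.coprime_dvd_right (Subgroup.card_dvd_of_le hTP) hcop
    obtain ⟨c, hc, huc⟩ := coprime_fixed_points_quotient X T hXT hcopT (Or.inr inferInstance) N hNT
      hTN hXN u hu hfix
    obtain ⟨hcT, hcX⟩ := Subgroup.mem_inf.mp hc
    have hcZ : c ∈ Z := by
      by_contra h
      exact hcase c hcT h hcX
    have hcN : c ∈ N := hZN hcZ
    have huN : u ∈ N := by
      have h9 : u⁻¹ ∈ N := by
        have e : u⁻¹ = (u⁻¹ * c) * c⁻¹ := by group
        rw [e]; exact N.mul_mem huc (N.inv_mem hcN)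
      have h10 := N.inv_mem h9
      rwa [inv_inv] at h10
    exact ((hmemN u).mp huN).2.symm
  intro a ha
  have hsub : Z ⊔ Subgroup.zpowers u₀ ≤ Subgroup.centralizer ({a} : Set G) := by
    apply sup_le
    · intro z hz
      rw [Subgroup.mem_centralizer_iff]
      intro b hb
      rw [Set.mem_singleton_iff] at hb
      rw [hb]
      exact hZcent z hz a (hAP ha)
    · rw [Subgroup.zpowers_le, Subgroup.mem_centralizer_iff]
      intro b hb
      rw [Set.mem_singleton_iff] at hb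
      rw [hb]
      exact (hclaim a ha u₀ hu₀T).symm
  rw [Subgroup.mem_centralizer_iff]
  intro v hv
  exact (Subgroup.mem_centralizer_iff.mp (hsub hv) a rfl).symm

/-- B&G Lemma 10.3 -/
theorem s1406 (hG : IsMinSimpleOddOrder G) {M : Subgroup G} (hM : IsCoatom M) {X : Subgroup G}
    (hXM : X ≤ M) (hXα : ∀ p : ℕ, p.Prime → p ∣ Nat.card X → p ∉ alpha M)
    (hr : ¬ RankLE 1 ↥(alphaCore M ⊓ Subgroup.centralizer (X : Set G))) :
    InUniqueMaximal (M ⊓ Subgroup.centralizer (X : Set G)) := by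
  classical
  obtain ⟨p, hpp, A₀, hA₀le, hA₀e, hA₀c⟩ := BG7.exists_elementary_of_not_rankLE hr
  haveI : Fact p.Prime := ⟨hpp⟩
  have hA₀p : IsPGroup p A₀ := BG9.isPGroup_of_isElementaryAbelian hA₀e
  obtain ⟨A, hAA₀, hA2⟩ : ∃ A : Subgroup G, A ≤ A₀ ∧ Nat.card A = p ^ 2 := by
    obtain ⟨k, hk⟩ := IsPGroup.iff_card.mp hA₀p
    have hk2 : 2 ≤ k := by
      by_contra h
      push Not at h
      have h1 : p ^ k ≤ p ^ 1 := Nat.pow_le_pow_right hpp.pos (by omega)
      rw [← hk] at h1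
      have h3 : p ^ 1 < p ^ (1 + 1) := Nat.pow_lt_pow_right hpp.one_lt (by norm_num)
      omega
    obtain ⟨A', hA'⟩ := Sylow.exists_subgroup_card_pow_prime p (G := ↥A₀) (n := 2)
      (by rw [hk]; exact pow_dvd_pow p hk2)
    refine ⟨A'.map A₀.subtype, Subgroup.map_subtype_le _, ?_⟩
    rw [Subgroup.card_map_of_injective A₀.subtype_injective]; exact hA'
  have hAe : IsElementaryAbelian p A := BG9.isElementaryAbelian_of_le hA₀e hAA₀
  have hAα : A ≤ alphaCore M := hAA₀.trans (hA₀le.trans inf_le_left)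
  have hAX : A ≤ Subgroup.centralizer (X : Set G) := hAA₀.trans (hA₀le.trans inf_le_right)
  have hMαM : alphaCore M ≤ M := Subgroup.map_subtype_le _
  have hA1 : A ≠ ⊥ := by
    intro h
    rw [h, Subgroup.card_bot] at hA2
    have : 1 < p ^ 2 := Nat.one_lt_pow (by norm_num) hpp.one_lt
    omega
  have hAp : IsPGroup p A := BG9.isPGroup_of_isElementaryAbelian hAe
  have hαeq : alphaCore M = piCoreOf (alpha M) M := rfl
  have hMαpi : ∀ q : ℕ, q.Prime → q ∣ Nat.card (alphaCore M) → q ∈ alpha M := by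
    rw [hαeq]; exact BG7.piCoreOf_pi _ _
  have hpα : p ∈ alpha M :=
    hMαpi p hpp ((BG8.dvd_card_of_isPGroup_ne_bot hAp hA1).trans (Subgroup.card_dvd_of_le hAα))
  have hpG : p ∣ Nat.card G :=
    (BG8.dvd_card_of_isPGroup_ne_bot hAp hA1).trans (Subgroup.card_subgroup_dvd_card A)
  have hp2 : p ≠ 2 := BG9.odd_prime_of_dvd hG hpG
  have hXN : X ≤ Subgroup.normalizer (alphaCore M : Set G) := by
    rw [hαeq]; exact hXM.trans (BG7.le_normalizer_piCoreOf _ _)
  have hcop : (Nat.card X).Coprime (Nat.card (alphaCore M)) := by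
    by_contra h
    obtain ⟨q, hq, hqX, hqα⟩ := Nat.Prime.not_coprime_iff_dvd.mp h
    exact hXα q hq hqX (hMαpi q hq hqα)
  haveI hMs : Group.IsSolvable ↥M := BG7.isSolvable_of_ne_top hG hM.1
  have hsolv : Group.IsSolvable ↥(alphaCore M) := isSolvable_of_le hMαM
  have hXA : X ≤ Subgroup.normalizer (A : Set G) := by
    apply le_normalizer_of_conj_mem
    intro x hx a ha
    have h1 : x * a = a * x := Subgroup.mem_centralizer_iff.mp (hAX ha) x hx
    have h2 : x * a * x⁻¹ = a := by rw [h1]; group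
    rw [h2]; exact ha
  obtain ⟨P₀, hAP₀, hXP₀⟩ := coprime_invariant_le_sylow X (alphaCore M) hXN hcop (Or.inr hsolv) p A
    hAα hAp hXA
  obtain ⟨P, hPdef⟩ : ∃ P : Subgroup G,
    P = (P₀ : Subgroup ↥(alphaCore M)).map (alphaCore M).subtype := ⟨_, rfl⟩
  rw [← hPdef] at hAP₀ hXP₀
  have hPmaxα : BG8.IsMaxP p P (alphaCore M) := hPdef ▸ BG8.isMaxP_of_sylow P₀
  have hidx : ((piCore (alpha M) ↥M).index).Coprime p := by
    obtain ⟨S₀⟩ : Nonempty (Sylow p ↥M) := inferInstance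
    have h3 := alpha_sylow_le_piCore hG hM hpα S₀
    apply Nat.Coprime.symm
    rw [Nat.Prime.coprime_iff_not_dvd hpp]
    intro hd
    exact S₀.not_dvd_index (hd.trans (Subgroup.index_dvd_of_le h3))
  have hPmaxM : BG8.IsMaxP p P M := by
    refine ⟨hPmaxα.1.trans hMαM, hPmaxα.2.1, fun T hT hPT hTM => ?_⟩
    have hTα : T ≤ alphaCore M := by
      have h1 : T.subgroupOf M ≤ piCore (alpha M) ↥M :=
        BG9.le_of_normal_of_index_coprime (piCore (alpha M) ↥M) hidx (hT.comap_subtype)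
      intro t ht
      exact ⟨⟨t, hTM ht⟩, h1 (Subgroup.mem_subgroupOf.mpr ht), rfl⟩
    exact hPmaxα.2.2 T hT hPT hTα
  have hPr : ¬ PRankLE p 2 ↥P := by
    obtain ⟨E, hEM, hEe, hE3⟩ := BG9.exists_elementary_of_not_pRankLE hpp hpα.2
    obtain ⟨m, hm, hEm⟩ := exists_cj_ge hPmaxM (BG9.isPGroup_of_isElementaryAbelian hEe) hEM
    have h1 : BG7.cj m⁻¹ E ≤ P := by
      have h2 := BG7.cj_mono (k := m⁻¹) hEm
      rwa [BG7.cj_inv_cj] at h2
    have h2 : IsElementaryAbelian p (BG7.cj m⁻¹ E) := isElementaryAbelian_map hEe _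
    have h3 : Nat.card (BG7.cj m⁻¹ E) = Nat.card E := BG7.card_cj _ _
    exact BG9.not_pRankLE_of_elementary hpp h1 h2 (by rw [h3]; exact hE3)
  have hcopP : (Nat.card X).Coprime (Nat.card P) :=
    Nat.Coprime.coprime_dvd_right (Subgroup.card_dvd_of_le hPmaxα.1) hcop
  have hCtop : M ⊓ Subgroup.centralizer (X : Set G) ≠ ⊤ :=
    fun h => hM.1 (eq_top_iff.mpr (h ▸ inf_le_left))
  have hAr : ¬ RankLE 1 ↥A := BG9.not_rankLE_of_elementary' hpp le_rfl hAe (by rw [hA2])
  have hfinal : InUniqueMaximal A → InUniqueMaximal (M ⊓ Subgroup.centralizer (X : Set G)) :=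
    fun h => BG9.inUniqueMaximal_of_le h (le_inf (hAα.trans hMαM) hAX) hCtop
  rcases pgroup_lemma hp2 hPmaxM.2.1 hXP₀ hcopP hAP₀ hAX hAe hA2 with
    ⟨B, hBP, hBe, hAB, hB3⟩ | ⟨V, hVP, hPV, hVe, hV2, hV⟩
  · apply hfinal
    exact BG9.bg92 hG (inUniqueMaximal_of_elementary_cube hG hpp hBe hB3)
      (BG9.le_centralizer_of_isElementaryAbelian hBe hAB) hAr
  · have hVU := inUniqueMaximal_of_normal_sq hG hPmaxM.2.1 hPr hVP hPV hVe hV2
    rcases hV with hVX | hAV
    · exact BG9.inUniqueMaximal_of_le hVU (le_inf (hVP.trans hPmaxM.1) hVX) hCtop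
    · apply hfinal
      exact BG9.bg92 hG hVU hAV hAr

/-- B&G Lemma 10.5(a) -/
theorem s1408 (hG : IsMinSimpleOddOrder G) {M : Subgroup G} (hM : IsCoatom M) {p : ℕ}
    [hp : Fact p.Prime] (hr2 : PRankLE p 2 ↥M) (hr1 : ¬ PRankLE p 1 ↥M) :
    ¬ IsIdealPrime p G ∧ ∀ A : Subgroup G, A ≤ M → IsElementaryAbelian p A →
      Nat.card A = p ^ 2 → ∀ B : Subgroup G, IsElementaryAbelian p B → A ≤ B → B = A := by
  have hpp := hp.out
  have part2 : ∀ A : Subgroup G, A ≤ M → IsElementaryAbelian p A → Nat.card A = p ^ 2 →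
      ∀ B : Subgroup G, IsElementaryAbelian p B → A ≤ B → B = A := by
    intro A hAM hAe hA2 B hBe hAB
    by_contra hne
    have hlt : A < B := lt_of_le_of_ne hAB (Ne.symm hne)
    have hBp := BG9.isPGroup_of_isElementaryAbelian hBe
    obtain ⟨k, hk⟩ := IsPGroup.iff_card.mp hBp
    have hcl := BG7.card_lt_of_lt' hlt
    rw [hA2, hk] at hcl
    have hk3 : 3 ≤ k := by
      have h1 := (Nat.pow_lt_pow_iff_right hpp.one_lt).mp hcl
      omega
    have hB3 : p ^ (2 + 1) ≤ Nat.card B := by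
      rw [hk]; exact Nat.pow_le_pow_right hpp.pos hk3
    have hBU := inUniqueMaximal_of_elementary_cube hG hpp hBe hB3
    have hAr : ¬ RankLE 1 ↥A := BG9.not_rankLE_of_elementary' hpp le_rfl hAe (by rw [hA2])
    obtain ⟨M₀, ⟨hM₀, hAM₀⟩, hu⟩ :=
      BG9.bg92 hG hBU (BG9.le_centralizer_of_isElementaryAbelian hBe hAB) hAr
    have hMM₀ : M = M₀ := hu M ⟨hM, hAM⟩
    have hBM : B ≤ M := by
      rw [hMM₀]
      exact BG9.le_of_inUniqueMaximal (fun L hL => hu L hL) hAB (BG7.pgroup_ne_top hG hBp)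
    exact BG9.not_pRankLE_of_elementary hpp hBM hBe hB3 hr2
  refine ⟨?_, part2⟩
  rintro ⟨-, -, hid⟩
  obtain ⟨E, hEM, hEe, hE2⟩ := BG9.exists_elementary_of_not_pRankLE hpp hr1
  have hEp := BG9.isPGroup_of_isElementaryAbelian hEe
  have hEcard : Nat.card E = p ^ 2 := by
    obtain ⟨k, hk⟩ := IsPGroup.iff_card.mp hEp
    have h3 : ¬ p ^ (2 + 1) ≤ Nat.card E :=
      fun h => BG9.not_pRankLE_of_elementary hpp hEM hEe h hr2
    rw [hk] at hE2 h3 ⊢
    have hk2 : 2 ≤ k := by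
      by_contra h
      push Not at h
      have h4 : p ^ k ≤ p ^ 1 := Nat.pow_le_pow_right hpp.pos (by omega)
      have h5 : p ^ 1 < p ^ (1 + 1) := Nat.pow_lt_pow_right hpp.one_lt (by norm_num)
      omega
    have hk3 : k < 3 := by
      by_contra h
      push Not at h
      exact h3 (Nat.pow_le_pow_right hpp.pos h)
    have hk' : k = 2 := by omega
    rw [hk']
  obtain ⟨P, hEP⟩ := hEp.exists_le_sylow
  obtain ⟨B, hBP, hBe, hEB⟩ := hid P E hEP hEe hEcard
  exact (ne_of_lt hEB) (part2 E hEM hEe hEcard B hBe hEB.le).symm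

/-- B&G Lemma 10.5(b) -/
theorem s1409 (hG : IsMinSimpleOddOrder G) {M : Subgroup G} (hM : IsCoatom M) {p : ℕ}
    [hp : Fact p.Prime] (hpσ : p ∉ sigma M) {X : Subgroup G} (hX : Nat.card X = p)
    (hNX : Subgroup.normalizer (X : Set G) ≤ M) :
    (PRankLE p 2 ↥M ∧ ¬ PRankLE p 1 ↥M) ∧ ¬ IsIdealPrime p G ∧
      ∃ A : Subgroup G, IsElementaryAbelian p A ∧ Nat.card A = p ^ 2 ∧ X ≤ A := by
  classical
  have hpp := hp.out
  have hXM : X ≤ M := Subgroup.le_normalizer.trans hNX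
  have hXp : IsPGroup p X := IsPGroup.of_card (n := 1) (by rw [hX, pow_one])
  have hX1 : X ≠ ⊥ := by
    intro h
    rw [h, Subgroup.card_bot] at hX
    exact hpp.one_lt.ne hX
  obtain ⟨P, hP, hXP⟩ := exists_isMaxP_ge hXp hXM
  have hPp := hP.2.1
  have hP1 : P ≠ ⊥ := fun h => hX1 (le_bot_iff.mp (h ▸ hXP))
  have hr2 : PRankLE p 2 ↥M := by
    by_contra h
    exact hpσ (alpha_subset_sigma hG hM ⟨hpp, h⟩)
  have hpM : p ∣ Nat.card M := by rw [← hX]; exact Subgroup.card_dvd_of_le hXM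
  have hZne : ¬ omegaZ p P ≤ X := by
    intro hle
    have hcardZ : Nat.card (omegaZ p P) = p := by
      have hd : Nat.card (omegaZ p P) ∣ p := by
        have hd' : Nat.card (omegaZ p P) ∣ Nat.card X := Subgroup.card_dvd_of_le hle
        rwa [hX] at hd'
      rcases (Nat.dvd_prime hpp).mp hd with h | h
      · exact absurd (Subgroup.card_eq_one.mp h) (omegaZ_ne_bot hPp hP1)
      · exact h
    have heq : omegaZ p P = X := Subgroup.eq_of_le_of_card_ge hle (by rw [hcardZ, hX])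
    have hNP : Subgroup.normalizer (P : Set G) ≤ M := by
      refine le_trans ?_ hNX
      rw [← heq]; exact normalizer_le_normalizer_omegaZ p P
    obtain ⟨P₀, hP₀⟩ := hP.exists_sylow
    exact hpσ ⟨hpp, hpM, P₀, by rw [hP₀]; exact hNP⟩
  obtain ⟨z, hzZ, hzX⟩ := SetLike.not_le_iff_exists.mp hZne
  have hXe : IsElementaryAbelian p X := by
    haveI hcyc : IsCyclic ↥X := isCyclic_of_prime_card hX
    rw [isElementaryAbelian_iff]
    constructor
    · intro x hx y hy
      obtain ⟨g, hg⟩ := hcyc.exists_generator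
      obtain ⟨i, hi⟩ := Subgroup.mem_zpowers_iff.mp (hg ⟨x, hx⟩)
      obtain ⟨j, hj⟩ := Subgroup.mem_zpowers_iff.mp (hg ⟨y, hy⟩)
      have hx' : x = (g : G) ^ i := by rw [← Subgroup.coe_zpow, hi]
      have hy' : y = (g : G) ^ j := by rw [← Subgroup.coe_zpow, hj]
      rw [hx', hy', ← zpow_add, ← zpow_add, add_comm]
    · intro x hx
      have h1 := pow_card_eq_one' (G := ↥X) (x := ⟨x, hx⟩)
      rw [hX] at h1
      have h2 := congrArg Subtype.val h1
      simpa using h2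
  have hzP : z ∈ P := omegaZ_le p P hzZ
  have hzC : z ∈ Subgroup.centralizer (X : Set G) := by
    rw [Subgroup.mem_centralizer_iff]
    intro x hx
    exact Subgroup.mem_centralizer_iff.mp (omegaZ_le_centralizer p P hzZ) x (hXP hx)
  obtain ⟨hAe, hAc⟩ := elementary_sup_zpowers hXe hzC hzZ.2.2 hzX
  have hA2 : Nat.card (X ⊔ Subgroup.zpowers z : Subgroup G) = p ^ 2 := by rw [hAc, hX, sq]
  have hAM : X ⊔ Subgroup.zpowers z ≤ M := sup_le hXM ((Subgroup.zpowers_le).mpr (hP.1 hzP))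
  have hr1 : ¬ PRankLE p 1 ↥M := BG9.not_pRankLE_of_elementary hpp hAM hAe (by rw [hA2])
  exact ⟨⟨hr2, hr1⟩, (s1408 hG hM hr2 hr1).1, _, hAe, hA2, le_sup_left⟩

/-- B&G Lemma 10.4 -/
theorem s1407 (hG : IsMinSimpleOddOrder G) {M : Subgroup G} (hM : IsCoatom M) {p : ℕ}
    [hp : Fact p.Prime] (hpM : p ∣ Nat.card M) (hpσ : p ∉ sigma M) (P : Sylow p ↥M) :
    ∃ x : G, x ∈ ((Subgroup.center ↥(P : Subgroup M)).map (P : Subgroup M).subtype).map M.subtype ∧
      orderOf x = p ∧ IsZGroup ↥(alphaCore M ⊓ Subgroup.centralizer ({x} : Set G)) ∧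
      ¬ (Subgroup.centralizer ({x} : Set G) ≤ M ∧ ∀ L : Subgroup G, IsCoatom L →
        Subgroup.centralizer ({x} : Set G) ≤ L → L = M) := by
  classical
  by_contra hcon
  push Not at hcon
  have hpp := hp.out
  obtain ⟨PG, hPGdef⟩ : ∃ PG : Subgroup G, PG = (P : Subgroup ↥M).map M.subtype := ⟨_, rfl⟩
  have hPG : BG8.IsMaxP p PG M := hPGdef ▸ BG8.isMaxP_of_sylow P
  have hPGp := hPG.2.1
  have hPG1 : PG ≠ ⊥ := by
    intro h
    have h1 : Nat.card PG = 1 := by rw [h]; exact Subgroup.card_bot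
    have h2 : ¬ p ∣ (P : Subgroup ↥M).index := P.not_dvd_index
    have h3 : Nat.card (P : Subgroup ↥M) = 1 := by
      rw [hPGdef, Subgroup.card_map_of_injective M.subtype_injective] at h1; exact h1
    have h4 : (P : Subgroup ↥M).index = Nat.card ↥M := by
      have h5 := Subgroup.card_mul_index (P : Subgroup ↥M)
      rw [h3, one_mul] at h5; exact h5
    exact h2 (h4 ▸ hpM)
  have hmem : ∀ z ∈ omegaZ p PG,
      z ∈ ((Subgroup.center ↥(P : Subgroup M)).map (P : Subgroup M).subtype).map M.subtype := by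
    intro z hz
    obtain ⟨hzP, hzC, -⟩ := hz
    rw [hPGdef] at hzP
    obtain ⟨w, hw, rfl⟩ := hzP
    refine ⟨w, ⟨⟨w, hw⟩, ?_, rfl⟩, rfl⟩
    refine Subgroup.mem_center_iff.mpr ?_
    intro y
    apply Subtype.ext
    apply Subtype.ext
    have hy : ((y : ↥M) : G) ∈ PG := by rw [hPGdef]; exact ⟨y.1, y.2, rfl⟩
    exact Subgroup.mem_centralizer_iff.mp hzC _ hy
  have hkey : ∀ z ∈ omegaZ p PG, z ≠ 1 → Subgroup.centralizer ({z} : Set G) ≤ M ∧
      ∀ L : Subgroup G, IsCoatom L → Subgroup.centralizer ({z} : Set G) ≤ L → L = M := by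
    intro z hz hz1
    have hzo : orderOf z = p := orderOf_eq_prime hz.2.2 hz1
    by_cases hZg : IsZGroup ↥(alphaCore M ⊓ Subgroup.centralizer ({z} : Set G))
    · exact hcon z (hmem z hz) hzo hZg
    · have hzM : z ∈ M := hPG.1 hz.1
      obtain ⟨X, hXdef⟩ : ∃ X : Subgroup G, X = Subgroup.zpowers z := ⟨_, rfl⟩
      have hCX : Subgroup.centralizer (X : Set G) = Subgroup.centralizer ({z} : Set G) := by
        rw [hXdef]; exact centralizer_zpowers_eq z
      have hXcard : Nat.card X = p := by rw [hXdef, Nat.card_zpowers, hzo]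
      have hr : ¬ RankLE 1 ↥(alphaCore M ⊓ Subgroup.centralizer (X : Set G)) := by
        rw [hCX]; exact not_rankLE_one_of_not_isZGroup hG hZg
      have hXα : ∀ q : ℕ, q.Prime → q ∣ Nat.card X → q ∉ alpha M := by
        intro q hq hqd hqα
        rw [hXcard] at hqd
        have h1 : q = p := (Nat.prime_dvd_prime_iff_eq hq hpp).mp hqd
        rw [h1] at hqα
        exact hpσ (alpha_subset_sigma hG hM hqα)
      have hXM : X ≤ M := by rw [hXdef, Subgroup.zpowers_le]; exact hzM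
      obtain ⟨M₀, ⟨hM₀, hle⟩, hu⟩ := s1406 hG hM hXM hXα hr
      have hMM₀ : M = M₀ := hu M ⟨hM, inf_le_left⟩
      rw [hCX] at hle hu
      have hCtop := BG7.centralizer_singleton_ne_top hG hz1
      have hle2 : M ⊓ Subgroup.centralizer ({z} : Set G) ≤ Subgroup.centralizer ({z} : Set G) :=
        inf_le_right
      refine ⟨?_, ?_⟩
      · rw [hMM₀]; exact BG9.le_of_inUniqueMaximal (fun L hL => hu L hL) hle2 hCtop
      · intro L hL hCL
        rw [hMM₀]; exact hu L ⟨hL, hle2.trans hCL⟩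
  have hZ1 := omegaZ_ne_bot hPGp hPG1
  obtain ⟨⟨z, hzZ⟩, hz1'⟩ := (Subgroup.ne_bot_iff_exists_ne_one).mp hZ1
  have hz1 : z ≠ 1 := fun h => hz1' (Subtype.ext h)
  have hM1 : M ≠ ⊥ := by
    intro h
    rw [h, Subgroup.card_bot] at hpM
    exact hpp.one_lt.ne' (Nat.dvd_one.mp hpM)
  have hNM : Subgroup.normalizer (M : Set G) = M := by
    by_contra hne
    have hlt : M < Subgroup.normalizer (M : Set G) :=
      lt_of_le_of_ne Subgroup.le_normalizer (Ne.symm hne)
    exact BG7.normalizer_ne_top hG hM1 hM.1 (hM.2 _ hlt)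
  have hNP : Subgroup.normalizer (PG : Set G) ≤ M := by
    intro n hn
    have hnZ : n ∈ Subgroup.normalizer (omegaZ p PG : Set G) :=
      normalizer_le_normalizer_omegaZ p PG hn
    have hz' : n * z * n⁻¹ ∈ omegaZ p PG := (Subgroup.mem_normalizer_iff.mp hnZ z).mp hzZ
    have hz'1 : n * z * n⁻¹ ≠ 1 := by
      intro h
      apply hz1
      have e : z = n⁻¹ * (n * z * n⁻¹) * n := by group
      rw [e, h]; group
    obtain ⟨hC', -⟩ := hkey _ hz' hz'1
    obtain ⟨-, hCu⟩ := hkey z hzZ hz1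
    have hle : Subgroup.centralizer ({z} : Set G) ≤ BG7.cj n⁻¹ M := by
      intro y hy
      rw [BG7.mem_cj, inv_inv]
      apply hC'
      rw [Subgroup.mem_centralizer_iff]
      intro b hb
      rw [Set.mem_singleton_iff] at hb
      rw [hb]
      have hyz : z * y = y * z := Subgroup.mem_centralizer_iff.mp hy z rfl
      calc n * z * n⁻¹ * (n * y * n⁻¹) = n * (z * y) * n⁻¹ := by group
        _ = n * (y * z) * n⁻¹ := by rw [hyz]
        _ = n * y * n⁻¹ * (n * z * n⁻¹) := by group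
    have h1 := hCu _ (BG9.isCoatom_cj hM n⁻¹) hle
    have h2 : n⁻¹ ∈ Subgroup.normalizer (M : Set G) := BG7.mem_normalizer_of_cj_eq h1
    rw [hNM] at h2
    have h3 := M.inv_mem h2
    rwa [inv_inv] at h3
  exact hpσ ⟨hpp, hpM, P, by rw [← hPGdef]; exact hNP⟩

end Cfsg.Agent.Lib.Helper1.BT
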