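import Mathlib
import Cfsg.Prelude.Def_LocalEven
import Cfsg.Agent.Lib.Helper1.ZJ6
import Cfsg.Agent.Lib.Helper1.FF13
import Cfsg.Agent.Lib.Helper1.BestOffender
import Cfsg.Agent.Lib.Helper1.Timmesfeld

/-! Auxiliary lemmas for the abelian-version Thompson subgroup. -/
set_option autoImplicit false
universe u

namespace Cfsg.Agent.Lib.Helper1.ThA

open Cfsg Cfsg.Agent.Lib.Helper1 Cfsg.Agent.Lib.Helper1.ZJ Subgroup
open scoped commutatorElement

variable {G : Type u} [Group G]

/-- A `p'`-element normalizing an abelian `p`-group and centralizing its elements of order `p`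
centralizes it. -/
theorem centralizes_of_centralizes_omega_comm [Finite G] {p : ℕ} [hp : Fact p.Prime]
    (V : Subgroup G) (hVc : ∀ x ∈ V, ∀ y ∈ V, x * y = y * x) (hVp : IsPGroup p V) (l : G)
    (hl : l ∈ normalizer (V : Set G)) (hlo : (orderOf l).Coprime p)
    (h : ∀ x ∈ V, x ^ p = 1 → l * x = x * l) : ∀ x ∈ V, l * x = x * l := by
  have key : ∀ n : ℕ, ∀ x ∈ V, x ^ (p ^ n) = 1 → l * x = x * l := by
    intro n
    induction n with
    | zero =>
      intro x _ hx
      rw [pow_zero, pow_one] at hx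
      rw [hx, mul_one, one_mul]
    | succ n ih =>
      intro x hx hxp
      have hxp' : (x ^ p) ^ (p ^ n) = 1 := by
        rw [← pow_mul, ← pow_succ']; exact hxp
      have h1 : l * x ^ p = x ^ p * l := ih (x ^ p) (V.pow_mem hx p) hxp'
      have hlx : l * x * l⁻¹ ∈ V := (Subgroup.mem_normalizer_iff.mp hl x).mp hx
      obtain ⟨z, hz⟩ : ∃ z, z = l * x * l⁻¹ * x⁻¹ := ⟨_, rfl⟩
      have hzV : z ∈ V := by rw [hz]; exact V.mul_mem hlx (V.inv_mem hx)
      have hzp : z ^ p = 1 := by
        rw [hz, (show Commute (l * x * l⁻¹) x⁻¹ from hVc _ hlx _ (V.inv_mem hx)).mul_pow,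
          conj_pow, inv_pow]
        have : l * x ^ p * l⁻¹ = x ^ p := by rw [h1]; group
        rw [this, mul_inv_cancel]
      have hlz : l * z = z * l := h z hzV hzp
      have h2 : l * x * l⁻¹ = z * x := by rw [hz]; group
      have h3 := FF.conj_pow_of_conj h2 hlz (orderOf l)
      rw [pow_orderOf_eq_one, one_mul, inv_one, mul_one] at h3
      have h4 : z ^ orderOf l = 1 := by
        have : z ^ orderOf l * x = 1 * x := by rw [← h3, one_mul]
        exact mul_right_cancel this
      have h5 : orderOf z ∣ orderOf l := orderOf_dvd_of_pow_eq_one h4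
      have h6 : orderOf z ∣ p := orderOf_dvd_of_pow_eq_one hzp
      have h7 : orderOf z = 1 := Nat.eq_one_of_dvd_coprimes hlo h5 h6
      have h8 : z = 1 := orderOf_eq_one_iff.mp h7
      rw [h8, one_mul] at h2
      exact mul_inv_eq_iff_eq_mul.mp h2
  intro x hx
  obtain ⟨k, hk⟩ := hVp ⟨x, hx⟩
  have hk' : x ^ (p ^ k) = 1 := by
    have := congrArg Subtype.val hk
    simpa using this
  exact key k x hx hk'

theorem prA_sup {B K : Subgroup G} (hB : PrA B) (hK : PrA K)
    (hKB : K ≤ centralizer (B : Set G)) : PrA (B ⊔ K) := by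
  have hBB : B ≤ centralizer (B : Set G) := by
    intro x hx
    rw [Subgroup.mem_centralizer_iff]
    intro y hy
    exact hB y hy x hx
  have hKK : K ≤ centralizer (K : Set G) := by
    intro x hx
    rw [Subgroup.mem_centralizer_iff]
    intro y hy
    exact hK y hy x hx
  have hBK : B ≤ centralizer (K : Set G) := Subgroup.le_centralizer_iff.mp hKB
  have h1 : B ⊔ K ≤ centralizer ((B ⊔ K : Subgroup G) : Set G) := by
    apply sup_le
    · rw [Subgroup.le_centralizer_iff]
      exact sup_le hBB hKB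
    · rw [Subgroup.le_centralizer_iff]
      exact sup_le hBK hKK
  intro x hx y hy
  exact (Subgroup.mem_centralizer_iff.mp (h1 hy) x hx)

/-- an abelian subgroup of largest order is `offVal`-maximal on an abelian subgroup -/
theorem offVal_le_of_mem_FPr [Finite G] {T A W : Subgroup G} (hA : A ∈ FPr (PrA (G := G)) T)
    (hWT : W ≤ T) (hWc : ∀ x ∈ W, ∀ y ∈ W, x * y = y * x) :
    ∀ B : Subgroup G, B ≤ A → offVal W B ≤ offVal W A := by
  intro B hBA
  obtain ⟨hAT, hAc, hAmax⟩ := hA
  have hAA : A ≤ centralizer (A : Set G) := by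
    intro x hx
    rw [Subgroup.mem_centralizer_iff]
    intro y hy
    exact hAc y hy x hx
  have hB : PrA B := fun x hx y hy => hAc x (hBA hx) y (hBA hy)
  have hK : PrA (W ⊓ centralizer (B : Set G)) :=
    fun x hx y hy => hWc x (Subgroup.mem_inf.mp hx).1 y (Subgroup.mem_inf.mp hy).1
  have h1 := prA_sup hB hK inf_le_right
  have h2 := hAmax _ (sup_le (hBA.trans hAT) (inf_le_left.trans hWT)) h1
  have h3 : B ⊓ (W ⊓ centralizer (B : Set G)) ≤ W ⊓ centralizer (A : Set G) := by
    apply le_inf
    · exact inf_le_right.trans inf_le_left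
    · exact inf_le_left.trans (hBA.trans hAA)
  unfold offVal
  calc Nat.card B * Nat.card ↥(W ⊓ centralizer (B : Set G))
      ≤ Nat.card (B ⊔ (W ⊓ centralizer (B : Set G)) : Subgroup G) *
        Nat.card (B ⊓ (W ⊓ centralizer (B : Set G)) : Subgroup G) :=
        card_mul_card_le_card_sup_mul_card_inf _ _
    _ ≤ Nat.card A * Nat.card ↥(W ⊓ centralizer (A : Set G)) :=
        Nat.mul_le_mul h2 (Subgroup.card_le_of_le h3)

/-- `J_a(T)` is normal if it lies in a normal subgroup `P₀ ≤ T` -/
theorem thompsonSubgroupAOf_normal_of_le [Finite G] {T P₀ : Subgroup G} (hP₀n : P₀.Normal)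
    (hP₀T : P₀ ≤ T) (hJ : thompsonSubgroupAOf T ≤ P₀) : (thompsonSubgroupAOf T).Normal := by
  rw [thompsonSubgroupAOf_eq] at hJ ⊢
  have fam := zjFamily_A (G := G) 2
  obtain ⟨A₀, hA₀⟩ := fam.nonempty T
  have hA₀P : A₀ ≤ P₀ := (le_sSup hA₀).trans hJ
  have hmono := fam.mono hP₀T hA₀ hA₀P
  have heq : FPr (PrA (G := G)) P₀ = FPr (PrA (G := G)) T := by
    ext A
    rw [hmono A]
    constructor
    · exact fun h => h.1
    · exact fun h => ⟨h, (le_sSup h).trans hJ⟩
  constructor
  intro x hx g
  have hmap : (sSup (FPr (PrA (G := G)) T)).map (MulAut.conj g).toMonoidHom ≤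
      sSup (FPr (PrA (G := G)) T) := by
    rw [Subgroup.map_le_iff_le_comap]
    apply sSup_le
    intro A hA
    rw [← Subgroup.map_le_iff_le_comap]
    apply le_sSup
    rw [← heq] at hA ⊢
    have := fam.map_mem (MulAut.conj g) hA
    have hP : P₀.map (MulAut.conj g).toMonoidHom = P₀ := by
      apply le_antisymm
      · rintro _ ⟨y, hy, rfl⟩
        exact hP₀n.conj_mem y hy g
      · intro y hy
        refine ⟨g⁻¹ * y * g, ?_, ?_⟩
        · have := hP₀n.conj_mem y hy g⁻¹
          simpa using this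
        · show MulAut.conj g (g⁻¹ * y * g) = y
          rw [MulAut.conj_apply]; group
    rw [hP] at this
    exact this
  exact hmap ⟨x, hx, rfl⟩

end Cfsg.Agent.Lib.Helper1.ThA
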