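import Mathlib
import Cfsg.Agent.Lib.Helper1.ComplementSystem
set_option autoImplicit false
universe u v
open scoped Pointwise commutatorElement
namespace Cfsg.Agent.Lib.Helper1
variable {G : Type u} [Group G]

theorem isNilpotent_of_forall_normal_p_complement (D : Type v) [Group D] [Finite D]
    (h : ∀ p : ℕ, p.Prime → ∃ N : Subgroup D, N.Normal ∧ (Nat.card N).Coprime p ∧
      ∃ k, N.index = p ^ k) :
    Group.IsNilpotent D := by
  apply (Group.isNilpotent_of_finite_tfae.out 0 3 rfl rfl).mpr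
  intro p hp P
  choose Nq hNq1 hNq2 hNq3 using h
  obtain ⟨M, hM⟩ : ∃ M : Subgroup D, M = ⨅ q : {q : ℕ // q.Prime ∧ q ≠ p}, Nq q.1 q.2.1 := ⟨_, rfl⟩
  have hMn : M.Normal := by
    rw [hM]; exact Subgroup.normal_iInf_normal (fun q => hNq1 q.1 q.2.1)
  have hMp : IsPGroup p M := by
    apply IsPGroup.of_card (n := (Nat.card M).primeFactorsList.length)
    apply Nat.eq_prime_pow_of_unique_prime_dvd Nat.card_pos.ne'
    intro d hd hdM
    by_contra hne
    have hle : M ≤ Nq d hd := by
      rw [hM]; exact iInf_le _ (⟨d, hd, hne⟩ : {q : ℕ // q.Prime ∧ q ≠ p})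
    have hdN : d ∣ Nat.card (Nq d hd) := dvd_trans hdM (Subgroup.card_dvd_of_le hle)
    exact hd.one_lt.ne' (Nat.eq_one_of_dvd_coprimes (hNq2 d hd) hdN dvd_rfl)
  have hPM : (P : Subgroup D) ≤ M := by
    rw [hM]
    apply le_iInf
    rintro ⟨q, hq, hqp⟩
    intro x hx
    have h1 : orderOf (QuotientGroup.mk' (Nq q hq) x) ∣ orderOf x := orderOf_map_dvd _ _
    obtain ⟨k, hk⟩ := (P.2 ⟨x, hx⟩)
    have h2 : orderOf x ∣ p ^ k := by
      apply orderOf_dvd_of_pow_eq_one
      have := congrArg Subtype.val hk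
      simpa using this
    obtain ⟨j, hj⟩ := hNq3 q hq
    have h3 : orderOf (QuotientGroup.mk' (Nq q hq) x) ∣ q ^ j := by
      rw [← hj, Subgroup.index_eq_card]; exact orderOf_dvd_natCard _
    have hcop : (p ^ k).Coprime (q ^ j) :=
      Nat.Coprime.pow _ _ ((Nat.coprime_primes hp.out hq).mpr (Ne.symm hqp))
    have h4 : orderOf (QuotientGroup.mk' (Nq q hq) x) = 1 :=
      Nat.eq_one_of_dvd_coprimes hcop (h1.trans h2) h3
    rw [orderOf_eq_one_iff] at h4
    exact (QuotientGroup.eq_one_iff x).mp h4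
  have : M = (P : Subgroup D) := P.is_maximal' hMp hPM
  rw [← this]; exact hMn

/-- S0544 -/
theorem systemNormalizer_isNilpotent [Finite G] (K : Nat.Primes → Subgroup G)
    (hK : Cfsg.IsComplementSystem K) : Group.IsNilpotent (Cfsg.systemNormalizer K) := by
  obtain ⟨D, hD⟩ : ∃ D : Subgroup G, D = Cfsg.systemNormalizer K := ⟨_, rfl⟩
  rw [← hD]
  apply isNilpotent_of_forall_normal_p_complement
  intro p hp
  have hDle : D ≤ Subgroup.normalizer (K ⟨p, hp⟩ : Set G) := by
    rw [hD]; exact iInf_le _ (⟨p, hp⟩ : Nat.Primes)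
  refine ⟨(K ⟨p, hp⟩).subgroupOf D, ?_, ?_, ?_⟩
  · exact Subgroup.normal_subgroupOf_of_le_normalizer hDle
  · exact Nat.Coprime.coprime_dvd_left (card_subgroupOf_dvd _ _)
      (complementSystem_card_coprime hK ⟨p, hp⟩)
  · have h1 : (K ⟨p, hp⟩).relIndex D ∣ (K ⟨p, hp⟩).index :=
      relIndex_dvd_index_of_le_normalizer _ _ hDle
    rw [hK ⟨p, hp⟩] at h1
    obtain ⟨k, -, hk⟩ := (Nat.dvd_prime_pow hp).mp h1
    exact ⟨k, hk⟩


theorem factorization_eq_of_eq_mul_pow {n m b p : ℕ} (hp : p.Prime) (hm : m.Coprime p)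
    (h : n = m * p ^ b) : n.factorization p = b := by
  have hm0 : m ≠ 0 := by
    rintro rfl
    rw [Nat.coprime_zero_left] at hm
    exact hp.one_lt.ne' hm
  have hpm : ¬ p ∣ m := (Nat.Prime.coprime_iff_not_dvd hp).mp hm.symm
  rw [h, Nat.factorization_mul hm0 (pow_ne_zero _ hp.ne_zero), Finsupp.add_apply,
    Nat.factorization_eq_zero_of_not_dvd hpm, zero_add, Nat.Prime.factorization_pow hp,
    Finsupp.single_eq_same]

theorem isComplementSystem_map_mk [Finite G] (K : Nat.Primes → Subgroup G)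
    (hK : Cfsg.IsComplementSystem K) (N : Subgroup G) [N.Normal] :
    Cfsg.IsComplementSystem (fun p => (K p).map (QuotientGroup.mk' N)) := by
  intro p
  beta_reduce
  have hsurj := QuotientGroup.mk'_surjective N
  have h1 : ((K p).map (QuotientGroup.mk' N)).index ∣ (K p).index :=
    Subgroup.index_map_dvd (K p) hsurj
  rw [hK p] at h1
  obtain ⟨b, -, hb⟩ := (Nat.dvd_prime_pow p.2).mp h1
  rw [hb]
  congr 1
  symm
  apply factorization_eq_of_eq_mul_pow p.2 (m := Nat.card ((K p).map (QuotientGroup.mk' N)))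
  · exact Nat.Coprime.coprime_dvd_left (Subgroup.card_map_dvd _ _)
      (complementSystem_card_coprime hK p)
  · rw [← hb]; exact (Subgroup.card_mul_index _).symm

theorem map_conj_smul' {G' : Type*} [Group G'] (f : G →* G') (g : G) (H : Subgroup G) :
    (MulAut.conj g • H).map f = MulAut.conj (f g) • H.map f := by
  rw [conj_smul_eq_map, conj_smul_eq_map, Subgroup.map_map, Subgroup.map_map]
  congr 1
  ext x
  simp

theorem systemNormalizer_map_mk [Finite G] [Group.IsSolvable G] (K : Nat.Primes → Subgroup G)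
    (hK : Cfsg.IsComplementSystem K) (N : Subgroup G) [N.Normal] :
    Cfsg.systemNormalizer (fun p => (K p).map (QuotientGroup.mk' N)) =
      (Cfsg.systemNormalizer K).map (QuotientGroup.mk' N) := by
  apply le_antisymm
  · intro x hx
    obtain ⟨g, rfl⟩ := QuotientGroup.mk'_surjective N x
    unfold Cfsg.systemNormalizer at hx
    rw [Subgroup.mem_iInf] at hx
    have hL : Cfsg.IsComplementSystem (fun p => MulAut.conj g • K p) := isComplementSystem_conj hK g
    have hKL : ∀ p, K p ⊔ N = (fun p => MulAut.conj g • K p) p ⊔ N := by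
      intro p
      beta_reduce
      have h1 := conj_smul_eq_of_mem_normalizer (hx p)
      rw [← map_conj_smul'] at h1
      have h2 := congrArg (Subgroup.comap (QuotientGroup.mk' N)) h1
      rw [Subgroup.comap_map_eq, Subgroup.comap_map_eq, QuotientGroup.ker_mk'] at h2
      exact h2.symm
    obtain ⟨n, hn, h⟩ := complementSystem_conj_mod K _ hK hL N hKL
    refine ⟨n⁻¹ * g, ?_, ?_⟩
    · unfold Cfsg.systemNormalizer
      rw [SetLike.mem_coe, Subgroup.mem_iInf]
      intro p
      apply mem_normalizer_of_conj_smul_eq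
      rw [map_mul, mul_smul, ← h p, smul_smul, ← map_mul, inv_mul_cancel, map_one, one_smul]
    · rw [map_mul, map_inv]
      have : QuotientGroup.mk' N n = 1 := (QuotientGroup.eq_one_iff n).mpr hn
      rw [this, inv_one, one_mul]
  · rintro _ ⟨d, hd, rfl⟩
    unfold Cfsg.systemNormalizer at hd ⊢
    rw [SetLike.mem_coe, Subgroup.mem_iInf] at hd
    rw [Subgroup.mem_iInf]
    intro p
    apply mem_normalizer_of_conj_smul_eq
    rw [← map_conj_smul', conj_smul_eq_of_mem_normalizer (hd p)]


/-- S0546 -/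
theorem systemNormalizer_normalClosure [Finite G] [Group.IsSolvable G]
    (K : Nat.Primes → Subgroup G) (hK : Cfsg.IsComplementSystem K) :
    Subgroup.normalClosure ((Cfsg.systemNormalizer K : Subgroup G) : Set G) = ⊤ := by
  obtain ⟨M, hM⟩ : ∃ M : Subgroup G,
    M = Subgroup.normalClosure ((Cfsg.systemNormalizer K : Subgroup G) : Set G) := ⟨_, rfl⟩
  rw [← hM]
  have hMn : M.Normal := by rw [hM]; exact Subgroup.normalClosure_normal
  by_contra hne
  have hnt : Nontrivial (G ⧸ M) := by
    rw [← not_subsingleton_iff_nontrivial]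
    intro h
    exact hne (QuotientGroup.subgroup_eq_top_of_subsingleton M h)
  have hlt : commutator (G ⧸ M) < ⊤ := Group.IsSolvable.commutator_lt_top_of_nontrivial (G ⧸ M)
  obtain ⟨R, hR⟩ : ∃ R : Subgroup G, R = (commutator (G ⧸ M)).comap (QuotientGroup.mk' M) :=
    ⟨_, rfl⟩
  have hRn : R.Normal := by rw [hR]; infer_instance
  have hMR : M ≤ R := by
    rw [hR]
    conv_lhs => rw [← QuotientGroup.ker_mk' M]
    exact Subgroup.ker_le_comap _ _
  have hRtop : R ≠ ⊤ := by
    intro h
    apply hlt.ne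
    apply Subgroup.comap_injective (QuotientGroup.mk'_surjective M)
    rw [← hR, h, Subgroup.comap_top]
  have hcomm : ∀ a b : G ⧸ R, a * b = b * a := by
    intro a b
    obtain ⟨x, rfl⟩ := QuotientGroup.mk_surjective a
    obtain ⟨y, rfl⟩ := QuotientGroup.mk_surjective b
    rw [← QuotientGroup.mk_mul, ← QuotientGroup.mk_mul, QuotientGroup.eq, hR, Subgroup.mem_comap]
    have e : (x * y)⁻¹ * (y * x) = ⁅y⁻¹, x⁻¹⁆ := by
      rw [commutatorElement_def]; group
    rw [e, map_commutatorElement]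
    exact Subgroup.commutator_mem_commutator (Subgroup.mem_top _) (Subgroup.mem_top _)
  have h1 := systemNormalizer_map_mk K hK R
  have hD : Cfsg.systemNormalizer K ≤ R :=
    le_trans (by rw [hM]; exact Subgroup.le_normalClosure) hMR
  have h2 : (Cfsg.systemNormalizer K).map (QuotientGroup.mk' R) = ⊥ := by
    rw [eq_bot_iff, Subgroup.map_le_iff_le_comap, MonoidHom.comap_bot, QuotientGroup.ker_mk']
    exact hD
  have h3 : Cfsg.systemNormalizer (fun p => (K p).map (QuotientGroup.mk' R)) = ⊤ := by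
    unfold Cfsg.systemNormalizer
    rw [eq_top_iff]
    intro x _
    rw [Subgroup.mem_iInf]
    intro p
    rw [Subgroup.mem_normalizer_iff]
    intro y
    rw [hcomm x y, mul_inv_cancel_right]
  rw [h3, h2] at h1
  apply hRtop
  apply QuotientGroup.subgroup_eq_top_of_subsingleton
  have : Subsingleton (Subgroup (G ⧸ R)) := subsingleton_of_bot_eq_top h1.symm
  exact Subgroup.subsingleton_iff.mp this

end Cfsg.Agent.Lib.Helper1
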