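import Mathlib
import Cfsg.Prelude.Def_Local
import Cfsg.Agent.Lib.Helper3.UpperPSeries
set_option autoImplicit false
open Cfsg
namespace Cfsg.Agent.Lib.Helper1

/-- Third isomorphism transport for an isomorphism-invariant subgroup functor. -/
theorem comap_comap_quotient_eq {G : Type*} [Group G] (K M : Subgroup G) [K.Normal] [M.Normal]
    (h : K ≤ M) (F : ∀ (X : Type _) [Group X], Subgroup X)
    (hF : ∀ (A B : Type _) [Group A] [Group B] (e : A ≃* B), (F A).map e.toMonoidHom = F B) :
    ((F ((G ⧸ K) ⧸ M.map (QuotientGroup.mk' K))).comap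
        (QuotientGroup.mk' (M.map (QuotientGroup.mk' K)))).comap (QuotientGroup.mk' K) =
      (F (G ⧸ M)).comap (QuotientGroup.mk' M) := by
  have he := hF _ _ (QuotientGroup.quotientQuotientEquivQuotient K M h)
  ext x
  rw [Subgroup.mem_comap, Subgroup.mem_comap, Subgroup.mem_comap, ← he]
  constructor
  · intro hx
    exact ⟨_, hx, rfl⟩
  · rintro ⟨y, hy, hyx⟩
    have h1 : (QuotientGroup.quotientQuotientEquivQuotient K M h)
        ((QuotientGroup.mk' (M.map (QuotientGroup.mk' K))) ((QuotientGroup.mk' K) x)) =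
        (QuotientGroup.mk' M) x := rfl
    rw [← h1] at hyx
    have := (QuotientGroup.quotientQuotientEquivQuotient K M h).injective hyx
    rw [← this]
    exact hy

end Cfsg.Agent.Lib.Helper1

namespace Cfsg.Agent.Lib.Helper1

theorem upperPSeries_shift (p : ℕ) (G : Type*) [Group G] (n : ℕ) :
    (upperPSeries p G (n + 2)).1 =
      (upperPSeries p (G ⧸ (upperPSeries p G 2).1) n).1.comap
        (QuotientGroup.mk' (upperPSeries p G 2).1) := by
  induction n with
  | zero =>
    rw [Helper3.upperPSeries_zero, MonoidHom.comap_bot, QuotientGroup.ker_mk']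
  | succ n ih =>
    obtain ⟨K, hK⟩ : ∃ K, K = (upperPSeries p G 2).1 := ⟨_, rfl⟩
    have hKn : K.Normal := by rw [hK]; infer_instance
    obtain ⟨M, hM⟩ : ∃ M, M = (upperPSeries p (G ⧸ (upperPSeries p G 2).1) n).1.comap
        (QuotientGroup.mk' (upperPSeries p G 2).1) := ⟨_, rfl⟩
    have hMn : M.Normal := by rw [hM]; infer_instance
    have hKM : (upperPSeries p G 2).1 ≤ M := by rw [hM]; exact QuotientGroup.le_comap_mk' _ _
    have hMmap : (upperPSeries p (G ⧸ (upperPSeries p G 2).1) n).1 =
        M.map (QuotientGroup.mk' (upperPSeries p G 2).1) := by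
      rw [hM, Subgroup.map_comap_eq_self_of_surjective (QuotientGroup.mk'_surjective _)]
    rw [← hM] at ih
    by_cases hn : Even n
    · have hn2 : Even (n + 2) := by
        rcases hn with ⟨k, hk⟩; exact ⟨k + 1, by omega⟩
      have e1 : (upperPSeries p G (n + 1 + 2)).1 =
          (pPrimeCore p (G ⧸ (upperPSeries p G (n + 2)).1)).comap (QuotientGroup.mk' _) :=
        Helper3.upperPSeries_succ_even p G (n + 2) hn2
      rw [e1, Helper3.comap_pPrimeCore_congr p _ M ih,
        Helper3.upperPSeries_succ_even p _ n hn,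
        Helper3.comap_pPrimeCore_congr p _ _ hMmap]
      exact (comap_comap_quotient_eq (upperPSeries p G 2).1 M hKM (fun X _ => pPrimeCore p X)
        (fun A B _ _ e => Helper3.pPrimeCore_map_equiv p e)).symm
    · have hn2 : ¬ Even (n + 2) := by
        intro h; apply hn
        rcases h with ⟨k, hk⟩; exact ⟨k - 1, by omega⟩
      have e1 : (upperPSeries p G (n + 1 + 2)).1 =
          (pCore p (G ⧸ (upperPSeries p G (n + 2)).1)).comap (QuotientGroup.mk' _) :=
        Helper3.upperPSeries_succ_odd p G (n + 2) hn2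
      rw [e1, Helper3.comap_pCore_congr p _ M ih,
        Helper3.upperPSeries_succ_odd p _ n hn,
        Helper3.comap_pCore_congr p _ _ hMmap]
      exact (comap_comap_quotient_eq (upperPSeries p G 2).1 M hKM (fun X _ => pCore p X)
        (fun A B _ _ e => Helper3.pCore_map_equiv p e)).symm

theorem upperPSeries_le_succ (p : ℕ) (G : Type*) [Group G] (n : ℕ) :
    (upperPSeries p G n).1 ≤ (upperPSeries p G (n + 1)).1 := by
  by_cases hn : Even n
  · rw [Helper3.upperPSeries_succ_even p G n hn]
    exact QuotientGroup.le_comap_mk' _ _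
  · rw [Helper3.upperPSeries_succ_odd p G n hn]
    exact QuotientGroup.le_comap_mk' _ _

theorem upperPSeries_mono (p : ℕ) (G : Type*) [Group G] {m n : ℕ} (h : m ≤ n) :
    (upperPSeries p G m).1 ≤ (upperPSeries p G n).1 := by
  induction n, h using Nat.le_induction with
  | base => exact le_rfl
  | succ n _ ih => exact ih.trans (upperPSeries_le_succ p G n)

end Cfsg.Agent.Lib.Helper1
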