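import Mathlib
import Cfsg.Agent.Lib.Helper1.Index
import Cfsg.Agent.Lib.Helper1.SZHelpers
import Cfsg.Agent.Lib.Helper1.SubnormalSylow
import Cfsg.Agent.Lib.Helper1.BestOffender
import Cfsg.Agent.Lib.Helper1.Hall
set_option autoImplicit false
universe u v
open scoped Pointwise
namespace Cfsg.Agent.Lib.Helper1
variable {G : Type u} [Group G]

theorem relIndex_eq_index_of_mul_eq [Finite G] (H K : Subgroup G)
    (hHK : ∀ g : G, ∃ h ∈ H, ∃ k ∈ K, g = h * k) : K.relIndex H = K.index := by
  let f : H ⧸ K.subgroupOf H → G ⧸ K :=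
    Quotient.map' (Subtype.val) (fun a b hab => by
      rw [QuotientGroup.leftRel_apply] at hab ⊢
      simpa [Subgroup.mem_subgroupOf] using hab)
  have hf : Function.Injective f := by
    intro a b
    refine Quotient.inductionOn₂' a b ?_
    intro a b hab
    simp only [f, Quotient.map'_mk''] at hab
    rw [Quotient.eq''] at hab ⊢
    rw [QuotientGroup.leftRel_apply] at hab ⊢
    simpa [Subgroup.mem_subgroupOf] using hab
  have hs : Function.Surjective f := by
    intro q
    refine Quotient.inductionOn' q ?_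
    intro g
    obtain ⟨h, hh, k, hk, rfl⟩ := hHK g
    refine ⟨Quotient.mk'' ⟨h, hh⟩, ?_⟩
    simp only [f, Quotient.map'_mk'']
    rw [Quotient.eq'', QuotientGroup.leftRel_apply]
    simpa using hk
  exact Nat.card_congr (Equiv.ofBijective f ⟨hf, hs⟩)

theorem card_mul_card_inf_eq_of_mul_eq [Finite G] (H K : Subgroup G)
    (hHK : ∀ g : G, ∃ h ∈ H, ∃ k ∈ K, g = h * k) :
    Nat.card G * Nat.card (H ⊓ K : Subgroup G) = Nat.card H * Nat.card K := by
  have h1 := relIndex_eq_index_of_mul_eq H K hHK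
  have h2 := relIndex_mul_card_inf K H
  have h3 := K.card_mul_index
  rw [h1] at h2
  rw [inf_comm] at h2
  calc Nat.card G * Nat.card (H ⊓ K : Subgroup G)
      = Nat.card K * (K.index * Nat.card (H ⊓ K : Subgroup G)) := by rw [← h3]; ring
    _ = Nat.card K * Nat.card H := by rw [h2]
    _ = Nat.card H * Nat.card K := by ring


theorem mul_eq_of_card_mul_card [Finite G] (R P Q : Subgroup G) (hP : P ≤ R) (hQ : Q ≤ R)
    (hcard : Nat.card P * Nat.card Q = Nat.card R * Nat.card (P ⊓ Q : Subgroup G)) :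
    (R : Set G) = (P : Set G) * (Q : Set G) := by
  apply Set.Subset.antisymm
  · intro r hr
    have h1 : (Q.subgroupOf R).relIndex (P.subgroupOf R) = (Q.subgroupOf R).index := by
      have a1 := relIndex_mul_card_inf (Q.subgroupOf R) (P.subgroupOf R)
      have a2 := (Q.subgroupOf R).card_mul_index
      have a3 : (Q.subgroupOf R ⊓ P.subgroupOf R : Subgroup R) = (P ⊓ Q).subgroupOf R := by
        ext x
        simp only [Subgroup.mem_inf, Subgroup.mem_subgroupOf]
        tauto
      rw [a3, card_subgroupOf_of_le (le_trans inf_le_left hP), card_subgroupOf_of_le hP] at a1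
      rw [card_subgroupOf_of_le hQ] at a2
      have hpos : 0 < Nat.card Q := Nat.card_pos
      have hpos' : 0 < Nat.card (P ⊓ Q : Subgroup G) := Nat.card_pos
      have : (Q.subgroupOf R).relIndex (P.subgroupOf R) * (Nat.card (P ⊓ Q : Subgroup G) * Nat.card Q)
          = (Q.subgroupOf R).index * (Nat.card (P ⊓ Q : Subgroup G) * Nat.card Q) := by
        calc _ = ((Q.subgroupOf R).relIndex (P.subgroupOf R) * Nat.card (P ⊓ Q : Subgroup G)) * Nat.card Q := by ring
          _ = Nat.card P * Nat.card Q := by rw [a1]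
          _ = Nat.card R * Nat.card (P ⊓ Q : Subgroup G) := hcard
          _ = (Nat.card Q * (Q.subgroupOf R).index) * Nat.card (P ⊓ Q : Subgroup G) := by rw [a2]
          _ = _ := by ring
      exact Nat.eq_of_mul_eq_mul_right (Nat.mul_pos hpos' hpos) this
    obtain ⟨x, hx, y, hy, hxy⟩ := mul_eq_of_relIndex_eq_index (P.subgroupOf R) (Q.subgroupOf R) h1
      ⟨r, hr⟩
    refine ⟨x, Subgroup.mem_subgroupOf.mp hx, y, Subgroup.mem_subgroupOf.mp hy, ?_⟩
    have := congrArg Subtype.val hxy
    simpa using this.symm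
  · rintro _ ⟨x, hx, y, hy, rfl⟩
    exact R.mul_mem (hP hx) (hQ hy)

theorem factorization_sylow_product [Finite G] (H K : Subgroup G)
    (hHK : ∀ g : G, ∃ h ∈ H, ∃ k ∈ K, g = h * k) (p : ℕ) [hp : Fact p.Prime] :
    ∃ (P : Sylow p H) (Q : Sylow p K) (R : Sylow p G),
      ((R : Subgroup G) : Set G) =
        (((P : Subgroup H).map H.subtype : Subgroup G) : Set G) *
          (((Q : Subgroup K).map K.subtype : Subgroup G) : Set G) := by
  let P₀ : Sylow p H := default
  let Q₀ : Sylow p K := default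
  have hP₀pg : IsPGroup p ((P₀ : Subgroup H).map H.subtype) := P₀.2.map _
  have hQ₀pg : IsPGroup p ((Q₀ : Subgroup K).map K.subtype) := Q₀.2.map _
  obtain ⟨R₀, hR₀⟩ := hP₀pg.exists_le_sylow
  obtain ⟨R₁, hR₁⟩ := hQ₀pg.exists_le_sylow
  obtain ⟨g, hg⟩ := MulAction.exists_smul_eq G R₀ R₁
  obtain ⟨h, hh, k, hk, hgk⟩ := hHK g⁻¹
  have hg' : g = k⁻¹ * h⁻¹ := by
    have : g = (g⁻¹)⁻¹ := by group
    rw [this, hgk]; group
  let P : Sylow p H := (⟨h⁻¹, H.inv_mem hh⟩ : H) • P₀
  let Q : Sylow p K := (⟨k, hk⟩ : K) • Q₀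
  let R : Sylow p G := h⁻¹ • R₀
  refine ⟨P, Q, R, ?_⟩
  have hPmap : (P : Subgroup H).map H.subtype =
      MulAut.conj h⁻¹ • (P₀ : Subgroup H).map H.subtype := by
    have : (P : Subgroup H) = MulAut.conj (⟨h⁻¹, H.inv_mem hh⟩ : H) • (P₀ : Subgroup H) :=
      Sylow.coe_subgroup_smul ..
    rw [this, map_subtype_conj_smul]
  have hQmap : (Q : Subgroup K).map K.subtype =
      MulAut.conj k • (Q₀ : Subgroup K).map K.subtype := by
    have : (Q : Subgroup K) = MulAut.conj (⟨k, hk⟩ : K) • (Q₀ : Subgroup K) :=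
      Sylow.coe_subgroup_smul ..
    rw [this, map_subtype_conj_smul]
  have hRcoe : (R : Subgroup G) = MulAut.conj h⁻¹ • (R₀ : Subgroup G) := Sylow.coe_subgroup_smul ..
  have hR₁coe : (R₁ : Subgroup G) = MulAut.conj g • (R₀ : Subgroup G) := by
    rw [← hg]; exact Sylow.coe_subgroup_smul ..
  have hPR : (P : Subgroup H).map H.subtype ≤ R := by
    rw [hPmap, hRcoe]
    exact Subgroup.pointwise_smul_le_pointwise_smul_iff.mpr hR₀
  have hQR : (Q : Subgroup K).map K.subtype ≤ R := by
    rw [hQmap, hRcoe]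
    have : MulAut.conj h⁻¹ • (R₀ : Subgroup G) = MulAut.conj k • (R₁ : Subgroup G) := by
      rw [hR₁coe, smul_smul, ← map_mul, hg']
      congr 2
      group
    rw [this]
    exact Subgroup.pointwise_smul_le_pointwise_smul_iff.mpr hR₁
  apply mul_eq_of_card_mul_card _ _ _ hPR hQR
  -- numerics
  obtain ⟨P', hP'⟩ : ∃ P' : Subgroup G, P' = (P : Subgroup H).map H.subtype := ⟨_, rfl⟩
  obtain ⟨Q', hQ'⟩ : ∃ Q' : Subgroup G, Q' = (Q : Subgroup K).map K.subtype := ⟨_, rfl⟩
  rw [← hP'] at hPR ⊢
  rw [← hQ'] at hQR ⊢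
  have hP'card : Nat.card P' = p ^ (Nat.card H).factorization p := by
    rw [hP', Subgroup.card_map_of_injective (Subgroup.subtype_injective H)]
    exact P.card_eq_multiplicity
  have hQ'card : Nat.card Q' = p ^ (Nat.card K).factorization p := by
    rw [hQ', Subgroup.card_map_of_injective (Subgroup.subtype_injective K)]
    exact Q.card_eq_multiplicity
  have hRcard : Nat.card R = p ^ (Nat.card G).factorization p := R.card_eq_multiplicity
  have hprod := card_mul_card_inf_eq_of_mul_eq H K hHK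
  have hfac : (Nat.card G).factorization p + (Nat.card (H ⊓ K : Subgroup G)).factorization p =
      (Nat.card H).factorization p + (Nat.card K).factorization p := by
    have := congrArg (fun n => n.factorization p) hprod
    beta_reduce at this
    rwa [Nat.factorization_mul Nat.card_pos.ne' Nat.card_pos.ne',
      Nat.factorization_mul Nat.card_pos.ne' Nat.card_pos.ne'] at this
  have hinfpg : IsPGroup p (P' ⊓ Q' : Subgroup G) := by
    have : IsPGroup p P' := by rw [hP']; exact P.2.map _
    exact this.to_le inf_le_left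
  obtain ⟨j, hj⟩ := hinfpg.exists_card_eq
  have hP'H : P' ≤ H := by rw [hP']; exact Subgroup.map_subtype_le _
  have hQ'K : Q' ≤ K := by rw [hQ']; exact Subgroup.map_subtype_le _
  have hjle : j ≤ (Nat.card (H ⊓ K : Subgroup G)).factorization p := by
    rw [← hp.out.pow_dvd_iff_le_factorization Nat.card_pos.ne', ← hj]
    exact Subgroup.card_dvd_of_le (inf_le_inf hP'H hQ'K)
  apply le_antisymm
  · have h1 := card_mul_card_le_card_sup_mul_card_inf P' Q'
    exact le_trans h1 (Nat.mul_le_mul_right _ (Subgroup.card_le_of_le (sup_le hPR hQR)))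
  · rw [hP'card, hQ'card, hRcard, hj, ← pow_add, ← pow_add, ← hfac]
    exact Nat.pow_le_pow_right hp.out.pos (by omega)

end Cfsg.Agent.Lib.Helper1
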