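import Mathlib
import Cfsg.Agent.Lib.Helper1.FactorizationSylow
import Cfsg.Agent.Lib.Helper1.FrattiniHall
set_option autoImplicit false
universe u v
open scoped Pointwise
namespace Cfsg.Agent.Lib.Helper1
variable {G : Type u} [Group G]

theorem coprime_lcm_div {a b n : ℕ} (hn : n ≠ 0) (ha : a ∣ n) (hb : b ∣ n)
    (hac : a.Coprime (n / a)) (hbc : b.Coprime (n / b)) :
    (Nat.lcm a b).Coprime (n / Nat.lcm a b) := by
  have hl : Nat.lcm a b ∣ n := Nat.lcm_dvd ha hb
  apply Nat.coprime_of_dvd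
  intro p hp hp1 hp2
  have key : ∀ c : ℕ, c ∣ n → c ∣ Nat.lcm a b → c.Coprime (n / c) → ¬ p ∣ c := by
    intro c hc hcl hcc hpc
    have h1 : n / Nat.lcm a b ∣ n / c := by
      have hc0 : c ≠ 0 := by rintro rfl; rw [zero_dvd_iff] at hc; exact hn hc
      have hl0 : Nat.lcm a b ≠ 0 := by
        intro h; rw [h, zero_dvd_iff] at hl; exact hn hl
      obtain ⟨t, ht⟩ := hcl
      obtain ⟨s, hs⟩ := hl
      rw [hs, Nat.mul_div_cancel_left _ (Nat.pos_of_ne_zero hl0)]
      rw [ht, mul_assoc, Nat.mul_div_cancel_left _ (Nat.pos_of_ne_zero hc0)]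
      exact Dvd.intro_left _ rfl
    exact hp.one_lt.ne' (Nat.eq_one_of_dvd_coprimes hcc hpc (dvd_trans hp2 h1))
  rcases (Nat.Prime.dvd_mul hp).mp (dvd_trans hp1 (Nat.lcm_dvd_mul a b)) with h | h
  · exact key a ha (Nat.dvd_lcm_left a b) hac h
  · exact key b hb (Nat.dvd_lcm_right a b) hbc h

theorem hall_index_eq_div [Finite G] (A : Subgroup G) : A.index = Nat.card G / Nat.card A := by
  rw [← A.card_mul_index, Nat.mul_div_cancel_left _ Nat.card_pos]

/-- Two Hall subgroups of a solvable group: some conjugate of `B` permutes with `A`. -/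
theorem exists_conj_mul_eq_of_hall [Finite G] [Group.IsSolvable G] (A B : Subgroup G)
    (hAh : (Nat.card A).Coprime A.index) (hBh : (Nat.card B).Coprime B.index) :
    ∃ (g : G) (S : Subgroup G), (S : Set G) = (A : Set G) * ((MulAut.conj g • B : Subgroup G) : Set G) := by
  obtain ⟨m, hm⟩ : ∃ m, m = Nat.lcm (Nat.card A) (Nat.card B) := ⟨_, rfl⟩
  have hAd : Nat.card A ∣ Nat.card G := Subgroup.card_subgroup_dvd_card A
  have hBd : Nat.card B ∣ Nat.card G := Subgroup.card_subgroup_dvd_card B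
  have hmd : m ∣ Nat.card G := by rw [hm]; exact Nat.lcm_dvd hAd hBd
  have hcop : m.Coprime (Nat.card G / m) := by
    rw [hm]
    apply coprime_lcm_div Nat.card_pos.ne' hAd hBd
    · rw [← hall_index_eq_div]; exact hAh
    · rw [← hall_index_eq_div]; exact hBh
  obtain ⟨G₀, hG₀⟩ := hall_exists m (Nat.card G / m) (Nat.mul_div_cancel' hmd).symm hcop
  have hidx : ∀ X : Subgroup G, Nat.card X = m → X.index = Nat.card G / m := by
    intro X hX
    rw [hall_index_eq_div, hX]
  have hAm : Nat.card A ∣ m := by rw [hm]; exact Nat.dvd_lcm_left _ _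
  have hBm : Nat.card B ∣ m := by rw [hm]; exact Nat.dvd_lcm_right _ _
  obtain ⟨u, hu⟩ := hall_dominance G₀ A (by rw [hG₀, hidx G₀ hG₀]; exact hcop)
    (by rw [hidx G₀ hG₀]; exact Nat.Coprime.coprime_dvd_left hAm hcop)
  obtain ⟨G₁, hG₁⟩ : ∃ G₁ : Subgroup G, G₁ = MulAut.conj u • G₀ := ⟨_, rfl⟩
  rw [← hG₁] at hu
  have hG₁card : Nat.card G₁ = m := by rw [hG₁, card_conj_smul, hG₀]
  obtain ⟨g', hg'⟩ := hall_dominance G₁ B (by rw [hG₁card, hidx G₁ hG₁card]; exact hcop)
    (by rw [hidx G₁ hG₁card]; exact Nat.Coprime.coprime_dvd_left hBm hcop)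
  obtain ⟨B', hB'⟩ : ∃ B' : Subgroup G, B' = MulAut.conj g'⁻¹ • B := ⟨_, rfl⟩
  have hB'G₁ : B' ≤ G₁ := by
    rw [hB']
    have := Subgroup.pointwise_smul_le_pointwise_smul_iff (a := MulAut.conj g'⁻¹) |>.mpr hg'
    rwa [smul_smul, ← map_mul, inv_mul_cancel, map_one, one_smul] at this
  have hB'card : Nat.card B' = Nat.card B := by rw [hB', card_conj_smul]
  refine ⟨g'⁻¹, G₁, ?_⟩
  rw [← hB']
  apply mul_eq_of_card_mul_card G₁ A B' hu hB'G₁
  apply le_antisymm
  · have h1 := card_mul_card_le_card_sup_mul_card_inf A B'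
    exact le_trans h1 (Nat.mul_le_mul_right _ (Subgroup.card_le_of_le (sup_le hu hB'G₁)))
  · rw [hG₁card, hm, hB'card, ← Nat.gcd_mul_lcm (Nat.card A) (Nat.card B), mul_comm]
    apply Nat.mul_le_mul_right
    apply Nat.le_of_dvd (Nat.gcd_pos_of_pos_left _ Nat.card_pos)
    apply Nat.dvd_gcd
    · exact Subgroup.card_dvd_of_le inf_le_left
    · rw [← hB'card]; exact Subgroup.card_dvd_of_le inf_le_right


theorem conj_smul_coe_mul (z : G) (A B T : Subgroup G) (hT : (T : Set G) = (A : Set G) * (B : Set G)) :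
    ((MulAut.conj z • T : Subgroup G) : Set G) =
      ((MulAut.conj z • A : Subgroup G) : Set G) * ((MulAut.conj z • B : Subgroup G) : Set G) := by
  rw [Subgroup.coe_pointwise_smul, Subgroup.coe_pointwise_smul, Subgroup.coe_pointwise_smul, hT,
    smul_mul']

theorem hall_factors_permute [Finite G] [Group.IsSolvable G] (H K A B : Subgroup G)
    (hHK : ∀ g : G, ∃ h ∈ H, ∃ k ∈ K, g = h * k) (hA : A ≤ H) (hAn : (A.subgroupOf H).Normal)
    (hB : B ≤ K) (hBn : (B.subgroupOf K).Normal)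
    (hAh : (Nat.card A).Coprime A.index) (hBh : (Nat.card B).Coprime B.index) (x y : G) :
    ∃ S : Subgroup G, (S : Set G) =
      ((MulAut.conj x • A : Subgroup G) : Set G) * ((MulAut.conj y • B : Subgroup G) : Set G) := by
  have hHA : H ≤ Subgroup.normalizer (A : Set G) :=
    (Subgroup.normal_subgroupOf_iff_le_normalizer hA).mp hAn
  have hKB : K ≤ Subgroup.normalizer (B : Set G) :=
    (Subgroup.normal_subgroupOf_iff_le_normalizer hB).mp hBn
  -- general: conj g • B = conj h • B where g = h k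
  have hconj : ∀ g : G, ∃ h ∈ H, MulAut.conj g • B = MulAut.conj h • B := by
    intro g
    obtain ⟨h, hh, k, hk, rfl⟩ := hHK g
    refine ⟨h, hh, ?_⟩
    rw [map_mul, mul_smul, conj_smul_eq_of_mem_normalizer (hKB hk)]
  -- AB is a subgroup
  obtain ⟨T, hT⟩ : ∃ T : Subgroup G, (T : Set G) = (A : Set G) * (B : Set G) := by
    obtain ⟨g, S, hS⟩ := exists_conj_mul_eq_of_hall A B hAh hBh
    obtain ⟨h, hh, hgh⟩ := hconj g
    rw [hgh] at hS
    refine ⟨MulAut.conj h⁻¹ • S, ?_⟩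
    have hA' : MulAut.conj h • A = A := conj_smul_eq_of_mem_normalizer (hHA hh)
    have h1 := conj_smul_coe_mul h⁻¹ A (MulAut.conj h • B) S hS
    rw [smul_smul, ← map_mul, inv_mul_cancel, map_one, one_smul,
      conj_smul_eq_of_mem_normalizer (hHA (H.inv_mem hh))] at h1
    exact h1
  obtain ⟨h, hh, hgh⟩ := hconj (x⁻¹ * y)
  refine ⟨MulAut.conj (x * h) • T, ?_⟩
  rw [conj_smul_coe_mul (x * h) A B T hT]
  have h1 : MulAut.conj (x * h) • A = MulAut.conj x • A := by
    rw [map_mul, mul_smul, conj_smul_eq_of_mem_normalizer (hHA hh)]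
  have h2 : MulAut.conj (x * h) • B = MulAut.conj y • B := by
    rw [map_mul, mul_smul, ← hgh, smul_smul, ← map_mul, mul_inv_cancel_left]
  rw [h1, h2]

end Cfsg.Agent.Lib.Helper1
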