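import Mathlib
import Cfsg.Agent.Lib.Helper1.FrattiniHall
import Cfsg.Agent.Lib.Helper1.Hall
set_option autoImplicit false
universe u v
open scoped Pointwise
namespace Cfsg.Agent.Lib.Helper1
variable {G : Type u} [Group G]

/-- `H` and `K` permute (`KH ⊆ HK`). -/
def Permute (H K : Subgroup G) : Prop :=
  ∀ h ∈ H, ∀ k ∈ K, ∃ h' ∈ H, ∃ k' ∈ K, k * h = h' * k'

theorem permute_of_coe_eq {H K : Subgroup G} (S : Subgroup G)
    (hS : (S : Set G) = (H : Set G) * (K : Set G)) : Permute H K := by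
  intro h hh k hk
  have hHS : H ≤ S := by
    intro x hx
    have : x ∈ (S : Set G) := by
      rw [hS]; exact ⟨x, hx, 1, K.one_mem, mul_one x⟩
    exact this
  have hKS : K ≤ S := by
    intro x hx
    have : x ∈ (S : Set G) := by
      rw [hS]; exact ⟨1, H.one_mem, x, hx, one_mul x⟩
    exact this
  have : k * h ∈ (S : Set G) := S.mul_mem (hKS hk) (hHS hh)
  rw [hS] at this
  obtain ⟨h', hh', k', hk', e⟩ := this
  exact ⟨h', hh', k', hk', e.symm⟩

theorem Permute.symm' {H K : Subgroup G} (hp : Permute H K) :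
    ∀ h ∈ H, ∀ k ∈ K, ∃ h' ∈ H, ∃ k' ∈ K, h * k = k' * h' := by
  intro h hh k hk
  obtain ⟨h', hh', k', hk', e⟩ := hp h⁻¹ (H.inv_mem hh) k⁻¹ (K.inv_mem hk)
  refine ⟨h'⁻¹, H.inv_mem hh', k'⁻¹, K.inv_mem hk', ?_⟩
  have : h * k = (k⁻¹ * h⁻¹)⁻¹ := by group
  rw [this, e]; group

theorem Permute.exists_subgroup {H K : Subgroup G} (hp : Permute H K) :
    ∃ S : Subgroup G, (S : Set G) = (H : Set G) * (K : Set G) := by
  refine ⟨{ carrier := (H : Set G) * (K : Set G)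
            mul_mem' := ?_
            one_mem' := ⟨1, H.one_mem, 1, K.one_mem, mul_one 1⟩
            inv_mem' := ?_ }, rfl⟩
  · rintro _ _ ⟨h₁, hh₁, k₁, hk₁, rfl⟩ ⟨h₂, hh₂, k₂, hk₂, rfl⟩
    obtain ⟨h', hh', k', hk', e⟩ := hp h₂ hh₂ k₁ hk₁
    refine ⟨h₁ * h', H.mul_mem hh₁ hh', k' * k₂, K.mul_mem hk' hk₂, ?_⟩
    show h₁ * h' * (k' * k₂) = h₁ * k₁ * (h₂ * k₂)
    calc h₁ * h' * (k' * k₂) = h₁ * (h' * k') * k₂ := by group
      _ = h₁ * (k₁ * h₂) * k₂ := by rw [e]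
      _ = h₁ * k₁ * (h₂ * k₂) := by group
  · rintro _ ⟨h, hh, k, hk, rfl⟩
    obtain ⟨h', hh', k', hk', e⟩ := hp h⁻¹ (H.inv_mem hh) k⁻¹ (K.inv_mem hk)
    refine ⟨h', hh', k', hk', ?_⟩
    show h' * k' = (h * k)⁻¹
    rw [← e]; group

theorem Permute.sup_left {H₁ H₂ K : Subgroup G} (h₁ : Permute H₁ K) (h₂ : Permute H₂ K) :
    Permute (H₁ ⊔ H₂) K := by
  have key : ∀ a ∈ H₁ ⊔ H₂, ∀ k ∈ K,
      (∃ a' ∈ H₁ ⊔ H₂, ∃ k' ∈ K, k * a = a' * k') ∧
      (∃ a' ∈ H₁ ⊔ H₂, ∃ k' ∈ K, a * k = k' * a') := by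
    intro a ha
    rw [Subgroup.sup_eq_closure] at ha
    induction ha using Subgroup.closure_induction with
    | mem x hx =>
      intro k hk
      rcases hx with hx | hx
      · obtain ⟨a', ha', k', hk', e⟩ := h₁ x hx k hk
        obtain ⟨a'', ha'', k'', hk'', e'⟩ := h₁.symm' x hx k hk
        exact ⟨⟨a', Subgroup.mem_sup_left ha', k', hk', e⟩,
          ⟨a'', Subgroup.mem_sup_left ha'', k'', hk'', e'⟩⟩
      · obtain ⟨a', ha', k', hk', e⟩ := h₂ x hx k hk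
        obtain ⟨a'', ha'', k'', hk'', e'⟩ := h₂.symm' x hx k hk
        exact ⟨⟨a', Subgroup.mem_sup_right ha', k', hk', e⟩,
          ⟨a'', Subgroup.mem_sup_right ha'', k'', hk'', e'⟩⟩
    | one =>
      intro k hk
      exact ⟨⟨1, Subgroup.one_mem _, k, hk, by group⟩, ⟨1, Subgroup.one_mem _, k, hk, by group⟩⟩
    | mul x y _ _ ihx ihy =>
      intro k hk
      constructor
      · obtain ⟨x', hx', k', hk', e⟩ := (ihx k hk).1
        obtain ⟨y', hy', k'', hk'', e'⟩ := (ihy k' hk').1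
        refine ⟨x' * y', Subgroup.mul_mem _ hx' hy', k'', hk'', ?_⟩
        calc k * (x * y) = (k * x) * y := by group
          _ = x' * (k' * y) := by rw [e]; group
          _ = x' * y' * k'' := by rw [e']; group
      · obtain ⟨y', hy', k', hk', e⟩ := (ihy k hk).2
        obtain ⟨x', hx', k'', hk'', e'⟩ := (ihx k' hk').2
        refine ⟨x' * y', Subgroup.mul_mem _ hx' hy', k'', hk'', ?_⟩
        calc x * y * k = x * (y * k) := by group
          _ = (x * k') * y' := by rw [e]; group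
          _ = k'' * (x' * y') := by rw [e']; group
    | inv x _ ihx =>
      intro k hk
      constructor
      · obtain ⟨x', hx', k', hk', e⟩ := (ihx k⁻¹ (K.inv_mem hk)).2
        refine ⟨x'⁻¹, Subgroup.inv_mem _ hx', k'⁻¹, K.inv_mem hk', ?_⟩
        have : k * x⁻¹ = (x * k⁻¹)⁻¹ := by group
        rw [this, e]; group
      · obtain ⟨x', hx', k', hk', e⟩ := (ihx k⁻¹ (K.inv_mem hk)).1
        refine ⟨x'⁻¹, Subgroup.inv_mem _ hx', k'⁻¹, K.inv_mem hk', ?_⟩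
        have : x⁻¹ * k = (k⁻¹ * x)⁻¹ := by group
        rw [this, e]; group
  intro a ha k hk
  exact (key a ha k hk).1

theorem mem_conj_smul_iff'' {H : Subgroup G} {g x : G} :
    x ∈ MulAut.conj g • H ↔ g⁻¹ * x * g ∈ H := by
  rw [Subgroup.mem_pointwise_smul_iff_inv_smul_mem]
  simp [MulAut.smul_def]

theorem Permute.conj {H K : Subgroup G} (hp : Permute H K) (g : G) :
    Permute (MulAut.conj g • H) (MulAut.conj g • K) := by
  intro h hh k hk
  rw [mem_conj_smul_iff''] at hh hk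
  obtain ⟨h', hh', k', hk', e⟩ := hp _ hh _ hk
  refine ⟨g * h' * g⁻¹, ?_, g * k' * g⁻¹, ?_, ?_⟩
  · rw [mem_conj_smul_iff'']; convert hh' using 1; group
  · rw [mem_conj_smul_iff'']; convert hk' using 1; group
  · have : k * h = g * ((g⁻¹ * k * g) * (g⁻¹ * h * g)) * g⁻¹ := by group
    rw [this, e]; group


theorem le_of_coe_eq_mul_left {H K S : Subgroup G}
    (hS : (S : Set G) = (H : Set G) * (K : Set G)) : H ≤ S := by
  intro x hx
  have : x ∈ (S : Set G) := by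
    rw [hS]; exact ⟨x, hx, 1, K.one_mem, mul_one x⟩
  exact this

theorem le_of_coe_eq_mul_right {H K S : Subgroup G}
    (hS : (S : Set G) = (H : Set G) * (K : Set G)) : K ≤ S := by
  intro x hx
  have : x ∈ (S : Set G) := by
    rw [hS]; exact ⟨1, H.one_mem, x, hx, one_mul x⟩
  exact this

/-- Kegel's lemma. -/
theorem kegel_lemma [Finite G] (A B : Subgroup G)
    (h : ∀ x : G, ∃ S : Subgroup G, S ≠ ⊤ ∧
      (S : Set G) = (A : Set G) * ((MulAut.conj x • B : Subgroup G) : Set G)) :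
    ∃ N : Subgroup G, N.Normal ∧ N ≠ ⊤ ∧ (A ≤ N ∨ B ≤ N) := by
  classical
  by_contra hcon
  obtain ⟨AA, hAA⟩ : ∃ AA : Set (Subgroup G), AA = {A' : Subgroup G |
      (∀ x : G, ∃ S : Subgroup G, S ≠ ⊤ ∧
        (S : Set G) = (A' : Set G) * ((MulAut.conj x • B : Subgroup G) : Set G)) ∧
      ¬ ∃ N : Subgroup G, N.Normal ∧ N ≠ ⊤ ∧ (A' ≤ N ∨ B ≤ N)} := ⟨_, rfl⟩
  have hAmem : A ∈ AA := by rw [hAA]; exact ⟨h, hcon⟩
  obtain ⟨A₀, -, hmax⟩ := (Set.toFinite AA).exists_le_maximal hAmem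
  have hprop := hmax.prop
  rw [hAA] at hprop
  obtain ⟨h₀, hcon₀⟩ := hprop
  obtain ⟨S₁, hS₁top, hS₁⟩ := h₀ 1
  have hA₀S₁ : A₀ ≤ S₁ := le_of_coe_eq_mul_left hS₁
  have hA₀top : A₀ ≠ ⊤ := by
    rintro rfl
    exact hS₁top (top_le_iff.mp hA₀S₁)
  have hA₀n : ¬ A₀.Normal := fun hn => hcon₀ ⟨A₀, hn, hA₀top, Or.inl le_rfl⟩
  have hBcl : Subgroup.normalClosure (B : Set G) = ⊤ := by
    by_contra hne
    exact hcon₀ ⟨_, Subgroup.normalClosure_normal, hne, Or.inr Subgroup.le_normalClosure⟩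
  have hex : ∃ g : G, ¬ MulAut.conj g • B ≤ Subgroup.normalizer (A₀ : Set G) := by
    by_contra hall
    push Not at hall
    apply hA₀n
    have : Subgroup.normalizer (A₀ : Set G) = ⊤ := by
      rw [eq_top_iff, ← hBcl]
      unfold Subgroup.normalClosure
      rw [Subgroup.closure_le]
      intro y hy
      rw [Group.mem_conjugatesOfSet_iff] at hy
      obtain ⟨b, hb, hconj⟩ := hy
      rw [isConj_iff] at hconj
      obtain ⟨c, rfl⟩ := hconj
      apply hall c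
      rw [mem_conj_smul_iff'']
      have e : c⁻¹ * (c * b * c⁻¹) * c = b := by group
      rw [e]
      exact hb
    exact Subgroup.normalizer_eq_top_iff.mp this
  obtain ⟨g, hg⟩ := hex
  obtain ⟨b, hbB, hbN⟩ := SetLike.not_le_iff_exists.mp hg
  obtain ⟨A₁, hA₁⟩ : ∃ A₁, A₁ = A₀ ⊔ MulAut.conj b • A₀ := ⟨_, rfl⟩
  have hA₀A₁ : A₀ ≤ A₁ := by rw [hA₁]; exact le_sup_left
  have hA₁ne : ¬ A₁ ≤ A₀ := by
    intro hle
    apply hbN
    apply mem_normalizer_of_conj_smul_eq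
    apply Subgroup.eq_of_le_of_card_ge (le_trans (by rw [hA₁]; exact le_sup_right) hle)
    rw [card_conj_smul]
  have hperm₀ : ∀ x : G, Permute A₀ (MulAut.conj x • B) := by
    intro x
    obtain ⟨S, -, hS⟩ := h₀ x
    exact permute_of_coe_eq S hS
  have hperm₁ : ∀ x : G, Permute A₁ (MulAut.conj x • B) := by
    intro x
    rw [hA₁]
    apply Permute.sup_left (hperm₀ x)
    have := (hperm₀ (b⁻¹ * x)).conj b
    rw [smul_smul, ← map_mul, mul_inv_cancel_left] at this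
    exact this
  have hA₁not : A₁ ∉ AA := fun hmem => hA₁ne (hmax.le_of_ge hmem hA₀A₁)
  have hcon₁ : ¬ ∃ N : Subgroup G, N.Normal ∧ N ≠ ⊤ ∧ (A₁ ≤ N ∨ B ≤ N) := by
    rintro ⟨N, hNn, hNtop, hN⟩
    exact hcon₀ ⟨N, hNn, hNtop, hN.imp (le_trans hA₀A₁) id⟩
  have hex2 : ∃ x : G, ∀ S : Subgroup G,
      (S : Set G) = (A₁ : Set G) * ((MulAut.conj x • B : Subgroup G) : Set G) → S = ⊤ := by
    by_contra hno
    push Not at hno
    apply hA₁not
    rw [hAA]
    refine ⟨fun x => ?_, hcon₁⟩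
    obtain ⟨S, hS, hStop⟩ := hno x
    exact ⟨S, hStop, hS⟩
  obtain ⟨x, hx⟩ := hex2
  obtain ⟨S₂, hS₂⟩ := (hperm₁ x).exists_subgroup
  have hS₂top := hx S₂ hS₂
  obtain ⟨H, hHtop, hH⟩ := h₀ g
  have hA₀H : A₀ ≤ H := le_of_coe_eq_mul_left hH
  have hBgH : MulAut.conj g • B ≤ H := le_of_coe_eq_mul_right hH
  have hbH : b ∈ H := hBgH hbB
  have hA₁H : A₁ ≤ H := by
    rw [hA₁]
    apply sup_le hA₀H
    calc MulAut.conj b • A₀ ≤ MulAut.conj b • H :=
          Subgroup.pointwise_smul_le_pointwise_smul_iff.mpr hA₀H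
      _ = H := Subgroup.conj_smul_eq_self_of_mem hbH
  have hw : g * x⁻¹ ∈ (S₂ : Set G) := by rw [hS₂top]; trivial
  rw [hS₂] at hw
  obtain ⟨a, ha, β, hβ, e⟩ := hw
  have h1 : MulAut.conj g • B = MulAut.conj a • MulAut.conj x • B := by
    have : MulAut.conj g • B = MulAut.conj (g * x⁻¹) • MulAut.conj x • B := by
      rw [smul_smul, ← map_mul, inv_mul_cancel_right]
    rw [this, ← e, map_mul, mul_smul, Subgroup.conj_smul_eq_self_of_mem hβ]
  have h2 : MulAut.conj x • B ≤ H := by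
    have h3 : MulAut.conj a⁻¹ • (MulAut.conj g • B) ≤ MulAut.conj a⁻¹ • H :=
      Subgroup.pointwise_smul_le_pointwise_smul_iff.mpr hBgH
    rw [h1, smul_smul, ← map_mul, inv_mul_cancel, map_one, one_smul,
      Subgroup.conj_smul_eq_self_of_mem (H.inv_mem (hA₁H ha))] at h3
    exact h3
  apply hHtop
  rw [eq_top_iff, ← hS₂top]
  intro y hy
  have : y ∈ (S₂ : Set G) := hy
  rw [hS₂] at this
  obtain ⟨a', ha', β', hβ', rfl⟩ := this
  exact H.mul_mem (hA₁H ha') (h2 hβ')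

end Cfsg.Agent.Lib.Helper1
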