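import Mathlib
import Cfsg.Agent.Lib.Helper1.Hall
import Cfsg.Agent.Lib.Helper1.Index
import Cfsg.Agent.Lib.Helper1.SZHelpers
open Pointwise

set_option autoImplicit false

namespace Cfsg.Agent.Lib.Helper1

universe u

variable {G : Type u} [Group G]

theorem hall_complement_exists [Finite G] [Group.IsSolvable G] (p : ℕ) (hp : p.Prime) :
    ∃ H : Subgroup G, H.index = p ^ (Nat.card G).factorization p := by
  have hN : Nat.card G ≠ 0 := Nat.card_pos.ne'
  set n := p ^ (Nat.card G).factorization p with hn
  set m := Nat.card G / n with hm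
  have hnm : n * m = Nat.card G := Nat.ordProj_mul_ordCompl_eq_self (Nat.card G) p
  have hcop : m.Coprime n := ((Nat.coprime_ordCompl hp hN).pow_left _).symm
  obtain ⟨H, hH⟩ := hall_exists (G := G) m n (by rw [mul_comm]; exact hnm.symm) hcop
  refine ⟨H, ?_⟩
  have h1 := H.card_mul_index
  rw [hH, ← hnm, mul_comm n m] at h1
  have hm0 : 0 < m := Nat.pos_of_ne_zero (fun h => by rw [h, mul_zero] at hnm; exact hN hnm.symm)
  exact Nat.eq_of_mul_eq_mul_left hm0 h1

/-- index of an intersection of subgroups with pairwise coprime prime-power indices -/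
theorem index_finset_inf [Finite G] (e : ℕ → ℕ) (H : ℕ → Subgroup G) (T : Finset ℕ)
    (hT : ∀ q ∈ T, q.Prime) (hH : ∀ q ∈ T, (H q).index = q ^ e q) :
    (T.inf H).index = ∏ q ∈ T, q ^ e q := by
  classical
  induction T using Finset.induction_on with
  | empty => simp
  | insert a T ha ih =>
    rw [Finset.inf_insert, Finset.prod_insert ha]
    have h1 := ih (fun q hq => hT q (Finset.mem_insert_of_mem hq))
      (fun q hq => hH q (Finset.mem_insert_of_mem hq))
    have h2 := hH a (Finset.mem_insert_self a T)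
    have hcop : (H a).index.Coprime (T.inf H).index := by
      rw [h1, h2]
      apply Nat.Coprime.prod_right
      intro q hq
      have hqa : a ≠ q := fun h => ha (h ▸ hq)
      exact Nat.coprime_pow_primes _ _ (hT a (Finset.mem_insert_self a T))
        (hT q (Finset.mem_insert_of_mem hq)) hqa
    rw [index_inf_of_coprime _ _ hcop, h1, h2]

theorem prod_erase_mul_of_not_mem_eq_one (f : ℕ → ℕ) (T : Finset ℕ) (q : ℕ)
    (h : q ∉ T → f q = 1) : (∏ r ∈ T.erase q, f r) * f q = ∏ r ∈ T, f r := by
  by_cases hq : q ∈ T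
  · exact Finset.prod_erase_mul T f hq
  · rw [Finset.erase_eq_of_notMem hq, h hq, mul_one]

theorem mul_eq_of_card_mul_coprime [Finite G] (A B D : Subgroup G) (hA : A ≤ D) (hB : B ≤ D)
    (hcard : Nat.card A * Nat.card B = Nat.card D) (hcop : (Nat.card A).Coprime (Nat.card B)) :
    (A : Set G) * (B : Set G) = D := by
  apply Set.Subset.antisymm
  · rintro _ ⟨a, ha, b, hb, rfl⟩
    exact D.mul_mem (hA ha) (hB hb)
  · intro d hd
    have hiA : (A.subgroupOf D).index = Nat.card B := by
      have h1 := (A.subgroupOf D).card_mul_index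
      rw [card_subgroupOf_of_le hA, ← hcard] at h1
      exact Nat.eq_of_mul_eq_mul_left Nat.card_pos h1
    have hiB : (B.subgroupOf D).index = Nat.card A := by
      have h1 := (B.subgroupOf D).card_mul_index
      rw [card_subgroupOf_of_le hB, ← hcard, mul_comm (Nat.card A)] at h1
      exact Nat.eq_of_mul_eq_mul_left Nat.card_pos h1
    have hc : (A.subgroupOf D).index.Coprime (B.subgroupOf D).index := by
      rw [hiA, hiB]; exact hcop.symm
    obtain ⟨x, hx, y, hy, hxy⟩ := mul_eq_of_coprime_index _ _ hc ⟨d, hd⟩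
    refine ⟨x, Subgroup.mem_subgroupOf.mp hx, y, Subgroup.mem_subgroupOf.mp hy, ?_⟩
    have := congrArg Subtype.val hxy
    exact this.symm

theorem sylow_system_exists [Finite G] [Group.IsSolvable G] :
    ∃ S : (p : Nat.Primes) → Sylow (p : ℕ) G,
      ∀ p q : Nat.Primes, (S p : Set G) * (S q : Set G) = (S q : Set G) * (S p : Set G) := by
  classical
  set N := Nat.card G with hNdef
  have hN0 : N ≠ 0 := Nat.card_pos.ne'
  set e : ℕ → ℕ := fun p => N.factorization p with he
  have hex : ∀ p : ℕ, ∃ H : Subgroup G, p.Prime → H.index = p ^ e p := by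
    intro p
    by_cases hp : p.Prime
    · obtain ⟨H, hH⟩ := hall_complement_exists (G := G) p hp
      exact ⟨H, fun _ => hH⟩
    · exact ⟨⊤, fun h => absurd h hp⟩
  choose H hH using hex
  set π := N.primeFactors with hπ
  have hπprime : ∀ q ∈ π, q.Prime := fun q hq => Nat.prime_of_mem_primeFactors hq
  have hprodπ : ∏ q ∈ π, q ^ e q = N := Nat.prod_factorization_pow_eq_self hN0
  have he1 : ∀ q : ℕ, q ∉ π → q ^ e q = 1 := by
    intro q hq
    have : e q = 0 := by
      simp only [he]
      exact Finsupp.notMem_support_iff.mp hq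
    rw [this, pow_zero]
  -- index of the intersections
  have hidx : ∀ T : Finset ℕ, T ⊆ π → (T.inf H).index = ∏ q ∈ T, q ^ e q := by
    intro T hT
    exact index_finset_inf e H T (fun q hq => hπprime q (hT hq))
      (fun q hq => hH q (hπprime q (hT hq)))
  -- card of Sp
  have hcardS : ∀ p : ℕ, Nat.card ((π.erase p).inf H : Subgroup G) = p ^ e p := by
    intro p
    have h1 := ((π.erase p).inf H).card_mul_index
    rw [hidx _ (Finset.erase_subset _ _)] at h1
    have h2 := prod_erase_mul_of_not_mem_eq_one (fun q => q ^ e q) π p (he1 p)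
    rw [hprodπ] at h2
    have hpos : 0 < ∏ q ∈ π.erase p, q ^ e q := by
      apply Nat.pos_of_ne_zero
      intro h0
      rw [h0, zero_mul] at h2
      exact hN0 h2.symm
    have h3 : Nat.card ((π.erase p).inf H : Subgroup G) * (∏ q ∈ π.erase p, q ^ e q)
        = p ^ e p * (∏ q ∈ π.erase p, q ^ e q) := by
      rw [h1, mul_comm, h2]
    exact Nat.eq_of_mul_eq_mul_right hpos h3
  -- card of Dpq
  have hcardD : ∀ p q : ℕ, p ≠ q →
      Nat.card (((π.erase p).erase q).inf H : Subgroup G) = p ^ e p * q ^ e q := by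
    intro p q hpq
    have h1 := (((π.erase p).erase q).inf H).card_mul_index
    rw [hidx _ ((Finset.erase_subset _ _).trans (Finset.erase_subset _ _))] at h1
    have h2 := prod_erase_mul_of_not_mem_eq_one (fun q => q ^ e q) π p (he1 p)
    have h3 := prod_erase_mul_of_not_mem_eq_one (fun q => q ^ e q) (π.erase p) q (by
      intro hq
      apply he1
      intro hq'
      exact hq (Finset.mem_erase.mpr ⟨fun h => hpq h.symm, hq'⟩))
    rw [hprodπ, ← h3] at h2
    have hpos : 0 < ∏ r ∈ (π.erase p).erase q, r ^ e r := by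
      apply Nat.pos_of_ne_zero
      intro h0
      rw [h0, zero_mul, zero_mul] at h2
      exact hN0 h2.symm
    have h4 : Nat.card (((π.erase p).erase q).inf H : Subgroup G) *
        (∏ r ∈ (π.erase p).erase q, r ^ e r)
        = (p ^ e p * q ^ e q) * (∏ r ∈ (π.erase p).erase q, r ^ e r) := by
      rw [h1, hNdef.symm, ← h2]; ring
    exact Nat.eq_of_mul_eq_mul_right hpos h4
  -- define S
  let S : (p : Nat.Primes) → Sylow (p : ℕ) G := fun p =>
    haveI : Fact (p : ℕ).Prime := ⟨p.2⟩
    Sylow.ofCard ((π.erase (p : ℕ)).inf H) (hcardS p)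
  have hScoe : ∀ p : Nat.Primes, ((S p : Sylow (p : ℕ) G) : Subgroup G) = (π.erase (p : ℕ)).inf H := by
    intro p
    have : Fact (p : ℕ).Prime := ⟨p.2⟩
    exact Sylow.coe_ofCard _ _
  -- key
  have key : ∀ p q : Nat.Primes, p ≠ q → (S p : Set G) * (S q : Set G) =
      ((((π.erase (p : ℕ)).erase (q : ℕ)).inf H : Subgroup G) : Set G) := by
    intro p q hpq
    have hpq' : (p : ℕ) ≠ (q : ℕ) := fun h => hpq (Subtype.ext h)
    have h1 : ((S p : Sylow (p : ℕ) G) : Set G) = (((π.erase (p : ℕ)).inf H : Subgroup G) : Set G) := by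
      rw [← hScoe p]; rfl
    have h2 : ((S q : Sylow (q : ℕ) G) : Set G) = (((π.erase (q : ℕ)).inf H : Subgroup G) : Set G) := by
      rw [← hScoe q]; rfl
    rw [h1, h2]
    apply mul_eq_of_card_mul_coprime
    · exact Finset.inf_mono (Finset.erase_subset _ _)
    · rw [Finset.erase_right_comm]
      exact Finset.inf_mono (Finset.erase_subset _ _)
    · rw [hcardS, hcardS, hcardD _ _ hpq']
    · rw [hcardS, hcardS]
      exact Nat.coprime_pow_primes _ _ p.2 q.2 hpq'
  refine ⟨S, ?_⟩
  intro p q
  by_cases hpq : p = q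
  · subst hpq; rfl
  · rw [key p q hpq, key q p (Ne.symm hpq), Finset.erase_right_comm]

end Cfsg.Agent.Lib.Helper1
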