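import Mathlib
import Cfsg.Agent.Lib.Helper1.FusionControl
import Cfsg.Agent.Lib.Helper1.SylowSystem
import Cfsg.Agent.Lib.Helper1.RelativeSZ
set_option autoImplicit false
open Pointwise
open scoped commutatorElement

namespace Cfsg.Agent.Lib.Helper1

universe u

variable {G : Type u} [Group G]

theorem mem_finset_inf_iff {ι : Type*} (T : Finset ι) (H : ι → Subgroup G) (x : G) :
    x ∈ T.inf H ↔ ∀ q ∈ T, x ∈ H q := by
  classical
  induction T using Finset.induction_on with
  | empty => simp
  | insert a T ha ih =>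
    rw [Finset.inf_insert, Subgroup.mem_inf, ih]
    constructor
    · rintro ⟨h1, h2⟩ q hq
      rcases Finset.mem_insert.mp hq with rfl | hq
      · exact h1
      · exact h2 q hq
    · intro h
      exact ⟨h a (Finset.mem_insert_self a T), fun q hq => h q (Finset.mem_insert_of_mem hq)⟩

/-- In a nilpotent subgroup `H`, a subgroup `R` normalizing a subgroup `Q` of coprime order
centralizes it. -/
theorem commutator_eq_bot_of_nilpotent_of_coprime [Finite G] (H Q R : Subgroup G)
    (hH : Group.IsNilpotent H) (hQ : Q ≤ H) (hR : R ≤ H)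
    (hRQ : R ≤ Subgroup.normalizer (Q : Set G)) (hcop : (Nat.card R).Coprime (Nat.card Q)) :
    ⁅Q, R⁆ = ⊥ := by
  have hsolvH : Group.IsSolvable H := inferInstance
  have hsolv : Group.IsSolvable R := isSolvable_of_le hR
  have hD : ⁅⁅Q, R⁆, R⁆ = ⁅Q, R⁆ := coprime_commutator_commutator R Q hRQ hcop (Or.inl hsolv)
  obtain ⟨n, hn⟩ := (Subgroup.isNilpotent_iff_lowerCentralSeries H).mp hH
  have hle : ∀ m, ⁅Q, R⁆ ≤ H.lowerCentralSeries m := by
    intro m
    induction m with
    | zero =>
      rw [Subgroup.lowerCentralSeries_zero]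
      exact (Subgroup.commutator_mono hQ hR).trans (by
        rw [← Subgroup.map_subtype_commutator]; exact Subgroup.map_subtype_le _)
    | succ m ih =>
      rw [Subgroup.lowerCentralSeries_succ, ← hD]
      exact Subgroup.commutator_mono ih hR
  exact le_bot_iff.mp (hn ▸ hle n)

/-- A Hall subgroup `H` has a normal complement as soon as `G` has a normal `q`-complement
for every prime divisor `q` of `|H|`. -/
theorem hall_normal_complement_of_forall_prime [Finite G] (H : Subgroup G)
    (hHall : Nat.Coprime (Nat.card H) H.index)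
    (h : ∀ q : ℕ, q.Prime → q ∣ Nat.card H → Cfsg.HasNormalPComplement q G) :
    ∃ N : Subgroup G, N.Normal ∧ N.IsComplement' H := by
  classical
  set T := (Nat.card H).primeFactors with hT
  have hcardH : Nat.card H ≠ 0 := Nat.card_pos.ne'
  have hch : ∀ q ∈ T, ∃ K : Subgroup G, K.Normal ∧ K.index = q ^ (Nat.card H).factorization q ∧
      ∀ x : G, x ∈ K ↔ Nat.Coprime (orderOf x) q := by
    intro q hq
    have hqp : q.Prime := Nat.prime_of_mem_primeFactors hq
    have hqd : q ∣ Nat.card H := Nat.dvd_of_mem_primeFactors hq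
    have := Fact.mk hqp
    obtain ⟨Q, K, hKn, hKc⟩ := h q hqp hqd
    refine ⟨K, hKn, ?_, fun x => mem_normal_complement_iff Q K hKc x⟩
    rw [hKc.symm.index_eq_card, Sylow.card_eq_multiplicity]
    congr 1
    rw [← H.card_mul_index, Nat.factorization_mul hcardH (Subgroup.index_ne_zero_of_finite)]
    have : H.index.factorization q = 0 := by
      apply Nat.factorization_eq_zero_of_not_dvd
      intro hd
      exact (Nat.Prime.coprime_iff_not_dvd hqp).mp
        ((Nat.Coprime.coprime_dvd_left hqd hHall)) hd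
    simp [this]
  choose! Kf hKf using hch
  refine ⟨T.inf Kf, ?_, ?_⟩
  · constructor
    intro x hx g
    rw [mem_finset_inf_iff] at hx ⊢
    intro q hq
    have := (hKf q hq).1
    exact this.conj_mem x (hx q hq) g
  · have hidx : (T.inf Kf).index = Nat.card H := by
      rw [index_finset_inf (fun q => (Nat.card H).factorization q) Kf T
        (fun q hq => Nat.prime_of_mem_primeFactors hq) (fun q hq => (hKf q hq).2.1)]
      exact Nat.prod_factorization_pow_eq_self hcardH
    apply Subgroup.isComplement'_of_card_mul_and_disjoint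
    · rw [← hidx]; exact Subgroup.card_mul_index _
    · rw [disjoint_iff, eq_bot_iff]
      intro x hx
      obtain ⟨hxK, hxH⟩ := Subgroup.mem_inf.mp hx
      rw [Subgroup.mem_bot, ← orderOf_eq_one_iff]
      by_contra hne
      obtain ⟨q, hq, hqd⟩ := Nat.exists_prime_and_dvd hne
      have hqH : q ∣ Nat.card H := by
        refine hqd.trans ?_
        have := orderOf_dvd_natCard (⟨x, hxH⟩ : H)
        rwa [← Subgroup.orderOf_coe] at this
      have hqT : q ∈ T := Nat.mem_primeFactors.mpr ⟨hq, hqH, hcardH⟩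
      rw [mem_finset_inf_iff] at hxK
      have := ((hKf q hqT).2.2 x).mp (hxK q hqT)
      exact (Nat.Prime.coprime_iff_not_dvd hq).mp this.symm hqd

theorem nilpotent_hall_normal_complement_iff [Finite G] (H : Subgroup G) (hH : Group.IsNilpotent H)
    (hHall : Nat.Coprime (Nat.card H) H.index) :
    (∃ N : Subgroup G, N.Normal ∧ N.IsComplement' H) ↔
      ∀ x ∈ H, ∀ y ∈ H, (∃ g : G, g * x * g⁻¹ = y) → ∃ h ∈ H, h * x * h⁻¹ = y := by
  constructor
  · rintro ⟨N, hNn, hN⟩ x hx y hy ⟨g, rfl⟩
    have hmul : (N : Set G) * (H : Set G) = Set.univ := hN.mul_eq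
    have hg : g ∈ (N : Set G) * (H : Set G) := by rw [hmul]; trivial
    obtain ⟨n, hn, h, hh, rfl⟩ := Set.mem_mul.mp hg
    refine ⟨h, hh, ?_⟩
    set x' := h * x * h⁻¹ with hx'
    have hx'H : x' ∈ H := H.mul_mem (H.mul_mem hh hx) (H.inv_mem hh)
    have e : n * h * x * (n * h)⁻¹ = n * x' * n⁻¹ := by rw [hx']; group
    rw [e] at hy ⊢
    have h1 : n * x' * n⁻¹ * x'⁻¹ ∈ N := by
      have := N.mul_mem hn (hNn.conj_mem n⁻¹ (N.inv_mem hn) x')
      have e2 : n * (x' * n⁻¹ * x'⁻¹) = n * x' * n⁻¹ * x'⁻¹ := by group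
      rwa [e2] at this
    have h2 : n * x' * n⁻¹ * x'⁻¹ ∈ H := H.mul_mem hy (H.inv_mem hx'H)
    have h3 : n * x' * n⁻¹ * x'⁻¹ ∈ N ⊓ H := Subgroup.mem_inf.mpr ⟨h1, h2⟩
    rw [hN.disjoint.eq_bot, Subgroup.mem_bot] at h3
    have := congrArg (fun t => t * x') h3
    simpa using this.symm
  · intro hctl
    apply hall_normal_complement_of_forall_prime H hHall
    intro q hq hqd
    have := Fact.mk hq
    have hcardH : Nat.card H ≠ 0 := Nat.card_pos.ne'
    let Q₀ : Sylow q H := default
    set Q : Subgroup G := (Q₀ : Subgroup H).map H.subtype with hQdef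
    have hQH : Q ≤ H := Subgroup.map_subtype_le _
    have hQ₀n : (Q₀ : Subgroup H).Normal := inferInstance
    have hfac : (Nat.card G).factorization q = (Nat.card H).factorization q := by
      rw [← H.card_mul_index, Nat.factorization_mul hcardH (Subgroup.index_ne_zero_of_finite)]
      have : H.index.factorization q = 0 := by
        apply Nat.factorization_eq_zero_of_not_dvd
        intro hd
        exact (Nat.Prime.coprime_iff_not_dvd hq).mp ((Nat.Coprime.coprime_dvd_left hqd hHall)) hd
      simp [this]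
    have hcardQ : Nat.card Q = q ^ (Nat.card G).factorization q := by
      rw [hQdef, Subgroup.card_map_of_injective (Subgroup.subtype_injective H), hfac]
      exact Q₀.card_eq_multiplicity
    let P : Sylow q G := Sylow.ofCard Q hcardQ
    have hPQ : (P : Subgroup G) = Q := Sylow.coe_ofCard Q hcardQ
    have hHnQ : H ≤ Subgroup.normalizer (Q : Set G) := by
      intro h hh
      rw [Subgroup.mem_normalizer_iff]
      intro y
      constructor
      · rintro ⟨y₀, hy₀, rfl⟩
        exact ⟨⟨h, hh⟩ * y₀ * ⟨h, hh⟩⁻¹, hQ₀n.conj_mem y₀ hy₀ ⟨h, hh⟩, rfl⟩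
      · rintro ⟨z₀, hz₀, hz⟩
        have hyH : y ∈ H := by
          have : y = h⁻¹ * (h * y * h⁻¹) * h := by group
          rw [this, ← hz]
          exact H.mul_mem (H.mul_mem (H.inv_mem hh) z₀.2) hh
        refine ⟨⟨y, hyH⟩, ?_, rfl⟩
        have := hQ₀n.conj_mem z₀ hz₀ ⟨h, hh⟩⁻¹
        have e : (⟨y, hyH⟩ : H) = (⟨h, hh⟩ : H)⁻¹ * z₀ * (⟨h, hh⟩ : H)⁻¹⁻¹ := by
          apply Subtype.ext
          show y = (h⁻¹ : G) * (z₀ : G) * (h⁻¹ : G)⁻¹
          have hz' : (z₀ : G) = h * y * h⁻¹ := hz
          rw [hz']; group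
        rw [e]; exact this
    have hcopQ : (Nat.card Q).Coprime (Q.relIndex H) := by
      rw [hcardQ]
      apply Nat.Coprime.pow_left
      rw [hq.coprime_iff_not_dvd]
      intro hd
      have h1 : Q.relIndex H ∣ Q.index := Subgroup.relIndex_dvd_index_of_le hQH
      rw [← hPQ] at h1
      exact P.not_dvd_index (hd.trans h1)
    obtain ⟨R, hRH, hRQ, hQR, hRcard⟩ := exists_relative_complement Q H hQH hHnQ hcopQ
    have hRQcop : (Nat.card R).Coprime (Nat.card Q) := by rw [hRcard]; exact hcopQ.symm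
    have hcomm := commutator_eq_bot_of_nilpotent_of_coprime H Q R hH hQH hRH (hRH.trans hHnQ) hRQcop
    rw [Subgroup.commutator_eq_bot_iff_le_centralizer] at hcomm
    have hctlP : ControlsOwnFusion P := by
      intro x hx g hg
      have hxQ : x ∈ Q := by rw [← hPQ]; exact hx
      have hgQ : g * x * g⁻¹ ∈ Q := by rw [← hPQ]; exact hg
      obtain ⟨h, hh, hhx⟩ := hctl x (hQH hxQ) _ (hQH hgQ) ⟨g, rfl⟩
      have hh' : h ∈ ((Q ⊔ R : Subgroup G) : Set G) := by rw [hQR]; exact hh
      rw [Subgroup.coe_mul_of_right_le_normalizer_left Q R (hRH.trans hHnQ)] at hh'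
      obtain ⟨a, ha, r, hr, rfl⟩ := Set.mem_mul.mp hh'
      refine ⟨a, (by show a ∈ (P : Subgroup G); rw [hPQ]; exact ha), ?_⟩
      rw [← hhx]
      have hrx : r * x = x * r := (hcomm hxQ r hr)
      have : a * r * x * (a * r)⁻¹ = a * (r * x) * r⁻¹ * a⁻¹ := by group
      rw [this, hrx]; group
    obtain ⟨K, hKn, hKc⟩ := normal_complement_of_controlsOwnFusion P hctlP
    exact ⟨P, K, hKn, hKc⟩

end Cfsg.Agent.Lib.Helper1
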