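import Mathlib
import Cfsg.Prelude.Def_SolvableStructure
import Cfsg.Agent.Lib.Helper1.SupersolvableBasic
import Cfsg.Agent.Lib.Helper1.SupersolvableCLT
import Cfsg.Agent.Lib.Helper1.Hall
set_option autoImplicit false
universe u v
open Cfsg
namespace Cfsg.Agent.Lib.Helper1
variable {G : Type u} [Group G]

theorem isSupersolvable_of_comm_aux (n : ℕ) :
    ∀ (G : Type u) [CommGroup G] [Finite G], Nat.card G = n → IsSupersolvable G := by
  induction n using Nat.strong_induction_on with
  | _ n ih =>
    intro G _ _ hcard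
    rcases subsingleton_or_nontrivial G with hs | hnt
    · exact isSupersolvable_of_subsingleton
    · obtain ⟨g, hg⟩ := exists_ne (1 : G)
      have hNne : Subgroup.zpowers g ≠ ⊥ := by
        intro h
        apply hg
        have : g ∈ Subgroup.zpowers g := Subgroup.mem_zpowers g
        rw [h] at this
        exact Subgroup.mem_bot.mp this
      have : IsCyclic (Subgroup.zpowers g) := Subgroup.isCyclic_zpowers g
      apply isSupersolvable_of_quotient_cyclic (Subgroup.zpowers g)
      apply ih (Nat.card (G ⧸ Subgroup.zpowers g)) _ (G ⧸ Subgroup.zpowers g) rfl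
      rw [← hcard]
      exact card_quotient_lt_of_ne_bot _ hNne

theorem isSupersolvable_of_comm (A : Type u) [CommGroup A] [Finite A] : IsSupersolvable A :=
  isSupersolvable_of_comm_aux _ A rfl

/-- arithmetic splitting -/
theorem exists_hall_split (g a d : ℕ) (hg : g ≠ 0) (ha : a ≠ 0) (hd : d ∣ g * a)
    (hexp : ∀ p : ℕ, p.Prime → p ∣ g → a.factorization p + 1 = g.factorization p) :
    ∃ m n b : ℕ, g = m * n ∧ m.Coprime n ∧ b ∣ a ∧ d = m * b := by
  have hd0 : d ≠ 0 := by
    rintro rfl
    rw [zero_dvd_iff] at hd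
    exact (mul_ne_zero hg ha) hd
  obtain ⟨f, hf⟩ : ∃ f : ℕ →₀ ℕ, f = g.factorization.filter
    (fun p => g.factorization p ≤ d.factorization p) := ⟨_, rfl⟩
  have hfv : ∀ p, f p = if g.factorization p ≤ d.factorization p then g.factorization p else 0 := by
    intro p
    rw [hf, Finsupp.filter_apply]
  have hfsupp : ∀ p ∈ f.support, p.Prime := by
    intro p hp
    rw [Finsupp.mem_support_iff, hfv] at hp
    split_ifs at hp with h
    · exact Nat.prime_of_mem_primeFactors (Nat.support_factorization g ▸ Finsupp.mem_support_iff.mpr hp)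
    · exact absurd rfl hp
  obtain ⟨m, hm⟩ : ∃ m : ℕ, m = f.prod (· ^ ·) := ⟨_, rfl⟩
  have hmf : m.factorization = f := by rw [hm]; exact Nat.prod_pow_factorization_eq_self hfsupp
  have hm0 : m ≠ 0 := by
    rw [hm, Finsupp.prod]
    apply Finset.prod_ne_zero_iff.mpr
    intro p hp
    exact pow_ne_zero _ (hfsupp p hp).ne_zero
  have hdga : ∀ p, d.factorization p ≤ g.factorization p + a.factorization p := by
    intro p
    have := (Nat.factorization_le_iff_dvd hd0 (mul_ne_zero hg ha)).mpr hd p
    rwa [Nat.factorization_mul hg ha] at this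
  have hmg : m ∣ g := by
    rw [← Nat.factorization_le_iff_dvd hm0 hg, hmf]
    intro p
    rw [hfv]
    split_ifs <;> simp
  have hmd : m ∣ d := by
    rw [← Nat.factorization_le_iff_dvd hm0 hd0, hmf]
    intro p
    rw [hfv]
    split_ifs with h
    · exact h
    · simp
  obtain ⟨n, hn⟩ := hmg
  obtain ⟨b, hb⟩ := hmd
  have hn0 : n ≠ 0 := by
    rintro rfl
    rw [mul_zero] at hn; exact hg hn
  have hb0 : b ≠ 0 := by
    rintro rfl
    rw [mul_zero] at hb; exact hd0 hb
  have hgf : ∀ p, g.factorization p = f p + n.factorization p := by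
    intro p
    rw [hn, Nat.factorization_mul hm0 hn0, hmf]; rfl
  have hdf : ∀ p, d.factorization p = f p + b.factorization p := by
    intro p
    rw [hb, Nat.factorization_mul hm0 hb0, hmf]; rfl
  refine ⟨m, n, b, hn, ?_, ?_, hb⟩
  · apply Nat.coprime_of_dvd
    intro p hp hpm hpn
    have h1 : 0 < m.factorization p := hp.factorization_pos_of_dvd hm0 hpm
    have h2 : 0 < n.factorization p := hp.factorization_pos_of_dvd hn0 hpn
    rw [hmf] at h1
    have h3 := hgf p
    have h4 := hfv p
    split_ifs at h4 with h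
    · omega
    · omega
  · rw [← Nat.factorization_le_iff_dvd hb0 ha]
    intro p
    have h3 := hdf p
    have h4 := hfv p
    have h5 := hdga p
    split_ifs at h4 with h
    · omega
    · push Not at h
      have hpos : 0 < g.factorization p := by omega
      have hpp : p.Prime := by
        apply Nat.prime_of_mem_primeFactors
        rw [← Nat.support_factorization, Finsupp.mem_support_iff]
        exact hpos.ne'
      have hpg : p ∣ g := Nat.dvd_of_factorization_pos hpos.ne'
      have := hexp p hpp hpg
      omega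

theorem hasSubgroupOfEveryOrder_prod_abelian {A : Type v} [CommGroup A] [Finite G] [Finite A]
    [Group.IsSolvable G]
    (hexp : ∀ p : ℕ, p.Prime → p ∣ Nat.card G →
      (Nat.card A).factorization p + 1 = (Nat.card G).factorization p) :
    HasSubgroupOfEveryOrder (G × A) := by
  intro d hd
  rw [Nat.card_prod] at hd
  obtain ⟨m, n, b, hmn, hcop, hba, hdmb⟩ := exists_hall_split (Nat.card G) (Nat.card A) d
    Nat.card_pos.ne' Nat.card_pos.ne' hd hexp
  obtain ⟨H, hH⟩ := hall_exists m n hmn hcop
  obtain ⟨B, hB⟩ := hasSubgroupOfEveryOrder_of_isSupersolvable A (isSupersolvable_of_comm A) b hba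
  refine ⟨H.prod B, ?_⟩
  rw [Nat.card_congr (Subgroup.prodEquiv H B).toEquiv, Nat.card_prod, hH, hB, hdmb]

end Cfsg.Agent.Lib.Helper1
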