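import Mathlib
import Cfsg.Prelude.Def_Solvable
import Cfsg.Agent.Lib.Helper1.MaxInter
import Cfsg.Agent.Lib.Helper1.SylowSystem
import Cfsg.Agent.Lib.Helper1.PCore
import Cfsg.Agent.Lib.Helper1.FrobeniusCount
open Pointwise

set_option autoImplicit false

namespace Cfsg.Agent.Lib.Helper1

universe u

variable {G : Type u} [Group G]

theorem factorization_pow_mul_prime_left {p q m : ℕ} (hp : p.Prime) (hq : q.Prime) (hpq : p ≠ q) :
    (p ^ m * q).factorization p = m := by
  rw [Nat.factorization_mul (pow_ne_zero _ hp.ne_zero) hq.ne_zero, hp.factorization_pow,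
    hq.factorization]
  simp [hpq.symm]

theorem factorization_pow_mul_prime_right {p q m : ℕ} (hp : p.Prime) (hq : q.Prime) (hpq : p ≠ q) :
    (p ^ m * q).factorization q = 1 := by
  rw [Nat.factorization_mul (pow_ne_zero _ hp.ne_zero) hq.ne_zero, hp.factorization_pow,
    hq.factorization]
  simp [hpq]

theorem isPGroup_of_dvd_pow_mul_of_not_dvd {H : Type*} [Group H] [Finite H] {p q m : ℕ}
    (hp : p.Prime) (hq : q.Prime)
    (hdvd : Nat.card H ∣ p ^ m * q) (hq' : ¬ q ∣ Nat.card H) : IsPGroup p H := by
  have hcop : (Nat.card H).Coprime q := (Nat.Coprime.symm ((Nat.Prime.coprime_iff_not_dvd hq).mpr hq'))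
  have h1 : Nat.card H ∣ p ^ m := hcop.dvd_of_dvd_mul_right hdvd
  obtain ⟨k, -, hk⟩ := (Nat.dvd_prime_pow hp).mp h1
  have : Fact p.Prime := ⟨hp⟩
  exact IsPGroup.of_card hk

theorem sylow_inter_trivial_of_pCore_eq_bot [Finite G] {p q m : ℕ} [hp : Fact p.Prime]
    (hq : q.Prime) (hpq : p ≠ q) (hcard : Nat.card G = p ^ m * q)
    (hcore : Cfsg.pCore p G = ⊥) (P Q : Sylow p G) (hne : P ≠ Q) :
    (P : Subgroup G) ⊓ Q = ⊥ := by
  by_contra hD0
  set X : Set (Subgroup G) := Set.range (fun P : Sylow p G => (P : Subgroup G)) with hX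
  have hnil : ∀ R ∈ X, Group.IsNilpotent R := by
    rintro _ ⟨R, rfl⟩
    exact R.2.isNilpotent
  have hanti : ∀ R ∈ X, ∀ S ∈ X, R ≤ S → R = S := by
    rintro _ ⟨R, rfl⟩ _ ⟨S, rfl⟩ hRS
    exact (R.is_maximal' S.2 hRS).symm
  have hne' : (P : Subgroup G) ≠ Q := fun h => hne (Sylow.ext h)
  obtain ⟨_, ⟨P₁, rfl⟩, _, ⟨P₂, rfl⟩, hne12, hge, hmax⟩ :=
    exists_max_inter X P Q ⟨P, rfl⟩ ⟨Q, rfl⟩ hne'
  simp only at hne12 hge hmax
  set D : Subgroup G := (P₁ : Subgroup G) ⊓ P₂ with hD
  have hDne : D ≠ ⊥ := by
    intro h
    rw [h, Subgroup.card_bot] at hge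
    have : Nat.card ((P : Subgroup G) ⊓ Q : Subgroup G) = 1 :=
      le_antisymm hge Nat.card_pos
    exact hD0 (Subgroup.card_eq_one.mp this)
  have hnot := normalizer_not_le_of_max_inter X hnil hanti P₁ P₂ ⟨P₁, rfl⟩ ⟨P₂, rfl⟩ hne12 hmax
  set N : Subgroup G := Subgroup.normalizer (D : Set G) with hN
  -- N is not a p-group
  have hNp : ¬ IsPGroup p N := by
    intro h
    obtain ⟨R, hR⟩ := h.exists_le_sylow
    exact hnot R ⟨R, rfl⟩ hR
  have hqN : q ∣ Nat.card N := by
    by_contra hq'
    apply hNp
    exact isPGroup_of_dvd_pow_mul_of_not_dvd hp.out hq (hcard ▸ Subgroup.card_subgroup_dvd_card N) hq'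
  have : Fact q.Prime := ⟨hq⟩
  obtain ⟨z, hz⟩ := exists_prime_orderOf_dvd_card' (G := N) q hqN
  set Z : Subgroup G := Subgroup.zpowers (z : G) with hZ
  have hZN : Z ≤ N := by
    rw [hZ, Subgroup.zpowers_le]; exact z.2
  have hZcard : Nat.card Z = q := by
    rw [hZ, Nat.card_zpowers, Subgroup.orderOf_coe]; exact hz
  have hP₁card : Nat.card (P₁ : Subgroup G) = p ^ m := by
    rw [P₁.card_eq_multiplicity, hcard, factorization_pow_mul_prime_left hp.out hq hpq]
  have hmul : ((P₁ : Subgroup G) : Set G) * (Z : Set G) = ((⊤ : Subgroup G) : Set G) := by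
    apply mul_eq_of_card_mul_coprime _ _ _ le_top le_top
    · rw [hP₁card, hZcard, Subgroup.card_top, hcard]
    · rw [hP₁card, hZcard]
      exact Nat.Coprime.pow_left m ((Nat.coprime_primes hp.out hq).mpr hpq)
  -- normal closure of D inside P₁
  have hncl : Subgroup.normalClosure (D : Set G) ≤ P₁ := by
    rw [Subgroup.normalClosure, Subgroup.closure_le]
    intro a ha
    rw [Group.mem_conjugatesOfSet_iff] at ha
    obtain ⟨d, hd, hconj⟩ := ha
    rw [isConj_iff] at hconj
    obtain ⟨c, rfl⟩ := hconj
    have hc : c ∈ ((P₁ : Subgroup G) : Set G) * (Z : Set G) := by rw [hmul]; trivial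
    obtain ⟨y, hy, z', hz', rfl⟩ := hc
    have h1 : z' * d * z'⁻¹ ∈ D := (Subgroup.mem_normalizer_iff.mp (hZN hz') d).mp hd
    have e : y * z' * d * (y * z')⁻¹ = y * (z' * d * z'⁻¹) * y⁻¹ := by group
    show y * z' * d * (y * z')⁻¹ ∈ (P₁ : Subgroup G)
    rw [e]
    exact Subgroup.mul_mem _ (Subgroup.mul_mem _ hy h1.1) (Subgroup.inv_mem _ hy)
  have h2 : Subgroup.normalClosure (D : Set G) ≤ Cfsg.pCore p G :=
    le_pCore Subgroup.normalClosure_normal (P₁.2.to_le hncl)
  rw [hcore] at h2
  exact hDne (eq_bot_iff.mpr (Subgroup.le_normalClosure.trans h2))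


theorem isSolvable_of_card_prime_pow {H : Type*} [Group H] [Finite H] {p k : ℕ} (hp : p.Prime)
    (h : Nat.card H = p ^ k) : Group.IsSolvable H := by
  have : Fact p.Prime := ⟨hp⟩
  have : Group.IsNilpotent H := (IsPGroup.of_card h).isNilpotent
  infer_instance

theorem isSolvable_of_card_prime {H : Type*} [Group H] [Finite H] {q : ℕ} (hq : q.Prime)
    (h : Nat.card H = q) : Group.IsSolvable H :=
  isSolvable_of_card_prime_pow (k := 1) hq (by rw [h, pow_one])

theorem isSolvable_of_normal_of_quotient (N : Subgroup G) [N.Normal] (h1 : Group.IsSolvable N)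
    (h2 : Group.IsSolvable (G ⧸ N)) : Group.IsSolvable G :=
  Group.isSolvable_of_ker_le_range N.subtype (QuotientGroup.mk' N) (by simp)

theorem solvable_pmq_aux : ∀ (n : ℕ) (G : Type u) [Group G] [Finite G], Nat.card G = n →
    ∀ (p q m : ℕ), p.Prime → q.Prime → Nat.card G = p ^ m * q → Group.IsSolvable G := by
  intro n
  induction n using Nat.strong_induction_on with
  | _ n ih =>
    intro G _ _ hn p q m hp hq hcard
    have : Fact p.Prime := ⟨hp⟩
    have : Fact q.Prime := ⟨hq⟩
    by_cases hpq : p = q
    · subst hpq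
      exact isSolvable_of_card_prime_pow (k := m + 1) hp (by rw [hcard, pow_succ])
    by_cases hm : m = 0
    · subst hm
      exact isSolvable_of_card_prime hq (by rw [hcard, pow_zero, one_mul])
    set N := Cfsg.pCore p G with hN
    have hNn : N.Normal := pCore_normal p
    have hNp : IsPGroup p N := pCore_isPGroup p
    by_cases hN0 : N = ⊥
    · -- Frobenius situation
      obtain ⟨P⟩ : Nonempty (Sylow p G) := inferInstance
      have hPcard : Nat.card (P : Subgroup G) = p ^ m := by
        rw [P.card_eq_multiplicity, hcard, factorization_pow_mul_prime_left hp hq hpq]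
      have hPidx : (P : Subgroup G).index = q := by
        have h1 := (P : Subgroup G).card_mul_index
        rw [hPcard, hcard] at h1
        exact Nat.eq_of_mul_eq_mul_left (pow_pos hp.pos m) h1
      have hPne : (P : Subgroup G) ≠ ⊥ := by
        intro h
        rw [h, Subgroup.card_bot] at hPcard
        have : 1 < p ^ m := Nat.one_lt_pow hm hp.one_lt
        omega
      have hPtop : (P : Subgroup G) ≠ ⊤ := by
        intro h
        rw [h, Subgroup.index_top] at hPidx
        exact hq.one_lt.ne hPidx
      have hPnn : ¬ (P : Subgroup G).Normal := by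
        intro h
        have := le_pCore h P.2
        rw [← hN, hN0] at this
        exact hPne (eq_bot_iff.mpr this)
      have hfrob : Cfsg.IsFrobeniusComplement (P : Subgroup G) := by
        refine ⟨hPne, hPtop, ?_⟩
        intro g hg
        have h1 : (MulAut.conj g • (P : Subgroup G)) = ((g • P : Sylow p G) : Subgroup G) := rfl
        rw [h1]
        apply sylow_inter_trivial_of_pCore_eq_bot hq hpq hcard hN0
        intro heq
        -- g normalises P; normaliser is P or ⊤
        have hgn : g ∈ Subgroup.normalizer ((P : Subgroup G) : Set G) :=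
          Sylow.smul_eq_iff_mem_normalizer.mp heq.symm
        have hidx : (Subgroup.normalizer ((P : Subgroup G) : Set G)).index ∣ q := by
          rw [← hPidx]; exact Subgroup.index_dvd_of_le Subgroup.le_normalizer
        rcases (Nat.dvd_prime hq).mp hidx with h1 | h1
        · exact hPnn (Subgroup.normalizer_eq_top_iff.mp (Subgroup.index_eq_one.mp h1))
        · have h2 : Nat.card (Subgroup.normalizer ((P : Subgroup G) : Set G)) = p ^ m := by
            have h3 := (Subgroup.normalizer ((P : Subgroup G) : Set G)).card_mul_index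
            rw [h1, hcard] at h3
            exact Nat.eq_of_mul_eq_mul_right hq.pos h3
          have h4 : (P : Subgroup G) = Subgroup.normalizer ((P : Subgroup G) : Set G) :=
            Subgroup.eq_of_le_of_card_ge Subgroup.le_normalizer (by rw [h2, hPcard])
          apply hg
          rw [h4]; exact hgn
      have hK : Nat.card (Cfsg.frobeniusKernel (P : Subgroup G)) = q := by
        rw [card_frobeniusKernel hfrob, hPidx]
      -- Sylow q-subgroups all equal the kernel
      have hQK : ∀ Q : Sylow q G, ((Q : Subgroup G) : Set G) = Cfsg.frobeniusKernel (P : Subgroup G) := by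
        intro Q
        have hQcard : Nat.card (Q : Subgroup G) = q := by
          rw [Q.card_eq_multiplicity, hcard, factorization_pow_mul_prime_right hp hq hpq, pow_one]
        apply Set.eq_of_subset_of_ncard_le
        · intro x hx
          by_cases hx1 : x = 1
          · left; exact hx1
          · right
            intro g hxg
            apply hx1
            have hcop : (Nat.card (Q : Subgroup G)).Coprime
                (Nat.card (MulAut.conj g • (P : Subgroup G) : Subgroup G)) := by
              rw [hQcard, card_conj_smul, hPcard]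
              exact Nat.Coprime.pow_right m ((Nat.coprime_primes hq hp).mpr (Ne.symm hpq))
            have := Subgroup.disjoint_def.mp (Subgroup.disjoint_of_coprime_natCard hcop) hx hxg
            exact this
        · have h1 : (Cfsg.frobeniusKernel (P : Subgroup G)).ncard = q := by
            rw [← Nat.card_coe_set_eq]; exact hK
          have h2 : ((Q : Subgroup G) : Set G).ncard = q := by
            rw [← Nat.card_coe_set_eq]; exact hQcard
          rw [h1, h2]
        · exact Set.toFinite _
      have hsub : Subsingleton (Sylow q G) := by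
        constructor
        intro Q₁ Q₂
        apply Sylow.ext
        apply SetLike.coe_injective
        rw [hQK Q₁, hQK Q₂]
      obtain ⟨Q⟩ : Nonempty (Sylow q G) := inferInstance
      have hQn : (Q : Subgroup G).Normal := Sylow.normal_of_subsingleton Q
      have hQcard : Nat.card (Q : Subgroup G) = q := by
        rw [Q.card_eq_multiplicity, hcard, factorization_pow_mul_prime_right hp hq hpq, pow_one]
      have hquot : Nat.card (G ⧸ (Q : Subgroup G)) = p ^ m := by
        have h1 := (Q : Subgroup G).card_mul_index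
        rw [hQcard, hcard, mul_comm] at h1
        exact Nat.eq_of_mul_eq_mul_right hq.pos h1
      exact isSolvable_of_normal_of_quotient (Q : Subgroup G) (isSolvable_of_card_prime hq hQcard)
        (isSolvable_of_card_prime_pow hp hquot)
    · -- pass to the quotient by the p-core
      obtain ⟨k, hk⟩ := IsPGroup.iff_card.mp hNp
      have hk0 : k ≠ 0 := by
        intro h
        rw [h, pow_zero] at hk
        exact hN0 (Subgroup.card_eq_one.mp hk)
      have hdvd : p ^ k ∣ p ^ m * q := by
        rw [← hk, ← hcard]; exact Subgroup.card_subgroup_dvd_card N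
      have hcop : (p ^ k).Coprime q := Nat.Coprime.pow_left k ((Nat.coprime_primes hp hq).mpr hpq)
      have hkm : k ≤ m := (Nat.pow_dvd_pow_iff_le_right hp.one_lt).mp (hcop.dvd_of_dvd_mul_right hdvd)
      have hquot : Nat.card (G ⧸ N) = p ^ (m - k) * q := by
        have h1 := N.card_mul_index
        rw [hk, hcard] at h1
        have h2 : p ^ m * q = p ^ k * (p ^ (m - k) * q) := by
          rw [← mul_assoc, ← pow_add, Nat.add_sub_cancel' hkm]
        rw [h2] at h1
        exact Nat.eq_of_mul_eq_mul_left (pow_pos hp.pos k) h1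
      have hlt : Nat.card (G ⧸ N) < n := by
        rw [← hn]
        have h1 := N.card_mul_index
        have h2 : 1 < Nat.card N := by rw [hk]; exact Nat.one_lt_pow hk0 hp.one_lt
        have h3 : 0 < N.index := Nat.pos_of_ne_zero Subgroup.index_ne_zero_of_finite
        change N.index < Nat.card G
        nlinarith
      have hqs := ih _ hlt (G ⧸ N) rfl p q (m - k) hp hq hquot
      exact isSolvable_of_normal_of_quotient N (isSolvable_of_card_prime_pow hp hk) hqs

theorem solvable_of_card_prime_pow_mul_prime [Finite G] (p q m : ℕ) (hp : p.Prime) (hq : q.Prime)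
    (hG : Nat.card G = p ^ m * q) : Group.IsSolvable G :=
  solvable_pmq_aux _ G rfl p q m hp hq hG

end Cfsg.Agent.Lib.Helper1
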