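import Mathlib
import Cfsg.Prelude.Def_Solvable
import Cfsg.Agent.Lib.Helper1.MaxInter
import Cfsg.Agent.Lib.Helper1.FrobeniusCount
import Cfsg.Agent.Lib.Helper1.SolvablePmQ
import Cfsg.Agent.Lib.Helper1.ThreeSolvable
import Cfsg.Agent.Lib.Helper1.FrattiniHall
open Pointwise

set_option autoImplicit false

namespace Cfsg.Agent.Lib.Helper1

universe u

variable {G : Type u} [Group G]

theorem isCoatom_conj_smul (g : G) {M : Subgroup G} (hM : IsCoatom M) :
    IsCoatom (MulAut.conj g • M) :=
  (OrderIso.isCoatom_iff ((MulAut.conj g).mapSubgroup) M).mpr hM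

/-- In a finite group without proper nontrivial normal subgroups all of whose maximal subgroups are
nilpotent, distinct maximal subgroups meet trivially. -/
theorem coatom_inter_trivial [Finite G]
    (hsimple : ∀ N : Subgroup G, N.Normal → N = ⊥ ∨ N = ⊤)
    (h : ∀ M : Subgroup G, IsCoatom M → Group.IsNilpotent M)
    (M₁ M₂ : Subgroup G) (h₁ : IsCoatom M₁) (h₂ : IsCoatom M₂) (hne : M₁ ≠ M₂) : M₁ ⊓ M₂ = ⊥ := by
  by_contra hD0
  set X : Set (Subgroup G) := {M | IsCoatom M} with hX
  have hanti : ∀ R ∈ X, ∀ S ∈ X, R ≤ S → R = S := by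
    intro R hR S hS hRS
    rcases eq_or_lt_of_le hRS with h' | h'
    · exact h'
    · exact absurd (hR.2 S h') hS.1
  obtain ⟨P₁, hP₁, P₂, hP₂, hne12, hge, hmax⟩ := exists_max_inter X M₁ M₂ h₁ h₂ hne
  set D : Subgroup G := P₁ ⊓ P₂ with hD
  have hDne : D ≠ ⊥ := by
    intro h'
    rw [h', Subgroup.card_bot] at hge
    have : Nat.card (M₁ ⊓ M₂ : Subgroup G) = 1 := le_antisymm hge Nat.card_pos
    exact hD0 (Subgroup.card_eq_one.mp this)
  have hnot := normalizer_not_le_of_max_inter X h hanti P₁ P₂ hP₁ hP₂ hne12 hmax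
  have htop : Subgroup.normalizer (D : Set G) = ⊤ := by
    rcases eq_top_or_exists_le_coatom (Subgroup.normalizer (D : Set G)) with h' | ⟨M, hM, hle⟩
    · exact h'
    · exact absurd hle (hnot M hM)
  have hDn : D.Normal := Subgroup.normalizer_eq_top_iff.mp htop
  rcases hsimple D hDn with h' | h'
  · exact hDne h'
  · apply hP₁.1
    rw [eq_top_iff, ← h']
    exact inf_le_left

theorem isFrobeniusComplement_of_coatom [Finite G]
    (hsimple : ∀ N : Subgroup G, N.Normal → N = ⊥ ∨ N = ⊤)
    (h : ∀ M : Subgroup G, IsCoatom M → Group.IsNilpotent M)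
    (M : Subgroup G) (hM : IsCoatom M) (hM0 : M ≠ ⊥) : Cfsg.IsFrobeniusComplement M := by
  refine ⟨hM0, hM.1, ?_⟩
  intro g hg
  apply coatom_inter_trivial hsimple h M _ hM (isCoatom_conj_smul g hM)
  intro heq
  -- g normalises M, so M is normal or g ∈ M
  have hgn : g ∈ Subgroup.normalizer (M : Set G) := mem_normalizer_of_conj_smul_eq heq.symm
  rcases eq_or_lt_of_le (Subgroup.le_normalizer (H := M)) with h' | h'
  · apply hg; rw [h']; exact hgn
  · have := hM.2 _ h'
    have hMn : M.Normal := Subgroup.normalizer_eq_top_iff.mp this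
    rcases hsimple M hMn with h'' | h''
    · exact hM0 h''
    · exact hM.1 h''


theorem two_mul_index_le_card [Finite G] (M : Subgroup G) (hM0 : M ≠ ⊥) :
    2 * M.index ≤ Nat.card G := by
  have h1 := M.card_mul_index
  have h2 : Nat.card M ≠ 1 := fun h => hM0 (Subgroup.card_eq_one.mp h)
  have h3 : 0 < Nat.card M := Nat.card_pos
  have h4 : 2 ≤ Nat.card M := by omega
  calc 2 * M.index ≤ Nat.card M * M.index := Nat.mul_le_mul_right _ h4
    _ = Nat.card G := h1

/-- The "simple" case of Schmidt's theorem: contradiction by counting. -/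
theorem schmidt_simple_case [Finite G]
    (hsimple : ∀ N : Subgroup G, N.Normal → N = ⊥ ∨ N = ⊤)
    (h : ∀ M : Subgroup G, IsCoatom M → Group.IsNilpotent M) : Group.IsSolvable G := by
  by_cases htriv : (⊥ : Subgroup G) = ⊤
  · have : Subsingleton G := by
      constructor
      intro a b
      have ha : a ∈ (⊥ : Subgroup G) := by rw [htriv]; trivial
      have hb : b ∈ (⊥ : Subgroup G) := by rw [htriv]; trivial
      rw [Subgroup.mem_bot.mp ha, Subgroup.mem_bot.mp hb]
    exact Group.isSolvable_of_comm (fun a b => Subsingleton.elim _ _)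
  -- a coatom
  obtain ⟨M, hM, -⟩ := (eq_top_or_exists_le_coatom (⊥ : Subgroup G)).resolve_left htriv
  have hcyc : ∀ x : G, Subgroup.zpowers x = ⊤ → Group.IsSolvable G := by
    intro x hx
    apply Group.isSolvable_of_comm
    intro a b
    have ha : a ∈ Subgroup.zpowers x := by rw [hx]; trivial
    have hb : b ∈ Subgroup.zpowers x := by rw [hx]; trivial
    obtain ⟨i, rfl⟩ := Subgroup.mem_zpowers_iff.mp ha
    obtain ⟨j, rfl⟩ := Subgroup.mem_zpowers_iff.mp hb
    rw [← zpow_add, ← zpow_add, add_comm]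
  by_cases hM0 : M = ⊥
  · -- every nontrivial element generates
    have hne : ∃ x : G, x ≠ 1 := by
      by_contra hcon
      push Not at hcon
      apply htriv
      rw [eq_comm, eq_bot_iff]
      intro x _
      rw [Subgroup.mem_bot]; exact hcon x
    obtain ⟨x, hx⟩ := hne
    apply hcyc x
    apply hM.2
    rw [hM0, bot_lt_iff_ne_bot]
    intro h'
    apply hx
    have : x ∈ Subgroup.zpowers x := Subgroup.mem_zpowers x
    rw [h'] at this
    exact Subgroup.mem_bot.mp this
  have hF := isFrobeniusComplement_of_coatom hsimple h M hM hM0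
  have hK := card_frobeniusKernel hF
  -- pick g ≠ 1 in the kernel
  have hidx2 : 2 ≤ M.index := by
    have h1 : M.index ≠ 1 := fun h' => hM.1 (Subgroup.index_eq_one.mp h')
    have h0 : M.index ≠ 0 := Subgroup.index_ne_zero_of_finite
    omega
  have hexg : ∃ g ∈ Cfsg.frobeniusKernel M, g ≠ 1 := by
    by_contra hcon
    push Not at hcon
    have hsub : Cfsg.frobeniusKernel M ⊆ {1} := fun x hx => hcon x hx
    have h1 : (Cfsg.frobeniusKernel M).ncard ≤ ({1} : Set G).ncard :=
      Set.ncard_le_ncard hsub (Set.toFinite _)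
    rw [Set.ncard_singleton, ← Nat.card_coe_set_eq, hK] at h1
    omega
  obtain ⟨g, hgK, hg1⟩ := hexg
  have hgconj : ∀ a : G, g ∉ MulAut.conj a • M := by
    rcases hgK with h' | h'
    · exact absurd h' hg1
    · exact h'
  by_cases hgtop : Subgroup.zpowers g = ⊤
  · exact hcyc g hgtop
  obtain ⟨M', hM', hgM'⟩ := (eq_top_or_exists_le_coatom (Subgroup.zpowers g)).resolve_left hgtop
  have hgM'mem : g ∈ M' := hgM' (Subgroup.mem_zpowers g)
  have hM'0 : M' ≠ ⊥ := by
    intro h'
    rw [h'] at hgM'mem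
    exact hg1 (Subgroup.mem_bot.mp hgM'mem)
  have hF' := isFrobeniusComplement_of_coatom hsimple h M' hM' hM'0
  have hK' := card_frobeniusKernel hF'
  -- the two kernels cover G
  have hcover : Cfsg.frobeniusKernel M ∪ Cfsg.frobeniusKernel M' = Set.univ := by
    rw [Set.eq_univ_iff_forall]
    intro x
    by_contra hx
    rw [Set.mem_union, not_or] at hx
    obtain ⟨hx1, hx2⟩ := hx
    simp only [Cfsg.frobeniusKernel, Set.mem_ofPred_eq, not_or, not_forall, not_not] at hx1 hx2
    obtain ⟨hxne, a, ha⟩ := hx1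
    obtain ⟨-, b, hb⟩ := hx2
    have hint : MulAut.conj a • M ⊓ MulAut.conj b • M' ≠ ⊥ := by
      intro h'
      have : x ∈ MulAut.conj a • M ⊓ MulAut.conj b • M' := ⟨ha, hb⟩
      rw [h'] at this
      exact hxne (Subgroup.mem_bot.mp this)
    have heq : MulAut.conj a • M = MulAut.conj b • M' := by
      by_contra hne
      exact hint (coatom_inter_trivial hsimple h _ _ (isCoatom_conj_smul a hM)
        (isCoatom_conj_smul b hM') hne)
    -- then g ∈ M' = conj (b⁻¹ a) • M
    have h1 : M' = MulAut.conj (b⁻¹ * a) • M := by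
      rw [map_mul, mul_smul, heq, map_inv, inv_smul_smul]
    apply hgconj (b⁻¹ * a)
    rw [← h1]; exact hgM'mem
  have h1 := Set.ncard_union_add_ncard_inter (Cfsg.frobeniusKernel M) (Cfsg.frobeniusKernel M')
    (Set.toFinite _) (Set.toFinite _)
  rw [hcover, Set.ncard_univ, ← Nat.card_coe_set_eq (Cfsg.frobeniusKernel M),
    ← Nat.card_coe_set_eq (Cfsg.frobeniusKernel M'), hK, hK'] at h1
  have h2 : 1 ≤ (Cfsg.frobeniusKernel M ∩ Cfsg.frobeniusKernel M').ncard := by
    rw [Nat.one_le_iff_ne_zero, Ne, Set.ncard_eq_zero (Set.toFinite _)]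
    intro h'
    have : (1 : G) ∈ Cfsg.frobeniusKernel M ∩ Cfsg.frobeniusKernel M' := ⟨Or.inl rfl, Or.inl rfl⟩
    rw [h'] at this
    exact this
  have h3 := two_mul_index_le_card M hM0
  have h4 := two_mul_index_le_card M' hM'0
  omega

theorem schmidt_aux : ∀ (n : ℕ) (G : Type u) [Group G] [Finite G], Nat.card G = n →
    (∀ M : Subgroup G, IsCoatom M → Group.IsNilpotent M) → Group.IsSolvable G := by
  intro n
  induction n using Nat.strong_induction_on with
  | _ n ih =>
    intro G _ _ hn h
    by_cases hsimple : ∀ N : Subgroup G, N.Normal → N = ⊥ ∨ N = ⊤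
    · exact schmidt_simple_case hsimple h
    push Not at hsimple
    obtain ⟨N, hNn, hN0, hN1⟩ := hsimple
    -- N solvable
    obtain ⟨M, hM, hNM⟩ := (eq_top_or_exists_le_coatom N).resolve_left hN1
    have hMnil : Group.IsNilpotent M := h M hM
    have hMsolv : Group.IsSolvable M := inferInstance
    have hNsolv : Group.IsSolvable N := isSolvable_of_le' hNM
    -- quotient
    have hlt : Nat.card (G ⧸ N) < n := hn ▸ card_quotient_lt_of_ne_bot N hN0
    have hsurj := QuotientGroup.mk'_surjective N
    have hq : Group.IsSolvable (G ⧸ N) := by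
      apply ih _ hlt (G ⧸ N) rfl
      intro Mq hMq
      have hc := Subgroup.isCoatom_comap_of_surjective hsurj hMq
      have hnil := h _ hc
      have e : Mq = (Mq.comap (QuotientGroup.mk' N)).map (QuotientGroup.mk' N) :=
        (Subgroup.map_comap_eq_self_of_surjective hsurj Mq).symm
      rw [e]
      exact Group.nilpotent_of_surjective _
        ((QuotientGroup.mk' N).subgroupMap_surjective (Mq.comap (QuotientGroup.mk' N)))
    exact isSolvable_of_normal_of_quotient N hNsolv hq

theorem schmidt [Finite G] (h : ∀ M : Subgroup G, IsCoatom M → Group.IsNilpotent M) :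
    Group.IsSolvable G := schmidt_aux _ G rfl h

end Cfsg.Agent.Lib.Helper1
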