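import Mathlib
import Cfsg.Prelude.Def_SolvableStructure
import Cfsg.Agent.Lib.Helper1.Schmidt
import Cfsg.Agent.Lib.Helper1.HallComplement
import Cfsg.Agent.Lib.Helper1.ProdAbelianCLT
import Cfsg.Agent.Lib.Helper1.SubnormalSylow
import Cfsg.Agent.Lib.Helper1.BestOffender
import Cfsg.Agent.Lib.Helper1.Fitting
set_option autoImplicit false
universe u v
open Cfsg
open scoped Pointwise
namespace Cfsg.Agent.Lib.Helper1
variable {G : Type u} [Group G]

/-- A nontrivial finite solvable group has a normal subgroup of prime index. -/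
theorem exists_normal_prime_index_of_isSolvable [Finite G] [Nontrivial G] [Group.IsSolvable G] :
    ∃ (M : Subgroup G) (p : ℕ), p.Prime ∧ M.Normal ∧ M.index = p := by
  have hlt : commutator G < ⊤ := Group.IsSolvable.commutator_lt_top_of_nontrivial G
  have hcard : Nat.card (Abelianization G) ≠ 1 := by
    intro h
    have h1 : (commutator G).index = 1 := by
      rw [Subgroup.index_eq_card]; exact h
    rw [Subgroup.index_eq_one] at h1
    exact hlt.ne h1
  obtain ⟨p, hp, hpd⟩ := Nat.exists_prime_and_dvd hcard
  obtain ⟨d, hd⟩ := hpd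
  obtain ⟨X, hX⟩ := hasSubgroupOfEveryOrder_of_isSupersolvable (Abelianization G)
    (isSupersolvable_of_comm (Abelianization G)) d ⟨p, by rw [hd, mul_comm]⟩
  have hXidx : X.index = p := by
    have h1 := X.card_mul_index
    rw [hX, hd, mul_comm] at h1
    have hd0 : 0 < d := by
      rcases Nat.eq_zero_or_pos d with h0 | h0
      · rw [h0, mul_zero] at hd
        exact absurd hd Nat.card_pos.ne'
      · exact h0
    exact Nat.eq_of_mul_eq_mul_right hd0 h1
  have hXn : X.Normal := inferInstance
  have hsurj : Function.Surjective (Abelianization.of (G := G)) := QuotientGroup.mk_surjective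
  refine ⟨X.comap Abelianization.of, p, hp, hXn.comap _, ?_⟩
  rw [Subgroup.index_comap_of_surjective _ hsurj, hXidx]

theorem card_sup_le_of_normal [Finite G] (X Q : Subgroup G) [Q.Normal] :
    Nat.card (X ⊔ Q : Subgroup G) ≤ Nat.card X * Nat.card Q := by
  have h1 := relIndex_mul_card_inf Q (X ⊔ Q)
  rw [inf_of_le_left le_sup_right, Subgroup.relIndex_sup_right X Q] at h1
  rw [← h1]
  exact Nat.mul_le_mul_right _ (Nat.le_of_dvd Nat.card_pos (Subgroup.relIndex_dvd_card Q X))

theorem minimal_non_nilpotent_structure [Finite G] (hG : IsMinimalNonNilpotent G) :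
    ∃ p q : ℕ, p.Prime ∧ q.Prime ∧ p ≠ q ∧ ∃ (P : Sylow p G) (Q : Sylow q G),
      IsCyclic P ∧ (Q : Subgroup G).Normal ∧ (P : Subgroup G) ⊔ Q = ⊤ := by
  obtain ⟨hnn, hprop⟩ := hG
  have hsolv : Group.IsSolvable G := schmidt (fun M hM => hprop M hM.1)
  have hnt : Nontrivial G := by
    by_contra h
    rw [not_nontrivial_iff_subsingleton] at h
    exact hnn inferInstance
  obtain ⟨M, p, hp, hMn, hMidx⟩ := exists_normal_prime_index_of_isSolvable (G := G)
  have hpF : Fact p.Prime := ⟨hp⟩
  have hMtop : M ≠ ⊤ := by
    intro h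
    rw [h, Subgroup.index_top] at hMidx
    exact hp.one_lt.ne hMidx
  have hMnil : Group.IsNilpotent M := hprop M hMtop
  have hcardG : Nat.card G = Nat.card M * p := by rw [← hMidx]; exact M.card_mul_index.symm
  -- L4
  have L4 : ∀ (r : ℕ) [Fact r.Prime], r ≠ p → ∀ R : Sylow r G, (R : Subgroup G).Normal := by
    intro r hr hrp R
    let S : Sylow r M := default
    have hSn : (S : Subgroup M).Normal := inferInstance
    have hSc : (S : Subgroup M).Characteristic := Sylow.characteristic_of_normal S hSn
    have hS'n : ((S : Subgroup M).map M.subtype).Normal := inferInstance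
    have hfac : (Nat.card G).factorization r = (Nat.card M).factorization r := by
      rw [hcardG, Nat.factorization_mul Nat.card_pos.ne' hp.ne_zero]
      have : (Nat.factorization p) r = 0 := by
        apply Nat.factorization_eq_zero_of_not_dvd
        intro h1
        exact hrp ((Nat.prime_dvd_prime_iff_eq hr.out hp).mp h1)
      simp [this]
    have hS'card : Nat.card ((S : Subgroup M).map M.subtype) = r ^ (Nat.card G).factorization r := by
      rw [Subgroup.card_map_of_injective (Subgroup.subtype_injective M), hfac]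
      exact S.card_eq_multiplicity
    let R' : Sylow r G := Sylow.ofCard _ hS'card
    have hR'n : (R' : Subgroup G).Normal := hS'n
    have := Sylow.unique_of_normal R' hR'n
    have : R = R' := Subsingleton.elim _ _
    rw [this]
    exact hR'n
  let P : Sylow p G := default
  -- step 5
  have h5 : ∃ (q : ℕ) (_ : Fact q.Prime), q ≠ p ∧ ∃ Q : Sylow q G,
      ¬ (P : Subgroup G) ≤ Subgroup.centralizer ((Q : Subgroup G) : Set G) := by
    by_contra hcon
    push Not at hcon
    apply hnn
    have hPn : (P : Subgroup G).Normal := by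
      rw [← Subgroup.normalizer_eq_top_iff]
      apply eq_top_of_forall_sylow_le
      intro r hr
      by_cases hrp : r = p
      · subst hrp
        exact ⟨P, Subgroup.le_normalizer⟩
      · let R : Sylow r G := default
        refine ⟨R, ?_⟩
        have h1 := hcon r hr hrp R
        rw [Subgroup.le_centralizer_iff] at h1
        exact le_trans h1 (Subgroup.centralizer_le_normalizer _)
    apply (Group.isNilpotent_of_finite_tfae.out 0 3 rfl rfl).mpr
    intro r hr R
    by_cases hrp : r = p
    · subst hrp
      have := Sylow.unique_of_normal P hPn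
      have : R = P := Subsingleton.elim _ _
      rw [this]; exact hPn
    · exact L4 r hrp R
  obtain ⟨q, hqF, hqp, Q, hPQ⟩ := h5
  have hQn : (Q : Subgroup G).Normal := L4 q hqp Q
  have hcop : (Nat.card P).Coprime (Nat.card Q) := by
    obtain ⟨a, ha⟩ := P.2.exists_card_eq
    obtain ⟨b, hb⟩ := Q.2.exists_card_eq
    rw [ha, hb]
    exact Nat.Coprime.pow _ _ ((Nat.coprime_primes hp hqF.out).mpr (Ne.symm hqp))
  have hcent : ∀ X : Subgroup G, X ≤ P → X ⊔ Q ≠ ⊤ →
      X ≤ Subgroup.centralizer ((Q : Subgroup G) : Set G) := by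
    intro X hXP hne
    have hnil := hprop _ hne
    have hcopX : (Nat.card X).Coprime (Nat.card Q) :=
      Nat.Coprime.coprime_dvd_left (Subgroup.card_dvd_of_le hXP) hcop
    have h1 := commutator_eq_bot_of_nilpotent_of_coprime (X ⊔ Q) Q X hnil le_sup_right le_sup_left
      (by
        intro x _
        have : Subgroup.normalizer ((Q : Subgroup G) : Set G) = ⊤ :=
          Subgroup.normalizer_eq_top_iff.mpr hQn
        rw [this]; exact Subgroup.mem_top x) hcopX
    rw [Subgroup.commutator_comm, Subgroup.commutator_eq_bot_iff_le_centralizer] at h1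
    exact h1
  have hPQtop : (P : Subgroup G) ⊔ Q = ⊤ := by
    by_contra hne
    exact hPQ (hcent P le_rfl hne)
  refine ⟨p, q, hp, hqF.out, Ne.symm hqp, P, Q, ?_, hQn, hPQtop⟩
  by_contra hnc
  apply hPQ
  intro x hx
  have hXP : Subgroup.zpowers x ≤ P := by
    rw [Subgroup.zpowers_le]; exact hx
  have hXne : Subgroup.zpowers x ≠ P := by
    intro h
    apply hnc
    have : IsCyclic (Subgroup.zpowers x) := Subgroup.isCyclic_zpowers x
    rw [h] at this
    exact this
  have hlt : Nat.card (Subgroup.zpowers x) < Nat.card P := by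
    apply lt_of_le_of_ne (Subgroup.card_le_of_le hXP)
    intro h
    exact hXne (Subgroup.eq_of_le_of_card_ge hXP h.ge)
  have hne : Subgroup.zpowers x ⊔ Q ≠ ⊤ := by
    intro htop
    have h1 := card_sup_le_of_normal (Subgroup.zpowers x) (Q : Subgroup G)
    rw [htop, Subgroup.card_top] at h1
    have h2 := card_mul_card_le_card_sup_mul_card_inf (P : Subgroup G) (Q : Subgroup G)
    have hinf : (P : Subgroup G) ⊓ Q = ⊥ := (Subgroup.disjoint_of_coprime_natCard hcop).eq_bot
    rw [hinf, Subgroup.card_bot, mul_one, hPQtop, Subgroup.card_top] at h2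
    have hQpos : 0 < Nat.card Q := Nat.card_pos
    have : Nat.card (Subgroup.zpowers x) * Nat.card Q < Nat.card P * Nat.card Q :=
      Nat.mul_lt_mul_of_pos_right hlt hQpos
    omega
  exact hcent _ hXP hne (Subgroup.mem_zpowers x)

end Cfsg.Agent.Lib.Helper1
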