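import Mathlib
import Cfsg.Prelude.Def_SolvableStructure
import Cfsg.Agent.Lib.Helper1.NilpotentHallAux
set_option autoImplicit false
universe u v
open Cfsg
open scoped Pointwise
namespace Cfsg.Agent.Lib.Helper1
variable {G : Type u} [Group G]

theorem nilpotent_hall_dominance_aux [Finite G] (H : Subgroup G) (hH : Group.IsNilpotent H)
    (hHall : (Nat.card H).Coprime H.index) (n : ℕ) :
    ∀ K : Subgroup G, Nat.card K = n →
      (∀ p : ℕ, p.Prime → p ∣ Nat.card K → p ∣ Nat.card H) →
      ∃ x : G, K ≤ MulAut.conj x • H := by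
  induction n using Nat.strong_induction_on with
  | _ n ih =>
    intro K hn hK
    by_cases hKbot : K = ⊥
    · exact ⟨1, by rw [hKbot]; exact bot_le⟩
    have hprop : ∀ K₀ : Subgroup G, K₀ < K → ∃ x : G, K₀ ≤ MulAut.conj x • H := by
      intro K₀ hlt
      apply ih (Nat.card K₀) (by rw [← hn]; exact card_lt_card_of_lt' hlt) K₀ rfl
      intro p hp hpd
      exact hK p hp (dvd_trans hpd (Subgroup.card_dvd_of_le hlt.le))
    have hconjnil : ∀ x : G, Group.IsNilpotent (MulAut.conj x • H : Subgroup G) := fun x =>
      Group.nilpotent_of_mulEquiv (Subgroup.equivSMul (MulAut.conj x) H)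
    have hconjHall : ∀ x : G, (Nat.card (MulAut.conj x • H : Subgroup G)).Coprime
        (MulAut.conj x • H : Subgroup G).index := by
      intro x
      rw [card_conj_smul, index_conj_smul]; exact hHall
    have hmaptop : (⊤ : Subgroup K).map K.subtype = K := by
      rw [← MonoidHom.range_eq_map, Subgroup.range_subtype]
    by_cases hKnil : Group.IsNilpotent K
    · -- Case A
      have hKcard : Nat.card K ≠ 1 := fun h => hKbot (Subgroup.card_eq_one.mp h)
      obtain ⟨p, hp, hpd⟩ := Nat.exists_prime_and_dvd hKcard
      have hpF : Fact p.Prime := ⟨hp⟩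
      let P₀ : Sylow p K := default
      have hP₀n : (P₀ : Subgroup K).Normal := inferInstance
      obtain ⟨L₀, hL₀⟩ := Subgroup.exists_right_complement'_of_coprime P₀.card_coprime_index
      obtain ⟨P', hP'⟩ : ∃ P' : Subgroup G, P' = (P₀ : Subgroup K).map K.subtype := ⟨_, rfl⟩
      obtain ⟨L', hL'⟩ : ∃ L' : Subgroup G, L' = L₀.map K.subtype := ⟨_, rfl⟩
      have hP'K : P' ≤ K := by rw [hP']; exact Subgroup.map_subtype_le _
      have hL'K : L' ≤ K := by rw [hL']; exact Subgroup.map_subtype_le _
      have hP'card : Nat.card P' = Nat.card P₀ := by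
        rw [hP', Subgroup.card_map_of_injective (Subgroup.subtype_injective K)]
      have hL'card : Nat.card L' = Nat.card L₀ := by
        rw [hL', Subgroup.card_map_of_injective (Subgroup.subtype_injective K)]
      have hcardmul : Nat.card P₀ * Nat.card L₀ = Nat.card K := hL₀.card_mul_card
      have hP₀gt : 1 < Nat.card P₀ := by
        rw [P₀.card_eq_multiplicity]
        exact Nat.one_lt_pow (hp.factorization_pos_of_dvd Nat.card_pos.ne' hpd).ne' hp.one_lt
      have hL'lt : L' < K := by
        apply lt_of_le_of_ne hL'K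
        intro h
        have h1 : Nat.card L₀ = Nat.card K := by rw [← hL'card, h]
        have hpos : 0 < Nat.card L₀ := Nat.card_pos
        nlinarith
      have hsup : P' ⊔ L' = K := by
        rw [hP', hL', ← Subgroup.map_sup, hL₀.sup_eq_top, hmaptop]
      have hcop : (Nat.card L').Coprime (Nat.card P') := by
        rw [hP'card, hL'card]
        have h1 := P₀.card_coprime_index
        have h2 : Nat.card L₀ = (P₀ : Subgroup K).index := by
          have h3 := (P₀ : Subgroup K).card_mul_index
          have : Nat.card P₀ * Nat.card L₀ = Nat.card P₀ * (P₀ : Subgroup K).index := by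
            rw [hcardmul, h3]
          exact Nat.eq_of_mul_eq_mul_left Nat.card_pos this
        rw [h2]; exact h1.symm
      have hP'pg : IsPGroup p P' := by
        rw [hP']; exact P₀.2.map _
      have hKNP : K ≤ Subgroup.normalizer (P' : Set G) := by
        rw [← Subgroup.normal_subgroupOf_iff_le_normalizer hP'K]
        have : P'.subgroupOf K = P₀ := by
          rw [hP']
          exact Subgroup.comap_map_eq_self_of_injective (Subgroup.subtype_injective K) _
        rw [this]; exact hP₀n
      have hcomm1 := commutator_eq_bot_of_nilpotent_of_coprime K P' L' hKnil hP'K hL'K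
        (le_trans hL'K hKNP) hcop
      rw [Subgroup.commutator_eq_bot_iff_le_centralizer] at hcomm1
      obtain ⟨g, hg⟩ := hprop L' hL'lt
      obtain ⟨H₁, hH₁⟩ : ∃ H₁ : Subgroup G, H₁ = MulAut.conj g • H := ⟨_, rfl⟩
      rw [← hH₁] at hg
      have hH₁nil : Group.IsNilpotent H₁ := by rw [hH₁]; exact hconjnil g
      have hH₁Hall : (Nat.card H₁).Coprime H₁.index := by rw [hH₁]; exact hconjHall g
      have hpH₁ : p ∣ Nat.card H₁ := by
        rw [hH₁, card_conj_smul]; exact hK p hp hpd
      obtain ⟨S, hSH₁, hH₁NS⟩ := exists_sylow_le_of_hall_nilpotent H₁ hH₁nil hH₁Hall p hpH₁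
      have hcopS : (Nat.card L').Coprime (Nat.card S) := by
        obtain ⟨a, ha⟩ := S.2.exists_card_eq
        obtain ⟨b, hb⟩ := hP'pg.exists_card_eq
        rw [ha]
        apply Nat.Coprime.pow_right
        have h1 : (Nat.card L').Coprime (p ^ b) := hb ▸ hcop
        have hb0 : b ≠ 0 := by
          rintro rfl
          rw [pow_zero, hP'card] at hb
          omega
        exact (Nat.coprime_pow_right_iff (Nat.pos_of_ne_zero hb0) _ _).mp h1
      have hcomm2 := commutator_eq_bot_of_nilpotent_of_coprime H₁ (S : Subgroup G) L' hH₁nil hSH₁ hg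
        (le_trans hg hH₁NS) hcopS
      rw [Subgroup.commutator_eq_bot_iff_le_centralizer] at hcomm2
      obtain ⟨c, hcC, hc⟩ := sylow_dominance_in (Subgroup.centralizer (L' : Set G)) S hcomm2 P'
        hcomm1 hP'pg
      refine ⟨c * g, ?_⟩
      rw [map_mul, ← smul_smul, ← hH₁, ← hsup]
      apply sup_le
      · exact le_trans hc (Subgroup.pointwise_smul_le_pointwise_smul_iff.mpr hSH₁)
      · exact le_conj_smul_of_mem_centralizer hcC hg
    · -- Case B
      exfalso
      have hmin : IsMinimalNonNilpotent K := by
        refine ⟨hKnil, ?_⟩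
        intro X hX
        have hlt : X.map K.subtype < K := by
          apply lt_of_le_of_ne (Subgroup.map_subtype_le _)
          intro h
          apply hX
          rw [← Subgroup.comap_map_eq_self_of_injective (Subgroup.subtype_injective K) X, h]
          exact Subgroup.subgroupOf_self K
        obtain ⟨x, hx⟩ := hprop _ hlt
        have h1 : Group.IsNilpotent (X.map K.subtype) := isNilpotent_of_le hx (hconjnil x)
        exact Group.nilpotent_of_mulEquiv
          (Subgroup.equivMapOfInjective X K.subtype (Subgroup.subtype_injective K)).symm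
      obtain ⟨p, q, hp, hq, hpq, P₀, Q₀, -, hQ₀n, hPQ, hncen⟩ :=
        minimal_non_nilpotent_structure_strong hmin
      have hpF : Fact p.Prime := ⟨hp⟩
      have hqF : Fact q.Prime := ⟨hq⟩
      obtain ⟨P', hP'⟩ : ∃ P' : Subgroup G, P' = (P₀ : Subgroup K).map K.subtype := ⟨_, rfl⟩
      obtain ⟨Q', hQ'⟩ : ∃ Q' : Subgroup G, Q' = (Q₀ : Subgroup K).map K.subtype := ⟨_, rfl⟩
      have hP'K : P' ≤ K := by rw [hP']; exact Subgroup.map_subtype_le _
      have hQ'K : Q' ≤ K := by rw [hQ']; exact Subgroup.map_subtype_le _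
      have hP'pg : IsPGroup p P' := by rw [hP']; exact P₀.2.map _
      have hQ'pg : IsPGroup q Q' := by rw [hQ']; exact Q₀.2.map _
      have hQ'lt : Q' < K := by
        apply lt_of_le_of_ne hQ'K
        intro h
        apply hKnil
        have : (Q₀ : Subgroup K) = ⊤ := by
          rw [← Subgroup.comap_map_eq_self_of_injective (Subgroup.subtype_injective K) (Q₀ : Subgroup K),
            ← hQ', h]
          exact Subgroup.subgroupOf_self K
        have hpg : IsPGroup q K := by
          have h2 := Q₀.2
          rw [this] at h2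
          exact IsPGroup.of_equiv h2 Subgroup.topEquiv
        exact hpg.isNilpotent
      have hP₀ne : (P₀ : Subgroup K) ≠ ⊥ := by
        intro h
        apply hncen
        rw [h]; exact bot_le
      have hpdK : p ∣ Nat.card K := by
        obtain ⟨a, ha⟩ := P₀.2.exists_card_eq
        have ha0 : a ≠ 0 := by
          rintro rfl
          rw [pow_zero] at ha
          exact hP₀ne (Subgroup.card_eq_one.mp ha)
        exact dvd_trans (ha ▸ dvd_pow_self p ha0) (Subgroup.card_subgroup_dvd_card (P₀ : Subgroup K))
      obtain ⟨g, hg⟩ := hprop Q' hQ'lt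
      obtain ⟨H₁, hH₁⟩ : ∃ H₁ : Subgroup G, H₁ = MulAut.conj g • H := ⟨_, rfl⟩
      rw [← hH₁] at hg
      have hH₁nil : Group.IsNilpotent H₁ := by rw [hH₁]; exact hconjnil g
      have hH₁Hall : (Nat.card H₁).Coprime H₁.index := by rw [hH₁]; exact hconjHall g
      have hpH₁ : p ∣ Nat.card H₁ := by
        rw [hH₁, card_conj_smul]; exact hK p hp hpdK
      obtain ⟨S, hSH₁, hH₁NS⟩ := exists_sylow_le_of_hall_nilpotent H₁ hH₁nil hH₁Hall p hpH₁
      have hcopS : (Nat.card Q').Coprime (Nat.card S) := by
        obtain ⟨a, ha⟩ := S.2.exists_card_eq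
        obtain ⟨b, hb⟩ := hQ'pg.exists_card_eq
        rw [ha, hb]
        exact Nat.Coprime.pow _ _ ((Nat.coprime_primes hq hp).mpr (Ne.symm hpq))
      have hcomm2 := commutator_eq_bot_of_nilpotent_of_coprime H₁ (S : Subgroup G) Q' hH₁nil hSH₁ hg
        (le_trans hg hH₁NS) hcopS
      rw [Subgroup.commutator_eq_bot_iff_le_centralizer] at hcomm2
      have hKNQ : K ≤ Subgroup.normalizer (Q' : Set G) := by
        rw [← Subgroup.normal_subgroupOf_iff_le_normalizer hQ'K]
        have : Q'.subgroupOf K = Q₀ := by
          rw [hQ']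
          exact Subgroup.comap_map_eq_self_of_injective (Subgroup.subtype_injective K) _
        rw [this]; exact hQ₀n
      obtain ⟨c, hcN, hc⟩ := sylow_dominance_in (Subgroup.normalizer (Q' : Set G)) S
        (le_trans hcomm2 (Subgroup.centralizer_le_normalizer _)) P' (le_trans hP'K hKNQ) hP'pg
      have hP'C : P' ≤ Subgroup.centralizer (Q' : Set G) := by
        intro y hy
        have hy' := hc hy
        rw [Subgroup.mem_pointwise_smul_iff_inv_smul_mem] at hy'
        have h1 : (MulAut.conj c)⁻¹ • y = c⁻¹ * y * c := by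
          rw [← map_inv, MulAut.smul_def, MulAut.conj_apply, inv_inv]
        rw [h1] at hy'
        have h2 := conj_mem_centralizer_of_mem_normalizer hcN (hcomm2 hy')
        have : c * (c⁻¹ * y * c) * c⁻¹ = y := by group
        rwa [this] at h2
      apply hncen
      intro a ha
      rw [Subgroup.mem_centralizer_iff]
      intro b hb
      have haP' : (a : G) ∈ P' := by rw [hP']; exact Subgroup.mem_map_of_mem _ ha
      have hbQ' : (b : G) ∈ Q' := by rw [hQ']; exact Subgroup.mem_map_of_mem _ hb
      have := (Subgroup.mem_centralizer_iff.mp (hP'C haP')) _ hbQ'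
      apply Subtype.ext
      simpa using this

theorem nilpotent_hall_dominance [Finite G] (H K : Subgroup G) (hH : Group.IsNilpotent H)
    (hHall : (Nat.card H).Coprime H.index)
    (hK : ∀ p : ℕ, p.Prime → p ∣ Nat.card K → p ∣ Nat.card H) :
    ∃ x : G, K ≤ MulAut.conj x • H :=
  nilpotent_hall_dominance_aux H hH hHall _ K rfl hK

end Cfsg.Agent.Lib.Helper1
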