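import Mathlib
import Cfsg.Prelude.Def_SolvableStructure
import Cfsg.Agent.Lib.Helper1.CoprimeAut
import Cfsg.Agent.Lib.Helper1.FittingCentralizer
import Cfsg.Agent.Lib.Helper1.Fitting
import Cfsg.Agent.Lib.Helper1.FrattiniHall
import Cfsg.Agent.Lib.Helper1.Hall
set_option autoImplicit false
universe u v
open Cfsg
open scoped Pointwise
namespace Cfsg.Agent.Lib.Helper1
variable {G : Type u} [Group G]

/-- S0552 -/
theorem aut_fixing_fitting_not_coprime [Finite G] [Group.IsSolvable G] (σ : G ≃* G)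
    (hσ : ∀ x ∈ Cfsg.fittingSubgroup G, σ x = x) (hne : σ ≠ MulEquiv.refl G) :
    ¬ (orderOf σ).Coprime (Nat.card G) := by
  intro hcop
  apply hne
  ext g
  rw [MulEquiv.refl_apply]
  have hFn : (Cfsg.fittingSubgroup G).Normal := fittingSubgroup_normal
  obtain ⟨c, hc⟩ : ∃ c, c = g⁻¹ * σ g := ⟨_, rfl⟩
  have hcF : c ∈ Cfsg.fittingSubgroup G := by
    apply centralizer_fittingSubgroup_le
    rw [Subgroup.mem_centralizer_iff]
    intro f hf
    have h1 : g * f * g⁻¹ ∈ Cfsg.fittingSubgroup G := hFn.conj_mem f hf g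
    have h2 := hσ _ h1
    rw [map_mul, map_mul, map_inv, hσ f hf] at h2
    -- σ g * f * (σ g)⁻¹ = g * f * g⁻¹
    rw [hc]
    calc f * (g⁻¹ * σ g) = g⁻¹ * (g * f * g⁻¹) * σ g := by group
      _ = g⁻¹ * (σ g * f * (σ g)⁻¹) * σ g := by rw [h2]
      _ = g⁻¹ * σ g * f := by group
  have hg : σ g = g * c := by rw [hc]; group
  have h1 := aut_pow_apply_of_fixed (σ : MulAut G) g c hg (hσ c hcF) (orderOf σ)
  rw [pow_orderOf_eq_one, MulAut.one_apply] at h1
  have h2 : c ^ orderOf σ = 1 := by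
    have := mul_left_cancel (a := g) (b := 1) (c := c ^ orderOf σ) (by rw [mul_one]; exact h1)
    exact this.symm
  have h3 : orderOf c ∣ orderOf σ := orderOf_dvd_of_pow_eq_one h2
  have h4 : orderOf c ∣ Nat.card G := orderOf_dvd_natCard c
  have h5 : orderOf c = 1 := Nat.eq_one_of_dvd_coprimes hcop h3 h4
  rw [orderOf_eq_one_iff] at h5
  rw [hg, h5, mul_one]

/-- S0549 -/
theorem corefree_maximal_centralizer [Finite G] (U : Subgroup G) (hU : IsCoatom U)
    (hcore : U.normalCore = ⊥) (N : Subgroup G) [hN : N.Normal] (hNne : N ≠ ⊥) :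
    Subgroup.centralizer (N : Set G) ⊓ U = ⊥ ∧ (Subgroup.centralizer (N : Set G) = ⊥ ∨
      (Subgroup.centralizer (N : Set G) ≠ ⊥ ∧ ∀ K : Subgroup G, K.Normal →
        K ≤ Subgroup.centralizer (N : Set G) → K = ⊥ ∨ K = Subgroup.centralizer (N : Set G))) := by
  have key : ∀ K : Subgroup G, K.Normal → K ≠ ⊥ → U ⊔ K = ⊤ := by
    intro K hK hKne
    apply hU.2
    apply lt_of_le_of_ne le_sup_left
    intro h
    apply hKne
    have h1 : K ≤ U := by rw [h]; exact le_sup_right
    have h2 : K ≤ U.normalCore := Subgroup.normal_le_normalCore.mpr h1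
    rw [hcore] at h2
    exact le_bot_iff.mp h2
  obtain ⟨C, hC⟩ : ∃ C : Subgroup G, C = Subgroup.centralizer (N : Set G) := ⟨_, rfl⟩
  rw [← hC]
  have hCn : C.Normal := by rw [hC]; infer_instance
  have hUN := key N hN hNne
  have h1 : C ⊓ U = ⊥ := by
    have hn : (C ⊓ U).Normal := by
      rw [← Subgroup.normalizer_eq_top_iff, eq_top_iff, ← hUN]
      apply sup_le
      · intro u hu
        rw [Subgroup.mem_normalizer_iff]
        intro x
        constructor
        · intro hx
          exact Subgroup.mem_inf.mpr ⟨hCn.conj_mem x (Subgroup.mem_inf.mp hx).1 u,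
            U.mul_mem (U.mul_mem hu (Subgroup.mem_inf.mp hx).2) (U.inv_mem hu)⟩
        · intro hx
          have h2 := hCn.conj_mem _ (Subgroup.mem_inf.mp hx).1 u⁻¹
          have h3 := U.mul_mem (U.mul_mem (U.inv_mem hu) (Subgroup.mem_inf.mp hx).2) hu
          have e : u⁻¹ * (u * x * u⁻¹) * u⁻¹⁻¹ = x := by group
          have e' : u⁻¹ * (u * x * u⁻¹) * u = x := by group
          rw [e] at h2
          rw [e'] at h3
          exact Subgroup.mem_inf.mpr ⟨h2, h3⟩
      · intro n hn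
        rw [Subgroup.mem_normalizer_iff]
        intro x
        have hcomm : ∀ y ∈ C, n * y * n⁻¹ = y := by
          intro y hy
          rw [hC, Subgroup.mem_centralizer_iff] at hy
          rw [hy n hn]; group
        constructor
        · intro hx
          rw [hcomm x (Subgroup.mem_inf.mp hx).1]; exact hx
        · intro hx
          have h2 := hCn.conj_mem _ (Subgroup.mem_inf.mp hx).1 n⁻¹
          have e : n⁻¹ * (n * x * n⁻¹) * n⁻¹⁻¹ = x := by group
          rw [e] at h2
          rw [hcomm x h2] at hx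
          exact hx
    have h2 : C ⊓ U ≤ U.normalCore := Subgroup.normal_le_normalCore.mpr inf_le_right
    rw [hcore] at h2
    exact le_bot_iff.mp h2
  refine ⟨h1, ?_⟩
  by_cases hCb : C = ⊥
  · exact Or.inl hCb
  · refine Or.inr ⟨hCb, ?_⟩
    intro K hKn hKC
    by_cases hKb : K = ⊥
    · exact Or.inl hKb
    · right
      apply le_antisymm hKC
      have hUK := key K hKn hKb
      intro c hc
      have hc' : c ∈ U ⊔ K := by rw [hUK]; exact Subgroup.mem_top c
      rw [Subgroup.mem_sup_of_normal_right] at hc'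
      obtain ⟨u, hu, k, hk, rfl⟩ := hc'
      have hu' : u ∈ C ⊓ U := by
        refine Subgroup.mem_inf.mpr ⟨?_, hu⟩
        have : u = (u * k) * k⁻¹ := by group
        rw [this]
        exact C.mul_mem hc (C.inv_mem (hKC hk))
      rw [h1, Subgroup.mem_bot] at hu'
      rw [hu', one_mul]
      exact hk

/-- S0562 -/
theorem factorization_normalizer_join [Finite G] (H K A B : Subgroup G)
    (hHK : ∀ g : G, ∃ h ∈ H, ∃ k ∈ K, g = h * k) (hA : A ≤ H) (hAn : (A.subgroupOf H).Normal)
    (hB : B ≤ K) (hBn : (B.subgroupOf K).Normal) :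
    ∀ g ∈ Subgroup.normalizer ((A ⊔ B : Subgroup G) : Set G),
      ∃ h ∈ Subgroup.normalizer ((A ⊔ B : Subgroup G) : Set G) ⊓ H,
        ∃ k ∈ Subgroup.normalizer ((A ⊔ B : Subgroup G) : Set G) ⊓ K, g = h * k := by
  intro g hg
  obtain ⟨h, hh, k, hk, rfl⟩ := hHK g
  obtain ⟨J, hJ⟩ : ∃ J : Subgroup G, J = A ⊔ B := ⟨_, rfl⟩
  rw [← hJ] at hg ⊢
  have hHA : H ≤ Subgroup.normalizer (A : Set G) :=
    (Subgroup.normal_subgroupOf_iff_le_normalizer hA).mp hAn
  have hKB : K ≤ Subgroup.normalizer (B : Set G) :=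
    (Subgroup.normal_subgroupOf_iff_le_normalizer hB).mp hBn
  have hgJ : MulAut.conj (h * k) • J = J := conj_smul_eq_of_mem_normalizer hg
  have hkB : MulAut.conj k • B = B := conj_smul_eq_of_mem_normalizer (hKB hk)
  have hhA : MulAut.conj h⁻¹ • A = A := conj_smul_eq_of_mem_normalizer (hHA (H.inv_mem hh))
  -- X = conj k • J
  have hX1 : MulAut.conj k • J = MulAut.conj k • A ⊔ B := by
    rw [hJ, Subgroup.smul_sup, hkB]
  have hX2 : MulAut.conj k • J = A ⊔ MulAut.conj h⁻¹ • B := by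
    have : MulAut.conj k • J = MulAut.conj h⁻¹ • (MulAut.conj (h * k) • J) := by
      rw [smul_smul, ← map_mul]
      congr 2
      group
    rw [this, hgJ, hJ, Subgroup.smul_sup, hhA]
  have hle : J ≤ MulAut.conj k • J := by
    rw [hJ]
    apply sup_le
    · rw [← hJ, hX2]; exact le_sup_left
    · rw [← hJ, hX1]; exact le_sup_right
  have hXJ : MulAut.conj k • J = J := by
    symm
    apply Subgroup.eq_of_le_of_card_ge hle
    rw [card_conj_smul]
  have hkJ : k ∈ Subgroup.normalizer (J : Set G) := mem_normalizer_of_conj_smul_eq hXJ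
  have hhJ : h ∈ Subgroup.normalizer (J : Set G) := by
    have : h = (h * k) * k⁻¹ := by group
    rw [this]
    exact Subgroup.mul_mem _ hg (Subgroup.inv_mem _ hkJ)
  exact ⟨h, Subgroup.mem_inf.mpr ⟨hhJ, hh⟩, k, Subgroup.mem_inf.mpr ⟨hkJ, hk⟩, rfl⟩

end Cfsg.Agent.Lib.Helper1
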