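import Mathlib
import Cfsg.Prelude.Def_SolvableStructure
import Cfsg.Agent.Lib.Helper1.NilpotentHallAux
import Cfsg.Agent.Lib.Helper1.FusionControl
import Cfsg.Agent.Lib.Helper1.HallComplement
set_option autoImplicit false
universe u v
open Cfsg
open scoped Pointwise commutatorElement
namespace Cfsg.Agent.Lib.Helper1
variable {G : Type u} [Group G]

theorem exists_mem_normalizer_not_mem_of_isNilpotent' {D M : Subgroup G}
    (hM : Group.IsNilpotent M) (hDM : D < M) :
    ∃ x ∈ M, x ∈ Subgroup.normalizer (D : Set G) ∧ x ∉ D := by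
  have hlt : D.subgroupOf M < ⊤ := by
    rw [lt_top_iff_ne_top, Ne, Subgroup.subgroupOf_eq_top]
    intro h
    exact absurd (le_antisymm hDM.le h) hDM.ne
  have hnc := Group.normalizerCondition_of_isNilpotent (G := M) (D.subgroupOf M) hlt
  obtain ⟨x, hxn, hxN⟩ := SetLike.exists_of_lt hnc
  rw [← Subgroup.subgroupOf_normalizer_eq hDM.le, Subgroup.mem_subgroupOf] at hxn
  rw [Subgroup.mem_subgroupOf] at hxN
  exact ⟨x, x.2, hxn, hxN⟩

/-- A Sylow subgroup of `H` whose `G`-normalizer lies in `H` is Sylow in `G`. -/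
theorem sylow_of_normalizer_le [Finite G] {p : ℕ} [hp : Fact p.Prime] (H : Subgroup G)
    (P₀ : Sylow p H)
    (h : Subgroup.normalizer (((P₀ : Subgroup H).map H.subtype : Subgroup G) : Set G) ≤ H) :
    ∃ S : Sylow p G, (S : Subgroup G) = (P₀ : Subgroup H).map H.subtype := by
  obtain ⟨P', hP'⟩ : ∃ P' : Subgroup G, P' = (P₀ : Subgroup H).map H.subtype := ⟨_, rfl⟩
  rw [← hP'] at h ⊢
  have hP'pg : IsPGroup p P' := by rw [hP']; exact P₀.2.map _
  have hP'H : P' ≤ H := by rw [hP']; exact Subgroup.map_subtype_le _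
  obtain ⟨S, hS⟩ := hP'pg.exists_le_sylow
  refine ⟨S, ?_⟩
  by_contra hne
  have hlt : P' < S := lt_of_le_of_ne hS (Ne.symm hne)
  obtain ⟨x, hxS, hxN, hxP⟩ := exists_mem_normalizer_not_mem_of_isNilpotent'
    (S.2.isNilpotent) hlt
  have hxH : x ∈ H := h hxN
  -- (S ⊓ H).subgroupOf H is a p-subgroup of H containing P₀
  have hpg : IsPGroup p (((S : Subgroup G) ⊓ H).subgroupOf H) :=
    (S.2.to_le inf_le_left).comap_subtype
  have hle : (P₀ : Subgroup H) ≤ ((S : Subgroup G) ⊓ H).subgroupOf H := by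
    intro y hy
    rw [Subgroup.mem_subgroupOf]
    have : (y : G) ∈ P' := by rw [hP']; exact Subgroup.mem_map_of_mem _ hy
    exact Subgroup.mem_inf.mpr ⟨hS this, y.2⟩
  have heq := P₀.is_maximal' hpg hle
  apply hxP
  have hx' : (⟨x, hxH⟩ : H) ∈ ((S : Subgroup G) ⊓ H).subgroupOf H := by
    rw [Subgroup.mem_subgroupOf]
    exact Subgroup.mem_inf.mpr ⟨hxS, hxH⟩
  rw [heq] at hx'
  rw [hP']
  exact ⟨⟨x, hxH⟩, hx', rfl⟩


theorem controlsOwnFusion_of_nilpotent_hall [Finite G] (H : Subgroup G)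
    (hnil : Group.IsNilpotent H) {p q : ℕ} [hp : Fact p.Prime] [hq : Fact q.Prime] (hpq : p ≠ q)
    (S : Sylow p G) (hSH : (S : Subgroup G) ≤ H) (Q : Sylow q G) (hQH : (Q : Subgroup G) ≤ H)
    (hNQ : Subgroup.normalizer ((Q : Subgroup G) : Set G) = H) : ControlsOwnFusion S := by
  intro x hx g hgx
  have hcopSQ : (Nat.card S).Coprime (Nat.card Q) := by
    obtain ⟨a, ha⟩ := S.2.exists_card_eq
    obtain ⟨b, hb⟩ := Q.2.exists_card_eq
    rw [ha, hb]
    exact Nat.Coprime.pow _ _ ((Nat.coprime_primes hp.out hq.out).mpr hpq)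
  have h1 := commutator_eq_bot_of_nilpotent_of_coprime H (Q : Subgroup G) (S : Subgroup G) hnil
    hQH hSH (by rw [hNQ]; exact hSH) hcopSQ
  rw [Subgroup.commutator_eq_bot_iff_le_centralizer] at h1
  have hQS : ∀ z ∈ (Q : Subgroup G), ∀ w ∈ (S : Subgroup G), w * z = z * w := by
    intro z hz w hw
    exact (Subgroup.mem_centralizer_iff.mp (h1 hz)) w hw
  obtain ⟨y, hy⟩ : ∃ y : G, y = g * x * g⁻¹ := ⟨_, rfl⟩
  rw [← hy] at hgx ⊢
  obtain ⟨C, hC⟩ : ∃ C : Subgroup G, C = Subgroup.centralizer ({y} : Set G) := ⟨_, rfl⟩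
  have hmemC : ∀ w : G, w ∈ C ↔ y * w = w * y := by
    intro w
    rw [hC, Subgroup.mem_centralizer_iff]
    constructor
    · intro h; exact h y rfl
    · intro h z hz
      rw [Set.mem_singleton_iff] at hz
      rw [hz]; exact h
  have hQC : (Q : Subgroup G) ≤ C := by
    intro z hz
    rw [hmemC]
    exact hQS z hz y hgx
  have hgQC : MulAut.conj g • (Q : Subgroup G) ≤ C := by
    intro w hw
    rw [Subgroup.mem_pointwise_smul_iff_inv_smul_mem] at hw
    have e : (MulAut.conj g)⁻¹ • w = g⁻¹ * w * g := by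
      rw [← map_inv, MulAut.smul_def, MulAut.conj_apply, inv_inv]
    rw [e] at hw
    rw [hmemC, hy]
    have h2 := hQS _ hw x hx
    calc g * x * g⁻¹ * w = g * (x * (g⁻¹ * w * g)) * g⁻¹ := by group
      _ = g * ((g⁻¹ * w * g) * x) * g⁻¹ := by rw [h2]
      _ = w * (g * x * g⁻¹) := by group
  have hgQpg : IsPGroup q (MulAut.conj g • (Q : Subgroup G) : Subgroup G) :=
    IsPGroup.of_equiv Q.2 (Subgroup.equivSMul (MulAut.conj g) (Q : Subgroup G))
  obtain ⟨c, hcC, hc⟩ := sylow_dominance_in C Q hQC _ hgQC hgQpg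
  have heq : MulAut.conj g • (Q : Subgroup G) = MulAut.conj c • (Q : Subgroup G) := by
    apply Subgroup.eq_of_le_of_card_ge hc
    rw [card_conj_smul, card_conj_smul]
  obtain ⟨h, hh⟩ : ∃ h : G, h = c⁻¹ * g := ⟨_, rfl⟩
  have hhN : h ∈ Subgroup.normalizer ((Q : Subgroup G) : Set G) := by
    apply mem_normalizer_of_conj_smul_eq
    rw [hh, map_mul, ← smul_smul, heq, smul_smul, ← map_mul, inv_mul_cancel, map_one, one_smul]
  rw [hNQ] at hhN
  have hhx : h * x * h⁻¹ = y := by
    have hcy := (hmemC c).mp hcC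
    rw [hh]
    calc c⁻¹ * g * x * (c⁻¹ * g)⁻¹ = c⁻¹ * (g * x * g⁻¹) * c := by group
      _ = c⁻¹ * y * c := by rw [hy]
      _ = c⁻¹ * (y * c) := by group
      _ = c⁻¹ * (c * y) := by rw [hcy]
      _ = y := by group
  -- decomposition in H
  let S₀ : Sylow p H := S.subtype hSH
  have hS₀n : (S₀ : Subgroup H).Normal := inferInstance
  obtain ⟨L₀, hL₀⟩ := Subgroup.exists_right_complement'_of_coprime S₀.card_coprime_index
  obtain ⟨L, hL⟩ : ∃ L : Subgroup G, L = L₀.map H.subtype := ⟨_, rfl⟩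
  have hLH : L ≤ H := by rw [hL]; exact Subgroup.map_subtype_le _
  have hS₀card : Nat.card S₀ = Nat.card S := by
    have : (S₀ : Subgroup H) = (S : Subgroup G).subgroupOf H := Sylow.coe_subtype ..
    show Nat.card (S₀ : Subgroup H) = _
    rw [this, card_subgroupOf_of_le hSH]
  have hLcop : (Nat.card L).Coprime (Nat.card S) := by
    rw [hL, Subgroup.card_map_of_injective (Subgroup.subtype_injective H), ← hS₀card]
    have h3 := S₀.card_coprime_index
    have h4 : Nat.card L₀ = (S₀ : Subgroup H).index := by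
      have a1 := hL₀.card_mul_card
      have a2 := (S₀ : Subgroup H).card_mul_index
      have : Nat.card S₀ * Nat.card L₀ = Nat.card S₀ * (S₀ : Subgroup H).index := by rw [a1, a2]
      exact Nat.eq_of_mul_eq_mul_left Nat.card_pos this
    rw [h4]; exact h3.symm
  have hHNS : H ≤ Subgroup.normalizer ((S : Subgroup G) : Set G) := by
    rw [← Subgroup.normal_subgroupOf_iff_le_normalizer hSH]
    have : (S₀ : Subgroup H) = (S : Subgroup G).subgroupOf H := Sylow.coe_subtype ..
    rw [← this]; exact hS₀n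
  have h5 := commutator_eq_bot_of_nilpotent_of_coprime H (S : Subgroup G) L hnil hSH hLH
    (le_trans hLH hHNS) hLcop
  rw [Subgroup.commutator_eq_bot_iff_le_centralizer] at h5
  obtain ⟨n, hn, l, hl, hnl⟩ := isComplement'_mul_eq hL₀ (⟨h, hhN⟩ : H)
  have hnS : (n : G) ∈ (S : Subgroup G) := by
    have : (S₀ : Subgroup H) = (S : Subgroup G).subgroupOf H := Sylow.coe_subtype ..
    rw [this, Subgroup.mem_subgroupOf] at hn
    exact hn
  have hlL : (l : G) ∈ L := by rw [hL]; exact Subgroup.mem_map_of_mem _ hl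
  have hlx : (l : G) * x = x * (l : G) := (Subgroup.mem_centralizer_iff.mp (h5 hx)) _ hlL
  have hh' : h = (n : G) * (l : G) := by
    have := congrArg (fun a : H => (a : G)) hnl
    simpa using this
  refine ⟨(n : G), hnS, ?_⟩
  rw [← hhx, hh']
  calc (n : G) * x * (n : G)⁻¹ = (n : G) * (x * (l : G)) * (l : G)⁻¹ * (n : G)⁻¹ := by group
    _ = (n : G) * ((l : G) * x) * (l : G)⁻¹ * (n : G)⁻¹ := by rw [hlx]
    _ = (n : G) * (l : G) * x * ((n : G) * (l : G))⁻¹ := by group


theorem normal_complement_of_sylow_normalizers_eq [Finite G] (H : Subgroup G)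
    (hnot : ∀ p : ℕ, p.Prime → ∀ P : Sylow p G, (P : Subgroup G) ≠ H)
    (hnorm : ∀ p : ℕ, p.Prime → p ∣ Nat.card H → ∀ P : Sylow p H,
      Subgroup.normalizer (((P : Subgroup H).map H.subtype : Subgroup G) : Set G) = H) :
    ∃ N : Subgroup G, N.Normal ∧ Subgroup.IsComplement' N H := by
  have hsyl : ∀ (p : ℕ) [Fact p.Prime], p ∣ Nat.card H → ∃ S : Sylow p G,
      (S : Subgroup G) ≤ H ∧ Subgroup.normalizer ((S : Subgroup G) : Set G) = H := by
    intro p hp hpd
    let P₀ : Sylow p H := default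
    have h1 := hnorm p hp.out hpd P₀
    obtain ⟨S, hS⟩ := sylow_of_normalizer_le H P₀ h1.le
    refine ⟨S, ?_, ?_⟩
    · rw [hS]; exact Subgroup.map_subtype_le _
    · rw [hS]; exact h1
  have hHall : (Nat.card H).Coprime H.index := by
    apply Nat.coprime_of_dvd
    intro k hk hkH hkI
    have : Fact k.Prime := ⟨hk⟩
    obtain ⟨S, hSH, -⟩ := hsyl k hkH
    exact S.not_dvd_index (dvd_trans hkI (Subgroup.index_dvd_of_le hSH))
  have hnil : Group.IsNilpotent H := by
    apply (Group.isNilpotent_of_finite_tfae.out 0 3 rfl rfl).mpr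
    intro p hp P
    by_cases hpd : p ∣ Nat.card H
    · have h1 := hnorm p hp.out hpd P
      have h2 : (P : Subgroup H).map H.subtype ≤ H := Subgroup.map_subtype_le _
      have h3 := (Subgroup.normal_subgroupOf_iff_le_normalizer h2).mpr h1.ge
      have h4 : ((P : Subgroup H).map H.subtype).subgroupOf H = P :=
        Subgroup.comap_map_eq_self_of_injective (Subgroup.subtype_injective H) _
      rwa [h4] at h3
    · have h1 := P.card_eq_multiplicity
      rw [Nat.factorization_eq_zero_of_not_dvd hpd, pow_zero] at h1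
      have : (P : Subgroup H) = ⊥ := Subgroup.card_eq_one.mp h1
      rw [this]; infer_instance
  have hother : ∀ (p : ℕ) [Fact p.Prime], p ∣ Nat.card H →
      ∃ q : ℕ, q.Prime ∧ q ≠ p ∧ q ∣ Nat.card H := by
    intro p hp hpd
    by_contra hcon
    push Not at hcon
    obtain ⟨S, hSH, -⟩ := hsyl p hpd
    have hpg : IsPGroup p H := by
      obtain ⟨k, hk⟩ : ∃ k, Nat.card H = p ^ k :=
        ⟨_, Nat.eq_prime_pow_of_unique_prime_dvd Nat.card_pos.ne' (fun {r} hr hrd => by
          by_contra hne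
          exact hcon r hr hne hrd)⟩
      exact IsPGroup.of_card hk
    have := S.is_maximal' hpg hSH
    exact hnot p hp.out S this.symm
  apply hall_normal_complement_of_forall_prime H hHall
  intro p hp hpd
  have hpF : Fact p.Prime := ⟨hp⟩
  obtain ⟨q, hq, hqp, hqd⟩ := hother p hpd
  have hqF : Fact q.Prime := ⟨hq⟩
  obtain ⟨S, hSH, -⟩ := hsyl p hpd
  obtain ⟨Q, hQH, hNQ⟩ := hsyl q hqd
  have hctl := controlsOwnFusion_of_nilpotent_hall H hnil (Ne.symm hqp) S hSH Q hQH hNQ
  obtain ⟨K, hKn, hK⟩ := normal_complement_of_controlsOwnFusion S hctl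
  exact ⟨S, K, hKn, hK⟩

end Cfsg.Agent.Lib.Helper1
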