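import Mathlib

/-! Counting for induced modules. -/
set_option autoImplicit false
open scoped BigOperators

namespace Cfsg.Agent.Lib.Helper1.FM

theorem rep_injective {F V R : Type*} [Ring F] [AddCommGroup V] [Module F V] [Group R]
    (ρ : R →* (V →ₗ[F] V)) (τ : R) : Function.Injective (ρ τ) := by
  intro a b hab
  have h := congrArg (ρ τ⁻¹) hab
  have h1 : ∀ x : V, ρ τ⁻¹ (ρ τ x) = x := by
    intro x
    have : (ρ τ⁻¹ * ρ τ) x = x := by
      rw [← map_mul, inv_mul_cancel, map_one]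
      rfl
    exact this
  rwa [h1, h1] at h

theorem rep_mul_apply {F V R : Type*} [Ring F] [AddCommGroup V] [Module F V] [Group R]
    (ρ : R →* (V →ₗ[F] V)) (τ σ : R) (v : V) : ρ (τ * σ) v = ρ τ (ρ σ v) := by
  rw [map_mul]
  rfl

theorem induced_count {F V R : Type*} [Ring F] [AddCommGroup V] [Module F V] [Finite V]
    [Group R] [Finite R]
    (ρ : R →* (V →ₗ[F] V)) (V₂ : Submodule F V) (R₂ : Subgroup R)
    (hR₂ : ∀ τ ∈ R₂, V₂.map (ρ τ) = V₂)
    (hind : iSupIndep (fun q : R ⧸ R₂ => V₂.map (ρ q.out)))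
    (htop : ⨆ q : R ⧸ R₂, V₂.map (ρ q.out) = ⊤) :
    Nat.card V = Nat.card V₂ ^ Nat.card (R ⧸ R₂) ∧
      Nat.card {v : V // ∀ τ, ρ τ v = v} =
        Nat.card {v : V // v ∈ V₂ ∧ ∀ τ ∈ R₂, ρ τ v = v} := by
  classical
  cases nonempty_fintype (R ⧸ R₂)
  set p : R ⧸ R₂ → Submodule F V := fun q => V₂.map (ρ q.out) with hp
  -- key: translation
  have hout : ∀ (τ : R) (q : R ⧸ R₂), ∃ s ∈ R₂, τ * q.out = (τ • q).out * s := by
    intro τ q
    refine ⟨((τ • q).out)⁻¹ * (τ * q.out), ?_, by group⟩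
    rw [← QuotientGroup.eq, QuotientGroup.out_eq']
    have h1 : (τ • ((q.out : R) : R ⧸ R₂)) = ((τ * q.out : R) : R ⧸ R₂) := rfl
    rw [← h1, QuotientGroup.out_eq']
  have hfix2 : ∀ s ∈ R₂, ∀ w ∈ V₂, ρ s w ∈ V₂ := by
    intro s hs w hw
    rw [← hR₂ s hs]
    exact Submodule.mem_map_of_mem hw
  have hmem : ∀ (τ : R) (q : R ⧸ R₂) (x : V), x ∈ p q → ρ τ x ∈ p (τ • q) := by
    intro τ q x hx
    obtain ⟨w, hw, rfl⟩ := Submodule.mem_map.mp hx
    obtain ⟨s, hs, hsq⟩ := hout τ q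
    rw [← rep_mul_apply, hsq, rep_mul_apply]
    exact Submodule.mem_map_of_mem (hfix2 s hs w hw)
  constructor
  · -- cardinality
    have e := hind.linearEquiv htop
    rw [← Nat.card_congr e.toEquiv, Nat.card_congr DFinsupp.equivFunOnFintype, Nat.card_pi]
    have h1 : ∀ q : R ⧸ R₂, Nat.card (p q) = Nat.card V₂ := by
      intro q
      exact (Nat.card_congr (Submodule.equivMapOfInjective (ρ q.out) (rep_injective ρ _) V₂).toEquiv).symm
    simp only [h1, Finset.prod_const, Finset.card_univ, Nat.card_eq_fintype_card]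
  · -- fixed points
    have huniq := (iSupIndep_iff_finsetSum_eq_imp_eq p).mp hind Finset.univ
    set q₀ : R ⧸ R₂ := ((1 : R) : R ⧸ R₂) with hq₀
    have hq₀out : q₀.out ∈ R₂ := by
      have h1 : ((q₀.out : R) : R ⧸ R₂) = ((1 : R) : R ⧸ R₂) := QuotientGroup.out_eq' q₀
      rw [QuotientGroup.eq] at h1
      have := R₂.inv_mem h1
      simpa using this
    have hpq₀ : p q₀ = V₂ := hR₂ _ hq₀out
    have hsq₀ : ∀ s ∈ R₂, s • q₀ = q₀ := by
      intro s hs
      show ((s * 1 : R) : R ⧸ R₂) = ((1 : R) : R ⧸ R₂)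
      rw [QuotientGroup.eq]
      simpa using R₂.inv_mem hs
    have hqq₀ : ∀ q : R ⧸ R₂, q.out • q₀ = q := by
      intro q
      show ((q.out * 1 : R) : R ⧸ R₂) = q
      rw [mul_one]
      exact QuotientGroup.out_eq' q
    have hsum_inv : ∀ w : V, w ∈ V₂ → (∀ τ ∈ R₂, ρ τ w = w) →
        ∀ τ : R, ρ τ (∑ q : R ⧸ R₂, ρ q.out w) = ∑ q : R ⧸ R₂, ρ q.out w := by
      intro w hw hwfix τ
      rw [map_sum]
      have h1 : ∀ q : R ⧸ R₂, ρ τ (ρ q.out w) = ρ (τ • q).out w := by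
        intro q
        obtain ⟨s, hs, hsq⟩ := hout τ q
        rw [← rep_mul_apply, hsq, rep_mul_apply, hwfix s hs]
      simp only [h1]
      exact Fintype.sum_equiv (MulAction.toPerm τ) _ _ (fun q => rfl)
    let f : {v : V // v ∈ V₂ ∧ ∀ τ ∈ R₂, ρ τ v = v} → {v : V // ∀ τ, ρ τ v = v} :=
      fun w => ⟨∑ q : R ⧸ R₂, ρ q.out w.1, hsum_inv w.1 w.2.1 w.2.2⟩
    have hf : Function.Bijective f := by
      constructor
      · intro w w' hww
        have h1 : ∑ q : R ⧸ R₂, ρ q.out w.1 = ∑ q : R ⧸ R₂, ρ q.out w'.1 :=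
          congrArg Subtype.val hww
        have h2 := huniq (fun q => ρ q.out w.1) (fun q => ρ q.out w'.1)
          (fun q _ => ⟨Submodule.mem_map_of_mem w.2.1, Submodule.mem_map_of_mem w'.2.1⟩) h1 q₀
          (Finset.mem_univ _)
        exact Subtype.ext (rep_injective ρ _ h2)
      · rintro ⟨v, hv⟩
        have hvtop : v ∈ ⨆ q ∈ (Finset.univ : Finset (R ⧸ R₂)), p q := by
          simp only [Finset.mem_univ, iSup_pos]
          rw [htop]
          exact Submodule.mem_top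
        obtain ⟨μ, hμ⟩ := (Submodule.mem_iSup_finset_iff_exists_sum p v).mp hvtop
        -- equivariance of components
        have hstar : ∀ (τ : R) (q : R ⧸ R₂), ((μ (τ • q) : p (τ • q)) : V) = ρ τ (μ q : V) := by
          intro τ q
          have h1 : ∑ q' : R ⧸ R₂, ρ τ ((μ (τ⁻¹ • q') : p (τ⁻¹ • q')) : V)
              = ∑ q' : R ⧸ R₂, ((μ q' : p q') : V) := by
            have h2 : ∑ q' : R ⧸ R₂, ρ τ ((μ (τ⁻¹ • q') : p (τ⁻¹ • q')) : V)
                = ∑ q' : R ⧸ R₂, ρ τ ((μ q' : p q') : V) :=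
              Fintype.sum_equiv (MulAction.toPerm τ⁻¹) _ _ (fun q => rfl)
            rw [h2, ← map_sum, hμ, hv τ]
          have h3 := huniq (fun q' => ρ τ ((μ (τ⁻¹ • q') : p (τ⁻¹ • q')) : V))
            (fun q' => ((μ q' : p q') : V))
            (fun q' _ => ⟨by
              have := hmem τ (τ⁻¹ • q') _ (μ (τ⁻¹ • q')).2
              rwa [smul_inv_smul] at this, (μ q').2⟩) h1 (τ • q) (Finset.mem_univ _)
          have hμeq : ∀ q' q'' : R ⧸ R₂, q' = q'' → ((μ q' : p q') : V) = ((μ q'' : p q'') : V) := by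
            intro q' q'' h
            rw [h]
          have h4 : ρ τ ((μ (τ⁻¹ • τ • q) : p (τ⁻¹ • τ • q)) : V) = ((μ (τ • q) : p (τ • q)) : V) := h3
          rw [hμeq _ _ (inv_smul_smul τ q)] at h4
          exact h4.symm
        have hw2 : ((μ q₀ : p q₀) : V) ∈ V₂ := by
          rw [← hpq₀]
          exact (μ q₀).2
        have hwfix : ∀ s ∈ R₂, ρ s ((μ q₀ : p q₀) : V) = ((μ q₀ : p q₀) : V) := by
          intro s hs
          have h1 := hstar s q₀
          have h2 : ((μ (s • q₀) : p (s • q₀)) : V) = ((μ q₀ : p q₀) : V) := by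
            rw [hsq₀ s hs]
          rw [← h1, h2]
        refine ⟨⟨(μ q₀ : V), hw2, hwfix⟩, ?_⟩
        apply Subtype.ext
        show ∑ q : R ⧸ R₂, ρ q.out ((μ q₀ : p q₀) : V) = v
        rw [← hμ]
        apply Finset.sum_congr rfl
        intro q _
        rw [← hstar q.out q₀]
        have : ∀ q' : R ⧸ R₂, q' = q → ((μ q' : p q') : V) = ((μ q : p q) : V) := by
          intro q' h
          rw [h]
        exact this _ (hqq₀ q)
    exact (Nat.card_congr (Equiv.ofBijective f hf)).symm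

end Cfsg.Agent.Lib.Helper1.FM
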