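import Mathlib

/-! Vandermonde descent: a counting form of Galois descent for finite modules. -/
set_option autoImplicit false
open scoped BigOperators

namespace Cfsg.Agent.Lib.Helper1.FM

theorem det_smul_eq_zero {S V : Type*} [CommRing S] [AddCommGroup V] [Module S V]
    {n : Type*} [Fintype n] [DecidableEq n] (M : Matrix n n S) (u : n → V)
    (h : ∀ i, ∑ j, M i j • u j = 0) (k : n) : M.det • u k = 0 := by
  have h1 : ∑ i, Matrix.adjugate M k i • ∑ j, M i j • u j = 0 := by
    apply Finset.sum_eq_zero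
    intro i _
    rw [h i, smul_zero]
  have h2 : ∑ i, Matrix.adjugate M k i • ∑ j, M i j • u j
      = ∑ j, (Matrix.adjugate M * M) k j • u j := by
    simp only [Finset.smul_sum, smul_smul]
    rw [Finset.sum_comm]
    apply Finset.sum_congr rfl
    intro j _
    rw [Matrix.mul_apply, Finset.sum_smul]
  rw [h2, Matrix.adjugate_mul] at h1
  have h3 : ∑ j, (M.det • (1 : Matrix n n S)) k j • u j = M.det • u k := by
    rw [Finset.sum_eq_single k]
    · simp
    · intro j _ hj
      simp [Matrix.one_apply_ne' hj]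
    · intro hk
      exact absurd (Finset.mem_univ k) hk
  rw [h3] at h1
  exact h1

theorem smul_prod_inj {S V : Type*} [CommRing S] [AddCommGroup V] [Module S V]
    {ι : Type*} (s : Finset ι) (f : ι → S) (hf : ∀ i ∈ s, ∀ v : V, f i • v = 0 → v = 0)
    (v : V) (hv : (∏ i ∈ s, f i) • v = 0) : v = 0 := by
  classical
  induction s using Finset.induction_on generalizing v with
  | empty => simpa using hv
  | insert a s ha ih =>
    rw [Finset.prod_insert ha, mul_smul] at hv
    have h1 := hf a (Finset.mem_insert_self a s) _ hv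
    exact ih (fun i hi => hf i (Finset.mem_insert_of_mem hi)) v h1

/-- fixed points of a group of additive endomorphisms -/
def fixedAdd {V R : Type*} [AddCommGroup V] [Monoid R] (ρ : R →* AddMonoid.End V) : AddSubgroup V where
  carrier := {v | ∀ τ, ρ τ v = v}
  zero_mem' := by intro τ; simp
  add_mem' := by
    intro a b ha hb τ
    rw [map_add, ha τ, hb τ]
  neg_mem' := by
    intro a ha τ
    rw [map_neg, ha τ]

theorem mem_fixedAdd {V R : Type*} [AddCommGroup V] [Monoid R] (ρ : R →* AddMonoid.End V) (v : V) :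
    v ∈ fixedAdd ρ ↔ ∀ τ, ρ τ v = v := Iff.rfl

theorem hcp_pow {S V R : Type*} [CommRing S] [AddCommGroup V] [Module S V]
    [Group R] (ρ : R →* AddMonoid.End V) (c : R → S)
    (hc : ∀ (τ : R) (v : V), ρ τ (c 1 • v) = c τ • ρ τ v) :
    ∀ (j : ℕ) (τ : R) (v : V), ρ τ (c 1 ^ j • v) = c τ ^ j • ρ τ v := by
  intro j
  induction j with
  | zero => intro τ v; simp
  | succ j ih =>
    intro τ v
    rw [pow_succ, mul_smul, ih, hc, ← mul_smul, ← pow_succ]

theorem vdm_det_inj {S V R : Type*} [CommRing S] [AddCommGroup V] [Module S V]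
    [Group R] (c : R → S)
    (hinj : ∀ τ σ : R, τ ≠ σ → ∀ v : V, (c τ - c σ) • v = 0 → v = 0) (n : ℕ) (e : R ≃ Fin n) :
    ∀ v : V, (Matrix.vandermonde (fun i : Fin n => c (e.symm i))).det • v = 0 → v = 0 := by
  intro v hv
  rw [Matrix.det_vandermonde] at hv
  refine smul_prod_inj Finset.univ _ ?_ v hv
  intro i _ v hv
  refine smul_prod_inj _ _ ?_ v hv
  intro j hj v hv
  rw [Finset.mem_Ioi] at hj
  refine hinj (e.symm j) (e.symm i) ?_ v hv
  intro h
  have := e.symm.injective h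
  exact absurd this (ne_of_gt hj)

theorem theta_injective {S V R : Type*} [CommRing S] [AddCommGroup V] [Module S V]
    [Group R] (ρ : R →* AddMonoid.End V) (c : R → S)
    (hc : ∀ (τ : R) (v : V), ρ τ (c 1 • v) = c τ • ρ τ v)
    (hinj : ∀ τ σ : R, τ ≠ σ → ∀ v : V, (c τ - c σ) • v = 0 → v = 0) (n : ℕ) (e : R ≃ Fin n) :
    Function.Injective (fun u : Fin n → fixedAdd ρ => ∑ j : Fin n, c 1 ^ (j : ℕ) • (u j : V)) := by
  classical
  have hcp := hcp_pow ρ c hc
  let M : Matrix (Fin n) (Fin n) S := Matrix.vandermonde (fun i : Fin n => c (e.symm i))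
  have hdet := vdm_det_inj (V := V) c hinj n e
  intro u u' huu
  have h0 : ∑ j : Fin n, c 1 ^ (j : ℕ) • ((u j : V) - (u' j : V)) = 0 := by
    simp only [smul_sub, Finset.sum_sub_distrib]
    exact sub_eq_zero.mpr huu
  have h1 : ∀ i : Fin n, ∑ j : Fin n, M i j • ((u j : V) - (u' j : V)) = 0 := by
    intro i
    have h2 := congrArg (ρ (e.symm i)) h0
    rw [map_sum, map_zero] at h2
    rw [← h2]
    apply Finset.sum_congr rfl
    intro j _
    rw [hcp]
    have h3 : ρ (e.symm i) ((u j : V) - (u' j : V)) = (u j : V) - (u' j : V) := by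
      rw [map_sub, (u j).2 (e.symm i), (u' j).2 (e.symm i)]
    rw [h3]
    rfl
  funext k
  have h4 := hdet _ (det_smul_eq_zero M _ h1 k)
  exact Subtype.ext (sub_eq_zero.mp h4)

theorem vandermonde_descent {S V R : Type*} [CommRing S] [AddCommGroup V] [Module S V] [Finite V]
    [Group R] [Finite R] (ρ : R →* AddMonoid.End V) (c : R → S)
    (hc : ∀ (τ : R) (v : V), ρ τ (c 1 • v) = c τ • ρ τ v)
    (hinj : ∀ τ σ : R, τ ≠ σ → ∀ v : V, (c τ - c σ) • v = 0 → v = 0) :
    Nat.card V = Nat.card (fixedAdd ρ) ^ Nat.card R := by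
  classical
  cases nonempty_fintype R
  obtain ⟨n, ⟨e⟩⟩ := Finite.exists_equiv_fin R
  have hn : Nat.card R = n := by
    rw [Nat.card_congr e, Nat.card_fin]
  have hcp := hcp_pow ρ c hc
  let M : Matrix (Fin n) (Fin n) S := Matrix.vandermonde (fun i : Fin n => c (e.symm i))
  have hdet := vdm_det_inj (V := V) c hinj n e
  have hdetT : ∀ v : V, M.transpose.det • v = 0 → v = 0 := by
    intro v hv
    rw [Matrix.det_transpose] at hv
    exact hdet v hv
  have hΘ := theta_injective ρ c hc hinj n e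
  -- Ψ
  have hT : ∀ v : V, (∑ τ : R, ρ τ v) ∈ fixedAdd ρ := by
    intro v σ
    rw [map_sum]
    have : ∀ τ : R, ρ σ (ρ τ v) = ρ (σ * τ) v := by
      intro τ
      rw [map_mul]
      rfl
    simp only [this]
    exact Fintype.sum_equiv (Equiv.mulLeft σ) _ _ (fun τ => rfl)
  let Ψ : V → (Fin n → fixedAdd ρ) := fun v j => ⟨∑ τ : R, ρ τ (c 1 ^ (j : ℕ) • v), hT _⟩
  have hΨ : Function.Injective Ψ := by
    intro v v' hvv
    have h0 : ∀ j : Fin n, ∑ τ : R, ρ τ (c 1 ^ (j : ℕ) • (v - v')) = 0 := by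
      intro j
      have h1 := congrArg (fun f => ((f j : fixedAdd ρ) : V)) hvv
      simp only [Ψ] at h1
      simp only [smul_sub, map_sub, Finset.sum_sub_distrib]
      exact sub_eq_zero.mpr h1
    have h1 : ∀ j : Fin n, ∑ i : Fin n, M.transpose j i • ρ (e.symm i) (v - v') = 0 := by
      intro j
      rw [← h0 j]
      rw [← Equiv.sum_comp e.symm]
      apply Finset.sum_congr rfl
      intro i _
      rw [hcp]
      rfl
    have h4 := hdetT _ (det_smul_eq_zero M.transpose _ h1 (e 1))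
    rw [Equiv.symm_apply_apply, map_one] at h4
    exact sub_eq_zero.mp h4
  have hfin : Finite (Fin n → fixedAdd ρ) := inferInstance
  have h1 : Nat.card V ≤ Nat.card (Fin n → fixedAdd ρ) := Nat.card_le_card_of_injective Ψ hΨ
  have h2 : Nat.card (Fin n → fixedAdd ρ) ≤ Nat.card V := Nat.card_le_card_of_injective _ hΘ
  have h3 : Nat.card (Fin n → fixedAdd ρ) = Nat.card (fixedAdd ρ) ^ n := by
    rw [Nat.card_fun, Nat.card_fin]
  rw [hn, ← h3]
  exact le_antisymm h1 h2

theorem vandermonde_cyclic {S V R : Type*} [CommRing S] [AddCommGroup V] [Module S V] [Finite V]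
    [Group R] [Finite R] (ρ : R →* AddMonoid.End V) (c : R → S)
    (hc : ∀ (τ : R) (v : V), ρ τ (c 1 • v) = c τ • ρ τ v)
    (hinj : ∀ τ σ : R, τ ≠ σ → ∀ v : V, (c τ - c σ) • v = 0 → v = 0)
    (u₀ : V) (hu₀ : ∀ u ∈ fixedAdd ρ, ∃ s : S, u = s • u₀) :
    ∀ v : V, ∃ s : S, v = s • u₀ := by
  classical
  obtain ⟨n, ⟨e⟩⟩ := Finite.exists_equiv_fin R
  have hn : Nat.card R = n := by
    rw [Nat.card_congr e, Nat.card_fin]
  have hΘ := theta_injective ρ c hc hinj n e
  have hcard := vandermonde_descent ρ c hc hinj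
  have h3 : Nat.card (Fin n → fixedAdd ρ) = Nat.card (fixedAdd ρ) ^ n := by
    rw [Nat.card_fun, Nat.card_fin]
  have hfin : Finite (Fin n → fixedAdd ρ) := inferInstance
  have hbij := Function.Injective.bijective_of_nat_card_le hΘ (by rw [h3, hcard, hn])
  intro v
  obtain ⟨u, hu⟩ := hbij.2 v
  choose s hs using fun j : Fin n => hu₀ (u j : V) (u j).2
  refine ⟨∑ j : Fin n, c 1 ^ (j : ℕ) * s j, ?_⟩
  rw [← hu, Finset.sum_smul]
  apply Finset.sum_congr rfl
  intro j _
  rw [mul_smul, ← hs j]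

theorem comm_of_cyclic {S V : Type*} [CommRing S] [AddCommGroup V] [Module S V]
    (u₀ : V) (hu₀ : ∀ v : V, ∃ s : S, v = s • u₀) (x y : V → V)
    (hx : ∀ (s : S) (v : V), x (s • v) = s • x v) (hy : ∀ (s : S) (v : V), y (s • v) = s • y v)
    (v : V) : x (y v) = y (x v) := by
  obtain ⟨a, rfl⟩ := hu₀ v
  obtain ⟨s, hs⟩ := hu₀ (x u₀)
  obtain ⟨t, ht⟩ := hu₀ (y u₀)
  rw [hy, hx, ht, hx, hs, hx, hy, hs, hy, ht]
  simp only [smul_smul]
  congr 1
  ring

end Cfsg.Agent.Lib.Helper1.FM
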