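import Mathlib

/-! Commutative operator algebras: homogeneous components attached to minimal invariant subspaces. -/
set_option autoImplicit false
open scoped BigOperators

namespace Cfsg.Agent.Lib.Helper1.FM

variable {F V : Type*} [Field F] [AddCommGroup V] [Module F V]

/-- the algebra generated by a set of operators -/
abbrev alg (Zs : Set (Module.End F V)) : Subalgebra F (Module.End F V) := Algebra.adjoin F Zs

theorem alg_comm_of (Zs : Set (Module.End F V)) (x : Module.End F V)
    (hx : ∀ z ∈ Zs, z * x = x * z) : ∀ e ∈ alg Zs, e * x = x * e := by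
  intro e he
  have h1 : alg Zs ≤ Subalgebra.centralizer F {x} := by
    apply Algebra.adjoin_le
    intro z hz
    rw [SetLike.mem_coe, Subalgebra.mem_centralizer_iff]
    intro g hg
    rw [Set.mem_singleton_iff] at hg
    rw [hg]
    exact (hx z hz).symm
  have h2 := h1 he
  rw [Subalgebra.mem_centralizer_iff] at h2
  exact (h2 x rfl).symm

theorem alg_comm (Zs : Set (Module.End F V)) (hZ : ∀ z ∈ Zs, ∀ z' ∈ Zs, z * z' = z' * z) :
    ∀ a ∈ alg Zs, ∀ b ∈ alg Zs, a * b = b * a := by
  intro a ha b hb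
  have h1 : ∀ z ∈ Zs, z * b = b * z := by
    intro z hz
    exact (alg_comm_of Zs z (fun z' hz' => hZ z' hz' z hz) b hb).symm
  exact alg_comm_of Zs b h1 a ha

theorem alg_conj (Zs : Set (Module.End F V)) (g g' : Module.End F V) (hg : g' * g = 1)
    (hZ : ∀ z ∈ Zs, g * z * g' ∈ Zs) (hgg : g * g' = 1) : ∀ e ∈ alg Zs, g * e * g' ∈ alg Zs := by
  intro e he
  induction he using Algebra.adjoin_induction with
  | mem z hz => exact Algebra.subset_adjoin (hZ z hz)
  | algebraMap r =>
    have : g * (algebraMap F (Module.End F V) r) * g' = algebraMap F (Module.End F V) r := by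
      rw [Algebra.commutes r g |>.symm, mul_assoc, hgg, mul_one]
    rw [this]
    exact Subalgebra.algebraMap_mem _ r
  | add a b _ _ iha ihb =>
    have : g * (a + b) * g' = g * a * g' + g * b * g' := by
      rw [mul_add, add_mul]
    rw [this]
    exact Subalgebra.add_mem _ iha ihb
  | mul a b _ _ iha ihb =>
    have : g * (a * b) * g' = (g * a * g') * (g * b * g') := by
      calc g * (a * b) * g' = g * a * (1 : Module.End F V) * b * g' := by rw [mul_one]; simp only [mul_assoc]
        _ = g * a * (g' * g) * b * g' := by rw [hg]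
        _ = (g * a * g') * (g * b * g') := by simp only [mul_assoc]
    rw [this]
    exact Subalgebra.mul_mem _ iha ihb

/-- invariance of a subspace under a set of operators -/
def Inv (S : Set (Module.End F V)) (U : Submodule F V) : Prop := ∀ e ∈ S, ∀ u ∈ U, e u ∈ U

/-- annihilator of a subspace within the algebra -/
def annSet (Zs : Set (Module.End F V)) (W : Submodule F V) : Set (Module.End F V) :=
  {e | e ∈ alg Zs ∧ ∀ w ∈ W, e w = 0}

/-- the component attached to `W` -/
def comp (Zs : Set (Module.End F V)) (W : Submodule F V) : Submodule F V where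
  carrier := {v | ∀ e ∈ annSet Zs W, e v = 0}
  zero_mem' := by intro e _; simp
  add_mem' := by
    intro a b ha hb e he
    rw [map_add, ha e he, hb e he, add_zero]
  smul_mem' := by
    intro c a ha e he
    rw [map_smul, ha e he, smul_zero]

theorem mem_comp (Zs : Set (Module.End F V)) (W : Submodule F V) (v : V) :
    v ∈ comp Zs W ↔ ∀ e ∈ annSet Zs W, e v = 0 := Iff.rfl

theorem le_comp (Zs : Set (Module.End F V)) (W : Submodule F V) : W ≤ comp Zs W := by
  intro w hw e he
  exact he.2 w hw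

/-- minimal nonzero invariant subspace -/
def IsMin (Zs : Set (Module.End F V)) (W : Submodule F V) : Prop :=
  W ≠ ⊥ ∧ Inv (alg Zs : Set (Module.End F V)) W ∧
    ∀ U : Submodule F V, U ≠ ⊥ → Inv (alg Zs : Set (Module.End F V)) U → U ≤ W → U = W

theorem exists_isMin [Finite V] [Nontrivial V] (Zs : Set (Module.End F V)) :
    ∃ W, IsMin Zs W := by
  classical
  have hwf : WellFoundedLT (Submodule F V) := inferInstance
  let 𝒮 : Set (Submodule F V) := {U | U ≠ ⊥ ∧ Inv (alg Zs : Set (Module.End F V)) U}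
  have hne : 𝒮.Nonempty := ⟨⊤, top_ne_bot, fun _ _ _ _ => Submodule.mem_top⟩
  obtain ⟨W, hW, hmin⟩ := hwf.wf.has_min 𝒮 hne
  refine ⟨W, hW.1, hW.2, ?_⟩
  intro U hU hUinv hUW
  by_contra hne
  exact hmin U ⟨hU, hUinv⟩ (lt_of_le_of_ne hUW hne)

theorem comp_inv_of_comm (Zs : Set (Module.End F V)) (W : Submodule F V) (x : Module.End F V)
    (hx : ∀ z ∈ Zs, z * x = x * z) : ∀ v ∈ comp Zs W, x v ∈ comp Zs W := by
  intro v hv e he
  have h1 := alg_comm_of Zs x hx e he.1
  have h2 : e (x v) = x (e v) := by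
    have := congrArg (fun f : Module.End F V => f v) h1
    exact this
  rw [h2, hv e he, map_zero]

theorem comp_inv_alg (Zs : Set (Module.End F V)) (hZ : ∀ z ∈ Zs, ∀ z' ∈ Zs, z * z' = z' * z)
    (W : Submodule F V) : Inv (alg Zs : Set (Module.End F V)) (comp Zs W) := by
  intro a ha v hv e he
  have h1 := alg_comm Zs hZ e he.1 a ha
  have h2 : e (a v) = a (e v) := congrArg (fun f : Module.End F V => f v) h1
  rw [h2, hv e he, map_zero]

theorem pow_sub_one_mem_ann [Finite V] (Zs : Set (Module.End F V))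
    (hZ : ∀ z ∈ Zs, ∀ z' ∈ Zs, z * z' = z' * z) (W : Submodule F V) (hW : IsMin Zs W)
    (e : Module.End F V) (he : e ∈ alg Zs) (hne : e ∉ annSet Zs W) :
    ∃ n : ℕ, 1 ≤ n ∧ e ^ n - 1 ∈ annSet Zs W := by
  classical
  -- kernel of e on W
  let U : Submodule F V := W ⊓ LinearMap.ker e
  have hUinv : Inv (alg Zs : Set (Module.End F V)) U := by
    intro a ha u hu
    refine Submodule.mem_inf.mpr ⟨hW.2.1 a ha u (Submodule.mem_inf.mp hu).1, ?_⟩
    rw [LinearMap.mem_ker]
    have h1 := alg_comm Zs hZ e he a ha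
    have h2 : e (a u) = a (e u) := congrArg (fun f : Module.End F V => f u) h1
    rw [h2, LinearMap.mem_ker.mp (Submodule.mem_inf.mp hu).2, map_zero]
  have hU : U = ⊥ := by
    by_contra hU
    have h1 := hW.2.2 U hU hUinv inf_le_left
    apply hne
    refine ⟨he, fun w hw => ?_⟩
    have : w ∈ U := by rw [h1]; exact hw
    exact LinearMap.mem_ker.mp (Submodule.mem_inf.mp this).2
  have hinj : ∀ w ∈ W, e w = 0 → w = 0 := by
    intro w hw hew
    have : w ∈ U := Submodule.mem_inf.mpr ⟨hw, LinearMap.mem_ker.mpr hew⟩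
    rw [hU] at this
    exact (Submodule.mem_bot F).mp this
  have hmaps : ∀ w ∈ W, e w ∈ W := fun w hw => hW.2.1 e he w hw
  let f : W →ₗ[F] W := e.restrict hmaps
  have hfinj : Function.Injective f := by
    rw [← LinearMap.ker_eq_bot, LinearMap.ker_eq_bot']
    intro w hw
    have h1 : e (w : V) = 0 := by
      have := congrArg Subtype.val hw
      simpa [f] using this
    exact Subtype.ext (hinj w w.2 h1)
  have hfbij : Function.Bijective f := Finite.injective_iff_bijective.mp hfinj
  let g : W ≃ₗ[F] W := LinearEquiv.ofBijective f hfbij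
  have hfin : Finite (W ≃ₗ[F] W) := by
    apply Finite.of_injective (fun φ : W ≃ₗ[F] W => (φ : W → W))
    intro a b hab
    exact LinearEquiv.ext (fun x => congrFun hab x)
  have hord : 0 < orderOf g := orderOf_pos g
  refine ⟨orderOf g, hord, ?_, ?_⟩
  · exact Subalgebra.sub_mem _ (Subalgebra.pow_mem _ he _) (Subalgebra.one_mem _)
  · intro w hw
    have h1 : ∀ (n : ℕ) (x : W), ((g ^ n) x : V) = (e ^ n) (x : V) := by
      intro n
      induction n with
      | zero => intro x; simp
      | succ n ih =>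
        intro x
        rw [pow_succ, pow_succ]
        show ((g ^ n) (g x) : V) = (e ^ n) (e (x : V))
        rw [ih]
        rfl
    have h2 := h1 (orderOf g) ⟨w, hw⟩
    rw [pow_orderOf_eq_one] at h2
    rw [LinearMap.sub_apply, ← h2]
    simp

theorem inj_on_comp [Finite V] (Zs : Set (Module.End F V))
    (hZ : ∀ z ∈ Zs, ∀ z' ∈ Zs, z * z' = z' * z) (W : Submodule F V) (hW : IsMin Zs W)
    (e : Module.End F V) (he : e ∈ alg Zs) (hne : e ∉ annSet Zs W) (v : V) (hv : v ∈ comp Zs W)
    (hev : e v = 0) : v = 0 := by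
  obtain ⟨n, hn, hann⟩ := pow_sub_one_mem_ann Zs hZ W hW e he hne
  have h1 := hv _ hann
  rw [LinearMap.sub_apply, sub_eq_zero] at h1
  obtain ⟨m, rfl⟩ : ∃ m, n = m + 1 := ⟨n - 1, by omega⟩
  rw [pow_succ] at h1
  have h2 : (e ^ m * e) v = (e ^ m) (e v) := rfl
  rw [h2, hev, map_zero] at h1
  simpa using h1.symm

theorem ann_subset_imp [Finite V] (Zs : Set (Module.End F V))
    (hZ : ∀ z ∈ Zs, ∀ z' ∈ Zs, z * z' = z' * z) (W₁ W₂ : Submodule F V) (hW₁ : IsMin Zs W₁)
    (hW₂ : IsMin Zs W₂) (h : annSet Zs W₂ ⊆ annSet Zs W₁) : annSet Zs W₁ ⊆ annSet Zs W₂ := by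
  intro e he
  by_contra hne
  obtain ⟨n, hn, hann⟩ := pow_sub_one_mem_ann Zs hZ W₂ hW₂ e he.1 hne
  have h1 := h hann
  -- e^n ∈ ann W₁
  apply hW₁.1
  rw [eq_bot_iff]
  intro w hw
  have h2 := h1.2 w hw
  rw [LinearMap.sub_apply, sub_eq_zero] at h2
  obtain ⟨m, rfl⟩ : ∃ m, n = m + 1 := ⟨n - 1, by omega⟩
  rw [pow_succ] at h2
  have h3 : (e ^ m * e) w = (e ^ m) (e w) := rfl
  rw [h3, he.2 w hw, map_zero] at h2
  rw [Submodule.mem_bot]
  simpa using h2.symm

end Cfsg.Agent.Lib.Helper1.FM
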