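import Mathlib
import Cfsg.Agent.Lib.Helper1.FM3

/-! Conjugates and independence of components. -/
set_option autoImplicit false
open scoped BigOperators

namespace Cfsg.Agent.Lib.Helper1.FM

variable {F V : Type*} [Field F] [AddCommGroup V] [Module F V]

theorem end_mul_apply (a b : Module.End F V) (v : V) : (a * b) v = a (b v) := rfl

theorem map_mul_end (U : Submodule F V) (a b : Module.End F V) :
    U.map (a * b) = (U.map b).map a := by
  rw [Module.End.mul_eq_comp, Submodule.map_comp]

theorem map_one_end (U : Submodule F V) : U.map (1 : Module.End F V) = U := by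
  rw [Module.End.one_eq_id, Submodule.map_id]

theorem inv_map_conj (Zs : Set (Module.End F V)) (g g' : Module.End F V) (hg : g' * g = 1)
    (hgg : g * g' = 1) (hZ' : ∀ z ∈ Zs, g' * z * g ∈ Zs) (W : Submodule F V)
    (hW : Inv (alg Zs : Set (Module.End F V)) W) :
    Inv (alg Zs : Set (Module.End F V)) (W.map g) := by
  intro e he u hu
  obtain ⟨w, hw, rfl⟩ := Submodule.mem_map.mp hu
  have h1 : g' * e * g ∈ alg Zs := alg_conj Zs g' g hgg hZ' hg e he
  have h2 : e (g w) = g ((g' * e * g) w) := by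
    have h3 : g * (g' * e * g) = e * g := by
      rw [← mul_assoc, ← mul_assoc, hgg, one_mul]
    have := congrArg (fun f : Module.End F V => f w) h3
    exact this.symm
  rw [h2]
  exact Submodule.mem_map_of_mem (hW _ h1 w hw)

theorem map_map_cancel (g g' : Module.End F V) (hg : g' * g = 1) (U : Submodule F V) :
    (U.map g).map g' = U := by
  rw [← map_mul_end, hg, map_one_end]

theorem map_ne_bot (g g' : Module.End F V) (hg : g' * g = 1) (U : Submodule F V) (hU : U ≠ ⊥) :
    U.map g ≠ ⊥ := by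
  intro h
  apply hU
  rw [← map_map_cancel g g' hg U, h, Submodule.map_bot]

theorem isMin_map (Zs : Set (Module.End F V)) (g g' : Module.End F V) (hg : g' * g = 1)
    (hgg : g * g' = 1) (hZ : ∀ z ∈ Zs, g * z * g' ∈ Zs) (hZ' : ∀ z ∈ Zs, g' * z * g ∈ Zs)
    (W : Submodule F V) (hW : IsMin Zs W) : IsMin Zs (W.map g) := by
  refine ⟨map_ne_bot g g' hg W hW.1, inv_map_conj Zs g g' hg hgg hZ' W hW.2.1, ?_⟩
  intro U hU hUinv hUW
  have h1 : U.map g' ≤ W := by
    rw [← map_map_cancel g g' hg W]
    exact Submodule.map_mono hUW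
  have h2 : U.map g' ≠ ⊥ := map_ne_bot g' g hgg U hU
  have h3 : Inv (alg Zs : Set (Module.End F V)) (U.map g') := inv_map_conj Zs g' g hgg hg hZ U hUinv
  have h4 := hW.2.2 _ h2 h3 h1
  rw [← h4, map_map_cancel g' g hgg U]

theorem annSet_map (Zs : Set (Module.End F V)) (g g' : Module.End F V) (hg : g' * g = 1)
    (hgg : g * g' = 1) (hZ : ∀ z ∈ Zs, g * z * g' ∈ Zs) (hZ' : ∀ z ∈ Zs, g' * z * g ∈ Zs)
    (W : Submodule F V) (e : Module.End F V) :
    e ∈ annSet Zs (W.map g) ↔ g' * e * g ∈ annSet Zs W := by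
  constructor
  · rintro ⟨he, h⟩
    refine ⟨alg_conj Zs g' g hgg hZ' hg e he, ?_⟩
    intro w hw
    show g' (e (g w)) = 0
    rw [h (g w) (Submodule.mem_map_of_mem hw), map_zero]
  · rintro ⟨he, h⟩
    have h1 : e = g * (g' * e * g) * g' := by
      calc e = 1 * e * 1 := by rw [one_mul, mul_one]
        _ = (g * g') * e * (g * g') := by rw [hgg]
        _ = g * (g' * e * g) * g' := by simp only [mul_assoc]
    refine ⟨?_, ?_⟩
    · rw [h1]
      exact alg_conj Zs g g' hg hZ hgg _ he
    · intro u hu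
      obtain ⟨w, hw, rfl⟩ := Submodule.mem_map.mp hu
      have h2 := h w hw
      have h3 : g' (e (g w)) = 0 := h2
      have h4 := congrArg g h3
      rw [map_zero] at h4
      have h5 : g (g' (e (g w))) = e (g w) := by
        have := congrArg (fun f : Module.End F V => f (e (g w))) hgg
        exact this
      rw [h5] at h4
      exact h4

theorem comp_map (Zs : Set (Module.End F V)) (g g' : Module.End F V) (hg : g' * g = 1)
    (hgg : g * g' = 1) (hZ : ∀ z ∈ Zs, g * z * g' ∈ Zs) (hZ' : ∀ z ∈ Zs, g' * z * g ∈ Zs)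
    (W : Submodule F V) : comp Zs (W.map g) = (comp Zs W).map g := by
  have hgg'v : ∀ v : V, g (g' v) = v := fun v => congrArg (fun f : Module.End F V => f v) hgg
  have hg'gv : ∀ v : V, g' (g v) = v := fun v => congrArg (fun f : Module.End F V => f v) hg
  apply le_antisymm
  · intro v hv
    rw [Submodule.mem_map]
    refine ⟨g' v, ?_, hgg'v v⟩
    intro e he
    -- g e g' ∈ annSet (W.map g)
    have h1 : g * e * g' ∈ annSet Zs (W.map g) := by
      rw [annSet_map Zs g g' hg hgg hZ hZ']
      have : g' * (g * e * g') * g = e := by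
        calc g' * (g * e * g') * g = (g' * g) * e * (g' * g) := by simp only [mul_assoc]
          _ = e := by rw [hg, one_mul, mul_one]
      rw [this]
      exact he
    have h2 := hv _ h1
    have h3 : g (e (g' v)) = 0 := h2
    have h4 := congrArg g' h3
    rw [map_zero, hg'gv] at h4
    exact h4
  · intro v hv
    obtain ⟨w, hw, rfl⟩ := Submodule.mem_map.mp hv
    intro e he
    have h1 := (annSet_map Zs g g' hg hgg hZ hZ' W e).mp he
    have h2 := hw _ h1
    have h3 : g' (e (g w)) = 0 := h2
    have h4 := congrArg g h3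
    rw [map_zero, hgg'v] at h4
    exact h4

theorem exists_sep_of_comp_ne [Finite V] (Zs : Set (Module.End F V))
    (hZ : ∀ z ∈ Zs, ∀ z' ∈ Zs, z * z' = z' * z) (W₁ W₂ : Submodule F V) (hW₁ : IsMin Zs W₁)
    (hW₂ : IsMin Zs W₂) (hne : comp Zs W₁ ≠ comp Zs W₂) :
    ∃ e, e ∈ annSet Zs W₁ ∧ e ∉ annSet Zs W₂ := by
  by_contra hcon
  have h1 : annSet Zs W₁ ⊆ annSet Zs W₂ := by
    intro e he
    by_contra h
    exact hcon ⟨e, he, h⟩
  have h2 : annSet Zs W₂ ⊆ annSet Zs W₁ := ann_subset_imp Zs hZ W₂ W₁ hW₂ hW₁ h1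
  have h3 : annSet Zs W₁ = annSet Zs W₂ := Set.Subset.antisymm h1 h2
  apply hne
  ext v
  rw [mem_comp, mem_comp, h3]

theorem comp_indep [Finite V] (Zs : Set (Module.End F V))
    (hZ : ∀ z ∈ Zs, ∀ z' ∈ Zs, z * z' = z' * z) {ι : Type*} (W : ι → Submodule F V)
    (hW : ∀ i, IsMin Zs (W i)) (hne : ∀ i j, i ≠ j → comp Zs (W i) ≠ comp Zs (W j)) :
    iSupIndep (fun i => comp Zs (W i)) := by
  classical
  rw [iSupIndep_iff_finsetSum_eq_zero_imp_eq_zero]
  intro s
  induction s using Finset.induction_on with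
  | empty => intro v _ _ i hi; simp at hi
  | insert a s ha ih =>
    intro v hv hsum
    have hs : ∀ j ∈ s, v j = 0 := by
      intro j hj
      have haj : a ≠ j := by
        intro h
        rw [h] at ha
        exact ha hj
      obtain ⟨e, he1, he2⟩ := exists_sep_of_comp_ne Zs hZ (W a) (W j) (hW a) (hW j) (hne a j haj)
      have h1 : ∑ i ∈ s, e (v i) = 0 := by
        have h2 := congrArg e hsum
        rw [map_zero, Finset.sum_insert ha, map_add, map_sum] at h2
        have h3 : e (v a) = 0 := hv a (Finset.mem_insert_self a s) e he1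
        rw [h3, zero_add] at h2
        exact h2
      have h4 := ih (fun i => e (v i))
        (fun i hi => comp_inv_alg Zs hZ (W i) e he1.1 (v i) (hv i (Finset.mem_insert_of_mem hi)))
        h1 j hj
      exact inj_on_comp Zs hZ (W j) (hW j) e he1.1 he2 (v j)
        (hv j (Finset.mem_insert_of_mem hj)) h4
    intro i hi
    rcases Finset.mem_insert.mp hi with rfl | hi
    · rw [Finset.sum_insert ha, Finset.sum_eq_zero hs, add_zero] at hsum
      exact hsum
    · exact hs i hi

end Cfsg.Agent.Lib.Helper1.FM
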