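import Mathlib
import Cfsg.Agent.Lib.Helper1.FM1
import Cfsg.Agent.Lib.Helper1.FM4

/-! The Vandermonde step on a homogeneous component. -/
set_option autoImplicit false
open scoped BigOperators

namespace Cfsg.Agent.Lib.Helper1.FM

variable {F V : Type*} [Field F] [AddCommGroup V] [Module F V]

/-- commutative ring structure on the operator algebra -/
abbrev commRingAlg (Zs : Set (Module.End F V)) (hZ : ∀ z ∈ Zs, ∀ z' ∈ Zs, z * z' = z' * z) :
    CommRing ↥(alg Zs) :=
  { (inferInstance : Ring ↥(alg Zs)) with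
    mul_comm := fun a b => Subtype.ext (alg_comm Zs hZ a.1 a.2 b.1 b.2) }

/-- the operator algebra acts on the component -/
abbrev moduleComp (Zs : Set (Module.End F V)) (hZ : ∀ z ∈ Zs, ∀ z' ∈ Zs, z * z' = z' * z)
    (W : Submodule F V) :
    letI := commRingAlg Zs hZ
    Module ↥(alg Zs) ↥(comp Zs W) :=
  letI := commRingAlg Zs hZ
  { smul := fun e v => ⟨(e : Module.End F V) (v : V), comp_inv_alg Zs hZ W e.1 e.2 v.1 v.2⟩
    one_smul := fun _ => Subtype.ext rfl
    mul_smul := fun _ _ _ => Subtype.ext rfl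
    smul_zero := fun _ => Subtype.ext (map_zero _)
    smul_add := fun _ _ _ => Subtype.ext (map_add _ _ _)
    add_smul := fun _ _ _ => Subtype.ext rfl
    zero_smul := fun _ => Subtype.ext rfl }

theorem vdm_step [Finite V] (Zs : Set (Module.End F V))
    (hZ : ∀ z ∈ Zs, ∀ z' ∈ Zs, z * z' = z' * z) (W : Submodule F V) (hW : IsMin Zs W)
    {T : Type*} [Group T] [Finite T] (σ : T →* Module.End F V)
    (hσ : ∀ t, ∀ v ∈ comp Zs W, σ t v ∈ comp Zs W)
    (c : T → Module.End F V) (hcE : ∀ t, c t ∈ alg Zs)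
    (hc : ∀ t, σ t * c 1 = c t * σ t)
    (hsep : ∀ t s, t ≠ s → c t - c s ∉ annSet Zs W) :
    Nat.card (comp Zs W) = Nat.card {v : V // v ∈ comp Zs W ∧ ∀ t, σ t v = v} ^ Nat.card T ∧
    (Nat.card {v : V // v ∈ comp Zs W ∧ ∀ t, σ t v = v} = Nat.card F →
      ∀ x y : Module.End F V, (∀ z ∈ Zs, z * x = x * z) → (∀ z ∈ Zs, z * y = y * z) →
        ∀ v ∈ comp Zs W, x (y v) = y (x v)) := by
  classical
  let instC : CommRing ↥(alg Zs) := commRingAlg Zs hZ
  let instM : Module ↥(alg Zs) ↥(comp Zs W) := moduleComp Zs hZ W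
  have hsmul : ∀ (e : ↥(alg Zs)) (v : ↥(comp Zs W)), ((e • v : ↥(comp Zs W)) : V) = (e : Module.End F V) (v : V) :=
    fun e v => rfl
  let ρ₂ : T →* AddMonoid.End ↥(comp Zs W) :=
    { toFun := fun t =>
        { toFun := fun v => ⟨σ t (v : V), hσ t v.1 v.2⟩
          map_zero' := Subtype.ext (map_zero _)
          map_add' := fun a b => Subtype.ext (map_add _ _ _) }
      map_one' := by
        apply AddMonoidHom.ext
        intro v
        apply Subtype.ext
        show σ 1 (v : V) = v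
        rw [map_one]
        rfl
      map_mul' := by
        intro a b
        apply AddMonoidHom.ext
        intro v
        apply Subtype.ext
        show σ (a * b) (v : V) = σ a (σ b (v : V))
        rw [map_mul]
        rfl }
  have hρ₂ : ∀ (t : T) (v : ↥(comp Zs W)), ((ρ₂ t v : ↥(comp Zs W)) : V) = σ t (v : V) := fun t v => rfl
  let c₂ : T → ↥(alg Zs) := fun t => ⟨c t, hcE t⟩
  have hc₂ : ∀ (τ : T) (v : ↥(comp Zs W)), ρ₂ τ (c₂ 1 • v) = c₂ τ • ρ₂ τ v := by
    intro τ v
    apply Subtype.ext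
    rw [hρ₂, hsmul, hsmul, hρ₂]
    show σ τ (c 1 (v : V)) = c τ (σ τ (v : V))
    exact congrArg (fun f : Module.End F V => f (v : V)) (hc τ)
  have hinj₂ : ∀ τ s : T, τ ≠ s → ∀ v : ↥(comp Zs W), (c₂ τ - c₂ s) • v = 0 → v = 0 := by
    intro τ s hτs v hv
    have h1 : ((c₂ τ - c₂ s : ↥(alg Zs)) : Module.End F V) = c τ - c s := rfl
    have h2 := congrArg Subtype.val hv
    rw [hsmul, h1] at h2
    have h3 := inj_on_comp Zs hZ W hW (c τ - c s)
      (Subalgebra.sub_mem _ (hcE τ) (hcE s)) (hsep τ s hτs) (v : V) v.2 h2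
    exact Subtype.ext h3
  -- the equivalence of fixed point sets
  let eqv : fixedAdd ρ₂ ≃ {v : V // v ∈ comp Zs W ∧ ∀ t, σ t v = v} :=
    { toFun := fun u => ⟨((u : ↥(comp Zs W)) : V), (u : ↥(comp Zs W)).2,
        fun t => congrArg Subtype.val (u.2 t)⟩
      invFun := fun w => ⟨⟨w.1, w.2.1⟩, fun t => Subtype.ext (w.2.2 t)⟩
      left_inv := fun u => rfl
      right_inv := fun w => rfl }
  have hcard := vandermonde_descent ρ₂ c₂ hc₂ hinj₂
  refine ⟨?_, ?_⟩
  · rw [← Nat.card_congr eqv]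
    exact hcard
  · intro hF x y hx hy
    rw [← Nat.card_congr eqv] at hF
    -- nonzero fixed vector
    have hFfin : Finite F := by
      by_contra hinf
      rw [not_finite_iff_infinite] at hinf
      have : Nat.card F = 0 := Nat.card_eq_zero_of_infinite
      rw [this] at hF
      have hpos : 0 < Nat.card (fixedAdd ρ₂) := Nat.card_pos
      omega
    have hF2 : 1 < Nat.card (fixedAdd ρ₂) := by
      rw [hF]
      exact Finite.one_lt_card
    have hnt : Nontrivial (fixedAdd ρ₂) := Finite.one_lt_card_iff_nontrivial.mp hF2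
    obtain ⟨u, hu⟩ := exists_ne (0 : fixedAdd ρ₂)
    have hu0 : (u : ↥(comp Zs W)) ≠ 0 := by
      intro h
      apply hu
      exact Subtype.ext h
    have hlin : ∀ (a : F) (t : T), ρ₂ t (a • (u : ↥(comp Zs W))) = a • (u : ↥(comp Zs W)) := by
      intro a t
      apply Subtype.ext
      rw [hρ₂]
      show σ t (a • ((u : ↥(comp Zs W)) : V)) = a • ((u : ↥(comp Zs W)) : V)
      rw [map_smul]
      have := congrArg Subtype.val (u.2 t)
      rw [hρ₂] at this
      rw [this]
    let f : F → fixedAdd ρ₂ := fun a => ⟨a • (u : ↥(comp Zs W)), hlin a⟩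
    have hf : Function.Injective f := by
      intro a b hab
      have h1 : a • (u : ↥(comp Zs W)) = b • (u : ↥(comp Zs W)) := congrArg Subtype.val hab
      exact smul_left_injective F hu0 h1
    have hfbij := Function.Injective.bijective_of_nat_card_le hf (le_of_eq hF)
    have hu₀ : ∀ w ∈ fixedAdd ρ₂, ∃ s : ↥(alg Zs), w = s • (u : ↥(comp Zs W)) := by
      intro w hw
      obtain ⟨a, ha⟩ := hfbij.2 ⟨w, hw⟩
      refine ⟨algebraMap F ↥(alg Zs) a, ?_⟩
      have h1 : w = a • (u : ↥(comp Zs W)) := (congrArg Subtype.val ha).symm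
      rw [h1]
      apply Subtype.ext
      rw [hsmul]
      show a • ((u : ↥(comp Zs W)) : V) = (algebraMap F (Module.End F V) a) ((u : ↥(comp Zs W)) : V)
      rw [Module.algebraMap_end_apply]
    have hcyc := vandermonde_cyclic ρ₂ c₂ hc₂ hinj₂ (u : ↥(comp Zs W)) hu₀
    have hxinv : ∀ v ∈ comp Zs W, x v ∈ comp Zs W := comp_inv_of_comm Zs W x hx
    have hyinv : ∀ v ∈ comp Zs W, y v ∈ comp Zs W := comp_inv_of_comm Zs W y hy
    let x₂ : ↥(comp Zs W) → ↥(comp Zs W) := fun v => ⟨x (v : V), hxinv v.1 v.2⟩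
    let y₂ : ↥(comp Zs W) → ↥(comp Zs W) := fun v => ⟨y (v : V), hyinv v.1 v.2⟩
    have hx₂ : ∀ (s : ↥(alg Zs)) (v : ↥(comp Zs W)), x₂ (s • v) = s • x₂ v := by
      intro s v
      apply Subtype.ext
      show x ((s : Module.End F V) (v : V)) = (s : Module.End F V) (x (v : V))
      exact (congrArg (fun f : Module.End F V => f (v : V)) (alg_comm_of Zs x hx s.1 s.2)).symm
    have hy₂ : ∀ (s : ↥(alg Zs)) (v : ↥(comp Zs W)), y₂ (s • v) = s • y₂ v := by
      intro s v
      apply Subtype.ext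
      show y ((s : Module.End F V) (v : V)) = (s : Module.End F V) (y (v : V))
      exact (congrArg (fun f : Module.End F V => f (v : V)) (alg_comm_of Zs y hy s.1 s.2)).symm
    intro v hv
    have := comm_of_cyclic (u : ↥(comp Zs W)) hcyc x₂ y₂ hx₂ hy₂ ⟨v, hv⟩
    exact congrArg Subtype.val this

end Cfsg.Agent.Lib.Helper1.FM
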