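import Mathlib
import Cfsg.Agent.Lib.Helper1.FM4
import Cfsg.Agent.Lib.Helper1.Nilpotent
import Cfsg.Agent.Lib.Helper1.ThompsonFPF5

/-! Group-level preparations: the central subgroup modulo the kernel, separation. -/
set_option autoImplicit false
open scoped BigOperators

namespace Cfsg.Agent.Lib.Helper1.FM

variable {F V Γ : Type*} [Field F] [AddCommGroup V] [Module F V] [Group Γ]
variable (ρ : Γ →* Module.End F V)

theorem rho_inv_mul (g : Γ) : ρ g⁻¹ * ρ g = 1 := by rw [← map_mul, inv_mul_cancel, map_one]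

theorem rho_mul_inv (g : Γ) : ρ g * ρ g⁻¹ = 1 := by rw [← map_mul, mul_inv_cancel, map_one]

theorem rho_apply_mul (g h : Γ) (v : V) : ρ (g * h) v = ρ g (ρ h v) := by
  rw [map_mul]
  rfl

theorem rho_inv_apply (g : Γ) (v : V) : ρ g⁻¹ (ρ g v) = v := by
  rw [← rho_apply_mul, inv_mul_cancel, map_one]
  rfl

theorem rho_apply_inv (g : Γ) (v : V) : ρ g (ρ g⁻¹ v) = v := by
  rw [← rho_apply_mul, mul_inv_cancel, map_one]
  rfl

theorem map_rho_mul (U : Submodule F V) (g h : Γ) :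
    U.map (ρ (g * h)) = (U.map (ρ h)).map (ρ g) := by
  rw [map_mul, map_mul_end]

theorem map_rho_one (U : Submodule F V) : U.map (ρ 1) = U := by
  rw [map_one, map_one_end]

theorem map_rho_eq_of_le (U : Submodule F V) (g : Γ) (_h1 : U.map (ρ g) ≤ U)
    (h2 : U.map (ρ g⁻¹) ≤ U) : U.map (ρ g) = U := by
  apply le_antisymm _h1
  have h3 : (U.map (ρ g⁻¹)).map (ρ g) ≤ U.map (ρ g) := Submodule.map_mono h2
  rw [← map_rho_mul, mul_inv_cancel, map_rho_one] at h3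
  exact h3

/-- elements of `K` acting centrally on the image of `K` -/
def Zgrp (K : Subgroup Γ) : Subgroup Γ where
  carrier := {z | z ∈ K ∧ ∀ k ∈ K, ρ z * ρ k = ρ k * ρ z}
  one_mem' := ⟨K.one_mem, fun k _ => by rw [map_one, one_mul, mul_one]⟩
  mul_mem' := by
    rintro a b ⟨ha, ha'⟩ ⟨hb, hb'⟩
    refine ⟨K.mul_mem ha hb, fun k hk => ?_⟩
    rw [map_mul, mul_assoc, hb' k hk, ← mul_assoc, ha' k hk, mul_assoc]
  inv_mem' := by
    rintro a ⟨ha, ha'⟩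
    refine ⟨K.inv_mem ha, fun k hk => ?_⟩
    have h1 := ha' k hk
    calc ρ a⁻¹ * ρ k = ρ a⁻¹ * ρ k * (ρ a * ρ a⁻¹) := by rw [rho_mul_inv, mul_one]
      _ = ρ a⁻¹ * (ρ k * ρ a) * ρ a⁻¹ := by simp only [mul_assoc]
      _ = ρ a⁻¹ * (ρ a * ρ k) * ρ a⁻¹ := by rw [h1]
      _ = (ρ a⁻¹ * ρ a) * ρ k * ρ a⁻¹ := by simp only [mul_assoc]
      _ = ρ k * ρ a⁻¹ := by rw [rho_inv_mul, one_mul]

theorem mem_Zgrp (K : Subgroup Γ) (z : Γ) :
    z ∈ Zgrp ρ K ↔ z ∈ K ∧ ∀ k ∈ K, ρ z * ρ k = ρ k * ρ z := Iff.rfl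

theorem Zgrp_conj (K : Subgroup Γ) [hKn : K.Normal] (g z : Γ) (hz : z ∈ Zgrp ρ K) :
    g * z * g⁻¹ ∈ Zgrp ρ K := by
  refine ⟨hKn.conj_mem z hz.1 g, fun k hk => ?_⟩
  have hk' : g⁻¹ * k * g⁻¹⁻¹ ∈ K := hKn.conj_mem k hk g⁻¹
  have h1 := hz.2 _ hk'
  have e1 : g * z * g⁻¹ * k = g * (z * (g⁻¹ * k * g⁻¹⁻¹)) * g⁻¹ := by group
  have e2 : k * (g * z * g⁻¹) = g * ((g⁻¹ * k * g⁻¹⁻¹) * z) * g⁻¹ := by group
  rw [← map_mul, ← map_mul, e1, e2]
  simp only [map_mul] at h1 ⊢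
  rw [h1]

/-- the operators coming from `Zgrp` -/
def Zset (K : Subgroup Γ) : Set (Module.End F V) := {e | ∃ z ∈ Zgrp ρ K, ρ z = e}

theorem Zset_comm (K : Subgroup Γ) : ∀ a ∈ Zset ρ K, ∀ b ∈ Zset ρ K, a * b = b * a := by
  rintro _ ⟨z, hz, rfl⟩ _ ⟨z', hz', rfl⟩
  exact hz.2 z' hz'.1

theorem Zset_conj (K : Subgroup Γ) [hKn : K.Normal] (g : Γ) :
    ∀ a ∈ Zset ρ K, ρ g * a * ρ g⁻¹ ∈ Zset ρ K := by
  rintro _ ⟨z, hz, rfl⟩
  exact ⟨g * z * g⁻¹, Zgrp_conj ρ K g z hz, by simp only [map_mul]⟩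

theorem Zset_conj' (K : Subgroup Γ) [hKn : K.Normal] (g : Γ) :
    ∀ a ∈ Zset ρ K, ρ g⁻¹ * a * ρ g ∈ Zset ρ K := by
  intro a ha
  have := Zset_conj ρ K g⁻¹ a ha
  rwa [inv_inv] at this

theorem Zset_comm_K (K : Subgroup Γ) (k : Γ) (hk : k ∈ K) :
    ∀ a ∈ Zset ρ K, a * ρ k = ρ k * a := by
  rintro _ ⟨z, hz, rfl⟩
  exact hz.2 k hk

/-- injectivity of `k ↦ (π k π⁻¹)⁻¹ k` on the kernel -/
theorem fpf_map_inj (K : Subgroup Γ) (π : Γ)
    (hπ : ∀ k ∈ K, π * k = k * π → k = 1) (a b : Γ) (ha : a ∈ K) (hb : b ∈ K)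
    (h : (π * a * π⁻¹)⁻¹ * a = (π * b * π⁻¹)⁻¹ * b) : a = b := by
  have e : π * (a * b⁻¹) * π⁻¹ * (a * b⁻¹)⁻¹
      = a * ((π * a * π⁻¹)⁻¹ * a)⁻¹ * ((π * b * π⁻¹)⁻¹ * b) * a⁻¹ := by group
  rw [h, inv_mul_cancel_right, mul_inv_cancel] at e
  have h1 : π * (a * b⁻¹) = (a * b⁻¹) * π := by
    have h2 := mul_inv_eq_one.mp e
    exact mul_inv_eq_iff_eq_mul.mp h2
  have h3 := hπ _ (K.mul_mem ha (K.inv_mem hb)) h1
  exact mul_inv_eq_one.mp h3

/-- separation -/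
theorem sep_lemma [Finite Γ] (K : Subgroup Γ) [hKn : K.Normal] (π : Γ)
    (hπ : ∀ k ∈ K, π * k = k * π → k = 1) (z : Γ) (hz : z ∈ K) (U : Submodule F V)
    (hU : U.map (ρ π) = U) (h : ∀ u ∈ U, ρ (π * z * π⁻¹) u = ρ z u) : ∀ u ∈ U, ρ z u = u := by
  classical
  -- the subgroup acting trivially on U
  let N : Subgroup Γ :=
    { carrier := {n | n ∈ K ∧ ∀ u ∈ U, ρ n u = u}
      one_mem' := ⟨K.one_mem, fun u _ => by rw [map_one]; rfl⟩
      mul_mem' := by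
        rintro a b ⟨ha, ha'⟩ ⟨hb, hb'⟩
        refine ⟨K.mul_mem ha hb, fun u hu => ?_⟩
        rw [rho_apply_mul, hb' u hu, ha' u hu]
      inv_mem' := by
        rintro a ⟨ha, ha'⟩
        refine ⟨K.inv_mem ha, fun u hu => ?_⟩
        have := rho_inv_apply ρ a u
        rw [ha' u hu] at this
        exact this }
  have hUπ : ∀ u ∈ U, ρ π u ∈ U := by
    intro u hu
    rw [← hU]
    exact Submodule.mem_map_of_mem hu
  have hUπ' : ∀ u ∈ U, ρ π⁻¹ u ∈ U := by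
    intro u hu
    rw [← hU] at hu
    obtain ⟨w, hw, rfl⟩ := Submodule.mem_map.mp hu
    rw [rho_inv_apply]
    exact hw
  have hNπ : ∀ n ∈ N, π * n * π⁻¹ ∈ N := by
    rintro n ⟨hn, hn'⟩
    refine ⟨hKn.conj_mem n hn π, fun u hu => ?_⟩
    rw [rho_apply_mul, rho_apply_mul, hn' _ (hUπ' u hu), rho_apply_inv]
  let f : N → N := fun n => ⟨(π * n * π⁻¹)⁻¹ * n, N.mul_mem (N.inv_mem (hNπ n n.2)) n.2⟩
  have hf : Function.Injective f := by
    intro a b hab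
    have h1 : (π * (a : Γ) * π⁻¹)⁻¹ * a = (π * (b : Γ) * π⁻¹)⁻¹ * b := congrArg Subtype.val hab
    exact Subtype.ext (fpf_map_inj K π hπ a b a.2.1 b.2.1 h1)
  have hfs : Function.Surjective f := Finite.surjective_of_injective hf
  have hw : (π * z * π⁻¹)⁻¹ * z ∈ N := by
    refine ⟨K.mul_mem (K.inv_mem (hKn.conj_mem z hz π)) hz, fun u hu => ?_⟩
    rw [rho_apply_mul, ← h u hu, rho_inv_apply]
  obtain ⟨n, hn⟩ := hfs ⟨_, hw⟩
  have h1 : (π * (n : Γ) * π⁻¹)⁻¹ * n = (π * z * π⁻¹)⁻¹ * z := congrArg Subtype.val hn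
  have h2 := fpf_map_inj K π hπ n z n.2.1 hz h1
  intro u hu
  rw [← h2]
  exact n.2.2 u hu

/-- the kernel of a Frobenius group is nilpotent -/
theorem kernel_nilpotent [Finite Γ] (K R : Subgroup Γ) [hKn : K.Normal] (hR : R ≠ ⊥)
    (hfpf : ∀ r ∈ R, r ≠ 1 → ∀ k ∈ K, r * k = k * r → k = 1) : Group.IsNilpotent K := by
  classical
  obtain ⟨r, hr, hr1⟩ : ∃ r ∈ R, r ≠ 1 := by
    by_contra hcon
    apply hR
    rw [eq_bot_iff]
    intro r hr
    rw [Subgroup.mem_bot]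
    by_contra h1
    exact hcon ⟨r, hr, h1⟩
  have hord : orderOf r ≠ 1 := by
    intro h
    exact hr1 (orderOf_eq_one_iff.mp h)
  obtain ⟨p, hp, hpdvd⟩ := Nat.exists_prime_and_dvd hord
  set r' : Γ := r ^ (orderOf r / p) with hr'
  have hr'ord : orderOf r' = p := orderOf_pow_orderOf_div (orderOf_pos r).ne' hpdvd
  have hr'R : r' ∈ R := R.pow_mem hr _
  have hr'1 : r' ≠ 1 := by
    intro h
    rw [h, orderOf_one] at hr'ord
    exact hp.one_lt.ne hr'ord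
  let φ : K ≃* K := MulAut.conjNormal r'
  have hφfpf : MonoidHom.FixedPointFree (φ : K →* K) := by
    intro k hk
    have h1 : ((φ k : K) : Γ) = r' * k * r'⁻¹ := MulAut.conjNormal_apply r' k
    have h2 : ((φ k : K) : Γ) = k := congrArg Subtype.val hk
    rw [h1] at h2
    have h3 : r' * (k : Γ) = k * r' := mul_inv_eq_iff_eq_mul.mp h2
    exact Subtype.ext (hfpf r' hr'R hr'1 k k.2 h3)
  have hφp : φ ^ p = 1 := by
    have h1 : φ ^ p = MulAut.conjNormal (r' ^ p) := (map_pow (MulAut.conjNormal (H := K)) r' p).symm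
    rw [h1, ← hr'ord, pow_orderOf_eq_one, map_one]
  exact Cfsg.Agent.Lib.Helper1.ThompsonFPF.isNilpotent_of_fpf hp _ K rfl φ hφfpf hφp

/-- a nontrivially acting central element -/
theorem exists_Z_nontrivial (K : Subgroup Γ) (hKnil : Group.IsNilpotent K)
    (hne : ∃ k ∈ K, ρ k ≠ 1) : ∃ z ∈ Zgrp ρ K, ρ z ≠ 1 := by
  classical
  let ψ : K →* Module.End F V := ρ.comp K.subtype
  let N : Subgroup K := { carrier := {k | ψ k = 1}
                          one_mem' := map_one ψ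
                          mul_mem' := by
                            intro a b ha hb
                            show ψ (a * b) = 1
                            rw [map_mul, ha, hb, one_mul]
                          inv_mem' := by
                            intro a ha
                            show ψ a⁻¹ = 1
                            have h1 : ψ a⁻¹ * ψ a = 1 := by rw [← map_mul, inv_mul_cancel, map_one]
                            have h2 : ψ a = 1 := ha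
                            rw [h2, mul_one] at h1
                            exact h1 }
  have hNn : N.Normal := by
    constructor
    intro n hn g
    show ψ (g * n * g⁻¹) = 1
    have h2 : ψ n = 1 := hn
    rw [map_mul, map_mul, h2, mul_one, ← map_mul, mul_inv_cancel, map_one]
  have hQnil : Group.IsNilpotent (K ⧸ N) := inferInstance
  have hQnt : Nontrivial (K ⧸ N) := by
    obtain ⟨k, hk, hk1⟩ := hne
    refine ⟨⟨((⟨k, hk⟩ : K) : K ⧸ N), 1, ?_⟩⟩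
    intro h
    rw [QuotientGroup.eq_one_iff] at h
    exact hk1 h
  have hc := normal_inf_center_ne_bot (⊤ : Subgroup (K ⧸ N)) top_ne_bot
  rw [top_inf_eq] at hc
  obtain ⟨q, hq1⟩ := (Subgroup.ne_bot_iff_exists_ne_one).mp hc
  have hq1' : (q : K ⧸ N) ≠ 1 := by
    intro h
    apply hq1
    exact Subtype.ext h
  obtain ⟨z, hz⟩ := QuotientGroup.mk_surjective (q : K ⧸ N)
  have hqc : (q : K ⧸ N) ∈ Subgroup.center (K ⧸ N) := q.2
  rw [Subgroup.mem_center_iff] at hqc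
  refine ⟨(z : Γ), ⟨z.2, fun k hk => ?_⟩, ?_⟩
  · have h1 := hqc ((⟨k, hk⟩ : K) : K ⧸ N)
    rw [← hz, ← QuotientGroup.mk_mul, ← QuotientGroup.mk_mul, QuotientGroup.eq] at h1
    have h2 : ψ ((⟨k, hk⟩ * z)⁻¹ * (z * ⟨k, hk⟩)) = 1 := h1
    have h3 : ψ (z * ⟨k, hk⟩) = ψ (⟨k, hk⟩ * z) * ψ ((⟨k, hk⟩ * z)⁻¹ * (z * ⟨k, hk⟩)) := by
      rw [← map_mul, mul_inv_cancel_left]
    rw [h2, mul_one, map_mul, map_mul] at h3
    exact h3
  · intro h
    apply hq1'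
    rw [← hz, QuotientGroup.eq_one_iff]
    exact h

end Cfsg.Agent.Lib.Helper1.FM
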