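import Mathlib
import Cfsg.Agent.Lib.Helper1.FM2
import Cfsg.Agent.Lib.Helper1.FM5
import Cfsg.Agent.Lib.Helper1.FM6

/-! The free module lemma for irreducible modules of a Frobenius group. -/
set_option autoImplicit false
open scoped BigOperators

namespace Cfsg.Agent.Lib.Helper1.FM

variable {F V Γ : Type*} [Field F] [AddCommGroup V] [Module F V] [Group Γ]
variable (ρ : Γ →* Module.End F V)

theorem comp_translate (K : Subgroup Γ) [K.Normal] (W : Submodule F V) (g : Γ) :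
    comp (Zset ρ K) (W.map (ρ g)) = (comp (Zset ρ K) W).map (ρ g) :=
  comp_map (Zset ρ K) (ρ g) (ρ g⁻¹) (rho_inv_mul ρ g) (rho_mul_inv ρ g) (Zset_conj ρ K g)
    (Zset_conj' ρ K g) W

theorem isMin_translate (K : Subgroup Γ) [K.Normal] (W : Submodule F V)
    (hW : IsMin (Zset ρ K) W) (g : Γ) : IsMin (Zset ρ K) (W.map (ρ g)) :=
  isMin_map (Zset ρ K) (ρ g) (ρ g⁻¹) (rho_inv_mul ρ g) (rho_mul_inv ρ g) (Zset_conj ρ K g)
    (Zset_conj' ρ K g) W hW

theorem comp_K_stable (K : Subgroup Γ) (W : Submodule F V) (k : Γ) (hk : k ∈ K) :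
    (comp (Zset ρ K) W).map (ρ k) = comp (Zset ρ K) W := by
  apply map_rho_eq_of_le
  · rintro _ ⟨v, hv, rfl⟩
    exact comp_inv_of_comm (Zset ρ K) W (ρ k) (Zset_comm_K ρ K k hk) v hv
  · rintro _ ⟨v, hv, rfl⟩
    exact comp_inv_of_comm (Zset ρ K) W (ρ k⁻¹) (Zset_comm_K ρ K k⁻¹ (K.inv_mem hk)) v hv

/-- the stabilizer of a subspace in a subgroup -/
def stab (R : Subgroup Γ) (U : Submodule F V) : Subgroup R where
  carrier := {τ | U.map (ρ (τ : Γ)) = U}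
  one_mem' := by
    show U.map (ρ ((1 : R) : Γ)) = U
    rw [Subgroup.coe_one, map_rho_one]
  mul_mem' := by
    intro a b ha hb
    show U.map (ρ ((a * b : R) : Γ)) = U
    have ha' : U.map (ρ (a : Γ)) = U := ha
    have hb' : U.map (ρ (b : Γ)) = U := hb
    rw [Subgroup.coe_mul, map_rho_mul, hb', ha']
  inv_mem' := by
    intro a ha
    show U.map (ρ ((a⁻¹ : R) : Γ)) = U
    have ha' : U.map (ρ (a : Γ)) = U := ha
    have h1 : U.map (ρ ((a : Γ)⁻¹)) = (U.map (ρ (a : Γ))).map (ρ ((a : Γ)⁻¹)) := by rw [ha']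
    rw [Subgroup.coe_inv, h1, ← map_rho_mul, inv_mul_cancel, map_rho_one]

theorem mem_stab (R : Subgroup Γ) (U : Submodule F V) (τ : R) :
    τ ∈ stab ρ R U ↔ U.map (ρ (τ : Γ)) = U := Iff.rfl

theorem fm_irr [Finite V] [Finite Γ] (K R : Subgroup Γ) [hKn : K.Normal] (hKR : K ⊔ R = ⊤)
    (hR : R ≠ ⊥)
    (hfpf : ∀ r ∈ R, r ≠ 1 → ∀ k ∈ K, r * k = k * r → k = 1)
    (hirr : ∀ U : Submodule F V, (∀ g : Γ, ∀ u ∈ U, ρ g u ∈ U) → U = ⊥ ∨ U = ⊤)
    (hCK : ∀ v : V, (∀ k ∈ K, ρ k v = v) → v = 0) :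
    Nat.card V = Nat.card {v : V // ∀ r ∈ R, ρ r v = v} ^ Nat.card R ∧
    (Nat.card {v : V // ∀ r ∈ R, ρ r v = v} = Nat.card F →
      ∀ k ∈ K, ∀ k' ∈ K, ρ k * ρ k' = ρ k' * ρ k) := by
  classical
  rcases subsingleton_or_nontrivial V with hsub | hnt
  · constructor
    · have h1 : Nat.card V = 1 := Nat.card_of_subsingleton (0 : V)
      have h2 : Nat.card {v : V // ∀ r ∈ R, ρ r v = v} = 1 :=
        Nat.card_of_subsingleton (⟨0, fun r _ => map_zero _⟩ : {v : V // ∀ r ∈ R, ρ r v = v})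
      rw [h1, h2, one_pow]
    · intro _ k _ k' _
      ext v
      exact Subsingleton.elim _ _
  have hKnil := kernel_nilpotent K R hR hfpf
  have hne : ∃ k ∈ K, ρ k ≠ 1 := by
    by_contra hcon
    obtain ⟨v, hv⟩ := exists_ne (0 : V)
    apply hv
    apply hCK
    intro k hk
    have h1 : ρ k = 1 := by
      by_contra h
      exact hcon ⟨k, hk, h⟩
    rw [h1]
    rfl
  obtain ⟨z₀, hz₀, hz₀1⟩ := exists_Z_nontrivial ρ K hKnil hne
  have hZc := Zset_comm ρ K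
  obtain ⟨W, hW⟩ := exists_isMin (Zset ρ K)
  have hV₂ne : comp (Zset ρ K) W ≠ ⊥ := by
    intro h
    apply hW.1
    rw [eq_bot_iff, ← h]
    exact le_comp (Zset ρ K) W
  have htopof : ∀ U : Submodule F V, (∀ g : Γ, ∀ u ∈ U, ρ g u ∈ U) →
      comp (Zset ρ K) W ≤ U → U = ⊤ := by
    intro U hU hle
    rcases hirr U hU with h | h
    · exfalso
      apply hV₂ne
      rw [eq_bot_iff, ← h]
      exact hle
    · exact h
  -- choice of z
  obtain ⟨z, hz, hznt⟩ : ∃ z ∈ Zgrp ρ K, ¬ ∀ v ∈ comp (Zset ρ K) W, ρ z v = v := by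
    by_contra hcon
    have hcon' : ∀ z ∈ Zgrp ρ K, ∀ v ∈ comp (Zset ρ K) W, ρ z v = v := by
      intro z hz
      by_contra h
      exact hcon ⟨z, hz, h⟩
    let U : Submodule F V :=
      { carrier := {v | ∀ z ∈ Zgrp ρ K, ρ z v = v}
        zero_mem' := fun z _ => map_zero _
        add_mem' := by
          intro a b ha hb z hz
          rw [map_add, ha z hz, hb z hz]
        smul_mem' := by
          intro c a ha z hz
          rw [map_smul, ha z hz] }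
    have hU : ∀ g : Γ, ∀ u ∈ U, ρ g u ∈ U := by
      intro g u hu z hz
      have h1 := hu (g⁻¹ * z * g⁻¹⁻¹) (Zgrp_conj ρ K g⁻¹ z hz)
      have e : z * g = g * (g⁻¹ * z * g⁻¹⁻¹) := by group
      rw [← rho_apply_mul, e, rho_apply_mul, h1]
    have hUtop := htopof U hU (fun v hv z hz => hcon' z hz v hv)
    apply hz₀1
    ext v
    have hv : v ∈ U := by
      rw [hUtop]
      exact Submodule.mem_top
    exact hv z₀ hz₀
  -- the stabilizer
  let ρ' : R →* Module.End F V := ρ.comp R.subtype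
  have hρ' : ∀ τ : R, ρ' τ = ρ (τ : Γ) := fun τ => rfl
  let R₂ : Subgroup R := stab ρ R (comp (Zset ρ K) W)
  have hR₂ : ∀ τ ∈ R₂, (comp (Zset ρ K) W).map (ρ' τ) = comp (Zset ρ K) W := fun τ hτ => hτ
  have hTr : ∀ g : Γ, (comp (Zset ρ K) W).map (ρ g) = comp (Zset ρ K) (W.map (ρ g)) :=
    fun g => (comp_translate ρ K W g).symm
  have hind : iSupIndep (fun q : R ⧸ R₂ => (comp (Zset ρ K) W).map (ρ' q.out)) := by
    have h1 : (fun q : R ⧸ R₂ => (comp (Zset ρ K) W).map (ρ' q.out))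
        = (fun q : R ⧸ R₂ => comp (Zset ρ K) (W.map (ρ ((q.out : R) : Γ)))) := by
      funext q
      exact hTr _
    rw [h1]
    apply comp_indep (Zset ρ K) hZc (fun q : R ⧸ R₂ => W.map (ρ ((q.out : R) : Γ)))
      (fun q => isMin_translate ρ K W hW _)
    intro q q' hqq' heq
    apply hqq'
    rw [← hTr, ← hTr] at heq
    have h2 : (q.out)⁻¹ * q'.out ∈ R₂ := by
      show (comp (Zset ρ K) W).map (ρ (((q.out)⁻¹ * q'.out : R) : Γ)) = comp (Zset ρ K) W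
      rw [Subgroup.coe_mul, Subgroup.coe_inv, map_rho_mul, ← heq, ← map_rho_mul, inv_mul_cancel,
        map_rho_one]
    have h3 : ((q.out : R) : R ⧸ R₂) = ((q'.out : R) : R ⧸ R₂) := QuotientGroup.eq.mpr h2
    rwa [QuotientGroup.out_eq', QuotientGroup.out_eq'] at h3
  have htop : ⨆ q : R ⧸ R₂, (comp (Zset ρ K) W).map (ρ' q.out) = ⊤ := by
    have hle : ∀ q : R ⧸ R₂, (comp (Zset ρ K) W).map (ρ' q.out)
        ≤ ⨆ q : R ⧸ R₂, (comp (Zset ρ K) W).map (ρ' q.out) :=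
      fun q => le_iSup (fun q : R ⧸ R₂ => (comp (Zset ρ K) W).map (ρ' q.out)) q
    have hSR : ∀ r ∈ R, (⨆ q : R ⧸ R₂, (comp (Zset ρ K) W).map (ρ' q.out)).map (ρ r)
        ≤ ⨆ q : R ⧸ R₂, (comp (Zset ρ K) W).map (ρ' q.out) := by
      intro r hr
      rw [Submodule.map_iSup]
      apply iSup_le
      intro q
      obtain ⟨s, hs, hsq⟩ : ∃ s ∈ R₂, (⟨r, hr⟩ : R) * q.out = ((⟨r, hr⟩ : R) • q).out * s := by
        refine ⟨(((⟨r, hr⟩ : R) • q).out)⁻¹ * ((⟨r, hr⟩ : R) * q.out), ?_, by group⟩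
        rw [← QuotientGroup.eq, QuotientGroup.out_eq']
        have h1 : ((⟨r, hr⟩ : R) • ((q.out : R) : R ⧸ R₂))
            = (((⟨r, hr⟩ : R) * q.out : R) : R ⧸ R₂) := rfl
        rw [← h1, QuotientGroup.out_eq']
      have h2 : ((comp (Zset ρ K) W).map (ρ' q.out)).map (ρ r)
          = (comp (Zset ρ K) W).map (ρ' ((⟨r, hr⟩ : R) • q).out) := by
        rw [hρ', hρ', ← map_rho_mul]
        have h3 : r * ((q.out : R) : Γ) = ((((⟨r, hr⟩ : R) • q).out : R) : Γ) * (s : Γ) := by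
          have := congrArg (Subtype.val) hsq
          simpa using this
        rw [h3, map_rho_mul]
        have h4 : (comp (Zset ρ K) W).map (ρ (s : Γ)) = comp (Zset ρ K) W := hs
        rw [h4]
      rw [h2]
      exact hle _
    have hSK : ∀ k ∈ K, (⨆ q : R ⧸ R₂, (comp (Zset ρ K) W).map (ρ' q.out)).map (ρ k)
        ≤ ⨆ q : R ⧸ R₂, (comp (Zset ρ K) W).map (ρ' q.out) := by
      intro k hk
      rw [Submodule.map_iSup]
      apply iSup_le
      intro q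
      have h2 : ((comp (Zset ρ K) W).map (ρ' q.out)).map (ρ k)
          = (comp (Zset ρ K) W).map (ρ' q.out) := by
        rw [hρ', ← map_rho_mul]
        have h3 : k * ((q.out : R) : Γ) = ((q.out : R) : Γ) *
            (((q.out : R) : Γ)⁻¹ * k * ((q.out : R) : Γ)⁻¹⁻¹) := by group
        rw [h3, map_rho_mul, comp_K_stable ρ K W _ (hKn.conj_mem k hk _)]
      rw [h2]
      exact hle q
    apply htopof
    · intro g u hu
      have hg : g ∈ K ⊔ R := by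
        rw [hKR]
        exact Subgroup.mem_top g
      rw [← SetLike.mem_coe, Subgroup.normal_mul] at hg
      obtain ⟨k, hk, r, hr, rfl⟩ := Set.mem_mul.mp hg
      rw [rho_apply_mul]
      apply hSK k hk
      apply Submodule.mem_map_of_mem
      apply hSR r hr
      exact Submodule.mem_map_of_mem hu
    · have hq₀out : (((1 : R) : R ⧸ R₂)).out ∈ R₂ := by
        have h1 : (((((1 : R) : R ⧸ R₂)).out : R) : R ⧸ R₂) = ((1 : R) : R ⧸ R₂) :=
          QuotientGroup.out_eq' _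
        rw [QuotientGroup.eq] at h1
        have := R₂.inv_mem h1
        simpa using this
      have := hle ((1 : R) : R ⧸ R₂)
      rwa [hR₂ _ hq₀out] at this
  obtain ⟨hc1, hc2⟩ := induced_count ρ' (comp (Zset ρ K) W) R₂ hR₂ hind htop
  -- the Vandermonde step
  let σ : R₂ →* Module.End F V := ρ'.comp R₂.subtype
  have hσ' : ∀ t : R₂, σ t = ρ ((t : R) : Γ) := fun t => rfl
  have hσ : ∀ t : R₂, ∀ v ∈ comp (Zset ρ K) W, σ t v ∈ comp (Zset ρ K) W := by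
    intro t v hv
    have h1 : (comp (Zset ρ K) W).map (ρ ((t : R) : Γ)) = comp (Zset ρ K) W := t.2
    have h2 : σ t v ∈ (comp (Zset ρ K) W).map (ρ ((t : R) : Γ)) := Submodule.mem_map_of_mem hv
    rwa [h1] at h2
  let c : R₂ → Module.End F V := fun t => ρ (((t : R) : Γ) * z * ((t : R) : Γ)⁻¹)
  have hcE : ∀ t, c t ∈ alg (Zset ρ K) :=
    fun t => Algebra.subset_adjoin ⟨_, Zgrp_conj ρ K _ z hz, rfl⟩
  have hc : ∀ t, σ t * c 1 = c t * σ t := by
    intro t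
    show ρ ((t : R) : Γ) * ρ ((((1 : R₂) : R) : Γ) * z * (((1 : R₂) : R) : Γ)⁻¹)
      = ρ (((t : R) : Γ) * z * ((t : R) : Γ)⁻¹) * ρ ((t : R) : Γ)
    rw [← map_mul, ← map_mul]
    congr 1
    simp
  have hsep : ∀ t s : R₂, t ≠ s → c t - c s ∉ annSet (Zset ρ K) W := by
    intro t s hts hann
    apply hznt
    have h1 : ∀ v ∈ comp (Zset ρ K) W, c t v = c s v := by
      intro v hv
      have := hv _ hann
      rw [LinearMap.sub_apply, sub_eq_zero] at this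
      exact this
    have hπR : ((s : R) : Γ)⁻¹ * ((t : R) : Γ) ∈ R := R.mul_mem (R.inv_mem (s : R).2) (t : R).2
    have hπ1 : ((s : R) : Γ)⁻¹ * ((t : R) : Γ) ≠ 1 := by
      intro h
      apply hts
      have h2 : ((t : R) : Γ) = ((s : R) : Γ) := by
        have := inv_mul_eq_one.mp h
        exact this.symm
      exact Subtype.ext (Subtype.ext h2)
    have hπstab : (comp (Zset ρ K) W).map (ρ (((s : R) : Γ)⁻¹ * ((t : R) : Γ)))
        = comp (Zset ρ K) W := by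
      have h4 : (comp (Zset ρ K) W).map (ρ (((s⁻¹ * t : R₂) : R) : Γ)) = comp (Zset ρ K) W :=
        (s⁻¹ * t : R₂).2
      simpa using h4
    apply sep_lemma ρ K _ (fun k hk => hfpf _ hπR hπ1 k hk) z hz.1 _ hπstab
    intro u hu
    have hsu : ρ ((s : R) : Γ) u ∈ comp (Zset ρ K) W := hσ s u hu
    have e1 : ((s : R) : Γ)⁻¹ * ((t : R) : Γ) * z * (((s : R) : Γ)⁻¹ * ((t : R) : Γ))⁻¹
        = ((s : R) : Γ)⁻¹ * (((t : R) : Γ) * z * ((t : R) : Γ)⁻¹) * ((s : R) : Γ) := by group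
    have e3 : ((s : R) : Γ)⁻¹ * (((s : R) : Γ) * z * ((s : R) : Γ)⁻¹) * ((s : R) : Γ) = z := by
      group
    rw [e1, rho_apply_mul, rho_apply_mul]
    have h5 : ρ (((t : R) : Γ) * z * ((t : R) : Γ)⁻¹) (ρ ((s : R) : Γ) u)
        = ρ (((s : R) : Γ) * z * ((s : R) : Γ)⁻¹) (ρ ((s : R) : Γ) u) := h1 _ hsu
    rw [h5, ← rho_apply_mul, ← rho_apply_mul, e3]
  obtain ⟨hv1, hv2⟩ := vdm_step (Zset ρ K) hZc W hW σ hσ c hcE hc hsep
  have eA : Nat.card {v : V // ∀ r ∈ R, ρ r v = v} = Nat.card {v : V // ∀ τ : R, ρ' τ v = v} :=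
    Nat.card_congr (Equiv.subtypeEquivRight
      (fun v => ⟨fun h τ => h τ τ.2, fun h r hr => h ⟨r, hr⟩⟩))
  have eB : Nat.card {v : V // v ∈ comp (Zset ρ K) W ∧ ∀ τ ∈ R₂, ρ' τ v = v}
      = Nat.card {v : V // v ∈ comp (Zset ρ K) W ∧ ∀ t : R₂, σ t v = v} :=
    Nat.card_congr (Equiv.subtypeEquivRight
      (fun v => ⟨fun h => ⟨h.1, fun t => h.2 t t.2⟩, fun h => ⟨h.1, fun τ hτ => h.2 ⟨τ, hτ⟩⟩⟩))
  have hidx : Nat.card R = Nat.card (R ⧸ R₂) * Nat.card R₂ :=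
    Subgroup.card_eq_card_quotient_mul_card_subgroup R₂
  constructor
  · rw [eA, hc2, eB, hc1, hv1, ← pow_mul, hidx, mul_comm]
  · intro hF k hk k' hk'
    rw [eA, hc2, eB] at hF
    have hcomm := hv2 hF
    let U : Submodule F V :=
      { carrier := {v | ∀ k ∈ K, ∀ k' ∈ K, ρ k (ρ k' v) = ρ k' (ρ k v)}
        zero_mem' := by
          intro k _ k' _
          simp
        add_mem' := by
          intro a b ha hb k hk k' hk'
          rw [map_add, map_add, map_add, map_add, ha k hk k' hk', hb k hk k' hk']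
        smul_mem' := by
          intro c a ha k hk k' hk'
          rw [map_smul, map_smul, map_smul, map_smul, ha k hk k' hk'] }
    have hU : ∀ g : Γ, ∀ u ∈ U, ρ g u ∈ U := by
      intro g u hu k hk k' hk'
      have h1 := hu (g⁻¹ * k * g⁻¹⁻¹) (hKn.conj_mem k hk g⁻¹) (g⁻¹ * k' * g⁻¹⁻¹)
        (hKn.conj_mem k' hk' g⁻¹)
      have e1 : k * k' * g = g * ((g⁻¹ * k * g⁻¹⁻¹) * (g⁻¹ * k' * g⁻¹⁻¹)) := by group
      have e2 : k' * k * g = g * ((g⁻¹ * k' * g⁻¹⁻¹) * (g⁻¹ * k * g⁻¹⁻¹)) := by group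
      calc ρ k (ρ k' (ρ g u)) = ρ (k * k' * g) u := by
            rw [rho_apply_mul ρ (k * k') g u, rho_apply_mul ρ k k' _]
        _ = ρ g (ρ (g⁻¹ * k * g⁻¹⁻¹) (ρ (g⁻¹ * k' * g⁻¹⁻¹) u)) := by
            rw [e1, rho_apply_mul ρ g _ u, rho_apply_mul ρ (g⁻¹ * k * g⁻¹⁻¹) (g⁻¹ * k' * g⁻¹⁻¹) u]
        _ = ρ g (ρ (g⁻¹ * k' * g⁻¹⁻¹) (ρ (g⁻¹ * k * g⁻¹⁻¹) u)) := by rw [h1]
        _ = ρ (k' * k * g) u := by
            rw [e2, rho_apply_mul ρ g _ u, rho_apply_mul ρ (g⁻¹ * k' * g⁻¹⁻¹) (g⁻¹ * k * g⁻¹⁻¹) u]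
        _ = ρ k' (ρ k (ρ g u)) := by
            rw [rho_apply_mul ρ (k' * k) g u, rho_apply_mul ρ k' k _]
    have hUtop := htopof U hU (fun v hv k hk k' hk' =>
      hcomm (ρ k) (ρ k') (Zset_comm_K ρ K k hk) (Zset_comm_K ρ K k' hk') v hv)
    ext v
    have hv : v ∈ U := by
      rw [hUtop]
      exact Submodule.mem_top
    exact hv k hk k' hk'

end Cfsg.Agent.Lib.Helper1.FM
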