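import Mathlib
import Cfsg.Agent.Lib.Helper1.FM7

/-! The free module lemma for irreducible elementary abelian groups with operators. -/
set_option autoImplicit false
open scoped BigOperators

namespace Cfsg.Agent.Lib.Helper1.FM

theorem fm_grp_irr {M Γ : Type*} [CommGroup M] [Finite M] [Group Γ] [Finite Γ]
    (φ : Γ →* Monoid.End M) (ℓ : ℕ) [hℓ : Fact ℓ.Prime] (hexp : ∀ m : M, m ^ ℓ = 1)
    (K R : Subgroup Γ) [hKn : K.Normal] (hKR : K ⊔ R = ⊤) (hR : R ≠ ⊥)
    (hfpf : ∀ r ∈ R, r ≠ 1 → ∀ k ∈ K, r * k = k * r → k = 1)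
    (hirr : ∀ W : Subgroup M, (∀ g : Γ, ∀ w ∈ W, φ g w ∈ W) → W = ⊥ ∨ W = ⊤)
    (hCK : ∀ m : M, (∀ k ∈ K, φ k m = m) → m = 1) :
    Nat.card M = Nat.card {m : M // ∀ r ∈ R, φ r m = m} ^ Nat.card R ∧
    (Nat.card {m : M // ∀ r ∈ R, φ r m = m} = ℓ →
      ∀ k ∈ K, ∀ k' ∈ K, ∀ m : M, φ k (φ k' m) = φ k' (φ k m)) := by
  classical
  have hexpW : ∀ w : Additive M, ℓ • w = 0 := by
    intro w
    exact congrArg Additive.ofMul (hexp (Additive.toMul w))
  let instMod : Module (ZMod ℓ) (Additive M) := AddCommGroup.zmodModule (n := ℓ) hexpW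
  let f : Γ → (Additive M →+ Additive M) := fun g =>
    { toFun := fun v => Additive.ofMul (φ g (Additive.toMul v))
      map_zero' := congrArg Additive.ofMul (map_one (φ g))
      map_add' := fun a b => congrArg Additive.ofMul (map_mul (φ g) _ _) }
  have hf : ∀ (g : Γ) (v : Additive M), f g v = Additive.ofMul (φ g (Additive.toMul v)) :=
    fun g v => rfl
  let ρ : Γ →* Module.End (ZMod ℓ) (Additive M) :=
    { toFun := fun g => (f g).toZModLinearMap ℓ
      map_one' := by
        apply LinearMap.ext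
        intro m
        rw [AddMonoidHom.coe_toZModLinearMap, hf, map_one]
        rfl
      map_mul' := by
        intro a b
        apply LinearMap.ext
        intro m
        rw [Module.End.mul_apply, AddMonoidHom.coe_toZModLinearMap,
          AddMonoidHom.coe_toZModLinearMap, AddMonoidHom.coe_toZModLinearMap, hf, hf, hf, map_mul]
        rfl }
  have hρ : ∀ (g : Γ) (v : Additive M), ρ g v = Additive.ofMul (φ g (Additive.toMul v)) :=
    fun g v => rfl
  have hirr' : ∀ U : Submodule (ZMod ℓ) (Additive M), (∀ g : Γ, ∀ u ∈ U, ρ g u ∈ U) →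
      U = ⊥ ∨ U = ⊤ := by
    intro U hU
    let W : Subgroup M :=
      { carrier := {m | Additive.ofMul m ∈ U}
        one_mem' := U.zero_mem
        mul_mem' := fun ha hb => U.add_mem ha hb
        inv_mem' := fun ha => U.neg_mem ha }
    have hW : ∀ g : Γ, ∀ w ∈ W, φ g w ∈ W := fun g w hw => hU g (Additive.ofMul w) hw
    rcases hirr W hW with h | h
    · left
      rw [eq_bot_iff]
      intro u hu
      have h1 : Additive.toMul u ∈ W := hu
      rw [h, Subgroup.mem_bot] at h1
      rw [Submodule.mem_bot]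
      exact congrArg Additive.ofMul h1
    · right
      rw [eq_top_iff]
      intro u _
      have h1 : Additive.toMul u ∈ W := by
        rw [h]
        exact Subgroup.mem_top _
      exact h1
  have hCK' : ∀ v : Additive M, (∀ k ∈ K, ρ k v = v) → v = 0 := by
    intro v hv
    have h1 := hCK (Additive.toMul v) (fun k hk => congrArg Additive.toMul (hv k hk))
    exact congrArg Additive.ofMul h1
  obtain ⟨h1, h2⟩ := fm_irr ρ K R hKR hR hfpf hirr' hCK'
  have e1 : Nat.card (Additive M) = Nat.card M := Nat.card_congr Additive.toMul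
  have e2 : Nat.card {v : Additive M // ∀ r ∈ R, ρ r v = v}
      = Nat.card {m : M // ∀ r ∈ R, φ r m = m} :=
    Nat.card_congr
      { toFun := fun v => ⟨Additive.toMul v.1, fun r hr => congrArg Additive.toMul (v.2 r hr)⟩
        invFun := fun m => ⟨Additive.ofMul m.1, fun r hr => congrArg Additive.ofMul (m.2 r hr)⟩
        left_inv := fun v => rfl
        right_inv := fun m => rfl }
  have e3 : Nat.card (ZMod ℓ) = ℓ := Nat.card_zmod ℓ
  rw [e1, e2] at h1
  rw [e2, e3] at h2
  refine ⟨h1, ?_⟩
  intro hF k hk k' hk' m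
  have h3 := h2 hF k hk k' hk'
  have h4 := congrArg (fun f : Module.End (ZMod ℓ) (Additive M) => f (Additive.ofMul m)) h3
  exact congrArg Additive.toMul h4

end Cfsg.Agent.Lib.Helper1.FM
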