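import Mathlib
import Cfsg.Agent.Lib.Helper1.FM8

/-! The fixed point formula for a group with operators having no proper invariant normal subgroups. -/
set_option autoImplicit false
open scoped BigOperators commutatorElement

namespace Cfsg.Agent.Lib.Helper1.FM

/-- fixed points of a subgroup of operators -/
def fixedSub {M Γ : Type*} [Group M] [Group Γ] (φ : Γ →* Monoid.End M) (S : Subgroup Γ) :
    Subgroup M where
  carrier := {m | ∀ s ∈ S, φ s m = m}
  one_mem' := fun s _ => map_one (φ s)
  mul_mem' := by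
    intro a b ha hb s hs
    rw [map_mul, ha s hs, hb s hs]
  inv_mem' := by
    intro a ha s hs
    rw [map_inv, ha s hs]

theorem mem_fixedSub {M Γ : Type*} [Group M] [Group Γ] (φ : Γ →* Monoid.End M) (S : Subgroup Γ)
    (m : M) : m ∈ fixedSub φ S ↔ ∀ s ∈ S, φ s m = m := Iff.rfl

theorem end_mul_apply' {M Γ : Type*} [Group M] [Group Γ] (φ : Γ →* Monoid.End M) (a b : Γ)
    (m : M) : φ (a * b) m = φ a (φ b m) := by
  rw [map_mul]
  rfl

theorem fm_grp_simple {M Γ : Type*} [Group M] [Finite M] [Group Γ] [Finite Γ]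
    (φ : Γ →* Monoid.End M) (K R : Subgroup Γ) [hKn : K.Normal] (hKR : K ⊔ R = ⊤) (hR : R ≠ ⊥)
    (hfpf : ∀ r ∈ R, r ≠ 1 → ∀ k ∈ K, r * k = k * r → k = 1)
    (hsolv : Group.IsSolvable M)
    (hsimple : ∀ W : Subgroup M, W.Normal → (∀ g : Γ, ∀ w ∈ W, φ g w ∈ W) → W = ⊥ ∨ W = ⊤) :
    Nat.card (fixedSub φ ⊤) ^ Nat.card R * Nat.card M
      = Nat.card (fixedSub φ R) ^ Nat.card R * Nat.card (fixedSub φ K) ∧
    (IsCyclic (fixedSub φ R) → ∀ k ∈ K, ∀ k' ∈ K, ∀ m : M, φ k (φ k' m) = φ k' (φ k m)) := by
  classical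
  rcases subsingleton_or_nontrivial M with hsub | hnt
  · constructor
    · have h1 : Nat.card M = 1 := Nat.card_of_subsingleton (1 : M)
      have h2 : ∀ S : Subgroup Γ, Nat.card (fixedSub φ S) = 1 :=
        fun S => Nat.card_of_subsingleton (1 : fixedSub φ S)
      rw [h1, h2, h2, h2]
    · intro _ k _ k' _ m
      exact Subsingleton.elim _ _
  -- M is abelian
  have hcinv : ∀ g : Γ, ∀ w ∈ commutator M, φ g w ∈ commutator M := by
    intro g w hw
    rw [commutator_eq_closure] at hw ⊢
    induction hw using Subgroup.closure_induction with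
    | mem x hx =>
      obtain ⟨a, b, rfl⟩ := hx
      rw [map_commutatorElement]
      exact Subgroup.subset_closure ⟨_, _, rfl⟩
    | one => rw [map_one]; exact Subgroup.one_mem _
    | mul x y _ _ hx hy => rw [map_mul]; exact Subgroup.mul_mem _ hx hy
    | inv x _ hx => rw [map_inv]; exact Subgroup.inv_mem _ hx
  have hcomm : ∀ a b : M, a * b = b * a := by
    have h1 : commutator M = ⊥ := by
      rcases hsimple (commutator M) inferInstance hcinv with h | h
      · exact h
      · exfalso
        have := Group.IsSolvable.commutator_lt_top_of_nontrivial M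
        rw [h] at this
        exact lt_irrefl _ this
    intro a b
    have h2 : ⁅a, b⁆ ∈ commutator M := by
      rw [commutator_eq_closure]
      exact Subgroup.subset_closure ⟨a, b, rfl⟩
    rw [h1, Subgroup.mem_bot] at h2
    exact commutatorElement_eq_one_iff_mul_comm.mp h2
  have hnormal : ∀ W : Subgroup M, W.Normal := by
    intro W
    constructor
    intro n hn g
    rw [hcomm g n, mul_inv_cancel_right]
    exact hn
  -- exponent
  have hcard : Nat.card M ≠ 1 := by
    intro h
    have := (Nat.card_eq_one_iff_unique.mp h).1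
    exact not_subsingleton M this
  obtain ⟨ℓ, hℓ, hℓdvd⟩ := Nat.exists_prime_and_dvd hcard
  have hℓF : Fact ℓ.Prime := ⟨hℓ⟩
  obtain ⟨x, hx⟩ := exists_prime_orderOf_dvd_card' ℓ hℓdvd
  have hexp : ∀ m : M, m ^ ℓ = 1 := by
    let Wℓ : Subgroup M :=
      { carrier := {m | m ^ ℓ = 1}
        one_mem' := one_pow ℓ
        mul_mem' := by
          intro a b ha hb
          show (a * b) ^ ℓ = 1
          have ha' : a ^ ℓ = 1 := ha
          have hb' : b ^ ℓ = 1 := hb
          have hc : Commute a b := hcomm a b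
          rw [hc.mul_pow, ha', hb', one_mul]
        inv_mem' := by
          intro a ha
          show a⁻¹ ^ ℓ = 1
          have ha' : a ^ ℓ = 1 := ha
          rw [inv_pow, ha', inv_one] }
    have hWinv : ∀ g : Γ, ∀ w ∈ Wℓ, φ g w ∈ Wℓ := by
      intro g w hw
      show (φ g w) ^ ℓ = 1
      have hw' : w ^ ℓ = 1 := hw
      rw [← map_pow, hw', map_one]
    rcases hsimple Wℓ (hnormal Wℓ) hWinv with h | h
    · exfalso
      have hxW : x ∈ Wℓ := by
        show x ^ ℓ = 1
        rw [← hx]
        exact pow_orderOf_eq_one x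
      rw [h, Subgroup.mem_bot] at hxW
      rw [hxW, orderOf_one] at hx
      exact hℓ.one_lt.ne hx
    · intro m
      have : m ∈ Wℓ := by
        rw [h]
        exact Subgroup.mem_top m
      exact this
  -- the fixed points of K
  have hCKinv : ∀ g : Γ, ∀ w ∈ fixedSub φ K, φ g w ∈ fixedSub φ K := by
    intro g w hw k hk
    have h1 := hw (g⁻¹ * k * g⁻¹⁻¹) (hKn.conj_mem k hk g⁻¹)
    have e : k * g = g * (g⁻¹ * k * g⁻¹⁻¹) := by group
    rw [← end_mul_apply', e, end_mul_apply', h1]
  have hfixtop : ∀ m : M, (∀ k ∈ K, φ k m = m) → (∀ r ∈ R, φ r m = m) → ∀ g : Γ, φ g m = m := by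
    intro m hk hr g
    have hg : g ∈ K ⊔ R := by
      rw [hKR]
      exact Subgroup.mem_top g
    rw [← SetLike.mem_coe, Subgroup.normal_mul] at hg
    obtain ⟨k, hkK, r, hrR, rfl⟩ := Set.mem_mul.mp hg
    rw [end_mul_apply', hr r hrR, hk k hkK]
  rcases hsimple (fixedSub φ K) (hnormal _) hCKinv with hCK | hCK
  · -- fixed point free action of K
    have hCK' : ∀ m : M, (∀ k ∈ K, φ k m = m) → m = 1 := by
      intro m hm
      have : m ∈ fixedSub φ K := hm
      rw [hCK, Subgroup.mem_bot] at this
      exact this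
    let instC : CommGroup M := { (inferInstance : Group M) with mul_comm := hcomm }
    have hirr : ∀ W : Subgroup M, (∀ g : Γ, ∀ w ∈ W, φ g w ∈ W) → W = ⊥ ∨ W = ⊤ :=
      fun W hW => hsimple W (hnormal W) hW
    obtain ⟨h1, h2⟩ := @fm_grp_irr M Γ instC _ _ _ φ ℓ hℓF hexp K R hKn hKR hR hfpf hirr hCK'
    have e1 : Nat.card {m : M // ∀ r ∈ R, φ r m = m} = Nat.card (fixedSub φ R) := rfl
    have e2 : fixedSub φ ⊤ = ⊥ := by
      rw [eq_bot_iff]
      intro m hm
      rw [Subgroup.mem_bot]
      exact hCK' m (fun k _ => hm k (Subgroup.mem_top k))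
    rw [e1] at h1 h2
    constructor
    · rw [e2, hCK, Subgroup.card_bot, one_pow, one_mul, mul_one]
      exact h1
    · intro hcyc k hk k' hk' m
      -- the order of the fixed point group divides ℓ
      obtain ⟨g, hg⟩ := hcyc.exists_generator
      have h3 : orderOf g = Nat.card (fixedSub φ R) := orderOf_eq_card_of_forall_mem_zpowers hg
      have h4 : orderOf g ∣ ℓ := by
        apply orderOf_dvd_of_pow_eq_one
        apply Subtype.ext
        rw [Subgroup.coe_pow]
        exact hexp _
      rw [h3] at h4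
      rcases (Nat.dvd_prime hℓ).mp h4 with h5 | h5
      · exfalso
        rw [h5, one_pow] at h1
        exact hcard h1
      · exact h2 h5 k hk k' hk' m
  · -- K acts trivially
    have hKtriv : ∀ m : M, ∀ k ∈ K, φ k m = m := by
      intro m
      have : m ∈ fixedSub φ K := by
        rw [hCK]
        exact Subgroup.mem_top m
      exact this
    have e1 : fixedSub φ ⊤ = fixedSub φ R := by
      apply le_antisymm
      · intro m hm r _
        exact hm r (Subgroup.mem_top r)
      · intro m hm g _
        exact hfixtop m (hKtriv m) hm g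
    constructor
    · rw [e1, hCK, Subgroup.card_top]
    · intro _ k hk k' hk' m
      rw [hKtriv m k' hk', hKtriv m k hk, hKtriv m k' hk']

end Cfsg.Agent.Lib.Helper1.FM
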