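import Mathlib

/-! Maschke's theorem for coprime actions on finite abelian groups (multiplicative form). -/
set_option autoImplicit false
universe u v
open scoped commutatorElement Pointwise

namespace Cfsg.Agent.Lib.Helper1

/-- Maschke for coprime actions on finite abelian groups: invariant complemented subgroups have
invariant complements. -/
theorem maschke_comm {V : Type u} {A : Type v} [CommGroup V] [Finite V] [Group A] [Finite A]
    (ρ : A →* Monoid.End V) (hcop : (Nat.card A).Coprime (Nat.card V)) (U W : Subgroup V)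
    (hU : ∀ a, ∀ u ∈ U, ρ a u ∈ U) (hUW : U ⊓ W = ⊥) (hUW' : U ⊔ W = ⊤) :
    ∃ W' : Subgroup V, (∀ a, ∀ w ∈ W', ρ a w ∈ W') ∧ U ⊓ W' = ⊥ ∧ U ⊔ W' = ⊤ := by
  cases nonempty_fintype A
  -- the projection θ
  let f : U × W →* V := MonoidHom.coprod U.subtype W.subtype
  have hf : Function.Bijective f := by
    constructor
    · rw [← MonoidHom.ker_eq_bot_iff, eq_bot_iff]
      rintro ⟨u, w⟩ huw
      rw [MonoidHom.mem_ker] at huw
      have h1 : (u : V) * (w : V) = 1 := huw
      have h2 : (u : V) ∈ U ⊓ W := by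
        refine Subgroup.mem_inf.mpr ⟨u.2, ?_⟩
        rw [eq_inv_of_mul_eq_one_left h1]
        exact W.inv_mem w.2
      rw [hUW, Subgroup.mem_bot] at h2
      rw [h2, one_mul] at h1
      rw [Subgroup.mem_bot]
      exact Prod.ext (Subtype.ext h2) (Subtype.ext h1)
    · intro v
      have hv : v ∈ U ⊔ W := by rw [hUW']; exact Subgroup.mem_top v
      rw [Subgroup.mem_sup] at hv
      obtain ⟨u, hu, w, hw, rfl⟩ := hv
      exact ⟨(⟨u, hu⟩, ⟨w, hw⟩), rfl⟩
  let e : U × W ≃* V := MulEquiv.ofBijective f hf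
  let θ : V →* V := U.subtype.comp ((MonoidHom.fst U W).comp e.symm.toMonoidHom)
  have hθU : ∀ v, θ v ∈ U := fun v => ((e.symm v).1).2
  have hθu : ∀ u ∈ U, θ u = u := by
    intro u hu
    have h1 : e (⟨u, hu⟩, 1) = u := by
      show (u : V) * ((1 : W) : V) = u
      rw [Subgroup.coe_one, mul_one]
    have h2 : e.symm u = (⟨u, hu⟩, 1) := by
      apply e.injective
      rw [e.apply_symm_apply, h1]
    show ((e.symm u).1 : V) = u
    rw [h2]
  have hρmul : ∀ a b v, ρ (a * b) v = ρ a (ρ b v) := by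
    intro a b v
    rw [map_mul]; rfl
  have hρone : ∀ v, ρ 1 v = v := by
    intro v
    rw [map_one]; rfl
  let φ : V →* V :=
    { toFun := fun v => ∏ a : A, ρ a (θ (ρ a⁻¹ v))
      map_one' := by
        simp only [map_one]
        exact Finset.prod_const_one
      map_mul' := by
        intro v w
        simp only [map_mul]
        exact Finset.prod_mul_distrib }
  have hφ : ∀ v, φ v = ∏ a : A, ρ a (θ (ρ a⁻¹ v)) := fun v => rfl
  have hφU : ∀ v, φ v ∈ U := by
    intro v
    rw [hφ]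
    exact Subgroup.prod_mem _ (fun a _ => hU a _ (hθU _))
  have hφu : ∀ u ∈ U, φ u = u ^ Nat.card A := by
    intro u hu
    rw [hφ]
    have : ∀ a : A, ρ a (θ (ρ a⁻¹ u)) = u := by
      intro a
      rw [hθu _ (hU a⁻¹ u hu), ← hρmul, mul_inv_cancel, hρone]
    simp only [this]
    rw [Finset.prod_const, Finset.card_univ, Nat.card_eq_fintype_card]
  have hφρ : ∀ b v, φ (ρ b v) = ρ b (φ v) := by
    intro b v
    rw [hφ, hφ, map_prod]
    apply Fintype.prod_equiv (Equiv.mulLeft b⁻¹)
    intro a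
    show ρ a (θ (ρ a⁻¹ (ρ b v))) = ρ b (ρ (b⁻¹ * a) (θ (ρ (b⁻¹ * a)⁻¹ v)))
    rw [← hρmul b, ← hρmul a⁻¹ b]
    congr 3
    · group
    · group
  refine ⟨φ.ker, ?_, ?_, ?_⟩
  · intro a w hw
    rw [MonoidHom.mem_ker] at hw ⊢
    rw [hφρ, hw, map_one]
  · rw [eq_bot_iff]
    intro u hu
    obtain ⟨hu1, hu2⟩ := Subgroup.mem_inf.mp hu
    rw [MonoidHom.mem_ker, hφu u hu1] at hu2
    have h1 : orderOf u ∣ Nat.card A := orderOf_dvd_of_pow_eq_one hu2
    have h2 : orderOf u ∣ Nat.card V := orderOf_dvd_natCard u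
    have h3 : orderOf u = 1 := Nat.eq_one_of_dvd_coprimes hcop h1 h2
    rw [Subgroup.mem_bot]
    exact orderOf_eq_one_iff.mp h3
  · rw [eq_top_iff]
    intro v _
    have hcopU : (Nat.card U).Coprime (Nat.card A) :=
      (Nat.Coprime.coprime_dvd_right (Subgroup.card_subgroup_dvd_card U) hcop).symm
    obtain ⟨u, hu⟩ := (powCoprime hcopU).surjective ⟨φ v, hφU v⟩
    have hu' : (u : V) ^ Nat.card A = φ v := by
      have := congrArg Subtype.val hu
      simpa using this
    have h1 : φ ((u : V)⁻¹ * v) = 1 := by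
      rw [map_mul, map_inv, hφu _ u.2, hu', inv_mul_cancel]
    have e1 : v = (u : V) * ((u : V)⁻¹ * v) := by group
    rw [e1]
    exact Subgroup.mul_mem_sup u.2 (MonoidHom.mem_ker.mpr h1)

end Cfsg.Agent.Lib.Helper1
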