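import Mathlib
import Cfsg.Agent.Lib.Helper1.Maschke

/-! Invariant complements under coprime action, for subgroups of an ambient group. -/
set_option autoImplicit false
universe u v
open scoped commutatorElement Pointwise

namespace Cfsg.Agent.Lib.Helper1
variable {G : Type u} [Group G]

/-- Conjugation by elements of `A ≤ N_G(V)` as endomorphisms of `V`. -/
def conjEnd (V A : Subgroup G) (hAV : A ≤ Subgroup.normalizer (V : Set G)) : A →* Monoid.End V where
  toFun a :=
    { toFun := fun v => ⟨(a : G) * v * (a : G)⁻¹, (Subgroup.mem_normalizer_iff.mp (hAV a.2) v).mp v.2⟩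
      map_one' := by
        apply Subtype.ext
        simp
      map_mul' := by
        intro v w
        apply Subtype.ext
        simp only [Subgroup.coe_mul]
        group }
  map_one' := by
    apply MonoidHom.ext
    intro v
    apply Subtype.ext
    show ((1 : A) : G) * v * ((1 : A) : G)⁻¹ = v
    simp
  map_mul' := by
    intro a b
    apply MonoidHom.ext
    intro v
    apply Subtype.ext
    show ((a * b : A) : G) * v * ((a * b : A) : G)⁻¹ = (a : G) * ((b : G) * v * (b : G)⁻¹) * (a : G)⁻¹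
    simp only [Subgroup.coe_mul]
    group

theorem conjEnd_apply (V A : Subgroup G) (hAV : A ≤ Subgroup.normalizer (V : Set G)) (a : A) (v : V) :
    ((conjEnd V A hAV a v : V) : G) = (a : G) * v * (a : G)⁻¹ := rfl

open scoped IsMulCommutative in
theorem coprime_invariant_complement [Finite G] (V A U : Subgroup G) (hVab : IsMulCommutative V)
    (hAV : A ≤ Subgroup.normalizer (V : Set G)) (hcop : (Nat.card A).Coprime (Nat.card V))
    (hUV : U ≤ V) (hAU : A ≤ Subgroup.normalizer (U : Set G)) (W : Subgroup G) (hWV : W ≤ V)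
    (hUW : U ⊓ W = ⊥) (hUWV : U ⊔ W = V) :
    ∃ W' : Subgroup G, W' ≤ V ∧ A ≤ Subgroup.normalizer (W' : Set G) ∧ U ⊓ W' = ⊥ ∧ U ⊔ W' = V := by
  have h1 : U.subgroupOf V ⊓ W.subgroupOf V = ⊥ := by
    rw [eq_bot_iff]
    intro x hx
    obtain ⟨hx1, hx2⟩ := Subgroup.mem_inf.mp hx
    rw [Subgroup.mem_subgroupOf] at hx1 hx2
    have : (x : G) ∈ U ⊓ W := Subgroup.mem_inf.mpr ⟨hx1, hx2⟩
    rw [hUW, Subgroup.mem_bot] at this
    rw [Subgroup.mem_bot]
    exact Subtype.ext this
  have h2 : U.subgroupOf V ⊔ W.subgroupOf V = ⊤ := by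
    rw [← Subgroup.subgroupOf_sup hUV hWV, hUWV, Subgroup.subgroupOf_self]
  have h3 : ∀ a : A, ∀ u ∈ U.subgroupOf V, conjEnd V A hAV a u ∈ U.subgroupOf V := by
    intro a u hu
    rw [Subgroup.mem_subgroupOf] at hu ⊢
    rw [conjEnd_apply]
    exact (Subgroup.mem_normalizer_iff.mp (hAU a.2) _).mp hu
  obtain ⟨W', hW'inv, hW'1, hW'2⟩ := maschke_comm (conjEnd V A hAV) hcop _ _ h3 h1 h2
  refine ⟨W'.map V.subtype, Subgroup.map_subtype_le _, ?_, ?_, ?_⟩
  · intro a ha
    have key : ∀ b ∈ A, ∀ x ∈ W'.map V.subtype, b * x * b⁻¹ ∈ W'.map V.subtype := by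
      rintro b hb _ ⟨w, hw, rfl⟩
      exact ⟨conjEnd V A hAV ⟨b, hb⟩ w, hW'inv ⟨b, hb⟩ w hw, rfl⟩
    rw [Subgroup.mem_normalizer_iff]
    intro x
    constructor
    · exact key a ha x
    · intro hx
      have := key a⁻¹ (A.inv_mem ha) _ hx
      have e : a⁻¹ * (a * x * a⁻¹) * a⁻¹⁻¹ = x := by group
      rw [e] at this
      exact this
  · rw [eq_bot_iff]
    rintro x hx
    obtain ⟨hx1, ⟨w, hw, rfl⟩⟩ := Subgroup.mem_inf.mp hx
    have : w ∈ U.subgroupOf V ⊓ W' := Subgroup.mem_inf.mpr ⟨Subgroup.mem_subgroupOf.mpr hx1, hw⟩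
    rw [hW'1, Subgroup.mem_bot] at this
    rw [this]
    exact Subgroup.one_mem _
  · have h4 := congrArg (Subgroup.map V.subtype) hW'2
    rw [Subgroup.map_sup, Subgroup.map_subgroupOf_eq_of_le hUV, ← MonoidHom.range_eq_map,
      Subgroup.range_subtype] at h4
    exact h4

end Cfsg.Agent.Lib.Helper1
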