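import Mathlib
import Cfsg.Agent.Lib.Helper1.FM8
import Cfsg.Agent.Lib.Helper1.MaschkeSubgroup

/-! The free module lemma for irreducible elementary abelian sections inside an ambient group. -/
set_option autoImplicit false
open scoped BigOperators commutatorElement

namespace Cfsg.Agent.Lib.Helper1.FM

theorem mem_normalizer_of_conj {X : Type*} [Group X] (A W : Subgroup X)
    (h : ∀ a ∈ A, ∀ w ∈ W, a * w * a⁻¹ ∈ W) : A ≤ Subgroup.normalizer (W : Set X) := by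
  intro a ha
  rw [Subgroup.mem_normalizer_iff]
  intro x
  constructor
  · exact h a ha x
  · intro hx
    have := h a⁻¹ (A.inv_mem ha) _ hx
    have e : a⁻¹ * (a * x * a⁻¹) * a⁻¹⁻¹ = x := by group
    rw [e] at this
    exact this

theorem conj_mem_of_le_normalizer {X : Type*} [Group X] (A W : Subgroup X)
    (h : A ≤ Subgroup.normalizer (W : Set X)) : ∀ a ∈ A, ∀ w ∈ W, a * w * a⁻¹ ∈ W :=
  fun _ ha w hw => (Subgroup.mem_normalizer_iff.mp (h ha) w).mp hw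

theorem fm_sub_irr {X : Type*} [Group X] [Finite X] (K R V : Subgroup X) (ℓ : ℕ)
    [hℓ : Fact ℓ.Prime]
    (hVc : ∀ a ∈ V, ∀ b ∈ V, a * b = b * a) (hVℓ : ∀ a ∈ V, a ^ ℓ = 1)
    (hR : R ≠ ⊥) (hRK : R ≤ Subgroup.normalizer (K : Set X))
    (hfpf : ∀ r ∈ R, r ≠ 1 → ∀ k ∈ K, r * k = k * r → k = 1)
    (hKV : K ≤ Subgroup.normalizer (V : Set X)) (hRV : R ≤ Subgroup.normalizer (V : Set X))
    (hirr : ∀ W : Subgroup X, W ≤ V → K ≤ Subgroup.normalizer (W : Set X) →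
      R ≤ Subgroup.normalizer (W : Set X) → W = ⊥ ∨ W = V)
    (hCK : V ⊓ Subgroup.centralizer (K : Set X) = ⊥) :
    Nat.card V = Nat.card ↥(V ⊓ Subgroup.centralizer (R : Set X)) ^ Nat.card R ∧
    (Nat.card ↥(V ⊓ Subgroup.centralizer (R : Set X)) = ℓ →
      ⁅K, K⁆ ≤ Subgroup.centralizer (V : Set X)) := by
  classical
  have hLV : K ⊔ R ≤ Subgroup.normalizer (V : Set X) := sup_le hKV hRV
  let instC : CommGroup V :=
    { (inferInstance : Group V) with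
      mul_comm := fun a b => Subtype.ext (hVc a a.2 b b.2) }
  let φ : ↥(K ⊔ R) →* Monoid.End V := conjEnd V (K ⊔ R) hLV
  have hφ : ∀ (g : ↥(K ⊔ R)) (v : V), ((φ g v : V) : X) = (g : X) * v * (g : X)⁻¹ :=
    fun g v => rfl
  have hexp : ∀ m : V, m ^ ℓ = 1 := by
    intro m
    apply Subtype.ext
    rw [Subgroup.coe_pow]
    exact hVℓ m m.2
  have hK'n : (K.subgroupOf (K ⊔ R)).Normal :=
    (Subgroup.normal_subgroupOf_iff_le_normalizer le_sup_left).mpr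
      (sup_le Subgroup.le_normalizer hRK)
  have hK'R' : K.subgroupOf (K ⊔ R) ⊔ R.subgroupOf (K ⊔ R) = ⊤ := by
    rw [← Subgroup.subgroupOf_sup le_sup_left le_sup_right, Subgroup.subgroupOf_self]
  have hR' : R.subgroupOf (K ⊔ R) ≠ ⊥ := by
    intro h
    apply hR
    rw [eq_bot_iff]
    intro r hr
    have h1 : (⟨r, (le_sup_right : R ≤ K ⊔ R) hr⟩ : ↥(K ⊔ R)) ∈ R.subgroupOf (K ⊔ R) := by
      rw [Subgroup.mem_subgroupOf]
      exact hr
    rw [h, Subgroup.mem_bot] at h1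
    rw [Subgroup.mem_bot]
    exact congrArg Subtype.val h1
  have hfpf' : ∀ r ∈ R.subgroupOf (K ⊔ R), r ≠ 1 → ∀ k ∈ K.subgroupOf (K ⊔ R),
      r * k = k * r → k = 1 := by
    intro r hr hr1 k hk hrk
    rw [Subgroup.mem_subgroupOf] at hr hk
    have h1 : (r : X) ≠ 1 := by
      intro h
      apply hr1
      exact Subtype.ext h
    have h2 : (r : X) * (k : X) = (k : X) * (r : X) := by
      have := congrArg Subtype.val hrk
      simpa using this
    exact Subtype.ext (hfpf r hr h1 k hk h2)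
  have hirr' : ∀ W : Subgroup V, (∀ g : ↥(K ⊔ R), ∀ w ∈ W, φ g w ∈ W) → W = ⊥ ∨ W = ⊤ := by
    intro W hW
    have hconj : ∀ a ∈ K ⊔ R, ∀ x ∈ W.map V.subtype, a * x * a⁻¹ ∈ W.map V.subtype := by
      rintro a ha _ ⟨w, hw, rfl⟩
      exact ⟨φ ⟨a, ha⟩ w, hW ⟨a, ha⟩ w hw, rfl⟩
    have hnorm : K ⊔ R ≤ Subgroup.normalizer ((W.map V.subtype : Subgroup X) : Set X) :=
      mem_normalizer_of_conj _ _ hconj
    rcases hirr (W.map V.subtype) (Subgroup.map_subtype_le W) (le_sup_left.trans hnorm)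
      (le_sup_right.trans hnorm) with h | h
    · left
      exact (Subgroup.map_eq_bot_iff_of_injective W V.subtype_injective).mp h
    · right
      rw [eq_top_iff]
      intro v _
      have h1 : (v : X) ∈ W.map V.subtype := by
        rw [h]
        exact v.2
      obtain ⟨w, hw, hwv⟩ := h1
      have : w = v := Subtype.ext hwv
      rw [← this]
      exact hw
  have hCK' : ∀ m : V, (∀ k ∈ K.subgroupOf (K ⊔ R), φ k m = m) → m = 1 := by
    intro m hm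
    have h1 : (m : X) ∈ V ⊓ Subgroup.centralizer (K : Set X) := by
      refine Subgroup.mem_inf.mpr ⟨m.2, ?_⟩
      rw [Subgroup.mem_centralizer_iff]
      intro k hk
      have h2 := hm ⟨k, (le_sup_left : K ≤ K ⊔ R) hk⟩ (by rw [Subgroup.mem_subgroupOf]; exact hk)
      have h3 := congrArg Subtype.val h2
      rw [hφ] at h3
      exact mul_inv_eq_iff_eq_mul.mp h3
    rw [hCK, Subgroup.mem_bot] at h1
    exact Subtype.ext h1
  obtain ⟨h1, h2⟩ := fm_grp_irr φ ℓ hexp (K.subgroupOf (K ⊔ R)) (R.subgroupOf (K ⊔ R)) hK'R' hR'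
    hfpf' hirr' hCK'
  have e1 : Nat.card (R.subgroupOf (K ⊔ R)) = Nat.card R :=
    Nat.card_congr (Subgroup.subgroupOfEquivOfLe (le_sup_right : R ≤ K ⊔ R)).toEquiv
  have e2 : Nat.card {m : V // ∀ r ∈ R.subgroupOf (K ⊔ R), φ r m = m}
      = Nat.card ↥(V ⊓ Subgroup.centralizer (R : Set X)) :=
    Nat.card_congr
      { toFun := fun m => ⟨(m.1 : X), Subgroup.mem_inf.mpr ⟨m.1.2, by
          rw [Subgroup.mem_centralizer_iff]
          intro r hr
          have h2 := m.2 ⟨r, (le_sup_right : R ≤ K ⊔ R) hr⟩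
            (by rw [Subgroup.mem_subgroupOf]; exact hr)
          have h3 := congrArg Subtype.val h2
          rw [hφ] at h3
          exact mul_inv_eq_iff_eq_mul.mp h3⟩⟩
        invFun := fun x => ⟨⟨(x : X), (Subgroup.mem_inf.mp x.2).1⟩, by
          intro r hr
          rw [Subgroup.mem_subgroupOf] at hr
          apply Subtype.ext
          rw [hφ]
          have h3 := Subgroup.mem_centralizer_iff.mp (Subgroup.mem_inf.mp x.2).2 (r : X) hr
          exact mul_inv_eq_iff_eq_mul.mpr h3⟩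
        left_inv := fun m => rfl
        right_inv := fun x => rfl }
  rw [e1, e2] at h1
  rw [e2] at h2
  refine ⟨h1, ?_⟩
  intro hF
  have h3 := h2 hF
  rw [Subgroup.commutator_le]
  intro k hk k' hk'
  rw [Subgroup.mem_centralizer_iff]
  intro v hv
  have hkV := conj_mem_of_le_normalizer K V hKV
  have hu : k⁻¹ * (k'⁻¹ * v * k'⁻¹⁻¹) * k⁻¹⁻¹ ∈ V :=
    hkV _ (K.inv_mem hk) _ (hkV _ (K.inv_mem hk') v hv)
  have h4 := h3 ⟨k, (le_sup_left : K ≤ K ⊔ R) hk⟩ (by rw [Subgroup.mem_subgroupOf]; exact hk)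
    ⟨k', (le_sup_left : K ≤ K ⊔ R) hk'⟩ (by rw [Subgroup.mem_subgroupOf]; exact hk')
    ⟨_, hu⟩
  have h5 := congrArg Subtype.val h4
  rw [hφ, hφ, hφ, hφ] at h5
  have h6 : k * (k' * (k⁻¹ * (k'⁻¹ * v * k'⁻¹⁻¹) * k⁻¹⁻¹) * k'⁻¹) * k⁻¹
      = k' * (k * (k⁻¹ * (k'⁻¹ * v * k'⁻¹⁻¹) * k⁻¹⁻¹) * k⁻¹) * k'⁻¹ := h5
  have e3 : k * (k' * (k⁻¹ * (k'⁻¹ * v * k'⁻¹⁻¹) * k⁻¹⁻¹) * k'⁻¹) * k⁻¹ = ⁅k, k'⁆ * v * ⁅k, k'⁆⁻¹ := by
    rw [commutatorElement_def]
    group
  have e4 : k' * (k * (k⁻¹ * (k'⁻¹ * v * k'⁻¹⁻¹) * k⁻¹⁻¹) * k⁻¹) * k'⁻¹ = v := by group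
  rw [e3, e4] at h6
  exact (mul_inv_eq_iff_eq_mul.mp h6).symm

end Cfsg.Agent.Lib.Helper1.FM
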