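import Mathlib
import Cfsg.Agent.Lib.Helper1.FM9
import Cfsg.Agent.Lib.Helper1.FM10
import Cfsg.Agent.Lib.Helper1.Coprime

/-! Sections of an ambient group with operators. -/
set_option autoImplicit false
open scoped BigOperators commutatorElement

namespace Cfsg.Agent.Lib.Helper1.FM


variable {X : Type*} [Group X]

/-- conjugation as an endomorphism of a normalized subgroup -/
def conjHom (P A : Subgroup X) (hAP : A ≤ Subgroup.normalizer (P : Set X)) (a : A) : ↥P →* ↥P where
  toFun v := ⟨(a : X) * v * (a : X)⁻¹, (Subgroup.mem_normalizer_iff.mp (hAP a.2) v).mp v.2⟩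
  map_one' := by
    apply Subtype.ext
    simp
  map_mul' := by
    intro v w
    apply Subtype.ext
    simp only [Subgroup.coe_mul]
    group

theorem conjHom_apply (P A : Subgroup X) (hAP : A ≤ Subgroup.normalizer (P : Set X)) (a : A)
    (v : P) : ((conjHom P A hAP a v : P) : X) = (a : X) * v * (a : X)⁻¹ := rfl

/-- the action on a section -/
def secAct (A P N : Subgroup X) [hn : (N.subgroupOf P).Normal]
    (hAP : A ≤ Subgroup.normalizer (P : Set X)) (hAN : A ≤ Subgroup.normalizer (N : Set X)) :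
    A →* Monoid.End (↥P ⧸ N.subgroupOf P) where
  toFun a := QuotientGroup.map (N.subgroupOf P) (N.subgroupOf P) (conjHom P A hAP a) (by
      intro x hx
      rw [Subgroup.mem_comap, Subgroup.mem_subgroupOf]
      rw [Subgroup.mem_subgroupOf] at hx
      exact (Subgroup.mem_normalizer_iff.mp (hAN a.2) _).mp hx)
  map_one' := by
    apply MonoidHom.ext
    intro q
    induction q using QuotientGroup.induction_on with
    | H x =>
      rw [QuotientGroup.map_mk]
      have : conjHom P A hAP 1 x = x := by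
        apply Subtype.ext
        rw [conjHom_apply]
        simp
      rw [this]
      rfl
  map_mul' := by
    intro a b
    apply MonoidHom.ext
    intro q
    induction q using QuotientGroup.induction_on with
    | H x =>
      rw [QuotientGroup.map_mk]
      have : conjHom P A hAP (a * b) x = conjHom P A hAP a (conjHom P A hAP b x) := by
        apply Subtype.ext
        rw [conjHom_apply, conjHom_apply, conjHom_apply]
        simp only [Subgroup.coe_mul]
        group
      rw [this]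
      rfl

theorem secAct_mk (A P N : Subgroup X) [hn : (N.subgroupOf P).Normal]
    (hAP : A ≤ Subgroup.normalizer (P : Set X)) (hAN : A ≤ Subgroup.normalizer (N : Set X))
    (a : A) (p : P) :
    secAct A P N hAP hAN a (p : ↥P ⧸ N.subgroupOf P)
      = ((conjHom P A hAP a p : P) : ↥P ⧸ N.subgroupOf P) := rfl

theorem mk_eq_mk_iff (P N : Subgroup X) [(N.subgroupOf P).Normal] (p q : P) :
    (p : ↥P ⧸ N.subgroupOf P) = (q : ↥P ⧸ N.subgroupOf P) ↔ (p : X)⁻¹ * (q : X) ∈ N := by
  rw [QuotientGroup.eq, Subgroup.mem_subgroupOf]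
  rfl

/-- lifting fixed points of a section (coprime action) -/
theorem sec_fixed_lift [Finite X] (A P N S : Subgroup X) [hn : (N.subgroupOf P).Normal]
    (hNP : N ≤ P) (hPN : P ≤ Subgroup.normalizer (N : Set X))
    (hAP : A ≤ Subgroup.normalizer (P : Set X)) (hAN : A ≤ Subgroup.normalizer (N : Set X))
    (hSA : S ≤ A) (hcop : (Nat.card S).Coprime (Nat.card P))
    (hsolv : Group.IsSolvable S ∨ Group.IsSolvable P)
    (q : ↥P ⧸ N.subgroupOf P) (hq : q ∈ fixedSub (secAct A P N hAP hAN) (S.subgroupOf A)) :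
    ∃ c : P, (c : X) ∈ Subgroup.centralizer (S : Set X) ∧ (c : ↥P ⧸ N.subgroupOf P) = q := by
  induction q using QuotientGroup.induction_on with
  | H p =>
    have hfix : ∀ a ∈ S, a * (p : X) * a⁻¹ * (p : X)⁻¹ ∈ N := by
      intro a ha
      have h1 := hq ⟨a, hSA ha⟩ (by rw [Subgroup.mem_subgroupOf]; exact ha)
      rw [secAct_mk, mk_eq_mk_iff] at h1
      have h2 : ((conjHom P A hAP ⟨a, hSA ha⟩ p : P) : X) = a * p * a⁻¹ := rfl
      rw [h2] at h1
      -- h1 : (a p a⁻¹)⁻¹ * p ∈ N ; conjugate by ... and invert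
      have h3 : ((a * (p : X) * a⁻¹)⁻¹ * (p : X))⁻¹ ∈ N := N.inv_mem h1
      have h4 : (p : X) * (((a * (p : X) * a⁻¹)⁻¹ * (p : X))⁻¹) * (p : X)⁻¹ ∈ N :=
        (Subgroup.mem_normalizer_iff.mp (hPN p.2) _).mp h3
      have e : (p : X) * (((a * (p : X) * a⁻¹)⁻¹ * (p : X))⁻¹) * (p : X)⁻¹
          = a * (p : X) * a⁻¹ * (p : X)⁻¹ := by group
      rw [e] at h4
      exact h4
    obtain ⟨c, hc, hpc⟩ := Cfsg.Agent.Lib.Helper1.coprime_fixed_points_quotient S P
      (hSA.trans hAP) hcop hsolv N hNP hPN (hSA.trans hAN) (p : X) p.2 hfix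
    obtain ⟨hcP, hcC⟩ := Subgroup.mem_inf.mp hc
    refine ⟨⟨c, hcP⟩, hcC, ?_⟩
    rw [mk_eq_mk_iff]
    have h5 := N.inv_mem hpc
    have e : ((p : X)⁻¹ * c)⁻¹ = c⁻¹ * (p : X) := by group
    rw [e] at h5
    exact h5

theorem fixed_of_centralizer (A P N S : Subgroup X) [hn : (N.subgroupOf P).Normal]
    (hAP : A ≤ Subgroup.normalizer (P : Set X)) (hAN : A ≤ Subgroup.normalizer (N : Set X))
    (c : P) (hc : (c : X) ∈ Subgroup.centralizer (S : Set X)) :
    (c : ↥P ⧸ N.subgroupOf P) ∈ fixedSub (secAct A P N hAP hAN) (S.subgroupOf A) := by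
  intro s hs
  rw [Subgroup.mem_subgroupOf] at hs
  rw [secAct_mk]
  congr 1
  apply Subtype.ext
  show (s : X) * c * (s : X)⁻¹ = c
  rw [Subgroup.mem_centralizer_iff.mp hc (s : X) hs, mul_inv_cancel_right]

/-- counting fixed points through a section -/
theorem sec_fixed_card [Finite X] (A P N S : Subgroup X) [hn : (N.subgroupOf P).Normal]
    (hNP : N ≤ P) (hPN : P ≤ Subgroup.normalizer (N : Set X))
    (hAP : A ≤ Subgroup.normalizer (P : Set X)) (hAN : A ≤ Subgroup.normalizer (N : Set X))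
    (hSA : S ≤ A) (hcop : (Nat.card S).Coprime (Nat.card P))
    (hsolv : Group.IsSolvable S ∨ Group.IsSolvable P) :
    Nat.card (fixedSub (secAct A P N hAP hAN) (S.subgroupOf A))
        * Nat.card ↥(N ⊓ Subgroup.centralizer (S : Set X))
      = Nat.card ↥(P ⊓ Subgroup.centralizer (S : Set X)) := by
  classical
  let ψ : ↥(P ⊓ Subgroup.centralizer (S : Set X)) →* ↥P ⧸ N.subgroupOf P :=
    (QuotientGroup.mk' (N.subgroupOf P)).comp (Subgroup.inclusion inf_le_left)
  have hψ : ∀ x : ↥(P ⊓ Subgroup.centralizer (S : Set X)),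
      ψ x = ((⟨(x : X), (Subgroup.mem_inf.mp x.2).1⟩ : P) : ↥P ⧸ N.subgroupOf P) := fun x => rfl
  have hrange : ψ.range = fixedSub (secAct A P N hAP hAN) (S.subgroupOf A) := by
    apply le_antisymm
    · rintro _ ⟨x, rfl⟩
      rw [hψ]
      exact fixed_of_centralizer A P N S hAP hAN _ (Subgroup.mem_inf.mp x.2).2
    · intro q hq
      obtain ⟨c, hc, rfl⟩ := sec_fixed_lift A P N S hNP hPN hAP hAN hSA hcop hsolv q hq
      exact ⟨⟨(c : X), Subgroup.mem_inf.mpr ⟨c.2, hc⟩⟩, rfl⟩
  have hker : Nat.card ψ.ker = Nat.card ↥(N ⊓ Subgroup.centralizer (S : Set X)) := by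
    apply Nat.card_congr
    exact
      { toFun := fun x => ⟨((x : ↥(P ⊓ Subgroup.centralizer (S : Set X))) : X), by
          have h1 : ψ x = 1 := x.2
          rw [hψ, QuotientGroup.eq_one_iff, Subgroup.mem_subgroupOf] at h1
          exact Subgroup.mem_inf.mpr ⟨h1, (Subgroup.mem_inf.mp x.1.2).2⟩⟩
        invFun := fun y => ⟨⟨(y : X), Subgroup.mem_inf.mpr
            ⟨hNP (Subgroup.mem_inf.mp y.2).1, (Subgroup.mem_inf.mp y.2).2⟩⟩, by
          rw [MonoidHom.mem_ker, hψ, QuotientGroup.eq_one_iff, Subgroup.mem_subgroupOf]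
          exact (Subgroup.mem_inf.mp y.2).1⟩
        left_inv := fun x => rfl
        right_inv := fun y => rfl }
  have h1 := Subgroup.card_eq_card_quotient_mul_card_subgroup ψ.ker
  have h2 : Nat.card (↥(P ⊓ Subgroup.centralizer (S : Set X)) ⧸ ψ.ker) = Nat.card ψ.range :=
    Nat.card_congr (QuotientGroup.quotientKerEquivRange ψ).toEquiv
  rw [h1, h2, hrange, hker]

end Cfsg.Agent.Lib.Helper1.FM
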