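import Mathlib
import Cfsg.Agent.Lib.Helper1.FM11

/-! The fixed point formula and the derived subgroup of the kernel, by induction on the order. -/
set_option autoImplicit false
open scoped BigOperators commutatorElement

namespace Cfsg.Agent.Lib.Helper1.FM

variable {X : Type*} [Group X]

theorem frob_sub_normal (K R : Subgroup X) (hRK : R ≤ Subgroup.normalizer (K : Set X)) :
    (K.subgroupOf (K ⊔ R)).Normal :=
  (Subgroup.normal_subgroupOf_iff_le_normalizer le_sup_left).mpr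
    (sup_le Subgroup.le_normalizer hRK)

theorem frob_sub_sup (K R : Subgroup X) :
    K.subgroupOf (K ⊔ R) ⊔ R.subgroupOf (K ⊔ R) = ⊤ := by
  rw [← Subgroup.subgroupOf_sup le_sup_left le_sup_right, Subgroup.subgroupOf_self]

theorem frob_sub_ne_bot (K R : Subgroup X) (hR : R ≠ ⊥) : R.subgroupOf (K ⊔ R) ≠ ⊥ := by
  intro h
  apply hR
  rw [eq_bot_iff]
  intro r hr
  have h1 : (⟨r, (le_sup_right : R ≤ K ⊔ R) hr⟩ : ↥(K ⊔ R)) ∈ R.subgroupOf (K ⊔ R) := by
    rw [Subgroup.mem_subgroupOf]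
    exact hr
  rw [h, Subgroup.mem_bot] at h1
  rw [Subgroup.mem_bot]
  exact congrArg Subtype.val h1

theorem frob_sub_fpf (K R : Subgroup X)
    (hfpf : ∀ r ∈ R, r ≠ 1 → ∀ k ∈ K, r * k = k * r → k = 1) :
    ∀ r ∈ R.subgroupOf (K ⊔ R), r ≠ 1 → ∀ k ∈ K.subgroupOf (K ⊔ R), r * k = k * r → k = 1 := by
  intro r hr hr1 k hk hrk
  rw [Subgroup.mem_subgroupOf] at hr hk
  have h1 : (r : X) ≠ 1 := by
    intro h
    apply hr1
    exact Subtype.ext h
  have h2 : (r : X) * (k : X) = (k : X) * (r : X) := by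
    have := congrArg Subtype.val hrk
    simpa using this
  exact Subtype.ext (hfpf r hr h1 k hk h2)

theorem sec_simple (A P N : Subgroup X) [hn : (N.subgroupOf P).Normal] (hNP : N ≤ P)
    (hAP : A ≤ Subgroup.normalizer (P : Set X)) (hAN : A ≤ Subgroup.normalizer (N : Set X))
    (hmax : ∀ W : Subgroup X, N ≤ W → W ≤ P → P ≤ Subgroup.normalizer (W : Set X) →
      A ≤ Subgroup.normalizer (W : Set X) → W = N ∨ W = P) :
    ∀ W' : Subgroup (↥P ⧸ N.subgroupOf P), W'.Normal →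
      (∀ a : A, ∀ w ∈ W', secAct A P N hAP hAN a w ∈ W') → W' = ⊥ ∨ W' = ⊤ := by
  intro W' hW'n hW'inv
  let C : Subgroup P := W'.comap (QuotientGroup.mk' (N.subgroupOf P))
  have hCn : C.Normal := Subgroup.Normal.comap hW'n _
  have hmemC : ∀ y : P, y ∈ C ↔ (y : ↥P ⧸ N.subgroupOf P) ∈ W' := fun y => Iff.rfl
  have h1 : N ≤ C.map P.subtype := by
    intro n hn
    refine ⟨⟨n, hNP hn⟩, ?_, rfl⟩
    rw [SetLike.mem_coe, hmemC]
    have : ((⟨n, hNP hn⟩ : P) : ↥P ⧸ N.subgroupOf P) = 1 := by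
      rw [QuotientGroup.eq_one_iff, Subgroup.mem_subgroupOf]
      exact hn
    rw [this]
    exact W'.one_mem
  have h2 : C.map P.subtype ≤ P := Subgroup.map_subtype_le C
  have h3 : P ≤ Subgroup.normalizer ((C.map P.subtype : Subgroup X) : Set X) := by
    apply mem_normalizer_of_conj
    rintro p hp _ ⟨y, hy, rfl⟩
    refine ⟨⟨p, hp⟩ * y * ⟨p, hp⟩⁻¹, hCn.conj_mem y hy ⟨p, hp⟩, rfl⟩
  have h4 : A ≤ Subgroup.normalizer ((C.map P.subtype : Subgroup X) : Set X) := by
    apply mem_normalizer_of_conj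
    rintro a ha _ ⟨y, hy, rfl⟩
    refine ⟨conjHom P A hAP ⟨a, ha⟩ y, ?_, rfl⟩
    rw [SetLike.mem_coe, hmemC, ← secAct_mk A P N hAP hAN]
    exact hW'inv ⟨a, ha⟩ _ hy
  rcases hmax _ h1 h2 h3 h4 with h | h
  · left
    rw [eq_bot_iff]
    intro q hq
    induction q using QuotientGroup.induction_on with
    | H y =>
      have hy : (y : X) ∈ C.map P.subtype := ⟨y, hq, rfl⟩
      rw [h] at hy
      rw [Subgroup.mem_bot, QuotientGroup.eq_one_iff, Subgroup.mem_subgroupOf]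
      exact hy
  · right
    rw [eq_top_iff]
    intro q _
    induction q using QuotientGroup.induction_on with
    | H y =>
      have hy : (y : X) ∈ C.map P.subtype := by
        rw [h]
        exact y.2
      obtain ⟨y', hy', hyy⟩ := hy
      have : y' = y := Subtype.ext hyy
      rw [← this]
      exact hy'

theorem exists_max_invariant [Finite X] (A P : Subgroup X) (hP : P ≠ ⊥) :
    ∃ N : Subgroup X, N ≤ P ∧ N ≠ P ∧ P ≤ Subgroup.normalizer (N : Set X) ∧
      A ≤ Subgroup.normalizer (N : Set X) ∧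
      ∀ W : Subgroup X, N ≤ W → W ≤ P → P ≤ Subgroup.normalizer (W : Set X) →
        A ≤ Subgroup.normalizer (W : Set X) → W = N ∨ W = P := by
  classical
  let 𝒮 : Set (Subgroup X) := {W | W ≤ P ∧ W ≠ P ∧ P ≤ Subgroup.normalizer (W : Set X) ∧
    A ≤ Subgroup.normalizer (W : Set X)}
  have hbot : ∀ B : Subgroup X, B ≤ Subgroup.normalizer ((⊥ : Subgroup X) : Set X) := by
    intro B
    apply mem_normalizer_of_conj
    intro b _ w hw
    rw [Subgroup.mem_bot] at hw ⊢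
    rw [hw]
    group
  have hne : 𝒮.Nonempty := ⟨⊥, bot_le, fun h => hP h.symm, hbot P, hbot A⟩
  have hwf : WellFounded (fun a b : Subgroup X => a > b) := wellFounded_gt
  obtain ⟨N, hN, hmin⟩ := hwf.has_min 𝒮 hne
  refine ⟨N, hN.1, hN.2.1, hN.2.2.1, hN.2.2.2, ?_⟩
  intro W hNW hWP hPW hAW
  by_cases hWP' : W = P
  · exact Or.inr hWP'
  · left
    by_contra hne'
    exact hmin W ⟨hWP, hWP', hPW, hAW⟩ (lt_of_le_of_ne hNW (fun h => hne' h.symm))

theorem card_lt_of_lt'' [Finite X] {H K : Subgroup X} (h : H < K) : Nat.card H < Nat.card K := by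
  have h1 := Subgroup.card_le_of_le h.le
  rcases h1.lt_or_eq with h2 | h2
  · exact h2
  · exact absurd (Subgroup.eq_of_le_of_card_ge h.le h2.ge) h.ne

theorem frob_formula [Finite X] (K R : Subgroup X) (hR : R ≠ ⊥)
    (hRK : R ≤ Subgroup.normalizer (K : Set X))
    (hfpf : ∀ r ∈ R, r ≠ 1 → ∀ k ∈ K, r * k = k * r → k = 1) :
    ∀ n : ℕ, ∀ P : Subgroup X, Nat.card P = n → K ⊔ R ≤ Subgroup.normalizer (P : Set X) →
      Group.IsSolvable P → (Nat.card P).Coprime (Nat.card ↥(K ⊔ R)) →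
      Nat.card ↥(P ⊓ Subgroup.centralizer ((K ⊔ R : Subgroup X) : Set X)) ^ Nat.card R * Nat.card P
        = Nat.card ↥(P ⊓ Subgroup.centralizer (R : Set X)) ^ Nat.card R
          * Nat.card ↥(P ⊓ Subgroup.centralizer (K : Set X)) := by
  classical
  intro n
  induction n using Nat.strong_induction_on with
  | _ n ih =>
  intro P hn hAP hsolv hcop
  by_cases hP : P = ⊥
  · subst hP
    rw [bot_inf_eq, bot_inf_eq, bot_inf_eq]
  obtain ⟨N, hNP, hNne, hPN, hAN, hmax⟩ := exists_max_invariant (K ⊔ R) P hP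
  have hn' : (N.subgroupOf P).Normal :=
    (Subgroup.normal_subgroupOf_iff_le_normalizer hNP).mpr hPN
  have hlt : Nat.card N < n := by
    rw [← hn]
    exact card_lt_of_lt'' (lt_of_le_of_ne hNP hNne)
  have hsolvN : Group.IsSolvable N := Cfsg.Agent.Lib.Helper1.isSolvable_of_le hNP
  have hcopN : (Nat.card N).Coprime (Nat.card ↥(K ⊔ R)) :=
    Nat.Coprime.coprime_dvd_left (Subgroup.card_dvd_of_le hNP) hcop
  have hIH := ih (Nat.card N) hlt N rfl hAN hsolvN hcopN
  have hK'n := frob_sub_normal K R hRK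
  have hsolvM : Group.IsSolvable (↥P ⧸ N.subgroupOf P) :=
    Group.isSolvable_of_surjective (QuotientGroup.mk'_surjective (N.subgroupOf P))
  obtain ⟨hM, -⟩ := fm_grp_simple (secAct (K ⊔ R) P N hAP hAN) (K.subgroupOf (K ⊔ R))
    (R.subgroupOf (K ⊔ R)) (frob_sub_sup K R) (frob_sub_ne_bot K R hR) (frob_sub_fpf K R hfpf)
    hsolvM (sec_simple (K ⊔ R) P N hNP hAP hAN hmax)
  have hcopS : ∀ S : Subgroup X, S ≤ K ⊔ R → (Nat.card S).Coprime (Nat.card P) := by
    intro S hS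
    exact (Nat.Coprime.coprime_dvd_right (Subgroup.card_dvd_of_le hS) hcop).symm
  have hA := sec_fixed_card (K ⊔ R) P N (K ⊔ R) hNP hPN hAP hAN le_rfl (hcopS _ le_rfl)
    (Or.inr hsolv)
  have hRc := sec_fixed_card (K ⊔ R) P N R hNP hPN hAP hAN le_sup_right (hcopS _ le_sup_right)
    (Or.inr hsolv)
  have hKc := sec_fixed_card (K ⊔ R) P N K hNP hPN hAP hAN le_sup_left (hcopS _ le_sup_left)
    (Or.inr hsolv)
  rw [Subgroup.subgroupOf_self] at hA
  have eR : Nat.card (R.subgroupOf (K ⊔ R)) = Nat.card R :=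
    Nat.card_congr (Subgroup.subgroupOfEquivOfLe (le_sup_right : R ≤ K ⊔ R)).toEquiv
  have eN : Nat.card (N.subgroupOf P) = Nat.card N :=
    Nat.card_congr (Subgroup.subgroupOfEquivOfLe hNP).toEquiv
  have hPcard : Nat.card P = Nat.card (↥P ⧸ N.subgroupOf P) * Nat.card N := by
    rw [← eN]
    exact Subgroup.card_eq_card_quotient_mul_card_subgroup (N.subgroupOf P)
  rw [eR] at hM
  rw [← hA, ← hRc, ← hKc, hPcard, mul_pow, mul_pow]
  calc Nat.card (fixedSub (secAct (K ⊔ R) P N hAP hAN) ⊤) ^ Nat.card R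
        * Nat.card ↥(N ⊓ Subgroup.centralizer ((K ⊔ R : Subgroup X) : Set X)) ^ Nat.card R
        * (Nat.card (↥P ⧸ N.subgroupOf P) * Nat.card N)
      = (Nat.card (fixedSub (secAct (K ⊔ R) P N hAP hAN) ⊤) ^ Nat.card R
          * Nat.card (↥P ⧸ N.subgroupOf P))
        * (Nat.card ↥(N ⊓ Subgroup.centralizer ((K ⊔ R : Subgroup X) : Set X)) ^ Nat.card R
          * Nat.card N) := by ring
    _ = (Nat.card (fixedSub (secAct (K ⊔ R) P N hAP hAN) (R.subgroupOf (K ⊔ R))) ^ Nat.card R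
          * Nat.card (fixedSub (secAct (K ⊔ R) P N hAP hAN) (K.subgroupOf (K ⊔ R))))
        * (Nat.card ↥(N ⊓ Subgroup.centralizer (R : Set X)) ^ Nat.card R
          * Nat.card ↥(N ⊓ Subgroup.centralizer (K : Set X))) := by rw [hM, hIH]
    _ = _ := by ring

end Cfsg.Agent.Lib.Helper1.FM
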