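import Mathlib
import Cfsg.Agent.Lib.Helper1.FM12

/-! The derived subgroup of a Frobenius kernel centralizes a group with cyclic complement-fixed points. -/
set_option autoImplicit false
open scoped BigOperators commutatorElement

namespace Cfsg.Agent.Lib.Helper1.FM

variable {X : Type*} [Group X]

theorem derived_le_self (K : Subgroup X) : ⁅K, K⁆ ≤ K := by
  rw [Subgroup.commutator_le]
  intro a ha b hb
  rw [commutatorElement_def]
  exact K.mul_mem (K.mul_mem (K.mul_mem ha hb) (K.inv_mem ha)) (K.inv_mem hb)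

theorem frob_derived [Finite X] (K R : Subgroup X) (hR : R ≠ ⊥)
    (hRK : R ≤ Subgroup.normalizer (K : Set X))
    (hfpf : ∀ r ∈ R, r ≠ 1 → ∀ k ∈ K, r * k = k * r → k = 1) :
    ∀ n : ℕ, ∀ P : Subgroup X, Nat.card P = n → K ⊔ R ≤ Subgroup.normalizer (P : Set X) →
      Group.IsSolvable P → (Nat.card P).Coprime (Nat.card ↥(K ⊔ R)) →
      IsCyclic ↥(P ⊓ Subgroup.centralizer (R : Set X)) →
      ⁅K, K⁆ ≤ Subgroup.centralizer (P : Set X) := by
  classical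
  intro n
  induction n using Nat.strong_induction_on with
  | _ n ih =>
  intro P hn hAP hsolv hcop hcyc
  by_cases hP : P = ⊥
  · subst hP
    intro d _
    rw [Subgroup.mem_centralizer_iff]
    intro h hh
    have : h = 1 := hh
    rw [this, one_mul, mul_one]
  obtain ⟨N, hNP, hNne, hPN, hAN, hmax⟩ := exists_max_invariant (K ⊔ R) P hP
  have hn' : (N.subgroupOf P).Normal :=
    (Subgroup.normal_subgroupOf_iff_le_normalizer hNP).mpr hPN
  have hlt : Nat.card N < n := by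
    rw [← hn]
    exact card_lt_of_lt'' (lt_of_le_of_ne hNP hNne)
  have hsolvN : Group.IsSolvable N := Cfsg.Agent.Lib.Helper1.isSolvable_of_le hNP
  have hcopN : (Nat.card N).Coprime (Nat.card ↥(K ⊔ R)) :=
    Nat.Coprime.coprime_dvd_left (Subgroup.card_dvd_of_le hNP) hcop
  have hcycN : IsCyclic ↥(N ⊓ Subgroup.centralizer (R : Set X)) :=
    isCyclic_of_injective (Subgroup.inclusion (inf_le_inf_right _ hNP))
      (Subgroup.inclusion_injective _)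
  have hIH := ih (Nat.card N) hlt N rfl hAN hsolvN hcopN hcycN
  have hK'n := frob_sub_normal K R hRK
  have hsolvM : Group.IsSolvable (↥P ⧸ N.subgroupOf P) :=
    Group.isSolvable_of_surjective (QuotientGroup.mk'_surjective (N.subgroupOf P))
  have hcopS : ∀ S : Subgroup X, S ≤ K ⊔ R → (Nat.card S).Coprime (Nat.card P) := by
    intro S hS
    exact (Nat.Coprime.coprime_dvd_right (Subgroup.card_dvd_of_le hS) hcop).symm
  -- fixed points of R on the section are cyclic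
  have hcycM : IsCyclic (fixedSub (secAct (K ⊔ R) P N hAP hAN) (R.subgroupOf (K ⊔ R))) := by
    let ψ : ↥(P ⊓ Subgroup.centralizer (R : Set X)) →*
        ↥(fixedSub (secAct (K ⊔ R) P N hAP hAN) (R.subgroupOf (K ⊔ R))) :=
      MonoidHom.codRestrict
        ((QuotientGroup.mk' (N.subgroupOf P)).comp (Subgroup.inclusion inf_le_left)) _
        (fun x => fixed_of_centralizer (K ⊔ R) P N R hAP hAN
          ⟨(x : X), (Subgroup.mem_inf.mp x.2).1⟩ (Subgroup.mem_inf.mp x.2).2)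
    have hsurj : Function.Surjective ψ := by
      rintro ⟨q, hq⟩
      obtain ⟨c, hc, hcq⟩ := sec_fixed_lift (K ⊔ R) P N R hNP hPN hAP hAN le_sup_right
        (hcopS _ le_sup_right) (Or.inr hsolv) q hq
      refine ⟨⟨(c : X), Subgroup.mem_inf.mpr ⟨c.2, hc⟩⟩, ?_⟩
      apply Subtype.ext
      exact hcq
    exact isCyclic_of_surjective ψ hsurj
  obtain ⟨-, hM⟩ := fm_grp_simple (secAct (K ⊔ R) P N hAP hAN) (K.subgroupOf (K ⊔ R))
    (R.subgroupOf (K ⊔ R)) (frob_sub_sup K R) (frob_sub_ne_bot K R hR) (frob_sub_fpf K R hfpf)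
    hsolvM (sec_simple (K ⊔ R) P N hNP hAP hAN hmax)
  have hcommM := hM hcycM
  -- elements acting trivially on the section
  let T : Subgroup X :=
    { carrier := {d | ∃ hd : d ∈ K ⊔ R, ∀ q, secAct (K ⊔ R) P N hAP hAN ⟨d, hd⟩ q = q}
      one_mem' := ⟨(K ⊔ R).one_mem, fun q => by
        have : (⟨1, (K ⊔ R).one_mem⟩ : ↥(K ⊔ R)) = 1 := rfl
        rw [this, map_one]
        rfl⟩
      mul_mem' := by
        rintro a b ⟨ha, ha'⟩ ⟨hb, hb'⟩
        refine ⟨(K ⊔ R).mul_mem ha hb, fun q => ?_⟩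
        have : (⟨a * b, (K ⊔ R).mul_mem ha hb⟩ : ↥(K ⊔ R)) = ⟨a, ha⟩ * ⟨b, hb⟩ := rfl
        rw [this, end_mul_apply', hb' q, ha' q]
      inv_mem' := by
        rintro a ⟨ha, ha'⟩
        refine ⟨(K ⊔ R).inv_mem ha, fun q => ?_⟩
        have h1 : (⟨a⁻¹, (K ⊔ R).inv_mem ha⟩ : ↥(K ⊔ R)) = (⟨a, ha⟩ : ↥(K ⊔ R))⁻¹ := rfl
        have h2 : secAct (K ⊔ R) P N hAP hAN ((⟨a, ha⟩ : ↥(K ⊔ R))⁻¹ * ⟨a, ha⟩) q = q := by
          rw [inv_mul_cancel, map_one]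
          rfl
        rw [end_mul_apply', ha' q] at h2
        rw [h1]
        exact h2 }
  have hDT : ⁅K, K⁆ ≤ T := by
    rw [Subgroup.commutator_le]
    intro k hk k' hk'
    have hkA : k ∈ K ⊔ R := (le_sup_left : K ≤ K ⊔ R) hk
    have hk'A : k' ∈ K ⊔ R := (le_sup_left : K ≤ K ⊔ R) hk'
    have hcA : ⁅k, k'⁆ ∈ K ⊔ R := by
      rw [commutatorElement_def]
      exact (K ⊔ R).mul_mem ((K ⊔ R).mul_mem ((K ⊔ R).mul_mem hkA hk'A) ((K ⊔ R).inv_mem hkA))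
        ((K ⊔ R).inv_mem hk'A)
    refine ⟨hcA, fun q => ?_⟩
    have e1 : (⟨⁅k, k'⁆, hcA⟩ : ↥(K ⊔ R))
        = (⟨k, hkA⟩ : ↥(K ⊔ R)) * (⟨k', hk'A⟩ * ((⟨k, hkA⟩ : ↥(K ⊔ R))⁻¹ * (⟨k', hk'A⟩)⁻¹)) := by
      apply Subtype.ext
      show ⁅k, k'⁆ = k * (k' * (k⁻¹ * k'⁻¹))
      rw [commutatorElement_def]
      group
    have hkK' : (⟨k, hkA⟩ : ↥(K ⊔ R)) ∈ K.subgroupOf (K ⊔ R) := by
      rw [Subgroup.mem_subgroupOf]
      exact hk
    have hk'K' : (⟨k', hk'A⟩ : ↥(K ⊔ R)) ∈ K.subgroupOf (K ⊔ R) := by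
      rw [Subgroup.mem_subgroupOf]
      exact hk'
    rw [e1, end_mul_apply', end_mul_apply', hcommM _ hkK' _ hk'K', ← end_mul_apply',
      ← end_mul_apply']
    have e2 : (⟨k', hk'A⟩ : ↥(K ⊔ R)) * ⟨k, hkA⟩ * ((⟨k, hkA⟩ : ↥(K ⊔ R))⁻¹ * (⟨k', hk'A⟩)⁻¹)
        = 1 := by group
    rw [e2, map_one]
    rfl
  -- [P, D] ≤ N
  have hPD : ⁅P, ⁅K, K⁆⁆ ≤ N := by
    rw [Subgroup.commutator_le]
    intro p hp d hd
    obtain ⟨hdA, hdq⟩ := hDT hd
    have h1 := hdq (((⟨p⁻¹, P.inv_mem hp⟩ : P)) : ↥P ⧸ N.subgroupOf P)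
    rw [secAct_mk, mk_eq_mk_iff] at h1
    have h2 : ((conjHom P (K ⊔ R) hAP ⟨d, hdA⟩ ⟨p⁻¹, P.inv_mem hp⟩ : P) : X) = d * p⁻¹ * d⁻¹ := rfl
    rw [h2] at h1
    have h3 := N.inv_mem h1
    have e : ((d * p⁻¹ * d⁻¹)⁻¹ * p⁻¹)⁻¹ = ⁅p, d⁆ := by
      rw [commutatorElement_def]
      group
    rw [e] at h3
    exact h3
  have hDK : ⁅K, K⁆ ≤ K ⊔ R := (derived_le_self K).trans le_sup_left
  have hND : ⁅N, ⁅K, K⁆⁆ = ⊥ := by
    rw [Subgroup.commutator_comm, Subgroup.commutator_eq_bot_iff_le_centralizer]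
    exact hIH
  have h4 : ⁅⁅P, ⁅K, K⁆⁆, ⁅K, K⁆⁆ = ⊥ := by
    rw [eq_bot_iff, ← hND]
    exact Subgroup.commutator_mono hPD le_rfl
  have h5 := Cfsg.Agent.Lib.Helper1.coprime_commutator_commutator ⁅K, K⁆ P (hDK.trans hAP)
    (hcopS _ hDK) (Or.inr hsolv)
  rw [h4] at h5
  have h6 : ⁅⁅K, K⁆, P⁆ = ⊥ := by
    rw [Subgroup.commutator_comm]
    exact h5.symm
  exact Subgroup.commutator_eq_bot_iff_le_centralizer.mp h6

end Cfsg.Agent.Lib.Helper1.FM
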