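import Mathlib
import Cfsg.Agent.Lib.Helper1.FM13

/-! Frobenius action on a nilpotent group with a "prime" complement. -/
set_option autoImplicit false
open scoped BigOperators commutatorElement

namespace Cfsg.Agent.Lib.Helper1.FM

variable {X : Type*} [Group X]

theorem inf_centralizer_zpowers (M : Subgroup X) (x : X) :
    M ⊓ Subgroup.centralizer ((Subgroup.zpowers x : Subgroup X) : Set X)
      = M ⊓ Subgroup.centralizer ({x} : Set X) := by
  apply le_antisymm
  · apply inf_le_inf_left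
    apply Subgroup.centralizer_le
    intro y hy
    rw [Set.mem_singleton_iff] at hy
    rw [hy]
    exact Subgroup.mem_zpowers x
  · intro m hm
    obtain ⟨hmM, hmC⟩ := Subgroup.mem_inf.mp hm
    refine Subgroup.mem_inf.mpr ⟨hmM, ?_⟩
    rw [Subgroup.mem_centralizer_iff] at hmC ⊢
    intro y hy
    obtain ⟨n, rfl⟩ := Subgroup.mem_zpowers_iff.mp hy
    have h1 : Commute x m := hmC x rfl
    exact (h1.zpow_left n)

theorem frob_prime_complement [Finite X] (K R M : Subgroup X) (hR1 : R ≠ ⊥)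
    (hRK : R ≤ Subgroup.normalizer (K : Set X))
    (hfrob : ∀ r ∈ R, r ≠ 1 → K ⊓ Subgroup.centralizer ({r} : Set X) = ⊥)
    (hM1 : M ≠ ⊥) (hMn : Group.IsNilpotent M) (hKM : K ≤ Subgroup.normalizer (M : Set X))
    (hRM : R ≤ Subgroup.normalizer (M : Set X))
    (hcop : (Nat.card ↥(K ⊔ R)).Coprime (Nat.card M))
    (hCK : M ⊓ Subgroup.centralizer (K : Set X) = ⊥)
    (hpr : ∀ x ∈ R, x ≠ 1 → M ⊓ Subgroup.centralizer ({x} : Set X)
      = M ⊓ Subgroup.centralizer (R : Set X)) :
    (Nat.card R).Prime ∧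
      Nat.card M = Nat.card ↥(M ⊓ Subgroup.centralizer (R : Set X)) ^ Nat.card R ∧
      (IsCyclic ↥(M ⊓ Subgroup.centralizer (R : Set X)) →
        ⁅K, K⁆ ≤ Subgroup.centralizer (M : Set X)) := by
  classical
  have hfpf : ∀ r ∈ R, r ≠ 1 → ∀ k ∈ K, r * k = k * r → k = 1 := by
    intro r hr hr1 k hk hrk
    have h1 : k ∈ K ⊓ Subgroup.centralizer ({r} : Set X) := by
      refine Subgroup.mem_inf.mpr ⟨hk, ?_⟩
      rw [Subgroup.mem_centralizer_iff]
      intro h hh
      rw [Set.mem_singleton_iff] at hh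
      rw [hh]
      exact hrk
    rw [hfrob r hr hr1, Subgroup.mem_bot] at h1
    exact h1
  have hsolvM : Group.IsSolvable M := inferInstance
  have hAM : K ⊔ R ≤ Subgroup.normalizer (M : Set X) := sup_le hKM hRM
  -- general formula for a sub-complement
  have hform : ∀ R₀ : Subgroup X, R₀ ≤ R → R₀ ≠ ⊥ →
      Nat.card M = Nat.card ↥(M ⊓ Subgroup.centralizer (R₀ : Set X)) ^ Nat.card R₀ := by
    intro R₀ hR₀ hR₀1
    have hle : K ⊔ R₀ ≤ K ⊔ R := sup_le_sup_left hR₀ K
    have hcop₀ : (Nat.card M).Coprime (Nat.card ↥(K ⊔ R₀)) :=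
      (Nat.Coprime.coprime_dvd_left (Subgroup.card_dvd_of_le hle) hcop).symm
    have h1 := frob_formula K R₀ hR₀1 (hR₀.trans hRK)
      (fun r hr hr1 k hk hrk => hfpf r (hR₀ hr) hr1 k hk hrk) (Nat.card M) M rfl
      (hle.trans hAM) hsolvM hcop₀
    have h2 : M ⊓ Subgroup.centralizer ((K ⊔ R₀ : Subgroup X) : Set X) = ⊥ := by
      rw [eq_bot_iff, ← hCK]
      apply inf_le_inf_left
      apply Subgroup.centralizer_le
      exact (le_sup_left : K ≤ K ⊔ R₀)
    rw [h2, hCK, Subgroup.card_bot, one_pow, one_mul, mul_one] at h1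
    exact h1
  have hb := hform R le_rfl hR1
  refine ⟨?_, hb, ?_⟩
  · -- R has prime order
    have hRcard : Nat.card R ≠ 1 := by
      intro h
      exact hR1 (Subgroup.card_eq_one.mp h)
    obtain ⟨p, hp, hpdvd⟩ := Nat.exists_prime_and_dvd hRcard
    have hpF : Fact p.Prime := ⟨hp⟩
    obtain ⟨x, hx⟩ := exists_prime_orderOf_dvd_card' p hpdvd
    have hxo : orderOf (x : X) = p := by
      rw [Subgroup.orderOf_coe]
      exact hx
    have hx1 : (x : X) ≠ 1 := by
      intro h
      rw [h, orderOf_one] at hxo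
      exact hp.one_lt.ne hxo
    have hz1 : Subgroup.zpowers (x : X) ≠ ⊥ := by
      intro h
      apply hx1
      have : (x : X) ∈ Subgroup.zpowers (x : X) := Subgroup.mem_zpowers _
      rw [h, Subgroup.mem_bot] at this
      exact this
    have hzR : Subgroup.zpowers (x : X) ≤ R := by
      rw [Subgroup.zpowers_le]
      exact x.2
    have h1 := hform (Subgroup.zpowers (x : X)) hzR hz1
    rw [inf_centralizer_zpowers, hpr (x : X) x.2 hx1, Nat.card_zpowers, hxo] at h1
    -- compare exponents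
    have hc2 : 2 ≤ Nat.card ↥(M ⊓ Subgroup.centralizer (R : Set X)) := by
      by_contra hlt
      have hpos : 0 < Nat.card ↥(M ⊓ Subgroup.centralizer (R : Set X)) := Nat.card_pos
      have h1' : Nat.card ↥(M ⊓ Subgroup.centralizer (R : Set X)) = 1 := by omega
      rw [h1', one_pow] at hb
      exact hM1 (Subgroup.card_eq_one.mp hb)
    have h3 : Nat.card ↥(M ⊓ Subgroup.centralizer (R : Set X)) ^ p
        = Nat.card ↥(M ⊓ Subgroup.centralizer (R : Set X)) ^ Nat.card R := by
      rw [← h1, ← hb]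
    have h4 := Nat.pow_right_injective hc2 h3
    rw [← h4]
    exact hp
  · intro hcyc
    exact frob_derived K R hR1 hRK hfpf (Nat.card M) M rfl hAM hsolvM hcop.symm hcyc

end Cfsg.Agent.Lib.Helper1.FM
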