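import Mathlib
import Cfsg.Prelude.Def_Transfer
import Cfsg.Agent.Lib.Helper1.ClassTwo

set_option autoImplicit false
open scoped commutatorElement
universe u
namespace Cfsg.Agent.Lib.Helper1
variable {P : Type u} [Group P]

theorem commCentral_of_le_center (Z : Subgroup P) (hZcent : Z ≤ Subgroup.center P)
    (hZc : ∀ x y : P, ⁅x, y⁆ ∈ Z) : CommCentral P := by
  intro x y z
  have := Subgroup.mem_center_iff.mp (hZcent (hZc x y)) z
  exact this.symm

theorem relIndex_inf_centralizer_singleton [Finite P] {p : ℕ} [hp : Fact p.Prime] (Z : Subgroup P)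
    (hZcard : Nat.card Z = p) (hZcent : Z ≤ Subgroup.center P) (hZc : ∀ x y : P, ⁅x, y⁆ ∈ Z)
    (H : Subgroup P) (y : P) (g : P) (hg : g ∈ H) (hgy : ⁅g, y⁆ ≠ 1) :
    (H ⊓ Subgroup.centralizer {y}).relIndex H = p := by
  have h : CommCentral P := commCentral_of_le_center Z hZcent hZc
  let f : H →* Z :=
    { toFun := fun g => ⟨⁅(g : P), y⁆, hZc _ _⟩
      map_one' := by
        apply Subtype.ext
        simp [commutatorElement_def]
      map_mul' := fun a b => Subtype.ext (h.comm_mul_left a b y) }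
  have hker : f.ker = (H ⊓ Subgroup.centralizer {y}).subgroupOf H := by
    ext a
    rw [MonoidHom.mem_ker, Subgroup.mem_subgroupOf, Subgroup.mem_inf,
      Subgroup.mem_centralizer_singleton_iff]
    constructor
    · intro ha
      have h1 : ⁅(a : P), y⁆ = 1 := congrArg Subtype.val ha
      exact ⟨a.2, (commutatorElement_eq_one_iff_mul_comm.mp h1)⟩
    · rintro ⟨-, ha⟩
      exact Subtype.ext (commutatorElement_eq_one_iff_mul_comm.mpr ha)
  rw [Subgroup.relIndex, ← hker, Subgroup.index_ker]
  have hdvd : Nat.card f.range ∣ p := hZcard ▸ Subgroup.card_subgroup_dvd_card f.range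
  rcases (Nat.dvd_prime hp.out).mp hdvd with h1 | h1
  · exfalso
    have hbot : f.range = ⊥ := Subgroup.card_eq_one.mp h1
    have hmem : f ⟨g, hg⟩ ∈ f.range := ⟨_, rfl⟩
    rw [hbot, Subgroup.mem_bot] at hmem
    exact hgy (congrArg Subtype.val hmem)
  · exact h1

theorem relIndex_center_even [Finite P] {p : ℕ} [hp : Fact p.Prime] (Z : Subgroup P)
    (hZcard : Nat.card Z = p) (hZcent : Z ≤ Subgroup.center P) (hZc : ∀ x y : P, ⁅x, y⁆ ∈ Z) :
    ∀ (n : ℕ) (H : Subgroup P), Nat.card H = n →
      ∃ k, (H ⊓ Subgroup.centralizer (H : Set P)).relIndex H = p ^ (2 * k) := by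
  have h : CommCentral P := commCentral_of_le_center Z hZcent hZc
  intro n
  induction n using Nat.strong_induction_on with
  | _ n ih =>
    intro H hHn
    by_cases hab : H ≤ Subgroup.centralizer (H : Set P)
    · refine ⟨0, ?_⟩
      rw [mul_zero, pow_zero, Subgroup.relIndex_eq_one]
      exact le_inf le_rfl hab
    · -- noncommuting x y
      have : ∃ x ∈ H, ∃ y ∈ H, x * y ≠ y * x := by
        by_contra hno
        push Not at hno
        apply hab
        intro x hx
        rw [Subgroup.mem_centralizer_iff]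
        intro y hy
        exact hno y hy x hx
      obtain ⟨x, hx, y, hy, hxy⟩ := this
      have hxy1 : ⁅y, x⁆ ≠ 1 := fun h1 => hxy (commutatorElement_eq_one_iff_mul_comm.mp h1).symm
      have hxy2 : ⁅x, y⁆ ≠ 1 := fun h1 => hxy (commutatorElement_eq_one_iff_mul_comm.mp h1)
      obtain ⟨H₀, hH₀⟩ : ∃ H₀, H₀ = H ⊓ Subgroup.centralizer {x} := ⟨_, rfl⟩
      obtain ⟨H₁, hH₁⟩ : ∃ H₁, H₁ = H₀ ⊓ Subgroup.centralizer {y} := ⟨_, rfl⟩
      have hi0 : H₀.relIndex H = p := by
        rw [hH₀]
        exact relIndex_inf_centralizer_singleton Z hZcard hZcent hZc H x y hy hxy1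
      have hxH₀ : x ∈ H₀ := by
        rw [hH₀]; exact ⟨hx, Subgroup.mem_centralizer_singleton_iff.mpr rfl⟩
      have hi1 : H₁.relIndex H₀ = p := by
        rw [hH₁]
        exact relIndex_inf_centralizer_singleton Z hZcard hZcent hZc H₀ y x hxH₀ hxy2
      have hH₀H : H₀ ≤ H := hH₀ ▸ inf_le_left
      have hH₁H₀ : H₁ ≤ H₀ := hH₁ ▸ inf_le_left
      have hH₁H : H₁ ≤ H := hH₁H₀.trans hH₀H
      have hi : H₁.relIndex H = p * p := by
        rw [← Subgroup.relIndex_mul_relIndex H₁ H₀ H hH₁H₀ hH₀H, hi0, hi1]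
      have hmemH₁ : ∀ g, g ∈ H₁ ↔ g ∈ H ∧ g * x = x * g ∧ g * y = y * g := by
        intro g
        rw [hH₁, hH₀, Subgroup.mem_inf, Subgroup.mem_inf, Subgroup.mem_centralizer_singleton_iff,
          Subgroup.mem_centralizer_singleton_iff, and_assoc]
      -- centers agree
      have hZeq : H₁ ⊓ Subgroup.centralizer (H₁ : Set P) = H ⊓ Subgroup.centralizer (H : Set P) := by
        apply le_antisymm
        · intro c hc
          obtain ⟨hc1, hc2⟩ := Subgroup.mem_inf.mp hc
          refine Subgroup.mem_inf.mpr ⟨hH₁H hc1, ?_⟩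
          rw [Subgroup.mem_centralizer_iff]
          intro g hg
          obtain ⟨hcH, hcx, hcy⟩ := (hmemH₁ c).mp hc1
          -- g = g' * x^i * y^j
          obtain ⟨j, hj⟩ := mem_powers_of_prime_card (G := Z) hZcard (g := ⟨⁅y, x⁆, hZc _ _⟩)
            (g' := ⟨⁅g, x⁆, hZc _ _⟩) (fun h1 => hxy1 (congrArg Subtype.val h1))
          obtain ⟨i, hi'⟩ := mem_powers_of_prime_card (G := Z) hZcard (g := ⟨⁅x, y⁆, hZc _ _⟩)
            (g' := ⟨⁅g, y⁆, hZc _ _⟩) (fun h1 => hxy2 (congrArg Subtype.val h1))
          have hj' : ⁅y, x⁆ ^ j = ⁅g, x⁆ := by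
            have := congrArg Subtype.val hj
            simpa using this
          have hi'' : ⁅x, y⁆ ^ i = ⁅g, y⁆ := by
            have := congrArg Subtype.val hi'
            simpa using this
          have hg' : g * (y ^ j)⁻¹ * (x ^ i)⁻¹ ∈ H₁ := by
            rw [hmemH₁]
            refine ⟨H.mul_mem (H.mul_mem hg (H.inv_mem (H.pow_mem hy j)))
              (H.inv_mem (H.pow_mem hx i)), ?_, ?_⟩
            · have : ⁅g * (y ^ j)⁻¹ * (x ^ i)⁻¹, x⁆ = 1 := by
                rw [h.comm_mul_left, h.comm_mul_left, ← hj', ← h.comm_pow_left]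
                have e1 : ⁅(y ^ j)⁻¹, x⁆ = (⁅y ^ j, x⁆)⁻¹ := by
                  have := h.comm_mul_left (y ^ j) (y ^ j)⁻¹ x
                  rw [mul_inv_cancel, CommCentral.comm_one_left] at this
                  exact eq_inv_of_mul_eq_one_right this.symm
                have e2 : ⁅(x ^ i)⁻¹, x⁆ = 1 := by
                  rw [commutatorElement_eq_one_iff_mul_comm]
                  exact ((Commute.refl x).pow_left i).inv_left.eq
                rw [e1, e2]; group
              exact (commutatorElement_eq_one_iff_mul_comm.mp this)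
            · have : ⁅g * (y ^ j)⁻¹ * (x ^ i)⁻¹, y⁆ = 1 := by
                rw [h.comm_mul_left, h.comm_mul_left, ← hi'', ← h.comm_pow_left]
                have e1 : ⁅(x ^ i)⁻¹, y⁆ = (⁅x ^ i, y⁆)⁻¹ := by
                  have := h.comm_mul_left (x ^ i) (x ^ i)⁻¹ y
                  rw [mul_inv_cancel, CommCentral.comm_one_left] at this
                  exact eq_inv_of_mul_eq_one_right this.symm
                have e2 : ⁅(y ^ j)⁻¹, y⁆ = 1 := by
                  rw [commutatorElement_eq_one_iff_mul_comm]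
                  exact ((Commute.refl y).pow_left j).inv_left.eq
                rw [e1, e2]; group
              exact (commutatorElement_eq_one_iff_mul_comm.mp this)
          have hcg' := Subgroup.mem_centralizer_iff.mp hc2 _ hg'
          have hcx' : Commute c x := hcx
          have hcy' : Commute c y := hcy
          have hcg'' : Commute c (g * (y ^ j)⁻¹ * (x ^ i)⁻¹) := hcg'.symm
          have : g = g * (y ^ j)⁻¹ * (x ^ i)⁻¹ * x ^ i * y ^ j := by group
          have hfin : Commute c g := by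
            rw [this]
            exact (hcg''.mul_right (hcx'.pow_right i)).mul_right (hcy'.pow_right j)
          exact hfin.eq.symm
        · intro c hc
          obtain ⟨hc1, hc2⟩ := Subgroup.mem_inf.mp hc
          have hcc := Subgroup.mem_centralizer_iff.mp hc2
          refine Subgroup.mem_inf.mpr ⟨(hmemH₁ c).mpr ⟨hc1, (hcc x hx).symm, (hcc y hy).symm⟩, ?_⟩
          rw [Subgroup.mem_centralizer_iff]
          intro g hg
          exact hcc g (hH₁H hg)
      have hlt : Nat.card H₁ < n := by
        have h1 : Nat.card H₁ * H₁.relIndex H = Nat.card H := by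
          have := Subgroup.relIndex_mul_relIndex ⊥ H₁ H bot_le hH₁H
          rwa [Subgroup.relIndex_bot_left, Subgroup.relIndex_bot_left] at this
        rw [hi, hHn] at h1
        have h2 : 0 < Nat.card H₁ := Nat.card_pos
        have h3 := hp.out.two_le
        have h4 : 4 ≤ p * p := Nat.mul_le_mul h3 h3
        rw [← h1]
        calc Nat.card H₁ < Nat.card H₁ * 4 := by omega
          _ ≤ Nat.card H₁ * (p * p) := Nat.mul_le_mul_left _ h4
      obtain ⟨k, hk⟩ := ih _ hlt H₁ rfl
      refine ⟨k + 1, ?_⟩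
      have hle : H ⊓ Subgroup.centralizer (H : Set P) ≤ H₁ := hZeq ▸ inf_le_left
      rw [← Subgroup.relIndex_mul_relIndex _ H₁ H hle hH₁H, hi, ← hZeq, hk]
      ring

theorem card_extraspecial [Finite P] {p : ℕ} [hp : Fact p.Prime] (h : Cfsg.IsExtraspecial p P) :
    ∃ n : ℕ, 1 ≤ n ∧ Nat.card P = p ^ (2 * n + 1) := by
  obtain ⟨⟨hPp, hfrat, hcomm⟩, hZcard⟩ := h
  have hZc : ∀ x y : P, ⁅x, y⁆ ∈ Subgroup.center P := by
    intro x y
    rw [← hcomm, commutator_def]
    exact Subgroup.commutator_mem_commutator (Subgroup.mem_top x) (Subgroup.mem_top y)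
  obtain ⟨k, hk⟩ := relIndex_center_even (Subgroup.center P) hZcard le_rfl hZc _ ⊤ rfl
  have htop : (⊤ : Subgroup P) ⊓ Subgroup.centralizer ((⊤ : Subgroup P) : Set P) =
      Subgroup.center P := by
    rw [top_inf_eq, Subgroup.coe_top, Subgroup.centralizer_univ]
  rw [htop, Subgroup.relIndex_top_right] at hk
  have hcard : Nat.card P = p ^ (2 * k + 1) := by
    rw [← Subgroup.card_mul_index (Subgroup.center P), hZcard, hk]; ring
  refine ⟨k, ?_, hcard⟩
  by_contra hk0
  have hk0' : k = 0 := by omega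
  rw [hk0', mul_zero, pow_zero, Subgroup.index_eq_one] at hk
  -- center = ⊤ so commutator = ⊥
  have hbot : commutator P = ⊥ := by
    rw [commutator_def, Subgroup.commutator_eq_bot_iff_le_centralizer, Subgroup.coe_top,
      Subgroup.centralizer_univ, hk]
  rw [hcomm] at hbot
  rw [hbot, Subgroup.card_bot] at hZcard
  exact hp.out.one_lt.ne hZcard

end Cfsg.Agent.Lib.Helper1
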