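import Mathlib
import Cfsg.Agent.Lib.Helper1.CoprimeAbelian
import Cfsg.Agent.Lib.Helper1.CoprimeGenCentralizers
import Cfsg.Agent.Lib.Helper1.GlaubermanRepl3
import Cfsg.Agent.Lib.Helper1.AbelianAction
import Cfsg.Agent.Lib.Helper1.Coprime

/-! Conjugate subgroups, hyperplanes of elementary abelian groups acting coprimely on abelian
groups, and the norm map for a cyclic group. -/
set_option autoImplicit false
set_option maxHeartbeats 4000000
set_option linter.unusedVariables false
set_option linter.unusedSectionVars false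
set_option linter.style.longLine false
open scoped commutatorElement

namespace Cfsg.Agent.Lib.Helper1.PL

universe u

variable {X : Type u} [Group X]

/-- the conjugate subgroup `g D g⁻¹` -/
def cj (g : X) (D : Subgroup X) : Subgroup X := D.map (MulAut.conj g).toMonoidHom

theorem mem_cj {g y : X} {D : Subgroup X} : y ∈ cj g D ↔ g⁻¹ * y * g ∈ D := by
  unfold cj
  constructor
  · rintro ⟨d, hd, rfl⟩
    show g⁻¹ * (g * d * g⁻¹) * g ∈ D
    have : g⁻¹ * (g * d * g⁻¹) * g = d := by group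
    rw [this]
    exact hd
  · intro h
    refine ⟨g⁻¹ * y * g, h, ?_⟩
    show g * (g⁻¹ * y * g) * g⁻¹ = y
    group

theorem conj_mem_cj {g d : X} {D : Subgroup X} (hd : d ∈ D) : g * d * g⁻¹ ∈ cj g D := by
  rw [mem_cj]
  have : g⁻¹ * (g * d * g⁻¹) * g = d := by group
  rw [this]
  exact hd

theorem cj_one (D : Subgroup X) : cj 1 D = D := by
  ext y
  rw [mem_cj]
  simp

theorem cj_mul (g h : X) (D : Subgroup X) : cj (g * h) D = cj g (cj h D) := by
  ext y
  rw [mem_cj, mem_cj, mem_cj]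
  have : (g * h)⁻¹ * y * (g * h) = h⁻¹ * (g⁻¹ * y * g) * h := by group
  rw [this]

theorem cj_inv_cj (g : X) (D : Subgroup X) : cj g⁻¹ (cj g D) = D := by
  rw [← cj_mul, inv_mul_cancel, cj_one]

theorem cj_cj_inv (g : X) (D : Subgroup X) : cj g (cj g⁻¹ D) = D := by
  rw [← cj_mul, mul_inv_cancel, cj_one]

theorem cj_mono {g : X} {D E : Subgroup X} (h : D ≤ E) : cj g D ≤ cj g E := Subgroup.map_mono h

theorem cj_injective (g : X) : Function.Injective (cj g) := by
  intro D E h
  have := congrArg (cj g⁻¹) h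
  rwa [cj_inv_cj, cj_inv_cj] at this

theorem cj_eq_self_iff {g : X} {D : Subgroup X} :
    cj g D = D ↔ g ∈ Subgroup.normalizer (D : Set X) := by
  rw [Subgroup.mem_normalizer_iff]
  constructor
  · intro h d
    constructor
    · intro hd
      rw [← h]
      exact conj_mem_cj hd
    · intro hd
      rw [← h, mem_cj] at hd
      have : g⁻¹ * (g * d * g⁻¹) * g = d := by group
      rwa [this] at hd
  · intro h
    ext y
    rw [mem_cj, h (g⁻¹ * y * g)]
    have : g * (g⁻¹ * y * g) * g⁻¹ = y := by group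
    rw [this]

theorem cj_of_mem_normalizer {g : X} {D : Subgroup X}
    (hg : g ∈ Subgroup.normalizer (D : Set X)) : cj g D = D := cj_eq_self_iff.mpr hg

theorem card_cj (g : X) (D : Subgroup X) : Nat.card (cj g D) = Nat.card D :=
  Nat.card_congr
    (D.equivMapOfInjective (MulAut.conj g).toMonoidHom (MulAut.conj g).injective).symm.toEquiv

theorem cj_inf (g : X) (D E : Subgroup X) : cj g (D ⊓ E) = cj g D ⊓ cj g E := by
  ext y
  simp only [mem_cj, Subgroup.mem_inf]

theorem cj_sup (g : X) (D E : Subgroup X) : cj g (D ⊔ E) = cj g D ⊔ cj g E :=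
  Subgroup.map_sup D E _

theorem cj_bot (g : X) : cj g (⊥ : Subgroup X) = ⊥ := Subgroup.map_bot _

theorem cj_eq_bot_iff {g : X} {D : Subgroup X} : cj g D = ⊥ ↔ D = ⊥ := by
  constructor
  · intro h
    apply cj_injective g
    rw [h, cj_bot]
  · rintro rfl
    exact cj_bot g

theorem cj_commutator (g : X) (A B : Subgroup X) : cj g ⁅A, B⁆ = ⁅cj g A, cj g B⁆ :=
  Subgroup.map_commutator A B _

theorem cj_centralizer (g : X) (D : Subgroup X) :
    cj g (Subgroup.centralizer (D : Set X)) = Subgroup.centralizer ((cj g D : Subgroup X) : Set X) := by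
  ext y
  rw [mem_cj, Subgroup.mem_centralizer_iff, Subgroup.mem_centralizer_iff]
  constructor
  · intro h z hz
    have h1 := h _ (mem_cj.mp hz)
    calc z * y = g * ((g⁻¹ * z * g) * (g⁻¹ * y * g)) * g⁻¹ := by group
      _ = g * ((g⁻¹ * y * g) * (g⁻¹ * z * g)) * g⁻¹ := by rw [h1]
      _ = y * z := by group
  · intro h z hz
    have h1 := h _ (conj_mem_cj (g := g) hz)
    calc z * (g⁻¹ * y * g) = g⁻¹ * ((g * z * g⁻¹) * y) * g := by group
      _ = g⁻¹ * (y * (g * z * g⁻¹)) * g := by rw [h1]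
      _ = g⁻¹ * y * g * z := by group

theorem cj_relIndex (g : X) (D A : Subgroup X) : (cj g D).relIndex (cj g A) = D.relIndex A :=
  Subgroup.relIndex_map_map_of_injective D A (MulAut.conj g).injective

theorem cj_zpowers (g y : X) : cj g (Subgroup.zpowers y) = Subgroup.zpowers (g * y * g⁻¹) := by
  unfold cj
  rw [MonoidHom.map_zpowers]
  rfl

/-- normalizing both factors normalizes the commutator -/
theorem mem_normalizer_commutator {g : X} {A B : Subgroup X}
    (hA : g ∈ Subgroup.normalizer (A : Set X)) (hB : g ∈ Subgroup.normalizer (B : Set X)) :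
    g ∈ Subgroup.normalizer ((⁅A, B⁆ : Subgroup X) : Set X) := by
  rw [← cj_eq_self_iff, cj_commutator, cj_of_mem_normalizer hA, cj_of_mem_normalizer hB]

theorem le_normalizer_commutator {C A B : Subgroup X}
    (hA : C ≤ Subgroup.normalizer (A : Set X)) (hB : C ≤ Subgroup.normalizer (B : Set X)) :
    C ≤ Subgroup.normalizer ((⁅A, B⁆ : Subgroup X) : Set X) :=
  fun g hg => mem_normalizer_commutator (hA hg) (hB hg)

theorem mem_normalizer_centralizer {g : X} {A : Subgroup X}
    (hA : g ∈ Subgroup.normalizer (A : Set X)) :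
    g ∈ Subgroup.normalizer ((Subgroup.centralizer (A : Set X) : Subgroup X) : Set X) := by
  rw [← cj_eq_self_iff, cj_centralizer, cj_of_mem_normalizer hA]

theorem le_normalizer_centralizer {C A : Subgroup X}
    (hA : C ≤ Subgroup.normalizer (A : Set X)) :
    C ≤ Subgroup.normalizer ((Subgroup.centralizer (A : Set X) : Subgroup X) : Set X) :=
  fun g hg => mem_normalizer_centralizer (hA hg)

theorem mem_normalizer_inf {g : X} {A B : Subgroup X}
    (hA : g ∈ Subgroup.normalizer (A : Set X)) (hB : g ∈ Subgroup.normalizer (B : Set X)) :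
    g ∈ Subgroup.normalizer ((A ⊓ B : Subgroup X) : Set X) := by
  rw [← cj_eq_self_iff, cj_inf, cj_of_mem_normalizer hA, cj_of_mem_normalizer hB]

theorem mem_normalizer_sup {g : X} {A B : Subgroup X}
    (hA : g ∈ Subgroup.normalizer (A : Set X)) (hB : g ∈ Subgroup.normalizer (B : Set X)) :
    g ∈ Subgroup.normalizer ((A ⊔ B : Subgroup X) : Set X) := by
  rw [← cj_eq_self_iff, cj_sup, cj_of_mem_normalizer hA, cj_of_mem_normalizer hB]

theorem isMulCommutative_of_comm {W : Subgroup X} (hW : ∀ u ∈ W, ∀ v ∈ W, u * v = v * u) :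
    IsMulCommutative W :=
  ⟨⟨fun a b => Subtype.ext (hW a a.2 b b.2)⟩⟩

theorem abelian_le_normalizer {A D : Subgroup X} (hAab : ∀ a ∈ A, ∀ b ∈ A, a * b = b * a)
    (hD : D ≤ A) : A ≤ Subgroup.normalizer (D : Set X) := by
  intro a ha
  rw [Subgroup.mem_normalizer_iff]
  intro d
  constructor
  · intro hd
    rw [hAab a ha d (hD hd), mul_inv_cancel_right]
    exact hd
  · intro hd
    by_contra hnd
    -- a * d * a⁻¹ ∈ D ≤ A so d ∈ A
    have hdA : d ∈ A := by
      have h1 : a * d * a⁻¹ ∈ A := hD hd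
      have h2 : a⁻¹ * (a * d * a⁻¹) * a ∈ A := A.mul_mem (A.mul_mem (A.inv_mem ha) h1) ha
      have h3 : a⁻¹ * (a * d * a⁻¹) * a = d := by group
      rwa [h3] at h2
    rw [hAab a ha d hdA, mul_inv_cancel_right] at hd
    exact hnd hd

theorem abelian_le_centralizer {A D : Subgroup X} (hAab : ∀ a ∈ A, ∀ b ∈ A, a * b = b * a)
    (hD : D ≤ A) : A ≤ Subgroup.centralizer (D : Set X) := by
  intro a ha
  rw [Subgroup.mem_centralizer_iff]
  intro d hd
  exact hAab d (hD hd) a ha

/-! ### hyperplanes -/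

/-- `D` is a subgroup of index `q` in `A` -/
def IsHyp (q : ℕ) (A D : Subgroup X) : Prop := D ≤ A ∧ D.relIndex A = q

theorem IsHyp.cj {q : ℕ} {A D : Subgroup X} (h : IsHyp q A D) {g : X}
    (hg : g ∈ Subgroup.normalizer (A : Set X)) : IsHyp q A (cj g D) := by
  constructor
  · have := cj_mono (g := g) h.1
    rwa [cj_of_mem_normalizer hg] at this
  · have h1 := cj_relIndex g D A
    rw [cj_of_mem_normalizer hg, h.2] at h1
    exact h1

theorem IsHyp.ne {q : ℕ} (hq : q.Prime) {A D : Subgroup X} (h : IsHyp q A D) : D ≠ A := by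
  intro hDA
  have h1 := h.2
  rw [hDA, Subgroup.relIndex_self] at h1
  exact hq.one_lt.ne h1

theorem card_mul_relIndex {D A : Subgroup X} (h : D ≤ A) :
    Nat.card D * D.relIndex A = Nat.card A := by
  have h1 := Subgroup.relIndex_mul_relIndex (⊥ : Subgroup X) D A bot_le h
  rwa [Subgroup.relIndex_bot_left, Subgroup.relIndex_bot_left] at h1

theorem hyp_sup_eq {q : ℕ} (hq : q.Prime) {A D D' : Subgroup X}
    (h : IsHyp q A D) (h' : IsHyp q A D') (hne : D ≠ D') : D ⊔ D' = A := by
  have hle : D ⊔ D' ≤ A := sup_le h.1 h'.1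
  have h1 := Subgroup.relIndex_mul_relIndex D (D ⊔ D') A le_sup_left hle
  rw [h.2] at h1
  rcases (Nat.dvd_prime hq).mp (Dvd.intro _ h1) with h2 | h2
  · exfalso
    have h3 : D ⊔ D' ≤ D := Subgroup.relIndex_eq_one.mp h2
    have h4 : D' ≤ D := le_sup_right.trans h3
    apply hne
    have h5 := Subgroup.relIndex_mul_relIndex D' D A h4 h.1
    rw [h.2, h'.2] at h5
    have h6 : D'.relIndex D = 1 := by
      apply Nat.eq_of_mul_eq_mul_right hq.pos
      rw [h5, one_mul]
    exact le_antisymm (Subgroup.relIndex_eq_one.mp h6) h4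
  · rw [h2] at h1
    have h3 : (D ⊔ D').relIndex A = 1 := by
      apply Nat.eq_of_mul_eq_mul_left hq.pos
      rw [h1, mul_one]
    exact le_antisymm hle (Subgroup.relIndex_eq_one.mp h3)

theorem hyp_indep [Finite X] {q : ℕ} (hq : q.Prime) {A W D D' : Subgroup X}
    (hAab : ∀ a ∈ A, ∀ b ∈ A, a * b = b * a) (hWab : ∀ u ∈ W, ∀ v ∈ W, u * v = v * u)
    (hAW : A ≤ Subgroup.normalizer (W : Set X)) (hcop : (Nat.card A).Coprime (Nat.card W))
    (hCW : W ⊓ Subgroup.centralizer (A : Set X) = ⊥)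
    (h : IsHyp q A D) (h' : IsHyp q A D') (hne : D ≠ D') :
    W ⊓ Subgroup.centralizer (D' : Set X) ≤ ⁅W, D⁆ ∧
      (W ⊓ Subgroup.centralizer (D : Set X)) ⊓ ⁅W, D⁆ = ⊥ := by
  have hWc : IsMulCommutative W := isMulCommutative_of_comm hWab
  have hDW : D ≤ Subgroup.normalizer (W : Set X) := h.1.trans hAW
  have hcopD : (Nat.card D).Coprime (Nat.card W) :=
    Nat.Coprime.coprime_dvd_left (Subgroup.card_dvd_of_le h.1) hcop
  refine ⟨?_, (coprime_abelian_decomposition D W hDW hcopD).1⟩
  obtain ⟨W', hW'⟩ : ∃ W' : Subgroup X, W' = W ⊓ Subgroup.centralizer (D' : Set X) := ⟨_, rfl⟩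
  rw [← hW']
  have hW'W : W' ≤ W := by rw [hW']; exact inf_le_left
  have hW'ab : ∀ u ∈ W', ∀ v ∈ W', u * v = v * u := fun u hu v hv => hWab u (hW'W hu) v (hW'W hv)
  have hW'c : IsMulCommutative W' := isMulCommutative_of_comm hW'ab
  have hDD' : D ≤ Subgroup.normalizer ((Subgroup.centralizer (D' : Set X) : Subgroup X) : Set X) :=
    le_normalizer_centralizer (h.1.trans (abelian_le_normalizer hAab h'.1))
  have hDW' : D ≤ Subgroup.normalizer (W' : Set X) := by
    rw [hW']
    exact le_normalizer_inf hDW hDD'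
  have hcopD' : (Nat.card D).Coprime (Nat.card W') :=
    Nat.Coprime.coprime_dvd_right (Subgroup.card_dvd_of_le hW'W) hcopD
  have h2 := (coprime_abelian_decomposition D W' hDW' hcopD').2
  have h3 : W' ⊓ Subgroup.centralizer (D : Set X) = ⊥ := by
    rw [eq_bot_iff, ← hCW, hW', ← hyp_sup_eq hq h h' hne, centralizer_sup_eq]
    intro y hy
    obtain ⟨⟨hy1, hy2⟩, hy3⟩ := hy
    exact ⟨hy1, hy3, hy2⟩
  rw [h3, bot_sup_eq] at h2
  rw [← h2]
  exact Subgroup.commutator_mono hW'W le_rfl

end Cfsg.Agent.Lib.Helper1.PL
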