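import Mathlib
import Cfsg.Agent.Lib.Helper1.PL1
import Cfsg.Agent.Lib.Helper1.FM15
import Cfsg.Agent.Lib.Helper1.CoprimeSylow

/-! Existence of hyperplanes with nontrivial centralizer, the norm map, small lemmas. -/
set_option autoImplicit false
set_option maxHeartbeats 4000000
set_option linter.unusedVariables false
set_option linter.unusedSectionVars false
set_option linter.style.longLine false
open scoped commutatorElement

namespace Cfsg.Agent.Lib.Helper1.PL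

universe u

variable {X : Type u} [Group X]

theorem cj_inf_centralizer {g : X} {W : Subgroup X} (D : Subgroup X)
    (hgW : g ∈ Subgroup.normalizer (W : Set X)) :
    cj g (W ⊓ Subgroup.centralizer (D : Set X)) =
      W ⊓ Subgroup.centralizer ((cj g D : Subgroup X) : Set X) := by
  rw [cj_inf, cj_of_mem_normalizer hgW, cj_centralizer]

theorem exists_hyp [Finite X] {q : ℕ} (hq : q.Prime) {A W : Subgroup X}
    (hAab : ∀ a ∈ A, ∀ b ∈ A, a * b = b * a) (hAexp : ∀ a ∈ A, a ^ q = 1)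
    (hWab : ∀ u ∈ W, ∀ v ∈ W, u * v = v * u)
    (hAW : A ≤ Subgroup.normalizer (W : Set X)) (hcop : (Nat.card A).Coprime (Nat.card W))
    (a : X) (haA : a ∈ A) (haW : a ∉ Subgroup.centralizer (W : Set X)) :
    ∃ D, IsHyp q A D ∧ a ∉ D ∧ W ⊓ Subgroup.centralizer (D : Set X) ≠ ⊥ := by
  classical
  have hqf : Fact q.Prime := ⟨hq⟩
  have hWc : IsMulCommutative W := isMulCommutative_of_comm hWab
  have hAc : IsMulCommutative A := isMulCommutative_of_comm hAab
  obtain ⟨Za, hZa⟩ : ∃ Za : Subgroup X, Za = Subgroup.zpowers a := ⟨_, rfl⟩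
  have hZaA : Za ≤ A := by rw [hZa, Subgroup.zpowers_le]; exact haA
  have hZaW : Za ≤ Subgroup.normalizer (W : Set X) := hZaA.trans hAW
  have hcopZ : (Nat.card Za).Coprime (Nat.card W) :=
    Nat.Coprime.coprime_dvd_left (Subgroup.card_dvd_of_le hZaA) hcop
  obtain ⟨W₁, hW₁⟩ : ∃ W₁ : Subgroup X, W₁ = ⁅W, Za⁆ := ⟨_, rfl⟩
  have hW₁W : W₁ ≤ W := by
    rw [hW₁]
    exact Subgroup.le_normalizer_iff_commutator_le_left.mp hZaW
  have hW₁ne : W₁ ≠ ⊥ := by
    intro h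
    rw [hW₁, Subgroup.commutator_eq_bot_iff_le_centralizer] at h
    apply haW
    rw [Subgroup.mem_centralizer_iff]
    intro w hw
    have := Subgroup.mem_centralizer_iff.mp (h hw) a (by rw [hZa]; exact Subgroup.mem_zpowers a)
    exact this.symm
  have hAW₁ : A ≤ Subgroup.normalizer (W₁ : Set X) := by
    rw [hW₁]
    exact le_normalizer_commutator hAW (abelian_le_normalizer hAab hZaA)
  have hCW₁ : W₁ ⊓ Subgroup.centralizer (Za : Set X) = ⊥ := by
    have := (coprime_abelian_decomposition Za W hZaW hcopZ).1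
    rw [eq_bot_iff, ← this]
    intro y hy
    exact ⟨⟨hW₁W hy.1, hy.2⟩, by rw [← hW₁]; exact hy.1⟩
  let P : ℕ → Prop := fun n => ∃ M : Subgroup X, M ≤ W₁ ∧ M ≠ ⊥ ∧
    A ≤ Subgroup.normalizer (M : Set X) ∧ Nat.card M = n
  have hP : ∃ n, P n := ⟨_, W₁, le_rfl, hW₁ne, hAW₁, rfl⟩
  obtain ⟨M, hMW₁, hMne, hAM, hMn⟩ := Nat.find_spec hP
  have hmin : ∀ M' : Subgroup X, M' ≤ W₁ → M' ≠ ⊥ → A ≤ Subgroup.normalizer (M' : Set X) →
      Nat.card M ≤ Nat.card M' := by
    intro M' h1 h2 h3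
    rw [hMn]
    exact Nat.find_min' hP ⟨M', h1, h2, h3, rfl⟩
  obtain ⟨D, hD⟩ : ∃ D : Subgroup X, D = A ⊓ Subgroup.centralizer (M : Set X) := ⟨_, rfl⟩
  have hDA : D ≤ A := by rw [hD]; exact inf_le_left
  have hDM : D ≤ Subgroup.centralizer (M : Set X) := by rw [hD]; exact inf_le_right
  have hkey : ∀ b ∈ A, b ∉ D → M ⊓ Subgroup.centralizer ({b} : Set X) = ⊥ := by
    intro b hbA hbD
    by_contra hne
    have h1 : A ≤ Subgroup.normalizer ((M ⊓ Subgroup.centralizer ({b} : Set X) : Subgroup X) : Set X) := by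
      rw [← FM.inf_centralizer_zpowers]
      exact le_normalizer_inf hAM (le_normalizer_centralizer
        (abelian_le_normalizer hAab (Subgroup.zpowers_le.mpr hbA)))
    have h2 := hmin _ (inf_le_left.trans hMW₁) hne h1
    have h3 : M ⊓ Subgroup.centralizer ({b} : Set X) = M :=
      Subgroup.eq_of_le_of_card_ge inf_le_left h2
    apply hbD
    rw [hD]
    refine Subgroup.mem_inf.mpr ⟨hbA, ?_⟩
    rw [Subgroup.mem_centralizer_iff]
    intro m hm
    have h4 : m ∈ M ⊓ Subgroup.centralizer ({b} : Set X) := by rw [h3]; exact hm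
    exact (Subgroup.mem_centralizer_iff.mp h4.2 b rfl).symm
  have haD : a ∉ D := by
    intro h
    apply hMne
    rw [eq_bot_iff, ← hCW₁]
    intro m hm
    refine Subgroup.mem_inf.mpr ⟨hMW₁ hm, ?_⟩
    rw [Subgroup.mem_centralizer_iff]
    intro y hy
    rw [hZa] at hy
    obtain ⟨k, rfl⟩ := Subgroup.mem_zpowers_iff.mp hy
    have hc : Commute a m := (Subgroup.mem_centralizer_iff.mp (hDM h) m hm).symm
    exact hc.zpow_left k
  have hcyc : ∃ a' ∈ A, D ⊔ Subgroup.zpowers a' = A := by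
    by_contra hnc
    obtain ⟨r', hr', x', hx'A, y', hy'A, hx'r, hy'r, hx'D, hxy⟩ :=
      Cfsg.Agent.Lib.Helper2.exists_noncyclic_pair A D hDA hnc
    have hr'f : Fact r'.Prime := ⟨hr'⟩
    have hcopM : (Nat.card A).Coprime (Nat.card M) :=
      Nat.Coprime.coprime_dvd_right (Subgroup.card_dvd_of_le (hMW₁.trans hW₁W)) hcop
    have hx'1 : x' ≠ 1 := fun h => hx'D (h ▸ D.one_mem)
    have hord : orderOf x' = q := orderOf_eq_prime (hAexp x' hx'A) hx'1
    have hrq : r' = q := by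
      by_contra hne
      have hcop' : r'.Coprime (orderOf x') := by
        rw [hord]
        exact (Nat.coprime_primes hr' hq).mpr hne
      obtain ⟨m, hm⟩ := exists_pow_eq_self_of_coprime hcop'
      apply hx'D
      rw [← hm]
      exact D.pow_mem hx'r m
    have hqA : q ∣ Nat.card A := by
      rw [← hord]
      exact Subgroup.orderOf_dvd_natCard A hx'A
    have hrM : (Nat.card M).Coprime r' := by
      rw [hrq]
      exact (Nat.Coprime.coprime_dvd_left hqA hcopM).symm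
    have h0 := Cfsg.Agent.Lib.Helper2.gen_general A M hAM hcopM hrM x' y' hx'A hy'A
      (hDM hx'r) (hDM hy'r) ⊥ (by rw [hkey x' hx'A hx'D])
      (fun j => by rw [hkey _ (A.mul_mem (A.pow_mem hx'A j) hy'A) (hxy j)])
    exact hMne (eq_bot_iff.mpr h0)
  obtain ⟨a', ha'A, ha'⟩ := hcyc
  have ha'D : a' ∉ D := by
    intro h
    apply haD
    have h1 : D ⊔ Subgroup.zpowers a' = D := sup_eq_left.mpr (Subgroup.zpowers_le.mpr h)
    rw [h1] at ha'
    rw [ha']
    exact haA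
  refine ⟨D, ⟨hDA, ?_⟩, haD, ?_⟩
  · have ha'1 : a' ≠ 1 := fun h => ha'D (h ▸ D.one_mem)
    have hord : orderOf a' = q := orderOf_eq_prime (hAexp a' ha'A) ha'1
    have hcardZ : Nat.card (Subgroup.zpowers a') = q := by rw [Nat.card_zpowers, hord]
    have hinf : Subgroup.zpowers a' ⊓ D = ⊥ := by
      by_contra hne
      have h1 : Nat.card ↥(Subgroup.zpowers a' ⊓ D) ∣ q := by
        rw [← hcardZ]
        exact Subgroup.card_dvd_of_le inf_le_left
      rcases (Nat.dvd_prime hq).mp h1 with h2 | h2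
      · exact hne (Subgroup.card_eq_one.mp h2)
      · have h3 : Subgroup.zpowers a' ⊓ D = Subgroup.zpowers a' :=
          Subgroup.eq_of_le_of_card_ge inf_le_left (by rw [h2, hcardZ])
        apply ha'D
        have h4 : a' ∈ Subgroup.zpowers a' ⊓ D := by rw [h3]; exact Subgroup.mem_zpowers a'
        exact h4.2
    have h1 := GlaubermanRepl.card_sup_mul_card_inf_of_le_normalizer (Subgroup.zpowers a') D
      ((Subgroup.zpowers_le.mpr ha'A).trans (abelian_le_normalizer hAab hDA))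
    rw [hinf, Subgroup.card_bot, mul_one, sup_comm, ha', hcardZ] at h1
    have h2 := card_mul_relIndex hDA
    rw [h1, mul_comm] at h2
    exact Nat.eq_of_mul_eq_mul_right Nat.card_pos h2
  · intro h
    apply hMne
    rw [eq_bot_iff, ← h]
    intro m hm
    refine Subgroup.mem_inf.mpr ⟨hW₁W (hMW₁ hm), ?_⟩
    rw [Subgroup.mem_centralizer_iff]
    intro d hd
    exact (Subgroup.mem_centralizer_iff.mp (hDM hd) m hm).symm

/-! ### the norm map -/

/-- ordered product of the first `k` conjugates of `w` under powers of `x` -/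
def nrm (x w : X) : ℕ → X
  | 0 => 1
  | (k + 1) => nrm x w k * (x ^ k * w * (x ^ k)⁻¹)

theorem nrm_zero (x w : X) : nrm x w 0 = 1 := rfl

theorem nrm_succ (x w : X) (k : ℕ) : nrm x w (k + 1) = nrm x w k * (x ^ k * w * (x ^ k)⁻¹) := rfl

theorem conj_pow_mem {W : Subgroup X} {x w : X} (hxW : x ∈ Subgroup.normalizer (W : Set X))
    (hw : w ∈ W) (k : ℕ) : x ^ k * w * (x ^ k)⁻¹ ∈ W :=
  (Subgroup.mem_normalizer_iff.mp (Subgroup.pow_mem _ hxW k) w).mp hw

theorem nrm_mem {W : Subgroup X} {x w : X} (hxW : x ∈ Subgroup.normalizer (W : Set X))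
    (hw : w ∈ W) (k : ℕ) : nrm x w k ∈ W := by
  induction k with
  | zero => exact W.one_mem
  | succ k ih => exact W.mul_mem ih (conj_pow_mem hxW hw k)

theorem nrm_mul {W : Subgroup X} (hWab : ∀ u ∈ W, ∀ v ∈ W, u * v = v * u) {x w₁ w₂ : X}
    (hxW : x ∈ Subgroup.normalizer (W : Set X)) (hw₁ : w₁ ∈ W) (hw₂ : w₂ ∈ W) (k : ℕ) :
    nrm x (w₁ * w₂) k = nrm x w₁ k * nrm x w₂ k := by
  induction k with
  | zero => simp [nrm]
  | succ k ih =>
    rw [nrm_succ, nrm_succ, nrm_succ, ih]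
    have e : x ^ k * (w₁ * w₂) * (x ^ k)⁻¹ =
        (x ^ k * w₁ * (x ^ k)⁻¹) * (x ^ k * w₂ * (x ^ k)⁻¹) := by group
    rw [e]
    have hc := hWab _ (nrm_mem hxW hw₂ k) _ (conj_pow_mem hxW hw₁ k)
    calc nrm x w₁ k * nrm x w₂ k * ((x ^ k * w₁ * (x ^ k)⁻¹) * (x ^ k * w₂ * (x ^ k)⁻¹))
        = nrm x w₁ k * (nrm x w₂ k * (x ^ k * w₁ * (x ^ k)⁻¹)) * (x ^ k * w₂ * (x ^ k)⁻¹) := by
          simp only [mul_assoc]
      _ = nrm x w₁ k * ((x ^ k * w₁ * (x ^ k)⁻¹) * nrm x w₂ k) * (x ^ k * w₂ * (x ^ k)⁻¹) := by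
          rw [hc]
      _ = nrm x w₁ k * (x ^ k * w₁ * (x ^ k)⁻¹) * (nrm x w₂ k * (x ^ k * w₂ * (x ^ k)⁻¹)) := by
          simp only [mul_assoc]

theorem nrm_one (x : X) (k : ℕ) : nrm x 1 k = 1 := by
  induction k with
  | zero => rfl
  | succ k ih => rw [nrm_succ, ih]; simp

theorem nrm_inv {W : Subgroup X} (hWab : ∀ u ∈ W, ∀ v ∈ W, u * v = v * u) {x w : X}
    (hxW : x ∈ Subgroup.normalizer (W : Set X)) (hw : w ∈ W) (k : ℕ) :
    nrm x w⁻¹ k = (nrm x w k)⁻¹ := by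
  have h := nrm_mul hWab hxW hw (W.inv_mem hw) k
  rw [mul_inv_cancel, nrm_one] at h
  exact eq_inv_of_mul_eq_one_right h.symm

theorem nrm_pow {W : Subgroup X} (hWab : ∀ u ∈ W, ∀ v ∈ W, u * v = v * u) {x w : X}
    (hxW : x ∈ Subgroup.normalizer (W : Set X)) (hw : w ∈ W) (m k : ℕ) :
    nrm x (w ^ m) k = (nrm x w k) ^ m := by
  induction m with
  | zero => rw [pow_zero, pow_zero, nrm_one]
  | succ m ih => rw [pow_succ, pow_succ, nrm_mul hWab hxW (W.pow_mem hw m) hw, ih]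

theorem nrm_head (x w : X) (k : ℕ) : nrm x w (k + 1) = w * (x * nrm x w k * x⁻¹) := by
  induction k with
  | zero => simp [nrm]
  | succ k ih =>
    conv_lhs => rw [nrm_succ x w (k + 1), ih]
    conv_rhs => rw [nrm_succ x w k]
    rw [pow_succ']
    group

theorem nrm_comm {W : Subgroup X} (hWab : ∀ u ∈ W, ∀ v ∈ W, u * v = v * u) {x w : X}
    (hxW : x ∈ Subgroup.normalizer (W : Set X)) (hw : w ∈ W) {r : ℕ} (hxr : x ^ r = 1) :
    x * nrm x w r = nrm x w r * x := by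
  have h1 := nrm_head x w r
  have h2 : nrm x w (r + 1) = nrm x w r * w := by
    rw [nrm_succ, hxr, one_mul, inv_one, mul_one]
  rw [h2] at h1
  have hn := nrm_mem hxW hw r
  rw [hWab _ hn _ hw] at h1
  have h4 := mul_left_cancel h1
  calc x * nrm x w r = (x * nrm x w r * x⁻¹) * x := by group
    _ = nrm x w r * x := by rw [← h4]

theorem nrm_tail {P : Subgroup X} {x w : X} {r : ℕ}
    (hP : ∀ i, 0 < i → i < r → x ^ i * w * (x ^ i)⁻¹ ∈ P) :
    ∀ k, k < r → ∃ t ∈ P, nrm x w (k + 1) = w * t := by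
  intro k
  induction k with
  | zero =>
    intro _
    exact ⟨1, P.one_mem, by simp [nrm]⟩
  | succ k ih =>
    intro hk
    obtain ⟨t, ht, h⟩ := ih (by omega)
    refine ⟨t * (x ^ (k + 1) * w * (x ^ (k + 1))⁻¹), P.mul_mem ht (hP (k + 1) (by omega) hk), ?_⟩
    rw [nrm_succ x w (k + 1), h, mul_assoc]

theorem nrm_mem_of {B : Subgroup X} {x w : X} (k : ℕ)
    (h : ∀ i, i < k → x ^ i * w * (x ^ i)⁻¹ ∈ B) : nrm x w k ∈ B := by
  induction k with
  | zero => exact B.one_mem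
  | succ k ih =>
    rw [nrm_succ]
    exact B.mul_mem (ih (fun i hi => h i (by omega))) (h k (by omega))

theorem nrm_inj {W U P : Subgroup X} (hWab : ∀ u ∈ W, ∀ v ∈ W, u * v = v * u) {x : X}
    (hxW : x ∈ Subgroup.normalizer (W : Set X)) (hUW : U ≤ W) (hUP : U ⊓ P = ⊥) {r : ℕ}
    (hr : 0 < r) (hP : ∀ i, 0 < i → i < r → ∀ u ∈ U, x ^ i * u * (x ^ i)⁻¹ ∈ P)
    {u₁ u₂ : X} (h₁ : u₁ ∈ U) (h₂ : u₂ ∈ U) (h : nrm x u₁ r = nrm x u₂ r) : u₁ = u₂ := by
  have hu : u₁ * u₂⁻¹ ∈ U := U.mul_mem h₁ (U.inv_mem h₂)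
  have h3 : nrm x (u₁ * u₂⁻¹) r = 1 := by
    rw [nrm_mul hWab hxW (hUW h₁) (W.inv_mem (hUW h₂)), nrm_inv hWab hxW (hUW h₂), h,
      mul_inv_cancel]
  obtain ⟨k, rfl⟩ : ∃ k, r = k + 1 := ⟨r - 1, by omega⟩
  obtain ⟨t, ht, h4⟩ := nrm_tail (P := P) (fun i hi hi' => hP i hi hi' _ hu) k (by omega)
  rw [h3] at h4
  have h5 : u₁ * u₂⁻¹ = t⁻¹ := eq_inv_of_mul_eq_one_left h4.symm
  have h6 : u₁ * u₂⁻¹ ∈ U ⊓ P := ⟨hu, by rw [h5]; exact P.inv_mem ht⟩
  rw [hUP, Subgroup.mem_bot] at h6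
  exact mul_inv_eq_one.mp h6

theorem nrm_ne_one {W U P : Subgroup X} (hWab : ∀ u ∈ W, ∀ v ∈ W, u * v = v * u) {x : X}
    (hxW : x ∈ Subgroup.normalizer (W : Set X)) (hUW : U ≤ W) (hUP : U ⊓ P = ⊥) {r : ℕ}
    (hr : 0 < r) (hP : ∀ i, 0 < i → i < r → ∀ u ∈ U, x ^ i * u * (x ^ i)⁻¹ ∈ P)
    {u : X} (hu : u ∈ U) (hu1 : u ≠ 1) : nrm x u r ≠ 1 := by
  intro h
  apply hu1
  apply nrm_inj hWab hxW hUW hUP hr hP hu U.one_mem
  rw [h, nrm_one]

/-- a `p`-group normalizing a group of order `p` centralizes it -/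
theorem centralizes_of_card_prime [Finite X] {p : ℕ} [hp : Fact p.Prime] {T N : Subgroup X}
    (hT : IsPGroup p T) (hTN : T ≤ Subgroup.normalizer (N : Set X)) (hN : Nat.card N = p) :
    T ≤ Subgroup.centralizer (N : Set X) := by
  classical
  let _ := conjActOfLeNormalizer T N hTN
  have h1 := hT.card_modEq_card_fixedPoints (↥N)
  have h2 : p ∣ Nat.card (MulAction.fixedPoints ↥T ↥N) := by
    rw [hN] at h1
    unfold Nat.ModEq at h1
    rw [Nat.mod_self] at h1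
    exact Nat.dvd_of_mod_eq_zero h1.symm
  have h3 : (1 : ↥N) ∈ MulAction.fixedPoints ↥T ↥N := by
    intro g
    exact smul_one g
  have hall : ∀ n : ↥N, n ∈ MulAction.fixedPoints ↥T ↥N := by
    intro n
    by_contra hn
    have _ : Fintype ↥N := Fintype.ofFinite _
    have h4 : Fintype.card {y : ↥N // y ∈ MulAction.fixedPoints ↥T ↥N} < Fintype.card ↥N :=
      Fintype.card_subtype_lt hn
    rw [← Nat.card_eq_fintype_card, ← Nat.card_eq_fintype_card, hN] at h4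
    have h5 : 0 < Nat.card {y : ↥N // y ∈ MulAction.fixedPoints ↥T ↥N} := by
      have : Nonempty {y : ↥N // y ∈ MulAction.fixedPoints ↥T ↥N} := ⟨⟨1, h3⟩⟩
      exact Nat.card_pos
    have h6 := Nat.le_of_dvd h5 h2
    omega
  intro t ht
  rw [Subgroup.mem_centralizer_iff]
  intro n hn
  have h4 := hall ⟨n, hn⟩ ⟨t, ht⟩
  have h5 : t * n * t⁻¹ = n := congrArg Subtype.val h4
  rw [mul_inv_eq_iff_eq_mul] at h5
  exact h5.symm

end Cfsg.Agent.Lib.Helper1.PL
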