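import Mathlib
import Cfsg.Agent.Lib.Helper1.PL1
import Cfsg.Agent.Lib.Helper1.PL2
import Cfsg.Agent.Lib.Helper1.Coprime
import Cfsg.Agent.Lib.Helper1.CoprimeAbelian

/-! Endgame for the `p`-length theorem for `[H, R]`: the critical configuration `Crit`
(`V` elementary abelian `p`-group, acted on faithfully by `Q S` with `Q` a `q`-group, `S` a
`p`-group, and `x` of prime order `r` acting fixed-point-freely and irreducibly on `S`), basic
consequences, and the contradiction when `Q` is abelian. -/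

set_option autoImplicit false
set_option maxHeartbeats 4000000
set_option linter.unusedVariables false
set_option linter.unusedSectionVars false
set_option linter.style.longLine false

open scoped commutatorElement

namespace Cfsg.Agent.Lib.Helper1.PL

universe u

variable {X : Type u} [Group X]

/-! ### small helpers -/

theorem mem_nz_of_conj {C : Subgroup X} {g : X} (key1 : ∀ c ∈ C, g * c * g⁻¹ ∈ C)
    (key2 : ∀ c ∈ C, g⁻¹ * c * g ∈ C) : g ∈ Subgroup.normalizer (C : Set X) := by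
  rw [Subgroup.mem_normalizer_iff]
  intro c
  constructor
  · exact key1 c
  · intro hc'
    have := key2 _ hc'
    have h6 : g⁻¹ * (g * c * g⁻¹) * g = c := by group
    rwa [h6] at this

theorem exists_mem_ne_one {H : Subgroup X} (h : H ≠ ⊥) : ∃ u ∈ H, u ≠ 1 := by
  obtain ⟨⟨u, hu⟩, hne⟩ := (Subgroup.ne_bot_iff_exists_ne_one).mp h
  exact ⟨u, hu, fun e => hne (Subtype.ext e)⟩

theorem eq_one_of_inf_bot {A B : Subgroup X} (h : A ⊓ B = ⊥) {u : X} (ha : u ∈ A) (hb : u ∈ B) :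
    u = 1 := by
  have : u ∈ A ⊓ B := Subgroup.mem_inf.mpr ⟨ha, hb⟩
  rwa [h, Subgroup.mem_bot] at this

theorem mem_centralizer_zpowers {x a : X} :
    a ∈ Subgroup.centralizer ((Subgroup.zpowers x : Subgroup X) : Set X) ↔ x * a = a * x := by
  rw [Subgroup.mem_centralizer_iff]
  constructor
  · intro h
    exact h x (Subgroup.mem_zpowers x)
  · intro h y hy
    obtain ⟨k, rfl⟩ := Subgroup.mem_zpowers_iff.mp hy
    exact ((show Commute x a from h).zpow_left k).eq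

theorem mem_normalizer_cj_iff {D : Subgroup X} {g h : X} :
    g ∈ Subgroup.normalizer ((cj h D : Subgroup X) : Set X) ↔
      h⁻¹ * g * h ∈ Subgroup.normalizer (D : Set X) := by
  rw [← cj_eq_self_iff, ← cj_eq_self_iff, ← cj_mul]
  constructor
  · intro hh
    have h2 := congrArg (cj h⁻¹) hh
    rw [← cj_mul, cj_inv_cj] at h2
    have e : h⁻¹ * (g * h) = h⁻¹ * g * h := by group
    rw [← e]
    exact h2
  · intro hh
    have h2 := congrArg (cj h) hh
    rw [← cj_mul] at h2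
    have e : h * (h⁻¹ * g * h) = g * h := by group
    rw [e] at h2
    exact h2

theorem cj_conj (g s : X) (D : Subgroup X) : cj (g * s * g⁻¹) (cj g D) = cj g (cj s D) := by
  rw [← cj_mul, ← cj_mul]
  have e : g * s * g⁻¹ * g = g * s := by group
  rw [e]

theorem pow_gen {x : X} {r : ℕ} (hr : r.Prime) (hx : orderOf x = r) {i : ℕ} (hi0 : 0 < i)
    (hir : i < r) : ∃ m : ℕ, (x ^ i) ^ m = x := by
  apply exists_pow_eq_self_of_coprime
  rw [hx]
  exact ((Nat.Prime.coprime_iff_not_dvd hr).mpr (Nat.not_dvd_of_pos_of_lt hi0 hir)).symm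

theorem not_mem_normalizer_pow {x : X} {r : ℕ} (hr : r.Prime) (hx : orderOf x = r)
    {D : Subgroup X} (hxD : x ∉ Subgroup.normalizer (D : Set X)) {i : ℕ} (hi0 : 0 < i)
    (hir : i < r) : x ^ i ∉ Subgroup.normalizer (D : Set X) := by
  intro h
  obtain ⟨m, hm⟩ := pow_gen hr hx hi0 hir
  apply hxD
  rw [← hm]
  exact Subgroup.pow_mem _ h m

theorem gen_of_ne_one [Finite X] {x y : X} {r : ℕ} (hr : r.Prime) (hx : orderOf x = r)
    (hy : y ∈ Subgroup.zpowers x) (hy1 : y ≠ 1) : x ∈ Subgroup.zpowers y := by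
  have hle : Subgroup.zpowers y ≤ Subgroup.zpowers x := Subgroup.zpowers_le.mpr hy
  have hcx : Nat.card (Subgroup.zpowers x) = r := by rw [Nat.card_zpowers, hx]
  have hdvd : Nat.card (Subgroup.zpowers y) ∣ r := hcx ▸ Subgroup.card_dvd_of_le hle
  rcases (Nat.dvd_prime hr).mp hdvd with h1 | h1
  · exfalso
    apply hy1
    exact Subgroup.zpowers_eq_bot.mp (Subgroup.card_eq_one.mp h1)
  · have e : Subgroup.zpowers y = Subgroup.zpowers x :=
      Subgroup.eq_of_le_of_card_ge hle (by rw [hcx, h1])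
    rw [e]
    exact Subgroup.mem_zpowers x

theorem isCyclic_of_gen {U : Subgroup X} {u₀ : X} (hu₀ : u₀ ∈ U)
    (hgen : ∀ u ∈ U, ∃ m : ℕ, u = u₀ ^ m) : IsCyclic ↥U := by
  refine ⟨⟨⟨u₀, hu₀⟩, fun u => ?_⟩⟩
  obtain ⟨m, hm⟩ := hgen u u.2
  refine ⟨(m : ℤ), ?_⟩
  show (⟨u₀, hu₀⟩ : ↥U) ^ (m : ℤ) = u
  apply Subtype.ext
  rw [Subgroup.coe_zpow, zpow_natCast]
  exact hm.symm

/-- the automorphism group of a cyclic group is abelian -/
theorem aut_cyclic_comm {N : Subgroup X} [hN : IsCyclic ↥N] {a b : X}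
    (ha : a ∈ Subgroup.normalizer (N : Set X)) (hb : b ∈ Subgroup.normalizer (N : Set X)) :
    ⁅a, b⁆ ∈ Subgroup.centralizer (N : Set X) := by
  let _ := (hN.mulAutMulEquiv _).toMonoidHom.commGroupOfInjective (hN.mulAutMulEquiv _).injective
  have h1 : (⁅(⟨a, ha⟩ : ↥(Subgroup.normalizer (N : Set X))), ⟨b, hb⟩⁆) ∈
      N.normalizerMonoidHom.ker := by
    rw [MonoidHom.mem_ker, map_commutatorElement]
    exact commutatorElement_eq_one_iff_commute.mpr (Commute.all _ _)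
  rw [Subgroup.normalizerMonoidHom_ker, Subgroup.mem_subgroupOf] at h1
  exact h1

theorem frob_surj [Finite X] {S : Subgroup X} {y : X}
    (hyS : y ∈ Subgroup.normalizer (S : Set X)) (hfpf : ∀ s ∈ S, y * s = s * y → s = 1)
    (g : X) (hg : g ∈ S) : ∃ h₀ ∈ S, y * h₀⁻¹ * y⁻¹ * h₀ = g := by
  have hmem : ∀ s : ↥S, y * (s : X)⁻¹ * y⁻¹ * s ∈ S := fun s =>
    S.mul_mem ((Subgroup.mem_normalizer_iff.mp hyS _).mp (S.inv_mem s.2)) s.2
  have hinj : Function.Injective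
      (fun s : ↥S => (⟨y * (s : X)⁻¹ * y⁻¹ * s, hmem s⟩ : ↥S)) := by
    intro s k hsk
    have e : y * (s : X)⁻¹ * y⁻¹ * s = y * (k : X)⁻¹ * y⁻¹ * k := congrArg Subtype.val hsk
    have e1 : (s : X)⁻¹ * y * s = (k : X)⁻¹ * y * k := by
      have h1 : (y * (s : X)⁻¹ * y⁻¹ * s)⁻¹ = (y * (k : X)⁻¹ * y⁻¹ * k)⁻¹ := by rw [e]
      have h2 : (s : X)⁻¹ * y * s = (y * (s : X)⁻¹ * y⁻¹ * s)⁻¹ * y := by group
      have h3 : (k : X)⁻¹ * y * k = (y * (k : X)⁻¹ * y⁻¹ * k)⁻¹ * y := by group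
      rw [h2, h3, h1]
    have e2 : y * ((k : X) * (s : X)⁻¹) = ((k : X) * (s : X)⁻¹) * y := by
      calc y * ((k : X) * (s : X)⁻¹) = (k : X) * ((k : X)⁻¹ * y * k) * (s : X)⁻¹ := by group
        _ = (k : X) * ((s : X)⁻¹ * y * s) * (s : X)⁻¹ := by rw [e1]
        _ = ((k : X) * (s : X)⁻¹) * y := by group
    have h4 := hfpf _ (S.mul_mem k.2 (S.inv_mem s.2)) e2
    have h5 : (k : X) = s := mul_inv_eq_one.mp h4
    exact Subtype.ext h5.symm
  obtain ⟨h₀, hh₀⟩ := (Finite.injective_iff_surjective.mp hinj) ⟨g, hg⟩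
  exact ⟨h₀, h₀.2, congrArg Subtype.val hh₀⟩

/-- the elements of order dividing `q` in an abelian subgroup -/
def omegaSub (q : ℕ) (Q : Subgroup X) (hQab : ∀ a ∈ Q, ∀ b ∈ Q, a * b = b * a) : Subgroup X where
  carrier := {a | a ∈ Q ∧ a ^ q = 1}
  one_mem' := ⟨Q.one_mem, one_pow _⟩
  mul_mem' := by
    rintro a b ⟨ha, ha'⟩ ⟨hb, hb'⟩
    refine ⟨Q.mul_mem ha hb, ?_⟩
    have hc : Commute a b := hQab a ha b hb
    rw [hc.mul_pow, ha', hb', one_mul]
  inv_mem' := by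
    rintro a ⟨ha, ha'⟩
    exact ⟨Q.inv_mem ha, by rw [inv_pow, ha', inv_one]⟩

theorem omegaSub_conj {q : ℕ} {Q : Subgroup X} {hQab : ∀ a ∈ Q, ∀ b ∈ Q, a * b = b * a} {g c : X}
    (hg : g ∈ Subgroup.normalizer (Q : Set X)) (hc : c ∈ omegaSub q Q hQab) :
    g * c * g⁻¹ ∈ omegaSub q Q hQab := by
  refine ⟨(Subgroup.mem_normalizer_iff.mp hg c).mp hc.1, ?_⟩
  rw [conj_pow, hc.2, mul_one, mul_inv_cancel]

theorem omegaSub_normalizer {q : ℕ} {Q : Subgroup X} {hQab : ∀ a ∈ Q, ∀ b ∈ Q, a * b = b * a}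
    {g : X} (hg : g ∈ Subgroup.normalizer (Q : Set X)) :
    g ∈ Subgroup.normalizer ((omegaSub q Q hQab : Subgroup X) : Set X) := by
  apply mem_nz_of_conj
  · intro c hc
    exact omegaSub_conj hg hc
  · intro c hc
    have := omegaSub_conj (Subgroup.inv_mem _ hg) hc
    rwa [inv_inv] at this

/-! ### the hyperplane setting -/

/-- An abelian group `A` of exponent `q` acting coprimely on the abelian group `W` with
`C_W(A) = 1`, and an element `x` of prime order `r` normalizing both, whose fixed points on `W`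
form a cyclic group of prime order. -/
structure HS (q r : ℕ) (A W : Subgroup X) (x : X) : Prop where
  hq : q.Prime
  hr : r.Prime
  hx : orderOf x = r
  hAab : ∀ a ∈ A, ∀ b ∈ A, a * b = b * a
  hWab : ∀ u ∈ W, ∀ v ∈ W, u * v = v * u
  hAW : A ≤ Subgroup.normalizer (W : Set X)
  hxA : x ∈ Subgroup.normalizer (A : Set X)
  hxW : x ∈ Subgroup.normalizer (W : Set X)
  hcop : (Nat.card A).Coprime (Nat.card W)
  hCW : W ⊓ Subgroup.centralizer (A : Set X) = ⊥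
  hcyc : ∀ y₁ ∈ W, x * y₁ = y₁ * x → y₁ ≠ 1 → ∀ y₂ ∈ W, x * y₂ = y₂ * x → ∃ m : ℕ, y₂ = y₁ ^ m

namespace HS

variable [Finite X] {q r : ℕ} {A W : Subgroup X} {x : X}

theorem hxr (hs : HS q r A W x) : x ^ r = 1 := by
  rw [← hs.hx]
  exact pow_orderOf_eq_one x

theorem conj_mem (hs : HS q r A W x) {D D' : Subgroup X} (hD : IsHyp q A D)
    (hD' : IsHyp q A D') (i : ℕ) (hne : D' ≠ cj (x ^ i) D) {u : X}
    (hu : u ∈ W ⊓ Subgroup.centralizer (D : Set X)) :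
    x ^ i * u * (x ^ i)⁻¹ ∈ ⁅W, D'⁆ := by
  have hxiA := Subgroup.pow_mem _ hs.hxA i
  have hxiW := Subgroup.pow_mem _ hs.hxW i
  have h1 : x ^ i * u * (x ^ i)⁻¹ ∈ cj (x ^ i) (W ⊓ Subgroup.centralizer (D : Set X)) :=
    conj_mem_cj hu
  rw [cj_inf_centralizer D hxiW] at h1
  exact (hyp_indep hs.hq hs.hAab hs.hWab hs.hAW hs.hcop hs.hCW hD' (hD.cj hxiA) hne).1 h1

theorem inf_bot (hs : HS q r A W x) {D : Subgroup X} (hD : IsHyp q A D)
    (hxD : x ∉ Subgroup.normalizer (D : Set X)) :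
    (W ⊓ Subgroup.centralizer (D : Set X)) ⊓ ⁅W, D⁆ = ⊥ :=
  (hyp_indep hs.hq hs.hAab hs.hWab hs.hAW hs.hcop hs.hCW hD (hD.cj hs.hxA)
    (fun e => hxD (cj_eq_self_iff.mp e.symm))).2

theorem nf_P (hs : HS q r A W x) {D : Subgroup X} (hD : IsHyp q A D)
    (hxD : x ∉ Subgroup.normalizer (D : Set X)) :
    ∀ i, 0 < i → i < r → ∀ u ∈ W ⊓ Subgroup.centralizer (D : Set X),
      x ^ i * u * (x ^ i)⁻¹ ∈ ⁅W, D⁆ := by
  intro i hi0 hir u hu
  apply hs.conj_mem hD hD i _ hu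
  intro e
  exact not_mem_normalizer_pow hs.hr hs.hx hxD hi0 hir (cj_eq_self_iff.mp e.symm)

/-- for a hyperplane `D` moved by `x`, the group `C_W(D)` is cyclic (of order `1` or `p`) -/
theorem nf_cyc (hs : HS q r A W x) {D : Subgroup X} (hD : IsHyp q A D)
    (hxD : x ∉ Subgroup.normalizer (D : Set X)) {u₀ u : X}
    (hu₀ : u₀ ∈ W ⊓ Subgroup.centralizer (D : Set X)) (hu₀1 : u₀ ≠ 1)
    (hu : u ∈ W ⊓ Subgroup.centralizer (D : Set X)) : ∃ m : ℕ, u = u₀ ^ m := by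
  have hxr := hs.hxr
  have hUW : W ⊓ Subgroup.centralizer (D : Set X) ≤ W := inf_le_left
  have hP := hs.nf_P hD hxD
  have hbot := hs.inf_bot hD hxD
  have hy1 : nrm x u₀ r ≠ 1 := nrm_ne_one hs.hWab hs.hxW hUW hbot hs.hr.pos hP hu₀ hu₀1
  obtain ⟨m, hm⟩ := hs.hcyc _ (nrm_mem hs.hxW (hUW hu₀) r)
    (nrm_comm hs.hWab hs.hxW (hUW hu₀) hxr) hy1 _ (nrm_mem hs.hxW (hUW hu) r)
    (nrm_comm hs.hWab hs.hxW (hUW hu) hxr)
  refine ⟨m, ?_⟩
  apply nrm_inj hs.hWab hs.hxW hUW hbot hs.hr.pos hP hu (Subgroup.pow_mem _ hu₀ m)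
  rw [hm, nrm_pow hs.hWab hs.hxW (hUW hu₀)]

/-- two hyperplanes moved by `x`, both with nontrivial centralizer in `W`, are conjugate under
a power of `x` -/
theorem nf_orbit (hs : HS q r A W x) {D D' : Subgroup X} (hD : IsHyp q A D)
    (hD' : IsHyp q A D') (hxD : x ∉ Subgroup.normalizer (D : Set X))
    (hxD' : x ∉ Subgroup.normalizer (D' : Set X))
    (hU : W ⊓ Subgroup.centralizer (D : Set X) ≠ ⊥)
    (hU' : W ⊓ Subgroup.centralizer (D' : Set X) ≠ ⊥) :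
    ∃ i, i < r ∧ D' = cj (x ^ i) D := by
  by_contra hno
  push Not at hno
  have hxr := hs.hxr
  obtain ⟨u₀, hu₀, hu₀1⟩ := exists_mem_ne_one hU
  obtain ⟨u₁, hu₁, hu₁1⟩ := exists_mem_ne_one hU'
  have hUW : W ⊓ Subgroup.centralizer (D : Set X) ≤ W := inf_le_left
  have hUW' : W ⊓ Subgroup.centralizer (D' : Set X) ≤ W := inf_le_left
  have hy1 : nrm x u₀ r ≠ 1 :=
    nrm_ne_one hs.hWab hs.hxW hUW (hs.inf_bot hD hxD) hs.hr.pos (hs.nf_P hD hxD) hu₀ hu₀1
  obtain ⟨m, hm⟩ := hs.hcyc _ (nrm_mem hs.hxW (hUW hu₀) r)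
    (nrm_comm hs.hWab hs.hxW (hUW hu₀) hxr) hy1 _ (nrm_mem hs.hxW (hUW' hu₁) r)
    (nrm_comm hs.hWab hs.hxW (hUW' hu₁) hxr)
  rw [← nrm_pow hs.hWab hs.hxW (hUW hu₀)] at hm
  have h1 : nrm x (u₀ ^ m) r ∈ ⁅W, D'⁆ :=
    nrm_mem_of r (fun i hi => hs.conj_mem hD hD' i (hno i hi) (Subgroup.pow_mem _ hu₀ m))
  obtain ⟨k, hk⟩ : ∃ k, k + 1 = r := ⟨r - 1, by have := hs.hr.pos; omega⟩
  obtain ⟨t, ht, htt⟩ := nrm_tail (P := ⁅W, D'⁆) (x := x) (w := u₁) (r := r)
    (fun i hi0 hir => hs.nf_P hD' hxD' i hi0 hir u₁ hu₁) k (by omega)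
  rw [hk] at htt
  rw [← hm, htt] at h1
  have h2 : u₁ ∈ ⁅W, D'⁆ := by
    have := Subgroup.mul_mem _ h1 (Subgroup.inv_mem _ ht)
    rwa [mul_inv_cancel_right] at this
  exact hu₁1 (eq_one_of_inf_bot (hs.inf_bot hD' hxD') hu₁ h2)

end HS

/-! ### the critical configuration -/

/-- The critical configuration. -/
structure Crit (p q r : ℕ) (V Q S : Subgroup X) (x : X) : Prop where
  hp : p.Prime
  hq : q.Prime
  hr : r.Prime
  hpq : p ≠ q
  hpr : p ≠ r
  hqr : q ≠ r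
  hp2 : p ≠ 2
  hq2 : q ≠ 2
  hr2 : r ≠ 2
  hVab : ∀ a ∈ V, ∀ b ∈ V, a * b = b * a
  hVp : ∀ a ∈ V, a ^ p = 1
  hQ : IsPGroup q Q
  hS : IsPGroup p S
  hQV : Q ≤ Subgroup.normalizer (V : Set X)
  hSV : S ≤ Subgroup.normalizer (V : Set X)
  hxV : x ∈ Subgroup.normalizer (V : Set X)
  hSQ : S ≤ Subgroup.normalizer (Q : Set X)
  hxQ : x ∈ Subgroup.normalizer (Q : Set X)
  hxS : x ∈ Subgroup.normalizer (S : Set X)
  hx : orderOf x = r
  hS1 : S ≠ ⊥
  hfpf : ∀ s ∈ S, x * s = s * x → s = 1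
  hSmin : ∀ T : Subgroup X, T ≤ S → x ∈ Subgroup.normalizer (T : Set X) → T = ⊥ ∨ T = S
  hQS : ⁅Q, S⁆ = Q
  hQ1 : Q ≠ ⊥
  hfaith : ∀ a ∈ Q, (∀ v ∈ V, a * v = v * a) → a = 1
  hCVQ : V ⊓ Subgroup.centralizer (Q : Set X) = ⊥
  he : ∀ Q₁ : Subgroup X, Q₁ ≤ Q → Q₁ ≠ Q → S ≤ Subgroup.normalizer (Q₁ : Set X) →
    x ∈ Subgroup.normalizer (Q₁ : Set X) → Q₁ ≤ Subgroup.centralizer (S : Set X)
  hCV : ∃ c ∈ V, x * c = c * x ∧ ∀ v ∈ V, x * v = v * x → ∃ k : ℕ, v = c ^ k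
  hCQ : ∃ d ∈ Q, x * d = d * x ∧ ∀ a ∈ Q, x * a = a * x → ∃ k : ℕ, a = d ^ k

namespace Crit

variable [Finite X] {p q r : ℕ} {V Q S : Subgroup X} {x : X}

theorem hxr (h : Crit p q r V Q S x) : x ^ r = 1 := by
  rw [← h.hx]
  exact pow_orderOf_eq_one x

theorem hx1 (h : Crit p q r V Q S x) : x ≠ 1 := by
  intro e
  have := h.hx
  rw [e, orderOf_one] at this
  exact h.hr.one_lt.ne this

theorem isPGroupV (h : Crit p q r V Q S x) : IsPGroup p V := fun g =>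
  ⟨1, Subtype.ext (by rw [pow_one, Subgroup.coe_pow, Subgroup.coe_one]; exact h.hVp g g.2)⟩

theorem cardV (h : Crit p q r V Q S x) : ∃ n, Nat.card V = p ^ n := by
  have := Fact.mk h.hp
  exact IsPGroup.iff_card.mp h.isPGroupV

theorem cardQ (h : Crit p q r V Q S x) : ∃ n, Nat.card Q = q ^ n := by
  have := Fact.mk h.hq
  exact IsPGroup.iff_card.mp h.hQ

theorem cardS (h : Crit p q r V Q S x) : ∃ n, Nat.card S = p ^ n := by
  have := Fact.mk h.hp
  exact IsPGroup.iff_card.mp h.hS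

theorem copQV (h : Crit p q r V Q S x) : (Nat.card Q).Coprime (Nat.card V) := by
  obtain ⟨n, hn⟩ := h.cardQ
  obtain ⟨m, hm⟩ := h.cardV
  rw [hn, hm]
  exact Nat.Coprime.pow _ _ ((Nat.coprime_primes h.hq h.hp).mpr h.hpq.symm)

theorem copSQ (h : Crit p q r V Q S x) : (Nat.card S).Coprime (Nat.card Q) := by
  obtain ⟨n, hn⟩ := h.cardQ
  obtain ⟨m, hm⟩ := h.cardS
  rw [hn, hm]
  exact Nat.Coprime.pow _ _ ((Nat.coprime_primes h.hp h.hq).mpr h.hpq)

theorem copxS (h : Crit p q r V Q S x) :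
    (Nat.card (Subgroup.zpowers x)).Coprime (Nat.card S) := by
  obtain ⟨m, hm⟩ := h.cardS
  rw [Nat.card_zpowers, h.hx, hm]
  exact Nat.Coprime.pow_right _ ((Nat.coprime_primes h.hr h.hp).mpr h.hpr.symm)

theorem solvS (h : Crit p q r V Q S x) : Group.IsSolvable ↥S := by
  have := Fact.mk h.hp
  have : Group.IsNilpotent ↥S := h.hS.isNilpotent
  infer_instance

theorem solvQ (h : Crit p q r V Q S x) : Group.IsSolvable ↥Q := by
  have := Fact.mk h.hq
  have : Group.IsNilpotent ↥Q := h.hQ.isNilpotent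
  infer_instance

theorem fpf_pow (h : Crit p q r V Q S x) {i : ℕ} (hi0 : 0 < i) (hir : i < r) :
    ∀ s ∈ S, x ^ i * s = s * x ^ i → s = 1 := by
  intro s hs hc
  obtain ⟨m, hm⟩ := pow_gen h.hr h.hx hi0 hir
  apply h.hfpf s hs
  rw [← hm]
  exact ((show Commute (x ^ i) s from hc).pow_left m).eq

theorem comm_Sx (h : Crit p q r V Q S x) : ⁅S, Subgroup.zpowers x⁆ = S := by
  have h1 := coprime_commutator_sup_centralizer (Subgroup.zpowers x) S
    (Subgroup.zpowers_le.mpr h.hxS) h.copxS (Or.inr h.solvS)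
  have h2 : S ⊓ Subgroup.centralizer ((Subgroup.zpowers x : Subgroup X) : Set X) = ⊥ := by
    rw [eq_bot_iff]
    intro s hs
    obtain ⟨hsS, hsC⟩ := Subgroup.mem_inf.mp hs
    rw [Subgroup.mem_bot]
    exact h.hfpf s hsS (mem_centralizer_zpowers.mp hsC)
  rw [h2, sup_bot_eq] at h1
  exact h1

theorem not_cent_Q (h : Crit p q r V Q S x) : ¬ (∀ a ∈ Q, x * a = a * x) := by
  intro hc
  have h1 : ⁅Q, Subgroup.zpowers x⁆ = ⊥ := by
    rw [Subgroup.commutator_eq_bot_iff_le_centralizer]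
    intro a ha
    exact mem_centralizer_zpowers.mpr (hc a ha)
  have h4 : ⁅⁅S, Q⁆, Subgroup.zpowers x⁆ = ⊥ := by
    rw [Subgroup.commutator_comm S Q, h.hQS]
    exact h1
  have h5 : ⁅⁅Q, Subgroup.zpowers x⁆, S⁆ = ⊥ := by
    rw [h1, Subgroup.commutator_bot_left]
  have h6 := Subgroup.commutator_commutator_eq_bot_of_rotate h4 h5
  rw [Subgroup.commutator_comm (Subgroup.zpowers x) S, h.comm_Sx, Subgroup.commutator_comm S Q,
    h.hQS] at h6
  exact h.hQ1 h6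

theorem cyc (h : Crit p q r V Q S x) :
    ∀ y₁ ∈ V, x * y₁ = y₁ * x → y₁ ≠ 1 → ∀ y₂ ∈ V, x * y₂ = y₂ * x → ∃ m : ℕ, y₂ = y₁ ^ m := by
  obtain ⟨c, hcV, -, hc⟩ := h.hCV
  intro y₁ hy₁ hxy₁ hne y₂ hy₂ hxy₂
  obtain ⟨k₁, hk₁⟩ := hc y₁ hy₁ hxy₁
  obtain ⟨k₂, hk₂⟩ := hc y₂ hy₂ hxy₂
  have hcp : c ^ p = 1 := h.hVp c hcV
  have hc1 : c ≠ 1 := by
    intro e
    apply hne
    rw [hk₁, e, one_pow]
  have hord : orderOf c = p := by
    rcases (Nat.dvd_prime h.hp).mp (orderOf_dvd_of_pow_eq_one hcp) with h1 | h1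
    · exact absurd (orderOf_eq_one_iff.mp h1) hc1
    · exact h1
  have hcop : k₁.Coprime (orderOf c) := by
    rw [hord]
    apply Nat.Coprime.symm
    rw [Nat.Prime.coprime_iff_not_dvd h.hp]
    intro hd
    apply hne
    obtain ⟨t, ht⟩ := hd
    rw [hk₁, ht, pow_mul, hcp, one_pow]
  obtain ⟨m, hm⟩ := exists_pow_eq_self_of_coprime hcop
  refine ⟨m * k₂, ?_⟩
  rw [hk₂, hk₁, pow_mul, hm]

/-! ### the abelian case -/

theorem cent_S_bot (h : Crit p q r V Q S x) (hQab : ∀ a ∈ Q, ∀ b ∈ Q, a * b = b * a) :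
    Q ⊓ Subgroup.centralizer (S : Set X) = ⊥ := by
  have := isMulCommutative_of_comm hQab
  have h1 := (coprime_abelian_decomposition S Q h.hSQ h.copSQ).1
  rw [h.hQS] at h1
  rwa [inf_of_le_left inf_le_left] at h1

theorem exp_q (h : Crit p q r V Q S x) (hQab : ∀ a ∈ Q, ∀ b ∈ Q, a * b = b * a) :
    ∀ a ∈ Q, a ^ q = 1 := by
  have := Fact.mk h.hq
  have hCS := h.cent_S_bot hQab
  obtain ⟨T, hT⟩ : ∃ T, T = omegaSub q Q hQab := ⟨_, rfl⟩
  have hTQ : T ≤ Q := by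
    rw [hT]
    exact fun a ha => ha.1
  have hT1 : T ≠ ⊥ := by
    have hdvd : q ∣ Nat.card Q := by
      obtain ⟨n, hn⟩ := h.cardQ
      rw [hn]
      have hn0 : n ≠ 0 := by
        intro e
        rw [e, pow_zero] at hn
        exact h.hQ1 (Subgroup.card_eq_one.mp hn)
      exact dvd_pow_self q hn0
    obtain ⟨a, ha⟩ := exists_prime_orderOf_dvd_card' (G := ↥Q) q hdvd
    intro e
    have hmem : (a : X) ∈ T := by
      rw [hT]
      refine ⟨a.2, ?_⟩
      rw [← Subgroup.coe_pow, ← ha, pow_orderOf_eq_one]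
      rfl
    rw [e, Subgroup.mem_bot] at hmem
    have ha1 : a = 1 := Subtype.ext hmem
    rw [ha1, orderOf_one] at ha
    exact h.hq.one_lt.ne ha
  by_cases hTQ' : T = Q
  · intro a ha
    have hmem : a ∈ T := hTQ' ▸ ha
    rw [hT] at hmem
    exact hmem.2
  · exfalso
    have h1 := h.he T hTQ hTQ'
      (fun s hs => by rw [hT]; exact omegaSub_normalizer (h.hSQ hs))
      (by rw [hT]; exact omegaSub_normalizer h.hxQ)
    exact hT1 (by rw [eq_bot_iff, ← hCS]; exact le_inf hTQ h1)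

theorem hsQ (h : Crit p q r V Q S x) (hQab : ∀ a ∈ Q, ∀ b ∈ Q, a * b = b * a) :
    HS q r Q V x :=
  { hq := h.hq, hr := h.hr, hx := h.hx, hAab := hQab, hWab := h.hVab, hAW := h.hQV,
    hxA := h.hxQ, hxW := h.hxV, hcop := h.copQV, hCW := h.hCVQ, hcyc := h.cyc }

/-- Case (i): `S` normalizes every hyperplane of `Q` with nontrivial fixed points on `V`. -/
theorem abelian_all (h : Crit p q r V Q S x) (hQab : ∀ a ∈ Q, ∀ b ∈ Q, a * b = b * a)
    (hall : ∀ D, IsHyp q Q D → V ⊓ Subgroup.centralizer (D : Set X) ≠ ⊥ →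
      S ≤ Subgroup.normalizer (D : Set X)) : False := by
  have := Fact.mk h.hp
  have := Fact.mk h.hq
  have hCS := h.cent_S_bot hQab
  have hexp := h.exp_q hQab
  have hs := h.hsQ hQab
  obtain ⟨a, haQ, ha1⟩ := exists_mem_ne_one h.hQ1
  have haV : a ∉ Subgroup.centralizer (V : Set X) := by
    intro hc
    apply ha1
    apply h.hfaith a haQ
    intro v hv
    exact (Subgroup.mem_centralizer_iff.mp hc v hv).symm
  obtain ⟨D, hD, haD, hU⟩ := exists_hyp h.hq hQab hexp h.hVab h.hQV h.copQV a haQ haV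
  have hSD := hall D hD hU
  by_cases hxD : x ∈ Subgroup.normalizer (D : Set X)
  · have h1 : D ≤ Subgroup.centralizer (S : Set X) := h.he D hD.1 (hD.ne h.hq) hSD hxD
    have h2 : D = ⊥ := by
      rw [eq_bot_iff, ← hCS]
      exact le_inf hD.1 h1
    have h3 : Nat.card Q = q := by
      have := hD.2
      rw [h2, Subgroup.relIndex_bot_left] at this
      exact this
    have : IsCyclic ↥Q := isCyclic_of_prime_card h3
    have h4 : ⁅S, Subgroup.zpowers x⁆ ≤ Subgroup.centralizer (Q : Set X) := by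
      rw [Subgroup.commutator_le]
      intro s hs y hy
      exact aut_cyclic_comm (h.hSQ hs) (Subgroup.zpowers_le.mpr h.hxQ hy)
    rw [h.comm_Sx] at h4
    have h5 : ⁅Q, S⁆ = ⊥ := by
      rw [Subgroup.commutator_eq_bot_iff_le_centralizer, Subgroup.le_centralizer_iff]
      exact h4
    rw [h.hQS] at h5
    exact h.hQ1 h5
  · obtain ⟨u₀, hu₀, hu₀1⟩ := exists_mem_ne_one hU
    have : IsCyclic ↥(V ⊓ Subgroup.centralizer (D : Set X)) :=
      isCyclic_of_gen hu₀ (fun u hu => hs.nf_cyc hD hxD hu₀ hu₀1 hu)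
    have hQD : Q ≤ Subgroup.normalizer (D : Set X) := abelian_le_normalizer hQab hD.1
    have hQU : Q ≤ Subgroup.normalizer ((V ⊓ Subgroup.centralizer (D : Set X) : Subgroup X) : Set X) :=
      fun a ha => mem_normalizer_inf (h.hQV ha) (mem_normalizer_centralizer (hQD ha))
    have hSU : S ≤ Subgroup.normalizer ((V ⊓ Subgroup.centralizer (D : Set X) : Subgroup X) : Set X) :=
      fun s hs => mem_normalizer_inf (h.hSV hs) (mem_normalizer_centralizer (hSD hs))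
    have h4 : ⁅Q, S⁆ ≤ Subgroup.centralizer
        ((V ⊓ Subgroup.centralizer (D : Set X) : Subgroup X) : Set X) := by
      rw [Subgroup.commutator_le]
      intro a ha s hs
      exact aut_cyclic_comm (hQU ha) (hSU hs)
    rw [h.hQS, Subgroup.le_centralizer_iff] at h4
    apply hU
    rw [eq_bot_iff, ← h.hCVQ]
    exact le_inf inf_le_left h4

/-- Case (ii): `S` moves a hyperplane of `Q` with nontrivial fixed points on `V`. -/
theorem abelian_move (h : Crit p q r V Q S x) (hQab : ∀ a ∈ Q, ∀ b ∈ Q, a * b = b * a)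
    {D : Subgroup X} (hD : IsHyp q Q D) (hU : V ⊓ Subgroup.centralizer (D : Set X) ≠ ⊥)
    (hSD : ¬ S ≤ Subgroup.normalizer (D : Set X)) : False := by
  classical
  have := Fact.mk h.hp
  have := Fact.mk h.hq
  have hsv := h.hsQ hQab
  have hUcj : ∀ g ∈ S, ∀ E : Subgroup X, V ⊓ Subgroup.centralizer (E : Set X) ≠ ⊥ →
      V ⊓ Subgroup.centralizer ((cj g E : Subgroup X) : Set X) ≠ ⊥ := by
    intro g hg E hE
    rw [← cj_inf_centralizer E (h.hSV hg)]
    intro e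
    exact hE (cj_eq_bot_iff.mp e)
  -- Step 1: some `S`-conjugate of `D` is normalized by `x`
  have step1 : ∃ h₀ ∈ S, x ∈ Subgroup.normalizer ((cj h₀ D : Subgroup X) : Set X) := by
    by_cases hxD : x ∈ Subgroup.normalizer (D : Set X)
    · exact ⟨1, S.one_mem, by rwa [cj_one]⟩
    obtain ⟨g, hgS, hgD⟩ := SetLike.not_le_iff_exists.mp hSD
    by_cases hxD2 : x ∈ Subgroup.normalizer ((cj g D : Subgroup X) : Set X)
    · exact ⟨g, hgS, hxD2⟩
    have hD2 : IsHyp q Q (cj g D) := hD.cj (h.hSQ hgS)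
    obtain ⟨i, hir, hi⟩ := hsv.nf_orbit hD hD2 hxD hxD2 hU (hUcj g hgS D hU)
    have hi0 : 0 < i := by
      rcases Nat.eq_zero_or_pos i with e | e
      · exfalso
        rw [e, pow_zero, cj_one] at hi
        exact hgD (cj_eq_self_iff.mp hi)
      · exact e
    obtain ⟨m, hm⟩ := pow_gen h.hr h.hx hi0 hir
    obtain ⟨y, hy⟩ : ∃ y, y = x ^ i := ⟨_, rfl⟩
    rw [← hy] at hi hm
    have hyfpf : ∀ s ∈ S, y * s = s * y → s = 1 := by
      rw [hy]
      exact h.fpf_pow hi0 hir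
    have hyS : y ∈ Subgroup.normalizer (S : Set X) := by
      rw [hy]
      exact Subgroup.pow_mem _ h.hxS i
    obtain ⟨h₀, hh₀S, hh₀⟩ := frob_surj hyS hyfpf g hgS
    refine ⟨h₀, hh₀S, ?_⟩
    have e1 : g⁻¹ * y ∈ Subgroup.normalizer (D : Set X) := by
      rw [← cj_eq_self_iff, cj_mul, ← hi, cj_inv_cj]
    have e2 : g⁻¹ * y = h₀⁻¹ * y * h₀ := by
      rw [← hh₀]
      group
    rw [e2] at e1
    have e3 : y ∈ Subgroup.normalizer ((cj h₀ D : Subgroup X) : Set X) :=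
      mem_normalizer_cj_iff.mpr e1
    rw [← hm]
    exact Subgroup.pow_mem _ e3 m
  obtain ⟨h₀, hh₀S, hxA'⟩ := step1
  obtain ⟨A', hA'⟩ : ∃ A', A' = cj h₀ D := ⟨_, rfl⟩
  rw [← hA'] at hxA'
  have hA'hyp : IsHyp q Q A' := by
    rw [hA']
    exact hD.cj (h.hSQ hh₀S)
  have hA'U : V ⊓ Subgroup.centralizer (A' : Set X) ≠ ⊥ := by
    rw [hA']
    exact hUcj h₀ hh₀S D hU
  have hNS : S ⊓ Subgroup.normalizer (A' : Set X) = ⊥ := by
    rcases h.hSmin (S ⊓ Subgroup.normalizer (A' : Set X)) inf_le_left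
      (mem_normalizer_inf h.hxS (Subgroup.le_normalizer hxA')) with h1 | h1
    · exact h1
    · exfalso
      have h2 : S ≤ Subgroup.normalizer (A' : Set X) := by
        rw [← h1]
        exact inf_le_right
      apply hSD
      intro g hg
      have h3 : h₀ * g * h₀⁻¹ ∈ Subgroup.normalizer (A' : Set X) :=
        h2 (S.mul_mem (S.mul_mem hh₀S hg) (S.inv_mem hh₀S))
      rw [hA', mem_normalizer_cj_iff] at h3
      have e : h₀⁻¹ * (h₀ * g * h₀⁻¹) * h₀ = g := by group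
      rwa [e] at h3
  -- Step 3: the other conjugates are moved by `x`
  have hnf : ∀ s ∈ S, s ≠ 1 → x ∉ Subgroup.normalizer ((cj s A' : Subgroup X) : Set X) := by
    intro s hs hs1 hx'
    rw [mem_normalizer_cj_iff] at hx'
    have h1 : x⁻¹ * (s⁻¹ * x * s) ∈ S ⊓ Subgroup.normalizer (A' : Set X) := by
      refine Subgroup.mem_inf.mpr ⟨?_, Subgroup.mul_mem _ (Subgroup.inv_mem _ hxA') hx'⟩
      have e : x⁻¹ * (s⁻¹ * x * s) = (x⁻¹ * s⁻¹ * x) * s := by group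
      rw [e]
      have hxi : x⁻¹ ∈ Subgroup.normalizer (S : Set X) := Subgroup.inv_mem _ h.hxS
      have h2 := (Subgroup.mem_normalizer_iff.mp hxi s⁻¹).mp (S.inv_mem hs)
      rw [inv_inv] at h2
      exact S.mul_mem h2 hs
    rw [hNS, Subgroup.mem_bot] at h1
    apply hs1
    apply h.hfpf s hs
    have e : x * s = s * x * (x⁻¹ * (s⁻¹ * x * s)) := by group
    rw [e, h1, mul_one]
  obtain ⟨s₁, hs₁, hs₁1⟩ := exists_mem_ne_one h.hS1
  have hD1 : IsHyp q Q (cj s₁ A') := hA'hyp.cj (h.hSQ hs₁)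
  have hU1 := hUcj s₁ hs₁ A' hA'U
  have key : ∀ s ∈ S, s ≠ 1 → ∃ i, i < r ∧ s = x ^ i * s₁ * (x ^ i)⁻¹ := by
    intro s hs hs1
    obtain ⟨i, hir, hi⟩ := hsv.nf_orbit hD1 (hA'hyp.cj (h.hSQ hs)) (hnf s₁ hs₁ hs₁1)
      (hnf s hs hs1) hU1 (hUcj s hs A' hA'U)
    refine ⟨i, hir, ?_⟩
    have hxi : x ^ i ∈ Subgroup.normalizer (A' : Set X) := Subgroup.pow_mem _ hxA' i
    have e1 : cj (x ^ i) (cj s₁ A') = cj (x ^ i * s₁ * (x ^ i)⁻¹) A' := by
      rw [← cj_conj, cj_of_mem_normalizer hxi]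
    rw [e1] at hi
    have ht : x ^ i * s₁ * (x ^ i)⁻¹ ∈ S :=
      (Subgroup.mem_normalizer_iff.mp (Subgroup.pow_mem _ h.hxS i) s₁).mp hs₁
    have h2 : s⁻¹ * (x ^ i * s₁ * (x ^ i)⁻¹) ∈ S ⊓ Subgroup.normalizer (A' : Set X) := by
      refine Subgroup.mem_inf.mpr ⟨S.mul_mem (S.inv_mem hs) ht, ?_⟩
      rw [← cj_eq_self_iff, cj_mul, ← hi, cj_inv_cj]
    rw [hNS, Subgroup.mem_bot] at h2
    exact inv_mul_eq_one.mp h2
  -- counting
  have hinj : Set.InjOn (fun i : ℕ => x ^ i * s₁ * (x ^ i)⁻¹) (Finset.range r : Set ℕ) := by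
    have main : ∀ a b : ℕ, a < b → b < r →
        x ^ a * s₁ * (x ^ a)⁻¹ = x ^ b * s₁ * (x ^ b)⁻¹ → False := by
      intro a b hab hbr e
      obtain ⟨u, hu⟩ : ∃ u, u = x ^ a := ⟨_, rfl⟩
      obtain ⟨w, hw⟩ : ∃ w, w = x ^ (b - a) := ⟨_, rfl⟩
      have hb : x ^ b = u * w := by
        rw [hu, hw, ← pow_add]
        congr 1
        omega
      rw [hb, ← hu] at e
      have e3 : s₁ = w * s₁ * w⁻¹ := by
        calc s₁ = u⁻¹ * (u * s₁ * u⁻¹) * u := by group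
          _ = u⁻¹ * (u * w * s₁ * (u * w)⁻¹) * u := by rw [e]
          _ = w * s₁ * w⁻¹ := by group
      have e4 : w * s₁ = s₁ * w := by
        calc w * s₁ = (w * s₁ * w⁻¹) * w := by group
          _ = s₁ * w := by rw [← e3]
      rw [hw] at e4
      exact hs₁1 (h.fpf_pow (by omega) (by omega) s₁ hs₁ e4)
    intro i hi j hj hij
    have hi' : i < r := Finset.mem_range.mp (Finset.mem_coe.mp hi)
    have hj' : j < r := Finset.mem_range.mp (Finset.mem_coe.mp hj)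
    by_contra hne
    rcases Nat.lt_or_gt_of_ne hne with hlt | hlt
    · exact main i j hlt hj' hij
    · exact main j i hlt hi' hij.symm
  have hset : (S : Set X) =
      ((insert 1 ((Finset.range r).image (fun i : ℕ => x ^ i * s₁ * (x ^ i)⁻¹)) : Finset X) :
        Set X) := by
    ext s
    rw [Finset.coe_insert, Finset.coe_image]
    constructor
    · intro hs
      by_cases hs1 : s = 1
      · exact Set.mem_insert_iff.mpr (Or.inl hs1)
      · obtain ⟨i, hir, hi⟩ := key s hs hs1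
        exact Set.mem_insert_of_mem _
          ⟨i, Finset.mem_coe.mpr (Finset.mem_range.mpr hir), hi.symm⟩
    · intro hs
      rcases Set.mem_insert_iff.mp hs with e | ⟨i, _, rfl⟩
      · rw [e]
        exact S.one_mem
      · exact (Subgroup.mem_normalizer_iff.mp (Subgroup.pow_mem _ h.hxS i) s₁).mp hs₁
  have hcard : Nat.card S = r + 1 := by
    have h1 : Nat.card S = (S : Set X).ncard := Nat.card_coe_set_eq (S : Set X)
    rw [h1, hset, Set.ncard_coe_finset, Finset.card_insert_of_notMem,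
      Finset.card_image_of_injOn hinj, Finset.card_range]
    intro hmem
    obtain ⟨i, -, hi⟩ := Finset.mem_image.mp hmem
    apply hs₁1
    have e : s₁ = (x ^ i)⁻¹ * (x ^ i * s₁ * (x ^ i)⁻¹) * x ^ i := by group
    rw [e, hi]
    group
  obtain ⟨n, hn⟩ := h.cardS
  have hodd : Odd (Nat.card S) := by
    rw [hn]
    exact (h.hp.odd_of_ne_two h.hp2).pow
  have hrodd : Odd r := h.hr.odd_of_ne_two h.hr2
  rw [hcard] at hodd
  exact (Nat.not_even_iff_odd.mpr hodd) hrodd.add_one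

theorem abelian_false (h : Crit p q r V Q S x) (hQab : ∀ a ∈ Q, ∀ b ∈ Q, a * b = b * a) :
    False := by
  by_cases hall : ∀ D, IsHyp q Q D → V ⊓ Subgroup.centralizer (D : Set X) ≠ ⊥ →
      S ≤ Subgroup.normalizer (D : Set X)
  · exact h.abelian_all hQab hall
  · push Not at hall
    obtain ⟨D, hD, hU, hSD⟩ := hall
    exact h.abelian_move hQab hD hU hSD

end Crit

end Cfsg.Agent.Lib.Helper1.PL
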