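import Mathlib
import Cfsg.Agent.Lib.Helper1.PL3
import Cfsg.Agent.Lib.Helper1.FM12
import Cfsg.Agent.Lib.Helper1.FrattiniP
import Cfsg.Agent.Lib.Helper1.FrattiniAction
import Cfsg.Agent.Lib.Helper1.ExtraspecialOrder
import Cfsg.Agent.Lib.Helper1.Hall
import Cfsg.Agent.Lib.Helper1.SZHelpers
import Cfsg.Agent.Lib.Helper1.GlaubermanRepl3
import Cfsg.Agent.Lib.Helper1.AbelianAction

/-! Endgame for the `p`-length theorem for `[H, R]`: the contradiction in the critical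
configuration when `Q` is nonabelian, and the final statement `Crit → False`. -/

set_option autoImplicit false
set_option maxHeartbeats 4000000
set_option linter.unusedVariables false
set_option linter.unusedSectionVars false
set_option linter.style.longLine false

open scoped commutatorElement

namespace Cfsg.Agent.Lib.Helper1.PL

universe u

variable {X : Type u} [Group X]

theorem commutatorElement_pow_left' {a b : X} (hc : a * ⁅a, b⁆ = ⁅a, b⁆ * a) (n : ℕ) :
    ⁅a ^ n, b⁆ = ⁅a, b⁆ ^ n := by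
  induction n with
  | zero => simp
  | succ n ih =>
    have e : ⁅a ^ (n + 1), b⁆ = a * ⁅a ^ n, b⁆ * a⁻¹ * ⁅a, b⁆ := by
      rw [commutatorElement_def, commutatorElement_def, commutatorElement_def, pow_succ']
      group
    rw [e, ih]
    have hc' : a * ⁅a, b⁆ ^ n * a⁻¹ = ⁅a, b⁆ ^ n := by
      have h1 : Commute a (⁅a, b⁆ ^ n) := (show Commute a ⁅a, b⁆ from hc).pow_right n
      rw [h1.eq, mul_inv_cancel_right]
    rw [hc', pow_succ]

/-- the elements of `Q` acting trivially on `Q/D`, for `D` central in `Q` -/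
def modCenter (Q D : Subgroup X) (hD : ∀ d ∈ D, ∀ b ∈ Q, d * b = b * d) : Subgroup X where
  carrier := {k | k ∈ Q ∧ ∀ b ∈ Q, ⁅k, b⁆ ∈ D}
  one_mem' := ⟨Q.one_mem, fun b _ => by rw [commutatorElement_one_left]; exact D.one_mem⟩
  mul_mem' := by
    rintro k k' ⟨hk, hk2⟩ ⟨hk', hk2'⟩
    refine ⟨Q.mul_mem hk hk', fun b hb => ?_⟩
    have e : ⁅k * k', b⁆ = k * ⁅k', b⁆ * k⁻¹ * ⁅k, b⁆ := by
      simp only [commutatorElement_def]
      group
    have hc : k * ⁅k', b⁆ * k⁻¹ = ⁅k', b⁆ := by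
      rw [← hD _ (hk2' b hb) k hk, mul_inv_cancel_right]
    rw [e, hc]
    exact D.mul_mem (hk2' b hb) (hk2 b hb)
  inv_mem' := by
    rintro k ⟨hk, hk2⟩
    refine ⟨Q.inv_mem hk, fun b hb => ?_⟩
    have e : ⁅k⁻¹, b⁆ = k⁻¹ * (⁅k, b⁆)⁻¹ * k := by
      simp only [commutatorElement_def]
      group
    have hd := D.inv_mem (hk2 b hb)
    have hc : k⁻¹ * (⁅k, b⁆)⁻¹ * k = (⁅k, b⁆)⁻¹ := by
      rw [mul_assoc, hD _ hd k hk, ← mul_assoc, inv_mul_cancel, one_mul]
    rw [e, hc]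
    exact hd

theorem modCenter_conj {Q D : Subgroup X} {hD : ∀ d ∈ D, ∀ b ∈ Q, d * b = b * d} {g k : X}
    (hgQ : g ∈ Subgroup.normalizer (Q : Set X)) (hgD : g ∈ Subgroup.normalizer (D : Set X))
    (hk : k ∈ modCenter Q D hD) : g * k * g⁻¹ ∈ modCenter Q D hD := by
  refine ⟨(Subgroup.mem_normalizer_iff.mp hgQ k).mp hk.1, fun b hb => ?_⟩
  have hb' : g⁻¹ * b * g ∈ Q := by
    have := (Subgroup.mem_normalizer_iff.mp (Subgroup.inv_mem _ hgQ) b).mp hb
    rwa [inv_inv] at this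
  have e : ⁅g * k * g⁻¹, b⁆ = g * ⁅k, g⁻¹ * b * g⁆ * g⁻¹ := by
    simp only [commutatorElement_def]
    group
  rw [e]
  exact (Subgroup.mem_normalizer_iff.mp hgD _).mp (hk.2 _ hb')

theorem modCenter_normalizer {Q D : Subgroup X} {hD : ∀ d ∈ D, ∀ b ∈ Q, d * b = b * d} {g : X}
    (hgQ : g ∈ Subgroup.normalizer (Q : Set X)) (hgD : g ∈ Subgroup.normalizer (D : Set X)) :
    g ∈ Subgroup.normalizer ((modCenter Q D hD : Subgroup X) : Set X) := by
  apply mem_nz_of_conj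
  · intro c hc
    exact modCenter_conj hgQ hgD hc
  · intro c hc
    have := modCenter_conj (Subgroup.inv_mem _ hgQ) (Subgroup.inv_mem _ hgD) hc
    rwa [inv_inv] at this

/-- If `Q/D` has commutator subgroup `A/D` of prime order, central, then the index of its
centre is an even power of `q`. -/
theorem index_center_even [Finite X] {q : ℕ} [hq : Fact q.Prime] {Q A D : Subgroup X}
    (hD : IsHyp q A D) (hAQ : A ≤ Q) (hAZ : A ≤ Subgroup.centralizer (Q : Set X))
    (hcomm : ∀ a ∈ Q, ∀ b ∈ Q, ⁅a, b⁆ ∈ A)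
    (hstar : ∀ k ∈ Q, (∀ b ∈ Q, ⁅k, b⁆ ∈ D) → k ∈ Subgroup.centralizer (Q : Set X)) :
    ∃ k : ℕ, (Q ⊓ Subgroup.centralizer (Q : Set X)).relIndex Q = q ^ (2 * k) := by
  classical
  have hDQ : D ≤ Q := hD.1.trans hAQ
  have hDZ : D ≤ Subgroup.centralizer (Q : Set X) := hD.1.trans hAZ
  have hQD : Q ≤ Subgroup.normalizer (D : Set X) :=
    (Subgroup.le_centralizer_iff.mp hDZ).trans (Subgroup.centralizer_le_normalizer (D : Set X))
  have hDn : (D.subgroupOf Q).Normal :=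
    (Subgroup.normal_subgroupOf_iff_le_normalizer hDQ).mpr hQD
  obtain ⟨π, hπ⟩ : ∃ π : ↥Q →* ↥Q ⧸ D.subgroupOf Q, π = QuotientGroup.mk' (D.subgroupOf Q) :=
    ⟨_, rfl⟩
  have hπs : Function.Surjective π := by
    rw [hπ]
    exact QuotientGroup.mk'_surjective _
  have hπk : π.ker = D.subgroupOf Q := by
    rw [hπ]
    exact QuotientGroup.ker_mk' _
  obtain ⟨Zb, hZb⟩ : ∃ Zb, Zb = (A.subgroupOf Q).map π := ⟨_, rfl⟩
  have hZbcard : Nat.card Zb = q := by
    have h1 : Nat.card (Zb.comap π) = Nat.card (D.subgroupOf Q) * Nat.card Zb := by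
      rw [hπ]
      exact card_comap_mk' _ _
    have h2 : Zb.comap π = A.subgroupOf Q := by
      rw [hZb, Subgroup.comap_map_eq, hπk]
      exact sup_eq_left.mpr (fun g hg => hD.1 hg)
    rw [h2, card_subgroupOf_of_le hAQ, card_subgroupOf_of_le hDQ] at h1
    have h3 := card_mul_relIndex hD.1
    rw [hD.2] at h3
    have h4 : Nat.card D * q = Nat.card D * Nat.card Zb := by rw [h3, h1]
    exact (Nat.eq_of_mul_eq_mul_left Nat.card_pos h4).symm
  have hZbcent : Zb ≤ Subgroup.center (↥Q ⧸ D.subgroupOf Q) := by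
    rw [hZb]
    rintro _ ⟨a, ha, rfl⟩
    rw [Subgroup.mem_center_iff]
    intro y
    obtain ⟨b, rfl⟩ := hπs y
    rw [← map_mul, ← map_mul]
    congr 1
    apply Subtype.ext
    exact Subgroup.mem_centralizer_iff.mp (hAZ ha) b b.2
  have hZbc : ∀ y z : ↥Q ⧸ D.subgroupOf Q, ⁅y, z⁆ ∈ Zb := by
    intro y z
    obtain ⟨a, rfl⟩ := hπs y
    obtain ⟨b, rfl⟩ := hπs z
    rw [← map_commutatorElement, hZb]
    refine ⟨⁅a, b⁆, ?_, rfl⟩
    show ⁅(a : X), (b : X)⁆ ∈ A
    exact hcomm a a.2 b b.2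
  obtain ⟨k, hk⟩ := relIndex_center_even Zb hZbcard hZbcent hZbc
    (Nat.card (⊤ : Subgroup (↥Q ⧸ D.subgroupOf Q))) ⊤ rfl
  refine ⟨k, ?_⟩
  rw [← hk]
  have e1 : ((⊤ : Subgroup (↥Q ⧸ D.subgroupOf Q)) ⊓ Subgroup.centralizer
      ((⊤ : Subgroup (↥Q ⧸ D.subgroupOf Q)) : Set (↥Q ⧸ D.subgroupOf Q))).relIndex ⊤ =
      (Subgroup.center (↥Q ⧸ D.subgroupOf Q)).index := by
    rw [Subgroup.relIndex_top_right, top_inf_eq, Subgroup.coe_top, Subgroup.centralizer_univ]
  rw [e1, ← Subgroup.index_comap_of_surjective (Subgroup.center (↥Q ⧸ D.subgroupOf Q)) hπs]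
  have e2 : (Subgroup.center (↥Q ⧸ D.subgroupOf Q)).comap π =
      (Q ⊓ Subgroup.centralizer (Q : Set X)).subgroupOf Q := by
    ext k
    rw [Subgroup.mem_comap, Subgroup.mem_center_iff, Subgroup.mem_subgroupOf]
    constructor
    · intro hk
      refine Subgroup.mem_inf.mpr ⟨k.2, ?_⟩
      apply hstar k k.2
      intro b hb
      have h1 : π (⟨b, hb⟩ * k) = π (k * ⟨b, hb⟩) := by
        rw [map_mul, map_mul]
        exact hk (π ⟨b, hb⟩)
      have h2 : (k * ⟨b, hb⟩) * (⟨b, hb⟩ * k)⁻¹ ∈ π.ker := by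
        rw [MonoidHom.mem_ker, map_mul, map_inv, h1, mul_inv_cancel]
      rw [hπk, Subgroup.mem_subgroupOf] at h2
      have e : (((k * ⟨b, hb⟩) * (⟨b, hb⟩ * k)⁻¹ : ↥Q) : X) = ⁅(k : X), b⁆ := by
        simp only [Subgroup.coe_mul, Subgroup.coe_inv, commutatorElement_def]
        group
      rw [e] at h2
      exact h2
    · intro hk y
      obtain ⟨b, rfl⟩ := hπs y
      rw [← map_mul, ← map_mul]
      congr 1
      apply Subtype.ext
      exact Subgroup.mem_centralizer_iff.mp (Subgroup.mem_inf.mp hk).2 b b.2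
  rw [e2]
  rfl

namespace Crit

variable [Finite X] {p q r : ℕ} {V Q S : Subgroup X} {x : X}

/-- proper `S x`-invariant normal subgroups of `Q` are central -/
theorem central_of_proper (h : Crit p q r V Q S x) {N : Subgroup X} (hNQ : N ≤ Q) (hne : N ≠ Q)
    (hQN : Q ≤ Subgroup.normalizer (N : Set X)) (hSN : S ≤ Subgroup.normalizer (N : Set X))
    (hxN : x ∈ Subgroup.normalizer (N : Set X)) : N ≤ Subgroup.centralizer (Q : Set X) := by
  have h1 : N ≤ Subgroup.centralizer (S : Set X) := h.he N hNQ hne hSN hxN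
  have h2 : ⁅N, S⁆ = ⊥ := Subgroup.commutator_eq_bot_iff_le_centralizer.mpr h1
  have h3 : ⁅Q, N⁆ ≤ N := by
    rw [Subgroup.commutator_comm]
    exact Subgroup.le_normalizer_iff_commutator_le_left.mp hQN
  have h4 : ⁅⁅Q, N⁆, S⁆ = ⊥ := by
    rw [eq_bot_iff, ← h2]
    exact Subgroup.commutator_mono h3 le_rfl
  have h5 : ⁅⁅N, S⁆, Q⁆ = ⊥ := by rw [h2, Subgroup.commutator_bot_left]
  have h6 := Subgroup.commutator_commutator_eq_bot_of_rotate h4 h5
  rw [Subgroup.commutator_comm S Q, h.hQS, Subgroup.commutator_eq_bot_iff_le_centralizer] at h6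
  exact Subgroup.le_centralizer_iff.mp h6

theorem comm_le (h : Crit p q r V Q S x) : ⁅Q, Q⁆ ≤ Q :=
  Subgroup.le_normalizer_iff_commutator_le_left.mp (Subgroup.le_normalizer : Q ≤ _)

theorem comm_ne (h : Crit p q r V Q S x) : ⁅Q, Q⁆ ≠ Q := by
  have := Fact.mk h.hq
  have : Group.IsNilpotent ↥Q := h.hQ.isNilpotent
  have : Nontrivial ↥Q := (Subgroup.nontrivial_iff_ne_bot Q).mpr h.hQ1
  intro e
  have h1 := Group.IsSolvable.commutator_lt_top_of_nontrivial ↥Q
  apply h1.ne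
  apply Subgroup.map_injective Q.subtype_injective
  rw [Subgroup.map_subtype_commutator, e, ← MonoidHom.range_eq_map, Subgroup.range_subtype]

theorem comm_le_cent (h : Crit p q r V Q S x) : ⁅Q, Q⁆ ≤ Subgroup.centralizer (Q : Set X) :=
  h.central_of_proper h.comm_le h.comm_ne
    (fun g hg => mem_normalizer_commutator (Subgroup.le_normalizer hg) (Subgroup.le_normalizer hg))
    (fun g hg => mem_normalizer_commutator (h.hSQ hg) (h.hSQ hg))
    (mem_normalizer_commutator h.hxQ h.hxQ)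

theorem Z_ne (h : Crit p q r V Q S x) (hna : ¬ ∀ a ∈ Q, ∀ b ∈ Q, a * b = b * a) :
    Q ⊓ Subgroup.centralizer (Q : Set X) ≠ Q := by
  intro e
  apply hna
  intro a ha b hb
  have hb' : b ∈ Q ⊓ Subgroup.centralizer (Q : Set X) := by
    rw [e]
    exact hb
  exact Subgroup.mem_centralizer_iff.mp (Subgroup.mem_inf.mp hb').2 a ha

theorem Z_le_CS (h : Crit p q r V Q S x) (hna : ¬ ∀ a ∈ Q, ∀ b ∈ Q, a * b = b * a) :
    Q ⊓ Subgroup.centralizer (Q : Set X) ≤ Subgroup.centralizer (S : Set X) :=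
  h.he _ inf_le_left (h.Z_ne hna)
    (fun g hg => mem_normalizer_inf (h.hSQ hg) (mem_normalizer_centralizer (h.hSQ hg)))
    (mem_normalizer_inf h.hxQ (mem_normalizer_centralizer h.hxQ))

theorem CS_le_Z (h : Crit p q r V Q S x) (hna : ¬ ∀ a ∈ Q, ∀ b ∈ Q, a * b = b * a) :
    Q ⊓ Subgroup.centralizer (S : Set X) ≤ Subgroup.centralizer (Q : Set X) := by
  obtain ⟨C, hC⟩ : ∃ C, C = Q ⊓ Subgroup.centralizer (S : Set X) := ⟨_, rfl⟩
  rw [← hC]
  have hCQ : C ≤ Q := by rw [hC]; exact inf_le_left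
  have h2 : ⁅C, S⁆ = ⊥ := by
    rw [Subgroup.commutator_eq_bot_iff_le_centralizer, hC]
    exact inf_le_right
  have h3 : ⁅Q, C⁆ ≤ Subgroup.centralizer (S : Set X) :=
    (Subgroup.commutator_mono le_rfl hCQ).trans
      ((le_inf h.comm_le h.comm_le_cent).trans (h.Z_le_CS hna))
  have h4 : ⁅⁅Q, C⁆, S⁆ = ⊥ := Subgroup.commutator_eq_bot_iff_le_centralizer.mpr h3
  have h5 : ⁅⁅C, S⁆, Q⁆ = ⊥ := by rw [h2, Subgroup.commutator_bot_left]
  have h6 := Subgroup.commutator_commutator_eq_bot_of_rotate h4 h5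
  rw [Subgroup.commutator_comm S Q, h.hQS, Subgroup.commutator_eq_bot_iff_le_centralizer] at h6
  exact Subgroup.le_centralizer_iff.mp h6

theorem pow_q_central (h : Crit p q r V Q S x) :
    ∀ a ∈ Q, a ^ q ∈ Subgroup.centralizer (Q : Set X) := by
  have := Fact.mk h.hq
  obtain ⟨Φ, hΦ⟩ : ∃ Φ, Φ = (frattini ↥Q).map Q.subtype := ⟨_, rfl⟩
  have hΦQ : Φ ≤ Q := by
    rw [hΦ]
    exact Subgroup.map_subtype_le _
  have hΦN : Subgroup.normalizer (Q : Set X) ≤ Subgroup.normalizer (Φ : Set X) := by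
    rw [hΦ]
    exact normalizer_le_normalizer_map_characteristic Q (frattini ↥Q)
  have hΦne : Φ ≠ Q := by
    intro e
    have h1 : frattini ↥Q = ⊤ := by
      apply Subgroup.map_injective Q.subtype_injective
      rw [← hΦ, e, ← MonoidHom.range_eq_map, Subgroup.range_subtype]
    have : Nontrivial ↥Q := (Subgroup.nontrivial_iff_ne_bot Q).mpr h.hQ1
    rcases IsCoatomic.eq_top_or_exists_le_coatom (⊥ : Subgroup ↥Q) with h2 | ⟨M, hM, _⟩
    · exact bot_ne_top h2
    · have h3 := frattini_le_coatom hM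
      rw [h1, top_le_iff] at h3
      exact hM.1 h3
  have h1 := h.central_of_proper hΦQ hΦne (Subgroup.le_normalizer.trans hΦN)
    (h.hSQ.trans hΦN) (hΦN h.hxQ)
  intro a ha
  apply h1
  rw [hΦ]
  exact ⟨⟨a, ha⟩ ^ q, pow_prime_mem_frattini_of_isPGroup q h.hQ ⟨a, ha⟩, rfl⟩

theorem comm_exp (h : Crit p q r V Q S x) : ∀ z ∈ ⁅Q, Q⁆, z ^ q = 1 := by
  have hQ'Z := h.comm_le_cent
  have hQ'Q := h.comm_le
  have hab : ∀ a ∈ ⁅Q, Q⁆, ∀ b ∈ ⁅Q, Q⁆, a * b = b * a := fun a ha b hb =>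
    Subgroup.mem_centralizer_iff.mp (hQ'Z hb) a (hQ'Q ha)
  have hle : ⁅Q, Q⁆ ≤ omegaSub q ⁅Q, Q⁆ hab := by
    rw [Subgroup.commutator_le]
    intro a ha b hb
    refine ⟨Subgroup.commutator_mem_commutator ha hb, ?_⟩
    have hz : ⁅a, b⁆ ∈ Subgroup.centralizer (Q : Set X) :=
      hQ'Z (Subgroup.commutator_mem_commutator ha hb)
    have hc : a * ⁅a, b⁆ = ⁅a, b⁆ * a := Subgroup.mem_centralizer_iff.mp hz a ha
    rw [← commutatorElement_pow_left' hc q]
    have haq := h.pow_q_central a ha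
    rw [commutatorElement_eq_one_iff_commute]
    exact (Subgroup.mem_centralizer_iff.mp haq b hb).symm
  intro z hz
  exact (hle hz).2

/-- the Frobenius count: `|Q : Z(Q)| = q ^ r` -/
theorem card_Q_eq (h : Crit p q r V Q S x) (hna : ¬ ∀ a ∈ Q, ∀ b ∈ Q, a * b = b * a) :
    Nat.card Q = q ^ r * Nat.card ↥(Q ⊓ Subgroup.centralizer (Q : Set X)) := by
  classical
  have := Fact.mk h.hq
  have := Fact.mk h.hp
  obtain ⟨Rx, hRx⟩ : ∃ Rx, Rx = Subgroup.zpowers x := ⟨_, rfl⟩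
  have hRx1 : Rx ≠ ⊥ := by
    rw [hRx]
    intro e
    exact h.hx1 (Subgroup.zpowers_eq_bot.mp e)
  have hRxS : Rx ≤ Subgroup.normalizer (S : Set X) := by
    rw [hRx]
    exact Subgroup.zpowers_le.mpr h.hxS
  have hRxQ : Rx ≤ Subgroup.normalizer (Q : Set X) := by
    rw [hRx]
    exact Subgroup.zpowers_le.mpr h.hxQ
  have hfpf : ∀ y ∈ Rx, y ≠ 1 → ∀ k ∈ S, y * k = k * y → k = 1 := by
    intro y hy hy1 k hk hyk
    have hxy : x ∈ Subgroup.zpowers y := gen_of_ne_one h.hr h.hx (hRx ▸ hy) hy1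
    obtain ⟨j, hj⟩ := Subgroup.mem_zpowers_iff.mp hxy
    apply h.hfpf k hk
    rw [← hj]
    exact ((show Commute y k from hyk).zpow_left j).eq
  have hcardRx : Nat.card Rx = r := by rw [hRx, Nat.card_zpowers, h.hx]
  have hSRQ : S ⊔ Rx ≤ Subgroup.normalizer (Q : Set X) := sup_le h.hSQ hRxQ
  have hcop : (Nat.card Q).Coprime (Nat.card ↥(S ⊔ Rx)) := by
    have h1 : Nat.card ↥(S ⊔ Rx) ∣ Nat.card Rx * Nat.card S := by
      rw [sup_comm]
      exact Dvd.intro _ (GlaubermanRepl.card_sup_mul_card_inf_of_le_normalizer Rx S hRxS)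
    apply Nat.Coprime.coprime_dvd_right h1
    apply Nat.Coprime.mul_right _ h.copSQ.symm
    rw [hcardRx]
    obtain ⟨n, hn⟩ := h.cardQ
    rw [hn]
    exact Nat.Coprime.pow_left n ((Nat.coprime_primes h.hq h.hr).mpr h.hqr)
  have hF := FM.frob_formula S Rx hRx1 hRxS hfpf (Nat.card Q) Q rfl hSRQ h.solvQ hcop
  rw [hcardRx] at hF
  -- identify the centralizers
  obtain ⟨Z, hZ⟩ : ∃ Z, Z = Q ⊓ Subgroup.centralizer (Q : Set X) := ⟨_, rfl⟩
  have hCS : Q ⊓ Subgroup.centralizer (S : Set X) = Z := by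
    rw [hZ]
    apply le_antisymm
    · exact le_inf inf_le_left (h.CS_le_Z hna)
    · exact le_inf inf_le_left (h.Z_le_CS hna)
  have hCSR : Q ⊓ Subgroup.centralizer ((S ⊔ Rx : Subgroup X) : Set X) =
      Z ⊓ Subgroup.centralizer (Rx : Set X) := by
    rw [centralizer_sup_eq, ← inf_assoc, hCS]
  rw [hCS, hCSR] at hF
  rw [← hZ]
  obtain ⟨Zx, hZx⟩ : ∃ Zx, Zx = Z ⊓ Subgroup.centralizer (Rx : Set X) := ⟨_, rfl⟩
  obtain ⟨Cx, hCx⟩ : ∃ Cx, Cx = Q ⊓ Subgroup.centralizer (Rx : Set X) := ⟨_, rfl⟩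
  rw [← hZx, ← hCx] at hF
  have hZQ : Z ≤ Q := by rw [hZ]; exact inf_le_left
  have hZxCx : Zx ≤ Cx := by
    rw [hZx, hCx]
    exact inf_le_inf_right _ hZQ
  -- the index of `Zx` in `Cx` is `1` or `q`
  obtain ⟨d, hdQ, hxd, hd⟩ := h.hCQ
  have hdq : d ^ q ∈ Zx := by
    rw [hZx, hZ]
    refine Subgroup.mem_inf.mpr ⟨Subgroup.mem_inf.mpr ⟨Q.pow_mem hdQ q, h.pow_q_central d hdQ⟩, ?_⟩
    rw [hRx, mem_centralizer_zpowers]
    exact ((show Commute x d from hxd).pow_right q).eq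
  have hdCx : ∀ j : ℕ, d ^ j ∈ Cx := by
    intro j
    rw [hCx]
    refine Subgroup.mem_inf.mpr ⟨Q.pow_mem hdQ j, ?_⟩
    rw [hRx, mem_centralizer_zpowers]
    exact ((show Commute x d from hxd).pow_right j).eq
  have hle : Nat.card Cx ≤ q * Nat.card Zx := by
    have hsurj : Function.Surjective (fun jz : Fin q × ↥Zx =>
        (⟨d ^ (jz.1 : ℕ) * (jz.2 : X), Cx.mul_mem (hdCx _) (hZxCx jz.2.2)⟩ : ↥Cx)) := by
      intro a
      have haC : (a : X) ∈ Q ⊓ Subgroup.centralizer (Rx : Set X) := hCx.le a.2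
      obtain ⟨haQ, hax⟩ := Subgroup.mem_inf.mp haC
      rw [hRx, mem_centralizer_zpowers] at hax
      obtain ⟨k, hk⟩ := hd a haQ hax
      refine ⟨(⟨k % q, Nat.mod_lt _ h.hq.pos⟩, ⟨(d ^ q) ^ (k / q), Zx.pow_mem hdq _⟩), ?_⟩
      apply Subtype.ext
      show d ^ (k % q) * (d ^ q) ^ (k / q) = a
      rw [hk, ← pow_mul, ← pow_add, Nat.mod_add_div]
    have h1 := Nat.card_le_card_of_surjective _ hsurj
    rw [Nat.card_prod, Nat.card_eq_fintype_card (α := Fin q), Fintype.card_fin] at h1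
    exact h1
  obtain ⟨t, ht⟩ : ∃ t, t = Zx.relIndex Cx := ⟨_, rfl⟩
  have hcardt : Nat.card Zx * t = Nat.card Cx := by
    rw [ht]
    exact card_mul_relIndex hZxCx
  have htq : t = 1 ∨ t = q := by
    have htle : t ≤ q := by
      have h1 : Nat.card Zx * t ≤ Nat.card Zx * q := by
        rw [hcardt, mul_comm]
        exact hle
      exact Nat.le_of_mul_le_mul_left h1 Nat.card_pos
    have htdvd : t ∣ Nat.card Q := by
      have h1 : t ∣ Nat.card Cx := Dvd.intro_left _ hcardt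
      have h2 : Nat.card Cx ∣ Nat.card Q := by
        rw [hCx]
        exact Subgroup.card_dvd_of_le inf_le_left
      exact h1.trans h2
    obtain ⟨n, hn⟩ := h.cardQ
    rw [hn] at htdvd
    obtain ⟨j, -, hj⟩ := (Nat.dvd_prime_pow h.hq).mp htdvd
    rcases Nat.lt_or_ge j 2 with hj2 | hj2
    · interval_cases j
      · left
        rw [hj, pow_zero]
      · right
        rw [hj, pow_one]
    · exfalso
      have h1 : q ^ 2 ≤ q ^ j := Nat.pow_le_pow_right h.hq.pos hj2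
      have h2 : q < q ^ 2 := by
        have := h.hq.one_lt
        nlinarith
      omega
  have hF2 : Nat.card Q = t ^ r * Nat.card Z := by
    rw [← hcardt, mul_pow, mul_assoc] at hF
    exact Nat.eq_of_mul_eq_mul_left (pow_pos Nat.card_pos r) hF
  rcases htq with h1 | h1
  · exfalso
    rw [h1, one_pow, one_mul] at hF2
    apply h.Z_ne hna
    rw [← hZ]
    exact Subgroup.eq_of_le_of_card_ge hZQ hF2.le
  · rw [hF2, h1]

theorem nonabelian_false (h : Crit p q r V Q S x) (hna : ¬ ∀ a ∈ Q, ∀ b ∈ Q, a * b = b * a) :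
    False := by
  classical
  have := Fact.mk h.hp
  have := Fact.mk h.hq
  obtain ⟨A, hA⟩ : ∃ A, A = ⁅Q, Q⁆ := ⟨_, rfl⟩
  have hAQ : A ≤ Q := hA ▸ h.comm_le
  have hAZ : A ≤ Subgroup.centralizer (Q : Set X) := hA ▸ h.comm_le_cent
  have hAab : ∀ a ∈ A, ∀ b ∈ A, a * b = b * a := fun a ha b hb =>
    Subgroup.mem_centralizer_iff.mp (hAZ hb) a (hAQ ha)
  have hAexp : ∀ a ∈ A, a ^ q = 1 := hA ▸ h.comm_exp
  have hcommA : ∀ a ∈ Q, ∀ b ∈ Q, ⁅a, b⁆ ∈ A := fun a ha b hb =>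
    hA ▸ Subgroup.commutator_mem_commutator ha hb
  have hA1 : A ≠ ⊥ := by
    intro e
    apply hna
    intro a ha b hb
    have h1 := hcommA a ha b hb
    rw [e, Subgroup.mem_bot, commutatorElement_eq_one_iff_commute] at h1
    exact h1.eq
  have hAV : A ≤ Subgroup.normalizer (V : Set X) := hAQ.trans h.hQV
  have hNA : ∀ g, g ∈ Subgroup.normalizer (Q : Set X) → g ∈ Subgroup.normalizer (A : Set X) :=
    fun g hg => hA ▸ mem_normalizer_commutator hg hg
  obtain ⟨V', hV'⟩ : ∃ V', V' = ⁅V, A⁆ := ⟨_, rfl⟩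
  have hV'V : V' ≤ V := by
    rw [hV']
    exact Subgroup.le_normalizer_iff_commutator_le_left.mp hAV
  have hNV' : ∀ g, g ∈ Subgroup.normalizer (V : Set X) → g ∈ Subgroup.normalizer (A : Set X) →
      g ∈ Subgroup.normalizer (V' : Set X) :=
    fun g h1 h2 => hV' ▸ mem_normalizer_commutator h1 h2
  have hcopAV : (Nat.card A).Coprime (Nat.card V) :=
    Nat.Coprime.coprime_dvd_left (Subgroup.card_dvd_of_le hAQ) h.copQV
  have hcopAV' : (Nat.card A).Coprime (Nat.card V') :=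
    Nat.Coprime.coprime_dvd_right (Subgroup.card_dvd_of_le hV'V) hcopAV
  have : IsMulCommutative V := isMulCommutative_of_comm h.hVab
  have hdec := coprime_abelian_decomposition A V hAV hcopAV
  have hCW : V' ⊓ Subgroup.centralizer (A : Set X) = ⊥ := by
    rw [eq_bot_iff, ← hdec.1, hV']
    exact le_inf (le_inf (inf_le_left.trans (hV' ▸ hV'V)) inf_le_right) inf_le_left
  obtain ⟨a, haA, ha1⟩ := exists_mem_ne_one hA1
  have haV' : a ∉ Subgroup.centralizer (V' : Set X) := by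
    intro hc
    apply ha1
    apply h.hfaith a (hAQ haA)
    have h1 : V ≤ Subgroup.centralizer ((Subgroup.zpowers a : Subgroup X) : Set X) := by
      rw [← hdec.2]
      apply sup_le
      · exact inf_le_right.trans
          (Subgroup.centralizer_le (show Subgroup.zpowers a ≤ A from Subgroup.zpowers_le.mpr haA))
      · rw [← hV', Subgroup.le_centralizer_iff, Subgroup.zpowers_le]
        exact hc
    intro v hv
    exact mem_centralizer_zpowers.mp (h1 hv)
  have hAV' : A ≤ Subgroup.normalizer (V' : Set X) :=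
    fun g hg => hNV' g (hAV hg) (Subgroup.le_normalizer hg)
  have hV'ab : ∀ u ∈ V', ∀ v ∈ V', u * v = v * u :=
    fun u hu v hv => h.hVab u (hV'V hu) v (hV'V hv)
  obtain ⟨D, hD, haD, hU⟩ := exists_hyp h.hq hAab hAexp hV'ab hAV' hcopAV' a haA haV'
  have hsv : HS q r A V' x :=
    { hq := h.hq, hr := h.hr, hx := h.hx, hAab := hAab, hWab := hV'ab, hAW := hAV',
      hxA := hNA x h.hxQ, hxW := hNV' x h.hxV (hNA x h.hxQ), hcop := hcopAV', hCW := hCW,
      hcyc := fun y₁ hy₁ c1 n1 y₂ hy₂ c2 => h.cyc y₁ (hV'V hy₁) c1 n1 y₂ (hV'V hy₂) c2 }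
  have hDZ : D ≤ Subgroup.centralizer (Q : Set X) := hD.1.trans hAZ
  have hQD : Q ≤ Subgroup.normalizer (D : Set X) :=
    (Subgroup.le_centralizer_iff.mp hDZ).trans (Subgroup.centralizer_le_normalizer (D : Set X))
  have hxD : x ∈ Subgroup.normalizer (D : Set X) := by
    by_contra hxD
    obtain ⟨u₀, hu₀, hu₀1⟩ := exists_mem_ne_one hU
    have : IsCyclic ↥(V' ⊓ Subgroup.centralizer (D : Set X)) :=
      isCyclic_of_gen hu₀ (fun u hu => hsv.nf_cyc hD hxD hu₀ hu₀1 hu)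
    have hQU : Q ≤ Subgroup.normalizer
        ((V' ⊓ Subgroup.centralizer (D : Set X) : Subgroup X) : Set X) :=
      fun g hg => mem_normalizer_inf (hNV' g (h.hQV hg) (hNA g (Subgroup.le_normalizer hg)))
        (mem_normalizer_centralizer (hQD hg))
    have h4 : ⁅Q, Q⁆ ≤ Subgroup.centralizer
        ((V' ⊓ Subgroup.centralizer (D : Set X) : Subgroup X) : Set X) := by
      rw [Subgroup.commutator_le]
      intro a ha b hb
      exact aut_cyclic_comm (hQU ha) (hQU hb)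
    rw [← hA, Subgroup.le_centralizer_iff] at h4
    apply hU
    rw [eq_bot_iff, ← hCW]
    exact le_inf inf_le_left h4
  have hDS : D ≤ Subgroup.centralizer (S : Set X) :=
    (le_inf (hD.1.trans hAQ) hDZ).trans (h.Z_le_CS hna)
  have hSD : S ≤ Subgroup.normalizer (D : Set X) :=
    (Subgroup.le_centralizer_iff.mp hDS).trans (Subgroup.centralizer_le_normalizer (D : Set X))
  have hDc : ∀ d ∈ D, ∀ b ∈ Q, d * b = b * d := fun d hd b hb =>
    (Subgroup.mem_centralizer_iff.mp (hDZ hd) b hb).symm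
  obtain ⟨N, hN⟩ : ∃ N, N = modCenter Q D hDc := ⟨_, rfl⟩
  have hNQ : N ≤ Q := by
    rw [hN]
    exact fun k hk => hk.1
  have hNne : N ≠ Q := by
    intro e
    have hAD : A ≤ D := by
      rw [hA, Subgroup.commutator_le]
      intro a ha b hb
      have hmem : a ∈ N := e ▸ ha
      rw [hN] at hmem
      exact hmem.2 b hb
    exact hD.ne h.hq (le_antisymm hD.1 hAD)
  have hNnorm : ∀ g, g ∈ Subgroup.normalizer (Q : Set X) → g ∈ Subgroup.normalizer (D : Set X) →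
      g ∈ Subgroup.normalizer (N : Set X) := by
    intro g h1 h2
    rw [hN]
    exact modCenter_normalizer h1 h2
  have hNZ : N ≤ Subgroup.centralizer (Q : Set X) :=
    h.central_of_proper hNQ hNne (fun g hg => hNnorm g (Subgroup.le_normalizer hg) (hQD hg))
      (fun g hg => hNnorm g (h.hSQ hg) (hSD hg)) (hNnorm x h.hxQ hxD)
  have hstar : ∀ k ∈ Q, (∀ b ∈ Q, ⁅k, b⁆ ∈ D) → k ∈ Subgroup.centralizer (Q : Set X) := by
    intro k hk hkb
    apply hNZ
    rw [hN]
    exact ⟨hk, hkb⟩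
  obtain ⟨k, hk⟩ := index_center_even hD hAQ hAZ hcommA hstar
  have h1 := h.card_Q_eq hna
  have h2 := card_mul_relIndex (inf_le_left : Q ⊓ Subgroup.centralizer (Q : Set X) ≤ Q)
  rw [hk, h1, mul_comm] at h2
  have h3 : q ^ (2 * k) = q ^ r := Nat.eq_of_mul_eq_mul_right Nat.card_pos h2
  have h4 : 2 * k = r := Nat.pow_right_injective h.hq.two_le h3
  rcases h.hr.eq_one_or_self_of_dvd 2 ⟨k, h4.symm⟩ with h5 | h5
  · omega
  · exact h.hr2 h5.symm

/-- The critical configuration does not exist. -/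
theorem false (h : Crit p q r V Q S x) : False := by
  by_cases hab : ∀ a ∈ Q, ∀ b ∈ Q, a * b = b * a
  · exact h.abelian_false hab
  · exact h.nonabelian_false hab

end Crit

end Cfsg.Agent.Lib.Helper1.PL
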