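import Mathlib
import Cfsg.Prelude.Def_Local
import Cfsg.Prelude.Def_CaseTheorems
import Cfsg.Agent.Lib.Helper1.PL3
import Cfsg.Agent.Lib.Helper1.Hall
import Cfsg.Agent.Lib.Helper1.SZHelpers
import Cfsg.Agent.Lib.Helper1.GlaubermanRepl3
import Cfsg.Agent.Lib.Helper1.FittingCentralizer
import Cfsg.Agent.Lib.Helper1.Fitting
import Cfsg.Agent.Lib.Helper1.FrattiniAction
import Cfsg.Agent.Lib.Helper1.PLengthOne
import Cfsg.Agent.Lib.Helper2.Cores
import Cfsg.Agent.Lib.Helper2.PLengthSeries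
import Cfsg.Agent.Lib.Lead.PLength

/-! General lemmas for the reduction part of the `p`-length theorem for `[H, R]`:
`p`-closed groups, lifting `p`-closure from a quotient, the subgroup `O_{p,p'}`, cyclic
`p`-subgroups of `Z`-groups. -/

set_option autoImplicit false
set_option maxHeartbeats 4000000
set_option linter.unusedVariables false
set_option linter.unusedSectionVars false
set_option linter.style.longLine false

open scoped commutatorElement

namespace Cfsg.Agent.Lib.Helper1.PL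

open Cfsg

universe u

variable {G : Type u} [Group G]

/-! ### cardinalities -/

theorem inf_bot_of_coprime {A B : Subgroup G} (h : (Nat.card A).Coprime (Nat.card B)) :
    A ⊓ B = ⊥ := by
  rw [eq_bot_iff]
  intro x hx
  obtain ⟨ha, hb⟩ := Subgroup.mem_inf.mp hx
  rw [Subgroup.mem_bot]
  have h1 : orderOf x ∣ Nat.card A := Subgroup.orderOf_dvd_natCard A ha
  have h2 : orderOf x ∣ Nat.card B := Subgroup.orderOf_dvd_natCard B hb
  exact orderOf_eq_one_iff.mp (Nat.eq_one_of_dvd_coprimes h h1 h2)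

theorem card_sup_of_inf_bot {A B : Subgroup G} (hAB : A ≤ Subgroup.normalizer (B : Set G))
    (h : A ⊓ B = ⊥) : Nat.card (A ⊔ B : Subgroup G) = Nat.card A * Nat.card B := by
  have h1 := GlaubermanRepl.card_sup_mul_card_inf_of_le_normalizer A B hAB
  rwa [h, Subgroup.card_bot, mul_one] at h1

theorem card_sup_dvd' {A B : Subgroup G} (hAB : A ≤ Subgroup.normalizer (B : Set G)) :
    Nat.card (A ⊔ B : Subgroup G) ∣ Nat.card A * Nat.card B :=
  Dvd.intro _ (GlaubermanRepl.card_sup_mul_card_inf_of_le_normalizer A B hAB)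

theorem inf_eq_of_sup [Finite G] {p : ℕ} [hp : Fact p.Prime] {V N A A₀ : Subgroup G}
    (hVp : IsPGroup p V) (hNV : N ≤ V) (hsup : N ⊔ A₀ = A)
    (hA₀N : A₀ ≤ Subgroup.normalizer (N : Set G)) (hcop : (Nat.card A₀).Coprime p) :
    V ⊓ A = N := by
  have hNA : N ≤ A := by rw [← hsup]; exact le_sup_left
  have hle : N ≤ V ⊓ A := le_inf hNV hNA
  symm
  apply Subgroup.eq_of_le_of_card_ge hle
  apply Nat.le_of_dvd Nat.card_pos
  have h1 : Nat.card (V ⊓ A : Subgroup G) ∣ Nat.card A₀ * Nat.card N := by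
    have h2 : Nat.card (V ⊓ A : Subgroup G) ∣ Nat.card A := Subgroup.card_dvd_of_le inf_le_right
    have h2' : Nat.card A ∣ Nat.card A₀ * Nat.card N := by
      rw [← hsup, sup_comm]
      exact card_sup_dvd' hA₀N
    exact h2.trans h2'
  obtain ⟨j, hj⟩ := IsPGroup.iff_card.mp (hVp.to_le (inf_le_left : V ⊓ A ≤ V))
  have h3 : (Nat.card (V ⊓ A : Subgroup G)).Coprime (Nat.card A₀) := by
    rw [hj]
    exact Nat.Coprime.pow_left j hcop.symm
  exact h3.dvd_of_dvd_mul_left h1

/-! ### `p`-closed groups -/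

theorem pLengthLE_one_of_pclosed [Finite G] (p : ℕ) [Fact p.Prime] (V : Subgroup G)
    [hVn : V.Normal] (hV : IsPGroup p V) (hi : V.index.Coprime p) : PLengthLE p 1 G := by
  obtain ⟨C, hC⟩ : ∃ C : ℕ → Subgroup G,
      C = fun n => if n ≤ 1 then ⊥ else if n = 2 then V else ⊤ := ⟨_, rfl⟩
  have h0 : C 0 = ⊥ := by rw [hC]; simp
  have h1 : C 1 = ⊥ := by rw [hC]; simp
  have h2 : C 2 = V := by rw [hC]; simp
  have h3 : ∀ n, 3 ≤ n → C n = ⊤ := by
    intro n hn
    rw [hC]
    have e1 : ¬ n ≤ 1 := by omega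
    have e2 : ¬ n = 2 := by omega
    simp [e1, e2]
  have hn : ∀ n, (C n).Normal := by
    intro n
    rw [hC]
    dsimp only
    split_ifs <;> infer_instance
  have heven : ∀ n, Even n → ((C n).relIndex (C (n + 1))).Coprime p := by
    intro n hne
    rcases Nat.lt_or_ge n 3 with h | h
    · interval_cases n
      · rw [h0, h1, Subgroup.relIndex_self]
        exact Nat.coprime_one_left p
      · exact absurd hne (by decide)
      · rw [h2, h3 3 le_rfl, Subgroup.relIndex_top_right]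
        exact hi
    · rw [h3 n h, h3 (n + 1) (by omega), Subgroup.relIndex_self]
      exact Nat.coprime_one_left p
  have hodd : ∀ n, ¬ Even n → ∃ k, (C n).relIndex (C (n + 1)) = p ^ k := by
    intro n hne
    rcases Nat.lt_or_ge n 3 with h | h
    · interval_cases n
      · exact absurd (by decide : Even 0) hne
      · rw [h1, h2, Subgroup.relIndex_bot_left]
        exact IsPGroup.iff_card.mp hV
      · exact absurd (by decide : Even 2) hne
    · exact ⟨0, by rw [h3 n h, h3 (n + 1) (by omega), Subgroup.relIndex_self, pow_zero]⟩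
  have h4 := Helper2.PLQ.le_upperPSeries_of_series p C hn h0 heven hodd 3
  rw [h3 3 le_rfl] at h4
  change (upperPSeries p G 3).1 = ⊤
  exact top_le_iff.mp h4

theorem pLengthLE_one_of_pclosed_rel [Finite G] (p : ℕ) [Fact p.Prime] (H V : Subgroup G)
    (hVH : V ≤ H) (hHV : H ≤ Subgroup.normalizer (V : Set G)) (hV : IsPGroup p V)
    (hi : (V.relIndex H).Coprime p) : PLengthLE p 1 ↥H := by
  have : (V.subgroupOf H).Normal := (Subgroup.normal_subgroupOf_iff_le_normalizer hVH).mpr hHV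
  exact pLengthLE_one_of_pclosed p (V.subgroupOf H) hV.comap_subtype hi

theorem exists_normal_sylow_of_pLengthLE_one [Finite G] (p : ℕ) [Fact p.Prime]
    (h : PLengthLE p 1 G)
    (hO : ∀ K : Subgroup G, K.Normal → (Nat.card K).Coprime p → K = ⊥) :
    ∃ P : Subgroup G, P.Normal ∧ IsPGroup p P ∧ P.index.Coprime p := by
  obtain ⟨K, N, hKn, hNn, hKN, hK, ⟨a, ha⟩, hi⟩ := Lead.PLength.exists_of_pLengthLE_one p h
  have hK1 := hO K hKn hK
  rw [hK1, Subgroup.card_bot, one_mul] at ha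
  exact ⟨N, hNn, IsPGroup.of_card ha, hi⟩

theorem le_normalizer_map_subtype_of_normal {H : Subgroup G} (K : Subgroup ↥H) [hK : K.Normal] :
    H ≤ Subgroup.normalizer ((K.map H.subtype : Subgroup G) : Set G) := by
  intro g hg
  apply mem_nz_of_conj
  · rintro _ ⟨c, hc, rfl⟩
    exact ⟨⟨g, hg⟩ * c * ⟨g, hg⟩⁻¹, hK.conj_mem c hc ⟨g, hg⟩, rfl⟩
  · rintro _ ⟨c, hc, rfl⟩
    refine ⟨⟨g, hg⟩⁻¹ * c * ⟨g, hg⟩, ?_, rfl⟩
    have := hK.conj_mem c hc ⟨g, hg⟩⁻¹
    rwa [inv_inv] at this

/-! ### pullbacks from `H / N` -/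

/-- pullback to `G` of a subgroup of `H / N` -/
def pb (H N : Subgroup G) [(N.subgroupOf H).Normal] (K : Subgroup (↥H ⧸ N.subgroupOf H)) :
    Subgroup G :=
  (K.comap (QuotientGroup.mk' (N.subgroupOf H))).map H.subtype

theorem pb_le (H N : Subgroup G) [(N.subgroupOf H).Normal]
    (K : Subgroup (↥H ⧸ N.subgroupOf H)) : pb H N K ≤ H := Subgroup.map_subtype_le _

theorem le_pb {H N : Subgroup G} [(N.subgroupOf H).Normal] (hNH : N ≤ H)
    (K : Subgroup (↥H ⧸ N.subgroupOf H)) : N ≤ pb H N K := by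
  intro n hn
  refine ⟨⟨n, hNH hn⟩, ?_, rfl⟩
  show (QuotientGroup.mk' (N.subgroupOf H)) ⟨n, hNH hn⟩ ∈ K
  have e : (QuotientGroup.mk' (N.subgroupOf H)) ⟨n, hNH hn⟩ = 1 :=
    (QuotientGroup.eq_one_iff _).mpr hn
  rw [e]
  exact K.one_mem

theorem card_pb {H N : Subgroup G} [(N.subgroupOf H).Normal] (hNH : N ≤ H)
    (K : Subgroup (↥H ⧸ N.subgroupOf H)) :
    Nat.card (pb H N K) = Nat.card N * Nat.card K := by
  unfold pb
  rw [Subgroup.card_map_of_injective H.subtype_injective, card_comap_mk',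
    card_subgroupOf_of_le hNH]

theorem pb_normalizer {H N : Subgroup G} [(N.subgroupOf H).Normal]
    (K : Subgroup (↥H ⧸ N.subgroupOf H)) [K.Normal] :
    H ≤ Subgroup.normalizer ((pb H N K : Subgroup G) : Set G) :=
  le_normalizer_map_subtype_of_normal _

/-- Lifting `p`-closure from `H / N`. -/
theorem lift_pclosed [Finite G] (p : ℕ) [Fact p.Prime] (H V N : Subgroup G)
    (hNV : N ≤ V) (hVH : V ≤ H) (hHN : H ≤ Subgroup.normalizer (N : Set G))
    (hVp : IsPGroup p V)
    (hVmax : ∀ P : Subgroup G, P ≤ H → IsPGroup p P → H ≤ Subgroup.normalizer (P : Set G) →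
      P ≤ V)
    [hn : (N.subgroupOf H).Normal]
    (hq : PLengthLE p 1 (↥H ⧸ N.subgroupOf H))
    (hkey : ∀ A A₀ : Subgroup G, A ≤ H → H ≤ Subgroup.normalizer (A : Set G) → N ⊔ A₀ = A →
      (Nat.card A₀).Coprime p → A₀ = ⊥) :
    (V.relIndex H).Coprime p := by
  have hNH : N ≤ H := hNV.trans hVH
  obtain ⟨i, hi⟩ := IsPGroup.iff_card.mp (hVp.to_le hNV)
  obtain ⟨Kb, Nb, hKn, hNn, hKN, hKcop, ⟨a, hNcard⟩, hNidx⟩ :=
    Lead.PLength.exists_of_pLengthLE_one p hq
  have hKb : Kb = ⊥ := by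
    obtain ⟨A, hA⟩ : ∃ A, A = pb H N Kb := ⟨_, rfl⟩
    have hAH : A ≤ H := by rw [hA]; exact pb_le H N Kb
    have hNA : N ≤ A := by rw [hA]; exact le_pb hNH Kb
    have hHA : H ≤ Subgroup.normalizer (A : Set G) := by rw [hA]; exact pb_normalizer Kb
    have hcardA : Nat.card A = Nat.card N * Nat.card Kb := by rw [hA]; exact card_pb hNH Kb
    have hnA : (N.subgroupOf A).Normal :=
      (Subgroup.normal_subgroupOf_iff_le_normalizer hNA).mpr (hAH.trans hHN)
    have hrel : N.relIndex A = Nat.card Kb := by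
      have h1 := card_mul_relIndex hNA
      rw [hcardA] at h1
      exact Nat.eq_of_mul_eq_mul_left Nat.card_pos h1
    have hcopN : (Nat.card (N.subgroupOf A)).Coprime (N.subgroupOf A).index := by
      have e : (N.subgroupOf A).index = N.relIndex A := rfl
      rw [card_subgroupOf_of_le hNA, e, hrel, hi]
      exact Nat.Coprime.pow_left i hKcop.symm
    obtain ⟨A₀', hA₀'⟩ := Subgroup.exists_right_complement'_of_coprime hcopN
    obtain ⟨A₀, hA₀⟩ : ∃ A₀, A₀ = A₀'.map A.subtype := ⟨_, rfl⟩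
    have hsup : N ⊔ A₀ = A := by
      have h1 := hA₀'.sup_eq_top
      have h2 := congrArg (Subgroup.map A.subtype) h1
      rw [Subgroup.map_sup, Subgroup.map_subgroupOf_eq_of_le hNA, ← hA₀,
        ← MonoidHom.range_eq_map, Subgroup.range_subtype] at h2
      exact h2
    have hcardA₀ : Nat.card A₀ = Nat.card Kb := by
      have h1 := hA₀'.card_mul_card
      rw [card_subgroupOf_of_le hNA, hcardA] at h1
      have h2 : Nat.card A₀ = Nat.card A₀' := by
        rw [hA₀]
        exact Subgroup.card_map_of_injective A.subtype_injective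
      rw [h2]
      exact Nat.eq_of_mul_eq_mul_left Nat.card_pos h1
    have h3 := hkey A A₀ hAH hHA hsup (by rw [hcardA₀]; exact hKcop)
    rw [h3, Subgroup.card_bot] at hcardA₀
    exact Subgroup.card_eq_one.mp hcardA₀.symm
  rw [hKb, Subgroup.card_bot, one_mul] at hNcard
  obtain ⟨P, hP⟩ : ∃ P, P = pb H N Nb := ⟨_, rfl⟩
  have hPH : P ≤ H := by rw [hP]; exact pb_le H N Nb
  have hHP : H ≤ Subgroup.normalizer (P : Set G) := by rw [hP]; exact pb_normalizer Nb
  have hcardP : Nat.card P = Nat.card N * p ^ a := by rw [hP, card_pb hNH Nb, hNcard]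
  have hPp : IsPGroup p P := IsPGroup.of_card (n := i + a) (by rw [hcardP, hi, pow_add])
  have hPV : P ≤ V := hVmax P hPH hPp hHP
  have hcardH : Nat.card H = Nat.card P * Nb.index := by
    have h1 := Subgroup.card_eq_card_quotient_mul_card_subgroup (N.subgroupOf H)
    have h2 := Subgroup.card_mul_index Nb
    rw [← h2, card_subgroupOf_of_le hNH, hNcard] at h1
    rw [hcardP, h1]
    ring
  have h3 := card_mul_relIndex hVH
  have h4 := card_mul_relIndex hPV
  have h5 : V.relIndex H ∣ Nb.index := by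
    have h6 : Nat.card P * (P.relIndex V * V.relIndex H) = Nat.card P * Nb.index := by
      rw [← mul_assoc, h4, h3, hcardH]
    have h7 := Nat.eq_of_mul_eq_mul_left Nat.card_pos h6
    exact Dvd.intro_left _ h7
  exact Nat.Coprime.coprime_dvd_left h5 hNidx

/-! ### `O_{p'}` is self-centralizing when `O_p = 1` -/

theorem centralizer_pPrimeCore_le {X : Type*} [Group X] [Finite X] [Group.IsSolvable X]
    (p : ℕ) [Fact p.Prime] (hO : pCore p X = ⊥) :
    Subgroup.centralizer (pPrimeCore p X : Set X) ≤ pPrimeCore p X := by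
  have hF : fittingSubgroup X ≤ pPrimeCore p X := by
    rw [fittingSubgroup_eq_iSup_pCore]
    apply iSup_le
    intro q
    have : Fact (q : ℕ).Prime := ⟨q.2⟩
    by_cases hq : (q : ℕ) = p
    · rw [hq, hO]
      exact bot_le
    · exact pCore_le_pPrimeCore hq
  exact (Subgroup.centralizer_le hF).trans (centralizer_fittingSubgroup_le.trans hF)

/-! ### the subgroup `O_{p,p'}` -/

theorem comap_mk_le_of_le_map {H V : Subgroup G} [V.Normal] (hVH : V ≤ H)
    {Y : Subgroup (G ⧸ V)} (hY : Y ≤ H.map (QuotientGroup.mk' V)) :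
    Y.comap (QuotientGroup.mk' V) ≤ H := by
  intro u hu
  obtain ⟨h, hh, hhy⟩ := hY (Subgroup.mem_comap.mp hu)
  have h1 : h⁻¹ * u ∈ V := QuotientGroup.eq.mp hhy
  have e : u = h * (h⁻¹ * u) := by group
  rw [e]
  exact H.mul_mem hh (hVH h1)

/-- `O_{p,p'}(H)`: the preimage of `O_{p'}(H/V)` -/
def Upp (p : ℕ) (H V : Subgroup G) [V.Normal] : Subgroup G :=
  ((pPrimeCore p ↥(H.map (QuotientGroup.mk' V))).map
    (H.map (QuotientGroup.mk' V)).subtype).comap (QuotientGroup.mk' V)

theorem le_Upp (p : ℕ) (H V : Subgroup G) [V.Normal] : V ≤ Upp p H V := by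
  intro v hv
  unfold Upp
  rw [Subgroup.mem_comap]
  have e : (QuotientGroup.mk' V) v = 1 := (QuotientGroup.eq_one_iff v).mpr hv
  rw [e]
  exact Subgroup.one_mem _

theorem Upp_le (p : ℕ) {H V : Subgroup G} [V.Normal] (hVH : V ≤ H) : Upp p H V ≤ H :=
  comap_mk_le_of_le_map hVH (Subgroup.map_subtype_le _)

theorem Upp_normal (p : ℕ) (H V : Subgroup G) [hH : H.Normal] [V.Normal] :
    (Upp p H V).Normal := by
  have hHb : (H.map (QuotientGroup.mk' V)).Normal :=
    Subgroup.Normal.map hH _ (QuotientGroup.mk'_surjective V)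
  have := Helper2.pPrimeCore_characteristic (G := ↥(H.map (QuotientGroup.mk' V))) p
  have h1 := normalizer_le_normalizer_map_characteristic (H.map (QuotientGroup.mk' V))
    (pPrimeCore p ↥(H.map (QuotientGroup.mk' V)))
  rw [Subgroup.normalizer_eq_top, top_le_iff] at h1
  have h2 : ((pPrimeCore p ↥(H.map (QuotientGroup.mk' V))).map
      (H.map (QuotientGroup.mk' V)).subtype).Normal := Subgroup.normalizer_eq_top_iff.mp h1
  unfold Upp
  exact Subgroup.Normal.comap h2 _

theorem card_Upp [Finite G] (p : ℕ) (H V : Subgroup G) [V.Normal] :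
    ∃ m : ℕ, m.Coprime p ∧ Nat.card (Upp p H V) = Nat.card V * m := by
  refine ⟨Nat.card (pPrimeCore p ↥(H.map (QuotientGroup.mk' V))), pPrimeCore_card_coprime p, ?_⟩
  unfold Upp
  rw [card_comap_mk', Subgroup.card_map_of_injective (Subgroup.subtype_injective _)]

theorem Upp_max [Finite G] (p : ℕ) {H V A B A₀ : Subgroup G} [V.Normal]
    (hAH : A ≤ H) (hHA : H ≤ Subgroup.normalizer (A : Set G)) (hsup : B ⊔ A₀ = A) (hBV : B ≤ V)
    (hcop : (Nat.card A₀).Coprime p) : A ≤ Upp p H V := by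
  obtain ⟨π, hπ⟩ : ∃ π : G →* G ⧸ V, π = QuotientGroup.mk' V := ⟨_, rfl⟩
  have hle : A.map π ≤ H.map π := Subgroup.map_mono hAH
  have hnorm : H.map π ≤ Subgroup.normalizer ((A.map π : Subgroup (G ⧸ V)) : Set (G ⧸ V)) :=
    (Subgroup.map_mono hHA).trans (Subgroup.le_normalizer_map π)
  have hN : ((A.map π).subgroupOf (H.map π)).Normal :=
    (Subgroup.normal_subgroupOf_iff_le_normalizer hle).mpr hnorm
  have hcard : (Nat.card ((A.map π).subgroupOf (H.map π))).Coprime p := by
    rw [card_subgroupOf_of_le hle]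
    have e : A.map π = A₀.map π := by
      rw [← hsup, Subgroup.map_sup]
      have e1 : B.map π = ⊥ := by
        rw [Subgroup.map_eq_bot_iff, hπ, QuotientGroup.ker_mk']
        exact hBV
      rw [e1, bot_sup_eq]
    rw [e]
    exact Nat.Coprime.coprime_dvd_left (Subgroup.card_map_dvd A₀ π) hcop
  have h1 := le_pPrimeCore hN hcard
  intro a ha
  unfold Upp
  rw [Subgroup.mem_comap, ← hπ]
  have hmem : π a ∈ A.map π := Subgroup.mem_map_of_mem π ha
  exact ⟨⟨π a, hle hmem⟩, h1 (Subgroup.mem_subgroupOf.mpr hmem), rfl⟩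

theorem Upp_cent [Finite G] [Group.IsSolvable G] (p : ℕ) [Fact p.Prime] {H V : Subgroup G}
    [hH : H.Normal] [V.Normal] (hVH : V ≤ H) (hVp : IsPGroup p V)
    (hVmax : ∀ P : Subgroup G, P ≤ H → IsPGroup p P → H ≤ Subgroup.normalizer (P : Set G) →
      P ≤ V)
    {h : G} (hh : h ∈ H) (hc : ∀ u ∈ Upp p H V, ⁅h, u⁆ ∈ V) : h ∈ Upp p H V := by
  obtain ⟨π, hπ⟩ : ∃ π : G →* G ⧸ V, π = QuotientGroup.mk' V := ⟨_, rfl⟩
  have hπs : Function.Surjective π := by rw [hπ]; exact QuotientGroup.mk'_surjective V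
  have hπk : π.ker = V := by rw [hπ]; exact QuotientGroup.ker_mk' V
  have hUdef : Upp p H V = ((pPrimeCore p ↥(H.map π)).map (H.map π).subtype).comap π := by
    rw [hπ]
    rfl
  -- `O_p(H/V) = 1`
  have hO : pCore p ↥(H.map π) = ⊥ := by
    obtain ⟨P, hP⟩ : ∃ P, P = ((pCore p ↥(H.map π)).map (H.map π).subtype).comap π := ⟨_, rfl⟩
    have hPH : P ≤ H := by
      rw [hP, hπ]
      exact comap_mk_le_of_le_map hVH (Subgroup.map_subtype_le _)
    have hPp : IsPGroup p P := by
      obtain ⟨i, hi⟩ := IsPGroup.iff_card.mp hVp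
      obtain ⟨j, hj⟩ := IsPGroup.iff_card.mp (pCore_isPGroup (G := ↥(H.map π)) p)
      apply IsPGroup.of_card (n := i + j)
      rw [hP, hπ, card_comap_mk', Subgroup.card_map_of_injective (Subgroup.subtype_injective _),
        hi, ← hπ, hj, pow_add]
    have hHP : H ≤ Subgroup.normalizer (P : Set G) := by
      have : (pCore p ↥(H.map π)).Normal := pCore_normal p
      have h1 := le_normalizer_map_subtype_of_normal (H := H.map π) (pCore p ↥(H.map π))
      intro g hg
      have h2 : π g ∈ Subgroup.normalizer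
          (((pCore p ↥(H.map π)).map (H.map π).subtype : Subgroup (G ⧸ V)) : Set (G ⧸ V)) :=
        h1 (Subgroup.mem_map_of_mem π hg)
      rw [hP]
      exact Subgroup.le_normalizer_comap π (Subgroup.mem_comap.mpr h2)
    have hPV := hVmax P hPH hPp hHP
    rw [eq_bot_iff]
    intro y hy
    rw [Subgroup.mem_bot]
    obtain ⟨g, hg⟩ := hπs (y : G ⧸ V)
    have hgP : g ∈ P := by
      rw [hP, Subgroup.mem_comap, hg]
      exact ⟨y, hy, rfl⟩
    have hgV : g ∈ π.ker := by rw [hπk]; exact hPV hgP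
    rw [MonoidHom.mem_ker, hg] at hgV
    exact Subtype.ext hgV
  have hb : (⟨π h, Subgroup.mem_map_of_mem π hh⟩ : ↥(H.map π)) ∈
      Subgroup.centralizer (pPrimeCore p ↥(H.map π) : Set ↥(H.map π)) := by
    rw [Subgroup.mem_centralizer_iff]
    intro ub hub
    apply Subtype.ext
    obtain ⟨g, hg⟩ := hπs (ub : G ⧸ V)
    have hgU : g ∈ Upp p H V := by
      rw [hUdef, Subgroup.mem_comap, hg]
      exact ⟨ub, hub, rfl⟩
    have h1 : ⁅h, g⁆ ∈ π.ker := by rw [hπk]; exact hc g hgU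
    rw [MonoidHom.mem_ker, map_commutatorElement, commutatorElement_eq_one_iff_commute] at h1
    show (ub : G ⧸ V) * π h = π h * (ub : G ⧸ V)
    rw [← hg]
    exact h1.eq.symm
  have h2 := centralizer_pPrimeCore_le p hO hb
  rw [hUdef, Subgroup.mem_comap]
  exact ⟨_, h2, rfl⟩

/-! ### `p`-closure from `p`-length one -/

theorem pclosed_of_ih [Finite G] (p : ℕ) [Fact p.Prime] {H V X₂ D : Subgroup G}
    (hVp : IsPGroup p V) (hHV : H ≤ Subgroup.normalizer (V : Set G))
    (hCV : H ⊓ Subgroup.centralizer (V : Set G) ≤ V) (hX₂H : X₂ ≤ H) (hVX₂ : V ≤ X₂)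
    (hDX₂ : D ≤ X₂) (hX₂D : X₂ ≤ Subgroup.normalizer (D : Set G)) (hpl : PLengthLE p 1 ↥D) :
    ∃ P : Subgroup G, P ≤ D ∧ IsPGroup p P ∧ X₂ ≤ Subgroup.normalizer (P : Set G) ∧
      ∀ T : Subgroup G, T ≤ D → IsPGroup p T → T ≤ P := by
  have := Helper2.pPrimeCore_characteristic (G := ↥D) p
  obtain ⟨O, hOdef⟩ : ∃ O, O = (pPrimeCore p ↥D).map D.subtype := ⟨_, rfl⟩
  have hON : Subgroup.normalizer (D : Set G) ≤ Subgroup.normalizer (O : Set G) := by
    rw [hOdef]
    exact normalizer_le_normalizer_map_characteristic D (pPrimeCore p ↥D)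
  have hOD : O ≤ D := by rw [hOdef]; exact Subgroup.map_subtype_le _
  have hOcard : (Nat.card O).Coprime p := by
    rw [hOdef, Subgroup.card_map_of_injective D.subtype_injective]
    exact pPrimeCore_card_coprime p
  obtain ⟨k, hk⟩ := IsPGroup.iff_card.mp hVp
  have hOV : O ⊓ V = ⊥ := inf_bot_of_coprime (by rw [hk]; exact Nat.Coprime.pow_right k hOcard)
  have hVO : V ≤ Subgroup.normalizer (O : Set G) := (hVX₂.trans hX₂D).trans hON
  have hOnV : O ≤ Subgroup.normalizer (V : Set G) := ((hOD.trans hDX₂).trans hX₂H).trans hHV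
  have hcomm : ⁅O, V⁆ = ⊥ := by
    rw [eq_bot_iff, ← hOV]
    apply le_inf
    · exact Subgroup.le_normalizer_iff_commutator_le_left.mp hVO
    · rw [Subgroup.commutator_comm]
      exact Subgroup.le_normalizer_iff_commutator_le_left.mp hOnV
  have hO1 : O = ⊥ := by
    rw [Subgroup.commutator_eq_bot_iff_le_centralizer] at hcomm
    have h1 : O ≤ V := (le_inf ((hOD.trans hDX₂).trans hX₂H) hcomm).trans hCV
    rw [eq_bot_iff, ← hOV]
    exact le_inf le_rfl h1
  have hcore : pPrimeCore p ↥D = ⊥ := by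
    rw [hOdef] at hO1
    exact (Subgroup.map_eq_bot_iff_of_injective _ D.subtype_injective).mp hO1
  obtain ⟨P', hP'n, hP'p, hP'i⟩ := exists_normal_sylow_of_pLengthLE_one p hpl (by
    intro K hKn hK
    have h1 := le_pPrimeCore hKn hK
    rw [hcore] at h1
    exact le_bot_iff.mp h1)
  have hall : ∀ T : Subgroup G, T ≤ D → IsPGroup p T → T ≤ P'.map D.subtype := by
    intro T hTD hT
    have h1 : T.subgroupOf D ≤ P' :=
      Lead.PLength.le_of_isPGroup_of_index_coprime hP'i hT.comap_subtype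
    intro t ht
    exact ⟨⟨t, hTD ht⟩, h1 (Subgroup.mem_subgroupOf.mpr ht), rfl⟩
  have hPD : P'.map D.subtype ≤ D := Subgroup.map_subtype_le _
  have hPp : IsPGroup p ↥(P'.map D.subtype) := hP'p.map _
  refine ⟨P'.map D.subtype, hPD, hPp, ?_, hall⟩
  intro g hg
  have hgD := hX₂D hg
  have key : ∀ g' : G, g' ∈ Subgroup.normalizer (D : Set G) →
      ∀ c ∈ P'.map D.subtype, g' * c * g'⁻¹ ∈ P'.map D.subtype := by
    intro g' hg' c hc
    have h1 : cj g' (P'.map D.subtype) ≤ D := by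
      have := cj_mono (g := g') hPD
      rwa [cj_of_mem_normalizer hg'] at this
    have h2 : IsPGroup p ↥(cj g' (P'.map D.subtype)) := hPp.map _
    exact hall _ h1 h2 (conj_mem_cj hc)
  apply mem_nz_of_conj
  · exact key g hgD
  · intro c hc
    have := key g⁻¹ (Subgroup.inv_mem _ hgD) c hc
    rwa [inv_inv] at this

/-! ### cyclic `p`-groups -/

theorem cyc_sub {T : Type*} [Group T] [Finite T] [hT : IsCyclic T] {p : ℕ} (hp : p.Prime)
    {a b : T} (ha : a ^ p = 1) (ha1 : a ≠ 1) (hb : b ^ p = 1) : b ∈ Subgroup.zpowers a := by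
  have := Fact.mk hp
  let _ : CommGroup T := IsCyclic.commGroup
  have hcard := IsCyclic.card_powMonoidHom_ker (G := T) p
  have haK : a ∈ (powMonoidHom p : T →* T).ker := by
    rw [MonoidHom.mem_ker, powMonoidHom_apply]
    exact ha
  have hbK : b ∈ (powMonoidHom p : T →* T).ker := by
    rw [MonoidHom.mem_ker, powMonoidHom_apply]
    exact hb
  have hle : Subgroup.zpowers a ≤ (powMonoidHom p : T →* T).ker := Subgroup.zpowers_le.mpr haK
  have hca : Nat.card (Subgroup.zpowers a) = p := by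
    rw [Nat.card_zpowers]
    exact orderOf_eq_prime ha ha1
  have hK : Nat.card (powMonoidHom p : T →* T).ker ≤ p := by
    rw [hcard]
    exact Nat.le_of_dvd hp.pos (Nat.gcd_dvd_right _ _)
  have e := Subgroup.eq_of_le_of_card_ge hle (by rw [hca]; exact hK)
  rw [e]
  exact hbK

theorem isCyclic_of_isPGroup_le_zgroup [Finite G] {p : ℕ} [Fact p.Prime] {C₀ T : Subgroup G}
    [IsZGroup ↥C₀] (hT : T ≤ C₀) (hTp : IsPGroup p T) : IsCyclic ↥T := by
  have h1 : IsPGroup p (T.subgroupOf C₀) := hTp.comap_subtype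
  obtain ⟨P, hP⟩ := h1.exists_le_sylow
  have : IsCyclic ↥(T.subgroupOf C₀) :=
    isCyclic_of_injective (Subgroup.inclusion hP) (Subgroup.inclusion_injective hP)
  exact isCyclic_of_surjective (Subgroup.subgroupOfEquivOfLe hT)
    (Subgroup.subgroupOfEquivOfLe hT).surjective

theorem exists_gen_nat [Finite G] (U : Subgroup G) [IsCyclic ↥U] :
    ∃ c ∈ U, ∀ v ∈ U, ∃ k : ℕ, v = c ^ k := by
  obtain ⟨g, hg⟩ := IsCyclic.exists_generator (α := ↥U)
  refine ⟨g, g.2, fun v hv => ?_⟩
  have h1 : (⟨v, hv⟩ : ↥U) ∈ Subgroup.zpowers g := hg _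
  rw [← mem_powers_iff_mem_zpowers, Submonoid.mem_powers_iff] at h1
  obtain ⟨k, hk⟩ := h1
  refine ⟨k, ?_⟩
  have h2 := congrArg Subtype.val hk
  rw [Subgroup.coe_pow] at h2
  exact h2.symm

theorem sylow_normal_of_class_two [Finite G] {p : ℕ} [Fact p.Prime] {L : Subgroup G}
    (h : ⁅L, L⁆ ≤ Subgroup.centralizer (L : Set G)) (P : Sylow p ↥L) :
    (P : Subgroup ↥L).Normal := by
  have h2 : L.lowerCentralSeries 2 = ⊥ := by
    show ⁅⁅L, L⁆, L⁆ = ⊥
    rw [Subgroup.commutator_eq_bot_iff_le_centralizer]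
    exact h
  have : Group.IsNilpotent ↥L := Subgroup.isNilpotent_of_lowerCentralSeries_eq_bot h2
  exact Sylow.normal_of_normalizerCondition Group.normalizerCondition_of_isNilpotent P

end Cfsg.Agent.Lib.Helper1.PL
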