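import Mathlib
import Cfsg.Prelude.Def_Local
import Cfsg.Prelude.Def_OddOrderLocal
import Cfsg.Agent.Lib.Helper1.PL5
import Cfsg.Agent.Lib.Helper1.FrattiniHall
import Cfsg.Agent.Lib.Helper2.CoprimeHall

/-! The reduction part of the `p`-length theorem for `[H, R]`: the context `Ctx` of a minimal
counterexample and the complement `L` to `V` in `H` (`Split`). -/

set_option autoImplicit false
set_option maxHeartbeats 4000000
set_option linter.unusedVariables false
set_option linter.unusedSectionVars false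
set_option linter.style.longLine false

open scoped commutatorElement

namespace Cfsg.Agent.Lib.Helper1.PL

open Cfsg

universe u

variable {G : Type u} [Group G]

/-- the hypotheses of a minimal counterexample, after the standard reductions -/
structure Ctx (H R R₀ V : Subgroup G) (p : ℕ) : Prop where
  hodd : Odd (Nat.card G)
  hHn : H.Normal
  hVn : V.Normal
  hp : p.Prime
  hHall : (Nat.card H).Coprime H.index
  hcompl : Subgroup.IsComplement' H R
  hR₀R : R₀ ≤ R
  hR₀p : (Nat.card R₀).Prime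
  hZ : IsZGroup ↥(H ⊓ Subgroup.centralizer (R₀ : Set G))
  hHR : ⁅H, R⁆ = H
  hVH : V ≤ H
  hVab : ∀ a ∈ V, ∀ b ∈ V, a * b = b * a
  hVexp : ∀ a ∈ V, a ^ p = 1
  hCV : H ⊓ Subgroup.centralizer (V : Set G) ≤ V
  hVmax : ∀ P : Subgroup G, P ≤ H → IsPGroup p P → H ≤ Subgroup.normalizer (P : Set G) → P ≤ V
  hF : Cfsg.fittingOf H ≤ V
  hIH : ∀ H₁ R₁ : Subgroup G, H₁ ≤ H → R₁ ≤ R → R₀ ≤ R₁ →
    R₁ ≤ Subgroup.normalizer (H₁ : Set G) → H₁ ⊔ R₁ ≠ ⊤ → Cfsg.PLengthLE p 1 ↥⁅H₁, R₁⁆
  hnot : ¬ Cfsg.PLengthLE p 1 ↥H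

/-- a complement `L` to `V` in `H`, with `K = O_{p'}(L)` -/
structure Split (H R V L K : Subgroup G) (p : ℕ) : Prop where
  hKL : K ≤ L
  hLH : L ≤ H
  hRK : R ≤ Subgroup.normalizer (K : Set G)
  hRL : R ≤ Subgroup.normalizer (L : Set G)
  hLK : L ≤ Subgroup.normalizer (K : Set G)
  hVL : V ⊓ L = ⊥
  hVLH : V ⊔ L = H
  hKp : (Nat.card K).Coprime p
  hCLK : ∀ l ∈ L, (∀ k ∈ K, l * k = k * l) → l ∈ K
  hCVK : V ⊓ Subgroup.centralizer (K : Set G) = ⊥

theorem normal_of_forall_mem_normalizer {N : Subgroup G}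
    (h : ∀ g : G, g ∈ Subgroup.normalizer (N : Set G)) : N.Normal :=
  ⟨fun n hn g => (Subgroup.mem_normalizer_iff.mp (h g) n).mp hn⟩

theorem card_lt_of_le_of_ne [Finite G] {A B : Subgroup G} (h : A ≤ B) (hne : A ≠ B) :
    Nat.card A < Nat.card B :=
  lt_of_le_of_ne (Subgroup.card_le_of_le h) (fun e => hne (Subgroup.eq_of_le_of_card_ge h e.ge))

namespace Ctx

variable [Finite G] {H R R₀ V : Subgroup G} {p : ℕ}

theorem hVp (c : Ctx H R R₀ V p) : IsPGroup p V := fun g =>
  ⟨1, Subtype.ext (by rw [pow_one, Subgroup.coe_pow, Subgroup.coe_one]; exact c.hVexp g g.2)⟩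

theorem nV (c : Ctx H R R₀ V p) (A : Subgroup G) : A ≤ Subgroup.normalizer (V : Set G) := by
  have := c.hVn
  rw [Subgroup.normalizer_eq_top]
  exact le_top

theorem nH (c : Ctx H R R₀ V p) (A : Subgroup G) : A ≤ Subgroup.normalizer (H : Set G) := by
  have := c.hHn
  rw [Subgroup.normalizer_eq_top]
  exact le_top

theorem pclosed (c : Ctx H R R₀ V p) (h : (V.relIndex H).Coprime p) : False := by
  have := Fact.mk c.hp
  exact c.hnot (pLengthLE_one_of_pclosed_rel p H V c.hVH (c.nV H) c.hVp h)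

theorem cardG (c : Ctx H R R₀ V p) : Nat.card H * Nat.card R = Nat.card G :=
  c.hcompl.card_mul_card

theorem index_eq (c : Ctx H R R₀ V p) : H.index = Nat.card R := by
  have h1 := c.cardG
  have h2 := Subgroup.card_mul_index H
  exact Nat.eq_of_mul_eq_mul_left Nat.card_pos (h2.trans h1.symm)

theorem copHR (c : Ctx H R R₀ V p) : (Nat.card H).Coprime (Nat.card R) := by
  rw [← c.index_eq]
  exact c.hHall

theorem ne_top (c : Ctx H R R₀ V p) {H₁ R₁ : Subgroup G}
    (h3 : R₁ ≤ Subgroup.normalizer (H₁ : Set G))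
    (hne : Nat.card H₁ * Nat.card R₁ < Nat.card H * Nat.card R) : H₁ ⊔ R₁ ≠ ⊤ := by
  intro e
  have h4 : Nat.card (R₁ ⊔ H₁ : Subgroup G) ∣ Nat.card R₁ * Nat.card H₁ := card_sup_dvd' h3
  rw [sup_comm, e, Subgroup.card_top, ← c.cardG] at h4
  have h5 := Nat.le_of_dvd (Nat.mul_pos Nat.card_pos Nat.card_pos) h4
  rw [mul_comm (Nat.card R₁)] at h5
  exact absurd h5 (Nat.not_le.mpr hne)

theorem cardH (c : Ctx H R R₀ V p) {L K : Subgroup G} (s : Split H R V L K p) :
    Nat.card H = Nat.card L * Nat.card V := by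
  rw [← s.hVLH, sup_comm]
  exact card_sup_of_inf_bot (c.nV L) (by rw [inf_comm]; exact s.hVL)

/-- the complement trick -/
theorem step1 [Group.IsSolvable G] (c : Ctx H R R₀ V p)
    (hIQ : ∀ (N : Subgroup G) [N.Normal], N ≤ H → N ≠ ⊥ →
      Cfsg.PLengthLE p 1 (↥H ⧸ N.subgroupOf H)) :
    ∃ L K : Subgroup G, Split H R V L K p := by
  have := Fact.mk c.hp
  have := c.hHn
  have := c.hVn
  have hVp := c.hVp
  obtain ⟨U, hU⟩ : ∃ U, U = Upp p H V := ⟨_, rfl⟩
  have hUn : U.Normal := by rw [hU]; exact Upp_normal p H V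
  have hVU : V ≤ U := by rw [hU]; exact le_Upp p H V
  have hUH : U ≤ H := by rw [hU]; exact Upp_le p c.hVH
  obtain ⟨m, hm, hcardU⟩ := card_Upp p H V
  rw [← hU] at hcardU
  obtain ⟨kV, hkV⟩ := IsPGroup.iff_card.mp hVp
  have hRU : R ≤ Subgroup.normalizer (U : Set G) := by
    rw [Subgroup.normalizer_eq_top]
    exact le_top
  have hcopRU : (Nat.card R).Coprime (Nat.card U) :=
    Nat.Coprime.coprime_dvd_right (Subgroup.card_dvd_of_le hUH) c.copHR.symm
  have hmV : m.Coprime (Nat.card V) := by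
    rw [hkV]
    exact Nat.Coprime.pow_right kV hm
  obtain ⟨K, hKU, hcardK, hRK⟩ := Helper2.coprime_exists_invariant_hall R U hRU hcopRU
    inferInstance (by rw [hcardU, mul_comm]) hmV
  have hKH : K ≤ H := hKU.trans hUH
  have hKp : (Nat.card K).Coprime p := by rw [hcardK]; exact hm
  have hVK : V ⊓ K = ⊥ := inf_bot_of_coprime (by rw [hcardK]; exact hmV.symm)
  have hKnV : K ≤ Subgroup.normalizer (V : Set G) := c.nV K
  have hUeq : K ⊔ V = U := by
    apply Subgroup.eq_of_le_of_card_ge (sup_le hKU hVU)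
    rw [card_sup_of_inf_bot hKnV (by rw [inf_comm]; exact hVK), hcardK, hcardU, mul_comm]
  obtain ⟨N1, hN1⟩ : ∃ N1, N1 = V ⊓ Subgroup.centralizer (K : Set G) := ⟨_, rfl⟩
  have hN1V : N1 ≤ V := by rw [hN1]; exact inf_le_left
  have hN1U : N1 = V ⊓ Subgroup.centralizer (U : Set G) := by
    rw [hN1, ← hUeq, centralizer_sup_eq]
    apply le_antisymm
    · exact le_inf inf_le_left
        (le_inf inf_le_right (inf_le_left.trans (abelian_le_centralizer c.hVab le_rfl)))
    · exact le_inf inf_le_left (inf_le_right.trans inf_le_left)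
  have hN1n : N1.Normal := by
    apply normal_of_forall_mem_normalizer
    intro g
    rw [hN1U]
    apply mem_normalizer_inf
    · exact c.nV ⊤ (Subgroup.mem_top g)
    · apply mem_normalizer_centralizer
      rw [Subgroup.normalizer_eq_top]
      exact Subgroup.mem_top g
  by_cases hN1b : N1 = ⊥
  · -- the complement
    obtain ⟨L, hL⟩ : ∃ L, L = H ⊓ Subgroup.normalizer (K : Set G) := ⟨_, rfl⟩
    have hLH : L ≤ H := by rw [hL]; exact inf_le_left
    have hLK : L ≤ Subgroup.normalizer (K : Set G) := by rw [hL]; exact inf_le_right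
    have hKL : K ≤ L := by rw [hL]; exact le_inf hKH Subgroup.le_normalizer
    have hRL : R ≤ Subgroup.normalizer (L : Set G) := by
      intro g hg
      rw [hL]
      exact mem_normalizer_inf (c.nH R hg) (Subgroup.le_normalizer (hRK hg))
    have hrelK : K.relIndex U = Nat.card V := by
      have h1 := card_mul_relIndex hKU
      rw [hcardK, hcardU] at h1
      have hmpos : 0 < m := by
        rw [← hcardK]
        exact Nat.card_pos
      have h2 : m * K.relIndex U = m * Nat.card V := by rw [h1, mul_comm]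
      exact Nat.eq_of_mul_eq_mul_left hmpos h2
    have hfr : U ⊔ Subgroup.normalizer (K : Set G) = ⊤ :=
      frattini_hall U inferInstance K hKU (by rw [hrelK, hcardK]; exact hmV)
    have hVL : V ⊓ L = ⊥ := by
      rw [eq_bot_iff, ← hN1b, hN1]
      intro v hv
      obtain ⟨hvV, hvL⟩ := Subgroup.mem_inf.mp hv
      refine Subgroup.mem_inf.mpr ⟨hvV, ?_⟩
      have hvN := hLK hvL
      rw [Subgroup.mem_centralizer_iff]
      intro k hk
      have h1 : v * k * v⁻¹ * k⁻¹ ∈ K :=
        K.mul_mem ((Subgroup.mem_normalizer_iff.mp hvN k).mp hk) (K.inv_mem hk)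
      have h2 : v * k * v⁻¹ * k⁻¹ ∈ V := by
        have e : v * k * v⁻¹ * k⁻¹ = v * (k * v⁻¹ * k⁻¹) := by group
        rw [e]
        exact V.mul_mem hvV (c.hVn.conj_mem _ (V.inv_mem hvV) k)
      have h3 := eq_one_of_inf_bot hVK h2 h1
      have e : v * k = (v * k * v⁻¹ * k⁻¹) * (k * v) := by group
      rw [h3, one_mul] at e
      exact e.symm
    have hVLH : V ⊔ L = H := by
      apply le_antisymm (sup_le c.hVH hLH)
      intro h hh
      have h1 : h ∈ U ⊔ Subgroup.normalizer (K : Set G) := by rw [hfr]; exact Subgroup.mem_top h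
      rw [← SetLike.mem_coe, Subgroup.normal_mul] at h1
      obtain ⟨u, hu, n, hn, rfl⟩ := Set.mem_mul.mp h1
      have hnH : n ∈ H := by
        have e : n = u⁻¹ * (u * n) := by group
        rw [e]
        exact H.mul_mem (H.inv_mem (hUH hu)) hh
      have hnL : n ∈ L := by rw [hL]; exact Subgroup.mem_inf.mpr ⟨hnH, hn⟩
      have huVL : u ∈ V ⊔ L := by
        have : U ≤ V ⊔ L := by
          rw [← hUeq]
          exact sup_le (hKL.trans le_sup_right) le_sup_left
        exact this hu
      exact Subgroup.mul_mem _ huVL (Subgroup.mem_sup_right hnL)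
    have hCLK : ∀ l ∈ L, (∀ k ∈ K, l * k = k * l) → l ∈ K := by
      intro l hlL hlK
      have hlH := hLH hlL
      obtain ⟨π, hπ⟩ : ∃ π : G →* G ⧸ V, π = QuotientGroup.mk' V := ⟨_, rfl⟩
      have hπk : π.ker = V := by rw [hπ]; exact QuotientGroup.ker_mk' V
      have hUle : U ≤ (Subgroup.centralizer ({π l} : Set (G ⧸ V))).comap π := by
        rw [← hUeq]
        apply sup_le
        · intro k hk
          rw [Subgroup.mem_comap, Subgroup.mem_centralizer_singleton_iff, ← map_mul, ← map_mul,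
            hlK k hk]
        · intro v hv
          have e : π v = 1 := by
            rw [← MonoidHom.mem_ker, hπk]
            exact hv
          rw [Subgroup.mem_comap, e]
          exact Subgroup.one_mem _
      have hlU : l ∈ U := by
        rw [hU]
        apply Upp_cent p c.hVH hVp c.hVmax hlH
        intro u hu
        rw [← hU] at hu
        have h1 := hUle hu
        rw [Subgroup.mem_comap, Subgroup.mem_centralizer_singleton_iff] at h1
        rw [← hπk, MonoidHom.mem_ker, map_commutatorElement, commutatorElement_eq_one_iff_commute]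
        exact h1.symm
      rw [← hUeq, ← SetLike.mem_coe, Subgroup.mul_normal] at hlU
      obtain ⟨k, hk, v, hv, hkv⟩ := Set.mem_mul.mp hlU
      have hvL : v ∈ L := by
        have e : v = k⁻¹ * l := by rw [← hkv]; group
        rw [e]
        exact L.mul_mem (L.inv_mem (hKL hk)) hlL
      have hv1 : v = 1 := eq_one_of_inf_bot hVL hv hvL
      rw [hv1, mul_one] at hkv
      rw [← hkv]
      exact hk
    have hCVK : V ⊓ Subgroup.centralizer (K : Set G) = ⊥ := by
      rw [← hN1]
      exact hN1b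
    refine ⟨L, K, ?_⟩
    exact {
      hKL := hKL
      hLH := hLH
      hRK := hRK
      hRL := hRL
      hLK := hLK
      hVL := hVL
      hVLH := hVLH
      hKp := hKp
      hCLK := hCLK
      hCVK := hCVK }
  · -- the quotient by `N1`
    exfalso
    have hN1H : N1 ≤ H := hN1V.trans c.hVH
    have hq := hIQ N1 hN1H hN1b
    have hHN1 : H ≤ Subgroup.normalizer (N1 : Set G) := by
      rw [Subgroup.normalizer_eq_top]
      exact le_top
    apply c.pclosed
    apply lift_pclosed p H V N1 hN1V c.hVH hHN1 hVp c.hVmax hq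
    intro A A₀ hAH hHA hsup hcop
    have hA₀A : A₀ ≤ A := by rw [← hsup]; exact le_sup_right
    have hA₀H : A₀ ≤ H := hA₀A.trans hAH
    have hAU : A ≤ U := by
      rw [hU]
      exact Upp_max p hAH hHA hsup hN1V hcop
    have hA₀N1 : A₀ ≤ Subgroup.normalizer (N1 : Set G) := by
      rw [Subgroup.normalizer_eq_top]
      exact le_top
    have hinf : V ⊓ A = N1 := inf_eq_of_sup hVp hN1V hsup hA₀N1 hcop
    have h1 : ⁅V, A₀⁆ ≤ N1 := by
      rw [← hinf]
      apply le_inf
      · exact Subgroup.le_normalizer_iff_commutator_le_left.mp (c.nV A₀)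
      · have h2 : ⁅V, A₀⁆ ≤ ⁅V, A⁆ := Subgroup.commutator_mono le_rfl hA₀A
        rw [Subgroup.commutator_comm V A] at h2
        exact h2.trans (Subgroup.le_normalizer_iff_commutator_le_left.mp (c.hVH.trans hHA))
    have h2 : N1 ≤ Subgroup.centralizer (A₀ : Set G) := by
      rw [hN1U]
      exact inf_le_right.trans (Subgroup.centralizer_le (hA₀A.trans hAU))
    have h3 : ⁅⁅V, A₀⁆, A₀⁆ = ⊥ :=
      Subgroup.commutator_eq_bot_iff_le_centralizer.mpr (h1.trans h2)
    have hcopA₀V : (Nat.card A₀).Coprime (Nat.card V) := by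
      rw [hkV]
      exact Nat.Coprime.pow_right kV hcop
    have h4 := coprime_commutator_commutator A₀ V (c.nV A₀) hcopA₀V (Or.inl inferInstance)
    rw [h3] at h4
    have h5 : V ≤ Subgroup.centralizer (A₀ : Set G) :=
      Subgroup.commutator_eq_bot_iff_le_centralizer.mp h4.symm
    have h6 : A₀ ≤ V := (le_inf hA₀H (Subgroup.le_centralizer_iff.mp h5)).trans c.hCV
    rw [eq_bot_iff, ← inf_bot_of_coprime hcopA₀V]
    exact le_inf le_rfl h6

end Ctx

end Cfsg.Agent.Lib.Helper1.PL
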