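import Mathlib

/-! Diagonalisation of finite-order operators and a dimension inequality for commutants. -/
set_option autoImplicit false
open scoped BigOperators
open Module

namespace Cfsg.Agent.Lib.Helper1.XS

universe u v
variable {K : Type u} [Field K] {U : Type v} [AddCommGroup U] [Module K U]

theorem iSup_eigenspace_of_pow_eq_one [IsAlgClosed K] [FiniteDimensional K U]
    (f : Module.End K U) {n : ℕ} (hn : (n : K) ≠ 0) (hf : f ^ n = 1) :
    ⨆ μ : K, f.eigenspace μ = ⊤ := by
  have hsep : (Polynomial.X ^ n - Polynomial.C (1 : K)).Separable :=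
    Polynomial.separable_X_pow_sub_C (1 : K) hn one_ne_zero
  have hss : f.IsSemisimple := by
    apply Module.End.isSemisimple_of_squarefree_aeval_eq_zero hsep.squarefree
    simp [hf]
  exact hss.iSup_eigenspace_eq_top

theorem exists_eigenbasis [IsAlgClosed K] [FiniteDimensional K U] (f : Module.End K U) {n : ℕ}
    (hn : (n : K) ≠ 0) (hf : f ^ n = 1) :
    ∃ (ι : Type u) (_ : Fintype ι) (b : Basis ι K U) (s : ι → K), ∀ i, f (b i) = s i • b i := by
  classical
  have htop := iSup_eigenspace_of_pow_eq_one f hn hf
  have hint : DirectSum.IsInternal (fun μ : K => f.eigenspace μ) :=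
    DirectSum.isInternal_submodule_of_iSupIndep_of_iSup_eq_top f.eigenspaces_iSupIndep htop
  let v : ∀ μ : K, Basis (Fin (finrank K (f.eigenspace μ))) K (f.eigenspace μ) :=
    fun μ => Module.finBasis K _
  let b := hint.collectedBasis v
  have hfin : Finite (Σ μ : K, Fin (finrank K (f.eigenspace μ))) := Module.Finite.finite_basis b
  refine ⟨_, Fintype.ofFinite _, b, fun a => a.1, fun a => ?_⟩
  have := hint.collectedBasis_mem v a
  exact Module.End.mem_eigenspace_iff.mp this

theorem pow_apply_eigen (f : Module.End K U) {u : U} {c : K} (h : f u = c • u) (k : ℕ) :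
    (f ^ k) u = c ^ k • u := by
  induction k with
  | zero => simp
  | succ k ih =>
    rw [pow_succ, Module.End.mul_apply, h, map_smul, ih, smul_smul, pow_succ, mul_comm]

theorem comb_ineq {ι : Type*} [Fintype ι] (s : ι → K) {r : ℕ} (hr : 0 < r)
    (hs : ∀ i, s i ^ r = 1) (hs1 : ∀ i, s i ≠ 1) :
    (Fintype.card ι) ^ 2 ≤ (r - 1) * Nat.card {p : ι × ι // s p.1 = s p.2} := by
  classical
  rw [Nat.card_eq_fintype_card]
  set Λ : Finset K := Finset.univ.image s with hΛ
  have hΛcard : Λ.card ≤ r - 1 := by
    have hsub : Λ ⊆ (Polynomial.nthRootsFinset r (1 : K)).erase 1 := by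
      intro v hv
      rw [hΛ, Finset.mem_image] at hv
      obtain ⟨i, -, rfl⟩ := hv
      rw [Finset.mem_erase, Polynomial.mem_nthRootsFinset hr]
      exact ⟨hs1 i, hs i⟩
    have h1 : ((Polynomial.nthRootsFinset r (1 : K)).erase 1).card
        = (Polynomial.nthRootsFinset r (1 : K)).card - 1 := by
      apply Finset.card_erase_of_mem
      rw [Polynomial.mem_nthRootsFinset hr]
      exact one_pow r
    have h2 : (Polynomial.nthRootsFinset r (1 : K)).card ≤ r := by
      unfold Polynomial.nthRootsFinset
      exact (Multiset.toFinset_card_le _).trans (Polynomial.card_nthRoots r 1)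
    calc Λ.card ≤ ((Polynomial.nthRootsFinset r (1 : K)).erase 1).card := Finset.card_le_card hsub
      _ = (Polynomial.nthRootsFinset r (1 : K)).card - 1 := h1
      _ ≤ r - 1 := Nat.sub_le_sub_right h2 1
  let n : K → ℕ := fun v => (Finset.univ.filter (fun i => s i = v)).card
  have h1 : Fintype.card ι = ∑ v ∈ Λ, n v := by
    rw [← Finset.card_univ, Finset.card_eq_sum_card_image s Finset.univ]
  have h2 : Fintype.card {p : ι × ι // s p.1 = s p.2} = ∑ v ∈ Λ, n v ^ 2 := by
    rw [Fintype.card_subtype, Finset.card_filter, Fintype.sum_prod_type]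
    have h3 : ∀ i : ι, (∑ j : ι, if s i = s j then 1 else 0) = n (s i) := by
      intro i
      rw [← Finset.card_filter]
      show _ = (Finset.univ.filter (fun j => s j = s i)).card
      congr 1
      ext j
      simp [eq_comm]
    rw [Finset.sum_congr rfl (fun i _ => h3 i)]
    rw [Finset.sum_comp (fun v => n v) s]
    apply Finset.sum_congr rfl
    intro v _
    rw [smul_eq_mul, pow_two]
  rw [h1, h2]
  calc (∑ v ∈ Λ, n v) ^ 2 ≤ Λ.card * ∑ v ∈ Λ, n v ^ 2 := sq_sum_le_card_mul_sum_sq
    _ ≤ (r - 1) * ∑ v ∈ Λ, n v ^ 2 := Nat.mul_le_mul_right _ hΛcard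


theorem sq_finrank_le [IsAlgClosed K] [FiniteDimensional K U] (S : Module.End K U) {r : ℕ}
    (hr : 0 < r) (hrK : (r : K) ≠ 0) (hS : S ^ r = 1) (hfix : ∀ u, S u = u → u = 0) :
    (finrank K U) ^ 2 ≤
      (r - 1) * finrank K (Subalgebra.centralizer K ({S} : Set (Module.End K U))) := by
  classical
  obtain ⟨ι, _, b, s, hs⟩ := exists_eigenbasis S hrK hS
  have hs_pow : ∀ i, s i ^ r = 1 := by
    intro i
    have h1 := pow_apply_eigen S (hs i) r
    rw [hS, Module.End.one_apply] at h1
    have h2 : (s i ^ r - 1) • b i = 0 := by rw [sub_smul, one_smul, ← h1, sub_self]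
    rcases smul_eq_zero.mp h2 with h3 | h3
    · exact sub_eq_zero.mp h3
    · exact absurd h3 (b.ne_zero i)
  have hs_ne : ∀ i, s i ≠ 1 := by
    intro i h
    have h1 := hs i
    rw [h, one_smul] at h1
    exact b.ne_zero i (hfix _ h1)
  let e : ι × ι → Module.End K U := fun p => (b.coord p.2).smulRight (b p.1)
  have he_apply : ∀ (p : ι × ι) (k : ι), e p (b k) = if p.2 = k then b p.1 else 0 := by
    intro p k
    show (b.coord p.2) (b k) • b p.1 = _
    rw [Basis.coord_apply, Basis.repr_self, Finsupp.single_apply]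
    by_cases h : k = p.2
    · rw [if_pos h, if_pos h.symm, one_smul]
    · rw [if_neg h, if_neg (fun h' => h h'.symm), zero_smul]
  have he_comm : ∀ p : ι × ι, s p.1 = s p.2 → S * e p = e p * S := by
    intro p hp
    apply b.ext
    intro k
    rw [Module.End.mul_apply, Module.End.mul_apply, he_apply, hs k, map_smul, he_apply]
    by_cases h : p.2 = k
    · rw [if_pos h, hs, hp, h]
    · rw [if_neg h, map_zero, smul_zero]
  have hli : LinearIndependent K e := by
    rw [Fintype.linearIndependent_iff]
    intro g hg p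
    have h1 := congrArg (fun m : Module.End K U => b.coord p.1 (m (b p.2))) hg
    simp only [LinearMap.sum_apply, LinearMap.smul_apply, he_apply, map_sum, map_smul,
      LinearMap.zero_apply, map_zero] at h1
    rw [Finset.sum_eq_single p] at h1
    · simpa using h1
    · intro q _ hq
      by_cases h2 : q.2 = p.2
      · rw [if_pos h2]
        have h3 : q.1 ≠ p.1 := fun h3 => hq (Prod.ext h3 h2)
        rw [Basis.coord_apply, Basis.repr_self, Finsupp.single_apply, if_neg h3, smul_zero]
      · rw [if_neg h2, map_zero, smul_zero]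
    · intro h
      exact absurd (Finset.mem_univ p) h
  let P := {p : ι × ι // s p.1 = s p.2}
  let e' : P → Module.End K U := fun p => e p.1
  have hli' : LinearIndependent K e' := hli.comp _ Subtype.val_injective
  have hspan : Submodule.span K (Set.range e') ≤
      Subalgebra.toSubmodule (Subalgebra.centralizer K ({S} : Set (Module.End K U))) := by
    rw [Submodule.span_le]
    rintro _ ⟨p, rfl⟩
    rw [SetLike.mem_coe, Subalgebra.mem_toSubmodule, Subalgebra.mem_centralizer_iff]
    intro g hg
    rw [Set.mem_singleton_iff] at hg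
    rw [hg]
    exact he_comm p.1 p.2
  have h1 : Nat.card P ≤ finrank K (Subalgebra.centralizer K ({S} : Set (Module.End K U))) := by
    have h2 := Submodule.finrank_mono hspan
    rw [finrank_span_eq_card hli', Subalgebra.finrank_toSubmodule] at h2
    rw [Nat.card_eq_fintype_card]
    exact h2
  have h2 := comb_ineq s hr hs_pow hs_ne
  rw [Module.finrank_eq_card_basis b]
  exact h2.trans (Nat.mul_le_mul_left _ h1)

end Cfsg.Agent.Lib.Helper1.XS
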