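import Mathlib
import Cfsg.Agent.Lib.Helper1.XS1

/-! Twisted group algebra decomposition of `End U` for a class-two group acting with scalar centre. -/
set_option autoImplicit false
open scoped BigOperators commutatorElement
open Module

namespace Cfsg.Agent.Lib.Helper1.XS

universe u v w
variable {K : Type u} [Field K] {U : Type v} [AddCommGroup U] [Module K U]
variable {E : Type w} [Group E]

/-- The hypotheses: commutators lie in `Z`, `Z` acts by scalars, and elements outside `Z` have a
commutator acting nontrivially. -/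
structure Cl2 (σ : E →* Module.End K U) (Z : Subgroup E) : Prop where
  comm_mem : ∀ a b : E, ⁅a, b⁆ ∈ Z
  scalar : ∀ z ∈ Z, ∃ c : K, σ z = c • (1 : Module.End K U)
  nondeg : ∀ g : E, g ∉ Z → ∃ a : E, σ ⁅a, g⁆ ≠ 1
  card_ne : (Nat.card E : K) ≠ 0

/-- the commutant of the image of `σ` -/
def cen (σ : E →* Module.End K U) : Submodule K (Module.End K U) :=
  Subalgebra.toSubmodule (Subalgebra.centralizer K (Set.range σ))

theorem mem_cen (σ : E →* Module.End K U) (m : Module.End K U) :
    m ∈ cen σ ↔ ∀ a : E, σ a * m = m * σ a := by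
  unfold cen
  rw [Subalgebra.mem_toSubmodule, Subalgebra.mem_centralizer_iff]
  constructor
  · intro h a
    exact h _ ⟨a, rfl⟩
  · rintro h _ ⟨a, rfl⟩
    exact h a

theorem one_mem_cen (σ : E →* Module.End K U) : (1 : Module.End K U) ∈ cen σ := by
  rw [mem_cen]
  intro a
  rw [mul_one, one_mul]

theorem sigma_inv_mul (σ : E →* Module.End K U) (a : E) : σ a⁻¹ * σ a = 1 := by
  rw [← map_mul, inv_mul_cancel, map_one]

theorem sigma_mul_inv (σ : E →* Module.End K U) (a : E) : σ a * σ a⁻¹ = 1 := by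
  rw [← map_mul, mul_inv_cancel, map_one]

variable [Fintype E]

/-- the averaging operator -/
def avg (σ : E →* Module.End K U) : Module.End K U →ₗ[K] Module.End K U where
  toFun m := ∑ b : E, σ b * m * σ b⁻¹
  map_add' m n := by
    simp only [mul_add, add_mul, Finset.sum_add_distrib]
  map_smul' c m := by
    simp only [mul_smul_comm, smul_mul_assoc, Finset.smul_sum, RingHom.id_apply]

theorem avg_apply (σ : E →* Module.End K U) (m : Module.End K U) :
    avg σ m = ∑ b : E, σ b * m * σ b⁻¹ := rfl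

theorem avg_mem_cen (σ : E →* Module.End K U) (m : Module.End K U) : avg σ m ∈ cen σ := by
  rw [mem_cen]
  intro c
  rw [avg_apply, Finset.mul_sum, Finset.sum_mul]
  rw [← Equiv.sum_comp (Equiv.mulLeft c) (fun b => σ b * m * σ b⁻¹ * σ c)]
  apply Finset.sum_congr rfl
  intro b _
  rw [Equiv.coe_mulLeft, mul_inv_rev, map_mul, map_mul]
  simp only [mul_assoc]
  rw [sigma_inv_mul, mul_one]

theorem avg_mul_cen (σ : E →* Module.End K U) (m : Module.End K U) {c : Module.End K U}
    (hc : c ∈ cen σ) : avg σ (m * c) = avg σ m * c := by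
  rw [mem_cen] at hc
  rw [avg_apply, avg_apply, Finset.sum_mul]
  apply Finset.sum_congr rfl
  intro b _
  rw [mul_assoc, mul_assoc, mul_assoc, mul_assoc, ← hc b⁻¹]

theorem avg_one (σ : E →* Module.End K U) :
    avg σ 1 = (Fintype.card E : K) • (1 : Module.End K U) := by
  rw [avg_apply]
  have : ∀ b : E, σ b * 1 * σ b⁻¹ = 1 := by
    intro b
    rw [mul_one, sigma_mul_inv]
  rw [Finset.sum_congr rfl (fun b _ => this b), Finset.sum_const, Finset.card_univ,
    Nat.cast_smul_eq_nsmul]

theorem avg_sigma_of_notMem {σ : E →* Module.End K U} {Z : Subgroup E} (h : Cl2 σ Z) {g : E}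
    (hg : g ∉ Z) : avg σ (σ g) = 0 := by
  obtain ⟨a, ha⟩ := h.nondeg g hg
  obtain ⟨c, hc⟩ := h.scalar _ (h.comm_mem a g)
  have hc1 : c ≠ 1 := by
    rintro rfl
    rw [one_smul] at hc
    exact ha hc
  have key : avg σ (σ g) = c • avg σ (σ g) := by
    rw [avg_apply, Finset.smul_sum]
    rw [← Equiv.sum_comp (Equiv.mulRight a) (fun b => σ b * σ g * σ b⁻¹)]
    apply Finset.sum_congr rfl
    intro b _
    rw [Equiv.coe_mulRight]
    have e1 : (b * a) * g * (b * a)⁻¹ = b * (⁅a, g⁆ * g) * b⁻¹ := by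
      rw [commutatorElement_def]
      group
    calc σ (b * a) * σ g * σ (b * a)⁻¹ = σ ((b * a) * g * (b * a)⁻¹) := by
          rw [map_mul _ ((b * a) * g), map_mul _ (b * a) g]
      _ = σ (b * (⁅a, g⁆ * g) * b⁻¹) := by rw [e1]
      _ = σ b * (σ ⁅a, g⁆ * σ g) * σ b⁻¹ := by rw [map_mul, map_mul, map_mul]
      _ = c • (σ b * σ g * σ b⁻¹) := by
          rw [hc, smul_mul_assoc, one_mul, mul_smul_comm, smul_mul_assoc]
  have h2 : (1 - c) • avg σ (σ g) = 0 := by
    rw [sub_smul, one_smul, ← key, sub_self]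
  rcases smul_eq_zero.mp h2 with h3 | h3
  · exact absurd (sub_eq_zero.mp h3).symm hc1
  · exact h3

omit [Fintype E] in
theorem scalar_inv {σ : E →* Module.End K U} {z : E} {c : K}
    (hc : σ z = c • (1 : Module.End K U)) : c • σ z⁻¹ = 1 := by
  have := sigma_mul_inv σ z
  rw [hc, smul_mul_assoc, one_mul] at this
  exact this

theorem avg_sigma_of_mem {σ : E →* Module.End K U} {Z : Subgroup E} (h : Cl2 σ Z) {z : E}
    (hz : z ∈ Z) (m : Module.End K U) :
    avg σ (σ z) * m * σ z⁻¹ = (Fintype.card E : K) • m := by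
  obtain ⟨c, hc⟩ := h.scalar z hz
  have e : avg σ (σ z) * m * σ z⁻¹ = (Fintype.card E : K) • (m * (c • σ z⁻¹)) := by
    rw [hc, map_smul, avg_one]
    simp only [smul_mul_assoc, one_mul, mul_smul_comm]
    rw [smul_comm]
  rw [e, scalar_inv hc, mul_one]

omit [Fintype E] in
theorem card_Z_ne {σ : E →* Module.End K U} {Z : Subgroup E} (h : Cl2 σ Z) :
    (Nat.card Z : K) ≠ 0 := by
  intro h0
  apply h.card_ne
  rw [← Subgroup.card_mul_index Z, Nat.cast_mul, h0, zero_mul]

theorem card_E_ne {σ : E →* Module.End K U} {Z : Subgroup E} (h : Cl2 σ Z) :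
    (Fintype.card E : K) ≠ 0 := by
  have := h.card_ne
  rwa [Nat.card_eq_fintype_card] at this

/-- the expansion identity -/
theorem expansion {σ : E →* Module.End K U} {Z : Subgroup E} (h : Cl2 σ Z) (m : Module.End K U) :
    ∑ a : E, σ a * avg σ (σ a⁻¹ * m) = ((Nat.card Z : K) * (Fintype.card E : K)) • m := by
  classical
  have h1 : ∀ a : E, σ a * avg σ (σ a⁻¹ * m) = ∑ b : E, (σ a * σ b * σ a⁻¹) * m * σ b⁻¹ := by
    intro a
    rw [avg_apply, Finset.mul_sum]
    apply Finset.sum_congr rfl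
    intro b _
    simp only [mul_assoc]
  rw [Finset.sum_congr rfl (fun a _ => h1 a), Finset.sum_comm]
  have h2 : ∀ b : E, ∑ a : E, (σ a * σ b * σ a⁻¹) * m * σ b⁻¹ =
      if b ∈ Z then (Fintype.card E : K) • m else 0 := by
    intro b
    rw [← Finset.sum_mul, ← Finset.sum_mul, ← avg_apply]
    by_cases hb : b ∈ Z
    · rw [if_pos hb, avg_sigma_of_mem h hb]
    · rw [if_neg hb, avg_sigma_of_notMem h hb, zero_mul, zero_mul]
  rw [Finset.sum_congr rfl (fun b _ => h2 b), Finset.sum_ite, Finset.sum_const_zero, add_zero,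
    Finset.sum_const, mul_smul, ← Nat.cast_smul_eq_nsmul K]
  congr 2
  rw [Nat.card_eq_fintype_card, Fintype.card_subtype]

end Cfsg.Agent.Lib.Helper1.XS
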