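import Mathlib
import Cfsg.Agent.Lib.Helper1.XS2

/-! Dimension counts from the twisted group algebra decomposition. -/
set_option autoImplicit false
open scoped BigOperators commutatorElement
open Module

namespace Cfsg.Agent.Lib.Helper1.XS

universe u v w
variable {K : Type u} [Field K] {U : Type v} [AddCommGroup U] [Module K U]
variable {E : Type w} [Group E] [Fintype E]

theorem finrank_end [FiniteDimensional K U] : finrank K (Module.End K U) = (finrank K U) ^ 2 := by
  rw [Module.finrank_linearMap, pow_two]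

/-- lower bound: the translates `σ(t) C` are independent -/
theorem index_mul_le [FiniteDimensional K U] {σ : E →* Module.End K U} {Z : Subgroup E}
    (h : Cl2 σ Z) : Z.index * finrank K (cen σ) ≤ (finrank K U) ^ 2 := by
  classical
  have : Fintype (E ⧸ Z) := Fintype.ofFinite _
  let Ψ : ((E ⧸ Z) → cen σ) →ₗ[K] Module.End K U :=
    { toFun := fun f => ∑ q : E ⧸ Z, σ q.out * (f q : Module.End K U)
      map_add' := by
        intro f g
        simp only [Pi.add_apply, Submodule.coe_add, mul_add, Finset.sum_add_distrib]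
      map_smul' := by
        intro c f
        simp only [Pi.smul_apply, Submodule.coe_smul, mul_smul_comm, Finset.smul_sum,
          RingHom.id_apply] }
  have hΨ : ∀ f, Ψ f = ∑ q : E ⧸ Z, σ q.out * (f q : Module.End K U) := fun f => rfl
  have hinj : Function.Injective Ψ := by
    rw [injective_iff_map_eq_zero]
    intro f hf
    funext q₀
    have h1 : avg σ (σ (q₀.out)⁻¹ * Ψ f) = 0 := by rw [hf, mul_zero, map_zero]
    rw [hΨ, Finset.mul_sum, map_sum] at h1
    have h2 : ∀ q : E ⧸ Z, avg σ (σ (q₀.out)⁻¹ * (σ q.out * (f q : Module.End K U))) =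
        if q = q₀ then (Fintype.card E : K) • (f q : Module.End K U) else 0 := by
      intro q
      rw [← mul_assoc, ← map_mul, avg_mul_cen σ _ (f q).2]
      by_cases hq : q = q₀
      · rw [if_pos hq, hq, inv_mul_cancel, map_one, avg_one, smul_mul_assoc, one_mul]
      · rw [if_neg hq]
        have h3 : (q₀.out)⁻¹ * q.out ∉ Z := by
          intro h4
          apply hq
          have h5 : (QuotientGroup.mk q₀.out : E ⧸ Z) = QuotientGroup.mk q.out :=
            QuotientGroup.eq.mpr h4
          rw [QuotientGroup.out_eq', QuotientGroup.out_eq'] at h5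
          exact h5.symm
        rw [avg_sigma_of_notMem h h3, zero_mul]
    rw [Finset.sum_congr rfl (fun q _ => h2 q), Finset.sum_ite_eq' Finset.univ q₀] at h1
    rw [if_pos (Finset.mem_univ _)] at h1
    rcases smul_eq_zero.mp h1 with h3 | h3
    · exact absurd h3 (card_E_ne h)
    · exact Subtype.ext h3
  have h1 := LinearMap.finrank_le_finrank_of_injective hinj
  rw [finrank_end, Module.finrank_pi_fintype, Finset.sum_const, Finset.card_univ, smul_eq_mul,
    ← Nat.card_eq_fintype_card] at h1
  exact h1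

/-- upper bound from a covering set -/
theorem finrank_le_of_cover [FiniteDimensional K U] {σ : E →* Module.End K U} {Z : Subgroup E}
    (h : Cl2 σ Z) (𝓜 : Submodule K (Module.End K U)) (R : Finset E)
    (hcov : ∀ m ∈ 𝓜, (∀ t ∈ R, avg σ (σ t⁻¹ * m) = 0) → ∀ a : E, avg σ (σ a⁻¹ * m) = 0) :
    finrank K 𝓜 ≤ R.card * finrank K (cen σ) := by
  classical
  let Φ : 𝓜 →ₗ[K] ({t : E // t ∈ R} → cen σ) :=
    LinearMap.pi (fun t : {t : E // t ∈ R} =>
      LinearMap.codRestrict (cen σ)
        ((avg σ).comp ((LinearMap.mulLeft K (σ (t : E)⁻¹)).comp 𝓜.subtype))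
        (fun m => avg_mem_cen σ _))
  have hΦ : ∀ (m : 𝓜) (t : {t : E // t ∈ R}), ((Φ m t : cen σ) : Module.End K U)
      = avg σ (σ (t : E)⁻¹ * (m : Module.End K U)) := fun m t => rfl
  have hinj : Function.Injective Φ := by
    rw [injective_iff_map_eq_zero]
    intro m hm
    have h1 : ∀ t ∈ R, avg σ (σ t⁻¹ * (m : Module.End K U)) = 0 := by
      intro t ht
      have := hΦ m ⟨t, ht⟩
      rw [hm] at this
      exact this.symm
    have h2 := hcov m m.2 h1
    have h3 := expansion h (m : Module.End K U)
    rw [Finset.sum_congr rfl (fun a _ => by rw [h2 a, mul_zero]), Finset.sum_const_zero] at h3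
    rcases smul_eq_zero.mp h3.symm with h4 | h4
    · exact absurd h4 (mul_ne_zero (card_Z_ne h) (card_E_ne h))
    · exact Subtype.ext h4
  have h1 := LinearMap.finrank_le_finrank_of_injective hinj
  rw [Module.finrank_pi_fintype, Finset.sum_const, Finset.card_univ, smul_eq_mul,
    Fintype.card_coe] at h1
  exact h1

/-- zero sets of `a ↦ avg (σ a⁻¹ m)` are stable under right multiplication by `Z` -/
theorem avg_zero_mul_Z {σ : E →* Module.End K U} {Z : Subgroup E} (h : Cl2 σ Z)
    (m : Module.End K U) {a z : E} (hz : z ∈ Z) (ha : avg σ (σ a⁻¹ * m) = 0) :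
    avg σ (σ (a * z)⁻¹ * m) = 0 := by
  obtain ⟨c, hc⟩ := h.scalar z⁻¹ (Z.inv_mem hz)
  rw [mul_inv_rev, map_mul σ, hc, smul_mul_assoc, one_mul, smul_mul_assoc, map_smul, ha, smul_zero]

theorem sq_le_index_mul [FiniteDimensional K U] {σ : E →* Module.End K U} {Z : Subgroup E}
    (h : Cl2 σ Z) : (finrank K U) ^ 2 ≤ Z.index * finrank K (cen σ) := by
  classical
  have : Fintype (E ⧸ Z) := Fintype.ofFinite _
  let R : Finset E := Finset.univ.image (fun q : E ⧸ Z => q.out)
  have hR : R.card ≤ Z.index := by
    rw [Subgroup.index, Nat.card_eq_fintype_card, ← Finset.card_univ (α := E ⧸ Z)]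
    exact Finset.card_image_le
  have h1 := finrank_le_of_cover h ⊤ R (by
    intro m _ hm a
    have h2 : (QuotientGroup.mk a : E ⧸ Z).out ∈ R :=
      Finset.mem_image.mpr ⟨_, Finset.mem_univ _, rfl⟩
    have h3 : ((QuotientGroup.mk a : E ⧸ Z).out)⁻¹ * a ∈ Z := by
      apply QuotientGroup.eq.mp
      rw [QuotientGroup.out_eq']
    have h4 := avg_zero_mul_Z h m h3 (hm _ h2)
    rwa [mul_inv_cancel_left] at h4)
  rw [finrank_top, finrank_end] at h1
  exact h1.trans (Nat.mul_le_mul_right _ hR)

theorem sq_eq_index_mul [FiniteDimensional K U] {σ : E →* Module.End K U} {Z : Subgroup E}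
    (h : Cl2 σ Z) : (finrank K U) ^ 2 = Z.index * finrank K (cen σ) :=
  le_antisymm (sq_le_index_mul h) (index_mul_le h)

end Cfsg.Agent.Lib.Helper1.XS
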