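import Mathlib

/-! Orbit representatives for a fixed-point-free automorphism of prime order modulo a normal
subgroup. -/
set_option autoImplicit false
open scoped BigOperators

namespace Cfsg.Agent.Lib.Helper1.XS

universe w

theorem exists_cover {E : Type w} [Group E] [Finite E] (Z : Subgroup E) [hZn : Z.Normal]
    (α : E ≃* E) {r : ℕ} (hr : r.Prime)
    (hαr : ∀ a : E, (α ^ r) a = a) (hαZ : ∀ z ∈ Z, α z ∈ Z)
    (hfpf : ∀ a : E, a⁻¹ * α a ∈ Z → a ∈ Z) :
    ∃ R : Finset E, R.card * r ≤ Z.index + r - 1 ∧ r ∣ Z.index - 1 ∧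
      ∀ 𝒮 : Set E, (∀ t ∈ R, t ∈ 𝒮) → (∀ a ∈ 𝒮, α a ∈ 𝒮) → (∀ a ∈ 𝒮, ∀ z ∈ Z, a * z ∈ 𝒮) →
        ∀ a : E, a ∈ 𝒮 := by
  classical
  have hrfact : Fact r.Prime := ⟨hr⟩
  have hαk : ∀ (k : ℕ) (z : E), z ∈ Z → (α ^ k) z ∈ Z := by
    intro k
    induction k with
    | zero => intro z hz; simpa using hz
    | succ k ih =>
      intro z hz
      rw [pow_succ, MulAut.mul_apply]
      exact ih _ (hαZ z hz)
  have hmap : Z.map (α : E →* E) = Z := by
    apply le_antisymm
    · rintro _ ⟨z, hz, rfl⟩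
      exact hαZ z hz
    · intro z hz
      refine ⟨(α ^ (r - 1)) z, hαk _ z hz, ?_⟩
      have h1 : α ((α ^ (r - 1)) z) = (α ^ r) z := by
        rw [← MulAut.mul_apply, ← pow_succ', Nat.sub_add_cancel hr.one_le]
      show α ((α ^ (r - 1)) z) = z
      rw [h1, hαr]
  let αbar : (E ⧸ Z) ≃* (E ⧸ Z) := QuotientGroup.congr Z Z α hmap
  let π : Equiv.Perm (E ⧸ Z) := αbar.toEquiv
  have hπ : ∀ a : E, π (QuotientGroup.mk a) = QuotientGroup.mk (α a) := fun a => rfl
  have hπk : ∀ (k : ℕ) (a : E), (π ^ k) (QuotientGroup.mk a) = QuotientGroup.mk ((α ^ k) a) := by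
    intro k
    induction k with
    | zero => intro a; simp
    | succ k ih =>
      intro a
      rw [pow_succ, Equiv.Perm.mul_apply, hπ, ih, pow_succ, MulAut.mul_apply]
  have hπr : π ^ r = 1 := by
    ext q
    induction q using QuotientGroup.induction_on with
    | H a => rw [hπk, hαr, Equiv.Perm.one_apply]
  have hfix : ∀ q : E ⧸ Z, π q = q → q = 1 := by
    intro q
    induction q using QuotientGroup.induction_on with
    | H a =>
      intro h
      rw [hπ] at h
      have h1 : a⁻¹ * α a ∈ Z := QuotientGroup.eq.mp h.symm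
      exact (QuotientGroup.eq_one_iff a).mpr (hfpf a h1)
  have hcover : ∀ (R : Finset E),
      (∀ q : E ⧸ Z, ∃ t ∈ R, ∃ k : ℕ, (π ^ k) (QuotientGroup.mk t) = q) →
      ∀ 𝒮 : Set E, (∀ t ∈ R, t ∈ 𝒮) → (∀ a ∈ 𝒮, α a ∈ 𝒮) → (∀ a ∈ 𝒮, ∀ z ∈ Z, a * z ∈ 𝒮) →
        ∀ a : E, a ∈ 𝒮 := by
    intro R hR 𝒮 h1 h2 h3 a
    obtain ⟨t, ht, k, hk⟩ := hR (QuotientGroup.mk a)
    have h4 : ∀ (k : ℕ) (b : E), b ∈ 𝒮 → (α ^ k) b ∈ 𝒮 := by
      intro k
      induction k with
      | zero => intro b hb; simpa using hb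
      | succ k ih =>
        intro b hb
        rw [pow_succ, MulAut.mul_apply]
        exact ih _ (h2 b hb)
    rw [hπk] at hk
    have h5 : ((α ^ k) t)⁻¹ * a ∈ Z := QuotientGroup.eq.mp hk
    have h6 := h3 _ (h4 k t (h1 t ht)) _ h5
    rwa [mul_inv_cancel_left] at h6
  by_cases hπ1 : π = 1
  · -- trivial action: `E = Z`
    have hall : ∀ a : E, a ∈ Z := by
      intro a
      have h1 : (QuotientGroup.mk a : E ⧸ Z) = 1 := hfix _ (by rw [hπ1, Equiv.Perm.one_apply])
      exact (QuotientGroup.eq_one_iff a).mp h1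
    have hidx : Z.index = 1 := by
      rw [Subgroup.index_eq_one, eq_top_iff]
      intro a _
      exact hall a
    refine ⟨{1}, ?_, ?_, ?_⟩
    · rw [Finset.card_singleton, hidx, one_mul]
      omega
    · rw [hidx]
      exact dvd_zero r
    · apply hcover
      intro q
      induction q using QuotientGroup.induction_on with
      | H a =>
        refine ⟨1, Finset.mem_singleton_self 1, 0, ?_⟩
        rw [pow_zero, Equiv.Perm.one_apply]
        have h1 : (QuotientGroup.mk a : E ⧸ Z) = 1 := (QuotientGroup.eq_one_iff a).mpr (hall a)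
        rw [h1]
        rfl
  · -- nontrivial action: Burnside
    have hord : orderOf π = r := orderOf_eq_prime hπr hπ1
    let 𝒞 : Subgroup (Equiv.Perm (E ⧸ Z)) := Subgroup.zpowers π
    have h𝒞card : Nat.card 𝒞 = r := by rw [Nat.card_zpowers, hord]
    have hgen : ∀ g : 𝒞, g ≠ 1 → ∀ q : E ⧸ Z, (g : Equiv.Perm (E ⧸ Z)) q = q → q = 1 := by
      intro g hg q hq
      -- `π` is a power of `g`
      have h1 : Subgroup.zpowers g = ⊤ := by
        have hp : Fact r.Prime := ⟨hr⟩
        exact zpowers_eq_top_of_prime_card h𝒞card hg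
      have h2 : (⟨π, Subgroup.mem_zpowers π⟩ : 𝒞) ∈ Subgroup.zpowers g := by
        rw [h1]; exact Subgroup.mem_top _
      obtain ⟨j, hj⟩ := Subgroup.mem_zpowers_iff.mp h2
      have h3 : ((g : Equiv.Perm (E ⧸ Z)) ^ j) = π := by
        have := congrArg (Subtype.val) hj
        simpa using this
      apply hfix
      rw [← h3]
      exact Equiv.Perm.zpow_apply_eq_self_of_apply_eq_self hq j
    have : Fintype 𝒞 := Fintype.ofFinite _
    have : Fintype (E ⧸ Z) := Fintype.ofFinite _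
    have : Fintype (MulAction.orbitRel.Quotient 𝒞 (E ⧸ Z)) := Fintype.ofFinite _
    have : ∀ g : 𝒞, Fintype (MulAction.fixedBy (E ⧸ Z) g) := fun g => Fintype.ofFinite _
    have hB := MulAction.sum_card_fixedBy_eq_card_orbits_mul_card_group 𝒞 (E ⧸ Z)
    have hf1 : Fintype.card (MulAction.fixedBy (E ⧸ Z) (1 : 𝒞)) = Z.index := by
      rw [Subgroup.index, Nat.card_eq_fintype_card]
      apply Fintype.card_congr
      refine Equiv.subtypeUnivEquiv ?_
      intro q
      rw [MulAction.mem_fixedBy, one_smul]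
    have hfg : ∀ g : 𝒞, g ≠ 1 → Fintype.card (MulAction.fixedBy (E ⧸ Z) g) = 1 := by
      intro g hg
      rw [Fintype.card_eq_one_iff]
      have h1mem : (1 : E ⧸ Z) ∈ MulAction.fixedBy (E ⧸ Z) g := by
        rw [MulAction.mem_fixedBy]
        obtain ⟨j, hj⟩ := Subgroup.mem_zpowers_iff.mp g.2
        show (g : Equiv.Perm (E ⧸ Z)) 1 = 1
        rw [← hj]
        apply Equiv.Perm.zpow_apply_eq_self_of_apply_eq_self
        exact map_one αbar
      refine ⟨⟨1, h1mem⟩, ?_⟩
      rintro ⟨q, hq⟩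
      apply Subtype.ext
      rw [MulAction.mem_fixedBy] at hq
      exact hgen g hg q hq
    have hsum : (∑ g : 𝒞, Fintype.card (MulAction.fixedBy (E ⧸ Z) g)) = Z.index + (r - 1) := by
      rw [← Finset.add_sum_erase Finset.univ _ (Finset.mem_univ (1 : 𝒞)), hf1]
      congr 1
      rw [Finset.sum_congr rfl (fun g hg => hfg g (Finset.ne_of_mem_erase hg)), Finset.sum_const,
        smul_eq_mul, mul_one, Finset.card_erase_of_mem (Finset.mem_univ _), Finset.card_univ,
        ← Nat.card_eq_fintype_card, h𝒞card]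
    rw [hsum, ← Nat.card_eq_fintype_card (α := 𝒞), h𝒞card] at hB
    let R : Finset E := Finset.univ.image
      (fun ω : MulAction.orbitRel.Quotient 𝒞 (E ⧸ Z) => (Quotient.out ω : E ⧸ Z).out)
    have hRcard : R.card ≤ Fintype.card (MulAction.orbitRel.Quotient 𝒞 (E ⧸ Z)) := by
      rw [← Finset.card_univ]
      exact Finset.card_image_le
    have hidx_pos : 1 ≤ Z.index := Nat.one_le_iff_ne_zero.mpr Subgroup.index_ne_zero_of_finite
    refine ⟨R, ?_, ?_, ?_⟩
    · calc R.card * r ≤ Fintype.card (MulAction.orbitRel.Quotient 𝒞 (E ⧸ Z)) * r :=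
            Nat.mul_le_mul_right _ hRcard
        _ = Z.index + (r - 1) := hB.symm
        _ = Z.index + r - 1 := by have := hr.one_le; omega
    · refine ⟨Fintype.card (MulAction.orbitRel.Quotient 𝒞 (E ⧸ Z)) - 1, ?_⟩
      have := hr.one_le
      have h5 : 1 ≤ Fintype.card (MulAction.orbitRel.Quotient 𝒞 (E ⧸ Z)) := by
        by_contra h6
        have h7 : Fintype.card (MulAction.orbitRel.Quotient 𝒞 (E ⧸ Z)) = 0 := by omega
        rw [h7, zero_mul] at hB
        omega
      rw [Nat.mul_sub, mul_one, mul_comm, ← hB]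
      omega
    · apply hcover
      intro q
      let ω : MulAction.orbitRel.Quotient 𝒞 (E ⧸ Z) := Quotient.mk'' q
      have h1 : (Quotient.out ω : E ⧸ Z).out ∈ R :=
        Finset.mem_image.mpr ⟨ω, Finset.mem_univ _, rfl⟩
      refine ⟨_, h1, ?_⟩
      rw [QuotientGroup.out_eq']
      have h2 : (MulAction.orbitRel 𝒞 (E ⧸ Z)) (Quotient.out ω) q :=
        Quotient.exact (Quotient.out_eq ω)
      rw [MulAction.orbitRel_apply] at h2
      -- `out ω ∈ orbit q`
      have h3 : q ∈ MulAction.orbit 𝒞 (Quotient.out ω) := MulAction.mem_orbit_symm.mp h2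
      obtain ⟨g, hg⟩ := h3
      have h4 : (g : Equiv.Perm (E ⧸ Z)) ∈ Submonoid.powers π := by
        rw [mem_powers_iff_mem_zpowers]
        exact g.2
      obtain ⟨k, hk⟩ := h4
      refine ⟨k, ?_⟩
      have hk' : π ^ k = (g : Equiv.Perm (E ⧸ Z)) := hk
      rw [hk']
      exact hg

end Cfsg.Agent.Lib.Helper1.XS
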