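import Mathlib
import Cfsg.Agent.Lib.Helper1.XS3
import Cfsg.Agent.Lib.Helper1.XS4

/-! The core theorem: a class-two group with scalar centre, normalised by a fixed-point-free operator
of prime order `r` without fixed vectors, has central index `1` or `(r-1)^2`. -/
set_option autoImplicit false
open scoped BigOperators commutatorElement
open Module

namespace Cfsg.Agent.Lib.Helper1.XS

universe u v w
variable {K : Type u} [Field K] {U : Type v} [AddCommGroup U] [Module K U]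
variable {E : Type w} [Group E]

/-- restriction of a representation to an invariant subspace -/
def restrictRep (σ : E →* Module.End K U) (W : Submodule K U)
    (hW : ∀ a : E, ∀ w ∈ W, σ a w ∈ W) : E →* Module.End K W where
  toFun a := (σ a).restrict (hW a)
  map_one' := by
    ext w
    simp
  map_mul' a b := by
    ext w
    simp [map_mul]

theorem restrictRep_apply (σ : E →* Module.End K U) (W : Submodule K U)
    (hW : ∀ a : E, ∀ w ∈ W, σ a w ∈ W) (a : E) (w : W) :
    ((restrictRep σ W hW a w : W) : U) = σ a (w : U) := rfl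

section equivariance

variable (σ : E →* Module.End K U) (α : E ≃* E) (S : Module.End K U) {r : ℕ}

theorem S_mul_pow (hr : 0 < r) (hS : S ^ r = 1) : S * S ^ (r - 1) = 1 := by
  rw [← pow_succ', Nat.sub_add_cancel hr, hS]

theorem pow_mul_S (hr : 0 < r) (hS : S ^ r = 1) : S ^ (r - 1) * S = 1 := by
  rw [← pow_succ, Nat.sub_add_cancel hr, hS]

theorem sigma_mul_S (hSσ : ∀ a : E, S * σ a = σ (α a) * S) (b : E) :
    σ b * S = S * σ (α.symm b) := by
  rw [hSσ, MulEquiv.apply_symm_apply]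

theorem Sinv_mul_sigma (hr : 0 < r) (hS : S ^ r = 1) (hSσ : ∀ a : E, S * σ a = σ (α a) * S)
    (b : E) : S ^ (r - 1) * σ b = σ (α.symm b) * S ^ (r - 1) := by
  calc S ^ (r - 1) * σ b = S ^ (r - 1) * (σ b * S) * S ^ (r - 1) := by
        rw [mul_assoc, mul_assoc, S_mul_pow S hr hS, mul_one]
    _ = S ^ (r - 1) * (S * σ (α.symm b)) * S ^ (r - 1) := by rw [sigma_mul_S σ α S hSσ]
    _ = σ (α.symm b) * S ^ (r - 1) := by rw [← mul_assoc, pow_mul_S S hr hS, one_mul]

variable [Fintype E]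

theorem avg_conj (hr : 0 < r) (hS : S ^ r = 1) (hSσ : ∀ a : E, S * σ a = σ (α a) * S)
    (n : Module.End K U) : avg σ (S * n * S ^ (r - 1)) = S * avg σ n * S ^ (r - 1) := by
  rw [avg_apply, avg_apply, Finset.mul_sum, Finset.sum_mul]
  rw [← Equiv.sum_comp α.toEquiv (fun b => σ b * (S * n * S ^ (r - 1)) * σ b⁻¹)]
  apply Finset.sum_congr rfl
  intro b _
  have h1 : σ (α b) * S = S * σ b := (hSσ b).symm
  have h2 : S ^ (r - 1) * σ (α b)⁻¹ = σ b⁻¹ * S ^ (r - 1) := by
    rw [Sinv_mul_sigma σ α S hr hS hSσ, ← map_inv, MulEquiv.symm_apply_apply]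
  show σ (α b) * (S * n * S ^ (r - 1)) * σ (α b)⁻¹ = S * (σ b * n * σ b⁻¹) * S ^ (r - 1)
  calc σ (α b) * (S * n * S ^ (r - 1)) * σ (α b)⁻¹
      = (σ (α b) * S) * n * (S ^ (r - 1) * σ (α b)⁻¹) := by simp only [mul_assoc]
    _ = (S * σ b) * n * (σ b⁻¹ * S ^ (r - 1)) := by rw [h1, h2]
    _ = S * (σ b * n * σ b⁻¹) * S ^ (r - 1) := by simp only [mul_assoc]

theorem avg_alpha (hr : 0 < r) (hS : S ^ r = 1) (hSσ : ∀ a : E, S * σ a = σ (α a) * S)
    {m : Module.End K U} (hm : S * m = m * S) (a : E) :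
    avg σ (σ (α a)⁻¹ * m) = S * avg σ (σ a⁻¹ * m) * S ^ (r - 1) := by
  have hm' : S ^ (r - 1) * m = m * S ^ (r - 1) := by
    calc S ^ (r - 1) * m = S ^ (r - 1) * (m * S) * S ^ (r - 1) := by
          rw [mul_assoc, mul_assoc, S_mul_pow S hr hS, mul_one]
      _ = S ^ (r - 1) * (S * m) * S ^ (r - 1) := by rw [hm]
      _ = m * S ^ (r - 1) := by rw [← mul_assoc, pow_mul_S S hr hS, one_mul]
  have h1 : σ (α a)⁻¹ = S * σ a⁻¹ * S ^ (r - 1) := by
    calc σ (α a)⁻¹ = σ (α a⁻¹) := by rw [map_inv α]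
      _ = σ (α a⁻¹) * (S * S ^ (r - 1)) := by rw [S_mul_pow S hr hS, mul_one]
      _ = S * σ a⁻¹ * S ^ (r - 1) := by rw [← mul_assoc, ← hSσ]
  rw [h1, ← avg_conj σ α S hr hS hSσ]
  congr 1
  rw [mul_assoc, hm']
  simp only [mul_assoc]

end equivariance

variable [Fintype E]

omit [Fintype E] in
theorem cen_finrank_pos [FiniteDimensional K U] [Nontrivial U] (σ : E →* Module.End K U) :
    0 < finrank K (cen σ) := by
  have : Nontrivial (cen σ) := by
    refine ⟨⟨⟨1, one_mem_cen σ⟩, 0, ?_⟩⟩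
    intro h
    have h1 : (1 : Module.End K U) = 0 := congrArg Subtype.val h
    exact one_ne_zero h1
  exact Module.finrank_pos

theorem core_ineq [IsAlgClosed K] [FiniteDimensional K U] [Nontrivial U]
    {σ : E →* Module.End K U} {Z : Subgroup E} (h : Cl2 σ Z)
    (α : E ≃* E) (S : Module.End K U) {r : ℕ} (hr : r.Prime) (hrK : (r : K) ≠ 0)
    (hS : S ^ r = 1) (hSσ : ∀ a : E, S * σ a = σ (α a) * S) (hfix : ∀ u : U, S u = u → u = 0)
    (hαr : ∀ a : E, (α ^ r) a = a) (hαZ : ∀ z ∈ Z, α z ∈ Z)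
    (hfpf : ∀ a : E, a⁻¹ * α a ∈ Z → a ∈ Z) :
    Z.index ≤ (r - 1) ^ 2 ∧ r ∣ Z.index - 1 := by
  have hZn : Z.Normal := by
    refine ⟨fun z hz a => ?_⟩
    have h1 : a * z * a⁻¹ = ⁅a, z⁆ * z := by
      rw [commutatorElement_def]
      group
    rw [h1]
    exact Z.mul_mem (h.comm_mem a z) hz
  obtain ⟨R, hR1, hR2, hR3⟩ := exists_cover Z α hr hαr hαZ hfpf
  refine ⟨?_, hR2⟩
  let 𝓜 : Submodule K (Module.End K U) :=
    Subalgebra.toSubmodule (Subalgebra.centralizer K ({S} : Set (Module.End K U)))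
  have hmem : ∀ m, m ∈ 𝓜 → S * m = m * S := by
    intro m hm
    have h1 : m ∈ Subalgebra.centralizer K ({S} : Set (Module.End K U)) := hm
    rw [Subalgebra.mem_centralizer_iff] at h1
    exact h1 S (Set.mem_singleton S)
  have h1 : finrank K 𝓜 ≤ R.card * finrank K (cen σ) := by
    apply finrank_le_of_cover h 𝓜 R
    intro m hm hR a
    apply hR3 {a | avg σ (σ a⁻¹ * m) = 0}
    · intro t ht
      exact hR t ht
    · intro a ha
      have ha' : avg σ (σ a⁻¹ * m) = 0 := ha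
      show avg σ (σ (α a)⁻¹ * m) = 0
      rw [avg_alpha σ α S hr.pos hS hSσ (hmem m hm), ha', mul_zero, zero_mul]
    · intro a ha z hz
      exact avg_zero_mul_Z h m hz ha
  have h2 : (finrank K U) ^ 2 ≤ (r - 1) * finrank K 𝓜 := by
    have := sq_finrank_le S hr.pos hrK hS hfix
    rwa [← Subalgebra.finrank_toSubmodule] at this
  have h3 := index_mul_le h
  have hb := cen_finrank_pos σ
  have h4 : Z.index * finrank K (cen σ) ≤ ((r - 1) * R.card) * finrank K (cen σ) := by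
    calc Z.index * finrank K (cen σ) ≤ (finrank K U) ^ 2 := h3
      _ ≤ (r - 1) * finrank K 𝓜 := h2
      _ ≤ (r - 1) * (R.card * finrank K (cen σ)) := Nat.mul_le_mul_left _ h1
      _ = ((r - 1) * R.card) * finrank K (cen σ) := by ring
  have h5 : Z.index ≤ (r - 1) * R.card := Nat.le_of_mul_le_mul_right h4 hb
  obtain ⟨s, rfl⟩ : ∃ s, r = s + 1 := ⟨r - 1, (Nat.sub_add_cancel hr.one_le).symm⟩
  rw [Nat.add_sub_cancel] at h5 ⊢
  have h6 : R.card * (s + 1) ≤ Z.index + s := by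
    have : Z.index + (s + 1) - 1 = Z.index + s := by omega
    rw [← this]
    exact hR1
  have h7 : Z.index * (s + 1) ≤ s * Z.index + s ^ 2 := by
    calc Z.index * (s + 1) ≤ (s * R.card) * (s + 1) := Nat.mul_le_mul_right _ h5
      _ = s * (R.card * (s + 1)) := by ring
      _ ≤ s * (Z.index + s) := Nat.mul_le_mul_left _ h6
      _ = s * Z.index + s ^ 2 := by ring
  nlinarith [h7]

end Cfsg.Agent.Lib.Helper1.XS
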