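import Mathlib
import Cfsg.Agent.Lib.Helper1.XS5

/-! The central index is a square (Schur's lemma), and the final core theorem. -/
set_option autoImplicit false
open scoped BigOperators commutatorElement
open Module

namespace Cfsg.Agent.Lib.Helper1.XS

universe u v w
variable {K : Type u} [Field K] {U : Type v} [AddCommGroup U] [Module K U]
variable {E : Type w} [Group E]

theorem cl2_restrict {σ : E →* Module.End K U} {Z : Subgroup E} (h : Cl2 σ Z)
    (W : Submodule K U) (hW : ∀ a : E, ∀ w ∈ W, σ a w ∈ W) (hW0 : W ≠ ⊥) :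
    Cl2 (restrictRep σ W hW) Z := by
  have hnt : Nontrivial W := Submodule.nontrivial_iff_ne_bot.mpr hW0
  have hsc : ∀ (g : E) (c : K), σ g = c • (1 : Module.End K U) →
      restrictRep σ W hW g = c • (1 : Module.End K W) := by
    intro g c hc
    ext w
    rw [restrictRep_apply, hc]
    rfl
  refine ⟨h.comm_mem, ?_, ?_, h.card_ne⟩
  · intro z hz
    obtain ⟨c, hc⟩ := h.scalar z hz
    exact ⟨c, hsc z c hc⟩
  · intro g hg
    obtain ⟨a, ha⟩ := h.nondeg g hg
    refine ⟨a, ?_⟩
    obtain ⟨c, hc⟩ := h.scalar _ (h.comm_mem a g)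
    have hc1 : c ≠ 1 := by
      rintro rfl
      rw [one_smul] at hc
      exact ha hc
    rw [hsc _ c hc]
    intro h1
    obtain ⟨w, hw⟩ := exists_ne (0 : W)
    have h2 := congrArg (fun f : Module.End K W => f w) h1
    simp only [LinearMap.smul_apply, Module.End.one_apply] at h2
    have h3 : (c - 1) • w = 0 := by rw [sub_smul, one_smul, h2, sub_self]
    rcases smul_eq_zero.mp h3 with h4 | h4
    · exact hc1 (sub_eq_zero.mp h4)
    · exact hw h4

variable [Fintype E]

theorem index_eq_sq [IsAlgClosed K] [FiniteDimensional K U] [Nontrivial U]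
    {σ : E →* Module.End K U} {Z : Subgroup E} (h : Cl2 σ Z) : ∃ N : ℕ, Z.index = N ^ 2 := by
  classical
  -- a nonzero invariant subspace of minimal dimension
  let P : ℕ → Prop := fun n => ∃ W : Submodule K U, W ≠ ⊥ ∧ (∀ a : E, ∀ w ∈ W, σ a w ∈ W) ∧
    finrank K W = n
  have hP : ∃ n, P n := ⟨_, ⊤, top_ne_bot, fun _ _ _ => Submodule.mem_top, rfl⟩
  obtain ⟨W, hW0, hW, hWn⟩ := Nat.find_spec hP
  have hmin : ∀ W' : Submodule K U, W' ≠ ⊥ → (∀ a : E, ∀ w ∈ W', σ a w ∈ W') →
      finrank K W ≤ finrank K W' := by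
    intro W' h0 hinv
    rw [hWn]
    exact Nat.find_min' hP ⟨W', h0, hinv, rfl⟩
  have hnt : Nontrivial W := Submodule.nontrivial_iff_ne_bot.mpr hW0
  have hcl := cl2_restrict h W hW hW0
  have heq := sq_eq_index_mul hcl
  -- Schur
  have hschur : ∀ f ∈ cen (restrictRep σ W hW), ∃ μ : K, f = μ • (1 : Module.End K W) := by
    intro f hf
    rw [mem_cen] at hf
    obtain ⟨μ, hμ⟩ := Module.End.exists_eigenvalue f
    refine ⟨μ, ?_⟩
    let L : Submodule K W := f.eigenspace μ
    have hL0 : L ≠ ⊥ := hμ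
    have hLinv : ∀ a : E, ∀ w ∈ L, restrictRep σ W hW a w ∈ L := by
      intro a w hw
      rw [Module.End.mem_eigenspace_iff] at hw ⊢
      have h1 : f (restrictRep σ W hW a w) = restrictRep σ W hW a (f w) := by
        have := congrArg (fun g : Module.End K W => g w) (hf a)
        simp only [Module.End.mul_apply] at this
        exact this.symm
      rw [h1, hw, map_smul]
    let W' : Submodule K U := L.map W.subtype
    have hW'0 : W' ≠ ⊥ := by
      obtain ⟨w, hw, hw0⟩ := (Submodule.ne_bot_iff L).mp hL0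
      intro h1
      have h2 : (w : U) ∈ W' := ⟨w, hw, rfl⟩
      rw [h1, Submodule.mem_bot] at h2
      exact hw0 (Subtype.ext h2)
    have hW'inv : ∀ a : E, ∀ w ∈ W', σ a w ∈ W' := by
      rintro a _ ⟨w, hw, rfl⟩
      exact ⟨restrictRep σ W hW a w, hLinv a w hw, rfl⟩
    have h2 := hmin W' hW'0 hW'inv
    have h3 : finrank K W' = finrank K L :=
      (Submodule.equivMapOfInjective W.subtype W.subtype_injective L).symm.finrank_eq
    have h4 : L = ⊤ := by
      apply Submodule.eq_top_of_finrank_eq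
      apply le_antisymm (Submodule.finrank_le L)
      rw [← h3]
      exact h2
    ext w
    have h5 : w ∈ L := by rw [h4]; exact Submodule.mem_top
    rw [Module.End.mem_eigenspace_iff] at h5
    rw [h5]
    rfl
  have hone : cen (restrictRep σ W hW) = Submodule.span K {(1 : Module.End K W)} := by
    apply le_antisymm
    · intro f hf
      obtain ⟨μ, rfl⟩ := hschur f hf
      exact Submodule.smul_mem _ _ (Submodule.subset_span rfl)
    · rw [Submodule.span_le]
      rintro _ rfl
      exact one_mem_cen _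
  have hfr : finrank K (cen (restrictRep σ W hW)) = 1 := by
    rw [hone]
    exact finrank_span_singleton one_ne_zero
  rw [hfr, mul_one] at heq
  exact ⟨finrank K W, heq.symm⟩

theorem core [IsAlgClosed K] [FiniteDimensional K U] [Nontrivial U]
    {σ : E →* Module.End K U} {Z : Subgroup E} (h : Cl2 σ Z)
    (α : E ≃* E) (S : Module.End K U) {r : ℕ} (hr : r.Prime) (hrK : (r : K) ≠ 0)
    (hS : S ^ r = 1) (hSσ : ∀ a : E, S * σ a = σ (α a) * S) (hfix : ∀ u : U, S u = u → u = 0)
    (hαr : ∀ a : E, (α ^ r) a = a) (hαZ : ∀ z ∈ Z, α z ∈ Z)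
    (hfpf : ∀ a : E, a⁻¹ * α a ∈ Z → a ∈ Z) :
    Z.index = 1 ∨ Z.index = (r - 1) ^ 2 := by
  obtain ⟨h1, h2⟩ := core_ineq h α S hr hrK hS hSσ hfix hαr hαZ hfpf
  obtain ⟨N, hN⟩ := index_eq_sq h
  rw [hN] at h1 h2 ⊢
  have hN1 : N ≤ r - 1 := (Nat.pow_le_pow_iff_left (by norm_num)).mp h1
  have hN0 : 1 ≤ N := by
    rcases Nat.eq_zero_or_pos N with h0 | h0
    · exfalso
      rw [h0] at hN
      have : Z.index ≠ 0 := Subgroup.index_ne_zero_of_finite
      exact this (by rw [hN]; norm_num)
    · exact h0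
  rcases Nat.eq_or_lt_of_le hN0 with h3 | h3
  · left
    rw [← h3]
    norm_num
  · right
    have h4 : N ^ 2 - 1 = (N - 1) * (N + 1) := by
      obtain ⟨k, rfl⟩ : ∃ k, N = k + 1 := ⟨N - 1, by omega⟩
      rw [Nat.add_sub_cancel]
      have : (k + 1) ^ 2 = k * (k + 1 + 1) + 1 := by ring
      rw [this, Nat.add_sub_cancel]
    rw [h4] at h2
    have hr1 := hr.one_le
    rcases (Nat.Prime.dvd_mul hr).mp h2 with h5 | h5
    · exfalso
      have h6 := Nat.le_of_dvd (by omega) h5
      omega
    · have h6 := Nat.le_of_dvd (by omega) h5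
      have : N = r - 1 := by omega
      rw [this]

end Cfsg.Agent.Lib.Helper1.XS
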