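import Mathlib
import Cfsg.Agent.Lib.Helper1.XS6

/-! Reduction to a subspace on which a central subgroup acts by scalars. -/
set_option autoImplicit false
open scoped BigOperators commutatorElement
open Module

namespace Cfsg.Agent.Lib.Helper1.XS

universe u v w
variable {K : Type u} [Field K] {U : Type v} [AddCommGroup U] [Module K U]
variable {E : Type w} [Group E]

theorem restrict_pow_apply (T : Module.End K U) (W : Submodule K U) (hW : ∀ w ∈ W, T w ∈ W)
    (k : ℕ) (w : W) : (((T.restrict hW) ^ k) w : U) = (T ^ k) (w : U) := by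
  induction k generalizing w with
  | zero => simp
  | succ k ih =>
    rw [pow_succ, pow_succ, Module.End.mul_apply, Module.End.mul_apply, ih]
    rfl

theorem exists_scalar_sub [IsAlgClosed K] [FiniteDimensional K U] [Finite E]
    (σ : E →* Module.End K U) (S : Module.End K U) (Z : Subgroup E)
    (hcardK : (Nat.card E : K) ≠ 0)
    (hZσ : ∀ z ∈ Z, ∀ a : E, σ z * σ a = σ a * σ z) (hZS : ∀ z ∈ Z, σ z * S = S * σ z)
    (d : E) (hd : σ d ≠ 1) :
    ∃ W : Submodule K U, (∀ a : E, ∀ w ∈ W, σ a w ∈ W) ∧ (∀ w ∈ W, S w ∈ W) ∧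
      (∃ w ∈ W, σ d w ≠ w) ∧ ∀ z ∈ Z, ∃ c : K, ∀ w ∈ W, σ z w = c • w := by
  classical
  let P : ℕ → Prop := fun n => ∃ W : Submodule K U, (∀ a : E, ∀ w ∈ W, σ a w ∈ W) ∧
    (∀ w ∈ W, S w ∈ W) ∧ (∃ w ∈ W, σ d w ≠ w) ∧ finrank K W = n
  have hP : ∃ n, P n := by
    refine ⟨_, ⊤, fun _ _ _ => Submodule.mem_top, fun _ _ => Submodule.mem_top, ?_, rfl⟩
    by_contra hcon
    push Not at hcon
    apply hd
    ext u
    exact hcon u Submodule.mem_top
  obtain ⟨W, hWσ, hWS, hWd, hWn⟩ := Nat.find_spec hP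
  have hmin : ∀ W' : Submodule K U, (∀ a : E, ∀ w ∈ W', σ a w ∈ W') → (∀ w ∈ W', S w ∈ W') →
      (∃ w ∈ W', σ d w ≠ w) → finrank K W ≤ finrank K W' := by
    intro W' h1 h2 h3
    rw [hWn]
    exact Nat.find_min' hP ⟨W', h1, h2, h3, rfl⟩
  refine ⟨W, hWσ, hWS, hWd, ?_⟩
  intro z hz
  let T : Module.End K U := σ z
  let TW : Module.End K W := T.restrict (hWσ z)
  have hTn : T ^ Nat.card E = 1 := by
    show σ z ^ Nat.card E = 1
    rw [← map_pow, pow_card_eq_one', map_one]
  have hTWn : TW ^ Nat.card E = 1 := by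
    ext w
    rw [restrict_pow_apply, hTn]
    rfl
  have htop := iSup_eigenspace_of_pow_eq_one TW hcardK hTWn
  -- some eigenspace carries a nontrivial action of `d`
  have hex : ∃ μ : K, ∃ w ∈ TW.eigenspace μ, σ d (w : U) ≠ (w : U) := by
    by_contra hcon
    push Not at hcon
    let L : Submodule K W := LinearMap.ker ((σ d - 1).comp W.subtype)
    have hL : ∀ μ : K, TW.eigenspace μ ≤ L := by
      intro μ w hw
      rw [LinearMap.mem_ker]
      show (σ d - 1) (w : U) = 0
      rw [LinearMap.sub_apply, Module.End.one_apply, hcon μ w hw, sub_self]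
    have hLtop : L = ⊤ := by
      rw [eq_top_iff, ← htop]
      exact iSup_le hL
    obtain ⟨w, hw, hwd⟩ := hWd
    have h1 : (⟨w, hw⟩ : W) ∈ L := by rw [hLtop]; exact Submodule.mem_top
    rw [LinearMap.mem_ker] at h1
    have h2 : (σ d - 1) w = 0 := h1
    rw [LinearMap.sub_apply, Module.End.one_apply, sub_eq_zero] at h2
    exact hwd h2
  obtain ⟨μ, w₀, hw₀, hw₀d⟩ := hex
  refine ⟨μ, ?_⟩
  let L : Submodule K W := TW.eigenspace μ
  let W' : Submodule K U := L.map W.subtype
  have hLmem : ∀ w : W, w ∈ L ↔ T (w : U) = μ • (w : U) := by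
    intro w
    rw [Module.End.mem_eigenspace_iff]
    constructor
    · intro h
      exact congrArg Subtype.val h
    · intro h
      exact Subtype.ext h
  have hW'σ : ∀ a : E, ∀ w ∈ W', σ a w ∈ W' := by
    rintro a _ ⟨w, hw, rfl⟩
    have hw := (hLmem w).mp hw
    refine ⟨⟨σ a (w : U), hWσ a _ w.2⟩, (hLmem _).mpr ?_, rfl⟩
    show σ z (σ a (w : U)) = μ • σ a (w : U)
    have h1 := congrArg (fun f : Module.End K U => f (w : U)) (hZσ z hz a)
    simp only [Module.End.mul_apply] at h1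
    rw [h1]
    have hw' : σ z (w : U) = μ • (w : U) := hw
    rw [hw', map_smul]
  have hW'S : ∀ w ∈ W', S w ∈ W' := by
    rintro _ ⟨w, hw, rfl⟩
    have hw := (hLmem w).mp hw
    refine ⟨⟨S (w : U), hWS _ w.2⟩, (hLmem _).mpr ?_, rfl⟩
    show σ z (S (w : U)) = μ • S (w : U)
    have h1 := congrArg (fun f : Module.End K U => f (w : U)) (hZS z hz)
    simp only [Module.End.mul_apply] at h1
    rw [h1]
    have hw' : σ z (w : U) = μ • (w : U) := hw
    rw [hw', map_smul]
  have hW'd : ∃ w ∈ W', σ d w ≠ w := ⟨(w₀ : U), ⟨w₀, hw₀, rfl⟩, hw₀d⟩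
  have h2 := hmin W' hW'σ hW'S hW'd
  have h3 : finrank K W' = finrank K L :=
    (Submodule.equivMapOfInjective W.subtype W.subtype_injective L).symm.finrank_eq
  have h4 : L = ⊤ := by
    apply Submodule.eq_top_of_finrank_eq
    apply le_antisymm (Submodule.finrank_le L)
    rw [← h3]
    exact h2
  intro w hw
  have h5 : (⟨w, hw⟩ : W) ∈ L := by rw [h4]; exact Submodule.mem_top
  exact (hLmem _).mp h5

end Cfsg.Agent.Lib.Helper1.XS
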