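import Mathlib

/-! From an action on an elementary abelian `p`-group to a representation over the algebraic
closure of `ZMod p`. -/
set_option autoImplicit false
open scoped BigOperators TensorProduct
open Module

namespace Cfsg.Agent.Lib.Helper1.XS

universe u v w
variable (p : ℕ) [hp : Fact p.Prime] {M : Type u} [CommGroup M] [Module (ZMod p) (Additive M)]
variable {Γ : Type v} [Group Γ]

/-- the `ZMod p`-linear representation attached to an action by endomorphisms -/
def rep0 (φ : Γ →* Monoid.End M) : Γ →* Module.End (ZMod p) (Additive M) where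
  toFun g := (MonoidHom.toAdditive (φ g)).toZModLinearMap p
  map_one' := by
    apply LinearMap.ext
    intro m
    rw [AddMonoidHom.coe_toZModLinearMap, map_one]
    rfl
  map_mul' a b := by
    apply LinearMap.ext
    intro m
    rw [Module.End.mul_apply, AddMonoidHom.coe_toZModLinearMap, AddMonoidHom.coe_toZModLinearMap,
      AddMonoidHom.coe_toZModLinearMap, map_mul]
    rfl

theorem rep0_apply (φ : Γ →* Monoid.End M) (g : Γ) (v : Additive M) :
    rep0 p φ g v = Additive.ofMul (φ g (Additive.toMul v)) := rfl

variable (K : Type w) [Field K] [Algebra (ZMod p) K]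

/-- the base change of `rep0` -/
noncomputable def repK (φ : Γ →* Monoid.End M) :
    Γ →* Module.End K (K ⊗[ZMod p] Additive M) :=
  ((Module.End.baseChangeHom (ZMod p) K (Additive M)) : Module.End (ZMod p) (Additive M) →*
    Module.End K (K ⊗[ZMod p] Additive M)).comp (rep0 p φ)

theorem repK_apply (φ : Γ →* Monoid.End M) (g : Γ) :
    repK p K φ g = (rep0 p φ g).baseChange K := rfl

theorem repK_eq_one_iff (φ : Γ →* Monoid.End M) (g : Γ) :
    repK p K φ g = 1 ↔ ∀ m : M, φ g m = m := by
  have hinj : Function.Injective (Module.End.baseChangeHom (ZMod p) K (Additive M)) :=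
    LinearMap.baseChangeHom_injective (ZMod p) (Additive M) K
  constructor
  · intro h m
    have h1 : Module.End.baseChangeHom (ZMod p) K (Additive M) (rep0 p φ g)
        = Module.End.baseChangeHom (ZMod p) K (Additive M) 1 := by
      rw [map_one]
      exact h
    have h2 := hinj h1
    have h3 := congrArg (fun f : Module.End (ZMod p) (Additive M) => f (Additive.ofMul m)) h2
    exact congrArg Additive.toMul h3
  · intro h
    have h1 : rep0 p φ g = 1 := by
      apply LinearMap.ext
      intro v
      rw [rep0_apply, h]
      rfl
    rw [repK_apply, h1]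
    exact LinearMap.baseChange_one (ZMod p) (Additive M)

theorem repK_fixed [Finite M] (φ : Γ →* Monoid.End M) (g : Γ)
    (hg : ∀ m : M, φ g m = m → m = 1) :
    ∀ u : K ⊗[ZMod p] Additive M, repK p K φ g u = u → u = 0 := by
  have hfin : Finite (Additive M) := inferInstanceAs (Finite M)
  have hmf : Module.Finite (ZMod p) (Additive M) := Module.Finite.of_finite
  -- `rep0 g - 1` is injective, hence a unit
  have hker : LinearMap.ker (rep0 p φ g - 1) = ⊥ := by
    rw [LinearMap.ker_eq_bot']
    intro v hv
    rw [LinearMap.sub_apply, Module.End.one_apply, sub_eq_zero, rep0_apply] at hv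
    have h1 := hg (Additive.toMul v) (congrArg Additive.toMul hv)
    exact congrArg Additive.ofMul h1
  have hunit : IsUnit (rep0 p φ g - 1) := (LinearMap.isUnit_iff_ker_eq_bot _).mpr hker
  have hunit' : IsUnit (Module.End.baseChangeHom (ZMod p) K (Additive M) (rep0 p φ g - 1)) :=
    hunit.map _
  have hker' := (LinearMap.isUnit_iff_ker_eq_bot _).mp hunit'
  intro u hu
  have h1 : u ∈ LinearMap.ker
      (Module.End.baseChangeHom (ZMod p) K (Additive M) (rep0 p φ g - 1)) := by
    rw [LinearMap.mem_ker, map_sub, map_one, LinearMap.sub_apply, Module.End.one_apply, sub_eq_zero]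
    exact hu
  rw [hker', Submodule.mem_bot] at h1
  exact h1

theorem repK_nontrivial [Finite M] [Nontrivial M] : Nontrivial (K ⊗[ZMod p] Additive M) := by
  have hfin : Finite (Additive M) := inferInstanceAs (Finite M)
  have hnt : Nontrivial (Additive M) := inferInstanceAs (Nontrivial M)
  have hmf : Module.Finite (ZMod p) (Additive M) := Module.Finite.of_finite
  have h1 : 0 < finrank K (K ⊗[ZMod p] Additive M) := by
    rw [Module.finrank_baseChange]
    exact Module.finrank_pos
  exact Module.finrank_pos_iff.mp h1

theorem repK_finite [Finite M] : Module.Finite K (K ⊗[ZMod p] Additive M) := by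
  have hfin : Finite (Additive M) := inferInstanceAs (Finite M)
  have hmf : Module.Finite (ZMod p) (Additive M) := Module.Finite.of_finite
  infer_instance

end Cfsg.Agent.Lib.Helper1.XS
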