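import Mathlib
import Cfsg.Agent.Lib.Helper1.XS7
import Cfsg.Agent.Lib.Helper1.XS8

/-! The class-two critical case, for an abstract action on an elementary abelian `p`-group. -/
set_option autoImplicit false
open scoped BigOperators TensorProduct commutatorElement
open Module

namespace Cfsg.Agent.Lib.Helper1.XS

universe u v

theorem amb_lin {M : Type u} [CommGroup M] [Finite M] {Γ : Type v} [Group Γ] [Finite Γ]
    {p r : ℕ} [hpfact : Fact p.Prime] [Module (ZMod p) (Additive M)]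
    (K : Type) [Field K] [IsAlgClosed K] [Algebra (ZMod p) K] [CharP K p]
    (hr : r.Prime) (hpr : p ≠ r)
    (φ : Γ →* Monoid.End M)
    (Q Z : Subgroup Γ) (x : Γ) (hxr : x ^ r = 1) (hxQ : x ∈ Subgroup.normalizer (Q : Set Γ))
    (hpQ : ¬ p ∣ Nat.card Q)
    (hZQ : Z ≤ Q) (hZc : ∀ z ∈ Z, ∀ a ∈ Q, z * a = a * z) (hZx : ∀ z ∈ Z, x * z = z * x)
    (hcomm : ∀ a ∈ Q, ∀ b ∈ Q, ⁅a, b⁆ ∈ Z)
    (hfpf : ∀ a ∈ Q, a⁻¹ * (x * a * x⁻¹) ∈ Z → a ∈ Z)
    (d : Γ) (hdQ : d ∈ Q) (hdM : ∃ m : M, φ d m ≠ m)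
    (hnd : ∀ N : Subgroup Γ, N ≤ Q → (∀ a ∈ Q, ∀ n ∈ N, a * n * a⁻¹ ∈ N) →
        (∀ n ∈ N, x * n * x⁻¹ ∈ N) → d ∉ N → ∀ g ∈ Q, (∀ a ∈ Q, ⁅a, g⁆ ∈ N) → g ∈ Z)
    (hCM : ∀ m : M, φ x m = m → m = 1) :
    Z.relIndex Q = 1 ∨ Z.relIndex Q = (r - 1) ^ 2 := by
  classical
  have hp : p.Prime := hpfact.out
  let ρ : Γ →* Module.End K (K ⊗[ZMod p] Additive M) := repK p K φ
  have hfd : Module.Finite K
      (K ⊗[ZMod p] Additive M) :=
    repK_finite p K
  have hMnt : Nontrivial M := by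
    obtain ⟨m, hm⟩ := hdM
    exact ⟨⟨φ d m, m, hm⟩⟩
  have hcardK : (Nat.card Q : K) ≠ 0 := by
    intro h
    exact hpQ ((CharP.cast_eq_zero_iff K p _).mp h)
  have hrK : (r : K) ≠ 0 := by
    intro h
    have h1 := (CharP.cast_eq_zero_iff K p _).mp h
    exact hpr ((Nat.prime_dvd_prime_iff_eq hp hr).mp h1)
  let σ : ↥Q →* Module.End K
      (K ⊗[ZMod p] Additive M) := ρ.comp Q.subtype
  have hσ : ∀ a : Q, σ a = ρ (a : Γ) := fun a => rfl
  let S := ρ x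
  let α : ↥Q ≃* ↥Q := Q.normalizerMonoidHom ⟨x, hxQ⟩
  have hα : ∀ a : Q, ((α a : Q) : Γ) = x * a * x⁻¹ := fun a => rfl
  let Zc : Subgroup ↥Q := Z.subgroupOf Q
  have hZσ : ∀ z ∈ Zc, ∀ a : Q, σ z * σ a = σ a * σ z := by
    intro z hz a
    rw [hσ, hσ, ← map_mul, ← map_mul, hZc z (Subgroup.mem_subgroupOf.mp hz) a a.2]
  have hZS : ∀ z ∈ Zc, σ z * S = S * σ z := by
    intro z hz
    show ρ (z : Γ) * ρ x = ρ x * ρ (z : Γ)
    rw [← map_mul, ← map_mul, hZx z (Subgroup.mem_subgroupOf.mp hz)]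
  have hσd : σ ⟨d, hdQ⟩ ≠ 1 := by
    intro h
    obtain ⟨m, hm⟩ := hdM
    exact hm ((repK_eq_one_iff p K φ d).mp h m)
  obtain ⟨W, hWσ, hWS, hWd, hWsc⟩ := exists_scalar_sub σ S Zc hcardK hZσ hZS ⟨d, hdQ⟩ hσd
  have hW0 : W ≠ ⊥ := by
    rintro rfl
    obtain ⟨w, hw, hwd⟩ := hWd
    rw [Submodule.mem_bot] at hw
    rw [hw, map_zero] at hwd
    exact hwd rfl
  have hWnt : Nontrivial W := Submodule.nontrivial_iff_ne_bot.mpr hW0
  have hSr : S ^ r = 1 := by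
    show ρ x ^ r = 1
    rw [← map_pow, hxr, map_one]
  have hWSk : ∀ (k : ℕ), ∀ w ∈ W, (S ^ k) w ∈ W := by
    intro k
    induction k with
    | zero => intro w hw; simpa using hw
    | succ k ih =>
      intro w hw
      rw [pow_succ, Module.End.mul_apply]
      exact ih _ (hWS w hw)
  have hxinv : ρ x⁻¹ = S ^ (r - 1) := by
    have h1 : x⁻¹ = x ^ (r - 1) := by
      rw [inv_eq_iff_mul_eq_one, ← pow_succ', Nat.sub_add_cancel hr.one_le, hxr]
    rw [h1, map_pow]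
  let σ₁ := restrictRep σ W hWσ
  let S₁ : Module.End K W := S.restrict hWS
  have hFin : Fintype ↥Q := Fintype.ofFinite _
  have hcl : Cl2 (K := K) (U := W) σ₁ Zc := by
    refine ⟨?_, ?_, ?_, hcardK⟩
    · intro a b
      rw [Subgroup.mem_subgroupOf]
      have h1 : ((⁅a, b⁆ : Q) : Γ) = ⁅(a : Γ), (b : Γ)⁆ := by
        simp [commutatorElement_def]
      rw [h1]
      exact hcomm a a.2 b b.2
    · intro z hz
      obtain ⟨c, hc⟩ := hWsc z hz
      refine ⟨c, ?_⟩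
      ext w
      rw [restrictRep_apply, hc w w.2]
      rfl
    · intro g hg
      by_contra hcon
      push Not at hcon
      apply hg
      rw [Subgroup.mem_subgroupOf]
      let N : Subgroup Γ :=
        { carrier := {n | n ∈ Q ∧ ∀ w ∈ W, ρ n w = w}
          one_mem' := ⟨Q.one_mem, fun w _ => by rw [map_one]; rfl⟩
          mul_mem' := by
            rintro a b ⟨ha, ha'⟩ ⟨hb, hb'⟩
            refine ⟨Q.mul_mem ha hb, fun w hw => ?_⟩
            rw [map_mul, Module.End.mul_apply, hb' w hw, ha' w hw]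
          inv_mem' := by
            rintro a ⟨ha, ha'⟩
            refine ⟨Q.inv_mem ha, fun w hw => ?_⟩
            have h1 : ρ a⁻¹ (ρ a w) = w := by
              rw [← Module.End.mul_apply, ← map_mul, inv_mul_cancel, map_one]
              rfl
            rw [ha' w hw] at h1
            exact h1 }
      have hNmem : ∀ n : Γ, n ∈ N ↔ n ∈ Q ∧ ∀ w ∈ W, ρ n w = w := fun n => Iff.rfl
      apply hnd N
      · intro n hn
        exact hn.1
      · intro a ha n hn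
        rw [hNmem] at hn ⊢
        refine ⟨Q.mul_mem (Q.mul_mem ha hn.1) (Q.inv_mem ha), fun w hw => ?_⟩
        rw [map_mul, map_mul, Module.End.mul_apply, Module.End.mul_apply]
        have h1 : ρ a⁻¹ w ∈ W := hWσ ⟨a⁻¹, Q.inv_mem ha⟩ w hw
        rw [hn.2 _ h1, ← Module.End.mul_apply, ← map_mul, mul_inv_cancel, map_one]
        rfl
      · intro n hn
        rw [hNmem] at hn ⊢
        refine ⟨(Subgroup.mem_normalizer_iff.mp hxQ n).mp hn.1, fun w hw => ?_⟩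
        rw [map_mul, map_mul, Module.End.mul_apply, Module.End.mul_apply]
        have h1 : ρ x⁻¹ w ∈ W := by
          rw [hxinv]
          exact hWSk _ w hw
        rw [hn.2 _ h1, ← Module.End.mul_apply, ← map_mul, mul_inv_cancel, map_one]
        rfl
      · intro hdN
        obtain ⟨w, hw, hwd⟩ := hWd
        exact hwd (hdN.2 w hw)
      · exact g.2
      · intro a ha
        rw [hNmem]
        refine ⟨?_, ?_⟩
        · rw [commutatorElement_def]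
          exact Q.mul_mem (Q.mul_mem (Q.mul_mem ha g.2) (Q.inv_mem ha)) (Q.inv_mem g.2)
        · intro w hw
          have h1 := hcon ⟨a, ha⟩
          have h2 := congrArg
            (fun f : Module.End K W => ((f ⟨w, hw⟩ : W) :
              K ⊗[ZMod p] Additive M)) h1
          simp only [Module.End.one_apply] at h2
          have h3 : ((⁅(⟨a, ha⟩ : Q), g⁆ : Q) : Γ) = ⁅a, (g : Γ)⁆ := by
            simp [commutatorElement_def]
          have h4 : ((σ₁ ⁅(⟨a, ha⟩ : Q), g⁆ ⟨w, hw⟩ : W) :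
              K ⊗[ZMod p] Additive M) = ρ ⁅a, (g : Γ)⁆ w := by
            rw [← h3]
            rfl
          rw [← h4]
          exact h2
  have hS₁ : S₁ ^ r = 1 := by
    ext w
    rw [restrict_pow_apply, hSr]
    rfl
  have hSσ₁ : ∀ a : Q, S₁ * σ₁ a = σ₁ (α a) * S₁ := by
    intro a
    ext w
    show ρ x (ρ (a : Γ) (w : _)) = ρ ((α a : Q) : Γ) (ρ x (w : _))
    rw [hα, ← Module.End.mul_apply, ← Module.End.mul_apply, ← map_mul, ← map_mul]
    congr 2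
    group
  have hfix₁ : ∀ u : W, S₁ u = u → u = 0 := by
    intro u hu
    have h1 : ρ x (u : _) = (u : _) := congrArg Subtype.val hu
    exact Subtype.ext (repK_fixed p K φ x hCM _ h1)
  have hαr : ∀ a : Q, (α ^ r) a = a := by
    intro a
    have h1 : α ^ r = 1 := by
      show (Q.normalizerMonoidHom ⟨x, hxQ⟩) ^ r = 1
      rw [← map_pow]
      have h2 : (⟨x, hxQ⟩ : Subgroup.normalizer (Q : Set Γ)) ^ r = 1 := by
        apply Subtype.ext
        rw [Subgroup.coe_pow]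
        exact hxr
      rw [h2, map_one]
    rw [h1]
    rfl
  have hαZ : ∀ z ∈ Zc, α z ∈ Zc := by
    intro z hz
    rw [Subgroup.mem_subgroupOf] at hz ⊢
    rw [hα, hZx z hz, mul_inv_cancel_right]
    exact hz
  have hfpf' : ∀ a : Q, a⁻¹ * α a ∈ Zc → a ∈ Zc := by
    intro a ha
    rw [Subgroup.mem_subgroupOf] at ha ⊢
    apply hfpf a a.2
    have h1 : ((a⁻¹ * α a : Q) : Γ) = (a : Γ)⁻¹ * (x * a * x⁻¹) := by
      rw [Subgroup.coe_mul, Subgroup.coe_inv, hα]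
    rw [← h1]
    exact ha
  exact core hcl α S₁ hr hrK hS₁ hSσ₁ hfix₁ hαr hαZ hfpf'

theorem amb_abs {M : Type u} [CommGroup M] [Finite M] {Γ : Type v} [Group Γ] [Finite Γ]
    {p r : ℕ} (hp : p.Prime) (hr : r.Prime) (hpr : p ≠ r)
    (φ : Γ →* Monoid.End M) (hexp : ∀ m : M, m ^ p = 1)
    (Q Z : Subgroup Γ) (x : Γ) (hxr : x ^ r = 1) (hxQ : x ∈ Subgroup.normalizer (Q : Set Γ))
    (hpQ : ¬ p ∣ Nat.card Q)
    (hZQ : Z ≤ Q) (hZc : ∀ z ∈ Z, ∀ a ∈ Q, z * a = a * z) (hZx : ∀ z ∈ Z, x * z = z * x)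
    (hcomm : ∀ a ∈ Q, ∀ b ∈ Q, ⁅a, b⁆ ∈ Z)
    (hfpf : ∀ a ∈ Q, a⁻¹ * (x * a * x⁻¹) ∈ Z → a ∈ Z)
    (d : Γ) (hdQ : d ∈ Q) (hdM : ∃ m : M, φ d m ≠ m)
    (hnd : ∀ N : Subgroup Γ, N ≤ Q → (∀ a ∈ Q, ∀ n ∈ N, a * n * a⁻¹ ∈ N) →
        (∀ n ∈ N, x * n * x⁻¹ ∈ N) → d ∉ N → ∀ g ∈ Q, (∀ a ∈ Q, ⁅a, g⁆ ∈ N) → g ∈ Z)
    (hCM : ∀ m : M, φ x m = m → m = 1) :
    Z.relIndex Q = 1 ∨ Z.relIndex Q = (r - 1) ^ 2 := by
  have hpfact : Fact p.Prime := ⟨hp⟩
  have hexpW : ∀ w : Additive M, p • w = 0 := fun w =>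
    congrArg Additive.ofMul (hexp (Additive.toMul w))
  let instMod : Module (ZMod p) (Additive M) := AddCommGroup.zmodModule hexpW
  exact amb_lin (AlgebraicClosure (ZMod p)) hr hpr φ Q Z x hxr hxQ hpQ hZQ hZc hZx hcomm hfpf d hdQ
    hdM hnd hCM

end Cfsg.Agent.Lib.Helper1.XS
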