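import Mathlib
import Cfsg.Prelude.Def_Transfer
import Cfsg.Agent.Lib.Helper1.XS10

/-! S3764: extraspecial groups acting with a fixed-point-free element of prime order. -/
set_option autoImplicit false
open scoped BigOperators commutatorElement

namespace Cfsg.Agent.Lib.Helper1.XS

universe u

/-- a generator of a subgroup of prime order -/
theorem exists_generator_of_prime_card {G : Type u} [Group G] (X : Subgroup G) {r : ℕ}
    (hr : r.Prime) (hX : Nat.card X = r) :
    ∃ x ∈ X, x ≠ 1 ∧ x ^ r = 1 ∧ ∀ y ∈ X, ∃ k : ℤ, y = x ^ k := by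
  have hrf : Fact r.Prime := ⟨hr⟩
  have hfin : Finite X := Nat.finite_of_card_ne_zero (by rw [hX]; exact hr.ne_zero)
  have hnt : Nontrivial X := by
    rw [← Finite.one_lt_card_iff_nontrivial, hX]
    exact hr.one_lt
  obtain ⟨x', hx'⟩ := exists_ne (1 : X)
  have htop := zpowers_eq_top_of_prime_card hX hx'
  refine ⟨x', x'.2, ?_, ?_, ?_⟩
  · intro h
    exact hx' (Subtype.ext h)
  · have h1 : x' ^ Nat.card X = 1 := pow_card_eq_one'
    rw [hX] at h1
    have h2 := congrArg Subtype.val h1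
    rwa [Subgroup.coe_pow] at h2
  · intro y hy
    have h1 : (⟨y, hy⟩ : X) ∈ Subgroup.zpowers x' := by rw [htop]; exact Subgroup.mem_top _
    obtain ⟨k, hk⟩ := Subgroup.mem_zpowers_iff.mp h1
    refine ⟨k, ?_⟩
    have h2 := congrArg Subtype.val hk
    rw [Subgroup.coe_zpow] at h2
    exact h2.symm

theorem s3764 {G : Type u} [Group G] [Finite G] {p q r : ℕ} (hp : p.Prime) (hq : q.Prime)
    (hr : r.Prime) (hpq : p ≠ q) (hpr : p ≠ r) (hqr : q ≠ r) (X Q V : Subgroup G)
    (hX : Nat.card X = r) (hQ : Cfsg.IsExtraspecial q ↥Q)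
    (hXQ : X ≤ Subgroup.normalizer (Q : Set G))
    (hCQ : Q ⊓ Subgroup.centralizer (X : Set G) = (Subgroup.center ↥Q).map Q.subtype)
    (hV : Cfsg.IsElementaryAbelian p V) (hXV : X ≤ Subgroup.normalizer (V : Set G))
    (hQV : Q ≤ Subgroup.normalizer (V : Set G))
    (hfaith : (X ⊔ Q) ⊓ Subgroup.centralizer (V : Set G) = ⊥)
    (hCV : V ⊓ Subgroup.centralizer (X : Set G) = ⊥) :
    q = 2 ∧ ∃ n : ℕ, r = 2 ^ n + 1 ∧ Nat.card Q = 2 ^ (2 * n + 1) := by
  classical
  have hqf : Fact q.Prime := ⟨hq⟩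
  obtain ⟨⟨hQp, -, hcommQ⟩, hZcard⟩ := hQ
  obtain ⟨hVcomm, hVp⟩ := hV
  obtain ⟨x, hxX, hx1, hxr, hXx⟩ := exists_generator_of_prime_card X hr hX
  have hcent : ∀ g : G, x * g = g * x → g ∈ Subgroup.centralizer (X : Set G) := by
    intro g hg
    rw [Subgroup.mem_centralizer_iff]
    intro y hy
    obtain ⟨k, rfl⟩ := hXx y hy
    exact ((show Commute x g from hg).zpow_left k).eq
  set Zq : Subgroup G := (Subgroup.center ↥Q).map Q.subtype with hZq
  have hZQ : Zq ≤ Q := Subgroup.map_subtype_le _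
  have hZc : ∀ z ∈ Zq, ∀ a ∈ Q, z * a = a * z := by
    rintro _ ⟨c, hc, rfl⟩ a ha
    have h1 := Subgroup.mem_center_iff.mp hc ⟨a, ha⟩
    exact (congrArg Subtype.val h1).symm
  have hZx : ∀ z ∈ Zq, x * z = z * x := by
    intro z hz
    rw [← hCQ] at hz
    exact Subgroup.mem_centralizer_iff.mp (Subgroup.mem_inf.mp hz).2 x hxX
  have hcomm : ∀ a ∈ Q, ∀ b ∈ Q, ⁅a, b⁆ ∈ Zq := by
    intro a ha b hb
    have h1 : ⁅(⟨a, ha⟩ : Q), ⟨b, hb⟩⁆ ∈ commutator ↥Q := by
      rw [commutator_def]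
      exact Subgroup.commutator_mem_commutator (Subgroup.mem_top _) (Subgroup.mem_top _)
    rw [hcommQ] at h1
    refine ⟨_, h1, ?_⟩
    simp [commutatorElement_def]
  obtain ⟨k, hk⟩ := hQp.exists_card_eq
  have hcop : (Nat.card Q).Coprime r := by
    rw [hk]
    exact Nat.Coprime.pow_left _ ((Nat.coprime_primes hq hr).mpr hqr)
  have hfpf : ∀ a ∈ Q, a⁻¹ * (x * a * x⁻¹) ∈ Zq → a ∈ Zq := by
    intro a ha hw
    have h1 : x * a * x⁻¹ = a * (a⁻¹ * (x * a * x⁻¹)) := by group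
    have h2 : (a⁻¹ * (x * a * x⁻¹)) ^ Nat.card Q = 1 := by
      have h3 : (⟨_, hZQ hw⟩ : Q) ^ Nat.card Q = 1 := pow_card_eq_one'
      have h4 := congrArg Subtype.val h3
      rwa [Subgroup.coe_pow] at h4
    have h5 := fpf_lemma hxr h1 (hZx _ hw) h2 hcop
    rw [h5, mul_one] at h1
    have h6 : x * a = a * x := mul_inv_eq_iff_eq_mul.mp h1
    rw [← hCQ]
    exact Subgroup.mem_inf.mpr ⟨ha, hcent a h6⟩
  have hZqcard : Nat.card Zq = q := by
    rw [← hZcard]
    exact Nat.card_congr (Subgroup.equivMapOfInjective _ _ Q.subtype_injective).symm.toEquiv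
  -- a nontrivial central element
  have hZnt : Nontrivial Zq := by
    have hfin : Finite Zq := inferInstance
    rw [← Finite.one_lt_card_iff_nontrivial, hZqcard]
    exact hq.one_lt
  obtain ⟨d', hd'⟩ := exists_ne (1 : Zq)
  have hd1 : (d' : G) ≠ 1 := fun h => hd' (Subtype.ext h)
  have hdV : (d' : G) ∉ Subgroup.centralizer (V : Set G) := by
    intro h
    have h1 : (d' : G) ∈ (X ⊔ Q) ⊓ Subgroup.centralizer (V : Set G) :=
      Subgroup.mem_inf.mpr ⟨(le_sup_right : Q ≤ X ⊔ Q) (hZQ d'.2), h⟩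
    rw [hfaith, Subgroup.mem_bot] at h1
    exact hd1 h1
  have hnd : ∀ N : Subgroup G, N ≤ Q → Q ≤ Subgroup.normalizer (N : Set G) →
      x ∈ Subgroup.normalizer (N : Set G) → (d' : G) ∉ N →
      ∀ g ∈ Q, (∀ a ∈ Q, ⁅a, g⁆ ∈ N) → g ∈ Zq := by
    intro N _ _ _ hdN g hg hcg
    have hbot : N ⊓ Zq = ⊥ := by
      have h1 : Nat.card ↥(N ⊓ Zq) ∣ q := by
        rw [← hZqcard]
        exact Subgroup.card_dvd_of_le inf_le_right
      rcases (Nat.dvd_prime hq).mp h1 with h2 | h2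
      · exact Subgroup.card_eq_one.mp h2
      · exfalso
        have h3 : N ⊓ Zq = Zq := by
          apply Subgroup.eq_of_le_of_card_ge inf_le_right
          rw [h2, hZqcard]
        apply hdN
        have h4 : (d' : G) ∈ N ⊓ Zq := by rw [h3]; exact d'.2
        exact (Subgroup.mem_inf.mp h4).1
    have hcen : (⟨g, hg⟩ : Q) ∈ Subgroup.center ↥Q := by
      rw [Subgroup.mem_center_iff]
      intro a
      have h1 : ⁅(a : G), g⁆ ∈ N ⊓ Zq := Subgroup.mem_inf.mpr ⟨hcg a a.2, hcomm a a.2 g hg⟩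
      rw [hbot, Subgroup.mem_bot] at h1
      apply Subtype.ext
      rw [Subgroup.coe_mul, Subgroup.coe_mul]
      exact commutatorElement_eq_one_iff_mul_comm.mp h1
    exact ⟨⟨g, hg⟩, hcen, rfl⟩
  have hCV' : ∀ v ∈ V, x * v = v * x → v = 1 := by
    intro v hv hxv
    have h1 : v ∈ V ⊓ Subgroup.centralizer (X : Set G) := Subgroup.mem_inf.mpr ⟨hv, hcent v hxv⟩
    rw [hCV, Subgroup.mem_bot] at h1
    exact h1
  have hpQ : ¬ p ∣ Nat.card Q := by
    rw [hk]
    intro h
    exact hpq ((Nat.prime_dvd_prime_iff_eq hp hq).mp (hp.dvd_of_dvd_pow h))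
  have hVc : ∀ a ∈ V, ∀ b ∈ V, a * b = b * a := by
    intro a ha b hb
    have := hVcomm.is_comm.comm ⟨a, ha⟩ ⟨b, hb⟩
    exact congrArg Subtype.val this
  have key := amb hp hr hpr Q Zq V x hVc hVp hQV (hXV hxX) hxr (hXQ hxX) hpQ hZQ hZc hZx hcomm hfpf
    (d' : G) (hZQ d'.2) hdV hnd hCV'
  -- the index is the index of the centre
  have hsub : Zq.subgroupOf Q = Subgroup.center ↥Q := by
    ext c
    rw [Subgroup.mem_subgroupOf]
    constructor
    · rintro ⟨c', hc', h⟩
      have : c' = c := Subtype.ext h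
      rw [← this]
      exact hc'
    · intro hc
      exact ⟨c, hc, rfl⟩
  have hcard : Nat.card Q = q * Zq.relIndex Q := by
    rw [← Subgroup.card_mul_index (Subgroup.center ↥Q), hZcard, Subgroup.relIndex, hsub]
  have hne1 : Zq.relIndex Q ≠ 1 := by
    intro h1
    rw [Subgroup.relIndex, hsub, Subgroup.index_eq_one] at h1
    have h2 : commutator ↥Q = ⊥ := by
      rw [commutator_def, Subgroup.commutator_eq_bot_iff_le_centralizer, Subgroup.coe_top,
        Subgroup.centralizer_univ, h1]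
    rw [hcommQ, h1] at h2
    have h3 : Nat.card (Subgroup.center ↥Q) = 1 := by
      rw [h1, h2]
      exact Subgroup.card_bot
    rw [hZcard] at h3
    exact hq.one_lt.ne' h3
  rcases key with h1 | h1
  · exact absurd h1 hne1
  · rw [h1, hk] at hcard
    -- q ^ k = q * (r-1)^2
    have hk1 : 1 ≤ k := by
      rcases Nat.eq_zero_or_pos k with h0 | h0
      · exfalso
        rw [h0, pow_zero] at hcard
        have : q ∣ 1 := ⟨_, hcard⟩
        exact hq.one_lt.ne' (Nat.dvd_one.mp this)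
      · exact h0
    obtain ⟨j, rfl⟩ : ∃ j, k = j + 1 := ⟨k - 1, by omega⟩
    rw [pow_succ'] at hcard
    have hsq : q ^ j = (r - 1) ^ 2 := Nat.eq_of_mul_eq_mul_left hq.pos hcard
    have hdvd : r - 1 ∣ q ^ j := by
      rw [hsq]
      exact dvd_pow_self _ (by norm_num)
    obtain ⟨n, -, hn⟩ := (Nat.dvd_prime_pow hq).mp hdvd
    rw [hn, ← pow_mul] at hsq
    have hj : j = n * 2 := Nat.pow_right_injective hq.two_le hsq
    have hn0 : n ≠ 0 := by
      rintro rfl
      apply hne1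
      rw [h1, hn]
      norm_num
    have hr1 := hr.one_le
    have hrq : r = q ^ n + 1 := by omega
    have hq2 : q = 2 := by
      by_contra hq2
      have hodd : Odd q := hq.odd_of_ne_two hq2
      have h3 : Even r := by
        rw [hrq]
        exact (hodd.pow).add_one
      have h4 : r = 2 := (Nat.Prime.even_iff hr).mp h3
      have h5 : q ^ n = 1 := by omega
      have h6 : 2 ^ n ≤ q ^ n := Nat.pow_le_pow_left hq.two_le n
      have h7 : 2 ≤ 2 ^ n := by
        calc 2 = 2 ^ 1 := by norm_num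
          _ ≤ 2 ^ n := Nat.pow_le_pow_right (by norm_num) (Nat.one_le_iff_ne_zero.mpr hn0)
      omega
    refine ⟨hq2, n, ?_, ?_⟩
    · rw [hrq, hq2]
    · rw [hk, hj, hq2]
      congr 1
      ring

end Cfsg.Agent.Lib.Helper1.XS
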