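import Mathlib
import Cfsg.Agent.Lib.Helper1.XS7

/-! The abelian case: a commuting group of operators normalised by a fixed-point-free operator of
prime order is centralised by it. -/
set_option autoImplicit false
open scoped BigOperators
open Module

namespace Cfsg.Agent.Lib.Helper1.XS

universe u v w
variable {K : Type u} [Field K] {U : Type v} [AddCommGroup U] [Module K U]
variable {E : Type w} [Group E]

theorem abelian_case [IsAlgClosed K] [FiniteDimensional K U] [Finite E]
    (σ : E →* Module.End K U) (hab : ∀ a b : E, σ a * σ b = σ b * σ a)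
    (hcardK : (Nat.card E : K) ≠ 0)
    (α : E ≃* E) (S : Module.End K U) {r : ℕ} (hr : r.Prime) (hS : S ^ r = 1)
    (hSσ : ∀ a : E, S * σ a = σ (α a) * S) (hαr : ∀ a : E, (α ^ r) a = a)
    (hfix : ∀ u : U, S u = u → u = 0) : ∀ a : E, σ (α a) = σ a := by
  classical
  by_contra hcon
  push Not at hcon
  obtain ⟨a₀, ha₀⟩ := hcon
  let d : E := a₀⁻¹ * α a₀
  have hσd : σ d ≠ 1 := by
    intro h
    apply ha₀
    have h1 : σ a₀ * σ d = σ (α a₀) := by
      rw [← map_mul]
      congr 1
      show a₀ * (a₀⁻¹ * α a₀) = α a₀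
      group
    rw [← h1, h, mul_one]
  obtain ⟨W, hWσ, -, hWd, hWsc⟩ := exists_scalar_sub σ 1 ⊤ hcardK (fun z _ a => hab z a)
    (fun z _ => by rw [mul_one, one_mul]) d hσd
  choose χ hχ using fun z : E => hWsc z (Subgroup.mem_top z)
  obtain ⟨u, huW, hud⟩ := hWd
  have hu0 : u ≠ 0 := by
    rintro rfl
    rw [map_zero] at hud
    exact hud rfl
  have hχd : χ d ≠ 1 := by
    intro h
    apply hud
    rw [hχ d u huW, h, one_smul]
  have hχmul : ∀ a b : E, χ (a * b) = χ a * χ b := by
    intro a b
    have h1 : σ (a * b) u = (χ a * χ b) • u := by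
      rw [map_mul, Module.End.mul_apply, hχ b u huW, map_smul, hχ a u huW, smul_smul, mul_comm]
    rw [hχ (a * b) u huW] at h1
    have h2 : (χ (a * b) - χ a * χ b) • u = 0 := by rw [sub_smul, h1, sub_self]
    rcases smul_eq_zero.mp h2 with h3 | h3
    · exact sub_eq_zero.mp h3
    · exact absurd h3 hu0
  have hχone : χ 1 = 1 := by
    have h1 := hχmul 1 1
    rw [mul_one] at h1
    have h2 : σ (1 : E) u = u := by rw [map_one]; rfl
    rw [hχ 1 u huW] at h2
    have h3 : (χ 1 - 1) • u = 0 := by rw [sub_smul, one_smul, h2, sub_self]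
    rcases smul_eq_zero.mp h3 with h4 | h4
    · exact sub_eq_zero.mp h4
    · exact absurd h4 hu0
  -- the translates
  have hrel : ∀ (j : ℕ) (a : E), σ a ((S ^ j) u) = χ ((α⁻¹ ^ j) a) • (S ^ j) u := by
    intro j
    induction j with
    | zero =>
      intro a
      simp only [pow_zero, Module.End.one_apply, MulAut.one_apply]
      exact hχ a u huW
    | succ j ih =>
      intro a
      rw [pow_succ' S, Module.End.mul_apply, ← Module.End.mul_apply (σ a) S,
        sigma_mul_S σ α S hSσ, Module.End.mul_apply, ih, map_smul, pow_succ (α⁻¹), MulAut.mul_apply]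
      rfl
  have hαinv_r : (α⁻¹ : MulAut E) ^ r = 1 := by
    have h1 : (α : MulAut E) ^ r = 1 := by
      ext a
      exact hαr a
    rw [inv_pow, h1, inv_one]
  let χs : Fin r → E → K := fun j a => χ ((α⁻¹ ^ (j : ℕ)) a)
  have hχs_inj : Function.Injective χs := by
    intro i j hij
    by_contra hne
    -- WLOG i < j
    have key : ∀ i j : Fin r, (i : ℕ) < (j : ℕ) → χs i = χs j → False := by
      intro i j hlt hij
      let k := (j : ℕ) - (i : ℕ)
      have hk0 : 0 < k := Nat.sub_pos_of_lt hlt
      have hkr : k < r := lt_of_le_of_lt (Nat.sub_le _ _) j.2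
      have h1 : ∀ b : E, χ b = χ ((α⁻¹ ^ k) b) := by
        intro b
        have h2 : χ ((α⁻¹ ^ (i : ℕ)) ((α ^ (i : ℕ)) b))
            = χ ((α⁻¹ ^ (j : ℕ)) ((α ^ (i : ℕ)) b)) := congrFun hij ((α ^ (i : ℕ)) b)
        have e1 : (α⁻¹ ^ (i : ℕ)) ((α ^ (i : ℕ)) b) = b := by
          rw [← MulAut.mul_apply, inv_pow, inv_mul_cancel, MulAut.one_apply]
        have e2 : (α⁻¹ ^ (j : ℕ)) ((α ^ (i : ℕ)) b) = (α⁻¹ ^ k) b := by
          have h3 : (j : ℕ) = k + (i : ℕ) := (Nat.sub_add_cancel hlt.le).symm
          rw [← MulAut.mul_apply, h3, pow_add, mul_assoc, inv_pow α (i : ℕ), inv_mul_cancel,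
            mul_one]
        rw [e1, e2] at h2
        exact h2
      have h2 : ∀ (m : ℕ) (b : E), χ b = χ ((α⁻¹ ^ (k * m)) b) := by
        intro m
        induction m with
        | zero => intro b; simp
        | succ m ih =>
          intro b
          rw [ih b, h1 ((α⁻¹ ^ (k * m)) b), ← MulAut.mul_apply, ← pow_add]
          congr 3
          ring
      have hcop : Nat.Coprime k r :=
        Nat.coprime_comm.mp ((Nat.Prime.coprime_iff_not_dvd hr).mpr
          (Nat.not_dvd_of_pos_of_lt hk0 hkr))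
      obtain ⟨m, -, hm⟩ := Nat.exists_mul_mod_eq_one_of_coprime hcop hr.one_lt
      have h3 : (α⁻¹ : MulAut E) ^ (k * m) = α⁻¹ := by
        rw [← Nat.div_add_mod (k * m) r, hm, pow_add, pow_mul, hαinv_r, one_pow, one_mul, pow_one]
      have h4 := h2 m (α a₀)
      rw [h3] at h4
      have h5 : (α⁻¹ : MulAut E) (α a₀) = a₀ := by
        rw [← MulAut.mul_apply, inv_mul_cancel, MulAut.one_apply]
      rw [h5] at h4
      apply hχd
      show χ (a₀⁻¹ * α a₀) = 1
      rw [hχmul, h4, ← hχmul, inv_mul_cancel, hχone]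
    rcases lt_trichotomy (i : ℕ) (j : ℕ) with h | h | h
    · exact key i j h hij
    · exact hne (Fin.ext h)
    · exact key j i h hij.symm
  let f : E → Module.End K U := fun a => σ a
  have hind := Module.End.independent_iInf_maxGenEigenspace_of_forall_mapsTo f (by
      intro a b φ
      exact Module.End.mapsTo_maxGenEigenspace_of_comm (show Commute (σ b) (σ a) from hab b a) φ)
  have hind' : iSupIndep (fun j : Fin r => ⨅ a, (f a).maxGenEigenspace (χs j a)) :=
    hind.comp hχs_inj
  let v : Fin r → U := fun j => (S ^ (j : ℕ)) u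
  have hv : ∀ j, v j ∈ ⨅ a, (f a).maxGenEigenspace (χs j a) := by
    intro j
    rw [Submodule.mem_iInf]
    intro a
    apply Module.End.eigenspace_le_maxGenEigenspace
    rw [Module.End.mem_eigenspace_iff]
    exact hrel j a
  have hv0 : ∀ j, v j ≠ 0 := by
    intro j h
    have h1 : (S ^ (r - (j : ℕ))) ((S ^ (j : ℕ)) u) = u := by
      rw [← Module.End.mul_apply, ← pow_add, Nat.sub_add_cancel j.2.le, hS]
      rfl
    rw [show (S ^ (j : ℕ)) u = 0 from h, map_zero] at h1
    exact hu0 h1.symm
  have hli := hind'.linearIndependent _ hv hv0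
  have hsum : ∑ j : Fin r, v j = 0 := by
    apply hfix
    rw [Fin.sum_univ_eq_sum_range (fun j => (S ^ j) u) r, map_sum]
    have h1 : ∀ j ∈ Finset.range r, S ((S ^ j) u) = (S ^ (j + 1)) u := by
      intro j _
      rw [pow_succ', Module.End.mul_apply]
    rw [Finset.sum_congr rfl h1]
    have h2 := Finset.sum_range_succ (fun j => (S ^ j) u) r
    have h3 := Finset.sum_range_succ' (fun j => (S ^ j) u) r
    rw [h2] at h3
    simp only [pow_zero, hS, Module.End.one_apply] at h3
    exact (add_right_cancel h3).symm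
  rw [Fintype.linearIndependent_iff] at hli
  have h0 := hli (fun _ => 1) (by simpa using hsum) ⟨0, hr.pos⟩
  exact one_ne_zero h0

end Cfsg.Agent.Lib.Helper1.XS
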