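import Mathlib
import Cfsg.Agent.Lib.Helper1.XS10
import Cfsg.Agent.Lib.Helper1.XS12
import Cfsg.Agent.Lib.Helper1.Coprime
import Cfsg.Agent.Lib.Helper1.ThompsonPQ
import Cfsg.Agent.Lib.Helper1.FM13

/-! Abelian case in abstract action form, arithmetic, and the structure of a critical subgroup. -/
set_option autoImplicit false
open scoped BigOperators TensorProduct commutatorElement
open Module

namespace Cfsg.Agent.Lib.Helper1.XS

universe u v

theorem abelian_lin {M : Type u} [CommGroup M] [Finite M] {Γ : Type v} [Group Γ] [Finite Γ]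
    {p r : ℕ} [hpfact : Fact p.Prime] [Module (ZMod p) (Additive M)]
    (K : Type) [Field K] [IsAlgClosed K] [Algebra (ZMod p) K] [CharP K p]
    (hr : r.Prime) (φ : Γ →* Monoid.End M)
    (Q : Subgroup Γ) (hQab : ∀ a ∈ Q, ∀ b ∈ Q, a * b = b * a) (hpQ : ¬ p ∣ Nat.card Q)
    (x : Γ) (hxr : x ^ r = 1) (hxQ : x ∈ Subgroup.normalizer (Q : Set Γ))
    (hCM : ∀ m : M, φ x m = m → m = 1) :
    ∀ a ∈ Q, ∀ m : M, φ (a⁻¹ * (x * a * x⁻¹)) m = m := by
  classical
  let ρ : Γ →* Module.End K (K ⊗[ZMod p] Additive M) := repK p K φ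
  have hfd : Module.Finite K (K ⊗[ZMod p] Additive M) := repK_finite p K
  have hcardK : (Nat.card Q : K) ≠ 0 := by
    intro h
    exact hpQ ((CharP.cast_eq_zero_iff K p _).mp h)
  let σ : ↥Q →* Module.End K (K ⊗[ZMod p] Additive M) := ρ.comp Q.subtype
  have hσ : ∀ a : Q, σ a = ρ (a : Γ) := fun a => rfl
  let S := ρ x
  let α : ↥Q ≃* ↥Q := Q.normalizerMonoidHom ⟨x, hxQ⟩
  have hα : ∀ a : Q, ((α a : Q) : Γ) = x * a * x⁻¹ := fun a => rfl
  have hab : ∀ a b : Q, σ a * σ b = σ b * σ a := by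
    intro a b
    rw [hσ, hσ, ← map_mul, ← map_mul, hQab a a.2 b b.2]
  have hSr : S ^ r = 1 := by
    show ρ x ^ r = 1
    rw [← map_pow, hxr, map_one]
  have hSσ : ∀ a : Q, S * σ a = σ (α a) * S := by
    intro a
    show ρ x * ρ (a : Γ) = ρ ((α a : Q) : Γ) * ρ x
    rw [hα, ← map_mul, ← map_mul]
    congr 1
    group
  have hαr : ∀ a : Q, (α ^ r) a = a := by
    intro a
    have h1 : α ^ r = 1 := by
      show (Q.normalizerMonoidHom ⟨x, hxQ⟩) ^ r = 1
      rw [← map_pow]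
      have h2 : (⟨x, hxQ⟩ : Subgroup.normalizer (Q : Set Γ)) ^ r = 1 := by
        apply Subtype.ext
        rw [Subgroup.coe_pow]
        exact hxr
      rw [h2, map_one]
    rw [h1]
    rfl
  have hfix : ∀ u : K ⊗[ZMod p] Additive M, S u = u → u = 0 := repK_fixed p K φ x hCM
  have key := abelian_case σ hab hcardK α S hr hSr hSσ hαr hfix
  intro a ha m
  have h1 := key ⟨a, ha⟩
  have h2 : ρ (a⁻¹ * (x * a * x⁻¹)) = 1 := by
    have h3 : ρ (x * a * x⁻¹) = ρ a := h1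
    rw [map_mul, h3, ← map_mul, inv_mul_cancel, map_one]
  exact (repK_eq_one_iff p K φ _).mp h2 m

theorem abelian_abs {M : Type u} [CommGroup M] [Finite M] {Γ : Type v} [Group Γ] [Finite Γ]
    {p r : ℕ} (hp : p.Prime) (hr : r.Prime)
    (φ : Γ →* Monoid.End M) (hexp : ∀ m : M, m ^ p = 1)
    (Q : Subgroup Γ) (hQab : ∀ a ∈ Q, ∀ b ∈ Q, a * b = b * a) (hpQ : ¬ p ∣ Nat.card Q)
    (x : Γ) (hxr : x ^ r = 1) (hxQ : x ∈ Subgroup.normalizer (Q : Set Γ))
    (hCM : ∀ m : M, φ x m = m → m = 1) :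
    ∀ a ∈ Q, ∀ m : M, φ (a⁻¹ * (x * a * x⁻¹)) m = m := by
  have hpfact : Fact p.Prime := ⟨hp⟩
  have hexpW : ∀ w : Additive M, p • w = 0 := fun w =>
    congrArg Additive.ofMul (hexp (Additive.toMul w))
  let instMod : Module (ZMod p) (Additive M) := AddCommGroup.zmodModule hexpW
  exact abelian_lin (AlgebraicClosure (ZMod p)) hr φ Q hQab hpQ x hxr hxQ hCM

theorem fermat_arith {q r j : ℕ} (hq : q.Prime) (hr : r.Prime) (h : (r - 1) ^ 2 = q ^ j)
    (h1 : (r - 1) ^ 2 ≠ 1) : q = 2 ∧ ∃ n : ℕ, r = 2 ^ n + 1 ∧ j = 2 * n := by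
  have hdvd : r - 1 ∣ q ^ j := by
    rw [← h]
    exact dvd_pow_self _ (by norm_num)
  obtain ⟨n, -, hn⟩ := (Nat.dvd_prime_pow hq).mp hdvd
  rw [hn, ← pow_mul] at h
  have hj : n * 2 = j := Nat.pow_right_injective hq.two_le h
  have hn0 : n ≠ 0 := by
    rintro rfl
    apply h1
    rw [hn]
    norm_num
  have hr1 := hr.one_le
  have hrq : r = q ^ n + 1 := by omega
  have hq2 : q = 2 := by
    by_contra hq2
    have hodd : Odd q := hq.odd_of_ne_two hq2
    have h3 : Even r := by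
      rw [hrq]
      exact (hodd.pow).add_one
    have h4 : r = 2 := (Nat.Prime.even_iff hr).mp h3
    have h5 : q ^ n = 1 := by omega
    have h6 : 2 ^ n ≤ q ^ n := Nat.pow_le_pow_left hq.two_le n
    have h7 : 2 ≤ 2 ^ n := by
      calc 2 = 2 ^ 1 := by norm_num
        _ ≤ 2 ^ n := Nat.pow_le_pow_right (by norm_num) (Nat.one_le_iff_ne_zero.mpr hn0)
    omega
  refine ⟨hq2, n, ?_, ?_⟩
  · rw [hrq, hq2]
  · omega

theorem centralizes_iff {Γ : Type v} [Group Γ] (x : Γ) (A : Subgroup Γ) :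
    (∀ a ∈ A, x * a = a * x) ↔ A ≤ Subgroup.centralizer ((Subgroup.zpowers x : Subgroup Γ) : Set Γ) := by
  constructor
  · intro h a ha
    rw [Subgroup.mem_centralizer_iff]
    intro y hy
    obtain ⟨k, rfl⟩ := Subgroup.mem_zpowers_iff.mp hy
    exact ((show Commute x a from h a ha).zpow_left k).eq
  · intro h a ha
    exact Subgroup.mem_centralizer_iff.mp (h ha) x (Subgroup.mem_zpowers x)

/-- structure of a minimal non-centralized invariant nonabelian `q`-subgroup -/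
theorem crit_structure {Γ : Type v} [Group Γ] [Finite Γ] {q r : ℕ} [hqf : Fact q.Prime]
    (hr : r.Prime) (hqr : q ≠ r)
    (Q₁ : Subgroup Γ) (hQ₁ : IsPGroup q Q₁) (x : Γ) (hxr : x ^ r = 1)
    (hxQ₁ : x ∈ Subgroup.normalizer (Q₁ : Set Γ))
    (hnc : ¬ ∀ a ∈ Q₁, x * a = a * x)
    (hmin : ∀ Q₂ : Subgroup Γ, Q₂ ≤ Q₁ → Q₂ ≠ Q₁ → x ∈ Subgroup.normalizer (Q₂ : Set Γ) →
      ∀ a ∈ Q₂, x * a = a * x)
    (hnab : ¬ ∀ a ∈ Q₁, ∀ b ∈ Q₁, a * b = b * a) :
    (∀ z ∈ Q₁ ⊓ Subgroup.centralizer (Q₁ : Set Γ), x * z = z * x) ∧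
    (∀ a ∈ Q₁, ∀ b ∈ Q₁, ⁅a, b⁆ ∈ Q₁ ⊓ Subgroup.centralizer (Q₁ : Set Γ)) ∧
    (∀ a ∈ Q₁, x * a = a * x → a ∈ Q₁ ⊓ Subgroup.centralizer (Q₁ : Set Γ)) := by
  set X : Subgroup Γ := Subgroup.zpowers x with hX
  have hXn : X ≤ Subgroup.normalizer (Q₁ : Set Γ) := by
    rw [hX, Subgroup.zpowers_le]
    exact hxQ₁
  have hx1 : x ≠ 1 := by
    rintro rfl
    apply hnc
    intro a _
    rw [one_mul, mul_one]
  have hrf : Fact r.Prime := ⟨hr⟩
  have hXcard : Nat.card X = r := by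
    rw [hX, Nat.card_zpowers, orderOf_eq_prime hxr hx1]
  obtain ⟨k, hk⟩ := hQ₁.exists_card_eq
  have hcop : (Nat.card X).Coprime (Nat.card Q₁) := by
    rw [hXcard, hk]
    exact Nat.Coprime.pow_right _ ((Nat.coprime_primes hr hqf.out).mpr hqr.symm)
  have hnil : Group.IsNilpotent Q₁ := hQ₁.isNilpotent
  have hsolvQ : Group.IsSolvable Q₁ := inferInstance
  have hsolv : Group.IsSolvable X ∨ Group.IsSolvable Q₁ := Or.inr hsolvQ
  have hminX : ∀ Q₂ : Subgroup Γ, Q₂ ≤ Q₁ → Q₂ ≠ Q₁ → X ≤ Subgroup.normalizer (Q₂ : Set Γ) →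
      Q₂ ≤ Subgroup.centralizer (X : Set Γ) := by
    intro Q₂ h1 h2 h3
    exact (centralizes_iff x Q₂).mp (hmin Q₂ h1 h2 (h3 (Subgroup.mem_zpowers x)))
  have hncX : ¬ Q₁ ≤ Subgroup.centralizer (X : Set Γ) := fun h =>
    hnc ((centralizes_iff x Q₁).mpr h)
  -- (a) `[Q₁, X] = Q₁`
  have hP₁le : ⁅Q₁, X⁆ ≤ Q₁ := Subgroup.le_normalizer_iff_commutator_le_left.mp hXn
  have ha : ⁅Q₁, X⁆ = Q₁ := by
    by_contra hne
    have h1 := hminX ⁅Q₁, X⁆ hP₁le hne (Subgroup.normalizer_commutator_ge_right Q₁ X)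
    have h2 : ⁅⁅Q₁, X⁆, X⁆ = ⊥ := Subgroup.commutator_eq_bot_iff_le_centralizer.mpr h1
    rw [coprime_commutator_commutator X Q₁ hXn hcop hsolv] at h2
    exact hncX (Subgroup.commutator_eq_bot_iff_le_centralizer.mp h2)
  -- (b) the derived subgroup
  have hQ₁ne : Q₁ ≠ ⊥ := by
    rintro rfl
    apply hncX
    exact bot_le
  have hDne : ⁅Q₁, Q₁⁆ ≠ Q₁ := by
    intro h
    have hnt : Nontrivial Q₁ := (Subgroup.nontrivial_iff_ne_bot Q₁).mpr hQ₁ne
    have h1 := Group.IsSolvable.commutator_lt_top_of_nontrivial ↥Q₁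
    have h2 : (commutator ↥Q₁).map Q₁.subtype = (⊤ : Subgroup ↥Q₁).map Q₁.subtype := by
      rw [Subgroup.map_subtype_commutator, h, ← MonoidHom.range_eq_map, Subgroup.range_subtype]
    have h3 := Subgroup.map_injective Q₁.subtype_injective h2
    exact h1.ne h3
  have hD : ⁅Q₁, Q₁⁆ ≤ Subgroup.centralizer (X : Set Γ) :=
    hminX _ (FM.derived_le_self Q₁) hDne (le_normalizer_commutator hXn hXn)
  -- (c) the centre
  have hZne : Q₁ ⊓ Subgroup.centralizer (Q₁ : Set Γ) ≠ Q₁ := by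
    intro h
    apply hnab
    intro a ha b hb
    have h1 : b ∈ Q₁ ⊓ Subgroup.centralizer (Q₁ : Set Γ) := by rw [h]; exact hb
    exact Subgroup.mem_centralizer_iff.mp (Subgroup.mem_inf.mp h1).2 a ha
  have hXnZ : X ≤ Subgroup.normalizer ((Q₁ ⊓ Subgroup.centralizer (Q₁ : Set Γ) : Subgroup Γ) : Set Γ) := by
    apply le_normalizer_inf hXn
    intro y hy
    have hy' := hXn hy
    rw [Subgroup.mem_normalizer_iff]
    intro g
    have key : ∀ y : Γ, y ∈ Subgroup.normalizer (Q₁ : Set Γ) →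
        ∀ g ∈ Subgroup.centralizer (Q₁ : Set Γ), y * g * y⁻¹ ∈ Subgroup.centralizer (Q₁ : Set Γ) := by
      intro y hy g hg
      rw [Subgroup.mem_centralizer_iff] at hg ⊢
      intro h hh
      have h1 : y⁻¹ * h * y ∈ Q₁ := by
        have := (Subgroup.mem_normalizer_iff.mp (Subgroup.inv_mem _ hy) h).mp hh
        rwa [inv_inv] at this
      have h2 := hg _ h1
      calc h * (y * g * y⁻¹) = y * ((y⁻¹ * h * y) * g) * y⁻¹ := by group
        _ = y * (g * (y⁻¹ * h * y)) * y⁻¹ := by rw [h2]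
        _ = y * g * y⁻¹ * h := by group
    constructor
    · exact key y hy' g
    · intro h
      have := key y⁻¹ (Subgroup.inv_mem _ hy') _ h
      have e : y⁻¹ * (y * g * y⁻¹) * y⁻¹⁻¹ = g := by group
      rwa [e] at this
  have hZ : Q₁ ⊓ Subgroup.centralizer (Q₁ : Set Γ) ≤ Subgroup.centralizer (X : Set Γ) :=
    hminX _ inf_le_left hZne hXnZ
  -- (d) `C_{Q₁}(X)` is central
  have hC : Q₁ ⊓ Subgroup.centralizer (X : Set Γ) ≤ Q₁ ⊓ Subgroup.centralizer (Q₁ : Set Γ) := by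
    set C : Subgroup Γ := Q₁ ⊓ Subgroup.centralizer (X : Set Γ) with hCdef
    have h1 : ⁅⁅X, C⁆, Q₁⁆ = ⊥ := by
      have h2 : ⁅X, C⁆ = ⊥ := by
        rw [Subgroup.commutator_comm, Subgroup.commutator_eq_bot_iff_le_centralizer]
        exact inf_le_right
      rw [h2, Subgroup.commutator_bot_left]
    have h2 : ⁅⁅C, Q₁⁆, X⁆ = ⊥ := by
      rw [Subgroup.commutator_eq_bot_iff_le_centralizer]
      exact (Subgroup.commutator_mono inf_le_left le_rfl).trans hD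
    have h3 := Subgroup.commutator_commutator_eq_bot_of_rotate h1 h2
    rw [ha, Subgroup.commutator_eq_bot_iff_le_centralizer] at h3
    exact le_inf inf_le_left (Subgroup.le_centralizer_iff.mp h3)
  refine ⟨?_, ?_, ?_⟩
  · exact (centralizes_iff x _).mpr hZ
  · intro a ha' b hb
    apply hC
    refine Subgroup.mem_inf.mpr ⟨FM.derived_le_self Q₁ (Subgroup.commutator_mem_commutator ha' hb),
      hD (Subgroup.commutator_mem_commutator ha' hb)⟩
  · intro a ha' hxa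
    apply hC
    refine Subgroup.mem_inf.mpr ⟨ha', ?_⟩
    have : (Subgroup.zpowers a) ≤ Subgroup.centralizer (X : Set Γ) := by
      rw [Subgroup.zpowers_le]
      rw [Subgroup.mem_centralizer_iff]
      intro y hy
      obtain ⟨k, rfl⟩ := Subgroup.mem_zpowers_iff.mp hy
      exact ((show Commute x a from hxa).zpow_left k).eq
    exact this (Subgroup.mem_zpowers a)

end Cfsg.Agent.Lib.Helper1.XS
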