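import Mathlib
import Cfsg.Agent.Lib.Helper1.XS13
import Cfsg.Agent.Lib.Helper1.FM12

/-! The Hall–Higman type theorem for a faithful action (abstract action form). -/
set_option autoImplicit false
open scoped BigOperators commutatorElement

namespace Cfsg.Agent.Lib.Helper1.XS

universe u v

theorem hh_faithful {M : Type u} [CommGroup M] [Finite M] {Γ : Type v} [Group Γ] [Finite Γ]
    {p q r : ℕ} (hp : p.Prime) (hq : q.Prime) (hr : r.Prime) (hpq : p ≠ q) (hpr : p ≠ r)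
    (hqr : q ≠ r)
    (φ : Γ →* Monoid.End M) (hexp : ∀ m : M, m ^ p = 1)
    (Q : Subgroup Γ) (hQ : IsPGroup q Q) (hfaith : ∀ g ∈ Q, (∀ m : M, φ g m = m) → g = 1)
    (x : Γ) (hxr : x ^ r = 1) (hxQ : x ∈ Subgroup.normalizer (Q : Set Γ))
    (hexc : q = 2 → (∃ n : ℕ, r = 2 ^ n + 1) → ∀ a ∈ Q, ∀ b ∈ Q, a * b = b * a)
    (hCM : ∀ m : M, φ x m = m → m = 1) :
    ∀ a ∈ Q, x * a = a * x := by
  classical
  have hqf : Fact q.Prime := ⟨hq⟩
  by_contra hcon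
  let P : ℕ → Prop := fun n => ∃ Q₁ : Subgroup Γ, Q₁ ≤ Q ∧ x ∈ Subgroup.normalizer (Q₁ : Set Γ) ∧
    (¬ ∀ a ∈ Q₁, x * a = a * x) ∧ Nat.card Q₁ = n
  have hP : ∃ n, P n := ⟨_, Q, le_rfl, hxQ, hcon, rfl⟩
  obtain ⟨Q₁, hQ₁Q, hxQ₁, hnc, hn⟩ := Nat.find_spec hP
  have hmin : ∀ Q₂ : Subgroup Γ, Q₂ ≤ Q₁ → Q₂ ≠ Q₁ → x ∈ Subgroup.normalizer (Q₂ : Set Γ) →
      ∀ a ∈ Q₂, x * a = a * x := by
    intro Q₂ h1 h2 h3
    by_contra h4
    have h5 : Nat.card Q₂ < Nat.card Q₁ := FM.card_lt_of_lt'' (lt_of_le_of_ne h1 h2)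
    rw [hn] at h5
    exact Nat.find_min hP h5 ⟨Q₂, h1.trans hQ₁Q, h3, h4, rfl⟩
  have hQ₁p : IsPGroup q Q₁ := hQ.to_le hQ₁Q
  obtain ⟨k, hk⟩ := hQ₁p.exists_card_eq
  have hpQ₁ : ¬ p ∣ Nat.card Q₁ := by
    rw [hk]
    intro h
    exact hpq ((Nat.prime_dvd_prime_iff_eq hp hq).mp (hp.dvd_of_dvd_pow h))
  have hcop : (Nat.card Q₁).Coprime r := by
    rw [hk]
    exact Nat.Coprime.pow_left _ ((Nat.coprime_primes hq hr).mpr hqr)
  by_cases hab : ∀ a ∈ Q₁, ∀ b ∈ Q₁, a * b = b * a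
  · -- abelian case
    apply hnc
    intro a ha
    have h1 := abelian_abs hp hr φ hexp Q₁ hab hpQ₁ x hxr hxQ₁ hCM a ha
    have h2 : a⁻¹ * (x * a * x⁻¹) ∈ Q₁ :=
      Q₁.mul_mem (Q₁.inv_mem ha) ((Subgroup.mem_normalizer_iff.mp hxQ₁ a).mp ha)
    have h3 := hfaith _ (hQ₁Q h2) h1
    have h4 : x * a * x⁻¹ = a := by
      have := congrArg (fun t => a * t) h3
      simpa using this
    exact mul_inv_eq_iff_eq_mul.mp h4
  · -- nonabelian case
    obtain ⟨hZx, hcomm, hcent⟩ := crit_structure hr hqr Q₁ hQ₁p x hxr hxQ₁ hnc hmin hab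
    set Z₁ : Subgroup Γ := Q₁ ⊓ Subgroup.centralizer (Q₁ : Set Γ) with hZ₁
    have hZc : ∀ z ∈ Z₁, ∀ a ∈ Q₁, z * a = a * z := by
      intro z hz a ha
      exact (Subgroup.mem_centralizer_iff.mp (Subgroup.mem_inf.mp hz).2 a ha).symm
    have hfpf : ∀ a ∈ Q₁, a⁻¹ * (x * a * x⁻¹) ∈ Z₁ → a ∈ Z₁ := by
      intro a ha hw
      have h1 : x * a * x⁻¹ = a * (a⁻¹ * (x * a * x⁻¹)) := by group
      have h2 : (a⁻¹ * (x * a * x⁻¹)) ^ Nat.card Q₁ = 1 := by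
        have h3 : (⟨_, (Subgroup.mem_inf.mp hw).1⟩ : Q₁) ^ Nat.card Q₁ = 1 := pow_card_eq_one'
        have h4 := congrArg Subtype.val h3
        rwa [Subgroup.coe_pow] at h4
      have h5 := fpf_lemma hxr h1 (hZx _ hw) h2 hcop
      rw [h5, mul_one] at h1
      exact hcent a ha (mul_inv_eq_iff_eq_mul.mp h1)
    push Not at hab
    obtain ⟨a₀, ha₀, b₀, hb₀, hab₀⟩ := hab
    let d : Γ := ⁅a₀, b₀⁆
    have hdQ₁ : d ∈ Q₁ := FM.derived_le_self Q₁ (Subgroup.commutator_mem_commutator ha₀ hb₀)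
    have hd1 : d ≠ 1 := fun h => hab₀ (commutatorElement_eq_one_iff_mul_comm.mp h)
    have hdM : ∃ m : M, φ d m ≠ m := by
      by_contra h
      push Not at h
      exact hd1 (hfaith d (hQ₁Q hdQ₁) h)
    have hnd : ∀ N : Subgroup Γ, N ≤ Q₁ → (∀ a ∈ Q₁, ∀ n ∈ N, a * n * a⁻¹ ∈ N) →
        (∀ n ∈ N, x * n * x⁻¹ ∈ N) → d ∉ N → ∀ g ∈ Q₁, (∀ a ∈ Q₁, ⁅a, g⁆ ∈ N) → g ∈ Z₁ := by
      intro N hNQ hNn hNx hdN g hg hcg
      let Q₂ : Subgroup Γ :=
        { carrier := {g | g ∈ Q₁ ∧ ∀ a ∈ Q₁, ⁅a, g⁆ ∈ N}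
          one_mem' := ⟨Q₁.one_mem, fun a _ => by
            rw [commutatorElement_one_right]
            exact N.one_mem⟩
          mul_mem' := by
            rintro g h ⟨hg, hg'⟩ ⟨hh, hh'⟩
            refine ⟨Q₁.mul_mem hg hh, fun a ha => ?_⟩
            have e : ⁅a, g * h⁆ = ⁅a, g⁆ * (g * ⁅a, h⁆ * g⁻¹) := by
              simp only [commutatorElement_def]
              group
            rw [e]
            exact N.mul_mem (hg' a ha) (hNn g hg _ (hh' a ha))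
          inv_mem' := by
            rintro g ⟨hg, hg'⟩
            refine ⟨Q₁.inv_mem hg, fun a ha => ?_⟩
            have e : ⁅a, g⁻¹⁆ = g⁻¹ * (⁅a, g⁆)⁻¹ * g⁻¹⁻¹ := by
              simp only [commutatorElement_def]
              group
            rw [e]
            exact hNn g⁻¹ (Q₁.inv_mem hg) _ (N.inv_mem (hg' a ha)) }
      have hQ₂mem : ∀ g : Γ, g ∈ Q₂ ↔ g ∈ Q₁ ∧ ∀ a ∈ Q₁, ⁅a, g⁆ ∈ N := fun g => Iff.rfl
      have hQ₂le : Q₂ ≤ Q₁ := fun g hg => hg.1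
      have hQ₂ne : Q₂ ≠ Q₁ := by
        intro h
        have h1 : b₀ ∈ Q₂ := by rw [h]; exact hb₀
        exact hdN (h1.2 a₀ ha₀)
      have hxinv : x⁻¹ ∈ Subgroup.normalizer (Q₁ : Set Γ) := Subgroup.inv_mem _ hxQ₁
      have hNxinv : ∀ n ∈ N, x⁻¹ * n * x ∈ N := by
        -- `x⁻¹ = x ^ (r - 1)`
        have h3 : ∀ j : ℕ, ∀ m ∈ N, x ^ j * m * (x ^ j)⁻¹ ∈ N := by
          intro j
          induction j with
          | zero => intro m hm; simpa using hm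
          | succ j ih =>
            intro m hm
            have := hNx _ (ih m hm)
            have e : x * (x ^ j * m * (x ^ j)⁻¹) * x⁻¹ = x ^ (j + 1) * m * (x ^ (j + 1))⁻¹ := by
              rw [pow_succ']
              group
            rwa [e] at this
        intro n hn'
        have h4 := h3 (r - 1) n hn'
        have h5 : x ^ (r - 1) = x⁻¹ := by
          rw [eq_inv_iff_mul_eq_one, ← pow_succ, Nat.sub_add_cancel hr.one_le, hxr]
        rw [h5, inv_inv] at h4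
        exact h4
      have hxQ₂ : x ∈ Subgroup.normalizer (Q₂ : Set Γ) := by
        have key : ∀ y : Γ, y ∈ Subgroup.normalizer (Q₁ : Set Γ) →
            (∀ n ∈ N, y * n * y⁻¹ ∈ N) → ∀ g ∈ Q₂, y * g * y⁻¹ ∈ Q₂ := by
          intro y hy hyN g hg
          rw [hQ₂mem] at hg ⊢
          refine ⟨(Subgroup.mem_normalizer_iff.mp hy g).mp hg.1, fun a ha => ?_⟩
          have h1 : y⁻¹ * a * y ∈ Q₁ := by
            have := (Subgroup.mem_normalizer_iff.mp (Subgroup.inv_mem _ hy) a).mp ha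
            rwa [inv_inv] at this
          have e : ⁅a, y * g * y⁻¹⁆ = y * ⁅y⁻¹ * a * y, g⁆ * y⁻¹ := by
            simp only [commutatorElement_def]
            group
          rw [e]
          exact hyN _ (hg.2 _ h1)
        rw [Subgroup.mem_normalizer_iff]
        intro g
        constructor
        · exact key x hxQ₁ hNx g
        · intro h
          have := key x⁻¹ hxinv (by
            intro n hn'
            have := hNxinv n hn'
            rwa [inv_inv]) _ h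
          have e : x⁻¹ * (x * g * x⁻¹) * x⁻¹⁻¹ = g := by group
          rwa [e] at this
      have h1 := hmin Q₂ hQ₂le hQ₂ne hxQ₂ g ⟨hg, hcg⟩
      exact hcent g hg h1
    have key := amb_abs hp hr hpr φ hexp Q₁ Z₁ x hxr hxQ₁ hpQ₁ inf_le_left hZc hZx hcomm hfpf d
      hdQ₁ hdM hnd hCM
    have hne1 : Z₁.relIndex Q₁ ≠ 1 := by
      intro h1
      rw [Subgroup.relIndex_eq_one] at h1
      apply hab₀
      exact (Subgroup.mem_centralizer_iff.mp (Subgroup.mem_inf.mp (h1 hb₀)).2 a₀ ha₀)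
    rcases key with h1 | h1
    · exact hne1 h1
    · have h2 : Z₁.relIndex Q₁ ∣ q ^ k := hk ▸ Subgroup.relIndex_dvd_card Z₁ Q₁
      obtain ⟨j, -, hj⟩ := (Nat.dvd_prime_pow hq).mp h2
      rw [h1] at hj hne1
      obtain ⟨hq2, n, hrn, -⟩ := fermat_arith hq hr hj hne1
      have h3 := hexc hq2 ⟨n, hrn⟩
      exact hab₀ (h3 a₀ (hQ₁Q ha₀) b₀ (hQ₁Q hb₀))

end Cfsg.Agent.Lib.Helper1.XS
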