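import Mathlib
import Cfsg.Agent.Lib.Helper1.XS14

/-! The Hall–Higman type theorem without faithfulness, and the `φ`-centralizer. -/
set_option autoImplicit false
open scoped BigOperators commutatorElement

namespace Cfsg.Agent.Lib.Helper1.XS

universe u v

theorem hh_general {M : Type u} [CommGroup M] [Finite M] {Γ : Type v} [Group Γ] [Finite Γ]
    {p q r : ℕ} (hp : p.Prime) (hq : q.Prime) (hr : r.Prime) (hpq : p ≠ q) (hpr : p ≠ r)
    (hqr : q ≠ r)
    (φ : Γ →* Monoid.End M) (hexp : ∀ m : M, m ^ p = 1)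
    (Q : Subgroup Γ) (hQ : IsPGroup q Q)
    (x : Γ) (hxr : x ^ r = 1) (hxQ : x ∈ Subgroup.normalizer (Q : Set Γ))
    (hexc : q = 2 → (∃ n : ℕ, r = 2 ^ n + 1) → ∀ a ∈ Q, ∀ b ∈ Q, φ (a * b) = φ (b * a))
    (hCM : ∀ m : M, φ x m = m → m = 1) :
    ∀ a ∈ Q, φ (x * a) = φ (a * x) := by
  classical
  let π : Γ →* Γ ⧸ φ.ker := QuotientGroup.mk' φ.ker
  let φbar : Γ ⧸ φ.ker →* Monoid.End M := QuotientGroup.lift φ.ker φ le_rfl
  have hφbar : ∀ g : Γ, φbar (π g) = φ g := fun g => rfl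
  have hinj : Function.Injective φbar := by
    intro a b
    induction a using QuotientGroup.induction_on with
    | H a =>
      induction b using QuotientGroup.induction_on with
      | H b =>
        intro h
        have h' : φ a = φ b := h
        apply QuotientGroup.eq.mpr
        rw [MonoidHom.mem_ker, map_mul, ← h', ← map_mul, inv_mul_cancel, map_one]
  have hfin : Finite (Γ ⧸ φ.ker) := inferInstance
  have hQ' : IsPGroup q (Q.map π) := hQ.map π
  have hfaith' : ∀ g ∈ Q.map π, (∀ m : M, φbar g m = m) → g = 1 := by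
    intro g _ hm
    apply hinj
    rw [map_one]
    ext m
    exact hm m
  have hxr' : (π x) ^ r = 1 := by rw [← map_pow, hxr, map_one]
  have hxQ' : π x ∈ Subgroup.normalizer ((Q.map π : Subgroup (Γ ⧸ φ.ker)) : Set (Γ ⧸ φ.ker)) :=
    Subgroup.le_normalizer_map π ⟨x, hxQ, rfl⟩
  have hexc' : q = 2 → (∃ n : ℕ, r = 2 ^ n + 1) → ∀ a ∈ Q.map π, ∀ b ∈ Q.map π, a * b = b * a := by
    rintro h2 hn _ ⟨a, ha, rfl⟩ _ ⟨b, hb, rfl⟩
    apply hinj
    rw [← map_mul, ← map_mul, hφbar, hφbar]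
    exact hexc h2 hn a ha b hb
  have hCM' : ∀ m : M, φbar (π x) m = m → m = 1 := fun m hm => hCM m hm
  have key := hh_faithful hp hq hr hpq hpr hqr φbar hexp (Q.map π) hQ' hfaith' (π x) hxr' hxQ'
    hexc' hCM'
  intro a ha
  have h1 := key (π a) ⟨a, ha, rfl⟩
  rw [← map_mul, ← map_mul] at h1
  have h2 := congrArg φbar h1
  rwa [hφbar, hφbar] at h2

/-- the subgroup of elements commuting with `g` modulo the kernel of `φ` -/
def phiCen {M : Type u} [CommGroup M] {Γ : Type v} [Group Γ] (φ : Γ →* Monoid.End M) (g : Γ) :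
    Subgroup Γ where
  carrier := {h | φ (g * h) = φ (h * g)}
  one_mem' := by
    show φ (g * 1) = φ (1 * g)
    rw [mul_one, one_mul]
  mul_mem' := by
    intro a b ha hb
    have ha' : φ (g * a) = φ (a * g) := ha
    have hb' : φ (g * b) = φ (b * g) := hb
    show φ (g * (a * b)) = φ (a * b * g)
    rw [← mul_assoc, map_mul, ha', map_mul, mul_assoc, ← map_mul φ g b, hb', map_mul, map_mul,
      map_mul, mul_assoc]
  inv_mem' := by
    intro a ha
    have ha' : φ (g * a) = φ (a * g) := ha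
    show φ (g * a⁻¹) = φ (a⁻¹ * g)
    have h1 : g * a⁻¹ = a⁻¹ * (a * g) * a⁻¹ := by group
    have h2 : a⁻¹ * g = a⁻¹ * (g * a) * a⁻¹ := by group
    rw [h1, h2, map_mul, map_mul, map_mul φ _ a⁻¹, map_mul φ a⁻¹ (g * a), ha']

theorem mem_phiCen {M : Type u} [CommGroup M] {Γ : Type v} [Group Γ] (φ : Γ →* Monoid.End M)
    (g h : Γ) : h ∈ phiCen φ g ↔ φ (g * h) = φ (h * g) := Iff.rfl

theorem phi_commutator_eq_one {M : Type u} [CommGroup M] {Γ : Type v} [Group Γ]
    (φ : Γ →* Monoid.End M) {g h : Γ} (hgh : φ (g * h) = φ (h * g)) : φ ⁅g, h⁆ = 1 := by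
  have e : ⁅g, h⁆ = (g * h) * (h * g)⁻¹ := by
    rw [commutatorElement_def]
    group
  rw [e, map_mul, hgh, ← map_mul, mul_inv_cancel, map_one]

end Cfsg.Agent.Lib.Helper1.XS
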