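import Mathlib
import Cfsg.Prelude.Def_Transfer
import Cfsg.Agent.Lib.Helper1.XS16
import Cfsg.Agent.Lib.Helper1.XS11
import Cfsg.Agent.Lib.Helper1.CoprimeSylow
import Cfsg.Agent.Lib.Helper1.Fitting
import Cfsg.Agent.Lib.Helper1.GlaubermanRepl3

/-! S3769. -/
set_option autoImplicit false
open scoped BigOperators commutatorElement

namespace Cfsg.Agent.Lib.Helper1.XS

universe u

theorem s3769 {X : Type u} [Group X] [Finite X] (G : Subgroup X) (hsolv : Group.IsSolvable G)
    (hodd : Odd (Nat.card G)) (V : Subgroup X) {ℓ : ℕ} (hℓ : ℓ.Prime)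
    (hV : Cfsg.IsElementaryAbelian ℓ V) (hℓG : ¬ ℓ ∣ Nat.card G)
    (hGV : G ≤ Subgroup.normalizer (V : Set X)) (K R : Subgroup X) (hKG : K ≤ G)
    (hKn : G ≤ Subgroup.normalizer (K : Set X))
    (hHall : (Nat.card K).Coprime (K.relIndex G)) (hRG : R ≤ G) (hR : (Nat.card R).Prime)
    (hKR : K ⊓ R = ⊥) (hKRG : K ⊔ R = G)
    (hCV : V ⊓ Subgroup.centralizer (R : Set X) = ⊥) :
    ⁅R, K⁆ ≤ Subgroup.centralizer (V : Set X) := by
  classical
  obtain ⟨hVcomm, hVp⟩ := hV
  obtain ⟨ρ, hρR, hρ1, hρr, hRρ⟩ := exists_generator_of_prime_card R hR rfl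
  have hRK : R ≤ Subgroup.normalizer (K : Set X) := hRG.trans hKn
  have hcard : Nat.card G = Nat.card R * Nat.card K := by
    have h1 := GlaubermanRepl.card_sup_mul_card_inf_of_le_normalizer R K hRK
    rw [sup_comm, hKRG, inf_comm, hKR, Subgroup.card_bot, mul_one] at h1
    exact h1
  have hrel : K.relIndex G = Nat.card R := by
    have h1 := Subgroup.card_mul_index (K.subgroupOf G)
    rw [card_subgroupOf_of_le hKG, hcard, mul_comm] at h1
    exact Nat.eq_of_mul_eq_mul_right Nat.card_pos h1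
  have hcop : (Nat.card K).Coprime (Nat.card R) := hrel ▸ hHall
  have hKdvd : Nat.card K ∣ Nat.card G := ⟨Nat.card R, by rw [hcard, mul_comm]⟩
  have hRdvd : Nat.card R ∣ Nat.card G := ⟨Nat.card K, hcard⟩
  have hℓr : ℓ ≠ Nat.card R := by
    intro h
    exact hℓG (h ▸ hRdvd)
  have hcent : ∀ g : X, ρ * g = g * ρ → g ∈ Subgroup.centralizer (R : Set X) := by
    intro g hg
    rw [Subgroup.mem_centralizer_iff]
    intro y hy
    obtain ⟨k, rfl⟩ := hRρ y hy
    exact ((show Commute ρ g from hg).zpow_left k).eq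
  have hsolvK : Group.IsSolvable K := isSolvable_of_le hKG
  let Γ : Subgroup X := Subgroup.normalizer (V : Set X)
  let instC : CommGroup V :=
    { (inferInstance : Group V) with
      mul_comm := fun a b => hVcomm.is_comm.comm a b }
  let φ : ↥Γ →* Monoid.End V := conjEnd V Γ le_rfl
  have hφ : ∀ (g : ↥Γ) (v : V), ((φ g v : V) : X) = (g : X) * v * (g : X)⁻¹ := fun g v => rfl
  have hexp : ∀ m : V, m ^ ℓ = 1 := by
    intro m
    apply Subtype.ext
    rw [Subgroup.coe_pow]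
    exact hVp m m.2
  let ρ' : ↥Γ := ⟨ρ, hGV (hRG hρR)⟩
  have hρr' : ρ' ^ Nat.card R = 1 := by
    apply Subtype.ext
    rw [Subgroup.coe_pow]
    exact hρr
  have hCM : ∀ m : V, φ ρ' m = m → m = 1 := by
    intro m hm
    have h1 := congrArg Subtype.val hm
    rw [hφ] at h1
    have h2 : ρ * (m : X) * ρ⁻¹ = m := h1
    rw [mul_inv_eq_iff_eq_mul] at h2
    have h3 : (m : X) ∈ V ⊓ Subgroup.centralizer (R : Set X) :=
      Subgroup.mem_inf.mpr ⟨m.2, hcent _ h2⟩
    rw [hCV, Subgroup.mem_bot] at h3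
    exact Subtype.ext h3
  have hKΓ : K ≤ Γ := hKG.trans hGV
  let H : Subgroup K := (phiCen φ ρ').comap (Subgroup.inclusion hKΓ)
  have hH : H = ⊤ := by
    apply eq_top_of_forall_sylow_le H
    intro q hqf
    obtain ⟨P, hP⟩ := coprime_exists_invariant_sylow R K hRK hcop.symm (Or.inr hsolvK) q
    refine ⟨P, ?_⟩
    intro y hy
    rw [Subgroup.mem_comap, mem_phiCen]
    by_cases hqK : q ∣ Nat.card K
    · have hqG : q ∣ Nat.card G := hqK.trans hKdvd
      have hℓq : ℓ ≠ q := by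
        rintro rfl
        exact hℓG hqG
      have hqr : q ≠ Nat.card R := by
        intro h
        have h1 : q ∣ (Nat.card K).gcd (Nat.card R) := Nat.dvd_gcd hqK (h ▸ dvd_rfl)
        rw [hcop, Nat.dvd_one] at h1
        exact hqf.out.one_lt.ne' h1
      have hq2 : q ≠ 2 := by
        rintro rfl
        exact (Nat.not_even_iff_odd.mpr hodd) (even_iff_two_dvd.mpr hqG)
      let Q₀ : Subgroup X := (P : Subgroup K).map K.subtype
      let Q' : Subgroup ↥Γ := Q₀.subgroupOf Γ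
      have hQ' : IsPGroup q Q' :=
        (P.isPGroup'.map K.subtype).comap_of_injective Γ.subtype Γ.subtype_injective
      have hρQ' : ρ' ∈ Subgroup.normalizer (Q' : Set ↥Γ) := by
        rw [Subgroup.mem_normalizer_iff]
        intro g
        rw [Subgroup.mem_subgroupOf, Subgroup.mem_subgroupOf]
        exact Subgroup.mem_normalizer_iff.mp (hP hρR) g
      have key := hh_general hℓ hqf.out hR hℓq hℓr hqr φ hexp Q' hQ' ρ' hρr' hρQ'
        (fun h2 => absurd h2 hq2) hCM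
      have hyQ' : Subgroup.inclusion hKΓ y ∈ Q' := by
        rw [Subgroup.mem_subgroupOf]
        exact ⟨y, hy, rfl⟩
      exact key _ hyQ'
    · have h1 : Nat.card P = 1 := by
        rw [P.card_eq_multiplicity, Nat.factorization_eq_zero_of_not_dvd hqK, pow_zero]
      have h2 : (P : Subgroup K) = ⊥ := Subgroup.card_eq_one.mp h1
      have h3 : y = 1 := by
        have : y ∈ (P : Subgroup K) := hy
        rw [h2, Subgroup.mem_bot] at this
        exact this
      rw [h3, map_one, mul_one, one_mul]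
  have hmain : ∀ k (hk : k ∈ K), φ (ρ' * ⟨k, hKΓ hk⟩) = φ (⟨k, hKΓ hk⟩ * ρ') := by
    intro k hk
    have h1 : (⟨k, hk⟩ : K) ∈ H := by rw [hH]; exact Subgroup.mem_top _
    exact h1
  rw [Subgroup.commutator_le]
  intro y hy k hk
  obtain ⟨j, rfl⟩ := hRρ y hy
  let k' : ↥Γ := ⟨k, hKΓ hk⟩
  have h1 : Subgroup.zpowers ρ' ≤ phiCen φ k' := by
    rw [Subgroup.zpowers_le, mem_phiCen]
    exact (hmain k hk).symm
  have h2 : ρ' ^ j ∈ phiCen φ k' := h1 (Subgroup.zpow_mem_zpowers ρ' j)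
  rw [mem_phiCen] at h2
  have h3 := phi_commutator_eq_one φ h2.symm
  rw [Subgroup.mem_centralizer_iff]
  intro v hv
  have h4 := congrArg (fun f : Monoid.End V => ((f ⟨v, hv⟩ : V) : X)) h3
  simp only [hφ] at h4
  have h5 : ((⁅ρ' ^ j, k'⁆ : ↥Γ) : X) = ⁅ρ ^ j, k⁆ := by
    simp [commutatorElement_def, ρ', k']
  rw [h5] at h4
  have h6 : ⁅ρ ^ j, k⁆ * v * ⁅ρ ^ j, k⁆⁻¹ = v := h4
  exact (mul_inv_eq_iff_eq_mul.mp h6).symm

end Cfsg.Agent.Lib.Helper1.XS
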