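import Mathlib
import Cfsg.Prelude.Def_Transfer
import Cfsg.Agent.Lib.Helper1.XS16
import Cfsg.Agent.Lib.Helper1.XS17
import Cfsg.Agent.Lib.Helper1.FrattiniAction
import Cfsg.Agent.Lib.Helper1.QuadStable8
import Cfsg.Agent.Lib.Helper1.Coprime

/-! Hall–Higman type lemma for elementary abelian subgroups and for Frattini quotients. -/
set_option autoImplicit false
open scoped BigOperators commutatorElement

namespace Cfsg.Agent.Lib.Helper1.XS

universe u

theorem hh_sub {X : Type u} [Group X] [Finite X] (V : Subgroup X) {ℓ q r : ℕ} (hℓ : ℓ.Prime)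
    (hq : q.Prime) (hr : r.Prime) (hℓq : ℓ ≠ q) (hℓr : ℓ ≠ r) (hqr : q ≠ r) (hq2 : q ≠ 2)
    (hV : Cfsg.IsElementaryAbelian ℓ V)
    (Q : Subgroup X) (hQ : IsPGroup q Q) (hQV : Q ≤ Subgroup.normalizer (V : Set X))
    (x : X) (hxr : x ^ r = 1) (hxV : x ∈ Subgroup.normalizer (V : Set X))
    (hxQ : x ∈ Subgroup.normalizer (Q : Set X))
    (hCV : ∀ v ∈ V, x * v = v * x → v = 1) :
    ∀ a ∈ Q, ⁅x, a⁆ ∈ Subgroup.centralizer (V : Set X) := by
  classical
  obtain ⟨hVcomm, hVp⟩ := hV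
  let Γ : Subgroup X := Subgroup.normalizer (V : Set X)
  let instC : CommGroup V :=
    { (inferInstance : Group V) with
      mul_comm := fun a b => hVcomm.is_comm.comm a b }
  let φ : ↥Γ →* Monoid.End V := conjEnd V Γ le_rfl
  have hφ : ∀ (g : ↥Γ) (v : V), ((φ g v : V) : X) = (g : X) * v * (g : X)⁻¹ := fun g v => rfl
  have hexp : ∀ m : V, m ^ ℓ = 1 := by
    intro m
    apply Subtype.ext
    rw [Subgroup.coe_pow]
    exact hVp m m.2
  let x' : ↥Γ := ⟨x, hxV⟩
  have hxr' : x' ^ r = 1 := by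
    apply Subtype.ext
    rw [Subgroup.coe_pow]
    exact hxr
  have hCM : ∀ m : V, φ x' m = m → m = 1 := by
    intro m hm
    have h1 := congrArg Subtype.val hm
    rw [hφ] at h1
    have h2 : x * (m : X) * x⁻¹ = m := h1
    rw [mul_inv_eq_iff_eq_mul] at h2
    exact Subtype.ext (hCV m m.2 h2)
  let Q' : Subgroup ↥Γ := Q.subgroupOf Γ
  have hQ' : IsPGroup q Q' := hQ.comap_of_injective Γ.subtype Γ.subtype_injective
  have hxQ' : x' ∈ Subgroup.normalizer (Q' : Set ↥Γ) := by
    rw [Subgroup.mem_normalizer_iff]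
    intro g
    rw [Subgroup.mem_subgroupOf, Subgroup.mem_subgroupOf]
    exact Subgroup.mem_normalizer_iff.mp hxQ g
  have key := hh_general hℓ hq hr hℓq hℓr hqr φ hexp Q' hQ' x' hxr' hxQ'
    (fun h2 => absurd h2 hq2) hCM
  intro a ha
  let a' : ↥Γ := ⟨a, hQV ha⟩
  have ha' : a' ∈ Q' := by
    rw [Subgroup.mem_subgroupOf]
    exact ha
  have h3 := phi_commutator_eq_one φ (key a' ha')
  rw [Subgroup.mem_centralizer_iff]
  intro v hv
  have h4 := congrArg (fun f : Monoid.End V => ((f ⟨v, hv⟩ : V) : X)) h3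
  simp only [hφ] at h4
  have h5 : ((⁅x', a'⁆ : ↥Γ) : X) = ⁅x, a⁆ := by
    simp [commutatorElement_def, x', a']
  rw [h5] at h4
  have h6 : ⁅x, a⁆ * v * ⁅x, a⁆⁻¹ = v := h4
  exact (mul_inv_eq_iff_eq_mul.mp h6).symm

/-- Frattini quotient version: `P` a normal `s`-subgroup, `Q` a `q`-subgroup normalised by `x` of
prime order `r` acting fixed point freely on `P`: then `[x, Q]` centralises `P`. -/
theorem hh_frattini {G : Type u} [Group G] [Finite G] (P : Subgroup G) [hPn : P.Normal]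
    {s q r : ℕ} (hs : s.Prime) (hq : q.Prime) (hr : r.Prime) (hsq : s ≠ q) (hsr : s ≠ r)
    (hqr : q ≠ r) (hq2 : q ≠ 2) (hP : IsPGroup s P)
    (Q : Subgroup G) (hQ : IsPGroup q Q)
    (x : G) (hxr : x ^ r = 1) (hxQ : x ∈ Subgroup.normalizer (Q : Set G))
    (hCP : ∀ v ∈ P, x * v = v * x → v = 1) :
    ∀ a ∈ Q, ⁅x, a⁆ ∈ Subgroup.centralizer (P : Set G) := by
  classical
  have hsf : Fact s.Prime := ⟨hs⟩
  have hqf : Fact q.Prime := ⟨hq⟩
  set N : Subgroup G := (frattini ↥P).map P.subtype with hN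
  have hNP : N ≤ P := Subgroup.map_subtype_le _
  have hNn : N.Normal := by
    rw [← Subgroup.normalizer_eq_top_iff]
    have h1 := normalizer_le_normalizer_map_characteristic P (frattini ↥P)
    rw [Subgroup.normalizer_eq_top_iff.mpr hPn] at h1
    exact top_le_iff.mp h1
  let π : G →* G ⧸ N := QuotientGroup.mk' N
  have hπ : ∀ g : G, π g = 1 ↔ g ∈ N := fun g => QuotientGroup.eq_one_iff g
  let V : Subgroup (G ⧸ N) := P.map π
  have hV : Cfsg.IsElementaryAbelian s V := QuadSL2.isElementaryAbelian_map_mk_of_frattini P hP N le_rfl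
  have hVn : V.Normal := Subgroup.Normal.map hPn π (QuotientGroup.mk'_surjective N)
  have hVtop : Subgroup.normalizer (V : Set (G ⧸ N)) = ⊤ := Subgroup.normalizer_eq_top_iff.mpr hVn
  -- the group A = ⟨x⟩
  let A : Subgroup G := Subgroup.zpowers x
  have hA_card : Nat.card A ∣ r := by
    rw [Nat.card_zpowers]
    exact orderOf_dvd_of_pow_eq_one hxr
  have hPcard : ∃ n, Nat.card P = s ^ n := IsPGroup.iff_card.mp hP
  have hcopAP : (Nat.card A).Coprime (Nat.card P) := by
    obtain ⟨n, hn⟩ := hPcard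
    rw [hn]
    apply Nat.Coprime.pow_right
    apply Nat.Coprime.coprime_dvd_left hA_card
    exact (Nat.coprime_primes hr hs).mpr (Ne.symm hsr)
  have hAP : A ≤ Subgroup.normalizer (P : Set G) := by
    rw [Subgroup.normalizer_eq_top_iff.mpr hPn]; exact le_top
  have hAN : A ≤ Subgroup.normalizer (N : Set G) := by
    rw [Subgroup.normalizer_eq_top_iff.mpr hNn]; exact le_top
  have hPN : P ≤ Subgroup.normalizer (N : Set G) := by
    rw [Subgroup.normalizer_eq_top_iff.mpr hNn]; exact le_top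
  have hPsolv : Group.IsSolvable P := by
    have : Group.IsNilpotent P := hP.isNilpotent
    infer_instance
  have hcentA : ∀ g : G, g ∈ Subgroup.centralizer (A : Set G) → x * g = g * x := by
    intro g hg
    exact (Subgroup.mem_centralizer_iff.mp hg x (Subgroup.mem_zpowers x))
  -- fixed points of x̄ on V are trivial
  have hCV : ∀ v ∈ V, π x * v = v * π x → v = 1 := by
    rintro _ ⟨p, hp, rfl⟩ hcomm
    have h1 : ∀ a ∈ A, a * p * a⁻¹ * p⁻¹ ∈ N := by
      intro a ha
      obtain ⟨k, rfl⟩ := Subgroup.mem_zpowers_iff.mp ha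
      rw [← hπ]
      have h2 : Commute (π x) (π p) := hcomm
      have h3 : Commute (π (x ^ k)) (π p) := by
        rw [map_zpow]
        exact h2.zpow_left k
      rw [map_mul, map_mul, map_mul, h3.eq, mul_assoc (π p), ← map_mul, mul_inv_cancel, map_one,
        mul_one, ← map_mul, mul_inv_cancel, map_one]
    obtain ⟨c, hc, hpc⟩ := coprime_fixed_points_quotient A P hAP hcopAP (Or.inr hPsolv) N hNP hPN hAN
      p hp h1
    obtain ⟨hcP, hcC⟩ := Subgroup.mem_inf.mp hc
    have hc1 : c = 1 := hCP c hcP (hcentA c hcC)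
    rw [hc1, mul_one] at hpc
    have h4 : p ∈ N := by
      have := N.inv_mem hpc
      rwa [inv_inv] at this
    exact (hπ p).mpr h4
  have hxr' : (π x) ^ r = 1 := by rw [← map_pow, hxr, map_one]
  have hQ' : IsPGroup q (Q.map π) := hQ.map π
  have hxQ' : π x ∈ Subgroup.normalizer ((Q.map π : Subgroup (G ⧸ N)) : Set (G ⧸ N)) :=
    Subgroup.le_normalizer_map π ⟨x, hxQ, rfl⟩
  have key := hh_sub V hs hq hr hsq hsr hqr hq2 hV (Q.map π) hQ' (by rw [hVtop]; exact le_top)
    (π x) hxr' (by rw [hVtop]; exact Subgroup.mem_top _) hxQ' hCV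
  -- the subgroup of elements acting trivially on P / N
  let T : Subgroup G := (Subgroup.centralizer (V : Set (G ⧸ N))).comap π
  let D : Subgroup G := T ⊓ Q
  have hDq : IsPGroup q D := hQ.to_le inf_le_right
  have hDmem : ∀ a ∈ Q, ⁅x, a⁆ ∈ D := by
    intro a ha
    refine Subgroup.mem_inf.mpr ⟨?_, ?_⟩
    · rw [Subgroup.mem_comap, map_commutatorElement]
      exact key (π a) ⟨a, ha, rfl⟩
    · rw [commutatorElement_def]
      exact Q.mul_mem ((Subgroup.mem_normalizer_iff.mp hxQ a).mp ha) (Q.inv_mem ha)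
  have hDP : D ≤ Subgroup.normalizer (P : Set G) := by
    rw [Subgroup.normalizer_eq_top_iff.mpr hPn]; exact le_top
  have hcopD : (Nat.card D).Coprime (Nat.card (frattini ↥P)) := by
    obtain ⟨m, hm⟩ := IsPGroup.iff_card.mp hDq
    have hΦ : IsPGroup s (frattini ↥P) := hP.to_subgroup _
    obtain ⟨n, hn⟩ := IsPGroup.iff_card.mp hΦ
    rw [hm, hn]
    apply Nat.Coprime.pow
    exact (Nat.coprime_primes hq hs).mpr (Ne.symm hsq)
  have htriv : ∀ a ∈ D, ∀ k ∈ P, a * k * a⁻¹ * k⁻¹ ∈ (frattini ↥P).map P.subtype := by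
    intro a ha k hk
    have haT : π a ∈ Subgroup.centralizer (V : Set (G ⧸ N)) := (Subgroup.mem_inf.mp ha).1
    have h1 : π k * π a = π a * π k :=
      Subgroup.mem_centralizer_iff.mp haT (π k) ⟨k, hk, rfl⟩
    rw [← hN, ← hπ, map_mul, map_mul, map_mul, ← h1, mul_assoc (π k), ← map_mul, mul_inv_cancel,
      map_one, mul_one, ← map_mul, mul_inv_cancel, map_one]
  have hcen := centralizes_of_trivial_on_frattini_quotient D P hDP hcopD htriv
  intro a ha
  exact hcen (hDmem a ha)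

end Cfsg.Agent.Lib.Helper1.XS
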