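import Mathlib
import Cfsg.Prelude.Def_OddOrderLocal
import Cfsg.Agent.Lib.Helper1.Coprime
import Cfsg.Agent.Lib.Helper1.Fitting
import Cfsg.Agent.Lib.Helper1.FittingCentralizer
import Cfsg.Agent.Lib.Helper1.SubnormalFitting
import Cfsg.Agent.Lib.Helper1.FrattiniAction

/-! A coprime automorphism centralising the Fitting subgroup of a solvable group is trivial. -/
set_option autoImplicit false
open scoped BigOperators commutatorElement

namespace Cfsg.Agent.Lib.Helper1.XS

universe u

theorem fittingOf_le {H : Type u} [Group H] (L : Subgroup H) : Cfsg.fittingOf L ≤ L :=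
  Subgroup.map_subtype_le _

theorem fittingOf_normal {H : Type u} [Group H] (L : Subgroup H) [hLn : L.Normal] :
    (Cfsg.fittingOf L).Normal := by
  rw [← Subgroup.normalizer_eq_top_iff]
  have h1 := normalizer_le_normalizer_map_characteristic L (Cfsg.fittingSubgroup ↥L)
  rw [Subgroup.normalizer_eq_top_iff.mpr hLn] at h1
  exact top_le_iff.mp h1

theorem centralizer_fittingOf_le {H : Type u} [Group H] [Finite H] (L : Subgroup H)
    (hsolv : Group.IsSolvable L) :
    L ⊓ Subgroup.centralizer (Cfsg.fittingOf L : Set H) ≤ Cfsg.fittingOf L := by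
  intro g hg
  obtain ⟨hgL, hgC⟩ := Subgroup.mem_inf.mp hg
  have h1 : (⟨g, hgL⟩ : L) ∈ Subgroup.centralizer (Cfsg.fittingSubgroup ↥L : Set ↥L) := by
    rw [Subgroup.mem_centralizer_iff]
    intro f hf
    apply Subtype.ext
    have h2 : (f : H) ∈ Cfsg.fittingOf L := ⟨f, hf, rfl⟩
    exact Subgroup.mem_centralizer_iff.mp hgC _ h2
  exact ⟨⟨g, hgL⟩, centralizer_fittingSubgroup_le h1, rfl⟩

theorem centralizes_of_centralizes_fittingOf {H : Type u} [Group H] [Finite H] (L : Subgroup H)
    [hLn : L.Normal] (hsolv : Group.IsSolvable L) (z : H)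
    (hcop : (Nat.card (Subgroup.zpowers z)).Coprime (Nat.card L))
    (hz : ∀ f ∈ Cfsg.fittingOf L, z * f = f * z) :
    ∀ l ∈ L, z * l = l * z := by
  classical
  set A : Subgroup H := Subgroup.zpowers z with hA
  set F : Subgroup H := Cfsg.fittingOf L with hF
  have hFn : F.Normal := fittingOf_normal L
  have hFL : F ≤ L := fittingOf_le L
  have hAL : A ≤ Subgroup.normalizer (L : Set H) := by
    rw [Subgroup.normalizer_eq_top_iff.mpr hLn]; exact le_top
  have hAF : ⁅A, F⁆ = ⊥ := by
    rw [Subgroup.commutator_eq_bot_iff_le_centralizer, hA, Subgroup.zpowers_le,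
      Subgroup.mem_centralizer_iff]
    intro f hf
    exact (hz f hf).symm
  have hFA : ⁅F, A⁆ = ⊥ := by rw [Subgroup.commutator_comm]; exact hAF
  have h1 : ⁅⁅A, F⁆, L⁆ = ⊥ := by rw [hAF]; exact Subgroup.commutator_bot_left L
  have h2 : ⁅⁅F, L⁆, A⁆ = ⊥ := by
    rw [eq_bot_iff, ← hFA]
    exact Subgroup.commutator_mono (Subgroup.commutator_le_left F L) le_rfl
  have h3 : ⁅⁅L, A⁆, F⁆ = ⊥ := Subgroup.commutator_commutator_eq_bot_of_rotate h1 h2
  have h4 : ⁅L, A⁆ ≤ L := Subgroup.commutator_le_left L A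
  have h5 : ⁅L, A⁆ ≤ Subgroup.centralizer (F : Set H) :=
    Subgroup.commutator_eq_bot_iff_le_centralizer.mp h3
  have h6 : ⁅L, A⁆ ≤ F := (le_inf h4 h5).trans (centralizer_fittingOf_le L hsolv)
  have h7 : ⁅⁅L, A⁆, A⁆ = ⊥ := by
    rw [eq_bot_iff, ← hFA]
    exact Subgroup.commutator_mono h6 le_rfl
  have h8 := coprime_commutator_commutator A L hAL hcop (Or.inr hsolv)
  rw [h7] at h8
  have h9 : L ≤ Subgroup.centralizer (A : Set H) :=
    Subgroup.commutator_eq_bot_iff_le_centralizer.mp h8.symm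
  intro l hl
  exact (Subgroup.mem_centralizer_iff.mp (h9 hl) z (Subgroup.mem_zpowers z))

end Cfsg.Agent.Lib.Helper1.XS
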