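import Mathlib
import Cfsg.Prelude.Def_OddOrderLocal
import Cfsg.Agent.Lib.Helper1.XS18
import Cfsg.Agent.Lib.Helper1.XS19
import Cfsg.Agent.Lib.Helper1.SubnormalPCore

/-! The key step for BG type theorem: a fixed-point-free (on `F(K)`) element of prime order
centralises `O_q(K / F(K))`. -/
set_option autoImplicit false
open scoped BigOperators commutatorElement

namespace Cfsg.Agent.Lib.Helper1.XS

universe u

/-- a normal nilpotent subgroup of the ambient group contained in `K` lies in `F(K)` -/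
theorem le_fittingOf_of_normal_of_isNilpotent {G : Type u} [Group G] (K T : Subgroup G)
    [hTn : T.Normal] (hTK : T ≤ K) (hnil : Group.IsNilpotent T) : T ≤ Cfsg.fittingOf K := by
  have h1 : (T.subgroupOf K).Normal := Subgroup.Normal.subgroupOf hTn K
  have h2 : Group.IsNilpotent (T.subgroupOf K) :=
    (Group.isNilpotent_congr (Subgroup.subgroupOfEquivOfLe hTK)).mpr hnil
  have h3 := le_fittingSubgroup h1 h2
  intro t ht
  exact ⟨⟨t, hTK ht⟩, h3 (Subgroup.mem_subgroupOf.mpr ht), rfl⟩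

theorem pCoreOf_le_fittingOf {G : Type u} [Group G] [Finite G] (K : Subgroup G) (s : ℕ)
    [Fact s.Prime] : (Cfsg.pCore s ↥K).map K.subtype ≤ Cfsg.fittingOf K := by
  apply Subgroup.map_mono
  exact le_sSup ⟨pCore_normal _, (pCore_isPGroup s).isNilpotent⟩

theorem pCoreOf_normal {G : Type u} [Group G] (K : Subgroup G) [hKn : K.Normal] (s : ℕ) :
    ((Cfsg.pCore s ↥K).map K.subtype).Normal := by
  rw [← Subgroup.normalizer_eq_top_iff]
  have h1 := normalizer_le_normalizer_map_characteristic K (Cfsg.pCore s ↥K)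
  rw [Subgroup.normalizer_eq_top_iff.mpr hKn] at h1
  exact top_le_iff.mp h1

/-- nilpotency from a central subgroup with `q`-power quotient -/
theorem isNilpotent_of_central_of_pow {G : Type u} [Group G] [Finite G] (T W : Subgroup G)
    [hWn : W.Normal] (q : ℕ) [hq : Fact q.Prime]
    (hcen : T ≤ Subgroup.centralizer (W : Set G))
    (hpow : ∀ t ∈ T, ∃ n : ℕ, t ^ (q ^ n) ∈ W) : Group.IsNilpotent T := by
  classical
  let f : ↥T →* G ⧸ W := (QuotientGroup.mk' W).comp T.subtype
  have hker : f.rangeRestrict.ker ≤ Subgroup.center ↥T := by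
    rw [MonoidHom.ker_rangeRestrict]
    intro t ht
    rw [MonoidHom.mem_ker] at ht
    have h1 : (t : G) ∈ W := (QuotientGroup.eq_one_iff (t : G)).mp ht
    rw [Subgroup.mem_center_iff]
    intro u
    apply Subtype.ext
    have h2 := Subgroup.mem_centralizer_iff.mp (hcen u.2) (t : G) h1
    simp only [Subgroup.coe_mul]
    exact h2.symm
  have hp : IsPGroup q ↥f.range := by
    rintro ⟨_, ⟨t, rfl⟩⟩
    obtain ⟨n, hn⟩ := hpow t t.2
    refine ⟨n, ?_⟩
    apply Subtype.ext
    rw [Subgroup.coe_pow, Subgroup.coe_one]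
    show (f t) ^ (q ^ n) = 1
    rw [← map_pow]
    exact (QuotientGroup.eq_one_iff _).mpr hn
  have hnil : Group.IsNilpotent ↥f.range := hp.isNilpotent
  exact Subgroup.isNilpotent_of_ker_le_center f.rangeRestrict hker

theorem fitting_step {G : Type u} [Group G] [Finite G] (K : Subgroup G) [hKn : K.Normal]
    (hsolv : Group.IsSolvable K) (hodd : Odd (Nat.card K))
    {r : ℕ} (hr : r.Prime) (hrK : ¬ r ∣ Nat.card K)
    (x : G) (hxr : x ^ r = 1)
    (F : Subgroup G) [hFn : F.Normal] (hF : F = Cfsg.fittingOf K)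
    (hCF : ∀ f ∈ F, x * f = f * x → f = 1)
    (q : ℕ) [hq : Fact q.Prime] :
    ∀ y ∈ (Cfsg.pCore q ↥(K.map (QuotientGroup.mk' F))).map (K.map (QuotientGroup.mk' F)).subtype,
      QuotientGroup.mk' F x * y = y * QuotientGroup.mk' F x := by
  classical
  set π : G →* G ⧸ F := QuotientGroup.mk' F with hπdef
  have hπ : ∀ g : G, π g = 1 ↔ g ∈ F := fun g => QuotientGroup.eq_one_iff g
  have hπsurj : Function.Surjective π := QuotientGroup.mk'_surjective F
  have hFK : F ≤ K := hF ▸ fittingOf_le K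
  set Kb : Subgroup (G ⧸ F) := K.map π with hKb
  have hKbn : Kb.Normal := Subgroup.Normal.map hKn π hπsurj
  set Yb : Subgroup (G ⧸ F) := (Cfsg.pCore q ↥Kb).map Kb.subtype with hYb
  have hYbq : IsPGroup q Yb := (pCore_isPGroup q).map _
  have hYbn : Yb.Normal := pCoreOf_normal Kb q
  have hYbK : Yb ≤ Kb := Subgroup.map_subtype_le _
  by_cases hqK : q ∣ Nat.card K
  swap
  · -- then Yb is trivial
    have h1 : ¬ q ∣ Nat.card ↥Kb := fun h => hqK (h.trans (Subgroup.card_map_dvd K π))
    have h2 : Cfsg.pCore q ↥Kb = ⊥ := pCore_eq_bot_of_not_dvd q h1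
    intro y hy
    rw [hYb, h2, Subgroup.map_bot, Subgroup.mem_bot] at hy
    rw [hy, mul_one, one_mul]
  have hq2 : q ≠ 2 := by
    rintro rfl
    exact (Nat.not_even_iff_odd.mpr hodd) (even_iff_two_dvd.mpr hqK)
  have hqr : q ≠ r := by
    rintro rfl
    exact hrK hqK
  set Y : Subgroup G := Yb.comap π with hY
  have hYn : Y.Normal := Subgroup.Normal.comap hYbn π
  have hFY : F ≤ Y := by
    intro f hf
    rw [hY, Subgroup.mem_comap, (hπ f).mpr hf]
    exact Subgroup.one_mem _
  have hYK : Y ≤ K := by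
    intro y hy
    have h1 : π y ∈ Kb := hYbK hy
    obtain ⟨k, hk, hky⟩ := h1
    have h2 : k⁻¹ * y ∈ F := by
      rw [← hπ, map_mul, map_inv, hky, inv_mul_cancel]
    have h3 : y = k * (k⁻¹ * y) := by group
    rw [h3]
    exact K.mul_mem hk (hFK h2)
  have hYmap : Y.map π = Yb := Subgroup.map_comap_eq_self_of_surjective hπsurj Yb
  set A : Subgroup G := Subgroup.zpowers x with hA
  have hA_card : Nat.card A ∣ r := by
    rw [Nat.card_zpowers]
    exact orderOf_dvd_of_pow_eq_one hxr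
  have hcopAK : (Nat.card A).Coprime (Nat.card K) :=
    Nat.Coprime.coprime_dvd_left hA_card ((Nat.Prime.coprime_iff_not_dvd hr).mpr hrK)
  have hcopAY : (Nat.card A).Coprime (Nat.card Y) :=
    Nat.Coprime.coprime_dvd_right (Subgroup.card_dvd_of_le hYK) hcopAK
  have hAY : A ≤ Subgroup.normalizer (Y : Set G) := by
    rw [Subgroup.normalizer_eq_top_iff.mpr hYn]; exact le_top
  have hsolvY : Group.IsSolvable Y := isSolvable_of_le hYK
  obtain ⟨P, hP⟩ := coprime_exists_invariant_sylow A Y hAY hcopAY (Or.inr hsolvY) q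
  set Q : Subgroup G := (P : Subgroup Y).map Y.subtype with hQ
  have hQq : IsPGroup q Q := P.isPGroup'.map _
  have hQY : Q ≤ Y := Subgroup.map_subtype_le _
  have hxQ : x ∈ Subgroup.normalizer (Q : Set G) := hP (Subgroup.mem_zpowers x)
  -- Y = F Q
  have hYFQ : Y ≤ F ⊔ Q := by
    rw [← Subgroup.relIndex_eq_one]
    have h1 : (F ⊔ Q).relIndex Y ∣ F.relIndex Y := Subgroup.relIndex_dvd_of_le_left Y le_sup_left
    have h2 : (F ⊔ Q).relIndex Y ∣ Q.relIndex Y := Subgroup.relIndex_dvd_of_le_left Y le_sup_right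
    have h3 : F.relIndex Y = Nat.card Yb := by
      have := Subgroup.relIndex_ker (K := Y) π
      rw [QuotientGroup.ker_mk', hYmap] at this
      exact this
    have h4 : Q.relIndex Y = (P : Subgroup Y).index := by
      rw [Subgroup.relIndex, hQ]
      congr 1
      exact Subgroup.comap_map_eq_self_of_injective Y.subtype_injective _
    obtain ⟨n, hn⟩ := IsPGroup.iff_card.mp hYbq
    rw [h3, hn] at h1
    rw [h4] at h2
    obtain ⟨m, -, hm⟩ := (Nat.dvd_prime_pow hq.out).mp h1
    rcases Nat.eq_zero_or_pos m with h0 | h0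
    · rw [hm, h0, pow_zero]
    · exfalso
      apply P.not_dvd_index
      refine dvd_trans ?_ h2
      rw [hm]
      exact dvd_pow_self q h0.ne'
  -- the other primary components
  let Ps : ℕ → Subgroup G := fun s => (Cfsg.pCore s ↥K).map K.subtype
  have hPsn : ∀ s, (Ps s).Normal := fun s => pCoreOf_normal K s
  have hPsF : ∀ s : ℕ, s.Prime → Ps s ≤ F := by
    intro s hs
    have : Fact s.Prime := ⟨hs⟩
    rw [hF]
    exact pCoreOf_le_fittingOf K s
  have hcenPs : ∀ s : ℕ, s.Prime → s ≠ q → ∀ a ∈ Q, ⁅x, a⁆ ∈ Subgroup.centralizer (Ps s : Set G) := by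
    intro s hs hsq a ha
    have hsf : Fact s.Prime := ⟨hs⟩
    by_cases hsr : s = r
    · have h1 : ¬ s ∣ Nat.card ↥K := hsr ▸ hrK
      have h2 : Cfsg.pCore s ↥K = ⊥ := pCore_eq_bot_of_not_dvd s h1
      have h3 : Ps s = ⊥ := by
        show (Cfsg.pCore s ↥K).map K.subtype = ⊥
        rw [h2, Subgroup.map_bot]
      rw [h3, Subgroup.mem_centralizer_iff]
      intro v hv
      have hv1 : v = 1 := hv
      rw [hv1, one_mul, mul_one]
    · have hn := hPsn s
      have hPs : IsPGroup s (Ps s) := (pCore_isPGroup s).map _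
      exact hh_frattini (Ps s) hs hq.out hr hsq hsr hqr hq2 hPs Q hQq x hxr hxQ
        (fun v hv hxv => hCF v (hPsF s hs hv) hxv) a ha
  let ι := {s : Nat.Primes // (s : ℕ) ≠ q}
  set W : Subgroup G := ⨆ s : ι, Ps (s.1 : ℕ) with hW
  have hWn : W.Normal := by
    have : ∀ s : ι, (Ps (s.1 : ℕ)).Normal := fun s => hPsn _
    exact Subgroup.iSup_normal _
  have hWF : W ≤ F := iSup_le fun s => hPsF _ s.1.2
  have hcenW : ∀ a ∈ Q, ⁅x, a⁆ ∈ Subgroup.centralizer (W : Set G) := by
    intro a ha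
    have h1 : W ≤ Subgroup.centralizer ({⁅x, a⁆} : Set G) := by
      apply iSup_le
      intro s v hv
      rw [Subgroup.mem_centralizer_singleton_iff]
      exact (Subgroup.mem_centralizer_iff.mp (hcenPs _ s.1.2 s.2 a ha) v hv)
    rw [Subgroup.mem_centralizer_iff]
    intro w hw
    exact (Subgroup.mem_centralizer_singleton_iff.mp (h1 hw))
  have hFsup : F ≤ Ps q ⊔ W := by
    rw [hF, Cfsg.fittingOf, fittingSubgroup_eq_iSup_pCore, Subgroup.map_iSup]
    apply iSup_le
    intro s
    by_cases hsq : (s : ℕ) = q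
    · rw [hsq]; exact le_sup_left
    · exact le_trans (le_iSup (fun s : ι => Ps (s.1 : ℕ)) ⟨s, hsq⟩) le_sup_right
  have hPq : IsPGroup q (Ps q) := (pCore_isPGroup q).map _
  set T : Subgroup G := Y ⊓ Subgroup.centralizer (W : Set G) with hT
  have hTn : T.Normal := by
    have : (Subgroup.centralizer (W : Set G)).Normal := Subgroup.normal_centralizer
    exact Subgroup.normal_inf_normal _ _
  have hTK : T ≤ K := inf_le_left.trans hYK
  have hTpow : ∀ t ∈ T, ∃ n : ℕ, t ^ (q ^ n) ∈ W := by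
    intro t ht
    have htY : t ∈ Y := (Subgroup.mem_inf.mp ht).1
    obtain ⟨a, ha⟩ := hYbq ⟨π t, htY⟩
    have ha' : (π t) ^ (q ^ a) = 1 := by
      have := congrArg Subtype.val ha
      simpa using this
    have h1 : t ^ (q ^ a) ∈ F := by rw [← hπ, map_pow]; exact ha'
    obtain ⟨u, hu, w, hw, huw⟩ := Subgroup.mem_sup_of_normal_right.mp (hFsup h1)
    obtain ⟨b, hb⟩ := hPq ⟨u, hu⟩
    have hb' : u ^ (q ^ b) = 1 := by
      have := congrArg Subtype.val hb
      simpa using this
    refine ⟨a + b, ?_⟩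
    rw [pow_add, pow_mul, ← huw]
    -- (u w)^(q^b) ∈ W  as W is normal and u^(q^b) = 1
    rw [← QuotientGroup.eq_one_iff (N := W), QuotientGroup.mk_pow, QuotientGroup.mk_mul,
      (QuotientGroup.eq_one_iff w).mpr hw, mul_one, ← QuotientGroup.mk_pow, hb']
    rfl
  have hTnil : Group.IsNilpotent T := isNilpotent_of_central_of_pow T W q inf_le_right hTpow
  have hTF : T ≤ F := hF ▸ le_fittingOf_of_normal_of_isNilpotent K T hTK hTnil
  have hcommQ : ∀ a ∈ Q, π x * π a = π a * π x := by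
    intro a ha
    have h1 : ⁅x, a⁆ ∈ Q := by
      rw [commutatorElement_def]
      exact Q.mul_mem ((Subgroup.mem_normalizer_iff.mp hxQ a).mp ha) (Q.inv_mem ha)
    have h2 : ⁅x, a⁆ ∈ T := Subgroup.mem_inf.mpr ⟨hQY h1, hcenW a ha⟩
    have h3 : π ⁅x, a⁆ = 1 := (hπ _).mpr (hTF h2)
    rw [map_commutatorElement, commutatorElement_eq_one_iff_mul_comm] at h3
    exact h3
  intro y hy
  obtain ⟨g, rfl⟩ := hπsurj y
  have hgY : g ∈ Y := hy
  obtain ⟨f, hf, a, ha, rfl⟩ := Subgroup.mem_sup_of_normal_left.mp (hYFQ hgY)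
  rw [map_mul, (hπ f).mpr hf, one_mul]
  exact hcommQ a ha

end Cfsg.Agent.Lib.Helper1.XS
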