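import Mathlib
import Cfsg.Prelude.Def_OddOrderLocal
import Cfsg.Agent.Lib.Helper1.XS20

/-! S1445: BG type theorem `[K, R] ≤ F(K)`. -/
set_option autoImplicit false
open scoped BigOperators commutatorElement

namespace Cfsg.Agent.Lib.Helper1.XS

universe u

theorem fpf_centralizes_mod_fitting {G : Type u} [Group G] [Finite G] (K : Subgroup G)
    [hKn : K.Normal] (hsolv : Group.IsSolvable K) (hodd : Odd (Nat.card K))
    {r : ℕ} (hr : r.Prime) (hrK : ¬ r ∣ Nat.card K)
    (x : G) (hxr : x ^ r = 1)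
    (F : Subgroup G) [hFn : F.Normal] (hF : F = Cfsg.fittingOf K)
    (hCF : ∀ f ∈ F, x * f = f * x → f = 1) :
    ∀ l ∈ K.map (QuotientGroup.mk' F), QuotientGroup.mk' F x * l = l * QuotientGroup.mk' F x := by
  classical
  set π : G →* G ⧸ F := QuotientGroup.mk' F with hπdef
  have hπsurj : Function.Surjective π := QuotientGroup.mk'_surjective F
  set Kb : Subgroup (G ⧸ F) := K.map π with hKb
  have hKbn : Kb.Normal := Subgroup.Normal.map hKn π hπsurj
  have hKbsolv : Group.IsSolvable Kb := by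
    have : Group.IsSolvable K := hsolv
    exact isSolvable_map π K
  have hxr' : (π x) ^ r = 1 := by rw [← map_pow, hxr, map_one]
  have hcop : (Nat.card (Subgroup.zpowers (π x))).Coprime (Nat.card Kb) := by
    have h1 : Nat.card (Subgroup.zpowers (π x)) ∣ r := by
      rw [Nat.card_zpowers]
      exact orderOf_dvd_of_pow_eq_one hxr'
    have h2 : Nat.card Kb ∣ Nat.card K := Subgroup.card_map_dvd K π
    exact Nat.Coprime.coprime_dvd_left h1
      (Nat.Coprime.coprime_dvd_right h2 ((Nat.Prime.coprime_iff_not_dvd hr).mpr hrK))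
  have hz : ∀ f ∈ Cfsg.fittingOf Kb, π x * f = f * π x := by
    have h1 : Cfsg.fittingOf Kb ≤ Subgroup.centralizer ({π x} : Set (G ⧸ F)) := by
      rw [Cfsg.fittingOf, fittingSubgroup_eq_iSup_pCore, Subgroup.map_iSup]
      apply iSup_le
      intro q y hy
      have : Fact (q : ℕ).Prime := ⟨q.2⟩
      rw [Subgroup.mem_centralizer_singleton_iff]
      exact (fitting_step K hsolv hodd hr hrK x hxr F hF hCF (q : ℕ) y hy).symm
    intro f hf
    exact (Subgroup.mem_centralizer_singleton_iff.mp (h1 hf)).symm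
  exact centralizes_of_centralizes_fittingOf Kb hKbsolv (π x) hcop hz

theorem s1445 {G : Type u} [Group G] [Finite G] [hG : Group.IsSolvable G]
    (hodd : Odd (Nat.card G)) (K R : Subgroup G) [hKn : K.Normal]
    (hcop : (Nat.card K).Coprime (Nat.card R))
    (hprime : ∀ x ∈ R, x ≠ 1 → K ⊓ Subgroup.centralizer ({x} : Set G)
      = (K ⊓ Subgroup.centralizer (R : Set G)))
    (hF : Cfsg.fittingOf K ⊓ Subgroup.centralizer (R : Set G) = ⊥) :
    ⁅K, R⁆ ≤ Cfsg.fittingOf K := by
  classical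
  by_cases hR : R = ⊥
  · rw [hR, Subgroup.commutator_bot_right]
    exact bot_le
  have hcard1 : Nat.card R ≠ 1 := fun h => hR (Subgroup.card_eq_one.mp h)
  obtain ⟨r, hr, hrR⟩ := Nat.exists_prime_and_dvd hcard1
  have hrf : Fact r.Prime := ⟨hr⟩
  obtain ⟨x', hx'⟩ := exists_prime_orderOf_dvd_card' (G := ↥R) r hrR
  set x : G := (x' : G) with hx
  have hxR : x ∈ R := x'.2
  have hord : orderOf x = r := by rw [hx, Subgroup.orderOf_coe, hx']
  have hxr : x ^ r = 1 := by rw [← hord]; exact pow_orderOf_eq_one x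
  have hx1 : x ≠ 1 := by
    intro h
    rw [h, orderOf_one] at hord
    exact hr.one_lt.ne hord
  have hrK : ¬ r ∣ Nat.card K := by
    intro h
    have h1 : r ∣ (Nat.card K).gcd (Nat.card R) := Nat.dvd_gcd h hrR
    rw [hcop, Nat.dvd_one] at h1
    exact hr.one_lt.ne' h1
  have hKodd : Odd (Nat.card K) := by
    obtain ⟨m, hm⟩ := Subgroup.card_subgroup_dvd_card K
    rw [hm] at hodd
    exact (Nat.odd_mul.mp hodd).1
  have hsolvK : Group.IsSolvable K := inferInstance
  set F : Subgroup G := Cfsg.fittingOf K with hFdef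
  have hFn : F.Normal := fittingOf_normal K
  have hFK : F ≤ K := fittingOf_le K
  have hCF : ∀ f ∈ F, x * f = f * x → f = 1 := by
    intro f hf hxf
    have h1 : f ∈ K ⊓ Subgroup.centralizer ({x} : Set G) :=
      Subgroup.mem_inf.mpr ⟨hFK hf, Subgroup.mem_centralizer_singleton_iff.mpr hxf.symm⟩
    rw [hprime x hxR hx1] at h1
    have h2 : f ∈ F ⊓ Subgroup.centralizer (R : Set G) :=
      Subgroup.mem_inf.mpr ⟨hf, (Subgroup.mem_inf.mp h1).2⟩
    rw [hF, Subgroup.mem_bot] at h2
    exact h2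
  have key := fpf_centralizes_mod_fitting K hsolvK hKodd hr hrK x hxr F rfl hCF
  set π : G →* G ⧸ F := QuotientGroup.mk' F with hπdef
  have hπ : ∀ g : G, π g = 1 ↔ g ∈ F := fun g => QuotientGroup.eq_one_iff g
  set A : Subgroup G := Subgroup.zpowers x with hA
  have hAK : A ≤ Subgroup.normalizer (K : Set G) := by
    rw [Subgroup.normalizer_eq_top_iff.mpr hKn]; exact le_top
  have hA_card : Nat.card A ∣ r := by
    rw [Nat.card_zpowers]
    exact orderOf_dvd_of_pow_eq_one hxr
  have hcopAK : (Nat.card A).Coprime (Nat.card K) :=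
    Nat.Coprime.coprime_dvd_left hA_card ((Nat.Prime.coprime_iff_not_dvd hr).mpr hrK)
  have hKA : ⁅K, A⁆ ≤ F := by
    rw [Subgroup.commutator_le]
    intro k hk a ha
    obtain ⟨n, rfl⟩ := Subgroup.mem_zpowers_iff.mp ha
    rw [← hπ, map_commutatorElement, commutatorElement_eq_one_iff_mul_comm, map_zpow]
    have h1 : Commute (π x) (π k) := key (π k) ⟨k, hk, rfl⟩
    exact (h1.zpow_left n).eq.symm
  have hdec := coprime_commutator_sup_centralizer A K hAK hcopAK (Or.inr hsolvK)
  have hKle : K ≤ F ⊔ (K ⊓ Subgroup.centralizer (R : Set G)) := by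
    have h1 : K ⊓ Subgroup.centralizer (A : Set G) ≤ K ⊓ Subgroup.centralizer (R : Set G) := by
      rw [← hprime x hxR hx1]
      apply inf_le_inf le_rfl
      apply Subgroup.centralizer_le
      intro y hy
      rw [Set.mem_singleton_iff] at hy
      rw [hy]
      exact Subgroup.mem_zpowers x
    calc K = ⁅K, A⁆ ⊔ (K ⊓ Subgroup.centralizer (A : Set G)) := hdec.symm
      _ ≤ F ⊔ (K ⊓ Subgroup.centralizer (R : Set G)) := sup_le_sup hKA h1
  rw [Subgroup.commutator_le]
  intro k hk y hy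
  obtain ⟨f, hf, c, hc, rfl⟩ := Subgroup.mem_sup_of_normal_left.mp (hKle hk)
  have hcy : y * c = c * y := Subgroup.mem_centralizer_iff.mp (Subgroup.mem_inf.mp hc).2 y hy
  have e : ⁅f * c, y⁆ = f * (y * f⁻¹ * y⁻¹) := by
    rw [commutatorElement_def]
    have h1 : f * c * y * (f * c)⁻¹ * y⁻¹ = f * (c * y) * c⁻¹ * f⁻¹ * y⁻¹ := by group
    rw [h1, ← hcy]
    group
  rw [e]
  exact F.mul_mem hf (hFn.conj_mem _ (F.inv_mem hf) y)

end Cfsg.Agent.Lib.Helper1.XS
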