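import Mathlib
import Cfsg.Agent.Lib.Helper1.PL4
import Cfsg.Agent.Lib.Helper1.PL6
import Cfsg.Agent.Lib.Helper1.XS21
import Cfsg.Agent.Lib.Helper1.XS11
import Cfsg.Agent.Lib.Helper1.FM15
import Cfsg.Agent.Lib.Helper1.CoprimeSylow
import Cfsg.Agent.Lib.Helper1.ThreeSubgroups
import Cfsg.Agent.Lib.Helper1.Fitting

/-! The core case of the `p`-length theorem for `[H, R]` (B&G Theorem 3.6): a minimal
counterexample, after the standard reductions, leads to the critical configuration `Crit`,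
which does not exist. -/

set_option autoImplicit false
set_option maxHeartbeats 4000000
set_option linter.unusedVariables false
set_option linter.unusedSectionVars false
set_option linter.style.longLine false

open scoped commutatorElement

namespace Cfsg.Agent.Lib.Helper1.PL

open Cfsg

universe u

variable {G : Type u} [Group G]

namespace Ctx

variable [Finite G] [Group.IsSolvable G] {H R R₀ V L K : Subgroup G} {p : ℕ}

theorem exists_gen (c : Ctx H R R₀ V p) :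
    ∃ x : G, R₀ = Subgroup.zpowers x ∧ orderOf x = Nat.card R₀ := by
  obtain ⟨x, hxR, hx1, hxr, hgen⟩ := XS.exists_generator_of_prime_card R₀ c.hR₀p rfl
  refine ⟨x, ?_, ?_⟩
  · apply le_antisymm
    · intro y hy
      obtain ⟨k, hk⟩ := hgen y hy
      rw [hk]
      exact Subgroup.zpow_mem_zpowers x k
    · exact Subgroup.zpowers_le.mpr hxR
  · rcases (Nat.dvd_prime c.hR₀p).mp (orderOf_dvd_of_pow_eq_one hxr) with h | h
    · exact absurd (orderOf_eq_one_iff.mp h) hx1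
    · exact h

theorem relIndex_eq (c : Ctx H R R₀ V p) (s : Split H R V L K p) :
    V.relIndex H = Nat.card L := by
  have h9 := card_mul_relIndex c.hVH
  rw [c.cardH s] at h9
  have h10 : Nat.card V * V.relIndex H = Nat.card V * Nat.card L := by rw [h9, mul_comm]
  exact Nat.eq_of_mul_eq_mul_left Nat.card_pos h10

theorem false_of_not_dvd (c : Ctx H R R₀ V p) (s : Split H R V L K p)
    (h : ¬ p ∣ Nat.card L) : False := by
  apply c.pclosed
  rw [c.relIndex_eq s]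
  exact ((Nat.Prime.coprime_iff_not_dvd c.hp).mpr h).symm

theorem comm_L (c : Ctx H R R₀ V p) (s : Split H R V L K p) : ⁅L, R⁆ = L := by
  have := c.hVn
  have hle : ⁅L, R⁆ ≤ L := Subgroup.le_normalizer_iff_commutator_le_left.mp s.hRL
  obtain ⟨L₁, hL₁⟩ : ∃ L₁, L₁ = ⁅L, R⁆ := ⟨_, rfl⟩
  rw [← hL₁] at hle ⊢
  have hHM : ⁅H, R⁆ ≤ V ⊔ L₁ := by
    rw [Subgroup.commutator_le]
    intro h hh ρ hρ
    rw [← s.hVLH, ← SetLike.mem_coe, Subgroup.normal_mul] at hh
    obtain ⟨v, hv, l, hl, rfl⟩ := Set.mem_mul.mp hh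
    have e : ⁅v * l, ρ⁆ = v * ⁅l, ρ⁆ * v⁻¹ * ⁅v, ρ⁆ := by
      simp only [commutatorElement_def]
      group
    rw [e]
    have h1 : ⁅l, ρ⁆ ∈ L₁ := by
      rw [hL₁]
      exact Subgroup.commutator_mem_commutator hl hρ
    have h2 : ⁅v, ρ⁆ ∈ V := by
      rw [commutatorElement_def]
      have e2 : v * ρ * v⁻¹ * ρ⁻¹ = v * (ρ * v⁻¹ * ρ⁻¹) := by group
      rw [e2]
      exact V.mul_mem hv (c.hVn.conj_mem _ (V.inv_mem hv) ρ)
    exact Subgroup.mul_mem _ (Subgroup.mul_mem _ (Subgroup.mul_mem _ (Subgroup.mem_sup_left hv)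
      (Subgroup.mem_sup_right h1)) (Subgroup.mem_sup_left (V.inv_mem hv)))
      (Subgroup.mem_sup_left h2)
  rw [c.hHR] at hHM
  have hcard1 := c.cardH s
  have hVL₁ : L₁ ⊓ V = ⊥ := by
    rw [eq_bot_iff, ← s.hVL]
    exact le_inf inf_le_right (inf_le_left.trans hle)
  have hcard2 : Nat.card (L₁ ⊔ V : Subgroup G) = Nat.card L₁ * Nat.card V :=
    card_sup_of_inf_bot (c.nV L₁) hVL₁
  have h3 : Nat.card H ≤ Nat.card (L₁ ⊔ V : Subgroup G) := by
    rw [sup_comm]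
    exact Subgroup.card_le_of_le hHM
  rw [hcard1, hcard2] at h3
  have h4 : Nat.card L ≤ Nat.card L₁ := Nat.le_of_mul_le_mul_right h3 Nat.card_pos
  exact Subgroup.eq_of_le_of_card_ge hle h4

/-- the case `C_V(R₀) = 1` -/
theorem easy (c : Ctx H R R₀ V p) (s : Split H R V L K p)
    (hCVR : V ⊓ Subgroup.centralizer (R₀ : Set G) = ⊥) : False := by
  have := Fact.mk c.hp
  have := c.hHn
  have := c.hVn
  obtain ⟨x, hR₀x, hxord⟩ := c.exists_gen
  have hR₀H : (Nat.card H).Coprime (Nat.card R₀) :=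
    Nat.Coprime.coprime_dvd_right (Subgroup.card_dvd_of_le c.hR₀R) c.copHR
  have hprime : ∀ y ∈ R₀, y ≠ 1 → H ⊓ Subgroup.centralizer ({y} : Set G) =
      H ⊓ Subgroup.centralizer (R₀ : Set G) := by
    intro y hy hy1
    have hxy : x ∈ Subgroup.zpowers y := gen_of_ne_one c.hR₀p hxord (hR₀x ▸ hy) hy1
    have e : Subgroup.zpowers y = R₀ := by
      apply le_antisymm (Subgroup.zpowers_le.mpr hy)
      rw [hR₀x]
      exact Subgroup.zpowers_le.mpr hxy
    rw [← FM.inf_centralizer_zpowers, e]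
  have hF : fittingOf H ⊓ Subgroup.centralizer (R₀ : Set G) = ⊥ := by
    rw [eq_bot_iff, ← hCVR]
    exact inf_le_inf_right _ c.hF
  have h1 : ⁅H, R₀⁆ ≤ V := (XS.s1445 c.hodd H R₀ hR₀H hprime hF).trans c.hF
  have hR₀L : R₀ ≤ Subgroup.normalizer (L : Set G) := c.hR₀R.trans s.hRL
  have h2 : ⁅L, R₀⁆ = ⊥ := by
    rw [eq_bot_iff, ← s.hVL]
    exact le_inf ((Subgroup.commutator_mono s.hLH le_rfl).trans h1)
      (Subgroup.le_normalizer_iff_commutator_le_left.mp hR₀L)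
  have hLC : L ≤ H ⊓ Subgroup.centralizer (R₀ : Set G) :=
    le_inf s.hLH (Subgroup.commutator_eq_bot_iff_le_centralizer.mp h2)
  have := c.hZ
  have hLZ : IsZGroup ↥L :=
    IsZGroup.of_injective (f := Subgroup.inclusion hLC) (Subgroup.inclusion_injective hLC)
  have hcyc : IsCyclic ↥(⁅L, L⁆ : Subgroup G) := by
    have h3 : IsCyclic ↥(commutator ↥L) := IsZGroup.isCyclic_commutator ↥L
    have h4 : IsCyclic ↥((commutator ↥L).map L.subtype) :=
      isCyclic_of_surjective ((commutator ↥L).equivMapOfInjective L.subtype L.subtype_injective)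
        ((commutator ↥L).equivMapOfInjective L.subtype L.subtype_injective).surjective
    rwa [Subgroup.map_subtype_commutator] at h4
  have hLL' : L ≤ Subgroup.normalizer ((⁅L, L⁆ : Subgroup G) : Set G) :=
    fun g hg => mem_normalizer_commutator (Subgroup.le_normalizer hg) (Subgroup.le_normalizer hg)
  have hRL' : R ≤ Subgroup.normalizer ((⁅L, L⁆ : Subgroup G) : Set G) :=
    fun g hg => mem_normalizer_commutator (s.hRL hg) (s.hRL hg)
  have h5 : ⁅L, R⁆ ≤ Subgroup.centralizer ((⁅L, L⁆ : Subgroup G) : Set G) := by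
    rw [Subgroup.commutator_le]
    intro l hl ρ hρ
    exact aut_cyclic_comm (hLL' hl) (hRL' hρ)
  rw [c.comm_L s] at h5
  have h6 : ⁅L, L⁆ ≤ Subgroup.centralizer (L : Set G) := Subgroup.le_centralizer_iff.mp h5
  obtain ⟨S'⟩ : Nonempty (Sylow p ↥L) := inferInstance
  have hS'n : (S' : Subgroup ↥L).Normal := sylow_normal_of_class_two h6 S'
  obtain ⟨S, hS⟩ : ∃ S, S = (S' : Subgroup ↥L).map L.subtype := ⟨_, rfl⟩
  have hSL : S ≤ L := by
    rw [hS]
    exact Subgroup.map_subtype_le _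
  have hLS : L ≤ Subgroup.normalizer (S : Set G) := by
    rw [hS]
    exact le_normalizer_map_subtype_of_normal _
  have hSp : IsPGroup p S := by
    rw [hS]
    exact S'.2.map _
  have hVSp : IsPGroup p (S ⊔ V : Subgroup G) := IsPGroup.to_sup_of_normal_right hSp c.hVp
  have hHVS : H ≤ Subgroup.normalizer ((S ⊔ V : Subgroup G) : Set G) := by
    rw [← s.hVLH]
    apply sup_le
    · exact le_sup_right.trans Subgroup.le_normalizer
    · intro l hl
      exact mem_normalizer_sup (hLS hl) (c.nV L hl)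
  have hSV : S ⊔ V ≤ V := c.hVmax _ (sup_le (hSL.trans s.hLH) c.hVH) hVSp hHVS
  have hS1 : S = ⊥ := by
    rw [eq_bot_iff, ← s.hVL]
    exact le_inf (le_sup_left.trans hSV) hSL
  have hS'1 : (S' : Subgroup ↥L) = ⊥ := by
    rw [hS] at hS1
    exact (Subgroup.map_eq_bot_iff_of_injective _ L.subtype_injective).mp hS1
  apply c.false_of_not_dvd s
  have h7 := S'.not_dvd_index
  rw [hS'1, Subgroup.index_bot] at h7
  exact h7

/-- when `C_V(R₀) ≠ 1`, the centralizer of `R₀` in `L` is a `p'`-group -/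
theorem fpf (c : Ctx H R R₀ V p) (s : Split H R V L K p)
    (hCVR : V ⊓ Subgroup.centralizer (R₀ : Set G) ≠ ⊥) {P : Subgroup G} (hPL : P ≤ L)
    (hPR : P ≤ Subgroup.centralizer (R₀ : Set G)) (hPp : IsPGroup p P) : P = ⊥ := by
  have := Fact.mk c.hp
  have := c.hZ
  by_contra hP
  obtain ⟨V₀, hV₀⟩ : ∃ V₀, V₀ = V ⊓ Subgroup.centralizer (R₀ : Set G) := ⟨_, rfl⟩
  rw [← hV₀] at hCVR
  have hV₀V : V₀ ≤ V := hV₀ ▸ inf_le_left
  have hV₀p : IsPGroup p V₀ := c.hVp.to_le hV₀V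
  have hPV₀ : P ≤ Subgroup.normalizer (V₀ : Set G) := by
    intro g hg
    rw [hV₀]
    exact mem_normalizer_inf (c.nV P hg) (Subgroup.le_normalizer (hPR hg))
  have hTp : IsPGroup p (P ⊔ V₀ : Subgroup G) := IsPGroup.to_sup_of_normal_right' hPp hV₀p hPV₀
  have hTC : P ⊔ V₀ ≤ H ⊓ Subgroup.centralizer (R₀ : Set G) :=
    sup_le (le_inf (hPL.trans s.hLH) hPR) (by rw [hV₀]; exact inf_le_inf_right _ c.hVH)
  have hcyc : IsCyclic ↥(P ⊔ V₀ : Subgroup G) := isCyclic_of_isPGroup_le_zgroup hTC hTp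
  have hdvd : p ∣ Nat.card P := by
    obtain ⟨n, hn⟩ := IsPGroup.iff_card.mp hPp
    rw [hn]
    have hn0 : n ≠ 0 := by
      intro e
      rw [e, pow_zero] at hn
      exact hP (Subgroup.card_eq_one.mp hn)
    exact dvd_pow_self p hn0
  obtain ⟨a, ha⟩ := exists_prime_orderOf_dvd_card' (G := ↥P) p hdvd
  obtain ⟨b, hbV₀, hb1⟩ := exists_mem_ne_one hCVR
  have hbp : b ^ p = 1 := c.hVexp b (hV₀V hbV₀)
  have hap : (a : G) ^ p = 1 := by
    rw [← Subgroup.coe_pow, ← ha, pow_orderOf_eq_one]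
    rfl
  have ha1 : (a : G) ≠ 1 := by
    intro e
    have e' : a = 1 := Subtype.ext e
    rw [e', orderOf_one] at ha
    exact c.hp.one_lt.ne ha
  have hmem := cyc_sub (T := ↥(P ⊔ V₀ : Subgroup G)) c.hp
    (a := ⟨(a : G), Subgroup.mem_sup_left a.2⟩) (b := ⟨b, Subgroup.mem_sup_right hbV₀⟩)
    (Subtype.ext hap) (fun e => ha1 (congrArg Subtype.val e)) (Subtype.ext hbp)
  obtain ⟨k, hk⟩ := Subgroup.mem_zpowers_iff.mp hmem
  have hk' : (a : G) ^ k = b := by
    have := congrArg Subtype.val hk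
    rwa [Subgroup.coe_zpow] at this
  have hbP : b ∈ P := by
    rw [← hk']
    exact P.zpow_mem a.2 k
  exact hb1 (eq_one_of_inf_bot s.hVL (hV₀V hbV₀) (hPL hbP))

/-- the main reduction: a split minimal counterexample with `C_V(R₀) ≠ 1` gives the critical
configuration -/
theorem false_of_split (c : Ctx H R R₀ V p) (s : Split H R V L K p)
    (hCVR : V ⊓ Subgroup.centralizer (R₀ : Set G) ≠ ⊥) : False := by
  classical
  have hpf := Fact.mk c.hp
  have := c.hHn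
  have := c.hVn
  have := c.hZ
  have hVp := c.hVp
  obtain ⟨kV, hkV⟩ := IsPGroup.iff_card.mp hVp
  have hKH : K ≤ H := s.hKL.trans s.hLH
  have hcopRL : (Nat.card R).Coprime (Nat.card L) :=
    Nat.Coprime.coprime_dvd_right (Subgroup.card_dvd_of_le s.hLH) c.copHR.symm
  obtain ⟨S', hRS'⟩ := coprime_exists_invariant_sylow R L s.hRL hcopRL (Or.inr inferInstance) p
  obtain ⟨S, hS⟩ : ∃ S, S = (S' : Subgroup ↥L).map L.subtype := ⟨_, rfl⟩
  rw [← hS] at hRS'
  have hSL : S ≤ L := by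
    rw [hS]
    exact Subgroup.map_subtype_le _
  have hSH : S ≤ H := hSL.trans s.hLH
  have hSp : IsPGroup p S := by
    rw [hS]
    exact S'.2.map _
  obtain ⟨kS, hkS⟩ := IsPGroup.iff_card.mp hSp
  have hSK : S ≤ Subgroup.normalizer (K : Set G) := hSL.trans s.hLK
  have hcopSK : (Nat.card S).Coprime (Nat.card K) := by
    rw [hkS]
    exact Nat.Coprime.pow_left kS s.hKp.symm
  have hSKbot : S ⊓ K = ⊥ := inf_bot_of_coprime hcopSK
  have hS1 : S ≠ ⊥ := by
    intro e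
    have hS'1 : (S' : Subgroup ↥L) = ⊥ := by
      rw [hS] at e
      exact (Subgroup.map_eq_bot_iff_of_injective _ L.subtype_injective).mp e
    apply c.false_of_not_dvd s
    have h7 := S'.not_dvd_index
    rw [hS'1, Subgroup.index_bot] at h7
    exact h7
  have hSfix : S ⊓ Subgroup.centralizer (R₀ : Set G) = ⊥ :=
    c.fpf s hCVR (inf_le_left.trans hSL) inf_le_right (hSp.to_le inf_le_left)
  have hcopR₀H : (Nat.card R₀).Coprime (Nat.card H) :=
    Nat.Coprime.coprime_dvd_left (Subgroup.card_dvd_of_le c.hR₀R) c.copHR.symm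
  have hcommS : ∀ S₂ : Subgroup G, S₂ ≤ S → R₀ ≤ Subgroup.normalizer (S₂ : Set G) →
      ⁅S₂, R₀⁆ = S₂ := by
    intro S₂ hS₂ hR₀S₂
    have hcop : (Nat.card R₀).Coprime (Nat.card S₂) :=
      Nat.Coprime.coprime_dvd_right (Subgroup.card_dvd_of_le (hS₂.trans hSH)) hcopR₀H
    have h1 := coprime_commutator_sup_centralizer R₀ S₂ hR₀S₂ hcop (Or.inl inferInstance)
    have h2 : S₂ ⊓ Subgroup.centralizer (R₀ : Set G) = ⊥ := by
      rw [eq_bot_iff, ← hSfix]
      exact inf_le_inf_right _ hS₂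
    rw [h2, sup_bot_eq] at h1
    exact h1
  -- the basic step
  have bsub : ∀ K₂ S₂ : Subgroup G, K₂ ≤ K → S₂ ≤ S → R ≤ Subgroup.normalizer (K₂ : Set G) →
      R ≤ Subgroup.normalizer (S₂ : Set G) → S₂ ≤ Subgroup.normalizer (K₂ : Set G) →
      V ⊔ (K₂ ⊔ S₂) ≠ H → K₂ ≤ Subgroup.centralizer (S₂ : Set G) := by
    intro K₂ S₂ hK₂ hS₂ hRK₂ hRS₂ hS₂K₂ hne
    obtain ⟨X₂, hX₂⟩ : ∃ X₂, X₂ = V ⊔ (K₂ ⊔ S₂) := ⟨_, rfl⟩
    rw [← hX₂] at hne
    have hX₂H : X₂ ≤ H := by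
      rw [hX₂]
      exact sup_le c.hVH (sup_le (hK₂.trans hKH) (hS₂.trans hSH))
    have hVX₂ : V ≤ X₂ := by
      rw [hX₂]
      exact le_sup_left
    have hRX₂ : R ≤ Subgroup.normalizer (X₂ : Set G) := by
      intro g hg
      rw [hX₂]
      exact mem_normalizer_sup (c.nV R hg) (mem_normalizer_sup (hRK₂ hg) (hRS₂ hg))
    have hne_top : X₂ ⊔ R ≠ ⊤ :=
      c.ne_top hRX₂ ((Nat.mul_lt_mul_right Nat.card_pos).mpr (card_lt_of_le_of_ne hX₂H hne))
    have hpl := c.hIH X₂ R hX₂H le_rfl c.hR₀R hRX₂ hne_top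
    have hDX₂ : ⁅X₂, R⁆ ≤ X₂ := Subgroup.le_normalizer_iff_commutator_le_left.mp hRX₂
    have hX₂D : X₂ ≤ Subgroup.normalizer ((⁅X₂, R⁆ : Subgroup G) : Set G) :=
      le_normalizer_commutator_left X₂ R
    obtain ⟨P, hPD, hPp, hX₂P, hPall⟩ :=
      pclosed_of_ih p hVp (c.nV H) c.hCV hX₂H hVX₂ hDX₂ hX₂D hpl
    have hS₂X₂ : S₂ ≤ X₂ := by
      rw [hX₂]
      exact le_sup_right.trans le_sup_right
    have hK₂X₂ : K₂ ≤ X₂ := by
      rw [hX₂]
      exact le_sup_left.trans le_sup_right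
    have hS₂D : S₂ ≤ ⁅X₂, R⁆ := by
      have h1 : ⁅S₂, R₀⁆ ≤ ⁅X₂, R⁆ := Subgroup.commutator_mono hS₂X₂ c.hR₀R
      rwa [hcommS S₂ hS₂ (c.hR₀R.trans hRS₂)] at h1
    have hS₂P : S₂ ≤ P := hPall S₂ hS₂D (hSp.to_le hS₂)
    have hVPp : IsPGroup p (P ⊔ V : Subgroup G) := IsPGroup.to_sup_of_normal_right hPp hVp
    have hK₂VP : K₂ ≤ Subgroup.normalizer ((P ⊔ V : Subgroup G) : Set G) :=
      fun g hg => mem_normalizer_sup (hX₂P (hK₂X₂ hg)) (c.nV K₂ hg)
    have h1 : ⁅K₂, S₂⁆ ≤ K₂ := Subgroup.le_normalizer_iff_commutator_le_left.mp hS₂K₂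
    have h2 : ⁅K₂, S₂⁆ ≤ P ⊔ V := by
      have h3 : ⁅K₂, S₂⁆ ≤ ⁅K₂, P ⊔ V⁆ :=
        Subgroup.commutator_mono le_rfl (hS₂P.trans le_sup_left)
      rw [Subgroup.commutator_comm K₂ (P ⊔ V)] at h3
      exact h3.trans (Subgroup.le_normalizer_iff_commutator_le_left.mp hK₂VP)
    have h4 : K₂ ⊓ (P ⊔ V) = ⊥ := inf_bot_of_coprime (by
      obtain ⟨j, hj⟩ := IsPGroup.iff_card.mp hVPp
      rw [hj]
      exact Nat.Coprime.pow_right j
        (Nat.Coprime.coprime_dvd_left (Subgroup.card_dvd_of_le hK₂) s.hKp))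
    have h5 : ⁅K₂, S₂⁆ = ⊥ := by
      rw [eq_bot_iff, ← h4]
      exact le_inf h1 h2
    exact Subgroup.commutator_eq_bot_iff_le_centralizer.mp h5
  have hTK : ∀ T : Subgroup G, T ≤ S → K ≤ Subgroup.centralizer (T : Set G) → T = ⊥ := by
    intro T hT hK
    have hTle : T ≤ K := by
      intro t ht
      apply s.hCLK t (hSL (hT ht))
      intro k hk
      exact Subgroup.mem_centralizer_iff.mp (hK hk) t ht
    rw [eq_bot_iff, ← hSKbot]
    exact le_inf hT hTle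
  have hSnotcent : ¬ K ≤ Subgroup.centralizer (S : Set G) := fun hK => hS1 (hTK S le_rfl hK)
  have hVKS : V ⊔ (K ⊔ S) = H := by
    by_contra hne
    exact hSnotcent (bsub K S le_rfl le_rfl s.hRK hRS' hSK hne)
  have hcardKS : Nat.card (S ⊔ K : Subgroup G) = Nat.card S * Nat.card K :=
    card_sup_of_inf_bot hSK hSKbot
  have hKSV : (S ⊔ K) ⊓ V = ⊥ := by
    rw [eq_bot_iff, ← s.hVL]
    exact le_inf inf_le_right (inf_le_left.trans (sup_le hSL s.hKL))
  have hcardH : Nat.card H = Nat.card S * Nat.card K * Nat.card V := by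
    rw [← hVKS, sup_comm V, sup_comm K S, card_sup_of_inf_bot (c.nV _) hKSV, hcardKS]
  have hsize : ∀ K₂ S₂ : Subgroup G, S₂ ≤ Subgroup.normalizer (K₂ : Set G) →
      Nat.card S₂ * Nat.card K₂ < Nat.card S * Nat.card K → V ⊔ (K₂ ⊔ S₂) ≠ H := by
    intro K₂ S₂ hS₂K₂ hlt e
    have h1 : Nat.card (S₂ ⊔ K₂ : Subgroup G) ≤ Nat.card S₂ * Nat.card K₂ :=
      Nat.le_of_dvd (Nat.mul_pos Nat.card_pos Nat.card_pos) (card_sup_dvd' hS₂K₂)
    have h2 : Nat.card ((S₂ ⊔ K₂) ⊔ V : Subgroup G) ≤ Nat.card (S₂ ⊔ K₂ : Subgroup G) * Nat.card V :=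
      Nat.le_of_dvd (Nat.mul_pos Nat.card_pos Nat.card_pos) (card_sup_dvd' (c.nV _))
    rw [sup_comm V, sup_comm K₂ S₂] at e
    rw [e, hcardH] at h2
    have h3 : Nat.card (S₂ ⊔ K₂ : Subgroup G) * Nat.card V <
        Nat.card S * Nat.card K * Nat.card V :=
      (Nat.mul_lt_mul_right Nat.card_pos).mpr (lt_of_le_of_lt h1 hlt)
    exact absurd h2 (Nat.not_le.mpr h3)
  have hSmin' : ∀ T : Subgroup G, T ≤ S → R ≤ Subgroup.normalizer (T : Set G) → T ≠ S →
      T = ⊥ := by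
    intro T hT hRT hne
    apply hTK T hT
    apply bsub K T le_rfl hT s.hRK hRT (hT.trans hSK)
    apply hsize K T (hT.trans hSK)
    exact (Nat.mul_lt_mul_right Nat.card_pos).mpr (card_lt_of_le_of_ne hT hne)
  have he' : ∀ K₂ : Subgroup G, K₂ ≤ K → K₂ ≠ K → S ≤ Subgroup.normalizer (K₂ : Set G) →
      R ≤ Subgroup.normalizer (K₂ : Set G) → K₂ ≤ Subgroup.centralizer (S : Set G) := by
    intro K₂ hK₂ hne hSK₂ hRK₂
    apply bsub K₂ S hK₂ le_rfl hRK₂ hRS' hSK₂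
    apply hsize K₂ S hSK₂
    exact (Nat.mul_lt_mul_left Nat.card_pos).mpr (card_lt_of_le_of_ne hK₂ hne)
  have hKS : ⁅K, S⁆ = K := by
    by_contra hne
    have hle : ⁅K, S⁆ ≤ K := Subgroup.le_normalizer_iff_commutator_le_left.mp hSK
    have h1 := he' ⁅K, S⁆ hle hne (le_normalizer_commutator_right K S)
      (fun g hg => mem_normalizer_commutator (s.hRK hg) (hRS' hg))
    have h2 : ⁅⁅K, S⁆, S⁆ = ⊥ := Subgroup.commutator_eq_bot_iff_le_centralizer.mpr h1
    have h3 := coprime_commutator_commutator S K hSK hcopSK (Or.inl inferInstance)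
    rw [h2] at h3
    exact hSnotcent (Subgroup.commutator_eq_bot_iff_le_centralizer.mp h3.symm)
  have hK1 : K ≠ ⊥ := by
    intro e
    apply hSnotcent
    rw [e]
    exact bot_le
  have hKq : ∃ q : ℕ, q.Prime ∧ IsPGroup q K := by
    by_contra hno
    push Not at hno
    apply hSnotcent
    have hA : S ⊔ R ≤ Subgroup.normalizer (K : Set G) := sup_le hSK s.hRK
    have hcopA : (Nat.card ↥(S ⊔ R)).Coprime (Nat.card K) := by
      have h1 : Nat.card ↥(S ⊔ R) ∣ Nat.card R * Nat.card S := by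
        rw [sup_comm]
        exact card_sup_dvd' hRS'
      apply Nat.Coprime.coprime_dvd_left h1
      apply Nat.Coprime.mul_left _ hcopSK
      exact Nat.Coprime.coprime_dvd_right (Subgroup.card_dvd_of_le hKH) c.copHR.symm
    have htop : (K ⊓ Subgroup.centralizer (S : Set G)).subgroupOf K = ⊤ := by
      apply eq_top_of_forall_sylow_le
      intro q hq
      obtain ⟨P, hP⟩ := coprime_exists_invariant_sylow (S ⊔ R) K hA hcopA (Or.inr inferInstance) q
      refine ⟨P, ?_⟩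
      have hPK : (P : Subgroup ↥K).map K.subtype ≤ K := Subgroup.map_subtype_le _
      have hPne : (P : Subgroup ↥K).map K.subtype ≠ K := by
        intro e
        apply hno q hq.out
        obtain ⟨n, hn⟩ := IsPGroup.iff_card.mp P.2
        apply IsPGroup.of_card (n := n)
        have h1 : Nat.card ↥((P : Subgroup ↥K).map K.subtype) = Nat.card ↥K :=
          congrArg (fun Z : Subgroup G => Nat.card Z) e
        rw [← h1, Subgroup.card_map_of_injective K.subtype_injective]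
        exact hn
      have h1 := he' _ hPK hPne (le_sup_left.trans hP) (le_sup_right.trans hP)
      intro y hy
      rw [Subgroup.mem_subgroupOf]
      exact Subgroup.mem_inf.mpr ⟨y.2, h1 ⟨y, hy, rfl⟩⟩
    intro k hk
    have hmem : (⟨k, hk⟩ : ↥K) ∈ (K ⊓ Subgroup.centralizer (S : Set G)).subgroupOf K := by
      rw [htop]
      exact Subgroup.mem_top _
    exact (Subgroup.mem_inf.mp (Subgroup.mem_subgroupOf.mp hmem)).2
  obtain ⟨q, hq, hKq⟩ := hKq
  have hqf := Fact.mk hq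
  obtain ⟨kK, hkK⟩ := IsPGroup.iff_card.mp hKq
  have hkK0 : kK ≠ 0 := by
    intro e
    rw [e, pow_zero] at hkK
    exact hK1 (Subgroup.card_eq_one.mp hkK)
  have hq_dvdK : q ∣ Nat.card K := by
    rw [hkK]
    exact dvd_pow_self q hkK0
  have hqp : q ≠ p := by
    intro e
    have h1 : p ∣ Nat.card K := by
      rw [← e]
      exact hq_dvdK
    have h2 := Nat.eq_one_of_dvd_coprimes s.hKp h1 (dvd_refl p)
    exact c.hp.one_lt.ne' h2
  have hRR₀ : R₀ = R := by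
    by_contra hne
    have hne_top : H ⊔ R₀ ≠ ⊤ :=
      c.ne_top (c.nH R₀) ((Nat.mul_lt_mul_left Nat.card_pos).mpr (card_lt_of_le_of_ne c.hR₀R hne))
    have hpl := c.hIH H R₀ le_rfl c.hR₀R le_rfl (c.nH R₀) hne_top
    have hDH : ⁅H, R₀⁆ ≤ H := Subgroup.le_normalizer_iff_commutator_le_left.mp (c.nH R₀)
    obtain ⟨P, hPD, hPp, hHP, hPall⟩ := pclosed_of_ih p hVp (c.nV H) c.hCV le_rfl c.hVH hDH
      (le_normalizer_commutator_left H R₀) hpl
    have hPV : P ≤ V := c.hVmax P (hPD.trans hDH) hPp hHP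
    have hSD : S ≤ ⁅H, R₀⁆ := by
      have h1 : ⁅S, R₀⁆ ≤ ⁅H, R₀⁆ := Subgroup.commutator_mono hSH le_rfl
      rwa [hcommS S le_rfl (c.hR₀R.trans hRS')] at h1
    have hSV : S ≤ V := (hPall S hSD hSp).trans hPV
    exact hS1 (by rw [eq_bot_iff, ← s.hVL]; exact le_inf hSV hSL)
  -- the generator
  obtain ⟨x, hR₀x, hxord⟩ := c.exists_gen
  obtain ⟨r, hr⟩ : ∃ r, r = Nat.card R₀ := ⟨_, rfl⟩
  have hrp : r.Prime := hr ▸ c.hR₀p
  rw [← hr] at hxord
  have hRx : R = Subgroup.zpowers x := by rw [← hRR₀, hR₀x]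
  have hxR : x ∈ R := by
    rw [hRx]
    exact Subgroup.mem_zpowers x
  have hr_dvd : r ∣ Nat.card R := by
    rw [hr]
    exact Subgroup.card_dvd_of_le c.hR₀R
  have hkS0 : kS ≠ 0 := by
    intro e
    rw [e, pow_zero] at hkS
    exact hS1 (Subgroup.card_eq_one.mp hkS)
  have hp_dvd : p ∣ Nat.card H := by
    have h1 : p ∣ Nat.card S := by
      rw [hkS]
      exact dvd_pow_self p hkS0
    exact h1.trans (Subgroup.card_dvd_of_le hSH)
  have hq_dvd : q ∣ Nat.card H := hq_dvdK.trans (Subgroup.card_dvd_of_le hKH)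
  have hpr : p ≠ r := by
    intro e
    have h1 : r ∣ Nat.card H := by
      rw [← e]
      exact hp_dvd
    exact hrp.one_lt.ne' (Nat.eq_one_of_dvd_coprimes c.copHR h1 hr_dvd)
  have hqr : q ≠ r := by
    intro e
    have h1 : r ∣ Nat.card H := by
      rw [← e]
      exact hq_dvd
    exact hrp.one_lt.ne' (Nat.eq_one_of_dvd_coprimes c.copHR h1 hr_dvd)
  have hodd2 : ∀ ℓ : ℕ, ℓ ∣ Nat.card G → ℓ ≠ 2 := by
    intro ℓ hℓ e
    rw [e] at hℓ
    exact c.hodd.not_two_dvd_nat hℓ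
  have hHG : Nat.card H ∣ Nat.card G := Subgroup.card_subgroup_dvd_card H
  have hRG : Nat.card R ∣ Nat.card G := Subgroup.card_subgroup_dvd_card R
  have hgenW : ∀ (W : Subgroup G) (ℓ : ℕ), ℓ.Prime → W ≤ H → IsPGroup ℓ W →
      ∃ c₀ ∈ W, x * c₀ = c₀ * x ∧ ∀ v ∈ W, x * v = v * x → ∃ k : ℕ, v = c₀ ^ k := by
    intro W ℓ hℓ hWH hWℓ
    have := Fact.mk hℓ
    have hU₀ : W ⊓ Subgroup.centralizer (R₀ : Set G) ≤ H ⊓ Subgroup.centralizer (R₀ : Set G) :=
      inf_le_inf_right _ hWH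
    have : IsCyclic ↥(W ⊓ Subgroup.centralizer (R₀ : Set G) : Subgroup G) :=
      isCyclic_of_isPGroup_le_zgroup hU₀ (hWℓ.to_le inf_le_left)
    obtain ⟨c₀, hc₀, hgen⟩ := exists_gen_nat (W ⊓ Subgroup.centralizer (R₀ : Set G))
    obtain ⟨hc₀W, hc₀C⟩ := Subgroup.mem_inf.mp hc₀
    have hc₀x : x * c₀ = c₀ * x := by
      rw [hR₀x] at hc₀C
      exact mem_centralizer_zpowers.mp hc₀C
    refine ⟨c₀, hc₀W, hc₀x, fun v hv hxv => hgen v (Subgroup.mem_inf.mpr ⟨hv, ?_⟩)⟩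
    rw [hR₀x]
    exact mem_centralizer_zpowers.mpr hxv
  have hcrit : Crit p q r V K S x := {
    hp := c.hp
    hq := hq
    hr := hrp
    hpq := hqp.symm
    hpr := hpr
    hqr := hqr
    hp2 := hodd2 p (hp_dvd.trans hHG)
    hq2 := hodd2 q (hq_dvd.trans hHG)
    hr2 := hodd2 r (hr_dvd.trans hRG)
    hVab := c.hVab
    hVp := c.hVexp
    hQ := hKq
    hS := hSp
    hQV := c.nV K
    hSV := c.nV S
    hxV := c.nV ⊤ (Subgroup.mem_top x)
    hSQ := hSK
    hxQ := s.hRK hxR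
    hxS := hRS' hxR
    hx := hxord
    hS1 := hS1
    hfpf := fun t ht hxt => eq_one_of_inf_bot hSfix ht (by
      rw [hR₀x]
      exact mem_centralizer_zpowers.mpr hxt)
    hSmin := fun T hT hxT => by
      by_cases e : T = S
      · exact Or.inr e
      · exact Or.inl (hSmin' T hT (by rw [hRx]; exact Subgroup.zpowers_le.mpr hxT) e)
    hQS := hKS
    hQ1 := hK1
    hfaith := fun a ha hav => by
      have h1 : a ∈ H ⊓ Subgroup.centralizer (V : Set G) :=
        Subgroup.mem_inf.mpr ⟨hKH ha, Subgroup.mem_centralizer_iff.mpr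
          (fun v hv => (hav v hv).symm)⟩
      exact eq_one_of_inf_bot s.hVL (c.hCV h1) (s.hKL ha)
    hCVQ := s.hCVK
    he := fun Q₁ h1 h2 h3 h4 =>
      he' Q₁ h1 h2 h3 (by rw [hRx]; exact Subgroup.zpowers_le.mpr h4)
    hCV := hgenW V p c.hp c.hVH hVp
    hCQ := hgenW K q hq hKH hKq }
  exact hcrit.false

end Ctx

/-- The core case of the theorem, with the inductive hypotheses for proper sub-configurations and
for quotients by nontrivial normal subgroups of `G` contained in `H`. -/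
def Core2 : Prop :=
  ∀ (G : Type u) [Group G] [Finite G] [Group.IsSolvable G], Odd (Nat.card G) →
  ∀ (H R R₀ V : Subgroup G) [H.Normal] [V.Normal] (p : ℕ) [Fact p.Prime],
    (Nat.card H).Coprime H.index → Subgroup.IsComplement' H R → R₀ ≤ R → (Nat.card R₀).Prime →
    IsZGroup ↥(H ⊓ Subgroup.centralizer (R₀ : Set G)) →
    ⁅H, R⁆ = H → V ≤ H → (∀ a ∈ V, ∀ b ∈ V, a * b = b * a) → (∀ a ∈ V, a ^ p = 1) →
    H ⊓ Subgroup.centralizer (V : Set G) ≤ V →
    (∀ P : Subgroup G, P ≤ H → IsPGroup p P → H ≤ Subgroup.normalizer (P : Set G) → P ≤ V) →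
    Cfsg.fittingOf H ≤ V →
    (∀ H₁ R₁ : Subgroup G, H₁ ≤ H → R₁ ≤ R → R₀ ≤ R₁ → R₁ ≤ Subgroup.normalizer (H₁ : Set G) →
        H₁ ⊔ R₁ ≠ ⊤ → Cfsg.PLengthLE p 1 ↥⁅H₁, R₁⁆) →
    (∀ (N : Subgroup G) [N.Normal], N ≤ H → N ≠ ⊥ →
        Cfsg.PLengthLE p 1 (↥H ⧸ N.subgroupOf H)) →
    Cfsg.PLengthLE p 1 ↥H

theorem core2 : Core2.{u} := by
  intro G _ _ _ hodd H R R₀ V hHn hVn p hp hHall hcompl hR₀R hR₀p hZ hHR hVH hVab hVexp hCV hVmax
    hF hIH hIQ
  by_contra hnot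
  have c : Ctx H R R₀ V p := {
    hodd := hodd
    hHn := hHn
    hVn := hVn
    hp := hp.out
    hHall := hHall
    hcompl := hcompl
    hR₀R := hR₀R
    hR₀p := hR₀p
    hZ := hZ
    hHR := hHR
    hVH := hVH
    hVab := hVab
    hVexp := hVexp
    hCV := hCV
    hVmax := hVmax
    hF := hF
    hIH := hIH
    hnot := hnot }
  obtain ⟨L, K, s⟩ := c.step1 hIQ
  by_cases hCVR : V ⊓ Subgroup.centralizer (R₀ : Set G) = ⊥
  · exact c.easy s hCVR
  · exact c.false_of_split s hCVR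

end Cfsg.Agent.Lib.Helper1.PL
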