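import Mathlib
import Cfsg.Prelude.Def_Local

/-! Interface for the `p`-length theorem for `[H, R]` (B&G Theorem 3.6): the statement of the
"core" case, to which the general case is reduced by induction. -/
set_option autoImplicit false
open scoped commutatorElement

namespace Cfsg.Agent.Lib.Helper1.PL

universe u

/-- The core case of the theorem: a configuration in which the standard reductions have been
made (`H = [H, R]`, `V = O_p(H)` elementary abelian and self-centralizing in `H`), with the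
inductive hypothesis available for all proper sub-configurations and for the quotient by `V`. -/
def CoreStatement : Prop :=
  ∀ (G : Type u) [Group G] [Finite G] [Group.IsSolvable G], Odd (Nat.card G) →
  ∀ (H R R₀ V : Subgroup G) [H.Normal] [V.Normal] (p : ℕ) [Fact p.Prime],
    (Nat.card H).Coprime H.index → Subgroup.IsComplement' H R → R₀ ≤ R → (Nat.card R₀).Prime →
    IsZGroup ↥(H ⊓ Subgroup.centralizer (R₀ : Set G)) →
    ⁅H, R⁆ = H → V ≤ H → (∀ a ∈ V, ∀ b ∈ V, a * b = b * a) → (∀ a ∈ V, a ^ p = 1) →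
    H ⊓ Subgroup.centralizer (V : Set G) ≤ V →
    (∀ P : Subgroup G, P ≤ H → IsPGroup p P → H ≤ Subgroup.normalizer (P : Set G) → P ≤ V) →
    (∀ H₁ R₁ : Subgroup G, H₁ ≤ H → R₁ ≤ R → R₀ ≤ R₁ → R₁ ≤ Subgroup.normalizer (H₁ : Set G) →
        H₁ ⊔ R₁ ≠ ⊤ → Cfsg.PLengthLE p 1 ↥⁅H₁, R₁⁆) →
    Cfsg.PLengthLE p 1 ↥(H.map (QuotientGroup.mk' V)) →
    Cfsg.PLengthLE p 1 ↥H

end Cfsg.Agent.Lib.Helper1.PL
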