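import Mathlib
import Cfsg.Prelude.Def_Local
import Cfsg.Agent.Lib.Helper1.PL7
import Cfsg.Agent.Lib.Lead.PLMain

set_option autoImplicit false
set_option maxHeartbeats 4000000
set_option linter.unusedVariables false
set_option linter.unusedSectionVars false
set_option linter.style.longLine false

open scoped commutatorElement

namespace Cfsg.Agent.Lib.Helper1.PL

open Cfsg

universe u

/-- `p`-length one passes from the image of `H` in `G ⧸ N` to `H ⧸ (N ∩ H)`. -/
theorem plen_quot_of_map (p : ℕ) [Fact p.Prime] {G : Type u} [Group G] [Finite G]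
    (H N : Subgroup G) [N.Normal]
    (h : PLengthLE p 1 ↥(H.map (QuotientGroup.mk' N))) :
    PLengthLE p 1 (↥H ⧸ N.subgroupOf H) := by
  have hsurj : Function.Surjective ((QuotientGroup.mk' N).subgroupMap H) :=
    MonoidHom.subgroupMap_surjective _ _
  have hker : ((QuotientGroup.mk' N).subgroupMap H).ker = N.subgroupOf H := by
    ext x
    rw [MonoidHom.mem_ker, Subgroup.mem_subgroupOf]
    constructor
    · intro hx
      have h1 : (QuotientGroup.mk' N) (x : G) = 1 := congrArg Subtype.val hx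
      exact (QuotientGroup.eq_one_iff (x : G)).mp h1
    · intro hx
      apply Subtype.ext
      exact (QuotientGroup.eq_one_iff (x : G)).mpr hx
  have e1 := QuotientGroup.quotientKerEquivOfSurjective _ hsurj
  have e2 := QuotientGroup.quotientMulEquivOfEq hker
  exact Helper2.PLQ.pLengthLE_of_mulEquiv p 1 (e1.symm.trans e2) h

theorem main_step2 (hcore : Core2.{u}) (p : ℕ) [Fact p.Prime]
    {G : Type u} [Group G] [Finite G] [Group.IsSolvable G]
    (hodd : Odd (Nat.card G)) (ih : Lead.PLMain.IHyp.{u} p (Nat.card G))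
    (H R R₀ : Subgroup G) [H.Normal] (hHall : (Nat.card ↥H).Coprime H.index)
    (hR : Subgroup.IsComplement' H R) (hR₀ : R₀ ≤ R) (hR₀p : (Nat.card ↥R₀).Prime)
    (hZ : IsZGroup ↥(H ⊓ Subgroup.centralizer (R₀ : Set G))) :
    PLengthLE p 1 ↥⁅H, R⁆ := by
  have hindex : H.index = Nat.card ↥R := hR.symm.index_eq_card
  have hcopHR : (Nat.card ↥H).Coprime (Nat.card ↥R) := hindex ▸ hHall
  have hnormH : ∀ X : Subgroup G, X ≤ Subgroup.normalizer (H : Set G) := fun X => by
    rw [Subgroup.normalizer_eq_top_iff.mpr inferInstance]; exact le_top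
  by_cases hHR : ⁅H, R⁆ = H
  swap
  · have h1 : ⁅H, R⁆ ≤ H := Subgroup.commutator_le_left H R
    have h4 : R ≤ Subgroup.normalizer ((⁅H, R⁆ : Subgroup G) : Set G) :=
      Subgroup.normalizer_commutator_ge_right H R
    have h5 : ⁅H, R⁆ ⊔ R ≠ ⊤ := by
      intro htop
      have hd : Disjoint ⁅H, R⁆ R := hR.disjoint.mono_left h1
      have hc := Lead.PLMain.card_sup_of_normalizes h4 hd
      rw [htop, Subgroup.card_top, ← hR.card_mul_card] at hc
      have h6 : Nat.card ↥H = Nat.card ↥⁅H, R⁆ := Nat.eq_of_mul_eq_mul_right Nat.card_pos hc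
      exact hHR (Subgroup.eq_of_le_of_card_ge h1 h6.le)
    have key := Lead.PLMain.sub_step p hodd ih H R R₀ hHall hR hR₀ hR₀p hZ ⁅H, R⁆ R h1 le_rfl hR₀ h4 h5
    rw [Helper1.coprime_commutator_commutator R H (hnormH R) hcopHR.symm
      (Or.inr inferInstance)] at key
    exact key
  rw [hHR]
  -- Step 3: `O_{p'}(H) = 1`
  have hchar1 : (pPrimeCore p ↥H).Characteristic := Helper2.pPrimeCore_characteristic p
  obtain ⟨N₀, hN₀⟩ : ∃ N₀ : Subgroup G, N₀ = (pPrimeCore p ↥H).map H.subtype := ⟨_, rfl⟩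
  have hN₀n : N₀.Normal := by
    rw [← Subgroup.normalizer_eq_top_iff, eq_top_iff, hN₀]
    exact (hnormH ⊤).trans
      (Helper1.normalizer_le_normalizer_map_characteristic H (pPrimeCore p ↥H))
  have hN₀H : N₀ ≤ H := by rw [hN₀]; exact Subgroup.map_subtype_le _
  have hN₀c : (Nat.card ↥N₀).Coprime p := by
    rw [hN₀, Subgroup.card_map_of_injective H.subtype_injective]
    exact Helper2.pPrimeCore_card_coprime p
  by_cases hN₀b : N₀ = ⊥
  swap
  · haveI := hN₀n
    have key := Lead.PLMain.quot_step p hodd ih H R R₀ hHall hR hR₀ hR₀p hZ N₀ hN₀H hN₀b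
    rw [hHR] at key
    obtain ⟨K, N, hs, hK⟩ := Lead.PLMain.ser_of_plen p _ key
    have hs' := Lead.PLMain.ser_comap p N₀ hN₀H hs
    apply Lead.PLMain.plen_of_ser p hs'
    rw [Lead.MaxPNil.card_comap_mk']
    exact Nat.Coprime.mul_left hN₀c hK
  have hOp' : pPrimeCore p ↥H = ⊥ := by
    rw [hN₀] at hN₀b
    exact (Subgroup.map_eq_bot_iff_of_injective _ H.subtype_injective).mp hN₀b
  -- Step 4: `V = O_p(H)`
  obtain ⟨V, hV⟩ : ∃ V : Subgroup G, V = (pCore p ↥H).map H.subtype := ⟨_, rfl⟩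
  have hVn : V.Normal := by
    rw [← Subgroup.normalizer_eq_top_iff, eq_top_iff, hV]
    exact (hnormH ⊤).trans
      (Helper1.normalizer_le_normalizer_map_characteristic H (pCore p ↥H))
  have hVH : V ≤ H := by rw [hV]; exact Subgroup.map_subtype_le _
  have hVp : IsPGroup p ↥V := by rw [hV]; exact (Helper1.pCore_isPGroup p).map _
  have hFV : Cfsg.fittingOf H = V := by
    rw [hV]; unfold Cfsg.fittingOf
    rw [Helper1.fittingSubgroup_eq_pCore_of_pPrimeCore_eq_bot p hOp']
  have hCV : H ⊓ Subgroup.centralizer (V : Set G) ≤ V := by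
    have h1 := Helper1.XS.centralizer_fittingOf_le H inferInstance
    rw [hFV] at h1
    exact h1
  have hmaxV : ∀ P : Subgroup G, P ≤ H → IsPGroup p ↥P →
      H ≤ Subgroup.normalizer (P : Set G) → P ≤ V := by
    intro P hPH hPp hPn
    have h1 : (P.subgroupOf H).Normal :=
      (Subgroup.normal_subgroupOf_iff_le_normalizer hPH).mpr hPn
    have h2 : IsPGroup p ↥(P.subgroupOf H) := hPp.comap_subtype
    have h3 := Helper1.le_pCore h1 h2
    intro x hx
    rw [hV]
    exact ⟨⟨x, hPH hx⟩, h3 (Subgroup.mem_subgroupOf.mpr hx), rfl⟩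
  have hnormV : ∀ X : Subgroup G, X ≤ Subgroup.normalizer (V : Set G) := fun X => by
    rw [Subgroup.normalizer_eq_top_iff.mpr hVn]; exact le_top
  -- Step 5: `Φ(V) = 1`
  obtain ⟨Φ, hΦ⟩ : ∃ Φ : Subgroup G, Φ = (frattini ↥V).map V.subtype := ⟨_, rfl⟩
  have hΦn : Φ.Normal := by
    rw [← Subgroup.normalizer_eq_top_iff, eq_top_iff, hΦ]
    exact (hnormV ⊤).trans
      (Helper1.normalizer_le_normalizer_map_characteristic V (frattini ↥V))
  have hΦV : Φ ≤ V := by rw [hΦ]; exact Subgroup.map_subtype_le _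
  by_cases hΦb : Φ = ⊥
  swap
  · haveI := hΦn
    have := hVn
    have key := Lead.PLMain.quot_step p hodd ih H R R₀ hHall hR hR₀ hR₀p hZ Φ (hΦV.trans hVH) hΦb
    rw [hHR] at key
    obtain ⟨K', N', hs, hK'⟩ := Lead.PLMain.ser_of_plen p _ key
    exact Lead.PLMain.frattini_case p H V hVH hVp hCV Φ hΦ K' N' hs hK'
  have hfr : frattini ↥V = ⊥ := by
    rw [hΦ] at hΦb
    exact (Subgroup.map_eq_bot_iff_of_injective _ V.subtype_injective).mp hΦb
  have hcomm : ∀ a ∈ V, ∀ b ∈ V, a * b = b * a := by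
    intro a ha b hb
    have h1 := Helper1.commutator_le_frattini_of_isPGroup p hVp
    rw [hfr, le_bot_iff] at h1
    have h2 : ⁅(⟨a, ha⟩ : ↥V), ⟨b, hb⟩⁆ ∈ commutator ↥V :=
      Subgroup.commutator_mem_commutator (Subgroup.mem_top _) (Subgroup.mem_top _)
    rw [h1, Subgroup.mem_bot, commutatorElement_eq_one_iff_mul_comm] at h2
    exact congrArg Subtype.val h2
  have hexp : ∀ a ∈ V, a ^ p = 1 := by
    intro a ha
    have h1 := Helper1.pow_prime_mem_frattini_of_isPGroup p hVp ⟨a, ha⟩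
    rw [hfr, Subgroup.mem_bot] at h1
    simpa using congrArg Subtype.val h1
  -- Step 6: the quotient by `V`
  by_cases hVb : V = ⊥
  · have hH1 : Nat.card ↥H = 1 := by
      rw [Subgroup.card_eq_one, eq_bot_iff]
      intro x hx
      have h1 : x ∈ V := by
        apply hCV
        refine Subgroup.mem_inf.mpr ⟨hx, ?_⟩
        rw [hVb, Subgroup.mem_centralizer_iff]
        intro h hh
        have h2 : h = 1 := by simpa using hh
        rw [h2, one_mul, mul_one]
      rw [hVb] at h1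
      exact h1
    exact Helper2.PLQ.pLengthLE_mono p (Nat.zero_le 1)
      (Helper2.PLQ.pLengthLE_zero_of_coprime p (by rw [hH1]; exact Nat.coprime_one_left p))
  have := hVn
  have hq := Lead.PLMain.quot_step p hodd ih H R R₀ hHall hR hR₀ hR₀p hZ V hVH hVb
  rw [hHR] at hq
  exact hcore G hodd H R R₀ V p hHall hR hR₀ hR₀p hZ hHR hVH hcomm hexp hCV hmaxV hFV.le
    (fun H₁ R₁ a1 a2 a3 a4 a5 =>
      Lead.PLMain.sub_step p hodd ih H R R₀ hHall hR hR₀ hR₀p hZ H₁ R₁ a1 a2 a3 a4 a5)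
    (fun N _ hNH hN => by
      have hqN := Lead.PLMain.quot_step p hodd ih H R R₀ hHall hR hR₀ hR₀p hZ N hNH hN
      rw [hHR] at hqN
      exact plen_quot_of_map p H N hqN)

theorem main_aux2 (hcore : Core2.{u}) (p : ℕ) [Fact p.Prime] :
    ∀ n : ℕ, Lead.PLMain.IHyp.{u} p n := by
  intro n
  induction n using Nat.strong_induction_on with
  | _ n ih =>
    intro X _ _ _ hlt hoddX H R R₀ _ hHall hR hR₀ hR₀p hZ
    have ih' : Lead.PLMain.IHyp.{u} p (Nat.card X) := ih (Nat.card X) hlt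
    exact main_step2 hcore p hoddX ih' H R R₀ hHall hR hR₀ hR₀p hZ

/-- The `p`-length theorem for `[H, R]` follows from its second core form. -/
theorem main_of_core2 (hcore : Core2.{u}) :
    ∀ (G : Type u) [Group G] [Finite G] [Group.IsSolvable G], Odd (Nat.card G) →
    ∀ (H R R₀ : Subgroup G) [H.Normal], (Nat.card ↥H).Coprime H.index →
      Subgroup.IsComplement' H R → R₀ ≤ R → (Nat.card ↥R₀).Prime →
      IsZGroup ↥(H ⊓ Subgroup.centralizer (R₀ : Set G)) →
      ∀ (p : ℕ) [Fact p.Prime], PLengthLE p 1 ↥⁅H, R⁆ := by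
  intro G _ _ _ hodd H R R₀ _ hHall hR hR₀ hR₀p hZ p _
  exact main_aux2 hcore p (Nat.card G + 1) G (Nat.lt_succ_self _) hodd H R R₀ hHall hR hR₀
    hR₀p hZ

/-- The full `p`-length theorem. -/
theorem s1444 :
    ∀ (G : Type u) [Group G] [Finite G] [Group.IsSolvable G], Odd (Nat.card G) →
    ∀ (H R R₀ : Subgroup G) [H.Normal], (Nat.card ↥H).Coprime H.index →
      Subgroup.IsComplement' H R → R₀ ≤ R → (Nat.card ↥R₀).Prime →
      IsZGroup ↥(H ⊓ Subgroup.centralizer (R₀ : Set G)) →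
      ∀ (p : ℕ) [Fact p.Prime], PLengthLE p 1 ↥⁅H, R⁆ :=
  main_of_core2 core2

end Cfsg.Agent.Lib.Helper1.PL
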