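import Mathlib
import Cfsg.Agent.Lib.Helper1.BT3
import Cfsg.Agent.Lib.Helper1.CoprimeSylow
import Cfsg.Agent.Lib.Helper1.TF6
import Cfsg.Agent.Lib.Helper1.ThA4
import Cfsg.Agent.Lib.Helper7.BGD2
import Cfsg.Agent.Lib.Helper7.CoprimeAbelian
import Cfsg.Agent.Lib.Helper2.CoprimeHall
import Cfsg.Agent.Lib.Helper8.AxB
import Cfsg.Agent.Lib.Lead.PLength
import Cfsg.Agent.S1394
import Cfsg.Agent.S1396
import Cfsg.Agent.S1408
import Cfsg.Agent.S1409
import Cfsg.Agent.S1410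
import Cfsg.Agent.S1412
import Cfsg.Agent.S1414

set_option autoImplicit false
set_option maxHeartbeats 4000000
set_option linter.unusedVariables false
set_option linter.unusedSectionVars false
set_option linter.style.longLine false
set_option linter.unusedSimpArgs false
set_option linter.deprecated false

/-!
# B&G section 11: exceptional maximal subgroups, basic facts (towards Theorem 11.7)
-/

open scoped commutatorElement Pointwise
universe u
namespace Cfsg.Agent.Lib.Helper1.BGF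

open Cfsg Cfsg.Agent.Lib.Helper1

variable {G : Type u} [Group G] [Finite G]

/-- B&G Hypothesis 11.1: `(M, p, A₀, A)` is an exceptional quadruple. -/
def Exc (M : Subgroup G) (p : ℕ) (A₀ A : Subgroup G) : Prop :=
  IsCoatom M ∧ p ∉ sigma M ∧ A ≤ M ∧ IsElementaryAbelian p A ∧ Nat.card A = p ^ 2 ∧
    A₀ ≤ A ∧ Nat.card A₀ = p ∧ Subgroup.normalizer (A₀ : Set G) ≤ M

/-- the "solid" facts of B&G section 11 (11.1-11.6) for all exceptional quadruples, as a
hypothesis bundle -/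
def Solid (G : Type u) [Group G] : Prop :=
  ∀ (M : Subgroup G) (p : ℕ) [Fact p.Prime] (A₀ A : Subgroup G), Exc M p A₀ A →
    sigmaCore M ≠ ⊥ ∧ Group.IsNilpotent (sigmaCore M) ∧
    (∀ P : Sylow p M, IsMulCommutative (P : Subgroup M) ∧
        (A ≤ (P : Subgroup M).map M.subtype →
          (∀ x ∈ (P : Subgroup M).map M.subtype, x ^ p = 1 ↔ x ∈ A) ∧
          ¬ Subgroup.normalizer ((((P : Subgroup M).map M.subtype : Subgroup G)) : Set G) ≤ M)) ∧
    sigmaCore M ⊓ Subgroup.centralizer (A : Set G) = ⊥ ∧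
    (∀ R' : Subgroup G, R' ≤ M → A ≤ Subgroup.normalizer (R' : Set G) →
      (∀ q : ℕ, q.Prime → q ∣ Nat.card R' → q ∉ sigma M ∧ q ≠ p) →
      ⁅⁅R', A⁆, sigmaCore M⁆ = ⊥)

/-! ### basic consequences of exceptionality -/

theorem exc_rank (hG : IsMinSimpleOddOrder G) {M : Subgroup G} {p : ℕ} [hp : Fact p.Prime]
    {A₀ A : Subgroup G} (h : Exc M p A₀ A) :
    PRankLE p 2 ↥M ∧ ¬ PRankLE p 1 ↥M ∧ ¬ IsIdealPrime p G := by
  obtain ⟨hM, hpσ, hAM, hAe, hA2, hA₀A, hA₀p, hN⟩ := h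
  obtain ⟨⟨h1, h2⟩, h3, -⟩ := Cfsg.Agent.S1409.result hG M hM p hpσ A₀ hA₀p hN
  exact ⟨h1, h2, h3⟩

theorem exc_max (hG : IsMinSimpleOddOrder G) {M : Subgroup G} {p : ℕ} [hp : Fact p.Prime]
    {A₀ A : Subgroup G} (h : Exc M p A₀ A) :
    ∀ B : Subgroup G, IsElementaryAbelian p B → A ≤ B → B = A := by
  obtain ⟨h1, h2, h3⟩ := exc_rank hG h
  obtain ⟨hM, hpσ, hAM, hAe, hA2, hA₀A, hA₀p, hN⟩ := h
  exact (Cfsg.Agent.S1408.result hG M hM p hpσ h1 h2).2 A hAM hAe hA2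

theorem exc_cent_le {M : Subgroup G} {p : ℕ} {A₀ A : Subgroup G} (h : Exc M p A₀ A) :
    Subgroup.centralizer (A : Set G) ≤ M := by
  obtain ⟨hM, hpσ, hAM, hAe, hA2, hA₀A, hA₀p, hN⟩ := h
  exact ((Subgroup.centralizer_le hA₀A).trans (Subgroup.centralizer_le_normalizer _)).trans hN

theorem exc_pgroup {M : Subgroup G} {p : ℕ} [hp : Fact p.Prime] {A₀ A : Subgroup G}
    (h : Exc M p A₀ A) : IsPGroup p A :=
  BG9.isPGroup_of_isElementaryAbelian h.2.2.2.1

theorem exc_ne_bot {M : Subgroup G} {p : ℕ} [hp : Fact p.Prime] {A₀ A : Subgroup G}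
    (h : Exc M p A₀ A) : A ≠ ⊥ := by
  intro hA
  have h2 := h.2.2.2.2.1
  rw [hA, Subgroup.card_bot] at h2
  have := hp.out.one_lt
  have h3 : 1 < p ^ 2 := Nat.one_lt_pow (by norm_num) this
  omega

theorem exc_dvd {M : Subgroup G} {p : ℕ} [hp : Fact p.Prime] {A₀ A : Subgroup G}
    (h : Exc M p A₀ A) : p ∣ Nat.card M := by
  have h1 : Nat.card A ∣ Nat.card M := Subgroup.card_dvd_of_le h.2.2.1
  rw [h.2.2.2.2.1] at h1
  exact (dvd_pow_self p (by norm_num)).trans h1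

theorem exc_ne_two (hG : IsMinSimpleOddOrder G) {M : Subgroup G} {p : ℕ} [hp : Fact p.Prime]
    {A₀ A : Subgroup G} (h : Exc M p A₀ A) : p ≠ 2 :=
  BG9.odd_prime_of_dvd hG ((exc_dvd h).trans (Subgroup.card_subgroup_dvd_card M))

theorem exc_comm {M : Subgroup G} {p : ℕ} {A₀ A : Subgroup G} (h : Exc M p A₀ A) :
    A ≤ Subgroup.centralizer (A : Set G) :=
  BG9.le_centralizer_of_isElementaryAbelian h.2.2.2.1 le_rfl

/-- `Ω₁(C_G(A)) = A` -/
theorem exc_omega (hG : IsMinSimpleOddOrder G) {M : Subgroup G} {p : ℕ} [hp : Fact p.Prime]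
    {A₀ A : Subgroup G} (h : Exc M p A₀ A) :
    ∀ x ∈ Subgroup.centralizer (A : Set G), x ^ p = 1 ↔ x ∈ A := by
  intro x hx
  constructor
  · intro hxp
    by_contra hxA
    obtain ⟨h1, h2⟩ := BT.elementary_sup_zpowers h.2.2.2.1 hx hxp hxA
    have h3 := exc_max hG h _ h1 le_sup_left
    apply hxA
    rw [← h3]
    exact (le_sup_right : Subgroup.zpowers x ≤ _) (Subgroup.mem_zpowers x)
  · intro hxA
    exact h.2.2.2.1.2 x hxA

theorem exc_TH (hG : IsMinSimpleOddOrder G) {M : Subgroup G} {p : ℕ} [hp : Fact p.Prime]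
    {A₀ A : Subgroup G} (h : Exc M p A₀ A) : TransitivityHypothesis A := by
  have hpG : p ∣ Nat.card G := (exc_dvd h).trans (Subgroup.card_subgroup_dvd_card M)
  exact Cfsg.Agent.S1396.result hG p hpG A (exc_pgroup h) h.2.2.2.1.1
    (Or.inl ⟨exc_omega hG h, fun H hH => Cfsg.Agent.S1410.result hG p H hH⟩)

theorem exc_rank_center {M : Subgroup G} {p : ℕ} [hp : Fact p.Prime] {A₀ A : Subgroup G}
    (h : Exc M p A₀ A) : ¬ RankLE 1 ↥(A ⊓ Subgroup.centralizer (A : Set G)) := by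
  apply BG9.not_rankLE_of_elementary' hp.out (le_inf le_rfl (exc_comm h)) h.2.2.2.1
  rw [h.2.2.2.2.1]

/-- `p ∤ |M_σ|` -/
theorem exc_coprime (hG : IsMinSimpleOddOrder G) {M : Subgroup G} {p : ℕ} [hp : Fact p.Prime]
    {A₀ A : Subgroup G} (h : Exc M p A₀ A) :
    (Nat.card A).Coprime (Nat.card (sigmaCore M)) := by
  apply Helper7.BGD.coprime_sigmaCore hG h.1
  intro q hq hqA
  rw [h.2.2.2.2.1] at hqA
  have : q = p := (Nat.prime_dvd_prime_iff_eq hq hp.out).mp (hq.dvd_of_dvd_pow hqA)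
  rw [this]; exact h.2.1

/-- transport of exceptionality to another `A` over the same `A₀` -/
theorem exc_of_le {M : Subgroup G} {p : ℕ} {A₀ A A' : Subgroup G} (h : Exc M p A₀ A)
    (hA' : A' ≤ M) (hA'e : IsElementaryAbelian p A') (hA'2 : Nat.card A' = p ^ 2)
    (hA₀ : A₀ ≤ A') : Exc M p A₀ A' :=
  ⟨h.1, h.2.1, hA', hA'e, hA'2, hA₀, h.2.2.2.2.2.2.1, h.2.2.2.2.2.2.2⟩

/-- the Sylow clause of `Solid` in terms of `IsMaxP` -/
theorem solid_sylow (hS : Solid G) {M : Subgroup G} {p : ℕ} [hp : Fact p.Prime]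
    {A₀ A : Subgroup G} (h : Exc M p A₀ A) {P : Subgroup G} (hP : BG8.IsMaxP p P M) :
    (∀ a ∈ P, ∀ b ∈ P, a * b = b * a) ∧
      (A ≤ P → (∀ x ∈ P, x ^ p = 1 ↔ x ∈ A) ∧ ¬ Subgroup.normalizer (P : Set G) ≤ M) := by
  obtain ⟨P', hP'⟩ := hP.exists_sylow
  obtain ⟨-, -, h3, -, -⟩ := hS M p A₀ A h
  obtain ⟨h4, h5⟩ := h3 P'
  rw [hP'] at h5
  refine ⟨?_, h5⟩
  intro a ha b hb
  rw [← hP'] at ha hb
  obtain ⟨a', ha', rfl⟩ := ha
  obtain ⟨b', hb', rfl⟩ := hb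
  have := h4.is_comm.comm ⟨a', ha'⟩ ⟨b', hb'⟩
  have h6 : a' * b' = b' * a' := congrArg Subtype.val this
  show M.subtype a' * M.subtype b' = M.subtype b' * M.subtype a'
  rw [← map_mul, ← map_mul, h6]

/-! ### `σ(M)`-subgroups of `M` lie in `M_σ` -/

theorem le_sigmaCore_of_pi (hG : IsMinSimpleOddOrder G) {M : Subgroup G} (hM : IsCoatom M)
    {Y : Subgroup G} (hYM : Y ≤ M) (hY : ∀ q : ℕ, q.Prime → q ∣ Nat.card Y → q ∈ sigma M) :
    Y ≤ sigmaCore M := by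
  obtain ⟨⟨hWM, hWπ, hWi⟩, -, -⟩ := Helper7.BGA.s1350 hG M hM
  -- `Y` has order coprime to the index of the normal subgroup `M_σ`
  have hn : ((piCore (sigma M) ↥M)).Normal := inferInstance
  have hcop : (Nat.card (Y.subgroupOf M)).Coprime (piCore (sigma M) ↥M).index := by
    rw [card_subgroupOf_of_le hYM]
    by_contra hc
    obtain ⟨q, hq, hqY, hqi⟩ := Nat.Prime.not_coprime_iff_dvd.mp hc
    apply hWi q hq (hY q hq hqY)
    have e : (sigmaCore M).relIndex M = (piCore (sigma M) ↥M).index := by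
      unfold sigmaCore Subgroup.relIndex
      rw [Subgroup.subgroupOf, Subgroup.comap_map_eq_self_of_injective M.subtype_injective]
    rw [e]; exact hqi
  intro y hy
  have h1 : (⟨y, hYM hy⟩ : ↥M) ∈ piCore (sigma M) ↥M := by
    have h2 : orderOf (QuotientGroup.mk' (piCore (sigma M) ↥M) ⟨y, hYM hy⟩) ∣
        (piCore (sigma M) ↥M).index := by
      rw [Subgroup.index_eq_card]; exact orderOf_dvd_natCard _
    have h3 : orderOf (QuotientGroup.mk' (piCore (sigma M) ↥M) ⟨y, hYM hy⟩) ∣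
        Nat.card (Y.subgroupOf M) := by
      have h4 : orderOf (⟨⟨y, hYM hy⟩, Subgroup.mem_subgroupOf.mpr hy⟩ : ↥(Y.subgroupOf M)) ∣
          Nat.card (Y.subgroupOf M) := orderOf_dvd_natCard _
      have h5 : orderOf (QuotientGroup.mk' (piCore (sigma M) ↥M) ⟨y, hYM hy⟩) ∣
          orderOf (⟨y, hYM hy⟩ : ↥M) := orderOf_map_dvd _ _
      have h6 : orderOf (⟨⟨y, hYM hy⟩, Subgroup.mem_subgroupOf.mpr hy⟩ : ↥(Y.subgroupOf M)) =
          orderOf (⟨y, hYM hy⟩ : ↥M) := Subgroup.orderOf_mk _ _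
      rw [h6] at h4
      exact h5.trans h4
    have h7 : orderOf (QuotientGroup.mk' (piCore (sigma M) ↥M) ⟨y, hYM hy⟩) = 1 :=
      Nat.eq_one_of_dvd_coprimes hcop h3 h2
    exact (QuotientGroup.eq_one_iff _).mp (orderOf_eq_one_iff.mp h7)
  exact ⟨⟨y, hYM hy⟩, h1, rfl⟩

theorem sigmaCore_le (M : Subgroup G) : sigmaCore M ≤ M := Subgroup.map_subtype_le _

theorem le_normalizer_sigmaCore (M : Subgroup G) :
    M ≤ Subgroup.normalizer (sigmaCore M : Set G) := BG7.le_normalizer_piCoreOf (sigma M) M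

theorem sigmaCore_pi (M : Subgroup G) :
    ∀ q : ℕ, q.Prime → q ∣ Nat.card (sigmaCore M) → q ∈ sigma M := BG7.piCoreOf_pi (sigma M) M

end Cfsg.Agent.Lib.Helper1.BGF
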