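import Mathlib
import Cfsg.Agent.Lib.Helper1.BGF1

set_option autoImplicit false
set_option maxHeartbeats 4000000
set_option linter.unusedVariables false
set_option linter.unusedSectionVars false
set_option linter.style.longLine false
set_option linter.unusedSimpArgs false
set_option linter.deprecated false
set_option linter.style.haveILetI false

/-!
# B&G section 11: general lemmas for Theorem 11.7
-/

open scoped commutatorElement Pointwise
universe u
namespace Cfsg.Agent.Lib.Helper1.BGF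

open Cfsg Cfsg.Agent.Lib.Helper1

variable {G : Type u} [Group G] [Finite G]

/-! ### an elementary abelian `p`-group acting on a group of prime order -/

theorem prime_action {p r : ℕ} [hp : Fact p.Prime] [hr : Fact r.Prime] {A U : Subgroup G}
    (hAe : IsElementaryAbelian p A) (hU : Nat.card U = r)
    (hAU : A ≤ Subgroup.normalizer (U : Set G))
    (hnc : ¬ A ≤ Subgroup.centralizer (U : Set G)) :
    p ∣ r - 1 ∧ Nat.card A = p * Nat.card ↥(A ⊓ Subgroup.centralizer (U : Set G)) := by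
  classical
  obtain ⟨φ, hφ⟩ : ∃ φ : ↥A →* MulAut ↥U,
      ∀ (a : ↥A) (u : ↥U), ((φ a u : ↥U) : G) = (a : G) * (u : G) * (a : G)⁻¹ :=
    ⟨TF.zeta U A hAU, TF.zeta_apply U A hAU⟩
  haveI hUp : Fact (Nat.card ↥U).Prime := ⟨hU ▸ hr.out⟩
  haveI hUc : IsCyclic ↥U := isCyclic_of_prime_card rfl
  haveI hZc : IsCyclic (ZMod (Nat.card ↥U))ˣ := inferInstance
  haveI hMc : IsCyclic (MulAut ↥U) :=
    isCyclic_of_surjective (IsCyclic.mulAutMulEquiv ↥U).symm (MulEquiv.surjective _)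
  haveI hRc : IsCyclic ↥φ.range := inferInstance
  -- exponent of the range divides `p`
  have hexp : Monoid.exponent ↥φ.range ∣ p := by
    apply Monoid.exponent_dvd_of_forall_pow_eq_one
    rintro ⟨_, a, rfl⟩
    apply Subtype.ext
    rw [Subgroup.coe_pow, Subgroup.coe_one]
    show φ a ^ p = 1
    rw [← map_pow]
    have : a ^ p = 1 := by
      apply Subtype.ext
      rw [Subgroup.coe_pow, Subgroup.coe_one]
      exact hAe.2 a a.2
    rw [this, map_one]
  rw [IsCyclic.exponent_eq_card] at hexp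
  -- the range is nontrivial
  have hne : Nat.card ↥φ.range ≠ 1 := by
    intro h1
    apply hnc
    intro a ha
    rw [Subgroup.mem_centralizer_iff]
    intro u hu
    have h2 : φ.range = ⊥ := Subgroup.card_eq_one.mp h1
    have h3 : φ ⟨a, ha⟩ = 1 := by
      have : φ ⟨a, ha⟩ ∈ φ.range := ⟨_, rfl⟩
      rw [h2, Subgroup.mem_bot] at this
      exact this
    have h4 := hφ ⟨a, ha⟩ ⟨u, hu⟩
    rw [h3] at h4
    simp only [MulAut.one_apply] at h4
    have h5 : a * u * a⁻¹ = u := h4.symm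
    calc u * a = (a * u * a⁻¹) * a := by rw [h5]
      _ = a * u := by group
  have hcr : Nat.card ↥φ.range = p := by
    rcases (Nat.dvd_prime hp.out).mp hexp with h | h
    · exact absurd h hne
    · exact h
  -- divisibility
  have hdvd : p ∣ r - 1 := by
    have h1 : Nat.card ↥φ.range ∣ Nat.card (MulAut ↥U) := Subgroup.card_subgroup_dvd_card _
    rw [IsCyclic.card_mulAut, hU, Nat.totient_prime hr.out, hcr] at h1
    exact h1
  refine ⟨hdvd, ?_⟩
  -- the kernel
  have hker : φ.ker = (A ⊓ Subgroup.centralizer (U : Set G)).subgroupOf A := by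
    ext a
    rw [MonoidHom.mem_ker, Subgroup.mem_subgroupOf, Subgroup.mem_inf]
    constructor
    · intro h
      refine ⟨a.2, ?_⟩
      rw [Subgroup.mem_centralizer_iff]
      intro u hu
      have h4 := hφ a ⟨u, hu⟩
      rw [h] at h4
      simp only [MulAut.one_apply] at h4
      have h5 : (a : G) * u * (a : G)⁻¹ = u := h4.symm
      calc u * (a : G) = ((a : G) * u * (a : G)⁻¹) * (a : G) := by rw [h5]
        _ = (a : G) * u := by group
    · rintro ⟨-, h⟩
      ext u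
      rw [hφ]
      simp only [MulAut.one_apply]
      have := Subgroup.mem_centralizer_iff.mp h u u.2
      calc (a : G) * (u : G) * (a : G)⁻¹ = ((u : G) * (a : G)) * (a : G)⁻¹ := by rw [this]
        _ = u := by group
  have h1 : Nat.card ↥A = Nat.card ↥φ.ker * φ.ker.index := (Subgroup.card_mul_index _).symm
  rw [Subgroup.index_ker, hcr, hker, card_subgroupOf_of_le inf_le_left] at h1
  rw [h1, mul_comm]

/-! ### `r`-subgroups and the `p'`-core, `p < r` (from S1414) -/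

theorem rsub_le_core (hG : IsMinSimpleOddOrder G) {H : Subgroup G} (hH : IsCoatom H) {p r : ℕ}
    [hp : Fact p.Prime] [hr : Fact r.Prime] (hpH : p ∣ Nat.card H) (hni : ¬ IsIdealPrime p G)
    (hpr : p < r) {Y : Subgroup G} (hYH : Y ≤ H) (hY : IsPGroup r Y) :
    Y ≤ piCoreOf (BG8.ne p) H := by
  have h14 := (Cfsg.Agent.S1414.result hG H hH).2.2.2.2 p hp.out hpH (fun hβ => hni hβ.2)
  have hidx : (pPrimeCore p ↥H).index.Coprime r := by
    rw [Nat.coprime_comm, Nat.Prime.coprime_iff_not_dvd hr.out]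
    intro hd
    have := h14.2.2 r hr.out hd
    omega
  have h1 : Y.subgroupOf H ≤ pPrimeCore p ↥H :=
    Lead.PLength.le_of_isPGroup_of_index_coprime hidx hY.comap_subtype
  rw [BG9.piCoreOf_ne_eq_map]
  intro y hy
  exact ⟨⟨y, hYH hy⟩, h1 (Subgroup.mem_subgroupOf.mpr hy), rfl⟩

theorem exists_inv_sylow (hG : IsMinSimpleOddOrder G) {H : Subgroup G} (hH : IsCoatom H)
    {p r : ℕ} [hp : Fact p.Prime] [hr : Fact r.Prime] (hpH : p ∣ Nat.card H)
    (hni : ¬ IsIdealPrime p G) (hpr : p < r) {A Y : Subgroup G} (hAH : A ≤ H)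
    (hA : IsPGroup p A) (hYH : Y ≤ H) (hY : IsPGroup r Y)
    (hAY : A ≤ Subgroup.normalizer (Y : Set G)) :
    ∃ S : Subgroup G, BG8.IsMaxP r S H ∧ Y ≤ S ∧ A ≤ Subgroup.normalizer (S : Set G) := by
  have hYL := rsub_le_core hG hH hpH hni hpr hYH hY
  have hLH : piCoreOf (BG8.ne p) H ≤ H := BG7.piCoreOf_le _ _
  have hAL : A ≤ Subgroup.normalizer (piCoreOf (BG8.ne p) H : Set G) :=
    hAH.trans (BG7.le_normalizer_piCoreOf _ _)
  have hcop : (Nat.card A).Coprime (Nat.card (piCoreOf (BG8.ne p) H)) := by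
    obtain ⟨k, hk⟩ := IsPGroup.iff_card.mp hA
    rw [hk]
    exact Nat.Coprime.pow_left k (BG8.piCoreOf_ne_coprime p H).symm
  haveI hHs : Group.IsSolvable ↥H := BG7.isSolvable_of_ne_top hG hH.1
  have hLs : Group.IsSolvable ↥(piCoreOf (BG8.ne p) H) := isSolvable_of_le hLH
  obtain ⟨P, hYP, hAP⟩ := coprime_invariant_le_sylow A (piCoreOf (BG8.ne p) H) hAL hcop
    (Or.inr hLs) r Y hYL hY hAY
  have hPL := BG8.isMaxP_of_sylow P
  refine ⟨_, ⟨hPL.1.trans hLH, hPL.2.1, ?_⟩, hYP, hAP⟩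
  intro T hT hST hTH
  exact hPL.2.2 T hT hST (rsub_le_core hG hH hpH hni hpr hTH hT)

/-! ### the normal Sylow subgroups of a nilpotent `M_σ` -/

theorem exists_normal_sylow (hG : IsMinSimpleOddOrder G) {M : Subgroup G} (hM : IsCoatom M)
    (hnil : Group.IsNilpotent (sigmaCore M)) {q : ℕ} [hq : Fact q.Prime] (hqσ : q ∈ sigma M) :
    ∃ Q : Subgroup G, BG8.IsMaxP q Q ⊤ ∧ Q ≤ sigmaCore M ∧
      Subgroup.normalizer (Q : Set G) = M ∧ Q ≠ ⊥ := by
  classical
  obtain ⟨P⟩ : Nonempty (Sylow q ↥M) := inferInstance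
  obtain ⟨Q, hQdef⟩ : ∃ Q : Subgroup G, Q = (P : Subgroup ↥M).map M.subtype := ⟨_, rfl⟩
  have hQM : BG8.IsMaxP q Q M := hQdef ▸ BG8.isMaxP_of_sylow P
  obtain ⟨-, hQtop, hNQ⟩ := BT.sigma_sylow_le_commutator hG hM hqσ hQM
  have hQW : Q ≤ sigmaCore M := by
    rw [hQdef]
    exact Subgroup.map_mono (Helper7.BGA.sigma_sylow_le_piCore hG hM hqσ P)
  have hQ1 : Q ≠ ⊥ := by
    intro hQ
    have hqM : q ∣ Nat.card ↥M := hqσ.2.1
    obtain ⟨g, hg⟩ := exists_prime_orderOf_dvd_card' q hqM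
    have hT : IsPGroup q (Subgroup.zpowers (g : G)) := by
      apply IsPGroup.of_card (n := 1)
      rw [Nat.card_zpowers, pow_one, ← hg]
      exact (Subgroup.orderOf_coe g).symm ▸ rfl
    have h1 := hQM.2.2 _ hT (hQ ▸ bot_le) (by rw [Subgroup.zpowers_le]; exact g.2)
    rw [hQ] at h1
    have h2 : (g : G) = 1 := by
      have : (g : G) ∈ Subgroup.zpowers (g : G) := Subgroup.mem_zpowers _
      rw [h1, Subgroup.mem_bot] at this
      exact this
    have h3 : g = 1 := Subtype.ext h2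
    rw [h3, orderOf_one] at hg
    exact hq.out.one_lt.ne hg
  refine ⟨Q, hQtop, hQW, ?_, hQ1⟩
  apply le_antisymm hNQ
  -- `M` normalizes `Q`
  have hQWm : BG8.IsMaxP q Q (sigmaCore M) := hQM.mono hQW (sigmaCore_le M)
  obtain ⟨Q', hQ'⟩ := hQWm.exists_sylow
  have h03 : Group.IsNilpotent ↥(sigmaCore M) ↔ ∀ (p : ℕ) (_hp : Fact p.Prime)
      (P : Sylow p ↥(sigmaCore M)), (P : Subgroup ↥(sigmaCore M)).Normal :=
    isNilpotent_of_finite_tfae.out 0 3
  have hQ'n : (Q' : Subgroup ↥(sigmaCore M)).Normal := h03.mp hnil q hq Q'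
  have hWN : sigmaCore M ≤ Subgroup.normalizer (Q : Set G) := by
    apply le_normalizer_of_conj_mem
    intro n hn x hx
    rw [← hQ'] at hx ⊢
    obtain ⟨x', hx', rfl⟩ := hx
    exact ⟨⟨n, hn⟩ * x' * ⟨n, hn⟩⁻¹, hQ'n.conj_mem x' hx' ⟨n, hn⟩, by simp⟩
  intro m hm
  have h1 : BG8.IsMaxP q (BG7.cj m Q) M := BT.isMaxP_cj_of_mem hQM hm
  have h2 : BG7.cj m Q ≤ sigmaCore M := by
    intro x hx
    rw [BG7.mem_cj] at hx
    have h3 := hQW hx
    have h4 := (Subgroup.mem_normalizer_iff.mp (le_normalizer_sigmaCore M hm) (m⁻¹ * x * m)).mp h3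
    have e : m * (m⁻¹ * x * m) * m⁻¹ = x := by group
    rwa [e] at h4
  have h3 : BG8.IsMaxP q (BG7.cj m Q) (sigmaCore M) := h1.mono h2 (sigmaCore_le M)
  obtain ⟨n, hn, hnQ⟩ := BT.isMaxP_conj hQWm h3
  have h4 : BG7.cj n Q = Q := BG7.cj_eq_of_mem_normalizer (hWN hn)
  rw [h4] at hnQ
  exact BG7.mem_normalizer_of_cj_eq hnQ

/-! ### `{p, r}`-subgroups of `H_σ` for non-ideal primes are nilpotent -/

theorem commute_in_sigmaCore (hG : IsMinSimpleOddOrder G) {H : Subgroup G} (hH : IsCoatom H)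
    {p r : ℕ} [hp : Fact p.Prime] [hr : Fact r.Prime] (hpr : p ≠ r)
    (hnp : ¬ IsIdealPrime p G) (hnr : ¬ IsIdealPrime r G) {A U : Subgroup G}
    (hA : IsPGroup p A) (hU : IsPGroup r U) (hAW : A ≤ sigmaCore H) (hUW : U ≤ sigmaCore H)
    (hAU : A ≤ Subgroup.normalizer (U : Set G)) :
    A ≤ Subgroup.centralizer (U : Set G) := by
  classical
  obtain ⟨Hn, ⟨hHnW, hHnπ, hHni⟩, hHnn⟩ := (Cfsg.Agent.S1414.result hG H hH).2.2.2.1
  haveI hHs : Group.IsSolvable ↥H := BG7.isSolvable_of_ne_top hG hH.1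
  haveI hWs : Group.IsSolvable ↥(sigmaCore H) := isSolvable_of_le (sigmaCore_le H)
  -- the order of `U ⊔ A`
  have hdisj : Disjoint U A := by
    apply Subgroup.disjoint_of_coprime_natCard
    obtain ⟨k, hk⟩ := IsPGroup.iff_card.mp hA
    obtain ⟨l, hl⟩ := IsPGroup.iff_card.mp hU
    rw [hk, hl]
    exact Nat.Coprime.pow _ _ ((Nat.coprime_primes hr.out hp.out).mpr hpr.symm)
  obtain ⟨hn, hc⟩ := isComplement'_subgroupOf_sup hAU hdisj
  have hcard : Nat.card ↥(U ⊔ A) = Nat.card U * Nat.card A := by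
    have := hc.card_mul_card
    rw [card_subgroupOf_of_le le_sup_left, card_subgroupOf_of_le le_sup_right] at this
    exact this.symm
  have hYW : U ⊔ A ≤ sigmaCore H := sup_le hUW hAW
  -- coprimality with the index of the Hall subgroup
  have hidx : ∀ q : ℕ, q.Prime → q ∣ (Hn.subgroupOf (sigmaCore H)).index →
      q ∈ beta H := by
    intro q hq hqi
    by_contra hqβ
    exact hHni q hq ⟨hq, hqβ⟩ hqi
  have hcopK : (Nat.card ((U ⊔ A).subgroupOf (sigmaCore H))).Coprime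
      (Hn.subgroupOf (sigmaCore H)).index := by
    rw [card_subgroupOf_of_le hYW, hcard]
    by_contra hcc
    obtain ⟨q, hq, hqY, hqi⟩ := Nat.Prime.not_coprime_iff_dvd.mp hcc
    have hqβ := hidx q hq hqi
    rcases (Nat.Prime.dvd_mul hq).mp hqY with h | h
    · obtain ⟨l, hl⟩ := IsPGroup.iff_card.mp hU
      rw [hl] at h
      have : q = r := (Nat.prime_dvd_prime_iff_eq hq hr.out).mp (hq.dvd_of_dvd_pow h)
      rw [this] at hqβ
      exact hnr hqβ.2
    · obtain ⟨k, hk⟩ := IsPGroup.iff_card.mp hA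
      rw [hk] at h
      have : q = p := (Nat.prime_dvd_prime_iff_eq hq hp.out).mp (hq.dvd_of_dvd_pow h)
      rw [this] at hqβ
      exact hnp hqβ.2
  have hcopH : (Nat.card (Hn.subgroupOf (sigmaCore H))).Coprime
      (Hn.subgroupOf (sigmaCore H)).index := by
    rw [card_subgroupOf_of_le hHnW]
    by_contra hcc
    obtain ⟨q, hq, hqY, hqi⟩ := Nat.Prime.not_coprime_iff_dvd.mp hcc
    exact (hHnπ q hq hqY).2 (hidx q hq hqi)
  obtain ⟨g, hg⟩ := hall_dominance (Hn.subgroupOf (sigmaCore H))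
    ((U ⊔ A).subgroupOf (sigmaCore H)) hcopH hcopK
  -- `U ⊔ A` lies in the nilpotent subgroup `cj g Hn`
  have hsub : U ⊔ A ≤ BG7.cj (g : G) Hn := by
    intro y hy
    have h1 : (⟨y, hYW hy⟩ : ↥(sigmaCore H)) ∈ MulAut.conj g • Hn.subgroupOf (sigmaCore H) :=
      hg (Subgroup.mem_subgroupOf.mpr hy)
    rw [Subgroup.mem_pointwise_smul_iff_inv_smul_mem, MulAut.smul_def, MulAut.conj_inv_apply,
      Subgroup.mem_subgroupOf] at h1
    rw [BG7.mem_cj]
    simpa using h1
  have hnil : Group.IsNilpotent ↥(BG7.cj (g : G) Hn) := by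
    have e : ↥Hn ≃* ↥(BG7.cj (g : G) Hn) :=
      Subgroup.equivMapOfInjective Hn (MulAut.conj (g : G)).toMonoidHom (MulAut.conj (g : G)).injective
    haveI := hHnn
    exact isNilpotent_of_ker_le_center e.symm.toMonoidHom
      (by rw [(MonoidHom.ker_eq_bot_iff _).mpr e.symm.injective]; exact bot_le)
  intro a ha
  rw [Subgroup.mem_centralizer_iff]
  intro u hu
  have hab : (orderOf u).Coprime (orderOf a) := by
    obtain ⟨k, hk⟩ := (IsPGroup.iff_orderOf.mp hA) ⟨a, ha⟩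
    obtain ⟨l, hl⟩ := (IsPGroup.iff_orderOf.mp hU) ⟨u, hu⟩
    rw [Subgroup.orderOf_mk] at hk hl
    rw [hk, hl]
    exact Nat.Coprime.pow _ _ ((Nat.coprime_primes hr.out hp.out).mpr hpr.symm)
  exact Lead.NilpotentCoprime.commute_of_coprime_of_mem _ hnil
    (hsub ((le_sup_left : U ≤ U ⊔ A) hu)) (hsub ((le_sup_right : A ≤ U ⊔ A) ha)) hab

end Cfsg.Agent.Lib.Helper1.BGF
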