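import Mathlib
import Cfsg.Agent.Lib.Helper1.BGF2

set_option autoImplicit false
set_option maxHeartbeats 4000000
set_option linter.unusedVariables false
set_option linter.unusedSectionVars false
set_option linter.style.longLine false
set_option linter.unusedSimpArgs false
set_option linter.deprecated false
set_option linter.style.haveILetI false

/-!
# B&G Theorem 11.7, the reduction: `M_σ A ⊴ M` as soon as `A` centralizes all `O_r(M)`,
`r ∉ σ(M) ∪ {p}`
-/

open scoped commutatorElement Pointwise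
universe u
namespace Cfsg.Agent.Lib.Helper1.BGF

open Cfsg Cfsg.Agent.Lib.Helper1

variable {G : Type u} [Group G] [Finite G]

omit [Finite G] in
theorem card_sup_eq_mul {A D : Subgroup G} (hAD : A ≤ Subgroup.normalizer (D : Set G))
    (hdisj : Disjoint D A) : Nat.card ↥(D ⊔ A) = Nat.card D * Nat.card A := by
  obtain ⟨hn, hc⟩ := isComplement'_subgroupOf_sup hAD hdisj
  have := hc.card_mul_card
  rw [card_subgroupOf_of_le le_sup_left, card_subgroupOf_of_le le_sup_right] at this
  exact this.symm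

omit [Finite G] in
theorem mem_normalizer_sup {X Y : Subgroup G} {x : G}
    (hX : x ∈ Subgroup.normalizer (X : Set G)) (hY : x ∈ Subgroup.normalizer (Y : Set G)) :
    x ∈ Subgroup.normalizer ((X ⊔ Y : Subgroup G) : Set G) := by
  rw [Subgroup.mem_normalizer_iff_map_conj_eq] at hX hY ⊢
  rw [Subgroup.map_sup, hX, hY]

omit [Finite G] in
theorem le_normalizer_sup {X Y Z : Subgroup G}
    (hX : Z ≤ Subgroup.normalizer (X : Set G)) (hY : Z ≤ Subgroup.normalizer (Y : Set G)) :
    Z ≤ Subgroup.normalizer ((X ⊔ Y : Subgroup G) : Set G) :=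
  fun z hz => mem_normalizer_sup (hX hz) (hY hz)

/-- a subgroup of `F(M)` whose primes `s` all satisfy `A ≤ C(O_s(M))` is centralized by `A` -/
theorem le_centralizer_of_le_fittingOf {M A X : Subgroup G} (hX : X ≤ fittingOf M)
    (h : ∀ s : ℕ, s.Prime → s ∣ Nat.card X →
      A ≤ Subgroup.centralizer (piCoreOf {s} M : Set G)) :
    X ≤ Subgroup.centralizer (A : Set G) := by
  intro x hx
  apply Helper7.HallD.mem_of_primePow_mem (Subgroup.centralizer (A : Set G)) (orderOf x) x rfl
  rintro z hz ⟨s, e, hs, hze⟩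
  haveI : Fact s.Prime := ⟨hs⟩
  by_cases he : e = 0
  · rw [he, pow_zero, orderOf_eq_one_iff] at hze
    rw [hze]; exact Subgroup.one_mem _
  have hzX : z ∈ X := (Subgroup.zpowers_le.mpr hx) hz
  have hsX : s ∣ Nat.card X := by
    have h1 : orderOf z ∣ Nat.card X := by
      have := orderOf_dvd_natCard (⟨z, hzX⟩ : ↥X)
      rwa [Subgroup.orderOf_mk] at this
    rw [hze] at h1
    exact (dvd_pow_self s he).trans h1
  have hzp : IsPGroup s (Subgroup.zpowers z) := by
    apply IsPGroup.of_card (n := e)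
    rw [Nat.card_zpowers, hze]
  have h2 : Subgroup.zpowers z ≤ piCoreOf {s} M :=
    BG8.le_Oq_of_le_fittingOf ((Subgroup.zpowers_le.mpr hzX).trans hX) hzp
  have h3 := BG9.le_centralizer_symm (h s hs hsX)
  exact h3 (h2 (Subgroup.mem_zpowers z))

/-- B&G 11.7, the reduction -/
theorem reduction (hG : IsMinSimpleOddOrder G) (hS : Solid G) {M : Subgroup G} {p : ℕ}
    [hp : Fact p.Prime] {A₀ A : Subgroup G} (h : Exc M p A₀ A)
    (hH : ∀ r : ℕ, r.Prime → r ∉ sigma M → r ≠ p →
      A ≤ Subgroup.centralizer (piCoreOf {r} M : Set G)) :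
    M ≤ Subgroup.normalizer ((sigmaCore M ⊔ A : Subgroup G) : Set G) := by
  classical
  obtain ⟨hW1, hWnil, hSyl, hCWA, hS4⟩ := hS M p A₀ A h
  have hM : IsCoatom M := h.1
  have hpσ : p ∉ sigma M := h.2.1
  have hAM : A ≤ M := h.2.2.1
  have hAe : IsElementaryAbelian p A := h.2.2.2.1
  have hA2 : Nat.card A = p ^ 2 := h.2.2.2.2.1
  have hAp : IsPGroup p A := exc_pgroup h
  haveI hMs : Group.IsSolvable ↥M := BG7.isSolvable_of_ne_top hG hM.1
  obtain ⟨⟨hWM, hWπ, hWi⟩, -, -⟩ := Helper7.BGA.s1350 hG M hM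
  obtain ⟨W, hWdef⟩ : ∃ W : Subgroup G, W = sigmaCore M := ⟨_, rfl⟩
  obtain ⟨L, hLdef⟩ : ∃ L : Subgroup G, L = piCoreOf (BG8.ne p) M := ⟨_, rfl⟩
  rw [← hWdef] at hW1 hWnil hCWA hS4 hWM hWπ hWi ⊢
  have hMW : M ≤ Subgroup.normalizer (W : Set G) := hWdef ▸ le_normalizer_sigmaCore M
  have hLM : L ≤ M := hLdef ▸ BG7.piCoreOf_le _ _
  have hML : M ≤ Subgroup.normalizer (L : Set G) := hLdef ▸ BG7.le_normalizer_piCoreOf _ _
  have hLcop : (Nat.card L).Coprime p := hLdef ▸ BG8.piCoreOf_ne_coprime p M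
  -- `W ≤ L`
  have hWL : W ≤ L := by
    rw [hLdef]
    apply BG7.le_piCoreOf hWM hMW
    intro q hq hqW
    show q ≠ p
    intro hqp
    exact hpσ (hqp ▸ hWπ q hq hqW)
  have hAL : A ≤ Subgroup.normalizer (L : Set G) := hAM.trans hML
  have hcopAL : (Nat.card A).Coprime (Nat.card L) := by
    rw [hA2]; exact Nat.Coprime.pow_left 2 hLcop.symm
  have hLs : Group.IsSolvable ↥L := isSolvable_of_le hLM
  -- the invariant complement `K`
  have hcardL : Nat.card L = W.relIndex L * Nat.card W := by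
    have := (W.subgroupOf L).card_mul_index
    rw [card_subgroupOf_of_le hWL] at this
    rw [mul_comm]; exact this.symm
  have hrelσ : ∀ q : ℕ, q.Prime → q ∣ W.relIndex L → q ∉ sigma M ∧ q ≠ p := by
    intro q hq hqd
    constructor
    · intro hqσ
      apply hWi q hq hqσ
      rw [← Subgroup.relIndex_mul_relIndex W L M hWL hLM]
      exact Dvd.dvd.mul_right hqd _
    · intro hqp
      have h1 : q ∣ Nat.card L := by rw [hcardL]; exact Dvd.dvd.mul_right hqd _
      rw [hqp] at h1
      have := Nat.Coprime.eq_one_of_dvd hLcop.symm h1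
      exact hp.out.one_lt.ne' this
  have hmn : (W.relIndex L).Coprime (Nat.card W) := by
    by_contra hcc
    obtain ⟨q, hq, hq1, hq2⟩ := Nat.Prime.not_coprime_iff_dvd.mp hcc
    exact (hrelσ q hq hq1).1 (hWπ q hq hq2)
  obtain ⟨K, hKL, hKcard, hAK⟩ := Helper2.coprime_exists_invariant_hall A L hAL hcopAL hLs
    hcardL hmn
  have hKM : K ≤ M := hKL.trans hLM
  have hKπ : ∀ q : ℕ, q.Prime → q ∣ Nat.card K → q ∉ sigma M ∧ q ≠ p := by
    intro q hq hqK
    rw [hKcard] at hqK
    exact hrelσ q hq hqK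
  -- `L = W ⊔ K`
  have hdisjWK : Disjoint W K := by
    apply Subgroup.disjoint_of_coprime_natCard
    rw [hKcard]; exact hmn.symm
  have hKW : K ≤ Subgroup.normalizer (W : Set G) := hKM.trans hMW
  have hLeq : W ⊔ K = L := by
    apply Subgroup.eq_of_le_of_card_ge (sup_le hWL hKL)
    rw [card_sup_eq_mul hKW hdisjWK, hKcard, hcardL, mul_comm]
  -- `X = [K, A]`
  obtain ⟨X, hXdef⟩ : ∃ X : Subgroup G, X = ⁅K, A⁆ := ⟨_, rfl⟩
  have hXK : X ≤ K := hXdef ▸ Subgroup.le_normalizer_iff_commutator_le_left.mp hAK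
  have hXW : X ≤ Subgroup.centralizer (W : Set G) := by
    rw [hXdef, ← Subgroup.commutator_eq_bot_iff_le_centralizer]
    exact hS4 K hKM hAK hKπ
  -- `X` centralizes every `O_q(M)`
  have hXO : ∀ (q : ℕ) [Fact q.Prime], X ≤ Subgroup.centralizer (piCoreOf {q} M : Set G) := by
    intro q hq
    by_cases hqσ : q ∈ sigma M
    · have h1 : piCoreOf {q} M ≤ W := by
        rw [hWdef]
        exact BG8.piCoreOf_mono (fun t ht => by
          have : t = q := ht
          rw [this]; exact hqσ) M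
      exact hXW.trans (Subgroup.centralizer_le h1)
    by_cases hqp : q = p
    · have h1 : L ≤ Subgroup.centralizer (piCoreOf {q} M : Set G) := by
        rw [hLdef]
        apply BG8.piCoreOf_commute M
        intro t ht1 ht2
        have h2 : t = q := ht2
        exact ht1 (h2.trans hqp)
      exact (hXK.trans hKL).trans h1
    · have hAO := hH q hq.out hqσ hqp
      have hKO : K ≤ Subgroup.normalizer (piCoreOf {q} M : Set G) :=
        hKM.trans (BG7.le_normalizer_piCoreOf _ _)
      have h1 : ⁅A, piCoreOf {q} M⁆ = ⊥ :=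
        Subgroup.commutator_eq_bot_iff_le_centralizer.mpr hAO
      have h2 : ⁅piCoreOf {q} M, A⁆ = ⊥ := by rw [Subgroup.commutator_comm]; exact h1
      have h3 : ⁅⁅A, piCoreOf {q} M⁆, K⁆ = ⊥ := by
        rw [h1]; exact Subgroup.commutator_bot_left K
      have h4 : ⁅⁅piCoreOf {q} M, K⁆, A⁆ = ⊥ := by
        rw [eq_bot_iff, ← h2]
        exact Subgroup.commutator_mono
          (Subgroup.le_normalizer_iff_commutator_le_left.mp hKO) le_rfl
      have h5 := Subgroup.commutator_commutator_eq_bot_of_rotate h3 h4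
      rw [hXdef]
      exact Subgroup.commutator_eq_bot_iff_le_centralizer.mp h5
  -- `X ≤ F(M)`
  have hXF : X ≤ fittingOf M := by
    have h1 : fittingOf M ≤ Subgroup.centralizer (X : Set G) := by
      apply BG8.le_of_forall_inf_Oq_le le_rfl
      intro q hq
      exact inf_le_right.trans (BG9.le_centralizer_symm (hXO q))
    have h2 : X ≤ M ⊓ Subgroup.centralizer (fittingOf M : Set G) :=
      le_inf (hXK.trans hKM) (BG9.le_centralizer_symm h1)
    exact h2.trans (BG8.centralizer_fittingOf_le M)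
  -- `A` centralizes `X`
  have hXA : X ≤ Subgroup.centralizer (A : Set G) := by
    apply le_centralizer_of_le_fittingOf hXF
    intro s hs hsX
    have hsK : s ∣ Nat.card K := hsX.trans (Subgroup.card_dvd_of_le hXK)
    obtain ⟨h1, h2⟩ := hKπ s hs hsK
    exact hH s hs h1 h2
  -- so `X = 1`
  have hcopAK : (Nat.card A).Coprime (Nat.card K) :=
    Nat.Coprime.coprime_dvd_right (Subgroup.card_dvd_of_le hKL) hcopAL
  have hX1 : X = ⊥ := by
    have h1 := coprime_commutator_commutator A K hAK hcopAK (Or.inr (isSolvable_of_le hKL))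
    rw [← hXdef] at h1
    rw [← h1]
    exact Subgroup.commutator_eq_bot_iff_le_centralizer.mpr hXA
  have hKA : K ≤ Subgroup.centralizer (A : Set G) := by
    rw [← Subgroup.commutator_eq_bot_iff_le_centralizer, ← hXdef]; exact hX1
  -- `L` normalizes `W ⊔ A`
  have hLN : L ≤ Subgroup.normalizer ((W ⊔ A : Subgroup G) : Set G) := by
    rw [← hLeq]
    apply sup_le
    · exact le_sup_left.trans Subgroup.le_normalizer
    · exact le_normalizer_sup hKW (hKA.trans (Subgroup.centralizer_le_normalizer _))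
  -- the Sylow subgroup
  obtain ⟨P, hAP⟩ := Helper7.BGD.exists_sylow_ge hAp hAM
  obtain ⟨hPc, hP2⟩ := hSyl P
  obtain ⟨hPΩ, -⟩ := hP2 hAP
  have hNP : ∀ n : ↥M, n ∈ Subgroup.normalizer ((P : Subgroup ↥M) : Set ↥M) →
      (n : G) ∈ Subgroup.normalizer ((W ⊔ A : Subgroup G) : Set G) := by
    intro n hn
    have h1 : (n : G) ∈ Subgroup.normalizer (((P : Subgroup ↥M).map M.subtype : Subgroup G) : Set G) :=
      BG9.coe_mem_normalizer_map hn
    apply mem_normalizer_sup (hMW n.2)
    -- `n` normalizes `A = Ω₁(P)`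
    have key : ∀ y : G, y ∈ Subgroup.normalizer (((P : Subgroup ↥M).map M.subtype : Subgroup G) : Set G) →
        ∀ a ∈ A, y * a * y⁻¹ ∈ A := by
      intro y hy a ha
      have h2 : y * a * y⁻¹ ∈ (P : Subgroup ↥M).map M.subtype :=
        (Subgroup.mem_normalizer_iff.mp hy a).mp (hAP ha)
      rw [← hPΩ _ h2]
      have h3 : (y * a * y⁻¹) ^ p = y * a ^ p * y⁻¹ := by
        rw [conj_pow]
      rw [h3, hAe.2 a ha]; group
    rw [Subgroup.mem_normalizer_iff]
    intro a
    constructor
    · exact key _ h1 a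
    · intro ha
      have := key _ (Subgroup.inv_mem _ h1) _ ha
      have e : (n : G)⁻¹ * ((n : G) * a * (n : G)⁻¹) * (n : G)⁻¹⁻¹ = a := by group
      rwa [e] at this
  -- Frattini
  have h1410 : PLengthLE p 1 ↥M := Cfsg.Agent.S1410.result hG p M hM.1
  obtain ⟨-, -, hfr, -⟩ := Lead.PLength.pLengthLE_one_core p h1410 P
  intro m hm
  have h1 : (⟨m, hm⟩ : ↥M) ∈
      (Subgroup.normalizer ((W ⊔ A : Subgroup G) : Set G)).subgroupOf M := by
    have h2 : pPrimeCore p ↥M ⊔ Subgroup.normalizer ((P : Subgroup ↥M) : Set ↥M) ≤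
        (Subgroup.normalizer ((W ⊔ A : Subgroup G) : Set G)).subgroupOf M := by
      apply sup_le
      · intro x hx
        rw [Subgroup.mem_subgroupOf]
        apply hLN
        rw [hLdef, BG9.piCoreOf_ne_eq_map]
        exact ⟨x, hx, rfl⟩
      · intro n hn
        rw [Subgroup.mem_subgroupOf]
        exact hNP n hn
    apply h2
    rw [hfr]; exact Subgroup.mem_top _
  exact Subgroup.mem_subgroupOf.mp h1

end Cfsg.Agent.Lib.Helper1.BGF
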