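import Mathlib
import Cfsg.Agent.Lib.Helper1.BGF3

set_option autoImplicit false
set_option maxHeartbeats 4000000
set_option linter.unusedVariables false
set_option linter.unusedSectionVars false
set_option linter.style.longLine false
set_option linter.unusedSimpArgs false
set_option linter.deprecated false
set_option linter.style.haveILetI false

/-!
# B&G Theorem 11.7: producing the normal subgroup `U` of order `r`
-/

open scoped commutatorElement Pointwise
universe u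
namespace Cfsg.Agent.Lib.Helper1.BGF

open Cfsg Cfsg.Agent.Lib.Helper1

variable {G : Type u} [Group G] [Finite G]

/-- a Sylow `q`-subgroup of `G` normalized by `A` is a maximal `A`-invariant `q`-subgroup -/
theorem sylow_mem_maxInv {q : ℕ} [hq : Fact q.Prime] {A Q : Subgroup G}
    (hQ : BG8.IsMaxP q Q ⊤) (hAQ : A ≤ Subgroup.normalizer (Q : Set G)) :
    Q ∈ maxInvSubgroups ⊤ A {q} := by
  refine ⟨BG7.mem_invSubgroups_top_of_isPGroup hq.out hQ.2.1 hAQ, ?_⟩
  intro R hR hQR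
  exact hQ.2.2 R (BG7.isPGroup_of_mem_invSubgroups hq.out hR) hQR le_top

theorem isMaxP_top_cj {q : ℕ} {Q : Subgroup G} (hQ : BG8.IsMaxP q Q ⊤) (g : G) :
    BG8.IsMaxP q (BG7.cj g Q) ⊤ := by
  have h1 := BT.isMaxP_cj hQ g
  have h2 : BG7.cj g (⊤ : Subgroup G) = ⊤ := by
    rw [eq_top_iff]
    intro x _
    rw [BG7.mem_cj]; exact Subgroup.mem_top _
  rwa [h2] at h1

/-- the case of a normal elementary abelian subgroup of order `r²` centralizing `M_σ` -/
theorem sq_case (hG : IsMinSimpleOddOrder G) {M : Subgroup G} (hM : IsCoatom M)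
    (hW1 : sigmaCore M ≠ ⊥) (hWnil : Group.IsNilpotent (sigmaCore M)) {r : ℕ}
    [hr : Fact r.Prime] (hrσ : r ∉ sigma M) {B : Subgroup G} (hBM : B ≤ M)
    (hBe : IsElementaryAbelian r B) (hB2 : Nat.card B = r ^ 2)
    (hMB : M ≤ Subgroup.normalizer (B : Set G))
    (hBW : B ≤ Subgroup.centralizer (sigmaCore M : Set G)) : False := by
  classical
  have hBp : IsPGroup r B := BG9.isPGroup_of_isElementaryAbelian hBe
  have hB1 : B ≠ ⊥ := by
    intro hB
    rw [hB, Subgroup.card_bot] at hB2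
    have h3 : 1 < r ^ 2 := Nat.one_lt_pow (by norm_num) hr.out.one_lt
    omega
  have hrM : r ∣ Nat.card M := by
    have h1 : Nat.card B ∣ Nat.card M := Subgroup.card_dvd_of_le hBM
    rw [hB2] at h1
    exact (dvd_pow_self r (by norm_num)).trans h1
  have hrG : r ∣ Nat.card G := hrM.trans (Subgroup.card_subgroup_dvd_card M)
  have hr2 : PRankLE r 2 ↥M := by
    by_contra hc
    exact hrσ (BT.alpha_subset_sigma hG hM ⟨hr.out, hc⟩)
  have hr1 : ¬ PRankLE r 1 ↥M :=
    BG9.not_pRankLE_of_elementary hr.out hBM hBe (by rw [hB2])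
  have hmax := (Cfsg.Agent.S1408.result hG M hM r hrσ hr2 hr1).2 B hBM hBe hB2
  have hCB : Subgroup.centralizer (B : Set G) ≤ M :=
    BG8.centralizer_le_of_coatom hG hM hBM hB1 hMB
  have hNB : Subgroup.normalizer (B : Set G) = M :=
    BG8.normalizer_eq_of_coatom hG hM hBM hB1 hMB
  have homega : ∀ x ∈ Subgroup.centralizer (B : Set G), x ^ r = 1 ↔ x ∈ B := by
    intro x hx
    constructor
    · intro hxp
      by_contra hxB
      obtain ⟨h1, h2⟩ := BT.elementary_sup_zpowers hBe hx hxp hxB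
      have h3 := hmax _ h1 le_sup_left
      apply hxB
      rw [← h3]
      exact (le_sup_right : Subgroup.zpowers x ≤ _) (Subgroup.mem_zpowers x)
    · intro hxB
      exact hBe.2 x hxB
  have hTH : TransitivityHypothesis B :=
    Cfsg.Agent.S1396.result hG r hrG B hBp hBe.1
      (Or.inl ⟨homega, fun H hH => Cfsg.Agent.S1410.result hG r H hH⟩)
  have hBc : B ≤ Subgroup.centralizer (B : Set G) :=
    BG9.le_centralizer_of_isElementaryAbelian hBe le_rfl
  have hrk : ¬ RankLE 1 ↥(B ⊓ Subgroup.centralizer (B : Set G)) := by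
    apply BG9.not_rankLE_of_elementary' hr.out (le_inf le_rfl hBc) hBe
    rw [hB2]
  -- a prime of `M_σ`
  have hWc : Nat.card (sigmaCore M) ≠ 1 := fun h => hW1 (Subgroup.card_eq_one.mp h)
  obtain ⟨q, hq, hqW⟩ := Nat.exists_prime_and_dvd hWc
  haveI : Fact q.Prime := ⟨hq⟩
  have hqσ : q ∈ sigma M := sigmaCore_pi M q hq hqW
  have hqr : q ≠ r := fun h => hrσ (h ▸ hqσ)
  obtain ⟨Q, hQtop, hQW, hNQ, hQ1⟩ := exists_normal_sylow hG hM hWnil hqσ
  have hqB : ¬ q ∣ Nat.card B := by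
    rw [hB2]
    intro h
    exact hqr ((Nat.prime_dvd_prime_iff_eq hq hr.out).mp (hq.dvd_of_dvd_pow h))
  have hWCB : sigmaCore M ≤ Subgroup.centralizer (B : Set G) := BG9.le_centralizer_symm hBW
  have hqC : q ∣ Nat.card (Subgroup.centralizer (B : Set G)) :=
    (BG8.dvd_card_of_isPGroup_ne_bot hQtop.2.1 hQ1).trans
      (Subgroup.card_dvd_of_le (hQW.trans hWCB))
  have htr := Cfsg.Agent.S1394.result hG B hTH hrk q hq hqB hqC
  have hMQ : M ≤ Subgroup.normalizer (Q : Set G) := hNQ.symm ▸ le_rfl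
  have hQmem : Q ∈ maxInvSubgroups ⊤ B {q} := sylow_mem_maxInv hQtop (hBM.trans hMQ)
  -- the Sylow `r`-subgroup of `M`
  obtain ⟨S, hBS⟩ := Helper7.BGD.exists_sylow_ge hBp hBM
  apply hrσ
  refine ⟨hr.out, hrM, S, ?_⟩
  intro h hh
  have hSM : (S : Subgroup ↥M).map M.subtype ≤ M := Subgroup.map_subtype_le _
  have h1 : BG7.cj h B ≤ M := by
    have h2 : BG7.cj h B ≤ BG7.cj h ((S : Subgroup ↥M).map M.subtype) := BG7.cj_mono hBS
    rw [BG7.cj_eq_of_mem_normalizer hh] at h2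
    exact h2.trans hSM
  have h3 : BG7.cj h⁻¹ (BG7.cj h B) ≤ Subgroup.normalizer (BG7.cj h⁻¹ Q : Set G) :=
    BG9.cj_le_normalizer_cj h⁻¹ (h1.trans hMQ)
  rw [BG7.cj_inv_cj] at h3
  have hQ2mem : BG7.cj h⁻¹ Q ∈ maxInvSubgroups ⊤ B {q} :=
    sylow_mem_maxInv (isMaxP_top_cj hQtop h⁻¹) h3
  obtain ⟨k, hk, hkQ⟩ := htr Q hQmem _ hQ2mem
  have hkM : k ∈ M := hCB (BG7.piCoreOf_le _ _ hk)
  have h4 : BG7.cj k Q = Q := BG7.cj_eq_of_mem_normalizer (hMQ hkM)
  have h5 : BG7.cj h⁻¹ Q = Q := by rw [hkQ]; exact h4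
  have h6 : h⁻¹ ∈ Subgroup.normalizer (Q : Set G) := BG7.mem_normalizer_of_cj_eq h5
  rw [hNQ] at h6
  have := M.inv_mem h6
  rwa [inv_inv] at this

/-- B&G 11.7: if `A` does not centralize `O_r(M)` then there is a normal subgroup `U` of `M` of
order `r`, centralizing `M_σ`, not centralized by `A`, with `(M, r, U, A_r)` exceptional. -/
theorem exists_U (hG : IsMinSimpleOddOrder G) (hS : Solid G) {M : Subgroup G} {p : ℕ}
    [hp : Fact p.Prime] {A₀ A : Subgroup G} (h : Exc M p A₀ A) {r : ℕ} [hr : Fact r.Prime]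
    (hrσ : r ∉ sigma M) (hrp : r ≠ p)
    (hnc : ¬ A ≤ Subgroup.centralizer (piCoreOf {r} M : Set G)) :
    ∃ U Ar : Subgroup G, Exc M r U Ar ∧ M ≤ Subgroup.normalizer (U : Set G) ∧
      U ≤ Subgroup.centralizer (sigmaCore M : Set G) ∧
      ¬ A ≤ Subgroup.centralizer (U : Set G) := by
  classical
  obtain ⟨hW1, hWnil, -, -, -⟩ := hS M p A₀ A h
  have hM : IsCoatom M := h.1
  have hAM : A ≤ M := h.2.2.1
  obtain ⟨R, hRdef⟩ : ∃ R : Subgroup G, R = piCoreOf {r} M := ⟨_, rfl⟩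
  rw [← hRdef] at hnc
  have hRM : R ≤ M := hRdef ▸ BG7.piCoreOf_le _ _
  have hMR : M ≤ Subgroup.normalizer (R : Set G) := hRdef ▸ BG7.le_normalizer_piCoreOf _ _
  have hRp : IsPGroup r R := hRdef ▸ BG8.piCoreOf_singleton_isPGroup r M
  have hR1 : R ≠ ⊥ := by
    intro hR
    apply hnc
    rw [hR]
    intro a _
    rw [Subgroup.mem_centralizer_iff]
    intro x hx
    have : x = 1 := hx
    rw [this, one_mul, mul_one]
  have hRW : R ≤ Subgroup.centralizer (sigmaCore M : Set G) := by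
    rw [hRdef]
    show piCoreOf {r} M ≤ Subgroup.centralizer (piCoreOf (sigma M) M : Set G)
    apply BG8.piCoreOf_commute M
    intro t ht1 ht2
    have : t = r := ht1
    exact hrσ (this ▸ ht2)
  have hr2 : PRankLE r 2 ↥M := by
    by_contra hc
    exact hrσ (BT.alpha_subset_sigma hG hM ⟨hr.out, hc⟩)
  -- `U₀ = Ω₁(Z(R))`
  obtain ⟨U, hUdef⟩ : ∃ U : Subgroup G, U = BT.omegaZ r R := ⟨_, rfl⟩
  have hUR : U ≤ R := hUdef ▸ BT.omegaZ_le r R
  have hUe : IsElementaryAbelian r U := hUdef ▸ BT.omegaZ_elementary r R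
  have hU1 : U ≠ ⊥ := hUdef ▸ BT.omegaZ_ne_bot hRp hR1
  have hMU : M ≤ Subgroup.normalizer (U : Set G) :=
    hMR.trans (hUdef ▸ BT.normalizer_le_normalizer_omegaZ r R)
  have hUM : U ≤ M := hUR.trans hRM
  have hUW : U ≤ Subgroup.centralizer (sigmaCore M : Set G) := hUR.trans hRW
  have hUp : IsPGroup r U := BG9.isPGroup_of_isElementaryAbelian hUe
  obtain ⟨k, hk⟩ := IsPGroup.iff_card.mp hUp
  have hk0 : k ≠ 0 := by
    intro h0
    rw [h0, pow_zero] at hk
    exact hU1 (Subgroup.card_eq_one.mp hk)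
  have hk2 : k ≤ 2 := by
    by_contra hc
    push Not at hc
    apply BG9.not_pRankLE_of_elementary hr.out hUM hUe _ hr2
    rw [hk]
    exact Nat.pow_le_pow_right hr.out.pos hc
  have hkk : k = 1 ∨ k = 2 := by omega
  rcases hkk with hk1 | hk1
  swap
  · exfalso
    rw [hk1] at hk
    exact sq_case hG hM hW1 hWnil hrσ hUM hUe hk hMU hUW
  rw [hk1, pow_one] at hk
  have hNU : Subgroup.normalizer (U : Set G) = M :=
    BG8.normalizer_eq_of_coatom hG hM hUM hU1 hMU
  obtain ⟨-, -, Ar, hAre, hAr2, hUAr⟩ :=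
    Cfsg.Agent.S1409.result hG M hM r hrσ U hk (hNU ▸ le_rfl)
  have hArM : Ar ≤ M := by
    have h1 : Ar ≤ Subgroup.centralizer (U : Set G) :=
      BG9.le_centralizer_symm (BG9.le_centralizer_of_isElementaryAbelian hAre hUAr)
    rw [← hNU]
    exact h1.trans (Subgroup.centralizer_le_normalizer _)
  have hexc : Exc M r U Ar := ⟨hM, hrσ, hArM, hAre, hAr2, hUAr, hk, hNU ▸ le_rfl⟩
  refine ⟨U, Ar, hexc, hMU, hUW, ?_⟩
  -- `R` is abelian
  obtain ⟨P, hP, hRP⟩ := BT.exists_isMaxP_ge hRp hRM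
  obtain ⟨hPc, -⟩ := solid_sylow hS hexc hP
  have hRc : ∀ x ∈ R, ∀ y ∈ R, x * y = y * x := fun x hx y hy => hPc x (hRP hx) y (hRP hy)
  intro hAU
  apply hnc
  intro a ha
  have haN : a ∈ Subgroup.normalizer (R : Set G) := hMR (hAM ha)
  have hao : (orderOf a).Coprime r := by
    obtain ⟨j, hj⟩ := (IsPGroup.iff_orderOf.mp (exc_pgroup h)) ⟨a, ha⟩
    rw [Subgroup.orderOf_mk] at hj
    rw [hj]
    exact Nat.Coprime.pow_left j ((Nat.coprime_primes hp.out hr.out).mpr hrp.symm)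
  have h1 := ThA.centralizes_of_centralizes_omega_comm R hRc hRp a haN hao (by
    intro x hx hxr
    have hxU : x ∈ U := by
      rw [hUdef, BT.mem_omegaZ]
      refine ⟨hx, ?_, hxr⟩
      rw [Subgroup.mem_centralizer_iff]
      intro y hy
      exact hRc y hy x hx
    exact (Subgroup.mem_centralizer_iff.mp (hAU ha) x hxU).symm)
  rw [Subgroup.mem_centralizer_iff]
  intro x hx
  exact (h1 x hx).symm

end Cfsg.Agent.Lib.Helper1.BGF
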