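import Mathlib
import Cfsg.Agent.Lib.Helper1.BGF4

set_option autoImplicit false
set_option maxHeartbeats 4000000
set_option linter.unusedVariables false
set_option linter.unusedSectionVars false
set_option linter.style.longLine false
set_option linter.unusedSimpArgs false
set_option linter.deprecated false
set_option linter.style.haveILetI false

/-!
# B&G Theorem 11.7: the configuration `(M, p, A) / (M, r, U, A_r)`, first part
-/

open scoped commutatorElement Pointwise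
universe u
namespace Cfsg.Agent.Lib.Helper1.BGF

open Cfsg Cfsg.Agent.Lib.Helper1

variable {G : Type u} [Group G] [Finite G]

theorem eq_of_le_prime_card {r : ℕ} (hr : r.Prime) {D U : Subgroup G} (hU : Nat.card U = r)
    (hDU : D ≤ U) (hD1 : D ≠ ⊥) : D = U := by
  have h1 : Nat.card D ∣ r := hU ▸ Subgroup.card_dvd_of_le hDU
  rcases (Nat.dvd_prime hr).mp h1 with h | h
  · exact absurd (Subgroup.card_eq_one.mp h) hD1
  · exact Subgroup.eq_of_le_of_card_ge hDU (by rw [hU, h])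

omit [Finite G] in
theorem normalizer_le_of_omega {p : ℕ} {P A : Subgroup G} (hAP : A ≤ P)
    (hΩ : ∀ x ∈ P, x ^ p = 1 ↔ x ∈ A) :
    Subgroup.normalizer (P : Set G) ≤ Subgroup.normalizer (A : Set G) := by
  apply le_normalizer_of_conj_mem
  intro y hy a ha
  have h2 : y * a * y⁻¹ ∈ P := (Subgroup.mem_normalizer_iff.mp hy a).mp (hAP ha)
  rw [← hΩ _ h2, conj_pow, (hΩ a (hAP ha)).mpr ha]
  group

/-- the configuration reached in the proof of B&G 11.7 -/
structure Ctx (M : Subgroup G) (p r : ℕ) (A₀ A U Ar S : Subgroup G) : Prop where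
  hG : IsMinSimpleOddOrder G
  hS : Solid G
  hrp : r ≠ p
  excp : Exc M p A₀ A
  excr : Exc M r U Ar
  hMU : M ≤ Subgroup.normalizer (U : Set G)
  hUW : U ≤ Subgroup.centralizer (sigmaCore M : Set G)
  hnc : ¬ A ≤ Subgroup.centralizer (U : Set G)
  hSmax : BG8.IsMaxP r S M
  hAS : A ≤ Subgroup.normalizer (S : Set G)
  hArS : Ar ≤ S
  hSc : ∀ a ∈ S, ∀ b ∈ S, a * b = b * a
  hSΩ : ∀ x ∈ S, x ^ r = 1 ↔ x ∈ Ar

theorem lt_of_action {M : Subgroup G} {p r : ℕ} [hp : Fact p.Prime] [hr : Fact r.Prime]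
    {A₀ A U Ar : Subgroup G} (h : Exc M p A₀ A) (hr' : Exc M r U Ar)
    (hMU : M ≤ Subgroup.normalizer (U : Set G))
    (hnc : ¬ A ≤ Subgroup.centralizer (U : Set G)) :
    p < r ∧ Nat.card ↥(A ⊓ Subgroup.centralizer (U : Set G)) = p := by
  obtain ⟨h1, h2⟩ := prime_action h.2.2.2.1 hr'.2.2.2.2.2.2.1 (h.2.2.1.trans hMU) hnc
  constructor
  · have h3 : 0 < r - 1 := by have := hr.out.two_le; omega
    have := Nat.le_of_dvd h3 h1
    omega
  · rw [h.2.2.2.2.1, pow_two] at h2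
    exact (Nat.eq_of_mul_eq_mul_left hp.out.pos h2).symm

theorem exists_ctx (hG : IsMinSimpleOddOrder G) (hS : Solid G) {M : Subgroup G} {p : ℕ}
    [hp : Fact p.Prime] {A₀ A : Subgroup G} (h : Exc M p A₀ A) {r : ℕ} [hr : Fact r.Prime]
    (hrp : r ≠ p) {U Ar₀ : Subgroup G} (hr' : Exc M r U Ar₀)
    (hMU : M ≤ Subgroup.normalizer (U : Set G))
    (hUW : U ≤ Subgroup.centralizer (sigmaCore M : Set G))
    (hnc : ¬ A ≤ Subgroup.centralizer (U : Set G)) :
    ∃ Ar S : Subgroup G, Ctx M p r A₀ A U Ar S := by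
  classical
  obtain ⟨hpr, -⟩ := lt_of_action h hr' hMU hnc
  have hM : IsCoatom M := h.1
  have hAM : A ≤ M := h.2.2.1
  have hUM : U ≤ M := hr'.2.2.2.2.2.1.trans hr'.2.2.1
  have hUc : Nat.card U = r := hr'.2.2.2.2.2.2.1
  have hUp : IsPGroup r U := IsPGroup.of_card (n := 1) (by rw [hUc, pow_one])
  obtain ⟨S, hSmax, hUS, hAS⟩ := exists_inv_sylow hG hM (exc_dvd h) (exc_rank hG h).2.2 hpr hAM
    (exc_pgroup h) hUM hUp (hAM.trans hMU)
  obtain ⟨m, hm, hArm⟩ := BT.exists_cj_ge hSmax (exc_pgroup hr') hr'.2.2.1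
  obtain ⟨Ar, hArdef⟩ : ∃ Ar : Subgroup G, Ar = BG7.cj m⁻¹ Ar₀ := ⟨_, rfl⟩
  have hArS : Ar ≤ S := by
    rw [hArdef]
    have := BG7.cj_mono (k := m⁻¹) hArm
    rwa [BG7.cj_inv_cj] at this
  have hUAr : U ≤ Ar := by
    rw [hArdef]
    have h1 : BG7.cj m⁻¹ U = U := BG7.cj_eq_of_mem_normalizer (hMU (M.inv_mem hm))
    rw [← h1]
    exact BG7.cj_mono hr'.2.2.2.2.2.1
  have hexc : Exc M r U Ar := by
    apply exc_of_le hr' (hArS.trans hSmax.1) _ _ hUAr
    · rw [hArdef]; exact BG9.isElementaryAbelian_cj _ hr'.2.2.2.1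
    · rw [hArdef, BG7.card_cj]; exact hr'.2.2.2.2.1
  obtain ⟨hSc, hS2⟩ := solid_sylow hS hexc hSmax
  exact ⟨Ar, S, ⟨hG, hS, hrp, h, hexc, hMU, hUW, hnc, hSmax, hAS, hArS, hSc, (hS2 hArS).1⟩⟩

namespace Ctx

variable {M : Subgroup G} {p r : ℕ} [hp : Fact p.Prime] [hr : Fact r.Prime]
  {A₀ A U Ar S : Subgroup G}

include hp hr

theorem hM (c : Ctx M p r A₀ A U Ar S) : IsCoatom M := c.excp.1
theorem hAM (c : Ctx M p r A₀ A U Ar S) : A ≤ M := c.excp.2.2.1
theorem hAe (c : Ctx M p r A₀ A U Ar S) : IsElementaryAbelian p A := c.excp.2.2.2.1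
theorem hA2 (c : Ctx M p r A₀ A U Ar S) : Nat.card A = p ^ 2 := c.excp.2.2.2.2.1
theorem hAp (c : Ctx M p r A₀ A U Ar S) : IsPGroup p A := exc_pgroup c.excp
theorem hArM (c : Ctx M p r A₀ A U Ar S) : Ar ≤ M := c.excr.2.2.1
theorem hAre (c : Ctx M p r A₀ A U Ar S) : IsElementaryAbelian r Ar := c.excr.2.2.2.1
theorem hAr2 (c : Ctx M p r A₀ A U Ar S) : Nat.card Ar = r ^ 2 := c.excr.2.2.2.2.1
theorem hArp (c : Ctx M p r A₀ A U Ar S) : IsPGroup r Ar := exc_pgroup c.excr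
theorem hUAr (c : Ctx M p r A₀ A U Ar S) : U ≤ Ar := c.excr.2.2.2.2.2.1
theorem hUc (c : Ctx M p r A₀ A U Ar S) : Nat.card U = r := c.excr.2.2.2.2.2.2.1
theorem hUM (c : Ctx M p r A₀ A U Ar S) : U ≤ M := c.hUAr.trans c.hArM
theorem hAU (c : Ctx M p r A₀ A U Ar S) : A ≤ Subgroup.normalizer (U : Set G) :=
  c.hAM.trans c.hMU
theorem hSp (c : Ctx M p r A₀ A U Ar S) : IsPGroup r S := c.hSmax.2.1
theorem hSM (c : Ctx M p r A₀ A U Ar S) : S ≤ M := c.hSmax.1

theorem hU1 (c : Ctx M p r A₀ A U Ar S) : U ≠ ⊥ := by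
  intro h
  have := c.hUc
  rw [h, Subgroup.card_bot] at this
  exact hr.out.one_lt.ne this

theorem hNU (c : Ctx M p r A₀ A U Ar S) : Subgroup.normalizer (U : Set G) = M :=
  BG8.normalizer_eq_of_coatom c.hG c.hM c.hUM c.hU1 c.hMU

theorem hpr (c : Ctx M p r A₀ A U Ar S) : p < r := (lt_of_action c.excp c.excr c.hMU c.hnc).1

theorem cardX (c : Ctx M p r A₀ A U Ar S) :
    Nat.card ↥(A ⊓ Subgroup.centralizer (U : Set G)) = p :=
  (lt_of_action c.excp c.excr c.hMU c.hnc).2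

theorem coprime_pr (c : Ctx M p r A₀ A U Ar S) : p.Coprime r :=
  (Nat.coprime_primes hp.out hr.out).mpr c.hrp.symm

theorem hAAr (c : Ctx M p r A₀ A U Ar S) : A ≤ Subgroup.normalizer (Ar : Set G) := by
  apply le_normalizer_of_conj_mem
  intro a ha x hx
  have h1 : a * x * a⁻¹ ∈ S := (Subgroup.mem_normalizer_iff.mp (c.hAS ha) x).mp (c.hArS hx)
  rw [← c.hSΩ _ h1, conj_pow, c.hAre.2 x hx]
  group

theorem coprime_A_Ar (c : Ctx M p r A₀ A U Ar S) : (Nat.card A).Coprime (Nat.card Ar) := by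
  rw [c.hA2, c.hAr2]
  exact Nat.Coprime.pow _ _ c.coprime_pr

theorem hAsolv (c : Ctx M p r A₀ A U Ar S) : Group.IsSolvable ↥A := by
  haveI := c.hAp.isNilpotent
  infer_instance

/-- `[U, A] = U` -/
theorem comm_U (c : Ctx M p r A₀ A U Ar S) : ⁅U, A⁆ = U := by
  apply eq_of_le_prime_card hr.out c.hUc
    (Subgroup.le_normalizer_iff_commutator_le_left.mp c.hAU)
  intro h
  apply c.hnc
  rw [Subgroup.commutator_comm] at h
  exact Subgroup.commutator_eq_bot_iff_le_centralizer.mp h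

/-- `[A_r, A] = U`, `|C_{A_r}(A)| = r` and `A_r = U × C_{A_r}(A)` -/
theorem comm_Ar (c : Ctx M p r A₀ A U Ar S) :
    ⁅Ar, A⁆ = U ∧ Nat.card ↥(Ar ⊓ Subgroup.centralizer (A : Set G)) = r ∧
      U ⊔ (Ar ⊓ Subgroup.centralizer (A : Set G)) = Ar := by
  classical
  obtain ⟨hW1, hWnil, -, -, hS4⟩ := c.hS M p A₀ A c.excp
  obtain ⟨-, -, -, hCWAr, -⟩ := c.hS M r U Ar c.excr
  obtain ⟨D, hDdef⟩ : ∃ D : Subgroup G, D = ⁅Ar, A⁆ := ⟨_, rfl⟩
  obtain ⟨Z, hZdef⟩ : ∃ Z : Subgroup G, Z = Ar ⊓ Subgroup.centralizer (A : Set G) := ⟨_, rfl⟩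
  rw [← hDdef, ← hZdef]
  have hDAr : D ≤ Ar := hDdef ▸ Subgroup.le_normalizer_iff_commutator_le_left.mp c.hAAr
  have hUD : U ≤ D := by
    rw [hDdef, ← c.comm_U]
    exact Subgroup.commutator_mono c.hUAr le_rfl
  -- `D ≠ A_r`
  have hDne : D ≠ Ar := by
    intro hD
    have h1 : ⁅⁅S, A⁆, sigmaCore M⁆ = ⊥ := by
      apply hS4 S c.hSM c.hAS
      intro q hq hqS
      obtain ⟨k, hk⟩ := IsPGroup.iff_card.mp c.hSp
      rw [hk] at hqS
      have : q = r := (Nat.prime_dvd_prime_iff_eq hq hr.out).mp (hq.dvd_of_dvd_pow hqS)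
      rw [this]
      exact ⟨c.excr.2.1, c.hrp⟩
    have h2 : ⁅S, A⁆ ≤ Subgroup.centralizer (sigmaCore M : Set G) :=
      Subgroup.commutator_eq_bot_iff_le_centralizer.mp h1
    have h3 : Ar ≤ Subgroup.centralizer (sigmaCore M : Set G) := by
      rw [← hD, hDdef]
      exact (Subgroup.commutator_mono c.hArS le_rfl).trans h2
    have h4 : sigmaCore M ≤ sigmaCore M ⊓ Subgroup.centralizer (Ar : Set G) :=
      le_inf le_rfl (BG9.le_centralizer_symm h3)
    rw [hCWAr] at h4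
    exact hW1 (le_bot_iff.mp h4)
  -- the decomposition
  have hArc : IsMulCommutative ↥Ar := c.hAre.1
  have hDZ : D ⊓ Z = ⊥ := by
    have h1 : D ⊓ Z ≤ ⁅Ar, A⁆ ⊓ Subgroup.centralizer (A : Set G) := by
      rw [hZdef, ← hDdef]
      exact inf_le_inf_left D inf_le_right
    rw [Helper7.commutator_inf_centralizer_eq_bot_of_coprime hArc c.hAAr c.coprime_A_Ar] at h1
    exact le_bot_iff.mp h1
  have hsup : D ⊔ Z = Ar := by
    rw [hDdef, hZdef]
    exact coprime_commutator_sup_centralizer A Ar c.hAAr c.coprime_A_Ar (Or.inl c.hAsolv)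
  have hZAr : Z ≤ Ar := hZdef ▸ inf_le_left
  have hZD : Z ≤ Subgroup.normalizer (D : Set G) := by
    have h1 : Z ≤ Subgroup.centralizer (D : Set G) :=
      (BG9.le_centralizer_of_isElementaryAbelian c.hAre hZAr).trans (Subgroup.centralizer_le hDAr)
    exact h1.trans (Subgroup.centralizer_le_normalizer _)
  have hcard : Nat.card D * Nat.card Z = r ^ 2 := by
    rw [← card_sup_eq_mul hZD (disjoint_iff.mpr hDZ), hsup, c.hAr2]
  have hDp : IsPGroup r D := c.hArp.to_le hDAr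
  obtain ⟨j, hj⟩ := IsPGroup.iff_card.mp hDp
  have hj0 : j ≠ 0 := by
    intro h0
    rw [h0, pow_zero] at hj
    have : D = ⊥ := Subgroup.card_eq_one.mp hj
    rw [this] at hUD
    exact c.hU1 (le_bot_iff.mp hUD)
  have hj2 : j ≤ 2 := by
    have h1 : r ^ j ∣ r ^ 2 := hj ▸ Dvd.intro _ hcard
    exact (Nat.pow_dvd_pow_iff_le_right hr.out.one_lt).mp h1
  have hjne : j ≠ 2 := by
    intro h2
    apply hDne
    apply Subgroup.eq_of_le_of_card_ge hDAr
    rw [hj, h2, c.hAr2]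
  have hj1 : j = 1 := by omega
  rw [hj1, pow_one] at hj
  have hDU : D = U := (Subgroup.eq_of_le_of_card_ge hUD (by rw [hj, c.hUc])).symm
  refine ⟨hDU, ?_, by rw [← hDU]; exact hsup⟩
  rw [hj, pow_two] at hcard
  exact Nat.eq_of_mul_eq_mul_left hr.out.pos hcard

/-- `X = C_A(U)` centralizes `S` -/
theorem X_le_cent_S (c : Ctx M p r A₀ A U Ar S) :
    A ⊓ Subgroup.centralizer (U : Set G) ≤ Subgroup.centralizer (S : Set G) := by
  obtain ⟨-, -, hsup⟩ := c.comm_Ar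
  intro x hx
  obtain ⟨hxA, hxU⟩ := Subgroup.mem_inf.mp hx
  have hxN : x ∈ Subgroup.normalizer (S : Set G) := c.hAS hxA
  have hxo : (orderOf x).Coprime r := by
    obtain ⟨j, hj⟩ := (IsPGroup.iff_orderOf.mp c.hAp) ⟨x, hxA⟩
    rw [Subgroup.orderOf_mk] at hj
    rw [hj]
    exact Nat.Coprime.pow_left j c.coprime_pr
  have hxAr : Ar ≤ Subgroup.centralizer ({x} : Set G) := by
    rw [← hsup]
    apply sup_le
    · intro u hu
      rw [Subgroup.mem_centralizer_iff]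
      intro y hy
      rw [Set.mem_singleton_iff] at hy
      rw [hy]
      exact (Subgroup.mem_centralizer_iff.mp hxU u hu).symm
    · intro z hz
      rw [Subgroup.mem_centralizer_iff]
      intro y hy
      rw [Set.mem_singleton_iff] at hy
      rw [hy]
      exact Subgroup.mem_centralizer_iff.mp (Subgroup.mem_inf.mp hz).2 x hxA
  have h1 := ThA.centralizes_of_centralizes_omega_comm S c.hSc c.hSp x hxN hxo (by
    intro y hy hyr
    have hyAr : y ∈ Ar := (c.hSΩ y hy).mp hyr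
    exact Subgroup.mem_centralizer_iff.mp (hxAr hyAr) x rfl)
  rw [Subgroup.mem_centralizer_iff]
  intro y hy
  exact (h1 y hy).symm

theorem X_ne_bot (c : Ctx M p r A₀ A U Ar S) : A ⊓ Subgroup.centralizer (U : Set G) ≠ ⊥ := by
  intro h
  have := c.cardX
  rw [h, Subgroup.card_bot] at this
  exact hp.out.one_lt.ne this

end Ctx

end Cfsg.Agent.Lib.Helper1.BGF
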