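import Mathlib
import Cfsg.Agent.Lib.Helper1.BGF5

set_option autoImplicit false
set_option maxHeartbeats 4000000
set_option linter.unusedVariables false
set_option linter.unusedSectionVars false
set_option linter.style.longLine false
set_option linter.unusedSimpArgs false
set_option linter.deprecated false
set_option linter.style.haveILetI false

/-!
# B&G Theorem 11.7: the maximal `A`-invariant `r`-subgroup `T ⊇ S`
-/

open scoped commutatorElement Pointwise
universe u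
namespace Cfsg.Agent.Lib.Helper1.BGF

open Cfsg Cfsg.Agent.Lib.Helper1

variable {G : Type u} [Group G] [Finite G]

namespace Ctx

variable {M : Subgroup G} {p r : ℕ} [hp : Fact p.Prime] [hr : Fact r.Prime]
  {A₀ A U Ar S T : Subgroup G}

include hp hr

theorem hUp (c : Ctx M p r A₀ A U Ar S) : IsPGroup r U :=
  IsPGroup.of_card (n := 1) (by rw [c.hUc, pow_one])

theorem hUS (c : Ctx M p r A₀ A U Ar S) : U ≤ S := c.hUAr.trans c.hArS

theorem T_pgroup (c : Ctx M p r A₀ A U Ar S) (hT : T ∈ maxInvSubgroups ⊤ A {r}) : IsPGroup r T :=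
  BG7.isPGroup_of_mem_invSubgroups hr.out hT.1

theorem T_inf_M (c : Ctx M p r A₀ A U Ar S) (hT : T ∈ maxInvSubgroups ⊤ A {r}) (hST : S ≤ T) :
    T ⊓ M = S :=
  c.hSmax.2.2 (T ⊓ M) ((c.T_pgroup hT).to_le inf_le_left) (le_inf hST c.hSM) inf_le_right

theorem T_inf_cent (c : Ctx M p r A₀ A U Ar S) (hT : T ∈ maxInvSubgroups ⊤ A {r})
    (hST : S ≤ T) : T ⊓ Subgroup.centralizer (Ar : Set G) ≤ S := by
  rw [← c.T_inf_M hT hST]
  exact inf_le_inf_left T (exc_cent_le c.excr)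

/-- `X = C_A(U)` centralizes `T` (Thompson `A × B`) -/
theorem X_le_cent_T (c : Ctx M p r A₀ A U Ar S) (hT : T ∈ maxInvSubgroups ⊤ A {r})
    (hST : S ≤ T) :
    A ⊓ Subgroup.centralizer (U : Set G) ≤ Subgroup.centralizer (T : Set G) := by
  obtain ⟨X, hXdef⟩ : ∃ X : Subgroup G, X = A ⊓ Subgroup.centralizer (U : Set G) := ⟨_, rfl⟩
  rw [← hXdef]
  have hXS : X ≤ Subgroup.centralizer (S : Set G) := hXdef ▸ c.X_le_cent_S
  have hXAr : ⁅X, Ar⁆ = ⊥ :=
    Subgroup.commutator_eq_bot_iff_le_centralizer.mpr (hXS.trans (Subgroup.centralizer_le c.hArS))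
  have hcop : (Nat.card X).Coprime r := by
    rw [hXdef, c.cardX]; exact c.coprime_pr
  have hXT : X ≤ Subgroup.normalizer (T : Set G) := by
    rw [hXdef]; exact inf_le_left.trans hT.1.2.2
  have hArT : Ar ≤ Subgroup.normalizer (T : Set G) :=
    (c.hArS.trans hST).trans Subgroup.le_normalizer
  have hC : T ⊓ Subgroup.centralizer (Ar : Set G) ≤ Subgroup.centralizer (X : Set G) :=
    (c.T_inf_cent hT hST).trans (BG9.le_centralizer_symm hXS)
  have h1 := Helper8.thompson_AxB r X Ar c.hArp hcop hXAr (Nat.card T) T rfl (c.T_pgroup hT)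
    hXT hArT hC
  exact BG9.le_centralizer_symm (Subgroup.commutator_eq_bot_iff_le_centralizer.mp h1)

theorem T_ne_bot (c : Ctx M p r A₀ A U Ar S) (hST : S ≤ T) : T ≠ ⊥ := by
  intro h
  have h1 : U ≤ T := c.hUS.trans hST
  rw [h] at h1
  exact c.hU1 (le_bot_iff.mp h1)

/-- `T` is a Sylow `r`-subgroup of `G` -/
theorem T_sylow (c : Ctx M p r A₀ A U Ar S) (hT : T ∈ maxInvSubgroups ⊤ A {r})
    (hST : S ≤ T) : BG8.IsMaxP r T ⊤ := by
  have hTp := c.T_pgroup hT
  have hAT : A ≤ Subgroup.normalizer (T : Set G) := hT.1.2.2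
  have hN : Subgroup.normalizer (T : Set G) ≠ ⊤ :=
    BG7.normalizer_ne_top c.hG (c.T_ne_bot hST) (BG7.pgroup_ne_top c.hG hTp)
  obtain ⟨H, hH, hNH⟩ := (eq_top_or_exists_le_coatom _).resolve_left hN
  have hAH : A ≤ H := hAT.trans hNH
  have hTH : T ≤ H := Subgroup.le_normalizer.trans hNH
  have hpH : p ∣ Nat.card H := by
    have h1 : Nat.card A ∣ Nat.card H := Subgroup.card_dvd_of_le hAH
    rw [c.hA2] at h1
    exact (dvd_pow_self p (by norm_num)).trans h1
  obtain ⟨S', hS'max, hTS', hAS'⟩ := exists_inv_sylow c.hG hH hpH (exc_rank c.hG c.excp).2.2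
    c.hpr hAH c.hAp hTH hTp hAT
  have h1 : S' = T :=
    hT.2 S' (BG7.mem_invSubgroups_top_of_isPGroup hr.out hS'max.2.1 hAS') hTS'
  rw [h1] at hS'max
  exact hS'max.top_of_normalizer_le hNH

/-- `T` has `r`-rank at most two -/
theorem T_rank (c : Ctx M p r A₀ A U Ar S) (hT : T ∈ maxInvSubgroups ⊤ A {r})
    (hST : S ≤ T) : PRankLE r 2 ↥T := by
  classical
  obtain ⟨X, hXdef⟩ : ∃ X : Subgroup G, X = A ⊓ Subgroup.centralizer (U : Set G) := ⟨_, rfl⟩
  have hXA : X ≤ A := hXdef ▸ inf_le_left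
  have hX1 : X ≠ ⊥ := hXdef ▸ c.X_ne_bot
  have hXp : IsPGroup p X := c.hAp.to_le hXA
  have hXT : X ≤ Subgroup.centralizer (T : Set G) := hXdef ▸ c.X_le_cent_T hT hST
  have hN : Subgroup.normalizer (X : Set G) ≠ ⊤ :=
    BG7.normalizer_ne_top c.hG hX1 (BG7.pgroup_ne_top c.hG hXp)
  obtain ⟨H, hH, hNH⟩ := (eq_top_or_exists_le_coatom _).resolve_left hN
  have hTH : T ≤ H :=
    ((BG9.le_centralizer_symm hXT).trans (Subgroup.centralizer_le_normalizer _)).trans hNH
  have hAH : A ≤ H :=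
    ((BG9.le_centralizer_symm (BG9.le_centralizer_of_isElementaryAbelian c.hAe hXA)).trans
      (Subgroup.centralizer_le_normalizer _)).trans hNH
  by_contra hrk
  have hrα : r ∈ alpha H := ⟨hr.out, BG9.not_pRankLE_of_le hr.out hTH hrk⟩
  have hrσ : r ∈ sigma H := BT.alpha_subset_sigma c.hG hH hrα
  have hTp := c.T_pgroup hT
  have hTW : T ≤ sigmaCore H := by
    apply le_sigmaCore_of_pi c.hG hH hTH
    intro q hq hqT
    obtain ⟨k, hk⟩ := IsPGroup.iff_card.mp hTp
    rw [hk] at hqT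
    have : q = r := (Nat.prime_dvd_prime_iff_eq hq hr.out).mp (hq.dvd_of_dvd_pow hqT)
    rw [this]; exact hrσ
  by_cases hpσ : p ∈ sigma H
  · have hAW : A ≤ sigmaCore H := by
      apply le_sigmaCore_of_pi c.hG hH hAH
      intro q hq hqA
      rw [c.hA2] at hqA
      have : q = p := (Nat.prime_dvd_prime_iff_eq hq hp.out).mp (hq.dvd_of_dvd_pow hqA)
      rw [this]; exact hpσ
    have hUW' : U ≤ sigmaCore H := (c.hUS.trans hST).trans hTW
    exact c.hnc (commute_in_sigmaCore c.hG hH c.hrp.symm (exc_rank c.hG c.excp).2.2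
      (exc_rank c.hG c.excr).2.2 c.hAp c.hUp hAW hUW' c.hAU)
  · have hexc : Exc H p X A :=
      ⟨hH, hpσ, hAH, c.hAe, c.hA2, hXA, hXdef ▸ c.cardX, hNH⟩
    obtain ⟨-, -, -, hC, -⟩ := c.hS H p X A hexc
    obtain ⟨-, hZc, -⟩ := c.comm_Ar
    have h1 : Ar ⊓ Subgroup.centralizer (A : Set G) ≤
        sigmaCore H ⊓ Subgroup.centralizer (A : Set G) :=
      inf_le_inf_right _ ((c.hArS.trans hST).trans hTW)
    rw [hC] at h1
    rw [le_bot_iff.mp h1, Subgroup.card_bot] at hZc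
    exact hr.out.one_lt.ne hZc

end Ctx

end Cfsg.Agent.Lib.Helper1.BGF
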