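import Mathlib
import Cfsg.Agent.Lib.Helper1.BGF6

set_option autoImplicit false
set_option maxHeartbeats 4000000
set_option linter.unusedVariables false
set_option linter.unusedSectionVars false
set_option linter.style.longLine false
set_option linter.unusedSimpArgs false
set_option linter.deprecated false
set_option linter.style.haveILetI false

/-!
# B&G Theorem 11.7: the final contradiction
-/

open scoped commutatorElement Pointwise
universe u
namespace Cfsg.Agent.Lib.Helper1.BGF

open Cfsg Cfsg.Agent.Lib.Helper1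

variable {G : Type u} [Group G] [Finite G]

omit [Finite G] in
/-- bilinearity of commutators in class two -/
theorem class_two_pow {b f z : G} (hz : z = b * f * b⁻¹ * f⁻¹) (hzb : Commute z b)
    (hzf : Commute z f) (m n : ℕ) :
    b ^ m * f ^ n * (b ^ m)⁻¹ * (f ^ n)⁻¹ = z ^ (m * n) := by
  have h0 : b * f = z * f * b := by rw [hz]; group
  have h1 : ∀ n : ℕ, b * f ^ n = z ^ n * f ^ n * b := by
    intro n
    induction n with
    | zero => simp
    | succ n ih =>
      have hzfn : Commute z (f ^ n) := hzf.pow_right n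
      calc b * f ^ (n + 1) = (b * f ^ n) * f := by rw [pow_succ, mul_assoc]
        _ = z ^ n * f ^ n * (b * f) := by rw [ih]; group
        _ = z ^ n * f ^ n * (z * f * b) := by rw [h0]
        _ = z ^ n * (f ^ n * z) * f * b := by group
        _ = z ^ n * (z * f ^ n) * f * b := by rw [hzfn.eq]
        _ = z ^ (n + 1) * f ^ (n + 1) * b := by rw [pow_succ, pow_succ]; group
  have hc : Commute (z ^ n) b := hzb.pow_left n
  have hcf : Commute (z ^ n) (f ^ n) := (hzf.pow_right n).pow_left n
  have h2 : ∀ m : ℕ, b ^ m * f ^ n = (z ^ n) ^ m * f ^ n * b ^ m := by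
    intro m
    induction m with
    | zero => simp
    | succ m ih =>
      have hcm : Commute ((z ^ n) ^ m) b := hc.pow_left m
      calc b ^ (m + 1) * f ^ n = b * (b ^ m * f ^ n) := by rw [pow_succ']; group
        _ = b * ((z ^ n) ^ m * f ^ n * b ^ m) := by rw [ih]
        _ = (b * (z ^ n) ^ m) * f ^ n * b ^ m := by group
        _ = ((z ^ n) ^ m * b) * f ^ n * b ^ m := by rw [hcm.eq]
        _ = (z ^ n) ^ m * (b * f ^ n) * b ^ m := by group
        _ = (z ^ n) ^ m * (z ^ n * f ^ n * b) * b ^ m := by rw [h1 n]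
        _ = (z ^ n) ^ (m + 1) * f ^ n * b ^ (m + 1) := by rw [pow_succ, pow_succ]; group
  rw [h2 m, ← pow_mul, mul_comm n m]
  group

omit [Finite G] in
theorem eq_of_comm_conj {aj c a : G} (h1 : Commute aj c) (h2 : Commute aj a) :
    (aj * c) * (aj * a⁻¹)⁻¹ = c * a := by
  have h3 : Commute aj (c * a) := h1.mul_right h2
  calc (aj * c) * (aj * a⁻¹)⁻¹ = aj * (c * a) * aj⁻¹ := by group
    _ = (c * a) * aj * aj⁻¹ := by rw [h3.eq]
    _ = c * a := by group

omit [Finite G] in
theorem eq_of_comm_conj' {aj c a : G} (h1 : Commute aj c) (h2 : Commute aj a) :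
    (aj * c) * (aj * a)⁻¹ = c * a⁻¹ := by
  have h3 : Commute aj (c * a⁻¹) := h1.mul_right h2.inv_right
  calc (aj * c) * (aj * a)⁻¹ = aj * (c * a⁻¹) * aj⁻¹ := by group
    _ = (c * a⁻¹) * aj * aj⁻¹ := by rw [h3.eq]
    _ = c * a⁻¹ := by group

/-- an element `t` of odd order normalizing the abelian `p`-group `A` (`p` odd) and inverting it
modulo `X` forces `A = X` -/
theorem le_of_invert {p : ℕ} [hp : Fact p.Prime] (hp2 : p ≠ 2) {A X : Subgroup G} {t : G}
    (hAe : IsElementaryAbelian p A) (hXA : X ≤ A) (ht : t ∈ Subgroup.normalizer (A : Set G))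
    (hodd : Odd (orderOf t)) (hstar : ∀ a ∈ A, a * (t⁻¹ * a * t) ∈ X) : A ≤ X := by
  have hcomm : ∀ x ∈ A, ∀ y ∈ A, Commute x y := fun x hx y hy =>
    isElementaryAbelian_comm hAe hx hy
  have hconj : ∀ j : ℕ, ∀ a ∈ A, (t ^ j)⁻¹ * a * t ^ j ∈ A := by
    intro j a ha
    have h1 : (t ^ j)⁻¹ ∈ Subgroup.normalizer (A : Set G) :=
      Subgroup.inv_mem _ (Subgroup.pow_mem _ ht j)
    have := (Subgroup.mem_normalizer_iff.mp h1 a).mp ha
    rwa [inv_inv] at this
  have key : ∀ j : ℕ, ∀ a ∈ A, (Even j → (t ^ j)⁻¹ * a * t ^ j * a⁻¹ ∈ X) ∧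
      (Odd j → (t ^ j)⁻¹ * a * t ^ j * a ∈ X) := by
    intro j
    induction j with
    | zero =>
      intro a ha
      refine ⟨fun _ => ?_, fun h => absurd h (by decide)⟩
      simp only [pow_zero, inv_one, one_mul, mul_one, mul_inv_cancel]
      exact X.one_mem
    | succ j ih =>
      intro a ha
      obtain ⟨aj, hajdef⟩ : ∃ aj : G, aj = (t ^ j)⁻¹ * a * t ^ j := ⟨_, rfl⟩
      have haj : aj ∈ A := hajdef ▸ hconj j a ha
      have hnext : (t ^ (j + 1))⁻¹ * a * t ^ (j + 1) = t⁻¹ * aj * t := by
        rw [hajdef, pow_succ]; group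
      have hcA : t⁻¹ * aj * t ∈ A := by
        have := hconj 1 aj haj
        rwa [pow_one] at this
      have hs := hstar aj haj
      rw [hnext]
      constructor
      · intro hev
        have hjodd : Odd j := by
          rcases Nat.even_or_odd j with h | h
          · exact absurd hev (by rw [Nat.even_add_one]; exact not_not.mpr h)
          · exact h
        have h1 := (ih a ha).2 hjodd
        rw [← hajdef] at h1
        have e := eq_of_comm_conj' (hcomm aj haj _ hcA) (hcomm aj haj a ha)
        rw [← e]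
        exact X.mul_mem hs (X.inv_mem h1)
      · intro hod
        have hjev : Even j := by
          rcases Nat.even_or_odd j with h | h
          · exact h
          · exact absurd hod (by rw [Nat.odd_add_one]; exact not_not.mpr h)
        have h1 := (ih a ha).1 hjev
        rw [← hajdef] at h1
        have e := eq_of_comm_conj (hcomm aj haj _ hcA) (hcomm aj haj a ha)
        rw [← e]
        exact X.mul_mem hs (X.inv_mem h1)
  intro a ha
  have h1 := (key (orderOf t) a ha).2 hodd
  rw [pow_orderOf_eq_one] at h1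
  simp only [inv_one, one_mul, mul_one] at h1
  -- `a * a ∈ X`, hence `a ∈ X`
  obtain ⟨m, hm⟩ : Odd p := hp.out.odd_of_ne_two hp2
  have h2 : (a * a) ^ (m + 1) = a := by
    rw [← pow_two, ← pow_mul]
    have : 2 * (m + 1) = p + 1 := by omega
    rw [this, pow_succ, hAe.2 a ha, one_mul]
  rw [← h2]
  exact X.pow_mem h1 _

end Cfsg.Agent.Lib.Helper1.BGF
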