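import Mathlib
import Cfsg.Agent.Lib.Helper1.BGF7

set_option autoImplicit false
set_option maxHeartbeats 4000000
set_option linter.unusedVariables false
set_option linter.unusedSectionVars false
set_option linter.style.longLine false
set_option linter.unusedSimpArgs false
set_option linter.deprecated false
set_option linter.style.haveILetI false

/-!
# B&G Theorem 11.7: the final contradiction (continued) and the theorem
-/

open scoped commutatorElement Pointwise
universe u
namespace Cfsg.Agent.Lib.Helper1.BGF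

open Cfsg Cfsg.Agent.Lib.Helper1

variable {G : Type u} [Group G] [Finite G]

namespace Ctx

variable {M : Subgroup G} {p r : ℕ} [hp : Fact p.Prime] [hr : Fact r.Prime]
  {A₀ A U Ar S T : Subgroup G}

include hp hr

/-- the element `t ∈ N(A) ∩ N(T) ∖ M` -/
theorem exists_t (c : Ctx M p r A₀ A U Ar S) (hT : T ∈ maxInvSubgroups ⊤ A {r}) (hST : S ≤ T) :
    ∃ t : G, t ∈ Subgroup.normalizer (A : Set G) ∧ BG7.cj t T = T ∧ t ∉ M := by
  classical
  obtain ⟨Pp, hPp, hAPp⟩ := BT.exists_isMaxP_ge c.hAp c.hAM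
  obtain ⟨-, hP2⟩ := solid_sylow c.hS c.excp hPp
  obtain ⟨hPΩ, hNP⟩ := hP2 hAPp
  obtain ⟨g, hgN, hgM⟩ := SetLike.not_le_iff_exists.mp hNP
  have hgA : g ∈ Subgroup.normalizer (A : Set G) := normalizer_le_of_omega hAPp hPΩ hgN
  obtain ⟨-, hZc, -⟩ := c.comm_Ar
  have hrA : ¬ r ∣ Nat.card A := by
    rw [c.hA2]
    intro h
    exact c.hrp ((Nat.prime_dvd_prime_iff_eq hr.out hp.out).mp (hr.out.dvd_of_dvd_pow h))
  have hrC : r ∣ Nat.card (Subgroup.centralizer (A : Set G)) := by
    have h1 : Nat.card ↥(Ar ⊓ Subgroup.centralizer (A : Set G)) ∣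
        Nat.card (Subgroup.centralizer (A : Set G)) := Subgroup.card_dvd_of_le inf_le_right
    rwa [hZc] at h1
  have htr := Cfsg.Agent.S1394.result c.hG A (exc_TH c.hG c.excp) (exc_rank_center c.excp) r hr.out
    hrA hrC
  have hgT : BG7.cj g T ∈ maxInvSubgroups ⊤ A {r} :=
    BG7.cj_mem_maxInvSubgroups_of_mem_normalizer hgA hT
  obtain ⟨k, hk, hkT⟩ := htr T hT _ hgT
  have hkT' : BG7.cj g T = BG7.cj k T := hkT
  have hkC : k ∈ Subgroup.centralizer (A : Set G) := BG7.piCoreOf_le _ _ hk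
  have hkM : k ∈ M := exc_cent_le c.excp hkC
  refine ⟨k⁻¹ * g, ?_, ?_, ?_⟩
  · exact Subgroup.mul_mem _ (Subgroup.inv_mem _ (Subgroup.centralizer_le_normalizer _ hkC)) hgA
  · rw [BG7.cj_mul, hkT', BG7.cj_inv_cj]
  · intro h
    apply hgM
    have := M.mul_mem hkM h
    rwa [mul_inv_cancel_left] at this

/-- `F = U^t` cannot lie in `S` -/
theorem F_not_le_S (c : Ctx M p r A₀ A U Ar S) {t : G}
    (htA : t ∈ Subgroup.normalizer (A : Set G)) (htM : t ∉ M) : ¬ BG7.cj t U ≤ S := by
  intro hFS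
  obtain ⟨hcomm, -, -⟩ := c.comm_Ar
  obtain ⟨F, hFdef⟩ : ∃ F : Subgroup G, F = BG7.cj t U := ⟨_, rfl⟩
  rw [← hFdef] at hFS
  have hFc : Nat.card F = r := by rw [hFdef, BG7.card_cj]; exact c.hUc
  -- `F ≤ A_r`
  have hFAr : F ≤ Ar := by
    intro x hx
    rw [← c.hSΩ x (hFS hx)]
    rw [hFdef, BG7.mem_cj] at hx
    have h1 : (t⁻¹ * x * t) ^ r = 1 := c.hAre.2 _ (c.hUAr hx)
    have h2 : x = t * (t⁻¹ * x * t) * t⁻¹ := by group
    rw [h2, conj_pow, h1]; group
  -- `A` normalizes `F`
  have hAF : A ≤ Subgroup.normalizer (F : Set G) := by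
    have h1 := BG9.cj_le_normalizer_cj t c.hAU
    rw [BG7.cj_eq_of_mem_normalizer htA] at h1
    rw [hFdef]; exact h1
  -- `A` does not centralize `F`
  have hncF : ¬ A ≤ Subgroup.centralizer (F : Set G) := by
    intro hAF'
    apply c.hnc
    intro a ha
    rw [Subgroup.mem_centralizer_iff]
    intro u hu
    have ha' : t * a * t⁻¹ ∈ A := (Subgroup.mem_normalizer_iff.mp htA a).mp ha
    have hf : t * u * t⁻¹ ∈ F := by rw [hFdef]; exact BG7.conj_mem_cj hu
    have h1 := Subgroup.mem_centralizer_iff.mp (hAF' ha') _ hf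
    have h2 : t * (u * a) * t⁻¹ = t * (a * u) * t⁻¹ := by
      calc t * (u * a) * t⁻¹ = (t * u * t⁻¹) * (t * a * t⁻¹) := by group
        _ = (t * a * t⁻¹) * (t * u * t⁻¹) := h1
        _ = t * (a * u) * t⁻¹ := by group
    exact mul_left_cancel (mul_right_cancel h2)
  have hFF : ⁅F, A⁆ = F := by
    apply eq_of_le_prime_card hr.out hFc (Subgroup.le_normalizer_iff_commutator_le_left.mp hAF)
    intro h
    apply hncF
    rw [Subgroup.commutator_comm] at h
    exact Subgroup.commutator_eq_bot_iff_le_centralizer.mp h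
  have hFU : F ≤ U := by
    rw [← hFF, ← hcomm]
    exact Subgroup.commutator_mono hFAr le_rfl
  have hFU' : F = U := Subgroup.eq_of_le_of_card_ge hFU (by rw [hFc, c.hUc])
  have h1 : t ∈ Subgroup.normalizer (U : Set G) := by
    apply BG7.mem_normalizer_of_cj_eq
    rw [← hFdef, hFU']
  rw [c.hNU] at h1
  exact htM h1

/-- the configuration is contradictory -/
theorem false_of (c : Ctx M p r A₀ A U Ar S) : False := by
  classical
  have hSinv : S ∈ invSubgroups ⊤ A {r} :=
    BG7.mem_invSubgroups_top_of_isPGroup hr.out c.hSp c.hAS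
  obtain ⟨T, hT, hST⟩ := BG7.exists_max_above hSinv
  have hTs := c.T_sylow hT hST
  have hTr := c.T_rank hT hST
  have hTp := c.T_pgroup hT
  have hAT : A ≤ Subgroup.normalizer (T : Set G) := hT.1.2.2
  obtain ⟨t, htA, htT, htM⟩ := c.exists_t hT hST
  have hFS := c.F_not_le_S htA htM
  have hFT : BG7.cj t U ≤ T := by
    have := BG7.cj_mono (k := t) (c.hUS.trans hST)
    rwa [htT] at this
  obtain ⟨hcommAr, -, -⟩ := c.comm_Ar
  obtain ⟨P, hP⟩ := hTs.exists_sylow_top
  have hPr : PRankLE r 2 ↥(P : Subgroup G) := by rw [hP]; exact hTr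
  rcases Cfsg.Agent.S1412.result c.hG r P hPr with hab | ⟨P₁, P₂, hsup, hcomm, hna, hc3, hexp, hcyc, hcl⟩
  · -- abelian
    rw [hP] at hab
    apply hFS
    have hTS : T ≤ S := by
      refine le_trans ?_ (c.T_inf_cent hT hST)
      apply le_inf le_rfl
      intro x hx
      rw [Subgroup.mem_centralizer_iff]
      intro y hy
      have := hab.is_comm.comm ⟨y, hST (c.hArS hy)⟩ ⟨x, hx⟩
      exact congrArg Subtype.val this
    exact hFT.trans hTS
  · rw [hP] at hsup
    have hP₁T : P₁ ≤ T := hsup ▸ le_sup_left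
    have hexp' : ∀ a ∈ P₁, a ^ r = 1 := by
      intro a ha
      have h1 := Monoid.pow_exponent_eq_one (⟨a, ha⟩ : ↥P₁)
      rw [hexp] at h1
      have h2 := congrArg Subtype.val h1
      simpa using h2
    have hN1 : ∀ x ∈ T, x ^ r = 1 → x ∈ P₁ := by
      intro x hx hxr
      rw [← hsup] at hx
      obtain ⟨a, ha, b, hb, rfl⟩ := Lead.ComplIn.mem_sup_of_commute hcomm hx
      have hab : Commute a b := hcomm a ha b hb
      rw [hab.mul_pow, hexp' a ha, one_mul] at hxr
      have hbZ : b ∈ P₁ ⊓ Subgroup.centralizer (P₁ : Set G) := by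
        rw [← hcl]; exact Subgroup.subset_closure ⟨hb, hxr⟩
      exact P₁.mul_mem ha (Subgroup.mem_inf.mp hbZ).1
    obtain ⟨Z₁, hZ₁def⟩ : ∃ Z₁ : Subgroup G, Z₁ = P₁ ⊓ Subgroup.centralizer (P₁ : Set G) :=
      ⟨_, rfl⟩
    have hder : ⁅P₁, P₁⁆ = Z₁ := hZ₁def ▸ MS.commutator_eq_center_of_card_cube P₁ hc3 hna
    have hZ₁P₁ : Z₁ ≤ P₁ := hZ₁def ▸ inf_le_left
    have hZ₁C : Z₁ ≤ Subgroup.centralizer (P₁ : Set G) := hZ₁def ▸ inf_le_right
    have hZ₁c : Nat.card Z₁ = r := by
      have hnc' : ¬ ∀ a b : ↥P₁, a * b = b * a := fun h => hna ⟨⟨h⟩⟩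
      have hZc := BK.card_center_of_card_cube hc3 hnc'
      have e : Z₁.subgroupOf P₁ = Subgroup.center ↥P₁ := by
        ext z
        rw [hZ₁def, Subgroup.mem_subgroupOf, Subgroup.mem_inf, Subgroup.mem_center_iff,
          Subgroup.mem_centralizer_iff]
        constructor
        · rintro ⟨_, h⟩ g
          apply Subtype.ext
          simpa using h g g.2
        · intro h
          refine ⟨z.2, fun c hc' => ?_⟩
          simpa using congrArg Subtype.val (h ⟨c, hc'⟩)
      rw [← hZc, ← e, card_subgroupOf_of_le hZ₁P₁]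
    have hArP₁ : Ar ≤ P₁ := fun x hx => hN1 x (hST (c.hArS hx)) (c.hAre.2 x hx)
    have hUP₁ : U ≤ P₁ := c.hUAr.trans hArP₁
    -- `A` normalizes `P₁` and `Z₁`
    have hAP₁ : A ≤ Subgroup.normalizer (P₁ : Set G) := by
      apply le_normalizer_of_conj_mem
      intro a ha x hx
      apply hN1
      · exact (Subgroup.mem_normalizer_iff.mp (hAT ha) x).mp (hP₁T hx)
      · rw [conj_pow, hexp' x hx]; group
    have hAZ₁ : A ≤ Subgroup.normalizer (Z₁ : Set G) := by
      rw [hZ₁def]
      exact le_normalizer_inf hAP₁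
        (hAP₁.trans (BG7.normalizer_le_normalizer_centralizer_self P₁))
    -- `Z₁ ≤ A_r`
    have hZ₁Ar : Z₁ ≤ Ar := by
      have hB : IsElementaryAbelian r (Subgroup.closure ((Ar : Set G) ∪ (Z₁ : Set G))) := by
        apply isElementaryAbelian_closure
        · intro x hx y hy
          rcases hx with hx | hx <;> rcases hy with hy | hy
          · exact isElementaryAbelian_comm c.hAre hx hy
          · exact Subgroup.mem_centralizer_iff.mp (hZ₁C hy) x (hArP₁ hx)
          · exact (Subgroup.mem_centralizer_iff.mp (hZ₁C hx) y (hArP₁ hy)).symm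
          · exact Subgroup.mem_centralizer_iff.mp (hZ₁C hy) x (hZ₁P₁ hx)
        · intro x hx
          rcases hx with hx | hx
          · exact c.hAre.2 x hx
          · exact hexp' x (hZ₁P₁ hx)
      have hArB : Ar ≤ Subgroup.closure ((Ar : Set G) ∪ (Z₁ : Set G)) :=
        fun x hx => Subgroup.subset_closure (Or.inl hx)
      have h1 := exc_max c.hG c.excr _ hB hArB
      intro z hz
      rw [← h1]
      exact Subgroup.subset_closure (Or.inr hz)
    -- `Z₁ ≠ U`
    have hZ₁U : Z₁ ≠ U := by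
      intro h
      apply hna
      have hP₁M : P₁ ≤ M := by
        have h1 : P₁ ≤ Subgroup.centralizer (U : Set G) := by
          rw [← h]; exact BG9.le_centralizer_symm hZ₁C
        rw [← c.hNU]
        exact h1.trans (Subgroup.centralizer_le_normalizer _)
      have hP₁S : P₁ ≤ S := by
        rw [← c.T_inf_M hT hST]; exact le_inf hP₁T hP₁M
      exact ⟨⟨fun a b => Subtype.ext (c.hSc a (hP₁S a.2) b (hP₁S b.2))⟩⟩
    have hinf : Z₁ ⊓ U = ⊥ := by
      by_contra hne
      have h1 : Z₁ ⊓ U = U := eq_of_le_prime_card hr.out c.hUc inf_le_right hne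
      have h2 : U ≤ Z₁ := h1 ▸ inf_le_left
      exact hZ₁U (eq_of_le_prime_card hr.out hZ₁c h2 c.hU1).symm
    have hZ₁A : Z₁ ≤ Subgroup.centralizer (A : Set G) := by
      rw [← Subgroup.commutator_eq_bot_iff_le_centralizer, eq_bot_iff, ← hinf]
      apply le_inf (Subgroup.le_normalizer_iff_commutator_le_left.mp hAZ₁)
      rw [← hcommAr]
      exact Subgroup.commutator_mono hZ₁Ar le_rfl
    -- generators
    obtain ⟨b, hbU, hb1⟩ : ∃ b ∈ U, b ≠ 1 := by
      by_contra hne
      push Not at hne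
      exact c.hU1 ((Subgroup.eq_bot_iff_forall _).mpr hne)
    have hbr : b ^ r = 1 := c.hAre.2 b (c.hUAr hbU)
    have hUb : Subgroup.zpowers b = U := by
      apply eq_of_le_prime_card hr.out c.hUc (Subgroup.zpowers_le.mpr hbU)
      intro h
      apply hb1
      have := Subgroup.mem_zpowers b
      rw [h, Subgroup.mem_bot] at this
      exact this
    obtain ⟨f, hfdef⟩ : ∃ f : G, f = t * b * t⁻¹ := ⟨_, rfl⟩
    have hfF : f ∈ BG7.cj t U := hfdef ▸ BG7.conj_mem_cj hbU
    have hf1 : f ≠ 1 := by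
      intro h
      apply hb1
      rw [hfdef] at h
      calc b = t⁻¹ * (t * b * t⁻¹) * t := by group
        _ = 1 := by rw [h]; group
    have hFc : Nat.card (BG7.cj t U) = r := by rw [BG7.card_cj]; exact c.hUc
    have hFf : Subgroup.zpowers f = BG7.cj t U := by
      apply eq_of_le_prime_card hr.out hFc (Subgroup.zpowers_le.mpr hfF)
      intro h
      apply hf1
      have := Subgroup.mem_zpowers f
      rw [h, Subgroup.mem_bot] at this
      exact this
    have hbP₁ : b ∈ P₁ := hUP₁ hbU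
    have hfT : f ∈ T := hFT hfF
    have hfr : f ^ r = 1 := by rw [hfdef, conj_pow, hbr]; group
    have hfP₁ : f ∈ P₁ := hN1 f hfT hfr
    obtain ⟨z, hzdef⟩ : ∃ z : G, z = b * f * b⁻¹ * f⁻¹ := ⟨_, rfl⟩
    have hzZ₁ : z ∈ Z₁ := by
      rw [← hder, hzdef]
      have := Subgroup.commutator_mem_commutator hbP₁ hfP₁
      rwa [commutatorElement_def] at this
    have hzb : Commute z b := (Subgroup.mem_centralizer_iff.mp (hZ₁C hzZ₁) b hbP₁).symm
    have hzf : Commute z f := (Subgroup.mem_centralizer_iff.mp (hZ₁C hzZ₁) f hfP₁).symm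
    have hz1 : z ≠ 1 := by
      intro hz
      apply hFS
      have hbf : b * f = f * b := by
        have h1 : b * f * b⁻¹ * f⁻¹ = 1 := hzdef ▸ hz
        calc b * f = (b * f * b⁻¹ * f⁻¹) * (f * b) := by group
          _ = f * b := by rw [h1, one_mul]
      have hfCU : f ∈ Subgroup.centralizer (U : Set G) := by
        rw [← hUb, BT.centralizer_zpowers_eq, Subgroup.mem_centralizer_iff]
        intro y hy
        rw [Set.mem_singleton_iff] at hy
        rw [hy]; exact hbf
      have hfM : f ∈ M := by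
        rw [← c.hNU]; exact Subgroup.centralizer_le_normalizer _ hfCU
      have hfS : f ∈ S := by
        rw [← c.T_inf_M hT hST]; exact Subgroup.mem_inf.mpr ⟨hfT, hfM⟩
      rw [← hFf]; exact Subgroup.zpowers_le.mpr hfS
    have hzr : z ^ r = 1 := hexp' z (hZ₁P₁ hzZ₁)
    have hzo : orderOf z = r := orderOf_eq_prime hzr hz1
    have hbo : orderOf b = r := orderOf_eq_prime hbr hb1
    -- the inversion property
    have hstar : ∀ a ∈ A, a * (t⁻¹ * a * t) ∈ A ⊓ Subgroup.centralizer (U : Set G) := by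
      intro a ha
      have ha'' : t⁻¹ * a * t ∈ A := by
        have := (Subgroup.mem_normalizer_iff.mp (Subgroup.inv_mem _ htA) a).mp ha
        rwa [inv_inv] at this
      have hexpo : ∀ y ∈ A, ∃ k : ℕ, y * b * y⁻¹ = b ^ k := by
        intro y hy
        have h1 : y * b * y⁻¹ ∈ U := (Subgroup.mem_normalizer_iff.mp (c.hAU hy) b).mp hbU
        rw [← hUb, ← mem_powers_iff_mem_zpowers] at h1
        obtain ⟨k, hk⟩ := h1
        exact ⟨k, hk.symm⟩
      obtain ⟨k, hk⟩ := hexpo a ha
      obtain ⟨k', hk'⟩ := hexpo _ ha''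
      have hf' : a * f * a⁻¹ = f ^ k' := by
        rw [hfdef]
        calc a * (t * b * t⁻¹) * a⁻¹ = t * ((t⁻¹ * a * t) * b * (t⁻¹ * a * t)⁻¹) * t⁻¹ := by group
          _ = t * b ^ k' * t⁻¹ := by rw [hk']
          _ = (t * b * t⁻¹) ^ k' := by rw [conj_pow]
      have hza : a * z * a⁻¹ = z := by
        have := Subgroup.mem_centralizer_iff.mp (hZ₁A hzZ₁) a ha
        rw [this]; group
      have h1 : a * z * a⁻¹ = z ^ (k * k') := by
        rw [← class_two_pow hzdef hzb hzf k k', ← hk, ← hf', hzdef]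
        group
      have h2 : z ^ (k * k') = z ^ 1 := by rw [pow_one, ← h1, hza]
      have h3 : k * k' ≡ 1 [MOD r] := by rw [← hzo]; exact pow_eq_pow_iff_modEq.mp h2
      have h4 : b ^ (k * k') = b := by
        have h5 : k * k' ≡ 1 [MOD orderOf b] := by rw [hbo]; exact h3
        have := pow_eq_pow_iff_modEq.mpr h5
        rwa [pow_one] at this
      refine Subgroup.mem_inf.mpr ⟨A.mul_mem ha ha'', ?_⟩
      rw [← hUb, BT.centralizer_zpowers_eq, Subgroup.mem_centralizer_iff]
      intro y hy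
      rw [Set.mem_singleton_iff] at hy
      rw [hy]
      have h5 : (a * (t⁻¹ * a * t)) * b * (a * (t⁻¹ * a * t))⁻¹ = b := by
        calc (a * (t⁻¹ * a * t)) * b * (a * (t⁻¹ * a * t))⁻¹
            = a * ((t⁻¹ * a * t) * b * (t⁻¹ * a * t)⁻¹) * a⁻¹ := by group
          _ = a * b ^ k' * a⁻¹ := by rw [hk']
          _ = (a * b * a⁻¹) ^ k' := by rw [conj_pow]
          _ = (b ^ k) ^ k' := by rw [hk]
          _ = b ^ (k * k') := by rw [pow_mul]
          _ = b := h4
      calc b * (a * (t⁻¹ * a * t))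
          = ((a * (t⁻¹ * a * t)) * b * (a * (t⁻¹ * a * t))⁻¹) * (a * (t⁻¹ * a * t)) := by rw [h5]
        _ = (a * (t⁻¹ * a * t)) * b := by group
    have hodd : Odd (orderOf t) := Odd.of_dvd_nat c.hG.1 (orderOf_dvd_natCard t)
    have hfin := le_of_invert (exc_ne_two c.hG c.excp) c.hAe inf_le_left htA hodd hstar
    exact c.hnc (hfin.trans inf_le_right)

end Ctx

/-- **B&G Theorem 11.7** (from the facts 11.1-11.6 bundled in `Solid`): for an exceptional
quadruple `(M, p, A₀, A)`, `M_σ A` is normal in `M`. -/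
theorem t117 (hG : IsMinSimpleOddOrder G) (hS : Solid G) {M : Subgroup G} {p : ℕ}
    [hp : Fact p.Prime] {A₀ A : Subgroup G} (h : Exc M p A₀ A) :
    M ≤ Subgroup.normalizer ((sigmaCore M ⊔ A : Subgroup G) : Set G) := by
  apply reduction hG hS h
  intro r hr hrσ hrp
  by_contra hnc
  haveI : Fact r.Prime := ⟨hr⟩
  obtain ⟨U, Ar, hexc, hMU, hUW, hncU⟩ := exists_U hG hS h hrσ hrp hnc
  obtain ⟨Ar', S, c⟩ := exists_ctx hG hS h hrp hexc hMU hUW hncU
  exact c.false_of

end Cfsg.Agent.Lib.Helper1.BGF
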