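import Mathlib
import Cfsg.Agent.Lib.Helper1.BGF8
import Cfsg.Agent.Lib.Helper1.Fitting

set_option autoImplicit false
set_option maxHeartbeats 4000000
set_option linter.unusedVariables false
set_option linter.unusedSectionVars false
set_option linter.style.longLine false
set_option linter.unusedSimpArgs false
set_option linter.deprecated false
set_option linter.style.haveILetI false

/-!
# B&G Theorem 11.7 from a weaker hypothesis bundle (`(8)` only for `r`-groups)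
-/

open scoped commutatorElement Pointwise
universe u
namespace Cfsg.Agent.Lib.Helper1.BGF

open Cfsg Cfsg.Agent.Lib.Helper1

variable {G : Type u} [Group G] [Finite G]

/-- the `Solid` bundle with the last clause only for `r`-groups -/
def Solid' (G : Type u) [Group G] : Prop :=
  ∀ (M : Subgroup G) (p : ℕ) [Fact p.Prime] (A₀ A : Subgroup G), Exc M p A₀ A →
    sigmaCore M ≠ ⊥ ∧ Group.IsNilpotent (sigmaCore M) ∧
    (∀ P : Sylow p M, IsMulCommutative (P : Subgroup M) ∧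
        (A ≤ (P : Subgroup M).map M.subtype →
          (∀ x ∈ (P : Subgroup M).map M.subtype, x ^ p = 1 ↔ x ∈ A) ∧
          ¬ Subgroup.normalizer ((((P : Subgroup M).map M.subtype : Subgroup G)) : Set G) ≤ M)) ∧
    sigmaCore M ⊓ Subgroup.centralizer (A : Set G) = ⊥ ∧
    (∀ (r : ℕ) [Fact r.Prime] (R' : Subgroup G), R' ≤ M → IsPGroup r R' → r ∉ sigma M → r ≠ p →
      A ≤ Subgroup.normalizer (R' : Set G) → ⁅⁅R', A⁆, sigmaCore M⁆ = ⊥)

/-- from `r`-groups to arbitrary `A`-invariant `(σ(M) ∪ {p})'`-subgroups -/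
theorem clause_of_pgroups {M : Subgroup G} {p : ℕ} [hp : Fact p.Prime] {A : Subgroup G}
    (hAM : A ≤ M) (hAp : IsPGroup p A)
    (h : ∀ (r : ℕ) [Fact r.Prime] (R' : Subgroup G), R' ≤ M → IsPGroup r R' → r ∉ sigma M →
      r ≠ p → A ≤ Subgroup.normalizer (R' : Set G) → ⁅⁅R', A⁆, sigmaCore M⁆ = ⊥)
    (R' : Subgroup G) (hRM : R' ≤ M) (hAR : A ≤ Subgroup.normalizer (R' : Set G))
    (hπ : ∀ q : ℕ, q.Prime → q ∣ Nat.card R' → q ∉ sigma M ∧ q ≠ p) :
    ⁅⁅R', A⁆, sigmaCore M⁆ = ⊥ := by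
  classical
  obtain ⟨C, hCdef⟩ : ∃ C : Subgroup G, C = Subgroup.centralizer (sigmaCore M : Set G) := ⟨_, rfl⟩
  have hMC : M ≤ Subgroup.normalizer (C : Set G) := by
    rw [hCdef]
    exact (le_normalizer_sigmaCore M).trans (BG7.normalizer_le_normalizer_centralizer_self _)
  rw [Subgroup.commutator_eq_bot_iff_le_centralizer, ← hCdef]
  -- the subgroup of elements of `R'` centralized by `A` modulo `C`
  let D : Subgroup G :=
    { carrier := {k | k ∈ R' ∧ ∀ a ∈ A, a * k * a⁻¹ * k⁻¹ ∈ C}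
      mul_mem' := by
        rintro k₁ k₂ ⟨h1, h1'⟩ ⟨h2, h2'⟩
        refine ⟨R'.mul_mem h1 h2, fun a ha => ?_⟩
        have h3 : k₁ * (a * k₂ * a⁻¹ * k₂⁻¹) * k₁⁻¹ ∈ C :=
          (Subgroup.mem_normalizer_iff.mp (hMC (hRM h1)) _).mp (h2' a ha)
        have e : a * (k₁ * k₂) * a⁻¹ * (k₁ * k₂)⁻¹ =
            (a * k₁ * a⁻¹ * k₁⁻¹) * (k₁ * (a * k₂ * a⁻¹ * k₂⁻¹) * k₁⁻¹) := by group
        rw [e]; exact C.mul_mem (h1' a ha) h3
      one_mem' := ⟨R'.one_mem, fun a _ => by simp⟩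
      inv_mem' := by
        rintro k ⟨h1, h1'⟩
        refine ⟨R'.inv_mem h1, fun a ha => ?_⟩
        have h3 : k⁻¹ * (a * k * a⁻¹ * k⁻¹)⁻¹ * k⁻¹⁻¹ ∈ C :=
          (Subgroup.mem_normalizer_iff.mp (hMC (M.inv_mem (hRM h1))) _).mp
            (C.inv_mem (h1' a ha))
        have e : a * k⁻¹ * a⁻¹ * k⁻¹⁻¹ = k⁻¹ * (a * k * a⁻¹ * k⁻¹)⁻¹ * k⁻¹⁻¹ := by group
        rw [e]; exact h3 }
  have hDR : D ≤ R' := fun k hk => hk.1
  have hcop : (Nat.card A).Coprime (Nat.card R') := by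
    obtain ⟨k, hk⟩ := IsPGroup.iff_card.mp hAp
    rw [hk]
    apply Nat.Coprime.pow_left
    rw [Nat.Prime.coprime_iff_not_dvd hp.out]
    intro hd
    exact (hπ p hp.out hd).2 rfl
  have hAs : Group.IsSolvable ↥A := by
    haveI := hAp.isNilpotent
    infer_instance
  have htop : D.subgroupOf R' = ⊤ := by
    apply eq_top_of_forall_sylow_le
    intro s hsF
    have hs : s.Prime := hsF.out
    obtain ⟨P, hP⟩ := coprime_exists_invariant_sylow A R' hAR hcop (Or.inl hAs) s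
    refine ⟨P, ?_⟩
    by_cases hsd : s ∣ Nat.card R'
    · obtain ⟨hsσ, hsp⟩ := hπ s hs hsd
      have h1 := h s ((P : Subgroup ↥R').map R'.subtype) ((Subgroup.map_subtype_le _).trans hRM)
        (P.2.map _) hsσ hsp hP
      rw [Subgroup.commutator_eq_bot_iff_le_centralizer, ← hCdef] at h1
      intro k hk
      rw [Subgroup.mem_subgroupOf]
      refine ⟨k.2, fun a ha => ?_⟩
      have h2 : ⁅(k : G), a⁆ ∈ ⁅(P : Subgroup ↥R').map R'.subtype, A⁆ :=
        Subgroup.commutator_mem_commutator ⟨k, hk, rfl⟩ ha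
      have h3 := C.inv_mem (h1 h2)
      rw [commutatorElement_inv, commutatorElement_def] at h3
      exact h3
    · have h1 : (P : Subgroup ↥R') = ⊥ := by
        apply Subgroup.card_eq_one.mp
        obtain ⟨k, hk⟩ := IsPGroup.iff_card.mp P.2
        have h2 : Nat.card (P : Subgroup ↥R') ∣ Nat.card ↥R' := Subgroup.card_subgroup_dvd_card _
        rw [hk] at h2 ⊢
        by_cases hk0 : k = 0
        · rw [hk0, pow_zero]
        · exact absurd ((dvd_pow_self s hk0).trans h2) hsd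
      rw [h1]; exact bot_le
  rw [Subgroup.commutator_le]
  intro k hk a ha
  have h1 : (⟨k, hk⟩ : ↥R') ∈ D.subgroupOf R' := by rw [htop]; exact Subgroup.mem_top _
  have h2 := (Subgroup.mem_subgroupOf.mp h1).2 a ha
  have h3 := C.inv_mem h2
  have e : (a * k * a⁻¹ * k⁻¹)⁻¹ = ⁅k, a⁆ := by rw [commutatorElement_def]; group
  rwa [e] at h3

theorem solid_of_solid' (h : Solid' G) : Solid G := by
  intro M p hp A₀ A hexc
  obtain ⟨h1, h2, h3, h4, h5⟩ := h M p A₀ A hexc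
  refine ⟨h1, h2, h3, h4, ?_⟩
  intro R' hRM hAR hπ
  exact clause_of_pgroups hexc.2.2.1 (exc_pgroup hexc) h5 R' hRM hAR hπ

/-- B&G Theorem 11.7 from the weaker bundle -/
theorem t117' (hG : IsMinSimpleOddOrder G) (hS : Solid' G) {M : Subgroup G} {p : ℕ}
    [hp : Fact p.Prime] {A₀ A : Subgroup G} (h : Exc M p A₀ A) :
    M ≤ Subgroup.normalizer ((sigmaCore M ⊔ A : Subgroup G) : Set G) :=
  t117 hG (solid_of_solid' hS) h

end Cfsg.Agent.Lib.Helper1.BGF
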