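import Mathlib
import Cfsg.Agent.Lib.Helper1.BGF9
import Cfsg.Agent.Lib.Helper1.XS18

set_option autoImplicit false
set_option maxHeartbeats 4000000
set_option linter.unusedVariables false
set_option linter.unusedSectionVars false
set_option linter.style.longLine false
set_option linter.unusedSimpArgs false
set_option linter.deprecated false
set_option linter.style.haveILetI false

/-!
# B&G section 11, item (8): `[R', A]` centralizes `M_σ` (via B&G Theorem 3.4)
-/

open scoped commutatorElement Pointwise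
universe u
namespace Cfsg.Agent.Lib.Helper1.BGF

open Cfsg Cfsg.Agent.Lib.Helper1

variable {G : Type u} [Group G] [Finite G]

/-- an element centralizing the normal Sylow subgroups of the nilpotent `M_σ` centralizes `M_σ` -/
theorem mem_centralizer_sigmaCore (hG : IsMinSimpleOddOrder G) {M : Subgroup G} (hM : IsCoatom M)
    (hnil : Group.IsNilpotent (sigmaCore M)) {y : G}
    (h : ∀ (s : ℕ) [Fact s.Prime], s ∈ sigma M → ∀ Q : Subgroup G, BG8.IsMaxP s Q ⊤ →
      Q ≤ sigmaCore M → Subgroup.normalizer (Q : Set G) = M →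
      y ∈ Subgroup.centralizer (Q : Set G)) :
    y ∈ Subgroup.centralizer (sigmaCore M : Set G) := by
  rw [Subgroup.mem_centralizer_iff]
  intro w hw
  have hwc : w ∈ Subgroup.centralizer ({y} : Set G) := by
    apply Helper7.HallD.mem_of_primePow_mem (Subgroup.centralizer ({y} : Set G)) (orderOf w) w rfl
    rintro z hz ⟨s, e, hs, hze⟩
    haveI : Fact s.Prime := ⟨hs⟩
    by_cases he : e = 0
    · rw [he, pow_zero, orderOf_eq_one_iff] at hze
      rw [hze]; exact Subgroup.one_mem _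
    have hzW : z ∈ sigmaCore M := (Subgroup.zpowers_le.mpr hw) hz
    have hsW : s ∣ Nat.card (sigmaCore M) := by
      have h1 : orderOf z ∣ Nat.card (sigmaCore M) := by
        have := orderOf_dvd_natCard (⟨z, hzW⟩ : ↥(sigmaCore M))
        rwa [Subgroup.orderOf_mk] at this
      rw [hze] at h1
      exact (dvd_pow_self s he).trans h1
    have hsσ : s ∈ sigma M := sigmaCore_pi M s hs hsW
    obtain ⟨Q, hQtop, hQW, hNQ, hQ1⟩ := exists_normal_sylow hG hM hnil hsσ
    have hzp : IsPGroup s (Subgroup.zpowers z) := by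
      apply IsPGroup.of_card (n := e)
      rw [Nat.card_zpowers, hze]
    have hQM : BG8.IsMaxP s Q M := hQtop.mono (hQW.trans (sigmaCore_le M)) le_top
    obtain ⟨m, hm, hzm⟩ := BT.exists_cj_ge hQM hzp
      ((Subgroup.zpowers_le.mpr hzW).trans (sigmaCore_le M))
    have hmQ : BG7.cj m Q = Q :=
      BG7.cj_eq_of_mem_normalizer (hNQ.symm ▸ hm)
    rw [hmQ] at hzm
    have hzQ : z ∈ Q := hzm (Subgroup.mem_zpowers z)
    have h1 := h s hsσ Q hQtop hQW hNQ
    rw [Subgroup.mem_centralizer_iff]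
    intro y' hy'
    rw [Set.mem_singleton_iff] at hy'
    rw [hy']
    exact (Subgroup.mem_centralizer_iff.mp h1 z hzQ).symm
  exact Subgroup.mem_centralizer_iff.mp hwc y rfl |>.symm

/-- B&G Theorem 3.4 inside `M`: an element `x` of order `p` fixed-point-free on `M_σ` and an
`r`-subgroup `R'` of `M` normalized by `x`: `[x, R']` centralizes `M_σ`. -/
theorem comm_mem_centralizer (hG : IsMinSimpleOddOrder G) {M : Subgroup G} (hM : IsCoatom M)
    (hnil : Group.IsNilpotent (sigmaCore M)) {p r : ℕ} [hp : Fact p.Prime] [hr : Fact r.Prime]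
    (hpσ : p ∉ sigma M) (hrσ : r ∉ sigma M) (hrp : r ≠ p) {x : G} (hxM : x ∈ M)
    (hxp : x ^ p = 1) (hfpf : ∀ w ∈ sigmaCore M, x * w = w * x → w = 1)
    {R' : Subgroup G} (hRM : R' ≤ M) (hRp : IsPGroup r R')
    (hxR : x ∈ Subgroup.normalizer (R' : Set G)) :
    ∀ a ∈ R', ⁅x, a⁆ ∈ Subgroup.centralizer (sigmaCore M : Set G) := by
  classical
  intro a ha
  by_cases hR1 : R' = ⊥
  · have ha1 : a = 1 := by rw [hR1] at ha; exact ha
    rw [ha1, commutatorElement_one_right]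
    exact Subgroup.one_mem _
  have hr2 : r ≠ 2 := by
    have hrR : r ∣ Nat.card R' := BG8.dvd_card_of_isPGroup_ne_bot hRp hR1
    exact BG9.odd_prime_of_dvd hG (hrR.trans (Subgroup.card_subgroup_dvd_card R'))
  apply mem_centralizer_sigmaCore hG hM hnil
  intro s hsF hsσ Q hQtop hQW hNQ
  have hQM : Q ≤ M := hQW.trans (sigmaCore_le M)
  have hMQ : M ≤ Subgroup.normalizer (Q : Set G) := hNQ.symm ▸ le_rfl
  haveI hQn : (Q.subgroupOf M).Normal :=
    (Subgroup.normal_subgroupOf_iff_le_normalizer hQM).mpr hMQ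
  have hs : s.Prime := hsF.out
  have hsr : s ≠ r := fun h => hrσ (h ▸ hsσ)
  have hsp : s ≠ p := fun h => hpσ (h ▸ hsσ)
  have hxQ' : (⟨x, hxM⟩ : ↥M) ∈ Subgroup.normalizer ((R'.subgroupOf M : Subgroup ↥M) : Set ↥M) := by
    rw [← Subgroup.subgroupOf_normalizer_eq hRM, Subgroup.mem_subgroupOf]
    exact hxR
  have hxp' : (⟨x, hxM⟩ : ↥M) ^ p = 1 := by
    apply Subtype.ext
    rw [Subgroup.coe_pow, Subgroup.coe_one]
    exact hxp
  have hCP : ∀ v ∈ Q.subgroupOf M, (⟨x, hxM⟩ : ↥M) * v = v * ⟨x, hxM⟩ → v = 1 := by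
    intro v hv hxv
    apply Subtype.ext
    rw [Subgroup.coe_one]
    apply hfpf (v : G) (hQW (Subgroup.mem_subgroupOf.mp hv))
    have := congrArg Subtype.val hxv
    simpa using this
  have key := XS.hh_frattini (G := ↥M) (Q.subgroupOf M) hs hr.out hp.out hsr hsp hrp hr2
    hQtop.2.1.comap_subtype (R'.subgroupOf M) hRp.comap_subtype ⟨x, hxM⟩ hxp' hxQ' hCP
    ⟨a, hRM ha⟩ (Subgroup.mem_subgroupOf.mpr ha)
  rw [Subgroup.mem_centralizer_iff]
  intro q hq
  have h1 := Subgroup.mem_centralizer_iff.mp key ⟨q, hQM hq⟩ (Subgroup.mem_subgroupOf.mpr hq)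
  have h2 := congrArg Subtype.val h1
  simpa [commutatorElement_def] using h2

/-- B&G section 11, item (8) -/
theorem clause8 (hG : IsMinSimpleOddOrder G) {M : Subgroup G} {p : ℕ} [hp : Fact p.Prime]
    {A₀ A : Subgroup G} (h : Exc M p A₀ A) (hnil : Group.IsNilpotent (sigmaCore M))
    {A₁ A₁' : Subgroup G} (h1 : A₁ ≤ A) (h1' : A₁' ≤ A) (hc : Nat.card A₁ = p)
    (hc' : Nat.card A₁' = p) (hsup : A ≤ A₁ ⊔ A₁')
    (hf : sigmaCore M ⊓ Subgroup.centralizer (A₁ : Set G) = ⊥)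
    (hf' : sigmaCore M ⊓ Subgroup.centralizer (A₁' : Set G) = ⊥) :
    ∀ (r : ℕ) [Fact r.Prime] (R' : Subgroup G), R' ≤ M → IsPGroup r R' → r ∉ sigma M → r ≠ p →
      A ≤ Subgroup.normalizer (R' : Set G) → ⁅⁅R', A⁆, sigmaCore M⁆ = ⊥ := by
  classical
  intro r hr R' hRM hRp hrσ hrp hAR
  obtain ⟨C, hCdef⟩ : ∃ C : Subgroup G, C = Subgroup.centralizer (sigmaCore M : Set G) := ⟨_, rfl⟩
  have hMC : M ≤ Subgroup.normalizer (C : Set G) := by
    rw [hCdef]
    exact (le_normalizer_sigmaCore M).trans (BG7.normalizer_le_normalizer_centralizer_self _)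
  have hAM : A ≤ M := h.2.2.1
  have key : ∀ B : Subgroup G, B ≤ A → Nat.card B = p →
      sigmaCore M ⊓ Subgroup.centralizer (B : Set G) = ⊥ → ∀ x ∈ B, ∀ a ∈ R', ⁅x, a⁆ ∈ C := by
    intro B hBA hBc hBf x hx a ha
    by_cases hx1 : x = 1
    · rw [hx1, commutatorElement_one_left]; exact C.one_mem
    have hBx : Subgroup.zpowers x = B := by
      apply eq_of_le_prime_card hp.out hBc (Subgroup.zpowers_le.mpr hx)
      intro hb
      apply hx1
      have := Subgroup.mem_zpowers x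
      rw [hb, Subgroup.mem_bot] at this
      exact this
    rw [hCdef]
    apply comm_mem_centralizer hG h.1 hnil h.2.1 hrσ hrp (hAM (hBA hx))
      (h.2.2.2.1.2 x (hBA hx)) _ hRM hRp (hAR (hBA hx)) a ha
    intro w hw hxw
    have h2 : w ∈ sigmaCore M ⊓ Subgroup.centralizer (B : Set G) := by
      refine Subgroup.mem_inf.mpr ⟨hw, ?_⟩
      rw [← hBx, BT.centralizer_zpowers_eq, Subgroup.mem_centralizer_iff]
      intro y hy
      rw [Set.mem_singleton_iff] at hy
      rw [hy]; exact hxw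
    rw [hBf, Subgroup.mem_bot] at h2
    exact h2
  let D : Subgroup G :=
    { carrier := {y | y ∈ A ∧ ∀ a ∈ R', ⁅y, a⁆ ∈ C}
      mul_mem' := by
        rintro y₁ y₂ ⟨h1, h1'⟩ ⟨h2, h2'⟩
        refine ⟨A.mul_mem h1 h2, fun a ha => ?_⟩
        have h3 : y₁ * ⁅y₂, a⁆ * y₁⁻¹ ∈ C :=
          (Subgroup.mem_normalizer_iff.mp (hMC (hAM h1)) _).mp (h2' a ha)
        have e : ⁅y₁ * y₂, a⁆ = (y₁ * ⁅y₂, a⁆ * y₁⁻¹) * ⁅y₁, a⁆ := by
          simp only [commutatorElement_def]; group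
        rw [e]; exact C.mul_mem h3 (h1' a ha)
      one_mem' := ⟨A.one_mem, fun a _ => by rw [commutatorElement_one_left]; exact C.one_mem⟩
      inv_mem' := by
        rintro y ⟨h1, h1'⟩
        refine ⟨A.inv_mem h1, fun a ha => ?_⟩
        have h3 : y⁻¹ * ⁅y, a⁆⁻¹ * y⁻¹⁻¹ ∈ C :=
          (Subgroup.mem_normalizer_iff.mp (hMC (M.inv_mem (hAM h1))) _).mp
            (C.inv_mem (h1' a ha))
        have e : ⁅y⁻¹, a⁆ = y⁻¹ * ⁅y, a⁆⁻¹ * y⁻¹⁻¹ := by
          simp only [commutatorElement_def]; group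
        rw [e]; exact h3 }
  have hD1 : A₁ ≤ D := fun x hx => ⟨h1 hx, key A₁ h1 hc hf x hx⟩
  have hD1' : A₁' ≤ D := fun x hx => ⟨h1' hx, key A₁' h1' hc' hf' x hx⟩
  have hAD : A ≤ D := hsup.trans (sup_le hD1 hD1')
  rw [Subgroup.commutator_eq_bot_iff_le_centralizer, ← hCdef, Subgroup.commutator_le]
  intro a ha y hy
  have h2 := (hAD hy).2 a ha
  have h3 := C.inv_mem h2
  rwa [commutatorElement_inv] at h3

end Cfsg.Agent.Lib.Helper1.BGF
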