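import Mathlib
import Cfsg.Agent.Lib.Helper1.Nilpotent
import Cfsg.Agent.Lib.Helper1.ItoMetabelian
import Cfsg.Agent.Lib.Helper1.MinimalNormal
import Cfsg.Agent.Lib.Helper1.FactorizationSylow
set_option autoImplicit false
open scoped Pointwise commutatorElement
universe u
namespace Cfsg.Agent.Lib.Helper1.ItoNormal

variable {G : Type u} [Group G]

/-- a `p`-element has a nontrivial fixed point on a nontrivial normal `p`-subgroup -/
theorem exists_fixed_of_pElement [Finite G] {p : ℕ} [hp : Fact p.Prime] {N : Subgroup G}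
    [hNn : N.Normal] (hN : IsPGroup p N) (hN1 : N ≠ ⊥) {g : G} (hg : ∃ k : ℕ, g ^ (p ^ k) = 1) :
    ∃ x ∈ N, x ≠ 1 ∧ g * x = x * g := by
  obtain ⟨k, hk⟩ := hg
  have hZ : IsPGroup p (Subgroup.zpowers g) := by
    obtain ⟨j, -, hj⟩ := (Nat.dvd_prime_pow hp.out).mp (orderOf_dvd_of_pow_eq_one hk)
    apply IsPGroup.of_card (n := j)
    rw [Nat.card_zpowers, hj]
  have hH : IsPGroup p (Subgroup.zpowers g ⊔ N : Subgroup G) := hZ.to_sup_of_normal_right hN
  obtain ⟨H, hHdef⟩ : ∃ H, H = Subgroup.zpowers g ⊔ N := ⟨_, rfl⟩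
  rw [← hHdef] at hH
  have hNH : N ≤ H := hHdef ▸ le_sup_right
  have hgH : g ∈ H := hHdef ▸ Subgroup.mem_sup_left (Subgroup.mem_zpowers g)
  have : Group.IsNilpotent H := hH.isNilpotent
  have hN'n : (N.subgroupOf H).Normal := hNn.subgroupOf H
  have hN'1 : N.subgroupOf H ≠ ⊥ := by
    obtain ⟨a, ha⟩ := Subgroup.ne_bot_iff_exists_ne_one.mp hN1
    obtain ⟨y, hy, hy1⟩ : ∃ y ∈ N, y ≠ 1 := ⟨(a : G), a.2, fun h => ha (Subtype.ext h)⟩
    intro hbot
    have : (⟨y, hNH hy⟩ : H) ∈ N.subgroupOf H := by rw [Subgroup.mem_subgroupOf]; exact hy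
    rw [hbot, Subgroup.mem_bot] at this
    exact hy1 (congrArg Subtype.val this)
  have h1 := normal_inf_center_ne_bot (N.subgroupOf H) hN'1
  obtain ⟨x', hx'⟩ := Subgroup.ne_bot_iff_exists_ne_one.mp h1
  have hx'mem := x'.2
  rw [Subgroup.mem_inf, Subgroup.mem_subgroupOf] at hx'mem
  refine ⟨((x' : H) : G), hx'mem.1, ?_, ?_⟩
  · intro h
    apply hx'
    apply Subtype.ext
    apply Subtype.ext
    simpa using h
  · have := Subgroup.mem_center_iff.mp hx'mem.2 ⟨g, hgH⟩
    have h2 := congrArg Subtype.val this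
    simpa using h2

/-- central elements factorize into central elements -/
theorem center_factor (A B : Subgroup G) (hA : ∀ x ∈ A, ∀ y ∈ A, x * y = y * x)
    (hB : ∀ x ∈ B, ∀ y ∈ B, x * y = y * x) (hAB : ∀ g : G, ∃ a ∈ A, ∃ b ∈ B, g = a * b)
    {z a b : G} (hz : z ∈ Subgroup.center G) (ha : a ∈ A) (hb : b ∈ B) (hzab : z = a * b) :
    a ∈ Subgroup.center G ∧ b ∈ Subgroup.center G := by
  have hbA : ∀ a' ∈ A, b * a' = a' * b := by
    intro a' ha'
    have h1 := Subgroup.mem_center_iff.mp hz a'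
    rw [hzab] at h1
    -- a' * (a * b) = a * b * a'
    have h2 : a * (a' * b) = a * (b * a') := by
      rw [← mul_assoc, ← hA a' ha' a ha, mul_assoc, h1, mul_assoc]
    exact (mul_left_cancel h2).symm
  have hbc : b ∈ Subgroup.center G := by
    rw [Subgroup.mem_center_iff]
    intro g
    obtain ⟨a', ha', b', hb', rfl⟩ := hAB g
    rw [mul_assoc, hB b' hb' b hb, ← mul_assoc, ← hbA a' ha', mul_assoc]
  refine ⟨?_, hbc⟩
  have : a = z * b⁻¹ := by rw [hzab, mul_inv_cancel_right]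
  rw [this]
  exact Subgroup.mul_mem _ hz (Subgroup.inv_mem _ hbc)

theorem inf_center_normal (A : Subgroup G) : (A ⊓ Subgroup.center G).Normal := by
  constructor
  intro n hn g
  have := Subgroup.mem_center_iff.mp hn.2 g
  rw [this, mul_inv_cancel_right]
  exact hn

/-- the fixed points of `g` on a minimal normal subgroup `N` with `G' ≤ C_G(N)` -/
theorem fixed_dichotomy {N : Subgroup G} [hNn : N.Normal]
    (hmin : ∀ M : Subgroup G, M.Normal → M ≤ N → M = ⊥ ∨ M = N)
    (hder : commutator G ≤ Subgroup.centralizer (N : Set G)) (g : G) :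
    (∀ x ∈ N, g * x = x * g → x = 1) ∨ g ∈ Subgroup.centralizer (N : Set G) := by
  let D : Subgroup G := N ⊓ Subgroup.centralizer ({g} : Set G)
  have hDn : D.Normal := by
    constructor
    intro n hn h
    refine ⟨hNn.conj_mem n hn.1 h, ?_⟩
    change h * n * h⁻¹ ∈ Subgroup.centralizer ({g} : Set G)
    rw [Subgroup.mem_centralizer_iff]
    intro y hy
    rw [Set.mem_singleton_iff] at hy
    rw [hy]
    have hgn : g * n = n * g := Subgroup.mem_centralizer_iff.mp hn.2 g rfl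
    have hc : ⁅g⁻¹, h⁻¹⁆ ∈ Subgroup.centralizer (N : Set G) :=
      hder (Subgroup.commutator_mem_commutator (Subgroup.mem_top _) (Subgroup.mem_top _))
    have hcn := Subgroup.mem_centralizer_iff.mp hc n hn.1
    -- n * c = c * n
    have e1 : g * h = h * (g * ⁅g⁻¹, h⁻¹⁆) := by
      rw [commutatorElement_def]; group
    calc g * (h * n * h⁻¹) = (g * h) * n * h⁻¹ := by group
      _ = h * (g * (⁅g⁻¹, h⁻¹⁆ * n)) * h⁻¹ := by rw [e1]; group
      _ = h * (g * (n * ⁅g⁻¹, h⁻¹⁆)) * h⁻¹ := by rw [hcn]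
      _ = h * ((g * n) * ⁅g⁻¹, h⁻¹⁆) * h⁻¹ := by group
      _ = h * ((n * g) * ⁅g⁻¹, h⁻¹⁆) * h⁻¹ := by rw [hgn]
      _ = h * n * (g * ⁅g⁻¹, h⁻¹⁆) * h⁻¹ := by group
      _ = h * n * (h⁻¹ * (g * h)) * h⁻¹ := by rw [e1]; group
      _ = h * n * h⁻¹ * g := by group
  rcases hmin D hDn inf_le_left with h | h
  · left
    intro x hx hgx
    have : x ∈ D := ⟨hx, by
      change x ∈ Subgroup.centralizer ({g} : Set G)
      rw [Subgroup.mem_centralizer_iff]
      intro y hy
      rw [Set.mem_singleton_iff] at hy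
      rw [hy]; exact hgx⟩
    rw [h, Subgroup.mem_bot] at this
    exact this
  · right
    rw [Subgroup.mem_centralizer_iff]
    intro x hx
    have : x ∈ D := h ▸ hx
    exact (Subgroup.mem_centralizer_iff.mp this.2 g rfl).symm

end Cfsg.Agent.Lib.Helper1.ItoNormal
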