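import Mathlib
import Cfsg.Agent.Lib.Helper1.PCore
import Cfsg.Agent.Lib.Helper1.AbelianAction
import Cfsg.Agent.Lib.Helper1.ItoNormal1
set_option autoImplicit false
open scoped Pointwise commutatorElement
universe u
namespace Cfsg.Agent.Lib.Helper1.ItoNormal

variable {G : Type u} [Group G]

/-- if `c` centralizes `N` and moves `t` by an element of `N` of order dividing `p`, then `c ^ p`
centralizes `t` -/
theorem pow_comm_of_comm_mem {N : Subgroup G} {c t : G} (p : ℕ)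
    (hc : ∀ n ∈ N, c * n = n * c) (hδ : c * t * c⁻¹ * t⁻¹ ∈ N)
    (hexp : ∀ n ∈ N, n ^ p = 1) : c ^ p * t = t * c ^ p := by
  obtain ⟨δ, hδdef⟩ : ∃ δ, δ = c * t * c⁻¹ * t⁻¹ := ⟨_, rfl⟩
  rw [← hδdef] at hδ
  have h1 : c * t = δ * t * c := by rw [hδdef]; group
  have hcδ := hc δ hδ
  have key : ∀ m : ℕ, c ^ m * t = δ ^ m * t * c ^ m := by
    intro m
    induction m with
    | zero => simp
    | succ m ih =>
      have hcm : c ^ m * δ = δ * c ^ m := by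
        have : Commute c δ := hcδ
        exact (this.pow_left m)
      calc c ^ (m + 1) * t = c ^ m * (c * t) := by rw [pow_succ]; group
        _ = c ^ m * (δ * t * c) := by rw [h1]
        _ = (c ^ m * δ) * t * c := by group
        _ = (δ * c ^ m) * t * c := by rw [hcm]
        _ = δ * (c ^ m * t) * c := by group
        _ = δ * (δ ^ m * t * c ^ m) * c := by rw [ih]
        _ = δ ^ (m + 1) * t * c ^ (m + 1) := by rw [pow_succ' δ, pow_succ c]; group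
  rw [key p, hexp δ hδ, one_mul]

theorem mem_of_pow_mem_of_coprime {K : Subgroup G} [K.Normal] {c : G} {p m : ℕ}
    (hcop : Nat.Coprime p m) (h1 : c ^ p ∈ K) (h2 : c ^ m ∈ K) : c ∈ K := by
  have e1 : (QuotientGroup.mk' K c) ^ p = 1 := by
    rw [← map_pow]; exact (QuotientGroup.eq_one_iff _).mpr h1
  have e2 : (QuotientGroup.mk' K c) ^ m = 1 := by
    rw [← map_pow]; exact (QuotientGroup.eq_one_iff _).mpr h2
  have h3 : orderOf (QuotientGroup.mk' K c) ∣ Nat.gcd p m :=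
    Nat.dvd_gcd (orderOf_dvd_of_pow_eq_one e1) (orderOf_dvd_of_pow_eq_one e2)
  rw [hcop.gcd_eq_one, Nat.dvd_one, orderOf_eq_one_iff] at h3
  exact (QuotientGroup.eq_one_iff c).mp h3

/-- Case 2 of Itô's theorem is impossible. -/
theorem case_two_false [Finite G] {p : ℕ} [hp : Fact p.Prime] (A B : Subgroup G)
    (hA : ∀ x ∈ A, ∀ y ∈ A, x * y = y * x) (hB : ∀ x ∈ B, ∀ y ∈ B, x * y = y * x)
    (hAB : ∀ g : G, ∃ a ∈ A, ∃ b ∈ B, g = a * b)
    (hABbot : ∀ x, x ∈ A → x ∈ B → x = 1)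
    (N : Subgroup G) [hNn : N.Normal] (hN1 : N ≠ ⊥) (hNexp : ∀ x ∈ N, x ^ p = 1)
    (hNcomm : ∀ x ∈ N, ∀ y ∈ N, x * y = y * x)
    (hderC : commutator G ≤ Subgroup.centralizer (N : Set G))
    (hdich : ∀ g : G, (∀ x ∈ N, g * x = x * g → x = 1) ∨ g ∈ Subgroup.centralizer (N : Set G))
    (hAC : ¬ A ≤ Subgroup.centralizer (N : Set G)) (hBC : ¬ B ≤ Subgroup.centralizer (N : Set G)) :
    False := by
  obtain ⟨C, hC⟩ : ∃ C, C = Subgroup.centralizer (N : Set G) := ⟨_, rfl⟩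
  rw [← hC] at hderC hdich hAC hBC
  have hCn : C.Normal := hC ▸ inferInstance
  have hNp : IsPGroup p N := by
    rintro ⟨x, hx⟩
    exact ⟨1, Subtype.ext (by simpa using hNexp x hx)⟩
  have hNC : N ≤ C := by
    intro n hn
    rw [hC, Subgroup.mem_centralizer_iff]
    intro m hm
    exact hNcomm m hm n hn
  have hCcomm : ∀ c ∈ C, ∀ n ∈ N, c * n = n * c := by
    intro c hc n hn
    rw [hC] at hc
    exact (Subgroup.mem_centralizer_iff.mp hc n hn).symm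
  have hpel : ∀ g : G, (∃ k : ℕ, g ^ (p ^ k) = 1) → g ∈ C := by
    intro g hg
    rcases hdich g with h | h
    · obtain ⟨x, hxN, hx1, hgx⟩ := exists_fixed_of_pElement hNp hN1 hg
      exact absurd (h x hxN hgx) hx1
    · exact h
  obtain ⟨a₀, ha₀A, ha₀C⟩ := SetLike.not_le_iff_exists.mp hAC
  obtain ⟨b₀, hb₀B, hb₀C⟩ := SetLike.not_le_iff_exists.mp hBC
  have hfa := (hdich a₀).resolve_right ha₀C
  have hfb := (hdich b₀).resolve_right hb₀C
  have hAN : ∀ x, x ∈ A → x ∈ N → x = 1 := by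
    intro x hxA hxN
    by_contra hx1
    apply hAC
    intro a ha
    rcases hdich a with h | h
    · exact absurd (h x hxN (hA a ha x hxA)) hx1
    · exact h
  have hBN : ∀ x, x ∈ B → x ∈ N → x = 1 := by
    intro x hxB hxN
    by_contra hx1
    apply hBC
    intro b hb
    rcases hdich b with h | h
    · exact absurd (h x hxN (hB b hb x hxB)) hx1
    · exact h
  -- Sylow factorization
  obtain ⟨PA, PB, R, hR⟩ := factorization_sylow_product A B hAB p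
  have hNR : N ≤ R := (le_pCore hNn hNp).trans (pCore_le_sylow p R)
  obtain ⟨n₁', hn₁'⟩ := Subgroup.ne_bot_iff_exists_ne_one.mp hN1
  obtain ⟨n₁, hn₁N, hn₁1⟩ : ∃ y ∈ N, y ≠ 1 := ⟨(n₁' : G), n₁'.2, fun h => hn₁' (Subtype.ext h)⟩
  have hPAel : ∀ x ∈ (PA : Subgroup A).map A.subtype, x ∈ A ∧ x ∈ C := by
    rintro _ ⟨x', hx', rfl⟩
    refine ⟨x'.2, hpel _ ?_⟩
    obtain ⟨k, hk⟩ := PA.2 ⟨x', hx'⟩
    refine ⟨k, ?_⟩
    have := congrArg (fun t : PA => ((t : A) : G)) hk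
    simpa using this
  have hPBel : ∀ x ∈ (PB : Subgroup B).map B.subtype, x ∈ B ∧ x ∈ C := by
    rintro _ ⟨x', hx', rfl⟩
    refine ⟨x'.2, hpel _ ?_⟩
    obtain ⟨k, hk⟩ := PB.2 ⟨x', hx'⟩
    refine ⟨k, ?_⟩
    have := congrArg (fun t : PB => ((t : B) : G)) hk
    simpa using this
  have hn₁R : n₁ ∈ ((R : Subgroup G) : Set G) := hNR hn₁N
  rw [hR] at hn₁R
  obtain ⟨x, hxPA, y, hyPB, hxy⟩ := Set.mem_mul.mp hn₁R
  obtain ⟨hxA, hxC⟩ := hPAel x hxPA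
  obtain ⟨hyB, hyC⟩ := hPBel y hyPB
  have hx1 : x ≠ 1 := by
    intro h
    rw [h, one_mul] at hxy
    exact hn₁1 (hBN n₁ (hxy ▸ hyB) hn₁N)
  -- the subgroups A₁, B₁, T
  obtain ⟨A₁, hA₁⟩ : ∃ A₁, A₁ = A ⊓ (B ⊔ N) ⊓ C := ⟨_, rfl⟩
  obtain ⟨B₁, hB₁⟩ : ∃ B₁, B₁ = B ⊓ (A ⊔ N) ⊓ C := ⟨_, rfl⟩
  have hxA₁ : x ∈ A₁ := by
    rw [hA₁]
    refine ⟨⟨hxA, ?_⟩, hxC⟩
    have : x = n₁ * y⁻¹ := by rw [← hxy, mul_inv_cancel_right]
    rw [this]
    exact Subgroup.mul_mem _ (Subgroup.mem_sup_right hn₁N)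
      (Subgroup.inv_mem _ (Subgroup.mem_sup_left hyB))
  have hA₁A : A₁ ≤ A := hA₁ ▸ inf_le_left.trans inf_le_left
  have hA₁C : A₁ ≤ C := hA₁ ▸ inf_le_right
  have hB₁B : B₁ ≤ B := hB₁ ▸ inf_le_left.trans inf_le_left
  have hB₁C : B₁ ≤ C := hB₁ ▸ inf_le_right
  have hT2 : N ⊔ A₁ = N ⊔ B₁ := by
    apply le_antisymm
    · apply sup_le le_sup_left
      intro a₁ ha₁
      have h1 : a₁ ∈ B ⊔ N := by rw [hA₁] at ha₁; exact ha₁.1.2
      obtain ⟨b, hb, n, hn, hbn⟩ := Subgroup.mem_sup_of_normal_right.mp h1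
      have hbB₁ : b ∈ B₁ := by
        have e : b = a₁ * n⁻¹ := by rw [← hbn, mul_inv_cancel_right]
        rw [hB₁]
        refine ⟨⟨hb, ?_⟩, ?_⟩
        · rw [e]
          exact Subgroup.mul_mem _ (Subgroup.mem_sup_left (hA₁A ha₁))
            (Subgroup.inv_mem _ (Subgroup.mem_sup_right hn))
        · rw [e]
          exact C.mul_mem (hA₁C ha₁) (C.inv_mem (hNC hn))
      rw [← hbn]
      exact Subgroup.mul_mem _ (Subgroup.mem_sup_right hbB₁) (Subgroup.mem_sup_left hn)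
    · apply sup_le le_sup_left
      intro b₁ hb₁
      have h1 : b₁ ∈ A ⊔ N := by rw [hB₁] at hb₁; exact hb₁.1.2
      obtain ⟨a, ha, n, hn, han⟩ := Subgroup.mem_sup_of_normal_right.mp h1
      have haA₁ : a ∈ A₁ := by
        have e : a = b₁ * n⁻¹ := by rw [← han, mul_inv_cancel_right]
        rw [hA₁]
        refine ⟨⟨ha, ?_⟩, ?_⟩
        · rw [e]
          exact Subgroup.mul_mem _ (Subgroup.mem_sup_left (hB₁B hb₁))
            (Subgroup.inv_mem _ (Subgroup.mem_sup_right hn))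
        · rw [e]
          exact C.mul_mem (hB₁C hb₁) (C.inv_mem (hNC hn))
      rw [← han]
      exact Subgroup.mul_mem _ (Subgroup.mem_sup_right haA₁) (Subgroup.mem_sup_left hn)
  obtain ⟨T, hT⟩ : ∃ T, T = N ⊔ A₁ := ⟨_, rfl⟩
  have hT' : T = N ⊔ B₁ := hT.trans hT2
  have hTA : ∀ t ∈ T, ∃ n ∈ N, ∃ a₁ ∈ A₁, n * a₁ = t := by
    intro t ht
    rw [hT] at ht
    exact Subgroup.mem_sup_of_normal_left.mp ht
  have hTB : ∀ t ∈ T, ∃ n ∈ N, ∃ b₁ ∈ B₁, n * b₁ = t := by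
    intro t ht
    rw [hT'] at ht
    exact Subgroup.mem_sup_of_normal_left.mp ht
  -- conjugation by A and B on T
  have hconjA : ∀ a ∈ A, ∀ t ∈ T, a * t * a⁻¹ ∈ T ∧ a * t * a⁻¹ * t⁻¹ ∈ N := by
    intro a ha t ht
    obtain ⟨n, hn, a₁, ha₁, rfl⟩ := hTA t ht
    have e1 : a * (n * a₁) * a⁻¹ = (a * n * a⁻¹) * a₁ := by
      have := hA a ha a₁ (hA₁A ha₁)
      calc a * (n * a₁) * a⁻¹ = a * n * (a₁ * a⁻¹) := by group
        _ = a * n * (a⁻¹ * a₁) := by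
          have : a₁ * a⁻¹ = a⁻¹ * a₁ := by
            rw [eq_inv_mul_iff_mul_eq, ← mul_assoc, this, mul_inv_cancel_right]
          rw [this]
        _ = (a * n * a⁻¹) * a₁ := by group
    constructor
    · rw [e1, hT]
      exact Subgroup.mul_mem _ (Subgroup.mem_sup_left (hNn.conj_mem n hn a))
        (Subgroup.mem_sup_right ha₁)
    · rw [e1]
      have : a * n * a⁻¹ * a₁ * (n * a₁)⁻¹ = (a * n * a⁻¹) * n⁻¹ := by group
      rw [this]
      exact N.mul_mem (hNn.conj_mem n hn a) (N.inv_mem hn)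
  have hconjB : ∀ b ∈ B, ∀ t ∈ T, b * t * b⁻¹ ∈ T ∧ b * t * b⁻¹ * t⁻¹ ∈ N := by
    intro b hb t ht
    obtain ⟨n, hn, b₁, hb₁, rfl⟩ := hTB t ht
    have e1 : b * (n * b₁) * b⁻¹ = (b * n * b⁻¹) * b₁ := by
      have := hB b hb b₁ (hB₁B hb₁)
      calc b * (n * b₁) * b⁻¹ = b * n * (b₁ * b⁻¹) := by group
        _ = b * n * (b⁻¹ * b₁) := by
          have : b₁ * b⁻¹ = b⁻¹ * b₁ := by
            rw [eq_inv_mul_iff_mul_eq, ← mul_assoc, this, mul_inv_cancel_right]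
          rw [this]
        _ = (b * n * b⁻¹) * b₁ := by group
    constructor
    · rw [e1, hT']
      exact Subgroup.mul_mem _ (Subgroup.mem_sup_left (hNn.conj_mem n hn b))
        (Subgroup.mem_sup_right hb₁)
    · rw [e1]
      have : b * n * b⁻¹ * b₁ * (n * b₁)⁻¹ = (b * n * b⁻¹) * n⁻¹ := by group
      rw [this]
      exact N.mul_mem (hNn.conj_mem n hn b) (N.inv_mem hn)
  have hconjG : ∀ g : G, ∀ t ∈ T, g * t * g⁻¹ ∈ T ∧ g * t * g⁻¹ * t⁻¹ ∈ N := by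
    intro g t ht
    obtain ⟨a, ha, b, hb, rfl⟩ := hAB g
    obtain ⟨h1, h2⟩ := hconjB b hb t ht
    obtain ⟨h3, h4⟩ := hconjA a ha _ h1
    have e1 : a * b * t * (a * b)⁻¹ = a * (b * t * b⁻¹) * a⁻¹ := by group
    constructor
    · rw [e1]; exact h3
    · have e2 : a * b * t * (a * b)⁻¹ * t⁻¹ =
          (a * (b * t * b⁻¹) * a⁻¹ * (b * t * b⁻¹)⁻¹) * (b * t * b⁻¹ * t⁻¹) := by group
      rw [e2]
      exact N.mul_mem h4 h2
  have hTn : T.Normal := ⟨fun t ht g => (hconjG g t ht).1⟩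
  obtain ⟨K, hK⟩ : ∃ K, K = Subgroup.centralizer (T : Set G) := ⟨_, rfl⟩
  have hKn : K.Normal := hK ▸ inferInstance
  have hKA : ∀ a ∈ A, a ∈ C → a ∈ K := by
    intro a ha haC
    rw [hK, hT, centralizer_sup_eq]
    refine ⟨hC ▸ haC, ?_⟩
    change a ∈ Subgroup.centralizer (A₁ : Set G)
    rw [Subgroup.mem_centralizer_iff]
    intro h hh
    exact hA h (hA₁A hh) a ha
  have hKB : ∀ b ∈ B, b ∈ C → b ∈ K := by
    intro b hb hbC
    rw [hK, hT', centralizer_sup_eq]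
    refine ⟨hC ▸ hbC, ?_⟩
    change b ∈ Subgroup.centralizer (B₁ : Set G)
    rw [Subgroup.mem_centralizer_iff]
    intro h hh
    exact hB h (hB₁B hh) b hb
  have hRK : (R : Subgroup G) ≤ K := by
    intro r hr
    have hr' : r ∈ ((R : Subgroup G) : Set G) := hr
    rw [hR] at hr'
    obtain ⟨u, hu, v, hv, rfl⟩ := Set.mem_mul.mp hr'
    obtain ⟨huA, huC⟩ := hPAel u hu
    obtain ⟨hvB, hvC⟩ := hPBel v hv
    exact K.mul_mem (hKA u huA huC) (hKB v hvB hvC)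
  have hidx : Nat.Coprime p K.index := by
    rw [Nat.Prime.coprime_iff_not_dvd hp.out]
    intro h
    exact R.not_dvd_index (h.trans (Subgroup.index_dvd_of_le hRK))
  -- the commutator
  obtain ⟨c, hc⟩ : ∃ c, c = ⁅a₀⁻¹, b₀⁻¹⁆ := ⟨_, rfl⟩
  have hcC : c ∈ C := hderC (hc ▸ Subgroup.commutator_mem_commutator (Subgroup.mem_top _)
    (Subgroup.mem_top _))
  have hcK : c ∈ K := by
    apply mem_of_pow_mem_of_coprime hidx _ (Subgroup.pow_index_mem K c)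
    rw [hK, Subgroup.mem_centralizer_iff]
    intro t ht
    exact (pow_comm_of_comm_mem p (hCcomm c hcC) (hconjG c t ht).2 hNexp).symm
  have hab : a₀ * b₀ = b₀ * a₀ * c := by rw [hc, commutatorElement_def]; group
  -- final contradiction
  have hxT : x ∈ T := hT ▸ Subgroup.mem_sup_right hxA₁
  obtain ⟨hy'T, hy'N⟩ := hconjB b₀ hb₀B x hxT
  have hcx : c * x = x * c := by
    rw [hK] at hcK
    exact (Subgroup.mem_centralizer_iff.mp hcK x hxT).symm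
  have ha₀x : a₀ * x = x * a₀ := hA a₀ ha₀A x hxA
  have hfix : a₀ * (b₀ * x * b₀⁻¹) = (b₀ * x * b₀⁻¹) * a₀ := by
    calc a₀ * (b₀ * x * b₀⁻¹) = (a₀ * b₀) * x * b₀⁻¹ := by group
      _ = b₀ * a₀ * (c * x) * b₀⁻¹ := by rw [hab]; group
      _ = b₀ * (a₀ * x) * c * b₀⁻¹ := by rw [hcx]; group
      _ = b₀ * x * (a₀ * c) * b₀⁻¹ := by rw [ha₀x]; group
      _ = b₀ * x * (b₀⁻¹ * (b₀ * a₀ * c)) * b₀⁻¹ := by group
      _ = b₀ * x * (b₀⁻¹ * (a₀ * b₀)) * b₀⁻¹ := by rw [hab]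
      _ = (b₀ * x * b₀⁻¹) * a₀ := by group
  -- b₀ x b₀⁻¹ ∈ A₁
  have hy'A₁ : b₀ * x * b₀⁻¹ ∈ A₁ := by
    obtain ⟨n, hn, a₁, ha₁, hna⟩ := hTA _ hy'T
    have h1 : a₀ * n = n * a₀ := by
      have h2 := hfix
      rw [← hna] at h2
      have h3 := hA a₀ ha₀A a₁ (hA₁A ha₁)
      -- a₀ n a₁ = n a₁ a₀ = n a₀ a₁
      have h4 : a₀ * n * a₁ = n * a₀ * a₁ := by
        calc a₀ * n * a₁ = a₀ * (n * a₁) := by group
          _ = n * a₁ * a₀ := h2
          _ = n * (a₁ * a₀) := by group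
          _ = n * (a₀ * a₁) := by rw [h3]
          _ = n * a₀ * a₁ := by group
      exact mul_right_cancel h4
    have hn1 := hfa n hn h1
    rw [hn1, one_mul] at hna
    rw [← hna]; exact ha₁
  have hcomm : b₀ * x = x * b₀ := by
    have h1 : b₀ * x * b₀⁻¹ * x⁻¹ = 1 :=
      hAN _ (A.mul_mem (hA₁A hy'A₁) (A.inv_mem hxA)) hy'N
    have h2 : b₀ * x * b₀⁻¹ = x := by
      rw [mul_inv_eq_one] at h1; exact h1
    calc b₀ * x = (b₀ * x * b₀⁻¹) * b₀ := by group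
      _ = x * b₀ := by rw [h2]
  obtain ⟨n', hn', b₁, hb₁, hnb⟩ := hTB x hxT
  have h5 : b₀ * n' = n' * b₀ := by
    have h2 := hcomm
    rw [← hnb] at h2
    have h3 := hB b₀ hb₀B b₁ (hB₁B hb₁)
    have h4 : b₀ * n' * b₁ = n' * b₀ * b₁ := by
      calc b₀ * n' * b₁ = b₀ * (n' * b₁) := by group
        _ = n' * b₁ * b₀ := h2
        _ = n' * (b₁ * b₀) := by group
        _ = n' * (b₀ * b₁) := by rw [h3]
        _ = n' * b₀ * b₁ := by group
    exact mul_right_cancel h4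
  have hn'1 := hfb n' hn' h5
  rw [hn'1, one_mul] at hnb
  exact hx1 (hABbot x hxA (hnb ▸ hB₁B hb₁))

end Cfsg.Agent.Lib.Helper1.ItoNormal
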