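import Mathlib
import Cfsg.Agent.Lib.Helper1.Ito
import Cfsg.Agent.Lib.Helper1.ItoNormal2
set_option autoImplicit false
open scoped Pointwise commutatorElement
universe u
namespace Cfsg.Agent.Lib.Helper1.ItoNormal

variable {G : Type u} [Group G]

/-- S0573 (Itô) -/
theorem ito_normal_in_factor [Finite G] [Nontrivial G] (A B : Subgroup G)
    (hA : ∀ x ∈ A, ∀ y ∈ A, x * y = y * x) (hB : ∀ x ∈ B, ∀ y ∈ B, x * y = y * x)
    (hAB : ∀ g : G, ∃ a ∈ A, ∃ b ∈ B, g = a * b) :
    ∃ N : Subgroup G, N.Normal ∧ N ≠ ⊥ ∧ (N ≤ A ∨ N ≤ B) := by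
  have hcent : ∀ b : G, (∀ a' ∈ A, b * a' = a' * b) → (∀ b' ∈ B, b * b' = b' * b) →
      b ∈ Subgroup.center G := by
    intro b h1 h2
    rw [Subgroup.mem_center_iff]
    intro g
    obtain ⟨a', ha', b', hb', rfl⟩ := hAB g
    rw [mul_assoc, ← h2 b' hb', ← mul_assoc, ← h1 a' ha', mul_assoc]
  by_cases hZ : Subgroup.center G = ⊥
  swap
  · obtain ⟨z, hz⟩ := Subgroup.ne_bot_iff_exists_ne_one.mp hZ
    obtain ⟨a, ha, b, hb, hzab⟩ := hAB (z : G)
    obtain ⟨hac, hbc⟩ := center_factor A B hA hB hAB z.2 ha hb hzab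
    by_cases ha1 : a = 1
    · refine ⟨B ⊓ Subgroup.center G, inf_center_normal B, ?_, Or.inr inf_le_left⟩
      intro hbot
      have : b ∈ B ⊓ Subgroup.center G := ⟨hb, hbc⟩
      rw [hbot, Subgroup.mem_bot] at this
      apply hz
      apply Subtype.ext
      rw [hzab, ha1, this]
      simp
    · refine ⟨A ⊓ Subgroup.center G, inf_center_normal A, ?_, Or.inl inf_le_left⟩
      intro hbot
      have : a ∈ A ⊓ Subgroup.center G := ⟨ha, hac⟩
      rw [hbot, Subgroup.mem_bot] at this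
      exact ha1 this
  -- trivial centre
  have hABbot : ∀ x, x ∈ A → x ∈ B → x = 1 := by
    intro x hxA hxB
    have : x ∈ Subgroup.center G :=
      hcent x (fun a' ha' => hA x hxA a' ha') (fun b' hb' => hB x hxB b' hb')
    rw [hZ, Subgroup.mem_bot] at this
    exact this
  have hmet := ito_metabelian A B hA hB hAB
  have hder_comm : ∀ x ∈ commutator G, ∀ y ∈ commutator G, x * y = y * x := by
    intro x hx y hy
    have h1 : ⁅x, y⁆ ∈ derivedSeries G 2 := by
      rw [derivedSeries_succ, derivedSeries_one]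
      exact Subgroup.commutator_mem_commutator hx hy
    rw [hmet, Subgroup.mem_bot, commutatorElement_eq_one_iff_commute] at h1
    exact h1
  have hder_ne : commutator G ≠ ⊥ := by
    intro h
    obtain ⟨g, hg⟩ := exists_ne (1 : G)
    have : g ∈ Subgroup.center G := by
      rw [Subgroup.mem_center_iff]
      intro k
      have h1 : ⁅k, g⁆ ∈ commutator G :=
        Subgroup.commutator_mem_commutator (Subgroup.mem_top _) (Subgroup.mem_top _)
      rw [h, Subgroup.mem_bot, commutatorElement_eq_one_iff_commute] at h1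
      exact h1
    rw [hZ, Subgroup.mem_bot] at this
    exact hg this
  -- a minimal normal subgroup inside G'
  obtain ⟨N, hNn, hN1, hNder, hmin⟩ : ∃ N : Subgroup G, N.Normal ∧ N ≠ ⊥ ∧ N ≤ commutator G ∧
      ∀ M : Subgroup G, M.Normal → M ≤ N → M = ⊥ ∨ M = N := by
    let S : Set (Subgroup G) := {N | N.Normal ∧ N ≠ ⊥ ∧ N ≤ commutator G}
    have hS : S.Finite := Set.toFinite S
    have hmem : commutator G ∈ S := ⟨inferInstance, hder_ne, le_rfl⟩
    obtain ⟨N, -, hNmin⟩ := hS.exists_le_minimal hmem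
    refine ⟨N, hNmin.prop.1, hNmin.prop.2.1, hNmin.prop.2.2, ?_⟩
    intro M hMn hMN
    by_cases hM : M = ⊥
    · left; exact hM
    · right
      exact le_antisymm hMN (hNmin.le_of_le ⟨hMn, hM, hMN.trans hNmin.prop.2.2⟩ hMN)
  have hsolv : Group.IsSolvable G := ito_solvable A B hA hB hAB
  obtain ⟨hNcommI, p, hp, hNexp⟩ := minimal_normal_of_solvable N hN1 hmin
  have : Fact p.Prime := ⟨hp⟩
  have hNcomm : ∀ x ∈ N, ∀ y ∈ N, x * y = y * x := fun x hx y hy => hder_comm x (hNder hx) y (hNder hy)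
  have hderC : commutator G ≤ Subgroup.centralizer (N : Set G) := by
    intro x hx
    rw [Subgroup.mem_centralizer_iff]
    intro n hn
    exact hder_comm n (hNder hn) x hx
  have hdich := fixed_dichotomy hmin hderC
  obtain ⟨C, hC⟩ : ∃ C, C = Subgroup.centralizer (N : Set G) := ⟨_, rfl⟩
  have hCn : C.Normal := hC ▸ inferInstance
  obtain ⟨ZC, hZC⟩ : ∃ ZC, ZC = C ⊓ Subgroup.centralizer (C : Set G) := ⟨_, rfl⟩
  have hZCn : ZC.Normal := hZC ▸ inferInstance
  have hNC : N ≤ C := hC ▸ (hNder.trans hderC)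
  have hNZC : N ≤ ZC := by
    intro n hn
    rw [hZC]
    refine ⟨hNC hn, ?_⟩
    change n ∈ Subgroup.centralizer (C : Set G)
    rw [Subgroup.mem_centralizer_iff]
    intro c hc
    rw [hC] at hc
    exact (Subgroup.mem_centralizer_iff.mp hc n hn).symm
  have hZC1 : ZC ≠ ⊥ := ne_bot_of_le_ne_bot hN1 hNZC
  by_cases hAC : A ≤ C
  · refine ⟨ZC, hZCn, hZC1, Or.inl ?_⟩
    intro z hz
    rw [hZC] at hz
    obtain ⟨a, ha, b, hb, hzab⟩ := hAB z
    have hzA : ∀ a' ∈ A, a' * z = z * a' := fun a' ha' =>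
      Subgroup.mem_centralizer_iff.mp hz.2 a' (hAC ha')
    have hbA : ∀ a' ∈ A, b * a' = a' * b := by
      intro a' ha'
      have h1 := hzA a' ha'
      rw [hzab] at h1
      have h2 : a * (a' * b) = a * (b * a') := by
        rw [← mul_assoc, ← hA a' ha' a ha, mul_assoc, h1, mul_assoc]
      exact (mul_left_cancel h2).symm
    have hbc := hcent b hbA (fun b' hb' => hB b hb b' hb')
    rw [hZ, Subgroup.mem_bot] at hbc
    rw [hzab, hbc, mul_one]
    exact ha
  by_cases hBC : B ≤ C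
  · refine ⟨ZC, hZCn, hZC1, Or.inr ?_⟩
    intro z hz
    rw [hZC] at hz
    obtain ⟨a, ha, b, hb, hzab⟩ := hAB z
    have hzB : ∀ b' ∈ B, b' * z = z * b' := fun b' hb' =>
      Subgroup.mem_centralizer_iff.mp hz.2 b' (hBC hb')
    have haB : ∀ b' ∈ B, a * b' = b' * a := by
      intro b' hb'
      have h1 := hzB b' hb'
      rw [hzab] at h1
      -- b' * (a * b) = a * b * b' = a * b' * b
      have h2 : (b' * a) * b = (a * b') * b := by
        rw [mul_assoc, h1, mul_assoc, hB b hb b' hb', mul_assoc]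
      exact (mul_right_cancel h2).symm
    have hac := hcent a (fun a' ha' => hA a ha a' ha') haB
    rw [hZ, Subgroup.mem_bot] at hac
    rw [hzab, hac, one_mul]
    exact hb
  exfalso
  rw [hC] at hAC hBC
  exact case_two_false (p := p) A B hA hB hAB hABbot N hN1 hNexp hNcomm hderC hdich hAC hBC

end Cfsg.Agent.Lib.Helper1.ItoNormal
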