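import Mathlib
import Cfsg.Agent.Lib.Helper1.SupersolvableBasic
import Cfsg.Agent.Lib.Helper1.ItoNormal3
set_option autoImplicit false
open scoped Pointwise commutatorElement
open Cfsg
universe u
namespace Cfsg.Agent.Lib.Helper1.Douglas

theorem isCyclic_of_le {G : Type u} [Group G] {N A : Subgroup G} (h : N ≤ A) [hA : IsCyclic A] :
    IsCyclic N := by
  have : IsCyclic (N.subgroupOf A) := inferInstance
  exact isCyclic_of_surjective (Subgroup.subgroupOfEquivOfLe h).toMonoidHom
    (Subgroup.subgroupOfEquivOfLe h).surjective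

theorem isCyclic_map {G : Type u} [Group G] {H : Type u} [Group H] (f : G →* H) (A : Subgroup G)
    [hA : IsCyclic A] : IsCyclic (A.map f) := by
  have hsurj : Function.Surjective (f.subgroupMap A) := f.subgroupMap_surjective A
  exact isCyclic_of_surjective (f.subgroupMap A) hsurj

theorem comm_of_isCyclic {G : Type u} [Group G] (A : Subgroup G) [hA : IsCyclic A] :
    ∀ x ∈ A, ∀ y ∈ A, x * y = y * x := by
  intro x hx y hy
  have : IsMulCommutative A := IsCyclic.isMulCommutative
  exact congrArg Subtype.val (mul_comm' (⟨x, hx⟩ : A) ⟨y, hy⟩)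

theorem douglas_aux (n : ℕ) : ∀ (G : Type u) [Group G] [Finite G], Nat.card G = n →
    ∀ (A B : Subgroup G) [IsCyclic A] [IsCyclic B],
      (∀ g : G, ∃ a ∈ A, ∃ b ∈ B, g = a * b) → IsSupersolvable G := by
  induction n using Nat.strong_induction_on with
  | _ n ih =>
    intro G _ _ hcard A B _ _ hAB
    rcases subsingleton_or_nontrivial G with hs | hnt
    · exact isSupersolvable_of_subsingleton
    obtain ⟨N, hNn, hN1, hNle⟩ := ItoNormal.ito_normal_in_factor A B (comm_of_isCyclic A)
      (comm_of_isCyclic B) hAB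
    have hNc : IsCyclic N := by
      rcases hNle with h | h
      · exact isCyclic_of_le h
      · exact isCyclic_of_le h
    apply isSupersolvable_of_quotient_cyclic N
    have hlt : Nat.card (G ⧸ N) < n := by
      rw [← hcard, ← Subgroup.index_eq_card]
      have h1 := N.card_mul_index
      have h2 : 1 < Nat.card N := by
        rw [Subgroup.one_lt_card_iff_ne_bot]; exact hN1
      have h3 : 0 < N.index := Nat.pos_of_ne_zero Subgroup.index_ne_zero_of_finite
      nlinarith
    have := isCyclic_map (QuotientGroup.mk' N) A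
    have := isCyclic_map (QuotientGroup.mk' N) B
    apply ih _ hlt (G ⧸ N) rfl (A.map (QuotientGroup.mk' N)) (B.map (QuotientGroup.mk' N))
    intro q
    obtain ⟨g, rfl⟩ := QuotientGroup.mk'_surjective N q
    obtain ⟨a, ha, b, hb, rfl⟩ := hAB g
    exact ⟨_, Subgroup.mem_map_of_mem _ ha, _, Subgroup.mem_map_of_mem _ hb, map_mul _ a b⟩

/-- S0571 (Douglas) -/
theorem douglas {G : Type u} [Group G] [Finite G] (A B : Subgroup G) [IsCyclic A] [IsCyclic B]
    (hAB : ∀ g : G, ∃ a ∈ A, ∃ b ∈ B, g = a * b) : IsSupersolvable G :=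
  douglas_aux _ G rfl A B hAB

end Cfsg.Agent.Lib.Helper1.Douglas
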