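import Mathlib
set_option autoImplicit false
open Polynomial
universe u
namespace Cfsg.Agent.Lib.Helper1.Huppert

/-- an endomorphism of a finite nonzero `𝔽_p`-space with `φ^(p-1) = 1` has an eigenvector -/
theorem exists_eigenvector_of_pow_eq_one {p : ℕ} [hp : Fact p.Prime] {V : Type u} [AddCommGroup V]
    [Module (ZMod p) V] [Module.Finite (ZMod p) V] [Nontrivial V] (φ : Module.End (ZMod p) V)
    (hφ : φ ^ (p - 1) = 1) : ∃ (μ : ZMod p) (v : V), v ≠ 0 ∧ φ v = μ • v := by
  have h1 : aeval φ (X ^ p - X : (ZMod p)[X]) = 0 := by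
    have hp1 : φ ^ p = φ := by
      have e : φ ^ p = φ ^ (p - 1) * φ := by
        rw [← pow_succ, Nat.sub_add_cancel hp.out.one_le]
      rw [e, hφ, one_mul]
    rw [map_sub, map_pow, aeval_X, hp1, sub_self]
  have h2 : minpoly (ZMod p) φ ∣ (X ^ p - X : (ZMod p)[X]) := minpoly.dvd _ _ h1
  have h3 : (X ^ p - X : (ZMod p)[X]).Splits := by
    have := FiniteField.splits_X_pow_card_sub_X p (K := ZMod p)
    rw [ZMod.card, Algebra.algebraMap_self, Polynomial.map_id] at this
    exact this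
  have h4 : (X ^ p - X : (ZMod p)[X]) ≠ 0 := FiniteField.X_pow_card_sub_X_ne_zero _ hp.out.one_lt
  have h5 : (minpoly (ZMod p) φ).Splits := h3.of_dvd h4 h2
  have hint : IsIntegral (ZMod p) φ := Algebra.IsIntegral.isIntegral φ
  have h6 : (minpoly (ZMod p) φ).degree ≠ 0 := (minpoly.degree_pos hint).ne'
  obtain ⟨μ, hμ⟩ := h5.exists_eval_eq_zero h6
  have h7 : φ.HasEigenvalue μ := Module.End.hasEigenvalue_of_isRoot hμ
  obtain ⟨v, hv⟩ := h7.exists_hasEigenvector
  exact ⟨μ, v, hv.2, hv.apply_eq_smul⟩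

/-- a commuting family of endomorphisms of exponent `p - 1` has a common eigenvector -/
theorem exists_common_eigenvector {p : ℕ} [hp : Fact p.Prime] {V : Type u} [AddCommGroup V]
    [Module (ZMod p) V] [Finite V] [Nontrivial V] (S : Set (Module.End (ZMod p) V))
    (hcomm : ∀ f ∈ S, ∀ g ∈ S, f * g = g * f) (hpow : ∀ f ∈ S, f ^ (p - 1) = 1) :
    ∃ v : V, v ≠ 0 ∧ ∀ f ∈ S, ∃ μ : ZMod p, f v = μ • v := by
  let T : Set (Submodule (ZMod p) V) := {W | W ≠ ⊥ ∧ ∀ f ∈ S, ∀ x ∈ W, f x ∈ W}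
  have hT : T.Finite := Set.toFinite T
  have htop : (⊤ : Submodule (ZMod p) V) ∈ T := ⟨top_ne_bot, fun _ _ _ _ => Submodule.mem_top⟩
  obtain ⟨W₀, -, hW₀min⟩ := hT.exists_le_minimal htop
  obtain ⟨hW₀ne, hW₀inv⟩ := hW₀min.prop
  have hscal : ∀ f ∈ S, ∃ μ : ZMod p, ∀ x ∈ W₀, f x = μ • x := by
    intro f hf
    have : Nontrivial W₀ := (Submodule.nontrivial_iff_ne_bot).mpr hW₀ne
    have hpowW : (f.restrict (hW₀inv f hf)) ^ (p - 1) = 1 := by
      ext x
      rw [Module.End.pow_restrict, LinearMap.restrict_apply]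
      simp only [hpow f hf]
      rfl
    obtain ⟨μ, w, hw0, hw⟩ := exists_eigenvector_of_pow_eq_one (f.restrict (hW₀inv f hf)) hpowW
    refine ⟨μ, ?_⟩
    let E : Submodule (ZMod p) V := W₀ ⊓ LinearMap.ker (f - μ • (1 : Module.End (ZMod p) V))
    have hmemE : ∀ x : V, x ∈ E ↔ x ∈ W₀ ∧ f x = μ • x := by
      intro x
      constructor
      · rintro ⟨h1, h2⟩
        refine ⟨h1, ?_⟩
        have h2' : x ∈ LinearMap.ker (f - μ • (1 : Module.End (ZMod p) V)) := h2
        rw [LinearMap.mem_ker] at h2'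
        simpa [sub_eq_zero] using h2'
      · rintro ⟨h1, h2⟩
        refine ⟨h1, ?_⟩
        change x ∈ LinearMap.ker (f - μ • (1 : Module.End (ZMod p) V))
        rw [LinearMap.mem_ker]
        simp [h2]
    have hET : E ∈ T := by
      constructor
      · intro hbot
        have hwE : (w : V) ∈ E := by
          rw [hmemE]
          refine ⟨w.2, ?_⟩
          have := congrArg Subtype.val hw
          simpa using this
        rw [hbot, Submodule.mem_bot] at hwE
        exact hw0 (Subtype.ext hwE)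
      · intro g hg x hx
        rw [hmemE] at hx ⊢
        refine ⟨hW₀inv g hg x hx.1, ?_⟩
        have h1 : f (g x) = g (f x) := by
          have := congrArg (fun t : Module.End (ZMod p) V => t x) (hcomm f hf g hg)
          simpa using this
        rw [h1, hx.2, map_smul]
    have hEW : E = W₀ := le_antisymm inf_le_left (hW₀min.le_of_le hET inf_le_left)
    intro x hx
    have : x ∈ E := hEW ▸ hx
    exact ((hmemE x).mp this).2
  obtain ⟨v, hvW, hv0⟩ := Submodule.exists_mem_ne_zero_of_ne_bot hW₀ne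
  refine ⟨v, hv0, ?_⟩
  intro f hf
  obtain ⟨μ, hμ⟩ := hscal f hf
  exact ⟨μ, hμ v hvW⟩

end Cfsg.Agent.Lib.Helper1.Huppert
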