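import Mathlib
import Cfsg.Agent.Lib.Helper1.Huppert2
set_option autoImplicit false
open scoped Pointwise commutatorElement
universe u v
namespace Cfsg.Agent.Lib.Helper1.Huppert

theorem exists_invariant_zpowers_module {A : Type u} [CommGroup A] [Finite A] [Nontrivial A]
    {p : ℕ} [hp : Fact p.Prime] [Module (ZMod p) (Additive A)] {K : Type v} [Group K]
    (φ : K →* MulAut A) (hcomm : ∀ k₁ k₂ : K, φ ⁅k₁, k₂⁆ = 1)
    (hpow : ∀ k : K, φ (k ^ (p - 1)) = 1) :
    ∃ a : A, a ≠ 1 ∧ ∀ k : K, φ k a ∈ Subgroup.zpowers a := by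
  let L : K →* Module.End (ZMod p) (Additive A) :=
    { toFun := fun k => AddMonoidHom.toZModLinearMap p (MonoidHom.toAdditive (φ k).toMonoidHom)
      map_one' := by
        ext v
        simp
      map_mul' := by
        intro k₁ k₂
        ext v
        simp }
  have hL : ∀ (k : K) (v : Additive A), L k v = Additive.ofMul (φ k (Additive.toMul v)) := by
    intro k v
    rfl
  let S : Set (Module.End (ZMod p) (Additive A)) := Set.range L
  have hS1 : ∀ f ∈ S, ∀ g ∈ S, f * g = g * f := by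
    rintro _ ⟨k₁, rfl⟩ _ ⟨k₂, rfl⟩
    have h1 : L ⁅k₁, k₂⁆ = 1 := by
      ext v
      rw [hL, hcomm]
      rfl
    rw [← map_mul, ← map_mul]
    have h2 : k₁ * k₂ = ⁅k₁, k₂⁆ * (k₂ * k₁) := by
      rw [commutatorElement_def]; group
    rw [h2, map_mul, h1, one_mul]
  have hS2 : ∀ f ∈ S, f ^ (p - 1) = 1 := by
    rintro _ ⟨k, rfl⟩
    rw [← map_pow]
    ext v
    rw [hL, hpow]
    rfl
  obtain ⟨v, hv0, hv⟩ := exists_common_eigenvector S hS1 hS2
  refine ⟨Additive.toMul v, ?_, ?_⟩
  · intro h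
    apply hv0
    apply Additive.toMul.injective
    simpa using h
  · intro k
    obtain ⟨μ, hμ⟩ := hv (L k) ⟨k, rfl⟩
    rw [hL] at hμ
    have h1 : μ • v = μ.val • v := by
      conv_lhs => rw [← ZMod.natCast_zmod_val μ]
      exact Nat.cast_smul_eq_nsmul (ZMod p) μ.val v
    have h2 : φ k (Additive.toMul v) = Additive.toMul (μ.val • v) := by
      rw [← h1, ← hμ]; rfl
    rw [h2, toMul_nsmul]
    exact Subgroup.pow_mem _ (Subgroup.mem_zpowers _) _

/-- abstract version: a group `K` acting on a finite nontrivial elementary abelian `p`-group `A`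
with commutators and `(p-1)`-th powers acting trivially stabilises a cyclic subgroup. -/
theorem exists_invariant_zpowers_abstract {A : Type u} [CommGroup A] [Finite A] [Nontrivial A]
    {p : ℕ} [hp : Fact p.Prime] (hexp : ∀ a : A, a ^ p = 1) {K : Type v} [Group K]
    (φ : K →* MulAut A) (hcomm : ∀ k₁ k₂ : K, φ ⁅k₁, k₂⁆ = 1)
    (hpow : ∀ k : K, φ (k ^ (p - 1)) = 1) :
    ∃ a : A, a ≠ 1 ∧ ∀ k : K, φ k a ∈ Subgroup.zpowers a :=
  @exists_invariant_zpowers_module A _ _ _ p hp (AddCommGroup.zmodModule (n := p) (by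
    intro x
    apply Additive.toMul.injective
    rw [toMul_nsmul, toMul_zero]
    exact hexp _)) K _ φ hcomm hpow

end Cfsg.Agent.Lib.Helper1.Huppert
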