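import Mathlib
import Cfsg.Agent.Lib.Helper1.Huppert3
set_option autoImplicit false
open scoped Pointwise commutatorElement IsMulCommutative
universe u v
namespace Cfsg.Agent.Lib.Helper1.Huppert

variable {G : Type u} [Group G]

theorem exists_invariant_zpowers [Finite G] {p : ℕ} [hp : Fact p.Prime] (N : Subgroup G)
    [hNn : N.Normal] (hN1 : N ≠ ⊥) (hNcomm : ∀ x ∈ N, ∀ y ∈ N, x * y = y * x)
    (hNexp : ∀ x ∈ N, x ^ p = 1) (K : Subgroup G)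
    (hcomm : ∀ k₁ ∈ K, ∀ k₂ ∈ K, ∀ n ∈ N, ⁅k₁, k₂⁆ * n = n * ⁅k₁, k₂⁆)
    (hpow : ∀ k ∈ K, ∀ n ∈ N, k ^ (p - 1) * n = n * k ^ (p - 1)) :
    ∃ x ∈ N, x ≠ 1 ∧ ∀ k ∈ K, k * x * k⁻¹ ∈ Subgroup.zpowers x := by
  haveI : IsMulCommutative N := ⟨⟨fun a b => Subtype.ext (hNcomm a a.2 b b.2)⟩⟩
  haveI : Nontrivial N := (Subgroup.nontrivial_iff_ne_bot N).mpr hN1
  have htriv : ∀ d : G, (∀ n ∈ N, d * n = n * d) → (MulAut.conjNormal d : MulAut N) = 1 := by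
    intro d hd
    ext n
    rw [MulAut.conjNormal_apply, MulAut.one_apply, hd n n.2]
    group
  obtain ⟨a, ha1, ha⟩ := exists_invariant_zpowers_abstract (A := N) (p := p)
    (fun a => Subtype.ext (hNexp a a.2)) ((MulAut.conjNormal (H := N)).comp K.subtype)
    (by
      intro k₁ k₂
      exact htriv _ (hcomm k₁ k₁.2 k₂ k₂.2))
    (by
      intro k
      exact htriv _ (hpow k k.2))
  refine ⟨a, a.2, fun h => ha1 (Subtype.ext h), ?_⟩
  intro k hk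
  have h1 := ha ⟨k, hk⟩
  rw [Subgroup.mem_zpowers_iff] at h1 ⊢
  obtain ⟨j, hj⟩ := h1
  refine ⟨j, ?_⟩
  have h2 := congrArg Subtype.val hj
  rw [Subgroup.coe_zpow] at h2
  rw [h2]
  rfl

end Cfsg.Agent.Lib.Helper1.Huppert
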