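import Mathlib
import Cfsg.Agent.Lib.Helper1.Huppert4
set_option autoImplicit false
open scoped Pointwise commutatorElement
universe u v
namespace Cfsg.Agent.Lib.Helper1.Huppert

variable {G : Type u} [Group G]

theorem isCoatom_comap_of_surjective {H : Type v} [Group H] (f : G →* H)
    (hf : Function.Surjective f) (M : Subgroup H) (hM : IsCoatom M) : IsCoatom (M.comap f) := by
  constructor
  · intro h
    apply hM.1
    rw [← Subgroup.map_comap_eq_self_of_surjective hf M, h, Subgroup.map_top_of_surjective _ hf]
  · intro K hK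
    have hker : f.ker ≤ K := le_trans (Subgroup.ker_le_comap f M) hK.le
    have h1 : M ≤ K.map f := by
      rw [← Subgroup.map_comap_eq_self_of_surjective hf M]
      exact Subgroup.map_mono hK.le
    have h2 : M ≠ K.map f := by
      intro h
      apply hK.ne'
      apply le_antisymm _ hK.le
      rw [h]
      exact Subgroup.le_comap_map f K
    have h3 := hM.2 _ (lt_of_le_of_ne h1 h2)
    have h4 : (K.map f).comap f = K := by
      rw [Subgroup.comap_map_eq, sup_eq_left.mpr hker]
    rw [← h4, h3, Subgroup.comap_top]

theorem prime_index_quotient (N : Subgroup G) [N.Normal]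
    (h : ∀ M : Subgroup G, IsCoatom M → M.index.Prime) :
    ∀ M : Subgroup (G ⧸ N), IsCoatom M → M.index.Prime := by
  intro M hM
  rw [← Subgroup.index_comap_of_surjective M (QuotientGroup.mk'_surjective N)]
  exact h _ (isCoatom_comap_of_surjective _ (QuotientGroup.mk'_surjective N) M hM)

theorem index_modEq_one_of_normalizer_le [Finite G] {p : ℕ} [Fact p.Prime] (P : Sylow p G)
    (M : Subgroup G) (hM : Subgroup.normalizer ((P : Subgroup G) : Set G) ≤ M) :
    M.index ≡ 1 [MOD p] := by
  have hPM : (P : Subgroup G) ≤ M := le_trans Subgroup.le_normalizer hM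
  have ha : (Subgroup.normalizer ((P : Subgroup G) : Set G)).index ≡ 1 [MOD p] := by
    have h0 : Nat.card (Sylow p G) = (Subgroup.normalizer ((P : Subgroup G) : Set G)).index :=
      Sylow.card_eq_index_normalizer P
    rw [← h0]; exact card_sylow_modEq_one p G
  have hb : (Subgroup.normalizer ((P : Subgroup G) : Set G)).relIndex M ≡ 1 [MOD p] := by
    have h1 : Nat.card (Sylow p M) =
        (Subgroup.normalizer (((P : Subgroup G).subgroupOf M : Subgroup M) : Set M)).index :=
      Sylow.card_eq_index_normalizer (P.subtype hPM)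
    rw [← Subgroup.subgroupOf_normalizer_eq hPM] at h1
    change _ = (Subgroup.normalizer ((P : Subgroup G) : Set G)).relIndex M at h1
    rw [← h1]
    exact card_sylow_modEq_one p M
  have hab := Subgroup.relIndex_mul_index hM
  rw [← hab] at ha
  have := (hb.mul_right M.index).symm.trans ha
  rwa [one_mul] at this

theorem sylow_normal_of_prime_index [Finite G]
    (h : ∀ M : Subgroup G, IsCoatom M → M.index.Prime) {p : ℕ} [hp : Fact p.Prime]
    (hmax : ∀ q : ℕ, q.Prime → q ∣ Nat.card G → q ≤ p) (P : Sylow p G) :
    (P : Subgroup G).Normal := by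
  rw [← Subgroup.normalizer_eq_top_iff]
  by_contra hne
  obtain ⟨M, hM, hle⟩ := (eq_top_or_exists_le_coatom _).resolve_left hne
  have hq := h M hM
  have h1 := index_modEq_one_of_normalizer_le P M hle
  have h2 : M.index ≤ p := hmax _ hq (Subgroup.index_dvd_card M)
  have h3 : M.index % p = 1 % p := h1
  rw [Nat.mod_eq_of_lt hp.out.one_lt] at h3
  rcases h2.lt_or_eq with h4 | h4
  · rw [Nat.mod_eq_of_lt h4] at h3
    exact hq.one_lt.ne' h3
  · rw [h4, Nat.mod_self] at h3
    exact absurd h3 (by norm_num)

end Cfsg.Agent.Lib.Helper1.Huppert
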