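import Mathlib
import Cfsg.Agent.Lib.Helper1.Huppert5
import Cfsg.Agent.Lib.Helper1.Nilpotent
import Cfsg.Agent.Lib.Helper1.GlaubermanRepl3
set_option autoImplicit false
open scoped Pointwise commutatorElement
universe u v
namespace Cfsg.Agent.Lib.Helper1.Huppert

variable {G : Type u} [Group G]

theorem minimal_normal_le_centralizer [Finite G] {p : ℕ} [hp : Fact p.Prime] (P : Subgroup G)
    [hPn : P.Normal] (hP : IsPGroup p P) (N : Subgroup G) [hNn : N.Normal] (hN1 : N ≠ ⊥)
    (hNP : N ≤ P) (hmin : ∀ M : Subgroup G, M.Normal → M ≠ ⊥ → M ≤ N → M = N) :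
    N ≤ Subgroup.centralizer (P : Set G) := by
  haveI : Group.IsNilpotent P := hP.isNilpotent
  have h1 : N.subgroupOf P ≠ ⊥ := by
    intro h
    apply hN1
    rw [Subgroup.subgroupOf_eq_bot] at h
    rw [eq_bot_iff]
    intro x hx
    have : x ∈ N ⊓ P := ⟨hx, hNP hx⟩
    rw [h.eq_bot] at this
    exact this
  have h2 := normal_inf_center_ne_bot (N.subgroupOf P) h1
  obtain ⟨⟨x, hx⟩, hx1⟩ := (Subgroup.ne_bot_iff_exists_ne_one).mp h2
  have hxN : (x : G) ∈ N := Subgroup.mem_subgroupOf.mp hx.1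
  have hxC : (x : G) ∈ Subgroup.centralizer (P : Set G) := by
    rw [Subgroup.mem_centralizer_iff]
    intro y hy
    have := Subgroup.mem_center_iff.mp hx.2 ⟨y, hy⟩
    exact congrArg Subtype.val this
  have hx1' : (x : G) ≠ 1 := by
    intro h
    apply hx1
    apply Subtype.ext
    apply Subtype.ext
    exact h
  have hn : (N ⊓ Subgroup.centralizer (P : Set G)).Normal := inferInstance
  have h3 : N ⊓ Subgroup.centralizer (P : Set G) ≠ ⊥ := by
    intro h
    have : (x : G) ∈ N ⊓ Subgroup.centralizer (P : Set G) := ⟨hxN, hxC⟩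
    rw [h] at this
    exact hx1' this
  have h4 := hmin _ hn h3 inf_le_left
  calc N = N ⊓ Subgroup.centralizer (P : Set G) := h4.symm
    _ ≤ _ := inf_le_right

theorem minimal_normal_exponent [Finite G] {p : ℕ} [hp : Fact p.Prime] (N : Subgroup G)
    [hNn : N.Normal] (hN1 : N ≠ ⊥) (hN : IsPGroup p N)
    (hNcomm : ∀ x ∈ N, ∀ y ∈ N, x * y = y * x)
    (hmin : ∀ M : Subgroup G, M.Normal → M ≠ ⊥ → M ≤ N → M = N) :
    ∀ x ∈ N, x ^ p = 1 := by
  let Ω : Subgroup G :=
    { carrier := {x | x ∈ N ∧ x ^ p = 1}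
      one_mem' := ⟨N.one_mem, one_pow _⟩
      mul_mem' := by
        rintro a b ⟨ha, ha'⟩ ⟨hb, hb'⟩
        refine ⟨N.mul_mem ha hb, ?_⟩
        have hc : Commute a b := hNcomm a ha b hb
        rw [hc.mul_pow, ha', hb', one_mul]
      inv_mem' := by
        rintro a ⟨ha, ha'⟩
        exact ⟨N.inv_mem ha, by rw [inv_pow, ha', inv_one]⟩ }
  have hΩmem : ∀ x, x ∈ Ω ↔ x ∈ N ∧ x ^ p = 1 := fun x => Iff.rfl
  have hΩn : Ω.Normal := by
    constructor
    intro n hn g
    rw [hΩmem] at hn ⊢
    refine ⟨hNn.conj_mem n hn.1 g, ?_⟩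
    rw [conj_pow, hn.2]
    group
  have hΩ1 : Ω ≠ ⊥ := by
    have hnt : Nontrivial N := (Subgroup.nontrivial_iff_ne_bot N).mpr hN1
    have hdvd : p ∣ Nat.card N := by
      obtain ⟨n, hn⟩ := IsPGroup.iff_card.mp hN
      rw [hn]
      have hn0 : n ≠ 0 := by
        rintro rfl
        rw [pow_zero] at hn
        have := Finite.one_lt_card (α := N)
        omega
      exact dvd_pow_self p hn0
    obtain ⟨x, hx⟩ := exists_prime_orderOf_dvd_card' p hdvd
    intro h
    have hxΩ : (x : G) ∈ Ω := by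
      rw [hΩmem]
      refine ⟨x.2, ?_⟩
      rw [← Subgroup.coe_pow, ← hx, pow_orderOf_eq_one]
      rfl
    rw [h, Subgroup.mem_bot] at hxΩ
    have : x = 1 := Subtype.ext hxΩ
    rw [this, orderOf_one] at hx
    exact hp.out.one_lt.ne hx
  have h1 := hmin Ω hΩn hΩ1 (fun x hx => hx.1)
  intro x hx
  rw [← h1] at hx
  exact hx.2

/-- Case A: a maximal subgroup not containing the minimal normal subgroup `N` -/
theorem card_eq_index_of_not_le [Finite G] (N : Subgroup G) [hNn : N.Normal]
    (hNcomm : ∀ x ∈ N, ∀ y ∈ N, x * y = y * x)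
    (hmin : ∀ M : Subgroup G, M.Normal → M ≠ ⊥ → M ≤ N → M = N)
    (M : Subgroup G) (hM : IsCoatom M) (hNM : ¬ N ≤ M) : Nat.card N = M.index := by
  have hsup : M ⊔ N = ⊤ := by
    by_contra hne
    have hlt : M < M ⊔ N := lt_of_le_of_ne le_sup_left (fun h => hNM (by rw [h]; exact le_sup_right))
    exact hne (hM.2 _ hlt)
  have hnorm : (M ⊓ N).Normal := by
    rw [← Subgroup.normalizer_eq_top_iff, eq_top_iff, ← hsup]
    apply sup_le
    · intro m hm
      rw [Subgroup.mem_normalizer_iff]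
      intro x
      constructor
      · rintro ⟨h1, h2⟩
        exact ⟨M.mul_mem (M.mul_mem hm h1) (M.inv_mem hm), hNn.conj_mem x h2 m⟩
      · rintro ⟨h1, h2⟩
        refine ⟨?_, ?_⟩
        · have := M.mul_mem (M.mul_mem (M.inv_mem hm) h1) hm
          simpa [mul_assoc] using this
        · have := hNn.conj_mem _ h2 m⁻¹
          simpa [mul_assoc] using this
    · intro n hn
      rw [Subgroup.mem_normalizer_iff]
      intro x
      constructor
      · rintro ⟨h1, h2⟩
        have : n * x * n⁻¹ = x := by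
          rw [hNcomm n hn x h2, mul_inv_cancel_right]
        rw [this]
        exact ⟨h1, h2⟩
      · rintro ⟨h1, h2⟩
        have hxN : x ∈ N := by
          have := hNn.conj_mem _ h2 n⁻¹
          simpa [mul_assoc] using this
        have : n * x * n⁻¹ = x := by
          rw [hNcomm n hn x hxN, mul_inv_cancel_right]
        rw [this] at h1
        exact ⟨h1, hxN⟩
  have hbot : M ⊓ N = ⊥ := by
    by_contra hne
    have := hmin _ hnorm hne inf_le_right
    apply hNM
    rw [← this]
    exact inf_le_left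
  have h1 := GlaubermanRepl.card_sup_mul_card_inf_of_le_normalizer M N
    (by rw [Subgroup.normalizer_eq_top_iff.mpr hNn]; exact le_top)
  rw [hsup, hbot, Subgroup.card_bot, mul_one, Subgroup.card_top, ← Subgroup.card_mul_index M] at h1
  have hpos : 0 < Nat.card M := Nat.card_pos
  exact (Nat.eq_of_mul_eq_mul_left hpos h1).symm

end Cfsg.Agent.Lib.Helper1.Huppert
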