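import Mathlib
import Cfsg.Agent.Lib.Helper1.BGF10
import Cfsg.Agent.Lib.Helper1.Douglas
import Cfsg.Agent.Lib.Helper3.BG12d
import Cfsg.Agent.Lib.Helper3.CyclicSub
import Cfsg.Agent.Lib.Helper7.BGD2
import Cfsg.Agent.Lib.Helper7.BGRows
import Cfsg.Agent.S1408
import Cfsg.Agent.S1414
import Cfsg.Agent.S1417
import Cfsg.Agent.S1418
import Cfsg.Agent.S1420

set_option autoImplicit false
set_option maxHeartbeats 4000000
set_option linter.unusedVariables false
set_option linter.unusedSectionVars false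
set_option linter.style.longLine false
set_option linter.unusedSimpArgs false
set_option linter.deprecated false
set_option linter.style.haveILetI false

/-!
# B&G section 13, part 1: `p`-subgroups of `M ∩ H` centralize `M_σ ∩ H` (Lemma 13.1 / Cor. 13.2-13.3)
-/

open scoped commutatorElement Pointwise
universe u
namespace Cfsg.Agent.Lib.Helper1.BGG

open Cfsg Cfsg.Agent.Lib.Helper1 Cfsg.Agent.Lib.Helper7.BGRows

variable {G : Type u} [Group G] [Finite G]

omit [Finite G] in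
theorem subgroupOf_map_subtype' {M : Subgroup G} (N : Subgroup ↥M) :
    (N.map M.subtype).subgroupOf M = N :=
  Subgroup.comap_map_eq_self_of_injective M.subtype_injective N

/-- existence of a complement of `M_σ` in `M` (Schur-Zassenhaus) -/
theorem exists_compl (hG : IsMinSimpleOddOrder G) {M : Subgroup G} (hM : IsCoatom M) :
    ∃ E : Subgroup G, IsComplIn E (sigmaCore M) M := by
  obtain ⟨hHall, -, -⟩ := Helper7.BGA.s1350 hG M hM
  obtain ⟨N, hN⟩ : ∃ N : Subgroup ↥M, N = piCore (sigma M) ↥M := ⟨_, rfl⟩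
  haveI hNn : N.Normal := hN ▸ inferInstance
  have hσ : sigmaCore M = N.map M.subtype := by rw [hN]; rfl
  have hcard : Nat.card (sigmaCore M) = Nat.card N := by
    rw [hσ]; exact Subgroup.card_map_of_injective M.subtype_injective
  have hidx : (sigmaCore M).relIndex M = N.index := by
    unfold Subgroup.relIndex
    rw [hσ, subgroupOf_map_subtype']
  have hcop : (Nat.card N).Coprime N.index := by
    by_contra hc
    obtain ⟨r, hr, hr1, hr2⟩ := Nat.Prime.not_coprime_iff_dvd.mp hc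
    rw [← hcard] at hr1
    rw [← hidx] at hr2
    exact hHall.2.2 r hr (hHall.2.1 r hr hr1) hr2
  obtain ⟨H, hH⟩ := Subgroup.exists_right_complement'_of_coprime hcop
  refine ⟨H.map M.subtype, Subgroup.map_subtype_le _, hHall.1, ?_, ?_⟩
  · rw [eq_bot_iff]
    rintro x ⟨⟨y, hy, rfl⟩, hx2⟩
    rw [hσ] at hx2
    obtain ⟨z, hz, hzy⟩ := hx2
    have hzy' : z = y := Subtype.ext hzy
    have h1 : y ∈ N ⊓ H := ⟨hzy' ▸ hz, hy⟩
    rw [hH.disjoint.eq_bot, Subgroup.mem_bot] at h1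
    rw [Subgroup.mem_bot, h1]; rfl
  · intro m hm
    obtain ⟨⟨h, n⟩, hhn⟩ := hH.symm.2 (⟨m, hm⟩ : ↥M)
    refine ⟨(h : ↥M), ⟨(h : ↥M), h.2, rfl⟩, ((n : ↥M) : G), ?_, ?_⟩
    · rw [hσ]; exact ⟨(n : ↥M), n.2, rfl⟩
    · have := congrArg (fun t : ↥M => (t : G)) hhn
      simpa using this.symm

/-- a complement of `M_σ` in `M` containing a given `σ(M)'`-subgroup -/
theorem exists_compl_ge (hG : IsMinSimpleOddOrder G) {M : Subgroup G} (hM : IsCoatom M)
    {K : Subgroup G} (hKM : K ≤ M)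
    (hK : ∀ q : ℕ, q.Prime → q ∣ Nat.card K → q ∉ sigma M) :
    ∃ E : Subgroup G, IsComplIn E (sigmaCore M) M ∧ K ≤ E := by
  obtain ⟨E₀, hE₀⟩ := exists_compl hG hM
  obtain ⟨m, hm, hKm⟩ := Helper7.BGD.exists_cj_le hG hM hE₀ hKM
    (Helper7.BGD.coprime_sigmaCore hG hM hK)
  exact ⟨BG7.cj m E₀,
    Helper7.BGD.isComplIn_cj hE₀ (Helper3.BG12.le_normalizer_sigmaCore M) hm, hKm⟩

/-- a `q`-subgroup of `H` of index prime to `q` is a Sylow subgroup of `H` -/
theorem isMaxP_of_not_dvd_relIndex {q : ℕ} [hq : Fact q.Prime] {S H : Subgroup G} (hSH : S ≤ H)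
    (hS : IsPGroup q S) (h : ¬ q ∣ S.relIndex H) : BG8.IsMaxP q S H := by
  refine ⟨hSH, hS, fun T hT hST hTH => ?_⟩
  have h1 : S.relIndex T * T.relIndex H = S.relIndex H :=
    Subgroup.relIndex_mul_relIndex S T H hST hTH
  have h2 : S.relIndex T ∣ Nat.card T := by
    unfold Subgroup.relIndex; exact Subgroup.index_dvd_card _
  obtain ⟨k, hk⟩ := IsPGroup.iff_card.mp hT
  rw [hk] at h2
  obtain ⟨j, -, hj⟩ := (Nat.dvd_prime_pow hq.out).mp h2
  have hj0 : j = 0 := by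
    by_contra hj0
    apply h
    rw [← h1, hj]
    exact Dvd.dvd.mul_right (dvd_pow_self q hj0) _
  rw [hj0, pow_zero] at hj
  exact le_antisymm (Subgroup.relIndex_eq_one.mp hj) hST

/-- an elementary abelian subgroup of order `p²` cannot lie in a conjugate of a subgroup of `M` when
`M` has `p`-rank at most one -/
theorem false_of_sq_cj {p : ℕ} [hp : Fact p.Prime] {M A E₁ : Subgroup G} (hr1 : PRankLE p 1 ↥M)
    (hAe : IsElementaryAbelian p A) (hA2 : Nat.card A = p ^ 2) {m : G}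
    (h : A ≤ BG7.cj m E₁) (hE₁ : E₁ ≤ M) : False := by
  have h1 : BG7.cj m⁻¹ A ≤ M := by
    have := BG7.cj_mono (k := m⁻¹) h
    rw [BG7.cj_inv_cj] at this
    exact this.trans hE₁
  refine BG9.not_pRankLE_of_elementary hp.out h1 (BG9.isElementaryAbelian_cj m⁻¹ hAe) ?_ hr1
  rw [BG7.card_cj, hA2]

/-- subgroups of a cyclic group are characteristic: normalizers -/
theorem normalizer_le_of_isCyclic {R Z : Subgroup G} (hR : IsCyclic ↥R) (hZR : Z ≤ R) :
    Subgroup.normalizer (R : Set G) ≤ Subgroup.normalizer (Z : Set G) := by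
  intro g hg
  apply BG7.mem_normalizer_of_cj_eq
  have h1 : BG7.cj g Z ≤ R := by
    have := BG7.cj_mono (k := g) hZR
    rwa [BG7.cj_eq_of_mem_normalizer hg] at this
  haveI := hR
  exact Helper3.subgroup_eq_of_card_eq_of_le_isCyclic R _ _ h1 hZR (BG7.card_cj g Z)

theorem coprime_of_pgroups {p q : ℕ} [hp : Fact p.Prime] [hq : Fact q.Prime] (hpq : p ≠ q)
    {P Q : Subgroup G} (hP : IsPGroup p P) (hQ : IsPGroup q Q) :
    (Nat.card P).Coprime (Nat.card Q) := by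
  obtain ⟨a, ha⟩ := IsPGroup.iff_card.mp hP
  obtain ⟨b, hb⟩ := IsPGroup.iff_card.mp hQ
  rw [ha, hb]
  exact Nat.Coprime.pow _ _ ((Nat.coprime_primes hp.out hq.out).mpr hpq)

theorem prime_eq_of_dvd_card_pgroup {p r : ℕ} [hp : Fact p.Prime] {P : Subgroup G}
    (hP : IsPGroup p P) (hr : r.Prime) (h : r ∣ Nat.card P) : r = p := by
  obtain ⟨a, ha⟩ := IsPGroup.iff_card.mp hP
  rw [ha] at h
  exact (Nat.prime_dvd_prime_iff_eq hr hp.out).mp (hr.dvd_of_dvd_pow h)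

/-- **Lemma Z**: a `q`-subgroup `Q` of `M` (`q ∈ σ(M)`) not centralized by a `p`-subgroup of its
normalizer in `M` is not normalized by any `E_{p²}`, when `M` has `p`-rank at most one and `p` is
not ideal (from the full B&G Theorem 12.14). -/
theorem lemmaZ (hG : IsMinSimpleOddOrder G) (h1424 : Row1424 G) {M : Subgroup G} (hM : IsCoatom M)
    {p q : ℕ} [hp : Fact p.Prime] [hq : Fact q.Prime] (hpq : p ≠ q) (hqσ : q ∈ sigma M)
    (hr1 : PRankLE p 1 ↥M)
    {Q P A : Subgroup G} (hQM : Q ≤ M) (hQq : IsPGroup q Q) (hPM : P ≤ M) (hPp : IsPGroup p P)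
    (hPQ : P ≤ Subgroup.normalizer (Q : Set G)) (hne : ⁅Q, P⁆ ≠ ⊥)
    (hAe : IsElementaryAbelian p A) (hA2 : Nat.card A = p ^ 2)
    (hAQ : A ≤ Subgroup.normalizer (Q : Set G)) : False := by
  classical
  have hp' := hp.out
  have hq' := hq.out
  have hAp : IsPGroup p A := BG9.isPGroup_of_isElementaryAbelian hAe
  have hQ1 : Q ≠ ⊥ := by
    intro h; apply hne; rw [h]; exact Subgroup.commutator_bot_left P
  have hQtop : Q ≠ ⊤ := BG7.pgroup_ne_top hG hQq
  have hNtop : Subgroup.normalizer (Q : Set G) ≠ ⊤ := BG7.normalizer_ne_top hG hQ1 hQtop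
  obtain ⟨Ms, hMs, hNMs⟩ : ∃ Ms, IsCoatom Ms ∧ Subgroup.normalizer (Q : Set G) ≤ Ms := by
    rcases eq_top_or_exists_le_coatom (Subgroup.normalizer (Q : Set G)) with h | h
    · exact absurd h hNtop
    · exact h
  have hAMs : A ≤ Ms := hAQ.trans hNMs
  have hPMs : P ≤ Ms := hPQ.trans hNMs
  have hQMs : Q ≤ Ms := Subgroup.le_normalizer.trans hNMs
  have hAnotM : ¬ A ≤ M := fun h =>
    BG9.not_pRankLE_of_elementary hp' h hAe (by rw [hA2]) hr1
  have hneM : Ms ≠ M := fun h => hAnotM (h ▸ hAMs)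
  obtain ⟨S, hQS⟩ := Helper7.BGD.exists_sylow_ge (M := M ⊓ Ms) hQq (le_inf hQM hQMs)
  obtain ⟨-, hNS, hidx⟩ := h1424 hG M hM q hqσ Q hQq hQ1 hQM Ms hMs hneM hNMs S hQS
  obtain ⟨S', hS'⟩ : ∃ S' : Subgroup G,
      S' = (S : Subgroup ↥(M ⊓ Ms)).map (M ⊓ Ms).subtype := ⟨_, rfl⟩
  rw [← hS'] at hNS hidx hQS
  have hS'I : BG8.IsMaxP q S' (M ⊓ Ms) := hS' ▸ BG8.isMaxP_of_sylow S
  have hS'M : S' ≤ M := hS'I.1.trans inf_le_left
  have hS'Ms : S' ≤ Ms := hS'I.1.trans inf_le_right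
  have hS'max : BG8.IsMaxP q S' Ms := isMaxP_of_not_dvd_relIndex hS'Ms hS'I.2.1 hidx
  have hMstop : Ms ≠ ⊤ := hMs.1
  haveI hMss : Group.IsSolvable ↥Ms := BG7.isSolvable_of_ne_top hG hMstop
  have hcomm_le : ⁅Q, P⁆ ≤ Q := BG8.commutator_le_of_le_normalizer hPQ
  have hcop : (Nat.card P).Coprime (Nat.card Q) := coprime_of_pgroups hpq hPp hQq
  haveI hQs : Group.IsSolvable ↥Q := isSolvable_of_le hQMs
  have hXX : ⁅⁅Q, P⁆, P⁆ = ⁅Q, P⁆ := coprime_commutator_commutator P Q hPQ hcop (Or.inr hQs)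
  have hXσ : P ≤ sigmaCore Ms → ⁅Q, P⁆ ≤ sigmaCore Ms := by
    intro hPσ
    have h1 : ⁅Q, P⁆ ≤ ⁅Ms, sigmaCore Ms⁆ := Subgroup.commutator_mono hQMs hPσ
    refine h1.trans ?_
    rw [Subgroup.commutator_comm]
    exact BG8.commutator_le_of_le_normalizer (Helper3.BG12.le_normalizer_sigmaCore Ms)
  -- the final step: a complement of `(Ms)_σ` inside `M` kills `A`
  have hfinal : p ∉ sigma Ms → ∀ E₁ : Subgroup G, IsComplIn E₁ (sigmaCore Ms) Ms →
      E₁ ≤ M → False := by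
    intro hpσ E₁ hE₁ hE₁M
    have hcopA : (Nat.card A).Coprime (Nat.card (sigmaCore Ms)) := by
      apply Helper7.BGD.coprime_sigmaCore hG hMs
      intro r hr hrA hrσ
      have : r = p := prime_eq_of_dvd_card_pgroup hAp hr hrA
      exact hpσ (this ▸ hrσ)
    obtain ⟨m, hm, hAm⟩ := Helper7.BGD.exists_cj_le hG hMs hE₁ hAMs hcopA
    exact false_of_sq_cj hr1 hAe hA2 hAm hE₁M
  by_cases hqσs : q ∈ sigma Ms
  · -- case (d)
    have hqβ : q ∉ beta Ms := by
      intro hβ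
      have hα : ¬ PRankLE q 2 ↥Ms := hβ.1.2
      obtain ⟨B, hBMs, hBe, hB3⟩ := BG9.exists_elementary_of_not_pRankLE hq' hα
      obtain ⟨m, hm, hBm⟩ :=
        BT.exists_cj_ge hS'max (BG9.isPGroup_of_isElementaryAbelian hBe) hBMs
      have hB' : BG7.cj m⁻¹ B ≤ S' := by
        have := BG7.cj_mono (k := m⁻¹) hBm; rwa [BG7.cj_inv_cj] at this
      have hr : ¬ PRankLE q 2 ↥S' :=
        BG9.not_pRankLE_of_elementary hq' hB' (BG9.isElementaryAbelian_cj m⁻¹ hBe)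
          (by rw [BG7.card_cj]; exact hB3)
      have := BT.le_of_rank_three hG hq' hM hS'M hr hS'Ms hMstop
      exact hneM (BG8.eq_of_coatom_le hMs this hM.1).symm
    have hqMs : q ∣ Nat.card Ms := hqσs.2.1
    have hnpc := ((Cfsg.Agent.S1414.result hG Ms hMs).2.2.2.2 q hq' hqMs hqβ).2.1
    by_cases hpσs : p ∈ sigma Ms
    · have hPσ : P ≤ sigmaCore Ms :=
        Helper3.BG12.le_sigmaCore_of_isPGroup hG hMs hpσs hPMs hPp
      have hPq : (Nat.card P).Coprime q := by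
        obtain ⟨a, ha⟩ := IsPGroup.iff_card.mp hPp
        rw [ha]
        exact Nat.Coprime.pow_left _ ((Nat.coprime_primes hp' hq').mpr hpq)
      have h1 := Helper3.BG12.coprime_of_npc_comm hnpc (hXσ hPσ) hPσ hPq hXX.ge
      have h2 : q ∣ Nat.card ↥⁅Q, P⁆ :=
        BG8.dvd_card_of_isPGroup_ne_bot (hQq.to_le hcomm_le) hne
      exact (Nat.Prime.coprime_iff_not_dvd hq').mp h1.symm h2
    · obtain ⟨E₀, hE₀⟩ := exists_compl hG hMs
      have hE₀Ms : E₀ ≤ Ms := hE₀.1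
      have hW : E₀ ≤ Subgroup.normalizer (sigmaCore Ms : Set G) :=
        hE₀Ms.trans (Helper3.BG12.le_normalizer_sigmaCore Ms)
      have hcopE : (Nat.card E₀).Coprime (Nat.card (sigmaCore Ms)) :=
        Helper7.BGD.coprime_sigmaCore hG hMs (Helper7.BGD.compl_not_sigma hG hMs hE₀)
      haveI hσs : Group.IsSolvable ↥(sigmaCore Ms) :=
        isSolvable_of_le (Helper3.BG12.sigmaCore_le Ms)
      obtain ⟨S₀, hS₀⟩ :=
        coprime_exists_invariant_sylow E₀ (sigmaCore Ms) hW hcopE (Or.inr hσs) q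
      have h1 : BG8.IsMaxP q ((S₀ : Subgroup ↥(sigmaCore Ms)).map (sigmaCore Ms).subtype)
          (sigmaCore Ms) := BG8.isMaxP_of_sylow S₀
      have hS'σ : S' ≤ sigmaCore Ms :=
        Helper3.BG12.le_sigmaCore_of_isPGroup hG hMs hqσs hS'Ms hS'I.2.1
      have h2 : BG8.IsMaxP q S' (sigmaCore Ms) :=
        hS'max.mono hS'σ (Helper3.BG12.sigmaCore_le Ms)
      obtain ⟨w, hw, hwS⟩ := BT.isMaxP_conj h2 h1
      have hwMs : w ∈ Ms := Helper3.BG12.sigmaCore_le Ms hw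
      have hE₁ : IsComplIn (BG7.cj w⁻¹ E₀) (sigmaCore Ms) Ms :=
        Helper7.BGD.isComplIn_cj hE₀ (Helper3.BG12.le_normalizer_sigmaCore Ms)
          (Ms.inv_mem hwMs)
      have hE₁N : BG7.cj w⁻¹ E₀ ≤ Subgroup.normalizer (S' : Set G) := by
        have := BG9.cj_le_normalizer_cj w⁻¹ hS₀
        rw [hwS, BG7.cj_inv_cj] at this
        exact this
      exact hfinal hpσs _ hE₁ (hE₁N.trans hNS)
  · -- case (e)
    have hqG : q ∣ Nat.card G :=
      hqσ.2.1.trans (Subgroup.card_subgroup_dvd_card M)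
    have hq2 : q ≠ 2 := BG9.odd_prime_of_dvd hG hqG
    have hS'1 : S' ≠ ⊥ := fun h => hQ1 (le_bot_iff.mp (h ▸ hQS))
    have hS'nc : ¬ IsCyclic ↥S' := by
      intro hc
      have hle := normalizer_le_of_isCyclic hc hQS
      exact hqσs (Helper3.BG12.mem_sigma_of_isMaxP hS'max hS'1 (hle.trans hNMs))
    have hr1' : ¬ PRankLE q 1 ↥Ms := fun h =>
      hS'nc (Helper7.BGB.isCyclic_of_pRankLE_one hq2 hS'Ms hS'I.2.1 h)
    have hr2' : PRankLE q 2 ↥Ms := by
      by_contra h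
      exact hqσs (BT.alpha_subset_sigma hG hMs ⟨hq', h⟩)
    have hτ : q ∈ tau2 Ms := ⟨hq', hqσs, hr2', hr1'⟩
    obtain ⟨B, hBMs, hBe, hB2⟩ := Helper7.BGD.exists_sq_of_rank hr2' hr1'
    obtain ⟨m, hm, hBm⟩ :=
      BT.exists_cj_ge hS'max (BG9.isPGroup_of_isElementaryAbelian hBe) hBMs
    obtain ⟨Aq, hAq⟩ : ∃ Aq, Aq = BG7.cj m⁻¹ B := ⟨_, rfl⟩
    have hAqS : Aq ≤ S' := by
      rw [hAq]
      have := BG7.cj_mono (k := m⁻¹) hBm; rwa [BG7.cj_inv_cj] at this
    have hAqe : IsElementaryAbelian q Aq := hAq ▸ BG9.isElementaryAbelian_cj m⁻¹ hBe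
    have hAq2 : Nat.card Aq = q ^ 2 := by rw [hAq, BG7.card_cj, hB2]
    have hAqM : Aq ≤ M := hAqS.trans hS'M
    have hAqMs : Aq ≤ Ms := hAqS.trans hS'Ms
    have hAqp : IsPGroup q Aq := BG9.isPGroup_of_isElementaryAbelian hAqe
    have h17 := Cfsg.Agent.S1417.result hG Ms hMs q hτ Aq ⟨hAqMs, hAqe, hAq2⟩
    have hti : sigmaCore Ms ⊓ M = ⊥ := h17.2.2.2.2.1 M hM (Ne.symm hneM) hAqM
    by_cases hpσs : p ∈ sigma Ms
    · have hPσ : P ≤ sigmaCore Ms :=
        Helper3.BG12.le_sigmaCore_of_isPGroup hG hMs hpσs hPMs hPp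
      have h1 : ⁅Q, P⁆ ≤ sigmaCore Ms ⊓ M := le_inf (hXσ hPσ) (hcomm_le.trans hQM)
      rw [hti] at h1
      exact hne (le_bot_iff.mp h1)
    · obtain ⟨Es, hEs, hAqEs⟩ := exists_compl_ge hG hMs hAqMs (by
        intro r hr hrA hrσ
        have : r = q := prime_eq_of_dvd_card_pgroup hAqp hr hrA
        exact hqσs (this ▸ hrσ))
      have h18 := Cfsg.Agent.S1418.result hG Ms hMs Es hEs q hτ Aq ⟨hAqEs, hAqe, hAq2⟩
      have hEsN : Es ≤ Subgroup.normalizer (Aq : Set G) := h18.1.1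
      obtain ⟨E, hE⟩ := exists_compl hG hM
      have h20 := Cfsg.Agent.S1420.result hG M hM E hE
      have hAqnc : ¬ IsCyclic ↥Aq :=
        BG9.not_isCyclic_of_elementary hq' le_rfl hAqe (by rw [hAq2])
      have hNAq : Subgroup.normalizer (Aq : Set G) ≤ M :=
        h20.2.2.1 q Aq hqσ hAqp hAqM hAqnc
      exact hfinal hpσs Es hEs (hEsN.trans hNAq)

end Cfsg.Agent.Lib.Helper1.BGG
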