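import Mathlib
import Cfsg.Agent.Lib.Helper1.BGG1
import Cfsg.Agent.S1415

set_option autoImplicit false
set_option maxHeartbeats 4000000
set_option linter.unusedVariables false
set_option linter.unusedSectionVars false
set_option linter.style.longLine false
set_option linter.unusedSimpArgs false
set_option linter.deprecated false
set_option linter.style.haveILetI false

/-!
# B&G section 13, part 2: Lemma 13.1 / Corollary 13.2 / 13.3(a) (S1427)
-/

open scoped commutatorElement Pointwise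
universe u
namespace Cfsg.Agent.Lib.Helper1.BGG

open Cfsg Cfsg.Agent.Lib.Helper1 Cfsg.Agent.Lib.Helper7.BGRows

variable {G : Type u} [Group G] [Finite G]

omit [Finite G] in
/-- a nilpotent subgroup of `K` normalized by `K` lies in `F(K)` -/
theorem le_fittingOf_rel {K T : Subgroup G} (hTK : T ≤ K)
    (hKT : K ≤ Subgroup.normalizer (T : Set G)) (hnil : Group.IsNilpotent T) :
    T ≤ fittingOf K := by
  have h1 : (T.subgroupOf K).Normal := by
    refine ⟨fun n hn g => ?_⟩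
    rw [Subgroup.mem_subgroupOf] at hn ⊢
    have := (Subgroup.mem_normalizer_iff.mp (hKT g.2) (n : G)).mp hn
    simpa using this
  have h2 : Group.IsNilpotent (T.subgroupOf K) :=
    (Group.isNilpotent_congr (Subgroup.subgroupOfEquivOfLe hTK)).mpr hnil
  have h3 := le_fittingSubgroup h1 h2
  intro t ht
  exact ⟨⟨t, hTK ht⟩, h3 (Subgroup.mem_subgroupOf.mpr ht), rfl⟩

/-- **B&G Lemma 13.1 / Corollary 13.2 (a)**: if `M` has cyclic Sylow `p`-subgroups, `p ∉ σ(M)`, and
`p ∈ σ(H) ∪ τ₂(H)`, then every `p`-subgroup of `M ∩ H` centralizes `M_σ ∩ H`. -/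
theorem comm_eq_bot (hG : IsMinSimpleOddOrder G) (h1424 : Row1424 G) {M H : Subgroup G}
    (hM : IsCoatom M) (hH : IsCoatom H) {p : ℕ} [hp : Fact p.Prime] (hpσ : p ∉ sigma M)
    (hr1 : PRankLE p 1 ↥M) {P : Subgroup G} (hPM : P ≤ M) (hPH : P ≤ H) (hPp : IsPGroup p P)
    (hpH : p ∈ sigma H ∨ p ∈ tau2 H) : ⁅sigmaCore M ⊓ H, P⁆ = ⊥ := by
  classical
  have hp' := hp.out
  obtain ⟨hHallM, -, -⟩ := Helper7.BGA.s1350 hG M hM
  have hNσ : ∀ q : ℕ, q.Prime → q ∣ Nat.card (sigmaCore M) → q ∈ sigma M ∧ q ≠ p :=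
    fun q hq hqd => ⟨hHallM.2.1 q hq hqd, fun h => hpσ (h ▸ hHallM.2.1 q hq hqd)⟩
  rcases hpH with hpH | hpH
  · have hne : H ≠ M := fun h => hpσ (h ▸ hpH)
    exact Helper3.BG12.l123_sigma hG hM hH hne hPM hPH hPp hpH (Helper3.BG12.sigmaCore_le M)
      (Helper3.BG12.le_normalizer_sigmaCore M) hNσ
  · obtain ⟨-, hpσH, hr2H, hr1H⟩ := id hpH
    have hHtop : H ≠ ⊤ := hH.1
    haveI hHs : Group.IsSolvable ↥H := BG7.isSolvable_of_ne_top hG hHtop
    obtain ⟨D, hD⟩ : ∃ D, D = sigmaCore M ⊓ H := ⟨_, rfl⟩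
    rw [← hD]
    have hPD : P ≤ Subgroup.normalizer (D : Set G) := by
      rw [hD]
      exact le_normalizer_inf (hPM.trans (Helper3.BG12.le_normalizer_sigmaCore M))
        (hPH.trans Subgroup.le_normalizer)
    have hDσ : D ≤ sigmaCore M := hD ▸ inf_le_left
    have hDH : D ≤ H := hD ▸ inf_le_right
    have hDq : ∀ q : ℕ, q.Prime → q ∣ Nat.card D → q ∈ sigma M ∧ q ≠ p := fun q hq hqd =>
      hNσ q hq (hqd.trans (Subgroup.card_dvd_of_le hDσ))
    have hcopOf : ∀ Y : Subgroup G, Y ≤ D → (Nat.card P).Coprime (Nat.card Y) := by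
      intro Y hY
      obtain ⟨n, hn⟩ := IsPGroup.iff_card.mp hPp
      rw [hn]
      apply Nat.Coprime.pow_left
      rw [Nat.Prime.coprime_iff_not_dvd hp']
      intro h
      exact (hDq p hp' (h.trans (Subgroup.card_dvd_of_le hY))).2 rfl
    haveI hDs : Group.IsSolvable ↥D := isSolvable_of_le hDH
    obtain ⟨X, hX⟩ : ∃ X, X = ⁅D, P⁆ := ⟨_, rfl⟩
    rw [← hX]
    have hXX : ⁅X, P⁆ = X := by
      rw [hX]; exact coprime_commutator_commutator P D hPD (hcopOf D le_rfl) (Or.inr hDs)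
    have hXD : X ≤ D := hX ▸ BG8.commutator_le_of_le_normalizer hPD
    have hXH : X ≤ H := hXD.trans hDH
    have hXσ : X ≤ sigmaCore M := hXD.trans hDσ
    have hXM : X ≤ M := hXσ.trans (Helper3.BG12.sigmaCore_le M)
    have hPX : P ≤ Subgroup.normalizer (X : Set G) := by
      rw [hX]; exact Subgroup.normalizer_commutator_ge_right D P
    by_contra hXbot
    -- facts about `H`
    obtain ⟨A₀, hA₀H, hA₀e, hA₀2⟩ := Helper7.BGD.exists_sq_of_rank hr2H hr1H
    have hA₀p : IsPGroup p A₀ := BG9.isPGroup_of_isElementaryAbelian hA₀e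
    have h17 := Cfsg.Agent.S1417.result hG H hH p hpH A₀ ⟨hA₀H, hA₀e, hA₀2⟩
    have hnilH : Group.IsNilpotent (sigmaCore H) := h17.1
    -- no prime of `X` lies in `σ(H)`
    have hXσH : ∀ q : ℕ, q.Prime → q ∣ Nat.card X → q ∉ sigma H := by
      intro q hq hqX hqσH
      haveI : Fact q.Prime := ⟨hq⟩
      have hqσM : q ∈ sigma M := (hNσ q hq (hqX.trans (Subgroup.card_dvd_of_le hXσ))).1
      obtain ⟨T, hTtop, -, hNT, hT1⟩ := BGF.exists_normal_sylow hG hH hnilH hqσH
      obtain ⟨SM, hSM, -⟩ := BT.exists_isMaxP_ge (p := q) (H := M) (Y := ⊥)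
        IsPGroup.of_bot bot_le
      obtain ⟨-, hSMtop, hNSM⟩ := BT.sigma_sylow_le_commutator hG hM hqσM hSM
      obtain ⟨g, -, hg⟩ := BT.isMaxP_conj hSMtop hTtop
      have hHle : H ≤ BG7.cj g M := by
        rw [← hNT, hg, ← BT.cj_normalizer]
        exact BG7.cj_mono hNSM
      exact false_of_sq_cj hr1 hA₀e hA₀2 (hA₀H.trans hHle) le_rfl
    -- `X ⊔ P` is a `σ(H)'`-group
    have hdisj : Disjoint X P :=
      Subgroup.disjoint_of_coprime_natCard (hcopOf X hXD).symm
    have hcardXP : Nat.card ↥(X ⊔ P) = Nat.card X * Nat.card P :=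
      BGF.card_sup_eq_mul hPX hdisj
    have hprimes : ∀ q : ℕ, q.Prime → q ∣ Nat.card ↥(X ⊔ P) → q ∉ sigma H := by
      intro q hq hqd
      rw [hcardXP] at hqd
      rcases (Nat.Prime.dvd_mul hq).mp hqd with h | h
      · exact hXσH q hq h
      · have : q = p := prime_eq_of_dvd_card_pgroup hPp hq h
        rw [this]; exact hpσH
    obtain ⟨E', hE', hKE'⟩ := exists_compl_ge hG hH (sup_le hXH hPH) hprimes
    have hXE' : X ≤ E' := le_sup_left.trans hKE'
    have hPE' : P ≤ E' := le_sup_right.trans hKE'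
    have hE'H : E' ≤ H := hE'.1
    have hE'σ : ∀ q : ℕ, q.Prime → q ∣ Nat.card E' → q ∉ sigma H :=
      Helper7.BGD.compl_not_sigma hG hH hE'
    -- an `E_{p²}` in `E'`
    have hcopA₀ : (Nat.card A₀).Coprime (Nat.card (sigmaCore H)) := by
      apply Helper7.BGD.coprime_sigmaCore hG hH
      intro r hr hrA
      have : r = p := prime_eq_of_dvd_card_pgroup hA₀p hr hrA
      rw [this]; exact hpσH
    obtain ⟨m, hm, hA₀m⟩ := Helper7.BGD.exists_cj_le hG hH hE' hA₀H hcopA₀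
    obtain ⟨A', hA'⟩ : ∃ A', A' = BG7.cj m⁻¹ A₀ := ⟨_, rfl⟩
    have hA'E' : A' ≤ E' := by
      rw [hA']
      have := BG7.cj_mono (k := m⁻¹) hA₀m; rwa [BG7.cj_inv_cj] at this
    have hA'e : IsElementaryAbelian p A' := hA' ▸ BG9.isElementaryAbelian_cj m⁻¹ hA₀e
    have hA'2 : Nat.card A' = p ^ 2 := by rw [hA', BG7.card_cj, hA₀2]
    have hA'p : IsPGroup p A' := BG9.isPGroup_of_isElementaryAbelian hA'e
    have h18 := Cfsg.Agent.S1418.result hG H hH E' hE' p hpH A' ⟨hA'E', hA'e, hA'2⟩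
    have hE'N : E' ≤ Subgroup.normalizer (A' : Set G) := h18.1.1
    have h20 := Cfsg.Agent.S1420.result hG H hH E' hE'
    -- `F(E')` is abelian
    have hFE' : fittingOf E' ≤ E' := BG8.fittingOf_le E'
    have hFab : IsMulCommutative ↥(fittingOf E') :=
      h20.1 (fittingOf E') (hFE'.trans hE'H) (BG8.isNilpotent_fittingOf E')
        (fun q hq hqd => hE'σ q hq (hqd.trans (Subgroup.card_dvd_of_le hFE')))
    have hA'F : A' ≤ fittingOf E' := le_fittingOf_rel hA'E' hE'N hA'p.isNilpotent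
    have hE''F : ⁅E', E'⁆ ≤ fittingOf E' :=
      le_fittingOf_rel (Helper7.BGB.comm_le_self E') (Subgroup.normalizer_commutator_ge_left E' E')
        (Cfsg.Agent.S1415.result hG H hH E' hE').1
    have hXF : X ≤ fittingOf E' := by
      rw [← hXX]; exact (Subgroup.commutator_mono hXE' hPE').trans hE''F
    have hA'X : A' ≤ Subgroup.centralizer (X : Set G) := by
      intro a ha
      rw [Subgroup.mem_centralizer_iff]
      intro x hx
      have := hFab.is_comm.comm ⟨x, hXF hx⟩ ⟨a, hA'F ha⟩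
      exact congrArg Subtype.val this
    -- a prime `q` and a `P`-invariant Sylow `q`-subgroup of `X` not centralized by `P`
    have hcopPX : (Nat.card P).Coprime (Nat.card X) := hcopOf X hXD
    haveI hXs : Group.IsSolvable ↥X := isSolvable_of_le hXH
    have hex : ∃ (q : ℕ) (_ : Fact q.Prime) (S₀ : Sylow q ↥X),
        P ≤ Subgroup.normalizer (((S₀ : Subgroup ↥X).map X.subtype : Subgroup G) : Set G) ∧
        ¬ ((S₀ : Subgroup ↥X).map X.subtype ≤ Subgroup.centralizer (P : Set G)) := by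
      by_contra hall
      push Not at hall
      have htop : (Subgroup.centralizer (P : Set G)).subgroupOf X = ⊤ := by
        apply eq_top_of_forall_sylow_le
        intro q hqF
        obtain ⟨S₀, hS₀⟩ := coprime_exists_invariant_sylow P X hPX hcopPX (Or.inr hXs) q
        refine ⟨S₀, ?_⟩
        intro x hx
        rw [Subgroup.mem_subgroupOf]
        exact hall q hqF S₀ hS₀ (Subgroup.mem_map_of_mem _ hx)
      have hXC : X ≤ Subgroup.centralizer (P : Set G) := by
        intro x hx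
        have h1 : (⟨x, hx⟩ : ↥X) ∈ (Subgroup.centralizer (P : Set G)).subgroupOf X := by
          rw [htop]; exact Subgroup.mem_top _
        exact Subgroup.mem_subgroupOf.mp h1
      have h2 : ⁅X, P⁆ = ⊥ := Subgroup.commutator_eq_bot_iff_le_centralizer.mpr hXC
      rw [hXX] at h2; exact hXbot h2
    obtain ⟨q, hqF, S₀, hPS₀, hnc⟩ := hex
    haveI := hqF
    obtain ⟨Q₀, hQ₀⟩ : ∃ Q₀ : Subgroup G, Q₀ = (S₀ : Subgroup ↥X).map X.subtype := ⟨_, rfl⟩
    rw [← hQ₀] at hPS₀ hnc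
    have hQ₀X : Q₀ ≤ X := hQ₀ ▸ Subgroup.map_subtype_le _
    have hQ₀q : IsPGroup q Q₀ := hQ₀ ▸ S₀.isPGroup'.map _
    have hne : ⁅Q₀, P⁆ ≠ ⊥ := fun h =>
      hnc (Subgroup.commutator_eq_bot_iff_le_centralizer.mp h)
    have hQ₀1 : Q₀ ≠ ⊥ := by
      intro h; apply hne; rw [h]; exact Subgroup.commutator_bot_left P
    have hq_dvd : q ∣ Nat.card X :=
      (BG8.dvd_card_of_isPGroup_ne_bot hQ₀q hQ₀1).trans (Subgroup.card_dvd_of_le hQ₀X)
    have hqσM : q ∈ sigma M :=
      (hNσ q hqF.out (hq_dvd.trans (Subgroup.card_dvd_of_le hXσ))).1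
    have hpq : p ≠ q := fun h => hpσ (h ▸ hqσM)
    have hA'Q₀ : A' ≤ Subgroup.normalizer (Q₀ : Set G) :=
      (hA'X.trans (Subgroup.centralizer_le hQ₀X)).trans (Subgroup.centralizer_le_normalizer _)
    exact lemmaZ hG h1424 hM hpq hqσM hr1 (hQ₀X.trans hXM) hQ₀q hPM hPp hPS₀ hne hA'e hA'2 hA'Q₀

/-- **B&G Corollary 13.3(a)** (= S1427): a cyclic Sylow subgroup of `E` has prime action on `M_σ`. -/
theorem s1427_of (hG : IsMinSimpleOddOrder G) (h1424 : Row1424 G) (M : Subgroup G)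
    (hM : IsCoatom M) (E : Subgroup G) (hE : IsComplIn E (sigmaCore M) M) (p : ℕ)
    [hp : Fact p.Prime] (S : Sylow p E) (hS1 : (S : Subgroup E) ≠ ⊥)
    (hSc : IsCyclic (S : Subgroup E)) :
    ∀ x ∈ (S : Subgroup E).map E.subtype, x ≠ 1 →
      sigmaCore M ⊓ Subgroup.centralizer ({x} : Set G) =
        sigmaCore M ⊓ Subgroup.centralizer (((S : Subgroup E).map E.subtype : Subgroup G) : Set G) := by
  classical
  intro x hx hx1
  have hp' := hp.out
  obtain ⟨P₁, hP₁⟩ : ∃ P₁ : Subgroup G, P₁ = (S : Subgroup E).map E.subtype := ⟨_, rfl⟩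
  rw [← hP₁] at hx ⊢
  have hP₁max : BG8.IsMaxP p P₁ E := hP₁ ▸ BG8.isMaxP_of_sylow S
  have hP₁c : IsCyclic ↥P₁ := by
    rw [hP₁]; haveI := hSc; exact Douglas.isCyclic_map E.subtype (S : Subgroup E)
  have hP₁1 : P₁ ≠ ⊥ := by
    intro h
    rw [hP₁, Subgroup.map_eq_bot_iff_of_injective _ E.subtype_injective] at h
    exact hS1 h
  have hEM : E ≤ M := hE.1
  have hpE : p ∣ Nat.card E :=
    (BG8.dvd_card_of_isPGroup_ne_bot hP₁max.2.1 hP₁1).trans (Subgroup.card_dvd_of_le hP₁max.1)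
  have hpσ : p ∉ sigma M := Helper7.BGD.compl_not_sigma hG hM hE p hp' hpE
  have hP₁M : P₁ ≤ M := hP₁max.1.trans hEM
  have hpG : p ∣ Nat.card G :=
    (hpE.trans (Subgroup.card_dvd_of_le hEM)).trans (Subgroup.card_subgroup_dvd_card M)
  have hp2 : p ≠ 2 := BG9.odd_prime_of_dvd hG hpG
  have hr1 : PRankLE p 1 ↥M := by
    by_contra h
    obtain ⟨B, hBM, hBe, hB2⟩ := BG9.exists_elementary_of_not_pRankLE hp' h
    have hBp : IsPGroup p B := BG9.isPGroup_of_isElementaryAbelian hBe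
    have hcopB : (Nat.card B).Coprime (Nat.card (sigmaCore M)) := by
      apply Helper7.BGD.coprime_sigmaCore hG hM
      intro r hr hrB
      have : r = p := prime_eq_of_dvd_card_pgroup hBp hr hrB
      rw [this]; exact hpσ
    obtain ⟨m, hm, hBm⟩ := Helper7.BGD.exists_cj_le hG hM hE hBM hcopB
    have hB' : BG7.cj m⁻¹ B ≤ E := by
      have := BG7.cj_mono (k := m⁻¹) hBm; rwa [BG7.cj_inv_cj] at this
    obtain ⟨e, he, hBe'⟩ := BT.exists_cj_ge (X := BG7.cj m⁻¹ B) hP₁max (hBp.map _) hB'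
    have hcyc : IsCyclic ↥(BG7.cj e P₁) := by
      haveI := hP₁c
      exact Douglas.isCyclic_map (MulAut.conj e).toMonoidHom P₁
    exact BG9.not_isCyclic_of_elementary hp' hBe' (BG9.isElementaryAbelian_cj m⁻¹ hBe)
      (by rw [BG7.card_cj]; exact hB2) hcyc
  apply le_antisymm
  · obtain ⟨Z, hZ⟩ : ∃ Z, Z = Subgroup.zpowers x := ⟨_, rfl⟩
    have hZP : Z ≤ P₁ := by rw [hZ, Subgroup.zpowers_le]; exact hx
    have hZ1 : Z ≠ ⊥ := by
      intro h
      rw [hZ, Subgroup.zpowers_eq_bot] at h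
      exact hx1 h
    have hZtop : Z ≠ ⊤ := BG7.pgroup_ne_top hG (hP₁max.2.1.to_le hZP)
    have hNtop := BG7.normalizer_ne_top hG hZ1 hZtop
    obtain ⟨H, hH, hNH⟩ : ∃ H, IsCoatom H ∧ Subgroup.normalizer (Z : Set G) ≤ H := by
      rcases eq_top_or_exists_le_coatom (Subgroup.normalizer (Z : Set G)) with h | h
      · exact absurd h hNtop
      · exact h
    have hCN : Subgroup.centralizer ({x} : Set G) ≤ Subgroup.normalizer (Z : Set G) := by
      rw [hZ, ← BT.centralizer_zpowers_eq x]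
      exact Subgroup.centralizer_le_normalizer _
    have hP₁C : P₁ ≤ Subgroup.centralizer ({x} : Set G) := by
      intro y hy
      rw [Subgroup.mem_centralizer_iff]
      intro z hz
      rw [Set.mem_singleton_iff] at hz
      subst hz
      haveI := hP₁c
      exact Douglas.comm_of_isCyclic P₁ z hx y hy
    have hP₁H : P₁ ≤ H := (hP₁C.trans hCN).trans hNH
    have hpH : p ∈ sigma H ∨ p ∈ tau2 H := by
      by_cases hσ : p ∈ sigma H
      · exact Or.inl hσ
      · right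
        have hr2 : PRankLE p 2 ↥H := by
          by_contra h
          exact hσ (BT.alpha_subset_sigma hG hH ⟨hp', h⟩)
        refine ⟨hp', hσ, hr2, ?_⟩
        intro hr1H
        obtain ⟨R, hR, hP₁R⟩ := BT.exists_isMaxP_ge hP₁max.2.1 hP₁H
        have hRc : IsCyclic ↥R := Helper7.BGB.isCyclic_of_pRankLE_one hp2 hR.1 hR.2.1 hr1H
        have hle := normalizer_le_of_isCyclic hRc (hZP.trans hP₁R)
        have hR1 : R ≠ ⊥ := fun h => hP₁1 (le_bot_iff.mp (h ▸ hP₁R))
        exact hσ (Helper3.BG12.mem_sigma_of_isMaxP hR hR1 (hle.trans hNH))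
    have hmain := comm_eq_bot hG h1424 hM hH hpσ hr1 hP₁M hP₁H hP₁max.2.1 hpH
    have hle := Subgroup.commutator_eq_bot_iff_le_centralizer.mp hmain
    intro y hy
    obtain ⟨hyσ, hyC⟩ := Subgroup.mem_inf.mp hy
    refine Subgroup.mem_inf.mpr ⟨hyσ, ?_⟩
    exact hle (Subgroup.mem_inf.mpr ⟨hyσ, hNH (hCN hyC)⟩)
  · exact inf_le_inf_left _ (Subgroup.centralizer_le (Set.singleton_subset_iff.mpr hx))

end Cfsg.Agent.Lib.Helper1.BGG
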