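import Mathlib
import Cfsg.Agent.Lib.Helper1.FM12
import Cfsg.Agent.Lib.Helper1.ClassTwo
import Cfsg.Agent.Lib.Helper1.Coprime

/-! Lemma F: a Frobenius group `KR` acting coprimely on a `p`-group `T` (`p` odd) such that `K`
centralizes every element of order dividing `p` of `C_T(R)` centralizes `T`. -/
set_option autoImplicit false
set_option maxHeartbeats 4000000
set_option linter.unusedVariables false
set_option linter.unusedSectionVars false
set_option linter.style.longLine false
set_option linter.unusedSimpArgs false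
set_option linter.deprecated false
set_option linter.style.haveILetI false

open scoped commutatorElement Pointwise

universe u

namespace Cfsg.Agent.Lib.Helper1.BGG

variable {X : Type u} [Group X]

/-- the "Frattini-like" subgroup: generated by commutators and `p`-th powers -/
def frat (p : ℕ) (T : Subgroup X) : Subgroup X :=
  ⁅T, T⁆ ⊔ Subgroup.closure {y : X | ∃ t ∈ T, y = t ^ p}

theorem frat_le (p : ℕ) (T : Subgroup X) : frat p T ≤ T := by
  refine sup_le (Subgroup.commutator_le_self T) ?_
  rw [Subgroup.closure_le]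
  rintro y ⟨t, ht, rfl⟩
  exact T.pow_mem ht p

theorem comm_le_frat (p : ℕ) (T : Subgroup X) : ⁅T, T⁆ ≤ frat p T := le_sup_left

theorem pow_mem_frat (p : ℕ) (T : Subgroup X) {t : X} (ht : t ∈ T) : t ^ p ∈ frat p T :=
  (le_sup_right : _ ≤ frat p T) (Subgroup.subset_closure ⟨t, ht, rfl⟩)

theorem conj_mem_of_mem_normalizer {T : Subgroup X} {g x : X}
    (hg : g ∈ Subgroup.normalizer (T : Set X)) (hx : x ∈ T) : g * x * g⁻¹ ∈ T :=
  (Subgroup.mem_normalizer_iff.mp hg x).mp hx

theorem normalizer_le_normalizer_frat (p : ℕ) (T : Subgroup X) :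
    Subgroup.normalizer (T : Set X) ≤ Subgroup.normalizer (frat p T : Set X) := by
  intro g hg
  have hmap : (frat p T).map (MulAut.conj g).toMonoidHom ≤ frat p T := by
    unfold frat
    rw [Subgroup.map_sup, Subgroup.map_commutator, MonoidHom.map_closure]
    have hT : T.map (MulAut.conj g).toMonoidHom ≤ T := by
      rintro _ ⟨x, hx, rfl⟩
      exact conj_mem_of_mem_normalizer hg hx
    refine sup_le_sup (Subgroup.commutator_mono hT hT) ?_
    rw [Subgroup.closure_le]
    rintro _ ⟨y, ⟨t, ht, rfl⟩, rfl⟩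
    apply Subgroup.subset_closure
    refine ⟨g * t * g⁻¹, conj_mem_of_mem_normalizer hg ht, ?_⟩
    simp [conj_pow]
  have hmap' : (frat p T).map (MulAut.conj g⁻¹).toMonoidHom ≤ frat p T := by
    unfold frat
    rw [Subgroup.map_sup, Subgroup.map_commutator, MonoidHom.map_closure]
    have hg' : g⁻¹ ∈ Subgroup.normalizer (T : Set X) := Subgroup.inv_mem _ hg
    have hT : T.map (MulAut.conj g⁻¹).toMonoidHom ≤ T := by
      rintro _ ⟨x, hx, rfl⟩
      exact conj_mem_of_mem_normalizer hg' hx
    refine sup_le_sup (Subgroup.commutator_mono hT hT) ?_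
    rw [Subgroup.closure_le]
    rintro _ ⟨y, ⟨t, ht, rfl⟩, rfl⟩
    apply Subgroup.subset_closure
    refine ⟨g⁻¹ * t * g⁻¹⁻¹, conj_mem_of_mem_normalizer hg' ht, ?_⟩
    have h3 := conj_pow (a := g⁻¹) (b := t) (i := p)
    simp only [MulEquiv.coe_toMonoidHom, MulAut.conj_apply]
    exact h3.symm
  rw [Subgroup.mem_normalizer_iff]
  intro x
  constructor
  · intro hx
    exact hmap ⟨x, hx, by simp⟩
  · intro hx
    have := hmap' ⟨g * x * g⁻¹, hx, rfl⟩
    simpa [mul_assoc] using this

/-- for a nontrivial `p`-group the Frattini-like subgroup is proper -/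
theorem frat_ne [Finite X] {p : ℕ} [hp : Fact p.Prime] {T : Subgroup X} (hT : IsPGroup p T)
    (hT1 : T ≠ ⊥) : frat p T ≠ T := by
  classical
  intro hfr
  obtain ⟨n, hn⟩ := IsPGroup.iff_card.mp hT
  have hn0 : n ≠ 0 := by
    intro h
    rw [h, pow_zero] at hn
    exact hT1 (Subgroup.card_eq_one.mp hn)
  obtain ⟨m, rfl⟩ := Nat.exists_eq_succ_of_ne_zero hn0
  -- a subgroup of index p in ↥T
  obtain ⟨M₀, hM₀⟩ := Sylow.exists_subgroup_card_pow_prime (G := ↥T) p
    (n := m) (by rw [hn]; exact pow_dvd_pow p (Nat.le_succ m))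
  have hidx : M₀.index = p := by
    have h1 := M₀.card_mul_index
    rw [hM₀, hn, pow_succ] at h1
    exact Nat.eq_of_mul_eq_mul_left (pow_pos hp.out.pos m) h1
  have hminfac : (Nat.card ↥T).minFac = p := by
    rw [hn]
    exact Nat.Prime.pow_minFac hp.out (Nat.succ_ne_zero m)
  haveI hnorm : M₀.Normal := Subgroup.normal_of_index_eq_minFac_card (by rw [hidx, hminfac])
  have hcardq : Nat.card (↥T ⧸ M₀) = p := by
    rw [← Subgroup.index_eq_card]; exact hidx
  -- the quotient is cyclic of order p hence commutative with exponent p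
  haveI : Fact (Nat.card (↥T ⧸ M₀)).Prime := ⟨by rw [hcardq]; exact hp.out⟩
  have hcomm : ∀ a b : ↥T ⧸ M₀, a * b = b * a := by
    haveI := isCyclic_of_prime_card (α := ↥T ⧸ M₀) (p := p) hcardq
    intro a b
    exact (IsCyclic.commGroup (α := ↥T ⧸ M₀)).mul_comm a b
  have hpow : ∀ a : ↥T ⧸ M₀, a ^ p = 1 := by
    intro a
    rw [← hcardq]
    exact pow_card_eq_one'
  -- frat p T ≤ M₀.map T.subtype
  have hle : frat p T ≤ M₀.map T.subtype := by
    unfold frat
    refine sup_le ?_ ?_
    · rw [Subgroup.commutator_le]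
      intro a ha b hb
      refine ⟨⁅(⟨a, ha⟩ : ↥T), ⟨b, hb⟩⁆, (QuotientGroup.eq_one_iff _).mp ?_, rfl⟩
      rw [commutatorElement_def]
      simp only [QuotientGroup.mk_mul, QuotientGroup.mk_inv]
      rw [hcomm (QuotientGroup.mk ⟨a, ha⟩) (QuotientGroup.mk ⟨b, hb⟩)]
      group
    · rw [Subgroup.closure_le]
      rintro y ⟨t, ht, rfl⟩
      refine ⟨(⟨t, ht⟩ : ↥T) ^ p, (QuotientGroup.eq_one_iff _).mp ?_, rfl⟩
      rw [QuotientGroup.mk_pow]
      exact hpow _
  have hlt : Nat.card ↥(M₀.map T.subtype) < Nat.card T := by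
    rw [Subgroup.card_map_of_injective T.subtype_injective, hM₀, hn]
    exact Nat.pow_lt_pow_right hp.out.one_lt (Nat.lt_succ_self m)
  have h2 : Nat.card T ≤ Nat.card ↥(M₀.map T.subtype) := by
    have h3 : T ≤ M₀.map T.subtype := fun x hx => hle (hfr.symm ▸ hx)
    exact Subgroup.card_le_of_le h3
  omega

/-- an element normalizing two subgroups normalizes their commutator -/
theorem mem_normalizer_commutator {A B : Subgroup X} {g : X}
    (hA : g ∈ Subgroup.normalizer (A : Set X)) (hB : g ∈ Subgroup.normalizer (B : Set X)) :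
    g ∈ Subgroup.normalizer ((⁅A, B⁆ : Subgroup X) : Set X) := by
  have key : ∀ h : X, h ∈ Subgroup.normalizer (A : Set X) → h ∈ Subgroup.normalizer (B : Set X) →
      (⁅A, B⁆).map (MulAut.conj h).toMonoidHom ≤ ⁅A, B⁆ := by
    intro h hA hB
    rw [Subgroup.map_commutator]
    apply Subgroup.commutator_mono
    · rintro _ ⟨x, hx, rfl⟩
      exact conj_mem_of_mem_normalizer hA hx
    · rintro _ ⟨x, hx, rfl⟩
      exact conj_mem_of_mem_normalizer hB hx
  rw [Subgroup.mem_normalizer_iff]
  intro x
  constructor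
  · intro hx
    exact key g hA hB ⟨x, hx, by simp⟩
  · intro hx
    have := key g⁻¹ (Subgroup.inv_mem _ hA) (Subgroup.inv_mem _ hB) ⟨g * x * g⁻¹, hx, rfl⟩
    simpa [mul_assoc] using this

theorem le_normalizer_commutator_of_le {A B S : Subgroup X}
    (hA : S ≤ Subgroup.normalizer (A : Set X)) (hB : S ≤ Subgroup.normalizer (B : Set X)) :
    S ≤ Subgroup.normalizer ((⁅A, B⁆ : Subgroup X) : Set X) :=
  fun _ hg => mem_normalizer_commutator (hA hg) (hB hg)

/-- **Lemma F**. A Frobenius group `KR` acts coprimely on a `p`-group `T`, `p` odd; if `K`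
centralizes every element of order dividing `p` of `C_T(R)`, then `K` centralizes `T`. -/
theorem lemmaF [Finite X] (K R : Subgroup X) (hR : R ≠ ⊥)
    (hRK : R ≤ Subgroup.normalizer (K : Set X))
    (hfpf : ∀ r ∈ R, r ≠ 1 → ∀ k ∈ K, r * k = k * r → k = 1)
    {p : ℕ} [hp : Fact p.Prime] (hp2 : p ≠ 2) :
    ∀ n : ℕ, ∀ T : Subgroup X, Nat.card T = n → IsPGroup p T →
      K ⊔ R ≤ Subgroup.normalizer (T : Set X) →
      (Nat.card T).Coprime (Nat.card ↥(K ⊔ R)) →
      (∀ x ∈ T, x ∈ Subgroup.centralizer (R : Set X) → x ^ p = 1 →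
        x ∈ Subgroup.centralizer (K : Set X)) →
      T ≤ Subgroup.centralizer (K : Set X) := by
  classical
  intro n
  induction n using Nat.strong_induction_on with
  | _ n ih =>
  intro T hn hT hAT hcop hH
  by_cases hT1 : T = ⊥
  · rw [hT1]; exact bot_le
  have hKT : K ≤ Subgroup.normalizer (T : Set X) := le_sup_left.trans hAT
  have hRT : R ≤ Subgroup.normalizer (T : Set X) := le_sup_right.trans hAT
  have hKK : K ≤ Subgroup.normalizer (K : Set X) := Subgroup.le_normalizer
  have hAK : K ⊔ R ≤ Subgroup.normalizer (K : Set X) := sup_le hKK hRK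
  have hWT : ⁅T, K⁆ ≤ T := Subgroup.le_normalizer_iff_commutator_le_left.mp hKT
  have hAW : K ⊔ R ≤ Subgroup.normalizer ((⁅T, K⁆ : Subgroup X) : Set X) :=
    le_normalizer_commutator_of_le hAT hAK
  have hcopK : (Nat.card K).Coprime (Nat.card T) := by
    have h1 : Nat.card K ∣ Nat.card ↥(K ⊔ R) := Subgroup.card_dvd_of_le le_sup_left
    exact (Nat.Coprime.coprime_dvd_right h1 hcop).symm
  haveI hTfin : Finite T := inferInstance
  haveI : Group.IsNilpotent T := hT.isNilpotent
  have hTsolv : Group.IsSolvable T := inferInstance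
  -- general inheritance
  have hsub : ∀ W : Subgroup X, W ≤ T → Nat.card W < n →
      K ⊔ R ≤ Subgroup.normalizer (W : Set X) → W ≤ Subgroup.centralizer (K : Set X) := by
    intro W hW hlt hAWn
    refine ih (Nat.card W) hlt W rfl (hT.to_le hW) hAWn ?_ ?_
    · exact Nat.Coprime.coprime_dvd_left (Subgroup.card_dvd_of_le hW) hcop
    · intro x hx; exact hH x (hW hx)
  by_cases hW : ⁅T, K⁆ = T
  · -- the main case
    have hFle : frat p T ≤ T := frat_le p T
    have hFne : frat p T ≠ T := frat_ne hT hT1
    have hFlt : Nat.card ↥(frat p T) < n := by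
      rw [← hn]
      rcases (Subgroup.card_le_of_le hFle).lt_or_eq with h | h
      · exact h
      · exact absurd (Subgroup.eq_of_le_of_card_ge hFle h.ge) hFne
    have hFK : frat p T ≤ Subgroup.centralizer (K : Set X) :=
      hsub _ hFle hFlt (hAT.trans (normalizer_le_normalizer_frat p T))
    -- three subgroups: ⁅T, frat⁆ = ⊥
    have h1 : ⁅⁅K, frat p T⁆, T⁆ = ⊥ := by
      have : ⁅K, frat p T⁆ = ⊥ := by
        rw [Subgroup.commutator_comm]
        exact Subgroup.commutator_eq_bot_iff_le_centralizer.mpr hFK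
      rw [this]; exact Subgroup.commutator_bot_left T
    have hTF : T ≤ Subgroup.normalizer (frat p T : Set X) :=
      Subgroup.le_normalizer.trans (normalizer_le_normalizer_frat p T)
    have h2 : ⁅⁅frat p T, T⁆, K⁆ = ⊥ := by
      have h3 : ⁅frat p T, T⁆ ≤ frat p T := Subgroup.le_normalizer_iff_commutator_le_left.mp hTF
      exact Subgroup.commutator_eq_bot_iff_le_centralizer.mpr (h3.trans hFK)
    have h3 : ⁅⁅T, K⁆, frat p T⁆ = ⊥ := Subgroup.commutator_commutator_eq_bot_of_rotate h1 h2
    rw [hW] at h3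
    have hTcF : T ≤ Subgroup.centralizer (frat p T : Set X) :=
      Subgroup.commutator_eq_bot_iff_le_centralizer.mp h3
    -- class two structure on ↥T
    have hCC : CommCentral ↥T := by
      intro x y z
      have h4 : ((⁅x, y⁆ : ↥T) : X) ∈ frat p T := by
        apply comm_le_frat p T
        have : ((⁅x, y⁆ : ↥T) : X) = ⁅(x : X), (y : X)⁆ := by
          simp [commutatorElement_def]
        rw [this]
        exact Subgroup.commutator_mem_commutator x.2 y.2
      have h5 := Subgroup.mem_centralizer_iff.mp (hTcF z.2) _ h4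
      apply Subtype.ext
      simpa using h5
    -- commutators of T have order dividing p
    have hcp : ∀ x y : ↥T, ⁅y, x⁆ ^ p = 1 := by
      intro x y
      rw [← hCC.comm_pow_left]
      have h4 : ((y ^ p : ↥T) : X) ∈ frat p T := by
        have : ((y ^ p : ↥T) : X) = (y : X) ^ p := by simp
        rw [this]; exact pow_mem_frat p T y.2
      have h5 : ∀ z : ↥T, (y ^ p) * z = z * (y ^ p) := by
        intro z
        have := Subgroup.mem_centralizer_iff.mp (hTcF z.2) _ h4
        apply Subtype.ext
        simpa using this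
      rw [commutatorElement_def, h5 x]
      group
    -- every commutator [t,k] has order dividing p
    have hgen : ∀ t ∈ T, ∀ k ∈ K, ⁅t, k⁆ ^ p = 1 := by
      intro t ht k hk
      have hkt : k * t * k⁻¹ ∈ T := conj_mem_of_mem_normalizer (hKT hk) ht
      have e : ⁅t, k⁆ = t * (k * t * k⁻¹)⁻¹ := by
        rw [commutatorElement_def]; group
      have h6 := hCC.mul_pow_prime_eq hp.out hp2 (⟨t, ht⟩ : ↥T) (⟨k * t * k⁻¹, hkt⟩ : ↥T)⁻¹
        (hcp _ _)
      have h7 : (t * (k * t * k⁻¹)⁻¹) ^ p = t ^ p * ((k * t * k⁻¹)⁻¹) ^ p := by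
        have := congrArg (Subtype.val) h6
        simp only [Subgroup.coe_pow, Subgroup.coe_mul, Subgroup.coe_inv] at this
        exact this
      rw [e, h7, inv_pow, conj_pow]
      have h8 : t ^ p ∈ Subgroup.centralizer (K : Set X) := hFK (pow_mem_frat p T ht)
      have h9 := Subgroup.mem_centralizer_iff.mp h8 k hk
      rw [h9]
      group
    -- T has exponent p
    have hexp : ∀ g ∈ T, g ^ p = 1 := by
      intro g hg
      have hg' : g ∈ ⁅T, K⁆ := hW.symm ▸ hg
      rw [Subgroup.commutator_def] at hg'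
      have key : ∀ (y : X) (hy : y ∈ Subgroup.closure {g | ∃ g₁ ∈ T, ∃ g₂ ∈ K, ⁅g₁, g₂⁆ = g}),
          y ∈ T ∧ y ^ p = 1 := by
        intro y hy
        induction hy using Subgroup.closure_induction with
        | mem x hx =>
          obtain ⟨t, ht, k, hk, rfl⟩ := hx
          exact ⟨hWT (Subgroup.commutator_mem_commutator ht hk), hgen t ht k hk⟩
        | one => exact ⟨T.one_mem, one_pow p⟩
        | mul x y _ _ hx hy =>
          refine ⟨T.mul_mem hx.1 hy.1, ?_⟩
          have h6 := hCC.mul_pow_prime_eq hp.out hp2 (⟨x, hx.1⟩ : ↥T) (⟨y, hy.1⟩ : ↥T) (hcp _ _)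
          have := congrArg (Subtype.val) h6
          have h7 : (x * y) ^ p = x ^ p * y ^ p := by
            simp only [Subgroup.coe_pow, Subgroup.coe_mul] at this
            exact this
          rw [h7, hx.2, hy.2, one_mul]
        | inv x _ hx =>
          exact ⟨T.inv_mem hx.1, by rw [inv_pow, hx.2, inv_one]⟩
      exact (key g hg').2
    -- hence C_T(R) ≤ C(K)
    have hCR : T ⊓ Subgroup.centralizer (R : Set X) ≤ Subgroup.centralizer (K : Set X) :=
      fun x hx => hH x hx.1 hx.2 (hexp x hx.1)
    have hCeq : T ⊓ Subgroup.centralizer ((K ⊔ R : Subgroup X) : Set X)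
        = T ⊓ Subgroup.centralizer (R : Set X) := by
      apply le_antisymm
      · exact inf_le_inf_left _ (Subgroup.centralizer_le (by
          intro x hx; exact (le_sup_right : R ≤ K ⊔ R) hx))
      · intro x hx
        refine ⟨hx.1, ?_⟩
        show x ∈ Subgroup.centralizer ((K ⊔ R : Subgroup X) : Set X)
        have hxK := hCR hx
        have hxR : x ∈ Subgroup.centralizer (R : Set X) := hx.2
        have : K ⊔ R ≤ Subgroup.centralizer ({x} : Set X) := by
          refine sup_le ?_ ?_
          · intro k hk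
            rw [Subgroup.mem_centralizer_iff]
            intro y hy
            rw [Set.mem_singleton_iff] at hy
            subst hy
            exact (Subgroup.mem_centralizer_iff.mp hxK k hk).symm
          · intro r hr
            rw [Subgroup.mem_centralizer_iff]
            intro y hy
            rw [Set.mem_singleton_iff] at hy
            subst hy
            exact (Subgroup.mem_centralizer_iff.mp hxR r hr).symm
        rw [Subgroup.mem_centralizer_iff]
        intro g hg
        have := Subgroup.mem_centralizer_iff.mp (this hg) x (Set.mem_singleton x)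
        exact this.symm
    have hform := FM.frob_formula K R hR hRK hfpf (Nat.card T) T rfl hAT hTsolv hcop
    rw [hCeq] at hform
    have hpos : 0 < Nat.card ↥(T ⊓ Subgroup.centralizer (R : Set X)) ^ Nat.card R :=
      pow_pos Nat.card_pos _
    have hcard : Nat.card T = Nat.card ↥(T ⊓ Subgroup.centralizer (K : Set X)) :=
      Nat.eq_of_mul_eq_mul_left hpos hform
    have : T ⊓ Subgroup.centralizer (K : Set X) = T :=
      Subgroup.eq_of_le_of_card_ge inf_le_left hcard.le
    rw [← this]
    exact inf_le_right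
  · -- W < T: induction
    have hWlt : Nat.card ↥(⁅T, K⁆ : Subgroup X) < n := by
      rw [← hn]
      rcases (Subgroup.card_le_of_le hWT).lt_or_eq with h | h
      · exact h
      · exact absurd (Subgroup.eq_of_le_of_card_ge hWT h.ge) hW
    have h1 := hsub _ hWT hWlt hAW
    have h2 : ⁅⁅T, K⁆, K⁆ = ⊥ := Subgroup.commutator_eq_bot_iff_le_centralizer.mpr h1
    have h3 := coprime_commutator_commutator K T hKT hcopK (Or.inr hTsolv)
    rw [h2] at h3
    exact Subgroup.commutator_eq_bot_iff_le_centralizer.mp h3.symm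

end Cfsg.Agent.Lib.Helper1.BGG
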