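import Mathlib
import Cfsg.Agent.Lib.Helper1.BGG2
import Cfsg.Agent.Lib.Helper1.BGG4
import Cfsg.Agent.Lib.Helper1.GlaubermanRepl3
import Cfsg.Agent.Lib.Helper2.BGHRows
import Cfsg.Agent.Lib.Helper3.BG12b
import Cfsg.Agent.S1400
import Cfsg.Agent.S1409
import Cfsg.Agent.S1417
import Cfsg.Agent.S1424

set_option autoImplicit false
set_option maxHeartbeats 4000000
set_option linter.unusedVariables false
set_option linter.unusedSectionVars false
set_option linter.style.longLine false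
set_option linter.unusedSimpArgs false
set_option linter.deprecated false
set_option linter.style.haveILetI false

/-!
# B&G section 13, part 5: the "ideal" endgame of Theorem 13.4 (S1428)
-/

open scoped commutatorElement Pointwise
universe u
namespace Cfsg.Agent.Lib.Helper1.BGG

open Cfsg Cfsg.Agent.Lib.Helper1 Cfsg.Agent.Lib.Helper7.BGRows

variable {G : Type u} [Group G] [Finite G]

/-! ### general lemmas -/

theorem relIndex_dvd_card_of_le_sup {B I M : Subgroup G} (hIM : I ≤ M) (hBM : B ≤ M)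
    (hIB : I ≤ Subgroup.normalizer (B : Set G)) (hM : M ≤ B ⊔ I) :
    I.relIndex M ∣ Nat.card B := by
  have hMeq : M = I ⊔ B := le_antisymm (by rw [sup_comm]; exact hM) (sup_le hIM hBM)
  have h1 := GlaubermanRepl.card_sup_mul_card_inf_of_le_normalizer I B hIB
  have h2 : Nat.card I * I.relIndex M = Nat.card M := by
    have := (I.subgroupOf M).card_mul_index
    rwa [card_subgroupOf_of_le hIM] at this
  rw [← hMeq, ← h2] at h1
  have hpos : 0 < Nat.card I := Nat.card_pos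
  have h3 : I.relIndex M * Nat.card ↥(I ⊓ B) = Nat.card B := by
    apply Nat.eq_of_mul_eq_mul_left hpos
    rw [← h1]; ring
  exact Dvd.intro _ h3

omit [Finite G] in
theorem commutator_sup_le_sup {B I : Subgroup G} (hIB : I ≤ Subgroup.normalizer (B : Set G)) :
    ⁅B ⊔ I, B ⊔ I⁆ ≤ B ⊔ ⁅I, I⁆ := by
  have hdec : ∀ x ∈ B ⊔ I, ∃ b ∈ B, ∃ i ∈ I, x = b * i := by
    intro x hx
    have h1 : x ∈ ((B : Set G) * (I : Set G)) := by
      rw [← Subgroup.coe_mul_of_right_le_normalizer_left B I hIB]; exact hx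
    obtain ⟨b, hb, i, hi, rfl⟩ := Set.mem_mul.mp h1
    exact ⟨b, hb, i, hi, rfl⟩
  have hconj : ∀ i ∈ I, ∀ b ∈ B, i * b * i⁻¹ ∈ B := fun i hi b hb =>
    (Subgroup.mem_normalizer_iff.mp (hIB hi) b).mp hb
  rw [Subgroup.commutator_le]
  intro x hx y hy
  obtain ⟨b₁, hb₁, i₁, hi₁, rfl⟩ := hdec x hx
  obtain ⟨b₂, hb₂, i₂, hi₂, rfl⟩ := hdec y hy
  have e : ⁅b₁ * i₁, b₂ * i₂⁆ =
      (b₁ * (i₁ * b₂ * i₁⁻¹)) * ⁅i₁, i₂⁆ * ((i₂ * b₁⁻¹ * i₂⁻¹) * b₂⁻¹) := by
    simp only [commutatorElement_def]; group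
  rw [e]
  have hB : B ≤ B ⊔ ⁅I, I⁆ := le_sup_left
  have hI : ⁅I, I⁆ ≤ B ⊔ ⁅I, I⁆ := le_sup_right
  exact Subgroup.mul_mem _ (Subgroup.mul_mem _ (hB (B.mul_mem hb₁ (hconj i₁ hi₁ b₂ hb₂)))
    (hI (Subgroup.commutator_mem_commutator hi₁ hi₂)))
    (hB (B.mul_mem (hconj i₂ hi₂ _ (B.inv_mem hb₁)) (B.inv_mem hb₂)))

theorem exists_generator_of_card_prime {p : ℕ} [hp : Fact p.Prime] {P : Subgroup G}
    (hP : Nat.card P = p) : ∃ y : G, y ∈ P ∧ orderOf y = p ∧ P = Subgroup.zpowers y := by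
  have hP1 : P ≠ ⊥ := by
    intro h; rw [h, Subgroup.card_bot] at hP; exact hp.out.one_lt.ne hP
  obtain ⟨⟨y, hyP⟩, hy1⟩ := (Subgroup.ne_bot_iff_exists_ne_one (H := P)).mp hP1
  have hy1' : y ≠ 1 := fun h => hy1 (Subtype.ext h)
  have hd : orderOf y ∣ p := hP ▸ Subgroup.orderOf_dvd_natCard P hyP
  have hy : orderOf y = p := by
    rcases (Nat.dvd_prime hp.out).mp hd with h | h
    · exact absurd (orderOf_eq_one_iff.mp h) hy1'
    · exact h
  refine ⟨y, hyP, hy, ?_⟩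
  symm
  apply Subgroup.eq_of_le_of_card_ge (by rw [Subgroup.zpowers_le]; exact hyP)
  rw [Nat.card_zpowers, hy, hP]

theorem isElementaryAbelian_of_card_prime {p : ℕ} [hp : Fact p.Prime] {P : Subgroup G}
    (hP : Nat.card P = p) : IsElementaryAbelian p P := by
  obtain ⟨y, hyP, hy, hPy⟩ := exists_generator_of_card_prime hP
  have hyp : y ^ p = 1 := by rw [← hy]; exact pow_orderOf_eq_one y
  rw [hPy]
  refine ⟨⟨⟨?_⟩⟩, ?_⟩
  · rintro ⟨a, ha⟩ ⟨b, hb⟩
    apply Subtype.ext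
    obtain ⟨i, rfl⟩ := Subgroup.mem_zpowers_iff.mp ha
    obtain ⟨j, rfl⟩ := Subgroup.mem_zpowers_iff.mp hb
    show y ^ i * y ^ j = y ^ j * y ^ i
    rw [← zpow_add, ← zpow_add, add_comm]
  · intro a ha
    obtain ⟨i, rfl⟩ := Subgroup.mem_zpowers_iff.mp ha
    rw [← zpow_natCast, ← zpow_mul, mul_comm, zpow_mul, zpow_natCast, hyp, one_zpow]

theorem ne_two_of_dvd_card (hG : IsMinSimpleOddOrder G) {s : ℕ} {X : Subgroup G}
    (h : s ∣ Nat.card X) : s ≠ 2 := by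
  intro h2
  have h1 : s ∣ Nat.card G := h.trans (Subgroup.card_subgroup_dvd_card X)
  rw [h2] at h1
  have h3 := hG.1
  rw [Nat.odd_iff] at h3
  omega

theorem coprime_card_of_not_dvd {q : ℕ} [hq : Fact q.Prime] {K B : Subgroup G} (hK : IsPGroup q K)
    (h : ¬ q ∣ Nat.card B) : (Nat.card K).Coprime (Nat.card B) := by
  obtain ⟨a, ha⟩ := IsPGroup.iff_card.mp hK
  rw [ha]
  exact Nat.Coprime.pow_left a ((Nat.Prime.coprime_iff_not_dvd hq.out).mpr h)

theorem isPGroup_of_card_prime {p : ℕ} [hp : Fact p.Prime] {P : Subgroup G}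
    (hP : Nat.card P = p) : IsPGroup p P := IsPGroup.of_card (n := 1) (by rw [hP, pow_one])

theorem ne_bot_of_card_prime {p : ℕ} [hp : Fact p.Prime] {P : Subgroup G}
    (hP : Nat.card P = p) : P ≠ ⊥ := by
  intro h; rw [h, Subgroup.card_bot] at hP; exact hp.out.one_lt.ne hP

/-- an ideal prime: the bound `p³ ≤ |B|` for a strict elementary overgroup of an `E_{p²}` -/
theorem cube_le_card_of_lt {p : ℕ} [hp : Fact p.Prime] {A B : Subgroup G}
    (hA2 : Nat.card A = p ^ 2) (hBe : IsElementaryAbelian p B) (hAB : A < B) :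
    p ^ (2 + 1) ≤ Nat.card B := by
  have hpp := hp.out
  have hBp : IsPGroup p B := BG9.isPGroup_of_isElementaryAbelian hBe
  obtain ⟨k, hk⟩ := IsPGroup.iff_card.mp hBp
  have hlt : Nat.card A < Nat.card B := Helper3.BG10.card_lt_of_lt hAB
  rw [hA2, hk] at hlt
  have hk3 : 3 ≤ k := by
    by_contra hcon
    push Not at hcon
    have : p ^ k ≤ p ^ 2 := Nat.pow_le_pow_right hpp.pos (by omega)
    omega
  rw [hk]; exact Nat.pow_le_pow_right hpp.pos hk3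

/-- `r ∈ τ₁(H)` passes to `M = B (M ∩ H)` when `B ⊴ M` is an `r'`-group -/
theorem tau1_of_le_sup (hG : IsMinSimpleOddOrder G) {M H B : Subgroup G} {r : ℕ}
    [hr : Fact r.Prime] (hBM : B ≤ M) (hMB : M ≤ Subgroup.normalizer (B : Set G))
    (hD1 : M ≤ B ⊔ (M ⊓ H)) (hrB : ¬ r ∣ Nat.card B) (hrσ : r ∉ sigma M)
    (hrM : r ∣ Nat.card M) (hr1 : r ∈ tau1 H) : r ∈ tau1 M := by
  classical
  have hrr := hr.out
  obtain ⟨I, hI⟩ : ∃ I, I = M ⊓ H := ⟨_, rfl⟩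
  rw [← hI] at hD1
  have hIM : I ≤ M := hI ▸ inf_le_left
  have hIH : I ≤ H := hI ▸ inf_le_right
  have hIB : I ≤ Subgroup.normalizer (B : Set G) := hIM.trans hMB
  refine ⟨hrr, hrσ, hrM, ?_, ?_⟩
  · intro hd
    have h1 : ⁅M, M⁆ ≤ B ⊔ ⁅I, I⁆ :=
      (Subgroup.commutator_mono hD1 hD1).trans (commutator_sup_le_sup hIB)
    have hII : ⁅I, I⁆ ≤ I := Subgroup.commutator_le_self I
    have h2 := GlaubermanRepl.card_sup_mul_card_inf_of_le_normalizer ⁅I, I⁆ B (hII.trans hIB)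
    have h3 : r ∣ Nat.card ↥(⁅I, I⁆ ⊔ B) := by
      rw [sup_comm]; exact hd.trans (Subgroup.card_dvd_of_le h1)
    have h4 : r ∣ Nat.card ↥⁅I, I⁆ * Nat.card B := by
      rw [← h2]; exact Dvd.dvd.mul_right h3 _
    rcases (Nat.Prime.dvd_mul hrr).mp h4 with h | h
    · exact hr1.2.2.2.1 (h.trans (Subgroup.card_dvd_of_le (Subgroup.commutator_mono hIH hIH)))
    · exact hrB h
  · by_contra hrk
    obtain ⟨E, hEM, hEe, hE2⟩ := BG9.exists_elementary_of_not_pRankLE hrr hrk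
    have hEp := BG9.isPGroup_of_isElementaryAbelian hEe
    obtain ⟨S, hS, -⟩ := BT.exists_isMaxP_ge (p := r) (Y := ⊥) (H := I) IsPGroup.of_bot bot_le
    obtain ⟨Sy, hSy⟩ := hS.exists_sylow
    have hidx1 : ¬ r ∣ S.relIndex I := by
      unfold Subgroup.relIndex
      rw [← hSy, subgroupOf_map_subtype']
      exact Sy.not_dvd_index
    have hidx2 : ¬ r ∣ I.relIndex M := fun h =>
      hrB (h.trans (relIndex_dvd_card_of_le_sup hIM hBM hIB hD1))
    have hidx : ¬ r ∣ S.relIndex M := by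
      rw [← Subgroup.relIndex_mul_relIndex S I M hS.1 hIM]
      intro h
      rcases (Nat.Prime.dvd_mul hrr).mp h with h | h
      · exact hidx1 h
      · exact hidx2 h
    have hSM : BG8.IsMaxP r S M := isMaxP_of_not_dvd_relIndex (hS.1.trans hIM) hS.2.1 hidx
    obtain ⟨m, hm, hEm⟩ := BT.exists_cj_ge hSM hEp hEM
    have h1 : BG7.cj m⁻¹ E ≤ S := by
      have := BG7.cj_mono (k := m⁻¹) hEm; rwa [BG7.cj_inv_cj] at this
    refine BG9.not_pRankLE_of_elementary hrr (h1.trans (hS.1.trans hIH))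
      (BG9.isElementaryAbelian_cj m⁻¹ hEe) ?_ hr1.2.2.2.2
    rw [BG7.card_cj]; exact hE2

/-! ### (F4): no `E_{p²}` centralizes `R` -/

theorem no_sq_centralizer (hG : IsMinSimpleOddOrder G) {H : Subgroup G} (hH : IsCoatom H)
    {p r : ℕ} [hp : Fact p.Prime] [hr : Fact r.Prime] (hpi : IsIdealPrime p G) {A R : Subgroup G}
    (hAe : IsElementaryAbelian p A) (hA2 : Nat.card A = p ^ 2) (hAH : A ≤ H)
    (hR : Nat.card R = r) (hAR : A ≤ Subgroup.centralizer (R : Set G)) (hr1 : r ∈ tau1 H) :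
    False := by
  have hpp := hp.out
  have hAp : IsPGroup p A := BG9.isPGroup_of_isElementaryAbelian hAe
  obtain ⟨S, hAS⟩ := hAp.exists_le_sylow
  obtain ⟨B, hBS, hBe, hAB⟩ := hpi.2.2 S A hAS hAe hA2
  have hBp : IsPGroup p B := BG9.isPGroup_of_isElementaryAbelian hBe
  have hB3 : p ^ (2 + 1) ≤ Nat.card B := cube_le_card_of_lt hA2 hBe hAB
  have hBU : InUniqueMaximal B := BT.inUniqueMaximal_of_elementary_cube hG hpp hBe hB3
  have hBC : B ≤ Subgroup.centralizer (A : Set G) :=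
    Subgroup.le_centralizer_iff.mp (BG9.le_centralizer_of_isElementaryAbelian hBe hAB.le)
  have hAU : InUniqueMaximal A :=
    Cfsg.Agent.S1400.result hG p B A hBp hBe.1
      (BG9.not_pRankLE_of_elementary hpp le_rfl hBe hB3) hBU hAp
      (BG9.not_isCyclic_of_elementary hpp le_rfl hAe (by rw [hA2]))
      (BG9.not_pRankLE_of_elementary hpp hBC hBe hB3)
  obtain ⟨M₀, ⟨hM₀, hAM₀⟩, hu⟩ := hAU
  have hHM₀ : H = M₀ := hu H ⟨hH, hAH⟩
  have hR1 : R ≠ ⊥ := ne_bot_of_card_prime hR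
  have hRtop : R ≠ ⊤ := BG7.pgroup_ne_top hG (isPGroup_of_card_prime hR)
  have hNtop := BG7.normalizer_ne_top hG hR1 hRtop
  have hNR : Subgroup.normalizer (R : Set G) ≤ H := by
    have := BG9.le_of_inUniqueMaximal (fun L hL => hu L hL)
      (hAR.trans (Subgroup.centralizer_le_normalizer _)) hNtop
    rw [hHM₀]; exact this
  obtain ⟨-, hrσ, -, -, hrank⟩ := hr1
  exact (BT.s1409 hG hH hrσ hR hNR).1.2 hrank

/-! ### the `H`-side: `N(K) ≤ H` -/

theorem normalizer_le_of_ideal (hG : IsMinSimpleOddOrder G) {H : Subgroup G} (hH : IsCoatom H)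
    {p r q : ℕ} [hp : Fact p.Prime] [hr : Fact r.Prime] [hq : Fact q.Prime]
    (hpi : IsIdealPrime p G) (hpH : p ∈ sigma H)
    {P R K : Subgroup G} (hP : Nat.card P = p) (hPH : P ≤ H)
    (hR : Nat.card R = r) (hRH : R ≤ H) (hRP : R ≤ Subgroup.centralizer (P : Set G))
    (hr1 : r ∈ tau1 H) (hK1 : K ≠ ⊥) (hKq : IsPGroup q K) (hqα : q ∉ alpha H) (hpq : p ≠ q)
    (hqr : q ≠ r) (hKH : K ≤ H) (hKP : K ≤ Subgroup.centralizer (P : Set G))
    (hRK : R ≤ Subgroup.normalizer (K : Set G))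
    (hfpf : ∀ x ∈ R, x ≠ 1 → ∀ k ∈ K, x * k = k * x → k = 1) :
    Subgroup.normalizer (K : Set G) ≤ H := by
  classical
  have hpp := hp.out
  have hHtop : H ≠ ⊤ := hH.1
  haveI hHs : Group.IsSolvable ↥H := BG7.isSolvable_of_ne_top hG hHtop
  have hPp : IsPGroup p P := isPGroup_of_card_prime hP
  have hRr : IsPGroup r R := isPGroup_of_card_prime hR
  have hrσ : r ∉ sigma H := hr1.2.1
  have hpr : p ≠ r := fun h => hrσ (h ▸ hpH)
  have hp2 : p ≠ 2 := ne_two_of_dvd_card hG (X := P) (by rw [hP])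
  have hR1 : R ≠ ⊥ := ne_bot_of_card_prime hR
  -- `p ∈ α(H)`
  obtain ⟨T₀, hT₀, -⟩ := BT.exists_isMaxP_ge (p := p) (Y := ⊥) (H := H) IsPGroup.of_bot bot_le
  obtain ⟨-, hT₀top, -⟩ := BT.sigma_sylow_le_commutator hG hH hpH hT₀
  have hrk : ∀ {T : Subgroup G}, BG8.IsMaxP p T ⊤ → ¬ PRankLE p 2 ↥T := by
    intro T hT h
    obtain ⟨R₀, hR₀⟩ := hT.exists_sylow_top
    rw [← hR₀] at h
    exact hpi.2.1 (BG9.pRankLE_of_sylow R₀ h)
  have hpα : p ∈ alpha H := by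
    refine ⟨hpp, ?_⟩
    obtain ⟨E, hET, hEe, hE3⟩ := BG9.exists_elementary_of_not_pRankLE hpp (hrk hT₀top)
    exact BG9.not_pRankLE_of_elementary hpp (hET.trans hT₀.1) hEe hE3
  -- the acting group `KR`
  have hdisj : Disjoint K R := Subgroup.disjoint_of_coprime_natCard (coprime_of_pgroups hqr hKq hRr)
  have hcardA : Nat.card ↥(K ⊔ R) = Nat.card K * Nat.card R := BGF.card_sup_eq_mul hRK hdisj
  have hAprimes : ∀ t : ℕ, t.Prime → t ∣ Nat.card ↥(K ⊔ R) → t = q ∨ t = r := by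
    intro t ht htd
    rw [hcardA] at htd
    rcases (Nat.Prime.dvd_mul ht).mp htd with h | h
    · exact Or.inl (prime_eq_of_dvd_card_pgroup hKq ht h)
    · exact Or.inr (prime_eq_of_dvd_card_pgroup hRr ht h)
  have hrα : r ∉ alpha H := fun h => hrσ (BT.alpha_subset_sigma hG hH h)
  obtain ⟨N, hN⟩ : ∃ N, N = alphaCore H := ⟨_, rfl⟩
  have hNH : N ≤ H := hN ▸ Helper3.BG12.alphaCore_le H
  have hHN : H ≤ Subgroup.normalizer (N : Set G) := hN ▸ Helper3.BG12.le_normalizer_alphaCore H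
  have hNpi : ∀ t : ℕ, t.Prime → t ∣ Nat.card N → t ∈ alpha H := by
    rw [hN]; exact BG7.piCoreOf_pi (alpha H) H
  have hAH : K ⊔ R ≤ H := sup_le hKH hRH
  have hcopAN : (Nat.card ↥(K ⊔ R)).Coprime (Nat.card N) := by
    apply Nat.coprime_of_dvd
    intro t ht htA htN
    rcases hAprimes t ht htA with h | h
    · exact hqα (h ▸ hNpi t ht htN)
    · exact hrα (h ▸ hNpi t ht htN)
  haveI hNs : Group.IsSolvable ↥N := isSolvable_of_le hNH
  have hAP : K ⊔ R ≤ Subgroup.centralizer (P : Set G) := sup_le hKP hRP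
  have hPN : P ≤ N := hN ▸ Helper3.BG12.le_alphaCore_of_isPGroup hG hH hpα hPH hPp
  obtain ⟨Sy, hPSy, hASy⟩ := coprime_invariant_le_sylow (K ⊔ R) N (hAH.trans hHN) hcopAN
    (Or.inr hNs) p P hPN hPp (hAP.trans (Subgroup.centralizer_le_normalizer _))
  obtain ⟨T, hT⟩ : ∃ T, T = (Sy : Subgroup ↥N).map N.subtype := ⟨_, rfl⟩
  rw [← hT] at hPSy hASy
  have hTN : BG8.IsMaxP p T N := hT ▸ BG8.isMaxP_of_sylow Sy
  have hTH : BG8.IsMaxP p T H := by
    obtain ⟨T₂, hT₂, hTT₂⟩ := BT.exists_isMaxP_ge (p := p) (H := H) hTN.2.1 (hTN.1.trans hNH)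
    have hT₂N : T₂ ≤ N := hN ▸ Helper3.BG12.le_alphaCore_of_isPGroup hG hH hpα hT₂.1 hT₂.2.1
    have : T₂ = T := hTN.2.2 T₂ hT₂.2.1 hTT₂ hT₂N
    rw [← this]; exact hT₂
  obtain ⟨-, hTtop, -⟩ := BT.sigma_sylow_le_commutator hG hH hpH hTH
  have hTp : IsPGroup p T := hTH.2.1
  have hr2T : ¬ PRankLE p 2 ↥T := hrk hTtop
  have hr1T : ¬ PRankLE p 1 ↥T := BG8.not_pRankLE_mono hpp.pos (by norm_num) hr2T
  obtain ⟨y, hyP, hy, hPy⟩ := exists_generator_of_card_prime hP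
  obtain ⟨E, hET, hEe, hE2, hyE⟩ := Helper3.BG12.exists_sq_mem hTp hr1T (hPSy hyP) hy
  obtain ⟨R₀, hR₀⟩ := hTtop.exists_sylow_top
  obtain ⟨B, hBR, hBe, hEB⟩ := hpi.2.2 R₀ E (hR₀ ▸ hET) hEe hE2
  have hBT : B ≤ T := hR₀ ▸ hBR
  have hB3 : p ^ (2 + 1) ≤ Nat.card B := cube_le_card_of_lt hE2 hBe hEB
  have hPE : P ≤ E := by rw [hPy, Subgroup.zpowers_le]; exact hyE
  have hPB : P ≤ B := hPE.trans hEB.le
  have hBCP : B ≤ Subgroup.centralizer (P : Set G) :=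
    Subgroup.le_centralizer_iff.mp (BG9.le_centralizer_of_isElementaryAbelian hBe hPB)
  have hBU := BT.inUniqueMaximal_of_elementary_cube hG hpp hBe hB3
  -- `T₁ = C_T(P)`
  obtain ⟨T₁, hT₁⟩ : ∃ T₁, T₁ = T ⊓ Subgroup.centralizer (P : Set G) := ⟨_, rfl⟩
  have hT₁T : T₁ ≤ T := hT₁ ▸ inf_le_left
  have hT₁p : IsPGroup p T₁ := hTp.to_le hT₁T
  have hAT₁ : K ⊔ R ≤ Subgroup.normalizer (T₁ : Set G) := by
    rw [hT₁]
    exact le_normalizer_inf hASy (hAP.trans Subgroup.le_normalizer)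
  have hcop₁ : (Nat.card T₁).Coprime (Nat.card ↥(K ⊔ R)) := by
    rw [hcardA]
    exact Nat.Coprime.mul_right (coprime_of_pgroups hpq hT₁p hKq) (coprime_of_pgroups hpr hT₁p hRr)
  have hPe : IsElementaryAbelian p P := isElementaryAbelian_of_card_prime hP
  have hPCR : P ≤ Subgroup.centralizer (R : Set G) := Subgroup.le_centralizer_iff.mp hRP
  have hyp : ∀ x ∈ T₁, x ∈ Subgroup.centralizer (R : Set G) → x ^ p = 1 →
      x ∈ Subgroup.centralizer (K : Set G) := by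
    intro x hx hxR hxp
    rw [hT₁] at hx
    by_cases hxP : x ∈ P
    · exact (Subgroup.le_centralizer_iff.mp hKP) hxP
    · exfalso
      obtain ⟨h1, h2⟩ := BT.elementary_sup_zpowers hPe hx.2 hxp hxP
      refine no_sq_centralizer hG hH hpi h1 (by rw [h2, hP]; ring) ?_ hR ?_ hr1
      · exact sup_le hPH (by rw [Subgroup.zpowers_le]; exact hTH.1 hx.1)
      · exact sup_le hPCR (by rw [Subgroup.zpowers_le]; exact hxR)
  have hT₁K := lemmaF K R hR1 hRK hfpf hp2 (Nat.card T₁) T₁ rfl hT₁p hAT₁ hcop₁ hyp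
  have hBK : B ≤ Subgroup.normalizer (K : Set G) :=
    ((le_inf hBT hBCP).trans hT₁.ge).trans (hT₁K.trans (Subgroup.centralizer_le_normalizer _))
  obtain ⟨M₀, ⟨hM₀, hBM₀⟩, hu⟩ := hBU
  have hHM₀ : H = M₀ := hu H ⟨hH, hBT.trans hTH.1⟩
  have hKtop : K ≠ ⊤ := BG7.pgroup_ne_top hG hKq
  have := BG9.le_of_inUniqueMaximal (fun L hL => hu L hL) hBK
    (BG7.normalizer_ne_top hG hK1 hKtop)
  rw [hHM₀]; exact this

/-! ### `S1424` step: a Sylow `q`-subgroup of `G` inside `M ∩ H` -/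

theorem sylow_both (hG : IsMinSimpleOddOrder G) {M H : Subgroup G} (hM : IsCoatom M)
    (hH : IsCoatom H) (hne : ∀ g : G, H ≠ BG7.cj g M) {p q : ℕ} [hp : Fact p.Prime]
    [hq : Fact q.Prime] (hp1 : p ∈ tau1 M) (hpH : p ∈ sigma H) {P K : Subgroup G}
    (hP : Nat.card P = p) (hPM : P ≤ M) (hPH : P ≤ H) (hqσ : q ∈ sigma M) (hK1 : K ≠ ⊥)
    (hKq : IsPGroup q K) (hKM : K ≤ M) (hNK : Subgroup.normalizer (K : Set G) ≤ H) :
    ∃ S' : Subgroup G, K ≤ S' ∧ BG8.IsMaxP q S' ⊤ ∧ Subgroup.normalizer (S' : Set G) ≤ M ∧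
      Subgroup.normalizer (S' : Set G) ≤ H := by
  classical
  have hqq := hq.out
  have hHM : H ≠ M := fun h => hne 1 (by rw [BG7.cj_one]; exact h)
  have hKH : K ≤ H := Subgroup.le_normalizer.trans hNK
  have hPp : IsPGroup p P := isPGroup_of_card_prime hP
  obtain ⟨S', hS'I, hKS'⟩ := BT.exists_isMaxP_ge (p := q) (H := M ⊓ H) hKq (le_inf hKM hKH)
  obtain ⟨S, hS⟩ := hS'I.exists_sylow
  have h24 := Cfsg.Agent.S1424.result hG M hM q hqσ K hKq hK1 hKM H hH hHM hNK S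
    (by rw [hS]; exact hKS')
  rw [hS] at h24
  obtain ⟨-, hNS'M, hidx⟩ := h24
  have hS'M : S' ≤ M := hS'I.1.trans inf_le_left
  have hS'H : S' ≤ H := hS'I.1.trans inf_le_right
  have hS'q : IsPGroup q S' := hS'I.2.1
  have hS'Hmax : BG8.IsMaxP q S' H := isMaxP_of_not_dvd_relIndex hS'H hS'q hidx
  have hq2 : q ≠ 2 := ne_two_of_dvd_card hG (BG8.dvd_card_of_isPGroup_ne_bot hKq hK1)
  by_cases hr1 : PRankLE q 1 ↥H
  · have hcyc : IsCyclic ↥S' := Helper7.BGB.isCyclic_of_pRankLE_one hq2 hS'H hS'q hr1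
    have hNS'H : Subgroup.normalizer (S' : Set G) ≤ H :=
      (normalizer_le_of_isCyclic hcyc hKS').trans hNK
    exact ⟨S', hKS', hS'Hmax.top_of_normalizer_le hNS'H, hNS'M, hNS'H⟩
  · by_cases hqσH : q ∈ sigma H
    · obtain ⟨-, htop, hN⟩ := BT.sigma_sylow_le_commutator hG hH hqσH hS'Hmax
      exact ⟨S', hKS', htop, hNS'M, hN⟩
    · exfalso
      by_cases hr2 : PRankLE q 2 ↥H
      · have hq2H : q ∈ tau2 H := ⟨hqq, hqσH, hr2, hr1⟩
        obtain ⟨A₀, hA₀H, hA₀e, hA₀2⟩ := Helper7.BGD.exists_sq_of_rank hr2 hr1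
        have hA₀p := BG9.isPGroup_of_isElementaryAbelian hA₀e
        obtain ⟨m, hm, hA₀m⟩ := BT.exists_cj_ge hS'Hmax hA₀p hA₀H
        obtain ⟨A, hA⟩ : ∃ A, A = BG7.cj m⁻¹ A₀ := ⟨_, rfl⟩
        have hAS' : A ≤ S' := by
          rw [hA]
          have := BG7.cj_mono (k := m⁻¹) hA₀m; rwa [BG7.cj_inv_cj] at this
        have hAe : IsElementaryAbelian q A := hA ▸ BG9.isElementaryAbelian_cj m⁻¹ hA₀e
        have hA2 : Nat.card A = q ^ 2 := by rw [hA, BG7.card_cj, hA₀2]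
        have h17 := Cfsg.Agent.S1417.result hG H hH q hq2H A ⟨hAS'.trans hS'H, hAe, hA2⟩
        have hbot : sigmaCore H ⊓ Subgroup.centralizer (A : Set G) = ⊥ := h17.2.2.2.1
        have hPσH : P ≤ sigmaCore H := Helper3.BG12.le_sigmaCore_of_isPGroup hG hH hpH hPH hPp
        have hS'σ : S' ≤ sigmaCore M := Helper3.BG12.le_sigmaCore_of_isPGroup hG hM hqσ hS'M hS'q
        have hcomm := comm_eq_bot hG Helper2.BGH.row1424 hM hH hp1.2.1 hp1.2.2.2.2 hPM hPH hPp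
          (Or.inl hpH)
        have hle : sigmaCore M ⊓ H ≤ Subgroup.centralizer (P : Set G) :=
          Subgroup.commutator_eq_bot_iff_le_centralizer.mp hcomm
        have hAP : A ≤ Subgroup.centralizer (P : Set G) :=
          (le_inf (hAS'.trans hS'σ) (hAS'.trans hS'H)).trans hle
        have hPA : P ≤ Subgroup.centralizer (A : Set G) := Subgroup.le_centralizer_iff.mp hAP
        have hPbot : P ≤ ⊥ := hbot ▸ le_inf hPσH hPA
        have : Nat.card P = 1 := by rw [le_bot_iff.mp hPbot, Subgroup.card_bot]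
        rw [hP] at this
        exact hp.out.one_lt.ne' this
      · exact hqσH (BT.alpha_subset_sigma hG hH ⟨hqq, hr2⟩)

/-! ### the endgame -/

theorem ideal_endgame (hG : IsMinSimpleOddOrder G) {M H : Subgroup G} (hM : IsCoatom M)
    (hH : IsCoatom H) (hne : ∀ g : G, H ≠ BG7.cj g M) {p r q : ℕ} [hp : Fact p.Prime]
    [hr : Fact r.Prime] [hq : Fact q.Prime]
    (hp1 : p ∈ tau1 M) (hpi : IsIdealPrime p G) (hpH : p ∈ sigma H)
    {P R K : Subgroup G} (hP : Nat.card P = p) (hPM : P ≤ M) (hPH : P ≤ H)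
    (hCP : Subgroup.centralizer (P : Set G) ≤ H)
    (hR : Nat.card R = r) (hRM : R ≤ M) (hRH : R ≤ H)
    (hRP : R ≤ Subgroup.centralizer (P : Set G))
    (hrσ : r ∉ sigma M) (hr1 : r ∈ tau1 H)
    (hK1 : K ≠ ⊥) (hKq : IsPGroup q K) (hqσ : q ∈ sigma M) (hKM : K ≤ M)
    (hKP : K ≤ Subgroup.centralizer (P : Set G)) (hRK : R ≤ Subgroup.normalizer (K : Set G))
    (hfpf : ∀ x ∈ R, x ≠ 1 → ∀ k ∈ K, x * k = k * x → k = 1)
    (hD1 : ∀ S' : Subgroup G, K ≤ S' → BG8.IsMaxP q S' ⊤ →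
      Subgroup.normalizer (S' : Set G) ≤ M → Subgroup.normalizer (S' : Set G) ≤ H →
      q ∈ sigma H → q ∉ alpha M → M ≤ piCoreOf (beta M) M ⊔ (M ⊓ H))
    (hswap : q ∉ alpha M → r ∈ tau1 M →
      alphaCore M ⊓ Subgroup.centralizer (R : Set G) ≤ Subgroup.centralizer (P : Set G)) :
    False := by
  classical
  have hpp := hp.out
  have hrr := hr.out
  have hqq := hq.out
  have hKH : K ≤ H := hKP.trans hCP
  have hpσM : p ∉ sigma M := hp1.2.1
  have hpq : p ≠ q := fun h => hpσM (h ▸ hqσ)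
  have hqr : q ≠ r := fun h => hrσ (h ▸ hqσ)
  have hqαH : q ∉ alpha H := fun h => Helper2.BGH.sigma_alpha_disjoint hG hM hH hne hqσ h
  have hNK := normalizer_le_of_ideal hG hH hpi hpH hP hPH hR hRH hRP hr1 hK1 hKq hqαH hpq hqr hKH
    hKP hRK hfpf
  obtain ⟨S', hKS', hS'top, hNS'M, hNS'H⟩ :=
    sylow_both hG hM hH hne hp1 hpH hP hPM hPH hqσ hK1 hKq hKM hNK
  have hS'1 : S' ≠ ⊥ := fun h => hK1 (le_bot_iff.mp (h ▸ hKS'))
  have hS'H : S' ≤ H := Subgroup.le_normalizer.trans hNS'H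
  have hS'M : S' ≤ M := Subgroup.le_normalizer.trans hNS'M
  have hqσH : q ∈ sigma H :=
    Helper3.BG12.mem_sigma_of_isMaxP (hS'top.mono hS'H le_top) hS'1 hNS'H
  have hne' : ∀ g : G, M ≠ BG7.cj g H := by
    intro g h
    apply hne g⁻¹
    rw [h, BG7.cj_inv_cj]
  have hqαM : q ∉ alpha M := fun h => Helper2.BGH.sigma_alpha_disjoint hG hH hM hne' hqσH h
  have D1 := hD1 S' hKS' hS'top hNS'M hNS'H hqσH hqαM
  have D1' : M ≤ alphaCore M ⊔ (M ⊓ H) :=
    D1.trans (sup_le_sup_right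
      (show piCoreOf (beta M) M ≤ alphaCore M from BG8.piCoreOf_mono (fun t ht => ht.1) M) _)
  obtain ⟨B, hB⟩ : ∃ B, B = alphaCore M := ⟨_, rfl⟩
  rw [← hB] at D1' hswap
  have hBM : B ≤ M := hB ▸ Helper3.BG12.alphaCore_le M
  have hMB : M ≤ Subgroup.normalizer (B : Set G) := hB ▸ Helper3.BG12.le_normalizer_alphaCore M
  have hBpi : ∀ t : ℕ, t.Prime → t ∣ Nat.card B → t ∈ alpha M := by
    rw [hB]; exact BG7.piCoreOf_pi (alpha M) M
  have hrαM : r ∉ alpha M := fun h => hrσ (BT.alpha_subset_sigma hG hM h)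
  have hB1 : B ≠ ⊥ := by
    intro h
    rw [h, bot_sup_eq] at D1'
    have hMH : M ≤ H := D1'.trans inf_le_right
    have := BG8.eq_of_coatom_le hM hMH hH.1
    exact hne 1 (by rw [BG7.cj_one]; exact this)
  have hrB : ¬ r ∣ Nat.card B := fun h => hrαM (hBpi r hrr h)
  have hqB : ¬ q ∣ Nat.card B := fun h => hqαM (hBpi q hqq h)
  have hrM : r ∣ Nat.card M := by
    rw [← hR]; exact Subgroup.card_dvd_of_le hRM
  have hrτ : r ∈ tau1 M := tau1_of_le_sup hG hBM hMB D1' hrB hrσ hrM hr1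
  have hsw := hswap hqαM hrτ
  -- a prime of `B`
  obtain ⟨s, hs, hsB⟩ : ∃ s : ℕ, s.Prime ∧ s ∣ Nat.card B := by
    apply Nat.exists_prime_and_dvd
    intro h1
    exact hB1 (Subgroup.card_eq_one.mp h1)
  haveI hsF : Fact s.Prime := ⟨hs⟩
  have hsα : s ∈ alpha M := hBpi s hs hsB
  have hsσ : s ∈ sigma M := BT.alpha_subset_sigma hG hM hsα
  have hs2 : s ≠ 2 := ne_two_of_dvd_card hG hsB
  have hsq : s ≠ q := fun h => hqB (h ▸ hsB)
  have hsr : s ≠ r := fun h => hrB (h ▸ hsB)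
  -- the acting group
  have hRr : IsPGroup r R := isPGroup_of_card_prime hR
  have hR1 : R ≠ ⊥ := ne_bot_of_card_prime hR
  have hdisj : Disjoint K R := Subgroup.disjoint_of_coprime_natCard (coprime_of_pgroups hqr hKq hRr)
  have hcardA : Nat.card ↥(K ⊔ R) = Nat.card K * Nat.card R := BGF.card_sup_eq_mul hRK hdisj
  have hAM : K ⊔ R ≤ M := sup_le hKM hRM
  have hcopAB : (Nat.card ↥(K ⊔ R)).Coprime (Nat.card B) := by
    rw [hcardA]
    exact (Nat.Coprime.mul_right (coprime_card_of_not_dvd hKq hqB).symm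
      (coprime_card_of_not_dvd hRr hrB).symm).symm
  haveI hMs : Group.IsSolvable ↥M := BG7.isSolvable_of_ne_top hG hM.1
  haveI hBs : Group.IsSolvable ↥B := isSolvable_of_le hBM
  obtain ⟨Sy, hASy⟩ := coprime_exists_invariant_sylow (K ⊔ R) B (hAM.trans hMB) hcopAB
    (Or.inr hBs) s
  obtain ⟨T, hT⟩ : ∃ T, T = (Sy : Subgroup ↥B).map B.subtype := ⟨_, rfl⟩
  rw [← hT] at hASy
  have hTB : BG8.IsMaxP s T B := hT ▸ BG8.isMaxP_of_sylow Sy
  have hTs : IsPGroup s T := hTB.2.1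
  have hTM : BG8.IsMaxP s T M := by
    obtain ⟨T₂, hT₂, hTT₂⟩ := BT.exists_isMaxP_ge (p := s) (H := M) hTs (hTB.1.trans hBM)
    have hT₂B : T₂ ≤ B := hB ▸ Helper3.BG12.le_alphaCore_of_isPGroup hG hM hsα hT₂.1 hT₂.2.1
    have : T₂ = T := hTB.2.2 T₂ hT₂.2.1 hTT₂ hT₂B
    rw [← this]; exact hT₂
  -- an `E_{s³}` in `T`
  obtain ⟨E, hEM, hEe, hE3⟩ := BG9.exists_elementary_of_not_pRankLE hs hsα.2
  have hEp := BG9.isPGroup_of_isElementaryAbelian hEe
  obtain ⟨m, hm, hEm⟩ := BT.exists_cj_ge hTM hEp hEM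
  obtain ⟨B', hB'⟩ : ∃ B', B' = BG7.cj m⁻¹ E := ⟨_, rfl⟩
  have hB'T : B' ≤ T := by
    rw [hB']
    have := BG7.cj_mono (k := m⁻¹) hEm; rwa [BG7.cj_inv_cj] at this
  have hB'e : IsElementaryAbelian s B' := hB' ▸ BG9.isElementaryAbelian_cj m⁻¹ hEe
  have hB'3 : s ^ (2 + 1) ≤ Nat.card B' := by rw [hB', BG7.card_cj]; exact hE3
  have hB'U := BT.inUniqueMaximal_of_elementary_cube hG hs hB'e hB'3
  -- `B ∩ H` centralizes `K`
  have hKσM : K ≤ sigmaCore M := Helper3.BG12.le_sigmaCore_of_isPGroup hG hM hqσ hKM hKq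
  have hKσH : K ≤ sigmaCore H := Helper3.BG12.le_sigmaCore_of_isPGroup hG hH hqσH hKH hKq
  have hσHpi : ∀ t : ℕ, t.Prime → t ∣ Nat.card (sigmaCore H) → t ∈ sigma H :=
    (Helper7.BGA.s1350 hG H hH).1.2.1
  have hcent : B ⊓ H ≤ Subgroup.centralizer (K : Set G) := by
    apply BG8.commute_of_normalize' (N₂' := sigmaCore M ⊓ sigmaCore H)
    · exact le_normalizer_inf
        ((inf_le_left.trans hBM).trans (Helper3.BG12.le_normalizer_sigmaCore M))
        (inf_le_right.trans (Helper3.BG12.le_normalizer_sigmaCore H))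
    · exact le_inf hKσM hKσH
    · exact le_normalizer_inf (hKM.trans hMB) (hKH.trans Subgroup.le_normalizer)
    · by_contra hbot
      obtain ⟨t, ht, htd⟩ : ∃ t : ℕ, t.Prime ∧
          t ∣ Nat.card ↥((B ⊓ H) ⊓ (sigmaCore M ⊓ sigmaCore H)) := by
        apply Nat.exists_prime_and_dvd
        intro h1
        exact hbot (Subgroup.card_eq_one.mp h1)
      have h1 : t ∈ alpha M :=
        hBpi t ht (htd.trans (Subgroup.card_dvd_of_le (inf_le_left.trans inf_le_left)))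
      have h2 : t ∈ sigma H :=
        hσHpi t ht (htd.trans (Subgroup.card_dvd_of_le (inf_le_right.trans inf_le_right)))
      exact Helper2.BGH.sigma_alpha_disjoint hG hH hM hne' h2 h1
  have hcopT : (Nat.card T).Coprime (Nat.card ↥(K ⊔ R)) := by
    rw [hcardA]
    exact Nat.Coprime.mul_right (coprime_of_pgroups hsq hTs hKq) (coprime_of_pgroups hsr hTs hRr)
  have hyp : ∀ x ∈ T, x ∈ Subgroup.centralizer (R : Set G) → x ^ s = 1 →
      x ∈ Subgroup.centralizer (K : Set G) := by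
    intro x hx hxR _
    have hxB : x ∈ B := hTB.1 hx
    have hxP : x ∈ Subgroup.centralizer (P : Set G) := hsw ⟨hxB, hxR⟩
    exact hcent ⟨hxB, hCP hxP⟩
  have hTK := lemmaF K R hR1 hRK hfpf hs2 (Nat.card T) T rfl hTs hASy hcopT hyp
  have hB'H : B' ≤ H :=
    (hB'T.trans hTK).trans ((Subgroup.centralizer_le_normalizer _).trans hNK)
  obtain ⟨M₀, -, hu⟩ := hB'U
  have h1 : M = M₀ := hu M ⟨hM, hB'T.trans hTM.1⟩
  have h2 : H = M₀ := hu H ⟨hH, hB'H⟩
  exact hne 1 (by rw [BG7.cj_one, h1, h2])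

end Cfsg.Agent.Lib.Helper1.BGG
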