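import Mathlib
import Cfsg.Agent.Lib.Helper1.BGG5
import Cfsg.Agent.Lib.Helper1.CoprimeAbelian
import Cfsg.Agent.Lib.Helper1.Fitting
import Cfsg.Agent.S1414
import Cfsg.Agent.S1422

set_option autoImplicit false
set_option maxHeartbeats 4000000
set_option linter.unusedVariables false
set_option linter.unusedSectionVars false
set_option linter.style.longLine false
set_option linter.unusedSimpArgs false
set_option linter.deprecated false
set_option linter.style.haveILetI false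

/-!
# B&G section 13, part 6: assembly of Theorem 13.4 (S1428)
-/

open scoped commutatorElement Pointwise
universe u
namespace Cfsg.Agent.Lib.Helper1.BGG

open Cfsg Cfsg.Agent.Lib.Helper1 Cfsg.Agent.Lib.Helper7.BGRows

variable {G : Type u} [Group G] [Finite G]

theorem card_mul_relIndex' {I M : Subgroup G} (hIM : I ≤ M) :
    Nat.card I * I.relIndex M = Nat.card M := by
  have := (I.subgroupOf M).card_mul_index
  rwa [card_subgroupOf_of_le hIM] at this

theorem isPiHallOf_cj {π : Set ℕ} {Hn L : Subgroup G} (h : IsPiHallOf π Hn L) {x : G}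
    (hx : x ∈ Subgroup.normalizer (L : Set G)) : IsPiHallOf π (BG7.cj x Hn) L := by
  have hL : BG7.cj x L = L := BG7.cj_eq_of_mem_normalizer hx
  have hle : BG7.cj x Hn ≤ L := by rw [← hL]; exact BG7.cj_mono h.1
  refine ⟨hle, ?_, ?_⟩
  · intro p hp hd; rw [BG7.card_cj] at hd; exact h.2.1 p hp hd
  · intro p hp hpπ
    have e : (BG7.cj x Hn).relIndex L = Hn.relIndex L := by
      have h1 : Nat.card (BG7.cj x Hn) * (BG7.cj x Hn).relIndex L = Nat.card L :=
        card_mul_relIndex' hle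
      have h2 : Nat.card Hn * Hn.relIndex L = Nat.card L := card_mul_relIndex' h.1
      rw [BG7.card_cj] at h1
      exact Nat.eq_of_mul_eq_mul_left Nat.card_pos (h1.trans h2.symm)
    rw [e]; exact h.2.2 p hp hpπ

/-- **B&G 12.17(d)(1)** in the form needed: if `S'` is a Sylow `q`-subgroup of `G` inside `M`,
`q ∈ σ(M) - β(M)` and `N(S') ≤ H`, then `M = M_β (M ∩ H)`. -/
theorem d1 (hG : IsMinSimpleOddOrder G) {M H : Subgroup G} (hM : IsCoatom M) {q : ℕ}
    [hq : Fact q.Prime] {S' : Subgroup G} (hS'top : BG8.IsMaxP q S' ⊤)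
    (hNS'H : Subgroup.normalizer (S' : Set G) ≤ H) (hS'M : S' ≤ M) (hqσ : q ∈ sigma M)
    (hqβ : q ∉ beta M) : M ≤ piCoreOf (beta M) M ⊔ (M ⊓ H) := by
  classical
  have hqq := hq.out
  obtain ⟨hBHall, -, -, ⟨Hn, hHnHall, hHnnil⟩, -⟩ := Cfsg.Agent.S1414.result hG M hM
  obtain ⟨L, hL⟩ : ∃ L, L = sigmaCore M := ⟨_, rfl⟩
  rw [← hL] at hHnHall
  obtain ⟨B, hB⟩ : ∃ B, B = piCoreOf (beta M) M := ⟨_, rfl⟩
  rw [← hB] at hBHall ⊢
  have hLM : L ≤ M := hL ▸ Helper3.BG12.sigmaCore_le M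
  have hML : M ≤ Subgroup.normalizer (L : Set G) := hL ▸ Helper3.BG12.le_normalizer_sigmaCore M
  have hBM : B ≤ M := hBHall.1
  have hMB : M ≤ Subgroup.normalizer (B : Set G) := hB ▸ BG7.le_normalizer_piCoreOf _ _
  haveI hMs : Group.IsSolvable ↥M := BG7.isSolvable_of_ne_top hG hM.1
  haveI hLs : Group.IsSolvable ↥L := isSolvable_of_le hLM
  have hS'q : IsPGroup q S' := hS'top.2.1
  have hS'L : S' ≤ L := hL ▸ Helper3.BG12.le_sigmaCore_of_isPGroup hG hM hqσ hS'M hS'q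
  have hidxβ : ∀ {X : Subgroup G}, IsPiHallOf {t | t.Prime ∧ t ∉ beta M} X L →
      ∀ t : ℕ, t.Prime → t ∣ X.relIndex L → t ∈ beta M := by
    intro X hX t ht htd
    by_contra htβ
    exact hX.2.2 t ht ⟨ht, htβ⟩ htd
  have hcopHall : ∀ {X : Subgroup G}, IsPiHallOf {t | t.Prime ∧ t ∉ beta M} X L →
      (Nat.card X).Coprime (X.relIndex L) := by
    intro X hX
    apply Nat.coprime_of_dvd
    intro t ht h1 h2
    exact (hX.2.1 t ht h1).2 (hidxβ hX t ht h2)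
  have hcopβ' : ∀ {X Z : Subgroup G}, IsPiHallOf {t | t.Prime ∧ t ∉ beta M} X L →
      (∀ t : ℕ, t.Prime → t ∣ Nat.card Z → t ∉ beta M) →
      (Nat.card Z).Coprime (X.relIndex L) := by
    intro X Z hX hZ
    apply Nat.coprime_of_dvd
    intro t ht h1 h2
    exact hZ t ht h1 (hidxβ hX t ht h2)
  have hS'β : ∀ t : ℕ, t.Prime → t ∣ Nat.card S' → t ∉ beta M := by
    intro t ht htd
    rw [prime_eq_of_dvd_card_pgroup hS'q ht htd]; exact hqβ
  obtain ⟨m, hm, hS'm⟩ := Helper2.BGH.exists_cj_le_of_hall hHnHall.1 hS'L (hcopHall hHnHall)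
    (hcopβ' hHnHall hS'β)
  obtain ⟨Hn', hHn'⟩ : ∃ Hn', Hn' = BG7.cj m Hn := ⟨_, rfl⟩
  rw [← hHn'] at hS'm
  have hHn'Hall : IsPiHallOf {t | t.Prime ∧ t ∉ beta M} Hn' L :=
    hHn' ▸ isPiHallOf_cj hHnHall (Subgroup.le_normalizer hm)
  have hHn'nil : Group.IsNilpotent ↥Hn' := by
    rw [hHn']
    haveI := hHnnil
    exact Group.nilpotent_of_mulEquiv (Hn.equivMapOfInjective (MulAut.conj m).toMonoidHom
      (MulAut.conj m).injective)
  have hNN : Subgroup.normalizer (Hn' : Set G) ≤ Subgroup.normalizer (S' : Set G) :=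
    Helper2.BGH.normalizer_le_of_nilpotent_sylow (hS'top.mono hS'm le_top) hHn'nil
  have hHn'L : Hn' ≤ L := hHn'Hall.1
  have hHn'I : Hn' ≤ M ⊓ H :=
    le_inf (hHn'L.trans hLM) ((Subgroup.le_normalizer.trans hNN).trans hNS'H)
  -- Frattini
  have hfrat : M ≤ L ⊔ (M ⊓ H) := by
    intro x hx
    have hxHall : IsPiHallOf {t | t.Prime ∧ t ∉ beta M} (BG7.cj x Hn') L :=
      isPiHallOf_cj hHn'Hall (hML hx)
    obtain ⟨l, hl, hle⟩ := Helper2.BGH.exists_cj_le_of_hall hHn'Hall.1 hxHall.1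
      (hcopHall hHn'Hall) (hcopβ' hHn'Hall (fun t ht htd => (hxHall.2.1 t ht htd).2))
    have heq : BG7.cj x Hn' = BG7.cj l Hn' := by
      apply Subgroup.eq_of_le_of_card_ge hle
      rw [BG7.card_cj, BG7.card_cj]
    have hmem : l⁻¹ * x ∈ Subgroup.normalizer (Hn' : Set G) := by
      apply BG7.mem_normalizer_of_cj_eq
      rw [BG7.cj_mul, heq, BG7.cj_inv_cj]
    have h1 : l⁻¹ * x ∈ M ⊓ H :=
      ⟨M.mul_mem (M.inv_mem (hLM hl)) hx, hNS'H (hNN hmem)⟩
    have e : x = l * (l⁻¹ * x) := by group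
    rw [e]
    exact Subgroup.mul_mem _ ((le_sup_left : L ≤ L ⊔ (M ⊓ H)) hl)
      ((le_sup_right : M ⊓ H ≤ L ⊔ (M ⊓ H)) h1)
  -- `L = B Hn'`
  have hBL : B ≤ L := by
    rw [hB, hL]
    exact (show piCoreOf (beta M) M ≤ piCoreOf (sigma M) M from
      BG8.piCoreOf_mono (fun t ht => BT.alpha_subset_sigma hG hM ht.1) M)
  have hBpi : ∀ t : ℕ, t.Prime → t ∣ Nat.card B → t ∈ beta M := hBHall.2.1
  have hinf : Hn' ⊓ B = ⊥ := by
    have hc : (Nat.card Hn').Coprime (Nat.card B) := by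
      apply Nat.coprime_of_dvd
      intro t ht h1 h2
      exact (hHn'Hall.2.1 t ht h1).2 (hBpi t ht h2)
    exact disjoint_iff.mp (Subgroup.disjoint_of_coprime_natCard hc)
  have hcard1 := GlaubermanRepl.card_sup_mul_card_inf_of_le_normalizer Hn' B
    ((hHn'L.trans hLM).trans hMB)
  rw [hinf, Subgroup.card_bot, mul_one] at hcard1
  have hdvd : Hn'.relIndex L ∣ Nat.card B := by
    have h1 : Hn'.relIndex L ∣ Nat.card B * B.relIndex M := by
      rw [card_mul_relIndex' hBM]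
      exact (Subgroup.relIndex_dvd_card Hn' L).trans (Subgroup.card_dvd_of_le hLM)
    have h2 : (Hn'.relIndex L).Coprime (B.relIndex M) := by
      apply Nat.coprime_of_dvd
      intro t ht h1 h2
      exact hBHall.2.2 t ht (hidxβ hHn'Hall t ht h1) h2
    exact h2.dvd_of_dvd_mul_right h1
  have hLle : L ≤ Hn' ⊔ B := by
    have h1 : Hn' ⊔ B ≤ L := sup_le hHn'L hBL
    have h2 : Nat.card L ≤ Nat.card ↥(Hn' ⊔ B) := by
      rw [hcard1, ← card_mul_relIndex' hHn'L]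
      exact Nat.mul_le_mul_left _ (Nat.le_of_dvd Nat.card_pos hdvd)
    exact (Subgroup.eq_of_le_of_card_ge h1 h2).ge
  refine hfrat.trans (sup_le ?_ le_sup_right)
  exact hLle.trans (sup_le (hHn'I.trans le_sup_right) le_sup_left)

/-- a maximal subgroup containing `N(P)`, `|P| = p ∈ τ₁(M)`, is not conjugate to `M` -/
theorem not_conj_of_normalizer_le (hG : IsMinSimpleOddOrder G) {M H : Subgroup G}
    (hM : IsCoatom M) {p : ℕ} [hp : Fact p.Prime] (hp1 : p ∈ tau1 M) {P : Subgroup G}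
    (hP : Nat.card P = p) (hNP : Subgroup.normalizer (P : Set G) ≤ H) :
    ∀ g : G, H ≠ BG7.cj g M := by
  intro g hg
  have hM' : BG7.cj g⁻¹ H = M := by rw [hg, BG7.cj_inv_cj]
  have hN : Subgroup.normalizer (BG7.cj g⁻¹ P : Set G) ≤ M := by
    rw [← BT.cj_normalizer, ← hM']; exact BG7.cj_mono hNP
  have := (BT.s1409 hG hM hp1.2.1 (by rw [BG7.card_cj]; exact hP) hN).1.2
  exact this hp1.2.2.2.2

/-- coprime action: if `R` does not centralize `Y` then it does not centralize some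
`R`-invariant Sylow subgroup of `Y` -/
theorem exists_sylow_comm_ne_bot {Y R : Subgroup G}
    (hRY : R ≤ Subgroup.normalizer (Y : Set G)) (hcop : (Nat.card R).Coprime (Nat.card Y))
    (hsolv : Group.IsSolvable R ∨ Group.IsSolvable Y)
    (hne : ¬ Y ≤ Subgroup.centralizer (R : Set G)) :
    ∃ q : ℕ, q.Prime ∧ ∃ Q : Subgroup G, Q ≤ Y ∧ IsPGroup q Q ∧
      R ≤ Subgroup.normalizer (Q : Set G) ∧ ⁅Q, R⁆ ≠ ⊥ := by
  by_contra hcon
  push Not at hcon
  apply hne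
  have htop : (Y ⊓ Subgroup.centralizer (R : Set G)).subgroupOf Y = ⊤ := by
    apply eq_top_of_forall_sylow_le
    intro q hqF
    obtain ⟨P, hP⟩ := coprime_exists_invariant_sylow R Y hRY hcop hsolv q
    refine ⟨P, ?_⟩
    have hQ := hcon q hqF.out ((P : Subgroup ↥Y).map Y.subtype) (Subgroup.map_subtype_le _)
      (P.isPGroup'.map _) hP
    have hQc : (P : Subgroup ↥Y).map Y.subtype ≤ Subgroup.centralizer (R : Set G) :=
      Subgroup.commutator_eq_bot_iff_le_centralizer.mp hQ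
    intro x hx
    rw [Subgroup.mem_subgroupOf]
    exact ⟨x.2, hQc ⟨x, hx, rfl⟩⟩
  intro y hy
  have : (⟨y, hy⟩ : ↥Y) ∈ (Y ⊓ Subgroup.centralizer (R : Set G)).subgroupOf Y := by
    rw [htop]; exact Subgroup.mem_top _
  exact (Subgroup.mem_subgroupOf.mp this).2

/-! ### the three inputs (B&G 13.1(a) general, 13.2(c), (b')) as hypotheses -/

def T1Hyp (G : Type u) [Group G] [Finite G] : Prop :=
  ∀ (M H : Subgroup G), IsCoatom M → IsCoatom H → (∀ g : G, H ≠ BG7.cj g M) →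
    ∀ (t : ℕ) [Fact t.Prime] (T₁ : Subgroup G), t ∉ sigma M → T₁ ≤ M → T₁ ≤ H → IsPGroup t T₁ →
      (t ∈ sigma H ∨ t ∈ tau2 H ∨ t ∈ tau3 H) → ⁅sigmaCore M ⊓ H, T₁⁆ = ⊥

def T2Hyp (G : Type u) [Group G] [Finite G] : Prop :=
  ∀ (M H : Subgroup G), IsCoatom M → IsCoatom H → (∀ g : G, H ≠ BG7.cj g M) →
    ∀ (p : ℕ) [Fact p.Prime], p ∈ tau1 M → p ∈ sigma H → sigmaCore M ⊓ ⁅H, H⁆ ≠ ⊥ →
      IsIdealPrime p G

def T3Hyp (G : Type u) [Group G] [Finite G] : Prop :=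
  ∀ (M H : Subgroup G), IsCoatom M → IsCoatom H → (∀ g : G, H ≠ BG7.cj g M) →
    ∀ (p : ℕ) [Fact p.Prime], p ∈ tau2 H → p ∣ Nat.card M → p ∉ sigma M →
      sigmaCore M ⊓ ⁅H, H⁆ = ⊥

/-! ### the core -/

theorem core (hG : IsMinSimpleOddOrder G) (hT1 : T1Hyp G) (hT2 : T2Hyp G) (hT3 : T3Hyp G)
    {M : Subgroup G} (hM : IsCoatom M) {p r : ℕ} [hp : Fact p.Prime] [hr : Fact r.Prime]
    (hp1 : p ∈ tau1 M) {P R : Subgroup G} (hP : Nat.card P = p) (hPM : P ≤ M)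
    (hR : Nat.card R = r) (hRM : R ≤ M) (hrσ : r ∉ sigma M)
    (hRP : R ≤ Subgroup.centralizer (P : Set G)) {Y₀ : Subgroup G}
    (hY₀ : Y₀ ≤ sigmaCore M ⊓ Subgroup.centralizer (P : Set G))
    (hRY₀ : R ≤ Subgroup.normalizer (Y₀ : Set G))
    (hswap : ∀ q : ℕ, q.Prime → q ∣ Nat.card Y₀ → q ∉ alpha M → r ∈ tau1 M →
      alphaCore M ⊓ Subgroup.centralizer (R : Set G) ≤ Subgroup.centralizer (P : Set G)) :
    Y₀ ≤ Subgroup.centralizer (R : Set G) := by
  classical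
  by_contra hcon
  have hpp := hp.out
  have hrr := hr.out
  have hPp : IsPGroup p P := isPGroup_of_card_prime hP
  have hRr : IsPGroup r R := isPGroup_of_card_prime hR
  have hP1 : P ≠ ⊥ := ne_bot_of_card_prime hP
  have hPtop : P ≠ ⊤ := BG7.pgroup_ne_top hG hPp
  have hY₀σ : Y₀ ≤ sigmaCore M := hY₀.trans inf_le_left
  have hY₀P : Y₀ ≤ Subgroup.centralizer (P : Set G) := hY₀.trans inf_le_right
  -- `r ≠ p`
  have hrp : r ≠ p := by
    intro h
    apply hcon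
    have hp2 : p ≠ 2 := ne_two_of_dvd_card hG (X := P) (by rw [hP])
    have hc := GlaubermanRepl.card_sup_mul_card_inf_of_le_normalizer R P
      (hRP.trans (Subgroup.centralizer_le_normalizer _))
    rw [hR, hP, h] at hc
    have hd : Nat.card ↥(R ⊔ P) ∣ p ^ 2 := by
      rw [pow_two]; exact Dvd.intro _ hc
    obtain ⟨k, -, hk⟩ := (Nat.dvd_prime_pow hpp).mp hd
    have hRPp : IsPGroup p ↥(R ⊔ P) := IsPGroup.of_card hk
    have hcyc : IsCyclic ↥(R ⊔ P) :=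
      Helper7.BGB.isCyclic_of_pRankLE_one hp2 (sup_le hRM hPM) hRPp hp1.2.2.2.2
    haveI := hcyc
    have hRP' : R = P := Helper3.subgroup_eq_of_card_eq_of_le_isCyclic (R ⊔ P) R P le_sup_left
      le_sup_right (by rw [hR, hP, h])
    rw [hRP']; exact hY₀P
  -- the maximal subgroup `H ⊇ N(P)`
  have hNPtop := BG7.normalizer_ne_top hG hP1 hPtop
  obtain ⟨H, hH, hNPH⟩ := (eq_top_or_exists_le_coatom _).resolve_left hNPtop
  have hne := not_conj_of_normalizer_le hG hM hp1 hP hNPH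
  have hHM : H ≠ M := fun h => hne 1 (by rw [BG7.cj_one]; exact h)
  have hCPH : Subgroup.centralizer (P : Set G) ≤ H :=
    (Subgroup.centralizer_le_normalizer _).trans hNPH
  have hPH : P ≤ H := Subgroup.le_normalizer.trans hNPH
  have hRH : R ≤ H := hRP.trans hCPH
  have hY₀H : Y₀ ≤ H := hY₀P.trans hCPH
  have hY₀M : Y₀ ≤ M := hY₀σ.trans (Helper3.BG12.sigmaCore_le M)
  -- `W = [Y₀, R]`
  obtain ⟨W, hW⟩ : ∃ W, W = ⁅Y₀, R⁆ := ⟨_, rfl⟩
  have hW1 : W ≠ ⊥ := by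
    intro h; apply hcon; rw [hW] at h
    exact Subgroup.commutator_eq_bot_iff_le_centralizer.mp h
  have hWY₀ : W ≤ Y₀ := hW ▸ BG8.commutator_le_of_le_normalizer hRY₀
  have hWH' : W ≤ sigmaCore M ⊓ ⁅H, H⁆ :=
    le_inf (hWY₀.trans hY₀σ) (hW ▸ Subgroup.commutator_mono hY₀H hRH)
  have hσH' : sigmaCore M ⊓ ⁅H, H⁆ ≠ ⊥ := fun h => hW1 (le_bot_iff.mp (h ▸ hWH'))
  -- `p ∈ σ(H)`
  have hpH : p ∈ sigma H := by
    by_contra hpσH
    have h9 := BT.s1409 hG hH hpσH hP hNPH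
    have hp2H : p ∈ tau2 H := ⟨hpp, hpσH, h9.1.1, h9.1.2⟩
    exact hσH' (hT3 M H hM hH hne p hp2H hp1.2.2.1 hp1.2.1)
  have hpi : IsIdealPrime p G := hT2 M H hM hH hne p hp1 hpH hσH'
  -- `r ∈ τ₁(H)`
  have hrH : r ∣ Nat.card H := by rw [← hR]; exact Subgroup.card_dvd_of_le hRH
  have hr1 : r ∈ tau1 H := by
    by_contra hrτ
    have hcase : r ∈ sigma H ∨ r ∈ tau2 H ∨ r ∈ tau3 H := by
      by_cases h1 : r ∈ sigma H
      · exact Or.inl h1
      · by_cases h2 : PRankLE r 1 ↥H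
        · right; right
          refine ⟨hrr, h1, ?_, h2⟩
          by_contra h3
          exact hrτ ⟨hrr, h1, hrH, h3, h2⟩
        · right; left
          refine ⟨hrr, h1, ?_, h2⟩
          by_contra h3
          exact h1 (BT.alpha_subset_sigma hG hH ⟨hrr, h3⟩)
    have h := hT1 M H hM hH hne r R hrσ hRM hRH hRr hcase
    apply hW1
    rw [hW, eq_bot_iff, ← h]
    exact Subgroup.commutator_mono (le_inf hY₀σ hY₀H) le_rfl
  -- extraction of `K`
  have hσpi : ∀ t : ℕ, t.Prime → t ∣ Nat.card (sigmaCore M) → t ∈ sigma M :=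
    (Helper7.BGA.s1350 hG M hM).1.2.1
  have hcopRY : (Nat.card R).Coprime (Nat.card Y₀) := by
    rw [hR]
    apply (Nat.Prime.coprime_iff_not_dvd hrr).mpr
    intro h
    exact hrσ (hσpi r hrr (h.trans (Subgroup.card_dvd_of_le hY₀σ)))
  haveI hMs : Group.IsSolvable ↥M := BG7.isSolvable_of_ne_top hG hM.1
  haveI hYs : Group.IsSolvable ↥Y₀ := isSolvable_of_le hY₀M
  haveI hRs : Group.IsSolvable ↥R := isSolvable_of_le hRM
  obtain ⟨q, hqq, Q, hQY, hQq, hRQ, hQR⟩ :=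
    exists_sylow_comm_ne_bot hRY₀ hcopRY (Or.inr hYs) hcon
  haveI hqF : Fact q.Prime := ⟨hqq⟩
  obtain ⟨K, hK⟩ : ∃ K, K = ⁅Q, R⁆ := ⟨_, rfl⟩
  have hK1 : K ≠ ⊥ := hK ▸ hQR
  have hKQ : K ≤ Q := hK ▸ BG8.commutator_le_of_le_normalizer hRQ
  have hKq : IsPGroup q K := hQq.to_le hKQ
  have hKY : K ≤ Y₀ := hKQ.trans hQY
  have hRK : R ≤ Subgroup.normalizer (K : Set G) :=
    hK ▸ Subgroup.normalizer_commutator_ge_right Q R
  have hcopRQ : (Nat.card R).Coprime (Nat.card Q) :=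
    Nat.Coprime.coprime_dvd_right (Subgroup.card_dvd_of_le hQY) hcopRY
  have hKK : ⁅K, R⁆ = K := by
    rw [hK]; exact coprime_commutator_commutator R Q hRQ hcopRQ (Or.inl hRs)
  have hKM : K ≤ M := hKY.trans hY₀M
  have hKH : K ≤ H := hKY.trans hY₀H
  have hKab : IsMulCommutative ↥K := by
    by_contra hna
    obtain ⟨M₀, -, hu⟩ := Cfsg.Agent.S1422.result hG q K hKq hna
    have h1 : M = M₀ := hu M ⟨hM, hKM⟩
    have h2 : H = M₀ := hu H ⟨hH, hKH⟩
    exact hHM (h2.trans h1.symm)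
  have hcopRK : (Nat.card R).Coprime (Nat.card K) :=
    Nat.Coprime.coprime_dvd_right (Subgroup.card_dvd_of_le hKQ) hcopRQ
  have hCK : K ⊓ Subgroup.centralizer (R : Set G) = ⊥ := by
    haveI := hKab
    have h := coprime_abelian_centralizer_inf_commutator R K hRK hcopRK
    rw [hKK] at h
    rw [eq_bot_iff] at h ⊢
    intro x hx
    exact h ⟨hx, hx.1⟩
  have hfpf : ∀ x ∈ R, x ≠ 1 → ∀ k ∈ K, x * k = k * x → k = 1 := by
    intro x hxR hx1 k hkK hxk
    have hRx : R = Subgroup.zpowers x := by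
      symm
      apply Subgroup.eq_of_le_of_card_ge (by rw [Subgroup.zpowers_le]; exact hxR)
      rw [Nat.card_zpowers, hR]
      have hd : orderOf x ∣ r := hR ▸ Subgroup.orderOf_dvd_natCard R hxR
      rcases (Nat.dvd_prime hrr).mp hd with h | h
      · exact absurd (orderOf_eq_one_iff.mp h) hx1
      · rw [h]
    have hkC : k ∈ Subgroup.centralizer (R : Set G) := by
      rw [hRx, BT.centralizer_zpowers_eq, Subgroup.mem_centralizer_singleton_iff]
      exact hxk.symm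
    have : k ∈ K ⊓ Subgroup.centralizer (R : Set G) := ⟨hkK, hkC⟩
    rw [hCK] at this
    exact Subgroup.mem_bot.mp this
  have hqK : q ∣ Nat.card K := BG8.dvd_card_of_isPGroup_ne_bot hKq hK1
  have hqσ : q ∈ sigma M :=
    hσpi q hqq (hqK.trans (Subgroup.card_dvd_of_le (hKY.trans hY₀σ)))
  have hqY₀ : q ∣ Nat.card Y₀ := hqK.trans (Subgroup.card_dvd_of_le hKY)
  exact ideal_endgame hG hM hH hne hp1 hpi hpH hP hPM hPH hCPH hR hRM hRH hRP hrσ hr1 hK1 hKq hqσ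
    hKM (hKY.trans hY₀P) hRK hfpf
    (fun S' hKS' hS'top hNM hNH hqσH hqαM =>
      d1 hG hM hS'top hNH (Subgroup.le_normalizer.trans hNM) hqσ (fun h => hqαM h.1))
    (fun hqαM hrτ => hswap q hqq hqY₀ hqαM hrτ)

/-- Theorem 13.4 for `M_α` -/
theorem claimA (hG : IsMinSimpleOddOrder G) (hT1 : T1Hyp G) (hT2 : T2Hyp G) (hT3 : T3Hyp G)
    {M : Subgroup G} (hM : IsCoatom M) {p r : ℕ} [hp : Fact p.Prime] [hr : Fact r.Prime]
    (hp1 : p ∈ tau1 M) {P R : Subgroup G} (hP : Nat.card P = p) (hPM : P ≤ M)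
    (hR : Nat.card R = r) (hRM : R ≤ M) (hrσ : r ∉ sigma M)
    (hRP : R ≤ Subgroup.centralizer (P : Set G)) :
    alphaCore M ⊓ Subgroup.centralizer (P : Set G) ≤ Subgroup.centralizer (R : Set G) := by
  apply core hG hT1 hT2 hT3 hM hp1 hP hPM hR hRM hrσ hRP
  · exact inf_le_inf_right _ (Helper3.BG12.alphaCore_le_sigmaCore hG hM)
  · exact le_normalizer_inf (hRM.trans (Helper3.BG12.le_normalizer_alphaCore M))
      (hRP.trans Subgroup.le_normalizer)
  · intro q hq hqd hqα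
    exfalso; apply hqα
    exact BG7.piCoreOf_pi (alpha M) M q hq (hqd.trans (Subgroup.card_dvd_of_le inf_le_left))

/-- Theorem 13.4 -/
theorem claim (hG : IsMinSimpleOddOrder G) (hT1 : T1Hyp G) (hT2 : T2Hyp G) (hT3 : T3Hyp G)
    {M : Subgroup G} (hM : IsCoatom M) {p r : ℕ} [hp : Fact p.Prime] [hr : Fact r.Prime]
    (hp1 : p ∈ tau1 M) {P R : Subgroup G} (hP : Nat.card P = p) (hPM : P ≤ M)
    (hR : Nat.card R = r) (hRM : R ≤ M) (hrσ : r ∉ sigma M)
    (hRP : R ≤ Subgroup.centralizer (P : Set G)) :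
    sigmaCore M ⊓ Subgroup.centralizer (P : Set G) ≤ Subgroup.centralizer (R : Set G) := by
  apply core hG hT1 hT2 hT3 hM hp1 hP hPM hR hRM hrσ hRP le_rfl
  · exact le_normalizer_inf (hRM.trans (Helper3.BG12.le_normalizer_sigmaCore M))
      (hRP.trans Subgroup.le_normalizer)
  · intro q hq hqd hqα hrτ
    exact claimA hG hT1 hT2 hT3 hM hrτ hR hRM hP hPM hp1.2.1 (Subgroup.le_centralizer_iff.mp hRP)

theorem s1428_of (hG : IsMinSimpleOddOrder G) (hT1 : T1Hyp G) (hT2 : T2Hyp G) (hT3 : T3Hyp G)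
    (M : Subgroup G) (hM : IsCoatom M) (E : Subgroup G) (hE : IsComplIn E (sigmaCore M) M)
    (p : ℕ) (hp : p ∈ tau1 M) (P : Subgroup G) (hPE : P ≤ E) (hP : Nat.card P = p)
    (R : Subgroup G) (hRE : R ≤ E ⊓ Subgroup.centralizer (P : Set G))
    (hR : (Nat.card R).Prime) :
    sigmaCore M ⊓ Subgroup.centralizer (P : Set G) ≤
      sigmaCore M ⊓ Subgroup.centralizer (R : Set G) := by
  haveI : Fact p.Prime := ⟨hp.1⟩
  haveI : Fact (Nat.card R).Prime := ⟨hR⟩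
  have hEM : E ≤ M := hE.1
  have hrσ : Nat.card R ∉ sigma M :=
    Helper7.BGD.compl_not_sigma hG hM hE _ hR (Subgroup.card_dvd_of_le (hRE.trans inf_le_left))
  exact le_inf inf_le_left (claim hG hT1 hT2 hT3 hM hp hP (hPE.trans hEM) rfl
    ((hRE.trans inf_le_left).trans hEM) hrσ (hRE.trans inf_le_right))

end Cfsg.Agent.Lib.Helper1.BGG
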