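import Mathlib
import Cfsg.Agent.Lib.Helper1.BGG6
import Cfsg.Agent.Lib.Helper7.BGC1
import Cfsg.Agent.S1418
import Cfsg.Agent.S1420

set_option autoImplicit false
set_option maxHeartbeats 4000000
set_option linter.unusedVariables false
set_option linter.unusedSectionVars false
set_option linter.style.longLine false
set_option linter.unusedSimpArgs false
set_option linter.deprecated false
set_option linter.style.haveILetI false

/-!
# B&G section 13, part 7: Corollary 13.2(c) / Lemma 13.1(c): `p ∈ τ₁(M)` is ideal (T2)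
-/

open scoped commutatorElement Pointwise
universe u
namespace Cfsg.Agent.Lib.Helper1.BGG

open Cfsg Cfsg.Agent.Lib.Helper1 Cfsg.Agent.Lib.Helper7.BGRows

variable {G : Type u} [Group G] [Finite G]

/-- a `t`-subgroup of `M` lies in `O_{s'}(M)` if `t` does not divide the index of `O_{s'}(M)` -/
theorem le_Opprime_of_not_dvd_index {M X : Subgroup G} {s t : ℕ} [hs : Fact s.Prime]
    [ht : Fact t.Prime] (hXM : X ≤ M) (hX : IsPGroup t X)
    (h : ¬ t ∣ (pPrimeCore s ↥M).index) : X ≤ piCoreOf (BG8.ne s) M := by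
  intro x hx
  obtain ⟨k, hk⟩ := hX ⟨x, hx⟩
  have hk' : x ^ (t ^ k) = 1 := by simpa using congrArg Subtype.val hk
  have hmem : (⟨x, hXM hx⟩ : ↥M) ∈ pPrimeCore s ↥M := by
    refine Lead.BGM.mem_of_coprime_index (pPrimeCore s ↥M) (n := t ^ k) ?_ ?_
    · apply Subtype.ext
      simp [hk']
    · exact Nat.Coprime.pow_left k ((Nat.Prime.coprime_iff_not_dvd ht.out).mpr h)
  refine ⟨⟨x, hXM hx⟩, ?_, rfl⟩
  rw [BG8.piCore_ne]; exact hmem

/-- generalized Frattini argument for the nilpotent Hall `β'`-subgroups (S1414) -/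
theorem frattini_beta (hG : IsMinSimpleOddOrder G) {M L Hn S' : Subgroup G} (hM : IsCoatom M)
    (hLM : L ≤ M) (hML : M ≤ Subgroup.normalizer (L : Set G))
    (hBL : piCoreOf (beta M) M ≤ L)
    (hHnHall : IsPiHallOf {t | t.Prime ∧ t ∉ beta M} Hn L) (hHnnil : Group.IsNilpotent ↥Hn)
    {q : ℕ} [hq : Fact q.Prime] (hS' : BG8.IsMaxP q S' L) (hqβ : q ∉ beta M) :
    M ≤ piCoreOf (beta M) M ⊔ (M ⊓ Subgroup.normalizer (S' : Set G)) := by
  classical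
  have hqq := hq.out
  obtain ⟨hBHall, -, -, -, -⟩ := Cfsg.Agent.S1414.result hG M hM
  obtain ⟨B, hB⟩ : ∃ B, B = piCoreOf (beta M) M := ⟨_, rfl⟩
  rw [← hB] at hBHall hBL ⊢
  have hBM : B ≤ M := hBHall.1
  have hMB : M ≤ Subgroup.normalizer (B : Set G) := hB ▸ BG7.le_normalizer_piCoreOf _ _
  haveI hMs : Group.IsSolvable ↥M := BG7.isSolvable_of_ne_top hG hM.1
  haveI hLs : Group.IsSolvable ↥L := isSolvable_of_le hLM
  have hS'q : IsPGroup q S' := hS'.2.1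
  have hS'L : S' ≤ L := hS'.1
  have hidxβ : ∀ {X : Subgroup G}, IsPiHallOf {t | t.Prime ∧ t ∉ beta M} X L →
      ∀ t : ℕ, t.Prime → t ∣ X.relIndex L → t ∈ beta M := by
    intro X hX t ht htd
    by_contra htβ
    exact hX.2.2 t ht ⟨ht, htβ⟩ htd
  have hcopHall : ∀ {X : Subgroup G}, IsPiHallOf {t | t.Prime ∧ t ∉ beta M} X L →
      (Nat.card X).Coprime (X.relIndex L) := by
    intro X hX
    apply Nat.coprime_of_dvd
    intro t ht h1 h2
    exact (hX.2.1 t ht h1).2 (hidxβ hX t ht h2)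
  have hcopβ' : ∀ {X Z : Subgroup G}, IsPiHallOf {t | t.Prime ∧ t ∉ beta M} X L →
      (∀ t : ℕ, t.Prime → t ∣ Nat.card Z → t ∉ beta M) →
      (Nat.card Z).Coprime (X.relIndex L) := by
    intro X Z hX hZ
    apply Nat.coprime_of_dvd
    intro t ht h1 h2
    exact hZ t ht h1 (hidxβ hX t ht h2)
  have hS'β : ∀ t : ℕ, t.Prime → t ∣ Nat.card S' → t ∉ beta M := by
    intro t ht htd
    rw [prime_eq_of_dvd_card_pgroup hS'q ht htd]; exact hqβ
  obtain ⟨m, hm, hS'm⟩ := Helper2.BGH.exists_cj_le_of_hall hHnHall.1 hS'L (hcopHall hHnHall)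
    (hcopβ' hHnHall hS'β)
  obtain ⟨Hn', hHn'⟩ : ∃ Hn', Hn' = BG7.cj m Hn := ⟨_, rfl⟩
  rw [← hHn'] at hS'm
  have hHn'Hall : IsPiHallOf {t | t.Prime ∧ t ∉ beta M} Hn' L :=
    hHn' ▸ isPiHallOf_cj hHnHall (Subgroup.le_normalizer hm)
  have hHn'nil : Group.IsNilpotent ↥Hn' := by
    rw [hHn']
    haveI := hHnnil
    exact Group.nilpotent_of_mulEquiv (Hn.equivMapOfInjective (MulAut.conj m).toMonoidHom
      (MulAut.conj m).injective)
  have hHn'L : Hn' ≤ L := hHn'Hall.1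
  have hNN : Subgroup.normalizer (Hn' : Set G) ≤ Subgroup.normalizer (S' : Set G) :=
    Helper2.BGH.normalizer_le_of_nilpotent_sylow (hS'.mono hS'm hHn'L) hHn'nil
  have hHn'I : Hn' ≤ M ⊓ Subgroup.normalizer (S' : Set G) :=
    le_inf (hHn'L.trans hLM) (Subgroup.le_normalizer.trans hNN)
  have hfrat : M ≤ L ⊔ (M ⊓ Subgroup.normalizer (S' : Set G)) := by
    intro x hx
    have hxHall : IsPiHallOf {t | t.Prime ∧ t ∉ beta M} (BG7.cj x Hn') L :=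
      isPiHallOf_cj hHn'Hall (hML hx)
    obtain ⟨l, hl, hle⟩ := Helper2.BGH.exists_cj_le_of_hall hHn'Hall.1 hxHall.1
      (hcopHall hHn'Hall) (hcopβ' hHn'Hall (fun t ht htd => (hxHall.2.1 t ht htd).2))
    have heq : BG7.cj x Hn' = BG7.cj l Hn' := by
      apply Subgroup.eq_of_le_of_card_ge hle
      rw [BG7.card_cj, BG7.card_cj]
    have hmem : l⁻¹ * x ∈ Subgroup.normalizer (Hn' : Set G) := by
      apply BG7.mem_normalizer_of_cj_eq
      rw [BG7.cj_mul, heq, BG7.cj_inv_cj]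
    have h1 : l⁻¹ * x ∈ M ⊓ Subgroup.normalizer (S' : Set G) :=
      ⟨M.mul_mem (M.inv_mem (hLM hl)) hx, hNN hmem⟩
    have e : x = l * (l⁻¹ * x) := by group
    rw [e]
    exact Subgroup.mul_mem _ ((le_sup_left : L ≤ L ⊔ _) hl) ((le_sup_right : _ ≤ L ⊔ _) h1)
  have hBpi : ∀ t : ℕ, t.Prime → t ∣ Nat.card B → t ∈ beta M := hBHall.2.1
  have hinf : Hn' ⊓ B = ⊥ := by
    have hc : (Nat.card Hn').Coprime (Nat.card B) := by
      apply Nat.coprime_of_dvd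
      intro t ht h1 h2
      exact (hHn'Hall.2.1 t ht h1).2 (hBpi t ht h2)
    exact disjoint_iff.mp (Subgroup.disjoint_of_coprime_natCard hc)
  have hcard1 := GlaubermanRepl.card_sup_mul_card_inf_of_le_normalizer Hn' B
    ((hHn'L.trans hLM).trans hMB)
  rw [hinf, Subgroup.card_bot, mul_one] at hcard1
  have hdvd : Hn'.relIndex L ∣ Nat.card B := by
    have h1 : Hn'.relIndex L ∣ Nat.card B * B.relIndex M := by
      rw [card_mul_relIndex' hBM]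
      exact (Subgroup.relIndex_dvd_card Hn' L).trans (Subgroup.card_dvd_of_le hLM)
    have h2 : (Hn'.relIndex L).Coprime (B.relIndex M) := by
      apply Nat.coprime_of_dvd
      intro t ht h1 h2
      exact hBHall.2.2 t ht (hidxβ hHn'Hall t ht h1) h2
    exact h2.dvd_of_dvd_mul_right h1
  have hLle : L ≤ Hn' ⊔ B := by
    have h1 : Hn' ⊔ B ≤ L := sup_le hHn'L hBL
    have h2 : Nat.card L ≤ Nat.card ↥(Hn' ⊔ B) := by
      rw [hcard1, ← card_mul_relIndex' hHn'L]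
      exact Nat.mul_le_mul_left _ (Nat.le_of_dvd Nat.card_pos hdvd)
    exact (Subgroup.eq_of_le_of_card_ge h1 h2).ge
  refine hfrat.trans (sup_le ?_ le_sup_right)
  exact hLle.trans (sup_le (hHn'I.trans le_sup_right) le_sup_left)

/-- a prime dividing `|B ⊔ C|` (`C ≤ N(B)`) divides `|C|` or `|B|` -/
theorem prime_dvd_card_sup' {B C : Subgroup G} (hCB : C ≤ Subgroup.normalizer (B : Set G))
    {p : ℕ} (hp : p.Prime) (h : p ∣ Nat.card ↥(B ⊔ C)) : p ∣ Nat.card C ∨ p ∣ Nat.card B := by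
  have h2 := GlaubermanRepl.card_sup_mul_card_inf_of_le_normalizer C B hCB
  have h4 : p ∣ Nat.card C * Nat.card B := by
    rw [← h2, sup_comm]; exact Dvd.dvd.mul_right h _
  exact (Nat.Prime.dvd_mul hp).mp h4

/-- **B&G 12.17(e)(2)** (= helper3's (h)): if `q ∈ σ(M) ∩ τ₂(L)`, `E_{q²} ≅ B' ≤ M ∩ L`,
then `π(M) ∩ σ(L) ⊆ β(L)`. -/
theorem h_lemma (hG : IsMinSimpleOddOrder G) {M L : Subgroup G} (hM : IsCoatom M)
    (hL : IsCoatom L) (hne : ∀ g : G, L ≠ BG7.cj g M) {p q : ℕ} [hp : Fact p.Prime]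
    [hq : Fact q.Prime] (hqσM : q ∈ sigma M) (hq2L : q ∈ tau2 L) {B' : Subgroup G}
    (hB'M : B' ≤ M) (hB'L : B' ≤ L) (hB'e : IsElementaryAbelian q B')
    (hB'2 : Nat.card B' = q ^ 2) (hpM : p ∣ Nat.card M) (hpL : p ∈ sigma L)
    (hpβ : p ∉ beta L) : False := by
  classical
  have hpp := hp.out
  have hqq := hq.out
  obtain ⟨-, hqσL, hr2, hr1⟩ := id hq2L
  have hpq : p ≠ q := fun h => hqσL (h ▸ hpL)
  have hB'q : IsPGroup q B' := BG9.isPGroup_of_isElementaryAbelian hB'e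
  have h17 := Cfsg.Agent.S1417.result hG L hL q hq2L B' ⟨hB'L, hB'e, hB'2⟩
  have hnilL : Group.IsNilpotent ↥(sigmaCore L) := h17.1
  have hCσ : sigmaCore L ⊓ Subgroup.centralizer (B' : Set G) = ⊥ := h17.2.2.2.1
  -- (i) `q ≤ p`
  obtain ⟨Tp, hTptop, hTpσ, hNTp, hTp1⟩ := BGF.exists_normal_sylow hG hL hnilL hpL
  have hTpL : Tp ≤ L := hTpσ.trans (Helper3.BG12.sigmaCore_le L)
  have hLTp : L ≤ Subgroup.normalizer (Tp : Set G) := hNTp.ge
  have h14L := (Cfsg.Agent.S1414.result hG L hL).2.2.2.2 p hpp hpL.2.1 hpβ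
  have hqp : q ≤ p := by
    apply h14L.2.2 q hqq
    by_contra hnd
    have hB'K : B' ≤ piCoreOf (BG8.ne p) L := le_Opprime_of_not_dvd_index hB'L hB'q hnd
    have hKT : piCoreOf (BG8.ne p) L ≤ Subgroup.centralizer (Tp : Set G) := by
      apply BG8.commute_of_normalize
      · exact (BG7.piCoreOf_le _ _).trans hLTp
      · exact hTpL.trans (BG7.le_normalizer_piCoreOf _ _)
      · have hc : (Nat.card (piCoreOf (BG8.ne p) L)).Coprime (Nat.card Tp) := by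
          obtain ⟨k, hk⟩ := IsPGroup.iff_card.mp hTptop.2.1
          rw [hk]; exact Nat.Coprime.pow_right k (BG8.piCoreOf_ne_coprime p L)
        exact disjoint_iff.mp (Subgroup.disjoint_of_coprime_natCard hc)
    have hTpC : Tp ≤ Subgroup.centralizer (B' : Set G) :=
      Subgroup.le_centralizer_iff.mp (hB'K.trans hKT)
    have : Tp ≤ ⊥ := hCσ ▸ le_inf hTpσ hTpC
    exact hTp1 (le_bot_iff.mp this)
  -- (ii) `p ≤ q`
  have hpσM : p ∉ sigma M := by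
    intro hpσM
    obtain ⟨g, hg⟩ := Lead.BGM.exists_cj_le_of_common_sigma hG hM hL hpσM hpL hnilL
    have h1 : IsCoatom (BG7.cj g L) := BG9.isCoatom_cj hL g
    have h2 : M = BG7.cj g L := BG8.eq_of_coatom_le h1 hg hM.1
    apply hne g⁻¹
    rw [h2, BG7.cj_inv_cj]
  obtain ⟨Z, hZM, hZ⟩ := Helper2.BGH.exists_prime_card_le hpM
  have hZp : IsPGroup p Z := isPGroup_of_card_prime hZ
  obtain ⟨Sg, hSg⟩ : ∃ Sg, Sg = sigmaCore M := ⟨_, rfl⟩
  have hSgM : Sg ≤ M := hSg ▸ Helper3.BG12.sigmaCore_le M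
  have hMSg : M ≤ Subgroup.normalizer (Sg : Set G) := hSg ▸ Helper3.BG12.le_normalizer_sigmaCore M
  have hσpi : ∀ t : ℕ, t.Prime → t ∣ Nat.card Sg → t ∈ sigma M := by
    rw [hSg]; exact (Helper7.BGA.s1350 hG M hM).1.2.1
  have hcopZ : (Nat.card Z).Coprime (Nat.card Sg) := by
    rw [hZ]
    exact (Nat.Prime.coprime_iff_not_dvd hpp).mpr (fun h => hpσM (hσpi p hpp h))
  haveI hMs : Group.IsSolvable ↥M := BG7.isSolvable_of_ne_top hG hM.1
  haveI hSgs : Group.IsSolvable ↥Sg := isSolvable_of_le hSgM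
  obtain ⟨Q, hZQ⟩ := coprime_exists_invariant_sylow Z Sg (hZM.trans hMSg) hcopZ (Or.inr hSgs) q
  obtain ⟨Tq, hTq⟩ : ∃ Tq, Tq = (Q : Subgroup ↥Sg).map Sg.subtype := ⟨_, rfl⟩
  rw [← hTq] at hZQ
  have hTqSg : BG8.IsMaxP q Tq Sg := hTq ▸ BG8.isMaxP_of_sylow Q
  have hTqM : BG8.IsMaxP q Tq M := by
    obtain ⟨T₂, hT₂, hTT₂⟩ := BT.exists_isMaxP_ge (p := q) (H := M) hTqSg.2.1 (hTqSg.1.trans hSgM)
    have hT₂Sg : T₂ ≤ Sg := hSg ▸ Helper3.BG12.le_sigmaCore_of_isPGroup hG hM hqσM hT₂.1 hT₂.2.1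
    have : T₂ = Tq := hTqSg.2.2 T₂ hT₂.2.1 hTT₂ hT₂Sg
    rw [← this]; exact hT₂
  obtain ⟨m, hm, hB'm⟩ := BT.exists_cj_ge hTqM hB'q hB'M
  obtain ⟨T, hT⟩ : ∃ T, T = BG7.cj m Tq := ⟨_, rfl⟩
  obtain ⟨Z₁, hZ₁⟩ : ∃ Z₁, Z₁ = BG7.cj m Z := ⟨_, rfl⟩
  rw [← hT] at hB'm
  have hZ₁T : Z₁ ≤ Subgroup.normalizer (T : Set G) := by
    rw [hZ₁, hT, ← BT.cj_normalizer]; exact BG7.cj_mono hZQ
  have hZ₁M : Z₁ ≤ M := hZ₁ ▸ BG9.cj_le_of_mem hm hZM
  have hTM : T ≤ M := hT ▸ BG9.cj_le_of_mem hm hTqM.1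
  have hZ₁card : Nat.card Z₁ = p := by rw [hZ₁, BG7.card_cj, hZ]
  have hZ₁p : IsPGroup p Z₁ := isPGroup_of_card_prime hZ₁card
  have hTq' : IsPGroup q T := by
    rw [hT]; exact (show IsPGroup q ↥(BG7.cj m Tq) from hTqM.2.1.map _)
  have hB'σL : ∀ t : ℕ, t.Prime → t ∣ Nat.card B' → t ∉ sigma L := by
    intro t ht htd
    rw [prime_eq_of_dvd_card_pgroup hB'q ht htd]; exact hqσL
  obtain ⟨EL, hEL, hB'EL⟩ := exists_compl_ge hG hL hB'L hB'σL
  have h18 := Cfsg.Agent.S1418.result hG L hL EL hEL q hq2L B' ⟨hB'EL, hB'e, hB'2⟩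
  have hCB' : Subgroup.centralizer (B' : Set G) ≤ EL := by
    have := h18.2.1.1
    rw [h18.2.1.2.1] at this; exact this
  have hTZ : ⁅T, Z₁⁆ ≠ ⊥ := by
    intro h
    have h1 : Z₁ ≤ Subgroup.centralizer (T : Set G) :=
      Subgroup.le_centralizer_iff.mp (Subgroup.commutator_eq_bot_iff_le_centralizer.mp h)
    have h2 : Z₁ ≤ EL :=
      (h1.trans (Subgroup.centralizer_le (SetLike.coe_subset_coe.mpr hB'm))).trans hCB'
    have h3 : p ∣ Nat.card EL := by rw [← hZ₁card]; exact Subgroup.card_dvd_of_le h2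
    exact Helper7.BGD.compl_not_sigma hG hL hEL p hpp h3 hpL
  have h8 := BT.s1408 hG hL hr2 hr1
  have hqβM : q ∉ beta M := fun h => h8.1 h.2
  have h14M := (Cfsg.Agent.S1414.result hG M hM).2.2.2.2 q hqq hqσM.2.1 hqβM
  have hpq' : p ≤ q := by
    apply h14M.2.2 p hpp
    by_contra hnd
    have hZ₁K : Z₁ ≤ piCoreOf (BG8.ne q) M := le_Opprime_of_not_dvd_index hZ₁M hZ₁p hnd
    apply hTZ
    have h1 : ⁅T, Z₁⁆ ≤ T := BG8.commutator_le_of_le_normalizer hZ₁T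
    have h2 : ⁅T, Z₁⁆ ≤ piCoreOf (BG8.ne q) M := by
      refine (Subgroup.commutator_mono le_rfl hZ₁K).trans ?_
      rw [Subgroup.commutator_comm]
      exact BG8.commutator_le_of_le_normalizer (hTM.trans (BG7.le_normalizer_piCoreOf _ _))
    have hc : (Nat.card T).Coprime (Nat.card (piCoreOf (BG8.ne q) M)) := by
      obtain ⟨k, hk⟩ := IsPGroup.iff_card.mp hTq'
      rw [hk]; exact (Nat.Coprime.pow_right k (BG8.piCoreOf_ne_coprime q M)).symm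
    have h3 : T ⊓ piCoreOf (BG8.ne q) M = ⊥ :=
      disjoint_iff.mp (Subgroup.disjoint_of_coprime_natCard hc)
    rw [eq_bot_iff, ← h3]; exact le_inf h1 h2
  exact hpq (le_antisymm hpq' hqp)

/-- **B&G 13.1(c)/13.2(c)** (T2): `p ∈ τ₁(M)`, `p ∈ σ(H)`, `M_σ ∩ H' ≠ 1` forces `p` ideal -/
theorem ideal_of_tau1 (hG : IsMinSimpleOddOrder G) {M H : Subgroup G} (hM : IsCoatom M)
    (hH : IsCoatom H) (hne : ∀ g : G, H ≠ BG7.cj g M) {p : ℕ} [hp : Fact p.Prime]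
    (hp1 : p ∈ tau1 M) (hpH : p ∈ sigma H) (h : sigmaCore M ⊓ ⁅H, H⁆ ≠ ⊥) :
    IsIdealPrime p G := by
  classical
  by_contra hni
  have hpp := hp.out
  have hpβ : ∀ L : Subgroup G, p ∉ beta L := fun L h => hni h.2
  have hpM' : ¬ p ∣ Nat.card ↥⁅M, M⁆ := hp1.2.2.2.1
  -- the prime `q`
  obtain ⟨q, hqq, hqd⟩ : ∃ q : ℕ, q.Prime ∧ q ∣ Nat.card ↥(sigmaCore M ⊓ ⁅H, H⁆) := by
    apply Nat.exists_prime_and_dvd
    intro h1
    exact h (Subgroup.card_eq_one.mp h1)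
  haveI hqF : Fact q.Prime := ⟨hqq⟩
  have hqσM : q ∈ sigma M :=
    (Helper7.BGA.s1350 hG M hM).1.2.1 q hqq (hqd.trans (Subgroup.card_dvd_of_le inf_le_left))
  have hqH' : q ∣ Nat.card ↥⁅H, H⁆ := hqd.trans (Subgroup.card_dvd_of_le inf_le_right)
  have hqαH : q ∉ alpha H := fun h => Helper2.BGH.sigma_alpha_disjoint hG hM hH hne hqσM h
  have hqβH : q ∉ beta H := fun h => hqαH h.1
  -- `Y₁`
  obtain ⟨Y₁, hY₁, -⟩ := BT.exists_isMaxP_ge (p := q) (Y := ⊥) (H := ⁅H, H⁆) IsPGroup.of_bot bot_le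
  have hY₁q : IsPGroup q Y₁ := hY₁.2.1
  have hY₁1 : Y₁ ≠ ⊥ := by
    intro hb
    obtain ⟨X, hXH', hX⟩ := Helper2.BGH.exists_prime_card_le hqH'
    have hXq : IsPGroup q X := isPGroup_of_card_prime hX
    have h1 : X = Y₁ := hY₁.2.2 X hXq (hb ▸ bot_le) hXH'
    exact ne_bot_of_card_prime hX (h1.trans hb)
  -- Frattini
  obtain ⟨-, -, ⟨Hn, hHnHall, hHnnil⟩, -, -⟩ := Cfsg.Agent.S1414.result hG H hH
  have hHH' : ⁅H, H⁆ ≤ H := Subgroup.commutator_le_self H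
  have hHN' : H ≤ Subgroup.normalizer ((⁅H, H⁆ : Subgroup G) : Set G) :=
    Subgroup.normalizer_commutator_ge_left H H
  have hBH' : piCoreOf (beta H) H ≤ ⁅H, H⁆ :=
    (show piCoreOf (beta H) H ≤ sigmaCore H from
      BG8.piCoreOf_mono (fun t ht => BT.alpha_subset_sigma hG hH ht.1) H).trans
      (Helper7.BGC.sigmaCore_le_commutator hG hH)
  have hfr := frattini_beta hG hH hHH' hHN' hBH' hHnHall hHnnil hY₁ hqβH
  obtain ⟨N, hN⟩ : ∃ N, N = H ⊓ Subgroup.normalizer (Y₁ : Set G) := ⟨_, rfl⟩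
  obtain ⟨B, hB⟩ : ∃ B, B = piCoreOf (beta H) H := ⟨_, rfl⟩
  rw [← hN, ← hB] at hfr
  have hNH : N ≤ H := hN ▸ inf_le_left
  have hBH : B ≤ H := hB ▸ BG7.piCoreOf_le _ _
  have hHB : H ≤ Subgroup.normalizer (B : Set G) := hB ▸ BG7.le_normalizer_piCoreOf _ _
  have hBpi : ∀ t : ℕ, t.Prime → t ∣ Nat.card B → t ∈ beta H := hB ▸ BG7.piCoreOf_pi _ _
  have hH'le : ⁅H, H⁆ ≤ B ⊔ ⁅N, N⁆ :=
    (Subgroup.commutator_mono hfr hfr).trans (commutator_sup_le_sup (hNH.trans hHB))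
  -- `p ∣ |N'|`
  obtain ⟨P₀, hP₀, -⟩ := BT.exists_isMaxP_ge (p := p) (Y := ⊥) (H := H) IsPGroup.of_bot bot_le
  obtain ⟨hP₀H', hP₀top, -⟩ := BT.sigma_sylow_le_commutator hG hH hpH hP₀
  have hpP₀ : p ∣ Nat.card P₀ := by
    have h1 : p ∣ Nat.card G := hpH.2.1.trans (Subgroup.card_subgroup_dvd_card H)
    rw [← Subgroup.card_mul_index P₀] at h1
    rcases (Nat.Prime.dvd_mul hpp).mp h1 with h2 | h2
    · exact h2
    · exact absurd h2 hP₀top.not_dvd_index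
  have hpBN : p ∣ Nat.card ↥(B ⊔ ⁅N, N⁆) :=
    hpP₀.trans (Subgroup.card_dvd_of_le (hP₀H'.trans hH'le))
  have hpN' : p ∣ Nat.card ↥⁅N, N⁆ := by
    rcases prime_dvd_card_sup' ((Subgroup.commutator_le_self N).trans (hNH.trans hHB)) hpp hpBN
      with h1 | h1
    · exact h1
    · exact absurd (hBpi p hpp h1) (hpβ H)
  -- conjugate `Y₁` into `M`
  obtain ⟨SM, hSM, -⟩ := BT.exists_isMaxP_ge (p := q) (Y := ⊥) (H := M) IsPGroup.of_bot bot_le
  obtain ⟨-, hSMtop, -⟩ := BT.sigma_sylow_le_commutator hG hM hqσM hSM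
  obtain ⟨x, -, hY₁x⟩ := BT.exists_cj_ge hSMtop hY₁q le_top
  obtain ⟨Y, hY⟩ : ∃ Y, Y = BG7.cj x⁻¹ Y₁ := ⟨_, rfl⟩
  have hYSM : Y ≤ SM := by
    rw [hY]
    have := BG7.cj_mono (k := x⁻¹) hY₁x; rwa [BG7.cj_inv_cj] at this
  have hYM : Y ≤ M := hYSM.trans hSM.1
  have hYq : IsPGroup q Y := by
    rw [hY]; exact (show IsPGroup q ↥(BG7.cj x⁻¹ Y₁) from hY₁q.map _)
  have hY1 : Y ≠ ⊥ := by
    rw [hY]; intro h; exact hY₁1 (BG7.cj_eq_bot_iff.mp h)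
  obtain ⟨N₂, hN₂⟩ : ∃ N₂, N₂ = BG7.cj x⁻¹ N := ⟨_, rfl⟩
  have hN₂Y : N₂ ≤ Subgroup.normalizer (Y : Set G) := by
    rw [hN₂, hY, ← BT.cj_normalizer]; exact BG7.cj_mono (hN ▸ inf_le_right)
  have hpN₂' : p ∣ Nat.card ↥⁅N₂, N₂⁆ := by
    have e : ⁅N₂, N₂⁆ = BG7.cj x⁻¹ ⁅N, N⁆ := by
      rw [hN₂]; unfold BG7.cj; rw [Subgroup.map_commutator]
    rw [e, BG7.card_cj]; exact hpN'
  -- `L ⊇ N(Y)`
  have hNYtop := BG7.normalizer_ne_top hG hY1 (BG7.pgroup_ne_top hG hYq)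
  obtain ⟨L, hL, hNYL⟩ := (eq_top_or_exists_le_coatom _).resolve_left hNYtop
  have hN₂L : N₂ ≤ L := hN₂Y.trans hNYL
  have hpL' : p ∣ Nat.card ↥⁅L, L⁆ :=
    hpN₂'.trans (Subgroup.card_dvd_of_le (Subgroup.commutator_mono hN₂L hN₂L))
  by_cases hLM : L = M
  · exact hpM' (hLM ▸ hpL')
  have hYL : Y ≤ L := Subgroup.le_normalizer.trans hNYL
  obtain ⟨S, hSI, hYS⟩ := BT.exists_isMaxP_ge (p := q) (H := M ⊓ L) hYq (le_inf hYM hYL)
  obtain ⟨Sy, hSy⟩ := hSI.exists_sylow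
  have h24 := Cfsg.Agent.S1424.result hG M hM q hqσM Y hYq hY1 hYM L hL hLM hNYL Sy
    (by rw [hSy]; exact hYS)
  rw [hSy] at h24
  obtain ⟨hneL, hNSM, hidx⟩ := h24
  have hneL' : ∀ g : G, L ≠ BG7.cj g M := hneL
  have hSM' : S ≤ M := hSI.1.trans inf_le_left
  have hSL : S ≤ L := hSI.1.trans inf_le_right
  have hSq : IsPGroup q S := hSI.2.1
  have hSLmax : BG8.IsMaxP q S L := isMaxP_of_not_dvd_relIndex hSL hSq hidx
  have hS1 : S ≠ ⊥ := fun h => hY1 (le_bot_iff.mp (h ▸ hYS))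
  have hq2 : q ≠ 2 := ne_two_of_dvd_card hG (BG8.dvd_card_of_isPGroup_ne_bot hYq hY1)
  by_cases hqσL : q ∈ sigma L
  · -- case (d)
    obtain ⟨-, hStop, hNSL⟩ := BT.sigma_sylow_le_commutator hG hL hqσL hSLmax
    have hqβL : q ∉ beta L :=
      fun h => Helper2.BGH.sigma_alpha_disjoint hG hM hL hneL' hqσM h.1
    have hd1 := d1 hG hL hStop hNSM hSL hqσL hqβL
    obtain ⟨BL, hBL⟩ : ∃ BL, BL = piCoreOf (beta L) L := ⟨_, rfl⟩
    obtain ⟨I, hI⟩ : ∃ I, I = L ⊓ M := ⟨_, rfl⟩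
    rw [← hBL, ← hI] at hd1
    have hIL : I ≤ L := hI ▸ inf_le_left
    have hIM : I ≤ M := hI ▸ inf_le_right
    have hLBL : L ≤ Subgroup.normalizer (BL : Set G) := hBL ▸ BG7.le_normalizer_piCoreOf _ _
    have hBLpi : ∀ t : ℕ, t.Prime → t ∣ Nat.card BL → t ∈ beta L := hBL ▸ BG7.piCoreOf_pi _ _
    have hL'le : ⁅L, L⁆ ≤ BL ⊔ ⁅I, I⁆ :=
      (Subgroup.commutator_mono hd1 hd1).trans (commutator_sup_le_sup (hIL.trans hLBL))
    have h1 : p ∣ Nat.card ↥(BL ⊔ ⁅I, I⁆) := hpL'.trans (Subgroup.card_dvd_of_le hL'le)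
    rcases prime_dvd_card_sup' ((Subgroup.commutator_le_self I).trans (hIL.trans hLBL)) hpp h1
      with h2 | h2
    · exact hpM' (h2.trans (Subgroup.card_dvd_of_le (Subgroup.commutator_mono hIM hIM)))
    · exact hpβ L (hBLpi p hpp h2)
  · -- case (e)
    have hSnc : ¬ IsCyclic ↥S := by
      intro hc
      apply hqσL
      exact Helper3.BG12.mem_sigma_of_isMaxP hSLmax hS1
        ((normalizer_le_of_isCyclic hc hYS).trans hNYL)
    obtain ⟨B', hB'S, -, hB'e, hB'2⟩ := BG9.exists_normal_elementary_sq hq2 hSq hSnc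
    have hB'M : B' ≤ M := hB'S.trans hSM'
    have hB'L : B' ≤ L := hB'S.trans hSL
    have hB'q : IsPGroup q B' := BG9.isPGroup_of_isElementaryAbelian hB'e
    have hr1 : ¬ PRankLE q 1 ↥L :=
      BG9.not_pRankLE_of_elementary hqq hB'L hB'e (by rw [hB'2])
    have hr2 : PRankLE q 2 ↥L := by
      by_contra hr; exact hqσL (BT.alpha_subset_sigma hG hL ⟨hqq, hr⟩)
    have hq2L : q ∈ tau2 L := ⟨hqq, hqσL, hr2, hr1⟩
    obtain ⟨EM, hEM⟩ := exists_compl hG hM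
    have hB'nc : ¬ IsCyclic ↥B' := BG9.not_isCyclic_of_elementary hqq le_rfl hB'e (by rw [hB'2])
    have hNB'M : Subgroup.normalizer (B' : Set G) ≤ M :=
      (Cfsg.Agent.S1420.result hG M hM EM hEM).2.2.1 q B' hqσM hB'q hB'M hB'nc
    have hB'σL : ∀ t : ℕ, t.Prime → t ∣ Nat.card B' → t ∉ sigma L := by
      intro t ht htd
      rw [prime_eq_of_dvd_card_pgroup hB'q ht htd]; exact hqσL
    obtain ⟨EL, hEL, hB'EL⟩ := exists_compl_ge hG hL hB'L hB'σL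
    have h18 := Cfsg.Agent.S1418.result hG L hL EL hEL q hq2L B' ⟨hB'EL, hB'e, hB'2⟩
    have hELM : EL ≤ M := h18.1.1.trans hNB'M
    have hELL : EL ≤ L := hEL.1
    have hLle : L ≤ sigmaCore L ⊔ EL := by
      intro l hl
      obtain ⟨a, ha, b, hb, rfl⟩ := hEL.2.2.2 l hl
      exact Subgroup.mul_mem _ ((le_sup_right : EL ≤ sigmaCore L ⊔ EL) ha)
        ((le_sup_left : sigmaCore L ≤ sigmaCore L ⊔ EL) hb)
    have hL'le : ⁅L, L⁆ ≤ sigmaCore L ⊔ ⁅EL, EL⁆ :=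
      (Subgroup.commutator_mono hLle hLle).trans
        (commutator_sup_le_sup (hELL.trans (Helper3.BG12.le_normalizer_sigmaCore L)))
    have h1 : p ∣ Nat.card ↥(sigmaCore L ⊔ ⁅EL, EL⁆) :=
      hpL'.trans (Subgroup.card_dvd_of_le hL'le)
    rcases prime_dvd_card_sup'
      ((Subgroup.commutator_le_self EL).trans (hELL.trans (Helper3.BG12.le_normalizer_sigmaCore L)))
      hpp h1 with h2 | h2
    · exact hpM' (h2.trans (Subgroup.card_dvd_of_le (Subgroup.commutator_mono hELM hELM)))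
    · have hpσL : p ∈ sigma L := (Helper7.BGA.s1350 hG L hL).1.2.1 p hpp h2
      exact h_lemma hG hM hL hneL' hqσM hq2L hB'M hB'L hB'e hB'2 hp1.2.2.1 hpσL (hpβ L)

theorem t2Hyp (hG : IsMinSimpleOddOrder G) : T2Hyp G :=
  fun M H hM hH hne p _ hp1 hpH h => ideal_of_tau1 hG hM hH hne hp1 hpH h

end Cfsg.Agent.Lib.Helper1.BGG
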