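import Mathlib
set_option autoImplicit false
open Pointwise

namespace Cfsg.Agent.Lib.Helper1

universe u

/-- In a finite cyclic `p`-group, two nontrivial subgroups intersect nontrivially. -/
theorem cyclic_pgroup_eq_bot_or_eq_bot {P : Type u} [Group P] [Finite P] {p : ℕ} [hp : Fact p.Prime]
    (hc : IsCyclic P) (hP : IsPGroup p P) (A B : Subgroup P) (h : A ⊓ B = ⊥) : A = ⊥ ∨ B = ⊥ := by
  by_contra hne
  push Not at hne
  obtain ⟨hA, hB⟩ := hne
  let _ : CommGroup P := IsCyclic.commGroup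
  let Ω : Subgroup P := (powMonoidHom p : P →* P).ker
  have hΩcard : Nat.card Ω ≤ p := by
    have : Nat.card Ω = Nat.gcd (Nat.card P) p := IsCyclic.card_powMonoidHom_ker (G := P) p
    rw [this]
    exact Nat.le_of_dvd hp.out.pos (Nat.gcd_dvd_right _ _)
  have key : ∀ C : Subgroup P, C ≠ ⊥ → ∃ c ∈ C, orderOf c = p ∧ Subgroup.zpowers c = Ω := by
    intro C hC
    have hCp : IsPGroup p C := hP.to_subgroup C
    have hCnt : Nontrivial C := (Subgroup.nontrivial_iff_ne_bot _).mpr hC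
    obtain ⟨k, hk⟩ := IsPGroup.iff_card.mp hCp
    have hk0 : k ≠ 0 := by
      rintro rfl
      rw [pow_zero] at hk
      have := Finite.one_lt_card (α := C)
      omega
    have hdvd : p ∣ Nat.card C := by rw [hk]; exact dvd_pow_self p hk0
    obtain ⟨c, hc⟩ := exists_prime_orderOf_dvd_card' p hdvd
    rw [← Subgroup.orderOf_coe] at hc
    have hcΩ : Subgroup.zpowers (c : P) ≤ Ω := by
      rw [Subgroup.zpowers_le]
      show (c : P) ^ p = 1
      rw [← hc, pow_orderOf_eq_one]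
    have hcard : Nat.card (Subgroup.zpowers (c : P)) = p := by
      rw [Nat.card_zpowers, hc]
    have heq : Subgroup.zpowers (c : P) = Ω := by
      apply Subgroup.eq_of_le_of_card_ge hcΩ
      rw [hcard]; exact hΩcard
    exact ⟨c, c.2, hc, heq⟩
  obtain ⟨a, haA, hao, haΩ⟩ := key A hA
  obtain ⟨b, hbB, hbo, hbΩ⟩ := key B hB
  have haB : a ∈ B := by
    have : a ∈ Subgroup.zpowers b := by rw [hbΩ, ← haΩ]; exact Subgroup.mem_zpowers a
    exact (Subgroup.zpowers_le.mpr hbB) this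
  have : a ∈ A ⊓ B := ⟨haA, haB⟩
  rw [h, Subgroup.mem_bot] at this
  rw [this, orderOf_one] at hao
  exact hp.out.one_lt.ne hao

theorem cyclic_pgroup_subgroup_eq_bot_or_eq_bot {G : Type u} [Group G] [Finite G] {p : ℕ} [hp : Fact p.Prime]
    (P : Subgroup G) (hc : IsCyclic P) (hP : IsPGroup p P) (A B : Subgroup G) (hA : A ≤ P) (hB : B ≤ P)
    (h : A ⊓ B = ⊥) : A = ⊥ ∨ B = ⊥ := by
  have h' : A.subgroupOf P ⊓ B.subgroupOf P = ⊥ := by
    rw [eq_bot_iff]
    intro x hx
    obtain ⟨hxA, hxB⟩ := Subgroup.mem_inf.mp hx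
    rw [Subgroup.mem_subgroupOf] at hxA hxB
    have : (x : G) ∈ A ⊓ B := ⟨hxA, hxB⟩
    rw [h, Subgroup.mem_bot] at this
    rw [Subgroup.mem_bot]
    exact Subtype.ext this
  rcases cyclic_pgroup_eq_bot_or_eq_bot hc hP _ _ h' with h1 | h1
  · left
    rw [Subgroup.subgroupOf_eq_bot] at h1
    exact disjoint_self.mp (h1.mono_right hA)
  · right
    rw [Subgroup.subgroupOf_eq_bot] at h1
    exact disjoint_self.mp (h1.mono_right hB)

end Cfsg.Agent.Lib.Helper1
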