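import Mathlib
import Cfsg.Agent.Lib.Helper1.BGG7
import Cfsg.Agent.Lib.Helper1.AbelianHall
import Cfsg.Agent.Lib.Helper7.BGK2
import Cfsg.Agent.Lib.Helper3.BG13g
import Cfsg.Agent.S1415
import Cfsg.Agent.S1427
import Cfsg.Agent.S1428

set_option autoImplicit false
set_option maxHeartbeats 4000000
set_option linter.unusedVariables false
set_option linter.unusedSectionVars false
set_option linter.style.longLine false
set_option linter.unusedSimpArgs false
set_option linter.deprecated false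
set_option linter.style.haveILetI false

/-!
# B&G section 13/14, part 8: toolbox for Theorem 14.2 (S1430)
-/

open scoped commutatorElement Pointwise
universe u
namespace Cfsg.Agent.Lib.Helper1.BGG

open Cfsg Cfsg.Agent.Lib.Helper1 Cfsg.Agent.Lib.Helper7.BGRows

variable {G : Type u} [Group G] [Finite G]

/-- every prime divisor of `|H|` is in exactly one of `σ, τ₁, τ₂, τ₃` -/
theorem type_cases (hG : IsMinSimpleOddOrder G) {H : Subgroup G} (hH : IsCoatom H) {r : ℕ}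
    (hr : r.Prime) (hrH : r ∣ Nat.card H) :
    r ∈ sigma H ∨ r ∈ tau1 H ∨ r ∈ tau2 H ∨ r ∈ tau3 H := by
  by_cases h1 : r ∈ sigma H
  · exact Or.inl h1
  · by_cases h2 : PRankLE r 1 ↥H
    · by_cases h3 : r ∣ Nat.card ↥⁅H, H⁆
      · exact Or.inr (Or.inr (Or.inr ⟨hr, h1, h3, h2⟩))
      · exact Or.inr (Or.inl ⟨hr, h1, hrH, h3, h2⟩)
    · refine Or.inr (Or.inr (Or.inl ⟨hr, h1, ?_, h2⟩))
      by_contra h3
      exact h1 (BT.alpha_subset_sigma hG hH ⟨hr, h3⟩)

/-- a maximal subgroup containing `N(P)`, `|P| = p` with `M` of `p`-rank one and `p ∉ σ(M)`, is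
not conjugate to `M` -/
theorem not_conj_of_normalizer_le' (hG : IsMinSimpleOddOrder G) {M H : Subgroup G}
    (hM : IsCoatom M) {p : ℕ} [hp : Fact p.Prime] (hpσ : p ∉ sigma M) (hp1 : PRankLE p 1 ↥M)
    {P : Subgroup G} (hP : Nat.card P = p) (hNP : Subgroup.normalizer (P : Set G) ≤ H) :
    ∀ g : G, H ≠ BG7.cj g M := by
  intro g hg
  have hM' : BG7.cj g⁻¹ H = M := by rw [hg, BG7.cj_inv_cj]
  have hN : Subgroup.normalizer (BG7.cj g⁻¹ P : Set G) ≤ M := by
    rw [← BT.cj_normalizer, ← hM']; exact BG7.cj_mono hNP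
  have := (BT.s1409 hG hM hpσ (by rw [BG7.card_cj]; exact hP) hN).1.2
  exact this hp1

/-- S1427 for an arbitrary `p`-subgroup of a complement, `M` of `p`-rank one -/
theorem s1427' (hG : IsMinSimpleOddOrder G) {M E : Subgroup G} (hM : IsCoatom M)
    (hE : IsComplIn E (sigmaCore M) M) {p : ℕ} [hp : Fact p.Prime] (hp1 : PRankLE p 1 ↥M)
    {T : Subgroup G} (hTE : T ≤ E) (hT : IsPGroup p T) {x : G} (hxT : x ∈ T) (hx1 : x ≠ 1) :
    sigmaCore M ⊓ Subgroup.centralizer ({x} : Set G) ≤ Subgroup.centralizer (T : Set G) := by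
  classical
  have hpT : p ∣ Nat.card T := by
    apply BG8.dvd_card_of_isPGroup_ne_bot hT
    intro h
    rw [h] at hxT
    exact hx1 (Subgroup.mem_bot.mp hxT)
  have hp2 : p ≠ 2 := ne_two_of_dvd_card hG hpT
  have hT' : IsPGroup p (T.subgroupOf E) := by
    have : IsPGroup p T := hT
    exact IsPGroup.of_injective this (Subgroup.subgroupOfEquivOfLe hTE).toMonoidHom
      (Subgroup.subgroupOfEquivOfLe hTE).injective
  obtain ⟨S, hS⟩ := hT'.exists_le_sylow
  have hSE : (S : Subgroup ↥E).map E.subtype ≤ M := (Subgroup.map_subtype_le _).trans hE.1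
  have hSp : IsPGroup p ((S : Subgroup ↥E).map E.subtype) := S.isPGroup'.map _
  have hcyc' : IsCyclic ↥((S : Subgroup ↥E).map E.subtype) :=
    Helper7.BGB.isCyclic_of_pRankLE_one hp2 hSE hSp hp1
  have hcyc : IsCyclic ↥(S : Subgroup ↥E) := by
    have e := (S : Subgroup ↥E).equivMapOfInjective E.subtype E.subtype_injective
    exact isCyclic_of_surjective e.symm.toMonoidHom e.symm.surjective
  have hxS : x ∈ (S : Subgroup ↥E).map E.subtype := by
    refine ⟨⟨x, hTE hxT⟩, hS ?_, rfl⟩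
    rw [Subgroup.mem_subgroupOf]; exact hxT
  have hS1 : (S : Subgroup ↥E) ≠ ⊥ := by
    intro h
    rw [h, Subgroup.map_bot] at hxS
    exact hx1 (Subgroup.mem_bot.mp hxS)
  have h27 := Cfsg.Agent.S1427.result hG M hM E hE p S hS1 hcyc x hxS hx1
  rw [h27]
  refine inf_le_right.trans (Subgroup.centralizer_le ?_)
  intro t ht
  exact ⟨⟨t, hTE ht⟩, hS (by rw [Subgroup.mem_subgroupOf]; exact ht), rfl⟩

/-- **Lemma X**: if `H` has `p`-rank one, `p ∉ σ(H)` and some nonidentity element of the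
`p`-subgroup `T` of `H` centralizes `R₀ ≤ H_σ`, then `T` centralizes `R₀`. -/
theorem lemmaX (hG : IsMinSimpleOddOrder G) {H : Subgroup G} (hH : IsCoatom H) {p : ℕ}
    [hp : Fact p.Prime] (hpσ : p ∉ sigma H) (hp1 : PRankLE p 1 ↥H) {T R₀ : Subgroup G}
    (hTH : T ≤ H) (hT : IsPGroup p T) (hR₀ : R₀ ≤ sigmaCore H) {x : G} (hxT : x ∈ T)
    (hx1 : x ≠ 1) (hxR : x ∈ Subgroup.centralizer (R₀ : Set G)) :
    T ≤ Subgroup.centralizer (R₀ : Set G) := by
  obtain ⟨E, hE, hTE⟩ := exists_compl_ge hG hH hTH (by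
    intro q hq hqd
    have : q = p := prime_eq_of_dvd_card_pgroup hT hq hqd
    exact this ▸ hpσ)
  have h := s1427' hG hH hE hp1 hTE hT hxT hx1
  have hR : R₀ ≤ sigmaCore H ⊓ Subgroup.centralizer ({x} : Set G) := by
    refine le_inf hR₀ ?_
    intro y hy
    rw [Subgroup.mem_centralizer_singleton_iff]
    exact (Subgroup.mem_centralizer_iff.mp hxR y hy)
  exact Subgroup.le_centralizer_iff.mp (hR.trans h)

/-- a prime `p ∈ κ(M)`: every subgroup of order `p` of `M` centralizes a nonidentity element of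
`M_σ` -/
theorem kappa_centralizer_ne_bot {M : Subgroup G} {p : ℕ} [hp : Fact p.Prime] (hκ : p ∈ kappa M)
    {X : Subgroup G} (hXM : X ≤ M) (hX : Nat.card X = p) :
    sigmaCore M ⊓ Subgroup.centralizer (X : Set G) ≠ ⊥ := by
  classical
  obtain ⟨hpp, hpM, hpσ, hall⟩ := hκ
  have hXp : IsPGroup p X := isPGroup_of_card_prime hX
  have hX' : IsPGroup p (X.subgroupOf M) :=
    IsPGroup.of_injective hXp (Subgroup.subgroupOfEquivOfLe hXM).toMonoidHom
      (Subgroup.subgroupOfEquivOfLe hXM).injective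
  obtain ⟨P, hP⟩ := hX'.exists_le_sylow
  obtain ⟨hcyc, x, hxP, hx1, y, hyσ, hy1, hxy⟩ := hall P
  obtain ⟨k, hkX, hko, hXk⟩ := exists_generator_of_card_prime hX
  have hkP : (⟨k, hXM hkX⟩ : ↥M) ∈ (P : Subgroup ↥M) := hP (by
    rw [Subgroup.mem_subgroupOf]; exact hkX)
  have hko' : orderOf (⟨k, hXM hkX⟩ : ↥M) = p := by
    rw [← hko]
    exact (Subgroup.orderOf_mk k (hXM hkX))
  have hmem := Helper7.BGK.mem_zpowers_of_cyclic (P : Subgroup ↥M) hcyc P.isPGroup' hkP hxP hko' hx1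
  intro hbot
  apply hy1
  have hyC : y ∈ Subgroup.centralizer (X : Set G) := by
    rw [hXk, BT.centralizer_zpowers_eq, Subgroup.mem_centralizer_singleton_iff]
    obtain ⟨n, hn⟩ := Subgroup.mem_zpowers_iff.mp hmem
    have hk' : k = (x : G) ^ n := by
      have := congrArg Subtype.val hn
      simpa using this.symm
    rw [hk']
    have hc : Commute (x : G) y := hxy
    exact (hc.zpow_left n).eq.symm
  have : y ∈ sigmaCore M ⊓ Subgroup.centralizer (X : Set G) := ⟨hyσ, hyC⟩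
  rw [hbot] at this
  exact Subgroup.mem_bot.mp this

/-- converse: a subgroup of prime order `p` of `M` (`p ∉ σ(M)`, `p`-rank one) centralizing a
nonidentity element of `M_σ` puts `p` in `κ(M)` -/
theorem mem_kappa_of_centralizer_ne_bot (hG : IsMinSimpleOddOrder G) {M : Subgroup G}
    (hM : IsCoatom M) {p : ℕ} [hp : Fact p.Prime] (hpσ : p ∉ sigma M) (hp1 : PRankLE p 1 ↥M)
    {X : Subgroup G} (hXM : X ≤ M) (hX : Nat.card X = p)
    (hne : sigmaCore M ⊓ Subgroup.centralizer (X : Set G) ≠ ⊥) : p ∈ kappa M := by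
  obtain ⟨k, hkX, hko, hXk⟩ := exists_generator_of_card_prime hX
  obtain ⟨y, hy, hy1⟩ : ∃ y ∈ sigmaCore M ⊓ Subgroup.centralizer (X : Set G), y ≠ 1 := by
    by_contra hcon
    push Not at hcon
    apply hne
    rw [eq_bot_iff]
    intro y hy
    exact Subgroup.mem_bot.mpr (hcon y hy)
  refine Helper7.BGK.mem_kappa_of_rank_one hG hM hpσ hp1 (hXM hkX) hko hy.1 hy1 ?_
  exact (Subgroup.mem_centralizer_iff.mp hy.2 k hkX)

/-- `τ₃`-subgroups of a complement lie in its derived subgroup -/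
theorem tau3_le_commutator_compl (hG : IsMinSimpleOddOrder G) {M E : Subgroup G} (hM : IsCoatom M)
    (hE : IsComplIn E (sigmaCore M) M) {r : ℕ} [hr : Fact r.Prime] (hr3 : r ∈ tau3 M)
    {R : Subgroup G} (hRE : R ≤ E) (hR : IsPGroup r R) :
    R ≤ ⁅E, E⁆ ∧ ∃ E₃ : Subgroup G, IsPiHallOf (tau3 M) E₃ E ∧ IsCyclic ↥E₃ ∧ E₃ ≤ ⁅E, E⁆ ∧
      E ≤ Subgroup.normalizer (E₃ : Set G) ∧ R ≤ E₃ := by
  haveI hMs : Group.IsSolvable ↥M := BG7.isSolvable_of_ne_top hG hM.1
  haveI hEs : Group.IsSolvable ↥E := isSolvable_of_le hE.1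
  obtain ⟨E₃, hE₃⟩ := Helper7.BGK.exists_isPiHallOf E hEs (tau3 M)
  obtain ⟨hcyc, hle, hnorm⟩ := (Cfsg.Agent.S1415.result hG M hM E hE).2.2 E₃ hE₃
  obtain ⟨m, hm, hRm⟩ := Helper7.BGK.exists_cj_le_of_hall hEs hE₃ hRE (by
    intro q hq hqd
    have : q = r := prime_eq_of_dvd_card_pgroup hR hq hqd
    exact this ▸ hr3)
  rw [BG7.cj_eq_of_mem_normalizer (hnorm hm)] at hRm
  exact ⟨hRm.trans hle, E₃, hE₃, hcyc, hle, hnorm, hRm⟩

/-- a subgroup of order `r ∈ τ₃(M)` of a complement `E` is normal in `E` -/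
theorem tau3_normal_compl (hG : IsMinSimpleOddOrder G) {M E : Subgroup G} (hM : IsCoatom M)
    (hE : IsComplIn E (sigmaCore M) M) {r : ℕ} [hr : Fact r.Prime] (hr3 : r ∈ tau3 M)
    {R₀ : Subgroup G} (hRE : R₀ ≤ E) (hR₀ : Nat.card R₀ = r) :
    E ≤ Subgroup.normalizer (R₀ : Set G) := by
  obtain ⟨-, E₃, hE₃, hcyc, hle, hnorm, hR₀E₃⟩ :=
    tau3_le_commutator_compl hG hM hE hr3 hRE (isPGroup_of_card_prime hR₀)
  intro e he
  apply BG7.mem_normalizer_of_cj_eq
  haveI := hcyc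
  apply Helper3.subgroup_eq_of_card_eq_of_le_isCyclic E₃ _ _ ?_ hR₀E₃ (by rw [BG7.card_cj])
  have := BG7.cj_mono (k := e) hR₀E₃
  rwa [BG7.cj_eq_of_mem_normalizer (hnorm he)] at this

end Cfsg.Agent.Lib.Helper1.BGG
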