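import Mathlib
import Cfsg.Agent.Lib.Helper1.BGG8
import Cfsg.Agent.Lib.Helper3.BG14g
import Cfsg.Agent.Lib.Helper1.CoprimeAbelian
import Cfsg.Agent.Lib.Helper7.BGE2
import Cfsg.Agent.S1417
import Cfsg.Agent.S1418
import Cfsg.Agent.S1424

set_option autoImplicit false
set_option maxHeartbeats 4000000
set_option linter.unusedVariables false
set_option linter.unusedSectionVars false
set_option linter.style.longLine false
set_option linter.unusedSimpArgs false
set_option linter.deprecated false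
set_option linter.style.haveILetI false

/-!
# B&G section 14, part 9: statement (C3)

If `p ∈ κ(M)`, `X ≤ M` has order `p` and `H` is a maximal subgroup containing `N_G(X)`, then
`p ∈ σ(H)`.
-/

open scoped commutatorElement Pointwise
universe u
namespace Cfsg.Agent.Lib.Helper1.BGG

open Cfsg Cfsg.Agent.Lib.Helper1 Cfsg.Agent.Lib.Helper7.BGRows

variable {G : Type u} [Group G] [Finite G]

/-- step (5a): an elementary abelian `p²` (with `M` of `p`-rank one, `p` not ideal) cannot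
centralize an element of prime order of `M_σ` -/
theorem c3_5a (hG : IsMinSimpleOddOrder G) {M : Subgroup G} (hM : IsCoatom M) {p : ℕ}
    [hp : Fact p.Prime] (hpM : p ∣ Nat.card M) (hpσ : p ∉ sigma M) (hp1 : PRankLE p 1 ↥M)
    (hpi : ¬ IsIdealPrime p G) {A : Subgroup G} (hAe : IsElementaryAbelian p A)
    (hA2 : Nat.card A = p ^ 2) {y : G} (hy : y ∈ sigmaCore M) {q : ℕ} [hq : Fact q.Prime]
    (hyo : orderOf y = q) (hAy : A ≤ Subgroup.centralizer ({y} : Set G)) : False := by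
  classical
  have hpp := hp.out
  have hqq := hq.out
  obtain ⟨Y, hY⟩ : ∃ Y : Subgroup G, Y = Subgroup.zpowers y := ⟨_, rfl⟩
  have hYc : Nat.card Y = q := by rw [hY, Nat.card_zpowers, hyo]
  have hYq : IsPGroup q Y := isPGroup_of_card_prime hYc
  have hY1 : Y ≠ ⊥ := ne_bot_of_card_prime hYc
  have hYσ : Y ≤ sigmaCore M := by rw [hY]; exact (Subgroup.zpowers_le.mpr hy)
  have hYM : Y ≤ M := hYσ.trans (Helper3.BG12.sigmaCore_le M)
  have hqσM : q ∈ sigma M := by
    apply (Helper7.BGA.s1350 hG M hM).1.2.1 q hqq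
    rw [← hYc]; exact Subgroup.card_dvd_of_le hYσ
  have hAp : IsPGroup p A := BG9.isPGroup_of_isElementaryAbelian hAe
  have hNYtop := BG7.normalizer_ne_top hG hY1 (BG7.pgroup_ne_top hG hYq)
  obtain ⟨L, hL, hNYL⟩ := (eq_top_or_exists_le_coatom _).resolve_left hNYtop
  have hAL : A ≤ L := by
    refine le_trans ?_ hNYL
    refine le_trans ?_ (Subgroup.centralizer_le_normalizer _)
    rw [hY, BT.centralizer_zpowers_eq]; exact hAy
  by_cases hLM : L = M
  · exact false_of_sq_cj hp1 hAe hA2 (m := 1) (by rw [BG7.cj_one]) (hLM ▸ hAL)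
  have hYL : Y ≤ L := Subgroup.le_normalizer.trans hNYL
  obtain ⟨S, hSI, hYS⟩ := BT.exists_isMaxP_ge (p := q) (H := M ⊓ L) hYq (le_inf hYM hYL)
  obtain ⟨Sy, hSy⟩ := hSI.exists_sylow
  have h24 := Cfsg.Agent.S1424.result hG M hM q hqσM Y hYq hY1 hYM L hL hLM hNYL Sy
    (by rw [hSy]; exact hYS)
  rw [hSy] at h24
  obtain ⟨hneL, hNSM, hidx⟩ := h24
  have hneL' : ∀ g : G, L ≠ BG7.cj g M := hneL
  have hSM' : S ≤ M := hSI.1.trans inf_le_left
  have hSL : S ≤ L := hSI.1.trans inf_le_right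
  have hSq : IsPGroup q S := hSI.2.1
  have hSLmax : BG8.IsMaxP q S L := isMaxP_of_not_dvd_relIndex hSL hSq hidx
  have hpβ : p ∉ beta L := fun h => hpi h.2
  by_cases hqσL : q ∈ sigma L
  · have hd1 := Helper3.BG13.d1 hG hM hL hneL' hqσM hqσL hSLmax
    obtain ⟨BL, hBL⟩ : ∃ BL, BL = piCoreOf (beta L) L := ⟨_, rfl⟩
    rw [← hBL] at hd1
    have hBLL : BL ≤ L := hBL ▸ BG7.piCoreOf_le _ _
    have hLBL : L ≤ Subgroup.normalizer (BL : Set G) := hBL ▸ BG7.le_normalizer_piCoreOf _ _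
    have hBLpi : ∀ t : ℕ, t.Prime → t ∣ Nat.card BL → t ∈ beta L := hBL ▸ BG7.piCoreOf_pi _ _
    obtain ⟨n, hn, hnA⟩ := Helper3.BG13.exists_cj_le_of_prod (p := p) hBLL inf_le_left hLBL hd1
      (fun h => hpβ (hBLpi p hpp h)) hAL hAp
    have h1 : BG7.cj n A ≤ M := hnA.trans (inf_le_right.trans hNSM)
    exact BG9.not_pRankLE_of_elementary hpp h1 (BG9.isElementaryAbelian_cj n hAe)
      (by rw [BG7.card_cj, hA2]) hp1
  · obtain ⟨hq2L, B, EL, hBS, hBe, hB2, hEL, hBEL, hELM⟩ :=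
      Helper3.BG13.e13 hG hM hL hqσM hqσL hY1 hNYL hYS hSLmax hSM'
    by_cases hpσL : p ∈ sigma L
    · exact hpβ (Helper3.BG13.h_beta hG hM hL hneL' hqσM hq2L (hBS.trans hSM') (hBS.trans hSL)
        hBe hB2 hpM hpσL)
    · obtain ⟨m, hm, hAm⟩ := Helper7.BGD.exists_cj_le hG hL hEL hAL
        (Helper7.BGD.coprime_sigmaCore hG hL (by
          intro t ht htd
          rw [prime_eq_of_dvd_card_pgroup hAp ht htd]; exact hpσL))
      exact false_of_sq_cj hp1 hAe hA2 hAm hELM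

/-- **(C3)** -/
theorem c3 (hG : IsMinSimpleOddOrder G) {M H : Subgroup G} (hM : IsCoatom M) (hH : IsCoatom H)
    {p : ℕ} [hp : Fact p.Prime] (hκ : p ∈ kappa M) {X : Subgroup G} (hXM : X ≤ M)
    (hX : Nat.card X = p) (hNX : Subgroup.normalizer (X : Set G) ≤ H) : p ∈ sigma H := by
  classical
  by_contra hpσH
  have hpp := hp.out
  have hpM : p ∣ Nat.card M := hκ.2.1
  have hpσ : p ∉ sigma M := hκ.2.2.1
  have hp1 : PRankLE p 1 ↥M := Helper7.BGK.pRankLE_one_of_kappa hκ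
  obtain ⟨⟨hr2, hr1⟩, hpi, -⟩ := BT.s1409 hG hH hpσH hX hNX
  have hp2 : p ∈ tau2 H := ⟨hpp, hpσH, hr2, hr1⟩
  have hnc := not_conj_of_normalizer_le' hG hM hpσ hp1 hX hNX
  obtain ⟨A₁, hA₁H, hA₁e, hA₁2⟩ := Helper7.BGD.exists_sq_of_rank hr2 hr1
  have h17 := Cfsg.Agent.S1417.result hG H hH p hp2 A₁ ⟨hA₁H, hA₁e, hA₁2⟩
  have hnil := h17.1
  have hdisj : ∀ q : ℕ, q ∈ sigma M → q ∈ sigma H → False := by
    intro q hqM hqH
    haveI : Fact q.Prime := ⟨hqM.1⟩
    exact Helper3.BG13.sigma_disjoint_of_nilpotent hG hM hH hnc hnil hqM hqH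
  have hXH : X ≤ H := Subgroup.le_normalizer.trans hNX
  have hXp : IsPGroup p X := isPGroup_of_card_prime hX
  obtain ⟨D, hD⟩ : ∃ D, D = sigmaCore M ⊓ Subgroup.centralizer (X : Set G) := ⟨_, rfl⟩
  have hD1 : D ≠ ⊥ := hD ▸ kappa_centralizer_ne_bot hκ hXM hX
  have hDσ : D ≤ sigmaCore M := hD ▸ inf_le_left
  have hDC : D ≤ Subgroup.centralizer (X : Set G) := hD ▸ inf_le_right
  have hDN : D ≤ Subgroup.normalizer (X : Set G) :=
    hDC.trans (Subgroup.centralizer_le_normalizer _)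
  have hDH : D ≤ H := hDN.trans hNX
  have hDσ' : ∀ q : ℕ, q.Prime → q ∣ Nat.card D → q ∈ sigma M := by
    intro q hq hqd
    exact (Helper7.BGA.s1350 hG M hM).1.2.1 q hq (hqd.trans (Subgroup.card_dvd_of_le hDσ))
  have hKσ : ∀ q : ℕ, q.Prime → q ∣ Nat.card ↥(X ⊔ D) → q ∉ sigma H := by
    intro q hq hqd
    rcases prime_dvd_card_sup' hDN hq hqd with h | h
    · exact fun hqH => hdisj q (hDσ' q hq h) hqH
    · rw [prime_eq_of_dvd_card_pgroup hXp hq h]; exact hpσH
  obtain ⟨EH, hEH, hKEH⟩ := exists_compl_ge hG hH (sup_le hXH hDH) hKσ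
  have hXEH : X ≤ EH := le_sup_left.trans hKEH
  have hDEH : D ≤ EH := le_sup_right.trans hKEH
  -- the `E_{p²}` of `E_H`
  obtain ⟨m, hm, hA₁m⟩ := Helper7.BGD.exists_cj_le hG hH hEH hA₁H
    (Helper7.BGD.coprime_sigmaCore hG hH (by
      intro t ht htd
      rw [prime_eq_of_dvd_card_pgroup (BG9.isPGroup_of_isElementaryAbelian hA₁e) ht htd]
      exact hpσH))
  obtain ⟨A, hAdef⟩ : ∃ A, A = BG7.cj m⁻¹ A₁ := ⟨_, rfl⟩
  have hAEH : A ≤ EH := by
    rw [hAdef]; have := BG7.cj_mono (k := m⁻¹) hA₁m; rwa [BG7.cj_inv_cj] at this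
  have hAe : IsElementaryAbelian p A := hAdef ▸ BG9.isElementaryAbelian_cj m⁻¹ hA₁e
  have hA2 : Nat.card A = p ^ 2 := by rw [hAdef, BG7.card_cj, hA₁2]
  have hA : A ≤ EH ∧ IsElementaryAbelian p A ∧ Nat.card A = p ^ 2 := ⟨hAEH, hAe, hA2⟩
  have hAp : IsPGroup p A := BG9.isPGroup_of_isElementaryAbelian hAe
  have h18 := Cfsg.Agent.S1418.result hG H hH EH hEH p hp2 A hA
  have hEHA : EH ≤ Subgroup.normalizer (A : Set G) := h18.1.1
  have hXA : X ≤ A := h18.1.2 X hXEH hX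
  have hbp := Helper3.BG13.bprime hG hM hH hnc hp2 hpM hpσ
  -- pick `y`
  obtain ⟨q, hq, hqD⟩ : ∃ q : ℕ, q.Prime ∧ q ∣ Nat.card D := by
    apply Nat.exists_prime_and_dvd
    intro h; exact hD1 (Subgroup.card_eq_one.mp h)
  haveI hqF : Fact q.Prime := ⟨hq⟩
  obtain ⟨⟨y, hyD⟩, hyo'⟩ := exists_prime_orderOf_dvd_card' q hqD
  have hyo : orderOf y = q := by rw [← hyo']; exact (Subgroup.orderOf_mk y hyD).symm
  have hyσM : y ∈ sigmaCore M := hDσ hyD
  have hyX : y ∈ Subgroup.centralizer (X : Set G) := hDC hyD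
  have hyEH : y ∈ EH := hDEH hyD
  have hyH : y ∈ H := hDH hyD
  have hy1 : y ≠ 1 := by
    intro h; rw [h, orderOf_one] at hyo; exact hq.one_lt.ne hyo
  have hqσM : q ∈ sigma M := hDσ' q hq hqD
  have hqσH : q ∉ sigma H := fun h => hdisj q hqσM h
  have hqH : q ∣ Nat.card H := by rw [← hyo]; exact Subgroup.orderOf_dvd_natCard H hyH
  have hpq : p ≠ q := fun h => hpσ (h ▸ hqσM)
  -- (5a)
  have h5a : ¬ A ≤ Subgroup.centralizer ({y} : Set G) :=
    fun h => c3_5a hG hM hpM hpσ hp1 hpi hAe hA2 hyσM hyo h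
  have hXle : X ≤ A ⊓ Subgroup.centralizer ({y} : Set G) := by
    refine le_inf hXA ?_
    intro x hx
    rw [Subgroup.mem_centralizer_singleton_iff]
    exact (Subgroup.mem_centralizer_iff.mp hyX x hx)
  have hXeq : A ⊓ Subgroup.centralizer ({y} : Set G) = X := by
    symm
    apply Subgroup.eq_of_le_of_card_ge hXle
    rw [hX]
    have hlt : A ⊓ Subgroup.centralizer ({y} : Set G) < A :=
      lt_of_le_of_ne inf_le_left (fun h => h5a (h ▸ inf_le_right))
    have hdvd : Nat.card ↥(A ⊓ Subgroup.centralizer ({y} : Set G)) ∣ p ^ 2 :=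
      hA2 ▸ Subgroup.card_dvd_of_le inf_le_left
    obtain ⟨j, hj, hjc⟩ := (Nat.dvd_prime_pow hpp).mp hdvd
    have hj2 : j ≠ 2 := by
      intro h2
      apply hlt.ne
      apply Subgroup.eq_of_le_of_card_ge inf_le_left
      rw [hjc, h2, hA2]
    have hj1 : j ≤ 1 := by omega
    rw [hjc]
    calc p ^ j ≤ p ^ 1 := Nat.pow_le_pow_right hpp.pos hj1
      _ = p := pow_one p
  have hXc : Nat.card ↥(A ⊓ Subgroup.centralizer ({y} : Set G)) = p := by rw [hXeq, hX]
  have hNX' : Subgroup.normalizer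
      ((A ⊓ Subgroup.centralizer ({y} : Set G) : Subgroup G) : Set G) ≤ H := by
    rw [hXeq]; exact hNX
  -- (5b)
  obtain ⟨Y, hY⟩ : ∃ Y : Subgroup G, Y = Subgroup.zpowers y := ⟨_, rfl⟩
  have hYc : Nat.card Y = q := by rw [hY, Nat.card_zpowers, hyo]
  have hYq : IsPGroup q Y := isPGroup_of_card_prime hYc
  have hYEH : Y ≤ EH := by rw [hY]; exact Subgroup.zpowers_le.mpr hyEH
  have hYH : Y ≤ H := hYEH.trans hEH.1
  have hyY : y ∈ Y := hY ▸ Subgroup.mem_zpowers y
  have hq3 : q ∉ tau3 H := by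
    intro h3
    have h1 := Helper3.BG13.tau3_le_commutator hG hH h3 hYH hYq
    have : y ∈ sigmaCore M ⊓ ⁅H, H⁆ := ⟨hyσM, h1 hyY⟩
    rw [hbp] at this
    exact hy1 (Subgroup.mem_bot.mp this)
  -- (5c)
  have hq2 : q ∉ tau2 H := by
    intro h2
    obtain ⟨B₁, hB₁H, hB₁e, hB₁2⟩ := Helper7.BGD.exists_sq_of_rank h2.2.2.1 h2.2.2.2
    obtain ⟨m', hm', hB₁m⟩ := Helper7.BGD.exists_cj_le hG hH hEH hB₁H
      (Helper7.BGD.coprime_sigmaCore hG hH (by
        intro t ht htd
        rw [prime_eq_of_dvd_card_pgroup (BG9.isPGroup_of_isElementaryAbelian hB₁e) ht htd]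
        exact hqσH))
    obtain ⟨B, hBdef⟩ : ∃ B, B = BG7.cj m'⁻¹ B₁ := ⟨_, rfl⟩
    have hBEH : B ≤ EH := by
      rw [hBdef]; have := BG7.cj_mono (k := m'⁻¹) hB₁m; rwa [BG7.cj_inv_cj] at this
    have hBe : IsElementaryAbelian q B := hBdef ▸ BG9.isElementaryAbelian_cj m'⁻¹ hB₁e
    have hB2 : Nat.card B = q ^ 2 := by rw [hBdef, BG7.card_cj, hB₁2]
    have h18' := Cfsg.Agent.S1418.result hG H hH EH hEH q h2 B ⟨hBEH, hBe, hB2⟩
    have hYB : Y ≤ B := h18'.1.2 Y hYEH hYc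
    have hEHB : EH ≤ Subgroup.normalizer (B : Set G) := h18'.1.1
    have hcomm : ⁅A, B⁆ = ⊥ := by
      rw [eq_bot_iff]
      have h1 : ⁅A, B⁆ ≤ A := BG8.commutator_le_of_le_normalizer (hBEH.trans hEHA)
      have h2' : ⁅A, B⁆ ≤ B := by
        rw [Subgroup.commutator_comm]
        exact BG8.commutator_le_of_le_normalizer (hAEH.trans hEHB)
      have h3 : A ⊓ B = ⊥ := Subgroup.inf_eq_bot_of_coprime
        (coprime_of_pgroups hpq hAp (BG9.isPGroup_of_isElementaryAbelian hBe))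
      exact h3 ▸ le_inf h1 h2'
    have hAB : A ≤ Subgroup.centralizer (B : Set G) :=
      Subgroup.commutator_eq_bot_iff_le_centralizer.mp hcomm
    apply h5a
    intro a ha
    rw [Subgroup.mem_centralizer_singleton_iff]
    exact (Subgroup.mem_centralizer_iff.mp (hAB ha) y (hYB hyY)).symm
  -- (5d)
  have hq1 : q ∈ tau1 H := by
    rcases type_cases hG hH hq hqH with h | h | h | h
    · exact absurd h hqσH
    · exact h
    · exact absurd h hq2
    · exact absurd h hq3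
  -- (6)
  have h6 : sigmaCore H ⊓ Subgroup.centralizer ({y} : Set G) ≠ ⊥ := by
    intro h0
    have hos := (Helper3.BG14.omega_struct hG hH hEH hp2 hA hyEH hXc hNX').2.2
    haveI : IsMulCommutative A := hAe.1
    have hYA : Y ≤ Subgroup.normalizer (A : Set G) := hYEH.trans hEHA
    have hcopYA : (Nat.card Y).Coprime (Nat.card A) := by
      rw [hYc, hA2]
      exact Nat.Coprime.pow_right 2 ((Nat.coprime_primes hq hpp).mpr (Ne.symm hpq))
    obtain ⟨hdec1, hdec2⟩ := coprime_abelian_decomposition Y A hYA hcopYA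
    obtain ⟨Z, hZ⟩ : ∃ Z, Z = ⁅A, Y⁆ := ⟨_, rfl⟩
    rw [← hZ] at hdec1 hdec2
    have hCY : Subgroup.centralizer (Y : Set G) = Subgroup.centralizer ({y} : Set G) := by
      rw [hY, BT.centralizer_zpowers_eq]
    rw [hCY] at hdec1 hdec2
    have hZA : Z ≤ A := hZ ▸ BG8.commutator_le_of_le_normalizer hYA
    have hYZ : Y ≤ Subgroup.normalizer (Z : Set G) := by
      rw [hZ]
      exact le_normalizer_commutator_of_le hYA Subgroup.le_normalizer
    have hZy : Z ⊓ Subgroup.centralizer ({y} : Set G) = ⊥ := by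
      rw [eq_bot_iff, ← hdec1]
      exact le_inf (le_inf (inf_le_left.trans hZA) inf_le_right) inf_le_left
    have hR1 : Y ≠ ⊥ := ne_bot_of_card_prime hYc
    have hfpf : ∀ r ∈ Y, r ≠ 1 → ∀ k ∈ Z, r * k = k * r → k = 1 := by
      intro r hr hr1 k hk hrk
      have hyr : y ∈ Subgroup.zpowers r := by
        have hle : Subgroup.zpowers r ≤ Y := Subgroup.zpowers_le.mpr hr
        have hne : Subgroup.zpowers r ≠ ⊥ := by
          intro h; exact hr1 (Subgroup.zpowers_eq_bot.mp h)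
        have hdvd : Nat.card (Subgroup.zpowers r) ∣ q := hYc ▸ Subgroup.card_dvd_of_le hle
        rcases (Nat.dvd_prime hq).mp hdvd with h | h
        · exact absurd (Subgroup.card_eq_one.mp h) hne
        · have : Subgroup.zpowers r = Y := Subgroup.eq_of_le_of_card_ge hle (by rw [h, hYc])
          rw [this]; exact hyY
      have hky : k ∈ Subgroup.centralizer ({y} : Set G) := by
        rw [Subgroup.mem_centralizer_singleton_iff]
        obtain ⟨n, hn⟩ := Subgroup.mem_zpowers_iff.mp hyr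
        rw [← hn]
        exact ((Commute.zpow_left (show Commute r k from hrk) n)).eq.symm
      have : k ∈ Z ⊓ Subgroup.centralizer ({y} : Set G) := ⟨hk, hky⟩
      rw [hZy] at this
      exact Subgroup.mem_bot.mp this
    have hZY_H : Z ⊔ Y ≤ H := sup_le (hZA.trans (hAEH.trans hEH.1)) hYH
    have hnorm : Z ⊔ Y ≤ Subgroup.normalizer ((sigmaCore H : Subgroup G) : Set G) :=
      hZY_H.trans (Helper3.BG12.le_normalizer_sigmaCore H)
    haveI hHs : Group.IsSolvable ↥H := BG7.isSolvable_of_ne_top hG hH.1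
    have hsolv : Group.IsSolvable ↥(sigmaCore H) := isSolvable_of_le (Helper3.BG12.sigmaCore_le H)
    have hcop : (Nat.card ↥(sigmaCore H)).Coprime (Nat.card ↥(Z ⊔ Y)) := by
      apply Nat.Coprime.symm
      apply Helper7.BGD.coprime_sigmaCore hG hH
      intro t ht htd
      rcases prime_dvd_card_sup' hYZ ht htd with h | h
      · rw [prime_eq_of_dvd_card_pgroup hYq ht h]; exact hqσH
      · rw [prime_eq_of_dvd_card_pgroup (hAp.to_le hZA) ht h]; exact hpσH
    have hff := FM.frob_formula Z Y hR1 hYZ hfpf (Nat.card ↥(sigmaCore H)) (sigmaCore H) rfl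
      hnorm hsolv hcop
    have hCR : sigmaCore H ⊓ Subgroup.centralizer (Y : Set G) = ⊥ := by rw [hCY]; exact h0
    have hCKR : sigmaCore H ⊓ Subgroup.centralizer ((Z ⊔ Y : Subgroup G) : Set G) = ⊥ := by
      rw [eq_bot_iff, ← hCR]
      exact inf_le_inf_left _ (Subgroup.centralizer_le (SetLike.coe_subset_coe.mpr le_sup_right))
    rw [hCR, hCKR, Subgroup.card_bot, one_pow, one_mul, one_mul] at hff
    have hσZ : sigmaCore H ≤ Subgroup.centralizer (Z : Set G) := by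
      have : sigmaCore H ⊓ Subgroup.centralizer (Z : Set G) = sigmaCore H :=
        Subgroup.eq_of_le_of_card_ge inf_le_left hff.le
      exact this.ge.trans inf_le_right
    have hAσ : A ≤ Subgroup.centralizer ((sigmaCore H : Subgroup G) : Set G) := by
      rw [← hdec2]
      apply sup_le
      · rw [hos]; exact inf_le_right
      · exact Subgroup.le_centralizer_iff.mp hσZ
    have h17' := Cfsg.Agent.S1417.result hG H hH p hp2 A ⟨hAEH.trans hEH.1, hAe, hA2⟩
    have hbot := h17'.2.2.2.1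
    apply Helper7.BGE.sigmaCore_ne_bot hG hH
    rw [eq_bot_iff, ← hbot]
    exact le_inf le_rfl (Subgroup.le_centralizer_iff.mp hAσ)
  -- (7)
  have h7 := Helper3.BG14.no_omega hG hH hEH hp2 hA hq1 hyEH hyo h6
  rw [h7, Subgroup.card_bot] at hXc
  exact hpp.one_lt.ne hXc

end Cfsg.Agent.Lib.Helper1.BGG
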