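import Mathlib
import Cfsg.Agent.Lib.Helper1.BGG9

set_option autoImplicit false
set_option maxHeartbeats 4000000
set_option linter.unusedVariables false
set_option linter.unusedSectionVars false
set_option linter.style.longLine false
set_option linter.unusedSimpArgs false
set_option linter.deprecated false
set_option linter.style.haveILetI false

/-!
# B&G section 14, part 10: the case `κ(M) ∩ τ₃(M) ≠ ∅` — structure and Lemma A
-/

open scoped commutatorElement Pointwise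
universe u
namespace Cfsg.Agent.Lib.Helper1.BGG

open Cfsg Cfsg.Agent.Lib.Helper1 Cfsg.Agent.Lib.Helper7.BGRows

variable {G : Type u} [Group G] [Finite G]

/-- a subgroup containing all Sylow subgroups (`IsMaxP`) of `E₁` contains `E₁` -/
theorem le_of_forall_isMaxP_le {E₁ Z : Subgroup G}
    (h : ∀ s : ℕ, s.Prime → s ∣ Nat.card E₁ → ∀ T : Subgroup G, BG8.IsMaxP s T E₁ → T ≤ Z) :
    E₁ ≤ Z := by
  apply Helper3.BG14.le_of_forall_prime_not_dvd_relIndex
  intro s hs hsd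
  haveI : Fact s.Prime := ⟨hs⟩
  have hsE : s ∣ Nat.card E₁ := hsd.trans (Subgroup.relIndex_dvd_card _ _)
  obtain ⟨T, hT, -⟩ := BT.exists_isMaxP_ge (p := s) (Y := ⊥) (H := E₁) IsPGroup.of_bot bot_le
  have hTZ : T ≤ E₁ ⊓ Z := le_inf hT.1 (h s hs hsE T hT)
  exact Helper3.BG13.not_dvd_relIndex_of_isMaxP hT
    (hsd.trans (Subgroup.relIndex_dvd_of_le_left E₁ hTZ))

/-- structure of a complement `E` of `M_σ` when `τ₂(M) = ∅` -/
theorem compl_struct (hG : IsMinSimpleOddOrder G) {M E E₁ E₃ : Subgroup G} (hM : IsCoatom M)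
    (hE : IsComplIn E (sigmaCore M) M) (hτ₂ : ∀ q : ℕ, q ∉ tau2 M)
    (hE₁ : IsPiHallOf (tau1 M) E₁ E) (hE₃ : IsPiHallOf (tau3 M) E₃ E) :
    IsCyclic ↥E₁ ∧ IsCyclic ↥E₃ ∧ E ≤ Subgroup.normalizer (E₃ : Set G) ∧ E₃ ≤ ⁅E, E⁆ ∧
      E₃ ⊔ E₁ = E ∧ E₃ ⊓ E₁ = ⊥ ∧ E₃ ⊓ Subgroup.centralizer (E₁ : Set G) = ⊥ := by
  classical
  have h15 := Cfsg.Agent.S1415.result hG M hM E hE
  have hc1 : IsCyclic ↥E₁ := h15.2.1 E₁ hE₁
  obtain ⟨hc3, hE₃', hEN₃⟩ := h15.2.2 E₃ hE₃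
  have hprimes : ∀ s : ℕ, s.Prime → s ∣ Nat.card E → s ∈ tau1 M ∨ s ∈ tau3 M := by
    intro s hs hsE
    have hsσ : s ∉ sigma M := Helper7.BGD.compl_not_sigma hG hM hE s hs hsE
    have hsM : s ∣ Nat.card M := hsE.trans (Subgroup.card_dvd_of_le hE.1)
    rcases type_cases hG hM hs hsM with h | h | h | h
    · exact absurd h hsσ
    · exact Or.inl h
    · exact absurd h (hτ₂ s)
    · exact Or.inr h
  have hsup_le : E₃ ⊔ E₁ ≤ E := sup_le hE₃.1 hE₁.1
  have hsup : E₃ ⊔ E₁ = E := by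
    apply le_antisymm hsup_le
    apply Helper3.BG14.le_of_forall_prime_not_dvd_relIndex
    intro s hs hsd
    have h1 : E ⊓ (E₃ ⊔ E₁) = E₃ ⊔ E₁ := inf_eq_right.mpr hsup_le
    rw [h1] at hsd
    have hsE : s ∣ Nat.card E := hsd.trans (Subgroup.relIndex_dvd_card _ _)
    rcases hprimes s hs hsE with h | h
    · exact hE₁.2.2 s hs h (hsd.trans (Subgroup.relIndex_dvd_of_le_left E le_sup_right))
    · exact hE₃.2.2 s hs h (hsd.trans (Subgroup.relIndex_dvd_of_le_left E le_sup_left))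
  have hcop : (Nat.card E₃).Coprime (Nat.card E₁) := by
    by_contra hc
    obtain ⟨s, hs, h1, h2⟩ := Nat.Prime.not_coprime_iff_dvd.mp hc
    exact (hE₁.2.1 s hs h2).2.2.2.1 (hE₃.2.1 s hs h1).2.2.1
  have hinf : E₃ ⊓ E₁ = ⊥ := Subgroup.inf_eq_bot_of_coprime hcop
  refine ⟨hc1, hc3, hEN₃, hE₃', hsup, hinf, ?_⟩
  rw [eq_bot_iff]
  intro z hz
  obtain ⟨hz3, hz1⟩ := hz
  have hzE : z ∈ E := hE₃.1 hz3
  haveI := hc3
  have hcE₃ : IsMulCommutative ↥E₃ := IsCyclic.isMulCommutative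
  have hcE : IsMulCommutative ↥(E₃.subgroupOf E) := by
    refine ⟨⟨?_⟩⟩
    rintro ⟨a, ha⟩ ⟨b, hb⟩
    have := hcE₃.is_comm.comm ⟨(a : G), Subgroup.mem_subgroupOf.mp ha⟩
      ⟨(b : G), Subgroup.mem_subgroupOf.mp hb⟩
    have h2 : (a : G) * b = b * a := congrArg Subtype.val this
    exact Subtype.ext (Subtype.ext h2)
  have hHallE : Nat.Coprime (Nat.card ↥(E₃.subgroupOf E)) (E₃.subgroupOf E).index := by
    rw [card_subgroupOf_of_le hE₃.1]
    have hidx : (E₃.subgroupOf E).index = E₃.relIndex E := rfl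
    rw [hidx]
    by_contra hc
    obtain ⟨s, hs, h1, h2⟩ := Nat.Prime.not_coprime_iff_dvd.mp hc
    exact hE₃.2.2 s hs (hE₃.2.1 s hs h1) h2
  have key := abelian_hall_inf_commutator_inf_center (E₃.subgroupOf E) hcE hHallE
  have hle : E ≤ Subgroup.centralizer ({z} : Set G) := by
    rw [← hsup]
    apply sup_le
    · intro a ha
      rw [Subgroup.mem_centralizer_singleton_iff]
      have := hcE₃.is_comm.comm ⟨a, ha⟩ ⟨z, hz3⟩
      exact congrArg Subtype.val this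
    · intro a ha
      rw [Subgroup.mem_centralizer_singleton_iff]
      exact (Subgroup.mem_centralizer_iff.mp hz1 a ha)
  have hzmem : (⟨z, hzE⟩ : ↥E) ∈ E₃.subgroupOf E ⊓ commutator ↥E ⊓ Subgroup.center ↥E := by
    refine ⟨⟨?_, ?_⟩, ?_⟩
    · exact Subgroup.mem_subgroupOf.mpr hz3
    · have : z ∈ (commutator ↥E).map E.subtype := by
        rw [Subgroup.map_subtype_commutator]; exact hE₃' hz3
      obtain ⟨w, hw, hwz⟩ := this
      have hw' : w = ⟨z, hzE⟩ := Subtype.ext hwz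
      rwa [← hw']
    · show (⟨z, hzE⟩ : ↥E) ∈ Subgroup.center ↥E
      rw [Subgroup.mem_center_iff]
      intro g
      apply Subtype.ext
      have := hle g.2
      rw [Subgroup.mem_centralizer_singleton_iff] at this
      exact this
  rw [key] at hzmem
  have := Subgroup.mem_bot.mp hzmem
  exact Subgroup.mem_bot.mpr (congrArg Subtype.val this)

/-- Lemma A, first part: `D = M_σ ∩ H = C_{M_σ}(R₀)` centralizes every Hall `τ₃(M)`-subgroup of
`E` -/
theorem lemmaA_aux (hG : IsMinSimpleOddOrder G) {M E H : Subgroup G} (hM : IsCoatom M)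
    (hE : IsComplIn E (sigmaCore M) M) {r : ℕ} [hr : Fact r.Prime] (hrκ : r ∈ kappa M)
    (hr3 : r ∈ tau3 M) {R₀ : Subgroup G} (hR₀E : R₀ ≤ E) (hR₀ : Nat.card R₀ = r)
    (hH : IsCoatom H) (hNR : Subgroup.normalizer (R₀ : Set G) ≤ H) :
    E ≤ H ∧ (∀ g : G, H ≠ BG7.cj g M) ∧ (∀ q : ℕ, q ∉ tau2 M) ∧ r ∈ sigma H ∧
      sigmaCore M ⊓ H = sigmaCore M ⊓ Subgroup.centralizer (R₀ : Set G) ∧
      (∀ E₃ : Subgroup G, IsPiHallOf (tau3 M) E₃ E →
        R₀ ≤ E₃ ∧ sigmaCore M ⊓ H ≤ Subgroup.centralizer (E₃ : Set G)) ∧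
      M ⊓ H = (sigmaCore M ⊓ H) ⊔ E := by
  classical
  have hrr := hr.out
  have hEN := tau3_normal_compl hG hM hE hr3 hR₀E hR₀
  have hEH : E ≤ H := hEN.trans hNR
  have hrσ : r ∉ sigma M := hr3.2.1
  have hnc := not_conj_of_normalizer_le' hG hM hrσ hr3.2.2.2 hR₀ hNR
  have hR₀M : R₀ ≤ M := hR₀E.trans hE.1
  have hR₀H : R₀ ≤ H := hR₀E.trans hEH
  have hR₀r : IsPGroup r R₀ := isPGroup_of_card_prime hR₀
  have hrσH : r ∈ sigma H := c3 hG hM hH hrκ hR₀M hR₀ hNR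
  have hT1 := Helper3.BG13.comm_eq_bot_gen hG hM hH hnc hrσ hR₀M hR₀H hR₀r (Or.inl hrσH)
  have hDeq : sigmaCore M ⊓ H = sigmaCore M ⊓ Subgroup.centralizer (R₀ : Set G) := by
    apply le_antisymm
    · exact le_inf inf_le_left (Subgroup.commutator_eq_bot_iff_le_centralizer.mp hT1)
    · exact le_inf inf_le_left
        (inf_le_right.trans ((Subgroup.centralizer_le_normalizer _).trans hNR))
  have hD1 : sigmaCore M ⊓ H ≠ ⊥ := by
    rw [hDeq]; exact kappa_centralizer_ne_bot hrκ hR₀M hR₀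
  have hHM : H ≠ M := Helper3.BG13.ne_of_nonconj hnc
  have hτ₂ : ∀ q : ℕ, q ∉ tau2 M := by
    intro q hq2
    haveI : Fact q.Prime := ⟨hq2.1⟩
    obtain ⟨A₁, hA₁M, hA₁e, hA₁2⟩ := Helper7.BGD.exists_sq_of_rank hq2.2.2.1 hq2.2.2.2
    obtain ⟨m, hm, hA₁m⟩ := Helper7.BGD.exists_cj_le hG hM hE hA₁M
      (Helper7.BGD.coprime_sigmaCore hG hM (by
        intro t ht htd
        rw [prime_eq_of_dvd_card_pgroup (BG9.isPGroup_of_isElementaryAbelian hA₁e) ht htd]
        exact hq2.2.1))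
    obtain ⟨A, hAdef⟩ : ∃ A, A = BG7.cj m⁻¹ A₁ := ⟨_, rfl⟩
    have hAE : A ≤ E := by
      rw [hAdef]; have := BG7.cj_mono (k := m⁻¹) hA₁m; rwa [BG7.cj_inv_cj] at this
    have hAe : IsElementaryAbelian q A := hAdef ▸ BG9.isElementaryAbelian_cj m⁻¹ hA₁e
    have hA2 : Nat.card A = q ^ 2 := by rw [hAdef, BG7.card_cj, hA₁2]
    have h17 := Cfsg.Agent.S1417.result hG M hM q hq2 A ⟨hAE.trans hE.1, hAe, hA2⟩
    exact hD1 (h17.2.2.2.2.1 H hH hHM (hAE.trans hEH))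
  refine ⟨hEH, hnc, hτ₂, hrσH, hDeq, ?_, ?_⟩
  · intro E₃ hE₃
    obtain ⟨hc3, hE₃', hEN₃⟩ := (Cfsg.Agent.S1415.result hG M hM E hE).2.2 E₃ hE₃
    haveI hMs : Group.IsSolvable ↥M := BG7.isSolvable_of_ne_top hG hM.1
    haveI hEs : Group.IsSolvable ↥E := isSolvable_of_le hE.1
    have hR₀E₃ : R₀ ≤ E₃ := by
      obtain ⟨m, hm, hRm⟩ := Helper7.BGK.exists_cj_le_of_hall hEs hE₃ hR₀E (by
        intro q hq hqd
        have : q = r := prime_eq_of_dvd_card_pgroup hR₀r hq hqd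
        exact this ▸ hr3)
      rwa [BG7.cj_eq_of_mem_normalizer (hEN₃ hm)] at hRm
    refine ⟨hR₀E₃, ?_⟩
    rw [Subgroup.le_centralizer_iff]
    apply le_of_forall_isMaxP_le
    intro s hs hsE₃ T hT
    haveI : Fact s.Prime := ⟨hs⟩
    have hTE : T ≤ E := hT.1.trans hE₃.1
    have hsE : s ∣ Nat.card E := hsE₃.trans (Subgroup.card_dvd_of_le hE₃.1)
    have hsσ : s ∉ sigma M := Helper7.BGD.compl_not_sigma hG hM hE s hs hsE
    have hT1' : T ≠ ⊥ := by
      intro h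
      have := Helper3.BG13.not_dvd_relIndex_of_isMaxP hT
      rw [h, Subgroup.relIndex_bot_left] at this
      exact this hsE₃
    have hsT : s ∣ Nat.card T := BG8.dvd_card_of_isPGroup_ne_bot hT.2.1 hT1'
    have hTH' : T ≤ ⁅H, H⁆ := (hT.1.trans hE₃').trans (Subgroup.commutator_mono hEH hEH)
    have hsH' : s ∣ Nat.card ↥⁅H, H⁆ := hsT.trans (Subgroup.card_dvd_of_le hTH')
    have hsH : s ∣ Nat.card H := hsE.trans (Subgroup.card_dvd_of_le hEH)
    have htype : s ∈ sigma H ∨ s ∈ tau2 H ∨ s ∈ tau3 H := by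
      rcases type_cases hG hH hs hsH with h | h | h | h
      · exact Or.inl h
      · exact absurd hsH' h.2.2.2.1
      · exact Or.inr (Or.inl h)
      · exact Or.inr (Or.inr h)
    have hT1'' := Helper3.BG13.comm_eq_bot_gen hG hM hH hnc hsσ (hTE.trans hE.1) (hTE.trans hEH)
      hT.2.1 htype
    exact Subgroup.le_centralizer_iff.mp (Subgroup.commutator_eq_bot_iff_le_centralizer.mp hT1'')
  · apply le_antisymm
    · intro x hx
      obtain ⟨a, ha, b, hb, hxab⟩ := hE.2.2.2 x hx.1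
      have hbH : b ∈ H := by
        have : b = a⁻¹ * x := by rw [hxab]; group
        rw [this]; exact H.mul_mem (H.inv_mem (hEH ha)) hx.2
      rw [hxab]
      exact Subgroup.mul_mem _ (Subgroup.mem_sup_right ha) (Subgroup.mem_sup_left ⟨hb, hbH⟩)
    · exact sup_le (le_inf (inf_le_left.trans (Helper3.BG12.sigmaCore_le M)) inf_le_right)
        (le_inf hE.1 hEH)

/-- **Lemma A** -/
theorem lemmaA (hG : IsMinSimpleOddOrder G) {M E H : Subgroup G} (hM : IsCoatom M)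
    (hE : IsComplIn E (sigmaCore M) M) {r : ℕ} [hr : Fact r.Prime] (hrκ : r ∈ kappa M)
    (hr3 : r ∈ tau3 M) {R₀ : Subgroup G} (hR₀E : R₀ ≤ E) (hR₀ : Nat.card R₀ = r)
    (hH : IsCoatom H) (hNR : Subgroup.normalizer (R₀ : Set G) ≤ H) :
    E ≤ H ∧ (∀ g : G, H ≠ BG7.cj g M) ∧ (∀ q : ℕ, q ∉ tau2 M) ∧ r ∈ sigma H ∧
      sigmaCore M ⊓ H = sigmaCore M ⊓ Subgroup.centralizer (R₀ : Set G) ∧
      (∀ E₃ : Subgroup G, IsPiHallOf (tau3 M) E₃ E → ∀ y ∈ E₃, y ≠ 1 →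
        sigmaCore M ⊓ Subgroup.centralizer ({y} : Set G) = sigmaCore M ⊓ H) ∧
      M ⊓ H = (sigmaCore M ⊓ H) ⊔ E := by
  classical
  obtain ⟨hEH, hnc, hτ₂, hrσH, hDeq, haux3, hMH⟩ :=
    lemmaA_aux hG hM hE hrκ hr3 hR₀E hR₀ hH hNR
  refine ⟨hEH, hnc, hτ₂, hrσH, hDeq, ?_, hMH⟩
  intro E₃ hE₃ y hy hy1
  obtain ⟨hR₀E₃, hDC⟩ := haux3 E₃ hE₃
  have hR₀M : R₀ ≤ M := hR₀E.trans hE.1
  have hD1 : sigmaCore M ⊓ H ≠ ⊥ := by
    rw [hDeq]; exact kappa_centralizer_ne_bot hrκ hR₀M hR₀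
  apply le_antisymm
  · -- `C_{M_σ}(y) ≤ D`
    have hoy : orderOf y ≠ 1 := fun h => hy1 (orderOf_eq_one_iff.mp h)
    obtain ⟨s, hs, hsy⟩ := Nat.exists_prime_and_dvd hoy
    haveI : Fact s.Prime := ⟨hs⟩
    obtain ⟨v, hv⟩ : ∃ v : G, v = y ^ (orderOf y / s) := ⟨_, rfl⟩
    have hvo : orderOf v = s := by
      rw [hv]; exact orderOf_pow_orderOf_div (orderOf_pos y).ne' hsy
    have hvE₃ : v ∈ E₃ := by rw [hv]; exact E₃.pow_mem hy _
    obtain ⟨R₁, hR₁def⟩ : ∃ R₁ : Subgroup G, R₁ = Subgroup.zpowers v := ⟨_, rfl⟩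
    have hR₁c : Nat.card R₁ = s := by rw [hR₁def, Nat.card_zpowers, hvo]
    have hR₁E₃ : R₁ ≤ E₃ := by rw [hR₁def]; exact Subgroup.zpowers_le.mpr hvE₃
    have hR₁E : R₁ ≤ E := hR₁E₃.trans hE₃.1
    have hsE₃ : s ∣ Nat.card E₃ := hR₁c ▸ Subgroup.card_dvd_of_le hR₁E₃
    have hs3 : s ∈ tau3 M := hE₃.2.1 s hs hsE₃
    have hDR₁ : sigmaCore M ⊓ H ≤ Subgroup.centralizer (R₁ : Set G) :=
      hDC.trans (Subgroup.centralizer_le (SetLike.coe_subset_coe.mpr hR₁E₃))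
    have hne : sigmaCore M ⊓ Subgroup.centralizer (R₁ : Set G) ≠ ⊥ := by
      intro h
      apply hD1
      rw [eq_bot_iff, ← h]
      exact le_inf inf_le_left hDR₁
    have hsκ : s ∈ kappa M :=
      mem_kappa_of_centralizer_ne_bot hG hM hs3.2.1 hs3.2.2.2 (hR₁E.trans hE.1) hR₁c hne
    have hR₁1 : R₁ ≠ ⊥ := ne_bot_of_card_prime hR₁c
    have hR₁s : IsPGroup s R₁ := isPGroup_of_card_prime hR₁c
    have hNtop := BG7.normalizer_ne_top hG hR₁1 (BG7.pgroup_ne_top hG hR₁s)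
    obtain ⟨H₁, hH₁, hNR₁⟩ := (eq_top_or_exists_le_coatom _).resolve_left hNtop
    obtain ⟨-, -, -, -, hDeq', haux3', -⟩ :=
      lemmaA_aux hG hM hE hsκ hs3 hR₁E hR₁c hH₁ hNR₁
    obtain ⟨-, hDC'⟩ := haux3' E₃ hE₃
    have h1 : sigmaCore M ⊓ Subgroup.centralizer ({y} : Set G)
        ≤ sigmaCore M ⊓ Subgroup.centralizer (R₁ : Set G) := by
      refine le_inf inf_le_left ?_
      intro x hx
      have hxy := Subgroup.mem_centralizer_singleton_iff.mp hx.2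
      rw [hR₁def, BT.centralizer_zpowers_eq, Subgroup.mem_centralizer_singleton_iff, hv]
      exact ((Commute.pow_right (show Commute x y from hxy) _)).eq
    rw [← hDeq'] at h1
    rw [hDeq]
    refine le_inf (h1.trans inf_le_left) ?_
    exact (h1.trans hDC').trans (Subgroup.centralizer_le (SetLike.coe_subset_coe.mpr hR₀E₃))
  · refine le_inf inf_le_left ?_
    refine hDC.trans (Subgroup.centralizer_le ?_)
    intro t ht
    rw [Set.mem_singleton_iff.mp ht]; exact hy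

/-! ### arithmetic of the Frobenius formula -/

theorem nat_frob_eq {c u d m : ℕ} (hu : 0 < u) (hmd : m ≠ d) {n : ℕ}
    (e1 : c ^ n * m = u ^ n * d) : c ≠ u := by
  intro h
  rw [h] at e1
  exact hmd (Nat.eq_of_mul_eq_mul_left (pow_pos hu n) e1)

theorem nat_frob_two_aux {c u d m : ℕ} (hu : 0 < u) (hd : 0 < d) (hmd : m ≠ d) {n k : ℕ}
    (hk : 0 < k) (e1 : c ^ n * m = u ^ n * d) (e2 : c ^ (n + k) * m = u ^ (n + k) * d) :
    False := by
  have h1 : c ^ k * (c ^ n * m) = u ^ k * (u ^ n * d) := by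
    calc c ^ k * (c ^ n * m) = c ^ (n + k) * m := by ring
      _ = u ^ (n + k) * d := e2
      _ = u ^ k * (u ^ n * d) := by ring
  rw [e1] at h1
  have hpos : 0 < u ^ n * d := Nat.mul_pos (pow_pos hu n) hd
  have h2 : c ^ k = u ^ k := Nat.eq_of_mul_eq_mul_right hpos h1
  have h3 : c = u := Nat.pow_left_injective hk.ne' h2
  exact nat_frob_eq hu hmd e1 h3

theorem nat_frob_two {c u d m : ℕ} (hu : 0 < u) (hd : 0 < d) (hmd : m ≠ d) {n n' : ℕ}
    (hn : n ≠ n') (e1 : c ^ n * m = u ^ n * d) (e2 : c ^ n' * m = u ^ n' * d) : False := by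
  rcases Nat.lt_or_gt_of_ne hn with h | h
  · obtain ⟨k, hk⟩ := Nat.exists_eq_add_of_lt h
    have hk' : n' = n + (k + 1) := by omega
    rw [hk'] at e2
    exact nat_frob_two_aux hu hd hmd (Nat.succ_pos k) e1 e2
  · obtain ⟨k, hk⟩ := Nat.exists_eq_add_of_lt h
    have hk' : n = n' + (k + 1) := by omega
    rw [hk'] at e1
    exact nat_frob_two_aux hu hd hmd (Nat.succ_pos k) e2 e1

theorem nat_frob_self {c u p : ℕ} (hc : 0 < c) (hu : 0 < u) (hp : 2 ≤ p)
    (e : c ^ p * u = u ^ p * c) : c = u := by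
  obtain ⟨k, rfl⟩ : ∃ k, p = k + 1 := ⟨p - 1, by omega⟩
  have h1 : c ^ k * (c * u) = u ^ k * (c * u) := by
    calc c ^ k * (c * u) = c ^ (k + 1) * u := by ring
      _ = u ^ (k + 1) * c := e
      _ = u ^ k * (c * u) := by ring
  have h2 : c ^ k = u ^ k := Nat.eq_of_mul_eq_mul_right (Nat.mul_pos hc hu) h1
  exact Nat.pow_left_injective (by omega) h2

/-! ### small group-theoretic helpers -/

omit [Finite G] in
theorem centralizer_sup_eq (A B : Subgroup G) :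
    Subgroup.centralizer ((A ⊔ B : Subgroup G) : Set G) =
      Subgroup.centralizer (A : Set G) ⊓ Subgroup.centralizer (B : Set G) := by
  apply le_antisymm
  · exact le_inf (Subgroup.centralizer_le (SetLike.coe_subset_coe.mpr le_sup_left))
      (Subgroup.centralizer_le (SetLike.coe_subset_coe.mpr le_sup_right))
  · intro x hx
    have hA : A ≤ Subgroup.centralizer ((Subgroup.zpowers x : Subgroup G) : Set G) :=
      Subgroup.le_centralizer_iff.mp (Subgroup.zpowers_le.mpr hx.1)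
    have hB : B ≤ Subgroup.centralizer ((Subgroup.zpowers x : Subgroup G) : Set G) :=
      Subgroup.le_centralizer_iff.mp (Subgroup.zpowers_le.mpr hx.2)
    exact Subgroup.le_centralizer_iff.mp (sup_le hA hB) (Subgroup.mem_zpowers x)

theorem zpowers_eq_of_prime_card {P : Subgroup G} (hP : (Nat.card P).Prime) {x : G}
    (hx : x ∈ P) (hx1 : x ≠ 1) : Subgroup.zpowers x = P := by
  have hle : Subgroup.zpowers x ≤ P := Subgroup.zpowers_le.mpr hx
  have hne : Subgroup.zpowers x ≠ ⊥ := fun h => hx1 (Subgroup.zpowers_eq_bot.mp h)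
  have hdvd : Nat.card (Subgroup.zpowers x) ∣ Nat.card P := Subgroup.card_dvd_of_le hle
  rcases (Nat.dvd_prime hP).mp hdvd with h | h
  · exact absurd (Subgroup.card_eq_one.mp h) hne
  · exact Subgroup.eq_of_le_of_card_ge hle h.ge

theorem fpf_of_prime_of_not_commute {P R₁ : Subgroup G} (hP : (Nat.card P).Prime)
    (hR₁ : (Nat.card R₁).Prime) (hne : ¬ P ≤ Subgroup.centralizer (R₁ : Set G)) :
    ∀ x ∈ P, x ≠ 1 → ∀ k ∈ R₁, x * k = k * x → k = 1 := by
  intro x hx hx1 k hk hxk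
  by_contra hk1
  apply hne
  rw [← zpowers_eq_of_prime_card hP hx hx1, ← zpowers_eq_of_prime_card hR₁ hk hk1]
  apply Subgroup.zpowers_le.mpr
  rw [BT.centralizer_zpowers_eq, Subgroup.mem_centralizer_singleton_iff]
  exact hxk

/-- `E₁` acts in a prime manner on `M_σ` (from helper3's `tau1_hall_centralizes`) -/
theorem tau1_centralizer_eq (hG : IsMinSimpleOddOrder G) {M E E₁ : Subgroup G} (hM : IsCoatom M)
    (hE : IsComplIn E (sigmaCore M) M) (hE₁ : IsPiHallOf (tau1 M) E₁ E) {u : G} (hu : u ∈ E₁)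
    (hu1 : u ≠ 1) :
    sigmaCore M ⊓ Subgroup.centralizer ({u} : Set G) =
      sigmaCore M ⊓ Subgroup.centralizer (E₁ : Set G) := by
  apply le_antisymm
  · have hou : orderOf u ≠ 1 := fun h => hu1 (orderOf_eq_one_iff.mp h)
    obtain ⟨s, hs, hsu⟩ := Nat.exists_prime_and_dvd hou
    obtain ⟨w, hw⟩ : ∃ w : G, w = u ^ (orderOf u / s) := ⟨_, rfl⟩
    have hwo : orderOf w = s := by
      rw [hw]; exact orderOf_pow_orderOf_div (orderOf_pos u).ne' hsu
    have hwE₁ : w ∈ E₁ := by rw [hw]; exact E₁.pow_mem hu _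
    have hsE₁ : s ∣ Nat.card E₁ := by rw [← hwo]; exact Subgroup.orderOf_dvd_natCard E₁ hwE₁
    have hs1 : s ∈ tau1 M := hE₁.2.1 s hs hsE₁
    have hXy : sigmaCore M ⊓ Subgroup.centralizer ({u} : Set G)
        ≤ Subgroup.centralizer ({w} : Set G) := by
      intro x hx
      have hxu := Subgroup.mem_centralizer_singleton_iff.mp hx.2
      rw [Subgroup.mem_centralizer_singleton_iff, hw]
      exact ((Commute.pow_right (show Commute x u from hxu) _)).eq
    have := Helper3.BG14.tau1_hall_centralizes hG hM hE hs1 hwo hE₁ hwE₁ inf_le_left hXy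
    exact le_inf inf_le_left (Subgroup.le_centralizer_iff.mp this)
  · refine le_inf inf_le_left (inf_le_right.trans (Subgroup.centralizer_le ?_))
    intro t ht
    rw [Set.mem_singleton_iff.mp ht]; exact hu

theorem tau1_centralizer_eq' (hG : IsMinSimpleOddOrder G) {M E E₁ : Subgroup G} (hM : IsCoatom M)
    (hE : IsComplIn E (sigmaCore M) M) (hE₁ : IsPiHallOf (tau1 M) E₁ E) {P : Subgroup G}
    (hP : P ≤ E₁) (hP1 : P ≠ ⊥) :
    sigmaCore M ⊓ Subgroup.centralizer (P : Set G) =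
      sigmaCore M ⊓ Subgroup.centralizer (E₁ : Set G) := by
  apply le_antisymm
  · obtain ⟨⟨u, huP⟩, hu1⟩ := (Subgroup.ne_bot_iff_exists_ne_one (H := P)).mp hP1
    have hu1' : u ≠ 1 := fun h => hu1 (Subtype.ext h)
    rw [← tau1_centralizer_eq hG hM hE hE₁ (hP huP) hu1']
    refine le_inf inf_le_left (inf_le_right.trans (Subgroup.centralizer_le ?_))
    intro t ht
    rw [Set.mem_singleton_iff.mp ht]; exact huP
  · exact le_inf inf_le_left
      (inf_le_right.trans (Subgroup.centralizer_le (SetLike.coe_subset_coe.mpr hP)))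

end Cfsg.Agent.Lib.Helper1.BGG
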