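import Mathlib
import Cfsg.Agent.Lib.Helper1.BGG10

set_option autoImplicit false
set_option maxHeartbeats 4000000
set_option linter.unusedVariables false
set_option linter.unusedSectionVars false
set_option linter.style.longLine false
set_option linter.unusedSimpArgs false
set_option linter.deprecated false
set_option linter.style.haveILetI false

/-!
# B&G section 14, part 11: the dichotomy for `κ(M) ∩ τ₃(M) ≠ ∅`
-/

open scoped commutatorElement Pointwise
universe u
namespace Cfsg.Agent.Lib.Helper1.BGG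

open Cfsg Cfsg.Agent.Lib.Helper1 Cfsg.Agent.Lib.Helper7.BGRows

variable {G : Type u} [Group G] [Finite G]

/-- a subgroup of prime order `s` in a subgroup whose order is divisible by `s` -/
theorem exists_prime_subgroup {E₁ : Subgroup G} {s : ℕ} [hs : Fact s.Prime]
    (h : s ∣ Nat.card E₁) : ∃ P : Subgroup G, P ≤ E₁ ∧ Nat.card P = s := by
  obtain ⟨⟨w, hwE⟩, hwo'⟩ := exists_prime_orderOf_dvd_card' s h
  have hwo : orderOf w = s := by rw [← hwo']; exact (Subgroup.orderOf_mk w hwE).symm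
  exact ⟨Subgroup.zpowers w, Subgroup.zpowers_le.mpr hwE, by rw [Nat.card_zpowers, hwo]⟩

/-- **the dichotomy** -/
theorem r5_dichotomy (hG : IsMinSimpleOddOrder G) {M E E₁ E₃ : Subgroup G} (hM : IsCoatom M)
    (hE : IsComplIn E (sigmaCore M) M) {r : ℕ} [hr : Fact r.Prime] (hrκ : r ∈ kappa M)
    (hr3 : r ∈ tau3 M) (hE₁ : IsPiHallOf (tau1 M) E₁ E) (hE₃ : IsPiHallOf (tau3 M) E₃ E) :
    ((∀ P : Subgroup G, P ≤ E₁ → (Nat.card P).Prime →
          P ≤ Subgroup.centralizer (E₃ : Set G)) ∧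
        sigmaCore M ⊓ Subgroup.centralizer (E₃ : Set G) =
          sigmaCore M ⊓ Subgroup.centralizer (E₁ : Set G)) ∨
      ((Nat.card E₁).Prime ∧
        ¬ sigmaCore M ⊓ Subgroup.centralizer (E₁ : Set G) ≤
          Subgroup.centralizer (E₃ : Set G)) := by
  classical
  have hrr := hr.out
  have hrσ : r ∉ sigma M := hr3.2.1
  have hrE : r ∣ Nat.card E := by
    have h1 := Cfsg.Agent.Lib.Lead.ComplIn.card_eq hE
    have h2 : r ∣ Nat.card E * Nat.card (sigmaCore M) := h1 ▸ hrκ.2.1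
    rcases (Nat.Prime.dvd_mul hrr).mp h2 with h | h
    · exact h
    · exact absurd ((Helper7.BGA.s1350 hG M hM).1.2.1 r hrr h) hrσ
  obtain ⟨R₀, hR₀E, hR₀⟩ := exists_prime_subgroup (s := r) hrE
  have hR₀1 : R₀ ≠ ⊥ := ne_bot_of_card_prime hR₀
  have hR₀r : IsPGroup r R₀ := isPGroup_of_card_prime hR₀
  have hNtop := BG7.normalizer_ne_top hG hR₀1 (BG7.pgroup_ne_top hG hR₀r)
  obtain ⟨H, hH, hNR⟩ := (eq_top_or_exists_le_coatom _).resolve_left hNtop
  obtain ⟨hEH, hnc, hτ₂, hrσH, hDeq, hall3, hMH⟩ := lemmaA hG hM hE hrκ hr3 hR₀E hR₀ hH hNR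
  obtain ⟨-, -, -, -, -, haux3, -⟩ := lemmaA_aux hG hM hE hrκ hr3 hR₀E hR₀ hH hNR
  obtain ⟨hR₀E₃, hDC₃⟩ := haux3 E₃ hE₃
  obtain ⟨hc1, hc3, hEN₃, hE₃', hsup, hinf, hcent⟩ := compl_struct hG hM hE hτ₂ hE₁ hE₃
  haveI hMs : Group.IsSolvable ↥M := BG7.isSolvable_of_ne_top hG hM.1
  have hcE₁ : IsMulCommutative ↥E₁ := by haveI := hc1; exact IsCyclic.isMulCommutative
  have hcE₃ : IsMulCommutative ↥E₃ := by haveI := hc3; exact IsCyclic.isMulCommutative
  have hσM : sigmaCore M ≤ M := Helper3.BG12.sigmaCore_le M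
  have hHM : H ≠ M := Helper3.BG13.ne_of_nonconj hnc
  have hR₀M : R₀ ≤ M := hR₀E.trans hE.1
  -- `D` and `D₁`
  obtain ⟨D, hDdef⟩ : ∃ D, D = sigmaCore M ⊓ Subgroup.centralizer (E₃ : Set G) := ⟨_, rfl⟩
  obtain ⟨D₁, hD₁def⟩ : ∃ D₁, D₁ = sigmaCore M ⊓ Subgroup.centralizer (E₁ : Set G) := ⟨_, rfl⟩
  rw [← hDdef, ← hD₁def]
  have hDH : D = sigmaCore M ⊓ H := by
    rw [hDdef]
    apply le_antisymm
    · rw [hDeq]
      exact le_inf inf_le_left
        (inf_le_right.trans (Subgroup.centralizer_le (SetLike.coe_subset_coe.mpr hR₀E₃)))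
    · exact le_inf inf_le_left hDC₃
  have hDσ : D ≤ sigmaCore M := hDdef ▸ inf_le_left
  have hD₁σ : D₁ ≤ sigmaCore M := hD₁def ▸ inf_le_left
  have hD₁C : D₁ ≤ Subgroup.centralizer (E₁ : Set G) := hD₁def ▸ inf_le_right
  have hDC : D ≤ Subgroup.centralizer (E₃ : Set G) := hDdef ▸ inf_le_right
  have hDne : D ≠ ⊥ := by
    rw [hDH, hDeq]; exact kappa_centralizer_ne_bot hrκ hR₀M hR₀
  -- `M_σ ≰ H`
  have hσH : ¬ sigmaCore M ≤ H := by
    intro h
    have hMleH : M ≤ H := by
      intro x hx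
      obtain ⟨a, ha, b, hb, hxab⟩ := hE.2.2.2 x hx
      rw [hxab]; exact H.mul_mem (hEH ha) (h hb)
    rcases eq_or_lt_of_le hMleH with h1 | h1
    · exact hHM h1.symm
    · exact hH.1 (hM.2 H h1)
  have hmd : Nat.card (sigmaCore M) ≠ Nat.card D := by
    intro h
    apply hσH
    have : D = sigmaCore M := Subgroup.eq_of_le_of_card_ge hDσ h.le
    rw [← this, hDH]; exact inf_le_right
  have hu : 0 < Nat.card D₁ := Nat.card_pos
  have hd : 0 < Nat.card D := Nat.card_pos
  have hc : 0 < Nat.card ↥(D ⊓ D₁) := Nat.card_pos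
  -- coprimality
  have hcopE : (Nat.card ↥(sigmaCore M)).Coprime (Nat.card E) :=
    (Helper7.BGD.coprime_sigmaCore hG hM (Helper7.BGD.compl_not_sigma hG hM hE)).symm
  have hcop13 : (Nat.card E₁).Coprime (Nat.card E₃) := by
    by_contra hcn
    obtain ⟨s, hs, h1, h2⟩ := Nat.Prime.not_coprime_iff_dvd.mp hcn
    exact (hE₁.2.1 s hs h1).2.2.2.1 (hE₃.2.1 s hs h2).2.2.1
  -- centralizers of subgroups of `E₁`, `E₃`
  have hCP : ∀ P : Subgroup G, P ≤ E₁ → P ≠ ⊥ →
      sigmaCore M ⊓ Subgroup.centralizer (P : Set G) = D₁ := by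
    intro P hP hP1
    rw [hD₁def]; exact tau1_centralizer_eq' hG hM hE hE₁ hP hP1
  have hCR : ∀ R₁ : Subgroup G, R₁ ≤ E₃ → R₁ ≠ ⊥ →
      sigmaCore M ⊓ Subgroup.centralizer (R₁ : Set G) = D := by
    intro R₁ hR₁ hR₁1
    apply le_antisymm
    · obtain ⟨⟨v, hvR⟩, hv1⟩ := (Subgroup.ne_bot_iff_exists_ne_one (H := R₁)).mp hR₁1
      have hv1' : v ≠ 1 := fun h => hv1 (Subtype.ext h)
      rw [hDH, ← hall3 E₃ hE₃ v (hR₁ hvR) hv1']
      refine le_inf inf_le_left (inf_le_right.trans (Subgroup.centralizer_le ?_))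
      intro t ht
      rw [Set.mem_singleton_iff.mp ht]; exact hvR
    · rw [hDdef]
      exact le_inf inf_le_left
        (inf_le_right.trans (Subgroup.centralizer_le (SetLike.coe_subset_coe.mpr hR₁)))
  have hEnR : ∀ R₁ : Subgroup G, R₁ ≤ E₃ → E ≤ Subgroup.normalizer (R₁ : Set G) :=
    fun R₁ hR₁ => hEN₃.trans (normalizer_le_of_isCyclic hc3 hR₁)
  -- the Frobenius formula on `M_σ`
  have hfrob : ∀ P R₁ : Subgroup G, P ≤ E₁ → P ≠ ⊥ → R₁ ≤ E₃ → R₁ ≠ ⊥ →
      (∀ x ∈ P, x ≠ 1 → ∀ k ∈ R₁, x * k = k * x → k = 1) →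
      Nat.card ↥(D ⊓ D₁) ^ Nat.card P * Nat.card (sigmaCore M) =
        Nat.card D₁ ^ Nat.card P * Nat.card D := by
    intro P R₁ hP hP1 hR₁ hR₁1 hfpf
    have hPN : P ≤ Subgroup.normalizer (R₁ : Set G) := (hP.trans hE₁.1).trans (hEnR R₁ hR₁)
    have hRPE : R₁ ⊔ P ≤ E := sup_le (hR₁.trans hE₃.1) (hP.trans hE₁.1)
    have hnorm : R₁ ⊔ P ≤ Subgroup.normalizer ((sigmaCore M : Subgroup G) : Set G) :=
      (hRPE.trans hE.1).trans (Helper3.BG12.le_normalizer_sigmaCore M)
    have hsolv : Group.IsSolvable ↥(sigmaCore M) := isSolvable_of_le hσM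
    have hcop : (Nat.card ↥(sigmaCore M)).Coprime (Nat.card ↥(R₁ ⊔ P)) :=
      Nat.Coprime.coprime_dvd_right (Subgroup.card_dvd_of_le hRPE) hcopE
    have hff := FM.frob_formula R₁ P hP1 hPN hfpf (Nat.card ↥(sigmaCore M)) (sigmaCore M) rfl
      hnorm hsolv hcop
    rw [centralizer_sup_eq, inf_inf_distrib_left, hCP P hP hP1, hCR R₁ hR₁ hR₁1] at hff
    exact hff
  -- a Frobenius pair from a non-centralizing `P`
  have hpair : ∀ P : Subgroup G, P ≤ E₁ → (Nat.card P).Prime →
      ¬ P ≤ Subgroup.centralizer (E₃ : Set G) →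
      ∃ R₁ : Subgroup G, R₁ ≤ E₃ ∧ (Nat.card R₁).Prime ∧
        ¬ P ≤ Subgroup.centralizer (R₁ : Set G) := by
    intro P hP hPp hPC
    by_contra hcon
    push Not at hcon
    apply hPC
    haveI := hcE₃
    apply coprime_abelian_trivial_of_fix_prime_order P E₃ ((hP.trans hE₁.1).trans hEN₃)
      (Nat.Coprime.coprime_dvd_left (Subgroup.card_dvd_of_le hP) hcop13)
    intro v hv hvo a ha
    have h1 := hcon (Subgroup.zpowers v) (Subgroup.zpowers_le.mpr hv)
      (by rw [Nat.card_zpowers]; exact hvo)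
    have h2 := h1 ha
    rw [BT.centralizer_zpowers_eq, Subgroup.mem_centralizer_singleton_iff] at h2
    exact h2
  have hprime_ne_bot : ∀ P : Subgroup G, (Nat.card P).Prime → P ≠ ⊥ := by
    intro P hPp h
    rw [h, Subgroup.card_bot] at hPp
    exact Nat.not_prime_one hPp
  by_cases hA : ∀ P : Subgroup G, P ≤ E₁ → (Nat.card P).Prime →
      P ≤ Subgroup.centralizer (E₃ : Set G)
  · -- case (a)
    left
    refine ⟨hA, ?_⟩
    have hE₁1 : E₁ ≠ ⊥ := by
      intro h
      have : R₀ ≤ E₃ ⊓ Subgroup.centralizer (E₁ : Set G) := by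
        refine le_inf hR₀E₃ ?_
        intro x _
        rw [Subgroup.mem_centralizer_iff]
        intro b hb
        rw [h] at hb
        rw [Subgroup.mem_bot.mp hb]; simp
      rw [hcent] at this
      exact hR₀1 (le_bot_iff.mp this)
    have hE₁c : Nat.card E₁ ≠ 1 := fun h => hE₁1 (Subgroup.card_eq_one.mp h)
    obtain ⟨s, hs, hsE₁⟩ := Nat.exists_prime_and_dvd hE₁c
    haveI : Fact s.Prime := ⟨hs⟩
    obtain ⟨P', hP'E₁, hP'c⟩ := exists_prime_subgroup (s := s) hsE₁
    have hP'p : (Nat.card P').Prime := hP'c ▸ hs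
    have hP'1 : P' ≠ ⊥ := hprime_ne_bot P' hP'p
    have hP'C := hA P' hP'E₁ hP'p
    have hs1 : s ∈ tau1 M := hE₁.2.1 s hs hsE₁
    apply le_antisymm
    · -- `D ≤ D₁`
      by_contra hnle
      have hall : ∀ s' : ℕ, s'.Prime → s' ∣ Nat.card E₁ → s' ∈ tau1 H := by
        intro s' hs' hs'E₁
        haveI : Fact s'.Prime := ⟨hs'⟩
        obtain ⟨P'', hP''E₁, hP''c⟩ := exists_prime_subgroup (s := s') hs'E₁
        have hP''1 : P'' ≠ ⊥ := ne_bot_of_card_prime hP''c
        have hs'1 : s' ∈ tau1 M := hE₁.2.1 s' hs' hs'E₁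
        have hs'H : s' ∣ Nat.card H :=
          (hs'E₁.trans (Subgroup.card_dvd_of_le hE₁.1)).trans (Subgroup.card_dvd_of_le hEH)
        by_contra hnot
        have htype : s' ∈ sigma H ∨ s' ∈ tau2 H ∨ s' ∈ tau3 H := by
          rcases type_cases hG hH hs' hs'H with h | h | h | h
          · exact Or.inl h
          · exact absurd h hnot
          · exact Or.inr (Or.inl h)
          · exact Or.inr (Or.inr h)
        have hP''E : P'' ≤ E := hP''E₁.trans hE₁.1
        have hT1 := Helper3.BG13.comm_eq_bot_gen hG hM hH hnc hs'1.2.1 (hP''E.trans hE.1)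
          (hP''E.trans hEH) (isPGroup_of_card_prime hP''c) htype
        apply hnle
        rw [← hCP P'' hP''E₁ hP''1, hDH]
        exact le_inf inf_le_left (Subgroup.commutator_eq_bot_iff_le_centralizer.mp hT1)
      have hR₀σH : R₀ ≤ sigmaCore H :=
        Helper3.BG12.le_sigmaCore_of_isPGroup hG hH hrσH (hR₀E.trans hEH) hR₀r
      have hE₁R₀ : E₁ ≤ Subgroup.centralizer (R₀ : Set G) := by
        apply le_of_forall_isMaxP_le
        intro s' hs' hs'E₁ T hT
        haveI : Fact s'.Prime := ⟨hs'⟩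
        have hs'1 := hall s' hs' hs'E₁
        have hT1 : T ≠ ⊥ := by
          intro h
          have := Helper3.BG13.not_dvd_relIndex_of_isMaxP hT
          rw [h, Subgroup.relIndex_bot_left] at this
          exact this hs'E₁
        have hs'T : s' ∣ Nat.card T := BG8.dvd_card_of_isPGroup_ne_bot hT.2.1 hT1
        obtain ⟨⟨x, hxT⟩, hxo'⟩ := exists_prime_orderOf_dvd_card' s' hs'T
        have hxo : orderOf x = s' := by rw [← hxo']; exact (Subgroup.orderOf_mk x hxT).symm
        have hx1 : x ≠ 1 := by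
          intro h; rw [h, orderOf_one] at hxo; exact hs'.one_lt.ne hxo
        have hxC : x ∈ Subgroup.centralizer (R₀ : Set G) := by
          have hPx := hA (Subgroup.zpowers x) (Subgroup.zpowers_le.mpr (hT.1 hxT))
            (by rw [Nat.card_zpowers, hxo]; exact hs')
          exact (Subgroup.centralizer_le (SetLike.coe_subset_coe.mpr hR₀E₃))
            (hPx (Subgroup.mem_zpowers x))
        exact lemmaX hG hH hs'1.2.1 hs'1.2.2.2.2 ((hT.1.trans hE₁.1).trans hEH) hT.2.1 hR₀σH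
          hxT hx1 hxC
      have : R₀ ≤ E₃ ⊓ Subgroup.centralizer (E₁ : Set G) :=
        le_inf hR₀E₃ (Subgroup.le_centralizer_iff.mp hE₁R₀)
      rw [hcent] at this
      exact hR₀1 (le_bot_iff.mp this)
    · -- `D₁ ≤ D`
      have hE₁CP' : E₁ ≤ Subgroup.centralizer (P' : Set G) := by
        intro a ha
        rw [Subgroup.mem_centralizer_iff]
        intro b hb
        have := hcE₁.is_comm.comm ⟨b, hP'E₁ hb⟩ ⟨a, ha⟩
        exact congrArg Subtype.val this
      have hEC : E ≤ Subgroup.centralizer (P' : Set G) := by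
        rw [← hsup]; exact sup_le (Subgroup.le_centralizer_iff.mp hP'C) hE₁CP'
      have hEN' : E ≤ Subgroup.normalizer (P' : Set G) :=
        hEC.trans (Subgroup.centralizer_le_normalizer _)
      have hP's : IsPGroup s P' := isPGroup_of_card_prime hP'c
      have hNtop' := BG7.normalizer_ne_top hG hP'1 (BG7.pgroup_ne_top hG hP's)
      obtain ⟨Ms, hMs', hNP'⟩ := (eq_top_or_exists_le_coatom _).resolve_left hNtop'
      have hnc' := not_conj_of_normalizer_le' hG hM hs1.2.1 hs1.2.2.2.2 hP'c hNP'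
      have hEMs : E ≤ Ms := hEN'.trans hNP'
      have hR₀Ms' : R₀ ≤ ⁅Ms, Ms⁆ :=
        (hR₀E₃.trans hE₃').trans (Subgroup.commutator_mono hEMs hEMs)
      have hrMs' : r ∣ Nat.card ↥⁅Ms, Ms⁆ := hR₀ ▸ Subgroup.card_dvd_of_le hR₀Ms'
      have hrMs : r ∣ Nat.card Ms := hR₀ ▸ Subgroup.card_dvd_of_le (hR₀E.trans hEMs)
      have htype : r ∈ sigma Ms ∨ r ∈ tau2 Ms ∨ r ∈ tau3 Ms := by
        rcases type_cases hG hMs' hrr hrMs with h | h | h | h
        · exact Or.inl h
        · exact absurd hrMs' h.2.2.2.1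
        · exact Or.inr (Or.inl h)
        · exact Or.inr (Or.inr h)
      have hT1 := Helper3.BG13.comm_eq_bot_gen hG hM hMs' hnc' hrσ hR₀M (hR₀E.trans hEMs)
        hR₀r htype
      have h1 : sigmaCore M ⊓ Ms ≤ Subgroup.centralizer (R₀ : Set G) :=
        Subgroup.commutator_eq_bot_iff_le_centralizer.mp hT1
      have h2 : D₁ ≤ sigmaCore M ⊓ Ms := by
        refine le_inf hD₁σ ?_
        refine hD₁C.trans ?_
        refine (Subgroup.centralizer_le (SetLike.coe_subset_coe.mpr hP'E₁)).trans ?_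
        exact (Subgroup.centralizer_le_normalizer _).trans hNP'
      rw [hDH, hDeq]
      exact le_inf hD₁σ (h2.trans h1)
  · -- case (b)
    right
    push Not at hA
    obtain ⟨P, hPE₁, hPp, hPC⟩ := hA
    obtain ⟨R₁, hR₁, hR₁p, hPR₁⟩ := hpair P hPE₁ hPp hPC
    have hfpf := fpf_of_prime_of_not_commute hPp hR₁p hPR₁
    have hP1 : P ≠ ⊥ := hprime_ne_bot P hPp
    have hR₁1 : R₁ ≠ ⊥ := hprime_ne_bot R₁ hR₁p
    have e1 := hfrob P R₁ hPE₁ hP1 hR₁ hR₁1 hfpf
    obtain ⟨p, hp⟩ : ∃ p, p = Nat.card P := ⟨_, rfl⟩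
    rw [← hp] at e1 hPp
    haveI hpF : Fact p.Prime := ⟨hPp⟩
    have hcard : Nat.card E₁ = p := by
      by_contra hne
      have hpd : p ∣ Nat.card E₁ := hp ▸ Subgroup.card_dvd_of_le hPE₁
      obtain ⟨k, hk⟩ := hpd
      have hk1 : k ≠ 1 := by intro h; rw [h, mul_one] at hk; exact hne hk
      obtain ⟨s, hs, hsk⟩ := Nat.exists_prime_and_dvd hk1
      haveI : Fact s.Prime := ⟨hs⟩
      by_cases hsp : s = p
      · -- `p² ∣ |E₁|`
        have hp2 : p ^ 2 ∣ Nat.card E₁ := by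
          rw [hk, pow_two]; exact Nat.mul_dvd_mul_left p (hsp ▸ hsk)
        obtain ⟨P₂', hP₂'⟩ := Sylow.exists_subgroup_card_pow_prime p hp2
        obtain ⟨P₂, hP₂def⟩ : ∃ P₂ : Subgroup G, P₂ = P₂'.map E₁.subtype := ⟨_, rfl⟩
        have hP₂c : Nat.card P₂ = p ^ 2 := by
          rw [hP₂def, Subgroup.card_map_of_injective E₁.subtype_injective, hP₂']
        have hP₂E₁ : P₂ ≤ E₁ := hP₂def ▸ Subgroup.map_subtype_le _
        have hpow : ∀ x ∈ P₂, x ≠ 1 → ∃ j : ℕ, x ^ j ∈ P ∧ x ^ j ≠ 1 := by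
          intro x hx hx1
          have hox : orderOf x ∣ p ^ 2 := hP₂c ▸ Subgroup.orderOf_dvd_natCard P₂ hx
          have hpx : p ∣ orderOf x := by
            obtain ⟨j, hj, hjo⟩ := (Nat.dvd_prime_pow hPp).mp hox
            rw [hjo]
            have : j ≠ 0 := by
              intro h; rw [h, pow_zero] at hjo; exact hx1 (orderOf_eq_one_iff.mp hjo)
            exact dvd_pow_self p this
          have ho : orderOf (x ^ (orderOf x / p)) = p :=
            orderOf_pow_orderOf_div (orderOf_pos x).ne' hpx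
          refine ⟨orderOf x / p, ?_, ?_⟩
          · have h1 : Subgroup.zpowers (x ^ (orderOf x / p)) ≤ E₁ :=
              Subgroup.zpowers_le.mpr (E₁.pow_mem (hP₂E₁ hx) _)
            have h2 : Nat.card (Subgroup.zpowers (x ^ (orderOf x / p))) = Nat.card P := by
              rw [Nat.card_zpowers, ho, hp]
            haveI := hc1
            have := Helper3.subgroup_eq_of_card_eq_of_le_isCyclic E₁ _ _ h1 hPE₁ h2
            rw [← this]; exact Subgroup.mem_zpowers _
          · intro h; rw [h, orderOf_one] at ho; exact hPp.one_lt.ne ho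
        have hfpf₂ : ∀ x ∈ P₂, x ≠ 1 → ∀ k ∈ R₁, x * k = k * x → k = 1 := by
          intro x hx hx1 k hk hxk
          obtain ⟨j, hjP, hj1⟩ := hpow x hx hx1
          exact hfpf (x ^ j) hjP hj1 k hk ((Commute.pow_left (show Commute x k from hxk) j)).eq
        have hP₂1 : P₂ ≠ ⊥ := by
          intro h
          rw [h, Subgroup.card_bot] at hP₂c
          exact (Nat.one_lt_pow two_ne_zero hPp.one_lt).ne hP₂c
        have e2 := hfrob P₂ R₁ hP₂E₁ hP₂1 hR₁ hR₁1 hfpf₂
        rw [hP₂c] at e2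
        have hpp2 : p ≠ p ^ 2 := by
          intro h
          have h3 : p ^ 1 = p ^ 2 := by rw [pow_one]; exact h
          have := Nat.pow_right_injective hPp.two_le h3
          omega
        exact nat_frob_two hu hd hmd hpp2 e1 e2
      · -- a second prime `s ≠ p`
        have hsE₁ : s ∣ Nat.card E₁ := by rw [hk]; exact Dvd.dvd.mul_left hsk p
        obtain ⟨P', hP'E₁, hP'c⟩ := exists_prime_subgroup (s := s) hsE₁
        have hP'p : (Nat.card P').Prime := hP'c ▸ hs
        have hP'1 : P' ≠ ⊥ := hprime_ne_bot P' hP'p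
        by_cases hP'C : P' ≤ Subgroup.centralizer (E₃ : Set G)
        · -- the Frobenius formula on `D₁`
          have hR₁CP' : R₁ ≤ Subgroup.centralizer (P' : Set G) :=
            hR₁.trans (Subgroup.le_centralizer_iff.mp hP'C)
          have hPCP' : P ≤ Subgroup.centralizer (P' : Set G) := by
            intro a ha
            rw [Subgroup.mem_centralizer_iff]
            intro b hb
            have := hcE₁.is_comm.comm ⟨b, hP'E₁ hb⟩ ⟨a, hPE₁ ha⟩
            exact congrArg Subtype.val this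
          have hRPE : R₁ ⊔ P ≤ E := sup_le (hR₁.trans hE₃.1) (hPE₁.trans hE₁.1)
          have hnorm' : R₁ ⊔ P ≤ Subgroup.normalizer ((D₁ : Subgroup G) : Set G) := by
            rw [← hCP P' hP'E₁ hP'1]
            apply le_normalizer_inf
            · exact (hRPE.trans hE.1).trans (Helper3.BG12.le_normalizer_sigmaCore M)
            · exact (sup_le hR₁CP' hPCP').trans Subgroup.le_normalizer
          have hPN : P ≤ Subgroup.normalizer (R₁ : Set G) :=
            (hPE₁.trans hE₁.1).trans (hEnR R₁ hR₁)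
          have hsolv : Group.IsSolvable ↥D₁ := isSolvable_of_le (hD₁σ.trans hσM)
          have hcopD₁ : (Nat.card ↥D₁).Coprime (Nat.card ↥(R₁ ⊔ P)) :=
            Nat.Coprime.coprime_dvd_left (Subgroup.card_dvd_of_le hD₁σ)
              (Nat.Coprime.coprime_dvd_right (Subgroup.card_dvd_of_le hRPE) hcopE)
          have hff := FM.frob_formula R₁ P hP1 hPN hfpf (Nat.card ↥D₁) D₁ rfl hnorm' hsolv hcopD₁
          have h2' : D₁ ⊓ Subgroup.centralizer (P : Set G) = D₁ :=
            inf_eq_left.mpr (hD₁C.trans (Subgroup.centralizer_le (SetLike.coe_subset_coe.mpr hPE₁)))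
          have h3' : D₁ ⊓ Subgroup.centralizer (R₁ : Set G) = D ⊓ D₁ := by
            apply le_antisymm
            · refine le_inf ?_ inf_le_left
              rw [← hCR R₁ hR₁ hR₁1]
              exact le_inf (inf_le_left.trans hD₁σ) inf_le_right
            · refine le_inf inf_le_right ?_
              rw [← hCR R₁ hR₁ hR₁1]
              exact inf_le_left.trans inf_le_right
          rw [centralizer_sup_eq, inf_inf_distrib_left, h2', h3', inf_assoc, inf_idem, ← hp]
            at hff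
          have hcu := nat_frob_self hc hu hPp.two_le hff
          exact nat_frob_eq hu hmd e1 hcu
        · obtain ⟨R₁', hR₁', hR₁'p, hP'R₁'⟩ := hpair P' hP'E₁ hP'p hP'C
          have hfpf' := fpf_of_prime_of_not_commute hP'p hR₁'p hP'R₁'
          have e2 := hfrob P' R₁' hP'E₁ hP'1 hR₁' (hprime_ne_bot R₁' hR₁'p) hfpf'
          rw [hP'c] at e2
          exact nat_frob_two hu hd hmd (fun h => hsp h.symm) e1 e2
    refine ⟨hcard ▸ hPp, ?_⟩
    intro h
    have : D ⊓ D₁ = D₁ := inf_eq_right.mpr (by rw [hDdef]; exact le_inf hD₁σ h)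
    exact nat_frob_eq hu hmd e1 (by rw [this])

end Cfsg.Agent.Lib.Helper1.BGG
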