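import Mathlib
import Cfsg.Agent.Lib.Helper1.BGG11
import Cfsg.Agent.S1404
import Cfsg.Agent.S1420

set_option autoImplicit false
set_option maxHeartbeats 4000000
set_option linter.unusedVariables false
set_option linter.unusedSectionVars false
set_option linter.style.longLine false
set_option linter.unusedSimpArgs false
set_option linter.deprecated false
set_option linter.style.haveILetI false

/-!
# B&G section 14, part 12: the second branch of the dichotomy is impossible when `D ≤ D₁`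
(given the `σ`-partition)
-/

open scoped commutatorElement Pointwise
universe u
namespace Cfsg.Agent.Lib.Helper1.BGG

open Cfsg Cfsg.Agent.Lib.Helper1 Cfsg.Agent.Lib.Helper7.BGRows

variable {G : Type u} [Group G] [Finite G]

/-- the normalizer of a subgroup `X` with a unique maximal subgroup over `C_G(X)` -/
theorem normalizer_le_of_unique (hG : IsMinSimpleOddOrder G) {M X : Subgroup G}
    (hX1 : X ≠ ⊥) (hXtop : X ≠ ⊤)
    (huniq : ∀ L' : Subgroup G, IsCoatom L' → Subgroup.centralizer (X : Set G) ≤ L' → L' = M) :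
    Subgroup.normalizer (X : Set G) ≤ M := by
  have hNtop := BG7.normalizer_ne_top hG hX1 hXtop
  obtain ⟨L', hL', hN⟩ := (eq_top_or_exists_le_coatom _).resolve_left hNtop
  have := huniq L' hL' ((Subgroup.centralizer_le_normalizer _).trans hN)
  exact this ▸ hN

/-- an `E_{p²}` inside a given complement, `p ∈ τ₂(H)` -/
theorem exists_sq_in_compl (hG : IsMinSimpleOddOrder G) {H EH : Subgroup G} (hH : IsCoatom H)
    (hEH : IsComplIn EH (sigmaCore H) H) {p : ℕ} [hp : Fact p.Prime] (hp2 : p ∈ tau2 H) :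
    ∃ B : Subgroup G, B ≤ EH ∧ IsElementaryAbelian p B ∧ Nat.card B = p ^ 2 := by
  obtain ⟨A₁, hA₁H, hA₁e, hA₁2⟩ := Helper7.BGD.exists_sq_of_rank hp2.2.2.1 hp2.2.2.2
  obtain ⟨m, hm, hA₁m⟩ := Helper7.BGD.exists_cj_le hG hH hEH hA₁H
    (Helper7.BGD.coprime_sigmaCore hG hH (by
      intro t ht htd
      rw [prime_eq_of_dvd_card_pgroup (BG9.isPGroup_of_isElementaryAbelian hA₁e) ht htd]
      exact hp2.2.1))
  refine ⟨BG7.cj m⁻¹ A₁, ?_, BG9.isElementaryAbelian_cj m⁻¹ hA₁e, by rw [BG7.card_cj, hA₁2]⟩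
  have := BG7.cj_mono (k := m⁻¹) hA₁m; rwa [BG7.cj_inv_cj] at this

/-- **(b\*) with `D ≤ D₁` is impossible** -/
theorem bstar_le
    (hσ : ∀ M Ms : Subgroup G, IsCoatom M → IsCoatom Ms → (∀ g : G, Ms ≠ BG7.cj g M) →
      ∀ q : ℕ, q ∈ sigma M → q ∈ sigma Ms → False)
    (hG : IsMinSimpleOddOrder G) {M E E₁ E₃ H R₀ : Subgroup G} (hM : IsCoatom M)
    (hE : IsComplIn E (sigmaCore M) M) {r : ℕ} [hr : Fact r.Prime] (hrκ : r ∈ kappa M)
    (hr3 : r ∈ tau3 M) (hE₁ : IsPiHallOf (tau1 M) E₁ E) (hE₃ : IsPiHallOf (tau3 M) E₃ E)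
    (hp : (Nat.card E₁).Prime)
    (hD₁ : ¬ sigmaCore M ⊓ Subgroup.centralizer (E₁ : Set G) ≤
      Subgroup.centralizer (E₃ : Set G))
    (hR₀E : R₀ ≤ E) (hR₀ : Nat.card R₀ = r) (hH : IsCoatom H)
    (hNR : Subgroup.normalizer (R₀ : Set G) ≤ H)
    (hDle : sigmaCore M ⊓ H ≤ Subgroup.centralizer (E₁ : Set G)) : False := by
  classical
  have hrr := hr.out
  obtain ⟨hEH, hnc, hτ₂, hrσH, hDeq, hall3, hMH⟩ := lemmaA hG hM hE hrκ hr3 hR₀E hR₀ hH hNR
  obtain ⟨-, -, -, -, -, haux3, -⟩ := lemmaA_aux hG hM hE hrκ hr3 hR₀E hR₀ hH hNR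
  obtain ⟨hR₀E₃, hDC₃⟩ := haux3 E₃ hE₃
  obtain ⟨hc1, hc3, hEN₃, hE₃', hsup, hinf, hcent⟩ := compl_struct hG hM hE hτ₂ hE₁ hE₃
  haveI hMs : Group.IsSolvable ↥M := BG7.isSolvable_of_ne_top hG hM.1
  haveI hHs : Group.IsSolvable ↥H := BG7.isSolvable_of_ne_top hG hH.1
  have hσM : sigmaCore M ≤ M := Helper3.BG12.sigmaCore_le M
  have hHM : H ≠ M := Helper3.BG13.ne_of_nonconj hnc
  have hR₀M : R₀ ≤ M := hR₀E.trans hE.1
  have hR₀1 : R₀ ≠ ⊥ := ne_bot_of_card_prime hR₀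
  have hR₀r : IsPGroup r R₀ := isPGroup_of_card_prime hR₀
  have hR₀H : R₀ ≤ H := hR₀E.trans hEH
  have hR₀σH : R₀ ≤ sigmaCore H :=
    Helper3.BG12.le_sigmaCore_of_isPGroup hG hH hrσH hR₀H hR₀r
  obtain ⟨w₀, hw₀R, hw₀o, hR₀w⟩ := exists_generator_of_card_prime hR₀
  have hw₀1 : w₀ ≠ 1 := by
    intro h; rw [h, orderOf_one] at hw₀o; exact hrr.one_lt.ne hw₀o
  -- `P = E₁`
  obtain ⟨p, hpdef⟩ : ∃ p, p = Nat.card E₁ := ⟨_, rfl⟩
  rw [← hpdef] at hp
  haveI hpF : Fact p.Prime := ⟨hp⟩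
  have hE₁c : Nat.card E₁ = p := hpdef.symm
  have hp1M : p ∈ tau1 M := hE₁.2.1 p hp (hpdef ▸ dvd_rfl)
  have hpσM : p ∉ sigma M := hp1M.2.1
  obtain ⟨g₀, hg₀E₁, hg₀o, hE₁g⟩ := exists_generator_of_card_prime hE₁c
  have hg₀1 : g₀ ≠ 1 := by
    intro h; rw [h, orderOf_one] at hg₀o; exact hp.one_lt.ne hg₀o
  have hE₁1 : E₁ ≠ ⊥ := ne_bot_of_card_prime hE₁c
  have hE₁p : IsPGroup p E₁ := isPGroup_of_card_prime hE₁c
  have hE₁E : E₁ ≤ E := hE₁.1
  have hE₁M : E₁ ≤ M := hE₁E.trans hE.1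
  have hE₁H : E₁ ≤ H := hE₁E.trans hEH
  have hCE₁ : Subgroup.centralizer (E₁ : Set G) = Subgroup.centralizer ({g₀} : Set G) := by
    rw [hE₁g, BT.centralizer_zpowers_eq]
  have hpH : p ∣ Nat.card H := hE₁c ▸ Subgroup.card_dvd_of_le hE₁H
  -- `D` and `D₁`
  obtain ⟨D, hDdef⟩ : ∃ D, D = sigmaCore M ⊓ H := ⟨_, rfl⟩
  rw [← hDdef] at hDle hDC₃ hMH
  have hDσ : D ≤ sigmaCore M := hDdef ▸ inf_le_left
  have hDH : D ≤ H := hDdef ▸ inf_le_right
  have hDM : D ≤ M := hDσ.trans hσM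
  have hDne : D ≠ ⊥ := by
    rw [hDdef, hDeq]; exact kappa_centralizer_ne_bot hrκ hR₀M hR₀
  have hD₁ne : sigmaCore M ⊓ Subgroup.centralizer (E₁ : Set G) ≠ ⊥ := by
    intro h; apply hD₁; rw [h]; exact bot_le
  have hDCE : D ≤ Subgroup.centralizer (E : Set G) := by
    rw [← hsup, centralizer_sup_eq]; exact le_inf hDC₃ hDle
  have hDR₀ : D ≤ Subgroup.centralizer (R₀ : Set G) :=
    hDC₃.trans (Subgroup.centralizer_le (SetLike.coe_subset_coe.mpr hR₀E₃))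
  have hR₀nC : ¬ R₀ ≤ Subgroup.centralizer (E₁ : Set G) := by
    intro h
    have : R₀ ≤ E₃ ⊓ Subgroup.centralizer (E₁ : Set G) := le_inf hR₀E₃ h
    rw [hcent] at this
    exact hR₀1 (le_bot_iff.mp this)
  have hDprimes : ∀ q : ℕ, q.Prime → q ∣ Nat.card D → q ∈ sigma M ∧ q ∉ sigma H := by
    intro q hq hqd
    have h1 : q ∈ sigma M :=
      (Helper7.BGA.s1350 hG M hM).1.2.1 q hq (hqd.trans (Subgroup.card_dvd_of_le hDσ))
    exact ⟨h1, fun h2 => hσ M H hM hH hnc q h1 h2⟩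
  -- facts on elements of prime order of `D`
  have hDelt : ∀ y ∈ D, ∀ q : ℕ, q.Prime → orderOf y = q →
      (Subgroup.centralizer ((Subgroup.zpowers y : Subgroup G) : Set G) ≤ M ∧
        ∀ L' : Subgroup G, IsCoatom L' →
          Subgroup.centralizer ((Subgroup.zpowers y : Subgroup G) : Set G) ≤ L' → L' = M) ∧
      q ∉ tau2 H ∧
      sigmaCore H ⊓ Subgroup.centralizer ((Subgroup.zpowers y : Subgroup G) : Set G) ≠ ⊥ := by
    intro y hy q hq hyo
    haveI : Fact q.Prime := ⟨hq⟩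
    have hYσ : Subgroup.zpowers y ≤ sigmaCore M := Subgroup.zpowers_le.mpr (hDσ hy)
    have hYg : Subgroup.zpowers y ≤ Subgroup.centralizer ({g₀} : Set G) := by
      rw [← hCE₁]; exact Subgroup.zpowers_le.mpr (hDle hy)
    have hYc : Nat.card (Subgroup.zpowers y) = q := by rw [Nat.card_zpowers, hyo]
    have huniq := (Helper3.BG14.uniq_of_tau1 hG hM hE hp1M (hE₁E hg₀E₁) hg₀o hYσ hYg hYc
      (default : Sylow q ↥(sigmaCore M))).1
    have hy1 : y ≠ 1 := by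
      intro h; rw [h, orderOf_one] at hyo; exact hq.one_lt.ne hyo
    have hyw : y * w₀ = w₀ * y :=
      (Subgroup.mem_centralizer_iff.mp (hDR₀ hy) w₀ hw₀R).symm
    refine ⟨huniq, ?_, ?_⟩
    · intro hq2
      obtain ⟨EH₀, hEH₀⟩ := exists_compl hG hH
      have h20 := (Cfsg.Agent.S1420.result hG H hH EH₀ hEH₀).2.2.2 y (hDH hy) hy1
        (by
          intro p' hp' hp'd
          rw [hyo] at hp'd
          rw [(Nat.prime_dvd_prime_iff_eq hp' hq).mp hp'd]; exact hq2)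
        ⟨hDH hy, w₀, hR₀σH hw₀R, hw₀1, hyw⟩
      have h1 : Subgroup.centralizer ((Subgroup.zpowers y : Subgroup G) : Set G) ≤ H := by
        rw [BT.centralizer_zpowers_eq]; exact h20.1
      exact hHM (huniq.2 H hH h1)
    · intro h
      have : w₀ ∈ sigmaCore H ⊓
          Subgroup.centralizer ((Subgroup.zpowers y : Subgroup G) : Set G) := by
        refine ⟨hR₀σH hw₀R, ?_⟩
        show w₀ ∈ Subgroup.centralizer ((Subgroup.zpowers y : Subgroup G) : Set G)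
        rw [BT.centralizer_zpowers_eq, Subgroup.mem_centralizer_singleton_iff]
        exact hyw.symm
      rw [h] at this
      exact hw₀1 (Subgroup.mem_bot.mp this)
  -- an element of prime order of `D`
  have hDelt_ex : ∀ q : ℕ, q.Prime → q ∣ Nat.card D → ∃ y ∈ D, orderOf y = q := by
    intro q hq hqd
    haveI : Fact q.Prime := ⟨hq⟩
    obtain ⟨⟨y, hyD⟩, hyo'⟩ := exists_prime_orderOf_dvd_card' q hqd
    exact ⟨y, hyD, by rw [← hyo']; exact (Subgroup.orderOf_mk y hyD).symm⟩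
  obtain ⟨q₀, hq₀, hq₀D⟩ : ∃ q : ℕ, q.Prime ∧ q ∣ Nat.card D := by
    apply Nat.exists_prime_and_dvd
    intro h; exact hDne (Subgroup.card_eq_one.mp h)
  have hE₁CD : E₁ ≤ Subgroup.centralizer (D : Set G) := Subgroup.le_centralizer_iff.mp hDle
  have hKσ : ∀ q : ℕ, q.Prime → q ∣ Nat.card ↥(D ⊔ E₁) → p ∉ sigma H → q ∉ sigma H := by
    intro q hq hqd hpσH
    rcases prime_dvd_card_sup' (hE₁CD.trans (Subgroup.centralizer_le_normalizer _)) hq hqd
      with h | h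
    · rw [prime_eq_of_dvd_card_pgroup hE₁p hq h]; exact hpσH
    · exact (hDprimes q hq h).2
  -- type of `p` in `H`
  by_cases hpσH : p ∈ sigma H
  · -- (i)
    have hpκ : p ∈ kappa M :=
      mem_kappa_of_centralizer_ne_bot hG hM hpσM hp1M.2.2.2.2 hE₁M hE₁c hD₁ne
    have hNtop := BG7.normalizer_ne_top hG hE₁1 (BG7.pgroup_ne_top hG hE₁p)
    obtain ⟨L, hL, hNPL⟩ := (eq_top_or_exists_le_coatom _).resolve_left hNtop
    have hpσL : p ∈ sigma L := c3 hG hM hL hpκ hE₁M hE₁c hNPL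
    have hconj : ∃ g : G, L = BG7.cj g H := by
      by_contra hne
      push Not at hne
      exact hσ H L hH hL hne p hpσH hpσL
    obtain ⟨g, hg⟩ := hconj
    have hE₁L : E₁ ≤ L := Subgroup.le_normalizer.trans hNPL
    have h1 : BG7.cj g⁻¹ E₁ ≤ H := by
      have := BG7.cj_mono (k := g⁻¹) hE₁L
      rwa [hg, BG7.cj_inv_cj] at this
    obtain ⟨m, hm, c, hc, hgmc⟩ :=
      (Cfsg.Agent.S1404.result hG H hH p hpσH E₁ hE₁p hE₁1 hE₁H).1 g⁻¹ h1
    have hgeq : g = c⁻¹ * m⁻¹ := by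
      have : g = (g⁻¹)⁻¹ := (inv_inv g).symm
      rw [this, hgmc]; group
    have hcL : c ∈ L := hNPL ((Subgroup.centralizer_le_normalizer _) hc)
    have hLH : L = H := by
      have h2 : L = BG7.cj c⁻¹ H := by
        rw [hg, hgeq, BG7.cj_mul,
          BG7.cj_eq_of_mem_normalizer (Subgroup.le_normalizer (H.inv_mem hm))]
      have h3 : BG7.cj c L = H := by rw [h2, BG9.cj_cj_inv]
      rw [← h3, BG7.cj_eq_of_mem_normalizer (Subgroup.le_normalizer hcL)]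
    apply hD₁
    refine le_trans ?_ hDC₃
    rw [hDdef]
    refine le_inf inf_le_left ?_
    exact inf_le_right.trans ((Subgroup.centralizer_le_normalizer _).trans (hLH ▸ hNPL))
  by_cases hp2H : p ∈ tau2 H
  · -- (ii)
    have hbp := Helper3.BG13.bprime hG hM hH hnc hp2H (hE₁c ▸ Subgroup.card_dvd_of_le hE₁M) hpσM
    obtain ⟨y, hyD, hyo⟩ := hDelt_ex q₀ hq₀ hq₀D
    haveI : Fact q₀.Prime := ⟨hq₀⟩
    obtain ⟨-, hq₀2, hq₀ne⟩ := hDelt y hyD q₀ hq₀ hyo
    obtain ⟨hq₀σM, hq₀σH⟩ := hDprimes q₀ hq₀ hq₀D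
    have hy1 : y ≠ 1 := by
      intro h; rw [h, orderOf_one] at hyo; exact hq₀.one_lt.ne hyo
    have hYc : Nat.card (Subgroup.zpowers y) = q₀ := by rw [Nat.card_zpowers, hyo]
    have hYH : Subgroup.zpowers y ≤ H := Subgroup.zpowers_le.mpr (hDH hyD)
    have hq₀3 : q₀ ∉ tau3 H := by
      intro h3
      have h1 := Helper3.BG13.tau3_le_commutator hG hH h3 hYH (isPGroup_of_card_prime hYc)
      have : y ∈ sigmaCore M ⊓ ⁅H, H⁆ := ⟨hDσ hyD, h1 (Subgroup.mem_zpowers y)⟩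
      rw [hbp] at this
      exact hy1 (Subgroup.mem_bot.mp this)
    have hq₀H : q₀ ∣ Nat.card H := by rw [← hyo]; exact Subgroup.orderOf_dvd_natCard H (hDH hyD)
    have hq₀1 : q₀ ∈ tau1 H := by
      rcases type_cases hG hH hq₀ hq₀H with h | h | h | h
      · exact absurd h hq₀σH
      · exact h
      · exact absurd h hq₀2
      · exact absurd h hq₀3
    obtain ⟨EH, hEH', hKEH⟩ := exists_compl_ge hG hH (sup_le hDH hE₁H)
      (fun q hq hqd => hKσ q hq hqd hpσH)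
    have hDEH : D ≤ EH := le_sup_left.trans hKEH
    have hE₁EH : E₁ ≤ EH := le_sup_right.trans hKEH
    obtain ⟨B, hBEH, hBe, hB2⟩ := exists_sq_in_compl hG hH hEH' hp2H
    have h18 := Cfsg.Agent.S1418.result hG H hH EH hEH' p hp2H B ⟨hBEH, hBe, hB2⟩
    have hE₁B : E₁ ≤ B := h18.1.2 E₁ hE₁EH hE₁c
    have hne' : sigmaCore H ⊓ Subgroup.centralizer ({y} : Set G) ≠ ⊥ := by
      rw [← BT.centralizer_zpowers_eq]; exact hq₀ne
    have h7 := Helper3.BG14.no_omega hG hH hEH' hp2H ⟨hBEH, hBe, hB2⟩ hq₀1 (hDEH hyD) hyo hne'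
    have : g₀ ∈ B ⊓ Subgroup.centralizer ({y} : Set G) := by
      refine ⟨hE₁B hg₀E₁, ?_⟩
      show g₀ ∈ Subgroup.centralizer ({y} : Set G)
      rw [Subgroup.mem_centralizer_singleton_iff]
      exact (Subgroup.mem_centralizer_iff.mp (hDle hyD) g₀ hg₀E₁)
    rw [h7] at this
    exact hg₀1 (Subgroup.mem_bot.mp this)
  -- (iii): `p` has rank one in `H`
  obtain ⟨EH, hEH', hKEH⟩ := exists_compl_ge hG hH (sup_le hDH hE₁H)
    (fun q hq hqd => hKσ q hq hqd hpσH)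
  have hDEH : D ≤ EH := le_sup_left.trans hKEH
  have hE₁EH : E₁ ≤ EH := le_sup_right.trans hKEH
  haveI hEHs : Group.IsSolvable ↥EH := isSolvable_of_le hEH'.1
  by_cases h1 : ∃ q : ℕ, q.Prime ∧ q ∣ Nat.card D ∧ q ∈ tau1 H
  · obtain ⟨q, hq, hqD, hq1⟩ := h1
    obtain ⟨y, hyD, hyo⟩ := hDelt_ex q hq hqD
    have hYc : Nat.card (Subgroup.zpowers y) = q := by rw [Nat.card_zpowers, hyo]
    have hYEH : Subgroup.zpowers y ≤ EH := Subgroup.zpowers_le.mpr (hDEH hyD)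
    have hE₁CY : E₁ ≤ Subgroup.centralizer ((Subgroup.zpowers y : Subgroup G) : Set G) :=
      Subgroup.le_centralizer_iff.mp (Subgroup.zpowers_le.mpr (hDle hyD))
    have h28 := Cfsg.Agent.S1428.result hG H hH EH hEH' q hq1 (Subgroup.zpowers y) hYEH hYc E₁
      (le_inf hE₁EH hE₁CY) (hE₁c ▸ hp)
    apply hR₀nC
    have hR₀Y : R₀ ≤ sigmaCore H ⊓
        Subgroup.centralizer ((Subgroup.zpowers y : Subgroup G) : Set G) := by
      refine le_inf hR₀σH ?_
      exact Subgroup.le_centralizer_iff.mp (Subgroup.zpowers_le.mpr (hDR₀ hyD))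
    exact (hR₀Y.trans h28).trans inf_le_right
  · push Not at h1
    -- all primes of `D` are in `τ₃(H)`
    have hD3 : ∀ q : ℕ, q.Prime → q ∣ Nat.card D → q ∈ tau3 H := by
      intro q hq hqD
      obtain ⟨y, hyD, hyo⟩ := hDelt_ex q hq hqD
      obtain ⟨-, hq2, -⟩ := hDelt y hyD q hq hyo
      have hqH : q ∣ Nat.card H := hqD.trans (Subgroup.card_dvd_of_le hDH)
      rcases type_cases hG hH hq hqH with h | h | h | h
      · exact absurd h (hDprimes q hq hqD).2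
      · exact absurd h (h1 q hq hqD)
      · exact absurd h hq2
      · exact h
    obtain ⟨EH₃, hEH₃⟩ := Helper7.BGK.exists_isPiHallOf EH hEHs (tau3 H)
    obtain ⟨EH₁, hEH₁⟩ := Helper7.BGK.exists_isPiHallOf EH hEHs (tau1 H)
    obtain ⟨hcyc3, -, hEHN₃⟩ := (Cfsg.Agent.S1415.result hG H hH EH hEH').2.2 EH₃ hEH₃
    have hDEH₃ : D ≤ EH₃ := by
      obtain ⟨e, he, hDe⟩ := Helper7.BGK.exists_cj_le_of_hall hEHs hEH₃ hDEH hD3
      rwa [BG7.cj_eq_of_mem_normalizer (hEHN₃ he)] at hDe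
    have hcEH₃ : IsMulCommutative ↥EH₃ := by haveI := hcyc3; exact IsCyclic.isMulCommutative
    obtain ⟨y, hyD, hyo⟩ := hDelt_ex q₀ hq₀ hq₀D
    haveI : Fact q₀.Prime := ⟨hq₀⟩
    obtain ⟨huniq, -, hq₀ne⟩ := hDelt y hyD q₀ hq₀ hyo
    have hq₀3 := hD3 q₀ hq₀ hq₀D
    have hy1 : y ≠ 1 := by
      intro h; rw [h, orderOf_one] at hyo; exact hq₀.one_lt.ne hyo
    have hYc : Nat.card (Subgroup.zpowers y) = q₀ := by rw [Nat.card_zpowers, hyo]
    have hYEH : Subgroup.zpowers y ≤ EH := Subgroup.zpowers_le.mpr (hDEH hyD)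
    have hYH : Subgroup.zpowers y ≤ H := hYEH.trans hEH'.1
    have hq₀κ : q₀ ∈ kappa H :=
      mem_kappa_of_centralizer_ne_bot hG hH hq₀3.2.1 hq₀3.2.2.2 hYH hYc hq₀ne
    have hNYM : Subgroup.normalizer ((Subgroup.zpowers y : Subgroup G) : Set G) ≤ M :=
      normalizer_le_of_unique hG (ne_bot_of_card_prime hYc)
        (BG7.pgroup_ne_top hG (isPGroup_of_card_prime hYc)) huniq.2
    obtain ⟨hEHM, -, hτ₂H, -, -, -, -⟩ := lemmaA hG hH hEH' hq₀κ hq₀3 hYEH hYc hM hNYM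
    obtain ⟨-, -, -, -, -, -, hcentH⟩ := compl_struct hG hH hEH' hτ₂H hEH₁ hEH₃
    have hEH₁le : EH₁ ≤ D ⊔ E := by
      rw [← hMH]; exact le_inf (hEH₁.1.trans hEHM) (hEH₁.1.trans hEH'.1)
    have hyC : D ⊔ E ≤ Subgroup.centralizer ({y} : Set G) := by
      apply sup_le
      · intro d hd
        rw [Subgroup.mem_centralizer_singleton_iff]
        have := hcEH₃.is_comm.comm ⟨d, hDEH₃ hd⟩ ⟨y, hDEH₃ hyD⟩
        exact congrArg Subtype.val this
      · intro e he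
        rw [Subgroup.mem_centralizer_singleton_iff]
        exact (Subgroup.mem_centralizer_iff.mp (hDCE hyD) e he)
    have : y ∈ EH₃ ⊓ Subgroup.centralizer (EH₁ : Set G) := by
      refine ⟨hDEH₃ hyD, ?_⟩
      show y ∈ Subgroup.centralizer (EH₁ : Set G)
      rw [Subgroup.mem_centralizer_iff]
      intro e he
      have := hyC (hEH₁le he)
      rw [Subgroup.mem_centralizer_singleton_iff] at this
      exact this
    rw [hcentH] at this
    exact hy1 (Subgroup.mem_bot.mp this)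

end Cfsg.Agent.Lib.Helper1.BGG
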