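import Mathlib
import Cfsg.Agent.Lib.Helper1.BGG2
import Cfsg.Agent.Lib.Helper7.BGE1

set_option autoImplicit false
set_option maxHeartbeats 4000000
set_option linter.unusedVariables false
set_option linter.unusedSectionVars false
set_option linter.style.longLine false
set_option linter.unusedSimpArgs false
set_option linter.deprecated false
set_option linter.style.haveILetI false

/-!
# B&G section 13: S1429 (primes outside `σ(M) ∪ κ(M)`)
-/

open scoped commutatorElement Pointwise
universe u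
namespace Cfsg.Agent.Lib.Helper1.BGG

open Cfsg Cfsg.Agent.Lib.Helper1 Cfsg.Agent.Lib.Helper7.BGRows

variable {G : Type u} [Group G] [Finite G]

/-- S1429 -/
theorem s1429 (hG : IsMinSimpleOddOrder G) (M : Subgroup G) (hM : IsCoatom M)
    (p : ℕ) [hp : Fact p.Prime] (hpM : p ∣ Nat.card M) (hpσκ : p ∉ sigma M ∪ kappa M)
    (S : Sylow p M) :
    Nat.card ↥(Subgroup.closure {x : G | x ∈ (S : Subgroup M).map M.subtype ∧ x ^ p = 1}) ≤ p ^ 2 ∧
      sigmaCore M ⊓ Subgroup.centralizer ((Subgroup.closure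
        {x : G | x ∈ (S : Subgroup M).map M.subtype ∧ x ^ p = 1} : Subgroup G) : Set G) = ⊥ ∧
      Group.IsNilpotent (sigmaCore M) := by
  classical
  have hp' := hp.out
  have hpσ : p ∉ sigma M := fun h => hpσκ (Or.inl h)
  have hpκ : p ∉ kappa M := fun h => hpσκ (Or.inr h)
  obtain ⟨P, hP⟩ : ∃ P : Subgroup G, P = (S : Subgroup M).map M.subtype := ⟨_, rfl⟩
  rw [← hP]
  have hPmax : BG8.IsMaxP p P M := hP ▸ BG8.isMaxP_of_sylow S
  have hPM : P ≤ M := hPmax.1
  have hPp : IsPGroup p P := hPmax.2.1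
  have hpG : p ∣ Nat.card G := hpM.trans (Subgroup.card_subgroup_dvd_card M)
  have hp2 : p ≠ 2 := BG9.odd_prime_of_dvd hG hpG
  have hr2 : PRankLE p 2 ↥M := by
    by_contra h
    exact hpσ (BT.alpha_subset_sigma hG hM ⟨hp', h⟩)
  by_cases hr1 : PRankLE p 1 ↥M
  · -- cyclic Sylow subgroups
    have hPc : IsCyclic ↥P := Helper7.BGB.isCyclic_of_pRankLE_one hp2 hPM hPp hr1
    have hPcomm : ∀ a ∈ P, ∀ b ∈ P, a * b = b * a := by
      haveI := hPc
      exact Douglas.comm_of_isCyclic P
    -- the subgroup of elements of order dividing p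
    let T : Subgroup G :=
      { carrier := {x : G | x ∈ P ∧ x ^ p = 1}
        one_mem' := ⟨P.one_mem, one_pow p⟩
        mul_mem' := by
          rintro a b ⟨ha, hap⟩ ⟨hb, hbp⟩
          refine ⟨P.mul_mem ha hb, ?_⟩
          rw [(Commute.mul_pow (hPcomm a ha b hb) p), hap, hbp, one_mul]
        inv_mem' := by
          rintro a ⟨ha, hap⟩
          exact ⟨P.inv_mem ha, by rw [inv_pow, hap, inv_one]⟩ }
    have hTP : T ≤ P := fun x hx => hx.1
    have hcl : Subgroup.closure {x : G | x ∈ P ∧ x ^ p = 1} = T := by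
      apply le_antisymm
      · rw [Subgroup.closure_le]; intro x hx; exact hx
      · intro x hx; exact Subgroup.subset_closure hx
    rw [hcl]
    have hTe : IsElementaryAbelian p T := by
      refine ⟨⟨⟨?_⟩⟩, fun a ha => ha.2⟩
      rintro ⟨a, ha⟩ ⟨b, hb⟩
      apply Subtype.ext
      exact hPcomm a ha.1 b hb.1
    have hTc : IsCyclic ↥T := by
      haveI := hPc
      have h1 : IsCyclic (T.subgroupOf P) := inferInstance
      exact isCyclic_of_surjective (Subgroup.subgroupOfEquivOfLe hTP)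
        (Subgroup.subgroupOfEquivOfLe hTP).surjective
    have hTle : Nat.card T ≤ p := BG9.card_le_of_isCyclic_elementary hp' hTe hTc
    -- `P ≠ ⊥`, so there is an element of order `p` in `T`
    have hP1 : P ≠ ⊥ := by
      intro h
      have h1 : ¬ p ∣ P.relIndex M := by
        obtain ⟨R, hR⟩ := hPmax.exists_sylow
        have h7 : ((R : Subgroup ↥M).map M.subtype).subgroupOf M = (R : Subgroup ↥M) :=
          subgroupOf_map_subtype' _
        rw [← hR, Subgroup.relIndex, h7]
        exact R.not_dvd_index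
      rw [h, Subgroup.relIndex_bot_left] at h1
      exact h1 hpM
    obtain ⟨x, hx⟩ := exists_prime_orderOf_dvd_card' (G := ↥P) p
      (BG8.dvd_card_of_isPGroup_ne_bot hPp hP1)
    have hxo : orderOf (x : G) = p := by rw [Subgroup.orderOf_coe]; exact hx
    have hxT : (x : G) ∈ T := ⟨x.2, by rw [← hxo]; exact pow_orderOf_eq_one _⟩
    have hx1 : (x : G) ≠ 1 := by
      intro h
      rw [h, orderOf_one] at hxo
      exact hp'.one_lt.ne hxo
    -- `p ∉ κ(M)`: some Sylow subgroup acts without fixed points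
    have hκ : ∃ P₀ : Sylow p M, ∀ z : M, z ∈ (P₀ : Subgroup M) → z ≠ 1 →
        ∀ y ∈ sigmaCore M, y ≠ 1 → (z : G) * y ≠ y * z := by
      by_contra hcon
      push Not at hcon
      apply hpκ
      refine ⟨hp', hpM, hpσ, fun P₀ => ⟨?_, ?_⟩⟩
      · have hP₀ := BG8.isMaxP_of_sylow P₀
        have hc : IsCyclic ↥((P₀ : Subgroup M).map M.subtype) :=
          Helper7.BGB.isCyclic_of_pRankLE_one hp2 hP₀.1 hP₀.2.1 hr1
        exact isCyclic_of_surjective
          ((P₀ : Subgroup M).equivMapOfInjective M.subtype M.subtype_injective).symm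
          ((P₀ : Subgroup M).equivMapOfInjective M.subtype M.subtype_injective).symm.surjective
      · obtain ⟨z, hz, hz1, y, hy, hy1, hzy⟩ := hcon P₀
        exact ⟨z, hz, hz1, y, hy, hy1, hzy⟩
    obtain ⟨P₀, hP₀⟩ := hκ
    -- transport to `S`
    obtain ⟨m, hm⟩ := MulAction.exists_smul_eq ↥M P₀ S
    have hfpf : ∀ z ∈ P, z ≠ 1 → ∀ y ∈ sigmaCore M, y ≠ 1 → z * y ≠ y * z := by
      intro z hz hz1 y hy hy1 hzy
      rw [hP] at hz
      obtain ⟨z', hz', rfl⟩ := hz
      have hz'S : z' ∈ MulAut.conj m • (P₀ : Subgroup M) := by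
        rw [← Sylow.pointwise_smul_def, ← Sylow.smul_def, hm]; exact hz'
      rw [Subgroup.mem_pointwise_smul_iff_inv_smul_mem, MulAut.smul_def,
        MulAut.conj_inv_apply] at hz'S
      have hz'1 : m⁻¹ * z' * m ≠ 1 := by
        intro h
        apply hz1
        have : z' = 1 := by
          have h2 : z' = m * (m⁻¹ * z' * m) * m⁻¹ := by group
          rw [h2, h]; group
        rw [this]; rfl
      have hmM : (m : G) ∈ M := m.2
      have hy' : (m : G)⁻¹ * y * (m : G) ∈ sigmaCore M := by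
        have := (Subgroup.mem_normalizer_iff.mp
          (Helper3.BG12.le_normalizer_sigmaCore M (M.inv_mem hmM)) y).mp hy
        simpa using this
      have hy'1 : (m : G)⁻¹ * y * (m : G) ≠ 1 := by
        intro h
        apply hy1
        have h2 : y = (m : G) * ((m : G)⁻¹ * y * (m : G)) * (m : G)⁻¹ := by group
        rw [h2, h]; group
      apply hP₀ (m⁻¹ * z' * m) hz'S hz'1 _ hy' hy'1
      have hzy' : (z' : G) * y = y * (z' : G) := hzy
      simp only [Subgroup.coe_mul, Subgroup.coe_inv]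
      calc (m : G)⁻¹ * (z' : G) * (m : G) * ((m : G)⁻¹ * y * (m : G))
          = (m : G)⁻¹ * ((z' : G) * y) * (m : G) := by group
        _ = (m : G)⁻¹ * (y * (z' : G)) * (m : G) := by rw [hzy']
        _ = (m : G)⁻¹ * y * (m : G) * ((m : G)⁻¹ * (z' : G) * (m : G)) := by group
    have hfpfT : sigmaCore M ⊓ Subgroup.centralizer (T : Set G) = ⊥ := by
      rw [eq_bot_iff]
      intro y hy
      obtain ⟨hyσ, hyC⟩ := Subgroup.mem_inf.mp hy
      rw [Subgroup.mem_bot]
      by_contra hy1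
      have h1 := (Subgroup.mem_centralizer_iff.mp hyC) (x : G) hxT
      exact hfpf (x : G) x.2 hx1 y hyσ hy1 h1
    refine ⟨hTle.trans ?_, hfpfT, ?_⟩
    · calc p = p ^ 1 := (pow_one p).symm
        _ ≤ p ^ 2 := Nat.pow_le_pow_right hp'.pos (by norm_num)
    · -- the subgroup generated by `x` has order `p` and acts without fixed points
      have hZc : Nat.card (Subgroup.zpowers (x : G)) = p := by rw [Nat.card_zpowers, hxo]
      have hZM : Subgroup.zpowers (x : G) ≤ M := by
        rw [Subgroup.zpowers_le]; exact hPM x.2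
      refine Helper7.BGE.Exc.nilpotent_of_fpf_subgroup (p := p) hZM hZc ?_
      rw [eq_bot_iff]
      intro y hy
      obtain ⟨hyσ, hyC⟩ := Subgroup.mem_inf.mp hy
      rw [Subgroup.mem_bot]
      by_contra hy1
      have h1 := (Subgroup.mem_centralizer_iff.mp hyC) (x : G) (Subgroup.mem_zpowers _)
      exact hfpf (x : G) x.2 hx1 y hyσ hy1 h1
  · -- rank two
    have hτ : p ∈ tau2 M := ⟨hp', hpσ, hr2, hr1⟩
    obtain ⟨A₀, hA₀M, hA₀e, hA₀2⟩ := Helper7.BGD.exists_sq_of_rank hr2 hr1
    have hA₀p : IsPGroup p A₀ := BG9.isPGroup_of_isElementaryAbelian hA₀e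
    obtain ⟨m, hm, hA₀m⟩ := BT.exists_cj_ge hPmax hA₀p hA₀M
    obtain ⟨A, hA⟩ : ∃ A, A = BG7.cj m⁻¹ A₀ := ⟨_, rfl⟩
    have hAP : A ≤ P := by
      rw [hA]
      have := BG7.cj_mono (k := m⁻¹) hA₀m; rwa [BG7.cj_inv_cj] at this
    have hAe : IsElementaryAbelian p A := hA ▸ BG9.isElementaryAbelian_cj m⁻¹ hA₀e
    have hA2 : Nat.card A = p ^ 2 := by rw [hA, BG7.card_cj, hA₀2]
    have h17 := Cfsg.Agent.S1417.result hG M hM p hτ A ⟨hAP.trans hPM, hAe, hA2⟩
    have hΩ := (h17.2.1 S).2 (hP ▸ hAP)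
    have hset : {x : G | x ∈ P ∧ x ^ p = 1} = (A : Set G) := by
      ext x
      constructor
      · rintro ⟨hx, hxp⟩
        exact (hΩ.1 x (hP ▸ hx)).mp hxp
      · intro hx
        exact ⟨hAP hx, hAe.2 x hx⟩
    rw [hset, Subgroup.closure_eq]
    exact ⟨le_of_eq hA2, h17.2.2.2.1, h17.1⟩

end Cfsg.Agent.Lib.Helper1.BGG
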