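import Mathlib
import Cfsg.Agent.Lib.Helper1.BGG12
import Cfsg.Agent.Lib.Helper3.BG15g

set_option autoImplicit false
set_option maxHeartbeats 4000000
set_option linter.unusedVariables false
set_option linter.unusedSectionVars false
set_option linter.style.longLine false
set_option linter.unusedSimpArgs false
set_option linter.deprecated false
set_option linter.style.haveILetI false

/-!
# B&G section 14, part 13: the second branch of the dichotomy is impossible (the CROSS case)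
-/

open scoped commutatorElement Pointwise
universe u
namespace Cfsg.Agent.Lib.Helper1.BGG

open Cfsg Cfsg.Agent.Lib.Helper1 Cfsg.Agent.Lib.Helper7.BGRows

variable {G : Type u} [Group G] [Finite G]

/-- in the Frobenius situation `|E₁| = p`, no subgroup of prime order `t ∉ σ(M)`, `t ≠ p`, of `M`
centralizes `E₁` -/
theorem no_cent (hG : IsMinSimpleOddOrder G) {M E E₁ : Subgroup G} (hM : IsCoatom M)
    (hE : IsComplIn E (sigmaCore M) M) (hτ₂ : ∀ q : ℕ, q ∉ tau2 M)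
    (hE₁ : IsPiHallOf (tau1 M) E₁ E) {p : ℕ} [hp : Fact p.Prime] (hE₁c : Nat.card E₁ = p)
    {X' : Subgroup G} (hX'M : X' ≤ M) {t : ℕ} [ht : Fact t.Prime] (hX'c : Nat.card X' = t)
    (htσ : t ∉ sigma M) (htp : t ≠ p)
    (hX'C : X' ≤ Subgroup.centralizer (E₁ : Set G)) : False := by
  classical
  have hpp := hp.out
  have htt := ht.out
  haveI hMs : Group.IsSolvable ↥M := BG7.isSolvable_of_ne_top hG hM.1
  have hp1M : p ∈ tau1 M := hE₁.2.1 p hpp (hE₁c ▸ dvd_rfl)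
  have hE₁p : IsPGroup p E₁ := isPGroup_of_card_prime hE₁c
  have hX't : IsPGroup t X' := isPGroup_of_card_prime hX'c
  have hE₁M : E₁ ≤ M := hE₁.1.trans hE.1
  have hE₁N : E₁ ≤ Subgroup.normalizer (X' : Set G) :=
    (Subgroup.le_centralizer_iff.mp hX'C).trans (Subgroup.centralizer_le_normalizer _)
  have hKσ : ∀ q : ℕ, q.Prime → q ∣ Nat.card ↥(X' ⊔ E₁) → q ∉ sigma M := by
    intro q hq hqd
    rcases prime_dvd_card_sup' hE₁N hq hqd with h | h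
    · rw [prime_eq_of_dvd_card_pgroup hE₁p hq h]; exact hp1M.2.1
    · rw [prime_eq_of_dvd_card_pgroup hX't hq h]; exact htσ
  obtain ⟨E', hE', hKE'⟩ := exists_compl_ge hG hM (sup_le hX'M hE₁M) hKσ
  have hX'E' : X' ≤ E' := le_sup_left.trans hKE'
  have hE₁E' : E₁ ≤ E' := le_sup_right.trans hKE'
  haveI hE's : Group.IsSolvable ↥E' := isSolvable_of_le hE'.1
  obtain ⟨F₀, hF₀⟩ := Helper7.BGK.exists_isPiHallOf E' hE's (tau1 M)
  obtain ⟨e, he, hE₁e⟩ := Helper7.BGK.exists_cj_le_of_hall hE's hF₀ hE₁E' (by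
    intro q hq hqd
    rw [prime_eq_of_dvd_card_pgroup hE₁p hq hqd]; exact hp1M)
  obtain ⟨F, hFdef⟩ : ∃ F, F = BG7.cj e F₀ := ⟨_, rfl⟩
  have hF : IsPiHallOf (tau1 M) F E' := hFdef ▸ Helper7.BGK.isPiHallOf_cj hF₀ he
  have hE₁F : E₁ ≤ F := hFdef ▸ hE₁e
  -- `|F| = |E₁|`
  have hcardE : Nat.card E' = Nat.card E := by
    rw [← Cfsg.Agent.Lib.Lead.ComplIn.relIndex_right hE',
      ← Cfsg.Agent.Lib.Lead.ComplIn.relIndex_right hE]
  obtain ⟨a, b, hab, ha, hb⟩ := Helper2.exists_pi_decomp (tau1 M) (Nat.card E) Nat.card_pos.ne'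
  have h1 := ((Helper2.isPiHallOf_iff_card hab ha hb).mp hE₁).2
  have h2 := ((Helper2.isPiHallOf_iff_card (hcardE.trans hab) ha hb).mp hF).2
  have hFc : Nat.card F = p := by rw [h2, ← h1, hE₁c]
  have hFE₁ : E₁ = F := Subgroup.eq_of_le_of_card_ge hE₁F (by rw [hFc, hE₁c])
  -- the type of `t`
  have htE' : t ∣ Nat.card E' := hX'c ▸ Subgroup.card_dvd_of_le hX'E'
  have htM : t ∣ Nat.card M := htE'.trans (Subgroup.card_dvd_of_le hE'.1)
  have ht3 : t ∈ tau3 M := by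
    rcases type_cases hG hM htt htM with h | h | h | h
    · exact absurd h htσ
    · exfalso
      have h3 := hF.2.2 t htt h
      have h4 : Nat.card F * F.relIndex E' = Nat.card E' := by
        have := Subgroup.relIndex_mul_relIndex ⊥ F E' bot_le hF.1
        rwa [Subgroup.relIndex_bot_left, Subgroup.relIndex_bot_left] at this
      rw [← h4, hFc] at htE'
      rcases (Nat.Prime.dvd_mul htt).mp htE' with h5 | h5
      · exact htp ((Nat.prime_dvd_prime_iff_eq htt hpp).mp h5)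
      · exact h3 h5
    · exact absurd h (hτ₂ t)
    · exact h
  obtain ⟨-, F₃, hF₃, -, -, -, hX'F₃⟩ := tau3_le_commutator_compl hG hM hE' ht3 hX'E' hX't
  obtain ⟨-, -, -, -, -, -, hcent⟩ := compl_struct hG hM hE' hτ₂ hF hF₃
  have : X' ≤ F₃ ⊓ Subgroup.centralizer (F : Set G) := le_inf hX'F₃ (hFE₁ ▸ hX'C)
  rw [hcent] at this
  exact ne_bot_of_card_prime hX'c (le_bot_iff.mp this)

omit [Finite G] in
theorem cj_le_centralizer {X' A : Subgroup G} {c : G}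
    (hc : c ∈ Subgroup.centralizer (A : Set G)) (h : X' ≤ Subgroup.centralizer (A : Set G)) :
    BG7.cj c X' ≤ Subgroup.centralizer (A : Set G) := by
  intro z hz
  rw [BG7.mem_cj] at hz
  have h1 := h hz
  have e : z = c * (c⁻¹ * z * c) * c⁻¹ := by group
  rw [e]
  exact Subgroup.mul_mem _ (Subgroup.mul_mem _ hc h1) (Subgroup.inv_mem _ hc)

/-- **(b\*) with `D ≰ D₁` is impossible** -/
theorem bstar_cross
    (hσ : ∀ M Ms : Subgroup G, IsCoatom M → IsCoatom Ms → (∀ g : G, Ms ≠ BG7.cj g M) →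
      ∀ q : ℕ, q ∈ sigma M → q ∈ sigma Ms → False)
    (hG : IsMinSimpleOddOrder G) {M E E₁ E₃ H R₀ : Subgroup G} (hM : IsCoatom M)
    (hE : IsComplIn E (sigmaCore M) M) {r : ℕ} [hr : Fact r.Prime] (hrκ : r ∈ kappa M)
    (hr3 : r ∈ tau3 M) (hE₁ : IsPiHallOf (tau1 M) E₁ E) (hE₃ : IsPiHallOf (tau3 M) E₃ E)
    (hp : (Nat.card E₁).Prime)
    (hD₁ : ¬ sigmaCore M ⊓ Subgroup.centralizer (E₁ : Set G) ≤
      Subgroup.centralizer (E₃ : Set G))
    (hR₀E : R₀ ≤ E) (hR₀ : Nat.card R₀ = r) (hH : IsCoatom H)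
    (hNR : Subgroup.normalizer (R₀ : Set G) ≤ H)
    (hDD₁ : ¬ sigmaCore M ⊓ H ≤ Subgroup.centralizer (E₁ : Set G)) : False := by
  classical
  have hrr := hr.out
  obtain ⟨hEH, hnc, hτ₂, hrσH, hDeq, hall3, hMH⟩ := lemmaA hG hM hE hrκ hr3 hR₀E hR₀ hH hNR
  obtain ⟨-, -, -, -, -, haux3, -⟩ := lemmaA_aux hG hM hE hrκ hr3 hR₀E hR₀ hH hNR
  obtain ⟨hR₀E₃, hDC₃⟩ := haux3 E₃ hE₃
  haveI hMs : Group.IsSolvable ↥M := BG7.isSolvable_of_ne_top hG hM.1
  haveI hHs : Group.IsSolvable ↥H := BG7.isSolvable_of_ne_top hG hH.1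
  have hσM : sigmaCore M ≤ M := Helper3.BG12.sigmaCore_le M
  have hσH' : sigmaCore H ≤ H := Helper3.BG12.sigmaCore_le H
  have hHM : H ≠ M := Helper3.BG13.ne_of_nonconj hnc
  have hR₀M : R₀ ≤ M := hR₀E.trans hE.1
  have hR₀1 : R₀ ≠ ⊥ := ne_bot_of_card_prime hR₀
  have hR₀r : IsPGroup r R₀ := isPGroup_of_card_prime hR₀
  have hR₀H : R₀ ≤ H := hR₀E.trans hEH
  have hR₀σH : R₀ ≤ sigmaCore H :=
    Helper3.BG12.le_sigmaCore_of_isPGroup hG hH hrσH hR₀H hR₀r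
  obtain ⟨w₀, hw₀R, hw₀o, hR₀w⟩ := exists_generator_of_card_prime hR₀
  have hw₀1 : w₀ ≠ 1 := by
    intro h; rw [h, orderOf_one] at hw₀o; exact hrr.one_lt.ne hw₀o
  obtain ⟨p, hpdef⟩ : ∃ p, p = Nat.card E₁ := ⟨_, rfl⟩
  rw [← hpdef] at hp
  haveI hpF : Fact p.Prime := ⟨hp⟩
  have hE₁c : Nat.card E₁ = p := hpdef.symm
  have hp1M : p ∈ tau1 M := hE₁.2.1 p hp (hpdef ▸ dvd_rfl)
  have hpσM : p ∉ sigma M := hp1M.2.1
  obtain ⟨g₀, hg₀E₁, hg₀o, hE₁g⟩ := exists_generator_of_card_prime hE₁c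
  have hE₁1 : E₁ ≠ ⊥ := ne_bot_of_card_prime hE₁c
  have hE₁p : IsPGroup p E₁ := isPGroup_of_card_prime hE₁c
  have hE₁E : E₁ ≤ E := hE₁.1
  have hE₁M : E₁ ≤ M := hE₁E.trans hE.1
  have hE₁H : E₁ ≤ H := hE₁E.trans hEH
  have hCE₁ : Subgroup.centralizer (E₁ : Set G) = Subgroup.centralizer ({g₀} : Set G) := by
    rw [hE₁g, BT.centralizer_zpowers_eq]
  have hpH : p ∣ Nat.card H := hE₁c ▸ Subgroup.card_dvd_of_le hE₁H
  obtain ⟨D, hDdef⟩ : ∃ D, D = sigmaCore M ⊓ H := ⟨_, rfl⟩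
  rw [← hDdef] at hDD₁ hDC₃ hMH
  have hDσ : D ≤ sigmaCore M := hDdef ▸ inf_le_left
  have hDH : D ≤ H := hDdef ▸ inf_le_right
  have hD₁ne : sigmaCore M ⊓ Subgroup.centralizer (E₁ : Set G) ≠ ⊥ := by
    intro h; apply hD₁; rw [h]; exact bot_le
  have hDR₀ : D ≤ Subgroup.centralizer (R₀ : Set G) :=
    hDC₃.trans (Subgroup.centralizer_le (SetLike.coe_subset_coe.mpr hR₀E₃))
  have hDprimes : ∀ q : ℕ, q.Prime → q ∣ Nat.card D → q ∈ sigma M ∧ q ∉ sigma H := by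
    intro q hq hqd
    have h1 : q ∈ sigma M :=
      (Helper7.BGA.s1350 hG M hM).1.2.1 q hq (hqd.trans (Subgroup.card_dvd_of_le hDσ))
    exact ⟨h1, fun h2 => hσ M H hM hH hnc q h1 h2⟩
  -- (1) `p ∈ τ₁(H)`
  have hp1H : p ∈ tau1 H := by
    by_contra hnot
    have htype : p ∈ sigma H ∨ p ∈ tau2 H ∨ p ∈ tau3 H := by
      rcases type_cases hG hH hp hpH with h | h | h | h
      · exact Or.inl h
      · exact absurd h hnot
      · exact Or.inr (Or.inl h)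
      · exact Or.inr (Or.inr h)
    have hT1 := Helper3.BG13.comm_eq_bot_gen hG hM hH hnc hpσM hE₁M hE₁H hE₁p htype
    apply hDD₁
    rw [hDdef]
    exact Subgroup.commutator_eq_bot_iff_le_centralizer.mp hT1
  have hpσH : p ∉ sigma H := hp1H.2.1
  -- (2) the complement `E_H ⊇ D ⊔ E₁`
  have hE₁ND : E₁ ≤ Subgroup.normalizer (D : Set G) := by
    rw [hDdef]
    apply le_normalizer_inf
    · exact hE₁M.trans (Helper3.BG12.le_normalizer_sigmaCore M)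
    · exact hE₁H.trans Subgroup.le_normalizer
  have hKσ : ∀ q : ℕ, q.Prime → q ∣ Nat.card ↥(D ⊔ E₁) → q ∉ sigma H := by
    intro q hq hqd
    rcases prime_dvd_card_sup' hE₁ND hq hqd with h | h
    · rw [prime_eq_of_dvd_card_pgroup hE₁p hq h]; exact hpσH
    · exact (hDprimes q hq h).2
  obtain ⟨EH, hEH', hKEH⟩ := exists_compl_ge hG hH (sup_le hDH hE₁H) hKσ
  have hDEH : D ≤ EH := le_sup_left.trans hKEH
  have hE₁EH : E₁ ≤ EH := le_sup_right.trans hKEH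
  haveI hEHs : Group.IsSolvable ↥EH := isSolvable_of_le hEH'.1
  obtain ⟨W, hWdef⟩ : ∃ W, W = ⁅D, E₁⁆ := ⟨_, rfl⟩
  have hW1 : W ≠ ⊥ := by
    intro h
    apply hDD₁
    rw [hWdef] at h
    exact Subgroup.commutator_eq_bot_iff_le_centralizer.mp h
  have hWD : W ≤ D := hWdef ▸ BG8.commutator_le_of_le_normalizer hE₁ND
  have hWEH' : W ≤ ⁅EH, EH⁆ := hWdef ▸ Subgroup.commutator_mono hDEH hE₁EH
  have hcEH' : IsMulCommutative ↥⁅EH, EH⁆ := (Cfsg.Agent.S1420.result hG H hH EH hEH').2.1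
  haveI hcW : IsMulCommutative ↥W := by
    refine ⟨⟨fun a b => ?_⟩⟩
    have := hcEH'.is_comm.comm ⟨(a : G), hWEH' a.2⟩ ⟨(b : G), hWEH' b.2⟩
    have h2 : (a : G) * b = b * a := congrArg Subtype.val this
    exact Subtype.ext h2
  have hcopE₁σ : (Nat.card E₁).Coprime (Nat.card (sigmaCore M)) :=
    Helper7.BGD.coprime_sigmaCore hG hM (by
      intro q hq hqd
      rw [prime_eq_of_dvd_card_pgroup hE₁p hq hqd]; exact hpσM)
  have hcopE₁D : (Nat.card E₁).Coprime (Nat.card D) :=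
    Nat.Coprime.coprime_dvd_right (Subgroup.card_dvd_of_le hDσ) hcopE₁σ
  have hDsolv : Group.IsSolvable ↥D := isSolvable_of_le (hDσ.trans hσM)
  have hWW : ⁅W, E₁⁆ = W := by
    rw [hWdef]; exact coprime_commutator_commutator E₁ D hE₁ND hcopE₁D (Or.inr hDsolv)
  have hE₁NW : E₁ ≤ Subgroup.normalizer (W : Set G) := by
    rw [hWdef]; exact le_normalizer_commutator_of_le hE₁ND Subgroup.le_normalizer
  have hWC : W ⊓ Subgroup.centralizer (E₁ : Set G) = ⊥ := by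
    have h1 := (coprime_abelian_decomposition E₁ W hE₁NW
      (Nat.Coprime.coprime_dvd_right (Subgroup.card_dvd_of_le hWD) hcopE₁D)).1
    rw [hWW] at h1
    rw [eq_bot_iff, ← h1]
    exact le_inf le_rfl inf_le_left
  obtain ⟨q, hq, hqW⟩ : ∃ q : ℕ, q.Prime ∧ q ∣ Nat.card W := by
    apply Nat.exists_prime_and_dvd
    intro h; exact hW1 (Subgroup.card_eq_one.mp h)
  haveI hqF : Fact q.Prime := ⟨hq⟩
  obtain ⟨⟨y, hyW⟩, hyo'⟩ := exists_prime_orderOf_dvd_card' q hqW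
  have hyo : orderOf y = q := by rw [← hyo']; exact (Subgroup.orderOf_mk y hyW).symm
  have hy1 : y ≠ 1 := by
    intro h; rw [h, orderOf_one] at hyo; exact hq.one_lt.ne hyo
  have hyD : y ∈ D := hWD hyW
  obtain ⟨hqσM, hqσH⟩ := hDprimes q hq (hqW.trans (Subgroup.card_dvd_of_le hWD))
  obtain ⟨Y, hYdef⟩ : ∃ Y : Subgroup G, Y = Subgroup.zpowers y := ⟨_, rfl⟩
  have hYc : Nat.card Y = q := by rw [hYdef, Nat.card_zpowers, hyo]
  have hYq : IsPGroup q Y := isPGroup_of_card_prime hYc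
  have hY1 : Y ≠ ⊥ := ne_bot_of_card_prime hYc
  have hyY : y ∈ Y := hYdef ▸ Subgroup.mem_zpowers y
  have hYD : Y ≤ D := by rw [hYdef]; exact Subgroup.zpowers_le.mpr hyD
  have hYEH : Y ≤ EH := hYD.trans hDEH
  have hYH : Y ≤ H := hYD.trans hDH
  have hYM : Y ≤ M := hYD.trans (hDσ.trans hσM)
  have hyw : y * w₀ = w₀ * y :=
    (Subgroup.mem_centralizer_iff.mp (hDR₀ hyD) w₀ hw₀R).symm
  have hqH : q ∣ Nat.card H := hYc ▸ Subgroup.card_dvd_of_le hYH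
  have hq1 : q ∉ tau1 H := by
    intro h
    apply h.2.2.2.1
    rw [← hYc]
    exact Subgroup.card_dvd_of_le
      ((hYdef ▸ Subgroup.zpowers_le.mpr (hWEH' hyW) : Y ≤ ⁅EH, EH⁆).trans
        (Subgroup.commutator_mono hEH'.1 hEH'.1))
  have hq2 : q ∉ tau2 H := by
    intro hq2
    have h20 := (Cfsg.Agent.S1420.result hG H hH EH hEH').2.2.2 y (hDH hyD) hy1
      (by
        intro p' hp' hp'd
        rw [hyo] at hp'd
        rw [(Nat.prime_dvd_prime_iff_eq hp' hq).mp hp'd]; exact hq2)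
      ⟨hDH hyD, w₀, hR₀σH hw₀R, hw₀1, hyw⟩
    have huniqH : ∀ L' : Subgroup G, IsCoatom L' →
        Subgroup.centralizer (Y : Set G) ≤ L' → L' = H := by
      intro L' hL' hle
      rw [hYdef, BT.centralizer_zpowers_eq] at hle
      exact h20.2 L' hL' hle
    have hNYH : Subgroup.normalizer (Y : Set G) ≤ H :=
      normalizer_le_of_unique hG hY1 (BG7.pgroup_ne_top hG hYq) huniqH
    obtain ⟨S, hSI, hYS⟩ := BT.exists_isMaxP_ge (p := q) (H := M ⊓ H) hYq (le_inf hYM hYH)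
    obtain ⟨Sy, hSy⟩ := hSI.exists_sylow
    have h24 := Cfsg.Agent.S1424.result hG M hM q hqσM Y hYq hY1 hYM H hH hHM hNYH Sy
      (by rw [hSy]; exact hYS)
    rw [hSy] at h24
    obtain ⟨-, -, hidx⟩ := h24
    have hSM' : S ≤ M := hSI.1.trans inf_le_left
    have hSH : S ≤ H := hSI.1.trans inf_le_right
    have hSmax : BG8.IsMaxP q S H := isMaxP_of_not_dvd_relIndex hSH hSI.2.1 hidx
    obtain ⟨-, B, -, hBS, hBe, hB2, -, -, -⟩ :=
      Helper3.BG13.e13 hG hM hH hqσM hqσH hY1 hNYH hYS hSmax hSM'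
    have h17 := Cfsg.Agent.S1417.result hG H hH q hq2 B ⟨hBS.trans hSH, hBe, hB2⟩
    have hbot := h17.2.2.2.2.1 M hM (Ne.symm hHM) (hBS.trans hSM')
    have : R₀ ≤ sigmaCore H ⊓ M := le_inf hR₀σH hR₀M
    rw [hbot] at this
    exact hR₀1 (le_bot_iff.mp this)
  have hq3 : q ∈ tau3 H := by
    rcases type_cases hG hH hq hqH with h | h | h | h
    · exact absurd h hqσH
    · exact absurd h hq1
    · exact absurd h hq2
    · exact h
  have hYne : sigmaCore H ⊓ Subgroup.centralizer (Y : Set G) ≠ ⊥ := by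
    intro h
    have : w₀ ∈ sigmaCore H ⊓ Subgroup.centralizer (Y : Set G) := by
      refine ⟨hR₀σH hw₀R, ?_⟩
      show w₀ ∈ Subgroup.centralizer (Y : Set G)
      rw [hYdef, BT.centralizer_zpowers_eq, Subgroup.mem_centralizer_singleton_iff]
      exact hyw.symm
    rw [h] at this
    exact hw₀1 (Subgroup.mem_bot.mp this)
  have hqκ : q ∈ kappa H :=
    mem_kappa_of_centralizer_ne_bot hG hH hqσH hq3.2.2.2 hYH hYc hYne
  -- (3) Hall subgroups of `E_H`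
  obtain ⟨EH₃, hEH₃⟩ := Helper7.BGK.exists_isPiHallOf EH hEHs (tau3 H)
  obtain ⟨F₀, hF₀⟩ := Helper7.BGK.exists_isPiHallOf EH hEHs (tau1 H)
  obtain ⟨e, he, hE₁e⟩ := Helper7.BGK.exists_cj_le_of_hall hEHs hF₀ hE₁EH (by
    intro s hs hsd
    rw [prime_eq_of_dvd_card_pgroup hE₁p hs hsd]; exact hp1H)
  obtain ⟨EH₁, hEH₁def⟩ : ∃ F, F = BG7.cj e F₀ := ⟨_, rfl⟩
  have hEH₁ : IsPiHallOf (tau1 H) EH₁ EH := hEH₁def ▸ Helper7.BGK.isPiHallOf_cj hF₀ he
  have hE₁EH₁ : E₁ ≤ EH₁ := hEH₁def ▸ hE₁e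
  obtain ⟨-, -, hEHN₃⟩ := (Cfsg.Agent.S1415.result hG H hH EH hEH').2.2 EH₃ hEH₃
  have hYEH₃ : Y ≤ EH₃ := by
    obtain ⟨e', he', hYe⟩ := Helper7.BGK.exists_cj_le_of_hall hEHs hEH₃ hYEH (by
      intro s hs hsd
      rw [prime_eq_of_dvd_card_pgroup hYq hs hsd]; exact hq3)
    rwa [BG7.cj_eq_of_mem_normalizer (hEHN₃ he')] at hYe
  have hNYtop := BG7.normalizer_ne_top hG hY1 (BG7.pgroup_ne_top hG hYq)
  obtain ⟨H₂, hH₂, hNYH₂⟩ := (eq_top_or_exists_le_coatom _).resolve_left hNYtop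
  obtain ⟨-, -, hτ₂H, -, -, -, -⟩ := lemmaA hG hH hEH' hqκ hq3 hYEH hYc hH₂ hNYH₂
  have hEH₁eq : E₁ = EH₁ ∧ sigmaCore H ⊓ Subgroup.centralizer (E₁ : Set G) ≠ ⊥ := by
    rcases r5_dichotomy hG hH hEH' hqκ hq3 hEH₁ hEH₃ with ⟨hbr, -⟩ | ⟨hprime, hne⟩
    · exfalso
      have h1 := hbr E₁ hE₁EH₁ (hE₁c ▸ hp)
      have h2 : y ∈ W ⊓ Subgroup.centralizer (E₁ : Set G) := by
        refine ⟨hyW, ?_⟩
        exact Subgroup.le_centralizer_iff.mp
          (h1.trans (Subgroup.centralizer_le (SetLike.coe_subset_coe.mpr hYEH₃))) hyY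
      rw [hWC] at h2
      exact hy1 (Subgroup.mem_bot.mp h2)
    · have hdvd : Nat.card E₁ ∣ Nat.card EH₁ := Subgroup.card_dvd_of_le hE₁EH₁
      have hcardeq : Nat.card E₁ = Nat.card EH₁ := by
        rcases (Nat.dvd_prime hprime).mp hdvd with h | h
        · exact absurd (Subgroup.card_eq_one.mp h) hE₁1
        · exact h
      have heq : E₁ = EH₁ := Subgroup.eq_of_le_of_card_ge hE₁EH₁ hcardeq.ge
      refine ⟨heq, ?_⟩
      intro h
      apply hne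
      rw [← heq, h]; exact bot_le
  obtain ⟨hE₁eq, hDHne⟩ := hEH₁eq
  -- (4) elements `x`, `x*`
  have hex : ∀ (N : Subgroup G), N ≠ ⊥ → ∃ t : ℕ, t.Prime ∧ ∃ x ∈ N, orderOf x = t := by
    intro N hN
    obtain ⟨t, ht, htN⟩ : ∃ t : ℕ, t.Prime ∧ t ∣ Nat.card N := by
      apply Nat.exists_prime_and_dvd
      intro h; exact hN (Subgroup.card_eq_one.mp h)
    haveI : Fact t.Prime := ⟨ht⟩
    obtain ⟨⟨x, hxN⟩, hxo'⟩ := exists_prime_orderOf_dvd_card' t htN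
    exact ⟨t, ht, x, hxN, by rw [← hxo']; exact (Subgroup.orderOf_mk x hxN).symm⟩
  obtain ⟨t, ht, x, hxD₁, hxo⟩ := hex _ hD₁ne
  obtain ⟨ts, hts, xs, hxsD, hxso⟩ := hex _ hDHne
  haveI htF : Fact t.Prime := ⟨ht⟩
  haveI htsF : Fact ts.Prime := ⟨hts⟩
  have hxM : x ∈ M := hσM hxD₁.1
  have hxsH : xs ∈ H := hσH' hxsD.1
  have hXσ : Subgroup.zpowers x ≤ sigmaCore M := Subgroup.zpowers_le.mpr hxD₁.1
  have hXsσ : Subgroup.zpowers xs ≤ sigmaCore H := Subgroup.zpowers_le.mpr hxsD.1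
  have hxg : x ∈ Subgroup.centralizer ({g₀} : Set G) := hCE₁ ▸ hxD₁.2
  have hxsg : xs ∈ Subgroup.centralizer ({g₀} : Set G) := hCE₁ ▸ hxsD.2
  have hXc : Nat.card (Subgroup.zpowers x) = t := by rw [Nat.card_zpowers, hxo]
  have hXsc : Nat.card (Subgroup.zpowers xs) = ts := by rw [Nat.card_zpowers, hxso]
  have huM := (Helper3.BG14.uniq_of_tau1 hG hM hE hp1M (hE₁E hg₀E₁) hg₀o hXσ
    (Subgroup.zpowers_le.mpr hxg) hXc (default : Sylow t ↥(sigmaCore M))).1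
  have huH := (Helper3.BG14.uniq_of_tau1 hG hH hEH' hp1H (hE₁EH hg₀E₁) hg₀o hXsσ
    (Subgroup.zpowers_le.mpr hxsg) hXsc (default : Sylow ts ↥(sigmaCore H))).1
  have htσM : t ∈ sigma M :=
    (Helper7.BGA.s1350 hG M hM).1.2.1 t ht (hXc ▸ Subgroup.card_dvd_of_le hXσ)
  have htsσH : ts ∈ sigma H :=
    (Helper7.BGA.s1350 hG H hH).1.2.1 ts hts (hXsc ▸ Subgroup.card_dvd_of_le hXsσ)
  -- `L`
  have hpκ : p ∈ kappa M :=
    mem_kappa_of_centralizer_ne_bot hG hM hpσM hp1M.2.2.2.2 hE₁M hE₁c hD₁ne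
  have hNtop := BG7.normalizer_ne_top hG hE₁1 (BG7.pgroup_ne_top hG hE₁p)
  obtain ⟨L, hL, hNPL⟩ := (eq_top_or_exists_le_coatom _).resolve_left hNtop
  have hpσL : p ∈ sigma L := c3 hG hM hL hpκ hE₁M hE₁c hNPL
  have hncML := not_conj_of_normalizer_le' hG hM hpσM hp1M.2.2.2.2 hE₁c hNPL
  have hncHL := not_conj_of_normalizer_le' hG hH hpσH hp1H.2.2.2.2 hE₁c hNPL
  have hLM : L ≠ M := Helper3.BG13.ne_of_nonconj hncML
  have hLH : L ≠ H := Helper3.BG13.ne_of_nonconj hncHL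
  have htσL : orderOf x ∉ sigma L := by
    rw [hxo]; exact fun h => hσ M L hM hL hncML t htσM h
  have htsσL : orderOf xs ∉ sigma L := by
    rw [hxso]; exact fun h => hσ H L hH hL hncHL ts htsσH h
  have hNPL' : Subgroup.normalizer ((Subgroup.zpowers g₀ : Subgroup G) : Set G) ≤ L := by
    rw [← hE₁g]; exact hNPL
  have hcross := Helper3.BG15.cross_gen hG hM hH hL hp hg₀o hNPL' hpσL hLM hLH hxM
    (hxo ▸ ht) htσL huM hxg hxsH (hxso ▸ hts) htsσL huH hxsg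
  rcases hcross with ⟨c, hc, hcM⟩ | ⟨c, hc, hcH⟩
  · -- a subgroup of order `t*` of `M` centralizing `E₁`
    have htsσM : ts ∉ sigma M := fun h => hσ M H hM hH hnc ts h htsσH
    have htsp : ts ≠ p := fun h => hpσH (h ▸ htsσH)
    have hC : BG7.cj c (Subgroup.zpowers xs) ≤ Subgroup.centralizer (E₁ : Set G) :=
      cj_le_centralizer (hCE₁ ▸ hc) (Subgroup.zpowers_le.mpr hxsD.2)
    exact no_cent hG hM hE hτ₂ hE₁ hE₁c hcM (by rw [BG7.card_cj, hXsc]) htsσM htsp hC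
  · have htσH : t ∉ sigma H := fun h => hσ M H hM hH hnc t htσM h
    have htp : t ≠ p := fun h => hpσM (h ▸ htσM)
    have hC : BG7.cj c (Subgroup.zpowers x) ≤ Subgroup.centralizer (EH₁ : Set G) := by
      rw [← hE₁eq]
      exact cj_le_centralizer (hCE₁ ▸ hc) (Subgroup.zpowers_le.mpr hxD₁.2)
    exact no_cent hG hH hEH' hτ₂H hEH₁ (hE₁eq ▸ hE₁c) hcH (by rw [BG7.card_cj, hXc]) htσH htp hC

/-- **the second branch of the dichotomy never occurs**: for `r ∈ κ(M) ∩ τ₃(M)` the first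
branch holds -/
theorem r5_first_branch (hG : IsMinSimpleOddOrder G) {M E E₁ E₃ : Subgroup G} (hM : IsCoatom M)
    (hE : IsComplIn E (sigmaCore M) M) {r : ℕ} [hr : Fact r.Prime] (hrκ : r ∈ kappa M)
    (hr3 : r ∈ tau3 M) (hE₁ : IsPiHallOf (tau1 M) E₁ E) (hE₃ : IsPiHallOf (tau3 M) E₃ E) :
    (∀ P : Subgroup G, P ≤ E₁ → (Nat.card P).Prime →
        P ≤ Subgroup.centralizer (E₃ : Set G)) ∧
      sigmaCore M ⊓ Subgroup.centralizer (E₃ : Set G) =
        sigmaCore M ⊓ Subgroup.centralizer (E₁ : Set G) := by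
  classical
  rcases r5_dichotomy hG hM hE hrκ hr3 hE₁ hE₃ with h | ⟨hp, hD₁⟩
  · exact h
  · exfalso
    have hσ := Helper3.BG15.sigma_partition' hG
    have hrr := hr.out
    have hrσ : r ∉ sigma M := hr3.2.1
    have hrE : r ∣ Nat.card E := by
      have h1 := Cfsg.Agent.Lib.Lead.ComplIn.card_eq hE
      have h2 : r ∣ Nat.card E * Nat.card (sigmaCore M) := h1 ▸ hrκ.2.1
      rcases (Nat.Prime.dvd_mul hrr).mp h2 with h | h
      · exact h
      · exact absurd ((Helper7.BGA.s1350 hG M hM).1.2.1 r hrr h) hrσ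
    obtain ⟨R₀, hR₀E, hR₀⟩ := exists_prime_subgroup (s := r) hrE
    have hR₀1 : R₀ ≠ ⊥ := ne_bot_of_card_prime hR₀
    have hR₀r : IsPGroup r R₀ := isPGroup_of_card_prime hR₀
    have hNtop := BG7.normalizer_ne_top hG hR₀1 (BG7.pgroup_ne_top hG hR₀r)
    obtain ⟨H, hH, hNR⟩ := (eq_top_or_exists_le_coatom _).resolve_left hNtop
    by_cases hDle : sigmaCore M ⊓ H ≤ Subgroup.centralizer (E₁ : Set G)
    · exact bstar_le hσ hG hM hE hrκ hr3 hE₁ hE₃ hp hD₁ hR₀E hR₀ hH hNR hDle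
    · exact bstar_cross hσ hG hM hE hrκ hr3 hE₁ hE₃ hp hD₁ hR₀E hR₀ hH hNR hDle

end Cfsg.Agent.Lib.Helper1.BGG
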