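import Mathlib
import Cfsg.Agent.Lib.Helper1.BGG13
import Cfsg.Agent.Lib.Helper3.BG15g

set_option autoImplicit false
set_option maxHeartbeats 4000000
set_option linter.unusedVariables false
set_option linter.unusedSectionVars false
set_option linter.style.longLine false
set_option linter.unusedSimpArgs false
set_option linter.deprecated false
set_option linter.style.haveILetI false

/-!
# B&G Theorem 14.2 (S1430): the case `κ(M) ∩ τ₃(M) ≠ ∅`, glue
-/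

open scoped commutatorElement Pointwise
universe u
namespace Cfsg.Agent.Lib.Helper1.BGG

open Cfsg Cfsg.Agent.Lib.Helper1 Cfsg.Agent.Lib.Helper7.BGRows

variable {G : Type u} [Group G] [Finite G]

/-- S1430 when `κ(M) ∩ τ₃(M) ≠ ∅` -/
theorem s1430_r5 (hG : IsMinSimpleOddOrder G) {M : Subgroup G} (hM : IsCoatom M)
    {K : Subgroup G} (hK : IsPiHallOf (kappa M) K M) {r : ℕ} (hrκ : r ∈ kappa M)
    (hr3 : r ∈ tau3 M) :
    (∀ k ∈ K, k ≠ 1 → sigmaCore M ⊓ Subgroup.centralizer ({k} : Set G) =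
        (sigmaCore M ⊓ Subgroup.centralizer (K : Set G))) ∧
      (∃ U : Subgroup G, IsMulCommutative U ∧
        IsPiHallOf {q | q.Prime ∧ q ∉ kappa M ∧ q ∉ sigma M} U M ∧
        K ≤ Subgroup.normalizer (U : Set G) ∧
        ∀ k ∈ K, k ≠ 1 → U ⊓ Subgroup.centralizer ({k} : Set G) = ⊥) ∧
      ∀ X : Subgroup G, X ≤ K → (Nat.card X).Prime →
        M ⊓ Subgroup.normalizer (X : Set G) =
            K ⊔ (sigmaCore M ⊓ Subgroup.centralizer (K : Set G)) ∧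
          M ⊓ Subgroup.normalizer (K : Set G) =
            K ⊔ (sigmaCore M ⊓ Subgroup.centralizer (K : Set G)) ∧
          ∀ Mstar : Subgroup G, IsCoatom Mstar → Subgroup.normalizer (X : Set G) ≤ Mstar →
            X ≤ sigmaCore Mstar := by
  classical
  haveI hr : Fact r.Prime := ⟨hrκ.1⟩
  have hrr := hr.out
  haveI hMs : Group.IsSolvable ↥M := BG7.isSolvable_of_ne_top hG hM.1
  obtain ⟨E, hE, hKE⟩ := exists_compl_ge hG hM hK.1
    (fun q hq hqd => (hK.2.1 q hq hqd).2.2.1)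
  haveI hEs : Group.IsSolvable ↥E := isSolvable_of_le hE.1
  obtain ⟨E₁, hE₁⟩ := Helper7.BGK.exists_isPiHallOf E hEs (tau1 M)
  obtain ⟨E₃, hE₃⟩ := Helper7.BGK.exists_isPiHallOf E hEs (tau3 M)
  have hrσ : r ∉ sigma M := hr3.2.1
  have hrE : r ∣ Nat.card E := by
    have h1 := Cfsg.Agent.Lib.Lead.ComplIn.card_eq hE
    have h2 : r ∣ Nat.card E * Nat.card (sigmaCore M) := h1 ▸ hrκ.2.1
    rcases (Nat.Prime.dvd_mul hrr).mp h2 with h | h
    · exact h
    · exact absurd ((Helper7.BGA.s1350 hG M hM).1.2.1 r hrr h) hrσ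
  obtain ⟨R₀, hR₀E, hR₀⟩ := exists_prime_subgroup (s := r) hrE
  have hR₀1 : R₀ ≠ ⊥ := ne_bot_of_card_prime hR₀
  have hR₀r : IsPGroup r R₀ := isPGroup_of_card_prime hR₀
  have hNtop := BG7.normalizer_ne_top hG hR₀1 (BG7.pgroup_ne_top hG hR₀r)
  obtain ⟨H, hH, hNR⟩ := (eq_top_or_exists_le_coatom _).resolve_left hNtop
  obtain ⟨hEH, hnc, hτ₂, hrσH, hDeq, hall3, hMH⟩ := lemmaA hG hM hE hrκ hr3 hR₀E hR₀ hH hNR
  obtain ⟨-, -, -, -, -, haux3, -⟩ := lemmaA_aux hG hM hE hrκ hr3 hR₀E hR₀ hH hNR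
  obtain ⟨hR₀E₃, hDC₃⟩ := haux3 E₃ hE₃
  obtain ⟨hc1, hc3, hEN₃, hE₃', hsup, hinf, hcent⟩ := compl_struct hG hM hE hτ₂ hE₁ hE₃
  have hDH : sigmaCore M ⊓ Subgroup.centralizer (E₃ : Set G) = sigmaCore M ⊓ H := by
    apply le_antisymm
    · rw [hDeq]
      exact le_inf inf_le_left
        (inf_le_right.trans (Subgroup.centralizer_le (SetLike.coe_subset_coe.mpr hR₀E₃)))
    · exact le_inf inf_le_left hDC₃
  have hD3 : sigmaCore M ⊓ Subgroup.centralizer (E₃ : Set G) ≠ ⊥ := by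
    rw [hDH, hDeq]; exact kappa_centralizer_ne_bot hrκ (hR₀E.trans hE.1) hR₀
  have h3 : ∀ y ∈ E₃, y ≠ 1 → sigmaCore M ⊓ Subgroup.centralizer ({y} : Set G) =
      sigmaCore M ⊓ Subgroup.centralizer (E₃ : Set G) := by
    intro y hy hy1
    rw [hDH]; exact hall3 E₃ hE₃ y hy hy1
  obtain ⟨hbr1, heq⟩ := r5_first_branch hG hM hE hrκ hr3 hE₁ hE₃
  exact Helper3.BG15.s1430_r5_assembly hG hM hE hτ₂ hE₁ hE₃ hc1 hEN₃ hsup h3 hD3 hbr1 heq hK hKE

end Cfsg.Agent.Lib.Helper1.BGG
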