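import Mathlib
import Cfsg.Agent.Lib.Helper1.BGG14
import Cfsg.Agent.Lib.Helper7.BGK10
import Cfsg.Agent.Lib.Helper7.BGK3
import Cfsg.Agent.S1404

set_option autoImplicit false
set_option maxHeartbeats 4000000
set_option linter.unusedVariables false
set_option linter.unusedSectionVars false
set_option linter.style.longLine false
set_option linter.unusedSimpArgs false
set_option linter.deprecated false
set_option linter.style.haveILetI false

/-!
# B&G Theorem 15.7 (non-TI Fitting subgroup), part 1: `X ≤ M_σ`, `X` cyclic, the element `x`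
-/

open scoped commutatorElement Pointwise
universe u
namespace Cfsg.Agent.Lib.Helper1.BGG

open Cfsg Cfsg.Agent.Lib.Helper1 Cfsg.Agent.Lib.Helper7.BGRows

variable {G : Type u} [Group G] [Finite G]

/-- `F(N) = N` for a nilpotent subgroup `N` -/
theorem fittingOf_eq_self_of_nilpotent {N : Subgroup G} (hN : Group.IsNilpotent ↥N) :
    fittingOf N = N := by
  apply le_antisymm (BG8.fittingOf_le N)
  exact Helper7.BGK.le_fittingOf_of_le_normalizer le_rfl Subgroup.le_normalizer hN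

/-- the decomposition `F(M) = M_σ × Y` when `M_σ` is nilpotent -/
theorem fitting_decomp (h1439 : Row1439 G) (hG : IsMinSimpleOddOrder G) {M : Subgroup G}
    (hM : IsCoatom M) (hnil : Group.IsNilpotent ↥(sigmaCore M)) :
    fittingOf M = sigmaCore M ⊔ piCoreOf {q | q.Prime ∧ q ∉ sigma M} (fittingOf M) := by
  have h := (h1439 hG M hM).2.2
  rw [fittingOf_eq_self_of_nilpotent hnil] at h
  exact h

/-- elements of `Y = O_{σ'}(F(M))` commute with `M_σ` -/
theorem Y_commute (hG : IsMinSimpleOddOrder G) {M : Subgroup G} (hM : IsCoatom M) :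
    ∀ a ∈ piCoreOf {q | q.Prime ∧ q ∉ sigma M} (fittingOf M), ∀ b ∈ sigmaCore M,
      a * b = b * a := by
  obtain ⟨Y, hY⟩ : ∃ Y : Subgroup G, Y = piCoreOf {q | q.Prime ∧ q ∉ sigma M} (fittingOf M) :=
    ⟨_, rfl⟩
  rw [← hY]
  have hFM : fittingOf M ≤ M := BG8.fittingOf_le M
  have hMF : M ≤ Subgroup.normalizer (fittingOf M : Set G) := BG8.le_normalizer_fittingOf M
  have hYF : Y ≤ fittingOf M := hY ▸ BG7.piCoreOf_le _ _
  have hYM : Y ≤ M := hYF.trans hFM
  have hMY : M ≤ Subgroup.normalizer (Y : Set G) :=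
    hY ▸ hMF.trans (BG8.normalizer_le_normalizer_piCoreOf _ _)
  have hYπ : ∀ p : ℕ, p.Prime → p ∣ Nat.card Y → p ∉ sigma M := by
    intro p hp h
    rw [hY] at h
    exact (BG7.piCoreOf_pi _ _ p hp h).2
  have hcopY : (Nat.card Y).Coprime (Nat.card (sigmaCore M)) :=
    Helper7.BGD.coprime_sigmaCore hG hM hYπ
  have hdisj : Y ⊓ sigmaCore M = ⊥ := Subgroup.inf_eq_bot_of_coprime hcopY
  exact Helper7.BGK.commute_of_normalize_of_inf_eq_bot
    (hYM.trans (Helper7.BGE.le_normalizer_sigmaCore M)) ((Helper7.BGE.sigmaCore_le M).trans hMY) hdisj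

/-- an element of `F(M)` of order coprime to `|M_σ|` lies in `Y` -/
theorem mem_Y_of_coprime (h1439 : Row1439 G) (hG : IsMinSimpleOddOrder G) {M : Subgroup G}
    (hM : IsCoatom M) (hnil : Group.IsNilpotent ↥(sigmaCore M)) {y : G}
    (hco : (orderOf y).Coprime (Nat.card (sigmaCore M))) (hyF : y ∈ fittingOf M) :
    y ∈ piCoreOf {q | q.Prime ∧ q ∉ sigma M} (fittingOf M) := by
  have hdec := fitting_decomp h1439 hG hM hnil
  obtain ⟨Y, hY⟩ : ∃ Y : Subgroup G, Y = piCoreOf {q | q.Prime ∧ q ∉ sigma M} (fittingOf M) :=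
    ⟨_, rfl⟩
  rw [← hY] at hdec ⊢
  have hYF : Y ≤ fittingOf M := hY ▸ BG7.piCoreOf_le _ _
  have hMF : M ≤ Subgroup.normalizer (fittingOf M : Set G) := BG8.le_normalizer_fittingOf M
  have hMY : M ≤ Subgroup.normalizer (Y : Set G) :=
    hY ▸ hMF.trans (BG8.normalizer_le_normalizer_piCoreOf _ _)
  have hFY : fittingOf M ≤ Subgroup.normalizer (Y : Set G) := (BG8.fittingOf_le M).trans hMY
  have hHF : sigmaCore M ≤ fittingOf M := by rw [hdec]; exact le_sup_left
  have hdvd : Y.relIndex (fittingOf M) ∣ Nat.card (sigmaCore M) :=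
    Helper7.BGK.relIndex_dvd_card_of_sup hYF hHF hFY (by rw [hdec])
  apply Helper7.BGK.mem_of_coprime_relIndex hYF hFY hyF
  exact Nat.Coprime.coprime_dvd_right hdvd hco

/-- an element of `F(M)` of prime order `q ∉ σ(M)` lies in `Y` -/
theorem mem_Y_of_prime (h1439 : Row1439 G) (hG : IsMinSimpleOddOrder G) {M : Subgroup G}
    (hM : IsCoatom M) (hnil : Group.IsNilpotent ↥(sigmaCore M)) {y : G} {q : ℕ} (hq : q.Prime)
    (hyo : orderOf y = q) (hqσ : q ∉ sigma M) (hyF : y ∈ fittingOf M) :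
    y ∈ piCoreOf {q | q.Prime ∧ q ∉ sigma M} (fittingOf M) := by
  apply mem_Y_of_coprime h1439 hG hM hnil _ hyF
  rw [hyo]
  exact Helper7.BGD.coprime_sigmaCore hG hM (fun r hr hrq => by
    rw [(Nat.prime_dvd_prime_iff_eq hr hq).mp hrq]; exact hqσ)

/-- the order of a conjugate -/
theorem orderOf_conj_elt (g y : G) : orderOf (g⁻¹ * y * g) = orderOf y := by
  have h := orderOf_injective (MulAut.conj g⁻¹).toMonoidHom (MulAut.conj g⁻¹).injective y
  rw [← h]
  congr 1
  simp [MulAut.conj_apply]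

/-- conjugating a centralizer -/
theorem centralizer_singleton_cj (g y : G) :
    BG7.cj g (Subgroup.centralizer ({y} : Set G)) =
      Subgroup.centralizer ({g * y * g⁻¹} : Set G) := by
  ext z
  rw [BG7.mem_cj, Subgroup.mem_centralizer_singleton_iff, Subgroup.mem_centralizer_singleton_iff]
  constructor
  · intro h
    have : z * (g * y * g⁻¹) = g * ((g⁻¹ * z * g) * y) * g⁻¹ := by group
    rw [this, h]; group
  · intro h
    have : g⁻¹ * z * g * y = g⁻¹ * (z * (g * y * g⁻¹)) * g := by group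
    rw [this, h]; group

/-- **B&G 15.7(b), first half**: `F(M) ∩ F(M)^g ≤ M_σ` for `g ∉ M` -/
theorem nonti_le_sigmaCore (h1439 : Row1439 G) (hG : IsMinSimpleOddOrder G) {M : Subgroup G}
    (hM : IsCoatom M) (hnil : Group.IsNilpotent ↥(sigmaCore M)) {g : G} (hg : g ∉ M) :
    fittingOf M ⊓ BG7.cj g (fittingOf M) ≤ sigmaCore M := by
  classical
  obtain ⟨Y, hY⟩ : ∃ Y : Subgroup G, Y = piCoreOf {q | q.Prime ∧ q ∉ sigma M} (fittingOf M) :=
    ⟨_, rfl⟩
  have hFM : fittingOf M ≤ M := BG8.fittingOf_le M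
  have hYF : Y ≤ fittingOf M := hY ▸ BG7.piCoreOf_le _ _
  have hσ1 : sigmaCore M ≠ ⊥ := Helper7.BGE.sigmaCore_ne_bot hG hM
  obtain ⟨E, hE⟩ := Helper7.BGK.exists_compl hG hM
  have h20 := (Cfsg.Agent.S1420.result hG M hM E hE).2.2.2
  -- the key: a prime-order element of `Y` determines `M`
  have key : ∀ y : G, ∀ q : ℕ, q.Prime → orderOf y = q → q ∉ sigma M → y ∈ fittingOf M →
      Subgroup.centralizer ({y} : Set G) ≤ M ∧
      ∀ L : Subgroup G, IsCoatom L → Subgroup.centralizer ({y} : Set G) ≤ L → L = M := by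
    intro y q hq hyo hqσ hyF
    have hyY : y ∈ Y := hY ▸ mem_Y_of_prime h1439 hG hM hnil hq hyo hqσ hyF
    have hy1 : y ≠ 1 := by
      intro h; rw [h, orderOf_one] at hyo; exact hq.one_lt.ne' hyo.symm
    have hτ : ∀ p : ℕ, p.Prime → p ∣ orderOf y → p ∈ tau2 M := by
      intro p hp hpy
      apply (h1439 hG M hM).2.1 p hp
      rw [← hY]
      exact hpy.trans (Subgroup.orderOf_dvd_natCard Y hyY)
    have hhat : y ∈ sigmaHat M := by
      refine ⟨hFM hyF, ?_⟩
      obtain ⟨h, hh1⟩ := (Subgroup.ne_bot_iff_exists_ne_one).mp hσ1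
      refine ⟨(h : G), h.2, fun e => hh1 (Subtype.ext e), ?_⟩
      exact Y_commute hG hM y (hY ▸ hyY) h h.2
    exact h20 y (hFM hyF) hy1 hτ hhat
  intro z hz
  have hzM : z ∈ M := hFM hz.1
  have hsub : Subgroup.zpowers z ≤ sigmaCore M := by
    apply BGF.le_sigmaCore_of_pi hG hM (by rw [Subgroup.zpowers_le]; exact hzM)
    intro q hq hqz
    by_contra hqσ
    rw [Nat.card_zpowers] at hqz
    -- an element of order q
    obtain ⟨y, hyz, hyo⟩ : ∃ y ∈ Subgroup.zpowers z, orderOf y = q := by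
      refine ⟨z ^ (orderOf z / q), Subgroup.pow_mem _ (Subgroup.mem_zpowers z) _, ?_⟩
      exact orderOf_pow_orderOf_div (orderOf_pos z).ne' hqz
    have hyX : y ∈ fittingOf M ⊓ BG7.cj g (fittingOf M) :=
      (Subgroup.zpowers_le.mpr hz) hyz
    have h1 := key y q hq hyo hqσ hyX.1
    have hy' : g⁻¹ * y * g ∈ fittingOf M := BG7.mem_cj.mp hyX.2
    have hyo' : orderOf (g⁻¹ * y * g) = q := by
      rw [orderOf_conj_elt, hyo]
    have h2 := key _ q hq hyo' hqσ hy'
    -- `cj g M` contains `C_G(y)`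
    have hC' : Subgroup.centralizer ({y} : Set G) ≤ BG7.cj g M := by
      have := centralizer_singleton_cj g (g⁻¹ * y * g)
      have e : g * (g⁻¹ * y * g) * g⁻¹ = y := by group
      rw [e] at this
      rw [← this]
      exact BG7.cj_mono h2.1
    have h3 : BG7.cj g M = M := h1.2 _ (BG9.isCoatom_cj hM g) hC'
    apply hg
    have hgn : g ∈ Subgroup.normalizer (M : Set G) := BG7.mem_normalizer_of_cj_eq h3
    have hNM : Subgroup.normalizer (M : Set G) = M :=
      BG8.normalizer_eq_of_coatom hG hM le_rfl (Helper7.BGE.coatom_ne_bot hG hM) Subgroup.le_normalizer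
    rw [hNM] at hgn
    exact hgn
  exact hsub (Subgroup.mem_zpowers z)

/-- **B&G 15.7(b), second half**: `F(M) ∩ F(M)^g` is cyclic and a `σ(M) ∖ β(M)`-group -/
theorem nonti_cyclic (h1439 : Row1439 G) (hG : IsMinSimpleOddOrder G) {M : Subgroup G}
    (hM : IsCoatom M) (hnil : Group.IsNilpotent ↥(sigmaCore M)) {g : G} (hg : g ∉ M) :
    IsCyclic ↥(fittingOf M ⊓ BG7.cj g (fittingOf M)) ∧
      ∀ p : ℕ, p.Prime → p ∣ Nat.card ↥(fittingOf M ⊓ BG7.cj g (fittingOf M)) →
        p ∈ sigma M ∧ p ∉ beta M := by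
  obtain ⟨E, hE⟩ := Helper7.BGK.exists_compl hG hM
  obtain ⟨hcyc, hβ, -⟩ := (Helper2.BGH.row1426 hG M hM E hE).2.2 g hg
  have hle : fittingOf M ⊓ BG7.cj g (fittingOf M) ≤
      sigmaCore M ⊓ M.map (MulAut.conj g).toMonoidHom :=
    le_inf (nonti_le_sigmaCore h1439 hG hM hnil hg)
      (inf_le_right.trans (BG7.cj_mono (BG8.fittingOf_le M)))
  haveI := hcyc
  refine ⟨Subgroup.isCyclic_of_le hle, fun p hp hpX => ⟨?_, ?_⟩⟩
  · exact (Helper7.BGA.s1350 hG M hM).1.2.1 p hp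
      (hpX.trans (Subgroup.card_dvd_of_le (hle.trans inf_le_left)))
  · exact hβ p hp (hpX.trans (Subgroup.card_dvd_of_le hle))

/-- an element of prime order of `M ∩ M^g` (`g ∉ M`, `p ∈ σ(M)`) has `C_G(x) ≰ M` -/
theorem cent_not_le (hG : IsMinSimpleOddOrder G) {M : Subgroup G} (hM : IsCoatom M) {g x : G}
    {p : ℕ} [hp : Fact p.Prime] (hg : g ∉ M) (hpσ : p ∈ sigma M) (hxM : x ∈ M)
    (hxg : x ∈ BG7.cj g M) (hxo : orderOf x = p) :
    ¬ Subgroup.centralizer ((Subgroup.zpowers x : Subgroup G) : Set G) ≤ M := by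
  intro hC
  have hXp : IsPGroup p (Subgroup.zpowers x) :=
    IsPGroup.of_card (n := 1) (by rw [Nat.card_zpowers, hxo, pow_one])
  have hX1 : Subgroup.zpowers x ≠ ⊥ := by
    intro h
    rw [Subgroup.zpowers_eq_bot] at h
    rw [h, orderOf_one] at hxo
    exact hp.out.one_lt.ne' hxo.symm
  have hXM : Subgroup.zpowers x ≤ M := by rw [Subgroup.zpowers_le]; exact hxM
  obtain ⟨h4, -⟩ := Cfsg.Agent.S1404.result hG M hM p hpσ (Subgroup.zpowers x) hXp hX1 hXM
  have hmap : (Subgroup.zpowers x).map (MulAut.conj g⁻¹).toMonoidHom ≤ M := by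
    rw [Subgroup.map_le_iff_le_comap, Subgroup.zpowers_le, Subgroup.mem_comap]
    have := BG7.mem_cj.mp hxg
    simpa [MulAut.conj_apply] using this
  obtain ⟨m, hm, c, hc, hgmc⟩ := h4 g⁻¹ hmap
  apply hg
  have : g = (m * c)⁻¹ := by rw [← hgmc, inv_inv]
  rw [this]
  exact M.inv_mem (M.mul_mem hm (hC hc))

/-- **the basic configuration** when `F(M)` is not TI: an element `x` of prime order `p` of
`F(M) ∩ F(M)^g`, and the maximal subgroup `L` over `N_G(⟨x⟩)`, with helper7's `Tdata` -/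
theorem nonti_data (h1430 : Row1430 G) (h1431 : Row1431 G) (h1439 : Row1439 G)
    (hG : IsMinSimpleOddOrder G) {M : Subgroup G} (hM : IsCoatom M)
    (hnil : Group.IsNilpotent ↥(sigmaCore M)) {g : G} (hg : g ∉ M)
    (hX : fittingOf M ⊓ BG7.cj g (fittingOf M) ≠ ⊥) :
    ∃ (p : ℕ) (x : G) (L : Subgroup G), p.Prime ∧
      p ∣ Nat.card ↥(fittingOf M ⊓ BG7.cj g (fittingOf M)) ∧ p ∈ sigma M ∧ p ∉ beta M ∧
      x ∈ fittingOf M ⊓ BG7.cj g (fittingOf M) ∧ x ∈ sigmaCore M ∧ orderOf x = p ∧ IsCoatom L ∧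
      Helper7.BGK.Tdata M L (Subgroup.zpowers x) p := by
  classical
  have hcard : Nat.card ↥(fittingOf M ⊓ BG7.cj g (fittingOf M)) ≠ 1 := by
    intro h; exact hX (Subgroup.card_eq_one.mp h)
  obtain ⟨p, hp, hpX⟩ := Nat.exists_prime_and_dvd hcard
  haveI : Fact p.Prime := ⟨hp⟩
  obtain ⟨x', hx'o⟩ := exists_prime_orderOf_dvd_card' p hpX
  obtain ⟨hpσ, hpβ⟩ := (nonti_cyclic h1439 hG hM hnil hg).2 p hp hpX
  have hxo : orderOf (x' : G) = p := by rw [Subgroup.orderOf_coe]; exact hx'o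
  have hxσ : (x' : G) ∈ sigmaCore M := nonti_le_sigmaCore h1439 hG hM hnil hg x'.2
  have hxM : (x' : G) ∈ M := Helper7.BGE.sigmaCore_le M hxσ
  have hxg : (x' : G) ∈ BG7.cj g M := BG7.cj_mono (BG8.fittingOf_le M) x'.2.2
  have hC := cent_not_le hG hM hg hpσ hxM hxg hxo
  have hXp : IsPGroup p (Subgroup.zpowers (x' : G)) :=
    IsPGroup.of_card (n := 1) (by rw [Nat.card_zpowers, hxo, pow_one])
  have hX1 : Subgroup.zpowers (x' : G) ≠ ⊥ := by
    intro h
    rw [Subgroup.zpowers_eq_bot] at h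
    rw [h, orderOf_one] at hxo
    exact hp.one_lt.ne' hxo.symm
  obtain ⟨L, hL, hNL⟩ := Helper7.BGK.exists_coatom_normalizer hG hXp hX1
  refine ⟨p, x', L, hp, hpX, hpσ, hpβ, x'.2, hxσ, hxo, hL, ?_⟩
  exact Helper7.BGK.tdata_of h1430 h1431 hG hM (by rw [Subgroup.zpowers_le]; exact hxσ)
    (by rw [Nat.card_zpowers, hxo]) hC hL hNL

end Cfsg.Agent.Lib.Helper1.BGG
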