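import Mathlib
import Cfsg.Agent.Lib.Helper1.BGG15
import Cfsg.Agent.Lib.Helper1.SubnormalPCore
import Cfsg.Agent.Lib.Helper7.BGB1
import Cfsg.Agent.S1456

set_option autoImplicit false
set_option maxHeartbeats 4000000
set_option linter.unusedVariables false
set_option linter.unusedSectionVars false
set_option linter.style.longLine false
set_option linter.unusedSimpArgs false
set_option linter.deprecated false
set_option linter.style.haveILetI false

/-!
# B&G Theorem 15.7, part 2: the Sylow subgroups of the nilpotent `M_σ`, the configuration `NT`,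
and `M' ≤ F(M)`
-/

open scoped commutatorElement Pointwise
universe u
namespace Cfsg.Agent.Lib.Helper1.BGG

open Cfsg Cfsg.Agent.Lib.Helper1 Cfsg.Agent.Lib.Helper7.BGRows

variable {G : Type u} [Group G] [Finite G]

/-! ### `O_q(N)` for a nilpotent subgroup `N` -/

/-- `O_q(N)` as a subgroup of `G` -/
def Pc (q : ℕ) (N : Subgroup G) : Subgroup G := (pCore q ↥N).map N.subtype

omit [Finite G] in
theorem Pc_le (q : ℕ) (N : Subgroup G) : Pc q N ≤ N := Subgroup.map_subtype_le _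

theorem Pc_isPGroup (q : ℕ) [Fact q.Prime] (N : Subgroup G) : IsPGroup q ↥(Pc q N) :=
  (pCore_isPGroup q).map _

omit [Finite G] in
theorem normalizer_le_normalizer_Pc (q : ℕ) (N : Subgroup G) :
    Subgroup.normalizer (N : Set G) ≤ Subgroup.normalizer (Pc q N : Set G) :=
  normalizer_le_normalizer_map_characteristic N (pCore q ↥N)

theorem le_Pc_of_nilpotent {N : Subgroup G} (hN : Group.IsNilpotent ↥N) {q : ℕ} [Fact q.Prime]
    {T : Subgroup G} (hTN : T ≤ N) (hT : IsPGroup q T) : T ≤ Pc q N := by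
  haveI := hN
  obtain ⟨S, hTS⟩ := (hT.comap_subtype (K := N)).exists_le_sylow
  haveI : (S : Subgroup ↥N).Normal :=
    Sylow.normal_of_normalizerCondition normalizerCondition_of_isNilpotent S
  have hS : (S : Subgroup ↥N) ≤ pCore q ↥N := le_pCore inferInstance S.2
  intro t ht
  exact ⟨⟨t, hTN ht⟩, hS (hTS (Subgroup.mem_subgroupOf.mpr ht)), rfl⟩

theorem isMaxP_Pc {N : Subgroup G} (hN : Group.IsNilpotent ↥N) (q : ℕ) [Fact q.Prime] :
    BG8.IsMaxP q (Pc q N) N :=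
  ⟨Pc_le q N, Pc_isPGroup q N, fun T hT hST hTN => le_antisymm (le_Pc_of_nilpotent hN hTN hT) hST⟩

theorem Pc_commute (N : Subgroup G) {q r : ℕ} [hq : Fact q.Prime] [hr : Fact r.Prime]
    (hqr : q ≠ r) : ∀ a ∈ Pc q N, ∀ b ∈ Pc r N, a * b = b * a := by
  have hcop : (Nat.card ↥(Pc q N)).Coprime (Nat.card ↥(Pc r N)) :=
    IsPGroup.coprime_card_of_ne q r hqr _ _ (Pc_isPGroup q N) (Pc_isPGroup r N)
  have hdisj : Pc q N ⊓ Pc r N = ⊥ := Subgroup.inf_eq_bot_of_coprime hcop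
  exact Helper7.BGK.commute_of_normalize_of_inf_eq_bot
    ((Pc_le q N).trans (Subgroup.le_normalizer.trans (normalizer_le_normalizer_Pc r N)))
    ((Pc_le r N).trans (Subgroup.le_normalizer.trans (normalizer_le_normalizer_Pc q N))) hdisj

/-- ranks pass to a group mapping injectively -/
theorem pRankLE_of_injective {X Y : Type*} [Group X] [Group Y] {q k : ℕ} (f : X →* Y)
    (hf : Function.Injective f) (h : PRankLE q k Y) : PRankLE q k X := by
  intro B hBc hBe
  have h1 := h (B.map f) ?_ ?_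
  · rwa [Subgroup.card_map_of_injective hf] at h1
  · refine ⟨⟨?_⟩⟩
    rintro ⟨a, ⟨a', ha', rfl⟩⟩ ⟨b, ⟨b', hb', rfl⟩⟩
    apply Subtype.ext
    show f a' * f b' = f b' * f a'
    rw [← map_mul, ← map_mul]
    congr 1
    exact congrArg Subtype.val (hBc.is_comm.comm ⟨a', ha'⟩ ⟨b', hb'⟩)
  · rintro _ ⟨a', ha', rfl⟩
    rw [← map_pow, hBe a' ha', map_one]

omit [Finite G] in
theorem pRankLE_of_le' {q k : ℕ} {H L : Subgroup G} (hHL : H ≤ L) (h : PRankLE q k ↥L) :
    PRankLE q k ↥H :=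
  pRankLE_of_injective (Subgroup.inclusion hHL) (Subgroup.inclusion_injective hHL) h

/-- an elementary abelian group of order `p ^ 2` is not cyclic -/
theorem not_isCyclic_of_elementary_sq {p : ℕ} (hp : p.Prime) {A : Subgroup G}
    (hAe : IsElementaryAbelian p A) (hA2 : Nat.card A = p ^ 2) : ¬ IsCyclic ↥A := by
  intro hc
  obtain ⟨⟨a, ha⟩, hag⟩ := IsCyclic.exists_generator (α := ↥A)
  have hoa : orderOf a = Nat.card A := by
    have := orderOf_eq_card_of_forall_mem_zpowers hag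
    rwa [Subgroup.orderOf_mk] at this
  have h1 : orderOf a ∣ p := orderOf_dvd_of_pow_eq_one (hAe.2 a ha)
  rw [hoa, hA2] at h1
  have h2 := Nat.le_of_dvd hp.pos h1
  have h3 : p < p ^ 2 := by
    calc p = p ^ 1 := (pow_one p).symm
      _ < p ^ 2 := Nat.pow_lt_pow_right hp.one_lt (by norm_num)
  omega

/-! ### the configuration -/

/-- the non-TI configuration: `x ∈ M_σ` of prime order `p` with `C_G(x) ≰ M`, `L` the maximal
subgroup over `N_G(⟨x⟩)`, `A = E_{p²} ≤ M ∩ L` containing `x`, and `M_σ` nilpotent -/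
structure NT (M L : Subgroup G) (x : G) (p : ℕ) (A : Subgroup G) : Prop where
  hM : IsCoatom M
  hL : IsCoatom L
  hnil : Group.IsNilpotent ↥(sigmaCore M)
  hx : x ∈ sigmaCore M
  hxo : orderOf x = p
  td : Helper7.BGK.Tdata M L (Subgroup.zpowers x) p
  hxA : x ∈ A
  hAML : A ≤ M ⊓ L
  hAe : IsElementaryAbelian p A
  hA2 : Nat.card A = p ^ 2

namespace NT

variable {M L A : Subgroup G} {x : G} {p : ℕ}

theorem prime (h : NT M L x p A) : p.Prime := h.td.hqp

theorem hxM (h : NT M L x p A) : x ∈ M := Helper7.BGE.sigmaCore_le M h.hx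

theorem hxL (h : NT M L x p A) : x ∈ L := h.td.hXL (Subgroup.mem_zpowers x)

theorem hAp (h : NT M L x p A) : IsPGroup p A := BG9.isPGroup_of_isElementaryAbelian h.hAe

theorem cent_le (h : NT M L x p A) : Subgroup.centralizer ({x} : Set G) ≤ L := by
  rw [← BT.centralizer_zpowers_eq]; exact h.td.hCL

/-- `N_G(A) ≤ M` -/
theorem normA_le (h : NT M L x p A) (hG : IsMinSimpleOddOrder G) :
    Subgroup.normalizer (A : Set G) ≤ M := by
  obtain ⟨E, hE⟩ := Helper7.BGK.exists_compl hG h.hM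
  exact (Cfsg.Agent.S1420.result hG M h.hM E hE).2.2.1 p A h.td.hqM h.hAp
    (h.hAML.trans inf_le_left) (not_isCyclic_of_elementary_sq h.prime h.hAe h.hA2)

/-- the facts of S1418 for `(L, M ∩ L, p, A)` -/
theorem r18 (h : NT M L x p A) (hG : IsMinSimpleOddOrder G) :
    (M ⊓ L ≤ Subgroup.normalizer (A : Set G) ∧
      ∀ X : Subgroup G, X ≤ M ⊓ L → Nat.card X = p → X ≤ A) ∧
    (Subgroup.centralizer (A : Set G) ≤ L ⊓ Subgroup.normalizer (A : Set G) ∧
      L ⊓ Subgroup.normalizer (A : Set G) = M ⊓ L ∧ ¬ Subgroup.normalizer (A : Set G) ≤ L) ∧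
    ∀ X : Subgroup G, X ≤ A → Nat.card X = p →
      sigmaCore L ⊓ Subgroup.centralizer (X : Set G) ≠ ⊥ →
      (Subgroup.centralizer (X : Set G) ≤ L ∧ ∀ L' : Subgroup G, IsCoatom L' →
        Subgroup.centralizer (X : Set G) ≤ L' → L' = L) := by
  haveI : Fact p.Prime := ⟨h.prime⟩
  exact Helper2.BGH.row1418 hG L h.hL (M ⊓ L) h.td.hcompl p h.td.hqL A ⟨h.hAML, h.hAe, h.hA2⟩

theorem cent_A_le (h : NT M L x p A) (hG : IsMinSimpleOddOrder G) :
    Subgroup.centralizer (A : Set G) ≤ M ⊓ L := by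
  obtain ⟨-, ⟨h1, h2, -⟩, -⟩ := h.r18 hG
  rw [← h2]; exact h1

/-- `p`-subgroups of `L` are abelian -/
theorem pgroup_L_comm (h : NT M L x p A) (hG : IsMinSimpleOddOrder G) {T : Subgroup G}
    (hTL : T ≤ L) (hT : IsPGroup p T) : ∀ a ∈ T, ∀ b ∈ T, a * b = b * a := by
  haveI : Fact p.Prime := ⟨h.prime⟩
  obtain ⟨P, hTP⟩ := Helper7.BGD.exists_sylow_ge hT hTL
  obtain ⟨-, h17b, -⟩ := Helper7.BGD.row1417 hG L h.hL p h.td.hqL A
    ⟨h.hAML.trans inf_le_right, h.hAe, h.hA2⟩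
  obtain ⟨hPab, -⟩ := h17b P
  intro a ha b hb
  obtain ⟨a', ha', rfl⟩ := hTP ha
  obtain ⟨b', hb', rfl⟩ := hTP hb
  have := hPab.is_comm.comm ⟨a', ha'⟩ ⟨b', hb'⟩
  have h2 : a' * b' = b' * a' := congrArg Subtype.val this
  exact congrArg Subtype.val h2

/-- `p`-subgroups of `M` lie in `P = O_p(M_σ)` -/
theorem pgroup_le_P (h : NT M L x p A) (hG : IsMinSimpleOddOrder G) {T : Subgroup G}
    (hTM : T ≤ M) (hT : IsPGroup p T) : T ≤ Pc p (sigmaCore M) := by
  haveI : Fact p.Prime := ⟨h.prime⟩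
  apply le_Pc_of_nilpotent h.hnil _ hT
  apply BGF.le_sigmaCore_of_pi hG h.hM hTM
  intro q hq hqT
  obtain ⟨k, hk⟩ := IsPGroup.iff_card.mp hT
  rw [hk] at hqT
  rw [(Nat.prime_dvd_prime_iff_eq hq h.prime).mp (hq.dvd_of_dvd_pow hqT)]
  exact h.td.hqM

theorem A_le_P (h : NT M L x p A) (hG : IsMinSimpleOddOrder G) : A ≤ Pc p (sigmaCore M) :=
  h.pgroup_le_P hG (h.hAML.trans inf_le_left) h.hAp

theorem x_mem_P (h : NT M L x p A) (hG : IsMinSimpleOddOrder G) : x ∈ Pc p (sigmaCore M) :=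
  h.A_le_P hG h.hxA

theorem M_le_normP (h : NT M L x p A) (q : ℕ) :
    M ≤ Subgroup.normalizer (Pc q (sigmaCore M) : Set G) :=
  (Helper7.BGE.le_normalizer_sigmaCore M).trans (normalizer_le_normalizer_Pc q _)

/-- `P ∩ L = C_P(x)` is abelian -/
theorem P_inf_L_comm (h : NT M L x p A) (hG : IsMinSimpleOddOrder G) :
    ∀ a ∈ Pc p (sigmaCore M) ⊓ L, ∀ b ∈ Pc p (sigmaCore M) ⊓ L, a * b = b * a := by
  haveI : Fact p.Prime := ⟨h.prime⟩
  exact h.pgroup_L_comm hG inf_le_right ((Pc_isPGroup p _).to_le inf_le_left)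

theorem P_cent_le_L (h : NT M L x p A) :
    Pc p (sigmaCore M) ⊓ Subgroup.centralizer ({x} : Set G) ≤ L :=
  inf_le_right.trans h.cent_le

theorem P_inf_L_le_cent (h : NT M L x p A) (hG : IsMinSimpleOddOrder G) :
    Pc p (sigmaCore M) ⊓ L ≤ Subgroup.centralizer ({x} : Set G) := by
  intro a ha
  rw [Subgroup.mem_centralizer_singleton_iff]
  exact h.P_inf_L_comm hG a ha x ⟨h.x_mem_P hG, h.hxL⟩

/-- if `P` is abelian then `P ≤ L` -/
theorem P_le_L_of_comm (h : NT M L x p A) (hG : IsMinSimpleOddOrder G)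
    (hc : ∀ a ∈ Pc p (sigmaCore M), ∀ b ∈ Pc p (sigmaCore M), a * b = b * a) :
    Pc p (sigmaCore M) ≤ L := by
  intro a ha
  apply h.cent_le
  rw [Subgroup.mem_centralizer_singleton_iff]
  exact hc a ha x (h.x_mem_P hG)

/-- `O_q(M_σ) ≤ L` for `q ≠ p` -/
theorem Pq_le_L (h : NT M L x p A) (hG : IsMinSimpleOddOrder G) {q : ℕ} (hq : q.Prime)
    (hqp : q ≠ p) : Pc q (sigmaCore M) ≤ L := by
  haveI : Fact p.Prime := ⟨h.prime⟩
  haveI : Fact q.Prime := ⟨hq⟩
  intro a ha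
  apply h.cent_le
  rw [Subgroup.mem_centralizer_singleton_iff]
  exact Pc_commute (sigmaCore M) hqp a ha x (h.x_mem_P hG)

/-- if `P` is abelian then `M_σ ≤ L` -/
theorem H_le_L_of_comm (h : NT M L x p A) (hG : IsMinSimpleOddOrder G)
    (hc : ∀ a ∈ Pc p (sigmaCore M), ∀ b ∈ Pc p (sigmaCore M), a * b = b * a) :
    sigmaCore M ≤ L := by
  apply le_of_forall_isMaxP_le
  intro s hs _ T hT
  haveI : Fact s.Prime := ⟨hs⟩
  have hTP : T ≤ Pc s (sigmaCore M) := le_Pc_of_nilpotent h.hnil hT.1 hT.2.1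
  by_cases hsp : s = p
  · subst hsp; exact hTP.trans (h.P_le_L_of_comm hG hc)
  · exact hTP.trans (h.Pq_le_L hG hs hsp)

/-- `M ∩ L` is a `σ(L)'`-group -/
theorem EL_not_sigma (h : NT M L x p A) (hG : IsMinSimpleOddOrder G) :
    ∀ q : ℕ, q.Prime → q ∣ Nat.card ↥(M ⊓ L) → q ∉ sigma L :=
  Helper7.BGD.compl_not_sigma hG h.hL h.td.hcompl

/-- `M ∩ L` has rank at most two -/
theorem rank_EL (h : NT M L x p A) (hG : IsMinSimpleOddOrder G) : RankLE 2 ↥(M ⊓ L) := by
  intro q hq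
  by_cases hqd : q ∣ Nat.card ↥(M ⊓ L)
  · have hqσ := h.EL_not_sigma hG q hq hqd
    have h2 : PRankLE q 2 ↥L := by
      by_contra h3
      exact hqσ (BT.alpha_subset_sigma hG h.hL ⟨hq, h3⟩)
    exact pRankLE_of_le' inf_le_right h2
  · intro B hBc hBe
    haveI : Fact q.Prime := ⟨hq⟩
    have hBq : IsPGroup q B := by
      intro b
      refine ⟨1, ?_⟩
      apply Subtype.ext
      rw [pow_one, Subgroup.coe_pow, Subgroup.coe_one]
      exact hBe _ b.2
    obtain ⟨k, hk⟩ := IsPGroup.iff_card.mp hBq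
    have hdvd : Nat.card B ∣ Nat.card ↥(M ⊓ L) := Subgroup.card_subgroup_dvd_card B
    rcases Nat.eq_zero_or_pos k with rfl | hkpos
    · rw [hk, pow_zero]; exact Nat.one_le_pow _ _ hq.pos
    · exfalso
      apply hqd
      rw [hk] at hdvd
      exact (dvd_pow_self q hkpos.ne').trans hdvd

end NT

end Cfsg.Agent.Lib.Helper1.BGG
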