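import Mathlib
import Cfsg.Prelude.Def_Solvable
import Cfsg.Agent.Lib.Helper1.ThompsonFPF5
import Cfsg.Agent.Lib.Helper1.FrobeniusTheorem

/-! The Frobenius kernel is nilpotent. -/
set_option autoImplicit false
universe u
open scoped Pointwise
open Cfsg

namespace Cfsg.Agent.Lib.Helper1.ThompsonFPF

theorem frobenius_kernel_nilpotent {G : Type u} [Group G] [Finite G] (H : Subgroup G)
    (hH : Cfsg.IsFrobeniusComplement H) :
    ∃ N : Subgroup G, (N : Set G) = Cfsg.frobeniusKernel H ∧ N.Normal ∧ Group.IsNilpotent N := by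
  obtain ⟨N, hN, hNn, hcompl⟩ := frobenius_theorem H hH
  refine ⟨N, hN, hNn, ?_⟩
  obtain ⟨hHne, hHtop, hfrob⟩ := hH
  -- an element of prime order in H
  have hcard1 : Nat.card H ≠ 1 := fun h => hHne (Subgroup.card_eq_one.mp h)
  obtain ⟨r, hr, hrd⟩ := Nat.exists_prime_and_dvd hcard1
  haveI : Fact r.Prime := ⟨hr⟩
  obtain ⟨h, hh⟩ := exists_prime_orderOf_dvd_card' r hrd
  have hh1 : (h : G) ≠ 1 := by
    intro h1
    have : h = 1 := Subtype.ext h1
    rw [this, orderOf_one] at hh
    exact hr.one_lt.ne hh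
  have hhr : (h : G) ^ r = 1 := by
    have : h ^ r = 1 := by rw [← hh]; exact pow_orderOf_eq_one h
    have h2 := congrArg Subtype.val this
    simpa using h2
  obtain ⟨φ, hφdef⟩ : ∃ φ : N ≃* N, φ = MulAut.conjNormal (H := N) (h : G) := ⟨_, rfl⟩
  have hφapp : ∀ n : N, ((φ n : N) : G) = (h : G) * n * (h : G)⁻¹ := by
    intro n
    rw [hφdef]
    exact MulAut.conjNormal_apply _ _
  have hpow : φ ^ r = 1 := by
    rw [hφdef, ← map_pow, hhr, map_one]
  have hfpf : MonoidHom.FixedPointFree (φ : N →* N) := by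
    intro n hn
    by_contra hn1
    have hn' : (h : G) * n * (h : G)⁻¹ = n := by
      have := congrArg Subtype.val hn
      rw [← hφapp]
      exact this
    have hnG : (n : G) ≠ 1 := fun h1 => hn1 (Subtype.ext h1)
    -- n ∉ H
    have hnH : (n : G) ∉ H := by
      intro hmem
      have : (n : G) ∈ N ⊓ H := ⟨n.2, hmem⟩
      rw [hcompl.disjoint.eq_bot, Subgroup.mem_bot] at this
      exact hnG this
    have hbot := hfrob n hnH
    have hmem : (h : G) ∈ H ⊓ (MulAut.conj (n : G) • H) := by
      refine ⟨h.2, ?_⟩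
      change (h : G) ∈ MulAut.conj (n : G) • H
      rw [mem_conj_smul_iff]
      have e : (n : G)⁻¹ * h * n = h := by
        have h2 : (h : G) * n = n * h := by
          calc (h : G) * n = ((h : G) * n * (h : G)⁻¹) * h := by group
            _ = n * h := by rw [hn']
        calc (n : G)⁻¹ * h * n = (n : G)⁻¹ * (h * n) := by group
          _ = (n : G)⁻¹ * (n * h) := by rw [h2]
          _ = h := by group
      rw [e]; exact h.2
    rw [hbot, Subgroup.mem_bot] at hmem
    exact hh1 hmem
  exact isNilpotent_of_fpf hr _ N rfl φ hfpf hpow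

end Cfsg.Agent.Lib.Helper1.ThompsonFPF
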