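import Mathlib
import Cfsg.Prelude.Def_FusionSystem
import Cfsg.Agent.Lib.Helper9.GroupFusionAut
import Cfsg.Agent.Lib.Helper9.FusionSat4

set_option autoImplicit false

namespace Cfsg.Agent.Lib.Helper1.KN

open Cfsg Cfsg.FusionSystem Cfsg.Agent.Lib.Helper9

/-! ### automorphisms stabilizing a subgroup -/

section stab

variable {X : Type*} [Group X]

/-- automorphisms of `X` mapping the subgroup `U` onto itself -/
def stabSub (U : Subgroup X) : Subgroup (MulAut X) where
  carrier := {α | U.map α.toMonoidHom = U}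
  mul_mem' := by
    intro α β hα hβ
    show U.map (α * β).toMonoidHom = U
    have : (α * β).toMonoidHom = α.toMonoidHom.comp β.toMonoidHom := rfl
    rw [this, ← Subgroup.map_map]
    have hβ' : U.map β.toMonoidHom = U := hβ
    have hα' : U.map α.toMonoidHom = U := hα
    rw [hβ', hα']
  one_mem' := by
    show U.map (1 : MulAut X).toMonoidHom = U
    exact Subgroup.map_id U
  inv_mem' := by
    intro α hα
    have hα' : U.map α.toMonoidHom = U := hα
    show U.map (α⁻¹).toMonoidHom = U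
    conv_lhs => rw [← hα']
    rw [Subgroup.map_map]
    have : (α⁻¹).toMonoidHom.comp α.toMonoidHom = MonoidHom.id X := by
      ext x
      show α⁻¹ (α x) = x
      rw [MulAut.inv_apply_self]
    rw [this, Subgroup.map_id]

theorem mem_stabSub_iff (U : Subgroup X) (α : MulAut X) :
    α ∈ stabSub U ↔ U.map α.toMonoidHom = U := Iff.rfl

theorem apply_mem_of_mem_stabSub {U : Subgroup X} {α : MulAut X} (hα : α ∈ stabSub U) {x : X}
    (hx : x ∈ U) : α x ∈ U := by
  have h : α x ∈ U.map α.toMonoidHom := Subgroup.mem_map_of_mem _ hx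
  rwa [(mem_stabSub_iff U α).mp hα] at h

theorem mem_stabSub_of_forall [Finite X] {U : Subgroup X} {α : MulAut X}
    (h : ∀ x ∈ U, α x ∈ U) : α ∈ stabSub U := by
  rw [mem_stabSub_iff]
  have hle : U.map α.toMonoidHom ≤ U := by
    rintro _ ⟨x, hx, rfl⟩
    exact h x hx
  apply Subgroup.eq_of_le_of_card_ge hle
  rw [Subgroup.card_map_of_injective α.injective]

end stab

variable {Ω : Type*} [Group Ω]

/-! ### restriction of automorphisms of `X` to a subgroup `P ≤ X` -/

/-- restriction to `P` of the automorphisms of `X` stabilizing `P` -/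
def resIn {P X : Subgroup Ω} (hPX : P ≤ X) : ↥(stabSub (P.subgroupOf X)) →* MulAut ↥P where
  toFun α :=
    { toFun := fun x => ⟨(((α : MulAut ↥X) ⟨x, hPX x.2⟩ : ↥X) : Ω),
        apply_mem_of_mem_stabSub α.2 (x := ⟨x, hPX x.2⟩) x.2⟩
      invFun := fun x => ⟨((((α⁻¹ : ↥(stabSub (P.subgroupOf X))) : MulAut ↥X) ⟨x, hPX x.2⟩ : ↥X) : Ω),
        apply_mem_of_mem_stabSub (α⁻¹).2 (x := ⟨x, hPX x.2⟩) x.2⟩
      left_inv := by
        intro x
        apply Subtype.ext
        show ((((α : MulAut ↥X)⁻¹) ((α : MulAut ↥X) ⟨x, hPX x.2⟩) : ↥X) : Ω) = x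
        rw [MulAut.inv_apply_self]
      right_inv := by
        intro x
        apply Subtype.ext
        show ((((α : MulAut ↥X)) ((α : MulAut ↥X)⁻¹ ⟨x, hPX x.2⟩) : ↥X) : Ω) = x
        rw [MulAut.apply_inv_self]
      map_mul' := by
        intro x y
        apply Subtype.ext
        have h : (⟨((x * y : ↥P) : Ω), hPX (x * y).2⟩ : ↥X) = ⟨x, hPX x.2⟩ * ⟨y, hPX y.2⟩ := rfl
        show (((α : MulAut ↥X) ⟨((x * y : ↥P) : Ω), hPX (x * y).2⟩ : ↥X) : Ω) = _
        rw [h, map_mul]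
        rfl }
  map_one' := by
    ext x
    rfl
  map_mul' := by
    intro α β
    ext x
    rfl

theorem resIn_apply {P X : Subgroup Ω} (hPX : P ≤ X) (α : ↥(stabSub (P.subgroupOf X))) (x : ↥P) :
    ((resIn hPX α x : ↥P) : Ω) = (((α : MulAut ↥X) ⟨x, hPX x.2⟩ : ↥X) : Ω) := rfl

/-! ### automorphisms of `X` inducing an element of `K` on `Q ≤ X` -/

/-- the automorphisms of `X` whose restriction to `Q` is an element of `K` -/
def kPart {Q X : Subgroup Ω} (hQX : Q ≤ X) (K : Subgroup (MulAut ↥Q)) : Subgroup (MulAut ↥X) where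
  carrier := {α | ∃ κ ∈ K, ∀ q : ↥Q, ((α ⟨q, hQX q.2⟩ : ↥X) : Ω) = κ q}
  mul_mem' := by
    rintro α β ⟨κ, hκ, h1⟩ ⟨μ, hμ, h2⟩
    refine ⟨κ * μ, K.mul_mem hκ hμ, fun q => ?_⟩
    show ((α (β ⟨q, hQX q.2⟩) : ↥X) : Ω) = κ (μ q)
    rw [← h1 (μ q)]
    congr 2
    exact Subtype.ext (h2 q)
  one_mem' := ⟨1, K.one_mem, fun _ => rfl⟩
  inv_mem' := by
    rintro α ⟨κ, hκ, h1⟩
    refine ⟨κ⁻¹, K.inv_mem hκ, fun q => ?_⟩
    have h2 := h1 (κ⁻¹ q)
    rw [MulAut.apply_inv_self] at h2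
    have h3 : α ⟨(κ⁻¹ q : ↥Q), hQX (κ⁻¹ q : ↥Q).2⟩ = ⟨q, hQX q.2⟩ := Subtype.ext h2
    rw [← h3, MulAut.inv_apply_self]

theorem mem_kPart_iff {Q X : Subgroup Ω} (hQX : Q ≤ X) (K : Subgroup (MulAut ↥Q))
    (α : MulAut ↥X) :
    α ∈ kPart hQX K ↔ ∃ κ ∈ K, ∀ q : ↥Q, ((α ⟨q, hQX q.2⟩ : ↥X) : Ω) = κ q := Iff.rfl

/-! ### elements inducing automorphisms in a given group -/

/-- the elements of `S` normalizing `Y` and inducing on it an element of `B` -/
def preNorm (S Y : Subgroup Ω) (B : Subgroup (MulAut ↥Y)) : Subgroup Ω :=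
  S ⊓ (B.comap (conjAut Y)).map (Subgroup.normalizer (Y : Set Ω)).subtype

theorem mem_preNorm_iff (S Y : Subgroup Ω) (B : Subgroup (MulAut ↥Y)) (g : Ω) :
    g ∈ preNorm S Y B ↔
      g ∈ S ∧ ∃ hg : g ∈ Subgroup.normalizer (Y : Set Ω), conjAut Y ⟨g, hg⟩ ∈ B := by
  unfold preNorm
  rw [Subgroup.mem_inf]
  constructor
  · rintro ⟨hgS, ⟨n, hn, rfl⟩⟩
    exact ⟨hgS, n.2, hn⟩
  · rintro ⟨hgS, hg, h⟩
    exact ⟨hgS, ⟨⟨g, hg⟩, h, rfl⟩⟩

theorem preNorm_le (S Y : Subgroup Ω) (B : Subgroup (MulAut ↥Y)) : preNorm S Y B ≤ S :=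
  inf_le_left

theorem centralizerIn_le_preNorm (S Y : Subgroup Ω) (B : Subgroup (MulAut ↥Y)) :
    centralizerIn S Y ≤ preNorm S Y B := by
  intro c hc
  rw [mem_preNorm_iff]
  have hcN : c ∈ Subgroup.normalizer (Y : Set Ω) := Subgroup.centralizer_le_normalizer _ hc.2
  refine ⟨hc.1, hcN, ?_⟩
  have : conjAut Y ⟨c, hcN⟩ = 1 := by
    ext x
    show c * (x : Ω) * c⁻¹ = x
    have h1 := (Subgroup.mem_centralizer_iff.mp hc.2) x x.2
    rw [← h1]
    group
  rw [this]
  exact Subgroup.one_mem _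

/-- counting lemma for a homomorphism restricted to a subgroup -/
theorem card_map_mul_card_inf_ker {G H : Type*} [Group G] [Group H] (f : G →* H)
    (M : Subgroup G) :
    Nat.card ↥(M.map f) * Nat.card ↥(M ⊓ f.ker : Subgroup G) = Nat.card ↥M := by
  have h1 := Subgroup.card_eq_card_quotient_mul_card_subgroup (f.comp M.subtype).ker
  have h2 : Nat.card (↥M ⧸ (f.comp M.subtype).ker) = Nat.card ↥(M.map f) := by
    have e := QuotientGroup.quotientKerEquivRange (f.comp M.subtype)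
    rw [Nat.card_congr e.toEquiv]
    have : (f.comp M.subtype).range = M.map f := by
      rw [MonoidHom.range_comp, Subgroup.range_subtype]
    rw [this]
  have h3 : Nat.card ↥(f.comp M.subtype).ker = Nat.card ↥(M ⊓ f.ker : Subgroup G) := by
    have : (f.comp M.subtype).ker = (M ⊓ f.ker).subgroupOf M := by
      ext x
      simp [MonoidHom.mem_ker, Subgroup.mem_subgroupOf]
    rw [this, card_subgroupOf_of_le inf_le_left]
  rw [h1, h2, h3]

/-- `|B ∩ Aut_S(Y)| · |C_S(Y)| = |preNorm S Y B|` -/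
theorem card_preNorm (S Y : Subgroup Ω) (B : Subgroup (MulAut ↥Y)) :
    Nat.card ↥(B ⊓ autInducedBy S Y : Subgroup (MulAut ↥Y)) * Nat.card ↥(centralizerIn S Y) =
      Nat.card ↥(preNorm S Y B) := by
  set M : Subgroup ↥(Subgroup.normalizer (Y : Set Ω)) :=
    (preNorm S Y B).subgroupOf (Subgroup.normalizer (Y : Set Ω)) with hM
  have hle : preNorm S Y B ≤ Subgroup.normalizer (Y : Set Ω) := by
    intro g hg
    rw [mem_preNorm_iff] at hg
    exact hg.2.1
  have h1 := card_map_mul_card_inf_ker (conjAut Y) M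
  have h2 : M.map (conjAut Y) = B ⊓ autInducedBy S Y := by
    ext α
    constructor
    · rintro ⟨n, hn, rfl⟩
      have hn' : (n : Ω) ∈ preNorm S Y B := hn
      rw [mem_preNorm_iff] at hn'
      obtain ⟨hnS, hnN, hnB⟩ := hn'
      refine ⟨hnB, ?_⟩
      show conjAut Y n ∈ autInducedBy S Y
      rw [mem_autInducedBy_iff]
      exact ⟨n, hnS, fun x => rfl⟩
    · rintro ⟨hαB, hαS⟩
      obtain ⟨g, hgS, hg⟩ := (mem_autInducedBy_iff S Y α).mp hαS
      have hgN := mem_normalizer_of_induces α hg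
      have heq : conjAut Y ⟨g, hgN⟩ = α := by
        ext x
        rw [hg x]
        rfl
      refine ⟨⟨g, hgN⟩, ?_, heq⟩
      show g ∈ preNorm S Y B
      rw [mem_preNorm_iff]
      exact ⟨hgS, hgN, by rw [heq]; exact hαB⟩
  have h3 : Nat.card ↥(M ⊓ (conjAut Y).ker : Subgroup ↥(Subgroup.normalizer (Y : Set Ω))) =
      Nat.card ↥(centralizerIn S Y) := by
    have hc : centralizerIn S Y ≤ Subgroup.normalizer (Y : Set Ω) :=
      inf_le_right.trans (Subgroup.centralizer_le_normalizer _)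
    have : M ⊓ (conjAut Y).ker = (centralizerIn S Y).subgroupOf (Subgroup.normalizer (Y : Set Ω)) := by
      ext n
      rw [Subgroup.mem_inf, MonoidHom.mem_ker, Subgroup.mem_subgroupOf]
      constructor
      · rintro ⟨hn, hker⟩
        have hn' : (n : Ω) ∈ preNorm S Y B := hn
        refine ⟨preNorm_le S Y B hn', ?_⟩
        show (n : Ω) ∈ Subgroup.centralizer (Y : Set Ω)
        rw [Subgroup.mem_centralizer_iff]
        intro y hy
        have h4 : ((conjAut Y n ⟨y, hy⟩ : ↥Y) : Ω) = y := by rw [hker]; rfl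
        rw [conjAut_apply] at h4
        have h5 : (n : Ω) * y = y * n := by
          calc (n : Ω) * y = (n : Ω) * y * (n : Ω)⁻¹ * n := by group
            _ = y * n := by rw [h4]
        exact h5.symm
      · intro hn
        refine ⟨centralizerIn_le_preNorm S Y B hn, ?_⟩
        ext x
        show (n : Ω) * (x : Ω) * (n : Ω)⁻¹ = x
        have hn2 : (n : Ω) ∈ Subgroup.centralizer (Y : Set Ω) := hn.2
        have h1 := (Subgroup.mem_centralizer_iff.mp hn2) x x.2
        rw [← h1]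
        group
    rw [this, card_subgroupOf_of_le hc]
  rw [h2, h3, hM, card_subgroupOf_of_le hle] at h1
  exact h1

end Cfsg.Agent.Lib.Helper1.KN
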