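import Mathlib
import Cfsg.Agent.Lib.Helper1.KN1
import Cfsg.Agent.Lib.Helper9.FusionSat4
import Cfsg.Agent.Lib.Helper9.FusionNormalizer

set_option autoImplicit false

namespace Cfsg.Agent.Lib.Helper1.KN

open Cfsg Cfsg.FusionSystem Cfsg.Agent.Lib.Helper9

variable {Ω : Type*} [Group Ω] {S : Subgroup Ω}

/-- an element normalizes a finite subgroup as soon as it conjugates it into itself -/
theorem mem_normalizer_of_forall_conj_mem {H : Subgroup Ω} [Finite H] {n : Ω}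
    (h : ∀ y ∈ H, n * y * n⁻¹ ∈ H) : n ∈ Subgroup.normalizer (H : Set Ω) := by
  have hle : H.map (MulAut.conj n).toMonoidHom ≤ H := by
    rintro _ ⟨y, hy, rfl⟩
    exact h y hy
  have heq : H.map (MulAut.conj n).toMonoidHom = H := by
    apply Subgroup.eq_of_le_of_card_ge hle
    rw [Subgroup.card_map_of_injective (MulAut.conj n).injective]
  rw [Subgroup.mem_normalizer_iff]
  intro y
  constructor
  · exact h y
  · intro hy
    rw [← heq] at hy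
    obtain ⟨z, hz, hzy⟩ := hy
    have : z = y := by
      have h1 : n * z * n⁻¹ = n * y * n⁻¹ := hzy
      exact mul_left_cancel (mul_right_cancel h1)
    rwa [← this]

/-- The data of a `K`-normalizer system: `T = N_S^K(Q)`, `E = N_F^K(Q)`, and `Q` is "fully
`K`-normalized" in the sense that every `F`-image of `Q` can be brought back. -/
structure KData (F : FusionSystem S) (Q : Subgroup Ω) (K : Subgroup (MulAut ↥Q)) (T : Subgroup Ω)
    (E : FusionSystem T) : Prop where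
  hQS : Q ≤ S
  mem_T : ∀ g : Ω, g ∈ T ↔ g ∈ S ∧ ∃ κ ∈ K, ∀ q : ↥Q, g * (q : Ω) * g⁻¹ = κ q
  mem_E : ∀ (P : Subgroup Ω) (φ : ↥P →* Ω), φ ∈ E.Hom P ↔
    (φ ∈ F.Hom P ∧ P ≤ T ∧ (∀ x, φ x ∈ T) ∧ ∃ ψ ∈ F.Hom (P ⊔ Q),
      (∀ x : ↥P, ψ (Subgroup.inclusion le_sup_left x) = φ x) ∧
      ∃ κ ∈ K, ∀ q : ↥Q, ψ (Subgroup.inclusion le_sup_right q) = κ q)
  bring : ∀ ξ : ↥Q →* Ω, ξ ∈ F.Hom Q → ∃ (D : Subgroup Ω) (ρ : ↥D →* Ω), ρ ∈ F.Hom D ∧
    ξ.range ≤ D ∧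
    (∀ g ∈ S, (∃ κ ∈ K, ∀ q : ↥Q, g * ξ q * g⁻¹ = ξ (κ q)) → g ∈ D) ∧
    ∃ κ ∈ K, ∀ (q : ↥Q) (h : ξ q ∈ D), ρ ⟨ξ q, h⟩ = κ q

variable {F : FusionSystem S} {Q : Subgroup Ω} {K : Subgroup (MulAut ↥Q)} {T : Subgroup Ω}
  {E : FusionSystem T}

theorem KData.T_le (hd : KData F Q K T E) : T ≤ S := fun g hg => ((hd.mem_T g).mp hg).1

theorem KData.T_le_normalizer (hd : KData F Q K T E) :
    T ≤ Subgroup.normalizer (Q : Set Ω) := by
  intro g hg
  obtain ⟨-, κ, -, hκ⟩ := (hd.mem_T g).mp hg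
  exact mem_normalizer_of_induces κ (fun x => (hκ x).symm)

theorem KData.sup_le (hd : KData F Q K T E) {P : Subgroup Ω} (hP : P ≤ T) : P ⊔ Q ≤ S :=
  _root_.sup_le (hP.trans hd.T_le) hd.hQS

/-- the group of `F`-automorphisms of `PQ` stabilizing `P` and inducing an element of `K` on `Q` -/
def AGrp (F : FusionSystem S) (P Q : Subgroup Ω) (K : Subgroup (MulAut ↥Q)) :
    Subgroup (MulAut ↥(P ⊔ Q)) :=
  F.autGroup (P ⊔ Q) ⊓ stabSub (P.subgroupOf (P ⊔ Q)) ⊓ kPart le_sup_right K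

theorem AGrp_le_autGroup (F : FusionSystem S) (P Q : Subgroup Ω) (K : Subgroup (MulAut ↥Q)) :
    AGrp F P Q K ≤ F.autGroup (P ⊔ Q) := inf_le_left.trans inf_le_left

theorem AGrp_le_stabSub (F : FusionSystem S) (P Q : Subgroup Ω) (K : Subgroup (MulAut ↥Q)) :
    AGrp F P Q K ≤ stabSub (P.subgroupOf (P ⊔ Q)) := inf_le_left.trans inf_le_right

theorem AGrp_le_kPart (F : FusionSystem S) (P Q : Subgroup Ω) (K : Subgroup (MulAut ↥Q)) :
    AGrp F P Q K ≤ kPart le_sup_right K := inf_le_right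

/-- restriction `A → Aut(P)` -/
def resA (F : FusionSystem S) (P Q : Subgroup Ω) (K : Subgroup (MulAut ↥Q)) :
    ↥(AGrp F P Q K) →* MulAut ↥P :=
  (resIn (le_sup_left : P ≤ P ⊔ Q)).comp (Subgroup.inclusion (AGrp_le_stabSub F P Q K))

theorem resA_apply (F : FusionSystem S) (P Q : Subgroup Ω) (K : Subgroup (MulAut ↥Q))
    (α : ↥(AGrp F P Q K)) (x : ↥P) :
    ((resA F P Q K α x : ↥P) : Ω) =
      (((α : MulAut ↥(P ⊔ Q)) ⟨x, (le_sup_left : P ≤ P ⊔ Q) x.2⟩ : ↥(P ⊔ Q)) : Ω) := rfl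

/-- `N_T(P)` is the group of elements of `S` inducing an element of `A` on `PQ` -/
theorem normalizerIn_eq_preNorm [Finite S] (hd : KData F Q K T E) {P : Subgroup Ω} (hP : P ≤ T) :
    normalizerIn T P = preNorm S (P ⊔ Q) (AGrp F P Q K) := by
  have hXS : P ⊔ Q ≤ S := hd.sup_le hP
  have hfinX : Finite ↥(P ⊔ Q) := finite_of_le hXS
  ext g
  rw [mem_preNorm_iff]
  constructor
  · rintro ⟨hgT, hgP⟩
    have hgS : g ∈ S := hd.T_le hgT
    have hgQ : g ∈ Subgroup.normalizer (Q : Set Ω) := hd.T_le_normalizer hgT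
    have hgX : g ∈ Subgroup.normalizer ((P ⊔ Q : Subgroup Ω) : Set Ω) :=
      Subgroup.normalizer_inf_normalizer_le_normalizer_sup P Q ⟨hgP, hgQ⟩
    refine ⟨hgS, hgX, ⟨⟨?_, ?_⟩, ?_⟩⟩
    · apply autInducedBy_le_autGroup F hXS
      rw [mem_autInducedBy_iff]
      exact ⟨g, hgS, fun x => rfl⟩
    · apply mem_stabSub_of_forall
      intro x hx
      have hx1 : (x : Ω) ∈ P := hx
      show ((conjAut (P ⊔ Q) ⟨g, hgX⟩ x : ↥(P ⊔ Q)) : Ω) ∈ P
      rw [conjAut_apply]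
      exact conj_mem_of_mem_normalizer hgP hx1
    · obtain ⟨-, κ, hκ, hκq⟩ := (hd.mem_T g).mp hgT
      exact ⟨κ, hκ, fun q => hκq q⟩
  · rintro ⟨hgS, hgX, ⟨⟨-, hstab⟩, ⟨κ, hκ, hκq⟩⟩⟩
    have hgT : g ∈ T := (hd.mem_T g).mpr ⟨hgS, κ, hκ, fun q => hκq q⟩
    refine ⟨hgT, ?_⟩
    have hfinP : Finite ↥P := finite_of_le (hP.trans hd.T_le)
    apply mem_normalizer_of_forall_conj_mem
    intro y hy
    have hyX : y ∈ P ⊔ Q := (le_sup_left : P ≤ P ⊔ Q) hy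
    have := apply_mem_of_mem_stabSub hstab (x := ⟨y, hyX⟩) hy
    exact this

end Cfsg.Agent.Lib.Helper1.KN
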