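import Mathlib
import Cfsg.Agent.Lib.Helper1.FrobeniusKernelNilpotent
import Cfsg.Agent.Lib.Helper1.FrobeniusBasic
import Cfsg.Agent.Lib.Helper1.KN2
import Cfsg.Agent.Lib.Helper8.SigFun

set_option autoImplicit false
set_option linter.style.haveILetI false
set_option linter.unusedSectionVars false
set_option linter.unusedVariables false
set_option maxHeartbeats 1000000

/-! A solvable subgroup central in every solvable overgroup is central. -/

namespace Cfsg.Agent.Lib.Helper1.GB

open Cfsg Cfsg.Agent.Lib.Helper1
open scoped Pointwise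

universe u

section basics

variable {G : Type u} [Group G]

theorem isSolvable_of_comm_subgroup (X : Subgroup G) (h : ∀ x ∈ X, ∀ y ∈ X, x * y = y * x) :
    Group.IsSolvable X :=
  Group.isSolvable_of_comm (fun a b => Subtype.ext (h a a.2 b b.2))

theorem isSolvable_zpowers (g : G) : Group.IsSolvable (Subgroup.zpowers g) := by
  apply isSolvable_of_comm_subgroup
  intro x hx y hy
  obtain ⟨i, rfl⟩ := Subgroup.mem_zpowers_iff.mp hx
  obtain ⟨j, rfl⟩ := Subgroup.mem_zpowers_iff.mp hy
  rw [← zpow_add, ← zpow_add, add_comm]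

/-- preimages of solvable subgroups of `G / Z(G)` are solvable -/
theorem isSolvable_comap_center (T : Subgroup (G ⧸ Subgroup.center G))
    (hT : Group.IsSolvable T) :
    Group.IsSolvable (T.comap (QuotientGroup.mk' (Subgroup.center G))) := by
  have hle : Subgroup.center G ≤ T.comap (QuotientGroup.mk' (Subgroup.center G)) := by
    intro z hz
    rw [Subgroup.mem_comap]
    have : (QuotientGroup.mk' (Subgroup.center G)) z = 1 := (QuotientGroup.eq_one_iff z).mpr hz
    rw [this]
    exact Subgroup.one_mem _
  obtain ⟨f, hf⟩ : ∃ f : ↥(Subgroup.center G) →*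
      ↥(T.comap (QuotientGroup.mk' (Subgroup.center G))), f = Subgroup.inclusion hle := ⟨_, rfl⟩
  obtain ⟨gg, hgg⟩ : ∃ gg : ↥(T.comap (QuotientGroup.mk' (Subgroup.center G))) →* ↥T,
      ∀ x, ((gg x : ↥T) : G ⧸ Subgroup.center G) = QuotientGroup.mk' (Subgroup.center G) (x : G) :=
    ⟨((QuotientGroup.mk' (Subgroup.center G)).comp
      (T.comap (QuotientGroup.mk' (Subgroup.center G))).subtype).codRestrict T
        (fun x => Subgroup.mem_comap.mp x.2), fun x => rfl⟩
  haveI : Group.IsSolvable ↥(Subgroup.center G) :=
    isSolvable_of_comm_subgroup _ (fun a ha b hb => (Subgroup.mem_center_iff.mp ha b).symm)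
  haveI := hT
  refine Group.isSolvable_of_ker_le_range f gg ?_
  intro x hx
  have h1 : gg x = 1 := MonoidHom.mem_ker.mp hx
  have h2 : QuotientGroup.mk' (Subgroup.center G) (x : G) = 1 := by
    rw [← hgg x, h1]
    rfl
  have h3 : (x : G) ∈ Subgroup.center G := (QuotientGroup.eq_one_iff _).mp h2
  refine ⟨⟨(x : G), h3⟩, ?_⟩
  rw [hf]
  exact Subtype.ext rfl

end basics

theorem central_aux : ∀ (n : ℕ) (G : Type u) [Group G] [Finite G], Nat.card G ≤ n →
    ∀ (A : Subgroup G), Group.IsSolvable A →
    (∀ S : Subgroup G, A ≤ S → Group.IsSolvable S → ∀ a ∈ A, ∀ s ∈ S, a * s = s * a) →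
    A ≤ Subgroup.center G := by
  intro n
  induction n with
  | zero =>
    intro G _ _ hcard
    exfalso
    have := Nat.card_pos (α := G)
    omega
  | succ n ih =>
    intro G _ _ hcard A hA hc
    by_contra hne
    have hAab : ∀ a ∈ A, ∀ b ∈ A, a * b = b * a := fun a ha b hb => hc A le_rfl hA a ha b hb
    obtain ⟨C, hCdef⟩ : ∃ C : Subgroup G, C = Subgroup.centralizer (A : Set G) := ⟨_, rfl⟩
    have hCmem : ∀ x, x ∈ C ↔ ∀ a ∈ A, a * x = x * a := by
      intro x
      rw [hCdef, Subgroup.mem_centralizer_iff]
      rfl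
    have hAC : A ≤ C := fun a ha => (hCmem a).mpr (fun b hb => hAab b hb a ha)
    have hCtop : C ≠ ⊤ := by
      intro h
      apply hne
      intro a ha
      rw [Subgroup.mem_center_iff]
      intro g
      have hg : g ∈ C := by rw [h]; exact Subgroup.mem_top g
      exact ((hCmem g).mp hg a ha).symm
    -- proper overgroups of `A` lie in `C`
    have hP : ∀ H : Subgroup G, A ≤ H → H ≠ ⊤ → H ≤ C := by
      intro H hAH hHtop
      have hcardH : Nat.card H ≤ n := by
        have hlt : Nat.card H < Nat.card G :=
          lt_of_le_of_ne (Subgroup.card_le_card_group H)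
            (fun h => hHtop (Subgroup.eq_top_of_card_eq H h))
        omega
      have hA' : Group.IsSolvable (A.subgroupOf H) := by
        haveI := hA
        exact Group.isSolvable_of_surjective
          (f := (Subgroup.subgroupOfEquivOfLe hAH).symm.toMonoidHom)
          (Subgroup.subgroupOfEquivOfLe hAH).symm.surjective
      have key := ih ↥H hcardH (A.subgroupOf H) hA' (by
        intro S' hAS' hS' a ha s hs
        have hS : Group.IsSolvable (S'.map H.subtype) := by
          haveI := hS'
          exact Group.isSolvable_of_surjective (f := H.subtype.subgroupMap S')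
            (MonoidHom.subgroupMap_surjective _ _)
        have hAS : A ≤ S'.map H.subtype := by
          intro x hx
          exact ⟨⟨x, hAH hx⟩, hAS' (Subgroup.mem_subgroupOf.mpr hx), rfl⟩
        have := hc _ hAS hS (a : G) (Subgroup.mem_subgroupOf.mp ha) (s : G) ⟨s, hs, rfl⟩
        exact Subtype.ext this)
      intro h hh
      rw [hCmem]
      intro a ha
      have h1 := key (Subgroup.mem_subgroupOf.mpr (show ((⟨a, hAH ha⟩ : H) : G) ∈ A from ha))
      rw [Subgroup.mem_center_iff] at h1
      have h2 := h1 ⟨h, hh⟩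
      exact (congrArg Subtype.val h2).symm
    -- `C` is not normal
    have hNn : ¬ C.Normal := by
      intro hCn
      apply hne
      obtain ⟨ZC, hZC⟩ : ∃ ZC : Subgroup G, ZC = C ⊓ Subgroup.centralizer (C : Set G) :=
        ⟨_, rfl⟩
      have hAZ : A ≤ ZC := by
        intro a ha
        rw [hZC]
        refine Subgroup.mem_inf.mpr ⟨hAC ha, ?_⟩
        rw [Subgroup.mem_centralizer_iff]
        intro c hc'
        exact ((hCmem c).mp hc' a ha).symm
      haveI hZCn : ZC.Normal := by
        constructor
        intro z hz g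
        rw [hZC] at hz ⊢
        obtain ⟨hz1, hz2⟩ := Subgroup.mem_inf.mp hz
        refine Subgroup.mem_inf.mpr ⟨hCn.conj_mem z hz1 g, ?_⟩
        rw [Subgroup.mem_centralizer_iff] at hz2 ⊢
        intro c hc'
        have h1 := hz2 (g⁻¹ * c * g) (by
          have := hCn.conj_mem c hc' g⁻¹
          rwa [inv_inv] at this)
        calc c * (g * z * g⁻¹) = g * ((g⁻¹ * c * g) * z) * g⁻¹ := by group
          _ = g * (z * (g⁻¹ * c * g)) * g⁻¹ := by rw [h1]
          _ = g * z * g⁻¹ * c := by group
      have hZCab : ∀ x ∈ ZC, ∀ y ∈ ZC, x * y = y * x := by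
        intro x hx y hy
        rw [hZC] at hx hy
        exact Subgroup.mem_centralizer_iff.mp (Subgroup.mem_inf.mp hy).2 x
          (Subgroup.mem_inf.mp hx).1
      intro a ha
      rw [Subgroup.mem_center_iff]
      intro g
      have hsol : Group.IsSolvable ↥(ZC ⊔ Subgroup.zpowers g) :=
        Cfsg.Agent.Lib.Helper8.SigFun.isSolvable_sup_of_le_normalizer
          (by rw [Subgroup.normalizer_eq_top]; exact le_top)
          (isSolvable_of_comm_subgroup _ hZCab) (isSolvable_zpowers g)
      have := hc _ (hAZ.trans le_sup_left) hsol a ha g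
        ((le_sup_right : _ ≤ ZC ⊔ Subgroup.zpowers g) (Subgroup.mem_zpowers g))
      exact this.symm
    have hnorm : ∀ g, g ∈ Subgroup.normalizer (C : Set G) → g ∈ C := by
      intro g hg
      have hNtop : Subgroup.normalizer (C : Set G) ≠ ⊤ := by
        intro h
        apply hNn
        exact Subgroup.normalizer_eq_top_iff.mp h
      exact hP _ (hAC.trans Subgroup.le_normalizer) hNtop hg
    -- `C ∩ C^g ≤ Z(G)`
    have hTI : ∀ g, g ∉ C → ∀ x ∈ C, g⁻¹ * x * g ∈ C → x ∈ Subgroup.center G := by
      intro g hgC x hxC hxg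
      obtain ⟨Ag, hAg⟩ : ∃ Ag : Subgroup G, Ag = A.map (MulAut.conj g).toMonoidHom := ⟨_, rfl⟩
      have hAgmem : ∀ y, y ∈ Ag ↔ ∃ a ∈ A, g * a * g⁻¹ = y := by
        intro y
        rw [hAg, Subgroup.mem_map]
        constructor
        · rintro ⟨a, ha, rfl⟩
          exact ⟨a, ha, rfl⟩
        · rintro ⟨a, ha, rfl⟩
          exact ⟨a, ha, rfl⟩
      have htop : A ⊔ Ag = ⊤ := by
        by_contra hH
        have hle : A ⊔ Ag ≤ C := hP _ le_sup_left hH
        have hK : ∀ c ∈ C, g⁻¹ * c * g⁻¹⁻¹ ∈ C := by
          have hAK : A ≤ C.map (MulAut.conj g⁻¹).toMonoidHom := by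
            intro a ha
            refine ⟨g * a * g⁻¹, hle ((le_sup_right : Ag ≤ _) ((hAgmem _).mpr ⟨a, ha, rfl⟩)), ?_⟩
            show g⁻¹ * (g * a * g⁻¹) * g⁻¹⁻¹ = a
            group
          have hKtop : C.map (MulAut.conj g⁻¹).toMonoidHom ≠ ⊤ := by
            intro h
            apply hCtop
            rw [eq_top_iff]
            intro x _
            have hx' : g⁻¹ * x * g⁻¹⁻¹ ∈ C.map (MulAut.conj g⁻¹).toMonoidHom := by
              rw [h]
              exact Subgroup.mem_top _
            obtain ⟨c, hc', hce⟩ := hx'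
            have hce' : g⁻¹ * c * g⁻¹⁻¹ = g⁻¹ * x * g⁻¹⁻¹ := hce
            have hcx : c = x := mul_left_cancel (mul_right_cancel hce')
            rw [← hcx]
            exact hc'
          have hKC := hP _ hAK hKtop
          intro c hc'
          exact hKC ⟨c, hc', rfl⟩
        have hgN : g⁻¹ ∈ Subgroup.normalizer (C : Set G) :=
          KN.mem_normalizer_of_forall_conj_mem hK
        have h1 := C.inv_mem (hnorm _ hgN)
        rw [inv_inv] at h1
        exact hgC h1
      rw [Subgroup.mem_center_iff]
      intro y
      have hy : y ∈ A ⊔ Ag := by rw [htop]; exact Subgroup.mem_top y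
      have hcent : A ⊔ Ag ≤ Subgroup.centralizer ({x} : Set G) := by
        apply sup_le
        · intro a ha
          rw [Subgroup.mem_centralizer_iff]
          intro w hw
          rw [Set.mem_singleton_iff] at hw
          rw [hw]
          exact ((hCmem x).mp hxC a ha).symm
        · intro b hb
          obtain ⟨a, ha, rfl⟩ := (hAgmem b).mp hb
          rw [Subgroup.mem_centralizer_iff]
          intro w hw
          rw [Set.mem_singleton_iff] at hw
          rw [hw]
          have h1 := (hCmem _).mp hxg a ha
          calc x * (g * a * g⁻¹) = g * ((g⁻¹ * x * g) * a) * g⁻¹ := by group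
            _ = g * (a * (g⁻¹ * x * g)) * g⁻¹ := by rw [h1]
            _ = g * a * g⁻¹ * x := by group
      have := Subgroup.mem_centralizer_iff.mp (hcent hy) x (Set.mem_singleton x)
      exact this.symm
    -- the centre is trivial
    have hZ : Subgroup.center G = ⊥ := by
      by_contra hZne
      apply hne
      have hcardQ : Nat.card (G ⧸ Subgroup.center G) ≤ n := by
        have h1 := Subgroup.card_eq_card_quotient_mul_card_subgroup (Subgroup.center G)
        have h2 : 2 ≤ Nat.card (Subgroup.center G) := by
          have h3 : Nat.card (Subgroup.center G) ≠ 1 := fun h => hZne (Subgroup.card_eq_one.mp h)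
          have h4 := Nat.card_pos (α := Subgroup.center G)
          omega
        have h3 : 0 < Nat.card (G ⧸ Subgroup.center G) := Nat.card_pos
        have h5 : Nat.card (G ⧸ Subgroup.center G) * 2 ≤
            Nat.card (G ⧸ Subgroup.center G) * Nat.card (Subgroup.center G) :=
          Nat.mul_le_mul_left _ h2
        rw [← h1] at h5
        omega
      have hAbar : Group.IsSolvable (A.map (QuotientGroup.mk' (Subgroup.center G))) := by
        haveI := hA
        exact Group.isSolvable_of_surjective
          (f := (QuotientGroup.mk' (Subgroup.center G)).subgroupMap A)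
          (MonoidHom.subgroupMap_surjective _ _)
      have hbar := ih (G ⧸ Subgroup.center G) hcardQ
        (A.map (QuotientGroup.mk' (Subgroup.center G))) hAbar (by
          intro T hAT hT abar habar sbar hsbar
          have hS := isSolvable_comap_center T hT
          have hAS : A ≤ T.comap (QuotientGroup.mk' (Subgroup.center G)) :=
            fun a ha => Subgroup.mem_comap.mpr (hAT (Subgroup.mem_map_of_mem _ ha))
          obtain ⟨a, ha, rfl⟩ := Subgroup.mem_map.mp habar
          obtain ⟨s, rfl⟩ := QuotientGroup.mk'_surjective _ sbar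
          have h1 := hc _ hAS hS a ha s (Subgroup.mem_comap.mpr hsbar)
          rw [← map_mul, ← map_mul, h1])
      intro a ha
      rw [Subgroup.mem_center_iff]
      intro g
      obtain ⟨Ab, hAb⟩ : ∃ Ab, Ab = A.map (QuotientGroup.mk' (Subgroup.center G)) := ⟨_, rfl⟩
      rw [← hAb] at hbar hAbar
      obtain ⟨gb, hgb⟩ : ∃ gb, gb = QuotientGroup.mk' (Subgroup.center G) g := ⟨_, rfl⟩
      have hn : Subgroup.zpowers gb ≤ Subgroup.normalizer (Ab : Set (G ⧸ Subgroup.center G)) := by
        intro k _
        apply KN.mem_normalizer_of_forall_conj_mem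
        intro y hy
        have h1 := Subgroup.mem_center_iff.mp (hbar hy) k
        rw [h1, mul_inv_cancel_right]
        exact hy
      have hT : Group.IsSolvable ↥(Ab ⊔ Subgroup.zpowers gb) :=
        Cfsg.Agent.Lib.Helper8.SigFun.isSolvable_sup_of_le_normalizer hn hAbar
          (isSolvable_zpowers gb)
      have hS := isSolvable_comap_center _ hT
      have hAS : A ≤ (Ab ⊔ Subgroup.zpowers gb).comap (QuotientGroup.mk' (Subgroup.center G)) := by
        intro a ha
        rw [Subgroup.mem_comap]
        apply (le_sup_left : Ab ≤ Ab ⊔ Subgroup.zpowers gb)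
        rw [hAb]
        exact Subgroup.mem_map_of_mem _ ha
      have hgS : g ∈ (Ab ⊔ Subgroup.zpowers gb).comap (QuotientGroup.mk' (Subgroup.center G)) := by
        rw [Subgroup.mem_comap, ← hgb]
        exact (le_sup_right : Subgroup.zpowers gb ≤ Ab ⊔ Subgroup.zpowers gb)
          (Subgroup.mem_zpowers gb)
      exact (hc _ hAS hS a ha g hgS).symm
    -- Frobenius
    have hAne : A ≠ ⊥ := by
      intro h
      apply hne
      rw [h]
      exact bot_le
    have hCne : C ≠ ⊥ := by
      intro h
      apply hAne
      rw [eq_bot_iff, ← h]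
      exact hAC
    have hfrob : Cfsg.IsFrobeniusComplement C := by
      refine ⟨hCne, hCtop, fun g hg => ?_⟩
      rw [eq_bot_iff]
      intro x hx
      obtain ⟨hx1, hx2⟩ := Subgroup.mem_inf.mp hx
      have hx3 : g⁻¹ * x * g ∈ C := mem_conj_smul_iff.mp hx2
      have h1 := hTI g hg x hx1 hx3
      rw [hZ] at h1
      exact h1
    obtain ⟨N, hNk, hNn', hNnil⟩ := ThompsonFPF.frobenius_kernel_nilpotent C hfrob
    obtain ⟨N', hN'k, hN'n, hcompl⟩ := frobenius_theorem C hfrob
    have hNN' : N = N' := SetLike.coe_injective (hNk.trans hN'k.symm)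
    subst hNN'
    have hNsol : Group.IsSolvable N := by
      haveI := hNnil
      infer_instance
    haveI := hNn'
    have hsol : Group.IsSolvable ↥(N ⊔ A) :=
      Cfsg.Agent.Lib.Helper8.SigFun.isSolvable_sup_of_le_normalizer
        (by rw [Subgroup.normalizer_eq_top]; exact le_top) hNsol hA
    have hNC : N ≤ C := by
      intro x hx
      rw [hCmem]
      intro a ha
      exact hc _ le_sup_right hsol a ha x ((le_sup_left : N ≤ N ⊔ A) hx)
    have hdisj := hcompl.disjoint
    have hNbot : N = ⊥ := by
      rw [eq_bot_iff]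
      intro x hx
      rw [Subgroup.mem_bot]
      exact Subgroup.disjoint_def.mp hdisj hx (hNC hx)
    have hsup := hcompl.sup_eq_top
    rw [hNbot, bot_sup_eq] at hsup
    exact hCtop hsup

/-- **S4097** -/
theorem central_of_central_in_solvable {G : Type u} [Group G] [Finite G]
    (A : Subgroup G) (hA : Group.IsSolvable A)
    (hc : ∀ S : Subgroup G, A ≤ S → Group.IsSolvable S → ∀ a ∈ A, ∀ s ∈ S, a * s = s * a) :
    A ≤ Subgroup.center G :=
  central_aux (Nat.card G) G le_rfl A hA hc

end Cfsg.Agent.Lib.Helper1.GB
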