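import Mathlib
import Cfsg.Agent.Lib.Helper1.BGG16
import Cfsg.Agent.Lib.Helper2.BGL4
import Cfsg.Agent.Lib.Helper7.BGK14
import Cfsg.Agent.Lib.Helper7.BGK9

set_option autoImplicit false
set_option maxHeartbeats 4000000
set_option linter.unusedVariables false
set_option linter.unusedSectionVars false
set_option linter.style.longLine false
set_option linter.unusedSimpArgs false
set_option linter.deprecated false
set_option linter.style.haveILetI false

/-!
# B&G Theorem 15.7, part 3: `M' ≤ F(M)`, exclusion of type `P2`, and `S1372`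
-/

open scoped commutatorElement Pointwise
universe u
namespace Cfsg.Agent.Lib.Helper1.BGG

open Cfsg Cfsg.Agent.Lib.Helper1 Cfsg.Agent.Lib.Helper7.BGRows

variable {G : Type u} [Group G] [Finite G]

/-- the configuration `NT` exists as soon as `F(M)` is not TI (and `M_σ` is nilpotent) -/
theorem nt_of_nonti (h1430 : Row1430 G) (h1431 : Row1431 G) (h1439 : Row1439 G)
    (hG : IsMinSimpleOddOrder G) {M : Subgroup G} (hM : IsCoatom M)
    (hnil : Group.IsNilpotent ↥(sigmaCore M)) {g : G} (hg : g ∉ M)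
    (hX : fittingOf M ⊓ BG7.cj g (fittingOf M) ≠ ⊥) :
    ∃ (p : ℕ) (x : G) (L A : Subgroup G), NT M L x p A ∧
      p ∣ Nat.card ↥(fittingOf M ⊓ BG7.cj g (fittingOf M)) ∧ p ∈ sigma M ∧ p ∉ beta M ∧
      x ∈ fittingOf M ⊓ BG7.cj g (fittingOf M) := by
  obtain ⟨p, x, L, hp, hpX, hpσ, hpβ, hxX, hxσ, hxo, hL, td⟩ :=
    nonti_data h1430 h1431 h1439 hG hM hnil hg hX
  obtain ⟨A, hXA, hAML, hAe, hA2⟩ := td.hA
  exact ⟨p, x, L, A, ⟨hM, hL, hnil, hxσ, hxo, td, hXA (Subgroup.mem_zpowers x), hAML, hAe, hA2⟩,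
    hpX, hpσ, hpβ, hxX⟩

namespace NT

variable {M L A : Subgroup G} {x : G} {p : ℕ}

theorem sigmaCore_le_fittingOf (h : NT M L x p A) : sigmaCore M ≤ fittingOf M :=
  Helper7.BGK.le_fittingOf_of_le_normalizer (Helper7.BGE.sigmaCore_le M)
    (Helper3.BG12.le_normalizer_sigmaCore M) h.hnil

/-- B&G 15.7(c), first half: `M' ≤ F(M)` -/
theorem derived_le_fitting (h : NT M L x p A) (hG : IsMinSimpleOddOrder G) :
    ⁅M, M⁆ ≤ fittingOf M := by
  haveI : Fact p.Prime := ⟨h.prime⟩
  have hMtop : M ≠ ⊤ := h.hM.1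
  haveI : Group.IsSolvable ↥M := BG7.isSolvable_of_ne_top hG hMtop
  have hodd : Odd (Nat.card ↥M) := BG8.odd_card_subgroup hG M
  have hAM : A ≤ M := h.hAML.trans inf_le_left
  have hAF : A ≤ fittingOf M :=
    ((h.A_le_P hG).trans (Pc_le p _)).trans h.sigmaCore_le_fittingOf
  have hE : A.subgroupOf M ≤ fittingSubgroup ↥M := by
    intro a ha
    exact BG8.mem_fittingSubgroup_of_mem_fittingOf (hAF (Subgroup.mem_subgroupOf.mp ha))
  have hEe : IsElementaryAbelian p (A.subgroupOf M) :=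
    isElementaryAbelian_comap_of_injective h.hAe M.subtype M.subtype_injective
  have hr : RankLE 2 ↥(fittingSubgroup ↥M ⊓
      Subgroup.centralizer ((A.subgroupOf M : Subgroup ↥M) : Set ↥M)) := by
    intro q hq
    have hmem : ∀ y : ↥(fittingSubgroup ↥M ⊓
        Subgroup.centralizer ((A.subgroupOf M : Subgroup ↥M) : Set ↥M)),
        (M.subtype.comp (Subgroup.subtype _)) y ∈ M ⊓ L := by
      intro y
      apply h.cent_A_le hG
      rw [Subgroup.mem_centralizer_iff]
      intro a ha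
      have h1 := (Subgroup.mem_inf.mp y.2).2
      rw [Subgroup.mem_centralizer_iff] at h1
      have h2 := h1 ⟨a, hAM ha⟩ (Subgroup.mem_subgroupOf.mpr ha)
      have h3 := congrArg (fun z : ↥M => (z : G)) h2
      simpa using h3
    have hinj : Function.Injective ((M.subtype.comp (Subgroup.subtype (fittingSubgroup ↥M ⊓
        Subgroup.centralizer ((A.subgroupOf M : Subgroup ↥M) : Set ↥M)))).codRestrict
          (M ⊓ L) hmem) := by
      intro a b hab
      have h1 := congrArg (fun z : ↥(M ⊓ L) => (z : G)) hab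
      apply Subtype.ext
      apply Subtype.ext
      simpa using h1
    exact pRankLE_of_injective _ hinj (h.rank_EL hG q hq)
  have h1 := Cfsg.Agent.S1456.result hodd p (A.subgroupOf M) hE hEe hr
  rw [Helper2.BGL.commutator_eq_subgroupOf] at h1
  intro m hm
  have hmM : m ∈ M := Subgroup.commutator_le_self M hm
  exact ⟨⟨m, hmM⟩, h1 (Subgroup.mem_subgroupOf.mpr hm), rfl⟩

/-- B&G 15.7: `M` is not of type `P2` -/
theorem K_or_U_bot (h : NT M L x p A) (h1360 : Row1360 G) (h1365 : Row1365 G)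
    (h1439 : Row1439 G) (hG : IsMinSimpleOddOrder G) {K U : Subgroup G}
    (hKU : IsSigmaDecomposition M K U) : K = ⊥ ∨ U = ⊥ := by
  by_contra hc
  push Not at hc
  obtain ⟨hK1, hU1⟩ := hc
  have hM := h.hM
  have hder := (h1365 hG M hM K U hKU hK1).1
  have hUF : U ≤ fittingOf M := by
    refine le_trans ?_ (h.derived_le_fitting hG)
    rw [hder]; exact le_sup_left
  obtain ⟨U₀, hU₀U, hexp, hU₀⟩ := h1360 hG M hM K U hKU
  have hσ1 : sigmaCore M ≠ ⊥ := Helper7.BGE.sigmaCore_ne_bot hG hM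
  obtain ⟨y, hy1⟩ := (Subgroup.ne_bot_iff_exists_ne_one).mp hσ1
  have hUhat : ∀ u ∈ U, u ∈ sigmaHat M := by
    intro u hu
    refine ⟨hKU.compl.1 hu, (y : G), y.2, fun hc => hy1 (Subtype.ext hc), ?_⟩
    have hco : (orderOf u).Coprime (Nat.card (sigmaCore M)) := by
      apply Helper7.BGD.coprime_sigmaCore hG hM
      intro q hq hqu
      refine Helper7.BGD.decomp_not_sigma hG hM hKU q hq (hqu.trans ?_)
      have := orderOf_dvd_natCard (⟨u, hu⟩ : ↥U)
      rwa [← Subgroup.orderOf_coe] at this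
    have huY := mem_Y_of_coprime h1439 hG hM h.hnil hco (hUF hu)
    exact Y_commute hG hM u huY y y.2
  have hU₀bot : U₀ = ⊥ := by
    rw [eq_bot_iff]; intro u hu; rw [Subgroup.mem_bot]; exact hU₀ u hu (hUhat u (hU₀U hu))
  subst hU₀bot
  have h1 : Monoid.exponent ↥U = 1 := by
    rw [← hexp]; exact Monoid.exp_eq_one_iff.mpr inferInstance
  have h2 : Subsingleton ↥U := Monoid.exp_eq_one_iff.mp h1
  exact hU1 (Subgroup.eq_bot_of_subsingleton U)

end NT

/-- `S1372` from the rows it depends on -/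
theorem s1372_of (h1430 : Row1430 G) (h1431 : Row1431 G) (h1439 : Row1439 G)
    (h1360 : Row1360 G) (h1365 : Row1365 G) (hG : IsMinSimpleOddOrder G)
    (M : Subgroup G) (hM : IsCoatom M) (K U : Subgroup G) (hKU : IsSigmaDecomposition M K U)
    (hK1 : K ≠ ⊥) (hU1 : U ≠ ⊥) :
    (Nat.card K).Prime ∧ IsTISubset (fittingOf M : Set G) ∧ sigmaCore M ≤ fittingOf M := by
  have hnil : Group.IsNilpotent ↥(sigmaCore M) := by
    by_contra hnn
    exact hU1 (Helper2.BGL.decomp_U_eq_bot hG hM (Helper7.BGK.p1_of_not_nilpotent hG hM hnn) hKU)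
  refine ⟨?_, ?_, ?_⟩
  · obtain ⟨U', hKU'⟩ := Helper7.BGK.exists_KU h1430 hG hM hKU.hall hK1
    refine Helper7.BGK.prime_card_of_not_p1 h1430 hG hM hKU' ?_
    intro hU'
    apply hU1
    refine Helper2.BGL.decomp_U_eq_bot hG hM ?_ hKU
    intro r hr hrM hrσ
    by_contra hrκ
    have h1 := hKU'.hallU.2.2 r hr ⟨hr, hrκ, hrσ⟩
    rw [hU', Subgroup.relIndex_bot_left] at h1
    exact h1 hrM
  · intro g hg y hy hgy
    by_contra hy1
    have hgM : g⁻¹ ∉ M := by
      intro hgM
      apply hg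
      have := BG8.le_normalizer_fittingOf M (M.inv_mem hgM)
      rw [inv_inv] at this
      exact this
    have hyX : y ∈ fittingOf M ⊓ BG7.cj g⁻¹ (fittingOf M) := by
      refine Subgroup.mem_inf.mpr ⟨hy, ?_⟩
      rw [BG7.mem_cj, inv_inv]; exact hgy
    have hX : fittingOf M ⊓ BG7.cj g⁻¹ (fittingOf M) ≠ ⊥ := by
      intro hbot
      rw [hbot, Subgroup.mem_bot] at hyX
      exact hy1 hyX
    obtain ⟨p, x, L, A, hNT, -⟩ := nt_of_nonti h1430 h1431 h1439 hG hM hnil hgM hX
    rcases hNT.K_or_U_bot h1360 h1365 h1439 hG hKU with h | h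
    · exact hK1 h
    · exact hU1 h
  · exact Helper7.BGK.le_fittingOf_of_le_normalizer (Helper7.BGE.sigmaCore_le M)
      (Helper3.BG12.le_normalizer_sigmaCore M) hnil

end Cfsg.Agent.Lib.Helper1.BGG
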