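import Mathlib
import Cfsg.Agent.Lib.Helper1.NW1
import Cfsg.Agent.Lib.Helper1.BG7e
import Cfsg.Agent.Lib.Helper1.BGG15

set_option autoImplicit false
set_option maxHeartbeats 4000000
set_option linter.unusedVariables false
set_option linter.unusedSectionVars false
set_option linter.style.longLine false
set_option linter.unusedSimpArgs false
set_option linter.deprecated false
set_option linter.style.haveILetI false

/-!
# A cyclic group acting on an extraspecial group of order `p ^ 3` and exponent `p`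

`K` cyclic of odd order prime to `p` normalizes `P` (nonabelian of order `p ^ 3`, exponent `p`),
centralizes `Z = Z(P)` and every nonidentity element of `K` has `C_P(k) ≤ Z`.  Then
`|K|` divides `p - 1` or `p + 1`.  (part 1: the local lemmas)
-/

open scoped commutatorElement Pointwise
universe u
namespace Cfsg.Agent.Lib.Helper1.BGG

open Cfsg Cfsg.Agent.Lib.Helper1

variable {G : Type u} [Group G] [Finite G]

/-- the configuration -/
structure XP (P Z K : Subgroup G) (p : ℕ) : Prop where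
  hp : p.Prime
  hp2 : p ≠ 2
  hZP : Z ≤ P
  hcardP : Nat.card P = p ^ 3
  hcardZ : Nat.card Z = p
  hexp : ∀ y ∈ P, y ^ p = 1
  hZc : ∀ z ∈ Z, ∀ y ∈ P, z * y = y * z
  hcen : ∀ y ∈ P, (∀ b ∈ P, y * b = b * y) → y ∈ Z
  hder : ∀ a ∈ P, ∀ b ∈ P, a * b * a⁻¹ * b⁻¹ ∈ Z
  hKn : K ≤ Subgroup.normalizer (P : Set G)
  hKZ : ∀ k ∈ K, ∀ z ∈ Z, k * z = z * k
  hfix : ∀ k ∈ K, k ≠ 1 → P ⊓ Subgroup.centralizer ({k} : Set G) ≤ Z
  hKcop : (Nat.card K).Coprime p
  hKodd : Odd (Nat.card K)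
  hKcomm : ∀ a ∈ K, ∀ b ∈ K, a * b = b * a

namespace XP

variable {P Z K : Subgroup G} {p : ℕ}

theorem conj_mem (h : XP P Z K p) {k y : G} (hk : k ∈ K) (hy : y ∈ P) : k * y * k⁻¹ ∈ P :=
  (Subgroup.mem_normalizer_iff.mp (h.hKn hk) y).mp hy

theorem conj_not_mem_Z (h : XP P Z K p) {k y : G} (hk : k ∈ K) (hyZ : y ∉ Z) :
    k * y * k⁻¹ ∉ Z := by
  intro hz
  apply hyZ
  have h1 := h.hKZ k hk _ hz
  have h2 : y = k⁻¹ * (k * y * k⁻¹) * k := by group
  have h3 : k⁻¹ * (k * y * k⁻¹) * k = k * y * k⁻¹ := by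
    rw [mul_assoc, ← h1]; group
  rw [h2, h3]; exact hz

theorem mem_cent_iff {y w : G} :
    w ∈ Subgroup.centralizer ({y} : Set G) ↔ y * w = w * y := by
  rw [Subgroup.mem_centralizer_iff]
  constructor
  · intro h; exact h y (Set.mem_singleton y)
  · intro h z hz; rw [Set.mem_singleton_iff] at hz; rw [hz]; exact h

/-- Fact 1: no nonidentity element of `K` fixes a coset of `Z` outside `Z` -/
theorem mem_Z_of_conj (h : XP P Z K p) {k y z : G} (hk : k ∈ K) (hk1 : k ≠ 1) (hy : y ∈ P)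
    (hz : z ∈ Z) (e : k * y * k⁻¹ = y * z) : y ∈ Z := by
  haveI : Fact p.Prime := ⟨h.hp⟩
  have hcop : (orderOf (MulAut.conj k)).Coprime p := by
    have h1 : orderOf (MulAut.conj k) ∣ orderOf k := orderOf_map_dvd MulAut.conj k
    have h2 : orderOf k ∣ Nat.card K := Subgroup.orderOf_dvd_natCard K hk
    exact Nat.Coprime.coprime_dvd_left (h1.trans h2) h.hKcop
  have hz1 : z = 1 := by
    refine NW.eq_one_of_aut_coprime (p := p) (MulAut.conj k) y z ?_ ?_ 1 ?_ hcop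
    · rw [MulAut.conj_apply]; exact e
    · rw [MulAut.conj_apply, h.hKZ k hk z hz]; group
    · rw [pow_one]; exact h.hexp z (h.hZP hz)
  rw [hz1, mul_one] at e
  apply h.hfix k hk hk1
  refine Subgroup.mem_inf.mpr ⟨hy, ?_⟩
  rw [mem_cent_iff]
  have : k * y = k * y * k⁻¹ * k := by group
  rw [this, e]

theorem Z_le_cent (h : XP P Z K p) {y : G} (hy : y ∈ P) :
    Z ≤ P ⊓ Subgroup.centralizer ({y} : Set G) := by
  intro z hz
  refine Subgroup.mem_inf.mpr ⟨h.hZP hz, ?_⟩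
  rw [mem_cent_iff]
  exact (h.hZc z hz y hy).symm

theorem self_mem_cent {P : Subgroup G} {y : G} (hy : y ∈ P) :
    y ∈ P ⊓ Subgroup.centralizer ({y} : Set G) :=
  Subgroup.mem_inf.mpr ⟨hy, mem_cent_iff.mpr rfl⟩

/-- the centralizer of a noncentral element has order `p ^ 2` -/
theorem card_cent (h : XP P Z K p) {y : G} (hy : y ∈ P) (hyZ : y ∉ Z) :
    Nat.card ↥(P ⊓ Subgroup.centralizer ({y} : Set G)) = p ^ 2 := by
  obtain ⟨B, hB⟩ : ∃ B : Subgroup G, B = P ⊓ Subgroup.centralizer ({y} : Set G) := ⟨_, rfl⟩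
  rw [← hB]
  have hBP : B ≤ P := hB ▸ inf_le_left
  have hZB : Z ≤ B := hB ▸ h.Z_le_cent hy
  have hyB : y ∈ B := hB ▸ self_mem_cent hy
  have hdvd : Nat.card B ∣ p ^ 3 := by
    rw [← h.hcardP]; exact Subgroup.card_dvd_of_le hBP
  obtain ⟨i, hi3, hi⟩ := (Nat.dvd_prime_pow h.hp).mp hdvd
  have hne3 : Nat.card B ≠ p ^ 3 := by
    intro hc
    have hBeq : B = P := Subgroup.eq_of_le_of_card_ge hBP (by rw [hc, h.hcardP])
    apply hyZ
    apply h.hcen y hy
    intro b hb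
    have hb' : b ∈ B := hBeq ▸ hb
    rw [hB] at hb'
    exact mem_cent_iff.mp (Subgroup.mem_inf.mp hb').2
  have hle : p ≤ Nat.card B := by
    rw [← h.hcardZ]; exact Subgroup.card_le_of_le hZB
  have hne1 : Nat.card B ≠ p := by
    intro hc
    have hBeq : Z = B := Subgroup.eq_of_le_of_card_ge hZB (by rw [hc, h.hcardZ])
    exact hyZ (hBeq ▸ hyB)
  have hp1 := h.hp.one_lt
  interval_cases i
  · rw [hi] at hle; simp at hle; omega
  · rw [hi, pow_one] at hne1; exact absurd rfl hne1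
  · exact hi
  · exact absurd hi hne3

/-- elements of the centralizer of a noncentral `y` are of the form `y ^ i * z` -/
theorem mem_cent_rep (h : XP P Z K p) {y w : G} (hy : y ∈ P) (hyZ : y ∉ Z)
    (hw : w ∈ P ⊓ Subgroup.centralizer ({y} : Set G)) : ∃ i : ℕ, ∃ z ∈ Z, w = y ^ i * z := by
  obtain ⟨T, hT⟩ : ∃ T : Subgroup G, T = Subgroup.zpowers y ⊔ Z := ⟨_, rfl⟩
  have hyT : y ∈ T := hT ▸ (le_sup_left : Subgroup.zpowers y ≤ _) (Subgroup.mem_zpowers y)
  have hZT : Z ≤ T := hT ▸ le_sup_right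
  have hTB : T ≤ P ⊓ Subgroup.centralizer ({y} : Set G) := by
    rw [hT]
    refine sup_le ?_ (h.Z_le_cent hy)
    rw [Subgroup.zpowers_le]; exact self_mem_cent hy
  have hTP : T ≤ P := hTB.trans inf_le_left
  have hdvd : Nat.card T ∣ p ^ 3 := by
    rw [← h.hcardP]; exact Subgroup.card_dvd_of_le hTP
  obtain ⟨i, hi3, hi⟩ := (Nat.dvd_prime_pow h.hp).mp hdvd
  have hle : p ≤ Nat.card T := by
    rw [← h.hcardZ]; exact Subgroup.card_le_of_le hZT
  have hne1 : Nat.card T ≠ p := by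
    intro hc
    have hBeq : Z = T := Subgroup.eq_of_le_of_card_ge hZT (by rw [hc, h.hcardZ])
    exact hyZ (hBeq ▸ hyT)
  have hp1 := h.hp.one_lt
  have hge : p ^ 2 ≤ Nat.card T := by
    rw [hi]
    have : 2 ≤ i := by
      by_contra hlt
      push Not at hlt
      interval_cases i
      · rw [hi] at hle; simp at hle; omega
      · rw [hi, pow_one] at hne1; exact absurd rfl hne1
    exact Nat.pow_le_pow_right h.hp.pos this
  have hTeq : T = P ⊓ Subgroup.centralizer ({y} : Set G) :=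
    Subgroup.eq_of_le_of_card_ge hTB (by rw [h.card_cent hy hyZ]; exact hge)
  rw [← hTeq, hT] at hw
  have hcomm : ∀ a ∈ Subgroup.zpowers y, ∀ b ∈ Z, a * b = b * a := by
    intro a ha b hb
    have haP : a ∈ P := (Subgroup.zpowers_le.mpr hy) ha
    exact (h.hZc b hb a haP).symm
  obtain ⟨a, ha, b, hb, rfl⟩ := NW.mem_sup_of_commute' hcomm hw
  rw [← (isOfFinOrder_of_finite y).mem_powers_iff_mem_zpowers] at ha
  obtain ⟨n, rfl⟩ := (Submonoid.mem_powers_iff _ _).mp ha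
  exact ⟨n, b, hb, rfl⟩

/-- two noncentral commuting elements have the same centralizer -/
theorem cent_eq (h : XP P Z K p) {y y' : G} (hy : y ∈ P) (hyZ : y ∉ Z) (hy' : y' ∈ P)
    (hy'Z : y' ∉ Z) (hc : y * y' = y' * y) :
    P ⊓ Subgroup.centralizer ({y'} : Set G) = P ⊓ Subgroup.centralizer ({y} : Set G) := by
  symm
  refine Subgroup.eq_of_le_of_card_ge ?_ (by rw [h.card_cent hy hyZ, h.card_cent hy' hy'Z])
  intro w hw
  have hy'B : y' ∈ P ⊓ Subgroup.centralizer ({y} : Set G) :=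
    Subgroup.mem_inf.mpr ⟨hy', mem_cent_iff.mpr hc⟩
  obtain ⟨i, z, hz, rfl⟩ := h.mem_cent_rep hy hyZ hw
  obtain ⟨j, z', hz', rfl⟩ := h.mem_cent_rep hy hyZ hy'B
  refine Subgroup.mem_inf.mpr ⟨(Subgroup.mem_inf.mp hw).1, ?_⟩
  rw [mem_cent_iff]
  have hyi : y ^ i ∈ P := P.pow_mem hy i
  have hyj : y ^ j ∈ P := P.pow_mem hy j
  have c1 : Commute (y ^ j) (y ^ i) := (Commute.refl y).pow_pow j i
  have c2 : Commute (y ^ j) z := (h.hZc z hz _ hyj).symm
  have c3 : Commute z' (y ^ i) := h.hZc z' hz' _ hyi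
  have c4 : Commute z' z := h.hZc z' hz' z (h.hZP hz)
  exact ((c1.mul_right c2).mul_left (c3.mul_right c4)).eq

/-- conjugating the centralizer of `y` in `P` by an element of `K` -/
theorem cj_cent (h : XP P Z K p) {k : G} (hk : k ∈ K) (y : G) :
    BG7.cj k (P ⊓ Subgroup.centralizer ({y} : Set G)) =
      P ⊓ Subgroup.centralizer ({k * y * k⁻¹} : Set G) := by
  rw [BG7.cj_inf, BG7.cj_eq_of_mem_normalizer (h.hKn hk), centralizer_singleton_cj]

/-- `k` fixes the line through `y` -/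
def FixL (k y : G) : Prop := (k * y * k⁻¹) * y = y * (k * y * k⁻¹)

theorem fixL_iff (h : XP P Z K p) {k y : G} (hk : k ∈ K) (hy : y ∈ P) (hyZ : y ∉ Z) :
    FixL k y ↔ BG7.cj k (P ⊓ Subgroup.centralizer ({y} : Set G)) =
      P ⊓ Subgroup.centralizer ({y} : Set G) := by
  rw [h.cj_cent hk]
  constructor
  · intro hf
    exact h.cent_eq hy hyZ (h.conj_mem hk hy) (h.conj_not_mem_Z hk hyZ) hf.symm
  · intro he
    have h1 : k * y * k⁻¹ ∈ P ⊓ Subgroup.centralizer ({y} : Set G) := by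
      rw [← he]; exact self_mem_cent (h.conj_mem hk hy)
    exact (mem_cent_iff.mp (Subgroup.mem_inf.mp h1).2).symm

theorem fixL_pow (h : XP P Z K p) {k y : G} (hk : k ∈ K) (hy : y ∈ P) (hyZ : y ∉ Z)
    (hf : FixL k y) (m : ℕ) : FixL (k ^ m) y := by
  rw [h.fixL_iff (K.pow_mem hk m) hy hyZ]
  rw [h.fixL_iff hk hy hyZ] at hf
  induction m with
  | zero => rw [pow_zero, BG7.cj_one]
  | succ m ih => rw [pow_succ, BG7.cj_mul, hf, ih]

/-- representation of a fixed line -/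
theorem fixL_rep (h : XP P Z K p) {k y : G} (hk : k ∈ K) (hy : y ∈ P) (hyZ : y ∉ Z)
    (hf : FixL k y) : ∃ i : ℕ, ∃ z ∈ Z, k * y * k⁻¹ = y ^ i * z ∧ ¬ p ∣ i := by
  have h1 : k * y * k⁻¹ ∈ P ⊓ Subgroup.centralizer ({y} : Set G) :=
    Subgroup.mem_inf.mpr ⟨h.conj_mem hk hy, mem_cent_iff.mpr hf.symm⟩
  obtain ⟨i, z, hz, e⟩ := h.mem_cent_rep hy hyZ h1
  refine ⟨i, z, hz, e, ?_⟩
  rintro ⟨m, rfl⟩
  rw [pow_mul, h.hexp y hy, one_pow, one_mul] at e
  exact h.conj_not_mem_Z hk hyZ (e ▸ hz)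

theorem pow_eq_of_modEq (h : XP P Z K p) {y : G} (hy : y ∈ P) {a b : ℕ} (hab : a ≡ b [MOD p]) :
    y ^ a = y ^ b := by
  rw [pow_eq_pow_iff_modEq]
  exact hab.of_dvd (orderOf_dvd_of_pow_eq_one (h.hexp y hy))

/-- Fact 2: an element of `K` fixing a line has order dividing `p - 1` -/
theorem pow_pred_eq_one (h : XP P Z K p) {k y : G} (hk : k ∈ K) (hy : y ∈ P) (hyZ : y ∉ Z)
    (hf : FixL k y) : k ^ (p - 1) = 1 := by
  obtain ⟨i, z₁, hz₁, e, hpi⟩ := h.fixL_rep hk hy hyZ hf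
  have hyz : Commute y z₁ := (h.hZc z₁ hz₁ y hy).symm
  have key : ∀ j : ℕ, ∃ z ∈ Z, k ^ j * y * (k ^ j)⁻¹ = y ^ (i ^ j) * z := by
    intro j
    induction j with
    | zero => exact ⟨1, Z.one_mem, by simp⟩
    | succ j ih =>
      obtain ⟨z, hz, ej⟩ := ih
      refine ⟨z₁ ^ (i ^ j) * z, Z.mul_mem (Z.pow_mem hz₁ _) hz, ?_⟩
      have h1 : k ^ (j + 1) * y * (k ^ (j + 1))⁻¹ = k * (k ^ j * y * (k ^ j)⁻¹) * k⁻¹ := by
        rw [pow_succ']; group
      have h2 : k * (y ^ (i ^ j) * z) * k⁻¹ = (k * y * k⁻¹) ^ (i ^ j) * (k * z * k⁻¹) := by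
        rw [← MulAut.conj_apply, ← MulAut.conj_apply, ← MulAut.conj_apply, map_mul, map_pow]
      have h3 : k * z * k⁻¹ = z := by rw [h.hKZ k hk z hz]; group
      rw [h1, ej, h2, h3, e, (hyz.pow_left i).mul_pow, ← pow_mul, pow_succ', mul_assoc]
  obtain ⟨z, hz, ez⟩ := key (p - 1)
  have hcop : Nat.Coprime i p := ((Nat.Prime.coprime_iff_not_dvd h.hp).mpr hpi).symm
  have hfer : i ^ (p - 1) ≡ 1 [MOD p] := by
    have := Nat.ModEq.pow_totient hcop
    rwa [Nat.totient_prime h.hp] at this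
  rw [h.pow_eq_of_modEq hy hfer, pow_one] at ez
  by_contra hne
  exact hyZ (h.mem_Z_of_conj (K.pow_mem hk _) hne hy hz ez)

end XP

end Cfsg.Agent.Lib.Helper1.BGG
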