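import Mathlib
import Cfsg.Agent.Lib.Helper1.BGG19
import Cfsg.Agent.Lib.Helper7.BGK14

set_option autoImplicit false
set_option maxHeartbeats 4000000
set_option linter.unusedVariables false
set_option linter.unusedSectionVars false
set_option linter.style.longLine false
set_option linter.unusedSimpArgs false
set_option linter.deprecated false
set_option linter.style.haveILetI false

/-!
# A cyclic group acting on an extraspecial group of order `p ^ 3` and exponent `p` (part 2)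
-/

open scoped commutatorElement Pointwise
universe u
namespace Cfsg.Agent.Lib.Helper1.BGG

open Cfsg Cfsg.Agent.Lib.Helper1

variable {G : Type u} [Group G] [Finite G]

/-! ### commutation with a central commutator -/

omit [Finite G] in
theorem pow_mul_comm_aux {x y w : G} (e : x * y = w * y * x) (hwx : Commute w x) (i : ℕ) :
    x ^ i * y = w ^ i * y * x ^ i := by
  induction i with
  | zero => simp
  | succ i ih =>
    have h1 : Commute x (w ^ i) := (hwx.pow_left i).symm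
    calc x ^ (i + 1) * y = x * (x ^ i * y) := by rw [pow_succ']; group
      _ = x * (w ^ i * y * x ^ i) := by rw [ih]
      _ = (x * w ^ i) * y * x ^ i := by group
      _ = (w ^ i * x) * y * x ^ i := by rw [h1.eq]
      _ = w ^ i * (x * y) * x ^ i := by group
      _ = w ^ i * (w * y * x) * x ^ i := by rw [e]
      _ = w ^ (i + 1) * y * x ^ (i + 1) := by rw [pow_succ, pow_succ']; group

omit [Finite G] in
theorem mul_pow_comm_aux {x y w : G} (e : x * y = w * y * x) (hwy : Commute w y) (j : ℕ) :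
    x * y ^ j = w ^ j * y ^ j * x := by
  induction j with
  | zero => simp
  | succ j ih =>
    have h1 : Commute (y ^ j) w := (hwy.pow_right j).symm
    calc x * y ^ (j + 1) = (x * y ^ j) * y := by rw [pow_succ]; group
      _ = (w ^ j * y ^ j * x) * y := by rw [ih]
      _ = w ^ j * y ^ j * (x * y) := by group
      _ = w ^ j * y ^ j * (w * y * x) := by rw [e]
      _ = w ^ j * (y ^ j * w) * y * x := by group
      _ = w ^ j * (w * y ^ j) * y * x := by rw [h1.eq]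
      _ = w ^ (j + 1) * y ^ (j + 1) * x := by rw [pow_succ, pow_succ]; group

omit [Finite G] in
theorem pow_pow_comm_aux {x y w : G} (e : x * y = w * y * x) (hwx : Commute w x)
    (hwy : Commute w y) (i j : ℕ) : x ^ i * y ^ j = w ^ (i * j) * y ^ j * x ^ i := by
  have h1 := pow_mul_comm_aux e hwx i
  have h2 := mul_pow_comm_aux h1 (hwy.pow_left i) j
  rw [h2, ← pow_mul]

omit [Finite G] in
theorem comm_mul_central_left {x y z : G} (hzy : Commute z y) :
    (x * z) * y * (x * z)⁻¹ * y⁻¹ = x * y * x⁻¹ * y⁻¹ := by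
  have h1 : z * y * z⁻¹ = y := by rw [hzy.eq]; group
  calc (x * z) * y * (x * z)⁻¹ * y⁻¹ = x * (z * y * z⁻¹) * x⁻¹ * y⁻¹ := by group
    _ = x * y * x⁻¹ * y⁻¹ := by rw [h1]

omit [Finite G] in
theorem comm_mul_central_right {x y z : G} (hzx : Commute z x) :
    x * (y * z) * x⁻¹ * (y * z)⁻¹ = x * y * x⁻¹ * y⁻¹ := by
  have h1 : z * x⁻¹ * z⁻¹ = x⁻¹ := by rw [(hzx.inv_right).eq]; group
  calc x * (y * z) * x⁻¹ * (y * z)⁻¹ = x * y * (z * x⁻¹ * z⁻¹) * y⁻¹ := by group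
    _ = x * y * x⁻¹ * y⁻¹ := by rw [h1]

theorem arith_scalar {p i j m : ℕ} (hp : p.Prime) (h1 : i * j ≡ 1 [MOD p])
    (h2 : i * m ≡ 1 [MOD p]) (h3 : j * m ≡ 1 [MOD p]) : i ≡ 1 [MOD p] ∨ p ∣ i + 1 := by
  haveI : Fact p.Prime := ⟨hp⟩
  rw [← ZMod.natCast_eq_natCast_iff] at h1 h2 h3 ⊢
  push_cast at h1 h2 h3 ⊢
  have e1 : (i : ZMod p) = m := by
    calc (i : ZMod p) = i * (j * m) := by rw [h3, mul_one]
      _ = (i * j) * m := by ring
      _ = m := by rw [h1, one_mul]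
  have e2 : (i : ZMod p) * i = 1 := by
    nth_rewrite 2 [e1]; exact h2
  have e3 : ((i : ZMod p) - 1) * (i + 1) = 0 := by ring_nf; rw [sq, e2]; ring
  rcases mul_eq_zero.mp e3 with h | h
  · left; exact sub_eq_zero.mp h
  · right
    rw [← ZMod.natCast_eq_zero_iff]
    push_cast; exact h

namespace XP

variable {P Z K : Subgroup G} {p : ℕ}

/-- the basic congruence between the multipliers on two non-commuting fixed lines -/
theorem pair_modEq (h : XP P Z K p) {k a b z₁ z₂ : G} {i j : ℕ} (hk : k ∈ K) (ha : a ∈ P)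
    (hb : b ∈ P) (hz₁ : z₁ ∈ Z) (hz₂ : z₂ ∈ Z) (ea : k * a * k⁻¹ = a ^ i * z₁)
    (eb : k * b * k⁻¹ = b ^ j * z₂) (hab : a * b ≠ b * a) : i * j ≡ 1 [MOD p] := by
  obtain ⟨w, hw⟩ : ∃ w : G, w = a * b * a⁻¹ * b⁻¹ := ⟨_, rfl⟩
  have hwZ : w ∈ Z := hw ▸ h.hder a ha b hb
  have hw1 : w ≠ 1 := by
    intro h1
    apply hab
    have : a * b = (a * b * a⁻¹ * b⁻¹) * b * a := by group
    rw [this, ← hw, h1]; group
  have e : a * b = w * b * a := by rw [hw]; group
  have hwa : Commute w a := h.hZc w hwZ a ha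
  have hwb : Commute w b := h.hZc w hwZ b hb
  have hkw : k * w * k⁻¹ = w := by rw [h.hKZ k hk w hwZ]; group
  have h1 : k * w * k⁻¹ = (k * a * k⁻¹) * (k * b * k⁻¹) * (k * a * k⁻¹)⁻¹ * (k * b * k⁻¹)⁻¹ := by
    rw [hw]; group
  have hai : a ^ i ∈ P := P.pow_mem ha i
  have hbj : b ^ j ∈ P := P.pow_mem hb j
  have c0 : Commute z₁ (b ^ j) := h.hZc z₁ hz₁ _ hbj
  have c0' : Commute z₁ z₂ := h.hZc z₁ hz₁ z₂ (h.hZP hz₂)
  have c1 : Commute z₁ (b ^ j * z₂) := c0.mul_right c0'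
  have c2 : Commute z₂ (a ^ i) := h.hZc z₂ hz₂ _ hai
  have h2 : (a ^ i * z₁) * (b ^ j * z₂) * (a ^ i * z₁)⁻¹ * (b ^ j * z₂)⁻¹ =
      a ^ i * b ^ j * (a ^ i)⁻¹ * (b ^ j)⁻¹ := by
    rw [comm_mul_central_left c1, comm_mul_central_right c2]
  have h3 : a ^ i * b ^ j * (a ^ i)⁻¹ * (b ^ j)⁻¹ = w ^ (i * j) := by
    rw [pow_pow_comm_aux e hwa hwb i j]; group
  rw [ea, eb, h2, h3, hkw] at h1
  haveI : Fact p.Prime := ⟨h.hp⟩
  have hord : orderOf w = p := orderOf_eq_prime (h.hexp w (h.hZP hwZ)) hw1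
  have h4 : w ^ 1 = w ^ (i * j) := by rw [pow_one]; exact h1
  rw [pow_eq_pow_iff_modEq, hord] at h4
  exact h4.symm

/-- a nonidentity element of `K` cannot fix three distinct lines -/
theorem scalar (h : XP P Z K p) {k a b c : G} (hk : k ∈ K) (hk1 : k ≠ 1) (ha : a ∈ P)
    (hb : b ∈ P) (hc : c ∈ P) (hab : a * b ≠ b * a) (hac : a * c ≠ c * a) (hbc : b * c ≠ c * b)
    (fa : FixL k a) (fb : FixL k b) (fc : FixL k c) : False := by
  have haZ : a ∉ Z := fun hz => hab (h.hZc a hz b hb)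
  have hbZ : b ∉ Z := fun hz => hbc (h.hZc b hz c hc)
  have hcZ : c ∉ Z := fun hz => hac (h.hZc c hz a ha).symm
  obtain ⟨i, z₁, hz₁, ea, -⟩ := h.fixL_rep hk ha haZ fa
  obtain ⟨j, z₂, hz₂, eb, -⟩ := h.fixL_rep hk hb hbZ fb
  obtain ⟨m, z₃, hz₃, ec, -⟩ := h.fixL_rep hk hc hcZ fc
  have h1 := h.pair_modEq hk ha hb hz₁ hz₂ ea eb hab
  have h2 := h.pair_modEq hk ha hc hz₁ hz₃ ea ec hac
  have h3 := h.pair_modEq hk hb hc hz₂ hz₃ eb ec hbc
  rcases arith_scalar h.hp h1 h2 h3 with hi | hi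
  · rw [h.pow_eq_of_modEq ha hi, pow_one] at ea
    exact haZ (h.mem_Z_of_conj hk hk1 ha hz₁ ea)
  · have e1 : a ^ i = a⁻¹ := by
      obtain ⟨t, ht⟩ := hi
      have : a ^ (i + 1) = 1 := by rw [ht, pow_mul, h.hexp a ha, one_pow]
      rw [pow_succ] at this
      exact eq_inv_of_mul_eq_one_left this
    rw [e1] at ea
    have hz₁a : Commute z₁ a := h.hZc z₁ hz₁ a ha
    have e2 : k ^ 2 * a * (k ^ 2)⁻¹ = a * 1 := by
      have h4 : k ^ 2 * a * (k ^ 2)⁻¹ = k * (k * a * k⁻¹) * k⁻¹ := by rw [pow_two]; group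
      have h5 : k * (a⁻¹ * z₁) * k⁻¹ = (k * a * k⁻¹)⁻¹ * (k * z₁ * k⁻¹) := by group
      have h6 : k * z₁ * k⁻¹ = z₁ := by rw [h.hKZ k hk z₁ hz₁]; group
      rw [h4, ea, h5, h6, ea, mul_one]
      calc (a⁻¹ * z₁)⁻¹ * z₁ = z₁⁻¹ * a * z₁ := by group
        _ = z₁⁻¹ * (z₁ * a) := by rw [hz₁a.eq]; group
        _ = a := by group
    by_cases hk2 : k ^ 2 = 1
    · have h7 : orderOf k ∣ 2 := orderOf_dvd_of_pow_eq_one hk2
      have h8 : orderOf k ∣ Nat.card K := Subgroup.orderOf_dvd_natCard K hk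
      have h9 : orderOf k = 1 := by
        rcases (Nat.dvd_prime Nat.prime_two).mp h7 with h0 | h0
        · exact h0
        · exfalso
          rw [h0] at h8
          exact (Nat.not_even_iff_odd.mpr h.hKodd) (even_iff_two_dvd.mpr h8)
      exact hk1 (orderOf_eq_one_iff.mp h9)
    · exact haZ (h.mem_Z_of_conj (K.pow_mem hk 2) hk2 ha Z.one_mem e2)

end XP

/-! ### counting lines -/

/-- the lines: centralizers in `P` of the noncentral elements -/
def lines (P Z : Subgroup G) : Set (Subgroup G) :=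
  {B | ∃ y ∈ P, y ∉ Z ∧ B = P ⊓ Subgroup.centralizer ({y} : Set G)}

theorem XP.card_lines {P Z K : Subgroup G} {p : ℕ} (h : XP P Z K p) :
    Nat.card ↥(lines P Z) = p + 1 := by
  classical
  have hfin : (lines P Z).Finite := Set.toFinite _
  obtain ⟨s, hs⟩ : ∃ s : Finset (Subgroup G), s = hfin.toFinset := ⟨_, rfl⟩
  have hmem : ∀ B, B ∈ s ↔ B ∈ lines P Z := by intro B; rw [hs, Set.Finite.mem_toFinset]
  have hcard : Nat.card ↥(lines P Z) = s.card := by
    rw [Nat.card_coe_set_eq, Set.ncard_eq_toFinset_card _ hfin, hs]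
  rw [hcard]
  have hT : ∀ B ∈ s, ((B : Set G) \ (Z : Set G)).ncard = p ^ 2 - p := by
    intro B hB
    obtain ⟨y, hy, hyZ, rfl⟩ := (hmem B).mp hB
    have hsub : (Z : Set G) ⊆ ((P ⊓ Subgroup.centralizer ({y} : Set G) : Subgroup G) : Set G) :=
      h.Z_le_cent hy
    rw [Set.ncard_diff hsub (Set.toFinite _), ← Nat.card_coe_set_eq, ← Nat.card_coe_set_eq]
    show Nat.card ↥(P ⊓ Subgroup.centralizer ({y} : Set G)) - Nat.card ↥Z = _
    rw [h.card_cent hy hyZ, h.hcardZ]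
  have hdisj : ∀ B ∈ s, ∀ B' ∈ s, B ≠ B' →
      ((B : Set G) \ (Z : Set G)) ∩ ((B' : Set G) \ (Z : Set G)) = ∅ := by
    intro B hB B' hB' hne
    obtain ⟨y, hy, hyZ, rfl⟩ := (hmem B).mp hB
    obtain ⟨y', hy', hy'Z, rfl⟩ := (hmem B').mp hB'
    rw [Set.eq_empty_iff_forall_notMem]
    rintro w ⟨⟨hw1, hwZ⟩, ⟨hw2, -⟩⟩
    apply hne
    have hwP : w ∈ P := (Subgroup.mem_inf.mp hw1).1
    have e1 := h.cent_eq hy hyZ hwP hwZ (XP.mem_cent_iff.mp (Subgroup.mem_inf.mp hw1).2)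
    have e2 := h.cent_eq hy' hy'Z hwP hwZ (XP.mem_cent_iff.mp (Subgroup.mem_inf.mp hw2).2)
    rw [← e1, ← e2]
  have hunion : ((P : Set G) \ (Z : Set G)) =
      (∅ : Set G) ∪ {w | ∃ B ∈ s, w ∈ ((B : Set G) \ (Z : Set G))} := by
    rw [Set.empty_union]
    ext w
    constructor
    · rintro ⟨hwP, hwZ⟩
      refine ⟨P ⊓ Subgroup.centralizer ({w} : Set G), (hmem _).mpr ⟨w, hwP, hwZ, rfl⟩, ?_, hwZ⟩
      exact XP.self_mem_cent hwP
    · rintro ⟨B, hB, hwB, hwZ⟩
      obtain ⟨y, hy, hyZ, rfl⟩ := (hmem B).mp hB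
      exact ⟨(Subgroup.mem_inf.mp hwB).1, hwZ⟩
  have hsum := Helper7.BGK.ncard_union_family (∅ : Set G)
    (fun B : Subgroup G => ((B : Set G) \ (Z : Set G))) s
    (fun i _ => Set.empty_inter _) hdisj
  rw [← hunion, Set.ncard_empty, zero_add, Finset.sum_congr rfl hT, Finset.sum_const,
    smul_eq_mul] at hsum
  have hPZ : ((P : Set G) \ (Z : Set G)).ncard = p ^ 3 - p := by
    have hsub : (Z : Set G) ⊆ (P : Set G) := h.hZP
    rw [Set.ncard_diff hsub (Set.toFinite _), ← Nat.card_coe_set_eq, ← Nat.card_coe_set_eq]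
    show Nat.card ↥P - Nat.card ↥Z = _
    rw [h.hcardP, h.hcardZ]
  rw [hPZ] at hsum
  have hp1 := h.hp.one_lt
  have h1 : p ^ 3 - p = (p + 1) * (p ^ 2 - p) := by
    have e1 : p ≤ p ^ 2 := by nlinarith
    have e2 : p ≤ p ^ 3 := by nlinarith
    zify [e1, e2]; ring
  have h2 : 0 < p ^ 2 - p := by
    have : p < p ^ 2 := by nlinarith
    omega
  rw [h1] at hsum
  exact (Nat.eq_of_mul_eq_mul_right h2 hsum).symm

/-- a free conjugation action on a set of subgroups -/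
theorem card_dvd_of_free_cj (K : Subgroup G) (T : Set (Subgroup G))
    (hT : ∀ k ∈ K, ∀ B ∈ T, BG7.cj k B ∈ T)
    (hfree : ∀ k ∈ K, ∀ B ∈ T, BG7.cj k B = B → k = 1) : Nat.card K ∣ Nat.card ↥T := by
  letI : MulAction ↥K ↥T :=
    { smul := fun k B => ⟨BG7.cj (k : G) (B : Subgroup G), hT k k.2 B B.2⟩
      one_smul := fun B => Subtype.ext (BG7.cj_one _)
      mul_smul := fun k k' B => Subtype.ext (BG7.cj_mul _ _ _) }
  have hstab : ∀ B : ↥T, MulAction.stabilizer ↥K B = ⊥ := by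
    intro B
    rw [eq_bot_iff]
    intro k hk
    rw [MulAction.mem_stabilizer_iff] at hk
    have h1 : BG7.cj (k : G) (B : Subgroup G) = B := congrArg Subtype.val hk
    rw [Subgroup.mem_bot]
    exact Subtype.ext (hfree k k.2 B B.2 h1)
  have e := MulAction.selfEquivOrbitsQuotientProd hstab
  rw [Nat.card_congr e, Nat.card_prod]
  exact dvd_mul_left _ _

/-- **the main lemma**: `|K|` divides `p - 1` or `p + 1` -/
theorem XP.card_dvd {P Z K : Subgroup G} {p : ℕ} (h : XP P Z K p) (hcyc : IsCyclic ↥K) :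
    Nat.card K ∣ p - 1 ∨ Nat.card K ∣ p + 1 := by
  obtain ⟨⟨k, hk⟩, hgen⟩ := hcyc.exists_generator
  have hord : orderOf k = Nat.card K := by
    have := orderOf_eq_card_of_forall_mem_zpowers hgen
    rwa [Subgroup.orderOf_mk] at this
  by_cases hA : ∃ y ∈ P, y ∉ Z ∧ FixL k y
  · left
    obtain ⟨y, hy, hyZ, hf⟩ := hA
    rw [← hord]
    exact orderOf_dvd_of_pow_eq_one (h.pow_pred_eq_one hk hy hyZ hf)
  · right
    push Not at hA
    rw [← h.card_lines]
    apply card_dvd_of_free_cj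
    · rintro k' hk' B ⟨y, hy, hyZ, rfl⟩
      exact ⟨k' * y * k'⁻¹, h.conj_mem hk' hy, h.conj_not_mem_Z hk' hyZ, h.cj_cent hk' y⟩
    · rintro k'' hk'' B ⟨y, hy, hyZ, rfl⟩ hfix
      by_contra hk''1
      have fa : FixL k'' y := (h.fixL_iff hk'' hy hyZ).mpr hfix
      have hb : k * y * k⁻¹ ∈ P := h.conj_mem hk hy
      have hbZ : k * y * k⁻¹ ∉ Z := h.conj_not_mem_Z hk hyZ
      have hc : k * (k * y * k⁻¹) * k⁻¹ ∈ P := h.conj_mem hk hb
      have fconj : ∀ u : G, FixL k'' u → FixL k'' (k * u * k⁻¹) := by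
        intro u hu
        unfold FixL at hu ⊢
        have hkk : k'' * k = k * k'' := h.hKcomm k'' hk'' k hk
        have e1 : k'' * (k * u * k⁻¹) * k''⁻¹ = k * (k'' * u * k''⁻¹) * k⁻¹ := by
          have : k'' * (k * u * k⁻¹) * k''⁻¹ = (k'' * k) * u * (k'' * k)⁻¹ := by group
          rw [this, hkk]; group
        rw [e1]
        calc k * (k'' * u * k''⁻¹) * k⁻¹ * (k * u * k⁻¹)
            = k * ((k'' * u * k''⁻¹) * u) * k⁻¹ := by group
          _ = k * (u * (k'' * u * k''⁻¹)) * k⁻¹ := by rw [hu]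
          _ = k * u * k⁻¹ * (k * (k'' * u * k''⁻¹) * k⁻¹) := by group
      have fb : FixL k'' (k * y * k⁻¹) := fconj y fa
      have fc : FixL k'' (k * (k * y * k⁻¹) * k⁻¹) := fconj _ fb
      have hab : y * (k * y * k⁻¹) ≠ (k * y * k⁻¹) * y := fun e => hA y hy hyZ e.symm
      have hbc : (k * y * k⁻¹) * (k * (k * y * k⁻¹) * k⁻¹) ≠
          (k * (k * y * k⁻¹) * k⁻¹) * (k * y * k⁻¹) := by
        intro e
        apply hab
        have e' : k⁻¹ * ((k * y * k⁻¹) * (k * (k * y * k⁻¹) * k⁻¹)) * k =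
            k⁻¹ * ((k * (k * y * k⁻¹) * k⁻¹) * (k * y * k⁻¹)) * k := by rw [e]
        have l1 : k⁻¹ * ((k * y * k⁻¹) * (k * (k * y * k⁻¹) * k⁻¹)) * k = y * (k * y * k⁻¹) := by
          group
        have l2 : k⁻¹ * ((k * (k * y * k⁻¹) * k⁻¹) * (k * y * k⁻¹)) * k = (k * y * k⁻¹) * y := by
          group
        rw [l1, l2] at e'
        exact e'
      have hac : y * (k * (k * y * k⁻¹) * k⁻¹) ≠ (k * (k * y * k⁻¹) * k⁻¹) * y := by
        intro e
        have e2 : k * (k * y * k⁻¹) * k⁻¹ = k ^ 2 * y * (k ^ 2)⁻¹ := by rw [pow_two]; group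
        rw [e2] at e
        have f2 : FixL (k ^ 2) y := e.symm
        obtain ⟨t, ht⟩ := h.hKodd
        have f3 := h.fixL_pow (K.pow_mem hk 2) hy hyZ f2 (t + 1)
        have e3 : (k ^ 2) ^ (t + 1) = k := by
          rw [← pow_mul]
          have : 2 * (t + 1) = orderOf k + 1 := by rw [hord, ht]; ring
          rw [this, pow_succ, pow_orderOf_eq_one, one_mul]
        rw [e3] at f3
        exact hA y hy hyZ f3
      exact h.scalar hk'' hk''1 hy hb hc hab hac hbc fa fb fc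

end Cfsg.Agent.Lib.Helper1.BGG
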