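import Mathlib
import Cfsg.Agent.Lib.Helper1.BGG18
import Cfsg.Agent.Lib.Helper1.BGG20
import Cfsg.Agent.Lib.Helper1.CoprimeAbelian
import Cfsg.Agent.Lib.Helper7.BGC1
import Cfsg.Agent.S1408
import Cfsg.Agent.S1412
import Cfsg.Agent.S1454

set_option autoImplicit false
set_option maxHeartbeats 4000000
set_option linter.unusedVariables false
set_option linter.unusedSectionVars false
set_option linter.style.longLine false
set_option linter.unusedSimpArgs false
set_option linter.deprecated false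
set_option linter.style.haveILetI false

/-!
# B&G Theorem 15.7, part 5: the action of `K` on `P` (nonabelian), `K ≠ 1`, `U = 1`
-/

open scoped commutatorElement Pointwise
universe u
namespace Cfsg.Agent.Lib.Helper1.BGG

open Cfsg Cfsg.Agent.Lib.Helper1 Cfsg.Agent.Lib.Helper7.BGRows

variable {G : Type u} [Group G] [Finite G]

/-! ### general lemmas -/

omit [Finite G] in
/-- `[N, N] ≤ [A, A]` if `N = A B` with `B` abelian commuting with `A` -/
theorem commutator_le_of_sup {N A B : Subgroup G} (hsup : A ⊔ B = N)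
    (hAB : ∀ a ∈ A, ∀ b ∈ B, a * b = b * a) (hB : ∀ a ∈ B, ∀ b ∈ B, a * b = b * a) :
    ⁅N, N⁆ ≤ ⁅A, A⁆ := by
  rw [Subgroup.commutator_le]
  intro g₁ hg₁ g₂ hg₂
  rw [← hsup] at hg₁ hg₂
  obtain ⟨a₁, ha₁, b₁, hb₁, rfl⟩ := NW.mem_sup_of_commute' hAB hg₁
  obtain ⟨a₂, ha₂, b₂, hb₂, rfl⟩ := NW.mem_sup_of_commute' hAB hg₂
  have h1 : ⁅a₁ * b₁, a₂ * b₂⁆ = ⁅a₁, a₂⁆ := by
    rw [commutatorElement_def, commutatorElement_def]
    have c1 : Commute b₁ (a₂ * b₂) :=
      (Commute.mul_right (hAB a₂ ha₂ b₁ hb₁).symm (hB b₁ hb₁ b₂ hb₂))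
    have c2 : Commute b₂ a₁ := (hAB a₁ ha₁ b₂ hb₂).symm
    have e1 : (a₁ * b₁) * (a₂ * b₂) * (a₁ * b₁)⁻¹ * (a₂ * b₂)⁻¹ =
        a₁ * (b₁ * (a₂ * b₂) * b₁⁻¹) * a₁⁻¹ * (a₂ * b₂)⁻¹ := by group
    have e2 : b₁ * (a₂ * b₂) * b₁⁻¹ = a₂ * b₂ := by rw [c1.eq]; group
    have e3 : a₁ * (a₂ * b₂) * a₁⁻¹ * (a₂ * b₂)⁻¹ =
        a₁ * a₂ * (b₂ * a₁⁻¹ * b₂⁻¹) * a₂⁻¹ := by group
    have e4 : b₂ * a₁⁻¹ * b₂⁻¹ = a₁⁻¹ := by rw [(c2.inv_right).eq]; group
    rw [e1, e2, e3, e4]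
  rw [h1]
  exact Subgroup.commutator_mem_commutator ha₁ ha₂

/-- a nontrivial `p`-subgroup is not contained in its derived subgroup -/
theorem not_le_commutator_of_isPGroup {p : ℕ} [Fact p.Prime] {P : Subgroup G} (hP : IsPGroup p P)
    (hP1 : P ≠ ⊥) : ¬ P ≤ ⁅P, P⁆ := by
  intro hle
  haveI : Group.IsNilpotent ↥P := hP.isNilpotent
  haveI : Nontrivial ↥P := (Subgroup.nontrivial_iff_ne_bot P).mpr hP1
  have h1 : commutator ↥P < ⊤ := IsSolvable.commutator_lt_top_of_nontrivial ↥P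
  apply ne_of_lt h1
  rw [eq_top_iff]
  intro y _
  have h2 : (y : G) ∈ ⁅P, P⁆ := hle y.2
  rw [← Subgroup.map_subtype_commutator] at h2
  obtain ⟨y', hy', e⟩ := h2
  have : y' = y := Subtype.ext e
  rwa [← this]

omit [Finite G] in
/-- an element normalizing a subgroup of prime order `q`: its `(q - 1)`-th power centralizes it -/
theorem pow_pred_commute_of_normalizes {k y : G} {q : ℕ} (hq : q.Prime) (hy : orderOf y = q)
    (hk : k * y * k⁻¹ ∈ Subgroup.zpowers y) : k ^ (q - 1) * y = y * k ^ (q - 1) := by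
  have hfin : IsOfFinOrder y := orderOf_pos_iff.mp (hy ▸ hq.pos)
  rw [← hfin.mem_powers_iff_mem_zpowers] at hk
  obtain ⟨i, hi⟩ := (Submonoid.mem_powers_iff _ _).mp hk
  have hy1 : y ≠ 1 := by
    rintro rfl
    rw [orderOf_one] at hy
    exact hq.one_lt.ne hy
  have hqi : ¬ q ∣ i := by
    rintro ⟨m, rfl⟩
    rw [pow_mul, ← hy, pow_orderOf_eq_one, one_pow] at hi
    apply hy1
    have : y = k⁻¹ * (k * y * k⁻¹) * k := by group
    rw [this, ← hi]; group
  have key : ∀ j : ℕ, k ^ j * y * (k ^ j)⁻¹ = y ^ (i ^ j) := by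
    intro j
    induction j with
    | zero => simp
    | succ j ih =>
      have h1 : k ^ (j + 1) * y * (k ^ (j + 1))⁻¹ = k * (k ^ j * y * (k ^ j)⁻¹) * k⁻¹ := by
        rw [pow_succ']; group
      have h2 : k * (y ^ (i ^ j)) * k⁻¹ = (k * y * k⁻¹) ^ (i ^ j) := by
        rw [← MulAut.conj_apply, ← MulAut.conj_apply, map_pow]
      rw [h1, ih, h2, ← hi, ← pow_mul, pow_succ']
  have hcop : Nat.Coprime i q := ((Nat.Prime.coprime_iff_not_dvd hq).mpr hqi).symm
  have hfer : i ^ (q - 1) ≡ 1 [MOD q] := by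
    have := Nat.ModEq.pow_totient hcop
    rwa [Nat.totient_prime hq] at this
  have h3 := key (q - 1)
  have h4 : y ^ (i ^ (q - 1)) = y ^ 1 := by
    rw [pow_eq_pow_iff_modEq, hy]; exact hfer
  rw [h4, pow_one] at h3
  have : k ^ (q - 1) * y = (k ^ (q - 1) * y * (k ^ (q - 1))⁻¹) * k ^ (q - 1) := by group
  rw [this, h3]

omit [Finite G] in
theorem comm_of_cyclic {Q : Subgroup G} (hQ : IsCyclic ↥Q) :
    ∀ a ∈ Q, ∀ b ∈ Q, a * b = b * a := by
  intro a ha b hb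
  haveI := hQ
  exact congrArg Subtype.val ((inferInstance : IsMulCommutative ↥Q).is_comm.comm (⟨a, ha⟩ : ↥Q) ⟨b, hb⟩)

namespace NT

variable {M L A : Subgroup G} {x : G} {p : ℕ}

theorem hp2 (h : NT M L x p A) (hG : IsMinSimpleOddOrder G) : p ≠ 2 := by
  rintro rfl
  have h1 : 2 ∣ Nat.card G := by
    have : orderOf x ∣ Nat.card G := orderOf_dvd_natCard x
    rwa [h.hxo] at this
  have := hG.1
  rw [Nat.odd_iff] at this
  omega

theorem P_ne_bot (h : NT M L x p A) (hG : IsMinSimpleOddOrder G) :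
    Pc p (sigmaCore M) ≠ ⊥ := by
  intro hbot
  have hx := h.x_mem_P hG
  rw [hbot, Subgroup.mem_bot] at hx
  have := h.hxo
  rw [hx, orderOf_one] at this
  exact h.prime.one_lt.ne this

/-- `K* ≤ P'` -/
theorem kstar_le (h : NT M L x p A) (hG : IsMinSimpleOddOrder G)
    (hnc : ¬ ∀ a ∈ Pc p (sigmaCore M), ∀ b ∈ Pc p (sigmaCore M), a * b = b * a)
    {K : Subgroup G} (hKU : IsSigmaDecomposition M K ⊥) :
    sigmaCore M ⊓ Subgroup.centralizer (K : Set G) ≤
      ⁅Pc p (sigmaCore M), Pc p (sigmaCore M)⁆ := by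
  haveI : Fact p.Prime := ⟨h.prime⟩
  have hE := compl_of_U_bot hKU
  have h26 := (Helper2.BGH.row1426 hG M h.hM K hE).1
  refine h26.trans (commutator_le_of_sup (Pc_sup_Qc h.hnil p) (Pc_Qc_commute p _) ?_)
  exact comm_of_cyclic (h.Qc_cyclic hG hnc)

theorem K_coprime_p (h : NT M L x p A) {K U : Subgroup G} (hKU : IsSigmaDecomposition M K U) :
    (Nat.card K).Coprime p := by
  rw [Nat.coprime_comm, Nat.Prime.coprime_iff_not_dvd h.prime]
  intro hd
  exact (hKU.hall.2.1 p h.prime hd).2.2.1 h.td.hqM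

theorem K_le_normP (h : NT M L x p A) {K U : Subgroup G} (hKU : IsSigmaDecomposition M K U)
    (q : ℕ) : K ≤ Subgroup.normalizer (Pc q (sigmaCore M) : Set G) :=
  hKU.hall.1.trans (h.M_le_normP q)

/-- prime action of `K` on `M_σ` -/
theorem prime_action (h : NT M L x p A) (h1430 : Row1430 G) (hG : IsMinSimpleOddOrder G)
    {K U : Subgroup G} (hKU : IsSigmaDecomposition M K U) (hK1 : K ≠ ⊥) {k : G} (hk : k ∈ K)
    (hk1 : k ≠ 1) : sigmaCore M ⊓ Subgroup.centralizer ({k} : Set G) =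
      sigmaCore M ⊓ Subgroup.centralizer (K : Set G) :=
  (h1430 hG M h.hM K hKU.hall hK1).1 k hk hk1

/-- `|K|` divides `q - 1` for the primes `q ≠ p` of `M_σ` -/
theorem card_K_dvd_of_ne (h : NT M L x p A) (h1430 : Row1430 G) (hG : IsMinSimpleOddOrder G)
    (hnc : ¬ ∀ a ∈ Pc p (sigmaCore M), ∀ b ∈ Pc p (sigmaCore M), a * b = b * a)
    {K : Subgroup G} (hKU : IsSigmaDecomposition M K ⊥) (hK1 : K ≠ ⊥) {q : ℕ} (hq : q.Prime)
    (hqp : q ≠ p) (hqd : q ∣ Nat.card (sigmaCore M)) : Nat.card K ∣ q - 1 := by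
  haveI : Fact p.Prime := ⟨h.prime⟩
  haveI : Fact q.Prime := ⟨hq⟩
  obtain ⟨⟨y, hyH⟩, hyo⟩ := exists_prime_orderOf_dvd_card' q hqd
  rw [Subgroup.orderOf_mk] at hyo
  have hy1 : y ≠ 1 := by
    rintro rfl
    rw [orderOf_one] at hyo
    exact hq.one_lt.ne hyo
  have hNq : IsPGroup q (Subgroup.zpowers y) :=
    IsPGroup.of_card (n := 1) (by rw [Nat.card_zpowers, hyo, pow_one])
  have hNH : Subgroup.zpowers y ≤ sigmaCore M := Subgroup.zpowers_le.mpr hyH
  have hNC : Subgroup.zpowers y ≤ Pc q (sigmaCore M) := le_Pc_of_nilpotent h.hnil hNH hNq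
  haveI hCc : IsCyclic ↥(Pc q (sigmaCore M)) := h.Pq_cyclic hG hnc hq hqp
  have hyC : y ∈ Pc q (sigmaCore M) := hNC (Subgroup.mem_zpowers y)
  have hall : ∀ k ∈ K, k ^ (q - 1) = 1 := by
    intro k hk
    by_contra hne
    have hkn : k ∈ Subgroup.normalizer (Pc q (sigmaCore M) : Set G) := h.K_le_normP hKU q hk
    have hcjC : BG7.cj k (Pc q (sigmaCore M)) = Pc q (sigmaCore M) :=
      BG7.cj_eq_of_mem_normalizer hkn
    have hcjN : BG7.cj k (Subgroup.zpowers y) = Subgroup.zpowers y := by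
      apply Helper3.subgroup_eq_of_card_eq_of_le_isCyclic (Pc q (sigmaCore M))
      · rw [← hcjC]; exact BG7.cj_mono hNC
      · exact hNC
      · exact BG7.card_cj k _
    have hky : k * y * k⁻¹ ∈ Subgroup.zpowers y := by
      rw [← hcjN]; exact BG7.conj_mem_cj (Subgroup.mem_zpowers y)
    have hcomm := pow_pred_commute_of_normalizes hq hyo hky
    have hyK : y ∈ sigmaCore M ⊓ Subgroup.centralizer ({k ^ (q - 1)} : Set G) := by
      refine Subgroup.mem_inf.mpr ⟨hyH, ?_⟩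
      rw [XP.mem_cent_iff]; exact hcomm
    rw [h.prime_action h1430 hG hKU hK1 (K.pow_mem hk _) hne] at hyK
    have hyP : y ∈ Pc p (sigmaCore M) :=
      (Subgroup.commutator_le_self _) (h.kstar_le hG hnc hKU hyK)
    have hcop : (Nat.card ↥(Pc p (sigmaCore M))).Coprime (Nat.card ↥(Pc q (sigmaCore M))) :=
      IsPGroup.coprime_card_of_ne p q hqp.symm _ _ (Pc_isPGroup p _) (Pc_isPGroup q _)
    have hdisj : Pc p (sigmaCore M) ⊓ Pc q (sigmaCore M) = ⊥ :=
      Subgroup.inf_eq_bot_of_coprime hcop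
    have : y ∈ Pc p (sigmaCore M) ⊓ Pc q (sigmaCore M) := Subgroup.mem_inf.mpr ⟨hyP, hyC⟩
    rw [hdisj, Subgroup.mem_bot] at this
    exact hy1 this
  haveI := hKU.cyclic
  obtain ⟨⟨g, hg⟩, hgen⟩ := IsCyclic.exists_generator (α := ↥K)
  have hord : orderOf g = Nat.card K := by
    have := orderOf_eq_card_of_forall_mem_zpowers hgen
    rwa [Subgroup.orderOf_mk] at this
  rw [← hord]
  exact orderOf_dvd_of_pow_eq_one (hall g hg)

/-- `K` acts faithfully on `P` -/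
theorem faithful (h : NT M L x p A) (h1430 : Row1430 G) (hG : IsMinSimpleOddOrder G)
    (hnc : ¬ ∀ a ∈ Pc p (sigmaCore M), ∀ b ∈ Pc p (sigmaCore M), a * b = b * a)
    {K : Subgroup G} (hKU : IsSigmaDecomposition M K ⊥) (hK1 : K ≠ ⊥) :
    K ⊓ Subgroup.centralizer (Pc p (sigmaCore M) : Set G) = ⊥ := by
  haveI : Fact p.Prime := ⟨h.prime⟩
  rw [eq_bot_iff]
  intro k hk
  rw [Subgroup.mem_bot]
  by_contra hk1
  obtain ⟨hkK, hkC⟩ := Subgroup.mem_inf.mp hk
  apply not_le_commutator_of_isPGroup (Pc_isPGroup p (sigmaCore M)) (h.P_ne_bot hG)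
  intro y hy
  apply h.kstar_le hG hnc hKU
  rw [← h.prime_action h1430 hG hKU hK1 hkK hk1]
  refine Subgroup.mem_inf.mpr ⟨Pc_le p _ hy, ?_⟩
  rw [XP.mem_cent_iff]
  rw [Subgroup.mem_centralizer_iff] at hkC
  exact (hkC y hy).symm

/-- `|K|` divides `p - 1` if `P` has rank at least three -/
theorem card_K_dvd_of_rank (h : NT M L x p A) (h1430 : Row1430 G) (hG : IsMinSimpleOddOrder G)
    (hnc : ¬ ∀ a ∈ Pc p (sigmaCore M), ∀ b ∈ Pc p (sigmaCore M), a * b = b * a)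
    {K : Subgroup G} (hKU : IsSigmaDecomposition M K ⊥) (hK1 : K ≠ ⊥)
    (hr : ¬ PRankLE p 2 ↥(Pc p (sigmaCore M))) : Nat.card K ∣ p - 1 := by
  haveI : Fact p.Prime := ⟨h.prime⟩
  have hp2 := h.hp2 hG
  have hAP : A ≤ Pc p (sigmaCore M) := h.A_le_P hG
  have hAL : A ≤ L := h.hAML.trans inf_le_right
  have h08 := (Cfsg.Agent.S1408.result hG L h.hL p h.td.hqL.2.1 h.td.hqL.2.2.1 h.td.hqL.2.2.2).2
    A hAL h.hAe h.hA2
  have hnar : IsNarrow p ↥(Pc p (sigmaCore M)) := by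
    refine Helper7.BGC.narrow_of_max_sq hp2 (Pc_isPGroup p _) hr
      (A.subgroupOf (Pc p (sigmaCore M))) ?_ ?_ ?_
    · exact isElementaryAbelian_comap_of_injective h.hAe _ (Subgroup.subtype_injective _)
    · rw [Nat.card_congr (Subgroup.subgroupOfEquivOfLe hAP).toEquiv, h.hA2]
    · intro B hB hAB
      have h1 : IsElementaryAbelian p (B.map (Pc p (sigmaCore M)).subtype) :=
        isElementaryAbelian_map hB _
      have h2 : A ≤ B.map (Pc p (sigmaCore M)).subtype := by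
        intro a ha
        exact ⟨⟨a, hAP ha⟩, hAB (Subgroup.mem_subgroupOf.mpr ha), rfl⟩
      have h3 := h08 _ h1 h2
      ext b
      rw [Subgroup.mem_subgroupOf, ← h3]
      constructor
      · intro hb; exact ⟨b, hb, rfl⟩
      · rintro ⟨b', hb', e⟩
        have : b' = b := Subtype.ext e
        rwa [← this]
  haveI := hKU.cyclic
  haveI : Group.IsSolvable ↥K :=
    isSolvable_of_comm (fun a b => (inferInstance : IsMulCommutative ↥K).is_comm.comm a b)
  have h54 := (Cfsg.Agent.S1454.result p hp2 (Pc p (sigmaCore M)) K (Pc_isPGroup p _) hnar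
    (h.K_le_normP hKU p) inferInstance (BG8.odd_card_subgroup hG K)
    (h.faithful h1430 hG hnc hKU hK1)).2.1 hr
  obtain ⟨⟨g, hg⟩, hgen⟩ := IsCyclic.exists_generator (α := ↥K)
  have hord : orderOf g = Nat.card K := by
    have := orderOf_eq_card_of_forall_mem_zpowers hgen
    rwa [Subgroup.orderOf_mk] at this
  rw [← hord]
  apply h54 g hg
  rw [hord]
  exact h.K_coprime_p hKU

end NT

end Cfsg.Agent.Lib.Helper1.BGG
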