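import Mathlib
import Cfsg.Agent.Lib.Helper1.BGG21
import Cfsg.Agent.Lib.Helper3.BG17f
import Cfsg.Agent.Lib.Lead.FittingHall
import Cfsg.Agent.Lib.Lead.ComplIn
import Cfsg.Agent.Lib.Helper2.BGH8

set_option autoImplicit false
set_option maxHeartbeats 4000000
set_option linter.unusedVariables false
set_option linter.unusedSectionVars false
set_option linter.style.longLine false
set_option linter.unusedSimpArgs false
set_option linter.deprecated false
set_option linter.style.haveILetI false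

/-!
# B&G Theorem 15.7, part 6: `P` of rank two, and the trichotomy `Tri1440`
-/

open scoped commutatorElement Pointwise
universe u
namespace Cfsg.Agent.Lib.Helper1.BGG

open Cfsg Cfsg.Agent.Lib.Helper1 Cfsg.Agent.Lib.Helper7.BGRows

variable {G : Type u} [Group G] [Finite G]

namespace NT

variable {M L A : Subgroup G} {x : G} {p : ℕ}

/-- the structure of `P` when it is nonabelian of rank two and `K ≠ 1`: extraspecial of order
`p ^ 3` and exponent `p`, with `Z(P) = K*` -/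
theorem rank2_struct (h : NT M L x p A) (h1430 : Row1430 G) (hG : IsMinSimpleOddOrder G)
    (P : Subgroup G) (hP : P = Pc p (sigmaCore M))
    (hnc : ¬ ∀ a ∈ P, ∀ b ∈ P, a * b = b * a)
    {K : Subgroup G} (hKU : IsSigmaDecomposition M K ⊥) (hK1 : K ≠ ⊥)
    (hr : PRankLE p 2 ↥P) :
    Nat.card ↥P = p ^ 3 ∧ (∀ y ∈ P, y ^ p = 1) ∧
      Nat.card ↥(P ⊓ Subgroup.centralizer (P : Set G)) = p ∧
      (∀ a ∈ P, ∀ b ∈ P, a * b * a⁻¹ * b⁻¹ ∈ P ⊓ Subgroup.centralizer (P : Set G)) ∧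
      sigmaCore M ⊓ Subgroup.centralizer (K : Set G) = P ⊓ Subgroup.centralizer (P : Set G) := by
  haveI : Fact p.Prime := ⟨h.prime⟩
  have hPp : IsPGroup p P := hP ▸ Pc_isPGroup p (sigmaCore M)
  have hPH : P ≤ sigmaCore M := hP ▸ Pc_le p (sigmaCore M)
  have hKnP : K ≤ Subgroup.normalizer (P : Set G) := hP ▸ h.K_le_normP hKU p
  have hnc' : ¬ ∀ a ∈ Pc p (sigmaCore M), ∀ b ∈ Pc p (sigmaCore M), a * b = b * a := hP ▸ hnc
  have hKsP : sigmaCore M ⊓ Subgroup.centralizer (K : Set G) ≤ ⁅P, P⁆ := by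
    rw [hP]; exact h.kstar_le hG hnc' hKU
  obtain ⟨R, hR⟩ := (h.isMaxP_top hG).exists_sylow_top
  have hRP : (R : Subgroup G) = P := hR.trans hP.symm
  have hr' : PRankLE p 2 ↥(R : Subgroup G) := by rw [hRP]; exact hr
  have h12 := Cfsg.Agent.S1412.result hG p R hr'
  rw [hRP] at h12
  rcases h12 with hc | ⟨P₁, P₂, hsup, hcm, hP₁nc, hP₁card, hP₁exp, hP₂cyc, hcl⟩
  · exfalso
    apply hnc
    intro a ha b hb
    exact congrArg Subtype.val (hc.is_comm.comm ⟨a, ha⟩ ⟨b, hb⟩)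
  have hP₁P : P₁ ≤ P := hsup ▸ le_sup_left
  have hP₂P : P₂ ≤ P := hsup ▸ le_sup_right
  obtain ⟨Z₁, hZ₁⟩ : ∃ Z₁ : Subgroup G, Z₁ = P₁ ⊓ Subgroup.centralizer (P₁ : Set G) := ⟨_, rfl⟩
  have hZ₁map : (Subgroup.center ↥P₁).map P₁.subtype = Z₁ := by
    rw [hZ₁]
    ext y
    constructor
    · rintro ⟨⟨y', hy'⟩, hc, rfl⟩
      refine Subgroup.mem_inf.mpr ⟨hy', ?_⟩
      rw [Subgroup.mem_centralizer_iff]
      intro b hb
      have hc' : (⟨y', hy'⟩ : ↥P₁) ∈ Subgroup.center ↥P₁ := hc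
      rw [Subgroup.mem_center_iff] at hc'
      exact congrArg Subtype.val (hc' ⟨b, hb⟩)
    · intro hy
      obtain ⟨hy1, hy2⟩ := Subgroup.mem_inf.mp hy
      refine ⟨⟨y, hy1⟩, ?_, rfl⟩
      show (⟨y, hy1⟩ : ↥P₁) ∈ Subgroup.center ↥P₁
      rw [Subgroup.mem_center_iff]
      intro b
      rw [Subgroup.mem_centralizer_iff] at hy2
      exact Subtype.ext (hy2 b b.2)
  have facts := card_cube_facts (X := ↥P₁) hP₁card
  have hZ₁card : Nat.card ↥Z₁ = p := by
    rw [← hZ₁map, Subgroup.card_map_of_injective P₁.subtype_injective]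
    exact facts.2 hP₁nc
  have hder₁ : ⁅P₁, P₁⁆ ≤ Z₁ := by
    rw [← Subgroup.map_subtype_commutator, ← hZ₁map]
    exact Subgroup.map_mono facts.1
  have hP₂comm := comm_of_cyclic hP₂cyc
  have hder : ⁅P, P⁆ ≤ Z₁ := (commutator_le_of_sup hsup hcm hP₂comm).trans hder₁
  have hKsle : sigmaCore M ⊓ Subgroup.centralizer (K : Set G) ≤ Z₁ := hKsP.trans hder
  have hKs1 : sigmaCore M ⊓ Subgroup.centralizer (K : Set G) ≠ ⊥ :=
    (Helper7.BGK.s1354_of h1430 hG M h.hM K hKU.cyclic hKU.hall).1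
  have hKsZ : sigmaCore M ⊓ Subgroup.centralizer (K : Set G) = Z₁ := by
    apply Subgroup.eq_of_le_of_card_ge hKsle
    rw [hZ₁card]
    have hd : Nat.card ↥(sigmaCore M ⊓ Subgroup.centralizer (K : Set G)) ∣ p := by
      rw [← hZ₁card]; exact Subgroup.card_dvd_of_le hKsle
    rcases (Nat.dvd_prime h.prime).mp hd with h1 | h1
    · exact absurd (Subgroup.card_eq_one.mp h1) hKs1
    · exact le_of_eq h1.symm
  have hZ₁P₂ : Z₁ ≤ P₂ := by
    rw [hZ₁, ← hcl, Subgroup.closure_le]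
    intro y hy
    exact hy.1
  -- the centre of `P`
  obtain ⟨ZP, hZP⟩ : ∃ ZP : Subgroup G, ZP = P ⊓ Subgroup.centralizer (P : Set G) := ⟨_, rfl⟩
  have hZPP : ZP ≤ P := hZP ▸ inf_le_left
  have hP₂ZP : P₂ ≤ ZP := by
    intro b hb
    rw [hZP]
    refine Subgroup.mem_inf.mpr ⟨hP₂P hb, ?_⟩
    rw [Subgroup.mem_centralizer_iff]
    intro y hy
    rw [← hsup] at hy
    obtain ⟨a₁, ha₁, b₁, hb₁, rfl⟩ := NW.mem_sup_of_commute' hcm hy
    calc a₁ * b₁ * b = a₁ * (b₁ * b) := by group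
      _ = a₁ * (b * b₁) := by rw [hP₂comm b₁ hb₁ b hb]
      _ = (a₁ * b) * b₁ := by group
      _ = (b * a₁) * b₁ := by rw [hcm a₁ ha₁ b hb]
      _ = b * (a₁ * b₁) := by group
  haveI hZPcomm : IsMulCommutative ↥ZP := by
    refine ⟨⟨fun a b => Subtype.ext ?_⟩⟩
    have ha : (a : G) ∈ P ⊓ Subgroup.centralizer (P : Set G) := (le_of_eq hZP) a.2
    have hb : (b : G) ∈ P ⊓ Subgroup.centralizer (P : Set G) := (le_of_eq hZP) b.2
    exact ((Subgroup.mem_centralizer_iff.mp (Subgroup.mem_inf.mp ha).2) b (Subgroup.mem_inf.mp hb).1).symm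
  have hKnZP : K ≤ Subgroup.normalizer (ZP : Set G) := by
    intro k hk
    apply BG7.mem_normalizer_of_cj_eq
    rw [hZP, BG7.cj_inf, Helper2.BGH.cj_centralizer, BG7.cj_eq_of_mem_normalizer (hKnP hk)]
  have hcopZP : (Nat.card K).Coprime (Nat.card ZP) := by
    obtain ⟨n, hn⟩ := IsPGroup.iff_card.mp (hPp.to_le hZPP)
    rw [hn]
    exact Nat.Coprime.pow_right n (h.K_coprime_p hKU)
  have hΩ : ∀ v ∈ ZP, (orderOf v).Prime → ∀ a ∈ K, a * v = v * a := by
    intro v hv hvo a ha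
    have hvP : v ∈ P := hZPP hv
    have hvC : v ∈ Subgroup.centralizer (P : Set G) := by
      rw [hZP] at hv; exact (Subgroup.mem_inf.mp hv).2
    have hvp : v ^ p = 1 := by
      obtain ⟨n, hn⟩ := IsPGroup.iff_card.mp hPp
      have h1 : orderOf v ∣ p ^ n := by
        rw [← hn]; exact Subgroup.orderOf_dvd_natCard P hvP
      have h2 : orderOf v = p := (Nat.prime_dvd_prime_iff_eq hvo h.prime).mp (hvo.dvd_of_dvd_pow h1)
      rw [← h2]; exact pow_orderOf_eq_one v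
    have hvsup := hvP
    rw [← hsup] at hvsup
    obtain ⟨a₁, ha₁, b₁, hb₁, e⟩ := NW.mem_sup_of_commute' hcm hvsup
    have ha₁Z : a₁ ∈ Z₁ := by
      rw [hZ₁]
      refine Subgroup.mem_inf.mpr ⟨ha₁, ?_⟩
      rw [Subgroup.mem_centralizer_iff]
      intro c hc
      have e1 : a₁ = v * b₁⁻¹ := by rw [e]; group
      have c1 : c * v = v * c := (Subgroup.mem_centralizer_iff.mp hvC) c (hP₁P hc)
      have c2 : c * b₁⁻¹ = b₁⁻¹ * c := hcm c hc b₁⁻¹ (P₂.inv_mem hb₁)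
      rw [e1]
      calc c * (v * b₁⁻¹) = (c * v) * b₁⁻¹ := by group
        _ = (v * c) * b₁⁻¹ := by rw [c1]
        _ = v * (c * b₁⁻¹) := by group
        _ = v * (b₁⁻¹ * c) := by rw [c2]
        _ = v * b₁⁻¹ * c := by group
    have hvP₂ : v ∈ P₂ := by
      rw [e]; exact P₂.mul_mem (hZ₁P₂ ha₁Z) hb₁
    have hvZ₁ : v ∈ Z₁ := by
      rw [hZ₁, ← hcl]
      exact Subgroup.subset_closure ⟨hvP₂, hvp⟩
    rw [← hKsZ] at hvZ₁
    exact (Subgroup.mem_centralizer_iff.mp (Subgroup.mem_inf.mp hvZ₁).2) a ha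
  have hKC := coprime_abelian_trivial_of_fix_prime_order K ZP hKnZP hcopZP hΩ
  have hZPKs : ZP ≤ sigmaCore M ⊓ Subgroup.centralizer (K : Set G) := by
    intro z hz
    refine Subgroup.mem_inf.mpr ⟨hPH (hZPP hz), ?_⟩
    rw [Subgroup.mem_centralizer_iff]
    intro k hk
    exact ((Subgroup.mem_centralizer_iff.mp (hKC hk)) z hz).symm
  have hP₂P₁ : P₂ ≤ P₁ := by
    refine hP₂ZP.trans (hZPKs.trans ?_)
    rw [hKsZ, hZ₁]; exact inf_le_left
  have hPP₁ : P₁ = P := by rw [← hsup]; exact (sup_eq_left.mpr hP₂P₁).symm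
  subst hPP₁
  have hZZ : ZP = Z₁ := by rw [hZP, hZ₁]
  rw [← hZP]
  refine ⟨hP₁card, ?_, ?_, ?_, ?_⟩
  · intro y hy
    have h1 := Monoid.pow_exponent_eq_one (⟨y, hy⟩ : ↥P₁)
    rw [hP₁exp] at h1
    have h2 := congrArg Subtype.val h1
    simpa using h2
  · rw [hZZ]; exact hZ₁card
  · intro a ha b hb
    rw [hZZ]
    apply hder
    have : a * b * a⁻¹ * b⁻¹ = ⁅a, b⁆ := (commutatorElement_def a b).symm
    rw [this]
    exact Subgroup.commutator_mem_commutator ha hb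
  · rw [hZZ]; exact hKsZ

/-- the configuration `XP` -/
theorem xp (h : NT M L x p A) (h1430 : Row1430 G) (hG : IsMinSimpleOddOrder G)
    (hnc : ¬ ∀ a ∈ Pc p (sigmaCore M), ∀ b ∈ Pc p (sigmaCore M), a * b = b * a)
    {K : Subgroup G} (hKU : IsSigmaDecomposition M K ⊥) (hK1 : K ≠ ⊥)
    (hr : PRankLE p 2 ↥(Pc p (sigmaCore M))) :
    XP (Pc p (sigmaCore M))
      (Pc p (sigmaCore M) ⊓ Subgroup.centralizer (Pc p (sigmaCore M) : Set G)) K p := by
  obtain ⟨hcard, hexp, hZcard, hder, hKs⟩ :=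
    h.rank2_struct h1430 hG (Pc p (sigmaCore M)) rfl hnc hKU hK1 hr
  refine
    { hp := h.prime
      hp2 := h.hp2 hG
      hZP := inf_le_left
      hcardP := hcard
      hcardZ := hZcard
      hexp := hexp
      hZc := ?_
      hcen := ?_
      hder := hder
      hKn := h.K_le_normP hKU p
      hKZ := ?_
      hfix := ?_
      hKcop := h.K_coprime_p hKU
      hKodd := BG8.odd_card_subgroup hG K
      hKcomm := comm_of_cyclic hKU.cyclic }
  · intro z hz y hy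
    exact ((Subgroup.mem_centralizer_iff.mp (Subgroup.mem_inf.mp hz).2) y hy).symm
  · intro y hy hc
    refine Subgroup.mem_inf.mpr ⟨hy, ?_⟩
    rw [Subgroup.mem_centralizer_iff]
    intro b hb
    exact (hc b hb).symm
  · intro k hk z hz
    rw [← hKs] at hz
    exact (Subgroup.mem_centralizer_iff.mp (Subgroup.mem_inf.mp hz).2) k hk
  · intro k hk hk1 y hy
    rw [← hKs, ← h.prime_action h1430 hG hKU hK1 hk hk1]
    exact Subgroup.mem_inf.mpr ⟨Pc_le p _ (Subgroup.mem_inf.mp hy).1, (Subgroup.mem_inf.mp hy).2⟩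

/-- the dichotomy for `|K|` -/
theorem card_K_cases (h : NT M L x p A) (h1430 : Row1430 G) (hG : IsMinSimpleOddOrder G)
    (hnc : ¬ ∀ a ∈ Pc p (sigmaCore M), ∀ b ∈ Pc p (sigmaCore M), a * b = b * a)
    {K : Subgroup G} (hKU : IsSigmaDecomposition M K ⊥) (hK1 : K ≠ ⊥) :
    Nat.card K ∣ p - 1 ∨ (Nat.card ↥(Pc p (sigmaCore M)) = p ^ 3 ∧ Nat.card K ∣ p + 1) := by
  by_cases hr : PRankLE p 2 ↥(Pc p (sigmaCore M))
  · have hxp := h.xp h1430 hG hnc hKU hK1 hr
    rcases hxp.card_dvd hKU.cyclic with h1 | h1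
    · exact Or.inl h1
    · exact Or.inr ⟨hxp.hcardP, h1⟩
  · exact Or.inl (h.card_K_dvd_of_rank h1430 hG hnc hKU hK1 hr)

end NT

/-! ### transfer to `M_F` -/

omit [Finite G] in
theorem isCyclic_pPrimeCore_of_Qc {p : ℕ} {N : Subgroup G} (hc : IsCyclic ↥(Qc p N)) :
    IsCyclic ↥(pPrimeCore p ↥N) := by
  haveI hc' : IsCyclic ↥((pPrimeCore p ↥N).map N.subtype) := hc
  let e := (pPrimeCore p ↥N).equivMapOfInjective N.subtype N.subtype_injective
  exact isCyclic_of_surjective e.symm e.symm.surjective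

omit [Finite G] in
theorem card_pCore_eq_Pc (p : ℕ) (N : Subgroup G) :
    Nat.card ↥(pCore p ↥N) = Nat.card ↥(Pc p N) := by
  unfold Pc
  rw [Subgroup.card_map_of_injective N.subtype_injective]

/-- B&G Theorem 15.7 (e2), (e3) when `K ≠ 1` -/
theorem NT.tri {M L A : Subgroup G} {x : G} {p : ℕ} (h : NT M L x p A) (h1360 : Row1360 G)
    (h1365 : Row1365 G) (h1430 : Row1430 G) (h1439 : Row1439 G) (hG : IsMinSimpleOddOrder G)
    {K U : Subgroup G} (hKU : IsSigmaDecomposition M K U) (hK1 : K ≠ ⊥) :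
    (∃ p : ℕ, p.Prime ∧ p ∣ Nat.card (fittingHallOf M) ∧
       IsCyclic (pPrimeCore p ↥(fittingHallOf M)) ∧
       ∀ q : ℕ, q.Prime → q ∣ Nat.card (fittingHallOf M) →
         Monoid.exponent (↥M ⧸ fittingHall ↥M) ∣ q - 1) ∨
    (∃ p : ℕ, p.Prime ∧ p ∣ Nat.card (fittingHallOf M) ∧
       IsCyclic (pPrimeCore p ↥(fittingHallOf M)) ∧
       Nat.card (pCore p ↥(fittingHallOf M)) = p ^ 3 ∧ (fittingHallOf M).relIndex M ∣ p + 1) := by
  haveI : Fact p.Prime := ⟨h.prime⟩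
  have hM := h.hM
  have hFσ : sigmaCore M = fittingHallOf M := Helper7.BGK.sigmaCore_eq_fittingHallOf hG hM h.hnil
  have hnc : ¬ ∀ a ∈ Pc p (sigmaCore M), ∀ b ∈ Pc p (sigmaCore M), a * b = b * a :=
    fun hc => hK1 (h.K_bot_of_comm h1360 h1365 h1430 h1439 hG hKU hc)
  have hU : U = ⊥ := (h.K_or_U_bot h1360 h1365 h1439 hG hKU).resolve_left hK1
  subst hU
  have hE := NT.compl_of_U_bot hKU
  have hidx : (fittingHallOf M).relIndex M = Nat.card K := by
    rw [← hFσ]; exact Lead.ComplIn.relIndex_right hE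
  have hexp : Monoid.exponent (↥M ⧸ fittingHall ↥M) ∣ Nat.card K := by
    rw [← hidx, Lead.FittingHall.relIndex_fittingHallOf, Subgroup.index_eq_card]
    exact Group.exponent_dvd_nat_card
  have hpH : p ∣ Nat.card (fittingHallOf M) := by
    rw [← hFσ]
    have := Subgroup.orderOf_dvd_natCard (sigmaCore M) h.hx
    rwa [h.hxo] at this
  have hcyc : IsCyclic (pPrimeCore p ↥(fittingHallOf M)) := by
    rw [← hFσ]; exact isCyclic_pPrimeCore_of_Qc (h.Qc_cyclic hG hnc)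
  rcases h.card_K_cases h1430 hG hnc hKU hK1 with h1 | ⟨h1, h2⟩
  · left
    refine ⟨p, h.prime, hpH, hcyc, ?_⟩
    intro q hq hqd
    refine hexp.trans ?_
    by_cases hqp : q = p
    · rw [hqp]; exact h1
    · rw [← hFσ] at hqd
      exact h.card_K_dvd_of_ne h1430 hG hnc hKU hK1 hq hqp hqd
  · right
    refine ⟨p, h.prime, hpH, hcyc, ?_, ?_⟩
    · rw [← hFσ, card_pCore_eq_Pc]; exact h1
    · rw [hidx]; exact h2

/-- **`Tri1440`** (helper3's consumer form of B&G Theorem 15.7(e)) -/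
theorem tri1440_of (h1357 : Row1357 G) (h1360 : Row1360 G) (h1365 : Row1365 G)
    (h1430 : Row1430 G) (h1431 : Row1431 G) (h1439 : Row1439 G) : Helper3.BG17.Tri1440 G := by
  intro hG M hM K U hKU g hg hX
  by_cases hK1 : K = ⊥
  · exact Or.inl hK1
  right
  by_cases hnil : Group.IsNilpotent ↥(sigmaCore M)
  · obtain ⟨p, x, L, A, hNT, -⟩ := nt_of_nonti h1430 h1431 h1439 hG hM hnil hg hX
    exact hNT.tri h1360 h1365 h1430 h1439 hG hKU hK1
  · exfalso
    have hne : fittingHallOf M ≠ sigmaCore M := by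
      intro he
      apply hnil
      rw [← he]
      exact Lead.FittingHall.fittingHallOf_isNilpotent M
    obtain ⟨-, hTI, -⟩ := h1357 hG M hM K U hKU hne
    obtain ⟨⟨y, hyX⟩, hy1'⟩ := (Subgroup.ne_bot_iff_exists_ne_one).mp hX
    have hy1 : y ≠ 1 := fun e => hy1' (Subtype.ext e)
    obtain ⟨hyF, hyg⟩ := Subgroup.mem_inf.mp hyX
    have hFbot : fittingOf M ≠ ⊥ := by
      intro hb
      rw [hb, Subgroup.mem_bot] at hyF
      exact hy1 hyF
    have hN : Subgroup.normalizer ((fittingOf M : Subgroup G) : Set G) = M :=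
      BG8.normalizer_eq_of_coatom hG hM (BG8.fittingOf_le M) hFbot (BG8.le_normalizer_fittingOf M)
    have hgN : g⁻¹ ∉ Subgroup.normalizer ((fittingOf M : Subgroup G) : Set G) := by
      rw [hN]
      intro hgM
      exact hg (by simpa using M.inv_mem hgM)
    have hyg' : g⁻¹ * y * g ∈ fittingOf M := BG7.mem_cj.mp hyg
    have h1 := hTI g⁻¹ hgN y hyF (by rw [inv_inv]; exact hyg')
    exact hy1 h1

end Cfsg.Agent.Lib.Helper1.BGG
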