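import Mathlib
import Cfsg.Agent.Lib.Helper1.Index

set_option autoImplicit false

namespace Cfsg.Agent.Lib.Helper1.BHM

open Subgroup Pointwise

variable {G : Type*} [Group G]

/-- all prime divisors of `n` lie in `T` -/
def TNum (T : Set ℕ) (n : ℕ) : Prop := ∀ r : ℕ, r.Prime → r ∣ n → r ∈ T

theorem TNum.of_dvd {T : Set ℕ} {a b : ℕ} (h : TNum T b) (hab : a ∣ b) : TNum T a :=
  fun r hr hra => h r hr (hra.trans hab)

theorem tnum_one (T : Set ℕ) : TNum T 1 :=
  fun _ hr h => absurd (Nat.dvd_one.mp h) hr.ne_one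

theorem TNum.mul {T : Set ℕ} {a b : ℕ} (ha : TNum T a) (hb : TNum T b) : TNum T (a * b) :=
  fun r hr h => (hr.dvd_mul.mp h).elim (ha r hr) (hb r hr)

theorem TNum.coprime {T : Set ℕ} {a b : ℕ} (ha : TNum T a) (hb : TNum Tᶜ b) : Nat.Coprime a b :=
  Nat.coprime_of_dvd (fun k hk h1 h2 => hb k hk h2 (ha k hk h1))

theorem TNum.eq_one {T : Set ℕ} {a : ℕ} (h1 : TNum T a) (h2 : TNum Tᶜ a) : a = 1 := by
  by_contra h
  obtain ⟨r, hr, hd⟩ := Nat.exists_prime_and_dvd h
  exact h2 r hr hd (h1 r hr hd)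

/-- class size -/
noncomputable def idx (g : G) : ℕ := (centralizer ({g} : Set G)).index

theorem idx_eq_one_iff {g : G} : idx g = 1 ↔ g ∈ center G := by
  unfold idx
  rw [index_eq_one, centralizer_eq_top_iff_subset, Set.singleton_subset_iff]
  rfl

theorem idx_dvd_of_le {g h : G} (hle : centralizer ({g} : Set G) ≤ centralizer ({h} : Set G)) :
    idx h ∣ idx g := index_dvd_of_le hle

/-- the conjugacy class as a set -/
def cls (d : G) : Set G := Set.range (fun h : G => h * d * h⁻¹)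

theorem ncard_cls [Finite G] (d : G) : (cls d).ncard = idx d := by
  classical
  obtain ⟨C, hC⟩ : ∃ C : Subgroup G, C = centralizer ({d} : Set G) := ⟨_, rfl⟩
  have hwd : ∀ a b : G, a⁻¹ * b ∈ C → a * d * a⁻¹ = b * d * b⁻¹ := by
    intro a b hab
    rw [hC, mem_centralizer_singleton_iff] at hab
    calc a * d * a⁻¹ = a * (d * (a⁻¹ * b)) * b⁻¹ := by group
      _ = a * ((a⁻¹ * b) * d) * b⁻¹ := by rw [hab]
      _ = b * d * b⁻¹ := by group
  let f : G ⧸ C → G := fun q => Quotient.liftOn' q (fun h => h * d * h⁻¹) (by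
    intro a b hab
    rw [QuotientGroup.leftRel_apply] at hab
    exact hwd a b hab)
  have hinj : Function.Injective f := by
    intro q1 q2
    refine Quotient.inductionOn₂' q1 q2 ?_
    intro a b hab
    have hab' : a * d * a⁻¹ = b * d * b⁻¹ := hab
    rw [Quotient.eq'', QuotientGroup.leftRel_apply, hC, mem_centralizer_singleton_iff]
    calc a⁻¹ * b * d = a⁻¹ * (b * d * b⁻¹) * b := by group
      _ = a⁻¹ * (a * d * a⁻¹) * b := by rw [hab']
      _ = d * (a⁻¹ * b) := by group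
  have hrange : Set.range f = cls d := by
    ext x
    constructor
    · rintro ⟨q, rfl⟩
      refine Quotient.inductionOn' q ?_
      intro a
      exact ⟨a, rfl⟩
    · rintro ⟨a, rfl⟩
      exact ⟨QuotientGroup.mk a, rfl⟩
  rw [← hrange, ← Nat.card_coe_set_eq, Nat.card_range_of_injective hinj]
  unfold idx
  rw [← hC, index_eq_card]

theorem conj_mul_conj_mem_cls [Finite G] {c d : G} (hcop : (idx c).Coprime (idx d)) (g h : G) :
    (g * c * g⁻¹) * (h * d * h⁻¹) ∈ cls (c * d) := by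
  obtain ⟨v, hv, u, hu, hvu⟩ := mul_eq_of_coprime_index (centralizer ({d} : Set G))
    (centralizer ({c} : Set G)) hcop.symm (h⁻¹ * g)
  rw [mem_centralizer_singleton_iff] at hv hu
  refine ⟨h * v, ?_⟩
  have hg : g = h * v * u := by rw [mul_assoc, ← hvu]; group
  have h1 : u * c * u⁻¹ = c := by rw [hu]; group
  have h2 : v * d * v⁻¹ = d := by rw [hv]; group
  show h * v * (c * d) * (h * v)⁻¹ = _
  rw [hg]
  calc h * v * (c * d) * (h * v)⁻¹ = h * (v * c * v⁻¹) * (v * d * v⁻¹) * h⁻¹ := by group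
    _ = h * (v * (u * c * u⁻¹) * v⁻¹) * d * h⁻¹ := by rw [h1, h2]
    _ = _ := by group

theorem smul_cls_eq [Finite G] {c d : G} (hcop : (idx c).Coprime (idx d))
    (hmax : ∀ g : G, idx g ≤ idx d) (g : G) :
    (g * c * g⁻¹) • cls d = cls (c * d) := by
  apply Set.eq_of_subset_of_ncard_le
  · rintro _ ⟨y, ⟨h, rfl⟩, rfl⟩
    exact conj_mul_conj_mem_cls hcop g h
  · rw [Set.ncard_smul_set, ncard_cls, ncard_cls]; exact hmax _
  · exact Set.toFinite _

theorem comm_mem_stab [Finite G] {c d : G} (hcop : (idx c).Coprime (idx d))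
    (hmax : ∀ g : G, idx g ≤ idx d) (g : G) :
    c⁻¹ * (g * c * g⁻¹) ∈ MulAction.stabilizer G (cls d) := by
  rw [MulAction.mem_stabilizer_iff, mul_smul, smul_cls_eq hcop hmax g]
  have := smul_cls_eq hcop hmax (1 : G)
  simp only [one_mul, inv_one, mul_one] at this
  rw [← this, inv_smul_smul]

theorem stab_normal [Finite G] (d : G) : (MulAction.stabilizer G (cls d)).Normal := by
  constructor
  intro n hn g
  rw [MulAction.mem_stabilizer_set_iff_smul_set_subset (Set.toFinite _)]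
  rintro _ ⟨y, ⟨h, rfl⟩, rfl⟩
  have h1 : n • ((g⁻¹ * h) * d * (g⁻¹ * h)⁻¹) ∈ cls d := by
    have h3 : (g⁻¹ * h) * d * (g⁻¹ * h)⁻¹ ∈ cls d := ⟨_, rfl⟩
    have h2 := Set.smul_mem_smul_set (a := n) h3
    rwa [MulAction.mem_stabilizer_iff.mp hn] at h2
  obtain ⟨k, hk⟩ := h1
  refine ⟨g * k, ?_⟩
  simp only [smul_eq_mul] at hk ⊢
  calc g * k * d * (g * k)⁻¹ = g * (k * d * k⁻¹) * g⁻¹ := by group
    _ = g * (n * (g⁻¹ * h * d * (g⁻¹ * h)⁻¹)) * g⁻¹ := by rw [hk]
    _ = _ := by group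

theorem card_stab_dvd [Finite G] (d : G) :
    Nat.card (MulAction.stabilizer G (cls d)) ∣ idx d := by
  obtain ⟨N, hN⟩ : ∃ N : Subgroup G, N = MulAction.stabilizer G (cls d) := ⟨_, rfl⟩
  have hnorm : N.Normal := hN ▸ stab_normal d
  rw [← hN, ← ncard_cls, ← Nat.card_coe_set_eq]
  have hpre : cls d = (QuotientGroup.mk : G → G ⧸ N) ⁻¹' ((QuotientGroup.mk : G → G ⧸ N) '' cls d) := by
    ext x
    constructor
    · intro hx
      exact ⟨x, hx, rfl⟩
    · rintro ⟨y, hy, hxy⟩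
      have h1 : y⁻¹ * x ∈ N := QuotientGroup.eq.mp hxy
      have h2 : y * (y⁻¹ * x) * y⁻¹ ∈ N := hnorm.conj_mem _ h1 y
      rw [hN] at h2
      have h3 := Set.smul_mem_smul_set (a := y * (y⁻¹ * x) * y⁻¹) hy
      rw [MulAction.mem_stabilizer_iff.mp h2] at h3
      have h4 : (y * (y⁻¹ * x) * y⁻¹) • y = x := by
        simp only [smul_eq_mul]; group
      rwa [h4] at h3
  rw [hpre, QuotientGroup.card_preimage_mk]
  exact dvd_mul_right _ _

end Cfsg.Agent.Lib.Helper1.BHM
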