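import Mathlib
import Cfsg.Agent.Lib.Helper1.BHM1
import Cfsg.Agent.Lib.Helper8.K5a
import Cfsg.Agent.Lib.Helper2.SylowNormal
import Cfsg.Agent.Lib.Helper3.ConjCover

set_option autoImplicit false

namespace Cfsg.Agent.Lib.Helper1.BHM

open Subgroup Pointwise

variable {G : Type*} [Group G]

theorem idx_mk_dvd [Finite G] (N : Subgroup G) [N.Normal] (g : G) :
    idx (QuotientGroup.mk' N g) ∣ idx g := by
  unfold idx
  have h1 : (centralizer ({g} : Set G)).map (QuotientGroup.mk' N) ≤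
      centralizer ({QuotientGroup.mk' N g} : Set (G ⧸ N)) := by
    rintro _ ⟨x, hx, rfl⟩
    have hx' : x ∈ centralizer ({g} : Set G) := hx
    rw [mem_centralizer_singleton_iff] at hx' ⊢
    rw [← map_mul, ← map_mul, hx']
  exact (index_dvd_of_le h1).trans (index_map_dvd _ (QuotientGroup.mk'_surjective N))

/-- If `p` divides no class size, the Sylow `p`-subgroups are central. -/
theorem not_dvd_center_index {Q : Type*} [Group Q] [Finite Q] {p : ℕ} [Fact p.Prime]
    (h : ∀ g : Q, ¬ p ∣ idx g) : ¬ p ∣ (center Q).index := by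
  obtain ⟨P⟩ : Nonempty (Sylow p Q) := inferInstance
  have hT : centralizer ((P : Subgroup Q) : Set Q) = ⊤ := by
    apply Cfsg.Agent.Lib.Helper3.eq_top_of_conj_cover
    intro y
    obtain ⟨c, hc⟩ := Cfsg.Agent.Lib.Helper2.exists_conj_le_of_not_dvd_index P.2 (h y)
    refine ⟨c⁻¹, ?_⟩
    rw [inv_inv, mem_centralizer_iff]
    intro x hx
    have h1 := hc x hx
    rw [mem_centralizer_singleton_iff] at h1
    calc x * (c * y * c⁻¹) = c * ((c⁻¹ * x * c) * y) * c⁻¹ := by group
      _ = c * (y * (c⁻¹ * x * c)) * c⁻¹ := by rw [h1]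
      _ = _ := by group
  have hle : (P : Subgroup Q) ≤ center Q := by
    intro x hx
    rw [mem_center_iff]
    intro g
    have hg : g ∈ centralizer ((P : Subgroup Q) : Set Q) := by rw [hT]; exact mem_top g
    exact (mem_centralizer_iff.mp hg x hx).symm
  intro hdvd
  exact P.not_dvd_index (hdvd.trans (index_dvd_of_le hle))

open Cfsg.Agent.Lib.Helper8.KPi in
theorem exists_hall [Finite G] (T : Set ℕ) (N : Subgroup G) [N.Normal]
    (hN : TNum Tᶜ (Nat.card N))
    (hcent : ∀ p : ℕ, p.Prime → p ∈ T → ¬ p ∣ (center (G ⧸ N)).index) :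
    ∃ B : Subgroup G, B.Normal ∧ TNum Tᶜ (Nat.card B) ∧ TNum T B.index ∧
      ∀ g h : G, g * h * g⁻¹ * h⁻¹ ∈ B := by
  obtain ⟨k, hk⟩ : ∃ k : ℕ, k = (center (G ⧸ N)).index := ⟨_, rfl⟩
  have hkT : TNum Tᶜ k := by
    intro r hr hrk hrT
    rw [hk] at hrk
    exact hcent r hr hrT hrk
  obtain ⟨a, b, hab, ha, hb⟩ := exists_pi_factor T (Nat.card (center (G ⧸ N))) Nat.card_pos
  let φ : (G ⧸ N) →* center (G ⧸ N) := MonoidHom.transferCenterPow (G ⧸ N)
  have hcomm : ∀ u v : center (G ⧸ N), Commute u v := by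
    intro u v
    apply Subtype.ext
    rw [Subgroup.coe_mul, Subgroup.coe_mul]
    exact (mem_center_iff.mp u.2 (v : G ⧸ N)).symm
  let f : G →* center (G ⧸ N) :=
    { toFun := fun g => (φ (QuotientGroup.mk' N g)) ^ b
      map_one' := by rw [map_one, map_one, one_pow]
      map_mul' := by
        intro x y
        rw [map_mul, map_mul]
        exact (hcomm _ _).mul_pow b }
  have hf : ∀ g : G, ((f g : center (G ⧸ N)) : G ⧸ N) = (QuotientGroup.mk' N g) ^ (k * b) := by
    intro g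
    show (((φ (QuotientGroup.mk' N g)) ^ b : center (G ⧸ N)) : G ⧸ N) = _
    rw [Subgroup.coe_pow, MonoidHom.transferCenterPow_apply, ← pow_mul, hk]
  refine ⟨f.ker, MonoidHom.normal_ker f, ?_, ?_, ?_⟩
  · intro r hr hrB hrT
    have : Fact r.Prime := ⟨hr⟩
    obtain ⟨g, hg⟩ := exists_prime_orderOf_dvd_card' r hrB
    have hgk : f (g : G) = 1 := MonoidHom.mem_ker.mp g.2
    have h1 : (QuotientGroup.mk' N (g : G)) ^ (k * b) = 1 := by
      rw [← hf, hgk]; rfl
    have h2 : orderOf (QuotientGroup.mk' N (g : G)) ∣ k * b := orderOf_dvd_of_pow_eq_one h1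
    have h3 : orderOf (QuotientGroup.mk' N (g : G)) ∣ r := by
      have := orderOf_map_dvd (QuotientGroup.mk' N) (g : G)
      rwa [Subgroup.orderOf_coe, hg] at this
    have hcop : Nat.Coprime r (k * b) := by
      rw [Nat.Prime.coprime_iff_not_dvd hr]
      intro hd
      exact (hkT.mul hb) r hr hd hrT
    have h4 : orderOf (QuotientGroup.mk' N (g : G)) = 1 := Nat.eq_one_of_dvd_coprimes hcop h3 h2
    rw [orderOf_eq_one_iff, QuotientGroup.mk'_apply, QuotientGroup.eq_one_iff] at h4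
    have h5 : orderOf (g : G) ∣ Nat.card N := Subgroup.orderOf_dvd_natCard N h4
    rw [Subgroup.orderOf_coe, hg] at h5
    exact hN r hr h5 hrT
  · rw [index_ker]
    intro r hr hrd
    have : Fact r.Prime := ⟨hr⟩
    obtain ⟨x, hx⟩ := exists_prime_orderOf_dvd_card' r hrd
    obtain ⟨g, hg⟩ := x.2
    have h1 : (x : center (G ⧸ N)) ^ a = 1 := by
      rw [← hg]
      show ((φ (QuotientGroup.mk' N g)) ^ b) ^ a = 1
      rw [← pow_mul, mul_comm, ← hab, pow_card_eq_one']
    have h2 : x ^ a = 1 := Subtype.ext h1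
    have h3 : orderOf x ∣ a := orderOf_dvd_of_pow_eq_one h2
    rw [hx] at h3
    exact ha r hr h3
  · intro g h
    rw [MonoidHom.mem_ker, map_mul, map_mul, map_mul, map_inv, map_inv,
      (hcomm (f g) (f h)).eq, mul_inv_cancel_right, mul_inv_cancel]

end Cfsg.Agent.Lib.Helper1.BHM
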