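import Mathlib

set_option autoImplicit false

namespace Cfsg.Agent.Lib.Helper1.CM

open Subgroup

variable {G : Type*} [Group G]

/-- Every noncentral element has a maximal centralizer. -/
def Hyp (G : Type*) [Group G] : Prop :=
  ∀ x : G, x ∉ Subgroup.center G → IsCoatom (Subgroup.centralizer ({x} : Set G))

/-- `M / Z(G)` is a `p`-group, elementwise. -/
def IsP (p : ℕ) (M : Subgroup G) : Prop := ∀ m ∈ M, ∃ j : ℕ, m ^ (p ^ j) ∈ center G

/-- Elementwise commutativity of a subgroup. -/
def Comm (M : Subgroup G) : Prop := ∀ a ∈ M, ∀ b ∈ M, a * b = b * a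

theorem centralizer_ne_top {y : G} (hy : y ∉ center G) : centralizer ({y} : Set G) ≠ ⊤ := by
  intro h
  rw [centralizer_eq_top_iff_subset, Set.singleton_subset_iff] at h
  exact hy h

theorem center_le_cent (y : G) : center G ≤ centralizer ({y} : Set G) := by
  intro z hz
  rw [mem_centralizer_singleton_iff]
  exact (mem_center_iff.mp hz y).symm

theorem self_mem_cent (y : G) : y ∈ centralizer ({y} : Set G) := by
  rw [mem_centralizer_singleton_iff]

theorem mem_cent_comm {x y : G} (h : y ∈ centralizer ({x} : Set G)) :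
    x ∈ centralizer ({y} : Set G) := by
  rw [mem_centralizer_singleton_iff] at h ⊢
  exact h.symm

theorem cent_eq_of_le (h : Hyp G) {x y : G} (hx : x ∉ center G) (hy : y ∉ center G)
    (hle : centralizer ({x} : Set G) ≤ centralizer ({y} : Set G)) :
    centralizer ({y} : Set G) = centralizer ({x} : Set G) :=
  ((h x hx).le_iff_eq (centralizer_ne_top hy)).mp hle

theorem cent_le_of_mem_zpowers {x y : G} (hy : y ∈ zpowers x) :
    centralizer ({x} : Set G) ≤ centralizer ({y} : Set G) := by
  obtain ⟨j, rfl⟩ := mem_zpowers_iff.mp hy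
  intro g hg
  rw [mem_centralizer_singleton_iff] at hg ⊢
  exact (Commute.zpow_right (show Commute g x from hg) j).eq

theorem cent_zpowers_eq (h : Hyp G) {x y : G} (hx : x ∉ center G) (hy : y ∈ zpowers x)
    (hyZ : y ∉ center G) : centralizer ({y} : Set G) = centralizer ({x} : Set G) :=
  cent_eq_of_le h hx hyZ (cent_le_of_mem_zpowers hy)

theorem mem_of_pow_mem (H : Subgroup G) {g : G} {a b : ℕ} (hab : Nat.Coprime a b)
    (ha : g ^ a ∈ H) (hb : g ^ b ∈ H) : g ∈ H := by
  have h1 : (a : ℤ) * Nat.gcdA a b + (b : ℤ) * Nat.gcdB a b = 1 := by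
    have := Nat.gcd_eq_gcd_ab a b
    rw [hab.gcd_eq_one] at this
    exact_mod_cast this.symm
  have h2 : g = (g ^ a) ^ (Nat.gcdA a b) * (g ^ b) ^ (Nat.gcdB a b) := by
    rw [← zpow_natCast g a, ← zpow_natCast g b, ← zpow_mul, ← zpow_mul, ← zpow_add, h1, zpow_one]
  rw [h2]
  exact H.mul_mem (H.zpow_mem ha _) (H.zpow_mem hb _)

theorem commute_of_pow_commute {g t : G} {a b : ℕ} (hab : Nat.Coprime a b)
    (ha : Commute (g ^ a) t) (hb : Commute (g ^ b) t) : Commute g t := by
  have : g ∈ centralizer ({t} : Set G) := by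
    apply mem_of_pow_mem _ hab
    · rw [mem_centralizer_singleton_iff]; exact ha.eq
    · rw [mem_centralizer_singleton_iff]; exact hb.eq
  rw [mem_centralizer_singleton_iff] at this
  exact this

theorem cent_eq_of_commute_coprime (h : Hyp G) {x y : G} (hx : x ∉ center G)
    (hy : y ∉ center G) (hc : Commute x y) (hcop : Nat.Coprime (orderOf x) (orderOf y)) :
    centralizer ({x} : Set G) = centralizer ({y} : Set G) := by
  have hpx : (x * y) ^ orderOf y = x ^ orderOf y := by
    rw [hc.mul_pow, pow_orderOf_eq_one, mul_one]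
  have hpy : (x * y) ^ orderOf x = y ^ orderOf x := by
    rw [hc.mul_pow, pow_orderOf_eq_one, one_mul]
  have hxy : x * y ∉ center G := by
    intro hmem
    apply hx
    apply mem_of_pow_mem (center G) hcop
    · rw [pow_orderOf_eq_one]; exact one_mem _
    · rw [← hpx]; exact pow_mem hmem _
  have h1 : centralizer ({x * y} : Set G) ≤ centralizer ({x} : Set G) := by
    intro g hg
    rw [mem_centralizer_singleton_iff] at hg ⊢
    have hcg : Commute (x * y) g := hg.symm
    have : Commute x g := by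
      apply commute_of_pow_commute hcop
      · rw [pow_orderOf_eq_one]; exact Commute.one_left g
      · rw [← hpx]; exact hcg.pow_left _
    exact this.symm.eq
  have h2 : centralizer ({x * y} : Set G) ≤ centralizer ({y} : Set G) := by
    intro g hg
    rw [mem_centralizer_singleton_iff] at hg ⊢
    have hcg : Commute (x * y) g := hg.symm
    have : Commute y g := by
      apply commute_of_pow_commute hcop.symm
      · rw [pow_orderOf_eq_one]; exact Commute.one_left g
      · rw [← hpy]; exact hcg.pow_left _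
    exact this.symm.eq
  rw [cent_eq_of_le h hxy hx h1, cent_eq_of_le h hxy hy h2]

theorem exists_coprime_split [Finite G] {q : ℕ} (hq : q.Prime) (g : G) :
    ∃ a c : ℕ, Nat.Coprime q c ∧ orderOf (g ^ (q ^ a)) = c ∧ orderOf (g ^ c) = q ^ a ∧
      c ≠ 0 ∧ orderOf g = q ^ a * c := by
  have hN : orderOf g ≠ 0 := (orderOf_pos g).ne'
  have hc0 : orderOf g / q ^ (orderOf g).factorization q ≠ 0 := (Nat.ordCompl_pos q hN).ne'
  refine ⟨(orderOf g).factorization q, orderOf g / q ^ (orderOf g).factorization q, ?_, ?_, ?_, hc0,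
    (Nat.ordProj_mul_ordCompl_eq_self _ _).symm⟩
  · exact Nat.coprime_ordCompl hq hN
  · exact orderOf_pow_of_dvd (pow_ne_zero _ hq.ne_zero) (Nat.ordProj_dvd _ _)
  · rw [orderOf_pow_of_dvd hc0 (Nat.ordCompl_dvd _ _)]
    exact Nat.div_div_self (Nat.ordProj_dvd _ _) hN

/-- Every noncentral element has a prime-power-order power with the same centralizer. -/
theorem exists_prime_pow_rep [Finite G] (h : Hyp G) {x : G} (hx : x ∉ center G) :
    ∃ (p : ℕ) (k : ℕ) (y : G), p.Prime ∧ y ∈ zpowers x ∧ y ∉ center G ∧ orderOf y = p ^ k ∧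
      centralizer ({y} : Set G) = centralizer ({x} : Set G) := by
  obtain ⟨y, ⟨hyx, hyZ⟩, hmin⟩ := Set.exists_min_image {y : G | y ∈ zpowers x ∧ y ∉ center G}
    orderOf (Set.toFinite _) ⟨x, mem_zpowers x, hx⟩
  have hy1 : orderOf y ≠ 1 := by
    intro h1
    rw [orderOf_eq_one_iff] at h1
    exact hyZ (h1 ▸ one_mem _)
  obtain ⟨p, hpdef⟩ : ∃ p, p = (orderOf y).minFac := ⟨_, rfl⟩
  have hp : p.Prime := hpdef ▸ Nat.minFac_prime hy1
  have hpdvd : p ∣ orderOf y := hpdef ▸ Nat.minFac_dvd _
  clear hpdef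
  obtain ⟨a, c, hcop, h1, h2, hc0, hmul⟩ := exists_coprime_split hp y
  have ha0 : a ≠ 0 := by
    rintro rfl
    rw [pow_zero, one_mul] at hmul
    have hdvd : p ∣ c := hmul ▸ hpdvd
    exact hp.one_lt.ne' (hcop.eq_one_of_dvd hdvd)
  by_cases hc1 : c = 1
  · refine ⟨p, a, y, hp, hyx, hyZ, ?_, cent_zpowers_eq h hx hyx hyZ⟩
    rw [hmul, hc1, mul_one]
  · exfalso
    have hpa : 1 < p ^ a := Nat.one_lt_pow ha0 hp.one_lt
    have hz1 : y ^ (p ^ a) ∈ center G := by
      by_contra hn
      have := hmin _ ⟨(zpowers x).pow_mem hyx _, hn⟩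
      rw [h1, hmul] at this
      nlinarith [Nat.pos_of_ne_zero hc0]
    have hz2 : y ^ c ∈ center G := by
      by_contra hn
      have := hmin _ ⟨(zpowers x).pow_mem hyx _, hn⟩
      rw [h2, hmul] at this
      have hc2 : 2 ≤ c := by omega
      nlinarith [Nat.pos_of_ne_zero hc0]
    exact hyZ (mem_of_pow_mem _ (Nat.Coprime.pow_left a hcop) hz1 hz2)

/-- Step 3: `p'`-elements of `C(x)` are central in `C(x)` when `x` is a `p`-element. -/
theorem commute_of_coprime_order (h : Hyp G) {x : G} (hx : x ∉ center G) {y : G}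
    (hy : y ∈ centralizer ({x} : Set G)) (hcop : Nat.Coprime (orderOf x) (orderOf y)) :
    ∀ m ∈ centralizer ({x} : Set G), Commute y m := by
  intro m hm
  by_cases hyZ : y ∈ center G
  · exact (mem_center_iff.mp hyZ m).symm
  · have hc : Commute x y := by
      rw [mem_centralizer_singleton_iff] at hy
      exact hy.symm
    rw [cent_eq_of_commute_coprime h hx hyZ hc hcop, mem_centralizer_singleton_iff] at hm
    exact hm.symm

/-- Step 4. -/
theorem isP_of_not_comm [Finite G] (h : Hyp G) {x : G} (hx : x ∉ center G) {p k : ℕ}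
    (hp : p.Prime) (hord : orderOf x = p ^ k)
    (hnc : ¬ Comm (centralizer ({x} : Set G))) : IsP p (centralizer ({x} : Set G)) := by
  intro m hm
  obtain ⟨j, b, hcop, h1, -, hb0, -⟩ := exists_coprime_split hp m
  refine ⟨j, ?_⟩
  by_contra hwZ
  set w := m ^ (p ^ j) with hw
  have hwM : w ∈ centralizer ({x} : Set G) := pow_mem hm _
  obtain ⟨q, l, w', hq, hw'w, hw'Z, hw'ord, hw'C⟩ := exists_prime_pow_rep h hwZ
  have hl0 : l ≠ 0 := by
    rintro rfl
    rw [pow_zero, orderOf_eq_one_iff] at hw'ord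
    exact hw'Z (hw'ord ▸ one_mem _)
  have hqb : q ∣ b := by
    have := orderOf_dvd_of_mem_zpowers hw'w
    rw [hw'ord, h1] at this
    exact (dvd_pow_self q hl0).trans this
  have hpq : Nat.Coprime p q := Nat.Coprime.coprime_dvd_right hqb hcop
  have hxw : centralizer ({x} : Set G) = centralizer ({w} : Set G) := by
    apply cent_eq_of_commute_coprime h hx hwZ
    · rw [mem_centralizer_singleton_iff] at hwM
      exact hwM.symm
    · rw [hord, h1]
      exact Nat.Coprime.pow_left k hcop
  have hMw' : centralizer ({w'} : Set G) = centralizer ({x} : Set G) := by rw [hw'C, hxw]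
  apply hnc
  intro g hg t ht
  obtain ⟨i, c, hcop2, hg1, hg2, hc0, -⟩ := exists_coprime_split hq g
  have hA : Commute (g ^ (q ^ i)) t := by
    have hg' : g ^ (q ^ i) ∈ centralizer ({w'} : Set G) := by rw [hMw']; exact pow_mem hg _
    have ht' : t ∈ centralizer ({w'} : Set G) := by rw [hMw']; exact ht
    apply commute_of_coprime_order h hw'Z hg' _ t ht'
    rw [hw'ord, hg1]
    exact Nat.Coprime.pow_left l hcop2
  have hB : Commute (g ^ c) t := by
    apply commute_of_coprime_order h hx (pow_mem hg _) _ t ht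
    rw [hord, hg2]
    exact Nat.Coprime.pow_left k (Nat.Coprime.pow_right i hpq)
  exact (commute_of_pow_commute (Nat.Coprime.pow_left i hcop2) hA hB).eq

end Cfsg.Agent.Lib.Helper1.CM
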