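import Mathlib
import Cfsg.Agent.Lib.Helper1.BHM2
import Cfsg.Agent.Lib.Helper1.CM1

set_option autoImplicit false

namespace Cfsg.Agent.Lib.Helper1.BHM

open Subgroup Pointwise

variable {G : Type*} [Group G]

/-- the structure obtained: a normal Hall `T'`-subgroup `B` with abelian quotient and a complement
`A`. -/
structure Data (T : Set ℕ) (B A : Subgroup G) : Prop where
  split : ∀ g : G, TNum T (idx g) ∨ TNum Tᶜ (idx g)
  normal : B.Normal
  cardB : TNum Tᶜ (Nat.card B)
  idxB : TNum T B.index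
  comm : ∀ g h : G, g * h * g⁻¹ * h⁻¹ ∈ B
  compl : IsComplement' B A

namespace Data

variable {T : Set ℕ} {B A : Subgroup G}

theorem disj (hd : Data T B A) {x : G} (hA : x ∈ A) (hB : x ∈ B) : x = 1 :=
  (Subgroup.disjoint_def.mp hd.compl.disjoint) hB hA

theorem factor (hd : Data T B A) (g : G) : ∃ b ∈ B, ∃ a ∈ A, g = b * a := by
  have := hd.normal
  have h1 : g ∈ B ⊔ A := by rw [hd.compl.sup_eq_top]; exact mem_top g
  rw [mem_sup_of_normal_left] at h1
  obtain ⟨b, hb, a, ha, h⟩ := h1
  exact ⟨b, hb, a, ha, h.symm⟩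

theorem factor' (hd : Data T B A) (g : G) : ∃ a ∈ A, ∃ b ∈ B, g = a * b := by
  obtain ⟨b, hb, a, ha, h⟩ := hd.factor g⁻¹
  refine ⟨a⁻¹, A.inv_mem ha, b⁻¹, B.inv_mem hb, ?_⟩
  rw [← mul_inv_rev, ← h, inv_inv]

theorem A_comm (hd : Data T B A) : ∀ a ∈ A, ∀ a' ∈ A, a * a' = a' * a := by
  intro a ha a' ha'
  have h1 := hd.comm a a'
  have h2 : a * a' * a⁻¹ * a'⁻¹ ∈ A :=
    A.mul_mem (A.mul_mem (A.mul_mem ha ha') (A.inv_mem ha)) (A.inv_mem ha')
  have h3 := hd.disj h2 h1
  calc a * a' = (a * a' * a⁻¹ * a'⁻¹) * a' * a := by group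
    _ = a' * a := by rw [h3, one_mul]

theorem cardA (hd : Data T B A) : Nat.card A = B.index := hd.compl.symm.index_eq_card.symm

theorem orderOf_A (hd : Data T B A) {a : G} (ha : a ∈ A) : TNum T (orderOf a) :=
  hd.idxB.of_dvd (hd.cardA ▸ Subgroup.orderOf_dvd_natCard A ha)

theorem mem_B_of_order (hd : Data T B A) {v : G} (hv : TNum Tᶜ (orderOf v)) : v ∈ B := by
  have := hd.normal
  have h1 : orderOf (QuotientGroup.mk' B v) ∣ orderOf v := orderOf_map_dvd _ v
  have h2 : orderOf (QuotientGroup.mk' B v) ∣ B.index := by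
    rw [index_eq_card]; exact orderOf_dvd_natCard _
  have h4 : orderOf (QuotientGroup.mk' B v) = 1 :=
    Nat.eq_one_of_dvd_coprimes (hd.idxB.coprime hv).symm h1 h2
  rw [orderOf_eq_one_iff, QuotientGroup.mk'_apply, QuotientGroup.eq_one_iff] at h4
  exact h4

theorem le_cent_of_T [Finite G] (hd : Data T B A) {x : G} (hx : TNum T (idx x)) :
    B ≤ centralizer ({x} : Set G) := by
  have := hd.normal
  have h1 : (centralizer ({x} : Set G)).relIndex B ∣ idx x := by
    unfold idx
    rw [← Cfsg.Agent.Lib.Helper2.relIndex_sup_eq_of_normal (centralizer ({x} : Set G)) B]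
    exact relIndex_dvd_index_of_le le_sup_left
  have h2 : (centralizer ({x} : Set G)).relIndex B ∣ Nat.card B := relIndex_dvd_card _ _
  have h3 := Nat.eq_one_of_dvd_coprimes (hx.coprime hd.cardB) h1 h2
  exact relIndex_eq_one.mp h3

theorem central_of_cent [Finite G] (hd : Data T B A) {y : G}
    (hy : B ≤ centralizer ({y} : Set G)) (hT : TNum Tᶜ (idx y)) : y ∈ center G := by
  rw [← idx_eq_one_iff]
  have h1 : idx y ∣ B.index := index_dvd_of_le hy
  exact (hd.idxB.of_dvd h1).eq_one hT

theorem tnum_iff [Finite G] (hd : Data T B A) (g : G) :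
    B ≤ centralizer ({g} : Set G) ↔ TNum T (idx g) := by
  constructor
  · intro h
    rcases hd.split g with h1 | h1
    · exact h1
    · have := idx_eq_one_iff.mpr (hd.central_of_cent h h1)
      rw [this]; exact tnum_one T
  · exact hd.le_cent_of_T

theorem central_of_T_elt [Finite G] (hd : Data T B A) {t : G}
    (ht : B ≤ centralizer ({t} : Set G)) (hord : TNum T (orderOf t)) : t ∈ center G := by
  rw [mem_center_iff]
  intro g
  obtain ⟨b, hb, a, ha, rfl⟩ := hd.factor g
  have hbt : b * t = t * b := mem_centralizer_singleton_iff.mp (ht hb)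
  have hat : a * t = t * a := by
    obtain ⟨w, hw⟩ : ∃ w, w = a * t * a⁻¹ * t⁻¹ := ⟨_, rfl⟩
    have hwB : w ∈ B := hw ▸ hd.comm a t
    have hwt : w * t = t * w := mem_centralizer_singleton_iff.mp (ht hwB)
    have hconj : a * t * a⁻¹ = w * t := by rw [hw]; group
    have hpow : (a * t * a⁻¹) ^ orderOf t = 1 := by
      rw [conj_pow, pow_orderOf_eq_one]; group
    rw [hconj, (show Commute w t from hwt).mul_pow, pow_orderOf_eq_one, mul_one] at hpow
    have h1 : orderOf w ∣ orderOf t := orderOf_dvd_of_pow_eq_one hpow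
    have h2 : orderOf w ∣ Nat.card B := Subgroup.orderOf_dvd_natCard B hwB
    have h3 : orderOf w = 1 := Nat.eq_one_of_dvd_coprimes (hord.coprime hd.cardB) h1 h2
    rw [orderOf_eq_one_iff] at h3
    rw [h3, one_mul] at hconj
    calc a * t = (a * t * a⁻¹) * a := by group
      _ = t * a := by rw [hconj]
  calc b * a * t = b * (a * t) := by group
    _ = b * (t * a) := by rw [hat]
    _ = (b * t) * a := by group
    _ = t * b * a := by rw [hbt]
    _ = t * (b * a) := by group

open Cfsg.Agent.Lib.Helper8.KPi in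
theorem exists_ZB_noncentral [Finite G] (hd : Data T B A) {x : G} (hx1 : idx x ≠ 1)
    (hxT : TNum T (idx x)) :
    ∃ v ∈ B, B ≤ centralizer ({v} : Set G) ∧ v ∉ center G := by
  obtain ⟨u, v, hu, hv, huv, hpu, hpv⟩ := exists_parts T x
  have hxc := hd.le_cent_of_T hxT
  have hpow : ∀ w ∈ zpowers x, B ≤ centralizer ({w} : Set G) := by
    intro w hw b hb
    obtain ⟨i, rfl⟩ := mem_zpowers_iff.mp hw
    rw [mem_centralizer_singleton_iff]
    have h1 := mem_centralizer_singleton_iff.mp (hxc hb)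
    exact ((show Commute b x from h1).zpow_right i).eq
  have huZ : u ∈ center G := hd.central_of_T_elt (hpow u hu) hpu
  refine ⟨v, hd.mem_B_of_order hpv, hpow v hv, ?_⟩
  intro hvZ
  apply hx1
  rw [idx_eq_one_iff, ← huv]
  exact (center G).mul_mem huZ hvZ

theorem cent_mul_le [Finite G] {a v : G} (hcomm : Commute a v)
    (hcop : Nat.Coprime (orderOf a) (orderOf v)) :
    centralizer ({a * v} : Set G) ≤ centralizer ({a} : Set G) := by
  intro g hg
  rw [mem_centralizer_singleton_iff] at hg ⊢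
  have hg' : Commute g (a * v) := hg
  have h1 : (a * v) ^ orderOf v = a ^ orderOf v := by
    rw [hcomm.mul_pow, pow_orderOf_eq_one, mul_one]
  have h2 : Commute (a ^ orderOf v) g := by rw [← h1]; exact (hg'.pow_right _).symm
  have h3 : Commute (a ^ orderOf a) g := by rw [pow_orderOf_eq_one]; exact Commute.one_left g
  exact (CM.commute_of_pow_commute hcop.symm h2 h3).symm.eq

theorem not_commute [Finite G] (hd : Data T B A) {a v : G} (haT : TNum T (orderOf a))
    (haZ : a ∉ center G) (hvB : v ∈ B) (hvc : B ≤ centralizer ({v} : Set G))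
    (hvZ : v ∉ center G) : a * v ≠ v * a := by
  intro hc
  have hcomm : Commute a v := hc
  have ha1 : ¬ TNum T (idx a) := fun h => haZ (hd.central_of_T_elt (hd.le_cent_of_T h) haT)
  have ha2 : TNum Tᶜ (idx a) := (hd.split a).resolve_left ha1
  have ha3 : idx a ≠ 1 := fun h => haZ (idx_eq_one_iff.mp h)
  have hv2 : TNum T (idx v) := (hd.tnum_iff v).mp hvc
  have hv3 : idx v ≠ 1 := fun h => hvZ (idx_eq_one_iff.mp h)
  have hordv : orderOf v ∣ Nat.card B := Subgroup.orderOf_dvd_natCard B hvB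
  have hcop : Nat.Coprime (orderOf a) (orderOf v) := haT.coprime (hd.cardB.of_dvd hordv)
  have hle1 := cent_mul_le hcomm hcop
  have hle2 : centralizer ({a * v} : Set G) ≤ centralizer ({v} : Set G) := by
    rw [hc]; exact cent_mul_le hcomm.symm hcop.symm
  have hd1 : idx a ∣ idx (a * v) := idx_dvd_of_le hle1
  have hd2 : idx v ∣ idx (a * v) := idx_dvd_of_le hle2
  rcases hd.split (a * v) with h | h
  · exact ha3 ((h.of_dvd hd1).eq_one ha2)
  · exact hv3 (hv2.eq_one (h.of_dvd hd2))

end Data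

end Cfsg.Agent.Lib.Helper1.BHM
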