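import Mathlib
import Cfsg.Agent.Lib.Helper1.BHM3

set_option autoImplicit false

namespace Cfsg.Agent.Lib.Helper1.BHM

open Subgroup Pointwise

variable {G : Type*} [Group G]

/-- relative version of the conjugate-cover lemma -/
theorem le_of_conj_cover [Finite G] (B H : Subgroup G)
    (h : ∀ b ∈ B, ∃ c ∈ B, c * b * c⁻¹ ∈ H) : B ≤ H := by
  have h1 : H.subgroupOf B = ⊤ := by
    apply Cfsg.Agent.Lib.Helper3.eq_top_of_conj_cover
    intro y
    obtain ⟨c, hc, hcy⟩ := h y.1 y.2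
    refine ⟨⟨c⁻¹, B.inv_mem hc⟩, ?_⟩
    rw [mem_subgroupOf]
    simpa using hcy
  exact subgroupOf_eq_top.mp h1

namespace Data

variable {T : Set ℕ} {B A : Subgroup G}

theorem B_comm [Finite G] (hd : Data T B A) (hX : ∃ x : G, idx x ≠ 1 ∧ TNum T (idx x)) :
    ∀ b ∈ B, ∀ b' ∈ B, b * b' = b' * b := by
  obtain ⟨x₀, hx1, hxT⟩ := hX
  obtain ⟨p, hp, hpd⟩ := Nat.exists_prime_and_dvd hx1
  have hpT : p ∈ T := hxT p hp hpd
  have hpF : Fact p.Prime := ⟨hp⟩
  have hBn := hd.normal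
  obtain ⟨P₀⟩ : Nonempty (Sylow p A) := inferInstance
  obtain ⟨P, hP⟩ : ∃ P : Subgroup G, P = (P₀ : Subgroup A).map A.subtype := ⟨_, rfl⟩
  have hPA : P ≤ A := by rw [hP]; exact map_subtype_le _
  have hPp : IsPGroup p P := by rw [hP]; exact P₀.2.map _
  have hPidx : ¬ p ∣ P.index := by
    rw [hP, index_map_subtype]
    intro h
    rcases (Nat.Prime.dvd_mul hp).mp h with h | h
    · exact P₀.not_dvd_index h
    · rw [hd.compl.index_eq_card] at h
      exact hd.cardB p hp h hpT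
  obtain ⟨a, haP, haZ⟩ : ∃ a ∈ P, a ∉ center G := by
    by_contra hcon
    push Not at hcon
    have hle : P ≤ centralizer ({x₀} : Set G) := by
      intro y hy
      rw [mem_centralizer_singleton_iff]
      exact (mem_center_iff.mp (hcon y hy) x₀).symm
    exact hPidx (hpd.trans (index_dvd_of_le hle))
  obtain ⟨F, hF⟩ : ∃ F : Subgroup G, F = centralizer (P : Set G) ⊓ B := ⟨_, rfl⟩
  obtain ⟨ZB, hZB⟩ : ∃ ZB : Subgroup G, ZB = centralizer (B : Set G) ⊓ B := ⟨_, rfl⟩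
  have hFmem : ∀ f : G, f ∈ F ↔ (∀ y ∈ P, y * f = f * y) ∧ f ∈ B := by
    intro f
    rw [hF, Subgroup.mem_inf, mem_centralizer_iff]
    rfl
  have hZBmem : ∀ f : G, f ∈ ZB ↔ (∀ y ∈ B, y * f = f * y) ∧ f ∈ B := by
    intro f
    rw [hZB, Subgroup.mem_inf, mem_centralizer_iff]
    rfl
  -- `A` normalizes `F`
  have hAF : ∀ a₁ ∈ A, ∀ f ∈ F, a₁ * f * a₁⁻¹ ∈ F := by
    intro a₁ ha₁ f hf
    rw [hFmem] at hf ⊢
    refine ⟨?_, hBn.conj_mem f hf.2 a₁⟩
    intro y hy
    have h1 : y * a₁ = a₁ * y := hd.A_comm y (hPA hy) a₁ ha₁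
    have h2 := hf.1 y hy
    have h3 : y * a₁⁻¹ = a₁⁻¹ * y := hd.A_comm y (hPA hy) a₁⁻¹ (A.inv_mem ha₁)
    calc y * (a₁ * f * a₁⁻¹) = (y * a₁) * f * a₁⁻¹ := by group
      _ = a₁ * (y * f) * a₁⁻¹ := by rw [h1]; group
      _ = a₁ * f * (y * a₁⁻¹) := by rw [h2]; group
      _ = a₁ * f * a₁⁻¹ * y := by rw [h3]; group
  -- every element of `B` is in `Z(B)` or `B`-conjugate into `F`
  have hcl2 : ∀ b ∈ B, b ∈ ZB ∨ ∃ b₁ ∈ B, b₁ * b * b₁⁻¹ ∈ F := by
    intro b hb
    by_cases hbc : B ≤ centralizer ({b} : Set G)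
    · left
      rw [hZBmem]
      refine ⟨?_, hb⟩
      intro y hy
      exact mem_centralizer_singleton_iff.mp (hbc hy)
    · right
      have h1 : ¬ TNum T (idx b) := fun h => hbc (hd.le_cent_of_T h)
      have h2 : TNum Tᶜ (idx b) := (hd.split b).resolve_left h1
      have h3 : ¬ p ∣ idx b := fun h => h2 p hp h hpT
      obtain ⟨c, hc⟩ := Cfsg.Agent.Lib.Helper2.exists_conj_le_of_not_dvd_index hPp h3
      have hcb : c * b * c⁻¹ ∈ F := by
        rw [hFmem]
        refine ⟨?_, hBn.conj_mem b hb c⟩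
        intro x hx
        have h4 := hc x hx
        rw [mem_centralizer_singleton_iff] at h4
        calc x * (c * b * c⁻¹) = c * ((c⁻¹ * x * c) * b) * c⁻¹ := by group
          _ = c * (b * (c⁻¹ * x * c)) * c⁻¹ := by rw [h4]
          _ = _ := by group
      obtain ⟨a₁, ha₁, b₁, hb₁, rfl⟩ := hd.factor' c
      refine ⟨b₁, hb₁, ?_⟩
      have h5 := hAF a₁⁻¹ (A.inv_mem ha₁) _ hcb
      have h6 : a₁⁻¹ * (a₁ * b₁ * b * (a₁ * b₁)⁻¹) * a₁⁻¹⁻¹ = b₁ * b * b₁⁻¹ := by group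
      rwa [h6] at h5
  -- `B ≤ F ⊔ Z(B)`
  have hcl3 : B ≤ F ⊔ ZB := by
    apply le_of_conj_cover
    intro b hb
    rcases hcl2 b hb with h | ⟨b₁, hb₁, h⟩
    · exact ⟨1, B.one_mem, by simpa using (le_sup_right : ZB ≤ F ⊔ ZB) h⟩
    · exact ⟨b₁, hb₁, (le_sup_left : F ≤ F ⊔ ZB) h⟩
  -- `F ⊔ Z(B)` normalizes `F`
  have hnorm : F ⊔ ZB ≤ normalizer (F : Set G) := by
    apply sup_le le_normalizer
    intro z hz
    rw [hZBmem] at hz
    rw [mem_normalizer_iff]
    intro f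
    have hzf : ∀ f ∈ F, z * f * z⁻¹ = f := by
      intro f hf
      have h1 := hz.1 f ((hFmem f).mp hf).2
      calc z * f * z⁻¹ = (f * z) * z⁻¹ := by rw [h1]
        _ = f := by group
    constructor
    · intro hf
      rw [hzf f hf]; exact hf
    · intro hf
      have h1 : f * z = z * f := by
        have hfB : z * f * z⁻¹ ∈ B := ((hFmem _).mp hf).2
        have hfB' : f ∈ B := by
          have := hBn.conj_mem _ hfB z⁻¹
          simpa [mul_assoc] using this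
        exact hz.1 f hfB'
      have h2 : z * f * z⁻¹ = f := by
        calc z * f * z⁻¹ = (f * z) * z⁻¹ := by rw [h1]
          _ = f := by group
      rwa [h2] at hf
  have hcl4 : ∀ b ∈ B, b ∈ ZB ∨ b ∈ F := by
    intro b hb
    rcases hcl2 b hb with h | ⟨b₁, hb₁, h⟩
    · left; exact h
    · right
      have h1 := hnorm (hcl3 hb₁)
      rw [mem_normalizer_iff] at h1
      exact (h1 b).mpr h
  have hcl5 : B ≤ ZB ∨ B ≤ F := by
    by_contra hcon
    push Not at hcon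
    obtain ⟨h1, h2⟩ := hcon
    obtain ⟨b, hb, hbZ⟩ := SetLike.not_le_iff_exists.mp h1
    obtain ⟨b', hb', hbF⟩ := SetLike.not_le_iff_exists.mp h2
    have hbF' : b ∈ F := (hcl4 b hb).resolve_left hbZ
    have hbZ' : b' ∈ ZB := (hcl4 b' hb').resolve_right hbF
    rcases hcl4 (b * b') (B.mul_mem hb hb') with h | h
    · apply hbZ
      have := ZB.mul_mem h (ZB.inv_mem hbZ')
      simpa using this
    · apply hbF
      have := F.mul_mem (F.inv_mem hbF') h
      simpa using this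
  rcases hcl5 with h | h
  · intro b hb b' hb'
    exact ((hZBmem b').mp (h hb')).1 b hb
  · exfalso
    apply haZ
    apply hd.central_of_T_elt
    · intro b hb
      rw [mem_centralizer_singleton_iff]
      exact (((hFmem b).mp (h hb)).1 a haP).symm
    · intro r hr hra
      obtain ⟨k, hk⟩ := (IsPGroup.iff_orderOf.mp hPp) ⟨a, haP⟩
      rw [Subgroup.orderOf_mk] at hk
      rw [hk] at hra
      have := (Nat.prime_dvd_prime_iff_eq hr hp).mp (hr.dvd_of_dvd_pow hra)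
      rw [this]; exact hpT

end Data

end Cfsg.Agent.Lib.Helper1.BHM
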