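import Mathlib
import Cfsg.Prelude.Def_Solvable
import Cfsg.Agent.Lib.Helper1.BHM4

set_option autoImplicit false

namespace Cfsg.Agent.Lib.Helper1.BHM

open Subgroup Pointwise

variable {G : Type*} [Group G]

namespace Data

variable {T : Set ℕ} {B A : Subgroup G}

/-- coprime commutator: `[a, b] ∈ Z(G)` forces `[a, b] = 1`. -/
theorem commute_of_comm_central [Finite G] (hd : Data T B A) {a b : G} (ha : a ∈ A) (hb : b ∈ B)
    (hw : a⁻¹ * b * a * b⁻¹ ∈ center G) : a * b = b * a := by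
  have hBn := hd.normal
  obtain ⟨w, hwdef⟩ : ∃ w, w = a⁻¹ * b * a * b⁻¹ := ⟨_, rfl⟩
  rw [← hwdef] at hw
  have hwB : w ∈ B := by
    rw [hwdef]
    have h1 : a⁻¹ * b * a⁻¹⁻¹ ∈ B := hBn.conj_mem b hb a⁻¹
    rw [inv_inv] at h1
    exact B.mul_mem h1 (B.inv_mem hb)
  have hconj : a⁻¹ * b * a = w * b := by rw [hwdef]; group
  have hwc : ∀ g : G, g * w = w * g := fun g => mem_center_iff.mp hw g
  have hind : ∀ n : ℕ, (a⁻¹) ^ n * b * a ^ n = w ^ n * b := by
    intro n
    induction n with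
    | zero => simp
    | succ n ih =>
      calc (a⁻¹) ^ (n + 1) * b * a ^ (n + 1) = a⁻¹ * ((a⁻¹) ^ n * b * a ^ n) * a := by
            rw [pow_succ' a⁻¹ n, pow_succ a n]; group
        _ = a⁻¹ * (w ^ n * b) * a := by rw [ih]
        _ = w ^ n * (a⁻¹ * b * a) := by
            have h1 : a⁻¹ * w ^ n = w ^ n * a⁻¹ :=
              ((show Commute a⁻¹ w from hwc a⁻¹).pow_right n).eq
            calc a⁻¹ * (w ^ n * b) * a = (a⁻¹ * w ^ n) * b * a := by group
              _ = (w ^ n * a⁻¹) * b * a := by rw [h1]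
              _ = _ := by group
        _ = w ^ n * (w * b) := by rw [hconj]
        _ = w ^ (n + 1) * b := by rw [pow_succ w n]; group
  have h1 := hind (orderOf a)
  rw [inv_pow, pow_orderOf_eq_one, inv_one, one_mul, mul_one] at h1
  have h2 : w ^ orderOf a = 1 := by
    have : w ^ orderOf a * b = 1 * b := by rw [one_mul]; exact h1.symm
    exact mul_right_cancel this
  have h3 : orderOf w ∣ orderOf a := orderOf_dvd_of_pow_eq_one h2
  have h4 : orderOf w ∣ Nat.card B := Subgroup.orderOf_dvd_natCard B hwB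
  have h5 : orderOf w = 1 :=
    Nat.eq_one_of_dvd_coprimes ((hd.orderOf_A ha).coprime hd.cardB) h3 h4
  rw [orderOf_eq_one_iff] at h5
  rw [h5, one_mul] at hconj
  calc a * b = a * (a⁻¹ * b * a) := by rw [hconj]
    _ = b * a := by group

theorem main [Finite G] (hd : Data T B A) (hX : ∃ x : G, idx x ≠ 1 ∧ TNum T (idx x)) :
    ∃ H : Subgroup (G ⧸ center G), Cfsg.IsFrobeniusComplement H ∧ IsMulCommutative H ∧
      ∀ x ∈ Cfsg.frobeniusKernel H, ∀ y ∈ Cfsg.frobeniusKernel H, x * y = y * x := by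
  have hBn := hd.normal
  have hBc := hd.B_comm hX
  have hAc := hd.A_comm
  obtain ⟨x₀, hx1, -⟩ := hX
  have hx₀Z : x₀ ∉ center G := fun h => hx1 (idx_eq_one_iff.mpr h)
  -- (F1)
  have hF1 : ∀ a ∈ A, a ∉ center G → ∀ b ∈ B, a * b = b * a → b ∈ center G := by
    intro a ha haZ b hb hab
    by_contra hbZ
    refine hd.not_commute (hd.orderOf_A ha) haZ hb ?_ hbZ hab
    intro y hy
    rw [mem_centralizer_singleton_iff]
    exact hBc y hy b hb
  -- the quotient map
  obtain ⟨mk, hmk⟩ : ∃ mk : G →* G ⧸ center G, mk = QuotientGroup.mk' (center G) := ⟨_, rfl⟩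
  have hmk1 : ∀ g : G, mk g = 1 ↔ g ∈ center G := by
    intro g
    rw [hmk, QuotientGroup.mk'_apply, QuotientGroup.eq_one_iff]
  have hmksurj : Function.Surjective mk := by rw [hmk]; exact QuotientGroup.mk'_surjective _
  have hmkeq : ∀ g h : G, mk g = mk h ↔ g⁻¹ * h ∈ center G := by
    intro g h
    rw [hmk, QuotientGroup.mk'_apply, QuotientGroup.mk'_apply, QuotientGroup.eq]
  obtain ⟨H, hH⟩ : ∃ H : Subgroup (G ⧸ center G), H = A.map mk := ⟨_, rfl⟩
  have hHmem : ∀ u : G ⧸ center G, u ∈ H ↔ ∃ a ∈ A, mk a = u := by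
    intro u; rw [hH]; exact Subgroup.mem_map
  -- elements of `B` are central once they commute with `A`
  have hBcent : ∀ b ∈ B, (∀ a ∈ A, a * b = b * a) → b ∈ center G := by
    intro b hb h
    rw [mem_center_iff]
    intro g
    obtain ⟨b', hb', a', ha', rfl⟩ := hd.factor g
    calc b' * a' * b = b' * (a' * b) := by group
      _ = b' * (b * a') := by rw [h a' ha']
      _ = (b' * b) * a' := by group
      _ = b * b' * a' := by rw [hBc b' hb' b hb]
      _ = b * (b' * a') := by group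
  refine ⟨H, ⟨?_, ?_, ?_⟩, ?_, ?_⟩
  · -- H ≠ ⊥
    intro hbot
    have hAZ : ∀ a ∈ A, a ∈ center G := by
      intro a ha
      rw [← hmk1]
      have : mk a ∈ H := (hHmem _).mpr ⟨a, ha, rfl⟩
      rw [hbot] at this
      exact Subgroup.mem_bot.mp this
    apply hx₀Z
    obtain ⟨b, hb, a, ha, rfl⟩ := hd.factor x₀
    refine (center G).mul_mem (hBcent b hb ?_) (hAZ a ha)
    intro a' ha'
    exact (mem_center_iff.mp (hAZ a' ha') b).symm
  · -- H ≠ ⊤
    intro htop
    have hrep : ∀ g : G, ∃ a ∈ A, ∃ z ∈ center G, g = a * z := by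
      intro g
      have : mk g ∈ H := by rw [htop]; exact mem_top _
      obtain ⟨a, ha, hag⟩ := (hHmem _).mp this
      rw [hmkeq] at hag
      exact ⟨a, ha, a⁻¹ * g, hag, by group⟩
    apply hx₀Z
    rw [mem_center_iff]
    intro g
    obtain ⟨a, ha, z, hz, rfl⟩ := hrep g
    obtain ⟨a', ha', z', hz', rfl⟩ := hrep x₀
    have hzc : ∀ t : G, t * z = z * t := fun t => mem_center_iff.mp hz t
    have hzc' : ∀ t : G, t * z' = z' * t := fun t => mem_center_iff.mp hz' t
    calc a * z * (a' * z') = a * (z * a') * z' := by group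
      _ = a * (a' * z) * z' := by rw [hzc a']
      _ = (a * a') * z * z' := by group
      _ = (a' * a) * z * z' := by rw [hAc a ha a' ha']
      _ = a' * (a * z) * z' := by group
      _ = a' * ((a * z) * z') := by group
      _ = a' * (z' * (a * z)) := by rw [hzc' (a * z)]
      _ = a' * z' * (a * z) := by group
  · -- Frobenius condition
    intro u hu
    obtain ⟨g, rfl⟩ := hmksurj u
    rw [eq_bot_iff]
    intro v hv
    rw [Subgroup.mem_bot]
    obtain ⟨hv1, hv2⟩ := Subgroup.mem_inf.mp hv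
    obtain ⟨a₁, ha₁, rfl⟩ := (hHmem _).mp hv1
    rw [Subgroup.mem_pointwise_smul_iff_inv_smul_mem, hHmem] at hv2
    obtain ⟨a₂, ha₂, h2⟩ := hv2
    have h2' : mk a₂ = mk (g⁻¹ * a₁ * g) := by
      rw [h2, MulAut.smul_def, ← map_inv, MulAut.conj_apply, map_mul, map_mul, map_inv,
        inv_inv]
    rw [hmkeq] at h2'
    rw [hmk1]
    by_contra ha₁Z
    obtain ⟨b, hb, a₀, ha₀, rfl⟩ := hd.factor g
    -- w' = a₁⁻¹ b⁻¹ a₁ b is central
    obtain ⟨w', hw'⟩ : ∃ w', w' = a₁⁻¹ * b⁻¹ * a₁ * b := ⟨_, rfl⟩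
    have hw'B : w' ∈ B := by
      rw [hw']
      have h1 : a₁⁻¹ * b⁻¹ * a₁⁻¹⁻¹ ∈ B := hBn.conj_mem _ (B.inv_mem hb) a₁⁻¹
      rw [inv_inv] at h1
      exact B.mul_mem h1 hb
    obtain ⟨z, hzdef⟩ : ∃ z, z = a₂⁻¹ * ((b * a₀)⁻¹ * a₁ * (b * a₀)) := ⟨_, rfl⟩
    have hz : z ∈ center G := hzdef ▸ h2'
    have hzc : ∀ t : G, t * z = z * t := fun t => mem_center_iff.mp hz t
    have e1 : z = a₂⁻¹ * a₀⁻¹ * a₁ * w' * a₀ := by rw [hzdef, hw']; group
    have e2 : w' = a₁⁻¹ * a₂ * z := by
      have h3 : a₀ * z * a₀⁻¹ = z := by rw [hzc a₀]; group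
      have h4 : a₀ * z * a₀⁻¹ = a₀ * a₂⁻¹ * a₀⁻¹ * a₁ * w' := by rw [e1]; group
      have h5 : a₀ * a₂⁻¹ = a₂⁻¹ * a₀ := hAc a₀ ha₀ a₂⁻¹ (A.inv_mem ha₂)
      rw [h3, h5] at h4
      rw [h4]; group
    have hw'Z : w' ∈ center G := by
      apply hBcent w' hw'B
      intro a ha
      rw [e2]
      have h3 : a * (a₁⁻¹ * a₂) = (a₁⁻¹ * a₂) * a :=
        hAc a ha _ (A.mul_mem (A.inv_mem ha₁) ha₂)
      calc a * (a₁⁻¹ * a₂ * z) = (a * (a₁⁻¹ * a₂)) * z := by group
        _ = (a₁⁻¹ * a₂) * a * z := by rw [h3]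
        _ = (a₁⁻¹ * a₂) * (a * z) := by group
        _ = (a₁⁻¹ * a₂) * (z * a) := by rw [hzc a]
        _ = a₁⁻¹ * a₂ * z * a := by group
    have h6 : a₁ * b⁻¹ = b⁻¹ * a₁ := by
      apply hd.commute_of_comm_central ha₁ (B.inv_mem hb)
      rw [inv_inv, ← hw']; exact hw'Z
    have h7 : a₁ * b = b * a₁ := by
      calc a₁ * b = b * (b⁻¹ * a₁) * b := by group
        _ = b * (a₁ * b⁻¹) * b := by rw [h6]
        _ = b * a₁ := by group
    have hbZ := hF1 a₁ ha₁ ha₁Z b hb h7
    apply hu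
    rw [hHmem]
    refine ⟨a₀, ha₀, ?_⟩
    rw [map_mul, (hmk1 b).mpr hbZ, one_mul]
  · -- H abelian
    refine ⟨⟨fun u v => Subtype.ext ?_⟩⟩
    obtain ⟨a, ha, hau⟩ := (hHmem _).mp u.2
    obtain ⟨a', ha', hav⟩ := (hHmem _).mp v.2
    rw [Subgroup.coe_mul, Subgroup.coe_mul, ← hau, ← hav, ← map_mul, ← map_mul, hAc a ha a' ha']
  · -- the kernel is abelian
    have hker : ∀ u ∈ Cfsg.frobeniusKernel H, ∃ b ∈ B, ∃ z ∈ center G, u = mk (b * z) := by
      intro u hu
      obtain ⟨x, rfl⟩ := hmksurj u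
      obtain ⟨b, hb, a, ha, rfl⟩ := hd.factor x
      by_cases haZ : a ∈ center G
      · exact ⟨b, hb, a, haZ, rfl⟩
      · exfalso
        -- fixed point free action on the image of `B`
        obtain ⟨Bb, hBb⟩ : ∃ Bb : Subgroup (G ⧸ center G), Bb = B.map mk := ⟨_, rfl⟩
        have hBbn : Bb.Normal := by rw [hBb]; exact hBn.map mk hmksurj
        let φ : ↥Bb →* ↥Bb := (MulAut.conjNormal (mk a) : MulAut ↥Bb).toMonoidHom
        have hφ : ∀ t : ↥Bb, ((φ t : ↥Bb) : G ⧸ center G) = mk a * t * (mk a)⁻¹ := by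
          intro t
          exact MulAut.conjNormal_apply (mk a) t
        have hfpf : MonoidHom.FixedPointFree φ := by
          intro t ht
          have ht' : mk a * (t : G ⧸ center G) * (mk a)⁻¹ = t := by
            rw [← hφ, ht]
          have htB : (t : G ⧸ center G) ∈ B.map mk := hBb ▸ t.2
          obtain ⟨c, hc, hct⟩ := Subgroup.mem_map.mp htB
          rw [← hct, ← map_inv, ← map_mul, ← map_mul, hmkeq] at ht'
          have h3 : a⁻¹⁻¹ * c * a⁻¹ * c⁻¹ ∈ center G := by
            have h4 := (center G).inv_mem ht'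
            have h5 : ((a * c * a⁻¹)⁻¹ * c)⁻¹ = c⁻¹ * (a * c * a⁻¹) := by group
            rw [h5] at h4
            have h6 : c * (c⁻¹ * (a * c * a⁻¹)) * c⁻¹ ∈ center G :=
              (inferInstance : (center G).Normal).conj_mem _ h4 c
            have h7 : c * (c⁻¹ * (a * c * a⁻¹)) * c⁻¹ = a⁻¹⁻¹ * c * a⁻¹ * c⁻¹ := by group
            rwa [h7] at h6
          have h4 : a⁻¹ * c = c * a⁻¹ :=
            hd.commute_of_comm_central (A.inv_mem ha) hc h3
          have h5 : a * c = c * a := by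
            calc a * c = a * (c * a⁻¹) * a := by group
              _ = a * (a⁻¹ * c) * a := by rw [h4]
              _ = c * a := by group
          have hcZ := hF1 a ha haZ c hc h5
          apply Subtype.ext
          rw [← hct, (hmk1 c).mpr hcZ]; rfl
        have hsurj := hfpf.commutatorMap_surjective
        have hbBb : mk b ∈ Bb := by rw [hBb]; exact Subgroup.mem_map_of_mem mk hb
        obtain ⟨t, ht⟩ := hsurj ⟨mk b, hbBb⟩
        have htB : (t : G ⧸ center G) ∈ B.map mk := hBb ▸ t.2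
        obtain ⟨c, hc, hct⟩ := Subgroup.mem_map.mp htB
        have ht' : (t : G ⧸ center G) * (mk a * t * (mk a)⁻¹)⁻¹ = mk b := by
          have h1 := congrArg (fun s : ↥Bb => (s : G ⧸ center G)) ht
          simp only [MonoidHom.commutatorMap_apply, div_eq_mul_inv, Subgroup.coe_mul,
            Subgroup.coe_inv, hφ] at h1
          exact h1
        -- mk (b a) = conj (mk c) (mk a)
        have h8 : mk (b * a) = mk c * mk a * (mk c)⁻¹ := by
          rw [map_mul, ← ht', ← hct]; group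
        rcases hu with h1 | hall
        · rw [hmk1] at h1
          apply haZ
          -- b a central, so a commutes with b... use disjointness
          have h9 : a * b = b * a := by
            have := mem_center_iff.mp h1 a
            calc a * b = (a * (b * a)) * a⁻¹ := by group
              _ = (b * a * a) * a⁻¹ := by rw [this]
              _ = b * a := by group
          by_contra
          have hbZ := hF1 a ha haZ b hb h9
          apply haZ
          have := (center G).mul_mem ((center G).inv_mem hbZ) h1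
          simpa using this
        · apply hall (mk c)
          rw [Subgroup.mem_pointwise_smul_iff_inv_smul_mem, hHmem]
          refine ⟨a, ha, ?_⟩
          rw [h8, MulAut.smul_def, ← map_inv, MulAut.conj_apply]; group
    intro u hu v hv
    obtain ⟨b, hb, z, hz, rfl⟩ := hker u hu
    obtain ⟨b', hb', z', hz', rfl⟩ := hker v hv
    rw [← map_mul, ← map_mul]
    congr 1
    have hzc : ∀ t : G, t * z = z * t := fun t => mem_center_iff.mp hz t
    have hzc' : ∀ t : G, t * z' = z' * t := fun t => mem_center_iff.mp hz' t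
    calc b * z * (b' * z') = b * (z * b') * z' := by group
      _ = b * (b' * z) * z' := by rw [hzc b']
      _ = (b * b') * z * z' := by group
      _ = (b' * b) * z * z' := by rw [hBc b hb b' hb']
      _ = b' * ((b * z) * z') := by group
      _ = b' * (z' * (b * z)) := by rw [hzc' (b * z)]
      _ = b' * z' * (b * z) := by group

end Data

end Cfsg.Agent.Lib.Helper1.BHM
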