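import Mathlib
import Cfsg.Prelude.Def_Solvable
import Cfsg.Agent.Lib.Helper1.BHM5

set_option autoImplicit false

namespace Cfsg.Agent.Lib.Helper1.BHM

open Subgroup Pointwise

variable {G : Type*} [Group G]

theorem bhm [Finite G] (T : Set ℕ)
    (split : ∀ g : G, TNum T (idx g) ∨ TNum Tᶜ (idx g))
    (hX : ∃ x : G, idx x ≠ 1 ∧ TNum T (idx x))
    (hD : ∃ d : G, (∀ g : G, idx g ≤ idx d) ∧ TNum Tᶜ (idx d)) :
    ∃ H : Subgroup (G ⧸ center G), Cfsg.IsFrobeniusComplement H ∧ IsMulCommutative H ∧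
      ∀ x ∈ Cfsg.frobeniusKernel H, ∀ y ∈ Cfsg.frobeniusKernel H, x * y = y * x := by
  obtain ⟨d, hmax, hdT⟩ := hD
  obtain ⟨N, hN⟩ : ∃ N : Subgroup G, N = MulAction.stabilizer G (cls d) := ⟨_, rfl⟩
  have hNn : N.Normal := hN ▸ stab_normal d
  have hNcard : TNum Tᶜ (Nat.card N) := hdT.of_dvd (hN ▸ card_stab_dvd d)
  have hcentral : ∀ c : G, TNum T (idx c) → ∀ g : G, c⁻¹ * (g * c * g⁻¹) ∈ N := by
    intro c hc g
    rw [hN]
    exact comm_mem_stab (hc.coprime hdT) hmax g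
  have hcent : ∀ p : ℕ, p.Prime → p ∈ T → ¬ p ∣ (center (G ⧸ N)).index := by
    intro p hp hpT
    have : Fact p.Prime := ⟨hp⟩
    apply not_dvd_center_index
    intro q
    obtain ⟨g, rfl⟩ := QuotientGroup.mk'_surjective N q
    rcases split g with h | h
    · have hz : QuotientGroup.mk' N g ∈ center (G ⧸ N) := by
        rw [mem_center_iff]
        intro q'
        obtain ⟨g', rfl⟩ := QuotientGroup.mk'_surjective N q'
        rw [← map_mul, ← map_mul, QuotientGroup.mk'_apply, QuotientGroup.mk'_apply,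
          QuotientGroup.eq]
        have h1 := hcentral g h g'⁻¹
        have h2 : (g' * g)⁻¹ * (g * g') = g⁻¹ * (g'⁻¹ * g * g'⁻¹⁻¹) := by group
        rw [h2]; exact h1
      rw [idx_eq_one_iff.mpr hz]
      exact hp.not_dvd_one
    · intro hd'
      exact h p hp (hd'.trans (idx_mk_dvd N g)) hpT
  obtain ⟨B, hBn, hBcard, hBidx, hBcomm⟩ := exists_hall T N hNcard hcent
  obtain ⟨A, hA⟩ := Subgroup.exists_right_complement'_of_coprime (hBidx.coprime hBcard).symm
  exact Data.main ⟨split, hBn, hBcard, hBidx, hBcomm, hA⟩ hX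

theorem s4255 [Finite G] (S : Set ℕ)
    (hS : ∃ p ∈ S, (p.Prime ∧ ∃ g : G, p ∣ (Subgroup.centralizer ({g} : Set G)).index))
    (hS' : ∃ q ∉ S, (q.Prime ∧ ∃ g : G, q ∣ (Subgroup.centralizer ({g} : Set G)).index))
    (hdisc : ∀ p q : ℕ, (p.Prime ∧ ∃ g : G, p ∣ (Subgroup.centralizer ({g} : Set G)).index) →
      (q.Prime ∧ ∃ g : G, q ∣ (Subgroup.centralizer ({g} : Set G)).index) → p ∈ S → q ∉ S →
      ¬ (∃ g : G, p * q ∣ (Subgroup.centralizer ({g} : Set G)).index)) :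
    ∃ H : Subgroup (G ⧸ Subgroup.center G), Cfsg.IsFrobeniusComplement H ∧ IsMulCommutative H ∧
      ∀ x ∈ Cfsg.frobeniusKernel H, ∀ y ∈ Cfsg.frobeniusKernel H, x * y = y * x := by
  have split : ∀ g : G, TNum S (idx g) ∨ TNum Sᶜ (idx g) := by
    intro g
    by_cases h : TNum S (idx g)
    · left; exact h
    · right
      unfold TNum at h
      push Not at h
      obtain ⟨r, hr, hrd, hrS⟩ := h
      intro p hp hpd hpS
      apply hdisc p r ⟨hp, g, hpd⟩ ⟨hr, g, hrd⟩ hpS hrS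
      refine ⟨g, ?_⟩
      have hne : p ≠ r := fun h => hrS (h ▸ hpS)
      exact ((Nat.coprime_primes hp hr).mpr hne).mul_dvd_of_dvd_of_dvd hpd hrd
  have hXS : ∃ x : G, idx x ≠ 1 ∧ TNum S (idx x) := by
    obtain ⟨p, hpS, hp, g, hpd⟩ := hS
    have hpd' : p ∣ idx g := hpd
    refine ⟨g, ?_, ?_⟩
    · intro h; rw [h] at hpd'; exact hp.not_dvd_one hpd'
    · rcases split g with h | h
      · exact h
      · exact absurd hpS (h p hp hpd')
  have hXS' : ∃ x : G, idx x ≠ 1 ∧ TNum Sᶜ (idx x) := by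
    obtain ⟨p, hpS, hp, g, hpd⟩ := hS'
    have hpd' : p ∣ idx g := hpd
    refine ⟨g, ?_, ?_⟩
    · intro h; rw [h] at hpd'; exact hp.not_dvd_one hpd'
    · rcases split g with h | h
      · exact absurd (h p hp hpd') hpS
      · exact h
  obtain ⟨d, hmax⟩ : ∃ d : G, ∀ g : G, idx g ≤ idx d := Finite.exists_max idx
  rcases split d with h | h
  · apply bhm Sᶜ
    · intro g
      rcases split g with h1 | h1
      · right; rw [compl_compl]; exact h1
      · left; exact h1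
    · exact hXS'
    · exact ⟨d, hmax, by rw [compl_compl]; exact h⟩
  · exact bhm S split hXS ⟨d, hmax, h⟩

end Cfsg.Agent.Lib.Helper1.BHM
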