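import Mathlib

/-!
# Involutions of finite fields: fixed field, Frobenius description, norms of non-squares
-/

set_option autoImplicit false
set_option maxHeartbeats 4000000
set_option linter.unusedSimpArgs false
set_option linter.unusedVariables false
set_option linter.unusedSectionVars false

namespace Cfsg.Agent.Lib.Helper1.Bc

open Module

variable {F K : Type*} [Field F] [Field K] [Algebra F K]

/-- the fixed field of an algebra endomorphism -/
def fixF (τ : K →ₐ[F] K) : IntermediateField F K :=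
  Subalgebra.toIntermediateField (AlgHom.equalizer τ (AlgHom.id F K)) (by
    intro x hx
    rw [AlgHom.mem_equalizer] at hx ⊢
    rw [map_inv₀, hx, map_inv₀])

theorem mem_fixF (τ : K →ₐ[F] K) (x : K) : x ∈ fixF τ ↔ τ x = x := by
  show x ∈ (AlgHom.equalizer τ (AlgHom.id F K)) ↔ _
  rw [AlgHom.mem_equalizer]
  rfl

theorem exists_anti (τ : K →ₐ[F] K) (hτ : ∀ x, τ (τ x) = x) (hτ1 : ∃ x, τ x ≠ x) :
    ∃ ν : K, ν ≠ 0 ∧ τ ν = -ν := by
  obtain ⟨x, hx⟩ := hτ1
  refine ⟨x - τ x, ?_, ?_⟩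
  · intro h
    apply hx
    rw [sub_eq_zero] at h
    exact h.symm
  · rw [map_sub, hτ]
    ring

theorem half_add_mem (τ : K →ₐ[F] K) (hτ : ∀ x, τ (τ x) = x) (x : K) :
    (x + τ x) / 2 ∈ fixF τ := by
  rw [mem_fixF, map_div₀, map_add, hτ, map_ofNat, add_comm]

theorem half_sub_mem (τ : K →ₐ[F] K) (hτ : ∀ x, τ (τ x) = x) (ν : K) (hν : τ ν = -ν) (x : K) :
    (x - τ x) / (2 * ν) ∈ fixF τ := by
  rw [mem_fixF, map_div₀, map_sub, hτ, map_mul, map_ofNat, hν]
  rw [mul_neg, div_neg, ← neg_div, neg_sub]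

variable [Fintype F] [Fintype K]

theorem card_sq (τ : K →ₐ[F] K) (h2 : (2 : K) ≠ 0) (hτ : ∀ x, τ (τ x) = x)
    (hτ1 : ∃ x, τ x ≠ x) : Nat.card K = Nat.card (fixF τ) ^ 2 := by
  obtain ⟨ν, hν0, hν⟩ := exists_anti τ hτ hτ1
  have hbij : Function.Bijective
      (fun ab : ↥(fixF τ) × ↥(fixF τ) => ((ab.1 : K) + (ab.2 : K) * ν)) := by
    constructor
    · rintro ⟨a, b⟩ ⟨a', b'⟩ h
      simp only at h
      have ha : τ (a : K) = a := (mem_fixF τ _).mp a.2
      have hb : τ (b : K) = b := (mem_fixF τ _).mp b.2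
      have ha' : τ (a' : K) = a' := (mem_fixF τ _).mp a'.2
      have hb' : τ (b' : K) = b' := (mem_fixF τ _).mp b'.2
      have h' := congrArg τ h
      rw [map_add, map_add, map_mul, map_mul, ha, hb, ha', hb', hν] at h'
      have e1 : (2 : K) * a = 2 * a' := by linear_combination h + h'
      have e2 : (a : K) = a' := mul_left_cancel₀ h2 e1
      have e3 : (b : K) * ν = b' * ν := by
        rw [e2] at h
        exact add_left_cancel h
      have e4 : (b : K) = b' := mul_right_cancel₀ hν0 e3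
      exact Prod.ext (Subtype.ext e2) (Subtype.ext e4)
    · intro x
      refine ⟨(⟨(x + τ x) / 2, half_add_mem τ hτ x⟩,
        ⟨(x - τ x) / (2 * ν), half_sub_mem τ hτ ν hν x⟩), ?_⟩
      simp only
      field_simp
      ring
  rw [← Nat.card_eq_of_bijective _ hbij, Nat.card_prod, sq]

/-- an involution of a finite field is the Frobenius of its fixed field -/
theorem tau_eq_pow (τ : K →ₐ[F] K) (h2 : (2 : K) ≠ 0) (hτ : ∀ x, τ (τ x) = x)
    (hτ1 : ∃ x, τ x ≠ x) (x : K) : τ x = x ^ Nat.card (fixF τ) := by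
  classical
  have hfin : Fintype ↥(fixF τ) := Fintype.ofFinite _
  obtain ⟨d, hd⟩ : ∃ d : ℕ, Nat.card (fixF τ) = Fintype.card F ^ d := by
    refine ⟨finrank F (fixF τ), ?_⟩
    rw [Nat.card_eq_fintype_card]
    exact Module.card_eq_pow_finrank
  obtain ⟨σ, hσd⟩ : ∃ σ : K →ₐ[F] K, σ = (FiniteField.frobeniusAlgHom F K) ^ d := ⟨_, rfl⟩
  have hσ : ∀ y : K, σ y = y ^ Nat.card (fixF τ) := by
    intro y
    rw [hσd, AlgHom.coe_pow, FiniteField.coe_frobeniusAlgHom, pow_iterate, hd]
  suffices h : ∀ y, τ y = σ y by rw [h, hσ]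
  -- σ fixes the fixed field
  have hfix : ∀ a : K, τ a = a → σ a = a := by
    intro a ha
    have ha' : a ∈ fixF τ := (mem_fixF τ a).mpr ha
    have h1 : (⟨a, ha'⟩ : ↥(fixF τ)) ^ Fintype.card ↥(fixF τ) = ⟨a, ha'⟩ := FiniteField.pow_card _
    have h3 := congrArg (fun z : ↥(fixF τ) => (z : K)) h1
    simp only [SubmonoidClass.coe_pow] at h3
    rw [hσ, Nat.card_eq_fintype_card]
    exact h3
  have hdich : ∀ y : K, σ y = y ∨ σ y = τ y := by
    intro y
    have hS : σ (y + τ y) = y + τ y := hfix _ (by rw [map_add, hτ, add_comm])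
    have hP : σ (y * τ y) = y * τ y := hfix _ (by rw [map_mul, hτ, mul_comm])
    have h0 : (σ y - y) * (σ y - τ y) = 0 := by
      have e1 : (σ y - y) * (σ y - τ y) = σ y * σ y - (y + τ y) * σ y + y * τ y := by ring
      rw [e1]
      have e3 : σ (y * y - (y + τ y) * y + y * τ y) =
          σ y * σ y - (y + τ y) * σ y + y * τ y := by
        rw [map_add, map_sub, map_mul, map_mul, hS, hP]
      have e2 : y * y - (y + τ y) * y + y * τ y = 0 := by ring
      rw [← e3, e2, map_zero]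
    rcases mul_eq_zero.mp h0 with h | h
    · left; exact sub_eq_zero.mp h
    · right; exact sub_eq_zero.mp h
  -- some element is moved by σ
  have hmove : ∃ b : K, σ b ≠ b := by
    by_contra hcon
    push Not at hcon
    obtain ⟨g, hg⟩ := IsCyclic.exists_generator (α := Kˣ)
    have hord : orderOf g = Nat.card Kˣ := orderOf_eq_card_of_forall_mem_zpowers hg
    have hcardu : Nat.card Kˣ = Nat.card K - 1 := by
      rw [Nat.card_eq_fintype_card, Nat.card_eq_fintype_card, Fintype.card_units]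
    have hQ2 : 2 ≤ Nat.card (fixF τ) := by
      rw [Nat.card_eq_fintype_card]
      exact Fintype.one_lt_card
    have hg1 : (g : K) ^ Nat.card (fixF τ) = g := by rw [← hσ]; exact hcon _
    have hg2 : g ^ (Nat.card (fixF τ) - 1) = 1 := by
      apply Units.ext
      rw [Units.val_pow_eq_pow_val, Units.val_one]
      have hne : (g : K) ≠ 0 := g.ne_zero
      have e : (g : K) ^ (Nat.card (fixF τ) - 1) * g = 1 * g := by
        rw [← pow_succ, Nat.sub_add_cancel (by omega), one_mul]
        exact hg1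
      exact mul_right_cancel₀ hne e
    have hdvd := orderOf_dvd_of_pow_eq_one hg2
    rw [hord, hcardu, card_sq τ h2 hτ hτ1] at hdvd
    have hle := Nat.le_of_dvd (by omega) hdvd
    have e5 : Nat.card (fixF τ) ^ 2 = Nat.card (fixF τ) * Nat.card (fixF τ) := sq _
    have e6 : 2 * Nat.card (fixF τ) ≤ Nat.card (fixF τ) * Nat.card (fixF τ) :=
      Nat.mul_le_mul_right _ hQ2
    omega
  obtain ⟨b, hb⟩ := hmove
  have hbτ : σ b = τ b := by
    rcases hdich b with h | h
    · exact absurd h hb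
    · exact h
  intro y
  by_contra hy
  have hyσ : σ y = y := by
    rcases hdich y with h | h
    · exact h
    · exact absurd h.symm hy
  rcases hdich (y + b) with h | h
  · rw [map_add, hyσ] at h
    have : σ b = b := add_left_cancel h
    exact hb this
  · rw [map_add, map_add, hyσ, hbτ] at h
    have : y = τ y := add_right_cancel h
    apply hy
    rw [← this, hyσ]

theorem odd_card_of_two_ne (h2 : (2 : K) ≠ 0) : Odd (Fintype.card K) := by
  rcases Nat.even_or_odd (Fintype.card K) with h | h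
  · exfalso
    obtain ⟨p, hp⟩ := CharP.exists K
    have hpp : Fact p.Prime := ⟨CharP.char_is_prime K p⟩
    obtain ⟨n, hn1, hn2⟩ := FiniteField.card K p
    rw [hn2] at h
    have hpe : Even p := (Nat.even_pow.mp h).1
    have hp2 : p = 2 := (Nat.Prime.even_iff hpp.out).mp hpe
    apply h2
    have := CharP.cast_eq_zero K p
    rw [hp2] at this
    exact_mod_cast this
  · exact h

/-- the norm (to `F`) of `μ τ(μ)` is a non-square when `μ` is a non-square -/
theorem not_isSquare_norm (τ : K →ₐ[F] K) (h2 : (2 : K) ≠ 0) (hτ : ∀ x, τ (τ x) = x)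
    (hτ1 : ∃ x, τ x ≠ x) (μ : K) (hμ : ¬ IsSquare μ) (γ : ↥(fixF τ))
    (hγ : (γ : K) = μ * τ μ) : ¬ IsSquare (Algebra.norm F γ) := by
  classical
  have hfin : Fintype ↥(fixF τ) := Fintype.ofFinite _
  have hμ0 : μ ≠ 0 := by
    intro h
    apply hμ
    rw [h]
    exact ⟨0, by ring⟩
  have hτμ0 : τ μ ≠ 0 := by
    intro h
    apply hμ0
    have := congrArg τ h
    rwa [hτ, map_zero] at this
  have hγ0 : γ ≠ 0 := by
    intro h
    rw [h] at hγ
    have : μ * τ μ = 0 := by rw [← hγ]; rfl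
    rcases mul_eq_zero.mp this with h' | h'
    · exact hμ0 h'
    · exact hτμ0 h'
  rintro ⟨c, hc⟩
  have hn0 : Algebra.norm F γ ≠ 0 := Algebra.norm_ne_zero_iff.mpr hγ0
  have hc0 : c ≠ 0 := by
    intro h
    apply hn0
    rw [hc, h, mul_zero]
  have hoddK : Odd (Fintype.card K) := odd_card_of_two_ne h2
  obtain ⟨dK, hdK⟩ : ∃ dK : ℕ, Fintype.card K = Fintype.card F ^ dK :=
    ⟨finrank F K, Module.card_eq_pow_finrank⟩
  have hoddF : Odd (Fintype.card F) := by
    rw [hdK] at hoddK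
    rcases Nat.even_or_odd (Fintype.card F) with h | h
    · exfalso
      have hd0 : dK ≠ 0 := by
        intro h0
        rw [h0, pow_zero] at hdK
        have := Fintype.one_lt_card (α := K)
        omega
      have : Even (Fintype.card F ^ dK) := (Nat.even_pow.mpr ⟨h, hd0⟩)
      exact (Nat.not_even_iff_odd.mpr hoddK) this
    · exact h
  obtain ⟨b, hb⟩ := hoddF
  have hq1 : Fintype.card F - 1 = 2 * b := by omega
  have hcq : c ^ (Fintype.card F - 1) = 1 := FiniteField.pow_card_sub_one_eq_one c hc0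
  have hnb : (Algebra.norm F γ) ^ b = 1 := by
    rw [hc, ← sq, ← pow_mul, ← hq1]
    exact hcq
  obtain ⟨d, hd⟩ : ∃ d : ℕ, Nat.card (fixF τ) = Fintype.card F ^ d := by
    refine ⟨finrank F (fixF τ), ?_⟩
    rw [Nat.card_eq_fintype_card]
    exact Module.card_eq_pow_finrank
  obtain ⟨a, ha⟩ : ∃ a : ℕ, (Nat.card ↥(fixF τ) - 1) / (Nat.card F - 1) = a := ⟨_, rfl⟩
  have ha2 : a * (Fintype.card F - 1) = Nat.card (fixF τ) - 1 := by
    rw [← ha, Nat.card_eq_fintype_card (α := F)]
    apply Nat.div_mul_cancel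
    rw [hd]
    exact Nat.sub_one_dvd_pow_sub_one _ _
  have hnorm : algebraMap F ↥(fixF τ) (Algebra.norm F γ) = γ ^ a := by
    rw [← ha]
    exact FiniteField.algebraMap_norm_eq_pow
  have hnormK : algebraMap F K (Algebra.norm F γ) = (γ : K) ^ a := by
    rw [IsScalarTower.algebraMap_apply F ↥(fixF τ) K, hnorm]
    rfl
  have h1 : ((γ : K) ^ a) ^ b = 1 := by
    rw [← hnormK, ← map_pow, hnb, map_one]
  rw [hγ, tau_eq_pow τ h2 hτ hτ1 μ, ← pow_succ', ← pow_mul, ← pow_mul] at h1
  have hcK : Fintype.card K = Nat.card (fixF τ) ^ 2 := by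
    rw [← Nat.card_eq_fintype_card]
    exact card_sq τ h2 hτ hτ1
  have hQ2 : 2 ≤ Nat.card (fixF τ) := by
    rw [Nat.card_eq_fintype_card]
    exact Fintype.one_lt_card
  have hexp : (Nat.card (fixF τ) + 1) * a * b = Fintype.card K / 2 := by
    obtain ⟨Q, hQ⟩ : ∃ Q, Nat.card (fixF τ) = Q := ⟨_, rfl⟩
    rw [hQ] at ha2 hcK hQ2 ⊢
    rw [hq1] at ha2
    have e1 : 2 * ((Q + 1) * a * b) + 1 = Q ^ 2 := by
      have : (Q + 1) * (Q - 1) + 1 = Q ^ 2 := by
        obtain ⟨k, rfl⟩ : ∃ k, Q = k + 1 := ⟨Q - 1, by omega⟩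
        rw [Nat.add_sub_cancel]
        ring
      rw [← this, ← ha2]
      ring
    rw [hcK]
    omega
  rw [← mul_assoc, hexp] at h1
  have hchar : ringChar K ≠ 2 := by
    intro h
    apply h2
    have := ringChar.Nat.cast_ringChar (R := K)
    rw [h] at this
    exact_mod_cast this
  exact hμ ((FiniteField.isSquare_iff hchar hμ0).mpr h1)

end Cfsg.Agent.Lib.Helper1.Bc
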