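import Mathlib

/-!
# Twisted trace-type forms on a commutative algebra and their Gram determinants
-/

set_option autoImplicit false
set_option maxHeartbeats 4000000
set_option linter.unusedSimpArgs false
set_option linter.unusedVariables false
set_option linter.unusedSectionVars false

namespace Cfsg.Agent.Lib.Helper1.Bc

open Module

variable {F L : Type*} [Field F] [CommRing L] [Algebra F L]

/-- the form `(x, y) ↦ φ₀ (γ x y)` -/
def twF (φ₀ : L →ₗ[F] F) (γ : L) : LinearMap.BilinForm F L :=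
  LinearMap.mk₂ F (fun x y => φ₀ (γ * x * y))
    (by intro x x' y; rw [mul_add, add_mul, map_add])
    (by intro c x y; rw [mul_smul_comm, smul_mul_assoc, map_smul])
    (by intro x y y'; rw [mul_add, map_add])
    (by intro c x y; rw [mul_smul_comm, map_smul])

theorem twF_apply (φ₀ : L →ₗ[F] F) (γ x y : L) : twF φ₀ γ x y = φ₀ (γ * x * y) := rfl

theorem twF_isSymm (φ₀ : L →ₗ[F] F) (γ : L) : (twF φ₀ γ).IsSymm := by
  constructor
  intro x y
  rw [twF_apply, twF_apply, mul_assoc, mul_comm x y, ← mul_assoc]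

theorem toMatrix_twF (φ₀ : L →ₗ[F] F) (γ : L) {k : ℕ} (b : Basis (Fin k) F L) :
    LinearMap.BilinForm.toMatrix b (twF φ₀ γ) =
      LinearMap.BilinForm.toMatrix b (twF φ₀ 1) * Algebra.leftMulMatrix b γ := by
  ext i j
  rw [Matrix.mul_apply, LinearMap.BilinForm.toMatrix_apply, twF_apply]
  have h1 : ∀ l : Fin k, LinearMap.BilinForm.toMatrix b (twF φ₀ 1) i l *
      Algebra.leftMulMatrix b γ l j = φ₀ (b i * (b.repr (γ * b j) l • b l)) := by
    intro l
    rw [LinearMap.BilinForm.toMatrix_apply, twF_apply, Algebra.leftMulMatrix_eq_repr_mul, one_mul,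
      mul_smul_comm, map_smul, smul_eq_mul, mul_comm]
  rw [Finset.sum_congr rfl (fun l _ => h1 l), ← map_sum, ← Finset.mul_sum, b.sum_repr]
  congr 1
  ring

theorem det_toMatrix_twF (φ₀ : L →ₗ[F] F) (γ : L) {k : ℕ} (b : Basis (Fin k) F L) :
    (LinearMap.BilinForm.toMatrix b (twF φ₀ γ)).det =
      (LinearMap.BilinForm.toMatrix b (twF φ₀ 1)).det * Algebra.norm F γ := by
  rw [toMatrix_twF, Matrix.det_mul, Algebra.norm_eq_matrix_det b]

theorem det_toMatrix_of_ortho (B : LinearMap.BilinForm F L) {k : ℕ} (v : Basis (Fin k) F L)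
    (hv : B.IsOrthoᵢ v) : (LinearMap.BilinForm.toMatrix v B).det = ∏ i, B (v i) (v i) := by
  have h : LinearMap.BilinForm.toMatrix v B = Matrix.diagonal (fun i => B (v i) (v i)) := by
    ext i j
    rw [LinearMap.BilinForm.toMatrix_apply]
    by_cases hij : i = j
    · subst hij
      rw [Matrix.diagonal_apply_eq]
    · rw [Matrix.diagonal_apply_ne _ hij]
      exact LinearMap.isOrthoᵢ_def.mp hv i j hij
  rw [h, Matrix.det_diagonal]

/-- comparison of the diagonal products of two orthogonal bases -/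
theorem prod_orth (φ₀ : L →ₗ[F] F) (γ : L) {k : ℕ} (v v' : Basis (Fin k) F L)
    (hv : (twF φ₀ 1).IsOrthoᵢ v) (hv' : (twF φ₀ γ).IsOrthoᵢ v') :
    (∏ i, φ₀ (v i * v i)) * (∏ i, φ₀ (γ * v' i * v' i)) =
      ((v.toMatrix v').det * ∏ i, φ₀ (v i * v i)) ^ 2 * Algebra.norm F γ := by
  have h1 := det_toMatrix_of_ortho (twF φ₀ 1) v hv
  have h2 := det_toMatrix_of_ortho (twF φ₀ γ) v' hv'
  have h3 := LinearMap.BilinForm.toMatrix_mul_basis_toMatrix v v' (twF φ₀ γ)
  have h4 := congrArg Matrix.det h3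
  rw [Matrix.det_mul, Matrix.det_mul, Matrix.det_transpose, det_toMatrix_twF, h1, h2] at h4
  have e1 : ∀ i, (twF φ₀ 1) (v i) (v i) = φ₀ (v i * v i) := by
    intro i
    rw [twF_apply, one_mul]
  have e2 : ∀ i, (twF φ₀ γ) (v' i) (v' i) = φ₀ (γ * v' i * v' i) := fun i => twF_apply _ _ _ _
  rw [Finset.prod_congr rfl (fun i _ => e1 i), Finset.prod_congr rfl (fun i _ => e2 i)] at h4
  rw [← h4]
  ring

theorem det_toMatrix_ne_zero {k : ℕ} (v v' : Basis (Fin k) F L) : (v.toMatrix v').det ≠ 0 := by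
  intro h
  have h1 := Basis.toMatrix_mul_toMatrix_flip v v'
  have h2 := congrArg Matrix.det h1
  rw [Matrix.det_mul, h, zero_mul, Matrix.det_one] at h2
  exact zero_ne_one h2

end Cfsg.Agent.Lib.Helper1.Bc
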