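import Mathlib
import Cfsg.Agent.Lib.Helper1.BcA
import Cfsg.Agent.Lib.Helper1.BcB

/-!
# Hermitian lines over finite fields: orthogonal bases of the two reflection-type involutions
-/

set_option autoImplicit false
set_option maxHeartbeats 4000000
set_option linter.unusedSimpArgs false
set_option linter.unusedVariables false
set_option linter.unusedSectionVars false

namespace Cfsg.Agent.Lib.Helper1.Bc

open Module

variable {F K : Type*} [Field F] [Field K] [Algebra F K]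

theorem two_ne_zero_K (h2 : (2 : F) ≠ 0) : (2 : K) ≠ 0 := by
  intro h
  apply h2
  apply (algebraMap F K).injective
  rw [map_ofNat, map_zero]
  exact h

section herm

variable (τ : K →ₐ[F] K) (hτ : ∀ x, τ (τ x) = x) (φ : K →ₗ[F] F) (hφτ : ∀ z, φ (τ z) = φ z)

include hφτ in
theorem phi_anti (h2 : (2 : F) ≠ 0) (z : K) (hz : τ z = -z) : φ z = 0 := by
  have h := hφτ z
  rw [hz, map_neg] at h
  have e : (2 : F) * φ z = 0 := by linear_combination -h
  rcases mul_eq_zero.mp e with h' | h'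
  · exact absurd h' h2
  · exact h'

/-- restriction of `φ` to the fixed field -/
noncomputable def phi0 : ↥(fixF τ) →ₗ[F] F := φ ∘ₗ (fixF τ).val.toLinearMap

theorem phi0_apply (x : ↥(fixF τ)) : phi0 τ φ x = φ (x : K) := rfl

include hτ hφτ in
theorem sepLeft (h2 : (2 : F) ≠ 0) (hφ0 : ∃ z, φ z ≠ 0) (γ : ↥(fixF τ)) (hγ : γ ≠ 0) :
    (twF (phi0 τ φ) γ).SeparatingLeft := by
  intro x hx
  by_contra hx0
  obtain ⟨z, hz⟩ := hφ0
  have hw : z + τ z ∈ fixF τ := by
    rw [mem_fixF, map_add, hτ, add_comm]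
  have hφw : φ (z + τ z) ≠ 0 := by
    rw [map_add, hφτ]
    intro h
    have e : (2 : F) * φ z = 0 := by linear_combination h
    rcases mul_eq_zero.mp e with h' | h'
    · exact h2 h'
    · exact hz h'
  have h1 := hx ((⟨z + τ z, hw⟩ : ↥(fixF τ)) * (γ * x)⁻¹)
  rw [twF_apply] at h1
  have h3 : γ * x * ((⟨z + τ z, hw⟩ : ↥(fixF τ)) * (γ * x)⁻¹) = ⟨z + τ z, hw⟩ := by
    have : γ * x ≠ 0 := mul_ne_zero hγ hx0
    field_simp
  rw [h3, phi0_apply] at h1
  exact hφw h1

include hτ hφτ in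
/-- the two orthogonal families attached to `λ = μ / τ μ` -/
theorem exists_families [Fintype F] [Fintype K] (h2 : (2 : F) ≠ 0) (hφ0 : ∃ z, φ z ≠ 0)
    (μ : K) (hμ : μ ≠ 0) :
    ∃ (k : ℕ) (v v' : Fin k → K) (γ : ↥(fixF τ)), (γ : K) = μ * τ μ ∧
      (∀ i, τ (v i) = v i) ∧ (∀ i, τ (v' i) = v' i) ∧
      (∀ i j, i ≠ j → φ (v i * v j) = 0) ∧ (∀ i, φ (v i * v i) ≠ 0) ∧
      (∀ i j, i ≠ j → φ (μ * τ μ * v' i * v' j) = 0) ∧
      (∀ i, φ (μ * τ μ * v' i * v' i) ≠ 0) ∧
      (∀ x, τ x = x → x ∈ Submodule.span F (Set.range v)) ∧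
      (∀ x, τ x = x → x ∈ Submodule.span F (Set.range v')) ∧
      ∃ c : F, c ≠ 0 ∧ (∏ i, φ (v i * v i)) * (∏ i, φ (μ * τ μ * v' i * v' i)) =
        c ^ 2 * Algebra.norm F γ := by
  classical
  have hγmem : μ * τ μ ∈ fixF τ := by
    rw [mem_fixF, map_mul, hτ, mul_comm]
  obtain ⟨γ, hγd⟩ : ∃ γ : ↥(fixF τ), γ = ⟨μ * τ μ, hγmem⟩ := ⟨_, rfl⟩
  have hγK : (γ : K) = μ * τ μ := by rw [hγd]
  have hτμ : τ μ ≠ 0 := by
    intro h
    apply hμ
    have := congrArg τ h
    rwa [hτ, map_zero] at this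
  have hγ0 : γ ≠ 0 := by
    intro h
    have : (γ : K) = 0 := by rw [h]; rfl
    rw [hγK] at this
    exact mul_ne_zero hμ hτμ this
  have hinv : Invertible (2 : F) := invertibleOfNonzero h2
  obtain ⟨v, hv⟩ := LinearMap.BilinForm.exists_orthogonal_basis
    (LinearMap.BilinForm.isSymm_iff.mp (twF_isSymm (phi0 τ φ) (1 : ↥(fixF τ))))
  obtain ⟨v', hv'⟩ := LinearMap.BilinForm.exists_orthogonal_basis
    (LinearMap.BilinForm.isSymm_iff.mp (twF_isSymm (phi0 τ φ) γ))
  have hsep1 := sepLeft τ hτ φ hφτ h2 hφ0 (1 : ↥(fixF τ)) one_ne_zero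
  have hsepγ := sepLeft τ hτ φ hφτ h2 hφ0 γ hγ0
  have hd1 := LinearMap.IsOrthoᵢ.not_isOrtho_basis_self_of_separatingLeft hv hsep1
  have hdγ := LinearMap.IsOrthoᵢ.not_isOrtho_basis_self_of_separatingLeft hv' hsepγ
  have hspan : ∀ (b : Basis (Fin (finrank F ↥(fixF τ))) F ↥(fixF τ)) (x : K), τ x = x →
      x ∈ Submodule.span F (Set.range (fun i => ((b i : ↥(fixF τ)) : K))) := by
    intro b x hx
    have hxm : x ∈ fixF τ := (mem_fixF τ x).mpr hx
    have h1 : (⟨x, hxm⟩ : ↥(fixF τ)) ∈ Submodule.span F (Set.range b) := by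
      rw [b.span_eq]
      exact Submodule.mem_top
    have h3 := Submodule.mem_map_of_mem (f := (fixF τ).val.toLinearMap) h1
    rw [Submodule.map_span, ← Set.range_comp] at h3
    exact h3
  refine ⟨finrank F ↥(fixF τ), fun i => ((v i : ↥(fixF τ)) : K),
    fun i => ((v' i : ↥(fixF τ)) : K), γ, hγK, ?_, ?_, ?_, ?_, ?_, ?_, hspan v, hspan v', ?_⟩
  · intro i
    exact (mem_fixF τ _).mp (v i).2
  · intro i
    exact (mem_fixF τ _).mp (v' i).2
  · intro i j hij
    have h := LinearMap.isOrthoᵢ_def.mp hv i j hij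
    rw [twF_apply, one_mul, phi0_apply] at h
    exact h
  · intro i
    have h := hd1 i
    unfold LinearMap.IsOrtho at h
    rw [twF_apply, one_mul, phi0_apply] at h
    exact h
  · intro i j hij
    have h := LinearMap.isOrthoᵢ_def.mp hv' i j hij
    rw [twF_apply, phi0_apply] at h
    rw [← hγK]
    exact h
  · intro i
    have h := hdγ i
    unfold LinearMap.IsOrtho at h
    rw [twF_apply, phi0_apply] at h
    rw [← hγK]
    exact h
  · refine ⟨(v.toMatrix v').det * ∏ i, phi0 τ φ (v i * v i), ?_, ?_⟩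
    · apply mul_ne_zero (det_toMatrix_ne_zero v v')
      rw [Finset.prod_ne_zero_iff]
      intro i _
      have h := hd1 i
      unfold LinearMap.IsOrtho at h
      rw [twF_apply, one_mul] at h
      exact h
    · have h := prod_orth (phi0 τ φ) γ v v' hv hv'
      rw [← h, ← hγK]
      rfl

end herm

end Cfsg.Agent.Lib.Helper1.Bc
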