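import Mathlib
import Cfsg.Prelude
import Cfsg.Agent.Lib.Helper1.BcC
import Cfsg.Agent.Lib.Helper7.PsB

/-!
# From a hermitian line to a product of reflections
-/

set_option autoImplicit false
set_option maxHeartbeats 4000000
set_option linter.unusedSimpArgs false
set_option linter.unusedVariables false
set_option linter.unusedSectionVars false

namespace Cfsg.Agent.Lib.Helper1.Bc

open Module Matrix QuadraticMap
open Cfsg
open Cfsg.Agent.Lib.Helper5.SpinorNorm Cfsg.Agent.Lib.Helper7.PsB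

variable {ι : Type} [Fintype ι] [DecidableEq ι] {F : Type*} [Field F]
  {K : Type*} [Field K] [Algebra F K]

section vside

variable (Q : QuadraticForm F (ι → F)) (τ : K →ₐ[F] K) (hτ : ∀ x, τ (τ x) = x)
  (φ : K →ₗ[F] F) (hφτ : ∀ z, φ (τ z) = φ z) (ψ : K →ₗ[F] (ι → F)) (V₂ : Submodule F (ι → F))
  (h1 : ∀ x y, polar ⇑Q (ψ x) (ψ y) = φ (x * τ y))
  (hV₂ : ∀ x, ∀ w ∈ V₂, polar ⇑Q (ψ x) w = 0)

include hτ hφτ h1 hV₂ in
/-- the involution attached to `a` and an orthogonal family of the fixed field -/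
theorem invol (h2 : (2 : F) ≠ 0) (a : K) (ha : a ≠ 0) {k : ℕ} (v : Fin k → K)
    (hv : ∀ i, τ (v i) = v i)
    (horth : ∀ i j, i ≠ j → φ (a * τ a * v i * v j) = 0)
    (hne : ∀ i, φ (a * τ a * v i * v i) ≠ 0)
    (hspan : ∀ x, τ x = x → x ∈ Submodule.span F (Set.range v)) :
    (∀ i, Q (ψ (a * v i)) ≠ 0) ∧
    (∀ i, (2 : F) * Q (ψ (a * v i)) = φ (a * τ a * v i * v i)) ∧
    (∀ i j, i ≠ j → polar ⇑Q (ψ (a * v i)) (ψ (a * v j)) = 0) ∧
    ∀ (z : K) (w : ι → F), w ∈ V₂ →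
      rprod Q (famList (fun i => ψ (a * v i))) *ᵥ (ψ z + w) = ψ (-(a / τ a) * τ z) + w := by
  have h2K : (2 : K) ≠ 0 := two_ne_zero_K h2
  have hτa : τ a ≠ 0 := by
    intro h
    apply ha
    have := congrArg τ h
    rwa [hτ, map_zero] at this
  have hpol : ∀ i j, polar ⇑Q (ψ (a * v i)) (ψ (a * v j)) = φ (a * τ a * v i * v j) := by
    intro i j
    rw [h1, map_mul τ, hv]
    congr 1
    ring
  have hQ2 : ∀ i, (2 : F) * Q (ψ (a * v i)) = φ (a * τ a * v i * v i) := by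
    intro i
    rw [← hpol, QuadraticMap.polar_self]
    simp only [nsmul_eq_mul, Nat.cast_ofNat]
  have hQne : ∀ i, Q (ψ (a * v i)) ≠ 0 := by
    intro i h
    have := hQ2 i
    rw [h, mul_zero] at this
    exact hne i this.symm
  have horth' : ∀ i j, i ≠ j → polar ⇑Q (ψ (a * v i)) (ψ (a * v j)) = 0 := by
    intro i j hij
    rw [hpol]
    exact horth i j hij
  refine ⟨hQne, hQ2, horth', ?_⟩
  intro z w hw
  obtain ⟨y, hy⟩ : ∃ y : K, y = z / a := ⟨_, rfl⟩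
  obtain ⟨yp, hyp⟩ : ∃ yp : K, yp = (y + τ y) / 2 := ⟨_, rfl⟩
  obtain ⟨ym, hym⟩ : ∃ ym : K, ym = (y - τ y) / 2 := ⟨_, rfl⟩
  have hypf : τ yp = yp := by
    rw [hyp, map_div₀, map_add, hτ, map_ofNat, add_comm]
  have hymf : τ ym = -ym := by
    rw [hym, map_div₀, map_sub, hτ, map_ofNat]
    ring
  have hz : z = a * yp + a * ym := by
    rw [hyp, hym, hy]
    field_simp
    ring
  -- the fixed part lies in the span
  have hsp : ψ (a * yp) ∈ Submodule.span F (Set.range (fun i => ψ (a * v i))) := by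
    have h3 := Submodule.mem_map_of_mem (f := ψ ∘ₗ LinearMap.mulLeft F a) (hspan yp hypf)
    rw [Submodule.map_span, ← Set.range_comp] at h3
    exact h3
  -- the anti-fixed part is orthogonal
  have hperp : ∀ i, polar ⇑Q (ψ (a * v i)) (ψ (a * ym)) = 0 := by
    intro i
    rw [h1, map_mul τ, hymf]
    apply phi_anti τ φ hφτ h2
    rw [map_mul τ, map_mul τ, map_mul τ, hτ, map_neg τ, hymf, hv]
    ring
  have hperpw : ∀ i, polar ⇑Q (ψ (a * v i)) w = 0 := fun i => hV₂ _ w hw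
  have e1 := rprod_neg Q (fun i => ψ (a * v i)) hQne horth' _ hsp
  have e2 := rprod_fix' Q (fun i => ψ (a * v i)) _ hperp
  have e3 := rprod_fix' Q (fun i => ψ (a * v i)) _ hperpw
  rw [hz, map_add, Matrix.mulVec_add, Matrix.mulVec_add, e1, e2, e3]
  have e4 : -(a / τ a) * τ (a * yp + a * ym) = -(a * yp) + a * ym := by
    rw [map_add, map_mul, map_mul, hypf, hymf]
    field_simp
    ring
  rw [e4, map_add, map_neg]

include hτ hφτ h1 hV₂ in
/-- multiplication by `μ / τ μ` on the line, identity on `V₂`, as a product of reflections -/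
theorem rep [Fintype F] [Fintype K] (h2 : (2 : F) ≠ 0) (hφ0 : ∃ z, φ z ≠ 0) (μ : K)
    (hμ : μ ≠ 0) :
    ∃ vs : List (ι → F), (∀ v ∈ vs, Q v ≠ 0) ∧ Even vs.length ∧
      (∀ (z : K) (w : ι → F), w ∈ V₂ → rprod Q vs *ᵥ (ψ z + w) = ψ (μ / τ μ * z) + w) ∧
      ∃ (γ : ↥(fixF τ)) (c : F), (γ : K) = μ * τ μ ∧ c ≠ 0 ∧
        (vs.map Q).prod = c ^ 2 * Algebra.norm F γ := by
  classical
  obtain ⟨k, v, v', γ, hγ, hv, hv', ho, hn, ho', hn', hs, hs', c, hc0, hc⟩ :=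
    exists_families τ hτ φ hφτ h2 hφ0 μ hμ
  have hone : (1 : K) ≠ 0 := one_ne_zero
  have ho1 : ∀ i j, i ≠ j → φ (1 * τ 1 * v i * v j) = 0 := by
    intro i j hij
    rw [map_one, one_mul, one_mul]
    exact ho i j hij
  have hn1 : ∀ i, φ (1 * τ 1 * v i * v i) ≠ 0 := by
    intro i
    rw [map_one, one_mul, one_mul]
    exact hn i
  obtain ⟨hA1, hA2, hA3, hA4⟩ := invol Q τ hτ φ hφτ ψ V₂ h1 hV₂ h2 1 hone v hv ho1 hn1 hs
  obtain ⟨hB1, hB2, hB3, hB4⟩ := invol Q τ hτ φ hφτ ψ V₂ h1 hV₂ h2 μ hμ v' hv' ho' hn' hs'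
  refine ⟨famList (fun i => ψ (μ * v' i)) ++ famList (fun i => ψ (1 * v i)), ?_, ?_, ?_, ?_⟩
  · intro x hx
    rw [List.mem_append] at hx
    rcases hx with hx | hx
    · obtain ⟨i, rfl⟩ := (mem_famList _ x).mp hx
      exact hB1 i
    · obtain ⟨i, rfl⟩ := (mem_famList _ x).mp hx
      exact hA1 i
  · rw [List.length_append, famList_length, famList_length, Fintype.card_fin]
    exact ⟨k, rfl⟩
  · intro z w hw
    rw [rprod_append, ← Matrix.mulVec_mulVec, hA4 z w hw, hB4 _ w hw]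
    congr 2
    rw [map_one, div_one, map_mul, map_neg, map_one, hτ]
    ring
  · refine ⟨γ, (2 : F)⁻¹ ^ k * c, hγ, mul_ne_zero (pow_ne_zero _ (inv_ne_zero h2)) hc0, ?_⟩
    rw [List.map_append, List.prod_append, famList_prod, famList_prod]
    have e1 : ∀ i, Q (ψ (μ * v' i)) = (2 : F)⁻¹ * φ (μ * τ μ * v' i * v' i) := by
      intro i
      rw [← hB2 i, ← mul_assoc, inv_mul_cancel₀ h2, one_mul]
    have e2 : ∀ i, Q (ψ (1 * v i)) = (2 : F)⁻¹ * φ (v i * v i) := by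
      intro i
      have h := hA2 i
      simp only [map_one, one_mul] at h ⊢
      rw [← h, ← mul_assoc, inv_mul_cancel₀ h2, one_mul]
    rw [Finset.prod_congr rfl (fun i _ => e1 i), Finset.prod_congr rfl (fun i _ => e2 i),
      Finset.prod_mul_distrib, Finset.prod_mul_distrib, Finset.prod_const, Finset.card_univ,
      Fintype.card_fin]
    have : (∏ i, φ (μ * τ μ * v' i * v' i)) * (∏ i, φ (v i * v i)) = c ^ 2 * Algebra.norm F γ := by
      rw [mul_comm]; exact hc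
    calc (2 : F)⁻¹ ^ k * (∏ i, φ (μ * τ μ * v' i * v' i)) * ((2 : F)⁻¹ ^ k * ∏ i, φ (v i * v i))
        = ((2 : F)⁻¹ ^ k) ^ 2 * ((∏ i, φ (μ * τ μ * v' i * v' i)) * (∏ i, φ (v i * v i))) := by
          ring
      _ = ((2 : F)⁻¹ ^ k * c) ^ 2 * Algebra.norm F γ := by rw [this]; ring

end vside

end Cfsg.Agent.Lib.Helper1.Bc
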