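import Mathlib
import Cfsg.Agent.Lib.Helper5.HalfTorus.Irred

/-!
# An irreducible isometry turns its space into a hermitian line over `F[s]`
-/

set_option autoImplicit false
set_option maxHeartbeats 4000000
set_option linter.unusedSimpArgs false
set_option linter.unusedVariables false
set_option linter.unusedSectionVars false

namespace Cfsg.Agent.Lib.Helper1.Bc

open Module Polynomial

variable {F : Type*} [Field F] {W : Type*} [AddCommGroup W] [Module F W]

/-- evaluation of `F[X]/(g)` at an endomorphism killed by `g` -/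
noncomputable def evK (s : Module.End F W) (g : F[X]) (h : aeval s g = 0) :
    AdjoinRoot g →ₐ[F] Module.End F W :=
  Ideal.Quotient.liftₐ (Ideal.span {g}) (aeval s) (by
    intro a ha
    rw [Ideal.mem_span_singleton] at ha
    obtain ⟨c, rfl⟩ := ha
    rw [map_mul, h, zero_mul])

theorem evK_mk (s : Module.End F W) (g : F[X]) (h : aeval s g = 0) (f : F[X]) :
    evK s g h (AdjoinRoot.mk g f) = aeval s f := rfl

theorem evK_root (s : Module.End F W) (g : F[X]) (h : aeval s g = 0) :
    evK s g h (AdjoinRoot.root g) = s := by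
  have : AdjoinRoot.root g = AdjoinRoot.mk g X := rfl
  rw [this, evK_mk, aeval_X]

section adj

variable (B : LinearMap.BilinForm F W) (s t : Module.End F W)

theorem adj_pow (hst : ∀ x y, B (s x) y = B x (t y)) (n : ℕ) (x y : W) :
    B ((s ^ n) x) y = B x ((t ^ n) y) := by
  induction n generalizing x y with
  | zero => simp
  | succ n ih =>
    rw [pow_succ, pow_succ', Module.End.mul_apply, Module.End.mul_apply, ih, hst]

theorem adj_aeval (hst : ∀ x y, B (s x) y = B x (t y)) (f : F[X]) (x y : W) :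
    B ((aeval s f) x) y = B x ((aeval t f) y) := by
  induction f using Polynomial.induction_on' with
  | add p q hp hq =>
    rw [map_add, map_add, LinearMap.add_apply, LinearMap.add_apply, map_add,
      LinearMap.add_apply, map_add, hp, hq]
  | monomial n a =>
    rw [aeval_monomial, aeval_monomial]
    show B ((a • (1 : Module.End F W) * s ^ n) x) y = B x ((a • (1 : Module.End F W) * t ^ n) y)
    rw [smul_mul_assoc, smul_mul_assoc, one_mul, one_mul, LinearMap.smul_apply, LinearMap.smul_apply,
      map_smul, LinearMap.smul_apply, map_smul, adj_pow B s t hst]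

end adj

section main

variable [FiniteDimensional F W] [Nontrivial W]
  (B : LinearMap.BilinForm F W) (s : Module.End F W)
  (hsym : ∀ x y, B x y = B y x) (hnd : ∀ x, (∀ y, B x y = 0) → x = 0)
  (hiso : ∀ x y, B (s x) (s y) = B x y)
  (hirr : ∀ U : Submodule F W, (∀ w ∈ U, s w ∈ U) → U = ⊥ ∨ U = ⊤)
  [hfact : Fact (Irreducible (minpoly F s))]

/-- the field `F[s]` -/
abbrev KK : Type _ := AdjoinRoot (minpoly F s)

/-- evaluation -/
noncomputable def ev : KK s →ₐ[F] Module.End F W := evK s (minpoly F s) (minpoly.aeval F s)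

theorem ev_root : ev s (AdjoinRoot.root (minpoly F s)) = s := evK_root _ _ _

theorem ev_mk (f : F[X]) : ev s (AdjoinRoot.mk (minpoly F s) f) = aeval s f := rfl

theorem ev_injective : Function.Injective (ev s) := (ev s).toRingHom.injective

include hnd hiso in
theorem s_ne_zero : s ≠ 0 := by
  intro h
  obtain ⟨x, hx⟩ := exists_ne (0 : W)
  apply hx
  apply hnd
  intro y
  rw [← hiso, h, LinearMap.zero_apply, map_zero, LinearMap.zero_apply]

include hnd hiso in
theorem root_ne_zero : AdjoinRoot.root (minpoly F s) ≠ 0 := by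
  intro h
  apply s_ne_zero B s hnd hiso
  rw [← ev_root s, h, map_zero]

/-- the inverse of `s` -/
noncomputable def sinv : Module.End F W := ev s (AdjoinRoot.root (minpoly F s))⁻¹

include hnd hiso in
theorem s_mul_sinv : s * sinv s = 1 := by
  unfold sinv
  have h : ev s (AdjoinRoot.root (minpoly F s) * (AdjoinRoot.root (minpoly F s))⁻¹) = 1 := by
    rw [mul_inv_cancel₀ (root_ne_zero B s hnd hiso), map_one]
  rwa [map_mul, ev_root] at h

include hnd hiso in
theorem sinv_mul_s : sinv s * s = 1 := by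
  unfold sinv
  have h : ev s ((AdjoinRoot.root (minpoly F s))⁻¹ * AdjoinRoot.root (minpoly F s)) = 1 := by
    rw [inv_mul_cancel₀ (root_ne_zero B s hnd hiso), map_one]
  rwa [map_mul, ev_root] at h

include hnd hiso in
theorem adj_s (x y : W) : B (s x) y = B x (sinv s y) := by
  have h := LinearMap.congr_fun (s_mul_sinv B s hnd hiso) y
  rw [Module.End.mul_apply, Module.End.one_apply] at h
  nth_rewrite 1 [← h]
  rw [hiso]

include hsym hnd in
theorem right_nd (z : W) (h : ∀ x, B x z = 0) : z = 0 := by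
  apply hnd
  intro y
  rw [hsym]
  exact h y

include hsym hnd hiso in
theorem aeval_inv_root :
    aeval (AdjoinRoot.root (minpoly F s))⁻¹ (minpoly F s) = 0 := by
  apply ev_injective s
  rw [map_zero, ← aeval_algHom_apply]
  show aeval (sinv s) (minpoly F s) = 0
  apply LinearMap.ext
  intro y
  rw [LinearMap.zero_apply]
  apply right_nd B hsym hnd
  intro x
  rw [← adj_aeval B s (sinv s) (adj_s B s hnd hiso), minpoly.aeval, LinearMap.zero_apply,
    LinearMap.map_zero₂]

/-- the adjoint involution of `F[s]` -/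
noncomputable def tauK (hsym : ∀ x y, B x y = B y x) (hnd : ∀ x, (∀ y, B x y = 0) → x = 0)
    (hiso : ∀ x y, B (s x) (s y) = B x y) : KK s →ₐ[F] KK s :=
  Ideal.Quotient.liftₐ (Ideal.span {minpoly F s}) (aeval (AdjoinRoot.root (minpoly F s))⁻¹) (by
    intro a ha
    rw [Ideal.mem_span_singleton] at ha
    obtain ⟨c, rfl⟩ := ha
    rw [map_mul, aeval_inv_root B s hsym hnd hiso, zero_mul])

theorem tauK_mk (f : F[X]) :
    tauK B s hsym hnd hiso (AdjoinRoot.mk (minpoly F s) f) =
      aeval (AdjoinRoot.root (minpoly F s))⁻¹ f := rfl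

theorem tauK_root :
    tauK B s hsym hnd hiso (AdjoinRoot.root (minpoly F s)) = (AdjoinRoot.root (minpoly F s))⁻¹ := by
  show tauK B s hsym hnd hiso (AdjoinRoot.mk (minpoly F s) X) = _
  rw [tauK_mk, aeval_X]

theorem tauK_tauK (x : KK s) : tauK B s hsym hnd hiso (tauK B s hsym hnd hiso x) = x := by
  have h : (tauK B s hsym hnd hiso).comp (tauK B s hsym hnd hiso) = AlgHom.id F (KK s) := by
    apply AdjoinRoot.algHom_ext
    rw [AlgHom.comp_apply, tauK_root, map_inv₀, tauK_root, inv_inv]
    rfl
  have := congrArg (fun f : KK s →ₐ[F] KK s => f x) h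
  exact this

theorem adj_ev (e : KK s) (x y : W) :
    B (ev s e x) y = B x (ev s (tauK B s hsym hnd hiso e) y) := by
  induction e using AdjoinRoot.induction_on with
  | ih f =>
    rw [ev_mk, tauK_mk, ← aeval_algHom_apply]
    exact adj_aeval B s (sinv s) (adj_s B s hnd hiso) f x y

/-- the coordinate map -/
noncomputable def psiK (v₀ : W) : KK s →ₗ[F] W :=
  (LinearMap.applyₗ v₀) ∘ₗ (ev s).toLinearMap

theorem psiK_apply (v₀ : W) (e : KK s) : psiK s v₀ e = ev s e v₀ := rfl

theorem ev_psiK (v₀ : W) (e x : KK s) : ev s e (psiK s v₀ x) = psiK s v₀ (e * x) := by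
  rw [psiK_apply, psiK_apply, map_mul, Module.End.mul_apply]

theorem s_psiK (v₀ : W) (x : KK s) :
    s (psiK s v₀ x) = psiK s v₀ (AdjoinRoot.root (minpoly F s) * x) := by
  rw [← ev_psiK, ev_root]

theorem psiK_injective (v₀ : W) (hv₀ : v₀ ≠ 0) : Function.Injective (psiK s v₀) := by
  rw [injective_iff_map_eq_zero]
  intro e he
  by_contra hne
  apply hv₀
  have h1 : ev s e⁻¹ (psiK s v₀ e) = v₀ := by
    rw [ev_psiK, inv_mul_cancel₀ hne, psiK_apply, map_one, Module.End.one_apply]
  rw [← h1, he, map_zero]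

include hirr in
theorem psiK_surjective (v₀ : W) (hv₀ : v₀ ≠ 0) : Function.Surjective (psiK s v₀) := by
  rw [← LinearMap.range_eq_top]
  rcases hirr (LinearMap.range (psiK s v₀)) (by
    rintro w ⟨x, rfl⟩
    exact ⟨_, (s_psiK s v₀ x).symm⟩) with h | h
  · exfalso
    apply hv₀
    have : v₀ ∈ LinearMap.range (psiK s v₀) := ⟨1, by
      rw [psiK_apply, map_one, Module.End.one_apply]⟩
    rw [h] at this
    exact (Submodule.mem_bot F).mp this
  · exact h

/-- the linear functional -/
noncomputable def phiK (v₀ : W) : KK s →ₗ[F] F := (B v₀) ∘ₗ psiK s v₀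

theorem phiK_apply (v₀ : W) (z : KK s) : phiK B s v₀ z = B v₀ (psiK s v₀ z) := rfl

theorem form_psiK (v₀ : W) (x y : KK s) :
    B (psiK s v₀ x) (psiK s v₀ y) = phiK B s v₀ (x * tauK B s hsym hnd hiso y) := by
  rw [hsym, psiK_apply s v₀ y, adj_ev B s hsym hnd hiso, ev_psiK, phiK_apply, mul_comm]

theorem phiK_tau (v₀ : W) (z : KK s) :
    phiK B s v₀ (tauK B s hsym hnd hiso z) = phiK B s v₀ z := by
  rw [phiK_apply, psiK_apply, ← adj_ev B s hsym hnd hiso, hsym, ← psiK_apply, ← phiK_apply]

include hnd hirr in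
theorem phiK_ne_zero (v₀ : W) (hv₀ : v₀ ≠ 0) : ∃ z, phiK B s v₀ z ≠ 0 := by
  by_contra hcon
  push Not at hcon
  apply hv₀
  apply hnd
  intro y
  obtain ⟨z, rfl⟩ := psiK_surjective s hirr v₀ hv₀ y
  exact hcon z

theorem tauK_ne_id (hs2 : s * s ≠ 1) :
    ∃ x, tauK B s hsym hnd hiso x ≠ x := by
  refine ⟨AdjoinRoot.root (minpoly F s), ?_⟩
  rw [tauK_root]
  intro h
  apply hs2
  have h0 := root_ne_zero B s hnd hiso
  have h1 : AdjoinRoot.root (minpoly F s) * AdjoinRoot.root (minpoly F s) = 1 := by
    nth_rewrite 1 [← h]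
    exact inv_mul_cancel₀ h0
  have := congrArg (ev s) h1
  rwa [map_mul, ev_root, map_one] at this

theorem root_mul_tau :
    AdjoinRoot.root (minpoly F s) * tauK B s hsym hnd hiso (AdjoinRoot.root (minpoly F s)) = 1 := by
  rw [tauK_root]
  exact mul_inv_cancel₀ (root_ne_zero B s hnd hiso)

theorem root_pow_eq_one_iff (j : ℕ) : (AdjoinRoot.root (minpoly F s)) ^ j = 1 ↔ s ^ j = 1 := by
  constructor
  · intro h
    have := congrArg (ev s) h
    rwa [map_pow, ev_root, map_one] at this
  · intro h
    apply ev_injective s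
    rw [map_pow, ev_root, map_one, h]

theorem finite_KK [Finite F] : Finite (KK s) := by
  have hne : minpoly F s ≠ 0 := hfact.out.ne_zero
  have : Module.Finite F (KK s) := (AdjoinRoot.powerBasis hne).finite
  exact Module.finite_of_finite F

include hirr in
theorem card_KK (v₀ : W) (hv₀ : v₀ ≠ 0) : Nat.card (KK s) = Nat.card W :=
  Nat.card_eq_of_bijective _ ⟨psiK_injective s v₀ hv₀, psiK_surjective s hirr v₀ hv₀⟩

end main

end Cfsg.Agent.Lib.Helper1.Bc
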