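import Mathlib
import Cfsg.Agent.Lib.Helper5.SpecSL.Count
import Cfsg.Agent.Lib.Helper5.HalfTorus.Irred

/-!
# Linear algebra of an isometry of finite order: splitting, orthogonality, the three-dimensional lemma
-/

set_option autoImplicit false
set_option maxHeartbeats 4000000
set_option linter.unusedSimpArgs false
set_option linter.unusedVariables false
set_option linter.unusedSectionVars false

namespace Cfsg.Agent.Lib.Helper1.Bc

open Module

variable {F : Type*} [Field F] {V : Type*} [AddCommGroup V] [Module F V]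

theorem pow_fix (A : End F V) (v : V) (h : A v = v) (i : ℕ) : (A ^ i) v = v := by
  induction i with
  | zero => rw [pow_zero, Module.End.one_apply]
  | succ i ih => rw [pow_succ, Module.End.mul_apply, h, ih]

theorem mem_ker_sub_one (A : End F V) (v : V) : v ∈ LinearMap.ker (A - 1) ↔ A v = v := by
  rw [LinearMap.mem_ker, LinearMap.sub_apply, Module.End.one_apply, sub_eq_zero]

theorem disjoint_range_ker (A : End F V) (k : ℕ) (hk : (k : F) ≠ 0) (hA : A ^ k = 1) :
    Disjoint (LinearMap.range (A - 1)) (LinearMap.ker (A - 1)) := by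
  rw [Submodule.disjoint_def]
  rintro v ⟨w, rfl⟩ hv
  rw [mem_ker_sub_one] at hv
  have hS : (∑ i ∈ Finset.range k, A ^ i) ((A - 1) w) = (k : F) • ((A - 1) w) := by
    rw [LinearMap.sum_apply, Finset.sum_congr rfl (fun i _ => pow_fix A _ hv i), Finset.sum_const,
      Finset.card_range, Nat.cast_smul_eq_nsmul]
  have hS0 : (∑ i ∈ Finset.range k, A ^ i) ((A - 1) w) = 0 := by
    rw [← Module.End.mul_apply, geom_sum_mul, hA, sub_self, LinearMap.zero_apply]
  rw [hS0] at hS
  exact (smul_eq_zero.mp hS.symm).resolve_left hk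

theorem isCompl_range_ker [FiniteDimensional F V] (A : End F V) (k : ℕ) (hk : (k : F) ≠ 0)
    (hA : A ^ k = 1) : IsCompl (LinearMap.range (A - 1)) (LinearMap.ker (A - 1)) := by
  have hd := disjoint_range_ker A k hk hA
  refine ⟨hd, ?_⟩
  rw [codisjoint_iff]
  exact Submodule.eq_top_of_disjoint _ _ (LinearMap.finrank_range_add_finrank_ker (A - 1)).ge hd

theorem ortho_range_ker (B : LinearMap.BilinForm F V) (A : End F V)
    (hiso : ∀ x y, B (A x) (A y) = B x y) (v w : V) (hv : v ∈ LinearMap.range (A - 1))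
    (hw : w ∈ LinearMap.ker (A - 1)) : B v w = 0 := by
  obtain ⟨x, rfl⟩ := hv
  rw [mem_ker_sub_one] at hw
  rw [LinearMap.sub_apply, Module.End.one_apply, map_sub, LinearMap.sub_apply]
  nth_rewrite 1 [← hw]
  rw [hiso, sub_self]

theorem comm_sub_one (A C : End F V) (hc : Commute A C) : (A - 1) * C = C * (A - 1) := by
  rw [sub_mul, mul_sub, hc.eq, one_mul, mul_one]

theorem range_invariant (A C : End F V) (hc : Commute A C) (v : V)
    (hv : v ∈ LinearMap.range (A - 1)) : C v ∈ LinearMap.range (A - 1) := by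
  obtain ⟨x, rfl⟩ := hv
  refine ⟨C x, ?_⟩
  exact LinearMap.congr_fun (comm_sub_one A C hc) x

theorem ker_invariant (A C : End F V) (hc : Commute A C) (v : V)
    (hv : v ∈ LinearMap.ker (A - 1)) : C v ∈ LinearMap.ker (A - 1) := by
  rw [LinearMap.mem_ker] at hv ⊢
  have := LinearMap.congr_fun (comm_sub_one A C hc) v
  rw [Module.End.mul_apply, Module.End.mul_apply, hv, map_zero] at this
  exact this

theorem nd_left (B : LinearMap.BilinForm F V) (hnd : ∀ x, (∀ y, B x y = 0) → x = 0)
    (V₁ V₂ : Submodule F V) (hc : IsCompl V₁ V₂) (horth : ∀ v ∈ V₁, ∀ w ∈ V₂, B v w = 0)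
    (v : V) (hv : v ∈ V₁) (h : ∀ y ∈ V₁, B v y = 0) : v = 0 := by
  apply hnd
  intro y
  have hy : y ∈ V₁ ⊔ V₂ := by rw [hc.sup_eq_top]; trivial
  obtain ⟨y₁, hy₁, y₂, hy₂, rfl⟩ := Submodule.mem_sup.mp hy
  rw [map_add, h y₁ hy₁, horth v hv y₂ hy₂, add_zero]

theorem nd_right (B : LinearMap.BilinForm F V) (hsym : ∀ x y, B x y = B y x)
    (hnd : ∀ x, (∀ y, B x y = 0) → x = 0)
    (V₁ V₂ : Submodule F V) (hc : IsCompl V₁ V₂) (horth : ∀ v ∈ V₁, ∀ w ∈ V₂, B v w = 0)
    (w : V) (hw : w ∈ V₂) (h : ∀ y ∈ V₂, B w y = 0) : w = 0 := by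
  apply hnd
  intro y
  have hy : y ∈ V₁ ⊔ V₂ := by rw [hc.sup_eq_top]; trivial
  obtain ⟨y₁, hy₁, y₂, hy₂, rfl⟩ := Submodule.mem_sup.mp hy
  rw [map_add, h y₂ hy₂, hsym, horth y₁ hy₁ w hw, add_zero]

/-- a nilpotent map has a nonzero kernel vector in every nonzero invariant subspace -/
theorem exists_ker_of_nilpotent (Nl : End F V) (E : Submodule F V) (hE : ∀ v ∈ E, Nl v ∈ E) :
    ∀ j : ℕ, ∀ v ∈ E, v ≠ 0 → (Nl ^ j) v = 0 → ∃ w ∈ E, w ≠ 0 ∧ Nl w = 0 := by
  intro j
  induction j with
  | zero =>
    intro v hv hv0 h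
    rw [pow_zero, Module.End.one_apply] at h
    exact absurd h hv0
  | succ j ih =>
    intro v hv hv0 h
    by_cases h1 : Nl v = 0
    · exact ⟨v, hv, hv0, h1⟩
    · apply ih (Nl v) (hE v hv) h1
      rw [← Module.End.mul_apply, ← pow_succ]
      exact h

section three

variable {E : Type*} [AddCommGroup E] [Module F E] [FiniteDimensional F E]

/-- the kernel of `u - 1` is a line, for a nontrivial unipotent isometry of a non-degenerate
three-dimensional space -/
theorem ker_line (hE : finrank F E = 3) (B : LinearMap.BilinForm F E)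
    (hsym : ∀ x y, B x y = B y x) (hnd : ∀ x, (∀ y, B x y = 0) → x = 0) (h2 : (2 : F) ≠ 0)
    (u : End F E) (hu : ∀ x y, B (u x) (u y) = B x y) (j : ℕ) (hnil : (u - 1) ^ j = 0)
    (hu1 : u ≠ 1) :
    ∃ a : E, a ≠ 0 ∧ u a = a ∧ ∀ k : E, u k = k → ∃ c : F, k = c • a := by
  have hnt : Nontrivial E := by
    apply Module.nontrivial_of_finrank_pos (R := F)
    omega
  obtain ⟨v0, hv0⟩ := exists_ne (0 : E)
  obtain ⟨a, -, ha0, ha⟩ := exists_ker_of_nilpotent (u - 1) ⊤ (fun _ _ => Submodule.mem_top) j v0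
    Submodule.mem_top hv0 (by rw [hnil, LinearMap.zero_apply])
  have hua : u a = a := (mem_ker_sub_one u a).mp (LinearMap.mem_ker.mpr ha)
  refine ⟨a, ha0, hua, ?_⟩
  -- dimension of the kernel
  have hrk := LinearMap.finrank_range_add_finrank_ker (u - 1)
  rw [hE] at hrk
  have hk1 : 1 ≤ finrank F (LinearMap.ker (u - 1)) := by
    rw [Nat.one_le_iff_ne_zero]
    intro h
    rw [Submodule.finrank_eq_zero] at h
    have : a ∈ LinearMap.ker (u - 1) := LinearMap.mem_ker.mpr ha
    rw [h] at this
    exact ha0 ((Submodule.mem_bot F).mp this)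
  have hk3 : finrank F (LinearMap.ker (u - 1)) ≠ 3 := by
    intro h
    have h3 : LinearMap.ker (u - 1) = ⊤ := by
      apply Submodule.eq_top_of_finrank_eq
      rw [h, hE]
    rw [LinearMap.ker_eq_top] at h3
    exact hu1 (sub_eq_zero.mp h3)
  have hk : finrank F (LinearMap.ker (u - 1)) = 1 := by
    by_contra hne
    have hr1 : finrank F (LinearMap.range (u - 1)) = 1 := by omega
    obtain ⟨⟨b, hbr⟩, hb0, hb⟩ := finrank_eq_one_iff'.mp hr1
    have hb0' : b ≠ 0 := by
      intro h
      apply hb0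
      exact Subtype.ext h
    have hNl : ∀ x : E, ∃ c : F, (u - 1) x = c • b := by
      intro x
      obtain ⟨c, hc⟩ := hb ⟨(u - 1) x, ⟨x, rfl⟩⟩
      refine ⟨c, ?_⟩
      have := congrArg Subtype.val hc
      exact this.symm
    -- b is orthogonal to the kernel
    have hbk : ∀ k : E, u k = k → B b k = 0 := by
      intro k hk
      exact ortho_range_ker B u hu b k hbr ((mem_ker_sub_one u k).mpr hk)
    -- b lies in the kernel
    have hbb : (u - 1) b = 0 := by
      obtain ⟨c, hc⟩ := hNl b
      have hpow : ∀ i : ℕ, ((u - 1) ^ i) b = c ^ i • b := by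
        intro i
        induction i with
        | zero => rw [pow_zero, pow_zero, Module.End.one_apply, one_smul]
        | succ i ih => rw [pow_succ, Module.End.mul_apply, hc, map_smul, ih, smul_smul, pow_succ']
      have h1 := hpow j
      rw [hnil, LinearMap.zero_apply] at h1
      have h2' : c ^ j = 0 := (smul_eq_zero.mp h1.symm).resolve_right hb0'
      have hc0 : c = 0 := eq_zero_of_pow_eq_zero h2'
      rw [hc, hc0, zero_smul]
    have hub : u b = b := (mem_ker_sub_one u b).mp (LinearMap.mem_ker.mpr hbb)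
    have hBbb : B b b = 0 := hbk b hub
    -- the key dichotomy
    have hdich : ∀ x : E, (u - 1) x = 0 ∨ B x b = 0 := by
      intro x
      obtain ⟨c, hc⟩ := hNl x
      have hux : u x = x + c • b := by
        rw [LinearMap.sub_apply, Module.End.one_apply, sub_eq_iff_eq_add] at hc
        rw [hc, add_comm]
      have h3 := hu x x
      rw [hux] at h3
      simp only [map_add, map_smul, LinearMap.add_apply, LinearMap.smul_apply, smul_eq_mul, hBbb,
        hsym b x, mul_zero, add_zero] at h3
      have h4 : (2 : F) * (c * B x b) = 0 := by linear_combination h3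
      rcases mul_eq_zero.mp ((mul_eq_zero.mp h4).resolve_left h2) with h | h
      · left
        rw [hc, h, zero_smul]
      · right
        exact h
    obtain ⟨x, hx⟩ : ∃ x : E, (u - 1) x ≠ 0 := by
      by_contra hcon
      push Not at hcon
      apply hu1
      apply sub_eq_zero.mp
      apply LinearMap.ext
      intro x
      rw [hcon x, LinearMap.zero_apply]
    obtain ⟨y, hy⟩ : ∃ y : E, B y b ≠ 0 := by
      by_contra hcon
      push Not at hcon
      apply hb0'
      apply hnd
      intro y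
      rw [hsym]
      exact hcon y
    have hxb : B x b = 0 := (hdich x).resolve_left hx
    have hyk : (u - 1) y = 0 := (hdich y).resolve_right hy
    rcases hdich (x + y) with h | h
    · rw [map_add, hyk, add_zero] at h
      exact hx h
    · rw [map_add, LinearMap.add_apply, hxb, zero_add] at h
      exact hy h
  have ha' : (⟨a, LinearMap.mem_ker.mpr ha⟩ : LinearMap.ker (u - 1)) ≠ 0 := by
    intro h
    apply ha0
    exact congrArg Subtype.val h
  have hspan := (finrank_eq_one_iff_of_nonzero' _ ha').mp hk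
  intro k hk'
  obtain ⟨c, hc⟩ := hspan ⟨k, (mem_ker_sub_one u k).mpr hk'⟩
  refine ⟨c, ?_⟩
  have := congrArg Subtype.val hc
  exact this.symm

/-- a semisimple isometry commuting with a nontrivial unipotent isometry of a non-degenerate
three-dimensional space is `±1` -/
theorem three_dim (hE : finrank F E = 3) (B : LinearMap.BilinForm F E)
    (hsym : ∀ x y, B x y = B y x) (hnd : ∀ x, (∀ y, B x y = 0) → x = 0) (h2 : (2 : F) ≠ 0)
    (u t : End F E) (hu : ∀ x y, B (u x) (u y) = B x y) (ht : ∀ x y, B (t x) (t y) = B x y)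
    (hc : Commute u t) (j : ℕ) (hnil : (u - 1) ^ j = 0) (hu1 : u ≠ 1)
    (M : ℕ) (hM : (M : F) ≠ 0) (htM : t ^ M = 1) :
    ∃ ε : F, ε * ε = 1 ∧ t = ε • (1 : End F E) := by
  obtain ⟨a, ha0, hua, hline⟩ := ker_line hE B hsym hnd h2 u hu j hnil hu1
  -- `t` preserves the line
  have huta : u (t a) = t a := by
    have := LinearMap.congr_fun hc.eq a
    rw [Module.End.mul_apply, Module.End.mul_apply, hua] at this
    exact this
  obtain ⟨ε, hε⟩ := hline (t a) huta
  have hpow : ∀ i : ℕ, (t ^ i) a = ε ^ i • a := by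
    intro i
    induction i with
    | zero => rw [pow_zero, pow_zero, Module.End.one_apply, one_smul]
    | succ i ih => rw [pow_succ, Module.End.mul_apply, hε, map_smul, ih, smul_smul, pow_succ']
  have hεM : ε ^ M = 1 := by
    have h1 := hpow M
    rw [htM, Module.End.one_apply] at h1
    have h3 : (ε ^ M - 1) • a = 0 := by rw [sub_smul, one_smul, ← h1, sub_self]
    exact sub_eq_zero.mp ((smul_eq_zero.mp h3).resolve_right ha0)
  have hε0 : ε ≠ 0 := by
    rintro rfl
    have hM0 : M ≠ 0 := by
      rintro rfl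
      exact hM Nat.cast_zero
    rw [zero_pow hM0] at hεM
    exact zero_ne_one hεM
  obtain ⟨t', ht'⟩ : ∃ t' : End F E, t' = ε⁻¹ • t := ⟨_, rfl⟩
  have ht'M : t' ^ M = 1 := by
    rw [ht', smul_pow, htM, inv_pow, hεM, inv_one, one_smul]
  have ht'a : t' a = a := by
    rw [ht', LinearMap.smul_apply, hε, smul_smul, inv_mul_cancel₀ hε0, one_smul]
  have hcompl := isCompl_range_ker t' M hM ht'M
  have hct' : Commute t' (u - 1) := by
    rw [ht']
    apply Commute.smul_left
    exact (hc.symm.sub_right (Commute.one_right t))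
  have hrange : LinearMap.range (t' - 1) = ⊥ := by
    by_contra hne
    obtain ⟨v, hv, hv0⟩ := (Submodule.ne_bot_iff _).mp hne
    obtain ⟨w, hw, hw0, hNw⟩ := exists_ker_of_nilpotent (u - 1) (LinearMap.range (t' - 1))
      (fun x hx => range_invariant t' (u - 1) hct' x hx) j v hv hv0
      (by rw [hnil, LinearMap.zero_apply])
    have huw : u w = w := (mem_ker_sub_one u w).mp (LinearMap.mem_ker.mpr hNw)
    obtain ⟨c, hcw⟩ := hline w huw
    have ht'w : t' w = w := by rw [hcw, map_smul, ht'a]
    have hwk : w ∈ LinearMap.ker (t' - 1) := (mem_ker_sub_one t' w).mpr ht'w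
    have := Submodule.disjoint_def.mp hcompl.disjoint w hw hwk
    exact hw0 this
  have ht1 : t' = 1 := by
    rw [LinearMap.range_eq_bot] at hrange
    exact sub_eq_zero.mp hrange
  have htε : t = ε • (1 : End F E) := by
    rw [← ht1, ht', smul_smul, mul_inv_cancel₀ hε0, one_smul]
  refine ⟨ε, ?_, htε⟩
  -- ε² = 1 from the isometry property
  obtain ⟨y, hy⟩ : ∃ y : E, B a y ≠ 0 := by
    by_contra hcon
    push Not at hcon
    exact ha0 (hnd a hcon)
  have h3 := ht a y
  rw [htε] at h3
  simp only [LinearMap.smul_apply, Module.End.one_apply, map_smul, smul_eq_mul] at h3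
  have h4 : (ε * ε - 1) * B a y = 0 := by linear_combination h3
  exact sub_eq_zero.mp ((mul_eq_zero.mp h4).resolve_right hy)

end three

end Cfsg.Agent.Lib.Helper1.Bc
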