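import Mathlib
import Cfsg.Agent.Lib.Helper1.BcF
import Cfsg.Agent.Lib.Helper5.HalfTorus.NoExist

/-!
# Structure of an isometry of order `p (q ^ m + 1)` of a space of dimension `2 m + 3`
-/

set_option autoImplicit false
set_option maxHeartbeats 4000000
set_option linter.unusedSimpArgs false
set_option linter.unusedVariables false
set_option linter.unusedSectionVars false

namespace Cfsg.Agent.Lib.Helper1.Bc

open Module
open Cfsg.Agent.Lib.Helper5.SpecSL Cfsg.Agent.Lib.Helper5.HalfTorus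

section gen

variable {F : Type*} [Field F] {V : Type*} [AddCommGroup V] [Module F V]

theorem iso_pow (B : LinearMap.BilinForm F V) (X : End F V)
    (hiso : ∀ x y, B (X x) (X y) = B x y) (k : ℕ) (x y : V) : B ((X ^ k) x) ((X ^ k) y) = B x y := by
  induction k with
  | zero => rw [pow_zero, Module.End.one_apply, Module.End.one_apply]
  | succ k ih => rw [pow_succ', Module.End.mul_apply, Module.End.mul_apply, hiso, ih]

theorem restrict_pow_coe (X : End F V) (W : Submodule F V) (h : ∀ v ∈ W, X v ∈ W) (k : ℕ)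
    (v : W) : (((X.restrict h) ^ k) v : V) = (X ^ k) (v : V) := by
  induction k generalizing v with
  | zero => rw [pow_zero, pow_zero, Module.End.one_apply, Module.End.one_apply]
  | succ k ih =>
    rw [pow_succ, pow_succ, Module.End.mul_apply, Module.End.mul_apply, ih]
    rfl

theorem restrict_pow_eq_one (X : End F V) (W : Submodule F V) (h : ∀ v ∈ W, X v ∈ W) (k : ℕ)
    (hk : ∀ v ∈ W, (X ^ k) v = v) : (X.restrict h) ^ k = 1 := by
  apply LinearMap.ext
  intro v
  apply Subtype.ext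
  rw [restrict_pow_coe, Module.End.one_apply]
  exact hk v v.2

theorem sub_one_pow_char (p : ℕ) [Fact p.Prime] [CharP F p] (U : End F V) :
    (U - 1) ^ p = U ^ p - 1 := by
  have h : ((Polynomial.X : Polynomial F) - 1) ^ p = Polynomial.X ^ p - 1 := by
    rw [sub_pow_char, one_pow]
  have := congrArg (Polynomial.aeval U) h
  simpa using this

end gen

section fin

variable {F : Type*} [Field F] [Fintype F] {V : Type*} [AddCommGroup V] [Module F V] [Finite V]

/-- the splitting attached to the power of order `r` -/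
theorem stage1 (B : LinearMap.BilinForm F V) (X : End F V)
    (hiso : ∀ x y, B (X x) (X y) = B x y)
    (m : ℕ) (hm : 2 ≤ m) (hdim : finrank F V = 2 * m + 3) (e : ℕ) (r : ℕ) (hr : r.Prime)
    (hXr : (X ^ e) ^ r = 1) (hX1 : X ^ e ≠ 1) (hrq : ¬ r ∣ Fintype.card F) (hrF : (r : F) ≠ 0)
    (hk : orderOf ((Fintype.card F : ℕ) : ZMod r) = 2 * m) :
    ∃ V₁ V₂ : Submodule F V, IsCompl V₁ V₂ ∧ (∀ v ∈ V₁, ∀ w ∈ V₂, B v w = 0) ∧
      (∀ v ∈ V₁, X v ∈ V₁) ∧ (∀ w ∈ V₂, X w ∈ V₂) ∧ finrank F V₁ = 2 * m ∧ finrank F V₂ = 3 ∧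
      (∀ w ∈ V₂, (X ^ e) w = w) ∧ (∀ v ∈ V₁, (X ^ e) v = v → v = 0) := by
  haveI : Fact r.Prime := ⟨hr⟩
  have hcompl := isCompl_range_ker (X ^ e) r hrF hXr
  have hcomm : Commute (X ^ e) X := (Commute.refl X).pow_left e
  have hinv1 : ∀ v ∈ LinearMap.range (X ^ e - 1), X v ∈ LinearMap.range (X ^ e - 1) :=
    fun v hv => range_invariant (X ^ e) X hcomm v hv
  have hinv2 : ∀ v ∈ LinearMap.ker (X ^ e - 1), X v ∈ LinearMap.ker (X ^ e - 1) :=
    fun v hv => ker_invariant (X ^ e) X hcomm v hv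
  have hdisj : ∀ v ∈ LinearMap.range (X ^ e - 1), (X ^ e) v = v → v = 0 := by
    intro v hv h
    exact Submodule.disjoint_def.mp hcompl.disjoint v hv ((mem_ker_sub_one _ v).mpr h)
  have hsum := Submodule.finrank_add_eq_of_isCompl hcompl
  rw [hdim] at hsum
  have hinvA : ∀ v ∈ LinearMap.range (X ^ e - 1), (X ^ e) v ∈ LinearMap.range (X ^ e - 1) :=
    fun v hv => range_invariant (X ^ e) (X ^ e) (Commute.refl _) v hv
  have hdvd := orderOf_dvd_finrank_sub (X ^ e) (LinearMap.range (X ^ e - 1)) hinvA r hXr hrq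
  have hinf : (LinearMap.range (X ^ e - 1) ⊓ fixSp (X ^ e) : Submodule F V) = ⊥ :=
    disjoint_iff.mp hcompl.disjoint
  rw [hinf, finrank_bot, Nat.sub_zero, hk] at hdvd
  have hne : finrank F (LinearMap.range (X ^ e - 1)) ≠ 0 := by
    intro h
    rw [Submodule.finrank_eq_zero, LinearMap.range_eq_bot] at h
    exact hX1 (sub_eq_zero.mp h)
  have hf1 : finrank F (LinearMap.range (X ^ e - 1)) = 2 * m := by
    obtain ⟨c, hc⟩ := hdvd
    rcases c with _ | _ | c
    · rw [mul_zero] at hc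
      exact absurd hc hne
    · rw [hc]; ring
    · exfalso
      have : 2 * m * (c + 1 + 1) = 2 * m * c + 4 * m := by ring
      rw [this] at hc
      omega
  refine ⟨LinearMap.range (X ^ e - 1), LinearMap.ker (X ^ e - 1), hcompl, ?_, hinv1, hinv2, hf1,
    by omega, ?_, hdisj⟩
  · intro v hv w hw
    exact ortho_range_ker B (X ^ e) (iso_pow B X hiso e) v w hv hw
  · intro w hw
    exact (mem_ker_sub_one _ w).mp hw

/-- the structure theorem -/
theorem stage2 (B : LinearMap.BilinForm F V) (hsym : ∀ x y, B x y = B y x)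
    (hnd : ∀ x, (∀ y, B x y = 0) → x = 0) (h2 : (2 : F) ≠ 0) (X : End F V)
    (hiso : ∀ x y, B (X x) (X y) = B x y) (p : ℕ) [Fact p.Prime] [CharP F p]
    (m : ℕ) (hm : 2 ≤ m) (hdim : finrank F V = 2 * m + 3)
    (hXN : X ^ (p * (Fintype.card F ^ m + 1)) = 1)
    (hord : ∀ k, X ^ k = 1 → p * (Fintype.card F ^ m + 1) ∣ k) :
    ∃ (V₁ V₂ : Submodule F V) (h₁ : ∀ v ∈ V₁, X v ∈ V₁) (h₂ : ∀ w ∈ V₂, X w ∈ V₂),
      IsCompl V₁ V₂ ∧ (∀ v ∈ V₁, ∀ w ∈ V₂, B v w = 0) ∧ finrank F V₁ = 2 * m ∧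
      (∀ W : Submodule F V₁, (∀ w ∈ W, ((X.restrict h₁) ^ p) w ∈ W) → W = ⊥ ∨ W = ⊤) ∧
      ∃ ε : F, ε * ε = 1 ∧ (X.restrict h₂) ^ p = ε • 1 := by
  obtain ⟨q, hq⟩ : ∃ q, q = Fintype.card F := ⟨_, rfl⟩
  rw [← hq] at hXN hord
  have hp : p.Prime := Fact.out
  have hq1 : 1 < q := by rw [hq]; exact Fintype.one_lt_card
  have hqF : (q : F) = 0 := by rw [hq]; exact Nat.cast_card_eq_zero F
  have hq2 : q ≠ 2 := by
    intro h
    rw [h] at hqF
    exact h2 (by exact_mod_cast hqF)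
  have hq3 : 3 ≤ q := by omega
  have hpq : p ∣ q := (CharP.cast_eq_zero_iff F p q).mp hqF
  obtain ⟨r, hr, hrd, hrq, -, hk⟩ := exists_ppd q m hq3 hm
  obtain ⟨M', hM'⟩ := hrd
  have hM'0 : 0 < M' := by
    rcases Nat.eq_zero_or_pos M' with rfl | h
    · rw [mul_zero] at hM'
      omega
    · exact h
  have hrF : (r : F) ≠ 0 := by
    intro h
    have h1 := (CharP.cast_eq_zero_iff F p r).mp h
    have h3 : p = r := (Nat.prime_dvd_prime_iff_eq hp hr).mp h1
    rw [← h3] at hrq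
    exact hrq hpq
  have hXr : (X ^ (p * M')) ^ r = 1 := by
    rw [← pow_mul, ← hXN, hM']
    congr 1
    ring
  have hX1 : X ^ (p * M') ≠ 1 := by
    intro h
    have h1 := hord _ h
    rw [hM'] at h1
    have h3 : p * M' * r ∣ p * M' * 1 := by
      rw [mul_one]
      have : p * M' * r = p * (r * M') := by ring
      rw [this]
      exact h1
    have h4 := Nat.dvd_of_mul_dvd_mul_left (Nat.mul_pos hp.pos hM'0) h3
    exact hr.one_lt.ne' (Nat.dvd_one.mp h4)
  rw [hq] at hrq hk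
  obtain ⟨V₁, V₂, hcompl, horth, h₁, h₂, hf1, hf2, hfix2, hfix1⟩ :=
    stage1 B X hiso m hm hdim (p * M') r hr hXr hX1 hrq hrF hk
  refine ⟨V₁, V₂, h₁, h₂, hcompl, horth, hf1, ?_⟩
  haveI : Fact r.Prime := ⟨hr⟩
  -- powers of the restrictions
  have hN1 : (X.restrict h₁) ^ (p * (q ^ m + 1)) = 1 :=
    restrict_pow_eq_one X V₁ h₁ _ (fun v _ => by rw [hXN, Module.End.one_apply])
  have hN2 : (X.restrict h₂) ^ (p * (q ^ m + 1)) = 1 :=
    restrict_pow_eq_one X V₂ h₂ _ (fun v _ => by rw [hXN, Module.End.one_apply])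
  have hnt1 : Nontrivial V₁ := by
    apply Module.nontrivial_of_finrank_pos (R := F)
    omega
  -- irreducibility
  have hirr : ∀ W : Submodule F V₁, (∀ w ∈ W, ((X.restrict h₁) ^ p) w ∈ W) → W = ⊥ ∨ W = ⊤ := by
    apply irreducible_of_pow ((X.restrict h₁) ^ p) M' r
    · rw [← pow_mul, ← pow_mul, ← hN1, hM']
      congr 1
      ring
    · intro h
      obtain ⟨v, hv⟩ := exists_ne (0 : V₁)
      apply hv
      apply Subtype.ext
      apply hfix1 v v.2
      rw [← pow_mul] at h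
      rw [← restrict_pow_coe X V₁ h₁, h, Module.End.one_apply]
    · exact hrq
    · rw [hk, hf1]
  refine ⟨hirr, ?_⟩
  -- the unipotent part is trivial on `V₁`
  have hU1 : (X.restrict h₁) ^ (q ^ m + 1) = 1 := by
    by_contra hne
    have hne' : (X.restrict h₁) ^ (q ^ m + 1) - 1 ≠ 0 := fun h => hne (sub_eq_zero.mp h)
    have hker := ker_eq_bot_of_commute ((X.restrict h₁) ^ p) ((X.restrict h₁) ^ (q ^ m + 1) - 1)
      hirr (by
        have hc : Commute ((X.restrict h₁) ^ (q ^ m + 1)) ((X.restrict h₁) ^ p) :=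
          (Commute.refl _).pow_pow _ _
        rw [sub_mul, mul_sub, hc.eq, one_mul, mul_one]) hne'
    have hnil : ((X.restrict h₁) ^ (q ^ m + 1) - 1) ^ p = 0 := by
      rw [sub_one_pow_char, ← pow_mul, mul_comm, hN1, sub_self]
    obtain ⟨v, hv⟩ := exists_ne (0 : V₁)
    obtain ⟨w, -, hw0, hw⟩ := exists_ker_of_nilpotent ((X.restrict h₁) ^ (q ^ m + 1) - 1) ⊤
      (fun _ _ => Submodule.mem_top) p v Submodule.mem_top hv (by rw [hnil, LinearMap.zero_apply])
    have : w ∈ LinearMap.ker ((X.restrict h₁) ^ (q ^ m + 1) - 1) := LinearMap.mem_ker.mpr hw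
    rw [hker] at this
    exact hw0 ((Submodule.mem_bot F).mp this)
  have hU2 : (X.restrict h₂) ^ (q ^ m + 1) ≠ 1 := by
    intro h
    have hX : X ^ (q ^ m + 1) = 1 := by
      apply LinearMap.ext
      intro y
      have hy : y ∈ V₁ ⊔ V₂ := by rw [hcompl.sup_eq_top]; trivial
      obtain ⟨y₁, hy₁, y₂, hy₂, rfl⟩ := Submodule.mem_sup.mp hy
      have e1 := restrict_pow_coe X V₁ h₁ (q ^ m + 1) ⟨y₁, hy₁⟩
      have e2 := restrict_pow_coe X V₂ h₂ (q ^ m + 1) ⟨y₂, hy₂⟩
      rw [hU1, Module.End.one_apply] at e1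
      rw [h, Module.End.one_apply] at e2
      rw [map_add, Module.End.one_apply, ← e1, ← e2]
    have h1 := hord _ hX
    have h3 : (q ^ m + 1) * p ∣ (q ^ m + 1) * 1 := by
      rw [mul_one, mul_comm]
      exact h1
    have h4 := Nat.dvd_of_mul_dvd_mul_left (by omega) h3
    exact hp.one_lt.ne' (Nat.dvd_one.mp h4)
  have hMF : ((q ^ m + 1 : ℕ) : F) ≠ 0 := by
    rw [Nat.cast_add, Nat.cast_pow, hqF, zero_pow (by omega), zero_add, Nat.cast_one]
    exact one_ne_zero
  have hfd2 : FiniteDimensional F V₂ := inferInstance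
  have hB2 : ∀ x y : V₂, (B.restrict V₂) x y = B (x : V) (y : V) := fun x y => rfl
  obtain ⟨ε, hε, hεt⟩ := three_dim hf2 (B.restrict V₂)
    (fun x y => by rw [hB2, hB2, hsym])
    (fun x hx => by
      apply Subtype.ext
      apply nd_right B hsym hnd V₁ V₂ hcompl horth x x.2
      intro y hy
      exact hx ⟨y, hy⟩) h2
    ((X.restrict h₂) ^ (q ^ m + 1)) ((X.restrict h₂) ^ p)
    (fun x y => by
      rw [hB2, hB2, restrict_pow_coe, restrict_pow_coe, iso_pow B X hiso])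
    (fun x y => by
      rw [hB2, hB2, restrict_pow_coe, restrict_pow_coe, iso_pow B X hiso])
    ((Commute.refl _).pow_pow _ _) p
    (by rw [sub_one_pow_char, ← pow_mul, mul_comm, hN2, sub_self]) hU2
    (q ^ m + 1) hMF (by rw [← pow_mul, hN2])
  exact ⟨ε, hε, hεt⟩

end fin

end Cfsg.Agent.Lib.Helper1.Bc
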