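import Mathlib
import Cfsg.Prelude
import Cfsg.Agent.Lib.Helper1.BcD
import Cfsg.Agent.Lib.Helper1.BcE
import Cfsg.Agent.Lib.Helper1.BcG
import Cfsg.Agent.Lib.Helper5.OmegaCenter

/-!
# The orthogonal group of dimension `2 m + 3` has no element of order `p (q ^ m + 1)` in `Ω`
-/

set_option autoImplicit false
set_option maxHeartbeats 4000000
set_option linter.unusedSimpArgs false
set_option linter.unusedVariables false
set_option linter.unusedSectionVars false
set_option linter.style.haveILetI false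

namespace Cfsg.Agent.Lib.Helper1.Bc

open Module Matrix QuadraticMap
open Cfsg
open Cfsg.Agent.Lib.Helper5.SpinorNorm Cfsg.Agent.Lib.Helper5.CartanDieudonne
  Cfsg.Agent.Lib.Helper5.SpecSL Cfsg.Agent.Lib.Helper5.HalfTorus
  Cfsg.Agent.Lib.Helper5.OmegaCenter

section abs

variable {F : Type*} [Field F] [Fintype F] {W : Type*} [AddCommGroup W] [Module F W] [Finite W]
  [Nontrivial W]
  (B : LinearMap.BilinForm F W) (s : Module.End F W)
  (hsym : ∀ x y, B x y = B y x) (hnd : ∀ x, (∀ y, B x y = 0) → x = 0)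
  (hiso : ∀ x y, B (s x) (s y) = B x y)
  (hirr : ∀ U : Submodule F W, (∀ w ∈ U, s w ∈ U) → U = ⊥ ∨ U = ⊤)
  [hfact : Fact (Irreducible (minpoly F s))]

include hirr in
theorem tauK_eq_pow (h2 : (2 : F) ≠ 0) (hs2 : s * s ≠ 1) (m : ℕ) (hfr : finrank F W = 2 * m)
    (x : KK s) : tauK B s hsym hnd hiso x = x ^ (Fintype.card F ^ m) := by
  haveI : Finite (KK s) := finite_KK s
  haveI : Fintype (KK s) := Fintype.ofFinite _
  have h2K : (2 : KK s) ≠ 0 := two_ne_zero_K h2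
  have hτ := tauK_tauK B s hsym hnd hiso
  have hτ1 := tauK_ne_id B s hsym hnd hiso hs2
  rw [tau_eq_pow _ h2K hτ hτ1 x]
  congr 1
  have h1 := card_sq (tauK B s hsym hnd hiso) h2K hτ hτ1
  obtain ⟨v₀, hv₀⟩ := exists_ne (0 : W)
  rw [card_KK s hirr v₀ hv₀, Module.natCard_eq_pow_finrank (K := F), hfr, Nat.card_eq_fintype_card,
    mul_comm 2 m, pow_mul] at h1
  exact (Nat.pow_left_injective two_ne_zero h1).symm

end abs

section conc

variable {ι : Type} [Fintype ι] [DecidableEq ι] {F : Type*} [Field F] [Fintype F]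

theorem line_rep (Q : QuadraticForm F (ι → F)) (h2 : (2 : F) ≠ 0)
    (V₁ V₂ : Submodule F (ι → F)) (horth : ∀ v ∈ V₁, ∀ w ∈ V₂, polar ⇑Q v w = 0)
    [Nontrivial V₁] (B : LinearMap.BilinForm F V₁)
    (hB : ∀ x y : V₁, B x y = polar ⇑Q (x : ι → F) (y : ι → F)) (s : End F V₁)
    (hsym : ∀ x y, B x y = B y x) (hnd : ∀ x, (∀ y, B x y = 0) → x = 0)
    (hiso : ∀ x y, B (s x) (s y) = B x y)
    (hirr : ∀ U : Submodule F V₁, (∀ w ∈ U, s w ∈ U) → U = ⊥ ∨ U = ⊤)
    [hfact : Fact (Irreducible (minpoly F s))] (hs2 : s * s ≠ 1) (μ : KK s) (hμ : μ ≠ 0) :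
    ∃ vs : List (ι → F), (∀ v ∈ vs, Q v ≠ 0) ∧ Even vs.length ∧
      (∀ (v₁ : V₁) (w : ι → F), w ∈ V₂ → rprod Q vs *ᵥ ((v₁ : ι → F) + w) =
        ((ev s (μ / tauK B s hsym hnd hiso μ) v₁ : V₁) : ι → F) + w) ∧
      (IsSquare (vs.map Q).prod → IsSquare μ) := by
  haveI : Finite (KK s) := finite_KK s
  haveI : Fintype (KK s) := Fintype.ofFinite _
  obtain ⟨v₀, hv₀⟩ := exists_ne (0 : V₁)
  have h2K : (2 : KK s) ≠ 0 := two_ne_zero_K h2
  have hτ := tauK_tauK B s hsym hnd hiso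
  have hτ1 := tauK_ne_id B s hsym hnd hiso hs2
  have hφτ := phiK_tau B s hsym hnd hiso v₀
  have hφ0 := phiK_ne_zero B s hnd hirr v₀ hv₀
  obtain ⟨vs, hvs, heven, hact, γ, c, hγ, hc0, hprod⟩ :=
    rep Q (tauK B s hsym hnd hiso) hτ (phiK B s v₀) hφτ (V₁.subtype ∘ₗ psiK s v₀) V₂
      (fun x y => by
        rw [LinearMap.comp_apply, LinearMap.comp_apply, Submodule.subtype_apply,
          Submodule.subtype_apply, ← hB, form_psiK B s hsym hnd hiso])
      (fun x w hw => horth _ (psiK s v₀ x).2 w hw) h2 hφ0 μ hμ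
  refine ⟨vs, hvs, heven, ?_, ?_⟩
  · intro v₁ w hw
    obtain ⟨z, rfl⟩ := psiK_surjective s hirr v₀ hv₀ v₁
    have := hact z w hw
    rw [LinearMap.comp_apply, LinearMap.comp_apply, Submodule.subtype_apply,
      Submodule.subtype_apply] at this
    rw [this, ev_psiK]
  · intro hsq
    by_contra hμns
    apply not_isSquare_norm (tauK B s hsym hnd hiso) h2K hτ hτ1 μ hμns γ hγ
    rw [hprod] at hsq
    obtain ⟨d, hd⟩ := hsq
    refine ⟨d / c, ?_⟩
    field_simp
    linear_combination hd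

end conc

end Cfsg.Agent.Lib.Helper1.Bc
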