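import Mathlib
import Cfsg.Prelude
import Cfsg.Agent.Lib.Helper1.BcH

/-!
# No element of order `p (q ^ m + 1)` in `Ω` of a quadratic space of dimension `2 m + 3`
-/

set_option autoImplicit false
set_option maxHeartbeats 4000000
set_option linter.unusedSimpArgs false
set_option linter.unusedVariables false
set_option linter.unusedSectionVars false
set_option linter.style.haveILetI false

namespace Cfsg.Agent.Lib.Helper1.Bc

open Module Matrix QuadraticMap
open Cfsg
open Cfsg.Agent.Lib.Helper5.SpinorNorm Cfsg.Agent.Lib.Helper5.CartanDieudonne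
  Cfsg.Agent.Lib.Helper5.SpecSL Cfsg.Agent.Lib.Helper5.HalfTorus
  Cfsg.Agent.Lib.Helper5.OmegaCenter

variable {ι : Type} [Fintype ι] [DecidableEq ι] {F : Type*} [Field F] [Fintype F]

theorem no_element (Q : QuadraticForm F (ι → F)) (h2 : (2 : F) ≠ 0)
    (hQ : (polarBilin Q).Nondegenerate) (p : ℕ) [Fact p.Prime] [CharP F p] (m : ℕ) (hm : 2 ≤ m)
    (hcard : Fintype.card ι = 2 * m + 3) (g : ↥(isometryGroup F ⇑Q))
    (hg : g ∈ commutator ↥(isometryGroup F ⇑Q))
    (hord : orderOf g = p * (Fintype.card F ^ m + 1)) : False := by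
  classical
  have hp : p.Prime := Fact.out
  have hq1 : 1 < Fintype.card F := Fintype.one_lt_card
  have hqF : ((Fintype.card F : ℕ) : F) = 0 := Nat.cast_card_eq_zero F
  have hq3 : 3 ≤ Fintype.card F := by
    have : Fintype.card F ≠ 2 := by
      intro h
      rw [h] at hqF
      exact h2 (by exact_mod_cast hqF)
    omega
  have hqodd : Odd (Fintype.card F) := odd_card_of_two_ne h2
  have hqm : 9 ≤ Fintype.card F ^ m := by
    calc 9 = 3 ^ 2 := by norm_num
      _ ≤ Fintype.card F ^ 2 := Nat.pow_le_pow_left hq3 2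
      _ ≤ Fintype.card F ^ m := Nat.pow_le_pow_right (by omega) hm
  obtain ⟨Mx, hMx⟩ : ∃ Mx : Matrix ι ι F,
      Mx = ((g : Matrix.GeneralLinearGroup ι F) : Matrix ι ι F) := ⟨_, rfl⟩
  have hMpow : ∀ k : ℕ,
      (((g ^ k : ↥(isometryGroup F ⇑Q)) : Matrix.GeneralLinearGroup ι F) : Matrix ι ι F) =
        Mx ^ k := by
    intro k
    rw [hMx, Subgroup.coe_pow, Units.val_pow_eq_pow_val]
  obtain ⟨X, hX⟩ : ∃ X : End F (ι → F), X = Matrix.toLin' Mx := ⟨_, rfl⟩
  have hXpow : ∀ k : ℕ, X ^ k = Matrix.toLin' (Mx ^ k) := by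
    intro k
    rw [hX, Matrix.toLin'_pow]
  have hXapp : ∀ (k : ℕ) (v : ι → F), (X ^ k) v = (Mx ^ k) *ᵥ v := by
    intro k v
    rw [hXpow, Matrix.toLin'_apply]
  have hXone : ∀ k : ℕ, X ^ k = 1 → g ^ k = 1 := by
    intro k h
    rw [hXpow] at h
    have h1 : Mx ^ k = 1 := by
      apply Matrix.toLin'.injective
      rw [h, Matrix.toLin'_one]
      rfl
    apply Subtype.ext
    apply Units.ext
    rw [hMpow, h1]
    rfl
  have hXN : X ^ (p * (Fintype.card F ^ m + 1)) = 1 := by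
    rw [hXpow, ← hMpow, ← hord, pow_orderOf_eq_one]
    exact Matrix.toLin'_one
  have hordX : ∀ k : ℕ, X ^ k = 1 → p * (Fintype.card F ^ m + 1) ∣ k := by
    intro k h
    rw [← hord]
    exact orderOf_dvd_of_pow_eq_one (hXone k h)
  have hsym : ∀ x y, polarBilin Q x y = polarBilin Q y x := fun x y => polar_comm _ _ _
  have hnd : ∀ x, (∀ y, polarBilin Q x y = 0) → x = 0 := hQ.1
  have hiso : ∀ x y, polarBilin Q (X x) (X y) = polarBilin Q x y := by
    intro x y
    rw [hX, Matrix.toLin'_apply, Matrix.toLin'_apply, hMx]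
    exact polar_act Q g x y
  have hdim : finrank F (ι → F) = 2 * m + 3 := by
    rw [Module.finrank_fintype_fun_eq_card, hcard]
  obtain ⟨V₁, V₂, h₁, h₂, hcompl, horth, hf1, hirr, ε, hε, hεt⟩ :=
    stage2 (polarBilin Q) hsym hnd h2 X hiso p m hm hdim hXN hordX
  obtain ⟨s, hs⟩ : ∃ s : End F V₁, s = (X.restrict h₁) ^ p := ⟨_, rfl⟩
  rw [← hs] at hirr
  haveI hnt : Nontrivial V₁ := by
    apply Module.nontrivial_of_finrank_pos (R := F)
    omega
  have hscoe : ∀ (k : ℕ) (v : V₁), (((s ^ k) v : V₁) : ι → F) = (X ^ (p * k)) (v : ι → F) := by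
    intro k v
    rw [hs, ← pow_mul, restrict_pow_coe]
  have hscoe1 : ∀ v : V₁, ((s v : V₁) : ι → F) = (X ^ p) (v : ι → F) := by
    intro v
    rw [hs, restrict_pow_coe]
  obtain ⟨B₁, hB₁⟩ : ∃ B₁ : LinearMap.BilinForm F V₁,
      ∀ x y : V₁, B₁ x y = polar ⇑Q (x : ι → F) (y : ι → F) :=
    ⟨LinearMap.BilinForm.restrict (polarBilin Q) V₁, fun x y => rfl⟩
  have hsym₁ : ∀ x y, B₁ x y = B₁ y x := by
    intro x y
    rw [hB₁, hB₁, polar_comm]
  have hnd₁ : ∀ x, (∀ y, B₁ x y = 0) → x = 0 := by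
    intro x hx
    apply Subtype.ext
    apply nd_left (polarBilin Q) hnd V₁ V₂ hcompl horth x x.2
    intro y hy
    have := hx ⟨y, hy⟩
    rw [hB₁] at this
    exact this
  have hiso₁ : ∀ x y, B₁ (s x) (s y) = B₁ x y := by
    intro x y
    rw [hB₁, hB₁, hscoe1, hscoe1]
    exact iso_pow (polarBilin Q) X hiso p x y
  haveI hfact : Fact (Irreducible (minpoly F s)) := ⟨irreducible_minpoly s hirr⟩
  have hV₂T : ∀ w ∈ V₂, (X ^ p) w = ε • w := by
    intro w hw
    have := restrict_pow_coe X V₂ h₂ p ⟨w, hw⟩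
    rw [hεt] at this
    rw [← this]
    rfl
  have hε' : ε = 1 ∨ ε = -1 := by
    have : (ε - 1) * (ε + 1) = 0 := by linear_combination hε
    rcases mul_eq_zero.mp this with h | h
    · left
      exact sub_eq_zero.mp h
    · right
      exact eq_neg_of_add_eq_zero_left h
  have hdecomp : ∀ v : ι → F, ∃ v₁ : V₁, ∃ w ∈ V₂, v = (v₁ : ι → F) + w := by
    intro v
    have hv : v ∈ V₁ ⊔ V₂ := by rw [hcompl.sup_eq_top]; trivial
    obtain ⟨y₁, hy₁, y₂, hy₂, rfl⟩ := Submodule.mem_sup.mp hv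
    exact ⟨⟨y₁, hy₁⟩, y₂, hy₂, rfl⟩
  have hs2 : s * s ≠ 1 := by
    intro h
    have hX2 : X ^ (p * 2) = 1 := by
      apply LinearMap.ext
      intro v
      obtain ⟨v₁, w, hw, rfl⟩ := hdecomp v
      rw [map_add, Module.End.one_apply, ← hscoe 2 v₁, pow_two, h, Module.End.one_apply, pow_mul,
        pow_two, Module.End.mul_apply, hV₂T w hw, map_smul, hV₂T w hw, smul_smul, hε, one_smul]
    have h3 := Nat.dvd_of_mul_dvd_mul_left hp.pos (hordX _ hX2)
    have := Nat.le_of_dvd (by norm_num) h3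
    omega
  obtain ⟨lam, hlam⟩ : ∃ lam : KK s, lam = AdjoinRoot.root (minpoly F s) := ⟨_, rfl⟩
  have hτ := tauK_tauK B₁ s hsym₁ hnd₁ hiso₁
  have hlamτ : lam * tauK B₁ s hsym₁ hnd₁ hiso₁ lam = 1 := by
    rw [hlam]
    exact root_mul_tau B₁ s hsym₁ hnd₁ hiso₁
  have hev : ev s lam = s := by
    rw [hlam]
    exact ev_root s
  have hτ0 : ∀ x : KK s, x ≠ 0 → tauK B₁ s hsym₁ hnd₁ hiso₁ x ≠ 0 := by
    intro x hx h
    apply hx
    have := congrArg (tauK B₁ s hsym₁ hnd₁ hiso₁) h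
    rwa [hτ, map_zero] at this
  have hmem : g ^ p ∈ commutator ↥(isometryGroup F ⇑Q) := Subgroup.pow_mem _ hg p
  rcases hε' with h1 | h1
  · -- the case `ε = 1`
    have hlamord : ∀ j : ℕ, lam ^ j = 1 → (Fintype.card F ^ m + 1) ∣ j := by
      intro j hj
      rw [hlam, root_pow_eq_one_iff] at hj
      have hXj : X ^ (p * j) = 1 := by
        apply LinearMap.ext
        intro v
        obtain ⟨v₁, w, hw, rfl⟩ := hdecomp v
        rw [map_add, Module.End.one_apply, ← hscoe j v₁, hj, Module.End.one_apply, pow_mul,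
          pow_fix (X ^ p) w (by rw [hV₂T w hw, h1, one_smul]) j]
      exact Nat.dvd_of_mul_dvd_mul_left hp.pos (hordX _ hXj)
    obtain ⟨μ, hμ⟩ : ∃ μ : KK s, μ = 1 + lam := ⟨_, rfl⟩
    have hμ0 : μ ≠ 0 := by
      intro h
      have hl : lam = -1 := by
        rw [hμ] at h
        exact eq_neg_of_add_eq_zero_right h
      have h3 := hlamord 2 (by rw [hl]; ring)
      have := Nat.le_of_dvd (by norm_num) h3
      omega
    have hτμ0 := hτ0 μ hμ0
    have hdiv : μ / tauK B₁ s hsym₁ hnd₁ hiso₁ μ = lam := by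
      rw [div_eq_iff hτμ0, hμ, map_add, map_one, mul_add, mul_one, hlamτ, add_comm]
    have hμns : ¬ IsSquare μ := by
      rintro ⟨ν, hν⟩
      have hν0 : ν ≠ 0 := by
        rintro rfl
        rw [mul_zero] at hν
        exact hμ0 hν
      have hτν0 := hτ0 ν hν0
      obtain ⟨σ, hσ⟩ : ∃ σ : KK s, σ = ν / tauK B₁ s hsym₁ hnd₁ hiso₁ ν := ⟨_, rfl⟩
      have e1 : lam = σ * σ := by
        rw [← hdiv, hν, map_mul, hσ]
        field_simp
      have e3 : σ * tauK B₁ s hsym₁ hnd₁ hiso₁ σ = 1 := by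
        rw [hσ, map_div₀, hτ]
        field_simp
      have e4 : σ ^ (Fintype.card F ^ m + 1) = 1 := by
        rw [pow_succ', ← tauK_eq_pow B₁ s hsym₁ hnd₁ hiso₁ hirr h2 hs2 m hf1 σ, e3]
      obtain ⟨h, hh⟩ : ∃ h, Fintype.card F ^ m + 1 = 2 * h := by
        have : Odd (Fintype.card F ^ m) := hqodd.pow
        obtain ⟨c, hc⟩ := this
        exact ⟨c + 1, by omega⟩
      have e5 : lam ^ h = 1 := by
        rw [e1, ← pow_two, ← pow_mul, ← hh, e4]
      have h3 := hlamord h e5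
      rw [hh] at h3
      have := Nat.le_of_dvd (by omega) h3
      omega
    obtain ⟨vs, hvs, heven, hact, hsq⟩ := line_rep Q h2 V₁ V₂ horth B₁ hB₁ s hsym₁ hnd₁ hiso₁ hirr
      hs2 μ hμ0
    have hMeq : Mx ^ p = rprod Q vs := by
      apply Matrix.toLin'.injective
      apply LinearMap.ext
      intro v
      obtain ⟨v₁, w, hw, rfl⟩ := hdecomp v
      rw [Matrix.toLin'_apply, Matrix.toLin'_apply, hact v₁ w hw, hdiv, hev, ← hXapp, map_add,
        hscoe1, hV₂T w hw, h1, one_smul]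
    have hrep : IsRep Q (g ^ p) vs := ⟨hvs, (hMpow p).trans hMeq⟩
    have := (mem_commutator_iff Q h2 hQ (by rw [hcard]; omega) (g ^ p) vs hrep).mp hmem
    exact hμns (hsq this.2)
  · -- the case `ε = -1`
    have hlam1 : lam ≠ 1 := by
      intro h
      apply hs2
      rw [← hev, h, map_one, mul_one]
    obtain ⟨μ, hμ⟩ : ∃ μ : KK s, μ = 1 - lam := ⟨_, rfl⟩
    have hμ0 : μ ≠ 0 := by
      rw [hμ]
      exact sub_ne_zero.mpr (Ne.symm hlam1)
    have hτμ0 := hτ0 μ hμ0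
    have hdiv : μ / tauK B₁ s hsym₁ hnd₁ hiso₁ μ = -lam := by
      rw [div_eq_iff hτμ0, hμ, map_sub, map_one, mul_sub, neg_mul, neg_mul, mul_one, hlamτ]
      ring
    obtain ⟨vs, hvs, heven, hact, hsq⟩ := line_rep Q h2 V₁ V₂ horth B₁ hB₁ s hsym₁ hnd₁ hiso₁ hirr
      hs2 μ hμ0
    have hMeq : -(Mx ^ p) = rprod Q vs := by
      apply Matrix.toLin'.injective
      apply LinearMap.ext
      intro v
      obtain ⟨v₁, w, hw, rfl⟩ := hdecomp v
      rw [Matrix.toLin'_apply, Matrix.toLin'_apply, hact v₁ w hw, hdiv, map_neg, hev,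
        Matrix.neg_mulVec, ← hXapp, map_add, LinearMap.neg_apply, Submodule.coe_neg, hscoe1,
        hV₂T w hw, h1]
      simp only [neg_smul, one_smul, neg_add_rev, neg_neg]
      rw [add_comm]
    have hd1 := rprod_det Q vs hvs
    have hd2 := det_eq_one_of_mem_commutator (g ^ p) hmem
    rw [hMpow] at hd2
    rw [← hMeq, Matrix.det_neg, hcard, hd2, heven.neg_one_pow, mul_one] at hd1
    have : (-1 : F) = 1 := by
      have e : (-1 : F) ^ (2 * m + 3) = -1 := by
        rw [pow_succ, pow_succ, pow_succ, pow_mul]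
        simp
      rw [← e]
      exact hd1
    apply h2
    linear_combination -this

end Cfsg.Agent.Lib.Helper1.Bc
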