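import Mathlib
import Cfsg.Prelude
import Cfsg.Agent.Lib.Helper5.SpAdj.Exist2469

/-!
# An element of order `p (q ^ m + 1)` in `PSp_{2(m+1)}(q)`
-/

set_option autoImplicit false
set_option maxHeartbeats 4000000
set_option linter.unusedSimpArgs false
set_option linter.unusedVariables false
set_option linter.unusedSectionVars false
set_option linter.style.haveILetI false

namespace Cfsg.Agent.Lib.Helper1.Bc

open Matrix Cfsg
open Cfsg.Agent.Lib.Helper5 Cfsg.Agent.Lib.Helper5.SpAdj

variable {F : Type*} [Field F]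

theorem blockDiag_neg_one (k l : ℕ) :
    SympBlock.blockDiag k l (-1 : Matrix (Fin k ⊕ Fin k) (Fin k ⊕ Fin k) F) (-1) = -1 := by
  ext i j
  unfold SympBlock.blockDiag
  rw [Matrix.submatrix_apply, Matrix.neg_apply]
  obtain ⟨i', rfl⟩ := (SympBlock.eKL k l).surjective i
  obtain ⟨j', rfl⟩ := (SympBlock.eKL k l).surjective j
  rw [Equiv.symm_apply_apply, Equiv.symm_apply_apply]
  simp only [Matrix.one_apply, (SympBlock.eKL k l).apply_eq_iff_eq]
  rcases i' with i' | i' <;> rcases j' with j' | j' <;> simp [Matrix.one_apply]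

/-- block-diagonal elements of coprime orders, the second of odd order -/
theorem exists_order_mul' (a b : ℕ) (hb : 1 ≤ b) (h2 : (2 : F) ≠ 0)
    (x : symplecticGroup (Fin a) F) (y : symplecticGroup (Fin b) F) (u v : ℕ)
    (hx : orderOf x = u) (hy : orderOf y = v) (hcop : Nat.Coprime u v) (hv : Odd v) :
    ∃ g : Cfsg.PSp (a + b) F, orderOf g = u * v := by
  have hab : 1 ≤ a + b := by omega
  obtain ⟨G, hG⟩ : ∃ G : ↥(symplecticGroup (Fin (a + b)) F),
      G.1 = SympBlock.blockDiag a b x.1 y.1 :=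
    ⟨⟨_, SympBlock.blockDiag_mem a b x.2 y.2⟩, rfl⟩
  have hG1 : ∀ m : ℕ, (G ^ m).1 = SympBlock.blockDiag a b ((x ^ m).1) ((y ^ m).1) := by
    intro m
    have : (G ^ m).1 = G.1 ^ m := rfl
    rw [this, hG, blockDiag_pow2]
    rfl
  have hGpow : ∀ m : ℕ, G ^ m = 1 ↔ u * v ∣ m := by
    intro m
    have h1 := hG1 m
    constructor
    · intro h
      rw [h] at h1
      have h2 : SympBlock.blockDiag a b ((x ^ m).1) ((y ^ m).1) =
          SympBlock.blockDiag a b 1 1 := by
        rw [← h1, SympBlock.blockDiag_one]; rfl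
      obtain ⟨h3, h4⟩ := SympBlock.blockDiag_injective a b _ _ _ _ h2
      have hx' : x ^ m = 1 := Subtype.ext h3
      have hy' : y ^ m = 1 := Subtype.ext h4
      have h5 := orderOf_dvd_of_pow_eq_one hx'
      have h6 := orderOf_dvd_of_pow_eq_one hy'
      rw [hx] at h5
      rw [hy] at h6
      exact hcop.mul_dvd_of_dvd_of_dvd h5 h6
    · intro h
      have hx' : x ^ m = 1 := by
        apply orderOf_dvd_iff_pow_eq_one.mp; rw [hx]; exact (Dvd.intro _ rfl).trans h
      have hy' : y ^ m = 1 := by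
        apply orderOf_dvd_iff_pow_eq_one.mp; rw [hy]; exact (Dvd.intro_left _ rfl).trans h
      apply Subtype.ext
      rw [h1, hx', hy']
      exact SympBlock.blockDiag_one a b
  refine ⟨(G : Cfsg.PSp (a + b) F), ?_⟩
  have hmkpow : ∀ m : ℕ, ((G ^ m : ↥(symplecticGroup (Fin (a + b)) F)) : Cfsg.PSp (a + b) F) =
      (G : Cfsg.PSp (a + b) F) ^ m := fun m => rfl
  apply Nat.dvd_antisymm
  · apply orderOf_dvd_of_pow_eq_one
    rw [← hmkpow, (hGpow (u * v)).mpr (dvd_refl _)]; rfl
  · obtain ⟨m, hm⟩ : ∃ m, m = orderOf (G : Cfsg.PSp (a + b) F) := ⟨_, rfl⟩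
    rw [← hm]
    have h1 : ((G ^ m : ↥(symplecticGroup (Fin (a + b)) F)) : Cfsg.PSp (a + b) F) = 1 := by
      rw [hmkpow, hm]; exact pow_orderOf_eq_one _
    rw [QuotientGroup.eq_one_iff, Cfsg.Agent.S0246.mem_center_iff (a + b) hab] at h1
    rcases h1 with h1 | h1
    · exact (hGpow m).mp (Subtype.ext h1)
    · exfalso
      rw [hG1 m, ← blockDiag_neg_one] at h1
      obtain ⟨-, h4⟩ := SympBlock.blockDiag_injective a b _ _ _ _ h1
      -- `y ^ m = -1` contradicts the odd order of `y`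
      have h5 : ((y ^ m) ^ v).1 = (-1 : Matrix (Fin b ⊕ Fin b) (Fin b ⊕ Fin b) F) ^ v := by
        have : ((y ^ m) ^ v).1 = ((y ^ m).1) ^ v := rfl
        rw [this, h4]
      have h6 : (y ^ m) ^ v = 1 := by
        rw [← pow_mul, mul_comm, pow_mul, ← hy, pow_orderOf_eq_one, one_pow]
      rw [h6, hv.neg_one_pow] at h5
      have h7 := congrFun (congrFun h5 (Sum.inl ⟨0, hb⟩)) (Sum.inl ⟨0, hb⟩)
      have h8 : ((1 : ↥(symplecticGroup (Fin b) F)).1) (Sum.inl ⟨0, hb⟩) (Sum.inl ⟨0, hb⟩) = 1 := by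
        show (1 : Matrix (Fin b ⊕ Fin b) (Fin b ⊕ Fin b) F) _ _ = 1
        rw [Matrix.one_apply_eq]
      rw [h8, Matrix.neg_apply, Matrix.one_apply_eq] at h7
      apply h2
      linear_combination h7

variable [Fintype F]

theorem exists_psp_order (p : ℕ) [Fact p.Prime] [CharP F p] (h2 : (2 : F) ≠ 0) (m : ℕ)
    (hm : 1 ≤ m) :
    ∃ g : Cfsg.PSp (m + 1) F, orderOf g = (Fintype.card F ^ m + 1) * p := by
  have hp : p.Prime := Fact.out
  have hqF : ((Fintype.card F : ℕ) : F) = 0 := Nat.cast_card_eq_zero F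
  have hpq : p ∣ Fintype.card F := (CharP.cast_eq_zero_iff F p _).mp hqF
  have hp2 : p ≠ 2 := by
    rintro rfl
    apply h2
    have := CharP.cast_eq_zero F 2
    exact_mod_cast this
  -- the torus element
  have hne : NeZero (2 * m) := ⟨by omega⟩
  haveI : Fintype (FiniteField.Extension F p (2 * m)) := Fintype.ofFinite _
  obtain ⟨x, hx⟩ := exists_sp_orderOf (FiniteField.Extension F p (2 * m)) m
    (FiniteField.finrank_extension F p (2 * m)) hm (Fintype.card F ^ m + 1) (dvd_refl _)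
  -- the element of order `p`
  have hcard := SympCard.card_symplecticGroup (F := F) 1
  have hdvd : p ∣ Nat.card (symplecticGroup (Fin 1) F) := by
    rw [hcard, one_pow, pow_one]
    exact Dvd.dvd.mul_right hpq _
  haveI : Finite (symplecticGroup (Fin 1) F) := inferInstance
  obtain ⟨y, hy⟩ := exists_prime_orderOf_dvd_card' p hdvd
  have hcop : Nat.Coprime (Fintype.card F ^ m + 1) p := by
    rw [Nat.coprime_comm, Nat.Prime.coprime_iff_not_dvd hp]
    intro h
    have h1 : p ∣ Fintype.card F ^ m := Dvd.dvd.trans hpq (dvd_pow_self _ (by omega))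
    have h3 := (Nat.dvd_add_right h1).mp h
    exact hp.one_lt.ne' (Nat.dvd_one.mp h3)
  exact exists_order_mul' m 1 (le_refl 1) h2 x y _ _ hx hy hcop (hp.odd_of_ne_two hp2)

end Cfsg.Agent.Lib.Helper1.Bc
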