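import Mathlib
import Cfsg.Prelude
import Cfsg.Agent.Lib.Helper1.BcI
import Cfsg.Agent.Lib.Helper1.BcJ
import Cfsg.Agent.S0292

/-!
# The spectra of `Ω_{2n+1}(q)` and `PSp_{2n}(q)` differ (`q` odd, `n ≥ 3`)
-/

set_option autoImplicit false
set_option maxHeartbeats 4000000
set_option linter.unusedSimpArgs false
set_option linter.unusedVariables false
set_option linter.unusedSectionVars false
set_option linter.style.haveILetI false

namespace Cfsg.Agent.Lib.Helper1.Bc

open Cfsg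
open Cfsg.Agent.Lib.Helper5.SpinorHyp2

theorem spectra_ne {F : Type*} [Field F] [Fintype F] (hodd : Odd (Fintype.card F)) (n : ℕ)
    (hn : 3 ≤ n) :
    Set.range (orderOf : Cfsg.POmega F ⇑(oddForm n F) → ℕ) ≠
      Set.range (orderOf : Cfsg.PSp n F → ℕ) := by
  classical
  have h2 : (2 : F) ≠ 0 := Cfsg.Agent.Lib.Helper5.two_ne_zero_of_odd_card hodd
  obtain ⟨p, hp⟩ := CharP.exists F
  haveI := hp
  haveI : Fact p.Prime := ⟨CharP.char_is_prime F p⟩
  obtain ⟨m, rfl⟩ : ∃ m, n = m + 1 := ⟨n - 1, by omega⟩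
  have hm : 2 ≤ m := by omega
  intro heq
  obtain ⟨gA, hgA⟩ := exists_psp_order (F := F) p h2 m (by omega)
  have hmem : (Fintype.card F ^ m + 1) * p ∈ Set.range (orderOf : Cfsg.PSp (m + 1) F → ℕ) :=
    ⟨gA, hgA⟩
  rw [← heq] at hmem
  obtain ⟨y, hy⟩ := hmem
  obtain ⟨x, rfl⟩ := QuotientGroup.mk_surjective y
  have hc := Cfsg.Agent.S0292.center_eq_bot (F := F) h2 (m + 1) (by omega)
  have hinj : Function.Injective
      (QuotientGroup.mk' (Subgroup.center ↥(Cfsg.Omega F ⇑(oddForm (m + 1) F)))) := by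
    rw [← MonoidHom.ker_eq_bot_iff, QuotientGroup.ker_mk', hc]
  have hx : orderOf x = (Fintype.card F ^ m + 1) * p := by
    rw [← hy]
    exact (orderOf_injective _ hinj x).symm
  have hcard : Fintype.card (Unit ⊕ (Fin (m + 1) ⊕ Fin (m + 1))) = 2 * m + 3 := by
    simp
    ring
  apply no_element (oddForm (m + 1) F) h2 (oddForm_nondegenerate h2 (m + 1)) p m hm hcard
    (x : ↥(Cfsg.isometryGroup F ⇑(oddForm (m + 1) F))) x.2
  rw [Subgroup.orderOf_coe, hx, mul_comm]

end Cfsg.Agent.Lib.Helper1.Bc
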