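import Mathlib
import Cfsg.Agent.Lib.Helper1.Metacyclic
import Cfsg.Agent.Lib.Helper1.CoprimeAut
import Cfsg.Agent.Lib.Helper1.PCore
import Cfsg.Agent.Lib.Helper2.MetaAct3
import Cfsg.Agent.Lib.Helper2.MetaOdd6
import Cfsg.Agent.Lib.Helper3.PGroupFix
import Cfsg.Agent.S0199

set_option autoImplicit false
set_option linter.style.haveILetI false
set_option linter.unusedSectionVars false
set_option linter.unusedVariables false
set_option maxHeartbeats 1000000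

/-! A strongly closed metacyclic `p`-subgroup (`p` odd) of a Sylow `p`-subgroup of a finite group
`L` with `C_L(O_p(L)) ≤ O_p(L)` lies in `O_p(L)`. -/

namespace Cfsg.Agent.Lib.Helper1.GE

open Cfsg Cfsg.Agent.Lib.Helper1
open scoped commutatorElement

universe u

variable {L : Type u} [Group L]

theorem comm_of_commutator_eq_one {G : Type*} [Group G] {a b : G}
    (h : a * b * a⁻¹ * b⁻¹ = 1) : a * b = b * a := by
  calc a * b = (a * b * a⁻¹ * b⁻¹) * (b * a) := by group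
    _ = b * a := by rw [h, one_mul]

theorem mem_centralizer_zpowers_iff (u z : L) :
    z ∈ Subgroup.centralizer ((Subgroup.zpowers u : Subgroup L) : Set L) ↔ u * z = z * u := by
  rw [Subgroup.mem_centralizer_iff]
  constructor
  · intro h
    exact h u (Subgroup.mem_zpowers u)
  · intro h g hg
    obtain ⟨k, rfl⟩ := Subgroup.mem_zpowers_iff.mp hg
    have hc : Commute u z := h
    exact (hc.zpow_left k).eq

theorem le_of_card_prime [Finite L] {p : ℕ} [hp : Fact p.Prime] {D I : Subgroup L}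
    (hD : Nat.card D = p) {e : L} (heD : e ∈ D) (heI : e ∈ I) (he : e ≠ 1) : D ≤ I := by
  have h1 : D ⊓ I ≤ D := inf_le_left
  have h2 : Nat.card ↥(D ⊓ I) ∣ p := by
    rw [← hD]
    exact Subgroup.card_dvd_of_le h1
  rcases (Nat.dvd_prime hp.out).mp h2 with h3 | h3
  · exfalso
    have h4 : D ⊓ I = ⊥ := Subgroup.eq_bot_of_card_eq _ h3
    have h5 : e ∈ D ⊓ I := ⟨heD, heI⟩
    rw [h4, Subgroup.mem_bot] at h5
    exact he h5
  · have h4 : D ⊓ I = D := Subgroup.eq_of_le_of_card_ge h1 (by rw [h3, hD])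
    rw [← h4]
    exact inf_le_right

theorem isMetacyclic_of_le {H K : Subgroup L} (hHK : H ≤ K) (hK : IsMetacyclic ↥K) :
    IsMetacyclic ↥H :=
  Cfsg.Agent.Lib.Helper2.MetaAct.isMetacyclic_of_mulEquiv (Subgroup.subgroupOfEquivOfLe hHK)
    (Cfsg.Agent.Lib.Helper2.MetaOdd.isMetacyclic_subgroup hK (H.subgroupOf K))

theorem omegaOne_le (p : ℕ) (M : Subgroup L) : omegaOne p M ≤ M := by
  unfold omegaOne
  rw [Subgroup.closure_le]
  exact fun x hx => hx.1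

theorem omegaOne_normal (p : ℕ) (M : Subgroup L) [hM : M.Normal] : (omegaOne p M).Normal := by
  constructor
  intro n hn g
  unfold omegaOne at hn ⊢
  induction hn using Subgroup.closure_induction with
  | mem x hx =>
    apply Subgroup.subset_closure
    refine ⟨hM.conj_mem x hx.1 g, ?_⟩
    rw [conj_pow, hx.2, mul_one, mul_inv_cancel]
  | one =>
    rw [mul_one, mul_inv_cancel]
    exact Subgroup.one_mem _
  | mul x y _ _ hx hy =>
    have e : g * (x * y) * g⁻¹ = (g * x * g⁻¹) * (g * y * g⁻¹) := by group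
    rw [e]
    exact Subgroup.mul_mem _ hx hy
  | inv x _ hx =>
    have e : g * x⁻¹ * g⁻¹ = (g * x * g⁻¹)⁻¹ := by group
    rw [e]
    exact Subgroup.inv_mem _ hx

/-- facts on `Ω₁` of a metacyclic `p`-group, `p` odd -/
theorem omega_top_facts {G : Type u} [Group G] [Finite G] {p : ℕ} [hp : Fact p.Prime]
    (hp2 : p ≠ 2) (hG : IsPGroup p G) (hm : IsMetacyclic G) :
    (∀ a ∈ omegaOne p (⊤ : Subgroup G), a ^ p = 1) ∧
    (∀ a ∈ omegaOne p (⊤ : Subgroup G), ∀ b ∈ omegaOne p (⊤ : Subgroup G), a * b = b * a) ∧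
    Nat.card (omegaOne p (⊤ : Subgroup G)) ≤ p ^ 2 ∧
    (IsCyclic G → Nat.card (omegaOne p (⊤ : Subgroup G)) ≤ p) := by
  by_cases hc : IsCyclic G
  · haveI := hc
    have hcomm : ∀ a b : G, a * b = b * a := fun a b => mul_comm' a b
    have hexp : ∀ a ∈ omegaOne p (⊤ : Subgroup G), a ^ p = 1 := by
      intro a ha
      unfold omegaOne at ha
      induction ha using Subgroup.closure_induction with
      | mem x hx => exact hx.2
      | one => exact one_pow p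
      | mul x y _ _ hx hy =>
        have hxy : Commute x y := hcomm x y
        rw [hxy.mul_pow, hx, hy, one_mul]
      | inv x _ hx => rw [inv_pow, hx, inv_one]
    have hcard : Nat.card (omegaOne p (⊤ : Subgroup G)) ≤ p := by
      apply card_le_of_isCyclic_of_pow_eq_one hp.out.pos
      intro c
      apply Subtype.ext
      rw [Subgroup.coe_pow, Subgroup.coe_one]
      exact hexp c c.2
    refine ⟨hexp, fun a _ b _ => hcomm a b, ?_, fun _ => hcard⟩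
    calc Nat.card (omegaOne p (⊤ : Subgroup G)) ≤ p := hcard
      _ = p ^ 1 := (pow_one p).symm
      _ ≤ p ^ 2 := Nat.pow_le_pow_right hp.out.pos (by norm_num)
  · obtain ⟨⟨hcW, heW⟩, hcardW⟩ := metacyclic_omegaOne hp2 hG hm hc
    refine ⟨heW, ?_, hcardW.le, fun h => absurd h hc⟩
    intro a ha b hb
    have h1 := @mul_comm' _ _ hcW ⟨a, ha⟩ ⟨b, hb⟩
    exact congrArg Subtype.val h1

theorem omegaOne_eq_map (p : ℕ) (M : Subgroup L) :
    omegaOne p M = (omegaOne p (⊤ : Subgroup ↥M)).map M.subtype := by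
  unfold omegaOne
  rw [MonoidHom.map_closure]
  congr 1
  ext x
  constructor
  · rintro ⟨hxM, hxp⟩
    refine ⟨⟨x, hxM⟩, ⟨Subgroup.mem_top _, ?_⟩, rfl⟩
    apply Subtype.ext
    rw [Subgroup.coe_pow, Subgroup.coe_one]
    exact hxp
  · rintro ⟨y, ⟨-, hy⟩, rfl⟩
    refine ⟨y.2, ?_⟩
    have := congrArg Subtype.val hy
    rw [Subgroup.coe_pow, Subgroup.coe_one] at this
    exact this

theorem omega_sub_facts [Finite L] {p : ℕ} [hp : Fact p.Prime] (hp2 : p ≠ 2) (M : Subgroup L)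
    (hMp : IsPGroup p M) (hMm : IsMetacyclic ↥M) :
    (∀ v ∈ omegaOne p M, v ^ p = 1) ∧
    (∀ a ∈ omegaOne p M, ∀ b ∈ omegaOne p M, a * b = b * a) ∧
    Nat.card (omegaOne p M) ≤ p ^ 2 ∧
    (IsCyclic ↥M → Nat.card (omegaOne p M) ≤ p) := by
  obtain ⟨h1, h2, h3, h4⟩ := omega_top_facts hp2 hMp hMm
  rw [omegaOne_eq_map p M]
  have hcard : Nat.card ↥((omegaOne p (⊤ : Subgroup ↥M)).map M.subtype) =
      Nat.card ↥(omegaOne p (⊤ : Subgroup ↥M)) :=
    Subgroup.card_map_of_injective M.subtype_injective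
  refine ⟨?_, ?_, ?_, ?_⟩
  · rintro _ ⟨w, hw, rfl⟩
    rw [← map_pow, h1 w hw, map_one]
  · rintro _ ⟨w, hw, rfl⟩ _ ⟨w', hw', rfl⟩
    rw [← map_mul, ← map_mul, h2 w hw w' hw']
  · rw [hcard]
    exact h3
  · intro hc
    rw [hcard]
    exact h4 hc

/-- a `p`-element acting nontrivially on a normal elementary abelian subgroup `V` of order at most
`p²`: `|V| = p²`, `C_V(u)` has order `p` and contains `[V, u]`. -/
theorem lin_facts [Finite L] {p : ℕ} [hp : Fact p.Prime] (V : Subgroup L) [hVn : V.Normal]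
    (hVc : ∀ a ∈ V, ∀ b ∈ V, a * b = b * a) (hVcard : Nat.card V ≤ p ^ 2) (hVp : IsPGroup p V)
    (u : L) (hu : IsPGroup p ↥(Subgroup.zpowers u)) (hnc : ∃ v ∈ V, u * v ≠ v * u) :
    Nat.card V = p ^ 2 ∧
    Nat.card ↥(V ⊓ Subgroup.centralizer ((Subgroup.zpowers u : Subgroup L) : Set L)) = p ∧
    ∀ v ∈ V, u * v * u⁻¹ * v⁻¹ ∈
      V ⊓ Subgroup.centralizer ((Subgroup.zpowers u : Subgroup L) : Set L) := by
  obtain ⟨v₀, hv₀V, hv₀⟩ := hnc
  obtain ⟨Cu, hCu⟩ : ∃ Cu : Subgroup L,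
      Cu = Subgroup.centralizer ((Subgroup.zpowers u : Subgroup L) : Set L) := ⟨_, rfl⟩
  rw [← hCu]
  have hCumem : ∀ z, z ∈ Cu ↔ u * z = z * u := fun z => by
    rw [hCu]; exact mem_centralizer_zpowers_iff u z
  have hV1 : V ≠ ⊥ := by
    intro h
    rw [h, Subgroup.mem_bot] at hv₀V
    rw [hv₀V] at hv₀
    simp at hv₀
  have hnorm : Subgroup.zpowers u ≤ Subgroup.normalizer ((V : Subgroup L) : Set L) := by
    intro g _
    exact Cfsg.Agent.Lib.Helper3.mem_normalizer_of_forall_conj_mem V g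
      (fun x hx => hVn.conj_mem x hx g)
  have hD1 : V ⊓ Cu ≠ ⊥ := by
    rw [hCu]
    exact Cfsg.Agent.Lib.Helper3.inf_centralizer_ne_bot_of_isPGroup p hVp hu hnorm hV1
  obtain ⟨D, hDdef⟩ : ∃ D : Subgroup L, D = V ⊓ Cu := ⟨_, rfl⟩
  rw [← hDdef] at hD1 ⊢
  have hDV : D ≤ V := by rw [hDdef]; exact inf_le_left
  have hDmem : ∀ z, z ∈ D ↔ z ∈ V ∧ u * z = z * u := fun z => by
    rw [hDdef, Subgroup.mem_inf, hCumem]
  have hDne : D ≠ V := by
    intro h
    have h1 : v₀ ∈ D := by rw [h]; exact hv₀V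
    exact hv₀ ((hDmem v₀).mp h1).2
  obtain ⟨a, ha⟩ := hVp.exists_card_eq
  obtain ⟨b, hb⟩ := (hVp.to_le hDV).exists_card_eq
  have hlt : Nat.card D < Nat.card V := by
    by_contra h
    push Not at h
    exact hDne (Subgroup.eq_of_le_of_card_ge hDV h)
  have hDcard1 : Nat.card D ≠ 1 := fun h => hD1 (Subgroup.eq_bot_of_card_eq _ h)
  have hp1 : 1 < p := hp.out.one_lt
  have hb0 : b ≠ 0 := by
    rintro rfl
    rw [pow_zero] at hb
    exact hDcard1 hb
  have hba : b < a := by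
    rw [ha, hb] at hlt
    exact (Nat.pow_lt_pow_iff_right hp1).mp hlt
  have ha2 : a ≤ 2 := by
    rw [ha] at hVcard
    exact (Nat.pow_le_pow_iff_right hp1).mp hVcard
  have hb1 : b = 1 := by omega
  have ha2' : a = 2 := by omega
  rw [hb1, pow_one] at hb
  rw [ha2'] at ha
  -- the commutator homomorphism
  obtain ⟨δ, hδ⟩ : ∃ δ : ↥V →* L, ∀ v : ↥V, δ v = u * v * u⁻¹ * (v : L)⁻¹ := by
    refine ⟨MonoidHom.mk' (fun v : ↥V => u * (v : L) * u⁻¹ * (v : L)⁻¹) ?_, fun v => rfl⟩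
    intro a b
    show u * ((a * b : ↥V) : L) * u⁻¹ * ((a * b : ↥V) : L)⁻¹ =
      (u * (a : L) * u⁻¹ * (a : L)⁻¹) * (u * (b : L) * u⁻¹ * (b : L)⁻¹)
    rw [Subgroup.coe_mul]
    have e1 : u * ((a : L) * b) * u⁻¹ * ((a : L) * b)⁻¹ =
        (u * a * u⁻¹) * (((u * b * u⁻¹) * (b : L)⁻¹) * (a : L)⁻¹) := by group
    have e2 : ((u * b * u⁻¹) * (b : L)⁻¹) * (a : L)⁻¹ = (a : L)⁻¹ * ((u * b * u⁻¹) * (b : L)⁻¹) :=
      hVc _ (V.mul_mem (hVn.conj_mem b b.2 u) (V.inv_mem b.2)) _ (V.inv_mem a.2)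
    rw [e1, e2]
    group
  have hδV : ∀ v : ↥V, δ v ∈ V := fun v => by
    rw [hδ]
    exact V.mul_mem (hVn.conj_mem v v.2 u) (V.inv_mem v.2)
  have hker : δ.ker = D.subgroupOf V := by
    ext v
    rw [MonoidHom.mem_ker, Subgroup.mem_subgroupOf, hDmem, hδ]
    constructor
    · intro h
      exact ⟨v.2, comm_of_commutator_eq_one h⟩
    · rintro ⟨-, h⟩
      rw [h]
      group
  have hkercard : Nat.card δ.ker = p := by
    rw [hker, Nat.card_congr (Subgroup.subgroupOfEquivOfLe hDV).toEquiv]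
    exact hb
  have h1 : Nat.card ↥V = Nat.card δ.ker * Nat.card δ.range := by
    rw [← Subgroup.index_ker, mul_comm, Subgroup.index_mul_card]
  have hWcard : Nat.card δ.range = p := by
    rw [ha, hkercard, pow_two] at h1
    exact (Nat.eq_of_mul_eq_mul_left hp.out.pos h1).symm
  obtain ⟨W, hWdef⟩ : ∃ W : Subgroup L, W = δ.range := ⟨_, rfl⟩
  rw [← hWdef] at hWcard
  have hWV : W ≤ V := by
    rw [hWdef]
    rintro _ ⟨v, rfl⟩
    exact hδV v
  have hWnorm : ∀ w ∈ W, u * w * u⁻¹ ∈ W := by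
    intro w hw
    rw [hWdef] at hw ⊢
    obtain ⟨v, rfl⟩ := hw
    refine ⟨⟨u * v * u⁻¹, hVn.conj_mem v v.2 u⟩, ?_⟩
    rw [hδ, hδ]
    show u * (u * (v : L) * u⁻¹) * u⁻¹ * (u * (v : L) * u⁻¹)⁻¹ =
      u * (u * (v : L) * u⁻¹ * (v : L)⁻¹) * u⁻¹
    group
  have hW1 : W ≠ ⊥ := by
    intro h
    rw [h, Subgroup.card_bot] at hWcard
    omega
  have hWp : IsPGroup p W := hVp.to_le hWV
  have hnormW : Subgroup.zpowers u ≤ Subgroup.normalizer ((W : Subgroup L) : Set L) :=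
    Subgroup.zpowers_le.mpr
      (Cfsg.Agent.Lib.Helper3.mem_normalizer_of_forall_conj_mem W u hWnorm)
  have hWC1 : W ⊓ Cu ≠ ⊥ := by
    rw [hCu]
    exact Cfsg.Agent.Lib.Helper3.inf_centralizer_ne_bot_of_isPGroup p hWp hu hnormW hW1
  obtain ⟨⟨e, he⟩, hne⟩ := (Subgroup.ne_bot_iff_exists_ne_one).mp hWC1
  have he1 : e ≠ 1 := fun h => hne (Subtype.ext h)
  have hWCu : W ≤ Cu := le_of_card_prime hWcard he.1 he.2 he1
  refine ⟨ha, hb, fun v hv => ?_⟩
  rw [hDdef]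
  have h2 : u * v * u⁻¹ * v⁻¹ ∈ W := by
    rw [hWdef]
    exact ⟨⟨v, hv⟩, hδ _⟩
  exact Subgroup.mem_inf.mpr ⟨hWV h2, hWCu h2⟩

/-- elements centralizing `D` and acting trivially on `V / D` -/
def chainStab (V D : Subgroup L) [hV : V.Normal] : Subgroup L where
  carrier := {g | (∀ d ∈ D, g * d = d * g) ∧ ∀ v ∈ V, g * v * g⁻¹ * v⁻¹ ∈ D}
  one_mem' := ⟨fun d _ => by rw [one_mul, mul_one], fun v hv => by
    have e : (1 : L) * v * 1⁻¹ * v⁻¹ = 1 := by group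
    rw [e]
    exact D.one_mem⟩
  mul_mem' := by
    rintro a b ⟨ha1, ha2⟩ ⟨hb1, hb2⟩
    refine ⟨fun d hd => ?_, fun v hv => ?_⟩
    · rw [mul_assoc, hb1 d hd, ← mul_assoc, ha1 d hd, mul_assoc]
    · have e : a * b * v * (a * b)⁻¹ * v⁻¹ =
          (a * (b * v * b⁻¹ * v⁻¹) * a⁻¹) * (a * v * a⁻¹ * v⁻¹) := by group
      rw [e]
      have h1 := hb2 v hv
      have h2 : a * (b * v * b⁻¹ * v⁻¹) * a⁻¹ = b * v * b⁻¹ * v⁻¹ := by
        rw [ha1 _ h1, mul_inv_cancel_right]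
      rw [h2]
      exact D.mul_mem h1 (ha2 v hv)
  inv_mem' := by
    rintro a ⟨ha1, ha2⟩
    refine ⟨fun d hd => ?_, fun v hv => ?_⟩
    · have h := ha1 d hd
      calc a⁻¹ * d = a⁻¹ * (d * a) * a⁻¹ := by group
        _ = a⁻¹ * (a * d) * a⁻¹ := by rw [h]
        _ = d * a⁻¹ := by group
    · have hv' : a⁻¹ * v * a ∈ V := by
        have := hV.conj_mem v hv a⁻¹
        rwa [inv_inv] at this
      have h1 := ha2 _ hv'
      have e : a * (a⁻¹ * v * a) * a⁻¹ * (a⁻¹ * v * a)⁻¹ = (a⁻¹ * v * a⁻¹⁻¹ * v⁻¹)⁻¹ := by group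
      rw [e] at h1
      exact (D.inv_mem_iff).mp h1

theorem mem_chainStab (V D : Subgroup L) [hV : V.Normal] (g : L) :
    g ∈ chainStab V D ↔ (∀ d ∈ D, g * d = d * g) ∧ ∀ v ∈ V, g * v * g⁻¹ * v⁻¹ ∈ D := Iff.rfl

/-- the elements of the abelian subgroup `V` inverted by `t` -/
def invSub (V : Subgroup L) (hVc : ∀ a ∈ V, ∀ b ∈ V, a * b = b * a) (t : L) : Subgroup L where
  carrier := {v | v ∈ V ∧ t * v * t⁻¹ = v⁻¹}
  one_mem' := ⟨V.one_mem, by rw [mul_one, mul_inv_cancel, inv_one]⟩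
  mul_mem' := by
    rintro a b ⟨haV, ha⟩ ⟨hbV, hb⟩
    refine ⟨V.mul_mem haV hbV, ?_⟩
    have e : t * (a * b) * t⁻¹ = (t * a * t⁻¹) * (t * b * t⁻¹) := by group
    rw [e, ha, hb, mul_inv_rev]
    exact hVc _ (V.inv_mem haV) _ (V.inv_mem hbV)
  inv_mem' := by
    rintro a ⟨haV, ha⟩
    refine ⟨V.inv_mem haV, ?_⟩
    have e : t * a⁻¹ * t⁻¹ = (t * a * t⁻¹)⁻¹ := by group
    rw [e, ha]

theorem mem_invSub (V : Subgroup L) (hVc : ∀ a ∈ V, ∀ b ∈ V, a * b = b * a) (t v : L) :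
    v ∈ invSub V hVc t ↔ v ∈ V ∧ t * v * t⁻¹ = v⁻¹ := Iff.rfl

theorem conj_pow_of_invert (V : Subgroup L) (t : L) (ht : ∀ v ∈ V, t * v * t⁻¹ = v⁻¹) :
    ∀ k : ℕ, ∀ v ∈ V, t ^ (2 * k + 1) * v * (t ^ (2 * k + 1))⁻¹ = v⁻¹ := by
  intro k
  induction k with
  | zero =>
    intro v hv
    simpa using ht v hv
  | succ k ih =>
    intro v hv
    have e : t ^ (2 * (k + 1) + 1) * v * (t ^ (2 * (k + 1) + 1))⁻¹ =
        t * (t * (t ^ (2 * k + 1) * v * (t ^ (2 * k + 1))⁻¹) * t⁻¹) * t⁻¹ := by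
      have h : 2 * (k + 1) + 1 = (2 * k + 1) + 1 + 1 := by ring
      rw [h, pow_succ', pow_succ']
      generalize t ^ (2 * k + 1) = s
      group
    rw [e, ih v hv]
    have e2 : t * v⁻¹ * t⁻¹ = (t * v * t⁻¹)⁻¹ := by group
    rw [e2, ht v hv, inv_inv, ht v hv]

end Cfsg.Agent.Lib.Helper1.GE
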