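import Mathlib
import Cfsg.Agent.Lib.Helper1.BK2
import Cfsg.Agent.Lib.Helper4.HallRegApp
import Cfsg.Agent.Lib.Helper4.RegOmega
import Cfsg.Agent.Lib.Helper1.Rk4
import Cfsg.Agent.Lib.Helper1.FrattiniP
import Cfsg.Agent.Lib.Helper4.Huppert
set_option autoImplicit false
set_option maxHeartbeats 4000000
set_option linter.unusedVariables false
set_option linter.unusedSectionVars false
set_option linter.style.longLine false
set_option linter.unusedSimpArgs false
set_option linter.deprecated false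
set_option linter.style.haveILetI false
open scoped commutatorElement Pointwise
universe u v
namespace Cfsg.Agent.Lib.Helper1.QR

open Cfsg

variable {G : Type u} [Group G] {p : ℕ} [hp : Fact p.Prime]

/-- power closures and homomorphisms -/
theorem powerClosure_map {H : Type v} [Group H] (f : G →* H) (n : ℕ) (K : Subgroup G) :
    (powerClosure p n K).map f = powerClosure p n (K.map f) := by
  unfold powerClosure
  rw [MonoidHom.map_closure]
  congr 1
  ext y
  constructor
  · rintro ⟨_, ⟨x, hx, rfl⟩, rfl⟩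
    exact ⟨f x, ⟨x, hx, rfl⟩, map_pow f x _⟩
  · rintro ⟨_, ⟨x, hx, rfl⟩, rfl⟩
    exact ⟨x ^ p ^ n, ⟨x, hx, rfl⟩, map_pow f x _⟩

theorem powerClosure_mono (n : ℕ) {K L : Subgroup G} (h : K ≤ L) :
    powerClosure p n K ≤ powerClosure p n L := by
  unfold powerClosure
  apply Subgroup.closure_mono
  rintro _ ⟨x, hx, rfl⟩
  exact ⟨x, h hx, rfl⟩

theorem powerClosure_le_of (n : ℕ) {K M : Subgroup G} (h : ∀ x ∈ K, x ^ p ^ n ∈ M) :
    powerClosure p n K ≤ M := by
  unfold powerClosure
  rw [Subgroup.closure_le]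
  rintro _ ⟨x, hx, rfl⟩
  exact h x hx

theorem pow_mem_powerClosure (n : ℕ) {K : Subgroup G} {x : G} (hx : x ∈ K) :
    x ^ p ^ n ∈ powerClosure p n K :=
  Subgroup.subset_closure ⟨x, hx, rfl⟩

/-- the regularity identity for elements of a regular subgroup -/
theorem reg_mul_pow {P : Subgroup G} (hreg : IsRegularPGroup p ↥P) {a b : G} (ha : a ∈ P)
    (hb : b ∈ P) :
    ∃ c ∈ powerClosure p 1 ⁅Subgroup.closure ({a, b} : Set G), Subgroup.closure ({a, b} : Set G)⁆,
      (a * b) ^ p = a ^ p * b ^ p * c := by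
  obtain ⟨c, hc, hcab⟩ := hreg.2 ⟨a, ha⟩ ⟨b, hb⟩ 1
  refine ⟨(c : G), ?_, ?_⟩
  · have h1 : (c : G) ∈ (powerClosure p 1 ⁅Subgroup.closure ({⟨a, ha⟩, ⟨b, hb⟩} : Set ↥P),
        Subgroup.closure ({⟨a, ha⟩, ⟨b, hb⟩} : Set ↥P)⁆).map P.subtype := ⟨c, hc, rfl⟩
    rw [powerClosure_map, Subgroup.map_commutator, MonoidHom.map_closure] at h1
    have h2 : (P.subtype '' ({⟨a, ha⟩, ⟨b, hb⟩} : Set ↥P)) = ({a, b} : Set G) := by
      rw [Set.image_pair]; rfl
    rw [h2] at h1
    exact h1
  · have := congrArg Subtype.val hcab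
    simpa using this

/-- rank two subgroups are regular for `p > 3` -/
theorem regular_of_rank_sub [Finite G] (hp3 : 3 < p) (hrk : PRankLE p 2 G) (P : Subgroup G)
    (hP : IsPGroup p P) : IsRegularPGroup p ↥P :=
  Cfsg.Agent.Lib.Helper4.HallReg.regular_of_rank hp3 hP
    (fun E hE => Cfsg.Agent.Lib.Helper1.Rk.pRankLE_subgroup hrk P E hE.1 hE.2)

theorem mem_omegaOne_iff [Finite G] {P : Subgroup G} (hreg : IsRegularPGroup p ↥P) (x : G) :
    x ∈ omegaOne p P ↔ x ∈ P ∧ x ^ p = 1 := by
  constructor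
  · intro hx
    exact Cfsg.Agent.Lib.Helper4.RegOmega.pow_eq_one_of_mem_omegaOne P hreg x hx
  · intro hx
    exact Subgroup.subset_closure hx

theorem omegaOne_le' (P : Subgroup G) : omegaOne p P ≤ P := by
  unfold omegaOne
  rw [Subgroup.closure_le]
  intro x hx
  exact hx.1

theorem card_omegaOne_le_cube [Finite G] (hp2 : p ≠ 2) (hrk : PRankLE p 2 G) {P : Subgroup G}
    (hP : IsPGroup p P) (hreg : IsRegularPGroup p ↥P) : Nat.card (omegaOne p P) ≤ p ^ 3 := by
  apply Cfsg.Agent.Lib.Helper1.Rk.card_le_cube_of_exponent_rank_two hp2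
  · exact hP.to_le (omegaOne_le' P)
  · intro x
    apply Subtype.ext
    rw [Subgroup.coe_pow]
    exact ((mem_omegaOne_iff hreg _).mp x.2).2
  · exact Cfsg.Agent.Lib.Helper1.Rk.pRankLE_subgroup hrk _

theorem exists_pow_eq_of_mem_powerClosure [Finite G] {P : Subgroup G}
    (hreg : IsRegularPGroup p ↥P) {y : G} (hy : y ∈ powerClosure p 1 P) :
    ∃ x ∈ P, y = x ^ p := by
  rw [← Cfsg.Agent.Lib.Helper4.RegOmega.powerClosure_map_subtype p 1 P] at hy
  obtain ⟨y', hy', rfl⟩ := hy
  obtain ⟨x, hx⟩ := (Cfsg.Agent.Lib.Helper4.RegOmega.mem_powerClosure_top hreg y').mp hy'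
  refine ⟨(x : G), x.2, ?_⟩
  rw [hx]
  simp

theorem pow_comm_of_pow_eq_one' [Finite G] {P : Subgroup G} (hreg : IsRegularPGroup p ↥P)
    {x e : G} (hx : x ∈ P) (he : e ∈ P) (hep : e ^ p = 1) : x ^ p * e = e * x ^ p := by
  have h1 := Cfsg.Agent.Lib.Helper1.BK.pow_comm_of_pow_eq_one hreg (⟨x, hx⟩ : ↥P) ⟨e, he⟩
    (by apply Subtype.ext; rw [Subgroup.coe_pow]; exact hep)
  have := congrArg Subtype.val h1
  simpa using this

/-- cardinality of a preimage under a surjective homomorphism -/
theorem card_comap_surj [Finite G] {H : Type v} [Group H] [Finite H] (f : G →* H)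
    (hf : Function.Surjective f) (K : Subgroup H) :
    Nat.card (K.comap f) = Nat.card K * Nat.card f.ker := by
  have h1 : (K.comap f).index = K.index := Subgroup.index_comap_of_surjective K hf
  have h2 : Nat.card G = Nat.card H * Nat.card f.ker := by
    rw [← Subgroup.index_mul_card f.ker, Subgroup.index_ker, MonoidHom.range_eq_top.mpr hf]
    simp
  have h3 := Subgroup.index_mul_card (K.comap f)
  have h4 := Subgroup.index_mul_card K
  rw [h1, h2, ← h4, mul_assoc] at h3
  have hne : K.index ≠ 0 := Subgroup.index_ne_zero_of_finite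
  exact Nat.eq_of_mul_eq_mul_left (Nat.pos_of_ne_zero hne) h3

/-- cardinality of a subgroup via its image and the part of the kernel inside it -/
theorem card_eq_card_map_mul [Finite G] {H : Type v} [Group H] (f : G →* H) (K : Subgroup G) :
    Nat.card K = Nat.card (K.map f) * Nat.card (K ⊓ f.ker : Subgroup G) := by
  have h1 := Subgroup.index_mul_card (f.subgroupMap K).ker
  rw [Subgroup.index_ker, MonoidHom.range_eq_top.mpr (f.subgroupMap_surjective K)] at h1
  rw [← h1]
  congr 1
  · simp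
  · have h2 : (f.subgroupMap K).ker = (K ⊓ f.ker).subgroupOf K := by
      ext x
      rw [MonoidHom.mem_ker, Subgroup.mem_subgroupOf, Subgroup.mem_inf, MonoidHom.mem_ker]
      constructor
      · intro h
        refine ⟨x.2, ?_⟩
        have := congrArg Subtype.val h
        simpa using this
      · rintro ⟨_, h⟩
        apply Subtype.ext
        simpa using h
    rw [h2]
    exact Nat.card_congr (Subgroup.subgroupOfEquivOfLe inf_le_left).toEquiv

theorem card_lt_of_lt [Finite G] {H K : Subgroup G} (h : H < K) : Nat.card H < Nat.card K := by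
  refine lt_of_le_of_ne (Subgroup.card_le_of_le h.le) ?_
  intro he
  exact h.ne (Subgroup.eq_of_le_of_card_ge h.le he.ge)

/-- a regular `p`-group with at most `p` elements of order dividing `p` is cyclic -/
theorem isCyclic_of_card_omegaOne_le [Finite G] {A : Subgroup G} (hA : IsPGroup p A)
    (hreg : IsRegularPGroup p ↥A) (h : Nat.card (omegaOne p A) ≤ p) : IsCyclic ↥A := by
  by_cases hA1 : Subsingleton ↥A
  · exact isCyclic_of_subsingleton
  rw [not_subsingleton_iff_nontrivial] at hA1
  have hcard := Cfsg.Agent.Lib.Helper4.RegOmega.card_eq A hreg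
  -- the power closure inside the type `↥A`
  have hmap := Cfsg.Agent.Lib.Helper4.RegOmega.powerClosure_map_subtype p 1 A
  have hle : powerClosure p 1 (⊤ : Subgroup ↥A) ≤ frattini ↥A := by
    apply powerClosure_le_of
    intro x _
    rw [pow_one]
    exact Cfsg.Agent.Lib.Helper1.pow_prime_mem_frattini_of_isPGroup p hA x
  have hc1 : Nat.card (powerClosure p 1 (⊤ : Subgroup ↥A)) = Nat.card (powerClosure p 1 A) := by
    rw [← hmap, Subgroup.card_map_of_injective A.subtype_injective]
  have hΦne : frattini ↥A ≠ ⊤ := Cfsg.Agent.Lib.Helper4.Huppert.frattini_ne_top'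
  -- card A ≤ card Φ * p
  have h2 : Nat.card ↥A ≤ Nat.card (frattini ↥A) * p := by
    rw [hcard, ← hc1]
    exact Nat.mul_le_mul (Subgroup.card_le_of_le hle) h
  obtain ⟨a, ha⟩ : ∃ a : ↥A, a ∉ frattini ↥A := by
    by_contra hcon
    push Not at hcon
    exact hΦne (eq_top_iff.mpr fun x _ => hcon x)
  have h3 : Subgroup.zpowers a ⊔ frattini ↥A = ⊤ := by
    by_contra hcon
    -- frattini < zpowers a ⊔ frattini < ⊤: two proper steps, each of index ≥ p
    have hlt1 : frattini ↥A < Subgroup.zpowers a ⊔ frattini ↥A := by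
      refine lt_of_le_of_ne le_sup_right ?_
      intro h'
      apply ha
      rw [h']
      exact (le_sup_left : Subgroup.zpowers a ≤ _) (Subgroup.mem_zpowers a)
    have hlt2 : Subgroup.zpowers a ⊔ frattini ↥A < ⊤ := lt_top_iff_ne_top.mpr hcon
    have hp1 := hp.out.one_lt
    -- cardinalities are powers of p
    obtain ⟨k1, hk1⟩ := IsPGroup.iff_card.mp (hA.to_subgroup (frattini ↥A))
    obtain ⟨k2, hk2⟩ := IsPGroup.iff_card.mp (hA.to_subgroup (Subgroup.zpowers a ⊔ frattini ↥A))
    obtain ⟨k3, hk3⟩ := IsPGroup.iff_card.mp hA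
    have hc12 : Nat.card (frattini ↥A) < Nat.card (Subgroup.zpowers a ⊔ frattini ↥A : Subgroup ↥A) :=
      card_lt_of_lt hlt1
    have hc23 : Nat.card (Subgroup.zpowers a ⊔ frattini ↥A : Subgroup ↥A) < Nat.card ↥A := by
      have := card_lt_of_lt hlt2
      rwa [Subgroup.card_top] at this
    rw [hk1, hk2] at hc12
    rw [hk2, hk3] at hc23
    rw [hk3, hk1, ← pow_succ] at h2
    have e1 := (Nat.pow_lt_pow_iff_right hp1).mp hc12
    have e2 := (Nat.pow_lt_pow_iff_right hp1).mp hc23
    have e3 := (Nat.pow_le_pow_iff_right hp1).mp h2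
    omega
  have h4 := frattini_nongenerating h3
  exact isCyclic_iff_exists_zpowers_eq_top.mpr ⟨a, h4⟩

end Cfsg.Agent.Lib.Helper1.QR
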