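import Mathlib
import Cfsg.Agent.Lib.Helper1.QR2
import Cfsg.Agent.Lib.Helper1.Reg3
import Cfsg.Agent.Lib.Helper3.RegularP
import Cfsg.Agent.Lib.Helper4.Metacyc3
import Cfsg.Agent.Lib.Helper2.MetaOdd8
import Cfsg.Agent.Lib.Helper2.PGroupOdd
import Cfsg.Agent.Lib.Helper1.Metacyclic
import Cfsg.Agent.Lib.Helper1.Douglas
import Cfsg.Agent.Lib.Helper1.BK4
import Cfsg.Agent.Lib.Helper1.GE1
set_option autoImplicit false
set_option maxHeartbeats 4000000
set_option linter.unusedVariables false
set_option linter.unusedSectionVars false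
set_option linter.style.longLine false
set_option linter.unusedSimpArgs false
set_option linter.deprecated false
set_option linter.style.haveILetI false
open scoped commutatorElement Pointwise
universe u v
namespace Cfsg.Agent.Lib.Helper1.Blk

open Cfsg Cfsg.Agent.Lib.Helper1 Cfsg.Agent.Lib.Helper2 Cfsg.Agent.Lib.Helper4

variable {p : ℕ} [hp : Fact p.Prime]

/-- lifting the weak regularity identity from a subgroup -/
theorem wr_of_sub {G : Type u} [Group G] (H : Subgroup G) (a b : G) (ha : a ∈ H) (hb : b ∈ H)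
    (h : ∃ c ∈ ⁅Subgroup.closure ({⟨a, ha⟩, ⟨b, hb⟩} : Set ↥H),
        Subgroup.closure ({⟨a, ha⟩, ⟨b, hb⟩} : Set ↥H)⁆,
      ((⟨a, ha⟩ : ↥H) * ⟨b, hb⟩) ^ p = (⟨a, ha⟩ : ↥H) ^ p * (⟨b, hb⟩ : ↥H) ^ p * c ^ p) :
    ∃ c ∈ ⁅Subgroup.closure ({a, b} : Set G), Subgroup.closure ({a, b} : Set G)⁆,
      (a * b) ^ p = a ^ p * b ^ p * c ^ p := by
  obtain ⟨c, hc, hceq⟩ := h
  refine ⟨(c : G), ?_, ?_⟩
  · have h1 : (c : G) ∈ (⁅Subgroup.closure ({⟨a, ha⟩, ⟨b, hb⟩} : Set ↥H),
        Subgroup.closure ({⟨a, ha⟩, ⟨b, hb⟩} : Set ↥H)⁆).map H.subtype := ⟨c, hc, rfl⟩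
    rw [Subgroup.map_commutator, MonoidHom.map_closure] at h1
    have h2 : (H.subtype '' ({⟨a, ha⟩, ⟨b, hb⟩} : Set ↥H)) = ({a, b} : Set G) := by
      rw [Set.image_pair]; rfl
    rw [h2] at h1
    exact h1
  · have := congrArg Subtype.val hceq
    simpa using this

theorem isCyclic_commutator_sub {G : Type u} [Group G] (hcyc : IsCyclic ↥(commutator G))
    (H : Subgroup G) : IsCyclic ↥(commutator ↥H) := by
  have hmem : ∀ x : ↥(commutator ↥H), (H.subtype.comp (commutator ↥H).subtype) x ∈ commutator G := by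
    intro x
    have hle : (commutator ↥H).map H.subtype ≤ commutator G := by
      rw [commutator_def, Subgroup.map_commutator, commutator_def]
      exact Subgroup.commutator_mono le_top le_top
    exact hle ⟨x.1, x.2, rfl⟩
  let f : ↥(commutator ↥H) →* ↥(commutator G) :=
    (H.subtype.comp (commutator ↥H).subtype).codRestrict (commutator G) hmem
  have hf : Function.Injective f := by
    intro x y hxy
    have := congrArg Subtype.val hxy
    apply Subtype.ext
    apply Subtype.ext
    exact this
  exact isCyclic_of_injective f hf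

theorem card_dvd_prime_of_le {G : Type u} [Group G] [Finite G] (hG : IsPGroup p G)
    (h : Nat.card G ≤ p) : Nat.card G ∣ p := by
  obtain ⟨k, hk⟩ := IsPGroup.iff_card.mp hG
  rw [hk] at h ⊢
  have hk1 : k ≤ 1 := by
    by_contra hcon
    push_neg at hcon
    have : p ^ 2 ≤ p ^ k := Nat.pow_le_pow_right hp.out.pos hcon
    have h2 : p < p ^ 2 := by
      have := hp.out.one_lt
      nlinarith
    omega
  calc p ^ k ∣ p ^ 1 := pow_dvd_pow p hk1
    _ = p := pow_one p

/-- a `p`-group (`p` odd) with cyclic derived subgroup satisfies the weak regularity identity -/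
theorem wr_of_cyclic_derived_aux (hp2 : p ≠ 2) : ∀ (m : ℕ) (G : Type u) [Group G] [Finite G],
    Nat.card G = m → IsPGroup p G → IsCyclic ↥(commutator G) → ∀ a b : G,
    ∃ c ∈ ⁅Subgroup.closure ({a, b} : Set G), Subgroup.closure ({a, b} : Set G)⁆,
      (a * b) ^ p = a ^ p * b ^ p * c ^ p := by
  intro m
  induction m using Nat.strong_induction_on with
  | _ m ih =>
  intro G _ _ hcard hG hcyc a b
  by_cases hH : Subgroup.closure ({a, b} : Set G) = ⊤
  · rw [hH]
    have hDdef : ⁅(⊤ : Subgroup G), ⊤⁆ = commutator G := (commutator_def G).symm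
    rw [hDdef]
    haveI hDn : (commutator G).Normal := by rw [commutator_def]; infer_instance
    have hcomm : ∀ y ∈ commutator G, ∀ z ∈ commutator G, y * z = z * y :=
      MetaOdd.comm_of_cyclic (commutator G) hcyc
    by_cases hDp : Nat.card ↥(commutator G) ≤ p
    · have hdvd : Nat.card ↥(commutator G) ∣ p :=
        card_dvd_prime_of_le (hG.to_subgroup (commutator G)) hDp
      have hpow : ∀ y ∈ commutator G, y ^ p = 1 := by
        intro y hy
        have h1 : (⟨y, hy⟩ : ↥(commutator G)) ^ Nat.card ↥(commutator G) = 1 := pow_card_eq_one'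
        obtain ⟨t, ht⟩ := hdvd
        have h2 : (⟨y, hy⟩ : ↥(commutator G)) ^ p = 1 := by
          rw [ht, pow_mul, h1, one_pow]
        exact congrArg Subtype.val h2
      have hcen : ∀ y ∈ commutator G, y ∈ Subgroup.center G := fun y hy =>
        MetaOdd.mem_center_of_pow_eq_one hG (commutator G) hcyc y hy (hpow y hy)
      have hu : Reg.cu a b ∈ commutator G := Reg.cu_mem_commutator a b
      have hua : Commute (Reg.cu a b) a := (Subgroup.mem_center_iff.mp (hcen _ hu) a).symm
      have hub : Commute (Reg.cu a b) b := (Subgroup.mem_center_iff.mp (hcen _ hu) b).symm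
      have h := Rk.mul_pow_of_central_commutator hp2 a b hua hub (hpow _ hu)
      exact ⟨1, Subgroup.one_mem _, by rw [h, one_pow, mul_one]⟩
    · push_neg at hDp
      set D := commutator G with hD
      obtain ⟨k, hk⟩ := IsPGroup.iff_card.mp (hG.to_subgroup D)
      have hk2 : 2 ≤ k := by
        by_contra hcon
        push_neg at hcon
        have : p ^ k ≤ p ^ 1 := Nat.pow_le_pow_right hp.out.pos (by omega)
        rw [pow_one] at this
        omega
      let N : Subgroup G := MetaOdd.omegaSub D hcomm p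
      haveI hNn : N.Normal := ⟨fun n hn g => MetaOdd.omegaSub_conj_mem D hcomm p n hn g⟩
      have hNne : N ≠ ⊥ := by
        have hpd : p ∣ Nat.card ↥D := by rw [hk]; exact dvd_pow_self p (by omega)
        obtain ⟨x, hx⟩ := exists_prime_orderOf_dvd_card' p hpd
        intro hbot
        have hxN : (x : G) ∈ N := by
          rw [MetaOdd.mem_omegaSub]
          refine ⟨x.2, ?_⟩
          have : x ^ p = 1 := by rw [← hx]; exact pow_orderOf_eq_one x
          exact congrArg Subtype.val this
        rw [hbot, Subgroup.mem_bot] at hxN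
        have hx1 : x = 1 := Subtype.ext hxN
        rw [hx1, orderOf_one] at hx
        exact hp.out.one_lt.ne hx
      have hQlt : Nat.card (G ⧸ N) < m := by
        have h1 := Subgroup.card_eq_card_quotient_mul_card_subgroup N
        have h2 : 2 ≤ Nat.card ↥N := by
          by_contra hcon
          push_neg at hcon
          have h3 : Nat.card ↥N = 1 := by
            have : 0 < Nat.card ↥N := Nat.card_pos
            omega
          exact hNne (Subgroup.card_eq_one.mp h3)
        have h3 : 0 < Nat.card (G ⧸ N) := Nat.card_pos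
        rw [hcard] at h1
        nlinarith
      have hsurj : Function.Surjective (QuotientGroup.mk' N) := QuotientGroup.mk'_surjective N
      have hmapD : D.map (QuotientGroup.mk' N) = commutator (G ⧸ N) :=
        Metacyc.map_commutator_top (QuotientGroup.mk' N) hsurj
      have hcycQ : IsCyclic ↥(commutator (G ⧸ N)) := by
        rw [← hmapD]
        haveI := hcyc
        exact isCyclic_of_surjective ((QuotientGroup.mk' N).subgroupMap D)
          ((QuotientGroup.mk' N).subgroupMap_surjective D)
      have hQ : IsPGroup p (G ⧸ N) := hG.to_quotient N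
      obtain ⟨cb, hcb, hcbeq⟩ := ih _ hQlt (G ⧸ N) rfl hQ hcycQ (QuotientGroup.mk' N a)
        (QuotientGroup.mk' N b)
      have hcb' : cb ∈ D.map (QuotientGroup.mk' N) := by
        rw [hmapD, commutator_def]
        exact Subgroup.commutator_mono le_top le_top hcb
      obtain ⟨c, hcD, hccb⟩ := hcb'
      have hnN : (a ^ p * b ^ p * c ^ p)⁻¹ * (a * b) ^ p ∈ N := by
        rw [← QuotientGroup.eq_one_iff]
        have h1 : ((((a ^ p * b ^ p * c ^ p)⁻¹ * (a * b) ^ p : G)) : G ⧸ N) =
            ((QuotientGroup.mk' N a) ^ p * (QuotientGroup.mk' N b) ^ p * cb ^ p)⁻¹ *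
              ((QuotientGroup.mk' N a) * (QuotientGroup.mk' N b)) ^ p := by
          rw [← hccb]
          simp
        rw [h1, hcbeq]
        group
      obtain ⟨hnD, hnp⟩ := MetaOdd.mem_omegaSub.mp hnN
      have hcardD : Nat.card ↥D = p ^ (k - 1) * p := by
        rw [hk, ← pow_succ]
        congr 1
        omega
      obtain ⟨z, hz⟩ := MetaOdd.exists_pow_eq_of_pow_eq_one hcyc (p ^ (k - 1)) p hp.out.pos hcardD
        ⟨_, hnD⟩ (Subtype.ext hnp)
      have hz' : ((z : G)) ^ p ^ (k - 1) = (a ^ p * b ^ p * c ^ p)⁻¹ * (a * b) ^ p := by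
        have := congrArg Subtype.val hz
        simpa using this
      let e : G := (z : G) ^ p ^ (k - 2)
      have heD : e ∈ D := Subgroup.pow_mem _ z.2 _
      have hep : e ^ p = (a ^ p * b ^ p * c ^ p)⁻¹ * (a * b) ^ p := by
        rw [← hz']
        show ((z : G) ^ p ^ (k - 2)) ^ p = _
        rw [← pow_mul, ← pow_succ]
        congr 2
        omega
      refine ⟨c * e, Subgroup.mul_mem _ hcD heD, ?_⟩
      have hce : Commute c e := hcomm c hcD e heD
      rw [hce.mul_pow, hep]
      group
  · set H := Subgroup.closure ({a, b} : Set G) with hHdef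
    have ha : a ∈ H := Subgroup.subset_closure (by simp)
    have hb : b ∈ H := Subgroup.subset_closure (by simp)
    have hlt : Nat.card ↥H < m := hcard ▸ Reg.card_lt_of_ne_top H hH
    obtain ⟨c, hc, hceq⟩ := ih _ hlt ↥H rfl (hG.to_subgroup H) (isCyclic_commutator_sub hcyc H)
      ⟨a, ha⟩ ⟨b, hb⟩
    exact wr_of_sub H a b ha hb ⟨c, hc, hceq⟩

theorem regular_of_cyclic_derived {G : Type u} [Group G] [Finite G] (hp2 : p ≠ 2)
    (hG : IsPGroup p G) (hcyc : IsCyclic ↥(commutator G)) : IsRegularPGroup p G :=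
  (Reg.s0643 hG).2 (wr_of_cyclic_derived_aux hp2 _ G rfl hG hcyc)

theorem regular_of_metacyclic {G : Type u} [Group G] [Finite G] (hp2 : p ≠ 2)
    (hG : IsPGroup p G) (hm : IsMetacyclic G) : IsRegularPGroup p G := by
  obtain ⟨N, hNn, hNc, hQc⟩ := hm
  haveI := hNn
  have hle : commutator G ≤ N := MetaOdd.commutator_le_of_cyclic_quotient N hQc
  haveI := hNc
  exact regular_of_cyclic_derived hp2 hG (Douglas.isCyclic_of_le hle)

end Cfsg.Agent.Lib.Helper1.Blk
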