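import Mathlib
import Cfsg.Agent.Lib.Helper1.Blk1
import Cfsg.Agent.Lib.Helper2.PGroup
set_option autoImplicit false
set_option maxHeartbeats 4000000
set_option linter.unusedVariables false
set_option linter.unusedSectionVars false
set_option linter.style.longLine false
set_option linter.unusedSimpArgs false
set_option linter.deprecated false
set_option linter.style.haveILetI false
open scoped commutatorElement Pointwise
universe u v
namespace Cfsg.Agent.Lib.Helper1.Blk

open Cfsg Cfsg.Agent.Lib.Helper1 Cfsg.Agent.Lib.Helper2 Cfsg.Agent.Lib.Helper4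

variable {p : ℕ} [hp : Fact p.Prime]

/-- a metacyclic group has `|G : ℧₁(G)| ≤ p²` -/
theorem index_powerClosure_le_of_metacyclic {G : Type u} [Group G] [Finite G]
    (hm : IsMetacyclic G) : (powerClosure p 1 (⊤ : Subgroup G)).index ≤ p ^ 2 := by
  set U := powerClosure p 1 (⊤ : Subgroup G) with hU
  haveI : U.Normal := Reg.powerClosure_normal p 1 ⊤
  have hmQ : IsMetacyclic (G ⧸ U) := Metacyc.isMetacyclic_of_surjective (QuotientGroup.mk' U)
    (QuotientGroup.mk'_surjective U) hm
  have hexp : ∀ q : G ⧸ U, q ^ p = 1 := by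
    intro q
    obtain ⟨g, rfl⟩ := QuotientGroup.mk_surjective q
    rw [← QuotientGroup.mk_pow, QuotientGroup.eq_one_iff]
    have := QR.pow_mem_powerClosure (p := p) 1 (K := (⊤ : Subgroup G)) (x := g) (Subgroup.mem_top g)
    simpa using this
  obtain ⟨N, hNn, hNc, hQc⟩ := hmQ
  haveI := hNn
  haveI := hNc
  haveI := hQc
  have h1 : Nat.card N ≤ p := card_le_of_isCyclic_of_pow_eq_one hp.out.pos
    (fun c => Subtype.ext (by simpa using hexp c))
  have h2 : Nat.card ((G ⧸ U) ⧸ N) ≤ p := card_le_of_isCyclic_of_pow_eq_one hp.out.pos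
    (fun c => by
      obtain ⟨g, rfl⟩ := QuotientGroup.mk_surjective c
      rw [← QuotientGroup.mk_pow, hexp]
      rfl)
  rw [Subgroup.index_eq_card, Subgroup.card_eq_card_quotient_mul_card_subgroup N]
  nlinarith

theorem le_or_le_of_forall_mem_or {G : Type*} [Group G] {U A B : Subgroup G}
    (h : ∀ u ∈ U, u ∈ A ∨ u ∈ B) : U ≤ A ∨ U ≤ B := by
  by_contra hcon
  push_neg at hcon
  obtain ⟨h1, h2⟩ := hcon
  obtain ⟨x, hxU, hxA⟩ := SetLike.not_le_iff_exists.mp h1
  obtain ⟨y, hyU, hyB⟩ := SetLike.not_le_iff_exists.mp h2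
  have hxB : x ∈ B := (h x hxU).resolve_left hxA
  have hyA : y ∈ A := (h y hyU).resolve_right hyB
  rcases h (x * y) (U.mul_mem hxU hyU) with h3 | h3
  · exact hxA (by simpa using A.mul_mem h3 (A.inv_mem hyA))
  · exact hyB (by simpa using B.mul_mem (B.inv_mem hxB) h3)

theorem lcs_map {G : Type*} {H : Type*} [Group G] [Group H] (f : G →* H)
    (hf : Function.Surjective f) (n : ℕ) :
    ((⊤ : Subgroup G).lowerCentralSeries n).map f = (⊤ : Subgroup H).lowerCentralSeries n := by
  have htop : (⊤ : Subgroup G).map f = ⊤ := by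
    rw [← MonoidHom.range_eq_map]; exact MonoidHom.range_eq_top.mpr hf
  induction n with
  | zero => simpa [Subgroup.lowerCentralSeries_zero] using htop
  | succ k ih =>
    rw [Subgroup.lowerCentralSeries_succ, Subgroup.map_commutator, ih,
      Subgroup.lowerCentralSeries_succ, htop]

/-- every proper subgroup of a finite `p`-group lies in a subgroup of index `p` -/
theorem exists_index_prime_ge {G : Type u} [Group G] [Finite G] (hG : IsPGroup p G)
    (H : Subgroup G) (hH : H ≠ ⊤) : ∃ K : Subgroup G, H ≤ K ∧ K.index = p ∧ K.Normal := by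
  obtain ⟨N, hN⟩ := IsPGroup.iff_card.mp hG
  obtain ⟨n, hn⟩ := IsPGroup.iff_card.mp (hG.to_subgroup H)
  have hlt : Nat.card ↥H < Nat.card G := Reg.card_lt_of_ne_top H hH
  rw [hN, hn] at hlt
  have hnN : n < N := (Nat.pow_lt_pow_iff_right hp.out.one_lt).mp hlt
  have hdvd : p ^ (N - 1) ∣ Nat.card G := by rw [hN]; exact pow_dvd_pow p (by omega)
  obtain ⟨K, hKc, hHK⟩ := Sylow.exists_subgroup_card_pow_prime_le p hdvd H hn (by omega)
  have hidx : K.index = p := by
    have h1 := Subgroup.card_mul_index K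
    rw [hKc, hN] at h1
    have h2 : p ^ N = p ^ (N - 1) * p := by
      rw [← pow_succ]; congr 1; omega
    rw [h2] at h1
    exact Nat.eq_of_mul_eq_mul_left (pow_pos hp.out.pos _) h1
  exact ⟨K, hHK, hidx, normal_of_index_eq_prime hG K hidx⟩

theorem exists_two_index_prime {G : Type u} [Group G] [Finite G] (hG : IsPGroup p G)
    (hnc : ¬ IsCyclic G) : ∃ H₁ H₂ : Subgroup G, H₁ ≠ H₂ ∧ H₁.index = p ∧ H₂.index = p ∧
      H₁.Normal ∧ H₂.Normal := by
  have hbt : (⊥ : Subgroup G) ≠ ⊤ := by
    intro h
    apply hnc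
    have : Subsingleton G := by
      rw [← Subgroup.subsingleton_iff]
      exact subsingleton_of_bot_eq_top h
    infer_instance
  obtain ⟨H₁, -, h1, h1n⟩ := exists_index_prime_ge hG ⊥ hbt
  have hne1 : H₁ ≠ ⊤ := by
    intro h
    rw [h, Subgroup.index_top] at h1
    exact hp.out.one_lt.ne h1
  obtain ⟨x, hx⟩ : ∃ x : G, x ∉ H₁ := by
    by_contra hcon
    push_neg at hcon
    exact hne1 (eq_top_iff.mpr (fun y _ => hcon y))
  have hzx : Subgroup.zpowers x ≠ ⊤ := by
    intro h
    apply hnc
    exact ⟨⟨x, fun y => by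
      have : y ∈ Subgroup.zpowers x := by rw [h]; exact Subgroup.mem_top y
      exact this⟩⟩
  obtain ⟨H₂, h2le, h2, h2n⟩ := exists_index_prime_ge hG _ hzx
  refine ⟨H₁, H₂, ?_, h1, h2, h1n, h2n⟩
  intro h
  exact hx (h ▸ h2le (Subgroup.mem_zpowers x))

/-- Suzuki's criterion: an element with centralizer of order at most `p²` forces maximal class -/
theorem lcs_ne_bot_of_card_centralizer_le : ∀ (n : ℕ), 2 ≤ n → ∀ (G : Type u) [Group G] [Finite G],
    Nat.card G = p ^ n → (∃ x : G, Nat.card (Subgroup.centralizer ({x} : Set G)) ≤ p ^ 2) →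
    (⊤ : Subgroup G).lowerCentralSeries (n - 2) ≠ ⊥ := by
  intro n hn
  induction n, hn using Nat.le_induction with
  | base =>
    intro G _ _ hcard _ h
    rw [Nat.sub_self, Subgroup.lowerCentralSeries_zero] at h
    have h1 : Nat.card (⊤ : Subgroup G) = 1 := by rw [h]; exact Subgroup.card_bot
    rw [Subgroup.card_top, hcard] at h1
    have := Nat.one_lt_pow (n := 2) (by norm_num) hp.out.one_lt
    omega
  | succ n hn ih =>
    intro G _ _ hcard ⟨x, hx⟩
    have hG : IsPGroup p G := IsPGroup.of_card hcard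
    haveI : Nontrivial G := by
      rw [← Finite.one_lt_card_iff_nontrivial, hcard]
      exact Nat.one_lt_pow (by omega) hp.out.one_lt
    set Z := Subgroup.center G with hZ
    have hZle : Z ≤ Subgroup.centralizer ({x} : Set G) := Subgroup.center_le_centralizer _
    obtain ⟨j, hj⟩ := IsPGroup.iff_card.mp (hG.to_subgroup Z)
    have hj1 : 1 ≤ j := by
      by_contra hcon
      have hj0 : j = 0 := by omega
      rw [hj0, pow_zero] at hj
      have hZbot : Z = ⊥ := Subgroup.card_eq_one.mp hj
      have := hG.center_nontrivial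
      rw [← hZ, hZbot] at this
      exact not_nontrivial _ this
    have hjle : p ^ j ≤ p ^ 2 := hj ▸ le_trans (Subgroup.card_le_of_le hZle) hx
    have hj2 : j ≤ 2 := (Nat.pow_le_pow_iff_right hp.out.one_lt).mp hjle
    have hjne : j ≠ 2 := by
      intro h2
      rw [h2] at hj
      have heq : Z = Subgroup.centralizer ({x} : Set G) :=
        Subgroup.eq_of_le_of_card_ge hZle (hj ▸ hx)
      have hxZ : x ∈ Z := by
        rw [heq]; exact Subgroup.mem_centralizer_singleton_iff.mpr rfl
      have htop : Subgroup.centralizer ({x} : Set G) = ⊤ := by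
        rw [eq_top_iff]
        intro g _
        rw [Subgroup.mem_centralizer_singleton_iff]
        exact (Subgroup.mem_center_iff.mp hxZ g)
      rw [htop, Subgroup.card_top, hcard] at hx
      have := (Nat.pow_le_pow_iff_right hp.out.one_lt).mp hx
      omega
    have hj' : j = 1 := by omega
    rw [hj', pow_one] at hj
    -- the quotient
    have hQcard : Nat.card (G ⧸ Z) = p ^ n := by
      have h1 := Subgroup.card_eq_card_quotient_mul_card_subgroup Z
      rw [hcard, hj, pow_succ] at h1
      exact (Nat.eq_of_mul_eq_mul_right hp.out.pos h1).symm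
    set f := QuotientGroup.mk' Z with hf
    have hfs : Function.Surjective f := QuotientGroup.mk'_surjective Z
    set T := (Subgroup.centralizer ({f x} : Set (G ⧸ Z))).comap f with hT
    have hTmem : ∀ g : G, g ∈ T → ⁅g, x⁆ ∈ Z := by
      intro g hg
      rw [hT, Subgroup.mem_comap, Subgroup.mem_centralizer_singleton_iff] at hg
      rw [← QuotientGroup.eq_one_iff]
      have : ((⁅g, x⁆ : G) : G ⧸ Z) = ⁅f g, f x⁆ := by
        simp [commutatorElement_def, hf]
      rw [this, commutatorElement_eq_one_iff_mul_comm]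
      exact hg
    have hTcard : Nat.card ↥T = Nat.card ↥(Subgroup.centralizer ({f x} : Set (G ⧸ Z))) * p := by
      rw [hT, QR.card_comap_surj f hfs, hf, QuotientGroup.ker_mk', hj]
    let ψ : ↥T →* ↥Z :=
      { toFun := fun g => ⟨⁅(g : G), x⁆, hTmem g g.2⟩
        map_one' := by
          apply Subtype.ext
          simp
        map_mul' := by
          intro g h
          apply Subtype.ext
          have hc : ⁅(h : G), x⁆ ∈ Subgroup.center G := hTmem h h.2
          have hc2 : ⁅(g : G), x⁆ ∈ Subgroup.center G := hTmem g g.2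
          have h1 : ⁅((g : G) * (h : G)), x⁆ = (g : G) * ⁅(h : G), x⁆ * (g : G)⁻¹ * ⁅(g : G), x⁆ := by
            simp only [commutatorElement_def]; group
          have h2 : (g : G) * ⁅(h : G), x⁆ * (g : G)⁻¹ = ⁅(h : G), x⁆ := by
            rw [(Subgroup.mem_center_iff.mp hc (g : G)), mul_assoc, mul_inv_cancel, mul_one]
          show ⁅((g : G) * (h : G)), x⁆ = ⁅(g : G), x⁆ * ⁅(h : G), x⁆
          rw [h1, h2]
          exact (Subgroup.mem_center_iff.mp hc2 _) }
    have hker : Nat.card ↥ψ.ker ≤ Nat.card ↥(Subgroup.centralizer ({x} : Set G)) := by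
      let ι : ↥ψ.ker → ↥(Subgroup.centralizer ({x} : Set G)) := fun g =>
        ⟨((g : ↥T) : G), by
          have h1 : ψ (g : ↥T) = 1 := g.2
          have h2 : ⁅(((g : ↥T) : G)), x⁆ = 1 := congrArg Subtype.val h1
          rw [Subgroup.mem_centralizer_singleton_iff]
          exact (commutatorElement_eq_one_iff_mul_comm.mp h2)⟩
      apply Nat.card_le_card_of_injective ι
      intro a b hab
      have := congrArg Subtype.val hab
      exact Subtype.ext (Subtype.ext this)
    have hrange : Nat.card (↥T ⧸ ψ.ker) ≤ p := by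
      rw [Nat.card_congr (QuotientGroup.quotientKerEquivRange ψ).toEquiv, ← hj]
      exact Nat.card_le_card_of_injective (fun y => (y : ↥Z)) Subtype.val_injective
    have hTle : Nat.card ↥T ≤ p ^ 2 * p := by
      rw [Subgroup.card_eq_card_quotient_mul_card_subgroup ψ.ker, mul_comm]
      exact Nat.mul_le_mul (le_trans hker hx) hrange
    have hcq : Nat.card ↥(Subgroup.centralizer ({f x} : Set (G ⧸ Z))) ≤ p ^ 2 := by
      rw [hTcard] at hTle
      exact Nat.le_of_mul_le_mul_right hTle hp.out.pos
    have hih := ih (G ⧸ Z) hQcard ⟨f x, hcq⟩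
    intro hbot
    apply hih
    have hsub : n + 1 - 2 = (n - 2) + 1 := by omega
    rw [hsub, Subgroup.lowerCentralSeries_succ, Subgroup.commutator_eq_bot_iff_le_centralizer] at hbot
    have hle : (⊤ : Subgroup G).lowerCentralSeries (n - 2) ≤ Z := by
      intro y hy
      have := hbot hy
      rw [Subgroup.coe_top, Subgroup.centralizer_univ] at this
      exact this
    rw [← lcs_map f hfs (n - 2), eq_bot_iff]
    rintro _ ⟨y, hy, rfl⟩
    rw [Subgroup.mem_bot, hf, QuotientGroup.mk'_apply, QuotientGroup.eq_one_iff]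
    exact hle hy

end Cfsg.Agent.Lib.Helper1.Blk
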