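import Mathlib
import Cfsg.Agent.Lib.Helper1.Blk2
set_option autoImplicit false
set_option maxHeartbeats 4000000
set_option linter.unusedVariables false
set_option linter.unusedSectionVars false
set_option linter.style.longLine false
set_option linter.unusedSimpArgs false
set_option linter.deprecated false
set_option linter.style.haveILetI false
open scoped commutatorElement Pointwise
universe u v
namespace Cfsg.Agent.Lib.Helper1.Blk

open Cfsg Cfsg.Agent.Lib.Helper1 Cfsg.Agent.Lib.Helper2 Cfsg.Agent.Lib.Helper3 Cfsg.Agent.Lib.Helper4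

theorem isMetacyclic_of_isCyclic {G : Type u} [Group G] (h : IsCyclic G) : IsMetacyclic G := by
  refine ⟨⊥, inferInstance, inferInstance, ?_⟩
  haveI := h
  exact isCyclic_of_surjective (QuotientGroup.mk' (⊥ : Subgroup G)) (QuotientGroup.mk'_surjective _)

/-- commutator expansion `[x³, y] = x²[x,y]x⁻² · x[x,y]x⁻¹ · [x,y]` -/
theorem comm_cube_left {G : Type*} [Group G] (x y : G) :
    ⁅x ^ 3, y⁆ = x ^ 2 * ⁅x, y⁆ * (x ^ 2)⁻¹ * (x * ⁅x, y⁆ * x⁻¹) * ⁅x, y⁆ := by
  simp only [commutatorElement_def]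
  group

/-- if `r = [x, q]` is central then `[x³, y] = r³ q³` for `q = [x, y]` -/
theorem comm_cube_left_of_central {G : Type*} [Group G] (x y : G)
    (hr : ⁅x, ⁅x, y⁆⁆ ∈ Subgroup.center G) :
    ⁅x ^ 3, y⁆ = ⁅x, ⁅x, y⁆⁆ ^ 3 * ⁅x, y⁆ ^ 3 := by
  rw [comm_cube_left]
  set q := ⁅x, y⁆ with hq
  set r := ⁅x, q⁆ with hrdef
  have h1 : x * q * x⁻¹ = r * q := by
    rw [hrdef, commutatorElement_def]; group
  have hrc : ∀ g : G, g * r = r * g := fun g => Subgroup.mem_center_iff.mp hr g
  have h2 : x ^ 2 * q * (x ^ 2)⁻¹ = r * r * q := by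
    have : x ^ 2 * q * (x ^ 2)⁻¹ = x * (x * q * x⁻¹) * x⁻¹ := by
      rw [pow_two]; group
    rw [this, h1]
    have : x * (r * q) * x⁻¹ = (x * r) * (q * x⁻¹) := by group
    rw [this, hrc x]
    have : r * x * (q * x⁻¹) = r * (x * q * x⁻¹) := by group
    rw [this, h1]
    group
  rw [h2, h1]
  have e1 : r * r * q * (r * q) * q = r * r * (q * r) * q * q := by group
  rw [e1, hrc q]
  have e2 : r * r * (r * q) * q * q = r ^ 3 * q ^ 3 := by
    simp only [pow_succ, pow_zero, one_mul, mul_assoc]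
  rw [e2]

theorem card_subgroupOf_le' {G : Type*} [Group G] [Finite G] (V H : Subgroup G) :
    Nat.card ↥(V.subgroupOf H) ≤ Nat.card ↥V := by
  apply Nat.card_le_card_of_injective (fun x : ↥(V.subgroupOf H) => (⟨(x : ↥H), x.2⟩ : ↥V))
  intro a b hab
  have := congrArg Subtype.val hab
  exact Subtype.ext (Subtype.ext this)

/-- index of a subgroup of a `3`-group which is not `≤ 9` is at least `27` -/
theorem twentyseven_le_index {M : Type u} [Group M] [Finite M] (hM : IsPGroup 3 M)
    (U : Subgroup M) (h : ¬ U.index ≤ 9) : 27 ≤ U.index := by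
  obtain ⟨k, hk⟩ := hM.index U
  rw [hk] at h ⊢
  have hk3 : 3 ≤ k := by
    by_contra hcon
    push_neg at hcon
    have : (3 : ℕ) ^ k ≤ 3 ^ 2 := Nat.pow_le_pow_right (by norm_num) (by omega)
    omega
  calc 27 = 3 ^ 3 := by norm_num
    _ ≤ 3 ^ k := Nat.pow_le_pow_right (by norm_num) hk3

theorem lemmaA_aux : ∀ (m : ℕ) (M : Type u) [Group M] [Finite M], Nat.card M = m →
    IsPGroup 3 M → ∀ V : Subgroup M, V ≤ Subgroup.center M → Nat.card V ≤ 9 →
    (∀ x : M, x ^ 3 = 1 → x ∈ V) → IsMetacyclic M := by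
  intro m
  induction m using Nat.strong_induction_on with
  | _ m ih =>
  intro M _ _ hcard hM V hVc hV9 hV
  -- proper subgroups are metacyclic
  have hsub : ∀ H : Subgroup M, H ≠ ⊤ → IsMetacyclic ↥H := by
    intro H hH
    have hlt : Nat.card ↥H < m := hcard ▸ Reg.card_lt_of_ne_top H hH
    refine ih _ hlt ↥H rfl (hM.to_subgroup H) (V.subgroupOf H) ?_ ?_ ?_
    · intro x hx
      rw [Subgroup.mem_center_iff]
      intro g
      apply Subtype.ext
      have := Subgroup.mem_center_iff.mp (hVc (Subgroup.mem_subgroupOf.mp hx)) (g : M)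
      simpa using this
    · exact le_trans (card_subgroupOf_le' V H) hV9
    · intro x hx
      rw [Subgroup.mem_subgroupOf]
      apply hV
      have := congrArg Subtype.val hx
      simpa using this
  have hsubreg : ∀ H : Subgroup M, H ≠ ⊤ → IsRegularPGroup 3 ↥H := fun H hH =>
    regular_of_metacyclic (by norm_num) (hM.to_subgroup H) (hsub H hH)
  set U := powerClosure 3 1 (⊤ : Subgroup M) with hU
  by_cases hidx : U.index ≤ 3 ^ 2
  · exact Metacyc.huppert (by norm_num) hM hidx
  exfalso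
  have hidx27 : 27 ≤ U.index := twentyseven_le_index hM U (by norm_num at hidx ⊢; omega)
  have hMU : 27 * Nat.card ↥U ≤ Nat.card M := by
    rw [← Subgroup.card_mul_index U, mul_comm]
    exact Nat.mul_le_mul_left _ hidx27
  by_cases hcyc : IsCyclic M
  · -- cyclic groups have small index
    have hmeta := isMetacyclic_of_isCyclic hcyc
    have := index_powerClosure_le_of_metacyclic (p := 3) hmeta
    exact hidx this
  obtain ⟨H₁, H₂, hne, h1, h2, h1n, h2n⟩ := exists_two_index_prime hM hcyc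
  have hne_top : ∀ H : Subgroup M, H.index = 3 → H ≠ ⊤ := by
    intro H hH h
    rw [h, Subgroup.index_top] at hH
    omega
  -- structure of a maximal subgroup
  have hmax : ∀ H : Subgroup M, H.index = 3 → powerClosure 3 1 H = U ∧ V ≤ H ∧ Nat.card ↥V = 9 ∧
      Nat.card ↥H = 9 * Nat.card ↥U ∧ (∀ v ∈ V, v ^ 3 = 1) := by
    intro H hH
    have hreg := hsubreg H (hne_top H hH)
    have hc := RegOmega.card_eq H hreg
    have hle1 : powerClosure 3 1 H ≤ U := QR.powerClosure_mono 1 le_top
    have hΩle : omegaOne 3 H ≤ V ⊓ H := by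
      unfold omegaOne
      rw [Subgroup.closure_le]
      rintro x ⟨hxH, hx3⟩
      exact ⟨hV x hx3, hxH⟩
    have hc1 : Nat.card ↥(powerClosure 3 1 H) ≤ Nat.card ↥U := Subgroup.card_le_of_le hle1
    have hc2 : Nat.card ↥(omegaOne 3 H) ≤ Nat.card ↥(V ⊓ H : Subgroup M) :=
      Subgroup.card_le_of_le hΩle
    have hc3 : Nat.card ↥(V ⊓ H : Subgroup M) ≤ Nat.card ↥V := Subgroup.card_le_of_le inf_le_left
    have hMH : Nat.card M = Nat.card ↥H * 3 := by rw [← hH]; exact (Subgroup.card_mul_index H).symm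
    have hUpos : 0 < Nat.card ↥U := Nat.card_pos
    have hPpos : 0 < Nat.card ↥(powerClosure 3 1 H) := Nat.card_pos
    -- numerical squeeze
    have hΩ9 : Nat.card ↥(omegaOne 3 H) = 9 ∧ Nat.card ↥(powerClosure 3 1 H) = Nat.card ↥U := by
      have hO9 : Nat.card ↥(omegaOne 3 H) ≤ 9 := le_trans hc2 (le_trans hc3 hV9)
      have hA : 27 * Nat.card ↥U ≤ Nat.card ↥(powerClosure 3 1 H) * Nat.card ↥(omegaOne 3 H) * 3 := by
        rw [← hc, ← hMH]; exact hMU
      constructor
      · by_contra hcon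
        have : Nat.card ↥(omegaOne 3 H) ≤ 8 := by omega
        nlinarith
      · by_contra hcon
        have : Nat.card ↥(powerClosure 3 1 H) < Nat.card ↥U := lt_of_le_of_ne hc1 hcon
        nlinarith
    have hV9' : Nat.card ↥V = 9 := by omega
    have hVH : Nat.card ↥(V ⊓ H : Subgroup M) = Nat.card ↥V := by omega
    have hVleH : V ≤ H := by
      have : V ⊓ H = V := Subgroup.eq_of_le_of_card_ge inf_le_left (by omega)
      rw [← this]; exact inf_le_right
    refine ⟨Subgroup.eq_of_le_of_card_ge hle1 (by omega), hVleH, hV9', ?_, ?_⟩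
    · rw [hc, hΩ9.1, hΩ9.2, mul_comm]
    · intro v hv
      have hΩV : omegaOne 3 H = V ⊓ H := Subgroup.eq_of_le_of_card_ge hΩle (by omega)
      have hvΩ : v ∈ omegaOne 3 H := by rw [hΩV]; exact ⟨hv, hVleH hv⟩
      exact (RegOmega.pow_eq_one_of_mem_omegaOne H hreg v hvΩ).2
  obtain ⟨hP1, hV1, hV9e, hcH1, hVexp⟩ := hmax H₁ h1
  obtain ⟨hP2, hV2, -, hcH2, -⟩ := hmax H₂ h2
  have hreg1 := hsubreg H₁ (hne_top H₁ h1)
  have hreg2 := hsubreg H₂ (hne_top H₂ h2)
  -- cubes of elements of H₁ outside H₂ are central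
  have hout : ∀ h ∈ H₁, h ∉ H₂ → h ^ 3 ∈ Subgroup.center M := by
    intro h hh1 hh2
    have hhU : h ^ 3 ∈ powerClosure 3 1 H₂ := by
      rw [hP2, ← hP1]
      have := QR.pow_mem_powerClosure (p := 3) 1 hh1
      simpa using this
    obtain ⟨k, hk2, hk⟩ := QR.exists_pow_eq_of_mem_powerClosure hreg2 hhU
    set L := Subgroup.closure ({h, k} : Set M) with hL
    have hhL : h ∈ L := Subgroup.subset_closure (by simp)
    have hkL : k ∈ L := Subgroup.subset_closure (by simp)
    have hLtop : L = ⊤ := by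
      by_contra hcon
      have hregL := hsubreg L hcon
      have h3 := (regular_pow_eq_iff hregL ⟨h, hhL⟩ ⟨k, hkL⟩ 1).mp (by
        apply Subtype.ext
        simpa using hk)
      have h4 : (h * k⁻¹) ^ 3 = 1 := by
        have := congrArg Subtype.val h3
        simpa using this
      have h5 : h * k⁻¹ ∈ H₂ := hV2 (hV _ h4)
      apply hh2
      have := H₂.mul_mem h5 hk2
      simpa using this
    have hLle : L ≤ Subgroup.centralizer ({h ^ 3} : Set M) := by
      rw [hL, Subgroup.closure_le]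
      intro g hg
      rcases hg with rfl | rfl
      · show g ∈ Subgroup.centralizer ({g ^ 3} : Set M)
        rw [Subgroup.mem_centralizer_singleton_iff]
        exact (pow_mul_comm' g 3).symm
      · show g ∈ Subgroup.centralizer ({h ^ 3} : Set M)
        rw [Subgroup.mem_centralizer_singleton_iff, hk]
        exact (pow_mul_comm' g 3).symm
    rw [Subgroup.mem_center_iff]
    intro g
    have hg : g ∈ L := by rw [hLtop]; exact Subgroup.mem_top g
    have := Subgroup.mem_centralizer_singleton_iff.mp (hLle hg)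
    exact this
  set D := H₁ ⊓ H₂ with hD
  have hDne : D ≠ ⊤ := fun h => hne_top H₁ h1 (eq_top_iff.mpr (h ▸ inf_le_left))
  have hregD := hsubreg D hDne
  have hVD : V ≤ D := le_inf hV1 hV2
  have hUcen : U ≤ Subgroup.center M := by
    have hor : ∀ u ∈ U, u ∈ Subgroup.center M ∨ u ∈ powerClosure 3 1 D := by
      intro u hu
      rw [← hP1] at hu
      obtain ⟨h, hh1, rfl⟩ := QR.exists_pow_eq_of_mem_powerClosure hreg1 hu
      by_cases hh2 : h ∈ H₂
      · right
        have := QR.pow_mem_powerClosure (p := 3) 1 (K := D) (x := h) ⟨hh1, hh2⟩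
        simpa using this
      · left
        exact hout h hh1 hh2
    rcases le_or_le_of_forall_mem_or hor with h | h
    · exact h
    · exfalso
      have hcD := RegOmega.card_eq D hregD
      have hΩD : V ≤ omegaOne 3 D := by
        intro v hv
        exact Subgroup.subset_closure ⟨hVD hv, hVexp v hv⟩
      have h9 : 9 ≤ Nat.card ↥(omegaOne 3 D) := hV9e ▸ Subgroup.card_le_of_le hΩD
      have hUle : Nat.card ↥U ≤ Nat.card ↥(powerClosure 3 1 D) := Subgroup.card_le_of_le h
      have hDH : Nat.card ↥H₁ ≤ Nat.card ↥D := by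
        rw [hcH1, hcD]
        nlinarith
      have hDeq : D = H₁ := Subgroup.eq_of_le_of_card_ge inf_le_left hDH
      have h12 : H₁ ≤ H₂ := by rw [← hDeq]; exact inf_le_right
      exact hne (Subgroup.eq_of_le_of_card_ge h12 (by rw [hcH1, hcH2]))
  haveI hUn : U.Normal := Reg.powerClosure_normal 3 1 ⊤
  have hQcard : Nat.card (M ⧸ U) = 3 ^ 3 := by
    have e1 := Subgroup.card_eq_card_quotient_mul_card_subgroup U
    have e2 : Nat.card M = Nat.card ↥H₁ * 3 := by
      rw [← h1]; exact (Subgroup.card_mul_index H₁).symm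
    rw [e2, hcH1] at e1
    have hUpos : 0 < Nat.card ↥U := Nat.card_pos
    have : Nat.card (M ⧸ U) * Nat.card ↥U = 27 * Nat.card ↥U := by rw [← e1]; ring
    have := Nat.eq_of_mul_eq_mul_right hUpos this
    rw [this]; norm_num
  have hcc : ∀ a b c : M, ⁅⁅a, b⁆, c⁆ ∈ Subgroup.center M := by
    intro a b c
    apply hUcen
    rw [← QuotientGroup.eq_one_iff]
    have e1 := BK.comm_mem_center_of_card_cube hQcard (QuotientGroup.mk' U a) (QuotientGroup.mk' U b)
    have e2 : ((⁅⁅a, b⁆, c⁆ : M) : M ⧸ U) = ⁅⁅(QuotientGroup.mk' U a), (QuotientGroup.mk' U b)⁆,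
        (QuotientGroup.mk' U c)⁆ := by
      simp [commutatorElement_def]
    rw [e2, commutatorElement_eq_one_iff_mul_comm]
    exact (Subgroup.mem_center_iff.mp e1 _).symm
  have hcube : ∀ x : M, x ^ 3 ∈ Subgroup.center M := by
    intro x
    apply hUcen
    have := QR.pow_mem_powerClosure (p := 3) 1 (K := (⊤ : Subgroup M)) (x := x) (Subgroup.mem_top x)
    simpa using this
  have hcomm_one : ∀ x y : M, x ∈ Subgroup.center M → ⁅x, y⁆ = 1 := by
    intro x y hx
    rw [commutatorElement_eq_one_iff_mul_comm]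
    exact (Subgroup.mem_center_iff.mp hx y).symm
  have hq3 : ∀ x y : M, ⁅x, y⁆ ^ 3 = 1 := by
    intro x y
    have hr : ⁅x, ⁅x, y⁆⁆ ∈ Subgroup.center M := by
      have := hcc x y x
      rw [← commutatorElement_inv]
      exact Subgroup.inv_mem _ this
    have hr3 : ⁅x, ⁅x, y⁆⁆ ^ 3 = 1 := by
      have hrr : ⁅x, ⁅x, ⁅x, y⁆⁆⁆ = 1 := by
        rw [← commutatorElement_inv, hcomm_one _ _ hr, inv_one]
      have e1 := comm_cube_left_of_central x ⁅x, y⁆ (by rw [hrr]; exact Subgroup.one_mem _)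
      rw [hcomm_one _ _ (hcube x), hrr, one_pow, one_mul] at e1
      exact e1.symm
    have e2 := comm_cube_left_of_central x y hr
    rw [hcomm_one _ _ (hcube x), hr3, one_mul] at e2
    exact e2.symm
  have hcl : ⁅commutator M, (⊤ : Subgroup M)⁆ = ⊥ := by
    rw [Subgroup.commutator_eq_bot_iff_le_centralizer, Subgroup.coe_top, Subgroup.centralizer_univ,
      commutator_def, Subgroup.commutator_le]
    intro x _ y _
    exact hVc (hV _ (hq3 x y))
  have hWR := Reg.WR_of_class_two (p := 3) (by norm_num) hcl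
  have hregM := Reg.regular_of_WR hM hWR
  have hi := RegOmega.index_eq_top hregM
  have hΩle : omegaOne 3 (⊤ : Subgroup M) ≤ V := by
    unfold omegaOne
    rw [Subgroup.closure_le]
    rintro x ⟨-, hx3⟩
    exact hV x hx3
  have : U.index ≤ 9 := by
    rw [hU, hi]
    exact le_trans (Subgroup.card_le_of_le hΩle) hV9
  omega

theorem lemmaA {M : Type u} [Group M] [Finite M] (hM : IsPGroup 3 M) (V : Subgroup M)
    (hVc : V ≤ Subgroup.center M) (hV9 : Nat.card V ≤ 9) (hV : ∀ x : M, x ^ 3 = 1 → x ∈ V) :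
    IsMetacyclic M :=
  lemmaA_aux _ M rfl hM V hVc hV9 hV

end Cfsg.Agent.Lib.Helper1.Blk
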