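import Mathlib
import Cfsg.Agent.Lib.Helper1.Blk3
import Cfsg.Agent.Lib.Lead.UniqueP
import Cfsg.Agent.Lib.Helper1.Rk3
set_option autoImplicit false
set_option maxHeartbeats 4000000
set_option linter.unusedVariables false
set_option linter.unusedSectionVars false
set_option linter.style.longLine false
set_option linter.unusedSimpArgs false
set_option linter.deprecated false
set_option linter.style.haveILetI false
open scoped commutatorElement Pointwise
universe u v
namespace Cfsg.Agent.Lib.Helper1.Blk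

open Cfsg Cfsg.Agent.Lib.Helper1 Cfsg.Agent.Lib.Helper2 Cfsg.Agent.Lib.Helper3 Cfsg.Agent.Lib.Helper4

variable {G : Type u} [Group G] [Finite G] {p : ℕ} [hp : Fact p.Prime]

/-- rank two: an element of order `p` centralizing an elementary abelian subgroup of order `p²`
lies in it -/
theorem mem_of_centralizes (hrk : PRankLE p 2 G) (A : Subgroup G)
    (hAc : ∀ a ∈ A, ∀ b ∈ A, a * b = b * a) (hAexp : ∀ a ∈ A, a ^ p = 1)
    (hA2 : Nat.card A = p ^ 2) (x : G) (hx : x ∈ Subgroup.centralizer (A : Set G))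
    (hxp : x ^ p = 1) : x ∈ A := by
  have hAcomm : IsMulCommutative A := ⟨⟨fun a b => Subtype.ext (hAc a a.2 b b.2)⟩⟩
  set T := A ⊔ Subgroup.zpowers x with hT
  have hTc : IsMulCommutative T := HallReg.comm_sup_zpowers' hAcomm hx
  have hTcomm : ∀ a ∈ T, ∀ b ∈ T, a * b = b * a := fun a ha b hb =>
    congrArg Subtype.val (hTc.is_comm.comm ⟨a, ha⟩ ⟨b, hb⟩)
  let K : Subgroup G :=
    { carrier := {y | y ∈ T ∧ y ^ p = 1}
      one_mem' := ⟨T.one_mem, one_pow _⟩
      mul_mem' := by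
        rintro a b ⟨ha, hap⟩ ⟨hb, hbp⟩
        refine ⟨T.mul_mem ha hb, ?_⟩
        have hc : Commute a b := hTcomm a ha b hb
        rw [hc.mul_pow, hap, hbp, one_mul]
      inv_mem' := by
        rintro a ⟨ha, hap⟩
        exact ⟨T.inv_mem ha, by rw [inv_pow, hap, inv_one]⟩ }
  have hTK : T ≤ K := by
    apply sup_le
    · intro a ha
      exact ⟨le_sup_left (a := A) ha, hAexp a ha⟩
    · rw [Subgroup.zpowers_le]
      exact ⟨le_sup_right (b := Subgroup.zpowers x) (Subgroup.mem_zpowers x), hxp⟩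
  have hTexp : ∀ a ∈ T, a ^ p = 1 := fun a ha => (hTK ha).2
  have h1 := hrk T hTc hTexp
  have hAT : A = T := Subgroup.eq_of_le_of_card_ge le_sup_left (by rw [hA2]; exact h1)
  rw [hAT]
  exact le_sup_right (b := Subgroup.zpowers x) (Subgroup.mem_zpowers x)

theorem center_map_subtype (E : Subgroup G) :
    (Subgroup.center ↥E).map E.subtype = E ⊓ Subgroup.centralizer (E : Set G) := by
  ext x
  constructor
  · rintro ⟨y, hy, rfl⟩
    refine Subgroup.mem_inf.mpr ⟨y.2, ?_⟩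
    rw [Subgroup.mem_centralizer_iff]
    intro e he
    have := Subgroup.mem_center_iff.mp hy ⟨e, he⟩
    exact congrArg Subtype.val this
  · intro hx
    obtain ⟨hx1, hx2⟩ := Subgroup.mem_inf.mp hx
    refine ⟨⟨x, hx1⟩, ?_, rfl⟩
    rw [SetLike.mem_coe, Subgroup.mem_center_iff]
    intro g
    apply Subtype.ext
    exact Subgroup.mem_centralizer_iff.mp hx2 g g.2

/-- structure of a normal subgroup of order `p³` and exponent `p` in a `p`-group of rank two -/
theorem structE (hp2 : p ≠ 2) (hG : IsPGroup p G) (hrk : PRankLE p 2 G) (E : Subgroup G)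
    [hEn : E.Normal] (hE3 : Nat.card E = p ^ 3) (hEexp : ∀ x ∈ E, x ^ p = 1) :
    (¬ ∀ x ∈ E, ∀ y ∈ E, x * y = y * x) ∧
    Nat.card (E ⊓ Subgroup.centralizer (E : Set G) : Subgroup G) = p ∧
    (E ⊓ Subgroup.centralizer (E : Set G) ≤ Subgroup.center G) ∧
    (∀ x ∈ E, ∀ y ∈ E, ⁅x, y⁆ ∈ E ⊓ Subgroup.centralizer (E : Set G)) ∧
    (∃ A₀ : Subgroup G, A₀.Normal ∧ E ⊓ Subgroup.centralizer (E : Set G) ≤ A₀ ∧ A₀ ≤ E ∧
      Nat.card A₀ = p ^ 2) ∧
    (∀ x ∈ Subgroup.centralizer (E : Set G), x ^ p = 1 →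
      x ∈ E ⊓ Subgroup.centralizer (E : Set G)) ∧
    IsCyclic (Subgroup.centralizer (E : Set G)) := by
  have hnc : ¬ ∀ x ∈ E, ∀ y ∈ E, x * y = y * x := by
    intro h
    have h1 := hrk E ⟨⟨fun a b => Subtype.ext (h a a.2 b b.2)⟩⟩ hEexp
    rw [hE3] at h1
    have := Nat.pow_lt_pow_right hp.out.one_lt (show 2 < 3 by norm_num)
    omega
  have hncE : ¬ ∀ a b : ↥E, a * b = b * a := by
    intro h
    apply hnc
    intro x hx y hy
    exact congrArg Subtype.val (h ⟨x, hx⟩ ⟨y, hy⟩)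
  set Z := E ⊓ Subgroup.centralizer (E : Set G) with hZdef
  have hZ : Nat.card Z = p := by
    rw [hZdef, ← center_map_subtype, Subgroup.card_map_of_injective E.subtype_injective]
    exact BK.card_center_of_card_cube hE3 hncE
  haveI hZn : Z.Normal := by rw [hZdef]; infer_instance
  haveI : Group.IsNilpotent G := hG.isNilpotent
  have hZc : Z ≤ Subgroup.center G := Rk.le_center_of_normal_card_prime Z hZ
  have hcomm : ∀ x ∈ E, ∀ y ∈ E, ⁅x, y⁆ ∈ Z := by
    intro x hx y hy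
    have h1 := BK.comm_mem_center_of_card_cube hE3 (⟨x, hx⟩ : ↥E) ⟨y, hy⟩
    rw [hZdef, ← center_map_subtype]
    exact ⟨_, h1, rfl⟩
  have hZE : Z ≤ E := inf_le_left
  have hZneE : Z ≠ E := by
    intro h
    rw [h, hE3] at hZ
    have := Nat.pow_lt_pow_right hp.out.one_lt (show 1 < 3 by norm_num)
    rw [pow_one] at this
    omega
  obtain ⟨A₀, hA₀n, hZA, hAE, hA₀c⟩ := Rk.exists_normal_step hG Z E hZE hZneE
  rw [hZ] at hA₀c
  have hA₀2 : Nat.card A₀ = p ^ 2 := by rw [hA₀c]; ring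
  have hA₀comm : IsMulCommutative A₀ :=
    Metacyc.isMulCommutative_of_card_le_sq (hG.to_subgroup A₀) hA₀2.le
  have hA₀c' : ∀ a ∈ A₀, ∀ b ∈ A₀, a * b = b * a := fun a ha b hb =>
    congrArg Subtype.val (hA₀comm.is_comm.comm ⟨a, ha⟩ ⟨b, hb⟩)
  have hCZ : ∀ x ∈ Subgroup.centralizer (E : Set G), x ^ p = 1 → x ∈ Z := by
    intro x hx hxp
    have hxA : x ∈ Subgroup.centralizer (A₀ : Set G) :=
      Subgroup.centralizer_le (by exact_mod_cast hAE) hx
    have := mem_of_centralizes hrk A₀ hA₀c' (fun a ha => hEexp a (hAE ha)) hA₀2 x hxA hxp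
    exact ⟨hAE this, hx⟩
  refine ⟨hnc, hZ, hZc, hcomm, ⟨A₀, hA₀n, hZA, hAE, hA₀2⟩, hCZ, ?_⟩
  have hCp : IsPGroup p (Subgroup.centralizer (E : Set G)) := hG.to_subgroup _
  have hu : Cfsg.Agent.Lib.Lead.UniqueP.UOP p (Subgroup.centralizer (E : Set G)) := by
    intro x y hx hy hx1
    have hx' : (x : G) ^ p = 1 := by rw [← Subgroup.coe_pow, hx]; rfl
    have hy' : (y : G) ^ p = 1 := by rw [← Subgroup.coe_pow, hy]; rfl
    have hxZ : (x : G) ∈ Z := hCZ _ x.2 hx'
    have hyZ : (y : G) ∈ Z := hCZ _ y.2 hy'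
    have hx1' : (x : G) ≠ 1 := fun h => hx1 (Subtype.ext h)
    have heq := BK.zpowers_eq_of_card_prime hZ hxZ hx1'
    have : (y : G) ∈ Subgroup.zpowers (x : G) := by rw [heq]; exact hyZ
    obtain ⟨k, hk⟩ := Subgroup.mem_zpowers_iff.mp this
    rw [Subgroup.mem_zpowers_iff]
    exact ⟨k, Subtype.ext (by rw [Subgroup.coe_zpow]; exact hk)⟩
  rcases Cfsg.Agent.Lib.Lead.UniqueP.cyclic_or_quaternion p hCp hu with h | ⟨h, -⟩
  · exact h
  · exact absurd h hp2

end Cfsg.Agent.Lib.Helper1.Blk
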