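import Mathlib
import Cfsg.Agent.Lib.Helper1.Blk4
import Cfsg.Agent.Lib.Helper1.GlaubermanRepl3
set_option autoImplicit false
set_option maxHeartbeats 4000000
set_option linter.unusedVariables false
set_option linter.unusedSectionVars false
set_option linter.style.longLine false
set_option linter.unusedSimpArgs false
set_option linter.deprecated false
set_option linter.style.haveILetI false
open scoped commutatorElement Pointwise
universe u v
namespace Cfsg.Agent.Lib.Helper1.Blk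

open Cfsg Cfsg.Agent.Lib.Helper1 Cfsg.Agent.Lib.Helper2 Cfsg.Agent.Lib.Helper3 Cfsg.Agent.Lib.Helper4

variable {G : Type u} [Group G] [Finite G] {p : ℕ} [hp : Fact p.Prime]

/-- a `p`-group acts trivially on a normal section of order `p` -/
theorem comm_mem_of_card_mul (hG : IsPGroup p G) (E A₀ : Subgroup G) [hEn : E.Normal]
    [hAn : A₀.Normal] (hAE : A₀ ≤ E) (hcard : Nat.card E = Nat.card A₀ * p) (g e : G)
    (he : e ∈ E) : ⁅e, g⁆ ∈ A₀ := by
  set f := QuotientGroup.mk' A₀ with hf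
  haveI : (E.map f).Normal := Subgroup.Normal.map hEn f (QuotientGroup.mk'_surjective A₀)
  have hcm : Nat.card ↥(E.map f) = p := by
    have h1 := QR.card_eq_card_map_mul f E
    rw [hf, QuotientGroup.ker_mk', inf_eq_right.mpr hAE, hcard] at h1
    have hpos : 0 < Nat.card ↥A₀ := Nat.card_pos
    have : Nat.card ↥A₀ * p = Nat.card ↥(E.map (QuotientGroup.mk' A₀)) * Nat.card ↥A₀ := h1
    rw [mul_comm] at this
    exact (Nat.eq_of_mul_eq_mul_right hpos this).symm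
  haveI : Group.IsNilpotent (G ⧸ A₀) := (hG.to_quotient A₀).isNilpotent
  have hcen : E.map f ≤ Subgroup.center (G ⧸ A₀) := Rk.le_center_of_normal_card_prime _ hcm
  rw [← QuotientGroup.eq_one_iff]
  have h2 : ((⁅e, g⁆ : G) : G ⧸ A₀) = ⁅f e, f g⁆ := by
    simp [commutatorElement_def, hf]
  rw [h2, commutatorElement_eq_one_iff_mul_comm]
  exact (Subgroup.mem_center_iff.mp (hcen ⟨e, he, rfl⟩) (f g)).symm

section main
variable (hp2 : p ≠ 2) (hG : IsPGroup p G) (hrk : PRankLE p 2 G) (E : Subgroup G)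
  [hEn : E.Normal] (hE3 : Nat.card E = p ^ 3) (hEexp : ∀ x ∈ E, x ^ p = 1)
  (A₀ : Subgroup G) [hAn : A₀.Normal]
  (hZA : E ⊓ Subgroup.centralizer (E : Set G) ≤ A₀) (hAE : A₀ ≤ E) (hA2 : Nat.card A₀ = p ^ 2)

include hG hE3 hAE hA2 in
theorem comm_mem_A0 (g e : G) (he : e ∈ E) : ⁅e, g⁆ ∈ A₀ :=
  comm_mem_of_card_mul hG E A₀ hAE (by rw [hE3, hA2]; ring) g e he

include hG hE3 hAE hA2 in
theorem comm_mem_A0' (g e : G) (he : e ∈ E) : ⁅g, e⁆ ∈ A₀ := by
  rw [← commutatorElement_inv]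
  exact A₀.inv_mem (comm_mem_A0 hG E hE3 A₀ hAE hA2 g e he)

include hG hE3 hAE hA2 in
theorem A0_comm : ∀ a ∈ A₀, ∀ b ∈ A₀, a * b = b * a := by
  have hA₀comm : IsMulCommutative A₀ :=
    Metacyc.isMulCommutative_of_card_le_sq (hG.to_subgroup A₀) hA2.le
  exact fun a ha b hb => congrArg Subtype.val (hA₀comm.is_comm.comm ⟨a, ha⟩ ⟨b, hb⟩)

include hp2 hG hrk hE3 hEexp hAE hA2 in
theorem index_B : (Subgroup.centralizer (A₀ : Set G)).index = p := by
  obtain ⟨hnc, hZ, hZc, hcomm, -, hCZ, hcyc⟩ := structE hp2 hG hrk E hE3 hEexp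
  have hdvd := index_centralizer_dvd_prime hG A₀ hA2
  rcases (Nat.dvd_prime hp.out).mp hdvd with h | h
  · exfalso
    have htop : Subgroup.centralizer (A₀ : Set G) = ⊤ := Subgroup.index_eq_one.mp h
    have hAZ : A₀ ≤ E ⊓ Subgroup.centralizer (E : Set G) := by
      intro a ha
      refine Subgroup.mem_inf.mpr ⟨hAE ha, ?_⟩
      rw [Subgroup.mem_centralizer_iff]
      intro e he
      have he' : e ∈ Subgroup.centralizer (A₀ : Set G) := by rw [htop]; exact Subgroup.mem_top e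
      exact (Subgroup.mem_centralizer_iff.mp he' a ha).symm
    have := Subgroup.card_le_of_le hAZ
    rw [hA2, hZ] at this
    have h2 : p < p ^ 2 := by
      have := hp.out.one_lt
      nlinarith
    omega
  · exact h

include hG hE3 hAE hA2 in
theorem E_eq_sup (x₀ : G) (hx₀ : x₀ ∈ E) (hx₀A : x₀ ∉ A₀) : E = A₀ ⊔ Subgroup.zpowers x₀ := by
  symm
  have hle : A₀ ⊔ Subgroup.zpowers x₀ ≤ E := sup_le hAE (by rw [Subgroup.zpowers_le]; exact hx₀)
  apply Subgroup.eq_of_le_of_card_ge hle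
  have hlt : A₀ < A₀ ⊔ Subgroup.zpowers x₀ := by
    refine lt_of_le_of_ne le_sup_left ?_
    intro h
    apply hx₀A
    rw [h]
    exact le_sup_right (b := Subgroup.zpowers x₀) (Subgroup.mem_zpowers x₀)
  have h1 := Metacyc.card_mul_le_of_lt hG hlt
  rw [hE3]
  rw [hA2] at h1
  calc p ^ 3 = p ^ 2 * p := by ring
    _ ≤ _ := h1

include hG hE3 hAE hA2 in
theorem mem_C_of (x₀ : G) (hx₀ : x₀ ∈ E) (hx₀A : x₀ ∉ A₀) (b : G)
    (hb : b ∈ Subgroup.centralizer (A₀ : Set G)) (hbx : b * x₀ = x₀ * b) :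
    b ∈ Subgroup.centralizer (E : Set G) := by
  have hEle : E ≤ Subgroup.centralizer ({b} : Set G) := by
    rw [E_eq_sup hG E hE3 A₀ hAE hA2 x₀ hx₀ hx₀A]
    apply sup_le
    · intro a ha
      rw [Subgroup.mem_centralizer_singleton_iff]
      exact (Subgroup.mem_centralizer_iff.mp hb a ha)
    · rw [Subgroup.zpowers_le, Subgroup.mem_centralizer_singleton_iff]
      exact hbx.symm
  rw [Subgroup.mem_centralizer_iff]
  intro e he
  exact (Subgroup.mem_centralizer_singleton_iff.mp (hEle he))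

/-- the commutator homomorphism `b ↦ [b, x₀]` from `C_G(A₀)` to `A₀` -/
noncomputable def theta (hG : IsPGroup p G) (E : Subgroup G) [hEn : E.Normal]
    (hE3 : Nat.card E = p ^ 3) (A₀ : Subgroup G) [hAn : A₀.Normal] (hAE : A₀ ≤ E)
    (hA2 : Nat.card A₀ = p ^ 2) (x₀ : G) (hx₀ : x₀ ∈ E) :
    ↥(Subgroup.centralizer (A₀ : Set G)) →* ↥A₀ where
  toFun b := ⟨⁅(b : G), x₀⁆, comm_mem_A0' hG E hE3 A₀ hAE hA2 (b : G) x₀ hx₀⟩
  map_one' := by
    apply Subtype.ext
    simp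
  map_mul' := by
    intro b b'
    apply Subtype.ext
    have hc : ⁅(b' : G), x₀⁆ ∈ A₀ := comm_mem_A0' hG E hE3 A₀ hAE hA2 (b' : G) x₀ hx₀
    have hc2 : ⁅(b : G), x₀⁆ ∈ A₀ := comm_mem_A0' hG E hE3 A₀ hAE hA2 (b : G) x₀ hx₀
    have h1 : ⁅((b : G) * (b' : G)), x₀⁆ = (b : G) * ⁅(b' : G), x₀⁆ * (b : G)⁻¹ * ⁅(b : G), x₀⁆ := by
      simp only [commutatorElement_def]; group
    have h2 : (b : G) * ⁅(b' : G), x₀⁆ * (b : G)⁻¹ = ⁅(b' : G), x₀⁆ := by
      have := Subgroup.mem_centralizer_iff.mp b.2 _ hc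
      rw [← this, mul_assoc, mul_inv_cancel, mul_one]
    show ⁅((b : G) * (b' : G)), x₀⁆ = ⁅(b : G), x₀⁆ * ⁅(b' : G), x₀⁆
    rw [h1, h2]
    exact A0_comm hG E hE3 A₀ hAE hA2 _ hc _ hc2

include hG hE3 hAE hA2 in
theorem card_ker_theta_le (x₀ : G) (hx₀ : x₀ ∈ E) (hx₀A : x₀ ∉ A₀) :
    Nat.card ↥(theta hG E hE3 A₀ hAE hA2 x₀ hx₀).ker ≤
      Nat.card ↥(Subgroup.centralizer (E : Set G)) := by
  let ι : ↥(theta hG E hE3 A₀ hAE hA2 x₀ hx₀).ker → ↥(Subgroup.centralizer (E : Set G)) :=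
    fun b => ⟨((b : ↥(Subgroup.centralizer (A₀ : Set G))) : G), by
      have h1 : theta hG E hE3 A₀ hAE hA2 x₀ hx₀ (b : ↥(Subgroup.centralizer (A₀ : Set G))) = 1 := b.2
      have h2 : ⁅(((b : ↥(Subgroup.centralizer (A₀ : Set G))) : G)), x₀⁆ = 1 :=
        congrArg Subtype.val h1
      exact mem_C_of hG E hE3 A₀ hAE hA2 x₀ hx₀ hx₀A _ (b : ↥(Subgroup.centralizer (A₀ : Set G))).2
        (commutatorElement_eq_one_iff_mul_comm.mp h2)⟩
  apply Nat.card_le_card_of_injective ι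
  intro a b hab
  have := congrArg Subtype.val hab
  exact Subtype.ext (Subtype.ext this)

include hG hE3 hAE hA2 in
theorem card_B_le (x₀ : G) (hx₀ : x₀ ∈ E) (hx₀A : x₀ ∉ A₀) :
    Nat.card ↥(Subgroup.centralizer (A₀ : Set G)) ≤
      p ^ 2 * Nat.card ↥(Subgroup.centralizer (E : Set G)) := by
  set ψ := theta hG E hE3 A₀ hAE hA2 x₀ hx₀ with hψ
  have hrange : Nat.card (↥(Subgroup.centralizer (A₀ : Set G)) ⧸ ψ.ker) ≤ p ^ 2 := by
    rw [Nat.card_congr (QuotientGroup.quotientKerEquivRange ψ).toEquiv, ← hA2]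
    exact Nat.card_le_card_of_injective (fun y => (y : ↥A₀)) Subtype.val_injective
  rw [Subgroup.card_eq_card_quotient_mul_card_subgroup ψ.ker]
  exact Nat.mul_le_mul hrange (card_ker_theta_le hG E hE3 A₀ hAE hA2 x₀ hx₀ hx₀A)

include hp2 hG hrk hE3 hEexp hAE hA2 in
theorem card_G_le (x₀ : G) (hx₀ : x₀ ∈ E) (hx₀A : x₀ ∉ A₀) :
    Nat.card G ≤ p ^ 3 * Nat.card ↥(Subgroup.centralizer (E : Set G)) := by
  have h1 := Subgroup.card_mul_index (Subgroup.centralizer (A₀ : Set G))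
  rw [index_B hp2 hG hrk E hE3 hEexp A₀ hAE hA2] at h1
  have h2 := card_B_le hG E hE3 A₀ hAE hA2 x₀ hx₀ hx₀A
  rw [← h1]
  calc Nat.card ↥(Subgroup.centralizer (A₀ : Set G)) * p
      ≤ p ^ 2 * Nat.card ↥(Subgroup.centralizer (E : Set G)) * p := Nat.mul_le_mul_right _ h2
    _ = p ^ 3 * Nat.card ↥(Subgroup.centralizer (E : Set G)) := by ring

include hp2 hG hrk hE3 hEexp hAE hA2 in
theorem card_centralizer_x0_le (x₀ : G) (hx₀ : x₀ ∈ E) (hx₀A : x₀ ∉ A₀) :
    Nat.card ↥(Subgroup.centralizer ({x₀} : Set G)) ≤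
      p * Nat.card ↥(Subgroup.centralizer (E : Set G)) := by
  set B := Subgroup.centralizer (A₀ : Set G) with hB
  set H := Subgroup.centralizer ({x₀} : Set G) with hH
  haveI : B.Normal := by rw [hB]; infer_instance
  have h1 : B.relIndex H ∣ p := by
    have := Subgroup.relIndex_dvd_index_of_normal B H
    rwa [hB, index_B hp2 hG hrk E hE3 hEexp A₀ hAE hA2] at this
  have h2 : Nat.card ↥(B ⊓ H : Subgroup G) * B.relIndex H = Nat.card ↥H := by
    rw [← Subgroup.inf_relIndex_right B H]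
    exact Cfsg.Agent.Lib.Helper2.card_mul_relIndex inf_le_right
  have h3 : (B ⊓ H : Subgroup G) ≤ Subgroup.centralizer (E : Set G) := by
    intro b hb
    obtain ⟨hb1, hb2⟩ := Subgroup.mem_inf.mp hb
    exact mem_C_of hG E hE3 A₀ hAE hA2 x₀ hx₀ hx₀A b hb1
      (Subgroup.mem_centralizer_singleton_iff.mp hb2)
  have h4 := Subgroup.card_le_of_le h3
  have h5 : B.relIndex H ≤ p := Nat.le_of_dvd hp.out.pos h1
  rw [← h2, mul_comm]
  exact Nat.mul_le_mul h5 h4

include hp2 hG hrk hE3 hEexp in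
theorem card_sup_C :
    Nat.card ↥(E ⊔ Subgroup.centralizer (E : Set G) : Subgroup G) * p =
      p ^ 3 * Nat.card ↥(Subgroup.centralizer (E : Set G)) := by
  obtain ⟨hnc, hZ, hZc, hcomm, -, hCZ, hcyc⟩ := structE hp2 hG hrk E hE3 hEexp
  have h1 := GlaubermanRepl.card_sup_mul_card_inf_of_le_normalizer
    (Subgroup.centralizer (E : Set G)) E (by
      rw [Subgroup.normalizer_eq_top]; exact le_top)
  rw [sup_comm, inf_comm, hZ, hE3] at h1
  rw [h1]; ring

end main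

end Cfsg.Agent.Lib.Helper1.Blk
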