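import Mathlib
import Cfsg.Agent.Lib.Helper1.Blk5
set_option autoImplicit false
set_option maxHeartbeats 4000000
set_option linter.unusedVariables false
set_option linter.unusedSectionVars false
set_option linter.style.longLine false
set_option linter.unusedSimpArgs false
set_option linter.deprecated false
set_option linter.style.haveILetI false
open scoped commutatorElement Pointwise
universe u v
namespace Cfsg.Agent.Lib.Helper1.Blk

open Cfsg Cfsg.Agent.Lib.Helper1 Cfsg.Agent.Lib.Helper2 Cfsg.Agent.Lib.Helper3 Cfsg.Agent.Lib.Helper4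

variable {G : Type u} [Group G] [Finite G] {p : ℕ} [hp : Fact p.Prime]

theorem exists_nat_pow_of_mem_zpowers {x y : G} (h : y ∈ Subgroup.zpowers x) : ∃ k : ℕ, x ^ k = y := by
  have hx : IsOfFinOrder x := isOfFinOrder_of_finite x
  have := (hx.mem_powers_iff_mem_zpowers).mpr h
  obtain ⟨k, hk⟩ := this
  exact ⟨k, hk⟩

theorem pow_eq_self_of_mod {x : G} (hx : x ^ p = 1) {m : ℕ} (hm : m % p = 1) : x ^ m = x := by
  have h1 : m = p * (m / p) + 1 := by
    have := Nat.div_add_mod m p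
    omega
  rw [h1, pow_succ, pow_mul, hx, one_pow, one_mul]

theorem comm_of_card_le_sq (hG : IsPGroup p G) (L : Subgroup G) (h : Nat.card L ≤ p ^ 2) :
    ∀ a ∈ L, ∀ b ∈ L, a * b = b * a := by
  have hc : IsMulCommutative L := Metacyc.isMulCommutative_of_card_le_sq (hG.to_subgroup L) h
  exact fun a ha b hb => congrArg Subtype.val (hc.is_comm.comm ⟨a, ha⟩ ⟨b, hb⟩)

/-- a subgroup of a `p`-group of order `> p²` inside a subgroup of order `p³` is everything -/
theorem eq_of_not_comm (hG : IsPGroup p G) (E L : Subgroup G) (hLE : L ≤ E)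
    (hE3 : Nat.card E = p ^ 3) (hnc : ¬ ∀ a ∈ L, ∀ b ∈ L, a * b = b * a) : L = E := by
  apply Subgroup.eq_of_le_of_card_ge hLE
  rw [hE3]
  obtain ⟨i, hi⟩ := IsPGroup.iff_card.mp (hG.to_subgroup L)
  rw [hi]
  apply Nat.pow_le_pow_right hp.out.pos
  by_contra hcon
  push_neg at hcon
  apply hnc
  apply comm_of_card_le_sq hG L
  rw [hi]
  exact Nat.pow_le_pow_right hp.out.pos (by omega)

section main
variable (hp2 : p ≠ 2) (hG : IsPGroup p G) (hrk : PRankLE p 2 G) (E : Subgroup G)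
  [hEn : E.Normal] (hE3 : Nat.card E = p ^ 3) (hEexp : ∀ x ∈ E, x ^ p = 1)

include hp2 hG hrk hE3 hEexp in
/-- a generator of the cyclic centralizer and the induced generator of `Z(E)` -/
theorem exists_gen_C : ∃ (z : G) (c : ℕ), Subgroup.centralizer (E : Set G) = Subgroup.zpowers z ∧
    Nat.card ↥(Subgroup.centralizer (E : Set G)) = p ^ (c + 1) ∧ orderOf z = p ^ (c + 1) ∧
    z ^ p ^ c ≠ 1 ∧ (z ^ p ^ c) ^ p = 1 ∧
    E ⊓ Subgroup.centralizer (E : Set G) = Subgroup.zpowers (z ^ p ^ c) := by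
  obtain ⟨hnc, hZ, hZc, hcomm, -, hCZ, hcyc⟩ := structE hp2 hG hrk E hE3 hEexp
  obtain ⟨g, hg⟩ := hcyc.exists_generator
  have hCz : Subgroup.centralizer (E : Set G) = Subgroup.zpowers (g : G) := by
    ext x
    constructor
    · intro hx
      obtain ⟨k, hk⟩ := Subgroup.mem_zpowers_iff.mp (hg ⟨x, hx⟩)
      rw [Subgroup.mem_zpowers_iff]
      refine ⟨k, ?_⟩
      have := congrArg Subtype.val hk
      rwa [Subgroup.coe_zpow] at this
    · intro hx
      obtain ⟨k, hk⟩ := Subgroup.mem_zpowers_iff.mp hx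
      rw [← hk]
      exact Subgroup.zpow_mem _ g.2 k
  obtain ⟨k, hk⟩ := IsPGroup.iff_card.mp (hG.to_subgroup (Subgroup.centralizer (E : Set G)))
  have hk1 : 1 ≤ k := by
    by_contra hcon
    have hk0 : k = 0 := by omega
    rw [hk0, pow_zero] at hk
    have h1 := Subgroup.card_le_of_le (inf_le_right : E ⊓ Subgroup.centralizer (E : Set G) ≤ _)
    rw [hZ, hk] at h1
    have := hp.out.one_lt
    omega
  obtain ⟨c, rfl⟩ : ∃ c, k = c + 1 := ⟨k - 1, by omega⟩
  have hord : orderOf (g : G) = p ^ (c + 1) := by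
    rw [← Nat.card_zpowers, ← hCz, hk]
  have hz1p : ((g : G) ^ p ^ c) ^ p = 1 := by
    rw [← pow_mul, ← pow_succ, ← hord, pow_orderOf_eq_one]
  have hz1ne : (g : G) ^ p ^ c ≠ 1 := by
    intro h
    have := orderOf_dvd_of_pow_eq_one h
    rw [hord] at this
    have h2 := Nat.le_of_dvd (pow_pos hp.out.pos _) this
    have h3 := Nat.pow_lt_pow_right hp.out.one_lt (show c < c + 1 by omega)
    omega
  have hz1Z : (g : G) ^ p ^ c ∈ E ⊓ Subgroup.centralizer (E : Set G) :=
    hCZ _ (Subgroup.pow_mem _ g.2 _) hz1p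
  exact ⟨g, c, hCz, hk, hord, hz1ne, hz1p, (BK.zpowers_eq_of_card_prime hZ hz1Z hz1ne).symm⟩

include hp2 hG hrk hE3 hEexp in
theorem family_b (n : ℕ) (hn : Nat.card G = p ^ n)
    (htop : E ⊔ Subgroup.centralizer (E : Set G) = ⊤) :
    3 ≤ n ∧ ∃ x y z : G, Subgroup.closure ({x, y, z} : Set G) = ⊤ ∧ x ^ p = 1 ∧ y ^ p = 1 ∧
      z ^ p ^ (n - 2) = 1 ∧ x * z = z * x ∧ y * z = z * y ∧
      x⁻¹ * y * x = y * z ^ p ^ (n - 3) := by
  obtain ⟨hnc, hZ, hZc, hcomm, -, hCZ, hcyc⟩ := structE hp2 hG hrk E hE3 hEexp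
  obtain ⟨z, c, hCz, hCcard, hzord, hz1ne, hz1p, hZz⟩ := exists_gen_C hp2 hG hrk E hE3 hEexp
  have hcs := card_sup_C hp2 hG hrk E hE3 hEexp
  rw [htop, Subgroup.card_top, hn, hCcard, ← pow_succ, ← pow_add] at hcs
  have hnc3 : n + 1 = 3 + (c + 1) := Nat.pow_right_injective hp.out.two_le hcs
  have hn3 : n = c + 3 := by omega
  refine ⟨by omega, ?_⟩
  push_neg at hnc
  obtain ⟨x, hx, y, hy, hxy⟩ := hnc
  set w := ⁅y⁻¹, x⁻¹⁆ with hw
  have hwZ : w ∈ E ⊓ Subgroup.centralizer (E : Set G) := hcomm _ (E.inv_mem hy) _ (E.inv_mem hx)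
  have hwne : w ≠ 1 := by
    intro h
    rw [hw, commutatorElement_eq_one_iff_mul_comm] at h
    apply hxy
    have : (y⁻¹ * x⁻¹)⁻¹ = (x⁻¹ * y⁻¹)⁻¹ := by rw [h]
    simpa using this
  have hwc : ∀ g : G, g * w = w * g := fun g => Subgroup.mem_center_iff.mp (hZc hwZ) g
  have hconj : x⁻¹ * y * x = y * w := by rw [hw, commutatorElement_def]; group
  obtain ⟨k, hk⟩ := exists_nat_pow_of_mem_zpowers (by rw [← hZz]; exact hwZ : w ∈ Subgroup.zpowers (z ^ p ^ c))
  have hkp : Nat.Coprime k p := by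
    rw [Nat.coprime_comm, Nat.Prime.coprime_iff_not_dvd hp.out]
    rintro ⟨t, rfl⟩
    apply hwne
    rw [← hk, pow_mul, hz1p, one_pow]
  obtain ⟨j, -, hj⟩ := Nat.exists_mul_mod_eq_one_of_coprime hkp hp.out.one_lt
  have hzC : z ∈ Subgroup.centralizer (E : Set G) := by rw [hCz]; exact Subgroup.mem_zpowers z
  refine ⟨x, y ^ j, z, ?_, hEexp x hx, ?_, ?_, ?_, ?_, ?_⟩
  · -- generation
    set S := Subgroup.closure ({x, y ^ j, z} : Set G) with hS
    have hxS : x ∈ S := Subgroup.subset_closure (by simp)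
    have hyjS : y ^ j ∈ S := Subgroup.subset_closure (by simp)
    have hzS : z ∈ S := Subgroup.subset_closure (by simp)
    have hyS : y ∈ S := by
      have h1 : (y ^ j) ^ k = y := by
        rw [← pow_mul]
        exact pow_eq_self_of_mod (hEexp y hy) (by rw [mul_comm]; exact hj)
      rw [← h1]
      exact S.pow_mem hyjS k
    have hLE : Subgroup.closure ({x, y} : Set G) = E := by
      apply eq_of_not_comm hG E _ _ hE3
      · intro h
        exact hxy (h x (Subgroup.subset_closure (by simp)) y (Subgroup.subset_closure (by simp)))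
      · rw [Subgroup.closure_le]
        intro g hg
        rcases hg with rfl | rfl
        · exact hx
        · exact hy
    have hES : E ≤ S := by
      rw [← hLE, Subgroup.closure_le]
      intro g hg
      rcases hg with rfl | rfl
      · exact hxS
      · exact hyS
    have hCS : Subgroup.centralizer (E : Set G) ≤ S := by
      rw [hCz, Subgroup.zpowers_le]; exact hzS
    rw [eq_top_iff, ← htop]
    exact sup_le hES hCS
  · rw [← pow_mul, mul_comm, pow_mul, hEexp y hy, one_pow]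
  · have : n - 2 = c + 1 := by omega
    rw [this, ← hzord, pow_orderOf_eq_one]
  · exact (Subgroup.mem_centralizer_iff.mp hzC x hx)
  · exact (Subgroup.mem_centralizer_iff.mp hzC _ (E.pow_mem hy j))
  · have h1 : x⁻¹ * y ^ j * x = (x⁻¹ * y * x) ^ j := by
      have := conj_pow (a := x⁻¹) (b := y) (i := j)
      simpa using this.symm
    have hcw : Commute y w := (hwc y)
    have h2 : w ^ j = z ^ p ^ c := by
      rw [← hk, ← pow_mul]
      exact pow_eq_self_of_mod hz1p hj
    have : n - 3 = c := by omega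
    rw [h1, hconj, hcw.mul_pow, h2, this]

end main

end Cfsg.Agent.Lib.Helper1.Blk
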