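import Mathlib
import Cfsg.Agent.Lib.Helper1.Blk6
set_option autoImplicit false
set_option maxHeartbeats 4000000
set_option linter.unusedVariables false
set_option linter.unusedSectionVars false
set_option linter.style.longLine false
set_option linter.unusedSimpArgs false
set_option linter.deprecated false
set_option linter.style.haveILetI false
open scoped commutatorElement Pointwise
universe u v
namespace Cfsg.Agent.Lib.Helper1.Blk

open Cfsg Cfsg.Agent.Lib.Helper1 Cfsg.Agent.Lib.Helper2 Cfsg.Agent.Lib.Helper3 Cfsg.Agent.Lib.Helper4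

variable {G : Type u} [Group G] [Finite G] {p : ℕ} [hp : Fact p.Prime]

section main
variable (hp2 : p ≠ 2) (hG : IsPGroup p G) (hrk : PRankLE p 2 G) (E : Subgroup G)
  [hEn : E.Normal] (hE3 : Nat.card E = p ^ 3) (hEexp : ∀ x ∈ E, x ^ p = 1)

include hp2 hG hrk hE3 hEexp in
theorem structB (n : ℕ) (hn : Nat.card G = p ^ n)
    (hne : E ⊔ Subgroup.centralizer (E : Set G) ≠ ⊤) :
    ∃ (A₀ : Subgroup G) (x z : G) (c : ℕ), A₀.Normal ∧
      E ⊓ Subgroup.centralizer (E : Set G) ≤ A₀ ∧ A₀ ≤ E ∧ Nat.card A₀ = p ^ 2 ∧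
      x ∈ E ∧ x ∉ A₀ ∧ n = c + 4 ∧ z ∈ Subgroup.centralizer (A₀ : Set G) ∧
      (Subgroup.centralizer (A₀ : Set G)).index = p ∧
      (∀ b ∈ Subgroup.centralizer (A₀ : Set G), ∃ a ∈ A₀, ∃ k : ℤ, b = a * z ^ k) ∧
      (z ^ p) ^ p ^ (c + 1) = 1 ∧
      E ⊓ Subgroup.centralizer (E : Set G) = Subgroup.zpowers ((z ^ p) ^ p ^ c) ∧
      (z ^ p) ^ p ^ c ≠ 1 ∧ ((z ^ p) ^ p ^ c) ^ p = 1 ∧
      (∀ a ∈ A₀, ∃ b ∈ Subgroup.centralizer (A₀ : Set G), ⁅b, x⁆ = a) := by
  obtain ⟨hnc, hZ, hZc, hcomm, ⟨A₀, hA₀n, hZA, hAE, hA2⟩, hCZ, hcyc⟩ :=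
    structE hp2 hG hrk E hE3 hEexp
  haveI := hA₀n
  obtain ⟨zc, c, hCz, hCcard, hzord, hz1ne, hz1p, hZz⟩ := exists_gen_C hp2 hG hrk E hE3 hEexp
  obtain ⟨x, hx, hxA⟩ : ∃ x ∈ E, x ∉ A₀ := by
    by_contra hcon
    push_neg at hcon
    have := Subgroup.card_le_of_le (show E ≤ A₀ from fun e he => hcon e he)
    rw [hE3, hA2] at this
    have := Nat.pow_lt_pow_right hp.out.one_lt (show 2 < 3 by norm_num)
    omega
  set C := Subgroup.centralizer (E : Set G) with hC
  set B := Subgroup.centralizer (A₀ : Set G) with hB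
  have hidx : B.index = p := index_B hp2 hG hrk E hE3 hEexp A₀ hAE hA2
  have hcs := card_sup_C hp2 hG hrk E hE3 hEexp
  have hGle := card_G_le hp2 hG hrk E hE3 hEexp A₀ hAE hA2 x hx hxA
  have hlt : Nat.card ↥(E ⊔ C : Subgroup G) < Nat.card G := Reg.card_lt_of_ne_top _ hne
  rw [← hC, hCcard] at hcs hGle
  have hsup : Nat.card ↥(E ⊔ C : Subgroup G) = p ^ (c + 3) := by
    have : Nat.card ↥(E ⊔ C : Subgroup G) * p = p ^ (c + 3) * p := by
      rw [hcs, ← pow_add, ← pow_succ]; congr 1; omega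
    exact Nat.eq_of_mul_eq_mul_right hp.out.pos this
  rw [hsup, hn] at hlt
  rw [hn, ← pow_add] at hGle
  have hn1 : c + 3 < n := (Nat.pow_lt_pow_iff_right hp.out.one_lt).mp hlt
  have hn2 : n ≤ 3 + (c + 1) := (Nat.pow_le_pow_iff_right hp.out.one_lt).mp hGle
  have hn4 : n = c + 4 := by omega
  have hBcard : Nat.card ↥B = p ^ (c + 3) := by
    have h1 := Subgroup.card_mul_index B
    rw [hidx, hn, hn4] at h1
    have : Nat.card ↥B * p = p ^ (c + 3) * p := by rw [h1, ← pow_succ]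
    exact Nat.eq_of_mul_eq_mul_right hp.out.pos this
  -- the homomorphism theta
  set ψ := theta hG E hE3 A₀ hAE hA2 x hx with hψ
  have hψval : ∀ b : ↥B, ((ψ b : ↥A₀) : G) = ⁅(b : G), x⁆ := fun b => rfl
  have hker : ∀ b : ↥B, ψ b = 1 → (b : G) ∈ C := by
    intro b hb
    have h2 : ⁅(b : G), x⁆ = 1 := by rw [← hψval, hb]; rfl
    exact mem_C_of hG E hE3 A₀ hAE hA2 x hx hxA _ b.2 (commutatorElement_eq_one_iff_mul_comm.mp h2)
  have hkc := card_ker_theta_le hG E hE3 A₀ hAE hA2 x hx hxA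
  rw [← hC, hCcard, ← hψ] at hkc
  have hsurj : Function.Surjective ψ := by
    rw [← MonoidHom.range_eq_top]
    apply Subgroup.eq_top_of_card_eq
    have h1 := Subgroup.card_eq_card_quotient_mul_card_subgroup ψ.ker
    rw [Nat.card_congr (QuotientGroup.quotientKerEquivRange ψ).toEquiv, hBcard] at h1
    have h2 : Nat.card ↥ψ.range ≤ p ^ 2 := by
      rw [← hA2]
      exact Nat.card_le_card_of_injective (fun y => (y : ↥A₀)) Subtype.val_injective
    rw [hA2]
    by_contra hcon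
    have h3 : Nat.card ↥ψ.range < p ^ 2 := lt_of_le_of_ne h2 hcon
    have h4 : Nat.card ↥ψ.range * Nat.card ↥ψ.ker < p ^ 2 * p ^ (c + 1) :=
      Nat.mul_lt_mul_of_lt_of_le h3 hkc (pow_pos hp.out.pos _)
    rw [← h1, ← pow_add] at h4
    have : c + 3 = 2 + (c + 1) := by omega
    rw [this] at h4
    exact lt_irrefl _ h4
  have hAexp : ∀ a : ↥A₀, a ^ p = 1 := fun a => Subtype.ext (by simpa using hEexp a (hAE a.2))
  have hAcomm : ∀ a b : ↥A₀, a * b = b * a := fun a b =>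
    Subtype.ext (A0_comm hG E hE3 A₀ hAE hA2 a a.2 b b.2)
  have hcommC : ∀ b ∈ B, ∀ b' ∈ B, ⁅b, b'⁆ ∈ C := by
    intro b hb b' hb'
    have h1 : ψ ⁅(⟨b, hb⟩ : ↥B), ⟨b', hb'⟩⁆ = 1 := by
      rw [map_commutatorElement, commutatorElement_eq_one_iff_mul_comm]
      exact hAcomm _ _
    exact hker _ h1
  have hpowC : ∀ b ∈ B, b ^ p ∈ C := by
    intro b hb
    have h1 : ψ ((⟨b, hb⟩ : ↥B) ^ p) = 1 := by rw [map_pow, hAexp]
    exact hker _ h1
  -- B is regular
  have hcycB : IsCyclic ↥(commutator ↥B) := by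
    have hmem : ∀ y : ↥(commutator ↥B), (B.subtype.comp (commutator ↥B).subtype) y ∈ C := by
      intro y
      have hle : (commutator ↥B).map B.subtype ≤ C := by
        rw [commutator_def, Subgroup.map_commutator, RegOmega.map_subtype_top', Subgroup.commutator_le]
        exact hcommC
      exact hle ⟨y.1, y.2, rfl⟩
    let f : ↥(commutator ↥B) →* ↥C := (B.subtype.comp (commutator ↥B).subtype).codRestrict C hmem
    have hf : Function.Injective f := by
      intro a b hab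
      have := congrArg Subtype.val hab
      apply Subtype.ext
      apply Subtype.ext
      exact this
    haveI := hcyc
    exact isCyclic_of_injective f hf
  have hreg : IsRegularPGroup p ↥B := regular_of_cyclic_derived hp2 (hG.to_subgroup B) hcycB
  have hA0c := A0_comm hG E hE3 A₀ hAE hA2
  have hAB : A₀ ≤ B := by
    intro a ha
    rw [hB, Subgroup.mem_centralizer_iff]
    intro a' ha'
    exact hA0c a' ha' a ha
  have hBA : ∀ b ∈ B, b ^ p = 1 → b ∈ A₀ := fun b hb hbp =>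
    mem_of_centralizes hrk A₀ hA0c (fun a ha => hEexp a (hAE ha)) hA2 b hb hbp
  have hΩ : omegaOne p B = A₀ := by
    apply le_antisymm
    · unfold omegaOne
      rw [Subgroup.closure_le]
      rintro b ⟨hb, hbp⟩
      exact hBA b hb hbp
    · intro a ha
      exact Subgroup.subset_closure ⟨hAB ha, hEexp a (hAE ha)⟩
  have hcardeq := RegOmega.card_eq B hreg
  rw [hΩ, hA2, hBcard] at hcardeq
  have hPcard : Nat.card ↥(powerClosure p 1 B) = p ^ (c + 1) := by
    have : p ^ (c + 1) * p ^ 2 = Nat.card ↥(powerClosure p 1 B) * p ^ 2 := by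
      rw [← hcardeq, ← pow_add]
    exact (Nat.eq_of_mul_eq_mul_right (pow_pos hp.out.pos 2) this).symm
  have hPC : powerClosure p 1 B = C := by
    apply Subgroup.eq_of_le_of_card_ge
    · apply QR.powerClosure_le_of
      intro b hb
      rw [pow_one]
      exact hpowC b hb
    · rw [hPcard, hCcard]
  have hzcP : zc ∈ powerClosure p 1 B := by
    rw [hPC, hCz]; exact Subgroup.mem_zpowers zc
  obtain ⟨z, hzB, hzcz⟩ := QR.exists_pow_eq_of_mem_powerClosure hreg hzcP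
  have hdecomp : ∀ b ∈ B, ∃ a ∈ A₀, ∃ k : ℤ, b = a * z ^ k := by
    intro b hb
    have hbC : b ^ p ∈ Subgroup.zpowers zc := by rw [← hCz]; exact hpowC b hb
    obtain ⟨k, hk⟩ := Subgroup.mem_zpowers_iff.mp hbC
    have hzkB : z ^ k ∈ B := B.zpow_mem hzB k
    have h1 : (⟨b, hb⟩ : ↥B) ^ p ^ 1 = (⟨z ^ k, hzkB⟩ : ↥B) ^ p ^ 1 := by
      apply Subtype.ext
      simp only [pow_one, Subgroup.coe_pow]
      rw [← hk, hzcz, ← zpow_natCast, ← zpow_natCast, ← zpow_mul, ← zpow_mul, mul_comm]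
    have h2 := (regular_pow_eq_iff hreg _ _ 1).mp h1
    have h3 : (b * (z ^ k)⁻¹) ^ p = 1 := by
      have := congrArg Subtype.val h2
      simpa using this
    have h4 : b * (z ^ k)⁻¹ ∈ A₀ := hBA _ (B.mul_mem hb (B.inv_mem hzkB)) h3
    exact ⟨_, h4, k, by group⟩
  refine ⟨A₀, x, z, c, hA₀n, hZA, hAE, hA2, hx, hxA, hn4, hzB, hidx, hdecomp, ?_, ?_, ?_, ?_, ?_⟩
  · rw [← hzcz, ← hzord, pow_orderOf_eq_one]
  · rw [← hzcz]; exact hZz
  · rw [← hzcz]; exact hz1ne
  · rw [← hzcz]; exact hz1p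
  · intro a ha
    obtain ⟨b, hb⟩ := hsurj ⟨a, ha⟩
    refine ⟨b, b.2, ?_⟩
    rw [← hψval, hb]

end main

end Cfsg.Agent.Lib.Helper1.Blk
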