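import Mathlib
import Cfsg.Agent.Lib.Helper1.Blk7
set_option autoImplicit false
set_option maxHeartbeats 4000000
set_option linter.unusedVariables false
set_option linter.unusedSectionVars false
set_option linter.style.longLine false
set_option linter.unusedSimpArgs false
set_option linter.deprecated false
set_option linter.style.haveILetI false
open scoped commutatorElement Pointwise
universe u v
namespace Cfsg.Agent.Lib.Helper1.Blk

open Cfsg Cfsg.Agent.Lib.Helper1 Cfsg.Agent.Lib.Helper2 Cfsg.Agent.Lib.Helper3 Cfsg.Agent.Lib.Helper4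

variable {G : Type u} [Group G] [Finite G] {p : ℕ} [hp : Fact p.Prime]

theorem mem_of_pow_mem_of_not_dvd (H : Subgroup G) {g : G} (hg : g ^ p = 1) {j : ℕ}
    (hj : ¬ p ∣ j) (h : g ^ j ∈ H) : g ∈ H := by
  have hcop : Nat.Coprime j p :=
    ((Nat.Prime.coprime_iff_not_dvd hp.out).mpr hj).symm
  obtain ⟨m, -, hm⟩ := Nat.exists_mul_mod_eq_one_of_coprime hcop hp.out.one_lt
  have : (g ^ j) ^ m = g := by rw [← pow_mul]; exact pow_eq_self_of_mod hg hm
  rw [← this]; exact H.pow_mem h m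

omit [Finite G] in
theorem conj_y_pow (x y w : G) (hy : x⁻¹ * y * x = y * w) (hw : ∀ g : G, g * w = w * g) (j : ℕ) :
    (x ^ j)⁻¹ * y * x ^ j = y * w ^ j := by
  induction j with
  | zero => simp
  | succ j ih =>
    have h1 : (x ^ (j + 1))⁻¹ * y * x ^ (j + 1) = x⁻¹ * ((x ^ j)⁻¹ * y * x ^ j) * x := by
      rw [pow_succ]; group
    rw [h1, ih]
    have h2 : x⁻¹ * (y * w ^ j) * x = (x⁻¹ * y * x) * (x⁻¹ * w ^ j * x) := by group
    have hwj : ∀ g : G, g * w ^ j = w ^ j * g := fun g => ((Commute.pow_right (hw g) j)).eq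
    have h3 : x⁻¹ * w ^ j * x = w ^ j := by rw [hwj x⁻¹, mul_assoc, inv_mul_cancel, mul_one]
    rw [h2, hy, h3, mul_assoc, ← pow_succ']

omit [Finite G] in
theorem conj_z_pow (x y z w : G) (hz : x⁻¹ * z * x = z * y) (hy : x⁻¹ * y * x = y * w)
    (hw : ∀ g : G, g * w = w * g) (j : ℕ) :
    (x ^ j)⁻¹ * z * x ^ j = z * y ^ j * w ^ (j.choose 2) := by
  induction j with
  | zero => simp
  | succ j ih =>
    have h1 : (x ^ (j + 1))⁻¹ * z * x ^ (j + 1) = x⁻¹ * ((x ^ j)⁻¹ * z * x ^ j) * x := by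
      rw [pow_succ]; group
    rw [h1, ih]
    have h2 : x⁻¹ * (z * y ^ j * w ^ (j.choose 2)) * x =
        (x⁻¹ * z * x) * (x⁻¹ * y * x) ^ j * (x⁻¹ * w ^ (j.choose 2) * x) := by
      have := conj_pow (a := x⁻¹) (b := y) (i := j)
      rw [inv_inv] at this
      rw [this]; group
    have hwj : ∀ (m : ℕ) (g : G), g * w ^ m = w ^ m * g := fun m g => ((Commute.pow_right (hw g) m)).eq
    have h3 : x⁻¹ * w ^ (j.choose 2) * x = w ^ (j.choose 2) := by
      rw [hwj _ x⁻¹, mul_assoc, inv_mul_cancel, mul_one]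
    have hcyw : Commute y w := hw y
    rw [h2, hz, hy, h3, hcyw.mul_pow]
    have hch : (j + 1).choose 2 = j + j.choose 2 := by
      rw [Nat.choose_succ_succ, Nat.choose_one_right]
    rw [hch, pow_add w j, pow_succ' y j]
    simp only [mul_assoc]

section main
variable (hp2 : p ≠ 2) (hG : IsPGroup p G) (hrk : PRankLE p 2 G) (E : Subgroup G)
  [hEn : E.Normal] (hE3 : Nat.card E = p ^ 3) (hEexp : ∀ x ∈ E, x ^ p = 1)

include hp2 hG hrk hE3 hEexp in
theorem family_c (n : ℕ) (hn : Nat.card G = p ^ n)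
    (hne : E ⊔ Subgroup.centralizer (E : Set G) ≠ ⊤) :
    4 ≤ n ∧ ∃ (s : ℕ) (x y z : G), (s = 1 ∨ ¬ IsSquare (s : ZMod p)) ∧
      Subgroup.closure ({x, y, z} : Set G) = ⊤ ∧ x ^ p = 1 ∧ y ^ p = 1 ∧ z ^ p ^ (n - 2) = 1 ∧
      y * z = z * y ∧ x⁻¹ * y * x = y * z ^ (s * p ^ (n - 3)) ∧ x⁻¹ * z * x = y * z := by
  obtain ⟨hnc, hZ, hZc, hcomm, -, hCZ, hcyc⟩ := structE hp2 hG hrk E hE3 hEexp
  obtain ⟨A₀, x, z, c, hA₀n, hZA, hAE, hA2, hx, hxA, hn4, hzB, hidx, hdecomp, hzord, hZz, hz1ne,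
    hz1p, hsurj⟩ := structB hp2 hG hrk E hE3 hEexp n hn hne
  haveI := hA₀n
  refine ⟨by omega, ?_⟩
  set Z := E ⊓ Subgroup.centralizer (E : Set G) with hZdef
  set B := Subgroup.centralizer (A₀ : Set G) with hB
  set z₁ := (z ^ p) ^ p ^ c with hz₁
  have hA0c := A0_comm hG E hE3 A₀ hAE hA2
  have hAcomm : IsMulCommutative A₀ := ⟨⟨fun a b => Subtype.ext (hA0c a a.2 b b.2)⟩⟩
  -- x is not in B
  have hxB : x ∉ B := by
    intro h
    have hEs := E_eq_sup hG E hE3 A₀ hAE hA2 x hx hxA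
    have hc : IsMulCommutative (A₀ ⊔ Subgroup.zpowers x : Subgroup G) :=
      HallReg.comm_sup_zpowers' hAcomm h
    apply hnc
    intro a ha b hb
    rw [hEs] at ha hb
    exact congrArg Subtype.val (hc.is_comm.comm ⟨a, ha⟩ ⟨b, hb⟩)
  set y := ⁅z⁻¹, x⁻¹⁆ with hy
  have hyA : y ∈ A₀ := comm_mem_A0' hG E hE3 A₀ hAE hA2 z⁻¹ x⁻¹ (E.inv_mem hx)
  have hconjz : x⁻¹ * z * x = z * y := by rw [hy, commutatorElement_def]; group
  have hzcomm : ∀ a ∈ A₀, a * z = z * a := fun a ha => Subgroup.mem_centralizer_iff.mp hzB a ha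
  have hyz : y * z = z * y := hzcomm y hyA
  set w := ⁅y⁻¹, x⁻¹⁆ with hw
  have hwZ : w ∈ Z := hcomm _ (E.inv_mem (hAE hyA)) _ (E.inv_mem hx)
  have hwc : ∀ g : G, g * w = w * g := fun g => Subgroup.mem_center_iff.mp (hZc hwZ) g
  have hconjy : x⁻¹ * y * x = y * w := by rw [hw, commutatorElement_def]; group
  -- y is not in Z
  have hyZ : y ∉ Z := by
    intro hyZ
    have hycen : ∀ g : G, g * y = y * g := fun g => Subgroup.mem_center_iff.mp (hZc hyZ) g
    obtain ⟨a₁, ha₁, ha₁Z⟩ : ∃ a ∈ A₀, a ∉ Z := by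
      by_contra hcon
      push_neg at hcon
      have := Subgroup.card_le_of_le (show A₀ ≤ Z from fun a ha => hcon a ha)
      rw [hA2, hZ] at this
      have h2 : p < p ^ 2 := by
        have := hp.out.one_lt
        nlinarith
      omega
    obtain ⟨b, hb, hba⟩ := hsurj a₁ ha₁
    obtain ⟨a, ha, k, hbk⟩ := hdecomp b hb
    have hAB : A₀ ≤ B := by
      intro a' ha'
      rw [hB, Subgroup.mem_centralizer_iff]
      intro a'' ha''
      exact hA0c a'' ha'' a' ha'
    set ψ := theta hG E hE3 A₀ hAE hA2 x hx with hψ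
    have hψval : ∀ b : ↥B, ((ψ b : ↥A₀) : G) = ⁅(b : G), x⁆ := fun b => rfl
    have h1 : (⟨b, hb⟩ : ↥B) = (⟨a, hAB ha⟩ : ↥B) * (⟨z, hzB⟩ : ↥B) ^ k := by
      apply Subtype.ext
      rw [Subgroup.coe_mul, Subgroup.coe_zpow]
      exact hbk
    have h2 : ψ ⟨b, hb⟩ = ψ ⟨a, hAB ha⟩ * (ψ ⟨z, hzB⟩) ^ k := by rw [h1, map_mul, map_zpow]
    have h3 : ⁅b, x⁆ = ⁅a, x⁆ * ⁅z, x⁆ ^ k := by
      have := congrArg (fun t : ↥A₀ => (t : G)) h2
      simp only [Subgroup.coe_mul, Subgroup.coe_zpow, hψval] at this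
      exact this
    have h4 : ⁅z, x⁆ = y := by
      have e1 : z * x = x * (z * y) := by rw [← hconjz]; group
      rw [commutatorElement_def, e1]
      have : x * (z * y) * z⁻¹ * x⁻¹ = x * (y * z) * z⁻¹ * x⁻¹ := by rw [hyz]
      rw [this]
      have : x * (y * z) * z⁻¹ * x⁻¹ = (x * y) * x⁻¹ := by group
      rw [this, hycen x, mul_assoc, mul_inv_cancel, mul_one]
    apply ha₁Z
    rw [← hba, h3, h4]
    exact Z.mul_mem (hcomm a (hAE ha) x hx) (Z.zpow_mem hyZ k)
  -- w is nontrivial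
  have hwne : w ≠ 1 := by
    intro hw1
    apply hxB
    rw [hw1, mul_one] at hconjy
    have hxy : y * x = x * y := by
      have : x * (x⁻¹ * y * x) = x * y := by rw [hconjy]
      rw [← this]; group
    have hlt : Z < Z ⊔ Subgroup.zpowers y := by
      refine lt_of_le_of_ne le_sup_left ?_
      intro h
      apply hyZ
      rw [h]
      exact le_sup_right (b := Subgroup.zpowers y) (Subgroup.mem_zpowers y)
    have hle : Z ⊔ Subgroup.zpowers y ≤ A₀ := sup_le hZA (by rw [Subgroup.zpowers_le]; exact hyA)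
    have hcard := Metacyc.card_mul_le_of_lt hG hlt
    rw [hZ] at hcard
    have hA0eq : Z ⊔ Subgroup.zpowers y = A₀ := by
      apply Subgroup.eq_of_le_of_card_ge hle
      rw [hA2]
      calc p ^ 2 = p * p := by ring
        _ ≤ _ := hcard
    have hle2 : A₀ ≤ Subgroup.centralizer ({x} : Set G) := by
      rw [← hA0eq]
      apply sup_le
      · intro g hg
        rw [Subgroup.mem_centralizer_singleton_iff]
        exact (Subgroup.mem_center_iff.mp (hZc hg) x).symm
      · rw [Subgroup.zpowers_le, Subgroup.mem_centralizer_singleton_iff]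
        exact hxy
    rw [hB, Subgroup.mem_centralizer_iff]
    intro a ha
    exact (Subgroup.mem_centralizer_singleton_iff.mp (hle2 ha))
  -- the exponent t
  have hz1ord : orderOf z₁ = p := orderOf_eq_prime hz1p hz1ne
  obtain ⟨t, ht⟩ := exists_nat_pow_of_mem_zpowers (by rw [← hZz]; exact hwZ : w ∈ Subgroup.zpowers z₁)
  have htp : ¬ p ∣ t := by
    rintro ⟨t', rfl⟩
    apply hwne
    rw [← ht, pow_mul, hz1p, one_pow]
  -- choice of j and s
  obtain ⟨j, s, hj, hs, hsq⟩ : ∃ j s : ℕ, ¬ p ∣ j ∧ s ≡ t * j * j [MOD p] ∧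
      (s = 1 ∨ ¬ IsSquare (s : ZMod p)) := by
    by_cases hsq : IsSquare ((t : ℕ) : ZMod p)
    · obtain ⟨r, hr⟩ := hsq
      have hr0 : r ≠ 0 := by
        intro h
        rw [h, mul_zero] at hr
        exact htp ((ZMod.natCast_eq_zero_iff t p).mp hr)
      refine ⟨(r⁻¹).val, 1, ?_, ?_, Or.inl rfl⟩
      · intro h
        have := (ZMod.natCast_eq_zero_iff _ p).mpr h
        rw [ZMod.natCast_zmod_val] at this
        exact (inv_ne_zero hr0) this
      · rw [← ZMod.natCast_eq_natCast_iff]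
        push_cast
        rw [ZMod.natCast_zmod_val, hr]
        field_simp
    · refine ⟨1, t, ?_, ?_, Or.inr hsq⟩
      · intro h
        exact hp.out.one_lt.ne' (Nat.dvd_one.mp h)
      · simp [Nat.ModEq]
  set x' := x ^ j with hx'
  set y' := y ^ j * w ^ (j.choose 2) with hy'
  have hwj : ∀ (m : ℕ) (g : G), g * w ^ m = w ^ m * g := fun m g => ((Commute.pow_right (hwc g) m)).eq
  have hwA : w ∈ A₀ := hZA hwZ
  have hy'A : y' ∈ A₀ := A₀.mul_mem (A₀.pow_mem hyA j) (A₀.pow_mem hwA _)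
  have hcz := conj_z_pow x y z w hconjz hconjy hwc j
  have hcy := conj_y_pow x y w hconjy hwc j
  have hn2 : n - 2 = c + 2 := by omega
  have hn3 : n - 3 = c + 1 := by omega
  have hzz₁ : z ^ p ^ (c + 1) = z₁ := by
    rw [hz₁, ← pow_mul, ← pow_succ']
  refine ⟨s, x', y', z, hsq, ?_, ?_, hEexp y' (hAE hy'A), ?_, hzcomm y' hy'A, ?_, ?_⟩
  · -- generation
    set S := Subgroup.closure ({x', y', z} : Set G) with hS
    have hxS : x' ∈ S := Subgroup.subset_closure (by simp)
    have hyS : y' ∈ S := Subgroup.subset_closure (by simp)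
    have hzS : z ∈ S := Subgroup.subset_closure (by simp)
    have hZS : Z ≤ S := by
      rw [hZz, Subgroup.zpowers_le, ← hzz₁]
      exact S.pow_mem hzS _
    have hy'Z : y' ∉ Z := by
      intro h
      have h1 : y ^ j ∈ Z := by
        have : y ^ j = y' * (w ^ (j.choose 2))⁻¹ := by rw [hy']; group
        rw [this]
        exact Z.mul_mem h (Z.inv_mem (Z.pow_mem hwZ _))
      exact hyZ (mem_of_pow_mem_of_not_dvd Z (hEexp y (hAE hyA)) hj h1)
    have hAS : A₀ ≤ S := by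
      have hlt : Z < Z ⊔ Subgroup.zpowers y' := by
        refine lt_of_le_of_ne le_sup_left ?_
        intro h
        apply hy'Z
        rw [h]
        exact le_sup_right (b := Subgroup.zpowers y') (Subgroup.mem_zpowers y')
      have hle : Z ⊔ Subgroup.zpowers y' ≤ A₀ := sup_le hZA (by rw [Subgroup.zpowers_le]; exact hy'A)
      have hcard := Metacyc.card_mul_le_of_lt hG hlt
      rw [hZ] at hcard
      have hA0eq : Z ⊔ Subgroup.zpowers y' = A₀ := by
        apply Subgroup.eq_of_le_of_card_ge hle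
        rw [hA2]
        calc p ^ 2 = p * p := by ring
          _ ≤ _ := hcard
      rw [← hA0eq]
      exact sup_le hZS (by rw [Subgroup.zpowers_le]; exact hyS)
    have hBS : B ≤ S := by
      intro b hb
      obtain ⟨a, ha, k, hbk⟩ := hdecomp b hb
      rw [hbk]
      exact S.mul_mem (hAS ha) (S.zpow_mem hzS k)
    have hx'B : ¬ Subgroup.zpowers x' ≤ B := by
      intro h
      have h1 : x ^ j ∈ B := h (Subgroup.mem_zpowers x')
      exact hxB (mem_of_pow_mem_of_not_dvd B (hEexp x hx) hj h1)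
    have htop := sup_eq_top_of_index_prime hp.out hidx hx'B
    rw [eq_top_iff, ← htop]
    exact sup_le hBS (by rw [Subgroup.zpowers_le]; exact hxS)
  · rw [hx', ← pow_mul, mul_comm, pow_mul, hEexp x hx, one_pow]
  · rw [hn2, show c + 2 = (c + 1) + 1 from rfl, pow_succ', pow_mul]
    exact hzord
  · -- conjugation of y'
    rw [hn3, pow_mul', hzz₁]
    have h1 : x'⁻¹ * y' * x' = (x'⁻¹ * y * x') ^ j * (x'⁻¹ * w ^ (j.choose 2) * x') := by
      have := conj_pow (a := x'⁻¹) (b := y) (i := j)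
      rw [inv_inv] at this
      rw [this, hy']; group
    have h3 : x'⁻¹ * w ^ (j.choose 2) * x' = w ^ (j.choose 2) := by
      rw [hwj _ x'⁻¹, mul_assoc, inv_mul_cancel, mul_one]
    have hcyw : Commute y (w ^ j) := hwj j y
    have h4 : w ^ (j * j) = z₁ ^ s := by
      rw [← ht, ← pow_mul, pow_eq_pow_iff_modEq, hz1ord]
      have : t * (j * j) = t * j * j := by ring
      rw [this]
      exact hs.symm
    rw [h1, hcy, h3, hcyw.mul_pow, ← pow_mul, h4, hy']
    have e1 : ∀ g : G, g * z₁ ^ s = z₁ ^ s * g := by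
      intro g
      rw [← h4]; exact hwj _ g
    rw [mul_assoc, mul_assoc, e1 (w ^ (j.choose 2))]
  · rw [hcz, hy', mul_assoc]
    exact (hzcomm _ hy'A).symm

end main

end Cfsg.Agent.Lib.Helper1.Blk
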