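import Mathlib
import Cfsg.Agent.Lib.Helper1.Blk8
import Cfsg.Agent.Lib.Helper1.Nilpotent
import Cfsg.Agent.Lib.Helper2.MetaAct3
set_option autoImplicit false
set_option maxHeartbeats 4000000
set_option linter.unusedVariables false
set_option linter.unusedSectionVars false
set_option linter.style.longLine false
set_option linter.unusedSimpArgs false
set_option linter.deprecated false
set_option linter.style.haveILetI false
open scoped commutatorElement Pointwise
universe u v
namespace Cfsg.Agent.Lib.Helper1.Blk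

open Cfsg Cfsg.Agent.Lib.Helper1 Cfsg.Agent.Lib.Helper2 Cfsg.Agent.Lib.Helper3 Cfsg.Agent.Lib.Helper4

variable {p : ℕ} [hp : Fact p.Prime]

/-- a group of order `p^k`, `k ≥ 2`, has class at most `k - 1` -/
theorem lcs_eq_bot_of_card_pow : ∀ (k : ℕ), 2 ≤ k → ∀ (X : Type u) [Group X] [Finite X],
    Nat.card X = p ^ k → (⊤ : Subgroup X).lowerCentralSeries (k - 1) = ⊥ := by
  intro k
  induction k using Nat.strong_induction_on with
  | _ k ih =>
  intro hk X _ _ hcard
  have hX : IsPGroup p X := IsPGroup.of_card hcard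
  haveI : Nontrivial X := by
    rw [← Finite.one_lt_card_iff_nontrivial, hcard]
    exact Nat.one_lt_pow (by omega) hp.out.one_lt
  set Z := Subgroup.center X with hZ
  obtain ⟨j, hj⟩ := IsPGroup.iff_card.mp (hX.to_subgroup Z)
  have hj1 : 1 ≤ j := by
    by_contra hcon
    have hj0 : j = 0 := by omega
    rw [hj0, pow_zero] at hj
    have hZbot : Z = ⊥ := Subgroup.card_eq_one.mp hj
    have := hX.center_nontrivial
    rw [← hZ, hZbot] at this
    exact not_nontrivial _ this
  have hjk : j ≤ k := by
    have := Subgroup.card_le_card_group Z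
    rw [hj, hcard] at this
    exact (Nat.pow_le_pow_iff_right hp.out.one_lt).mp this
  have hQcard : Nat.card (X ⧸ Z) = p ^ (k - j) := by
    have h1 := Subgroup.card_eq_card_quotient_mul_card_subgroup Z
    rw [hcard, hj] at h1
    have : p ^ (k - j) * p ^ j = Nat.card (X ⧸ Z) * p ^ j := by
      rw [← h1, ← pow_add]; congr 1; omega
    exact (Nat.eq_of_mul_eq_mul_right (pow_pos hp.out.pos j) this).symm
  have hanti := (Subgroup.lowerCentralSeries_antitone (S := (⊤ : Subgroup X)))
  by_cases hkj : 2 ≤ k - j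
  · have h1 := ih (k - j) (by omega) hkj (X ⧸ Z) hQcard
    rw [← lcs_map (QuotientGroup.mk' Z) (QuotientGroup.mk'_surjective Z)] at h1
    have hle : (⊤ : Subgroup X).lowerCentralSeries (k - j - 1) ≤ Z := by
      intro y hy
      have : (QuotientGroup.mk' Z) y ∈ ((⊤ : Subgroup X).lowerCentralSeries (k - j - 1)).map
          (QuotientGroup.mk' Z) := ⟨y, hy, rfl⟩
      rw [h1, Subgroup.mem_bot, QuotientGroup.mk'_apply, QuotientGroup.eq_one_iff] at this
      exact this
    have h2 : (⊤ : Subgroup X).lowerCentralSeries (k - j - 1 + 1) = ⊥ := by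
      rw [Subgroup.lowerCentralSeries_succ, Subgroup.commutator_eq_bot_iff_le_centralizer,
        Subgroup.coe_top, Subgroup.centralizer_univ]
      exact hle
    rw [eq_bot_iff, ← h2]
    exact hanti (by omega)
  · -- quotient of order ≤ p: X is abelian
    have hcyc : IsCyclic (X ⧸ Z) := by
      have hle1 : k - j ≤ 1 := by omega
      interval_cases hkj' : k - j
      · have : Subsingleton (X ⧸ Z) := by
          rw [← Finite.card_le_one_iff_subsingleton, hQcard]; simp
        infer_instance
      · exact isCyclic_of_prime_card (p := p) (by rw [hQcard]; simp)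
    have hcomm : ∀ a b : X, a * b = b * a := by
      haveI := hcyc
      exact commutative_of_cyclic_center_quotient (QuotientGroup.mk' Z)
        (by rw [QuotientGroup.ker_mk'])
    have h1 : (⊤ : Subgroup X).lowerCentralSeries 1 = ⊥ := by
      rw [Subgroup.lowerCentralSeries_succ, Subgroup.commutator_eq_bot_iff_le_centralizer,
        Subgroup.coe_top, Subgroup.centralizer_univ]
      intro y _
      rw [Subgroup.mem_center_iff]
      intro g
      exact hcomm g y
    rw [eq_bot_iff, ← h1]
    exact hanti (by omega)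

/-- a group of maximal class and order at least `p³` has centre of order `p` -/
theorem card_center_of_maxclass (n : ℕ) (hn : 3 ≤ n) (Q : Type u) [Group Q] [Finite Q]
    (hcard : Nat.card Q = p ^ n) (hmax : (⊤ : Subgroup Q).lowerCentralSeries (n - 2) ≠ ⊥) :
    Nat.card (Subgroup.center Q) = p := by
  have hQ : IsPGroup p Q := IsPGroup.of_card hcard
  haveI : Nontrivial Q := by
    rw [← Finite.one_lt_card_iff_nontrivial, hcard]
    exact Nat.one_lt_pow (by omega) hp.out.one_lt
  set Z := Subgroup.center Q with hZ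
  obtain ⟨j, hj⟩ := IsPGroup.iff_card.mp (hQ.to_subgroup Z)
  have hj1 : 1 ≤ j := by
    by_contra hcon
    have hj0 : j = 0 := by omega
    rw [hj0, pow_zero] at hj
    have hZbot : Z = ⊥ := Subgroup.card_eq_one.mp hj
    have := hQ.center_nontrivial
    rw [← hZ, hZbot] at this
    exact not_nontrivial _ this
  have hjk : j ≤ n := by
    have := Subgroup.card_le_card_group Z
    rw [hj, hcard] at this
    exact (Nat.pow_le_pow_iff_right hp.out.one_lt).mp this
  by_contra hne
  have hj2 : 2 ≤ j := by
    by_contra hcon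
    have : j = 1 := by omega
    rw [this, pow_one] at hj
    exact hne hj
  have hQcard : Nat.card (Q ⧸ Z) = p ^ (n - j) := by
    have h1 := Subgroup.card_eq_card_quotient_mul_card_subgroup Z
    rw [hcard, hj] at h1
    have : p ^ (n - j) * p ^ j = Nat.card (Q ⧸ Z) * p ^ j := by
      rw [← h1, ← pow_add]; congr 1; omega
    exact (Nat.eq_of_mul_eq_mul_right (pow_pos hp.out.pos j) this).symm
  have hanti := (Subgroup.lowerCentralSeries_antitone (S := (⊤ : Subgroup Q)))
  apply hmax
  by_cases hkj : 2 ≤ n - j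
  · have h1 := lcs_eq_bot_of_card_pow (p := p) (n - j) hkj (Q ⧸ Z) hQcard
    rw [← lcs_map (QuotientGroup.mk' Z) (QuotientGroup.mk'_surjective Z)] at h1
    have hle : (⊤ : Subgroup Q).lowerCentralSeries (n - j - 1) ≤ Z := by
      intro y hy
      have : (QuotientGroup.mk' Z) y ∈ ((⊤ : Subgroup Q).lowerCentralSeries (n - j - 1)).map
          (QuotientGroup.mk' Z) := ⟨y, hy, rfl⟩
      rw [h1, Subgroup.mem_bot, QuotientGroup.mk'_apply, QuotientGroup.eq_one_iff] at this
      exact this
    have h2 : (⊤ : Subgroup Q).lowerCentralSeries (n - j - 1 + 1) = ⊥ := by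
      rw [Subgroup.lowerCentralSeries_succ, Subgroup.commutator_eq_bot_iff_le_centralizer,
        Subgroup.coe_top, Subgroup.centralizer_univ]
      exact hle
    rw [eq_bot_iff, ← h2]
    exact hanti (by omega)
  · have hcyc : IsCyclic (Q ⧸ Z) := by
      have hle1 : n - j ≤ 1 := by omega
      interval_cases hkj' : n - j
      · have : Subsingleton (Q ⧸ Z) := by
          rw [← Finite.card_le_one_iff_subsingleton, hQcard]; simp
        infer_instance
      · exact isCyclic_of_prime_card (p := p) (by rw [hQcard]; simp)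
    have hcomm : ∀ a b : Q, a * b = b * a := by
      haveI := hcyc
      exact commutative_of_cyclic_center_quotient (QuotientGroup.mk' Z)
        (by rw [QuotientGroup.ker_mk'])
    have h1 : (⊤ : Subgroup Q).lowerCentralSeries 1 = ⊥ := by
      rw [Subgroup.lowerCentralSeries_succ, Subgroup.commutator_eq_bot_iff_le_centralizer,
        Subgroup.coe_top, Subgroup.centralizer_univ]
      intro y _
      rw [Subgroup.mem_center_iff]
      intro g
      exact hcomm g y
    rw [eq_bot_iff, ← h1]
    exact hanti (by omega)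

variable {G : Type u} [Group G] [Finite G]

/-- an element outside a proper subgroup `Z` of a `p`-group `D` with `p`-th power in `Z` -/
theorem exists_pow_mem_not_mem (hG : IsPGroup p G) (Z D : Subgroup G) (hZD : Z < D) :
    ∃ u ∈ D, u ∉ Z ∧ u ^ p ∈ Z := by
  obtain ⟨d, hdD, hdZ⟩ := SetLike.exists_of_lt hZD
  obtain ⟨k, hk⟩ := (IsPGroup.iff_orderOf.mp hG) d
  have hex : ∃ i : ℕ, d ^ p ^ i ∈ Z := ⟨k, by rw [← hk, pow_orderOf_eq_one]; exact Z.one_mem⟩
  classical
  set i₀ := Nat.find hex with hi₀
  have hi₀mem : d ^ p ^ i₀ ∈ Z := Nat.find_spec hex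
  have hi₀pos : i₀ ≠ 0 := by
    intro h
    rw [h, pow_zero, pow_one] at hi₀mem
    exact hdZ hi₀mem
  obtain ⟨i, hi⟩ : ∃ i, i₀ = i + 1 := ⟨i₀ - 1, by omega⟩
  refine ⟨d ^ p ^ i, D.pow_mem hdD _, ?_, ?_⟩
  · intro h
    have := Nat.find_min' hex h
    omega
  · rw [← pow_mul, ← pow_succ, ← hi]
    exact hi₀mem

/-- if `Z < V` with `|Z| = p`, `|V| = p²` and `v ∈ V ∖ Z` then `V = Z ⊔ ⟨v⟩` -/
theorem sup_zpowers_eq (hG : IsPGroup p G) (Z V : Subgroup G) (hZV : Z ≤ V) (hZ : Nat.card Z = p)
    (hV : Nat.card V = p ^ 2) (v : G) (hv : v ∈ V) (hvZ : v ∉ Z) : Z ⊔ Subgroup.zpowers v = V := by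
  have hlt : Z < Z ⊔ Subgroup.zpowers v := by
    refine lt_of_le_of_ne le_sup_left ?_
    intro h
    apply hvZ
    rw [h]
    exact le_sup_right (b := Subgroup.zpowers v) (Subgroup.mem_zpowers v)
  have hle : Z ⊔ Subgroup.zpowers v ≤ V := sup_le hZV (by rw [Subgroup.zpowers_le]; exact hv)
  have hcard := Metacyc.card_mul_le_of_lt hG hlt
  rw [hZ] at hcard
  apply Subgroup.eq_of_le_of_card_ge hle
  rw [hV]
  calc p ^ 2 = p * p := by ring
    _ ≤ _ := hcard

/-- an element commuting with some `v ∈ V ∖ Z` centralizes `V` when `Z` is central -/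
theorem mem_centralizer_of_comm (hG : IsPGroup p G) (Z V : Subgroup G) (hZV : Z ≤ V)
    (hZ : Nat.card Z = p) (hV : Nat.card V = p ^ 2) (hZc : Z ≤ Subgroup.center G) (v : G)
    (hv : v ∈ V) (hvZ : v ∉ Z) (g : G) (hg : g * v = v * g) :
    g ∈ Subgroup.centralizer (V : Set G) := by
  have hle : V ≤ Subgroup.centralizer ({g} : Set G) := by
    rw [← sup_zpowers_eq hG Z V hZV hZ hV v hv hvZ]
    apply sup_le
    · intro a ha
      rw [Subgroup.mem_centralizer_singleton_iff]
      exact (Subgroup.mem_center_iff.mp (hZc ha) g).symm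
    · rw [Subgroup.zpowers_le, Subgroup.mem_centralizer_singleton_iff]
      exact hg.symm
  rw [Subgroup.mem_centralizer_iff]
  intro a ha
  exact (Subgroup.mem_centralizer_singleton_iff.mp (hle ha))

theorem card_le_mul_inf_of_index (B H : Subgroup G) [B.Normal] (hidx : B.index = p) :
    Nat.card ↥H ≤ p * Nat.card ↥(B ⊓ H : Subgroup G) := by
  have h1 : B.relIndex H ∣ p := by
    have := Subgroup.relIndex_dvd_index_of_normal B H
    rwa [hidx] at this
  have h2 : Nat.card ↥(B ⊓ H : Subgroup G) * B.relIndex H = Nat.card ↥H := by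
    rw [← Subgroup.inf_relIndex_right B H]
    exact Cfsg.Agent.Lib.Helper2.card_mul_relIndex inf_le_right
  have h5 : B.relIndex H ≤ p := Nat.le_of_dvd hp.out.pos h1
  rw [← h2, mul_comm]
  exact Nat.mul_le_mul_right _ h5

end Cfsg.Agent.Lib.Helper1.Blk
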