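import Mathlib
import Cfsg.Agent.Lib.Helper1.Blk9
set_option autoImplicit false
set_option maxHeartbeats 4000000
set_option linter.unusedVariables false
set_option linter.unusedSectionVars false
set_option linter.style.longLine false
set_option linter.unusedSimpArgs false
set_option linter.deprecated false
set_option linter.style.haveILetI false
open scoped commutatorElement Pointwise
universe u v
namespace Cfsg.Agent.Lib.Helper1.Blk

open Cfsg Cfsg.Agent.Lib.Helper1 Cfsg.Agent.Lib.Helper2 Cfsg.Agent.Lib.Helper3 Cfsg.Agent.Lib.Helper4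

variable {G : Type u} [Group G] [Finite G]

theorem mem_normalizer_of_conj_mem' (A : Subgroup G) (g : G) (h : ∀ a ∈ A, g * a * g⁻¹ ∈ A) :
    g ∈ Subgroup.normalizer (A : Set G) := by
  rw [Subgroup.mem_normalizer_iff]
  intro n
  constructor
  · exact h n
  · intro hn
    let f : ↥A → ↥A := fun a => ⟨g * a * g⁻¹, h a a.2⟩
    have hinj : Function.Injective f := by
      intro a b hab
      have := congrArg Subtype.val hab
      simp only [f] at this
      apply Subtype.ext
      have h2 : g⁻¹ * (g * (a : G) * g⁻¹) * g = g⁻¹ * (g * (b : G) * g⁻¹) * g := by rw [this]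
      simpa [mul_assoc] using h2
    obtain ⟨a, ha⟩ := Finite.surjective_of_injective hinj ⟨g * n * g⁻¹, hn⟩
    have := congrArg Subtype.val ha
    simp only [f] at this
    have h2 : g⁻¹ * (g * (a : G) * g⁻¹) * g = g⁻¹ * (g * n * g⁻¹) * g := by rw [this]
    have h3 : (a : G) = n := by simpa [mul_assoc] using h2
    rw [← h3]
    exact a.2

/-- the configuration: a `3`-group of rank two with a normal four-group-like `V` of order `9`
whose centralizer has index `3` -/
structure Ctx (G : Type u) [Group G] [Finite G] (V : Subgroup G) : Prop where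
  hG : IsPGroup 3 G
  hrk : PRankLE 3 2 G
  hVn : V.Normal
  hV9 : Nat.card V = 3 ^ 2
  hVexp : ∀ v ∈ V, v ^ 3 = 1
  hidx : (Subgroup.centralizer (V : Set G)).index = 3

namespace Ctx

variable {V : Subgroup G} (c : Ctx G V)

include c

theorem comm : ∀ a ∈ V, ∀ b ∈ V, a * b = b * a := comm_of_card_le_sq c.hG V c.hV9.le

theorem V_le_M : V ≤ Subgroup.centralizer (V : Set G) := by
  intro a ha
  rw [Subgroup.mem_centralizer_iff]
  intro b hb
  exact c.comm b hb a ha

theorem mem_V (x : G) (hx : x ∈ Subgroup.centralizer (V : Set G)) (hx3 : x ^ 3 = 1) : x ∈ V :=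
  mem_of_centralizes c.hrk V c.comm c.hVexp c.hV9 x hx hx3

theorem M_normal : (Subgroup.centralizer (V : Set G)).Normal := by
  haveI := c.hVn
  infer_instance

theorem sup_eq_top (t : G) (ht : t ∉ Subgroup.centralizer (V : Set G)) :
    Subgroup.centralizer (V : Set G) ⊔ Subgroup.zpowers t = ⊤ :=
  sup_eq_top_of_index_prime (by norm_num) c.hidx (by rw [Subgroup.zpowers_le]; exact ht)

theorem mem_Z_of_comm (t : G) (ht : t ∉ Subgroup.centralizer (V : Set G)) (v : G) (hv : v ∈ V)
    (hvt : v * t = t * v) : v ∈ V ⊓ Subgroup.center G := by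
  refine ⟨hv, ?_⟩
  have hle : Subgroup.centralizer (V : Set G) ⊔ Subgroup.zpowers t ≤
      Subgroup.centralizer ({v} : Set G) := by
    apply sup_le
    · intro m hm
      rw [Subgroup.mem_centralizer_singleton_iff]
      exact (Subgroup.mem_centralizer_iff.mp hm v hv).symm
    · rw [Subgroup.zpowers_le, Subgroup.mem_centralizer_singleton_iff]
      exact hvt.symm
  rw [c.sup_eq_top t ht] at hle
  show v ∈ Subgroup.center G
  rw [Subgroup.mem_center_iff]
  intro g
  exact (Subgroup.mem_centralizer_singleton_iff.mp (hle (Subgroup.mem_top g)))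

theorem exists_not_mem : ∃ t : G, t ∉ Subgroup.centralizer (V : Set G) := by
  by_contra hcon
  push_neg at hcon
  have : Subgroup.centralizer (V : Set G) = ⊤ := eq_top_iff.mpr (fun g _ => hcon g)
  have h := c.hidx
  rw [this, Subgroup.index_top] at h
  omega

theorem card_Z : Nat.card ↥(V ⊓ Subgroup.center G : Subgroup G) = 3 := by
  haveI := c.hVn
  haveI : Group.IsNilpotent G := c.hG.isNilpotent
  have hVne : V ≠ ⊥ := by
    intro h
    have := c.hV9
    rw [h, Subgroup.card_bot] at this
    omega
  have h1 : V ⊓ Subgroup.center G ≠ ⊥ := normal_inf_center_ne_bot V hVne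
  have h2 : V ⊓ Subgroup.center G ≠ V := by
    intro h
    obtain ⟨t, ht⟩ := c.exists_not_mem
    apply ht
    rw [Subgroup.mem_centralizer_iff]
    intro v hv
    have : v ∈ Subgroup.center G := by
      have : v ∈ V ⊓ Subgroup.center G := by rw [h]; exact hv
      exact this.2
    exact (Subgroup.mem_center_iff.mp this t).symm
  obtain ⟨j, hj⟩ := IsPGroup.iff_card.mp (c.hG.to_subgroup (V ⊓ Subgroup.center G))
  have hle := Subgroup.card_le_of_le (inf_le_left : V ⊓ Subgroup.center G ≤ V)
  rw [hj, c.hV9] at hle
  have hj2 : j ≤ 2 := (Nat.pow_le_pow_iff_right (by norm_num)).mp hle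
  have hj0 : j ≠ 0 := by
    intro h
    rw [h, pow_zero] at hj
    exact h1 (Subgroup.card_eq_one.mp hj)
  have hj2' : j ≠ 2 := by
    intro h
    rw [h] at hj
    exact h2 (Subgroup.eq_of_le_of_card_ge inf_le_left (by rw [hj, c.hV9]))
  have : j = 1 := by omega
  rw [hj, this, pow_one]

theorem Z_normal : (V ⊓ Subgroup.center G : Subgroup G).Normal := by
  haveI := c.hVn
  infer_instance

theorem comm_mem_Z (v : G) (hv : v ∈ V) (g : G) : ⁅v, g⁆ ∈ V ⊓ Subgroup.center G := by
  haveI := c.hVn
  haveI := c.Z_normal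
  exact comm_mem_of_card_mul c.hG V (V ⊓ Subgroup.center G) inf_le_left
    (by rw [c.hV9, c.card_Z]; norm_num) g v hv

theorem metaM : IsMetacyclic ↥(Subgroup.centralizer (V : Set G)) := by
  set M := Subgroup.centralizer (V : Set G) with hM
  refine lemmaA (c.hG.to_subgroup M) (V.subgroupOf M) ?_ ?_ ?_
  · intro x hx
    rw [Subgroup.mem_center_iff]
    intro g
    apply Subtype.ext
    have := Subgroup.mem_centralizer_iff.mp g.2 (x : G) (Subgroup.mem_subgroupOf.mp hx)
    simpa using this.symm
  · have := card_subgroupOf_le' V M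
    rw [c.hV9] at this
    exact this
  · intro x hx
    rw [Subgroup.mem_subgroupOf]
    apply c.mem_V _ x.2
    have := congrArg Subtype.val hx
    simpa using this

theorem regM : IsRegularPGroup 3 ↥(Subgroup.centralizer (V : Set G)) :=
  regular_of_metacyclic (by norm_num) (c.hG.to_subgroup _) c.metaM

theorem commutator_le_M : commutator G ≤ Subgroup.centralizer (V : Set G) := by
  haveI := c.M_normal
  apply MetaOdd.commutator_le_of_cyclic_quotient
  have hcard : Nat.card (G ⧸ Subgroup.centralizer (V : Set G)) = 3 := by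
    rw [← Subgroup.index_eq_card]; exact c.hidx
  exact isCyclic_of_prime_card (p := 3) hcard

theorem comm_mem_M (a b : G) : ⁅a, b⁆ ∈ Subgroup.centralizer (V : Set G) := by
  apply c.commutator_le_M
  rw [commutator_def]
  exact Subgroup.commutator_mem_commutator (Subgroup.mem_top a) (Subgroup.mem_top b)

theorem pow_mem_M (g : G) : g ^ 3 ∈ Subgroup.centralizer (V : Set G) := by
  haveI := c.M_normal
  have hcard : Nat.card (G ⧸ Subgroup.centralizer (V : Set G)) = 3 := by
    rw [← Subgroup.index_eq_card]; exact c.hidx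
  rw [← QuotientGroup.eq_one_iff, QuotientGroup.mk_pow, ← hcard]
  exact pow_card_eq_one'

end Ctx

end Cfsg.Agent.Lib.Helper1.Blk
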