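import Mathlib
import Cfsg.Agent.Lib.Helper1.Blk10
set_option autoImplicit false
set_option maxHeartbeats 4000000
set_option linter.unusedVariables false
set_option linter.unusedSectionVars false
set_option linter.style.longLine false
set_option linter.unusedSimpArgs false
set_option linter.deprecated false
set_option linter.style.haveILetI false
open scoped commutatorElement Pointwise
universe u v
namespace Cfsg.Agent.Lib.Helper1.Blk

open Cfsg Cfsg.Agent.Lib.Helper1 Cfsg.Agent.Lib.Helper2 Cfsg.Agent.Lib.Helper3 Cfsg.Agent.Lib.Helper4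

variable {G : Type u} [Group G] [Finite G]

namespace Ctx

variable {V : Subgroup G} (c : Ctx G V)

include c

/-- the subgroup `V⟨t⟩` for an element `t` of order three outside `C_G(V)` -/
theorem Et_facts (t : G) (ht : t ∉ Subgroup.centralizer (V : Set G)) (ht3 : t ^ 3 = 1) :
    Nat.card ↥(V ⊔ Subgroup.zpowers t : Subgroup G) = 3 ^ 3 ∧
    (∀ x ∈ V ⊔ Subgroup.zpowers t, x ^ 3 = 1) ∧
    (V ⊔ Subgroup.zpowers t) ⊓ Subgroup.centralizer (V : Set G) = V := by
  haveI := c.hVn
  set M := Subgroup.centralizer (V : Set G) with hM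
  set E := V ⊔ Subgroup.zpowers t with hE
  have ht1 : t ≠ 1 := fun h => ht (h ▸ M.one_mem)
  have htord : orderOf t = 3 := orderOf_eq_prime ht3 ht1
  have htV : t ∉ V := fun h => ht (c.V_le_M h)
  have htE : t ∈ E := le_sup_right (a := V) (Subgroup.mem_zpowers t)
  have hVltE : V < E := by
    refine lt_of_le_of_ne le_sup_left ?_
    intro h
    apply htV
    rw [h]; exact htE
  have hEge : 3 ^ 2 * 3 ≤ Nat.card ↥E := by
    have := Metacyc.card_mul_le_of_lt c.hG hVltE
    rwa [c.hV9] at this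
  have hEle : Nat.card ↥E ≤ 27 := by
    have h1 := GlaubermanRepl.card_sup_mul_card_inf_of_le_normalizer (Subgroup.zpowers t) V
      (by rw [Subgroup.normalizer_eq_top]; exact le_top)
    rw [Nat.card_zpowers, htord, c.hV9, sup_comm] at h1
    exact Nat.le_of_dvd (by norm_num) ⟨_, h1.symm⟩
  have hEcard : Nat.card ↥E = 3 ^ 3 := by norm_num at hEge ⊢; omega
  refine ⟨hEcard, ?_, ?_⟩
  · set S : Set G := (V : Set G) ∪ (Subgroup.zpowers t : Set G) with hS
    have hcl : Subgroup.closure S = E := by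
      rw [hS, Subgroup.closure_union, Subgroup.closure_eq, Subgroup.closure_eq]
    have hSe : ∀ s ∈ S, s ^ 3 = 1 := by
      intro s hs
      rcases hs with hs | hs
      · exact c.hVexp s hs
      · obtain ⟨n, rfl⟩ := Subgroup.mem_zpowers_iff.mp hs
        rw [← zpow_natCast, ← zpow_mul, mul_comm, zpow_mul, zpow_natCast, ht3, one_zpow]
    have hcc : CommCentral ↥(Subgroup.closure S) := by
      apply commCentral_of_card_dvd_cube (p := 3)
      rw [hcl, hEcard]
    have := pow_eq_one_of_closure (p := 3) (by norm_num) (by norm_num) S hSe hcc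
    rw [hcl] at this
    exact this
  · have hle : V ≤ E ⊓ M := le_inf le_sup_left c.V_le_M
    symm
    apply Subgroup.eq_of_le_of_card_ge hle
    have hlt : E ⊓ M < E := by
      refine lt_of_le_of_ne inf_le_left ?_
      intro h
      apply ht
      have : t ∈ E ⊓ M := by rw [h]; exact htE
      exact this.2
    have := Metacyc.card_mul_le_of_lt c.hG hlt
    rw [hEcard] at this
    rw [c.hV9]
    norm_num at this ⊢
    omega

theorem case_i (t : G) (ht : t ∉ Subgroup.centralizer (V : Set G)) (ht3 : t ^ 3 = 1) :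
    (∃ E : Subgroup G, E.Normal ∧ Nat.card E = 3 ^ 3 ∧ ∀ x ∈ E, x ^ 3 = 1) ∨
      Nat.card ↥(Subgroup.centralizer ({t} : Set G)) ≤ 3 ^ 2 := by
  haveI := c.hVn
  haveI := c.M_normal
  obtain ⟨hEcard, hEexp, hEM⟩ := c.Et_facts t ht ht3
  set M := Subgroup.centralizer (V : Set G) with hM
  set Z := V ⊓ Subgroup.center G with hZ
  set E := V ⊔ Subgroup.zpowers t with hE
  have htE : t ∈ E := le_sup_right (a := V) (Subgroup.mem_zpowers t)
  by_cases hEn : E.Normal
  · exact Or.inl ⟨E, hEn, hEcard, hEexp⟩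
  right
  set D := M ⊓ Subgroup.centralizer ({t} : Set G) with hD
  have hcard := card_le_mul_inf_of_index (p := 3) M (Subgroup.centralizer ({t} : Set G)) c.hidx
  have hZD : Z ≤ D := by
    intro z hz
    refine Subgroup.mem_inf.mpr ⟨c.V_le_M hz.1, ?_⟩
    rw [Subgroup.mem_centralizer_singleton_iff]
    exact (Subgroup.mem_center_iff.mp hz.2 t).symm
  suffices hDZ : D = Z by
    rw [← hD, hDZ, c.card_Z] at hcard
    norm_num at hcard ⊢
    exact hcard
  by_contra hne
  have hlt : Z < D := lt_of_le_of_ne hZD (fun h => hne h.symm)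
  obtain ⟨u, huD, huZ, hu3⟩ := exists_pow_mem_not_mem c.hG Z D hlt
  have huM : u ∈ M := huD.1
  have hut : u * t = t * u := Subgroup.mem_centralizer_singleton_iff.mp huD.2
  have hu3ne : u ^ 3 ≠ 1 := by
    intro h
    exact huZ (c.mem_Z_of_comm t ht u (c.mem_V u huM h) hut)
  apply hEn
  rw [← Subgroup.normalizer_eq_top_iff]
  by_contra hNtop
  set N := Subgroup.normalizer (E : Set G) with hN
  have hNlt : N < ⊤ := lt_top_iff_ne_top.mpr hNtop
  haveI : Group.IsNilpotent G := c.hG.isNilpotent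
  have hnc := normalizerCondition_of_isNilpotent (G := G) N hNlt
  obtain ⟨g, hgNN, hgN⟩ := SetLike.exists_of_lt hnc
  apply hgN
  apply mem_normalizer_of_conj_mem' E g
  -- key: the conjugate of t lies in E
  set t' := g * t * g⁻¹ with ht'
  have htN : t ∈ N := Subgroup.le_normalizer htE
  have ht'N : t' ∈ N := (Subgroup.mem_normalizer_iff.mp hgNN t).mp htN
  set m := t⁻¹ * t' with hm
  have hmN : m ∈ N := N.mul_mem (N.inv_mem htN) ht'N
  have hmM : m ∈ M := by
    have : m = ⁅t⁻¹, g⁆ := by rw [hm, ht', commutatorElement_def]; group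
    rw [this]; exact c.comm_mem_M _ _
  have ht'3 : t' ^ 3 = 1 := by
    rw [ht', conj_pow, ht3]; group
  have htm : t * m = t' := by rw [hm]; group
  have hcuE : Reg.cu t m ∈ E := by
    have h1 : m⁻¹ * t⁻¹ * (m⁻¹)⁻¹ ∈ E :=
      (Subgroup.mem_normalizer_iff.mp (N.inv_mem hmN) t⁻¹).mp (E.inv_mem htE)
    have : Reg.cu t m = m⁻¹ * t⁻¹ * (m⁻¹)⁻¹ * t := by unfold Reg.cu; group
    rw [this]
    exact E.mul_mem h1 htE
  have hcuM : Reg.cu t m ∈ M := by
    have : Reg.cu t m = ⁅m⁻¹, t⁻¹⁆ := by unfold Reg.cu; rw [commutatorElement_def]; group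
    rw [this]; exact c.comm_mem_M _ _
  have hcuV : Reg.cu t m ∈ V := by
    rw [← hEM]; exact ⟨hcuE, hcuM⟩
  have hcvZ : Reg.cv t m ∈ Z := by
    have : Reg.cv t m = ⁅(Reg.cu t m)⁻¹, t⁻¹⁆ := by
      unfold Reg.cv; rw [commutatorElement_def]; group
    rw [this]
    exact c.comm_mem_Z _ (V.inv_mem hcuV) _
  have hcw1 : Reg.cw t m = 1 := by
    unfold Reg.cw
    have h1 : Reg.cu t m * m = m * Reg.cu t m := Subgroup.mem_centralizer_iff.mp hmM _ hcuV
    rw [mul_assoc, h1]; group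
  have hcvc : ∀ x : G, Commute (Reg.cv t m) x := fun x =>
    (Subgroup.mem_center_iff.mp hcvZ.2 x).symm
  have hcol := Reg.collect (a := t) (b := m) (hcvc t) (hcvc m)
    (by rw [hcw1]; exact Commute.one_left t) (by rw [hcw1]; exact Commute.one_left m) 3 1
  have hch2 : Nat.choose 3 2 = 3 := by decide
  have hch3 : Nat.choose 3 3 = 1 := by decide
  rw [mul_one, htm, ht'3, ht3, hch2, hch3, c.hVexp _ hcuV, hcw1, one_pow, one_mul, one_mul, one_mul,
    mul_one, pow_one] at hcol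
  have hm3 : m ^ 3 = (Reg.cv t m)⁻¹ := by
    rw [eq_inv_iff_mul_eq_one]; exact hcol.symm
  have hm3Z : m ^ 3 ∈ Z := by rw [hm3]; exact Z.inv_mem hcvZ
  have hZu : Subgroup.zpowers (u ^ 3) = Z := BK.zpowers_eq_of_card_prime c.card_Z hu3 hu3ne
  obtain ⟨k, hk⟩ := exists_nat_pow_of_mem_zpowers (by rw [hZu]; exact hm3Z : m ^ 3 ∈ Subgroup.zpowers (u ^ 3))
  have hukM : u ^ k ∈ M := M.pow_mem huM k
  have hreg := c.regM
  have h1 : (⟨m, hmM⟩ : ↥M) ^ 3 ^ 1 = (⟨u ^ k, hukM⟩ : ↥M) ^ 3 ^ 1 := by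
    apply Subtype.ext
    simp only [pow_one, Subgroup.coe_pow]
    rw [← hk, ← pow_mul, ← pow_mul, mul_comm]
  have h2 := (regular_pow_eq_iff hreg _ _ 1).mp h1
  have h3 : (m * (u ^ k)⁻¹) ^ 3 = 1 := by
    have := congrArg Subtype.val h2
    simpa using this
  set v₀ := m * (u ^ k)⁻¹ with hv₀
  have hv₀V : v₀ ∈ V := c.mem_V _ (M.mul_mem hmM (M.inv_mem hukM)) h3
  have hmv : m = v₀ * u ^ k := by rw [hv₀]; group
  have hukt : u ^ k * t = t * u ^ k := ((Commute.pow_left (show Commute u t from hut) k)).eq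
  have hcuZ : Reg.cu t m ∈ Z := by
    have hz : ⁅v₀⁻¹, t⁻¹⁆ ∈ Z := c.comm_mem_Z _ (V.inv_mem hv₀V) _
    have e1 : Reg.cu t m = (u ^ k)⁻¹ * v₀⁻¹ * t⁻¹ * v₀ * (u ^ k * t) := by
      unfold Reg.cu; rw [hmv]; group
    have e2 : (u ^ k)⁻¹ * v₀⁻¹ * t⁻¹ * v₀ * (t * u ^ k) = (u ^ k)⁻¹ * ⁅v₀⁻¹, t⁻¹⁆ * u ^ k := by
      rw [commutatorElement_def]; group
    rw [e1, hukt, e2]
    have hzc := Subgroup.mem_center_iff.mp hz.2 (u ^ k)⁻¹
    rw [hzc, mul_assoc, inv_mul_cancel, mul_one]
    exact hz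
  have hcv1 : Reg.cv t m = 1 := by
    unfold Reg.cv
    have h1 : Reg.cu t m * t = t * Reg.cu t m := (Subgroup.mem_center_iff.mp hcuZ.2 t).symm
    rw [mul_assoc, h1]; group
  have hm31 : m ^ 3 = 1 := by rw [hm3, hcv1, inv_one]
  have hmV : m ∈ V := c.mem_V m hmM hm31
  have ht'E : t' ∈ E := by
    rw [← htm]
    exact E.mul_mem htE (le_sup_left (b := Subgroup.zpowers t) hmV)
  -- conjugation by g preserves E
  intro e he
  have hK : E ≤ E.comap (MulAut.conj g).toMonoidHom := by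
    apply sup_le
    · intro v hv
      rw [Subgroup.mem_comap]
      show g * v * g⁻¹ ∈ E
      exact le_sup_left (b := Subgroup.zpowers t) (c.hVn.conj_mem v hv g)
    · rw [Subgroup.zpowers_le, Subgroup.mem_comap]
      exact ht'E
  exact hK he

end Ctx

end Cfsg.Agent.Lib.Helper1.Blk
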