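import Mathlib
import Cfsg.Agent.Lib.Helper1.Blk11
set_option autoImplicit false
set_option maxHeartbeats 4000000
set_option linter.unusedVariables false
set_option linter.unusedSectionVars false
set_option linter.style.longLine false
set_option linter.unusedSimpArgs false
set_option linter.deprecated false
set_option linter.style.haveILetI false
open scoped commutatorElement Pointwise
universe u v
namespace Cfsg.Agent.Lib.Helper1.Blk

open Cfsg Cfsg.Agent.Lib.Helper1 Cfsg.Agent.Lib.Helper2 Cfsg.Agent.Lib.Helper3 Cfsg.Agent.Lib.Helper4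

variable {G : Type u} [Group G] [Finite G]

namespace Ctx

variable {V : Subgroup G} (c : Ctx G V)

section caseii

variable (hV3 : ∀ x : G, x ^ 3 = 1 → x ∈ V) (Z : Subgroup G) [hZn : Z.Normal]
  (hZ : Z = V ⊓ Subgroup.center G)

include c hV3 hZ in
/-- the quotient by `Z = V ∩ Z(G)` still has rank at most two -/
theorem rank_quot : PRankLE 3 2 (G ⧸ Z) := by
  intro Ab hAbc hAbe
  set f := QuotientGroup.mk' Z with hf
  have hfs : Function.Surjective f := QuotientGroup.mk'_surjective Z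
  have hker : f.ker = Z := QuotientGroup.ker_mk' Z
  have hZcard : Nat.card ↥Z = 3 := by rw [hZ]; exact c.card_Z
  have hZc : Z ≤ Subgroup.center G := by rw [hZ]; exact inf_le_right
  have hZV : Z ≤ V := by rw [hZ]; exact inf_le_left
  set A := Ab.comap f with hA
  have hAcard : Nat.card ↥A = Nat.card ↥Ab * 3 := by
    rw [hA, QR.card_comap_surj f hfs Ab, hker, hZcard]
  have hcube : ∀ a ∈ A, a ^ 3 ∈ Z := by
    intro a ha
    have h1 : f a ∈ Ab := ha
    have h2 : (f a) ^ 3 = 1 := hAbe _ h1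
    rw [← map_pow, ← MonoidHom.mem_ker, hker] at h2
    exact h2
  have hmul : ∀ a ∈ A, ∀ b ∈ A, (a * b) ^ 3 = a ^ 3 * b ^ 3 := by
    intro a ha b hb
    have hab : f a * f b = f b * f a := by
      have := hAbc.is_comm.comm (⟨f a, ha⟩ : ↥Ab) ⟨f b, hb⟩
      exact congrArg Subtype.val this
    set k := b * a * b⁻¹ * a⁻¹ with hk
    have hkZ : k ∈ Z := by
      rw [← hker, MonoidHom.mem_ker, hk]
      simp only [map_mul, map_inv]
      rw [← hab]; group
    have hkc := Subgroup.mem_center_iff.mp (hZc hkZ)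
    apply mul_pow_prime_of_central_commutator (p := 3) (by norm_num) (by norm_num) (c := k)
    · rw [hk]; group
    · exact (hkc a).symm
    · exact (hkc b).symm
    · exact c.hVexp k (hZV hkZ)
  let φ : ↥A →* ↥Z :=
    { toFun := fun a => ⟨(a : G) ^ 3, hcube a a.2⟩
      map_one' := by apply Subtype.ext; simp
      map_mul' := fun a b => by
        apply Subtype.ext
        simp only [Subgroup.coe_mul]
        exact hmul a a.2 b b.2 }
  have hrange : Nat.card (↥A ⧸ φ.ker) ≤ 3 := by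
    rw [Nat.card_congr (QuotientGroup.quotientKerEquivRange φ).toEquiv, ← hZcard]
    exact Nat.card_le_card_of_injective (fun y => (y : ↥Z)) Subtype.val_injective
  have hkerle : Nat.card ↥φ.ker ≤ 9 := by
    have h9 : Nat.card ↥V = 9 := by rw [c.hV9]; norm_num
    rw [← h9]
    let ι : ↥φ.ker → ↥V := fun g => ⟨((g : ↥A) : G), by
      apply hV3
      have h1 : φ (g : ↥A) = 1 := g.2
      exact congrArg Subtype.val h1⟩
    apply Nat.card_le_card_of_injective ι
    intro a b hab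
    have := congrArg Subtype.val hab
    exact Subtype.ext (Subtype.ext this)
  have hAle : Nat.card ↥A ≤ 27 := by
    rw [Subgroup.card_eq_card_quotient_mul_card_subgroup φ.ker]
    calc _ ≤ 3 * 9 := Nat.mul_le_mul hrange hkerle
      _ = 27 := by norm_num
  rw [hAcard] at hAle
  norm_num
  omega

include c hV3 in
/-- a generator of `Z` is a cube -/
theorem exists_cube : ∃ g : G, g ^ 3 ∈ V ⊓ Subgroup.center G ∧ g ^ 3 ≠ 1 := by
  haveI := c.M_normal
  set M := Subgroup.centralizer (V : Set G) with hM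
  by_cases hMV : M = V
  · obtain ⟨t, ht⟩ := c.exists_not_mem
    refine ⟨t, ?_, ?_⟩
    · have h1 : t ^ 3 ∈ V := by
        have := c.pow_mem_M t
        rw [← hM, hMV] at this
        exact this
      exact c.mem_Z_of_comm t ht (t ^ 3) h1 (by rw [← pow_succ, ← pow_succ'])
    · intro h
      exact ht (c.V_le_M (hV3 t h))
  · have hlt : V < M := lt_of_le_of_ne c.V_le_M (fun h => hMV h.symm)
    obtain ⟨m, hmM, hmV⟩ := SetLike.exists_of_lt hlt
    have hm3 : m ^ 3 ≠ 1 := fun h => hmV (c.mem_V m hmM h)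
    set ℧ := powerClosure 3 1 M with h℧
    haveI : ℧.Normal := Reg.powerClosure_normal 3 1 M
    have hne : ℧ ≠ ⊥ := by
      intro h
      apply hm3
      have : m ^ 3 ^ 1 ∈ ℧ := QR.pow_mem_powerClosure 1 hmM
      rw [h, Subgroup.mem_bot, pow_one] at this
      exact this
    haveI : Group.IsNilpotent G := c.hG.isNilpotent
    have hne2 := normal_inf_center_ne_bot ℧ hne
    have hlt2 : (⊥ : Subgroup G) < ℧ ⊓ Subgroup.center G := bot_lt_iff_ne_bot.mpr hne2
    obtain ⟨w, hwD, hw1, hw3⟩ := exists_pow_mem_not_mem c.hG ⊥ _ hlt2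
    rw [Subgroup.mem_bot] at hw1 hw3
    obtain ⟨g, hgM, hg⟩ := QR.exists_pow_eq_of_mem_powerClosure c.regM hwD.1
    refine ⟨g, ?_, ?_⟩
    · rw [← hg]; exact ⟨hV3 w hw3, hwD.2⟩
    · rw [← hg]; exact hw1

include c hV3 hZ in
/-- metacyclicity lifts from `G ⧸ Z` to `G` -/
theorem lift_meta (hQ : IsMetacyclic (G ⧸ Z)) : IsMetacyclic G := by
  obtain ⟨g, hgZ, hg1⟩ := c.exists_cube hV3
  have hZcard : Nat.card ↥Z = 3 := by rw [hZ]; exact c.card_Z
  rw [← hZ] at hgZ
  have hZg : Subgroup.zpowers (g ^ 3) = Z := BK.zpowers_eq_of_card_prime hZcard hgZ hg1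
  set ℧ := powerClosure 3 1 (⊤ : Subgroup G) with h℧
  have hZle : Z ≤ ℧ := by
    rw [← hZg, Subgroup.zpowers_le]
    have : g ^ 3 ^ 1 ∈ ℧ := QR.pow_mem_powerClosure 1 (Subgroup.mem_top g)
    rwa [pow_one] at this
  set f := QuotientGroup.mk' Z with hf
  have hfs : Function.Surjective f := QuotientGroup.mk'_surjective Z
  have hmap : ℧.map f = powerClosure 3 1 (⊤ : Subgroup (G ⧸ Z)) := by
    rw [h℧, QR.powerClosure_map f 1 ⊤, Subgroup.map_top_of_surjective f hfs]
  have hidx : (℧.map f).index = ℧.index :=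
    Subgroup.index_map_eq _ hfs (by rw [QuotientGroup.ker_mk']; exact hZle)
  have h9 := index_powerClosure_le_of_metacyclic (p := 3) hQ
  rw [← hmap, hidx] at h9
  exact Metacyc.huppert (by norm_num) c.hG h9

include c hZ in
/-- maximal class lifts from `G ⧸ Z` to `G` -/
theorem lift_max (n' : ℕ) (hn' : 2 ≤ n') (hcard : Nat.card (G ⧸ Z) = 3 ^ n')
    (hmax : (⊤ : Subgroup (G ⧸ Z)).lowerCentralSeries (n' - 2) ≠ ⊥) :
    (⊤ : Subgroup G).lowerCentralSeries (n' - 1) ≠ ⊥ := by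
  set f := QuotientGroup.mk' Z with hf
  have hfs : Function.Surjective f := QuotientGroup.mk'_surjective Z
  have hker : f.ker = Z := QuotientGroup.ker_mk' Z
  have hZcard : Nat.card ↥Z = 3 := by rw [hZ]; exact c.card_Z
  intro hbot
  rcases Nat.lt_or_ge n' 3 with hlt | hge
  · have h2 : n' = 2 := by omega
    subst h2
    rw [show 2 - 1 = 0 + 1 from rfl, Subgroup.lowerCentralSeries_succ,
      Subgroup.commutator_eq_bot_iff_le_centralizer, Subgroup.lowerCentralSeries_zero,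
      Subgroup.coe_top, Subgroup.centralizer_univ] at hbot
    obtain ⟨t, ht⟩ := c.exists_not_mem
    apply ht
    rw [Subgroup.mem_centralizer_iff]
    intro v hv
    exact (Subgroup.mem_center_iff.mp (hbot (Subgroup.mem_top v)) t).symm
  · have hcen := card_center_of_maxclass (p := 3) n' hge (G ⧸ Z) hcard hmax
    have hVmap_le : V.map f ≤ Subgroup.center (G ⧸ Z) := by
      rintro _ ⟨v, hv, rfl⟩
      rw [Subgroup.mem_center_iff]
      intro q
      obtain ⟨g, rfl⟩ := hfs q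
      have h1 : ⁅v, g⁆ ∈ Z := by rw [hZ]; exact c.comm_mem_Z v hv g
      have h2 : f ⁅v, g⁆ = 1 := by rw [← MonoidHom.mem_ker, hker]; exact h1
      rw [map_commutatorElement, commutatorElement_eq_one_iff_mul_comm] at h2
      exact h2.symm
    have hVmap_card : Nat.card ↥(V.map f) = 3 := by
      have h1 := QR.card_eq_card_map_mul f V
      have h2 : V ⊓ f.ker = Z := by rw [hker, hZ]; exact inf_eq_right.mpr inf_le_left
      rw [h2, hZcard, c.hV9] at h1
      have h3 : (3 : ℕ) ^ 2 = 9 := by norm_num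
      rw [h3] at h1
      omega
    have hVmap : V.map f = Subgroup.center (G ⧸ Z) :=
      Subgroup.eq_of_le_of_card_ge hVmap_le (by rw [hcen, hVmap_card])
    have hcenle : Subgroup.center G ≤ Z := by
      intro z hz
      have h1 : f z ∈ Subgroup.center (G ⧸ Z) := by
        rw [Subgroup.mem_center_iff]
        intro q
        obtain ⟨g, rfl⟩ := hfs q
        rw [← map_mul, ← map_mul, Subgroup.mem_center_iff.mp hz g]
      rw [← hVmap] at h1
      obtain ⟨v, hv, hvz⟩ := h1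
      have h2 : v⁻¹ * z ∈ Z := by
        rw [← hker, MonoidHom.mem_ker, map_mul, map_inv, hvz, inv_mul_cancel]
      have hzV : z ∈ V := by
        have : z = v * (v⁻¹ * z) := by group
        rw [this]
        exact V.mul_mem hv (by rw [hZ] at h2; exact h2.1)
      rw [hZ]; exact ⟨hzV, hz⟩
    have hsub : n' - 1 = (n' - 2) + 1 := by omega
    rw [hsub, Subgroup.lowerCentralSeries_succ, Subgroup.commutator_eq_bot_iff_le_centralizer] at hbot
    have hle : (⊤ : Subgroup G).lowerCentralSeries (n' - 2) ≤ Z := by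
      intro y hy
      have := hbot hy
      rw [Subgroup.coe_top, Subgroup.centralizer_univ] at this
      exact hcenle this
    apply hmax
    rw [← lcs_map f hfs (n' - 2), eq_bot_iff]
    rintro _ ⟨y, hy, rfl⟩
    rw [Subgroup.mem_bot, ← MonoidHom.mem_ker, hker]
    exact hle hy

include c hZ in
/-- a normal subgroup of order `27` and exponent `3` in `G ⧸ Z` forces an element with small
centralizer there -/
theorem no_E (hrkQ : PRankLE 3 2 (G ⧸ Z)) (Eb : Subgroup (G ⧸ Z)) [hEbn : Eb.Normal]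
    (hEb3 : Nat.card Eb = 3 ^ 3) (hEbexp : ∀ x ∈ Eb, x ^ 3 = 1) :
    ∃ x : G ⧸ Z, Nat.card ↥(Subgroup.centralizer ({x} : Set (G ⧸ Z))) ≤ 3 ^ 2 := by
  set f := QuotientGroup.mk' Z with hf
  have hfs : Function.Surjective f := QuotientGroup.mk'_surjective Z
  have hker : f.ker = Z := QuotientGroup.ker_mk' Z
  have hZcard : Nat.card ↥Z = 3 := by rw [hZ]; exact c.card_Z
  have hZcen : Z ≤ Subgroup.center G := by rw [hZ]; exact inf_le_right
  have hZV : Z ≤ V := by rw [hZ]; exact inf_le_left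
  set M := Subgroup.centralizer (V : Set G) with hM
  have hQ : IsPGroup 3 (G ⧸ Z) := c.hG.to_quotient Z
  obtain ⟨hnc, hZ1, hZc, hcomm, ⟨A₀, hA₀n, hZA, hAE, hA2⟩, hCZ, hcyc⟩ :=
    structE (p := 3) (by norm_num) hQ hrkQ Eb hEb3 hEbexp
  haveI := hA₀n
  have hlt : A₀ < Eb := lt_of_le_of_ne hAE (by
    intro h; rw [h, hEb3] at hA2; norm_num at hA2)
  obtain ⟨x₀, hx₀, hx₀A⟩ := SetLike.exists_of_lt hlt
  have hcx := card_centralizer_x0_le (p := 3) (by norm_num) hQ hrkQ Eb hEb3 hEbexp A₀ hAE hA2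
    x₀ hx₀ hx₀A
  refine ⟨x₀, ?_⟩
  obtain ⟨z, k, hCz, hCcard, hzord, hzne, hzp, hZz⟩ :=
    exists_gen_C (p := 3) (by norm_num) hQ hrkQ Eb hEb3 hEbexp
  suffices hk : k = 0 by
    rw [hCcard, hk] at hcx
    norm_num at hcx ⊢
    exact hcx
  by_contra hk
  obtain ⟨j, rfl⟩ : ∃ j, k = j + 1 := ⟨k - 1, by omega⟩
  set cb := z ^ 3 ^ j with hcb
  have hcb3 : cb ^ 3 = z ^ 3 ^ (j + 1) := by rw [hcb, ← pow_mul, ← pow_succ]
  have hcbC : cb ∈ Subgroup.centralizer (Eb : Set (G ⧸ Z)) := by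
    rw [hCz]; exact Subgroup.pow_mem _ (Subgroup.mem_zpowers z) _
  have hVb_cen : ∀ v ∈ V, f v ∈ Subgroup.center (G ⧸ Z) := by
    intro v hv
    rw [Subgroup.mem_center_iff]
    intro q
    obtain ⟨g, rfl⟩ := hfs q
    have h1 : ⁅v, g⁆ ∈ Z := by rw [hZ]; exact c.comm_mem_Z v hv g
    have h2 : f ⁅v, g⁆ = 1 := by rw [← MonoidHom.mem_ker, hker]; exact h1
    rw [map_commutatorElement, commutatorElement_eq_one_iff_mul_comm] at h2
    exact h2.symm
  have hVb : ∀ v ∈ V, f v ∈ Eb ⊓ Subgroup.centralizer (Eb : Set (G ⧸ Z)) := by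
    intro v hv
    apply hCZ
    · exact Subgroup.center_le_centralizer _ (hVb_cen v hv)
    · rw [← map_pow, c.hVexp v hv, map_one]
  obtain ⟨v₁, hv₁V, hv₁Z⟩ : ∃ v₁ ∈ V, v₁ ∉ Z := by
    have hlt : Z < V := lt_of_le_of_ne hZV (by
      intro h; have := c.hV9; rw [← h, hZcard] at this; norm_num at this)
    exact SetLike.exists_of_lt hlt
  have hfv₁ : f v₁ ≠ 1 := by
    intro h; apply hv₁Z; rw [← hker]; exact h
  have hZz' : Subgroup.zpowers (f v₁) = Eb ⊓ Subgroup.centralizer (Eb : Set (G ⧸ Z)) :=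
    BK.zpowers_eq_of_card_prime hZ1 (hVb v₁ hv₁V) hfv₁
  have hcb3mem : cb ^ 3 ∈ Subgroup.zpowers (f v₁) := by
    rw [hZz', hZz, hcb3]; exact Subgroup.mem_zpowers _
  obtain ⟨i, hi⟩ := exists_nat_pow_of_mem_zpowers hcb3mem
  obtain ⟨c₁, hc₁⟩ := hfs cb
  have hc₁3 : c₁ ^ 3 ∈ V := by
    have h1 : f (c₁ ^ 3) = f (v₁ ^ i) := by rw [map_pow, map_pow, hc₁, hi]
    have h2 : (v₁ ^ i)⁻¹ * c₁ ^ 3 ∈ Z := by
      rw [← hker, MonoidHom.mem_ker, map_mul, map_inv, h1, inv_mul_cancel]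
    have : c₁ ^ 3 = v₁ ^ i * ((v₁ ^ i)⁻¹ * c₁ ^ 3) := by group
    rw [this]; exact V.mul_mem (V.pow_mem hv₁V i) (hZV h2)
  have hc₁3Z : c₁ ^ 3 ∉ Z := by
    intro h
    rw [← hker, MonoidHom.mem_ker, map_pow, hc₁, hcb3] at h
    exact hzne h
  have hc₁M : c₁ ∈ M := mem_centralizer_of_comm c.hG Z V hZV hZcard c.hV9 hZcen (c₁ ^ 3) hc₁3
    hc₁3Z c₁ (by rw [← pow_succ', ← pow_succ])
  obtain ⟨t, htE, htM⟩ : ∃ t, f t ∈ Eb ∧ t ∉ M := by
    by_contra hcon
    push_neg at hcon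
    have hle : Eb ≤ M.map f := by
      intro e he
      obtain ⟨t, rfl⟩ := hfs e
      exact ⟨t, hcon t he, rfl⟩
    have hmM : IsMetacyclic ↥(M.map f) :=
      Metacyc.isMetacyclic_of_surjective (f.subgroupMap M) (f.subgroupMap_surjective M) c.metaM
    have hmE : IsMetacyclic ↥Eb := GE.isMetacyclic_of_le hle hmM
    obtain ⟨N, hNn, hNc, hQc⟩ := hmE
    haveI := hNn; haveI := hNc; haveI := hQc
    have := card_le_sq_of_metacyclic (p := 3) (by norm_num) N (⊤ : Subgroup ↥Eb) (fun k _ => by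
      apply Subtype.ext; rw [Subgroup.coe_pow]; exact hEbexp k k.2)
    rw [Subgroup.card_top, hEb3] at this
    norm_num at this
  have ht3 : t ^ 3 ∈ Z := by
    rw [← hker, MonoidHom.mem_ker, map_pow]; exact hEbexp _ htE
  have hcomm_tc : f t * f c₁ = f c₁ * f t := by
    rw [hc₁]
    exact (Subgroup.mem_centralizer_iff.mp hcbC (f t) htE)
  set k₀ := c₁ * t * c₁⁻¹ * t⁻¹ with hk₀
  have hk₀Z : k₀ ∈ Z := by
    rw [← hker, MonoidHom.mem_ker, hk₀]; simp only [map_mul, map_inv]; rw [← hcomm_tc]; group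
  have hk₀c := Subgroup.mem_center_iff.mp (hZcen hk₀Z)
  have hpow : (t * c₁) ^ 3 = t ^ 3 * c₁ ^ 3 := by
    apply mul_pow_prime_of_central_commutator (p := 3) (by norm_num) (by norm_num) (c := k₀)
    · rw [hk₀]; group
    · exact (hk₀c t).symm
    · exact (hk₀c c₁).symm
    · exact c.hVexp k₀ (hZV hk₀Z)
  have h1 : (t * c₁) ^ 3 ∈ V := by rw [hpow]; exact V.mul_mem (hZV ht3) hc₁3
  have h2 : (t * c₁) ^ 3 ∉ Z := by
    intro h
    apply hc₁3Z
    have : c₁ ^ 3 = (t ^ 3)⁻¹ * (t * c₁) ^ 3 := by rw [hpow]; group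
    rw [this]; exact Z.mul_mem (Z.inv_mem ht3) h
  have h3 : t * c₁ ∈ M := mem_centralizer_of_comm c.hG Z V hZV hZcard c.hV9 hZcen ((t * c₁) ^ 3) h1
    h2 (t * c₁) (by rw [← pow_succ', ← pow_succ])
  apply htM
  have : t = (t * c₁) * c₁⁻¹ := by group
  rw [this]; exact M.mul_mem h3 (M.inv_mem hc₁M)

end caseii

end Ctx

end Cfsg.Agent.Lib.Helper1.Blk
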