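import Mathlib
import Cfsg.Agent.Lib.Helper1.Blk12
import Cfsg.Agent.Lib.Helper4.HallRegApp
import Cfsg.Agent.Lib.Helper4.RegOmega
import Cfsg.Agent.Lib.Helper1.Rk4
set_option autoImplicit false
set_option maxHeartbeats 4000000
set_option linter.unusedVariables false
set_option linter.unusedSectionVars false
set_option linter.style.longLine false
set_option linter.unusedSimpArgs false
set_option linter.deprecated false
set_option linter.style.haveILetI false
open scoped commutatorElement Pointwise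
universe u v
namespace Cfsg.Agent.Lib.Helper1.Blk

open Cfsg Cfsg.Agent.Lib.Helper1 Cfsg.Agent.Lib.Helper2 Cfsg.Agent.Lib.Helper3 Cfsg.Agent.Lib.Helper4

/-- the case `p = 3`: metacyclic, or a normal subgroup of order `27` and exponent `3`, or maximal
class -/
theorem main3_aux : ∀ (m : ℕ) (G : Type u) [Group G] [Finite G], Nat.card G = m → IsPGroup 3 G →
    PRankLE 3 2 G →
    IsMetacyclic G ∨ (∃ E : Subgroup G, E.Normal ∧ Nat.card E = 3 ^ 3 ∧ ∀ x ∈ E, x ^ 3 = 1) ∨
    (∃ n, Nat.card G = 3 ^ n ∧ 2 ≤ n ∧ (⊤ : Subgroup G).lowerCentralSeries (n - 2) ≠ ⊥) := by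
  intro m
  induction m using Nat.strong_induction_on with
  | _ m ih =>
  intro G _ _ hcard hG hrk
  by_cases hcyc : IsCyclic G
  · exact Or.inl (isMetacyclic_of_isCyclic hcyc)
  obtain ⟨V, hVn, hV9, hVexp⟩ := exists_normal_elementary_sq (p := 3) (by norm_num) hG hcyc
  haveI := hVn
  have hdvd := index_centralizer_dvd_prime hG V hV9
  rcases (Nat.dvd_prime Nat.prime_three).mp hdvd with h1 | h3
  · left
    have hMtop : Subgroup.centralizer (V : Set G) = ⊤ := Subgroup.index_eq_one.mp h1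
    have hVc : V ≤ Subgroup.center G := Subgroup.centralizer_eq_top_iff_subset.mp hMtop
    apply lemmaA hG V hVc (by rw [hV9]; norm_num)
    intro x hx
    refine mem_of_centralizes (p := 3) hrk V ?_ hVexp hV9 x (by rw [hMtop]; trivial) hx
    intro a ha b hb
    exact (Subgroup.mem_center_iff.mp (hVc ha) b).symm
  · have c : Ctx G V := ⟨hG, hrk, hVn, hV9, hVexp, h3⟩
    obtain ⟨n, hn⟩ := IsPGroup.iff_card.mp hG
    have hn2 : 2 ≤ n := by
      have h1 := Subgroup.card_le_card_group V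
      rw [hV9, hn] at h1
      exact (Nat.pow_le_pow_iff_right (by norm_num)).mp h1
    by_cases hex : ∃ t, t ∉ Subgroup.centralizer (V : Set G) ∧ t ^ 3 = 1
    · obtain ⟨t, ht, ht3⟩ := hex
      rcases c.case_i t ht ht3 with hE | hcen
      · exact Or.inr (Or.inl hE)
      · right; right
        exact ⟨n, hn, hn2, lcs_ne_bot_of_card_centralizer_le n hn2 G hn ⟨t, hcen⟩⟩
    · push_neg at hex
      have hV3 : ∀ x : G, x ^ 3 = 1 → x ∈ V := by
        intro x hx
        by_cases hxM : x ∈ Subgroup.centralizer (V : Set G)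
        · exact c.mem_V x hxM hx
        · exact absurd hx (hex x hxM)
      obtain ⟨Z, hZ⟩ : ∃ Z : Subgroup G, Z = V ⊓ Subgroup.center G := ⟨_, rfl⟩
      haveI hZn : Z.Normal := by rw [hZ]; exact c.Z_normal
      have hZcard : Nat.card ↥Z = 3 := by rw [hZ]; exact c.card_Z
      have hrkQ := c.rank_quot hV3 Z hZ
      have hQcard : Nat.card (G ⧸ Z) * 3 = Nat.card G := by
        rw [← hZcard]; exact (Subgroup.card_eq_card_quotient_mul_card_subgroup Z).symm
      have hQ : IsPGroup 3 (G ⧸ Z) := hG.to_quotient Z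
      have key : ∀ n' : ℕ, 2 ≤ n' → Nat.card (G ⧸ Z) = 3 ^ n' →
          (⊤ : Subgroup (G ⧸ Z)).lowerCentralSeries (n' - 2) ≠ ⊥ →
          ∃ n, Nat.card G = 3 ^ n ∧ 2 ≤ n ∧ (⊤ : Subgroup G).lowerCentralSeries (n - 2) ≠ ⊥ := by
        intro n' hn'2 hn' hmax
        refine ⟨n' + 1, ?_, by omega, ?_⟩
        · rw [← hQcard, hn', pow_succ]
        · have := c.lift_max Z hZ n' hn'2 hn' hmax
          rw [show n' + 1 - 2 = n' - 1 by omega]
          exact this
      have hpos : 0 < Nat.card (G ⧸ Z) := Nat.card_pos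
      rcases ih (Nat.card (G ⧸ Z)) (by omega) (G ⧸ Z) rfl hQ hrkQ with
        hm | ⟨Eb, hEbn, hEb3, hEbexp⟩ | ⟨n', hn', hn'2, hmax⟩
      · exact Or.inl (c.lift_meta hV3 Z hZ hm)
      · right; right
        haveI := hEbn
        obtain ⟨x, hx⟩ := c.no_E Z hZ hrkQ Eb hEb3 hEbexp
        obtain ⟨n', hn'⟩ := IsPGroup.iff_card.mp hQ
        have hn'2 : 2 ≤ n' := by
          have h1 := Subgroup.card_le_card_group Eb
          rw [hEb3, hn'] at h1
          have := (Nat.pow_le_pow_iff_right (by norm_num)).mp h1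
          omega
        exact key n' hn'2 hn' (lcs_ne_bot_of_card_centralizer_le n' hn'2 (G ⧸ Z) hn' ⟨x, hx⟩)
      · right; right
        exact key n' hn'2 hn' hmax

/-- the case `p ≥ 5` -/
theorem main5 {G : Type u} [Group G] [Finite G] {p : ℕ} [hp : Fact p.Prime] (hp3 : 3 < p)
    (hG : IsPGroup p G) (hrk : PRankLE p 2 G) :
    IsMetacyclic G ∨ (∃ E : Subgroup G, E.Normal ∧ Nat.card E = p ^ 3 ∧ ∀ x ∈ E, x ^ p = 1) := by
  have hp2 : p ≠ 2 := by omega
  have hreg : IsRegularPGroup p G := HallReg.regular_of_rank hp3 hG (fun E hE => hrk E hE.1 hE.2)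
  set Ω := omegaOne p (⊤ : Subgroup G) with hΩ
  have hΩn : Ω.Normal := GE.omegaOne_normal p ⊤
  have hΩexp : ∀ x ∈ Ω, x ^ p = 1 := fun x hx => (RegOmega.mem_omegaOne_top hreg x).mp hx
  have hle : Nat.card ↥Ω ≤ p ^ 3 := by
    apply Rk.card_le_cube_of_exponent_rank_two hp2 (hG.to_subgroup Ω)
    · intro x
      apply Subtype.ext
      rw [Subgroup.coe_pow]
      exact hΩexp x x.2
    · exact Rk.pRankLE_subgroup hrk Ω
  obtain ⟨k, hk⟩ := IsPGroup.iff_card.mp (hG.to_subgroup Ω)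
  have hk3 : k ≤ 3 := by
    rw [hk] at hle
    exact (Nat.pow_le_pow_iff_right hp.out.one_lt).mp hle
  by_cases hk' : k = 3
  · right
    exact ⟨Ω, hΩn, by rw [hk, hk'], hΩexp⟩
  · left
    apply Metacyc.metacyclic_of_omega hp3 hG
    rw [← hΩ, hk]
    exact Nat.pow_le_pow_right hp.out.pos (by omega)

/-- **Blackburn's theorem** on odd `p`-groups of rank at most two -/
theorem blackburn {G : Type u} [Group G] [Finite G] {p : ℕ} [hp : Fact p.Prime] (hp2 : p ≠ 2)
    (n : ℕ) (hcard : Nat.card G = p ^ n) (hrk : PRankLE p 2 G) :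
    IsMetacyclic G ∨
    (3 ≤ n ∧ ∃ x y z : G, Subgroup.closure ({x, y, z} : Set G) = ⊤ ∧ x ^ p = 1 ∧ y ^ p = 1 ∧
        z ^ p ^ (n - 2) = 1 ∧
        x * z = z * x ∧ y * z = z * y ∧ x⁻¹ * y * x = y * z ^ p ^ (n - 3)) ∨
    (4 ≤ n ∧ ∃ (s : ℕ) (x y z : G), (s = 1 ∨ ¬ IsSquare (s : ZMod p)) ∧
        Subgroup.closure ({x, y, z} : Set G) = ⊤ ∧
        x ^ p = 1 ∧ y ^ p = 1 ∧ z ^ p ^ (n - 2) = 1 ∧ y * z = z * y ∧
        x⁻¹ * y * x = y * z ^ (s * p ^ (n - 3)) ∧
        x⁻¹ * z * x = y * z) ∨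
    (p = 3 ∧ 2 ≤ n ∧ (⊤ : Subgroup G).lowerCentralSeries (n - 2) ≠ ⊥) := by
  have hG : IsPGroup p G := IsPGroup.of_card hcard
  have key : IsMetacyclic G ∨
      (∃ E : Subgroup G, E.Normal ∧ Nat.card E = p ^ 3 ∧ ∀ x ∈ E, x ^ p = 1) ∨
      (p = 3 ∧ 2 ≤ n ∧ (⊤ : Subgroup G).lowerCentralSeries (n - 2) ≠ ⊥) := by
    by_cases hp3 : p = 3
    · subst hp3
      rcases main3_aux _ G rfl hG hrk with h | h | ⟨n', hn', hn'2, hmax⟩
      · exact Or.inl h
      · exact Or.inr (Or.inl h)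
      · have : n' = n := Nat.pow_right_injective (by norm_num : 2 ≤ 3) (hn'.symm.trans hcard)
        subst this
        exact Or.inr (Or.inr ⟨rfl, hn'2, hmax⟩)
    · have hp5 : 3 < p := by
        have := hp.out.two_le
        omega
      rcases main5 hp5 hG hrk with h | h
      · exact Or.inl h
      · exact Or.inr (Or.inl h)
  rcases key with h | ⟨E, hEn, hE3, hEexp⟩ | h
  · exact Or.inl h
  · haveI := hEn
    by_cases htop : E ⊔ Subgroup.centralizer (E : Set G) = ⊤
    · exact Or.inr (Or.inl (family_b hp2 hG hrk E hE3 hEexp n hcard htop))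
    · exact Or.inr (Or.inr (Or.inl (family_c hp2 hG hrk E hE3 hEexp n hcard htop)))
  · exact Or.inr (Or.inr (Or.inr h))

end Cfsg.Agent.Lib.Helper1.Blk
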