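import Mathlib
import Cfsg.Agent.Lib.Helper1.Blk13
set_option autoImplicit false
set_option maxHeartbeats 4000000
set_option linter.unusedVariables false
set_option linter.unusedSectionVars false
set_option linter.style.longLine false
set_option linter.unusedSimpArgs false
set_option linter.deprecated false
set_option linter.style.haveILetI false
open scoped commutatorElement Pointwise
universe u v w
namespace Cfsg.Agent.Lib.Helper1.Blk

open Cfsg Cfsg.Agent.Lib.Helper1 Cfsg.Agent.Lib.Helper2 Cfsg.Agent.Lib.Helper3 Cfsg.Agent.Lib.Helper4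

namespace Act

variable {P : Type u} [Group P] {A : Type v} [Group A] (ρ : A →* MulAut P)

/-- the set of "commutators" `u⁻¹ · a(u)` of the action -/
def commSet : Set P := {w : P | ∃ (u : P) (a : A), w = u⁻¹ * ρ a u}

/-- a subgroup is invariant under the action -/
def Inv (H : Subgroup P) : Prop := ∀ (a : A) (u : P), u ∈ H → ρ a u ∈ H

theorem Inv.iff {H : Subgroup P} (h : Inv ρ H) (a : A) (u : P) : ρ a u ∈ H ↔ u ∈ H := by
  constructor
  · intro hu
    have := h a⁻¹ _ hu
    rwa [← MulAut.mul_apply, ← map_mul, inv_mul_cancel, map_one, MulAut.one_apply] at this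
  · exact h a u

/-- the norm argument: if `P = [P, A]`, `π` is a homomorphism with commutative image into a
`p`-group and `|A|` is prime to `p`, then an element whose image is fixed has trivial image -/
theorem norm_fixed [Finite A] {p : ℕ} [hp : Fact p.Prime] {Q : Type w} [Group Q]
    (hQ : IsPGroup p Q) (π : P →* Q) (hcomm : ∀ u v : P, π u * π v = π v * π u)
    (hcop : (Nat.card A).Coprime p)
    (hgen : Subgroup.closure (commSet ρ) = ⊤) (y : P) (hy : ∀ a : A, π (ρ a y) = π y) :
    π y = 1 := by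
  classical
  letI : Fintype A := Fintype.ofFinite A
  letI : CommGroup ↥π.range := { (inferInstance : Group ↥π.range) with
    mul_comm := by
      rintro ⟨_, u, rfl⟩ ⟨_, v, rfl⟩
      exact Subtype.ext (hcomm u v) }
  let φ : A → (P →* ↥π.range) := fun a =>
    (π.comp (ρ a).toMonoidHom).codRestrict π.range (fun u => ⟨ρ a u, rfl⟩)
  have hφ : ∀ a u, ((φ a u : ↥π.range) : Q) = π (ρ a u) := fun a u => rfl
  let ν : P →* ↥π.range := ∏ a : A, φ a
  have hν : ∀ u, ν u = ∏ a : A, φ a u := fun u => MonoidHom.finset_prod_apply _ _ _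
  have hinv : ∀ (a' : A) (u : P), ν (ρ a' u) = ν u := by
    intro a' u
    rw [hν, hν]
    apply Fintype.prod_equiv (Equiv.mulRight a')
    intro a
    apply Subtype.ext
    rw [hφ, hφ]
    simp [map_mul, MulAut.mul_apply]
  have hker : Subgroup.closure (commSet ρ) ≤ ν.ker := by
    rw [Subgroup.closure_le]
    rintro _ ⟨u, a, rfl⟩
    show ν (u⁻¹ * ρ a u) = 1
    rw [map_mul, map_inv, hinv, inv_mul_cancel]
  rw [hgen] at hker
  have h1 : ν y = 1 := hker (Subgroup.mem_top y)
  have h2 : ν y = (⟨π y, y, rfl⟩ : ↥π.range) ^ Fintype.card A := by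
    rw [hν]
    have : ∀ a ∈ (Finset.univ : Finset A), φ a y = (⟨π y, y, rfl⟩ : ↥π.range) := by
      intro a _
      apply Subtype.ext
      rw [hφ, hy]
    rw [Finset.prod_congr rfl this, Finset.prod_const, Finset.card_univ]
  rw [h2] at h1
  have h3 : (π y) ^ Fintype.card A = 1 := by
    have := congrArg Subtype.val h1
    simpa using this
  obtain ⟨k, hk⟩ := hQ (π y)
  have hcop' : (Fintype.card A).Coprime (p ^ k) := by
    rw [← Nat.card_eq_fintype_card]
    exact Nat.Coprime.pow_right k hcop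
  have h4 : orderOf (π y) ∣ Fintype.card A := orderOf_dvd_of_pow_eq_one h3
  have h5 : orderOf (π y) ∣ p ^ k := orderOf_dvd_of_pow_eq_one hk
  have h6 : orderOf (π y) = 1 := Nat.eq_one_of_dvd_coprimes hcop' h4 h5
  exact orderOf_eq_one_iff.mp h6

/-- abbreviation for the agemo subgroups of the whole group -/
abbrev PC (p : ℕ) (P : Type u) [Group P] (j : ℕ) : Subgroup P := powerClosure p j (⊤ : Subgroup P)

/-- **the metacyclic case**: a `p'`-group `A` with `P = [P, A]` fixes no nontrivial element -/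
theorem case_meta [Finite P] [Finite A] {p : ℕ} [hp : Fact p.Prime] (hp2 : p ≠ 2)
    (hP : IsPGroup p P) (hm : IsMetacyclic P) (hcop : (Nat.card A).Coprime p)
    (hgen : Subgroup.closure (commSet ρ) = ⊤) (x : P) (hx1 : x ≠ 1) (hfix : ∀ a, ρ a x = x) :
    False := by
  have hreg := regular_of_metacyclic hp2 hP hm
  have h0 : x ∈ PC p P 0 := by
    have := QR.pow_mem_powerClosure (p := p) 0 (Subgroup.mem_top x)
    simpa using this
  obtain ⟨m, hm'⟩ := IsPGroup.iff_card.mp hP
  have hbig : PC p P m = ⊥ := by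
    rw [eq_bot_iff]
    apply QR.powerClosure_le_of
    intro u _
    rw [Subgroup.mem_bot, ← hm']; exact pow_card_eq_one'
  have hex : ∃ j, x ∉ PC p P j := ⟨m, by rw [hbig, Subgroup.mem_bot]; exact hx1⟩
  classical
  have hj₀spec : x ∉ PC p P (Nat.find hex) := Nat.find_spec hex
  have hj₀pos : Nat.find hex ≠ 0 := by
    intro h; rw [h] at hj₀spec; exact hj₀spec h0
  obtain ⟨j, hj⟩ : ∃ j, Nat.find hex = j + 1 := ⟨Nat.find hex - 1, by omega⟩
  have hxj : x ∈ PC p P j := by
    by_contra h
    have := Nat.find_min' hex h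
    omega
  rw [hj] at hj₀spec
  obtain ⟨u₀, -, hu₀⟩ := Reg.exists_pow_of_mem_powerClosure_regular hreg ⊤ j x hxj
  haveI hn : (PC p P (j + 1)).Normal := Reg.powerClosure_normal p (j + 1) ⊤
  have hcomm1 : ∀ a b : P, ⁅a, b⁆ ∈ PC p P 1 := by
    haveI hn1 : (PC p P 1).Normal := Reg.powerClosure_normal p 1 ⊤
    intro a b
    have hidx := index_powerClosure_le_of_metacyclic (p := p) hm
    have hQ : IsPGroup p (P ⧸ PC p P 1) := hP.to_quotient _
    have hcard : Nat.card (P ⧸ PC p P 1) ≤ p ^ 2 := hidx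
    have hc := Metacyc.isMulCommutative_of_card_le_sq hQ hcard
    have : (QuotientGroup.mk' (PC p P 1)) ⁅a, b⁆ = 1 := by
      rw [map_commutatorElement, commutatorElement_eq_one_iff_mul_comm]
      exact hc.is_comm.comm _ _
    rwa [QuotientGroup.mk'_apply, QuotientGroup.eq_one_iff] at this
  have hdpow : ∀ d ∈ commutator P, d ^ p ^ j ∈ PC p P (j + 1) := by
    intro d hd
    have hd1 : d ∈ PC p P 1 := by
      rw [commutator_def] at hd
      refine (Subgroup.commutator_le.mpr ?_) hd
      intro a _ b _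
      exact hcomm1 a b
    obtain ⟨w, hw⟩ := (RegOmega.mem_powerClosure_top hreg d).mp hd1
    rw [hw, ← pow_mul, ← pow_succ']
    exact QR.pow_mem_powerClosure (j + 1) (Subgroup.mem_top w)
  have hpc : powerClosure p j (commutator P) ≤ PC p P (j + 1) := QR.powerClosure_le_of j hdpow
  have hmul : ∀ u v : P, (QuotientGroup.mk' (PC p P (j + 1))) ((u * v) ^ p ^ j) =
      (QuotientGroup.mk' (PC p P (j + 1))) (u ^ p ^ j) *
        (QuotientGroup.mk' (PC p P (j + 1))) (v ^ p ^ j) := by
    intro u v
    obtain ⟨c, hc, hcuv⟩ := hreg.2 u v j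
    have hc' : c ∈ PC p P (j + 1) := by
      apply hpc
      refine QR.powerClosure_mono j ?_ hc
      rw [commutator_def]
      exact Subgroup.commutator_mono le_top le_top
    rw [hcuv, map_mul, map_mul]
    have : (QuotientGroup.mk' (PC p P (j + 1))) c = 1 := by
      rw [QuotientGroup.mk'_apply, QuotientGroup.eq_one_iff]; exact hc'
    rw [this, mul_one]
  let π : P →* P ⧸ PC p P (j + 1) :=
    { toFun := fun u => (QuotientGroup.mk' (PC p P (j + 1))) (u ^ p ^ j)
      map_one' := by simp
      map_mul' := hmul }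
  have hπ : ∀ u, π u = (QuotientGroup.mk' (PC p P (j + 1))) (u ^ p ^ j) := fun u => rfl
  have hπcomm : ∀ u v : P, π u * π v = π v * π u := by
    intro u v
    rw [← map_mul, ← map_mul]
    have hd : v * u = u * v * ⁅v⁻¹, u⁻¹⁆ := by rw [commutatorElement_def]; group
    rw [hd, map_mul π (u * v)]
    have : π ⁅v⁻¹, u⁻¹⁆ = 1 := by
      rw [hπ, QuotientGroup.mk'_apply, QuotientGroup.eq_one_iff]
      exact hdpow _ (Subgroup.commutator_mem_commutator (Subgroup.mem_top _) (Subgroup.mem_top _))
    rw [this, mul_one]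
  have hQ : IsPGroup p (P ⧸ PC p P (j + 1)) := hP.to_quotient _
  have hy : ∀ a : A, π (ρ a u₀) = π u₀ := by
    intro a
    rw [hπ, hπ, ← map_pow (ρ a), ← hu₀, hfix]
  have := norm_fixed ρ hQ π hπcomm hcop hgen u₀ hy
  rw [hπ, ← hu₀, QuotientGroup.mk'_apply, QuotientGroup.eq_one_iff] at this
  exact hj₀spec this

end Act

end Cfsg.Agent.Lib.Helper1.Blk
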