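import Mathlib
import Cfsg.Agent.Lib.Helper1.Blk14
import Cfsg.Agent.Lib.Helper1.FrattiniP
set_option autoImplicit false
set_option maxHeartbeats 4000000
set_option linter.unusedVariables false
set_option linter.unusedSectionVars false
set_option linter.style.longLine false
set_option linter.unusedSimpArgs false
set_option linter.deprecated false
set_option linter.style.haveILetI false
open scoped commutatorElement Pointwise
universe u v w
namespace Cfsg.Agent.Lib.Helper1.Blk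

open Cfsg Cfsg.Agent.Lib.Helper1 Cfsg.Agent.Lib.Helper2 Cfsg.Agent.Lib.Helper3 Cfsg.Agent.Lib.Helper4

/-- a nonabelian group of order `p³` and exponent `p` is extraspecial -/
theorem extraspecial_of_card_cube {P : Type u} [Group P] [Finite P] {p : ℕ} [hp : Fact p.Prime]
    (hcard : Nat.card P = p ^ 3) (hnc : ¬ ∀ a b : P, a * b = b * a) (hexp : ∀ y : P, y ^ p = 1) :
    IsExtraspecial p P := by
  have hP : IsPGroup p P := IsPGroup.of_card hcard
  have hZ := BK.card_center_of_card_cube hcard hnc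
  have hcz : commutator P ≤ Subgroup.center P := by
    rw [commutator_def, Subgroup.commutator_le]
    intro a _ b _
    exact BK.comm_mem_center_of_card_cube hcard a b
  have hcne : commutator P ≠ ⊥ := by
    intro h
    apply hnc
    intro a b
    have : ⁅a, b⁆ ∈ commutator P :=
      Subgroup.commutator_mem_commutator (Subgroup.mem_top a) (Subgroup.mem_top b)
    rw [h, Subgroup.mem_bot, commutatorElement_eq_one_iff_mul_comm] at this
    exact this
  have hceq : commutator P = Subgroup.center P := by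
    obtain ⟨g, hg1⟩ := (Subgroup.ne_bot_iff_exists_ne_one).mp hcne
    have hg' : (g : P) ∈ Subgroup.center P := hcz g.2
    have h1 : Subgroup.zpowers (g : P) = Subgroup.center P :=
      BK.zpowers_eq_of_card_prime hZ hg' (fun h => hg1 (Subtype.ext h))
    apply le_antisymm hcz
    rw [← h1, Subgroup.zpowers_le]
    exact g.2
  refine ⟨⟨hP, ?_, hceq⟩, hZ⟩
  apply le_antisymm
  · apply frattini_le_of_elementary_quotient p (Subgroup.center P) hcz
    intro y
    rw [hexp y]; exact Subgroup.one_mem _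
  · rw [← hceq]
    exact commutator_le_frattini_of_isPGroup p hP

/-- the context of a `p'`-group `A` acting on a rank two `p`-group `P` having a normal subgroup `E`
of order `p³` and exponent `p`, with `P = [P, A]` and a fixed central element of order `p` -/
structure ECtx (p : ℕ) [Fact p.Prime] (P : Type u) [Group P] [Finite P] (A : Type v) [Group A]
    [Finite A] (ρ : A →* MulAut P) (E : Subgroup P) (x : P) : Prop where
  hp2 : p ≠ 2
  hP : IsPGroup p P
  hrk : PRankLE p 2 P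
  hEn : E.Normal
  hE3 : Nat.card E = p ^ 3
  hEexp : ∀ e ∈ E, e ^ p = 1
  hcop : (Nat.card A).Coprime p
  hgen : Subgroup.closure (Act.commSet ρ) = ⊤
  hxc : x ∈ Subgroup.center P
  hx1 : x ≠ 1
  hxp : x ^ p = 1
  hfix : ∀ a, ρ a x = x

namespace ECtx

variable {p : ℕ} [hp : Fact p.Prime] {P : Type u} [Group P] [Finite P] {A : Type v} [Group A]
  [Finite A] {ρ : A →* MulAut P} {E : Subgroup P} {x : P} (c : ECtx p P A ρ E x)

include c

/-- the centralizer of an invariant subgroup is invariant -/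
theorem inv_centralizer {H : Subgroup P} (hH : Act.Inv ρ H) :
    Act.Inv ρ (Subgroup.centralizer (H : Set P)) := by
  intro a d hd
  rw [Subgroup.mem_centralizer_iff]
  intro e he
  have he' : ρ a⁻¹ e ∈ H := hH a⁻¹ e he
  have hee : e = ρ a (ρ a⁻¹ e) := by
    rw [← MulAut.mul_apply, ← map_mul, mul_inv_cancel, map_one, MulAut.one_apply]
  rw [hee, ← map_mul, ← map_mul, Subgroup.mem_centralizer_iff.mp hd _ he']

/-- the fixed element generates `Z(E)` -/
theorem zpowers_x : Subgroup.zpowers x = E ⊓ Subgroup.centralizer (E : Set P) := by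
  haveI := c.hEn
  obtain ⟨hnc, hZ, hZc, hcomm, -, hCZ, hcyc⟩ := structE c.hp2 c.hP c.hrk E c.hE3 c.hEexp
  have hxC : x ∈ Subgroup.centralizer (E : Set P) := Subgroup.center_le_centralizer _ c.hxc
  exact BK.zpowers_eq_of_card_prime hZ (hCZ x hxC c.hxp) c.hx1

theorem fix_Z : ∀ w ∈ E ⊓ Subgroup.centralizer (E : Set P), ∀ a, ρ a w = w := by
  intro w hw a
  rw [← c.zpowers_x] at hw
  obtain ⟨i, rfl⟩ := Subgroup.mem_zpowers_iff.mp hw
  rw [map_zpow, c.hfix]

/-- **type (b)**: if `P = E C_P(E)` then `P = E` -/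
theorem case_b (htop : E ⊔ Subgroup.centralizer (E : Set P) = ⊤) : E = ⊤ := by
  haveI := c.hEn
  by_contra hne
  obtain ⟨hnc, hZ, hZc, hcomm, -, hCZ, hcyc⟩ := structE c.hp2 c.hP c.hrk E c.hE3 c.hEexp
  obtain ⟨z, k, hCz, hCcard, hzord, hz1ne, hz1p, hZz⟩ :=
    exists_gen_C c.hp2 c.hP c.hrk E c.hE3 c.hEexp
  set C := Subgroup.centralizer (E : Set P) with hC
  have hdec : ∀ u : P, ∃ e ∈ E, ∃ d ∈ C, u = e * d := by
    intro u
    have hu : u ∈ ((E ⊔ C : Subgroup P) : Set P) := by rw [htop]; trivial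
    rw [Subgroup.normal_mul] at hu
    obtain ⟨e, he, d, hd, rfl⟩ := Set.mem_mul.mp hu
    exact ⟨e, he, d, hd, rfl⟩
  have hk : k ≠ 0 := by
    intro hk0
    apply hne
    rw [eq_top_iff, ← htop]
    apply sup_le le_rfl
    have hcard : Nat.card ↥C = Nat.card ↥(E ⊓ C : Subgroup P) := by rw [hCcard, hZ, hk0]; simp
    have : E ⊓ C = C := Subgroup.eq_of_le_of_card_ge inf_le_right (by rw [hcard])
    rw [← this]; exact inf_le_left
  have hfixZ := c.fix_Z
  have hEall : ∀ u : P, u ^ p = 1 → u ∈ E := by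
    intro u hu
    obtain ⟨e, he, d, hd, rfl⟩ := hdec u
    have hcomm_ed : Commute e d := (Subgroup.mem_centralizer_iff.mp hd e he)
    rw [hcomm_ed.mul_pow, c.hEexp e he, one_mul] at hu
    exact E.mul_mem he (hCZ d hd hu).1
  have hEinv : Act.Inv ρ E := by
    intro a u hu
    apply hEall
    rw [← map_pow, c.hEexp u hu, map_one]
  have hCinv : Act.Inv ρ C := c.inv_centralizer hEinv
  set D := E ⊔ Subgroup.zpowers (z ^ p) with hD
  have hcommD : Act.commSet ρ ⊆ D := by
    rintro _ ⟨u, a, rfl⟩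
    obtain ⟨e, he, d, hd, rfl⟩ := hdec u
    have hd' : ρ a d ∈ C := hCinv a d hd
    have hdd : d⁻¹ * ρ a d ∈ Subgroup.zpowers (z ^ p) := by
      have hdk : d ^ p ^ k ∈ E ⊓ C := by
        apply hCZ _ (C.pow_mem hd _)
        rw [← pow_mul, ← pow_succ]
        have : (⟨d, hd⟩ : ↥C) ^ p ^ (k + 1) = 1 := by rw [← hCcard]; exact pow_card_eq_one'
        have := congrArg Subtype.val this
        simpa using this
      have h1 : (ρ a d) ^ p ^ k = d ^ p ^ k := by rw [← map_pow, hfixZ _ hdk]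
      obtain ⟨i, hi⟩ : ∃ i : ℤ, z ^ i = d := by
        rw [hCz] at hd; exact Subgroup.mem_zpowers_iff.mp hd
      obtain ⟨i', hi'⟩ : ∃ i' : ℤ, z ^ i' = ρ a d := by
        rw [hCz] at hd'; exact Subgroup.mem_zpowers_iff.mp hd'
      have h2 : z ^ ((i' - i) * ((p ^ k : ℕ) : ℤ)) = 1 := by
        rw [sub_mul, zpow_sub, zpow_mul, zpow_mul, hi, hi', zpow_natCast, zpow_natCast, h1,
          mul_inv_cancel]
      have h3 : ((p ^ (k + 1) : ℕ) : ℤ) ∣ (i' - i) * ((p ^ k : ℕ) : ℤ) := by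
        rw [← hzord]; exact orderOf_dvd_iff_zpow_eq_one.mpr h2
      have h4 : (p : ℤ) ∣ i' - i := by
        have hpk : ((p ^ k : ℕ) : ℤ) ≠ 0 := by exact_mod_cast pow_ne_zero k hp.out.ne_zero
        rw [pow_succ, Nat.cast_mul, mul_comm (i' - i)] at h3
        exact (mul_dvd_mul_iff_left hpk).mp h3
      obtain ⟨t, ht⟩ := h4
      have : d⁻¹ * ρ a d = (z ^ p) ^ t := by
        rw [← hi', ← hi, ← zpow_neg, ← zpow_add, ← zpow_natCast, ← zpow_mul]
        congr 1
        rw [← ht]; ring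
      rw [this]
      exact Subgroup.zpow_mem _ (Subgroup.mem_zpowers _) t
    have he' : ρ a e ∈ E := hEinv a e he
    have hmem : e⁻¹ * ρ a e ∈ E := E.mul_mem (E.inv_mem he) he'
    have : (e * d)⁻¹ * ρ a (e * d) = (e⁻¹ * ρ a e) * (d⁻¹ * ρ a d) := by
      rw [map_mul, mul_inv_rev]
      have hc : d⁻¹ * (e⁻¹ * ρ a e) = (e⁻¹ * ρ a e) * d⁻¹ :=
        (Subgroup.mem_centralizer_iff.mp (C.inv_mem hd) _ hmem).symm
      calc d⁻¹ * e⁻¹ * (ρ a e * ρ a d) = d⁻¹ * (e⁻¹ * ρ a e) * ρ a d := by group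
        _ = (e⁻¹ * ρ a e) * d⁻¹ * ρ a d := by rw [hc]
        _ = _ := by group
    rw [this]
    exact D.mul_mem (le_sup_left (a := E) hmem) (le_sup_right (a := E) hdd)
  have hDtop : D = ⊤ := by
    rw [eq_top_iff, ← c.hgen, Subgroup.closure_le]; exact hcommD
  have hz : z ∈ ((E ⊔ Subgroup.zpowers (z ^ p) : Subgroup P) : Set P) := by
    rw [← hD, hDtop]; trivial
  rw [Subgroup.normal_mul] at hz
  obtain ⟨e, he, d, hd, hed⟩ := Set.mem_mul.mp hz
  obtain ⟨t, rfl⟩ := Subgroup.mem_zpowers_iff.mp hd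
  have he2 : e = z ^ (1 - (p : ℤ) * t) := by
    have : e = z * ((z ^ p) ^ t)⁻¹ := by
      calc e = e * (z ^ p) ^ t * ((z ^ p) ^ t)⁻¹ := by group
        _ = z * ((z ^ p) ^ t)⁻¹ := by rw [hed]
    rw [this, show (1 - (p : ℤ) * t) = 1 + -((p : ℤ) * t) by ring, zpow_add, zpow_one, zpow_neg,
      zpow_mul, zpow_natCast]
  have hep : e ^ p = 1 := c.hEexp e he
  rw [he2, ← zpow_natCast, ← zpow_mul] at hep
  have h3 : ((p ^ (k + 1) : ℕ) : ℤ) ∣ (1 - (p : ℤ) * t) * ((p : ℕ) : ℤ) := by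
    rw [← hzord]; exact orderOf_dvd_iff_zpow_eq_one.mpr hep
  obtain ⟨k', rfl⟩ : ∃ k', k = k' + 1 := ⟨k - 1, by omega⟩
  have h4 : (p : ℤ) ∣ 1 - (p : ℤ) * t := by
    have hp0 : (p : ℤ) ≠ 0 := by exact_mod_cast hp.out.ne_zero
    have h5 : ((p : ℤ) * (p : ℤ)) ∣ (1 - (p : ℤ) * t) * (p : ℤ) := by
      refine dvd_trans ?_ h3
      push_cast
      exact ⟨(p : ℤ) ^ k', by ring⟩
    rw [mul_comm (1 - (p : ℤ) * t)] at h5
    exact (mul_dvd_mul_iff_left hp0).mp h5
  have h6 : (p : ℤ) ∣ 1 := by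
    have : (1 : ℤ) = (1 - (p : ℤ) * t) + (p : ℤ) * t := by ring
    rw [this]; exact dvd_add h4 (dvd_mul_right _ _)
  have h7 : (p : ℤ) = 1 := Int.eq_one_of_dvd_one (by positivity) h6
  have hp1 := hp.out.one_lt
  omega

end ECtx

end Cfsg.Agent.Lib.Helper1.Blk
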