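import Mathlib
import Cfsg.Agent.Lib.Helper1.Blk15
set_option autoImplicit false
set_option maxHeartbeats 4000000
set_option linter.unusedVariables false
set_option linter.unusedSectionVars false
set_option linter.style.longLine false
set_option linter.unusedSimpArgs false
set_option linter.deprecated false
set_option linter.style.haveILetI false
open scoped commutatorElement Pointwise
universe u v w
namespace Cfsg.Agent.Lib.Helper1.Blk

open Cfsg Cfsg.Agent.Lib.Helper1 Cfsg.Agent.Lib.Helper2 Cfsg.Agent.Lib.Helper3 Cfsg.Agent.Lib.Helper4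

namespace Act

variable {P : Type u} [Group P] {A : Type v} [Group A] (ρ : A →* MulAut P)

/-- the commutator subgroup is invariant -/
theorem inv_commutator : Inv ρ (commutator P) := by
  intro a u hu
  have hchar : (commutator P).Characteristic := inferInstance
  have := (Subgroup.characteristic_iff_map_eq.mp hchar) (ρ a)
  rw [← this]
  exact ⟨u, hu, rfl⟩

/-- the centre is invariant -/
theorem inv_center : Inv ρ (Subgroup.center P) := by
  intro a u hu
  have hchar : (Subgroup.center P).Characteristic := inferInstance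
  have := (Subgroup.characteristic_iff_map_eq.mp hchar) (ρ a)
  rw [← this]
  exact ⟨u, hu, rfl⟩

end Act

namespace ECtx

variable {p : ℕ} [hp : Fact p.Prime] {P : Type u} [Group P] [Finite P] {A : Type v} [Group A]
  [Finite A] {ρ : A →* MulAut P} {E : Subgroup P} {x : P} (c : ECtx p P A ρ E x)

include c

/-- **type (c)** is impossible -/
theorem case_c (hne : E ⊔ Subgroup.centralizer (E : Set P) ≠ ⊤) : False := by
  haveI := c.hEn
  obtain ⟨n, hn⟩ := IsPGroup.iff_card.mp c.hP
  obtain ⟨A₀, x₀, z, k, hA₀n, hZA, hAE, hA2, hx₀, hx₀A, hn4, hzB, hidx, hdec, hzp1, hZz, hzne,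
    hzp, hsurj⟩ := structB c.hp2 c.hP c.hrk E c.hE3 c.hEexp n hn hne
  haveI := hA₀n
  obtain ⟨hnc, hZ, hZc, hcomm, -, hCZ, hcyc⟩ := structE c.hp2 c.hP c.hrk E c.hE3 c.hEexp
  set B := Subgroup.centralizer (A₀ : Set P) with hB
  have hA0c := A0_comm c.hP E c.hE3 A₀ hAE hA2
  have hAB : A₀ ≤ B := by
    intro a ha
    rw [hB, Subgroup.mem_centralizer_iff]
    intro a' ha'
    exact hA0c a' ha' a ha
  -- B is abelian
  have hBcomm : ∀ b ∈ B, ∀ b' ∈ B, b * b' = b' * b := by
    intro b hb b' hb'
    obtain ⟨a, ha, i, rfl⟩ := hdec b hb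
    obtain ⟨a', ha', j, rfl⟩ := hdec b' hb'
    have hzi : z ^ i ∈ B := B.zpow_mem hzB i
    have hzj : z ^ j ∈ B := B.zpow_mem hzB j
    have h1 : a' * z ^ i = z ^ i * a' := Subgroup.mem_centralizer_iff.mp hzi a' ha'
    have h2 : a * z ^ j = z ^ j * a := Subgroup.mem_centralizer_iff.mp hzj a ha
    have h3 : a * a' = a' * a := hA0c a ha a' ha'
    have h4 : z ^ i * z ^ j = z ^ j * z ^ i := by rw [← zpow_add, ← zpow_add, add_comm]
    calc a * z ^ i * (a' * z ^ j) = a * (z ^ i * a') * z ^ j := by group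
      _ = a * (a' * z ^ i) * z ^ j := by rw [h1]
      _ = (a * a') * (z ^ i * z ^ j) := by group
      _ = (a' * a) * (z ^ j * z ^ i) := by rw [h3, h4]
      _ = a' * (a * z ^ j) * z ^ i := by group
      _ = a' * (z ^ j * a) * z ^ i := by rw [h2]
      _ = a' * z ^ j * (a * z ^ i) := by group
  -- x₀ ∉ B
  have hx₀B : x₀ ∉ B := by
    intro h
    apply hnc
    have hE : E = A₀ ⊔ Subgroup.zpowers x₀ := E_eq_sup c.hP E c.hE3 A₀ hAE hA2 x₀ hx₀ hx₀A
    have hEB : E ≤ B := by
      rw [hE]; exact sup_le hAB (by rw [Subgroup.zpowers_le]; exact h)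
    intro e he e' he'
    exact hBcomm e (hEB he) e' (hEB he')
  haveI hBn : B.Normal := by rw [hB]; infer_instance
  have htop : B ⊔ Subgroup.zpowers x₀ = ⊤ :=
    sup_eq_top_of_index_prime hp.out hidx (by rw [Subgroup.zpowers_le]; exact hx₀B)
  -- commutators lie in A₀
  have hcommA : ∀ u v : P, ⁅u, v⁆ ∈ A₀ := by
    set f := QuotientGroup.mk' A₀ with hf
    have hker : f.ker = A₀ := QuotientGroup.ker_mk' A₀
    have hfc : ∀ u v : P, f u * f v = f v * f u ↔ ⁅u, v⁆ ∈ A₀ := by
      intro u v
      constructor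
      · intro h
        have : f ⁅u, v⁆ = 1 := by
          rw [map_commutatorElement, commutatorElement_eq_one_iff_mul_comm]; exact h
        rwa [hf, QuotientGroup.mk'_apply, QuotientGroup.eq_one_iff] at this
      · intro h
        have : f ⁅u, v⁆ = 1 := by
          rw [hf, QuotientGroup.mk'_apply, QuotientGroup.eq_one_iff]; exact h
        rwa [map_commutatorElement, commutatorElement_eq_one_iff_mul_comm] at this
    have hx₀c : ∀ v : P, f x₀ * f v = f v * f x₀ := by
      intro v
      rw [hfc]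
      exact comm_mem_A0 c.hP E c.hE3 A₀ hAE hA2 v x₀ hx₀
    have hBc : ∀ b ∈ B, ∀ v : P, f b * f v = f v * f b := by
      intro b hb v
      have hv : v ∈ (Subgroup.centralizer ({f b} : Set (P ⧸ A₀))).comap f := by
        have hle : B ⊔ Subgroup.zpowers x₀ ≤ (Subgroup.centralizer ({f b} : Set (P ⧸ A₀))).comap f := by
          apply sup_le
          · intro b' hb'
            rw [Subgroup.mem_comap, Subgroup.mem_centralizer_singleton_iff, ← map_mul, ← map_mul,
              hBcomm b' hb' b hb]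
          · rw [Subgroup.zpowers_le, Subgroup.mem_comap, Subgroup.mem_centralizer_singleton_iff]
            exact hx₀c b
        rw [htop] at hle
        exact hle (Subgroup.mem_top v)
      rw [Subgroup.mem_comap, Subgroup.mem_centralizer_singleton_iff] at hv
      exact hv.symm
    intro u v
    rw [← hfc]
    have hu : u ∈ (Subgroup.center (P ⧸ A₀)).comap f := by
      have hle : B ⊔ Subgroup.zpowers x₀ ≤ (Subgroup.center (P ⧸ A₀)).comap f := by
        apply sup_le
        · intro b hb
          rw [Subgroup.mem_comap, Subgroup.mem_center_iff]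
          intro q
          obtain ⟨v, rfl⟩ := QuotientGroup.mk'_surjective A₀ q
          exact (hBc b hb v).symm
        · rw [Subgroup.zpowers_le, Subgroup.mem_comap, Subgroup.mem_center_iff]
          intro q
          obtain ⟨v, rfl⟩ := QuotientGroup.mk'_surjective A₀ q
          exact (hx₀c v).symm
      rw [htop] at hle
      exact hle (Subgroup.mem_top u)
    rw [Subgroup.mem_comap, Subgroup.mem_center_iff] at hu
    exact (hu (f v)).symm
  -- A₀ = commutator P
  have hA₀eq : A₀ = commutator P := by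
    apply le_antisymm
    · intro a ha
      obtain ⟨b, hb, rfl⟩ := hsurj a ha
      exact Subgroup.commutator_mem_commutator (Subgroup.mem_top b) (Subgroup.mem_top x₀)
    · rw [commutator_def, Subgroup.commutator_le]
      intro u _ v _
      exact hcommA u v
  have hA₀inv : Act.Inv ρ A₀ := by rw [hA₀eq]; exact Act.inv_commutator ρ
  have hBinv : Act.Inv ρ B := c.inv_centralizer hA₀inv
  -- the fixed element
  set w := (z ^ p) ^ p ^ k with hw
  have hwZ : w ∈ E ⊓ Subgroup.centralizer (E : Set P) := by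
    rw [hZz]; exact Subgroup.mem_zpowers _
  have hwfix : ∀ a, ρ a w = w := c.fix_Z w hwZ
  have hwz : w = z ^ p ^ (k + 1) := by rw [hw, ← pow_mul, ← pow_succ']
  -- B₀
  let B₀ : Subgroup P :=
    { carrier := {b | b ∈ B ∧ b ^ p ^ (k + 1) = 1}
      one_mem' := ⟨B.one_mem, one_pow _⟩
      mul_mem' := by
        rintro b b' ⟨hb, hb1⟩ ⟨hb', hb1'⟩
        refine ⟨B.mul_mem hb hb', ?_⟩
        have hc : Commute b b' := hBcomm b hb b' hb'
        rw [hc.mul_pow, hb1, hb1', one_mul]
      inv_mem' := by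
        rintro b ⟨hb, hb1⟩
        exact ⟨B.inv_mem hb, by rw [inv_pow, hb1, inv_one]⟩ }
  have hB₀mem : ∀ b, b ∈ B₀ ↔ b ∈ B ∧ b ^ p ^ (k + 1) = 1 := fun b => Iff.rfl
  haveI hB₀n : B₀.Normal := by
    constructor
    intro b hb g
    rw [hB₀mem] at hb ⊢
    refine ⟨hBn.conj_mem b hb.1 g, ?_⟩
    rw [conj_pow, hb.2]; group
  have hA₀B₀ : A₀ ≤ B₀ := by
    intro a ha
    rw [hB₀mem]
    refine ⟨hAB ha, ?_⟩
    rw [pow_succ', pow_mul, c.hEexp a (hAE ha), one_pow]
  set π := QuotientGroup.mk' B₀ with hπ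
  have hπcomm : ∀ u v : P, π u * π v = π v * π u := by
    intro u v
    have h1 : ⁅u, v⁆ ∈ B₀ := hA₀B₀ (hcommA u v)
    have h2 : π ⁅u, v⁆ = 1 := by
      rw [hπ, QuotientGroup.mk'_apply, QuotientGroup.eq_one_iff]; exact h1
    rw [map_commutatorElement, commutatorElement_eq_one_iff_mul_comm] at h2
    exact h2
  have hQ : IsPGroup p (P ⧸ B₀) := c.hP.to_quotient _
  have hy : ∀ a : A, π (ρ a z) = π z := by
    intro a
    have hzρ : ρ a z ∈ B := hBinv a z hzB
    have hmem : z⁻¹ * ρ a z ∈ B₀ := by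
      rw [hB₀mem]
      refine ⟨B.mul_mem (B.inv_mem hzB) hzρ, ?_⟩
      have hc : Commute z⁻¹ (ρ a z) := hBcomm _ (B.inv_mem hzB) _ hzρ
      rw [hc.mul_pow, inv_pow, ← map_pow, ← hwz, hwfix, inv_mul_cancel]
    have h2 : π (z⁻¹ * ρ a z) = 1 := by
      rw [hπ, QuotientGroup.mk'_apply, QuotientGroup.eq_one_iff]; exact hmem
    rw [map_mul, map_inv, inv_mul_eq_one] at h2
    exact h2.symm
  have h1 := Act.norm_fixed ρ hQ π hπcomm c.hcop c.hgen z hy
  rw [hπ, QuotientGroup.mk'_apply, QuotientGroup.eq_one_iff, hB₀mem] at h1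
  apply hzne
  rw [hwz]
  exact h1.2

end ECtx

end Cfsg.Agent.Lib.Helper1.Blk
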