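import Mathlib
import Cfsg.Agent.Lib.Helper1.Blk16
set_option autoImplicit false
set_option maxHeartbeats 4000000
set_option linter.unusedVariables false
set_option linter.unusedSectionVars false
set_option linter.style.longLine false
set_option linter.unusedSimpArgs false
set_option linter.deprecated false
set_option linter.style.haveILetI false
open scoped commutatorElement Pointwise
universe u v w
namespace Cfsg.Agent.Lib.Helper1.Blk

open Cfsg Cfsg.Agent.Lib.Helper1 Cfsg.Agent.Lib.Helper2 Cfsg.Agent.Lib.Helper3 Cfsg.Agent.Lib.Helper4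

/-- the three subgroups lemma modulo a normal subgroup -/
theorem three_subgroups_mod {G : Type*} [Group G] (N : Subgroup G) [N.Normal]
    (H₁ H₂ H₃ : Subgroup G) (h1 : ⁅⁅H₂, H₃⁆, H₁⁆ ≤ N) (h2 : ⁅⁅H₃, H₁⁆, H₂⁆ ≤ N) :
    ⁅⁅H₁, H₂⁆, H₃⁆ ≤ N := by
  have hbot : ∀ K : Subgroup G, K ≤ N → K.map (QuotientGroup.mk' N) = ⊥ := by
    intro K hK
    rw [eq_bot_iff]
    rintro _ ⟨y, hy, rfl⟩
    rw [Subgroup.mem_bot, QuotientGroup.mk'_apply, QuotientGroup.eq_one_iff]
    exact hK hy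
  have key : (⁅⁅H₁, H₂⁆, H₃⁆).map (QuotientGroup.mk' N) = ⊥ := by
    rw [Subgroup.map_commutator, Subgroup.map_commutator]
    apply Subgroup.commutator_commutator_eq_bot_of_rotate
    · rw [← Subgroup.map_commutator, ← Subgroup.map_commutator]
      exact hbot _ h1
    · rw [← Subgroup.map_commutator, ← Subgroup.map_commutator]
      exact hbot _ h2
  intro y hy
  have : (QuotientGroup.mk' N) y ∈ (⁅⁅H₁, H₂⁆, H₃⁆).map (QuotientGroup.mk' N) := ⟨y, hy, rfl⟩
  rw [key, Subgroup.mem_bot, QuotientGroup.mk'_apply, QuotientGroup.eq_one_iff] at this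
  exact this

/-- `[γ_i, γ_2] ≤ γ_{i+2}` (in the zero-based indexing of Mathlib) -/
theorem comm_lcs_le {G : Type*} [Group G] (i : ℕ) :
    ⁅(⊤ : Subgroup G).lowerCentralSeries i, commutator G⁆ ≤
      (⊤ : Subgroup G).lowerCentralSeries (i + 2) := by
  rw [Subgroup.commutator_comm, commutator_def]
  apply three_subgroups_mod
  · rw [Subgroup.commutator_comm (⊤ : Subgroup G), ← Subgroup.lowerCentralSeries_succ,
      ← Subgroup.lowerCentralSeries_succ]
  · rw [← Subgroup.lowerCentralSeries_succ, ← Subgroup.lowerCentralSeries_succ]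

namespace Act

variable {P : Type u} [Group P] {A : Type v} [Group A] (ρ : A →* MulAut P)

/-- characteristic subgroups are invariant -/
theorem inv_of_char (H : Subgroup P) [hH : H.Characteristic] : Inv ρ H := by
  intro a u hu
  have := (Subgroup.characteristic_iff_map_eq.mp hH) (ρ a)
  rw [← this]
  exact ⟨u, hu, rfl⟩

theorem apply_inv_apply (a : A) (u : P) : ρ a (ρ a⁻¹ u) = u := by
  rw [← MulAut.mul_apply, ← map_mul, mul_inv_cancel, map_one, MulAut.one_apply]

theorem inv_apply_apply (a : A) (u : P) : ρ a⁻¹ (ρ a u) = u := by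
  rw [← MulAut.mul_apply, ← map_mul, inv_mul_cancel, map_one, MulAut.one_apply]

/-- the centralizer of an invariant subgroup is invariant -/
theorem inv_centralizer {H : Subgroup P} (hH : Inv ρ H) :
    Inv ρ (Subgroup.centralizer (H : Set P)) := by
  intro a d hd
  rw [Subgroup.mem_centralizer_iff]
  intro e he
  have he' : ρ a⁻¹ e ∈ H := hH a⁻¹ e he
  rw [← apply_inv_apply ρ a e, ← map_mul, ← map_mul, Subgroup.mem_centralizer_iff.mp hd _ he']

/-- the elements of `A` acting trivially on `H` modulo `K` -/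
def trivSub (H K : Subgroup P) (hH : Inv ρ H) (hK : Inv ρ K) : Subgroup A where
  carrier := {a | ∀ u ∈ H, u⁻¹ * ρ a u ∈ K}
  one_mem' := by
    intro u hu
    simp [K.one_mem]
  mul_mem' := by
    intro a b ha hb u hu
    have : u⁻¹ * ρ (a * b) u = (u⁻¹ * ρ a u) * ρ a (u⁻¹ * ρ b u) := by
      rw [map_mul, MulAut.mul_apply, map_mul, map_inv]; group
    rw [this]; exact K.mul_mem (ha u hu) (hK a _ (hb u hu))
  inv_mem' := by
    intro a ha u hu
    have hv : ρ a⁻¹ u ∈ H := hH a⁻¹ u hu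
    have h1 := ha _ hv
    rw [apply_inv_apply] at h1
    have : u⁻¹ * ρ a⁻¹ u = ((ρ a⁻¹ u)⁻¹ * u)⁻¹ := by group
    rw [this]; exact K.inv_mem h1

theorem mem_trivSub {H K : Subgroup P} (hH : Inv ρ H) (hK : Inv ρ K) (a : A) :
    a ∈ trivSub ρ H K hH hK ↔ ∀ u ∈ H, u⁻¹ * ρ a u ∈ K := Iff.rfl

end Act

/-- an injective endomorphism of a group, preserving a subgroup of order three on which it is not
the identity, inverts that subgroup -/
theorem inv_of_card_three_sub {Q : Type*} [Group Q] (S : Subgroup Q) (hS : Nat.card S = 3)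
    (τ : Q →* Q) (hst : ∀ s ∈ S, τ s ∈ S) (hinj : ∀ s ∈ S, τ s = 1 → s = 1)
    (hne : ∃ s ∈ S, τ s ≠ s) : ∀ s ∈ S, τ s = s⁻¹ := by
  haveI : Fact (Nat.Prime 3) := ⟨Nat.prime_three⟩
  obtain ⟨q₁, hq₁, hτ⟩ := hne
  have hq₁ne : q₁ ≠ 1 := by
    intro h; apply hτ; rw [h, map_one]
  haveI : Finite ↥S := Nat.finite_of_card_ne_zero (by rw [hS]; norm_num)
  have hq3 : q₁ ^ 3 = 1 := by
    have h1 : (⟨q₁, hq₁⟩ : ↥S) ^ 3 = 1 := by rw [← hS]; exact pow_card_eq_one'
    have := congrArg Subtype.val h1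
    simpa using this
  have hzp : Subgroup.zpowers q₁ = S := by
    apply Subgroup.eq_of_le_of_card_ge
    · rw [Subgroup.zpowers_le]; exact hq₁
    · rw [Nat.card_zpowers, orderOf_eq_prime hq3 hq₁ne, hS]
  have h3z : q₁ ^ (3 : ℤ) = 1 := by
    rw [show (3 : ℤ) = ((3 : ℕ) : ℤ) by norm_num, zpow_natCast]; exact hq3
  have hτq : τ q₁ ∈ Subgroup.zpowers q₁ := by rw [hzp]; exact hst q₁ hq₁
  obtain ⟨i, hi⟩ := Subgroup.mem_zpowers_iff.mp hτq
  have hi' : τ q₁ = q₁ ^ (i % 3) := by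
    rw [← hi]
    conv_lhs => rw [← Int.emod_add_mul_ediv i 3]
    rw [zpow_add, zpow_mul, h3z, one_zpow, mul_one]
  have hmod : i % 3 = 0 ∨ i % 3 = 1 ∨ i % 3 = 2 := by omega
  have key : τ q₁ = q₁⁻¹ := by
    rcases hmod with h | h | h
    · rw [h, zpow_zero] at hi'
      exact absurd (hinj q₁ hq₁ hi') hq₁ne
    · rw [h, zpow_one] at hi'
      exact absurd hi' hτ
    · rw [h] at hi'
      rw [hi']
      have : q₁ ^ (2 : ℤ) * q₁ = 1 := by
        rw [show (2 : ℤ) = ((2 : ℕ) : ℤ) by norm_num, zpow_natCast, ← pow_succ]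
        exact hq3
      exact eq_inv_of_mul_eq_one_left this
  intro s hs
  rw [← hzp] at hs
  obtain ⟨j, rfl⟩ := Subgroup.mem_zpowers_iff.mp hs
  rw [map_zpow, key, inv_zpow]

end Cfsg.Agent.Lib.Helper1.Blk
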