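import Mathlib
import Cfsg.Agent.Lib.Helper1.Blk17
set_option autoImplicit false
set_option maxHeartbeats 4000000
set_option linter.unusedVariables false
set_option linter.unusedSectionVars false
set_option linter.style.longLine false
set_option linter.unusedSimpArgs false
set_option linter.deprecated false
set_option linter.style.haveILetI false
open scoped commutatorElement Pointwise
universe u v w
namespace Cfsg.Agent.Lib.Helper1.Blk

open Cfsg Cfsg.Agent.Lib.Helper1 Cfsg.Agent.Lib.Helper2 Cfsg.Agent.Lib.Helper3 Cfsg.Agent.Lib.Helper4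

/-- in a group of maximal class the last nontrivial term of the lower central series is the
centre -/
theorem lcs_eq_center_of_maxclass {p : ℕ} [hp : Fact p.Prime] (n : ℕ) (hn : 3 ≤ n) (Q : Type u)
    [Group Q] [Finite Q] (hcard : Nat.card Q = p ^ n)
    (hmax : (⊤ : Subgroup Q).lowerCentralSeries (n - 2) ≠ ⊥) :
    (⊤ : Subgroup Q).lowerCentralSeries (n - 2) = Subgroup.center Q := by
  have hZ := card_center_of_maxclass n hn Q hcard hmax
  have hbot := lcs_eq_bot_of_card_pow (p := p) n (by omega) Q hcard
  have hsub : n - 1 = (n - 2) + 1 := by omega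
  rw [hsub, Subgroup.lowerCentralSeries_succ, Subgroup.commutator_eq_bot_iff_le_centralizer,
    Subgroup.coe_top, Subgroup.centralizer_univ] at hbot
  obtain ⟨g, hg1⟩ := (Subgroup.ne_bot_iff_exists_ne_one).mp hmax
  have hg' : (g : Q) ∈ Subgroup.center Q := hbot g.2
  have h1 : Subgroup.zpowers (g : Q) = Subgroup.center Q :=
    BK.zpowers_eq_of_card_prime hZ hg' (fun h => hg1 (Subtype.ext h))
  apply le_antisymm hbot
  rw [← h1, Subgroup.zpowers_le]
  exact g.2

/-- the quotient of a group of maximal class by its centre has maximal class -/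
theorem maxclass_quot_center {p : ℕ} [hp : Fact p.Prime] (n : ℕ) (hn : 3 ≤ n) (Q : Type u)
    [Group Q] [Finite Q] (hcard : Nat.card Q = p ^ n)
    (hmax : (⊤ : Subgroup Q).lowerCentralSeries (n - 2) ≠ ⊥) :
    Nat.card (Q ⧸ Subgroup.center Q) = p ^ (n - 1) ∧
      (⊤ : Subgroup (Q ⧸ Subgroup.center Q)).lowerCentralSeries (n - 3) ≠ ⊥ := by
  have hZ := card_center_of_maxclass n hn Q hcard hmax
  constructor
  · have h1 := Subgroup.card_eq_card_quotient_mul_card_subgroup (Subgroup.center Q)
    rw [hcard, hZ] at h1
    have : p ^ (n - 1) * p = Nat.card (Q ⧸ Subgroup.center Q) * p := by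
      rw [← h1, ← pow_succ]; congr 1; omega
    exact (Nat.eq_of_mul_eq_mul_right hp.out.pos this).symm
  · intro hbot
    apply hmax
    rw [← lcs_map (QuotientGroup.mk' (Subgroup.center Q)) (QuotientGroup.mk'_surjective _)] at hbot
    have hle : (⊤ : Subgroup Q).lowerCentralSeries (n - 3) ≤ Subgroup.center Q := by
      intro y hy
      have : (QuotientGroup.mk' (Subgroup.center Q)) y ∈
          ((⊤ : Subgroup Q).lowerCentralSeries (n - 3)).map (QuotientGroup.mk' _) := ⟨y, hy, rfl⟩
      rw [hbot, Subgroup.mem_bot, QuotientGroup.mk'_apply, QuotientGroup.eq_one_iff] at this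
      exact this
    have hsub : n - 2 = (n - 3) + 1 := by omega
    rw [hsub, Subgroup.lowerCentralSeries_succ, Subgroup.commutator_eq_bot_iff_le_centralizer,
      Subgroup.coe_top, Subgroup.centralizer_univ]
    exact hle

/-- the derived subgroup of a group of maximal class has index `p²` -/
theorem index_commutator_of_maxclass {p : ℕ} [hp : Fact p.Prime] : ∀ (n : ℕ), 2 ≤ n →
    ∀ (Q : Type u) [Group Q] [Finite Q], Nat.card Q = p ^ n →
    (⊤ : Subgroup Q).lowerCentralSeries (n - 2) ≠ ⊥ → (commutator Q).index = p ^ 2 := by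
  intro n hn
  induction n, hn using Nat.le_induction with
  | base =>
    intro Q _ _ hcard _
    have h1 := lcs_eq_bot_of_card_pow (p := p) 2 le_rfl Q hcard
    have h2 : commutator Q = ⊥ := h1
    rw [h2, Subgroup.index_bot, hcard]
  | succ n hn ih =>
    intro Q _ _ hcard hmax
    have hn3 : 3 ≤ n + 1 := by omega
    obtain ⟨hqc, hqmax⟩ := maxclass_quot_center (p := p) (n + 1) hn3 Q hcard hmax
    have hih := ih (Q ⧸ Subgroup.center Q) hqc (by
      have : n + 1 - 3 = n - 2 := by omega
      rw [this] at hqmax; exact hqmax)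
    have hZle : Subgroup.center Q ≤ commutator Q := by
      rw [← lcs_eq_center_of_maxclass (p := p) (n + 1) hn3 Q hcard hmax]
      have hanti := (Subgroup.lowerCentralSeries_antitone (S := (⊤ : Subgroup Q)))
      exact hanti (show 1 ≤ n + 1 - 2 by omega)
    have hmap : (commutator Q).map (QuotientGroup.mk' (Subgroup.center Q)) =
        commutator (Q ⧸ Subgroup.center Q) :=
      lcs_map (QuotientGroup.mk' (Subgroup.center Q)) (QuotientGroup.mk'_surjective _) 1
    rw [← hmap, Subgroup.index_map_eq _ (QuotientGroup.mk'_surjective _)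
      (by rw [QuotientGroup.ker_mk']; exact hZle)] at hih
    exact hih

end Cfsg.Agent.Lib.Helper1.Blk
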