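import Mathlib
import Cfsg.Agent.Lib.Helper1.Blk18
set_option autoImplicit false
set_option maxHeartbeats 4000000
set_option linter.unusedVariables false
set_option linter.unusedSectionVars false
set_option linter.style.longLine false
set_option linter.unusedSimpArgs false
set_option linter.deprecated false
set_option linter.style.haveILetI false
open scoped commutatorElement Pointwise
universe u v w
namespace Cfsg.Agent.Lib.Helper1.Blk

open Cfsg Cfsg.Agent.Lib.Helper1 Cfsg.Agent.Lib.Helper2 Cfsg.Agent.Lib.Helper3 Cfsg.Agent.Lib.Helper4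

section algebra
variable {Q : Type*} [Group Q]

theorem comm_mul_central_left (a c w : Q) (hc : ∀ v : Q, c * v = v * c) : ⁅a * c, w⁆ = ⁅a, w⁆ := by
  rw [commutatorElement_def, commutatorElement_def, mul_inv_rev]
  calc a * c * w * (c⁻¹ * a⁻¹) * w⁻¹ = a * (c * w) * c⁻¹ * a⁻¹ * w⁻¹ := by group
    _ = a * (w * c) * c⁻¹ * a⁻¹ * w⁻¹ := by rw [hc w]
    _ = a * w * a⁻¹ * w⁻¹ := by group

theorem comm_mul_commute_right (a w d : Q) (hd : a * d = d * a) : ⁅a, w * d⁆ = ⁅a, w⁆ := by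
  rw [commutatorElement_def, commutatorElement_def, mul_inv_rev]
  have hd' : d * a⁻¹ = a⁻¹ * d := by
    have : a⁻¹ * (a * d) * a⁻¹ = a⁻¹ * (d * a) * a⁻¹ := by rw [hd]
    calc d * a⁻¹ = a⁻¹ * (a * d) * a⁻¹ := by group
      _ = a⁻¹ * (d * a) * a⁻¹ := this
      _ = a⁻¹ * d := by group
  calc a * (w * d) * a⁻¹ * (d⁻¹ * w⁻¹) = a * w * (d * a⁻¹) * d⁻¹ * w⁻¹ := by group
    _ = a * w * (a⁻¹ * d) * d⁻¹ * w⁻¹ := by rw [hd']
    _ = a * w * a⁻¹ * w⁻¹ := by group

theorem comm_inv_right_of_central (g u : Q) (ht : ∀ v : Q, ⁅g, u⁆ * v = v * ⁅g, u⁆) :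
    ⁅g, u⁻¹⁆ = ⁅g, u⁆⁻¹ := by
  have h1 : ⁅g, u⁻¹⁆ = u⁻¹ * ⁅g, u⁆⁻¹ * u := by
    rw [commutatorElement_def, commutatorElement_def]; group
  have h2 : ⁅g, u⁆⁻¹ * u = u * ⁅g, u⁆⁻¹ := by
    have := ht u
    calc ⁅g, u⁆⁻¹ * u = ⁅g, u⁆⁻¹ * (u * ⁅g, u⁆) * ⁅g, u⁆⁻¹ := by group
      _ = ⁅g, u⁆⁻¹ * (⁅g, u⁆ * u) * ⁅g, u⁆⁻¹ := by rw [this]
      _ = u * ⁅g, u⁆⁻¹ := by group
  rw [h1, mul_assoc, h2]; group

theorem comm_inv_inv_of_central (g u : Q) (ht : ∀ v : Q, ⁅g, u⁆ * v = v * ⁅g, u⁆) :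
    ⁅g⁻¹, u⁻¹⁆ = ⁅g, u⁆ := by
  have h1 : ⁅g⁻¹, u⁻¹⁆ = (u * g)⁻¹ * ⁅g, u⁆ * (u * g) := by
    rw [commutatorElement_def, commutatorElement_def]; group
  rw [h1, mul_assoc, ht (u * g)]; group

end algebra

namespace Act

variable {P : Type u} [Group P] {A : Type v} [Group A] (ρ : A →* MulAut P)

/-- the sign with which an inverting automorphism acts on the `i`-th lower central factor -/
def sg (i : ℕ) : ℤ := if Even i then -1 else 1

theorem sg_cases (i : ℕ) : sg i = 1 ∨ sg i = -1 := by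
  unfold sg; split_ifs <;> simp

theorem sg_succ (i : ℕ) : sg (i + 1) = - sg i := by
  unfold sg
  by_cases h : Even i
  · have : ¬ Even (i + 1) := by rw [Nat.even_add_one]; exact not_not.mpr h
    rw [if_pos h, if_neg this]; simp
  · have : Even (i + 1) := by rw [Nat.even_add_one]; exact h
    rw [if_neg h, if_pos this]

/-- propagation of the sign along the lower central series -/
theorem layer_step (b : A) (i : ℕ)
    (hT : ∀ g ∈ (⊤ : Subgroup P).lowerCentralSeries i,
      (g ^ sg i)⁻¹ * ρ b g ∈ (⊤ : Subgroup P).lowerCentralSeries (i + 1))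
    (h0 : ∀ u : P, u * ρ b u ∈ commutator P) :
    ∀ g ∈ (⊤ : Subgroup P).lowerCentralSeries (i + 1),
      (g ^ sg (i + 1))⁻¹ * ρ b g ∈ (⊤ : Subgroup P).lowerCentralSeries (i + 2) := by
  set N := (⊤ : Subgroup P).lowerCentralSeries (i + 2) with hN
  set f := QuotientGroup.mk' N with hf
  have hf1 : ∀ y : P, f y = 1 ↔ y ∈ N := by
    intro y; rw [hf, QuotientGroup.mk'_apply, QuotientGroup.eq_one_iff]
  have hcent : ∀ g ∈ (⊤ : Subgroup P).lowerCentralSeries (i + 1), ∀ q : P ⧸ N,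
      f g * q = q * f g := by
    intro g hg q
    obtain ⟨v, rfl⟩ := QuotientGroup.mk'_surjective N q
    have h1 : ⁅g, v⁆ ∈ N := by
      rw [hN, show i + 2 = (i + 1) + 1 from rfl, Subgroup.lowerCentralSeries_succ]
      exact Subgroup.commutator_mem_commutator hg (Subgroup.mem_top v)
    have h2 : f ⁅g, v⁆ = 1 := (hf1 _).mpr h1
    rw [map_commutatorElement, commutatorElement_eq_one_iff_mul_comm] at h2
    exact h2
  have key : ∀ g ∈ (⊤ : Subgroup P).lowerCentralSeries (i + 1),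
      f (ρ b g) = (f g) ^ sg (i + 1) := by
    intro g hg
    rw [Subgroup.lowerCentralSeries_succ, Subgroup.commutator_def] at hg
    induction hg using Subgroup.closure_induction with
    | mem y hy =>
      obtain ⟨g₁, hg₁, u, -, rfl⟩ := hy
      obtain ⟨s, hs⟩ : ∃ s, s = sg i := ⟨_, rfl⟩
      obtain ⟨c, hc⟩ : ∃ c, c = (g₁ ^ s)⁻¹ * ρ b g₁ := ⟨_, rfl⟩
      have hcL : c ∈ (⊤ : Subgroup P).lowerCentralSeries (i + 1) := by
        rw [hc, hs]; exact hT g₁ hg₁
      have hρg : ρ b g₁ = g₁ ^ s * c := by rw [hc]; group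
      obtain ⟨d, hd⟩ : ∃ d, d = u * ρ b u := ⟨_, rfl⟩
      have hdL : d ∈ commutator P := by rw [hd]; exact h0 u
      have hρu : ρ b u = u⁻¹ * d := by rw [hd]; group
      have hgs : g₁ ^ s ∈ (⊤ : Subgroup P).lowerCentralSeries i := Subgroup.zpow_mem _ hg₁ s
      have hgd : f (g₁ ^ s) * f d = f d * f (g₁ ^ s) := by
        have h1 : ⁅g₁ ^ s, d⁆ ∈ N := by
          apply comm_lcs_le i
          exact Subgroup.commutator_mem_commutator hgs hdL
        have h2 : f ⁅g₁ ^ s, d⁆ = 1 := (hf1 _).mpr h1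
        rw [map_commutatorElement, commutatorElement_eq_one_iff_mul_comm] at h2
        exact h2
      have hguL : ⁅g₁, u⁆ ∈ (⊤ : Subgroup P).lowerCentralSeries (i + 1) := by
        rw [Subgroup.lowerCentralSeries_succ]
        exact Subgroup.commutator_mem_commutator hg₁ (Subgroup.mem_top u)
      have htc : ∀ v : P ⧸ N, ⁅f g₁, f u⁆ * v = v * ⁅f g₁, f u⁆ := by
        intro v
        rw [← map_commutatorElement]
        exact hcent _ hguL v
      have e1 : f (ρ b ⁅g₁, u⁆) = ⁅f (g₁ ^ s) * f c, (f u)⁻¹ * f d⁆ := by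
        rw [map_commutatorElement (ρ b), hρg, hρu, map_commutatorElement f, map_mul, map_mul,
          map_inv]
      rw [e1, comm_mul_central_left _ _ _ (hcent c hcL), comm_mul_commute_right _ _ _ hgd,
        map_zpow, map_commutatorElement f, sg_succ, ← hs]
      rcases sg_cases i with h | h
      · rw [← hs] at h
        rw [h, zpow_one, comm_inv_right_of_central _ _ htc]
        simp
      · rw [← hs] at h
        rw [h]
        simp only [zpow_neg, zpow_one, neg_neg]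
        exact comm_inv_inv_of_central _ _ htc
    | one => simp
    | mul y₁ y₂ hy₁ hy₂ h₁ h₂ =>
      have hy₁' : y₁ ∈ (⊤ : Subgroup P).lowerCentralSeries (i + 1) := by
        rw [Subgroup.lowerCentralSeries_succ, Subgroup.commutator_def]; exact hy₁
      have hc : Commute (f y₁) (f y₂) := hcent y₁ hy₁' (f y₂)
      rw [map_mul, map_mul, h₁, h₂, map_mul, hc.mul_zpow]
    | inv y hy h =>
      rw [map_inv, map_inv, h, map_inv, inv_zpow]
  intro g hg
  rw [← hf1, map_mul, map_inv, map_zpow, key g hg, inv_mul_cancel]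

/-- the sign on every layer -/
theorem layer_all (b : A) (h0 : ∀ u : P, u * ρ b u ∈ commutator P) :
    ∀ i : ℕ, ∀ g ∈ (⊤ : Subgroup P).lowerCentralSeries i,
      (g ^ sg i)⁻¹ * ρ b g ∈ (⊤ : Subgroup P).lowerCentralSeries (i + 1) := by
  intro i
  induction i with
  | zero =>
    intro g _
    have : sg 0 = -1 := by unfold sg; simp
    rw [this]
    simp only [zpow_neg, zpow_one, inv_inv]
    exact h0 g
  | succ i ih => exact layer_step ρ b i ih h0

end Act

end Cfsg.Agent.Lib.Helper1.Blk
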