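import Mathlib
import Cfsg.Agent.Lib.Helper1.Blk19
set_option autoImplicit false
set_option maxHeartbeats 4000000
set_option linter.unusedVariables false
set_option linter.unusedSectionVars false
set_option linter.style.longLine false
set_option linter.unusedSimpArgs false
set_option linter.deprecated false
set_option linter.style.haveILetI false
open scoped commutatorElement Pointwise
universe u v w
namespace Cfsg.Agent.Lib.Helper1.Blk

open Cfsg Cfsg.Agent.Lib.Helper1 Cfsg.Agent.Lib.Helper2 Cfsg.Agent.Lib.Helper3 Cfsg.Agent.Lib.Helper4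

namespace Act

variable {P : Type u} [Group P] [Finite P] {A : Type v} [Group A] [Finite A] (ρ : A →* MulAut P)

/-- **the case of maximal class**: the order is an odd power of `3` -/
theorem case_maxclass (n : ℕ) (hn : 4 ≤ n) (hcard : Nat.card P = 3 ^ n)
    (hmax : (⊤ : Subgroup P).lowerCentralSeries (n - 2) ≠ ⊥)
    (hcop : (Nat.card A).Coprime 3) (hgen : Subgroup.closure (commSet ρ) = ⊤)
    (x : P) (hxc : x ∈ Subgroup.center P) (hx1 : x ≠ 1) (hfix : ∀ a, ρ a x = x) : Odd n := by
  haveI : Fact (Nat.Prime 3) := ⟨Nat.prime_three⟩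
  have hP : IsPGroup 3 P := IsPGroup.of_card hcard
  have hZ : Nat.card (Subgroup.center P) = 3 := card_center_of_maxclass n (by omega) P hcard hmax
  set Z := Subgroup.center P with hZdef
  set f := QuotientGroup.mk' Z with hf
  have hfs : Function.Surjective f := QuotientGroup.mk'_surjective Z
  have hker : f.ker = Z := QuotientGroup.ker_mk' Z
  obtain ⟨hqc, hqmax⟩ := maxclass_quot_center (p := 3) n (by omega) P hcard hmax
  have hcq : Nat.card (Subgroup.center (P ⧸ Z)) = 3 :=
    card_center_of_maxclass (n - 1) (by omega) (P ⧸ Z) hqc (by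
      have : n - 1 - 2 = n - 3 := by omega
      rw [this]; exact hqmax)
  -- the second centre
  set V₂ := (Subgroup.center (P ⧸ Z)).comap f with hV₂
  have hV₂card : Nat.card ↥V₂ = 3 ^ 2 := by
    rw [hV₂, QR.card_comap_surj f hfs, hker, hcq, hZ]; norm_num
  haveI hV₂n : V₂.Normal := by rw [hV₂]; infer_instance
  have hV₂mem : ∀ u : P, u ∈ V₂ ↔ ∀ v : P, ⁅u, v⁆ ∈ Z := by
    intro u
    rw [hV₂, Subgroup.mem_comap, Subgroup.mem_center_iff]
    constructor
    · intro h v
      have h1 := h (f v)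
      have h2 : f ⁅u, v⁆ = 1 := by
        rw [map_commutatorElement, commutatorElement_eq_one_iff_mul_comm]; exact h1.symm
      rwa [hf, QuotientGroup.mk'_apply, QuotientGroup.eq_one_iff] at h2
    · intro h q
      obtain ⟨v, rfl⟩ := hfs q
      have h2 : f ⁅u, v⁆ = 1 := by
        rw [hf, QuotientGroup.mk'_apply, QuotientGroup.eq_one_iff]; exact h v
      rw [map_commutatorElement, commutatorElement_eq_one_iff_mul_comm] at h2
      exact h2.symm
  have hZinv : Inv ρ Z := inv_of_char ρ Z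
  have hV₂inv : Inv ρ V₂ := by
    intro a u hu
    rw [hV₂mem] at hu ⊢
    intro v
    have h1 := hZinv a _ (hu (ρ a⁻¹ v))
    rwa [map_commutatorElement, apply_inv_apply] at h1
  -- the centralizer of the second centre
  set M := Subgroup.centralizer (V₂ : Set P) with hM
  have hMinv : Inv ρ M := inv_centralizer ρ hV₂inv
  haveI hMn : M.Normal := by rw [hM]; infer_instance
  have hMidx : M.index = 3 := by
    have hdvd := index_centralizer_dvd_prime hP V₂ hV₂card
    rcases (Nat.dvd_prime Nat.prime_three).mp hdvd with h1 | h3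
    · exfalso
      have hMtop : M = ⊤ := Subgroup.index_eq_one.mp h1
      have hVc : V₂ ≤ Subgroup.center P := Subgroup.centralizer_eq_top_iff_subset.mp hMtop
      have := Subgroup.card_le_of_le hVc
      rw [hV₂card, hZ] at this
      norm_num at this
    · exact h3
  have hPM : commutator P ≤ M := by
    rw [← Subgroup.Normal.quotient_commutative_iff_commutator_le]
    have hcardQ : Nat.card (P ⧸ M) = 3 := hMidx
    have hcyc : IsCyclic (P ⧸ M) := isCyclic_of_prime_card hcardQ
    exact ⟨⟨IsCyclic.commGroup.mul_comm⟩⟩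
  have hP'idx : (commutator P).index = 3 ^ 2 :=
    index_commutator_of_maxclass (p := 3) n (by omega) P hcard hmax
  have hP'inv : Inv ρ (commutator P) := inv_of_char ρ _
  have hneM : M ≠ commutator P := by
    intro h
    rw [← h, hMidx] at hP'idx
    norm_num at hP'idx
  have hTopinv : Inv ρ (⊤ : Subgroup P) := fun a u _ => Subgroup.mem_top _
  -- the two subgroups of `A`
  set Tl := trivSub ρ ⊤ M hTopinv hMinv with hTl
  set Tm := trivSub ρ M (commutator P) hMinv hP'inv with hTm
  have hTl_ne : ¬ (⊤ : Subgroup A) ≤ Tl := by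
    intro h
    have hsub : commSet ρ ⊆ M := by
      rintro _ ⟨u, a, rfl⟩
      exact (mem_trivSub ρ hTopinv hMinv a).mp (h (Subgroup.mem_top a)) u (Subgroup.mem_top u)
    have : (⊤ : Subgroup P) ≤ M := by rw [← hgen, Subgroup.closure_le]; exact hsub
    have hMtop : M = ⊤ := eq_top_iff.mpr this
    rw [hMtop, Subgroup.index_top] at hMidx
    norm_num at hMidx
  set g := QuotientGroup.mk' (commutator P) with hg
  have hg1 : ∀ y : P, g y = 1 ↔ y ∈ commutator P := by
    intro y; rw [hg, QuotientGroup.mk'_apply, QuotientGroup.eq_one_iff]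
  have hQcomm : ∀ q₁ q₂ : P ⧸ commutator P, q₁ * q₂ = q₂ * q₁ := by
    intro q₁ q₂
    obtain ⟨u, rfl⟩ := QuotientGroup.mk'_surjective _ q₁
    obtain ⟨v, rfl⟩ := QuotientGroup.mk'_surjective _ q₂
    have h1 : ⁅u, v⁆ ∈ commutator P :=
      Subgroup.commutator_mem_commutator (Subgroup.mem_top u) (Subgroup.mem_top v)
    have h2 := (hg1 _).mpr h1
    rw [map_commutatorElement, commutatorElement_eq_one_iff_mul_comm] at h2
    exact h2
  have hQ9 : IsPGroup 3 (P ⧸ commutator P) := hP.to_quotient _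
  have hTm_ne : ¬ (⊤ : Subgroup A) ≤ Tm := by
    intro h
    apply hneM
    apply le_antisymm _ hPM
    intro m hm
    have hy : ∀ a : A, g (ρ a m) = g m := by
      intro a
      have h1 := (mem_trivSub ρ hMinv hP'inv a).mp (h (Subgroup.mem_top a)) m hm
      have h2 := (hg1 _).mpr h1
      rw [map_mul, map_inv, inv_mul_eq_one] at h2
      exact h2.symm
    have := norm_fixed ρ hQ9 g (fun u v => hQcomm _ _) hcop hgen m hy
    exact (hg1 m).mp this
  obtain ⟨a₀, ha₀l, ha₀m⟩ : ∃ a₀ : A, a₀ ∉ Tl ∧ a₀ ∉ Tm := by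
    by_contra hcon
    push_neg at hcon
    have := le_or_le_of_forall_mem_or (U := (⊤ : Subgroup A)) (A := Tl) (B := Tm) (fun a _ => by
      by_cases h : a ∈ Tl
      · exact Or.inl h
      · exact Or.inr (hcon a h))
    rcases this with h | h
    · exact hTl_ne h
    · exact hTm_ne h
  -- the induced maps
  have hσh : commutator P ≤ (commutator P).comap (ρ a₀).toMonoidHom := fun u hu => hP'inv a₀ u hu
  set σ := QuotientGroup.map (commutator P) (commutator P) (ρ a₀).toMonoidHom hσh with hσ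
  have hσmk : ∀ u : P, σ (g u) = g (ρ a₀ u) := fun u => QuotientGroup.map_mk' _ _ _ _ u
  have hτh : M ≤ M.comap (ρ a₀).toMonoidHom := fun u hu => hMinv a₀ u hu
  set τ := QuotientGroup.map M M (ρ a₀).toMonoidHom hτh with hτ
  set gM := QuotientGroup.mk' M with hgM
  have hgM1 : ∀ y : P, gM y = 1 ↔ y ∈ M := by
    intro y; rw [hgM, QuotientGroup.mk'_apply, QuotientGroup.eq_one_iff]
  have hτmk : ∀ u : P, τ (gM u) = gM (ρ a₀ u) := fun u => QuotientGroup.map_mk' _ _ _ _ u
  -- inversion on P/M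
  have hinvM : ∀ u : P, u * ρ a₀ u ∈ M := by
    have hcardQ : Nat.card (P ⧸ M) = 3 := hMidx
    have hall := inv_of_card_three_sub (⊤ : Subgroup (P ⧸ M)) (by rw [Subgroup.card_top]; exact hcardQ)
      τ (fun s _ => Subgroup.mem_top _) (by
        intro s _ hs
        obtain ⟨u, rfl⟩ := QuotientGroup.mk'_surjective M s
        rw [hτmk, hgM1] at hs
        exact (hgM1 u).mpr ((hMinv.iff ρ a₀ u).mp hs)) (by
        have : ¬ ∀ u ∈ (⊤ : Subgroup P), u⁻¹ * ρ a₀ u ∈ M := fun h => ha₀l h
        push_neg at this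
        obtain ⟨u, -, hu⟩ := this
        refine ⟨gM u, Subgroup.mem_top _, ?_⟩
        intro h
        apply hu
        rw [hτmk] at h
        rw [← hgM1, map_mul, map_inv, h, inv_mul_cancel])
    intro u
    have := hall (gM u) (Subgroup.mem_top _)
    rw [hτmk] at this
    rw [← hgM1, map_mul, this, mul_inv_cancel]
  -- inversion on M/P'
  set Mb := M.map g with hMb
  have hMbcard : Nat.card ↥Mb = 3 := by
    have h1 := QR.card_eq_card_map_mul g M
    have h2 : M ⊓ g.ker = commutator P := by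
      rw [hg, QuotientGroup.ker_mk']; exact inf_eq_right.mpr hPM
    rw [h2] at h1
    have h3 := Subgroup.card_mul_index M
    have h4 := Subgroup.card_mul_index (commutator P)
    rw [hMidx] at h3
    rw [hP'idx] at h4
    have hpos : 0 < Nat.card ↥(commutator P) := Nat.card_pos
    rw [← hMb] at h1
    have h5 : Nat.card ↥Mb * Nat.card ↥(commutator P) * 3 = 3 * Nat.card ↥(commutator P) * 3 := by
      rw [← h1, h3, ← h4]; ring
    have h6 := Nat.eq_of_mul_eq_mul_right (by norm_num : 0 < 3) h5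
    exact Nat.eq_of_mul_eq_mul_right hpos h6
  have hinvMb : ∀ s ∈ Mb, σ s = s⁻¹ := by
    apply inv_of_card_three_sub Mb hMbcard σ
    · rintro _ ⟨m, hm, rfl⟩
      rw [hσmk]
      exact ⟨ρ a₀ m, hMinv a₀ m hm, rfl⟩
    · rintro _ ⟨m, hm, rfl⟩ hs
      rw [hσmk, hg1] at hs
      exact (hg1 m).mpr ((hP'inv.iff ρ a₀ m).mp hs)
    · have : ¬ ∀ m ∈ M, m⁻¹ * ρ a₀ m ∈ commutator P := fun h => ha₀m h
      push_neg at this
      obtain ⟨m, hm, hmne⟩ := this
      refine ⟨g m, ⟨m, hm, rfl⟩, ?_⟩
      intro h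
      apply hmne
      rw [hσmk] at h
      rw [← hg1, map_mul, map_inv, h, inv_mul_cancel]
  -- the cube of a₀ inverts P/P'
  have hinv3 : ∀ q : P ⧸ commutator P, σ (σ (σ q)) = q⁻¹ := by
    intro q
    obtain ⟨u, rfl⟩ := QuotientGroup.mk'_surjective (commutator P) q
    show σ (σ (σ (g u))) = (g u)⁻¹
    obtain ⟨l, hl⟩ : ∃ l, l = g u * σ (g u) := ⟨_, rfl⟩
    have hlMb : l ∈ Mb := by
      rw [hl, hσmk, ← map_mul]
      exact ⟨_, hinvM u, rfl⟩
    have h1 : σ (g u) = (g u)⁻¹ * l := by rw [hl]; group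
    have h2 : σ l = l⁻¹ := hinvMb l hlMb
    have h3 : l ^ 3 = 1 := by
      haveI : Finite ↥Mb := Nat.finite_of_card_ne_zero (by rw [hMbcard]; norm_num)
      have h : (⟨l, hlMb⟩ : ↥Mb) ^ 3 = 1 := by rw [← hMbcard]; exact pow_card_eq_one'
      have := congrArg Subtype.val h
      simpa using this
    have e2 : σ (σ (g u)) = l⁻¹ * g u * l⁻¹ := by
      rw [h1, map_mul, map_inv, h1, h2]; group
    have e3 : σ (σ (σ (g u))) = l * ((g u)⁻¹ * l) * l := by
      rw [e2, map_mul, map_mul, map_inv, h2, h1]; group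
    rw [e3]
    calc l * ((g u)⁻¹ * l) * l = (l * (g u)⁻¹) * l * l := by group
      _ = ((g u)⁻¹ * l) * l * l := by rw [hQcomm l (g u)⁻¹]
      _ = (g u)⁻¹ * l ^ 3 := by simp only [pow_succ, pow_zero, one_mul, mul_assoc]
      _ = (g u)⁻¹ := by rw [h3, mul_one]
  set b := a₀ * a₀ * a₀ with hb
  have h0 : ∀ u : P, u * ρ b u ∈ commutator P := by
    intro u
    have h1 : ρ b u = ρ a₀ (ρ a₀ (ρ a₀ u)) := by
      rw [hb, map_mul, map_mul, MulAut.mul_apply, MulAut.mul_apply]
    have h2 : g (ρ b u) = (g u)⁻¹ := by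
      rw [h1, ← hσmk, ← hσmk, ← hσmk]; exact hinv3 (g u)
    rw [← hg1, map_mul, h2, mul_inv_cancel]
  -- layers
  have hlay := layer_all ρ b h0 (n - 2)
  have hxL : x ∈ (⊤ : Subgroup P).lowerCentralSeries (n - 2) := by
    rw [lcs_eq_center_of_maxclass (p := 3) n (by omega) P hcard hmax]; exact hxc
  have hbot := lcs_eq_bot_of_card_pow (p := 3) n (by omega) P hcard
  have h1 := hlay x hxL
  rw [show n - 2 + 1 = n - 1 by omega, hbot, Subgroup.mem_bot, hfix, inv_mul_eq_one] at h1
  rw [← Nat.not_even_iff_odd]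
  intro hev
  have hev2 : Even (n - 2) := by
    obtain ⟨t, ht⟩ := hev
    exact ⟨t - 1, by omega⟩
  have hsg : sg (n - 2) = -1 := by unfold sg; rw [if_pos hev2]
  rw [hsg, zpow_neg, zpow_one] at h1
  have hx3 : x ^ 3 = 1 := by
    have h : (⟨x, hxc⟩ : ↥(Subgroup.center P)) ^ 3 = 1 := by rw [← hZ]; exact pow_card_eq_one'
    have := congrArg Subtype.val h
    simpa using this
  apply hx1
  have hx2 : x * x = 1 := by
    nth_rewrite 1 [← h1]; exact inv_mul_cancel x
  calc x = x ^ 3 * (x * x)⁻¹ := by group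
    _ = 1 := by rw [hx3, hx2]; simp

end Act

end Cfsg.Agent.Lib.Helper1.Blk
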