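import Mathlib
import Cfsg.Agent.Lib.Helper1.Blk20
set_option autoImplicit false
set_option maxHeartbeats 4000000
set_option linter.unusedVariables false
set_option linter.unusedSectionVars false
set_option linter.style.longLine false
set_option linter.unusedSimpArgs false
set_option linter.deprecated false
set_option linter.style.haveILetI false
open scoped commutatorElement Pointwise
universe u v w
namespace Cfsg.Agent.Lib.Helper1.Blk

open Cfsg Cfsg.Agent.Lib.Helper1 Cfsg.Agent.Lib.Helper2 Cfsg.Agent.Lib.Helper3 Cfsg.Agent.Lib.Helper4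

/-- the structural trichotomy behind Blackburn's theorem -/
theorem blackburn_key {G : Type u} [Group G] [Finite G] {p : ℕ} [hp : Fact p.Prime] (hp2 : p ≠ 2)
    (n : ℕ) (hcard : Nat.card G = p ^ n) (hrk : PRankLE p 2 G) :
    IsMetacyclic G ∨
      (∃ E : Subgroup G, E.Normal ∧ Nat.card E = p ^ 3 ∧ ∀ x ∈ E, x ^ p = 1) ∨
      (p = 3 ∧ 2 ≤ n ∧ (⊤ : Subgroup G).lowerCentralSeries (n - 2) ≠ ⊥) := by
  have hG : IsPGroup p G := IsPGroup.of_card hcard
  by_cases hp3 : p = 3
  · subst hp3
    rcases main3_aux _ G rfl hG hrk with h | h | ⟨n', hn', hn'2, hmax⟩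
    · exact Or.inl h
    · exact Or.inr (Or.inl h)
    · have : n' = n := Nat.pow_right_injective (by norm_num : 2 ≤ 3) (hn'.symm.trans hcard)
      subst this
      exact Or.inr (Or.inr ⟨rfl, hn'2, hmax⟩)
  · have hp5 : 3 < p := by
      have := hp.out.two_le
      omega
    rcases main5 hp5 hG hrk with h | h
    · exact Or.inl h
    · exact Or.inr (Or.inl h)

namespace Act

variable {P : Type u} [Group P] [Finite P] {A : Type v} [Group A] [Finite A] (ρ : A →* MulAut P)

/-- **the abstract theorem**: a rank two `p`-group `P = [P, A]` (with `A` a `p'`-group of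
automorphisms) having a nontrivial fixed central element of order `p` is extraspecial of order
`p³` and exponent `p`, or `p = 3` and `P` has maximal class and order `3^(2k+1)`, `k ≥ 2` -/
theorem main {p : ℕ} [hp : Fact p.Prime] (hp2 : p ≠ 2) (n : ℕ) (hcard : Nat.card P = p ^ n)
    (hrk : PRankLE p 2 P) (hcop : (Nat.card A).Coprime p)
    (hgen : Subgroup.closure (commSet ρ) = ⊤) (x : P) (hxc : x ∈ Subgroup.center P)
    (hx1 : x ≠ 1) (hxp : x ^ p = 1) (hfix : ∀ a, ρ a x = x) :
    (IsExtraspecial p P ∧ Nat.card P = p ^ 3 ∧ ∀ y : P, y ^ p = 1) ∨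
    (p = 3 ∧ ∃ k, 2 ≤ k ∧ n = 2 * k + 1 ∧ (⊤ : Subgroup P).lowerCentralSeries (n - 2) ≠ ⊥) := by
  have hP : IsPGroup p P := IsPGroup.of_card hcard
  have hnm : ¬ IsMetacyclic P := fun hm => case_meta ρ hp2 hP hm hcop hgen x hx1 hfix
  -- the case of a normal subgroup of order p³ and exponent p
  have hEcase : ∀ E : Subgroup P, E.Normal → Nat.card E = p ^ 3 → (∀ e ∈ E, e ^ p = 1) →
      (IsExtraspecial p P ∧ Nat.card P = p ^ 3 ∧ ∀ y : P, y ^ p = 1) := by
    intro E hEn hE3 hEexp
    haveI := hEn
    have c : ECtx p P A ρ E x := ⟨hp2, hP, hrk, hEn, hE3, hEexp, hcop, hgen, hxc, hx1, hxp, hfix⟩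
    by_cases htop : E ⊔ Subgroup.centralizer (E : Set P) = ⊤
    · have hEtop := c.case_b htop
      obtain ⟨hnc, -⟩ := structE hp2 hP hrk E hE3 hEexp
      have hc3 : Nat.card P = p ^ 3 := by rw [← hE3, hEtop, Subgroup.card_top]
      have hexp : ∀ y : P, y ^ p = 1 := fun y => hEexp y (by rw [hEtop]; trivial)
      refine ⟨extraspecial_of_card_cube hc3 ?_ hexp, hc3, hexp⟩
      intro hab
      exact hnc (fun a _ b _ => hab a b)
    · exact (c.case_c htop).elim
  rcases blackburn_key hp2 n hcard hrk with h | ⟨E, hEn, hE3, hEexp⟩ | ⟨hp3, hn2, hmax⟩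
  · exact (hnm h).elim
  · exact Or.inl (hEcase E hEn hE3 hEexp)
  · subst hp3
    rcases Nat.lt_or_ge n 4 with hlt | hge
    · -- small cases
      have hidx_dvd : (powerClosure 3 1 (⊤ : Subgroup P)).index ∣ 3 ^ n := by
        rw [← hcard]; exact Subgroup.index_dvd_card _
      obtain ⟨j, hj, hjeq⟩ := (Nat.dvd_prime_pow Nat.prime_three).mp hidx_dvd
      by_cases hexp : ∀ y : P, y ^ 3 = 1
      · -- exponent three
        have hn3 : n = 3 := by
          by_contra hne
          have hn2' : n = 2 := by omega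
          apply hnm
          apply Metacyc.huppert (by norm_num) hP
          rw [hjeq]
          exact Nat.pow_le_pow_right (by norm_num) (by omega)
        left
        apply hEcase ⊤ inferInstance (by rw [Subgroup.card_top, hcard, hn3]) (fun e _ => hexp e)
      · exfalso
        push_neg at hexp
        obtain ⟨y, hy⟩ := hexp
        apply hnm
        apply Metacyc.huppert (by norm_num) hP
        rw [hjeq]
        apply Nat.pow_le_pow_right (by norm_num)
        by_contra hj2
        have hj3 : j = 3 ∧ n = 3 := by omega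
        -- index = |P| means the power closure is trivial
        have h1 := Subgroup.card_mul_index (powerClosure 3 1 (⊤ : Subgroup P))
        rw [hjeq, hj3.1, hcard, hj3.2] at h1
        have h2 : Nat.card ↥(powerClosure 3 1 (⊤ : Subgroup P)) = 1 := by
          have : Nat.card ↥(powerClosure 3 1 (⊤ : Subgroup P)) * 3 ^ 3 = 1 * 3 ^ 3 := by
            rw [h1, one_mul]
          exact Nat.eq_of_mul_eq_mul_right (by norm_num) this
        have h3 : powerClosure 3 1 (⊤ : Subgroup P) = ⊥ := Subgroup.card_eq_one.mp h2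
        have h4 : y ^ 3 ^ 1 ∈ powerClosure 3 1 (⊤ : Subgroup P) :=
          QR.pow_mem_powerClosure 1 (Subgroup.mem_top y)
        rw [h3, Subgroup.mem_bot, pow_one] at h4
        exact hy h4
    · right
      refine ⟨rfl, ?_⟩
      have hodd := case_maxclass ρ n hge hcard hmax hcop hgen x hxc hx1 hfix
      obtain ⟨k, hk⟩ := hodd
      exact ⟨k, by omega, hk, hmax⟩

end Act

end Cfsg.Agent.Lib.Helper1.Blk
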