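import Mathlib
import Cfsg.Agent.Lib.Helper1.Blk21
set_option autoImplicit false
set_option maxHeartbeats 4000000
set_option linter.unusedVariables false
set_option linter.unusedSectionVars false
set_option linter.style.longLine false
set_option linter.unusedSimpArgs false
set_option linter.deprecated false
set_option linter.style.haveILetI false
open scoped commutatorElement Pointwise
universe u v w
namespace Cfsg.Agent.Lib.Helper1.Blk

open Cfsg Cfsg.Agent.Lib.Helper1 Cfsg.Agent.Lib.Helper2 Cfsg.Agent.Lib.Helper3 Cfsg.Agent.Lib.Helper4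

variable {G : Type u} [Group G] [Finite G] {p : ℕ} [hp : Fact p.Prime]

section main
variable (hp2 : p ≠ 2) (hG : IsPGroup p G) (hrk : PRankLE p 2 G) (E : Subgroup G)
  [hEn : E.Normal] (hE3 : Nat.card E = p ^ 3) (hEexp : ∀ x ∈ E, x ^ p = 1)

include hp2 hG hrk hE3 hEexp in
/-- in type (c) all commutators lie in `A₀` -/
theorem comm_mem_A0_all (n : ℕ) (hn : Nat.card G = p ^ n)
    (hne : E ⊔ Subgroup.centralizer (E : Set G) ≠ ⊤) :
    ∃ A₀ : Subgroup G, A₀.Normal ∧ E ⊓ Subgroup.centralizer (E : Set G) ≤ A₀ ∧ A₀ ≤ E ∧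
      Nat.card A₀ = p ^ 2 ∧ ∀ u v : G, ⁅u, v⁆ ∈ A₀ := by
  obtain ⟨A₀, x₀, z, k, hA₀n, hZA, hAE, hA2, hx₀, hx₀A, hn4, hzB, hidx, hdec, hzp1, hZz, hzne,
    hzp, hsurj⟩ := structB hp2 hG hrk E hE3 hEexp n hn hne
  haveI := hA₀n
  obtain ⟨hnc, hZ, hZc, hcomm, -, hCZ, hcyc⟩ := structE hp2 hG hrk E hE3 hEexp
  refine ⟨A₀, hA₀n, hZA, hAE, hA2, ?_⟩
  set B := Subgroup.centralizer (A₀ : Set G) with hB
  have hA0c := A0_comm hG E hE3 A₀ hAE hA2
  have hAB : A₀ ≤ B := by
    intro a ha
    rw [hB, Subgroup.mem_centralizer_iff]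
    intro a' ha'
    exact hA0c a' ha' a ha
  have hBcomm : ∀ b ∈ B, ∀ b' ∈ B, b * b' = b' * b := by
    intro b hb b' hb'
    obtain ⟨a, ha, i, rfl⟩ := hdec b hb
    obtain ⟨a', ha', j, rfl⟩ := hdec b' hb'
    have hzi : z ^ i ∈ B := B.zpow_mem hzB i
    have hzj : z ^ j ∈ B := B.zpow_mem hzB j
    have h1 : a' * z ^ i = z ^ i * a' := Subgroup.mem_centralizer_iff.mp hzi a' ha'
    have h2 : a * z ^ j = z ^ j * a := Subgroup.mem_centralizer_iff.mp hzj a ha
    have h3 : a * a' = a' * a := hA0c a ha a' ha'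
    have h4 : z ^ i * z ^ j = z ^ j * z ^ i := by rw [← zpow_add, ← zpow_add, add_comm]
    calc a * z ^ i * (a' * z ^ j) = a * (z ^ i * a') * z ^ j := by group
      _ = a * (a' * z ^ i) * z ^ j := by rw [h1]
      _ = (a * a') * (z ^ i * z ^ j) := by group
      _ = (a' * a) * (z ^ j * z ^ i) := by rw [h3, h4]
      _ = a' * (a * z ^ j) * z ^ i := by group
      _ = a' * (z ^ j * a) * z ^ i := by rw [h2]
      _ = a' * z ^ j * (a * z ^ i) := by group
  have hx₀B : x₀ ∉ B := by
    intro h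
    apply hnc
    have hE : E = A₀ ⊔ Subgroup.zpowers x₀ := E_eq_sup hG E hE3 A₀ hAE hA2 x₀ hx₀ hx₀A
    have hEB : E ≤ B := by
      rw [hE]; exact sup_le hAB (by rw [Subgroup.zpowers_le]; exact h)
    intro e he e' he'
    exact hBcomm e (hEB he) e' (hEB he')
  haveI hBn : B.Normal := by rw [hB]; infer_instance
  have htop : B ⊔ Subgroup.zpowers x₀ = ⊤ :=
    sup_eq_top_of_index_prime hp.out hidx (by rw [Subgroup.zpowers_le]; exact hx₀B)
  set f := QuotientGroup.mk' A₀ with hf
  have hfc : ∀ u v : G, f u * f v = f v * f u ↔ ⁅u, v⁆ ∈ A₀ := by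
    intro u v
    constructor
    · intro h
      have : f ⁅u, v⁆ = 1 := by
        rw [map_commutatorElement, commutatorElement_eq_one_iff_mul_comm]; exact h
      rwa [hf, QuotientGroup.mk'_apply, QuotientGroup.eq_one_iff] at this
    · intro h
      have : f ⁅u, v⁆ = 1 := by
        rw [hf, QuotientGroup.mk'_apply, QuotientGroup.eq_one_iff]; exact h
      rwa [map_commutatorElement, commutatorElement_eq_one_iff_mul_comm] at this
  have hx₀c : ∀ v : G, f x₀ * f v = f v * f x₀ := by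
    intro v
    rw [hfc]
    exact comm_mem_A0 hG E hE3 A₀ hAE hA2 v x₀ hx₀
  have hBc : ∀ b ∈ B, ∀ v : G, f b * f v = f v * f b := by
    intro b hb v
    have hv : v ∈ (Subgroup.centralizer ({f b} : Set (G ⧸ A₀))).comap f := by
      have hle : B ⊔ Subgroup.zpowers x₀ ≤
          (Subgroup.centralizer ({f b} : Set (G ⧸ A₀))).comap f := by
        apply sup_le
        · intro b' hb'
          rw [Subgroup.mem_comap, Subgroup.mem_centralizer_singleton_iff, ← map_mul, ← map_mul,
            hBcomm b' hb' b hb]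
        · rw [Subgroup.zpowers_le, Subgroup.mem_comap, Subgroup.mem_centralizer_singleton_iff]
          exact hx₀c b
      rw [htop] at hle
      exact hle (Subgroup.mem_top v)
    rw [Subgroup.mem_comap, Subgroup.mem_centralizer_singleton_iff] at hv
    exact hv.symm
  intro u v
  rw [← hfc]
  have hu : u ∈ (Subgroup.center (G ⧸ A₀)).comap f := by
    have hle : B ⊔ Subgroup.zpowers x₀ ≤ (Subgroup.center (G ⧸ A₀)).comap f := by
      apply sup_le
      · intro b hb
        rw [Subgroup.mem_comap, Subgroup.mem_center_iff]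
        intro q
        obtain ⟨v, rfl⟩ := QuotientGroup.mk'_surjective A₀ q
        exact (hBc b hb v).symm
      · rw [Subgroup.zpowers_le, Subgroup.mem_comap, Subgroup.mem_center_iff]
        intro q
        obtain ⟨v, rfl⟩ := QuotientGroup.mk'_surjective A₀ q
        exact (hx₀c v).symm
    rw [htop] at hle
    exact hle (Subgroup.mem_top u)
  rw [Subgroup.mem_comap, Subgroup.mem_center_iff] at hu
  exact (hu (f v)).symm

include hp2 hG hrk hE3 hEexp in
/-- a rank two `p`-group with a normal subgroup `E` of order `p³` and exponent `p` has its derived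
subgroup inside a normal subgroup `A₀` of order `p²` of `E` containing `Z(E)` -/
theorem exists_A0_comm :
    ∃ A₀ : Subgroup G, A₀.Normal ∧ E ⊓ Subgroup.centralizer (E : Set G) ≤ A₀ ∧ A₀ ≤ E ∧
      Nat.card A₀ = p ^ 2 ∧ ∀ u v : G, ⁅u, v⁆ ∈ A₀ := by
  obtain ⟨n, hn⟩ := IsPGroup.iff_card.mp hG
  by_cases htop : E ⊔ Subgroup.centralizer (E : Set G) = ⊤
  · obtain ⟨hnc, hZ, hZc, hcomm, ⟨A₀, hA₀n, hZA, hAE, hA2⟩, hCZ, hcyc⟩ :=
      structE hp2 hG hrk E hE3 hEexp
    refine ⟨A₀, hA₀n, hZA, hAE, hA2, ?_⟩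
    set C := Subgroup.centralizer (E : Set G) with hC
    have hdec : ∀ u : G, ∃ e ∈ E, ∃ d ∈ C, u = e * d := by
      intro u
      have hu : u ∈ ((E ⊔ C : Subgroup G) : Set G) := by rw [htop]; trivial
      rw [Subgroup.normal_mul] at hu
      obtain ⟨e, he, d, hd, rfl⟩ := Set.mem_mul.mp hu
      exact ⟨e, he, d, hd, rfl⟩
    -- C is central
    have hCcomm : ∀ d ∈ C, ∀ d' ∈ C, d * d' = d' * d := by
      intro d hd d' hd'
      haveI := hcyc
      have := (IsCyclic.commGroup (α := ↥C)).mul_comm ⟨d, hd⟩ ⟨d', hd'⟩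
      exact congrArg Subtype.val this
    have hCcen : ∀ d ∈ C, ∀ v : G, d * v = v * d := by
      intro d hd v
      obtain ⟨e, he, d', hd', rfl⟩ := hdec v
      have h1 : e * d = d * e := Subgroup.mem_centralizer_iff.mp hd e he
      calc d * (e * d') = (d * e) * d' := by group
        _ = (e * d) * d' := by rw [h1]
        _ = e * (d * d') := by group
        _ = e * (d' * d) := by rw [hCcomm d hd d' hd']
        _ = e * d' * d := by group
    intro u v
    obtain ⟨e, he, d, hd, rfl⟩ := hdec u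
    obtain ⟨e', he', d', hd', rfl⟩ := hdec v
    rw [comm_mul_central_left _ _ _ (hCcen d hd),
      comm_mul_commute_right _ _ _ (hCcen d' hd' e).symm]
    exact hZA (hcomm e he e' he')
  · exact comm_mem_A0_all hp2 hG hrk E hE3 hEexp n hn htop

include hp2 hG hrk hE3 hEexp in
/-- commutators with elements of a normal subgroup of order `p²` between `Z(E)` and `E` lie in
`Z(E)` -/
theorem comm_A0_mem_Z (A₀ : Subgroup G) [hA₀n : A₀.Normal]
    (hZA : E ⊓ Subgroup.centralizer (E : Set G) ≤ A₀) (hAE : A₀ ≤ E) (hA2 : Nat.card A₀ = p ^ 2)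
    (a : G) (ha : a ∈ A₀) (g : G) : ⁅a, g⁆ ∈ E ⊓ Subgroup.centralizer (E : Set G) := by
  obtain ⟨hnc, hZ, hZc, hcomm, -, hCZ, hcyc⟩ := structE hp2 hG hrk E hE3 hEexp
  set Z := E ⊓ Subgroup.centralizer (E : Set G) with hZdef
  haveI hZn : Z.Normal := by
    constructor
    intro z hz g
    have := Subgroup.mem_center_iff.mp (hZc hz) g
    have h : g * z * g⁻¹ = z := by rw [this]; group
    rw [h]; exact hz
  set f := QuotientGroup.mk' Z with hf
  haveI : Group.IsNilpotent (G ⧸ Z) := (hG.to_quotient Z).isNilpotent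
  have hmapcard : Nat.card ↥(A₀.map f) = p := by
    have h1 := QR.card_eq_card_map_mul f A₀
    have h2 : A₀ ⊓ f.ker = Z := by
      rw [hf, QuotientGroup.ker_mk']; exact inf_eq_right.mpr hZA
    rw [h2, hZ, hA2] at h1
    have : Nat.card ↥(A₀.map f) * p = p * p := by rw [← h1]; ring
    exact Nat.eq_of_mul_eq_mul_right hp.out.pos this
  haveI : (A₀.map f).Normal := hA₀n.map f (QuotientGroup.mk'_surjective Z)
  have hcen := Rk.le_center_of_normal_card_prime (A₀.map f) hmapcard
  have h1 : f a ∈ Subgroup.center (G ⧸ Z) := hcen ⟨a, ha, rfl⟩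
  have h2 : f ⁅a, g⁆ = 1 := by
    rw [map_commutatorElement, commutatorElement_eq_one_iff_mul_comm]
    exact (Subgroup.mem_center_iff.mp h1 (f g)).symm
  rwa [hf, QuotientGroup.mk'_apply, QuotientGroup.eq_one_iff] at h2

end main

end Cfsg.Agent.Lib.Helper1.Blk
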