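import Mathlib
import Cfsg.Agent.Lib.Helper1.Blk22
import Cfsg.Agent.Lib.Helper1.FrattiniP
set_option autoImplicit false
set_option maxHeartbeats 4000000
set_option linter.unusedVariables false
set_option linter.unusedSectionVars false
set_option linter.style.longLine false
set_option linter.unusedSimpArgs false
set_option linter.deprecated false
set_option linter.style.haveILetI false
open scoped commutatorElement Pointwise
universe u v w
namespace Cfsg.Agent.Lib.Helper1.Blk

open Cfsg Cfsg.Agent.Lib.Helper1 Cfsg.Agent.Lib.Helper2 Cfsg.Agent.Lib.Helper3 Cfsg.Agent.Lib.Helper4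

variable {p : ℕ} [hp : Fact p.Prime]

/-- `D(W) = W' ℧₁(W)` -/
abbrev DD (p : ℕ) (W : Type u) [Group W] : Subgroup W :=
  commutator W ⊔ powerClosure p 1 (⊤ : Subgroup W)

theorem DD_normal (W : Type u) [Group W] : (DD p W).Normal := by
  haveI : (powerClosure p 1 (⊤ : Subgroup W)).Normal := Reg.powerClosure_normal p 1 ⊤
  exact Subgroup.sup_normal _ _

theorem card_le_of_index_le {W : Type u} [Group W] [Finite W] (H : Subgroup W)
    (hH : H ≤ DD p W) (hidx : H.index ≤ p ^ 2) :
    Nat.card W ≤ p ^ 2 * Nat.card ↥(DD p W) := by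
  rw [← Subgroup.index_mul_card H]
  exact Nat.mul_le_mul hidx (Subgroup.card_le_of_le hH)

theorem comm_mem_DD {W : Type u} [Group W] (a b : W) : ⁅a, b⁆ ∈ DD p W := by
  have h : ⁅a, b⁆ ∈ commutator W := by
    rw [commutator_def]
    exact Subgroup.commutator_mem_commutator (Subgroup.mem_top a) (Subgroup.mem_top b)
  exact (le_sup_left : commutator W ≤ DD p W) h

theorem pow_mem_DD {W : Type u} [Group W] (a : W) : a ^ p ∈ DD p W := by
  have := QR.pow_mem_powerClosure (p := p) 1 (K := (⊤ : Subgroup W)) (x := a) (Subgroup.mem_top _)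
  rw [pow_one] at this
  exact (le_sup_right : powerClosure p 1 (⊤ : Subgroup W) ≤ DD p W) this

/-- a rank-2 `p`-group (`p` odd) either has `d(W) ≤ 2` or has a characteristic subgroup
`E₀` of order `p³` and exponent `p` whose centre consists of `p`-th powers -/
theorem D_index_or {W : Type u} [Group W] [Finite W] (hp2 : p ≠ 2) (hW : IsPGroup p W)
    (hrk : PRankLE p 2 W) :
    Nat.card W ≤ p ^ 2 * Nat.card ↥(DD p W) ∨
    ∃ E₀ : Subgroup W, E₀.Characteristic ∧ Nat.card E₀ = p ^ 3 ∧ (∀ e ∈ E₀, e ^ p = 1) ∧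
      E₀ ⊓ Subgroup.centralizer (E₀ : Set W) ≤ powerClosure p 1 (⊤ : Subgroup W) := by
  obtain ⟨n, hn⟩ := IsPGroup.iff_card.mp hW
  rcases blackburn_key hp2 n hn hrk with hm | ⟨E, hEn, hE3, hEexp⟩ | ⟨hp3, hn2, hmax⟩
  · left
    apply card_le_of_index_le (powerClosure p 1 ⊤) le_sup_right
    exact index_powerClosure_le_of_metacyclic hm
  · haveI := hEn
    by_cases htop : E ⊔ Subgroup.centralizer (E : Set W) = ⊤
    · obtain ⟨z, c, hCz, hCcard, hzord, hzne, hzp, hZz⟩ := exists_gen_C hp2 hW hrk E hE3 hEexp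
      obtain ⟨hnc, hZ, hZc, hcomm, -, hCZ, hcyc⟩ := structE hp2 hW hrk E hE3 hEexp
      rcases Nat.eq_zero_or_pos c with hc0 | hcpos
      · left
        subst hc0
        have hDne : DD p W ≠ ⊥ := by
          intro hbot
          apply hnc
          intro x hx y hy
          have := comm_mem_DD (p := p) x y
          rw [hbot, Subgroup.mem_bot] at this
          exact commutatorElement_eq_one_iff_mul_comm.mp this
        have hCE : Subgroup.centralizer (E : Set W) ≤ E := by
          have : E ⊓ Subgroup.centralizer (E : Set W) = Subgroup.centralizer (E : Set W) := by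
            rw [hZz, hCz]; simp
          rw [← this]; exact inf_le_left
        have hEtop : E = ⊤ := by rw [← htop]; exact (sup_eq_left.mpr hCE).symm
        have hWcard : Nat.card W = p ^ 3 := by rw [← hE3, hEtop, Subgroup.card_top]
        have hDp : p ≤ Nat.card ↥(DD p W) := by
          obtain ⟨k, hk⟩ := IsPGroup.iff_card.mp (hW.to_subgroup (DD p W))
          rcases Nat.eq_zero_or_pos k with hk0 | hkpos
          · exfalso; apply hDne; rw [hk0, pow_zero] at hk; exact Subgroup.card_eq_one.mp hk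
          · rw [hk]
            calc p = p ^ 1 := (pow_one p).symm
              _ ≤ p ^ k := Nat.pow_le_pow_right hp.out.pos hkpos
        rw [hWcard, pow_succ]
        exact Nat.mul_le_mul_left _ hDp
      · right
        refine ⟨E, ?_, hE3, hEexp, ?_⟩
        · rw [Subgroup.characteristic_iff_comap_le]
          intro φ u hu
          rw [Subgroup.mem_comap] at hu
          have hup : u ^ p = 1 := by
            have h1 := hEexp _ hu
            apply φ.injective
            rw [map_one, map_pow]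
            exact h1
          have hu' : u ∈ E ⊔ Subgroup.centralizer (E : Set W) := by
            rw [htop]; exact Subgroup.mem_top u
          rw [← SetLike.mem_coe, Subgroup.normal_mul] at hu'
          obtain ⟨e, he, c', hc', rfl⟩ := Set.mem_mul.mp hu'
          have hcomm' : Commute e c' := (Subgroup.mem_centralizer_iff.mp hc' e he)
          rw [hcomm'.mul_pow, hEexp e he, one_mul] at hup
          have := hCZ c' hc' hup
          exact E.mul_mem he this.1
        · rw [hZz, Subgroup.zpowers_le]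
          obtain ⟨c', rfl⟩ : ∃ c', c = c' + 1 := ⟨c - 1, by omega⟩
          rw [pow_succ, pow_mul]
          have := QR.pow_mem_powerClosure (p := p) 1 (K := (⊤ : Subgroup W)) (x := z ^ p ^ c')
            (Subgroup.mem_top _)
          simpa using this
    · left
      obtain ⟨A₀, x₀, z, k, hA₀n, hZA, hAE, hA2, hx₀, hx₀A, hn4, hzB, hidx, hdec, hzp1, hZz, hzne,
        hzp, hsurj⟩ := structB hp2 hW hrk E hE3 hEexp n hn htop
      haveI := hA₀n
      haveI hDn : (DD p W).Normal := DD_normal W
      set B := Subgroup.centralizer (A₀ : Set W) with hB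
      have hAD : A₀ ≤ DD p W := by
        intro a ha
        obtain ⟨b, hb, rfl⟩ := hsurj a ha
        exact comm_mem_DD b x₀
      have hzD : z ^ p ∈ DD p W := pow_mem_DD z
      obtain ⟨f, hf⟩ : ∃ f : W →* W ⧸ DD p W, f = QuotientGroup.mk' (DD p W) := ⟨_, rfl⟩
      have hmap : B.map f ≤ Subgroup.zpowers (f z) := by
        rintro _ ⟨b, hb, rfl⟩
        obtain ⟨a, ha, i, rfl⟩ := hdec b hb
        rw [map_mul, map_zpow]
        have : f a = 1 := by
          rw [hf, QuotientGroup.mk'_apply, QuotientGroup.eq_one_iff]; exact hAD ha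
        rw [this, one_mul]
        exact Subgroup.zpow_mem_zpowers _ _
      have hfz : (f z) ^ p = 1 := by
        rw [← map_pow, hf, QuotientGroup.mk'_apply, QuotientGroup.eq_one_iff]; exact hzD
      have hcz : Nat.card ↥(Subgroup.zpowers (f z)) ≤ p := by
        rw [Nat.card_zpowers]
        exact orderOf_le_of_pow_eq_one hp.out.pos hfz
      have h1 := QR.card_eq_card_map_mul f B
      have h2 : Nat.card ↥(B ⊓ f.ker : Subgroup W) ≤ Nat.card ↥(DD p W) := by
        apply Subgroup.card_le_of_le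
        rw [hf, QuotientGroup.ker_mk']
        exact inf_le_right
      have h3 : Nat.card ↥(B.map f) ≤ p := le_trans (Subgroup.card_le_of_le hmap) hcz
      have h4 : Nat.card B ≤ p * Nat.card ↥(DD p W) := by rw [h1]; exact Nat.mul_le_mul h3 h2
      rw [← Subgroup.index_mul_card B, hidx, pow_two, mul_assoc]
      exact Nat.mul_le_mul_left _ h4
  · left
    have := index_commutator_of_maxclass (p := p) n hn2 W hn hmax
    apply card_le_of_index_le (commutator W) le_sup_left
    rw [this]

theorem lcs_two_eq_bot_of_card_le {Q : Type u} [Group Q] [Finite Q] (hQ : IsPGroup p Q)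
    (h : Nat.card Q ≤ p ^ 3) : (⊤ : Subgroup Q).lowerCentralSeries 2 = ⊥ := by
  obtain ⟨k, hk⟩ := IsPGroup.iff_card.mp hQ
  have hk3 : k ≤ 3 := by rw [hk] at h; exact (Nat.pow_le_pow_iff_right hp.out.one_lt).mp h
  rcases Nat.lt_or_ge k 3 with hlt | hge
  · have hc : IsMulCommutative Q := Metacyc.isMulCommutative_of_card_le_sq hQ
      (by rw [hk]; exact Nat.pow_le_pow_right hp.out.pos (by omega))
    rw [Subgroup.lowerCentralSeries_succ, Subgroup.commutator_eq_bot_iff_le_centralizer]
    intro a _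
    rw [Subgroup.mem_centralizer_iff]
    intro b _
    exact hc.is_comm.comm b a
  · have : k = 3 := by omega
    subst this
    exact lcs_eq_bot_of_card_pow (p := p) 3 (by norm_num) Q hk

theorem iterate_mem_lcs {P : Type u} [Group P] (z y : P) (k : ℕ) :
    (fun y : P => y⁻¹ * z⁻¹ * y * z)^[k] y ∈ (⊤ : Subgroup P).lowerCentralSeries k := by
  induction k with
  | zero => simp [Subgroup.lowerCentralSeries_zero]
  | succ k ih =>
    rw [Function.iterate_succ_apply', Subgroup.lowerCentralSeries_succ]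
    obtain ⟨c, hc⟩ : ∃ c, c = (fun y : P => y⁻¹ * z⁻¹ * y * z)^[k] y := ⟨_, rfl⟩
    rw [← hc] at ih ⊢
    have : c⁻¹ * z⁻¹ * c * z = ⁅c⁻¹, z⁻¹⁆ := by rw [commutatorElement_def]; group
    show c⁻¹ * z⁻¹ * c * z ∈ _
    rw [this]
    exact Subgroup.commutator_mem_commutator (inv_mem ih) (Subgroup.mem_top _)

/-- (★): in a rank-2 `p`-group `P` (`p` odd) the iterated commutator `[y, z; p-1]` lies in the
Frattini subgroup of every maximal subgroup. -/
theorem iter_comm_mem_frattini {P : Type u} [Group P] [Finite P] (hp2 : p ≠ 2)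
    (hP : IsPGroup p P) (hrk : PRankLE p 2 P) (W₀ : Subgroup P) (hW₀ : IsCoatom W₀) (y z : P) :
    (fun y : P => y⁻¹ * z⁻¹ * y * z)^[p - 1] y ∈ (frattini ↥W₀).map W₀.subtype := by
  haveI hW₀n : W₀.Normal := normal_of_isCoatom_of_isPGroup p hP W₀ hW₀
  have hidx : W₀.index = p := index_eq_prime_of_isCoatom p hP W₀ hW₀
  obtain ⟨F, hF⟩ : ∃ F : Subgroup P, F = (frattini ↥W₀).map W₀.subtype := ⟨_, rfl⟩
  rw [← hF]
  haveI hFn : F.Normal := by rw [hF]; exact ConjAct.normal_of_characteristic_of_normal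
  have hW₀p : IsPGroup p ↥W₀ := hP.to_subgroup W₀
  have hrk₀ : PRankLE p 2 ↥W₀ := Rk.pRankLE_subgroup hrk W₀
  have hDle : DD p ↥W₀ ≤ frattini ↥W₀ := by
    apply sup_le
    · exact commutator_le_frattini_of_isPGroup p hW₀p
    · apply QR.powerClosure_le_of
      intro x _
      rw [pow_one]
      exact pow_prime_mem_frattini_of_isPGroup p hW₀p x
  have hp3 : 2 ≤ p - 1 := by
    have := hp.out.two_le; omega
  rcases D_index_or hp2 hW₀p hrk₀ with hI | ⟨E₀, hE₀c, hE₀3, hE₀exp, hE₀Z⟩
  · have hcardF : Nat.card F = Nat.card ↥(frattini ↥W₀) := by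
      rw [hF]; exact Subgroup.card_map_of_injective W₀.subtype_injective
    have h1 : Nat.card P = p * Nat.card ↥W₀ := by rw [← hidx, Subgroup.index_mul_card]
    have h2 : Nat.card ↥W₀ ≤ p ^ 2 * Nat.card F := by
      rw [hcardF]; exact le_trans hI (Nat.mul_le_mul_left _ (Subgroup.card_le_of_le hDle))
    have h3 : Nat.card P = Nat.card (P ⧸ F) * Nat.card F :=
      Subgroup.card_eq_card_quotient_mul_card_subgroup F
    have hFpos : 0 < Nat.card F := Nat.card_pos
    have h4 : Nat.card (P ⧸ F) ≤ p ^ 3 := by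
      have : Nat.card (P ⧸ F) * Nat.card F ≤ p ^ 3 * Nat.card F := by
        rw [← h3, h1, pow_succ' p 2, mul_assoc]
        exact Nat.mul_le_mul_left _ h2
      exact Nat.le_of_mul_le_mul_right this hFpos
    have hQ : IsPGroup p (P ⧸ F) := hP.to_quotient F
    have h5 := lcs_two_eq_bot_of_card_le hQ h4
    have h6 : (⊤ : Subgroup P).lowerCentralSeries 2 ≤ F := by
      intro w hw
      have : (QuotientGroup.mk' F) w ∈
          ((⊤ : Subgroup P).lowerCentralSeries 2).map (QuotientGroup.mk' F) := ⟨w, hw, rfl⟩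
      rw [lcs_map (QuotientGroup.mk' F) (QuotientGroup.mk'_surjective _), h5, Subgroup.mem_bot,
        QuotientGroup.mk'_apply, QuotientGroup.eq_one_iff] at this
      exact this
    exact h6 (Subgroup.lowerCentralSeries_antitone _ hp3 (iterate_mem_lcs z y (p - 1)))
  · haveI := hE₀c
    obtain ⟨E, hE⟩ : ∃ E : Subgroup P, E = E₀.map W₀.subtype := ⟨_, rfl⟩
    haveI hEn : E.Normal := by rw [hE]; exact ConjAct.normal_of_characteristic_of_normal
    have hE3 : Nat.card E = p ^ 3 := by
      rw [← hE₀3, hE]; exact Subgroup.card_map_of_injective W₀.subtype_injective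
    have hEexp : ∀ e ∈ E, e ^ p = 1 := by
      rw [hE]
      rintro _ ⟨e₀, he₀, rfl⟩
      rw [← map_pow, hE₀exp e₀ he₀, map_one]
    obtain ⟨A₀, hA₀n, hZA, hAE, hA2, hall⟩ := exists_A0_comm hp2 hP hrk E hE3 hEexp
    haveI := hA₀n
    have hZF : E ⊓ Subgroup.centralizer (E : Set P) ≤ F := by
      rintro w ⟨hwE, hwC⟩
      rw [hE] at hwE
      obtain ⟨w₀, hw₀, rfl⟩ := hwE
      rw [hF]
      refine ⟨w₀, hDle ((le_sup_right : powerClosure p 1 (⊤ : Subgroup ↥W₀) ≤ DD p ↥W₀)
        (hE₀Z ⟨hw₀, ?_⟩)), rfl⟩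
      show w₀ ∈ Subgroup.centralizer (E₀ : Set ↥W₀)
      rw [Subgroup.mem_centralizer_iff]
      intro e he
      apply Subtype.ext
      have := Subgroup.mem_centralizer_iff.mp hwC (W₀.subtype e) (by rw [hE]; exact ⟨e, he, rfl⟩)
      simpa using this
    have key : ∀ k, 2 ≤ k → (fun y : P => y⁻¹ * z⁻¹ * y * z)^[k] y ∈
        E ⊓ Subgroup.centralizer (E : Set P) := by
      intro k hk
      induction k, hk using Nat.le_induction with
      | base =>
        rw [Function.iterate_succ_apply', Function.iterate_succ_apply', Function.iterate_zero, id]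
        show (y⁻¹ * z⁻¹ * y * z)⁻¹ * z⁻¹ * (y⁻¹ * z⁻¹ * y * z) * z ∈ _
        have h1 : y⁻¹ * z⁻¹ * y * z = ⁅y⁻¹, z⁻¹⁆ := by rw [commutatorElement_def]; group
        have h2 : (y⁻¹ * z⁻¹ * y * z)⁻¹ * z⁻¹ * (y⁻¹ * z⁻¹ * y * z) * z =
            ⁅(y⁻¹ * z⁻¹ * y * z)⁻¹, z⁻¹⁆ := by rw [commutatorElement_def]; group
        rw [h2]
        apply comm_A0_mem_Z hp2 hP hrk E hE3 hEexp A₀ hZA hAE hA2
        rw [h1]; exact inv_mem (hall _ _)
      | succ k hk ih =>
        rw [Function.iterate_succ_apply']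
        obtain ⟨c, hc⟩ : ∃ c, c = (fun y : P => y⁻¹ * z⁻¹ * y * z)^[k] y := ⟨_, rfl⟩
        rw [← hc] at ih ⊢
        show c⁻¹ * z⁻¹ * c * z ∈ _
        have h2 : c⁻¹ * z⁻¹ * c * z = ⁅c⁻¹, z⁻¹⁆ := by rw [commutatorElement_def]; group
        rw [h2]
        apply comm_A0_mem_Z hp2 hP hrk E hE3 hEexp A₀ hZA hAE hA2
        exact inv_mem (hZA ih)
    exact hZF (key (p - 1) hp3)

end Cfsg.Agent.Lib.Helper1.Blk
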