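import Mathlib
import Cfsg.Prelude.Def_Transfer
import Cfsg.Agent.Lib.Helper1.Gaschutz2
import Cfsg.Agent.Lib.Helper1.PResidual
set_option autoImplicit false
open scoped Pointwise IsMulCommutative commutatorElement
universe u
namespace Cfsg.Agent.Lib.Helper1.TateGen

variable {G : Type u} [Group G] [Finite G] {p : ℕ} [hp : Fact p.Prime]

/-- every homomorphism from `H` into a commutative group of exponent `p` extends to `G` -/
def ExtElem (p : ℕ) (H : Subgroup G) : Prop :=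
  ∀ (A : Type u) [CommGroup A], (∀ a : A, a ^ p = 1) → ∀ δ : ↥H →* A,
    ∃ δ' : G →* A, ∀ h : ↥H, δ' (h : G) = δ h

theorem extend_step (H : Subgroup G) (hidx : ¬ p ∣ H.index) (hext : ExtElem p H)
    (R : Type u) [Group R] [Finite R] (z : R) (hz : z ∈ Subgroup.center R) (hzp : z ^ p = 1)
    [hZn : (Subgroup.zpowers z).Normal]
    (ψ : ↥H →* R) (φ : G →* R ⧸ Subgroup.zpowers z)
    (hφ : ∀ h : ↥H, φ (h : G) = QuotientGroup.mk (ψ h)) :
    ∃ ψ' : G →* R, ∀ h : ↥H, ψ' (h : G) = ψ h := by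
  classical
  obtain ⟨Z, hZ⟩ : ∃ Z : Subgroup R, Z = Subgroup.zpowers z := ⟨_, rfl⟩
  subst hZ
  have hZc : ∀ r ∈ Subgroup.zpowers z, ∀ s : R, s * r = r * s := by
    intro r hr s
    obtain ⟨k, rfl⟩ := Subgroup.mem_zpowers_iff.mp hr
    have hzc : z ^ k ∈ Subgroup.center R := Subgroup.zpow_mem _ hz k
    exact (Subgroup.mem_center_iff.mp hzc s)
  have hZp : ∀ r ∈ Subgroup.zpowers z, r ^ p = 1 := by
    intro r hr
    obtain ⟨k, rfl⟩ := Subgroup.mem_zpowers_iff.mp hr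
    rw [← zpow_natCast, ← zpow_mul, mul_comm, zpow_mul, zpow_natCast, hzp, one_zpow]
  let E : Subgroup (G × R) :=
    MonoidHom.eqLocus (φ.comp (MonoidHom.fst G R))
      ((QuotientGroup.mk' (Subgroup.zpowers z)).comp (MonoidHom.snd G R))
  have hmemE : ∀ w : G × R, w ∈ E ↔ φ w.1 = (QuotientGroup.mk w.2 : R ⧸ Subgroup.zpowers z) :=
    fun w => Iff.rfl
  let fE : ↥E →* G := (MonoidHom.fst G R).comp E.subtype
  let sE : ↥E →* R := (MonoidHom.snd G R).comp E.subtype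
  have hfE : ∀ e : ↥E, fE e = e.1.1 := fun e => rfl
  have hsE : ∀ e : ↥E, sE e = e.1.2 := fun e => rfl
  have hext2 : ∀ e e' : ↥E, fE e = fE e' → sE e = sE e' → e = e' := by
    intro e e' h1 h2
    apply Subtype.ext
    exact Prod.ext h1 h2
  let K : Subgroup ↥E := fE.ker
  have hKZ : ∀ k ∈ K, sE k ∈ Subgroup.zpowers z := by
    intro k hk
    have h1 : fE k = 1 := hk
    have h2 := (hmemE k.1).mp k.2
    rw [← hfE, h1, map_one] at h2
    rw [hsE]
    exact (QuotientGroup.eq_one_iff _).mp h2.symm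
  have hKc : IsMulCommutative K := ⟨⟨fun a b => by
    apply Subtype.ext
    apply hext2
    · rw [Subgroup.coe_mul, Subgroup.coe_mul, map_mul, map_mul]
      have ha : fE a.1 = 1 := a.2
      have hb : fE b.1 = 1 := b.2
      rw [ha, hb]
    · rw [Subgroup.coe_mul, Subgroup.coe_mul, map_mul, map_mul]
      exact hZc _ (hKZ b.1 b.2) _⟩⟩
  have hKp : IsPGroup p ↥K := by
    intro k
    refine ⟨1, ?_⟩
    apply Subtype.ext
    apply hext2
    · rw [Subgroup.coe_pow, map_pow, Subgroup.coe_one, map_one]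
      have hk : fE k.1 = 1 := k.2
      rw [hk, one_pow]
    · rw [Subgroup.coe_pow, map_pow, Subgroup.coe_one, map_one, pow_one]
      exact hZp _ (hKZ k.1 k.2)
  let γ : ↥H →* ↥E :=
    (MonoidHom.prod H.subtype ψ).codRestrict E (fun h => by
      rw [hmemE]
      exact hφ h)
  have hfγ : ∀ y : ↥H, fE (γ y) = (y : G) := fun y => rfl
  have hsγ : ∀ y : ↥H, sE (γ y) = ψ y := fun y => rfl
  let A : Subgroup ↥E := γ.range
  let U : Subgroup ↥E := H.comap fE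
  have hAK : A ⊓ K = ⊥ := by
    rw [eq_bot_iff]
    rintro e ⟨⟨y, rfl⟩, hK⟩
    have h1 : fE (γ y) = 1 := hK
    rw [hfγ] at h1
    have h2 : y = 1 := Subtype.ext h1
    rw [h2, map_one]
    exact Subgroup.mem_bot.mpr rfl
  have hU : K ⊔ A = U := by
    apply le_antisymm
    · apply sup_le
      · intro k hk
        have h1 : fE k = 1 := hk
        show fE k ∈ H
        rw [h1]; exact H.one_mem
      · rintro _ ⟨y, rfl⟩
        show fE (γ y) ∈ H
        rw [hfγ]; exact y.2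
    · intro e he
      have he' : fE e ∈ H := he
      have h1 : e = (e * (γ ⟨fE e, he'⟩)⁻¹) * γ ⟨fE e, he'⟩ := by group
      rw [h1]
      apply Subgroup.mul_mem_sup
      · show fE (e * (γ ⟨fE e, he'⟩)⁻¹) = 1
        rw [map_mul, map_inv, hfγ]
        exact mul_inv_cancel _
      · exact ⟨_, rfl⟩
  have hcop : (Nat.card K).Coprime U.index := by
    obtain ⟨n, hn⟩ := IsPGroup.iff_card.mp hKp
    rw [hn]
    apply Nat.Coprime.pow_left
    rw [hp.out.coprime_iff_not_dvd]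
    intro hdvd
    have h1 : U.index = H.relIndex fE.range := Subgroup.index_comap H fE
    have h2 : H ≤ fE.range := by
      intro y hy
      exact ⟨γ ⟨y, hy⟩, rfl⟩
    have h3 : H.relIndex fE.range ∣ H.index :=
      Dvd.intro _ (Subgroup.relIndex_mul_index h2)
    rw [h1] at hdvd
    exact hidx (hdvd.trans h3)
  obtain ⟨C, hKC⟩ := Gaschutz.gaschutz_exists (K := K) (A := A) U hcop hAK hU
  have hdisj : K ⊓ C = ⊥ := hKC.disjoint.eq_bot
  have hdecomp : ∀ e : ↥E, ∃ k ∈ K, ∃ c ∈ C, k * c = e := by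
    intro e
    obtain ⟨⟨k, h⟩, hkh, -⟩ := (Subgroup.isComplement_iff_existsUnique.mp hKC e)
    exact ⟨k.1, k.2, h.1, h.2, hkh⟩
  have hsurj : ∀ g : G, ∃ c : ↥E, c ∈ C ∧ fE c = g := by
    intro g
    obtain ⟨r, hr⟩ := QuotientGroup.mk_surjective (φ g)
    have he : ((g, r) : G × R) ∈ E := by rw [hmemE]; exact hr.symm
    obtain ⟨k, hk, c, hc, hkc⟩ := hdecomp ⟨(g, r), he⟩
    refine ⟨c, hc, ?_⟩
    have h0 : fE ⟨(g, r), he⟩ = g := rfl
    have hk1 : fE k = 1 := hk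
    rw [← h0, ← hkc, map_mul, hk1, one_mul]
  have hinj : ∀ c ∈ C, ∀ c' ∈ C, fE c = fE c' → c = c' := by
    intro c hc c' hc' h
    have h1 : c * c'⁻¹ ∈ K ⊓ C := by
      refine Subgroup.mem_inf.mpr ⟨?_, C.mul_mem hc (C.inv_mem hc')⟩
      show fE (c * c'⁻¹) = 1
      rw [map_mul, map_inv, h, mul_inv_cancel]
    rw [hdisj, Subgroup.mem_bot] at h1
    exact mul_inv_eq_one.mp h1
  choose s hsC hsf using hsurj
  have hs_mul : ∀ a b : G, s (a * b) = s a * s b := by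
    intro a b
    apply hinj _ (hsC _) _ (C.mul_mem (hsC a) (hsC b))
    rw [hsf, map_mul, hsf, hsf]
  let θ : G →* R := MonoidHom.mk' (fun g => sE (s g)) (by
    intro a b
    show sE (s (a * b)) = sE (s a) * sE (s b)
    rw [hs_mul, map_mul])
  have hθ : ∀ g, θ g = sE (s g) := fun g => rfl
  have hθφ : ∀ g : G, (QuotientGroup.mk (θ g) : R ⧸ Subgroup.zpowers z) = φ g := by
    intro g
    have h1 := (hmemE (s g).1).mp (s g).2
    rw [← hfE, hsf] at h1
    rw [h1, hθ, hsE]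
  have hδZ : ∀ h : ↥H, θ (h : G) * (ψ h)⁻¹ ∈ Subgroup.zpowers z := by
    intro h
    rw [← QuotientGroup.eq_one_iff, QuotientGroup.mk_mul, QuotientGroup.mk_inv, hθφ, hφ,
      mul_inv_cancel]
  let δ : ↥H →* ↥(Subgroup.zpowers z) := MonoidHom.mk' (fun h => ⟨θ (h : G) * (ψ h)⁻¹, hδZ h⟩) (by
    intro a b
    apply Subtype.ext
    show θ ((a * b : ↥H) : G) * (ψ (a * b))⁻¹ = (θ (a : G) * (ψ a)⁻¹) * (θ (b : G) * (ψ b)⁻¹)
    rw [Subgroup.coe_mul, map_mul, map_mul, mul_inv_rev]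
    have h1 : θ (a : G) * θ (b : G) * ((ψ b)⁻¹ * (ψ a)⁻¹)
        = θ (a : G) * (θ (b : G) * (ψ b)⁻¹) * (ψ a)⁻¹ := by group
    rw [h1, hZc _ (hδZ b) (θ (a : G)), mul_assoc, hZc _ (hδZ b) _])
  have hδ : ∀ h : ↥H, ((δ h : ↥(Subgroup.zpowers z)) : R) = θ (h : G) * (ψ h)⁻¹ := fun h => rfl
  let _ : CommGroup ↥(Subgroup.zpowers z) :=
    { (inferInstance : Group ↥(Subgroup.zpowers z)) with
      mul_comm := fun a b => Subtype.ext (hZc _ b.2 _) }
  obtain ⟨δ', hδ'⟩ := hext ↥(Subgroup.zpowers z)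
    (fun a => Subtype.ext (by rw [Subgroup.coe_pow]; exact hZp _ a.2)) δ
  refine ⟨MonoidHom.mk' (fun g => ((δ' g : ↥(Subgroup.zpowers z)) : R)⁻¹ * θ g) ?_, ?_⟩
  · intro a b
    show ((δ' (a * b) : ↥(Subgroup.zpowers z)) : R)⁻¹ * θ (a * b)
      = (((δ' a : ↥(Subgroup.zpowers z)) : R)⁻¹ * θ a) * (((δ' b : ↥(Subgroup.zpowers z)) : R)⁻¹ * θ b)
    rw [map_mul, map_mul, Subgroup.coe_mul, mul_inv_rev]
    have hb : ((δ' b : ↥(Subgroup.zpowers z)) : R)⁻¹ ∈ Subgroup.zpowers z :=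
      Subgroup.inv_mem _ (δ' b).2
    have h1 : ((δ' b : ↥(Subgroup.zpowers z)) : R)⁻¹ * ((δ' a : ↥(Subgroup.zpowers z)) : R)⁻¹
        * (θ a * θ b) = ((δ' b : ↥(Subgroup.zpowers z)) : R)⁻¹ *
          (((δ' a : ↥(Subgroup.zpowers z)) : R)⁻¹ * θ a) * θ b := by group
    rw [h1, ← hZc _ hb, mul_assoc, mul_assoc]
  · intro h
    show ((δ' (h : G) : ↥(Subgroup.zpowers z)) : R)⁻¹ * θ (h : G) = ψ h
    rw [hδ', hδ]
    group

end Cfsg.Agent.Lib.Helper1.TateGen
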