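import Mathlib
import Cfsg.Prelude.Def_Transfer
import Cfsg.Agent.Lib.Helper1.TateGen1
set_option autoImplicit false
open scoped Pointwise IsMulCommutative commutatorElement
universe u
namespace Cfsg.Agent.Lib.Helper1.TateGen

variable {G : Type u} [Group G] [Finite G] {p : ℕ} [hp : Fact p.Prime]

/-- **Tate's theorem**, extension form: if `H` has index prime to `p` and every homomorphism from
`H` to an elementary abelian `p`-group extends to `G`, then every homomorphism from `H` to a finite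
`p`-group extends to `G`. -/
theorem extend_hom (H : Subgroup G) (hidx : ¬ p ∣ H.index) (hext : ExtElem p H) :
    ∀ (n : ℕ) (R : Type u) [Group R] [Finite R], Nat.card R = p ^ n → ∀ ψ : ↥H →* R,
      ∃ ψ' : G →* R, ∀ h : ↥H, ψ' (h : G) = ψ h := by
  intro n
  induction n with
  | zero =>
    intro R _ _ hcard ψ
    rw [pow_zero] at hcard
    have hsub : Subsingleton R := (Nat.card_eq_one_iff_unique.mp hcard).1
    exact ⟨1, fun h => Subsingleton.elim _ _⟩
  | succ n ih =>
    intro R _ _ hcard ψ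
    have hRp : IsPGroup p R := IsPGroup.of_card hcard
    have hnt : Nontrivial R := by
      rw [← Finite.one_lt_card_iff_nontrivial, hcard]
      exact Nat.one_lt_pow (Nat.succ_ne_zero n) hp.out.one_lt
    have hcn : Nontrivial (Subgroup.center R) := hRp.center_nontrivial
    obtain ⟨k, hk⟩ := IsPGroup.iff_card.mp (hRp.to_subgroup (Subgroup.center R))
    have hk0 : k ≠ 0 := by
      rintro rfl
      rw [pow_zero] at hk
      have := (Nat.card_eq_one_iff_unique.mp hk).1
      exact not_subsingleton _ this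
    obtain ⟨z, hz⟩ := exists_prime_orderOf_dvd_card' (G := Subgroup.center R) p
      (hk ▸ dvd_pow_self p hk0)
    have hzo : orderOf (z : R) = p := by rw [Subgroup.orderOf_coe]; exact hz
    have hzp : (z : R) ^ p = 1 := by rw [← hzo]; exact pow_orderOf_eq_one _
    have hZc : ∀ r ∈ Subgroup.zpowers (z : R), ∀ s : R, s * r = r * s := by
      intro r hr s
      obtain ⟨j, rfl⟩ := Subgroup.mem_zpowers_iff.mp hr
      have hzc : (z : R) ^ j ∈ Subgroup.center R := Subgroup.zpow_mem _ z.2 j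
      exact (Subgroup.mem_center_iff.mp hzc s)
    have hZn : (Subgroup.zpowers (z : R)).Normal := ⟨fun r hr g => by
      rw [hZc r hr g, mul_inv_cancel_right]
      exact hr⟩
    have hcardZ : Nat.card (Subgroup.zpowers (z : R)) = p := by rw [Nat.card_zpowers, hzo]
    have hcardQ : Nat.card (R ⧸ Subgroup.zpowers (z : R)) = p ^ n := by
      have h1 := Subgroup.card_eq_card_quotient_mul_card_subgroup (Subgroup.zpowers (z : R))
      rw [hcard, hcardZ, pow_succ] at h1
      exact (Nat.eq_of_mul_eq_mul_right hp.out.pos h1).symm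
    obtain ⟨φ, hφ⟩ := ih (R ⧸ Subgroup.zpowers (z : R)) hcardQ
      ((QuotientGroup.mk' (Subgroup.zpowers (z : R))).comp ψ)
    exact extend_step H hidx hext R (z : R) z.2 hzp ψ φ hφ

/-- `O^p(G) ∩ H ≤ O^p(H)` under the elementary extension property. -/
theorem pResidual_inf_le (H : Subgroup G) (hidx : ¬ p ∣ H.index) (hext : ExtElem p H) :
    Cfsg.pResidual p G ⊓ H ≤ (Cfsg.pResidual p ↥H).map H.subtype := by
  obtain ⟨n, hn⟩ := IsPGroup.iff_card.mp (isPGroup_quotient_pResidual (G := ↥H) p)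
  obtain ⟨ψ', hψ'⟩ := extend_hom H hidx hext n (↥H ⧸ Cfsg.pResidual p ↥H) hn
    (QuotientGroup.mk' (Cfsg.pResidual p ↥H))
  have hker : Cfsg.pResidual p G ≤ ψ'.ker := by
    show Subgroup.closure {g : G | Nat.Coprime (orderOf g) p} ≤ _
    rw [Subgroup.closure_le]
    intro g hg
    have hg' : (orderOf g).Coprime p := hg
    rw [SetLike.mem_coe, MonoidHom.mem_ker, ← orderOf_eq_one_iff]
    obtain ⟨k, hk⟩ := (isPGroup_quotient_pResidual (G := ↥H) p) (ψ' g)
    have h1 : orderOf (ψ' g) ∣ orderOf g := orderOf_dvd_of_pow_eq_one (by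
      rw [← map_pow, pow_orderOf_eq_one, map_one])
    have h2 : orderOf (ψ' g) ∣ p ^ k := orderOf_dvd_of_pow_eq_one hk
    exact Nat.eq_one_of_dvd_coprimes (hg'.pow_right k) h1 h2
  rintro x ⟨hx1, hx2⟩
  have h1 : ψ' x = 1 := hker hx1
  have h2 := hψ' ⟨x, hx2⟩
  rw [h1] at h2
  refine ⟨⟨x, hx2⟩, ?_, rfl⟩
  exact (QuotientGroup.eq_one_iff _).mp h2.symm

/-- `P ∩ G' ≤ H'` under the elementary extension property. -/
theorem sylow_inf_commutator_le (H : Subgroup G) (P : Sylow p G) (hPH : (P : Subgroup G) ≤ H)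
    (hext : ExtElem p H) :
    (P : Subgroup G) ⊓ commutator G ≤ ⁅H, H⁆ := by
  classical
  have hidx : ¬ p ∣ H.index := fun h =>
    P.not_dvd_index (h.trans (Subgroup.index_dvd_of_le hPH))
  have hpos : Nat.card (Abelianization ↥H) ≠ 0 := Nat.card_pos.ne'
  obtain ⟨k, m, hm, hkm⟩ := Nat.exists_eq_pow_mul_and_not_dvd hpos p hp.out.ne_one
  let ψ0 : ↥H →* Abelianization ↥H := (powMonoidHom m).comp Abelianization.of
  have hψ0 : ∀ h : ↥H, ψ0 h = (Abelianization.of h) ^ m := fun h => rfl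
  have hRp : IsPGroup p ↥ψ0.range := by
    rintro ⟨_, ⟨h, rfl⟩⟩
    refine ⟨k, ?_⟩
    apply Subtype.ext
    rw [Subgroup.coe_pow, Subgroup.coe_one]
    show (ψ0 h) ^ (p ^ k) = 1
    rw [hψ0, ← pow_mul, mul_comm, ← hkm]
    exact pow_card_eq_one'
  obtain ⟨n, hn⟩ := IsPGroup.iff_card.mp hRp
  obtain ⟨ψ', hψ'⟩ := extend_hom H hidx hext n ↥ψ0.range hn ψ0.rangeRestrict
  rintro x ⟨hx1, hx2⟩
  have h1 : ψ' x = 1 := Abelianization.commutator_subset_ker ψ' hx2
  have hxH : x ∈ H := hPH hx1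
  have h2 := hψ' ⟨x, hxH⟩
  rw [h1] at h2
  have h3 : (Abelianization.of (⟨x, hxH⟩ : ↥H)) ^ m = 1 := by
    have := congrArg Subtype.val h2
    rw [MonoidHom.coe_rangeRestrict, hψ0] at this
    exact this.symm
  obtain ⟨a, ha⟩ := P.2 ⟨x, hx1⟩
  have h4 : (Abelianization.of (⟨x, hxH⟩ : ↥H)) ^ (p ^ a) = 1 := by
    rw [← map_pow]
    have : (⟨x, hxH⟩ : ↥H) ^ (p ^ a) = 1 := by
      apply Subtype.ext
      rw [Subgroup.coe_pow, Subgroup.coe_one]
      have := congrArg Subtype.val ha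
      rwa [Subgroup.coe_pow, Subgroup.coe_one] at this
    rw [this, map_one]
  have hcop : Nat.Coprime m (p ^ a) := by
    apply Nat.Coprime.pow_right
    rw [Nat.coprime_comm, hp.out.coprime_iff_not_dvd]
    exact hm
  have h5 : Abelianization.of (⟨x, hxH⟩ : ↥H) = 1 := by
    have := pow_gcd_eq_one.mpr ⟨h3, h4⟩
    rwa [hcop, pow_one] at this
  have h6 : (⟨x, hxH⟩ : ↥H) ∈ commutator ↥H := by
    rw [← Abelianization.ker_of]
    exact h5
  have h7 : (commutator ↥H).map H.subtype = ⁅H, H⁆ := by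
    rw [commutator_def, Subgroup.map_commutator]
    rw [← MonoidHom.range_eq_map, Subgroup.range_subtype]
  rw [← h7]
  exact ⟨⟨x, hxH⟩, h6, rfl⟩

end Cfsg.Agent.Lib.Helper1.TateGen
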