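import Mathlib
set_option autoImplicit false
open Polynomial
namespace Cfsg.Agent.Lib.Helper1.Yo

/-- In characteristic `p`, `1 + X + ⋯ + X^(p - 1) = (X - 1)^(p - 1)`. -/
theorem geom_sum_eq_sub_one_pow' (p : ℕ) [Fact p.Prime] :
    (∑ i ∈ Finset.range p, (X : (ZMod p)[X]) ^ i) = (X - 1) ^ (p - 1) := by
  have h1 : (∑ i ∈ Finset.range p, (X : (ZMod p)[X]) ^ i) * (X - 1) = X ^ p - 1 :=
    geom_sum_mul _ _
  have h2 : ((X : (ZMod p)[X]) - 1) ^ p = X ^ p - 1 := by
    rw [sub_pow_char, one_pow]
  have hpos : 0 < p := (Fact.out : p.Prime).pos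
  have h3 : ((X : (ZMod p)[X]) - 1) ^ p = (X - 1) ^ (p - 1) * (X - 1) := by
    rw [← pow_succ, Nat.sub_add_cancel hpos]
  have hne : ((X : (ZMod p)[X]) - 1) ≠ 0 := by
    have := Polynomial.X_sub_C_ne_zero (1 : ZMod p)
    simpa using this
  apply mul_right_cancel₀ hne
  rw [h1, ← h3, h2]

theorem sum_iterate_eq_aux {M : Type*} [AddCommGroup M] (p : ℕ) [Fact p.Prime]
    [Module (ZMod p) M] (τ : M →+ M) (m : M) :
    ∑ l ∈ Finset.range p, (τ^[l]) m = ((fun x => τ x - x)^[p - 1]) m := by
  set τ' : M →ₗ[ZMod p] M := AddMonoidHom.toZModLinearMap p τ with hτ'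
  have hτapp : ∀ x : M, τ' x = τ x := fun x => rfl
  have hid := congrArg (Polynomial.aeval (R := ZMod p) (A := Module.End (ZMod p) M) τ')
    (geom_sum_eq_sub_one_pow' p)
  simp only [map_sum, map_pow, Polynomial.aeval_X, map_sub, map_one] at hid
  have hid2 := congrArg (fun f : Module.End (ZMod p) M => f m) hid
  simp only [LinearMap.sum_apply, Module.End.pow_apply] at hid2
  have hiter : ∀ (l : ℕ) (x : M), (τ'^[l]) x = (τ^[l]) x := by
    intro l
    induction l with
    | zero => intro x; rfl
    | succ l ih =>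
      intro x
      rw [Function.iterate_succ_apply', Function.iterate_succ_apply', ih, hτapp]
  have hiter2 : ∀ (l : ℕ) (x : M), ((τ' - 1 : Module.End (ZMod p) M)^[l]) x
      = ((fun x => τ x - x)^[l]) x := by
    intro l
    induction l with
    | zero => intro x; rfl
    | succ l ih =>
      intro x
      rw [Function.iterate_succ_apply', Function.iterate_succ_apply', ih]
      simp [hτapp]
  calc ∑ l ∈ Finset.range p, (τ^[l]) m
      = ∑ l ∈ Finset.range p, (τ'^[l]) m := by
        apply Finset.sum_congr rfl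
        intro l _
        rw [hiter]
    _ = ((τ' - 1 : Module.End (ZMod p) M)^[p - 1]) m := hid2
    _ = _ := by rw [hiter2]

theorem sum_iterate_eq {M : Type*} [AddCommGroup M] (p : ℕ) [Fact p.Prime]
    (hM : ∀ m : M, p • m = 0) (τ : M →+ M) (m : M) :
    ∑ l ∈ Finset.range p, (τ^[l]) m = ((fun x => τ x - x)^[p - 1]) m :=
  @sum_iterate_eq_aux M _ p _ (AddCommGroup.zmodModule hM) τ m

/-- Multiplicative form: on a commutative group of exponent `p`, the norm `∏_{l<p} T^l` equals
`(T - 1)^(p-1)`. -/
theorem prod_iterate_eq {B : Type*} [CommGroup B] (p : ℕ) [Fact p.Prime]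
    (hexp : ∀ a : B, a ^ p = 1) (T : B →* B) (a : B) :
    ∏ l ∈ Finset.range p, (T^[l]) a = ((fun x => T x * x⁻¹)^[p - 1]) a := by
  have hM : ∀ m : Additive B, p • m = 0 := by
    intro m
    have := hexp (Additive.toMul m)
    exact congrArg Additive.ofMul this
  set τa : Additive B →+ Additive B := MonoidHom.toAdditive T with hτa
  have hτapp : ∀ x : Additive B, τa x = Additive.ofMul (T (Additive.toMul x)) := fun x => rfl
  have hgen : ∀ (j : ℕ) (b : B), ((fun x : Additive B => τa x - x)^[j]) (Additive.ofMul b)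
      = Additive.ofMul (((fun x : B => T x * x⁻¹)^[j]) b) := by
    intro j
    induction j with
    | zero => intro b; rfl
    | succ j ih =>
      intro b
      rw [Function.iterate_succ_apply', Function.iterate_succ_apply', ih, hτapp, toMul_ofMul,
        ← ofMul_div, div_eq_mul_inv]
  have hiter : ∀ (l : ℕ) (b : B), (τa^[l]) (Additive.ofMul b) = Additive.ofMul ((T^[l]) b) := by
    intro l
    induction l with
    | zero => intro b; rfl
    | succ l ih =>
      intro b
      rw [Function.iterate_succ_apply', Function.iterate_succ_apply', ih]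
      rfl
  have h1 := sum_iterate_eq p hM τa (Additive.ofMul a)
  rw [hgen] at h1
  have hsum : ∀ n : ℕ, ∑ l ∈ Finset.range n, (τa^[l]) (Additive.ofMul a)
      = Additive.ofMul (∏ l ∈ Finset.range n, (T^[l]) a) := by
    intro n
    induction n with
    | zero => rfl
    | succ n ih =>
      rw [Finset.sum_range_succ, ih, Finset.prod_range_succ, hiter]
      rfl
  rw [hsum] at h1
  exact h1

end Cfsg.Agent.Lib.Helper1.Yo
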