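import Mathlib
import Cfsg.Agent.Lib.Helper1.Yo1
set_option autoImplicit false
namespace Cfsg.Agent.Lib.Helper1.Yo

section ExtOne
variable {X : Type*} [Group X] {A : Type*} [CommGroup A]

open Classical in
/-- extension by `1` of a homomorphism defined on a subgroup -/
noncomputable def extOne (D : Subgroup X) (φ : ↥D →* A) (a : X) : A :=
  if h : a ∈ D then φ ⟨a, h⟩ else 1

theorem extOne_of_mem (D : Subgroup X) (φ : ↥D →* A) {a : X} (h : a ∈ D) :
    extOne D φ a = φ ⟨a, h⟩ := by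
  unfold extOne; rw [dif_pos h]

theorem extOne_of_not_mem (D : Subgroup X) (φ : ↥D →* A) {a : X} (h : a ∉ D) :
    extOne D φ a = 1 := by
  unfold extOne; rw [dif_neg h]

theorem extOne_mul (D : Subgroup X) (φ : ↥D →* A) {a b : X} (ha : a ∈ D) (hb : b ∈ D) :
    extOne D φ (a * b) = extOne D φ a * extOne D φ b := by
  rw [extOne_of_mem D φ ha, extOne_of_mem D φ hb, extOne_of_mem D φ (D.mul_mem ha hb), ← map_mul]
  rfl

theorem extOne_one (D : Subgroup X) (φ : ↥D →* A) : extOne D φ 1 = 1 := by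
  rw [extOne_of_mem D φ D.one_mem]
  exact map_one φ

theorem extOne_inv (D : Subgroup X) (φ : ↥D →* A) {a : X} (ha : a ∈ D) :
    extOne D φ a⁻¹ = (extOne D φ a)⁻¹ := by
  rw [extOne_of_mem D φ ha, extOne_of_mem D φ (D.inv_mem ha), ← map_inv]
  rfl

theorem extOne_conj (D : Subgroup X) (φ : ↥D →* A) (a : X) {d : X} (hd : d ∈ D) :
    extOne D φ (d⁻¹ * a * d) = extOne D φ a := by
  by_cases ha : a ∈ D
  · rw [extOne_mul D φ (D.mul_mem (D.inv_mem hd) ha) hd, extOne_mul D φ (D.inv_mem hd) ha,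
      extOne_inv D φ hd]
    rw [mul_comm _ (extOne D φ a), mul_assoc, inv_mul_cancel, mul_one]
  · have h2 : d⁻¹ * a * d ∉ D := by
      intro h
      apply ha
      have := D.mul_mem (D.mul_mem hd h) (D.inv_mem hd)
      have e : d * (d⁻¹ * a * d) * d⁻¹ = a := by group
      rwa [e] at this
    rw [extOne_of_not_mem D φ ha, extOne_of_not_mem D φ h2]

theorem extOne_pow (D : Subgroup X) (φ : ↥D →* A) {a : X} (ha : a ∈ D) (n : ℕ) :
    extOne D φ (a ^ n) = (extOne D φ a) ^ n := by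
  rw [extOne_of_mem D φ ha, extOne_of_mem D φ (D.pow_mem ha n), ← map_pow]
  rfl

/-- independence of the coset representative -/
theorem extOne_out (D : Subgroup X) (φ : ↥D →* A) (y a : X) :
    extOne D φ (((QuotientGroup.mk a : X ⧸ D).out)⁻¹ * y * (QuotientGroup.mk a : X ⧸ D).out)
      = extOne D φ (a⁻¹ * y * a) := by
  obtain ⟨d, hd⟩ := QuotientGroup.mk_out_eq_mul D a
  rw [hd]
  have e : (a * (d : X))⁻¹ * y * (a * (d : X)) = (d : X)⁻¹ * (a⁻¹ * y * a) * (d : X) := by group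
  rw [e]
  exact extOne_conj D φ _ d.2

end ExtOne

section LemmaN
variable {G : Type*} [Group G] {A : Type*} [CommGroup A]

/-- the iterated commutator `[y, z; n]` with `[y, z] = y⁻¹ z⁻¹ y z` -/
def iterComm (z : G) (n : ℕ) (y : G) : G := ((fun y : G => y⁻¹ * z⁻¹ * y * z)^[n]) y

theorem iterComm_zero (z y : G) : iterComm z 0 y = y := rfl

theorem iterComm_succ (z : G) (n : ℕ) (y : G) :
    iterComm z (n + 1) y = (iterComm z n y)⁻¹ * z⁻¹ * (iterComm z n y) * z := by
  unfold iterComm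
  rw [Function.iterate_succ_apply']

theorem iterComm_mem (M : Subgroup G) (z : G) (hz : ∀ m ∈ M, z⁻¹ * m * z ∈ M) (n : ℕ) {y : G}
    (hy : y ∈ M) : iterComm z n y ∈ M := by
  induction n with
  | zero => exact hy
  | succ n ih =>
    rw [iterComm_succ]
    have h1 := hz _ ih
    have e : (iterComm z n y)⁻¹ * z⁻¹ * (iterComm z n y) * z
        = (iterComm z n y)⁻¹ * (z⁻¹ * (iterComm z n y) * z) := by group
    rw [e]
    exact M.mul_mem (M.inv_mem ih) h1

theorem conj_pow_mem (M : Subgroup G) (z : G) (hz : ∀ m ∈ M, z⁻¹ * m * z ∈ M) (i : ℕ) {m : G}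
    (hm : m ∈ M) : (z ^ i)⁻¹ * m * z ^ i ∈ M := by
  induction i with
  | zero => simpa using hm
  | succ i ih =>
    have h1 := hz _ ih
    have e : (z ^ (i + 1))⁻¹ * m * z ^ (i + 1) = z⁻¹ * ((z ^ i)⁻¹ * m * z ^ i) * z := by
      rw [pow_succ]; group
    rw [e]
    exact h1

/-- **Norm = iterated commutator**: for a homomorphism `ν` from `M` to a commutative group of
exponent `p` and `z` normalizing `M`, `∏_{i<p} ν(z⁻ⁱ y zⁱ) = ν([y, z; p-1])`. -/
theorem prod_conj_eq_iterComm (p : ℕ) [Fact p.Prime] (hexp : ∀ a : A, a ^ p = 1)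
    (M : Subgroup G) (ν : ↥M →* A) (z : G) (hz : ∀ m ∈ M, z⁻¹ * m * z ∈ M) {y : G} (hy : y ∈ M) :
    ∏ i ∈ Finset.range p, extOne M ν ((z ^ i)⁻¹ * y * z ^ i)
      = extOne M ν (iterComm z (p - 1) y) := by
  -- the group of sequences
  let T : (ℕ → A) →* (ℕ → A) :=
    { toFun := fun f i => f (i + 1)
      map_one' := rfl
      map_mul' := fun _ _ => rfl }
  have hT : ∀ (f : ℕ → A) (i : ℕ), T f i = f (i + 1) := fun f i => rfl
  let Nu : G → (ℕ → A) := fun g i => extOne M ν ((z ^ i)⁻¹ * g * z ^ i)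
  have hNu : ∀ g i, Nu g i = extOne M ν ((z ^ i)⁻¹ * g * z ^ i) := fun g i => rfl
  have hNu_mul : ∀ a b : G, a ∈ M → b ∈ M → Nu (a * b) = Nu a * Nu b := by
    intro a b ha hb
    funext i
    rw [Pi.mul_apply, hNu, hNu, hNu, ← extOne_mul M ν (conj_pow_mem M z hz i ha)
      (conj_pow_mem M z hz i hb)]
    congr 1
    group
  have hNu_inv : ∀ a : G, a ∈ M → Nu a⁻¹ = (Nu a)⁻¹ := by
    intro a ha
    funext i
    rw [Pi.inv_apply, hNu, hNu, ← extOne_inv M ν (conj_pow_mem M z hz i ha)]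
    congr 1
    group
  have hNu_conj : ∀ a : G, Nu (z⁻¹ * a * z) = T (Nu a) := by
    intro a
    funext i
    rw [hT, hNu, hNu]
    congr 1
    rw [pow_succ]
    group
  have hexpB : ∀ f : ℕ → A, f ^ p = 1 := by
    intro f
    funext i
    rw [Pi.pow_apply, hexp]
    rfl
  have hstep : ∀ (j : ℕ), Nu (iterComm z j y) = ((fun x => T x * x⁻¹)^[j]) (Nu y) := by
    intro j
    induction j with
    | zero => rfl
    | succ j ih =>
      rw [Function.iterate_succ_apply', ← ih, iterComm_succ]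
      have hm := iterComm_mem M z hz j hy
      have e : (iterComm z j y)⁻¹ * z⁻¹ * (iterComm z j y) * z
          = (iterComm z j y)⁻¹ * (z⁻¹ * (iterComm z j y) * z) := by group
      rw [e, hNu_mul _ _ (M.inv_mem hm) (hz _ hm), hNu_inv _ hm, hNu_conj, mul_comm]
  have hshift : ∀ (l : ℕ) (f : ℕ → A) (i : ℕ), (T^[l]) f i = f (l + i) := by
    intro l
    induction l with
    | zero => intro f i; rw [Function.iterate_zero, id, Nat.zero_add]
    | succ l ih =>
      intro f i
      rw [Function.iterate_succ_apply', hT, ih]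
      congr 1
      omega
  have h1 := prod_iterate_eq p hexpB T (Nu y)
  have h2 := congrFun h1 0
  rw [Finset.prod_apply, ← hstep] at h2
  have h3 : ∀ l ∈ Finset.range p, (T^[l]) (Nu y) 0 = extOne M ν ((z ^ l)⁻¹ * y * z ^ l) := by
    intro l _
    rw [hshift, Nat.add_zero]
  rw [Finset.prod_congr rfl h3] at h2
  rw [h2, hNu]
  congr 1
  simp

end LemmaN

end Cfsg.Agent.Lib.Helper1.Yo
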