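import Mathlib
import Cfsg.Agent.Lib.Helper1.Yo2
set_option autoImplicit false
namespace Cfsg.Agent.Lib.Helper1.Yo

open MulAction

section LemmaT
variable {X : Type*} [Group X] [Finite X] {A : Type*} [CommGroup A]

omit [Finite X] in
theorem smul_eq_self_iff (D : Subgroup X) (y a : X) :
    y • (QuotientGroup.mk a : X ⧸ D) = QuotientGroup.mk a ↔ a⁻¹ * y * a ∈ D := by
  rw [MulAction.Quotient.smul_mk, QuotientGroup.eq, smul_eq_mul]
  have e : (y * a)⁻¹ * a = (a⁻¹ * y * a)⁻¹ := by group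
  rw [e, inv_mem_iff]

omit [Finite X] in
theorem smul_out_eq_self_iff (D : Subgroup X) (y : X) (q : X ⧸ D) :
    y • q = q ↔ q.out⁻¹ * y * q.out ∈ D := by
  conv_lhs => rw [← QuotientGroup.out_eq' q]
  exact smul_eq_self_iff D y q.out

/-- **Transfer as a product over fixed cosets**, provided the contributions of the
nontrivial orbits vanish. -/
theorem transfer_eq_prod_extOne (D : Subgroup X) (φ : ↥D →* A) (y : X)
    (hvan : ∀ (t : X) (n : ℕ), 1 < n → n ∣ orderOf y → ∀ h : t⁻¹ * y ^ n * t ∈ D, φ ⟨_, h⟩ = 1)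
    [Fintype (X ⧸ D)] :
    MonoidHom.transfer φ y = ∏ q : X ⧸ D, extOne D φ (q.out⁻¹ * y * q.out) := by
  classical
  have : Fintype (Quotient (orbitRel (Subgroup.zpowers y) (X ⧸ D))) := Fintype.ofFinite _
  rw [MonoidHom.transfer_eq_prod_quotient_orbitRel_zpowers_quot φ y]
  rw [← Finset.prod_fiberwise Finset.univ
    (fun q : X ⧸ D => (Quotient.mk'' q : Quotient (orbitRel (Subgroup.zpowers y) (X ⧸ D))))
    (fun q => extOne D φ (q.out⁻¹ * y * q.out))]
  apply Finset.prod_congr rfl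
  intro ω _
  obtain ⟨q₀, hq₀⟩ : ∃ q₀ : X ⧸ D, q₀ = ω.out := ⟨_, rfl⟩
  have hω : (Quotient.mk'' q₀ : Quotient (orbitRel (Subgroup.zpowers y) (X ⧸ D))) = ω := by
    rw [hq₀]; exact Quotient.out_eq' ω
  have hmem : ∀ q : X ⧸ D,
      (Quotient.mk'' q : Quotient (orbitRel (Subgroup.zpowers y) (X ⧸ D))) = ω →
        ∃ k : ℤ, y ^ k • q₀ = q := by
    intro q hq
    rw [← hω, Quotient.eq''] at hq
    have hq' : q ∈ orbit (Subgroup.zpowers y) q₀ := hq
    obtain ⟨⟨g, hg⟩, hgq⟩ := hq'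
    obtain ⟨k, rfl⟩ := Subgroup.mem_zpowers_iff.mp hg
    exact ⟨k, hgq⟩
  rw [← extOne_of_mem D φ]
  rw [← hq₀]
  obtain ⟨n, hn⟩ : ∃ n : ℕ, n = Function.minimalPeriod (y • ·) q₀ := ⟨_, rfl⟩
  rw [← hn]
  have hnper : n = period y q₀ := hn
  have hndvd : n ∣ orderOf y := hnper ▸ period_dvd_orderOf y q₀
  have hnpos : 0 < n := hnper ▸ period_pos_of_orderOf_pos (orderOf_pos y) q₀
  by_cases hn1 : n = 1
  · -- fixed point
    have hfix : y • q₀ = q₀ := by
      have := Function.minimalPeriod_eq_one_iff_isFixedPt.mp (hn ▸ hn1)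
      exact this
    have hfixz : ∀ k : ℤ, y ^ k • q₀ = q₀ := by
      intro k
      have hy : y ∈ stabilizer X q₀ := hfix
      exact (stabilizer X q₀).zpow_mem hy k
    rw [hn1, pow_one]
    rw [Finset.prod_eq_single q₀]
    · intro q hq hne
      exfalso
      apply hne
      obtain ⟨k, hk⟩ := hmem q (Finset.mem_filter.mp hq).2
      rw [← hk, hfixz]
    · intro h
      exfalso
      apply h
      exact Finset.mem_filter.mpr ⟨Finset.mem_univ _, hω⟩
  · have hn2 : 1 < n := by omega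
    have hmemD : q₀.out⁻¹ * y ^ n * q₀.out ∈ D := by
      rw [hn]
      exact QuotientGroup.out_conj_pow_minimalPeriod_mem D y q₀
    rw [extOne_of_mem D φ hmemD, hvan _ n hn2 hndvd hmemD]
    symm
    apply Finset.prod_eq_one
    intro q hq
    obtain ⟨k, hk⟩ := hmem q (Finset.mem_filter.mp hq).2
    apply extOne_of_not_mem
    intro hD
    have h1 : y • q = q := (smul_out_eq_self_iff D y q).mpr hD
    rw [← hk, ← mul_smul] at h1
    have h2 : y * y ^ k = y ^ k * y := by
      rw [← zpow_one_add, ← zpow_add_one, add_comm]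
    rw [h2, mul_smul] at h1
    have h3 : y • q₀ = q₀ := smul_left_cancel _ h1
    apply hn1
    rw [hn]
    exact Function.minimalPeriod_eq_one_iff_isFixedPt.mpr h3

end LemmaT

section Trans
variable {X : Type*} [Group X] {A : Type*} [CommMonoid A]

/-- transitivity of products over cosets -/
theorem prod_quotient_trans (D K : Subgroup X) (hDK : D ≤ K) [Fintype (X ⧸ D)] [Fintype (X ⧸ K)]
    [Fintype (↥K ⧸ D.subgroupOf K)] (f : X → A) (hf : ∀ a : X, ∀ d ∈ D, f (a * d) = f a) :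
    ∏ q : X ⧸ D, f q.out = ∏ q : X ⧸ K, ∏ r : ↥K ⧸ D.subgroupOf K, f (q.out * (r.out : X)) := by
  classical
  rw [← Fintype.prod_prod_type' (f := fun (q : X ⧸ K) (r : ↥K ⧸ D.subgroupOf K) =>
    f (q.out * (r.out : X)))]
  apply Fintype.prod_equiv (Subgroup.quotientEquivProdOfLE' hDK Quotient.out Quotient.out_eq')
  intro c
  induction c using QuotientGroup.induction_on with
  | H a =>
    obtain ⟨d, hd⟩ := QuotientGroup.mk_out_eq_mul D a
    rw [hd, hf _ _ d.2]
    show f a = f ((QuotientGroup.mk a : X ⧸ K).out *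
      (((QuotientGroup.mk (⟨((QuotientGroup.mk a : X ⧸ K).out)⁻¹ * a, _⟩ : ↥K) :
        ↥K ⧸ D.subgroupOf K).out : ↥K) : X))
    obtain ⟨d', hd'⟩ := QuotientGroup.mk_out_eq_mul (D.subgroupOf K)
      (⟨((QuotientGroup.mk a : X ⧸ K).out)⁻¹ * a,
        QuotientGroup.leftRel_apply.mp (Quotient.exact' (Quotient.out_eq' _))⟩ : ↥K)
    rw [hd']
    rw [Subgroup.coe_mul, ← mul_assoc, mul_inv_cancel_left]
    exact (hf _ _ (Subgroup.mem_subgroupOf.mp d'.2)).symm

end Trans

section Cyc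
variable {Γ : Type*} [Group Γ] [Finite Γ] {A : Type*} [CommMonoid A]

omit [Finite Γ] in
/-- product over the cosets of a normal subgroup of prime index, via powers of an outside element -/
theorem prod_quotient_cyclic (p : ℕ) [hp : Fact p.Prime] (N : Subgroup Γ) [hN : N.Normal]
    (hidx : N.index = p) (z : Γ) (hz : z ∉ N) [Fintype (Γ ⧸ N)] (k : Γ → A)
    (hk : ∀ a : Γ, ∀ d ∈ N, k (a * d) = k a) :
    ∏ s : Γ ⧸ N, k s.out = ∏ i ∈ Finset.range p, k (z ^ i) := by
  classical
  have hcard : Nat.card (Γ ⧸ N) = p := by rw [← Subgroup.index_eq_card]; exact hidx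
  have hz1 : (QuotientGroup.mk z : Γ ⧸ N) ≠ 1 := by
    rw [Ne, QuotientGroup.eq_one_iff]; exact hz
  have hord : orderOf (QuotientGroup.mk z : Γ ⧸ N) = p := by
    have h1 : orderOf (QuotientGroup.mk z : Γ ⧸ N) ∣ p := by
      rw [← hcard]; exact orderOf_dvd_natCard _
    rcases (Nat.dvd_prime hp.out).mp h1 with h | h
    · exact absurd (orderOf_eq_one_iff.mp h) hz1
    · exact h
  have hinj : Set.InjOn (fun i : ℕ => (QuotientGroup.mk (z ^ i) : Γ ⧸ N))
      (Finset.range p : Set ℕ) := by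
    intro i hi j hj h
    rw [Finset.coe_range, Set.mem_Iio] at hi hj
    simp only [QuotientGroup.mk_pow] at h
    rw [← hord] at hi hj
    exact pow_injOn_Iio_orderOf hi hj h
  have himg : (Finset.range p).image (fun i : ℕ => (QuotientGroup.mk (z ^ i) : Γ ⧸ N))
      = Finset.univ := by
    apply Finset.eq_univ_of_card
    rw [Finset.card_image_of_injOn hinj, Finset.card_range, ← Nat.card_eq_fintype_card, hcard]
  rw [← himg, Finset.prod_image hinj]
  apply Finset.prod_congr rfl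
  intro i _
  obtain ⟨d, hd⟩ := QuotientGroup.mk_out_eq_mul N (z ^ i)
  rw [hd, hk _ _ d.2]

end Cyc

end Cfsg.Agent.Lib.Helper1.Yo
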