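import Mathlib
import Cfsg.Agent.Lib.Helper1.Yo3
import Cfsg.Agent.Lib.Helper1.FrattiniP
set_option autoImplicit false
namespace Cfsg.Agent.Lib.Helper1.Yo

open MulAction

/-- the configuration produced by the Wielandt–Yoshida argument -/
structure YConfig {X : Type*} [Group X] (p : ℕ) (W M : Subgroup X) (z : X) : Prop where
  zW : z ∈ W
  zM : z ∉ M
  norm : ∀ m ∈ M, z⁻¹ * m * z ∈ M
  pow : z ^ p ∈ M
  cover : ∀ w ∈ W, ∃ i : ℕ, w * z ^ i ∈ M

theorem YConfig.conj_pow_mem_iff {X : Type*} [Group X] {p : ℕ} {W M : Subgroup X} {z : X}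
    (h : YConfig p W M z) (hp : 0 < p) (i : ℕ) (e : X) :
    (z ^ i)⁻¹ * e * z ^ i ∈ M ↔ e ∈ M := by
  constructor
  · intro he
    -- conjugate further by `z^(i*(p-1))` to reach a power of `z^p`
    have h1 := conj_pow_mem M z h.norm (i * (p - 1)) he
    have hzp : z ^ (i * p) ∈ M := by
      rw [mul_comm, pow_mul]; exact M.pow_mem h.pow i
    have e1 : (z ^ (i * (p - 1)))⁻¹ * ((z ^ i)⁻¹ * e * z ^ i) * z ^ (i * (p - 1))
        = (z ^ (i * p))⁻¹ * e * z ^ (i * p) := by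
      have : i * p = i + i * (p - 1) := by
        obtain ⟨k, rfl⟩ : ∃ k, p = k + 1 := ⟨p - 1, by omega⟩
        simp only [Nat.add_sub_cancel]; ring
      rw [this, pow_add]; group
    rw [e1] at h1
    have := M.mul_mem (M.mul_mem hzp h1) (M.inv_mem hzp)
    have e2 : z ^ (i * p) * ((z ^ (i * p))⁻¹ * e * z ^ (i * p)) * (z ^ (i * p))⁻¹ = e := by group
    rwa [e2] at this
  · exact fun he => conj_pow_mem M z h.norm i he

theorem inv_conj_pow {X : Type*} [Group X] (a y : X) (n : ℕ) :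
    (a⁻¹ * y * a) ^ n = a⁻¹ * y ^ n * a := by
  have h := conj_pow (a := a⁻¹) (b := y) (i := n)
  rw [inv_inv] at h
  exact h

theorem lemmaP {X : Type*} [Group X] [Finite X] {p : ℕ} [hp : Fact p.Prime] (hX : IsPGroup p X)
    {A : Type*} [CommGroup A] (hA : ∀ a : A, a ^ p = 1)
    (W D : Subgroup X) (hWD : ¬ W ≤ D) (φ : ↥D →* A) (y : X)
    (hvan : ∀ (t : X) (n : ℕ), 1 < n → n ∣ orderOf y →
      ∀ h : t⁻¹ * y ^ n * t ∈ D, φ ⟨_, h⟩ = 1)
    (hE : ∀ (M : Subgroup X) (z : X), YConfig p W M z → ∀ (ν : ↥M →* A) (e : X), e ∈ M →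
        extOne M ν (iterComm z (p - 1) e) = 1)
    [Fintype (X ⧸ D)] :
    ∏ q : X ⧸ D, extOne D φ (q.out⁻¹ * y * q.out) = 1 := by
  classical
  obtain ⟨E, hEdef⟩ : ∃ E : Subgroup X, E = D ⊔ W := ⟨_, rfl⟩
  have hDE : D ≤ E := hEdef ▸ le_sup_left
  have hWE : W ≤ E := hEdef ▸ le_sup_right
  have hne : D.subgroupOf E ≠ ⊤ := by
    intro h
    rw [Subgroup.subgroupOf_eq_top] at h
    exact hWD (hWE.trans h)
  obtain ⟨M₀, hM₀c, hDM₀⟩ := (eq_top_or_exists_le_coatom (D.subgroupOf E)).resolve_left hne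
  have hEp : IsPGroup p ↥E := hX.to_subgroup E
  have hM₀n : M₀.Normal := normal_of_isCoatom_of_isPGroup p hEp M₀ hM₀c
  have hM₀i : M₀.index = p := index_eq_prime_of_isCoatom p hEp M₀ hM₀c
  obtain ⟨M, hMdef⟩ : ∃ M : Subgroup X, M = M₀.map E.subtype := ⟨_, rfl⟩
  have hME : M ≤ E := hMdef ▸ Subgroup.map_subtype_le M₀
  have hMmem : ∀ (a : X) (ha : a ∈ E), a ∈ M ↔ (⟨a, ha⟩ : ↥E) ∈ M₀ := by
    intro a ha
    rw [hMdef]
    constructor
    · rintro ⟨b, hb, hba⟩
      have : b = ⟨a, ha⟩ := Subtype.ext hba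
      rwa [← this]
    · intro h
      exact ⟨⟨a, ha⟩, h, rfl⟩
  have hM₀eq : M.subgroupOf E = M₀ := by
    ext a
    rw [Subgroup.mem_subgroupOf]
    exact hMmem a.1 a.2
  have hDM : D ≤ M := fun d hd =>
    (hMmem d (hDE hd)).mpr (hDM₀ (Subgroup.mem_subgroupOf.mpr hd))
  have hNn : (M.subgroupOf E).Normal := hM₀eq ▸ hM₀n
  have hNi : (M.subgroupOf E).index = p := hM₀eq ▸ hM₀i
  obtain ⟨z, hzW, hzM⟩ : ∃ z ∈ W, z ∉ M := by
    by_contra hcon
    push Not at hcon
    have hWM : W ≤ M := hcon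
    have hEM : E ≤ M := hEdef ▸ sup_le hDM hWM
    apply hM₀c.1
    rw [eq_top_iff]
    intro a _
    exact (hMmem a.1 a.2).mp (hEM a.2)
  have hzE : z ∈ E := hWE hzW
  have hzN : (⟨z, hzE⟩ : ↥E) ∉ M.subgroupOf E := fun h => hzM (Subgroup.mem_subgroupOf.mp h)
  have hcardQ : Nat.card (↥E ⧸ M.subgroupOf E) = p := by
    rw [← Subgroup.index_eq_card]; exact hNi
  have hcfg : YConfig p W M z := by
    refine ⟨hzW, hzM, ?_, ?_, ?_⟩
    · intro m hm
      have hmE : m ∈ E := hME hm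
      have h1 : (⟨m, hmE⟩ : ↥E) ∈ M.subgroupOf E := Subgroup.mem_subgroupOf.mpr hm
      have h2 := hNn.conj_mem _ h1 (⟨z, hzE⟩ : ↥E)⁻¹
      have h3 := Subgroup.mem_subgroupOf.mp h2
      simpa using h3
    · have h1 := Subgroup.pow_index_mem (M.subgroupOf E) (⟨z, hzE⟩ : ↥E)
      rw [hNi] at h1
      have h3 := Subgroup.mem_subgroupOf.mp h1
      simpa using h3
    · intro w hw
      have hwE : w ∈ E := hWE hw
      have hz1 : (QuotientGroup.mk (⟨z, hzE⟩ : ↥E) : ↥E ⧸ M.subgroupOf E) ≠ 1 := by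
        rw [Ne, QuotientGroup.eq_one_iff]; exact hzN
      have h1 : (QuotientGroup.mk (⟨w, hwE⟩ : ↥E) : ↥E ⧸ M.subgroupOf E)⁻¹ ∈
          Submonoid.powers (QuotientGroup.mk (⟨z, hzE⟩ : ↥E) : ↥E ⧸ M.subgroupOf E) :=
        mem_powers_of_prime_card hcardQ hz1
      obtain ⟨i, hi⟩ := h1
      refine ⟨i, ?_⟩
      have h2 : (QuotientGroup.mk ((⟨w, hwE⟩ : ↥E) * (⟨z, hzE⟩ : ↥E) ^ i) :
          ↥E ⧸ M.subgroupOf E) = 1 := by
        rw [QuotientGroup.mk_mul, QuotientGroup.mk_pow]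
        simp only at hi
        rw [hi, mul_inv_cancel]
      have h3 := Subgroup.mem_subgroupOf.mp ((QuotientGroup.eq_one_iff _).mp h2)
      simpa using h3
  -- the transfer from `M` to `D`
  let φM : ↥(D.subgroupOf M) →* A := φ.comp (Subgroup.subgroupOfEquivOfLe hDM).toMonoidHom
  have hφM : ∀ m : ↥M, extOne (D.subgroupOf M) φM m = extOne D φ (m : X) := by
    intro m
    by_cases hm : (m : X) ∈ D
    · rw [extOne_of_mem D φ hm, extOne_of_mem (D.subgroupOf M) φM (Subgroup.mem_subgroupOf.mpr hm)]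
      rfl
    · rw [extOne_of_not_mem D φ hm, extOne_of_not_mem (D.subgroupOf M) φM
        (fun h => hm (Subgroup.mem_subgroupOf.mp h))]
  let ν : ↥M →* A := MonoidHom.transfer φM
  have hfin1 : Fintype (X ⧸ M) := Fintype.ofFinite _
  have hfin2 : Fintype (X ⧸ E) := Fintype.ofFinite _
  have hfin3 : Fintype (↥M ⧸ D.subgroupOf M) := Fintype.ofFinite _
  have hfin4 : Fintype (↥E ⧸ M.subgroupOf E) := Fintype.ofFinite _
  -- Claim B
  have hB : ∀ a : X, ∏ r : ↥M ⧸ D.subgroupOf M,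
      extOne D φ (((r.out : ↥M) : X)⁻¹ * (a⁻¹ * y * a) * ((r.out : ↥M) : X))
        = extOne M ν (a⁻¹ * y * a) := by
    intro a
    by_cases he : a⁻¹ * y * a ∈ M
    · rw [extOne_of_mem M ν he]
      show _ = MonoidHom.transfer φM ⟨a⁻¹ * y * a, he⟩
      rw [transfer_eq_prod_extOne (D.subgroupOf M) φM ⟨a⁻¹ * y * a, he⟩]
      · apply Finset.prod_congr rfl
        intro r _
        rw [hφM]
        rfl
      · intro t n hn hdvd h
        have hord : orderOf (⟨a⁻¹ * y * a, he⟩ : ↥M) = orderOf y := by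
          rw [← Subgroup.orderOf_coe]
          have := (MulAut.conj a⁻¹).orderOf_eq y
          rw [MulAut.conj_apply, inv_inv] at this
          exact this
        rw [hord] at hdvd
        have hmem : ((a * (t : X))⁻¹ * y ^ n * (a * (t : X))) ∈ D := by
          have h1 := Subgroup.mem_subgroupOf.mp h
          have e : ((t⁻¹ * (⟨a⁻¹ * y * a, he⟩ : ↥M) ^ n * t : ↥M) : X)
              = (a * (t : X))⁻¹ * y ^ n * (a * (t : X)) := by
            push_cast
            rw [inv_conj_pow]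
            group
          rwa [e] at h1
        have h2 := hvan (a * (t : X)) n hn hdvd hmem
        rw [← h2]
        show φ _ = φ _
        congr 1
        apply Subtype.ext
        show ((t⁻¹ * (⟨a⁻¹ * y * a, he⟩ : ↥M) ^ n * t : ↥M) : X) = _
        push_cast
        rw [inv_conj_pow]
        group
    · rw [extOne_of_not_mem M ν he]
      apply Finset.prod_eq_one
      intro r _
      apply extOne_of_not_mem
      intro h
      apply he
      have h1 := hDM h
      have h2 := M.mul_mem (M.mul_mem (r.out : ↥M).2 h1) (M.inv_mem (r.out : ↥M).2)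
      have e : ((r.out : ↥M) : X) * (((r.out : ↥M) : X)⁻¹ * (a⁻¹ * y * a) * ((r.out : ↥M) : X))
          * ((r.out : ↥M) : X)⁻¹ = a⁻¹ * y * a := by group
      rwa [e] at h2
  -- Claim C
  have hC : ∀ a : X, ∏ i ∈ Finset.range p,
      extOne M ν ((z ^ i)⁻¹ * (a⁻¹ * y * a) * z ^ i) = 1 := by
    intro a
    by_cases he : a⁻¹ * y * a ∈ M
    · rw [prod_conj_eq_iterComm p hA M ν z hcfg.norm he]
      exact hE M z hcfg ν _ he
    · apply Finset.prod_eq_one
      intro i _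
      apply extOne_of_not_mem
      rw [hcfg.conj_pow_mem_iff hp.out.pos]
      exact he
  -- first transitivity step
  have h1 := prod_quotient_trans D M hDM (fun a => extOne D φ (a⁻¹ * y * a)) (by
    intro a d hd
    have e : (a * d)⁻¹ * y * (a * d) = d⁻¹ * (a⁻¹ * y * a) * d := by group
    rw [e]
    exact extOne_conj D φ _ hd)
  rw [h1]
  have h2 : ∀ q : X ⧸ M, ∏ r : ↥M ⧸ D.subgroupOf M,
      extOne D φ ((q.out * ((r.out : ↥M) : X))⁻¹ * y * (q.out * ((r.out : ↥M) : X)))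
        = extOne M ν (q.out⁻¹ * y * q.out) := by
    intro q
    rw [← hB q.out]
    apply Finset.prod_congr rfl
    intro r _
    congr 1
    group
  rw [Finset.prod_congr rfl (fun q _ => h2 q)]
  -- second transitivity step
  have h3 := prod_quotient_trans M E hME (fun a => extOne M ν (a⁻¹ * y * a)) (by
    intro a d hd
    have e : (a * d)⁻¹ * y * (a * d) = d⁻¹ * (a⁻¹ * y * a) * d := by group
    rw [e]
    exact extOne_conj M ν _ hd)
  rw [h3]
  apply Finset.prod_eq_one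
  intro q _
  have h4 := prod_quotient_cyclic p (M.subgroupOf E) hNi ⟨z, hzE⟩ hzN
    (fun b : ↥E => extOne M ν ((q.out * (b : X))⁻¹ * y * (q.out * (b : X)))) (by
    intro b d hd
    have hd' : (d : X) ∈ M := Subgroup.mem_subgroupOf.mp hd
    have e : (q.out * ((b * d : ↥E) : X))⁻¹ * y * (q.out * ((b * d : ↥E) : X))
        = (d : X)⁻¹ * ((q.out * (b : X))⁻¹ * y * (q.out * (b : X))) * (d : X) := by
      push_cast; group
    rw [e]
    exact extOne_conj M ν _ hd')
  rw [h4, ← hC q.out]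
  apply Finset.prod_congr rfl
  intro i _
  congr 1
  push_cast
  group

end Cfsg.Agent.Lib.Helper1.Yo
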