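import Mathlib
import Cfsg.Prelude.Def_Transfer
import Cfsg.Agent.Lib.Helper1.Yo4
import Cfsg.Agent.Lib.Lead.Closed
set_option autoImplicit false
namespace Cfsg.Agent.Lib.Helper1.Yo

open MulAction
open Cfsg.Agent.Lib.Lead.BaerSuzuki

variable {G : Type*} [Group G] [Finite G] {p : ℕ} [hp : Fact p.Prime]

omit [Finite G] hp in
theorem sylow_le_normalizer_of_weaklyClosed (S : Sylow p G) (W : Subgroup G)
    (hW : Cfsg.IsWeaklyClosed W (S : Subgroup G)) :
    (S : Subgroup G) ≤ Subgroup.normalizer (W : Set G) := by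
  intro s hs
  apply mem_normalizer_of_cj_eq
  apply hW.2
  show cj W s ≤ _
  rw [cj_le_iff]
  intro w hw
  exact (S : Subgroup G).mul_mem ((S : Subgroup G).mul_mem hs (hW.1 hw))
    ((S : Subgroup G).inv_mem hs)

theorem mem_normalizer_of_conj_le (S : Sylow p G) (W : Subgroup G)
    (hW : Cfsg.IsWeaklyClosed W (S : Subgroup G)) (g : G)
    (h : ∀ w ∈ W, g⁻¹ * w * g ∈ Subgroup.normalizer (W : Set G)) :
    g ∈ Subgroup.normalizer (W : Set G) := by
  have hSH := sylow_le_normalizer_of_weaklyClosed S W hW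
  have hY : cj W g⁻¹ ≤ Subgroup.normalizer (W : Set G) := by
    rw [cj_le_iff]
    intro w hw
    rw [inv_inv]
    exact h w hw
  have hWp : IsPGroup p ↥W := S.2.to_le hW.1
  have hYp : IsPGroup p ↥(cj W g⁻¹) := isPGroup_cj W g⁻¹ hWp
  obtain ⟨k, hk, hkY⟩ := exists_cj_le_sylow (Subgroup.normalizer (W : Set G)) (S.subtype hSH)
    (cj W g⁻¹) hY hYp
  have h1 : cj W (k * g⁻¹) ≤ (S : Subgroup G) := by
    rw [← cj_cj]
    refine hkY.trans ?_
    rw [Sylow.coe_subtype, Subgroup.subgroupOf_map_subtype]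
    exact inf_le_left
  have h2 : cj W (k * g⁻¹) = W := hW.2 _ h1
  have h3 := mem_normalizer_of_cj_eq W _ h2
  have h4 := (Subgroup.normalizer (W : Set G)).mul_mem
    ((Subgroup.normalizer (W : Set G)).inv_mem hk) h3
  rw [inv_mul_cancel_left] at h4
  exact (Subgroup.inv_mem_iff _).mp h4

/-- The inductive core of the Wielandt–Yoshida transfer theorem. -/
theorem yoshida_aux (S : Sylow p G) (W H : Subgroup G) (hWS : W ≤ (S : Subgroup G))
    (hSH : (S : Subgroup G) ≤ H)
    (hfus : ∀ g : G, (∀ w ∈ W, g⁻¹ * w * g ∈ H) → g ∈ H)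
    {A : Type*} [CommGroup A] (hA : ∀ a : A, a ^ p = 1) (lam : ↥H →* A)
    (hE : ∀ (M : Subgroup ↥(S : Subgroup G)) (z : ↥(S : Subgroup G)),
        YConfig p (W.subgroupOf (S : Subgroup G)) M z →
        ∀ (ν : ↥M →* A) (e : ↥(S : Subgroup G)), e ∈ M →
          extOne M ν (iterComm z (p - 1) e) = 1) :
    ∀ (n : ℕ) (x : G), x ∈ (S : Subgroup G) → orderOf x = n →
      MonoidHom.transfer lam x = extOne H lam x := by
  classical
  intro n
  induction n using Nat.strong_induction_on with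
  | _ n ih =>
  intro x hx hxn
  have hpowA : ∀ (a : A) (m : ℕ), p ∣ m → a ^ m = 1 := by
    rintro a m ⟨k, rfl⟩
    rw [pow_mul, hA, one_pow]
  have hpdvd : ∀ y ∈ (S : Subgroup G), ∀ m : ℕ, 1 < m → m ∣ orderOf y → p ∣ m := by
    intro y hy m hm hdvd
    obtain ⟨k, hk⟩ := S.2 ⟨y, hy⟩
    have h1 : y ^ p ^ k = 1 := by
      have := congrArg Subtype.val hk
      rwa [Subgroup.coe_pow, Subgroup.coe_one] at this
    have h2 : m ∣ p ^ k := hdvd.trans (orderOf_dvd_of_pow_eq_one h1)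
    obtain ⟨j, -, rfl⟩ := (Nat.dvd_prime_pow hp.out).mp h2
    have hj : j ≠ 0 := by
      rintro rfl
      rw [pow_zero] at hm
      exact lt_irrefl _ hm
    exact dvd_pow_self p hj
  have hlt : ∀ (y : G) (m : ℕ), 1 < m → m ∣ orderOf y → orderOf (y ^ m) < orderOf y := by
    intro y m hm hdvd
    rw [orderOf_pow_of_dvd (by omega) hdvd]
    exact Nat.div_lt_self (orderOf_pos y) hm
  -- P1: fusion invariance for smaller orders
  have hP1 : ∀ y ∈ (S : Subgroup G), orderOf y < n → ∀ t : G, t⁻¹ * y * t ∈ H →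
      extOne H lam (t⁻¹ * y * t) = extOne H lam y := by
    intro y hy hyn t ht
    have hord : orderOf (t⁻¹ * y * t) = orderOf y := by
      have := (MulAut.conj t⁻¹).orderOf_eq y
      rw [MulAut.conj_apply, inv_inv] at this
      exact this
    have hYp : IsPGroup p ↥(Subgroup.zpowers (t⁻¹ * y * t)) := by
      obtain ⟨k, hk⟩ := S.2 ⟨y, hy⟩
      have h1 : y ^ p ^ k = 1 := by
        have := congrArg Subtype.val hk
        rwa [Subgroup.coe_pow, Subgroup.coe_one] at this
      obtain ⟨j, -, hj⟩ := (Nat.dvd_prime_pow hp.out).mp (orderOf_dvd_of_pow_eq_one h1)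
      apply IsPGroup.of_card (n := j)
      rw [Nat.card_zpowers, hord, hj]
    obtain ⟨k, hk, hkY⟩ := exists_cj_le_sylow H (S.subtype hSH)
      (Subgroup.zpowers (t⁻¹ * y * t)) (Subgroup.zpowers_le.mpr ht) hYp
    have hvS : k * (t⁻¹ * y * t) * k⁻¹ ∈ (S : Subgroup G) := by
      have h1 : k * (t⁻¹ * y * t) * k⁻¹ ∈ cj (Subgroup.zpowers (t⁻¹ * y * t)) k := by
        rw [mem_cj]
        have e : k⁻¹ * (k * (t⁻¹ * y * t) * k⁻¹) * k = t⁻¹ * y * t := by group
        rw [e]
        exact Subgroup.mem_zpowers _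
      have h2 := hkY h1
      rw [Sylow.coe_subtype, Subgroup.subgroupOf_map_subtype] at h2
      exact h2.1
    have hvord : orderOf (k * (t⁻¹ * y * t) * k⁻¹) = orderOf y := by
      have := (MulAut.conj k).orderOf_eq (t⁻¹ * y * t)
      rw [MulAut.conj_apply] at this
      rw [this, hord]
    have h3 := ih (orderOf y) hyn _ hvS hvord
    have h4 := ih (orderOf y) hyn y hy rfl
    have hconj : ∀ a b : G, MonoidHom.transfer lam (a * b * a⁻¹) = MonoidHom.transfer lam b := by
      intro a b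
      rw [map_mul, map_mul, map_inv, mul_comm (MonoidHom.transfer lam a), mul_assoc,
        mul_inv_cancel, mul_one]
    have h5 : MonoidHom.transfer lam (k * (t⁻¹ * y * t) * k⁻¹) = MonoidHom.transfer lam y := by
      rw [hconj]
      have := hconj t⁻¹ y
      rwa [inv_inv] at this
    have h6 : extOne H lam (k * (t⁻¹ * y * t) * k⁻¹) = extOne H lam (t⁻¹ * y * t) := by
      have := extOne_conj H lam (t⁻¹ * y * t) (H.inv_mem hk)
      rwa [inv_inv] at this
    rw [← h6, ← h3, h5, h4]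
  -- vanishing
  have hvan0 : ∀ (t : G) (m : ℕ), 1 < m → m ∣ orderOf x → t⁻¹ * x ^ m * t ∈ H →
      extOne H lam (t⁻¹ * x ^ m * t) = 1 := by
    intro t m hm hdvd hmem
    have hxm : x ^ m ∈ (S : Subgroup G) := (S : Subgroup G).pow_mem hx m
    have h1 := hP1 (x ^ m) hxm (hxn ▸ hlt x m hm hdvd) t hmem
    rw [h1, extOne_pow H lam (hSH hx)]
    exact hpowA _ m (hpdvd x hx m hm hdvd)
  have hfinQ : Fintype (G ⧸ H) := Fintype.ofFinite _
  rw [transfer_eq_prod_extOne H lam x (by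
    intro t m hm hdvd h
    rw [← extOne_of_mem H lam h]
    exact hvan0 t m hm hdvd h)]
  -- orbit decomposition
  obtain ⟨F, hF⟩ : ∃ F : G ⧸ H → A, F = fun q => extOne H lam (q.out⁻¹ * x * q.out) := ⟨_, rfl⟩
  have hFmk : ∀ a : G, F (QuotientGroup.mk a) = extOne H lam (a⁻¹ * x * a) := by
    intro a
    rw [hF]
    exact extOne_out H lam x a
  show ∏ q : G ⧸ H, (fun q => extOne H lam (q.out⁻¹ * x * q.out)) q = _
  rw [← hF]
  obtain ⟨q₁, hq₁⟩ : ∃ q₁ : G ⧸ H, q₁ = QuotientGroup.mk 1 := ⟨_, rfl⟩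
  have hFq₁ : F q₁ = extOne H lam x := by
    rw [hq₁, hFmk]
    congr 1
    group
  rw [← Finset.mul_prod_erase Finset.univ F (Finset.mem_univ q₁), hFq₁]
  suffices h : ∏ q ∈ Finset.univ.erase q₁, F q = 1 by rw [h, mul_one]
  have hfixq₁ : ∀ s : ↥(S : Subgroup G), s • q₁ = q₁ := by
    intro s
    rw [hq₁]
    show ((s : G) • (QuotientGroup.mk 1 : G ⧸ H)) = _
    rw [smul_eq_self_iff]
    have e : (1 : G)⁻¹ * (s : G) * 1 = s := by group
    rw [e]
    exact hSH s.2
  apply Finset.prod_cancels_of_partition_cancels (orbitRel ↥(S : Subgroup G) (G ⧸ H))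
  intro q hq
  have hqne : q ≠ q₁ := Finset.ne_of_mem_erase hq
  have hset : (Finset.univ.erase q₁).filter (fun a => (orbitRel ↥(S : Subgroup G) (G ⧸ H)) a q)
      = Finset.univ.filter (fun a => a ∈ orbit ↥(S : Subgroup G) q) := by
    ext a
    simp only [Finset.mem_filter, Finset.mem_erase, Finset.mem_univ, and_true, true_and,
      orbitRel_apply]
    constructor
    · exact fun h => h.2
    · intro h
      refine ⟨?_, h⟩
      rintro rfl
      obtain ⟨s, hs⟩ := h
      apply hqne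
      have h2 : s • q = a := hs
      have h3 : s⁻¹ • a = a := hfixq₁ _
      rw [← h2, inv_smul_smul] at h3
      exact h3.trans h2
  rw [hset]
  -- pass to the stabilizer quotient
  rw [Finset.prod_subtype (p := fun a => a ∈ orbit ↥(S : Subgroup G) q)
    (Finset.univ.filter (fun a => a ∈ orbit ↥(S : Subgroup G) q))
    (fun a => by simp) F]
  have hfinR : Fintype (↥(S : Subgroup G) ⧸ stabilizer ↥(S : Subgroup G) q) := Fintype.ofFinite _
  rw [Fintype.prod_equiv (orbitEquivQuotientStabilizer ↥(S : Subgroup G) q)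
    (fun a : orbit ↥(S : Subgroup G) q => F a.1)
    (fun r => F ((r.out : ↥(S : Subgroup G)) • q)) (by
      intro a
      obtain ⟨r, hr⟩ : ∃ r, r = orbitEquivQuotientStabilizer ↥(S : Subgroup G) q a := ⟨_, rfl⟩
      have ha : a = (orbitEquivQuotientStabilizer ↥(S : Subgroup G) q).symm r := by
        rw [hr, Equiv.symm_apply_apply]
      rw [← hr, ha]
      conv_lhs => rw [← QuotientGroup.out_eq' r]
      rw [orbitEquivQuotientStabilizer_symm_apply])]
  -- the data for Lemma P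
  obtain ⟨g, hg⟩ : ∃ g : G, g = q.out := ⟨_, rfl⟩
  have hqg : q = QuotientGroup.mk g := by rw [hg]; exact (QuotientGroup.out_eq' q).symm
  have hgH : g ∉ H := by
    intro h
    apply hqne
    rw [hqg, hq₁, QuotientGroup.eq, mul_one]
    exact H.inv_mem h
  have hmemD : ∀ u : ↥(S : Subgroup G), u ∈ stabilizer ↥(S : Subgroup G) q ↔
      g⁻¹ * (u : G) * g ∈ H := by
    intro u
    rw [mem_stabilizer_iff, hqg]
    show ((u : G) • (QuotientGroup.mk g : G ⧸ H)) = _ ↔ _
    exact smul_eq_self_iff H (u : G) g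
  let φ' : ↥(stabilizer ↥(S : Subgroup G) q) →* A :=
    MonoidHom.mk' (fun u => lam ⟨g⁻¹ * ((u : ↥(S : Subgroup G)) : G) * g, (hmemD u.1).mp u.2⟩) (by
      intro u v
      rw [← map_mul]
      congr 1
      apply Subtype.ext
      show g⁻¹ * (((u * v : ↥(stabilizer ↥(S : Subgroup G) q)) : ↥(S : Subgroup G)) : G) * g
        = (g⁻¹ * ((u : ↥(S : Subgroup G)) : G) * g) * (g⁻¹ * ((v : ↥(S : Subgroup G)) : G) * g)
      push_cast
      group)
  have hφ' : ∀ u : ↥(S : Subgroup G),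
      extOne (stabilizer ↥(S : Subgroup G) q) φ' u = extOne H lam (g⁻¹ * (u : G) * g) := by
    intro u
    by_cases hu : u ∈ stabilizer ↥(S : Subgroup G) q
    · rw [extOne_of_mem _ φ' hu, extOne_of_mem H lam ((hmemD u).mp hu)]
      rfl
    · rw [extOne_of_not_mem _ φ' hu, extOne_of_not_mem H lam (fun h => hu ((hmemD u).mpr h))]
  have hterm : ∀ r : ↥(S : Subgroup G) ⧸ stabilizer ↥(S : Subgroup G) q,
      F ((r.out : ↥(S : Subgroup G)) • q) = extOne (stabilizer ↥(S : Subgroup G) q) φ'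
        ((r.out : ↥(S : Subgroup G))⁻¹ * ⟨x, hx⟩ * (r.out : ↥(S : Subgroup G))) := by
    intro r
    rw [hφ']
    obtain ⟨u, hu⟩ : ∃ u : ↥(S : Subgroup G), u = r.out := ⟨_, rfl⟩
    rw [← hu]
    have h1 : u • q = (QuotientGroup.mk ((u : G) * g) : G ⧸ H) := by
      rw [hqg]
      rfl
    rw [h1, hFmk]
    congr 1
    push_cast
    group
  rw [Finset.prod_congr rfl (fun r _ => hterm r)]
  apply lemmaP S.2 hA (W.subgroupOf (S : Subgroup G)) (stabilizer ↥(S : Subgroup G) q) _ φ' ⟨x, hx⟩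
    _ hE
  · intro hle
    apply hgH
    apply hfus
    intro w hw
    have hwS : w ∈ (S : Subgroup G) := hWS hw
    have h1 : (⟨w, hwS⟩ : ↥(S : Subgroup G)) ∈ W.subgroupOf (S : Subgroup G) :=
      Subgroup.mem_subgroupOf.mpr hw
    exact (hmemD _).mp (hle h1)
  · intro t m hm hdvd h
    have hdvd' : m ∣ orderOf x := by
      rwa [← Subgroup.orderOf_coe] at hdvd
    rw [← extOne_of_mem _ φ' h, hφ']
    have e : g⁻¹ * ((t⁻¹ * (⟨x, hx⟩ : ↥(S : Subgroup G)) ^ m * t : ↥(S : Subgroup G)) : G) * g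
        = ((t : G) * g)⁻¹ * x ^ m * ((t : G) * g) := by
      push_cast
      group
    rw [e]
    apply hvan0 _ m hm hdvd'
    rw [← e]
    exact (hmemD _).mp h

end Cfsg.Agent.Lib.Helper1.Yo
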