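import Mathlib
import Cfsg.Prelude.Def_Transfer
import Cfsg.Prelude.Def_BaumannBlocks
import Cfsg.Agent.Lib.Helper1.Yo5
import Cfsg.Agent.Lib.Helper1.TateGen2
set_option autoImplicit false
universe u
namespace Cfsg.Agent.Lib.Helper1.Yo

open MulAction
open scoped commutatorElement

variable {G : Type u} [Group G] [Finite G] {p : ℕ} [hp : Fact p.Prime]

/-- the Engel-type hypothesis under which the Wielandt–Yoshida argument works -/
def EngelHypS (p : ℕ) (S : Subgroup G) (W : Subgroup G) : Prop :=
  ∀ (A : Type u) [CommGroup A], (∀ a : A, a ^ p = 1) →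
    ∀ (M : Subgroup ↥S) (z : ↥S), YConfig p (W.subgroupOf S) M z →
      ∀ (ν : ↥M →* A) (e : ↥S), e ∈ M → extOne M ν (iterComm z (p - 1) e) = 1

/-- **Wielandt–Yoshida**: under the Engel hypothesis, every homomorphism from `N_G(W)` to an
elementary abelian `p`-group extends to `G` (via the transfer). -/
theorem yoshida_extElem (S : Sylow p G) (W : Subgroup G)
    (hW : Cfsg.IsWeaklyClosed W (S : Subgroup G)) (hE : EngelHypS p (S : Subgroup G) W) :
    TateGen.ExtElem p (Subgroup.normalizer (W : Set G)) := by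
  intro A _ hA δ
  have hSH := sylow_le_normalizer_of_weaklyClosed S W hW
  have hcore := yoshida_aux S W (Subgroup.normalizer (W : Set G)) hW.1 hSH
    (mem_normalizer_of_conj_le S W hW) hA δ (hE A hA)
  refine ⟨MonoidHom.transfer δ, ?_⟩
  obtain ⟨H, hH⟩ : ∃ H : Subgroup G, H = Subgroup.normalizer (W : Set G) := ⟨_, rfl⟩
  let ρ : ↥(Subgroup.normalizer (W : Set G)) →* A :=
    ((MonoidHom.transfer δ).comp (Subgroup.normalizer (W : Set G)).subtype) / δ
  have hρ : ∀ h, ρ h = MonoidHom.transfer δ (h : G) / δ h := fun h => rfl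
  have hker : ((S : Subgroup G).subgroupOf (Subgroup.normalizer (W : Set G))) ≤ ρ.ker := by
    intro h hh
    have hhS : (h : G) ∈ (S : Subgroup G) := Subgroup.mem_subgroupOf.mp hh
    rw [MonoidHom.mem_ker, hρ, hcore _ (h : G) hhS rfl, extOne_of_mem _ δ h.2]
    exact div_self' _
  intro h
  have h1 : ρ h ^ p = 1 := hA _
  have h2 : ρ h ^ ρ.ker.index = 1 := by
    rw [← map_pow]
    exact (MonoidHom.mem_ker).mp (Subgroup.pow_index_mem ρ.ker h)
  have hcop : Nat.Coprime ρ.ker.index p := by
    rw [Nat.coprime_comm, hp.out.coprime_iff_not_dvd]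
    intro hdvd
    have h3 : ρ.ker.index ∣ ((S : Subgroup G).subgroupOf (Subgroup.normalizer (W : Set G))).index :=
      Subgroup.index_dvd_of_le hker
    have h4 := (S.subtype hSH).not_dvd_index
    rw [Sylow.coe_subtype] at h4
    exact h4 (hdvd.trans h3)
  have h5 := pow_gcd_eq_one.mpr ⟨h2, h1⟩
  rw [hcop, pow_one] at h5
  rw [hρ, div_eq_one] at h5
  exact h5

omit [Finite G] hp in
theorem coe_iterComm (S : Subgroup G) (z e : ↥S) (n : ℕ) :
    ((iterComm z n e : ↥S) : G) = iterComm (z : G) n (e : G) := by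
  induction n with
  | zero => rfl
  | succ n ih =>
    rw [iterComm_succ, iterComm_succ, ← ih]
    push_cast
    rfl

omit [Finite G] hp in
theorem iterComm_eq (z y : G) (n : ℕ) :
    iterComm z n y = ((fun y : G => y⁻¹ * z⁻¹ * y * z)^[n]) y := rfl

omit [Finite G] hp in
/-- `O^p(H) ≤ O^p(G) ∩ H` -/
theorem pResidualOf_le (H : Subgroup G) :
    Cfsg.pResidualOf p H ≤ Cfsg.pResidual p G ⊓ H := by
  unfold Cfsg.pResidualOf
  apply le_inf _ (Subgroup.map_subtype_le _)
  show (Subgroup.closure {g : ↥H | Nat.Coprime (orderOf g) p}).map H.subtype ≤ _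
  rw [MonoidHom.map_closure, Subgroup.closure_le]
  rintro _ ⟨h, hh, rfl⟩
  apply Subgroup.subset_closure
  show Nat.Coprime (orderOf ((h : ↥H) : G)) p
  rw [Subgroup.orderOf_coe]
  exact hh

/-- the `O^p` form of the Wielandt–Yoshida theorem -/
theorem yoshida_pResidual (S : Sylow p G) (W : Subgroup G)
    (hW : Cfsg.IsWeaklyClosed W (S : Subgroup G)) (hE : EngelHypS p (S : Subgroup G) W) :
    Cfsg.pResidualOf p (Subgroup.normalizer (W : Set G))
      = Cfsg.pResidual p G ⊓ Subgroup.normalizer (W : Set G) := by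
  apply le_antisymm (pResidualOf_le _)
  have hSH := sylow_le_normalizer_of_weaklyClosed S W hW
  have hidx : ¬ p ∣ (Subgroup.normalizer (W : Set G)).index := fun h =>
    S.not_dvd_index (h.trans (Subgroup.index_dvd_of_le hSH))
  exact TateGen.pResidual_inf_le _ hidx (yoshida_extElem S W hW hE)

/-- the focal form of the Wielandt–Yoshida theorem -/
theorem yoshida_focal (S : Sylow p G) (W : Subgroup G)
    (hW : Cfsg.IsWeaklyClosed W (S : Subgroup G)) (hE : EngelHypS p (S : Subgroup G) W) :
    (S : Subgroup G) ⊓ commutator G = (S : Subgroup G) ⊓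
      ⁅Subgroup.normalizer (W : Set G), Subgroup.normalizer (W : Set G)⁆ := by
  have hSH := sylow_le_normalizer_of_weaklyClosed S W hW
  apply le_antisymm
  · apply le_inf inf_le_left
    exact TateGen.sylow_inf_commutator_le _ S hSH (yoshida_extElem S W hW hE)
  · apply inf_le_inf_left
    rw [commutator_def]
    exact Subgroup.commutator_mono le_top le_top

omit [Finite G] hp in
theorem iterComm_mem_lowerCentralSeries (P : Subgroup G) {z y : G} (hz : z ∈ P) (hy : y ∈ P)
    (n : ℕ) : iterComm z n y ∈ P.lowerCentralSeries n := by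
  induction n with
  | zero => exact hy
  | succ n ih =>
    rw [iterComm_succ, Subgroup.lowerCentralSeries_succ]
    have e : (iterComm z n y)⁻¹ * z⁻¹ * (iterComm z n y) * z = ⁅(iterComm z n y)⁻¹, z⁻¹⁆ := by
      rw [commutatorElement_def]; group
    rw [e]
    exact Subgroup.commutator_mem_commutator (Subgroup.inv_mem _ ih) (P.inv_mem hz)

omit hp in
theorem sylow_weaklyClosed_self (P : Sylow p G) :
    Cfsg.IsWeaklyClosed (P : Subgroup G) (P : Subgroup G) := by
  refine ⟨le_rfl, fun g hg => ?_⟩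
  apply Subgroup.eq_of_le_of_card_ge hg
  rw [Subgroup.card_map_of_injective (MulAut.conj g).injective]

end Cfsg.Agent.Lib.Helper1.Yo
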