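import Mathlib
import Cfsg.Prelude.Def_Transfer
import Cfsg.Agent.Lib.Helper1.Yo6
import Cfsg.Agent.Lib.Helper1.FrattiniP
set_option autoImplicit false
universe u
namespace Cfsg.Agent.Lib.Helper1.Yo

open scoped commutatorElement

variable {G : Type u} [Group G] [Finite G] {p : ℕ} [hp : Fact p.Prime]

omit [Finite G] hp in
/-- Bezout in a subgroup -/
theorem mem_of_pow_mem_of_coprime {X : Type*} [Group X] (Y : Subgroup X) (z : X) (i j : ℕ)
    (hij : Nat.Coprime i j) (hi : z ^ i ∈ Y) (hj : z ^ j ∈ Y) : z ∈ Y := by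
  have h1 : (Nat.gcd i j : ℤ) = i * Nat.gcdA i j + j * Nat.gcdB i j := Nat.gcd_eq_gcd_ab i j
  rw [hij] at h1
  have h2 : z = (z ^ i) ^ (Nat.gcdA i j) * (z ^ j) ^ (Nat.gcdB i j) := by
    rw [← zpow_natCast, ← zpow_natCast, ← zpow_mul, ← zpow_mul, ← zpow_add, ← h1]
    simp
  rw [h2]
  exact Y.mul_mem (Y.zpow_mem hi _) (Y.zpow_mem hj _)

/-- homomorphisms from a finite `p`-group to a commutative group of exponent `p` kill the
Frattini subgroup -/
theorem frattini_le_ker_of_exponent {X : Type*} [Group X] [Finite X] {A : Type*} [CommGroup A]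
    (hA : ∀ a : A, a ^ p = 1) (f : X →* A) : frattini X ≤ f.ker := by
  apply frattini_le_of_elementary_quotient p f.ker (Abelianization.commutator_subset_ker f)
  intro x
  rw [MonoidHom.mem_ker, map_pow, hA]

/-- the Engel hypothesis follows from the negation of the conclusion of the
Wielandt–Yoshida theorem -/
theorem engelHypS_of_frattini (S : Sylow p G) (W : Subgroup G)
    (hW : Cfsg.IsWeaklyClosed W (S : Subgroup G))
    (hF : ∀ x ∈ (S : Subgroup G), ∀ z ∈ W, ∀ W₀ : Subgroup ↥W, IsCoatom W₀ →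
      iterComm z (p - 1) x ∈ W₀.map W.subtype →
      iterComm z (p - 1) x ∈ ((frattini ↥W₀).map W₀.subtype).map W.subtype) :
    EngelHypS p (S : Subgroup G) W := by
  intro A _ hA M z hcfg ν e he
  have hWS : W ≤ (S : Subgroup G) := hW.1
  have hSN := sylow_le_normalizer_of_weaklyClosed S W hW
  have hzW : (z : G) ∈ W := Subgroup.mem_subgroupOf.mp hcfg.zW
  -- the element `c`
  obtain ⟨c', hc'⟩ : ∃ c' : ↥(S : Subgroup G), c' = iterComm z (p - 1) e := ⟨_, rfl⟩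
  have hc'M : c' ∈ M := hc' ▸ iterComm_mem M z hcfg.norm (p - 1) he
  have hc'G : (c' : G) = iterComm (z : G) (p - 1) (e : G) := by
    rw [hc', coe_iterComm]
  have hcW : (c' : G) ∈ W := by
    rw [hc'G]
    obtain ⟨k, hk⟩ : ∃ k, p - 1 = k + 1 := ⟨p - 2, by have := hp.out.two_le; omega⟩
    rw [hk, iterComm_succ]
    have hdS : iterComm (z : G) k (e : G) ∈ (S : Subgroup G) := by
      rw [← coe_iterComm]; exact (iterComm z k e).2
    have h1 : (iterComm (z : G) k (e : G))⁻¹ ∈ Subgroup.normalizer (W : Set G) :=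
      hSN ((S : Subgroup G).inv_mem hdS)
    have h2 := (Subgroup.mem_normalizer_iff.mp h1 (z : G)⁻¹).mp (W.inv_mem hzW)
    rw [inv_inv] at h2
    exact W.mul_mem h2 hzW
  rw [← hc']
  -- the coatom `W₀`
  let W₀ : Subgroup ↥W := M.comap (Subgroup.inclusion hWS)
  have hW₀mem : ∀ w : ↥W, w ∈ W₀ ↔ (⟨(w : G), hWS w.2⟩ : ↥(S : Subgroup G)) ∈ M := fun w => Iff.rfl
  have hzW₀ : (⟨(z : G), hzW⟩ : ↥W) ∉ W₀ := by
    rw [hW₀mem]
    exact hcfg.zM
  have hzpW₀ : (⟨(z : G), hzW⟩ : ↥W) ^ p ∈ W₀ := by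
    rw [hW₀mem]
    have := hcfg.pow
    convert this using 1
    apply Subtype.ext
    simp
  have hcover : ∀ w : ↥W, ∃ i : ℕ, w * (⟨(z : G), hzW⟩ : ↥W) ^ i ∈ W₀ := by
    intro w
    obtain ⟨i, hi⟩ := hcfg.cover ⟨(w : G), hWS w.2⟩ (Subgroup.mem_subgroupOf.mpr w.2)
    refine ⟨i, ?_⟩
    rw [hW₀mem]
    convert hi using 1
    apply Subtype.ext
    simp
  have hW₀c : IsCoatom W₀ := by
    refine ⟨fun h => hzW₀ (h ▸ Subgroup.mem_top _), fun Y hY => ?_⟩
    obtain ⟨y, hyY, hyW₀⟩ := SetLike.exists_of_lt hY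
    obtain ⟨i, hi⟩ := hcover y
    have hzi : (⟨(z : G), hzW⟩ : ↥W) ^ i ∈ Y := by
      have := Y.mul_mem (Y.inv_mem hyY) (hY.le hi)
      rwa [inv_mul_cancel_left] at this
    have hpi : ¬ p ∣ i := by
      rintro ⟨j, rfl⟩
      apply hyW₀
      have h1 : (⟨(z : G), hzW⟩ : ↥W) ^ (p * j) ∈ W₀ := by
        rw [pow_mul]; exact W₀.pow_mem hzpW₀ j
      have := W₀.mul_mem hi (W₀.inv_mem h1)
      rwa [mul_inv_cancel_right] at this
    have hcop : Nat.Coprime i p := (Nat.coprime_comm.mp ((hp.out.coprime_iff_not_dvd).mpr hpi))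
    have hzY : (⟨(z : G), hzW⟩ : ↥W) ∈ Y :=
      mem_of_pow_mem_of_coprime Y _ i p hcop hzi (hY.le hzpW₀)
    rw [eq_top_iff]
    intro w _
    obtain ⟨j, hj⟩ := hcover w
    have := Y.mul_mem (hY.le hj) (Y.inv_mem (Y.pow_mem hzY j))
    rwa [mul_inv_cancel_right] at this
  -- apply the hypothesis
  have hcW₀ : (c' : G) ∈ W₀.map W.subtype := by
    refine ⟨⟨(c' : G), hcW⟩, ?_, rfl⟩
    exact (hW₀mem _).mpr hc'M
  have hfr := hF (e : G) e.2 (z : G) hzW W₀ hW₀c (hc'G ▸ hcW₀)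
  rw [← hc'G] at hfr
  obtain ⟨w, ⟨f, hf, hfw⟩, hwc⟩ := hfr
  -- the restriction of `ν` to `W₀`
  let ι : ↥W₀ →* ↥M := (Subgroup.inclusion hWS).subgroupComap M
  let ν₀ : ↥W₀ →* A := ν.comp ι
  have hker := frattini_le_ker_of_exponent (p := p) hA ν₀ hf
  have hιf : ((ι f : ↥M) : ↥(S : Subgroup G)) = c' := by
    apply Subtype.ext
    rw [← hwc, ← hfw]
    rfl
  rw [extOne_of_mem M ν hc'M]
  have : (⟨c', hc'M⟩ : ↥M) = ι f := Subtype.ext hιf.symm
  rw [this]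
  exact hker

end Cfsg.Agent.Lib.Helper1.Yo
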