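import Mathlib
import Cfsg.Agent.Lib.Helper1.Blk23
import Cfsg.Agent.Lib.Helper1.Yo7
import Cfsg.Agent.Lib.Helper3.Iso4
import Cfsg.Agent.Lib.Lead.UniqueP
set_option autoImplicit false
set_option maxHeartbeats 4000000
set_option linter.unusedVariables false
set_option linter.unusedSectionVars false
set_option linter.style.longLine false
set_option linter.unusedSimpArgs false
set_option linter.deprecated false
set_option linter.style.haveILetI false
open scoped commutatorElement Pointwise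
universe u v w
namespace Cfsg.Agent.Lib.Helper1.Blk

open Cfsg Cfsg.Agent.Lib.Helper1 Cfsg.Agent.Lib.Helper2 Cfsg.Agent.Lib.Helper3 Cfsg.Agent.Lib.Helper4

theorem mem_closure_pair_comm {G : Type u} [Group G] {p : ℕ} (hp : 0 < p) {a b : G}
    (hab : Commute a b) (hb : b ^ p = 1) {g : G}
    (hg : g ∈ Subgroup.closure ({a, b} : Set G)) :
    ∃ q ∈ Subgroup.zpowers a, ∃ i : ℕ, g = q * b ^ i := by
  induction hg using Subgroup.closure_induction with
  | mem y hy =>
    rcases hy with rfl | hy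
    · exact ⟨y, Subgroup.mem_zpowers y, 0, by simp⟩
    · rw [Set.mem_singleton_iff] at hy
      subst hy
      exact ⟨1, one_mem _, 1, by simp⟩
  | one => exact ⟨1, one_mem _, 0, by simp⟩
  | mul y z _ _ hy hz =>
    obtain ⟨q, hq, i, rfl⟩ := hy
    obtain ⟨q', hq', j, rfl⟩ := hz
    refine ⟨q * q', mul_mem hq hq', i + j, ?_⟩
    have hc : Commute (b ^ i) q' := by
      obtain ⟨k, rfl⟩ := hq'
      exact ((hab.symm.pow_left i).zpow_right k)
    rw [pow_add]
    calc q * b ^ i * (q' * b ^ j) = q * (b ^ i * q') * b ^ j := by group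
      _ = q * (q' * b ^ i) * b ^ j := by rw [hc.eq]
      _ = q * q' * (b ^ i * b ^ j) := by group
  | inv y _ hy =>
    obtain ⟨q, hq, i, rfl⟩ := hy
    refine ⟨q⁻¹, inv_mem hq, (p - 1) * i, ?_⟩
    have hc : Commute (b ^ i) q := by
      obtain ⟨k, rfl⟩ := hq
      exact ((hab.symm.pow_left i).zpow_right k)
    have h1 : b ^ i * b ^ ((p - 1) * i) = 1 := by
      obtain ⟨p', rfl⟩ : ∃ p', p = p' + 1 := ⟨p - 1, by omega⟩
      rw [← pow_add, Nat.add_sub_cancel, show i + p' * i = (p' + 1) * i by ring, pow_mul, hb,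
        one_pow]
    have h2 : (b ^ i)⁻¹ = b ^ ((p - 1) * i) := inv_eq_of_mul_eq_one_right h1
    rw [mul_inv_rev, h2]
    have hc' : Commute (b ^ ((p - 1) * i)) q⁻¹ := by
      obtain ⟨k, rfl⟩ := hq
      exact (((hab.symm.pow_left _).zpow_right k)).inv_right
    exact hc'.eq

/-- a `p`-subgroup centralised by an element of order `p` outside it, in a group of `p`-rank at
most 2, has a unique subgroup of order `p` -/
theorem uop_of_central_outside {G : Type u} [Group G] [Finite G] {p : ℕ} [hp : Fact p.Prime]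
    (hrk : PRankLE p 2 G) (Q : Subgroup G) (hQ : IsPGroup p Q) (x : G) (hxp : x ^ p = 1)
    (hxQ : x ∉ Q) (hxc : ∀ y ∈ Q, Commute x y) : Lead.UniqueP.UOP p ↥Q := by
  intro s t hs ht hs1
  haveI hQne : Nontrivial ↥Q := ⟨⟨s, 1, hs1⟩⟩
  obtain ⟨t₀, ht₀c, ht₀⟩ : ∃ t₀ : ↥Q, t₀ ∈ Subgroup.center ↥Q ∧ orderOf t₀ = p := by
    haveI := hQ.center_nontrivial
    have hdvd : p ∣ Nat.card (Subgroup.center ↥Q) := by
      obtain ⟨k, hk⟩ := IsPGroup.iff_card.mp (hQ.to_subgroup (Subgroup.center ↥Q))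
      have h1 : 1 < Nat.card (Subgroup.center ↥Q) := Finite.one_lt_card
      rw [hk] at h1 ⊢
      rcases Nat.eq_zero_or_pos k with hk0 | hkpos
      · rw [hk0, pow_zero] at h1; omega
      · exact dvd_pow_self p (by omega)
    obtain ⟨z, hz⟩ := exists_prime_orderOf_dvd_card' p hdvd
    exact ⟨z, z.2, by rw [← hz, Subgroup.orderOf_coe]⟩
  have ht₀p : t₀ ^ p = 1 := by rw [← ht₀]; exact pow_orderOf_eq_one t₀
  have ht₀1 : t₀ ≠ 1 := by
    intro h
    rw [h, orderOf_one] at ht₀
    exact hp.out.one_lt.ne' ht₀.symm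
  have key : ∀ s : ↥Q, s ^ p = 1 → s ∈ Subgroup.zpowers t₀ := by
    intro s hs
    have hab : Commute (t₀ : G) x := (hxc t₀ t₀.2).symm
    have hac : Commute (t₀ : G) (s : G) := by
      have := (Subgroup.mem_center_iff.mp ht₀c s)
      have h2 := congrArg Subtype.val this
      exact h2.symm
    have hbc : Commute x (s : G) := hxc s s.2
    have ha : (t₀ : G) ^ p = 1 := by
      have := congrArg Subtype.val ht₀p
      simpa using this
    have hc : (s : G) ^ p = 1 := by
      have := congrArg Subtype.val hs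
      simpa using this
    have ha1 : (t₀ : G) ≠ 1 := fun h => ht₀1 (Subtype.ext h)
    have hb' : x ∉ Subgroup.zpowers (t₀ : G) := by
      intro h
      apply hxQ
      exact (Subgroup.zpowers_le.mpr t₀.2) h
    have hmem := Iso.mem_closure_pair_of_rank hrk hab hac hbc ha hxp hc ha1 hb'
    obtain ⟨q, hq, i, hsi⟩ := mem_closure_pair_comm hp.out.pos hab hxp hmem
    have hqQ : q ∈ Q := (Subgroup.zpowers_le.mpr t₀.2) hq
    have hxi : x ^ i ∈ Q := by
      have : x ^ i = q⁻¹ * (s : G) := by rw [hsi]; group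
      rw [this]
      exact Q.mul_mem (Q.inv_mem hqQ) s.2
    by_cases hpi : p ∣ i
    · obtain ⟨j, rfl⟩ := hpi
      rw [pow_mul, hxp, one_pow, mul_one] at hsi
      obtain ⟨k, hk⟩ := Subgroup.mem_zpowers_iff.mp hq
      rw [Subgroup.mem_zpowers_iff]
      refine ⟨k, ?_⟩
      apply Subtype.ext
      rw [hsi, ← hk]
      simp
    · exact absurd (mem_of_pow_mem_of_not_dvd Q hxp hpi hxi) hxQ
  have hZ : Nat.card ↥(Subgroup.zpowers t₀) = p := by rw [Nat.card_zpowers, ht₀]
  have h1 : Subgroup.zpowers s = Subgroup.zpowers t₀ := BK.zpowers_eq_of_card_prime hZ (key s hs) hs1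
  rw [h1]
  exact key t ht

/-- hence such a subgroup is cyclic if `p` is odd -/
theorem cyclic_of_central_outside {G : Type u} [Group G] [Finite G] {p : ℕ} [hp : Fact p.Prime]
    (hp2 : p ≠ 2) (hrk : PRankLE p 2 G) (Q : Subgroup G) (hQ : IsPGroup p Q) (x : G)
    (hxp : x ^ p = 1) (hxQ : x ∉ Q) (hxc : ∀ y ∈ Q, Commute x y) : IsCyclic ↥Q := by
  rcases Lead.UniqueP.cyclic_or_quaternion p hQ (uop_of_central_outside hrk Q hQ x hxp hxQ hxc)
    with h | ⟨h, -⟩
  · exact h
  · exact absurd h hp2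

section HG
variable {Y : Type u} [Group Y] [Finite Y] {p : ℕ} [hp : Fact p.Prime]

/-- conjugation action of a subgroup on a normal subgroup -/
def conjAct (Q : Subgroup Y) [Q.Normal] (H : Subgroup Y) : ↥H →* MulAut ↥Q :=
  (MulAut.conjNormal (H := Q)).comp H.subtype

omit [Finite Y] in
theorem conjAct_coe (Q : Subgroup Y) [Q.Normal] (H : Subgroup Y) (h : ↥H) (u : ↥Q) :
    ((conjAct Q H h u : ↥Q) : Y) = (h : Y) * u * (h : Y)⁻¹ := by
  simp [conjAct]

theorem hom_trivial_of_le_commutator (Q : Subgroup Y) [hQn : Q.Normal] (hQ : IsPGroup p Q)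
    (H : Subgroup Y) (hsup : Q ⊔ H = ⊤) (hidx : (Q.index).Coprime p) (hQc : Q ≤ commutator Y)
    {A : Type u} [CommGroup A] (hA : ∀ a : A, a ^ p = 1) (φ : ↥Q →* A)
    (hφ : ∀ w ∈ Act.commSet (conjAct Q H), φ w = 1) : ∀ v : ↥Q, φ v = 1 := by
  classical
  -- invariance
  have hinv : ∀ g : Y, ∀ v : ↥Q, φ (MulAut.conjNormal g v) = φ v := by
    let T : Subgroup Y :=
      { carrier := {g | ∀ v : ↥Q, φ (MulAut.conjNormal g v) = φ v}
        one_mem' := by intro v; simp
        mul_mem' := by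
          intro a b ha hb v
          rw [map_mul, MulAut.mul_apply, ha, hb]
        inv_mem' := by
          intro a ha v
          have := ha (MulAut.conjNormal a⁻¹ v)
          rw [← MulAut.mul_apply, ← map_mul, mul_inv_cancel, map_one, MulAut.one_apply] at this
          exact this.symm }
    have hT : T = ⊤ := by
      rw [eq_top_iff, ← hsup, sup_le_iff]
      constructor
      · intro u hu v
        have : MulAut.conjNormal u v = (⟨u, hu⟩ : ↥Q) * v * (⟨u, hu⟩ : ↥Q)⁻¹ := by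
          apply Subtype.ext; simp
        rw [this, map_mul, map_mul, map_inv, mul_comm (φ ⟨u, hu⟩), mul_assoc, mul_inv_cancel,
          mul_one]
      · intro h hh v
        have hmem : v⁻¹ * MulAut.conjNormal h v ∈ Act.commSet (conjAct Q H) :=
          ⟨v, ⟨h, hh⟩, rfl⟩
        have := hφ _ hmem
        rw [map_mul, map_inv] at this
        exact (inv_mul_eq_one.mp this).symm
    intro g
    have : g ∈ T := by rw [hT]; exact Subgroup.mem_top g
    exact this
  intro v
  obtain ⟨y, hy⟩ := v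
  haveI : Fintype (Y ⧸ Q) := Fintype.ofFinite _
  have hvan : ∀ (t : Y) (n : ℕ), 1 < n → n ∣ orderOf y → ∀ h : t⁻¹ * y ^ n * t ∈ Q,
      φ ⟨_, h⟩ = 1 := by
    intro t n hn hdvd h
    obtain ⟨k, hk⟩ := hQ ⟨y, hy⟩
    have hk' : y ^ p ^ k = 1 := by
      have := congrArg Subtype.val hk
      simpa using this
    have h1 : n ∣ p ^ k := hdvd.trans (orderOf_dvd_of_pow_eq_one hk')
    obtain ⟨j, hjk, rfl⟩ := (Nat.dvd_prime_pow hp.out).mp h1
    obtain ⟨j', rfl⟩ : ∃ j', j = j' + 1 := by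
      rcases Nat.eq_zero_or_pos j with h0 | hpos
      · rw [h0, pow_zero] at hn; omega
      · exact ⟨j - 1, by omega⟩
    have hmem : t⁻¹ * y ^ p ^ j' * t ∈ Q := by
      have := hQn.conj_mem _ (Q.pow_mem hy (p ^ j')) t⁻¹
      simpa using this
    have : (⟨_, h⟩ : ↥Q) = (⟨_, hmem⟩ : ↥Q) ^ p := by
      apply Subtype.ext
      rw [Subgroup.coe_pow]
      show t⁻¹ * y ^ p ^ (j' + 1) * t = (t⁻¹ * y ^ p ^ j' * t) ^ p
      rw [Yo.inv_conj_pow, ← pow_mul, ← pow_succ]
    rw [this, map_pow, hA]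
  have h1 : MonoidHom.transfer φ y = 1 := by
    have := Abelianization.commutator_subset_ker (MonoidHom.transfer φ) (hQc hy)
    exact MonoidHom.mem_ker.mp this
  have h2 := Yo.transfer_eq_prod_extOne Q φ y hvan
  have h3 : ∀ q : Y ⧸ Q, Yo.extOne Q φ (q.out⁻¹ * y * q.out) = φ ⟨y, hy⟩ := by
    intro q
    have hmem : q.out⁻¹ * y * q.out ∈ Q := by
      have := hQn.conj_mem y hy q.out⁻¹
      simpa using this
    rw [Yo.extOne_of_mem Q φ hmem]
    have : (⟨q.out⁻¹ * y * q.out, hmem⟩ : ↥Q) = MulAut.conjNormal q.out⁻¹ ⟨y, hy⟩ := by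
      apply Subtype.ext; simp
    rw [this, hinv]
  rw [h1] at h2
  simp only [h3, Finset.prod_const, Finset.card_univ] at h2
  have hcard : Fintype.card (Y ⧸ Q) = Q.index := by
    rw [Subgroup.index_eq_card, Nat.card_eq_fintype_card]
  rw [hcard] at h2
  have h4 : orderOf (φ ⟨y, hy⟩) ∣ Q.index := orderOf_dvd_of_pow_eq_one h2.symm
  have h5 : orderOf (φ ⟨y, hy⟩) ∣ p := orderOf_dvd_of_pow_eq_one (hA _)
  have h6 : orderOf (φ ⟨y, hy⟩) ∣ 1 := by
    have := Nat.dvd_gcd h4 h5
    rwa [hidx] at this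
  exact orderOf_eq_one_iff.mp (Nat.dvd_one.mp h6)

/-- if the normal Sylow subgroup `Q` of `Y = QH` lies in `Y'`, then `[Q, H] = Q` -/
theorem hgen_of_le_commutator (Q : Subgroup Y) [hQn : Q.Normal] (hQ : IsPGroup p Q)
    (H : Subgroup Y) (hsup : Q ⊔ H = ⊤) (hidx : (Q.index).Coprime p) (hQc : Q ≤ commutator Y) :
    Subgroup.closure (Act.commSet (conjAct Q H)) = ⊤ := by
  by_contra hne
  obtain ⟨M, hM, hDM⟩ := (eq_top_or_exists_le_coatom _).resolve_left hne
  haveI hMn : M.Normal := normal_of_isCoatom_of_isPGroup p hQ M hM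
  have hMidx : M.index = p := index_eq_prime_of_isCoatom p hQ M hM
  have hcardA : Nat.card (↥Q ⧸ M) = p := by rw [← Subgroup.index_eq_card]; exact hMidx
  haveI : IsCyclic (↥Q ⧸ M) := isCyclic_of_prime_card hcardA
  letI : CommGroup (↥Q ⧸ M) := IsCyclic.commGroup
  have hA : ∀ a : ↥Q ⧸ M, a ^ p = 1 := by
    intro a; rw [← hcardA]; exact pow_card_eq_one'
  have hφ : ∀ w ∈ Act.commSet (conjAct Q H), (QuotientGroup.mk' M) w = 1 := by
    intro w hw
    rw [QuotientGroup.mk'_apply, QuotientGroup.eq_one_iff]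
    exact hDM (Subgroup.subset_closure hw)
  have h := hom_trivial_of_le_commutator Q hQ H hsup hidx hQc hA (QuotientGroup.mk' M) hφ
  apply hM.1
  rw [eq_top_iff]
  intro v _
  have := h v
  rwa [QuotientGroup.mk'_apply, QuotientGroup.eq_one_iff] at this

end HG

end Cfsg.Agent.Lib.Helper1.Blk
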