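import Mathlib
import Cfsg.Agent.Lib.Helper1.Blk24
import Cfsg.Agent.Lib.Helper2.Heisenberg
import Cfsg.Agent.Lib.Helper7.Isolated
set_option autoImplicit false
set_option maxHeartbeats 4000000
set_option linter.unusedVariables false
set_option linter.unusedSectionVars false
set_option linter.style.longLine false
set_option linter.unusedSimpArgs false
set_option linter.deprecated false
set_option linter.style.haveILetI false
open scoped commutatorElement Pointwise
universe u v w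
namespace Cfsg.Agent.Lib.Helper1.Blk

open Cfsg Cfsg.Agent.Lib.Helper1 Cfsg.Agent.Lib.Helper2 Cfsg.Agent.Lib.Helper3 Cfsg.Agent.Lib.Helper4

/-- the structure of a Sylow `p`-subgroup `P` of a perfect group of `p`-rank at most 2 (`p` odd)
containing a central element of order `p` which is centralised by `N(P)` -/
theorem caseB {X : Type u} [Group X] [Finite X] {p : ℕ} [hp : Fact p.Prime] (hp2 : p ≠ 2)
    (hperf : commutator X = ⊤) (hrk : PRankLE p 2 X) (P : Sylow p X) (x₀ : X)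
    (hx₀P : x₀ ∈ (P : Subgroup X)) (hx₀p : x₀ ^ p = 1) (hx₀1 : x₀ ≠ 1)
    (hx₀c : ∀ y ∈ (P : Subgroup X), Commute x₀ y)
    (hx₀N : ∀ n ∈ Subgroup.normalizer ((P : Subgroup X) : Set X), n * x₀ * n⁻¹ = x₀) :
    (IsExtraspecial p ↥(P : Subgroup X) ∧ Nat.card (P : Subgroup X) = p ^ 3 ∧
        ∀ y ∈ (P : Subgroup X), y ^ p = 1) ∨
    (p = 3 ∧ ∃ k : ℕ, 2 ≤ k ∧ Nat.card (P : Subgroup X) = 3 ^ (2 * k + 1) ∧
      ∃ _ : Group.IsNilpotent ↥(P : Subgroup X),
        Group.nilpotencyClass ↥(P : Subgroup X) = 2 * k) := by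
  have hPp : IsPGroup p ↥(P : Subgroup X) := P.2
  have hrkP : PRankLE p 2 ↥(P : Subgroup X) := Rk.pRankLE_subgroup hrk _
  have hwc := Yo.sylow_weaklyClosed_self P
  have hfoc := Yo.yoshida_focal P (P : Subgroup X) hwc
    (Yo.engelHypS_of_frattini P (P : Subgroup X) hwc (by
      intro a ha z hz W₀ hW₀ _
      have h1 := iter_comm_mem_frattini hp2 hPp hrkP W₀ hW₀ ⟨a, ha⟩ ⟨z, hz⟩
      refine ⟨_, h1, ?_⟩
      rw [← Yo.iterComm_eq]
      exact Yo.coe_iterComm (P : Subgroup X) ⟨z, hz⟩ ⟨a, ha⟩ (p - 1)))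
  obtain ⟨N, hN⟩ : ∃ N : Subgroup X, N = Subgroup.normalizer ((P : Subgroup X) : Set X) :=
    ⟨_, rfl⟩
  rw [← hN] at hfoc hx₀N
  have hPN : (P : Subgroup X) ≤ ⁅N, N⁆ := by
    rw [hperf, inf_top_eq] at hfoc
    exact inf_eq_left.mp hfoc.symm
  have hWN : (P : Subgroup X) ≤ N := by rw [hN]; exact Subgroup.le_normalizer
  obtain ⟨Q, hQdef⟩ : ∃ Q : Subgroup ↥N, Q = (P : Subgroup X).subgroupOf N := ⟨_, rfl⟩
  haveI hQn : Q.Normal := by
    rw [hQdef]; subst hN; exact Subgroup.normal_in_normalizer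
  have hmemQ : ∀ y : ↥N, y ∈ Q ↔ (y : X) ∈ (P : Subgroup X) := by
    intro y; rw [hQdef]; exact Subgroup.mem_subgroupOf
  let e : ↥Q ≃* ↥(P : Subgroup X) :=
    { toFun := fun y => ⟨((y : ↥N) : X), (hmemQ _).mp y.2⟩
      invFun := fun y => ⟨⟨(y : X), hWN y.2⟩, (hmemQ _).mpr y.2⟩
      left_inv := fun y => rfl
      right_inv := fun y => rfl
      map_mul' := fun a b => rfl }
  have he : ∀ y : ↥Q, ((e y : ↥(P : Subgroup X)) : X) = ((y : ↥N) : X) := fun y => rfl
  have hQp : IsPGroup p ↥Q := hPp.of_equiv e.symm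
  have hQc : Q ≤ commutator ↥N := by
    intro y hy
    have h1 : ((y : ↥N) : X) ∈ ⁅N, N⁆ := hPN ((hmemQ y).mp hy)
    rw [← Subgroup.map_subtype_commutator] at h1
    obtain ⟨c, hc, hcy⟩ := h1
    have : c = y := Subtype.ext hcy
    rwa [← this]
  obtain ⟨n, hn⟩ := IsPGroup.iff_card.mp hPp
  have hQcard : Nat.card ↥Q = p ^ n := by rw [← hn]; exact Nat.card_congr e.toEquiv
  have hQidx : (Q.index).Coprime p := by
    have h1 : ¬ p ∣ (P : Subgroup X).index := P.not_dvd_index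
    have h2 : Q.index ∣ (P : Subgroup X).index := by
      have := Subgroup.relIndex_mul_index hWN
      rw [hQdef]
      exact Dvd.intro _ this
    exact ((Nat.Prime.coprime_iff_not_dvd hp.out).mpr (fun h => h1 (h.trans h2))).symm
  have hcop' : Nat.Coprime (Nat.card ↥Q) Q.index := by
    rw [hQcard]; exact Nat.Coprime.pow_left n hQidx.symm
  obtain ⟨H, hH⟩ := Subgroup.exists_left_complement'_of_coprime hcop'
  have hsup : Q ⊔ H = ⊤ := by rw [sup_comm]; exact hH.sup_eq_top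
  have hHcard : Nat.card ↥H = Q.index := hH.index_eq_card.symm
  have hgen := hgen_of_le_commutator Q hQp H hsup hQidx hQc
  have hcopH : (Nat.card ↥H).Coprime p := by rw [hHcard]; exact hQidx
  -- the element
  obtain ⟨xq, hxq⟩ : ∃ xq : ↥Q, ((xq : ↥N) : X) = x₀ :=
    ⟨⟨⟨x₀, hWN hx₀P⟩, (hmemQ _).mpr hx₀P⟩, rfl⟩
  have hxqc : xq ∈ Subgroup.center ↥Q := by
    rw [Subgroup.mem_center_iff]
    intro y
    apply Subtype.ext; apply Subtype.ext
    show ((y : ↥N) : X) * ((xq : ↥N) : X) = ((xq : ↥N) : X) * ((y : ↥N) : X)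
    rw [hxq]
    exact ((hx₀c _ ((hmemQ _).mp y.2)).eq).symm
  have hxq1 : xq ≠ 1 := by
    intro h; apply hx₀1
    rw [← hxq, h]; rfl
  have hxqp : xq ^ p = 1 := by
    apply Subtype.ext; apply Subtype.ext
    show (((xq ^ p : ↥Q) : ↥N) : X) = 1
    rw [Subgroup.coe_pow, Subgroup.coe_pow, hxq, hx₀p]
  have hfix : ∀ a : ↥H, conjAct Q H a xq = xq := by
    intro a
    apply Subtype.ext; apply Subtype.ext
    rw [conjAct_coe]
    show (((a : ↥N) : X)) * ((xq : ↥N) : X) * ((((a : ↥N))⁻¹ : ↥N) : X) = ((xq : ↥N) : X)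
    rw [hxq, Subgroup.coe_inv]
    exact hx₀N _ (a : ↥N).2
  have hrkQ : PRankLE p 2 ↥Q := Rk.pRankLE_subgroup (Rk.pRankLE_subgroup hrk N) Q
  rcases Act.main (conjAct Q H) hp2 n hQcard hrkQ hcopH hgen xq hxqc hxq1 hxqp hfix with
    ⟨hes, hc3, hexp⟩ | ⟨hp3, k, hk2, hnk, hmax⟩
  · left
    refine ⟨HeisLib.isExtraspecial_of_mulEquiv e hes, ?_, ?_⟩
    · rw [← hc3]; exact (Nat.card_congr e.toEquiv).symm
    · intro y hy
      have h1 := hexp ⟨⟨y, hWN hy⟩, (hmemQ _).mpr hy⟩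
      have h2 := congrArg (fun t : ↥Q => ((t : ↥N) : X)) h1
      simpa using h2
  · right
    refine ⟨hp3, k, hk2, ?_, ?_⟩
    · rw [hn, hnk, hp3]
    · haveI hnil : Group.IsNilpotent ↥(P : Subgroup X) := hPp.isNilpotent
      refine ⟨hnil, ?_⟩
      have hmaxW : (⊤ : Subgroup ↥(P : Subgroup X)).lowerCentralSeries (n - 2) ≠ ⊥ := by
        intro hbot
        apply hmax
        have := lcs_map e.toMonoidHom e.surjective (n - 2)
        rw [hbot] at this
        exact (Subgroup.map_eq_bot_iff_of_injective _ e.injective).mp this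
      have hbotW := lcs_eq_bot_of_card_pow (p := p) n (by omega) ↥(P : Subgroup X) hn
      have h1 : Group.nilpotencyClass ↥(P : Subgroup X) ≤ n - 1 :=
        Subgroup.lowerCentralSeries_eq_bot_iff_nilpotencyClass_le.mp hbotW
      have h2 : ¬ Group.nilpotencyClass ↥(P : Subgroup X) ≤ n - 2 := fun h =>
        hmaxW (Subgroup.lowerCentralSeries_eq_bot_iff_nilpotencyClass_le.mpr h)
      omega

/-- the Sylow structure statement of S3038 for a perfect subgroup `K` -/
theorem isolated_sylow_structure {G : Type u} [Group G] [Finite G] {p : ℕ} [hp : Fact p.Prime]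
    (hp2 : p ≠ 2) (hrank : PRankLE p 2 G) (K : Subgroup G) (hperf : commutator ↥K = ⊤)
    (x : G) (hx : orderOf x = p) (hiso : IsIsolated x) (P : Sylow p ↥K) :
    ((∀ g : G, g * x * g⁻¹ ∉ (P : Subgroup ↥K).map K.subtype) ∧
        IsCyclic ↥(P : Subgroup ↥K)) ∨
    ((∃ g : G, g * x * g⁻¹ ∈ (P : Subgroup ↥K).map K.subtype) ∧
      ((IsExtraspecial p ↥(P : Subgroup ↥K) ∧ Nat.card (P : Subgroup ↥K) = p ^ 3 ∧
          ∀ y ∈ (P : Subgroup ↥K), y ^ p = 1) ∨
       (p = 3 ∧ ∃ k : ℕ, 2 ≤ k ∧ Nat.card (P : Subgroup ↥K) = 3 ^ (2 * k + 1) ∧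
          ∃ _ : Group.IsNilpotent ↥(P : Subgroup ↥K),
            Group.nilpotencyClass ↥(P : Subgroup ↥K) = 2 * k))) := by
  have hxp : x ^ p = 1 := by rw [← hx]; exact pow_orderOf_eq_one x
  have hx1 : x ≠ 1 := by
    intro h
    rw [h, orderOf_one] at hx
    exact hp.out.one_lt.ne' hx.symm
  have hconjp : ∀ g : G, (g * x * g⁻¹) ^ p = 1 := by
    intro g
    rw [conj_pow, hxp]; group
  have hconj1 : ∀ g : G, g * x * g⁻¹ ≠ 1 := by
    intro g h
    exact hx1 (conj_eq_one_iff.mp h)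
  by_cases hex : ∃ g : G, g * x * g⁻¹ ∈ (P : Subgroup ↥K).map K.subtype
  · right
    refine ⟨hex, ?_⟩
    obtain ⟨g, x₀, hx₀P, hx₀⟩ := hex
    have hx₀' : (x₀ : G) = g * x * g⁻¹ := hx₀
    have hiso' := Cfsg.Agent.Lib.Helper7.isolated_conj hiso g
    have hP' : IsPGroup p ↥((P : Subgroup ↥K).map K.subtype) := P.2.map K.subtype
    have hx'P : g * x * g⁻¹ ∈ (P : Subgroup ↥K).map K.subtype := ⟨x₀, hx₀P, hx₀⟩
    have hcent := Iso.isolated_central_of_pgroup hiso' hP' hx'P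
    apply caseB hp2 hperf (Rk.pRankLE_subgroup hrank K) P x₀ hx₀P
    · apply Subtype.ext
      rw [Subgroup.coe_pow, Subgroup.coe_one, hx₀']
      exact hconjp g
    · intro h
      apply hconj1 g
      rw [← hx₀', h]; rfl
    · intro y hy
      have := hcent (y : G) ⟨y, hy, rfl⟩
      apply Subtype.ext
      show (x₀ : G) * (y : G) = (y : G) * (x₀ : G)
      rw [hx₀']; exact this.eq
    · intro n hn
      have h1 : n * x₀ * n⁻¹ ∈ (P : Subgroup ↥K) :=
        (Subgroup.mem_normalizer_iff.mp hn x₀).mp hx₀P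
      have h3 : ((n * x₀ * n⁻¹ : ↥K) : G) = (n : G) * (g * x * g⁻¹) * (n : G)⁻¹ := by
        rw [← hx₀']; simp
      have h2 := hcent ((n * x₀ * n⁻¹ : ↥K) : G) ⟨_, h1, rfl⟩
      rw [h3] at h2
      have h4 := hiso' (n : G) h2
      apply Subtype.ext
      rw [h3, h4]; exact hx₀'.symm
  · left
    push Not at hex
    refine ⟨hex, ?_⟩
    obtain ⟨P', hP'def⟩ : ∃ P' : Subgroup G, P' = (P : Subgroup ↥K).map K.subtype := ⟨_, rfl⟩
    have hP' : IsPGroup p ↥P' := by rw [hP'def]; exact P.2.map K.subtype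
    obtain ⟨R, hR⟩ := hP'.exists_le_sylow
    have hzx : IsPGroup p ↥(Subgroup.zpowers x) :=
      Cfsg.Agent.Lib.Helper7.isPGroup_zpowers ⟨1, by rw [pow_one]; exact hx⟩
    obtain ⟨R₀, hR₀⟩ := hzx.exists_le_sylow
    obtain ⟨h, hh⟩ := MulAction.exists_smul_eq G R₀ R
    have hx'R : h * x * h⁻¹ ∈ (R : Subgroup G) := by
      rw [← hh, Sylow.smul_def, Sylow.pointwise_smul_def]
      exact Subgroup.smul_mem_pointwise_smul x (MulAut.conj h) _ (hR₀ (Subgroup.mem_zpowers x))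
    have hiso' := Cfsg.Agent.Lib.Helper7.isolated_conj hiso h
    have hcent := Iso.isolated_central_of_pgroup hiso' R.2 hx'R
    have hnotin : h * x * h⁻¹ ∉ P' := by rw [hP'def]; exact hex h
    haveI hcyc : IsCyclic ↥P' := cyclic_of_central_outside hp2 hrank P' hP' (h * x * h⁻¹)
      (hconjp h) hnotin (fun y hy => hcent y (hR hy))
    have e : ↥(P : Subgroup ↥K) ≃* ↥P' := by
      rw [hP'def]
      exact (P : Subgroup ↥K).equivMapOfInjective K.subtype K.subtype_injective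
    exact isCyclic_of_surjective e.symm e.symm.surjective

theorem commutator_eq_top_of_simple {X : Type u} [Group X] (hs : IsSimpleGroup X)
    (hn : ¬ IsMulCommutative X) : commutator X = ⊤ := by
  haveI := hs
  rcases (inferInstance : (commutator X).Normal).eq_bot_or_eq_top with h | h
  · exfalso
    apply hn
    refine ⟨⟨fun a b => ?_⟩⟩
    have h1 : ⁅a, b⁆ ∈ commutator X := by
      rw [commutator_def]
      exact Subgroup.commutator_mem_commutator (Subgroup.mem_top a) (Subgroup.mem_top b)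
    rw [h, Subgroup.mem_bot] at h1
    exact commutatorElement_eq_one_iff_mul_comm.mp h1
  · exact h

end Cfsg.Agent.Lib.Helper1.Blk
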