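import Mathlib

/-!
# Brandt's theorem (S4607): shared definitions for the ring-theoretic part

`KerNilp π`      : the kernel of `π` is a nilpotent ideal (a fixed number of kernel elements
                   always multiplies to zero).
`IsTwoSided I`   : the subspace `I` is a two-sided ideal.
`IsTwoSidedIn e I` : the subspace `I` is a two-sided ideal of `R` contained in `R e`.
`centerPart K e` : the central elements `z` of `R` with `z e = z`.
-/

set_option autoImplicit false

namespace Cfsg.Agent.Lib.Helper1.Brandt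

/-- kernel of `π` is a nilpotent ideal: some fixed number `m` of kernel elements multiply to 0 -/
def KerNilp {A B : Type*} [Ring A] [Ring B] (π : A → B) : Prop :=
  ∃ m : ℕ, ∀ f : Fin m → A, (∀ i, π (f i) = 0) → (List.ofFn f).prod = 0

/-- two-sided ideal as a subspace -/
def IsTwoSided {K A : Type*} [Field K] [Ring A] [Algebra K A] (I : Submodule K A) : Prop :=
  ∀ a : A, ∀ b ∈ I, a * b ∈ I ∧ b * a ∈ I

/-- two-sided ideal (as a `K`-subspace) of `R` contained in `R e` -/
def IsTwoSidedIn {K R : Type*} [Field K] [Ring R] [Algebra K R] (e : R) (I : Submodule K R) :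
    Prop :=
  (∀ b ∈ I, b * e = b) ∧ ∀ a : R, ∀ b ∈ I, a * b ∈ I ∧ b * a ∈ I

/-- the `e`-part of the centre -/
def centerPart (K : Type*) {R : Type*} [Field K] [Ring R] [Algebra K R] (e : R) :
    Submodule K R where
  carrier := {z | (∀ a : R, a * z = z * a) ∧ z * e = z}
  add_mem' := by
    rintro a b ⟨ha, ha'⟩ ⟨hb, hb'⟩
    exact ⟨fun c => by rw [mul_add, add_mul, ha, hb], by rw [add_mul, ha', hb']⟩
  zero_mem' := ⟨fun a => by simp, by simp⟩
  smul_mem' := by
    rintro c a ⟨ha, ha'⟩
    exact ⟨fun d => by rw [mul_smul_comm, smul_mul_assoc, ha], by rw [smul_mul_assoc, ha']⟩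

theorem mem_centerPart {K R : Type*} [Field K] [Ring R] [Algebra K R] (e z : R) :
    z ∈ centerPart K e ↔ (∀ a : R, a * z = z * a) ∧ z * e = z := Iff.rfl

end Cfsg.Agent.Lib.Helper1.Brandt
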