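import Mathlib
import Cfsg.Agent.Lib.Helper1.BrandtDefs
import Cfsg.Agent.Lib.Helper6.ResField
import Cfsg.Agent.Lib.Helper6.BlkCenter
import Cfsg.Agent.Lib.Helper6.BlkOrth2
import Cfsg.Agent.Lib.Helper6.BlkExt

/-!
Definitions for the block-theoretic bridge of Brandt's theorem: reduction modulo the local ideal
as a total function on the complex numbers, the group algebra over an arbitrary commutative ring as
right-invariant matrices, its symmetrising form, the reduced block idempotent.
-/

set_option autoImplicit false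
set_option linter.unusedSectionVars false
open Cfsg

namespace Cfsg.Agent.Lib.Helper1.Brandt

open Cfsg.Agent.Lib.Helper6

section red

variable {p : ℕ} {M : Ideal Cfsg.AlgInt}

/-- reduction modulo the local ideal, as a total function (junk value `0` outside the local ring) -/
noncomputable def redC (hM : Cfsg.IsPModular p M) (z : ℂ) : ResField hM := by
  classical
  exact if h : Cfsg.MemLocalRing M z then resMap hM ⟨z, h⟩ else 0

theorem redC_of_mem (hM : Cfsg.IsPModular p M) {z : ℂ} (h : Cfsg.MemLocalRing M z) :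
    redC hM z = resMap hM ⟨z, h⟩ := by
  unfold redC
  rw [dif_pos h]

theorem redC_zero (hM : Cfsg.IsPModular p M) : redC hM 0 = 0 := by
  rw [redC_of_mem hM (memLocalRing_zero hM)]
  exact map_zero (resMap hM)

theorem redC_one (hM : Cfsg.IsPModular p M) : redC hM 1 = 1 := by
  rw [redC_of_mem hM (memLocalRing_one hM)]
  exact map_one (resMap hM)

theorem redC_add (hM : Cfsg.IsPModular p M) {z w : ℂ} (hz : Cfsg.MemLocalRing M z)
    (hw : Cfsg.MemLocalRing M w) : redC hM (z + w) = redC hM z + redC hM w := by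
  rw [redC_of_mem hM hz, redC_of_mem hM hw, redC_of_mem hM (MemLocalRing.add hM hz hw),
    ← map_add]
  rfl

theorem redC_mul (hM : Cfsg.IsPModular p M) {z w : ℂ} (hz : Cfsg.MemLocalRing M z)
    (hw : Cfsg.MemLocalRing M w) : redC hM (z * w) = redC hM z * redC hM w := by
  rw [redC_of_mem hM hz, redC_of_mem hM hw, redC_of_mem hM (MemLocalRing.mul hM hz hw),
    ← map_mul]
  rfl

theorem redC_neg (hM : Cfsg.IsPModular p M) {z : ℂ} (hz : Cfsg.MemLocalRing M z) :
    redC hM (-z) = - redC hM z := by
  rw [redC_of_mem hM hz, redC_of_mem hM (MemLocalRing.neg hz), ← map_neg]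
  rfl

theorem redC_sub (hM : Cfsg.IsPModular p M) {z w : ℂ} (hz : Cfsg.MemLocalRing M z)
    (hw : Cfsg.MemLocalRing M w) : redC hM (z - w) = redC hM z - redC hM w := by
  rw [sub_eq_add_neg, redC_add hM hz (MemLocalRing.neg hw), redC_neg hM hw, sub_eq_add_neg]

theorem redC_sum (hM : Cfsg.IsPModular p M) {ι : Type*} (s : Finset ι) (f : ι → ℂ)
    (hf : ∀ i ∈ s, Cfsg.MemLocalRing M (f i)) :
    redC hM (∑ i ∈ s, f i) = ∑ i ∈ s, redC hM (f i) := by
  classical
  induction s using Finset.induction_on with
  | empty => simp [redC_zero]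
  | insert a s ha ih =>
    rw [Finset.sum_insert ha, Finset.sum_insert ha,
      redC_add hM (hf a (Finset.mem_insert_self a s))
        (MemLocalRing.sum hM s f (fun i hi => hf i (Finset.mem_insert_of_mem hi))),
      ih (fun i hi => hf i (Finset.mem_insert_of_mem hi))]

theorem redC_eq_zero_iff (hM : Cfsg.IsPModular p M) {z : ℂ} (hz : Cfsg.MemLocalRing M z) :
    redC hM z = 0 ↔ Cfsg.MemLocalIdeal M z := by
  rw [redC_of_mem hM hz, resMap_eq_zero_iff]

theorem redC_eq_iff (hM : Cfsg.IsPModular p M) {z w : ℂ} (hz : Cfsg.MemLocalRing M z)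
    (hw : Cfsg.MemLocalRing M w) : redC hM z = redC hM w ↔ Cfsg.MemLocalIdeal M (z - w) := by
  rw [← sub_eq_zero, ← redC_sub hM hz hw, redC_eq_zero_iff hM (MemLocalRing.sub hM hz hw)]

theorem redC_surjective (hM : Cfsg.IsPModular p M) (c : ResField hM) :
    ∃ z : ℂ, Cfsg.MemLocalRing M z ∧ redC hM z = c := by
  obtain ⟨z, hz⟩ := Ideal.Quotient.mk_surjective c
  exact ⟨z.1, z.2, by rw [redC_of_mem hM z.2]; exact hz⟩

/-- a chosen section of `redC` with values in the local ring -/
noncomputable def liftC (hM : Cfsg.IsPModular p M) (c : ResField hM) : ℂ :=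
  (redC_surjective hM c).choose

theorem liftC_mem (hM : Cfsg.IsPModular p M) (c : ResField hM) :
    Cfsg.MemLocalRing M (liftC hM c) := (redC_surjective hM c).choose_spec.1

theorem redC_liftC (hM : Cfsg.IsPModular p M) (c : ResField hM) : redC hM (liftC hM c) = c :=
  (redC_surjective hM c).choose_spec.2

end red

section kside

variable {F : Type*} [CommRing F] {G : Type*} [Group G] [Fintype G] [DecidableEq G]

/-- invariance under simultaneous right translation, over an arbitrary coefficient ring -/
def RInvF (X : Matrix G G F) : Prop := ∀ r s t : G, X (s * r) (t * r) = X s t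

/-- invariance under simultaneous left translation, over an arbitrary coefficient ring -/
def LInvF (X : Matrix G G F) : Prop := ∀ r s t : G, X (r * s) (r * t) = X s t

/-- the matrix of left convolution with `a` -/
def regMatF (a : G → F) : Matrix G G F := fun s t => a (s * t⁻¹)

theorem regMatF_apply (a : G → F) (s t : G) : regMatF a s t = a (s * t⁻¹) := rfl

theorem regMatF_rInvF (a : G → F) : RInvF (regMatF a) := by
  intro r s t
  simp only [regMatF_apply]
  congr 1
  group

theorem RInvF.eq_regMatF {X : Matrix G G F} (hX : RInvF X) : X = regMatF (fun g => X g 1) := by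
  ext s t
  rw [regMatF_apply]
  have := hX t⁻¹ s t
  rw [mul_inv_cancel] at this
  exact this.symm

theorem rInvF_one : RInvF (1 : Matrix G G F) := by
  intro r s t
  simp only [Matrix.one_apply, mul_left_inj]

theorem RInvF.mul {X Y : Matrix G G F} (hX : RInvF X) (hY : RInvF Y) : RInvF (X * Y) := by
  intro r s t
  rw [Matrix.mul_apply, Matrix.mul_apply]
  rw [← Equiv.sum_comp (Equiv.mulRight r) (fun k => X (s * r) k * Y k (t * r))]
  apply Finset.sum_congr rfl
  intro k _
  simp only [Equiv.coe_mulRight]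
  rw [hX r s k, hY r k t]

/-- the group algebra of `G` over `F`, as the algebra of right-invariant matrices -/
def rInvAlgF (F : Type*) [CommRing F] (G : Type*) [Group G] [Fintype G] [DecidableEq G] :
    Subalgebra F (Matrix G G F) where
  carrier := {X | RInvF X}
  mul_mem' := fun ha hb => RInvF.mul ha hb
  one_mem' := rInvF_one
  add_mem' := fun {X Y} ha hb => by
    intro r s t
    rw [Matrix.add_apply, Matrix.add_apply, ha r s t, hb r s t]
  zero_mem' := fun _ _ _ => rfl
  algebraMap_mem' := fun c => by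
    rw [Algebra.algebraMap_eq_smul_one]
    intro r s t
    rw [Matrix.smul_apply, Matrix.smul_apply, rInvF_one r s t]

theorem mem_rInvAlgF (X : Matrix G G F) : X ∈ rInvAlgF F G ↔ RInvF X := Iff.rfl

/-- the symmetrising form: the coefficient of the identity element -/
def lamF (F : Type*) [CommRing F] (G : Type*) [Group G] [Fintype G] [DecidableEq G] :
    rInvAlgF F G →ₗ[F] F where
  toFun X := X.1 1 1
  map_add' _ _ := rfl
  map_smul' _ _ := rfl

theorem lamF_apply (X : rInvAlgF F G) : lamF F G X = X.1 1 1 := rfl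

end kside

section block

variable {p : ℕ} {M : Ideal Cfsg.AlgInt} {G : Type*} [Group G] [Fintype G] [DecidableEq G]

/-- entrywise reduction of a complex matrix -/
noncomputable def redM (hM : Cfsg.IsPModular p M) {m n : Type*} (X : Matrix m n ℂ) :
    Matrix m n (ResField hM) := X.map (redC hM)

theorem redM_apply (hM : Cfsg.IsPModular p M) {m n : Type*} (X : Matrix m n ℂ) (i : m) (j : n) :
    redM hM X i j = redC hM (X i j) := rfl

theorem redM_rInvF (hM : Cfsg.IsPModular p M) {X : Matrix G G ℂ} (hX : RInv X) :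
    RInvF (redM hM X) := by
  intro r s t
  rw [redM_apply, redM_apply, hX r s t]

/-- the reduction of a right-invariant matrix, as an element of the group algebra over the residue
field -/
noncomputable def redR (hM : Cfsg.IsPModular p M) (X : Matrix G G ℂ) (hX : RInv X) :
    rInvAlgF (ResField hM) G := ⟨redM hM X, redM_rInvF hM hX⟩

/-- the reduced block idempotent -/
noncomputable def ebar (hM : Cfsg.IsPModular p M) (B : Set (Cfsg.IrrCharacter G)) :
    rInvAlgF (ResField hM) G :=
  redR hM (blockMat B) (blockMat_mem_centerAlg B).1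

theorem ebar_val (hM : Cfsg.IsPModular p M) (B : Set (Cfsg.IrrCharacter G)) :
    (ebar hM B).1 = redM hM (blockMat B) := rfl

end block

section redM

variable {p : ℕ} {M : Ideal Cfsg.AlgInt}

theorem redM_zero (hM : Cfsg.IsPModular p M) {m n : Type*} :
    redM hM (0 : Matrix m n ℂ) = 0 := by
  ext i j
  rw [redM_apply, Matrix.zero_apply, Matrix.zero_apply, redC_zero]

theorem redM_one (hM : Cfsg.IsPModular p M) {n : Type*} [DecidableEq n] :
    redM hM (1 : Matrix n n ℂ) = 1 := by
  ext i j
  rw [redM_apply, Matrix.one_apply, Matrix.one_apply]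
  split_ifs
  · exact redC_one hM
  · exact redC_zero hM

theorem redM_add (hM : Cfsg.IsPModular p M) {m n : Type*} {X Y : Matrix m n ℂ}
    (hX : ∀ i j, Cfsg.MemLocalRing M (X i j)) (hY : ∀ i j, Cfsg.MemLocalRing M (Y i j)) :
    redM hM (X + Y) = redM hM X + redM hM Y := by
  ext i j
  rw [Matrix.add_apply, redM_apply, redM_apply, redM_apply, Matrix.add_apply,
    redC_add hM (hX i j) (hY i j)]

theorem redM_sub (hM : Cfsg.IsPModular p M) {m n : Type*} {X Y : Matrix m n ℂ}
    (hX : ∀ i j, Cfsg.MemLocalRing M (X i j)) (hY : ∀ i j, Cfsg.MemLocalRing M (Y i j)) :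
    redM hM (X - Y) = redM hM X - redM hM Y := by
  ext i j
  rw [Matrix.sub_apply, redM_apply, redM_apply, redM_apply, Matrix.sub_apply,
    redC_sub hM (hX i j) (hY i j)]

theorem redM_smul (hM : Cfsg.IsPModular p M) {m n : Type*} {c : ℂ} {X : Matrix m n ℂ}
    (hc : Cfsg.MemLocalRing M c) (hX : ∀ i j, Cfsg.MemLocalRing M (X i j)) :
    redM hM (c • X) = redC hM c • redM hM X := by
  ext i j
  rw [Matrix.smul_apply, redM_apply, redM_apply, Matrix.smul_apply, smul_eq_mul, smul_eq_mul,
    redC_mul hM hc (hX i j)]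

theorem redM_mul (hM : Cfsg.IsPModular p M) {l m n : Type*} [Fintype m] {X : Matrix l m ℂ}
    {Y : Matrix m n ℂ} (hX : ∀ i j, Cfsg.MemLocalRing M (X i j))
    (hY : ∀ i j, Cfsg.MemLocalRing M (Y i j)) :
    redM hM (X * Y) = redM hM X * redM hM Y := by
  ext i j
  rw [redM_apply, Matrix.mul_apply, Matrix.mul_apply,
    redC_sum hM _ _ (fun k _ => MemLocalRing.mul hM (hX i k) (hY k j))]
  apply Finset.sum_congr rfl
  intro k _
  rw [redC_mul hM (hX i k) (hY k j)]
  rfl

theorem memLocalRing_mul_apply (hM : Cfsg.IsPModular p M) {l m n : Type*} [Fintype m]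
    {X : Matrix l m ℂ} {Y : Matrix m n ℂ} (hX : ∀ i j, Cfsg.MemLocalRing M (X i j))
    (hY : ∀ i j, Cfsg.MemLocalRing M (Y i j)) (i : l) (j : n) :
    Cfsg.MemLocalRing M ((X * Y) i j) := by
  rw [Matrix.mul_apply]
  exact MemLocalRing.sum hM _ _ (fun k _ => MemLocalRing.mul hM (hX i k) (hY k j))

end redM

section ideal

variable {p : ℕ} {M : Ideal Cfsg.AlgInt} {G : Type*} [Group G] [Fintype G] [DecidableEq G]

/-- the image in the group algebra over the residue field of the right-invariant matrices with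
local-integral entries that are fixed by right multiplication with the idempotent of `χ` -/
noncomputable def idealJ (hM : Cfsg.IsPModular p M) (χ : G → ℂ) :
    Submodule (ResField hM) (rInvAlgF (ResField hM) G) where
  carrier := {X | ∃ W : Matrix G G ℂ, RInv W ∧ (∀ s t, Cfsg.MemLocalRing M (W s t)) ∧
    W * regMat (idemFun χ) = W ∧ X.1 = redM hM W}
  add_mem' := by
    rintro X Y ⟨W, hW1, hW2, hW3, hW4⟩ ⟨V, hV1, hV2, hV3, hV4⟩
    refine ⟨W + V, RInv.add hW1 hV1, fun s t => ?_, ?_, ?_⟩
    · rw [Matrix.add_apply]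
      exact MemLocalRing.add hM (hW2 s t) (hV2 s t)
    · rw [add_mul, hW3, hV3]
    · rw [redM_add hM hW2 hV2, ← hW4, ← hV4]
      rfl
  zero_mem' := ⟨0, rInv_zero, fun _ _ => memLocalRing_zero hM, by rw [zero_mul],
    by rw [redM_zero]; rfl⟩
  smul_mem' := by
    rintro c X ⟨W, hW1, hW2, hW3, hW4⟩
    refine ⟨liftC hM c • W, RInv.smul _ hW1, fun s t => ?_, ?_, ?_⟩
    · rw [Matrix.smul_apply, smul_eq_mul]
      exact MemLocalRing.mul hM (liftC_mem hM c) (hW2 s t)
    · rw [Matrix.smul_mul, hW3]
    · rw [redM_smul hM (liftC_mem hM c) hW2, redC_liftC, ← hW4]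
      rfl

theorem mem_idealJ (hM : Cfsg.IsPModular p M) (χ : G → ℂ) (X : rInvAlgF (ResField hM) G) :
    X ∈ idealJ hM χ ↔ ∃ W : Matrix G G ℂ, RInv W ∧ (∀ s t, Cfsg.MemLocalRing M (W s t)) ∧
      W * regMat (idemFun χ) = W ∧ X.1 = redM hM W := Iff.rfl

end ideal

end Cfsg.Agent.Lib.Helper1.Brandt
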