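import Mathlib
import Cfsg.Agent.Lib.Helper1.BrandtBRDefs

/-!
Generic facts on the group algebra over a commutative ring in the right-invariant matrix model:
the symmetrising form, commutation with bi-invariant matrices, ranks.
-/

set_option autoImplicit false
set_option linter.unusedSectionVars false
open Cfsg

namespace Cfsg.Agent.Lib.Helper1.Brandt

open Cfsg.Agent.Lib.Helper6

section kside

variable {F : Type*} [CommRing F] {G : Type*} [Group G] [Fintype G] [DecidableEq G]

theorem RInvF.apply_one_left {X : Matrix G G F} (hX : RInvF X) (k : G) : X 1 k = X k⁻¹ 1 := by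
  have := hX k⁻¹ 1 k
  rw [one_mul, mul_inv_cancel] at this
  exact this.symm

theorem RInvF.apply_one_right {X : Matrix G G F} (hX : RInvF X) (k : G) : X k 1 = X 1 k⁻¹ := by
  have := hX k⁻¹ k 1
  rw [one_mul, mul_inv_cancel] at this
  exact this.symm

theorem RInvF.apply_eq {X : Matrix G G F} (hX : RInvF X) (s t : G) : X s t = X (s * t⁻¹) 1 := by
  have := hX t⁻¹ s t
  rw [mul_inv_cancel] at this
  exact this.symm

theorem lamF_symm (X Y : rInvAlgF F G) : lamF F G (X * Y) = lamF F G (Y * X) := by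
  rw [lamF_apply, lamF_apply]
  change (X.1 * Y.1) 1 1 = (Y.1 * X.1) 1 1
  rw [Matrix.mul_apply, Matrix.mul_apply]
  rw [← Equiv.sum_comp (Equiv.inv G) (fun k => Y.1 1 k * X.1 k 1)]
  apply Finset.sum_congr rfl
  intro k _
  simp only [Equiv.inv_apply]
  rw [RInvF.apply_one_left Y.2 k⁻¹, inv_inv, RInvF.apply_one_right X.2 k⁻¹, inv_inv, mul_comm]

theorem lamF_nondeg (X : rInvAlgF F G) (hX : X ≠ 0) :
    ∃ Y : rInvAlgF F G, lamF F G (X * Y) ≠ 0 := by
  classical
  have hX1 : X.1 ≠ 0 := fun h => hX (Subtype.ext h)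
  obtain ⟨s, t, hst⟩ : ∃ s t, X.1 s t ≠ 0 := by
    by_contra hcon
    push_neg at hcon
    exact hX1 (by ext s t; exact hcon s t)
  set g : G := s * t⁻¹ with hg
  have hg1 : X.1 g 1 ≠ 0 := by
    rw [← RInvF.apply_eq X.2 s t]
    exact hst
  refine ⟨⟨regMatF (fun h => if h = g⁻¹ then (1 : F) else 0), regMatF_rInvF _⟩, ?_⟩
  rw [lamF_apply]
  change (X.1 * regMatF (fun h => if h = g⁻¹ then (1 : F) else 0)) 1 1 ≠ 0
  rw [Matrix.mul_apply]
  simp only [regMatF_apply, inv_one, mul_one, mul_ite, mul_zero, Finset.sum_ite_eq',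
    Finset.mem_univ, if_true]
  rw [RInvF.apply_one_left X.2 g⁻¹, inv_inv]
  exact hg1

theorem comm_of_lInvF {X Y : Matrix G G F} (_hXr : RInvF X) (hXl : LInvF X) (hY : RInvF Y) :
    X * Y = Y * X := by
  ext s t
  rw [Matrix.mul_apply, Matrix.mul_apply]
  refine Fintype.sum_equiv ((Equiv.inv G).trans ((Equiv.mulLeft t).trans (Equiv.mulRight s)))
    _ _ ?_
  intro k
  simp only [Equiv.trans_apply, Equiv.inv_apply, Equiv.coe_mulLeft, Equiv.coe_mulRight]
  have h1 : Y s (t * k⁻¹ * s) = Y k t := by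
    have a1 := hY s 1 (t * k⁻¹)
    have a2 := hY k 1 (t * k⁻¹)
    rw [one_mul] at a1 a2
    rw [a1]
    rw [inv_mul_cancel_right] at a2
    exact a2.symm
  have h2 : X (t * k⁻¹ * s) t = X s k := by
    have a1 := hXl t (k⁻¹ * s) 1
    rw [mul_one, ← mul_assoc] at a1
    rw [a1]
    have a2 := hXl k (k⁻¹ * s) 1
    rw [mul_one, mul_inv_cancel_left] at a2
    exact a2.symm
  rw [h1, h2, mul_comm]

/-- the first-row isomorphism of the group algebra with the functions on the group -/
def rowEquiv (F : Type*) [CommRing F] (G : Type*) [Group G] [Fintype G] [DecidableEq G] :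
    rInvAlgF F G ≃ₗ[F] (G → F) where
  toFun X := X.1 1
  map_add' _ _ := rfl
  map_smul' _ _ := rfl
  invFun x := ⟨fun s t => x (t * s⁻¹), by
    intro r s t
    change x (t * r * (s * r)⁻¹) = x (t * s⁻¹)
    congr 1
    group⟩
  left_inv X := by
    apply Subtype.ext
    ext s t
    change X.1 1 (t * s⁻¹) = X.1 s t
    have := X.2 s 1 (t * s⁻¹)
    rw [one_mul, inv_mul_cancel_right] at this
    exact this.symm
  right_inv x := by
    funext t
    change x (t * 1⁻¹) = x t
    rw [inv_one, mul_one]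

theorem rowEquiv_apply (X : rInvAlgF F G) : rowEquiv F G X = X.1 1 := rfl

theorem rowEquiv_mul (X e : rInvAlgF F G) :
    rowEquiv F G (X * e) = Matrix.vecMul (rowEquiv F G X) e.1 := by
  funext t
  rw [rowEquiv_apply, rowEquiv_apply]
  change (X.1 * e.1) 1 t = _
  rw [Matrix.mul_apply]
  rfl

end kside

section field

variable {F : Type*} [Field F] {G : Type*} [Group G] [Fintype G] [DecidableEq G]

theorem finrank_range_mulRight (e : rInvAlgF F G) :
    Module.finrank F (LinearMap.range (LinearMap.mulRight F e)) = e.1.rank := by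
  have h1 : LinearMap.mulRight F e =
      (rowEquiv F G).symm.toLinearMap ∘ₗ (Matrix.vecMulLinear e.1) ∘ₗ (rowEquiv F G).toLinearMap := by
    apply LinearMap.ext
    intro X
    apply (rowEquiv F G).injective
    simp only [LinearMap.mulRight_apply, LinearMap.coe_comp, LinearEquiv.coe_coe,
      Function.comp_apply, LinearEquiv.apply_symm_apply]
    rw [rowEquiv_mul]
    rfl
  rw [h1, LinearMap.range_comp, LinearMap.range_comp, LinearEquiv.range, Submodule.map_top,
    LinearEquiv.finrank_map_eq, _root_.range_vecMulLinear,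
    Matrix.rank_eq_finrank_span_row]

end field

end Cfsg.Agent.Lib.Helper1.Brandt
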