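import Mathlib
import Cfsg.Agent.Lib.Helper1.BrandtBRa

/-!
Lifting elements of the group algebra over the residue field to the group algebra over the local
ring (right-invariant matrix model).
-/

set_option autoImplicit false
set_option linter.unusedSectionVars false
open Cfsg

namespace Cfsg.Agent.Lib.Helper1.Brandt

open Cfsg.Agent.Lib.Helper6

section lift

variable {p : ℕ} {M : Ideal Cfsg.AlgInt} {G : Type*} [Group G] [Fintype G] [DecidableEq G]

theorem exists_lift_rInv (hM : Cfsg.IsPModular p M) (a : rInvAlgF (ResField hM) G) :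
    ∃ A : Matrix G G ℂ, RInv A ∧ (∀ s t, Cfsg.MemLocalRing M (A s t)) ∧ a.1 = redM hM A := by
  refine ⟨regMat (fun g => liftC hM (a.1 g 1)), regMat_rInv _, fun s t => liftC_mem hM _, ?_⟩
  ext s t
  rw [redM_apply, regMat_apply, redC_liftC, ← RInvF.apply_eq a.2]

/-- a central element of the group algebra is left invariant -/
theorem lInvF_of_central {F : Type*} [CommRing F] (z : rInvAlgF F G)
    (hz : ∀ a : rInvAlgF F G, a * z = z * a) : LInvF z.1 := by
  classical
  intro r s t
  have h1 := hz ⟨regMatF (fun h => if h = r⁻¹ then (1 : F) else 0), regMatF_rInvF _⟩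
  have h2 : ((⟨regMatF (fun h => if h = r⁻¹ then (1 : F) else 0), regMatF_rInvF _⟩ :
      rInvAlgF F G) * z).1 s (r * t) = (z *
      (⟨regMatF (fun h => if h = r⁻¹ then (1 : F) else 0), regMatF_rInvF _⟩ :
      rInvAlgF F G)).1 s (r * t) := by rw [h1]
  change (regMatF (fun h => if h = r⁻¹ then (1 : F) else 0) * z.1) s (r * t) =
    (z.1 * regMatF (fun h => if h = r⁻¹ then (1 : F) else 0)) s (r * t) at h2
  rw [Matrix.mul_apply, Matrix.mul_apply] at h2
  simp only [regMatF_apply] at h2
  have e1 : ∀ k : G, (s * k⁻¹ = r⁻¹) ↔ k = r * s := by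
    intro k
    constructor
    · intro h
      have : k⁻¹ = s⁻¹ * r⁻¹ := by rw [← h]; group
      rw [← inv_inj, this]; group
    · intro h
      rw [h]; group
  have e2 : ∀ k : G, (k * (r * t)⁻¹ = r⁻¹) ↔ k = t := by
    intro k
    constructor
    · intro h
      have : k = r⁻¹ * (r * t) := by rw [← h]; group
      rw [this]; group
    · intro h
      rw [h]; group
  simp only [e1, e2, ite_mul, one_mul, zero_mul, mul_ite, mul_one, mul_zero,
    Finset.sum_ite_eq', Finset.mem_univ, if_true] at h2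
  exact h2

theorem exists_lift_center (hM : Cfsg.IsPModular p M) (z : rInvAlgF (ResField hM) G)
    (hz : ∀ a : rInvAlgF (ResField hM) G, a * z = z * a) :
    ∃ Z : Matrix G G ℂ, Z ∈ centerAlg G ∧ (∀ s t, Cfsg.MemLocalRing M (Z s t)) ∧
      z.1 = redM hM Z := by
  have hl := lInvF_of_central z hz
  refine ⟨regMat (fun g => liftC hM (z.1 g 1)), regMat_mem_centerAlg ?_,
    fun s t => liftC_mem hM _, ?_⟩
  · intro g h
    have a1 := hl h⁻¹ (h * g * h⁻¹) 1
    have a2 := z.2 h (g * h⁻¹) h⁻¹
    rw [inv_mul_cancel, inv_mul_cancel_right] at a2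
    rw [mul_one] at a1
    have a3 : h⁻¹ * (h * g * h⁻¹) = g * h⁻¹ := by group
    rw [a3] at a1
    change liftC hM (z.1 (h * g * h⁻¹) 1) = liftC hM (z.1 g 1)
    rw [← a1, ← a2]
  · ext s t
    rw [redM_apply, regMat_apply, redC_liftC, ← RInvF.apply_eq z.2]

end lift

end Cfsg.Agent.Lib.Helper1.Brandt
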