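import Mathlib
import Cfsg.Agent.Lib.Helper1.BrandtBRL

/-!
Linear independence and ranks under reduction modulo the local ideal.
-/

set_option autoImplicit false
set_option linter.unusedSectionVars false
open Cfsg

namespace Cfsg.Agent.Lib.Helper1.Brandt

open Cfsg.Agent.Lib.Helper6

variable {p : ℕ} {M : Ideal Cfsg.AlgInt}

theorem redM_map_liftC (hM : Cfsg.IsPModular p M) {m n : Type*} (W : Matrix m n (ResField hM)) :
    redM hM (W.map (liftC hM)) = W := by
  ext i j
  rw [redM_apply, Matrix.map_apply, redC_liftC]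

/-- BR2a -/
theorem linearIndependent_of_redC (hM : Cfsg.IsPModular p M) {ι n : Type*} [Fintype ι]
    [Fintype n] (v : ι → n → ℂ) (hv : ∀ i j, Cfsg.MemLocalRing M (v i j))
    (h : LinearIndependent (ResField hM) (fun i => (fun j => redC hM (v i j)))) :
    LinearIndependent ℂ v := by
  classical
  set V : Matrix ι n ℂ := Matrix.of v with hV
  have hVrow : (redM hM V).row = fun i => (fun j => redC hM (v i j)) := by
    funext i j
    rfl
  have hrank : (redM hM V).rank = Fintype.card ι := by
    apply LinearIndependent.rank_matrix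
    rw [hVrow]
    exact h
  have hsurj : Function.Surjective (redM hM V).mulVec := by
    have h1 : LinearMap.range (redM hM V).mulVecLin = ⊤ := by
      apply Submodule.eq_top_of_finrank_eq
      rw [Module.finrank_fintype_fun_eq_card]
      exact hrank
    intro y
    have : y ∈ LinearMap.range (redM hM V).mulVecLin := by rw [h1]; trivial
    obtain ⟨x, hx⟩ := this
    exact ⟨x, hx⟩
  obtain ⟨Wb, hWb⟩ := Matrix.mulVec_surjective_iff_exists_right_inverse.mp hsurj
  set W : Matrix n ι ℂ := Wb.map (liftC hM) with hW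
  have hWs : ∀ i j, Cfsg.MemLocalRing M (W i j) := fun i j => liftC_mem hM _
  have hVs : ∀ i j, Cfsg.MemLocalRing M (V i j) := fun i j => hv i j
  set U : Matrix ι ι ℂ := V * W with hU
  have hUs : ∀ i j, Cfsg.MemLocalRing M (U i j) := memLocalRing_mul_apply hM hVs hWs
  have hUred : redM hM U = 1 := by
    rw [hU, redM_mul hM hVs hWs, hW, redM_map_liftC, hWb]
  have hU1 : ∀ i j, Cfsg.MemLocalIdeal M (U i j - (1 : Matrix ι ι ℂ) i j) := by
    intro i j
    have h1s : Cfsg.MemLocalRing M ((1 : Matrix ι ι ℂ) i j) := by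
      rw [Matrix.one_apply]
      split_ifs
      · exact memLocalRing_one hM
      · exact memLocalRing_zero hM
    rw [← redC_eq_iff hM (hUs i j) h1s]
    have a1 : redC hM (U i j) = redM hM U i j := rfl
    have a2 : redC hM ((1 : Matrix ι ι ℂ) i j) = redM hM (1 : Matrix ι ι ℂ) i j := rfl
    rw [a1, a2, hUred, redM_one]
  have hdet : U.det ≠ 0 := det_ne_zero_of_congr_one hM U hUs hU1
  have hunit : IsUnit U.det := isUnit_iff_ne_zero.mpr hdet
  have hrow : V.row = v := rfl
  rw [← hrow, ← Matrix.vecMul_injective_iff]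
  intro c c' hcc
  have h1 : Matrix.vecMul c U = Matrix.vecMul c' U := by
    rw [hU, ← Matrix.vecMul_vecMul, ← Matrix.vecMul_vecMul]
    exact congrArg (fun x => Matrix.vecMul x W) hcc
  have h2 : Matrix.vecMul (Matrix.vecMul c U) U⁻¹ = Matrix.vecMul (Matrix.vecMul c' U) U⁻¹ := by
    rw [h1]
  rw [Matrix.vecMul_vecMul, Matrix.vecMul_vecMul, Matrix.mul_nonsing_inv _ hunit,
    Matrix.vecMul_one, Matrix.vecMul_one] at h2
  exact h2

/-- reduction does not increase the rank -/
theorem rank_redM_le (hM : Cfsg.IsPModular p M) {m n : Type*} [Fintype m] [Fintype n]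
    (Y : Matrix m n ℂ) (hY : ∀ i j, Cfsg.MemLocalRing M (Y i j)) :
    (redM hM Y).rank ≤ Y.rank := by
  classical
  obtain ⟨b, hb1, hb2, hb3⟩ := exists_linearIndependent (ResField hM) (Set.range (redM hM Y).row)
  have hbfin : b.Finite := (Set.finite_range _).subset hb1
  haveI : Fintype b := hbfin.fintype
  have hch : ∀ x : b, ∃ i : m, (redM hM Y).row i = x.1 := fun x => hb1 x.2
  choose f hf using hch
  have hli : LinearIndependent (ResField hM)
      (fun x : b => (fun j => redC hM ((fun x : b => Y.row (f x)) x j))) := by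
    have : (fun x : b => (fun j => redC hM ((fun x : b => Y.row (f x)) x j))) =
        (Subtype.val : b → (n → ResField hM)) := by
      funext x
      rw [← hf x]
      rfl
    rw [this]
    exact hb3
  have hliC := linearIndependent_of_redC hM (fun x : b => Y.row (f x))
    (fun x j => hY (f x) j) hli
  have h1 : (Y.submatrix f id).rank = Fintype.card b := by
    apply LinearIndependent.rank_matrix
    exact hliC
  have h2 : (Y.submatrix f id).rank ≤ Y.rank := Matrix.rank_submatrix_le Y f id
  have h3 : (redM hM Y).rank = Fintype.card b := by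
    rw [Matrix.rank_eq_finrank_span_row, ← hb2, finrank_span_set_eq_card hb3]
    exact (Set.toFinset_card b).symm ▸ rfl
  omega

theorem rank_add_rank_one_sub {F : Type*} [Field F] {n : Type*} [Fintype n] [DecidableEq n]
    (X : Matrix n n F) (hXX : X * X = X) : X.rank + (1 - X).rank = Fintype.card n := by
  have h1 := LinearMap.finrank_range_add_finrank_ker X.mulVecLin
  have h2 : LinearMap.ker X.mulVecLin = LinearMap.range (1 - X).mulVecLin := by
    ext v
    rw [LinearMap.mem_ker, LinearMap.mem_range, Matrix.mulVecLin_apply]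
    constructor
    · intro h
      refine ⟨v, ?_⟩
      rw [Matrix.mulVecLin_apply, Matrix.sub_mulVec, Matrix.one_mulVec, h, sub_zero]
    · rintro ⟨w, rfl⟩
      rw [Matrix.mulVecLin_apply, Matrix.mulVec_mulVec, Matrix.mul_sub, Matrix.mul_one, hXX,
        sub_self, Matrix.zero_mulVec]
  rw [Module.finrank_fintype_fun_eq_card, h2] at h1
  exact h1

/-- BR2b -/
theorem rank_redM_idem (hM : Cfsg.IsPModular p M) {n : Type*} [Fintype n] [DecidableEq n]
    (X : Matrix n n ℂ) (hX : ∀ i j, Cfsg.MemLocalRing M (X i j)) (hXX : X * X = X) :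
    (redM hM X).rank = X.rank := by
  have h1s : ∀ i j, Cfsg.MemLocalRing M ((1 : Matrix n n ℂ) i j) := by
    intro i j
    rw [Matrix.one_apply]
    split_ifs
    · exact memLocalRing_one hM
    · exact memLocalRing_zero hM
  have hYs : ∀ i j, Cfsg.MemLocalRing M ((1 - X) i j) := by
    intro i j
    rw [Matrix.sub_apply]
    exact MemLocalRing.sub hM (h1s i j) (hX i j)
  have a1 := rank_redM_le hM X hX
  have a2 := rank_redM_le hM (1 - X) hYs
  rw [redM_sub hM h1s hX, redM_one] at a2
  have a3 := rank_add_rank_one_sub X hXX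
  have a4 := rank_add_rank_one_sub (redM hM X) (by rw [← redM_mul hM hX hX, hXX])
  omega

/-- BR2c -/
theorem rank_eq_trace_of_idem {n : Type*} [Fintype n] [DecidableEq n]
    (X : Matrix n n ℂ) (hXX : X * X = X) : (X.rank : ℂ) = X.trace := by
  have hproj : LinearMap.IsProj (LinearMap.range (Matrix.toLin' X)) (Matrix.toLin' X) := by
    refine ⟨fun x => ⟨x, rfl⟩, ?_⟩
    rintro x ⟨y, rfl⟩
    rw [← LinearMap.comp_apply, ← Matrix.toLin'_mul, hXX]
  have h1 := hproj.trace
  rw [LinearMap.trace_eq_matrix_trace ℂ (Pi.basisFun ℂ n), LinearMap.toMatrix_eq_toMatrix',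
    LinearMap.toMatrix'_toLin'] at h1
  rw [h1]
  rfl

end Cfsg.Agent.Lib.Helper1.Brandt
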