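import Mathlib
import Cfsg.Agent.Lib.Helper1.BrandtBR2
import Cfsg.Agent.Lib.Helper6.Constituent

/-!
The rank of the reduced block idempotent of a two-character block.
-/

set_option autoImplicit false
set_option linter.unusedSectionVars false
open Cfsg

namespace Cfsg.Agent.Lib.Helper1.Brandt

open Cfsg.Agent.Lib.Helper6
open scoped ComplexConjugate

universe u

variable {p : ℕ} {M : Ideal Cfsg.AlgInt}
variable {G : Type u} [Group G] [Fintype G] [DecidableEq G]

theorem trace_blockMat (B : Set (Cfsg.IrrCharacter G)) :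
    (blockMat B).trace = (Nat.card G : ℂ) * Cfsg.blockCoeff B 1 := by
  unfold Matrix.trace blockMat
  simp only [Matrix.diag_apply, regMat_apply, mul_inv_cancel, Finset.sum_const, Finset.card_univ,
    nsmul_eq_mul, Nat.card_eq_fintype_card]

/-- BR3 -/
theorem rank_ebar_pair (hM : Cfsg.IsPModular p M) (χ₁ χ₂ : Cfsg.IrrCharacter G) (h12 : χ₁ ≠ χ₂)
    (hBs : ∀ s t, Cfsg.MemLocalRing M (blockMat ({χ₁, χ₂} : Set (Cfsg.IrrCharacter G)) s t)) :
    (ebar hM ({χ₁, χ₂} : Set (Cfsg.IrrCharacter G))).1.rank =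
      Cfsg.charDegree (χ₁ : G → ℂ) ^ 2 + Cfsg.charDegree (χ₂ : G → ℂ) ^ 2 := by
  rw [ebar_val, rank_redM_idem hM _ hBs (blockMat_idem _)]
  have h1 := rank_eq_trace_of_idem (blockMat ({χ₁, χ₂} : Set (Cfsg.IrrCharacter G)))
    (blockMat_idem _)
  rw [trace_blockMat] at h1
  have hG : (Nat.card G : ℂ) ≠ 0 := by
    exact_mod_cast (Nat.card_pos (α := G)).ne'
  have h2 : Cfsg.blockCoeff ({χ₁, χ₂} : Set (Cfsg.IrrCharacter G)) 1 =
      (Nat.card G : ℂ)⁻¹ * (((Cfsg.charDegree (χ₁ : G → ℂ) : ℕ) : ℂ) ^ 2 +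
        ((Cfsg.charDegree (χ₂ : G → ℂ) : ℕ) : ℂ) ^ 2) := by
    unfold Cfsg.blockCoeff
    rw [finsum_mem_pair h12,
      IsCharacter.apply_one_eq_charDegree (IsIrrCharacter.isCharacter χ₁.2),
      IsCharacter.apply_one_eq_charDegree (IsIrrCharacter.isCharacter χ₂.2)]
    simp only [Complex.conj_natCast]
    ring
  rw [h2, ← mul_assoc, mul_inv_cancel₀ hG, one_mul] at h1
  exact_mod_cast h1

end Cfsg.Agent.Lib.Helper1.Brandt
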