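import Mathlib
import Cfsg.Agent.Lib.Helper1.BrandtBR2

/-!
The block part of the centre of the group algebra over the residue field has dimension at most two
for a block with two characters.
-/

set_option autoImplicit false
set_option linter.unusedSectionVars false
open Cfsg

namespace Cfsg.Agent.Lib.Helper1.Brandt

open Cfsg.Agent.Lib.Helper6

universe u

variable {p : ℕ} {M : Ideal Cfsg.AlgInt}
variable {G : Type u} [Group G] [Fintype G] [DecidableEq G]

/-- the block part of the centre of the complex group algebra -/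
def centerBlockC (B : Set (Cfsg.IrrCharacter G)) : Submodule ℂ (Matrix G G ℂ) where
  carrier := {X | X ∈ centerAlg G ∧ X * blockMat B = X}
  add_mem' := by
    rintro X Y ⟨hX, hX'⟩ ⟨hY, hY'⟩
    exact ⟨(centerAlg G).add_mem hX hY, by rw [add_mul, hX', hY']⟩
  zero_mem' := ⟨(centerAlg G).zero_mem, by rw [zero_mul]⟩
  smul_mem' := by
    rintro c X ⟨hX, hX'⟩
    exact ⟨(centerAlg G).smul_mem hX c, by rw [Matrix.smul_mul, hX']⟩

theorem cOmega_eq_zero_of_not_mem (B : Set (Cfsg.IrrCharacter G)) {X : Matrix G G ℂ}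
    (hX : X ∈ centerBlockC B) (ψ : Cfsg.IrrCharacter G) (hψ : ψ ∉ B) :
    cOmega (ψ : G → ℂ) X = 0 := by
  classical
  have h1 := cOmega_mul ψ.2 hX.1 (blockMat_mem_centerAlg B).1
  rw [hX.2, cOmega_blockMat, if_neg hψ, mul_zero] at h1
  exact h1

/-- the pair of central characters on the block part of the centre -/
noncomputable def omegaPair (χ₁ χ₂ : Cfsg.IrrCharacter G) :
    centerBlockC ({χ₁, χ₂} : Set (Cfsg.IrrCharacter G)) →ₗ[ℂ] ℂ × ℂ where
  toFun X := (cOmega (χ₁ : G → ℂ) X.1, cOmega (χ₂ : G → ℂ) X.1)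
  map_add' X Y := by
    change (cOmega (χ₁ : G → ℂ) (X.1 + Y.1), cOmega (χ₂ : G → ℂ) (X.1 + Y.1)) = _
    rw [cOmega_add, cOmega_add]
    rfl
  map_smul' c X := by
    change (cOmega (χ₁ : G → ℂ) (c • X.1), cOmega (χ₂ : G → ℂ) (c • X.1)) = _
    rw [cOmega_smul, cOmega_smul]
    rfl

theorem omegaPair_injective (χ₁ χ₂ : Cfsg.IrrCharacter G) :
    Function.Injective (omegaPair χ₁ χ₂) := by
  rw [← LinearMap.ker_eq_bot, LinearMap.ker_eq_bot']
  intro X hX
  have h1 : cOmega (χ₁ : G → ℂ) X.1 = 0 := congrArg Prod.fst hX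
  have h2 : cOmega (χ₂ : G → ℂ) X.1 = 0 := congrArg Prod.snd hX
  apply Subtype.ext
  apply eq_zero_of_cOmega_eq_zero X.2.1
  intro ψ
  by_cases hψ : ψ ∈ ({χ₁, χ₂} : Set (Cfsg.IrrCharacter G))
  · rcases hψ with rfl | hψ
    · exact h1
    · rw [Set.mem_singleton_iff] at hψ
      rw [hψ]
      exact h2
  · exact cOmega_eq_zero_of_not_mem _ X.2 ψ hψ

theorem finrank_centerBlockC_le (χ₁ χ₂ : Cfsg.IrrCharacter G) :
    Module.finrank ℂ (centerBlockC ({χ₁, χ₂} : Set (Cfsg.IrrCharacter G))) ≤ 2 := by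
  have h := LinearMap.finrank_le_finrank_of_injective (omegaPair_injective χ₁ χ₂)
  rw [Module.finrank_prod, Module.finrank_self] at h
  exact h

/-- the dimension of the block part of the centre does not increase under reduction -/
theorem finrank_centerPart_le_of (hM : Cfsg.IsPModular p M) (B : Set (Cfsg.IrrCharacter G))
    (hBs : ∀ s t, Cfsg.MemLocalRing M (blockMat B s t)) (d : ℕ)
    (hd : Module.finrank ℂ (centerBlockC B) ≤ d) :
    Module.finrank (ResField hM) (centerPart (ResField hM) (ebar hM B)) ≤ d := by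
  by_contra hcon
  have hcon' : d + 1 ≤ Module.finrank (ResField hM)
      (centerPart (ResField hM) (ebar hM B)) := by omega
  obtain ⟨z, hz⟩ := exists_linearIndependent_of_le_finrank hcon'
  have hl : ∀ i : Fin (d + 1), ∃ Z : Matrix G G ℂ, Z ∈ centerBlockC B ∧
      (∀ s t, Cfsg.MemLocalRing M (Z s t)) ∧ (z i).1.1 = redM hM Z := by
    intro i
    obtain ⟨Z₀, hZ₀c, hZ₀s, hZ₀r⟩ := exists_lift_center hM (z i).1 (z i).2.1
    refine ⟨Z₀ * blockMat B, ⟨(centerAlg G).mul_mem hZ₀c (blockMat_mem_centerAlg B), ?_⟩,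
      memLocalRing_mul_apply hM hZ₀s hBs, ?_⟩
    · rw [mul_assoc, blockMat_idem]
    · rw [redM_mul hM hZ₀s hBs, ← hZ₀r]
      have h2 : (z i).1 * ebar hM B = (z i).1 := (z i).2.2
      have h3 : ((z i).1 * ebar hM B).1 = (z i).1.1 := by rw [h2]
      exact h3.symm
  choose Z hZc hZs hZr using hl
  -- independence of the lifts
  obtain ⟨f, hf⟩ : ∃ f : ↥(centerPart (ResField hM) (ebar hM B)) →ₗ[ResField hM]
      (G × G → ResField hM), ∀ w st, f w st = w.1.1 st.1 st.2 :=
    ⟨{ toFun := fun w st => w.1.1 st.1 st.2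
       map_add' := fun _ _ => rfl
       map_smul' := fun _ _ => rfl }, fun _ _ => rfl⟩
  have hfinj : Function.Injective f := by
    intro w w' hw
    apply Subtype.ext
    apply Subtype.ext
    ext s t
    have := congrFun hw (s, t)
    rw [hf, hf] at this
    exact this
  have hK : LinearIndependent (ResField hM) (f ∘ z) := hz.map_injOn f hfinj.injOn
  obtain ⟨v, hv⟩ : ∃ v : Fin (d + 1) → (G × G) → ℂ, ∀ i st, v i st = Z i st.1 st.2 :=
    ⟨fun i st => Z i st.1 st.2, fun _ _ => rfl⟩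
  have hKv : LinearIndependent (ResField hM) (fun i => (fun j => redC hM (v i j))) := by
    have : (fun i => (fun j => redC hM (v i j))) = f ∘ z := by
      funext i st
      rw [Function.comp_apply, hf, hv, hZr i]
      rfl
    rw [this]
    exact hK
  have hCv : LinearIndependent ℂ v :=
    linearIndependent_of_redC hM v (fun i st => by rw [hv]; exact hZs i st.1 st.2) hKv
  obtain ⟨g, hg⟩ : ∃ g : Matrix G G ℂ →ₗ[ℂ] (G × G → ℂ), ∀ X st, g X st = X st.1 st.2 :=
    ⟨{ toFun := fun X st => X st.1 st.2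
       map_add' := fun _ _ => rfl
       map_smul' := fun _ _ => rfl }, fun _ _ => rfl⟩
  have hCZ : LinearIndependent ℂ Z := by
    apply LinearIndependent.of_comp g
    have : g ∘ Z = v := by
      funext i st
      rw [Function.comp_apply, hg, hv]
    rw [this]
    exact hCv
  let Z' : Fin (d + 1) → centerBlockC B := fun i => ⟨Z i, hZc i⟩
  have hCZ' : LinearIndependent ℂ Z' :=
    LinearIndependent.of_comp (centerBlockC B).subtype hCZ
  have h3 := hCZ'.fintype_card_le_finrank
  rw [Fintype.card_fin] at h3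
  omega

/-- BR4a -/
theorem finrank_centerPart_le (hM : Cfsg.IsPModular p M) (χ₁ χ₂ : Cfsg.IrrCharacter G)
    (hBs : ∀ s t, Cfsg.MemLocalRing M (blockMat ({χ₁, χ₂} : Set (Cfsg.IrrCharacter G)) s t)) :
    Module.finrank (ResField hM)
      (centerPart (ResField hM) (ebar hM ({χ₁, χ₂} : Set (Cfsg.IrrCharacter G)))) ≤ 2 :=
  finrank_centerPart_le_of hM _ hBs 2 (finrank_centerBlockC_le χ₁ χ₂)

end Cfsg.Agent.Lib.Helper1.Brandt
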