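import Mathlib
import Cfsg.Agent.Lib.Helper1.BrandtBR3
import Cfsg.Agent.Lib.Helper1.BrandtBR4a
import Cfsg.Agent.Lib.Helper9.BrandtBR4b
import Cfsg.Agent.Lib.Helper9.BrandtBR5a
import Cfsg.Agent.Lib.Helper4.BrandtBR5b
import Cfsg.Agent.Lib.Helper5.BrandtBR1v
import Cfsg.Agent.Lib.Helper8.BrandtBR6a
import Cfsg.Agent.Lib.Helper8.BrandtBR6b
import Cfsg.Agent.Lib.Helper8.BrandtBR6c

/-!
The block-theoretic bridge for Brandt's theorem: a block with exactly two irreducible characters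
yields a symmetric algebra over an algebraically closed field with two-dimensional local centre,
of dimension the sum of the squares of the two degrees, containing two nonzero ideals of
dimensions at most the squares of the degrees.
-/

set_option autoImplicit false
set_option linter.unusedSectionVars false
open Cfsg

namespace Cfsg.Agent.Lib.Helper1.Brandt

open Cfsg.Agent.Lib.Helper6

universe u

variable {p : ℕ} {M : Ideal Cfsg.AlgInt}

section grp

variable {G : Type u} [Group G] [Fintype G] [DecidableEq G]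

theorem ebar_idem (hM : Cfsg.IsPModular p M) (B : Set (Cfsg.IrrCharacter G))
    (hBs : ∀ s t, Cfsg.MemLocalRing M (blockMat B s t)) :
    ebar hM B * ebar hM B = ebar hM B := by
  apply Subtype.ext
  change redM hM (blockMat B) * redM hM (blockMat B) = redM hM (blockMat B)
  rw [← redM_mul hM hBs hBs, blockMat_idem]

theorem ebar_central (hM : Cfsg.IsPModular p M) (B : Set (Cfsg.IrrCharacter G))
    (a : rInvAlgF (ResField hM) G) : a * ebar hM B = ebar hM B * a := by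
  apply Subtype.ext
  change a.1 * (ebar hM B).1 = (ebar hM B).1 * a.1
  refine (comm_of_lInvF (ebar hM B).2 ?_ a.2).symm
  intro r s t
  rw [ebar_val, redM_apply, redM_apply, (blockMat_mem_centerAlg B).2 r s t]

end grp

theorem bridge {G : Type u} [Group G] [Finite G] (p : ℕ) [Fact p.Prime] (M : Ideal Cfsg.AlgInt)
    (hM : Cfsg.IsPModular p M) (B : Set (Cfsg.IrrCharacter G)) (hB : Cfsg.IsPBlock M B)
    (χ₁ χ₂ : Cfsg.IrrCharacter G) (h12 : χ₁ ≠ χ₂) (hBeq : B = {χ₁, χ₂})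
    (g₁ g₂ : G) (h1 : ¬ Cfsg.MemLocalIdeal M ((χ₁ : G → ℂ) g₁))
    (h2 : ¬ Cfsg.MemLocalIdeal M ((χ₂ : G → ℂ) g₂)) :
    ∃ (K : Type) (_ : Field K) (_ : IsAlgClosed K) (R : Type u) (_ : Ring R) (_ : Algebra K R)
      (_ : FiniteDimensional K R) (lam : R →ₗ[K] K) (e : R) (I₁ I₂ : Submodule K R),
      (∀ a b : R, lam (a * b) = lam (b * a)) ∧ (∀ a : R, a ≠ 0 → ∃ b : R, lam (a * b) ≠ 0) ∧
      e * e = e ∧ (∀ a : R, a * e = e * a) ∧
      Module.finrank K (centerPart K e) = 2 ∧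
      (∀ f ∈ centerPart K e, f * f = f → f = 0 ∨ f = e) ∧
      Module.finrank K (LinearMap.range (LinearMap.mulRight K e)) =
        Cfsg.charDegree (χ₁ : G → ℂ) ^ 2 + Cfsg.charDegree (χ₂ : G → ℂ) ^ 2 ∧
      IsTwoSidedIn e I₁ ∧ IsTwoSidedIn e I₂ ∧ I₁ ≠ ⊥ ∧ I₂ ≠ ⊥ ∧
      Module.finrank K I₁ ≤ Cfsg.charDegree (χ₁ : G → ℂ) ^ 2 ∧
      Module.finrank K I₂ ≤ Cfsg.charDegree (χ₂ : G → ℂ) ^ 2 := by
  classical
  have : Fintype G := Fintype.ofFinite G
  subst hBeq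
  have hBs : ∀ s t, Cfsg.MemLocalRing M
      (blockMat ({χ₁, χ₂} : Set (Cfsg.IrrCharacter G)) s t) := by
    obtain ⟨χ₀, h0⟩ := hB
    rw [h0]
    exact blockMat_mem_sMat hM χ₀
  have hsb : Cfsg.SameBlock M (χ₁ : G → ℂ) (χ₂ : G → ℂ) := by
    obtain ⟨χ₀, h0⟩ := hB
    have m1 : χ₁ ∈ Cfsg.blockOf M (χ₀ : G → ℂ) := by rw [← h0]; simp
    have m2 : χ₂ ∈ Cfsg.blockOf M (χ₀ : G → ℂ) := by rw [← h0]; simp
    exact SameBlock.trans' hM (SameBlock.symm' m1) m2
  refine ⟨ResField hM, inferInstance, isAlgClosed_resField hM, rInvAlgF (ResField hM) G,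
    inferInstance, inferInstance, inferInstance, lamF (ResField hM) G,
    ebar hM {χ₁, χ₂}, idealJ hM (χ₁ : G → ℂ), idealJ hM (χ₂ : G → ℂ),
    lamF_symm, fun a ha => lamF_nondeg a ha, ebar_idem hM _ hBs,
    ebar_central hM _, ?_, ?_, ?_, ?_, ?_, idealJ_ne_bot hM χ₁ g₁ h1, idealJ_ne_bot hM χ₂ g₂ h2,
    finrank_idealJ_le hM χ₁, finrank_idealJ_le hM χ₂⟩
  · exact le_antisymm (finrank_centerPart_le hM χ₁ χ₂ hBs)
      (finrank_centerPart_ge hM χ₁ χ₂ h12 hBs g₁ h1)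
  · exact idem_of_local _ (ebar_idem hM _ hBs) (centerPart_local_pair hM χ₁ χ₂ hsb hBs)
  · rw [finrank_range_mulRight]
    exact rank_ebar_pair hM χ₁ χ₂ h12 hBs
  · exact idealJ_twoSided hM _ hBs χ₁ (by simp)
  · exact idealJ_twoSided hM _ hBs χ₂ (by simp)

end Cfsg.Agent.Lib.Helper1.Brandt
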