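import Mathlib
import Cfsg.Prelude.Def_Solvable
import Cfsg.Agent.Lib.Helper1.PCore
import Cfsg.Agent.Lib.Helper1.Hall
import Cfsg.Agent.Lib.Helper1.FrattiniHall
import Cfsg.Agent.Lib.Helper1.FrobeniusBasic
import Cfsg.Agent.Lib.Helper1.CoprimeSylow
open Pointwise

set_option autoImplicit false

namespace Cfsg.Agent.Lib.Helper1

universe u

variable {G : Type u} [Group G]

/-- A `p`-subgroup of `N` is `N`-conjugate into a given Sylow `p`-subgroup of `G` lying in `N`. -/
theorem exists_conj_le_sylow_of_le [Finite G] {p : ℕ} [Fact p.Prime] (N : Subgroup G)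
    (S : Sylow p G) (hSN : (S : Subgroup G) ≤ N) (A : Subgroup G) (hA : IsPGroup p A)
    (hAN : A ≤ N) : ∃ n ∈ N, MulAut.conj n • A ≤ S := by
  have hA' : IsPGroup p (A.subgroupOf N) :=
    hA.of_equiv (Subgroup.subgroupOfEquivOfLe hAN).symm
  obtain ⟨T, hT⟩ := hA'.exists_le_sylow
  obtain ⟨n, hn⟩ := MulAction.exists_smul_eq N T (S.subtype hSN)
  refine ⟨n, n.2, ?_⟩
  intro x hx
  rw [mem_conj_smul_iff] at hx
  have h1 : (⟨(n : G)⁻¹ * x * n, hAN hx⟩ : N) ∈ (T : Subgroup N) :=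
    hT (Subgroup.mem_subgroupOf.mpr hx)
  have h2 : (MulAut.conj n • (T : Subgroup N)) = ((n • T : Sylow p N) : Subgroup N) := rfl
  have h3 : n * (⟨(n : G)⁻¹ * x * n, hAN hx⟩ : N) * n⁻¹ ∈ ((n • T : Sylow p N) : Subgroup N) := by
    rw [← h2]
    exact Subgroup.smul_mem_pointwise_smul _ (MulAut.conj n) _ h1
  rw [hn, Sylow.coe_subtype, Subgroup.mem_subgroupOf] at h3
  have e : ((n * (⟨(n : G)⁻¹ * x * n, hAN hx⟩ : N) * n⁻¹ : N) : G) = x := by
    show (n : G) * ((n : G)⁻¹ * x * n) * (n : G)⁻¹ = x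
    group
  rwa [e] at h3

theorem brodkey [Finite G] (p : ℕ) [Fact p.Prime]
    (S : Sylow p G) (hS : ∀ x ∈ (S : Subgroup G), ∀ y ∈ (S : Subgroup G), x * y = y * x)
    (hOp : Cfsg.pCore p G = ⊥) :
    ∃ g : G, (S : Subgroup G) ⊓ MulAut.conj g • (S : Subgroup G) = ⊥ := by
  obtain ⟨g, hg⟩ := Finite.exists_min
    (fun g : G => Nat.card ((S : Subgroup G) ⊓ MulAut.conj g • (S : Subgroup G) : Subgroup G))
  refine ⟨g, ?_⟩
  set Q : Subgroup G := MulAut.conj g • (S : Subgroup G) with hQ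
  set D : Subgroup G := (S : Subgroup G) ⊓ Q with hD
  set N : Subgroup G := Subgroup.normalizer (D : Set G) with hN
  have hQcomm : ∀ x ∈ Q, ∀ y ∈ Q, x * y = y * x := by
    intro x hx y hy
    rw [hQ, mem_conj_smul_iff] at hx hy
    have := hS _ hx _ hy
    calc x * y = g * ((g⁻¹ * x * g) * (g⁻¹ * y * g)) * g⁻¹ := by group
      _ = g * ((g⁻¹ * y * g) * (g⁻¹ * x * g)) * g⁻¹ := by rw [this]
      _ = y * x := by group
  have hSN : (S : Subgroup G) ≤ N := by
    apply le_normalizer_of_conj_mem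
    intro s hs d hd
    have : s * d * s⁻¹ = d := by rw [hS s hs d (Subgroup.mem_inf.mp hd).1]; group
    rw [this]; exact hd
  have hQN : Q ≤ N := by
    apply le_normalizer_of_conj_mem
    intro s hs d hd
    have : s * d * s⁻¹ = d := by rw [hQcomm s hs d (Subgroup.mem_inf.mp hd).2]; group
    rw [this]; exact hd
  -- D lies in every Sylow subgroup
  have hDR : ∀ R : Sylow p G, D ≤ R := by
    intro R
    obtain ⟨n, hnN, hn⟩ := exists_conj_le_sylow_of_le N S hSN ((R : Subgroup G) ⊓ N)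
      (R.2.to_le inf_le_left) inf_le_right
    -- R' = conj n • R
    have h1 : MulAut.conj n • (R : Subgroup G) ⊓ Q ≤ D := by
      intro x hx
      obtain ⟨hx1, hx2⟩ := Subgroup.mem_inf.mp hx
      refine Subgroup.mem_inf.mpr ⟨?_, hx2⟩
      apply hn
      rw [mem_conj_smul_iff]
      rw [mem_conj_smul_iff] at hx1
      refine Subgroup.mem_inf.mpr ⟨hx1, ?_⟩
      exact N.mul_mem (N.mul_mem (N.inv_mem hnN) (hQN hx2)) hnN
    -- cardinality
    obtain ⟨a, ha⟩ := MulAction.exists_smul_eq G S (n • R)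
    have h2 : MulAut.conj n • (R : Subgroup G) = MulAut.conj a • (S : Subgroup G) := by
      have e1 : (MulAut.conj n • (R : Subgroup G)) = ((n • R : Sylow p G) : Subgroup G) := rfl
      have e2 : (MulAut.conj a • (S : Subgroup G)) = ((a • S : Sylow p G) : Subgroup G) := rfl
      rw [e1, e2, ha]
    have h3 : MulAut.conj n • (R : Subgroup G) ⊓ Q =
        MulAut.conj a • ((S : Subgroup G) ⊓ MulAut.conj (a⁻¹ * g) • (S : Subgroup G)) := by
      rw [Subgroup.smul_inf, h2, hQ, ← mul_smul, ← map_mul, mul_inv_cancel_left]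
    have h4 : Nat.card D ≤ Nat.card (MulAut.conj n • (R : Subgroup G) ⊓ Q : Subgroup G) := by
      rw [h3, card_conj_smul]
      exact hg (a⁻¹ * g)
    have h5 : MulAut.conj n • (R : Subgroup G) ⊓ Q = D := Subgroup.eq_of_le_of_card_ge h1 h4
    have h6 : D ≤ MulAut.conj n • (R : Subgroup G) := by rw [← h5]; exact inf_le_left
    intro d hd
    have h7 : n * d * n⁻¹ ∈ D := (Subgroup.mem_normalizer_iff.mp hnN d).mp hd
    have h8 := h6 h7
    rw [mem_conj_smul_iff] at h8
    have e : n⁻¹ * (n * d * n⁻¹) * n = d := by group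
    rwa [e] at h8
  have hDcore : D ≤ Cfsg.pCore p G := by
    rw [pCore_eq_iInf_sylow]
    exact le_iInf hDR
  rw [hOp] at hDcore
  exact eq_bot_iff.mpr hDcore

end Cfsg.Agent.Lib.Helper1
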