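import Mathlib
import Cfsg.Agent.Lib.Helper6.Flg3

/-!
# Bruhat cover with a unitriangular right factor

Every `g : GL (Fin n) F` is `b * Wgl w * u` with `b` upper triangular and `u` upper
unitriangular (upper triangular with ones on the diagonal).
-/

set_option autoImplicit false

namespace Cfsg.Agent.Lib.Helper1.BruhatU

open Matrix Cfsg
open Cfsg.Agent.Lib.Helper6.Flg

variable {n : ℕ} {F : Type*} [Field F]

/-- the diagonal matrix with nonzero entries, in `GL` -/
noncomputable def diagGL (d : Fin n → F) (hd : ∀ i, d i ≠ 0) : GL (Fin n) F :=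
  Matrix.GeneralLinearGroup.mkOfDetNeZero (Matrix.diagonal d) (by
    rw [Matrix.det_diagonal, Finset.prod_ne_zero_iff]
    intro i _
    exact hd i)

theorem diagGL_val (d : Fin n → F) (hd : ∀ i, d i ≠ 0) :
    ((diagGL d hd : GL (Fin n) F) : Matrix (Fin n) (Fin n) F) = Matrix.diagonal d := rfl

theorem diagGL_mem (d : Fin n → F) (hd : ∀ i, d i ≠ 0) : diagGL d hd ∈ upperTriangularGL n F :=
  Matrix.blockTriangular_diagonal d

theorem diagGL_mul_inv (d : Fin n → F) (hd : ∀ i, d i ≠ 0) :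
    diagGL d hd * diagGL (fun i => (d i)⁻¹) (fun i => inv_ne_zero (hd i)) = 1 := by
  apply Units.ext
  rw [Units.val_mul, diagGL_val, diagGL_val, Matrix.diagonal_mul_diagonal]
  show _ = (1 : Matrix (Fin n) (Fin n) F)
  rw [← Matrix.diagonal_one]
  congr 1
  funext i
  exact mul_inv_cancel₀ (hd i)

/-- a permutation matrix normalises the diagonal matrices -/
theorem Wgl_mul_diagGL (w : Equiv.Perm (Fin n)) (d : Fin n → F) (hd : ∀ i, d i ≠ 0) :
    Wgl n F w * diagGL d hd = diagGL (fun i => d (w.symm i)) (fun _ => hd _) * Wgl n F w := by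
  apply Units.ext
  ext z y
  rw [Units.val_mul, Units.val_mul, diagGL_val, diagGL_val, Matrix.mul_diagonal,
    Matrix.diagonal_mul, Wgl_apply]
  by_cases h : w.symm z = y
  · rw [if_pos h, h, one_mul, mul_one]
  · rw [if_neg h, zero_mul, mul_zero]

theorem diag_ne_zero_of_mem {b : GL (Fin n) F} (hb : b ∈ upperTriangularGL n F) (i : Fin n) :
    (b : Matrix (Fin n) (Fin n) F) i i ≠ 0 := by
  have hdet : ((b : GL (Fin n) F) : Matrix (Fin n) (Fin n) F).det ≠ 0 := by
    rw [← Matrix.GeneralLinearGroup.val_det_apply]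
    exact Units.ne_zero _
  have hb' : (b : Matrix (Fin n) (Fin n) F).BlockTriangular id := hb
  rw [Matrix.det_of_isUpperTriangular hb', Finset.prod_ne_zero_iff] at hdet
  exact hdet i (Finset.mem_univ i)

/-- an upper triangular matrix is a diagonal one times a unitriangular one -/
theorem exists_diag_mul_unitri {b : GL (Fin n) F} (hb : b ∈ upperTriangularGL n F) :
    ∃ (d : Fin n → F) (hd : ∀ i, d i ≠ 0) (u : GL (Fin n) F), u ∈ upperTriangularGL n F ∧
      (∀ i, (u : Matrix (Fin n) (Fin n) F) i i = 1) ∧ b = diagGL d hd * u := by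
  let d : Fin n → F := fun i => (b : Matrix (Fin n) (Fin n) F) i i
  have hd : ∀ i, d i ≠ 0 := diag_ne_zero_of_mem hb
  let Dinv := diagGL (fun i => (d i)⁻¹) (fun i => inv_ne_zero (hd i))
  refine ⟨d, hd, Dinv * b, Subgroup.mul_mem _ (diagGL_mem _ _) hb, ?_, ?_⟩
  · intro i
    rw [Units.val_mul, diagGL_val, Matrix.diagonal_mul]
    exact inv_mul_cancel₀ (hd i)
  · rw [← mul_assoc, diagGL_mul_inv, one_mul]

/-- **Bruhat cover** `G = ⋃_w B ẇ U` -/
theorem bruhat_cover_unitri (g : GL (Fin n) F) :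
    ∃ b ∈ upperTriangularGL n F, ∃ w : Equiv.Perm (Fin n), ∃ u : GL (Fin n) F,
      u ∈ upperTriangularGL n F ∧ (∀ i, (u : Matrix (Fin n) (Fin n) F) i i = 1) ∧
      g = b * Wgl n F w * u := by
  obtain ⟨b, hb, w, b', hb', e⟩ := bruhat_exists g
  obtain ⟨d, hd, u, hu, hu1, e'⟩ := exists_diag_mul_unitri hb'
  refine ⟨b * diagGL (fun i => d (w.symm i)) (fun i => hd _),
    Subgroup.mul_mem _ hb (diagGL_mem _ _), w, u, hu, hu1, ?_⟩
  have h := Wgl_mul_diagGL w d hd
  rw [e, e']
  calc b * Wgl n F w * (diagGL d hd * u) = b * (Wgl n F w * diagGL d hd) * u := by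
        simp only [mul_assoc]
    _ = b * diagGL (fun i => d (w.symm i)) (fun i => hd _) * Wgl n F w * u := by
        rw [h]
        simp only [mul_assoc]

end Cfsg.Agent.Lib.Helper1.BruhatU
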