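import Mathlib
import Cfsg.Prelude.Def_CaseTheorems
import Cfsg.Agent.Lib.Helper2.DihedralSub
import Cfsg.Agent.Lib.Helper2.DihedralFusion
import Cfsg.Agent.Lib.Helper6.Dih2
import Cfsg.Agent.Lib.Helper6.Dih10

/-!
# S0508 (Brauer–Suzuki–Wall, dihedral form), part 1: the dihedral interface

For a subgroup `S ≃* DihedralGroup n` (`n ≥ 2`) with a central involution `t` we produce a cyclic
subgroup `R` of index two containing `t`, inverted by the elements outside.
-/

set_option autoImplicit false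
set_option maxHeartbeats 4000000
set_option maxRecDepth 100000
set_option linter.unusedVariables false
set_option linter.unusedSectionVars false
set_option linter.style.longLine false
set_option linter.unusedSimpArgs false
set_option linter.deprecated false

namespace Cfsg.Agent.Lib.Helper1.Bsd

open DihedralGroup

variable {G : Type*} [Group G]

/-- the interface: a cyclic subgroup of index two in `S`, containing the central involution `t`,
inverted by all elements outside. -/
structure DihR (S : Subgroup G) (t : G) (R : Subgroup G) : Prop where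
  le : R ≤ S
  cyc : IsCyclic ↥R
  idx : R.relIndex S = 2
  tmem : t ∈ R
  sq : ∀ x ∈ S, x ∉ R → x * x = 1
  prod : ∀ x ∈ S, ∀ y ∈ S, x ∉ R → y ∉ R → x⁻¹ * y ∈ R
  inv : ∀ x ∈ S, x ∉ R → ∀ r ∈ R, x * r * x⁻¹ = r⁻¹
  uniq : ∀ r ∈ R, r * r = 1 → r = 1 ∨ r = t
  only : ∀ C : Subgroup G, C ≤ S → IsCyclic ↥C → C.relIndex S = 2 → t ∈ C → C = R

theorem inv_mul_mem_of_relIndex_two {S R : Subgroup G} (h : R.relIndex S = 2) {x y : G}
    (hx : x ∈ S) (hy : y ∈ S) (hxR : x ∉ R) (hyR : y ∉ R) : x⁻¹ * y ∈ R := by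
  have h2 : (R.subgroupOf S).index = 2 := h
  have h3 := Subgroup.mul_mem_iff_of_index_two h2 (a := (⟨x, hx⟩ : ↥S)⁻¹) (b := ⟨y, hy⟩)
  have h4 : ((⟨x, hx⟩ : ↥S)⁻¹ * ⟨y, hy⟩) ∈ R.subgroupOf S := by
    rw [h3, inv_mem_iff]
    simp only [Subgroup.mem_subgroupOf]
    exact ⟨fun h => absurd h hxR, fun h => absurd h hyR⟩
  simpa [Subgroup.mem_subgroupOf] using h4

theorem card_of_relIndex_two {S C : Subgroup G} (hCS : C ≤ S) (h : C.relIndex S = 2) :
    Nat.card ↥S = 2 * Nat.card ↥C := by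
  have h1 := Subgroup.relIndex_mul_relIndex ⊥ C S bot_le hCS
  rw [Subgroup.relIndex_bot_left, Subgroup.relIndex_bot_left, h] at h1
  omega

theorem mul_self_of_orderOf_two {g : G} (h : orderOf g = 2) : g * g = 1 := by
  rw [← pow_two, ← h, pow_orderOf_eq_one]

theorem ne_one_of_orderOf_two {g : G} (h : orderOf g = 2) : g ≠ 1 := by
  rintro rfl
  simp at h

theorem inv_of_orderOf_two {g : G} (h : orderOf g = 2) : g⁻¹ = g :=
  inv_eq_of_mul_eq_one_left (mul_self_of_orderOf_two h)

theorem mem_zpowers_two {v x : G} (hv : orderOf v = 2) (hx : x ∈ Subgroup.zpowers v) :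
    x = 1 ∨ x = v :=
  Cfsg.Agent.Lib.Helper2.DihedralFusion.mem_zpowers_of_orderOf_two hv hx

theorem card_dihedral (S : Subgroup G) {n : ℕ} (eS : ↥S ≃* DihedralGroup n) :
    Nat.card ↥S = 2 * n := by
  rw [Nat.card_congr eS.toEquiv, DihedralGroup.nat_card]

/-- the case `n = 2`. -/
theorem dihR_two [Finite G] (S : Subgroup G) (eS : ↥S ≃* DihedralGroup 2) (t : G)
    (ht : orderOf t = 2) (htS : t ∈ S) (htZ : ∀ s ∈ S, s * t = t * s) :
    DihR S t (Subgroup.zpowers t) := by
  have hcard : Nat.card ↥S = 4 := by rw [card_dihedral S eS]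
  have hexp : ∀ x ∈ S, x * x = 1 := by
    intro x hx
    have h1 : ∀ d : DihedralGroup 2, d * d = 1 := by decide
    have h2 : eS (⟨x, hx⟩ * ⟨x, hx⟩) = eS 1 := by rw [map_mul, map_one]; exact h1 _
    have h3 := eS.injective h2
    have := congrArg Subtype.val h3
    simpa using this
  have hle : Subgroup.zpowers t ≤ S := Subgroup.zpowers_le.mpr htS
  have hcz : Nat.card ↥(Subgroup.zpowers t) = 2 := by rw [Nat.card_zpowers, ht]
  have hidx : (Subgroup.zpowers t).relIndex S = 2 :=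
    Cfsg.Agent.Lib.Helper6.Dih.relIndex_eq_two_of_card hle (by rw [hcard, hcz])
  refine ⟨hle, inferInstance, hidx, Subgroup.mem_zpowers t, fun x hx _ => hexp x hx,
    fun x hx y hy hxR hyR => inv_mul_mem_of_relIndex_two hidx hx hy hxR hyR, ?_, ?_, ?_⟩
  · intro x hx hxR r hr
    rcases mem_zpowers_two ht hr with h | h
    · rw [h]; simp
    · rw [h, htZ x hx, inv_of_orderOf_two ht]; group
  · intro r hr _
    exact mem_zpowers_two ht hr
  · intro C hCS hCc hCi htC
    have h1 : Nat.card ↥C = 2 := by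
      have := card_of_relIndex_two hCS hCi
      omega
    symm
    apply Subgroup.eq_of_le_of_card_ge (Subgroup.zpowers_le.mpr htC)
    rw [h1, hcz]

/-- the case `n ≥ 3`. -/
theorem dihR_big [Finite G] (S : Subgroup G) {n : ℕ} (hn : 3 ≤ n) (eS : ↥S ≃* DihedralGroup n)
    (t : G) (ht : orderOf t = 2) (htS : t ∈ S) (htZ : ∀ s ∈ S, s * t = t * s) :
    DihR S t (Cfsg.Agent.Lib.Helper2.DihedralSub.rot S eS) := by
  haveI : NeZero n := ⟨by omega⟩
  have hcard : Nat.card ↥S = 2 * n := card_dihedral S eS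
  have htR : t ∈ Cfsg.Agent.Lib.Helper2.DihedralSub.rot S eS := by
    by_contra hcon
    have h1 : ¬ ∃ i, eS ⟨t, htS⟩ = r i := fun h =>
      hcon ((Cfsg.Agent.Lib.Helper2.DihedralSub.mem_rot_iff S eS ⟨t, htS⟩).mpr h)
    rcases h : eS ⟨t, htS⟩ with i | i
    · exact h1 ⟨i, h⟩
    · -- `sr i` is not central
      have h2 : (eS.symm (r 1) : ↥S) * ⟨t, htS⟩ = ⟨t, htS⟩ * eS.symm (r 1) := by
        apply Subtype.ext
        simpa using htZ _ (eS.symm (r 1)).2
      have h3 := congrArg eS h2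
      rw [map_mul, map_mul, MulEquiv.apply_symm_apply, h, r_mul_sr, sr_mul_r] at h3
      have h4 : i - 1 = i + 1 := by
        injection h3
      have h5 : (2 : ZMod n) = 0 := by linear_combination -h4
      have h6 : ((2 : ℕ) : ZMod n) = 0 := by exact_mod_cast h5
      rw [ZMod.natCast_eq_zero_iff] at h6
      have := Nat.le_of_dvd (by norm_num) h6
      omega
  have hidx := Cfsg.Agent.Lib.Helper2.DihedralSub.relIndex_rot S eS
  refine ⟨Cfsg.Agent.Lib.Helper2.DihedralSub.rot_le S eS,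
    Cfsg.Agent.Lib.Helper2.DihedralSub.isCyclic_rot S eS, hidx, htR, ?_, ?_, ?_, ?_, ?_⟩
  · intro x hx hxR
    have := Cfsg.Agent.Lib.Helper2.DihedralSub.sq_eq_one_of_not_mem_rot S eS x hx hxR
    rwa [pow_two] at this
  · intro x hx y hy hxR hyR
    exact Cfsg.Agent.Lib.Helper2.DihedralSub.inv_mul_mem_rot S eS x hx y hy hxR hyR
  · intro x hx hxR y hy
    have hyS : y ∈ S := Cfsg.Agent.Lib.Helper2.DihedralSub.rot_le S eS hy
    have h1 : ¬ ∃ i, eS ⟨x, hx⟩ = r i := fun h =>
      hxR ((Cfsg.Agent.Lib.Helper2.DihedralSub.mem_rot_iff S eS ⟨x, hx⟩).mpr h)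
    obtain ⟨j, hj⟩ := (Cfsg.Agent.Lib.Helper2.DihedralSub.mem_rot_iff S eS ⟨y, hyS⟩).mp hy
    have h2 : (⟨x, hx⟩ : ↥S) * ⟨y, hyS⟩ * (⟨x, hx⟩ : ↥S)⁻¹ = (⟨y, hyS⟩ : ↥S)⁻¹ := by
      apply eS.injective
      rw [map_mul, map_mul, map_inv, map_inv, hj]
      rcases h : eS ⟨x, hx⟩ with i | i
      · exact absurd ⟨i, h⟩ h1
      · rw [DihedralGroup.inv_sr, sr_mul_r, sr_mul_sr, DihedralGroup.inv_r]
        congr 1
        ring
    have := congrArg Subtype.val h2
    simpa using this
  · intro y hy hyy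
    by_cases hy1 : y = 1
    · exact Or.inl hy1
    · haveI : Fact (Nat.Prime 2) := ⟨Nat.prime_two⟩
      have h1 := Cfsg.Agent.Lib.Helper2.DihedralSub.mem_zpowers_of_pow_prime_eq_one (p := 2)
        (Cfsg.Agent.Lib.Helper2.DihedralSub.rot S eS)
        (Cfsg.Agent.Lib.Helper2.DihedralSub.isCyclic_rot S eS) y t hy
        (by rw [pow_two]; exact hyy) htR (by rw [pow_two]; exact mul_self_of_orderOf_two ht)
        (ne_one_of_orderOf_two ht)
      exact mem_zpowers_two ht h1
  · intro C hCS hCc hCi htC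
    have hcC : Nat.card ↥C = n := by
      have := card_of_relIndex_two hCS hCi
      omega
    have hcR : Nat.card ↥(Cfsg.Agent.Lib.Helper2.DihedralSub.rot S eS) = n := by
      have := card_of_relIndex_two (Cfsg.Agent.Lib.Helper2.DihedralSub.rot_le S eS) hidx
      omega
    obtain ⟨g, hg⟩ := hCc.exists_generator
    have hgR : (g : G) ∈ Cfsg.Agent.Lib.Helper2.DihedralSub.rot S eS := by
      by_contra hcon
      have h1 := Cfsg.Agent.Lib.Helper2.DihedralSub.sq_eq_one_of_not_mem_rot S eS (g : G)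
        (hCS g.2) hcon
      have h2 : orderOf (g : G) ∣ 2 := orderOf_dvd_of_pow_eq_one h1
      have h3 : orderOf g = Nat.card ↥C := orderOf_eq_card_of_forall_mem_zpowers hg
      rw [← Subgroup.orderOf_coe] at h3
      have := Nat.le_of_dvd (by norm_num) h2
      omega
    have hle : C ≤ Cfsg.Agent.Lib.Helper2.DihedralSub.rot S eS := by
      intro x hx
      have h1 := hg ⟨x, hx⟩
      rw [Subgroup.mem_zpowers_iff] at h1
      obtain ⟨k, hk⟩ := h1
      have h2 : x = (g : G) ^ k := by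
        have := congrArg Subtype.val hk
        simpa using this.symm
      rw [h2]
      exact Subgroup.zpow_mem _ hgR k
    exact Subgroup.eq_of_le_of_card_ge hle (by rw [hcC, hcR])

/-- the interface exists for every `n ≥ 2`. -/
theorem exists_dihR [Finite G] (S : Subgroup G) {n : ℕ} (hn : 2 ≤ n) (eS : ↥S ≃* DihedralGroup n)
    (t : G) (ht : orderOf t = 2) (htS : t ∈ S) (htZ : ∀ s ∈ S, s * t = t * s) :
    ∃ R : Subgroup G, DihR S t R := by
  by_cases h2 : n = 2
  · subst h2
    exact ⟨_, dihR_two S eS t ht htS htZ⟩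
  · exact ⟨_, dihR_big S (by omega) eS t ht htS htZ⟩

end Cfsg.Agent.Lib.Helper1.Bsd
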