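import Mathlib
import Cfsg.Prelude.Def_CaseTheorems
import Cfsg.Agent.Lib.Helper1.Bsd1
import Cfsg.Agent.Lib.Helper1.PLengthOne
import Cfsg.Agent.Lib.Helper7.BswDefs

/-!
# S0508 (Brauer–Suzuki–Wall, dihedral form), part 2: the centralizer of the central involution

`C(t) = O(C(t)) S`, and the construction of the abelian TI subgroup `K = O R`.
-/

set_option autoImplicit false
set_option maxHeartbeats 4000000
set_option maxRecDepth 100000
set_option linter.unusedVariables false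
set_option linter.unusedSectionVars false
set_option linter.style.longLine false
set_option linter.unusedSimpArgs false
set_option linter.deprecated false

namespace Cfsg.Agent.Lib.Helper1.Bsd

open scoped Pointwise

variable {G : Type*} [Group G]

/-- centralizer of `t`. -/
abbrev Hc (t : G) : Subgroup G := Subgroup.centralizer ({t} : Set G)

/-- the image in `G` of the odd core of `C(t)`. -/
noncomputable abbrev Oc (t : G) : Subgroup G :=
  (Cfsg.oddCore ↥(Hc t)).map (Hc t).subtype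

theorem mem_Hc {t g : G} : g ∈ Hc t ↔ g * t = t * g := by
  rw [Subgroup.mem_centralizer_iff]
  constructor
  · intro h; exact (h t rfl).symm
  · intro h y hy
    rw [Set.mem_singleton_iff] at hy
    rw [hy, h]

theorem Oc_le (t : G) : Oc t ≤ Hc t := Subgroup.map_subtype_le _

theorem S_le_Hc {S : Subgroup G} {t : G} (htZ : ∀ s ∈ S, s * t = t * s) : S ≤ Hc t :=
  fun s hs => mem_Hc.mpr (htZ s hs)

theorem card_Oc [Finite G] (t : G) :
    Nat.card ↥(Oc t) = Nat.card ↥(Cfsg.oddCore ↥(Hc t)) :=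
  Subgroup.card_map_of_injective (Subgroup.subtype_injective _)

theorem card_Oc_coprime [Finite G] (t : G) : (Nat.card ↥(Oc t)).Coprime 2 := by
  rw [card_Oc]
  exact Cfsg.Agent.Lib.Helper1.pPrimeCore_card_coprime 2

/-- Step 1: the odd core of `C(t)` has 2-power index. -/
theorem core_index [Finite G] (S : Sylow 2 G) (t : G) (R : Subgroup G)
    (hR : DihR (S : Subgroup G) t R) (ht : orderOf t = 2)
    (htZ : ∀ s ∈ (S : Subgroup G), s * t = t * s) :
    ∃ k : ℕ, (Cfsg.pPrimeCore 2 ↥(Hc t)).index = 2 ^ k := by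
  have hSH : (S : Subgroup G) ≤ Hc t := S_le_Hc htZ
  have hRH : R ≤ Hc t := hR.le.trans hSH
  apply Cfsg.Agent.Lib.Helper6.Dih.index_pPrimeCore_of_dih (S.subtype hSH) (R.subgroupOf (Hc t))
  · intro x hx
    rw [Sylow.coe_subtype, Subgroup.mem_subgroupOf]
    exact hR.le (Subgroup.mem_subgroupOf.mp hx)
  · haveI := hR.cyc
    exact isCyclic_of_surjective (Subgroup.subgroupOfEquivOfLe hRH).symm.toMonoidHom
      (Subgroup.subgroupOfEquivOfLe hRH).symm.surjective
  · rw [Sylow.coe_subtype, Subgroup.relIndex_subgroupOf hSH]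
    exact hR.idx
  · intro x hx hxR
    rw [Sylow.coe_subtype, Subgroup.mem_subgroupOf] at hx
    rw [Subgroup.mem_subgroupOf] at hxR
    apply Subtype.ext
    simpa using hR.sq x hx hxR
  · intro x hx y hy hxR hyR
    rw [Sylow.coe_subtype, Subgroup.mem_subgroupOf] at hx hy
    rw [Subgroup.mem_subgroupOf] at hxR hyR ⊢
    simpa using hR.prod x hx y hy hxR hyR
  · show (⟨t, mem_Hc.mpr rfl⟩ : ↥(Hc t)) ≠ 1
    intro h
    have := congrArg Subtype.val h
    exact ne_one_of_orderOf_two ht this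
  · intro g
    apply Subtype.ext
    simpa using mem_Hc.mp g.2
  · intro s hs hss
    rw [Subgroup.mem_subgroupOf] at hs
    have h1 : (s : G) * (s : G) = 1 := by
      have := congrArg Subtype.val hss
      simpa using this
    rcases hR.uniq s hs h1 with h | h
    · left; exact Subtype.ext h
    · right; exact Subtype.ext h

/-- every odd-order element of `C(t)` lies in `O`. -/
theorem mem_Oc_of_odd [Finite G] {t : G}
    (hidx : ∃ k : ℕ, (Cfsg.pPrimeCore 2 ↥(Hc t)).index = 2 ^ k) {x : G} (hx : x ∈ Hc t)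
    (hodd : Odd (orderOf x)) : x ∈ Oc t := by
  have h1 := Cfsg.Agent.Lib.Helper6.Dih.mem_pPrimeCore_of_odd hidx (⟨x, hx⟩ : ↥(Hc t))
    (by rw [Subgroup.orderOf_mk]; exact hodd)
  exact Subgroup.mem_map.mpr ⟨⟨x, hx⟩, h1, rfl⟩

/-- `|C(t)| = |O| |S|`. -/
theorem card_Hc [Finite G] (S : Sylow 2 G) {t : G}
    (hidx : ∃ k : ℕ, (Cfsg.pPrimeCore 2 ↥(Hc t)).index = 2 ^ k)
    (htZ : ∀ s ∈ (S : Subgroup G), s * t = t * s) :
    Nat.card ↥(Hc t) = Nat.card ↥(Oc t) * Nat.card ↥(S : Subgroup G) := by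
  haveI : Fact (Nat.Prime 2) := ⟨Nat.prime_two⟩
  obtain ⟨k, hk⟩ := hidx
  have hSH : (S : Subgroup G) ≤ Hc t := S_le_Hc htZ
  have hcop : (Nat.card ↥(Cfsg.pPrimeCore 2 ↥(Hc t))).Coprime 2 :=
    Cfsg.Agent.Lib.Helper1.pPrimeCore_card_coprime 2
  have h1 := Cfsg.Agent.Lib.Helper6.Dih.two_pow_factorization_of_index
    (Cfsg.pPrimeCore 2 ↥(Hc t)) hcop k hk
  have h2 : Nat.card ↥((S.subtype hSH : Sylow 2 ↥(Hc t)) : Subgroup ↥(Hc t)) = 2 ^ k := by
    rw [Sylow.card_eq_multiplicity, h1]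
  have h3 : Nat.card ↥((S.subtype hSH : Sylow 2 ↥(Hc t)) : Subgroup ↥(Hc t))
      = Nat.card ↥(S : Subgroup G) := by
    rw [Sylow.coe_subtype]
    exact Nat.card_congr (Subgroup.subgroupOfEquivOfLe hSH).toEquiv
  have h4 := Subgroup.card_mul_index (Cfsg.pPrimeCore 2 ↥(Hc t))
  rw [hk] at h4
  rw [card_Oc, ← h3, h2]
  exact h4.symm

end Cfsg.Agent.Lib.Helper1.Bsd
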