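import Mathlib
import Cfsg.Prelude.Def_CaseTheorems
import Cfsg.Agent.Lib.Helper1.Bsd2

/-!
# S0508 (Brauer–Suzuki–Wall, dihedral form), part 3: the hypotheses of S3282

From the hypotheses of S0508 we construct `K = O R` and the involution `s` and verify the
hypotheses `Hyp t K s` of the abstract Brauer–Suzuki–Wall theorem.
-/

set_option autoImplicit false
set_option maxHeartbeats 4000000
set_option maxRecDepth 100000
set_option linter.unusedVariables false
set_option linter.unusedSectionVars false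
set_option linter.style.longLine false
set_option linter.unusedSimpArgs false
set_option linter.deprecated false

namespace Cfsg.Agent.Lib.Helper1.Bsd

open scoped Pointwise

variable {G : Type*} [Group G]

theorem comm_of_inverted (A : Subgroup G) (s : G) (h : ∀ x ∈ A, s * x * s⁻¹ = x⁻¹) :
    ∀ a ∈ A, ∀ b ∈ A, a * b = b * a := by
  intro a ha b hb
  have h1 := h (a * b) (mul_mem ha hb)
  have h2 := h a ha
  have h3 := h b hb
  have h4 : s * (a * b) * s⁻¹ = (s * a * s⁻¹) * (s * b * s⁻¹) := by group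
  rw [h1, h2, h3] at h4
  have h5 := congrArg (fun z => z⁻¹) h4
  simp only [inv_inv, mul_inv_rev] at h5
  exact h5

theorem mem_normalizer_zpowers_of_commute {c x : G} (h : c * x = x * c) :
    c ∈ Subgroup.normalizer ((Subgroup.zpowers x : Subgroup G) : Set G) := by
  have key : ∀ z ∈ Subgroup.zpowers x, c * z * c⁻¹ = z := by
    intro z hz
    obtain ⟨k, rfl⟩ := Subgroup.mem_zpowers_iff.mp hz
    have hc : Commute c x := h
    have h1 : c * x ^ k = x ^ k * c := (hc.zpow_right k).eq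
    rw [h1]; group
  rw [Subgroup.mem_normalizer_iff]
  intro y
  constructor
  · intro hy; rw [key y hy]; exact hy
  · intro hy
    have h1 := key _ hy
    have h2 : c * y * c⁻¹ = y := by
      calc c * y * c⁻¹ = c⁻¹ * (c * (c * y * c⁻¹) * c⁻¹) * c := by group
        _ = c⁻¹ * (c * y * c⁻¹) * c := by rw [h1]
        _ = y := by group
    rw [← h2]; exact hy

/-- the working context. -/
structure Ctx (S : Sylow 2 G) (t : G) (R O : Subgroup G) (s : G) : Prop where
  ht : orderOf t = 2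
  htZ : ∀ x ∈ (S : Subgroup G), x * t = t * x
  dih : DihR (S : Subgroup G) t R
  hO : O = Oc t
  hidx : ∃ k : ℕ, (Cfsg.pPrimeCore 2 ↥(Hc t)).index = 2 ^ k
  hRO : R ≤ Subgroup.centralizer (O : Set G)
  hinvO : ∀ x ∈ (S : Subgroup G), x ∉ R → ∀ y ∈ O, x * y * x⁻¹ = y⁻¹
  hc : ∀ Y : Subgroup G, Y ≤ O → Y ≠ ⊥ → Subgroup.normalizer (Y : Set G) ≤ Hc t
  hsS : s ∈ (S : Subgroup G)
  hsR : s ∉ R

namespace Ctx

variable [Finite G] {S : Sylow 2 G} {t : G} {R O : Subgroup G} {s : G}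

theorem tt (c : Ctx S t R O s) : t * t = 1 := mul_self_of_orderOf_two c.ht

theorem t1 (c : Ctx S t R O s) : t ≠ 1 := ne_one_of_orderOf_two c.ht

theorem ss (c : Ctx S t R O s) : s * s = 1 := c.dih.sq s c.hsS c.hsR

theorem s1 (c : Ctx S t R O s) : s ≠ 1 := by
  intro h; apply c.hsR; rw [h]; exact one_mem _

theorem hs (c : Ctx S t R O s) : orderOf s = 2 :=
  orderOf_eq_prime (by rw [pow_two]; exact c.ss) c.s1

theorem S_le (c : Ctx S t R O s) : (S : Subgroup G) ≤ Hc t := S_le_Hc c.htZ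

theorem O_le (c : Ctx S t R O s) : O ≤ Hc t := by rw [c.hO]; exact Oc_le t

theorem R_le (c : Ctx S t R O s) : R ≤ Hc t := c.dih.le.trans c.S_le

theorem sH (c : Ctx S t R O s) : s ∈ Hc t := c.S_le c.hsS

theorem card_O_coprime (c : Ctx S t R O s) : (Nat.card ↥O).Coprime 2 := by
  rw [c.hO]; exact card_Oc_coprime t

theorem O_inf_S (c : Ctx S t R O s) : ∀ x ∈ O, x ∈ (S : Subgroup G) → x = 1 := by
  intro x hxO hxS
  haveI : Fact (Nat.Prime 2) := ⟨Nat.prime_two⟩
  obtain ⟨a, ha⟩ := IsPGroup.iff_card.mp S.2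
  have hcop : (Nat.card ↥O).Coprime (Nat.card ↥(S : Subgroup G)) := by
    rw [ha]; exact Nat.Coprime.pow_right a c.card_O_coprime
  have h := Subgroup.inf_eq_bot_of_coprime hcop
  have : x ∈ O ⊓ (S : Subgroup G) := Subgroup.mem_inf.mpr ⟨hxO, hxS⟩
  rw [h] at this
  exact Subgroup.mem_bot.mp this

theorem O_comm (c : Ctx S t R O s) : ∀ a ∈ O, ∀ b ∈ O, a * b = b * a :=
  comm_of_inverted O s (c.hinvO s c.hsS c.hsR)

theorem R_comm (c : Ctx S t R O s) : ∀ a ∈ R, ∀ b ∈ R, a * b = b * a :=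
  comm_of_inverted R s (c.dih.inv s c.hsS c.hsR)

theorem OR_comm (c : Ctx S t R O s) : ∀ o ∈ O, ∀ r ∈ R, o * r = r * o := by
  intro o ho r hr
  exact (Subgroup.mem_centralizer_iff.mp (c.hRO hr)) o ho

theorem mem_K (c : Ctx S t R O s) {x : G} (hx : x ∈ O ⊔ R) :
    ∃ o ∈ O, ∃ r ∈ R, o * r = x := by
  have hLE : R ≤ Subgroup.normalizer (O : Set G) :=
    c.hRO.trans (Subgroup.centralizer_le_normalizer _)
  have h1 : x ∈ ((O ⊔ R : Subgroup G) : Set G) := hx
  rw [Subgroup.coe_mul_of_right_le_normalizer_left O R hLE] at h1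
  obtain ⟨o, ho, r, hr, hor⟩ := Set.mem_mul.mp h1
  exact ⟨o, ho, r, hr, hor⟩

theorem K_le (c : Ctx S t R O s) : O ⊔ R ≤ Hc t := sup_le c.O_le c.R_le

theorem tK (c : Ctx S t R O s) : t ∈ O ⊔ R := (le_sup_right : R ≤ O ⊔ R) c.dih.tmem

theorem K_comm (c : Ctx S t R O s) : ∀ a ∈ O ⊔ R, ∀ b ∈ O ⊔ R, a * b = b * a := by
  intro a ha b hb
  obtain ⟨o₁, ho₁, r₁, hr₁, rfl⟩ := c.mem_K ha
  obtain ⟨o₂, ho₂, r₂, hr₂, rfl⟩ := c.mem_K hb
  have e1 : r₁ * o₂ = o₂ * r₁ := (c.OR_comm o₂ ho₂ r₁ hr₁).symm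
  have e2 : o₁ * o₂ = o₂ * o₁ := c.O_comm o₁ ho₁ o₂ ho₂
  have e3 : r₁ * r₂ = r₂ * r₁ := c.R_comm r₁ hr₁ r₂ hr₂
  have e4 : o₁ * r₂ = r₂ * o₁ := c.OR_comm o₁ ho₁ r₂ hr₂
  calc o₁ * r₁ * (o₂ * r₂) = o₁ * (r₁ * o₂) * r₂ := by group
    _ = o₁ * (o₂ * r₁) * r₂ := by rw [e1]
    _ = (o₁ * o₂) * (r₁ * r₂) := by group
    _ = (o₂ * o₁) * (r₂ * r₁) := by rw [e2, e3]
    _ = o₂ * (o₁ * r₂) * r₁ := by group
    _ = o₂ * (r₂ * o₁) * r₁ := by rw [e4]
    _ = o₂ * r₂ * (o₁ * r₁) := by group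

theorem s_inv_K (c : Ctx S t R O s) : ∀ x ∈ O ⊔ R, s * x * s⁻¹ = x⁻¹ := by
  intro x hx
  obtain ⟨o, ho, r, hr, rfl⟩ := c.mem_K hx
  have e : r * o = o * r := (c.OR_comm o ho r hr).symm
  calc s * (o * r) * s⁻¹ = (s * o * s⁻¹) * (s * r * s⁻¹) := by group
    _ = o⁻¹ * r⁻¹ := by rw [c.hinvO s c.hsS c.hsR o ho, c.dih.inv s c.hsS c.hsR r hr]
    _ = (r * o)⁻¹ := by group
    _ = (o * r)⁻¹ := by rw [e]

theorem sq_K (c : Ctx S t R O s) : ∀ k ∈ O ⊔ R, k * k = 1 → k = 1 ∨ k = t := by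
  intro k hk hkk
  obtain ⟨o, ho, r, hr, rfl⟩ := c.mem_K hk
  have e : r * o = o * r := (c.OR_comm o ho r hr).symm
  have h1 : (o * o) * (r * r) = 1 := by
    calc (o * o) * (r * r) = o * (o * r) * r := by group
      _ = o * (r * o) * r := by rw [e]
      _ = (o * r) * (o * r) := by group
      _ = 1 := hkk
  have h2 : o * o = (r * r)⁻¹ := eq_inv_of_mul_eq_one_left h1
  have h3 : o * o ∈ (S : Subgroup G) := by
    rw [h2]; exact inv_mem (mul_mem (c.dih.le hr) (c.dih.le hr))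
  have h4 : o * o = 1 := c.O_inf_S _ (mul_mem ho ho) h3
  have h5 : orderOf o ∣ 2 := orderOf_dvd_of_pow_eq_one (by rw [pow_two]; exact h4)
  have h6 : orderOf o ∣ Nat.card ↥O := by
    have := orderOf_dvd_natCard (⟨o, ho⟩ : ↥O)
    rwa [Subgroup.orderOf_mk] at this
  have h7 : orderOf o = 1 := by
    have := Nat.dvd_gcd h6 h5
    rw [c.card_O_coprime] at this
    exact Nat.dvd_one.mp this
  have ho1 : o = 1 := orderOf_eq_one_iff.mp h7
  rw [ho1, one_mul]
  have h8 : r * r = 1 := by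
    rw [ho1] at h1; simpa using h1
  exact c.dih.uniq r hr h8

theorem s_not_mem_K (c : Ctx S t R O s) : s ∉ O ⊔ R := by
  intro h
  obtain ⟨o, ho, r, hr, hor⟩ := c.mem_K h
  have h1 : o = s * r⁻¹ := by rw [← hor]; group
  have h2 : o ∈ (S : Subgroup G) := by
    rw [h1]; exact mul_mem c.hsS (inv_mem (c.dih.le hr))
  have h3 := c.O_inf_S o ho h2
  rw [h3, one_mul] at hor
  exact c.hsR (hor ▸ hr)

theorem sup_eq (c : Ctx S t R O s) : (O ⊔ R) ⊔ Subgroup.zpowers s = Hc t := by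
  haveI : Fact (Nat.Prime 2) := ⟨Nat.prime_two⟩
  have hle : (O ⊔ R) ⊔ Subgroup.zpowers s ≤ Hc t :=
    sup_le c.K_le (Subgroup.zpowers_le.mpr c.sH)
  have hO : O ≤ (O ⊔ R) ⊔ Subgroup.zpowers s := le_sup_left.trans le_sup_left
  have hS : (S : Subgroup G) ≤ (O ⊔ R) ⊔ Subgroup.zpowers s := by
    intro x hx
    by_cases hxR : x ∈ R
    · exact (le_sup_left : O ⊔ R ≤ _) ((le_sup_right : R ≤ O ⊔ R) hxR)
    · have h1 := c.dih.prod s c.hsS x hx c.hsR hxR
      have h2 : x = s * (s⁻¹ * x) := by group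
      rw [h2]
      exact mul_mem ((le_sup_right : Subgroup.zpowers s ≤ _) (Subgroup.mem_zpowers s))
        ((le_sup_left : O ⊔ R ≤ _) ((le_sup_right : R ≤ O ⊔ R) h1))
  obtain ⟨a, ha⟩ := IsPGroup.iff_card.mp S.2
  have hcop : (Nat.card ↥O).Coprime (Nat.card ↥(S : Subgroup G)) := by
    rw [ha]; exact Nat.Coprime.pow_right a c.card_O_coprime
  have h1 := Subgroup.card_dvd_of_le hO
  have h2 := Subgroup.card_dvd_of_le hS
  have h3 := Nat.Coprime.mul_dvd_of_dvd_of_dvd hcop h1 h2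
  have h4 : Nat.card ↥(Hc t) = Nat.card ↥O * Nat.card ↥(S : Subgroup G) := by
    rw [c.hO]; exact card_Hc S c.hidx c.htZ
  rw [← h4] at h3
  exact Subgroup.eq_of_le_of_card_ge hle (Nat.le_of_dvd Nat.card_pos h3)

theorem s_mem_normalizer (c : Ctx S t R O s) :
    s ∈ Subgroup.normalizer ((O ⊔ R : Subgroup G) : Set G) := by
  rw [Subgroup.mem_normalizer_iff]
  intro h
  constructor
  · intro hh
    rw [c.s_inv_K h hh]; exact inv_mem hh
  · intro hh
    have h1 := c.s_inv_K _ hh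
    have h2 : s * (s * h * s⁻¹) * s⁻¹ = (s * s) * h * (s * s)⁻¹ := by group
    rw [h2, c.ss] at h1
    have h3 : h = (s * h * s⁻¹)⁻¹ := by rw [← h1]; group
    rw [h3]; exact inv_mem hh

theorem mem_H_cases (c : Ctx S t R O s) {x : G} (hx : x ∈ Hc t) :
    x ∈ O ⊔ R ∨ ∃ k ∈ O ⊔ R, x = k * s := by
  have hLE : Subgroup.zpowers s ≤ Subgroup.normalizer ((O ⊔ R : Subgroup G) : Set G) :=
    Subgroup.zpowers_le.mpr c.s_mem_normalizer
  rw [← c.sup_eq] at hx
  have h1 : x ∈ (((O ⊔ R) ⊔ Subgroup.zpowers s : Subgroup G) : Set G) := hx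
  rw [Subgroup.coe_mul_of_right_le_normalizer_left (O ⊔ R) (Subgroup.zpowers s) hLE] at h1
  obtain ⟨k, hk, z, hz, hkz⟩ := Set.mem_mul.mp h1
  rcases mem_zpowers_two c.hs hz with h | h
  · left; rw [← hkz, h, mul_one]; exact hk
  · right; exact ⟨k, hk, by rw [← hkz, h]⟩

theorem inf_cent (c : Ctx S t R O s) :
    (O ⊔ R) ⊓ Subgroup.centralizer ({s} : Set G) = Subgroup.zpowers t := by
  ext x
  constructor
  · intro hx
    obtain ⟨hxK, hxs⟩ := Subgroup.mem_inf.mp hx
    have h1 : x * s = s * x := mem_Hc.mp hxs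
    have h2 := c.s_inv_K x hxK
    have h3 : s * x * s⁻¹ = x := by rw [← h1]; group
    rw [h3] at h2
    have h4 : x * x = 1 := by
      calc x * x = x * x⁻¹ := by rw [← h2]
        _ = 1 := mul_inv_cancel x
    rcases c.sq_K x hxK h4 with h | h
    · rw [h]; exact one_mem _
    · rw [h]; exact Subgroup.mem_zpowers t
  · intro hx
    rcases mem_zpowers_two c.ht hx with h | h
    · rw [h]; exact one_mem _
    · rw [h]
      exact Subgroup.mem_inf.mpr ⟨c.tK, mem_Hc.mpr (mem_Hc.mp c.sH).symm⟩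

theorem TI (c : Ctx S t R O s) (g : G) (hg : g ∉ Hc t) :
    (O ⊔ R) ⊓ (O ⊔ R).map (MulAut.conj g).toMonoidHom = ⊥ := by
  rw [Subgroup.eq_bot_iff_forall]
  intro x hx
  obtain ⟨hxK, hxg⟩ := Subgroup.mem_inf.mp hx
  obtain ⟨k, hkK, hkx⟩ := Subgroup.mem_map.mp hxg
  have hkx' : g * k * g⁻¹ = x := by
    simpa [MulAut.conj_apply] using hkx
  by_contra hx1
  have hxpow : ∀ m : ℕ, x ^ m = g * k ^ m * g⁻¹ := by
    intro m; rw [← hkx', conj_pow]
  rcases Nat.even_or_odd (orderOf x) with hev | hodd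
  · obtain ⟨m, hm⟩ := hev
    have hpos : 0 < orderOf x := orderOf_pos x
    have hy2 : x ^ m * x ^ m = 1 := by rw [← pow_add, ← hm, pow_orderOf_eq_one]
    have hy1 : x ^ m ≠ 1 := by
      intro h
      have h1 := orderOf_dvd_of_pow_eq_one h
      have h2 := Nat.le_of_dvd (by omega) h1
      omega
    have hyt : x ^ m = t := (c.sq_K _ (pow_mem hxK m) hy2).resolve_left hy1
    have hkm2 : k ^ m * k ^ m = 1 := by
      have h1 : g * (k ^ m * k ^ m) * g⁻¹ = 1 := by
        rw [← hy2, hxpow m]; group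
      calc k ^ m * k ^ m = g⁻¹ * (g * (k ^ m * k ^ m) * g⁻¹) * g := by group
        _ = 1 := by rw [h1]; group
    have hkm1 : k ^ m ≠ 1 := by
      intro h; apply hy1; rw [hxpow m, h]; group
    have hkt : k ^ m = t := (c.sq_K _ (pow_mem hkK m) hkm2).resolve_left hkm1
    have e1 : g * t * g⁻¹ = t := by
      calc g * t * g⁻¹ = g * k ^ m * g⁻¹ := by rw [hkt]
        _ = x ^ m := (hxpow m).symm
        _ = t := hyt
    apply hg
    rw [mem_Hc]
    calc g * t = (g * t * g⁻¹) * g := by group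
      _ = t * g := by rw [e1]
  · have hxO : x ∈ O := by
      rw [c.hO]; exact mem_Oc_of_odd c.hidx (c.K_le hxK) hodd
    have hko : orderOf k = orderOf x := by
      rw [← hkx']
      exact (Cfsg.Agent.Lib.Helper2.DihedralFusion.orderOf_conj_eq g k).symm
    have hkO : k ∈ O := by
      rw [c.hO]; exact mem_Oc_of_odd c.hidx (c.K_le hkK) (hko ▸ hodd)
    have hk1 : k ≠ 1 := by
      intro h; apply hx1; rw [← hkx', h]; group
    have hNk := c.hc (Subgroup.zpowers k) (Subgroup.zpowers_le.mpr hkO)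
      ((Subgroup.zpowers_ne_bot).mpr hk1)
    have hNx := c.hc (Subgroup.zpowers x) (Subgroup.zpowers_le.mpr hxO)
      ((Subgroup.zpowers_ne_bot).mpr hx1)
    obtain ⟨t', ht'⟩ : ∃ t', t' = g * t * g⁻¹ := ⟨_, rfl⟩
    have h1 : t' * x = x * t' := by
      rw [ht', ← hkx']
      have htk : t * k = k * t := c.K_comm t c.tK k hkK
      calc g * t * g⁻¹ * (g * k * g⁻¹) = g * (t * k) * g⁻¹ := by group
        _ = g * (k * t) * g⁻¹ := by rw [htk]
        _ = g * k * g⁻¹ * (g * t * g⁻¹) := by group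
    have ht'H : t' ∈ Hc t := hNx (mem_normalizer_zpowers_of_commute h1)
    have h2 : ∀ w ∈ O ⊔ R, w * t' = t' * w := by
      intro w hw
      have hwx : w * x = x * w := c.K_comm w hw x hxK
      have hk' : k = g⁻¹ * x * g := by rw [← hkx']; group
      have h3 : (g⁻¹ * w * g) * k = k * (g⁻¹ * w * g) := by
        rw [hk']
        calc g⁻¹ * w * g * (g⁻¹ * x * g) = g⁻¹ * (w * x) * g := by group
          _ = g⁻¹ * (x * w) * g := by rw [hwx]
          _ = g⁻¹ * x * g * (g⁻¹ * w * g) := by group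
      have h4 : g⁻¹ * w * g ∈ Hc t := hNk (mem_normalizer_zpowers_of_commute h3)
      have h5 := mem_Hc.mp h4
      rw [ht']
      calc w * (g * t * g⁻¹) = g * ((g⁻¹ * w * g) * t) * g⁻¹ := by group
        _ = g * (t * (g⁻¹ * w * g)) * g⁻¹ := by rw [h5]
        _ = g * t * g⁻¹ * w := by group
    have ht'2 : t' * t' = 1 := by
      rw [ht']
      calc g * t * g⁻¹ * (g * t * g⁻¹) = g * (t * t) * g⁻¹ := by group
        _ = 1 := by rw [c.tt]; group
    have ht'1 : t' ≠ 1 := by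
      intro h
      apply c.t1
      calc t = g⁻¹ * (g * t * g⁻¹) * g := by group
        _ = 1 := by rw [← ht', h]; group
    rcases c.mem_H_cases ht'H with h | ⟨k', hk'K, hk'⟩
    · have h3 := (c.sq_K t' h ht'2).resolve_left ht'1
      apply hg
      rw [mem_Hc]
      calc g * t = (g * t * g⁻¹) * g := by group
        _ = t * g := by rw [← ht', h3]
    · have h6 := h2 x hxK
      rw [hk'] at h6
      have h7 : k' * x = x * k' := c.K_comm k' hk'K x hxK
      have h8 : s * x = x * s := by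
        have h9 : k' * (x * s) = k' * (s * x) := by
          calc k' * (x * s) = (k' * x) * s := by group
            _ = (x * k') * s := by rw [h7]
            _ = x * (k' * s) := by group
            _ = k' * s * x := h6
            _ = k' * (s * x) := by group
        exact (mul_left_cancel h9).symm
      have h10 := c.s_inv_K x hxK
      have h11 : s * x * s⁻¹ = x := by rw [h8]; group
      rw [h11] at h10
      have h12 : x * x = 1 := by
        calc x * x = x * x⁻¹ := by rw [← h10]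
          _ = 1 := mul_inv_cancel x
      have h13 : orderOf x ∣ 2 := orderOf_dvd_of_pow_eq_one (by rw [pow_two]; exact h12)
      have h14 : orderOf x = 1 := by
        rcases (Nat.dvd_prime Nat.prime_two).mp h13 with h | h
        · exact h
        · rw [h] at hodd; exact absurd hodd (by decide)
      exact hx1 (orderOf_eq_one_iff.mp h14)

/-- the hypotheses of the abstract Brauer–Suzuki–Wall theorem. -/
theorem hyp (c : Ctx S t R O s)
    (hconj : ∀ x y : G, orderOf x = 2 → orderOf y = 2 → IsConj x y) :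
    Cfsg.Agent.Lib.Helper7.Bsw.Hyp t (O ⊔ R) s where
  ht := c.ht
  hKab := ⟨⟨fun a b => Subtype.ext (c.K_comm a a.2 b b.2)⟩⟩
  hKH := c.K_le
  htK := c.tK
  hs := c.hs
  hsH := c.sH
  hsK := c.s_not_mem_K
  hH := c.sup_eq
  hCK := c.inf_cent
  hinv := c.s_inv_K
  hTI := c.TI
  hconj := hconj

end Ctx

end Cfsg.Agent.Lib.Helper1.Bsd
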