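import Mathlib
import Cfsg.Prelude.Def_CaseTheorems
import Cfsg.Agent.Lib.Helper1.Bsd3

/-!
# S0508 (Brauer–Suzuki–Wall, dihedral form), part 4: front end

All involutions of a simple group with dihedral Sylow 2-subgroups are conjugate, and the
hypotheses of S0508 give the hypotheses `Hyp t K s` of S3282.
-/

set_option autoImplicit false
set_option maxHeartbeats 4000000
set_option maxRecDepth 100000
set_option linter.unusedVariables false
set_option linter.unusedSectionVars false
set_option linter.style.longLine false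
set_option linter.unusedSimpArgs false
set_option linter.deprecated false

namespace Cfsg.Agent.Lib.Helper1.Bsd

open scoped Pointwise
open DihedralGroup

variable {G : Type*} [Group G]

theorem no_index_two [Finite G] [IsSimpleGroup G] (S : Sylow 2 G) (n : ℕ) (hn : 2 ≤ n)
    (eS : ↥(S : Subgroup G) ≃* DihedralGroup n) : ∀ H : Subgroup G, H.index ≠ 2 := by
  intro H hH
  haveI : H.Normal := Subgroup.normal_of_index_eq_two hH
  rcases Subgroup.Normal.eq_bot_or_eq_top (H := H) inferInstance with h | h
  · rw [h, Subgroup.index_bot] at hH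
    have h1 := Subgroup.card_subgroup_dvd_card (S : Subgroup G)
    rw [card_dihedral _ eS, hH] at h1
    have := Nat.le_of_dvd (by norm_num) h1
    omega
  · rw [h, Subgroup.index_top] at hH
    omega

/-- Step 4: all involutions are conjugate. -/
theorem all_conj [Finite G] [IsSimpleGroup G] (S : Sylow 2 G) (n : ℕ) (hn : 2 ≤ n)
    (eS : ↥(S : Subgroup G) ≃* DihedralGroup n) :
    ∀ x y : G, orderOf x = 2 → orderOf y = 2 → IsConj x y := by
  have h2 := no_index_two S n hn eS
  intro x y hx hy
  by_cases hn2 : n = 2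
  · subst hn2
    haveI : IsKleinFour ↥(S : Subgroup G) :=
      ⟨by rw [card_dihedral _ eS], by
        rw [Monoid.exponent_eq_of_mulEquiv eS]; exact IsKleinFour.exponent_two⟩
    exact Cfsg.Agent.Lib.Helper2.DihedralFusion.four_allConj_of_noIdx2 S h2 x y hx hy
  · haveI : Fact (Nat.Prime 2) := ⟨Nat.prime_two⟩
    obtain ⟨a, ha⟩ := IsPGroup.iff_card.mp S.2
    rw [card_dihedral _ eS] at ha
    have ha3 : 3 ≤ a := by
      by_contra hcon
      have : a ≤ 2 := by omega
      have h4 : 2 ^ a ≤ 2 ^ 2 := Nat.pow_le_pow_right (by norm_num) this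
      omega
    obtain ⟨b, rfl⟩ : ∃ b, a = b + 3 := ⟨a - 3, by omega⟩
    obtain ⟨c, hc⟩ : ∃ c, c = 2 ^ b := ⟨_, rfl⟩
    have hc0 : c ≠ 0 := by rw [hc]; positivity
    have hn4 : n = 2 * (2 * c) := by
      rw [pow_succ, pow_succ, pow_succ, ← hc] at ha
      omega
    let D : Cfsg.Agent.S3864.DihData (S : Subgroup G) n (2 * c) :=
      { e := (Subgroup.subtype (S : Subgroup G)).comp eS.symm.toMonoidHom
        inj := by
          intro u v huv
          have h5 : eS.symm u = eS.symm v := Subtype.ext huv
          exact eS.symm.injective h5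
        mem_iff := by
          intro g
          constructor
          · intro hg
            refine ⟨eS ⟨g, hg⟩, ?_⟩
            simp
          · rintro ⟨d, rfl⟩
            exact (eS.symm d).2
        hmk := hn4
        hk2 := ⟨c, rfl⟩
        hk0 := by omega }
    have h3 := Cfsg.Agent.Lib.Helper2.DihedralFusion.dih_conj_of_noIdx2 S D h2
    exact Cfsg.Agent.Lib.Helper2.DihedralFusion.dih_allConj_of_conj S D h3.1 h3.2 x y hx hy

/-- From the hypotheses of S0508 to the hypotheses of S3282. -/
theorem exists_hyp [Finite G] [IsSimpleGroup G] (S : Sylow 2 G) (n : ℕ)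
    (hn : 2 ≤ n) (hS : Nonempty ((S : Subgroup G) ≃* DihedralGroup n)) (t : G) (ht : orderOf t = 2)
    (htS : t ∈ (S : Subgroup G))
    (htZ : ∀ s ∈ (S : Subgroup G), s * t = t * s) (O : Subgroup G)
    (hO : O = (Cfsg.oddCore (Subgroup.centralizer ({t} : Set G))).map (Subgroup.centralizer ({t} : Set G)).subtype)
    (ha : O ≠ ⊥ → IsCyclic ((S : Subgroup G) ⊓ Subgroup.centralizer (O : Set G) : Subgroup G) ∧
      ((S : Subgroup G) ⊓ Subgroup.centralizer (O : Set G)).relIndex (S : Subgroup G) = 2)
    (hb : ∀ s ∈ (S : Subgroup G), s ∉ Subgroup.centralizer (O : Set G) → ∀ y ∈ O, s * y * s⁻¹ = y⁻¹)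
    (hc : ∀ Y : Subgroup G, Y ≤ O → Y ≠ ⊥ → Subgroup.normalizer (Y : Set G) ≤ Subgroup.centralizer ({t} : Set G)) :
    ∃ (K : Subgroup G) (s : G), Cfsg.Agent.Lib.Helper7.Bsw.Hyp t K s := by
  obtain ⟨eS⟩ := hS
  obtain ⟨R, hR⟩ := exists_dihR (S : Subgroup G) hn eS t ht htS htZ
  have hidx := core_index S t R hR ht htZ
  -- an element of `S` outside `R`
  obtain ⟨s, hsS, hsR⟩ : ∃ s ∈ (S : Subgroup G), s ∉ R := by
    by_contra hcon
    push_neg at hcon
    have h1 : (S : Subgroup G) ≤ R := hcon
    have h2 := Subgroup.relIndex_eq_one.mpr h1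
    rw [hR.idx] at h2
    omega
  have hOH : O ≤ Hc t := by rw [hO]; exact Oc_le t
  have hRO_inv : R ≤ Subgroup.centralizer (O : Set G) ∧
      ∀ x ∈ (S : Subgroup G), x ∉ R → ∀ y ∈ O, x * y * x⁻¹ = y⁻¹ := by
    by_cases hObot : O = ⊥
    · constructor
      · intro r hr
        rw [Subgroup.mem_centralizer_iff]
        intro y hy
        have hy' : y ∈ O := hy
        rw [hObot, Subgroup.mem_bot] at hy'
        rw [hy']; simp
      · intro x hx hxR y hy
        rw [hObot, Subgroup.mem_bot] at hy
        rw [hy]; simp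
    · obtain ⟨hcyc, hrel⟩ := ha hObot
      have htC : t ∈ (S : Subgroup G) ⊓ Subgroup.centralizer (O : Set G) := by
        refine Subgroup.mem_inf.mpr ⟨htS, ?_⟩
        rw [Subgroup.mem_centralizer_iff]
        intro y hy
        exact mem_Hc.mp (hOH hy)
      have hCR := hR.only _ inf_le_left hcyc hrel htC
      constructor
      · rw [← hCR]; exact inf_le_right
      · intro x hx hxR y hy
        apply hb x hx _ y hy
        intro hxc
        apply hxR
        rw [← hCR]
        exact Subgroup.mem_inf.mpr ⟨hx, hxc⟩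
  have ctx : Ctx S t R O s :=
    { ht := ht
      htZ := htZ
      dih := hR
      hO := hO
      hidx := hidx
      hRO := hRO_inv.1
      hinvO := hRO_inv.2
      hc := hc
      hsS := hsS
      hsR := hsR }
  exact ⟨O ⊔ R, s, ctx.hyp (all_conj S n hn eS)⟩

end Cfsg.Agent.Lib.Helper1.Bsd
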