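import Mathlib
import Cfsg.Prelude.Def_LieExceptional
import Cfsg.Agent.Lib.Helper1.Bsd2
import Cfsg.Agent.Lib.Helper1.BGF3
import Cfsg.Agent.Lib.Helper1.FrobeniusCount
import Cfsg.Agent.Lib.Lead.SmallSimple2
import Cfsg.Agent.S0731

/-!
# S0508 (Brauer–Suzuki–Wall, dihedral form), part 5: from the conclusion of S3282 to `PSL₂`

A simple group with the structure given by the conclusion of S3282 is a Zassenhaus group on the
cosets of `N(Q)` with abelian kernel `Q`, hence `PSL₂(F)` by S0731.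
-/

set_option autoImplicit false
set_option maxHeartbeats 4000000
set_option maxRecDepth 100000
set_option linter.unusedVariables false
set_option linter.unusedSectionVars false
set_option linter.style.longLine false
set_option linter.unusedSimpArgs false
set_option linter.deprecated false

namespace Cfsg.Agent.Lib.Helper1.Bsd

open scoped Pointwise

variable {G : Type*} [Group G]

/-- an element of a subgroup `B` whose order is prime to the index of a normal subgroup `N` of `B`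
lies in `N`. -/
theorem mem_of_coprime_relIndex [Finite G] {N B : Subgroup G}
    (hnorm : B ≤ Subgroup.normalizer (N : Set G)) {y : G} (hy : y ∈ B) (m : ℕ) (hym : y ^ m = 1)
    (hcop : m.Coprime (N.relIndex B)) : y ∈ N := by
  haveI : (N.subgroupOf B).Normal := Subgroup.normal_subgroupOf_of_le_normalizer hnorm
  have h0 : (QuotientGroup.mk' (N.subgroupOf B) ⟨y, hy⟩) ^ m = 1 := by
    rw [← map_pow]
    have : (⟨y, hy⟩ : ↥B) ^ m = 1 := Subtype.ext (by simpa using hym)
    rw [this, map_one]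
  have h1 : orderOf (QuotientGroup.mk' (N.subgroupOf B) ⟨y, hy⟩) ∣ m :=
    orderOf_dvd_of_pow_eq_one h0
  have h2 : orderOf (QuotientGroup.mk' (N.subgroupOf B) ⟨y, hy⟩) ∣ N.relIndex B := by
    have : N.relIndex B = Nat.card (↥B ⧸ N.subgroupOf B) := by
      rw [Subgroup.relIndex, Subgroup.index_eq_card]
    rw [this]
    exact orderOf_dvd_natCard _
  have h3 := Nat.dvd_gcd h1 h2
  rw [hcop] at h3
  have h4 : QuotientGroup.mk' (N.subgroupOf B) ⟨y, hy⟩ = 1 :=
    orderOf_eq_one_iff.mp (Nat.dvd_one.mp h3)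
  have h5 : (⟨y, hy⟩ : ↥B) ∈ N.subgroupOf B := by
    rw [← QuotientGroup.eq_one_iff]; exact h4
  exact Subgroup.mem_subgroupOf.mp h5

/-- the relevant part of the conclusion of S3282. -/
structure ZData (Q D : Subgroup G) : Prop where
  card_G : 2 * Nat.card G = Nat.card ↥Q * (Nat.card ↥Q + 1) * (Nat.card ↥Q - 1)
  cent : ∀ x ∈ Q, x ≠ 1 → Subgroup.centralizer ({x} : Set G) = Q
  card_D : 2 * Nat.card ↥D + 1 = Nat.card ↥Q
  disj : Q ⊓ D = ⊥
  norm : Subgroup.normalizer (Q : Set G) = Q ⊔ D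

namespace ZData

variable [Finite G] {Q D : Subgroup G}

theorem Q_comm (h : ZData Q D) : ∀ a ∈ Q, ∀ b ∈ Q, a * b = b * a := by
  intro a ha b hb
  by_cases ha1 : a = 1
  · rw [ha1]; simp
  · have h1 : b ∈ Subgroup.centralizer ({a} : Set G) := by rw [h.cent a ha ha1]; exact hb
    exact (mem_Hc.mp h1).symm

theorem D_le (h : ZData Q D) : D ≤ Subgroup.normalizer (Q : Set G) := by
  rw [h.norm]; exact le_sup_right

theorem Q_le (h : ZData Q D) : Q ≤ Subgroup.normalizer (Q : Set G) := Subgroup.le_normalizer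

theorem card_B (h : ZData Q D) :
    Nat.card ↥(Subgroup.normalizer (Q : Set G)) = Nat.card ↥Q * Nat.card ↥D := by
  have h1 : Disjoint Q D := disjoint_iff.mpr h.disj
  have := Cfsg.Agent.Lib.Helper1.BGF.card_sup_eq_mul h.D_le h1
  rw [h.norm]; exact this

theorem card_G' (h : ZData Q D) :
    Nat.card G = (Nat.card ↥Q + 1) * (Nat.card ↥Q * Nat.card ↥D) := by
  have h1 := h.card_G
  have h2 := h.card_D
  obtain ⟨d, hd⟩ : ∃ d, d = Nat.card ↥D := ⟨_, rfl⟩
  obtain ⟨q, hq⟩ : ∃ q, q = Nat.card ↥Q := ⟨_, rfl⟩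
  rw [← hq] at h1
  rw [← hd, ← hq] at h2
  rw [← hd, ← hq]
  have h3 : q - 1 = 2 * d := by omega
  rw [h3] at h1
  have h4 : 2 * Nat.card G = 2 * ((q + 1) * (q * d)) := by rw [h1]; ring
  exact Nat.eq_of_mul_eq_mul_left (by norm_num) h4

theorem index_B (h : ZData Q D) :
    (Subgroup.normalizer (Q : Set G)).index = Nat.card ↥Q + 1 := by
  have h1 := Subgroup.card_mul_index (Subgroup.normalizer (Q : Set G))
  rw [h.card_B, h.card_G'] at h1
  have hpos : 0 < Nat.card ↥Q * Nat.card ↥D := Nat.mul_pos Nat.card_pos Nat.card_pos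
  have h2 : Nat.card ↥Q * Nat.card ↥D * (Subgroup.normalizer (Q : Set G)).index
      = Nat.card ↥Q * Nat.card ↥D * (Nat.card ↥Q + 1) := by rw [h1]; ring
  exact Nat.eq_of_mul_eq_mul_left hpos h2

theorem relIndex_Q (h : ZData Q D) :
    Q.relIndex (Subgroup.normalizer (Q : Set G)) = Nat.card ↥D := by
  have h1 := Subgroup.relIndex_mul_relIndex ⊥ Q (Subgroup.normalizer (Q : Set G)) bot_le h.Q_le
  rw [Subgroup.relIndex_bot_left, Subgroup.relIndex_bot_left, h.card_B] at h1
  exact Nat.eq_of_mul_eq_mul_left Nat.card_pos h1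

theorem coprime_qd (h : ZData Q D) : (Nat.card ↥Q).Coprime (Nat.card ↥D) := by
  rw [← h.card_D, Nat.coprime_comm]
  exact (Nat.coprime_mul_right_add_right (Nat.card ↥D) 1 2).mpr (Nat.coprime_one_right _)

theorem pow_card_Q (h : ZData Q D) {x : G} (hx : x ∈ Q) : x ^ Nat.card ↥Q = 1 := by
  have := pow_card_eq_one' (G := ↥Q) (x := ⟨x, hx⟩)
  have h2 := congrArg Subtype.val this
  rw [Subgroup.coe_pow, Subgroup.coe_one] at h2
  exact h2

theorem mem_Q_of_pow (h : ZData Q D) {y : G} (hy : y ∈ Subgroup.normalizer (Q : Set G))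
    (hyq : y ^ Nat.card ↥Q = 1) : y ∈ Q := by
  apply mem_of_coprime_relIndex (le_refl _) hy (Nat.card ↥Q) hyq
  rw [h.relIndex_Q]; exact h.coprime_qd

/-- a nonidentity element of `Q` has a single fixed point. -/
theorem fix_Q (h : ZData Q D) {x : G} (hx : x ∈ Q) (hx1 : x ≠ 1) {a : G}
    (ha : a⁻¹ * x * a ∈ Subgroup.normalizer (Q : Set G)) :
    a ∈ Subgroup.normalizer (Q : Set G) := by
  have hyq : (a⁻¹ * x * a) ^ Nat.card ↥Q = 1 := by
    have : a⁻¹ * x * a = a⁻¹ * x * a⁻¹⁻¹ := by rw [inv_inv]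
    rw [this, conj_pow, h.pow_card_Q hx]; group
  have hyQ := h.mem_Q_of_pow ha hyq
  have hy1 : a⁻¹ * x * a ≠ 1 := by
    intro h1
    apply hx1
    calc x = a * (a⁻¹ * x * a) * a⁻¹ := by group
      _ = 1 := by rw [h1]; group
  have hCy := h.cent _ hyQ hy1
  have hCx := h.cent x hx hx1
  rw [Subgroup.mem_normalizer_iff]
  intro g
  constructor
  · intro hg
    rw [← hCy] at hg
    have h1 := mem_Hc.mp hg
    rw [← hCx]
    apply mem_Hc.mpr
    calc a * g * a⁻¹ * x = a * (g * (a⁻¹ * x * a)) * a⁻¹ := by group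
      _ = a * ((a⁻¹ * x * a) * g) * a⁻¹ := by rw [h1]
      _ = x * (a * g * a⁻¹) := by group
  · intro hg
    rw [← hCx] at hg
    have h1 := mem_Hc.mp hg
    rw [← hCy]
    apply mem_Hc.mpr
    calc g * (a⁻¹ * x * a) = a⁻¹ * ((a * g * a⁻¹) * x) * a := by group
      _ = a⁻¹ * (x * (a * g * a⁻¹)) * a := by rw [h1]
      _ = a⁻¹ * x * a * g := by group

end ZData

end Cfsg.Agent.Lib.Helper1.Bsd
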