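import Mathlib
import Cfsg.Prelude.Def_LieExceptional
import Cfsg.Agent.Lib.Helper1.Bsd5

/-!
# S0508 (Brauer–Suzuki–Wall, dihedral form), part 6: the Zassenhaus action

`G` acts on the cosets of `N(Q)` as a Zassenhaus group with abelian kernel `Q`.
-/

set_option autoImplicit false
set_option maxHeartbeats 4000000
set_option maxRecDepth 100000
set_option linter.unusedVariables false
set_option linter.unusedSectionVars false
set_option linter.style.longLine false
set_option linter.unusedSimpArgs false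
set_option linter.deprecated false

namespace Cfsg.Agent.Lib.Helper1.Bsd

open scoped Pointwise

variable {G : Type*} [Group G]

/-- the normalizer of `Q`. -/
abbrev Bq (Q : Subgroup G) : Subgroup G := Subgroup.normalizer (Q : Set G)

/-- the base point. -/
def al (Q : Subgroup G) : G ⧸ Bq Q := QuotientGroup.mk 1

theorem smul_mk' (Q : Subgroup G) (g a : G) :
    g • (QuotientGroup.mk a : G ⧸ Bq Q) = QuotientGroup.mk (g * a) := rfl

theorem fix_iff (Q : Subgroup G) (g a : G) :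
    g • (QuotientGroup.mk a : G ⧸ Bq Q) = QuotientGroup.mk a ↔ a⁻¹ * g * a ∈ Bq Q := by
  rw [smul_mk', eq_comm, QuotientGroup.eq, mul_assoc]

theorem mk_eq_al_iff (Q : Subgroup G) (a : G) :
    (QuotientGroup.mk a : G ⧸ Bq Q) = al Q ↔ a ∈ Bq Q := by
  unfold al
  rw [QuotientGroup.eq, mul_one, inv_mem_iff]

theorem B_fix (Q : Subgroup G) {b : G} (hb : b ∈ Bq Q) : b • (al Q) = al Q := by
  unfold al
  rw [fix_iff]; simpa using hb

theorem mem_B_of_fix (Q : Subgroup G) {b : G} (hb : b • (al Q) = al Q) : b ∈ Bq Q := by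
  unfold al at hb
  rw [fix_iff] at hb; simpa using hb

theorem exists_to_al (Q : Subgroup G) (y : G ⧸ Bq Q) : ∃ g : G, g • y = al Q := by
  obtain ⟨a, rfl⟩ := QuotientGroup.mk_surjective y
  exact ⟨a⁻¹, by rw [smul_mk', inv_mul_cancel]; rfl⟩

namespace ZData

variable [Finite G] {Q D : Subgroup G}

theorem semireg (h : ZData Q D) {x : G} (hx : x ∈ Q) (hx1 : x ≠ 1) {y : G ⧸ Bq Q}
    (hy : x • y = y) : y = al Q := by
  obtain ⟨a, rfl⟩ := QuotientGroup.mk_surjective y
  rw [fix_iff] at hy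
  exact (mk_eq_al_iff Q a).mpr (h.fix_Q hx hx1 hy)

theorem card_Om (h : ZData Q D) : Nat.card (G ⧸ Bq Q) = Nat.card ↥Q + 1 := by
  rw [← Subgroup.index_eq_card]; exact h.index_B

theorem card_Q_ge (h : ZData Q D) : 3 ≤ Nat.card ↥Q := by
  have := h.card_D
  have := Nat.card_pos (α := ↥D)
  omega

theorem exists_ne_al (h : ZData Q D) : ∃ β : G ⧸ Bq Q, β ≠ al Q := by
  by_contra hcon
  push_neg at hcon
  haveI : Subsingleton (G ⧸ Bq Q) := ⟨fun a b => by rw [hcon a, hcon b]⟩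
  have h1 : Nat.card (G ⧸ Bq Q) ≤ 1 := Finite.card_le_one_iff_subsingleton.mpr inferInstance
  rw [h.card_Om] at h1
  have := h.card_Q_ge
  omega

theorem exists_Q_ne_one (h : ZData Q D) : ∃ x ∈ Q, x ≠ 1 := by
  by_contra hcon
  push_neg at hcon
  have h1 : Q = ⊥ := (Subgroup.eq_bot_iff_forall Q).mpr hcon
  have h2 : Nat.card ↥Q = 1 := by rw [h1]; exact Subgroup.card_bot
  have := h.card_Q_ge
  omega

theorem regular (h : ZData Q D) :
    ∀ y z : G ⧸ Bq Q, y ≠ al Q → z ≠ al Q → ∃! u : ↥Q, (u : G) • y = z := by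
  intro y z hy hz
  have hne : ∀ u : ↥Q, (u : G) • y ≠ al Q := by
    intro u hu
    apply hy
    have h1 : y = (u : G)⁻¹ • al Q := by rw [← hu, inv_smul_smul]
    rw [h1]; exact B_fix Q (inv_mem (h.Q_le u.2))
  obtain ⟨f, hf⟩ : ∃ f : ↥Q → {w : G ⧸ Bq Q // w ≠ al Q}, ∀ u, ((f u : {w : G ⧸ Bq Q // w ≠ al Q}) : G ⧸ Bq Q) = (u : G) • y :=
    ⟨fun u => ⟨(u : G) • y, hne u⟩, fun u => rfl⟩
  have hinj : Function.Injective f := by
    intro u u' huu
    have h1 : (u : G) • y = (u' : G) • y := by rw [← hf u, ← hf u', huu]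
    have h2 : ((u' : G)⁻¹ * (u : G)) • y = y := by rw [mul_smul, h1, inv_smul_smul]
    by_contra hne'
    have h3 : (u' : G)⁻¹ * (u : G) ≠ 1 := by
      intro h4
      apply hne'
      apply Subtype.ext
      calc (u : G) = (u' : G) * ((u' : G)⁻¹ * u) := by group
        _ = u' := by rw [h4, mul_one]
    exact hy (h.semireg (mul_mem (inv_mem u'.2) u.2) h3 h2)
  have hcard : Nat.card {w : G ⧸ Bq Q // w ≠ al Q} ≤ Nat.card ↥Q := by
    rw [Cfsg.Agent.Lib.Helper1.card_subtype_ne', h.card_Om]; omega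
  have hbij := hinj.bijective_of_nat_card_le hcard
  obtain ⟨u, hu⟩ := hbij.2 ⟨z, hz⟩
  have hu' : (u : G) • y = z := by rw [← hf u, hu]
  refine ⟨u, hu', ?_⟩
  intro u' hu''
  apply hinj
  apply Subtype.ext
  rw [hf u', hf u, hu'', hu']

theorem two_trans (h : ZData Q D) : MulAction.IsMultiplyPretransitive G (G ⧸ Bq Q) 2 := by
  rw [MulAction.is_two_pretransitive_iff]
  intro a b c d hab hcd
  obtain ⟨g₁, hg₁⟩ := exists_to_al Q a
  obtain ⟨g₂, hg₂⟩ := exists_to_al Q c
  have hb : g₁ • b ≠ al Q := by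
    rw [← hg₁]; intro h'; exact hab (smul_left_cancel g₁ h').symm
  have hd : g₂ • d ≠ al Q := by
    rw [← hg₂]; intro h'; exact hcd (smul_left_cancel g₂ h').symm
  obtain ⟨u, hu, -⟩ := h.regular (g₁ • b) (g₂ • d) hb hd
  refine ⟨g₂⁻¹ * (u : G) * g₁, ?_, ?_⟩
  · rw [mul_smul, mul_smul, hg₁, B_fix Q (h.Q_le u.2), ← hg₂, inv_smul_smul]
  · rw [mul_smul, mul_smul, hu, inv_smul_smul]

theorem faithful [IsSimpleGroup G] (h : ZData Q D) : FaithfulSMul G (G ⧸ Bq Q) := by
  constructor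
  intro g₁ g₂ hg
  obtain ⟨φ, hφ⟩ : ∃ φ : G →* Equiv.Perm (G ⧸ Bq Q), φ = MulAction.toPermHom G (G ⧸ Bq Q) :=
    ⟨_, rfl⟩
  have hφa : ∀ (g : G) (a : G ⧸ Bq Q), φ g a = g • a := by
    intro g a; rw [hφ]; rfl
  have hker : φ.ker = ⊥ := by
    rcases Subgroup.Normal.eq_bot_or_eq_top (inferInstance : φ.ker.Normal) with h1 | h1
    · exact h1
    · exfalso
      have hB : Bq Q = ⊤ := by
        rw [eq_top_iff]
        intro g _
        have hgk : g ∈ φ.ker := by rw [h1]; trivial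
        have h2 : φ g = 1 := MonoidHom.mem_ker.mp hgk
        have h3 : g • al Q = al Q := by
          rw [← hφa, h2]; rfl
        exact mem_B_of_fix Q h3
      have h4 := h.index_B
      have hB' : Subgroup.normalizer (Q : Set G) = ⊤ := hB
      rw [hB', Subgroup.index_top] at h4
      have := h.card_Q_ge
      omega
  have h4 : g₂⁻¹ * g₁ ∈ φ.ker := by
    rw [MonoidHom.mem_ker]
    ext a
    rw [hφa, mul_smul, hg a, inv_smul_smul]; rfl
  rw [hker, Subgroup.mem_bot] at h4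
  calc g₁ = g₂ * (g₂⁻¹ * g₁) := by group
    _ = g₂ := by rw [h4, mul_one]

theorem three_fix (h : ZData Q D) : ∀ g : G, ∀ a b c : G ⧸ Bq Q, a ≠ b → b ≠ c → a ≠ c →
    g • a = a → g • b = b → g • c = c → g = 1 := by
  intro g a b c hab hbc hac ha hb hc
  obtain ⟨k, hk⟩ := exists_to_al Q a
  obtain ⟨g', hg'⟩ : ∃ g', g' = k * g * k⁻¹ := ⟨_, rfl⟩
  have fix' : ∀ y : G ⧸ Bq Q, g • y = y → g' • (k • y) = k • y := by
    intro y hy
    rw [hg', mul_smul, mul_smul, inv_smul_smul, hy]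
  have h1 : g' • al Q = al Q := by rw [← hk]; exact fix' a ha
  have hg'B : g' ∈ Bq Q := mem_B_of_fix Q h1
  have hβ : k • b ≠ al Q := by
    rw [← hk]; intro h'; exact hab (smul_left_cancel k h').symm
  have hγ : k • c ≠ al Q := by
    rw [← hk]; intro h'; exact hac (smul_left_cancel k h').symm
  have hβγ : k • b ≠ k • c := fun h' => hbc (smul_left_cancel k h')
  obtain ⟨u, hu, huniq⟩ := h.regular (k • b) (k • c) hβ hγ
  have hu1 : (u : G) ≠ 1 := by
    intro h'; rw [h', one_smul] at hu; exact hβγ hu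
  have hvQ : g' * u * g'⁻¹ ∈ Q := (Subgroup.mem_normalizer_iff.mp hg'B u).mp u.2
  have hv : (g' * u * g'⁻¹) • (k • b) = k • c := by
    rw [mul_smul, mul_smul]
    have h2 : g'⁻¹ • (k • b) = k • b := by
      rw [inv_smul_eq_iff]; exact (fix' b hb).symm
    rw [h2, hu]; exact fix' c hc
  have e2 := huniq ⟨_, hvQ⟩ hv
  have e3 : g' * u * g'⁻¹ = u := congrArg Subtype.val e2
  have hg'Q : g' ∈ Q := by
    rw [← h.cent u u.2 hu1]
    apply mem_Hc.mpr
    calc g' * u = (g' * u * g'⁻¹) * g' := by group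
      _ = u * g' := by rw [e3]
  have hg'1 : g' = 1 := by
    by_contra hne
    exact hβ (h.semireg hg'Q hne (fix' b hb))
  calc g = k⁻¹ * (k * g * k⁻¹) * k := by group
    _ = 1 := by rw [← hg', hg'1]; group

theorem exists_two_fix (h : ZData Q D) (hD : D ≠ ⊥) :
    ∃ g : G, g ≠ 1 ∧ ∃ a b : G ⧸ Bq Q, a ≠ b ∧ g • a = a ∧ g • b = b := by
  obtain ⟨d', hd'⟩ := (Subgroup.ne_bot_iff_exists_ne_one).mp hD
  obtain ⟨d, hdD, hd1⟩ : ∃ d ∈ D, d ≠ 1 :=
    ⟨(d' : G), d'.2, fun h' => hd' (Subtype.ext h')⟩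
  obtain ⟨β, hβ⟩ := h.exists_ne_al
  have hdB : d ∈ Bq Q := h.D_le hdD
  have hβ' : d • β ≠ al Q := by
    intro h'
    apply hβ
    have h1 : β = d⁻¹ • al Q := by rw [← h', inv_smul_smul]
    rw [h1]; exact B_fix Q (inv_mem hdB)
  obtain ⟨u, hu, -⟩ := h.regular (d • β) β hβ' hβ
  refine ⟨(u : G) * d, ?_, al Q, β, fun h' => hβ h'.symm, ?_, ?_⟩
  · intro h'
    have h1 : d = (u : G)⁻¹ := eq_inv_of_mul_eq_one_right h'
    have hdQ : d ∈ Q := by rw [h1]; exact inv_mem u.2
    have h2 : d ∈ Q ⊓ D := Subgroup.mem_inf.mpr ⟨hdQ, hdD⟩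
    rw [h.disj] at h2
    exact hd1 (Subgroup.mem_bot.mp h2)
  · rw [mul_smul, B_fix Q hdB, B_fix Q (h.Q_le u.2)]
  · rw [mul_smul, hu]

theorem no_regular [IsSimpleGroup G] (h : ZData Q D) :
    ∀ N : Subgroup G, N.Normal → MulAction.IsPretransitive N (G ⧸ Bq Q) →
      ∃ a : G ⧸ Bq Q, MulAction.stabilizer N a ≠ ⊥ := by
  intro N hN hT
  obtain ⟨β, hβ⟩ := h.exists_ne_al
  rcases hN.eq_bot_or_eq_top with rfl | rfl
  · exfalso
    obtain ⟨g, hg⟩ := hT.exists_smul_eq (al Q) β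
    have h1 : (g : G) = 1 := Subgroup.mem_bot.mp g.2
    have h2 : (g : G) • al Q = β := hg
    rw [h1, one_smul] at h2
    exact hβ h2.symm
  · refine ⟨al Q, ?_⟩
    obtain ⟨x, hxQ, hx1⟩ := h.exists_Q_ne_one
    intro hbot
    have hmem : (⟨x, Subgroup.mem_top x⟩ : (⊤ : Subgroup G)) ∈
        MulAction.stabilizer (⊤ : Subgroup G) (al Q) := by
      rw [MulAction.mem_stabilizer_iff]
      exact B_fix Q (h.Q_le hxQ)
    rw [hbot, Subgroup.mem_bot] at hmem
    exact hx1 (congrArg Subtype.val hmem)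

theorem D_ne_bot [IsSimpleGroup G] (h : ZData Q D) : D ≠ ⊥ := by
  intro hD
  have hd : Nat.card ↥D = 1 := by rw [hD]; exact Subgroup.card_bot
  have hq : Nat.card ↥Q = 3 := by have := h.card_D; omega
  have hG : Nat.card G = 12 := by
    have := h.card_G'
    rw [hq, hd] at this
    omega
  haveI : Fact (Nat.Prime 3) := ⟨Nat.prime_three⟩
  have hfac : (12 : ℕ).factorization 3 = 1 := by
    have h12 : (12 : ℕ) = 3 * 4 := by norm_num
    rw [h12, Nat.factorization_mul (by norm_num) (by norm_num)]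
    simp [Nat.Prime.factorization_self Nat.prime_three,
      Nat.factorization_eq_zero_of_not_dvd (show ¬ 3 ∣ 4 by norm_num)]
  obtain ⟨P, hP⟩ : ∃ P : Sylow 3 G, (P : Subgroup G) = Q :=
    ⟨Sylow.ofCard Q (by rw [hG, hfac, hq]; norm_num), rfl⟩
  have hN : Subgroup.normalizer ((P : Subgroup G) : Set G) ≤
      Subgroup.centralizer ((P : Subgroup G) : Set G) := by
    rw [hP, h.norm, hD, sup_bot_eq]
    intro a ha
    rw [Subgroup.mem_centralizer_iff]
    intro b hb
    exact h.Q_comm b hb a ha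
  rcases Cfsg.Agent.Lib.Lead.SmallSimple2.burnside_simple P hN with h1 | h1
  · rw [hP, hG, hq] at h1; omega
  · rw [hP, hq] at h1; omega

theorem zassenhaus [IsSimpleGroup G] (h : ZData Q D) : Cfsg.IsZassenhausGroup G (G ⧸ Bq Q) :=
  ⟨h.faithful, h.two_trans, h.three_fix, h.exists_two_fix h.D_ne_bot, h.no_regular⟩

/-- the final identification. -/
theorem psl [IsSimpleGroup G] (h : ZData Q D) :
    ∃ (F : Type) (_ : Field F) (_ : Fintype F), Odd (Fintype.card F) ∧
      Nonempty (G ≃* Matrix.ProjectiveSpecialLinearGroup (Fin 2) F) := by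
  have hZ := h.zassenhaus
  have hstab : MulAction.stabilizer G (al Q) = Bq Q := MulAction.stabilizer_quotient (Bq Q)
  have hFle : Q ≤ MulAction.stabilizer G (al Q) := by rw [hstab]; exact h.Q_le
  have hFn : (Q.subgroupOf (MulAction.stabilizer G (al Q))).Normal := by
    rw [hstab]; exact Subgroup.normal_in_normalizer
  have hFab : IsMulCommutative ↥Q := ⟨⟨fun a b => Subtype.ext (h.Q_comm a a.2 b b.2)⟩⟩
  rcases Cfsg.Agent.S0731.result hZ (al Q) Q hFle hFn hFab h.regular with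
    h3 | ⟨K, iF, iFt, hchar, hiso⟩
  · exfalso
    obtain ⟨h3t, h3s⟩ := h3
    classical
    haveI : Fintype (G ⧸ Bq Q) := Fintype.ofFinite _
    have hcardΩ : Fintype.card (G ⧸ Bq Q) = Nat.card ↥Q + 1 := by
      rw [← Nat.card_eq_fintype_card]; exact h.card_Om
    have hne : Nonempty (Fin 3 ↪ G ⧸ Bq Q) :=
      Function.Embedding.nonempty_of_card_le (by
        rw [Fintype.card_fin, hcardΩ]; have := h.card_Q_ge; omega)
    obtain ⟨e⟩ := hne
    have hbij : Function.Bijective (fun g : G => g • e) := by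
      constructor
      · intro g g' hgg
        have hgg' : g • e = g' • e := hgg
        have h1 : g'⁻¹ * g ∈ MulAction.stabilizer G e := by
          rw [MulAction.mem_stabilizer_iff, mul_smul, hgg', inv_smul_smul]
        rw [h3s e, Subgroup.mem_bot] at h1
        calc g = g' * (g'⁻¹ * g) := by group
          _ = g' := by rw [h1, mul_one]
      · intro e'
        exact h3t.exists_smul_eq e e'
    have hcard : Nat.card G = Nat.card (Fin 3 ↪ G ⧸ Bq Q) :=
      Nat.card_congr (Equiv.ofBijective _ hbij)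
    rw [Nat.card_eq_fintype_card (α := Fin 3 ↪ G ⧸ Bq Q), Fintype.card_embedding_eq,
      Fintype.card_fin, hcardΩ, Nat.descFactorial_succ, Nat.descFactorial_succ,
      Nat.descFactorial_succ, Nat.descFactorial_zero] at hcard
    have e1 : Nat.card ↥Q + 1 - 2 = Nat.card ↥Q - 1 := by omega
    have e2 : Nat.card ↥Q + 1 - 1 = Nat.card ↥Q := by omega
    have e3 : Nat.card ↥Q + 1 - 0 = Nat.card ↥Q + 1 := by omega
    rw [e1, e2, e3] at hcard
    have e4 : Nat.card ↥Q * (Nat.card ↥Q + 1) * (Nat.card ↥Q - 1) = Nat.card G := by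
      rw [hcard]; ring
    have e5 := h.card_G
    rw [e4] at e5
    have := Nat.card_pos (α := G)
    omega
  · refine ⟨K, iF, iFt, ?_, hiso⟩
    letI := iF
    letI := iFt
    obtain ⟨n, hp, hn⟩ := FiniteField.card K (ringChar K)
    rw [hn]
    exact Odd.pow (hp.odd_of_ne_two hchar)

end ZData

end Cfsg.Agent.Lib.Helper1.Bsd
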