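import Mathlib
import Cfsg.Prelude.Def_CaseTheorems
import Cfsg.Agent.Lib.Helper1.Bsd4
import Cfsg.Agent.Lib.Helper1.Bsd6

/-!
# S0508 (Brauer–Suzuki–Wall, dihedral form), part 7: assembly modulo S3282
-/

set_option autoImplicit false
set_option maxHeartbeats 4000000
set_option maxRecDepth 100000
set_option linter.unusedVariables false
set_option linter.unusedSectionVars false
set_option linter.style.longLine false
set_option linter.unusedSimpArgs false
set_option linter.deprecated false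

namespace Cfsg.Agent.Lib.Helper1.Bsd

variable {G : Type*} [Group G]

/-- S0508, given the abstract Brauer–Suzuki–Wall theorem (S3282) for `G`. -/
theorem main_of_bsw [Finite G] [IsSimpleGroup G]
    (hBSW : ∀ (t : G) (K : Subgroup G) (s : G), Cfsg.Agent.Lib.Helper7.Bsw.Hyp t K s →
      Cfsg.Agent.Lib.Helper7.Bsw.Concl G)
    (S : Sylow 2 G) (n : ℕ)
    (hn : 2 ≤ n) (hS : Nonempty ((S : Subgroup G) ≃* DihedralGroup n)) (t : G) (ht : orderOf t = 2)
    (htS : t ∈ (S : Subgroup G))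
    (htZ : ∀ s ∈ (S : Subgroup G), s * t = t * s) (O : Subgroup G)
    (hO : O = (Cfsg.oddCore (Subgroup.centralizer ({t} : Set G))).map (Subgroup.centralizer ({t} : Set G)).subtype)
    (ha : O ≠ ⊥ → IsCyclic ((S : Subgroup G) ⊓ Subgroup.centralizer (O : Set G) : Subgroup G) ∧
      ((S : Subgroup G) ⊓ Subgroup.centralizer (O : Set G)).relIndex (S : Subgroup G) = 2)
    (hb : ∀ s ∈ (S : Subgroup G), s ∉ Subgroup.centralizer (O : Set G) → ∀ y ∈ O, s * y * s⁻¹ = y⁻¹)
    (hc : ∀ Y : Subgroup G, Y ≤ O → Y ≠ ⊥ → Subgroup.normalizer (Y : Set G) ≤ Subgroup.centralizer ({t} : Set G)) :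
    ∃ (F : Type) (_ : Field F) (_ : Fintype F), Odd (Fintype.card F) ∧
      Nonempty (G ≃* Matrix.ProjectiveSpecialLinearGroup (Fin 2) F) := by
  obtain ⟨K, s, hyp⟩ := exists_hyp S n hn hS t ht htS htZ O hO ha hb hc
  obtain ⟨Q, D, c1, c2, c3, c4, c5, c6, c7⟩ := hBSW t K s hyp
  have z : ZData Q D := ⟨c1, c2, c4, c5, c6⟩
  exact z.psl

end Cfsg.Agent.Lib.Helper1.Bsd
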