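import Mathlib

set_option autoImplicit false
set_option maxHeartbeats 4000000
set_option maxRecDepth 100000
set_option linter.unusedVariables false
set_option linter.unusedSectionVars false
set_option linter.style.longLine false
set_option linter.unusedSimpArgs false
set_option linter.deprecated false

namespace Cfsg.Agent.Lib.Helper1.BswArith

lemma aux_opp (z1 z2 x : ℚ) (hz1 : 0 < z1) (hz2 : 0 < z2) (hx : 0 < x)
    (h1 : z1 - z2 = x) (h2 : z1⁻¹ - z2⁻¹ = 4 * x⁻¹) : False := by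
  have hne1 : z1 ≠ 0 := ne_of_gt hz1
  have hne2 : z2 ≠ 0 := ne_of_gt hz2
  have hnex : x ≠ 0 := ne_of_gt hx
  have h3 : (z1⁻¹ - z2⁻¹) * (z1 * z2 * x) = (z2 - z1) * x := by
    field_simp
  have h4 : (4 * x⁻¹) * (z1 * z2 * x) = 4 * (z1 * z2) := by
    field_simp
  rw [h2, h4] at h3
  subst h1
  nlinarith [mul_pos hz1 hz2, sq_nonneg (z1 - z2)]

lemma aux_eq (z1 z2 x : ℚ) (hz1 : 0 < z1) (hz2 : 0 < z2) (hx : 0 < x)
    (h1 : z1 + z2 = x) (h2 : z1⁻¹ + z2⁻¹ = 4 * x⁻¹) : z1 = z2 := by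
  have hne1 : z1 ≠ 0 := ne_of_gt hz1
  have hne2 : z2 ≠ 0 := ne_of_gt hz2
  have hnex : x ≠ 0 := ne_of_gt hx
  have h3 : (z1⁻¹ + z2⁻¹) * (z1 * z2 * x) = (z2 + z1) * x := by
    field_simp
  have h4 : (4 * x⁻¹) * (z1 * z2 * x) = 4 * (z1 * z2) := by
    field_simp
  rw [h2, h4] at h3
  subst h1
  have h5 : (z1 - z2) ^ 2 = 0 := by nlinarith
  have h6 : z1 - z2 = 0 := by
    rcases pow_eq_zero_iff (two_ne_zero) |>.mp h5 with h
    exact h
  linarith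

lemma core (k n y x z m : ℕ) (ε : ℤ) (hε : ε = 1 ∨ ε = -1) (hk : 4 ≤ k) (hn : 0 < n)
    (hy : 0 < y) (hx : 0 < x) (hz : 0 < z) (hxz : (x : ℤ) = 2 * z) (hyx : (x : ℤ) = y + ε)
    (hzm : (z : ℤ) = k * m + ε)
    (E1 : (1 : ℚ) + ε / y - 4 * ε / x = 2 * k ^ 2 / n) :
    m = 1 ∧ (n : ℤ) = (2 * k + ε) * (k + ε) := by
  have hy' : (y : ℚ) ≠ 0 := by exact_mod_cast (ne_of_gt hy)
  have hx' : (x : ℚ) ≠ 0 := by exact_mod_cast (ne_of_gt hx)
  have hn' : (n : ℚ) ≠ 0 := by exact_mod_cast (ne_of_gt hn)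
  have keyQ : (n : ℚ) * (x * y + ε * x - 4 * ε * y) = 2 * k ^ 2 * x * y := by
    have h3 : ((1 : ℚ) + ε / y - 4 * ε / x) * (n * x * y) = n * (x * y + ε * x - 4 * ε * y) := by
      field_simp
    have h4 : ((2 : ℚ) * k ^ 2 / n) * (n * x * y) = 2 * k ^ 2 * x * y := by
      field_simp
    rw [← h3, E1, h4]
  have key : (n : ℤ) * (x * y + ε * x - 4 * ε * y) = 2 * k ^ 2 * x * y := by
    exact_mod_cast keyQ
  have hε2 : ε * ε = 1 := by rcases hε with rfl | rfl <;> norm_num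
  have hyz : (y : ℤ) = 2 * k * m + ε := by linarith
  have hxz' : (x : ℤ) = 2 * k * m + 2 * ε := by linarith
  rw [hxz', hyz] at key
  have hkpos : (0 : ℤ) < k := by exact_mod_cast (by omega : 0 < k)
  have hk0 : (4 * (k : ℤ) ^ 2) ≠ 0 := by positivity
  have h2 : (n : ℤ) * m ^ 2 = (k * m + ε) * (2 * k * m + ε) := by
    apply mul_left_cancel₀ hk0
    linear_combination key
  have h3 : (m : ℤ) * (n * m - 2 * k ^ 2 * m - 3 * ε * k) = 1 := by
    linear_combination h2 + hε2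
  have hm : m = 1 := by
    have h4 : (m : ℤ) ∣ 1 := Dvd.intro _ h3
    have h5 : m ∣ 1 := by exact_mod_cast h4
    exact Nat.dvd_one.mp h5
  subst hm
  refine ⟨rfl, ?_⟩
  push_cast at h2
  linear_combination h2

theorem bsw_arith (k n y x z1 z2 nY nX m1 m2 : ℕ) (ε γ1 γ2 : ℤ) (hk : 4 ≤ k) (hn : 0 < n) (hy : 0 < y) (hx : 0 < x) (hz1 : 0 < z1) (hz2 : 0 < z2) (hε : ε = 1 ∨ ε = -1) (hγ1 : γ1 = 1 ∨ γ1 = -1) (hγ2 : γ2 = 1 ∨ γ2 = -1)
  (D1 : 1 + ε * y - ε * x = 0) (D0 : 1 + ε * y + γ1 * z1 + γ2 * z2 = 0)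
  (E1 : (1 : ℚ) + ε / y - 4 * ε / x = 2 * k ^ 2 / n) (E0 : (1 : ℚ) + ε / y + γ1 / z1 + γ2 / z2 = 2 * k ^ 2 / n)
  (Ry : (y : ℤ) = k * nY - (k - 1) * ε) (Rx : (x : ℤ) = k * nX + 2 * ε) (Rz1 : (z1 : ℤ) = k * m1 - γ1) (Rz2 : (z2 : ℤ) = k * m2 - γ2) :
  γ1 = -ε ∧ γ2 = -ε ∧ (n : ℤ) = (2 * k + ε) * (k + ε) ∧ (y : ℤ) = 2 * k + ε ∧ (x : ℤ) = 2 * k + 2 * ε ∧ (z1 : ℤ) = k + ε ∧ (z2 : ℤ) = k + ε := by
  have hyQ : (0 : ℚ) < y := by exact_mod_cast hy
  have hxQ : (0 : ℚ) < x := by exact_mod_cast hx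
  have hz1Q : (0 : ℚ) < z1 := by exact_mod_cast hz1
  have hz2Q : (0 : ℚ) < z2 := by exact_mod_cast hz2
  have hA : (γ1 : ℚ) * (z1 : ℚ)⁻¹ + γ2 * (z2 : ℚ)⁻¹ = -4 * ε * (x : ℚ)⁻¹ := by
    have e1 := E1
    have e0 := E0
    simp only [div_eq_mul_inv] at e1 e0
    linarith
  have hB : γ1 * z1 + γ2 * z2 = -ε * x := by linarith
  have hBQ : (γ1 : ℚ) * z1 + γ2 * z2 = -ε * x := by exact_mod_cast hB
  have hkpos : (0 : ℤ) < k := by exact_mod_cast (by omega : 0 < k)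
  -- the common ending, once γ1 = γ2 = -ε and z1 = z2 are known
  have fin : γ1 = -ε → γ2 = -ε → z1 = z2 →
      γ1 = -ε ∧ γ2 = -ε ∧ (n : ℤ) = (2 * k + ε) * (k + ε) ∧ (y : ℤ) = 2 * k + ε ∧ (x : ℤ) = 2 * k + 2 * ε ∧ (z1 : ℤ) = k + ε ∧ (z2 : ℤ) = k + ε := by
    intro h1 h2 h3
    subst h3
    have hε2 : ε * ε = 1 := by rcases hε with rfl | rfl <;> norm_num
    have hxz : (x : ℤ) = 2 * z1 := by
      rw [h1, h2] at hB
      have : ε * ((x : ℤ) - 2 * z1) = 0 := by linear_combination hB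
      have hε0 : ε ≠ 0 := by rcases hε with rfl | rfl <;> norm_num
      have := (mul_eq_zero.mp this).resolve_left hε0
      linarith
    have hyx : (x : ℤ) = y + ε := by
      have : ε * ((x : ℤ) - y - ε) = 0 := by linear_combination -D1 - hε2
      have hε0 : ε ≠ 0 := by rcases hε with rfl | rfl <;> norm_num
      have := (mul_eq_zero.mp this).resolve_left hε0
      linarith
    have hzm : (z1 : ℤ) = k * m1 + ε := by rw [Rz1, h1]; ring
    obtain ⟨hm, hnn⟩ := core k n y x z1 m1 ε hε hk hn hy hx hz1 hxz hyx hzm E1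
    subst hm
    push_cast at hzm
    refine ⟨h1, h2, hnn, ?_, ?_, ?_, ?_⟩ <;> linarith
  rcases hε with rfl | rfl <;> rcases hγ1 with rfl | rfl <;> rcases hγ2 with rfl | rfl
  · exfalso; push_cast at hB; omega
  · exfalso
    push_cast at hA hBQ
    exact aux_opp (z2 : ℚ) z1 x hz2Q hz1Q hxQ (by linarith) (by linarith)
  · exfalso
    push_cast at hA hBQ
    exact aux_opp (z1 : ℚ) z2 x hz1Q hz2Q hxQ (by linarith) (by linarith)
  · push_cast at hA hBQ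
    have := aux_eq (z1 : ℚ) z2 x hz1Q hz2Q hxQ (by linarith) (by linarith)
    exact fin rfl rfl (by exact_mod_cast this)
  · push_cast at hA hBQ
    have := aux_eq (z1 : ℚ) z2 x hz1Q hz2Q hxQ (by linarith) (by linarith)
    exact fin (by norm_num) (by norm_num) (by exact_mod_cast this)
  · exfalso
    push_cast at hA hBQ
    exact aux_opp (z1 : ℚ) z2 x hz1Q hz2Q hxQ (by linarith) (by linarith)
  · exfalso
    push_cast at hA hBQ
    exact aux_opp (z2 : ℚ) z1 x hz2Q hz1Q hxQ (by linarith) (by linarith)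
  · exfalso; push_cast at hB; omega

end Cfsg.Agent.Lib.Helper1.BswArith
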