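import Mathlib
import Cfsg.Agent.Lib.Helper2.ZS1
import Cfsg.Agent.Lib.Helper4.ConjClass

set_option autoImplicit false
set_option maxHeartbeats 4000000
set_option linter.unusedVariables false
set_option linter.unusedSectionVars false
set_option linter.style.longLine false
set_option linter.unusedSimpArgs false
set_option linter.deprecated false

/-! Groups with a self-centralizing four-group `C(x)` all of whose involutions are conjugate:
basic structure (all involutions conjugate, centralizers of odd elements, inversion). -/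

namespace Cfsg.Agent.Lib.Helper1.Dv

open Subgroup

section fpf

variable {G : Type*} [Group G]

/-- a fixed-point-free involution acting on a finite subgroup inverts it -/
theorem fpf_inverts (N : Subgroup G) [Finite N] (s : G) (hs2 : s * s = 1)
    (hnorm : ∀ n ∈ N, s * n * s⁻¹ ∈ N) (hfix : ∀ n ∈ N, s * n = n * s → n = 1) :
    ∀ n ∈ N, s * n * s⁻¹ = n⁻¹ := by
  have hsinv : s⁻¹ = s := inv_eq_of_mul_eq_one_left hs2
  let f : N → N := fun c => ⟨(c : G)⁻¹ * (s * c * s⁻¹), N.mul_mem (N.inv_mem c.2) (hnorm c c.2)⟩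
  have hinj : Function.Injective f := by
    intro c d hcd
    have h1 : (c : G)⁻¹ * (s * c * s⁻¹) = (d : G)⁻¹ * (s * d * s⁻¹) := congrArg Subtype.val hcd
    have h2 : (c : G)⁻¹ * s * c = (d : G)⁻¹ * s * d := by
      calc (c : G)⁻¹ * s * c = ((c : G)⁻¹ * (s * c * s⁻¹)) * s := by group
        _ = ((d : G)⁻¹ * (s * d * s⁻¹)) * s := by rw [h1]
        _ = (d : G)⁻¹ * s * d := by group
    have he : s * ((d : G) * (c : G)⁻¹) = ((d : G) * (c : G)⁻¹) * s := by
      calc s * ((d : G) * (c : G)⁻¹) = (d : G) * ((d : G)⁻¹ * s * d) * (c : G)⁻¹ := by group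
        _ = (d : G) * ((c : G)⁻¹ * s * c) * (c : G)⁻¹ := by rw [h2]
        _ = ((d : G) * (c : G)⁻¹) * s := by group
    have h3 := hfix _ (N.mul_mem d.2 (N.inv_mem c.2)) he
    apply Subtype.ext
    exact (mul_inv_eq_one.mp h3).symm
  have hsurj := Finite.injective_iff_surjective.mp hinj
  intro n hn
  obtain ⟨d, hd⟩ := hsurj ⟨n, hn⟩
  have hd' : (d : G)⁻¹ * (s * d * s⁻¹) = n := congrArg Subtype.val hd
  rw [← hd', hsinv]
  calc s * ((d : G)⁻¹ * (s * d * s)) * s = s * (d : G)⁻¹ * s * d * (s * s) := by group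
    _ = s * (d : G)⁻¹ * s * d := by rw [hs2, mul_one]
    _ = s⁻¹ * (d : G)⁻¹ * s⁻¹ * d := by rw [hsinv]
    _ = ((d : G)⁻¹ * (s * d * s))⁻¹ := by group

end fpf

/-- the hypothesis: `x` is an involution whose centralizer is a four-group, all of whose
involutions are conjugate to `x` -/
structure V4Hyp {K : Type*} [Group K] (x : K) : Prop where
  ord : orderOf x = 2
  card4 : Nat.card (centralizer ({x} : Set K)) = 4
  exp2 : ∀ c ∈ centralizer ({x} : Set K), c * c = 1
  conj : ∀ v ∈ centralizer ({x} : Set K), v ≠ 1 → IsConj x v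

variable {K : Type*} [Group K]

theorem mem_cent {x c : K} : c ∈ centralizer ({x} : Set K) ↔ c * x = x * c :=
  mem_centralizer_singleton_iff

theorem sq_of_order_two {t : K} (ht : orderOf t = 2) : t * t = 1 := by
  rw [← pow_two, ← ht]; exact pow_orderOf_eq_one t

theorem inv_of_order_two {t : K} (ht : orderOf t = 2) : t⁻¹ = t :=
  inv_eq_of_mul_eq_one_left (sq_of_order_two ht)

theorem ne_one_of_order_two {t : K} (ht : orderOf t = 2) : t ≠ 1 := by
  rintro rfl; simp at ht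

theorem order_two_of_sq {t : K} (h1 : t * t = 1) (h2 : t ≠ 1) : orderOf t = 2 := by
  haveI : Fact (Nat.Prime 2) := ⟨Nat.prime_two⟩
  exact orderOf_eq_prime (by rw [pow_two]; exact h1) h2

theorem conj_mem_cent {x c : K} (g : K) (hc : c ∈ centralizer ({g * x * g⁻¹} : Set K)) :
    g⁻¹ * c * g ∈ centralizer ({x} : Set K) := by
  rw [mem_cent] at hc ⊢
  calc g⁻¹ * c * g * x = g⁻¹ * (c * (g * x * g⁻¹)) * g := by group
    _ = g⁻¹ * ((g * x * g⁻¹) * c) * g := by rw [hc]
    _ = x * (g⁻¹ * c * g) := by group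

theorem V4Hyp.transport {x : K} (h : V4Hyp x) (g : K) : V4Hyp (g * x * g⁻¹) := by
  refine ⟨?_, ?_, ?_, ?_⟩
  · have := orderOf_injective (MulAut.conj g).toMonoidHom (MulAut.conj g).injective x
    rw [← h.ord, ← this]; rfl
  · rw [← Cfsg.Agent.Lib.Helper4.card_centralizer_eq_of_isConj (isConj_iff.mpr ⟨g, rfl⟩)]
    exact h.card4
  · intro c hc
    have := h.exp2 _ (conj_mem_cent g hc)
    calc c * c = g * ((g⁻¹ * c * g) * (g⁻¹ * c * g)) * g⁻¹ := by group
      _ = 1 := by rw [this]; group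
  · intro v hv hv1
    have hne : g⁻¹ * v * g ≠ 1 := by
      intro h0; apply hv1
      calc v = g * (g⁻¹ * v * g) * g⁻¹ := by group
        _ = 1 := by rw [h0]; group
    have h1 : IsConj x (g⁻¹ * v * g) := h.conj _ (conj_mem_cent g hv) hne
    have h2 : IsConj (g * x * g⁻¹) x := (isConj_iff.mpr ⟨g, rfl⟩).symm
    have h3 : IsConj (g⁻¹ * v * g) v := isConj_iff.mpr ⟨g, by group⟩
    exact (h2.trans h1).trans h3

theorem V4Hyp.of_isConj {x t : K} (h : V4Hyp x) (ht : IsConj x t) : V4Hyp t := by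
  obtain ⟨g, rfl⟩ := isConj_iff.mp ht
  exact h.transport g

/-- all involutions are conjugate to `x` -/
theorem V4Hyp.all_conj [Finite K] {x : K} (h : V4Hyp x) {t : K} (ht : orderOf t = 2) :
    IsConj x t := by
  by_contra hc
  have hev := Cfsg.Agent.Lib.Helper2.ZS.even_orderOf_mul_of_not_isConj h.ord ht hc
  have hy0 : orderOf (x * t) ≠ 0 := (orderOf_pos (x * t)).ne'
  have hwo : orderOf ((x * t) ^ (orderOf (x * t) / 2)) = 2 :=
    orderOf_pow_orderOf_div hy0 hev.two_dvd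
  have hxx := sq_of_order_two h.ord
  have htt := sq_of_order_two ht
  have hxi := inv_of_order_two h.ord
  have hti := inv_of_order_two ht
  have hxy : x * (x * t) * x⁻¹ = (x * t)⁻¹ := by
    rw [hxi]
    calc x * (x * t) * x = (x * x) * t * x := by group
      _ = t * x := by rw [hxx, one_mul]
      _ = t⁻¹ * x⁻¹ := by rw [hti, hxi]
      _ = (x * t)⁻¹ := by group
  have hty : t * (x * t) * t⁻¹ = (x * t)⁻¹ := by
    calc t * (x * t) * t⁻¹ = t * x := by group
      _ = t⁻¹ * x⁻¹ := by rw [hti, hxi]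
      _ = (x * t)⁻¹ := by group
  set w := (x * t) ^ (orderOf (x * t) / 2) with hw
  have hwi := inv_of_order_two hwo
  have hxw : x * w * x⁻¹ = w := by
    rw [hw, ← conj_pow, hxy, inv_pow, ← hw, hwi]
  have htw : t * w * t⁻¹ = w := by
    rw [hw, ← conj_pow, hty, inv_pow, ← hw, hwi]
  have hxwc : w * x = x * w := by
    calc w * x = (x * w * x⁻¹) * x := by rw [hxw]
      _ = x * w := by group
  have htwc : t * w = w * t := by
    calc t * w = (t * w * t⁻¹) * t := by group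
      _ = w * t := by rw [htw]
  have hw1 := ne_one_of_order_two hwo
  have hcw : IsConj x w := h.conj w (mem_cent.mpr hxwc) hw1
  have hW : V4Hyp w := h.of_isConj hcw
  have ht1 := ne_one_of_order_two ht
  have : IsConj w t := hW.conj t (mem_cent.mpr htwc) ht1
  exact hc (hcw.trans this)

theorem V4Hyp.of_invol [Finite K] {x : K} (h : V4Hyp x) {t : K} (ht : orderOf t = 2) :
    V4Hyp t := h.of_isConj (h.all_conj ht)

theorem V4Hyp.sq_of_comm [Finite K] {x : K} (h : V4Hyp x) {t y : K} (ht : orderOf t = 2)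
    (hty : y * t = t * y) : y * y = 1 :=
  (h.of_invol ht).exp2 y (mem_cent.mpr hty)

theorem V4Hyp.sq_of_even [Finite K] {x : K} (h : V4Hyp x) {y : K} (hy : Even (orderOf y)) :
    y * y = 1 := by
  have hy0 : orderOf y ≠ 0 := (orderOf_pos y).ne'
  have hwo : orderOf (y ^ (orderOf y / 2)) = 2 := orderOf_pow_orderOf_div hy0 hy.two_dvd
  exact h.sq_of_comm hwo ((Commute.refl y).pow_right _).eq

theorem V4Hyp.odd_of_sq_ne [Finite K] {x : K} (h : V4Hyp x) {y : K} (hy : y * y ≠ 1) :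
    Odd (orderOf y) := by
  rw [← Nat.not_even_iff_odd]; intro he; exact hy (h.sq_of_even he)

theorem V4Hyp.no_comm [Finite K] {x : K} (h : V4Hyp x) {y t : K} (hy : y * y ≠ 1)
    (ht : orderOf t = 2) : y * t ≠ t * y :=
  fun hc => hy (h.sq_of_comm ht hc)

theorem V4Hyp.odd_card_cent [Finite K] {x : K} (h : V4Hyp x) {y : K} (hy : y * y ≠ 1) :
    Odd (Nat.card (centralizer ({y} : Set K))) := by
  rw [← Nat.not_even_iff_odd]; intro he
  haveI : Fact (Nat.Prime 2) := ⟨Nat.prime_two⟩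
  obtain ⟨t, ht⟩ := exists_prime_orderOf_dvd_card' 2 he.two_dvd
  have ht' : orderOf (t : K) = 2 := by rw [Subgroup.orderOf_coe]; exact ht
  exact h.no_comm hy ht' (mem_cent.mp t.2).symm

theorem V4Hyp.inverts_of_normalizes [Finite K] {x : K} (h : V4Hyp x) {y e : K}
    (hy : y * y ≠ 1) (he : orderOf e = 2)
    (hnorm : ∀ c ∈ centralizer ({y} : Set K), e * c * e⁻¹ ∈ centralizer ({y} : Set K)) :
    ∀ c ∈ centralizer ({y} : Set K), e * c * e⁻¹ = c⁻¹ := by
  apply fpf_inverts _ e (sq_of_order_two he) hnorm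
  intro n hn hcomm
  by_contra hn1
  have hnn : n * n = 1 := h.sq_of_comm he hcomm.symm
  have hno : orderOf n = 2 := order_two_of_sq hnn hn1
  exact h.no_comm hy hno (mem_cent.mp hn).symm

theorem norm_of_inverts {y s : K} (hinv : s * y * s⁻¹ = y⁻¹) :
    ∀ c ∈ centralizer ({y} : Set K), s * c * s⁻¹ ∈ centralizer ({y} : Set K) := by
  intro c hc
  rw [mem_cent] at hc ⊢
  have h1 : s * y⁻¹ * s⁻¹ = y := by
    calc s * y⁻¹ * s⁻¹ = (s * y * s⁻¹)⁻¹ := by group
      _ = y := by rw [hinv, inv_inv]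
  have hcy : c * y⁻¹ = y⁻¹ * c := by
    calc c * y⁻¹ = y⁻¹ * (y * c) * y⁻¹ := by group
      _ = y⁻¹ * (c * y) * y⁻¹ := by rw [hc]
      _ = y⁻¹ * c := by group
  calc s * c * s⁻¹ * y = s * c * s⁻¹ * (s * y⁻¹ * s⁻¹) := by rw [h1]
    _ = s * (c * y⁻¹) * s⁻¹ := by group
    _ = s * (y⁻¹ * c) * s⁻¹ := by rw [hcy]
    _ = (s * y⁻¹ * s⁻¹) * (s * c * s⁻¹) := by group
    _ = y * (s * c * s⁻¹) := by rw [h1]

theorem V4Hyp.inverts_cent [Finite K] {x : K} (h : V4Hyp x) {y s : K}
    (hy : y * y ≠ 1) (hs : orderOf s = 2) (hinv : s * y * s⁻¹ = y⁻¹) :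
    ∀ c ∈ centralizer ({y} : Set K), s * c * s⁻¹ = c⁻¹ :=
  h.inverts_of_normalizes hy hs (norm_of_inverts hinv)

theorem V4Hyp.cent_comm [Finite K] {x : K} (h : V4Hyp x) {y s : K}
    (hy : y * y ≠ 1) (hs : orderOf s = 2) (hinv : s * y * s⁻¹ = y⁻¹)
    {a b : K} (ha : a ∈ centralizer ({y} : Set K)) (hb : b ∈ centralizer ({y} : Set K)) :
    a * b = b * a := by
  have hI := h.inverts_cent hy hs hinv
  have h1 := hI a ha
  have h2 := hI b hb
  have h3 := hI (a * b) (mul_mem ha hb)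
  have h4 : a⁻¹ * b⁻¹ = b⁻¹ * a⁻¹ := by
    calc a⁻¹ * b⁻¹ = (s * a * s⁻¹) * (s * b * s⁻¹) := by rw [h1, h2]
      _ = s * (a * b) * s⁻¹ := by group
      _ = (a * b)⁻¹ := h3
      _ = b⁻¹ * a⁻¹ := by group
  have h5 : b * a = a * b := by simpa using congrArg (·⁻¹) h4
  exact h5.symm

theorem V4Hyp.cent_eq [Finite K] {x : K} (h : V4Hyp x) {y s : K}
    (hy : y * y ≠ 1) (hs : orderOf s = 2) (hinv : s * y * s⁻¹ = y⁻¹)
    {y' : K} (hy' : y' ∈ centralizer ({y} : Set K)) (hne : y' ≠ 1) :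
    y' * y' ≠ 1 ∧ s * y' * s⁻¹ = y'⁻¹ ∧
      centralizer ({y'} : Set K) = centralizer ({y} : Set K) := by
  have hsq : y' * y' ≠ 1 := by
    intro h0
    exact h.no_comm hy (order_two_of_sq h0 hne) (mem_cent.mp hy').symm
  have hinv' := h.inverts_cent hy hs hinv y' hy'
  refine ⟨hsq, hinv', ?_⟩
  ext c
  constructor
  · intro hc
    have hyy' : y ∈ centralizer ({y'} : Set K) := mem_cent.mpr (mem_cent.mp hy').symm
    exact mem_cent.mpr (h.cent_comm hsq hs hinv' hc hyy')
  · intro hc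
    exact mem_cent.mpr (h.cent_comm hy hs hinv hc hy')

end Cfsg.Agent.Lib.Helper1.Dv
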