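import Mathlib
import Cfsg.Agent.Lib.Helper7.BswDefs
import Cfsg.Agent.Lib.Helper1.Dv1
import Cfsg.Agent.Lib.Helper4.ConjClass

set_option autoImplicit false
set_option maxHeartbeats 4000000
set_option maxRecDepth 100000
set_option linter.unusedVariables false
set_option linter.unusedSectionVars false
set_option linter.style.longLine false
set_option linter.unusedSimpArgs false
set_option linter.deprecated false

/-! Brauer–Suzuki–Wall (abstract form), Part E1: the structure of `H = C(t) = K⟨s⟩` and the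
first consequences of the TI-hypothesis. -/

namespace Cfsg.Agent.Lib.Helper1.BswE

open Subgroup Cfsg.Agent.Lib.Helper7.Bsw

variable {G : Type*} [Group G] {t s : G} {K : Subgroup G}

theorem s_sq (h : Hyp t K s) : s * s = 1 := Dv.sq_of_order_two h.hs
theorem s_inv (h : Hyp t K s) : s⁻¹ = s := Dv.inv_of_order_two h.hs
theorem s_ne_one (h : Hyp t K s) : s ≠ 1 := Dv.ne_one_of_order_two h.hs
theorem t_sq (h : Hyp t K s) : t * t = 1 := Dv.sq_of_order_two h.ht
theorem t_inv (h : Hyp t K s) : t⁻¹ = t := Dv.inv_of_order_two h.ht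
theorem t_ne_one (h : Hyp t K s) : t ≠ 1 := Dv.ne_one_of_order_two h.ht

theorem K_comm (h : Hyp t K s) {a b : G} (ha : a ∈ K) (hb : b ∈ K) : a * b = b * a :=
  congrArg Subtype.val (h.hKab.is_comm.comm ⟨a, ha⟩ ⟨b, hb⟩)

/-- `s x s = x⁻¹` for `x ∈ K` -/
theorem s_conj (h : Hyp t K s) {x : G} (hx : x ∈ K) : s * x * s = x⁻¹ := by
  have := h.hinv x hx
  rwa [s_inv h] at this

theorem K_ne_bot (h : Hyp t K s) : K ≠ ⊥ := by
  intro hK
  have := h.htK
  rw [hK, mem_bot] at this
  exact t_ne_one h this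

/-- the subgroup `K ∪ Ks` -/
def Lsub (h : Hyp t K s) : Subgroup G where
  carrier := {x | x ∈ K ∨ x * s ∈ K}
  one_mem' := Or.inl K.one_mem
  mul_mem' := by
    intro a b ha hb
    rcases ha with ha | ha <;> rcases hb with hb | hb
    · exact Or.inl (K.mul_mem ha hb)
    · right
      have : a * b * s = a * (b * s) := by group
      rw [this]; exact K.mul_mem ha hb
    · right
      have e1 : a * b * s = (a * s) * (s * b * s) := by
        calc a * b * s = a * 1 * b * s := by group
          _ = a * (s * s) * b * s := by rw [s_sq h]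
          _ = (a * s) * (s * b * s) := by group
      rw [e1, s_conj h hb]
      exact K.mul_mem ha (K.inv_mem hb)
    · left
      have e1 : a * b = (a * s) * (s * (b * s) * s) := by
        calc a * b = a * 1 * b * 1 := by group
          _ = a * (s * s) * b * (s * s) := by rw [s_sq h]
          _ = (a * s) * (s * (b * s) * s) := by group
      rw [e1, s_conj h hb]
      exact K.mul_mem ha (K.inv_mem hb)
  inv_mem' := by
    intro a ha
    rcases ha with ha | ha
    · exact Or.inl (K.inv_mem ha)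
    · right
      have e1 : a⁻¹ * s = s * (a * s)⁻¹ * s := by
        calc a⁻¹ * s = 1 * a⁻¹ * s := by group
          _ = (s * s) * a⁻¹ * s := by rw [s_sq h]
          _ = s * (s⁻¹)⁻¹ * a⁻¹ * s := by group
          _ = s * (a * s)⁻¹ * s := by rw [s_inv h]; group
      rw [e1, s_conj h (K.inv_mem ha), inv_inv]
      exact ha

theorem mem_Lsub (h : Hyp t K s) {x : G} : x ∈ Lsub h ↔ x ∈ K ∨ x * s ∈ K := Iff.rfl

/-- every element of `H` lies in `K` or in `Ks` -/
theorem mem_H_cases (h : Hyp t K s) {x : G} (hx : x ∈ centralizer ({t} : Set G)) :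
    x ∈ K ∨ x * s ∈ K := by
  rw [← h.hH] at hx
  have hle : K ⊔ zpowers s ≤ Lsub h := by
    apply sup_le
    · intro y hy; exact Or.inl hy
    · rw [zpowers_le]
      right
      rw [s_sq h]; exact K.one_mem
  exact hle hx

theorem K_le_H (h : Hyp t K s) : K ≤ centralizer ({t} : Set G) := h.hKH

theorem s_mem_H (h : Hyp t K s) : s ∈ centralizer ({t} : Set G) := h.hsH

/-- (E3) the elements of `H ∖ K` are involutions -/
theorem order_two_of_not_mem (h : Hyp t K s) {x : G} (hx : x ∈ centralizer ({t} : Set G))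
    (hxK : x ∉ K) : orderOf x = 2 := by
  rcases mem_H_cases h hx with h1 | h1
  · exact absurd h1 hxK
  · apply Dv.order_two_of_sq
    · have e1 : x * x = (x * s) * (s * (x * s) * s) := by
        calc x * x = x * 1 * x * 1 := by group
          _ = x * (s * s) * x * (s * s) := by rw [s_sq h]
          _ = (x * s) * (s * (x * s) * s) := by group
      rw [e1, s_conj h h1, mul_inv_cancel]
    · intro h0; apply hxK; rw [h0]; exact K.one_mem

/-- the elements of `H ∖ K` invert `K` -/
theorem inverts_of_not_mem (h : Hyp t K s) {u : G} (hu : u ∈ centralizer ({t} : Set G))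
    (huK : u ∉ K) {y : G} (hy : y ∈ K) : u * y * u⁻¹ = y⁻¹ := by
  rcases mem_H_cases h hu with h1 | h1
  · exact absurd h1 huK
  · have e1 : u * y * u⁻¹ = (u * s) * (s * y * s) * (u * s)⁻¹ := by
      calc u * y * u⁻¹ = u * 1 * y * 1 * u⁻¹ := by group
        _ = u * (s * s) * y * (s * s) * u⁻¹ := by rw [s_sq h]
        _ = (u * s) * (s * y * s) * (s * u⁻¹) := by group
        _ = (u * s) * (s * y * s) * (s⁻¹ * u⁻¹) := by rw [s_inv h]
        _ = (u * s) * (s * y * s) * (u * s)⁻¹ := by group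
    rw [e1, s_conj h hy]
    have hc := K_comm h h1 (K.inv_mem hy)
    calc (u * s) * y⁻¹ * (u * s)⁻¹ = y⁻¹ * (u * s) * (u * s)⁻¹ := by rw [hc]
      _ = y⁻¹ := by group

/-- `H` normalizes `K` -/
theorem conj_mem_K_of_mem_H (h : Hyp t K s) {u : G} (hu : u ∈ centralizer ({t} : Set G))
    {y : G} (hy : y ∈ K) : u * y * u⁻¹ ∈ K := by
  by_cases huK : u ∈ K
  · exact K.mul_mem (K.mul_mem huK hy) (K.inv_mem huK)
  · rw [inverts_of_not_mem h hu huK hy]; exact K.inv_mem hy

/-- elements of `K` with square one -/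
theorem eq_of_sq_eq_one (h : Hyp t K s) {x : G} (hx : x ∈ K) (hxx : x * x = 1) :
    x = 1 ∨ x = t := by
  have hinv : x⁻¹ = x := inv_eq_of_mul_eq_one_left hxx
  have hc : x ∈ K ⊓ centralizer ({s} : Set G) := by
    refine Subgroup.mem_inf.mpr ⟨hx, ?_⟩
    rw [mem_centralizer_singleton_iff]
    have := h.hinv x hx
    rw [hinv] at this
    calc x * s = (s * x * s⁻¹)⁻¹⁻¹ * s := by rw [this, inv_inv]
      _ = s * x := by group
  rw [h.hCK] at hc
  rw [mem_zpowers_iff] at hc
  obtain ⟨k, hk⟩ := hc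
  rcases Int.emod_two_eq_zero_or_one k with h0 | h1
  · left
    have : k = 2 * (k / 2) := by omega
    rw [← hk, this, zpow_mul, zpow_ofNat, pow_two, t_sq h, one_zpow]
  · right
    have : k = 2 * (k / 2) + 1 := by omega
    rw [← hk, this, zpow_add, zpow_mul, zpow_ofNat, pow_two, t_sq h, one_zpow, one_mul, zpow_one]

/-- the only involution of `K` is `t` -/
theorem eq_t_of_order_two (h : Hyp t K s) {x : G} (hx : x ∈ K) (hx2 : orderOf x = 2) : x = t := by
  rcases eq_of_sq_eq_one h hx (Dv.sq_of_order_two hx2) with h1 | h1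
  · exact absurd h1 (Dv.ne_one_of_order_two hx2)
  · exact h1

/-- the TI property in element form -/
theorem mem_H_of_conj_mem (h : Hyp t K s) {x g : G} (hx : x ∈ K) (hx1 : x ≠ 1)
    (hg : g * x * g⁻¹ ∈ K) : g ∈ centralizer ({t} : Set G) := by
  by_contra hn
  have h0 := h.hTI g hn
  have hmem : g * x * g⁻¹ ∈ K ⊓ K.map (MulAut.conj g).toMonoidHom := by
    refine Subgroup.mem_inf.mpr ⟨hg, ?_⟩
    rw [mem_map]
    exact ⟨x, hx, by simp [MulAut.conj_apply]⟩
  rw [h0, mem_bot] at hmem
  apply hx1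
  calc x = g⁻¹ * (g * x * g⁻¹) * g := by group
    _ = 1 := by rw [hmem]; group

/-- (E5) -/
theorem centralizer_le (h : Hyp t K s) {x : G} (hx : x ∈ K) (hx1 : x ≠ 1) :
    centralizer ({x} : Set G) ≤ centralizer ({t} : Set G) := by
  intro g hg
  rw [mem_centralizer_singleton_iff] at hg
  apply mem_H_of_conj_mem h hx hx1
  have : g * x * g⁻¹ = x := by rw [hg]; group
  rw [this]; exact hx

/-- (E2) -/
theorem normalizer_eq (h : Hyp t K s) (X : Subgroup G) (hXK : X ≤ K) (hX : X ≠ ⊥) :
    normalizer (X : Set G) = centralizer ({t} : Set G) := by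
  apply le_antisymm
  · intro g hg
    obtain ⟨x, hx⟩ := (Subgroup.ne_bot_iff_exists_ne_one.mp hX)
    have hxX : (x : G) ∈ X := x.2
    have hx1' : (x : G) ≠ 1 := fun h0 => hx (Subtype.ext h0)
    have := (mem_normalizer_iff.mp hg (x : G)).mp hxX
    exact mem_H_of_conj_mem h (hXK hxX) hx1' (hXK this)
  · intro u hu
    rw [mem_normalizer_iff]
    have key : ∀ v ∈ centralizer ({t} : Set G), ∀ y ∈ X, v * y * v⁻¹ ∈ X := by
      intro v hv y hy
      by_cases hvK : v ∈ K
      · have hc := K_comm h hvK (hXK hy)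
        have : v * y * v⁻¹ = y := by rw [hc]; group
        rw [this]; exact hy
      · rw [inverts_of_not_mem h hv hvK (hXK hy)]; exact X.inv_mem hy
    intro y
    constructor
    · intro hy; exact key u hu y hy
    · intro hy
      have := key u⁻¹ (inv_mem hu) _ hy
      have e : u⁻¹ * (u * y * u⁻¹) * u⁻¹⁻¹ = y := by group
      rwa [e] at this

/-- (E4a) -/
theorem real_of_mem_H (h : Hyp t K s) {x : G} (hx : x ∈ centralizer ({t} : Set G)) :
    IsRealElt x := by
  by_cases hxK : x ∈ K
  · exact ⟨s, h.hs, h.hinv x hxK⟩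
  · have h2 := order_two_of_not_mem h hx hxK
    refine ⟨x, h2, ?_⟩
    rw [Dv.inv_of_order_two h2]
    rw [mul_assoc, Dv.sq_of_order_two h2, mul_one]

theorem isRealElt_conj {g : G} (a : G) (hg : IsRealElt (a * g * a⁻¹)) : IsRealElt g := by
  obtain ⟨u, hu, huinv⟩ := hg
  refine ⟨a⁻¹ * u * a, ?_, ?_⟩
  · have := orderOf_injective (MulAut.conj a⁻¹).toMonoidHom (MulAut.conj a⁻¹).injective u
    rw [← hu, ← this]; simp [MulAut.conj_apply]
  · calc a⁻¹ * u * a * g * (a⁻¹ * u * a)⁻¹ = a⁻¹ * (u * (a * g * a⁻¹) * u⁻¹) * a := by group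
      _ = a⁻¹ * (a * g * a⁻¹)⁻¹ * a := by rw [huinv]
      _ = g⁻¹ := by group

/-- (E4b) -/
theorem real_of_conjK (h : Hyp t K s) {g : G} (hg : ConjK K g) : IsRealElt g := by
  obtain ⟨a, ha⟩ := hg
  exact isRealElt_conj a (real_of_mem_H h (K_le_H h ha))

theorem conjK_conj {g : G} (a : G) : ConjK K (a * g * a⁻¹) ↔ ConjK K g := by
  constructor
  · rintro ⟨b, hb⟩
    refine ⟨b * a, ?_⟩
    have : b * a * g * (b * a)⁻¹ = b * (a * g * a⁻¹) * b⁻¹ := by group
    rw [this]; exact hb
  · rintro ⟨b, hb⟩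
    refine ⟨b * a⁻¹, ?_⟩
    have : b * a⁻¹ * (a * g * a⁻¹) * (b * a⁻¹)⁻¹ = b * g * b⁻¹ := by group
    rw [this]; exact hb

theorem conjK_one : ConjK K (1 : G) := ⟨1, by simp [K.one_mem]⟩

/-- every involution is conjugate to `t` -/
theorem exists_conj_eq (h : Hyp t K s) {w : G} (hw : orderOf w = 2) : ∃ a : G, a * t * a⁻¹ = w := by
  have := h.hconj t w h.ht hw
  rw [isConj_iff] at this
  exact this

theorem conjK_of_order_two (h : Hyp t K s) {w : G} (hw : orderOf w = 2) : ConjK K w := by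
  obtain ⟨a, ha⟩ := exists_conj_eq h hw
  refine ⟨a⁻¹, ?_⟩
  rw [← ha]
  have : a⁻¹ * (a * t * a⁻¹) * a⁻¹⁻¹ = t := by group
  rw [this]; exact h.htK

theorem conjK_of_mem_H (h : Hyp t K s) {x : G} (hx : x ∈ centralizer ({t} : Set G)) :
    ConjK K x := by
  by_cases hxK : x ∈ K
  · exact ⟨1, by simpa using hxK⟩
  · exact conjK_of_order_two h (order_two_of_not_mem h hx hxK)

/-- an element commuting with an involution is conjugate into `K` -/
theorem conjK_of_comm_invol (h : Hyp t K s) {w x : G} (hw : orderOf w = 2)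
    (hc : x * w = w * x) : ConjK K x := by
  obtain ⟨a, ha⟩ := exists_conj_eq h hw
  rw [← conjK_conj a⁻¹]
  apply conjK_of_mem_H h
  rw [mem_centralizer_singleton_iff]
  have e1 : t = a⁻¹ * w * a := by rw [← ha]; group
  rw [e1]
  calc a⁻¹ * x * a⁻¹⁻¹ * (a⁻¹ * w * a) = a⁻¹ * (x * w) * a := by group
    _ = a⁻¹ * (w * x) * a := by rw [hc]
    _ = a⁻¹ * w * a * (a⁻¹ * x * a⁻¹⁻¹) := by group

/-- an element commuting with a nontrivial element conjugate into `K` is conjugate into `K` -/
theorem conjK_of_comm_conjK (h : Hyp t K s) {y x : G} (hy : ConjK K y) (hy1 : y ≠ 1)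
    (hc : x * y = y * x) : ConjK K x := by
  obtain ⟨a, ha⟩ := hy
  rw [← conjK_conj a]
  apply conjK_of_mem_H h
  have hne : a * y * a⁻¹ ≠ 1 := by
    intro h0; apply hy1
    calc y = a⁻¹ * (a * y * a⁻¹) * a := by group
      _ = 1 := by rw [h0]; group
  apply centralizer_le h ha hne
  rw [mem_centralizer_singleton_iff]
  calc a * x * a⁻¹ * (a * y * a⁻¹) = a * (x * y) * a⁻¹ := by group
    _ = a * (y * x) * a⁻¹ := by rw [hc]
    _ = a * y * a⁻¹ * (a * x * a⁻¹) := by group

section finite
variable [Finite G]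

/-- (E1) -/
theorem card_H (h : Hyp t K s) :
    Nat.card ↥(centralizer ({t} : Set G)) = 2 * Nat.card ↥K := by
  have hidx : (K.subgroupOf (centralizer ({t} : Set G))).index = 2 := by
    rw [index_eq_two_iff]
    refine ⟨⟨s, h.hsH⟩, ?_⟩
    intro b
    have hb := mem_H_cases h b.2
    by_cases hbK : (b : G) ∈ K
    · right
      refine ⟨?_, ?_⟩
      · rw [mem_subgroupOf]; exact hbK
      · rw [mem_subgroupOf]
        intro hbs
        have : s ∈ K := by
          have e : s = (b : G)⁻¹ * ((b : G) * s) := by group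
          rw [e]; exact K.mul_mem (K.inv_mem hbK) hbs
        exact h.hsK this
    · left
      refine ⟨?_, ?_⟩
      · rw [mem_subgroupOf]
        rcases hb with h1 | h1
        · exact absurd h1 hbK
        · exact h1
      · rw [mem_subgroupOf]; exact hbK
  have h1 := (K.subgroupOf (centralizer ({t} : Set G))).card_mul_index
  rw [hidx] at h1
  have h2 : Nat.card ↥(K.subgroupOf (centralizer ({t} : Set G))) = Nat.card ↥K :=
    Nat.card_congr (subgroupOfEquivOfLe h.hKH).toEquiv
  rw [h2] at h1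
  omega

end finite

end Cfsg.Agent.Lib.Helper1.BswE
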