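import Mathlib
import Cfsg.Agent.Lib.Helper1.BswE1
import Cfsg.Agent.Lib.Helper1.FrobeniusCount

set_option autoImplicit false
set_option maxHeartbeats 4000000
set_option maxRecDepth 100000
set_option linter.unusedVariables false
set_option linter.unusedSectionVars false
set_option linter.style.longLine false
set_option linter.unusedSimpArgs false
set_option linter.deprecated false

/-! Brauer–Suzuki–Wall (abstract form), Part E2: counting products of two involutions. -/

namespace Cfsg.Agent.Lib.Helper1.BswE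

open Subgroup Cfsg.Agent.Lib.Helper7.Bsw

variable {G : Type*} [Group G] {t s : G} {K : Subgroup G}

theorem orderOf_conj' (a u : G) : orderOf (a * u * a⁻¹) = orderOf u := by
  have := orderOf_injective (MulAut.conj a).toMonoidHom (MulAut.conj a).injective u
  rw [← this]; simp [MulAut.conj_apply]

/-- second description of `psi` -/
noncomputable def psi' (g : G) : ℕ := Nat.card {u : G // orderOf u = 2 ∧ orderOf (u * g) = 2}

theorem psi_eq_psi' (g : G) : psi g = psi' g := by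
  unfold psi psi'
  apply Nat.card_congr
  refine ⟨fun p => ⟨p.1.1, p.2.1, ?_⟩, fun u => ⟨(u.1, u.1 * g), u.2.1, u.2.2, ?_⟩, ?_, ?_⟩
  · have h1 := p.2.2.2
    have h2 := Dv.sq_of_order_two p.2.1
    have : p.1.1 * g = p.1.2 := by
      calc p.1.1 * g = p.1.1 * (p.1.1 * p.1.2) := by rw [h1]
        _ = (p.1.1 * p.1.1) * p.1.2 := by group
        _ = p.1.2 := by rw [h2, one_mul]
    rw [this]; exact p.2.2.1
  · have h2 := Dv.sq_of_order_two u.2.1
    show u.1 * (u.1 * g) = g
    calc u.1 * (u.1 * g) = (u.1 * u.1) * g := by group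
      _ = g := by rw [h2, one_mul]
  · intro p
    apply Subtype.ext
    apply Prod.ext
    · rfl
    · show p.1.1 * g = p.1.2
      have h1 := p.2.2.2
      have h2 := Dv.sq_of_order_two p.2.1
      calc p.1.1 * g = p.1.1 * (p.1.1 * p.1.2) := by rw [h1]
        _ = (p.1.1 * p.1.1) * p.1.2 := by group
        _ = p.1.2 := by rw [h2, one_mul]
  · intro u
    apply Subtype.ext
    rfl

theorem psi'_one : psi' (1 : G) = nInv G := by
  unfold psi' nInv
  apply Nat.card_congr
  apply Equiv.subtypeEquivRight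
  intro u
  simp

theorem psi_one : psi (1 : G) = nInv G := by rw [psi_eq_psi', psi'_one]

/-- (E7) -/
theorem real_of_psi {g : G} (hg : psi g ≠ 0) : IsRealElt g := by
  unfold psi at hg
  have hne : Nonempty {p : G × G // orderOf p.1 = 2 ∧ orderOf p.2 = 2 ∧ p.1 * p.2 = g} := by
    by_contra hem
    rw [not_nonempty_iff] at hem
    exact hg Nat.card_of_isEmpty
  obtain ⟨p, h1, h2, h3⟩ := hne
  refine ⟨p.1, h1, ?_⟩
  rw [← h3]
  have e1 := Dv.inv_of_order_two h1
  have e2 := Dv.inv_of_order_two h2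
  calc p.1 * (p.1 * p.2) * p.1⁻¹ = (p.1 * p.1) * p.2 * p.1⁻¹ := by group
    _ = p.2 * p.1⁻¹ := by rw [Dv.sq_of_order_two h1, one_mul]
    _ = p.2⁻¹ * p.1⁻¹ := by rw [e2]
    _ = (p.1 * p.2)⁻¹ := by group

theorem psi'_conj (a g : G) : psi' (a * g * a⁻¹) = psi' g := by
  unfold psi'
  apply Nat.card_congr
  refine ⟨fun u => ⟨a⁻¹ * u.1 * a, ?_, ?_⟩, fun u => ⟨a * u.1 * a⁻¹, ?_, ?_⟩, ?_, ?_⟩
  · have := orderOf_conj' a⁻¹ u.1
    rw [inv_inv] at this; rw [this]; exact u.2.1
  · have e : a⁻¹ * u.1 * a * g = a⁻¹ * (u.1 * (a * g * a⁻¹)) * a⁻¹⁻¹ := by group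
    rw [e, orderOf_conj']; exact u.2.2
  · rw [orderOf_conj']; exact u.2.1
  · have e : a * u.1 * a⁻¹ * (a * g * a⁻¹) = a * (u.1 * g) * a⁻¹ := by group
    rw [e, orderOf_conj']; exact u.2.2
  · intro u; apply Subtype.ext; show a * (a⁻¹ * u.1 * a) * a⁻¹ = u.1; group
  · intro u; apply Subtype.ext; show a⁻¹ * (a * u.1 * a⁻¹) * a = u.1; group

theorem psi_conj (a g : G) : psi (a * g * a⁻¹) = psi g := by
  rw [psi_eq_psi', psi_eq_psi', psi'_conj]

/-- for an involution `u`: `ux` is an involution or one iff `u` inverts `x` -/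
theorem inverts_of_order_two_mul {u x : G} (hu : orderOf u = 2) (hux : orderOf (u * x) = 2) :
    u * x * u⁻¹ = x⁻¹ := by
  have h1 := Dv.sq_of_order_two hux
  rw [Dv.inv_of_order_two hu]
  calc u * x * u = (u * x) * (u * x) * x⁻¹ := by group
    _ = x⁻¹ := by rw [h1, one_mul]

theorem order_two_mul_of_inverts {u x : G} (hu : orderOf u = 2) (hinv : u * x * u⁻¹ = x⁻¹)
    (hne : u * x ≠ 1) : orderOf (u * x) = 2 := by
  apply Dv.order_two_of_sq _ hne
  calc u * x * (u * x) = (u * x * u⁻¹) * (u * u) * x := by group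
    _ = 1 := by rw [hinv, Dv.sq_of_order_two hu, mul_one, inv_mul_cancel]

/-- the pairs for `x ∈ K#` correspond to `H ∖ K` -/
theorem psi_pair_iff (h : Hyp t K s) {x : G} (hx : x ∈ K) (hx1 : x ≠ 1) (u : G) :
    (orderOf u = 2 ∧ orderOf (u * x) = 2) ↔ (u ∈ centralizer ({t} : Set G) ∧ u ∉ K) := by
  constructor
  · rintro ⟨hu, hux⟩
    have hinv := inverts_of_order_two_mul hu hux
    have huH : u ∈ centralizer ({t} : Set G) := by
      apply mem_H_of_conj_mem h hx hx1
      rw [hinv]; exact K.inv_mem hx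
    refine ⟨huH, ?_⟩
    intro huK
    have hut := eq_t_of_order_two h huK hu
    have hc := K_comm h huK hx
    have hxx : x * x = 1 := by
      have : x = x⁻¹ := by
        calc x = u * x * u⁻¹ := by rw [hc]; group
          _ = x⁻¹ := hinv
      calc x * x = x * x⁻¹ := by rw [← this]
        _ = 1 := mul_inv_cancel x
    rcases eq_of_sq_eq_one h hx hxx with h0 | h0
    · exact hx1 h0
    · rw [hut, h0, t_sq h] at hux
      simp at hux
  · rintro ⟨huH, huK⟩
    have hu := order_two_of_not_mem h huH huK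
    refine ⟨hu, ?_⟩
    apply order_two_mul_of_inverts hu (inverts_of_not_mem h huH huK hx)
    intro h0
    apply huK
    have : u = x⁻¹ := eq_inv_of_mul_eq_one_left h0
    rw [this]; exact K.inv_mem hx

/-- `H ∖ K` has `|K|` elements -/
theorem card_H_diff_K (h : Hyp t K s) :
    Nat.card {u : G // u ∈ centralizer ({t} : Set G) ∧ u ∉ K} = Nat.card ↥K := by
  apply Nat.card_congr
  refine ⟨fun u => ⟨u.1 * s, ?_⟩, fun y => ⟨y.1 * s, ?_, ?_⟩, ?_, ?_⟩
  · rcases mem_H_cases h u.2.1 with h1 | h1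
    · exact absurd h1 u.2.2
    · exact h1
  · exact mul_mem (K_le_H h y.2) h.hsH
  · intro hys
    apply h.hsK
    have : s = (y.1)⁻¹ * (y.1 * s) := by group
    rw [this]; exact K.mul_mem (K.inv_mem y.2) hys
  · intro u; apply Subtype.ext
    show u.1 * s * s = u.1
    rw [mul_assoc, s_sq h, mul_one]
  · intro y; apply Subtype.ext
    show y.1 * s * s = y.1
    rw [mul_assoc, s_sq h, mul_one]

theorem psi_of_mem_K (h : Hyp t K s) {x : G} (hx : x ∈ K) (hx1 : x ≠ 1) :
    psi x = Nat.card ↥K := by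
  rw [psi_eq_psi', ← card_H_diff_K h]
  unfold psi'
  apply Nat.card_congr
  apply Equiv.subtypeEquivRight
  intro u
  exact psi_pair_iff h hx hx1 u

theorem psi_of_conjK (h : Hyp t K s) {g : G} (hg : ConjK K g) (hg1 : g ≠ 1) :
    psi g = Nat.card ↥K := by
  obtain ⟨a, ha⟩ := hg
  rw [← psi_conj a g]
  apply psi_of_mem_K h ha
  intro h0; apply hg1
  calc g = a⁻¹ * (a * g * a⁻¹) * a := by group
    _ = 1 := by rw [h0]; group

section finite
variable [Finite G]

theorem nInv_eq_card_carrier (h : Hyp t K s) :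
    nInv G = Nat.card (ConjClasses.mk t).carrier := by
  unfold nInv
  apply Nat.card_congr
  apply Equiv.subtypeEquivRight
  intro u
  rw [ConjClasses.mem_carrier_iff_mk_eq, ConjClasses.mk_eq_mk_iff_isConj]
  constructor
  · intro hu; exact h.hconj u t hu h.ht
  · intro hc
    obtain ⟨c, hc⟩ := isConj_iff.mp hc
    rw [← orderOf_conj' c u, hc]; exact h.ht

/-- (E6) -/
theorem card_G (h : Hyp t K s) : nInv G * (2 * Nat.card ↥K) = Nat.card G := by
  rw [nInv_eq_card_carrier h, ← card_H h]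
  exact Cfsg.Agent.Lib.Helper4.card_carrier_mul_card_centralizer t

theorem card_K_pos (h : Hyp t K s) : 0 < Nat.card ↥K := Nat.card_pos

theorem two_le_card_K (h : Hyp t K s) : 2 ≤ Nat.card ↥K := by
  have h1 : orderOf (⟨t, h.htK⟩ : ↥K) = 2 := by
    rw [← Subgroup.orderOf_coe]; exact h.ht
  have h3 := orderOf_dvd_natCard (⟨t, h.htK⟩ : ↥K)
  rw [h1] at h3
  exact Nat.le_of_dvd Nat.card_pos h3

theorem index_H (h : Hyp t K s) : (centralizer ({t} : Set G)).index = nInv G := by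
  have h1 := (centralizer ({t} : Set G)).card_mul_index
  have h2 := card_G h
  rw [card_H h] at h1
  have hpos : 0 < 2 * Nat.card ↥K := by have := card_K_pos h; omega
  have : 2 * Nat.card ↥K * (centralizer ({t} : Set G)).index = 2 * Nat.card ↥K * nInv G := by
    rw [h1, ← h2]; ring
  exact Nat.eq_of_mul_eq_mul_left hpos this

/-- the map `(aH, x) ↦ a x a⁻¹` onto the nontrivial elements conjugate into `K` -/
theorem conjK_bij (h : Hyp t K s) :
    Function.Bijective (fun p : (G ⧸ centralizer ({t} : Set G)) × {x : ↥K // x ≠ 1} =>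
      (⟨p.1.out * (p.2.1 : G) * p.1.out⁻¹, by
        refine ⟨⟨p.1.out⁻¹, ?_⟩, ?_⟩
        · have : p.1.out⁻¹ * (p.1.out * (p.2.1 : G) * p.1.out⁻¹) * p.1.out⁻¹⁻¹ = (p.2.1 : G) := by group
          rw [this]; exact p.2.1.2
        · intro h0
          apply p.2.2
          apply Subtype.ext
          calc ((p.2.1 : ↥K) : G) = p.1.out⁻¹ * (p.1.out * (p.2.1 : G) * p.1.out⁻¹) * p.1.out := by group
            _ = 1 := by rw [h0]; group⟩ : {g : G // ConjK K g ∧ g ≠ 1})) := by
  constructor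
  · rintro ⟨q1, x1⟩ ⟨q2, x2⟩ heq
    have heq' : q1.out * (x1.1 : G) * q1.out⁻¹ = q2.out * (x2.1 : G) * q2.out⁻¹ :=
      congrArg Subtype.val heq
    have hx1ne : ((x1.1 : ↥K) : G) ≠ 1 := fun h0 => x1.2 (Subtype.ext h0)
    have hconj : (q2.out⁻¹ * q1.out) * (x1.1 : G) * (q2.out⁻¹ * q1.out)⁻¹ = (x2.1 : G) := by
      calc (q2.out⁻¹ * q1.out) * (x1.1 : G) * (q2.out⁻¹ * q1.out)⁻¹
          = q2.out⁻¹ * (q1.out * (x1.1 : G) * q1.out⁻¹) * q2.out := by group
        _ = q2.out⁻¹ * (q2.out * (x2.1 : G) * q2.out⁻¹) * q2.out := by rw [heq']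
        _ = (x2.1 : G) := by group
    have hmem : q2.out⁻¹ * q1.out ∈ centralizer ({t} : Set G) := by
      apply mem_H_of_conj_mem h x1.1.2 hx1ne
      rw [hconj]; exact x2.1.2
    have hq : q2 = q1 := by
      rw [← QuotientGroup.out_eq' q2, ← QuotientGroup.out_eq' q1]
      exact QuotientGroup.eq.mpr hmem
    subst hq
    have hx : (x1.1 : G) = (x2.1 : G) := by
      calc (x1.1 : G) = q2.out⁻¹ * (q2.out * (x1.1 : G) * q2.out⁻¹) * q2.out := by group
        _ = q2.out⁻¹ * (q2.out * (x2.1 : G) * q2.out⁻¹) * q2.out := by rw [heq']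
        _ = (x2.1 : G) := by group
    have : x1 = x2 := Subtype.ext (Subtype.ext hx)
    rw [this]
  · rintro ⟨g, ⟨a, ha⟩, hg1⟩
    -- g = a⁻¹ x a with x = a g a⁻¹ ∈ K
    set q : G ⧸ centralizer ({t} : Set G) := QuotientGroup.mk a⁻¹ with hq
    have hmem : (q.out)⁻¹ * a⁻¹ ∈ centralizer ({t} : Set G) := by
      have : (QuotientGroup.mk q.out : G ⧸ centralizer ({t} : Set G)) = QuotientGroup.mk a⁻¹ := by
        rw [QuotientGroup.out_eq']
      exact QuotientGroup.eq.mp this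
    set c := (q.out)⁻¹ * a⁻¹ with hc
    have hxK : c * (a * g * a⁻¹) * c⁻¹ ∈ K := conj_mem_K_of_mem_H h hmem ha
    have hne : (⟨c * (a * g * a⁻¹) * c⁻¹, hxK⟩ : ↥K) ≠ 1 := by
      intro h0
      have h0' : c * (a * g * a⁻¹) * c⁻¹ = 1 := congrArg Subtype.val h0
      apply hg1
      calc g = a⁻¹ * (c⁻¹ * (c * (a * g * a⁻¹) * c⁻¹) * c) * a := by group
        _ = 1 := by rw [h0']; group
    refine ⟨(q, ⟨⟨c * (a * g * a⁻¹) * c⁻¹, hxK⟩, hne⟩), ?_⟩
    apply Subtype.ext
    show q.out * (c * (a * g * a⁻¹) * c⁻¹) * q.out⁻¹ = g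
    rw [hc]; group

theorem card_conjK_ne_one (h : Hyp t K s) :
    Nat.card {g : G // ConjK K g ∧ g ≠ 1} = nInv G * (Nat.card ↥K - 1) := by
  rw [← Nat.card_congr (Equiv.ofBijective _ (conjK_bij h)), Nat.card_prod]
  have h1 : Nat.card (G ⧸ centralizer ({t} : Set G)) = nInv G := by
    rw [← index_H h]; rfl
  rw [h1, Cfsg.Agent.Lib.Helper1.card_subtype_ne' (1 : ↥K)]

/-- (E9) -/
theorem card_conjK (h : Hyp t K s) :
    Nat.card {g : G // ConjK K g} = 1 + nInv G * (Nat.card ↥K - 1) := by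
  rw [← card_conjK_ne_one h]
  have h1 := Cfsg.Agent.Lib.Helper1.card_subtype_ne' (⟨1, conjK_one⟩ : {g : G // ConjK K g})
  have h2 : Nat.card {x : {g : G // ConjK K g} // x ≠ ⟨1, conjK_one⟩} =
      Nat.card {g : G // ConjK K g ∧ g ≠ 1} := by
    apply Nat.card_congr
    refine ⟨fun x => ⟨x.1.1, x.1.2, fun h0 => x.2 (Subtype.ext h0)⟩,
      fun g => ⟨⟨g.1, g.2.1⟩, fun h0 => g.2.2 (congrArg Subtype.val h0)⟩, ?_, ?_⟩
    · intro x; rfl
    · intro g; rfl
  have hpos : 0 < Nat.card {g : G // ConjK K g} := by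
    haveI : Nonempty {g : G // ConjK K g} := ⟨⟨1, conjK_one⟩⟩
    exact Nat.card_pos
  rw [h2] at h1
  omega

end finite

end Cfsg.Agent.Lib.Helper1.BswE
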