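import Mathlib
import Cfsg.Agent.Lib.Helper1.BswE2

set_option autoImplicit false
set_option maxHeartbeats 4000000
set_option maxRecDepth 100000
set_option linter.unusedVariables false
set_option linter.unusedSectionVars false
set_option linter.style.longLine false
set_option linter.unusedSimpArgs false
set_option linter.deprecated false

/-! Brauer–Suzuki–Wall (abstract form), Part E3: the counting identity (E8). -/

namespace Cfsg.Agent.Lib.Helper1.BswE

open Subgroup Cfsg.Agent.Lib.Helper7.Bsw
open scoped Classical

variable {G : Type*} [Group G] {t s : G} {K : Subgroup G}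

/-- pairs of involutions whose product satisfies `Q`, counted fibrewise -/
theorem card_pairs_eq_sum [Fintype G] (Q : G → Prop) :
    Nat.card {p : G × G // orderOf p.1 = 2 ∧ orderOf p.2 = 2 ∧ Q (p.1 * p.2)}
      = ∑ g : G, if Q g then psi g else 0 := by
  rw [Nat.card_eq_fintype_card, Fintype.card_subtype]
  rw [Finset.card_eq_sum_card_fiberwise (f := fun p : G × G => p.1 * p.2) (t := Finset.univ)
    (by intro x _; exact Finset.mem_coe.mpr (Finset.mem_univ _))]
  apply Finset.sum_congr rfl
  intro g _
  split_ifs with hQ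
  · unfold psi
    rw [Nat.card_eq_fintype_card, Fintype.card_subtype]
    congr 1
    ext p
    simp only [Finset.mem_filter, Finset.mem_univ, true_and]
    constructor
    · rintro ⟨⟨a, b, c⟩, d⟩; exact ⟨a, b, d⟩
    · rintro ⟨a, b, d⟩; exact ⟨⟨a, b, by rw [d]; exact hQ⟩, d⟩
  · rw [Finset.card_eq_zero]
    ext p
    simp only [Finset.mem_filter, Finset.mem_univ, true_and, Finset.notMem_empty, iff_false]
    rintro ⟨⟨a, b, c⟩, d⟩
    rw [d] at c
    exact hQ c

theorem card_invol_pairs [Finite G] :
    Nat.card {p : G × G // orderOf p.1 = 2 ∧ orderOf p.2 = 2 ∧ True} = nInv G * nInv G := by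
  unfold nInv
  rw [← Nat.card_prod]
  apply Nat.card_congr
  refine ⟨fun p => (⟨p.1.1, p.2.1⟩, ⟨p.1.2, p.2.2.1⟩), fun q => ⟨(q.1.1, q.2.1), q.1.2, q.2.2, trivial⟩, ?_, ?_⟩
  · intro p; rfl
  · intro q; rfl

/-- (E8) -/
theorem counting [Finite G] (h : Hyp t K s) :
    nInv G + nInv G * (Nat.card ↥K * (Nat.card ↥K - 1)) + N3 K = nInv G ^ 2 := by
  haveI : Fintype G := Fintype.ofFinite G
  have hA := card_pairs_eq_sum (G := G) (fun _ => True)
  rw [card_invol_pairs] at hA
  have hB : N3 K = ∑ g : G, if Third K g then psi g else 0 := by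
    unfold N3
    exact card_pairs_eq_sum (G := G) (fun g => Third K g)
  -- pointwise decomposition
  have hpt : ∀ g : G, (if True then psi g else 0) =
      (if g = 1 then nInv G else 0) + (if ConjK K g ∧ g ≠ 1 then Nat.card ↥K else 0)
        + (if Third K g then psi g else 0) := by
    intro g
    rw [if_pos trivial]
    by_cases hg1 : g = 1
    · subst hg1
      have hnt : ¬ Third K (1 : G) := fun hT => hT.2 conjK_one
      rw [if_pos rfl, if_neg (fun hc => hc.2 rfl), if_neg hnt, psi_one]
      omega
    · by_cases hc : ConjK K g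
      · have hnt : ¬ Third K g := fun hT => hT.2 hc
        rw [if_neg hg1, if_pos ⟨hc, hg1⟩, if_neg hnt, psi_of_conjK h hc hg1]
        omega
      · rw [if_neg hg1, if_neg (fun hcc => hc hcc.1)]
        by_cases hT : Third K g
        · rw [if_pos hT]; omega
        · rw [if_neg hT]
          by_contra hne
          have hne' : psi g ≠ 0 := by omega
          exact hT ⟨real_of_psi hne', hc⟩
  have hsum : ∑ g : G, (if True then psi g else 0) =
      ∑ g : G, ((if g = 1 then nInv G else 0) + (if ConjK K g ∧ g ≠ 1 then Nat.card ↥K else 0)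
        + (if Third K g then psi g else 0)) := Finset.sum_congr rfl (fun g _ => hpt g)
  rw [Finset.sum_add_distrib, Finset.sum_add_distrib] at hsum
  have h1 : ∑ g : G, (if g = 1 then nInv G else 0) = nInv G := by
    rw [Finset.sum_ite_eq' Finset.univ (1 : G) (fun _ => nInv G)]
    simp
  have h2 : ∑ g : G, (if ConjK K g ∧ g ≠ 1 then Nat.card ↥K else 0)
      = nInv G * (Nat.card ↥K - 1) * Nat.card ↥K := by
    rw [← Finset.sum_filter, Finset.sum_const, smul_eq_mul, ← card_conjK_ne_one h]
    congr 1
    rw [Nat.card_eq_fintype_card, Fintype.card_subtype]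
  rw [h1, h2, ← hB] at hsum
  simp only [if_true] at hA hsum
  rw [hsum] at hA
  rw [pow_two, hA]
  ring

end Cfsg.Agent.Lib.Helper1.BswE
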