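import Mathlib
import Cfsg.Agent.Lib.Helper1.BswE3

set_option autoImplicit false
set_option maxHeartbeats 4000000
set_option maxRecDepth 100000
set_option linter.unusedVariables false
set_option linter.unusedSectionVars false
set_option linter.style.longLine false
set_option linter.unusedSimpArgs false
set_option linter.deprecated false

/-! Brauer–Suzuki–Wall (abstract form), Part E4: centralizers of elements of the third kind. -/

namespace Cfsg.Agent.Lib.Helper1.BswE

open Subgroup Cfsg.Agent.Lib.Helper7.Bsw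

variable {G : Type*} [Group G] {t s : G} {K : Subgroup G}

/-- a group acting semiregularly by conjugation on `A ∖ 1` has order dividing `|A| - 1` -/
theorem card_dvd_of_semiregular [Finite G] (A M : Subgroup G)
    (hnorm : ∀ m ∈ M, ∀ c ∈ A, m * c * m⁻¹ ∈ A)
    (hfree : ∀ m ∈ M, ∀ c ∈ A, c ≠ 1 → m * c = c * m → m = 1) :
    Nat.card ↥M ∣ Nat.card ↥A - 1 := by
  let X := {c : G // c ∈ A ∧ c ≠ 1}
  letI : MulAction ↥M X :=
    { smul := fun m c => ⟨(m : G) * c.1 * (m : G)⁻¹, hnorm m m.2 c.1 c.2.1, by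
        intro h0
        apply c.2.2
        calc c.1 = (m : G)⁻¹ * ((m : G) * c.1 * (m : G)⁻¹) * (m : G) := by group
          _ = 1 := by rw [h0]; group⟩
      one_smul := by
        intro c
        apply Subtype.ext
        show ((1 : ↥M) : G) * c.1 * ((1 : ↥M) : G)⁻¹ = c.1
        simp
      mul_smul := by
        intro m n c
        apply Subtype.ext
        show ((m * n : ↥M) : G) * c.1 * ((m * n : ↥M) : G)⁻¹
          = (m : G) * ((n : G) * c.1 * (n : G)⁻¹) * (m : G)⁻¹
        rw [Subgroup.coe_mul]; group }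
  have hfree' : ∀ b : X, MulAction.stabilizer ↥M b = ⊥ := by
    intro b
    rw [eq_bot_iff]
    intro m hm
    rw [Subgroup.mem_bot]
    have h1 : m • b = b := MulAction.mem_stabilizer_iff.mp hm
    have h2 : (m : G) * b.1 * (m : G)⁻¹ = b.1 := congrArg Subtype.val h1
    have h3 : (m : G) * b.1 = b.1 * (m : G) := by
      calc (m : G) * b.1 = ((m : G) * b.1 * (m : G)⁻¹) * (m : G) := by group
        _ = b.1 * (m : G) := by rw [h2]
    exact Subtype.ext (hfree m m.2 b.1 b.2.1 b.2.2 h3)
  have e := MulAction.selfEquivOrbitsQuotientProd hfree'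
  have hcard := Nat.card_congr e
  rw [Nat.card_prod] at hcard
  have hX : Nat.card X = Nat.card ↥A - 1 := by
    rw [← Cfsg.Agent.Lib.Helper1.card_subtype_ne' (1 : ↥A)]
    apply Nat.card_congr
    refine ⟨fun c => ⟨⟨c.1, c.2.1⟩, fun h0 => c.2.2 (congrArg Subtype.val h0)⟩,
      fun c => ⟨c.1.1, c.1.2, fun h0 => c.2 (Subtype.ext h0)⟩, ?_, ?_⟩
    · intro c; rfl
    · intro c; rfl
  rw [hX] at hcard
  exact Dvd.intro_left _ hcard.symm

/-- the nontrivial cosets of `N`, as a sub-action for a subgroup `A ≤ N` -/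
def ntCosets (A N : Subgroup G) (hAN : A ≤ N) : SubMulAction ↥A (G ⧸ N) where
  carrier := {q | q ≠ QuotientGroup.mk 1}
  smul_mem' := by
    intro a q hq hcon
    apply hq
    have h1 : a • (QuotientGroup.mk (1 : G) : G ⧸ N) = QuotientGroup.mk 1 := by
      show (QuotientGroup.mk ((a : G) * 1) : G ⧸ N) = QuotientGroup.mk 1
      rw [mul_one]
      exact QuotientGroup.eq.mpr (by simpa using hAN a.2)
    rw [← h1] at hcon
    exact smul_left_cancel a hcon

/-- if `A ≤ N` acts semiregularly on the nontrivial cosets of `N`, then `|G:N| ≡ 1 (mod |A|)` -/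
theorem index_modEq_of_free [Finite G] (A N : Subgroup G) (hAN : A ≤ N)
    (hfree : ∀ a ∈ A, a ≠ 1 → ∀ g : G, g⁻¹ * a * g ∈ N → g ∈ N) :
    N.index ≡ 1 [MOD Nat.card ↥A] := by
  have hfree' : ∀ b : ntCosets A N hAN, MulAction.stabilizer ↥A b = ⊥ := by
    rintro ⟨q, hq⟩
    obtain ⟨g, rfl⟩ := QuotientGroup.mk_surjective q
    rw [eq_bot_iff]
    intro a ha
    rw [Subgroup.mem_bot]
    by_contra hne
    have hh' : a • (QuotientGroup.mk g : G ⧸ N) = QuotientGroup.mk g := by
      have := MulAction.mem_stabilizer_iff.mp ha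
      exact congrArg Subtype.val this
    have h1 : (QuotientGroup.mk ((a : G) * g) : G ⧸ N) = QuotientGroup.mk g := hh'
    have h2 : ((a : G) * g)⁻¹ * g ∈ N := QuotientGroup.eq.mp h1
    have h3 : g⁻¹ * (a : G) * g ∈ N := by
      have e : g⁻¹ * (a : G) * g = (((a : G) * g)⁻¹ * g)⁻¹ := by group
      rw [e]; exact N.inv_mem h2
    have hg := hfree a a.2 (fun h' => hne (Subtype.ext h')) g h3
    apply hq
    exact QuotientGroup.eq.mpr (by simpa using hg)
  have e := MulAction.selfEquivOrbitsQuotientProd hfree'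
  have hcard := Nat.card_congr e
  rw [Nat.card_prod] at hcard
  have h1 : Nat.card (ntCosets A N hAN) = N.index - 1 :=
    Cfsg.Agent.Lib.Helper1.card_subtype_ne' (α := G ⧸ N) (QuotientGroup.mk 1)
  rw [h1] at hcard
  have hpos : 0 < N.index := Nat.pos_of_ne_zero Subgroup.index_ne_zero_of_finite
  have h2 : N.index = 1 + Nat.card (Quotient (MulAction.orbitRel ↥A (ntCosets A N hAN))) * Nat.card ↥A := by
    omega
  rw [h2]
  unfold Nat.ModEq
  rw [Nat.add_mul_mod_self_right]

section third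

variable [Finite G]

theorem not_conjK_of_mem (h : Hyp t K s) {x : G} (hx : Third K x) {c : G}
    (hc : c ∈ centralizer ({x} : Set G)) (hc1 : c ≠ 1) : ¬ ConjK K c := by
  intro hcK
  rw [mem_centralizer_singleton_iff] at hc
  exact hx.2 (conjK_of_comm_conjK h hcK hc1 hc.symm)

theorem fix_trivial (h : Hyp t K s) {x : G} (hx : Third K x) {w c : G} (hw : orderOf w = 2)
    (hc : c ∈ centralizer ({x} : Set G)) (hcw : w * c = c * w) : c = 1 := by
  by_contra hc1
  exact not_conjK_of_mem h hx hc hc1 (conjK_of_comm_invol h hw hcw.symm)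

theorem third_odd (h : Hyp t K s) {x : G} (hx : Third K x) :
    Odd (Nat.card ↥(centralizer ({x} : Set G))) := by
  rw [← Nat.not_even_iff_odd]; intro he
  haveI : Fact (Nat.Prime 2) := ⟨Nat.prime_two⟩
  obtain ⟨w, hw⟩ := exists_prime_orderOf_dvd_card' 2 he.two_dvd
  have hw' : orderOf (w : G) = 2 := by rw [Subgroup.orderOf_coe]; exact hw
  have h1 := fix_trivial h hx hw' w.2 rfl
  rw [h1] at hw'
  simp at hw'

/-- (E10e), general form -/
theorem third_inverts_gen (h : Hyp t K s) {x : G} (hx : Third K x) {w : G} (hw : orderOf w = 2)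
    (hnorm : ∀ c ∈ centralizer ({x} : Set G), w * c * w⁻¹ ∈ centralizer ({x} : Set G)) :
    ∀ c ∈ centralizer ({x} : Set G), w * c * w⁻¹ = c⁻¹ :=
  Dv.fpf_inverts _ w (Dv.sq_of_order_two hw) hnorm
    (fun n hn hcomm => fix_trivial h hx hw hn hcomm)

theorem third_inverts_of_inverts (h : Hyp t K s) {x : G} (hx : Third K x) {u : G}
    (hu : orderOf u = 2) (hux : u * x * u⁻¹ = x⁻¹) :
    ∀ c ∈ centralizer ({x} : Set G), u * c * u⁻¹ = c⁻¹ :=
  third_inverts_gen h hx hu (Dv.norm_of_inverts hux)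

/-- (E10a) -/
theorem third_comm (h : Hyp t K s) {x : G} (hx : Third K x) {a b : G}
    (ha : a ∈ centralizer ({x} : Set G)) (hb : b ∈ centralizer ({x} : Set G)) :
    a * b = b * a := by
  obtain ⟨u, hu, hux⟩ := hx.1
  have hinv := third_inverts_of_inverts h hx hu hux
  have h1 := hinv a ha
  have h2 := hinv b hb
  have h3 := hinv (a * b) (mul_mem ha hb)
  have h4 : u * (a * b) * u⁻¹ = (u * a * u⁻¹) * (u * b * u⁻¹) := by group
  rw [h4, h1, h2] at h3
  have h5 : (a⁻¹ * b⁻¹)⁻¹ = ((a * b)⁻¹)⁻¹ := by rw [h3]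
  rw [inv_inv] at h5
  rw [← h5]; group

/-- (E10d) -/
theorem third_of_mem (h : Hyp t K s) {x : G} (hx : Third K x) {y : G}
    (hy : y ∈ centralizer ({x} : Set G)) (hy1 : y ≠ 1) : Third K y := by
  obtain ⟨u, hu, hux⟩ := hx.1
  exact ⟨⟨u, hu, third_inverts_of_inverts h hx hu hux y hy⟩, not_conjK_of_mem h hx hy hy1⟩

/-- (E10c) -/
theorem third_cent_eq (h : Hyp t K s) {x : G} (hx : Third K x) {y : G}
    (hy : y ∈ centralizer ({x} : Set G)) (hy1 : y ≠ 1) :
    centralizer ({y} : Set G) = centralizer ({x} : Set G) := by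
  have hyT := third_of_mem h hx hy hy1
  have hxy : x ∈ centralizer ({y} : Set G) := by
    rw [mem_centralizer_singleton_iff] at hy ⊢
    exact hy.symm
  apply le_antisymm
  · intro c hc
    rw [mem_centralizer_singleton_iff]
    exact third_comm h hyT hc hxy
  · intro c hc
    rw [mem_centralizer_singleton_iff]
    exact third_comm h hx hc hy

/-- (E10h) -/
theorem third_ti (h : Hyp t K s) {x : G} (hx : Third K x) (g : G)
    (hg : ∃ y ∈ centralizer ({x} : Set G), y ≠ 1 ∧ g * y * g⁻¹ ∈ centralizer ({x} : Set G)) :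
    g ∈ normalizer ((centralizer ({x} : Set G) : Subgroup G) : Set G) := by
  obtain ⟨y, hy, hy1, hgy⟩ := hg
  have hne : g * y * g⁻¹ ≠ 1 := by
    intro h0; apply hy1
    calc y = g⁻¹ * (g * y * g⁻¹) * g := by group
      _ = 1 := by rw [h0]; group
  have e1 := third_cent_eq h hx hy hy1
  have e2 := third_cent_eq h hx hgy hne
  rw [mem_normalizer_iff]
  intro c
  constructor
  · intro hc
    rw [← e1] at hc
    rw [← e2]
    rw [mem_centralizer_singleton_iff] at hc ⊢
    calc g * c * g⁻¹ * (g * y * g⁻¹) = g * (c * y) * g⁻¹ := by group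
      _ = g * (y * c) * g⁻¹ := by rw [hc]
      _ = g * y * g⁻¹ * (g * c * g⁻¹) := by group
  · intro hc
    rw [← e2] at hc
    rw [← e1]
    rw [mem_centralizer_singleton_iff] at hc ⊢
    calc c * y = g⁻¹ * ((g * c * g⁻¹) * (g * y * g⁻¹)) * g := by group
      _ = g⁻¹ * ((g * y * g⁻¹) * (g * c * g⁻¹)) * g := by rw [hc]
      _ = y * c := by group

/-- (E10e) -/
theorem third_inverts (h : Hyp t K s) {x : G} (hx : Third K x) (w : G) (hw : orderOf w = 2)
    (hwN : w ∈ normalizer ((centralizer ({x} : Set G) : Subgroup G) : Set G)) :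
    ∀ y ∈ centralizer ({x} : Set G), w * y * w⁻¹ = y⁻¹ := by
  apply third_inverts_gen h hx hw
  intro c hc
  exact (mem_normalizer_iff.mp hwN c).mp hc

/-- products `u c` with `c ∈ C(x)` are involutions -/
theorem third_coset_invol (h : Hyp t K s) {x : G} (hx : Third K x) {u : G}
    (hu : orderOf u = 2) (hux : u * x * u⁻¹ = x⁻¹) {c : G}
    (hc : c ∈ centralizer ({x} : Set G)) : orderOf (u * c) = 2 := by
  apply order_two_mul_of_inverts hu (third_inverts_of_inverts h hx hu hux c hc)
  intro h0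
  have huc : u = c⁻¹ := eq_inv_of_mul_eq_one_left h0
  have hmem : u ∈ centralizer ({x} : Set G) := by rw [huc]; exact inv_mem hc
  have := fix_trivial h hx hu hmem rfl
  rw [this] at hu
  simp at hu

/-- (E10f) -/
theorem third_psi (h : Hyp t K s) {x : G} (hx : Third K x) {y : G}
    (hy : y ∈ centralizer ({x} : Set G)) (hy1 : y ≠ 1) :
    psi y = Nat.card ↥(centralizer ({x} : Set G)) := by
  obtain ⟨u, hu, hux⟩ := hx.1
  have hinv := third_inverts_of_inverts h hx hu hux
  rw [psi_eq_psi']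
  unfold psi'
  symm
  apply Nat.card_congr
  refine ⟨fun c => ⟨u * c.1, third_coset_invol h hx hu hux c.2, ?_⟩,
    fun w => ⟨u⁻¹ * w.1, ?_⟩, ?_, ?_⟩
  · have : u * c.1 * y = u * (c.1 * y) := by group
    rw [this]
    exact third_coset_invol h hx hu hux (mul_mem c.2 hy)
  · have hwy := inverts_of_order_two_mul w.2.1 w.2.2
    have huy := hinv y hy
    rw [← third_cent_eq h hx hy hy1, mem_centralizer_singleton_iff]
    have e1 : u⁻¹ * y⁻¹ * u = y := by
      calc u⁻¹ * y⁻¹ * u = u⁻¹ * (u * y * u⁻¹) * u := by rw [huy]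
        _ = y := by group
    have e2 : w.1 * y = y⁻¹ * w.1 := by
      calc w.1 * y = (w.1 * y * w.1⁻¹) * w.1 := by group
        _ = y⁻¹ * w.1 := by rw [hwy]
    calc u⁻¹ * w.1 * y = u⁻¹ * (w.1 * y) := by group
      _ = u⁻¹ * (y⁻¹ * w.1) := by rw [e2]
      _ = (u⁻¹ * y⁻¹ * u) * (u⁻¹ * w.1) := by group
      _ = y * (u⁻¹ * w.1) := by rw [e1]
  · intro c; apply Subtype.ext
    show u⁻¹ * (u * c.1) = c.1
    group
  · intro w; apply Subtype.ext
    show u * (u⁻¹ * w.1) = w.1
    group

end third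

end Cfsg.Agent.Lib.Helper1.BswE
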