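import Mathlib
import Cfsg.Agent.Lib.Helper1.BswE4

set_option autoImplicit false
set_option maxHeartbeats 4000000
set_option maxRecDepth 100000
set_option linter.unusedVariables false
set_option linter.unusedSectionVars false
set_option linter.style.longLine false
set_option linter.unusedSimpArgs false
set_option linter.deprecated false

/-! Brauer–Suzuki–Wall (abstract form), Part E5: normalizers of third-kind centralizers; assembly
of `EFacts`. -/

namespace Cfsg.Agent.Lib.Helper1.BswE

open Subgroup Cfsg.Agent.Lib.Helper7.Bsw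

variable {G : Type*} [Group G] [Finite G] {t s : G} {K : Subgroup G}

theorem self_mem_cent (x : G) : x ∈ centralizer ({x} : Set G) := by
  rw [mem_centralizer_singleton_iff]

/-- an involution inverting `x` normalizes `C(x)` -/
theorem inverter_mem_normalizer {x u : G} (hu : orderOf u = 2) (hux : u * x * u⁻¹ = x⁻¹) :
    u ∈ normalizer ((centralizer ({x} : Set G) : Subgroup G) : Set G) := by
  rw [mem_normalizer_iff]
  intro c
  constructor
  · intro hc; exact Dv.norm_of_inverts hux c hc
  · intro hc
    have := Dv.norm_of_inverts hux _ hc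
    have e : u * (u * c * u⁻¹) * u⁻¹ = (u * u) * c * (u * u)⁻¹ := by group
    rw [e, Dv.sq_of_order_two hu] at this
    simpa using this

/-- the product of two involutions inverting `C(x)` lies in `C(x)` -/
theorem mul_mem_cent_of_inverts {x u w : G} (hux : u * x * u⁻¹ = x⁻¹) (hwx : w * x * w⁻¹ = x⁻¹) :
    w * u ∈ centralizer ({x} : Set G) := by
  rw [mem_centralizer_singleton_iff]
  have e1 : w * x⁻¹ * w⁻¹ = x := by
    calc w * x⁻¹ * w⁻¹ = (w * x * w⁻¹)⁻¹ := by group
      _ = x := by rw [hwx, inv_inv]
  calc w * u * x = w * (u * x * u⁻¹) * u := by group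
    _ = w * x⁻¹ * u := by rw [hux]
    _ = (w * x⁻¹ * w⁻¹) * (w * u) := by group
    _ = x * (w * u) := by rw [e1]

/-- odd order: square roots -/
theorem exists_sq_eq (A : Subgroup G) (hodd : Odd (Nat.card ↥A)) {a : G} (ha : a ∈ A) :
    ∃ c ∈ A, c * c = a := by
  obtain ⟨m, hm⟩ := hodd
  refine ⟨a ^ (m + 1), A.pow_mem ha _, ?_⟩
  have h1 : a ^ Nat.card ↥A = 1 := by
    have h0 := pow_card_eq_one' (G := ↥A) (x := ⟨a, ha⟩)
    have h0' := congrArg Subtype.val h0
    rw [Subgroup.coe_pow, Subgroup.coe_one] at h0'
    exact h0'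
  calc a ^ (m + 1) * a ^ (m + 1) = a ^ (2 * m + 1) * a := by rw [← pow_add, ← pow_succ]; congr 1; omega
    _ = a := by rw [← hm, h1, one_mul]

/-- (E10g) -/
theorem third_compl (h : Hyp t K s) {x : G} (hx : Third K x) :
    ∃ E : Subgroup G, ∃ a : G, E ≤ K.map (MulAut.conj a).toMonoidHom ∧
      normalizer ((centralizer ({x} : Set G) : Subgroup G) : Set G) = centralizer ({x} : Set G) ⊔ E ∧
      centralizer ({x} : Set G) ⊓ E = ⊥ ∧ Even (Nat.card ↥E) ∧
      Nat.card ↥(centralizer ({x} : Set G)) ≡ 1 [MOD Nat.card ↥E] := by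
  obtain ⟨u, hu, hux⟩ := hx.1
  obtain ⟨b, hb⟩ := exists_conj_eq h hu
  have huu := Dv.sq_of_order_two hu
  have hui := Dv.inv_of_order_two hu
  have hinvA := third_inverts_of_inverts h hx hu hux
  have huN := inverter_mem_normalizer hu hux
  set A := centralizer ({x} : Set G) with hA
  set N := normalizer (A : Set G) with hN
  have hAN : A ≤ N := le_normalizer
  have hxA : x ∈ A := self_mem_cent x
  have hinf : A ⊓ (N ⊓ centralizer ({u} : Set G)) = ⊥ := by
    rw [eq_bot_iff]
    intro c hc
    rw [Subgroup.mem_bot]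
    obtain ⟨hcA, hcE⟩ := Subgroup.mem_inf.mp hc
    have hcu := (Subgroup.mem_inf.mp hcE).2
    rw [mem_centralizer_singleton_iff] at hcu
    exact fix_trivial h hx hu hcA hcu.symm
  refine ⟨N ⊓ centralizer ({u} : Set G), b, ?_, ?_, hinf, ?_, ?_⟩
  · -- E ≤ K^b
    intro e he
    obtain ⟨heN, heu⟩ := Subgroup.mem_inf.mp he
    rw [mem_centralizer_singleton_iff] at heu
    rw [mem_map]
    have hkH : b⁻¹ * e * b ∈ centralizer ({t} : Set G) := by
      rw [mem_centralizer_singleton_iff]
      have e1 : t = b⁻¹ * u * b := by rw [← hb]; group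
      rw [e1]
      calc b⁻¹ * e * b * (b⁻¹ * u * b) = b⁻¹ * (e * u) * b := by group
        _ = b⁻¹ * (u * e) * b := by rw [heu]
        _ = b⁻¹ * u * b * (b⁻¹ * e * b) := by group
    have hkK : b⁻¹ * e * b ∈ K := by
      by_contra hkK
      have hk2 := order_two_of_not_mem h hkH hkK
      have he2 : orderOf e = 2 := by
        have := orderOf_conj' b⁻¹ e
        rw [inv_inv] at this
        rw [← this]; exact hk2
      have heinv := third_inverts h hx e he2 heN x hxA
      have hmem := mul_mem_cent_of_inverts hux heinv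
      have hsq : (e * u) * (e * u) = 1 := by
        calc (e * u) * (e * u) = e * (u * e) * u := by group
          _ = e * (e * u) * u := by rw [heu]
          _ = (e * e) * (u * u) := by group
          _ = 1 := by rw [Dv.sq_of_order_two he2, huu, one_mul]
      have heu1 : e * u = 1 := by
        by_contra hne
        have ho := Dv.order_two_of_sq hsq hne
        exact hne (fix_trivial h hx ho hmem rfl)
      have heq : e = u := by
        have : e = u⁻¹ := eq_inv_of_mul_eq_one_left heu1
        rw [this, hui]
      apply hkK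
      have : b⁻¹ * e * b = t := by rw [heq, ← hb]; group
      rw [this]; exact h.htK
    exact ⟨b⁻¹ * e * b, hkK, by rw [MulEquiv.coe_toMonoidHom, MulAut.conj_apply]; group⟩
  · -- N = A ⊔ E
    apply le_antisymm
    · intro g hg
      set w := g * u * g⁻¹ with hw
      have hw2 : orderOf w = 2 := by rw [hw, orderOf_conj']; exact hu
      have hwN : w ∈ N := N.mul_mem (N.mul_mem hg huN) (N.inv_mem hg)
      have hwinv := third_inverts h hx w hw2 hwN x hxA
      have haA : w * u ∈ A := mul_mem_cent_of_inverts hux hwinv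
      obtain ⟨c, hcA, hcc⟩ := exists_sq_eq A (third_odd h hx) haA
      have hc1 : u * c⁻¹ * u⁻¹ = c := by
        have := hinvA c⁻¹ (A.inv_mem hcA)
        rwa [inv_inv] at this
      have hcw : c * u * c⁻¹ = w := by
        calc c * u * c⁻¹ = c * (u * c⁻¹ * u⁻¹) * u := by group
          _ = (c * c) * u := by rw [hc1]
          _ = w * u * u := by rw [hcc]
          _ = w := by rw [mul_assoc, huu, mul_one]
      have hd : c⁻¹ * g ∈ N ⊓ centralizer ({u} : Set G) := by
        refine Subgroup.mem_inf.mpr ⟨N.mul_mem (N.inv_mem (hAN hcA)) hg, ?_⟩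
        rw [mem_centralizer_singleton_iff]
        have e1 : g * u = w * g := by rw [hw]; group
        calc c⁻¹ * g * u = c⁻¹ * (g * u) := by group
          _ = c⁻¹ * (w * g) := by rw [e1]
          _ = c⁻¹ * (c * u * c⁻¹ * g) := by rw [hcw]
          _ = u * (c⁻¹ * g) := by group
      have : g = c * (c⁻¹ * g) := by group
      rw [this]
      exact Subgroup.mul_mem_sup hcA hd
    · exact sup_le hAN inf_le_left
  · -- even
    have huE : u ∈ N ⊓ centralizer ({u} : Set G) :=
      Subgroup.mem_inf.mpr ⟨huN, by rw [mem_centralizer_singleton_iff]⟩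
    have h1 : orderOf (⟨u, huE⟩ : ↥(N ⊓ centralizer ({u} : Set G))) = 2 := by
      rw [← Subgroup.orderOf_coe]; exact hu
    have h2 := orderOf_dvd_natCard (⟨u, huE⟩ : ↥(N ⊓ centralizer ({u} : Set G)))
    rw [h1] at h2
    exact (even_iff_two_dvd).mpr h2
  · -- congruence
    have hdvd := card_dvd_of_semiregular A (N ⊓ centralizer ({u} : Set G))
      (by
        intro m hm c hc
        have hmN := (Subgroup.mem_inf.mp hm).1
        exact (mem_normalizer_iff.mp hmN c).mp hc)
      (by
        intro m hm c hc hc1 hmc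
        have hmA : m ∈ A := by
          rw [hA, ← third_cent_eq h hx hc hc1, mem_centralizer_singleton_iff]
          exact hmc
        have : m ∈ A ⊓ (N ⊓ centralizer ({u} : Set G)) := Subgroup.mem_inf.mpr ⟨hmA, hm⟩
        rw [hinf, Subgroup.mem_bot] at this
        exact this)
    have hpos : 1 ≤ Nat.card ↥A := Nat.card_pos
    exact ((Nat.modEq_iff_dvd' hpos).mpr hdvd).symm

/-- (E10i) -/
theorem third_index_modEq (h : Hyp t K s) {x : G} (hx : Third K x) :
    (normalizer ((centralizer ({x} : Set G) : Subgroup G) : Set G)).index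
      ≡ 1 [MOD Nat.card ↥(centralizer ({x} : Set G))] := by
  set A := centralizer ({x} : Set G) with hA
  set N := normalizer (A : Set G) with hN
  apply index_modEq_of_free A N le_normalizer
  intro a ha ha1 g hg
  -- a' = g⁻¹ a g ∈ N, claim a' ∈ A
  have hclaim : g⁻¹ * a * g ∈ A := by
    by_contra hnA
    have hdvd := card_dvd_of_semiregular A (zpowers (g⁻¹ * a * g))
      (by
        intro m hm c hc
        have hmN : m ∈ N := (zpowers_le.mpr hg) hm
        exact (mem_normalizer_iff.mp hmN c).mp hc)
      (by
        intro m hm c hc hc1 hmc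
        by_contra hm1
        have hmA : m ∈ A := by
          rw [hA, ← third_cent_eq h hx hc hc1, mem_centralizer_singleton_iff]
          exact hmc
        apply hnA
        rw [hA, ← third_cent_eq h hx hmA hm1, mem_centralizer_singleton_iff]
        obtain ⟨k, rfl⟩ := mem_zpowers_iff.mp hm
        exact (Commute.zpow_right (Commute.refl _) k).eq)
    rw [Nat.card_zpowers, show g⁻¹ * a * g = g⁻¹ * a * g⁻¹⁻¹ by group, orderOf_conj'] at hdvd
    have hdvd2 : orderOf a ∣ Nat.card ↥A := by
      have := orderOf_dvd_natCard (⟨a, ha⟩ : ↥A)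
      rwa [← Subgroup.orderOf_coe] at this
    have hpos : 1 ≤ Nat.card ↥A := Nat.card_pos
    have h1 : orderOf a ∣ 1 := by
      have := Nat.dvd_sub hdvd2 hdvd
      have e : Nat.card ↥A - (Nat.card ↥A - 1) = 1 := by omega
      rwa [e] at this
    have : orderOf a = 1 := Nat.dvd_one.mp h1
    exact ha1 (orderOf_eq_one_iff.mp this)
  have hgi : g⁻¹ ∈ N := by
    apply third_ti h hx g⁻¹
    refine ⟨a, ha, ha1, ?_⟩
    rw [inv_inv]; exact hclaim
  have := N.inv_mem hgi
  rwa [inv_inv] at this

/-- (E10) -/
theorem thirdFacts (h : Hyp t K s) {x : G} (hx : Third K x) :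
    ThirdFacts K (centralizer ({x} : Set G)) where
  comm := fun a ha b hb => third_comm h hx ha hb
  odd := third_odd h hx
  cent := fun y hy hy1 => third_cent_eq h hx hy hy1
  third := fun y hy hy1 => third_of_mem h hx hy hy1
  inverts := fun u hu huN => third_inverts h hx u hu huN
  psi_eq := fun y hy hy1 => third_psi h hx hy hy1
  compl := third_compl h hx
  ti := fun g hg => third_ti h hx g hg
  index_modEq := third_index_modEq h hx

/-- Part E: the elementary facts -/
theorem eFacts (h : Hyp t K s) : EFacts t K where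
  card_H := card_H h
  normalizer_eq := fun X hXK hX => normalizer_eq h X hXK hX
  invol_of_not_mem := fun x hx hxK => order_two_of_not_mem h hx hxK
  real_of_mem_H := fun x hx => real_of_mem_H h hx
  real_of_conjK := fun g hg => real_of_conjK h hg
  centralizer_le := fun x hx hx1 => centralizer_le h hx hx1
  card_G := card_G h
  real_of_psi := fun g hg => real_of_psi hg
  counting := counting h
  card_conjK := card_conjK h
  third := fun x hx => thirdFacts h hx

end Cfsg.Agent.Lib.Helper1.BswE
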