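import Mathlib
import Cfsg.Agent.Lib.Helper1.Dv1

set_option autoImplicit false
set_option maxHeartbeats 4000000
set_option linter.unusedVariables false
set_option linter.unusedSectionVars false
set_option linter.style.longLine false
set_option linter.unusedSimpArgs false
set_option linter.deprecated false

/-! Counting products of two involutions in a group with a self-centralizing four-group. -/

namespace Cfsg.Agent.Lib.Helper1.Dv

open Subgroup
open scoped Classical

variable {K : Type*} [Group K] [Fintype K]

/-- the involutions -/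
noncomputable def invols (K : Type*) [Group K] [Fintype K] : Finset K :=
  Finset.univ.filter (fun t => orderOf t = 2)

theorem mem_invols {t : K} : t ∈ invols K ↔ orderOf t = 2 := by simp [invols]

/-- strongly real elements of odd order -/
def IsSR (y : K) : Prop := y * y ≠ 1 ∧ ∃ s : K, orderOf s = 2 ∧ s * y * s⁻¹ = y⁻¹

noncomputable def srSet (K : Type*) [Group K] [Fintype K] : Finset K :=
  Finset.univ.filter (fun y => IsSR y)

theorem mem_srSet {y : K} : y ∈ srSet K ↔ IsSR y := by simp [srSet]

/-- number of ways of writing `y` as a product of two involutions -/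
noncomputable def beta (y : K) : ℕ := ((invols K).filter (fun s => s * y ∈ invols K)).card

noncomputable def centF (y : K) : Finset K := Finset.univ.filter (fun c => c * y = y * c)

theorem mem_centF {y c : K} : c ∈ centF y ↔ c * y = y * c := by simp [centF]

theorem card_centF (y : K) : (centF y).card = Nat.card (centralizer ({y} : Set K)) := by
  symm
  apply Nat.subtype_card
  intro c; rw [mem_centF, mem_cent]

theorem sum_beta : ∑ y : K, beta y = (invols K).card * (invols K).card := by
  have h1 : ∀ y : K, beta y = ∑ s ∈ invols K, if s * y ∈ invols K then 1 else 0 := by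
    intro y; unfold beta; rw [Finset.card_filter]
  simp_rw [h1]
  rw [Finset.sum_comm]
  have h2 : ∀ s ∈ invols K, (∑ y : K, if s * y ∈ invols K then 1 else 0) = (invols K).card := by
    intro s _
    rw [← Finset.card_filter]
    apply Finset.card_bij (fun y _ => s * y)
    · intro y hy; simpa using hy
    · intro a _ b _ hab; exact mul_left_cancel hab
    · intro b hb; exact ⟨s⁻¹ * b, by simp [hb], by simp⟩
  rw [Finset.sum_congr rfl h2, Finset.sum_const, smul_eq_mul]

theorem invol_mul_iff {s y : K} (hs : orderOf s = 2) (hy : y * y ≠ 1) :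
    orderOf (s * y) = 2 ↔ s * y * s⁻¹ = y⁻¹ := by
  have hsi := inv_of_order_two hs
  have hss := sq_of_order_two hs
  constructor
  · intro h
    have h1 := sq_of_order_two h
    rw [hsi]
    calc s * y * s = (s * y) * (s * y) * y⁻¹ := by group
      _ = y⁻¹ := by rw [h1, one_mul]
  · intro h
    apply order_two_of_sq
    · calc s * y * (s * y) = (s * y * s⁻¹) * (s * s) * y := by group
        _ = 1 := by rw [h, hss, mul_one, inv_mul_cancel]
    · intro h0
      apply hy
      have : y = s⁻¹ := by
        calc y = s⁻¹ * (s * y) := by group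
          _ = s⁻¹ := by rw [h0, mul_one]
      rw [this, hsi, hss]

theorem beta_one : beta (1 : K) = (invols K).card := by
  unfold beta; congr 1; ext s; simp

theorem beta_invol {x : K} (h : V4Hyp x) {t : K} (ht : orderOf t = 2) : beta t = 2 := by
  have hT := h.of_invol ht
  have hcard : (centF t).card = 4 := by rw [card_centF]; exact hT.card4
  have hfil : (invols K).filter (fun s => s * t ∈ invols K) = ((centF t).erase 1).erase t := by
    ext s
    simp only [Finset.mem_filter, mem_invols, Finset.mem_erase, mem_centF]
    constructor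
    · rintro ⟨hs, hst⟩
      refine ⟨?_, ne_one_of_order_two hs, ?_⟩
      · rintro rfl
        rw [sq_of_order_two hs] at hst; simp at hst
      · have h1 := inv_of_order_two hst
        calc s * t = (s * t)⁻¹ := h1.symm
          _ = t⁻¹ * s⁻¹ := by group
          _ = t * s := by rw [inv_of_order_two ht, inv_of_order_two hs]
    · rintro ⟨hne, hs1, hc⟩
      have hss : s * s = 1 := hT.exp2 s (mem_cent.mpr hc)
      refine ⟨order_two_of_sq hss hs1, order_two_of_sq ?_ ?_⟩
      · calc s * t * (s * t) = s * (t * s) * t := by group
          _ = s * (s * t) * t := by rw [hc]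
          _ = (s * s) * (t * t) := by group
          _ = 1 := by rw [hss, sq_of_order_two ht, one_mul]
      · intro h0
        apply hne
        calc s = (s * t) * t⁻¹ := by group
          _ = t := by rw [h0, one_mul, inv_of_order_two ht]
  have h1mem : (1 : K) ∈ centF t := by rw [mem_centF]; simp
  have htmem : t ∈ (centF t).erase 1 := by
    rw [Finset.mem_erase, mem_centF]; exact ⟨ne_one_of_order_two ht, rfl⟩
  unfold beta
  rw [hfil, Finset.card_erase_of_mem htmem, Finset.card_erase_of_mem h1mem, hcard]

theorem beta_sr {x : K} (h : V4Hyp x) {y s0 : K} (hy : y * y ≠ 1) (hs0 : orderOf s0 = 2)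
    (hinv : s0 * y * s0⁻¹ = y⁻¹) : beta y = Nat.card (centralizer ({y} : Set K)) := by
  rw [← card_centF]
  have hfil : (invols K).filter (fun s => s * y ∈ invols K)
      = (centF y).image (fun c => s0 * c) := by
    ext s
    simp only [Finset.mem_filter, mem_invols, Finset.mem_image, mem_centF]
    constructor
    · rintro ⟨hs, hsy⟩
      have hsinv := (invol_mul_iff hs hy).mp hsy
      refine ⟨s0⁻¹ * s, ?_, by group⟩
      have h1 : s0⁻¹ * y⁻¹ * s0 = y := by
        calc s0⁻¹ * y⁻¹ * s0 = s0⁻¹ * (s0 * y * s0⁻¹) * s0 := by rw [hinv]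
          _ = y := by group
      have h2 : s * y = y⁻¹ * s := by
        calc s * y = (s * y * s⁻¹) * s := by group
          _ = y⁻¹ * s := by rw [hsinv]
      calc s0⁻¹ * s * y = s0⁻¹ * (s * y) := by group
        _ = s0⁻¹ * (y⁻¹ * s) := by rw [h2]
        _ = (s0⁻¹ * y⁻¹ * s0) * (s0⁻¹ * s) := by group
        _ = y * (s0⁻¹ * s) := by rw [h1]
    · rintro ⟨c, hc, rfl⟩
      have hcm : c ∈ centralizer ({y} : Set K) := mem_cent.mpr hc
      have hci := h.inverts_cent hy hs0 hinv c hcm
      have hs0i := inv_of_order_two hs0
      have hs0s := sq_of_order_two hs0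
      have hord : orderOf (s0 * c) = 2 := by
        apply order_two_of_sq
        · calc s0 * c * (s0 * c) = (s0 * c * s0⁻¹) * (s0 * s0) * c := by group
            _ = 1 := by rw [hci, hs0s, mul_one, inv_mul_cancel]
        · intro h0
          have : s0 = c⁻¹ := by
            calc s0 = (s0 * c) * c⁻¹ := by group
              _ = c⁻¹ := by rw [h0, one_mul]
          have hm : s0 ∈ centralizer ({y} : Set K) := by rw [this]; exact inv_mem hcm
          exact h.no_comm hy hs0 (mem_cent.mp hm).symm
      refine ⟨hord, (invol_mul_iff hord hy).mpr ?_⟩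
      calc s0 * c * y * (s0 * c)⁻¹ = s0 * (c * y) * c⁻¹ * s0⁻¹ := by group
        _ = s0 * (y * c) * c⁻¹ * s0⁻¹ := by rw [hc]
        _ = s0 * y * s0⁻¹ := by group
        _ = y⁻¹ := hinv
  unfold beta
  rw [hfil, Finset.card_image_of_injective _ (mul_right_injective s0)]

theorem beta_other {y : K} (h1 : y ≠ 1) (h2 : orderOf y ≠ 2) (h3 : ¬ IsSR y) : beta y = 0 := by
  unfold beta
  rw [Finset.card_eq_zero, Finset.filter_eq_empty_iff]
  intro s hs hsy
  rw [mem_invols] at hs hsy
  have hy : y * y ≠ 1 := fun h0 => h2 (order_two_of_sq h0 h1)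
  exact h3 ⟨hy, s, hs, (invol_mul_iff hs hy).mp hsy⟩

theorem count_eq {x : K} (h : V4Hyp x) :
    (invols K).card * (invols K).card = (invols K).card + 2 * (invols K).card
      + ∑ y ∈ srSet K, Nat.card (centralizer ({y} : Set K)) := by
  rw [← sum_beta]
  have hpt : ∀ y : K, beta y = (if y = 1 then (invols K).card else 0)
      + (if y ∈ invols K then 2 else 0)
      + (if y ∈ srSet K then Nat.card (centralizer ({y} : Set K)) else 0) := by
    intro y
    by_cases hy1 : y = 1
    · subst hy1
      have h0 : (1 : K) ∉ invols K := by simp [mem_invols]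
      have h' : (1 : K) ∉ srSet K := by simp [mem_srSet, IsSR]
      simp [beta_one, h0, h']
    · by_cases hy2 : orderOf y = 2
      · have h0 : y ∈ invols K := mem_invols.mpr hy2
        have h' : y ∉ srSet K := by
          rw [mem_srSet]
          intro hh; exact hh.1 (sq_of_order_two hy2)
        simp [hy1, h0, h', beta_invol h hy2]
      · have h0 : y ∉ invols K := fun hh => hy2 (mem_invols.mp hh)
        by_cases hy3 : IsSR y
        · have h' : y ∈ srSet K := mem_srSet.mpr hy3
          obtain ⟨hyy, s, hs, hinv⟩ := hy3
          simp [hy1, h0, h', beta_sr h hyy hs hinv]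
        · have h' : y ∉ srSet K := fun hh => hy3 (mem_srSet.mp hh)
          simp [hy1, h0, h', beta_other hy1 hy2 hy3]
  simp_rw [hpt]
  rw [Finset.sum_add_distrib, Finset.sum_add_distrib]
  congr 1
  · congr 1
    · simp
    · rw [Finset.sum_ite_mem, Finset.univ_inter, Finset.sum_const, smul_eq_mul, mul_comm]
  · rw [Finset.sum_ite_mem, Finset.univ_inter]

theorem card_invols_mul {x : K} (h : V4Hyp x) : (invols K).card * 4 = Nat.card K := by
  have h1 := Cfsg.Agent.Lib.Helper4.card_carrier_mul_card_centralizer x
  rw [h.card4] at h1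
  rw [← h1]
  congr 1
  symm
  apply Nat.subtype_card
  intro t
  rw [mem_invols, ConjClasses.mem_carrier_iff_mk_eq, ConjClasses.mk_eq_mk_iff_isConj]
  constructor
  · intro ht; exact (h.all_conj ht).symm
  · intro ht
    exact (h.of_isConj ht.symm).ord

end Cfsg.Agent.Lib.Helper1.Dv
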