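import Mathlib
import Cfsg.Agent.Lib.Helper1.Dv2

set_option autoImplicit false
set_option maxHeartbeats 4000000
set_option linter.unusedVariables false
set_option linter.unusedSectionVars false
set_option linter.style.longLine false
set_option linter.unusedSimpArgs false
set_option linter.deprecated false

/-! Centralizers of strongly real elements: fibres, normalizers, conjugacy classes of subgroups. -/

namespace Cfsg.Agent.Lib.Helper1.Dv

open Subgroup
open scoped Classical

variable {K : Type*} [Group K] [Fintype K]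

/-- the set of centralizers of strongly real elements -/
noncomputable def cSet (K : Type*) [Group K] [Fintype K] : Finset (Subgroup K) :=
  (srSet K).image (fun y => centralizer ({y} : Set K))

/-- nonidentity elements of a subgroup -/
noncomputable def sharp (A : Subgroup K) : Finset K :=
  Finset.univ.filter (fun y => y ∈ A ∧ y ≠ 1)

theorem mem_sharp {A : Subgroup K} {y : K} : y ∈ sharp A ↔ y ∈ A ∧ y ≠ 1 := by simp [sharp]

theorem card_sharp (A : Subgroup K) : (sharp A).card + 1 = Nat.card A := by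
  have h1 : Nat.card A = (Finset.univ.filter (fun y => y ∈ A)).card :=
    Nat.subtype_card _ (by intro y; simp)
  have h2 : sharp A = (Finset.univ.filter (fun y => y ∈ A)).erase 1 := by
    ext y; simp [sharp, and_comm]
  have hmem : (1 : K) ∈ Finset.univ.filter (fun y => y ∈ A) := by simp [A.one_mem]
  rw [h1, h2, Finset.card_erase_of_mem hmem]
  have : 0 < (Finset.univ.filter (fun y => y ∈ A)).card := Finset.card_pos.mpr ⟨1, hmem⟩
  omega

theorem fiber_eq {x : K} (h : V4Hyp x) {y0 : K} (hy0 : IsSR y0) :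
    (srSet K).filter (fun y => centralizer ({y} : Set K) = centralizer ({y0} : Set K))
      = sharp (centralizer ({y0} : Set K)) := by
  obtain ⟨hyy0, s, hs, hinv⟩ := hy0
  ext y
  simp only [Finset.mem_filter, mem_srSet, mem_sharp]
  constructor
  · rintro ⟨hsr, hc⟩
    refine ⟨?_, ?_⟩
    · rw [← hc, mem_cent]
    · rintro rfl; exact hsr.1 (by simp)
  · rintro ⟨hm, hne⟩
    obtain ⟨h1, h2, h3⟩ := h.cent_eq hyy0 hs hinv hm hne
    exact ⟨⟨h1, s, hs, h2⟩, h3⟩

theorem sum_cent_eq {x : K} (h : V4Hyp x) :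
    ∑ y ∈ srSet K, Nat.card (centralizer ({y} : Set K))
      = ∑ A ∈ cSet K, (sharp A).card * Nat.card A := by
  rw [← Finset.sum_fiberwise_of_maps_to (s := srSet K) (t := cSet K)
    (g := fun y => centralizer ({y} : Set K))
    (fun y hy => Finset.mem_image_of_mem _ hy) (fun y => Nat.card (centralizer ({y} : Set K)))]
  apply Finset.sum_congr rfl
  intro A hA
  obtain ⟨y0, hy0, rfl⟩ := Finset.mem_image.mp hA
  have h1 : ∀ y ∈ (srSet K).filter (fun y => centralizer ({y} : Set K) = centralizer ({y0} : Set K)),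
      Nat.card (centralizer ({y} : Set K)) = Nat.card (centralizer ({y0} : Set K)) := by
    intro y hy
    rw [(Finset.mem_filter.mp hy).2]
  rw [Finset.sum_congr rfl h1, Finset.sum_const, smul_eq_mul, fiber_eq h (mem_srSet.mp hy0)]

theorem card_srSet_eq {x : K} (h : V4Hyp x) :
    (srSet K).card = ∑ A ∈ cSet K, (sharp A).card := by
  rw [Finset.card_eq_sum_card_fiberwise (f := fun y => centralizer ({y} : Set K))
    (s := srSet K) (t := cSet K)
    (fun y hy => Finset.mem_coe.mpr (Finset.mem_image_of_mem _ (Finset.mem_coe.mp hy)))]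
  apply Finset.sum_congr rfl
  intro A hA
  obtain ⟨y0, hy0, rfl⟩ := Finset.mem_image.mp hA
  rw [fiber_eq h (mem_srSet.mp hy0)]

theorem card_srSet_le : (srSet K).card + (invols K).card + 1 ≤ Fintype.card K := by
  have hd1 : Disjoint (srSet K) (invols K) := by
    rw [Finset.disjoint_left]; intro y hy hy'
    exact (mem_srSet.mp hy).1 (sq_of_order_two (mem_invols.mp hy'))
  have hd2 : Disjoint (srSet K ∪ invols K) {1} := by
    rw [Finset.disjoint_singleton_right, Finset.mem_union]
    rintro (h | h)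
    · exact (mem_srSet.mp h).1 (by simp)
    · have := mem_invols.mp h; simp at this
  calc (srSet K).card + (invols K).card + 1 = ((srSet K ∪ invols K) ∪ {1}).card := by
        rw [Finset.card_union_of_disjoint hd2, Finset.card_union_of_disjoint hd1,
          Finset.card_singleton]
    _ ≤ Fintype.card K := Finset.card_le_univ _

theorem inverter_coset {y s0 s : K} (hinv0 : s0 * y * s0⁻¹ = y⁻¹) (hinv : s * y * s⁻¹ = y⁻¹) :
    s0⁻¹ * s ∈ centralizer ({y} : Set K) := by
  rw [mem_cent]
  have h1 : s0⁻¹ * y⁻¹ * s0 = y := by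
    calc s0⁻¹ * y⁻¹ * s0 = s0⁻¹ * (s0 * y * s0⁻¹) * s0 := by rw [hinv0]
      _ = y := by group
  have h2 : s * y = y⁻¹ * s := by
    calc s * y = (s * y * s⁻¹) * s := by group
      _ = y⁻¹ * s := by rw [hinv]
  calc s0⁻¹ * s * y = s0⁻¹ * (s * y) := by group
    _ = s0⁻¹ * (y⁻¹ * s) := by rw [h2]
    _ = (s0⁻¹ * y⁻¹ * s0) * (s0⁻¹ * s) := by group
    _ = y * (s0⁻¹ * s) := by rw [h1]

theorem mem_normalizer_cases {x : K} (h : V4Hyp x) {y0 s0 : K} (hy0 : y0 * y0 ≠ 1)
    (hs0 : orderOf s0 = 2) (hinv0 : s0 * y0 * s0⁻¹ = y0⁻¹) {n : K}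
    (hn : n ∈ normalizer ((centralizer ({y0} : Set K) : Subgroup K) : Set K)) :
    n ∈ centralizer ({y0} : Set K) ∨ s0⁻¹ * n ∈ centralizer ({y0} : Set K) := by
  have hnA : ∀ c, c ∈ centralizer ({y0} : Set K) ↔ n * c * n⁻¹ ∈ centralizer ({y0} : Set K) :=
    mem_normalizer_iff.mp hn
  have hy0A : y0 ∈ centralizer ({y0} : Set K) := by rw [mem_cent]
  have hy01 : y0 ≠ 1 := by rintro rfl; exact hy0 (by simp)
  have hy1A : n * y0 * n⁻¹ ∈ centralizer ({y0} : Set K) := (hnA y0).mp hy0A
  have hy11 : n * y0 * n⁻¹ ≠ 1 := by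
    intro h0; apply hy01
    calc y0 = n⁻¹ * (n * y0 * n⁻¹) * n := by group
      _ = 1 := by rw [h0]; group
  obtain ⟨hy1sq, hs0y1, hCy1⟩ := h.cent_eq hy0 hs0 hinv0 hy1A hy11
  have hs1o : orderOf (n * s0 * n⁻¹) = 2 := by
    have := orderOf_injective (MulAut.conj n).toMonoidHom (MulAut.conj n).injective s0
    rw [← hs0, ← this]; rfl
  have hs1inv : (n * s0 * n⁻¹) * (n * y0 * n⁻¹) * (n * s0 * n⁻¹)⁻¹ = (n * y0 * n⁻¹)⁻¹ := by
    calc n * s0 * n⁻¹ * (n * y0 * n⁻¹) * (n * s0 * n⁻¹)⁻¹ = n * (s0 * y0 * s0⁻¹) * n⁻¹ := by group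
      _ = n * y0⁻¹ * n⁻¹ := by rw [hinv0]
      _ = (n * y0 * n⁻¹)⁻¹ := by group
  have hc : s0⁻¹ * (n * s0 * n⁻¹) ∈ centralizer ({y0} : Set K) := by
    have := inverter_coset hs0y1 hs1inv
    rw [hCy1] at this; exact this
  obtain ⟨k, hk⟩ := h.odd_card_cent hy0
  have hdA : (s0⁻¹ * (n * s0 * n⁻¹)) ^ (k + 1) ∈ centralizer ({y0} : Set K) := pow_mem hc _
  have hcpow : (s0⁻¹ * (n * s0 * n⁻¹)) ^ (2 * k + 1) = 1 := by
    have h1 : (⟨s0⁻¹ * (n * s0 * n⁻¹), hc⟩ : centralizer ({y0} : Set K))
        ^ Nat.card (centralizer ({y0} : Set K)) = 1 := pow_card_eq_one'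
    have h2 := congrArg Subtype.val h1
    rw [hk] at h2
    simpa using h2
  set c := s0⁻¹ * (n * s0 * n⁻¹) with hcdef
  set d := c ^ (k + 1) with hd
  have hdd : d * d = c := by
    rw [hd, ← pow_add]
    have : k + 1 + (k + 1) = (2 * k + 1) + 1 := by ring
    rw [this, pow_succ, hcpow, one_mul]
  have hdinv := h.inverts_cent hy0 hs0 hinv0 d hdA
  have hs0i := inv_of_order_two hs0
  have hss := sq_of_order_two hs0
  have hconj : n * s0 * n⁻¹ = d⁻¹ * s0 * d := by
    have h1 : n * s0 * n⁻¹ = s0 * c := by rw [hcdef]; group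
    have h2 : d⁻¹ * s0 = s0 * d := by
      calc d⁻¹ * s0 = (s0 * d * s0⁻¹) * s0 := by rw [hdinv]
        _ = s0 * d := by group
    rw [h1, ← hdd, h2]; group
  have hes0 : (d * n) * s0 = s0 * (d * n) := by
    have : (d * n) * s0 * (d * n)⁻¹ = s0 := by
      calc d * n * s0 * (d * n)⁻¹ = d * (n * s0 * n⁻¹) * d⁻¹ := by group
        _ = d * (d⁻¹ * s0 * d) * d⁻¹ := by rw [hconj]
        _ = s0 := by group
    calc (d * n) * s0 = ((d * n) * s0 * (d * n)⁻¹) * (d * n) := by group
      _ = s0 * (d * n) := by rw [this]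
  have hee : (d * n) * (d * n) = 1 := h.sq_of_comm hs0 hes0
  have heN : d * n ∈ normalizer ((centralizer ({y0} : Set K) : Subgroup K) : Set K) :=
    mul_mem (le_normalizer hdA) hn
  by_cases he1 : d * n = 1
  · left
    have : n = d⁻¹ := by
      calc n = d⁻¹ * (d * n) := by group
        _ = d⁻¹ := by rw [he1, mul_one]
    rw [this]; exact inv_mem hdA
  · have heo : orderOf (d * n) = 2 := order_two_of_sq hee he1
    by_cases hes : d * n = s0
    · right
      have hn' : n = d⁻¹ * s0 := by
        calc n = d⁻¹ * (d * n) := by group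
          _ = d⁻¹ * s0 := by rw [hes]
      have hd2 : d⁻¹ = s0 * d * s0 := by rw [← hdinv, hs0i]
      have : s0⁻¹ * n = d := by
        rw [hn', hs0i]
        calc s0 * (d⁻¹ * s0) = s0 * ((s0 * d * s0) * s0) := by rw [← hd2]
          _ = (s0 * s0) * d * (s0 * s0) := by group
          _ = d := by rw [hss]; simp
      rw [this]; exact hdA
    · exfalso
      have heinv := h.inverts_of_normalizes hy0 heo
        (fun c hc => (mem_normalizer_iff.mp heN c).mp hc)
      have h1 := heinv y0 hy0A
      have hcomm : ((d * n) * s0) * y0 = y0 * ((d * n) * s0) := by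
        have : ((d * n) * s0) * y0 * ((d * n) * s0)⁻¹ = y0 := by
          calc ((d * n) * s0) * y0 * ((d * n) * s0)⁻¹
              = (d * n) * (s0 * y0 * s0⁻¹) * (d * n)⁻¹ := by group
            _ = (d * n) * y0⁻¹ * (d * n)⁻¹ := by rw [hinv0]
            _ = ((d * n) * y0 * (d * n)⁻¹)⁻¹ := by group
            _ = y0 := by rw [h1, inv_inv]
        calc ((d * n) * s0) * y0
            = (((d * n) * s0) * y0 * ((d * n) * s0)⁻¹) * ((d * n) * s0) := by group
          _ = y0 * ((d * n) * s0) := by rw [this]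
      have hsq : ((d * n) * s0) * ((d * n) * s0) = 1 := by
        calc ((d * n) * s0) * ((d * n) * s0) = (d * n) * (s0 * (d * n)) * s0 := by group
          _ = (d * n) * ((d * n) * s0) * s0 := by rw [hes0]
          _ = ((d * n) * (d * n)) * (s0 * s0) := by group
          _ = 1 := by rw [hee, hss, one_mul]
      have hne : (d * n) * s0 ≠ 1 := by
        intro h0; apply hes
        calc d * n = ((d * n) * s0) * s0⁻¹ := by group
          _ = s0 := by rw [h0, one_mul, hs0i]
      exact h.no_comm hy0 (order_two_of_sq hsq hne) hcomm.symm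

theorem card_normalizer {x : K} (h : V4Hyp x) {y0 : K} (hy0 : IsSR y0) :
    Nat.card (normalizer ((centralizer ({y0} : Set K) : Subgroup K) : Set K))
      = 2 * Nat.card (centralizer ({y0} : Set K)) := by
  obtain ⟨hyy0, s0, hs0, hinv0⟩ := hy0
  have hs0N : s0 ∈ normalizer ((centralizer ({y0} : Set K) : Subgroup K) : Set K) := by
    rw [mem_normalizer_iff]
    intro a
    constructor
    · intro ha; rw [h.inverts_cent hyy0 hs0 hinv0 a ha]; exact inv_mem ha
    · intro ha
      have := h.inverts_cent hyy0 hs0 hinv0 _ ha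
      have h2 : a = s0 * (s0 * a * s0⁻¹) * s0⁻¹ := by
        rw [inv_of_order_two hs0]
        calc a = (s0 * s0) * a * (s0 * s0) := by rw [sq_of_order_two hs0]; simp
          _ = s0 * (s0 * a * s0) * s0 := by group
      rw [h2, this]; exact inv_mem ha
  have hNF : Nat.card (normalizer ((centralizer ({y0} : Set K) : Subgroup K) : Set K))
      = ((centF y0) ∪ (centF y0).image (fun c => s0 * c)).card := by
    apply Nat.subtype_card
    intro n
    rw [Finset.mem_union, Finset.mem_image, mem_centF]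
    constructor
    · rintro (hc | ⟨c, hc, rfl⟩)
      · exact le_normalizer (mem_cent.mpr hc)
      · exact mul_mem hs0N (le_normalizer (mem_cent.mpr (mem_centF.mp hc)))
    · intro hn
      rcases mem_normalizer_cases h hyy0 hs0 hinv0 hn with h1 | h1
      · left; exact mem_cent.mp h1
      · right; exact ⟨s0⁻¹ * n, mem_centF.mpr (mem_cent.mp h1), by group⟩
  rw [hNF, Finset.card_union_of_disjoint,
    Finset.card_image_of_injective _ (mul_right_injective s0), card_centF]
  · ring
  · rw [Finset.disjoint_left]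
    intro c hc hc'
    obtain ⟨c', hc'm, hcc'⟩ := Finset.mem_image.mp hc'
    have : s0 ∈ centralizer ({y0} : Set K) := by
      have h1 : s0 = c * c'⁻¹ := by rw [← hcc']; group
      rw [h1]
      exact mul_mem (mem_cent.mpr (mem_centF.mp hc)) (inv_mem (mem_cent.mpr (mem_centF.mp hc'm)))
    exact h.no_comm hyy0 hs0 (mem_cent.mp this).symm

/-! ### conjugates of subgroups -/

/-- conjugate of a subgroup -/
def conjS (g : K) (A : Subgroup K) : Subgroup K := A.map (MulAut.conj g).toMonoidHom

theorem mem_conjS {g y : K} {A : Subgroup K} : y ∈ conjS g A ↔ g⁻¹ * y * g ∈ A := by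
  unfold conjS
  rw [Subgroup.mem_map]
  constructor
  · rintro ⟨a, ha, rfl⟩
    have e : (MulAut.conj g).toMonoidHom a = g * a * g⁻¹ := rfl
    rw [e]
    have : g⁻¹ * (g * a * g⁻¹) * g = a := by group
    rw [this]; exact ha
  · intro hy
    refine ⟨g⁻¹ * y * g, hy, ?_⟩
    have e : (MulAut.conj g).toMonoidHom (g⁻¹ * y * g) = g * (g⁻¹ * y * g) * g⁻¹ := rfl
    rw [e]; group

theorem conjS_mul (g h : K) (A : Subgroup K) : conjS (g * h) A = conjS g (conjS h A) := by
  ext y
  rw [mem_conjS, mem_conjS, mem_conjS]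
  have : (g * h)⁻¹ * y * (g * h) = h⁻¹ * (g⁻¹ * y * g) * h := by group
  rw [this]

theorem conjS_one (A : Subgroup K) : conjS 1 A = A := by
  ext y; rw [mem_conjS]; simp

theorem conjS_eq_self_iff {g : K} {A : Subgroup K} :
    conjS g A = A ↔ g ∈ normalizer (A : Set K) := by
  constructor
  · intro h
    have h1 : g⁻¹ ∈ normalizer (A : Set K) := by
      rw [mem_normalizer_iff]
      intro y
      rw [inv_inv, ← mem_conjS, h]
    simpa using inv_mem h1
  · intro h
    have h1 : g⁻¹ ∈ normalizer (A : Set K) := inv_mem h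
    ext y
    rw [mem_conjS]
    have := (mem_normalizer_iff.mp h1) y
    rw [inv_inv] at this
    exact this.symm

theorem card_conjS (g : K) (A : Subgroup K) : Nat.card (conjS g A) = Nat.card A :=
  Subgroup.card_map_of_injective (MulAut.conj g).injective

/-- conjugacy class of a subgroup -/
noncomputable def cls (A : Subgroup K) : Finset (Subgroup K) :=
  Finset.univ.image (fun g => conjS g A)

theorem mem_cls {A B : Subgroup K} : B ∈ cls A ↔ ∃ g : K, conjS g A = B := by
  simp [cls]

theorem self_mem_cls (A : Subgroup K) : A ∈ cls A := mem_cls.mpr ⟨1, conjS_one A⟩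

theorem card_cls (A : Subgroup K) :
    (cls A).card * Nat.card (normalizer (A : Set K)) = Fintype.card K := by
  have h1 : (Finset.univ : Finset K).card
      = ∑ B ∈ cls A, ((Finset.univ : Finset K).filter (fun g => conjS g A = B)).card :=
    Finset.card_eq_sum_card_fiberwise
      (fun g _ => Finset.mem_coe.mpr (Finset.mem_image_of_mem _ (Finset.mem_univ g)))
  rw [← Finset.card_univ, h1]
  have h2 : ∀ B ∈ cls A, ((Finset.univ : Finset K).filter (fun g => conjS g A = B)).card
      = Nat.card (normalizer (A : Set K)) := by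
    intro B hB
    obtain ⟨g0, rfl⟩ := mem_cls.mp hB
    have hN : Nat.card (normalizer (A : Set K))
        = (Finset.univ.filter (fun n => n ∈ normalizer (A : Set K))).card :=
      Nat.subtype_card _ (by intro n; simp)
    rw [hN]
    symm
    apply Finset.card_bij (fun n _ => g0 * n)
    · intro n hn
      simp only [Finset.mem_filter, Finset.mem_univ, true_and] at hn ⊢
      rw [conjS_mul, conjS_eq_self_iff.mpr hn]
    · intro a _ b _ hab; exact mul_left_cancel hab
    · intro g hg
      simp only [Finset.mem_filter, Finset.mem_univ, true_and] at hg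
      refine ⟨g0⁻¹ * g, ?_, by group⟩
      simp only [Finset.mem_filter, Finset.mem_univ, true_and]
      rw [← conjS_eq_self_iff, conjS_mul, hg, ← conjS_mul, inv_mul_cancel, conjS_one]
  rw [Finset.sum_congr rfl h2, Finset.sum_const, smul_eq_mul]

theorem cls_disjoint {A B : Subgroup K} (hB : B ∉ cls A) : Disjoint (cls A) (cls B) := by
  rw [Finset.disjoint_left]
  intro D hDA hDB
  obtain ⟨g, rfl⟩ := mem_cls.mp hDA
  obtain ⟨g', hg'⟩ := mem_cls.mp hDB
  apply hB
  refine mem_cls.mpr ⟨g'⁻¹ * g, ?_⟩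
  rw [conjS_mul, ← hg', ← conjS_mul, inv_mul_cancel, conjS_one]

theorem conjS_cent (g y : K) :
    conjS g (centralizer ({y} : Set K)) = centralizer ({g * y * g⁻¹} : Set K) := by
  ext c; rw [mem_conjS, mem_cent, mem_cent]
  constructor
  · intro h
    calc c * (g * y * g⁻¹) = g * ((g⁻¹ * c * g) * y) * g⁻¹ := by group
      _ = g * (y * (g⁻¹ * c * g)) * g⁻¹ := by rw [h]
      _ = g * y * g⁻¹ * c := by group
  · intro h
    calc g⁻¹ * c * g * y = g⁻¹ * (c * (g * y * g⁻¹)) * g := by group
      _ = g⁻¹ * ((g * y * g⁻¹) * c) * g := by rw [h]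
      _ = y * (g⁻¹ * c * g) := by group

theorem isSR_conj {y : K} (hy : IsSR y) (g : K) : IsSR (g * y * g⁻¹) := by
  obtain ⟨h1, s, hs, hinv⟩ := hy
  refine ⟨?_, g * s * g⁻¹, ?_, ?_⟩
  · intro h0; apply h1
    calc y * y = g⁻¹ * ((g * y * g⁻¹) * (g * y * g⁻¹)) * g := by group
      _ = 1 := by rw [h0]; group
  · have := orderOf_injective (MulAut.conj g).toMonoidHom (MulAut.conj g).injective s
    rw [← hs, ← this]; rfl
  · calc g * s * g⁻¹ * (g * y * g⁻¹) * (g * s * g⁻¹)⁻¹ = g * (s * y * s⁻¹) * g⁻¹ := by group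
      _ = g * y⁻¹ * g⁻¹ := by rw [hinv]
      _ = (g * y * g⁻¹)⁻¹ := by group

theorem cls_subset_cSet {A : Subgroup K} (hA : A ∈ cSet K) : cls A ⊆ cSet K := by
  intro B hB
  obtain ⟨g, rfl⟩ := mem_cls.mp hB
  obtain ⟨y0, hy0, rfl⟩ := Finset.mem_image.mp hA
  rw [conjS_cent]
  exact Finset.mem_image_of_mem _ (mem_srSet.mpr (isSR_conj (mem_srSet.mp hy0) g))

theorem card_sharp_of_mem_cls {A B : Subgroup K} (hB : B ∈ cls A) :
    (sharp B).card = (sharp A).card := by
  obtain ⟨g, rfl⟩ := mem_cls.mp hB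
  have h1 := card_sharp (conjS g A)
  have h2 := card_sharp A
  rw [card_conjS] at h1
  omega

theorem card_cls_mul {x : K} (h : V4Hyp x) {A : Subgroup K} (hA : A ∈ cSet K) :
    (cls A).card * ((sharp A).card + 1) = 2 * (invols K).card := by
  obtain ⟨y0, hy0, rfl⟩ := Finset.mem_image.mp hA
  have h1 := card_cls (centralizer ({y0} : Set K))
  rw [card_normalizer h (mem_srSet.mp hy0), ← Nat.card_eq_fintype_card, ← card_invols_mul h] at h1
  rw [card_sharp]
  -- cls.card * (2 * a) = m * 4
  have : 2 * ((cls (centralizer ({y0} : Set K))).card * Nat.card (centralizer ({y0} : Set K)))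
      = 2 * (2 * (invols K).card) := by
    calc 2 * ((cls (centralizer ({y0} : Set K))).card * Nat.card (centralizer ({y0} : Set K)))
        = (cls (centralizer ({y0} : Set K))).card * (2 * Nat.card (centralizer ({y0} : Set K))) := by ring
      _ = (invols K).card * 4 := h1
      _ = 2 * (2 * (invols K).card) := by ring
  exact Nat.eq_of_mul_eq_mul_left (by norm_num) this

theorem sharp_ge_two {x : K} (h : V4Hyp x) {A : Subgroup K} (hA : A ∈ cSet K) :
    2 ≤ (sharp A).card ∧ Even (sharp A).card := by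
  obtain ⟨y0, hy0, rfl⟩ := Finset.mem_image.mp hA
  have hsr := mem_srSet.mp hy0
  have hodd := h.odd_card_cent hsr.1
  have hc := card_sharp (centralizer ({y0} : Set K))
  have hne : (sharp (centralizer ({y0} : Set K))).card ≠ 0 := by
    intro h0
    rw [Finset.card_eq_zero] at h0
    have : y0 ∈ sharp (centralizer ({y0} : Set K)) := by
      rw [mem_sharp, mem_cent]
      refine ⟨rfl, ?_⟩
      rintro rfl; exact hsr.1 (by simp)
    rw [h0] at this; simp at this
  obtain ⟨k, hk⟩ := hodd
  constructor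
  · omega
  · exact ⟨k, by omega⟩

end Cfsg.Agent.Lib.Helper1.Dv
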