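import Mathlib
import Cfsg.Agent.Lib.Helper1.Dv3

set_option autoImplicit false
set_option maxHeartbeats 4000000
set_option linter.unusedVariables false
set_option linter.unusedSectionVars false
set_option linter.style.longLine false
set_option linter.unusedSimpArgs false
set_option linter.deprecated false

/-! Arithmetic endgame: a group with a self-centralizing four-group (one class of involutions)
has order 12 or 60. -/

namespace Cfsg.Agent.Lib.Helper1.Dv

open Subgroup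

theorem endgame {ι : Type*} [DecidableEq ι] (𝒜 : Finset ι) (c : ι → ℕ) (cls : ι → Finset ι)
    (m : ℕ) (hm : 0 < m)
    (hc2 : ∀ A ∈ 𝒜, 2 ≤ c A) (hev : ∀ A ∈ 𝒜, Even (c A))
    (hsub : ∀ A ∈ 𝒜, cls A ⊆ 𝒜)
    (hconst : ∀ A ∈ 𝒜, ∀ B ∈ cls A, c B = c A)
    (hcard : ∀ A ∈ 𝒜, (cls A).card * (c A + 1) = 2 * m)
    (hdisj : ∀ A ∈ 𝒜, ∀ B ∈ 𝒜, B ∉ cls A → Disjoint (cls A) (cls B))
    (hE1 : m * m = 3 * m + ∑ A ∈ 𝒜, c A * (c A + 1))
    (hE2 : ∑ A ∈ 𝒜, c A + m + 1 ≤ 4 * m) : m = 3 ∨ m = 15 := by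
  by_cases hne : 𝒜.Nonempty
  swap
  · left
    rw [Finset.not_nonempty_iff_eq_empty] at hne
    rw [hne, Finset.sum_empty, add_zero] at hE1
    exact Nat.eq_of_mul_eq_mul_right hm hE1
  right
  obtain ⟨A1, hA1, hmax1⟩ := Finset.exists_max_image 𝒜 c hne
  have hc1_2 := hc2 A1 hA1
  have hX1sub := hsub A1 hA1
  have hS1X1 : ∑ A ∈ cls A1, c A * (c A + 1) = c A1 * (2 * m) := by
    rw [Finset.sum_congr rfl (fun B hB => by rw [hconst A1 hA1 B hB]), Finset.sum_const,
      smul_eq_mul, ← hcard A1 hA1]; ring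
  have hS0X1 : ∑ A ∈ cls A1, c A = (cls A1).card * c A1 := by
    rw [Finset.sum_congr rfl (fun B hB => hconst A1 hA1 B hB), Finset.sum_const, smul_eq_mul]
  have hsplit1 := Finset.sum_sdiff (f := fun A => c A * (c A + 1)) hX1sub
  have hsplit0 := Finset.sum_sdiff (f := fun A => c A) hX1sub
  have hub : ∑ A ∈ 𝒜, c A * (c A + 1) ≤ (c A1 + 1) * ∑ A ∈ 𝒜, c A := by
    rw [Finset.mul_sum]
    apply Finset.sum_le_sum
    intro A hA
    have := hmax1 A hA
    nlinarith
  have hn1c := hcard A1 hA1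
  have hodd1 : Odd (c A1 + 1) := (hev A1 hA1).add_one
  have hdvd : (c A1 + 1) ∣ m := by
    have : (c A1 + 1) ∣ 2 * m := ⟨(cls A1).card, by rw [← hn1c]; ring⟩
    exact (hodd1.coprime_two_right).dvd_of_dvd_mul_left this
  obtain ⟨k, hk⟩ := hdvd
  generalize hc1 : c A1 = c1 at *
  generalize hn1 : (cls A1).card = n1 at *
  generalize hS1 : ∑ A ∈ 𝒜, c A * (c A + 1) = S1 at *
  generalize hS0 : ∑ A ∈ 𝒜, c A = S0 at *
  generalize hS1' : ∑ A ∈ 𝒜 \ cls A1, c A * (c A + 1) = S1' at *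
  generalize hS0' : ∑ A ∈ 𝒜 \ cls A1, c A = S0' at *
  rw [hS1X1] at hsplit1
  rw [hS0X1] at hsplit0
  -- lower bound
  have hlow : 3 + 2 * c1 ≤ m := by
    have h1 : 3 * m + c1 * (2 * m) ≤ m * m := by rw [hE1, ← hsplit1]; omega
    by_contra hlt; push_neg at hlt
    nlinarith
  have hupp : m * m + (c1 + 1) ≤ 3 * m + (c1 + 1) * (3 * m) := by
    have h1 : S0 + 1 ≤ 3 * m := by omega
    have h2 : (c1 + 1) * (S0 + 1) ≤ (c1 + 1) * (3 * m) := Nat.mul_le_mul_left _ h1
    nlinarith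
  have hm_le : m ≤ 3 * c1 + 5 := by
    by_contra hlt; push_neg at hlt
    have : m * (3 * c1 + 6) ≤ m * m := Nat.mul_le_mul_left _ hlt
    nlinarith
  have hk3 : k = 3 := by
    have h1 : 2 < k := by
      by_contra h; push_neg at h
      have : (c1 + 1) * k ≤ (c1 + 1) * 2 := Nat.mul_le_mul_left _ h
      omega
    have h2 : k < 4 := by
      by_contra h; push_neg at h
      have : (c1 + 1) * 4 ≤ (c1 + 1) * k := Nat.mul_le_mul_left _ h
      omega
    omega
  subst hk3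
  have hm3 : m = 3 * c1 + 3 := by rw [hk]; ring
  have hn16 : n1 = 6 := by
    have : n1 * (c1 + 1) = 6 * (c1 + 1) := by rw [hn1c, hk]; ring
    exact Nat.eq_of_mul_eq_mul_right (by omega) this
  subst hn16
  have hS1'val : S1' = 3 * c1 * (c1 + 1) := by
    have h1 : S1' + c1 * (2 * m) + 3 * m = m * m := by rw [hE1, ← hsplit1]; ring
    rw [hm3] at h1
    nlinarith
  have hS0'le : S0' ≤ 3 * c1 + 8 := by omega
  have hne' : (𝒜 \ cls A1).Nonempty := by
    rw [Finset.nonempty_iff_ne_empty]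
    intro h0
    rw [h0, Finset.sum_empty] at hS1'
    have : 0 < 3 * c1 * (c1 + 1) := by positivity
    omega
  obtain ⟨B, hB, hmax2⟩ := Finset.exists_max_image (𝒜 \ cls A1) c hne'
  obtain ⟨hB𝒜, hBn⟩ := Finset.mem_sdiff.mp hB
  have hc2_2 := hc2 B hB𝒜
  have hX2sub : cls B ⊆ 𝒜 \ cls A1 := by
    intro D hD
    rw [Finset.mem_sdiff]
    refine ⟨hsub B hB𝒜 hD, ?_⟩
    exact Finset.disjoint_right.mp (hdisj A1 hA1 B hB𝒜 hBn) hD
  have hS1X2 : ∑ A ∈ cls B, c A * (c A + 1) = c B * (2 * m) := by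
    rw [Finset.sum_congr rfl (fun D hD => by rw [hconst B hB𝒜 D hD]), Finset.sum_const,
      smul_eq_mul, ← hcard B hB𝒜]; ring
  have hle2 : c B * (2 * m) ≤ S1' := by
    rw [← hS1X2, ← hS1']
    exact Finset.sum_le_sum_of_subset hX2sub
  have hub2 : S1' ≤ (c B + 1) * S0' := by
    rw [← hS1', ← hS0', Finset.mul_sum]
    apply Finset.sum_le_sum
    intro A hA
    have := hmax2 A hA
    nlinarith
  generalize hc2' : c B = c2 at *
  -- 2 c2 ≤ c1
  have h2c2 : 2 * c2 ≤ c1 := by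
    rw [hS1'val, hm3] at hle2
    -- c2 * (2 * (3c1+3)) ≤ 3 c1 (c1+1)  →  c2 * 6 (c1+1) ≤ 3 c1 (c1+1)
    have h1 : (2 * c2) * (3 * (c1 + 1)) ≤ c1 * (3 * (c1 + 1)) := by nlinarith
    exact Nat.le_of_mul_le_mul_right h1 (by omega)
  -- 3c1(c1+1) ≤ (c2+1)(3c1+8)
  have h3 : 3 * c1 * (c1 + 1) ≤ (c2 + 1) * (3 * c1 + 8) := by
    calc 3 * c1 * (c1 + 1) = S1' := hS1'val.symm
      _ ≤ (c2 + 1) * S0' := hub2
      _ ≤ (c2 + 1) * (3 * c1 + 8) := Nat.mul_le_mul_left _ hS0'le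
  have hc1le : c1 ≤ 4 := by
    by_contra hlt; push_neg at hlt
    have h4 : 2 * (c2 + 1) ≤ c1 + 2 := by omega
    have h5 : 2 * ((c2 + 1) * (3 * c1 + 8)) ≤ (c1 + 2) * (3 * c1 + 8) := by nlinarith
    nlinarith
  obtain ⟨j, hj⟩ := hev A1 hA1
  omega

/-- **Self-centralizing four-group theorem**: if `C(x)` is a four-group all of whose involutions
are conjugate to `x`, then the group has order 12 or 60. -/
theorem v4_card {K : Type*} [Group K] [Finite K] {x : K} (h : V4Hyp x) :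
    Nat.card K = 12 ∨ Nat.card K = 60 := by
  classical
  haveI := Fintype.ofFinite K
  have hm4 := card_invols_mul h
  have hmpos : 0 < (invols K).card := Finset.card_pos.mpr ⟨x, mem_invols.mpr h.ord⟩
  have hE1 := count_eq h
  rw [sum_cent_eq h] at hE1
  have hE2 := card_srSet_le (K := K)
  rw [card_srSet_eq h, ← Nat.card_eq_fintype_card, ← hm4] at hE2
  have := endgame (cSet K) (fun A => (sharp A).card) cls (invols K).card hmpos
    (fun A hA => (sharp_ge_two h hA).1) (fun A hA => (sharp_ge_two h hA).2)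
    (fun A hA => cls_subset_cSet hA)
    (fun A hA B hB => card_sharp_of_mem_cls hB)
    (fun A hA => card_cls_mul h hA)
    (fun A hA B hB hn => cls_disjoint hn)
    ?_ ?_
  · rcases this with h3 | h15
    · left; omega
    · right; omega
  · rw [hE1]
    have : ∀ A ∈ cSet K, (sharp A).card * Nat.card A
        = (sharp A).card * ((sharp A).card + 1) := fun A _ => by rw [card_sharp]
    rw [Finset.sum_congr rfl this]; ring
  · omega

end Cfsg.Agent.Lib.Helper1.Dv
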