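import Mathlib
import Cfsg.Agent.Lib.Helper1.BswE5
import Cfsg.Agent.Lib.Helper1.Dv4

set_option autoImplicit false
set_option maxHeartbeats 4000000
set_option maxRecDepth 100000
set_option linter.unusedVariables false
set_option linter.unusedSectionVars false
set_option linter.style.longLine false
set_option linter.unusedSimpArgs false
set_option linter.deprecated false

/-! Brauer–Suzuki–Wall (abstract form): the case `|K| = 2` (`|G| ∈ {12, 60}`). -/

namespace Cfsg.Agent.Lib.Helper1.BswE

open Subgroup Cfsg.Agent.Lib.Helper7.Bsw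
open scoped Classical

variable {G : Type*} [Group G] [Finite G] {t s : G} {K : Subgroup G}

theorem sq_eq_one_of_card_two (hk : Nat.card ↥K = 2) {c : G} (hc : c ∈ K) : c * c = 1 := by
  have h0 := pow_card_eq_one' (G := ↥K) (x := ⟨c, hc⟩)
  have h0' := congrArg Subtype.val h0
  rw [Subgroup.coe_pow, Subgroup.coe_one, hk, pow_two] at h0'
  exact h0'

theorem v4Hyp_of_card_two (h : Hyp t K s) (hk : Nat.card ↥K = 2) : Dv.V4Hyp t where
  ord := h.ht
  card4 := by rw [card_H h, hk]
  exp2 := by
    intro c hc
    by_cases hcK : c ∈ K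
    · exact sq_eq_one_of_card_two hk hcK
    · exact Dv.sq_of_order_two (order_two_of_not_mem h hc hcK)
  conj := by
    intro v hv hv1
    apply h.hconj t v h.ht
    by_cases hvK : v ∈ K
    · exact Dv.order_two_of_sq (sq_eq_one_of_card_two hk hvK) hv1
    · exact order_two_of_not_mem h hv hvK

/-- for `|K| = 2` elements conjugate into `K` have square one -/
theorem sq_eq_one_of_conjK (hk : Nat.card ↥K = 2) {g : G} (hg : ConjK K g) : g * g = 1 := by
  obtain ⟨a, ha⟩ := hg
  have := sq_eq_one_of_card_two hk ha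
  calc g * g = a⁻¹ * ((a * g * a⁻¹) * (a * g * a⁻¹)) * a := by group
    _ = 1 := by rw [this]; group

theorem N3_eq_sum [Fintype G] : N3 K = ∑ g : G, if Third K g then psi g else 0 := by
  unfold N3
  exact card_pairs_eq_sum (G := G) (fun g => Third K g)

theorem third_ne_one {g : G} (hg : Third K g) : g ≠ 1 := by
  rintro rfl; exact hg.2 conjK_one

theorem psi_of_third (h : Hyp t K s) {g : G} (hg : Third K g) :
    psi g = Nat.card ↥(centralizer ({g} : Set G)) :=
  third_psi h hg (self_mem_cent g) (third_ne_one hg)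

/-- two distinct commuting involutions cannot both normalize a third-kind centralizer -/
theorem st_not_both (h : Hyp t K s) {x : G} (hx : Third K x)
    (hsN : s ∈ normalizer ((centralizer ({x} : Set G) : Subgroup G) : Set G))
    (htN : t ∈ normalizer ((centralizer ({x} : Set G) : Subgroup G) : Set G)) : False := by
  have h1 := third_inverts h hx s h.hs hsN x (self_mem_cent x)
  have h2 := third_inverts h hx t h.ht htN x (self_mem_cent x)
  have hmem := mul_mem_cent_of_inverts h2 h1
  have hst : s * t = t * s := by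
    have := h.hsH
    rw [mem_centralizer_singleton_iff] at this
    exact this
  have hsq : (s * t) * (s * t) = 1 := by
    calc (s * t) * (s * t) = s * (t * s) * t := by group
      _ = s * (s * t) * t := by rw [hst]
      _ = (s * s) * (t * t) := by group
      _ = 1 := by rw [s_sq h, t_sq h, one_mul]
  have hne : s * t ≠ 1 := by
    intro h0
    apply h.hsK
    have : s = t⁻¹ := eq_inv_of_mul_eq_one_left h0
    rw [this, t_inv h]; exact h.htK
  have ho := Dv.order_two_of_sq hsq hne
  exact hne (fix_trivial h hx ho hmem rfl)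

theorem isMulCommutative_map (h : Hyp t K s) (a : G) :
    IsMulCommutative ↥(K.map (MulAut.conj a).toMonoidHom) := by
  refine ⟨⟨?_⟩⟩
  rintro ⟨x, hx⟩ ⟨y, hy⟩
  apply Subtype.ext
  obtain ⟨x', hx', rfl⟩ := mem_map.mp hx
  obtain ⟨y', hy', rfl⟩ := mem_map.mp hy
  show (MulAut.conj a).toMonoidHom x' * (MulAut.conj a).toMonoidHom y'
    = (MulAut.conj a).toMonoidHom y' * (MulAut.conj a).toMonoidHom x'
  rw [← map_mul, ← map_mul, K_comm h hx' hy']

theorem card_map_conj (a : G) : Nat.card ↥(K.map (MulAut.conj a).toMonoidHom) = Nat.card ↥K :=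
  Subgroup.card_map_of_injective (MulAut.conj a).injective

/-- the normalizer of a conjugate of `K` -/
theorem normalizer_map_conj (h : Hyp t K s) (a : G) :
    normalizer ((K.map (MulAut.conj a).toMonoidHom : Subgroup G) : Set G)
      = K.map (MulAut.conj a).toMonoidHom ⊔ zpowers (a * s * a⁻¹) := by
  rw [← map_equiv_normalizer_eq K (MulAut.conj a)]
  have h1 : normalizer (K : Set G) = centralizer ({t} : Set G) :=
    normalizer_eq h K le_rfl (K_ne_bot h)
  have h2 : (normalizer (K : Set G)) = K ⊔ zpowers s := by rw [h1, h.hH]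
  show (normalizer (K : Set G)).map (MulAut.conj a).toMonoidHom = _
  rw [h2, Subgroup.map_sup, MonoidHom.map_zpowers]
  rfl

/-- the conclusion in the case `|G| = 12` -/
theorem concl_twelve (h : Hyp t K s) (hk : Nat.card ↥K = 2) (hG : Nat.card G = 12) : Concl G := by
  haveI : Fintype G := Fintype.ofFinite G
  have hn : nInv G = 3 := by
    have := card_G h
    rw [hk, hG] at this
    omega
  have hN3 : N3 K = 0 := by
    have := counting h
    rw [hk, hn] at this
    omega
  haveI : Fact (Nat.Prime 3) := ⟨Nat.prime_three⟩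
  obtain ⟨x, hx3⟩ := exists_prime_orderOf_dvd_card' (G := G) 3 (by rw [hG]; norm_num)
  have hx1 : x ≠ 1 := by
    rintro rfl; simp at hx3
  -- elements of order 3 are not conjugate into K
  have hnc : ∀ y : G, orderOf y = 3 → ¬ ConjK K y := by
    intro y hy hc
    have h2 := sq_eq_one_of_conjK hk hc
    have : orderOf y ∣ 2 := orderOf_dvd_of_pow_eq_one (by rw [pow_two]; exact h2)
    rw [hy] at this
    norm_num at this
  -- and not real
  have hnr : ∀ y : G, orderOf y = 3 → ¬ IsRealElt y := by
    intro y hy hr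
    have hT : Third K y := ⟨hr, hnc y hy⟩
    have hpsi := psi_of_third h hT
    have hpos : 0 < psi y := by rw [hpsi]; exact Nat.card_pos
    have hle : psi y ≤ N3 K := by
      rw [N3_eq_sum]
      have := Finset.single_le_sum (f := fun g : G => if Third K g then psi g else 0)
        (fun i _ => Nat.zero_le _) (Finset.mem_univ y)
      simpa [hT] using this
    omega
  -- no involution commutes with an element of order 3
  have hni : ∀ y w : G, orderOf y = 3 → orderOf w = 2 → y * w ≠ w * y := by
    intro y w hy hw hc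
    exact hnc y hy (conjK_of_comm_invol h hw hc)
  set Q := centralizer ({x} : Set G) with hQ
  have hxQ : x ∈ Q := self_mem_cent x
  have hQodd : Odd (Nat.card ↥Q) := by
    rw [← Nat.not_even_iff_odd]; intro he
    haveI : Fact (Nat.Prime 2) := ⟨Nat.prime_two⟩
    obtain ⟨w, hw⟩ := exists_prime_orderOf_dvd_card' 2 he.two_dvd
    have hw' : orderOf (w : G) = 2 := by rw [Subgroup.orderOf_coe]; exact hw
    have hwQ : (w : G) ∈ centralizer ({x} : Set G) := w.2
    rw [mem_centralizer_singleton_iff] at hwQ
    exact hni x w hx3 hw' hwQ.symm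
  have hQdvd : Nat.card ↥Q ∣ 12 := by rw [← hG]; exact Subgroup.card_subgroup_dvd_card Q
  have h3Q : 3 ∣ Nat.card ↥Q := by
    have := orderOf_dvd_natCard (⟨x, hxQ⟩ : ↥Q)
    rwa [← Subgroup.orderOf_coe, hx3] at this
  have hQ3 : Nat.card ↥Q = 3 := by
    have hle : Nat.card ↥Q ≤ 12 := Nat.le_of_dvd (by norm_num) hQdvd
    obtain ⟨m, hm⟩ := hQodd
    interval_cases hq : Nat.card ↥Q <;> omega
  -- every nonidentity element of Q has order 3 and generates Q
  have hgen : ∀ y ∈ Q, y ≠ 1 → centralizer ({y} : Set G) = Q := by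
    intro y hy hy1
    have hz := zpowers_eq_top_of_prime_card (G := ↥Q) hQ3 (g := ⟨y, hy⟩)
      (fun h0 => hy1 (congrArg Subtype.val h0))
    have hzx := zpowers_eq_top_of_prime_card (G := ↥Q) hQ3 (g := ⟨x, hxQ⟩)
      (fun h0 => hx1 (congrArg Subtype.val h0))
    -- x is a power of y and y is a power of x
    have hx_pow : ∃ k : ℤ, y ^ k = x := by
      have : (⟨x, hxQ⟩ : ↥Q) ∈ zpowers (⟨y, hy⟩ : ↥Q) := by rw [hz]; trivial
      obtain ⟨k, hk'⟩ := mem_zpowers_iff.mp this
      exact ⟨k, by have := congrArg Subtype.val hk'; simpa using this⟩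
    have hy_pow : ∃ k : ℤ, x ^ k = y := by
      have : (⟨y, hy⟩ : ↥Q) ∈ zpowers (⟨x, hxQ⟩ : ↥Q) := by rw [hzx]; trivial
      obtain ⟨k, hk'⟩ := mem_zpowers_iff.mp this
      exact ⟨k, by have := congrArg Subtype.val hk'; simpa using this⟩
    obtain ⟨i, hi⟩ := hx_pow
    obtain ⟨j, hj⟩ := hy_pow
    apply le_antisymm
    · intro c hc
      rw [mem_centralizer_singleton_iff] at hc
      rw [hQ, mem_centralizer_singleton_iff, ← hi]
      exact ((Commute.zpow_right (show Commute c y from hc) i)).eq
    · intro c hc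
      rw [hQ, mem_centralizer_singleton_iff] at hc
      rw [mem_centralizer_singleton_iff, ← hj]
      exact ((Commute.zpow_right (show Commute c x from hc) j)).eq
  -- the normalizer
  set N := normalizer (Q : Set G) with hN
  have hQN : Q ≤ N := le_normalizer
  have hNodd : Odd (Nat.card ↥N) := by
    rw [← Nat.not_even_iff_odd]; intro he
    haveI : Fact (Nat.Prime 2) := ⟨Nat.prime_two⟩
    obtain ⟨w, hw⟩ := exists_prime_orderOf_dvd_card' 2 he.two_dvd
    have hw' : orderOf (w : G) = 2 := by rw [Subgroup.orderOf_coe]; exact hw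
    have hinv := Dv.fpf_inverts Q (w : G) (Dv.sq_of_order_two hw')
      (fun c hc => (mem_normalizer_iff.mp w.2 c).mp hc)
      (by
        intro c hc hcomm
        by_contra hc1
        have hc3 : orderOf c = 3 := by
          have h1 := orderOf_dvd_natCard (⟨c, hc⟩ : ↥Q)
          rw [← Subgroup.orderOf_coe, hQ3] at h1
          rcases (Nat.dvd_prime Nat.prime_three).mp h1 with h2 | h2
          · exact absurd (orderOf_eq_one_iff.mp h2) hc1
          · exact h2
        exact hni c w hc3 hw' hcomm.symm)
    exact hnr x hx3 ⟨w, hw', hinv x hxQ⟩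
  have hNdvd : Nat.card ↥N ∣ 12 := by rw [← hG]; exact Subgroup.card_subgroup_dvd_card N
  have h3N : 3 ∣ Nat.card ↥N := by
    rw [← hQ3]; exact Subgroup.card_dvd_of_le hQN
  have hN3 : Nat.card ↥N = 3 := by
    have hle : Nat.card ↥N ≤ 12 := Nat.le_of_dvd (by norm_num) hNdvd
    obtain ⟨m, hm⟩ := hNodd
    interval_cases hq : Nat.card ↥N <;> omega
  have hNQ : Q = N := eq_of_le_of_card_ge hQN (by rw [hN3, hQ3])
  refine ⟨Q, ⊥, ?_, hgen, ?_, ?_, ?_, ?_, ?_⟩
  · rw [hG, hQ3]
  · exact ⟨⟨fun a b => Subsingleton.elim _ _⟩⟩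
  · rw [Subgroup.card_bot, hQ3]
  · exact inf_bot_eq _
  · rw [sup_bot_eq, ← hN, ← hNQ]
  · intro X hX hXne
    exact absurd (le_bot_iff.mp hX) hXne

end Cfsg.Agent.Lib.Helper1.BswE
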