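import Mathlib
import Cfsg.Agent.Lib.Helper1.BswE6

set_option autoImplicit false
set_option maxHeartbeats 4000000
set_option maxRecDepth 100000
set_option linter.unusedVariables false
set_option linter.unusedSectionVars false
set_option linter.style.longLine false
set_option linter.unusedSimpArgs false
set_option linter.deprecated false

/-! Brauer–Suzuki–Wall (abstract form): the case `|K| = 2`, `|G| = 60`, and the assembly of the
case `|K| = 2`. -/

namespace Cfsg.Agent.Lib.Helper1.BswE

open Subgroup Cfsg.Agent.Lib.Helper7.Bsw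
open scoped Classical

variable {G : Type*} [Group G] [Finite G] {t s : G} {K : Subgroup G}

/-- in the case `|G| = 60` there is a third-kind element with centralizer of order `5` -/
theorem exists_third_five (h : Hyp t K s) (hk : Nat.card ↥K = 2) (hG : Nat.card G = 60) :
    ∃ g : G, Third K g ∧ Nat.card ↥(centralizer ({g} : Set G)) = 5 := by
  haveI : Fintype G := Fintype.ofFinite G
  have hn : nInv G = 15 := by
    have := card_G h
    rw [hk, hG] at this
    omega
  have hN3 : N3 K = 180 := by
    have := counting h
    rw [hk, hn] at this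
    omega
  -- Step A
  have hA : ∃ g : G, Third K g ∧ Nat.card ↥(centralizer ({g} : Set G)) ≠ 3 := by
    by_contra hcon
    push_neg at hcon
    have h1 : N3 K = ∑ g : G, if Third K g then 3 else 0 := by
      rw [N3_eq_sum]
      apply Finset.sum_congr rfl
      intro g _
      by_cases hT : Third K g
      · rw [if_pos hT, if_pos hT, psi_of_third h hT, hcon g hT]
      · rw [if_neg hT, if_neg hT]
    rw [← Finset.sum_filter, Finset.sum_const, smul_eq_mul] at h1
    have h2 : (Finset.univ.filter (fun g : G => Third K g)).card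
        + (Finset.univ.filter (fun g : G => ConjK K g)).card ≤ Fintype.card G := by
      rw [← Finset.card_union_of_disjoint]
      · exact Finset.card_le_univ _
      · rw [Finset.disjoint_filter]
        intro g _ hT hC
        exact hT.2 hC
    have h3 : (Finset.univ.filter (fun g : G => ConjK K g)).card = 16 := by
      have := card_conjK h
      rw [hk, hn, Nat.card_eq_fintype_card, Fintype.card_subtype] at this
      rw [this]
    rw [h3, ← Nat.card_eq_fintype_card, hG] at h2
    omega
  obtain ⟨g, hT, hne3⟩ := hA
  refine ⟨g, hT, ?_⟩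
  set A := centralizer ({g} : Set G) with hAdef
  have hodd := third_odd h hT
  have hdvd : Nat.card ↥A ∣ 60 := by rw [← hG]; exact Subgroup.card_subgroup_dvd_card A
  have hne1 : Nat.card ↥A ≠ 1 := by
    intro h1
    have hbot := (Subgroup.card_eq_one).mp h1
    have hg : g ∈ A := self_mem_cent g
    rw [hbot, Subgroup.mem_bot] at hg
    exact third_ne_one hT hg
  have hcases : Nat.card ↥A = 5 ∨ Nat.card ↥A = 15 := by
    have hle : Nat.card ↥A ≤ 60 := Nat.le_of_dvd (by norm_num) hdvd
    obtain ⟨m, hm⟩ := hodd
    interval_cases hq : Nat.card ↥A <;> omega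
  rcases hcases with h5 | h15
  · exact h5
  · exfalso
    set N := normalizer (A : Set G) with hN
    have hAN : A ≤ N := le_normalizer
    have hmod := third_index_modEq h hT
    rw [← hAdef, ← hN, h15] at hmod
    have hNdvd : Nat.card ↥N ∣ 60 := by rw [← hG]; exact Subgroup.card_subgroup_dvd_card N
    have h15N : 15 ∣ Nat.card ↥N := by rw [← h15]; exact Subgroup.card_dvd_of_le hAN
    have hmul := N.card_mul_index
    rw [hG] at hmul
    have hidx : N.index = 1 := by
      unfold Nat.ModEq at hmod
      obtain ⟨j, hj⟩ := h15N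
      rw [hj] at hmul
      have hj4 : j * N.index = 4 := by
        have : 15 * (j * N.index) = 60 := by rw [← hmul]; ring
        omega
      have hjle : j ≤ 4 := Nat.le_of_dvd (by norm_num) ⟨N.index, hj4.symm⟩
      interval_cases j
      · omega
      · have : N.index = 4 := by omega
        rw [this] at hmod; norm_num at hmod
      · have : N.index = 2 := by omega
        rw [this] at hmod; norm_num at hmod
      · omega
      · omega
    have htop := Subgroup.index_eq_one.mp hidx
    exact st_not_both h hT (by rw [← hAdef, ← hN, htop]; trivial) (by rw [← hAdef, ← hN, htop]; trivial)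

/-- the conclusion in the case `|G| = 60` -/
theorem concl_sixty (h : Hyp t K s) (hk : Nat.card ↥K = 2) (hG : Nat.card G = 60) : Concl G := by
  obtain ⟨g, hT, h5⟩ := exists_third_five h hk hG
  obtain ⟨E, a, hEle, hNeq, hinf, heven, _⟩ := third_compl h hT
  set Q := centralizer ({g} : Set G) with hQ
  set D := K.map (MulAut.conj a).toMonoidHom with hD
  have hDcard : Nat.card ↥D = 2 := by rw [hD, card_map_conj, hk]
  have hEcard : Nat.card ↥E = 2 := by
    have h1 : Nat.card ↥E ∣ 2 := by rw [← hDcard]; exact Subgroup.card_dvd_of_le hEle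
    have h2 : Nat.card ↥E ≤ 2 := Nat.le_of_dvd (by norm_num) h1
    obtain ⟨m, hm⟩ := heven
    have hpos : 0 < Nat.card ↥E := Nat.card_pos
    omega
  have hED : E = D := eq_of_le_of_card_ge hEle (by rw [hEcard, hDcard])
  rw [hED] at hNeq hinf
  refine ⟨Q, D, ?_, ?_, isMulCommutative_map h a, ?_, hinf, hNeq, ?_⟩
  · rw [hG, h5]
  · intro x hx hx1
    exact third_cent_eq h hT hx hx1
  · rw [hDcard, h5]
  · intro X hXD hXne
    have hXcard : Nat.card ↥X = 2 := by
      have h1 : Nat.card ↥X ∣ 2 := by rw [← hDcard]; exact Subgroup.card_dvd_of_le hXD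
      have h2 : Nat.card ↥X ≤ 2 := Nat.le_of_dvd (by norm_num) h1
      have hpos : 0 < Nat.card ↥X := Nat.card_pos
      have hne1 : Nat.card ↥X ≠ 1 := fun h0 => hXne (Subgroup.card_eq_one.mp h0)
      omega
    have hXeq : X = D := eq_of_le_of_card_ge hXD (by rw [hXcard, hDcard])
    rw [hXeq]
    refine ⟨rfl, a * s * a⁻¹, ?_, ?_, ?_, ?_⟩
    · rw [orderOf_conj']; exact h.hs
    · intro hmem
      obtain ⟨k, hkK, hke⟩ := mem_map.mp hmem
      rw [MulEquiv.coe_toMonoidHom, MulAut.conj_apply] at hke
      have : k = s := by
        calc k = a⁻¹ * (a * k * a⁻¹) * a := by group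
          _ = a⁻¹ * (a * s * a⁻¹) * a := by rw [hke]
          _ = s := by group
      exact h.hsK (this ▸ hkK)
    · intro d hd
      obtain ⟨k, hkK, hke⟩ := mem_map.mp hd
      rw [MulEquiv.coe_toMonoidHom, MulAut.conj_apply] at hke
      rw [← hke]
      calc a * s * a⁻¹ * (a * k * a⁻¹) * (a * s * a⁻¹)⁻¹ = a * (s * k * s⁻¹) * a⁻¹ := by group
        _ = a * k⁻¹ * a⁻¹ := by rw [h.hinv k hkK]
        _ = (a * k * a⁻¹)⁻¹ := by group
    · exact normalizer_map_conj h a

/-- the case `|K| = 2` of the abstract Brauer–Suzuki–Wall theorem -/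
theorem concl_of_card_two (h : Hyp t K s) (hk : Nat.card ↥K = 2) : Concl G := by
  rcases Dv.v4_card (v4Hyp_of_card_two h hk) with h12 | h60
  · exact concl_twelve h hk h12
  · exact concl_sixty h hk h60

end Cfsg.Agent.Lib.Helper1.BswE
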