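import Mathlib
import Cfsg.Prelude.Def_PLocal

/-!
# S2770 farm units (helper1): `maxab_facts`, `thompsonA_normal_or`, `layers`, `cent_layers`
-/

set_option autoImplicit false
set_option linter.unusedVariables false
set_option linter.unusedSectionVars false
set_option linter.style.longLine false
set_option linter.style.haveILetI false

namespace Cfsg.Agent.Lib.Helper1.PU2770J

variable {G : Type*} [Group G] [Finite G]

/-- commutativity of a subgroup, spelled out -/
theorem comm_of_isMulCommutative {P : Type*} [Group P] (A : Subgroup P) (h : IsMulCommutative A) :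
    ∀ a ∈ A, ∀ b ∈ A, a * b = b * a := by
  intro a ha b hb
  have := h.is_comm.comm (⟨a, ha⟩ : A) ⟨b, hb⟩
  exact congrArg Subtype.val this

theorem isMulCommutative_of_comm {P : Type*} [Group P] (A : Subgroup P)
    (h : ∀ a ∈ A, ∀ b ∈ A, a * b = b * a) : IsMulCommutative A :=
  ⟨⟨fun a b => Subtype.ext (h a.1 a.2 b.1 b.2)⟩⟩

/-- existence of an abelian subgroup of maximal order -/
theorem exists_maxAbelian (P : Type*) [Group P] [Finite P] :
    ∃ A₀, A₀ ∈ Cfsg.maxAbelianSubgroups P := by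
  classical
  have hfin : (Set.univ : Set (Subgroup P)).Finite := Set.toFinite _
  let T : Set (Subgroup P) := {A | IsMulCommutative A}
  have hT : T.Finite := Set.toFinite _
  have hne : T.Nonempty := ⟨⊥, isMulCommutative_of_comm _ (by
    intro a ha b hb
    rw [Subgroup.mem_bot] at ha hb
    rw [ha, hb])⟩
  obtain ⟨A, hA, hmax⟩ := Set.exists_max_image T (fun A => Nat.card A) hT hne
  exact ⟨A, hA, fun B hB => hmax B hB⟩

/-- the join of a commutative subgroup with the centre is commutative -/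
theorem comm_sup_center {P : Type*} [Group P] (A : Subgroup P)
    (hA : ∀ a ∈ A, ∀ b ∈ A, a * b = b * a) :
    ∀ a ∈ A ⊔ Subgroup.center P, ∀ b ∈ A ⊔ Subgroup.center P, a * b = b * a := by
  intro a ha b hb
  have ha' : a ∈ ((A ⊔ Subgroup.center P : Subgroup P) : Set P) := ha
  have hb' : b ∈ ((A ⊔ Subgroup.center P : Subgroup P) : Set P) := hb
  rw [Subgroup.mul_normal, Set.mem_mul] at ha' hb'
  obtain ⟨a1, ha1, z1, hz1, rfl⟩ := ha'
  obtain ⟨b1, hb1, z2, hz2, rfl⟩ := hb'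
  rw [SetLike.mem_coe, Subgroup.mem_center_iff] at hz1 hz2
  have h1 := hA a1 ha1 b1 hb1
  calc a1 * z1 * (b1 * z2) = a1 * (z1 * b1) * z2 := by group
    _ = a1 * (b1 * z1) * z2 := by rw [hz1 b1]
    _ = (a1 * b1) * (z1 * z2) := by group
    _ = (b1 * a1) * (z1 * z2) := by rw [h1]
    _ = (b1 * a1) * (z2 * z1) := by rw [hz2 z1]
    _ = b1 * (a1 * z2) * z1 := by group
    _ = b1 * (z2 * a1) * z1 := by rw [hz2 a1]
    _ = b1 * z2 * (a1 * z1) := by group

/-- U-AS : the abelian subgroups of maximal order of `S`, as subgroups of `G`. -/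
theorem maxab_facts (S : Subgroup G) :
    (∃ A₀, A₀ ∈ Cfsg.maxAbelianSubgroups S) ∧
    ∀ A₀ ∈ Cfsg.maxAbelianSubgroups S,
      A₀.map S.subtype ≤ S ∧ A₀.map S.subtype ≤ Cfsg.thompsonSubgroupAOf S ∧
      (∀ a ∈ A₀.map S.subtype, ∀ b ∈ A₀.map S.subtype, a * b = b * a) ∧
      (∀ B : Subgroup G, B ≤ S → (∀ a ∈ B, ∀ b ∈ B, a * b = b * a) →
        Nat.card B ≤ Nat.card (A₀.map S.subtype)) ∧
      S ⊓ Subgroup.centralizer (S : Set G) ≤ A₀.map S.subtype := by
  classical
  refine ⟨exists_maxAbelian S, ?_⟩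
  intro A₀ hA₀
  have hcomm := comm_of_isMulCommutative A₀ hA₀.1
  have hcard : Nat.card (A₀.map S.subtype) = Nat.card A₀ :=
    Nat.card_congr (A₀.equivMapOfInjective S.subtype S.subtype_injective).symm.toEquiv
  refine ⟨Subgroup.map_subtype_le A₀, ?_, ?_, ?_, ?_⟩
  · unfold Cfsg.thompsonSubgroupAOf Cfsg.thompsonSubgroupA
    exact Subgroup.map_mono (le_sSup hA₀)
  · intro a ha b hb
    obtain ⟨a', ha', rfl⟩ := ha
    obtain ⟨b', hb', rfl⟩ := hb
    have := hcomm a' ha' b' hb'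
    rw [← map_mul, ← map_mul, this]
  · intro B hBS hB
    have h1 : IsMulCommutative (B.subgroupOf S) := isMulCommutative_of_comm _ (by
      intro a ha b hb
      rw [Subgroup.mem_subgroupOf] at ha hb
      exact Subtype.ext (hB a.1 ha b.1 hb))
    have h2 := hA₀.2 (B.subgroupOf S) h1
    have h3 : Nat.card (B.subgroupOf S) = Nat.card B :=
      Nat.card_congr (Subgroup.subgroupOfEquivOfLe hBS).toEquiv
    rw [hcard, ← h3]
    exact h2
  · -- the centre of `S` lies in `A₀`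
    have h1 : IsMulCommutative (A₀ ⊔ Subgroup.center S : Subgroup S) :=
      isMulCommutative_of_comm _ (comm_sup_center A₀ hcomm)
    have h2 := hA₀.2 _ h1
    have h3 : A₀ ≤ A₀ ⊔ Subgroup.center S := le_sup_left
    have h4 : A₀ = A₀ ⊔ Subgroup.center S := by
      have hle : Nat.card (A₀ ⊔ Subgroup.center S : Subgroup S) ≤ Nat.card A₀ := h2
      have hfin : Finite (A₀ ⊔ Subgroup.center S : Subgroup S) := inferInstance
      have hcs : (A₀ : Set S) = ((A₀ ⊔ Subgroup.center S : Subgroup S) : Set S) := by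
        apply Set.eq_of_subset_of_ncard_le h3 _ (Set.toFinite _)
        have e1 : ((A₀ ⊔ Subgroup.center S : Subgroup S) : Set S).ncard
            = Nat.card (A₀ ⊔ Subgroup.center S : Subgroup S) := by
          rw [← Nat.card_coe_set_eq]; rfl
        have e2 : (A₀ : Set S).ncard = Nat.card A₀ := by
          rw [← Nat.card_coe_set_eq]; rfl
        rw [e1, e2]; exact hle
      exact SetLike.coe_injective hcs
    intro x hx
    have hxS : x ∈ S := hx.1
    have hxc : x ∈ Subgroup.centralizer (S : Set G) := hx.2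
    have hz : (⟨x, hxS⟩ : S) ∈ Subgroup.center S := by
      rw [Subgroup.mem_center_iff]
      intro g
      apply Subtype.ext
      have := hxc g.1 g.2
      simpa using this
    have : (⟨x, hxS⟩ : S) ∈ A₀ := by
      rw [h4]; exact Subgroup.mem_sup_right hz
    exact ⟨⟨x, hxS⟩, this, rfl⟩

/-- `J(S)` in `G` as the join of the images of the members of `𝒜(S)` -/
theorem thompsonAOf_eq_iSup (S : Subgroup G) :
    Cfsg.thompsonSubgroupAOf S
      = ⨆ A₀ : {A₀ : Subgroup S // A₀ ∈ Cfsg.maxAbelianSubgroups S}, (A₀ : Subgroup S).map S.subtype := by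
  unfold Cfsg.thompsonSubgroupAOf Cfsg.thompsonSubgroupA
  rw [sSup_eq_iSup', Subgroup.map_iSup]

/-- U-JNORMAL -/
theorem thompsonA_normal_or (S Q : Subgroup G) [Q.Normal] (hQS : Q ≤ S) :
    (Cfsg.thompsonSubgroupAOf S ≤ Q → (Cfsg.thompsonSubgroupAOf S).Normal) ∧
    (¬ Cfsg.thompsonSubgroupAOf S ≤ Q →
      ∃ A₀ ∈ Cfsg.maxAbelianSubgroups S, ¬ A₀.map S.subtype ≤ Q) := by
  classical
  constructor
  · intro hJQ
    -- each conjugate of a member of `𝒜(S)` is again (the image of) a member of `𝒜(S)`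
    have key : ∀ g : G, ∀ A₀ ∈ Cfsg.maxAbelianSubgroups S,
        (A₀.map S.subtype).map (MulAut.conj g).toMonoidHom ≤ Cfsg.thompsonSubgroupAOf S := by
      intro g A₀ hA₀
      obtain ⟨-, hfacts⟩ := maxab_facts S
      obtain ⟨h1, h2, h3, h4, h5⟩ := hfacts A₀ hA₀
      set A := A₀.map S.subtype with hA
      set B := A.map (MulAut.conj g).toMonoidHom with hB
      have hBQ : B ≤ Q := by
        intro x hx
        obtain ⟨a, ha, rfl⟩ := hx
        have haQ : a ∈ Q := hJQ (h2 ha)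
        have : g * a * g⁻¹ ∈ Q := ‹Q.Normal›.conj_mem a haQ g
        simpa using this
      have hBS : B ≤ S := hBQ.trans hQS
      have hBc : ∀ a ∈ B, ∀ b ∈ B, a * b = b * a := by
        intro a ha b hb
        obtain ⟨a', ha', rfl⟩ := ha
        obtain ⟨b', hb', rfl⟩ := hb
        rw [← map_mul, ← map_mul, h3 a' ha' b' hb']
      have hBcard : Nat.card B = Nat.card A :=
        Nat.card_congr (A.equivMapOfInjective _ (MulAut.conj g).injective).symm.toEquiv
      have hAcard : Nat.card A = Nat.card A₀ :=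
        Nat.card_congr (A₀.equivMapOfInjective S.subtype S.subtype_injective).symm.toEquiv
      -- `B.subgroupOf S ∈ 𝒜(S)`
      have hmem : B.subgroupOf S ∈ Cfsg.maxAbelianSubgroups S := by
        refine ⟨isMulCommutative_of_comm _ ?_, ?_⟩
        · intro a ha b hb
          rw [Subgroup.mem_subgroupOf] at ha hb
          exact Subtype.ext (hBc a.1 ha b.1 hb)
        · intro C hC
          have h6 := hA₀.2 C hC
          have h7 : Nat.card (B.subgroupOf S) = Nat.card B :=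
            Nat.card_congr (Subgroup.subgroupOfEquivOfLe hBS).toEquiv
          rw [h7, hBcard, hAcard]; exact h6
      have h8 : (B.subgroupOf S).map S.subtype = B := by
        rw [Subgroup.map_subgroupOf_eq_of_le hBS]
      rw [← h8]
      obtain ⟨-, hfacts'⟩ := maxab_facts S
      exact (hfacts' _ hmem).2.1
    constructor
    intro n hn g
    rw [thompsonAOf_eq_iSup] at hn
    have h9 : g * n * g⁻¹ ∈ (⨆ A₀ : {A₀ : Subgroup S // A₀ ∈ Cfsg.maxAbelianSubgroups S},
        (A₀ : Subgroup S).map S.subtype).map (MulAut.conj g).toMonoidHom :=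
      ⟨n, hn, by simp⟩
    rw [Subgroup.map_iSup] at h9
    have h10 : (⨆ A₀ : {A₀ : Subgroup S // A₀ ∈ Cfsg.maxAbelianSubgroups S},
        ((A₀ : Subgroup S).map S.subtype).map (MulAut.conj g).toMonoidHom)
          ≤ Cfsg.thompsonSubgroupAOf S :=
      iSup_le fun A₀ => key g A₀.1 A₀.2
    exact h10 h9
  · intro hJ
    by_contra hcon
    push Not at hcon
    apply hJ
    rw [thompsonAOf_eq_iSup]
    exact iSup_le fun A₀ => hcon A₀.1 A₀.2

/-- U-LAYERS : the layers `Ω₁(W)` and `℧¹(W)` of an abelian normal subgroup. -/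
theorem layers (p : ℕ) (W : Subgroup G) [W.Normal] (hWc : ∀ a ∈ W, ∀ b ∈ W, a * b = b * a) :
    ∃ V₁ V₂ : Subgroup G, V₁.Normal ∧ V₂.Normal ∧
      (∀ x, x ∈ V₁ ↔ x ∈ W ∧ x ^ p = 1) ∧ (∀ x, x ∈ V₂ ↔ ∃ w ∈ W, w ^ p = x) := by
  classical
  have hmulpow : ∀ a ∈ W, ∀ b ∈ W, (a * b) ^ p = a ^ p * b ^ p := by
    intro a ha b hb
    exact (Commute.mul_pow (hWc a ha b hb) p)
  let V₁ : Subgroup G :=
    { carrier := {x | x ∈ W ∧ x ^ p = 1}
      one_mem' := ⟨W.one_mem, one_pow p⟩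
      mul_mem' := by
        rintro a b ⟨ha, ha'⟩ ⟨hb, hb'⟩
        refine ⟨W.mul_mem ha hb, ?_⟩
        rw [hmulpow a ha b hb, ha', hb', one_mul]
      inv_mem' := by
        rintro a ⟨ha, ha'⟩
        refine ⟨W.inv_mem ha, ?_⟩
        rw [inv_pow, ha', inv_one] }
  let V₂ : Subgroup G :=
    { carrier := {x | ∃ w ∈ W, w ^ p = x}
      one_mem' := ⟨1, W.one_mem, one_pow p⟩
      mul_mem' := by
        rintro a b ⟨w, hw, rfl⟩ ⟨v, hv, rfl⟩
        exact ⟨w * v, W.mul_mem hw hv, hmulpow w hw v hv⟩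
      inv_mem' := by
        rintro a ⟨w, hw, rfl⟩
        exact ⟨w⁻¹, W.inv_mem hw, inv_pow w p⟩ }
  refine ⟨V₁, V₂, ?_, ?_, fun x => Iff.rfl, fun x => Iff.rfl⟩
  · constructor
    rintro n ⟨hn, hn'⟩ g
    refine ⟨‹W.Normal›.conj_mem n hn g, ?_⟩
    rw [conj_pow, hn']; group
  · constructor
    rintro n ⟨w, hw, rfl⟩ g
    exact ⟨g * w * g⁻¹, ‹W.Normal›.conj_mem w hw g, by rw [conj_pow]⟩

/-- a normal `p`-subgroup lies in every Sylow `p`-subgroup -/
theorem le_sylow_of_normal_pgroup {H : Type*} [Group H] [Finite H] {p : ℕ} [Fact p.Prime]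
    (P : Sylow p H) (N : Subgroup H) [hN : N.Normal] (hNp : IsPGroup p ↥N) : N ≤ P := by
  obtain ⟨Q, hQ⟩ := hNp.exists_le_sylow
  obtain ⟨g, hg⟩ := MulAction.exists_smul_eq H Q P
  intro x hx
  have h1 : g⁻¹ * x * g ∈ N := by simpa using hN.conj_mem x hx g⁻¹
  have h2 : g * (g⁻¹ * x * g) * g⁻¹ ∈ (P : Subgroup H) := by
    rw [← hg, Sylow.coe_subgroup_smul]
    exact ⟨_, hQ h1, rfl⟩
  have h3 : g * (g⁻¹ * x * g) * g⁻¹ = x := by group
  rwa [h3] at h2

/-- an element centralising `Ω₁(W)` has a `p`-power centralising `W` -/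
theorem pow_mem_centralizer_of_omega {p : ℕ} [Fact p.Prime] (W V₁ : Subgroup G) [W.Normal]
    (hWc : ∀ a ∈ W, ∀ b ∈ W, a * b = b * a)
    (h1 : ∀ x, x ∈ V₁ ↔ x ∈ W ∧ x ^ p = 1) (c : G)
    (hc : c ∈ Subgroup.centralizer (V₁ : Set G)) :
    ∀ j : ℕ, ∀ w ∈ W, w ^ (p ^ (j + 1)) = 1 → c ^ (p ^ j) * w = w * c ^ (p ^ j) := by
  intro j
  induction j with
  | zero =>
    intro w hw hw1
    rw [zero_add, pow_one] at hw1
    rw [pow_zero, pow_one]
    have hwV : w ∈ V₁ := (h1 w).2 ⟨hw, hw1⟩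
    exact ((Subgroup.mem_centralizer_iff.1 hc) w hwV).symm
  | succ j ih =>
    intro w hw hw1
    set d := c ^ (p ^ j) with hd
    have hdC : d ∈ Subgroup.centralizer (V₁ : Set G) := Subgroup.pow_mem _ hc _
    have hwp : w ^ p ∈ W := W.pow_mem hw p
    have hwp1 : (w ^ p) ^ (p ^ (j + 1)) = 1 := by
      rw [← pow_mul, ← pow_succ']; exact hw1
    have hcomm : d * w ^ p = w ^ p * d := ih (w ^ p) hwp hwp1
    have hdw : d * w * d⁻¹ ∈ W := ‹W.Normal›.conj_mem w hw d
    set z := w⁻¹ * (d * w * d⁻¹) with hz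
    have hzW : z ∈ W := W.mul_mem (W.inv_mem hw) hdw
    have hzp : z ^ p = 1 := by
      rw [hz, (Commute.mul_pow (hWc _ (W.inv_mem hw) _ hdw) p), conj_pow, inv_pow]
      have : d * w ^ p * d⁻¹ = w ^ p := by rw [hcomm]; group
      rw [this, inv_mul_cancel]
    have hzV : z ∈ V₁ := (h1 z).2 ⟨hzW, hzp⟩
    have hdz : d * z = z * d := ((Subgroup.mem_centralizer_iff.1 hdC) z hzV).symm
    have hdzi : ∀ i : ℕ, d * z ^ i * d⁻¹ = z ^ i := by
      intro i
      have : d * z ^ i = z ^ i * d := (Commute.pow_right (show Commute d z from hdz) i)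
      rw [this]; group
    have hconj : d * w * d⁻¹ = w * z := by rw [hz]; group
    have hiter : ∀ i : ℕ, d ^ i * w * (d ^ i)⁻¹ = w * z ^ i := by
      intro i
      induction i with
      | zero => simp
      | succ i ihi =>
        have e : d ^ (i + 1) * w * (d ^ (i + 1))⁻¹ = d * (d ^ i * w * (d ^ i)⁻¹) * d⁻¹ := by
          rw [pow_succ']; group
        rw [e, ihi]
        have e2 : d * (w * z ^ i) * d⁻¹ = (d * w * d⁻¹) * (d * z ^ i * d⁻¹) := by group
        rw [e2, hconj, hdzi i, mul_assoc, ← pow_succ']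
    have hfin := hiter p
    rw [hzp, mul_one] at hfin
    have hpow : c ^ (p ^ (j + 1)) = d ^ p := by rw [hd, ← pow_mul, ← pow_succ]
    rw [hpow]
    calc d ^ p * w = (d ^ p * w * (d ^ p)⁻¹) * d ^ p := by group
      _ = w * d ^ p := by rw [hfin]

/-- U-COPRIME : if `G = C_G(Ω₁(W)) S` then `G = C_G(℧¹(W)) S`. -/
theorem cent_layers {p : ℕ} [Fact p.Prime] (S : Sylow p G) (W V₁ V₂ : Subgroup G) [W.Normal]
    (hWp : IsPGroup p W)
    (hWc : ∀ a ∈ W, ∀ b ∈ W, a * b = b * a)
    (h1 : ∀ x, x ∈ V₁ ↔ x ∈ W ∧ x ^ p = 1) (h2 : ∀ x, x ∈ V₂ ↔ ∃ w ∈ W, w ^ p = x)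
    (h : Subgroup.centralizer (V₁ : Set G) ⊔ (S : Subgroup G) = ⊤) :
    Subgroup.centralizer (V₂ : Set G) ⊔ (S : Subgroup G) = ⊤ := by
  classical
  obtain ⟨m, hm⟩ := hWp.exists_card_eq
  -- `V₁` is normal
  haveI hV₁n : V₁.Normal := by
    constructor
    intro n hn g
    obtain ⟨hnW, hnp⟩ := (h1 n).1 hn
    refine (h1 _).2 ⟨‹W.Normal›.conj_mem n hnW g, ?_⟩
    rw [conj_pow, hnp]; group
  set C1 := Subgroup.centralizer (V₁ : Set G) with hC1
  set K := Subgroup.centralizer (W : Set G) with hK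
  haveI hC1n : C1.Normal := Subgroup.normal_centralizer
  haveI hKn : K.Normal := Subgroup.normal_centralizer
  -- `p^m`-th powers of elements of `C1` lie in `K`
  have hpowK : ∀ c ∈ C1, c ^ (p ^ m) ∈ K := by
    intro c hc
    rw [hK, Subgroup.mem_centralizer_iff]
    intro w hw
    have hw1 : w ^ (p ^ (m + 1)) = 1 := by
      have : w ^ (p ^ m) = 1 := by
        have := pow_card_eq_one' (G := W) (x := ⟨w, hw⟩)
        rw [hm] at this
        exact congrArg Subtype.val this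
      rw [pow_succ, pow_mul, this, one_pow]
    exact (pow_mem_centralizer_of_omega W V₁ hWc h1 c hc m w hw hw1).symm
  -- pass to `G ⧸ K`
  have hsurj : Function.Surjective (QuotientGroup.mk' K) := QuotientGroup.mk'_surjective K
  have hpg : IsPGroup p (C1.map (QuotientGroup.mk' K)) := by
    rintro ⟨x, c, hc, rfl⟩
    refine ⟨m, ?_⟩
    apply Subtype.ext
    show (QuotientGroup.mk' K c) ^ (p ^ m) = 1
    rw [← map_pow]
    exact (QuotientGroup.eq_one_iff _).2 (hpowK c hc)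
  haveI hnq : (C1.map (QuotientGroup.mk' K)).Normal := hC1n.map _ hsurj
  have hle := le_sylow_of_normal_pgroup (S.mapSurjective hsurj) (C1.map (QuotientGroup.mk' K)) hpg
  have hKC2 : K ≤ Subgroup.centralizer (V₂ : Set G) := by
    apply Subgroup.centralizer_le
    intro x hx
    obtain ⟨w, hw, rfl⟩ := (h2 x).1 hx
    exact W.pow_mem hw p
  have hC1le : C1 ≤ Subgroup.centralizer (V₂ : Set G) ⊔ (S : Subgroup G) := by
    intro c hc
    have h3 : QuotientGroup.mk' K c ∈ ((S.mapSurjective hsurj : Sylow p (G ⧸ K)) : Subgroup (G ⧸ K)) :=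
      hle ⟨c, hc, rfl⟩
    rw [Sylow.coe_mapSurjective] at h3
    obtain ⟨s, hs, hsc⟩ := h3
    have h4 : s⁻¹ * c ∈ K := by
      have : QuotientGroup.mk' K (s⁻¹ * c) = 1 := by
        rw [map_mul, map_inv, hsc, inv_mul_cancel]
      exact (QuotientGroup.eq_one_iff _).1 this
    have h5 : c = s * (s⁻¹ * c) := by group
    rw [h5]
    exact Subgroup.mul_mem _ (Subgroup.mem_sup_right hs) (Subgroup.mem_sup_left (hKC2 h4))
  apply top_le_iff.1
  rw [← h]
  exact sup_le hC1le le_sup_right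

end Cfsg.Agent.Lib.Helper1.PU2770J
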