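import Mathlib
import Cfsg.Prelude.Def_PLocal
import Cfsg.Prelude.Def_BaumannBlocks
import Cfsg.Agent.S3007
import Cfsg.Agent.Lib.Helper1.FrattiniP
import Cfsg.Agent.Lib.Helper1.PU2770J
import Cfsg.Agent.Lib.Helper7.CentrallyLarge

/-!
# S2989 farm units (helper1): U10 (`Ω₁(W)`, Case 1) and U16 (Part 2)
-/

set_option autoImplicit false

namespace Cfsg.Agent.Lib.Helper1.CL2989a

open Cfsg
open scoped commutatorElement

/-! ## U16 : Part 2 -/

/-- the family `𝒬*` is nonempty -/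
theorem exists_calQstar (p : ℕ) (P : Type*) [Group P] [Finite P] :
    ∃ Q : Subgroup P, IsMinimalCentrallyLarge Q ∧
      Nat.card ↥(omegaOneCenter p Q) = maxOmegaCenterOfMinimalCL p P := by
  classical
  have hne : {k : ℕ | ∃ Q : Subgroup P, IsMinimalCentrallyLarge Q ∧
      Nat.card ↥(omegaOneCenter p Q) = k}.Nonempty := by
    obtain ⟨K, hK⟩ := Cfsg.Agent.Lib.Helper7.exists_isMinimalCentrallyLarge P
    exact ⟨_, K, hK, rfl⟩
  have hbdd : BddAbove {k : ℕ | ∃ Q : Subgroup P, IsMinimalCentrallyLarge Q ∧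
      Nat.card ↥(omegaOneCenter p Q) = k} := by
    refine ⟨Nat.card P, ?_⟩
    rintro k ⟨Q, -, rfl⟩
    exact Subgroup.card_le_card_group _
  exact Nat.sSup_mem hne hbdd

/-- a member of `𝒬*` has its Frattini subgroup inside `S_Φ` -/
theorem frattini_map_le_join (p : ℕ) (P : Type*) [Group P] (Q : Subgroup P)
    (hQ : IsMinimalCentrallyLarge Q)
    (hQm : Nat.card ↥(omegaOneCenter p Q) = maxOmegaCenterOfMinimalCL p P) :
    (frattini ↥Q).map Q.subtype ≤ frattiniOfMinimalCLJoin p P := by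
  unfold frattiniOfMinimalCLJoin
  exact le_iSup (fun Q : {Q : Subgroup P // IsMinimalCentrallyLarge Q ∧
      Nat.card ↥(omegaOneCenter p Q) = maxOmegaCenterOfMinimalCL p P} =>
      (frattini ↥(Q : Subgroup P)).map (Q : Subgroup P).subtype) ⟨Q, hQ, hQm⟩

/-- a finite `p`-group with trivial Frattini subgroup is elementary abelian -/
theorem elementary_of_frattini_eq_bot {p : ℕ} [Fact p.Prime] {H : Type*} [Group H] [Finite H]
    (hH : IsPGroup p H) (hfr : frattini H = ⊥) :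
    (∀ a b : H, a * b = b * a) ∧ ∀ a : H, a ^ p = 1 := by
  constructor
  · intro a b
    have h1 : ⁅a, b⁆ ∈ commutator H := by
      rw [commutator_def]
      exact Subgroup.commutator_mem_commutator (Subgroup.mem_top a) (Subgroup.mem_top b)
    have h2 := Cfsg.Agent.Lib.Helper1.commutator_le_frattini_of_isPGroup p hH h1
    rw [hfr, Subgroup.mem_bot] at h2
    exact (commutatorElement_eq_one_iff_mul_comm.1 h2)
  · intro a
    have h2 := Cfsg.Agent.Lib.Helper1.pow_prime_mem_frattini_of_isPGroup p hH a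
    rw [hfr, Subgroup.mem_bot] at h2
    exact h2

/-- (U16) Part 2 of S2989 over the group type `P`. -/
theorem part2 {p : ℕ} [Fact p.Prime] (P : Type*) [Group P] [Finite P] (hP : IsPGroup p P)
    (h : frattiniOfMinimalCLJoin p P = ⊥) :
    (∀ Q : Subgroup P, IsMinimalCentrallyLarge Q ↔ Q ∈ maxAbelianSubgroups P) ∧
    ∃ A ∈ maxAbelianSubgroups P, IsElementaryAbelian p A := by
  classical
  obtain ⟨Q, hQ, hQm⟩ := exists_calQstar p P
  have hfr : frattini ↥Q = ⊥ := by
    have hle := frattini_map_le_join p P Q hQ hQm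
    rw [h, le_bot_iff] at hle
    exact (Subgroup.map_eq_bot_iff_of_injective _ Q.subtype_injective).1 hle
  have hQp : IsPGroup p ↥Q := hP.to_subgroup Q
  obtain ⟨hcomm, hpow⟩ := elementary_of_frattini_eq_bot hQp hfr
  have hc : IsMulCommutative ↥Q := ⟨⟨hcomm⟩⟩
  have hiff := (Cfsg.Agent.S3007.result P hP Q Q hQ hQ).2.2.2.2 hc
  refine ⟨hiff, Q, (hiff Q).1 hQ, hc, ?_⟩
  intro a ha
  exact congrArg Subtype.val (hpow ⟨a, ha⟩)

/-! ## U10 : `V = Ω₁(W)` and Case 1 -/

section ambient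
variable {G : Type*} [Group G] [Finite G]

/-- `V = Ω₁(W)` for a normal abelian `W` : normal, inside `W`, elementary abelian. -/
theorem omega_exists (p : ℕ) (W : Subgroup G) [W.Normal]
    (hWc : ∀ a ∈ W, ∀ b ∈ W, a * b = b * a) :
    ∃ V : Subgroup G, V.Normal ∧ V ≤ W ∧ (∀ x, x ∈ V ↔ x ∈ W ∧ x ^ p = 1) ∧
      (∀ a ∈ V, ∀ b ∈ V, a * b = b * a) ∧ (∀ a ∈ V, a ^ p = 1) := by
  obtain ⟨V₁, V₂, hV₁, -, h1, -⟩ := Cfsg.Agent.Lib.Helper1.PU2770J.layers p W hWc
  refine ⟨V₁, hV₁, fun x hx => ((h1 x).1 hx).1, h1, ?_, fun a ha => ((h1 a).1 ha).2⟩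
  intro a ha b hb
  exact hWc a ((h1 a).1 ha).1 b ((h1 b).1 hb).1

/-- if `G = C_G(Ω₁(W)) S` then `G = C_G(W) S` (coprime action on the abelian `p`-group `W`). -/
theorem cent_omega_top {p : ℕ} [Fact p.Prime] (S : Sylow p G) (W V₁ : Subgroup G) [W.Normal]
    (hWp : IsPGroup p W)
    (hWc : ∀ a ∈ W, ∀ b ∈ W, a * b = b * a)
    (h1 : ∀ x, x ∈ V₁ ↔ x ∈ W ∧ x ^ p = 1)
    (h : Subgroup.centralizer (V₁ : Set G) ⊔ (S : Subgroup G) = ⊤) :
    Subgroup.centralizer (W : Set G) ⊔ (S : Subgroup G) = ⊤ := by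
  classical
  obtain ⟨m, hm⟩ := hWp.exists_card_eq
  haveI hV₁n : V₁.Normal := by
    constructor
    intro n hn g
    obtain ⟨hnW, hnp⟩ := (h1 n).1 hn
    refine (h1 _).2 ⟨‹W.Normal›.conj_mem n hnW g, ?_⟩
    rw [conj_pow, hnp]; group
  set C1 := Subgroup.centralizer (V₁ : Set G) with hC1
  set K := Subgroup.centralizer (W : Set G) with hK
  haveI hC1n : C1.Normal := Subgroup.normal_centralizer
  haveI hKn : K.Normal := Subgroup.normal_centralizer
  have hpowK : ∀ c ∈ C1, c ^ (p ^ m) ∈ K := by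
    intro c hc
    rw [hK, Subgroup.mem_centralizer_iff]
    intro w hw
    have hw1 : w ^ (p ^ (m + 1)) = 1 := by
      have : w ^ (p ^ m) = 1 := by
        have := pow_card_eq_one' (G := W) (x := ⟨w, hw⟩)
        rw [hm] at this
        exact congrArg Subtype.val this
      rw [pow_succ, pow_mul, this, one_pow]
    exact (Cfsg.Agent.Lib.Helper1.PU2770J.pow_mem_centralizer_of_omega W V₁ hWc h1 c hc m w hw
      hw1).symm
  have hsurj : Function.Surjective (QuotientGroup.mk' K) := QuotientGroup.mk'_surjective K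
  have hpg : IsPGroup p (C1.map (QuotientGroup.mk' K)) := by
    rintro ⟨x, c, hc, rfl⟩
    refine ⟨m, ?_⟩
    apply Subtype.ext
    show (QuotientGroup.mk' K c) ^ (p ^ m) = 1
    rw [← map_pow]
    exact (QuotientGroup.eq_one_iff _).2 (hpowK c hc)
  haveI hnq : (C1.map (QuotientGroup.mk' K)).Normal := hC1n.map _ hsurj
  have hle := Cfsg.Agent.Lib.Helper1.PU2770J.le_sylow_of_normal_pgroup (S.mapSurjective hsurj)
    (C1.map (QuotientGroup.mk' K)) hpg
  have hC1le : C1 ≤ K ⊔ (S : Subgroup G) := by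
    intro c hc
    have h3 : QuotientGroup.mk' K c ∈
        ((S.mapSurjective hsurj : Sylow p (G ⧸ K)) : Subgroup (G ⧸ K)) :=
      hle ⟨c, hc, rfl⟩
    rw [Sylow.coe_mapSurjective] at h3
    obtain ⟨s, hs, hsc⟩ := h3
    have h4 : s⁻¹ * c ∈ K := by
      have : QuotientGroup.mk' K (s⁻¹ * c) = 1 := by
        rw [map_mul, map_inv, hsc, inv_mul_cancel]
      exact (QuotientGroup.eq_one_iff _).1 this
    have h5 : c = s * (s⁻¹ * c) := by group
    rw [h5]
    exact Subgroup.mul_mem _ (Subgroup.mem_sup_right hs) (Subgroup.mem_sup_left h4)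
  apply top_le_iff.1
  rw [← h]
  exact sup_le hC1le le_sup_right

/-- a subgroup centralised by `C` and by `T` with `C ⊔ T = ⊤` is central, hence normal -/
theorem normal_of_centralized_by_sup_top (C T Z : Subgroup G) (h : C ⊔ T = ⊤)
    (hC : C ≤ Subgroup.centralizer (Z : Set G)) (hT : T ≤ Subgroup.centralizer (Z : Set G)) :
    Z ≤ Subgroup.center G ∧ Z.Normal := by
  have htop : Subgroup.centralizer (Z : Set G) = ⊤ := top_le_iff.1 (h ▸ sup_le hC hT)
  have hcen : Z ≤ Subgroup.center G := by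
    intro z hz
    rw [Subgroup.mem_center_iff]
    intro g
    have hg : g ∈ Subgroup.centralizer (Z : Set G) := htop ▸ Subgroup.mem_top g
    exact ((Subgroup.mem_centralizer_iff.1 hg) z hz).symm
  refine ⟨hcen, ⟨?_⟩⟩
  intro n hn g
  have h1 := Subgroup.mem_center_iff.1 (hcen hn) g
  have h2 : g * n * g⁻¹ = n := by rw [h1]; group
  rw [h2]; exact hn

/-- (U10) Case 1 of S2989 : if `G = C_G(Ω₁(W)) S` and `Z(S) ≤ W` then `Z(S) ⊴ G`. -/
theorem case1 {p : ℕ} [Fact p.Prime] (S : Sylow p G) (W V : Subgroup G) [W.Normal]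
    (hWp : IsPGroup p W)
    (hWc : ∀ a ∈ W, ∀ b ∈ W, a * b = b * a)
    (h1 : ∀ x, x ∈ V ↔ x ∈ W ∧ x ^ p = 1)
    (hZW : (S : Subgroup G) ⊓ Subgroup.centralizer ((S : Subgroup G) : Set G) ≤ W)
    (h : Subgroup.centralizer (V : Set G) ⊔ (S : Subgroup G) = ⊤) :
    ((S : Subgroup G) ⊓ Subgroup.centralizer ((S : Subgroup G) : Set G)).Normal := by
  have htop := cent_omega_top S W V hWp hWc h1 h
  refine (normal_of_centralized_by_sup_top _ _ _ htop ?_ ?_).2
  · exact Subgroup.centralizer_le hZW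
  · intro s hs
    rw [Subgroup.mem_centralizer_iff]
    intro z hz
    exact ((Subgroup.mem_centralizer_iff.1 hz.2) s hs).symm

end ambient

end Cfsg.Agent.Lib.Helper1.CL2989a
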