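import Mathlib
import Cfsg.Prelude.Def_PLocal
import Cfsg.Prelude.Def_BaumannBlocks
import Cfsg.Agent.S3007

/-!
# S2990 farm units (helper1): centrally large subgroups under automorphisms, `[Q,Q]` characteristic,
minimal CL below a CL
-/

set_option autoImplicit false
set_option linter.unusedVariables false
set_option linter.unusedSectionVars false
set_option linter.style.longLine false

namespace Cfsg.Agent.Lib.Helper1.CL2990a

open Cfsg
open scoped commutatorElement

variable {P : Type*} [Group P]

/-- `|R^e| |Z(R^e)| = |R| |Z(R)|` for an isomorphism `e` of the ambient group -/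
theorem clProduct_map_equiv {P' : Type*} [Group P'] (e : P ≃* P') (R : Subgroup P) :
    Nat.card ↥(R.map e.toMonoidHom) * Nat.card ↥(Subgroup.center ↥(R.map e.toMonoidHom))
      = Nat.card ↥R * Nat.card ↥(Subgroup.center ↥R) := by
  have f : ↥R ≃* ↥(R.map e.toMonoidHom) := R.equivMapOfInjective e.toMonoidHom e.injective
  rw [Nat.card_congr f.symm.toEquiv, Nat.card_congr (Subgroup.centerCongr f).symm.toEquiv]

/-- (U9a) centrally large subgroups are preserved by automorphisms -/
theorem isCentrallyLarge_map_equiv (e : P ≃* P) (R : Subgroup P) :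
    IsCentrallyLarge (R.map e.toMonoidHom) ↔ IsCentrallyLarge R := by
  unfold IsCentrallyLarge
  rw [clProduct_map_equiv]

/-- (U9b) minimal centrally large subgroups are preserved by automorphisms -/
theorem isMinimalCentrallyLarge_map_equiv (e : P ≃* P) (R : Subgroup P)
    (hR : IsMinimalCentrallyLarge R) : IsMinimalCentrallyLarge (R.map e.toMonoidHom) := by
  refine ⟨(isCentrallyLarge_map_equiv e R).2 hR.1, ?_⟩
  intro R' hR' hcl
  -- pull back by `e.symm`
  have h1 : R'.map e.symm.toMonoidHom ≤ R := by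
    rintro x ⟨y, hy, rfl⟩
    obtain ⟨z, hz, rfl⟩ := hR' hy
    simpa using hz
  have h2 : IsCentrallyLarge (R'.map e.symm.toMonoidHom) :=
    (isCentrallyLarge_map_equiv e.symm R').2 hcl
  have h3 := hR.2 _ h1 h2
  rw [← h3, Subgroup.map_map]
  ext x
  simp

/-- (U9c) `[Q, Q]` is characteristic for a minimal centrally large `Q` of a `p`-group -/
theorem commutator_characteristic {p : ℕ} [Fact p.Prime] [Finite P] (hP : IsPGroup p P)
    (Q : Subgroup P) (hQ : IsMinimalCentrallyLarge Q) : (⁅Q, Q⁆).Characteristic := by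
  rw [Subgroup.characteristic_iff_map_eq]
  intro e
  have h1 := isMinimalCentrallyLarge_map_equiv e Q hQ
  have h2 := (Cfsg.Agent.S3007.result P hP Q (Q.map e.toMonoidHom) hQ h1).2.1
  rw [Subgroup.map_commutator]
  exact h2.symm

/-- (U9d) if `[Q, Q] = 1` the minimal centrally large subgroups are the abelian subgroups of maximal
order -/
theorem mcl_iff_maxAb_of_commutator_eq_bot {p : ℕ} [Fact p.Prime] [Finite P] (hP : IsPGroup p P)
    (Q : Subgroup P) (hQ : IsMinimalCentrallyLarge Q) (h : ⁅Q, Q⁆ = ⊥) :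
    ∀ R : Subgroup P, IsMinimalCentrallyLarge R ↔ R ∈ maxAbelianSubgroups P := by
  have hc : IsMulCommutative ↥Q := by
    refine ⟨⟨?_⟩⟩
    rintro ⟨a, ha⟩ ⟨b, hb⟩
    apply Subtype.ext
    have h1 : ⁅a, b⁆ ∈ ⁅Q, Q⁆ := Subgroup.commutator_mem_commutator ha hb
    rw [h, Subgroup.mem_bot, commutatorElement_def] at h1
    show a * b = b * a
    calc a * b = (a * b * a⁻¹ * b⁻¹) * (b * a) := by group
      _ = b * a := by rw [h1, one_mul]
  exact (Cfsg.Agent.S3007.result P hP Q Q hQ hQ).2.2.2.2 hc

/-- (U5) below every centrally large subgroup there is a minimal centrally large one -/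
theorem exists_isMinimalCentrallyLarge_le [Finite P] (R : Subgroup P) (hR : IsCentrallyLarge R) :
    ∃ R0, R0 ≤ R ∧ IsMinimalCentrallyLarge R0 := by
  classical
  have hne : {X : Subgroup P | X ≤ R ∧ IsCentrallyLarge X}.Nonempty := ⟨R, le_rfl, hR⟩
  obtain ⟨K, hK, hmin⟩ := Set.Finite.exists_minimal (Set.toFinite _) hne
  refine ⟨K, hK.1, hK.2, fun R' hR' hcl => ?_⟩
  exact le_antisymm hR' (hmin ⟨hR'.trans hK.1, hcl⟩ hR')

end Cfsg.Agent.Lib.Helper1.CL2990a
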