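import Mathlib
import Cfsg.Agent.Lib.Helper6.CL0
import Cfsg.Agent.Lib.Helper1.CL2989a
import Cfsg.Agent.Lib.Helper1.CL2990a

/-!
# S2990 / S2989 farm units (helper1), VERBATIM from helper6's stubs:
`cent_omega`, `part2_2989`, `part13_2990`, `exists_mclstar`.
-/

set_option autoImplicit false

namespace Cfsg.Agent.Lib.Helper1.CL2989b

open Cfsg.Agent.Lib.Helper6.CLP

variable {G : Type*} [Group G] [Finite G] {p : ℕ} [Fact p.Prime]

/-- U-CENTOMEGA : if `G = C_G(Ω₁(W)) S` then `G = C_G(W) S`. -/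
theorem cent_omega (S : Sylow p G) (W V₁ : Subgroup G) [W.Normal] (hWp : IsPGroup p W)
    (hWc : ∀ a ∈ W, ∀ b ∈ W, a * b = b * a) (h1 : ∀ x, x ∈ V₁ ↔ x ∈ W ∧ x ^ p = 1)
    (h : Subgroup.centralizer (V₁ : Set G) ⊔ (S : Subgroup G) = ⊤) :
    Subgroup.centralizer (W : Set G) ⊔ (S : Subgroup G) = ⊤ :=
  Cfsg.Agent.Lib.Helper1.CL2989a.cent_omega_top S W V₁ hWp hWc h1 h

/-- U-PART2 : the second assertion of S2989 (pure `p`-group theory, uses S3007). -/
theorem part2_2989 (P : Type*) [Group P] [Finite P] (hP : IsPGroup p P)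
    (h : Cfsg.frattiniOfMinimalCLJoin p P = ⊥) :
    (∀ Q : Subgroup P, Cfsg.IsMinimalCentrallyLarge Q ↔ Q ∈ Cfsg.maxAbelianSubgroups P) ∧
    ∃ A ∈ Cfsg.maxAbelianSubgroups P, Cfsg.IsElementaryAbelian p A :=
  Cfsg.Agent.Lib.Helper1.CL2989a.part2 P hP h

/-- U-PART13 : the first and third assertions of S2990 (pure `p`-group theory, uses S3007). -/
theorem part13_2990 (P : Type*) [Group P] [Finite P] (hP : IsPGroup p P) (Q : Subgroup P)
    (hQ : Cfsg.IsMinimalCentrallyLarge Q) :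
    (⁅Q, Q⁆).Characteristic ∧
    (⁅Q, Q⁆ = ⊥ → ∀ R : Subgroup P, Cfsg.IsMinimalCentrallyLarge R ↔ R ∈ Cfsg.maxAbelianSubgroups P) :=
  ⟨Cfsg.Agent.Lib.Helper1.CL2990a.commutator_characteristic hP Q hQ,
    fun h => Cfsg.Agent.Lib.Helper1.CL2990a.mcl_iff_maxAb_of_commutator_eq_bot hP Q hQ h⟩

omit [Fact p.Prime] in
/-- U-EXMCL : minimal centrally large subgroups exist (also with `|Ω₁ Z|` maximal). -/
theorem exists_mclstar (p : ℕ) (S : Subgroup G) : ∃ Q : Subgroup G, MCLstar p S Q := by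
  classical
  have hne : {X : Subgroup G | MCLin S X}.Nonempty := by
    obtain ⟨K, hK⟩ := Cfsg.Agent.Lib.Helper7.exists_isMinimalCentrallyLarge ↥S
    refine ⟨K.map S.subtype, Subgroup.map_subtype_le K, ?_⟩
    have : (K.map S.subtype).subgroupOf S = K :=
      Subgroup.comap_map_eq_self_of_injective S.subtype_injective K
    rw [this]
    exact hK
  obtain ⟨X, hX, hmax⟩ := Set.exists_max_image {X : Subgroup G | MCLin S X}
    (fun X => Nat.card (Cfsg.omegaOneCenter p X)) (Set.toFinite _) hne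
  exact ⟨X, hX, fun Y hY => hmax Y hY⟩

end Cfsg.Agent.Lib.Helper1.CL2989b
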