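import Mathlib
import Cfsg.Prelude.Def_PLocal
import Cfsg.Agent.Lib.Helper1.PCore

/-!
# S2990 / S2989 glue (helper1): the facts about `W = ⟨Z(S)^G⟩` packaged as one lemma
-/

set_option autoImplicit false

namespace Cfsg.Agent.Lib.Helper1.CL2989c

variable {G : Type*} [Group G] [Finite G] {p : ℕ} [Fact p.Prime]

/-- `W = ⟨Z(S)^G⟩` in a group with `C_G(O_p(G)) ≤ O_p(G)`: normal, contains `Z(S)`, inside
`Z(O_p(G))`, inside `S`, an abelian `p`-group centralised by `O_p(G)`. -/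
theorem w_facts (S : Sylow p G)
    (hE₁ : Subgroup.centralizer (Cfsg.pCore p G : Set G) ≤ Cfsg.pCore p G) :
    ∃ W : Subgroup G, W.Normal ∧
      (S : Subgroup G) ⊓ Subgroup.centralizer ((S : Subgroup G) : Set G) ≤ W ∧
      W ≤ Cfsg.pCore p G ∧ W ≤ Subgroup.centralizer (Cfsg.pCore p G : Set G) ∧
      W ≤ (S : Subgroup G) ∧ IsPGroup p W ∧
      (∀ a ∈ W, ∀ b ∈ W, a * b = b * a) ∧
      Cfsg.pCore p G ≤ Subgroup.centralizer (W : Set G) ∧
      W = Subgroup.normalClosure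
        (((S : Subgroup G) ⊓ Subgroup.centralizer ((S : Subgroup G) : Set G) : Subgroup G) : Set G) := by
  have hQn := Cfsg.Agent.Lib.Helper1.pCore_normal (G := G) p
  have hQS := Cfsg.Agent.Lib.Helper1.pCore_le_sylow p S
  have hQp := Cfsg.Agent.Lib.Helper1.pCore_isPGroup (G := G) p
  have hZcQ : (S : Subgroup G) ⊓ Subgroup.centralizer ((S : Subgroup G) : Set G) ≤
      Subgroup.centralizer (Cfsg.pCore p G : Set G) :=
    inf_le_right.trans (Subgroup.centralizer_le (by exact_mod_cast hQS))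
  have hZQ : (S : Subgroup G) ⊓ Subgroup.centralizer ((S : Subgroup G) : Set G) ≤
      Cfsg.pCore p G ⊓ Subgroup.centralizer (Cfsg.pCore p G : Set G) :=
    le_inf (hZcQ.trans hE₁) hZcQ
  obtain ⟨W, hWdef⟩ : ∃ W : Subgroup G, W = Subgroup.normalClosure
      (((S : Subgroup G) ⊓ Subgroup.centralizer ((S : Subgroup G) : Set G) : Subgroup G) : Set G) :=
    ⟨_, rfl⟩
  have hWn : W.Normal := by rw [hWdef]; infer_instance
  have hZW : (S : Subgroup G) ⊓ Subgroup.centralizer ((S : Subgroup G) : Set G) ≤ W := by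
    rw [hWdef]; exact Subgroup.le_normalClosure
  have hWZQ : W ≤ Cfsg.pCore p G ⊓ Subgroup.centralizer (Cfsg.pCore p G : Set G) := by
    rw [hWdef]
    exact Subgroup.normalClosure_le_normal hZQ
  have hWQ : W ≤ Cfsg.pCore p G := hWZQ.trans inf_le_left
  have hWS : W ≤ S := hWQ.trans hQS
  have hWp : IsPGroup p W := hQp.to_le hWQ
  have hWc : ∀ a ∈ W, ∀ b ∈ W, a * b = b * a := by
    intro a ha b hb
    have h1 : a ∈ Subgroup.centralizer (Cfsg.pCore p G : Set G) :=
      (Subgroup.mem_inf.mp (hWZQ ha)).2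
    rw [Subgroup.mem_centralizer_iff] at h1
    exact (h1 b (hWQ hb)).symm
  have hQW : Cfsg.pCore p G ≤ Subgroup.centralizer (W : Set G) := by
    intro q hq
    rw [Subgroup.mem_centralizer_iff]
    intro w hw
    have h1 : w ∈ Subgroup.centralizer (Cfsg.pCore p G : Set G) :=
      (Subgroup.mem_inf.mp (hWZQ hw)).2
    rw [Subgroup.mem_centralizer_iff] at h1
    exact (h1 q hq).symm
  exact ⟨W, hWn, hZW, hWQ, hWZQ.trans inf_le_right, hWS, hWp, hWc, hQW, hWdef⟩

end Cfsg.Agent.Lib.Helper1.CL2989c
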