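import Cfsg.Agent.Lib.Helper1.CM1

set_option autoImplicit false

namespace Cfsg.Agent.Lib.Helper1.CM

open Subgroup

variable {G : Type*} [Group G]

theorem normalizer_eq_self_of_coatom {M : Subgroup G} (hM : IsCoatom M) (hn : ¬ M.Normal) :
    normalizer (M : Set G) = M := by
  by_contra hne
  have hlt : M < normalizer (M : Set G) := lt_of_le_of_ne le_normalizer (Ne.symm hne)
  exact hn (normalizer_eq_top_iff.mp (hM.lt_iff.mp hlt))

/-- A normal maximal subgroup of a finite group has prime index and cyclic quotient. -/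
theorem prime_index_of_normal_coatom [Finite G] {K : Subgroup G} (hKn : K.Normal)
    (hK : IsCoatom K) :
    K.index.Prime ∧ (∀ g : G, g ^ K.index ∈ K) ∧ ∀ g h : G, g * h * g⁻¹ * h⁻¹ ∈ K := by
  have hidx : K.index ≠ 1 := fun h1 => hK.1 (index_eq_one.mp h1)
  have hcard : Nat.card (G ⧸ K) = K.index := (index_eq_card K).symm
  obtain ⟨r, hr, hrd⟩ := Nat.exists_prime_and_dvd hidx
  have := Fact.mk hr
  obtain ⟨gb, hgb⟩ := exists_prime_orderOf_dvd_card' (G := G ⧸ K) r (hcard ▸ hrd)
  obtain ⟨g, rfl⟩ := QuotientGroup.mk_surjective gb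
  have hgK : g ∉ K := by
    intro hg
    have : (g : G ⧸ K) = 1 := (QuotientGroup.eq_one_iff g).mpr hg
    rw [this, orderOf_one] at hgb
    exact hr.one_lt.ne hgb
  have hlt : K < (zpowers (g : G ⧸ K)).comap (QuotientGroup.mk' K) := by
    refine lt_of_le_of_ne ?_ ?_
    · intro k hk
      rw [mem_comap, QuotientGroup.mk'_apply, (QuotientGroup.eq_one_iff k).mpr hk]
      exact one_mem _
    · intro heq
      apply hgK
      rw [heq, mem_comap]
      exact mem_zpowers _
  have htop := hK.lt_iff.mp hlt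
  have hall : ∀ a : G ⧸ K, a ∈ zpowers (g : G ⧸ K) := by
    intro a
    obtain ⟨a', rfl⟩ := QuotientGroup.mk_surjective a
    have : a' ∈ (zpowers (g : G ⧸ K)).comap (QuotientGroup.mk' K) := htop ▸ mem_top a'
    exact this
  have hcard2 : K.index = r := by
    rw [← hcard, ← hgb]
    exact (orderOf_eq_card_of_forall_mem_zpowers hall).symm
  refine ⟨hcard2 ▸ hr, ?_, ?_⟩
  · intro a
    rw [← QuotientGroup.eq_one_iff, QuotientGroup.mk_pow, ← hcard]
    exact pow_card_eq_one'
  · intro a b
    rw [← QuotientGroup.eq_one_iff]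
    obtain ⟨i, hi⟩ := mem_zpowers_iff.mp (hall (a : G ⧸ K))
    obtain ⟨j, hj⟩ := mem_zpowers_iff.mp (hall (b : G ⧸ K))
    simp only [QuotientGroup.mk_mul, QuotientGroup.mk_inv]
    rw [← hi, ← hj, ← zpow_add, ← zpow_neg, ← zpow_neg, ← zpow_add, ← zpow_add]
    simp

theorem not_comm_of_ne (h : Hyp G) {x u : G} (hx : x ∉ center G) (hu : u ∉ center G)
    (hux : u ∈ centralizer ({x} : Set G))
    (hne : centralizer ({u} : Set G) ≠ centralizer ({x} : Set G)) :
    ¬ Comm (centralizer ({u} : Set G)) ∧ ¬ Comm (centralizer ({x} : Set G)) := by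
  constructor
  · intro hc
    apply hne
    have hle : centralizer ({u} : Set G) ≤ centralizer ({x} : Set G) := by
      intro c hcu
      rw [mem_centralizer_singleton_iff]
      exact hc c hcu x (mem_cent_comm hux)
    exact (cent_eq_of_le h hu hx hle).symm
  · intro hc
    apply hne
    have hle : centralizer ({x} : Set G) ≤ centralizer ({u} : Set G) := by
      intro c hcx
      rw [mem_centralizer_singleton_iff]
      exact hc c hcx u hux
    exact cent_eq_of_le h hx hu hle

theorem type_of_mem [Finite G] (h : Hyp G) {x : G} (hx : x ∉ center G) {p k : ℕ} (hp : p.Prime)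
    (hord : orderOf x = p ^ k) (hnc : ¬ Comm (centralizer ({x} : Set G))) {u : G}
    (hux : u ∈ centralizer ({x} : Set G)) (hu : u ∉ center G) :
    ¬ Comm (centralizer ({u} : Set G)) ∧ IsP p (centralizer ({u} : Set G)) ∧
      ∃ (u' : G) (k' : ℕ), u' ∉ center G ∧ orderOf u' = p ^ k' ∧ u' ∈ zpowers u ∧
        centralizer ({u'} : Set G) = centralizer ({u} : Set G) := by
  have hP := isP_of_not_comm h hx hp hord hnc
  obtain ⟨j, hj⟩ := hP u hux
  obtain ⟨q, l, u', hq, hu'u, hu'Z, hu'ord, hu'C⟩ := exists_prime_pow_rep h hu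
  have hqp : q = p := by
    by_contra hne
    apply hu'Z
    have hcop : Nat.Coprime (p ^ j) (q ^ l) :=
      Nat.Coprime.pow _ _ ((Nat.coprime_primes hp hq).mpr (Ne.symm hne))
    apply mem_of_pow_mem (center G) hcop
    · obtain ⟨n, rfl⟩ := mem_zpowers_iff.mp hu'u
      rw [← zpow_natCast, ← zpow_mul, mul_comm, zpow_mul, zpow_natCast]
      exact (center G).zpow_mem hj n
    · rw [← hu'ord, pow_orderOf_eq_one]; exact one_mem _
  subst hqp
  have hncu : ¬ Comm (centralizer ({u} : Set G)) := by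
    by_cases heq : centralizer ({u} : Set G) = centralizer ({x} : Set G)
    · rw [heq]; exact hnc
    · exact (not_comm_of_ne h hx hu hux heq).1
  refine ⟨hncu, ?_, u', l, hu'Z, hu'ord, hu'u, hu'C⟩
  rw [← hu'C]
  exact isP_of_not_comm h hu'Z hq hu'ord (hu'C ▸ hncu)

theorem not_all_pElement [Finite G] (h : Hyp G) {x0 : G} (hx0 : x0 ∉ center G)
    (hnn : ¬ (centralizer ({x0} : Set G)).Normal) {p : ℕ} (hp : p.Prime) :
    ¬ ∀ g : G, ∃ j : ℕ, g ^ (p ^ j) ∈ center G := by
  intro hall
  have := Fact.mk hp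
  have hPG : IsPGroup p (G ⧸ center G) := by
    intro a
    obtain ⟨g, rfl⟩ := QuotientGroup.mk_surjective a
    obtain ⟨j, hj⟩ := hall g
    exact ⟨j, by rw [← QuotientGroup.mk_pow]; exact (QuotientGroup.eq_one_iff _).mpr hj⟩
  have hnil : Group.IsNilpotent (G ⧸ center G) := hPG.isNilpotent
  have hnilG : Group.IsNilpotent G :=
    Subgroup.isNilpotent_of_ker_le_center (QuotientGroup.mk' (center G))
      (by rw [QuotientGroup.ker_mk'])
  exact hnn (Group.normalizerCondition_of_isNilpotent.normal_of_coatom _ (h x0 hx0))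

/-- Case A: all noncentral centralizers normal. -/
theorem caseA [Finite G] (h : Hyp G) (hna : ∃ x : G, x ∉ center G)
    (hall : ∀ x : G, x ∉ center G → (centralizer ({x} : Set G)).Normal) :
    (∀ g k : G, g * k * g⁻¹ * k⁻¹ ∈ center G) ∧
      ∃ p : ℕ, p.Prime ∧ ∀ g : G, g ^ p ∈ center G := by
  have hcomm : ∀ g k : G, g * k * g⁻¹ * k⁻¹ ∈ center G := by
    intro g k
    rw [mem_center_iff]
    intro x
    by_cases hx : x ∈ center G
    · exact (mem_center_iff.mp hx _).symm
    · have := (prime_index_of_normal_coatom (hall x hx) (h x hx)).2.2 g k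
      rw [mem_centralizer_singleton_iff] at this
      exact this.symm
  -- each noncentral element has prime order mod Z
  have hprime : ∀ x : G, x ∉ center G → ∃ r : ℕ, r.Prime ∧ x ^ r ∈ center G := by
    intro x hx
    obtain ⟨hr, hpow, -⟩ := prime_index_of_normal_coatom (hall x hx) (h x hx)
    refine ⟨_, hr, ?_⟩
    set r := (centralizer ({x} : Set G)).index
    rw [mem_center_iff]
    intro g
    set z := g * x * g⁻¹ * x⁻¹ with hz
    have hzZ : z ∈ center G := hcomm g x
    have hzc : ∀ a : G, Commute z a := fun a => (mem_center_iff.mp hzZ a).symm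
    have hconj : g * x * g⁻¹ = z * x := by rw [hz]; group
    have hind : ∀ n : ℕ, g ^ n * x * (g ^ n)⁻¹ = z ^ n * x := by
      intro n
      induction n with
      | zero => simp
      | succ n ih =>
        have : g ^ (n + 1) * x * (g ^ (n + 1))⁻¹ = g * (g ^ n * x * (g ^ n)⁻¹) * g⁻¹ := by
          rw [pow_succ']; group
        rw [this, ih]
        have h2 : g * (z ^ n * x) * g⁻¹ = z ^ n * (g * x * g⁻¹) := by
          have := ((hzc g).pow_left n).eq
          calc g * (z ^ n * x) * g⁻¹ = (g * z ^ n) * x * g⁻¹ := by group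
            _ = (z ^ n * g) * x * g⁻¹ := by rw [this]
            _ = z ^ n * (g * x * g⁻¹) := by group
        rw [h2, hconj, ← mul_assoc, ← pow_succ]
    have hzr : z ^ r = 1 := by
      have h1 := hind r
      have h2 : g ^ r * x = x * g ^ r := by
        have := hpow g
        rw [mem_centralizer_singleton_iff] at this
        exact this
      have h3 : g ^ r * x * (g ^ r)⁻¹ = x := by rw [h2]; group
      rw [h3] at h1
      have : z ^ r * x = 1 * x := by rw [one_mul]; exact h1.symm
      exact mul_right_cancel this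
    have hgx : g * x ^ r * g⁻¹ = x ^ r := by
      have : g * x ^ r * g⁻¹ = (g * x * g⁻¹) ^ r := by
        rw [conj_pow]
      rw [this, hconj, (hzc x).mul_pow, hzr, one_mul]
    calc g * x ^ r = (g * x ^ r * g⁻¹) * g := by group
      _ = x ^ r * g := by rw [hgx]
  obtain ⟨x1, hx1⟩ := hna
  obtain ⟨p, hp, hx1p⟩ := hprime x1 hx1
  refine ⟨hcomm, p, hp, ?_⟩
  intro y
  by_cases hy : y ∈ center G
  · exact pow_mem hy p
  obtain ⟨q, hq, hyq⟩ := hprime y hy
  by_cases hqp : q = p
  · rw [← hqp]; exact hyq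
  exfalso
  have ho1 : orderOf (x1 : G ⧸ center G) = p := by
    apply orderOf_eq_prime (hp := ⟨hp⟩)
    · rw [← QuotientGroup.mk_pow]; exact (QuotientGroup.eq_one_iff _).mpr hx1p
    · intro h1; exact hx1 ((QuotientGroup.eq_one_iff _).mp h1)
  have ho2 : orderOf (y : G ⧸ center G) = q := by
    apply orderOf_eq_prime (hp := ⟨hq⟩)
    · rw [← QuotientGroup.mk_pow]; exact (QuotientGroup.eq_one_iff _).mpr hyq
    · intro h1; exact hy ((QuotientGroup.eq_one_iff _).mp h1)
  have hc : Commute (x1 : G ⧸ center G) (y : G ⧸ center G) := by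
    have := (QuotientGroup.eq_one_iff _).mpr (hcomm x1 y)
    simp only [QuotientGroup.mk_mul, QuotientGroup.mk_inv] at this
    rw [mul_inv_eq_one, mul_inv_eq_iff_eq_mul] at this
    exact this
  have ho3 : orderOf ((x1 * y : G) : G ⧸ center G) = p * q := by
    rw [QuotientGroup.mk_mul, hc.orderOf_mul_eq_mul_orderOf_of_coprime, ho1, ho2]
    rw [ho1, ho2]
    exact (Nat.coprime_primes hp hq).mpr (Ne.symm hqp)
  have hw : x1 * y ∉ center G := by
    intro hw
    rw [(QuotientGroup.eq_one_iff _).mpr hw, orderOf_one] at ho3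
    have := hp.one_lt
    have := hq.one_lt
    nlinarith
  obtain ⟨r, hr, hwr⟩ := hprime _ hw
  have hdvd : p * q ∣ r := by
    rw [← ho3]
    apply orderOf_dvd_of_pow_eq_one
    rw [← QuotientGroup.mk_pow]
    exact (QuotientGroup.eq_one_iff _).mpr hwr
  rcases (Nat.dvd_prime hr).mp hdvd with h1 | h1
  · have := hp.one_lt
    have := hq.one_lt
    nlinarith
  · exact Nat.not_prime_mul hp.one_lt.ne' hq.one_lt.ne' (h1 ▸ hr)

end Cfsg.Agent.Lib.Helper1.CM
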