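import Cfsg.Agent.Lib.Helper1.CM2
import Cfsg.Agent.Lib.Helper7.TwoFrob

set_option autoImplicit false

namespace Cfsg.Agent.Lib.Helper1.CM

open Subgroup
open scoped Pointwise

variable {G : Type*} [Group G]

theorem isCoatom_of_comap {H : Type*} [Group H] {f : G →* H} (hf : Function.Surjective f)
    {M : Subgroup H} (hM : IsCoatom (M.comap f)) : IsCoatom M := by
  constructor
  · intro htop
    apply hM.1
    rw [htop, comap_top]
  · intro K hK
    have h1 : M.comap f < K.comap f := (comap_lt_comap_of_surjective hf).mpr hK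
    have h2 := hM.2 _ h1
    rw [← comap_top f] at h2
    exact comap_injective hf h2

/-- Structure of a split extension `Q = N ⋊ M` with `N` abelian normal maximal, `M` maximal. -/
theorem split_structure {Q : Type*} [Group Q] [Finite Q] (N M : Subgroup Q) (hNn : N.Normal)
    (hNc : Comm N) (hNco : IsCoatom N) (hMco : IsCoatom M) (hcompl : IsComplement' N M)
    (hN1 : N ≠ ⊥) (hcop : Nat.Coprime (Nat.card N) (Nat.card M)) :
    (∀ H : Subgroup Q, H ≠ ⊤ → Comm H) ∧
    (∃ p q a : ℕ, p.Prime ∧ q.Prime ∧ p ≠ q ∧ Nat.card Q = p ^ a * q ∧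
      ∀ P : Subgroup Q, Nat.card P = p ^ a → P.Normal) ∧
    Group.IsSolvable Q := by
  have hNM : N ⊓ M = ⊥ := disjoint_iff.mp hcompl.disjoint
  obtain ⟨hq, hpow, hcomm⟩ := prime_index_of_normal_coatom hNn hNco
  have hMq : Nat.card M = N.index := hcompl.symm.index_eq_card.symm
  -- dichotomy for normal subgroups inside N
  have hdich : ∀ L : Subgroup Q, L.Normal → L ≤ N → L = ⊥ ∨ N ≤ L := by
    intro L hLn hLN
    rcases (hMco.le_iff (x := L ⊔ M)).mp le_sup_right with htop | hM
    · right
      intro n hn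
      have hmem : n ∈ L ⊔ M := htop ▸ mem_top n
      have := hLn
      obtain ⟨l, hl, m, hm, rfl⟩ := (mem_sup_of_normal_left).mp hmem
      have hmN : m ∈ N := by
        have : m = l⁻¹ * (l * m) := by group
        rw [this]
        exact N.mul_mem (N.inv_mem (hLN hl)) hn
      have hm1 : m = 1 := by
        have : m ∈ N ⊓ M := ⟨hmN, hm⟩
        rw [hNM] at this
        exact mem_bot.mp this
      rw [hm1, mul_one]
      exact hl
    · left
      rw [eq_bot_iff, ← hNM]
      exact le_inf hLN (hM ▸ le_sup_left)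
  refine ⟨?_, ?_, ?_⟩
  · intro H hH
    by_cases hHN : H ≤ N
    · intro a ha b hb
      exact hNc a (hHN ha) b (hHN hb)
    · have hsup : H ⊔ N = ⊤ := by
        apply hNco.lt_iff.mp
        apply lt_of_le_of_ne le_sup_right
        intro heq
        apply hHN
        rw [heq]
        exact le_sup_left
      have hLn : (H ⊓ N).Normal := by
        constructor
        intro l hl g
        have hg : g ∈ H ⊔ N := hsup ▸ mem_top g
        have := hNn
        obtain ⟨hh, hhH, n, hnN, rfl⟩ := (mem_sup_of_normal_right).mp hg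
        have h1 : n * l * n⁻¹ = l := by
          have := hNc n hnN l hl.2
          rw [this]; group
        have h2 : hh * n * l * (hh * n)⁻¹ = hh * (n * l * n⁻¹) * hh⁻¹ := by group
        rw [h2, h1]
        exact ⟨H.mul_mem (H.mul_mem hhH hl.1) (H.inv_mem hhH), hNn.conj_mem l hl.2 hh⟩
      rcases hdich _ hLn inf_le_right with hbot | hle
      · intro a ha b hb
        have h1 : a * b * a⁻¹ * b⁻¹ ∈ H ⊓ N :=
          ⟨H.mul_mem (H.mul_mem (H.mul_mem ha hb) (H.inv_mem ha)) (H.inv_mem hb), hcomm a b⟩
        rw [hbot, mem_bot] at h1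
        rw [mul_inv_eq_one, mul_inv_eq_iff_eq_mul] at h1
        exact h1
      · exfalso
        apply hH
        rw [← hsup]
        exact (sup_eq_left.mpr (hle.trans inf_le_left)).symm
  · -- the prime p
    have hcardN : Nat.card N ≠ 1 := by
      intro h1
      exact hN1 ((card_eq_one (H := N)).mp h1)
    obtain ⟨p, hp, hpd⟩ := Nat.exists_prime_and_dvd hcardN
    have := Fact.mk hp
    obtain ⟨n0, hn0⟩ := exists_prime_orderOf_dvd_card' (G := N) p hpd
    -- the subgroup of elements of order dividing p in N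
    let L : Subgroup Q :=
      { carrier := {n | n ∈ N ∧ n ^ p = 1}
        one_mem' := ⟨N.one_mem, one_pow _⟩
        mul_mem' := by
          rintro a b ⟨ha, hap⟩ ⟨hb, hbp⟩
          refine ⟨N.mul_mem ha hb, ?_⟩
          rw [(show Commute a b from hNc a ha b hb).mul_pow, hap, hbp, one_mul]
        inv_mem' := by
          rintro a ⟨ha, hap⟩
          exact ⟨N.inv_mem ha, by rw [inv_pow, hap, inv_one]⟩ }
    have hLmem : ∀ n : Q, n ∈ L ↔ n ∈ N ∧ n ^ p = 1 := fun n => Iff.rfl
    have hLn : L.Normal := by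
      constructor
      intro n hn g
      rw [hLmem] at hn ⊢
      exact ⟨hNn.conj_mem n hn.1 g, by rw [conj_pow, hn.2]; group⟩
    have hLN : L ≤ N := fun n hn => ((hLmem n).mp hn).1
    have hNL : N ≤ L := by
      rcases hdich L hLn hLN with hbot | hle
      · exfalso
        have h1 : (n0 : Q) ∈ L := by
          rw [hLmem]
          refine ⟨n0.2, ?_⟩
          have : n0 ^ p = 1 := by rw [← hn0]; exact pow_orderOf_eq_one n0
          have h2 := congrArg (Subtype.val) this
          simpa using h2
        rw [hbot, mem_bot] at h1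
        have : n0 = 1 := Subtype.ext h1
        rw [this, orderOf_one] at hn0
        exact hp.one_lt.ne hn0
      · exact hle
    have hPG : IsPGroup p N := by
      intro n
      refine ⟨1, ?_⟩
      have := ((hLmem _).mp (hNL n.2)).2
      rw [pow_one]
      exact Subtype.ext (by simpa using this)
    obtain ⟨a, ha⟩ := (IsPGroup.iff_card).mp hPG
    have hpq : p ≠ N.index := by
      intro heq
      rw [← hMq] at heq
      have h1 : p ∣ Nat.card M := heq ▸ dvd_refl p
      have := Nat.eq_one_of_dvd_coprimes hcop hpd h1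
      exact hp.one_lt.ne' this
    refine ⟨p, N.index, a, hp, hq, hpq, ?_, ?_⟩
    · rw [← ha]; exact (N.card_mul_index).symm
    · intro P hP
      have hPN : P ≤ N := by
        intro x hx
        apply mem_of_pow_mem N (a := p ^ a) (b := N.index)
        · exact Nat.Coprime.pow_left a ((Nat.coprime_primes hp hq).mpr hpq)
        · have : orderOf x ∣ p ^ a := hP ▸ Subgroup.orderOf_dvd_natCard P hx
          rw [orderOf_dvd_iff_pow_eq_one.mp this]
          exact N.one_mem
        · exact hpow x
      have : P = N := Subgroup.eq_of_le_of_card_ge hPN (by rw [hP, ha])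
      rw [this]
      exact hNn
  · have h1 : Group.IsSolvable N := Group.isSolvable_of_comm (fun a b => Subtype.ext (hNc a a.2 b b.2))
    have h2 : Group.IsSolvable (Q ⧸ N) := by
      apply Group.isSolvable_of_comm
      intro a b
      obtain ⟨a', rfl⟩ := QuotientGroup.mk_surjective a
      obtain ⟨b', rfl⟩ := QuotientGroup.mk_surjective b
      have := (QuotientGroup.eq_one_iff _).mpr (hcomm a' b')
      simp only [QuotientGroup.mk_mul, QuotientGroup.mk_inv] at this
      rw [mul_inv_eq_one, mul_inv_eq_iff_eq_mul] at this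
      exact this
    exact Group.isSolvable_of_ker_le_range N.subtype (QuotientGroup.mk' N) (by simp)


/-- Case B1: a nonnormal abelian centralizer gives a Frobenius structure on `G / Z(G)`. -/
theorem caseB1 [Finite G] (h : Hyp G) {x : G} (hx : x ∉ center G)
    (hnn : ¬ (centralizer ({x} : Set G)).Normal) (hc : Comm (centralizer ({x} : Set G))) :
    ∃ (N M : Subgroup (G ⧸ center G)), N.Normal ∧ Comm N ∧ IsCoatom N ∧ IsCoatom M ∧
      IsComplement' N M ∧ N ≠ ⊥ ∧ Nat.Coprime (Nat.card N) (Nat.card M) := by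
  obtain ⟨C, hCdef⟩ : ∃ C : Subgroup G, C = centralizer ({x} : Set G) := ⟨_, rfl⟩
  rw [← hCdef] at hnn hc
  have hCco : IsCoatom C := hCdef ▸ h x hx
  have hZC : center G ≤ C := hCdef ▸ center_le_cent x
  have hxC : x ∈ C := hCdef ▸ self_mem_cent x
  have hNC : normalizer (C : Set G) = C := normalizer_eq_self_of_coatom hCco hnn
  obtain ⟨π, hπ⟩ : ∃ π : G →* G ⧸ center G, π = QuotientGroup.mk' (center G) := ⟨_, rfl⟩
  have hπs : Function.Surjective π := hπ ▸ QuotientGroup.mk'_surjective _
  have hπ1 : ∀ g : G, π g = 1 ↔ g ∈ center G := by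
    intro g
    rw [hπ, QuotientGroup.mk'_apply, QuotientGroup.eq_one_iff]
  have hker : π.ker = center G := by rw [hπ, QuotientGroup.ker_mk']
  -- centralizer of noncentral element of C is C
  have hCu : ∀ u ∈ C, u ∉ center G → centralizer ({u} : Set G) = C := by
    intro u hu huZ
    have hle : centralizer ({x} : Set G) ≤ centralizer ({u} : Set G) := by
      intro c hcx
      rw [mem_centralizer_singleton_iff]
      exact hc c (hCdef ▸ hcx) u hu
    rw [cent_eq_of_le h hx huZ hle, hCdef]
  obtain ⟨Mb, hMb⟩ : ∃ Mb : Subgroup (G ⧸ center G), Mb = C.map π := ⟨_, rfl⟩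
  have hcomap : Mb.comap π = C := by
    rw [hMb, comap_map_eq, hker]
    exact sup_eq_left.mpr hZC
  have hmemMb : ∀ g : G, π g ∈ Mb ↔ g ∈ C := by
    intro g
    rw [← hcomap, mem_comap]
  have hF : Cfsg.IsFrobeniusComplement Mb := by
    refine ⟨?_, ?_, ?_⟩
    · intro hbot
      have : π x ∈ Mb := (hmemMb x).mpr hxC
      rw [hbot, mem_bot, hπ1] at this
      exact hx this
    · intro htop
      apply hCco.1
      rw [← hcomap, htop, comap_top]
    · intro gb hgb
      obtain ⟨g, rfl⟩ := hπs gb
      have hgC : g ∉ C := fun hg => hgb ((hmemMb g).mpr hg)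
      rw [eq_bot_iff]
      intro ub hub
      obtain ⟨hu1, hu2⟩ := Subgroup.mem_inf.mp hub
      obtain ⟨u, rfl⟩ := hπs ub
      have huC : u ∈ C := (hmemMb u).mp hu1
      have hu2' : g⁻¹ * u * g ∈ C := by
        rw [mem_pointwise_smul_iff_inv_smul_mem] at hu2
        have h3 : (MulAut.conj (π g))⁻¹ • π u = π (g⁻¹ * u * g) := by
          rw [← map_inv, MulAut.smul_def, MulAut.conj_apply, map_mul, map_mul, map_inv]
          simp
        rw [h3] at hu2
        exact (hmemMb _).mp hu2
      rw [mem_bot, hπ1]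
      by_contra huZ
      have h4 : g⁻¹ * u * g ∉ center G := by
        intro h5
        apply huZ
        have : u = g * (g⁻¹ * u * g) * g⁻¹ := by group
        rw [this]
        exact (center G).normal_of_characteristic.conj_mem _ h5 g
      have hC1 := hCu u huC huZ
      have hC2 := hCu _ hu2' h4
      apply hgC
      rw [← hNC, mem_normalizer_iff]
      have key1 : ∀ c ∈ C, g * c * g⁻¹ ∈ C := by
        intro c hcC
        rw [← hC1, mem_centralizer_singleton_iff]
        have : c ∈ centralizer ({g⁻¹ * u * g} : Set G) := hC2 ▸ hcC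
        rw [mem_centralizer_singleton_iff] at this
        calc g * c * g⁻¹ * u = g * (c * (g⁻¹ * u * g)) * g⁻¹ := by group
          _ = g * ((g⁻¹ * u * g) * c) * g⁻¹ := by rw [this]
          _ = u * (g * c * g⁻¹) := by group
      have key2 : ∀ c ∈ C, g⁻¹ * c * g ∈ C := by
        intro c hcC
        rw [← hC2, mem_centralizer_singleton_iff]
        have : c ∈ centralizer ({u} : Set G) := hC1 ▸ hcC
        rw [mem_centralizer_singleton_iff] at this
        calc g⁻¹ * c * g * (g⁻¹ * u * g) = g⁻¹ * (c * u) * g := by group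
          _ = g⁻¹ * (u * c) * g := by rw [this]
          _ = g⁻¹ * u * g * (g⁻¹ * c * g) := by group
      intro c
      constructor
      · exact key1 c
      · intro hc'
        have := key2 _ hc'
        have h6 : g⁻¹ * (g * c * g⁻¹) * g = c := by group
        rwa [h6] at this
  obtain ⟨Nb, hNbker, hNbn, hcompl⟩ := frobenius_theorem Mb hF
  have := hNbn
  obtain ⟨-, hinf, hcop, -, hcent, hN1⟩ := Cfsg.Agent.Lib.Helper7.TwoFrob.frobPack Mb Nb hF hNbker.symm
  obtain ⟨K, hKdef⟩ : ∃ K : Subgroup G, K = Nb.comap π := ⟨_, rfl⟩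
  have hmemK : ∀ g : G, g ∈ K ↔ π g ∈ Nb := by
    intro g
    rw [hKdef, mem_comap]
  have hNbtop : Nb ≠ ⊤ := by
    intro htop
    rw [htop, top_inf_eq] at hinf
    exact hF.1 hinf
  have hKtop : K ≠ ⊤ := by
    intro htop
    apply hNbtop
    rw [eq_top_iff]
    intro gb _
    obtain ⟨g, rfl⟩ := hπs gb
    exact (hmemK g).mp (htop ▸ mem_top g)
  have hkey : ∀ k ∈ K, k ∉ center G → centralizer ({k} : Set G) = K := by
    intro k hk hkZ
    have hle : centralizer ({k} : Set G) ≤ K := by
      intro c hck
      rw [hmemK]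
      by_contra hcN
      have h1 := hcent (π c) hcN
      have h2 : π k ∈ Nb ⊓ centralizer ({π c} : Set (G ⧸ center G)) := by
        refine Subgroup.mem_inf.mpr ⟨(hmemK k).mp hk, ?_⟩
        rw [mem_centralizer_singleton_iff] at hck ⊢
        rw [← map_mul, ← map_mul, hck]
      rw [h1, mem_bot, hπ1] at h2
      exact hkZ h2
    exact (((h k hkZ).le_iff_eq hKtop).mp hle).symm
  obtain ⟨k0, hk0K, hk0Z⟩ : ∃ k0 ∈ K, k0 ∉ center G := by
    by_contra hne
    push Not at hne
    apply hN1
    rw [eq_bot_iff]
    intro nb hnb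
    obtain ⟨n, rfl⟩ := hπs nb
    rw [mem_bot, hπ1]
    exact hne n ((hmemK n).mpr hnb)
  have hKco : IsCoatom K := hkey k0 hk0K hk0Z ▸ h k0 hk0Z
  refine ⟨Nb, Mb, hNbn, ?_, ?_, ?_, hcompl, hN1, hcop⟩
  · intro a ha b hb
    obtain ⟨a', rfl⟩ := hπs a
    obtain ⟨b', rfl⟩ := hπs b
    rw [← map_mul, ← map_mul]
    congr 1
    by_cases haZ : a' ∈ center G
    · exact (mem_center_iff.mp haZ b').symm
    · have : b' ∈ centralizer ({a'} : Set G) := by
        rw [hkey a' ((hmemK a').mpr ha) haZ]
        exact (hmemK b').mpr hb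
      rw [mem_centralizer_singleton_iff] at this
      exact this.symm
  · exact isCoatom_of_comap hπs (hKdef ▸ hKco)
  · exact isCoatom_of_comap hπs (hcomap.symm ▸ hCco)

end Cfsg.Agent.Lib.Helper1.CM
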