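import Cfsg.Agent.Lib.Helper1.CM3

set_option autoImplicit false

namespace Cfsg.Agent.Lib.Helper1.CM

open Subgroup
open scoped Pointwise

variable {G : Type*} [Group G]

theorem mem_normalizer_of_conj {C : Subgroup G} {g : G} (key1 : ∀ c ∈ C, g * c * g⁻¹ ∈ C)
    (key2 : ∀ c ∈ C, g⁻¹ * c * g ∈ C) : g ∈ normalizer (C : Set G) := by
  rw [mem_normalizer_iff]
  intro c
  constructor
  · exact key1 c
  · intro hc'
    have := key2 _ hc'
    have h6 : g⁻¹ * (g * c * g⁻¹) * g = c := by group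
    rwa [h6] at this

theorem comap_map_mk_center {C : Subgroup G} (hZC : center G ≤ C) :
    (C.map (QuotientGroup.mk' (center G))).comap (QuotientGroup.mk' (center G)) = C := by
  rw [comap_map_eq, QuotientGroup.ker_mk']
  exact sup_eq_left.mpr hZC

theorem exists_sylow_of_isP [Finite G] {C : Subgroup G} (hZC : center G ≤ C)
    (hNC : normalizer (C : Set G) = C) {p : ℕ} [Fact p.Prime] (hP : IsP p C) :
    ∃ S : Sylow p (G ⧸ center G),
      (S : Subgroup (G ⧸ center G)) = C.map (QuotientGroup.mk' (center G)) := by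
  obtain ⟨π, hπ⟩ : ∃ π : G →* G ⧸ center G, π = QuotientGroup.mk' (center G) := ⟨_, rfl⟩
  have hπs : Function.Surjective π := hπ ▸ QuotientGroup.mk'_surjective _
  have hπ1 : ∀ g : G, π g = 1 ↔ g ∈ center G := by
    intro g
    rw [hπ, QuotientGroup.mk'_apply, QuotientGroup.eq_one_iff]
  rw [← hπ]
  obtain ⟨Mb, hMb⟩ : ∃ Mb : Subgroup (G ⧸ center G), Mb = C.map π := ⟨_, rfl⟩
  have hcomap : Mb.comap π = C := by
    rw [hMb, hπ]
    exact comap_map_mk_center hZC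
  have hmemMb : ∀ g : G, π g ∈ Mb ↔ g ∈ C := by
    intro g
    rw [← hcomap, mem_comap]
  have hPG : IsPGroup p Mb := by
    rintro ⟨mb, hmb⟩
    obtain ⟨m, rfl⟩ := hπs mb
    obtain ⟨j, hj⟩ := hP m ((hmemMb m).mp hmb)
    refine ⟨j, Subtype.ext ?_⟩
    rw [SubmonoidClass.coe_pow, OneMemClass.coe_one, ← map_pow, hπ1]
    exact hj
  obtain ⟨S, hS⟩ := hPG.exists_le_sylow
  refine ⟨S, ?_⟩
  rw [← hMb]
  by_contra hne
  have hlt : Mb < (S : Subgroup (G ⧸ center G)) := lt_of_le_of_ne hS (Ne.symm hne)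
  have hnilS : Group.IsNilpotent (S : Subgroup (G ⧸ center G)) := S.isPGroup'.isNilpotent
  have hncS : NormalizerCondition (S : Subgroup (G ⧸ center G)) :=
    Group.normalizerCondition_of_isNilpotent
  have hsub : Mb.subgroupOf (S : Subgroup (G ⧸ center G)) < ⊤ := by
    rw [lt_top_iff_ne_top, Ne, subgroupOf_eq_top]
    exact not_le_of_gt hlt
  have h1 := hncS _ hsub
  obtain ⟨s, hsN, hsM⟩ := SetLike.exists_of_lt h1
  have hclaim : ∀ r : (S : Subgroup (G ⧸ center G)),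
      r ∈ normalizer ((Mb.subgroupOf (S : Subgroup (G ⧸ center G)) : Subgroup _) : Set _) →
      ∀ mb ∈ Mb, (r : G ⧸ center G) * mb * (r : G ⧸ center G)⁻¹ ∈ Mb := by
    intro r hr mb hmb
    have := (mem_normalizer_iff.mp hr ⟨mb, hS hmb⟩).mp (mem_subgroupOf.mpr hmb)
    rw [mem_subgroupOf] at this
    simpa using this
  obtain ⟨g, hg⟩ := hπs (s : G ⧸ center G)
  have hgC : g ∉ C := by
    intro hgC
    apply hsM
    rw [mem_subgroupOf, ← hg]
    exact (hmemMb g).mpr hgC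
  apply hgC
  rw [← hNC]
  apply mem_normalizer_of_conj
  · intro c hc
    rw [← hmemMb, map_mul, map_mul, map_inv, hg]
    exact hclaim s hsN _ ((hmemMb c).mpr hc)
  · intro c hc
    rw [← hmemMb, map_mul, map_mul, map_inv, hg]
    have := hclaim s⁻¹ (inv_mem hsN) _ ((hmemMb c).mpr hc)
    simpa using this

theorem exists_conj_of_isP [Finite G] {C1 C2 : Subgroup G} (hZ1 : center G ≤ C1)
    (hZ2 : center G ≤ C2) (hN1 : normalizer (C1 : Set G) = C1)
    (hN2 : normalizer (C2 : Set G) = C2) {p : ℕ} [Fact p.Prime]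
    (hP1 : IsP p C1) (hP2 : IsP p C2) : ∃ g : G, ∀ c : G, c ∈ C2 ↔ g⁻¹ * c * g ∈ C1 := by
  obtain ⟨S1, hS1⟩ := exists_sylow_of_isP hZ1 hN1 hP1
  obtain ⟨S2, hS2⟩ := exists_sylow_of_isP hZ2 hN2 hP2
  obtain ⟨gb, hgb⟩ := MulAction.exists_smul_eq (G ⧸ center G) S1 S2
  obtain ⟨g, rfl⟩ := QuotientGroup.mk_surjective gb
  refine ⟨g, ?_⟩
  intro c
  have h1 : (S2 : Subgroup (G ⧸ center G)) =
      MulAut.conj (g : G ⧸ center G) • (S1 : Subgroup (G ⧸ center G)) := by
    rw [← hgb]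
    rfl
  have h2 : c ∈ C2 ↔ ((QuotientGroup.mk' (center G)) c) ∈ (S2 : Subgroup (G ⧸ center G)) := by
    rw [hS2, ← mem_comap, comap_map_mk_center hZ2]
  have h3 : g⁻¹ * c * g ∈ C1 ↔
      ((QuotientGroup.mk' (center G)) (g⁻¹ * c * g)) ∈ (S1 : Subgroup (G ⧸ center G)) := by
    rw [hS1, ← mem_comap, comap_map_mk_center hZ1]
  rw [h2, h3, h1, mem_pointwise_smul_iff_inv_smul_mem]
  have h4 : (MulAut.conj (g : G ⧸ center G))⁻¹ • (QuotientGroup.mk' (center G)) c =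
      (QuotientGroup.mk' (center G)) (g⁻¹ * c * g) := by
    rw [← map_inv, MulAut.smul_def, MulAut.conj_apply]
    simp
  rw [h4]

theorem card_type_le [Finite G] {p : ℕ} (hp : p.Prime) {M : Subgroup G}
    (hMnc : ¬ Comm M) (hPM : IsP p M) (Y : Set G)
    (hY : ∀ t ∈ Y, ∃ g : G, g⁻¹ * t * g ∈ M ∧
      ∀ m ∈ M, (g⁻¹ * t * g) * m = m * (g⁻¹ * t * g)) :
    Y.ncard * p ^ 2 ≤ Nat.card G := by
  have := Fact.mk hp
  -- the map
  let f : (G ⧸ M) × center M → G := fun qa => qa.1.out * ((qa.2 : M) : G) * qa.1.out⁻¹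
  have hsub : Y ⊆ Set.range f := by
    intro t ht
    obtain ⟨g, haM, hac⟩ := hY t ht
    have hcen : (⟨g⁻¹ * t * g, haM⟩ : M) ∈ center M := by
      rw [mem_center_iff]
      intro m'
      exact Subtype.ext (hac m' m'.2).symm
    obtain ⟨m, hm⟩ := QuotientGroup.mk_out_eq_mul M g
    refine ⟨((g : G ⧸ M), ⟨⟨g⁻¹ * t * g, haM⟩, hcen⟩), ?_⟩
    change (g : G ⧸ M).out * (g⁻¹ * t * g) * (g : G ⧸ M).out⁻¹ = t
    rw [hm]
    have h1 : (m : G) * (g⁻¹ * t * g) = (g⁻¹ * t * g) * m := (hac m m.2).symm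
    calc g * ↑m * (g⁻¹ * t * g) * (g * ↑m)⁻¹ = g * (↑m * (g⁻¹ * t * g)) * (↑m)⁻¹ * g⁻¹ := by group
      _ = g * ((g⁻¹ * t * g) * ↑m) * (↑m)⁻¹ * g⁻¹ := by rw [h1]
      _ = t := by group
  have hcard1 : Y.ncard ≤ Nat.card ((G ⧸ M) × center M) := by
    calc Y.ncard ≤ (Set.range f).ncard := Set.ncard_le_ncard hsub (Set.toFinite _)
      _ = (f '' Set.univ).ncard := by rw [Set.image_univ]
      _ ≤ (Set.univ : Set ((G ⧸ M) × center M)).ncard := Set.ncard_image_le (Set.toFinite _)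
      _ = Nat.card ((G ⧸ M) × center M) := Set.ncard_univ _
  rw [Nat.card_prod] at hcard1
  -- the center of M has index at least p^2
  have hPG : IsPGroup p (M ⧸ center M) := by
    intro a
    obtain ⟨m, rfl⟩ := QuotientGroup.mk_surjective a
    obtain ⟨j, hj⟩ := hPM m m.2
    refine ⟨j, ?_⟩
    rw [← QuotientGroup.mk_pow, QuotientGroup.eq_one_iff, mem_center_iff]
    intro m'
    apply Subtype.ext
    have := mem_center_iff.mp hj (m' : G)
    simpa using this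
  obtain ⟨e, he⟩ := (IsPGroup.iff_card).mp hPG
  have he2 : 2 ≤ e := by
    by_contra hlt
    have hcyc : IsCyclic (M ⧸ center M) := by
      have he01 : e = 0 ∨ e = 1 := by omega
      rcases he01 with rfl | rfl
      · rw [pow_zero] at he
        have : Subsingleton (M ⧸ center M) := (Nat.card_eq_one_iff_unique.mp he).1
        exact isCyclic_of_subsingleton
      · rw [pow_one] at he
        exact isCyclic_of_prime_card he
    apply hMnc
    intro a ha b hb
    have := (MonoidHom.isMulCommutative_of_isCyclic_of_ker_le_center (QuotientGroup.mk' (center M))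
      (by rw [QuotientGroup.ker_mk'])).is_comm.comm (⟨a, ha⟩ : M) ⟨b, hb⟩
    exact congrArg Subtype.val this
  have hidx : p ^ 2 ≤ (center M).index := by
    rw [index_eq_card, he]
    exact Nat.pow_le_pow_right hp.pos he2
  have hcardM : Nat.card (center M) * p ^ 2 ≤ Nat.card M := by
    rw [← (center M).card_mul_index]
    exact Nat.mul_le_mul_left _ hidx
  calc Y.ncard * p ^ 2 ≤ (Nat.card (G ⧸ M) * Nat.card (center M)) * p ^ 2 :=
        Nat.mul_le_mul_right _ hcard1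
    _ = Nat.card (G ⧸ M) * (Nat.card (center M) * p ^ 2) := by ring
    _ ≤ Nat.card (G ⧸ M) * Nat.card M := Nat.mul_le_mul_left _ hcardM
    _ = Nat.card G := by
        rw [← index_eq_card, mul_comm]
        exact M.card_mul_index


theorem sum_inv_sq_lt_one (S : Finset ℕ) (hS : ∀ p ∈ S, 2 ≤ p) :
    ∑ p ∈ S, ((p : ℚ) ^ 2)⁻¹ < 1 := by
  rcases S.eq_empty_or_nonempty with rfl | hne
  · simp
  obtain ⟨K, hK⟩ : ∃ K : ℕ, ∀ p ∈ S, p ≤ K := ⟨S.sup id, fun p hp => Finset.le_sup (f := id) hp⟩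
  have hK1 : 1 ≤ K := by
    obtain ⟨p, hp⟩ := hne
    have := hS p hp
    have := hK p hp
    omega
  have hsub : S ⊆ Finset.Ioc 1 K := by
    intro p hp
    rw [Finset.mem_Ioc]
    exact ⟨hS p hp, hK p hp⟩
  calc ∑ p ∈ S, ((p : ℚ) ^ 2)⁻¹ ≤ ∑ p ∈ Finset.Ioc 1 K, ((p : ℚ) ^ 2)⁻¹ :=
        Finset.sum_le_sum_of_subset_of_nonneg hsub (fun _ _ _ => by positivity)
    _ ≤ ((1 : ℕ) : ℚ)⁻¹ - (K : ℚ)⁻¹ := sum_Ioc_inv_sq_le_sub one_ne_zero hK1
    _ < 1 := by
        have : (0 : ℚ) < (K : ℚ)⁻¹ := by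
          have : (0 : ℚ) < K := by exact_mod_cast hK1
          positivity
        simp only [Nat.cast_one, inv_one]
        linarith

end Cfsg.Agent.Lib.Helper1.CM
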