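import Cfsg.Agent.Lib.Helper1.CM4

set_option autoImplicit false

namespace Cfsg.Agent.Lib.Helper1.CM

open Subgroup
open scoped Pointwise

variable {G : Type*} [Group G]

/-- Step B2.b : under the B2 hypotheses every noncentral centralizer is nonnormal. -/
theorem all_nonnormal [Finite G] (h : Hyp G) {x0 : G} (hx0 : x0 ∉ center G)
    (hnn : ¬ (centralizer ({x0} : Set G)).Normal) {p0 k0 : ℕ} (hp0 : p0.Prime)
    (hord : orderOf x0 = p0 ^ k0) (hnc : ¬ Comm (centralizer ({x0} : Set G)))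
    {t : G} (ht : t ∉ center G) : ¬ (centralizer ({t} : Set G)).Normal := by
  intro hTn
  have hTco := h t ht
  have hM0co := h x0 hx0
  have hne : centralizer ({x0} : Set G) ≠ centralizer ({t} : Set G) := by
    intro heq
    exact hnn (heq ▸ hTn)
  have hx0T : x0 ∉ centralizer ({t} : Set G) ∨ ∃ u ∈ centralizer ({x0} : Set G),
      u ∈ centralizer ({t} : Set G) ∧ u ∉ center G := by
    by_cases hx0T : x0 ∈ centralizer ({t} : Set G)
    · exact Or.inr ⟨x0, self_mem_cent x0, hx0T, hx0⟩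
    · exact Or.inl hx0T
  have hex : ∃ u ∈ centralizer ({x0} : Set G), u ∈ centralizer ({t} : Set G) ∧ u ∉ center G := by
    rcases hx0T with hx0T | hex
    swap
    · exact hex
    by_contra hno
    push Not at hno
    apply hnc
    -- every element of M0 is s * y with s central and y a power of x0
    have hsup : centralizer ({t} : Set G) ⊔ zpowers x0 = ⊤ := by
      apply hTco.lt_iff.mp
      apply lt_of_le_of_ne le_sup_left
      intro heq
      apply hx0T
      rw [heq]
      exact le_sup_right (a := centralizer ({t} : Set G)) (mem_zpowers x0)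
    have hdecomp : ∀ m ∈ centralizer ({x0} : Set G), ∃ s ∈ center G, ∃ y ∈ zpowers x0, m = s * y := by
      intro m hm
      have hmem : m ∈ centralizer ({t} : Set G) ⊔ zpowers x0 := hsup ▸ mem_top m
      have := hTn
      obtain ⟨s, hs, y, hy, rfl⟩ := (mem_sup_of_normal_left).mp hmem
      have hyM : y ∈ centralizer ({x0} : Set G) :=
        (zpowers_le.mpr (self_mem_cent x0)) hy
      have hsM : s ∈ centralizer ({x0} : Set G) := by
        have : s = (s * y) * y⁻¹ := by group
        rw [this]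
        exact mul_mem hm (inv_mem hyM)
      exact ⟨s, hno s hsM hs, y, hy, rfl⟩
    intro a ha b hb
    obtain ⟨s1, hs1, y1, hy1, rfl⟩ := hdecomp a ha
    obtain ⟨s2, hs2, y2, hy2, rfl⟩ := hdecomp b hb
    obtain ⟨i, rfl⟩ := mem_zpowers_iff.mp hy1
    obtain ⟨j, rfl⟩ := mem_zpowers_iff.mp hy2
    have c1 : ∀ g : G, s1 * g = g * s1 := fun g => (mem_center_iff.mp hs1 g).symm
    have c2 : ∀ g : G, s2 * g = g * s2 := fun g => (mem_center_iff.mp hs2 g).symm
    have c3 : x0 ^ i * x0 ^ j = x0 ^ j * x0 ^ i := by rw [← zpow_add, ← zpow_add, add_comm]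
    calc s1 * x0 ^ i * (s2 * x0 ^ j) = s1 * (x0 ^ i * s2) * x0 ^ j := by group
      _ = s1 * (s2 * x0 ^ i) * x0 ^ j := by rw [c2]
      _ = (s1 * s2) * (x0 ^ i * x0 ^ j) := by group
      _ = (s2 * s1) * (x0 ^ j * x0 ^ i) := by rw [c3, c1]
      _ = s2 * (s1 * x0 ^ j) * x0 ^ i := by group
      _ = s2 * (x0 ^ j * s1) * x0 ^ i := by rw [c1]
      _ = s2 * x0 ^ j * (s1 * x0 ^ i) := by group
  obtain ⟨u, huM, huT, huZ⟩ := hex
  obtain ⟨hncu, -, u', k', hu'Z, hu'ord, hu'u, hu'C⟩ := type_of_mem h hx0 hp0 hord hnc huM huZ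
  have htu' : t ∈ centralizer ({u'} : Set G) := by
    rw [hu'C]
    exact mem_cent_comm huT
  obtain ⟨-, hPT, -⟩ := type_of_mem h hu'Z hp0 hu'ord (hu'C ▸ hncu) htu' ht
  have hPM := isP_of_not_comm h hx0 hp0 hord hnc
  apply not_all_pElement h hx0 hnn hp0
  intro g
  have hsup : centralizer ({x0} : Set G) ⊔ centralizer ({t} : Set G) = ⊤ :=
    hM0co.sup_eq_top_of_ne hTco hne
  have hmem : g ∈ centralizer ({x0} : Set G) ⊔ centralizer ({t} : Set G) := hsup ▸ mem_top g
  have := hTn
  obtain ⟨m, hm, s, hs, rfl⟩ := (mem_sup_of_normal_right).mp hmem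
  obtain ⟨a, ha⟩ := hPM m hm
  have h1 : (m * s) ^ (p0 ^ a) ∈ centralizer ({t} : Set G) := by
    rw [← QuotientGroup.eq_one_iff, QuotientGroup.mk_pow, QuotientGroup.mk_mul,
      (QuotientGroup.eq_one_iff s).mpr hs, mul_one, ← QuotientGroup.mk_pow,
      QuotientGroup.eq_one_iff]
    exact center_le_cent t ha
  obtain ⟨b, hb⟩ := hPT _ h1
  refine ⟨a + b, ?_⟩
  rw [pow_add, pow_mul]
  exact hb


/-- Case B2 is impossible: if some noncentral centralizer is nonnormal and all nonnormal ones are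
nonabelian, we get a contradiction by counting. -/
theorem caseB2_false [Finite G] (h : Hyp G)
    (hne : ∃ x0 : G, x0 ∉ center G ∧ ¬ (centralizer ({x0} : Set G)).Normal)
    (hB2 : ∀ x : G, x ∉ center G → ¬ (centralizer ({x} : Set G)).Normal →
      ¬ Comm (centralizer ({x} : Set G))) : False := by
  classical
  obtain ⟨x00, hx00, hnn00⟩ := hne
  obtain ⟨p0, k0, x0, hp0, -, hx0, hord, hC0⟩ := exists_prime_pow_rep h hx00
  have hnn : ¬ (centralizer ({x0} : Set G)).Normal := hC0 ▸ hnn00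
  have hnc := hB2 x0 hx0 hnn
  have hallnn : ∀ t : G, t ∉ center G → ¬ (centralizer ({t} : Set G)).Normal :=
    fun t ht => all_nonnormal h hx0 hnn hp0 hord hnc ht
  have hallnc : ∀ t : G, t ∉ center G → ¬ Comm (centralizer ({t} : Set G)) :=
    fun t ht => hB2 t ht (hallnn t ht)
  have hallN : ∀ t : G, t ∉ center G →
      normalizer ((centralizer ({t} : Set G) : Subgroup G) : Set G) = centralizer ({t} : Set G) :=
    fun t ht => normalizer_eq_self_of_coatom (h t ht) (hallnn t ht)
  have htype : ∀ t : G, ∃ p : ℕ, t ∉ center G →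
      p.Prime ∧ IsP p (centralizer ({t} : Set G)) := by
    intro t
    by_cases ht : t ∈ center G
    · exact ⟨0, fun hn => absurd ht hn⟩
    · obtain ⟨p, k, y, hp, -, hyZ, hyord, hyC⟩ := exists_prime_pow_rep h ht
      refine ⟨p, fun _ => ⟨hp, ?_⟩⟩
      rw [← hyC]
      exact isP_of_not_comm h hyZ hp hyord (hyC ▸ hallnc t ht)
  choose τ hτ using htype
  have : Fintype G := Fintype.ofFinite G
  obtain ⟨NZ, hNZ⟩ : ∃ NZ : Finset G, NZ = Finset.univ.filter (fun t => t ∉ center G) := ⟨_, rfl⟩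
  have hmemNZ : ∀ t, t ∈ NZ ↔ t ∉ center G := by
    intro t
    rw [hNZ]
    simp
  obtain ⟨S, hSdef⟩ : ∃ S : Finset ℕ, S = NZ.image τ := ⟨_, rfl⟩
  have hcardNZ : NZ.card = ∑ p ∈ S, (NZ.filter (fun t => τ t = p)).card :=
    Finset.card_eq_sum_card_fiberwise
      (fun t ht => by rw [hSdef]; exact Finset.mem_image_of_mem τ ht)
  have hZc : Nat.card (center G) = (Finset.univ.filter (fun t : G => t ∈ center G)).card := by
    rw [Nat.card_eq_fintype_card, Fintype.card_subtype]
  have hZcard : NZ.card + Nat.card (center G) = Nat.card G := by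
    rw [hZc, hNZ, Nat.card_eq_fintype_card, add_comm]
    exact Finset.card_filter_add_card_filter_not (s := (Finset.univ : Finset G)) (fun t : G => t ∈ center G)
  have hS2 : ∀ p ∈ S, 2 ≤ p := by
    intro p hp
    rw [hSdef, Finset.mem_image] at hp
    obtain ⟨t1, ht1, rfl⟩ := hp
    exact (hτ t1 ((hmemNZ t1).mp ht1)).1.two_le
  have hSne : S.Nonempty := by
    rw [hSdef]
    exact ⟨τ x0, Finset.mem_image_of_mem τ ((hmemNZ x0).mpr hx0)⟩
  have hbound : ∀ p ∈ S, ((NZ.filter (fun t => τ t = p)).card + Nat.card (center G)) * p ^ 2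
      ≤ Nat.card G := by
    intro p hpS
    rw [hSdef, Finset.mem_image] at hpS
    obtain ⟨t1, ht1, rfl⟩ := hpS
    have ht1Z := (hmemNZ t1).mp ht1
    obtain ⟨hp, hP1⟩ := hτ t1 ht1Z
    have := Fact.mk hp
    obtain ⟨Y, hYdef⟩ : ∃ Y : Set G, Y = (center G : Set G) ∪
        ((NZ.filter (fun t => τ t = τ t1) : Finset G) : Set G) := ⟨_, rfl⟩
    have hY : ∀ t ∈ Y, ∃ g : G, g⁻¹ * t * g ∈ centralizer ({t1} : Set G) ∧
        ∀ m ∈ centralizer ({t1} : Set G), (g⁻¹ * t * g) * m = m * (g⁻¹ * t * g) := by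
      intro t ht
      rw [hYdef] at ht
      rcases ht with htZ | ht'
      · have htZ' : t ∈ center G := htZ
        refine ⟨1, ?_, ?_⟩
        · simpa using center_le_cent t1 htZ'
        · intro m _
          simpa using (mem_center_iff.mp htZ' m).symm
      · rw [Finset.mem_coe, Finset.mem_filter, hmemNZ] at ht'
        obtain ⟨htZ, htτ⟩ := ht'
        obtain ⟨-, hPt⟩ := hτ t htZ
        rw [htτ] at hPt
        obtain ⟨g, hg⟩ := exists_conj_of_isP (center_le_cent t1) (center_le_cent t)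
          (hallN t1 ht1Z) (hallN t htZ) hP1 hPt
        refine ⟨g, (hg t).mp (self_mem_cent t), ?_⟩
        intro m hm
        have h1 : g * m * g⁻¹ ∈ centralizer ({t} : Set G) := by
          rw [hg]
          have : g⁻¹ * (g * m * g⁻¹) * g = m := by group
          rw [this]
          exact hm
        rw [mem_centralizer_singleton_iff] at h1
        calc g⁻¹ * t * g * m = g⁻¹ * (t * (g * m * g⁻¹)) * g := by group
          _ = g⁻¹ * ((g * m * g⁻¹) * t) * g := by rw [h1]
          _ = m * (g⁻¹ * t * g) := by group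
    have hle := card_type_le hp (hallnc t1 ht1Z) hP1 Y hY
    have hYcard : Y.ncard = (NZ.filter (fun t => τ t = τ t1)).card + Nat.card (center G) := by
      rw [hYdef, Set.ncard_union_eq _ (Set.toFinite _) (Set.toFinite _), Set.ncard_coe_finset,
        add_comm]
      · congr 1
      · rw [Set.disjoint_left]
        intro t htZ ht'
        rw [Finset.mem_coe, Finset.mem_filter, hmemNZ] at ht'
        exact ht'.1 htZ
    rw [← hYcard]
    exact hle
  have hN : (0 : ℚ) < (Nat.card G : ℚ) := by exact_mod_cast Nat.card_pos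
  have hz : (0 : ℚ) ≤ (Nat.card (center G) : ℚ) := by positivity
  have hσ := sum_inv_sq_lt_one S hS2
  have h1 : (NZ.card : ℚ) ≤ ∑ p ∈ S, ((Nat.card G : ℚ) * ((p : ℚ) ^ 2)⁻¹ -
      (Nat.card (center G) : ℚ)) := by
    rw [hcardNZ, Nat.cast_sum]
    apply Finset.sum_le_sum
    intro p hp
    have hb := hbound p hp
    have hp2 : (0 : ℚ) < (p : ℚ) ^ 2 := by
      have := hS2 p hp
      positivity
    have hb' : (((NZ.filter (fun t => τ t = p)).card : ℚ) + (Nat.card (center G) : ℚ)) *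
        (p : ℚ) ^ 2 ≤ (Nat.card G : ℚ) := by exact_mod_cast hb
    have : ((NZ.filter (fun t => τ t = p)).card : ℚ) + (Nat.card (center G) : ℚ) ≤
        (Nat.card G : ℚ) * ((p : ℚ) ^ 2)⁻¹ := by
      rw [← div_eq_mul_inv, le_div_iff₀ hp2]
      exact hb'
    linarith
  rw [Finset.sum_sub_distrib, ← Finset.mul_sum, Finset.sum_const, nsmul_eq_mul] at h1
  have hS1 : (1 : ℚ) ≤ (S.card : ℚ) := by exact_mod_cast hSne.card_pos
  have h2 : (NZ.card : ℚ) + (Nat.card (center G) : ℚ) = (Nat.card G : ℚ) := by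
    exact_mod_cast hZcard
  nlinarith [mul_pos hN (sub_pos.mpr hσ), mul_nonneg hz (sub_nonneg.mpr hS1)]

end Cfsg.Agent.Lib.Helper1.CM
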