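import Cfsg.Agent.Lib.Helper1.CM5
import Cfsg.Prelude.Def_Transfer

set_option autoImplicit false

namespace Cfsg.Agent.Lib.Helper1.CM

open Subgroup
open scoped Pointwise

variable {G : Type*} [Group G]

theorem main [Finite G] (h : Hyp G) (hna : ∃ x : G, x ∉ center G) :
    ((∀ g k : G, g * k * g⁻¹ * k⁻¹ ∈ center G) ∧
      ∃ p : ℕ, p.Prime ∧ ∀ g : G, g ^ p ∈ center G) ∨
    (∃ x : G, x ∉ center G ∧ ¬ (centralizer ({x} : Set G)).Normal ∧
      ∃ (N M : Subgroup (G ⧸ center G)), N.Normal ∧ Comm N ∧ IsCoatom N ∧ IsCoatom M ∧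
        IsComplement' N M ∧ N ≠ ⊥ ∧ Nat.Coprime (Nat.card N) (Nat.card M)) := by
  by_cases hall : ∀ x : G, x ∉ center G → (centralizer ({x} : Set G)).Normal
  · exact Or.inl (caseA h hna hall)
  · right
    push Not at hall
    by_cases hB : ∃ x : G, x ∉ center G ∧ ¬ (centralizer ({x} : Set G)).Normal ∧
        Comm (centralizer ({x} : Set G))
    · obtain ⟨x, hx, hnn, hc⟩ := hB
      exact ⟨x, hx, hnn, caseB1 h hx hnn hc⟩
    · exfalso
      push Not at hB
      exact caseB2_false h hall hB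

theorem comm_quot_of_comm_mem (hcomm : ∀ g k : G, g * k * g⁻¹ * k⁻¹ ∈ center G)
    (a b : G ⧸ center G) : a * b = b * a := by
  obtain ⟨a', rfl⟩ := QuotientGroup.mk_surjective a
  obtain ⟨b', rfl⟩ := QuotientGroup.mk_surjective b
  have := (QuotientGroup.eq_one_iff _).mpr (hcomm a' b')
  simp only [QuotientGroup.mk_mul, QuotientGroup.mk_inv] at this
  rw [mul_inv_eq_one, mul_inv_eq_iff_eq_mul] at this
  exact this

theorem s3904 [Finite G] (hna : ¬ IsMulCommutative G) (h : Hyp G) :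
    (∃ p : ℕ, p.Prime ∧ Cfsg.IsElementaryAbelian p (⊤ : Subgroup (G ⧸ Subgroup.center G))) ∨
    (¬ IsMulCommutative (G ⧸ Subgroup.center G) ∧
      (∀ H : Subgroup (G ⧸ Subgroup.center G), H ≠ ⊤ → IsMulCommutative ↥H) ∧
      ∃ p q a : ℕ, p.Prime ∧ q.Prime ∧ p ≠ q ∧
        Nat.card (G ⧸ Subgroup.center G) = p ^ a * q ∧
        ∀ P : Subgroup (G ⧸ Subgroup.center G), Nat.card ↥P = p ^ a → P.Normal) := by
  have hex : ∃ x : G, x ∉ center G := by
    by_contra hno
    push Not at hno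
    exact hna ⟨⟨fun a b => (mem_center_iff.mp (hno b) a)⟩⟩
  rcases main h hex with ⟨hcomm, p, hp, hpow⟩ | ⟨x, hx, hnn, N, M, hNn, hNc, hNco, hMco, hcompl, hN1, hcop⟩
  · left
    refine ⟨p, hp, ⟨⟨fun a b => Subtype.ext (comm_quot_of_comm_mem hcomm a b)⟩⟩, ?_⟩
    intro a _
    obtain ⟨a', rfl⟩ := QuotientGroup.mk_surjective a
    rw [← QuotientGroup.mk_pow]
    exact (QuotientGroup.eq_one_iff _).mpr (hpow a')
  · right
    obtain ⟨hprop, hord, -⟩ := split_structure N M hNn hNc hNco hMco hcompl hN1 hcop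
    refine ⟨?_, ?_, hord⟩
    · intro hcQ
      apply hnn
      constructor
      intro m hm g
      have h1 : g * m * g⁻¹ * m⁻¹ ∈ center G := by
        rw [← QuotientGroup.eq_one_iff]
        simp only [QuotientGroup.mk_mul, QuotientGroup.mk_inv]
        rw [mul_inv_eq_one, mul_inv_eq_iff_eq_mul]
        exact hcQ.is_comm.comm _ _
      have h2 : g * m * g⁻¹ = (g * m * g⁻¹ * m⁻¹) * m := by group
      rw [h2]
      exact mul_mem (center_le_cent x h1) hm
    · intro H hH
      exact ⟨⟨fun a b => Subtype.ext (hprop H hH a a.2 b b.2)⟩⟩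

theorem s4262 [Finite G] (h : Hyp G) : Group.IsSolvable G := by
  by_cases hex : ∃ x : G, x ∉ center G
  · have hQ : Group.IsSolvable (G ⧸ center G) := by
      rcases main h hex with ⟨hcomm, -⟩ | ⟨x, hx, hnn, N, M, hNn, hNc, hNco, hMco, hcompl, hN1, hcop⟩
      · exact Group.isSolvable_of_comm (comm_quot_of_comm_mem hcomm)
      · exact (split_structure N M hNn hNc hNco hMco hcompl hN1 hcop).2.2
    have hZ : Group.IsSolvable (center G) :=
      Group.isSolvable_of_comm (fun a b => Subtype.ext (mem_center_iff.mp b.2 a))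
    exact Group.isSolvable_of_ker_le_range (center G).subtype (QuotientGroup.mk' (center G))
      (by simp)
  · push Not at hex
    exact Group.isSolvable_of_comm (fun a b => (mem_center_iff.mp (hex b) a))

end Cfsg.Agent.Lib.Helper1.CM
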