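import Mathlib
open Pointwise

set_option autoImplicit false

namespace Cfsg.Agent.Lib.Helper1

universe u

variable {G : Type u} [Group G]

/-- If `N ⊴ G` lies in the Frattini subgroup of some subgroup `H`, then `N ≤ Φ(G)`. -/
theorem le_frattini_of_normal_le_frattini_subgroup [Finite G] (H : Subgroup G) (N : Subgroup G)
    [hN : N.Normal] (hNH : N ≤ (frattini H).map H.subtype) : N ≤ frattini G := by
  have hNH' : N ≤ H := hNH.trans (Subgroup.map_subtype_le _)
  rw [frattini, Order.radical]
  apply le_iInf₂
  intro M hM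
  by_contra hNM
  have hsup : N ⊔ M = ⊤ := by
    apply hM.2
    refine lt_of_le_of_ne le_sup_right ?_
    intro heq
    apply hNM
    rw [heq]; exact le_sup_left
  have h1 : M.subgroupOf H ⊔ frattini H = ⊤ := by
    rw [eq_top_iff]
    intro h _
    have hh : (h : G) ∈ N ⊔ M := by rw [hsup]; trivial
    rw [sup_comm, Subgroup.mem_sup_of_normal_right] at hh
    obtain ⟨m, hm, n, hn, hmn⟩ := hh
    obtain ⟨n', hn', rfl⟩ := hNH hn
    have hmH : m ∈ H := by
      have : m = (h : G) * (n' : G)⁻¹ := by rw [← hmn, Subgroup.coe_subtype]; group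
      rw [this]; exact H.mul_mem h.2 (H.inv_mem n'.2)
    have e : h = ⟨m, hmH⟩ * n' := Subtype.ext hmn.symm
    rw [e]
    exact Subgroup.mul_mem_sup (Subgroup.mem_subgroupOf.mpr hm) hn'
  have h2 := frattini_nongenerating h1
  have h3 : H ≤ M := Subgroup.subgroupOf_eq_top.mp h2
  exact hNM (hNH'.trans h3)

theorem frattini_map_subtype_le_of_normal [Finite G] (H : Subgroup G) [H.Normal] :
    (frattini ↥H).map H.subtype ≤ frattini G := by
  have : ((frattini ↥H).map H.subtype).Normal := inferInstance
  exact le_frattini_of_normal_le_frattini_subgroup H _ le_rfl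

end Cfsg.Agent.Lib.Helper1
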