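import Mathlib
import Cfsg.Prelude.Def_Local
import Cfsg.Prelude.Def_Balance
import Cfsg.Prelude.Def_ClassificationStages
import Cfsg.Agent.Lib.Helper1.WielandtCriterion
import Cfsg.Agent.Lib.Helper7.BB1

/-!
# Farm CMX (S1305), unit T3: type transport of a component of `C_G(a)` into `X = C_G(b)`.
-/

set_option autoImplicit false

namespace Cfsg.Agent.Lib.Helper1.CMX

open Cfsg

universe u

variable {G : Type u} [Group G]

/-- `K.subgroupOf C_G(b)` lies in the centralizer of `a` computed inside `C_G(b)`. -/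
theorem subgroupOf_le_centralizer (a b : G) (hab : a ∈ Subgroup.centralizer ({b} : Set G))
    (K : Subgroup G) (hKa : K ≤ Subgroup.centralizer ({a} : Set G)) :
    K.subgroupOf (Subgroup.centralizer ({b} : Set G)) ≤
      Subgroup.centralizer
        ({(⟨a, hab⟩ : ↥(Subgroup.centralizer ({b} : Set G)))} :
          Set ↥(Subgroup.centralizer ({b} : Set G))) := by
  intro k hk
  rw [Subgroup.mem_centralizer_singleton_iff]
  apply Subtype.ext
  have h1 := Subgroup.mem_centralizer_singleton_iff.mp (hKa (Subgroup.mem_subgroupOf.mp hk))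
  exact h1

/-- the centralizer of `a` inside `C_G(b)`, pushed to `G`, is `C_G(a) ⊓ C_G(b)`. -/
theorem map_centralizer_subtype (a b : G) (hab : a ∈ Subgroup.centralizer ({b} : Set G)) :
    (Subgroup.centralizer
        ({(⟨a, hab⟩ : ↥(Subgroup.centralizer ({b} : Set G)))} :
          Set ↥(Subgroup.centralizer ({b} : Set G)))).map
      (Subgroup.centralizer ({b} : Set G)).subtype =
      Subgroup.centralizer ({a} : Set G) ⊓ Subgroup.centralizer ({b} : Set G) := by
  ext x
  constructor
  · rintro ⟨y, hy, rfl⟩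
    refine Subgroup.mem_inf.mpr ⟨?_, y.2⟩
    rw [Subgroup.mem_centralizer_singleton_iff]
    exact congrArg Subtype.val (Subgroup.mem_centralizer_singleton_iff.mp hy)
  · intro hx
    obtain ⟨hxa, hxb⟩ := Subgroup.mem_inf.mp hx
    refine ⟨⟨x, hxb⟩, ?_, rfl⟩
    rw [SetLike.mem_coe, Subgroup.mem_centralizer_singleton_iff]
    exact Subtype.ext (Subgroup.mem_centralizer_singleton_iff.mp hxa)

/-- T3: a component `K` of `C_G(a)` lying in `C_G(b)` (`a ∈ C_G(b)`) is, viewed inside the group
`X = C_G(b)`, a component of `C_X(a)`. -/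
theorem T3 (a b : G) (hab : a ∈ Subgroup.centralizer ({b} : Set G)) (K : Subgroup G)
    (hKa : K ≤ Subgroup.centralizer ({a} : Set G)) (hKb : K ≤ Subgroup.centralizer ({b} : Set G))
    (hK : IsComponent (K.subgroupOf (Subgroup.centralizer ({a} : Set G)))) :
    IsComponent ((K.subgroupOf (Subgroup.centralizer ({b} : Set G))).subgroupOf
      (Subgroup.centralizer
        ({(⟨a, hab⟩ : ↥(Subgroup.centralizer ({b} : Set G)))} :
          Set ↥(Subgroup.centralizer ({b} : Set G))))) := by
  have hle := subgroupOf_le_centralizer a b hab K hKa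
  constructor
  · rw [← Cfsg.Agent.Lib.Helper1.isSubnormal_subgroupOf_map_iff
      (Subgroup.centralizer ({b} : Set G)).subtype (Subgroup.subtype_injective _),
      map_centralizer_subtype, Subgroup.subgroupOf_map_subtype, inf_of_le_left hKb]
    exact Cfsg.Agent.Lib.Helper7.BB.subn_of_le inf_le_left hK.1
  · have e1 : ↥((K.subgroupOf (Subgroup.centralizer ({b} : Set G))).subgroupOf
        (Subgroup.centralizer
          ({(⟨a, hab⟩ : ↥(Subgroup.centralizer ({b} : Set G)))} :
            Set ↥(Subgroup.centralizer ({b} : Set G))))) ≃*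
        ↥(K.subgroupOf (Subgroup.centralizer ({b} : Set G))) :=
      Subgroup.subgroupOfEquivOfLe hle
    have e2 : ↥(K.subgroupOf (Subgroup.centralizer ({b} : Set G))) ≃* ↥K :=
      Subgroup.subgroupOfEquivOfLe hKb
    have e3 : ↥(K.subgroupOf (Subgroup.centralizer ({a} : Set G))) ≃* ↥K :=
      Subgroup.subgroupOfEquivOfLe hKa
    exact Cfsg.Agent.Lib.Helper2.isQuasisimple_of_mulEquiv ((e1.trans e2).trans e3.symm) hK.2

end Cfsg.Agent.Lib.Helper1.CMX
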