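import Mathlib
import Cfsg.Prelude.Def_Local
import Cfsg.Prelude.Def_Balance
import Cfsg.Prelude.Def_ClassificationStages
import Cfsg.Agent.Lib.Helper1.CMXT3
import Cfsg.Agent.Lib.Helper1.PLengthOne
import Cfsg.Agent.Lib.Helper8.PComp6

/-!
# Farm CMX (S1305), unit T2: a component of `C_G(a)` of even order lying in `C_G(b)` lies in
`L_{2'}(C_G(b))`, given `L_{2'}`-balance for the group `C_G(b)`.
-/

set_option autoImplicit false

namespace Cfsg.Agent.Lib.Helper1.CMX

open Cfsg

universe u

variable {G : Type u} [Group G]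

/-- `C(⟨x⟩) = C(x)`. -/
theorem centralizer_zpowers_eq {Y : Type*} [Group Y] (x : Y) :
    Subgroup.centralizer ((Subgroup.zpowers x : Subgroup Y) : Set Y) =
      Subgroup.centralizer ({x} : Set Y) := by
  ext y
  rw [Subgroup.mem_centralizer_singleton_iff, Subgroup.mem_centralizer_iff]
  constructor
  · intro h
    exact (h x (Subgroup.mem_zpowers x)).symm
  · intro h z hz
    obtain ⟨i, rfl⟩ := Subgroup.mem_zpowers_iff.mp hz
    exact ((show Commute y x from h).zpow_right i).eq.symm

/-- T2. -/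
theorem T2 [Finite G] (a b : G) (ha : orderOf a = 2)
    (hab : a ∈ Subgroup.centralizer ({b} : Set G))
    (hLB : ∀ T : Subgroup ↥(Subgroup.centralizer ({b} : Set G)), IsPGroup 2 ↥T →
      (pLayer 2 ↥(Subgroup.centralizer (T : Set ↥(Subgroup.centralizer ({b} : Set G))))).map
        (Subgroup.centralizer (T : Set ↥(Subgroup.centralizer ({b} : Set G)))).subtype ≤
        pLayer 2 ↥(Subgroup.centralizer ({b} : Set G)))
    (K : Subgroup G)
    (hKa : K ≤ Subgroup.centralizer ({a} : Set G)) (hKb : K ≤ Subgroup.centralizer ({b} : Set G))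
    (hK : IsComponent (K.subgroupOf (Subgroup.centralizer ({a} : Set G))))
    (hKeven : 2 ∣ Nat.card K) :
    K.subgroupOf (Subgroup.centralizer ({b} : Set G)) ≤
      pLayer 2 ↥(Subgroup.centralizer ({b} : Set G)) := by
  have hp2 : Fact (Nat.Prime 2) := ⟨Nat.prime_two⟩
  obtain ⟨a', ha'⟩ : ∃ a' : ↥(Subgroup.centralizer ({b} : Set G)), a' = ⟨a, hab⟩ := ⟨_, rfl⟩
  have hT2 : IsPGroup 2 ↥(Subgroup.zpowers a') := by
    apply IsPGroup.of_card (n := 1)
    rw [Nat.card_zpowers, pow_one, ha', ← ha]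
    exact (Subgroup.orderOf_mk a hab)
  have h1 := hLB (Subgroup.zpowers a') hT2
  rw [centralizer_zpowers_eq a', ha'] at h1
  have h3 := T3 a b hab K hKa hKb hK
  have hle := subgroupOf_le_centralizer a b hab K hKa
  -- the component has even order, hence is a 2-component
  have hcard : Nat.card ↥((K.subgroupOf (Subgroup.centralizer ({b} : Set G))).subgroupOf
      (Subgroup.centralizer
        ({(⟨a, hab⟩ : ↥(Subgroup.centralizer ({b} : Set G)))} :
          Set ↥(Subgroup.centralizer ({b} : Set G))))) = Nat.card ↥K :=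
    Nat.card_congr ((Subgroup.subgroupOfEquivOfLe hle).trans
      (Subgroup.subgroupOfEquivOfLe hKb)).toEquiv
  have hne : ((K.subgroupOf (Subgroup.centralizer ({b} : Set G))).subgroupOf
      (Subgroup.centralizer
        ({(⟨a, hab⟩ : ↥(Subgroup.centralizer ({b} : Set G)))} :
          Set ↥(Subgroup.centralizer ({b} : Set G))))).map
      (QuotientGroup.mk' (pPrimeCore 2 _)) ≠ ⊥ := by
    intro hbot
    rw [← le_bot_iff, Subgroup.map_le_iff_le_comap, MonoidHom.comap_bot, QuotientGroup.ker_mk'] at hbot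
    have hdvd := Subgroup.card_dvd_of_le hbot
    rw [hcard] at hdvd
    have hcop := Cfsg.Agent.Lib.Helper1.pPrimeCore_card_coprime (G := ↥(Subgroup.centralizer
        ({(⟨a, hab⟩ : ↥(Subgroup.centralizer ({b} : Set G)))} :
          Set ↥(Subgroup.centralizer ({b} : Set G))))) 2
    have h2 : 2 ∣ Nat.gcd (Nat.card ↥(pPrimeCore 2 ↥(Subgroup.centralizer
        ({(⟨a, hab⟩ : ↥(Subgroup.centralizer ({b} : Set G)))} :
          Set ↥(Subgroup.centralizer ({b} : Set G)))))) 2 :=
      Nat.dvd_gcd (hKeven.trans hdvd) dvd_rfl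
    rw [hcop] at h2
    exact absurd h2 (by norm_num)
  have hpc := Cfsg.Agent.Lib.Helper8.PComp.isPComponent_of_isComponent h3 hne
  have h4 : (K.subgroupOf (Subgroup.centralizer ({b} : Set G))).subgroupOf
      (Subgroup.centralizer
        ({(⟨a, hab⟩ : ↥(Subgroup.centralizer ({b} : Set G)))} :
          Set ↥(Subgroup.centralizer ({b} : Set G)))) ≤ pLayer 2 _ := le_sSup hpc
  have h5 := (Subgroup.map_mono h4).trans h1
  rw [Subgroup.subgroupOf_map_subtype, inf_of_le_left hle] at h5
  exact h5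

end Cfsg.Agent.Lib.Helper1.CMX
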