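import Mathlib
import Cfsg.Agent.Lib.Helper3.CPDefs

/-!
# S3396, piece P5: conjugation infrastructure for members of `𝓜`
-/

set_option autoImplicit false
set_option maxHeartbeats 4000000
set_option maxRecDepth 100000
set_option linter.unusedVariables false
set_option linter.unusedSectionVars false
set_option linter.style.longLine false
set_option linter.deprecated false
set_option linter.unusedSimpArgs false

namespace Cfsg.Agent.Lib.Helper1.CP
open Cfsg.Agent.Lib.Helper3.CP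
open scoped Pointwise

variable {G : Type*} [Group G]

/-- the conjugate subgroup `y M y⁻¹` -/
def cj (y : G) (M : Subgroup G) : Subgroup G := M.map (MulAut.conj y).toMonoidHom

theorem mem_cj {y x : G} {M : Subgroup G} : x ∈ cj y M ↔ y⁻¹ * x * y ∈ M := by
  unfold cj
  rw [Subgroup.mem_map]
  constructor
  · rintro ⟨m, hm, rfl⟩
    have : y⁻¹ * ((MulAut.conj y).toMonoidHom m) * y = m := by
      simp only [MulEquiv.coe_toMonoidHom, MulAut.conj_apply]; group
    rw [this]; exact hm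
  · intro h
    refine ⟨y⁻¹ * x * y, h, ?_⟩
    simp only [MulEquiv.coe_toMonoidHom, MulAut.conj_apply]
    group

theorem conj_mem_cj {y m : G} {M : Subgroup G} : y * m * y⁻¹ ∈ cj y M ↔ m ∈ M := by
  rw [mem_cj]
  have : y⁻¹ * (y * m * y⁻¹) * y = m := by group
  rw [this]

theorem card_cj (y : G) (M : Subgroup G) : Nat.card (cj y M) = Nat.card M :=
  Subgroup.card_map_of_injective (MulAut.conj y).injective

theorem isPGroup_cj {y : G} {M : Subgroup G} (h : IsPGroup 2 M) : IsPGroup 2 (cj y M) := h.map _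

theorem cj_mono {y : G} {M N : Subgroup G} (h : M ≤ N) : cj y M ≤ cj y N := Subgroup.map_mono h

theorem cj_cj (a b : G) (M : Subgroup G) : cj a (cj b M) = cj (a * b) M := by
  ext x
  rw [mem_cj, mem_cj, mem_cj]
  have : b⁻¹ * (a⁻¹ * x * a) * b = (a * b)⁻¹ * x * (a * b) := by group
  rw [this]

theorem cj_one (M : Subgroup G) : cj 1 M = M := by
  ext x; rw [mem_cj]; simp

theorem cj_inv_cj (y : G) (M : Subgroup G) : cj y⁻¹ (cj y M) = M := by
  rw [cj_cj, inv_mul_cancel, cj_one]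

theorem cj_cj_inv (y : G) (M : Subgroup G) : cj y (cj y⁻¹ M) = M := by
  rw [cj_cj, mul_inv_cancel, cj_one]

theorem cj_injective (y : G) {M N : Subgroup G} (h : cj y M = cj y N) : M = N := by
  rw [← cj_inv_cj y M, h, cj_inv_cj]

theorem cj_bot (y : G) : cj y (⊥ : Subgroup G) = ⊥ := by
  unfold cj; exact Subgroup.map_bot _

theorem cj_ne_bot {y : G} {M : Subgroup G} (h : M ≠ ⊥) : cj y M ≠ ⊥ := by
  intro h1; apply h; apply cj_injective y; rw [h1, cj_bot]

theorem cj_normalizer (y : G) (Q : Subgroup G) :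
    cj y (Subgroup.normalizer (Q : Set G)) = Subgroup.normalizer ((cj y Q : Subgroup G) : Set G) := by
  ext x
  rw [mem_cj, Subgroup.mem_normalizer_iff, Subgroup.mem_normalizer_iff]
  constructor
  · intro h z
    rw [mem_cj, mem_cj, h (y⁻¹ * z * y)]
    have : y⁻¹ * x * y * (y⁻¹ * z * y) * (y⁻¹ * x * y)⁻¹ = y⁻¹ * (x * z * x⁻¹) * y := by group
    rw [this]
  · intro h z
    have h1 := h (y * z * y⁻¹)
    rw [conj_mem_cj, mem_cj] at h1
    rw [h1]
    have : y⁻¹ * (x * (y * z * y⁻¹) * x⁻¹) * y = y⁻¹ * x * y * z * (y⁻¹ * x * y)⁻¹ := by group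
    rw [this]

theorem cj_eq_self_iff {y : G} {Q : Subgroup G} :
    cj y Q = Q ↔ y ∈ Subgroup.normalizer (Q : Set G) := by
  rw [Subgroup.mem_normalizer_iff]
  constructor
  · intro h z
    have h1 := conj_mem_cj (y := y) (m := z) (M := Q)
    rw [h] at h1
    exact h1.symm
  · intro h
    ext x
    rw [mem_cj, h (y⁻¹ * x * y)]
    have : y * (y⁻¹ * x * y) * y⁻¹ = x := by group
    rw [this]

theorem isO2_cj {y : G} {Q M : Subgroup G} (h : IsO2 Q M) : IsO2 (cj y Q) (cj y M) := by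
  obtain ⟨h1, h2, h3, h4⟩ := h
  refine ⟨cj_mono h1, isPGroup_cj h2, ?_, ?_⟩
  · intro m hm q hq
    rw [mem_cj] at hm hq ⊢
    have : y⁻¹ * (m * q * m⁻¹) * y = (y⁻¹ * m * y) * (y⁻¹ * q * y) * (y⁻¹ * m * y)⁻¹ := by group
    rw [this]; exact h3 _ hm _ hq
  · intro R hR hR2 hRn
    rw [← cj_cj_inv y R]
    apply cj_mono
    apply h4
    · have := cj_mono (y := y⁻¹) hR
      rwa [cj_inv_cj] at this
    · exact isPGroup_cj hR2
    · intro m hm q hq
      rw [mem_cj] at hq ⊢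
      have e : y⁻¹⁻¹ * (m * q * m⁻¹) * y⁻¹ = (y * m * y⁻¹) * (y⁻¹⁻¹ * q * y⁻¹) * (y * m * y⁻¹)⁻¹ := by
        group
      rw [e]
      exact hRn _ (conj_mem_cj.mpr hm) _ hq

theorem isO2_unique {Q Q' M : Subgroup G} (h : IsO2 Q M) (h' : IsO2 Q' M) : Q = Q' :=
  le_antisymm (h'.2.2.2 Q h.1 h.2.1 h.2.2.1) (h.2.2.2 Q' h'.1 h'.2.1 h'.2.2.1)

theorem mem_cj_conj {y : G} {M Q : Subgroup G} (h : Mem M Q) : Mem (cj y M) (cj y Q) := by
  obtain ⟨h1, h2, h3, h4⟩ := h
  refine ⟨cj_ne_bot h1, isO2_cj h2, ?_, ?_⟩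
  · rw [← cj_normalizer, ← h3]
  · intro hp
    apply h4
    have := isPGroup_cj (y := y⁻¹) hp
    rwa [cj_inv_cj] at this

theorem isSyl2_cj {y : G} {T M : Subgroup G} (h : IsSyl2 T M) : IsSyl2 (cj y T) (cj y M) := by
  obtain ⟨h1, h2, h3⟩ := h
  refine ⟨cj_mono h1, isPGroup_cj h2, ?_⟩
  intro R hR hR2 hTR
  have e := h3 (cj y⁻¹ R) (by have := cj_mono (y := y⁻¹) hR; rwa [cj_inv_cj] at this)
    (isPGroup_cj hR2) (by have := cj_mono (y := y⁻¹) hTR; rwa [cj_inv_cj] at this)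
  rw [← e, cj_cj_inv]

theorem exists_isSyl2_ge [Finite G] {R M : Subgroup G} (hRM : R ≤ M) (hR : IsPGroup 2 R) :
    ∃ T, IsSyl2 T M ∧ R ≤ T := by
  haveI : Fact (Nat.Prime 2) := ⟨Nat.prime_two⟩
  have h1 : IsPGroup 2 (R.subgroupOf M) := hR.comap_subtype
  obtain ⟨P, hP⟩ := h1.exists_le_sylow
  refine ⟨(P : Subgroup M).map M.subtype, ⟨Subgroup.map_subtype_le _, P.isPGroup'.map _, ?_⟩, ?_⟩
  · intro R' hR'M hR'2 hTR'
    have h2 : (P : Subgroup M) ≤ R'.subgroupOf M := by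
      intro x hx
      rw [Subgroup.mem_subgroupOf]
      exact hTR' (Subgroup.mem_map_of_mem _ hx)
    have h3 : R'.subgroupOf M = P := P.is_maximal' hR'2.comap_subtype h2
    rw [← h3, Subgroup.map_subgroupOf_eq_of_le hR'M]
  · intro x hx
    have : (⟨x, hRM hx⟩ : M) ∈ (P : Subgroup M) :=
      hP (by rw [Subgroup.mem_subgroupOf]; exact hx)
    exact ⟨_, this, rfl⟩

theorem le_normalizer_of_forall {H D : Subgroup G} (h : ∀ m ∈ H, ∀ q ∈ D, m * q * m⁻¹ ∈ D) :
    H ≤ Subgroup.normalizer (D : Set G) := by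
  intro m hm
  rw [Subgroup.mem_normalizer_iff]
  intro q
  constructor
  · exact h m hm q
  · intro hq
    have := h m⁻¹ (H.inv_mem hm) _ hq
    have e : m⁻¹ * (m * q * m⁻¹) * m⁻¹⁻¹ = q := by group
    rwa [e] at this

theorem o2_le_isSyl2 {Q M T : Subgroup G} (hQ : IsO2 Q M) (hT : IsSyl2 T M) : Q ≤ T := by
  obtain ⟨h1, h2, h3, h4⟩ := hQ
  obtain ⟨t1, t2, t3⟩ := hT
  have hn : T ≤ Subgroup.normalizer (Q : Set G) := le_trans t1 (le_normalizer_of_forall h3)
  have hp : IsPGroup 2 (T ⊔ Q : Subgroup G) := t2.to_sup_of_normal_right' h2 hn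
  have := t3 (T ⊔ Q) (sup_le t1 h1) hp le_sup_left
  rw [← this]; exact le_sup_right

theorem sylow_isSyl2 (P : Sylow 2 G) {M : Subgroup G} (h : (P : Subgroup G) ≤ M) :
    IsSyl2 (P : Subgroup G) M :=
  ⟨h, P.isPGroup', fun R _ hR hPR => (P.is_maximal' hR hPR)⟩

theorem exists_normalizer_not_mem [Finite G] {P D : Subgroup G} (hP : IsPGroup 2 P) (hDP : D ≤ P)
    (hne : D ≠ P) : ∃ y ∈ P, y ∉ D ∧ y ∈ Subgroup.normalizer (D : Set G) := by
  haveI : Fact (Nat.Prime 2) := ⟨Nat.prime_two⟩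
  haveI : Group.IsNilpotent P := hP.isNilpotent
  have htop : D.subgroupOf P ≠ ⊤ := by
    intro h
    rw [Subgroup.subgroupOf_eq_top] at h
    exact hne (le_antisymm hDP h)
  have hlt := Group.normalizerCondition_of_isNilpotent (D.subgroupOf P) (lt_top_iff_ne_top.mpr htop)
  obtain ⟨y, hyN, hyD⟩ := SetLike.exists_of_lt hlt
  refine ⟨(y : G), y.2, ?_, ?_⟩
  · intro h; exact hyD (Subgroup.mem_subgroupOf.mpr h)
  · rw [Subgroup.mem_normalizer_iff] at hyN ⊢
    intro q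
    constructor
    · intro hq
      have := (hyN ⟨q, hDP hq⟩).mp (Subgroup.mem_subgroupOf.mpr hq)
      rw [Subgroup.mem_subgroupOf] at this
      simpa using this
    · intro hq
      have hqP : q ∈ P := by
        have h1 := P.mul_mem (P.mul_mem (P.inv_mem y.2) (hDP hq)) y.2
        have e : (y : G)⁻¹ * ((y : G) * q * (y : G)⁻¹) * (y : G) = q := by group
        rwa [e] at h1
      have := (hyN ⟨q, hqP⟩).mpr (by rw [Subgroup.mem_subgroupOf]; simpa using hq)
      exact Subgroup.mem_subgroupOf.mp this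

theorem coe_smul_eq_cj (h : G) (P : Sylow 2 G) :
    ((h • P : Sylow 2 G) : Subgroup G) = cj h (P : Subgroup G) := by
  ext x
  show x ∈ MulAut.conj h • (P : Subgroup G) ↔ _
  rw [Subgroup.mem_pointwise_smul_iff_inv_smul_mem, MulAut.smul_def, MulAut.conj_inv_apply, mem_cj]

theorem sylow_conj [Finite G] (P P' : Sylow 2 G) :
    ∃ h : G, (P' : Subgroup G) = cj h (P : Subgroup G) := by
  haveI : Fact (Nat.Prime 2) := ⟨Nat.prime_two⟩
  obtain ⟨h, hh⟩ := MulAction.exists_smul_eq G P P'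
  refine ⟨h, ?_⟩
  rw [← hh]
  exact coe_smul_eq_cj h P

theorem card_lt_of_le_of_not_mem [Finite G] {A B : Subgroup G} (h : A ≤ B) {y : G} (hyB : y ∈ B)
    (hyA : y ∉ A) : Nat.card A < Nat.card B := by
  by_contra hc
  push_neg at hc
  have := Subgroup.eq_of_le_of_card_ge h hc
  exact hyA (this ▸ hyB)

end Cfsg.Agent.Lib.Helper1.CP
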