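import Mathlib
import Cfsg.Agent.Lib.Helper3.CPDefs
import Cfsg.Agent.Lib.Helper1.CPP5A
import Cfsg.Agent.Lib.Helper7.Fx2C

/-!
# S3396, piece P5: some member of `𝓜` has `|O₂| = 4` (hypothesis form)
-/

set_option autoImplicit false
set_option maxHeartbeats 4000000
set_option maxRecDepth 100000
set_option linter.unusedVariables false
set_option linter.unusedSectionVars false
set_option linter.style.longLine false
set_option linter.deprecated false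
set_option linter.unusedSimpArgs false

namespace Cfsg.Agent.Lib.Helper1.CP
open Cfsg.Agent.Lib.Helper3.CP

variable {G : Type*} [Group G]

/-- The inputs of piece P5 (pieces L, the pair lemma, simplicity), together with the negation of
the conclusion. -/
structure Hyp (G : Type*) [Group G] : Prop where
  ms : ∀ {M Q T : Subgroup G}, Mem M Q → IsSyl2 T M → Q ≠ T → ∃ (x : G) (r : ℕ), Loc M Q T x r
  sn : ∀ {M Q T : Subgroup G}, Mem M Q → IsSyl2 T M → Q ≠ T →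
    ∀ y ∈ M, (∀ t ∈ T, y * t * y⁻¹ ∈ T) → y ∈ T
  nc : ∀ {M Q M' Q' : Subgroup G}, Mem M Q → Mem M' Q' → M ≠ M' → ∀ C : Subgroup G, C ≠ ⊥ →
    IsPGroup 2 C → (∀ m ∈ M, ∀ c ∈ C, m * c * m⁻¹ ∈ C) → (∀ m ∈ M', ∀ c ∈ C, m * c * m⁻¹ ∈ C) →
    False
  el : ∀ R : Subgroup G, R ≠ ⊥ → IsPGroup 2 R →
    ¬ IsPGroup 2 ↥(Subgroup.normalizer (R : Set G)) →
    ∃ M Q : Subgroup G, Mem M Q ∧ Subgroup.normalizer (R : Set G) ≤ M
  pl : ∀ {M M' Q Q' T : Subgroup G} {x x' : G} {r r' : ℕ}, Loc M Q T x r → Loc M' Q' T x' r' →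
    Q ≠ Q' → Q ≠ T → Q' ≠ T →
    (∀ C : Subgroup G, C ≠ ⊥ → C ≤ T → (∀ m ∈ M, ∀ c ∈ C, m * c * m⁻¹ ∈ C) →
      (∀ m ∈ M', ∀ c ∈ C, m * c * m⁻¹ ∈ C) → False) →
    Nat.card Q = 4 ∨ Nat.card Q' = 4
  n2 : ∀ N : Subgroup G, N.Normal → N.index ≠ 2
  no4 : ∀ M Q : Subgroup G, Mem M Q → Nat.card Q ≠ 4

theorem pair_false (hyp : Hyp G) {M Q M' Q' T : Subgroup G} (hM : Mem M Q) (hM' : Mem M' Q')
    (hne : M ≠ M') (hT : IsSyl2 T M) (hT' : IsSyl2 T M') (hQT : Q ≠ T) (hQT' : Q' ≠ T) : False := by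
  obtain ⟨x, r, hL⟩ := hyp.ms hM hT hQT
  obtain ⟨x', r', hL'⟩ := hyp.ms hM' hT' hQT'
  have hQQ : Q ≠ Q' := by
    intro h
    apply hne
    rw [hM.2.2.1, hM'.2.2.1, h]
  rcases hyp.pl hL hL' hQQ hQT hQT' (fun C hC1 hCT hCM hCM' =>
    hyp.nc hM hM' hne C hC1 (hT.2.1.to_le hCT) hCM hCM') with h | h
  · exact hyp.no4 M Q hM h
  · exact hyp.no4 M' Q' hM' h

theorem selfnorm [Finite G] (hyp : Hyp G) {M Q T : Subgroup G} (hM : Mem M Q) (hT : IsSyl2 T M)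
    (hQT : Q ≠ T) {y : G} (hy : y ∈ Subgroup.normalizer (T : Set G)) : y ∈ T := by
  have hyT : ∀ t ∈ T, y * t * y⁻¹ ∈ T := fun t ht => (Subgroup.mem_normalizer_iff.mp hy t).mp ht
  by_cases hyM : y ∈ M
  · exact hyp.sn hM hT hQT y hyM hyT
  · exfalso
    have hcT : cj y T = T := cj_eq_self_iff.mpr hy
    have hM' : Mem (cj y M) (cj y Q) := mem_cj_conj hM
    have hT' : IsSyl2 T (cj y M) := by
      have := isSyl2_cj (y := y) hT
      rwa [hcT] at this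
    have hne : M ≠ cj y M := by
      intro h
      have h1 : cj y Q ≤ Q := by
        apply hM.2.1.2.2.2 (cj y Q)
        · have := cj_mono (y := y) hM.2.1.1
          rwa [← h] at this
        · exact isPGroup_cj hM.2.1.2.1
        · intro m hm q hq
          have hm' : m ∈ cj y M := by rw [← h]; exact hm
          exact (isO2_cj hM.2.1).2.2.1 m hm' q hq
      have h2 : cj y Q = Q := Subgroup.eq_of_le_of_card_ge h1 (le_of_eq (card_cj y Q).symm)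
      apply hyM
      rw [hM.2.2.1]
      exact cj_eq_self_iff.mp h2
    have hQT' : cj y Q ≠ T := by
      intro h; apply hQT; apply cj_injective y; rw [h, hcT]
    exact pair_false hyp hM hM' hne hT hT' hQT hQT'

theorem exists_sylow_eq [Finite G] (hyp : Hyp G) {M Q T : Subgroup G} (hM : Mem M Q)
    (hT : IsSyl2 T M) (hQT : Q ≠ T) : ∃ P : Sylow 2 G, (P : Subgroup G) = T := by
  obtain ⟨P, hP⟩ := hT.2.1.exists_le_sylow
  refine ⟨P, ?_⟩
  by_contra hne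
  obtain ⟨y, hyP, hyT, hyN⟩ := exists_normalizer_not_mem P.isPGroup' hP (fun h => hne h.symm)
  exact hyT (selfnorm hyp hM hT hQT hyN)

theorem ncm [Finite G] (hyp : Hyp G) {R A B : Subgroup G} (hR1 : R ≠ ⊥) (hR2 : IsPGroup 2 R)
    (hA : A ≤ Subgroup.normalizer (R : Set G)) (hB : B ≤ Subgroup.normalizer (R : Set G))
    (hA2 : IsPGroup 2 A) (hB2 : IsPGroup 2 B)
    (hno : ∀ P : Sylow 2 G, A ≤ (P : Subgroup G) → B ≤ (P : Subgroup G) → False) :
    ∃ M Q T T' : Subgroup G, Mem M Q ∧ IsSyl2 T M ∧ IsSyl2 T' M ∧ A ≤ T ∧ B ≤ T' ∧ Q ≠ T ∧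
      Q ≠ T' := by
  have hn2 : ¬ IsPGroup 2 ↥(Subgroup.normalizer (R : Set G)) := by
    intro h
    obtain ⟨P, hP⟩ := h.exists_le_sylow
    exact hno P (le_trans hA hP) (le_trans hB hP)
  obtain ⟨M, Q, hM, hNM⟩ := hyp.el R hR1 hR2 hn2
  obtain ⟨T, hT, hAT⟩ := exists_isSyl2_ge (le_trans hA hNM) hA2
  obtain ⟨T', hT', hBT'⟩ := exists_isSyl2_ge (le_trans hB hNM) hB2
  refine ⟨M, Q, T, T', hM, hT, hT', hAT, hBT', ?_, ?_⟩
  · intro h
    have h1 : Q ≤ T' := o2_le_isSyl2 hM.2.1 hT'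
    have h2 : T' = T := hT.2.2 T' hT'.1 hT'.2.1 (by rw [← h]; exact h1)
    obtain ⟨P, hP⟩ := hT.2.1.exists_le_sylow
    exact hno P (le_trans hAT hP) (le_trans (by rw [← h2]; exact hBT') hP)
  · intro h
    have h1 : Q ≤ T := o2_le_isSyl2 hM.2.1 hT
    have h2 : T = T' := hT'.2.2 T hT.1 hT.2.1 (by rw [← h]; exact h1)
    obtain ⟨P, hP⟩ := hT'.2.1.exists_le_sylow
    exact hno P (le_trans (by rw [← h2]; exact hAT) hP) (le_trans hBT' hP)

theorem first_half [Finite G] (hyp : Hyp G)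
    (hnTI : ∃ P Q : Sylow 2 G, P ≠ Q ∧ (P : Subgroup G) ⊓ (Q : Subgroup G) ≠ ⊥) :
    ∃ (M Q : Subgroup G) (S : Sylow 2 G), Mem M Q ∧ IsSyl2 (S : Subgroup G) M ∧
      Q ≠ (S : Subgroup G) := by
  classical
  obtain ⟨P0, Q0, hPQ0, hI0⟩ := hnTI
  haveI : Finite (Sylow 2 G) :=
    Finite.of_injective (fun P : Sylow 2 G => (P : Subgroup G)) (fun P Q h => Sylow.ext h)
  haveI : Nonempty {p : Sylow 2 G × Sylow 2 G // p.1 ≠ p.2} := ⟨⟨(P0, Q0), hPQ0⟩⟩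
  obtain ⟨⟨⟨S1, S2⟩, h12⟩, hmax⟩ := Finite.exists_max
    (fun p : {p : Sylow 2 G × Sylow 2 G // p.1 ≠ p.2} =>
      Nat.card ((p.1.1 : Subgroup G) ⊓ (p.1.2 : Subgroup G) : Subgroup G))
  have hmax' : ∀ P P' : Sylow 2 G, P ≠ P' →
      Nat.card ((P : Subgroup G) ⊓ (P' : Subgroup G) : Subgroup G) ≤
        Nat.card ((S1 : Subgroup G) ⊓ (S2 : Subgroup G) : Subgroup G) :=
    fun P P' h => hmax ⟨(P, P'), h⟩
  have h12' : S1 ≠ S2 := h12
  obtain ⟨D, hD⟩ : ∃ D : Subgroup G, D = (S1 : Subgroup G) ⊓ (S2 : Subgroup G) := ⟨_, rfl⟩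
  rw [← hD] at hmax'
  have hD1 : D ≠ ⊥ := by
    have h1 := hmax' P0 Q0 hPQ0
    have h2 : 1 < Nat.card ((P0 : Subgroup G) ⊓ (Q0 : Subgroup G) : Subgroup G) :=
      (Subgroup.one_lt_card_iff_ne_bot _).mpr hI0
    exact (Subgroup.one_lt_card_iff_ne_bot _).mp (lt_of_lt_of_le h2 h1)
  have hDle1 : D ≤ S1 := by rw [hD]; exact inf_le_left
  have hDle2 : D ≤ S2 := by rw [hD]; exact inf_le_right
  have hDS1 : D ≠ S1 := by
    intro h
    have hle : (S1 : Subgroup G) ≤ S2 := by rw [← h]; exact hDle2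
    exact h12' (Sylow.ext (S1.is_maximal' S2.isPGroup' hle).symm)
  have hDS2 : D ≠ S2 := by
    intro h
    have hle : (S2 : Subgroup G) ≤ S1 := by rw [← h]; exact hDle1
    exact h12' (Sylow.ext (S2.is_maximal' S1.isPGroup' hle))
  obtain ⟨y1, hy1S, hy1D, hy1N⟩ := exists_normalizer_not_mem S1.isPGroup' hDle1 hDS1
  obtain ⟨y2, hy2S, hy2D, hy2N⟩ := exists_normalizer_not_mem S2.isPGroup' hDle2 hDS2
  have hD2 : IsPGroup 2 D := S1.isPGroup'.to_le hDle1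
  have hc1 : Nat.card D <
      Nat.card ((S1 : Subgroup G) ⊓ Subgroup.normalizer (D : Set G) : Subgroup G) :=
    card_lt_of_le_of_not_mem (le_inf hDle1 Subgroup.le_normalizer) ⟨hy1S, hy1N⟩ hy1D
  have hc2 : Nat.card D <
      Nat.card ((S2 : Subgroup G) ⊓ Subgroup.normalizer (D : Set G) : Subgroup G) :=
    card_lt_of_le_of_not_mem (le_inf hDle2 Subgroup.le_normalizer) ⟨hy2S, hy2N⟩ hy2D
  have hU : ∀ (P P' : Sylow 2 G) (X : Subgroup G), X ≤ P → X ≤ P' → Nat.card D < Nat.card X →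
      P = P' := by
    intro P P' X h1 h2 h3
    by_contra hne
    have h4 := hmax' P P' hne
    have h5 := Subgroup.card_le_of_le (le_inf h1 h2)
    omega
  have hNC : ∀ P : Sylow 2 G,
      (S1 : Subgroup G) ⊓ Subgroup.normalizer (D : Set G) ≤ (P : Subgroup G) →
      (S2 : Subgroup G) ⊓ Subgroup.normalizer (D : Set G) ≤ (P : Subgroup G) → False := by
    intro P h1 h2
    have e1 : P = S1 := hU P S1 _ h1 inf_le_left hc1
    have e2 : P = S2 := hU P S2 _ h2 inf_le_left hc2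
    exact h12' (e1.symm.trans e2)
  obtain ⟨M, Q, T, T', hM, hT, hT', hAT, hBT', hQT, hQT'⟩ :=
    ncm hyp hD1 hD2 inf_le_right inf_le_right (S1.isPGroup'.to_le inf_le_left)
      (S2.isPGroup'.to_le inf_le_left) hNC
  obtain ⟨S, hS⟩ := exists_sylow_eq hyp hM hT hQT
  refine ⟨M, Q, S, hM, ?_, ?_⟩
  · rw [hS]; exact hT
  · rw [hS]; exact hQT

theorem uniq [Finite G] (hyp : Hyp G) {H D : Subgroup G} {S : Sylow 2 G} (hH : Mem H D)
    (hS : IsSyl2 (S : Subgroup G) H) (hDS : D ≠ (S : Subgroup G)) {M' Q' : Subgroup G}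
    (hM' : Mem M' Q') (hSM' : (S : Subgroup G) ≤ M') (hQ'S : Q' ≠ (S : Subgroup G)) :
    M' = H ∧ Q' = D := by
  have hS' : IsSyl2 (S : Subgroup G) M' := sylow_isSyl2 S hSM'
  have h1 : M' = H := by
    by_contra hne
    exact pair_false hyp hM' hH hne hS' hS hQ'S hDS
  refine ⟨h1, ?_⟩
  subst h1
  exact isO2_unique hM'.2.1 hH.2.1

end Cfsg.Agent.Lib.Helper1.CP
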