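import Mathlib
import Cfsg.Agent.Lib.Helper3.CPDefs
import Cfsg.Agent.Lib.Helper1.CPP5A
import Cfsg.Agent.Lib.Helper1.CPP5B
import Cfsg.Agent.Lib.Helper7.Fx2C

/-!
# S3396, piece P5: the fusion argument
-/

set_option autoImplicit false
set_option maxHeartbeats 4000000
set_option maxRecDepth 100000
set_option linter.unusedVariables false
set_option linter.unusedSectionVars false
set_option linter.style.longLine false
set_option linter.deprecated false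
set_option linter.unusedSimpArgs false

namespace Cfsg.Agent.Lib.Helper1.CP
open Cfsg.Agent.Lib.Helper3.CP

variable {G : Type*} [Group G]

/-- If `S/D` is a nontrivial cyclic `2`-group then `{y ∈ S | y ^ e ∈ D}` has index `2` in `S` for
a suitable `e`. -/
theorem exists_index_two_pow [Finite G] {D S : Subgroup G} (hDS : D ≤ S) (hne : D ≠ S)
    (hS2 : IsPGroup 2 S) (hn : ∀ s ∈ S, ∀ q ∈ D, s * q * s⁻¹ ∈ D)
    (hcyc : ∃ u ∈ S, ∀ a ∈ S, ∃ i : ℕ, a * (u ^ i)⁻¹ ∈ D) :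
    ∃ (M0 : Subgroup G) (e : ℕ), M0 ≤ S ∧ M0.relIndex S = 2 ∧
      ∀ y ∈ S, (y ∈ M0 ↔ y ^ e ∈ D) := by
  classical
  haveI : Fact (Nat.Prime 2) := ⟨Nat.prime_two⟩
  have hnorm : (D.subgroupOf S).Normal := by
    constructor
    intro n hn' g
    rw [Subgroup.mem_subgroupOf] at hn' ⊢
    simpa using hn g g.2 n hn'
  obtain ⟨N, hN⟩ : ∃ N : Subgroup S, N = D.subgroupOf S := ⟨_, rfl⟩
  haveI : N.Normal := hN ▸ hnorm
  obtain ⟨u, hu, hcy⟩ := hcyc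
  have hcyclic : IsCyclic (S ⧸ N) := by
    refine ⟨⟨QuotientGroup.mk ⟨u, hu⟩, ?_⟩⟩
    intro x
    obtain ⟨a, rfl⟩ := QuotientGroup.mk_surjective x
    obtain ⟨i, hi⟩ := hcy a a.2
    refine ⟨(i : ℤ), ?_⟩
    show (QuotientGroup.mk ⟨u, hu⟩ : S ⧸ N) ^ (i : ℤ) = QuotientGroup.mk a
    rw [zpow_natCast, ← QuotientGroup.mk_pow, eq_comm, QuotientGroup.eq_iff_div_mem, hN,
      div_eq_mul_inv, Subgroup.mem_subgroupOf]
    simpa using hi
  have hp : IsPGroup 2 (S ⧸ N) := hS2.to_quotient N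
  obtain ⟨n, hn2⟩ := (IsPGroup.iff_card).mp hp
  have hn0 : n ≠ 0 := by
    rintro rfl
    rw [pow_zero, ← Subgroup.index_eq_card, Subgroup.index_eq_one, hN,
      Subgroup.subgroupOf_eq_top] at hn2
    exact hne (le_antisymm hDS hn2)
  obtain ⟨k, rfl⟩ := Nat.exists_eq_succ_of_ne_zero hn0
  letI : CommGroup (S ⧸ N) := IsCyclic.commGroup
  obtain ⟨φ, hφ⟩ : ∃ φ : S →* S ⧸ N,
      φ = (powMonoidHom (2 ^ k) : S ⧸ N →* S ⧸ N).comp (QuotientGroup.mk' N) := ⟨_, rfl⟩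
  have hker : φ.ker.index = 2 := by
    have h1 : φ.ker = (powMonoidHom (2 ^ k) : S ⧸ N →* S ⧸ N).ker.comap (QuotientGroup.mk' N) := by
      rw [hφ, MonoidHom.comap_ker]
    rw [h1, Subgroup.index_comap_of_surjective _ (QuotientGroup.mk'_surjective N),
      IsCyclic.index_powMonoidHom_ker, hn2,
      Nat.gcd_eq_right (pow_dvd_pow 2 (Nat.le_succ k)), pow_succ,
      Nat.mul_div_cancel_left 2 (pow_pos (by norm_num) k)]
  refine ⟨φ.ker.map S.subtype, 2 ^ k, Subgroup.map_subtype_le _, ?_, ?_⟩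
  · have h1 : (φ.ker.map S.subtype).subgroupOf S = φ.ker :=
      Subgroup.comap_map_eq_self_of_injective (Subgroup.subtype_injective S) φ.ker
    show ((φ.ker.map S.subtype).subgroupOf S).index = 2
    rw [h1, hker]
  · intro y hy
    have h1 : y ∈ φ.ker.map S.subtype ↔ (⟨y, hy⟩ : S) ∈ φ.ker := by
      constructor
      · rintro ⟨z, hz, hzy⟩
        have : z = ⟨y, hy⟩ := Subtype.ext hzy
        rw [← this]; exact hz
      · intro h; exact ⟨⟨y, hy⟩, h, rfl⟩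
    rw [h1, MonoidHom.mem_ker, hφ, MonoidHom.comp_apply, powMonoidHom_apply,
      QuotientGroup.mk'_apply, ← QuotientGroup.mk_pow, QuotientGroup.eq_one_iff, hN,
      Subgroup.mem_subgroupOf]
    simp

theorem exists_fusion [Finite G] (hyp : Hyp G) {H D : Subgroup G} {S : Sylow 2 G} (hH : Mem H D)
    (hS : IsSyl2 (S : Subgroup G) H) (hDS : D ≠ (S : Subgroup G)) :
    ∃ a g : G, a ∈ D ∧ g * a * g⁻¹ ∈ (S : Subgroup G) ∧ g * a * g⁻¹ ∉ D := by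
  obtain ⟨x, r, hL⟩ := hyp.ms hH hS hDS
  have hDle : D ≤ S := hL.QT
  obtain ⟨M0, e, hM0S, hidx, hmem⟩ := exists_index_two_pow hDle hDS S.isPGroup'
    (fun s hs q hq => hL.Qn s (hL.TM hs) q hq) hL.cyc
  by_contra hcon
  push_neg at hcon
  have hctrl : ∀ y ∈ (S : Subgroup G), ∀ a : G, a * y * a⁻¹ ∈ (S : Subgroup G) →
      (y ∈ M0 ↔ a * y * a⁻¹ ∈ M0) := by
    intro y hy a hay
    rw [hmem y hy, hmem _ hay]
    have hpow : (a * y * a⁻¹) ^ e = a * y ^ e * a⁻¹ := conj_pow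
    rw [hpow]
    constructor
    · intro h
      exact hcon _ a h (by rw [← hpow]; exact (S : Subgroup G).pow_mem hay e)
    · intro h
      have e1 : a⁻¹ * (a * y ^ e * a⁻¹) * a⁻¹⁻¹ = y ^ e := by group
      have := hcon (a * y ^ e * a⁻¹) a⁻¹ h (by rw [e1]; exact (S : Subgroup G).pow_mem hy e)
      rwa [e1] at this
  obtain ⟨N, hN, hNi, _⟩ :=
    Cfsg.Agent.Lib.Helper7.Fx2.exists_index_two_of_fusion_closed S M0 hidx hctrl
  exact hyp.n2 N hN hNi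

theorem second_half [Finite G] (hyp : Hyp G) {H D : Subgroup G} {S : Sylow 2 G} (hH : Mem H D)
    (hS : IsSyl2 (S : Subgroup G) H) (hDS : D ≠ (S : Subgroup G)) : False := by
  classical
  obtain ⟨a0, g0, ha0, hg0S, hg0D⟩ := exists_fusion hyp hH hS hDS
  have hDle : D ≤ (S : Subgroup G) := o2_le_isSyl2 hH.2.1 hS
  haveI : Nonempty {p : G × G // p.1 ∈ D ∧ p.2 * p.1 * p.2⁻¹ ∈ (S : Subgroup G) ∧
      p.2 * p.1 * p.2⁻¹ ∉ D} := ⟨⟨(a0, g0), ha0, hg0S, hg0D⟩⟩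
  obtain ⟨⟨⟨a, g⟩, haD, hgS, hgD⟩, hmax⟩ := Finite.exists_max
    (fun p : {p : G × G // p.1 ∈ D ∧ p.2 * p.1 * p.2⁻¹ ∈ (S : Subgroup G) ∧
      p.2 * p.1 * p.2⁻¹ ∉ D} =>
      Nat.card ((S : Subgroup G) ⊓ cj p.1.2⁻¹ (S : Subgroup G) : Subgroup G))
  have haD' : a ∈ D := haD
  have hgS' : g * a * g⁻¹ ∈ (S : Subgroup G) := hgS
  have hgD' : g * a * g⁻¹ ∉ D := hgD
  have hmax' : ∀ a' g' : G, a' ∈ D → g' * a' * g'⁻¹ ∈ (S : Subgroup G) → g' * a' * g'⁻¹ ∉ D →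
      Nat.card ((S : Subgroup G) ⊓ cj g'⁻¹ (S : Subgroup G) : Subgroup G) ≤
        Nat.card ((S : Subgroup G) ⊓ cj g⁻¹ (S : Subgroup G) : Subgroup G) :=
    fun a' g' h1 h2 h3 => hmax ⟨(a', g'), h1, h2, h3⟩
  obtain ⟨R, hR⟩ : ∃ R : Subgroup G, R = (S : Subgroup G) ⊓ cj g⁻¹ (S : Subgroup G) := ⟨_, rfl⟩
  rw [← hR] at hmax'
  have ha1 : a ≠ 1 := by
    rintro rfl
    apply hgD'
    rw [mul_one, mul_inv_cancel]
    exact D.one_mem
  have haR : a ∈ R := by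
    rw [hR]
    refine ⟨hDle haD', ?_⟩
    show a ∈ cj g⁻¹ (S : Subgroup G)
    rw [mem_cj, inv_inv]
    exact hgS'
  have hR1 : R ≠ ⊥ := fun h => ha1 (by rw [h] at haR; exact Subgroup.mem_bot.mp haR)
  have hRS : R ≤ S := by rw [hR]; exact inf_le_left
  have hRS' : R ≤ cj g⁻¹ (S : Subgroup G) := by rw [hR]; exact inf_le_right
  have hR2 : IsPGroup 2 R := S.isPGroup'.to_le hRS
  have hNS : ∀ y ∈ Subgroup.normalizer ((S : Subgroup G) : Set G), y ∈ (S : Subgroup G) :=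
    fun y hy => selfnorm hyp hH hS hDS hy
  have hSS' : cj g⁻¹ (S : Subgroup G) ≠ S := by
    intro h
    have h1 : g⁻¹ ∈ (S : Subgroup G) := hNS _ (cj_eq_self_iff.mp h)
    have h2 : g ∈ H := by
      have := H.inv_mem (hS.1 h1)
      rwa [inv_inv] at this
    apply hgD'
    exact hH.2.1.2.2.1 g h2 a haD'
  have hRneS : R ≠ S := by
    intro h
    have h1 := hRS'
    rw [h] at h1
    have := Subgroup.eq_of_le_of_card_ge h1 (le_of_eq (card_cj _ _))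
    exact hSS' this.symm
  have hRneS' : R ≠ cj g⁻¹ (S : Subgroup G) := by
    intro h
    have h1 := hRS
    rw [h] at h1
    have := Subgroup.eq_of_le_of_card_ge h1 (le_of_eq (card_cj _ _).symm)
    exact hSS' this
  obtain ⟨yA, hyAS, hyAR, hyAN⟩ := exists_normalizer_not_mem S.isPGroup' hRS hRneS
  obtain ⟨yB, hyBS, hyBR, hyBN⟩ :=
    exists_normalizer_not_mem (isPGroup_cj S.isPGroup') hRS' hRneS'
  obtain ⟨A, hA⟩ : ∃ A : Subgroup G,
      A = (S : Subgroup G) ⊓ Subgroup.normalizer (R : Set G) := ⟨_, rfl⟩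
  obtain ⟨B, hB⟩ : ∃ B : Subgroup G,
      B = cj g⁻¹ (S : Subgroup G) ⊓ Subgroup.normalizer (R : Set G) := ⟨_, rfl⟩
  have hRA : R ≤ A := by rw [hA]; exact le_inf hRS Subgroup.le_normalizer
  have hRB : R ≤ B := by rw [hB]; exact le_inf hRS' Subgroup.le_normalizer
  have hAS : A ≤ S := by rw [hA]; exact inf_le_left
  have hBS' : B ≤ cj g⁻¹ (S : Subgroup G) := by rw [hB]; exact inf_le_left
  have hAN : A ≤ Subgroup.normalizer (R : Set G) := by rw [hA]; exact inf_le_right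
  have hBN : B ≤ Subgroup.normalizer (R : Set G) := by rw [hB]; exact inf_le_right
  have hcA : Nat.card R < Nat.card A :=
    card_lt_of_le_of_not_mem hRA (by rw [hA]; exact ⟨hyAS, hyAN⟩) hyAR
  have hcB : Nat.card R < Nat.card B :=
    card_lt_of_le_of_not_mem hRB (by rw [hB]; exact ⟨hyBS, hyBN⟩) hyBR
  have key1 : ∀ h : G, A ≤ cj h⁻¹ (S : Subgroup G) → h * a * h⁻¹ ∈ D := by
    intro h hAh
    by_contra hnD
    have h1 : h * a * h⁻¹ ∈ (S : Subgroup G) := by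
      have := hAh (hRA haR)
      rwa [mem_cj, inv_inv] at this
    have h2 := hmax' a h haD' h1 hnD
    have h3 : A ≤ (S : Subgroup G) ⊓ cj h⁻¹ (S : Subgroup G) := le_inf hAS hAh
    have h4 := Subgroup.card_le_of_le h3
    omega
  have key2 : ∀ w : G, B ≤ cj w⁻¹ (S : Subgroup G) → w * a * w⁻¹ ∉ D := by
    intro w hBw hwD
    have e1 : (g * w⁻¹) * (w * a * w⁻¹) * (g * w⁻¹)⁻¹ = g * a * g⁻¹ := by group
    have h2 := hmax' (w * a * w⁻¹) (g * w⁻¹) hwD (by rw [e1]; exact hgS')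
      (by rw [e1]; exact hgD')
    have h3 : B ≤ cj w⁻¹ ((S : Subgroup G) ⊓ cj (g * w⁻¹)⁻¹ (S : Subgroup G)) := by
      intro z hz
      have hz1 := hBw hz
      have hz2 : z ∈ cj g⁻¹ (S : Subgroup G) := hBS' hz
      rw [mem_cj] at hz1 hz2 ⊢
      refine ⟨hz1, ?_⟩
      show w⁻¹⁻¹ * z * w⁻¹ ∈ cj (g * w⁻¹)⁻¹ (S : Subgroup G)
      rw [mem_cj]
      have e2 : (g * w⁻¹)⁻¹⁻¹ * (w⁻¹⁻¹ * z * w⁻¹) * (g * w⁻¹)⁻¹ = g⁻¹⁻¹ * z * g⁻¹ := by group
      rw [e2]; exact hz2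
    have h4 := Subgroup.card_le_of_le h3
    rw [card_cj] at h4
    omega
  have hNC2 : ∀ P : Sylow 2 G, A ≤ (P : Subgroup G) → B ≤ (P : Subgroup G) → False := by
    intro P hAP hBP
    obtain ⟨h, hh⟩ := sylow_conj S P
    have e : (P : Subgroup G) = cj (h⁻¹)⁻¹ (S : Subgroup G) := by rw [inv_inv]; exact hh
    exact key2 h⁻¹ (by rw [← e]; exact hBP) (key1 h⁻¹ (by rw [← e]; exact hAP))
  obtain ⟨M', Q', T', T'', hM', hT', hT'', hAT', hBT'', hQT', hQT''⟩ :=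
    ncm hyp hR1 hR2 hAN hBN (S.isPGroup'.to_le hAS) ((isPGroup_cj S.isPGroup').to_le hBS') hNC2
  obtain ⟨P', hP'⟩ := exists_sylow_eq hyp hM' hT' hQT'
  obtain ⟨P'', hP''⟩ := exists_sylow_eq hyp hM' hT'' hQT''
  obtain ⟨h, hh⟩ := sylow_conj S P'
  obtain ⟨w, hw⟩ := sylow_conj S P''
  have hmh : Mem (cj h⁻¹ M') (cj h⁻¹ Q') := mem_cj_conj hM'
  have hmw : Mem (cj w⁻¹ M') (cj w⁻¹ Q') := mem_cj_conj hM'
  have hTh : T' = cj h (S : Subgroup G) := by rw [← hP', hh]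
  have hTw : T'' = cj w (S : Subgroup G) := by rw [← hP'', hw]
  have hSh : (S : Subgroup G) ≤ cj h⁻¹ M' := by
    have : cj h⁻¹ T' ≤ cj h⁻¹ M' := cj_mono hT'.1
    rwa [hTh, cj_inv_cj] at this
  have hSw : (S : Subgroup G) ≤ cj w⁻¹ M' := by
    have : cj w⁻¹ T'' ≤ cj w⁻¹ M' := cj_mono hT''.1
    rwa [hTw, cj_inv_cj] at this
  have hQh : cj h⁻¹ Q' ≠ S := by
    intro hq; apply hQT'
    rw [hTh, ← hq, cj_cj_inv]
  have hQw : cj w⁻¹ Q' ≠ S := by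
    intro hq; apply hQT''
    rw [hTw, ← hq, cj_cj_inv]
  obtain ⟨_, hQD⟩ := uniq hyp hH hS hDS hmh hSh hQh
  obtain ⟨_, hQD'⟩ := uniq hyp hH hS hDS hmw hSw hQw
  have k1 := key1 h⁻¹ (by rw [inv_inv, ← hTh]; exact hAT')
  rw [← hQD, conj_mem_cj] at k1
  have k2 := key2 w⁻¹ (by rw [inv_inv, ← hTw]; exact hBT'')
  apply k2
  rw [← hQD', conj_mem_cj]
  exact k1

theorem false_of_hyp [Finite G] (hyp : Hyp G)
    (hnTI : ∃ P Q : Sylow 2 G, P ≠ Q ∧ (P : Subgroup G) ⊓ (Q : Subgroup G) ≠ ⊥) : False := by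
  obtain ⟨M, Q, S, hM, hS, hQS⟩ := first_half hyp hnTI
  exact second_half hyp hM hS hQS

theorem no_index_two [Finite G] [IsSimpleGroup G] (hns : ¬ IsSolvable G) (N : Subgroup G)
    (hN : N.Normal) : N.index ≠ 2 := by
  intro h
  rcases hN.eq_bot_or_eq_top with h1 | h1
  · rw [h1, Subgroup.index_bot] at h
    haveI : Fact (Nat.Prime 2) := ⟨Nat.prime_two⟩
    have hc : IsCyclic G := isCyclic_of_prime_card h
    apply hns
    exact isSolvable_of_comm (fun a b => (IsCyclic.commGroup (α := G)).mul_comm a b)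
  · rw [h1, Subgroup.index_top] at h; omega

/-- Piece P5 of S3396 with its inputs (pieces L, the pair lemma, absence of normal subgroups of
index `2`) as explicit hypotheses. -/
theorem exists_mem_card_four_of [Finite G]
    (ms : ∀ {M Q T : Subgroup G}, Mem M Q → IsSyl2 T M → Q ≠ T → ∃ (x : G) (r : ℕ), Loc M Q T x r)
    (sn : ∀ {M Q T : Subgroup G}, Mem M Q → IsSyl2 T M → Q ≠ T →
      ∀ y ∈ M, (∀ t ∈ T, y * t * y⁻¹ ∈ T) → y ∈ T)
    (nc : ∀ {M Q M' Q' : Subgroup G}, Mem M Q → Mem M' Q' → M ≠ M' → ∀ C : Subgroup G, C ≠ ⊥ →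
      IsPGroup 2 C → (∀ m ∈ M, ∀ c ∈ C, m * c * m⁻¹ ∈ C) → (∀ m ∈ M', ∀ c ∈ C, m * c * m⁻¹ ∈ C) →
      False)
    (el : ∀ R : Subgroup G, R ≠ ⊥ → IsPGroup 2 R →
      ¬ IsPGroup 2 ↥(Subgroup.normalizer (R : Set G)) →
      ∃ M Q : Subgroup G, Mem M Q ∧ Subgroup.normalizer (R : Set G) ≤ M)
    (pl : ∀ {M M' Q Q' T : Subgroup G} {x x' : G} {r r' : ℕ}, Loc M Q T x r → Loc M' Q' T x' r' →
      Q ≠ Q' → Q ≠ T → Q' ≠ T →
      (∀ C : Subgroup G, C ≠ ⊥ → C ≤ T → (∀ m ∈ M, ∀ c ∈ C, m * c * m⁻¹ ∈ C) →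
        (∀ m ∈ M', ∀ c ∈ C, m * c * m⁻¹ ∈ C) → False) →
      Nat.card Q = 4 ∨ Nat.card Q' = 4)
    (n2 : ∀ N : Subgroup G, N.Normal → N.index ≠ 2)
    (hnTI : ∃ P Q : Sylow 2 G, P ≠ Q ∧ (P : Subgroup G) ⊓ (Q : Subgroup G) ≠ ⊥) :
    ∃ M Q : Subgroup G, Mem M Q ∧ Nat.card Q = 4 := by
  by_contra hcon
  push_neg at hcon
  exact false_of_hyp ⟨ms, sn, nc, el, pl, n2, hcon⟩ hnTI

end Cfsg.Agent.Lib.Helper1.CP
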