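import Mathlib
import Cfsg.Agent.Lib.Helper3.CPDefs
import Cfsg.Agent.Lib.Helper2.CPLD
import Cfsg.Agent.Lib.Helper1.CPP5C

/-!
# S3396, piece P5: some member of `𝓜` has `|O₂| = 4`, modulo the pair lemma
-/

set_option autoImplicit false
set_option maxHeartbeats 4000000
set_option linter.unusedVariables false
set_option linter.unusedSectionVars false
set_option linter.style.longLine false

namespace Cfsg.Agent.Lib.Helper1.CP
open Cfsg.Agent.Lib.Helper3.CP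

variable {G : Type*} [Group G] [Finite G]

/-- Piece P5 of S3396: the pair lemma is the only remaining hypothesis. -/
theorem exists_mem_card_four_of_pair [IsSimpleGroup G] (ctx : Ctx G)
    (pl : ∀ {M M' Q Q' T : Subgroup G} {x x' : G} {r r' : ℕ}, Loc M Q T x r → Loc M' Q' T x' r' →
      Q ≠ Q' → Q ≠ T → Q' ≠ T →
      (∀ C : Subgroup G, C ≠ ⊥ → C ≤ T → (∀ m ∈ M, ∀ c ∈ C, m * c * m⁻¹ ∈ C) →
        (∀ m ∈ M', ∀ c ∈ C, m * c * m⁻¹ ∈ C) → False) →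
      Nat.card Q = 4 ∨ Nat.card Q' = 4)
    (hnTI : ∃ P Q : Sylow 2 G, P ≠ Q ∧ (P : Subgroup G) ⊓ (Q : Subgroup G) ≠ ⊥) :
    ∃ M Q : Subgroup G, Mem M Q ∧ Nat.card Q = 4 :=
  exists_mem_card_four_of
    (fun h1 h2 h3 => Cfsg.Agent.Lib.Helper2.CP.mem_structure ctx h1 h2 h3)
    (fun h1 h2 h3 => Cfsg.Agent.Lib.Helper2.CP.mem_selfnorm ctx h1 h2 h3)
    (fun h1 h2 h3 => Cfsg.Agent.Lib.Helper2.CP.mem_no_common ctx h1 h2 h3)
    (fun R h1 h2 h3 => Cfsg.Agent.Lib.Helper2.CP.exists_mem_of_local ctx R h1 h2 h3)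
    pl (fun N hN => no_index_two ctx.ns N hN) hnTI

end Cfsg.Agent.Lib.Helper1.CP
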