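import Mathlib
import Cfsg.Agent.Lib.Helper3.CPDefs
import Cfsg.Agent.Lib.Helper3.CPPair
import Cfsg.Agent.Lib.Helper1.CPP5D

/-!
# S3396, piece P5 (verbatim): in the non-TI case some member of `𝓜` has `|O₂| = 4`
-/

set_option autoImplicit false
set_option maxHeartbeats 4000000
set_option linter.unusedVariables false
set_option linter.unusedSectionVars false
set_option linter.style.longLine false

namespace Cfsg.Agent.Lib.Helper1.CP
open Cfsg.Agent.Lib.Helper3.CP

variable {G : Type*} [Group G] [Finite G]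

/-- Piece P5 of S3396, verbatim. -/
theorem exists_mem_card_four [IsSimpleGroup G] (ctx : Ctx G)
    (hnTI : ∃ P Q : Sylow 2 G, P ≠ Q ∧ (P : Subgroup G) ⊓ (Q : Subgroup G) ≠ ⊥) :
    ∃ M Q : Subgroup G, Mem M Q ∧ Nat.card Q = 4 :=
  exists_mem_card_four_of_pair ctx
    (fun h h' a b c d => Cfsg.Agent.Lib.Helper3.CP.pair_lemma h h' a b c d) hnTI

end Cfsg.Agent.Lib.Helper1.CP
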