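import Mathlib
import Cfsg.Agent.Lib.Helper8.CTTDefs

/-!
# Farm CTT (S3246), unit U2: if every maximal 2-local is 2-constrained with trivial odd core, then every
involution centralizer lies in a subgroup `H` carrying a self-centralizing normal 2-subgroup.
-/

set_option autoImplicit false

namespace Cfsg.Agent.Lib.Helper1.CTTU2

open Cfsg Cfsg.Agent.Lib.Helper7 Cfsg.Agent.Lib.Helper8.CTT

/-- Every 2-local lies in a maximal 2-local (finite group). -/
theorem exists_maximalTwoLocal_ge {G : Type*} [Group G] [Finite G] (N₀ : Subgroup G)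
    (hN₀ : Cfsg.IsTwoLocal N₀) : ∃ M : Subgroup G, Cfsg.IsMaximalTwoLocal M ∧ N₀ ≤ M := by
  have hfin : Finite (Subgroup G) := inferInstance
  obtain ⟨M, hM⟩ := Set.Finite.exists_maximal (s := {N : Subgroup G | Cfsg.IsTwoLocal N ∧ N₀ ≤ N})
    (Set.toFinite _) ⟨N₀, hN₀, le_refl _⟩
  refine ⟨M, ⟨hM.1.1, ?_⟩, hM.1.2⟩
  intro N hN hMN
  exact le_antisymm (hM.2 ⟨hN, le_trans hM.1.2 hMN⟩ hMN) hMN

/-- UNIT U2. -/
theorem hyp_of_maximal {G : Type*} [Group G] [Finite G]
    (h : ∀ M : Subgroup G, Cfsg.IsMaximalTwoLocal M →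
      Cfsg.IsPConstrained 2 ↥M ∧ Cfsg.oddCore ↥M = ⊥) : Hyp G := by
  intro e he
  have hT2 : IsPGroup 2 ↥(Subgroup.zpowers e) := by
    apply IsPGroup.of_card (n := 1)
    rw [Nat.card_zpowers, he, pow_one]
  have hTne : Subgroup.zpowers e ≠ ⊥ := by
    intro hb
    have : e = 1 := by
      rw [← Subgroup.zpowers_eq_bot]; exact hb
    rw [this, orderOf_one] at he
    omega
  have hloc : Cfsg.IsTwoLocal (Subgroup.normalizer ((Subgroup.zpowers e : Subgroup G) : Set G)) :=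
    ⟨Subgroup.zpowers e, hT2, hTne, rfl⟩
  obtain ⟨M, hM, hNM⟩ := exists_maximalTwoLocal_ge _ hloc
  obtain ⟨hc, hO⟩ := h M hM
  refine ⟨M, pCoreIn 2 M, ?_, cons_of_constrained M hc hO⟩
  refine le_trans ?_ hNM
  refine le_trans ?_ (Subgroup.centralizer_le_normalizer _)
  rw [Subgroup.le_centralizer_iff, Subgroup.zpowers_le]
  intro g hg
  exact (Subgroup.mem_centralizer_singleton_iff.mp hg)

end Cfsg.Agent.Lib.Helper1.CTTU2
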