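import Mathlib
import Cfsg.Agent.Lib.Helper8.CTTDefs
import Cfsg.Agent.Lib.Helper1.Nilpotent

/-!
# Farm CTT (S3246), unit U3b: a central involution `z` of `S` in `E` and a second element `e` of `E`
that is central modulo `z`.
-/

set_option autoImplicit false

namespace Cfsg.Agent.Lib.Helper1.CTTU3b

theorem mem_zpowers_of_sq {H : Type*} [Group H] (z x : H) (hz : z * z = 1)
    (hx : x ∈ Subgroup.zpowers z) : x = 1 ∨ x = z := by
  obtain ⟨k, rfl⟩ := Subgroup.mem_zpowers_iff.mp hx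
  rcases Int.even_or_odd' k with ⟨m, rfl | rfl⟩
  · left
    rw [zpow_mul, zpow_two, hz, one_zpow]
  · right
    rw [zpow_add, zpow_mul, zpow_two, hz, one_zpow, one_mul, zpow_one]

theorem exists_ne_ne {G : Type*} [Group G] (E : Subgroup G) (z : G) (hcard : 2 < Nat.card ↥E) :
    ∃ x ∈ E, x ≠ 1 ∧ x ≠ z := by
  by_contra hcon
  push Not at hcon
  have hsub : (E : Set G) ⊆ {1, z} := by
    intro x hx
    by_cases h1 : x = 1
    · left; exact h1
    · right; exact hcon x hx h1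
  have h2 : (E : Set G).ncard ≤ 2 := by
    calc (E : Set G).ncard ≤ ({1, z} : Set G).ncard :=
          Set.ncard_le_ncard hsub ((Set.finite_singleton z).insert 1)
      _ ≤ ({z} : Set G).ncard + 1 := Set.ncard_insert_le _ _
      _ = 2 := by rw [Set.ncard_singleton]
  have h3 : Nat.card ↥E = (E : Set G).ncard := (Nat.card_coe_set_eq _)
  omega

/-- UNIT U3b. -/
theorem exists_z_e {G : Type*} [Group G] [Finite G] (S : Sylow 2 G) (E : Subgroup G)
    (hES : E ≤ (S : Subgroup G)) (hSE : (S : Subgroup G) ≤ Subgroup.normalizer (E : Set G))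
    (hE2 : ∀ a ∈ E, a ^ 2 = 1) (hEc : ∀ a ∈ E, ∀ b ∈ E, a * b = b * a) (hcard : 4 < Nat.card ↥E) :
    ∃ z e : G, z ∈ E ∧ e ∈ E ∧ z ≠ 1 ∧ e ≠ 1 ∧ e ≠ z ∧ (∀ s ∈ (S : Subgroup G), s * z * s⁻¹ = z) ∧
      (∀ s ∈ (S : Subgroup G), s * e * s⁻¹ = e ∨ s * e * s⁻¹ = e * z) := by
  classical
  have hSp : IsPGroup 2 ↥(S : Subgroup G) := S.isPGroup'
  have : Fact (Nat.Prime 2) := ⟨Nat.prime_two⟩
  have hnil : Group.IsNilpotent ↥(S : Subgroup G) := hSp.isNilpotent
  let E' : Subgroup ↥(S : Subgroup G) := E.subgroupOf S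
  have hE'n : E'.Normal := by
    constructor
    intro n hn g
    rw [Subgroup.mem_subgroupOf] at hn ⊢
    exact (Subgroup.mem_normalizer_iff.mp (hSE g.2) n).mp hn
  obtain ⟨x0, hx0E, hx01, -⟩ := exists_ne_ne E 1 (by omega)
  have hE'bot : E' ≠ ⊥ := by
    intro h
    have hm : (⟨x0, hES hx0E⟩ : ↥(S : Subgroup G)) ∈ E' := by
      rw [Subgroup.mem_subgroupOf]; exact hx0E
    rw [h, Subgroup.mem_bot] at hm
    exact hx01 (congrArg Subtype.val hm)
  have h1 := normal_inf_center_ne_bot E' hE'bot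
  obtain ⟨z', hz'mem, hz'ne⟩ : ∃ z' ∈ E' ⊓ Subgroup.center ↥(S : Subgroup G), z' ≠ 1 := by
    by_contra hcon
    push Not at hcon
    exact h1 ((Subgroup.eq_bot_iff_forall _).mpr hcon)
  have hz'E : (z' : G) ∈ E := Subgroup.mem_subgroupOf.mp hz'mem.1
  have hz'c : ∀ g : ↥(S : Subgroup G), g * z' = z' * g := Subgroup.mem_center_iff.mp hz'mem.2
  have hz'2 : z' * z' = 1 := by
    apply Subtype.ext
    have := hE2 _ hz'E
    rw [pow_two] at this
    exact this
  have hzne : (z' : G) ≠ 1 := fun h => hz'ne (Subtype.ext h)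
  let N : Subgroup ↥(S : Subgroup G) := Subgroup.zpowers z'
  have hNc : N ≤ Subgroup.center ↥(S : Subgroup G) := Subgroup.zpowers_le.mpr hz'mem.2
  have hNn : N.Normal := by
    constructor
    intro n hn g
    have := Subgroup.mem_center_iff.mp (hNc hn) g
    have h2 : g * n * g⁻¹ = n := by rw [this]; group
    rw [h2]; exact hn
  have hNmem : ∀ x : ↥(S : Subgroup G), x ∈ N → x = 1 ∨ x = z' :=
    fun x hx => mem_zpowers_of_sq z' x hz'2 hx
  have : Group.IsNilpotent (↥(S : Subgroup G) ⧸ N) := (hSp.to_quotient N).isNilpotent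
  let Eb : Subgroup (↥(S : Subgroup G) ⧸ N) := E'.map (QuotientGroup.mk' N)
  have hEbn : Eb.Normal := Subgroup.Normal.map hE'n (QuotientGroup.mk' N) (QuotientGroup.mk'_surjective N)
  obtain ⟨x1, hx1E, hx11, hx1z⟩ := exists_ne_ne E (z' : G) (by omega)
  have hEbbot : Eb ≠ ⊥ := by
    intro h
    have hm : QuotientGroup.mk' N (⟨x1, hES hx1E⟩ : ↥(S : Subgroup G)) ∈ Eb :=
      Subgroup.mem_map_of_mem _ (by rw [Subgroup.mem_subgroupOf]; exact hx1E)
    rw [h, Subgroup.mem_bot] at hm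
    have hm2 : (⟨x1, hES hx1E⟩ : ↥(S : Subgroup G)) ∈ N := (QuotientGroup.eq_one_iff _).mp hm
    rcases hNmem _ hm2 with h | h
    · exact hx11 (congrArg Subtype.val h)
    · exact hx1z (congrArg Subtype.val h)
  have h2 := normal_inf_center_ne_bot Eb hEbbot
  obtain ⟨eb, hebmem, hebne⟩ : ∃ eb ∈ Eb ⊓ Subgroup.center (↥(S : Subgroup G) ⧸ N), eb ≠ 1 := by
    by_contra hcon
    push Not at hcon
    exact h2 ((Subgroup.eq_bot_iff_forall _).mpr hcon)
  obtain ⟨e', he'E, rfl⟩ := Subgroup.mem_map.mp hebmem.1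
  have he'E2 : (e' : G) ∈ E := Subgroup.mem_subgroupOf.mp he'E
  have he'N : e' ∉ N := fun h => hebne ((QuotientGroup.eq_one_iff _).mpr h)
  refine ⟨(z' : G), (e' : G), hz'E, he'E2, hzne, ?_, ?_, ?_, ?_⟩
  · intro h
    apply he'N
    have : e' = 1 := Subtype.ext h
    rw [this]; exact N.one_mem
  · intro h
    apply he'N
    have : e' = z' := Subtype.ext h
    rw [this]; exact Subgroup.mem_zpowers z'
  · intro s hs
    have := congrArg Subtype.val (hz'c ⟨s, hs⟩)
    simp only [Subgroup.coe_mul] at this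
    rw [this]; group
  · intro s hs
    have hc := Subgroup.mem_center_iff.mp hebmem.2 (QuotientGroup.mk' N ⟨s, hs⟩)
    have hmem : (⟨s, hs⟩ : ↥(S : Subgroup G)) * e' * (⟨s, hs⟩ : ↥(S : Subgroup G))⁻¹ * e'⁻¹ ∈ N := by
      rw [← QuotientGroup.eq_one_iff]
      have : ((( (⟨s, hs⟩ : ↥(S : Subgroup G)) * e' * (⟨s, hs⟩ : ↥(S : Subgroup G))⁻¹ * e'⁻¹ : ↥(S : Subgroup G)) : ↥(S : Subgroup G) ⧸ N))
          = QuotientGroup.mk' N ⟨s, hs⟩ * QuotientGroup.mk' N e' * (QuotientGroup.mk' N ⟨s, hs⟩)⁻¹ * (QuotientGroup.mk' N e')⁻¹ := by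
        simp
      rw [this, hc]; group
    rcases hNmem _ hmem with h | h
    · left
      have := congrArg Subtype.val h
      simp only [Subgroup.coe_mul, Subgroup.coe_inv, Subgroup.coe_one] at this
      exact mul_inv_eq_one.mp this
    · right
      have := congrArg Subtype.val h
      simp only [Subgroup.coe_mul, Subgroup.coe_inv] at this
      have h3 : s * (e' : G) * s⁻¹ = (z' : G) * (e' : G) := mul_inv_eq_iff_eq_mul.mp this
      rw [h3]
      exact hEc _ hz'E _ he'E2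

end Cfsg.Agent.Lib.Helper1.CTTU3b
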