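import Mathlib
import Cfsg.Agent.Lib.Helper8.CTTDefs

/-!
# Farm CTT (S3246), unit U6: a group acted on by a four-group of fixed-point-free involutions is trivial.
-/

set_option autoImplicit false

namespace Cfsg.Agent.Lib.Helper1.CTTU6

/-- A fixed-point-free involution normalizing a finite subgroup inverts it. -/
theorem inverts_of_fpf {G : Type*} [Group G] [Finite G] (X : Subgroup G) (a : G) (ha : a * a = 1)
    (haX : a ∈ Subgroup.normalizer (X : Set G))
    (ha1 : ∀ x ∈ X, x * a = a * x → x = 1) : ∀ x ∈ X, a * x * a⁻¹ = x⁻¹ := by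
  classical
  have hconj : ∀ x ∈ X, a * x * a⁻¹ ∈ X := fun x hx => (Subgroup.mem_normalizer_iff.mp haX x).mp hx
  let f : X → X := fun x => ⟨(x : G)⁻¹ * (a * x * a⁻¹), X.mul_mem (X.inv_mem x.2) (hconj x x.2)⟩
  have hinj : Function.Injective f := by
    intro x y hxy
    have h1 : (x : G)⁻¹ * (a * x * a⁻¹) = (y : G)⁻¹ * (a * y * a⁻¹) := congrArg Subtype.val hxy
    have h3 : (x : G)⁻¹ * a * x = (y : G)⁻¹ * a * y := by
      have := congrArg (· * a) h1
      simpa [mul_assoc] using this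
    have h2 : ((y : G) * (x : G)⁻¹) * a = a * ((y : G) * (x : G)⁻¹) := by
      calc (y : G) * (x:G)⁻¹ * a = y * ((x:G)⁻¹ * a * x) * (x:G)⁻¹ := by group
        _ = y * ((y:G)⁻¹ * a * y) * (x:G)⁻¹ := by rw [h3]
        _ = a * (y * (x:G)⁻¹) := by group
    have h4 := ha1 _ (X.mul_mem y.2 (X.inv_mem x.2)) h2
    have h5 : (y : G) = x := mul_inv_eq_one.mp h4
    exact Subtype.ext h5.symm
  have hsurj : Function.Surjective f := Finite.surjective_of_injective hinj
  intro x hx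
  obtain ⟨w, hw⟩ := hsurj ⟨x, hx⟩
  have hw' : (w : G)⁻¹ * (a * w * a⁻¹) = x := congrArg Subtype.val hw
  rw [← hw']
  have e1 : a * ((w : G)⁻¹ * (a * w * a⁻¹)) * a⁻¹
      = (a * (w : G)⁻¹ * a⁻¹) * (a * a) * w * (a * a)⁻¹ := by group
  have e2 : ((w : G)⁻¹ * (a * w * a⁻¹))⁻¹ = a * (w : G)⁻¹ * a⁻¹ * w := by group
  rw [e1, e2, ha]
  simp

/-- UNIT U6. -/
theorem eq_bot_of_fpf {G : Type*} [Group G] [Finite G] (X : Subgroup G) (hX : Odd (Nat.card ↥X))
    (z e : G) (hz : orderOf z = 2) (he : orderOf e = 2) (hez : orderOf (e * z) = 2)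
    (hzX : z ∈ Subgroup.normalizer (X : Set G)) (heX : e ∈ Subgroup.normalizer (X : Set G))
    (hz1 : ∀ x ∈ X, x * z = z * x → x = 1) (he1 : ∀ x ∈ X, x * e = e * x → x = 1)
    (hez1 : ∀ x ∈ X, x * (e * z) = (e * z) * x → x = 1) : X = ⊥ := by
  have hzz : z * z = 1 := by
    have := pow_orderOf_eq_one z
    rw [hz, pow_two] at this
    exact this
  have hee : e * e = 1 := by
    have := pow_orderOf_eq_one e
    rw [he, pow_two] at this
    exact this
  have Iz := inverts_of_fpf X z hzz hzX hz1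
  have Ie := inverts_of_fpf X e hee heX he1
  rw [Subgroup.eq_bot_iff_forall]
  intro x hx
  apply hez1 x hx
  have h1 : z * x * z⁻¹ = x⁻¹ := Iz x hx
  have h2 : e * x⁻¹ * e⁻¹ = x⁻¹⁻¹ := Ie x⁻¹ (X.inv_mem hx)
  rw [inv_inv] at h2
  have h3 : (e * z) * x * (e * z)⁻¹ = x := by
    calc (e * z) * x * (e * z)⁻¹ = e * (z * x * z⁻¹) * e⁻¹ := by group
      _ = x := by rw [h1, h2]
  calc x * (e * z) = ((e * z) * x * (e * z)⁻¹) * (e * z) := by rw [h3]
    _ = (e * z) * x := by group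

end Cfsg.Agent.Lib.Helper1.CTTU6
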