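import Mathlib
import Cfsg.Agent.Lib.Helper1.CX2
import Cfsg.Agent.Lib.Helper1.Coprime

/-! Generation by fixed points and a Sylow subgroup. -/
set_option autoImplicit false
universe u
open Cfsg
open scoped commutatorElement Pointwise

namespace Cfsg.Agent.Lib.Helper1.CX
open Cfsg.Agent.Lib.Helper1.FF

variable {G : Type u} [Group G]

namespace Ops

variable {p : ℕ} {V H Q : Subgroup G} {s : Setup p V H Q} {A : Subgroup G}

/-- a subgroup containing a transvection group and all fixed points contains the component -/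
theorem E_le_of_fixed [Finite G] [hp : Fact p.Prime] (h : s.IsTrH A) {q : ℕ}
    [hq : Fact q.Prime] (Y : Subgroup G) (hYq : IsPGroup q Y)
    (hYc : ∀ a ∈ Y, ∀ b ∈ Y, a * b = b * a)
    (hYV : Y ≤ Subgroup.normalizer (V : Set G)) (hYH : Y ≤ Subgroup.normalizer (H : Set G))
    (hYQ : Y ≤ Subgroup.normalizer (Q : Set G))
    (h1 : ¬ q ∣ p ^ 2 - 1) (h2 : ¬ q ∣ p ^ 2 - p) {M : Subgroup G} (hAM : A ≤ M)
    (hfixM : H ⊓ Subgroup.centralizer (Y : Set G) ≤ M) : ⁅Q, A⁆ ⊔ A ≤ M := by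
  obtain ⟨ν, hfix, hform⟩ := exists_diag_component h Y hYq hYc hYV hYH hYQ h1 h2
  have hEL : ⁅Q, A⁆ ⊔ A ≤ ⁅V, ⁅Q, A⁆ ⊔ A⁆ ⊔ (⁅Q, A⁆ ⊔ A) := le_sup_right
  have hcomm : ⁅A, ⁅Q, A⁆ ⊔ A⁆ ≤ M := by
    rw [Subgroup.commutator_le]
    intro a ha e he
    obtain ⟨r, hr, hrc, hP⟩ := hform ⟨e, hEL he⟩
    have hνM : ν ⟨e, hEL he⟩ ∈ M := by
      apply hfixM
      refine Subgroup.mem_inf.mpr ⟨?_, ?_⟩
      · rw [hr]
        exact H.mul_mem (h.E_le_H he) (hP H hYH (h.E_le_H he))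
      · rw [Subgroup.mem_centralizer_iff]
        intro y hy
        exact hfix _ y hy
    have hra := Subgroup.mem_centralizer_iff.mp hrc a (hEL ((le_sup_right : A ≤ ⁅Q, A⁆ ⊔ A) ha))
    have hre := Subgroup.mem_centralizer_iff.mp hrc e (hEL he)
    have key : ⁅a, e⁆ = ⁅a, ν ⟨e, hEL he⟩⁆ := by
      rw [hr, commutatorElement_def, commutatorElement_def]
      simp only
      calc a * e * a⁻¹ * e⁻¹ = a * e * (r * a⁻¹ * r⁻¹) * e⁻¹ := by
            have : r * a⁻¹ * r⁻¹ = a⁻¹ := by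
              calc r * a⁻¹ * r⁻¹ = a⁻¹ * (a * r) * a⁻¹ * r⁻¹ := by group
                _ = a⁻¹ * (r * a) * a⁻¹ * r⁻¹ := by rw [hra]
                _ = a⁻¹ * r * r⁻¹ := by group
                _ = a⁻¹ := by group
            rw [this]
        _ = a * (e * r) * a⁻¹ * (e * r)⁻¹ := by group
    rw [key]
    exact M.mul_mem (M.mul_mem (M.mul_mem (hAM ha) hνM) (M.inv_mem (hAM ha))) (M.inv_mem hνM)
  have hAQ : A ≤ Subgroup.normalizer (Q : Set G) := h.hAH.trans s.hHQ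
  have hcop : (Nat.card A).Coprime (Nat.card Q) := by
    rw [h.hcard]
    exact ((Nat.Prime.coprime_iff_not_dvd hp.out).mpr
      (fun hd => by
        have := Nat.Coprime.symm s.hQ
        rw [Nat.Prime.coprime_iff_not_dvd hp.out] at this
        exact this hd))
  have hsolv : Group.IsSolvable A := by
    have hpg : IsPGroup p A := IsPGroup.of_card (n := 1) (by rw [h.hcard, pow_one])
    have := hpg.isNilpotent
    infer_instance
  have hQA := Cfsg.Agent.Lib.Helper1.coprime_commutator_commutator A Q hAQ hcop (Or.inl hsolv)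
  apply sup_le _ hAM
  rw [← hQA]
  refine le_trans ?_ hcomm
  rw [Subgroup.commutator_comm]
  exact Subgroup.commutator_mono le_rfl le_sup_left

theorem le_normalizer_iSup {ι : Sort*} (f : ι → Subgroup G) (K : Subgroup G)
    (hf : ∀ i, K ≤ Subgroup.normalizer ((f i : Subgroup G) : Set G)) :
    K ≤ Subgroup.normalizer ((⨆ i, f i : Subgroup G) : Set G) := by
  apply Cfsg.Agent.Lib.Helper1.le_normalizer_of_conj_mem
  intro k hk x hx
  have h1 : (⨆ i, f i).map (MulAut.conj k).toMonoidHom ≤ ⨆ i, f i := by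
    rw [Subgroup.map_iSup]
    apply iSup_le
    intro i
    refine le_trans ?_ (le_iSup f i)
    rintro _ ⟨z, hz, rfl⟩
    exact (Subgroup.mem_normalizer_iff.mp (hf i hk) z).mp hz
  exact h1 ⟨x, hx, rfl⟩

/-- generation: `H` lies in any subgroup containing the fixed points and a subgroup `P` whose
best offenders generate `H` up to `H`-conjugacy -/
theorem H_le_of_generation [Finite G] [hp : Fact p.Prime] (s : Setup p V H Q)
    (hS3 : H = ⨆ A : {A : Subgroup G // A ≤ H ∧ IsBestOffenderOn p V A}, (A : Subgroup G))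
    {q : ℕ} [hq : Fact q.Prime] (Y : Subgroup G) (hYq : IsPGroup q Y)
    (hYc : ∀ a ∈ Y, ∀ b ∈ Y, a * b = b * a)
    (hYV : Y ≤ Subgroup.normalizer (V : Set G)) (hYH : Y ≤ Subgroup.normalizer (H : Set G))
    (hYQ : Y ≤ Subgroup.normalizer (Q : Set G))
    (h1 : ¬ q ∣ p ^ 2 - 1) (h2 : ¬ q ∣ p ^ 2 - p) {M P P₀ : Subgroup G} (hPM : P ≤ M)
    (hfixM : H ⊓ Subgroup.centralizer (Y : Set G) ≤ M)
    (hP₀ : P₀ ≤ ⨆ A : {A : Subgroup G // A ≤ H ∧ A ≤ P ∧ IsBestOffenderOn p V A},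
      (A : Subgroup G))
    (hgen : H ≤ ⨆ h : ↥H, P₀.map (MulAut.conj (h : G)).toMonoidHom) : H ≤ M := by
  obtain ⟨T₀, hT₀⟩ : ∃ T₀ : Subgroup G,
    T₀ = ⨆ B : {B : Subgroup G // s.IsTrH B ∧ B ≤ P}, (⁅Q, (B : Subgroup G)⁆ ⊔ B) := ⟨_, rfl⟩
  have hT₀M : T₀ ≤ M := by
    rw [hT₀]
    apply iSup_le
    rintro ⟨B, hB, hBP⟩
    exact E_le_of_fixed hB Y hYq hYc hYV hYH hYQ h1 h2 (hBP.trans hPM) hfixM
  have hHT₀ : H ≤ Subgroup.normalizer (T₀ : Set G) := by
    rw [hT₀]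
    apply le_normalizer_iSup
    rintro ⟨B, hB, -⟩
    exact hB.H_le_normalizer_E hS3
  have hP₀T : P₀ ≤ T₀ := by
    refine hP₀.trans (iSup_le ?_)
    rintro ⟨A, hAH, hAP, hA⟩
    change A ≤ T₀
    by_cases hA1 : A = ⊥
    · rw [hA1]; exact bot_le
    · obtain ⟨k, B, hB, -, hsup⟩ := s.exists_decomp hAH hA hA1
      rw [← hsup]
      apply iSup_le
      intro i
      obtain ⟨hi1, hi2, hi3, hi4⟩ := hB i
      have hBi : s.IsTrH (B i) := s.isTrH_of_minimal (hi1.trans hAH) hi2 hi3 hi4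
      rw [hT₀]
      refine le_trans ?_ (le_iSup (fun B : {B : Subgroup G // s.IsTrH B ∧ B ≤ P} =>
        (⁅Q, (B : Subgroup G)⁆ ⊔ B)) ⟨B i, hBi, hi1.trans hAP⟩)
      exact le_sup_right
  refine le_trans ?_ hT₀M
  refine hgen.trans (iSup_le ?_)
  intro h
  rintro _ ⟨x, hx, rfl⟩
  exact (Subgroup.mem_normalizer_iff.mp (hHT₀ h.2) x).mp (hP₀T hx)

end Ops

end Cfsg.Agent.Lib.Helper1.CX
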