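import Mathlib
import Cfsg.Prelude.Def_PLocal
import Cfsg.Agent.Lib.Helper1.ZJ11

set_option autoImplicit false
set_option linter.style.haveILetI false
set_option linter.unusedSectionVars false
set_option linter.unusedVariables false

/-! Group-theoretic preliminaries for the Kessar–Linckelmann reduction: isomorphism invariance of
`Z(J(P))` without finiteness of the ambient group, product decompositions, powers of
automorphisms. -/

namespace Cfsg.Agent.Lib.Helper1.KL

open Cfsg

section typeLevel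

variable {A : Type*} [Group A] {B : Type*} [Group B]

theorem comm_iff (H : Subgroup A) : IsMulCommutative ↥H ↔ ∀ x ∈ H, ∀ y ∈ H, x * y = y * x := by
  constructor
  · intro h x hx y hy
    exact congrArg Subtype.val (mul_comm' (⟨x, hx⟩ : H) ⟨y, hy⟩)
  · intro h
    exact ⟨⟨fun a b => Subtype.ext (h a a.2 b b.2)⟩⟩

theorem comm_map_iff (e : A ≃* B) (H : Subgroup A) :
    IsMulCommutative ↥(H.map e.toMonoidHom) ↔ IsMulCommutative ↥H := by
  rw [comm_iff, comm_iff]
  constructor
  · intro h x hx y hy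
    apply e.injective
    rw [map_mul, map_mul]
    exact h _ (Subgroup.mem_map_of_mem e.toMonoidHom hx) _ (Subgroup.mem_map_of_mem e.toMonoidHom hy)
  · intro h a ha b hb
    obtain ⟨x, hx, rfl⟩ := Subgroup.mem_map.mp ha
    obtain ⟨y, hy, rfl⟩ := Subgroup.mem_map.mp hb
    show e x * e y = e y * e x
    rw [← map_mul, ← map_mul, h x hx y hy]

theorem card_map_equiv (e : A ≃* B) (H : Subgroup A) :
    Nat.card ↥(H.map e.toMonoidHom) = Nat.card ↥H :=
  Subgroup.card_map_of_injective e.injective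

theorem map_comap_equiv (e : A ≃* B) (K : Subgroup B) :
    (K.comap e.toMonoidHom).map e.toMonoidHom = K :=
  Subgroup.map_comap_eq_self_of_surjective e.surjective K

theorem maxAb_map_iff (e : A ≃* B) (H : Subgroup A) :
    H.map e.toMonoidHom ∈ maxAbelianSubgroups B ↔ H ∈ maxAbelianSubgroups A := by
  constructor
  · rintro ⟨hc, hmax⟩
    refine ⟨(comm_map_iff e H).mp hc, fun H' hH' => ?_⟩
    have := hmax (H'.map e.toMonoidHom) ((comm_map_iff e H').mpr hH')
    rwa [card_map_equiv, card_map_equiv] at this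
  · rintro ⟨hc, hmax⟩
    refine ⟨(comm_map_iff e H).mpr hc, fun K hK => ?_⟩
    have hK' : IsMulCommutative ↥(K.comap e.toMonoidHom) := by
      apply (comm_map_iff e _).mp
      rw [map_comap_equiv]
      exact hK
    have h1 := hmax _ hK'
    rw [card_map_equiv]
    calc Nat.card ↥K = Nat.card ↥((K.comap e.toMonoidHom).map e.toMonoidHom) := by
          rw [map_comap_equiv]
      _ = Nat.card ↥(K.comap e.toMonoidHom) := card_map_equiv e _
      _ ≤ _ := h1

theorem thompsonA_map (e : A ≃* B) :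
    thompsonSubgroupA B = (thompsonSubgroupA A).map e.toMonoidHom := by
  unfold thompsonSubgroupA
  apply le_antisymm
  · apply sSup_le
    intro K hK
    have h1 : K.comap e.toMonoidHom ∈ maxAbelianSubgroups A := by
      apply (maxAb_map_iff e _).mp
      rw [map_comap_equiv]
      exact hK
    have h2 := Subgroup.map_mono (f := e.toMonoidHom) (le_sSup h1)
    rwa [map_comap_equiv] at h2
  · rw [Subgroup.map_le_iff_le_comap]
    apply sSup_le
    intro H hH
    rw [← Subgroup.map_le_iff_le_comap]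
    exact le_sSup ((maxAb_map_iff e H).mpr hH)

theorem centralizer_map (e : A ≃* B) (J : Subgroup A) :
    (Subgroup.centralizer (J : Set A)).map e.toMonoidHom =
      Subgroup.centralizer ((J.map e.toMonoidHom : Subgroup B) : Set B) := by
  ext y
  constructor
  · rintro ⟨c, hc, rfl⟩
    rw [Subgroup.mem_centralizer_iff]
    intro z hz
    obtain ⟨j, hj, rfl⟩ := Subgroup.mem_map.mp hz
    show e j * e c = e c * e j
    rw [← map_mul, ← map_mul, Subgroup.mem_centralizer_iff.mp hc j hj]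
  · intro hy
    refine ⟨e.symm y, ?_, by simp⟩
    refine Subgroup.mem_centralizer_iff.mpr ?_
    intro j hj
    apply e.injective
    rw [map_mul, map_mul, MulEquiv.apply_symm_apply]
    exact Subgroup.mem_centralizer_iff.mp hy (e j) (Subgroup.mem_map_of_mem e.toMonoidHom hj)

/-- type-level `Z(J(A))` -/
def cT (A : Type*) [Group A] : Subgroup A :=
  thompsonSubgroupA A ⊓ Subgroup.centralizer (thompsonSubgroupA A : Set A)

theorem cT_map (e : A ≃* B) : cT B = (cT A).map e.toMonoidHom := by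
  unfold cT
  rw [Subgroup.map_inf _ _ _ e.injective, centralizer_map, ← thompsonA_map]

end typeLevel

section subgroupLevel

variable {G : Type*} [Group G] {G' : Type*} [Group G']

theorem centerThompsonAOf_eq_map (P : Subgroup G) :
    centerThompsonAOf P = (cT ↥P).map P.subtype := by
  unfold centerThompsonAOf thompsonSubgroupAOf cT
  ext x
  constructor
  · rintro ⟨⟨j, hj, rfl⟩, hc⟩
    refine ⟨j, ⟨hj, ?_⟩, rfl⟩
    refine Subgroup.mem_centralizer_iff.mpr ?_
    intro h hh
    apply Subtype.ext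
    exact Subgroup.mem_centralizer_iff.mp hc (h : G) ⟨h, hh, rfl⟩
  · rintro ⟨j, ⟨hj, hcj⟩, rfl⟩
    refine ⟨⟨j, hj, rfl⟩, ?_⟩
    refine Subgroup.mem_centralizer_iff.mpr ?_
    intro y hy
    obtain ⟨h, hh, rfl⟩ := Subgroup.mem_map.mp hy
    exact congrArg Subtype.val (Subgroup.mem_centralizer_iff.mp hcj h hh)

/-- `Z(J(·))` is invariant under isomorphisms of subgroups, also between different ambient
groups. -/
theorem mem_centerThompsonAOf_iff_of_equiv {P : Subgroup G} {P' : Subgroup G'} (e : ↥P ≃* ↥P')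
    (x : ↥P) :
    (x : G) ∈ centerThompsonAOf P ↔ ((e x : ↥P') : G') ∈ centerThompsonAOf P' := by
  rw [centerThompsonAOf_eq_map, centerThompsonAOf_eq_map, cT_map e]
  have h1 : (x : G) ∈ (cT ↥P).map P.subtype ↔ x ∈ cT ↥P :=
    Subgroup.mem_map_iff_mem P.subtype_injective
  have h2 : ((e x : ↥P') : G') ∈ ((cT ↥P).map e.toMonoidHom).map P'.subtype ↔
      e x ∈ (cT ↥P).map e.toMonoidHom := Subgroup.mem_map_iff_mem P'.subtype_injective
  have h3 : e x ∈ (cT ↥P).map e.toMonoidHom ↔ x ∈ cT ↥P :=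
    Subgroup.mem_map_iff_mem (f := e.toMonoidHom) e.injective
  rw [h1, h2, h3]

theorem centerThompsonAOf_le' (P : Subgroup G) : centerThompsonAOf P ≤ P := by
  rw [centerThompsonAOf_eq_map]
  exact Subgroup.map_subtype_le _

theorem centerThompsonAOf_ne_bot' {P : Subgroup G} [Finite P] {p : ℕ} [Fact p.Prime]
    (hP : IsPGroup p P) (hne : P ≠ ⊥) : centerThompsonAOf P ≠ ⊥ := by
  intro hbot
  haveI : Nontrivial ↥P := (Subgroup.nontrivial_iff_ne_bot P).mpr hne
  have h1 : centerThompsonAOf (⊤ : Subgroup ↥P) ≠ ⊥ :=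
    Cfsg.Agent.Lib.Helper1.ZJ.centerThompsonAOf_ne_bot (hP.to_subgroup ⊤) top_ne_bot
  apply h1
  rw [eq_bot_iff]
  intro y hy
  have hy' : y ∈ (⊤ : Subgroup ↥P) := Subgroup.mem_top y
  have h2 := (mem_centerThompsonAOf_iff_of_equiv
    (Subgroup.topEquiv : ↥(⊤ : Subgroup ↥P) ≃* ↥P) ⟨y, hy'⟩).mp hy
  rw [hbot, Subgroup.mem_bot] at h2
  rw [Subgroup.mem_bot]
  apply Subtype.ext
  exact h2

/-- the conjugation automorphism of `P` by an element normalizing it -/
def conjEquiv (P : Subgroup G) (n : G) (hn : n ∈ Subgroup.normalizer (P : Set G)) : ↥P ≃* ↥P where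
  toFun x := ⟨n * x * n⁻¹, (Subgroup.mem_normalizer_iff.mp hn x).mp x.2⟩
  invFun x := ⟨n⁻¹ * x * n, by
    apply (Subgroup.mem_normalizer_iff.mp hn (n⁻¹ * x * n)).mpr
    have : n * (n⁻¹ * (x : G) * n) * n⁻¹ = x := by group
    rw [this]
    exact x.2⟩
  left_inv x := by
    apply Subtype.ext
    show n⁻¹ * (n * (x : G) * n⁻¹) * n = x
    group
  right_inv x := by
    apply Subtype.ext
    show n * (n⁻¹ * (x : G) * n) * n⁻¹ = x
    group
  map_mul' x y := by
    apply Subtype.ext
    show n * ((x : G) * y) * n⁻¹ = n * x * n⁻¹ * (n * y * n⁻¹)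
    group

theorem conj_mem_centerThompsonAOf {P : Subgroup G} {n : G}
    (hn : n ∈ Subgroup.normalizer (P : Set G)) {x : G} (hx : x ∈ centerThompsonAOf P) :
    n * x * n⁻¹ ∈ centerThompsonAOf P := by
  have hxP : x ∈ P := centerThompsonAOf_le' P hx
  exact (mem_centerThompsonAOf_iff_of_equiv (conjEquiv P n hn) ⟨x, hxP⟩).mp hx

/-- the isomorphism onto the range of an injective homomorphism from a subgroup -/
noncomputable def equivRange {P : Subgroup G} {P' : Subgroup G'} (φ : ↥P →* G')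
    (hinj : Function.Injective φ) (hr : φ.range = P') : ↥P ≃* ↥P' :=
  MulEquiv.ofBijective (φ.codRestrict P' (fun x => hr.le ⟨x, rfl⟩))
    ⟨fun a b hab => hinj (congrArg Subtype.val hab), fun y => by
      obtain ⟨x, hx⟩ := hr.ge y.2
      exact ⟨x, Subtype.ext hx⟩⟩

theorem equivRange_apply {P : Subgroup G} {P' : Subgroup G'} (φ : ↥P →* G')
    (hinj : Function.Injective φ) (hr : φ.range = P') (x : ↥P) :
    ((equivRange φ hinj hr x : ↥P') : G') = φ x := rfl

theorem mem_centerThompsonAOf_iff_of_hom {P : Subgroup G} {P' : Subgroup G'} (φ : ↥P →* G')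
    (hinj : Function.Injective φ) (hr : φ.range = P') (x : ↥P) :
    (x : G) ∈ centerThompsonAOf P ↔ φ x ∈ centerThompsonAOf P' :=
  mem_centerThompsonAOf_iff_of_equiv (equivRange φ hinj hr) x

/-- product decomposition in `A ⊔ B` when `A` normalizes `B` -/
theorem sup_decomp {A B : Subgroup G} (h : ∀ a ∈ A, ∀ b ∈ B, a * b * a⁻¹ ∈ B) {x : G}
    (hx : x ∈ A ⊔ B) : ∃ a ∈ A, ∃ b ∈ B, x = a * b := by
  let M : Subgroup G :=
    { carrier := {x | ∃ a ∈ A, ∃ b ∈ B, x = a * b}
      one_mem' := ⟨1, A.one_mem, 1, B.one_mem, by simp⟩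
      mul_mem' := by
        rintro _ _ ⟨a, ha, b, hb, rfl⟩ ⟨a', ha', b', hb', rfl⟩
        refine ⟨a * a', A.mul_mem ha ha', a'⁻¹ * b * a' * b', B.mul_mem ?_ hb', by group⟩
        have := h a'⁻¹ (A.inv_mem ha') b hb
        simpa using this
      inv_mem' := by
        rintro _ ⟨a, ha, b, hb, rfl⟩
        exact ⟨a⁻¹, A.inv_mem ha, a * b⁻¹ * a⁻¹, h a ha b⁻¹ (B.inv_mem hb), by group⟩ }
  have hle : A ⊔ B ≤ M :=
    _root_.sup_le (fun a ha => ⟨a, ha, 1, B.one_mem, by simp⟩)
      (fun b hb => ⟨1, A.one_mem, b, hb, by simp⟩)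
  exact hle hx

theorem pow_conj {Y : Subgroup G} (α : MulAut ↥Y) (t : G)
    (h : ∀ y : Y, ((α y : Y) : G) = t * y * t⁻¹) (n : ℕ) (y : Y) :
    (((α ^ n) y : Y) : G) = t ^ n * y * (t ^ n)⁻¹ := by
  induction n generalizing y with
  | zero => simp
  | succ n ih =>
    rw [pow_succ, MulAut.mul_apply, ih, h, pow_succ]
    group

theorem pow_ext {Y Z : Subgroup G} (hle : Y ≤ Z) (α : MulAut ↥Z) (α₀ : MulAut ↥Y)
    (h : ∀ y : Y, ((α (Subgroup.inclusion hle y) : Z) : G) = ((α₀ y : Y) : G)) (n : ℕ) (y : Y) :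
    (((α ^ n) (Subgroup.inclusion hle y) : Z) : G) = (((α₀ ^ n) y : Y) : G) := by
  induction n generalizing y with
  | zero => simp
  | succ n ih =>
    rw [pow_succ, pow_succ, MulAut.mul_apply, MulAut.mul_apply]
    have h1 : α (Subgroup.inclusion hle y) = Subgroup.inclusion hle (α₀ y) := Subtype.ext (h y)
    rw [h1, ih]

theorem map_eq_of_forall_mem {Y R : Subgroup G} [Finite R] (φ : ↥Y →* G)
    (hinj : Function.Injective φ) (hRY : R ≤ Y) (h : ∀ y : Y, (y : G) ∈ R → φ y ∈ R) :
    (R.subgroupOf Y).map φ = R := by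
  have hle : (R.subgroupOf Y).map φ ≤ R := by
    rintro _ ⟨y, hy, rfl⟩
    exact h y (Subgroup.mem_subgroupOf.mp hy)
  apply Subgroup.eq_of_le_of_card_ge hle
  rw [Subgroup.card_map_of_injective hinj]
  exact le_of_eq (Nat.card_congr (Subgroup.subgroupOfEquivOfLe hRY).toEquiv).symm

end subgroupLevel

end Cfsg.Agent.Lib.Helper1.KL
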