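import Mathlib
import Cfsg.Prelude.Def_FusionSystem
import Cfsg.Prelude.Def_LocalEven
import Cfsg.Agent.Lib.Helper3.UpperPSeries
import Cfsg.Agent.Lib.Helper9.GroupFusionSylow

set_option autoImplicit false

namespace Cfsg.Agent.Lib.Helper1.FStab

open Cfsg Cfsg.FusionSystem Cfsg.Agent.Lib.Helper9
open scoped commutatorElement

variable {G : Type*} [Group G]

/-! ### quadratic action, elementwise -/

theorem commute_comm_of_bot {Q : Subgroup G} {n : G}
    (h : ⁅⁅Q, Subgroup.zpowers n⁆, Subgroup.zpowers n⁆ = ⊥) {a : G} (ha : a ∈ Q) :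
    Commute n ⁅a, n⁆ := by
  have h1 : ⁅a, n⁆ ∈ ⁅Q, Subgroup.zpowers n⁆ :=
    Subgroup.commutator_mem_commutator ha (Subgroup.mem_zpowers n)
  have h2 : ⁅⁅a, n⁆, n⁆ ∈ ⁅⁅Q, Subgroup.zpowers n⁆, Subgroup.zpowers n⁆ :=
    Subgroup.commutator_mem_commutator h1 (Subgroup.mem_zpowers n)
  rw [h, Subgroup.mem_bot, commutatorElement_eq_one_iff_commute] at h2
  exact h2.symm

theorem comm_pow_mem {Q : Subgroup G} {n : G} (h : ∀ a ∈ Q, Commute n ⁅a, n⁆) {a : G} (ha : a ∈ Q)
    (k : ℕ) : ⁅a, n ^ k⁆ ∈ Subgroup.centralizer (Subgroup.zpowers n : Set G) := by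
  have hmem : ∀ w : G, Commute n w → w ∈ Subgroup.centralizer (Subgroup.zpowers n : Set G) := by
    intro w hw
    rw [Subgroup.mem_centralizer_iff]
    rintro _ ⟨j, rfl⟩
    exact (hw.zpow_left j).eq
  induction k with
  | zero =>
    rw [pow_zero]
    have : ⁅a, (1 : G)⁆ = 1 := by simp [commutatorElement_def]
    rw [this]
    exact Subgroup.one_mem _
  | succ k ih =>
    have hk : Commute n ⁅a, n ^ k⁆ := by
      rw [Subgroup.mem_centralizer_iff] at ih
      exact ih n (Subgroup.mem_zpowers n)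
    have key : ⁅a, n ^ (k + 1)⁆ = ⁅a, n⁆ * ⁅a, n ^ k⁆ := by
      have e1 : ⁅a, n ^ (k + 1)⁆ = ⁅a, n⁆ * (n * ⁅a, n ^ k⁆ * n⁻¹) := by
        rw [pow_succ']
        simp only [commutatorElement_def]
        group
      rw [e1, hk.eq]
      group
    rw [key]
    exact Subgroup.mul_mem _ (hmem _ (h a ha)) ih

theorem comm_comm_eq_bot_iff [Finite G] (Q : Subgroup G) (n : G) :
    ⁅⁅Q, Subgroup.zpowers n⁆, Subgroup.zpowers n⁆ = ⊥ ↔ ∀ a ∈ Q, Commute n ⁅a, n⁆ := by
  constructor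
  · intro h a ha
    exact commute_comm_of_bot h ha
  · intro h
    rw [Subgroup.commutator_eq_bot_iff_le_centralizer, Subgroup.commutator_le]
    intro a ha m hm
    rw [← (isOfFinOrder_of_finite n).mem_powers_iff_mem_zpowers, Submonoid.mem_powers_iff] at hm
    obtain ⟨k, rfl⟩ := hm
    exact comm_pow_mem h ha k

/-- The quadratic condition on the automorphism induced by `n`. -/
theorem quad_conjAut_iff (Q : Subgroup G) (n : ↥(Subgroup.normalizer (Q : Set G))) :
    (∀ a : ↥Q, (conjAut Q n a⁻¹) * a * (conjAut Q n a⁻¹) * (conjAut Q n (conjAut Q n a)) = 1) ↔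
      ∀ a ∈ Q, Commute (n : G) ⁅a, (n : G)⁆ := by
  have key : ∀ a : G, (n : G) * a⁻¹ * (n : G)⁻¹ * a * ((n : G) * a⁻¹ * (n : G)⁻¹) *
      ((n : G) * ((n : G) * a * (n : G)⁻¹) * (n : G)⁻¹) =
        (⁅a⁻¹, (n : G)⁆)⁻¹ * ((n : G) * ⁅a⁻¹, (n : G)⁆ * (n : G)⁻¹) := by
    intro a
    simp only [commutatorElement_def]
    group
  have key2 : ∀ a : ↥Q, ((conjAut Q n a⁻¹) * a * (conjAut Q n a⁻¹) *
      (conjAut Q n (conjAut Q n a)) = 1) ↔ Commute (n : G) ⁅(a : G)⁻¹, (n : G)⁆ := by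
    intro a
    rw [Subtype.ext_iff]
    have : ((((conjAut Q n a⁻¹) * a * (conjAut Q n a⁻¹) *
        (conjAut Q n (conjAut Q n a)) : ↥Q)) : G) =
        (n : G) * (a : G)⁻¹ * (n : G)⁻¹ * a * ((n : G) * (a : G)⁻¹ * (n : G)⁻¹) *
          ((n : G) * ((n : G) * a * (n : G)⁻¹) * (n : G)⁻¹) := rfl
    rw [this, key, Subgroup.coe_one, inv_mul_eq_one, commute_iff_eq, eq_comm, mul_inv_eq_iff_eq_mul]
  constructor
  · intro h a ha
    have := (key2 ⟨a⁻¹, Q.inv_mem ha⟩).mp (h _)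
    simpa using this
  · intro h a
    rw [key2]
    exact h _ (Q.inv_mem a.2)

/-! ### transport of `O_p` membership -/

theorem mem_pCore_equiv_iff {A B : Type*} [Group A] [Group B] (p : ℕ) (e : A ≃* B) (x : A) :
    e x ∈ pCore p B ↔ x ∈ pCore p A := by
  rw [← Cfsg.Agent.Lib.Helper3.pCore_map_equiv p e]
  constructor
  · rintro ⟨y, hy, hyx⟩
    have : y = x := e.injective hyx
    rwa [← this]
  · intro h
    exact ⟨x, h, rfl⟩

/-- the kernel of the conjugation action of `N(Q)` on `Q` -/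
theorem ker_conjAut (Q : Subgroup G) :
    (conjAut Q).ker = (Subgroup.centralizer (Q : Set G)).subgroupOf (Subgroup.normalizer (Q : Set G)) := by
  ext n
  rw [MonoidHom.mem_ker, Subgroup.mem_subgroupOf, Subgroup.mem_centralizer_iff]
  constructor
  · intro h x hx
    have h1 : ((conjAut Q n ⟨x, hx⟩ : ↥Q) : G) = x := by rw [h]; rfl
    rw [conjAut_apply] at h1
    have h2 : (n : G) * x = x * n := by
      calc (n : G) * x = (n : G) * x * (n : G)⁻¹ * n := by group
        _ = x * n := by rw [h1]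
    exact h2.symm
  · intro h
    ext x
    show (n : G) * x * (n : G)⁻¹ = x
    rw [← h x x.2]
    group

/-- `N(Q)/C(Q) ≃ Aut_G(Q)` -/
noncomputable def quotEquivRange (Q : Subgroup G) :
    (↥(Subgroup.normalizer (Q : Set G)) ⧸
      (Subgroup.centralizer (Q : Set G)).subgroupOf (Subgroup.normalizer (Q : Set G))) ≃*
      (conjAut Q).range :=
  (QuotientGroup.quotientMulEquivOfEq (ker_conjAut Q).symm).trans
    (QuotientGroup.quotientKerEquivRange (conjAut Q))

theorem quotEquivRange_mk (Q : Subgroup G) (n : ↥(Subgroup.normalizer (Q : Set G))) :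
    ((quotEquivRange Q (QuotientGroup.mk n) : (conjAut Q).range) : MulAut ↥Q) = conjAut Q n := rfl

theorem mk_mem_pCore_iff (p : ℕ) (Q : Subgroup G) (n : ↥(Subgroup.normalizer (Q : Set G))) :
    (QuotientGroup.mk (s := (Subgroup.centralizer (Q : Set G)).subgroupOf
        (Subgroup.normalizer (Q : Set G))) n) ∈
      pCore p (↥(Subgroup.normalizer (Q : Set G)) ⧸
        (Subgroup.centralizer (Q : Set G)).subgroupOf (Subgroup.normalizer (Q : Set G))) ↔
    conjAut Q n ∈ (pCore p ↥(conjAut Q).range).map (conjAut Q).range.subtype := by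
  rw [← mem_pCore_equiv_iff p (quotEquivRange Q)]
  constructor
  · intro h
    exact ⟨_, h, rfl⟩
  · rintro ⟨y, hy, hyn⟩
    have : y = quotEquivRange Q (QuotientGroup.mk n) := Subtype.ext hyn
    rwa [← this]

end Cfsg.Agent.Lib.Helper1.FStab
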