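import Mathlib
import Cfsg.Agent.Lib.Helper1.FStab1

set_option autoImplicit false

namespace Cfsg.Agent.Lib.Helper1.FStab

open Cfsg Cfsg.FusionSystem Cfsg.Agent.Lib.Helper9
open scoped commutatorElement

variable {G : Type*} [Group G]

/-! ### transport along an isomorphism -/

theorem mem_map_equiv_iff {G' : Type*} [Group G'] (e : G ≃* G') (Q : Subgroup G) (x : G) :
    e x ∈ Q.map e.toMonoidHom ↔ x ∈ Q :=
  Subgroup.mem_map_iff_mem e.injective

theorem mem_normalizer_map_iff {G' : Type*} [Group G'] (e : G ≃* G') (Q : Subgroup G) (n : G) :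
    e n ∈ Subgroup.normalizer ((Q.map e.toMonoidHom : Subgroup G') : Set G') ↔
      n ∈ Subgroup.normalizer (Q : Set G) := by
  rw [Subgroup.mem_normalizer_iff, Subgroup.mem_normalizer_iff]
  constructor
  · intro h x
    have h1 := h (e x)
    rw [mem_map_equiv_iff] at h1
    have h2 : e n * e x * (e n)⁻¹ = e (n * x * n⁻¹) := by simp
    rw [h2, mem_map_equiv_iff] at h1
    exact h1
  · intro h y
    obtain ⟨x, rfl⟩ := e.surjective y
    have h2 : e n * e x * (e n)⁻¹ = e (n * x * n⁻¹) := by simp
    rw [h2, mem_map_equiv_iff, mem_map_equiv_iff]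
    exact h x

theorem mem_centralizer_map_iff {G' : Type*} [Group G'] (e : G ≃* G') (Q : Subgroup G) (n : G) :
    e n ∈ Subgroup.centralizer ((Q.map e.toMonoidHom : Subgroup G') : Set G') ↔
      n ∈ Subgroup.centralizer (Q : Set G) := by
  rw [Subgroup.mem_centralizer_iff, Subgroup.mem_centralizer_iff]
  constructor
  · intro h x hx
    have h1 := h (e x) ((mem_map_equiv_iff e Q x).mpr hx)
    apply e.injective
    rw [map_mul, map_mul]
    exact h1
  · rintro h _ ⟨x, hx, rfl⟩
    have h1 := h x hx
    show e x * e n = e n * e x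
    rw [← map_mul, ← map_mul, h1]

/-- the isomorphism of normalizers induced by an isomorphism -/
def normalizerEquiv {G' : Type*} [Group G'] (e : G ≃* G') (Q : Subgroup G) :
    ↥(Subgroup.normalizer (Q : Set G)) ≃*
      ↥(Subgroup.normalizer ((Q.map e.toMonoidHom : Subgroup G') : Set G')) where
  toFun n := ⟨e n, (mem_normalizer_map_iff e Q n).mpr n.2⟩
  invFun m := ⟨e.symm m, by
    rw [← mem_normalizer_map_iff e Q, MulEquiv.apply_symm_apply]
    exact m.2⟩
  left_inv n := by
    apply Subtype.ext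
    show e.symm (e n) = n
    simp
  right_inv m := by
    apply Subtype.ext
    show e (e.symm m) = m
    simp
  map_mul' a b := by
    apply Subtype.ext
    show e ((a : G) * b) = e a * e b
    simp

theorem normalizerEquiv_apply {G' : Type*} [Group G'] (e : G ≃* G') (Q : Subgroup G)
    (n : ↥(Subgroup.normalizer (Q : Set G))) : ((normalizerEquiv e Q n : _) : G') = e n := rfl

theorem map_normalizerEquiv {G' : Type*} [Group G'] (e : G ≃* G') (Q : Subgroup G) :
    ((Subgroup.centralizer (Q : Set G)).subgroupOf (Subgroup.normalizer (Q : Set G))).map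
        (normalizerEquiv e Q : ↥(Subgroup.normalizer (Q : Set G)) →*
          ↥(Subgroup.normalizer ((Q.map e.toMonoidHom : Subgroup G') : Set G'))) =
      (Subgroup.centralizer ((Q.map e.toMonoidHom : Subgroup G') : Set G')).subgroupOf
        (Subgroup.normalizer ((Q.map e.toMonoidHom : Subgroup G') : Set G')) := by
  ext m
  constructor
  · rintro ⟨n, hn, rfl⟩
    have hn' : (n : G) ∈ Subgroup.centralizer (Q : Set G) := hn
    show ((normalizerEquiv e Q n : _) : G') ∈ Subgroup.centralizer ((Q.map e.toMonoidHom : Subgroup G') : Set G')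
    exact (mem_centralizer_map_iff e Q n).mpr hn'
  · intro hm
    have hm' : (m : G') ∈ Subgroup.centralizer ((Q.map e.toMonoidHom : Subgroup G') : Set G') := hm
    refine ⟨(normalizerEquiv e Q).symm m, ?_, MulEquiv.apply_symm_apply _ _⟩
    show (((normalizerEquiv e Q).symm m : _) : G) ∈ Subgroup.centralizer (Q : Set G)
    rw [← mem_centralizer_map_iff e Q]
    have : e (((normalizerEquiv e Q).symm m : _) : G) = m := by
      have h1 := normalizerEquiv_apply e Q ((normalizerEquiv e Q).symm m)
      rw [MulEquiv.apply_symm_apply] at h1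
      exact h1.symm
    rw [this]
    exact hm'

/-- the induced isomorphism `N(Q)/C(Q) ≃ N(e Q)/C(e Q)` -/
noncomputable def quotNormalizerEquiv {G' : Type*} [Group G'] (e : G ≃* G') (Q : Subgroup G) :
    (↥(Subgroup.normalizer (Q : Set G)) ⧸
      (Subgroup.centralizer (Q : Set G)).subgroupOf (Subgroup.normalizer (Q : Set G))) ≃*
    (↥(Subgroup.normalizer ((Q.map e.toMonoidHom : Subgroup G') : Set G')) ⧸
      (Subgroup.centralizer ((Q.map e.toMonoidHom : Subgroup G') : Set G')).subgroupOf
        (Subgroup.normalizer ((Q.map e.toMonoidHom : Subgroup G') : Set G'))) :=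
  QuotientGroup.congr _ _ (normalizerEquiv e Q) (map_normalizerEquiv e Q)

theorem quotNormalizerEquiv_mk {G' : Type*} [Group G'] (e : G ≃* G') (Q : Subgroup G)
    (n : ↥(Subgroup.normalizer (Q : Set G))) :
    quotNormalizerEquiv e Q (QuotientGroup.mk n) = QuotientGroup.mk (normalizerEquiv e Q n) := rfl

theorem mk_mem_pCore_equiv_iff {G' : Type*} [Group G'] (p : ℕ) (e : G ≃* G') (Q : Subgroup G)
    (n : ↥(Subgroup.normalizer (Q : Set G))) :
    (QuotientGroup.mk (s := (Subgroup.centralizer ((Q.map e.toMonoidHom : Subgroup G') : Set G')).subgroupOf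
        (Subgroup.normalizer ((Q.map e.toMonoidHom : Subgroup G') : Set G'))) (normalizerEquiv e Q n)) ∈
      pCore p (↥(Subgroup.normalizer ((Q.map e.toMonoidHom : Subgroup G') : Set G')) ⧸
      (Subgroup.centralizer ((Q.map e.toMonoidHom : Subgroup G') : Set G')).subgroupOf
        (Subgroup.normalizer ((Q.map e.toMonoidHom : Subgroup G') : Set G'))) ↔
    (QuotientGroup.mk (s := (Subgroup.centralizer (Q : Set G)).subgroupOf
        (Subgroup.normalizer (Q : Set G))) n) ∈
      pCore p (↥(Subgroup.normalizer (Q : Set G)) ⧸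
        (Subgroup.centralizer (Q : Set G)).subgroupOf (Subgroup.normalizer (Q : Set G))) := by
  rw [← quotNormalizerEquiv_mk, mem_pCore_equiv_iff]

/-- the elementwise quadratic condition is preserved by isomorphisms -/
theorem quad_equiv {G' : Type*} [Group G'] (e : G ≃* G') {Q : Subgroup G} {n : G}
    (h : ∀ a ∈ Q, Commute n ⁅a, n⁆) : ∀ a ∈ Q.map e.toMonoidHom, Commute (e n) ⁅a, e n⁆ := by
  rintro _ ⟨a, ha, rfl⟩
  have h1 := (h a ha).map e
  rw [map_commutatorElement] at h1
  exact h1

/-! ### the main equivalence -/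

theorem nstable_iff [Finite G] {p : ℕ} [Fact p.Prime] (P : Sylow p G) :
    Cfsg.IsNormalizerPStable p G ↔
      (∀ Q : Subgroup G, (groupFusionSystem (P : Subgroup G)).IsFullyNormalized Q →
        ∀ χ : MulAut ↥Q, χ ∈ (groupFusionSystem (P : Subgroup G)).autGroup Q →
        (∀ a : ↥Q, (χ a⁻¹) * a * (χ a⁻¹) * (χ (χ a)) = 1) →
        χ ∈ ((pCore p ↥((groupFusionSystem (P : Subgroup G)).autGroup Q)).map
          ((groupFusionSystem (P : Subgroup G)).autGroup Q).subtype : Subgroup (MulAut ↥Q))) := by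
  have haut : ∀ Q : Subgroup G, Q ≤ (P : Subgroup G) →
      (groupFusionSystem (P : Subgroup G)).autGroup Q = (conjAut Q).range := by
    intro Q hQ
    rw [groupFusion_autGroup_eq hQ, range_conjAut_eq]
  -- a version of the right side on `range (conjAut Q)`
  have hgen : ∀ (Q : Subgroup G) (K : Subgroup (MulAut ↥Q)), K = (conjAut Q).range →
      ∀ n : ↥(Subgroup.normalizer (Q : Set G)),
      (conjAut Q n ∈ (pCore p ↥K).map K.subtype ↔
        (QuotientGroup.mk (s := (Subgroup.centralizer (Q : Set G)).subgroupOf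
          (Subgroup.normalizer (Q : Set G))) n) ∈
        pCore p (↥(Subgroup.normalizer (Q : Set G)) ⧸
          (Subgroup.centralizer (Q : Set G)).subgroupOf (Subgroup.normalizer (Q : Set G)))) := by
    rintro Q K rfl n
    exact (mk_mem_pCore_iff p Q n).symm
  constructor
  · intro hN Q hQ χ hχ hquad
    have hQP : Q ≤ (P : Subgroup G) := hQ.1
    have hχ' := hχ
    rw [haut Q hQP] at hχ'
    obtain ⟨n, rfl⟩ := hχ'
    rw [hgen Q _ (haut Q hQP) n]
    have h1 := (quad_conjAut_iff Q n).mp hquad
    have h2 := (comm_comm_eq_bot_iff Q (n : G)).mpr h1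
    exact hN Q (P.isPGroup'.to_le hQP) (n : G) n.2 h2
  · intro hF Q₀ hQ₀ g hg hcomm
    obtain ⟨x, hx⟩ := exists_cj_le_sylow P hQ₀
    obtain ⟨y, hy, hyF⟩ := exists_cj_fullyNormalized P _ hx
    rw [cj_cj] at hy hyF
    set e : G ≃* G := MulAut.conj (y * x) with he
    have hquad := (comm_comm_eq_bot_iff Q₀ g).mp hcomm
    have hquad' := quad_equiv e hquad
    have h1 := hF _ hyF (conjAut _ (normalizerEquiv e Q₀ ⟨g, hg⟩))
      (by rw [haut _ hy]; exact ⟨_, rfl⟩)
      ((quad_conjAut_iff _ _).mpr hquad')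
    rw [hgen _ _ (haut _ hy), mk_mem_pCore_equiv_iff] at h1
    exact h1

end Cfsg.Agent.Lib.Helper1.FStab
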