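import Mathlib
import Cfsg.Agent.Lib.Helper1.FStab2
import Cfsg.Agent.Lib.Helper1.PCore
import Cfsg.Agent.Lib.Helper9.FusionNormalizer
import Cfsg.Agent.Lib.Helper9.FusionSat2

set_option autoImplicit false

namespace Cfsg.Agent.Lib.Helper1.FStab

open Cfsg Cfsg.FusionSystem Cfsg.Agent.Lib.Helper9
open scoped commutatorElement

/-- the quadratic condition on an automorphism -/
def Quad {Q : Type*} [Group Q] (χ : MulAut Q) : Prop :=
  ∀ a : Q, (χ a⁻¹) * a * (χ a⁻¹) * (χ (χ a)) = 1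

section general

variable {X Y : Type*} [Group X] [Group Y]

/-- transport of `O_p` of a subgroup along an isomorphism of the ambient groups -/
theorem mem_pCore_map_iff (p : ℕ) (E : X ≃* Y) (A : Subgroup X) (B : Subgroup Y)
    (h : A.map E.toMonoidHom = B) (x : X) :
    E x ∈ (pCore p ↥B).map B.subtype ↔ x ∈ (pCore p ↥A).map A.subtype := by
  subst h
  constructor
  · rintro ⟨⟨y, hy⟩, hy1, hy2⟩
    have hy2' : y = E x := hy2
    subst hy2'
    have hxA : x ∈ A := (mem_map_equiv_iff E A x).mp hy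
    refine ⟨⟨x, hxA⟩, ?_, rfl⟩
    have hy1' : (E.subgroupMap A) ⟨x, hxA⟩ ∈ pCore p ↥(A.map E.toMonoidHom) := hy1
    exact (mem_pCore_equiv_iff p (E.subgroupMap A) _).mp hy1'
  · rintro ⟨⟨y, hy⟩, hy1, hy2⟩
    have hy2' : y = x := hy2
    subst hy2'
    refine ⟨(E.subgroupMap A) ⟨y, hy⟩, ?_, rfl⟩
    exact (mem_pCore_equiv_iff p (E.subgroupMap A) _).mpr hy1

/-- `O_p(H) ∩ K ≤ O_p(K)` for `K ≤ H` -/
theorem mem_pCore_of_le {p : ℕ} {K H : Subgroup X} (hKH : K ≤ H) {x : X} (hxK : x ∈ K)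
    (hx : x ∈ (pCore p ↥H).map H.subtype) (hfin : IsPGroup p (pCore p ↥H)) :
    x ∈ (pCore p ↥K).map K.subtype := by
  set M : Subgroup X := (pCore p ↥H).map H.subtype with hM
  have hMp : IsPGroup p M := hfin.map _
  have hMn : ∀ h ∈ H, ∀ m ∈ M, h * m * h⁻¹ ∈ M := by
    rintro h hh _ ⟨m, hm, rfl⟩
    have := (Cfsg.Agent.Lib.Helper1.pCore_normal (G := ↥H) p).conj_mem m hm ⟨h, hh⟩
    exact ⟨_, this, rfl⟩
  have hn : (M.subgroupOf K).Normal := by
    constructor
    intro n hn k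
    exact hMn k (hKH k.2) n hn
  have hp : IsPGroup p (M.subgroupOf K) := hMp.comap_subtype
  have := Cfsg.Agent.Lib.Helper1.le_pCore hn hp
  exact ⟨⟨x, hxK⟩, this hx, rfl⟩

end general

section quad

variable {Q : Type*} [Group Q]

theorem quad_fix {χ : MulAut Q} (h : Quad χ) (a : Q) : χ (a⁻¹ * χ a) = a⁻¹ * χ a := by
  have h1 := h a
  rw [map_mul]
  have h2 : χ a⁻¹ * χ (χ a) = (χ a⁻¹ * a)⁻¹ := by
    rw [eq_inv_iff_mul_eq_one]
    calc χ a⁻¹ * χ (χ a) * (χ a⁻¹ * a) = (χ a⁻¹ * a)⁻¹ * ((χ a⁻¹) * a * (χ a⁻¹) * (χ (χ a))) * (χ a⁻¹ * a) := by group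
      _ = 1 := by rw [h1]; group
  rw [h2, mul_inv_rev, map_inv, inv_inv]

theorem quad_pow {χ : MulAut Q} (h : Quad χ) (a : Q) (j : ℕ) :
    (χ ^ j) a = a * (a⁻¹ * χ a) ^ j := by
  induction j with
  | zero => simp
  | succ j ih =>
    have e1 : (χ ^ (j + 1)) a = χ ((χ ^ j) a) := by rw [pow_succ', MulAut.mul_apply]
    rw [e1, ih, map_mul, map_pow, quad_fix h a]
    have e2 : (a⁻¹ * χ a) ^ (j + 1) = (a⁻¹ * χ a) * (a⁻¹ * χ a) ^ j := pow_succ' _ _
    rw [e2, ← mul_assoc, mul_inv_cancel_left]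

theorem quad_pow_card [Finite Q] {χ : MulAut Q} (h : Quad χ) : χ ^ (Nat.card Q) = 1 := by
  ext a
  rw [quad_pow h a, pow_card_eq_one', mul_one]
  rfl

theorem quad_congr {Q' : Type*} [Group Q'] (e : Q ≃* Q') {χ : MulAut Q} (h : Quad χ) :
    Quad (MulAut.congr e χ) := by
  intro b
  obtain ⟨a, rfl⟩ := e.surjective b
  have h1 : ∀ x : Q, MulAut.congr e χ (e x) = e (χ x) := by
    intro x
    show e (χ (e.symm (e x))) = e (χ x)
    rw [MulEquiv.symm_apply_apply]
  rw [← map_inv, h1, h1, h1, ← map_mul, ← map_mul, ← map_mul, h a, map_one]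

end quad

variable {Ω : Type*} [Group Ω] {S : Subgroup Ω}

/-- the stability condition at a subgroup -/
def StableAt (p : ℕ) (F : FusionSystem S) (Q : Subgroup Ω) : Prop :=
  ∀ χ : MulAut ↥Q, χ ∈ F.autGroup Q → Quad χ →
    χ ∈ ((pCore p ↥(F.autGroup Q)).map (F.autGroup Q).subtype : Subgroup (MulAut ↥Q))

/-- `Aut_F` is carried onto `Aut_F` by an isomorphism of the system -/
theorem map_autGroup_eq (F : FusionSystem S) {P Q : Subgroup Ω} {ψ : Q →* Ω}
    (hψ : ψ ∈ F.Hom Q) (hP : ψ.range = P) :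
    (F.autGroup Q).map (MulAut.congr (equivOfRange ψ (F.injective_of_mem hψ) hP)).toMonoidHom =
      F.autGroup P := by
  apply le_antisymm
  · rintro _ ⟨α, hα, rfl⟩
    exact congr_mem_autGroup F hψ hP hα
  · intro β hβ
    obtain ⟨θ, hθ, hθψ, hθr, hψθ⟩ := inv_hom F hψ hP
    have h1 := congr_mem_autGroup F hθ hθr hβ
    refine ⟨_, h1, ?_⟩
    have he : equivOfRange θ (F.injective_of_mem hθ) hθr =
        (equivOfRange ψ (F.injective_of_mem hψ) hP).symm := by
      ext y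
      obtain ⟨h, hh⟩ := hψθ y
      have h2 : (equivOfRange ψ (F.injective_of_mem hψ) hP) ⟨θ y, h⟩ = y := Subtype.ext hh
      have h3 : equivOfRange θ (F.injective_of_mem hθ) hθr y = ⟨θ y, h⟩ := Subtype.ext rfl
      rw [h3]
      conv_rhs => rw [← h2]
      rw [MulEquiv.symm_apply_apply]
    rw [he]
    ext y
    show ((equivOfRange ψ (F.injective_of_mem hψ) hP)
      ((equivOfRange ψ (F.injective_of_mem hψ) hP).symm
        (β ((equivOfRange ψ (F.injective_of_mem hψ) hP).symm.symm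
          ((equivOfRange ψ (F.injective_of_mem hψ) hP).symm y)))) : Ω) = β y
    simp

/-- stability at fully normalized subgroups gives stability at all subgroups -/
theorem stableAt_of_fullyNormalized [Finite S] (p : ℕ) (F : FusionSystem S)
    (h : ∀ Q : Subgroup Ω, F.IsFullyNormalized Q → StableAt p F Q) {Q : Subgroup Ω} (hQ : Q ≤ S) :
    StableAt p F Q := by
  obtain ⟨Q', ⟨ψ, hψ, hψr⟩, hfn⟩ := exists_isConj_fullyNormalized F hQ
  intro χ hχ hquad
  set e := equivOfRange ψ (F.injective_of_mem hψ) hψr with he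
  have h1 := h Q' hfn (MulAut.congr e χ) (congr_mem_autGroup F hψ hψr hχ) (quad_congr e hquad)
  exact (mem_pCore_map_iff p (MulAut.congr e) _ _ (map_autGroup_eq F hψ hψr) χ).mp h1

theorem isPGroup_pCore_autGroup [Finite S] (p : ℕ) [Fact p.Prime] (F : FusionSystem S)
    {Q : Subgroup Ω} (hQ : Q ≤ S) : IsPGroup p (pCore p ↥(F.autGroup Q)) := by
  have : Finite Q := finite_of_le hQ
  have : Finite (MulAut ↥Q) := Finite.of_injective (fun α : MulAut ↥Q => (α : ↥Q → ↥Q))
    (fun a b hab => MulEquiv.ext (congrFun hab))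
  exact Cfsg.Agent.Lib.Helper1.pCore_isPGroup p

/-- the automorphisms in a normalizer system are automorphisms of the system -/
theorem autGroup_normalizerSystem_le (F : FusionSystem S) (R : Subgroup Ω)
    (N : FusionSystem (normalizerIn S R)) (hN : F.IsNormalizerSystem R N) (Q : Subgroup Ω) :
    N.autGroup Q ≤ F.autGroup Q := by
  apply Subgroup.closure_mono
  intro α hα
  have h1 : Q.subtype.comp α.toMonoidHom ∈ N.Hom Q := hα
  rw [hN Q] at h1
  exact h1.1

/-- forward direction -/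
theorem stable_normalizer [Finite S] (p : ℕ) [Fact p.Prime] (F : FusionSystem S)
    (h : ∀ Q : Subgroup Ω, F.IsFullyNormalized Q → StableAt p F Q)
    (R : Subgroup Ω) (N : FusionSystem (normalizerIn S R)) (hN : F.IsNormalizerSystem R N)
    (Q : Subgroup Ω) (hQ : Q ≤ normalizerIn S R) : StableAt p N Q := by
  intro χ hχ hquad
  have hQS : Q ≤ S := hQ.trans inf_le_left
  have h1 := stableAt_of_fullyNormalized p F h hQS χ
    (autGroup_normalizerSystem_le F R N hN Q hχ) hquad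
  exact mem_pCore_of_le (autGroup_normalizerSystem_le F R N hN Q) hχ h1
    (isPGroup_pCore_autGroup p F hQS)

end Cfsg.Agent.Lib.Helper1.FStab
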