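import Mathlib
import Cfsg.Agent.Lib.Helper1.FStab3

set_option autoImplicit false

namespace Cfsg.Agent.Lib.Helper1.FStab

open Cfsg Cfsg.FusionSystem Cfsg.Agent.Lib.Helper9
open scoped commutatorElement

theorem mulAut_comm_of_cyclic {Q : Type*} [Group Q] [IsCyclic Q] (α β : MulAut Q) :
    α * β = β * α := by
  apply (IsCyclic.mulAutMulEquiv Q).injective
  rw [map_mul, map_mul, mul_comm]

variable {Ω : Type*} [Group Ω] {S : Subgroup Ω}

/-- cyclic subgroups are always stable -/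
theorem stableAt_of_cyclic [Finite S] (p : ℕ) [hp : Fact p.Prime] (hS : IsPGroup p S)
    (F : FusionSystem S) {Q : Subgroup Ω} (hQ : Q ≤ S) (hc : IsCyclic ↥Q) : StableAt p F Q := by
  intro χ hχ hquad
  have hfin : Finite Q := finite_of_le hQ
  have hQp : IsPGroup p Q := isPGroup_of_le hS hQ
  obtain ⟨m, hm⟩ := (IsPGroup.iff_card).mp hQp
  have hpow : χ ^ (p ^ m) = 1 := by
    rw [← hm]
    exact quad_pow_card hquad
  set x : ↥(F.autGroup Q) := ⟨χ, hχ⟩ with hx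
  have hxpow : x ^ (p ^ m) = 1 := by
    apply Subtype.ext
    show χ ^ (p ^ m) = 1
    exact hpow
  have hZp : IsPGroup p (Subgroup.zpowers x) := by
    have h1 : orderOf x ∣ p ^ m := orderOf_dvd_of_pow_eq_one hxpow
    obtain ⟨k, -, hk⟩ := (Nat.dvd_prime_pow hp.out).mp h1
    apply IsPGroup.of_card (n := k)
    rw [Nat.card_zpowers, hk]
  have hZn : (Subgroup.zpowers x).Normal := by
    constructor
    intro n hn g
    have : g * n * g⁻¹ = n := by
      have h1 : g * n = n * g := by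
        apply Subtype.ext
        show (g : MulAut ↥Q) * n = n * g
        exact mulAut_comm_of_cyclic _ _
      rw [h1, mul_inv_cancel_right]
    rw [this]
    exact hn
  have h2 := Cfsg.Agent.Lib.Helper1.le_pCore hZn hZp
  exact ⟨x, h2 (Subgroup.mem_zpowers x), rfl⟩

/-- `Aut_{N_F(Q)}(Q) = Aut_F(Q)` -/
theorem autGroup_normalizerSystem_self (F : FusionSystem S) {Q : Subgroup Ω} (hQ : Q ≤ S)
    (N : FusionSystem (normalizerIn S Q)) (hN : F.IsNormalizerSystem Q N) :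
    N.autGroup Q = F.autGroup Q := by
  apply le_antisymm (autGroup_normalizerSystem_le F Q N hN Q)
  apply Subgroup.closure_mono
  intro α hα
  have hα' : Q.subtype.comp α.toMonoidHom ∈ F.Hom Q := hα
  show Q.subtype.comp α.toMonoidHom ∈ N.Hom Q
  rw [hN Q]
  have hle : Q ⊔ Q ≤ Q := sup_le le_rfl le_rfl
  refine ⟨hα', self_le_normalizerIn' hQ, fun x => self_le_normalizerIn' hQ (α x).2,
    (Q.subtype.comp α.toMonoidHom).comp (Subgroup.inclusion hle), restrict_mem F hα' hle,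
    fun x => rfl, ?_⟩
  ext z
  constructor
  · rintro ⟨y, hy, rfl⟩
    exact (α ⟨y, hle y.2⟩).2
  · intro hz
    refine ⟨⟨(α⁻¹ ⟨z, hz⟩ : ↥Q), (le_sup_left : Q ≤ Q ⊔ Q) (α⁻¹ ⟨z, hz⟩ : ↥Q).2⟩, (α⁻¹ ⟨z, hz⟩ : ↥Q).2, ?_⟩
    show ((α (α⁻¹ ⟨z, hz⟩) : ↥Q) : Ω) = z
    rw [MulAut.apply_inv_self]

theorem fullyNormalized_self [Finite S] {Q : Subgroup Ω} (hQ : Q ≤ S)
    (N : FusionSystem (normalizerIn S Q)) : N.IsFullyNormalized Q := by
  refine ⟨self_le_normalizerIn' hQ, fun Q' _ => ?_⟩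
  have hle : normalizerIn (normalizerIn S Q) Q' ≤ normalizerIn (normalizerIn S Q) Q := by
    intro x hx
    exact ⟨hx.1, hx.1.2⟩
  have : Finite ↥(normalizerIn (normalizerIn S Q) Q) :=
    finite_of_le (inf_le_left.trans inf_le_left)
  exact Subgroup.card_le_of_le hle

/-- the statement -/
theorem stable_iff_normalizers [Finite S] (p : ℕ) [Fact p.Prime] (hS : IsPGroup p S)
    (F : FusionSystem S) :
    (∀ Q : Subgroup Ω, F.IsFullyNormalized Q → ∀ χ : MulAut ↥Q, χ ∈ F.autGroup Q →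
      (∀ a : ↥Q, (χ a⁻¹) * a * (χ a⁻¹) * (χ (χ a)) = 1) →
      χ ∈ ((Cfsg.pCore p ↥(F.autGroup Q)).map (F.autGroup Q).subtype : Subgroup (MulAut ↥Q))) ↔
    ∀ R : Subgroup Ω, F.IsFullyNormalized R → ¬ IsCyclic ↥R →
      ∀ N : Cfsg.FusionSystem (Cfsg.FusionSystem.normalizerIn S R), F.IsNormalizerSystem R N →
      (∀ Q : Subgroup Ω, N.IsFullyNormalized Q → ∀ χ : MulAut ↥Q, χ ∈ N.autGroup Q →
        (∀ a : ↥Q, (χ a⁻¹) * a * (χ a⁻¹) * (χ (χ a)) = 1) →
        χ ∈ ((Cfsg.pCore p ↥(N.autGroup Q)).map (N.autGroup Q).subtype :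
          Subgroup (MulAut ↥Q))) := by
  constructor
  · intro h R _ _ N hN Q hQ
    exact stable_normalizer p F h R N hN Q hQ.1
  · intro h Q hQ
    by_cases hc : IsCyclic ↥Q
    · exact stableAt_of_cyclic p hS F hQ.1 hc
    · have h1 := h Q hQ hc (normalizerSystem F Q hQ.1) (isNormalizerSystem_normalizerSystem F Q hQ.1)
        Q (fullyNormalized_self hQ.1 _)
      have h2 := autGroup_normalizerSystem_self F hQ.1 _ (isNormalizerSystem_normalizerSystem F Q hQ.1)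
      have hgen : ∀ K : Subgroup (MulAut ↥Q), K = F.autGroup Q →
          (∀ χ : MulAut ↥Q, χ ∈ K → (∀ a : ↥Q, (χ a⁻¹) * a * (χ a⁻¹) * (χ (χ a)) = 1) →
            χ ∈ ((Cfsg.pCore p ↥K).map K.subtype : Subgroup (MulAut ↥Q))) →
          ∀ χ : MulAut ↥Q, χ ∈ F.autGroup Q → (∀ a : ↥Q, (χ a⁻¹) * a * (χ a⁻¹) * (χ (χ a)) = 1) →
            χ ∈ ((Cfsg.pCore p ↥(F.autGroup Q)).map (F.autGroup Q).subtype :
              Subgroup (MulAut ↥Q)) := by
        rintro K rfl hK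
        exact hK
      exact hgen _ h2 h1

end Cfsg.Agent.Lib.Helper1.FStab
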