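import Mathlib
import Cfsg.Agent.Lib.Helper1.KN2

set_option autoImplicit false

namespace Cfsg.Agent.Lib.Helper1.KN

open Cfsg Cfsg.FusionSystem Cfsg.Agent.Lib.Helper9

variable {Ω : Type*} [Group Ω] {S : Subgroup Ω}

/-- a subgroup of `P ⊔ Q` containing `P` and `Q` is everything -/
theorem mem_of_sup_induction {P Q : Subgroup Ω} (M : Subgroup ↥(P ⊔ Q))
    (hP : ∀ x : ↥P, Subgroup.inclusion (le_sup_left : P ≤ P ⊔ Q) x ∈ M)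
    (hQ : ∀ q : ↥Q, Subgroup.inclusion (le_sup_right : Q ≤ P ⊔ Q) q ∈ M) (z : ↥(P ⊔ Q)) :
    z ∈ M := by
  have h1 : P.subgroupOf (P ⊔ Q) ≤ M := by
    intro x hx
    exact hP ⟨x, hx⟩
  have h2 : Q.subgroupOf (P ⊔ Q) ≤ M := by
    intro x hx
    exact hQ ⟨x, hx⟩
  have h3 : (P ⊔ Q).subgroupOf (P ⊔ Q) = ⊤ := Subgroup.subgroupOf_self _
  rw [Subgroup.subgroupOf_sup le_sup_left le_sup_right] at h3
  have h4 : z ∈ (⊤ : Subgroup ↥(P ⊔ Q)) := Subgroup.mem_top z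
  rw [← h3] at h4
  exact (_root_.sup_le h1 h2) h4

/-- Sylow's theorem modulo a normal subgroup -/
theorem exists_conj_mem_sylow_of_le_sup_normal {G : Type*} [Group G] [Finite G] {p : ℕ}
    [Fact p.Prime] (R : Sylow p G) (N : Subgroup G) [N.Normal] {Γ : Subgroup G}
    (hΓ : IsPGroup p Γ) (hle : Γ ≤ (R : Subgroup G) ⊔ N) :
    ∃ n ∈ N, ∀ γ ∈ Γ, n * γ * n⁻¹ ∈ (R : Subgroup G) := by
  have hRL : (R : Subgroup G) ≤ (R : Subgroup G) ⊔ N := le_sup_left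
  have hΓ' : IsPGroup p (Γ.subgroupOf ((R : Subgroup G) ⊔ N)) := hΓ.comap_subtype
  obtain ⟨l, hl⟩ := exists_cj_le_sylow (R.subtype hRL) hΓ'
  obtain ⟨r, hr, n, hn, hrn⟩ := Subgroup.mem_sup_of_normal_right.mp l.2
  refine ⟨n, hn, fun γ hγ => ?_⟩
  have h1 : (MulAut.conj l).toMonoidHom ⟨γ, hle hγ⟩ ∈
      ((R.subtype hRL : Sylow p ↥((R : Subgroup G) ⊔ N)) : Subgroup ↥((R : Subgroup G) ⊔ N)) :=
    hl ⟨⟨γ, hle hγ⟩, hγ, rfl⟩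
  rw [Sylow.coe_subtype, Subgroup.mem_subgroupOf] at h1
  have h2 : (l : G) * γ * (l : G)⁻¹ ∈ (R : Subgroup G) := h1
  rw [← hrn] at h2
  have h3 : n * γ * n⁻¹ = r⁻¹ * (r * n * γ * (r * n)⁻¹) * r := by group
  rw [h3]
  exact (R : Subgroup G).mul_mem ((R : Subgroup G).mul_mem ((R : Subgroup G).inv_mem hr) h2) hr

variable {F : FusionSystem S} {Q : Subgroup Ω} {K : Subgroup (MulAut ↥Q)} {T : Subgroup Ω}
  {E : FusionSystem T}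

/-- transport of the `K`-normalizer along a map carrying a copy `ζ(Q)` of `Q` back to `Q` -/
theorem KData.mem_T_of_transport (hd : KData F Q K T E) {D : Subgroup Ω} {ρ : ↥D →* Ω}
    (hρ : ρ ∈ F.Hom D) (ζ : ↥Q →* Ω) (hζD : ∀ q, ζ q ∈ D) {κ₁ : MulAut ↥Q} (hκ₁ : κ₁ ∈ K)
    (hρζ : ∀ q, ρ ⟨ζ q, hζD q⟩ = κ₁ q) {g : Ω} (hgD : g ∈ D) {κ : MulAut ↥Q} (hκ : κ ∈ K)
    (hg : ∀ q : ↥Q, g * ζ q * g⁻¹ = ζ (κ q)) : ρ ⟨g, hgD⟩ ∈ T := by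
  rw [hd.mem_T]
  refine ⟨hom_mem F hρ _, κ₁ * κ * κ₁⁻¹, K.mul_mem (K.mul_mem hκ₁ hκ) (K.inv_mem hκ₁),
    fun q => ?_⟩
  show ρ ⟨g, hgD⟩ * (q : Ω) * (ρ ⟨g, hgD⟩)⁻¹ = κ₁ (κ (κ₁⁻¹ q))
  have hq : (q : Ω) = ρ ⟨ζ (κ₁⁻¹ q), hζD _⟩ := by
    rw [hρζ, MulAut.apply_inv_self]
  have h2 : ρ ⟨g, hgD⟩ * ρ ⟨ζ (κ₁⁻¹ q), hζD _⟩ * (ρ ⟨g, hgD⟩)⁻¹ =
      ρ ⟨ζ (κ (κ₁⁻¹ q)), hζD _⟩ := by
    rw [← map_inv, ← map_mul, ← map_mul]
    congr 1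
    exact Subtype.ext (hg (κ₁⁻¹ q))
  calc ρ ⟨g, hgD⟩ * (q : Ω) * (ρ ⟨g, hgD⟩)⁻¹
      = ρ ⟨g, hgD⟩ * ρ ⟨ζ (κ₁⁻¹ q), hζD _⟩ * (ρ ⟨g, hgD⟩)⁻¹ := by rw [← hq]
    _ = ρ ⟨ζ (κ (κ₁⁻¹ q)), hζD _⟩ := h2
    _ = κ₁ (κ (κ₁⁻¹ q)) := hρζ _

/-- the restriction of an element of `A` to `P` is an `E`-automorphism -/
theorem resA_mem_autGroup (hd : KData F Q K T E) {P : Subgroup Ω} (hP : P ≤ T)
    (α : ↥(AGrp F P Q K)) : resA F P Q K α ∈ E.autGroup P := by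
  have hXS := hd.sup_le hP
  rw [mem_autGroup_iff E hP, hd.mem_E]
  have hαF : (P ⊔ Q).subtype.comp (α : MulAut ↥(P ⊔ Q)).toMonoidHom ∈ F.Hom (P ⊔ Q) :=
    hom_of_mem_autGroup F hXS (AGrp_le_autGroup F P Q K α.2)
  refine ⟨?_, hP, fun x => hP (resA F P Q K α x).2, _, hαF, fun x => rfl, ?_⟩
  · have h1 := restrict_mem F hαF (le_sup_left : P ≤ P ⊔ Q)
    have h2 : ((P ⊔ Q).subtype.comp (α : MulAut ↥(P ⊔ Q)).toMonoidHom).comp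
        (Subgroup.inclusion le_sup_left) = P.subtype.comp (resA F P Q K α).toMonoidHom := by
      ext x
      rfl
    rw [← h2]
    exact h1
  · obtain ⟨κ, hκ, h⟩ := AGrp_le_kPart F P Q K α.2
    exact ⟨κ, hκ, fun q => h q⟩

/-- every `E`-automorphism of `P` is the restriction of an element of `A` -/
theorem exists_resA_eq [Finite S] (hd : KData F Q K T E) {P : Subgroup Ω} (hP : P ≤ T)
    {β : MulAut ↥P} (hβ : β ∈ E.autGroup P) : ∃ α : ↥(AGrp F P Q K), resA F P Q K α = β := by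
  have hXS := hd.sup_le hP
  have hfinX : Finite ↥(P ⊔ Q) := finite_of_le hXS
  have hβ' := hom_of_mem_autGroup E hP hβ
  rw [hd.mem_E] at hβ'
  obtain ⟨-, -, -, ψ, hψ, hψP, κ, hκ, hψQ⟩ := hβ'
  have hψP' : ∀ x : ↥P, ψ (Subgroup.inclusion le_sup_left x) = ((β x : ↥P) : Ω) := hψP
  have hr : ψ.range = P ⊔ Q := by
    apply le_antisymm
    · rintro _ ⟨z, rfl⟩
      have := mem_of_sup_induction ((P ⊔ Q).comap ψ)
        (fun x => by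
          show ψ _ ∈ P ⊔ Q
          rw [hψP' x]
          exact (le_sup_left : P ≤ P ⊔ Q) (β x).2)
        (fun q => by
          show ψ _ ∈ P ⊔ Q
          rw [hψQ q]
          exact (le_sup_right : Q ≤ P ⊔ Q) (κ q).2) z
      exact this
    · apply _root_.sup_le
      · intro y hy
        refine ⟨Subgroup.inclusion le_sup_left (β⁻¹ ⟨y, hy⟩), ?_⟩
        rw [hψP', MulAut.apply_inv_self]
      · intro y hy
        refine ⟨Subgroup.inclusion le_sup_right (κ⁻¹ ⟨y, hy⟩), ?_⟩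
        rw [hψQ, MulAut.apply_inv_self]
  obtain ⟨α, hαF, hα⟩ := exists_aut_of_hom F hψ hr
  have hαstab : α ∈ stabSub (P.subgroupOf (P ⊔ Q)) := by
    apply mem_stabSub_of_forall
    intro x hx
    show ((α x : ↥(P ⊔ Q)) : Ω) ∈ P
    rw [hα x]
    have : x = Subgroup.inclusion le_sup_left (⟨x, hx⟩ : ↥P) := rfl
    rw [this, hψP']
    exact (β ⟨x, hx⟩).2
  have hαK : α ∈ kPart le_sup_right K := ⟨κ, hκ, fun q => (hα _).trans (hψQ q)⟩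
  refine ⟨⟨α, ⟨⟨hαF, hαstab⟩, hαK⟩⟩, ?_⟩
  ext x
  rw [resA_apply]
  show ((α (Subgroup.inclusion le_sup_left x) : ↥(P ⊔ Q)) : Ω) = _
  rw [hα, hψP']

/-- restrictions of elements of `A` induced by `S` are induced by `T` -/
theorem resA_mem_autInducedBy [Finite S] (hd : KData F Q K T E) {P : Subgroup Ω} (hP : P ≤ T)
    (α : ↥(AGrp F P Q K)) (hα : (α : MulAut ↥(P ⊔ Q)) ∈ autInducedBy S (P ⊔ Q)) :
    resA F P Q K α ∈ autInducedBy T P := by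
  obtain ⟨g, hgS, hg⟩ := (mem_autInducedBy_iff S (P ⊔ Q) _).mp hα
  have hgN := mem_normalizer_of_induces _ hg
  have heq : conjAut (P ⊔ Q) ⟨g, hgN⟩ = (α : MulAut ↥(P ⊔ Q)) := by
    ext x
    rw [hg x]
    rfl
  have hgT : g ∈ normalizerIn T P := by
    rw [normalizerIn_eq_preNorm hd hP, mem_preNorm_iff]
    exact ⟨hgS, hgN, by rw [heq]; exact α.2⟩
  rw [mem_autInducedBy_iff]
  refine ⟨g, hgT.1, fun x => ?_⟩
  rw [resA_apply, hg]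

/-- automorphisms of `P` induced by `T` are restrictions of elements of `A` induced by `S` -/
theorem exists_resA_eq_of_mem_autInducedBy [Finite S] (hd : KData F Q K T E) {P : Subgroup Ω}
    (hP : P ≤ T) {β : MulAut ↥P} (hβ : β ∈ autInducedBy T P) :
    ∃ α : ↥(AGrp F P Q K), (α : MulAut ↥(P ⊔ Q)) ∈ autInducedBy S (P ⊔ Q) ∧
      resA F P Q K α = β := by
  obtain ⟨g, hgT, hg⟩ := (mem_autInducedBy_iff T P _).mp hβ
  have hgNP := mem_normalizer_of_induces _ hg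
  have hgN : g ∈ normalizerIn T P := ⟨hgT, hgNP⟩
  rw [normalizerIn_eq_preNorm hd hP, mem_preNorm_iff] at hgN
  obtain ⟨hgS, hgX, hgA⟩ := hgN
  refine ⟨⟨conjAut (P ⊔ Q) ⟨g, hgX⟩, hgA⟩, ?_, ?_⟩
  · rw [mem_autInducedBy_iff]
    exact ⟨g, hgS, fun x => rfl⟩
  · ext x
    rw [resA_apply, hg]
    rfl

end Cfsg.Agent.Lib.Helper1.KN
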