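import Mathlib
import Cfsg.Agent.Lib.Helper1.KN3

set_option autoImplicit false

namespace Cfsg.Agent.Lib.Helper1.KN

open Cfsg Cfsg.FusionSystem Cfsg.Agent.Lib.Helper9

variable {Ω : Type*} [Group Ω] {S : Subgroup Ω}

/-- a `p`-group of `F`-automorphisms of `X` can be moved into `Aut_S(Y)` for a fully automized
conjugate `Y` of `X` -/
theorem exists_hom_map_le_autInducedBy [Finite S] {p : ℕ} [Fact p.Prime] (F : FusionSystem S)
    {X Y : Subgroup Ω} (hYa : F.IsFullyAutomized p Y) {ξ₀ : ↥X →* Ω} (hξ₀ : ξ₀ ∈ F.Hom X)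
    (hr₀ : ξ₀.range = Y) {U : Subgroup (MulAut ↥X)} (hUA : U ≤ F.autGroup X)
    (hU : IsPGroup p U) :
    ∃ (ξ : ↥X →* Ω) (hξ : ξ ∈ F.Hom X) (hr : ξ.range = Y),
      U.map (MulAut.congr (equivOfRange ξ (F.injective_of_mem hξ) hr)).toMonoidHom ≤
        autInducedBy S Y := by
  obtain ⟨hYS, R, hR⟩ := hYa
  have hfinY : Finite ↥Y := finite_of_le hYS
  have hB₀A : U.map (MulAut.congr (equivOfRange ξ₀ (F.injective_of_mem hξ₀) hr₀)).toMonoidHom ≤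
      F.autGroup Y := by
    rintro _ ⟨α, hα, rfl⟩
    exact congr_mem_autGroup F hξ₀ hr₀ (hUA hα)
  have hB₀p : IsPGroup p
      (U.map (MulAut.congr (equivOfRange ξ₀ (F.injective_of_mem hξ₀) hr₀)).toMonoidHom) :=
    hU.map _
  have hB₀'p := hB₀p.comap_subtype (K := F.autGroup Y)
  obtain ⟨a, ha⟩ := exists_cj_le_sylow R hB₀'p
  have hconj : ∀ β ∈ U.map (MulAut.congr (equivOfRange ξ₀ (F.injective_of_mem hξ₀) hr₀)).toMonoidHom,
      (a : MulAut ↥Y) * β * (a : MulAut ↥Y)⁻¹ ∈ autInducedBy S Y := by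
    intro β hβ
    have h1 : (MulAut.conj a).toMonoidHom ⟨β, hB₀A hβ⟩ ∈ (R : Subgroup (F.autGroup Y)) :=
      ha ⟨⟨β, hB₀A hβ⟩, hβ, rfl⟩
    rw [hR] at h1
    exact h1
  have haY := hom_of_mem_autGroup F hYS a.2
  have hξ₀Y : ∀ x : ↥X, ξ₀ x ∈ Y := fun x => hr₀.le ⟨x, rfl⟩
  obtain ⟨χ, hχ, hχe⟩ := comp_hom F hξ₀ haY hξ₀Y
  have hχe' : ∀ x : ↥X, χ x =
      (((a : MulAut ↥Y) (equivOfRange ξ₀ (F.injective_of_mem hξ₀) hr₀ x) : ↥Y) : Ω) :=
    fun x => hχe x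
  have hχr : χ.range = Y := by
    apply le_antisymm
    · rintro _ ⟨x, rfl⟩
      rw [hχe']
      exact ((a : MulAut ↥Y) _).2
    · intro y hy
      refine ⟨(equivOfRange ξ₀ (F.injective_of_mem hξ₀) hr₀).symm ((a : MulAut ↥Y)⁻¹ ⟨y, hy⟩), ?_⟩
      rw [hχe', MulEquiv.apply_symm_apply, MulAut.apply_inv_self]
  refine ⟨χ, hχ, hχr, ?_⟩
  rintro _ ⟨α, hα, rfl⟩
  have h1 := hconj _ ⟨α, hα, rfl⟩
  have hee : ∀ x : ↥X, equivOfRange χ (F.injective_of_mem hχ) hχr x =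
      (a : MulAut ↥Y) (equivOfRange ξ₀ (F.injective_of_mem hξ₀) hr₀ x) :=
    fun x => Subtype.ext (hχe' x)
  have hsymm : ∀ y : ↥Y, (equivOfRange χ (F.injective_of_mem hχ) hχr).symm y =
      (equivOfRange ξ₀ (F.injective_of_mem hξ₀) hr₀).symm ((a : MulAut ↥Y)⁻¹ y) := by
    intro y
    apply (equivOfRange χ (F.injective_of_mem hχ) hχr).injective
    rw [MulEquiv.apply_symm_apply, hee, MulEquiv.apply_symm_apply, MulAut.apply_inv_self]
  have h2 : (MulAut.congr (equivOfRange χ (F.injective_of_mem hχ) hχr)).toMonoidHom α =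
      (a : MulAut ↥Y) * MulAut.congr (equivOfRange ξ₀ (F.injective_of_mem hξ₀) hr₀) α *
        (a : MulAut ↥Y)⁻¹ := by
    ext y
    show (((equivOfRange χ (F.injective_of_mem hχ) hχr)
      (α ((equivOfRange χ (F.injective_of_mem hχ) hχr).symm y)) : ↥Y) : Ω) =
      (((a : MulAut ↥Y) ((equivOfRange ξ₀ (F.injective_of_mem hξ₀) hr₀)
        (α ((equivOfRange ξ₀ (F.injective_of_mem hξ₀) hr₀).symm ((a : MulAut ↥Y)⁻¹ y)))) : ↥Y) : Ω)
    rw [hee, hsymm]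
  rw [h2]
  exact h1

variable {F : FusionSystem S} {Q : Subgroup Ω} {K : Subgroup (MulAut ↥Q)} {T : Subgroup Ω}
  {E : FusionSystem T}

/-- the key counting inequality: for a `p`-subgroup `U` of `A` and a fully automized conjugate
`Y` of `PQ`, `|U| |C_S(Y)| ≤ |N_T(P)|` if `P` is fully normalized in `E` -/
theorem card_mul_card_centralizerIn_le [Finite S] {p : ℕ} [Fact p.Prime]
    (hd : KData F Q K T E) {P : Subgroup Ω} (hP : P ≤ T) (hPn : E.IsFullyNormalized P)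
    {Y : Subgroup Ω} (hYa : F.IsFullyAutomized p Y) (hXY : F.IsConj (P ⊔ Q) Y)
    {U : Subgroup (MulAut ↥(P ⊔ Q))} (hUA : U ≤ AGrp F P Q K) (hU : IsPGroup p U) :
    Nat.card ↥U * Nat.card ↥(centralizerIn S Y) ≤ Nat.card ↥(normalizerIn T P) := by
  obtain ⟨ξ₀, hξ₀, hr₀⟩ := hXY
  obtain ⟨ξ, hξ, hr, hB⟩ := exists_hom_map_le_autInducedBy F hYa hξ₀ hr₀
    (hUA.trans (AGrp_le_autGroup F P Q K)) hU
  have hXS : P ⊔ Q ≤ S := hd.sup_le hP
  have hfinT : Finite ↥T := finite_of_le hd.T_le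
  have hcardB : Nat.card ↥(U.map (MulAut.congr (equivOfRange ξ (F.injective_of_mem hξ) hr)).toMonoidHom)
      = Nat.card ↥U :=
    Subgroup.card_map_of_injective (MulAut.congr (equivOfRange ξ (F.injective_of_mem hξ) hr)).injective
  have h1 := card_preNorm S Y
    (U.map (MulAut.congr (equivOfRange ξ (F.injective_of_mem hξ) hr)).toMonoidHom)
  rw [inf_eq_left.mpr hB, hcardB] at h1
  rw [h1]
  -- bring `ξ(Q)` back to `Q`
  have hξQF : ξ.comp (Subgroup.inclusion (le_sup_right : Q ≤ P ⊔ Q)) ∈ F.Hom Q :=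
    restrict_mem F hξ le_sup_right
  obtain ⟨D, ρ, hρ, hξQD, hD, κ₁, hκ₁, hρκ₁⟩ := hd.bring _ hξQF
  have hQD : ∀ q : ↥Q, (ξ.comp (Subgroup.inclusion (le_sup_right : Q ≤ P ⊔ Q))) q ∈ D :=
    fun q => hξQD ⟨q, rfl⟩
  have hρξQ : ∀ q : ↥Q, ρ ⟨(ξ.comp (Subgroup.inclusion (le_sup_right : Q ≤ P ⊔ Q))) q, hQD q⟩ =
      κ₁ q := fun q => hρκ₁ q _
  -- the action of elements of `P` on `ξ(Q)`
  have hPact : ∀ x : ↥P, ∃ κ ∈ K, ∀ q : ↥Q,
      ξ (Subgroup.inclusion le_sup_left x) *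
        (ξ.comp (Subgroup.inclusion (le_sup_right : Q ≤ P ⊔ Q))) q *
        (ξ (Subgroup.inclusion le_sup_left x))⁻¹ =
      (ξ.comp (Subgroup.inclusion (le_sup_right : Q ≤ P ⊔ Q))) (κ q) := by
    intro x
    obtain ⟨-, κ, hκ, hκx⟩ := (hd.mem_T x).mp (hP x.2)
    refine ⟨κ, hκ, fun q => ?_⟩
    show ξ (Subgroup.inclusion le_sup_left x) * ξ (Subgroup.inclusion le_sup_right q) *
      (ξ (Subgroup.inclusion le_sup_left x))⁻¹ = ξ (Subgroup.inclusion le_sup_right (κ q))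
    rw [← map_inv, ← map_mul, ← map_mul]
    congr 1
    exact Subtype.ext (hκx q)
  have hPD : ∀ x : ↥P, ξ (Subgroup.inclusion le_sup_left x) ∈ D := by
    intro x
    obtain ⟨κ, hκ, h⟩ := hPact x
    exact hD _ (hom_mem F hξ _) ⟨κ, hκ, h⟩
  have hXD : ∀ z : ↥(P ⊔ Q), ξ z ∈ D := mem_of_sup_induction (D.comap ξ) hPD hQD
  -- elements of the preNorm
  have hgdata : ∀ g ∈ preNorm S Y
      (U.map (MulAut.congr (equivOfRange ξ (F.injective_of_mem hξ) hr)).toMonoidHom),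
      ∃ α ∈ U, ∀ z : ↥(P ⊔ Q), g * ξ z * g⁻¹ = ξ (α z) := by
    intro g hg
    rw [mem_preNorm_iff] at hg
    obtain ⟨hgS, hgN, α, hα, hαg⟩ := hg
    refine ⟨α, hα, fun z => ?_⟩
    have h3 : ((conjAut Y ⟨g, hgN⟩ (equivOfRange ξ (F.injective_of_mem hξ) hr z) : ↥Y) : Ω) =
        g * ξ z * g⁻¹ := rfl
    rw [← h3, ← hαg]
    show (((equivOfRange ξ (F.injective_of_mem hξ) hr) (α ((equivOfRange ξ (F.injective_of_mem hξ) hr).symm
      ((equivOfRange ξ (F.injective_of_mem hξ) hr) z))) : ↥Y) : Ω) = ξ (α z)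
    rw [MulEquiv.symm_apply_apply]
    rfl
  have hgact : ∀ g ∈ preNorm S Y
      (U.map (MulAut.congr (equivOfRange ξ (F.injective_of_mem hξ) hr)).toMonoidHom),
      ∃ κ ∈ K, ∀ q : ↥Q, g * (ξ.comp (Subgroup.inclusion (le_sup_right : Q ≤ P ⊔ Q))) q * g⁻¹ =
        (ξ.comp (Subgroup.inclusion (le_sup_right : Q ≤ P ⊔ Q))) (κ q) := by
    intro g hg
    obtain ⟨α, hα, hαg⟩ := hgdata g hg
    obtain ⟨κ, hκ, hκα⟩ := AGrp_le_kPart F P Q K (hUA hα)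
    refine ⟨κ, hκ, fun q => ?_⟩
    show g * ξ (Subgroup.inclusion le_sup_right q) * g⁻¹ = ξ (Subgroup.inclusion le_sup_right (κ q))
    rw [hαg]
    congr 1
    exact Subtype.ext (hκα q)
  have hNBD : ∀ g ∈ preNorm S Y
      (U.map (MulAut.congr (equivOfRange ξ (F.injective_of_mem hξ) hr)).toMonoidHom), g ∈ D := by
    intro g hg
    obtain ⟨κ, hκ, h⟩ := hgact g hg
    exact hD g (preNorm_le S Y _ hg) ⟨κ, hκ, h⟩
  -- the new map
  obtain ⟨ξ', hξ', hξ'e⟩ := comp_hom F hξ hρ hXD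
  have hφ'F : ξ'.comp (Subgroup.inclusion (le_sup_left : P ≤ P ⊔ Q)) ∈ F.Hom P :=
    restrict_mem F hξ' le_sup_left
  have hφ'e : ∀ x : ↥P, (ξ'.comp (Subgroup.inclusion (le_sup_left : P ≤ P ⊔ Q))) x =
      ρ ⟨ξ (Subgroup.inclusion le_sup_left x), hPD x⟩ := fun x => hξ'e _
  have hφ'T : ∀ x : ↥P, (ξ'.comp (Subgroup.inclusion (le_sup_left : P ≤ P ⊔ Q))) x ∈ T := by
    intro x
    obtain ⟨κ, hκ, h⟩ := hPact x
    rw [hφ'e]
    exact hd.mem_T_of_transport hρ _ hQD hκ₁ hρξQ (hPD x) hκ h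
  have hφ'E : ξ'.comp (Subgroup.inclusion (le_sup_left : P ≤ P ⊔ Q)) ∈ E.Hom P := by
    rw [hd.mem_E]
    refine ⟨hφ'F, hP, hφ'T, ξ', hξ', fun x => rfl, κ₁, hκ₁, fun q => ?_⟩
    rw [hξ'e]
    exact hρξQ q
  have hconj : E.IsConj P (ξ'.comp (Subgroup.inclusion (le_sup_left : P ≤ P ⊔ Q))).range :=
    ⟨_, hφ'E, rfl⟩
  have hcard := hPn.2 _ hconj
  refine le_trans ?_ hcard
  have hP''T : (ξ'.comp (Subgroup.inclusion (le_sup_left : P ≤ P ⊔ Q))).range ≤ T := by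
    rintro _ ⟨x, rfl⟩
    exact hφ'T x
  have hfinP'' : Finite ↥(ξ'.comp (Subgroup.inclusion (le_sup_left : P ≤ P ⊔ Q))).range :=
    finite_of_le hP''T
  have hfinN : Finite ↥(normalizerIn T (ξ'.comp (Subgroup.inclusion (le_sup_left : P ≤ P ⊔ Q))).range) :=
    finite_normalizerIn _
  have hmem : ∀ g : ↥(preNorm S Y
      (U.map (MulAut.congr (equivOfRange ξ (F.injective_of_mem hξ) hr)).toMonoidHom)),
      ρ ⟨g, hNBD g g.2⟩ ∈
        normalizerIn T (ξ'.comp (Subgroup.inclusion (le_sup_left : P ≤ P ⊔ Q))).range := by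
    intro g
    refine ⟨?_, ?_⟩
    · obtain ⟨κ, hκ, h⟩ := hgact g g.2
      exact hd.mem_T_of_transport hρ _ hQD hκ₁ hρξQ (hNBD g g.2) hκ h
    · apply mem_normalizer_of_forall_conj_mem
      rintro _ ⟨x, rfl⟩
      obtain ⟨α, hα, hαg⟩ := hgdata g g.2
      have hstab := AGrp_le_stabSub F P Q K (hUA hα)
      have hαx : ((α (Subgroup.inclusion le_sup_left x) : ↥(P ⊔ Q)) : Ω) ∈ P :=
        apply_mem_of_mem_stabSub hstab (x := Subgroup.inclusion le_sup_left x) x.2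
      refine ⟨⟨_, hαx⟩, ?_⟩
      rw [hφ'e, hφ'e, ← map_inv, ← map_mul, ← map_mul]
      congr 1
      apply Subtype.ext
      show ξ (Subgroup.inclusion le_sup_left ⟨_, hαx⟩) = (g : Ω) * ξ (Subgroup.inclusion le_sup_left x) * (g : Ω)⁻¹
      rw [hαg]
      rfl
  apply Nat.card_le_card_of_injective (fun g : ↥(preNorm S Y
      (U.map (MulAut.congr (equivOfRange ξ (F.injective_of_mem hξ) hr)).toMonoidHom)) =>
    (⟨ρ ⟨g, hNBD g g.2⟩, hmem g⟩ :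
    ↥(normalizerIn T (ξ'.comp (Subgroup.inclusion (le_sup_left : P ≤ P ⊔ Q))).range)))
  intro g₁ g₂ h
  have h5 : ρ ⟨g₁, hNBD g₁ g₁.2⟩ = ρ ⟨g₂, hNBD g₂ g₂.2⟩ := congrArg Subtype.val h
  have h6 := F.injective_of_mem hρ h5
  have h7 : (g₁ : Ω) = g₂ := congrArg (fun z : ↥D => (z : Ω)) h6
  exact Subtype.ext h7

end Cfsg.Agent.Lib.Helper1.KN
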