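import Mathlib
import Cfsg.Agent.Lib.Helper1.KN4

set_option autoImplicit false

namespace Cfsg.Agent.Lib.Helper1.KN

open Cfsg Cfsg.FusionSystem Cfsg.Agent.Lib.Helper9

variable {Ω : Type*} [Group Ω] {S : Subgroup Ω}
variable {F : FusionSystem S} {Q : Subgroup Ω} {K : Subgroup (MulAut ↥Q)} {T : Subgroup Ω}
  {E : FusionSystem T}

theorem card_AS_mul [Finite S] (hd : KData F Q K T E) {P : Subgroup Ω} (hP : P ≤ T) :
    Nat.card ↥(AGrp F P Q K ⊓ autInducedBy S (P ⊔ Q) : Subgroup (MulAut ↥(P ⊔ Q))) *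
      Nat.card ↥(centralizerIn S (P ⊔ Q)) = Nat.card ↥(normalizerIn T P) := by
  rw [normalizerIn_eq_preNorm hd hP]
  exact card_preNorm S (P ⊔ Q) (AGrp F P Q K)

/-- if `P` is fully normalized in `E` then `PQ` is fully centralized in `F` -/
theorem sup_fullyCentralized [Finite S] {p : ℕ} [Fact p.Prime] (hS : IsPGroup p S)
    (hF : F.IsSaturated p) (hd : KData F Q K T E) {P : Subgroup Ω} (hP : P ≤ T)
    (hPn : E.IsFullyNormalized P) : F.IsFullyCentralized (P ⊔ Q) := by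
  have hXS := hd.sup_le hP
  have hfinX : Finite ↥(P ⊔ Q) := finite_of_le hXS
  obtain ⟨Y, hXY, hYn⟩ := exists_isConj_fullyNormalized F hXS
  have hYa := fullyAutomized_of_fullyNormalized hS F hF hYn
  have hYc := fullyCentralized_of_fullyNormalized hS F hF hYn
  have hASp : IsPGroup p
      ↥(AGrp F P Q K ⊓ autInducedBy S (P ⊔ Q) : Subgroup (MulAut ↥(P ⊔ Q))) :=
    (isPGroup_autInducedBy hS (P ⊔ Q)).to_le inf_le_right
  have h1 := card_mul_card_centralizerIn_le hd hP hPn hYa hXY inf_le_left hASp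
  rw [← card_AS_mul hd hP] at h1
  have hpos : 0 < Nat.card
      ↥(AGrp F P Q K ⊓ autInducedBy S (P ⊔ Q) : Subgroup (MulAut ↥(P ⊔ Q))) := Nat.card_pos
  have h2 : Nat.card ↥(centralizerIn S Y) ≤ Nat.card ↥(centralizerIn S (P ⊔ Q)) :=
    Nat.le_of_mul_le_mul_left h1 hpos
  refine ⟨hXS, fun X' hX' => ?_⟩
  have h3 : F.IsConj Y X' := isConj_trans F (isConj_symm F hXY) hX'
  exact (hYc.2 X' h3).trans h2

/-- `A ∩ Aut_S(PQ)` is a Sylow `p`-subgroup of `A` when `P` is fully normalized in `E` -/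
theorem exists_sylow_AS [Finite S] {p : ℕ} [Fact p.Prime] (hS : IsPGroup p S)
    (hF : F.IsSaturated p) (hd : KData F Q K T E) {P : Subgroup Ω} (hP : P ≤ T)
    (hPn : E.IsFullyNormalized P) :
    ∃ R₀ : Sylow p ↥(AGrp F P Q K), (R₀ : Subgroup ↥(AGrp F P Q K)) =
      (AGrp F P Q K ⊓ autInducedBy S (P ⊔ Q)).subgroupOf (AGrp F P Q K) := by
  have hXS := hd.sup_le hP
  have hfinX : Finite ↥(P ⊔ Q) := finite_of_le hXS
  obtain ⟨Y, hXY, hYn⟩ := exists_isConj_fullyNormalized F hXS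
  have hYa := fullyAutomized_of_fullyNormalized hS F hF hYn
  have hYc := fullyCentralized_of_fullyNormalized hS F hF hYn
  have hASp : IsPGroup p
      ↥(AGrp F P Q K ⊓ autInducedBy S (P ⊔ Q) : Subgroup (MulAut ↥(P ⊔ Q))) :=
    (isPGroup_autInducedBy hS (P ⊔ Q)).to_le inf_le_right
  apply sylowIn_of_card_le inf_le_left hASp
  intro U _ hUA hU
  have h1 := card_mul_card_centralizerIn_le hd hP hPn hYa hXY hUA hU
  rw [← card_AS_mul hd hP] at h1
  have h2 : Nat.card ↥(centralizerIn S (P ⊔ Q)) ≤ Nat.card ↥(centralizerIn S Y) :=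
    hYc.2 (P ⊔ Q) (isConj_symm F hXY)
  have hfinC : Finite ↥(centralizerIn S Y) := finite_centralizerIn Y
  have hpos : 0 < Nat.card ↥(centralizerIn S Y) := Nat.card_pos
  have h3 := h1.trans (Nat.mul_le_mul_left _ h2)
  exact Nat.le_of_mul_le_mul_right h3 hpos

/-- fully normalized subgroups of `E` are fully automized -/
theorem fullyAutomized_of_fullyNormalized_KData [Finite S] {p : ℕ} [Fact p.Prime]
    (hS : IsPGroup p S) (hF : F.IsSaturated p) (hd : KData F Q K T E) {P : Subgroup Ω}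
    (hPn : E.IsFullyNormalized P) : E.IsFullyAutomized p P := by
  have hP : P ≤ T := hPn.1
  refine ⟨hP, ?_⟩
  have hXS := hd.sup_le hP
  have hfinX : Finite ↥(P ⊔ Q) := finite_of_le hXS
  obtain ⟨R₀, hR₀⟩ := exists_sylow_AS hS hF hd hP hPn
  have hf : Function.Surjective
      ((resA F P Q K).codRestrict (E.autGroup P) (resA_mem_autGroup hd hP)) := by
    rintro ⟨β, hβ⟩
    obtain ⟨α, hα⟩ := exists_resA_eq hd hP hβ
    exact ⟨α, Subtype.ext hα⟩
  refine ⟨R₀.mapSurjective hf, ?_⟩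
  rw [Sylow.coe_mapSurjective, hR₀]
  ext β
  constructor
  · rintro ⟨α, hα, rfl⟩
    show resA F P Q K α ∈ autInducedBy T P
    exact resA_mem_autInducedBy hd hP α hα.2
  · intro hβ
    have hβ' : (β : MulAut ↥P) ∈ autInducedBy T P := hβ
    obtain ⟨α, hαS, hα⟩ := exists_resA_eq_of_mem_autInducedBy hd hP hβ'
    exact ⟨α, ⟨α.2, hαS⟩, Subtype.ext hα⟩

end Cfsg.Agent.Lib.Helper1.KN
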