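import Mathlib
import Cfsg.Agent.Lib.Helper1.KN5
import Cfsg.Agent.Lib.Helper9.ExtenderIff

set_option autoImplicit false

namespace Cfsg.Agent.Lib.Helper1.KN

open Cfsg Cfsg.FusionSystem Cfsg.Agent.Lib.Helper9

variable {Ω : Type*} [Group Ω] {S : Subgroup Ω}
variable {F : FusionSystem S} {Q : Subgroup Ω} {K : Subgroup (MulAut ↥Q)} {T : Subgroup Ω}
  {E : FusionSystem T}

/-- fully normalized subgroups of `E` are receptive -/
theorem receptive_of_fullyNormalized_KData [Finite S] {p : ℕ} [Fact p.Prime]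
    (hS : IsPGroup p S) (hF : F.IsSaturated p) (hd : KData F Q K T E) {P : Subgroup Ω}
    (hPn : E.IsFullyNormalized P) : E.IsReceptive P := by
  have hP : P ≤ T := hPn.1
  have hXS := hd.sup_le hP
  have hfinX : Finite ↥(P ⊔ Q) := finite_of_le hXS
  have hXc := sup_fullyCentralized hS hF hd hP hPn
  have hXr := receptive_of_fullyCentralized hS F hF hXc
  obtain ⟨R₀, hR₀⟩ := exists_sylow_AS hS hF hd hP hPn
  refine ⟨hP, ?_⟩
  intro R φ hφ hφr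
  obtain ⟨hφF, hRT, hφT, ψ₀, hψ₀, hψ₀R, κ₀, hκ₀, hψ₀Q⟩ := (hd.mem_E R φ).mp hφ
  have hRQS : R ⊔ Q ≤ S := hd.sup_le hRT
  have hfinRQ : Finite ↥(R ⊔ Q) := finite_of_le hRQS
  have hφP : ∀ x : ↥R, φ x ∈ P := fun x => hφr.le ⟨x, rfl⟩
  have hr₀ : ψ₀.range = P ⊔ Q := by
    apply le_antisymm
    · rintro _ ⟨z, rfl⟩
      exact mem_of_sup_induction ((P ⊔ Q).comap ψ₀)
        (fun x => by
          show ψ₀ _ ∈ P ⊔ Q
          rw [hψ₀R]
          exact (le_sup_left : P ≤ P ⊔ Q) (hφP x))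
        (fun q => by
          show ψ₀ _ ∈ P ⊔ Q
          rw [hψ₀Q]
          exact (le_sup_right : Q ≤ P ⊔ Q) (κ₀ q).2) z
    · apply _root_.sup_le
      · intro y hy
        obtain ⟨x, hx⟩ := hφr.ge hy
        exact ⟨Subgroup.inclusion le_sup_left x, by rw [hψ₀R, hx]⟩
      · intro y hy
        exact ⟨Subgroup.inclusion le_sup_right (κ₀⁻¹ ⟨y, hy⟩), by
          rw [hψ₀Q, MulAut.apply_inv_self]⟩
  have he₀R : ∀ x : ↥R, equivOfRange ψ₀ (F.injective_of_mem hψ₀) hr₀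
      (Subgroup.inclusion le_sup_left x) = Subgroup.inclusion le_sup_left ⟨φ x, hφP x⟩ :=
    fun x => Subtype.ext (hψ₀R x)
  have he₀Q : ∀ q : ↥Q, equivOfRange ψ₀ (F.injective_of_mem hψ₀) hr₀
      (Subgroup.inclusion le_sup_right q) = Subgroup.inclusion le_sup_right (κ₀ q) :=
    fun q => Subtype.ext (hψ₀Q q)
  have hγ : ∀ (n : ↥(Subgroup.normalizer ((R ⊔ Q : Subgroup Ω) : Set Ω))) (z : ↥(R ⊔ Q)),
      (MulAut.congr (equivOfRange ψ₀ (F.injective_of_mem hψ₀) hr₀) (conjAut (R ⊔ Q) n))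
        (equivOfRange ψ₀ (F.injective_of_mem hψ₀) hr₀ z) =
      equivOfRange ψ₀ (F.injective_of_mem hψ₀) hr₀ (conjAut (R ⊔ Q) n z) := by
    intro n z
    show equivOfRange ψ₀ (F.injective_of_mem hψ₀) hr₀ (conjAut (R ⊔ Q) n
      ((equivOfRange ψ₀ (F.injective_of_mem hψ₀) hr₀).symm
        (equivOfRange ψ₀ (F.injective_of_mem hψ₀) hr₀ z))) = _
    rw [MulEquiv.symm_apply_apply]
  -- the key facts on the automorphisms induced by elements of the extender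
  have key : ∀ n : ↥(Subgroup.normalizer ((R ⊔ Q : Subgroup Ω) : Set Ω)),
      (n : Ω) ∈ extender T R φ →
      (MulAut.congr (equivOfRange ψ₀ (F.injective_of_mem hψ₀) hr₀) (conjAut (R ⊔ Q) n) ∈
        AGrp F P Q K ∧ ∃ h ∈ T, ∀ x : ↥P,
        (((MulAut.congr (equivOfRange ψ₀ (F.injective_of_mem hψ₀) hr₀) (conjAut (R ⊔ Q) n))
          (Subgroup.inclusion le_sup_left x) : ↥(P ⊔ Q)) : Ω) = h * x * h⁻¹) := by
    intro n hn
    obtain ⟨hgT, hgNR, h, hhT, hh⟩ := (mem_extender_iff φ (n : Ω)).mp hn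
    obtain ⟨-, κg, hκg, hκgq⟩ := (hd.mem_T (n : Ω)).mp hgT
    have hγR : ∀ x : ↥R,
        (((MulAut.congr (equivOfRange ψ₀ (F.injective_of_mem hψ₀) hr₀) (conjAut (R ⊔ Q) n))
          (Subgroup.inclusion le_sup_left ⟨φ x, hφP x⟩) : ↥(P ⊔ Q)) : Ω) = h * φ x * h⁻¹ := by
      intro x
      have hgx : (n : Ω) * x * (n : Ω)⁻¹ ∈ R := conj_mem_of_mem_normalizer hgNR x.2
      have h1 : conjAut (R ⊔ Q) n (Subgroup.inclusion le_sup_left x) =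
          Subgroup.inclusion le_sup_left ⟨(n : Ω) * x * (n : Ω)⁻¹, hgx⟩ := rfl
      rw [← he₀R, hγ, h1, he₀R]
      exact hh x hgx
    refine ⟨⟨⟨?_, ?_⟩, ?_⟩, h, hhT, ?_⟩
    · apply congr_mem_autGroup F hψ₀ hr₀
      apply autInducedBy_le_autGroup F hRQS
      rw [mem_autInducedBy_iff]
      exact ⟨n, hd.T_le hgT, fun x => rfl⟩
    · apply mem_stabSub_of_forall
      intro y hy
      have hy' : (y : Ω) ∈ P := hy
      obtain ⟨x, hx⟩ := hφr.ge hy'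
      have hyx : y = Subgroup.inclusion le_sup_left ⟨φ x, hφP x⟩ := Subtype.ext hx.symm
      have hgx : (n : Ω) * x * (n : Ω)⁻¹ ∈ R := conj_mem_of_mem_normalizer hgNR x.2
      show (((MulAut.congr (equivOfRange ψ₀ (F.injective_of_mem hψ₀) hr₀) (conjAut (R ⊔ Q) n)) y :
        ↥(P ⊔ Q)) : Ω) ∈ P
      rw [hyx, hγR, ← hh x hgx]
      exact hφP _
    · refine ⟨κ₀ * κg * κ₀⁻¹, K.mul_mem (K.mul_mem hκ₀ hκg) (K.inv_mem hκ₀), fun q => ?_⟩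
      have h1 : (⟨(q : Ω), (le_sup_right : Q ≤ P ⊔ Q) q.2⟩ : ↥(P ⊔ Q)) =
          equivOfRange ψ₀ (F.injective_of_mem hψ₀) hr₀
            (Subgroup.inclusion le_sup_right (κ₀⁻¹ q)) := by
        rw [he₀Q, MulAut.apply_inv_self]
        rfl
      have h2 : conjAut (R ⊔ Q) n (Subgroup.inclusion le_sup_right (κ₀⁻¹ q)) =
          Subgroup.inclusion le_sup_right (κg (κ₀⁻¹ q)) := Subtype.ext (hκgq _)
      rw [h1, hγ, h2, he₀Q]
      rfl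
    · intro y
      obtain ⟨x, hx⟩ := hφr.ge y.2
      have hyx : y = ⟨φ x, hφP x⟩ := Subtype.ext hx.symm
      rw [hyx, hγR]
  -- the `p`-group `Γ`
  have hNT : extender T R φ ≤ T := (extender_le_normalizerIn R φ).trans inf_le_left
  have hΓp : IsPGroup p ↥((((extender T R φ).subgroupOf
      (Subgroup.normalizer ((R ⊔ Q : Subgroup Ω) : Set Ω))).map (conjAut (R ⊔ Q))).map
        (MulAut.congr (equivOfRange ψ₀ (F.injective_of_mem hψ₀) hr₀)).toMonoidHom) :=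
    (((isPGroup_of_le hS (hNT.trans hd.T_le)).comap_subtype).map _).map _
  have hΓA : (((extender T R φ).subgroupOf
      (Subgroup.normalizer ((R ⊔ Q : Subgroup Ω) : Set Ω))).map (conjAut (R ⊔ Q))).map
        (MulAut.congr (equivOfRange ψ₀ (F.injective_of_mem hψ₀) hr₀)).toMonoidHom ≤
      AGrp F P Q K := by
    rintro _ ⟨_, ⟨n, hn, rfl⟩, rfl⟩
    exact (key n hn).1
  have hΓ'p := hΓp.comap_subtype (K := AGrp F P Q K)
  have hΓ'le : ((((extender T R φ).subgroupOf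
      (Subgroup.normalizer ((R ⊔ Q : Subgroup Ω) : Set Ω))).map (conjAut (R ⊔ Q))).map
        (MulAut.congr (equivOfRange ψ₀ (F.injective_of_mem hψ₀) hr₀)).toMonoidHom).subgroupOf
          (AGrp F P Q K) ≤ (R₀ : Subgroup ↥(AGrp F P Q K)) ⊔ (resA F P Q K).ker := by
    intro γ hγmem
    obtain ⟨_, ⟨n, hn, rfl⟩, hnγ⟩ := hγmem
    obtain ⟨-, h, hhT, hh⟩ := key n hn
    have h1 : resA F P Q K γ ∈ autInducedBy T P := by
      rw [mem_autInducedBy_iff]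
      refine ⟨h, hhT, fun x => ?_⟩
      rw [resA_apply]
      have hnγ' : MulAut.congr (equivOfRange ψ₀ (F.injective_of_mem hψ₀) hr₀)
          (conjAut (R ⊔ Q) n) = (γ : MulAut ↥(P ⊔ Q)) := hnγ
      rw [← hnγ']
      exact hh x
    obtain ⟨a, haS, ha⟩ := exists_resA_eq_of_mem_autInducedBy hd hP h1
    have h2 : a⁻¹ * γ ∈ (resA F P Q K).ker := by
      rw [MonoidHom.mem_ker, map_mul, map_inv, ha, inv_mul_cancel]
    have h3 : a ∈ (R₀ : Subgroup ↥(AGrp F P Q K)) := by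
      rw [hR₀]
      exact ⟨a.2, haS⟩
    have h4 : γ = a * (a⁻¹ * γ) := by group
    rw [h4]
    exact Subgroup.mul_mem_sup h3 h2
  obtain ⟨n', hn'ker, hn'⟩ :=
    exists_conj_mem_sylow_of_le_sup_normal R₀ (resA F P Q K).ker hΓ'p hΓ'le
  -- the correcting automorphism `κ'`
  have hκ'P : ∀ x : ↥P, (((n' : MulAut ↥(P ⊔ Q)) (Subgroup.inclusion le_sup_left x) :
      ↥(P ⊔ Q)) : Ω) = x := by
    intro x
    have h1 : resA F P Q K n' = 1 := MonoidHom.mem_ker.mp hn'ker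
    have h2 := resA_apply F P Q K n' x
    rw [h1] at h2
    exact h2.symm
  obtain ⟨κk, hκk, hκkq⟩ := AGrp_le_kPart F P Q K n'.2
  have hκ'F : (n' : MulAut ↥(P ⊔ Q)) ∈ F.autGroup (P ⊔ Q) := AGrp_le_autGroup F P Q K n'.2
  obtain ⟨ψ₁, hψ₁, hψ₁e⟩ := comp_hom F hψ₀ (hom_of_mem_autGroup F hXS hκ'F)
    (fun z => hr₀.le ⟨z, rfl⟩)
  have hψ₁e' : ∀ z : ↥(R ⊔ Q), ψ₁ z = (((n' : MulAut ↥(P ⊔ Q))
      (equivOfRange ψ₀ (F.injective_of_mem hψ₀) hr₀ z) : ↥(P ⊔ Q)) : Ω) := fun z => hψ₁e z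
  have hψ₁R : ∀ x : ↥R, ψ₁ (Subgroup.inclusion le_sup_left x) = φ x := by
    intro x
    rw [hψ₁e', he₀R]
    exact hκ'P ⟨φ x, hφP x⟩
  have hψ₁Q : ∀ q : ↥Q, ψ₁ (Subgroup.inclusion le_sup_right q) = (κk * κ₀) q := by
    intro q
    rw [hψ₁e', he₀Q]
    exact hκkq (κ₀ q)
  have hr₁ : ψ₁.range = P ⊔ Q := by
    apply le_antisymm
    · rintro _ ⟨z, rfl⟩
      rw [hψ₁e']
      exact ((n' : MulAut ↥(P ⊔ Q)) _).2
    · intro y hy
      refine ⟨(equivOfRange ψ₀ (F.injective_of_mem hψ₀) hr₀).symm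
        ((n' : MulAut ↥(P ⊔ Q))⁻¹ ⟨y, hy⟩), ?_⟩
      rw [hψ₁e', MulEquiv.apply_symm_apply, MulAut.apply_inv_self]
  -- the extender of `φ` in `T` is inside the extender of `ψ₁` in `S`
  have hNM : extender T R φ ≤ extender S (R ⊔ Q) ψ₁ := by
    intro g hg
    obtain ⟨hgT, hgNR, -⟩ := (mem_extender_iff φ g).mp hg
    have hgNRQ : g ∈ Subgroup.normalizer ((R ⊔ Q : Subgroup Ω) : Set Ω) :=
      Subgroup.normalizer_inf_normalizer_le_normalizer_sup R Q ⟨hgNR, hd.T_le_normalizer hgT⟩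
    have hγΓ : MulAut.congr (equivOfRange ψ₀ (F.injective_of_mem hψ₀) hr₀)
        (conjAut (R ⊔ Q) ⟨g, hgNRQ⟩) ∈ (((extender T R φ).subgroupOf
      (Subgroup.normalizer ((R ⊔ Q : Subgroup Ω) : Set Ω))).map (conjAut (R ⊔ Q))).map
        (MulAut.congr (equivOfRange ψ₀ (F.injective_of_mem hψ₀) hr₀)).toMonoidHom :=
      ⟨_, ⟨⟨g, hgNRQ⟩, hg, rfl⟩, rfl⟩
    have hγA := hΓA hγΓ
    have h1 := hn' ⟨_, hγA⟩ hγΓ
    rw [hR₀] at h1
    have h2 : (n' : MulAut ↥(P ⊔ Q)) * MulAut.congr (equivOfRange ψ₀ (F.injective_of_mem hψ₀) hr₀)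
        (conjAut (R ⊔ Q) ⟨g, hgNRQ⟩) * (n' : MulAut ↥(P ⊔ Q))⁻¹ ∈ autInducedBy S (P ⊔ Q) := h1.2
    obtain ⟨s, hsS, hs⟩ := (mem_autInducedBy_iff S (P ⊔ Q) _).mp h2
    apply Subgroup.subset_closure
    refine ⟨hd.T_le hgT, hgNRQ, s, hsS, fun z hz => ?_⟩
    have h3 := hs ((n' : MulAut ↥(P ⊔ Q)) (equivOfRange ψ₀ (F.injective_of_mem hψ₀) hr₀ z))
    rw [hψ₁e', hψ₁e', ← h3]
    show _ = (((n' : MulAut ↥(P ⊔ Q)) ((MulAut.congr (equivOfRange ψ₀ (F.injective_of_mem hψ₀) hr₀)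
        (conjAut (R ⊔ Q) ⟨g, hgNRQ⟩)) ((n' : MulAut ↥(P ⊔ Q))⁻¹ ((n' : MulAut ↥(P ⊔ Q))
          (equivOfRange ψ₀ (F.injective_of_mem hψ₀) hr₀ z)))) : ↥(P ⊔ Q)) : Ω)
    rw [MulAut.inv_apply_self, hγ]
    rfl
  obtain ⟨ψ₂, hψ₂, hψ₂e⟩ := hXr.2 (R ⊔ Q) ψ₁ hψ₁ hr₁
  have hRQM : R ⊔ Q ≤ extender S (R ⊔ Q) ψ₁ :=
    le_extender hRQS ψ₁ (fun z => hom_mem F hψ₁ z)
  have hQM : ∀ q : ↥Q, Q.subtype q ∈ extender S (R ⊔ Q) ψ₁ :=
    fun q => hRQM ((le_sup_right : Q ≤ R ⊔ Q) q.2)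
  have hρζ : ∀ q : ↥Q, ψ₂ ⟨Q.subtype q, hQM q⟩ = (κk * κ₀) q := by
    intro q
    rw [← hψ₁Q q]
    exact hψ₂e q ((le_sup_right : Q ≤ R ⊔ Q) q.2) _
  have hκ₁ : κk * κ₀ ∈ K := K.mul_mem hκk hκ₀
  have hNQM : extender T R φ ⊔ Q ≤ extender S (R ⊔ Q) ψ₁ :=
    _root_.sup_le hNM (le_sup_right.trans hRQM)
  refine ⟨ψ₂.comp (Subgroup.inclusion hNM), ?_, ?_⟩
  · rw [hd.mem_E]
    refine ⟨restrict_mem F hψ₂ hNM, hNT, ?_, ψ₂.comp (Subgroup.inclusion hNQM),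
      restrict_mem F hψ₂ hNQM, fun x => rfl, κk * κ₀, hκ₁, fun q => ?_⟩
    · intro g
      obtain ⟨-, κg, hκg, hκgq⟩ := (hd.mem_T g).mp (hNT g.2)
      exact hd.mem_T_of_transport hψ₂ Q.subtype hQM hκ₁ hρζ (hNM g.2) hκg (fun q => hκgq q)
    · exact hρζ q
  · intro x hxR hxN
    show ψ₂ ⟨x, _⟩ = φ ⟨x, hxR⟩
    rw [← hψ₁R ⟨x, hxR⟩]
    exact hψ₂e x ((le_sup_left : R ≤ R ⊔ Q) hxR) _

/-- **Saturation of `K`-normalizer systems** -/
theorem saturated_of_KData [Finite S] {p : ℕ} [Fact p.Prime]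
    (hS : IsPGroup p S) (hF : F.IsSaturated p) (hd : KData F Q K T E) : E.IsSaturated p := by
  have hfinT : Finite ↥T := finite_of_le hd.T_le
  intro P₀ hP₀
  obtain ⟨P, hconj, hPn⟩ := exists_isConj_fullyNormalized E hP₀
  exact ⟨P, hconj, fullyAutomized_of_fullyNormalized_KData hS hF hd hPn,
    receptive_of_fullyNormalized_KData hS hF hd hPn⟩

end Cfsg.Agent.Lib.Helper1.KN
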