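import Mathlib
import Cfsg.Agent.Lib.Helper1.KN6

set_option autoImplicit false

namespace Cfsg.Agent.Lib.Helper1.KN

open Cfsg Cfsg.FusionSystem Cfsg.Agent.Lib.Helper9

variable {Ω : Type*} [Group Ω] {S : Subgroup Ω}

/-- for an injective map on `P ⊔ Q`: `ψ(Q) = Q` iff `ψ` induces an automorphism of `Q` -/
theorem map_eq_iff_exists_aut {P Q : Subgroup Ω} (ψ : ↥(P ⊔ Q) →* Ω)
    (hinj : Function.Injective ψ) :
    (Q.subgroupOf (P ⊔ Q)).map ψ = Q ↔
      ∃ κ ∈ (⊤ : Subgroup (MulAut ↥Q)), ∀ q : ↥Q,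
        ψ (Subgroup.inclusion le_sup_right q) = κ q := by
  constructor
  · intro h
    have hinj' : Function.Injective (ψ.comp (Subgroup.inclusion (le_sup_right : Q ≤ P ⊔ Q))) :=
      hinj.comp (Subgroup.inclusion_injective _)
    have hr : (ψ.comp (Subgroup.inclusion (le_sup_right : Q ≤ P ⊔ Q))).range = Q := by
      apply le_antisymm
      · rintro _ ⟨q, rfl⟩
        exact h.le ⟨Subgroup.inclusion le_sup_right q, q.2, rfl⟩
      · intro y hy
        obtain ⟨x, hx, rfl⟩ := h.ge hy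
        exact ⟨⟨x, hx⟩, rfl⟩
    exact ⟨equivOfRange _ hinj' hr, Subgroup.mem_top _, fun q => rfl⟩
  · rintro ⟨κ, -, hκ⟩
    apply le_antisymm
    · rintro _ ⟨x, hx, rfl⟩
      have hx1 : (x : Ω) ∈ Q := hx
      have : x = Subgroup.inclusion le_sup_right (⟨x, hx1⟩ : ↥Q) := rfl
      rw [this, hκ]
      exact (κ _).2
    · intro y hy
      refine ⟨Subgroup.inclusion le_sup_right (κ⁻¹ ⟨y, hy⟩), (κ⁻¹ ⟨y, hy⟩).2, ?_⟩
      rw [hκ, MulAut.apply_inv_self]

/-- the data of the normalizer system of a fully normalized subgroup -/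
theorem kdata_normalizer [Finite S] {p : ℕ} [Fact p.Prime] (hS : IsPGroup p S)
    (F : FusionSystem S) (hF : F.IsSaturated p) {Q : Subgroup Ω} (hQ : F.IsFullyNormalized Q)
    (E : FusionSystem (normalizerIn S Q)) (hE : F.IsNormalizerSystem Q E) :
    KData F Q ⊤ (normalizerIn S Q) E := by
  have hQS : Q ≤ S := hQ.1
  have hQa := fullyAutomized_of_fullyNormalized hS F hF hQ
  have hQc := fullyCentralized_of_fullyNormalized hS F hF hQ
  have hQr := receptive_of_fullyCentralized hS F hF hQc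
  refine ⟨hQS, ?_, ?_, ?_⟩
  · intro g
    constructor
    · intro hg
      exact ⟨hg.1, conjAut Q ⟨g, hg.2⟩, Subgroup.mem_top _, fun q => rfl⟩
    · rintro ⟨hgS, κ, -, hκ⟩
      exact ⟨hgS, mem_normalizer_of_induces κ (fun x => (hκ x).symm)⟩
  · intro P φ
    rw [hE P]
    constructor
    · rintro ⟨h1, h2, h3, ψ, hψ, hψP, hψQ⟩
      exact ⟨h1, h2, h3, ψ, hψ, hψP,
        (map_eq_iff_exists_aut ψ (F.injective_of_mem hψ)).mp hψQ⟩
    · rintro ⟨h1, h2, h3, ψ, hψ, hψP, hψQ⟩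
      exact ⟨h1, h2, h3, ψ, hψ, hψP,
        (map_eq_iff_exists_aut ψ (F.injective_of_mem hψ)).mpr hψQ⟩
  · intro ξ hξ
    have hQ'S : ξ.range ≤ S := range_le F hξ
    have hfinQ' : Finite ↥ξ.range := finite_of_le hQ'S
    have hconj : F.IsConj ξ.range Q := isConj_symm F ⟨ξ, hξ, rfl⟩
    obtain ⟨ρ, hρ, -, hρQ⟩ := exists_normalizer_hom hS F Q ξ.range hQa hQr hconj
    have hle : ξ.range ≤ normalizerIn S ξ.range := self_le_normalizerIn' hQ'S
    refine ⟨normalizerIn S ξ.range, ρ, hρ, hle, ?_, ?_⟩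
    · rintro g hgS ⟨κ, -, hκ⟩
      refine ⟨hgS, ?_⟩
      apply mem_normalizer_of_forall_conj_mem
      rintro _ ⟨q, rfl⟩
      rw [hκ]
      exact ⟨_, rfl⟩
    · have hξD : ∀ q : ↥Q, ξ q ∈ normalizerIn S ξ.range := fun q => hle ⟨q, rfl⟩
      obtain ⟨χ, hχ, hχe⟩ := comp_hom F hξ hρ hξD
      have hr : χ.range = Q := by
        apply le_antisymm
        · rintro _ ⟨q, rfl⟩
          rw [hχe]
          exact hρQ.le ⟨⟨ξ q, hξD q⟩, ⟨q, rfl⟩, rfl⟩
        · intro y hy
          obtain ⟨x, ⟨q, hq⟩, rfl⟩ := hρQ.ge hy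
          refine ⟨q, ?_⟩
          rw [hχe]
          congr 1
          exact Subtype.ext hq
      refine ⟨equivOfRange χ (F.injective_of_mem hχ) hr, Subgroup.mem_top _, fun q h => ?_⟩
      show ρ ⟨ξ q, h⟩ = χ q
      rw [hχe]

/-- **Normalizer systems of fully normalized subgroups are saturated.** -/
theorem normalizerSystem_saturated [Finite S] {p : ℕ} [Fact p.Prime] (hS : IsPGroup p S)
    (F : FusionSystem S) (hF : F.IsSaturated p) {Q : Subgroup Ω} (hQ : F.IsFullyNormalized Q)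
    (E : FusionSystem (normalizerIn S Q)) (hE : F.IsNormalizerSystem Q E) : E.IsSaturated p :=
  saturated_of_KData hS hF (kdata_normalizer hS F hF hQ E hE)

/-- the data of the centralizer system of a fully centralized subgroup -/
theorem kdata_centralizer [Finite S] {p : ℕ} [Fact p.Prime] (hS : IsPGroup p S)
    (F : FusionSystem S) (hF : F.IsSaturated p) {Q : Subgroup Ω} (hQ : F.IsFullyCentralized Q)
    (E : FusionSystem (centralizerIn S Q)) (hE : F.IsCentralizerSystem Q E) :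
    KData F Q ⊥ (centralizerIn S Q) E := by
  have hQS : Q ≤ S := hQ.1
  have hQr := receptive_of_fullyCentralized hS F hF hQ
  refine ⟨hQS, ?_, ?_, ?_⟩
  · intro g
    constructor
    · intro hg
      refine ⟨hg.1, 1, Subgroup.one_mem _, fun q => ?_⟩
      have h1 := (Subgroup.mem_centralizer_iff.mp hg.2) q q.2
      show g * (q : Ω) * g⁻¹ = q
      rw [← h1]
      group
    · rintro ⟨hgS, κ, hκ, hκq⟩
      rw [Subgroup.mem_bot] at hκ
      subst hκ
      refine ⟨hgS, ?_⟩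
      show g ∈ Subgroup.centralizer (Q : Set Ω)
      rw [Subgroup.mem_centralizer_iff]
      intro y hy
      have h1 : g * y * g⁻¹ = y := hκq ⟨y, hy⟩
      calc y * g = g * y * g⁻¹ * g := by rw [h1]
        _ = g * y := by group
  · intro P φ
    rw [hE P]
    constructor
    · rintro ⟨h1, h2, h3, ψ, hψ, hψP, hψQ⟩
      exact ⟨h1, h2, h3, ψ, hψ, hψP, 1, Subgroup.one_mem _, fun q => hψQ q⟩
    · rintro ⟨h1, h2, h3, ψ, hψ, hψP, κ, hκ, hψQ⟩
      rw [Subgroup.mem_bot] at hκ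
      subst hκ
      exact ⟨h1, h2, h3, ψ, hψ, hψP, fun q => hψQ q⟩
  · intro ξ hξ
    have hQ'S : ξ.range ≤ S := range_le F hξ
    obtain ⟨θ, hθ, hθξ, hθr, -⟩ := inv_hom F hξ rfl
    obtain ⟨ρ, hρ, hρθ⟩ := hQr.2 ξ.range θ hθ hθr
    have hle : ξ.range ≤ extender S ξ.range θ :=
      le_extender hQ'S θ (fun x => hom_mem F hθ x)
    refine ⟨extender S ξ.range θ, ρ, hρ, hle, ?_, 1, Subgroup.one_mem _, fun q h => ?_⟩
    · rintro g hgS ⟨κ, hκ, hκq⟩
      rw [Subgroup.mem_bot] at hκ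
      subst hκ
      apply centralizerIn_le_extender ξ.range θ
      refine ⟨hgS, ?_⟩
      show g ∈ Subgroup.centralizer (ξ.range : Set Ω)
      rw [Subgroup.mem_centralizer_iff]
      rintro _ ⟨q, rfl⟩
      have h1 : g * ξ q * g⁻¹ = ξ q := hκq q
      calc ξ q * g = g * ξ q * g⁻¹ * g := by rw [h1]
        _ = g * ξ q := by group
    · rw [hρθ (ξ q) ⟨q, rfl⟩ h]
      exact hθξ q _

/-- **Centralizer systems of fully centralized subgroups are saturated.** -/
theorem centralizerSystem_saturated [Finite S] {p : ℕ} [Fact p.Prime] (hS : IsPGroup p S)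
    (F : FusionSystem S) (hF : F.IsSaturated p) {Q : Subgroup Ω} (hQ : F.IsFullyCentralized Q)
    (E : FusionSystem (centralizerIn S Q)) (hE : F.IsCentralizerSystem Q E) : E.IsSaturated p :=
  saturated_of_KData hS hF (kdata_centralizer hS F hF hQ E hE)

end Cfsg.Agent.Lib.Helper1.KN
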