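import Mathlib
import Cfsg.Agent.Lib.Helper1.KN7
import Cfsg.Agent.Lib.Helper1.PCore
import Cfsg.Agent.Lib.Helper1.FStab4

set_option autoImplicit false

namespace Cfsg.Agent.Lib.Helper1.KN

open Cfsg Cfsg.FusionSystem Cfsg.Agent.Lib.Helper9

variable {Ω : Type*} [Group Ω] {S : Subgroup Ω}

/-- `R` is normal in its normalizer system -/
theorem normal_self_of_isNormalizerSystem [Finite S] (F : FusionSystem S) {R : Subgroup Ω}
    (hRS : R ≤ S) (E : FusionSystem (normalizerIn S R)) (hE : F.IsNormalizerSystem R E) :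
    E.IsNormal R := by
  refine ⟨self_le_normalizerIn' hRS, ?_⟩
  intro P φ hφ
  rw [hE P] at hφ
  obtain ⟨hφF, hPN, hφN, ψ, hψ, hψP, hψR⟩ := hφ
  refine ⟨ψ, ?_, hψP, hψR⟩
  rw [hE (P ⊔ R)]
  have hle : (P ⊔ R) ⊔ R ≤ P ⊔ R := _root_.sup_le le_rfl le_sup_right
  have hPRN : P ⊔ R ≤ normalizerIn S R := _root_.sup_le hPN (self_le_normalizerIn' hRS)
  have hfinR : Finite ↥R := finite_of_le hRS
  refine ⟨hψ, hPRN, ?_, ψ.comp (Subgroup.inclusion hle), restrict_mem F hψ hle,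
    fun x => rfl, ?_⟩
  · intro z
    refine ⟨hom_mem F hψ z, ?_⟩
    apply mem_normalizer_of_forall_conj_mem
    intro y hy
    obtain ⟨r, hr, rfl⟩ := hψR.ge hy
    rw [← map_inv, ← map_mul, ← map_mul]
    apply hψR.le
    refine ⟨_, ?_, rfl⟩
    show ((z * r * z⁻¹ : ↥(P ⊔ R)) : Ω) ∈ R
    exact conj_mem_of_mem_normalizer (hPRN z.2).2 hr
  · rw [map_subgroupOf_comp_inclusion_eq hle ψ le_sup_right]
    exact hψR

/-- an `F`-centric `R` is centric in its normalizer system -/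
theorem centric_self_of_isNormalizerSystem (F : FusionSystem S) {R : Subgroup Ω}
    (hRc : F.IsCentric R) (E : FusionSystem (normalizerIn S R))
    (hE : F.IsNormalizerSystem R E) : E.IsCentric R := by
  have hRS := hRc.1
  refine ⟨self_le_normalizerIn' hRS, ?_⟩
  rintro R' ⟨φ, hφ, rfl⟩
  rw [hE R] at hφ
  obtain ⟨hφF, -, -, ψ, hψ, hψP, hψR⟩ := hφ
  have hr : φ.range = R := by
    rw [← map_left_eq_range ψ φ hψP]
    exact hψR
  rw [hr]
  intro c hc
  exact hRc.2 R (isConj_refl F hRS) ⟨hc.1.1, hc.2⟩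

/-- a subgroup normal in a fusion system over `T` is normalized by `T` -/
theorem conj_mem_of_isNormal {T : Subgroup Ω} (E : FusionSystem T) {R : Subgroup Ω}
    (hR : E.IsNormal R) {n : Ω} (hn : n ∈ T) {x : Ω} (hx : x ∈ R) : n * x * n⁻¹ ∈ R := by
  have hφ : conjHom R n ∈ E.Hom R := E.conj_mem hR.1 hn
  obtain ⟨ψ, hψ, hψP, hψR⟩ := hR.2 R _ hφ
  have h1 : n * x * n⁻¹ = ψ (Subgroup.inclusion le_sup_left ⟨x, hx⟩) := by
    rw [hψP]
    rfl
  rw [h1]
  exact hψR.le ⟨_, hx, rfl⟩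

section model

variable {T : Subgroup Ω} {G : Type*} [Group G]

/-- in a model, subgroups normal in the fusion system are normal in the group -/
theorem map_normal_of_isModel (p : ℕ) [Fact p.Prime] (E : FusionSystem T)
    (ι : ↥T →* G) (hG : E.IsModel p G ι) {R : Subgroup Ω} (hR : E.IsNormal R) :
    ((R.subgroupOf T).map ι).Normal := by
  obtain ⟨hfin, ⟨hinj, hreal⟩, ⟨Sy, hSy⟩, hcent⟩ := hG
  have hRT : R ≤ T := hR.1
  have hU₀T : ((pCore p G).comap ι).map T.subtype ≤ T := by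
    rintro _ ⟨x, -, rfl⟩
    exact x.2
  have hU₀mem : ∀ x : ↥T, (x : Ω) ∈ ((pCore p G).comap ι).map T.subtype ↔ ι x ∈ pCore p G := by
    intro x
    constructor
    · rintro ⟨y, hy, hyx⟩
      have : y = x := Subtype.ext hyx
      rw [← this]
      exact hy
    · intro h
      exact ⟨x, h, rfl⟩
  have hUle : pCore p G ≤ ι.range := by
    rw [← hSy]
    exact pCore_le_sylow p Sy
  have hUnorm : (pCore p G).Normal := pCore_normal p
  constructor
  intro y hy g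
  obtain ⟨r, hr, rfl⟩ := hy
  have hr' : (r : Ω) ∈ R := hr
  -- conjugation by `g` on the preimage of `O_p(G)`
  have hcmem : ∀ x : ↥(((pCore p G).comap ι).map T.subtype),
      ((MulAut.conj g).toMonoidHom.comp (ι.comp (Subgroup.inclusion hU₀T))) x ∈ ι.range := by
    intro x
    apply hUle
    exact hUnorm.conj_mem _ ((hU₀mem (Subgroup.inclusion hU₀T x)).mp x.2) g
  have hφT : ∀ x : ↥(((pCore p G).comap ι).map T.subtype),
      (T.subtype.comp ((MonoidHom.ofInjective hinj).symm.toMonoidHom.comp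
        (((MulAut.conj g).toMonoidHom.comp (ι.comp (Subgroup.inclusion hU₀T))).codRestrict
          ι.range hcmem))) x ∈ T := fun x => Subtype.property _
  have hφι : ∀ x : ↥(((pCore p G).comap ι).map T.subtype),
      ι ⟨(T.subtype.comp ((MonoidHom.ofInjective hinj).symm.toMonoidHom.comp
        (((MulAut.conj g).toMonoidHom.comp (ι.comp (Subgroup.inclusion hU₀T))).codRestrict
          ι.range hcmem))) x, hφT x⟩ = g * ι ⟨x, hU₀T x.2⟩ * g⁻¹ := by
    intro x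
    have h1 := (MonoidHom.ofInjective hinj).apply_symm_apply
      ((((MulAut.conj g).toMonoidHom.comp (ι.comp (Subgroup.inclusion hU₀T))).codRestrict
          ι.range hcmem) x)
    exact congrArg Subtype.val h1
  have hφE := (hreal _ hU₀T _ hφT).mpr ⟨g, hφι⟩
  obtain ⟨ψ, hψ, hψU, hψR⟩ := hR.2 _ _ hφE
  have hψT : ∀ z, ψ z ∈ T := fun z => hom_mem E hψ z
  have hUR : ((pCore p G).comap ι).map T.subtype ⊔ R ≤ T := _root_.sup_le hU₀T hRT
  obtain ⟨h, hh⟩ := (hreal _ hUR ψ hψT).mp hψ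
  -- `h⁻¹ g` centralizes `O_p(G)`
  have hu : h⁻¹ * g ∈ Subgroup.centralizer ((pCore p G : Subgroup G) : Set G) := by
    rw [Subgroup.mem_centralizer_iff]
    intro v hv
    obtain ⟨x, rfl⟩ := hUle hv
    have hx : (x : Ω) ∈ ((pCore p G).comap ι).map T.subtype := (hU₀mem x).mpr hv
    have h1 := hφι ⟨x, hx⟩
    have h2 := hh (Subgroup.inclusion le_sup_left ⟨x, hx⟩)
    have h3 : (⟨ψ (Subgroup.inclusion le_sup_left ⟨x, hx⟩), hψT _⟩ : ↥T) =
        ⟨_, hφT ⟨x, hx⟩⟩ := Subtype.ext (hψU ⟨x, hx⟩)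
    rw [h3, h1] at h2
    have h4 : g * ι x * g⁻¹ = h * ι x * h⁻¹ := h2
    calc ι x * (h⁻¹ * g) = h⁻¹ * (h * ι x * h⁻¹) * g := by group
      _ = h⁻¹ * (g * ι x * g⁻¹) * g := by rw [h4]
      _ = h⁻¹ * g * ι x := by group
  have huU := hcent hu
  obtain ⟨n, hn⟩ := hUle huU
  have hnU₀ : (n : Ω) ∈ ((pCore p G).comap ι).map T.subtype := (hU₀mem n).mpr (by rw [hn]; exact huU)
  have hnr : (n : Ω) * r * (n : Ω)⁻¹ ∈ R := conj_mem_of_isNormal E hR n.2 hr'
  have hz : (n : Ω) * r * (n : Ω)⁻¹ ∈ ((pCore p G).comap ι).map T.subtype ⊔ R :=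
    (le_sup_right : R ≤ _) hnr
  refine ⟨⟨ψ ⟨_, hz⟩, hψT _⟩, ?_, ?_⟩
  · show ψ ⟨_, hz⟩ ∈ R
    exact hψR.le ⟨⟨_, hz⟩, hnr, rfl⟩
  · rw [hh ⟨_, hz⟩]
    have h5 : (⟨(n : Ω) * r * (n : Ω)⁻¹, hUR hz⟩ : ↥T) = n * r * n⁻¹ := rfl
    rw [h5, map_mul, map_mul, map_inv, hn]
    group

/-- in a model, `O_p(G)` lies in the image of every radical subgroup containing its centralizer
whose image is normal -/
theorem pCore_le_map_of_radical [Finite T] (p : ℕ) [Fact p.Prime] (hT : IsPGroup p T)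
    (E : FusionSystem T) (ι : ↥T →* G) (hG : E.IsModel p G ι) {R : Subgroup Ω}
    (hRr : E.IsRadical p R) (hRc : centralizerIn T R ≤ R)
    (hRnorm : ((R.subgroupOf T).map ι).Normal) :
    pCore p G ≤ (R.subgroupOf T).map ι := by
  obtain ⟨hfin, ⟨hinj, hreal⟩, ⟨Sy, hSy⟩, hcent⟩ := hG
  have hRT : R ≤ T := hRr.1
  have hfinR : Finite ↥R := finite_of_le hRT
  have hU₀T : ((pCore p G).comap ι).map T.subtype ≤ T := by
    rintro _ ⟨x, -, rfl⟩
    exact x.2
  have hU₀mem : ∀ x : ↥T, (x : Ω) ∈ ((pCore p G).comap ι).map T.subtype ↔ ι x ∈ pCore p G := by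
    intro x
    constructor
    · rintro ⟨y, hy, hyx⟩
      have : y = x := Subtype.ext hyx
      rw [← this]
      exact hy
    · intro h
      exact ⟨x, h, rfl⟩
  have hUle : pCore p G ≤ ι.range := by
    rw [← hSy]
    exact pCore_le_sylow p Sy
  have hUnorm : (pCore p G).Normal := pCore_normal p
  -- `T` normalizes `R`
  have hTR : ∀ n : ↥T, ∀ x : ↥R, (n : Ω) * x * (n : Ω)⁻¹ ∈ R := by
    intro n x
    have h1 : ι (n * ⟨x, hRT x.2⟩ * n⁻¹) ∈ (R.subgroupOf T).map ι := by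
      rw [map_mul, map_mul, map_inv]
      exact hRnorm.conj_mem _ ⟨⟨x, hRT x.2⟩, x.2, rfl⟩ _
    obtain ⟨y, hy, hyx⟩ := h1
    have h2 := hinj hyx
    have hy' : (y : Ω) ∈ R := hy
    rw [h2] at hy'
    exact hy'
  have hTN : T ≤ Subgroup.normalizer (R : Set Ω) := by
    intro n hn
    apply mem_normalizer_of_forall_conj_mem
    intro y hy
    exact hTR ⟨n, hn⟩ ⟨y, hy⟩
  have hVA : autInducedBy (((pCore p G).comap ι).map T.subtype) R ≤ E.autGroup R :=
    (autInducedBy_mono hU₀T R).trans (autInducedBy_le_autGroup E hRT)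
  have hVp : IsPGroup p ↥(autInducedBy (((pCore p G).comap ι).map T.subtype) R) :=
    (isPGroup_autInducedBy hT R).to_le (autInducedBy_mono hU₀T R)
  have hVn : ((autInducedBy (((pCore p G).comap ι).map T.subtype) R).subgroupOf
      (E.autGroup R)).Normal := by
    constructor
    intro v hv α
    have hv' : (v : MulAut ↥R) ∈ autInducedBy (((pCore p G).comap ι).map T.subtype) R := hv
    show (α : MulAut ↥R) * v * (α : MulAut ↥R)⁻¹ ∈
      autInducedBy (((pCore p G).comap ι).map T.subtype) R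
    obtain ⟨u₀, hu₀, hvu⟩ := (mem_autInducedBy_iff _ R _).mp hv'
    have hα := hom_of_mem_autGroup E hRT α.2
    obtain ⟨g, hg⟩ := (hreal R hRT _ (fun x => hRT ((α : MulAut ↥R) x).2)).mp hα
    have hg' : ∀ x : ↥R, ι ⟨(((α : MulAut ↥R) x : ↥R) : Ω), hRT ((α : MulAut ↥R) x).2⟩ =
        g * ι ⟨x, hRT x.2⟩ * g⁻¹ := hg
    have hu' : g * ι ⟨u₀, hU₀T hu₀⟩ * g⁻¹ ∈ pCore p G :=
      hUnorm.conj_mem _ ((hU₀mem ⟨u₀, hU₀T hu₀⟩).mp hu₀) g
    obtain ⟨n', hn'⟩ := hUle hu'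
    have hn'U₀ : (n' : Ω) ∈ ((pCore p G).comap ι).map T.subtype :=
      (hU₀mem n').mpr (by rw [hn']; exact hu')
    rw [mem_autInducedBy_iff]
    refine ⟨n', hn'U₀, fun x => ?_⟩
    show ((((α : MulAut ↥R) ((v : MulAut ↥R) ((α : MulAut ↥R)⁻¹ x))) : ↥R) : Ω) = _
    have hinjT : (⟨_, hRT ((α : MulAut ↥R) ((v : MulAut ↥R) ((α : MulAut ↥R)⁻¹ x))).2⟩ : ↥T) =
        n' * ⟨x, hRT x.2⟩ * n'⁻¹ := by
      apply hinj
      rw [hg', map_mul, map_mul, map_inv, hn']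
      have h1 : (⟨(((v : MulAut ↥R) ((α : MulAut ↥R)⁻¹ x) : ↥R) : Ω),
          hRT ((v : MulAut ↥R) ((α : MulAut ↥R)⁻¹ x)).2⟩ : ↥T) =
          ⟨u₀, hU₀T hu₀⟩ * ⟨(((α : MulAut ↥R)⁻¹ x : ↥R) : Ω), hRT ((α : MulAut ↥R)⁻¹ x).2⟩ *
            ⟨u₀, hU₀T hu₀⟩⁻¹ := Subtype.ext (hvu _)
      rw [h1, map_mul, map_mul, map_inv]
      have h2 := hg' ((α : MulAut ↥R)⁻¹ x)
      have h3 : (⟨(((α : MulAut ↥R) ((α : MulAut ↥R)⁻¹ x) : ↥R) : Ω),
          hRT ((α : MulAut ↥R) ((α : MulAut ↥R)⁻¹ x)).2⟩ : ↥T) = ⟨x, hRT x.2⟩ := by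
        apply Subtype.ext
        show (((α : MulAut ↥R) ((α : MulAut ↥R)⁻¹ x) : ↥R) : Ω) = x
        rw [MulAut.apply_inv_self]
      rw [h3] at h2
      rw [h2]
      group
    exact congrArg Subtype.val hinjT
  have h1 := le_pCore hVn (hVp.comap_subtype)
  have h2 : autInducedBy (((pCore p G).comap ι).map T.subtype) R ≤ Inn ↥R := by
    intro v hv
    rw [← hRr.2]
    exact ⟨⟨v, hVA hv⟩, h1 hv, rfl⟩
  intro u hu
  obtain ⟨n, rfl⟩ := hUle hu
  have hnU₀ : (n : Ω) ∈ ((pCore p G).comap ι).map T.subtype := (hU₀mem n).mpr hu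
  refine ⟨n, ?_, rfl⟩
  show (n : Ω) ∈ R
  have hnN : (n : Ω) ∈ Subgroup.normalizer (R : Set Ω) := hTN n.2
  have hv : conjAut R ⟨n, hnN⟩ ∈ autInducedBy (((pCore p G).comap ι).map T.subtype) R := by
    rw [mem_autInducedBy_iff]
    exact ⟨n, hnU₀, fun x => rfl⟩
  obtain ⟨r, hr⟩ := h2 hv
  have hrn : ∀ x : ↥R, (r : Ω) * x * (r : Ω)⁻¹ = (n : Ω) * x * (n : Ω)⁻¹ := by
    intro x
    have := congrArg (fun β : MulAut ↥R => ((β x : ↥R) : Ω)) hr
    exact this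
  have hc : (r : Ω)⁻¹ * n ∈ centralizerIn T R := by
    refine ⟨T.mul_mem (T.inv_mem (hRT r.2)) n.2, ?_⟩
    show (r : Ω)⁻¹ * n ∈ Subgroup.centralizer (R : Set Ω)
    rw [Subgroup.mem_centralizer_iff]
    intro y hy
    have h3 := hrn ⟨y, hy⟩
    have h4 : (r : Ω) * y * (r : Ω)⁻¹ = (n : Ω) * y * (n : Ω)⁻¹ := h3
    calc y * ((r : Ω)⁻¹ * n) = (r : Ω)⁻¹ * ((r : Ω) * y * (r : Ω)⁻¹) * n := by group
      _ = (r : Ω)⁻¹ * ((n : Ω) * y * (n : Ω)⁻¹) * n := by rw [h4]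
      _ = (r : Ω)⁻¹ * n * y := by group
  have h5 := hRc hc
  have h6 : (n : Ω) = r * ((r : Ω)⁻¹ * n) := by group
  rw [h6]
  exact R.mul_mem r.2 h5

end model

/-- **S5126** -/
theorem normalizer_centric_radical_constrained [Finite S] (p : ℕ) [Fact p.Prime]
    (hS : IsPGroup p S) (F : FusionSystem S) (hF : F.IsSaturated p) (R : Subgroup Ω)
    (hRn : F.IsFullyNormalized R) (hRc : F.IsCentric R) (hRr : F.IsRadical p R)
    (E : FusionSystem (normalizerIn S R)) (hE : F.IsNormalizerSystem R E) {G : Type*} [Group G]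
    (ι : ↥(normalizerIn S R) →* G) :
    E.IsConstrained p ∧ (E.IsModel p G ι →
      (pCore p G : Subgroup G) = (R.subgroupOf (normalizerIn S R)).map ι) := by
  have hRS := hRn.1
  have hEsat := normalizerSystem_saturated hS F hF hRn E hE
  have hRnormal := normal_self_of_isNormalizerSystem F hRS E hE
  have hRcentric := centric_self_of_isNormalizerSystem F hRc E hE
  refine ⟨⟨hEsat, R, hRnormal, hRcentric⟩, fun hG => ?_⟩
  have hfinN : Finite ↥(normalizerIn S R) := finite_normalizerIn R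
  have hnorm := map_normal_of_isModel p E ι hG hRnormal
  apply le_antisymm
  · apply pCore_le_map_of_radical p (isPGroup_of_le hS (normalizerIn_le S R)) E ι hG ?_ ?_ hnorm
    · refine ⟨self_le_normalizerIn' hRS, ?_⟩
      rw [Cfsg.Agent.Lib.Helper1.FStab.autGroup_normalizerSystem_self F hRS E hE]
      exact hRr.2
    · intro c hc
      exact hRc.2 R (isConj_refl F hRS) ⟨hc.1.1, hc.2⟩
  · apply le_pCore hnorm
    exact ((isPGroup_of_le hS hRS).comap_subtype).map _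

end Cfsg.Agent.Lib.Helper1.KN
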