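import Mathlib
import Cfsg.Agent.Lib.Helper1.KL0
import Cfsg.Agent.Lib.Helper9.AlperinCor
import Cfsg.Agent.Lib.Helper9.NormalCrit
import Cfsg.Agent.Lib.Helper9.NormalSeries
import Cfsg.Agent.Lib.Helper9.Solvable5
import Cfsg.Agent.Lib.Helper9.CentricAgree
import Cfsg.Agent.Lib.Helper1.KN8
import Cfsg.Agent.S5083
import Cfsg.Agent.S5096
import Cfsg.Agent.S5098

set_option autoImplicit false
set_option linter.style.haveILetI false
set_option linter.unusedSectionVars false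
set_option linter.unusedVariables false

/-! Kessar–Linckelmann reduction, part 1: non-inner systems and automorphisms that are not
`p`-elements. -/

namespace Cfsg.Agent.Lib.Helper1.KL

open Cfsg Cfsg.FusionSystem Cfsg.Agent.Lib.Helper9 Cfsg.Agent.Lib.Helper1.KN

variable {Ω : Type*} [Group Ω] {S : Subgroup Ω}

/-- the system is the inner system -/
def InnerOn {T : Subgroup Ω} (E : FusionSystem T) : Prop :=
  ∀ P : Subgroup Ω, E.Hom P = (innerFusionSystem T).Hom P

theorem mem_inner_iff {T P : Subgroup Ω} (φ : P →* Ω) :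
    φ ∈ (innerFusionSystem T).Hom P ↔ P ≤ T ∧ ∃ g ∈ T, ∀ x : P, φ x = g * (x : Ω) * g⁻¹ :=
  Iff.rfl

/-- some overgroup `Y` of `R` in `N_S(R)` has an `F`-automorphism normalizing `R` that is not a
`p`-element -/
def Bad (F : FusionSystem S) (p : ℕ) (R : Subgroup Ω) : Prop :=
  ∃ (Y : Subgroup Ω) (α : MulAut Y), R ≤ Y ∧ Y ≤ normalizerIn S R ∧ α ∈ F.autGroup Y ∧
    (∀ y : Y, (y : Ω) ∈ R → ((α y : Y) : Ω) ∈ R) ∧ ∀ k : ℕ, α ^ (p ^ k) ≠ 1

theorem range_subtype_comp_aut {Y : Subgroup Ω} (α : MulAut Y) :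
    (Y.subtype.comp α.toMonoidHom).range = Y := by
  ext x
  constructor
  · rintro ⟨y, rfl⟩
    exact (α y).2
  · intro hx
    refine ⟨α⁻¹ ⟨x, hx⟩, ?_⟩
    show ((α (α⁻¹ ⟨x, hx⟩) : Y) : Ω) = x
    rw [MulAut.apply_inv_self]

theorem hom_of_normalizerSystem (F : FusionSystem S) {R : Subgroup Ω}
    (E : FusionSystem (normalizerIn S R)) (hE : F.IsNormalizerSystem R E) {P : Subgroup Ω}
    {φ : P →* Ω} (h : φ ∈ E.Hom P) : φ ∈ F.Hom P := by
  rw [hE P] at h
  exact h.1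

theorem isSubsystemOf_normalizerSystem (F : FusionSystem S) {R : Subgroup Ω}
    (E : FusionSystem (normalizerIn S R)) (hE : F.IsNormalizerSystem R E) : E.IsSubsystemOf F :=
  fun _ _ h => hom_of_normalizerSystem F E hE h

theorem normalizerIn_eq_of_forall {X : Subgroup Ω} [Finite X]
    (h : ∀ s ∈ S, ∀ x ∈ X, s * x * s⁻¹ ∈ X) : normalizerIn S X = S :=
  le_antisymm (normalizerIn_le S X)
    (fun s hs => ⟨hs, KN.mem_normalizer_of_forall_conj_mem (h s hs)⟩)

theorem conj_mem_of_normalizerIn_eq {X : Subgroup Ω} (h : normalizerIn S X = S) {s x : Ω}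
    (hs : s ∈ S) (hx : x ∈ X) : s * x * s⁻¹ ∈ X := by
  have h1 : s ∈ normalizerIn S X := by rw [h]; exact hs
  exact (Subgroup.mem_normalizer_iff.mp h1.2 x).mp hx

theorem fullyNormalized_of_normalizerIn_eq [Finite S] (F : FusionSystem S) {X : Subgroup Ω}
    (hXS : X ≤ S) (h : normalizerIn S X = S) : F.IsFullyNormalized X :=
  ⟨hXS, fun Q _ => by rw [h]; exact Subgroup.card_le_of_le (normalizerIn_le S Q)⟩

/-- a system with an automorphism that is not a `p`-element is not inner -/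
theorem not_innerOn_of_aut {T : Subgroup Ω} {p : ℕ} (hT : IsPGroup p T) (E : FusionSystem T)
    {Y : Subgroup Ω} (hY : Y ≤ T) {α : MulAut Y} (hα : α ∈ E.autGroup Y)
    (hαp : ∀ k : ℕ, α ^ (p ^ k) ≠ 1) : ¬ InnerOn E := by
  intro hin
  have h1 := hom_of_mem_autGroup E hY hα
  rw [hin Y] at h1
  obtain ⟨-, t, ht, hφ⟩ := h1
  obtain ⟨k, hk⟩ := hT ⟨t, ht⟩
  have hk' : t ^ (p ^ k) = 1 := by
    have := congrArg Subtype.val hk
    simpa using this
  apply hαp k
  apply MulEquiv.ext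
  intro y
  apply Subtype.ext
  rw [pow_conj α t (fun y => hφ y) (p ^ k) y, hk']
  simp

/-- Frobenius: a saturated system that is not inner has an automorphism that is not a
`p`-element -/
theorem exists_aut_of_not_innerOn {T : Subgroup Ω} [Finite T] {p : ℕ} [Fact p.Prime]
    (hT : IsPGroup p T) (E : FusionSystem T) (hE : E.IsSaturated p) (h : ¬ InnerOn E) :
    ∃ (Y : Subgroup Ω) (α : MulAut Y), Y ≤ T ∧ α ∈ E.autGroup Y ∧ ∀ k : ℕ, α ^ (p ^ k) ≠ 1 := by
  by_contra hcon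
  apply h
  have hpg : ∀ P : Subgroup Ω, P ≤ T → IsPGroup p (E.autGroup P) := by
    intro P hP a
    by_contra hk
    apply hcon
    refine ⟨P, a.1, hP, a.2, fun k hk' => hk ⟨k, ?_⟩⟩
    apply Subtype.ext
    rw [Subgroup.coe_pow]
    exact hk'
  have h1 := Cfsg.Agent.S5083.result p hT E hE hpg
  intro P
  rw [h1]

theorem mem_normalizerHom_of_aut [Finite S] (F : FusionSystem S) {R Y : Subgroup Ω} (hRY : R ≤ Y)
    (hYN : Y ≤ normalizerIn S R) {α : MulAut Y} (hα : α ∈ F.autGroup Y)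
    (hαR : ∀ y : Y, (y : Ω) ∈ R → ((α y : Y) : Ω) ∈ R) :
    Y.subtype.comp α.toMonoidHom ∈ F.normalizerHom R Y := by
  have hYS : Y ≤ S := hYN.trans (normalizerIn_le S R)
  have hφ := hom_of_mem_autGroup F hYS hα
  have hle : Y ⊔ R ≤ Y := _root_.sup_le le_rfl hRY
  haveI : Finite R := finite_of_le (hRY.trans hYS)
  refine ⟨hφ, hYN, fun y => hYN (α y).2,
    (Y.subtype.comp α.toMonoidHom).comp (Subgroup.inclusion hle),
    restrict_mem F hφ hle, fun x => rfl, ?_⟩
  rw [map_subgroupOf_comp_inclusion_eq hle _ le_sup_right]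
  exact map_eq_of_forall_mem _ (F.injective_of_mem hφ) hRY hαR

/-- if the normalizer system of a fully normalized `R` is not inner then `R` is bad -/
theorem bad_of_not_innerOn [Finite S] {p : ℕ} [Fact p.Prime] (hS : IsPGroup p S)
    (F : FusionSystem S) (hF : F.IsSaturated p) {R : Subgroup Ω} (hR : F.IsFullyNormalized R)
    (N : FusionSystem (normalizerIn S R)) (hN : F.IsNormalizerSystem R N) (hni : ¬ InnerOn N) :
    Bad F p R := by
  have hRS := hR.1
  haveI := finite_normalizerIn (S := S) R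
  have hNsat := Cfsg.Agent.S5098.result p hS F hF R hR N hN
  have hTp : IsPGroup p (normalizerIn S R) := isPGroup_of_le hS (normalizerIn_le S R)
  obtain ⟨Y₀, α₀, hY₀, hα₀, hα₀p⟩ := exists_aut_of_not_innerOn hTp N hNsat hni
  have h1 := hom_of_mem_autGroup N hY₀ hα₀
  rw [hN Y₀] at h1
  obtain ⟨h1F, -, -, ψ, hψ, hψext, hψR⟩ := h1
  have hrange : ψ.range = Y₀ ⊔ R := by
    rw [range_ext_eq ψ _ hψext hψR, range_subtype_comp_aut]
  obtain ⟨α, hα, hαψ⟩ := exists_aut_of_hom F hψ hrange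
  refine ⟨Y₀ ⊔ R, α, le_sup_right, _root_.sup_le hY₀ (self_le_normalizerIn' hRS), hα, ?_, ?_⟩
  · intro y hy
    rw [hαψ]
    exact hψR.le ⟨y, Subgroup.mem_subgroupOf.mpr hy, rfl⟩
  · intro k hk
    apply hα₀p k
    apply MulEquiv.ext
    intro y
    apply Subtype.ext
    have h2 := pow_ext (le_sup_left : Y₀ ≤ Y₀ ⊔ R) α α₀
      (fun y => by rw [hαψ, hψext]; rfl) (p ^ k) y
    rw [← h2, hk]
    rfl

/-- transport of badness along a map of the system defined on `N_S(U)` -/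
theorem bad_transport (F : FusionSystem S) {p : ℕ} {U U' : Subgroup Ω} (hb : Bad F p U)
    {χ : ↥(normalizerIn S U) →* Ω} (hχ : χ ∈ F.Hom (normalizerIn S U))
    (hχN : ∀ x, χ x ∈ normalizerIn S U')
    (hχU : (U.subgroupOf (normalizerIn S U)).map χ = U') : Bad F p U' := by
  obtain ⟨Y, α, hUY, hYN, hα, hαU, hαp⟩ := hb
  have hχYmem : χ.comp (Subgroup.inclusion hYN) ∈ F.Hom Y := restrict_mem F hχ hYN
  have hinj := F.injective_of_mem hχYmem
  have hα' := congr_mem_autGroup F hχYmem rfl hα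
  refine ⟨(χ.comp (Subgroup.inclusion hYN)).range,
    MulAut.congr (equivOfRange (χ.comp (Subgroup.inclusion hYN)) hinj rfl) α, ?_, ?_, hα', ?_, ?_⟩
  · rw [← hχU]
    rintro _ ⟨u, hu, rfl⟩
    exact ⟨⟨u, hUY (Subgroup.mem_subgroupOf.mp hu)⟩, rfl⟩
  · rintro _ ⟨y, rfl⟩
    exact hχN _
  · intro y' hy'
    rw [← hχU] at hy'
    obtain ⟨u, hu, hue⟩ := hy'
    have hu' : (u : Ω) ∈ U := Subgroup.mem_subgroupOf.mp hu
    have h1 : (equivOfRange (χ.comp (Subgroup.inclusion hYN)) hinj rfl).symm y' = ⟨u, hUY hu'⟩ := by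
      apply hinj
      rw [equivOfRange_symm_apply]
      exact hue.symm
    show (((equivOfRange (χ.comp (Subgroup.inclusion hYN)) hinj rfl)
      (α ((equivOfRange (χ.comp (Subgroup.inclusion hYN)) hinj rfl).symm y')) :
        ↥(χ.comp (Subgroup.inclusion hYN)).range) : Ω) ∈ U'
    rw [h1, equivOfRange_apply, ← hχU]
    exact ⟨Subgroup.inclusion hYN (α ⟨u, hUY hu'⟩), Subgroup.mem_subgroupOf.mpr (hαU _ hu'), rfl⟩
  · intro k hk
    apply hαp k
    have h2 : (MulAut.congr (equivOfRange (χ.comp (Subgroup.inclusion hYN)) hinj rfl)) (α ^ (p ^ k))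
        = 1 := by
      rw [map_pow]
      exact hk
    exact (MulAut.congr (equivOfRange (χ.comp (Subgroup.inclusion hYN)) hinj rfl)).injective
      (by rw [h2, map_one])

/-- a bad nontrivial subgroup has a bad fully normalized conjugate -/
theorem exists_fn_bad [Finite S] {p : ℕ} [Fact p.Prime] (hS : IsPGroup p S) (F : FusionSystem S)
    (hF : F.IsSaturated p) {U : Subgroup Ω} (hU0 : U ≠ ⊥) (hb : Bad F p U) :
    ∃ U' : Subgroup Ω, U' ≠ ⊥ ∧ F.IsFullyNormalized U' ∧ Bad F p U' ∧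
      Nat.card (normalizerIn S U) ≤ Nat.card (normalizerIn S U') := by
  have hUS : U ≤ S := by
    obtain ⟨Y, α, hUY, hYN, -⟩ := hb
    exact hUY.trans (hYN.trans (normalizerIn_le S U))
  obtain ⟨U', hconj, hfn⟩ := exists_isConj_fullyNormalized F hUS
  have hfa := fullyAutomized_of_fullyNormalized hS F hF hfn
  have hrec := receptive_of_fullyCentralized hS F hF
    (fullyCentralized_of_fullyNormalized hS F hF hfn)
  obtain ⟨χ, hχ, hχN, hχU⟩ := exists_normalizer_hom hS F U' U hfa hrec hconj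
  refine ⟨U', ?_, hfn, bad_transport F hb hχ hχN hχU, hfn.2 U (isConj_symm F hconj)⟩
  intro h0
  apply hU0
  obtain ⟨φ, hφ, hr⟩ := hconj
  rw [eq_bot_iff]
  intro u hu
  have h1 : φ ⟨u, hu⟩ ∈ φ.range := ⟨_, rfl⟩
  rw [hr, h0, Subgroup.mem_bot] at h1
  have h2 : (⟨u, hu⟩ : U) = 1 := F.injective_of_mem hφ (by rw [h1, map_one])
  rw [Subgroup.mem_bot]
  exact congrArg Subtype.val h2

/-- badness passes from `R` to normal subgroups of `N_F(R)` -/
theorem bad_of_normal_ge [Finite S] (F : FusionSystem S) {p : ℕ} {R : Subgroup Ω}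
    (E : FusionSystem (normalizerIn S R)) (hE : F.IsNormalizerSystem R E) {Q' : Subgroup Ω}
    (hQ' : E.IsNormal Q') (hb : Bad F p R) : Bad F p Q' := by
  obtain ⟨Y, α, hRY, hYN, hα, hαR, hαp⟩ := hb
  have h1 := mem_normalizerHom_of_aut F hRY hYN hα hαR
  rw [← hE Y] at h1
  obtain ⟨ψ, hψ, hψext, hψQ⟩ := hQ'.2 Y _ h1
  have hrange : ψ.range = Y ⊔ Q' := by
    rw [range_ext_eq ψ _ hψext hψQ, range_subtype_comp_aut]
  have hψF : ψ ∈ F.Hom (Y ⊔ Q') := hom_of_normalizerSystem F E hE hψ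
  obtain ⟨α', hα', hα'ψ⟩ := exists_aut_of_hom F hψF hrange
  have hle : Y ⊔ Q' ≤ normalizerIn S R := _root_.sup_le hYN hQ'.1
  haveI : Finite Q' := finite_of_le (hQ'.1.trans (normalizerIn_le S R))
  refine ⟨Y ⊔ Q', α', le_sup_right, ?_, hα', ?_, ?_⟩
  · intro z hz
    refine ⟨normalizerIn_le S R (hle hz), ?_⟩
    apply KN.mem_normalizer_of_forall_conj_mem
    intro x hx
    exact conj_mem_of_isNormal E hQ' (hle hz) hx
  · intro y hy
    rw [hα'ψ]
    exact hψQ.le ⟨y, Subgroup.mem_subgroupOf.mpr hy, rfl⟩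
  · intro k hk
    apply hαp k
    apply MulEquiv.ext
    intro y
    apply Subtype.ext
    have h2 := pow_ext (le_sup_left : Y ≤ Y ⊔ Q') α' α
      (fun y => by rw [hα'ψ, hψext]; rfl) (p ^ k) y
    rw [← h2, hk]
    rfl

end Cfsg.Agent.Lib.Helper1.KL
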