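import Mathlib
import Cfsg.Agent.Lib.Helper9.NormalSeries
import Cfsg.Agent.Lib.Helper9.FusionSat3
import Cfsg.Agent.Lib.Helper1.KL1

set_option autoImplicit false
set_option linter.style.haveILetI false
set_option linter.unusedSectionVars false
set_option linter.unusedVariables false
set_option maxHeartbeats 1000000

/-! Camina–Herzog for fusion systems (Henke): a saturated fusion system on a 2-group in which every
element is conjugate into the centre lives on an abelian group. -/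

namespace Cfsg.Agent.Lib.Helper1.CamH

open Cfsg Cfsg.FusionSystem Cfsg.Agent.Lib.Helper9 Cfsg.Agent.Lib.Helper1.KN
  Cfsg.Agent.Lib.Helper1.KL
open scoped commutatorElement

variable {Ω : Type*} [Group Ω] {S : Subgroup Ω}

/-- hypothesis: every element is conjugate into the centre -/
def ConjIntoCenter (F : FusionSystem S) : Prop :=
  ∀ x ∈ S, ∃ z ∈ S ⊓ Subgroup.centralizer (S : Set Ω), F.IsConjElt x z

theorem normal_le_center (F : FusionSystem S) (h : ConjIntoCenter F) {N : Subgroup Ω}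
    (hN : F.IsNormal N) : N ≤ S ⊓ Subgroup.centralizer (S : Set Ω) := by
  intro n hn
  refine Subgroup.mem_inf.mpr ⟨hN.1 hn, ?_⟩
  rw [Subgroup.mem_centralizer_iff]
  intro s hs
  obtain ⟨z, hz, φ, hφ, hφz⟩ := h s hs
  obtain ⟨ψ, hψ, hψφ, -⟩ := hN.2 _ φ hφ
  have hsW : s ∈ Subgroup.zpowers s ⊔ N :=
    (le_sup_left : Subgroup.zpowers s ≤ _) (Subgroup.mem_zpowers s)
  have hnW : n ∈ Subgroup.zpowers s ⊔ N := (le_sup_right : N ≤ _) hn
  have h1 : ψ ⟨s, hsW⟩ = z := by
    have := hψφ ⟨s, Subgroup.mem_zpowers s⟩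
    rw [hφz] at this
    exact this
  have h2 : ψ ⟨n, hnW⟩ ∈ S := hom_mem F hψ _
  have hz2 := Subgroup.mem_centralizer_iff.mp (Subgroup.mem_inf.mp hz).2
  have h3 : ψ ⟨n, hnW⟩ * z = z * ψ ⟨n, hnW⟩ := hz2 _ h2
  have h4 : ψ (⟨s, hsW⟩ * ⟨n, hnW⟩) = ψ (⟨n, hnW⟩ * ⟨s, hsW⟩) := by
    rw [map_mul, map_mul, h1, h3]
  have h5 := F.injective_of_mem hψ h4
  exact congrArg Subtype.val h5

theorem comm_of_sq_mem [Finite S] (hS : IsPGroup 2 S) (F : FusionSystem S)
    (hF : F.IsSaturated 2) (h : ConjIntoCenter F) {N : Subgroup Ω} (hN : F.IsNormal N)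
    {a b : Ω} (ha : a ∈ S) (hb : b ∈ S) (ha2 : a * a ∈ N) (hb2 : b * b ∈ N) :
    a * b = b * a := by
  haveI : Fact (Nat.Prime 2) := ⟨Nat.prime_two⟩
  have hNZ := normal_le_center F h hN
  have hNS := hN.1
  obtain ⟨w, hw⟩ : ∃ w, w = a * b := ⟨_, rfl⟩
  have hwS : w ∈ S := by rw [hw]; exact S.mul_mem ha hb
  obtain ⟨z, hz, φ, hφ, hφz⟩ := h w hwS
  obtain ⟨ψ, hψ, hψφ, hψN⟩ := hN.2 _ φ hφ
  have hWS : Subgroup.zpowers w ⊔ N ≤ S := sup_le (Subgroup.zpowers_le.mpr hwS) hNS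
  have hwW : w ∈ Subgroup.zpowers w ⊔ N :=
    (le_sup_left : Subgroup.zpowers w ≤ _) (Subgroup.mem_zpowers w)
  -- range ψ ≤ Z(S)
  have hrange : ∀ x : ↥(Subgroup.zpowers w ⊔ N),
      ψ x ∈ S ⊓ Subgroup.centralizer (S : Set Ω) := by
    have hK : Subgroup.zpowers w ⊔ N ≤
        ((S ⊓ Subgroup.centralizer (S : Set Ω)).comap ψ).map (Subgroup.subtype _) := by
      apply sup_le
      · rw [Subgroup.zpowers_le]
        refine ⟨⟨w, hwW⟩, ?_, rfl⟩
        show ψ ⟨w, hwW⟩ ∈ S ⊓ Subgroup.centralizer (S : Set Ω)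
        have h1 : ψ ⟨w, hwW⟩ = z := by
          have := hψφ ⟨w, Subgroup.mem_zpowers w⟩
          rw [hφz] at this
          exact this
        rw [h1]
        exact hz
      · intro n hn
        refine ⟨⟨n, (le_sup_right : N ≤ _) hn⟩, ?_, rfl⟩
        show ψ ⟨n, (le_sup_right : N ≤ _) hn⟩ ∈ S ⊓ Subgroup.centralizer (S : Set Ω)
        apply hNZ
        have hmemN : ψ ⟨n, (le_sup_right : N ≤ _) hn⟩ ∈
            Subgroup.map ψ (N.subgroupOf (Subgroup.zpowers w ⊔ N)) :=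
          ⟨⟨n, (le_sup_right : N ≤ _) hn⟩, Subgroup.mem_subgroupOf.mpr hn, rfl⟩
        rw [hψN] at hmemN
        exact hmemN
    intro x
    obtain ⟨y, hy, hyx⟩ := hK x.2
    have hyx' : y = x := Subtype.ext hyx
    rw [← hyx']
    exact hy
  have hW'Z : ψ.range ≤ S ⊓ Subgroup.centralizer (S : Set Ω) := by
    rintro _ ⟨x, rfl⟩
    exact hrange x
  have hW'S : ψ.range ≤ S := hW'Z.trans inf_le_left
  haveI : Finite ↥ψ.range := finite_of_le hW'S
  have hnorm : normalizerIn S ψ.range = S := by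
    apply normalizerIn_eq_of_forall
    intro s hs x hx
    have hx2 := Subgroup.mem_centralizer_iff.mp (Subgroup.mem_inf.mp (hW'Z hx)).2 s hs
    rw [hx2, mul_inv_cancel_right]
    exact hx
  have hfn : F.IsFullyNormalized ψ.range := fullyNormalized_of_normalizerIn_eq F hW'S hnorm
  have hfa := fullyAutomized_of_fullyNormalized hS F hF hfn
  have hfc := fullyCentralized_of_fullyNormalized hS F hF hfn
  have hrec := receptive_of_fullyCentralized hS F hF hfc
  obtain ⟨χ, hχ, hχN, hχW⟩ :=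
    exists_normalizer_hom hS F ψ.range (Subgroup.zpowers w ⊔ N) hfa hrec ⟨ψ, hψ, rfl⟩
  have hA : a * a * b = b * (a * a) :=
    (Subgroup.mem_centralizer_iff.mp (Subgroup.mem_inf.mp (hNZ ha2)).2 b hb).symm
  have hB : a * (b * b) = b * b * a :=
    Subgroup.mem_centralizer_iff.mp (Subgroup.mem_inf.mp (hNZ hb2)).2 a ha
  have hconj : a * w * a⁻¹ = w⁻¹ * ((a * a) * (b * b)) := by
    rw [hw]
    have e1 : a * (a * b) * a⁻¹ = b * a := by
      calc a * (a * b) * a⁻¹ = (a * a * b) * a⁻¹ := by group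
        _ = b * (a * a) * a⁻¹ := by rw [hA]
        _ = b * a := by group
    have e2 : (a * b)⁻¹ * ((a * a) * (b * b)) = b * a := by
      calc (a * b)⁻¹ * ((a * a) * (b * b)) = b⁻¹ * (a * (b * b)) := by group
        _ = b⁻¹ * (b * b * a) := by rw [hB]
        _ = b * a := by group
    rw [e1, e2]
  haveI : Finite ↥(Subgroup.zpowers w ⊔ N) := finite_of_le hWS
  have haN : a ∈ normalizerIn S (Subgroup.zpowers w ⊔ N) := by
    refine ⟨ha, ?_⟩
    apply KN.mem_normalizer_of_forall_conj_mem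
    have hle : Subgroup.zpowers w ⊔ N ≤
        (Subgroup.zpowers w ⊔ N).comap (MulAut.conj a).toMonoidHom := by
      apply sup_le
      · rw [Subgroup.zpowers_le, Subgroup.mem_comap]
        show a * w * a⁻¹ ∈ _
        rw [hconj]
        apply Subgroup.mul_mem
        · exact Subgroup.inv_mem _ hwW
        · exact (le_sup_right : N ≤ _) (N.mul_mem ha2 hb2)
      · intro n hn
        rw [Subgroup.mem_comap]
        show a * n * a⁻¹ ∈ _
        have h1 := Subgroup.mem_centralizer_iff.mp (Subgroup.mem_inf.mp (hNZ hn)).2 a ha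
        rw [h1, mul_inv_cancel_right]
        exact (le_sup_right : N ≤ _) hn
    intro y hy
    exact hle hy
  have hwN : w ∈ normalizerIn S (Subgroup.zpowers w ⊔ N) := self_le_normalizerIn' hWS hwW
  have hχw : χ ⟨w, hwN⟩ ∈ S ⊓ Subgroup.centralizer (S : Set Ω) := by
    apply hW'Z
    rw [← hχW]
    exact ⟨⟨w, hwN⟩, Subgroup.mem_subgroupOf.mpr hwW, rfl⟩
  have hχa : χ ⟨a, haN⟩ ∈ S := hom_mem F hχ _
  have h3 := Subgroup.mem_centralizer_iff.mp (Subgroup.mem_inf.mp hχw).2 _ hχa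
  have h4 : χ (⟨a, haN⟩ * ⟨w, hwN⟩) = χ (⟨w, hwN⟩ * ⟨a, haN⟩) := by
    rw [map_mul, map_mul, h3]
  have h5 := congrArg Subtype.val (F.injective_of_mem hχ h4)
  have h6 : a * w = w * a := h5
  rw [hw, mul_assoc] at h6
  exact mul_left_cancel h6

/-- the subgroup of elements whose square lies in `N` -/
def sqSub [Finite S] (hS : IsPGroup 2 S) (F : FusionSystem S) (hF : F.IsSaturated 2)
    (h : ConjIntoCenter F) (N : Subgroup Ω) (hN : F.IsNormal N) : Subgroup Ω where
  carrier := {x | x ∈ S ∧ x * x ∈ N}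
  one_mem' := ⟨S.one_mem, by rw [mul_one]; exact N.one_mem⟩
  mul_mem' := by
    rintro x y ⟨hx, hx2⟩ ⟨hy, hy2⟩
    refine ⟨S.mul_mem hx hy, ?_⟩
    have hc := comm_of_sq_mem hS F hF h hN hx hy hx2 hy2
    have e : x * y * (x * y) = (x * x) * (y * y) := by
      calc x * y * (x * y) = x * (y * x) * y := by group
        _ = x * (x * y) * y := by rw [hc]
        _ = (x * x) * (y * y) := by group
    rw [e]
    exact N.mul_mem hx2 hy2
  inv_mem' := by
    rintro x ⟨hx, hx2⟩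
    refine ⟨S.inv_mem hx, ?_⟩
    have e : x⁻¹ * x⁻¹ = (x * x)⁻¹ := by group
    rw [e]
    exact N.inv_mem hx2

theorem sqSub_normal [Finite S] (hS : IsPGroup 2 S) (F : FusionSystem S) (hF : F.IsSaturated 2)
    (h : ConjIntoCenter F) (N : Subgroup Ω) (hN : F.IsNormal N) :
    F.IsNormal (sqSub hS F hF h N hN) := by
  haveI : Fact (Nat.Prime 2) := ⟨Nat.prime_two⟩
  obtain ⟨M, hMdef⟩ : ∃ M, M = sqSub hS F hF h N hN := ⟨_, rfl⟩
  rw [← hMdef]
  have hmem : ∀ x, x ∈ M ↔ x ∈ S ∧ x * x ∈ N := by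
    intro x
    rw [hMdef]
    exact Iff.rfl
  have hMS : M ≤ S := fun x hx => ((hmem x).mp hx).1
  have hNsc := stronglyClosed_of_normal F hN
  have hMsc : F.StronglyClosed M := by
    refine ⟨hMS, fun R hR φ hφ x => ?_⟩
    rw [hmem]
    refine ⟨hom_mem F hφ x, ?_⟩
    have hx2 : (x : Ω) * x ∈ N := ((hmem _).mp (hR x.2)).2
    have h1 := restrict_mem F hφ (inf_le_left : R ⊓ N ≤ R)
    have h2 := hNsc.2 (R ⊓ N) inf_le_right _ h1 ⟨(x : Ω) * x, ⟨R.mul_mem x.2 x.2, hx2⟩⟩
    have h3 : φ x * φ x = φ (x * x) := (map_mul φ x x).symm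
    rw [h3]
    exact h2
  obtain ⟨T, hT⟩ : ∃ T : ℕ → Subgroup Ω,
      T = fun j => if j = 0 then ⊥ else if j = 1 then M else S := ⟨_, rfl⟩
  have hT0 : T 0 = ⊥ := by rw [hT]; simp
  have hT1 : T 1 = M := by rw [hT]; simp
  have hTj : ∀ j, 1 < j → T j = S := by
    intro j hj
    rw [hT]
    have h0 : j ≠ 0 := by omega
    have h1 : j ≠ 1 := by omega
    simp [h0, h1]
  apply normal_of_series 2 hS F hF M T 1 hT0 hT1
  · intro j
    rcases Nat.lt_trichotomy j 1 with hj | hj | hj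
    · have h0 : j = 0 := by omega
      rw [h0, hT0]
      exact stronglyClosed_bot F
    · rw [hj, hT1]
      exact hMsc
    · rw [hTj j hj]
      exact stronglyClosed_top F
  · intro j hj
    have h0 : j = 0 := by omega
    subst h0
    show ⁅M, T 1⁆ ≤ T 0
    rw [hT1, hT0, Subgroup.commutator_le]
    intro x hx y hy
    rw [Subgroup.mem_bot, commutatorElement_eq_one_iff_commute]
    have hx' := (hmem x).mp hx
    have hy' := (hmem y).mp hy
    exact comm_of_sq_mem hS F hF h hN hx'.1 hy'.1 hx'.2 hy'.2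
  · exact hTj

theorem powSub_normal [Finite S] (hS : IsPGroup 2 S) (F : FusionSystem S)
    (hF : F.IsSaturated 2) (h : ConjIntoCenter F) :
    ∀ k : ℕ, ∃ N : Subgroup Ω, F.IsNormal N ∧ ∀ x, x ∈ N ↔ x ∈ S ∧ x ^ (2 ^ k) = 1 := by
  haveI : Fact (Nat.Prime 2) := ⟨Nat.prime_two⟩
  intro k
  induction k with
  | zero =>
    refine ⟨⊥, ?_, fun x => ?_⟩
    · apply normal_of_series 2 hS F hF ⊥ (fun j => if j = 0 then ⊥ else S) 0
      · simp
      · simp
      · intro j
        show F.StronglyClosed (if j = 0 then ⊥ else S)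
        by_cases hj : j = 0
        · rw [if_pos hj]
          exact stronglyClosed_bot F
        · rw [if_neg hj]
          exact stronglyClosed_top F
      · intro j hj
        omega
      · intro j hj
        show (if j = 0 then ⊥ else S) = S
        have h0 : j ≠ 0 := by omega
        rw [if_neg h0]
    · rw [Subgroup.mem_bot, pow_zero, pow_one]
      constructor
      · rintro rfl
        exact ⟨S.one_mem, rfl⟩
      · exact fun h => h.2
  | succ k ih =>
    obtain ⟨N, hN, hNmem⟩ := ih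
    refine ⟨sqSub hS F hF h N hN, sqSub_normal hS F hF h N hN, fun x => ?_⟩
    show (x ∈ S ∧ x * x ∈ N) ↔ _
    rw [hNmem, pow_succ, pow_mul', pow_two]
    constructor
    · rintro ⟨hx, -, hx2⟩
      exact ⟨hx, hx2⟩
    · rintro ⟨hx, hx2⟩
      exact ⟨hx, S.mul_mem hx hx, hx2⟩

theorem abelian_of_conjIntoCenter [Finite S] (hS : IsPGroup 2 S) (F : FusionSystem S)
    (hF : F.IsSaturated 2) (h : ConjIntoCenter F) : IsMulCommutative ↥S := by
  haveI : Fact (Nat.Prime 2) := ⟨Nat.prime_two⟩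
  obtain ⟨k, hk⟩ := IsPGroup.iff_card.mp hS
  obtain ⟨N, hN, hNmem⟩ := powSub_normal hS F hF h k
  have hNZ := normal_le_center F h hN
  have hSN : S ≤ N := by
    intro x hx
    rw [hNmem]
    refine ⟨hx, ?_⟩
    have h1 : (⟨x, hx⟩ : S) ^ Nat.card S = 1 := pow_card_eq_one'
    rw [hk] at h1
    simpa using congrArg Subtype.val h1
  refine ⟨⟨fun a b => ?_⟩⟩
  apply Subtype.ext
  exact Subgroup.mem_centralizer_iff.mp (Subgroup.mem_inf.mp (hNZ (hSN b.2))).2 a a.2

end Cfsg.Agent.Lib.Helper1.CamH
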