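import Mathlib
import Cfsg.Agent.Lib.Helper1.Hall
import Cfsg.Agent.Lib.Helper1.FrattiniHall
set_option autoImplicit false
open scoped Pointwise
universe u
namespace Cfsg.Agent.Lib.Helper1.Carter

variable {G : Type u} [Group G]

/-- `C` is a Carter subgroup of `G`. -/
def IsCarter (C : Subgroup G) : Prop :=
  Group.IsNilpotent C ∧ Subgroup.normalizer (C : Set G) = C

/-- `C` is a Carter subgroup of the subgroup `K`. -/
def IsCarterIn (C K : Subgroup G) : Prop :=
  C ≤ K ∧ Group.IsNilpotent C ∧ Subgroup.normalizer (C : Set G) ⊓ K = C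

theorem isCarterIn_top {C : Subgroup G} : IsCarterIn C ⊤ ↔ IsCarter C := by
  unfold IsCarterIn IsCarter
  rw [inf_top_eq]
  exact ⟨fun h => ⟨h.2.1, h.2.2⟩, fun h => ⟨le_top, h.1, h.2⟩⟩

theorem IsCarter.isCarterIn {C K : Subgroup G} (h : IsCarter C) (hCK : C ≤ K) : IsCarterIn C K := by
  refine ⟨hCK, h.1, ?_⟩
  rw [h.2]
  exact inf_eq_left.mpr hCK

theorem IsCarterIn.subgroupOf {C K : Subgroup G} (h : IsCarterIn C K) :
    IsCarter (C.subgroupOf K) := by
  obtain ⟨hCK, hnil, hnorm⟩ := h
  constructor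
  · exact Group.nilpotent_of_mulEquiv (Subgroup.subgroupOfEquivOfLe hCK).symm
  · rw [← Subgroup.subgroupOf_normalizer_eq hCK, Subgroup.subgroupOf_inj, hnorm]
    exact (inf_eq_left.mpr hCK).symm

theorem IsCarter.map_subtype {K : Subgroup G} {C' : Subgroup K} (h : IsCarter C') :
    IsCarterIn (C'.map K.subtype) K := by
  obtain ⟨hnil, hnorm⟩ := h
  have hle : C'.map K.subtype ≤ K := Subgroup.map_subtype_le C'
  have hso : (C'.map K.subtype).subgroupOf K = C' :=
    Subgroup.comap_map_eq_self_of_injective K.subtype_injective C'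
  refine ⟨hle, ?_, ?_⟩
  · exact Group.nilpotent_of_mulEquiv (C'.equivMapOfInjective K.subtype K.subtype_injective)
  · have h1 := Subgroup.subgroupOf_normalizer_eq hle
    rw [hso, hnorm] at h1
    -- h1 : (normalizer (map C')).subgroupOf K = C'
    have h2 : ((Subgroup.normalizer ((C'.map K.subtype : Subgroup G) : Set G)).subgroupOf K).map K.subtype =
        C'.map K.subtype := by rw [h1]
    rw [Subgroup.subgroupOf_map_subtype] at h2
    exact h2

theorem IsCarter.conj_smul {C : Subgroup G} (h : IsCarter C) (g : G) :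
    IsCarter (MulAut.conj g • C) := by
  obtain ⟨hnil, hnorm⟩ := h
  constructor
  · exact Group.nilpotent_of_mulEquiv (Subgroup.equivSMul (MulAut.conj g) C)
  · have := Subgroup.map_equiv_normalizer_eq C (MulAut.conj g)
    rw [hnorm] at this
    exact this.symm

theorem IsCarterIn.conj_smul {C K : Subgroup G} (h : IsCarterIn C K) {g : G} (hg : g ∈ K) :
    IsCarterIn (MulAut.conj g • C) K := by
  obtain ⟨hCK, hnil, hnorm⟩ := h
  have hK : MulAut.conj g • K = K := by
    apply le_antisymm
    · rintro _ ⟨k, hk, rfl⟩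
      exact K.mul_mem (K.mul_mem hg hk) (K.inv_mem hg)
    · intro k hk
      refine ⟨g⁻¹ * k * g, K.mul_mem (K.mul_mem (K.inv_mem hg) hk) hg, ?_⟩
      simp [MulAut.conj_apply]; group
  refine ⟨?_, ?_, ?_⟩
  · rw [← hK]; exact Subgroup.pointwise_smul_le_pointwise_smul_iff.mpr hCK
  · exact Group.nilpotent_of_mulEquiv (Subgroup.equivSMul (MulAut.conj g) C)
  · have h1 := Subgroup.map_equiv_normalizer_eq C (MulAut.conj g)
    have h2 : Subgroup.normalizer ((MulAut.conj g • C : Subgroup G) : Set G) =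
        MulAut.conj g • Subgroup.normalizer (C : Set G) := h1.symm
    rw [h2]
    conv_lhs => rw [← hK]
    rw [← Subgroup.smul_inf, hnorm]

end Cfsg.Agent.Lib.Helper1.Carter
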