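import Mathlib
import Cfsg.Agent.Lib.Helper1.Hall
import Cfsg.Agent.Lib.Helper1.FrattiniHall
import Cfsg.Agent.Lib.Helper1.SZHelpers
import Cfsg.Agent.Lib.Helper1.Carter1
set_option autoImplicit false
open scoped Pointwise
universe u
namespace Cfsg.Agent.Lib.Helper1.Carter

variable {G : Type u} [Group G]

theorem normalizer_normalizer_hall [Finite G] [Group.IsSolvable G] (S : Subgroup G)
    (hS : (Nat.card S).Coprime S.index) :
    Subgroup.normalizer ((Subgroup.normalizer (S : Set G) : Subgroup G) : Set G) =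
      Subgroup.normalizer (S : Set G) := by
  apply le_antisymm _ Subgroup.le_normalizer
  obtain ⟨C, hC⟩ : ∃ C, C = Subgroup.normalizer (S : Set G) := ⟨_, rfl⟩
  rw [← hC]
  intro g hg
  have hSC : S ≤ C := hC ▸ Subgroup.le_normalizer
  have hgC : MulAut.conj g • C = C := conj_smul_eq_of_mem_normalizer hg
  obtain ⟨T, hT⟩ : ∃ T, T = MulAut.conj g • S := ⟨_, rfl⟩
  have hTC : T ≤ C := by
    rw [hT, ← hgC]; exact Subgroup.pointwise_smul_le_pointwise_smul_iff.mpr hSC
  have hcardT : Nat.card T = Nat.card S := by rw [hT, card_conj_smul]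
  have hnormal : (S.subgroupOf C).Normal := by
    rw [hC]; infer_instance
  have hcop : (Nat.card (S.subgroupOf C)).Coprime (S.subgroupOf C).index := by
    rw [card_subgroupOf_of_le hSC]
    exact Nat.Coprime.coprime_dvd_right (Subgroup.relIndex_dvd_index_of_le hSC) hS
  have hcard : Nat.card (S.subgroupOf C) = Nat.card (T.subgroupOf C) := by
    rw [card_subgroupOf_of_le hSC, card_subgroupOf_of_le hTC, hcardT]
  obtain ⟨c, hc⟩ := hall_conj (S.subgroupOf C) (T.subgroupOf C) hcop hcard
  rw [Subgroup.Normal.conj_smul_eq_self c (S.subgroupOf C), Subgroup.subgroupOf_inj,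
    inf_eq_left.mpr hSC, inf_eq_left.mpr hTC] at hc
  rw [hC]
  apply mem_normalizer_of_conj_smul_eq
  rw [← hT, ← hc]

theorem hall_normal_of_nilpotent [Finite G] [hnil : Group.IsNilpotent G] (S : Subgroup G)
    (hS : (Nat.card S).Coprime S.index) : S.Normal := by
  rw [← Subgroup.normalizer_eq_top_iff]
  by_contra hne
  have hlt : Subgroup.normalizer (S : Set G) < ⊤ := lt_top_iff_ne_top.mpr hne
  have h1 := Group.normalizerCondition_of_isNilpotent _ hlt
  rw [normalizer_normalizer_hall S hS] at h1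
  exact lt_irrefl _ h1

theorem exists_carter_of_quotient_nilpotent [Finite G] [Group.IsSolvable G]
    (N : Subgroup G) [hNn : N.Normal] {p : ℕ} [hp : Fact p.Prime] (hN : IsPGroup p N)
    (hGN : Group.IsNilpotent (G ⧸ N)) : ∃ C : Subgroup G, IsCarter C := by
  obtain ⟨a, m, hm, hcard⟩ := Nat.exists_eq_pow_mul_and_not_dvd (Nat.card_pos (α := G)).ne' p
    hp.out.ne_one
  have hcop : m.Coprime (p ^ a) :=
    Nat.Coprime.pow_right a ((Nat.Prime.coprime_iff_not_dvd hp.out).mpr hm).symm
  obtain ⟨S, hS⟩ := hall_exists m (p ^ a) (by rw [hcard, mul_comm]) hcop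
  have hSidx : S.index = p ^ a := by
    have h1 := S.card_mul_index
    rw [hS, hcard, mul_comm (p ^ a) m] at h1
    have hm0 : 0 < m := Nat.pos_of_ne_zero (by rintro rfl; exact hm (dvd_zero p))
    exact Nat.eq_of_mul_eq_mul_left hm0 h1
  have hSHall : (Nat.card S).Coprime S.index := by rw [hS, hSidx]; exact hcop
  obtain ⟨C, hC⟩ : ∃ C, C = Subgroup.normalizer (S : Set G) := ⟨_, rfl⟩
  have hSC : S ≤ C := hC ▸ Subgroup.le_normalizer
  refine ⟨C, ?_, ?_⟩
  · -- nilpotent
    have hnormal : (S.subgroupOf C).Normal := by rw [hC]; infer_instance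
    have hpg : IsPGroup p (↥C ⧸ S.subgroupOf C) := by
      apply IsPGroup.of_card (n := (Nat.factorization (S.relIndex C)) p)
      have h1 : Nat.card (↥C ⧸ S.subgroupOf C) = S.relIndex C := rfl
      rw [h1]
      have h2 : S.relIndex C ∣ p ^ a := hSidx ▸ Subgroup.relIndex_dvd_index_of_le hSC
      obtain ⟨k, -, hk⟩ := (Nat.dvd_prime_pow hp.out).mp h2
      rw [hk, Nat.Prime.factorization_pow hp.out]
      simp
    have hn1 : Group.IsNilpotent (↥C ⧸ S.subgroupOf C) := hpg.isNilpotent
    let f : ↥C →* (↥C ⧸ S.subgroupOf C) × (G ⧸ N) :=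
      MonoidHom.prod (QuotientGroup.mk' (S.subgroupOf C)) ((QuotientGroup.mk' N).comp C.subtype)
    apply Subgroup.isNilpotent_of_ker_le_center f
    intro c hc
    rw [MonoidHom.mem_ker] at hc
    have h1 : QuotientGroup.mk' (S.subgroupOf C) c = 1 := congrArg Prod.fst hc
    have h2 : QuotientGroup.mk' N (c : G) = 1 := congrArg Prod.snd hc
    have h1' : (c : G) ∈ S := by
      have := (QuotientGroup.eq_one_iff c).mp h1
      exact this
    have h2' : (c : G) ∈ N := (QuotientGroup.eq_one_iff (c : G)).mp h2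
    have hdisj : S ⊓ N = ⊥ := by
      apply (Subgroup.disjoint_of_coprime_natCard _).eq_bot
      obtain ⟨k, hk⟩ := IsPGroup.iff_card.mp hN
      rw [hS, hk]
      exact Nat.Coprime.pow_right k ((Nat.Prime.coprime_iff_not_dvd hp.out).mpr hm).symm
    have h3 : (c : G) ∈ S ⊓ N := ⟨h1', h2'⟩
    rw [hdisj, Subgroup.mem_bot] at h3
    have : c = 1 := Subtype.ext h3
    rw [this]; exact Subgroup.one_mem _
  · rw [hC]; exact normalizer_normalizer_hall S hSHall

end Cfsg.Agent.Lib.Helper1.Carter
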