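import Mathlib
import Cfsg.Agent.Lib.Helper1.Carter2
set_option autoImplicit false
open scoped Pointwise
universe u
namespace Cfsg.Agent.Lib.Helper1.Carter

variable {G : Type u} [Group G]

theorem IsCarter.map_mk' {C : Subgroup G} (hC : IsCarter C) (N : Subgroup G) [N.Normal]
    (ih : ∀ L : Subgroup G, L < ⊤ → ∀ C D : Subgroup G, IsCarterIn C L → IsCarterIn D L →
      ∃ l ∈ L, MulAut.conj l • C = D) :
    IsCarter (C.map (QuotientGroup.mk' N)) := by
  have hsurj : Function.Surjective (QuotientGroup.mk' N) := QuotientGroup.mk'_surjective N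
  constructor
  · have := hC.1
    exact Group.nilpotent_of_surjective ((QuotientGroup.mk' N).subgroupMap C)
      (MonoidHom.subgroupMap_surjective _ _)
  · apply le_antisymm _ Subgroup.le_normalizer
    intro gbar hgbar
    obtain ⟨g, rfl⟩ := hsurj gbar
    obtain ⟨L, hL⟩ : ∃ L, L = (C.map (QuotientGroup.mk' N)).comap (QuotientGroup.mk' N) := ⟨_, rfl⟩
    have hCL : C ≤ L := by rw [hL]; exact Subgroup.le_comap_map _ _
    have hLmap : L.map (QuotientGroup.mk' N) = C.map (QuotientGroup.mk' N) := by
      rw [hL]; exact Subgroup.map_comap_eq_self_of_surjective hsurj _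
    have hgL : g ∈ Subgroup.normalizer (L : Set G) := by
      rw [hL]
      apply Subgroup.le_normalizer_comap (QuotientGroup.mk' N)
      exact hgbar
    by_cases htop : L = ⊤
    · rw [← hLmap, htop, ← MonoidHom.range_eq_map, MonoidHom.range_eq_top.mpr hsurj]
      exact Subgroup.mem_top _
    · have hgLs : MulAut.conj g • L = L := conj_smul_eq_of_mem_normalizer hgL
      have hDL : MulAut.conj g • C ≤ L := by
        rw [← hgLs]; exact Subgroup.pointwise_smul_le_pointwise_smul_iff.mpr hCL
      obtain ⟨l, hl, hlC⟩ := ih L (lt_top_iff_ne_top.mpr htop) C (MulAut.conj g • C)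
        (hC.isCarterIn hCL) ((hC.conj_smul g).isCarterIn hDL)
      have h1 : MulAut.conj (l⁻¹ * g) • C = C := by
        rw [map_mul, mul_smul, ← hlC, ← mul_smul, ← map_mul, inv_mul_cancel, map_one, one_smul]
      have h2 : l⁻¹ * g ∈ C := by
        have := mem_normalizer_of_conj_smul_eq h1
        rw [hC.2] at this
        exact this
      have h3 : g ∈ L := by
        have : g = l * (l⁻¹ * g) := by group
        rw [this]
        exact L.mul_mem hl (hCL h2)
      rw [← hLmap]
      exact Subgroup.mem_map_of_mem _ h3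

end Cfsg.Agent.Lib.Helper1.Carter
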