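import Mathlib
import Cfsg.Agent.Lib.Helper1.SplitPResidual3
import Cfsg.Agent.Lib.Helper1.Carter3
set_option autoImplicit false
open scoped Pointwise
universe u
namespace Cfsg.Agent.Lib.Helper1.Carter

variable {G : Type u} [Group G]

theorem exists_central_of_centralizing [Finite G] {p : ℕ} [hp : Fact p.Prime] (N : Subgroup G)
    [hNn : N.Normal] (hNp : IsPGroup p N) (hNbot : N ≠ ⊥)
    (hNc : ∀ a ∈ N, ∀ b ∈ N, a * b = b * a) (S : Subgroup G)
    (hSN : ∀ s ∈ S, ∀ z ∈ N, s * z = z * s) {b : ℕ} (hidx : (S ⊔ N).index = p ^ b) :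
    ∃ z ∈ N, z ≠ 1 ∧ z ∈ Subgroup.center G := by
  obtain ⟨φ, hφ⟩ : ∃ φ : G →* MulAut N, φ = MulAut.conjNormal := ⟨_, rfl⟩
  have hker : S ⊔ N ≤ φ.ker := by
    apply sup_le
    · intro s hs
      rw [MonoidHom.mem_ker]
      ext z
      rw [hφ, MulAut.conjNormal_apply, MulAut.one_apply, hSN s hs z z.2, mul_inv_cancel_right]
    · intro a ha
      rw [MonoidHom.mem_ker]
      ext z
      rw [hφ, MulAut.conjNormal_apply, MulAut.one_apply, hNc a ha z z.2, mul_inv_cancel_right]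
  have hcard : Nat.card φ.range ∣ p ^ b := by
    rw [← Subgroup.index_ker, ← hidx]
    exact Subgroup.index_dvd_of_le hker
  obtain ⟨j, -, hj⟩ := (Nat.dvd_prime_pow hp.out).mp hcard
  have hpg : IsPGroup p φ.range := IsPGroup.of_card hj
  have hpN : p ∣ Nat.card N := by
    obtain ⟨k, hk⟩ := IsPGroup.iff_card.mp hNp
    have h1 : 1 < Nat.card N := (Subgroup.one_lt_card_iff_ne_bot N).mpr hNbot
    rw [hk] at h1 ⊢
    have hk0 : k ≠ 0 := by rintro rfl; simp at h1
    exact dvd_pow_self p hk0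
  have hfix : (1 : N) ∈ MulAction.fixedPoints φ.range N := by
    intro a
    show (a : MulAut N) (1 : N) = 1
    exact map_one _
  obtain ⟨z, hz, hz1⟩ := hpg.exists_fixed_point_of_prime_dvd_card_of_fixed_point N hpN hfix
  refine ⟨z, z.2, fun h => hz1 (Subtype.ext h.symm), ?_⟩
  rw [Subgroup.mem_center_iff]
  intro g
  have h1 := hz ⟨φ g, ⟨g, rfl⟩⟩
  have h2 : (φ g) z = z := h1
  rw [hφ] at h2
  have h3 := congrArg Subtype.val h2
  rw [MulAut.conjNormal_apply] at h3
  calc g * (z : G) = (g * z * g⁻¹) * g := by group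
    _ = z * g := by rw [h3]

theorem exists_hall_of_nilpotent [Finite G] (C : Subgroup G) (hC : Group.IsNilpotent C) {p b m : ℕ}
    [hp : Fact p.Prime] (hm : ¬ p ∣ m) (hcard : Nat.card C = p ^ b * m) :
    ∃ S : Subgroup G, S ≤ C ∧ Nat.card S = m ∧ C ≤ Subgroup.normalizer (S : Set G) := by
  have hcop : m.Coprime (p ^ b) :=
    Nat.Coprime.pow_right b ((Nat.Prime.coprime_iff_not_dvd hp.out).mpr hm).symm
  have hsol : Group.IsSolvable C := inferInstance
  obtain ⟨S', hS'⟩ := hall_exists (G := C) m (p ^ b) (by rw [hcard, mul_comm]) hcop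
  have hidx : S'.index = p ^ b := by
    have h1 := S'.card_mul_index
    rw [hS', hcard, mul_comm (p ^ b) m] at h1
    have hm0 : 0 < m := Nat.pos_of_ne_zero (by rintro rfl; exact hm (dvd_zero p))
    exact Nat.eq_of_mul_eq_mul_left hm0 h1
  have hnormal : S'.Normal := hall_normal_of_nilpotent S' (by rw [hS', hidx]; exact hcop)
  refine ⟨S'.map C.subtype, Subgroup.map_subtype_le S', ?_, ?_⟩
  · rw [Subgroup.card_map_of_injective C.subtype_injective, hS']
  · rw [← Subgroup.normal_subgroupOf_iff_le_normalizer (Subgroup.map_subtype_le S')]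
    have : (S'.map C.subtype).subgroupOf C = S' :=
      Subgroup.comap_map_eq_self_of_injective C.subtype_injective S'
    rw [this]
    exact hnormal

theorem conj_of_complements [Finite G] [Group.IsSolvable G] {p : ℕ} [hp : Fact p.Prime]
    (N : Subgroup G) [hNn : N.Normal] (hNp : IsPGroup p N) (hNbot : N ≠ ⊥)
    (hNc : ∀ a ∈ N, ∀ b ∈ N, a * b = b * a)
    {C D : Subgroup G} (hC : IsCarter C) (hD : IsCarter D) (hCN : C ⊔ N = ⊤) (hDN : D ⊔ N = ⊤)
    (hCi : C ⊓ N = ⊥) (hDi : D ⊓ N = ⊥)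
    (ih : ∀ L : Subgroup G, L < ⊤ → ∀ C D : Subgroup G, IsCarterIn C L → IsCarterIn D L →
      ∃ l ∈ L, MulAut.conj l • C = D) :
    ∃ x : G, MulAut.conj x • C = D := by
  have hcardC : Nat.card C * Nat.card N = Nat.card G := by
    have := card_sup_mul_card_inf_normal' C N
    rw [hCN, hCi, Subgroup.card_top, Subgroup.card_bot, mul_one] at this
    exact this.symm
  have hcardD : Nat.card D * Nat.card N = Nat.card G := by
    have := card_sup_mul_card_inf_normal' D N
    rw [hDN, hDi, Subgroup.card_top, Subgroup.card_bot, mul_one] at this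
    exact this.symm
  have hNpos : 0 < Nat.card N := Nat.card_pos
  have hCD : Nat.card C = Nat.card D :=
    Nat.eq_of_mul_eq_mul_right hNpos (hcardC.trans hcardD.symm)
  obtain ⟨b, m, hm, hcC⟩ := Nat.exists_eq_pow_mul_and_not_dvd (Nat.card_pos (α := C)).ne' p
    hp.out.ne_one
  obtain ⟨k, hk⟩ := IsPGroup.iff_card.mp hNp
  have hm0 : 0 < m := Nat.pos_of_ne_zero (by rintro rfl; exact hm (dvd_zero p))
  have hcopm : ∀ j : ℕ, m.Coprime (p ^ j) := fun j =>
    Nat.Coprime.pow_right j ((Nat.Prime.coprime_iff_not_dvd hp.out).mpr hm).symm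
  obtain ⟨SC, hSC, hSCcard, hSCn⟩ := exists_hall_of_nilpotent C hC.1 hm hcC
  obtain ⟨SD, hSD, hSDcard, hSDn⟩ := exists_hall_of_nilpotent D hD.1 hm (hCD ▸ hcC)
  have hcardG : Nat.card G = m * p ^ (b + k) := by
    rw [← hcardC, hcC, hk, pow_add]; ring
  have hSCidx : SC.index = p ^ (b + k) := by
    have h1 := SC.card_mul_index
    rw [hSCcard, hcardG] at h1
    exact Nat.eq_of_mul_eq_mul_left hm0 h1
  obtain ⟨x, hx⟩ := hall_conj SC SD (by rw [hSCcard, hSCidx]; exact hcopm _) (hSCcard.trans hSDcard.symm)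
  obtain ⟨C₂, hC₂def⟩ : ∃ C₂, C₂ = MulAut.conj x • C := ⟨_, rfl⟩
  have hC₂ : IsCarter C₂ := hC₂def ▸ hC.conj_smul x
  suffices h : ∃ y, MulAut.conj y • C₂ = D by
    obtain ⟨y, hy⟩ := h
    exact ⟨y * x, by rw [map_mul, mul_smul, ← hC₂def, hy]⟩
  have hSDC₂ : SD ≤ C₂ := by
    rw [← hx, hC₂def]; exact Subgroup.pointwise_smul_le_pointwise_smul_iff.mpr hSC
  have hC₂n : C₂ ≤ Subgroup.normalizer (SD : Set G) := by
    have h1 := Subgroup.map_equiv_normalizer_eq SC (MulAut.conj x)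
    have h2 : Subgroup.normalizer ((MulAut.conj x • SC : Subgroup G) : Set G) =
        MulAut.conj x • Subgroup.normalizer (SC : Set G) := h1.symm
    rw [← hx, h2, hC₂def]
    exact Subgroup.pointwise_smul_le_pointwise_smul_iff.mpr hSCn
  by_cases hM : Subgroup.normalizer (SD : Set G) = ⊤
  · exfalso
    have hSDnormal : SD.Normal := Subgroup.normalizer_eq_top_iff.mp hM
    have hSDN : SD ⊓ N = ⊥ := by
      apply (Subgroup.disjoint_of_coprime_natCard _).eq_bot
      rw [hSDcard, hk]; exact hcopm k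
    have hcent : ∀ s ∈ SD, ∀ z ∈ N, s * z = z * s := by
      intro s hs z hz
      have h1 : s * z * s⁻¹ * z⁻¹ ∈ SD ⊓ N := by
        constructor
        · have : s * z * s⁻¹ * z⁻¹ = s * (z * s⁻¹ * z⁻¹) := by group
          rw [this]
          exact SD.mul_mem hs (hSDnormal.conj_mem _ (SD.inv_mem hs) z)
        · exact N.mul_mem (hNn.conj_mem z hz s) (N.inv_mem hz)
      rw [hSDN, Subgroup.mem_bot] at h1
      rw [mul_inv_eq_one, mul_inv_eq_iff_eq_mul] at h1
      exact h1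
    have hidx : (SD ⊔ N).index = p ^ b := by
      have h1 := card_sup_mul_card_inf_normal' SD N
      rw [hSDN, Subgroup.card_bot, mul_one, hSDcard, hk] at h1
      have h2 := (SD ⊔ N).card_mul_index
      rw [h1, hcardG, pow_add] at h2
      have h3 : m * p ^ k * (SD ⊔ N).index = m * p ^ k * p ^ b := by rw [h2]; ring
      exact Nat.eq_of_mul_eq_mul_left (Nat.mul_pos hm0 (pow_pos hp.out.pos k)) h3
    obtain ⟨z, hzN, hz1, hzc⟩ := exists_central_of_centralizing N hNp hNbot hNc SD hcent hidx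
    have hzC₂ : z ∈ C₂ := by
      rw [← hC₂.2, Subgroup.mem_normalizer_iff]
      intro y
      rw [Subgroup.mem_center_iff] at hzc
      rw [← hzc y, mul_inv_cancel_right]
    have hC₂N : C₂ ⊓ N = ⊥ := by
      have h1 : MulAut.conj x • (C ⊓ N) = C₂ ⊓ N := by
        rw [Subgroup.smul_inf, ← hC₂def, Subgroup.Normal.conj_smul_eq_self x N]
      rw [← h1, hCi, Subgroup.smul_bot]
    have : z ∈ C₂ ⊓ N := ⟨hzC₂, hzN⟩
    rw [hC₂N, Subgroup.mem_bot] at this
    exact hz1 this
  · obtain ⟨l, -, hl⟩ := ih _ (lt_top_iff_ne_top.mpr hM) C₂ D (hC₂.isCarterIn hC₂n)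
      (hD.isCarterIn hSDn)
    exact ⟨l, hl⟩

end Cfsg.Agent.Lib.Helper1.Carter
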