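import Mathlib
import Cfsg.Agent.Lib.Helper1.MaxSubgroupSolvable
import Cfsg.Agent.Lib.Helper1.Carter4
set_option autoImplicit false
open scoped Pointwise
universe u
namespace Cfsg.Agent.Lib.Helper1.Carter

variable {G : Type u} [Group G]

theorem IsCarterIn.of_le {C K L : Subgroup G} (h : IsCarterIn C K) (hCL : C ≤ L) (hLK : L ≤ K) :
    IsCarterIn C L := by
  refine ⟨hCL, h.2.1, le_antisymm ?_ (le_inf Subgroup.le_normalizer hCL)⟩
  calc Subgroup.normalizer (C : Set G) ⊓ L ≤ Subgroup.normalizer (C : Set G) ⊓ K :=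
        inf_le_inf_left _ hLK
    _ = C := h.2.2

theorem conj_smul_map_subtype (L : Subgroup G) (l : L) (C' : Subgroup L) :
    (MulAut.conj l • C').map L.subtype = MulAut.conj (l : G) • (C'.map L.subtype) := by
  ext y
  constructor
  · rintro ⟨_, ⟨c, hc, rfl⟩, rfl⟩
    exact ⟨c, ⟨c, hc, rfl⟩, rfl⟩
  · rintro ⟨_, ⟨c, hc, rfl⟩, rfl⟩
    exact ⟨_, ⟨c, hc, rfl⟩, rfl⟩

theorem map_conj_smul {H : Type*} [Group H] (f : G →* H) (g : G) (C : Subgroup G) :
    (MulAut.conj g • C).map f = MulAut.conj (f g) • C.map f := by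
  ext y
  constructor
  · rintro ⟨_, ⟨c, hc, rfl⟩, rfl⟩
    refine ⟨f c, ⟨c, hc, rfl⟩, ?_⟩
    simp [MulAut.conj_apply]
  · rintro ⟨_, ⟨c, hc, rfl⟩, rfl⟩
    refine ⟨_, ⟨c, hc, rfl⟩, ?_⟩
    simp [MulAut.conj_apply]

/-- relative version of the quotient lemma -/
theorem IsCarterIn.normalizer_sup {C K : Subgroup G} (hC : IsCarterIn C K) (N : Subgroup G)
    [hNn : N.Normal] (hNK : N ≤ K)
    (ih : ∀ L : Subgroup G, L < K → ∀ C D : Subgroup G, IsCarterIn C L → IsCarterIn D L →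
      ∃ l ∈ L, MulAut.conj l • C = D) :
    Subgroup.normalizer ((C ⊔ N : Subgroup G) : Set G) ⊓ K = C ⊔ N := by
  obtain ⟨L, hL⟩ : ∃ L, L = C ⊔ N := ⟨_, rfl⟩
  rw [← hL]
  have hCL : C ≤ L := hL ▸ le_sup_left
  have hLK : L ≤ K := hL ▸ sup_le hC.1 hNK
  apply le_antisymm _ (le_inf Subgroup.le_normalizer hLK)
  rintro g ⟨hgL, hgK⟩
  by_cases hLeq : L = K
  · rw [hLeq]; exact hgK
  · have hLlt : L < K := lt_of_le_of_ne hLK hLeq
    have hgLs : MulAut.conj g • L = L := conj_smul_eq_of_mem_normalizer hgL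
    have hDL : MulAut.conj g • C ≤ L := by
      rw [← hgLs]; exact Subgroup.pointwise_smul_le_pointwise_smul_iff.mpr hCL
    obtain ⟨l, hl, hlC⟩ := ih L hLlt C (MulAut.conj g • C) (hC.of_le hCL hLK)
      ((hC.conj_smul hgK).of_le hDL hLK)
    have h1 : MulAut.conj (l⁻¹ * g) • C = C := by
      rw [map_mul, mul_smul, ← hlC, ← mul_smul, ← map_mul, inv_mul_cancel, map_one, one_smul]
    have h2 : l⁻¹ * g ∈ C := by
      have h3 := mem_normalizer_of_conj_smul_eq h1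
      have h4 : l⁻¹ * g ∈ K := K.mul_mem (K.inv_mem (hLK hl)) hgK
      have : l⁻¹ * g ∈ Subgroup.normalizer (C : Set G) ⊓ K := ⟨h3, h4⟩
      rw [hC.2.2] at this
      exact this
    have : g = l * (l⁻¹ * g) := by group
    rw [this]
    exact L.mul_mem hl (hCL h2)

theorem eq_top_of_isCarter_of_isNilpotent [Group.IsNilpotent G] {D : Subgroup G} (hD : IsCarter D) :
    D = ⊤ := by
  by_contra hne
  have h1 := Group.normalizerCondition_of_isNilpotent D (lt_top_iff_ne_top.mpr hne)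
  rw [hD.2] at h1
  exact lt_irrefl _ h1

end Cfsg.Agent.Lib.Helper1.Carter
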