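import Mathlib
import Cfsg.Agent.Lib.Helper1.Carter5
set_option autoImplicit false
open scoped Pointwise
universe u
namespace Cfsg.Agent.Lib.Helper1.Carter

theorem carter_aux (n : ℕ) : ∀ (G : Type u) [Group G] [Finite G] [Group.IsSolvable G],
    Nat.card G = n →
    (∃ C : Subgroup G, IsCarter C) ∧
    ∀ C D : Subgroup G, IsCarter C → IsCarter D → ∃ g : G, MulAut.conj g • C = D := by
  induction n using Nat.strong_induction_on with
  | _ n ih =>
  intro G _ _ _ hn
  have ihrel : ∀ L : Subgroup G, L < ⊤ →
      (∃ C, IsCarterIn C L) ∧ ∀ C D : Subgroup G, IsCarterIn C L → IsCarterIn D L →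
        ∃ l ∈ L, MulAut.conj l • C = D := by
    intro L hL
    have hcard : Nat.card L < n := by
      rw [← hn]
      have h1 := Subgroup.card_le_card_group L
      rcases h1.lt_or_eq with h | h
      · exact h
      · exact absurd ((Subgroup.card_eq_iff_eq_top L).mp h) hL.ne
    obtain ⟨hex, hconj⟩ := ih _ hcard L rfl
    constructor
    · obtain ⟨C', hC'⟩ := hex
      exact ⟨_, hC'.map_subtype⟩
    · intro C D hC hD
      obtain ⟨l, hl⟩ := hconj _ _ hC.subgroupOf hD.subgroupOf
      refine ⟨l, l.2, ?_⟩
      have h1 := congrArg (Subgroup.map L.subtype) hl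
      rw [Subgroup.map_subgroupOf_eq_of_le hD.1, conj_smul_map_subtype,
        Subgroup.map_subgroupOf_eq_of_le hC.1] at h1
      exact h1
  by_cases hsub : Subsingleton G
  · constructor
    · refine ⟨⊤, ?_, ?_⟩
      · exact Group.nilpotent_of_mulEquiv (Subgroup.topEquiv (G := G)).symm
      · rw [Subgroup.normalizer_eq_top_iff]; infer_instance
    · intro C D _ _
      refine ⟨1, ?_⟩
      rw [map_one, one_smul]
      ext x
      rw [Subsingleton.elim x 1]
      exact ⟨fun _ => D.one_mem, fun _ => C.one_mem⟩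
  · have hnt : Nontrivial G := not_subsingleton_iff_nontrivial.mp hsub
    obtain ⟨N, hNn, hNbot, hNmin⟩ := exists_minimal_normal (G := G)
    obtain ⟨hNc, p, hp, hNp⟩ := minimal_normal_of_solvable N hNbot hNmin
    haveI : Fact p.Prime := ⟨hp⟩
    have hNpg : IsPGroup p N := fun x => ⟨1, by
      rw [pow_one]; exact Subtype.ext (by simpa using hNp x x.2)⟩
    have hNcomm : ∀ a ∈ N, ∀ b ∈ N, a * b = b * a := by
      intro a ha b hb
      have := mul_comm' (⟨a, ha⟩ : N) ⟨b, hb⟩
      exact congrArg Subtype.val this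
    have hcardQ : Nat.card (G ⧸ N) < n := by
      rw [← hn, ← Subgroup.index_eq_card, ← Subgroup.card_mul_index N]
      have h1 : 1 < Nat.card N := (Subgroup.one_lt_card_iff_ne_bot N).mpr hNbot
      have h2 : 0 < N.index := Nat.pos_of_ne_zero Subgroup.index_ne_zero_of_finite
      nlinarith
    obtain ⟨hexQ, hconjQ⟩ := ih _ hcardQ (G ⧸ N) rfl
    have hsurj : Function.Surjective (QuotientGroup.mk' N) := QuotientGroup.mk'_surjective N
    constructor
    · -- existence
      obtain ⟨Cbar, hCbar⟩ := hexQ
      obtain ⟨K, hK⟩ : ∃ K, K = Cbar.comap (QuotientGroup.mk' N) := ⟨_, rfl⟩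
      have hNK : N ≤ K := hK ▸ QuotientGroup.le_comap_mk' N Cbar
      have hKmap : K.map (QuotientGroup.mk' N) = Cbar :=
        hK ▸ Subgroup.map_comap_eq_self_of_surjective hsurj Cbar
      by_cases hKtop : K = ⊤
      · have hCtop : Cbar = ⊤ := by
          rw [← hKmap, hKtop, ← MonoidHom.range_eq_map, MonoidHom.range_eq_top.mpr hsurj]
        subst hCtop
        have hnilQ : Group.IsNilpotent (G ⧸ N) := by
          have := hCbar.1
          exact Group.nilpotent_of_mulEquiv (Subgroup.topEquiv (G := G ⧸ N))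
        exact exists_carter_of_quotient_nilpotent N hNpg hnilQ
      · have hKlt : K < ⊤ := lt_top_iff_ne_top.mpr hKtop
        obtain ⟨⟨C, hC⟩, -⟩ := ihrel K hKlt
        have hself := hC.normalizer_sup N hNK
          (fun L hL => (ihrel L (lt_of_lt_of_le hL le_top)).2)
        obtain ⟨M, hM⟩ : ∃ M, M = C ⊔ N := ⟨_, rfl⟩
        rw [← hM] at hself
        have hNM : N ≤ M := hM ▸ le_sup_right
        have hMK : M ≤ K := hM ▸ sup_le hC.1 hNK
        have hMcomap : (M.map (QuotientGroup.mk' N)).comap (QuotientGroup.mk' N) = M := by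
          rw [QuotientGroup.comap_map_mk', sup_eq_right.mpr hNM]
        have hMmap : M.map (QuotientGroup.mk' N) = Cbar := by
          have hle : M.map (QuotientGroup.mk' N) ≤ Cbar := hKmap ▸ Subgroup.map_mono hMK
          by_contra hne
          have hnilC := hCbar.1
          have hlt : (M.map (QuotientGroup.mk' N)).subgroupOf Cbar < ⊤ := by
            rw [lt_top_iff_ne_top, Ne, Subgroup.subgroupOf_eq_top]
            intro h
            exact hne (le_antisymm hle h)
          have hnc := Group.normalizerCondition_of_isNilpotent _ hlt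
          rw [← Subgroup.subgroupOf_normalizer_eq hle] at hnc
          obtain ⟨xbar, hx1, hx2⟩ := SetLike.exists_of_lt hnc
          obtain ⟨x, hx⟩ := hsurj (xbar : G ⧸ N)
          rw [Subgroup.mem_subgroupOf] at hx1 hx2
          have hxK : x ∈ K := by
            rw [hK, Subgroup.mem_comap, hx]; exact xbar.2
          have hxM : x ∈ Subgroup.normalizer (M : Set G) := by
            rw [← hMcomap]
            apply Subgroup.le_normalizer_comap (QuotientGroup.mk' N)
            rw [Subgroup.mem_comap, hx]
            exact hx1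
          have : x ∈ Subgroup.normalizer (M : Set G) ⊓ K := ⟨hxM, hxK⟩
          rw [hself] at this
          apply hx2
          rw [← hx]
          exact Subgroup.mem_map_of_mem _ this
        have hMeqK : M = K := by rw [← hMcomap, hMmap, hK]
        refine ⟨C, hC.2.1, le_antisymm ?_ Subgroup.le_normalizer⟩
        intro g hg
        have hgM : g ∈ Subgroup.normalizer (M : Set G) := by
          apply mem_normalizer_of_conj_smul_eq
          rw [hM, Subgroup.smul_sup, conj_smul_eq_of_mem_normalizer hg,
            Subgroup.Normal.conj_smul_eq_self g N]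
        rw [hMeqK] at hgM
        have h1 : QuotientGroup.mk' N g ∈ Cbar := by
          rw [← hCbar.2, ← hKmap]
          exact Subgroup.le_normalizer_map (QuotientGroup.mk' N) (Subgroup.mem_map_of_mem _ hgM)
        have hgK : g ∈ K := by rw [hK]; exact h1
        have : g ∈ Subgroup.normalizer (C : Set G) ⊓ K := ⟨hg, hgK⟩
        rw [hC.2.2] at this
        exact this
    · -- conjugacy
      intro C D hC hD
      have hCQ := hC.map_mk' N (fun L hL => (ihrel L hL).2)
      have hDQ := hD.map_mk' N (fun L hL => (ihrel L hL).2)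
      obtain ⟨gbar, hgbar⟩ := hconjQ _ _ hCQ hDQ
      obtain ⟨g, rfl⟩ := hsurj gbar
      obtain ⟨C₁, hC₁def⟩ : ∃ C₁, C₁ = MulAut.conj g • C := ⟨_, rfl⟩
      have hC₁ : IsCarter C₁ := hC₁def ▸ hC.conj_smul g
      suffices h : ∃ x, MulAut.conj x • C₁ = D by
        obtain ⟨x, hx⟩ := h
        exact ⟨x * g, by rw [map_mul, mul_smul, ← hC₁def, hx]⟩
      have hmapeq : C₁.map (QuotientGroup.mk' N) = D.map (QuotientGroup.mk' N) := by
        rw [hC₁def, map_conj_smul, hgbar]
      have hsup : C₁ ⊔ N = D ⊔ N := by
        have := congrArg (Subgroup.comap (QuotientGroup.mk' N)) hmapeq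
        rwa [QuotientGroup.comap_map_mk', QuotientGroup.comap_map_mk', sup_comm N, sup_comm N] at this
      by_cases hLtop : C₁ ⊔ N = ⊤
      · have hDtop : D ⊔ N = ⊤ := hsup ▸ hLtop
        have hn1 : (N ⊓ C₁).Normal :=
          inf_normal_of_abelian_normal_sup_eq_top N C₁ hNcomm (by rw [sup_comm]; exact hLtop)
        have hn2 : (N ⊓ D).Normal :=
          inf_normal_of_abelian_normal_sup_eq_top N D hNcomm (by rw [sup_comm]; exact hDtop)
        have htopcase : ∀ X Y : Subgroup G, IsCarter X → IsCarter Y → X ⊔ N = ⊤ → N ⊓ X = N →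
            X = Y := by
          intro X Y hX hY hXN hNX
          have h1 : N ≤ X := inf_eq_left.mp hNX
          have h2 : X = ⊤ := by rw [← hXN]; exact (sup_eq_left.mpr h1).symm
          subst h2
          have hnil : Group.IsNilpotent G := by
            have := hX.1
            exact Group.nilpotent_of_mulEquiv (Subgroup.topEquiv (G := G))
          exact (eq_top_of_isCarter_of_isNilpotent hY).symm
        rcases hNmin (N ⊓ C₁) hn1 inf_le_left with h1 | h1
        · rcases hNmin (N ⊓ D) hn2 inf_le_left with h2 | h2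
          · exact conj_of_complements N hNpg hNbot hNcomm hC₁ hD hLtop hDtop
              (by rw [inf_comm]; exact h1) (by rw [inf_comm]; exact h2)
              (fun L hL => (ihrel L hL).2)
          · exact ⟨1, by rw [map_one, one_smul]; exact (htopcase D C₁ hD hC₁ hDtop h2).symm⟩
        · exact ⟨1, by rw [map_one, one_smul]; exact htopcase C₁ D hC₁ hD hLtop h1⟩
      · obtain ⟨l, -, hl⟩ := (ihrel _ (lt_top_iff_ne_top.mpr hLtop)).2 C₁ D
          (hC₁.isCarterIn le_sup_left) (hD.isCarterIn (hsup ▸ le_sup_left))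
        exact ⟨l, hl⟩

theorem carter_main {G : Type u} [Group G] [Finite G] [Group.IsSolvable G] :
    (∃ C : Subgroup G, Group.IsNilpotent C ∧ Subgroup.normalizer (C : Set G) = C) ∧
    ∀ C D : Subgroup G, Group.IsNilpotent C → Subgroup.normalizer (C : Set G) = C →
      Group.IsNilpotent D → Subgroup.normalizer (D : Set G) = D →
      ∃ g : G, MulAut.conj g • C = D := by
  obtain ⟨h1, h2⟩ := carter_aux (Nat.card G) G rfl
  exact ⟨h1, fun C D hC1 hC2 hD1 hD2 => h2 C D ⟨hC1, hC2⟩ ⟨hD1, hD2⟩⟩

end Cfsg.Agent.Lib.Helper1.Carter
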