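import Mathlib
import Cfsg.Agent.Lib.Helper1.ComplementSystem2
import Cfsg.Agent.Lib.Helper1.MinimalNormal
import Cfsg.Agent.Lib.Helper1.Nilpotent
set_option autoImplicit false
universe u v
open scoped Pointwise commutatorElement
namespace Cfsg.Agent.Lib.Helper1
variable {G : Type u} [Group G]

theorem chief_map_minimal (A B : Subgroup G) [hA : A.Normal] (hAB : A < B)
    (hchief : ∀ N : Subgroup G, N.Normal → A ≤ N → N ≤ B → N = A ∨ N = B) :
    (B.map (QuotientGroup.mk' A)) ≠ ⊥ ∧ ∀ M : Subgroup (G ⧸ A), M.Normal →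
      M ≤ B.map (QuotientGroup.mk' A) → M = ⊥ ∨ M = B.map (QuotientGroup.mk' A) := by
  have hsurj := QuotientGroup.mk'_surjective A
  constructor
  · intro h
    apply hAB.not_ge
    rw [Subgroup.map_eq_bot_iff, QuotientGroup.ker_mk'] at h
    exact h
  · intro M hMn hMle
    obtain ⟨N, hN⟩ : ∃ N : Subgroup G, N = M.comap (QuotientGroup.mk' A) := ⟨_, rfl⟩
    have hNn : N.Normal := by rw [hN]; infer_instance
    have hAN : A ≤ N := by
      rw [hN]
      conv_lhs => rw [← QuotientGroup.ker_mk' A]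
      exact Subgroup.ker_le_comap _ _
    have hNB : N ≤ B := by
      rw [hN]
      have := Subgroup.comap_mono (f := QuotientGroup.mk' A) hMle
      rw [Subgroup.comap_map_eq, QuotientGroup.ker_mk', sup_of_le_left hAB.le] at this
      exact this
    have hmap : N.map (QuotientGroup.mk' A) = M := by
      rw [hN]; exact Subgroup.map_comap_eq_self_of_surjective hsurj M
    rcases hchief N hNn hAN hNB with h | h
    · left
      rw [← hmap, h, Subgroup.map_eq_bot_iff, QuotientGroup.ker_mk']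
    · right
      rw [← hmap, h]

theorem chief_factor_pgroup [Finite G] [Group.IsSolvable G] (A B : Subgroup G) [hA : A.Normal]
    [hB : B.Normal] (hAB : A < B)
    (hchief : ∀ N : Subgroup G, N.Normal → A ≤ N → N ≤ B → N = A ∨ N = B) :
    ∃ q : ℕ, q.Prime ∧ IsPGroup q (B.map (QuotientGroup.mk' A)) ∧
      ∀ x ∈ B.map (QuotientGroup.mk' A), ∀ y ∈ B.map (QuotientGroup.mk' A), x * y = y * x := by
  obtain ⟨hV, hmin⟩ := chief_map_minimal A B hAB hchief
  have hVn : (B.map (QuotientGroup.mk' A)).Normal :=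
    Subgroup.Normal.map hB _ (QuotientGroup.mk'_surjective A)
  obtain ⟨hcomm, q, hq, hexp⟩ := minimal_normal_of_solvable (B.map (QuotientGroup.mk' A)) hV hmin
  refine ⟨q, hq, ?_, ?_⟩
  · intro x
    refine ⟨1, ?_⟩
    rw [pow_one]
    apply Subtype.ext
    rw [Subgroup.coe_pow]
    exact hexp x x.2
  · intro x hx y hy
    have := hcomm.is_comm.comm (⟨x, hx⟩ : B.map (QuotientGroup.mk' A)) ⟨y, hy⟩
    exact congrArg Subtype.val this

theorem chief_factor_relIndex [Finite G] [Group.IsSolvable G] (A B : Subgroup G) [hA : A.Normal]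
    [hB : B.Normal] (hAB : A < B)
    (hchief : ∀ N : Subgroup G, N.Normal → A ≤ N → N ≤ B → N = A ∨ N = B) :
    ∃ q k : ℕ, q.Prime ∧ A.relIndex B = q ^ k := by
  obtain ⟨q, hq, hp, -⟩ := chief_factor_pgroup A B hAB hchief
  have : Fact q.Prime := ⟨hq⟩
  obtain ⟨k, hk⟩ := IsPGroup.iff_card.mp hp
  refine ⟨q, k, hq, ?_⟩
  have h1 := card_comap_mk' A (B.map (QuotientGroup.mk' A))
  rw [Subgroup.comap_map_eq, QuotientGroup.ker_mk', sup_of_le_left hAB.le, hk] at h1
  have h2 := relIndex_mul_card_inf A B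
  rw [inf_of_le_left hAB.le, h1, mul_comm] at h2
  exact Nat.eq_of_mul_eq_mul_left Nat.card_pos h2

/-- If `C ≤ M` are normal with `|M : C|` a power of `q` and `T` has index prime to `q`, then
`M = C (M ∩ T)`. -/
theorem le_sup_inf_of_coprime_index [Finite G] (C M T : Subgroup G) [hM : M.Normal]
    {q k : ℕ} (hrel : C.relIndex M = q ^ k) (hT : T.index.Coprime q) :
    M ≤ C ⊔ (M ⊓ T) := by
  rw [← Subgroup.relIndex_eq_one]
  have h1 : (C ⊔ (M ⊓ T)).relIndex M ∣ q ^ k := by
    rw [← hrel]; exact Subgroup.relIndex_dvd_of_le_left M le_sup_left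
  have h2 : (C ⊔ (M ⊓ T)).relIndex M ∣ T.index := by
    refine dvd_trans (Subgroup.relIndex_dvd_of_le_left M (le_sup_right : M ⊓ T ≤ C ⊔ (M ⊓ T))) ?_
    rw [Subgroup.inf_relIndex_left]
    exact relIndex_dvd_index_of_normal_right T M
  exact Nat.eq_one_of_dvd_coprimes (Nat.Coprime.pow_right k hT) h2 h1


theorem mk_central_of_commutator_le (A B : Subgroup G) [A.Normal]
    (hcent : ⁅B, (⊤ : Subgroup G)⁆ ≤ A) {b : G} (hb : b ∈ B) (y : G ⧸ A) :
    QuotientGroup.mk' A b * y = y * QuotientGroup.mk' A b := by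
  obtain ⟨g, rfl⟩ := QuotientGroup.mk'_surjective A y
  rw [← map_mul, ← map_mul]
  apply QuotientGroup.eq.mpr
  have h1 : ⁅b⁻¹, g⁻¹⁆ ∈ A :=
    hcent (Subgroup.commutator_mem_commutator (B.inv_mem hb) (Subgroup.mem_top _))
  have e : (b * g)⁻¹ * (g * b) = (⁅b⁻¹, g⁻¹⁆)⁻¹ := by
    rw [commutatorElement_def]; group
  rw [e]
  exact A.inv_mem h1

theorem systemNormalizer_covers_central [Finite G] [Group.IsSolvable G]
    (K : Nat.Primes → Subgroup G) (hK : Cfsg.IsComplementSystem K) (A B : Subgroup G) [A.Normal]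
    (hcent : ⁅B, (⊤ : Subgroup G)⁆ ≤ A) : B ≤ A ⊔ Cfsg.systemNormalizer K := by
  intro b hb
  have hD := systemNormalizer_map_mk K hK A
  have hbD : QuotientGroup.mk' A b ∈
      Cfsg.systemNormalizer (fun p => (K p).map (QuotientGroup.mk' A)) := by
    unfold Cfsg.systemNormalizer
    rw [Subgroup.mem_iInf]
    intro p
    rw [Subgroup.mem_normalizer_iff]
    intro y
    rw [mk_central_of_commutator_le A B hcent hb y, mul_inv_cancel_right]
  rw [hD] at hbD
  obtain ⟨d, hd, hdb⟩ := hbD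
  have h1 : d⁻¹ * b ∈ A := QuotientGroup.eq.mp hdb
  have e : b = d * (d⁻¹ * b) := by group
  rw [e]
  exact Subgroup.mul_mem _ (Subgroup.mem_sup_right hd) (Subgroup.mem_sup_left h1)


theorem minimal_normal_central_of_fixed {Γ : Type u} [Group Γ] [Finite Γ] [Group.IsSolvable Γ]
    (V : Subgroup Γ) [hVn : V.Normal] (hV : V ≠ ⊥)
    (hmin : ∀ M : Subgroup Γ, M.Normal → M ≤ V → M = ⊥ ∨ M = V) (p : ℕ) [hp : Fact p.Prime]
    (hVp : IsPGroup p V) (T : Subgroup Γ) (a : ℕ)
    (hT : T.index = p ^ a) (x : Γ) (hxV : x ∈ V) (hx1 : x ≠ 1) (hxT : ∀ t ∈ T, t * x = x * t) :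
    ∀ v ∈ V, ∀ g : Γ, g * v = v * g := by
  by_contra hcon
  obtain ⟨C, hC⟩ : ∃ C : Subgroup Γ, C = Subgroup.centralizer (V : Set Γ) := ⟨_, rfl⟩
  have hCn : C.Normal := by rw [hC]; infer_instance
  have hCtop : C ≠ ⊤ := by
    intro h
    apply hcon
    intro v hv g
    have : g ∈ C := by rw [h]; trivial
    rw [hC, Subgroup.mem_centralizer_iff] at this
    exact (this v hv).symm
  obtain ⟨SS, hSS⟩ : ∃ SS : Set (Subgroup Γ), SS = {N : Subgroup Γ | N.Normal ∧ C < N} := ⟨_, rfl⟩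
  have htop : (⊤ : Subgroup Γ) ∈ SS := by
    rw [hSS]; exact ⟨inferInstance, lt_top_iff_ne_top.mpr hCtop⟩
  obtain ⟨M, -, hMmin⟩ := (Set.toFinite SS).exists_le_minimal htop
  have hMprop := hMmin.prop
  rw [hSS] at hMprop
  obtain ⟨hMn, hCM⟩ := hMprop
  have hchief : ∀ N : Subgroup Γ, N.Normal → C ≤ N → N ≤ M → N = C ∨ N = M := by
    intro N hNn hCN hNM
    by_cases h : N = C
    · exact Or.inl h
    · right
      have hmem : N ∈ SS := by rw [hSS]; exact ⟨hNn, lt_of_le_of_ne hCN (Ne.symm h)⟩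
      exact le_antisymm hNM (hMmin.le_of_le hmem hNM)
  obtain ⟨q, k, hq, hrel⟩ := chief_factor_relIndex C M hCM hchief
  have key : ∃ (T' : Subgroup Γ) (g : Γ), T'.index.Coprime q ∧ g ∈ V ∧ g ≠ 1 ∧
      ∀ t ∈ T', t * g = g * t := by
    by_cases hqp : q = p
    · subst hqp
      obtain ⟨P, hVP⟩ := hVp.exists_le_sylow
      have hPnil : Group.IsNilpotent (P : Subgroup Γ) := P.2.isNilpotent
      have hN : (V.subgroupOf (P : Subgroup Γ)).Normal := hVn.subgroupOf _
      have hne : V.subgroupOf (P : Subgroup Γ) ≠ ⊥ := by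
        intro h
        apply hV
        rw [eq_bot_iff]
        intro v hv
        have : (⟨v, hVP hv⟩ : (P : Subgroup Γ)) ∈ V.subgroupOf (P : Subgroup Γ) :=
          Subgroup.mem_subgroupOf.mpr hv
        rw [h, Subgroup.mem_bot] at this
        rw [Subgroup.mem_bot]
        exact congrArg Subtype.val this
      have h2 := normal_inf_center_ne_bot (G := (P : Subgroup Γ)) (V.subgroupOf P) hne
      obtain ⟨⟨z, hzmem⟩, hz1⟩ := (Subgroup.ne_bot_iff_exists_ne_one).mp h2
      obtain ⟨hzV, hzZ⟩ := Subgroup.mem_inf.mp hzmem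
      refine ⟨P, (z : Γ), ?_, Subgroup.mem_subgroupOf.mp hzV, ?_, ?_⟩
      · exact (Nat.Prime.coprime_iff_not_dvd hp.out).mpr P.not_dvd_index |>.symm
      · intro h
        apply hz1
        exact Subtype.ext (Subtype.ext h)
      · intro t ht
        have := Subgroup.mem_center_iff.mp hzZ ⟨t, ht⟩
        exact congrArg Subtype.val this
    · refine ⟨T, x, ?_, hxV, hx1, hxT⟩
      rw [hT]
      exact Nat.Coprime.pow_left _ ((Nat.coprime_primes hp.out hq).mpr (Ne.symm hqp))
  obtain ⟨T', g, hT', hgV, hg1, hgT⟩ := key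
  have hMle := le_sup_inf_of_coprime_index C M T' hrel hT'
  have hgM : ∀ m ∈ M, m * g = g * m := by
    have hle : C ⊔ (M ⊓ T') ≤ Subgroup.centralizer ({g} : Set Γ) := by
      apply sup_le
      · intro c hc
        rw [Subgroup.mem_centralizer_iff]
        intro h hh
        rw [Set.mem_singleton_iff] at hh
        subst hh
        rw [hC, Subgroup.mem_centralizer_iff] at hc
        exact hc h hgV
      · intro t ht
        rw [Subgroup.mem_centralizer_iff]
        intro h hh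
        rw [Set.mem_singleton_iff] at hh
        subst hh
        exact (hgT t ht.2).symm
    intro m hm
    have := hle (hMle hm)
    rw [Subgroup.mem_centralizer_iff] at this
    exact (this g rfl).symm
  obtain ⟨V₀, hV₀⟩ : ∃ V₀ : Subgroup Γ, V₀ = V ⊓ Subgroup.centralizer (M : Set Γ) := ⟨_, rfl⟩
  have hV₀n : V₀.Normal := by rw [hV₀]; infer_instance
  have hgV₀ : g ∈ V₀ := by
    rw [hV₀]
    refine Subgroup.mem_inf.mpr ⟨hgV, ?_⟩
    rw [Subgroup.mem_centralizer_iff]
    exact fun m hm => hgM m hm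
  rcases hmin V₀ hV₀n (by rw [hV₀]; exact inf_le_left) with h | h
  · rw [h, Subgroup.mem_bot] at hgV₀
    exact hg1 hgV₀
  · apply hCM.not_ge
    intro m hm
    rw [hC, Subgroup.mem_centralizer_iff]
    intro v hv
    have hv' : v ∈ V₀ := h ▸ hv
    rw [hV₀] at hv'
    have := (Subgroup.mem_inf.mp hv').2
    rw [Subgroup.mem_centralizer_iff] at this
    exact (this m hm).symm


theorem systemNormalizer_avoids_eccentric [Finite G] [Group.IsSolvable G]
    (K : Nat.Primes → Subgroup G) (hK : Cfsg.IsComplementSystem K) (A B : Subgroup G)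
    [hA : A.Normal] [hB : B.Normal] (hAB : A < B)
    (hchief : ∀ N : Subgroup G, N.Normal → A ≤ N → N ≤ B → N = A ∨ N = B)
    (hecc : ¬ ⁅B, (⊤ : Subgroup G)⁆ ≤ A) : B ⊓ Cfsg.systemNormalizer K ≤ A := by
  intro x hx
  obtain ⟨hxB, hxD⟩ := Subgroup.mem_inf.mp hx
  by_contra hxA
  apply hecc
  obtain ⟨hVbot, hmin⟩ := chief_map_minimal A B hAB hchief
  obtain ⟨p, hp, hVp, -⟩ := chief_factor_pgroup A B hAB hchief
  have : Fact p.Prime := ⟨hp⟩
  have hVn : (B.map (QuotientGroup.mk' A)).Normal :=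
    Subgroup.Normal.map hB _ (QuotientGroup.mk'_surjective A)
  obtain ⟨p', hp'⟩ : ∃ p' : Nat.Primes, (p' : ℕ) = p := ⟨⟨p, hp⟩, rfl⟩
  subst hp'
  have hKbar := isComplementSystem_map_mk K hK A
  have hT : ((K p').map (QuotientGroup.mk' A)).index =
      (p' : ℕ) ^ (Nat.card (G ⧸ A)).factorization p' := hKbar p'
  have hxV : QuotientGroup.mk' A x ∈ B.map (QuotientGroup.mk' A) := Subgroup.mem_map_of_mem _ hxB
  have hx1 : QuotientGroup.mk' A x ≠ 1 := fun h => hxA ((QuotientGroup.eq_one_iff x).mp h)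
  have hxN : QuotientGroup.mk' A x ∈ Subgroup.normalizer
      (((K p').map (QuotientGroup.mk' A) : Subgroup (G ⧸ A)) : Set (G ⧸ A)) := by
    have h1 : QuotientGroup.mk' A x ∈ (Cfsg.systemNormalizer K).map (QuotientGroup.mk' A) :=
      Subgroup.mem_map_of_mem _ hxD
    rw [← systemNormalizer_map_mk K hK A] at h1
    unfold Cfsg.systemNormalizer at h1
    rw [Subgroup.mem_iInf] at h1
    exact h1 p'
  have hcop : (Nat.card (B.map (QuotientGroup.mk' A))).Coprime
      (Nat.card ((K p').map (QuotientGroup.mk' A))) := by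
    obtain ⟨j, hj⟩ := IsPGroup.iff_card.mp hVp
    rw [hj]
    apply Nat.Coprime.pow_left
    exact (complementSystem_card_coprime hKbar p').symm
  have hdis : B.map (QuotientGroup.mk' A) ⊓ (K p').map (QuotientGroup.mk' A) = ⊥ :=
    (Subgroup.disjoint_of_coprime_natCard hcop).eq_bot
  have hxT : ∀ t ∈ (K p').map (QuotientGroup.mk' A),
      t * QuotientGroup.mk' A x = QuotientGroup.mk' A x * t := by
    intro t ht
    obtain ⟨y, hy⟩ : ∃ y, y = QuotientGroup.mk' A x := ⟨_, rfl⟩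
    rw [← hy] at hxV hxN ⊢
    have h1 : y * t * y⁻¹ ∈ (K p').map (QuotientGroup.mk' A) :=
      (Subgroup.mem_normalizer_iff.mp hxN t).mp ht
    have h2 : y * t * y⁻¹ * t⁻¹ ∈ (K p').map (QuotientGroup.mk' A) :=
      Subgroup.mul_mem _ h1 (Subgroup.inv_mem _ ht)
    have h3 : y * (t * y⁻¹ * t⁻¹) ∈ B.map (QuotientGroup.mk' A) :=
      Subgroup.mul_mem _ hxV (hVn.conj_mem _ (Subgroup.inv_mem _ hxV) t)
    have e : y * (t * y⁻¹ * t⁻¹) = y * t * y⁻¹ * t⁻¹ := by group
    rw [e] at h3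
    have h4 : y * t * y⁻¹ * t⁻¹ ∈ B.map (QuotientGroup.mk' A) ⊓ (K p').map (QuotientGroup.mk' A) :=
      Subgroup.mem_inf.mpr ⟨h3, h2⟩
    rw [hdis, Subgroup.mem_bot] at h4
    calc t * y = (y * t * y⁻¹ * t⁻¹)⁻¹ * (y * t) := by group
      _ = y * t := by rw [h4, inv_one, one_mul]
  have hcentral := minimal_normal_central_of_fixed (B.map (QuotientGroup.mk' A)) hVbot hmin p' hVp
    ((K p').map (QuotientGroup.mk' A)) _ hT (QuotientGroup.mk' A x) hxV hx1 hxT
  rw [Subgroup.commutator_le]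
  intro b hb g _
  rw [← QuotientGroup.eq_one_iff, ← QuotientGroup.mk'_apply, map_commutatorElement,
    commutatorElement_eq_one_iff_commute]
  exact (hcentral _ (Subgroup.mem_map_of_mem _ hb) (QuotientGroup.mk' A g)).symm

end Cfsg.Agent.Lib.Helper1
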