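import Mathlib
import Cfsg.Agent.Lib.Helper1.Carter6
import Cfsg.Agent.Lib.Helper1.CoverAvoid
import Cfsg.Agent.Lib.Helper1.SylowSystem
import Cfsg.Agent.Lib.Helper1.SubnormalSylow
set_option autoImplicit false
open scoped Pointwise commutatorElement
universe u
namespace Cfsg.Agent.Lib.Helper1.CarterSN

open Cfsg.Agent.Lib.Helper1 Cfsg.Agent.Lib.Helper1.Carter

variable {G : Type u} [Group G]

theorem exists_complementSystem [Finite G] [Group.IsSolvable G] :
    ∃ K : Nat.Primes → Subgroup G, Cfsg.IsComplementSystem K := by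
  choose K hK using fun p : Nat.Primes => hall_complement_exists (G := G) p p.2
  exact ⟨K, hK⟩

theorem mem_normalizer_conj_smul (H : Subgroup G) (g x : G) :
    x ∈ Subgroup.normalizer ((MulAut.conj g • H : Subgroup G) : Set G) ↔
      g⁻¹ * x * g ∈ Subgroup.normalizer (H : Set G) := by
  rw [Subgroup.mem_normalizer_iff, Subgroup.mem_normalizer_iff]
  constructor
  · intro h y
    have h1 := h (g * y * g⁻¹)
    rw [Subgroup.mem_pointwise_smul_iff_inv_smul_mem, Subgroup.mem_pointwise_smul_iff_inv_smul_mem,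
      MulAut.smul_def, MulAut.smul_def, ← map_inv, MulAut.conj_apply, MulAut.conj_apply] at h1
    have e1 : g⁻¹ * (g * y * g⁻¹) * g⁻¹⁻¹ = y := by group
    have e2 : g⁻¹ * (x * (g * y * g⁻¹) * x⁻¹) * g⁻¹⁻¹ = g⁻¹ * x * g * y * (g⁻¹ * x * g)⁻¹ := by group
    rw [e1, e2] at h1
    exact h1
  · intro h y
    have h1 := h (g⁻¹ * y * g)
    rw [Subgroup.mem_pointwise_smul_iff_inv_smul_mem, Subgroup.mem_pointwise_smul_iff_inv_smul_mem,
      MulAut.smul_def, MulAut.smul_def, ← map_inv, MulAut.conj_apply, MulAut.conj_apply]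
    have e1 : g⁻¹ * y * g⁻¹⁻¹ = g⁻¹ * y * g := by group
    have e2 : g⁻¹ * (x * y * x⁻¹) * g⁻¹⁻¹ = g⁻¹ * x * g * (g⁻¹ * y * g) * (g⁻¹ * x * g)⁻¹ := by group
    rw [e1, e2]
    exact h1

theorem systemNormalizer_conj (K : Nat.Primes → Subgroup G) (g : G) :
    Cfsg.systemNormalizer (fun p => MulAut.conj g • K p) =
      MulAut.conj g • Cfsg.systemNormalizer K := by
  ext x
  rw [Subgroup.mem_pointwise_smul_iff_inv_smul_mem, MulAut.smul_def, ← map_inv, MulAut.conj_apply]
  unfold Cfsg.systemNormalizer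
  rw [Subgroup.mem_iInf, Subgroup.mem_iInf]
  have e : g⁻¹ * x * g⁻¹⁻¹ = g⁻¹ * x * g := by group
  rw [e]
  exact forall_congr' (fun p => mem_normalizer_conj_smul (K p) g x)

theorem carterIn_conj [Finite G] [Group.IsSolvable G] (L : Subgroup G) (C D : Subgroup G)
    (hC : IsCarterIn C L) (hD : IsCarterIn D L) : ∃ l ∈ L, MulAut.conj l • C = D := by
  obtain ⟨-, hconj⟩ := carter_main (G := L)
  obtain ⟨l, hl⟩ := hconj _ _ hC.subgroupOf.1 hC.subgroupOf.2 hD.subgroupOf.1 hD.subgroupOf.2
  refine ⟨l, l.2, ?_⟩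
  have h1 := congrArg (Subgroup.map L.subtype) hl
  rw [Subgroup.map_subgroupOf_eq_of_le hD.1, conj_smul_map_subtype,
    Subgroup.map_subgroupOf_eq_of_le hC.1] at h1
  exact h1

theorem IsCarter.map_mk [Finite G] [Group.IsSolvable G] {C : Subgroup G} (hC : IsCarter C)
    (N : Subgroup G) [N.Normal] : IsCarter (C.map (QuotientGroup.mk' N)) :=
  hC.map_mk' N (fun L _ C D hC hD => carterIn_conj L C D hC hD)

/-- a Carter subgroup of the full preimage of a Carter subgroup of `G ⧸ N` is a Carter subgroup -/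
theorem isCarter_of_isCarterIn_comap [Finite G] [Group.IsSolvable G] (N : Subgroup G) [hN : N.Normal]
    (L E : Subgroup G) (hNL : N ≤ L) (hL : IsCarter (L.map (QuotientGroup.mk' N)))
    (hE : IsCarterIn E L) : IsCarter E := by
  have hsurj := QuotientGroup.mk'_surjective N
  have hcomapL : (L.map (QuotientGroup.mk' N)).comap (QuotientGroup.mk' N) = L := by
    rw [Subgroup.comap_map_eq, QuotientGroup.ker_mk', sup_of_le_left hNL]
  have hself := hE.normalizer_sup N hNL
    (fun L' _ C D hC hD => carterIn_conj L' C D hC hD)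
  -- `E ⊔ N = L`
  have hEN : E ⊔ N = L := by
    by_contra hne
    have hle : E ⊔ N ≤ L := sup_le hE.1 hNL
    have hlt : E ⊔ N < L := lt_of_le_of_ne hle hne
    obtain ⟨Lb, hLb⟩ : ∃ Lb, Lb = L.map (QuotientGroup.mk' N) := ⟨_, rfl⟩
    rw [← hLb] at hL hcomapL
    have : Group.IsNilpotent Lb := hL.1
    obtain ⟨Mb, hMb⟩ : ∃ Mb : Subgroup Lb, Mb = ((E ⊔ N).map (QuotientGroup.mk' N)).subgroupOf Lb :=
      ⟨_, rfl⟩
    have hMle : (E ⊔ N).map (QuotientGroup.mk' N) ≤ Lb := by
      rw [hLb]; exact Subgroup.map_mono hle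
    have hMlt : Mb < ⊤ := by
      rw [lt_top_iff_ne_top]
      intro h
      apply hlt.not_ge
      intro x hx
      have h1 : (⟨QuotientGroup.mk' N x, by rw [hLb]; exact Subgroup.mem_map_of_mem _ hx⟩ : Lb) ∈ Mb := by
        rw [h]; trivial
      rw [hMb, Subgroup.mem_subgroupOf] at h1
      obtain ⟨y, hy, hyx⟩ := h1
      have h2 : y⁻¹ * x ∈ N := by
        rw [← QuotientGroup.eq]
        exact hyx
      have h3 : x = y * (y⁻¹ * x) := by group
      rw [h3]
      exact Subgroup.mul_mem _ hy (Subgroup.mem_sup_right h2)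
    have hnc := Group.normalizerCondition_of_isNilpotent Mb hMlt
    obtain ⟨xb, hxb, hxnot⟩ := SetLike.exists_of_lt hnc
    obtain ⟨x, hxL, hx⟩ : ∃ x ∈ L, QuotientGroup.mk' N x = (xb : G ⧸ N) := by
      exact (le_of_eq hLb) xb.2
    have hxnorm : x ∈ Subgroup.normalizer ((E ⊔ N : Subgroup G) : Set G) := by
      rw [Subgroup.mem_normalizer_iff]
      intro y
      have hcm : ∀ z : G, z ∈ E ⊔ N ↔ QuotientGroup.mk' N z ∈ (E ⊔ N).map (QuotientGroup.mk' N) := by
        intro z
        constructor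
        · exact Subgroup.mem_map_of_mem _
        · intro hz
          have : z ∈ ((E ⊔ N).map (QuotientGroup.mk' N)).comap (QuotientGroup.mk' N) := hz
          rw [Subgroup.comap_map_eq, QuotientGroup.ker_mk', sup_assoc, sup_idem] at this
          exact this
      rw [hcm y, hcm (x * y * x⁻¹)]
      by_cases hyL : y ∈ L
      · have h1 := (Subgroup.mem_normalizer_iff.mp hxb)
          ⟨QuotientGroup.mk' N y, by rw [hLb]; exact Subgroup.mem_map_of_mem _ hyL⟩
        rw [hMb, Subgroup.mem_subgroupOf, Subgroup.mem_subgroupOf] at h1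
        have e : ((xb * ⟨QuotientGroup.mk' N y, by rw [hLb]; exact Subgroup.mem_map_of_mem _ hyL⟩ *
            xb⁻¹ : Lb) : G ⧸ N) = QuotientGroup.mk' N (x * y * x⁻¹) := by
          rw [map_mul, map_mul, map_inv, hx]
          rfl
        rw [e] at h1
        exact h1
      · constructor
        · intro h
          exact absurd (hcomapL ▸ (show y ∈ Lb.comap (QuotientGroup.mk' N) from hMle h)) hyL
        · intro h
          have h1 : x * y * x⁻¹ ∈ L := hcomapL ▸ (show x * y * x⁻¹ ∈ Lb.comap (QuotientGroup.mk' N) from hMle h)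
          have h2 : y = x⁻¹ * (x * y * x⁻¹) * x := by group
          rw [h2] at hyL
          exact absurd (L.mul_mem (L.mul_mem (L.inv_mem hxL) h1) hxL) hyL
    have hxin : x ∈ E ⊔ N := by
      rw [← hself]
      exact ⟨hxnorm, hxL⟩
    apply hxnot
    rw [hMb, Subgroup.mem_subgroupOf, ← hx]
    exact Subgroup.mem_map_of_mem _ hxin
  refine ⟨hE.2.1, le_antisymm ?_ Subgroup.le_normalizer⟩
  intro g hg
  have hgL : g ∈ Subgroup.normalizer (L : Set G) := by
    rw [← hEN]
    rw [Subgroup.mem_normalizer_iff] at hg ⊢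
    intro y
    constructor
    · intro hy
      obtain ⟨e, he, n, hn, rfl⟩ := Subgroup.mem_sup_of_normal_right.mp hy
      have e1 : g * (e * n) * g⁻¹ = g * e * g⁻¹ * (g * n * g⁻¹) := by group
      rw [e1]
      exact Subgroup.mul_mem _ (Subgroup.mem_sup_left ((hg e).mp he))
        (Subgroup.mem_sup_right (hN.conj_mem n hn g))
    · intro hy
      obtain ⟨e, he, n, hn, hen⟩ := Subgroup.mem_sup_of_normal_right.mp hy
      have e1 : y = g⁻¹ * e * g * (g⁻¹ * n * g) := by
        have : y = g⁻¹ * (g * y * g⁻¹) * g := by group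
        rw [this, ← hen]; group
      rw [e1]
      refine Subgroup.mul_mem _ (Subgroup.mem_sup_left ?_) (Subgroup.mem_sup_right ?_)
      · have := (hg (g⁻¹ * e * g)).mpr (by
          have e2 : g * (g⁻¹ * e * g) * g⁻¹ = e := by group
          rw [e2]; exact he)
        exact this
      · have := hN.conj_mem n hn g⁻¹
        rwa [inv_inv] at this
  have hgL' : g ∈ L := by
    have h1 : QuotientGroup.mk' N g ∈ Subgroup.normalizer
        ((L.map (QuotientGroup.mk' N) : Subgroup (G ⧸ N)) : Set (G ⧸ N)) := by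
      rw [Subgroup.mem_normalizer_iff]
      intro yb
      obtain ⟨y, rfl⟩ := hsurj yb
      rw [← map_inv, ← map_mul, ← map_mul]
      have hcm : ∀ z : G, QuotientGroup.mk' N z ∈ L.map (QuotientGroup.mk' N) ↔ z ∈ L := by
        intro z
        constructor
        · intro hz
          have : z ∈ (L.map (QuotientGroup.mk' N)).comap (QuotientGroup.mk' N) := hz
          rwa [hcomapL] at this
        · exact Subgroup.mem_map_of_mem _
      rw [hcm, hcm]
      exact Subgroup.mem_normalizer_iff.mp hgL y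
    rw [hL.2] at h1
    have : g ∈ (L.map (QuotientGroup.mk' N)).comap (QuotientGroup.mk' N) := h1
    rwa [hcomapL] at this
  have := hE.2.2
  rw [← this]
  exact ⟨hg, hgL'⟩

end Cfsg.Agent.Lib.Helper1.CarterSN
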