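import Mathlib
import Cfsg.Agent.Lib.Helper1.CarterSN1
import Cfsg.Agent.Lib.Helper1.ComplementSystem2
set_option autoImplicit false
open scoped Pointwise commutatorElement
universe u
namespace Cfsg.Agent.Lib.Helper1.CarterSN

open Cfsg.Agent.Lib.Helper1 Cfsg.Agent.Lib.Helper1.Carter

variable {G : Type u} [Group G]

/-- the complement system `K` reduces into `L` -/
def Reduces (K : Nat.Primes → Subgroup G) (L : Subgroup G) : Prop :=
  ∀ q : Nat.Primes, (K q).relIndex L = (q : ℕ) ^ (Nat.card L).factorization q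

theorem reduces_iff (K : Nat.Primes → Subgroup G) (L : Subgroup G) :
    Reduces K L ↔ Cfsg.IsComplementSystem (fun q => (K q).subgroupOf L) := Iff.rfl

/-- criterion: coprime order and prime power index -/
theorem relIndex_eq_of_coprime [Finite G] (H L : Subgroup G) (q : Nat.Primes)
    (hcop : (Nat.card (H ⊓ L : Subgroup G)).Coprime q) (hpow : ∃ k, H.relIndex L = (q : ℕ) ^ k) :
    H.relIndex L = (q : ℕ) ^ (Nat.card L).factorization q := by
  obtain ⟨k, hk⟩ := hpow
  have h1 := relIndex_mul_card_inf H L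
  rw [hk] at h1
  have h2 : (Nat.card L).factorization q = k :=
    factorization_eq_of_eq_mul_pow q.2 hcop (by rw [← h1, mul_comm])
  rw [hk, h2]

theorem reduces_of_coprime [Finite G] {K : Nat.Primes → Subgroup G}
    (hK : Cfsg.IsComplementSystem K) (L : Subgroup G)
    (h : ∀ q : Nat.Primes, ∃ k, (K q).relIndex L = (q : ℕ) ^ k) : Reduces K L := by
  intro q
  apply relIndex_eq_of_coprime _ _ _ _ (h q)
  exact Nat.Coprime.coprime_dvd_left (Subgroup.card_dvd_of_le inf_le_left)
    (complementSystem_card_coprime hK q)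

theorem reduces_top [Finite G] {K : Nat.Primes → Subgroup G}
    (hK : Cfsg.IsComplementSystem K) : Reduces K ⊤ := by
  intro q
  rw [Subgroup.relIndex_top_right, hK q, Subgroup.card_top]

theorem reduces_systemNormalizer [Finite G] {K : Nat.Primes → Subgroup G}
    (hK : Cfsg.IsComplementSystem K) : Reduces K (Cfsg.systemNormalizer K) := by
  apply reduces_of_coprime hK
  intro q
  have h1 : (K q).relIndex (Cfsg.systemNormalizer K) ∣ (K q).index :=
    relIndex_dvd_index_of_le_normalizer _ _ (iInf_le _ q)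
  rw [hK q] at h1
  obtain ⟨k, -, hk⟩ := (Nat.dvd_prime_pow q.2).mp h1
  exact ⟨k, hk⟩

/-- cardinality of the image -/
theorem card_eq_card_map_mul [Finite G] (N : Subgroup G) [N.Normal] (M : Subgroup G) :
    Nat.card M = Nat.card (M.map (QuotientGroup.mk' N)) * Nat.card (N ⊓ M : Subgroup G) := by
  have h1 := relIndex_mul_card_inf N M
  have h2 := Subgroup.relIndex_ker M (QuotientGroup.mk' N)
  rw [QuotientGroup.ker_mk'] at h2
  rw [← h1, h2]

theorem map_inf_map_of_le (N : Subgroup G) [N.Normal] (H L : Subgroup G) (hNL : N ≤ L) :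
    (H ⊓ L).map (QuotientGroup.mk' N) =
      H.map (QuotientGroup.mk' N) ⊓ L.map (QuotientGroup.mk' N) := by
  apply le_antisymm (Subgroup.map_inf_le _ _ _)
  rintro _ ⟨⟨h, hh, rfl⟩, ⟨l, hl, hlh⟩⟩
  refine ⟨h, ⟨hh, ?_⟩, rfl⟩
  have h2 : l⁻¹ * h ∈ N := by
    rw [← QuotientGroup.eq]
    exact hlh
  have h3 : h = l * (l⁻¹ * h) := by group
  rw [h3]
  exact L.mul_mem hl (hNL h2)

/-- the index formula used to lift reduction -/
theorem relIndex_eq_mul [Finite G] (N : Subgroup G) [N.Normal] (H L : Subgroup G) (hNL : N ≤ L) :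
    H.relIndex L =
      (H.map (QuotientGroup.mk' N)).relIndex (L.map (QuotientGroup.mk' N)) * H.relIndex N := by
  have h1 := relIndex_mul_card_inf H L
  have h2 := relIndex_mul_card_inf (H.map (QuotientGroup.mk' N)) (L.map (QuotientGroup.mk' N))
  have h3 := relIndex_mul_card_inf H N
  have h4 := card_eq_card_map_mul N L
  have h5 := card_eq_card_map_mul N (H ⊓ L)
  rw [map_inf_map_of_le N H L hNL] at h5
  have e1 : N ⊓ L = N := inf_eq_left.mpr hNL
  have e2 : N ⊓ (H ⊓ L) = H ⊓ N := by
    rw [inf_comm H L, ← inf_assoc, e1, inf_comm]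
  rw [e1] at h4
  rw [e2] at h5
  have hpos : 0 < Nat.card (H ⊓ L : Subgroup G) := Nat.card_pos
  apply Nat.eq_of_mul_eq_mul_right hpos
  rw [h1, h4, ← h2, ← h3, h5]
  ring

theorem reduces_of_map [Finite G] {K : Nat.Primes → Subgroup G}
    (hK : Cfsg.IsComplementSystem K) (N : Subgroup G) [N.Normal] (L : Subgroup G) (hNL : N ≤ L)
    (h : Reduces (fun q => (K q).map (QuotientGroup.mk' N)) (L.map (QuotientGroup.mk' N))) :
    Reduces K L := by
  apply reduces_of_coprime hK
  intro q
  have h1 : (K q).relIndex N ∣ (K q).index := relIndex_dvd_index_of_normal_right _ _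
  rw [hK q] at h1
  obtain ⟨k, -, hk⟩ := (Nat.dvd_prime_pow q.2).mp h1
  have h2 := h q
  beta_reduce at h2
  refine ⟨(Nat.card (L.map (QuotientGroup.mk' N))).factorization q + k, ?_⟩
  rw [relIndex_eq_mul N (K q) L hNL, hk, h2, pow_add]

theorem reduces_of_subgroupOf [Finite G] {K : Nat.Primes → Subgroup G} (L : Subgroup G)
    (E' : Subgroup L) (h : Reduces (fun q => (K q).subgroupOf L) E') :
    Reduces K (E'.map L.subtype) := by
  intro q
  have hle : E'.map L.subtype ≤ L := Subgroup.map_subtype_le E'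
  have h1 := h q
  have h2 : (E'.map L.subtype).subgroupOf L = E' :=
    Subgroup.comap_map_eq_self_of_injective L.subtype_injective E'
  have h3 := Subgroup.relIndex_subgroupOf (H := K q) hle
  rw [h2] at h3
  rw [← h3, h1, Subgroup.card_map_of_injective L.subtype_injective]

theorem systemNormalizer_eq_top_of_nilpotent [Finite G] [Group.IsNilpotent G]
    {K : Nat.Primes → Subgroup G} (hK : Cfsg.IsComplementSystem K) :
    Cfsg.systemNormalizer K = ⊤ := by
  unfold Cfsg.systemNormalizer
  rw [eq_top_iff]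
  apply le_iInf
  intro q
  have hn : (K q).Normal := by
    apply hall_normal_of_nilpotent
    rw [hK q]
    exact (complementSystem_card_coprime hK q).pow_right _
  rw [Subgroup.normalizer_eq_top]

end Cfsg.Agent.Lib.Helper1.CarterSN
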