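import Mathlib
import Cfsg.Agent.Lib.Helper1.CarterSN2
import Cfsg.Agent.Lib.Helper1.MaxSubgroupSolvable
import Cfsg.Agent.Lib.Helper1.MinimalNormal
set_option autoImplicit false
open scoped Pointwise commutatorElement
universe u
namespace Cfsg.Agent.Lib.Helper1.CarterSN

open Cfsg.Agent.Lib.Helper1 Cfsg.Agent.Lib.Helper1.Carter

variable {G : Type u} [Group G]

theorem isCarter_top_of_isNilpotent [Group.IsNilpotent G] : IsCarter (⊤ : Subgroup G) := by
  refine ⟨Group.nilpotent_of_mulEquiv (Subgroup.topEquiv (G := G)).symm, ?_⟩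
  rw [Subgroup.normalizer_eq_top]

/-- a system normalizer that is a complement of an eccentric minimal normal subgroup is
self-normalizing -/
theorem normalizer_eq_of_complement (N D : Subgroup G) [hN : N.Normal]
    (hNc : ∀ a ∈ N, ∀ b ∈ N, a * b = b * a)
    (hmin : ∀ M : Subgroup G, M.Normal → M ≤ N → M = ⊥ ∨ M = N)
    (hecc : ¬ N ≤ Subgroup.center G)
    (hsup : D ⊔ N = ⊤) (hinf : N ⊓ D = ⊥) :
    Subgroup.normalizer (D : Set G) = D := by
  apply le_antisymm _ Subgroup.le_normalizer
  intro g hg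
  have hgtop : g ∈ D ⊔ N := by rw [hsup]; trivial
  obtain ⟨d, hd, n, hn, rfl⟩ := Subgroup.mem_sup_of_normal_right.mp hgtop
  have hnD : n ∈ Subgroup.normalizer (D : Set G) := by
    have : n = d⁻¹ * (d * n) := by group
    rw [this]
    exact Subgroup.mul_mem _ (Subgroup.inv_mem _ (Subgroup.le_normalizer hd)) hg
  have hcomm : ∀ x ∈ D, n * x = x * n := by
    intro x hx
    have h1 : n * x * n⁻¹ * x⁻¹ ∈ N ⊓ D := by
      constructor
      · have : n * x * n⁻¹ * x⁻¹ = n * (x * n⁻¹ * x⁻¹) := by group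
        rw [this]
        exact N.mul_mem hn (hN.conj_mem _ (N.inv_mem hn) x)
      · exact D.mul_mem ((Subgroup.mem_normalizer_iff.mp hnD x).mp hx) (D.inv_mem hx)
    rw [hinf, Subgroup.mem_bot] at h1
    have : n * x = (n * x * n⁻¹ * x⁻¹) * (x * n) := by group
    rw [this, h1, one_mul]
  have hcen : n ∈ Subgroup.center G := by
    have hle : D ⊔ N ≤ Subgroup.centralizer ({n} : Set G) := by
      apply sup_le
      · intro x hx
        rw [Subgroup.mem_centralizer_iff]
        intro y hy
        rw [Set.mem_singleton_iff] at hy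
        rw [hy]; exact hcomm x hx
      · intro x hx
        rw [Subgroup.mem_centralizer_iff]
        intro y hy
        rw [Set.mem_singleton_iff] at hy
        rw [hy]; exact hNc n hn x hx
    rw [hsup] at hle
    rw [Subgroup.mem_center_iff]
    intro y
    have := Subgroup.mem_centralizer_iff.mp (hle (Subgroup.mem_top y)) n rfl
    exact this.symm
  have hM : N ⊓ Subgroup.center G = ⊥ := by
    rcases hmin (N ⊓ Subgroup.center G) inferInstance inf_le_left with h | h
    · exact h
    · exact absurd (h ▸ inf_le_right) hecc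
  have hn1 : n = 1 := by
    have : n ∈ N ⊓ Subgroup.center G := ⟨hn, hcen⟩
    rw [hM, Subgroup.mem_bot] at this
    exact this
  rw [hn1, mul_one]
  exact hd

theorem commutator_top_le_bot_iff (N : Subgroup G) :
    ⁅N, (⊤ : Subgroup G)⁆ ≤ ⊥ ↔ N ≤ Subgroup.center G := by
  rw [le_bot_iff, Subgroup.commutator_eq_bot_iff_le_centralizer, Subgroup.coe_top,
    Subgroup.centralizer_univ]

theorem main_aux (n : ℕ) : ∀ (G : Type u) [Group G] [Finite G] [Group.IsSolvable G],
    Nat.card G = n → ∀ K : Nat.Primes → Subgroup G, Cfsg.IsComplementSystem K →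
      ∃ C : Subgroup G, IsCarter C ∧ Cfsg.systemNormalizer K ≤ C ∧ Reduces K C := by
  induction n using Nat.strong_induction_on with
  | _ n ih =>
  intro G _ _ _ hn K hK
  by_cases hsub : Subsingleton G
  · have : Group.IsNilpotent G := inferInstance
    exact ⟨⊤, isCarter_top_of_isNilpotent, le_top, reduces_top hK⟩
  have hnt : Nontrivial G := not_subsingleton_iff_nontrivial.mp hsub
  obtain ⟨N, hNn, hNbot, hNmin⟩ := exists_minimal_normal (G := G)
  obtain ⟨hNc, p, hp, hNp⟩ := minimal_normal_of_solvable N hNbot hNmin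
  have hNcomm : ∀ a ∈ N, ∀ b ∈ N, a * b = b * a := by
    intro a ha b hb
    have := mul_comm' (⟨a, ha⟩ : N) ⟨b, hb⟩
    exact congrArg Subtype.val this
  have hcardQ : Nat.card (G ⧸ N) < n := by
    rw [← hn, ← Subgroup.index_eq_card, ← Subgroup.card_mul_index N]
    have h1 : 1 < Nat.card N := (Subgroup.one_lt_card_iff_ne_bot N).mpr hNbot
    have h2 : 0 < N.index := Nat.pos_of_ne_zero Subgroup.index_ne_zero_of_finite
    nlinarith
  have hsurj : Function.Surjective (QuotientGroup.mk' N) := QuotientGroup.mk'_surjective N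
  obtain ⟨Kb, hKb⟩ : ∃ Kb : Nat.Primes → Subgroup (G ⧸ N),
      Kb = fun q => (K q).map (QuotientGroup.mk' N) := ⟨_, rfl⟩
  have hKbc : Cfsg.IsComplementSystem Kb := by
    rw [hKb]; exact isComplementSystem_map_mk K hK N
  obtain ⟨Cb, hCb, hDb, hredb⟩ := ih _ hcardQ (G ⧸ N) rfl Kb hKbc
  obtain ⟨L, hL⟩ : ∃ L, L = Cb.comap (QuotientGroup.mk' N) := ⟨_, rfl⟩
  have hNL : N ≤ L := hL ▸ QuotientGroup.le_comap_mk' N Cb
  have hLmap : L.map (QuotientGroup.mk' N) = Cb :=
    hL ▸ Subgroup.map_comap_eq_self_of_surjective hsurj Cb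
  obtain ⟨D, hD⟩ : ∃ D, D = Cfsg.systemNormalizer K := ⟨_, rfl⟩
  have hDmap : D.map (QuotientGroup.mk' N) = Cfsg.systemNormalizer Kb := by
    rw [hD, hKb]; exact (systemNormalizer_map_mk K hK N).symm
  have hDL : D ≤ L := by
    rw [hL, ← Subgroup.map_le_iff_le_comap, hDmap]; exact hDb
  have hredL : Reduces K L := by
    apply reduces_of_map hK N L hNL
    rw [hLmap, ← hKb]; exact hredb
  rw [← hD]
  by_cases hLtop : L = ⊤
  · have hCbtop : Cb = ⊤ := by
      rw [← hLmap, hLtop, ← MonoidHom.range_eq_map, MonoidHom.range_eq_top.mpr hsurj]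
    have hnilQ : Group.IsNilpotent (G ⧸ N) := by
      have := hCb.1
      rw [hCbtop] at this
      exact Group.nilpotent_of_mulEquiv (Subgroup.topEquiv (G := G ⧸ N))
    by_cases hcen : N ≤ Subgroup.center G
    · have hnil : Group.IsNilpotent G := by
        apply Subgroup.isNilpotent_of_ker_le_center (QuotientGroup.mk' N)
        rw [QuotientGroup.ker_mk']; exact hcen
      exact ⟨⊤, isCarter_top_of_isNilpotent, le_top, reduces_top hK⟩
    · have hsup : D ⊔ N = ⊤ := by
        have h1 : D.map (QuotientGroup.mk' N) = ⊤ := by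
          rw [hDmap]; exact systemNormalizer_eq_top_of_nilpotent hKbc
        have h2 := Subgroup.comap_map_eq (QuotientGroup.mk' N) D
        rw [h1, QuotientGroup.ker_mk', Subgroup.comap_top] at h2
        exact h2.symm
      have hinf : N ⊓ D = ⊥ := by
        rw [eq_bot_iff, hD]
        apply systemNormalizer_avoids_eccentric K hK ⊥ N (bot_lt_iff_ne_bot.mpr hNbot)
        · intro M hMn _ hMN
          exact hNmin M hMn hMN
        · rw [commutator_top_le_bot_iff]; exact hcen
      refine ⟨D, ⟨?_, ?_⟩, le_rfl, ?_⟩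
      · rw [hD]; exact systemNormalizer_isNilpotent K hK
      · exact normalizer_eq_of_complement N D hNcomm hNmin hcen hsup hinf
      · rw [hD]; exact reduces_systemNormalizer hK
  · have hLlt : L < ⊤ := lt_top_iff_ne_top.mpr hLtop
    have hcardL : Nat.card L < n := by
      rw [← hn]
      have h1 := Subgroup.card_le_card_group L
      rcases h1.lt_or_eq with h | h
      · exact h
      · exact absurd ((Subgroup.card_eq_iff_eq_top L).mp h) hLtop
    obtain ⟨E', hE', hDE', hredE'⟩ := ih _ hcardL L rfl (fun q => (K q).subgroupOf L)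
      ((reduces_iff K L).mp hredL)
    have hEin : IsCarterIn (E'.map L.subtype) L := hE'.map_subtype
    have hE : IsCarter (E'.map L.subtype) :=
      isCarter_of_isCarterIn_comap N L _ hNL (hLmap ▸ hCb) hEin
    refine ⟨E'.map L.subtype, hE, ?_, reduces_of_subgroupOf L E' hredE'⟩
    intro d hd
    have hdL : d ∈ L := hDL hd
    refine ⟨⟨d, hdL⟩, hDE' ?_, rfl⟩
    unfold Cfsg.systemNormalizer
    rw [Subgroup.mem_iInf]
    intro q
    have hdq : d ∈ Subgroup.normalizer (K q : Set G) := by
      rw [hD] at hd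
      unfold Cfsg.systemNormalizer at hd
      exact (Subgroup.mem_iInf.mp hd) q
    rw [Subgroup.mem_normalizer_iff]
    intro y
    rw [Subgroup.mem_subgroupOf, Subgroup.mem_subgroupOf]
    exact Subgroup.mem_normalizer_iff.mp hdq y

/-- every system normalizer lies in a Carter subgroup into which the complement system reduces -/
theorem exists_carter_ge [Finite G] [Group.IsSolvable G] (K : Nat.Primes → Subgroup G)
    (hK : Cfsg.IsComplementSystem K) :
    ∃ C : Subgroup G, IsCarter C ∧ Cfsg.systemNormalizer K ≤ C ∧ Reduces K C :=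
  main_aux _ G rfl K hK

theorem s0569 [Finite G] [Group.IsSolvable G] :
    (∀ C : Subgroup G, Cfsg.IsCarterSubgroup C → ∃ K : Nat.Primes → Subgroup G,
      Cfsg.IsComplementSystem K ∧ Cfsg.systemNormalizer K ≤ C) ∧
    ∀ K : Nat.Primes → Subgroup G, Cfsg.IsComplementSystem K →
      ∃ C : Subgroup G, Cfsg.IsCarterSubgroup C ∧ Cfsg.systemNormalizer K ≤ C := by
  constructor
  · intro C hC
    obtain ⟨K₀, hK₀⟩ := exists_complementSystem (G := G)
    obtain ⟨C₀, hC₀, hD₀, -⟩ := exists_carter_ge K₀ hK₀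
    obtain ⟨g, hg⟩ := (carter_main (G := G)).2 C₀ C hC₀.1 hC₀.2 hC.1 hC.2
    refine ⟨fun q => MulAut.conj g • K₀ q, isComplementSystem_conj hK₀ g, ?_⟩
    rw [systemNormalizer_conj, ← hg]
    exact Subgroup.pointwise_smul_le_pointwise_smul_iff.mpr hD₀
  · intro K hK
    obtain ⟨C, hC, hD, -⟩ := exists_carter_ge K hK
    exact ⟨C, hC, hD⟩

end Cfsg.Agent.Lib.Helper1.CarterSN
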