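import Mathlib
import Cfsg.Prelude.Def_Solvable
import Cfsg.Agent.Lib.Helper1.Fitting
import Cfsg.Agent.Lib.Helper1.Nilpotent
open Pointwise

set_option autoImplicit false

namespace Cfsg.Agent.Lib.Helper1

universe u

variable {G : Type u} [Group G]

theorem fittingSubgroup_le_centralizer_minimal_normal [Finite G] (M : Subgroup G) [hMn : M.Normal]
    (hM : M ≠ ⊥) (hmin : ∀ K : Subgroup G, K.Normal → K ≤ M → K = ⊥ ∨ K = M) :
    Cfsg.fittingSubgroup G ≤ Subgroup.centralizer (M : Set G) := by
  set F := Cfsg.fittingSubgroup G with hF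
  have hFn : F.Normal := fittingSubgroup_normal
  have hFnil : Group.IsNilpotent F := fittingSubgroup_isNilpotent
  rcases hmin (M ⊓ F) inferInstance inf_le_left with h | h
  · rw [← Subgroup.commutator_eq_bot_iff_le_centralizer, eq_bot_iff, ← h, inf_comm]
    exact Subgroup.commutator_le_inf F M
  · have hMF : M ≤ F := by rw [← h]; exact inf_le_right
    set Z : Subgroup G := (Subgroup.center F).map F.subtype with hZ
    have hZn : Z.Normal := inferInstance
    rcases hmin (M ⊓ Z) inferInstance inf_le_left with h' | h'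
    · exfalso
      have hne : M.subgroupOf F ≠ ⊥ := by
        intro h0
        apply hM
        rw [eq_bot_iff]
        intro x hx
        have : (⟨x, hMF hx⟩ : F) ∈ M.subgroupOf F := Subgroup.mem_subgroupOf.mpr hx
        rw [h0, Subgroup.mem_bot] at this
        exact Subgroup.mem_bot.mpr (congrArg Subtype.val this)
      have h1 := normal_inf_center_ne_bot (M.subgroupOf F) hne
      apply h1
      rw [eq_bot_iff]
      intro x hx
      obtain ⟨hx1, hx2⟩ := Subgroup.mem_inf.mp hx
      have : (x : G) ∈ M ⊓ Z := Subgroup.mem_inf.mpr ⟨Subgroup.mem_subgroupOf.mp hx1, ⟨x, hx2, rfl⟩⟩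
      rw [h', Subgroup.mem_bot] at this
      exact Subgroup.mem_bot.mpr (Subtype.ext this)
    · have hMZ : M ≤ Z := by rw [← h']; exact inf_le_right
      intro f hf
      rw [Subgroup.mem_centralizer_iff]
      intro m hm
      obtain ⟨z, hz, rfl⟩ := hMZ hm
      have := Subgroup.mem_center_iff.mp hz ⟨f, hf⟩
      exact (congrArg Subtype.val this).symm

end Cfsg.Agent.Lib.Helper1
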