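import Mathlib
import Cfsg.Agent.Lib.Helper1.CarterSN3
import Cfsg.Agent.Lib.Helper1.FittingMinimalNormal
import Cfsg.Agent.Lib.Helper1.HereditaryCLT
set_option autoImplicit false
open scoped Pointwise commutatorElement
universe u
namespace Cfsg.Agent.Lib.Helper1.CarterSN

open Cfsg.Agent.Lib.Helper1 Cfsg.Agent.Lib.Helper1.Carter

variable {G : Type u} [Group G]

theorem isSolvable_of_nilpotent_by_nilpotent (F : Subgroup G) [F.Normal]
    (hF : Group.IsNilpotent F) (hGF : Group.IsNilpotent (G ⧸ F)) : Group.IsSolvable G := by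
  apply Group.isSolvable_of_ker_le_range F.subtype (QuotientGroup.mk' F)
  rw [QuotientGroup.ker_mk', Subgroup.range_subtype]

theorem normalizer_systemNormalizer_aux (n : ℕ) : ∀ (G : Type u) [Group G] [Finite G]
    [Group.IsSolvable G], Nat.card G = n → ∀ (F : Subgroup G) [F.Normal], Group.IsNilpotent F →
    Group.IsNilpotent (G ⧸ F) → ∀ K : Nat.Primes → Subgroup G, Cfsg.IsComplementSystem K →
      Subgroup.normalizer ((Cfsg.systemNormalizer K : Subgroup G) : Set G) =
        Cfsg.systemNormalizer K := by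
  induction n using Nat.strong_induction_on with
  | _ n ih =>
  intro G _ _ _ hn F hFn hF hGF K hK
  by_cases hFbot : F = ⊥
  · have hnil : Group.IsNilpotent G := by
      apply Subgroup.isNilpotent_of_ker_le_center (QuotientGroup.mk' F)
      rw [QuotientGroup.ker_mk', hFbot]; exact bot_le
    rw [systemNormalizer_eq_top_of_nilpotent hK, Subgroup.normalizer_eq_top]
  obtain ⟨N, hNF, hNn, hNbot, hNmin⟩ := exists_minimal_normal_le F hFbot
  obtain ⟨hNc, p, hp, hNp⟩ := minimal_normal_of_solvable N hNbot hNmin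
  have hNcomm : ∀ a ∈ N, ∀ b ∈ N, a * b = b * a := by
    intro a ha b hb
    have := mul_comm' (⟨a, ha⟩ : N) ⟨b, hb⟩
    exact congrArg Subtype.val this
  have hcardQ : Nat.card (G ⧸ N) < n := by
    rw [← hn, ← Subgroup.index_eq_card, ← Subgroup.card_mul_index N]
    have h1 : 1 < Nat.card N := (Subgroup.one_lt_card_iff_ne_bot N).mpr hNbot
    have h2 : 0 < N.index := Nat.pos_of_ne_zero Subgroup.index_ne_zero_of_finite
    nlinarith
  have hsurj : Function.Surjective (QuotientGroup.mk' N) := QuotientGroup.mk'_surjective N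
  obtain ⟨Kb, hKb⟩ : ∃ Kb : Nat.Primes → Subgroup (G ⧸ N),
      Kb = fun q => (K q).map (QuotientGroup.mk' N) := ⟨_, rfl⟩
  have hKbc : Cfsg.IsComplementSystem Kb := by
    rw [hKb]; exact isComplementSystem_map_mk K hK N
  obtain ⟨D, hD⟩ : ∃ D, D = Cfsg.systemNormalizer K := ⟨_, rfl⟩
  have hDmap : D.map (QuotientGroup.mk' N) = Cfsg.systemNormalizer Kb := by
    rw [hD, hKb]; exact (systemNormalizer_map_mk K hK N).symm
  -- the quotient is again nilpotent by nilpotent
  obtain ⟨Fb, hFb⟩ : ∃ Fb, Fb = F.map (QuotientGroup.mk' N) := ⟨_, rfl⟩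
  have hFbn : Fb.Normal := by rw [hFb]; exact hFn.map _ hsurj
  have hFbnil : Group.IsNilpotent Fb := by
    rw [hFb]
    exact Group.nilpotent_of_surjective ((QuotientGroup.mk' N).subgroupMap F)
      ((QuotientGroup.mk' N).subgroupMap_surjective F)
  have hQnil : Group.IsNilpotent ((G ⧸ N) ⧸ Fb) := by
    subst hFb
    exact Group.nilpotent_of_mulEquiv (QuotientGroup.quotientQuotientEquivQuotient N F hNF).symm
  have hIH := ih _ hcardQ (G ⧸ N) rfl Fb hFbnil hQnil Kb hKbc
  rw [← hD]
  apply le_antisymm _ Subgroup.le_normalizer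
  intro g hg
  -- `g ∈ D ⊔ N`
  have hgDN : g ∈ D ⊔ N := by
    have h1 : QuotientGroup.mk' N g ∈ Subgroup.normalizer
        ((Cfsg.systemNormalizer Kb : Subgroup (G ⧸ N)) : Set (G ⧸ N)) := by
      rw [← hDmap, Subgroup.mem_normalizer_iff]
      intro yb
      obtain ⟨y, rfl⟩ := hsurj yb
      rw [← map_inv, ← map_mul, ← map_mul]
      have hcm : ∀ z : G, QuotientGroup.mk' N z ∈ D.map (QuotientGroup.mk' N) ↔ z ∈ D ⊔ N := by
        intro z
        have : z ∈ (D.map (QuotientGroup.mk' N)).comap (QuotientGroup.mk' N) ↔ z ∈ D ⊔ N := by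
          rw [Subgroup.comap_map_eq, QuotientGroup.ker_mk']
        exact this
      rw [hcm, hcm]
      have hgn : g ∈ Subgroup.normalizer ((D ⊔ N : Subgroup G) : Set G) := by
        have h1 : Subgroup.normalizer (D : Set G) ≤ Subgroup.normalizer ((D ⊔ N : Subgroup G) : Set G) := by
          intro x hx
          rw [Subgroup.mem_normalizer_iff] at hx ⊢
          have key : ∀ x : G, (∀ h, h ∈ D ↔ x * h * x⁻¹ ∈ D) → ∀ y ∈ D ⊔ N, x * y * x⁻¹ ∈ D ⊔ N := by
            intro x hx y hy
            obtain ⟨e, he, m, hm, rfl⟩ := Subgroup.mem_sup_of_normal_right.mp hy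
            have e1 : x * (e * m) * x⁻¹ = x * e * x⁻¹ * (x * m * x⁻¹) := by group
            rw [e1]
            exact Subgroup.mul_mem _ (Subgroup.mem_sup_left ((hx e).mp he))
              (Subgroup.mem_sup_right (hNn.conj_mem m hm x))
          intro y
          constructor
          · exact key x hx y
          · intro hy
            have hx' : ∀ h, h ∈ D ↔ x⁻¹ * h * x⁻¹⁻¹ ∈ D := by
              intro h
              rw [hx (x⁻¹ * h * x⁻¹⁻¹)]
              have : x * (x⁻¹ * h * x⁻¹⁻¹) * x⁻¹ = h := by group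
              rw [this]
            have := key x⁻¹ hx' _ hy
            have e2 : x⁻¹ * (x * y * x⁻¹) * x⁻¹⁻¹ = y := by group
            rwa [e2] at this
        exact h1 hg
      exact Subgroup.mem_normalizer_iff.mp hgn y
    rw [hIH, ← hDmap] at h1
    have : g ∈ (D.map (QuotientGroup.mk' N)).comap (QuotientGroup.mk' N) := h1
    rwa [Subgroup.comap_map_eq, QuotientGroup.ker_mk'] at this
  by_cases hcen : N ≤ Subgroup.center G
  · have hND : N ≤ D := by
      intro x hx
      rw [hD]
      unfold Cfsg.systemNormalizer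
      rw [Subgroup.mem_iInf]
      intro q
      rw [Subgroup.mem_normalizer_iff]
      intro y
      have := Subgroup.mem_center_iff.mp (hcen hx) y
      rw [← this, mul_inv_cancel_right]
    rwa [sup_of_le_left hND] at hgDN
  · -- eccentric case
    have hinf : N ⊓ D = ⊥ := by
      rw [eq_bot_iff, hD]
      apply systemNormalizer_avoids_eccentric K hK ⊥ N (bot_lt_iff_ne_bot.mpr hNbot)
      · intro M hMn _ hMN
        exact hNmin M hMn hMN
      · rw [commutator_top_le_bot_iff]; exact hcen
    have hDF : D ⊔ F = ⊤ := by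
      obtain ⟨KF, hKF⟩ : ∃ KF : Nat.Primes → Subgroup (G ⧸ F),
          KF = fun q => (K q).map (QuotientGroup.mk' F) := ⟨_, rfl⟩
      have hKFc : Cfsg.IsComplementSystem KF := by
        rw [hKF]; exact isComplementSystem_map_mk K hK F
      have h1 : D.map (QuotientGroup.mk' F) = ⊤ := by
        rw [hD, ← systemNormalizer_map_mk K hK F, ← hKF]
        exact systemNormalizer_eq_top_of_nilpotent hKFc
      have h2 := Subgroup.comap_map_eq (QuotientGroup.mk' F) D
      rw [h1, QuotientGroup.ker_mk', Subgroup.comap_top] at h2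
      exact h2.symm
    have hFN : F ≤ Subgroup.centralizer (N : Set G) :=
      (le_fittingSubgroup hFn hF).trans
        (fittingSubgroup_le_centralizer_minimal_normal N hNbot hNmin)
    obtain ⟨d, hd, m, hm, rfl⟩ := Subgroup.mem_sup_of_normal_right.mp hgDN
    have hmD : m ∈ Subgroup.normalizer (D : Set G) := by
      have : m = d⁻¹ * (d * m) := by group
      rw [this]
      exact Subgroup.mul_mem _ (Subgroup.inv_mem _ (Subgroup.le_normalizer hd)) hg
    have hcomm : ∀ x ∈ D, m * x = x * m := by
      intro x hx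
      have h1 : m * x * m⁻¹ * x⁻¹ ∈ N ⊓ D := by
        constructor
        · have : m * x * m⁻¹ * x⁻¹ = m * (x * m⁻¹ * x⁻¹) := by group
          rw [this]
          exact N.mul_mem hm (hNn.conj_mem _ (N.inv_mem hm) x)
        · exact D.mul_mem ((Subgroup.mem_normalizer_iff.mp hmD x).mp hx) (D.inv_mem hx)
      rw [hinf, Subgroup.mem_bot] at h1
      have : m * x = (m * x * m⁻¹ * x⁻¹) * (x * m) := by group
      rw [this, h1, one_mul]
    have hmcen : m ∈ Subgroup.center G := by
      have hle : D ⊔ F ≤ Subgroup.centralizer ({m} : Set G) := by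
        apply sup_le
        · intro x hx
          rw [Subgroup.mem_centralizer_iff]
          intro y hy
          rw [Set.mem_singleton_iff] at hy
          rw [hy]; exact hcomm x hx
        · intro x hx
          rw [Subgroup.mem_centralizer_iff]
          intro y hy
          rw [Set.mem_singleton_iff] at hy
          rw [hy]
          exact Subgroup.mem_centralizer_iff.mp (hFN hx) m hm
      rw [hDF] at hle
      rw [Subgroup.mem_center_iff]
      intro y
      have := Subgroup.mem_centralizer_iff.mp (hle (Subgroup.mem_top y)) m rfl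
      exact this.symm
    have hM : N ⊓ Subgroup.center G = ⊥ := by
      rcases hNmin (N ⊓ Subgroup.center G) inferInstance inf_le_left with h | h
      · exact h
      · exact absurd (h ▸ inf_le_right) hcen
    have hm1 : m = 1 := by
      have : m ∈ N ⊓ Subgroup.center G := ⟨hm, hmcen⟩
      rw [hM, Subgroup.mem_bot] at this
      exact this
    rw [hm1, mul_one]
    exact hd

theorem s0570 [Finite G] (F : Subgroup G) [F.Normal] (hF : Group.IsNilpotent F)
    (hGF : Group.IsNilpotent (G ⧸ F)) (C : Subgroup G) :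
    Cfsg.IsCarterSubgroup C ↔ ∃ K : Nat.Primes → Subgroup G,
      Cfsg.IsComplementSystem K ∧ C = Cfsg.systemNormalizer K := by
  have : Group.IsSolvable G := isSolvable_of_nilpotent_by_nilpotent F hF hGF
  have key : ∀ K : Nat.Primes → Subgroup G, Cfsg.IsComplementSystem K →
      Cfsg.IsCarterSubgroup (Cfsg.systemNormalizer K) := by
    intro K hK
    exact ⟨systemNormalizer_isNilpotent K hK,
      normalizer_systemNormalizer_aux _ G rfl F hF hGF K hK⟩
  constructor
  · intro hC
    obtain ⟨K₀, hK₀⟩ := exists_complementSystem (G := G)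
    have hD₀ := key K₀ hK₀
    obtain ⟨g, hg⟩ := (carter_main (G := G)).2 _ C hD₀.1 hD₀.2 hC.1 hC.2
    refine ⟨fun q => MulAut.conj g • K₀ q, isComplementSystem_conj hK₀ g, ?_⟩
    rw [systemNormalizer_conj, hg]
  · rintro ⟨K, hK, rfl⟩
    exact key K hK

end Cfsg.Agent.Lib.Helper1.CarterSN
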