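import Mathlib
import Cfsg.Agent.Lib.Helper1.FrattiniP
import Cfsg.Agent.Lib.Helper1.AbelianHall
set_option autoImplicit false
open Pointwise
open scoped commutatorElement

namespace Cfsg.Agent.Lib.Helper1

universe u v

variable {G : Type u} [Group G]

/-- `Z(G) ∩ G' ∩ P ≤ P'` for a Sylow `p`-subgroup `P` (via transfer into `P / P'`). -/
theorem center_inf_commutator_inf_sylow_le [Finite G] {p : ℕ} [hp : Fact p.Prime] (P : Sylow p G) :
    Subgroup.center G ⊓ commutator G ⊓ (P : Subgroup G) ≤ ⁅(P : Subgroup G), (P : Subgroup G)⁆ := by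
  let φ : (P : Subgroup G) →* Abelianization (P : Subgroup G) := Abelianization.of
  let V : G →* Abelianization (P : Subgroup G) := MonoidHom.transfer φ
  intro z hz
  obtain ⟨hz12, hzP⟩ := Subgroup.mem_inf.mp hz
  obtain ⟨hzZ, hzc⟩ := Subgroup.mem_inf.mp hz12
  have hkey : ∀ (k : ℕ) (g₀ : G), g₀⁻¹ * z ^ k * g₀ ∈ (P : Subgroup G) → g₀⁻¹ * z ^ k * g₀ = z ^ k := by
    intro k g₀ _
    have hzk : z ^ k ∈ Subgroup.center G := Subgroup.pow_mem _ hzZ k
    rw [Subgroup.mem_center_iff] at hzk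
    rw [mul_assoc, ← hzk g₀, inv_mul_cancel_left]
  have h1 : V z = φ ⟨z ^ (P : Subgroup G).index, MonoidHom.transfer_eq_pow_aux z hkey⟩ :=
    MonoidHom.transfer_eq_pow φ z hkey
  have h2 : V z = 1 := by
    have : commutator G ≤ V.ker := Abelianization.commutator_subset_ker V
    exact this hzc
  rw [h2] at h1
  have h3 : (φ ⟨z, hzP⟩) ^ (P : Subgroup G).index = 1 := by
    rw [← map_pow]
    exact h1.symm
  have hPab : IsPGroup p (Abelianization (P : Subgroup G)) := P.2.to_quotient _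
  have h4 : φ ⟨z, hzP⟩ = 1 := by
    obtain ⟨k, hk⟩ := hPab (φ ⟨z, hzP⟩)
    have hc : Nat.Coprime (P : Subgroup G).index (p ^ k) := by
      apply Nat.Coprime.pow_right
      rw [Nat.coprime_comm, hp.out.coprime_iff_not_dvd]
      exact P.not_dvd_index
    have h5 : orderOf (φ ⟨z, hzP⟩) = 1 :=
      Nat.eq_one_of_dvd_coprimes hc (orderOf_dvd_of_pow_eq_one h3) (orderOf_dvd_of_pow_eq_one hk)
    exact orderOf_eq_one_iff.mp h5
  have h5 : (⟨z, hzP⟩ : (P : Subgroup G)) ∈ commutator (P : Subgroup G) := by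
    have : (⟨z, hzP⟩ : (P : Subgroup G)) ∈ (Abelianization.of : (P : Subgroup G) →* _).ker := h4
    rwa [Abelianization.ker_of] at this
  rw [← Subgroup.map_subtype_commutator]
  exact ⟨⟨z, hzP⟩, h5, rfl⟩

theorem perfect_central_ker_inf_sylow_le_frattini {H : Type u} {G : Type v} [Group H] [Group G] [Finite H] (σ : H →* G)
    (hc : σ.ker ≤ Subgroup.center H) (hH : commutator H = ⊤) {p : ℕ} [Fact p.Prime] (P : Sylow p H) :
    σ.ker ⊓ (P : Subgroup H) ≤ (frattini P).map (P : Subgroup H).subtype := by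
  intro z hz
  obtain ⟨hzk, hzP⟩ := Subgroup.mem_inf.mp hz
  have h1 : z ∈ Subgroup.center H ⊓ commutator H ⊓ (P : Subgroup H) :=
    Subgroup.mem_inf.mpr ⟨Subgroup.mem_inf.mpr ⟨hc hzk, by rw [hH]; trivial⟩, hzP⟩
  have h2 := center_inf_commutator_inf_sylow_le P h1
  rw [← Subgroup.map_subtype_commutator] at h2
  exact Subgroup.map_mono (commutator_le_frattini_of_isPGroup p P.2) h2

end Cfsg.Agent.Lib.Helper1
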