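import Mathlib
import Cfsg.Prelude
import Cfsg.Agent.Lib.Helper1.BcJ

/-!
# Elements of prescribed projective order in `PSp`, built from block-diagonal symplectic matrices
-/

set_option autoImplicit false
set_option maxHeartbeats 4000000
set_option linter.unusedSimpArgs false
set_option linter.unusedVariables false
set_option linter.unusedSectionVars false
set_option linter.style.haveILetI false

namespace Cfsg.Agent.Lib.Helper1.Pg

open Matrix Cfsg
open Cfsg.Agent.Lib.Helper5 Cfsg.Agent.Lib.Helper5.SpAdj Cfsg.Agent.Lib.Helper1.Bc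

variable {F : Type*} [Field F]

theorem one_ne_neg_one_mat (h2 : (2 : F) ≠ 0) (a : ℕ) (ha : 1 ≤ a) :
    (1 : Matrix (Fin a ⊕ Fin a) (Fin a ⊕ Fin a) F) ≠ -1 := by
  intro h
  have h7 := congrFun (congrFun h (Sum.inl ⟨0, ha⟩)) (Sum.inl ⟨0, ha⟩)
  rw [Matrix.neg_apply, Matrix.one_apply_eq] at h7
  apply h2
  linear_combination h7

/-- a commuting pair `Z`, `Y` with `Z² = ±1`, `Z ≠ ±1` and `Y` of odd prime order `s` gives
projective order `2 s` -/
theorem psp_two_mul_of_pair (n : ℕ) (hn : 1 ≤ n) (h2 : (2 : F) ≠ 0)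
    (Z Y : symplecticGroup (Fin n) F) (hc : Commute Z Y)
    (s : ℕ) (hs : s.Prime) (hs2 : s ≠ 2) (hY : orderOf Y = s)
    (hZ2 : (Z * Z).1 = 1 ∨ (Z * Z).1 = -1) (hZ1 : Z.1 ≠ 1) (hZm : Z.1 ≠ -1) :
    2 * s ∈ Set.range (orderOf : Cfsg.PSp n F → ℕ) := by
  obtain ⟨π, hπ⟩ : ∃ π : symplecticGroup (Fin n) F →* Cfsg.PSp n F,
      π = QuotientGroup.mk' (Subgroup.center (symplecticGroup (Fin n) F)) := ⟨_, rfl⟩
  have hker : ∀ w : symplecticGroup (Fin n) F, π w = 1 ↔ w.1 = 1 ∨ w.1 = -1 := by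
    intro w
    rw [hπ, QuotientGroup.mk'_apply, QuotientGroup.eq_one_iff,
      Cfsg.Agent.S0246.mem_center_iff n hn]
  have hZ : orderOf (π Z) = 2 := by
    apply orderOf_eq_prime
    · rw [pow_two, ← map_mul, hker]
      exact hZ2
    · rw [Ne, hker]
      push Not
      exact ⟨hZ1, hZm⟩
  have hYpow : Y ^ s = 1 := by
    rw [← hY]
    exact pow_orderOf_eq_one Y
  have hYs : orderOf (π Y) = s := by
    haveI := Fact.mk hs
    apply orderOf_eq_prime
    · rw [← map_pow, hYpow, map_one]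
    · rw [Ne, hker]
      push Not
      constructor
      · intro h
        have : Y = 1 := Subtype.ext h
        rw [this, orderOf_one] at hY
        exact hs.one_lt.ne hY
      · intro h
        have h5 : (Y ^ s).1 = (-1 : Matrix (Fin n ⊕ Fin n) (Fin n ⊕ Fin n) F) ^ s := by
          have : (Y ^ s).1 = Y.1 ^ s := rfl
          rw [this, h]
        rw [hYpow, (hs.odd_of_ne_two hs2).neg_one_pow] at h5
        exact one_ne_neg_one_mat h2 n hn h5
  have hcop : Nat.Coprime (orderOf (π Z)) (orderOf (π Y)) := by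
    rw [hZ, hYs, Nat.coprime_primes Nat.prime_two hs]
    exact fun h => hs2 h.symm
  have := (hc.map π).orderOf_mul_eq_mul_orderOf_of_coprime hcop
  rw [hZ, hYs] at this
  exact ⟨π Z * π Y, this⟩

/-- a block of odd prime order `s` next to a block `-1` -/
theorem psp_two_mul_of_sp (a c : ℕ) (ha : 1 ≤ a) (hc : 1 ≤ c) (h2 : (2 : F) ≠ 0)
    (Y₀ : symplecticGroup (Fin a) F) (s : ℕ) (hs : s.Prime) (hs2 : s ≠ 2)
    (hY : orderOf Y₀ = s) :
    2 * s ∈ Set.range (orderOf : Cfsg.PSp (a + c) F → ℕ) := by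
  obtain ⟨Y, hYd⟩ : ∃ Y : ↥(symplecticGroup (Fin (a + c)) F),
      Y.1 = SympBlock.blockDiag a c Y₀.1 1 :=
    ⟨⟨_, SympBlock.blockDiag_mem a c Y₀.2 (one_mem _)⟩, rfl⟩
  obtain ⟨Z, hZd⟩ : ∃ Z : ↥(symplecticGroup (Fin (a + c)) F),
      Z.1 = SympBlock.blockDiag a c 1 (-1) :=
    ⟨⟨_, SympBlock.blockDiag_mem a c (one_mem _) (Cfsg.Agent.S0246.neg_one_mem c)⟩, rfl⟩
  have hcomm : Commute Z Y := by
    apply Subtype.ext
    show Z.1 * Y.1 = Y.1 * Z.1
    rw [hYd, hZd, ← SympBlock.blockDiag_mul, ← SympBlock.blockDiag_mul, one_mul, mul_one, mul_one,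
      one_mul]
  have hY0pow : Y₀ ^ s = 1 := by
    rw [← hY]
    exact pow_orderOf_eq_one Y₀
  have hYord : orderOf Y = s := by
    haveI := Fact.mk hs
    apply orderOf_eq_prime
    · apply Subtype.ext
      have : (Y ^ s).1 = Y.1 ^ s := rfl
      rw [this, hYd, blockDiag_pow2, one_pow]
      have h1 : (Y₀.1) ^ s = 1 := by
        have : (Y₀ ^ s).1 = Y₀.1 ^ s := rfl
        rw [← this, hY0pow]
        rfl
      rw [h1]
      exact SympBlock.blockDiag_one a c
    · intro h
      have h1 : Y.1 = 1 := by rw [h]; rfl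
      rw [hYd, ← SympBlock.blockDiag_one a c] at h1
      obtain ⟨h3, -⟩ := SympBlock.blockDiag_injective a c _ _ _ _ h1
      have : Y₀ = 1 := Subtype.ext h3
      rw [this, orderOf_one] at hY
      exact hs.one_lt.ne hY
  apply psp_two_mul_of_pair (a + c) (by omega) h2 Z Y hcomm s hs hs2 hYord
  · left
    show Z.1 * Z.1 = 1
    rw [hZd, ← SympBlock.blockDiag_mul, one_mul, neg_mul_neg, one_mul]
    exact SympBlock.blockDiag_one a c
  · intro h
    rw [hZd, ← SympBlock.blockDiag_one a c] at h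
    obtain ⟨-, h4⟩ := SympBlock.blockDiag_injective a c _ _ _ _ h
    exact one_ne_neg_one_mat h2 c hc h4.symm
  · intro h
    rw [hZd, ← blockDiag_neg_one a c] at h
    obtain ⟨h3, -⟩ := SympBlock.blockDiag_injective a c _ _ _ _ h
    exact one_ne_neg_one_mat h2 a ha h3

/-- an element of odd order of a smaller symplectic group survives in `PSp` -/
theorem psp_odd_of_sp (a c : ℕ) (ha : 1 ≤ a) (x : symplecticGroup (Fin a) F) (u : ℕ)
    (hx : orderOf x = u) (hodd : Odd u) :
    u ∈ Set.range (orderOf : Cfsg.PSp (a + c) F → ℕ) := by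
  obtain ⟨g, hg⟩ := exists_order_mul a c (by omega) x (1 : symplecticGroup (Fin c) F) u 1 hx
    orderOf_one (Nat.coprime_one_right u) (by rwa [mul_one])
  rw [mul_one] at hg
  exact ⟨g, hg⟩

/-- block-diagonal elements of coprime orders -/
theorem sp_block_order (a b : ℕ) (x : symplecticGroup (Fin a) F) (y : symplecticGroup (Fin b) F)
    (u v : ℕ) (hx : orderOf x = u) (hy : orderOf y = v) (hcop : Nat.Coprime u v) (hu : 0 < u)
    (hv : 0 < v) :
    ∃ G : symplecticGroup (Fin (a + b)) F, orderOf G = u * v := by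
  obtain ⟨G, hG⟩ : ∃ G : ↥(symplecticGroup (Fin (a + b)) F),
      G.1 = SympBlock.blockDiag a b x.1 y.1 :=
    ⟨⟨_, SympBlock.blockDiag_mem a b x.2 y.2⟩, rfl⟩
  have hG1 : ∀ m : ℕ, (G ^ m).1 = SympBlock.blockDiag a b ((x ^ m).1) ((y ^ m).1) := by
    intro m
    have : (G ^ m).1 = G.1 ^ m := rfl
    rw [this, hG, blockDiag_pow2]
    rfl
  refine ⟨G, ?_⟩
  rw [orderOf_eq_iff (Nat.mul_pos hu hv)]
  constructor
  · apply Subtype.ext
    rw [hG1]
    have hx' : x ^ (u * v) = 1 := by rw [pow_mul, ← hx, pow_orderOf_eq_one, one_pow]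
    have hy' : y ^ (u * v) = 1 := by rw [mul_comm, pow_mul, ← hy, pow_orderOf_eq_one, one_pow]
    rw [hx', hy']
    exact SympBlock.blockDiag_one a b
  · intro m hm hm0 h
    have h1 := hG1 m
    rw [h] at h1
    have h2 : SympBlock.blockDiag a b ((x ^ m).1) ((y ^ m).1) =
        SympBlock.blockDiag a b 1 1 := by
      rw [← h1, SympBlock.blockDiag_one]; rfl
    obtain ⟨h3, h4⟩ := SympBlock.blockDiag_injective a b _ _ _ _ h2
    have hx' : x ^ m = 1 := Subtype.ext h3
    have hy' : y ^ m = 1 := Subtype.ext h4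
    have h5 := orderOf_dvd_of_pow_eq_one hx'
    have h6 := orderOf_dvd_of_pow_eq_one hy'
    rw [hx] at h5
    rw [hy] at h6
    have := Nat.le_of_dvd hm0 (hcop.mul_dvd_of_dvd_of_dvd h5 h6)
    omega

variable [Fintype F]

/-- an element of order `p` in `Sp_2(q)` -/
theorem exists_sp_one_order_p (p : ℕ) [Fact p.Prime] [CharP F p] :
    ∃ y : symplecticGroup (Fin 1) F, orderOf y = p := by
  have hqF : ((Fintype.card F : ℕ) : F) = 0 := Nat.cast_card_eq_zero F
  have hpq : p ∣ Fintype.card F := (CharP.cast_eq_zero_iff F p _).mp hqF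
  have hcard := SympCard.card_symplecticGroup (F := F) 1
  have hdvd : p ∣ Nat.card (symplecticGroup (Fin 1) F) := by
    rw [hcard, one_pow, pow_one]
    exact Dvd.dvd.mul_right hpq _
  haveI : Finite (symplecticGroup (Fin 1) F) := inferInstance
  exact exists_prime_orderOf_dvd_card' p hdvd

end Cfsg.Agent.Lib.Helper1.Pg
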