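import Mathlib
import Cfsg.Prelude
import Cfsg.Agent.Lib.Helper5.AltForm

/-!
# The transfer form `B (δ u) v`, `δ = t - t⁻¹`, and matrix models of alternating spaces
-/

set_option autoImplicit false
set_option maxHeartbeats 4000000
set_option linter.unusedSimpArgs false
set_option linter.unusedVariables false
set_option linter.unusedSectionVars false
set_option linter.style.haveILetI false

namespace Cfsg.Agent.Lib.Helper1.Pg

open Module Matrix

variable {F : Type*} [Field F] {W : Type*} [AddCommGroup W] [Module F W]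

section transfer

variable (B : LinearMap.BilinForm F W) (t ti : End F W)

/-- the transferred form -/
def trForm : LinearMap.BilinForm F W := B.compLeft (t - ti)

theorem trForm_apply (x y : W) : trForm B t ti x y = B (t x) y - B (ti x) y := by
  unfold trForm
  rw [LinearMap.BilinForm.compLeft_apply, LinearMap.sub_apply, map_sub, LinearMap.sub_apply]

variable (hsym : ∀ x y, B x y = B y x) (hiso : ∀ x y, B (t x) (t y) = B x y)
  (h1 : t * ti = 1) (h1' : ti * t = 1)

include hiso h1 in
theorem adj_t (x y : W) : B (t x) y = B x (ti y) := by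
  have h := LinearMap.congr_fun h1 y
  rw [Module.End.mul_apply, Module.End.one_apply] at h
  nth_rewrite 1 [← h]
  rw [hiso]

include hiso h1 in
theorem adj_ti (x y : W) : B (ti x) y = B x (t y) := by
  have h := LinearMap.congr_fun h1 x
  rw [Module.End.mul_apply, Module.End.one_apply] at h
  rw [← hiso (ti x) y, h]

include hsym hiso h1 in
theorem trForm_isAlt : (trForm B t ti).IsAlt := by
  intro x
  rw [trForm_apply, adj_ti B t ti hiso h1, hsym x (t x), sub_self]

include h1 in
theorem delta_injective (hm : ∀ x, t x = x → x = 0) (hp : ∀ x, t x = -x → x = 0) (x : W)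
    (hx : (t - ti) x = 0) : x = 0 := by
  rw [LinearMap.sub_apply, sub_eq_zero] at hx
  have h := LinearMap.congr_fun h1 x
  rw [Module.End.mul_apply, Module.End.one_apply] at h
  have h3 : t (t x) = x := by
    rw [hx, h]
  have h4 : t (t x + x) = t x + x := by
    rw [map_add, h3, add_comm]
  have h5 := hm _ h4
  apply hp
  exact eq_neg_of_add_eq_zero_left h5

include h1 in
theorem trForm_nondeg (hnd : ∀ x, (∀ y, B x y = 0) → x = 0)
    (hm : ∀ x, t x = x → x = 0) (hp : ∀ x, t x = -x → x = 0) (x : W)
    (hx : ∀ y, trForm B t ti x y = 0) : x = 0 := by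
  apply delta_injective t ti h1 hm hp
  apply hnd
  intro y
  have := hx y
  unfold trForm at this
  rw [LinearMap.BilinForm.compLeft_apply] at this
  exact this

include h1 h1' in
theorem comm_ti (z : End F W) (hz : z * t = t * z) : z * ti = ti * z := by
  calc z * ti = (ti * t) * (z * ti) := by rw [h1', one_mul]
    _ = ti * (t * z) * ti := by simp only [mul_assoc]
    _ = ti * (z * t) * ti := by rw [hz]
    _ = ti * z * (t * ti) := by simp only [mul_assoc]
    _ = ti * z := by rw [h1, mul_one]

include h1 h1' in
theorem trForm_iso (z : End F W) (hz : z * t = t * z) (hzi : ∀ x y, B (z x) (z y) = B x y)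
    (x y : W) : trForm B t ti (z x) (z y) = trForm B t ti x y := by
  have hz' := comm_ti t ti h1 h1' z hz
  have e1 : t (z x) = z (t x) := (LinearMap.congr_fun hz x).symm
  have e2 : ti (z x) = z (ti x) := (LinearMap.congr_fun hz' x).symm
  rw [trForm_apply, trForm_apply, e1, e2, hzi, hzi]

end transfer

section model

variable [FiniteDimensional F W]

/-- a matrix model of a non-degenerate alternating space -/
theorem exists_model (A : LinearMap.BilinForm F W) (hA : A.IsAlt)
    (hnd : ∀ x, (∀ y, A x y = 0) → x = 0) :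
    ∃ (b : ℕ) (Φ : End F W ≃ₐ[F] Matrix (Fin b ⊕ Fin b) (Fin b ⊕ Fin b) F),
      finrank F W = 2 * b ∧
      ∀ z : End F W, (∀ x y, A (z x) (z y) = A x y) → Φ z ∈ symplecticGroup (Fin b) F := by
  classical
  obtain ⟨m, k, bs, e1, e2, e3, e4, e5, -⟩ :=
    Cfsg.Agent.Lib.Helper5.AltForm.exists_darboux_basis A hA
  have hk : k = 0 := by
    by_contra hk
    have hk' : 0 < k := Nat.pos_of_ne_zero hk
    have := hnd (bs (Sum.inr ⟨0, hk'⟩)) (e4 ⟨0, hk'⟩)
    exact bs.ne_zero _ this
  subst hk
  obtain ⟨b', hb'⟩ : ∃ b' : Basis (Fin m ⊕ Fin m) F W, ∀ i, b' i = bs (Sum.inl i) :=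
    ⟨bs.reindex (Equiv.sumEmpty (Fin m ⊕ Fin m) (Fin 0)), fun i => by
      rw [Basis.reindex_apply]
      rfl⟩
  refine ⟨m, LinearMap.toMatrixAlgEquiv b', by omega, ?_⟩
  intro z hz
  rw [SymplecticGroup.mem_iff']
  have hcomp : A.comp z z = A := by
    apply LinearMap.ext
    intro x
    apply LinearMap.ext
    intro y
    rw [LinearMap.BilinForm.comp_apply, hz]
  have hG : LinearMap.BilinForm.toMatrix b' A = -(J (Fin m) F) := by
    ext i j
    rw [LinearMap.BilinForm.toMatrix_apply, hb', hb', Matrix.neg_apply]
    rcases i with i | i <;> rcases j with j | j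
    · rw [e2]
      simp [J]
    · rw [e1]
      simp [J, Matrix.one_apply]
    · rw [← hA.neg_eq, e1]
      simp [J, Matrix.one_apply, eq_comm]
    · rw [e3]
      simp [J]
  have h := LinearMap.BilinForm.toMatrix_comp b' b' A z z
  rw [hcomp, hG] at h
  have h' : (LinearMap.toMatrixAlgEquiv b' z)ᵀ * J (Fin m) F * LinearMap.toMatrixAlgEquiv b' z =
      J (Fin m) F := by
    have e : LinearMap.toMatrixAlgEquiv b' z = LinearMap.toMatrix b' b' z := rfl
    rw [e]
    have := congrArg (fun X => -X) h
    simp only [neg_neg, Matrix.mul_neg, Matrix.neg_mul] at this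
    exact this.symm
  exact h'

end model

end Cfsg.Agent.Lib.Helper1.Pg
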