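import Mathlib
import Cfsg.Prelude
import Cfsg.Agent.Lib.Helper1.PgB
import Cfsg.Agent.Lib.Helper1.BcG

/-!
# The symplectic model attached to a semisimple isometry of odd order of a symmetric space
-/

set_option autoImplicit false
set_option maxHeartbeats 4000000
set_option linter.unusedSimpArgs false
set_option linter.unusedVariables false
set_option linter.unusedSectionVars false
set_option linter.style.haveILetI false

namespace Cfsg.Agent.Lib.Helper1.Pg

open Module Matrix
open Cfsg.Agent.Lib.Helper1.Bc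

variable {F : Type*} [Field F] {V : Type*} [AddCommGroup V] [Module F V]

theorem neg_pow_apply (t : End F V) (x : V) (h : t x = -x) (i : ℕ) :
    (t ^ i) x = (-1 : F) ^ i • x := by
  induction i with
  | zero => rw [pow_zero, pow_zero, Module.End.one_apply, one_smul]
  | succ i ih =>
    rw [pow_succ, Module.End.mul_apply, h, map_neg, ih, pow_succ, mul_neg_one, neg_smul]

/-- the model on an abstract space -/
theorem exists_sp_model_abs [FiniteDimensional F V] (B : LinearMap.BilinForm F V)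
    (hsym : ∀ x y, B x y = B y x) (hnd : ∀ x, (∀ y, B x y = 0) → x = 0) (h2 : (2 : F) ≠ 0)
    (t : End F V) (hiso : ∀ x y, B (t x) (t y) = B x y) (m : ℕ) (hm : Odd m)
    (htm : t ^ m = 1) (hfix : ∀ x, t x = x → x = 0) :
    ∃ (b : ℕ) (Φ : End F V ≃ₐ[F] Matrix (Fin b ⊕ Fin b) (Fin b ⊕ Fin b) F),
      finrank F V = 2 * b ∧
      ∀ z : End F V, z * t = t * z → (∀ x y, B (z x) (z y) = B x y) →
        Φ z ∈ symplecticGroup (Fin b) F := by
  obtain ⟨c, hc⟩ := hm
  have h1 : t * t ^ (m - 1) = 1 := by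
    rw [← pow_succ', ← htm]
    congr 1
    omega
  have h1' : t ^ (m - 1) * t = 1 := by
    rw [← pow_succ, ← htm]
    congr 1
    omega
  have hp : ∀ x, t x = -x → x = 0 := by
    intro x hx
    have h3 := neg_pow_apply t x hx m
    rw [htm, Module.End.one_apply, hc, pow_succ, pow_mul] at h3
    simp only [even_two, Even.neg_pow, one_pow, mul_neg, mul_one, neg_smul, one_smul] at h3
    have h4 : (2 : F) • x = 0 := by
      rw [two_smul]
      nth_rewrite 1 [h3]
      exact neg_add_cancel x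
    exact (smul_eq_zero.mp h4).resolve_left h2
  obtain ⟨b, Φ, hfr, hΦ⟩ := exists_model (trForm B t (t ^ (m - 1)))
    (trForm_isAlt B t _ hsym hiso h1) (trForm_nondeg B t _ h1 hnd hfix hp)
  refine ⟨b, Φ, hfr, ?_⟩
  intro z hz hzi
  apply hΦ
  intro x y
  exact trForm_iso B t _ h1 h1' z hz hzi x y

theorem sp_pow_eq_one_iff {W : Type*} [AddCommGroup W] [Module F W] {b : ℕ}
    (Φ : End F W ≃ₐ[F] Matrix (Fin b ⊕ Fin b) (Fin b ⊕ Fin b) F) (z : End F W)
    (hz : Φ z ∈ symplecticGroup (Fin b) F) (k : ℕ) :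
    (⟨Φ z, hz⟩ : symplecticGroup (Fin b) F) ^ k = 1 ↔ z ^ k = 1 := by
  constructor
  · intro h
    have h1 : ((⟨Φ z, hz⟩ : symplecticGroup (Fin b) F) ^ k).1 = (Φ z) ^ k := rfl
    rw [h, ← map_pow] at h1
    apply Φ.injective
    rw [← h1, map_one]
    rfl
  · intro h
    apply Subtype.ext
    have h1 : ((⟨Φ z, hz⟩ : symplecticGroup (Fin b) F) ^ k).1 = (Φ z) ^ k := rfl
    rw [h1, ← map_pow, h, map_one]
    rfl

/-- the model attached to an isometry `Y` of odd order prime to the characteristic -/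
theorem exists_sp_model [FiniteDimensional F V] (B : LinearMap.BilinForm F V)
    (hsym : ∀ x y, B x y = B y x) (hnd : ∀ x, (∀ y, B x y = 0) → x = 0) (h2 : (2 : F) ≠ 0)
    (Y : End F V) (hiso : ∀ x y, B (Y x) (Y y) = B x y) (m : ℕ) (hm : Odd m)
    (hmF : (m : F) ≠ 0) (hYm : Y ^ m = 1) :
    ∃ (W C : Submodule F V) (hW : ∀ v ∈ W, Y v ∈ W) (b : ℕ)
      (Φ : End F W ≃ₐ[F] Matrix (Fin b ⊕ Fin b) (Fin b ⊕ Fin b) F),
      IsCompl W C ∧ (∀ v ∈ W, ∀ w ∈ C, B v w = 0) ∧ (∀ w, w ∈ C ↔ Y w = w) ∧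
      (∀ Z : End F V, Commute Y Z → (∀ v ∈ W, Z v ∈ W) ∧ (∀ w ∈ C, Z w ∈ C)) ∧
      finrank F W = 2 * b ∧
      ∀ z : End F W, z * Y.restrict hW = Y.restrict hW * z →
        (∀ x y : W, B (z x) (z y) = B x y) → Φ z ∈ symplecticGroup (Fin b) F := by
  have hcompl := isCompl_range_ker Y m hmF hYm
  have horth : ∀ v ∈ LinearMap.range (Y - 1), ∀ w ∈ LinearMap.ker (Y - 1), B v w = 0 :=
    fun v hv w hw => ortho_range_ker B Y hiso v w hv hw
  have hW : ∀ v ∈ LinearMap.range (Y - 1), Y v ∈ LinearMap.range (Y - 1) :=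
    fun v hv => range_invariant Y Y (Commute.refl Y) v hv
  obtain ⟨b, Φ, hfr, hΦ⟩ := exists_sp_model_abs
    (LinearMap.BilinForm.restrict B (LinearMap.range (Y - 1)))
    (fun x y => hsym _ _)
    (fun x hx => by
      apply Subtype.ext
      apply nd_left B hnd _ _ hcompl horth x x.2
      intro y hy
      exact hx ⟨y, hy⟩) h2 (Y.restrict hW)
    (fun x y => hiso _ _) m hm
    (restrict_pow_eq_one Y _ hW m (fun v _ => by rw [hYm, Module.End.one_apply]))
    (fun x hx => by
      apply Subtype.ext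
      have h3 : Y (x : V) = x := congrArg Subtype.val hx
      exact Submodule.disjoint_def.mp hcompl.disjoint x x.2 ((mem_ker_sub_one Y x).mpr h3))
  refine ⟨_, _, hW, b, Φ, hcompl, horth, fun w => mem_ker_sub_one Y w, ?_, hfr, ?_⟩
  · intro Z hZ
    exact ⟨fun v hv => range_invariant Y Z hZ v hv, fun w hw => ker_invariant Y Z hZ w hw⟩
  · intro z hz hzi
    exact hΦ z hz hzi

end Cfsg.Agent.Lib.Helper1.Pg
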