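import Mathlib
import Cfsg.Prelude
import Cfsg.Agent.Lib.Helper1.PgA
import Cfsg.Agent.Lib.Helper1.PgC

/-!
# Odd cases: from an isometry of odd order `r s` of a `(2 n + 1)`-dimensional symmetric space to
an element of `PSp_{2n}`
-/

set_option autoImplicit false
set_option maxHeartbeats 4000000
set_option linter.unusedSimpArgs false
set_option linter.unusedVariables false
set_option linter.unusedSectionVars false
set_option linter.style.haveILetI false

namespace Cfsg.Agent.Lib.Helper1.Pg

open Module Matrix
open Cfsg.Agent.Lib.Helper1.Bc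

variable {F : Type*} [Field F] {V : Type*} [AddCommGroup V] [Module F V]

/-- a map which is the identity on both summands of a decomposition is the identity -/
theorem eq_one_of_isCompl (W C : Submodule F V) (hc : IsCompl W C) (Z : End F V)
    (h1 : ∀ v ∈ W, Z v = v) (h2 : ∀ w ∈ C, Z w = w) : Z = 1 := by
  apply LinearMap.ext
  intro y
  have hy : y ∈ W ⊔ C := by rw [hc.sup_eq_top]; trivial
  obtain ⟨y₁, hy₁, y₂, hy₂, rfl⟩ := Submodule.mem_sup.mp hy
  rw [map_add, Module.End.one_apply, h1 y₁ hy₁, h2 y₂ hy₂]

/-- the restricted model element has the same order as the original map when the latter is trivial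
on the complement -/
theorem model_pow_iff (W C : Submodule F V) (hc : IsCompl W C) (Z : End F V)
    (hZW : ∀ v ∈ W, Z v ∈ W) (hZC : ∀ w ∈ C, Z w = w) (k : ℕ) :
    (Z.restrict hZW) ^ k = 1 ↔ Z ^ k = 1 := by
  constructor
  · intro h
    apply eq_one_of_isCompl W C hc
    · intro v hv
      have := restrict_pow_coe Z W hZW k ⟨v, hv⟩
      rw [h, Module.End.one_apply] at this
      exact this.symm
    · intro w hw
      exact pow_fix Z w (hZC w hw) k
  · intro h
    apply restrict_pow_eq_one
    intro v _
    rw [h, Module.End.one_apply]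

section odd

variable [FiniteDimensional F V]

/-- Case A1: odd order prime to the characteristic -/
theorem sp_of_odd_semisimple (B : LinearMap.BilinForm F V)
    (hsym : ∀ x y, B x y = B y x) (hnd : ∀ x, (∀ y, B x y = 0) → x = 0) (h2 : (2 : F) ≠ 0)
    (X : End F V) (hiso : ∀ x y, B (X x) (X y) = B x y) (n : ℕ)
    (hdim : finrank F V = 2 * n + 1) (N : ℕ) (hN1 : 1 < N) (hNodd : Odd N) (hNF : (N : F) ≠ 0)
    (hXN : X ^ N = 1) (hord : ∀ k, X ^ k = 1 → N ∣ k) :
    ∃ b : ℕ, 1 ≤ b ∧ b ≤ n ∧ ∃ G : symplecticGroup (Fin b) F, orderOf G = N := by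
  obtain ⟨W, C, hW, b, Φ, hcompl, horth, hC, hinv, hfr, hΦ⟩ :=
    exists_sp_model B hsym hnd h2 X hiso N hNodd hNF hXN
  have hG := hΦ (X.restrict hW) rfl (fun x y => hiso _ _)
  have hb1 : 1 ≤ b := by
    rcases Nat.eq_zero_or_pos b with rfl | h
    · exfalso
      rw [mul_zero, Submodule.finrank_eq_zero] at hfr
      have h1 : X = 1 := by
        apply eq_one_of_isCompl W C hcompl
        · intro v hv
          rw [hfr] at hv
          rw [(Submodule.mem_bot F).mp hv, map_zero]
        · intro w hw
          exact (hC w).mp hw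
      have := hord 1 (by rw [pow_one, h1])
      have := Nat.le_of_dvd one_pos this
      omega
    · exact h
  have hbn : b ≤ n := by
    have := Submodule.finrank_le W
    omega
  refine ⟨b, hb1, hbn, ⟨Φ (X.restrict hW), hG⟩, ?_⟩
  rw [orderOf_eq_iff (by omega)]
  constructor
  · rw [sp_pow_eq_one_iff, model_pow_iff W C hcompl X hW (fun w hw => (hC w).mp hw)]
    exact hXN
  · intro k hk hk0 h
    rw [sp_pow_eq_one_iff, model_pow_iff W C hcompl X hW (fun w hw => (hC w).mp hw)] at h
    have := Nat.le_of_dvd hk0 (hord k h)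
    omega

end odd

end Cfsg.Agent.Lib.Helper1.Pg
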