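import Mathlib
import Cfsg.Prelude
import Cfsg.Agent.Lib.Helper1.PgD

/-!
# Case A2: an isometry of order `p s` (`p` the characteristic, `s` an odd prime)
-/

set_option autoImplicit false
set_option maxHeartbeats 4000000
set_option linter.unusedSimpArgs false
set_option linter.unusedVariables false
set_option linter.unusedSectionVars false
set_option linter.style.haveILetI false

namespace Cfsg.Agent.Lib.Helper1.Pg

open Module Matrix
open Cfsg.Agent.Lib.Helper1.Bc

variable {F : Type*} [Field F] {V : Type*} [AddCommGroup V] [Module F V]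

theorem restrict_comm (W : Submodule F V) (Y Z : End F V) (hc : Commute Y Z)
    (hY : ∀ v ∈ W, Y v ∈ W) (hZ : ∀ v ∈ W, Z v ∈ W) :
    Z.restrict hZ * Y.restrict hY = Y.restrict hY * Z.restrict hZ := by
  apply LinearMap.ext
  intro v
  apply Subtype.ext
  have := LinearMap.congr_fun hc.eq (v : V)
  exact this.symm

theorem natCast_ne_zero_of_prime_ne (p : ℕ) [Fact p.Prime] [CharP F p] (s : ℕ) (hs : s.Prime)
    (hsp : s ≠ p) : (s : F) ≠ 0 := by
  intro h
  have h1 := (CharP.cast_eq_zero_iff F p s).mp h
  have hp : p.Prime := Fact.out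
  exact hsp ((Nat.prime_dvd_prime_iff_eq hp hs).mp h1).symm

theorem eq_one_of_pow_char (p : ℕ) [Fact p.Prime] [CharP F p] (c : F) (hc : c ^ p = 1) : c = 1 := by
  have h : (c - 1) ^ p = 0 := by rw [sub_pow_char, hc, one_pow, sub_self]
  exact sub_eq_zero.mp (eq_zero_of_pow_eq_zero h)

variable [FiniteDimensional F V]

theorem sp_of_p_mul (B : LinearMap.BilinForm F V)
    (hsym : ∀ x y, B x y = B y x) (hnd : ∀ x, (∀ y, B x y = 0) → x = 0) (h2 : (2 : F) ≠ 0)
    (X : End F V) (hiso : ∀ x y, B (X x) (X y) = B x y) (n : ℕ)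
    (hdim : finrank F V = 2 * n + 1) (p : ℕ) [Fact p.Prime] [CharP F p] (s : ℕ) (hs : s.Prime)
    (hs2 : s ≠ 2) (hsp : s ≠ p)
    (hXN : X ^ (p * s) = 1) (hord : ∀ k, X ^ k = 1 → p * s ∣ k) :
    (∃ b : ℕ, 1 ≤ b ∧ b ≤ n ∧ ∃ G : symplecticGroup (Fin b) F, orderOf G = p * s) ∨
    (∃ b : ℕ, 1 ≤ b ∧ b + 1 ≤ n ∧ ∃ G : symplecticGroup (Fin b) F, orderOf G = s) := by
  have hp : p.Prime := Fact.out
  have hsF : (s : F) ≠ 0 := natCast_ne_zero_of_prime_ne p s hs hsp
  have hYs : (X ^ p) ^ s = 1 := by rw [← pow_mul, hXN]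
  obtain ⟨W, C, hW, b, Φ, hcompl, horth, hC, hinv, hfr, hΦ⟩ :=
    exists_sp_model B hsym hnd h2 (X ^ p) (iso_pow B X hiso p) s (hs.odd_of_ne_two hs2) hsF hYs
  have hcomm : Commute (X ^ p) X := (Commute.refl X).pow_left p
  obtain ⟨hXW, hXC⟩ := hinv X hcomm
  have hY1 : X ^ p ≠ 1 := by
    intro h
    have h1 := hord p h
    have h3 : p * s ∣ p * 1 := by rw [mul_one]; exact h1
    have h4 := Nat.dvd_of_mul_dvd_mul_left hp.pos h3
    exact hs.one_lt.ne' (Nat.dvd_one.mp h4)
  have hb1 : 1 ≤ b := by
    rcases Nat.eq_zero_or_pos b with rfl | h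
    · exfalso
      rw [mul_zero, Submodule.finrank_eq_zero] at hfr
      apply hY1
      apply eq_one_of_isCompl W C hcompl
      · intro v hv
        rw [hfr] at hv
        rw [(Submodule.mem_bot F).mp hv, map_zero]
      · intro w hw
        exact (hC w).mp hw
    · exact h
  have hbn : b ≤ n := by
    have := Submodule.finrank_le W
    omega
  have hYW1 : (X ^ p).restrict hW ≠ 1 := by
    intro h
    apply hY1
    have := (model_pow_iff W C hcompl (X ^ p) hW (fun w hw => (hC w).mp hw) 1).mp
      (by rw [pow_one, h])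
    rwa [pow_one] at this
  by_cases hcase : ∀ v ∈ W, (X ^ s) v = v
  · right
    refine ⟨b, hb1, ?_, ⟨Φ ((X ^ p).restrict hW), hΦ _ rfl (fun x y => iso_pow B X hiso p _ _)⟩, ?_⟩
    · by_contra hlt
      have hbn' : b = n := by omega
      have hsum := Submodule.finrank_add_eq_of_isCompl hcompl
      have hC1 : finrank F C = 1 := by omega
      obtain ⟨⟨e, heC⟩, he0, he⟩ := finrank_eq_one_iff'.mp hC1
      have he0' : e ≠ 0 := fun h => he0 (Subtype.ext h)
      have hcs : Commute (X ^ p) (X ^ s) := (Commute.refl X).pow_pow p s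
      obtain ⟨-, hXsC⟩ := hinv (X ^ s) hcs
      obtain ⟨c, hc⟩ := he ⟨(X ^ s) e, hXsC e heC⟩
      have hc' : (X ^ s) e = c • e := (congrArg Subtype.val hc).symm
      have hpow : ∀ i : ℕ, ((X ^ s) ^ i) e = c ^ i • e := by
        intro i
        induction i with
        | zero => rw [pow_zero, pow_zero, Module.End.one_apply, one_smul]
        | succ i ih => rw [pow_succ, Module.End.mul_apply, hc', map_smul, ih, smul_smul, pow_succ']
      have h3 := hpow p
      rw [← pow_mul, mul_comm, hXN, Module.End.one_apply] at h3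
      have h4 : (c ^ p - 1) • e = 0 := by rw [sub_smul, one_smul, ← h3, sub_self]
      have hcp : c ^ p = 1 := sub_eq_zero.mp ((smul_eq_zero.mp h4).resolve_right he0')
      have hc1 : c = 1 := eq_one_of_pow_char p c hcp
      have hXs : X ^ s = 1 := by
        apply eq_one_of_isCompl W C hcompl _ hcase
        intro w hw
        obtain ⟨c', hc'w⟩ := he ⟨w, hw⟩
        have : w = c' • e := (congrArg Subtype.val hc'w).symm
        rw [this, map_smul, hc', hc1, one_smul]
      have h5 := hord s hXs
      have h6 : s * p ∣ s * 1 := by rw [mul_one, mul_comm]; exact h5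
      have h7 := Nat.dvd_of_mul_dvd_mul_left hs.pos h6
      exact hp.one_lt.ne' (Nat.dvd_one.mp h7)
    · haveI := Fact.mk hs
      apply orderOf_eq_prime
      · rw [sp_pow_eq_one_iff]
        apply restrict_pow_eq_one
        intro v _
        rw [hYs, Module.End.one_apply]
      · intro h
        apply hYW1
        have := (sp_pow_eq_one_iff Φ _ (hΦ _ rfl (fun x y => iso_pow B X hiso p _ _)) 1).mp
          (by rw [pow_one]; exact h)
        rwa [pow_one] at this
  · left
    have hG := hΦ (X.restrict hXW) (restrict_comm W (X ^ p) X hcomm hW hXW) (fun x y => hiso _ _)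
    refine ⟨b, hb1, hbn, ⟨Φ (X.restrict hXW), hG⟩, ?_⟩
    rw [orderOf_eq_iff (Nat.mul_pos hp.pos hs.pos)]
    constructor
    · rw [sp_pow_eq_one_iff]
      apply restrict_pow_eq_one
      intro v _
      rw [hXN, Module.End.one_apply]
    · intro k hk hk0 h
      rw [sp_pow_eq_one_iff] at h
      have hkW : ∀ v ∈ W, (X ^ k) v = v := by
        intro v hv
        have := restrict_pow_coe X W hXW k ⟨v, hv⟩
        rw [h, Module.End.one_apply] at this
        exact this.symm
      -- `s ∣ k`
      have hsk : s ∣ k := by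
        have hYk : X ^ (p * k) = 1 := by
          apply eq_one_of_isCompl W C hcompl
          · intro v hv
            rw [mul_comm, pow_mul]
            exact pow_fix (X ^ k) v (hkW v hv) p
          · intro w hw
            rw [pow_mul]
            exact pow_fix (X ^ p) w ((hC w).mp hw) k
        exact Nat.dvd_of_mul_dvd_mul_left hp.pos (hord _ hYk)
      -- `p ∣ k`
      have hpk : p ∣ k := by
        by_contra hnd'
        apply hcase
        have hcop : Nat.Coprime k p := (Nat.Prime.coprime_iff_not_dvd hp).mpr hnd' |>.symm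
        obtain ⟨a, -, ha⟩ := Nat.exists_mul_mod_eq_one_of_coprime hcop hp.one_lt
        have hdiv := Nat.div_add_mod (k * a) p
        rw [ha] at hdiv
        intro v hv
        have e1 : X ^ (s * (k * a)) = X ^ s := by
          rw [← hdiv, mul_add, mul_one, pow_add]
          have : s * (p * (k * a / p)) = p * s * (k * a / p) := by ring
          rw [this, pow_mul, hXN, one_pow, one_mul]
        rw [← e1]
        have : s * (k * a) = k * (s * a) := by ring
        rw [this, pow_mul]
        exact pow_fix (X ^ k) v (hkW v hv) _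
      have hcop : Nat.Coprime p s := (Nat.coprime_primes hp hs).mpr (Ne.symm hsp)
      have := Nat.le_of_dvd hk0 (hcop.mul_dvd_of_dvd_of_dvd hpk hsk)
      omega

end Cfsg.Agent.Lib.Helper1.Pg
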