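import Mathlib
import Cfsg.Prelude
import Cfsg.Agent.Lib.Helper1.PgE
import Cfsg.Agent.Lib.Helper5.SpAdj.Main2469

/-!
# Case B: order `2 s`, direct constructions and the reduction to the full-dimensional case
-/

set_option autoImplicit false
set_option maxHeartbeats 4000000
set_option linter.unusedSimpArgs false
set_option linter.unusedVariables false
set_option linter.unusedSectionVars false
set_option linter.style.haveILetI false

namespace Cfsg.Agent.Lib.Helper1.Pg

open Module Matrix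
open Cfsg.Agent.Lib.Helper1.Bc Cfsg.Agent.Lib.Helper5 Cfsg.Agent.Lib.Helper5.SpAdj
  Cfsg.Agent.Lib.Helper5.SpecSL

section pair

variable {F : Type*} [Field F] {W : Type*} [AddCommGroup W] [Module F W]

/-- a commuting pair in the model gives projective order `2 s` -/
theorem pair_from_model [Nontrivial W] (h2 : (2 : F) ≠ 0) (n : ℕ) (hn : 1 ≤ n)
    (Φ : End F W ≃ₐ[F] Matrix (Fin n ⊕ Fin n) (Fin n ⊕ Fin n) F) (z y : End F W)
    (hz : Φ z ∈ symplecticGroup (Fin n) F) (hy : Φ y ∈ symplecticGroup (Fin n) F)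
    (hc : z * y = y * z) (s : ℕ) (hs : s.Prime) (hs2 : s ≠ 2) (hys : y ^ s = 1) (hy1 : y ≠ 1)
    (hz2 : z * z = 1 ∨ z * z = -1) (hz1 : z ≠ 1) (hzm : z ≠ -1) :
    2 * s ∈ Set.range (orderOf : Cfsg.PSp n F → ℕ) := by
  apply psp_two_mul_of_pair n hn h2 ⟨Φ z, hz⟩ ⟨Φ y, hy⟩ _ s hs hs2
  · haveI := Fact.mk hs
    apply orderOf_eq_prime
    · rw [sp_pow_eq_one_iff]
      exact hys
    · intro h
      apply hy1
      have := (sp_pow_eq_one_iff Φ y hy 1).mp (by rw [pow_one]; exact h)
      rwa [pow_one] at this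
  · rcases hz2 with h | h
    · left
      show Φ z * Φ z = 1
      rw [← map_mul, h, map_one]
    · right
      show Φ z * Φ z = -1
      rw [← map_mul, h, map_neg, map_one]
  · intro h
    apply hz1
    apply Φ.injective
    rw [map_one]
    exact h
  · intro h
    apply hzm
    apply Φ.injective
    rw [map_neg, map_one]
    exact h
  · apply Subtype.ext
    show Φ z * Φ y = Φ y * Φ z
    rw [← map_mul, ← map_mul, hc]

end pair

section direct

variable {F : Type*} [Field F] [Fintype F]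

/-- the direct construction when the torus of order `s` fits into `Sp_{2(n-1)}` -/
theorem psp_two_mul_direct (p : ℕ) [Fact p.Prime] [CharP F p] (h2 : (2 : F) ≠ 0) (s : ℕ)
    (hs : s.Prime) (hs2 : s ≠ 2) (n η : ℕ) (hη1 : 1 ≤ η) (hηn : η + 1 ≤ n)
    (hdiv : s ∣ Fintype.card F ^ η - 1 ∨ s ∣ Fintype.card F ^ η + 1) :
    2 * s ∈ Set.range (orderOf : Cfsg.PSp n F → ℕ) := by
  obtain ⟨Y₀, hY₀⟩ : ∃ Y₀ : symplecticGroup (Fin η) F, orderOf Y₀ = s := by
    rcases hdiv with h | h
    · have hne : NeZero η := ⟨by omega⟩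
      obtain ⟨A, hA⟩ := exists_gl_orderOf p η s h
      obtain ⟨S, hS⟩ := exists_sp_orderOf_of_gl η A
      exact ⟨S, by rw [hS, hA]⟩
    · have hne : NeZero (2 * η) := ⟨by omega⟩
      haveI : Fintype (FiniteField.Extension F p (2 * η)) := Fintype.ofFinite _
      exact exists_sp_orderOf (FiniteField.Extension F p (2 * η)) η
        (FiniteField.finrank_extension F p (2 * η)) hη1 s h
  obtain ⟨c, rfl⟩ : ∃ c, n = η + c := ⟨n - η, by omega⟩
  exact psp_two_mul_of_sp η c hη1 (by omega) h2 Y₀ s hs hs2 hY₀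

/-- Case C: order `2 p` -/
theorem psp_two_mul_p (p : ℕ) [Fact p.Prime] [CharP F p] (h2 : (2 : F) ≠ 0) (n : ℕ)
    (hn : 2 ≤ n) : 2 * p ∈ Set.range (orderOf : Cfsg.PSp n F → ℕ) := by
  have hp : p.Prime := Fact.out
  have hp2 : p ≠ 2 := by
    rintro rfl
    apply h2
    have := CharP.cast_eq_zero F 2
    exact_mod_cast this
  obtain ⟨y, hy⟩ := exists_sp_one_order_p (F := F) p
  obtain ⟨c, rfl⟩ : ∃ c, n = 1 + c := ⟨n - 1, by omega⟩
  exact psp_two_mul_of_sp 1 c (le_refl 1) (by omega) h2 y p hp hp2 hy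

end direct

end Cfsg.Agent.Lib.Helper1.Pg
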