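import Mathlib
import Cfsg.Prelude
import Cfsg.Agent.Lib.Helper1.PgF

/-!
# Case B, full-dimensional situation: the support of the element of order `s` is a hyperplane
-/

set_option autoImplicit false
set_option maxHeartbeats 4000000
set_option linter.unusedSimpArgs false
set_option linter.unusedVariables false
set_option linter.unusedSectionVars false
set_option linter.style.haveILetI false

namespace Cfsg.Agent.Lib.Helper1.Pg

open Module Matrix
open Cfsg.Agent.Lib.Helper1.Bc Cfsg.Agent.Lib.Helper5.SpecSL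

variable {F : Type*} [Field F] [Fintype F] {V : Type*} [AddCommGroup V] [Module F V] [Finite V]

theorem two_mul_full (B : LinearMap.BilinForm F V)
    (hsym : ∀ x y, B x y = B y x) (hnd : ∀ x, (∀ y, B x y = 0) → x = 0) (h2 : (2 : F) ≠ 0)
    (X : End F V) (hiso : ∀ x y, B (X x) (X y) = B x y) (n : ℕ) (hn : 1 ≤ n)
    (hdim : finrank F V = 2 * n + 1) (s : ℕ) (hs : s.Prime) (hs2 : s ≠ 2)
    (hsq : ¬ s ∣ Fintype.card F) (hsF : (s : F) ≠ 0)
    (hXN : X ^ (2 * s) = 1) (hord : ∀ k, X ^ k = 1 → 2 * s ∣ k)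
    (hk : (Even (orderOf ((Fintype.card F : ℕ) : ZMod s)) ∧
        2 * n ≤ orderOf ((Fintype.card F : ℕ) : ZMod s)) ∨
      (Odd (orderOf ((Fintype.card F : ℕ) : ZMod s)) ∧
        n ≤ orderOf ((Fintype.card F : ℕ) : ZMod s))) :
    ∃ (W C : Submodule F V) (hW : ∀ v ∈ W, (X ^ 2) v ∈ W)
      (Φ : End F W ≃ₐ[F] Matrix (Fin n ⊕ Fin n) (Fin n ⊕ Fin n) F),
      IsCompl W C ∧ (∀ v ∈ W, ∀ w ∈ C, B v w = 0) ∧ (∀ w, w ∈ C ↔ (X ^ 2) w = w) ∧
      (∀ Z : End F V, Commute (X ^ 2) Z → (∀ v ∈ W, Z v ∈ W) ∧ (∀ w ∈ C, Z w ∈ C)) ∧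
      finrank F W = 2 * n ∧ finrank F C = 1 ∧
      (∀ z : End F W, z * (X ^ 2).restrict hW = (X ^ 2).restrict hW * z →
        (∀ x y : W, B (z x) (z y) = B x y) → Φ z ∈ symplecticGroup (Fin n) F) ∧
      (orderOf ((Fintype.card F : ℕ) : ZMod s) = 2 * n ∨
        (orderOf ((Fintype.card F : ℕ) : ZMod s) = n ∧ Odd n)) := by
  haveI := Fact.mk hs
  have hYs : (X ^ 2) ^ s = 1 := by rw [← pow_mul, hXN]
  obtain ⟨W, C, hW, b, Φ, hcompl, horth, hC, hinv, hfr, hΦ⟩ :=
    exists_sp_model B hsym hnd h2 (X ^ 2) (iso_pow B X hiso 2) s (hs.odd_of_ne_two hs2) hsF hYs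
  have hY1 : X ^ 2 ≠ 1 := by
    intro h
    have h1 := hord 2 h
    have h3 : 2 * s ∣ 2 * 1 := by rw [mul_one]; exact h1
    have h4 := Nat.dvd_of_mul_dvd_mul_left (by norm_num) h3
    exact hs.one_lt.ne' (Nat.dvd_one.mp h4)
  have hb1 : 1 ≤ b := by
    rcases Nat.eq_zero_or_pos b with rfl | h
    · exfalso
      rw [mul_zero, Submodule.finrank_eq_zero] at hfr
      apply hY1
      apply eq_one_of_isCompl W C hcompl
      · intro v hv
        rw [hfr] at hv
        rw [(Submodule.mem_bot F).mp hv, map_zero]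
      · intro w hw
        exact (hC w).mp hw
    · exact h
  have hbn : b ≤ n := by
    have := Submodule.finrank_le W
    omega
  have hdvd := orderOf_dvd_finrank_sub (X ^ 2) W hW s hYs hsq
  have hinf : (W ⊓ fixSp (X ^ 2) : Submodule F V) = ⊥ := by
    rw [eq_bot_iff]
    intro v hv
    rw [Submodule.mem_inf, mem_fixSp] at hv
    rw [Submodule.mem_bot]
    exact Submodule.disjoint_def.mp hcompl.disjoint v hv.1 ((hC v).mpr hv.2)
  rw [hinf, finrank_bot, Nat.sub_zero, hfr] at hdvd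
  have hkb : b = n ∧ (orderOf ((Fintype.card F : ℕ) : ZMod s) = 2 * n ∨
      (orderOf ((Fintype.card F : ℕ) : ZMod s) = n ∧ Odd n)) := by
    obtain ⟨k, hkdef⟩ : ∃ k, k = orderOf ((Fintype.card F : ℕ) : ZMod s) := ⟨_, rfl⟩
    rw [← hkdef] at hk hdvd ⊢
    rcases hk with ⟨hke, hkn⟩ | ⟨hko, hkn⟩
    · have := Nat.le_of_dvd (by omega) hdvd
      refine ⟨by omega, Or.inl (by omega)⟩
    · have hcop : Nat.Coprime k 2 := Nat.coprime_two_right.mpr hko
      have hkb := hcop.dvd_of_dvd_mul_left hdvd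
      have := Nat.le_of_dvd (by omega) hkb
      have hbn' : b = n := by omega
      have hkn' : k = n := by omega
      refine ⟨hbn', Or.inr ⟨hkn', ?_⟩⟩
      rw [← hkn']
      exact hko
  obtain ⟨rfl, hkk⟩ := hkb
  have hsum := Submodule.finrank_add_eq_of_isCompl hcompl
  refine ⟨W, C, hW, Φ, hcompl, horth, hC, hinv, hfr, by omega, hΦ, hkk⟩

end Cfsg.Agent.Lib.Helper1.Pg
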