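import Mathlib
import Cfsg.Prelude
import Cfsg.Agent.Lib.Helper1.PgG
import Cfsg.Agent.Lib.Helper1.BcH

/-!
# Maschke for one operator, and the hyperbolic decomposition in the case `ord_s(q) = n` odd
-/

set_option autoImplicit false
set_option maxHeartbeats 4000000
set_option linter.unusedSimpArgs false
set_option linter.unusedVariables false
set_option linter.unusedSectionVars false
set_option linter.style.haveILetI false

namespace Cfsg.Agent.Lib.Helper1.Pg

open Module Matrix
open Cfsg.Agent.Lib.Helper1.Bc Cfsg.Agent.Lib.Helper5.SpecSL Cfsg.Agent.Lib.Helper5.HalfTorus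

section maschke

variable {F : Type*} [Field F] {W : Type*} [AddCommGroup W] [Module F W]

theorem pow_mem_of_invariant (y : End F W) (N : Submodule F W) (hN : ∀ v ∈ N, y v ∈ N) (i : ℕ)
    (v : W) (hv : v ∈ N) : (y ^ i) v ∈ N := pow_apply_mem y N hN i v hv

/-- Maschke's theorem for a single operator of finite order prime to the characteristic -/
theorem exists_invariant_compl (y : End F W) (s : ℕ) (hsF : (s : F) ≠ 0) (hys : y ^ s = 1)
    (N : Submodule F W) (hN : ∀ v ∈ N, y v ∈ N) :
    ∃ N' : Submodule F W, IsCompl N N' ∧ ∀ v ∈ N', y v ∈ N' := by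
  have hs0 : s ≠ 0 := by
    rintro rfl
    exact hsF Nat.cast_zero
  obtain ⟨N₀, hN₀⟩ := Submodule.exists_isCompl N
  obtain ⟨π, hπ⟩ : ∃ π : End F W, π = N.subtype ∘ₗ (Submodule.linearProjOfIsCompl N N₀ hN₀) :=
    ⟨_, rfl⟩
  have hπN : ∀ v, π v ∈ N := by
    intro v
    rw [hπ]
    exact (Submodule.linearProjOfIsCompl N N₀ hN₀ v).2
  have hπfix : ∀ u ∈ N, π u = u := by
    intro u hu
    rw [hπ, LinearMap.comp_apply, Submodule.subtype_apply]
    have := Submodule.linearProjOfIsCompl_apply_left hN₀ ⟨u, hu⟩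
    exact congrArg Subtype.val this
  obtain ⟨ti, hti⟩ : ∃ ti : End F W, ti = y ^ (s - 1) := ⟨_, rfl⟩
  have h1 : y * ti = 1 := by
    rw [hti, ← pow_succ', ← hys]
    congr 1
    omega
  have h1' : ti * y = 1 := by
    rw [hti, ← pow_succ, ← hys]
    congr 1
    omega
  have htiN : ∀ v ∈ N, ti v ∈ N := by
    intro v hv
    rw [hti]
    exact pow_apply_mem y N hN _ v hv
  have hcomm : Commute y ti := by
    rw [hti]
    exact (Commute.refl y).pow_right _
  have hpow1 : ∀ i : ℕ, y ^ i * ti ^ i = 1 := by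
    intro i
    rw [← hcomm.mul_pow, h1, one_pow]
  have htis : ti ^ s = 1 := by
    rw [hti, ← pow_mul, mul_comm, pow_mul, hys, one_pow]
  obtain ⟨P₀, hP₀⟩ : ∃ P₀ : End F W, P₀ = ∑ i ∈ Finset.range s, y ^ i * π * ti ^ i := ⟨_, rfl⟩
  have hP₀N : ∀ v, P₀ v ∈ N := by
    intro v
    rw [hP₀, LinearMap.sum_apply]
    apply Submodule.sum_mem
    intro i _
    rw [Module.End.mul_apply, Module.End.mul_apply]
    exact pow_apply_mem y N hN i _ (hπN _)
  have hP₀fix : ∀ u ∈ N, P₀ u = (s : F) • u := by
    intro u hu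
    rw [hP₀, LinearMap.sum_apply]
    have : ∀ i ∈ Finset.range s, (y ^ i * π * ti ^ i) u = u := by
      intro i _
      rw [Module.End.mul_apply, Module.End.mul_apply, hπfix _ (pow_apply_mem ti N htiN i u hu),
        ← Module.End.mul_apply, hpow1, Module.End.one_apply]
    rw [Finset.sum_congr rfl this, Finset.sum_const, Finset.card_range, Nat.cast_smul_eq_nsmul]
  have hshift : y * P₀ * ti = P₀ := by
    rw [hP₀, Finset.mul_sum, Finset.sum_mul]
    have e : ∀ i ∈ Finset.range s, y * (y ^ i * π * ti ^ i) * ti = y ^ (i + 1) * π * ti ^ (i + 1) := by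
      intro i _
      rw [pow_succ' y, pow_succ ti]
      simp only [mul_assoc]
    rw [Finset.sum_congr rfl e]
    have e1 := Finset.sum_range_succ' (fun j => y ^ j * π * ti ^ j) s
    have e2 := Finset.sum_range_succ (fun j => y ^ j * π * ti ^ j) s
    rw [e2] at e1
    simp only [pow_zero, one_mul, mul_one, hys, htis] at e1
    exact (add_right_cancel e1).symm
  have hPcomm : y * P₀ = P₀ * y := by
    calc y * P₀ = y * P₀ * (ti * y) := by rw [h1', mul_one]
      _ = (y * P₀ * ti) * y := by simp only [mul_assoc]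
      _ = P₀ * y := by rw [hshift]
  obtain ⟨P, hP⟩ : ∃ P : End F W, P = (s : F)⁻¹ • P₀ := ⟨_, rfl⟩
  have hPN : ∀ v, P v ∈ N := by
    intro v
    rw [hP, LinearMap.smul_apply]
    exact N.smul_mem _ (hP₀N v)
  have hPfix : ∀ u ∈ N, P u = u := by
    intro u hu
    rw [hP, LinearMap.smul_apply, hP₀fix u hu, smul_smul, inv_mul_cancel₀ hsF, one_smul]
  refine ⟨LinearMap.ker P, ⟨?_, ?_⟩, ?_⟩
  · rw [Submodule.disjoint_def]
    intro u hu hu'
    rw [LinearMap.mem_ker, hPfix u hu] at hu'
    exact hu'
  · rw [codisjoint_iff, eq_top_iff]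
    intro v _
    rw [Submodule.mem_sup]
    refine ⟨P v, hPN v, v - P v, ?_, by abel⟩
    rw [LinearMap.mem_ker, map_sub, hPfix _ (hPN v), sub_self]
  · intro v hv
    rw [LinearMap.mem_ker] at hv ⊢
    have : P (y v) = y (P v) := by
      rw [hP, LinearMap.smul_apply, LinearMap.smul_apply, ← Module.End.mul_apply,
        ← hPcomm, Module.End.mul_apply, map_smul]
    rw [this, hv, map_zero]

end maschke

section hyp

variable {F : Type*} [Field F] [Fintype F] {W : Type*} [AddCommGroup W] [Module F W] [Finite W]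

/-- the hyperbolic decomposition -/
theorem exists_hyp_decomp (B : LinearMap.BilinForm F W)
    (hsym : ∀ x y, B x y = B y x) (hnd : ∀ x, (∀ y, B x y = 0) → x = 0) (h2 : (2 : F) ≠ 0)
    (y : End F W) (hiso : ∀ x x', B (y x) (y x') = B x x') (s : ℕ) (hs : s.Prime)
    (hs2 : s ≠ 2) (hsq : ¬ s ∣ Fintype.card F) (hsF : (s : F) ≠ 0) (hys : y ^ s = 1)
    (hfix : ∀ x, y x = x → x = 0) (n : ℕ) (hn : 1 ≤ n) (hnodd : Odd n)
    (hk : orderOf ((Fintype.card F : ℕ) : ZMod s) = n) (hfr : finrank F W = 2 * n) :
    ∃ U U' : Submodule F W, IsCompl U U' ∧ (∀ u ∈ U, y u ∈ U) ∧ (∀ u ∈ U', y u ∈ U') ∧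
      (∀ u ∈ U, ∀ v ∈ U, B u v = 0) ∧ (∀ u ∈ U', ∀ v ∈ U', B u v = 0) ∧
      finrank F U = n ∧ finrank F U' = n := by
  haveI := Fact.mk hs
  have hq1 : 1 ≤ Fintype.card F := Fintype.card_pos
  haveI hnt : Nontrivial W := by
    apply Module.nontrivial_of_finrank_pos (R := F)
    omega
  -- dimensions of invariant subspaces
  have hdims : ∀ N : Submodule F W, (∀ v ∈ N, y v ∈ N) → n ∣ finrank F N := by
    intro N hN
    have hdvd := orderOf_dvd_finrank_sub y N hN s hys hsq
    have hinf : (N ⊓ fixSp y : Submodule F W) = ⊥ := by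
      rw [eq_bot_iff]
      intro v hv
      rw [Submodule.mem_inf, mem_fixSp] at hv
      rw [Submodule.mem_bot]
      exact hfix v hv.2
    rw [hinf, finrank_bot, Nat.sub_zero, hk] at hdvd
    exact hdvd
  have hy1 : y ≠ 1 := by
    intro h
    obtain ⟨x, hx⟩ := exists_ne (0 : W)
    exact hx (hfix x (by rw [h, Module.End.one_apply]))
  have hord : orderOf y = s := orderOf_eq_prime hys hy1
  -- `W` is not irreducible
  have hnirr : ¬ ∀ U : Submodule F W, (∀ w ∈ U, y w ∈ U) → U = ⊥ ∨ U = ⊤ := by
    intro hirr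
    haveI hfact : Fact (Irreducible (minpoly F y)) := ⟨irreducible_minpoly y hirr⟩
    have hs2' : y * y ≠ 1 := by
      intro h
      have h3 : orderOf y ∣ 2 := orderOf_dvd_of_pow_eq_one (by rw [pow_two, h])
      rw [hord] at h3
      have := Nat.le_of_dvd (by norm_num) h3
      have := hs.two_le
      omega
    have h3 := tauK_eq_pow B y hsym hnd hiso hirr h2 hs2' n hfr (AdjoinRoot.root (minpoly F y))
    have h4 := root_mul_tau B y hsym hnd hiso
    rw [h3, ← pow_succ'] at h4
    have h5 := (root_pow_eq_one_iff y _).mp h4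
    have h6 : s ∣ Fintype.card F ^ n + 1 := by
      rw [← hord]
      exact orderOf_dvd_of_pow_eq_one h5
    have h7 : s ∣ Fintype.card F ^ n - 1 := by
      rw [dvd_pow_sub_one_iff _ _ _ hq1, hk]
    have h8 : 1 ≤ Fintype.card F ^ n := Nat.one_le_pow _ _ hq1
    have h9 : s ∣ 2 := by
      have : Fintype.card F ^ n + 1 = (Fintype.card F ^ n - 1) + 2 := by omega
      rw [this] at h6
      exact (Nat.dvd_add_right h7).mp h6
    have := Nat.le_of_dvd (by norm_num) h9
    have := hs.two_le
    omega
  push Not at hnirr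
  obtain ⟨U, hU, hU0, hU1⟩ := hnirr
  have hUn : finrank F U = n := by
    obtain ⟨c, hc⟩ := hdims U hU
    have hlt : finrank F U < finrank F W := Submodule.finrank_lt hU1
    have hpos : 0 < finrank F U := by
      rw [Nat.pos_iff_ne_zero]
      intro h
      rw [Submodule.finrank_eq_zero] at h
      exact hU0 h
    rcases c with _ | _ | c
    · rw [mul_zero] at hc
      omega
    · rw [hc]
      ring
    · exfalso
      have : n * (c + 1 + 1) = n * c + 2 * n := by ring
      rw [this] at hc
      omega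
  -- invariant subspaces of dimension `n` are totally isotropic
  have hti : ∀ N : Submodule F W, (∀ v ∈ N, y v ∈ N) → finrank F N = n →
      ∀ u ∈ N, ∀ v ∈ N, B u v = 0 := by
    intro N hN hNn
    obtain ⟨R, hR⟩ : ∃ R : Submodule F W, R = N ⊓ LinearMap.BilinForm.orthogonal B N := ⟨_, rfl⟩
    have hRmem : ∀ v, v ∈ R ↔ v ∈ N ∧ ∀ u ∈ N, B u v = 0 := by
      intro v
      rw [hR, Submodule.mem_inf, LinearMap.BilinForm.mem_orthogonal_iff]
    have hRinv : ∀ v ∈ R, y v ∈ R := by
      intro v hv
      rw [hRmem] at hv ⊢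
      refine ⟨hN v hv.1, ?_⟩
      intro u hu
      have h3 : y ((y ^ (s - 1)) u) = u := by
        rw [← Module.End.mul_apply, ← pow_succ']
        have : s - 1 + 1 = s := by have := hs.two_le; omega
        rw [this, hys, Module.End.one_apply]
      rw [← h3, hiso]
      exact hv.2 _ (pow_apply_mem y N hN _ u hu)
    obtain ⟨c, hc⟩ := hdims R hRinv
    have hRle : R ≤ N := by rw [hR]; exact inf_le_left
    have hle := Submodule.finrank_mono hRle
    rw [hNn] at hle
    rcases c with _ | c
    · -- `R = ⊥`: the form is non-degenerate on `N`, impossible as `n` is odd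
      exfalso
      rw [mul_zero, Submodule.finrank_eq_zero] at hc
      obtain ⟨b, Φ, hfrN, -⟩ := exists_sp_model_abs (LinearMap.BilinForm.restrict B N)
        (fun x x' => hsym _ _)
        (fun x hx => by
          apply Subtype.ext
          have : (x : W) ∈ R := by
            rw [hRmem]
            refine ⟨x.2, ?_⟩
            intro u hu
            rw [hsym]
            exact hx ⟨u, hu⟩
          rw [hc] at this
          exact (Submodule.mem_bot F).mp this) h2 (y.restrict hN)
        (fun x x' => hiso _ _) s (hs.odd_of_ne_two hs2)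
        (restrict_pow_eq_one y N hN s (fun v _ => by rw [hys, Module.End.one_apply]))
        (fun x hx => by
          apply Subtype.ext
          exact hfix x (congrArg Subtype.val hx))
      rw [hNn] at hfrN
      obtain ⟨d, hd⟩ := hnodd
      omega
    · have hRn : finrank F R = n := by
        have : n * (c + 1) = n * c + n := by ring
        rw [this] at hc
        rcases c with _ | c
        · omega
        · exfalso
          have h3 : n * (c + 1) = n * c + n := by ring
          rw [h3] at hc
          omega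
      have hRN : R = N := Submodule.eq_of_le_of_finrank_eq hRle (by rw [hRn, hNn])
      intro u hu v hv
      rw [← hRN] at hv
      exact ((hRmem v).mp hv).2 u hu
  obtain ⟨U', hcompl, hU'⟩ := exists_invariant_compl y s hsF hys U hU
  have hsum := Submodule.finrank_add_eq_of_isCompl hcompl
  have hU'n : finrank F U' = n := by omega
  exact ⟨U, U', hcompl, hU, hU', hti U hU hUn, hti U' hU' hU'n, hUn, hU'n⟩

end hyp

end Cfsg.Agent.Lib.Helper1.Pg
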