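import Mathlib
import Cfsg.Prelude
import Cfsg.Agent.Lib.Helper1.PgH
import Cfsg.Agent.Lib.Helper1.BcI

/-!
# Case B, concrete part: the involution `-1_W ⊕ ±1_C` and the irreducible case
-/

set_option autoImplicit false
set_option maxHeartbeats 4000000
set_option linter.unusedSimpArgs false
set_option linter.unusedVariables false
set_option linter.unusedSectionVars false
set_option linter.style.haveILetI false

namespace Cfsg.Agent.Lib.Helper1.Pg

open Module Matrix QuadraticMap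
open Cfsg
open Cfsg.Agent.Lib.Helper1.Bc Cfsg.Agent.Lib.Helper5.SpinorNorm
  Cfsg.Agent.Lib.Helper5.CartanDieudonne Cfsg.Agent.Lib.Helper5.OmegaCenter
  Cfsg.Agent.Lib.Helper5.HalfTorus

variable {ι : Type} [Fintype ι] [DecidableEq ι] {F : Type*} [Field F]

section basic

variable (Q : QuadraticForm F (ι → F)) (V₁ V₂ : Submodule F (ι → F)) (hcompl : IsCompl V₁ V₂)

include hcompl in
theorem exists_decomp_compl (v : ι → F) : ∃ v₁ ∈ V₁, ∃ w ∈ V₂, v = v₁ + w := by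
  have hv : v ∈ V₁ ⊔ V₂ := by rw [hcompl.sup_eq_top]; trivial
  obtain ⟨y₁, hy₁, y₂, hy₂, rfl⟩ := Submodule.mem_sup.mp hv
  exact ⟨y₁, hy₁, y₂, hy₂, rfl⟩

include hcompl in
/-- two matrices agreeing on both summands are equal -/
theorem matrix_eq_of_isCompl (M M' : Matrix ι ι F)
    (h : ∀ v₁ ∈ V₁, ∀ w ∈ V₂, M *ᵥ (v₁ + w) = M' *ᵥ (v₁ + w)) : M = M' := by
  apply Matrix.toLin'.injective
  apply LinearMap.ext
  intro v
  obtain ⟨v₁, hv₁, w, hw, rfl⟩ := exists_decomp_compl V₁ V₂ hcompl v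
  rw [Matrix.toLin'_apply, Matrix.toLin'_apply]
  exact h v₁ hv₁ w hw

end basic

section sign

variable [Fintype F] (Q : QuadraticForm F (ι → F)) (h2 : (2 : F) ≠ 0)
  (hQ : (polarBilin Q).Nondegenerate) (hι : 2 ≤ Fintype.card ι) (hodd : Odd (Fintype.card ι))
  (V₁ V₂ : Submodule F (ι → F)) (hcompl : IsCompl V₁ V₂)
  (horth : ∀ v ∈ V₁, ∀ w ∈ V₂, polar ⇑Q v w = 0)
  (gz : ↥(isometryGroup F ⇑Q)) (hgz : gz ∈ commutator ↥(isometryGroup F ⇑Q))

include h2 hQ hι hodd hcompl horth hgz in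
/-- an element of `Ω` cannot act as `-1` on a non-degenerate line and as `±1` on its complement -/
theorem sign_lemma (hV₂ : finrank F V₂ = 1) (ε : F) (hε : ε = 1 ∨ ε = -1)
    (hz1 : ∀ v ∈ V₁, ((gz : Matrix.GeneralLinearGroup ι F) : Matrix ι ι F) *ᵥ v = ε • v)
    (hz2 : ∀ w ∈ V₂, ((gz : Matrix.GeneralLinearGroup ι F) : Matrix ι ι F) *ᵥ w = -w) : False := by
  classical
  have hdet := det_eq_one_of_mem_commutator gz hgz
  rcases hε with rfl | rfl
  · -- a reflection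
    obtain ⟨⟨e, heV⟩, he0, he⟩ := finrank_eq_one_iff'.mp hV₂
    have he0' : e ≠ 0 := fun h => he0 (Subtype.ext h)
    have hV₂e : ∀ w ∈ V₂, ∃ c : F, w = c • e := by
      intro w hw
      obtain ⟨c, hc⟩ := he ⟨w, hw⟩
      exact ⟨c, (congrArg Subtype.val hc).symm⟩
    have hpe : polar ⇑Q e e ≠ 0 := by
      intro h
      apply he0'
      apply hQ.1
      intro y
      obtain ⟨v₁, hv₁, w, hw, rfl⟩ := exists_decomp_compl V₁ V₂ hcompl y
      obtain ⟨c, rfl⟩ := hV₂e w hw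
      show polar ⇑Q e (v₁ + c • e) = 0
      rw [polar_add_right, polar_smul_right, h, polar_comm, horth v₁ hv₁ e heV, smul_zero,
        add_zero]
    have hQe : Q e ≠ 0 := by
      intro h
      apply hpe
      rw [QuadraticMap.polar_self, h, smul_zero]
    have hrep : IsRep Q gz (Cfsg.Agent.Lib.Helper7.PsB.famList (fun _ : Fin 1 => e)) := by
      refine ⟨?_, ?_⟩
      · intro v hv
        obtain ⟨_, rfl⟩ := (Cfsg.Agent.Lib.Helper7.PsB.mem_famList _ v).mp hv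
        exact hQe
      · apply matrix_eq_of_isCompl V₁ V₂ hcompl
        intro v₁ hv₁ w hw
        rw [Matrix.mulVec_add, Matrix.mulVec_add, hz1 v₁ hv₁, hz2 w hw, one_smul,
          Cfsg.Agent.Lib.Helper7.PsB.rprod_fix' Q (fun _ : Fin 1 => e) v₁
            (fun _ => by rw [polar_comm]; exact horth v₁ hv₁ e heV),
          Cfsg.Agent.Lib.Helper7.PsB.rprod_neg Q (fun _ : Fin 1 => e) (fun _ => hQe)
            (fun a a' h => absurd (Subsingleton.elim a a') h) w (by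
              obtain ⟨c, rfl⟩ := hV₂e w hw
              exact Submodule.smul_mem _ _ (Submodule.subset_span ⟨0, rfl⟩))]
    have := (mem_commutator_iff Q h2 hQ hι gz _ hrep).mp hgz
    rw [Cfsg.Agent.Lib.Helper7.PsB.famList_length, Fintype.card_fin] at this
    exact (by decide : ¬ Even 1) this.1
  · -- the scalar `-1`
    have hM : ((gz : Matrix.GeneralLinearGroup ι F) : Matrix ι ι F) = -1 := by
      apply matrix_eq_of_isCompl V₁ V₂ hcompl
      intro v₁ hv₁ w hw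
      rw [Matrix.mulVec_add, hz1 v₁ hv₁, hz2 w hw, Matrix.neg_mulVec, Matrix.one_mulVec, neg_smul,
        one_smul, neg_add]
    rw [hM, Matrix.det_neg, Matrix.det_one, mul_one, hodd.neg_one_pow] at hdet
    apply h2
    linear_combination -hdet

end sign

section irr

variable [Fintype F] (Q : QuadraticForm F (ι → F)) (h2 : (2 : F) ≠ 0)
  (hQ : (polarBilin Q).Nondegenerate) (hι : 2 ≤ Fintype.card ι)
  (V₁ V₂ : Submodule F (ι → F)) (hcompl : IsCompl V₁ V₂)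
  (horth : ∀ v ∈ V₁, ∀ w ∈ V₂, polar ⇑Q v w = 0)
  (gz : ↥(isometryGroup F ⇑Q)) (hgz : gz ∈ commutator ↥(isometryGroup F ⇑Q))

include h2 hQ hι hcompl horth hgz in
/-- KEY(α): if `-1_{V₁} ⊕ 1_{V₂}` lies in `Ω` and `V₁` is irreducible under the isometry `y`, there
is an isometry `z` of `V₁` commuting with `y` with `z² = -1` -/
theorem exists_sqrt_neg_one_irr [Nontrivial V₁]
    (hz1 : ∀ v ∈ V₁, ((gz : Matrix.GeneralLinearGroup ι F) : Matrix ι ι F) *ᵥ v = -v)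
    (hz2 : ∀ w ∈ V₂, ((gz : Matrix.GeneralLinearGroup ι F) : Matrix ι ι F) *ᵥ w = w)
    (y : End F V₁)
    (hiso : ∀ x x' : V₁, polar ⇑Q ((y x : V₁) : ι → F) ((y x' : V₁) : ι → F) =
      polar ⇑Q (x : ι → F) (x' : ι → F))
    (hirr : ∀ U : Submodule F V₁, (∀ w ∈ U, y w ∈ U) → U = ⊥ ∨ U = ⊤) (hy2 : y * y ≠ 1) :
    ∃ z : End F V₁, z * y = y * z ∧
      (∀ x x' : V₁, polar ⇑Q ((z x : V₁) : ι → F) ((z x' : V₁) : ι → F) =
        polar ⇑Q (x : ι → F) (x' : ι → F)) ∧ z * z = -1 := by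
  classical
  obtain ⟨B₁, hB₁⟩ : ∃ B₁ : LinearMap.BilinForm F V₁,
      ∀ x x' : V₁, B₁ x x' = polar ⇑Q (x : ι → F) (x' : ι → F) :=
    ⟨LinearMap.BilinForm.restrict (polarBilin Q) V₁, fun x x' => rfl⟩
  have hsym₁ : ∀ x x', B₁ x x' = B₁ x' x := by
    intro x x'
    rw [hB₁, hB₁, polar_comm]
  have hnd₁ : ∀ x, (∀ x', B₁ x x' = 0) → x = 0 := by
    intro x hx
    apply Subtype.ext
    apply nd_left (polarBilin Q) hQ.1 V₁ V₂ hcompl horth x x.2
    intro x' hx'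
    have := hx ⟨x', hx'⟩
    rw [hB₁] at this
    exact this
  have hiso₁ : ∀ x x', B₁ (y x) (y x') = B₁ x x' := by
    intro x x'
    rw [hB₁, hB₁, hiso]
  haveI hfact : Fact (Irreducible (minpoly F y)) := ⟨irreducible_minpoly y hirr⟩
  haveI : Finite (KK y) := finite_KK y
  haveI : Fintype (KK y) := Fintype.ofFinite _
  have hτ := tauK_tauK B₁ y hsym₁ hnd₁ hiso₁
  have hτ1 := tauK_ne_id B₁ y hsym₁ hnd₁ hiso₁ hy2
  obtain ⟨ν₀, hν₀, hν₀τ⟩ := exists_anti (tauK B₁ y hsym₁ hnd₁ hiso₁) hτ hτ1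
  obtain ⟨vs, hvs, heven, hact, hsq⟩ :=
    line_rep Q h2 V₁ V₂ horth B₁ hB₁ y hsym₁ hnd₁ hiso₁ hirr hy2 ν₀ hν₀
  have hdiv : ν₀ / tauK B₁ y hsym₁ hnd₁ hiso₁ ν₀ = -1 := by
    rw [hν₀τ, div_neg, div_self hν₀]
  have hrep : IsRep Q gz vs := by
    refine ⟨hvs, ?_⟩
    apply matrix_eq_of_isCompl V₁ V₂ hcompl
    intro v₁ hv₁ w hw
    have := hact ⟨v₁, hv₁⟩ w hw
    rw [hdiv, map_neg, map_one] at this
    rw [this, Matrix.mulVec_add, hz1 v₁ hv₁, hz2 w hw]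
    rfl
  have hsqν := hsq ((mem_commutator_iff Q h2 hQ hι gz vs hrep).mp hgz).2
  obtain ⟨ν, hν⟩ := hsqν
  have hν0 : ν ≠ 0 := by
    rintro rfl
    rw [mul_zero] at hν
    exact hν₀ hν
  have hτν0 : tauK B₁ y hsym₁ hnd₁ hiso₁ ν ≠ 0 := by
    intro h
    apply hν0
    have := congrArg (tauK B₁ y hsym₁ hnd₁ hiso₁) h
    rwa [hτ, map_zero] at this
  obtain ⟨ω, hω⟩ : ∃ ω : KK y, ω = ν / tauK B₁ y hsym₁ hnd₁ hiso₁ ν := ⟨_, rfl⟩
  have e1 : ω * tauK B₁ y hsym₁ hnd₁ hiso₁ ω = 1 := by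
    rw [hω, map_div₀, hτ]
    field_simp
  have e2 : ω * ω = -1 := by
    have h3 : tauK B₁ y hsym₁ hnd₁ hiso₁ ν * tauK B₁ y hsym₁ hnd₁ hiso₁ ν = -(ν * ν) := by
      rw [← map_mul, ← hν, hν₀τ, hν]
    rw [hω, div_mul_div_comm, h3, div_neg, div_self (mul_ne_zero hν0 hν0)]
  refine ⟨ev y ω, ?_, ?_, ?_⟩
  · have hc : ev y ω * ev y (AdjoinRoot.root (minpoly F y)) =
        ev y (AdjoinRoot.root (minpoly F y)) * ev y ω := by
      rw [← map_mul, ← map_mul, mul_comm]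
    rwa [ev_root] at hc
  · intro x x'
    rw [← hB₁, ← hB₁, adj_ev B₁ y hsym₁ hnd₁ hiso₁, ← Module.End.mul_apply, ← map_mul,
      mul_comm, e1, map_one, Module.End.one_apply]
  · rw [← map_mul, e2, map_neg, map_one]

end irr

end Cfsg.Agent.Lib.Helper1.Pg
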