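import Mathlib
import Cfsg.Prelude
import Cfsg.Agent.Lib.Helper1.PgI

/-!
# Case B, hyperbolic situation: dual families, the spinor norm of `-1`, the square root of `-1`
-/

set_option autoImplicit false
set_option maxHeartbeats 4000000
set_option linter.unusedSimpArgs false
set_option linter.unusedVariables false
set_option linter.unusedSectionVars false
set_option linter.style.haveILetI false

namespace Cfsg.Agent.Lib.Helper1.Pg

open Module Matrix QuadraticMap
open Cfsg
open Cfsg.Agent.Lib.Helper1.Bc Cfsg.Agent.Lib.Helper5.SpinorNorm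
  Cfsg.Agent.Lib.Helper5.CartanDieudonne

section dual

variable {F : Type*} [Field F] {W : Type*} [AddCommGroup W] [Module F W] [FiniteDimensional F W]

/-- dual families in a hyperbolic decomposition -/
theorem exists_dual_family (B : LinearMap.BilinForm F W) (hsym : ∀ x y, B x y = B y x)
    (hnd : ∀ x, (∀ y, B x y = 0) → x = 0) (U U' : Submodule F W) (hc : IsCompl U U')
    (hUti : ∀ u ∈ U, ∀ v ∈ U, B u v = 0) (hU'ti : ∀ u ∈ U', ∀ v ∈ U', B u v = 0) (n : ℕ)
    (hUn : finrank F U = n) (hU'n : finrank F U' = n) :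
    ∃ E Fv : Fin n → W, (∀ i j, B (E i) (E j) = 0) ∧ (∀ i j, B (Fv i) (Fv j) = 0) ∧
      (∀ i j, B (E i) (Fv j) = if i = j then 1 else 0) ∧
      ∀ v : W, v ∈ Submodule.span F (Set.range E) ⊔ Submodule.span F (Set.range Fv) := by
  classical
  obtain ⟨e, he⟩ : ∃ e : Basis (Fin n) F U, True := ⟨Module.finBasisOfFinrankEq F U hUn, trivial⟩
  obtain ⟨Ψ, hΨ⟩ : ∃ Ψ : U' →ₗ[F] (Fin n → F), ∀ (u' : U') (i : Fin n),
      Ψ u' i = B ((e i : U) : W) (u' : W) :=
    ⟨LinearMap.pi (fun i => (B ((e i : U) : W)) ∘ₗ U'.subtype), fun u' i => rfl⟩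
  have hdecomp : ∀ v : W, ∃ u ∈ U, ∃ u' ∈ U', v = u + u' := by
    intro v
    have hv : v ∈ U ⊔ U' := by rw [hc.sup_eq_top]; trivial
    obtain ⟨y₁, hy₁, y₂, hy₂, rfl⟩ := Submodule.mem_sup.mp hv
    exact ⟨y₁, hy₁, y₂, hy₂, rfl⟩
  have hUspan : ∀ (u' : W), (∀ i, B ((e i : U) : W) u' = 0) → ∀ u ∈ U, B u u' = 0 := by
    intro u' h u hu
    have h3 : ((B u') ∘ₗ U.subtype : U →ₗ[F] F) = 0 := by
      apply e.ext
      intro i
      rw [LinearMap.comp_apply, Submodule.subtype_apply, hsym, h, LinearMap.zero_apply]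
    have := LinearMap.congr_fun h3 ⟨u, hu⟩
    rw [LinearMap.comp_apply, Submodule.subtype_apply, LinearMap.zero_apply] at this
    rw [hsym]
    exact this
  have hΨinj : Function.Injective Ψ := by
    rw [injective_iff_map_eq_zero]
    intro u' hu'
    apply Subtype.ext
    apply hnd
    intro v
    obtain ⟨u, hu, u₂, hu₂, rfl⟩ := hdecomp v
    have h4 : ∀ i, B ((e i : U) : W) (u' : W) = 0 := by
      intro i
      rw [← hΨ, hu']
      rfl
    rw [map_add, hsym, hUspan _ h4 u hu, hU'ti _ u'.2 u₂ hu₂, add_zero]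
  have hfr : finrank F U' = finrank F (Fin n → F) := by
    rw [hU'n, Module.finrank_fin_fun]
  have hΨsurj : Function.Surjective Ψ :=
    (LinearMap.injective_iff_surjective_of_finrank_eq_finrank hfr).mp hΨinj
  choose f hf using fun j : Fin n => hΨsurj (Pi.single j 1)
  have hEF : ∀ i j, B ((e i : U) : W) ((f j : U') : W) = if i = j then 1 else 0 := by
    intro i j
    rw [← hΨ, hf, Pi.single_apply]
  refine ⟨fun i => ((e i : U) : W), fun j => ((f j : U') : W), ?_, ?_, hEF, ?_⟩
  · intro i j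
    exact hUti _ (e i).2 _ (e j).2
  · intro i j
    exact hU'ti _ (f i).2 _ (f j).2
  · intro v
    obtain ⟨u, hu, u', hu', rfl⟩ := hdecomp v
    apply Submodule.add_mem_sup
    · -- `u` in the span of `e`
      have h5 : (⟨u, hu⟩ : U) ∈ Submodule.span F (Set.range e) := by
        rw [e.span_eq]
        trivial
      have h6 := Submodule.mem_map_of_mem (f := U.subtype) h5
      rw [Submodule.map_span, ← Set.range_comp] at h6
      exact h6
    · -- `u'` in the span of `f`
      have h7 : (⟨u', hu'⟩ : U') = ∑ j, (Ψ ⟨u', hu'⟩ j) • f j := by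
        apply hΨinj
        rw [map_sum]
        have : ∀ j ∈ Finset.univ, Ψ ((Ψ ⟨u', hu'⟩ j) • f j) = Pi.single j (Ψ ⟨u', hu'⟩ j) := by
          intro j _
          rw [map_smul, hf]
          ext i
          rw [Pi.smul_apply, Pi.single_apply, Pi.single_apply, smul_eq_mul]
          split_ifs <;> simp
        rw [Finset.sum_congr rfl this, Finset.univ_sum_single]
      have h8 : u' = ∑ j, (Ψ ⟨u', hu'⟩ j) • ((f j : U') : W) := by
        have := congrArg Subtype.val h7
        simpa using this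
      rw [h8]
      apply Submodule.sum_mem
      intro j _
      exact Submodule.smul_mem _ _ (Submodule.subset_span ⟨j, rfl⟩)

/-- the square root of `-1` acting on a hyperbolic decomposition -/
theorem exists_sqrt_neg_one_hyp (B : LinearMap.BilinForm F W) (U U' : Submodule F W)
    (hc : IsCompl U U') (hUti : ∀ u ∈ U, ∀ v ∈ U, B u v = 0)
    (hU'ti : ∀ u ∈ U', ∀ v ∈ U', B u v = 0) (y : End F W) (hyU : ∀ u ∈ U, y u ∈ U)
    (hyU' : ∀ u ∈ U', y u ∈ U') (μ₀ : F) (hμ₀ : μ₀ * μ₀ = -1) :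
    ∃ z : End F W, z * y = y * z ∧ (∀ x x', B (z x) (z x') = B x x') ∧ z * z = -1 := by
  obtain ⟨p, hp⟩ : ∃ p : End F W, p = U.subtype ∘ₗ Submodule.projectionOnto U U' hc := ⟨_, rfl⟩
  obtain ⟨p', hp'⟩ : ∃ p' : End F W, p' = U'.subtype ∘ₗ Submodule.projectionOnto U' U hc.symm :=
    ⟨_, rfl⟩
  have hpU : ∀ u ∈ U, p u = u := by
    intro u hu
    rw [hp, LinearMap.comp_apply, Submodule.subtype_apply]
    exact congrArg Subtype.val (Submodule.projectionOnto_apply_left hc ⟨u, hu⟩)
  have hpU' : ∀ u ∈ U', p u = 0 := by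
    intro u hu
    rw [hp, LinearMap.comp_apply, Submodule.subtype_apply]
    exact congrArg Subtype.val (Submodule.projectionOnto_apply_right hc ⟨u, hu⟩)
  have hp'U' : ∀ u ∈ U', p' u = u := by
    intro u hu
    rw [hp', LinearMap.comp_apply, Submodule.subtype_apply]
    exact congrArg Subtype.val (Submodule.projectionOnto_apply_left hc.symm ⟨u, hu⟩)
  have hp'U : ∀ u ∈ U, p' u = 0 := by
    intro u hu
    rw [hp', LinearMap.comp_apply, Submodule.subtype_apply]
    exact congrArg Subtype.val (Submodule.projectionOnto_apply_right hc.symm ⟨u, hu⟩)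
  obtain ⟨z, hz⟩ : ∃ z : End F W, z = μ₀ • (p - p') := ⟨_, rfl⟩
  have hzU : ∀ u ∈ U, z u = μ₀ • u := by
    intro u hu
    rw [hz, LinearMap.smul_apply, LinearMap.sub_apply, hpU u hu, hp'U u hu, sub_zero]
  have hzU' : ∀ u ∈ U', z u = -(μ₀ • u) := by
    intro u hu
    rw [hz, LinearMap.smul_apply, LinearMap.sub_apply, hpU' u hu, hp'U' u hu, zero_sub, smul_neg]
  have hdecomp : ∀ v : W, ∃ u ∈ U, ∃ u' ∈ U', v = u + u' := by
    intro v
    have hv : v ∈ U ⊔ U' := by rw [hc.sup_eq_top]; trivial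
    obtain ⟨y₁, hy₁, y₂, hy₂, rfl⟩ := Submodule.mem_sup.mp hv
    exact ⟨y₁, hy₁, y₂, hy₂, rfl⟩
  refine ⟨z, ?_, ?_, ?_⟩
  · apply LinearMap.ext
    intro v
    obtain ⟨u, hu, u', hu', rfl⟩ := hdecomp v
    rw [Module.End.mul_apply, Module.End.mul_apply, map_add, map_add, map_add, map_add,
      hzU u hu, hzU' u' hu', hzU _ (hyU u hu), hzU' _ (hyU' u' hu'), map_smul, map_neg, map_smul]
  · intro x x'
    obtain ⟨u, hu, u', hu', rfl⟩ := hdecomp x
    obtain ⟨v, hv, v', hv', rfl⟩ := hdecomp x'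
    have e1 : z (u + u') = μ₀ • u + -(μ₀ • u') := by rw [map_add, hzU u hu, hzU' u' hu']
    have e2 : z (v + v') = μ₀ • v + -(μ₀ • v') := by rw [map_add, hzU v hv, hzU' v' hv']
    rw [e1, e2]
    simp only [map_add, map_neg, map_smul, LinearMap.add_apply, LinearMap.neg_apply,
      LinearMap.smul_apply, smul_eq_mul, hUti u hu v hv, hU'ti u' hu' v' hv', mul_zero, neg_zero,
      add_zero, zero_add]
    linear_combination (-(B u v') - (B u' v)) * hμ₀
  · apply LinearMap.ext
    intro v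
    obtain ⟨u, hu, u', hu', rfl⟩ := hdecomp v
    rw [Module.End.mul_apply, map_add, hzU u hu, hzU' u' hu', map_add, map_smul, map_neg,
      map_smul, hzU u hu, hzU' u' hu', LinearMap.neg_apply, Module.End.one_apply, smul_neg,
      neg_neg, smul_smul, smul_smul, hμ₀]
    simp only [neg_smul, one_smul]
    abel

end dual

end Cfsg.Agent.Lib.Helper1.Pg
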