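import Mathlib
import Cfsg.Prelude
import Cfsg.Agent.Lib.Helper1.PgJ
import Cfsg.Agent.Lib.Helper5.ReflClass

/-!
# Class fusion of semisimple elements of odd prime order in `PΩ^±`: linear algebra generalities

Minimal invariant subspaces, gluing of endomorphisms along complementary subspaces, and
centralizing similarities (`HasSim`) on hyperbolic pieces and on planes.
-/

set_option autoImplicit false
set_option maxHeartbeats 4000000
set_option linter.unusedSimpArgs false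
set_option linter.unusedVariables false
set_option linter.unusedSectionVars false
set_option linter.style.haveILetI false

namespace Cfsg.Agent.Lib.Helper1.Cf

open Module
open Cfsg.Agent.Lib.Helper1.Bc

section gen

variable {F : Type*} [Field F] {V : Type*} [AddCommGroup V] [Module F V]

/-- minimal non-zero invariant subspaces exist inside any non-zero invariant subspace -/
theorem exists_min_invariant [FiniteDimensional F V] (X : End F V) :
    ∀ (n : ℕ) (N : Submodule F V), finrank F N = n → N ≠ ⊥ → (∀ v ∈ N, X v ∈ N) →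
      ∃ U : Submodule F V, U ≤ N ∧ U ≠ ⊥ ∧ (∀ v ∈ U, X v ∈ U) ∧
        ∀ U₀ : Submodule F V, U₀ ≤ U → (∀ v ∈ U₀, X v ∈ U₀) → U₀ = ⊥ ∨ U₀ = U := by
  intro n
  induction n using Nat.strong_induction_on with
  | _ n ih =>
    intro N hn hN hNX
    by_cases hirr : ∀ U₀ : Submodule F V, U₀ ≤ N → (∀ v ∈ U₀, X v ∈ U₀) → U₀ = ⊥ ∨ U₀ = N
    · exact ⟨N, le_refl N, hN, hNX, hirr⟩
    · push Not at hirr
      obtain ⟨U₀, hle, hinv, h0, h1⟩ := hirr
      have hlt : finrank F U₀ < n := by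
        rw [← hn]
        exact Submodule.finrank_lt_finrank_of_lt (lt_of_le_of_ne hle h1)
      obtain ⟨U, hU1, hU2, hU3, hU4⟩ := ih _ hlt U₀ rfl h0 hinv
      exact ⟨U, le_trans hU1 hle, hU2, hU3, hU4⟩

/-- irreducibility in the ambient space gives irreducibility of the restriction -/
theorem irr_subtype (X : End F V) (U : Submodule F V) (hU : ∀ v ∈ U, X v ∈ U)
    (hirr : ∀ U₀ : Submodule F V, U₀ ≤ U → (∀ v ∈ U₀, X v ∈ U₀) → U₀ = ⊥ ∨ U₀ = U) :
    ∀ U₀ : Submodule F U, (∀ w ∈ U₀, (X.restrict hU) w ∈ U₀) → U₀ = ⊥ ∨ U₀ = ⊤ := by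
  intro U₀ h0
  have hle : U₀.map U.subtype ≤ U := Submodule.map_subtype_le U U₀
  have hinv : ∀ v ∈ U₀.map U.subtype, X v ∈ U₀.map U.subtype := by
    rintro _ ⟨w, hw, rfl⟩
    exact ⟨(X.restrict hU) w, h0 w hw, rfl⟩
  rcases hirr _ hle hinv with h | h
  · left
    rw [eq_bot_iff]
    intro w hw
    have h3 : (w : V) ∈ U₀.map U.subtype := ⟨w, hw, rfl⟩
    rw [h, Submodule.mem_bot] at h3
    rw [Submodule.mem_bot]
    exact Subtype.ext h3
  · right
    rw [eq_top_iff]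
    intro w _
    have h3 : (w : V) ∈ U₀.map U.subtype := by rw [h]; exact w.2
    obtain ⟨w', hw', hww⟩ := h3
    have h4 : w' = w := Subtype.ext hww
    rw [← h4]
    exact hw'

theorem restrict_aeval_coe (X : End F V) (W : Submodule F V) (h : ∀ v ∈ W, X v ∈ W)
    (f : Polynomial F) (v : W) :
    ((Polynomial.aeval (X.restrict h) f) v : V) = (Polynomial.aeval X f) (v : V) := by
  induction f using Polynomial.induction_on' with
  | add p q hp hq =>
    rw [map_add, map_add, LinearMap.add_apply, LinearMap.add_apply, Submodule.coe_add, hp, hq]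
  | monomial n a =>
    rw [Polynomial.aeval_monomial, Polynomial.aeval_monomial, Module.End.mul_apply,
      Module.End.mul_apply, Module.algebraMap_end_apply, Module.algebraMap_end_apply,
      Submodule.coe_smul, restrict_pow_coe]

theorem ext_of_isCompl {V₂ : Type*} [AddCommGroup V₂] [Module F V₂] (U U' : Submodule F V)
    (hc : IsCompl U U') (f g : V →ₗ[F] V₂) (h1 : ∀ u ∈ U, f u = g u)
    (h2 : ∀ u ∈ U', f u = g u) : f = g := by
  apply LinearMap.ext
  intro v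
  have hv : v ∈ U ⊔ U' := by rw [hc.sup_eq_top]; trivial
  obtain ⟨y₁, hy₁, y₂, hy₂, rfl⟩ := Submodule.mem_sup.mp hv
  rw [map_add, map_add, h1 y₁ hy₁, h2 y₂ hy₂]

theorem exists_decomp (U U' : Submodule F V) (hc : IsCompl U U') (v : V) :
    ∃ u ∈ U, ∃ u' ∈ U', v = u + u' := by
  have hv : v ∈ U ⊔ U' := by rw [hc.sup_eq_top]; trivial
  obtain ⟨y₁, hy₁, y₂, hy₂, rfl⟩ := Submodule.mem_sup.mp hv
  exact ⟨y₁, hy₁, y₂, hy₂, rfl⟩

theorem det_of_isCompl [FiniteDimensional F V] (W W' : Submodule F V) (hc : IsCompl W W')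
    (c : End F V) (c₁ : End F W) (c₂ : End F W') (h1 : ∀ w : W, c (w : V) = (c₁ w : V))
    (h2 : ∀ w : W', c (w : V) = (c₂ w : V)) :
    LinearMap.det c = LinearMap.det c₁ * LinearMap.det c₂ := by
  obtain ⟨e, he⟩ : ∃ e : (W × W') ≃ₗ[F] V, ∀ p : W × W', e p = (p.1 : V) + (p.2 : V) :=
    ⟨Submodule.prodEquivOfIsCompl W W' hc, fun p => Submodule.coe_prodEquivOfIsCompl' W W' hc p⟩
  have hconj : c = (e : (W × W') →ₗ[F] V) ∘ₗ (c₁.prodMap c₂) ∘ₗ (e.symm : V →ₗ[F] (W × W')) := by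
    apply LinearMap.ext
    intro v
    obtain ⟨p, rfl⟩ := e.surjective v
    rw [LinearMap.comp_apply, LinearMap.comp_apply, LinearEquiv.coe_coe, LinearEquiv.coe_coe,
      e.symm_apply_apply, he, he, map_add, h1, h2]
    rfl
  rw [hconj, LinearMap.det_conj, LinearMap.det_prodMap]

theorem exists_glue (W W' : Submodule F V) (hc : IsCompl W W') (c₁ : End F W) (c₂ : End F W') :
    ∃ c : End F V, (∀ w : W, c (w : V) = (c₁ w : V)) ∧ (∀ w : W', c (w : V) = (c₂ w : V)) :=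
  ⟨LinearMap.ofIsCompl hc (W.subtype ∘ₗ c₁) (W'.subtype ∘ₗ c₂), fun w => by
    rw [LinearMap.ofIsCompl_apply_left]; rfl, fun w => by
    rw [LinearMap.ofIsCompl_apply_right]; rfl⟩

/-- a similarity of multiplier `a` and determinant `a ^ n` commuting with `t` -/
def HasSim (B : LinearMap.BilinForm F V) (t : End F V) (a : F) (n : ℕ) : Prop :=
  ∃ c : End F V, c * t = t * c ∧ (∀ x y, B (c x) (c y) = a * B x y) ∧ LinearMap.det c = a ^ n

theorem bilin_expand (B : LinearMap.BilinForm F V) (x₁ x₂ y₁ y₂ : V) :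
    B (x₁ + x₂) (y₁ + y₂) = B x₁ y₁ + B x₁ y₂ + B x₂ y₁ + B x₂ y₂ := by
  simp only [map_add, LinearMap.add_apply]
  ring

theorem hasSim_glue [FiniteDimensional F V] (B : LinearMap.BilinForm F V)
    (hsym : ∀ x y, B x y = B y x) (t : End F V) (a : F) (W W' : Submodule F V)
    (hc : IsCompl W W') (horth : ∀ v ∈ W, ∀ w ∈ W', B v w = 0)
    (hW : ∀ v ∈ W, t v ∈ W) (hW' : ∀ v ∈ W', t v ∈ W') (n₁ n₂ : ℕ)
    (h₁ : HasSim (LinearMap.BilinForm.restrict B W) (t.restrict hW) a n₁)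
    (h₂ : HasSim (LinearMap.BilinForm.restrict B W') (t.restrict hW') a n₂) :
    HasSim B t a (n₁ + n₂) := by
  obtain ⟨c₁, hc₁t, hc₁B, hc₁d⟩ := h₁
  obtain ⟨c₂, hc₂t, hc₂B, hc₂d⟩ := h₂
  obtain ⟨c, hcW, hcW'⟩ := exists_glue W W' hc c₁ c₂
  refine ⟨c, ?_, ?_, ?_⟩
  · apply ext_of_isCompl W W' hc
    · intro w hw
      rw [Module.End.mul_apply, Module.End.mul_apply]
      have e1 : c (t w) = ((c₁ * t.restrict hW) ⟨w, hw⟩ : V) := by
        rw [Module.End.mul_apply]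
        exact hcW ((t.restrict hW) ⟨w, hw⟩)
      have e2 : t (c w) = ((t.restrict hW * c₁) ⟨w, hw⟩ : V) := by
        rw [Module.End.mul_apply, LinearMap.coe_restrict_apply, ← hcW ⟨w, hw⟩]
      rw [e1, e2, hc₁t]
    · intro w hw
      rw [Module.End.mul_apply, Module.End.mul_apply]
      have e1 : c (t w) = ((c₂ * t.restrict hW') ⟨w, hw⟩ : V) := by
        rw [Module.End.mul_apply]
        exact hcW' ((t.restrict hW') ⟨w, hw⟩)
      have e2 : t (c w) = ((t.restrict hW' * c₂) ⟨w, hw⟩ : V) := by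
        rw [Module.End.mul_apply, LinearMap.coe_restrict_apply, ← hcW' ⟨w, hw⟩]
      rw [e1, e2, hc₂t]
  · intro x y
    obtain ⟨x₁, hx₁, x₂, hx₂, rfl⟩ := exists_decomp W W' hc x
    obtain ⟨y₁, hy₁, y₂, hy₂, rfl⟩ := exists_decomp W W' hc y
    have ex₁ := hcW ⟨x₁, hx₁⟩
    have ex₂ := hcW' ⟨x₂, hx₂⟩
    have ey₁ := hcW ⟨y₁, hy₁⟩
    have ey₂ := hcW' ⟨y₂, hy₂⟩
    simp only [] at ex₁ ex₂ ey₁ ey₂
    have t1 : B (c x₁) (c y₁) = a * B x₁ y₁ := by
      rw [ex₁, ey₁]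
      exact hc₁B ⟨x₁, hx₁⟩ ⟨y₁, hy₁⟩
    have t4 : B (c x₂) (c y₂) = a * B x₂ y₂ := by
      rw [ex₂, ey₂]
      exact hc₂B ⟨x₂, hx₂⟩ ⟨y₂, hy₂⟩
    have t2 : B (c x₁) (c y₂) = 0 := by
      rw [ex₁, ey₂]
      exact horth _ (c₁ ⟨x₁, hx₁⟩).2 _ (c₂ ⟨y₂, hy₂⟩).2
    have t3 : B (c x₂) (c y₁) = 0 := by
      rw [ex₂, ey₁, hsym]
      exact horth _ (c₁ ⟨y₁, hy₁⟩).2 _ (c₂ ⟨x₂, hx₂⟩).2
    have t5 : B x₁ y₂ = 0 := horth x₁ hx₁ y₂ hy₂
    have t6 : B x₂ y₁ = 0 := by
      rw [hsym]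
      exact horth y₁ hy₁ x₂ hx₂
    rw [map_add c, map_add c, bilin_expand, bilin_expand, t1, t2, t3, t4, t5, t6]
    ring
  · rw [det_of_isCompl W W' hc c c₁ c₂ hcW hcW', hc₁d, hc₂d, pow_add]

theorem hasSim_zero [FiniteDimensional F V] (B : LinearMap.BilinForm F V) (t : End F V) (a : F)
    (hfr : finrank F V = 0) : HasSim B t a 0 := by
  haveI : Subsingleton V := Module.finrank_zero_iff.mp hfr
  refine ⟨1, by rw [one_mul, mul_one], ?_, by rw [map_one, pow_zero]⟩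
  intro x y
  have hx : x = 0 := Subsingleton.elim _ _
  rw [hx]
  simp

/-- the similarity `a ⊕ 1` on a sum of two totally isotropic invariant subspaces -/
theorem hasSim_hyp [FiniteDimensional F V] (B : LinearMap.BilinForm F V)
    (hsym : ∀ x y, B x y = B y x) (t : End F V) (a : F) (U U' : Submodule F V)
    (hc : IsCompl U U') (hU : ∀ v ∈ U, t v ∈ U) (hU' : ∀ v ∈ U', t v ∈ U')
    (hUti : ∀ u ∈ U, ∀ v ∈ U, B u v = 0) (hU'ti : ∀ u ∈ U', ∀ v ∈ U', B u v = 0) (k : ℕ)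
    (hk : finrank F U = k) : HasSim B t a k := by
  obtain ⟨c, hcU, hcU'⟩ := exists_glue U U' hc (a • (1 : End F U)) 1
  have hcU2 : ∀ u ∈ U, c u = a • u := by
    intro u hu
    have := hcU ⟨u, hu⟩
    simpa using this
  have hcU'2 : ∀ u ∈ U', c u = u := by
    intro u hu
    have := hcU' ⟨u, hu⟩
    simpa using this
  refine ⟨c, ?_, ?_, ?_⟩
  · apply ext_of_isCompl U U' hc
    · intro u hu
      rw [Module.End.mul_apply, Module.End.mul_apply, hcU2 u hu, hcU2 _ (hU u hu), map_smul]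
    · intro u hu
      rw [Module.End.mul_apply, Module.End.mul_apply, hcU'2 u hu, hcU'2 _ (hU' u hu)]
  · intro x y
    obtain ⟨x₁, hx₁, x₂, hx₂, rfl⟩ := exists_decomp U U' hc x
    obtain ⟨y₁, hy₁, y₂, hy₂, rfl⟩ := exists_decomp U U' hc y
    rw [map_add c, map_add c, hcU2 x₁ hx₁, hcU2 y₁ hy₁, hcU'2 x₂ hx₂, hcU'2 y₂ hy₂, bilin_expand,
      bilin_expand, hUti x₁ hx₁ y₁ hy₁, hU'ti x₂ hx₂ y₂ hy₂]
    simp only [map_smul, LinearMap.smul_apply, smul_eq_mul, hUti x₁ hx₁ y₁ hy₁]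
    ring
  · rw [det_of_isCompl U U' hc c (a • (1 : End F U)) 1 hcU hcU', LinearMap.det_smul, map_one,
      map_one, hk, mul_one, mul_one]

end gen

section plane

variable {F : Type*} [Field F] [Fintype F] {V : Type*} [AddCommGroup V] [Module F V]

/-- on a non-degenerate plane there are similarities of every multiplier `a`, of determinant
`a` -/
theorem hasSim_plane [FiniteDimensional F V] (h2 : (2 : F) ≠ 0) (B : LinearMap.BilinForm F V)
    (hsym : ∀ x y, B x y = B y x) (hnd : ∀ x, (∀ y, B x y = 0) → x = 0) (t : End F V)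
    (ht : ∀ x, t x = x) (a : F) (ha : a ≠ 0) (hfr : finrank F V = 2) : HasSim B t a 1 := by
  haveI : Invertible (2 : F) := invertibleOfNonzero h2
  obtain ⟨v, hv⟩ := LinearMap.BilinForm.exists_orthogonal_basis (B := B) ⟨hsym⟩
  obtain ⟨b, hb⟩ : ∃ b : Basis (Fin 2) F V, ∀ i j, i ≠ j → B (b i) (b j) = 0 := by
    refine ⟨v.reindex (finCongr hfr), ?_⟩
    intro i j hij
    rw [Basis.reindex_apply, Basis.reindex_apply]
    exact hv (fun h => hij ((finCongr hfr).symm.injective h))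
  have hne : ∀ i, B (b i) (b i) ≠ 0 := by
    intro i h
    apply b.ne_zero i
    apply hnd
    intro y
    rw [← b.sum_repr y, map_sum]
    apply Finset.sum_eq_zero
    intro j _
    rw [map_smul, smul_eq_mul]
    by_cases hij : i = j
    · rw [← hij, h, mul_zero]
    · rw [hb i j hij, mul_zero]
  obtain ⟨α, hα⟩ : ∃ α, α = B (b 0) (b 0) := ⟨_, rfl⟩
  obtain ⟨β, hβ⟩ : ∃ β, β = B (b 1) (b 1) := ⟨_, rfl⟩
  have hα0 : α ≠ 0 := by rw [hα]; exact hne 0
  have hβ0 : β ≠ 0 := by rw [hβ]; exact hne 1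
  have h01 : B (b 0) (b 1) = 0 := hb 0 1 (by decide)
  have h10 : B (b 1) (b 0) = 0 := hb 1 0 (by decide)
  obtain ⟨x₀, y₀, hxy⟩ := Cfsg.Agent.Lib.Helper5.ReflClass.exists_diag_rep h2 1 (β / α) a
    one_ne_zero (div_ne_zero hβ0 hα0)
  obtain ⟨M, hM⟩ : ∃ M : Matrix (Fin 2) (Fin 2) F, M = !![x₀, -(β / α) * y₀; y₀, x₀] := ⟨_, rfl⟩
  obtain ⟨c, hcdef⟩ : ∃ c : End F V, c = Matrix.toLin b b M := ⟨_, rfl⟩
  have hc0 : c (b 0) = x₀ • b 0 + y₀ • b 1 := by
    rw [hcdef, Matrix.toLin_self, Fin.sum_univ_two, hM]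
    simp
  have hc1 : c (b 1) = (-(β / α) * y₀) • b 0 + x₀ • b 1 := by
    rw [hcdef, Matrix.toLin_self, Fin.sum_univ_two, hM]
    simp
  have hexp : ∀ p q r s : F, B (p • b 0 + q • b 1) (r • b 0 + s • b 1) = p * r * α + q * s * β := by
    intro p q r s
    rw [bilin_expand]
    simp only [map_smul, LinearMap.smul_apply, smul_eq_mul, h01, h10, ← hα, ← hβ]
    ring
  refine ⟨c, ?_, ?_, ?_⟩
  · apply LinearMap.ext
    intro x
    rw [Module.End.mul_apply, Module.End.mul_apply, ht, ht]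
  · have key : B.compl₁₂ c c = a • B := by
      apply LinearMap.BilinForm.ext_basis b
      intro i j
      rw [LinearMap.compl₁₂_apply, LinearMap.smul_apply, LinearMap.smul_apply, smul_eq_mul]
      fin_cases i <;> fin_cases j
      · show B (c (b 0)) (c (b 0)) = a * B (b 0) (b 0)
        rw [hc0, hexp, ← hα, ← hxy]
        field_simp
      · show B (c (b 0)) (c (b 1)) = a * B (b 0) (b 1)
        rw [hc0, hc1, hexp, h01]
        field_simp
        ring
      · show B (c (b 1)) (c (b 0)) = a * B (b 1) (b 0)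
        rw [hc0, hc1, hexp, h10]
        field_simp
        ring
      · show B (c (b 1)) (c (b 1)) = a * B (b 1) (b 1)
        rw [hc1, hexp, ← hβ, ← hxy]
        field_simp
        ring
    intro x y
    have h3 := LinearMap.congr_fun (LinearMap.congr_fun key x) y
    rw [LinearMap.compl₁₂_apply, LinearMap.smul_apply, LinearMap.smul_apply, smul_eq_mul] at h3
    exact h3
  · rw [hcdef, LinearMap.det_toLin, hM, Matrix.det_fin_two_of, pow_one, ← hxy]
    ring

end plane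

end Cfsg.Agent.Lib.Helper1.Cf
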