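import Mathlib
import Cfsg.Prelude
import Cfsg.Agent.Lib.Helper1.CfA

/-!
# An invariant totally isotropic partner of an invariant totally isotropic subspace
-/

set_option autoImplicit false
set_option maxHeartbeats 4000000
set_option linter.unusedSimpArgs false
set_option linter.unusedVariables false
set_option linter.unusedSectionVars false
set_option linter.style.haveILetI false

namespace Cfsg.Agent.Lib.Helper1.Cf

open Module
open Cfsg.Agent.Lib.Helper1.Bc Cfsg.Agent.Lib.Helper1.Pg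

section partner

variable {F : Type*} [Field F] {V : Type*} [AddCommGroup V] [Module F V] [FiniteDimensional F V]

theorem inv_apply_of_pow (t : End F V) (r : ℕ) (hr0 : r ≠ 0) (htr : t ^ r = 1) (v : V) :
    t ((t ^ (r - 1)) v) = v := by
  rw [← Module.End.mul_apply, ← pow_succ']
  have : r - 1 + 1 = r := by omega
  rw [this, htr, Module.End.one_apply]

theorem orthogonal_invariant (B : LinearMap.BilinForm F V) (t : End F V)
    (hiso : ∀ x y, B (t x) (t y) = B x y) (r : ℕ) (hr0 : r ≠ 0) (htr : t ^ r = 1)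
    (U : Submodule F V) (hU : ∀ v ∈ U, t v ∈ U) :
    ∀ v ∈ LinearMap.BilinForm.orthogonal B U, t v ∈ LinearMap.BilinForm.orthogonal B U := by
  intro v hv
  rw [LinearMap.BilinForm.mem_orthogonal_iff] at hv ⊢
  intro n hn
  rw [← inv_apply_of_pow t r hr0 htr n, hiso]
  exact hv _ (pow_apply_mem_aux t U hU (r - 1) n hn)
where
  pow_apply_mem_aux (t : End F V) (U : Submodule F V) (hU : ∀ v ∈ U, t v ∈ U) (i : ℕ) (v : V)
      (hv : v ∈ U) : (t ^ i) v ∈ U := pow_mem_of_invariant t U hU i v hv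

theorem exists_isotropic_partner (B : LinearMap.BilinForm F V) (hsym : ∀ x y, B x y = B y x)
    (hnd : ∀ x, (∀ y, B x y = 0) → x = 0) (h2 : (2 : F) ≠ 0) (t : End F V)
    (hiso : ∀ x y, B (t x) (t y) = B x y) (r : ℕ) (hrF : (r : F) ≠ 0) (htr : t ^ r = 1)
    (U : Submodule F V) (hU : ∀ v ∈ U, t v ∈ U) (hUti : ∀ u ∈ U, ∀ v ∈ U, B u v = 0) :
    ∃ U' : Submodule F V, (∀ v ∈ U', t v ∈ U') ∧ (∀ u ∈ U', ∀ v ∈ U', B u v = 0) ∧
      Disjoint U U' ∧ finrank F U' = finrank F U ∧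
      (∀ u ∈ U, (∀ y ∈ U', B u y = 0) → u = 0) ∧ (∀ y ∈ U', (∀ u ∈ U, B u y = 0) → y = 0) := by
  have hr0 : r ≠ 0 := by
    rintro rfl
    exact hrF Nat.cast_zero
  obtain ⟨Up, hUp⟩ : ∃ Up : Submodule F V, Up = LinearMap.BilinForm.orthogonal B U := ⟨_, rfl⟩
  have hUpmem : ∀ v, v ∈ Up ↔ ∀ n ∈ U, B n v = 0 := by
    intro v
    rw [hUp, LinearMap.BilinForm.mem_orthogonal_iff]
  have hUpinv : ∀ v ∈ Up, t v ∈ Up := by
    rw [hUp]
    exact orthogonal_invariant B t hiso r hr0 htr U hU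
  have hUle : U ≤ Up := by
    intro u hu
    rw [hUpmem]
    intro n hn
    exact hUti n hn u hu
  obtain ⟨U₂, hc, hU₂⟩ := exists_invariant_compl t r hrF htr Up hUpinv
  have hP1 : ∀ u ∈ U, (∀ y ∈ U₂, B u y = 0) → u = 0 := by
    intro u hu h
    apply hnd
    intro v
    obtain ⟨z, hz, y, hy, rfl⟩ := exists_decomp Up U₂ hc v
    rw [map_add, (hUpmem z).mp hz u hu, h y hy, add_zero]
  have hinf : ∀ x, x ∈ Up → x ∈ U₂ → x = 0 := by
    intro x h1 h3
    have : x ∈ Up ⊓ U₂ := ⟨h1, h3⟩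
    rw [hc.inf_eq_bot] at this
    exact (Submodule.mem_bot F).mp this
  have hP2 : ∀ y ∈ U₂, (∀ u ∈ U, B u y = 0) → y = 0 := by
    intro y hy h
    exact hinf y ((hUpmem y).mpr h) hy
  have hfr : finrank F U₂ = finrank F U := by
    have h3 := Submodule.finrank_add_eq_of_isCompl hc
    have hB : B.Nondegenerate := ⟨hnd, fun y hy => hnd y (fun x => by rw [hsym]; exact hy x)⟩
    have h4 := LinearMap.BilinForm.finrank_orthogonal hB U
    rw [← hUp] at h4
    have h5 := Submodule.finrank_le U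
    omega
  -- the correcting map
  obtain ⟨Ψ, hΨ⟩ : ∃ Ψ : U →ₗ[F] (U₂ →ₗ[F] F), ∀ (u : U) (y : U₂), Ψ u y = B (u : V) (y : V) :=
    ⟨B.domRestrict₁₂ U U₂, fun u y => rfl⟩
  have hΨinj : Function.Injective Ψ := by
    rw [injective_iff_map_eq_zero]
    intro u hu
    apply Subtype.ext
    apply hP1 u u.2
    intro y hy
    have := hΨ u ⟨y, hy⟩
    rw [hu] at this
    exact this.symm
  have hfr2 : finrank F U = finrank F (U₂ →ₗ[F] F) := by
    have := Subspace.dual_finrank_eq (K := F) (V := U₂)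
    unfold Module.Dual at this
    rw [this, hfr]
  have hΨsurj : Function.Surjective Ψ :=
    (LinearMap.injective_iff_surjective_of_finrank_eq_finrank hfr2).mp hΨinj
  obtain ⟨Ψe, hΨe⟩ : ∃ Ψe : U ≃ₗ[F] (U₂ →ₗ[F] F), ∀ u, Ψe u = Ψ u :=
    ⟨LinearEquiv.ofBijective Ψ ⟨hΨinj, hΨsurj⟩, fun u => rfl⟩
  obtain ⟨T, hT⟩ : ∃ T : U₂ →ₗ[F] (U₂ →ₗ[F] F), ∀ (x y : U₂),
      T x y = -(2 : F)⁻¹ * B (x : V) (y : V) :=
    ⟨(-(2 : F)⁻¹) • B.domRestrict₁₂ U₂ U₂, fun x y => rfl⟩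
  obtain ⟨φ, hφdef⟩ : ∃ φ : U₂ →ₗ[F] U, φ = (Ψe.symm : (U₂ →ₗ[F] F) →ₗ[F] U) ∘ₗ T := ⟨_, rfl⟩
  have hφ : ∀ (x y : U₂), B ((φ x : U) : V) (y : V) = -(2 : F)⁻¹ * B (x : V) (y : V) := by
    intro x y
    rw [← hΨ, ← hΨe, hφdef, LinearMap.comp_apply, LinearEquiv.coe_coe,
      LinearEquiv.apply_symm_apply, hT]
  obtain ⟨G, hG⟩ : ∃ G : U₂ →ₗ[F] V, ∀ x : U₂, G x = (x : V) + ((φ x : U) : V) :=
    ⟨U₂.subtype + U.subtype ∘ₗ φ, fun x => rfl⟩
  have hGzero : ∀ x : U₂, G x ∈ U → x = 0 := by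
    intro x hx
    rw [hG] at hx
    have h3 : (x : V) ∈ U := by
      have : (x : V) = (x : V) + ((φ x : U) : V) - ((φ x : U) : V) := by abel
      rw [this]
      exact U.sub_mem hx (φ x).2
    apply Subtype.ext
    exact hinf _ (hUle h3) x.2
  have hGinj : Function.Injective G := by
    rw [injective_iff_map_eq_zero]
    intro x hx
    apply hGzero
    rw [hx]
    exact U.zero_mem
  have hφt : ∀ x : U₂, t ((φ x : U) : V) = ((φ ⟨t (x : V), hU₂ _ x.2⟩ : U) : V) := by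
    intro x
    have h3 : t ((φ x : U) : V) - ((φ ⟨t (x : V), hU₂ _ x.2⟩ : U) : V) = 0 := by
      apply hP1 _ (U.sub_mem (hU _ (φ x).2) (φ _).2)
      intro y hy
      have hy' : (t ^ (r - 1)) y ∈ U₂ := pow_mem_of_invariant t U₂ hU₂ (r - 1) y hy
      have e1 := hφ ⟨t (x : V), hU₂ _ x.2⟩ ⟨y, hy⟩
      have e2 := hφ x ⟨(t ^ (r - 1)) y, hy'⟩
      simp only [] at e1 e2
      rw [map_sub, LinearMap.sub_apply, e1]
      have e3 : B (t ((φ x : U) : V)) y = B ((φ x : U) : V) ((t ^ (r - 1)) y) := by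
        conv_lhs => rw [← inv_apply_of_pow t r hr0 htr y]
        rw [hiso]
      have e4 : B (t (x : V)) y = B (x : V) ((t ^ (r - 1)) y) := by
        conv_lhs => rw [← inv_apply_of_pow t r hr0 htr y]
        rw [hiso]
      rw [e3, e2, e4, sub_self]
    exact sub_eq_zero.mp h3
  refine ⟨LinearMap.range G, ?_, ?_, ?_, ?_, ?_, ?_⟩
  · rintro _ ⟨x, rfl⟩
    refine ⟨⟨t (x : V), hU₂ _ x.2⟩, ?_⟩
    rw [hG, hG, map_add, hφt]
  · rintro _ ⟨x, rfl⟩ _ ⟨x', rfl⟩
    rw [hG, hG, bilin_expand, hφ x x', hUti _ (φ x).2 _ (φ x').2, hsym (x : V) ((φ x' : U) : V),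
      hφ x' x, hsym (x' : V) (x : V)]
    have : (2 : F) * (2 : F)⁻¹ = 1 := mul_inv_cancel₀ h2
    linear_combination (-(B (x : V) (x' : V))) * this
  · rw [Submodule.disjoint_def]
    rintro v hv ⟨x, rfl⟩
    have := hGzero x hv
    rw [this, map_zero]
  · rw [LinearMap.finrank_range_of_inj hGinj, hfr]
  · intro u hu h
    apply hP1 u hu
    intro y hy
    have h3 := h (G ⟨y, hy⟩) ⟨_, rfl⟩
    rw [hG, map_add, hUti u hu _ (φ _).2, add_zero] at h3
    exact h3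
  · rintro _ ⟨x, rfl⟩ h
    have h3 : x = 0 := by
      apply Subtype.ext
      apply hP2 x x.2
      intro u hu
      have h4 := h u hu
      rw [hG, map_add, hUti u hu _ (φ _).2, add_zero] at h4
      exact h4
    rw [h3, map_zero]

end partner

end Cfsg.Agent.Lib.Helper1.Cf
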