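import Mathlib
import Cfsg.Prelude
import Cfsg.Agent.Lib.Helper1.CfB
import Cfsg.Agent.Lib.Helper1.BcH

/-!
# Centralizing similarities on an irreducible non-degenerate piece
-/

set_option autoImplicit false
set_option maxHeartbeats 4000000
set_option linter.unusedSimpArgs false
set_option linter.unusedVariables false
set_option linter.unusedSectionVars false
set_option linter.style.haveILetI false

namespace Cfsg.Agent.Lib.Helper1.Cf

open Module
open Cfsg.Agent.Lib.Helper1.Bc Cfsg.Agent.Lib.Helper1.Pg Cfsg.Agent.Lib.Helper5.HalfTorus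

section typeI

variable {F : Type*} [Field F] [Fintype F] {W : Type*} [AddCommGroup W] [Module F W] [Finite W]
  [Nontrivial W]

theorem nat_sq_sub_one (X : ℕ) (hX : 1 ≤ X) : X ^ 2 - 1 = (X + 1) * (X - 1) := by
  obtain ⟨y, rfl⟩ : ∃ y, X = y + 1 := ⟨X - 1, by omega⟩
  rw [Nat.add_sub_cancel]
  have : (y + 1) ^ 2 = (y + 1 + 1) * y + 1 := by ring
  rw [this, Nat.add_sub_cancel]

/-- in the field `F[s]` of order `q ^ (2 m)` every element of `F` is a norm `μ ^ (q ^ m + 1)` -/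
theorem exists_norm_eq (K : Type*) [Field K] [Fintype K] (q m : ℕ) (hq : 2 ≤ q) (hm : 1 ≤ m)
    (hcard : Fintype.card K = q ^ (2 * m)) (aK : K) (haK0 : aK ≠ 0) (haK : aK ^ (q ^ m) = aK) :
    ∃ μ : K, μ ^ (q ^ m + 1) = aK := by
  classical
  have hqm : 2 ≤ q ^ m := by
    calc 2 ≤ q := hq
      _ = q ^ 1 := (pow_one q).symm
      _ ≤ q ^ m := Nat.pow_le_pow_right (by omega) hm
  obtain ⟨g, hg⟩ := IsCyclic.exists_generator (α := Kˣ)
  have hordg : orderOf g = q ^ (2 * m) - 1 := by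
    rw [orderOf_eq_card_of_forall_mem_zpowers hg, Nat.card_eq_fintype_card, Fintype.card_units,
      hcard]
  obtain ⟨i, hi⟩ : ∃ i : ℕ, g ^ i = Units.mk0 aK haK0 := by
    have h1 := hg (Units.mk0 aK haK0)
    rw [← mem_powers_iff_mem_zpowers] at h1
    exact (Submonoid.mem_powers_iff _ _).mp h1
  have h1 : (Units.mk0 aK haK0) ^ (q ^ m - 1) = 1 := by
    apply Units.ext
    rw [Units.val_pow_eq_pow_val, Units.val_mk0, Units.val_one]
    have e : aK ^ (q ^ m - 1) * aK = 1 * aK := by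
      rw [← pow_succ, Nat.sub_add_cancel (by omega), haK, one_mul]
    exact mul_right_cancel₀ haK0 e
  rw [← hi, ← pow_mul] at h1
  have h3 : (q ^ (2 * m) - 1) ∣ i * (q ^ m - 1) := by
    rw [← hordg]
    exact orderOf_dvd_of_pow_eq_one h1
  have hfac : q ^ (2 * m) - 1 = (q ^ m + 1) * (q ^ m - 1) := by
    rw [mul_comm 2 m, pow_mul]
    exact nat_sq_sub_one _ (by omega)
  rw [hfac] at h3
  have h4 : (q ^ m + 1) ∣ i := Nat.dvd_of_mul_dvd_mul_right (by omega) h3
  obtain ⟨j, hj⟩ := h4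
  refine ⟨((g ^ j : Kˣ) : K), ?_⟩
  rw [← Units.val_pow_eq_pow_val, ← pow_mul, mul_comm j, ← hj, hi, Units.val_mk0]

theorem hasSim_irr (B : LinearMap.BilinForm F W) (s : End F W) (hsym : ∀ x y, B x y = B y x)
    (hnd : ∀ x, (∀ y, B x y = 0) → x = 0) (hiso : ∀ x y, B (s x) (s y) = B x y)
    (hirr : ∀ U : Submodule F W, (∀ w ∈ U, s w ∈ U) → U = ⊥ ∨ U = ⊤) (h2 : (2 : F) ≠ 0)
    (hs2 : s * s ≠ 1) (m : ℕ) (hfr : finrank F W = 2 * m) (a : F) (ha : a ≠ 0) :
    HasSim B s a m := by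
  classical
  haveI hfact : Fact (Irreducible (minpoly F s)) := ⟨irreducible_minpoly s hirr⟩
  haveI : Finite (KK s) := finite_KK s
  haveI : Fintype (KK s) := Fintype.ofFinite _
  obtain ⟨q, hq⟩ : ∃ q, q = Fintype.card F := ⟨_, rfl⟩
  have hq2 : 2 ≤ q := by rw [hq]; exact Fintype.one_lt_card
  have hm1 : 1 ≤ m := by
    have : 0 < finrank F W := Module.finrank_pos
    omega
  obtain ⟨v₀, hv₀⟩ := exists_ne (0 : W)
  have hτpow := tauK_eq_pow B s hsym hnd hiso hirr h2 hs2 m hfr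
  have hcardK : Fintype.card (KK s) = q ^ (2 * m) := by
    rw [← Nat.card_eq_fintype_card, card_KK s hirr v₀ hv₀, Module.natCard_eq_pow_finrank (K := F),
      hfr, Nat.card_eq_fintype_card, hq]
  obtain ⟨aK, haK⟩ : ∃ aK : KK s, aK = algebraMap F (KK s) a := ⟨_, rfl⟩
  have haK0 : aK ≠ 0 := by
    rw [haK]
    exact (map_ne_zero _).mpr ha
  have haKpow : ∀ i : ℕ, aK ^ (q ^ i) = aK := by
    intro i
    rw [haK, ← map_pow, hq, FiniteField.pow_card_pow]
  obtain ⟨μ, hμ⟩ := exists_norm_eq (KK s) q m hq2 hm1 hcardK aK haK0 (haKpow m)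
  have hτμ : tauK B s hsym hnd hiso μ * μ = aK := by
    rw [hτpow, ← hq, ← pow_succ, hμ]
  refine ⟨ev s μ, ?_, ?_, ?_⟩
  · calc ev s μ * s = ev s μ * ev s (AdjoinRoot.root (minpoly F s)) := by rw [ev_root]
      _ = ev s (μ * AdjoinRoot.root (minpoly F s)) := (map_mul _ _ _).symm
      _ = ev s (AdjoinRoot.root (minpoly F s) * μ) := by rw [mul_comm]
      _ = ev s (AdjoinRoot.root (minpoly F s)) * ev s μ := map_mul _ _ _
      _ = s * ev s μ := by rw [ev_root]
  · intro x y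
    rw [adj_ev B s hsym hnd hiso μ x (ev s μ y), ← Module.End.mul_apply, ← map_mul, hτμ, haK,
      AlgHom.commutes, Module.algebraMap_end_apply, map_smul, smul_eq_mul]
  · obtain ⟨e, he⟩ : ∃ e : KK s ≃ₗ[F] W, ∀ x, e x = psiK s v₀ x :=
      ⟨LinearEquiv.ofBijective (psiK s v₀)
        ⟨psiK_injective s v₀ hv₀, psiK_surjective s hirr v₀ hv₀⟩, fun x => rfl⟩
    have hconj : ev s μ = (e : KK s →ₗ[F] W) ∘ₗ (Algebra.lmul F (KK s) μ) ∘ₗ
        (e.symm : W →ₗ[F] KK s) := by
      apply LinearMap.ext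
      intro w
      obtain ⟨x, rfl⟩ := e.surjective w
      rw [LinearMap.comp_apply, LinearMap.comp_apply, LinearEquiv.coe_coe, LinearEquiv.coe_coe,
        e.symm_apply_apply, he, he, ev_psiK]
      rfl
    rw [hconj, LinearMap.det_conj, ← Algebra.norm_apply]
    apply (algebraMap F (KK s)).injective
    rw [FiniteField.algebraMap_norm_eq_prod_pow, LinearEquiv.finrank_eq e, hfr,
      Nat.card_eq_fintype_card, ← hq, two_mul, Finset.prod_range_add, ← Finset.prod_mul_distrib,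
      map_pow, ← haK]
    have hterm : ∀ i ∈ Finset.range m, μ ^ q ^ i * μ ^ q ^ (m + i) = aK := by
      intro i _
      rw [← pow_add]
      have : q ^ i + q ^ (m + i) = (q ^ m + 1) * q ^ i := by
        rw [pow_add]
        ring
      rw [this, pow_mul, hμ, haKpow]
    rw [Finset.prod_congr rfl hterm, Finset.prod_const, Finset.card_range]

end typeI

end Cfsg.Agent.Lib.Helper1.Cf
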