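import Mathlib
import Cfsg.Prelude
import Cfsg.Agent.Lib.Helper1.CfC
import Cfsg.Agent.Lib.Helper1.PgC

/-!
# Centralizing similarities of every multiplier (Claim A)
-/

set_option autoImplicit false
set_option maxHeartbeats 4000000
set_option linter.unusedSimpArgs false
set_option linter.unusedVariables false
set_option linter.unusedSectionVars false
set_option linter.style.haveILetI false

namespace Cfsg.Agent.Lib.Helper1.Cf

open Module
open Cfsg.Agent.Lib.Helper1.Bc Cfsg.Agent.Lib.Helper1.Pg Cfsg.Agent.Lib.Helper5.HalfTorus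

universe u

section piece

variable {F : Type*} [Field F] [Fintype F] {V : Type*} [AddCommGroup V] [Module F V]
  [FiniteDimensional F V]

theorem orth_basis_self_ne (B : LinearMap.BilinForm F V)
    (hnd : ∀ x, (∀ y, B x y = 0) → x = 0) {κ : Type*} [Fintype κ] [DecidableEq κ]
    (b : Basis κ F V) (hb : ∀ i j, i ≠ j → B (b i) (b j) = 0) (i : κ) : B (b i) (b i) ≠ 0 := by
  intro h
  apply b.ne_zero i
  apply hnd
  intro y
  rw [← b.sum_repr y, map_sum]
  apply Finset.sum_eq_zero
  intro j _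
  rw [map_smul, smul_eq_mul]
  by_cases hij : i = j
  · rw [← hij, h, mul_zero]
  · rw [hb i j hij, mul_zero]

/-- the plane piece when `t = 1` -/
theorem exists_piece_one (h2 : (2 : F) ≠ 0) (B : LinearMap.BilinForm F V)
    (hsym : ∀ x y, B x y = B y x) (hnd : ∀ x, (∀ y, B x y = 0) → x = 0) (t : End F V)
    (ht : ∀ x, t x = x) (a : F) (ha : a ≠ 0) (hdim : 2 ≤ finrank F V) :
    ∃ (W : Submodule F V) (hW : ∀ v ∈ W, t v ∈ W) (e : ℕ), 1 ≤ e ∧ finrank F W = 2 * e ∧
      Disjoint W (LinearMap.BilinForm.orthogonal B W) ∧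
      HasSim (LinearMap.BilinForm.restrict B W) (t.restrict hW) a e := by
  classical
  haveI : Invertible (2 : F) := invertibleOfNonzero h2
  obtain ⟨v, hv⟩ := LinearMap.BilinForm.exists_orthogonal_basis (B := B) ⟨hsym⟩
  have hv' : ∀ i j, i ≠ j → B (v i) (v j) = 0 := fun i j hij => hv hij
  obtain ⟨i0, i1, hi01⟩ : ∃ i0 i1 : Fin (finrank F V), i0 ≠ i1 :=
    ⟨⟨0, by omega⟩, ⟨1, by omega⟩, by
      intro h
      have := congrArg Fin.val h
      simp at this⟩
  obtain ⟨u, hu⟩ : ∃ u, u = v i0 := ⟨_, rfl⟩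
  obtain ⟨w, hw⟩ : ∃ w, w = v i1 := ⟨_, rfl⟩
  have huu : B u u ≠ 0 := by rw [hu]; exact orth_basis_self_ne B hnd v hv' i0
  have hww : B w w ≠ 0 := by rw [hw]; exact orth_basis_self_ne B hnd v hv' i1
  have huw : B u w = 0 := by rw [hu, hw]; exact hv' i0 i1 hi01
  have hwu : B w u = 0 := by rw [hsym]; exact huw
  obtain ⟨bf, hbf⟩ : ∃ bf : Fin 2 → V, bf = v ∘ ![i0, i1] := ⟨_, rfl⟩
  have hbf0 : bf 0 = u := by rw [hbf, hu]; rfl
  have hbf1 : bf 1 = w := by rw [hbf, hw]; rfl
  have hli : LinearIndependent F bf := by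
    rw [hbf]
    apply v.linearIndependent.comp
    intro x y hxy
    fin_cases x <;> fin_cases y
    · rfl
    · exact absurd hxy hi01
    · exact absurd hxy.symm hi01
    · rfl
  obtain ⟨W, hWdef⟩ : ∃ W : Submodule F V, W = Submodule.span F (Set.range bf) := ⟨_, rfl⟩
  have hWfr : finrank F W = 2 := by
    rw [hWdef, finrank_span_eq_card hli, Fintype.card_fin]
  have hWmem : ∀ x, x ∈ W ↔ ∃ c0 c1 : F, x = c0 • u + c1 • w := by
    intro x
    rw [hWdef, Submodule.mem_span_range_iff_exists_fun]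
    constructor
    · rintro ⟨c, rfl⟩
      exact ⟨c 0, c 1, by rw [Fin.sum_univ_two, hbf0, hbf1]⟩
    · rintro ⟨c0, c1, rfl⟩
      exact ⟨![c0, c1], by rw [Fin.sum_univ_two, hbf0, hbf1]; rfl⟩
  have huW : u ∈ W := (hWmem u).mpr ⟨1, 0, by rw [one_smul, zero_smul, add_zero]⟩
  have hwW : w ∈ W := (hWmem w).mpr ⟨0, 1, by rw [one_smul, zero_smul, zero_add]⟩
  have hW : ∀ x ∈ W, t x ∈ W := by
    intro x hx
    rw [ht]
    exact hx
  have hdisj : Disjoint W (LinearMap.BilinForm.orthogonal B W) := by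
    rw [Submodule.disjoint_def]
    intro x hx hx'
    rw [LinearMap.BilinForm.mem_orthogonal_iff] at hx'
    obtain ⟨c0, c1, rfl⟩ := (hWmem x).mp hx
    have e0 : B u (c0 • u + c1 • w) = 0 := hx' u huW
    have e1 : B w (c0 • u + c1 • w) = 0 := hx' w hwW
    simp only [map_add, map_smul, smul_eq_mul, huw, hwu, mul_zero, add_zero, zero_add] at e0 e1
    have hc0 : c0 = 0 := (mul_eq_zero.mp e0).resolve_right huu
    have hc1 : c1 = 0 := (mul_eq_zero.mp e1).resolve_right hww
    rw [hc0, hc1, zero_smul, zero_smul, add_zero]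
  refine ⟨W, hW, 1, le_refl 1, by rw [hWfr], hdisj, ?_⟩
  apply hasSim_plane h2 (LinearMap.BilinForm.restrict B W) (fun x y => hsym _ _) _
    (t.restrict hW) (fun x => Subtype.ext (ht _)) a ha hWfr
  intro x hx
  apply Subtype.ext
  have h3 : (x : V) ∈ W ⊓ LinearMap.BilinForm.orthogonal B W := by
    refine Submodule.mem_inf.mpr ⟨x.2, ?_⟩
    rw [LinearMap.BilinForm.mem_orthogonal_iff]
    intro n hn
    show B n (x : V) = 0
    rw [hsym]
    exact hx ⟨n, hn⟩
  rw [hdisj.eq_bot] at h3
  exact (Submodule.mem_bot F).mp h3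

/-- a piece of type I or II when `t ≠ 1` -/
theorem exists_piece_ne (h2 : (2 : F) ≠ 0) (B : LinearMap.BilinForm F V)
    (hsym : ∀ x y, B x y = B y x) (hnd : ∀ x, (∀ y, B x y = 0) → x = 0) (t : End F V)
    (hiso : ∀ x y, B (t x) (t y) = B x y) (r : ℕ) (hro : Odd r) (hrF : (r : F) ≠ 0)
    (htr : t ^ r = 1) (a : F) (ha : a ≠ 0) (ht1 : t ≠ 1) :
    ∃ (W : Submodule F V) (hW : ∀ v ∈ W, t v ∈ W) (e : ℕ), 1 ≤ e ∧ finrank F W = 2 * e ∧
      Disjoint W (LinearMap.BilinForm.orthogonal B W) ∧
      HasSim (LinearMap.BilinForm.restrict B W) (t.restrict hW) a e := by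
  classical
  haveI : Finite V := Module.finite_of_finite F
  have hr0 : r ≠ 0 := by
    rintro rfl
    exact hrF Nat.cast_zero
  obtain ⟨N, hN⟩ : ∃ N : Submodule F V, N = LinearMap.range (t - 1) := ⟨_, rfl⟩
  have hN0 : N ≠ ⊥ := by
    intro h
    rw [hN, LinearMap.range_eq_bot] at h
    exact ht1 (sub_eq_zero.mp h)
  have hNinv : ∀ v ∈ N, t v ∈ N := by
    intro v hv
    rw [hN] at hv ⊢
    exact range_invariant t t (Commute.refl t) v hv
  have hNfix : ∀ x ∈ N, t x = x → x = 0 := by
    intro x hx hfx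
    have h3 : x ∈ LinearMap.range (t - 1) ⊓ LinearMap.ker (t - 1) :=
      ⟨by rw [← hN]; exact hx, (mem_ker_sub_one t x).mpr hfx⟩
    rw [(disjoint_range_ker t r hrF htr).eq_bot] at h3
    exact (Submodule.mem_bot F).mp h3
  obtain ⟨U, hUN, hU0, hU, hUirr⟩ := exists_min_invariant t _ N rfl hN0 hNinv
  haveI hUnt : Nontrivial U := (Submodule.nontrivial_iff_ne_bot).mpr hU0
  have hUfix : ∀ x ∈ U, t x = x → x = 0 := fun x hx => hNfix x (hUN hx)
  obtain ⟨R, hR⟩ : ∃ R : Submodule F V, R = U ⊓ LinearMap.BilinForm.orthogonal B U := ⟨_, rfl⟩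
  have hRle : R ≤ U := by rw [hR]; exact inf_le_left
  have hRinv : ∀ v ∈ R, t v ∈ R := by
    intro v hv
    rw [hR] at hv ⊢
    exact ⟨hU v hv.1, orthogonal_invariant B t hiso r hr0 htr U hU v hv.2⟩
  have hkpos : 0 < finrank F U := Module.finrank_pos
  rcases hUirr R hRle hRinv with hRb | hRU
  · -- type I
    have hdisj : Disjoint U (LinearMap.BilinForm.orthogonal B U) := by
      rw [disjoint_iff, ← hR]
      exact hRb
    obtain ⟨s, hs⟩ : ∃ s : End F U, s = t.restrict hU := ⟨_, rfl⟩
    have hsirr : ∀ U₀ : Submodule F U, (∀ w ∈ U₀, s w ∈ U₀) → U₀ = ⊥ ∨ U₀ = ⊤ := by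
      rw [hs]
      exact irr_subtype t U hU hUirr
    have hsym₁ : ∀ x y : U, LinearMap.BilinForm.restrict B U x y =
        LinearMap.BilinForm.restrict B U y x := fun x y => hsym _ _
    have hnd₁ : ∀ x : U, (∀ y : U, LinearMap.BilinForm.restrict B U x y = 0) → x = 0 := by
      intro x hx
      apply Subtype.ext
      have h3 : (x : V) ∈ U ⊓ LinearMap.BilinForm.orthogonal B U := by
        refine Submodule.mem_inf.mpr ⟨x.2, ?_⟩
        rw [LinearMap.BilinForm.mem_orthogonal_iff]
        intro n hn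
        show B n (x : V) = 0
        rw [hsym]
        exact hx ⟨n, hn⟩
      rw [hdisj.eq_bot] at h3
      exact (Submodule.mem_bot F).mp h3
    have hiso₁ : ∀ x y : U, LinearMap.BilinForm.restrict B U (s x) (s y) =
        LinearMap.BilinForm.restrict B U x y := by
      intro x y
      rw [hs]
      exact hiso _ _
    have hsr : s ^ r = 1 := by
      rw [hs]
      exact restrict_pow_eq_one t U hU r (fun v _ => by rw [htr, Module.End.one_apply])
    have hsfix : ∀ x : U, s x = x → x = 0 := by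
      intro x hx
      apply Subtype.ext
      apply hUfix x x.2
      have := congrArg Subtype.val hx
      rw [hs] at this
      exact this
    have hs2 : s * s ≠ 1 := by
      intro h
      obtain ⟨j, hj⟩ := hro
      have h3 : s = 1 := by
        have h4 : s ^ r = s := by
          rw [hj, pow_succ, pow_mul, pow_two, h, one_pow, one_mul]
        rw [← h4, hsr]
      obtain ⟨x, hx⟩ := exists_ne (0 : U)
      exact hx (hsfix x (by rw [h3, Module.End.one_apply]))
    obtain ⟨b, Φ, hfrb, -⟩ := exists_sp_model_abs (LinearMap.BilinForm.restrict B U) hsym₁ hnd₁ h2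
      s hiso₁ r hro hsr hsfix
    have hsim := hasSim_irr (LinearMap.BilinForm.restrict B U) s hsym₁ hnd₁ hiso₁ hsirr h2 hs2 b
      hfrb a ha
    rw [hs] at hsim
    exact ⟨U, hU, b, by omega, hfrb, hdisj, hsim⟩
  · -- type II
    have hUti : ∀ u ∈ U, ∀ v ∈ U, B u v = 0 := by
      intro u hu v hv
      have hv' : v ∈ R := by rw [hRU]; exact hv
      rw [hR] at hv'
      exact (LinearMap.BilinForm.mem_orthogonal_iff.mp hv'.2) u hu
    obtain ⟨U', hU', hU'ti, hdUU', hfrU', hQ1, hQ2⟩ :=
      exists_isotropic_partner B hsym hnd h2 t hiso r hrF htr U hU hUti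
    obtain ⟨W, hWdef⟩ : ∃ W : Submodule F V, W = U ⊔ U' := ⟨_, rfl⟩
    have hUW : U ≤ W := by rw [hWdef]; exact le_sup_left
    have hU'W : U' ≤ W := by rw [hWdef]; exact le_sup_right
    have hWmem : ∀ x ∈ W, ∃ u ∈ U, ∃ u' ∈ U', x = u + u' := by
      intro x hx
      rw [hWdef] at hx
      obtain ⟨y₁, hy₁, y₂, hy₂, rfl⟩ := Submodule.mem_sup.mp hx
      exact ⟨y₁, hy₁, y₂, hy₂, rfl⟩
    have hW : ∀ v ∈ W, t v ∈ W := by
      intro v hv
      obtain ⟨u, hu, u', hu', rfl⟩ := hWmem v hv
      rw [map_add]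
      exact W.add_mem (hUW (hU u hu)) (hU'W (hU' u' hu'))
    have hWfr : finrank F W = 2 * finrank F U := by
      have h3 := Submodule.finrank_sup_add_finrank_inf_eq U U'
      rw [hdUU'.eq_bot, finrank_bot, add_zero, ← hWdef, hfrU'] at h3
      rw [h3]
      ring
    have hdisj : Disjoint W (LinearMap.BilinForm.orthogonal B W) := by
      rw [Submodule.disjoint_def]
      intro x hx hx'
      rw [LinearMap.BilinForm.mem_orthogonal_iff] at hx'
      obtain ⟨u, hu, u', hu', rfl⟩ := hWmem x hx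
      have hu'0 : u' = 0 := by
        apply hQ2 u' hu'
        intro v hv
        have : B v (u + u') = 0 := hx' v (hUW hv)
        rw [map_add, hUti v hv u hu, zero_add] at this
        exact this
      have hu0 : u = 0 := by
        apply hQ1 u hu
        intro y hy
        have : B y (u + u') = 0 := hx' y (hU'W hy)
        rw [map_add, hU'ti y hy u' hu', add_zero] at this
        rw [hsym]
        exact this
      rw [hu0, hu'0, add_zero]
    -- the two summands inside `W`
    obtain ⟨Uw, hUw⟩ : ∃ Uw : Submodule F W, Uw = U.comap W.subtype := ⟨_, rfl⟩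
    obtain ⟨Uw', hUw'⟩ : ∃ Uw' : Submodule F W, Uw' = U'.comap W.subtype := ⟨_, rfl⟩
    have hUwmem : ∀ x : W, x ∈ Uw ↔ (x : V) ∈ U := by
      intro x
      rw [hUw]
      rfl
    have hUw'mem : ∀ x : W, x ∈ Uw' ↔ (x : V) ∈ U' := by
      intro x
      rw [hUw']
      rfl
    have hcw : IsCompl Uw Uw' := by
      constructor
      · rw [Submodule.disjoint_def]
        intro x hx hx'
        apply Subtype.ext
        have h3 : (x : V) ∈ U ⊓ U' := ⟨(hUwmem x).mp hx, (hUw'mem x).mp hx'⟩
        rw [hdUU'.eq_bot] at h3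
        exact (Submodule.mem_bot F).mp h3
      · rw [codisjoint_iff, eq_top_iff]
        intro x _
        obtain ⟨u, hu, u', hu', hxe⟩ := hWmem x x.2
        have : x = (⟨u, hUW hu⟩ : W) + (⟨u', hU'W hu'⟩ : W) := Subtype.ext hxe
        rw [this]
        exact Submodule.add_mem_sup ((hUwmem _).mpr hu) ((hUw'mem _).mpr hu')
    have hfrUw : finrank F Uw = finrank F U := by
      rw [hUw]
      exact (Submodule.comapSubtypeEquivOfLe hUW).finrank_eq
    have hsim := hasSim_hyp (LinearMap.BilinForm.restrict B W) (fun x y => hsym _ _)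
      (t.restrict hW) a Uw Uw' hcw
      (fun x hx => (hUwmem _).mpr (hU _ ((hUwmem x).mp hx)))
      (fun x hx => (hUw'mem _).mpr (hU' _ ((hUw'mem x).mp hx)))
      (fun x hx y hy => hUti _ ((hUwmem x).mp hx) _ ((hUwmem y).mp hy))
      (fun x hx y hy => hU'ti _ ((hUw'mem x).mp hx) _ ((hUw'mem y).mp hy)) (finrank F U) hfrUw
    exact ⟨W, hW, finrank F U, hkpos, hWfr, hdisj, hsim⟩

end piece

section induction

variable {F : Type*} [Field F] [Fintype F]

/-- **Claim A**, abstract form -/
theorem hasSim_all (h2 : (2 : F) ≠ 0) (r : ℕ) (hro : Odd r) (hrF : (r : F) ≠ 0) (a : F)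
    (ha : a ≠ 0) :
    ∀ (n : ℕ) (V : Type u) [AddCommGroup V] [Module F V] [FiniteDimensional F V]
      (B : LinearMap.BilinForm F V), (∀ x y, B x y = B y x) →
      (∀ x, (∀ y, B x y = 0) → x = 0) → ∀ t : End F V, (∀ x y, B (t x) (t y) = B x y) →
      t ^ r = 1 → finrank F V = 2 * n → HasSim B t a n := by
  intro n
  induction n using Nat.strong_induction_on with
  | _ n ih =>
    intro V _ _ _ B hsym hnd t hiso htr hfr
    have hr0 : r ≠ 0 := by
      rintro rfl
      exact hrF Nat.cast_zero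
    rcases Nat.eq_zero_or_pos n with hn | hn
    · rw [hn]
      exact hasSim_zero B t a (by rw [hfr, hn])
    · obtain ⟨W, hW, e, he1, hWfr, hdisj, hsimW⟩ : ∃ (W : Submodule F V)
          (hW : ∀ v ∈ W, t v ∈ W) (e : ℕ), 1 ≤ e ∧ finrank F W = 2 * e ∧
          Disjoint W (LinearMap.BilinForm.orthogonal B W) ∧
          HasSim (LinearMap.BilinForm.restrict B W) (t.restrict hW) a e := by
        by_cases ht1 : t = 1
        · exact exists_piece_one h2 B hsym hnd t (fun x => by rw [ht1, Module.End.one_apply]) a ha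
            (by omega)
        · exact exists_piece_ne h2 B hsym hnd t hiso r hro hrF htr a ha ht1
      obtain ⟨W', hW'def⟩ : ∃ W' : Submodule F V, W' = LinearMap.BilinForm.orthogonal B W :=
        ⟨_, rfl⟩
      have hrefl : B.IsRefl := (LinearMap.BilinForm.IsSymm.isRefl ⟨hsym⟩)
      have hc : IsCompl W W' := by
        rw [hW'def]
        exact (LinearMap.BilinForm.isCompl_orthogonal_iff_disjoint hrefl).mpr hdisj
      have horth : ∀ v ∈ W, ∀ w ∈ W', B v w = 0 := by
        intro v hv w hw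
        rw [hW'def] at hw
        exact (LinearMap.BilinForm.mem_orthogonal_iff.mp hw) v hv
      have hW' : ∀ v ∈ W', t v ∈ W' := by
        rw [hW'def]
        exact orthogonal_invariant B t hiso r hr0 htr W hW
      have hfr' : finrank F W' = 2 * (n - e) := by
        have := Submodule.finrank_add_eq_of_isCompl hc
        omega
      have hen : e ≤ n := by
        have := Submodule.finrank_le W
        omega
      have hnd' : ∀ x : W', (∀ y : W', LinearMap.BilinForm.restrict B W' x y = 0) → x = 0 := by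
        intro x hx
        apply Subtype.ext
        apply nd_right B hsym hnd W W' hc horth x x.2
        intro y hy
        exact hx ⟨y, hy⟩
      have hsimW' := ih (n - e) (by omega) W' (LinearMap.BilinForm.restrict B W')
        (fun x y => hsym _ _) hnd' (t.restrict hW') (fun x y => hiso _ _)
        (restrict_pow_eq_one t W' hW' r (fun v _ => by rw [htr, Module.End.one_apply])) hfr'
      have := hasSim_glue B hsym t a W W' hc horth hW hW' e (n - e) hsimW hsimW'
      have hen' : e + (n - e) = n := by omega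
      rw [hen'] at this
      exact this

end induction

section matrix

variable {ι : Type} [Fintype ι] [DecidableEq ι] {F : Type*} [Field F] [Fintype F]

open Matrix QuadraticMap

/-- **Claim A**: a similarity of multiplier `a` and determinant `a ^ m` commuting with `T` -/
theorem exists_centralizing_sim (Q : QuadraticForm F (ι → F)) (h2 : (2 : F) ≠ 0)
    (hQ : (polarBilin Q).Nondegenerate) (m : ℕ) (hcard : Fintype.card ι = 2 * m)
    (T : Matrix ι ι F) (hT : ∀ v, Q (T *ᵥ v) = Q v) (r : ℕ) (hro : Odd r) (hrF : (r : F) ≠ 0)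
    (hTr : T ^ r = 1) (a : F) (ha : a ≠ 0) :
    ∃ C : Matrix ι ι F, C * T = T * C ∧ (∀ v, Q (C *ᵥ v) = a * Q v) ∧ C.det = a ^ m := by
  obtain ⟨t, ht⟩ : ∃ t : End F (ι → F), t = Matrix.toLin' T := ⟨_, rfl⟩
  have hsym : ∀ x y, polarBilin Q x y = polarBilin Q y x := fun x y => polar_comm _ _ _
  have hnd : ∀ x, (∀ y, polarBilin Q x y = 0) → x = 0 := hQ.1
  have hiso : ∀ x y, polarBilin Q (t x) (t y) = polarBilin Q x y := by
    intro x y
    rw [ht, Matrix.toLin'_apply, Matrix.toLin'_apply, polarBilin_apply_apply,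
      polarBilin_apply_apply]
    unfold polar
    rw [← Matrix.mulVec_add, hT, hT, hT]
  have htr : t ^ r = 1 := by
    rw [ht, ← Matrix.toLin'_pow, hTr, Matrix.toLin'_one]
    rfl
  have hdim : finrank F (ι → F) = 2 * m := by
    rw [Module.finrank_fintype_fun_eq_card, hcard]
  obtain ⟨c, hct, hcB, hcd⟩ := hasSim_all h2 r hro hrF a ha m (ι → F) (polarBilin Q) hsym hnd t
    hiso htr hdim
  refine ⟨LinearMap.toMatrix' c, ?_, ?_, ?_⟩
  · have h3 : T = LinearMap.toMatrix' t := by rw [ht, LinearMap.toMatrix'_toLin']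
    rw [h3, ← LinearMap.toMatrix'_mul, ← LinearMap.toMatrix'_mul, hct]
  · intro v
    rw [LinearMap.toMatrix'_mulVec]
    have h3 := hcB v v
    rw [polarBilin_apply_apply, polarBilin_apply_apply, polar_self, polar_self] at h3
    simp only [nsmul_eq_mul, Nat.cast_ofNat] at h3
    have h4 : (2 : F) * Q (c v) = 2 * (a * Q v) := by rw [h3]; ring
    exact mul_left_cancel₀ h2 h4
  · rw [LinearMap.det_toMatrix', hcd]

end matrix

end Cfsg.Agent.Lib.Helper1.Cf
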