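import Mathlib
import Cfsg.Prelude
import Cfsg.Agent.Lib.Helper1.CfD

/-!
# Splitting off a piece: irreducible non-degenerate, or hyperbolic of odd rank
-/

set_option autoImplicit false
set_option maxHeartbeats 4000000
set_option linter.unusedSimpArgs false
set_option linter.unusedVariables false
set_option linter.unusedSectionVars false
set_option linter.style.haveILetI false

namespace Cfsg.Agent.Lib.Helper1.Cf

open Module
open Cfsg.Agent.Lib.Helper1.Bc Cfsg.Agent.Lib.Helper1.Pg Cfsg.Agent.Lib.Helper5.HalfTorus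

section nt

variable {F : Type*} [Field F] [Fintype F] {W : Type*} [AddCommGroup W] [Module F W] [Finite W]
  [Nontrivial W]

/-- an irreducible module of even dimension for an operator of prime order is self-dual -/
theorem aeval_sinv_eq_zero (s : End F W)
    (hirr : ∀ U : Submodule F W, (∀ w ∈ U, s w ∈ U) → U = ⊥ ∨ U = ⊤)
    [hfact : Fact (Irreducible (minpoly F s))] (r : ℕ) (hr : r.Prime) (hsr : s ^ r = 1)
    (hs1 : s ≠ 1) (j : ℕ) (hj : 1 ≤ j) (hfr : finrank F W = 2 * j) :
    Polynomial.aeval (sinv s) (minpoly F s) = 0 := by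
  classical
  haveI : Finite (KK s) := finite_KK s
  haveI : Fintype (KK s) := Fintype.ofFinite _
  haveI := Fact.mk hr
  obtain ⟨q, hq⟩ : ∃ q, q = Fintype.card F := ⟨_, rfl⟩
  have hq2 : 2 ≤ q := by rw [hq]; exact Fintype.one_lt_card
  obtain ⟨v₀, hv₀⟩ := exists_ne (0 : W)
  obtain ⟨e, -⟩ : ∃ e : KK s ≃ₗ[F] W, True :=
    ⟨LinearEquiv.ofBijective (psiK s v₀)
      ⟨psiK_injective s v₀ hv₀, psiK_surjective s hirr v₀ hv₀⟩, trivial⟩
  have hfrK : finrank F (KK s) = 2 * j := by rw [LinearEquiv.finrank_eq e, hfr]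
  have hcardK : Fintype.card (KK s) = q ^ (2 * j) := by
    rw [← Nat.card_eq_fintype_card, card_KK s hirr v₀ hv₀, Module.natCard_eq_pow_finrank (K := F),
      hfr, Nat.card_eq_fintype_card, hq]
  obtain ⟨ρ, hρ⟩ : ∃ ρ : KK s, ρ = AdjoinRoot.root (minpoly F s) := ⟨_, rfl⟩
  have hρr : ρ ^ r = 1 := by
    rw [hρ, root_pow_eq_one_iff]
    exact hsr
  have hρ1 : ρ ≠ 1 := by
    intro h
    apply hs1
    rw [← ev_root s, ← hρ, h, map_one]
  have hρ0 : ρ ≠ 0 := by
    rintro rfl
    rw [zero_pow hr.ne_zero] at hρr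
    exact zero_ne_one hρr
  have hordρ : orderOf ρ = r := orderOf_eq_prime hρr hρ1
  obtain ⟨φ, hφdef⟩ : ∃ φ : KK s →ₐ[F] KK s, φ = FiniteField.frobeniusAlgHom F (KK s) :=
    ⟨_, rfl⟩
  have hφ : ∀ x, φ x = x ^ q := by
    intro x
    rw [hφdef, hq]
    rfl
  have hφpow : ∀ (i : ℕ) (x : KK s), (φ ^ i) x = x ^ (q ^ i) := by
    intro i
    induction i with
    | zero =>
      intro x
      rw [pow_zero, pow_zero, pow_one]
      rfl
    | succ i ih =>
      intro x
      rw [pow_succ', AlgHom.mul_apply, ih, hφ, ← pow_mul, ← pow_succ]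
  have hordφ : orderOf φ = 2 * j := by
    rw [hφdef, FiniteField.orderOf_frobeniusAlgHom, hfrK]
  have hne : ρ ^ (q ^ j) ≠ ρ := by
    intro h
    have h1 : φ ^ j = 1 := by
      apply AdjoinRoot.algHom_ext
      rw [hφpow, ← hρ, h]
      rfl
    have h3 : 2 * j ∣ j := by
      rw [← hordφ]
      exact orderOf_dvd_of_pow_eq_one h1
    have := Nat.le_of_dvd (by omega) h3
    omega
  have hρqk : ρ ^ (q ^ (2 * j)) = ρ := by
    rw [← hcardK]
    exact FiniteField.pow_card ρ
  have hqj : 1 ≤ q ^ j := Nat.one_le_pow _ _ (by omega)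
  have h4 : ρ ^ (q ^ (2 * j) - 1) = 1 := by
    have e : ρ ^ (q ^ (2 * j) - 1) * ρ = 1 * ρ := by
      rw [← pow_succ, Nat.sub_add_cancel (Nat.one_le_pow _ _ (by omega)), hρqk, one_mul]
    exact mul_right_cancel₀ hρ0 e
  have h5 : r ∣ q ^ (2 * j) - 1 := by
    rw [← hordρ]
    exact orderOf_dvd_of_pow_eq_one h4
  have hfac : q ^ (2 * j) - 1 = (q ^ j + 1) * (q ^ j - 1) := by
    rw [mul_comm 2 j, pow_mul]
    exact nat_sq_sub_one _ hqj
  rw [hfac] at h5
  rcases (Nat.Prime.dvd_mul hr).mp h5 with h6 | h6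
  · have h7 : ρ ^ (q ^ j + 1) = 1 := by
      rw [← hordρ] at h6
      exact orderOf_dvd_iff_pow_eq_one.mp h6
    have h8 : ρ ^ (q ^ j) = ρ⁻¹ := by
      apply eq_inv_of_mul_eq_one_left
      rw [← pow_succ]
      exact h7
    have h9 : Polynomial.aeval ρ⁻¹ (minpoly F s) = 0 := by
      rw [← h8, ← hφpow j ρ, Polynomial.aeval_algHom_apply, hρ, AdjoinRoot.aeval_eq,
        AdjoinRoot.mk_self, map_zero]
    unfold sinv
    rw [Polynomial.aeval_algHom_apply, ← hρ, h9, map_zero]
  · exfalso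
    have h7 : ρ ^ (q ^ j - 1) = 1 := by
      rw [← hordρ] at h6
      exact orderOf_dvd_iff_pow_eq_one.mp h6
    apply hne
    calc ρ ^ (q ^ j) = ρ ^ (q ^ j - 1 + 1) := by rw [Nat.sub_add_cancel hqj]
      _ = ρ := by rw [pow_succ, h7, one_mul]

end nt

section cyclic

variable {F : Type*} [Field F] {V : Type*} [AddCommGroup V] [Module F V]

theorem aeval_mem_of_invariant (X : End F V) (N : Submodule F V) (hN : ∀ v ∈ N, X v ∈ N)
    (g : Polynomial F) (v : V) (hv : v ∈ N) : (Polynomial.aeval X g) v ∈ N := by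
  induction g using Polynomial.induction_on' with
  | add p q hp hq =>
    rw [map_add, LinearMap.add_apply]
    exact N.add_mem hp hq
  | monomial n a =>
    rw [Polynomial.aeval_monomial, Module.End.mul_apply, Module.algebraMap_end_apply]
    exact N.smul_mem _ (pow_mem_of_invariant X N hN n v hv)

/-- if an irreducible polynomial in `t` kills a non-isotropic vector `h`, the cyclic module
generated by `h` is irreducible and non-degenerate -/
theorem exists_irr_of_aeval_zero [FiniteDimensional F V] (B : LinearMap.BilinForm F V)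
    (t : End F V) (hiso : ∀ x y, B (t x) (t y) = B x y) (r : ℕ) (hr0 : r ≠ 0) (htr : t ^ r = 1)
    (f : Polynomial F) (hf : Irreducible f) (h : V) (hfh : (Polynomial.aeval t f) h = 0)
    (hh : B h h ≠ 0) :
    ∃ Z : Submodule F V, (∀ v ∈ Z, t v ∈ Z) ∧ Z ≠ ⊥ ∧
      Disjoint Z (LinearMap.BilinForm.orthogonal B Z) ∧
      ∀ U₀ : Submodule F V, U₀ ≤ Z → (∀ v ∈ U₀, t v ∈ U₀) → U₀ = ⊥ ∨ U₀ = Z := by
  obtain ⟨Zmap, hZmap⟩ : ∃ Zmap : Polynomial F →ₗ[F] V,
      ∀ g, Zmap g = (Polynomial.aeval t g) h :=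
    ⟨(LinearMap.applyₗ h).comp (Polynomial.aeval t : Polynomial F →ₐ[F] End F V).toLinearMap,
      fun g => rfl⟩
  obtain ⟨Z, hZ⟩ : ∃ Z : Submodule F V, Z = LinearMap.range Zmap := ⟨_, rfl⟩
  have hZinv : ∀ v ∈ Z, t v ∈ Z := by
    intro v hv
    rw [hZ] at hv ⊢
    obtain ⟨g, rfl⟩ := hv
    refine ⟨Polynomial.X * g, ?_⟩
    rw [hZmap, hZmap, map_mul, Polynomial.aeval_X, Module.End.mul_apply]
  have hhZ : h ∈ Z := by
    rw [hZ]
    refine ⟨1, ?_⟩
    rw [hZmap, map_one, Module.End.one_apply]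
  have hh0 : h ≠ 0 := by
    rintro rfl
    apply hh
    simp
  have hZ0 : Z ≠ ⊥ := by
    intro hb
    rw [hb, Submodule.mem_bot] at hhZ
    exact hh0 hhZ
  have hirr : ∀ U₀ : Submodule F V, U₀ ≤ Z → (∀ v ∈ U₀, t v ∈ U₀) → U₀ = ⊥ ∨ U₀ = Z := by
    intro U₀ hle hinv
    by_cases hb : U₀ = ⊥
    · left; exact hb
    · right
      obtain ⟨n, hn, hn0⟩ := Submodule.exists_mem_ne_zero_of_ne_bot hb
      have hnZ := hle hn
      rw [hZ] at hnZ
      obtain ⟨g, hg⟩ := hnZ
      rw [hZmap] at hg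
      have hndvd : ¬ f ∣ g := by
        rintro ⟨c, rfl⟩
        apply hn0
        rw [← hg, mul_comm, map_mul, Module.End.mul_apply, hfh, map_zero]
      obtain ⟨a, b, hab⟩ := (Irreducible.coprime_iff_not_dvd hf).mpr hndvd
      have hhU : h ∈ U₀ := by
        have e1 : h = (Polynomial.aeval t (a * f + b * g)) h := by
          rw [hab, map_one, Module.End.one_apply]
        rw [e1, map_add, LinearMap.add_apply, map_mul, map_mul, Module.End.mul_apply,
          Module.End.mul_apply, hfh, map_zero, zero_add, hg]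
        exact aeval_mem_of_invariant t U₀ hinv b n hn
      apply le_antisymm hle
      rw [hZ]
      rintro _ ⟨g', rfl⟩
      rw [hZmap]
      exact aeval_mem_of_invariant t U₀ hinv g' h hhU
  refine ⟨Z, hZinv, hZ0, ?_, hirr⟩
  obtain ⟨R, hR⟩ : ∃ R : Submodule F V, R = Z ⊓ LinearMap.BilinForm.orthogonal B Z := ⟨_, rfl⟩
  have hRle : R ≤ Z := by rw [hR]; exact inf_le_left
  have hRinv : ∀ v ∈ R, t v ∈ R := by
    intro v hv
    rw [hR] at hv ⊢
    exact ⟨hZinv v hv.1, orthogonal_invariant B t hiso r hr0 htr Z hZinv v hv.2⟩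
  rcases hirr R hRle hRinv with hb | hb
  · rw [disjoint_iff, ← hR]
    exact hb
  · exfalso
    have h1 : h ∈ R := by rw [hb]; exact hhZ
    rw [hR] at h1
    exact hh ((LinearMap.BilinForm.mem_orthogonal_iff.mp h1.2) h hhZ)

end cyclic

section full

variable {F : Type*} [Field F] [Fintype F] {V : Type*} [AddCommGroup V] [Module F V]
  [FiniteDimensional F V] [Nontrivial V]

/-- **Lemma D**: a non-degenerate invariant piece which is irreducible, or hyperbolic of odd
rank -/
theorem exists_piece_full (h2 : (2 : F) ≠ 0) (B : LinearMap.BilinForm F V)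
    (hsym : ∀ x y, B x y = B y x) (hnd : ∀ x, (∀ y, B x y = 0) → x = 0) (t : End F V)
    (hiso : ∀ x y, B (t x) (t y) = B x y) (r : ℕ) (hr : r.Prime) (hrF : (r : F) ≠ 0)
    (htr : t ^ r = 1) (hfix : ∀ x, t x = x → x = 0) :
    (∃ (Z : Submodule F V) (hZ : ∀ v ∈ Z, t v ∈ Z), Z ≠ ⊥ ∧
      Disjoint Z (LinearMap.BilinForm.orthogonal B Z) ∧
      ∀ U₀ : Submodule F Z, (∀ w ∈ U₀, (t.restrict hZ) w ∈ U₀) → U₀ = ⊥ ∨ U₀ = ⊤) ∨
    (∃ (U U' : Submodule F V) (k : ℕ), Odd k ∧ (∀ v ∈ U, t v ∈ U) ∧ (∀ v ∈ U', t v ∈ U') ∧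
      (∀ u ∈ U, ∀ v ∈ U, B u v = 0) ∧ (∀ u ∈ U', ∀ v ∈ U', B u v = 0) ∧ Disjoint U U' ∧
      finrank F U = k ∧ finrank F U' = k ∧
      (∀ u ∈ U, (∀ y ∈ U', B u y = 0) → u = 0) ∧ (∀ y ∈ U', (∀ u ∈ U, B u y = 0) → y = 0)) := by
  classical
  haveI : Finite V := Module.finite_of_finite F
  have hr0 : r ≠ 0 := hr.ne_zero
  obtain ⟨U, -, hU0, hU, hUirr⟩ := exists_min_invariant t _ ⊤ rfl top_ne_bot (fun v _ => trivial)
  haveI hUnt : Nontrivial U := (Submodule.nontrivial_iff_ne_bot).mpr hU0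
  obtain ⟨R, hR⟩ : ∃ R : Submodule F V, R = U ⊓ LinearMap.BilinForm.orthogonal B U := ⟨_, rfl⟩
  have hRle : R ≤ U := by rw [hR]; exact inf_le_left
  have hRinv : ∀ v ∈ R, t v ∈ R := by
    intro v hv
    rw [hR] at hv ⊢
    exact ⟨hU v hv.1, orthogonal_invariant B t hiso r hr0 htr U hU v hv.2⟩
  have hkpos : 0 < finrank F U := Module.finrank_pos
  rcases hUirr R hRle hRinv with hRb | hRU
  · left
    refine ⟨U, hU, hU0, ?_, irr_subtype t U hU hUirr⟩
    rw [disjoint_iff, ← hR]
    exact hRb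
  · have hUti : ∀ u ∈ U, ∀ v ∈ U, B u v = 0 := by
      intro u hu v hv
      have hv' : v ∈ R := by rw [hRU]; exact hv
      rw [hR] at hv'
      exact (LinearMap.BilinForm.mem_orthogonal_iff.mp hv'.2) u hu
    obtain ⟨U', hU', hU'ti, hdUU', hfrU', hQ1, hQ2⟩ :=
      exists_isotropic_partner B hsym hnd h2 t hiso r hrF htr U hU hUti
    rcases Nat.even_or_odd (finrank F U) with hev | hodd
    · left
      obtain ⟨j, hj⟩ := hev
      have hj1 : 1 ≤ j := by omega
      obtain ⟨s, hs⟩ : ∃ s : End F U, s = t.restrict hU := ⟨_, rfl⟩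
      have hsirr : ∀ U₀ : Submodule F U, (∀ w ∈ U₀, s w ∈ U₀) → U₀ = ⊥ ∨ U₀ = ⊤ := by
        rw [hs]
        exact irr_subtype t U hU hUirr
      haveI hfact : Fact (Irreducible (minpoly F s)) := ⟨irreducible_minpoly s hsirr⟩
      have hsr : s ^ r = 1 := by
        rw [hs]
        exact restrict_pow_eq_one t U hU r (fun v _ => by rw [htr, Module.End.one_apply])
      have hs1 : s ≠ 1 := by
        intro h
        obtain ⟨x, hx⟩ := exists_ne (0 : U)
        apply hx
        apply Subtype.ext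
        apply hfix
        have := congrArg (fun g : End F U => ((g x : U) : V)) h
        simp only [Module.End.one_apply] at this
        rw [hs] at this
        exact this
      have hNT := aeval_sinv_eq_zero s hsirr r hr hsr hs1 j hj1 (by rw [hj]; ring)
      -- the inverse of `t`
      obtain ⟨ti, hti⟩ : ∃ ti : End F V, ti = t ^ (r - 1) := ⟨_, rfl⟩
      have htti : ∀ v, t (ti v) = v := by
        intro v
        rw [hti]
        exact inv_apply_of_pow t r hr0 htr v
      have htiU : ∀ v ∈ U, ti v ∈ U := by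
        intro v hv
        rw [hti]
        exact pow_mem_of_invariant t U hU _ v hv
      have hsti : s * ti.restrict htiU = 1 := by
        apply LinearMap.ext
        intro x
        apply Subtype.ext
        rw [hs]
        exact htti x
      have hroot0 : AdjoinRoot.root (minpoly F s) ≠ 0 := by
        intro h
        have h3 : (AdjoinRoot.root (minpoly F s)) ^ r = 1 := (root_pow_eq_one_iff s r).mpr hsr
        rw [h, zero_pow hr0] at h3
        exact zero_ne_one h3
      have hsinvs : sinv s * s = 1 := by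
        have h1 : ev s ((AdjoinRoot.root (minpoly F s))⁻¹ * AdjoinRoot.root (minpoly F s)) = 1 := by
          rw [inv_mul_cancel₀ hroot0, map_one]
        rw [map_mul, ev_root] at h1
        exact h1
      have hsinv : sinv s = ti.restrict htiU := by
        calc sinv s = sinv s * (s * ti.restrict htiU) := by rw [hsti, mul_one]
          _ = (sinv s * s) * ti.restrict htiU := by rw [mul_assoc]
          _ = ti.restrict htiU := by rw [hsinvs, one_mul]
      have hker1 : ∀ u ∈ U, (Polynomial.aeval ti (minpoly F s)) u = 0 := by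
        intro u hu
        rw [← restrict_aeval_coe ti U htiU (minpoly F s) ⟨u, hu⟩, ← hsinv, hNT]
        rfl
      have hker2 : ∀ u ∈ U, (Polynomial.aeval t (minpoly F s)) u = 0 := by
        intro u hu
        have := restrict_aeval_coe t U hU (minpoly F s) ⟨u, hu⟩
        rw [← hs, minpoly.aeval] at this
        exact this.symm
      have hst : ∀ x y, B (ti x) y = B x (t y) := by
        intro x y
        rw [← hiso (ti x) y, htti]
      have hker3 : ∀ u' ∈ U', (Polynomial.aeval t (minpoly F s)) u' = 0 := by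
        intro u' hu'
        apply hQ2 _ (aeval_mem_of_invariant t U' hU' _ u' hu')
        intro u hu
        have h3 := adj_aeval B ti t hst (minpoly F s) u u'
        rw [← h3, hker1 u hu]
        simp
      obtain ⟨u, hu, hu0⟩ := Submodule.exists_mem_ne_zero_of_ne_bot hU0
      obtain ⟨y, hy, huy⟩ : ∃ y ∈ U', B u y ≠ 0 := by
        by_contra hcon
        push Not at hcon
        exact hu0 (hQ1 u hu hcon)
      have hhh : B (u + y) (u + y) ≠ 0 := by
        rw [bilin_expand, hUti u hu u hu, hU'ti y hy y hy, hsym y u]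
        intro h
        have : (2 : F) * B u y = 0 := by linear_combination h
        rcases mul_eq_zero.mp this with h3 | h3
        · exact h2 h3
        · exact huy h3
      have hfh : (Polynomial.aeval t (minpoly F s)) (u + y) = 0 := by
        rw [map_add, hker2 u hu, hker3 y hy, add_zero]
      obtain ⟨Z, hZinv, hZ0, hZdisj, hZirr⟩ := exists_irr_of_aeval_zero B t hiso r hr0 htr
        (minpoly F s) hfact.out (u + y) hfh hhh
      exact ⟨Z, hZinv, hZ0, hZdisj, irr_subtype t Z hZinv hZirr⟩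
    · right
      exact ⟨U, U', finrank F U, hodd, hU, hU', hUti, hU'ti, hdUU', rfl, hfrU', hQ1, hQ2⟩

end full

end Cfsg.Agent.Lib.Helper1.Cf
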