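import Mathlib
import Cfsg.Prelude
import Cfsg.Agent.Lib.Helper1.CfE
import Cfsg.Agent.Lib.Helper5.SpinorNorm
import Cfsg.Agent.Lib.Helper5.SpinorHyp

/-!
# The isometry `a ⊕ a⁻¹` of a hyperbolic piece as a product of reflections
-/

set_option autoImplicit false
set_option maxHeartbeats 4000000
set_option linter.unusedSimpArgs false
set_option linter.unusedVariables false
set_option linter.unusedSectionVars false
set_option linter.style.haveILetI false

namespace Cfsg.Agent.Lib.Helper1.Cf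

open Module Matrix QuadraticMap
open Cfsg
open Cfsg.Agent.Lib.Helper5.SpinorNorm Cfsg.Agent.Lib.Helper5.Refl

section dual

variable {F : Type*} [Field F] {V : Type*} [AddCommGroup V] [Module F V] [FiniteDimensional F V]

/-- dual families of two totally isotropic subspaces in perfect duality -/
theorem exists_dual_family' (B : LinearMap.BilinForm F V) (hsym : ∀ x y, B x y = B y x)
    (U U' : Submodule F V) (hUti : ∀ u ∈ U, ∀ v ∈ U, B u v = 0)
    (hU'ti : ∀ u ∈ U', ∀ v ∈ U', B u v = 0) (n : ℕ) (hUn : finrank F U = n)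
    (hU'n : finrank F U' = n) (hQ2 : ∀ y ∈ U', (∀ u ∈ U, B u y = 0) → y = 0) :
    ∃ E Fv : Fin n → V, (∀ i, E i ∈ U) ∧ (∀ i, Fv i ∈ U') ∧ (∀ i j, B (E i) (E j) = 0) ∧
      (∀ i j, B (Fv i) (Fv j) = 0) ∧ (∀ i j, B (E i) (Fv j) = if i = j then 1 else 0) ∧
      (∀ u ∈ U, u ∈ Submodule.span F (Set.range E)) ∧
      (∀ u' ∈ U', u' ∈ Submodule.span F (Set.range Fv)) := by
  classical
  obtain ⟨e, he⟩ : ∃ e : Basis (Fin n) F U, True := ⟨Module.finBasisOfFinrankEq F U hUn, trivial⟩
  obtain ⟨Ψ, hΨ⟩ : ∃ Ψ : U' →ₗ[F] (Fin n → F), ∀ (u' : U') (i : Fin n),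
      Ψ u' i = B ((e i : U) : V) (u' : V) :=
    ⟨LinearMap.pi (fun i => (B ((e i : U) : V)) ∘ₗ U'.subtype), fun u' i => rfl⟩
  have hUspan : ∀ (u' : V), (∀ i, B ((e i : U) : V) u' = 0) → ∀ u ∈ U, B u u' = 0 := by
    intro u' h u hu
    have h3 : ((B u') ∘ₗ U.subtype : U →ₗ[F] F) = 0 := by
      apply e.ext
      intro i
      rw [LinearMap.comp_apply, Submodule.subtype_apply, hsym, h, LinearMap.zero_apply]
    have := LinearMap.congr_fun h3 ⟨u, hu⟩
    rw [LinearMap.comp_apply, Submodule.subtype_apply, LinearMap.zero_apply] at this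
    rw [hsym]
    exact this
  have hΨinj : Function.Injective Ψ := by
    rw [injective_iff_map_eq_zero]
    intro u' hu'
    apply Subtype.ext
    apply hQ2 u' u'.2
    have h4 : ∀ i, B ((e i : U) : V) (u' : V) = 0 := by
      intro i
      rw [← hΨ, hu']
      rfl
    exact hUspan _ h4
  have hfr : finrank F U' = finrank F (Fin n → F) := by
    rw [hU'n, Module.finrank_fin_fun]
  have hΨsurj : Function.Surjective Ψ :=
    (LinearMap.injective_iff_surjective_of_finrank_eq_finrank hfr).mp hΨinj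
  choose f hf using fun j : Fin n => hΨsurj (Pi.single j 1)
  have hEF : ∀ i j, B ((e i : U) : V) ((f j : U') : V) = if i = j then 1 else 0 := by
    intro i j
    rw [← hΨ, hf, Pi.single_apply]
  refine ⟨fun i => ((e i : U) : V), fun j => ((f j : U') : V), fun i => (e i).2,
    fun j => (f j).2, ?_, ?_, hEF, ?_, ?_⟩
  · intro i j
    exact hUti _ (e i).2 _ (e j).2
  · intro i j
    exact hU'ti _ (f i).2 _ (f j).2
  · intro u hu
    have h5 : (⟨u, hu⟩ : U) ∈ Submodule.span F (Set.range e) := by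
      rw [e.span_eq]
      trivial
    have h6 := Submodule.mem_map_of_mem (f := U.subtype) h5
    rw [Submodule.map_span, ← Set.range_comp] at h6
    exact h6
  · intro u' hu'
    have h7 : (⟨u', hu'⟩ : U') = ∑ j, (Ψ ⟨u', hu'⟩ j) • f j := by
      apply hΨinj
      rw [map_sum]
      have : ∀ j ∈ Finset.univ, Ψ ((Ψ ⟨u', hu'⟩ j) • f j) = Pi.single j (Ψ ⟨u', hu'⟩ j) := by
        intro j _
        rw [map_smul, hf]
        ext i
        rw [Pi.smul_apply, Pi.single_apply, Pi.single_apply, smul_eq_mul]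
        split_ifs <;> simp
      rw [Finset.sum_congr rfl this, Finset.univ_sum_single]
    have h8 : u' = ∑ j, (Ψ ⟨u', hu'⟩ j) • ((f j : U') : V) := by
      have := congrArg Subtype.val h7
      simpa using this
    rw [h8]
    apply Submodule.sum_mem
    intro j _
    exact Submodule.smul_mem _ _ (Submodule.subset_span ⟨j, rfl⟩)

end dual

section pair

variable {ι : Type} [Fintype ι] [DecidableEq ι] {F : Type*} [Field F]
  (Q : QuadraticForm F (ι → F))

/-- the product of the reflections in `e - f` and `e - a f` for a hyperbolic pair `e, f` -/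
theorem pair_mulVec (h2 : (2 : F) ≠ 0) (a : F) (ha : a ≠ 0) (e f : ι → F) (he : Q e = 0)
    (hf : Q f = 0) (hef : polar ⇑Q e f = 1) (x : ι → F) :
    reflectionMatrix ⇑Q (e - f) *ᵥ (reflectionMatrix ⇑Q (e - a • f) *ᵥ x) =
      x + ((a - 1) * polar ⇑Q f x) • e + ((a⁻¹ - 1) * polar ⇑Q e x) • f := by
  have hfe : polar ⇑Q f e = 1 := by rw [polar_comm]; exact hef
  have hee : polar ⇑Q e e = 0 := by
    rw [polar_self, he]
    simp
  have hff : polar ⇑Q f f = 0 := by
    rw [polar_self, hf]
    simp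
  have hQ1 : Q (e - f) = -1 := by
    rw [sub_eq_add_neg, QuadraticMap.map_add (⇑Q), QuadraticMap.map_neg, he, hf, polar_neg_right,
      hef]
    ring
  have hQ2 : Q (e - a • f) = -a := by
    rw [sub_eq_add_neg, QuadraticMap.map_add (⇑Q), QuadraticMap.map_neg, QuadraticMap.map_smul,
      he, hf, polar_neg_right, polar_smul_right, hef]
    simp
  obtain ⟨α, hα⟩ : ∃ α, α = polar ⇑Q e x := ⟨_, rfl⟩
  obtain ⟨β, hβ⟩ : ∃ β, β = polar ⇑Q f x := ⟨_, rfl⟩
  have hy : reflectionMatrix ⇑Q (e - a • f) *ᵥ x = x + (a⁻¹ * (α - a * β)) • (e - a • f) := by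
    rw [reflectionMatrix_mulVec, hQ2, polar_sub_left, polar_smul_left, ← hα, ← hβ, smul_eq_mul,
      sub_eq_add_neg, ← neg_smul]
    congr 2
    field_simp
  have hpy : polar ⇑Q (e - f) (x + (a⁻¹ * (α - a * β)) • (e - a • f)) = a * β - a⁻¹ * α := by
    rw [polar_add_right, polar_smul_right, polar_sub_left, polar_sub_left, polar_sub_right,
      polar_sub_right, polar_smul_right, polar_smul_right, hee, hff, hef, hfe, ← hα, ← hβ]
    simp only [smul_eq_mul]
    field_simp
    ring
  rw [hy, reflectionMatrix_mulVec, hQ1, hpy, ← hα, ← hβ]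
  ext i
  simp only [Pi.add_apply, Pi.sub_apply, Pi.smul_apply, smul_eq_mul]
  field_simp
  ring

/-- the list of reflection vectors attached to a list of indices -/
def pairList (a : F) {k : ℕ} (E Fv : Fin k → (ι → F)) : List (Fin k) → List (ι → F)
  | [] => []
  | i :: l => (E i - Fv i) :: (E i - a • Fv i) :: pairList a E Fv l

/-- the correction term -/
def pairTerm (a : F) {k : ℕ} (E Fv : Fin k → (ι → F)) (x : ι → F) (i : Fin k) : ι → F :=
  ((a - 1) * polar ⇑Q (Fv i) x) • E i + ((a⁻¹ - 1) * polar ⇑Q (E i) x) • Fv i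

variable {Q}

theorem polar_list_sum (v : ι → F) (l : List (ι → F)) :
    polar ⇑Q v l.sum = (l.map (polar ⇑Q v)).sum := by
  induction l with
  | nil => simp
  | cons w l ih => rw [List.sum_cons, polar_add_right, ih, List.map_cons, List.sum_cons]

theorem pairList_props (h2 : (2 : F) ≠ 0) (a : F) (ha : a ≠ 0) {k : ℕ} (E Fv : Fin k → (ι → F))
    (hEE : ∀ i j, polar ⇑Q (E i) (E j) = 0) (hFF : ∀ i j, polar ⇑Q (Fv i) (Fv j) = 0)
    (hEF : ∀ i j, polar ⇑Q (E i) (Fv j) = if i = j then 1 else 0) (l : List (Fin k))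
    (hl : l.Nodup) :
    (∀ v ∈ pairList a E Fv l, Q v ≠ 0) ∧ (pairList a E Fv l).length = 2 * l.length ∧
      ((pairList a E Fv l).map Q).prod = a ^ l.length ∧
      ∀ x, rprod Q (pairList a E Fv l) *ᵥ x = x + (l.map (pairTerm Q a E Fv x)).sum := by
  have hQ0 : ∀ y : ι → F, polar ⇑Q y y = 0 → Q y = 0 := by
    intro y hy
    rw [QuadraticMap.polar_self] at hy
    simp only [nsmul_eq_mul, Nat.cast_ofNat] at hy
    exact (mul_eq_zero.mp hy).resolve_left h2
  have hQE : ∀ i, Q (E i) = 0 := fun i => hQ0 _ (hEE i i)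
  have hQF : ∀ i, Q (Fv i) = 0 := fun i => hQ0 _ (hFF i i)
  have hFE : ∀ i j, polar ⇑Q (Fv i) (E j) = if i = j then 1 else 0 := by
    intro i j
    rw [polar_comm, hEF]
    simp only [eq_comm]
  have hQ1 : ∀ i, Q (E i - Fv i) = -1 := by
    intro i
    rw [sub_eq_add_neg, QuadraticMap.map_add (⇑Q), QuadraticMap.map_neg, hQE, hQF,
      polar_neg_right, hEF, if_pos rfl]
    ring
  have hQ2 : ∀ i, Q (E i - a • Fv i) = -a := by
    intro i
    rw [sub_eq_add_neg, QuadraticMap.map_add (⇑Q), QuadraticMap.map_neg, QuadraticMap.map_smul,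
      hQE, hQF, polar_neg_right, polar_smul_right, hEF, if_pos rfl]
    simp
  induction l with
  | nil =>
    refine ⟨?_, rfl, ?_, ?_⟩
    · intro v hv
      simp [pairList] at hv
    · simp [pairList]
    · intro x
      simp [pairList, rprod_nil]
  | cons i l ih =>
    obtain ⟨hi, hl'⟩ := List.nodup_cons.mp hl
    obtain ⟨ih1, ih2, ih3, ih4⟩ := ih hl'
    refine ⟨?_, ?_, ?_, ?_⟩
    · intro v hv
      simp only [pairList, List.mem_cons] at hv
      rcases hv with rfl | rfl | hv
      · rw [hQ1]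
        exact neg_ne_zero.mpr one_ne_zero
      · rw [hQ2]
        exact neg_ne_zero.mpr ha
      · exact ih1 v hv
    · simp only [pairList, List.length_cons, ih2]
      ring
    · simp only [pairList, List.map_cons, List.prod_cons, ih3, hQ1, hQ2, List.length_cons]
      ring
    · intro x
      have hsum0 : ∀ v : ι → F, (∀ j ∈ l, polar ⇑Q v (E j) = 0) →
          (∀ j ∈ l, polar ⇑Q v (Fv j) = 0) →
          polar ⇑Q v (l.map (pairTerm Q a E Fv x)).sum = 0 := by
        intro v h1 h3
        rw [polar_list_sum, List.map_map]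
        apply List.sum_eq_zero
        intro z hz
        obtain ⟨j, hj, rfl⟩ := List.mem_map.mp hz
        simp only [Function.comp_apply, pairTerm, polar_add_right, polar_smul_right, h1 j hj,
          h3 j hj, smul_zero, add_zero]
      have hne : ∀ j ∈ l, i ≠ j := by
        intro j hj h
        rw [h] at hi
        exact hi hj
      have hpf : polar ⇑Q (Fv i) (x + (l.map (pairTerm Q a E Fv x)).sum) = polar ⇑Q (Fv i) x := by
        rw [polar_add_right, hsum0 (Fv i) (fun j hj => by rw [hFE, if_neg (hne j hj)])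
          (fun j hj => hFF i j), add_zero]
      have hpe : polar ⇑Q (E i) (x + (l.map (pairTerm Q a E Fv x)).sum) = polar ⇑Q (E i) x := by
        rw [polar_add_right, hsum0 (E i) (fun j hj => hEE i j)
          (fun j hj => by rw [hEF, if_neg (hne j hj)]), add_zero]
      simp only [pairList]
      rw [rprod_cons, rprod_cons, ← Matrix.mulVec_mulVec, ← Matrix.mulVec_mulVec,
        ih4 x, pair_mulVec Q h2 a ha (E i) (Fv i) (hQE i) (hQF i) (by rw [hEF, if_pos rfl]), hpf,
        hpe, List.map_cons, List.sum_cons]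
      simp only [pairTerm]
      abel

/-- **the isometry `a ⊕ a⁻¹`** as a product of `2 k` reflections, the product of whose norms is
`a ^ k` -/
theorem hyp_rep (h2 : (2 : F) ≠ 0) (a : F) (ha : a ≠ 0) (k : ℕ) (E Fv : Fin k → (ι → F))
    (hEE : ∀ i j, polar ⇑Q (E i) (E j) = 0) (hFF : ∀ i j, polar ⇑Q (Fv i) (Fv j) = 0)
    (hEF : ∀ i j, polar ⇑Q (E i) (Fv j) = if i = j then 1 else 0) :
    ∃ vs : List (ι → F), (∀ v ∈ vs, Q v ≠ 0) ∧ Even vs.length ∧ (vs.map Q).prod = a ^ k ∧
      (∀ j, rprod Q vs *ᵥ E j = a • E j) ∧ (∀ j, rprod Q vs *ᵥ Fv j = a⁻¹ • Fv j) ∧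
      (∀ w, (∀ i, polar ⇑Q (E i) w = 0) → (∀ i, polar ⇑Q (Fv i) w = 0) →
        rprod Q vs *ᵥ w = w) := by
  obtain ⟨h1, h3, h4, h5⟩ := pairList_props (Q := Q) h2 a ha E Fv hEE hFF hEF (List.finRange k)
    (List.nodup_finRange k)
  rw [List.length_finRange] at h3 h4
  have hFE : ∀ i j, polar ⇑Q (Fv i) (E j) = if i = j then 1 else 0 := by
    intro i j
    rw [polar_comm, hEF]
    simp only [eq_comm]
  have hsum : ∀ x, ((List.finRange k).map (pairTerm Q a E Fv x)).sum =
      ∑ i, pairTerm Q a E Fv x i := by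
    intro x
    rw [← List.ofFn_eq_map, List.sum_ofFn]
  refine ⟨pairList a E Fv (List.finRange k), h1, ⟨k, by rw [h3]; ring⟩, h4, ?_, ?_, ?_⟩
  · intro j
    rw [h5, hsum, Finset.sum_eq_single j]
    · simp only [pairTerm, hFE, hEE, if_pos, mul_one, mul_zero, zero_smul, add_zero]
      rw [sub_smul, one_smul, add_sub_cancel]
    · intro i _ hij
      simp only [pairTerm, hFE, hEE, if_neg hij, mul_zero, zero_smul, add_zero]
    · intro h
      exact absurd (Finset.mem_univ j) h
  · intro j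
    rw [h5, hsum, Finset.sum_eq_single j]
    · simp only [pairTerm, hFF, hEF, if_pos, mul_one, mul_zero, zero_smul, zero_add]
      rw [sub_smul, one_smul, add_sub_cancel]
    · intro i _ hij
      simp only [pairTerm, hFF, hEF, if_neg hij, mul_zero, zero_smul, add_zero]
    · intro h
      exact absurd (Finset.mem_univ j) h
  · intro w hw1 hw2
    rw [h5, hsum]
    simp only [pairTerm, hw1, hw2, mul_zero, zero_smul, add_zero, Finset.sum_const_zero]

end pair

end Cfsg.Agent.Lib.Helper1.Cf
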