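import Mathlib
import Cfsg.Prelude
import Cfsg.Agent.Lib.Helper1.CfF
import Cfsg.Agent.Lib.Helper5.ReflClass

/-!
# An element of `SO ∖ Ω` centralizing a semisimple isometry of odd prime order (Claim B)
-/

set_option autoImplicit false
set_option maxHeartbeats 4000000
set_option linter.unusedSimpArgs false
set_option linter.unusedVariables false
set_option linter.unusedSectionVars false
set_option linter.style.haveILetI false

namespace Cfsg.Agent.Lib.Helper1.Cf

open Module Matrix QuadraticMap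
open Cfsg
open Cfsg.Agent.Lib.Helper1.Bc Cfsg.Agent.Lib.Helper1.Pg
open Cfsg.Agent.Lib.Helper5.SpinorNorm Cfsg.Agent.Lib.Helper5.CartanDieudonne
  Cfsg.Agent.Lib.Helper5.Refl Cfsg.Agent.Lib.Helper5.HalfTorus Cfsg.Agent.Lib.Helper5.SpinorHyp

section claimB

variable {ι : Type} [Fintype ι] [DecidableEq ι] {F : Type*} [Field F] [Fintype F]

theorem reflection_congr (Q : QuadraticForm F (ι → F)) {v v' : ι → F} (h : v = v')
    (hv : Q v ≠ 0) (hv' : Q v' ≠ 0) : reflection Q v hv = reflection Q v' hv' := by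
  subst h
  rfl

theorem reflection_comm_of_fix (Q : QuadraticForm F (ι → F)) (T : ↥(isometryGroup F ⇑Q))
    (v : ι → F) (hv : Q v ≠ 0) (hTv : act Q T v = v) :
    reflection Q v hv * T = T * reflection Q v hv := by
  have h1 : T * reflection Q v hv * T⁻¹ = reflection Q v hv := by
    rw [conj_reflection]
    exact reflection_congr Q hTv _ hv
  calc reflection Q v hv * T = (T * reflection Q v hv * T⁻¹) * T := by rw [h1]
    _ = T * reflection Q v hv := by group

theorem not_isSquare_pow_odd (ν : F) (hν0 : ν ≠ 0) (hν : ¬ IsSquare ν) (k : ℕ) (hk : Odd k) :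
    ¬ IsSquare (ν ^ k) := by
  obtain ⟨j, rfl⟩ := hk
  rintro ⟨z, hz⟩
  apply hν
  refine ⟨z / ν ^ j, ?_⟩
  have : ν ^ j ≠ 0 := pow_ne_zero _ hν0
  field_simp
  linear_combination hz

/-- two reflections in the fixed space -/
theorem nonOmega_of_fixed (Q : QuadraticForm F (ι → F)) (h2 : (2 : F) ≠ 0)
    (T : ↥(isometryGroup F ⇑Q)) (u v : ι → F) (hu : Q u ≠ 0) (hv : Q v ≠ 0)
    (huv : polar ⇑Q u v = 0) (hTu : act Q T u = u) (hTv : act Q T v = v) :
    ∃ (b : ↥(isometryGroup F ⇑Q)) (vs : List (ι → F)), IsRep Q b vs ∧ Even vs.length ∧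
      ¬ IsSquare (vs.map Q).prod ∧ b * T = T * b := by
  obtain ⟨ν, hν0, hν⟩ := exists_nonsquare (F := F) h2
  obtain ⟨x, y, hxy⟩ := Cfsg.Agent.Lib.Helper5.ReflClass.exists_diag_rep h2 (Q u) (Q v) (ν * Q u)
    hu hv
  obtain ⟨w, hw⟩ : ∃ w, w = x • u + y • v := ⟨_, rfl⟩
  have hQw : Q w = ν * Q u := by
    rw [hw, QuadraticMap.map_add (⇑Q), QuadraticMap.map_smul, QuadraticMap.map_smul,
      polar_smul_left, polar_smul_right, huv, ← hxy]
    simp only [smul_eq_mul, mul_zero, add_zero]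
    ring
  have hw0 : Q w ≠ 0 := by rw [hQw]; exact mul_ne_zero hν0 hu
  have hTw : act Q T w = w := by
    show _ *ᵥ w = w
    rw [hw, Matrix.mulVec_add, Matrix.mulVec_smul, Matrix.mulVec_smul]
    have e1 : ((T : Matrix.GeneralLinearGroup ι F) : Matrix ι ι F) *ᵥ u = u := hTu
    have e2 : ((T : Matrix.GeneralLinearGroup ι F) : Matrix ι ι F) *ᵥ v = v := hTv
    rw [e1, e2]
  refine ⟨reflection Q u hu * reflection Q w hw0, [u] ++ [w],
    isRep_mul Q (isRep_reflection Q u hu) (isRep_reflection Q w hw0), ⟨1, rfl⟩, ?_, ?_⟩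
  · simp only [List.singleton_append, List.map_cons, List.map_nil, List.prod_cons, List.prod_nil,
      mul_one]
    rw [hQw]
    rintro ⟨z, hz⟩
    apply hν
    refine ⟨z / Q u, ?_⟩
    field_simp
    linear_combination hz
  · rw [mul_assoc, reflection_comm_of_fix Q T w hw0 hTw, ← mul_assoc,
      reflection_comm_of_fix Q T u hu hTu, mul_assoc]

/-- the torus element on an irreducible piece -/
theorem nonOmega_of_irr (Q : QuadraticForm F (ι → F)) (h2 : (2 : F) ≠ 0)
    (T : ↥(isometryGroup F ⇑Q)) (r : ℕ) (hro : Odd r) (X : End F (ι → F))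
    (hX : ∀ v, X v = ((T : Matrix.GeneralLinearGroup ι F) : Matrix ι ι F) *ᵥ v)
    (hiso : ∀ x y, polarBilin Q (X x) (X y) = polarBilin Q x y) (hXr : X ^ r = 1)
    (Z : Submodule F (ι → F)) (hZ : ∀ v ∈ Z, X v ∈ Z) (hZ0 : Z ≠ ⊥)
    (hdisj : Disjoint Z (LinearMap.BilinForm.orthogonal (polarBilin Q) Z))
    (hirr : ∀ U₀ : Submodule F Z, (∀ w ∈ U₀, (X.restrict hZ) w ∈ U₀) → U₀ = ⊥ ∨ U₀ = ⊤)
    (hfix : ∀ x, X x = x → x = 0) :
    ∃ (b : ↥(isometryGroup F ⇑Q)) (vs : List (ι → F)), IsRep Q b vs ∧ Even vs.length ∧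
      ¬ IsSquare (vs.map Q).prod ∧ b * T = T * b := by
  classical
  have hr0 : r ≠ 0 := by
    rintro rfl
    obtain ⟨j, hj⟩ := hro
    omega
  have hsym : ∀ x y, polarBilin Q x y = polarBilin Q y x := fun x y => polar_comm _ _ _
  obtain ⟨V₂, hV₂⟩ : ∃ V₂ : Submodule F (ι → F),
      V₂ = LinearMap.BilinForm.orthogonal (polarBilin Q) Z := ⟨_, rfl⟩
  have hcompl : IsCompl Z V₂ := by
    rw [hV₂]
    exact (LinearMap.BilinForm.isCompl_orthogonal_iff_disjoint
      (LinearMap.BilinForm.IsSymm.isRefl ⟨hsym⟩)).mpr hdisj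
  have horth : ∀ v ∈ Z, ∀ w ∈ V₂, polar ⇑Q v w = 0 := by
    intro v hv w hw
    rw [hV₂] at hw
    exact (LinearMap.BilinForm.mem_orthogonal_iff.mp hw) v hv
  have hV₂inv : ∀ w ∈ V₂, X w ∈ V₂ := by
    rw [hV₂]
    exact orthogonal_invariant (polarBilin Q) X hiso r hr0 hXr Z hZ
  haveI hnt : Nontrivial Z := (Submodule.nontrivial_iff_ne_bot).mpr hZ0
  obtain ⟨B₁, hB₁⟩ : ∃ B₁ : LinearMap.BilinForm F Z,
      ∀ x y : Z, B₁ x y = polar ⇑Q (x : ι → F) (y : ι → F) :=
    ⟨LinearMap.BilinForm.restrict (polarBilin Q) Z, fun x y => rfl⟩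
  obtain ⟨s, hs⟩ : ∃ s : End F Z, s = X.restrict hZ := ⟨_, rfl⟩
  rw [← hs] at hirr
  have hscoe : ∀ x : Z, ((s x : Z) : ι → F) = X (x : ι → F) := by
    intro x
    rw [hs]
    rfl
  have hsym₁ : ∀ x y, B₁ x y = B₁ y x := by
    intro x y
    rw [hB₁, hB₁, polar_comm]
  have hnd₁ : ∀ x, (∀ y, B₁ x y = 0) → x = 0 := by
    intro x hx
    apply Subtype.ext
    have h3 : (x : ι → F) ∈ Z ⊓ LinearMap.BilinForm.orthogonal (polarBilin Q) Z := by
      refine Submodule.mem_inf.mpr ⟨x.2, ?_⟩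
      rw [LinearMap.BilinForm.mem_orthogonal_iff]
      intro n hn
      show polar ⇑Q n (x : ι → F) = 0
      rw [polar_comm, ← hB₁ x ⟨n, hn⟩]
      exact hx ⟨n, hn⟩
    rw [hdisj.eq_bot] at h3
    exact (Submodule.mem_bot F).mp h3
  have hiso₁ : ∀ x y, B₁ (s x) (s y) = B₁ x y := by
    intro x y
    rw [hB₁, hB₁, hscoe, hscoe]
    exact hiso _ _
  haveI hfact : Fact (Irreducible (minpoly F s)) := ⟨irreducible_minpoly s hirr⟩
  have hsr : s ^ r = 1 := by
    rw [hs]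
    exact restrict_pow_eq_one X Z hZ r (fun v _ => by rw [hXr, Module.End.one_apply])
  have hsfix : ∀ x : Z, s x = x → x = 0 := by
    intro x hx
    apply Subtype.ext
    apply hfix
    rw [← hscoe, hx]
  have hs2 : s * s ≠ 1 := by
    intro h
    obtain ⟨j, hj⟩ := hro
    have h3 : s = 1 := by
      have h4 : s ^ r = s := by
        rw [hj, pow_succ, pow_mul, pow_two, h, one_pow, one_mul]
      rw [← h4, hsr]
    obtain ⟨x, hx⟩ := exists_ne (0 : Z)
    exact hx (hsfix x (by rw [h3, Module.End.one_apply]))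
  haveI : Finite (KK s) := finite_KK s
  have h2K : (2 : KK s) ≠ 0 := two_ne_zero_K h2
  obtain ⟨μ, hμ0, hμns⟩ := exists_nonsquare (F := KK s) h2K
  obtain ⟨vs, hvs, heven, hact, hsq⟩ := line_rep Q h2 Z V₂ horth B₁ hB₁ s hsym₁ hnd₁ hiso₁ hirr hs2
    μ hμ0
  obtain ⟨lam, hlam⟩ : ∃ lam : KK s, lam = μ / tauK B₁ s hsym₁ hnd₁ hiso₁ μ := ⟨_, rfl⟩
  rw [← hlam] at hact
  have hcomm : ev s lam * s = s * ev s lam := by
    calc ev s lam * s = ev s lam * ev s (AdjoinRoot.root (minpoly F s)) := by rw [ev_root]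
      _ = ev s (lam * AdjoinRoot.root (minpoly F s)) := (map_mul _ _ _).symm
      _ = ev s (AdjoinRoot.root (minpoly F s) * lam) := by rw [mul_comm]
      _ = ev s (AdjoinRoot.root (minpoly F s)) * ev s lam := map_mul _ _ _
      _ = s * ev s lam := by rw [ev_root]
  have hrep := isRep_ofList Q vs hvs
  refine ⟨ofList Q vs, vs, hrep, heven, fun h => hμns (hsq h), ?_⟩
  apply Subtype.ext
  apply Units.ext
  show ((ofList Q vs : Matrix.GeneralLinearGroup ι F) : Matrix ι ι F) *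
      ((T : Matrix.GeneralLinearGroup ι F) : Matrix ι ι F) =
    ((T : Matrix.GeneralLinearGroup ι F) : Matrix ι ι F) *
      ((ofList Q vs : Matrix.GeneralLinearGroup ι F) : Matrix ι ι F)
  rw [hrep.2]
  apply matrix_eq_of_isCompl Z V₂ hcompl
  intro v₁ hv₁ w hw
  rw [← Matrix.mulVec_mulVec, ← Matrix.mulVec_mulVec, Matrix.mulVec_add, ← hX, ← hX]
  have e1 : X v₁ = ((s ⟨v₁, hv₁⟩ : Z) : ι → F) := (hscoe ⟨v₁, hv₁⟩).symm
  have e2 := hact ⟨v₁, hv₁⟩ w hw
  simp only [] at e2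
  rw [e1, hact (s ⟨v₁, hv₁⟩) (X w) (hV₂inv w hw), e2, ← hX, map_add, ← hscoe,
    ← Module.End.mul_apply, ← Module.End.mul_apply, hcomm]

/-- the element `ν ⊕ ν⁻¹` on a hyperbolic piece of odd rank -/
theorem nonOmega_of_hyp (Q : QuadraticForm F (ι → F)) (h2 : (2 : F) ≠ 0)
    (T : ↥(isometryGroup F ⇑Q)) (r : ℕ) (hr0 : r ≠ 0) (X : End F (ι → F))
    (hX : ∀ v, X v = ((T : Matrix.GeneralLinearGroup ι F) : Matrix ι ι F) *ᵥ v)
    (hiso : ∀ x y, polarBilin Q (X x) (X y) = polarBilin Q x y) (hXr : X ^ r = 1)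
    (U U' : Submodule F (ι → F)) (k : ℕ) (hk : Odd k) (hU : ∀ v ∈ U, X v ∈ U)
    (hU' : ∀ v ∈ U', X v ∈ U') (hUti : ∀ u ∈ U, ∀ v ∈ U, polarBilin Q u v = 0)
    (hU'ti : ∀ u ∈ U', ∀ v ∈ U', polarBilin Q u v = 0) (hfrU : finrank F U = k)
    (hfrU' : finrank F U' = k)
    (hQ1 : ∀ u ∈ U, (∀ y ∈ U', polarBilin Q u y = 0) → u = 0)
    (hQ2 : ∀ y ∈ U', (∀ u ∈ U, polarBilin Q u y = 0) → y = 0) :
    ∃ (b : ↥(isometryGroup F ⇑Q)) (vs : List (ι → F)), IsRep Q b vs ∧ Even vs.length ∧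
      ¬ IsSquare (vs.map Q).prod ∧ b * T = T * b := by
  classical
  have hsym : ∀ x y, polarBilin Q x y = polarBilin Q y x := fun x y => polar_comm _ _ _
  obtain ⟨E, Fv, hEU, hFU', hEE, hFF, hEF, hspanE, hspanF⟩ :=
    exists_dual_family' (polarBilin Q) hsym U U' hUti hU'ti k hfrU hfrU' hQ2
  obtain ⟨ν, hν0, hν⟩ := exists_nonsquare (F := F) h2
  obtain ⟨vs, hvs, heven, hprod, hE, hF, hfixw⟩ := hyp_rep (Q := Q) h2 ν hν0 k E Fv
    (fun i j => hEE i j) (fun i j => hFF i j) (fun i j => hEF i j)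
  have hactS : ∀ u ∈ Submodule.span F (Set.range E), rprod Q vs *ᵥ u = ν • u := by
    intro u h3
    induction h3 using Submodule.span_induction with
    | mem x hx =>
      obtain ⟨j, rfl⟩ := hx
      exact hE j
    | zero => rw [Matrix.mulVec_zero, smul_zero]
    | add x y _ _ hx hy => rw [Matrix.mulVec_add, hx, hy, smul_add]
    | smul c x _ hx => rw [Matrix.mulVec_smul, hx, smul_comm]
  have hactS' : ∀ u ∈ Submodule.span F (Set.range Fv), rprod Q vs *ᵥ u = ν⁻¹ • u := by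
    intro u h3
    induction h3 using Submodule.span_induction with
    | mem x hx =>
      obtain ⟨j, rfl⟩ := hx
      exact hF j
    | zero => rw [Matrix.mulVec_zero, smul_zero]
    | add x y _ _ hx hy => rw [Matrix.mulVec_add, hx, hy, smul_add]
    | smul c x _ hx => rw [Matrix.mulVec_smul, hx, smul_comm]
  have hactU : ∀ u ∈ U, rprod Q vs *ᵥ u = ν • u := fun u hu => hactS u (hspanE u hu)
  have hactU' : ∀ u ∈ U', rprod Q vs *ᵥ u = ν⁻¹ • u := fun u hu => hactS' u (hspanF u hu)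
  obtain ⟨W, hWdef⟩ : ∃ W : Submodule F (ι → F), W = U ⊔ U' := ⟨_, rfl⟩
  have hUW : U ≤ W := by rw [hWdef]; exact le_sup_left
  have hU'W : U' ≤ W := by rw [hWdef]; exact le_sup_right
  have hWmem : ∀ x ∈ W, ∃ u ∈ U, ∃ u' ∈ U', x = u + u' := by
    intro x hx
    rw [hWdef] at hx
    obtain ⟨y₁, hy₁, y₂, hy₂, rfl⟩ := Submodule.mem_sup.mp hx
    exact ⟨y₁, hy₁, y₂, hy₂, rfl⟩
  have hW : ∀ v ∈ W, X v ∈ W := by
    intro v hv
    obtain ⟨u, hu, u', hu', rfl⟩ := hWmem v hv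
    rw [map_add]
    exact W.add_mem (hUW (hU u hu)) (hU'W (hU' u' hu'))
  have hdisj : Disjoint W (LinearMap.BilinForm.orthogonal (polarBilin Q) W) := by
    rw [Submodule.disjoint_def]
    intro x hx hx'
    rw [LinearMap.BilinForm.mem_orthogonal_iff] at hx'
    obtain ⟨u, hu, u', hu', rfl⟩ := hWmem x hx
    have hu'0 : u' = 0 := by
      apply hQ2 u' hu'
      intro v hv
      have : polarBilin Q v (u + u') = 0 := hx' v (hUW hv)
      rw [map_add, hUti v hv u hu, zero_add] at this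
      exact this
    have hu0 : u = 0 := by
      apply hQ1 u hu
      intro y hy
      have : polarBilin Q y (u + u') = 0 := hx' y (hU'W hy)
      rw [map_add, hU'ti y hy u' hu', add_zero] at this
      rw [hsym]
      exact this
    rw [hu0, hu'0, add_zero]
  obtain ⟨V₂, hV₂⟩ : ∃ V₂ : Submodule F (ι → F),
      V₂ = LinearMap.BilinForm.orthogonal (polarBilin Q) W := ⟨_, rfl⟩
  have hcompl : IsCompl W V₂ := by
    rw [hV₂]
    exact (LinearMap.BilinForm.isCompl_orthogonal_iff_disjoint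
      (LinearMap.BilinForm.IsSymm.isRefl ⟨hsym⟩)).mpr hdisj
  have hV₂inv : ∀ w ∈ V₂, X w ∈ V₂ := by
    rw [hV₂]
    exact orthogonal_invariant (polarBilin Q) X hiso r hr0 hXr W hW
  have hactV₂ : ∀ w ∈ V₂, rprod Q vs *ᵥ w = w := by
    intro w hw
    rw [hV₂] at hw
    have h3 := LinearMap.BilinForm.mem_orthogonal_iff.mp hw
    exact hfixw w (fun i => h3 _ (hUW (hEU i))) (fun i => h3 _ (hU'W (hFU' i)))
  have hrep := isRep_ofList Q vs hvs
  refine ⟨ofList Q vs, vs, hrep, heven, ?_, ?_⟩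
  · rw [hprod]
    exact not_isSquare_pow_odd ν hν0 hν k hk
  · apply Subtype.ext
    apply Units.ext
    show ((ofList Q vs : Matrix.GeneralLinearGroup ι F) : Matrix ι ι F) *
        ((T : Matrix.GeneralLinearGroup ι F) : Matrix ι ι F) =
      ((T : Matrix.GeneralLinearGroup ι F) : Matrix ι ι F) *
        ((ofList Q vs : Matrix.GeneralLinearGroup ι F) : Matrix ι ι F)
    rw [hrep.2]
    apply matrix_eq_of_isCompl W V₂ hcompl
    intro v₁ hv₁ w hw
    obtain ⟨u, hu, u', hu', rfl⟩ := hWmem v₁ hv₁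
    have eL : (rprod Q vs * ((T : Matrix.GeneralLinearGroup ι F) : Matrix ι ι F)) *ᵥ (u + u' + w) =
        ν • X u + ν⁻¹ • X u' + X w := by
      rw [← Matrix.mulVec_mulVec, ← hX, map_add, map_add, Matrix.mulVec_add, Matrix.mulVec_add,
        hactU _ (hU u hu), hactU' _ (hU' u' hu'), hactV₂ _ (hV₂inv w hw)]
    have eR : (((T : Matrix.GeneralLinearGroup ι F) : Matrix ι ι F) * rprod Q vs) *ᵥ (u + u' + w) =
        ν • X u + ν⁻¹ • X u' + X w := by
      have e0 : rprod Q vs *ᵥ (u + u' + w) = ν • u + ν⁻¹ • u' + w := by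
        rw [Matrix.mulVec_add, Matrix.mulVec_add, hactU u hu, hactU' u' hu', hactV₂ w hw]
      rw [← Matrix.mulVec_mulVec, e0, ← hX, map_add, map_add, map_smul, map_smul]
    rw [eL, eR]

/-- **Claim B** -/
theorem exists_centralizing_nonOmega (Q : QuadraticForm F (ι → F)) (h2 : (2 : F) ≠ 0)
    (hQ : (polarBilin Q).Nondegenerate) (m : ℕ) (hm : 1 ≤ m) (hcard : Fintype.card ι = 2 * m)
    (T : ↥(isometryGroup F ⇑Q)) (r : ℕ) (hr : r.Prime) (hro : Odd r) (hrF : (r : F) ≠ 0)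
    (hTr : T ^ r = 1) :
    ∃ (b : ↥(isometryGroup F ⇑Q)) (vs : List (ι → F)), IsRep Q b vs ∧ Even vs.length ∧
      ¬ IsSquare (vs.map Q).prod ∧ b * T = T * b := by
  classical
  obtain ⟨Mx, hMx⟩ : ∃ Mx : Matrix ι ι F,
      Mx = ((T : Matrix.GeneralLinearGroup ι F) : Matrix ι ι F) := ⟨_, rfl⟩
  obtain ⟨X, hXdef⟩ : ∃ X : End F (ι → F), X = Matrix.toLin' Mx := ⟨_, rfl⟩
  have hX : ∀ v, X v = ((T : Matrix.GeneralLinearGroup ι F) : Matrix ι ι F) *ᵥ v := by
    intro v
    rw [hXdef, Matrix.toLin'_apply, hMx]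
  have hXr : X ^ r = 1 := by
    rw [hXdef, ← Matrix.toLin'_pow]
    have : Mx ^ r = 1 := by
      rw [hMx, ← Units.val_pow_eq_pow_val, ← Subgroup.coe_pow, hTr]
      rfl
    rw [this, Matrix.toLin'_one]
    rfl
  have hsym : ∀ x y, polarBilin Q x y = polarBilin Q y x := fun x y => polar_comm _ _ _
  have hnd : ∀ x, (∀ y, polarBilin Q x y = 0) → x = 0 := hQ.1
  have hiso : ∀ x y, polarBilin Q (X x) (X y) = polarBilin Q x y := by
    intro x y
    rw [hX, hX]
    exact polar_act Q T x y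
  have hdim : finrank F (ι → F) = 2 * m := by
    rw [Module.finrank_fintype_fun_eq_card, hcard]
  obtain ⟨W, C, hW, b, Φ, hcompl, horth, hCfix, -, hfrW, -⟩ :=
    exists_sp_model (polarBilin Q) hsym hnd h2 X hiso r hro hrF hXr
  by_cases hC : C = ⊥
  · have hfix : ∀ x, X x = x → x = 0 := by
      intro x hx
      have := (hCfix x).mpr hx
      rw [hC] at this
      exact (Submodule.mem_bot F).mp this
    haveI : Nontrivial (ι → F) := by
      apply Module.nontrivial_of_finrank_pos (R := F)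
      omega
    rcases exists_piece_full h2 (polarBilin Q) hsym hnd X hiso r hr hrF hXr hfix with
      ⟨Z, hZ, hZ0, hZdisj, hZirr⟩ | ⟨U, U', k, hk, hU, hU', hUti, hU'ti, -, hfrU, hfrU', hQ1, hQ2⟩
    · exact nonOmega_of_irr Q h2 T r hro X hX hiso hXr Z hZ hZ0 hZdisj hZirr hfix
    · exact nonOmega_of_hyp Q h2 T r hr.ne_zero X hX hiso hXr U U' k hk hU hU' hUti hU'ti hfrU
        hfrU' hQ1 hQ2
  · have hfrC : 2 ≤ finrank F C := by
      have h3 := Submodule.finrank_add_eq_of_isCompl hcompl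
      have h4 : 0 < finrank F C := by
        rw [Nat.pos_iff_ne_zero]
        intro h
        rw [Submodule.finrank_eq_zero] at h
        exact hC h
      omega
    have hndC : ∀ x : C, (∀ y : C, LinearMap.BilinForm.restrict (polarBilin Q) C x y = 0) →
        x = 0 := by
      intro x hx
      apply Subtype.ext
      apply nd_right (polarBilin Q) hsym hnd W C hcompl horth x x.2
      intro y hy
      exact hx ⟨y, hy⟩
    haveI : Invertible (2 : F) := invertibleOfNonzero h2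
    obtain ⟨v, hv⟩ := LinearMap.BilinForm.exists_orthogonal_basis
      (B := LinearMap.BilinForm.restrict (polarBilin Q) C) ⟨fun x y => hsym _ _⟩
    have hv' : ∀ i j, i ≠ j →
        LinearMap.BilinForm.restrict (polarBilin Q) C (v i) (v j) = 0 := fun i j hij => hv hij
    obtain ⟨i0, i1, hi01⟩ : ∃ i0 i1 : Fin (finrank F C), i0 ≠ i1 :=
      ⟨⟨0, by omega⟩, ⟨1, by omega⟩, by
        intro h
        have := congrArg Fin.val h
        simp at this⟩
    have hne : ∀ i, Q ((v i : C) : ι → F) ≠ 0 := by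
      intro i h
      apply orth_basis_self_ne (LinearMap.BilinForm.restrict (polarBilin Q) C) hndC v hv' i
      show polar ⇑Q ((v i : C) : ι → F) ((v i : C) : ι → F) = 0
      rw [polar_self, h]
      simp
    have hfixC : ∀ i, act Q T ((v i : C) : ι → F) = ((v i : C) : ι → F) := by
      intro i
      have := (hCfix _).mp (v i).2
      rw [hX] at this
      exact this
    exact nonOmega_of_fixed Q h2 T _ _ (hne i0) (hne i1) (hv' i0 i1 hi01) (hfixC i0) (hfixC i1)

end claimB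

end Cfsg.Agent.Lib.Helper1.Cf
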