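import Mathlib
import Cfsg.Prelude
import Cfsg.Agent.Lib.Helper1.CfD
import Cfsg.Agent.Lib.Helper1.CfG
import Cfsg.Agent.Lib.Helper5.OAut.Inndiag
import Cfsg.Agent.Lib.Helper5.OAut.PscCrit

/-!
# Class fusion of semisimple elements of odd prime order in the orthogonal groups (generic form)
-/

set_option autoImplicit false
set_option maxHeartbeats 4000000
set_option linter.unusedSimpArgs false
set_option linter.unusedVariables false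
set_option linter.unusedSectionVars false
set_option linter.style.haveILetI false

namespace Cfsg.Agent.Lib.Helper1.Cf

open Module Matrix QuadraticMap
open Cfsg
open Cfsg.Agent.Lib.Helper5.OAut Cfsg.Agent.Lib.Helper5.SpinorNorm Cfsg.Agent.Lib.Helper5.SpinorHyp
  Cfsg.Agent.Lib.Helper5.SpinorDiag Cfsg.Agent.Lib.Helper5.Refl

section puregroup

theorem conj_eq_of_comm {G : Type*} [Group G] (g s b c τ : G) (hg : g = s * b * c)
    (hb : b * τ = τ * b) (hc : c * τ = τ * c) : g * τ * g⁻¹ = s * τ * s⁻¹ := by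
  subst hg
  have h1 : c * τ * c⁻¹ = τ := by rw [hc, mul_inv_cancel_right]
  have h2 : b * τ * b⁻¹ = τ := by rw [hb, mul_inv_cancel_right]
  calc s * b * c * τ * (s * b * c)⁻¹ = s * (b * (c * τ * c⁻¹) * b⁻¹) * s⁻¹ := by group
    _ = s * τ * s⁻¹ := by rw [h1, h2]

theorem klein_cases : ∀ u v : ℤˣ × ℤˣ, u.1 = 1 → v.1 = 1 → v ≠ 1 → u = 1 ∨ u * v = 1 := by
  decide

end puregroup

section glue

variable {ι : Type} [Fintype ι] [DecidableEq ι] {F : Type*} [Field F] [Fintype F]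
  {Q : QuadraticForm F (ι → F)} {i : ℕ} {α β : Fin i → ι}

omit [Fintype F] in
theorem mult_pow' {w₀ : ι → F} (hw₀ : Q w₀ = 1) (g : ↥(Geo.quadSimilarityGroup (F := F) ⇑Q))
    (n : ℕ) :
    mult Q w₀ ((g ^ n : ↥(Geo.quadSimilarityGroup (F := F) ⇑Q)) : GL ι F) =
      mult Q w₀ (g : GL ι F) ^ n := by
  induction n with
  | zero =>
    rw [pow_zero, pow_zero]
    exact mult_of_isometry hw₀ (Subgroup.one_mem _)
  | succ n ih =>
    rw [pow_succ, pow_succ, Subgroup.coe_mul, mult_mul hw₀ (g ^ n).2, ih]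

omit [Fintype F] in
theorem mult_inv' {w₀ : ι → F} (hw₀ : Q w₀ = 1) (g : ↥(Geo.quadSimilarityGroup (F := F) ⇑Q)) :
    mult Q w₀ ((g⁻¹ : ↥(Geo.quadSimilarityGroup (F := F) ⇑Q)) : GL ι F) =
      (mult Q w₀ (g : GL ι F))⁻¹ := by
  have h1 : mult Q w₀ ((g : GL ι F) * ((g⁻¹ : ↥(Geo.quadSimilarityGroup (F := F) ⇑Q)) : GL ι F)) =
      mult Q w₀ (g : GL ι F) *
        mult Q w₀ ((g⁻¹ : ↥(Geo.quadSimilarityGroup (F := F) ⇑Q)) : GL ι F) :=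
    mult_mul hw₀ g.2
  have h2 : (g : GL ι F) * ((g⁻¹ : ↥(Geo.quadSimilarityGroup (F := F) ⇑Q)) : GL ι F) = 1 := by
    rw [← Subgroup.coe_mul, mul_inv_cancel]
    rfl
  rw [h2, mult_of_isometry hw₀ (Subgroup.one_mem _)] at h1
  exact eq_inv_of_mul_eq_one_right h1.symm

omit [Fintype F] in
theorem detRatio_inv' {w₀ : ι → F} (hw₀ : Q w₀ = 1) (m : ℕ)
    (g : ↥(Geo.quadSimilarityGroup (F := F) ⇑Q))
    (hg : detRatio (Q := Q) w₀ m (g : GL ι F) = 1) :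
    detRatio (Q := Q) w₀ m ((g⁻¹ : ↥(Geo.quadSimilarityGroup (F := F) ⇑Q)) : GL ι F) = 1 := by
  have h1 : detRatio (Q := Q) w₀ m
      ((g : GL ι F) * ((g⁻¹ : ↥(Geo.quadSimilarityGroup (F := F) ⇑Q)) : GL ι F)) =
      detRatio (Q := Q) w₀ m (g : GL ι F) *
        detRatio (Q := Q) w₀ m ((g⁻¹ : ↥(Geo.quadSimilarityGroup (F := F) ⇑Q)) : GL ι F) :=
    detRatio_mul hw₀ g.2
  have h2 : (g : GL ι F) * ((g⁻¹ : ↥(Geo.quadSimilarityGroup (F := F) ⇑Q)) : GL ι F) = 1 := by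
    rw [← Subgroup.coe_mul, mul_inv_cancel]
    rfl
  have h3 : detRatio (Q := Q) w₀ m (1 : GL ι F) = 1 := by
    unfold detRatio
    rw [mult_of_isometry hw₀ (Subgroup.one_mem _), inv_one, one_pow, mul_one, Units.val_one,
      Matrix.det_one]
  rw [h2, h3, hg, one_mul] at h1
  exact h1.symm

omit [Fintype F] in
theorem negOne_sq : (negOne Q) ^ 2 = 1 := by
  apply Subtype.ext
  apply Units.ext
  rw [pow_two]
  show (((negOne Q : ↥(isometryGroup F ⇑Q)) : Matrix.GeneralLinearGroup ι F) : Matrix ι ι F) *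
    (((negOne Q : ↥(isometryGroup F ⇑Q)) : Matrix.GeneralLinearGroup ι F) : Matrix ι ι F) = 1
  rw [negOne_coe]
  simp

omit [Fintype F] in
theorem conjO_mem_poAut (Q : QuadraticForm F (ι → F)) (g : ↥(isometryGroup F ⇑Q)) :
    conjO Q g ∈ poAut F ⇑Q := by
  unfold poAut autSubgroupOf
  apply Subgroup.subset_closure
  refine ⟨(g : GL ι F), g.2, ?_⟩
  intro s s' hs
  rw [conjO_mk]
  congr 1
  apply Subtype.ext
  apply Subtype.ext
  apply Units.ext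
  rw [hs, map_refl]
  rfl

omit [Fintype F] in
theorem poAut_le_pgoAut (Q : QuadraticForm F (ι → F)) : poAut F ⇑Q ≤ pgoAut F ⇑Q := by
  unfold poAut pgoAut autSubgroupOf
  apply Subgroup.closure_mono
  rintro β ⟨g, hg, hind⟩
  exact ⟨g, isometryGroup_le_sim Q hg, hind⟩

omit [Fintype F] in
theorem conjO_eq_conjGO (Q : QuadraticForm F (ι → F)) (g : ↥(isometryGroup F ⇑Q)) :
    conjO Q g = conjGO Q (inclO Q g) := by
  rw [← conjGO_comp_inclO]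
  rfl

omit [Fintype F] in
theorem conjGO_conj (Q : QuadraticForm F (ι → F)) (a b : ↥(Geo.quadSimilarityGroup (F := F) ⇑Q)) :
    conjGO Q a * conjGO Q b * (conjGO Q a)⁻¹ = conjGO Q (a * b * a⁻¹) := by
  rw [map_mul, map_mul, map_inv]

/-- Step 1: an automorphism of odd order `r` induced by a similarity is induced by an isometry
of order dividing `r`. -/
theorem exists_isometry_rep (hQ : (polarBilin Q).Nondegenerate) (hfam : IsHypFamily Q α β)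
    (hi : 3 ≤ i) (h5 : 5 ≤ Fintype.card ι) (w₀ : ι → F) (hw₀ : Q w₀ = 1) (r : ℕ) (hro : Odd r)
    (x : MulAut (POmega F ⇑Q)) (hx : x ∈ pgoAut F ⇑Q) (hxr : x ^ r = 1) :
    ∃ t : ↥(isometryGroup F ⇑Q), conjO Q t = x ∧ t ^ r = 1 := by
  rw [pgoAut_eq] at hx
  obtain ⟨g, rfl⟩ := hx
  obtain ⟨k, hk⟩ : ∃ k, r + 1 = 2 * k := by
    obtain ⟨j, hj⟩ := hro
    exact ⟨j + 1, by omega⟩
  have hν0 := mult_ne_zero hw₀ g.2
  obtain ⟨ν, hν⟩ : ∃ ν, ν = mult Q w₀ (g : GL ι F) := ⟨_, rfl⟩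
  rw [← hν] at hν0
  have hμ0 : ν ^ k ≠ 0 := pow_ne_zero _ hν0
  have hμi0 : (ν ^ k)⁻¹ ≠ 0 := inv_ne_zero hμ0
  obtain ⟨z, hz⟩ : ∃ z : ↥(Geo.quadSimilarityGroup (F := F) ⇑Q),
      (z : GL ι F) = scalarGL ι (ν ^ k)⁻¹ hμi0 := ⟨⟨_, scalarGL_mem _ hμi0⟩, rfl⟩
  have hzker : z ∈ (conjGO Q).ker := mem_ker_conjGO_of_scalar z _ (by rw [hz]; rfl)
  have hzmult : mult Q w₀ (z : GL ι F) = (ν ^ k)⁻¹ * (ν ^ k)⁻¹ := by
    unfold mult
    rw [hz]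
    show Q (((ν ^ k)⁻¹ • (1 : Matrix ι ι F)) *ᵥ w₀) = _
    rw [Matrix.smul_mulVec, Matrix.one_mulVec, QuadraticMap.map_smul, hw₀, smul_eq_mul, mul_one]
  have hmult1 : mult Q w₀
      ((z * g ^ (r + 1) : ↥(Geo.quadSimilarityGroup (F := F) ⇑Q)) : GL ι F) = 1 := by
    rw [Subgroup.coe_mul, mult_mul hw₀ z.2, hzmult, mult_pow' hw₀, ← hν, hk, pow_mul']
    field_simp
  have hO : ((z * g ^ (r + 1) : ↥(Geo.quadSimilarityGroup (F := F) ⇑Q)) : GL ι F) ∈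
      isometryGroup F ⇑Q := mem_isometryGroup_of_mult Q hw₀ (z * g ^ (r + 1)).2 hmult1
  obtain ⟨g₁, hg₁⟩ : ∃ g₁ : ↥(isometryGroup F ⇑Q), inclO Q g₁ = z * g ^ (r + 1) :=
    ⟨⟨_, hO⟩, Subtype.ext rfl⟩
  have hc1 : conjO Q g₁ = conjGO Q g := by
    rw [conjO_eq_conjGO, hg₁, map_mul, (MonoidHom.mem_ker).1 hzker, one_mul, map_pow, pow_succ,
      hxr, one_mul]
  have hker : g₁ ^ r ∈ (conjO Q).ker := by
    rw [MonoidHom.mem_ker, map_pow, hc1, hxr]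
  refine ⟨g₁ ^ (r + 1), ?_, ?_⟩
  · rw [map_pow, hc1, pow_succ, hxr, one_mul]
  · rw [← pow_mul, mul_comm, pow_mul]
    rcases ker_conjO_le hQ hfam hi h5 _ hker with h1 | h1
    · rw [h1, one_pow]
    · rw [h1, hk, pow_mul, negOne_sq, one_pow]

/-- Claim A, in group form -/
theorem exists_sim_comm (h2 : (2 : F) ≠ 0) (hQ : (polarBilin Q).Nondegenerate) (w₀ : ι → F)
    (hw₀ : Q w₀ = 1) (m : ℕ) (hcard : Fintype.card ι = 2 * m) (t : ↥(isometryGroup F ⇑Q))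
    (r : ℕ) (hro : Odd r) (hrF : (r : F) ≠ 0) (htr : t ^ r = 1) (a : F) (ha : a ≠ 0) :
    ∃ c : ↥(Geo.quadSimilarityGroup (F := F) ⇑Q), c * inclO Q t = inclO Q t * c ∧
      mult Q w₀ (c : GL ι F) = a ∧ detRatio (Q := Q) w₀ m (c : GL ι F) = 1 := by
  have hT : ∀ v, Q (((t : GL ι F) : Matrix ι ι F) *ᵥ v) = Q v :=
    (Cfsg.Agent.Lib.Helper5.OrthCard.mem_isometryGroup_iff _ _).1 t.2
  have hTr : ((t : GL ι F) : Matrix ι ι F) ^ r = 1 := by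
    rw [← Units.val_pow_eq_pow_val, ← Subgroup.coe_pow, htr]
    rfl
  obtain ⟨C, hCT, hCQ, hCd⟩ := exists_centralizing_sim Q h2 hQ m hcard _ hT r hro hrF hTr a ha
  have hdet0 : C.det ≠ 0 := by
    rw [hCd]
    exact pow_ne_zero _ ha
  obtain ⟨u, hu⟩ : IsUnit C := (Matrix.isUnit_iff_isUnit_det C).2 (IsUnit.mk0 _ hdet0)
  have hmem : (u : GL ι F) ∈ Geo.quadSimilarityGroup (F := F) ⇑Q :=
    ⟨Units.mk0 a ha, fun v => by rw [hu]; exact hCQ v⟩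
  have hmult : mult Q w₀ (u : GL ι F) = a := by
    unfold mult
    rw [hu, hCQ, hw₀, mul_one]
  refine ⟨⟨u, hmem⟩, ?_, hmult, ?_⟩
  · apply Subtype.ext
    apply Units.ext
    show ((u : GL ι F) : Matrix ι ι F) * ((t : GL ι F) : Matrix ι ι F) =
      ((t : GL ι F) : Matrix ι ι F) * ((u : GL ι F) : Matrix ι ι F)
    rw [hu]
    exact hCT
  · unfold detRatio
    show ((u : GL ι F) : Matrix ι ι F).det * (mult Q w₀ (u : GL ι F))⁻¹ ^ m = 1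
    rw [hmult, hu, hCd, ← mul_pow, mul_inv_cancel₀ ha, one_pow]

/-- conjugating by a similarity can be done by an isometry -/
theorem conj_pgo_to_po (h2 : (2 : F) ≠ 0) (hQ : (polarBilin Q).Nondegenerate) (w₀ : ι → F)
    (hw₀ : Q w₀ = 1) (m : ℕ) (hcard : Fintype.card ι = 2 * m) (t : ↥(isometryGroup F ⇑Q))
    (r : ℕ) (hro : Odd r) (hrF : (r : F) ≠ 0) (htr : t ^ r = 1)
    (h : MulAut (POmega F ⇑Q)) (hh : h ∈ pgoAut F ⇑Q) :
    ∃ k ∈ poAut F ⇑Q, k * conjO Q t * k⁻¹ = h * conjO Q t * h⁻¹ := by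
  rw [pgoAut_eq] at hh
  obtain ⟨g, rfl⟩ := hh
  have ha := mult_ne_zero hw₀ g.2
  obtain ⟨c, hcomm, hcm, -⟩ := exists_sim_comm h2 hQ w₀ hw₀ m hcard t r hro hrF htr _ ha
  have hmult1 : mult Q w₀ ((g * c⁻¹ : ↥(Geo.quadSimilarityGroup (F := F) ⇑Q)) : GL ι F) = 1 := by
    rw [Subgroup.coe_mul, mult_mul hw₀ g.2, mult_inv' hw₀, hcm, mul_inv_cancel₀ ha]
  have hO : ((g * c⁻¹ : ↥(Geo.quadSimilarityGroup (F := F) ⇑Q)) : GL ι F) ∈
      isometryGroup F ⇑Q := mem_isometryGroup_of_mult Q hw₀ (g * c⁻¹).2 hmult1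
  obtain ⟨g₁, hg₁⟩ : ∃ g₁ : ↥(isometryGroup F ⇑Q), inclO Q g₁ = g * c⁻¹ :=
    ⟨⟨_, hO⟩, Subtype.ext rfl⟩
  refine ⟨conjO Q g₁, conjO_mem_poAut Q g₁, ?_⟩
  rw [conjO_eq_conjGO, conjO_eq_conjGO, conjGO_conj, conjGO_conj]
  congr 1
  symm
  apply conj_eq_of_comm g (inclO Q g₁) 1 c (inclO Q t)
  · rw [hg₁, mul_one, inv_mul_cancel_right]
  · rw [one_mul, mul_one]
  · exact hcomm

/-- conjugating by an inner-diagonal automorphism can be done by an inner automorphism -/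
theorem conj_inndiag_to_inn (h2 : (2 : F) ≠ 0) (hQ : (polarBilin Q).Nondegenerate) (w₀ : ι → F)
    (hw₀ : Q w₀ = 1) (m : ℕ) (hm : 1 ≤ m) (hcard : Fintype.card ι = 2 * m)
    (t : ↥(isometryGroup F ⇑Q))
    (r : ℕ) (hr : r.Prime) (hro : Odd r) (hrF : (r : F) ≠ 0) (htr : t ^ r = 1)
    (h : MulAut (POmega F ⇑Q)) (hh : h ∈ inndiagAut h2 hQ w₀ hw₀ m hcard) :
    ∃ k ∈ Inn (POmega F ⇑Q), k * conjO Q t * k⁻¹ = h * conjO Q t * h⁻¹ := by
  have hn : 2 ≤ Fintype.card ι := by omega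
  obtain ⟨g, hg0, rfl⟩ := hh
  rw [SetLike.mem_coe, mem_goZero_iff] at hg0
  have ha := mult_ne_zero hw₀ g.2
  obtain ⟨c, hcomm, hcm, hcd⟩ := exists_sim_comm h2 hQ w₀ hw₀ m hcard t r hro hrF htr _ ha
  have hmult1 : mult Q w₀ ((g * c⁻¹ : ↥(Geo.quadSimilarityGroup (F := F) ⇑Q)) : GL ι F) = 1 := by
    rw [Subgroup.coe_mul, mult_mul hw₀ g.2, mult_inv' hw₀, hcm, mul_inv_cancel₀ ha]
  have hdr1 : detRatio (Q := Q) w₀ m
      ((g * c⁻¹ : ↥(Geo.quadSimilarityGroup (F := F) ⇑Q)) : GL ι F) = 1 := by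
    rw [Subgroup.coe_mul, detRatio_mul hw₀ g.2, hg0, detRatio_inv' hw₀ m c hcd, one_mul]
  have hO : ((g * c⁻¹ : ↥(Geo.quadSimilarityGroup (F := F) ⇑Q)) : GL ι F) ∈
      isometryGroup F ⇑Q := mem_isometryGroup_of_mult Q hw₀ (g * c⁻¹).2 hmult1
  obtain ⟨g₁, hg₁⟩ : ∃ g₁ : ↥(isometryGroup F ⇑Q), inclO Q g₁ = g * c⁻¹ :=
    ⟨⟨_, hO⟩, Subtype.ext rfl⟩
  have hg₁coe : ((g₁ : GL ι F)) =
      ((g * c⁻¹ : ↥(Geo.quadSimilarityGroup (F := F) ⇑Q)) : GL ι F) := by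
    rw [← hg₁]
    rfl
  have hg₁so : g₁ ∈ soSub Q := by
    rw [mem_soSub_iff]
    have h3 := hdr1
    unfold detRatio at h3
    rw [hmult1, inv_one, one_pow, mul_one] at h3
    rw [hg₁coe]
    exact h3
  -- Claim B
  obtain ⟨b, vs, hrep, heven, hns, hbt⟩ :=
    exists_centralizing_nonOmega Q h2 hQ m hm hcard t r hr hro hrF htr
  have hbso : b ∈ soSub Q := by
    rw [mem_soSub_iff, hrep.2, rprod_det Q vs hrep.1, heven.neg_one_pow]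
  have hbΩ : b ∉ commutator ↥(isometryGroup F ⇑Q) := by
    rw [mem_commutator_iff Q h2 hQ hn b vs hrep]
    rintro ⟨-, hsq⟩
    exact hns hsq
  have hker := ker_theta Q h2 hQ hn
  have hfst : ∀ z : ↥(isometryGroup F ⇑Q), z ∈ soSub Q → (theta Q h2 hQ z).1 = 1 := by
    intro z hz
    rw [soSub_eq_ker h2 hQ, MonoidHom.mem_ker, MonoidHom.comp_apply, MonoidHom.coe_fst] at hz
    exact hz
  have hvne : theta Q h2 hQ b ≠ 1 := by
    intro h1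
    apply hbΩ
    rw [← hker, MonoidHom.mem_ker]
    exact h1
  obtain ⟨s, hs, b', hb't, hsb⟩ : ∃ s ∈ commutator ↥(isometryGroup F ⇑Q),
      ∃ b' : ↥(isometryGroup F ⇑Q), b' * t = t * b' ∧ g₁ = s * b' := by
    rcases klein_cases _ _ (hfst g₁ hg₁so) (hfst b hbso) hvne with h1 | h1
    · refine ⟨g₁, ?_, 1, by rw [one_mul, mul_one], by rw [mul_one]⟩
      rw [← hker, MonoidHom.mem_ker]
      exact h1
    · refine ⟨g₁ * b, ?_, b⁻¹, ?_, by rw [mul_inv_cancel_right]⟩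
      · rw [← hker, MonoidHom.mem_ker, map_mul]
        exact h1
      · calc b⁻¹ * t = b⁻¹ * (t * b) * b⁻¹ := by group
          _ = b⁻¹ * (b * t) * b⁻¹ := by rw [hbt]
          _ = t * b⁻¹ := by group
  refine ⟨conjO Q s, ?_, ?_⟩
  · rw [inn_eq]
    exact ⟨s, hs, rfl⟩
  · rw [conjO_eq_conjGO, conjO_eq_conjGO, conjGO_conj, conjGO_conj]
    congr 1
    symm
    apply conj_eq_of_comm g (inclO Q s) (inclO Q b') c (inclO Q t)
    · rw [← map_mul, ← hsb, hg₁, inv_mul_cancel_right]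
    · rw [← map_mul, ← map_mul, hb't]
    · exact hcomm

/-- **generic class fusion theorem** -/
theorem fusion_generic (h2 : (2 : F) ≠ 0) (hQ : (polarBilin Q).Nondegenerate)
    (hfam : IsHypFamily Q α β) (hi : 3 ≤ i) (h5 : 5 ≤ Fintype.card ι) (w₀ : ι → F)
    (hw₀ : Q w₀ = 1) (m : ℕ) (hcard : Fintype.card ι = 2 * m)
    (D : Subgroup (MulAut (POmega F ⇑Q))) (hD : D = inndiagAut h2 hQ w₀ hw₀ m hcard)
    (r : ℕ) (hr : r.Prime) (hro : Odd r) (hrF : (r : F) ≠ 0)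
    (x : MulAut (POmega F ⇑Q)) (hx : x ∈ pgoAut F ⇑Q) (hxr : orderOf x = r) :
    (∀ y : MulAut (POmega F ⇑Q),
      (IsConjUnder (Inn (POmega F ⇑Q)) x y ↔ IsConjUnder D x y) ∧
      (IsConjUnder (psoAut F ⇑Q) x y ↔ IsConjUnder D x y)) ∧
    (∀ y : MulAut (POmega F ⇑Q),
      IsConjUnder (poAut F ⇑Q) x y ↔ IsConjUnder (pgoAut F ⇑Q) x y) := by
  have hm : 1 ≤ m := by omega
  have hxr' : x ^ r = 1 := by
    rw [← hxr]
    exact pow_orderOf_eq_one x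
  obtain ⟨t, rfl, htr⟩ := exists_isometry_rep hQ hfam hi h5 w₀ hw₀ r hro x hx hxr'
  subst hD
  have hID := inn_le_inndiagAut h2 hQ hfam hi h5 w₀ hw₀ m hcard
  have hIS := inn_le_psoAut (Q := Q) h2 hQ
  have hSD := psoAut_le_inndiagAut h2 hQ hfam hi h5 w₀ hw₀ m hcard
  have hB : ∀ y, IsConjUnder (inndiagAut h2 hQ w₀ hw₀ m hcard) (conjO Q t) y →
      IsConjUnder (Inn (POmega F ⇑Q)) (conjO Q t) y := by
    rintro y ⟨h, hh, hy⟩
    obtain ⟨k, hk, hkx⟩ := conj_inndiag_to_inn h2 hQ w₀ hw₀ m hm hcard t r hr hro hrF htr h hh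
    exact ⟨k, hk, by rw [hy, hkx]⟩
  refine ⟨fun y => ⟨⟨?_, hB y⟩, ⟨?_, ?_⟩⟩, fun y => ⟨?_, ?_⟩⟩
  · rintro ⟨h, hh, hy⟩
    exact ⟨h, hID hh, hy⟩
  · rintro ⟨h, hh, hy⟩
    exact ⟨h, hSD hh, hy⟩
  · intro hy
    obtain ⟨h, hh, hy'⟩ := hB y hy
    exact ⟨h, hIS hh, hy'⟩
  · rintro ⟨h, hh, hy⟩
    exact ⟨h, poAut_le_pgoAut Q hh, hy⟩
  · rintro ⟨h, hh, hy⟩
    obtain ⟨k, hk, hkx⟩ := conj_pgo_to_po h2 hQ w₀ hw₀ m hcard t r hro hrF htr h hh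
    exact ⟨k, hk, by rw [hy, hkx]⟩

end glue

end Cfsg.Agent.Lib.Helper1.Cf
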