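import Mathlib
import Cfsg.Agent.Lib.Helper6.BrOrbit
import Cfsg.Agent.Lib.Helper1.SplitPResidual1
set_option autoImplicit false
open Cfsg
universe u
namespace Cfsg.Agent.Lib.Helper1.CharThompson

open Cfsg.Agent.Lib.Helper6

/-- weighted orbit counting for a `p`-group action -/
theorem sum_modEq_sum_fixed {P : Type*} [Group P] {X : Type*} [MulAction P X] [Fintype X]
    [DecidableEq X] {p : ℕ} [Fact p.Prime] (hP : IsPGroup p P) (w : X → ℕ)
    (hw : ∀ (a : P) (x : X), w (a • x) = w x)
    [DecidablePred (fun x : X => ∀ a : P, a • x = x)] :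
    ∑ x, w x ≡ ∑ x ∈ Finset.univ.filter (fun x : X => ∀ a : P, a • x = x), w x [MOD p] := by
  rw [← Finset.sum_filter_add_sum_filter_not Finset.univ (fun x : X => ∀ a : P, a • x = x) w]
  suffices h : p ∣ ∑ x ∈ Finset.univ.filter (fun x : X => ¬ ∀ a : P, a • x = x), w x by
    obtain ⟨c, hc⟩ := h
    rw [hc]
    exact (Nat.modEq_iff_dvd' (Nat.le_add_right _ _)).mpr ⟨c, by omega⟩ |>.symm
  set s := Finset.univ.filter (fun x : X => ¬ ∀ a : P, a • x = x) with hs
  rw [Finset.sum_comp (fun v : ℕ => v) w]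
  apply Finset.dvd_sum
  intro v _
  rw [smul_eq_mul]
  apply Dvd.dvd.mul_right
  set T : Set X := {x : X | x ∈ s ∧ w x = v} with hT
  have hTfin : Finite T := Set.toFinite T |>.to_subtype
  have hcard : (s.filter (fun k => w k = v)).card = Nat.card T := by
    have : T = ((s.filter (fun k => w k = v) : Finset X) : Set X) := by
      ext x
      simp [hT]
    rw [this, Nat.card_coe_set_eq, Set.ncard_coe_finset]
  rw [hcard]
  apply dvd_card_of_no_fixedPoints hP T
  · intro a x hx
    refine ⟨?_, by rw [hw]; exact hx.2⟩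
    have hx1 := hx.1
    rw [hs, Finset.mem_filter] at hx1 ⊢
    refine ⟨Finset.mem_univ _, ?_⟩
    intro hfix
    apply hx1.2
    intro b
    have := hfix (a * b * a⁻¹)
    rw [mul_smul, mul_smul, inv_smul_smul] at this
    exact smul_left_cancel a this
  · intro x hx
    have hx1 := hx.1
    rw [hs, Finset.mem_filter] at hx1
    push_neg at hx1
    exact hx1.2

variable {N : Type u} [Group N]

/-- a group with `O^p(N) = N` has no homomorphism of order `p` into `ℂˣ` -/
theorem hom_eq_one_of_pow_eq_one {p : ℕ} [hp : Fact p.Prime] (hN : Cfsg.pResidual p N = ⊤)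
    (f : N →* ℂˣ) (hf : f ^ p = 1) : f = 1 := by
  have hK : IsPGroup p (N ⧸ f.ker) := by
    intro x
    obtain ⟨n, rfl⟩ := QuotientGroup.mk_surjective x
    refine ⟨1, ?_⟩
    rw [pow_one, ← QuotientGroup.mk_pow, QuotientGroup.eq_one_iff, MonoidHom.mem_ker, map_pow]
    have := DFunLike.congr_fun hf n
    simpa using this
  have h1 := pResidual_le_of_isPGroup_quotient f.ker hK
  rw [hN, top_le_iff] at h1
  exact MonoidHom.ker_eq_top_iff.mp h1

theorem not_dvd_orderOf_hom {p : ℕ} [hp : Fact p.Prime] [Finite N]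
    (hN : Cfsg.pResidual p N = ⊤) (f : N →* ℂˣ) : ¬ p ∣ orderOf f := by
  intro hdvd
  obtain ⟨m, hm⟩ := hdvd
  have h1 : (f ^ m) ^ p = 1 := by
    rw [← pow_mul f m p, mul_comm, ← hm, pow_orderOf_eq_one]
  have h2 := hom_eq_one_of_pow_eq_one hN (f ^ m) h1
  have h3 : orderOf f ∣ m := orderOf_dvd_of_pow_eq_one h2
  have hpos : 0 < orderOf f := by
    apply orderOf_pos_iff.mpr
    -- finite order: f ^ card N = 1
    refine isOfFinOrder_iff_pow_eq_one.mpr ⟨Nat.card N, Nat.card_pos, ?_⟩
    ext n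
    simp only [MonoidHom.pow_apply, MonoidHom.one_apply, Units.val_pow_eq_pow_val, Units.val_one]
    rw [← Units.val_pow_eq_pow_val, ← map_pow, pow_card_eq_one', map_one, Units.val_one]
  rw [hm] at h3 hpos
  have hm0 : 0 < m := Nat.pos_of_ne_zero (by rintro rfl; simp at hpos)
  have : p * m ≤ m := Nat.le_of_dvd hm0 h3
  have hp2 := hp.out.two_le
  nlinarith

end Cfsg.Agent.Lib.Helper1.CharThompson
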