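import Mathlib
import Cfsg.Agent.Lib.Helper1.CharThompson1
import Cfsg.Agent.Lib.Helper6.BlkStab
import Cfsg.Agent.Lib.Helper6.Linear
import Cfsg.Agent.Lib.Helper6.Regular
import Cfsg.Agent.Lib.Helper3.LinExt
import Cfsg.Agent.Lib.Helper3.DetChar
import Cfsg.Agent.S0867
set_option autoImplicit false
open Cfsg
universe u
namespace Cfsg.Agent.Lib.Helper1.CharThompson

open Cfsg.Agent.Lib.Helper6 Cfsg.Agent.Lib.Helper3.LinExt Cfsg.Agent.Lib.Helper3.DetChar

section action

variable {G : Type u} [Group G] [Fintype G] [DecidableEq G] (N : Subgroup G) [Fintype N]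
  (hN : N.Normal)

/-- the left action of a subgroup `P` on `Irr(N)` -/
@[reducible] noncomputable def irrAction (P : Subgroup G) : MulAction P (Cfsg.IrrCharacter N) where
  smul a θ := irrConj N hN (a : G)⁻¹ θ
  one_smul θ := by
    show irrConj N hN ((1 : P) : G)⁻¹ θ = θ
    rw [Subgroup.coe_one, inv_one, irrConj_one]
  mul_smul a b θ := by
    show irrConj N hN ((a * b : P) : G)⁻¹ θ = irrConj N hN (a : G)⁻¹ (irrConj N hN (b : G)⁻¹ θ)
    rw [Subgroup.coe_mul, mul_inv_rev, irrConj_mul]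

theorem charDegree_irrConj (g : G) (θ : Cfsg.IrrCharacter N) :
    Cfsg.charDegree ((irrConj N hN g θ : Cfsg.IrrCharacter N) : N → ℂ) =
      Cfsg.charDegree (θ : N → ℂ) := by
  unfold Cfsg.charDegree
  rw [irrConj_coe, conjFun_apply]
  have : (⟨g * ((1 : N) : G) * g⁻¹, hN.conj_mem _ (1 : N).2 g⟩ : N) = 1 := by
    apply Subtype.ext
    simp
  rw [this]

/-- the stabilizer of `θ` -/
def irrStab (θ : Cfsg.IrrCharacter N) : Subgroup G where
  carrier := {g | irrConj N hN g θ = θ}
  one_mem' := irrConj_one N hN θ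
  mul_mem' := by
    intro g h hg hh
    show irrConj N hN (g * h) θ = θ
    rw [irrConj_mul]
    rw [show irrConj N hN g θ = θ from hg]
    exact hh
  inv_mem' := by
    intro g hg
    show irrConj N hN g⁻¹ θ = θ
    have := irrConj_mul N hN g g⁻¹ θ
    rw [mul_inv_cancel, irrConj_one, show irrConj N hN g θ = θ from hg] at this
    exact this.symm

theorem invariant_of_fixed (P : Subgroup G) (hPN : P ⊔ N = ⊤) (θ : Cfsg.IrrCharacter N)
    (hfix : ∀ a : P, irrConj N hN (a : G)⁻¹ θ = θ) (g : G) : irrConj N hN g θ = θ := by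
  have h1 : P ≤ irrStab N hN θ := by
    intro a ha
    have := hfix ⟨a, ha⟩⁻¹
    show irrConj N hN a θ = θ
    simpa using this
  have h2 : N ≤ irrStab N hN θ := fun n hn => irrConj_of_mem N hN hn θ
  have h3 : g ∈ irrStab N hN θ := by
    have : (⊤ : Subgroup G) ≤ irrStab N hN θ := hPN ▸ sup_le h1 h2
    exact this (Subgroup.mem_top g)
  exact h3

end action

theorem not_dvd_detOrder {N : Type u} [Group N] [Finite N] {p : ℕ} [hp : Fact p.Prime]
    (hN : Cfsg.pResidual p N = ⊤) {θ : N → ℂ} (hθ : Cfsg.IsCharacter N θ) :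
    ¬ p ∣ Cfsg.detOrder θ := by
  obtain ⟨f, hf⟩ := exists_hom_eq_detChar hθ
  unfold Cfsg.detOrder
  rw [hf]
  have : (fun g => ((f g : ℂˣ) : ℂ)) = coeHom N f := rfl
  rw [this, orderOf_coeHom]
  exact not_dvd_orderOf_hom hN f

theorem not_dvd_card_hom {N : Type u} [Group N] [Finite N] {p : ℕ} [hp : Fact p.Prime]
    (hN : Cfsg.pResidual p N = ⊤) : ¬ p ∣ Nat.card (N →* ℂˣ) := by
  haveI : Finite (N →* ℂˣ) := by
    haveI := finite_irrCharacter (G := N)
    exact Finite.of_equiv _ (linearCharEquiv N).symm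
  intro hdvd
  obtain ⟨f, hf⟩ := exists_prime_orderOf_dvd_card' p hdvd
  have := not_dvd_orderOf_hom hN f
  rw [hf] at this
  exact this dvd_rfl

end Cfsg.Agent.Lib.Helper1.CharThompson
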