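import Mathlib
import Cfsg.Agent.Lib.Helper1.CharThompson2
set_option autoImplicit false
open Cfsg
universe u
namespace Cfsg.Agent.Lib.Helper1.CharThompson

open Cfsg.Agent.Lib.Helper6 Cfsg.Agent.Lib.Helper3.LinExt Cfsg.Agent.Lib.Helper3.DetChar

theorem charDegree_eq_one_iff {N : Type u} [Group N] (θ : Cfsg.IrrCharacter N) :
    Cfsg.charDegree (θ : N → ℂ) = 1 ↔ (θ : N → ℂ) 1 = 1 := by
  rw [IsCharacter.apply_one_eq_charDegree (IsIrrCharacter.isCharacter θ.2)]
  constructor
  · intro h; rw [h]; simp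
  · intro h; exact_mod_cast h

/-- the number of linear characters, as a sum of indicators -/
theorem sum_indicator_linear {N : Type u} [Group N] [Finite N] [Fintype (Cfsg.IrrCharacter N)] :
    ∑ θ : Cfsg.IrrCharacter N, (if Cfsg.charDegree (θ : N → ℂ) = 1 then 1 else 0) =
      Nat.card (N →* ℂˣ) := by
  classical
  rw [Finset.sum_boole, Nat.card_congr (linearCharEquiv N), Nat.card_eq_fintype_card,
    Fintype.card_subtype]
  simp only [Nat.cast_id]
  apply congrArg Finset.card
  apply Finset.filter_congr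
  intro θ _
  exact charDegree_eq_one_iff θ

/-- Thompson: if `p` divides the degree of every nonlinear irreducible character then `O^p(G)`
has order prime to `p` -/
theorem card_pResidual_coprime {G : Type u} [Group G] [Finite G] (p : ℕ) (hp : p.Prime)
    (hdeg : ∀ χ : Cfsg.IrrCharacter G, Cfsg.charDegree (χ : G → ℂ) ≠ 1 →
      p ∣ Cfsg.charDegree (χ : G → ℂ)) :
    (Nat.card (Cfsg.pResidual p G)).Coprime p := by
  classical
  haveI : Fact p.Prime := ⟨hp⟩
  haveI : Fintype G := Fintype.ofFinite G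
  obtain ⟨N, hNdef⟩ : ∃ N, N = Cfsg.pResidual p G := ⟨_, rfl⟩
  rw [← hNdef]
  haveI hN : N.Normal := by
    rw [hNdef]
    haveI := pResidual_characteristic (G := G) p
    exact Subgroup.normal_of_characteristic _
  haveI : Fintype N := Fintype.ofFinite N
  haveI := finite_irrCharacter (G := N)
  haveI : Fintype (Cfsg.IrrCharacter N) := Fintype.ofFinite _
  have hres : Cfsg.pResidual p ↥N = ⊤ := by
    rw [hNdef]; exact pResidual_pResidual_eq_top p
  obtain ⟨k, hk⟩ : ∃ k, N.index = p ^ k := by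
    obtain ⟨k, hk⟩ := IsPGroup.iff_card.mp (isPGroup_quotient_pResidual (G := G) p)
    exact ⟨k, by rw [hNdef, Subgroup.index_eq_card]; exact hk⟩
  let P : Sylow p G := default
  have hPN : (P : Subgroup G) ⊔ N = ⊤ := by
    rw [hNdef]; exact sylow_sup_pResidual_eq_top P
  letI := irrAction N hN (P : Subgroup G)
  have hPp : IsPGroup p (P : Subgroup G) := P.2
  have hsmul : ∀ (a : (P : Subgroup G)) (θ : Cfsg.IrrCharacter N),
      a • θ = irrConj N hN (a : G)⁻¹ θ := fun _ _ => rfl
  have hwinv : ∀ (a : (P : Subgroup G)) (θ : Cfsg.IrrCharacter N),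
      Cfsg.charDegree ((a • θ : Cfsg.IrrCharacter N) : N → ℂ) = Cfsg.charDegree (θ : N → ℂ) := by
    intro a θ
    rw [hsmul, charDegree_irrConj]
  have h1 := sum_modEq_sum_fixed hPp (fun θ : Cfsg.IrrCharacter N => Cfsg.charDegree (θ : N → ℂ) ^ 2)
    (fun a θ => by simp only [hwinv])
  have h2 := sum_modEq_sum_fixed hPp
    (fun θ : Cfsg.IrrCharacter N => if Cfsg.charDegree (θ : N → ℂ) = 1 then 1 else 0)
    (fun a θ => by simp only [hwinv])
  have htot : ∑ θ : Cfsg.IrrCharacter N, Cfsg.charDegree (θ : N → ℂ) ^ 2 = Nat.card N := by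
    have := sum_sq_degree (G := N)
    have e : ∀ θ : Cfsg.IrrCharacter N,
        (θ : N → ℂ) 1 ^ 2 = ((Cfsg.charDegree (θ : N → ℂ) ^ 2 : ℕ) : ℂ) := by
      intro θ
      rw [IsCharacter.apply_one_eq_charDegree (IsIrrCharacter.isCharacter θ.2)]
      push_cast
      rfl
    rw [Finset.sum_congr rfl (fun θ _ => e θ), ← Nat.cast_sum] at this
    exact_mod_cast this
  have hfixed : ∀ θ : Cfsg.IrrCharacter N, (∀ a : (P : Subgroup G), a • θ = θ) →
      Cfsg.charDegree (θ : N → ℂ) ^ 2 ≡ (if Cfsg.charDegree (θ : N → ℂ) = 1 then 1 else 0)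
        [MOD p] := by
    intro θ hfix
    have hinv := invariant_of_fixed N hN (P : Subgroup G) hPN θ hfix
    by_cases hd : p ∣ Cfsg.charDegree (θ : N → ℂ)
    · have hne : Cfsg.charDegree (θ : N → ℂ) ≠ 1 := by
        intro h1
        rw [h1] at hd
        exact hp.one_lt.ne' (Nat.dvd_one.mp hd)
      rw [if_neg hne]
      exact (Nat.modEq_zero_iff_dvd).mpr (dvd_pow hd two_ne_zero)
    · have hcop : N.index.Coprime (Cfsg.detOrder (θ : N → ℂ) * Cfsg.charDegree (θ : N → ℂ)) := by
        rw [hk]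
        apply Nat.Coprime.pow_left
        rw [hp.coprime_iff_not_dvd]
        intro h
        rcases (hp.dvd_mul).mp h with h | h
        · exact not_dvd_detOrder hres (IsIrrCharacter.isCharacter θ.2) h
        · exact hd h
      obtain ⟨χ, ⟨hχ, hχN, -⟩, -⟩ := Cfsg.Agent.S0867.result N (θ : N → ℂ) θ.2
        (fun g n => by
          have := congrArg Subtype.val (hinv g)
          rw [irrConj_coe] at this
          exact congrFun this n)
        (Cfsg.charDegree (θ : N → ℂ))
        (IsCharacter.apply_one_eq_charDegree (IsIrrCharacter.isCharacter θ.2)) hcop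
      have hχ1 : Cfsg.charDegree χ = Cfsg.charDegree (θ : N → ℂ) := by
        unfold Cfsg.charDegree
        have := hχN 1
        rw [Subgroup.coe_one] at this
        rw [this]
      have hone : Cfsg.charDegree (θ : N → ℂ) = 1 := by
        by_contra hne
        have := hdeg ⟨χ, hχ⟩ (by rw [hχ1]; exact hne)
        rw [hχ1] at this
        exact hd this
      rw [if_pos hone, hone]
      rfl
  have h3 : ∑ θ ∈ Finset.univ.filter (fun θ : Cfsg.IrrCharacter N =>
        ∀ a : (P : Subgroup G), a • θ = θ), Cfsg.charDegree (θ : N → ℂ) ^ 2 ≡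
      ∑ θ ∈ Finset.univ.filter (fun θ : Cfsg.IrrCharacter N =>
        ∀ a : (P : Subgroup G), a • θ = θ),
          (if Cfsg.charDegree (θ : N → ℂ) = 1 then 1 else 0) [MOD p] := by
    rw [← ZMod.natCast_eq_natCast_iff, Nat.cast_sum, Nat.cast_sum]
    apply Finset.sum_congr rfl
    intro θ hθ
    rw [ZMod.natCast_eq_natCast_iff]
    exact hfixed θ (Finset.mem_filter.mp hθ).2
  have hchain : Nat.card N ≡ Nat.card (↥N →* ℂˣ) [MOD p] := by
    rw [← htot, ← sum_indicator_linear]
    exact (h1.trans h3).trans h2.symm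
  rw [Nat.coprime_comm, hp.coprime_iff_not_dvd]
  intro hdvd
  have : p ∣ Nat.card (↥N →* ℂˣ) :=
    (Nat.modEq_zero_iff_dvd).mp (hchain.symm.trans ((Nat.modEq_zero_iff_dvd).mpr hdvd))
  exact not_dvd_card_hom hres this

theorem s4456 {G : Type u} [Group G] [Finite G] (p : ℕ) (hp : p.Prime)
    (hdeg : ∀ χ : Cfsg.IrrCharacter G, Cfsg.charDegree (χ : G → ℂ) ≠ 1 →
      p ∣ Cfsg.charDegree (χ : G → ℂ)) :
    ∃ N : Subgroup G, N.Normal ∧ (Nat.card N).Coprime p ∧ ∃ k : ℕ, N.index = p ^ k := by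
  haveI : Fact p.Prime := ⟨hp⟩
  refine ⟨Cfsg.pResidual p G, ?_, card_pResidual_coprime p hp hdeg, ?_⟩
  · haveI := pResidual_characteristic (G := G) p
    exact Subgroup.normal_of_characteristic _
  · obtain ⟨k, hk⟩ := IsPGroup.iff_card.mp (isPGroup_quotient_pResidual (G := G) p)
    exact ⟨k, by rw [Subgroup.index_eq_card]; exact hk⟩

end Cfsg.Agent.Lib.Helper1.CharThompson
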