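import Mathlib
import Cfsg.Agent.Lib.Helper1.CharThompson3
import Cfsg.Agent.Lib.Helper6.CliffordDeg
import Cfsg.Agent.Lib.Helper3.CharQuot
import Cfsg.Agent.S0856
import Cfsg.Agent.S0146
set_option autoImplicit false
open Cfsg
open scoped ComplexConjugate
universe u
namespace Cfsg.Agent.Lib.Helper1.CharThompson

open Cfsg.Agent.Lib.Helper6 Cfsg.Agent.Lib.Helper3.LinExt Cfsg.Agent.Lib.Helper3.DetChar

/-- if `G/N` is a `p`-group with `O^p(N) = N`, an irreducible character of `G` of degree prime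
to `p` restricts irreducibly to `N` -/
theorem restrict_irr_of_not_dvd {G : Type u} [Group G] [Finite G] (p : ℕ) [hpf : Fact p.Prime]
    (N : Subgroup G) [hN : N.Normal] (hres : Cfsg.pResidual p ↥N = ⊤) {k : ℕ}
    (hk : N.index = p ^ k) (P : Sylow p G) (hPN : (P : Subgroup G) ⊔ N = ⊤)
    {ψ : G → ℂ} (hψ : Cfsg.IsIrrCharacter G ψ) (hpd : ¬ p ∣ Cfsg.charDegree ψ) :
    Cfsg.IsIrrCharacter N (fun n : N => ψ n) := by
  classical
  have hp := hpf.out
  haveI : Fintype G := Fintype.ofFinite G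
  haveI : Fintype N := Fintype.ofFinite N
  haveI := finite_irrCharacter (G := N)
  haveI : Fintype (Cfsg.IrrCharacter N) := Fintype.ofFinite _
  have hψc := IsIrrCharacter.isCharacter hψ
  have hψcf := IsIrrCharacter.isClassFunction hψ
  have hψNc : Cfsg.IsCharacter N (fun n : N => ψ n) := IsCharacter.restrict N hψc
  -- multiplicities
  have hm : ∀ φ : Cfsg.IrrCharacter N, ∃ m : ℕ,
      Cfsg.classInner (fun n : N => ψ n) (φ : N → ℂ) = m :=
    fun φ => IsCharacter.classInner_irr_nat hψNc φ.2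
  choose m hmdef using hm
  have hdegsum : Cfsg.charDegree ψ =
      ∑ φ : Cfsg.IrrCharacter N, Cfsg.charDegree (φ : N → ℂ) * m φ := by
    have h := restrict_apply_one_eq_sum N hψc
    rw [IsCharacter.apply_one_eq_charDegree hψc] at h
    have e : ∀ φ : Cfsg.IrrCharacter N,
        (φ : N → ℂ) 1 * Cfsg.classInner (fun n : N => ψ n) (φ : N → ℂ) =
          ((Cfsg.charDegree (φ : N → ℂ) * m φ : ℕ) : ℂ) := by
      intro φ
      rw [hmdef φ, IsCharacter.apply_one_eq_charDegree (IsIrrCharacter.isCharacter φ.2)]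
      push_cast
      rfl
    rw [Finset.sum_congr rfl (fun φ _ => e φ), ← Nat.cast_sum] at h
    exact_mod_cast h
  letI := irrAction N hN (P : Subgroup G)
  have hPp : IsPGroup p (P : Subgroup G) := P.2
  have hsmul : ∀ (a : (P : Subgroup G)) (θ : Cfsg.IrrCharacter N),
      a • θ = irrConj N hN (a : G)⁻¹ θ := fun _ _ => rfl
  have hminv : ∀ (g : G) (θ : Cfsg.IrrCharacter N), m (irrConj N hN g θ) = m θ := by
    intro g θ
    have h1 := hmdef (irrConj N hN g θ)
    rw [irrConj_coe, ← conjFun_restrict N hN hψcf g, classInner_conjFun_conjFun, hmdef θ] at h1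
    exact_mod_cast h1.symm
  have hcount := sum_modEq_sum_fixed hPp
    (fun φ : Cfsg.IrrCharacter N => Cfsg.charDegree (φ : N → ℂ) * m φ)
    (fun a θ => by
      simp only [hsmul]
      rw [charDegree_irrConj, hminv])
  rw [← hdegsum] at hcount
  -- an invariant constituent
  obtain ⟨θ, hθfix, hθm⟩ : ∃ θ : Cfsg.IrrCharacter N,
      (∀ a : (P : Subgroup G), a • θ = θ) ∧ m θ ≠ 0 := by
    by_contra hne
    push_neg at hne
    have hz : ∑ φ ∈ Finset.univ.filter (fun φ : Cfsg.IrrCharacter N =>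
        ∀ a : (P : Subgroup G), a • φ = φ), Cfsg.charDegree (φ : N → ℂ) * m φ = 0 := by
      apply Finset.sum_eq_zero
      intro φ hφ
      rw [hne φ (Finset.mem_filter.mp hφ).2, mul_zero]
    rw [hz] at hcount
    exact hpd ((Nat.modEq_zero_iff_dvd).mp hcount)
  have hinv := invariant_of_fixed N hN (P : Subgroup G) hPN θ hθfix
  have hcon : Cfsg.classInner (fun n : N => ψ n) (θ : N → ℂ) ≠ 0 := by
    rw [hmdef θ]; exact_mod_cast hθm
  have hθd : ¬ p ∣ Cfsg.charDegree (θ : N → ℂ) := by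
    intro h
    exact hpd (h.trans (charDegree_dvd_of_constituent N hN ⟨ψ, hψ⟩ θ hcon))
  have hθinv : ∀ (g : G) (n : N),
      (θ : N → ℂ) ⟨g * n * g⁻¹, hN.conj_mem (n : G) n.2 g⟩ = (θ : N → ℂ) n := by
    intro g n
    have := congrArg Subtype.val (hinv g)
    rw [irrConj_coe] at this
    exact congrFun this n
  have hcop : N.index.Coprime (Cfsg.detOrder (θ : N → ℂ) * Cfsg.charDegree (θ : N → ℂ)) := by
    rw [hk]
    apply Nat.Coprime.pow_left
    rw [hp.coprime_iff_not_dvd]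
    intro h
    rcases (hp.dvd_mul).mp h with h | h
    · exact not_dvd_detOrder hres (IsIrrCharacter.isCharacter θ.2) h
    · exact hθd h
  obtain ⟨χ, ⟨hχ, hχN, -⟩, -⟩ := Cfsg.Agent.S0867.result N (θ : N → ℂ) θ.2 hθinv
    (Cfsg.charDegree (θ : N → ℂ))
    (IsCharacter.apply_one_eq_charDegree (IsIrrCharacter.isCharacter θ.2)) hcop
  -- Gallagher
  have hone : Cfsg.IsIrrCharacter N (fun _ : N => (1 : ℂ)) := isIrrCharacter_one
  have hprodeq : ((fun _ : N => (1 : ℂ)) * (θ : N → ℂ)) = (θ : N → ℂ) := by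
    funext n
    simp
  have hB := Cfsg.Agent.S0856.result N (fun _ : N => (1 : ℂ)) (θ : N → ℂ) hone θ.2
    (fun g n => rfl) hθinv (by rw [hprodeq]; exact θ.2) χ hχ hχN
  have hψmem : ψ ∈ {ψ' : G → ℂ | Cfsg.IsIrrCharacter G ψ' ∧
      Cfsg.classInner (Cfsg.indFun N ((fun _ : N => (1 : ℂ)) * (θ : N → ℂ))) ψ' ≠ 0} := by
    refine ⟨hψ, ?_⟩
    rw [hprodeq, Cfsg.Agent.S0146.result N _ _ hψcf, ← classInner_conj_symm]
    intro h0
    exact hcon ((map_eq_zero _).mp h0)
  obtain ⟨β, ⟨hβ, hβcon⟩, hβψ⟩ := hB.surjOn hψmem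
  -- `β` has `N` in its kernel
  have hβcf := IsIrrCharacter.isClassFunction hβ
  have hβcon' : Cfsg.classInner (fun n : N => β n) (fun _ : N => (1 : ℂ)) ≠ 0 := by
    rw [Cfsg.Agent.S0146.result N _ _ hβcf, ← classInner_conj_symm] at hβcon
    intro h0
    apply hβcon
    rw [h0, map_zero]
  have hβN := restrict_eq_smul_of_invariant N hN hβ hone (fun g => rfl) hβcon'
  have hβker : ∀ x ∈ N, β x = β 1 := by
    intro x hx
    have h1 := congrFun hβN ⟨x, hx⟩
    have h2 := congrFun hβN 1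
    simp only [Pi.smul_apply, smul_eq_mul, mul_one] at h1 h2
    rw [Subgroup.coe_one] at h2
    rw [h2]
    exact h1
  obtain ⟨β', hβ', hββ'⟩ := Cfsg.Agent.Lib.Helper3.CharQuot.exists_irr_quot N hβ hβker
  haveI : Fintype (G ⧸ N) := Fintype.ofFinite _
  have hβ'dvd : Cfsg.charDegree β' ∣ p ^ k := by
    have := IsIrrCharacter.charDegree_dvd_card hβ'
    rwa [← Subgroup.index_eq_card, hk] at this
  have hββdeg : Cfsg.charDegree β = Cfsg.charDegree β' := by
    unfold Cfsg.charDegree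
    rw [hββ']
    rfl
  -- degrees multiply
  have hmul : Cfsg.charDegree ψ = Cfsg.charDegree β * Cfsg.charDegree χ := by
    have h1 : ψ 1 = β 1 * χ 1 := by rw [← hβψ]; rfl
    rw [IsCharacter.apply_one_eq_charDegree hψc,
      IsCharacter.apply_one_eq_charDegree (IsIrrCharacter.isCharacter hβ),
      IsCharacter.apply_one_eq_charDegree (IsIrrCharacter.isCharacter hχ)] at h1
    exact_mod_cast h1
  have hβone : Cfsg.charDegree β = 1 := by
    rw [hββdeg]
    obtain ⟨j, -, hj⟩ := (Nat.dvd_prime_pow hp).mp hβ'dvd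
    rcases Nat.eq_zero_or_pos j with rfl | hjpos
    · rw [hj, pow_zero]
    · exfalso
      apply hpd
      rw [hmul, hββdeg, hj]
      exact Dvd.dvd.mul_right (dvd_pow_self p hjpos.ne') _
  have hβ1 : β 1 = 1 := by
    rw [IsCharacter.apply_one_eq_charDegree (IsIrrCharacter.isCharacter hβ), hβone]; simp
  have hfinal : (fun n : N => ψ n) = (θ : N → ℂ) := by
    funext n
    rw [← hβψ]
    show β n * χ n = _
    rw [hβker n n.2, hβ1, one_mul, hχN]
  rw [hfinal]
  exact θ.2

end Cfsg.Agent.Lib.Helper1.CharThompson
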