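import Mathlib
import Cfsg.Agent.Lib.Helper1.CharThompson4
set_option autoImplicit false
open Cfsg
open scoped ComplexConjugate
universe u
namespace Cfsg.Agent.Lib.Helper1.CharThompson

open Cfsg.Agent.Lib.Helper6 Cfsg.Agent.Lib.Helper3.LinExt Cfsg.Agent.Lib.Helper3.DetChar

theorem charDegree_restrict {G : Type u} [Group G] (N : Subgroup G) (χ : G → ℂ) :
    Cfsg.charDegree (fun n : N => χ n) = Cfsg.charDegree χ := by
  unfold Cfsg.charDegree
  show ⌊(χ ((1 : N) : G)).re⌋₊ = _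
  rw [Subgroup.coe_one]

theorem s4455 {G : Type u} [Group G] [Finite G] (p : ℕ) (hp : p.Prime) :
    (Nat.card (Cfsg.pResidual p G) : ℤ) ≡
      (∑ᶠ χ ∈ {χ : Cfsg.IrrCharacter G | ¬ p ∣ Cfsg.charDegree (χ : G → ℂ) ∧
        ¬ p ∣ Cfsg.detOrder (χ : G → ℂ)}, (Cfsg.charDegree (χ : G → ℂ) : ℤ) ^ 2) [ZMOD p] := by
  classical
  haveI : Fact p.Prime := ⟨hp⟩
  haveI : Fintype G := Fintype.ofFinite G
  haveI := finite_irrCharacter (G := G)
  haveI : Fintype (Cfsg.IrrCharacter G) := Fintype.ofFinite _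
  obtain ⟨N, hNdef⟩ : ∃ N, N = Cfsg.pResidual p G := ⟨_, rfl⟩
  rw [← hNdef]
  haveI hN : N.Normal := by
    rw [hNdef]
    haveI := pResidual_characteristic (G := G) p
    exact Subgroup.normal_of_characteristic _
  haveI : Fintype N := Fintype.ofFinite N
  haveI := finite_irrCharacter (G := N)
  haveI : Fintype (Cfsg.IrrCharacter N) := Fintype.ofFinite _
  have hres : Cfsg.pResidual p ↥N = ⊤ := by
    rw [hNdef]; exact pResidual_pResidual_eq_top p
  obtain ⟨k, hk⟩ : ∃ k, N.index = p ^ k := by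
    obtain ⟨k, hk⟩ := IsPGroup.iff_card.mp (isPGroup_quotient_pResidual (G := G) p)
    exact ⟨k, by rw [hNdef, Subgroup.index_eq_card]; exact hk⟩
  let P : Sylow p G := default
  have hPN : (P : Subgroup G) ⊔ N = ⊤ := by
    rw [hNdef]; exact sylow_sup_pResidual_eq_top P
  letI := irrAction N hN (P : Subgroup G)
  have hPp : IsPGroup p (P : Subgroup G) := P.2
  have hsmul : ∀ (a : (P : Subgroup G)) (θ : Cfsg.IrrCharacter N),
      a • θ = irrConj N hN (a : G)⁻¹ θ := fun _ _ => rfl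
  have hwinv : ∀ (a : (P : Subgroup G)) (θ : Cfsg.IrrCharacter N),
      Cfsg.charDegree ((a • θ : Cfsg.IrrCharacter N) : N → ℂ) = Cfsg.charDegree (θ : N → ℂ) := by
    intro a θ
    rw [hsmul, charDegree_irrConj]
  have h1 := sum_modEq_sum_fixed hPp (fun θ : Cfsg.IrrCharacter N => Cfsg.charDegree (θ : N → ℂ) ^ 2)
    (fun a θ => by simp only [hwinv])
  have htot : ∑ θ : Cfsg.IrrCharacter N, Cfsg.charDegree (θ : N → ℂ) ^ 2 = Nat.card N := by
    have := sum_sq_degree (G := N)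
    have e : ∀ θ : Cfsg.IrrCharacter N,
        (θ : N → ℂ) 1 ^ 2 = ((Cfsg.charDegree (θ : N → ℂ) ^ 2 : ℕ) : ℂ) := by
      intro θ
      rw [IsCharacter.apply_one_eq_charDegree (IsIrrCharacter.isCharacter θ.2)]
      push_cast
      rfl
    rw [Finset.sum_congr rfl (fun θ _ => e θ), ← Nat.cast_sum] at this
    exact_mod_cast this
  rw [htot] at h1
  -- drop the fixed characters of degree divisible by `p`
  have h2 : ∑ θ ∈ Finset.univ.filter (fun θ : Cfsg.IrrCharacter N =>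
        ∀ a : (P : Subgroup G), a • θ = θ), Cfsg.charDegree (θ : N → ℂ) ^ 2 ≡
      ∑ θ ∈ Finset.univ.filter (fun θ : Cfsg.IrrCharacter N =>
        (∀ a : (P : Subgroup G), a • θ = θ) ∧ ¬ p ∣ Cfsg.charDegree (θ : N → ℂ)),
          Cfsg.charDegree (θ : N → ℂ) ^ 2 [MOD p] := by
    rw [← Finset.filter_filter,
      Finset.sum_filter (fun θ : Cfsg.IrrCharacter N => ¬ p ∣ Cfsg.charDegree (θ : N → ℂ))]
    rw [← ZMod.natCast_eq_natCast_iff, Nat.cast_sum, Nat.cast_sum]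
    apply Finset.sum_congr rfl
    intro θ _
    by_cases h : p ∣ Cfsg.charDegree (θ : N → ℂ)
    · rw [if_neg (not_not.mpr h), Nat.cast_zero, ZMod.natCast_eq_zero_iff]
      exact dvd_pow h two_ne_zero
    · rw [if_pos h]
  -- coprimality for invariant characters of `p'`-degree
  have hcopθ : ∀ θ : Cfsg.IrrCharacter N, ¬ p ∣ Cfsg.charDegree (θ : N → ℂ) →
      N.index.Coprime (Cfsg.detOrder (θ : N → ℂ) * Cfsg.charDegree (θ : N → ℂ)) := by
    intro θ hd
    rw [hk]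
    apply Nat.Coprime.pow_left
    rw [hp.coprime_iff_not_dvd]
    intro h
    rcases (hp.dvd_mul).mp h with h | h
    · exact not_dvd_detOrder hres (IsIrrCharacter.isCharacter θ.2) h
    · exact hd h
  have hcopχ : ∀ χ : G → ℂ, ¬ p ∣ Cfsg.detOrder χ → N.index.Coprime (Cfsg.detOrder χ) := by
    intro χ h
    rw [hk]
    apply Nat.Coprime.pow_left
    rwa [hp.coprime_iff_not_dvd]
  have hinvform : ∀ θ : Cfsg.IrrCharacter N, (∀ g : G, irrConj N hN g θ = θ) →
      ∀ (g : G) (n : N),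
      (θ : N → ℂ) ⟨g * n * g⁻¹, hN.conj_mem (n : G) n.2 g⟩ = (θ : N → ℂ) n := by
    intro θ hinv g n
    have := congrArg Subtype.val (hinv g)
    rw [irrConj_coe] at this
    exact congrFun this n
  -- the bijection
  have h3 : ∑ χ ∈ Finset.univ.filter (fun χ : Cfsg.IrrCharacter G =>
        ¬ p ∣ Cfsg.charDegree (χ : G → ℂ) ∧ ¬ p ∣ Cfsg.detOrder (χ : G → ℂ)),
          Cfsg.charDegree (χ : G → ℂ) ^ 2 =
      ∑ θ ∈ Finset.univ.filter (fun θ : Cfsg.IrrCharacter N =>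
        (∀ a : (P : Subgroup G), a • θ = θ) ∧ ¬ p ∣ Cfsg.charDegree (θ : N → ℂ)),
          Cfsg.charDegree (θ : N → ℂ) ^ 2 := by
    refine Finset.sum_bij
      (fun χ hχ => ⟨fun n : N => (χ : G → ℂ) n,
        restrict_irr_of_not_dvd p N hres hk P hPN χ.2 (Finset.mem_filter.mp hχ).2.1⟩) ?_ ?_ ?_ ?_
    · intro χ hχ
      rw [Finset.mem_filter]
      refine ⟨Finset.mem_univ _, ?_, ?_⟩
      · intro a
        rw [hsmul]
        apply Subtype.ext
        rw [irrConj_coe]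
        exact conjFun_restrict N hN (IsIrrCharacter.isClassFunction χ.2) _
      · show ¬ p ∣ Cfsg.charDegree (fun n : N => (χ : G → ℂ) n)
        rw [charDegree_restrict]
        exact (Finset.mem_filter.mp hχ).2.1
    · intro χ₁ hχ₁ χ₂ hχ₂ heq
      have heq' : ∀ n : N, (χ₁ : G → ℂ) n = (χ₂ : G → ℂ) n := by
        intro n
        exact congrFun (congrArg Subtype.val heq) n
      have hd₁ := (Finset.mem_filter.mp hχ₁).2
      have hd₂ := (Finset.mem_filter.mp hχ₂).2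
      set θ : Cfsg.IrrCharacter N := ⟨fun n : N => (χ₁ : G → ℂ) n,
        restrict_irr_of_not_dvd p N hres hk P hPN χ₁.2 hd₁.1⟩ with hθ
      have hθd : ¬ p ∣ Cfsg.charDegree (θ : N → ℂ) := by
        show ¬ p ∣ Cfsg.charDegree (fun n : N => (χ₁ : G → ℂ) n)
        rw [charDegree_restrict]; exact hd₁.1
      have hθinv : ∀ (g : G) (n : N),
          (θ : N → ℂ) ⟨g * n * g⁻¹, hN.conj_mem (n : G) n.2 g⟩ = (θ : N → ℂ) n :=
        fun g n => IsIrrCharacter.isClassFunction χ₁.2 n g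
      obtain ⟨χ₀, -, huniq⟩ := Cfsg.Agent.S0867.result N (θ : N → ℂ) θ.2 hθinv
        (Cfsg.charDegree (θ : N → ℂ))
        (IsCharacter.apply_one_eq_charDegree (IsIrrCharacter.isCharacter θ.2)) (hcopθ θ hθd)
      have e1 := huniq χ₁ χ₁.2 (fun n => rfl) (hcopχ _ hd₁.2)
      have e2 := huniq χ₂ χ₂.2 (fun n => (heq' n).symm) (hcopχ _ hd₂.2)
      exact Subtype.ext (e1.trans e2.symm)
    · intro θ hθ
      obtain ⟨hfix, hθd⟩ := (Finset.mem_filter.mp hθ).2
      have hinv := invariant_of_fixed N hN (P : Subgroup G) hPN θ hfix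
      obtain ⟨χ₀, ⟨hχ₀, hχ₀N, hχ₀det⟩, -⟩ := Cfsg.Agent.S0867.result N (θ : N → ℂ) θ.2
        (hinvform θ hinv) (Cfsg.charDegree (θ : N → ℂ))
        (IsCharacter.apply_one_eq_charDegree (IsIrrCharacter.isCharacter θ.2)) (hcopθ θ hθd)
      have hdeg : Cfsg.charDegree χ₀ = Cfsg.charDegree (θ : N → ℂ) := by
        rw [← charDegree_restrict N χ₀]
        congr 1
        funext n
        exact hχ₀N n
      refine ⟨⟨χ₀, hχ₀⟩, ?_, ?_⟩
      · rw [Finset.mem_filter]
        refine ⟨Finset.mem_univ _, ?_, ?_⟩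
        · show ¬ p ∣ Cfsg.charDegree χ₀
          rw [hdeg]; exact hθd
        · show ¬ p ∣ Cfsg.detOrder χ₀
          rw [hχ₀det]
          exact not_dvd_detOrder hres (IsIrrCharacter.isCharacter θ.2)
      · apply Subtype.ext
        funext n
        exact hχ₀N n
    · intro χ hχ
      show Cfsg.charDegree (χ : G → ℂ) ^ 2 = Cfsg.charDegree (fun n : N => (χ : G → ℂ) n) ^ 2
      rw [charDegree_restrict]
  -- assemble
  have hset : {χ : Cfsg.IrrCharacter G | ¬ p ∣ Cfsg.charDegree (χ : G → ℂ) ∧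
      ¬ p ∣ Cfsg.detOrder (χ : G → ℂ)} =
      ↑(Finset.univ.filter (fun χ : Cfsg.IrrCharacter G =>
        ¬ p ∣ Cfsg.charDegree (χ : G → ℂ) ∧ ¬ p ∣ Cfsg.detOrder (χ : G → ℂ))) := by
    ext χ
    simp
  rw [hset, finsum_mem_coe_finset]
  have hfin : Nat.card N ≡ ∑ χ ∈ Finset.univ.filter (fun χ : Cfsg.IrrCharacter G =>
        ¬ p ∣ Cfsg.charDegree (χ : G → ℂ) ∧ ¬ p ∣ Cfsg.detOrder (χ : G → ℂ)),
          Cfsg.charDegree (χ : G → ℂ) ^ 2 [MOD p] := by
    rw [h3]
    exact h1.trans h2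
  have := (Int.natCast_modEq_iff).mpr hfin
  push_cast at this
  exact this

end Cfsg.Agent.Lib.Helper1.CharThompson
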