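import Mathlib
import Cfsg.Agent.Lib.Helper6.CharOps
import Cfsg.Agent.Lib.Helper6.IndFunMore
import Cfsg.Agent.Lib.Helper6.Mult

/-!
# A Mackey-type upper bound for the inner product of two induced linear characters

`H, K ≤ G`, `α : H →* ℂˣ`, `β : K →* ℂˣ`, `G = ⋃_w H x_w K`.  Then
`⟨Ind_H^G α, Ind_K^G β⟩` is a natural number, at most the number of `w` such that
`α h = β k` whenever `h x_w = x_w k`.
-/

set_option autoImplicit false

namespace Cfsg.Agent.Lib.Helper1.MackeyBound

open scoped ComplexConjugate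
open Cfsg.Agent.Lib.Helper6

variable {G : Type*} [Group G]

/-- the action of `H × K` on `G` by `(h,k) • g = h g k⁻¹` -/
@[reducible] def dcAct (H K : Subgroup G) : MulAction (H × K) G where
  smul p g := (p.1 : G) * g * ((p.2 : G))⁻¹
  one_smul g := by
    show ((1 : H × K).1 : G) * g * (((1 : H × K).2 : G))⁻¹ = g
    simp
  mul_smul p q g := by
    show ((p * q).1 : G) * g * (((p * q).2 : G))⁻¹ =
      (p.1 : G) * ((q.1 : G) * g * ((q.2 : G))⁻¹) * ((p.2 : G))⁻¹
    simp [mul_assoc]

attribute [local instance] dcAct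

theorem dcAct_smul (H K : Subgroup G) (p : H × K) (g : G) :
    p • g = (p.1 : G) * g * ((p.2 : G))⁻¹ := rfl

/-- the twisted homomorphism `(h,k) ↦ α h * (β k)⁻¹` -/
noncomputable def twist {H K : Subgroup G} (α : H →* ℂˣ) (β : K →* ℂˣ) : H × K →* ℂˣ :=
  α.coprod β⁻¹

theorem twist_apply {H K : Subgroup G} (α : H →* ℂˣ) (β : K →* ℂˣ) (p : H × K) :
    twist α β p = α p.1 * (β p.2)⁻¹ := by
  unfold twist
  rw [MonoidHom.coprod_apply]
  rfl

theorem conj_hom {K : Type*} [Group K] [Finite K] (β : K →* ℂˣ) (k : K) :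
    conj ((β k : ℂˣ) : ℂ) = (((β k)⁻¹ : ℂˣ) : ℂ) := by
  have h1 : ((β k : ℂˣ) : ℂ) ^ (orderOf k) = 1 := by
    rw [← Units.val_pow_eq_pow_val, ← map_pow, pow_orderOf_eq_one, map_one, Units.val_one]
  have h2 : ‖((β k : ℂˣ) : ℂ)‖ = 1 :=
    Complex.norm_eq_one_of_pow_eq_one h1 (orderOf_pos k).ne'
  rw [Units.val_inv_eq_inv_val, Complex.inv_eq_conj h2]

theorem extendByZero_eq_sum [DecidableEq G] (K : Subgroup G) [Fintype K] (θ : K → ℂ) (g : G) :
    Cfsg.extendByZero K θ g = ∑ k : K, if (k : G) = g then θ k else 0 := by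
  by_cases hg : g ∈ K
  · rw [extendByZero_of_mem K θ hg, Finset.sum_eq_single ⟨g, hg⟩]
    · simp
    · intro k _ hk
      rw [if_neg]
      intro h
      apply hk
      exact Subtype.ext h
    · intro h
      exact absurd (Finset.mem_univ _) h
  · rw [extendByZero_of_not_mem K θ hg]
    symm
    apply Finset.sum_eq_zero
    intro k _
    rw [if_neg]
    rintro rfl
    exact hg k.2

open Classical in
/-- the twisted sum over the stabiliser of `x` -/
theorem twisted_sum [Fintype G] (H K : Subgroup G) [Fintype H] [Fintype K]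
    (α : H →* ℂˣ) (β : K →* ℂˣ) (x : G) :
    (∑ p : H × K, if p • x = x then ((twist α β p : ℂˣ) : ℂ) else 0) =
      if (∀ p : H × K, p • x = x → twist α β p = 1) then
        (Nat.card (MulAction.stabilizer (H × K) x) : ℂ) else 0 := by
  classical
  set S := MulAction.stabilizer (H × K) x with hS
  have e1 : (∑ p : H × K, if p • x = x then ((twist α β p : ℂˣ) : ℂ) else 0) =
      ∑ e : S, ((twist α β (e : H × K) : ℂˣ) : ℂ) := by
    rw [← Finset.sum_filter]
    have : (Finset.univ.filter (fun p : H × K => p • x = x)) =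
        (Finset.univ.filter (fun p : H × K => p ∈ S)) := by
      ext p
      simp [hS, MulAction.mem_stabilizer_iff]
    rw [this, ← Finset.sum_subtype_eq_sum_filter]
    have h2 : (Finset.univ : Finset (H × K)).subtype (fun p => p ∈ S) = (Finset.univ : Finset S) := by
      ext e; simp
    rw [h2]
  rw [e1]
  let f : S →* ℂ := (Units.coeHom ℂ).comp ((twist α β).comp S.subtype)
  have e2 : (∑ e : S, ((twist α β (e : H × K) : ℂˣ) : ℂ)) = ∑ e : S, f e := rfl
  rw [e2, sum_hom_units f]
  have e3 : (f = 1) ↔ (∀ p : H × K, p • x = x → twist α β p = 1) := by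
    constructor
    · intro hf p hp
      have hpS : p ∈ S := by rw [hS, MulAction.mem_stabilizer_iff]; exact hp
      have := DFunLike.congr_fun hf ⟨p, hpS⟩
      have h3 : ((twist α β p : ℂˣ) : ℂ) = 1 := this
      exact Units.ext h3
    · intro h
      ext e
      have he : (e : H × K) • x = x := MulAction.mem_stabilizer_iff.1 e.2
      show ((twist α β (e : H × K) : ℂˣ) : ℂ) = 1
      rw [h _ he, Units.val_one]
  by_cases hP : (∀ p : H × K, p • x = x → twist α β p = 1)
  · rw [if_pos hP, if_pos (e3.2 hP), Nat.card_eq_fintype_card]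
  · rw [if_neg hP, if_neg (fun h => hP (e3.1 h)), Nat.cast_zero]

open Classical in
/-- abstract orbit counting -/
theorem orbit_count {M X ι : Type*} [Group M] [Fintype M] [MulAction M X] [Fintype X]
    [Fintype ι] (n : X → ℕ) (hn : ∀ (q : M) (x : X), n (q • x) = n x) (x : ι → X)
    (hcover : ∀ g : X, ∃ w, g ∈ MulAction.orbit M (x w))
    (hle : ∀ w, n (x w) ≤ Nat.card (MulAction.stabilizer M (x w))) :
    ∑ g : X, n g ≤ Fintype.card M * (Finset.univ.filter (fun w => n (x w) ≠ 0)).card := by
  classical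
  have h1 : ∑ g : X, n g ≤ ∑ g : X, ∑ w : ι, (if g ∈ MulAction.orbit M (x w) then n (x w) else 0) := by
    apply Finset.sum_le_sum
    intro g _
    obtain ⟨w₀, hw₀⟩ := hcover g
    have h2 : n g = (if g ∈ MulAction.orbit M (x w₀) then n (x w₀) else 0) := by
      rw [if_pos hw₀]
      obtain ⟨q, rfl⟩ := hw₀
      exact hn q _
    rw [h2]
    exact Finset.single_le_sum (f := fun w => if g ∈ MulAction.orbit M (x w) then n (x w) else 0)
      (fun _ _ => Nat.zero_le _) (Finset.mem_univ w₀)
  refine h1.trans ?_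
  rw [Finset.sum_comm, Finset.card_filter, Finset.mul_sum]
  apply Finset.sum_le_sum
  intro w _
  rw [← Finset.sum_filter, Finset.sum_const, smul_eq_mul]
  by_cases h0 : n (x w) = 0
  · rw [h0, mul_zero]
    exact Nat.zero_le _
  · rw [if_pos h0, mul_one]
    have h3 : (Finset.univ.filter (fun g : X => g ∈ MulAction.orbit M (x w))).card =
        Nat.card (MulAction.orbit M (x w)) := by
      rw [Nat.card_eq_fintype_card, Fintype.card_subtype]
    rw [h3]
    calc Nat.card (MulAction.orbit M (x w)) * n (x w)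
        ≤ Nat.card (MulAction.orbit M (x w)) * Nat.card (MulAction.stabilizer M (x w)) :=
          Nat.mul_le_mul_left _ (hle w)
      _ = Fintype.card M := by
          rw [Nat.card_eq_fintype_card, Nat.card_eq_fintype_card]
          exact MulAction.card_orbit_mul_card_stabilizer_eq_card_group M (x w)

open Classical in
/-- the inner product of two induced linear characters as a double sum -/
theorem classInner_ind_ind [Fintype G] (H K : Subgroup G) [Fintype H] [Fintype K]
    (α : H →* ℂˣ) (β : K →* ℂˣ) :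
    Cfsg.classInner (Cfsg.indFun H (fun h => ((α h : ℂˣ) : ℂ)))
        (Cfsg.indFun K (fun k => ((β k : ℂˣ) : ℂ))) =
      (Nat.card H : ℂ)⁻¹ * ((Nat.card K : ℂ)⁻¹ *
        ∑ x : G, ∑ p : H × K, if p • x = x then ((twist α β p : ℂˣ) : ℂ) else 0) := by
  classical
  rw [IndFunMore.classInner_indFun H _ _ (indFun_isClassFunction K _)]
  congr 1
  have hpt : ∀ (x : G) (h : H),
      ((α h : ℂˣ) : ℂ) * conj (Cfsg.extendByZero K (fun k => ((β k : ℂˣ) : ℂ)) (x⁻¹ * (h : G) * x)) =
        ∑ k : K, if ((h, k) : H × K) • x = x then ((twist α β (h, k) : ℂˣ) : ℂ) else 0 := by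
    intro x h
    rw [extendByZero_eq_sum, map_sum, Finset.mul_sum]
    apply Finset.sum_congr rfl
    intro k _
    have hiff : ((k : G) = x⁻¹ * (h : G) * x) ↔ (((h, k) : H × K) • x = x) := by
      rw [dcAct_smul]
      constructor
      · intro e
        show (h : G) * x * ((k : G))⁻¹ = x
        rw [e]
        group
      · intro e
        have e' : (h : G) * x * ((k : G))⁻¹ = x := e
        have : (h : G) = x * (k : G) * x⁻¹ := by
          calc (h : G) = ((h : G) * x * ((k : G))⁻¹) * (k : G) * x⁻¹ := by group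
            _ = x * (k : G) * x⁻¹ := by rw [e']
        rw [this]
        group
    by_cases hk : ((k : G) = x⁻¹ * (h : G) * x)
    · rw [if_pos hk, if_pos (hiff.1 hk), twist_apply, conj_hom, Units.val_mul]
    · rw [if_neg hk, if_neg (fun e => hk (hiff.2 e)), map_zero, mul_zero]
  unfold Cfsg.indFun
  have h1 : ∀ h : H, ((α h : ℂˣ) : ℂ) * conj ((Nat.card K : ℂ)⁻¹ *
      ∑ x : G, Cfsg.extendByZero K (fun k => ((β k : ℂˣ) : ℂ)) (x⁻¹ * (h : G) * x)) =
      (Nat.card K : ℂ)⁻¹ * ∑ x : G, ∑ k : K,
        if ((h, k) : H × K) • x = x then ((twist α β (h, k) : ℂˣ) : ℂ) else 0 := by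
    intro h
    rw [map_mul, map_inv₀, Complex.conj_natCast, map_sum, mul_left_comm, Finset.mul_sum]
    congr 1
    apply Finset.sum_congr rfl
    intro x _
    exact hpt x h
  rw [Finset.sum_congr rfl (fun h _ => h1 h), ← Finset.mul_sum]
  congr 1
  rw [Finset.sum_comm]
  apply Finset.sum_congr rfl
  intro x _
  rw [Fintype.sum_prod_type]

theorem compat_smul (H K : Subgroup G) (α : H →* ℂˣ) (β : K →* ℂˣ) (q : H × K) (x : G)
    (hP : ∀ p : H × K, p • x = x → twist α β p = 1) :
    ∀ p : H × K, p • (q • x) = q • x → twist α β p = 1 := by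
  intro p hp
  have h1 : (q⁻¹ * p * q) • x = x := by
    rw [mul_smul, mul_smul, hp, inv_smul_smul]
  have h2 := hP _ h1
  rw [map_mul, map_mul, map_inv, mul_comm, ← mul_assoc, mul_inv_cancel, one_mul] at h2
  exact h2

theorem card_stabilizer_smul (H K : Subgroup G) (q : H × K) (x : G) :
    Nat.card (MulAction.stabilizer (H × K) (q • x)) = Nat.card (MulAction.stabilizer (H × K) x) := by
  rw [MulAction.stabilizer_smul_eq_stabilizer_map_conj]
  exact (Nat.card_congr ((MulAction.stabilizer (H × K) x).equivMapOfInjective _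
    (MulEquiv.injective _)).toEquiv).symm

/-- **Mackey-type upper bound.** -/
theorem mackey_bound [Fintype G] (H K : Subgroup G) (α : H →* ℂˣ) (β : K →* ℂˣ)
    {ι : Type*} [Finite ι] (x : ι → G)
    (hcover : ∀ g : G, ∃ w : ι, ∃ h ∈ H, ∃ k ∈ K, g = h * x w * k) :
    ∃ m : ℕ, Cfsg.classInner (Cfsg.indFun H (fun h => ((α h : ℂˣ) : ℂ)))
        (Cfsg.indFun K (fun k => ((β k : ℂˣ) : ℂ))) = m ∧
      m ≤ Nat.card {w : ι // ∀ (h : H) (k : K), (h : G) * x w = x w * (k : G) → α h = β k} := by
  classical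
  have : Fintype ι := Fintype.ofFinite ι
  have : Fintype H := Fintype.ofFinite H
  have : Fintype K := Fintype.ofFinite K
  obtain ⟨m, hm⟩ := IsCharacter.classInner_nat
    (IsCharacter.indFun H (IsIrrCharacter.isCharacter (isIrrCharacter_of_hom α)))
    (IsCharacter.indFun K (IsIrrCharacter.isCharacter (isIrrCharacter_of_hom β)))
  refine ⟨m, hm, ?_⟩
  let n : G → ℕ := fun g => if (∀ p : H × K, p • g = g → twist α β p = 1) then
        Nat.card (MulAction.stabilizer (H × K) g) else 0
  have hH : (Nat.card H : ℂ) ≠ 0 := card_ne_zero_complex H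
  have hK : (Nat.card K : ℂ) ≠ 0 := card_ne_zero_complex K
  have key : (m : ℂ) * ((Nat.card H : ℂ) * (Nat.card K : ℂ)) = ((∑ g : G, n g : ℕ) : ℂ) := by
    rw [← hm, classInner_ind_ind, Nat.cast_sum]
    have : ∀ g : G, (∑ p : H × K, if p • g = g then ((twist α β p : ℂˣ) : ℂ) else 0) = (n g : ℂ) := by
      intro g
      rw [twisted_sum]
      show _ = ((if (∀ p : H × K, p • g = g → twist α β p = 1) then
        Nat.card (MulAction.stabilizer (H × K) g) else 0 : ℕ) : ℂ)
      split_ifs <;> simp
    rw [Finset.sum_congr rfl (fun g _ => this g)]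
    field_simp
  have key' : m * (Nat.card H * Nat.card K) = ∑ g : G, n g := by
    have : ((m * (Nat.card H * Nat.card K) : ℕ) : ℂ) = ((∑ g : G, n g : ℕ) : ℂ) := by
      rw [← key]
      push_cast
      ring
    exact Nat.cast_injective this
  have hn : ∀ (q : H × K) (g : G), n (q • g) = n g := by
    intro q g
    show (if (∀ p : H × K, p • (q • g) = q • g → twist α β p = 1) then
        Nat.card (MulAction.stabilizer (H × K) (q • g)) else 0) =
      (if (∀ p : H × K, p • g = g → twist α β p = 1) then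
        Nat.card (MulAction.stabilizer (H × K) g) else 0)
    rw [card_stabilizer_smul]
    have hiff : (∀ p : H × K, p • (q • g) = q • g → twist α β p = 1) ↔
        (∀ p : H × K, p • g = g → twist α β p = 1) := by
      constructor
      · intro h
        have := compat_smul H K α β q⁻¹ (q • g) h
        rwa [inv_smul_smul] at this
      · exact compat_smul H K α β q g
    rw [if_congr hiff rfl rfl]
  have hcov : ∀ g : G, ∃ w, g ∈ MulAction.orbit (H × K) (x w) := by
    intro g
    obtain ⟨w, h, hh, k, hk, e⟩ := hcover g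
    refine ⟨w, ⟨(⟨h, hh⟩, ⟨k, hk⟩⁻¹), ?_⟩⟩
    show (h : G) * x w * (((⟨k, hk⟩ : K)⁻¹ : K) : G)⁻¹ = g
    rw [e]
    simp
  have hle : ∀ w, n (x w) ≤ Nat.card (MulAction.stabilizer (H × K) (x w)) := by
    intro w
    show (if (∀ p : H × K, p • x w = x w → twist α β p = 1) then
        Nat.card (MulAction.stabilizer (H × K) (x w)) else 0) ≤ _
    split_ifs
    · exact le_rfl
    · exact Nat.zero_le _
  have hcount := orbit_count (M := H × K) n hn x hcov hle
  rw [← key', Fintype.card_prod, ← Nat.card_eq_fintype_card, ← Nat.card_eq_fintype_card] at hcount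
  have hpos : 0 < Nat.card H * Nat.card K := Nat.mul_pos Nat.card_pos Nat.card_pos
  have h3 : m ≤ (Finset.univ.filter (fun w => n (x w) ≠ 0)).card := by
    rw [mul_comm] at hcount
    exact Nat.le_of_mul_le_mul_left hcount hpos
  refine h3.trans ?_
  rw [Nat.card_eq_fintype_card, Fintype.card_subtype]
  apply Finset.card_le_card
  intro w hw
  rw [Finset.mem_filter] at hw ⊢
  refine ⟨Finset.mem_univ _, ?_⟩
  intro h k e
  have hP : ∀ p : H × K, p • x w = x w → twist α β p = 1 := by
    by_contra hne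
    apply hw.2
    show (if (∀ p : H × K, p • x w = x w → twist α β p = 1) then
        Nat.card (MulAction.stabilizer (H × K) (x w)) else 0) = 0
    rw [if_neg hne]
  have h4 : ((h, k) : H × K) • x w = x w := by
    show (h : G) * x w * ((k : G))⁻¹ = x w
    rw [e]
    group
  have h5 := hP _ h4
  rw [twist_apply] at h5
  exact mul_inv_eq_one.1 h5

end Cfsg.Agent.Lib.Helper1.MackeyBound
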