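import Mathlib
import Cfsg.Agent.Lib.Helper1.MackeyBound
import Cfsg.Agent.Lib.Helper1.BruhatU

/-!
# `⟨Ind_B^G φ, Ind_U^G ψ⟩ ≤ 1` for a nondegenerate character `ψ` of the unitriangular group

`G = GL_n(F)`, `B` upper triangular, `U` upper unitriangular, `φ : B →* ℂˣ` trivial on `U`,
`ψ : U →* ℂˣ` nontrivial on every simple root subgroup.
-/

set_option autoImplicit false

namespace Cfsg.Agent.Lib.Helper1.GGBound

open Matrix Cfsg
open Cfsg.Agent.Lib.Helper6.Flg
open Cfsg.Agent.Lib.Helper1.MackeyBound Cfsg.Agent.Lib.Helper1.BruhatU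

variable {n : ℕ} {F : Type*} [Field F]

/-- entries of a conjugate by a permutation matrix -/
theorem conj_Wgl_apply (w : Equiv.Perm (Fin n)) (u : GL (Fin n) F) (k l : Fin n) :
    ((Wgl n F w * u * (Wgl n F w)⁻¹ : GL (Fin n) F) : Matrix (Fin n) (Fin n) F) k l =
      (u : Matrix (Fin n) (Fin n) F) (w.symm k) (w.symm l) := by
  rw [← map_inv, Units.val_mul, Units.val_mul, Wgl_val, Wgl_val, Matrix.mul_assoc,
    Cfsg.Agent.Lib.Helper6.BW.pm_mul, Cfsg.Agent.Lib.Helper6.BW.mul_pm]
  rfl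

/-- two permutations of `Fin n` that reverse every adjacent pair are equal -/
theorem perm_eq_of_descent (w₁ w₂ : Equiv.Perm (Fin n))
    (h₁ : ∀ i j : Fin n, (j : ℕ) = i + 1 → w₁ j < w₁ i)
    (h₂ : ∀ i j : Fin n, (j : ℕ) = i + 1 → w₂ j < w₂ i) : w₁ = w₂ := by
  have anti : ∀ w : Equiv.Perm (Fin n), (∀ i j : Fin n, (j : ℕ) = i + 1 → w j < w i) →
      StrictAnti w := by
    intro w hw
    have key : ∀ (d : ℕ) (i j : Fin n), (j : ℕ) = i + d + 1 → w j < w i := by
      intro d
      induction d with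
      | zero =>
        intro i j hij
        exact hw i j (by omega)
      | succ d ih =>
        intro i j hij
        have hlt : (i : ℕ) + d + 1 < n := by
          have := j.2
          omega
        exact (hw ⟨i + d + 1, hlt⟩ j (by simp; omega)).trans (ih i ⟨i + d + 1, hlt⟩ rfl)
    intro i j hij
    have hij' : (i : ℕ) < j := hij
    exact key (j - i - 1) i j (by omega)
  have a₁ := anti w₁ h₁
  have a₂ := anti w₂ h₂
  -- `w₂⁻¹ ∘ w₁` is strictly monotone, hence the identity
  have hmono : StrictMono (fun i => w₂.symm (w₁ i)) := by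
    intro i j hij
    have h1 : w₁ j < w₁ i := a₁ hij
    by_contra hcon
    rw [not_lt] at hcon
    rcases hcon.lt_or_eq with h | h
    · have := a₂ h
      simp at this
      exact absurd h1 (not_lt.2 this.le)
    · have := w₂.symm.injective h
      exact absurd (w₁.injective this) (ne_of_gt hij)
  have hid : (fun i => w₂.symm (w₁ i)) = id := by
    funext i
    have := StrictMono.range_inj (f := fun i => w₂.symm (w₁ i)) (g := id) hmono strictMono_id
    apply congrFun (this.1 ?_) i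
    rw [Set.range_id]
    exact ((w₁.trans w₂.symm).surjective).range_eq
  ext i
  have := congrFun hid i
  simp only [id] at this
  have h3 : w₁ i = w₂ i := (Equiv.symm_apply_eq w₂).1 this
  rw [h3]

/-- **(C)**: `⟨Ind_B^G φ, Ind_U^G ψ⟩ ≤ 1`. -/
theorem gg_bound [Fintype (GL (Fin n) F)] (U : Subgroup (GL (Fin n) F))
    (hU : ∀ u : GL (Fin n) F, u ∈ U ↔
      (u ∈ upperTriangularGL n F ∧ ∀ i, (u : Matrix (Fin n) (Fin n) F) i i = 1))
    (φ : upperTriangularGL n F →* ℂˣ)
    (hφ : ∀ b : upperTriangularGL n F, (b : GL (Fin n) F) ∈ U → φ b = 1)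
    (ψ : U →* ℂˣ)
    (hψ : ∀ i j : Fin n, (j : ℕ) = i + 1 → ∃ u : U,
      (∀ k l : Fin n, k ≠ l → ¬ (k = i ∧ l = j) →
        ((u : GL (Fin n) F) : Matrix (Fin n) (Fin n) F) k l = 0) ∧ ψ u ≠ 1) :
    ∃ m : ℕ, Cfsg.classInner (Cfsg.indFun (upperTriangularGL n F) (fun b => ((φ b : ℂˣ) : ℂ)))
        (Cfsg.indFun U (fun u => ((ψ u : ℂˣ) : ℂ))) = m ∧ m ≤ 1 := by
  classical
  have hcover : ∀ g : GL (Fin n) F, ∃ w : Equiv.Perm (Fin n),
      ∃ h ∈ upperTriangularGL n F, ∃ k ∈ U, g = h * Wgl n F w * k := by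
    intro g
    obtain ⟨b, hb, w, u, hu, hu1, e⟩ := bruhat_cover_unitri g
    exact ⟨w, b, hb, u, (hU u).2 ⟨hu, hu1⟩, e⟩
  obtain ⟨m, hm, hle⟩ := mackey_bound (upperTriangularGL n F) U φ ψ (fun w => Wgl n F w) hcover
  refine ⟨m, hm, hle.trans ?_⟩
  rw [Finite.card_le_one_iff_subsingleton]
  have hdesc : ∀ w : Equiv.Perm (Fin n),
      (∀ (h : upperTriangularGL n F) (k : U),
        (h : GL (Fin n) F) * Wgl n F w = Wgl n F w * (k : GL (Fin n) F) → φ h = ψ k) →
      ∀ i j : Fin n, (j : ℕ) = i + 1 → w j < w i := by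
    intro w hw i j hij
    by_contra hcon
    rw [not_lt] at hcon
    have hne : i ≠ j := by
      intro e
      rw [e] at hij
      omega
    have hlt : w i < w j := lt_of_le_of_ne hcon (fun e => hne (w.injective e))
    obtain ⟨u, hu0, hu1⟩ := hψ i j hij
    have huU := (hU (u : GL (Fin n) F)).1 u.2
    set b : GL (Fin n) F := Wgl n F w * (u : GL (Fin n) F) * (Wgl n F w)⁻¹ with hb
    have hbB : b ∈ upperTriangularGL n F := by
      show (b : Matrix (Fin n) (Fin n) F).BlockTriangular id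
      intro k l hkl
      have hkl' : l < k := hkl
      rw [hb, conj_Wgl_apply]
      by_cases hc : (w.symm k = i ∧ w.symm l = j)
      · exfalso
        have e1 : k = w i := by rw [← hc.1]; simp
        have e2 : l = w j := by rw [← hc.2]; simp
        rw [e1, e2] at hkl'
        exact absurd hlt (not_lt.2 hkl'.le)
      · apply hu0 _ _ _ hc
        intro e
        exact (ne_of_gt hkl') (w.symm.injective e)
    have hbU : b ∈ U := by
      rw [hU]
      refine ⟨hbB, ?_⟩
      intro k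
      rw [hb, conj_Wgl_apply]
      exact huU.2 _
    have hcomm : (b : GL (Fin n) F) * Wgl n F w = Wgl n F w * (u : GL (Fin n) F) := by
      rw [hb]
      group
    have h1 := hw ⟨b, hbB⟩ u hcomm
    rw [hφ ⟨b, hbB⟩ hbU] at h1
    exact hu1 h1.symm
  constructor
  intro a b
  apply Subtype.ext
  exact perm_eq_of_descent _ _ (hdesc _ a.2) (hdesc _ b.2)

end Cfsg.Agent.Lib.Helper1.GGBound
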