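import Mathlib
import Cfsg.Agent.Lib.Helper1.MackeyBound
import Cfsg.Agent.Lib.Helper2.GLU1
import Cfsg.Agent.Lib.Helper8.SLB4
import Cfsg.Agent.Lib.Helper9.SLV

/-!
# Abstract core of the Gelfand–Graev uniqueness argument

`U ⊴ B ≤ G` with `B/U` abelian, `ψ : U →* ℂˣ`, a cover `G = ⋃_w B x_w U` such that for every
`w` but one some `u ∈ U` has `x_w u x_w⁻¹ ∈ U` and `ψ u ≠ 1`.  Then an irreducible character
of `G` vanishing on `U ∖ 1` has degree `|U|`, a linear constituent `φ` on `B` trivial on `U`,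
and is determined by `φ`; `φ` is invariant under every rank-one reflection.
-/

set_option autoImplicit false
set_option linter.style.haveILetI false
set_option linter.unusedSectionVars false
set_option linter.unusedVariables false

namespace Cfsg.Agent.Lib.Helper1.GGCore

open Cfsg Cfsg.Agent.Lib.Helper6 Cfsg.Agent.Lib.Helper2.GLU
open Cfsg.Agent.Lib.Helper1.MackeyBound
open scoped ComplexConjugate

variable {G : Type*} [Group G] [Fintype G]

/-- **(C), abstract**: the Mackey bound over a cover with descents. -/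
theorem gg_bound_abs (B U : Subgroup G) (ψ : U →* ℂˣ)
    {ι : Type*} [Finite ι] (x : ι → G)
    (hcov : ∀ g : G, ∃ w : ι, ∃ b ∈ B, ∃ u ∈ U, g = b * x w * u)
    (w0 : ι)
    (hdesc : ∀ w : ι, w ≠ w0 → ∃ u : U, x w * (u : G) * (x w)⁻¹ ∈ U ∧ ψ u ≠ 1)
    (hUB : U ≤ B)
    (φ : B →* ℂˣ) (hφ : ∀ b : B, (b : G) ∈ U → φ b = 1) :
    (classInner (indFun B (fun b => ((φ b : ℂˣ) : ℂ)))
      (indFun U (fun u => ((ψ u : ℂˣ) : ℂ)))).re ≤ 1 := by
  obtain ⟨m, hm, hle⟩ := mackey_bound B U φ ψ x hcov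
  rw [hm, Complex.natCast_re]
  have : m ≤ 1 := by
    refine hle.trans ?_
    rw [Finite.card_le_one_iff_subsingleton]
    have key : ∀ w : ι, (∀ (h : B) (k : U), (h : G) * x w = x w * (k : G) → φ h = ψ k) →
        w = w0 := by
      intro w hw
      by_contra hne
      obtain ⟨u, hu, hψu⟩ := hdesc w hne
      have h1 := hw ⟨_, hUB hu⟩ u (by
        show x w * (u : G) * (x w)⁻¹ * x w = x w * (u : G)
        group)
      rw [hφ ⟨_, hUB hu⟩ hu] at h1
      exact hψu h1.symm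
    constructor
    intro a b
    apply Subtype.ext
    rw [key _ a.2, key _ b.2]
  exact_mod_cast this

/-- the hypotheses of the abstract argument -/
structure Hyp (B U : Subgroup G) (ψ : U →* ℂˣ) : Prop where
  hUB : U ≤ B
  hnorm : ∀ b ∈ B, ∀ u ∈ U, b * u * b⁻¹ ∈ U
  hab : ∀ x ∈ B, ∀ y ∈ B, x * y * x⁻¹ * y⁻¹ ∈ U
  yc : ∀ (φ : B →* ℂˣ), (∀ b : B, (b : G) ∈ U → φ b = 1) →
    (classInner (indFun B (fun b => ((φ b : ℂˣ) : ℂ)))
      (indFun U (fun u => ((ψ u : ℂˣ) : ℂ)))).re ≤ 1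

variable {B U : Subgroup G} [Fintype B] [Fintype U] {ψ : U →* ℂˣ} (I : Hyp B U ψ)
include I

/-- an irreducible character vanishing on `U ∖ 1` has degree `|U|` and a linear constituent on
`B` trivial on `U` -/
theorem gg_step (χ : IrrCharacter G) (hv : ∀ u ∈ U, u ≠ 1 → χ.1 u = 0) :
    χ.1 1 = (Nat.card U : ℂ) ∧ ∃ φ : B →* ℂˣ, (∀ b : B, (b : G) ∈ U → φ b = 1) ∧
      1 ≤ (classInner (fun b : B => χ.1 b) (fun b : B => ((φ b : ℂˣ) : ℂ))).re := by
  classical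
  have hχc : IsCharacter G χ.1 := IsIrrCharacter.isCharacter χ.2
  have hχcf : IsClassFunction G χ.1 := IsIrrCharacter.isClassFunction χ.2
  have h1ne : χ.1 1 ≠ 0 := IsIrrCharacter.apply_one_ne_zero χ.2
  have hsum : ∑ u : U, χ.1 u = χ.1 1 := sum_of_vanish U χ.1 hv
  obtain ⟨φ, hφU, hφ1⟩ := Cfsg.Agent.Lib.Helper8.SLB.x4_linear_constituent B U
    I.hUB I.hnorm I.hab χ.1 hχc (by rw [hsum]; exact h1ne)
  have hC := I.yc φ hφU
  have hA : IsCharacter G (indFun B (fun b => ((φ b : ℂˣ) : ℂ))) :=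
    IsCharacter.indFun _ (IsIrrCharacter.isCharacter (isIrrCharacter_of_hom φ))
  have hCc : IsCharacter G (indFun U (fun u => ((ψ u : ℂˣ) : ℂ))) :=
    IsCharacter.indFun _ (IsIrrCharacter.isCharacter (isIrrCharacter_of_hom ψ))
  have hx2 := Cfsg.Agent.Lib.Helper9.SLV.x2_mult_le _ _ hA hCc χ
  have hAχ := re_classInner_indFun B (fun b => ((φ b : ℂˣ) : ℂ)) χ.1 hχcf
  have hCχ := re_classInner_indFun U (fun u => ((ψ u : ℂˣ) : ℂ)) χ.1 hχcf
  have hm := classInner_of_vanish U χ.1 hv ψ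
  obtain ⟨m, hm'⟩ := IsCharacter.classInner_irr_nat (IsCharacter.restrict U hχc)
    (isIrrCharacter_of_hom ψ)
  have hUpos : (Nat.card U : ℂ) ≠ 0 := by
    have : 0 < Nat.card U := Nat.card_pos
    exact_mod_cast this.ne'
  have hdegm : χ.1 1 = (Nat.card U : ℂ) * m := by
    rw [← hm', hm, ← mul_assoc, mul_inv_cancel₀ hUpos, one_mul]
  have hm0 : m ≠ 0 := by
    intro h0
    rw [h0, Nat.cast_zero, mul_zero] at hdegm
    exact h1ne hdegm
  have hm1 : m = 1 := by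
    rw [hAχ, hCχ, hm'] at hx2
    simp only [Complex.natCast_re] at hx2
    have h1 : (1 : ℝ) ≤ m := by exact_mod_cast Nat.one_le_iff_ne_zero.mpr hm0
    have h2 : (m : ℝ) ≤ 1 := by nlinarith
    have : m ≤ 1 := by exact_mod_cast h2
    omega
  have hdeg : χ.1 1 = (Nat.card U : ℂ) := by
    rw [hdegm, hm1, Nat.cast_one, mul_one]
  exact ⟨hdeg, φ, hφU, hφ1⟩

/-- the rank-one step: `φ` is invariant under the reflection `s` of a minimal parabolic `P` -/
theorem gg_rank_one (χ : IrrCharacter G) (hv : ∀ u ∈ U, u ≠ 1 → χ.1 u = 0)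
    (φ : B →* ℂˣ) (hφU : ∀ b : B, (b : G) ∈ U → φ b = 1)
    (hφ1 : 1 ≤ (classInner (fun b : B => χ.1 b) (fun b : B => ((φ b : ℂˣ) : ℂ))).re)
    (UP P : Subgroup G) (hUPU : UP ≤ U) (hBP : B ≤ P)
    (hUPn : ∀ g ∈ P, ∀ u ∈ UP, g * u * g⁻¹ ∈ UP)
    (s : G) (hs : s ∈ P) (hcov : ∀ g ∈ P, g ∈ B ∨ ∃ b ∈ B, ∃ b' ∈ B, g = b * s * b')
    (hcard : Nat.card U * Nat.card B < Nat.card UP * Nat.card P)
    (y : G) (hy : y ∈ B) (hsy : s * y * s⁻¹ ∈ B) :
    φ ⟨s * y * s⁻¹, hsy⟩ = φ ⟨y, hy⟩ := by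
  classical
  haveI : Fintype UP := Fintype.ofFinite _
  haveI : Fintype P := Fintype.ofFinite _
  have hχc : IsCharacter G χ.1 := IsIrrCharacter.isCharacter χ.2
  have hdeg := (gg_step I χ hv).1
  have hvUP : ∀ u ∈ UP, u ≠ 1 → χ.1 u = 0 := fun u hu => hv u (hUPU hu)
  have hsumUP : ∑ u : UP, χ.1 u = χ.1 1 := sum_of_vanish _ χ.1 hvUP
  have hk : (∑ u : UP, χ.1 u).re * (Nat.card B : ℝ) < (Nat.card UP : ℝ) * (Nat.card P : ℝ) := by
    rw [hsumUP, hdeg, Complex.natCast_re]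
    exact_mod_cast hcard
  exact Cfsg.Agent.Lib.Helper9.SLV.r_rank_one UP B P (hUPU.trans I.hUB) hBP hUPn s hs hcov φ
    (fun b hb => hφU b (hUPU hb)) χ.1 hχc hφ1 hk y hy hsy

/-- two irreducible characters vanishing on `U ∖ 1` with a common linear constituent on `B`
(trivial on `U`) are equal -/
theorem gg_unique (χ1 χ2 : IrrCharacter G) (hv1 : ∀ u ∈ U, u ≠ 1 → χ1.1 u = 0)
    (hv2 : ∀ u ∈ U, u ≠ 1 → χ2.1 u = 0)
    (φ : B →* ℂˣ) (hφU : ∀ b : B, (b : G) ∈ U → φ b = 1)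
    (h1 : 1 ≤ (classInner (fun b : B => χ1.1 b) (fun b : B => ((φ b : ℂˣ) : ℂ))).re)
    (h2 : 1 ≤ (classInner (fun b : B => χ2.1 b) (fun b : B => ((φ b : ℂˣ) : ℂ))).re) :
    χ1 = χ2 := by
  classical
  by_contra hne
  have hA : IsCharacter G (indFun B (fun b => ((φ b : ℂˣ) : ℂ))) :=
    IsCharacter.indFun _ (IsIrrCharacter.isCharacter (isIrrCharacter_of_hom φ))
  have hCc : IsCharacter G (indFun U (fun u => ((ψ u : ℂˣ) : ℂ))) :=
    IsCharacter.indFun _ (IsIrrCharacter.isCharacter (isIrrCharacter_of_hom ψ))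
  have hC := I.yc φ hφU
  have hU : ∀ χ : IrrCharacter G, (∀ u ∈ U, u ≠ 1 → χ.1 u = 0) →
      1 ≤ (classInner (indFun U (fun u => ((ψ u : ℂˣ) : ℂ))) χ.1).re := by
    intro χ hv
    have hχcf : IsClassFunction G χ.1 := IsIrrCharacter.isClassFunction χ.2
    rw [re_classInner_indFun U _ χ.1 hχcf, classInner_of_vanish U χ.1 hv ψ,
      (gg_step I χ hv).1]
    have hUpos : (Nat.card U : ℂ) ≠ 0 := by
      have : 0 < Nat.card U := Nat.card_pos
      exact_mod_cast this.ne'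
    rw [inv_mul_cancel₀ hUpos, Complex.one_re]
  have hB : ∀ χ : IrrCharacter G,
      1 ≤ (classInner (fun b : B => χ.1 b) (fun b : B => ((φ b : ℂˣ) : ℂ))).re →
      1 ≤ (classInner (indFun B (fun b => ((φ b : ℂˣ) : ℂ))) χ.1).re := by
    intro χ h
    rw [re_classInner_indFun B _ χ.1 (IsIrrCharacter.isClassFunction χ.2)]
    exact h
  have h := Cfsg.Agent.Lib.Helper9.SLV.x2_two _ _ hA hCc χ1 χ2 hne (hB χ1 h1) (hU χ1 hv1)
    (hB χ2 h2) (hU χ2 hv2)
  linarith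

/-- variant of `gg_unique`: instead of vanishing on `U ∖ 1` assume `ψ` is a constituent of the
restrictions to `U` -/
theorem gg_unique' (χ1 χ2 : IrrCharacter G)
    (φ : B →* ℂˣ) (hφU : ∀ b : B, (b : G) ∈ U → φ b = 1)
    (h1 : 1 ≤ (classInner (fun b : B => χ1.1 b) (fun b : B => ((φ b : ℂˣ) : ℂ))).re)
    (h1' : 1 ≤ (classInner (fun u : U => χ1.1 u) (fun u : U => ((ψ u : ℂˣ) : ℂ))).re)
    (h2 : 1 ≤ (classInner (fun b : B => χ2.1 b) (fun b : B => ((φ b : ℂˣ) : ℂ))).re)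
    (h2' : 1 ≤ (classInner (fun u : U => χ2.1 u) (fun u : U => ((ψ u : ℂˣ) : ℂ))).re) :
    χ1 = χ2 := by
  classical
  by_contra hne
  have hA : IsCharacter G (indFun B (fun b => ((φ b : ℂˣ) : ℂ))) :=
    IsCharacter.indFun _ (IsIrrCharacter.isCharacter (isIrrCharacter_of_hom φ))
  have hCc : IsCharacter G (indFun U (fun u => ((ψ u : ℂˣ) : ℂ))) :=
    IsCharacter.indFun _ (IsIrrCharacter.isCharacter (isIrrCharacter_of_hom ψ))
  have hC := I.yc φ hφU
  have hU : ∀ χ : IrrCharacter G,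
      1 ≤ (classInner (fun u : U => χ.1 u) (fun u : U => ((ψ u : ℂˣ) : ℂ))).re →
      1 ≤ (classInner (indFun U (fun u => ((ψ u : ℂˣ) : ℂ))) χ.1).re := by
    intro χ h
    rw [re_classInner_indFun U _ χ.1 (IsIrrCharacter.isClassFunction χ.2)]
    exact h
  have hB : ∀ χ : IrrCharacter G,
      1 ≤ (classInner (fun b : B => χ.1 b) (fun b : B => ((φ b : ℂˣ) : ℂ))).re →
      1 ≤ (classInner (indFun B (fun b => ((φ b : ℂˣ) : ℂ))) χ.1).re := by
    intro χ h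
    rw [re_classInner_indFun B _ χ.1 (IsIrrCharacter.isClassFunction χ.2)]
    exact h
  have h := Cfsg.Agent.Lib.Helper9.SLV.x2_two _ _ hA hCc χ1 χ2 hne (hB χ1 h1) (hU χ1 h1')
    (hB χ2 h2) (hU χ2 h2')
  linarith

end Cfsg.Agent.Lib.Helper1.GGCore
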