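import Mathlib
import Cfsg.Agent.Lib.Helper1.GGCore
import Cfsg.Agent.Lib.Helper7.ChR1
import Cfsg.Agent.Lib.Helper8.ChevPsi3
import Cfsg.Agent.Lib.Helper5.StChar.W0Cell
import Cfsg.Agent.Lib.Helper5.ChevGroupCard
import Cfsg.Agent.Lib.Helper5.ChevChk.W0All

/-!
# The Gelfand–Graev hypotheses for a Chevalley group with an extended torus

`T` an extended torus (helper7's `ExtTorus`), `Γ = G ⊔ T`, `B̂ = U T`.  We verify
`GGCore.Hyp` for `B̂`, `U` inside `Γ` and the character `ψ` of helper8.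
-/

set_option autoImplicit false
set_option linter.style.haveILetI false
set_option linter.unusedSectionVars false
set_option linter.unusedVariables false

namespace Cfsg.Agent.Lib.Helper1.ChevHyp

open Cfsg Cfsg.Lie Cfsg.Agent.Lib.Helper5.ChevStruct Cfsg.Agent.Lib.Helper5.ChevSym
  Cfsg.Agent.Lib.Helper7.ChR1 Cfsg.Agent.Lib.Helper1.GGCore Cfsg.Agent.Lib.Helper5.StChar

variable {F : Type*} [Field F]
variable {D : ChevalleyDatum} {hD : D ∈ Seven} {T : Subgroup (GL D.Idx F)}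

/-- the ambient group `Γ = G ⊔ T` -/
def Gam (D : ChevalleyDatum) (T : Subgroup (GL D.Idx F)) : Subgroup (GL D.Idx F) :=
  D.group F ⊔ T

theorem group_le_Gam : D.group F ≤ Gam D T := le_sup_left

theorem T_le_Gam : T ≤ Gam D T := le_sup_right

/-- `T` normalises the Chevalley group -/
theorem conj_group (hT : ExtTorus D hD T) (a : GL D.Idx F) (ha : a ∈ T)
    (g : GL D.Idx F) (hg : g ∈ D.group F) : a * g * a⁻¹ ∈ D.group F := by
  unfold ChevalleyDatum.group at hg ⊢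
  apply conj_mem_closure_of_gen _ a _ g hg
  rintro x ⟨r, t, hx⟩
  have hx' : x = xGL D hD r.val t := by
    apply Units.ext
    rw [hx, xGL_val]
    unfold ChevalleyDatum.x
    rw [dif_pos r.2]
  obtain ⟨c, hc⟩ := hT.hroot a ha r.val t
  rw [hx', hc]
  exact xGL_mem_group D hD _ _

theorem le_normalizer_group (hT : ExtTorus D hD T) :
    T ≤ Subgroup.normalizer (D.group F : Set (GL D.Idx F)) := fun a ha =>
  mem_normalizer_of_conj _ a (conj_group hT a ha) (conj_group hT a⁻¹ (T.inv_mem ha))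

/-- `Γ = T G` elementwise -/
theorem Gam_decomp (hT : ExtTorus D hD T) (γ : GL D.Idx F) (hγ : γ ∈ Gam D T) :
    ∃ a ∈ T, ∃ g ∈ D.group F, γ = a * g := by
  have h1 : γ ∈ ((T ⊔ D.group F : Subgroup (GL D.Idx F)) : Set (GL D.Idx F)) := by
    rw [sup_comm]
    exact hγ
  rw [Subgroup.coe_mul_of_left_le_normalizer_right _ _ (le_normalizer_group hT)] at h1
  obtain ⟨a, ha, g, hg, rfl⟩ := Set.mem_mul.1 h1
  exact ⟨a, ha, g, hg, rfl⟩

/-- the index set: the Weyl group as permutations of the roots -/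
abbrev WIdx (D : ChevalleyDatum) (hD : D ∈ Seven) : Type := ↥(parab D hD (fullSet D))

theorem wordOf_wd (σ : WIdx D hD) : Wd D (wordOf D hD σ) := (wordOf_spec D hD σ).1.wd

theorem wGL_mem_Gam (w : List ℕ) (hw : Wd D w) : (wGL D hD w : GL D.Idx F) ∈ Gam D T :=
  group_le_Gam (monomial_le_group D hD (wGL_mem D hD w hw))

/-- the representatives of the double cosets -/
noncomputable def xRep (D : ChevalleyDatum) (hD : D ∈ Seven) (T : Subgroup (GL D.Idx F))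
    (σ : WIdx D hD) : ↥(Gam D T) :=
  ⟨wGL D hD (wordOf D hD σ), wGL_mem_Gam _ (wordOf_wd σ)⟩

/-- `B̂` inside `Γ` -/
abbrev BG (D : ChevalleyDatum) (T : Subgroup (GL D.Idx F)) : Subgroup ↥(Gam D T) :=
  (Bhat D T).subgroupOf (Gam D T)

/-- `U` inside `Γ` -/
abbrev UG (D : ChevalleyDatum) (T : Subgroup (GL D.Idx F)) : Subgroup ↥(Gam D T) :=
  (D.posUnipotent F).subgroupOf (Gam D T)

/-- the Bruhat cover of `Γ` -/
theorem cover_Gam (hT : ExtTorus D hD T) (γ : ↥(Gam D T)) :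
    ∃ σ : WIdx D hD, ∃ b ∈ BG D T, ∃ u ∈ UG D T, γ = b * xRep D hD T σ * u := by
  obtain ⟨a, ha, g, hg, e⟩ := Gam_decomp hT γ.1 γ.2
  obtain ⟨w, hw, b, hb, v, hv, e'⟩ := bruhat_exists_word D hD g hg
  have hvU : v ∈ D.posUnipotent F := unegOf_le_pos D _ (unegSub_le_unegOf D hD w hw hv)
  let σ : WIdx D hD := ⟨wPerm D hD w, wPerm_mem_parab D hD _ w (wdIn_full hw)⟩
  have hσ : wPerm D hD (wordOf D hD σ) = wPerm D hD w := (wordOf_spec D hD σ).2
  have hw' := wordOf_wd (hD := hD) σ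
  have hH : (wGL D hD w * (wGL D hD (wordOf D hD σ))⁻¹ : GL D.Idx F) ∈ D.diagonalSubgroup F :=
    (hrel_iff_act_eq D hD w (wordOf D hD σ) hw hw').2
      ((wPerm_eq_iff D hD w (wordOf D hD σ) hw hw').1 hσ.symm)
  have hbB : a * b * (wGL D hD w * (wGL D hD (wordOf D hD σ))⁻¹) ∈ Bhat D T :=
    mul_mem (mul_mem (T_le_Bhat ha) (hT.borel_le_Bhat hb)) (T_le_Bhat (hT.hH hH))
  have hbG : a * b * (wGL D hD w * (wGL D hD (wordOf D hD σ))⁻¹) ∈ Gam D T :=
    mul_mem (mul_mem (T_le_Gam ha) (group_le_Gam (borel_le_group D hD hb)))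
      (mul_mem (wGL_mem_Gam _ hw) (inv_mem (wGL_mem_Gam _ hw')))
  have hvG : v ∈ Gam D T := group_le_Gam (pos_le_group D hD hvU)
  refine ⟨σ, ⟨_, hbG⟩, hbB, ⟨v, hvG⟩, hvU, ?_⟩
  apply Subtype.ext
  show γ.1 = a * b * (wGL D hD w * (wGL D hD (wordOf D hD σ))⁻¹) * wGL D hD (wordOf D hD σ) * v
  rw [e, e']
  group

/-- diagonal matrices commute -/
theorem diagSub_comm {ι : Type*} [Fintype ι] [DecidableEq ι] (a b : GL ι F)
    (ha : a ∈ Cfsg.Agent.Lib.Helper5.UniTri.diagSub ι F)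
    (hb : b ∈ Cfsg.Agent.Lib.Helper5.UniTri.diagSub ι F) : a * b = b * a := by
  apply Units.ext
  rw [Units.val_mul, Units.val_mul]
  ext i j
  rw [Matrix.mul_apply, Matrix.mul_apply]
  have h1 : ∀ k, (a : Matrix ι ι F) i k * (b : Matrix ι ι F) k j =
      if k = i then (a : Matrix ι ι F) i i * (b : Matrix ι ι F) i j else 0 := by
    intro k
    by_cases hk : k = i
    · rw [if_pos hk, hk]
    · rw [if_neg hk, ha.1 i k (fun e => hk e.symm), zero_mul]
  have h2 : ∀ k, (b : Matrix ι ι F) i k * (a : Matrix ι ι F) k j =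
      if k = i then (b : Matrix ι ι F) i i * (a : Matrix ι ι F) i j else 0 := by
    intro k
    by_cases hk : k = i
    · rw [if_pos hk, hk]
    · rw [if_neg hk, hb.1 i k (fun e => hk e.symm), zero_mul]
  rw [Finset.sum_congr rfl (fun k _ => h1 k), Finset.sum_congr rfl (fun k _ => h2 k),
    Finset.sum_ite_eq' Finset.univ i, Finset.sum_ite_eq' Finset.univ i, if_pos (Finset.mem_univ _),
    if_pos (Finset.mem_univ _)]
  by_cases hij : i = j
  · rw [hij, mul_comm]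
  · rw [ha.1 i j hij, hb.1 i j hij, mul_zero, mul_zero]

/-- `B̂ / U` is abelian -/
theorem comm_mem_pos (hT : ExtTorus D hD T) (x y : GL D.Idx F) (hx : x ∈ Bhat D T)
    (hy : y ∈ Bhat D T) : x * y * x⁻¹ * y⁻¹ ∈ D.posUnipotent F := by
  obtain ⟨u1, hu1, a1, ha1, rfl⟩ := hT.Bhat_decomp x hx
  obtain ⟨u2, hu2, a2, ha2, rfl⟩ := hT.Bhat_decomp y hy
  have hc : a1 * a2 = a2 * a1 := diagSub_comm a1 a2 (hT.hdiag ha1) (hT.hdiag ha2)
  have e : u1 * a1 * (u2 * a2) * (u1 * a1)⁻¹ * (u2 * a2)⁻¹ =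
      u1 * (a1 * u2 * a1⁻¹) * (a2 * u1⁻¹ * a2⁻¹) * u2⁻¹ := by
    have h3 : a1 * a2 * a1⁻¹ = a2 := by rw [hc]; group
    calc u1 * a1 * (u2 * a2) * (u1 * a1)⁻¹ * (u2 * a2)⁻¹
        = u1 * (a1 * u2 * a1⁻¹) * (a1 * a2 * a1⁻¹) * u1⁻¹ * a2⁻¹ * u2⁻¹ := by group
      _ = u1 * (a1 * u2 * a1⁻¹) * (a2 * u1⁻¹ * a2⁻¹) * u2⁻¹ := by rw [h3]; group
  rw [e]
  exact mul_mem (mul_mem (mul_mem hu1 (hT.conj_pos a1 ha1 u2 hu2))
    (hT.conj_pos a2 ha2 u1⁻¹ (inv_mem hu1))) (inv_mem hu2)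

/-- `U` inside `Γ` maps to `U ≤ GL` -/
def toPosG (D : ChevalleyDatum) (T : Subgroup (GL D.Idx F)) : ↥(UG D T) →* ↥(D.posUnipotent F) where
  toFun u := ⟨((u : ↥(Gam D T)) : GL D.Idx F), u.2⟩
  map_one' := rfl
  map_mul' _ _ := rfl

/-- helper8's character on `U` regarded as a subgroup of `Γ` -/
noncomputable def psiG (D : ChevalleyDatum) (hD : D ∈ Seven) (T : Subgroup (GL D.Idx F))
    (ψ0 : Multiplicative F →* ℂˣ) : ↥(UG D T) →* ℂˣ :=
  (Cfsg.Agent.Lib.Helper8.ChevPsi.chevPsi D hD ψ0).comp (toPosG D T)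

theorem psiG_apply (ψ0 : Multiplicative F →* ℂˣ) (u : ↥(UG D T)) :
    psiG D hD T ψ0 u = Cfsg.Agent.Lib.Helper8.ChevPsi.chevPsi D hD ψ0
      ⟨((u : ↥(Gam D T)) : GL D.Idx F), u.2⟩ := rfl

/-- the longest element as an index -/
noncomputable def sigma0 (D : ChevalleyDatum) (hD : D ∈ Seven) : WIdx D hD :=
  ⟨wPerm D hD (Classical.choose (exists_w0 D hD)).reverse,
    wPerm_mem_parab D hD _ _ (wdIn_full (WdIn.reverse (wdIn_full
      (checkW0_spec D _ (Classical.choose_spec (exists_w0 D hD))).1)).wd)⟩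

/-- descents: every double coset but the big one contains an obstruction -/
theorem descent_Gam (ψ0 : Multiplicative F →* ℂˣ) (hψ0 : ψ0 (Multiplicative.ofAdd (1 : F)) ≠ 1)
    (σ : WIdx D hD) (hσ : σ ≠ sigma0 D hD) :
    ∃ u : ↥(UG D T), xRep D hD T σ * (u : ↥(Gam D T)) * (xRep D hD T σ)⁻¹ ∈ UG D T ∧
      psiG D hD T ψ0 u ≠ 1 := by
  have hw0 := Classical.choose_spec (exists_w0 D hD)
  set w0 := Classical.choose (exists_w0 D hD) with hw0def
  have hu := wordOf_wd (hD := hD) σ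
  have hex : ∃ j, j < D.rank ∧ D.IsPosRoot (wAct D (wordOf D hD σ) (D.simple j)) := by
    by_contra hcon
    push Not at hcon
    apply hσ
    apply Subtype.ext
    have := wPerm_eq_w0 D hD w0 hw0 (wordOf D hD σ) hu hcon
    rw [(wordOf_spec D hD σ).2] at this
    exact this
  obtain ⟨j, hj, hpos⟩ := hex
  have hsimple := Cfsg.Agent.Lib.Helper8.ChevPsi.simple_isPosRoot D hD j hj
  have hxU : xGL D hD (D.simple j) (1 : F) ∈ D.posUnipotent F :=
    Cfsg.Agent.Lib.Helper8.ChevPsi.xGL_mem_posUnipotent D hD _ hsimple 1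
  have hxG : xGL D hD (D.simple j) (1 : F) ∈ Gam D T := group_le_Gam (xGL_mem_group D hD _ _)
  refine ⟨⟨⟨_, hxG⟩, hxU⟩, ?_, ?_⟩
  · obtain ⟨ε, _, hε⟩ := wGL_conj (F := F) D hD (wordOf D hD σ) hu (D.simple j) hsimple.1
    have h1 := hε 1 (xGL D hD (D.simple j) 1) rfl
    have h2 : (wGL D hD (wordOf D hD σ) * xGL D hD (D.simple j) 1 *
        (wGL D hD (wordOf D hD σ))⁻¹ : GL D.Idx F) =
        xGL D hD (wAct D (wordOf D hD σ) (D.simple j)) (ε * 1) := Units.ext h1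
    show (wGL D hD (wordOf D hD σ) * xGL D hD (D.simple j) 1 *
        (wGL D hD (wordOf D hD σ))⁻¹ : GL D.Idx F) ∈ D.posUnipotent F
    rw [h2]
    exact Cfsg.Agent.Lib.Helper8.ChevPsi.xGL_mem_posUnipotent D hD _ hpos _
  · rw [psiG_apply, Cfsg.Agent.Lib.Helper8.ChevPsi.chevPsi_simple D hD ψ0 _ j hj 1 rfl]
    exact hψ0

/-- **the Gelfand–Graev hypotheses hold in `Γ`** -/
theorem hyp_Gam [Fintype ↥(Gam D T)] (hT : ExtTorus D hD T) (ψ0 : Multiplicative F →* ℂˣ)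
    (hψ0 : ψ0 (Multiplicative.ofAdd (1 : F)) ≠ 1) :
    Hyp (BG D T) (UG D T) (psiG D hD T ψ0) where
  hUB := fun u hu => pos_le_Bhat hu
  hnorm := by
    intro b hb u hu
    have hn := hT.Bhat_le_normalizer_pos hb
    exact (Subgroup.mem_normalizer_iff.1 hn _).1 hu
  hab := by
    intro x hx y hy
    exact comm_mem_pos hT _ _ hx hy
  yc := by
    intro φ hφ
    haveI : Finite (WIdx D hD) := inferInstance
    exact gg_bound_abs (BG D T) (UG D T) (psiG D hD T ψ0) (xRep D hD T) (cover_Gam hT)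
      (sigma0 D hD) (descent_Gam ψ0 hψ0) (fun u hu => pos_le_Bhat hu) φ hφ

end Cfsg.Agent.Lib.Helper1.ChevHyp
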