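import Mathlib
import Cfsg.Agent.Lib.Helper1.ChevHyp
import Cfsg.Agent.Lib.Helper5.ChevCharDiag2

/-!
# The Gelfand–Graev hypotheses for the Chevalley group itself

`GGCore.Hyp` for `B = (borelSubgroup).subgroupOf G`, `U = (posUnipotent).subgroupOf G` inside
`G = D.group F`, with helper8's character `chevPsiG`.
-/

set_option autoImplicit false
set_option linter.style.haveILetI false
set_option linter.unusedSectionVars false
set_option linter.unusedVariables false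

namespace Cfsg.Agent.Lib.Helper1.ChevHypG

open Cfsg Cfsg.Lie Cfsg.Agent.Lib.Helper5.ChevStruct Cfsg.Agent.Lib.Helper5.ChevSym
  Cfsg.Agent.Lib.Helper1.GGCore Cfsg.Agent.Lib.Helper5.StChar
  Cfsg.Agent.Lib.Helper1.ChevHyp

variable {F : Type*} [Field F]
variable {D : ChevalleyDatum} {hD : D ∈ Seven}

/-- commutators of `U ⊔ T` lie in `U` when `T` is commutative and normalises `U` -/
theorem comm_mem_of_sup {G : Type*} [Group G] (U T : Subgroup G)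
    (hn : T ≤ Subgroup.normalizer (U : Set G)) (hc : ∀ a ∈ T, ∀ b ∈ T, a * b = b * a)
    (x y : G) (hx : x ∈ U ⊔ T) (hy : y ∈ U ⊔ T) : x * y * x⁻¹ * y⁻¹ ∈ U := by
  have hdec : ∀ z ∈ U ⊔ T, ∃ u ∈ U, ∃ a ∈ T, z = u * a := by
    intro z hz
    have hz' : z ∈ ((U ⊔ T : Subgroup G) : Set G) := hz
    rw [Subgroup.coe_mul_of_right_le_normalizer_left _ _ hn] at hz'
    obtain ⟨u, hu, a, ha, rfl⟩ := Set.mem_mul.1 hz'
    exact ⟨u, hu, a, ha, rfl⟩
  have hconj : ∀ a ∈ T, ∀ u ∈ U, a * u * a⁻¹ ∈ U := fun a ha u hu =>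
    (Subgroup.mem_normalizer_iff.1 (hn ha) u).1 hu
  obtain ⟨u1, hu1, a1, ha1, rfl⟩ := hdec x hx
  obtain ⟨u2, hu2, a2, ha2, rfl⟩ := hdec y hy
  have h3 : a1 * a2 * a1⁻¹ = a2 := by rw [hc a1 ha1 a2 ha2]; group
  have e : u1 * a1 * (u2 * a2) * (u1 * a1)⁻¹ * (u2 * a2)⁻¹ =
      u1 * (a1 * u2 * a1⁻¹) * (a2 * u1⁻¹ * a2⁻¹) * u2⁻¹ := by
    calc u1 * a1 * (u2 * a2) * (u1 * a1)⁻¹ * (u2 * a2)⁻¹
        = u1 * (a1 * u2 * a1⁻¹) * (a1 * a2 * a1⁻¹) * u1⁻¹ * a2⁻¹ * u2⁻¹ := by group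
      _ = u1 * (a1 * u2 * a1⁻¹) * (a2 * u1⁻¹ * a2⁻¹) * u2⁻¹ := by rw [h3]; group
  rw [e]
  exact mul_mem (mul_mem (mul_mem hu1 (hconj a1 ha1 u2 hu2))
    (hconj a2 ha2 u1⁻¹ (inv_mem hu1))) (inv_mem hu2)

/-- the representatives of the double cosets, in `G` -/
noncomputable def xRepG (D : ChevalleyDatum) (hD : D ∈ Seven) (F : Type*) [Field F]
    (σ : WIdx D hD) : ↥(D.group F) :=
  ⟨wGL D hD (wordOf D hD σ), monomial_le_group D hD (wGL_mem D hD _ (wordOf_wd σ))⟩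

/-- `B` inside `G` -/
abbrev Bg (D : ChevalleyDatum) (F : Type*) [Field F] : Subgroup ↥(D.group F) :=
  (D.borelSubgroup F).subgroupOf (D.group F)

/-- `U` inside `G` -/
abbrev Ug (D : ChevalleyDatum) (F : Type*) [Field F] : Subgroup ↥(D.group F) :=
  (D.posUnipotent F).subgroupOf (D.group F)

/-- the Bruhat cover of `G` -/
theorem cover_group (g : ↥(D.group F)) :
    ∃ σ : WIdx D hD, ∃ b ∈ Bg D F, ∃ u ∈ Ug D F, g = b * xRepG D hD F σ * u := by
  obtain ⟨w, hw, b, hb, v, hv, e'⟩ := bruhat_exists_word D hD g.1 g.2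
  have hvU : v ∈ D.posUnipotent F := unegOf_le_pos D _ (unegSub_le_unegOf D hD w hw hv)
  let σ : WIdx D hD := ⟨wPerm D hD w, wPerm_mem_parab D hD _ w (wdIn_full hw)⟩
  have hσ : wPerm D hD (wordOf D hD σ) = wPerm D hD w := (wordOf_spec D hD σ).2
  have hw' := wordOf_wd (hD := hD) σ
  have hH : (wGL D hD w * (wGL D hD (wordOf D hD σ))⁻¹ : GL D.Idx F) ∈ D.diagonalSubgroup F :=
    (hrel_iff_act_eq D hD w (wordOf D hD σ) hw hw').2
      ((wPerm_eq_iff D hD w (wordOf D hD σ) hw hw').1 hσ.symm)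
  have hbB : b * (wGL D hD w * (wGL D hD (wordOf D hD σ))⁻¹) ∈ D.borelSubgroup F :=
    mul_mem hb (diagonal_le_borel D hH)
  refine ⟨σ, ⟨_, borel_le_group D hD hbB⟩, hbB, ⟨v, pos_le_group D hD hvU⟩, hvU, ?_⟩
  apply Subtype.ext
  show g.1 = b * (wGL D hD w * (wGL D hD (wordOf D hD σ))⁻¹) * wGL D hD (wordOf D hD σ) * v
  rw [e']
  group

/-- descents in `G` -/
theorem descent_group (ψ0 : Multiplicative F →* ℂˣ) (hψ0 : ψ0 (Multiplicative.ofAdd (1 : F)) ≠ 1)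
    (σ : WIdx D hD) (hσ : σ ≠ sigma0 D hD) :
    ∃ u : ↥(Ug D F), xRepG D hD F σ * (u : ↥(D.group F)) * (xRepG D hD F σ)⁻¹ ∈ Ug D F ∧
      Cfsg.Agent.Lib.Helper8.ChevPsi.chevPsiG D hD ψ0 u ≠ 1 := by
  have hw0 := Classical.choose_spec (exists_w0 D hD)
  set w0 := Classical.choose (exists_w0 D hD) with hw0def
  have hu := wordOf_wd (hD := hD) σ
  have hex : ∃ j, j < D.rank ∧ D.IsPosRoot (wAct D (wordOf D hD σ) (D.simple j)) := by
    by_contra hcon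
    push Not at hcon
    apply hσ
    apply Subtype.ext
    have := wPerm_eq_w0 D hD w0 hw0 (wordOf D hD σ) hu hcon
    rw [(wordOf_spec D hD σ).2] at this
    exact this
  obtain ⟨j, hj, hpos⟩ := hex
  have hsimple := Cfsg.Agent.Lib.Helper8.ChevPsi.simple_isPosRoot D hD j hj
  have hxU : xGL D hD (D.simple j) (1 : F) ∈ D.posUnipotent F :=
    Cfsg.Agent.Lib.Helper8.ChevPsi.xGL_mem_posUnipotent D hD _ hsimple 1
  refine ⟨⟨⟨_, xGL_mem_group D hD _ _⟩, hxU⟩, ?_, ?_⟩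
  · obtain ⟨ε, _, hε⟩ := wGL_conj (F := F) D hD (wordOf D hD σ) hu (D.simple j) hsimple.1
    have h1 := hε 1 (xGL D hD (D.simple j) 1) rfl
    have h2 : (wGL D hD (wordOf D hD σ) * xGL D hD (D.simple j) 1 *
        (wGL D hD (wordOf D hD σ))⁻¹ : GL D.Idx F) =
        xGL D hD (wAct D (wordOf D hD σ) (D.simple j)) (ε * 1) := Units.ext h1
    show (wGL D hD (wordOf D hD σ) * xGL D hD (D.simple j) 1 *
        (wGL D hD (wordOf D hD σ))⁻¹ : GL D.Idx F) ∈ D.posUnipotent F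
    rw [h2]
    exact Cfsg.Agent.Lib.Helper8.ChevPsi.xGL_mem_posUnipotent D hD _ hpos _
  · rw [Cfsg.Agent.Lib.Helper8.ChevPsi.chevPsiG_simple D hD ψ0 _ j hj 1 rfl]
    exact hψ0

/-- **the Gelfand–Graev hypotheses hold in `G = D.group F`** -/
theorem hyp_group (D : ChevalleyDatum) (hD : D ∈ Seven)
    [Fintype ↥(D.group F)] (ψ0 : Multiplicative F →* ℂˣ)
    (hψ0 : ψ0 (Multiplicative.ofAdd (1 : F)) ≠ 1) :
    Hyp (Bg D F) (Ug D F) (Cfsg.Agent.Lib.Helper8.ChevPsi.chevPsiG D hD ψ0) := by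
  refine ⟨fun u hu => pos_le_borel D hu, ?_, ?_, ?_⟩
  · intro b hb u hu
    have hn := borel_le_normalizer_pos D hD hb
    exact (Subgroup.mem_normalizer_iff.1 hn _).1 hu
  · intro x hx y hy
    exact comm_mem_of_sup (D.posUnipotent F) (D.diagonalSubgroup F)
      (diagonal_le_normalizer_pos D hD)
      (fun a ha b hb => diagSub_comm a b (diagonalSubgroup_le_diagSub D hD ha)
        (diagonalSubgroup_le_diagSub D hD hb)) _ _ hx hy
  · intro φ hφ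
    haveI : Finite (WIdx D hD) := inferInstance
    exact gg_bound_abs (Bg D F) (Ug D F) _ (xRepG D hD F) (cover_group (hD := hD))
      (sigma0 D hD) (descent_group ψ0 hψ0) (fun u hu => pos_le_borel D hu) φ hφ

/-- existence form: some `ψ` satisfies the hypotheses -/
theorem exists_hyp_group [Fintype F] (D : ChevalleyDatum) (hD : D ∈ Seven)
    [Fintype ↥(D.group F)] :
    ∃ ψ : ↥(Ug D F) →* ℂˣ, Hyp (Bg D F) (Ug D F) ψ := by
  obtain ⟨ψ0, hψ0⟩ := Cfsg.Agent.Lib.Helper8.ChevPsi.exists_addChar_ne_one (F := F)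
  exact ⟨_, hyp_group D hD ψ0 hψ0⟩

end Cfsg.Agent.Lib.Helper1.ChevHypG
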