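import Mathlib

set_option autoImplicit false
universe u
open scoped commutatorElement

namespace Cfsg.Agent.Lib.Helper1.CommAbelianOp

variable {G : Type u} [Group G]

theorem comm_le_left {A B : Subgroup G} (hAB : A ≤ Subgroup.normalizer (B : Set G)) :
    ⁅B, A⁆ ≤ B := by
  rw [Subgroup.commutator_le]
  intro b hb a ha
  have h1 : a * b⁻¹ * a⁻¹ ∈ B := (Subgroup.mem_normalizer_iff.mp (hAB ha) b⁻¹).mp (B.inv_mem hb)
  have : ⁅b, a⁆ = b * (a * b⁻¹ * a⁻¹) := by rw [commutatorElement_def]; group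
  rw [this]; exact B.mul_mem hb h1

theorem fix_derived {A B : Subgroup G} (hc : ⁅⁅B, B⁆, A⁆ = ⊥) :
    ∀ k ∈ ⁅B, B⁆, ∀ a ∈ A, a * k = k * a := by
  intro k hk a ha
  have h1 : ⁅k, a⁆ ∈ ⁅⁅B, B⁆, A⁆ := Subgroup.commutator_mem_commutator hk ha
  rw [hc, Subgroup.mem_bot, commutatorElement_def] at h1
  have : k * a = a * k := by
    calc k * a = (k * a * k⁻¹ * a⁻¹) * (a * k) := by group
      _ = a * k := by rw [h1, one_mul]
  exact this.symm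

theorem conj_comm {A B : Subgroup G} (hc : ⁅⁅B, B⁆, A⁆ = ⊥) :
    ∀ y ∈ B, ∀ z ∈ B, ∀ a ∈ A, ⁅a * y * a⁻¹, a * z * a⁻¹⁆ = ⁅y, z⁆ := by
  intro y hy z hz a ha
  have h1 : ⁅y, z⁆ ∈ ⁅B, B⁆ := Subgroup.commutator_mem_commutator hy hz
  have h2 := fix_derived hc _ h1 a ha
  calc ⁅a * y * a⁻¹, a * z * a⁻¹⁆ = a * ⁅y, z⁆ * a⁻¹ := by
        simp only [commutatorElement_def]; group
    _ = ⁅y, z⁆ := by rw [h2]; group

theorem derived_conj_mem {B : Subgroup G} : ∀ k ∈ ⁅B, B⁆, ∀ b ∈ B, b * k * b⁻¹ ∈ ⁅B, B⁆ := by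
  intro k hk b hb
  have hkB : k ∈ B := (Subgroup.commutator_le.mpr (fun x hx y hy => by
    rw [commutatorElement_def]
    exact B.mul_mem (B.mul_mem (B.mul_mem hx hy) (B.inv_mem hx)) (B.inv_mem hy))) hk
  have : b * k * b⁻¹ = ⁅b, k⁆ * k := by rw [commutatorElement_def]; group
  rw [this]
  exact Subgroup.mul_mem _ (Subgroup.commutator_mem_commutator hb hkB) hk

theorem comm_cent_derived {A B : Subgroup G} (hAB : A ≤ Subgroup.normalizer (B : Set G))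
    (hc : ⁅⁅B, B⁆, A⁆ = ⊥) :
    ∀ d ∈ ⁅B, A⁆, ∀ k ∈ ⁅B, B⁆, d * k = k * d := by
  have key : ⁅B, A⁆ ≤ Subgroup.centralizer ((⁅B, B⁆ : Subgroup G) : Set G) := by
    rw [Subgroup.commutator_le]
    intro b hb a ha
    rw [Subgroup.mem_centralizer_iff]
    intro k hk
    have hk' : k ∈ ⁅B, B⁆ := hk
    -- b⁻¹ k b ∈ B'
    have h1 : b⁻¹ * k * b ∈ ⁅B, B⁆ := by
      have := derived_conj_mem k hk' b⁻¹ (B.inv_mem hb)
      simpa using this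
    have h2 := fix_derived hc _ h1 a ha
    have h3 := fix_derived hc _ hk' a ha
    -- ⁅b,a⁆ k ⁅b,a⁆⁻¹ = k
    have h4 : a⁻¹ * k * a = k := by
      calc a⁻¹ * k * a = a⁻¹ * (k * a) := by group
        _ = a⁻¹ * (a * k) := by rw [h3]
        _ = k := by group
    have h5 : a * (b⁻¹ * k * b) * a⁻¹ = b⁻¹ * k * b := by
      rw [h2]; group
    have h6 : ⁅b, a⁆ * k * ⁅b, a⁆⁻¹ = k := by
      calc ⁅b, a⁆ * k * ⁅b, a⁆⁻¹ = b * (a * (b⁻¹ * (a⁻¹ * k * a) * b) * a⁻¹) * b⁻¹ := by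
            rw [commutatorElement_def]; group
        _ = b * (a * (b⁻¹ * k * b) * a⁻¹) * b⁻¹ := by rw [h4]
        _ = b * (b⁻¹ * k * b) * b⁻¹ := by rw [h5]
        _ = k := by group
    calc k * ⁅b, a⁆ = (⁅b, a⁆ * k * ⁅b, a⁆⁻¹) * ⁅b, a⁆ := by rw [h6]
      _ = ⁅b, a⁆ * k := by group
  intro d hd k hk
  have := Subgroup.mem_centralizer_iff.mp (key hd) k hk
  exact this.symm

theorem comm_conj_mem {A B : Subgroup G} :
    ∀ d ∈ ⁅B, A⁆, ∀ u ∈ B, u * d * u⁻¹ ∈ ⁅B, A⁆ := by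
  intro d hd u hu
  have key : ⁅B, A⁆ ≤ (⁅B, A⁆).comap (MulAut.conj u).toMonoidHom := by
    rw [Subgroup.commutator_le]
    intro z hz a ha
    rw [Subgroup.mem_comap]
    have : (MulAut.conj u).toMonoidHom ⁅z, a⁆ = ⁅u * z, a⁆ * ⁅u, a⁆⁻¹ := by
      simp only [MulEquiv.toMonoidHom_eq_coe, MonoidHom.coe_coe, MulAut.conj_apply,
        commutatorElement_def]
      group
    rw [this]
    exact Subgroup.mul_mem _ (Subgroup.commutator_mem_commutator (B.mul_mem hu hz) ha)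
      (Subgroup.inv_mem _ (Subgroup.commutator_mem_commutator hu ha))
  have := key hd
  rw [Subgroup.mem_comap] at this
  simpa using this

theorem derived_comm_central {A B : Subgroup G} (hAB : A ≤ Subgroup.normalizer (B : Set G))
    (hc : ⁅⁅B, B⁆, A⁆ = ⊥) :
    ∀ w ∈ ⁅⁅B, A⁆, ⁅B, A⁆⁆, ∀ z ∈ B, w * z = z * w := by
  have hDB : ⁅B, A⁆ ≤ B := comm_le_left hAB
  have h1 : ⁅⁅⁅B, A⁆, B⁆, ⁅B, A⁆⁆ = ⊥ := by
    rw [eq_bot_iff]
    have : ⁅⁅B, A⁆, B⁆ ≤ ⁅B, B⁆ := Subgroup.commutator_mono hDB le_rfl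
    refine le_trans (Subgroup.commutator_mono this le_rfl) ?_
    rw [Subgroup.commutator_le]
    intro k hk d hd
    rw [Subgroup.mem_bot, commutatorElement_def]
    have := comm_cent_derived hAB hc d hd k hk
    calc k * d * k⁻¹ * d⁻¹ = (k * d) * k⁻¹ * d⁻¹ := by group
      _ = (d * k) * k⁻¹ * d⁻¹ := by rw [this]
      _ = 1 := by group
  have h2 : ⁅⁅B, ⁅B, A⁆⁆, ⁅B, A⁆⁆ = ⊥ := by
    rw [Subgroup.commutator_comm B]; exact h1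
  have h3 : ⁅⁅⁅B, A⁆, ⁅B, A⁆⁆, B⁆ = ⊥ :=
    Subgroup.commutator_commutator_eq_bot_of_rotate h1 h2
  intro w hw z hz
  have h4 : ⁅w, z⁆ ∈ ⁅⁅⁅B, A⁆, ⁅B, A⁆⁆, B⁆ := Subgroup.commutator_mem_commutator hw hz
  rw [h3, Subgroup.mem_bot, commutatorElement_def] at h4
  calc w * z = (w * z * w⁻¹ * z⁻¹) * (z * w) := by group
    _ = z * w := by rw [h4, one_mul]

theorem part_one {A B : Subgroup G} (hAB : A ≤ Subgroup.normalizer (B : Set G))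
    (hc : ⁅⁅B, B⁆, A⁆ = ⊥) :
    ⁅⁅B, A⁆, ⁅B, A⁆⁆ ≤ B ⊓ Subgroup.centralizer (B : Set G) := by
  have hDB : ⁅B, A⁆ ≤ B := comm_le_left hAB
  refine le_inf ?_ ?_
  · refine le_trans (Subgroup.commutator_mono hDB hDB) ?_
    rw [Subgroup.commutator_le]
    intro x hx y hy
    rw [commutatorElement_def]
    exact B.mul_mem (B.mul_mem (B.mul_mem hx hy) (B.inv_mem hx)) (B.inv_mem hy)
  · intro w hw
    rw [Subgroup.mem_centralizer_iff]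
    intro z hz
    exact (derived_comm_central hAB hc w hw z hz).symm

theorem fixed_cent_comm {A B : Subgroup G}
    (hc : ⁅⁅B, B⁆, A⁆ = ⊥) :
    ∀ y ∈ B, (∀ a ∈ A, a * y = y * a) → ∀ d ∈ ⁅B, A⁆, y * d = d * y := by
  intro y hy hfix
  have key : ⁅B, A⁆ ≤ Subgroup.centralizer ({y} : Set G) := by
    rw [Subgroup.commutator_le]
    intro z hz a ha
    rw [Subgroup.mem_centralizer_iff]
    intro y' hy'
    rw [Set.mem_singleton_iff] at hy'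
    subst hy'
    have h1 := conj_comm hc y' hy z⁻¹ (B.inv_mem hz) a ha
    have h2 : a * y' * a⁻¹ = y' := by rw [hfix a ha]; group
    rw [h2] at h1
    simp only [commutatorElement_def] at h1 ⊢
    -- h1 : y' * (a z⁻¹ a⁻¹) * y'⁻¹ * (a z⁻¹ a⁻¹)⁻¹ = y' * z⁻¹ * y'⁻¹ * z⁻¹⁻¹
    have h3 : (a * z⁻¹ * a⁻¹) * y'⁻¹ * (a * z⁻¹ * a⁻¹)⁻¹ = z⁻¹ * y'⁻¹ * z⁻¹⁻¹ := by
      have := congrArg (fun t => y'⁻¹ * t) h1
      calc (a * z⁻¹ * a⁻¹) * y'⁻¹ * (a * z⁻¹ * a⁻¹)⁻¹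
          = y'⁻¹ * (y' * (a * z⁻¹ * a⁻¹) * y'⁻¹ * (a * z⁻¹ * a⁻¹)⁻¹) := by group
        _ = y'⁻¹ * (y' * z⁻¹ * y'⁻¹ * z⁻¹⁻¹) := this
        _ = z⁻¹ * y'⁻¹ * z⁻¹⁻¹ := by group
    have h4 : (z * a * z⁻¹ * a⁻¹) * y'⁻¹ = y'⁻¹ * (z * a * z⁻¹ * a⁻¹) := by
      calc (z * a * z⁻¹ * a⁻¹) * y'⁻¹
          = z * ((a * z⁻¹ * a⁻¹) * y'⁻¹ * (a * z⁻¹ * a⁻¹)⁻¹) * (a * z⁻¹ * a⁻¹) := by group
        _ = z * (z⁻¹ * y'⁻¹ * z⁻¹⁻¹) * (a * z⁻¹ * a⁻¹) := by rw [h3]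
        _ = y'⁻¹ * (z * a * z⁻¹ * a⁻¹) := by group
    calc y' * (z * a * z⁻¹ * a⁻¹)
        = y' * ((z * a * z⁻¹ * a⁻¹) * y'⁻¹) * y' := by group
      _ = y' * (y'⁻¹ * (z * a * z⁻¹ * a⁻¹)) * y' := by rw [h4]
      _ = (z * a * z⁻¹ * a⁻¹) * y' := by group
  intro d hd
  have := Subgroup.mem_centralizer_iff.mp (key hd) y rfl
  exact this

end Cfsg.Agent.Lib.Helper1.CommAbelianOp
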