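import Mathlib
import Cfsg.Agent.Lib.Helper1.CommAbelianOp1

set_option autoImplicit false
universe u
open scoped commutatorElement

namespace Cfsg.Agent.Lib.Helper1.CommAbelianOp

variable {G : Type u} [Group G]

theorem comm_of_commutator_eq_bot {H K : Subgroup G} (h : ⁅H, K⁆ = ⊥) :
    ∀ x ∈ H, ∀ a ∈ K, a * x = x * a := by
  intro k hk a ha
  have h1 : ⁅k, a⁆ ∈ ⁅H, K⁆ := Subgroup.commutator_mem_commutator hk ha
  rw [h, Subgroup.mem_bot, commutatorElement_def] at h1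
  have : k * a = a * k := by
    calc k * a = (k * a * k⁻¹ * a⁻¹) * (a * k) := by group
      _ = a * k := by rw [h1, one_mul]
  exact this.symm

/-- bilinearity of commutators in a class-2 situation gives exponent bounds from generators -/
theorem comm_pow_closure (H : Subgroup G)
    (hcl : ∀ p ∈ H, ∀ q ∈ H, ∀ r ∈ H, ⁅p, q⁆ * r = r * ⁅p, q⁆) (S : Set G)
    (hS : S ⊆ (H : Set G)) (n : ℕ) (h : ∀ s ∈ S, ∀ t ∈ S, ⁅s, t⁆ ^ n = 1) :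
    ∀ x ∈ Subgroup.closure S, ∀ y ∈ Subgroup.closure S, ⁅x, y⁆ ^ n = 1 := by
  have hSH : Subgroup.closure S ≤ H := (Subgroup.closure_le H).mpr hS
  have hcomm_mem : ∀ p ∈ H, ∀ q ∈ H, ⁅p, q⁆ ∈ H := by
    intro p hp q hq
    rw [commutatorElement_def]
    exact H.mul_mem (H.mul_mem (H.mul_mem hp hq) (H.inv_mem hp)) (H.inv_mem hq)
  -- stage 1
  have st1 : ∀ t ∈ S, ∀ x ∈ Subgroup.closure S, ⁅x, t⁆ ^ n = 1 := by
    intro t ht x hx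
    have htH : t ∈ H := hS ht
    induction hx using Subgroup.closure_induction with
    | mem s hs => exact h s hs t ht
    | one => simp
    | mul x₁ x₂ hx₁ hx₂ ih₁ ih₂ =>
      have h1 : x₁ ∈ H := hSH hx₁
      have h2 : x₂ ∈ H := hSH hx₂
      have e : ⁅x₁ * x₂, t⁆ = ⁅x₂, t⁆ * ⁅x₁, t⁆ := by
        have := hcl x₂ h2 t htH x₁ h1
        calc ⁅x₁ * x₂, t⁆ = x₁ * ⁅x₂, t⁆ * x₁⁻¹ * ⁅x₁, t⁆ := by
              simp only [commutatorElement_def]; group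
          _ = (⁅x₂, t⁆ * x₁) * x₁⁻¹ * ⁅x₁, t⁆ := by rw [this]
          _ = ⁅x₂, t⁆ * ⁅x₁, t⁆ := by group
      have hc : Commute ⁅x₂, t⁆ ⁅x₁, t⁆ := hcl x₂ h2 t htH _ (hcomm_mem x₁ h1 t htH)
      rw [e, hc.mul_pow, ih₁, ih₂, one_mul]
    | inv x hx ih =>
      have h1 : x ∈ H := hSH hx
      have e : ⁅x⁻¹, t⁆ = ⁅x, t⁆⁻¹ := by
        have := hcl x h1 t htH x h1
        calc ⁅x⁻¹, t⁆ = x⁻¹ * ⁅x, t⁆⁻¹ * x := by simp only [commutatorElement_def]; group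
          _ = x⁻¹ * (⁅x, t⁆⁻¹ * x) := by group
          _ = x⁻¹ * (x * ⁅x, t⁆⁻¹) := by
              congr 1
              calc ⁅x, t⁆⁻¹ * x = ⁅x, t⁆⁻¹ * (x * ⁅x, t⁆) * ⁅x, t⁆⁻¹ := by group
                _ = ⁅x, t⁆⁻¹ * (⁅x, t⁆ * x) * ⁅x, t⁆⁻¹ := by rw [this]
                _ = x * ⁅x, t⁆⁻¹ := by group
          _ = ⁅x, t⁆⁻¹ := by group
      rw [e, inv_pow, ih, inv_one]
  intro x hx y hy
  have hxH : x ∈ H := hSH hx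
  induction hy using Subgroup.closure_induction with
  | mem t ht => exact st1 t ht x hx
  | one => simp
  | mul y₁ y₂ hy₁ hy₂ ih₁ ih₂ =>
    have h1 : y₁ ∈ H := hSH hy₁
    have h2 : y₂ ∈ H := hSH hy₂
    have e : ⁅x, y₁ * y₂⁆ = ⁅x, y₁⁆ * ⁅x, y₂⁆ := by
      have := hcl x hxH y₂ h2 y₁ h1
      calc ⁅x, y₁ * y₂⁆ = ⁅x, y₁⁆ * (y₁ * ⁅x, y₂⁆) * y₁⁻¹ := by
            simp only [commutatorElement_def]; group
        _ = ⁅x, y₁⁆ * (⁅x, y₂⁆ * y₁) * y₁⁻¹ := by rw [this]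
        _ = ⁅x, y₁⁆ * ⁅x, y₂⁆ := by group
    have hc : Commute ⁅x, y₁⁆ ⁅x, y₂⁆ := hcl x hxH y₁ h1 _ (hcomm_mem x hxH y₂ h2)
    rw [e, hc.mul_pow, ih₁, ih₂, one_mul]
  | inv y hy ih =>
    have h1 : y ∈ H := hSH hy
    have e : ⁅x, y⁻¹⁆ = ⁅x, y⁆⁻¹ := by
      have := hcl x hxH y h1 y h1
      calc ⁅x, y⁻¹⁆ = y⁻¹ * ⁅x, y⁆⁻¹ * y := by simp only [commutatorElement_def]; group
        _ = y⁻¹ * (⁅x, y⁆⁻¹ * y) := by group
        _ = y⁻¹ * (y * ⁅x, y⁆⁻¹) := by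
            congr 1
            calc ⁅x, y⁆⁻¹ * y = ⁅x, y⁆⁻¹ * (y * ⁅x, y⁆) * ⁅x, y⁆⁻¹ := by group
              _ = ⁅x, y⁆⁻¹ * (⁅x, y⁆ * y) * ⁅x, y⁆⁻¹ := by rw [this]
              _ = y * ⁅x, y⁆⁻¹ := by group
        _ = ⁅x, y⁆⁻¹ := by group
    rw [e, inv_pow, ih, inv_one]

end Cfsg.Agent.Lib.Helper1.CommAbelianOp
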