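import Mathlib
import Cfsg.Agent.Lib.Helper1.CommAbelianOp2

set_option autoImplicit false
universe u
open scoped commutatorElement

namespace Cfsg.Agent.Lib.Helper1.CommAbelianOp

variable {G : Type u} [Group G]

/-- the generator `b⁻¹ a b a⁻¹` -/
def xg (b a : G) : G := b⁻¹ * a * b * a⁻¹

theorem xg_eq (b a : G) : xg b a = ⁅b⁻¹, a⁆ := by
  simp [xg, commutatorElement_def]

theorem conj_xg (b c a : G) : c * xg b a * c⁻¹ = (xg b c)⁻¹ * xg b (c * a) := by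
  simp only [xg]; group

theorem conj_b (b c : G) : c * b⁻¹ * c⁻¹ = (xg b c)⁻¹ * b⁻¹ := by
  simp only [xg]; group

theorem part_two_gens {A B : Subgroup G} (hAB : A ≤ Subgroup.normalizer (B : Set G))
    (hc : ⁅⁅B, B⁆, A⁆ = ⊥) (hA : ∀ a ∈ A, ∀ c ∈ A, a * c = c * a) (b : G) (hb : b ∈ B)
    (X : Subgroup G) (hX : X = Subgroup.closure {g : G | ∃ a ∈ A, g = b⁻¹ * a * b * a⁻¹})
    (hq : ⁅⁅X, A⁆, A⁆ = ⊥) :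
    ∀ a ∈ A, ∀ c ∈ A, ⁅xg b c, xg b a⁆ ^ 2 = 1 := by
  have hDB : ⁅B, A⁆ ≤ B := comm_le_left hAB
  have hu : b⁻¹ ∈ B := B.inv_mem hb
  have hxgD : ∀ a ∈ A, xg b a ∈ ⁅B, A⁆ := by
    intro a ha
    rw [xg_eq]; exact Subgroup.commutator_mem_commutator hu ha
  have hxgX : ∀ a ∈ A, xg b a ∈ X := by
    intro a ha
    rw [hX]; exact Subgroup.subset_closure ⟨a, ha, rfl⟩
  have hXD : X ≤ ⁅B, A⁆ := by
    rw [hX, Subgroup.closure_le]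
    rintro g ⟨a, ha, rfl⟩
    exact hxgD a ha
  have hTD : ⁅X, A⁆ ≤ ⁅B, A⁆ := Subgroup.commutator_mono (hXD.trans hDB) le_rfl
  have hTfix : ∀ t ∈ ⁅X, A⁆, ∀ a ∈ A, a * t = t * a := comm_of_commutator_eq_bot hq
  have hTcent : ∀ t ∈ ⁅X, A⁆, ∀ d ∈ ⁅B, A⁆, t * d = d * t := by
    intro t ht d hd
    exact fixed_cent_comm hc t (hDB (hTD ht)) (hTfix t ht) d hd
  have hcentral := derived_comm_central hAB hc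
  have hDB' := comm_cent_derived hAB hc
  -- the elements t c a
  have htmem : ∀ a ∈ A, ∀ c ∈ A, ⁅c, xg b a⁆ ∈ ⁅X, A⁆ := by
    intro a ha c hc'
    rw [Subgroup.commutator_comm]
    exact Subgroup.commutator_mem_commutator hc' (hxgX a ha)
  -- L8
  have hrel : ∀ a ∈ A, ∀ c ∈ A, xg b (c * a) = xg b c * ⁅c, xg b a⁆ * xg b a := by
    intro a _ c _
    have := conj_xg b c a
    calc xg b (c * a) = xg b c * ((xg b c)⁻¹ * xg b (c * a)) := by group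
      _ = xg b c * (c * xg b a * c⁻¹) := by rw [this]
      _ = xg b c * ⁅c, xg b a⁆ * xg b a := by rw [commutatorElement_def]; group
  have hrel2 : ∀ a ∈ A, ∀ c ∈ A, ⁅a, xg b c⁆ = ⁅c, xg b a⁆ * ⁅xg b c, xg b a⁆ := by
    intro a ha c hc'
    have e1 := hrel a ha c hc'
    have e2 := hrel c hc' a ha
    rw [hA a ha c hc'] at e2
    have e3 : xg b c * ⁅c, xg b a⁆ * xg b a = xg b a * ⁅a, xg b c⁆ * xg b c := by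
      rw [← e1, ← e2]
    have k1 := hTcent _ (htmem a ha c hc') _ (hxgD c hc')
    have k2 := hTcent _ (htmem c hc' a ha) _ (hxgD a ha)
    -- t_ca * xc * xa = t_ac * xa * xc
    have e4 : ⁅c, xg b a⁆ * xg b c * xg b a = ⁅a, xg b c⁆ * xg b a * xg b c := by
      rw [k1, k2]; exact e3
    calc ⁅a, xg b c⁆ = (⁅a, xg b c⁆ * xg b a * xg b c) * (xg b c)⁻¹ * (xg b a)⁻¹ := by group
      _ = (⁅c, xg b a⁆ * xg b c * xg b a) * (xg b c)⁻¹ * (xg b a)⁻¹ := by rw [e4]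
      _ = ⁅c, xg b a⁆ * ⁅xg b c, xg b a⁆ := by rw [commutatorElement_def (xg b c)]; group
  -- L9
  have hstar : ∀ x ∈ X, ∀ c ∈ A, ⁅⁅c, x⁆, b⁻¹⁆ = ⁅(xg b c)⁻¹, x⁆ := by
    intro x hx c hc'
    have hxD : x ∈ ⁅B, A⁆ := hXD hx
    have hxB : x ∈ B := hDB hxD
    have ht : ⁅c, x⁆ ∈ ⁅X, A⁆ := by
      rw [Subgroup.commutator_comm]
      exact Subgroup.commutator_mem_commutator hc' hx
    have htD : ⁅c, x⁆ ∈ ⁅B, A⁆ := hTD ht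
    have htB : ⁅c, x⁆ ∈ B := hDB htD
    have hyD : (xg b c)⁻¹ ∈ ⁅B, A⁆ := Subgroup.inv_mem _ (hxgD c hc')
    have hyB : (xg b c)⁻¹ ∈ B := hDB hyD
    have f3 := conj_comm hc x hxB b⁻¹ hu c hc'
    have e1 : c * x * c⁻¹ = ⁅c, x⁆ * x := by rw [commutatorElement_def]; group
    rw [e1, conj_b] at f3
    set t := ⁅c, x⁆ with ht_def
    set y := (xg b c)⁻¹ with hy_def
    -- expand
    have hw : y * b⁻¹ ∈ B := B.mul_mem hyB hu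
    have g1 : ⁅t * x, y * b⁻¹⁆ = ⁅x, y * b⁻¹⁆ * ⁅t, y * b⁻¹⁆ := by
      have hk : ⁅x, y * b⁻¹⁆ ∈ ⁅B, B⁆ := Subgroup.commutator_mem_commutator hxB hw
      have := hDB' t htD _ hk
      calc ⁅t * x, y * b⁻¹⁆ = (t * ⁅x, y * b⁻¹⁆) * t⁻¹ * ⁅t, y * b⁻¹⁆ := by
            simp only [commutatorElement_def]; group
        _ = (⁅x, y * b⁻¹⁆ * t) * t⁻¹ * ⁅t, y * b⁻¹⁆ := by rw [this]
        _ = ⁅x, y * b⁻¹⁆ * ⁅t, y * b⁻¹⁆ := by group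
    have g2 : ⁅x, y * b⁻¹⁆ = ⁅x, y⁆ * ⁅x, b⁻¹⁆ := by
      have hk : ⁅x, b⁻¹⁆ ∈ ⁅B, B⁆ := Subgroup.commutator_mem_commutator hxB hu
      have := hDB' y hyD _ hk
      calc ⁅x, y * b⁻¹⁆ = ⁅x, y⁆ * (y * ⁅x, b⁻¹⁆) * y⁻¹ := by
            simp only [commutatorElement_def]; group
        _ = ⁅x, y⁆ * (⁅x, b⁻¹⁆ * y) * y⁻¹ := by rw [this]
        _ = ⁅x, y⁆ * ⁅x, b⁻¹⁆ := by group
    have g3 : ⁅t, y * b⁻¹⁆ = ⁅t, b⁻¹⁆ := by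
      have hk : ⁅t, b⁻¹⁆ ∈ ⁅B, B⁆ := Subgroup.commutator_mem_commutator htB hu
      have h1 := hDB' y hyD _ hk
      have h2 : t * y = y * t := hTcent t ht y hyD
      have h3 : ⁅t, y⁆ = 1 := by
        rw [commutatorElement_def, h2]; group
      calc ⁅t, y * b⁻¹⁆ = ⁅t, y⁆ * (y * ⁅t, b⁻¹⁆) * y⁻¹ := by
            simp only [commutatorElement_def]; group
        _ = ⁅t, y⁆ * (⁅t, b⁻¹⁆ * y) * y⁻¹ := by rw [h1]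
        _ = ⁅t, b⁻¹⁆ := by rw [h3]; group
    rw [g1, g2, g3] at f3
    -- f3 : ⁅x,y⁆ * ⁅x,b⁻¹⁆ * ⁅t,b⁻¹⁆ = ⁅x,b⁻¹⁆
    have hz : ⁅x, y⁆ ∈ ⁅⁅B, A⁆, ⁅B, A⁆⁆ := Subgroup.commutator_mem_commutator hxD hyD
    have hxb : ⁅x, b⁻¹⁆ ∈ B := by
      rw [commutatorElement_def]
      exact B.mul_mem (B.mul_mem (B.mul_mem hxB hu) (B.inv_mem hxB)) (B.inv_mem hu)
    have hzc := hcentral _ hz _ hxb
    have g4 : ⁅x, y⁆ * ⁅t, b⁻¹⁆ = 1 := by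
      calc ⁅x, y⁆ * ⁅t, b⁻¹⁆ = ⁅x, b⁻¹⁆⁻¹ * ((⁅x, b⁻¹⁆ * ⁅x, y⁆) * ⁅t, b⁻¹⁆) := by group
        _ = ⁅x, b⁻¹⁆⁻¹ * ((⁅x, y⁆ * ⁅x, b⁻¹⁆) * ⁅t, b⁻¹⁆) := by rw [hzc]
        _ = ⁅x, b⁻¹⁆⁻¹ * ⁅x, b⁻¹⁆ := by rw [f3]
        _ = 1 := by group
    calc ⁅t, b⁻¹⁆ = ⁅x, y⁆⁻¹ * (⁅x, y⁆ * ⁅t, b⁻¹⁆) := by group
      _ = ⁅x, y⁆⁻¹ := by rw [g4, mul_one]
      _ = ⁅y, x⁆ := by rw [commutatorElement_inv]
  intro a ha c hc'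
  have s1 := hstar (xg b a) (hxgX a ha) c hc'
  have s2 := hstar (xg b c) (hxgX c hc') a ha
  have r := hrel2 a ha c hc'
  have hz : ⁅xg b c, xg b a⁆ ∈ ⁅⁅B, A⁆, ⁅B, A⁆⁆ :=
    Subgroup.commutator_mem_commutator (hxgD c hc') (hxgD a ha)
  have hzc := hcentral _ hz _ hu
  -- ⁅t_ac, u⁆ = ⁅t_ca, u⁆
  have s3 : ⁅⁅a, xg b c⁆, b⁻¹⁆ = ⁅⁅c, xg b a⁆, b⁻¹⁆ := by
    rw [r]
    set t := ⁅c, xg b a⁆
    set z := ⁅xg b c, xg b a⁆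
    calc ⁅t * z, b⁻¹⁆ = t * (z * b⁻¹) * z⁻¹ * t⁻¹ * b⁻¹⁻¹ := by
          simp only [commutatorElement_def]; group
      _ = t * (b⁻¹ * z) * z⁻¹ * t⁻¹ * b⁻¹⁻¹ := by rw [hzc]
      _ = ⁅t, b⁻¹⁆ := by simp only [commutatorElement_def]; group
  rw [s1, s2] at s3
  -- s3 : ⁅(xg b a)⁻¹, xg b c⁆ = ⁅(xg b c)⁻¹, xg b a⁆
  have cl2 : ∀ p ∈ ⁅B, A⁆, ∀ q ∈ ⁅B, A⁆, ⁅p⁻¹, q⁆ = ⁅q, p⁆ := by
    intro p hp q hq
    have hz' : ⁅q, p⁆ ∈ ⁅⁅B, A⁆, ⁅B, A⁆⁆ := Subgroup.commutator_mem_commutator hq hp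
    have := hcentral _ hz' p (hDB hp)
    calc ⁅p⁻¹, q⁆ = p⁻¹ * (⁅q, p⁆ * p) := by simp only [commutatorElement_def]; group
      _ = p⁻¹ * (p * ⁅q, p⁆) := by rw [this]
      _ = ⁅q, p⁆ := by group
  rw [cl2 _ (hxgD a ha) _ (hxgD c hc'), cl2 _ (hxgD c hc') _ (hxgD a ha)] at s3
  -- s3 : ⁅xc, xa⁆ = ⁅xa, xc⁆
  have : ⁅xg b c, xg b a⁆⁻¹ = ⁅xg b c, xg b a⁆ := by
    rw [commutatorElement_inv]; exact s3.symm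
  calc ⁅xg b c, xg b a⁆ ^ 2 = ⁅xg b c, xg b a⁆ * ⁅xg b c, xg b a⁆ := by rw [pow_two]
    _ = ⁅xg b c, xg b a⁆⁻¹ * ⁅xg b c, xg b a⁆ := by rw [this]
    _ = 1 := by group

end Cfsg.Agent.Lib.Helper1.CommAbelianOp
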