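import Mathlib
import Cfsg.Agent.Lib.Helper1.CommAbelianOp3

set_option autoImplicit false
universe u
open scoped commutatorElement

namespace Cfsg.Agent.Lib.Helper1.CommAbelianOp

variable {G : Type u} [Group G]

theorem main {A B : Subgroup G} (hAB : A ≤ Subgroup.normalizer (B : Set G))
    (hc : ⁅⁅B, B⁆, A⁆ = ⊥) :
    ⁅⁅B, A⁆, ⁅B, A⁆⁆ ≤ B ⊓ Subgroup.centralizer (B : Set G) ∧
    (IsMulCommutative A → ∀ b ∈ B,
      ⁅⁅(Subgroup.closure {g : G | ∃ a ∈ A, g = b⁻¹ * a * b * a⁻¹}), A⁆, A⁆ = ⊥ →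
      ∀ w ∈ ⁅(Subgroup.closure {g : G | ∃ a ∈ A, g = b⁻¹ * a * b * a⁻¹}),
        (Subgroup.closure {g : G | ∃ a ∈ A, g = b⁻¹ * a * b * a⁻¹})⁆, w ^ 2 = 1) := by
  refine ⟨part_one hAB hc, ?_⟩
  intro hAcomm b hb hq w hw
  have hA : ∀ a ∈ A, ∀ c ∈ A, a * c = c * a := by
    intro a ha c hc'
    have := mul_comm' (⟨a, ha⟩ : A) ⟨c, hc'⟩
    exact congrArg Subtype.val this
  obtain ⟨X, hX⟩ : ∃ X, X = Subgroup.closure {g : G | ∃ a ∈ A, g = b⁻¹ * a * b * a⁻¹} :=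
    ⟨_, rfl⟩
  rw [← hX] at hq hw
  have hDB : ⁅B, A⁆ ≤ B := comm_le_left hAB
  have hgens := part_two_gens hAB hc hA b hb X hX hq
  have hcentral := derived_comm_central hAB hc
  have hS : {g : G | ∃ a ∈ A, g = b⁻¹ * a * b * a⁻¹} ⊆ ((⁅B, A⁆ : Subgroup G) : Set G) := by
    rintro g ⟨a, ha, rfl⟩
    have : b⁻¹ * a * b * a⁻¹ = ⁅b⁻¹, a⁆ := by simp [commutatorElement_def]
    rw [this]
    exact Subgroup.commutator_mem_commutator (B.inv_mem hb) ha
  have hXD : X ≤ ⁅B, A⁆ := by rw [hX, Subgroup.closure_le]; exact hS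
  have hall : ∀ x ∈ X, ∀ y ∈ X, ⁅x, y⁆ ^ 2 = 1 := by
    rw [hX]
    refine comm_pow_closure ⁅B, A⁆ ?_ _ hS 2 ?_
    · intro p hp q hq' r hr
      exact hcentral _ (Subgroup.commutator_mem_commutator hp hq') r (hDB hr)
    · rintro s ⟨c, hc', rfl⟩ t ⟨a, ha, rfl⟩
      exact hgens a ha c hc'
  -- the subgroup of central elements of square one
  let K : Subgroup G :=
    { carrier := {w | w ∈ B ∧ (∀ z ∈ B, w * z = z * w) ∧ w ^ 2 = 1}
      one_mem' := ⟨B.one_mem, fun z _ => by simp, by simp⟩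
      mul_mem' := by
        rintro w₁ w₂ ⟨h1, h2, h3⟩ ⟨k1, k2, k3⟩
        refine ⟨B.mul_mem h1 k1, ?_, ?_⟩
        · intro z hz
          calc w₁ * w₂ * z = w₁ * (w₂ * z) := by group
            _ = w₁ * (z * w₂) := by rw [k2 z hz]
            _ = (w₁ * z) * w₂ := by group
            _ = (z * w₁) * w₂ := by rw [h2 z hz]
            _ = z * (w₁ * w₂) := by group
        · have hcm : Commute w₁ w₂ := h2 w₂ k1
          rw [hcm.mul_pow, h3, k3, one_mul]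
      inv_mem' := by
        rintro w ⟨h1, h2, h3⟩
        refine ⟨B.inv_mem h1, ?_, ?_⟩
        · intro z hz
          calc w⁻¹ * z = w⁻¹ * (z * w) * w⁻¹ := by group
            _ = w⁻¹ * (w * z) * w⁻¹ := by rw [h2 z hz]
            _ = z * w⁻¹ := by group
        · rw [inv_pow, h3, inv_one] }
  have hle : ⁅X, X⁆ ≤ K := by
    rw [Subgroup.commutator_le]
    intro x hx y hy
    have hz : ⁅x, y⁆ ∈ ⁅⁅B, A⁆, ⁅B, A⁆⁆ :=
      Subgroup.commutator_mem_commutator (hXD hx) (hXD hy)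
    refine ⟨?_, hcentral _ hz, hall x hx y hy⟩
    exact (part_one hAB hc hz).1
  exact (hle hw).2.2

end Cfsg.Agent.Lib.Helper1.CommAbelianOp
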