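import Mathlib
import Cfsg.Agent.Lib.Helper1.Hall
set_option autoImplicit false
open Pointwise

namespace Cfsg.Agent.Lib.Helper1

universe u

variable {G : Type u} [Group G]

theorem isComplement'_of_normal_disjoint_sup_eq_top {N H : Subgroup G} [hN : N.Normal]
    (hd : N ⊓ H = ⊥) (hs : N ⊔ H = ⊤) : Subgroup.IsComplement' N H := by
  apply Subgroup.isComplement'_of_disjoint_and_mul_eq_univ (disjoint_iff.mpr hd)
  rw [← Subgroup.normal_mul, hs]; rfl

theorem complemented_iff_not_le_frattini [Finite G]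
    (N : Subgroup G) [hNn : N.Normal] [hNc : IsMulCommutative N] (hN : N ≠ ⊥)
    (hmin : ∀ M : Subgroup G, M.Normal → M ≤ N → M = ⊥ ∨ M = N) :
    (∃ H : Subgroup G, Subgroup.IsComplement' N H) ↔ ¬ N ≤ frattini G := by
  constructor
  · rintro ⟨H, hH⟩ hle
    have h1 : N ⊔ H = ⊤ := hH.sup_eq_top
    have h2 : H ⊔ frattini G = ⊤ := by
      rw [eq_top_iff, ← h1, sup_comm]
      exact sup_le_sup_left hle H
    have h3 : H = ⊤ := frattini_nongenerating h2
    have h4 := hH.disjoint
    rw [h3, disjoint_top] at h4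
    exact hN h4
  · intro hle
    have : ∃ M : Subgroup G, IsCoatom M ∧ ¬ N ≤ M := by
      by_contra hcon
      push Not at hcon
      apply hle
      unfold frattini Order.radical
      exact le_iInf fun M => le_iInf fun hM => hcon M hM
    obtain ⟨M, hM, hNM⟩ := this
    have hsup : N ⊔ M = ⊤ := by
      apply hM.2
      refine lt_of_le_of_ne le_sup_right ?_
      intro h
      apply hNM
      rw [h]; exact le_sup_left
    have hAcomm : ∀ a ∈ N, ∀ b ∈ N, a * b = b * a := fun a ha b hb =>
      congrArg Subtype.val (mul_comm' (⟨a, ha⟩ : N) ⟨b, hb⟩)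
    have hinfn := inf_normal_of_abelian_normal_sup_eq_top N M hAcomm hsup
    rcases hmin (N ⊓ M) hinfn inf_le_left with h | h
    · exact ⟨M, isComplement'_of_normal_disjoint_sup_eq_top h hsup⟩
    · exact absurd (h ▸ inf_le_right : N ≤ M) hNM

end Cfsg.Agent.Lib.Helper1
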