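import Mathlib
import Cfsg.Prelude.Def_SolvableStructure
import Cfsg.Prelude.Def_Transfer
import Cfsg.Agent.Lib.Helper1.SolvStructMisc
import Cfsg.Agent.Lib.Helper1.HereditaryCLT
import Cfsg.Agent.Lib.Helper1.CoprimeSylow
import Cfsg.Agent.Lib.Helper1.Nilpotent
import Cfsg.Agent.Lib.Helper1.PCore
set_option autoImplicit false
universe u v
open Cfsg
open scoped Pointwise
namespace Cfsg.Agent.Lib.Helper1
variable {G : Type u} [Group G]

theorem card_modEq_one_of_centralizer_trivial [Finite G] {q : ℕ} [hq : Fact q.Prime]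
    (Q L : Subgroup G) (hQ : IsPGroup q Q) (hQL : Q ≤ Subgroup.normalizer (L : Set G))
    (hC : L ⊓ Subgroup.centralizer (Q : Set G) = ⊥) : Nat.card L ≡ 1 [MOD q] := by
  let _ := conjActOfLeNormalizer Q L hQL
  have h1 := hQ.card_modEq_card_fixedPoints (α := L)
  have h2 : MulAction.fixedPoints Q L = {1} := by
    ext l
    rw [MulAction.mem_fixedPoints, Set.mem_singleton_iff]
    constructor
    · intro h
      have hl : (l : G) ∈ L ⊓ Subgroup.centralizer (Q : Set G) := by
        refine Subgroup.mem_inf.mpr ⟨l.2, ?_⟩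
        rw [Subgroup.mem_centralizer_iff]
        intro g hg
        have h3 := h ⟨g, hg⟩
        have h4 : ((⟨g, hg⟩ : Q) • l : L).1 = g * l * g⁻¹ := rfl
        rw [h3] at h4
        calc g * (l : G) = (g * (l : G) * g⁻¹) * g := by group
          _ = (l : G) * g := by rw [← h4]
      rw [hC, Subgroup.mem_bot] at hl
      exact Subtype.ext hl
    · rintro rfl g
      exact smul_one g
  rw [h2] at h1
  simpa using h1

/-- normal p-subgroup of G meets the centralizer of an ambient normal p-subgroup nontrivially -/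
theorem normal_inf_centralizer_ne_bot_of_isPGroup [Finite G] {p : ℕ} [hp : Fact p.Prime]
    (L N : Subgroup G) (hL : IsPGroup p L) (hNL : N ≤ L)
    (hNn : L ≤ Subgroup.normalizer (N : Set G)) (hN : N ≠ ⊥) :
    N ⊓ Subgroup.centralizer (L : Set G) ≠ ⊥ := by
  have hnil : Group.IsNilpotent L := hL.isNilpotent
  have hNn' : (N.subgroupOf L).Normal := (Subgroup.normal_subgroupOf_iff_le_normalizer hNL).mpr hNn
  have hne : N.subgroupOf L ≠ ⊥ := by
    intro h
    apply hN
    rw [eq_bot_iff]
    intro x hx
    have : (⟨x, hNL hx⟩ : L) ∈ N.subgroupOf L := by rw [Subgroup.mem_subgroupOf]; exact hx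
    rw [h, Subgroup.mem_bot] at this
    rw [Subgroup.mem_bot]
    exact congrArg Subtype.val this
  have h1 := normal_inf_center_ne_bot (N.subgroupOf L) hne
  intro hbot
  apply h1
  rw [eq_bot_iff]
  intro z hz
  rw [Subgroup.mem_bot]
  obtain ⟨hz1, hz2⟩ := Subgroup.mem_inf.mp hz
  have : (z : G) ∈ N ⊓ Subgroup.centralizer (L : Set G) := by
    refine Subgroup.mem_inf.mpr ⟨Subgroup.mem_subgroupOf.mp hz1, ?_⟩
    rw [Subgroup.mem_centralizer_iff]
    intro l hl
    have := Subgroup.mem_center_iff.mp hz2 ⟨l, hl⟩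
    exact congrArg Subtype.val this
  rw [hbot, Subgroup.mem_bot] at this
  exact Subtype.ext this


theorem conj_mem_inf_centralizer_of_normalizes {L Q : Subgroup G} [hLn : L.Normal] {m : G}
    (hm : m ∈ Subgroup.normalizer (Q : Set G)) {x : G}
    (hx : x ∈ L ⊓ Subgroup.centralizer (Q : Set G)) :
    m * x * m⁻¹ ∈ L ⊓ Subgroup.centralizer (Q : Set G) := by
  refine Subgroup.mem_inf.mpr ⟨hLn.conj_mem x (Subgroup.mem_inf.mp hx).1 m, ?_⟩
  rw [Subgroup.mem_centralizer_iff]
  intro z hz
  have hz' : m⁻¹ * z * m ∈ Q := by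
    have := (Subgroup.mem_normalizer_iff.mp (Subgroup.inv_mem _ hm) z).mp hz
    rwa [inv_inv] at this
  have h2 := (Subgroup.mem_centralizer_iff.mp (Subgroup.mem_inf.mp hx).2) _ hz'
  calc z * (m * x * m⁻¹) = m * ((m⁻¹ * z * m) * x) * m⁻¹ := by group
    _ = m * (x * (m⁻¹ * z * m)) * m⁻¹ := by rw [h2]
    _ = m * x * m⁻¹ * z := by group

theorem corefree_maximal_pcore_structure [Finite G] (p : ℕ) [hp : Fact p.Prime]
    (hL : Cfsg.pCore p G ≠ ⊥) (M : Subgroup G) (hM : IsCoatom M) (hcore : M.normalCore = ⊥) :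
    Cfsg.IsElementaryAbelian p (Cfsg.pCore p G) ∧ Subgroup.IsComplement' (Cfsg.pCore p G) M ∧
      (∀ K : Subgroup G, K.Normal → K ≤ Cfsg.pCore p G → K = ⊥ ∨ K = Cfsg.pCore p G) ∧
      Subgroup.centralizer ((Cfsg.pCore p G : Subgroup G) : Set G) = Cfsg.pCore p G ∧
      ∀ (q : ℕ) [Fact q.Prime], Cfsg.pCore q ↥M ≠ ⊥ →
        Nat.card (Cfsg.pCore p G) % q = 1 % q ∧ q ≠ p := by
  obtain ⟨L, hLdef⟩ : ∃ L : Subgroup G, L = Cfsg.pCore p G := ⟨_, rfl⟩
  rw [← hLdef] at hL ⊢
  have hLn : L.Normal := by rw [hLdef]; exact pCore_normal p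
  have hLpg : IsPGroup p L := by rw [hLdef]; exact pCore_isPGroup p
  obtain ⟨N, hNL, hNn, hNne, hNmin⟩ := exists_minimal_normal_le L hL
  have hNcen : N ≤ Subgroup.centralizer (L : Set G) := by
    have h1 := normal_inf_centralizer_ne_bot_of_isPGroup L N hLpg hNL
      (by rw [Subgroup.normalizer_eq_top_iff.mpr hNn]; exact le_top) hNne
    have hCn : (Subgroup.centralizer (L : Set G)).Normal := Subgroup.normal_centralizer
    have h2 : (N ⊓ Subgroup.centralizer (L : Set G)).Normal := Subgroup.normal_inf_normal _ _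
    rcases hNmin _ h2 inf_le_left with h3 | h3
    · exact absurd h3 h1
    · rw [← h3]; exact inf_le_right
  have hLC : L ≤ Subgroup.centralizer (N : Set G) := Subgroup.le_centralizer_iff.mp hNcen
  obtain ⟨hCM, hCalt⟩ := corefree_maximal_centralizer M hM hcore N hNne
  have hCne : Subgroup.centralizer (N : Set G) ≠ ⊥ := by
    intro h
    rw [h, le_bot_iff] at hLC
    exact hL hLC
  have hCmin := (hCalt.resolve_left hCne).2
  have hLC' : L = Subgroup.centralizer (N : Set G) :=
    (hCmin L hLn hLC).resolve_left hL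
  have hNL' : N = L := by
    have := (hCmin N hNn (hNL.trans hLC)).resolve_left hNne
    rw [this, ← hLC']
  rw [hNL'] at hNmin hCM
  have hcentL : Subgroup.centralizer (L : Set G) = L := by
    rw [hNL'] at hLC'; exact hLC'.symm
  have hLcomm : ∀ a ∈ L, ∀ b ∈ L, a * b = b * a := by
    intro a ha b hb
    have : b ∈ Subgroup.centralizer (L : Set G) := by rw [hcentL]; exact hb
    exact (Subgroup.mem_centralizer_iff.mp this) a ha
  have hLM : L ⊓ M = ⊥ := by
    rw [← hcentL]; exact hCM
  have hLnotM : ¬ L ≤ M := by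
    intro h
    have h2 : L ≤ M.normalCore := Subgroup.normal_le_normalCore.mpr h
    rw [hcore, le_bot_iff] at h2
    exact hL h2
  have hsup : L ⊔ M = ⊤ := by
    apply hM.2
    apply lt_of_le_of_ne le_sup_right
    intro h
    apply hLnotM
    rw [h]; exact le_sup_left
  refine ⟨?_, ?_, hNmin, hcentL, ?_⟩
  · -- elementary abelian
    refine ⟨⟨⟨fun a b => Subtype.ext (hLcomm a a.2 b b.2)⟩⟩, ?_⟩
    let Ω : Subgroup G :=
      { carrier := {y | y ∈ L ∧ y ^ p = 1}
        mul_mem' := by
          rintro a b ⟨ha, ha'⟩ ⟨hb, hb'⟩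
          refine ⟨Subgroup.mul_mem _ ha hb, ?_⟩
          have hc : Commute a b := hLcomm a ha b hb
          rw [hc.mul_pow, ha', hb', one_mul]
        one_mem' := ⟨Subgroup.one_mem _, one_pow _⟩
        inv_mem' := by
          rintro a ⟨ha, ha'⟩
          exact ⟨Subgroup.inv_mem _ ha, by rw [inv_pow, ha', inv_one]⟩ }
    have hΩmem : ∀ y, y ∈ Ω ↔ y ∈ L ∧ y ^ p = 1 := fun y => Iff.rfl
    have hΩL : Ω ≤ L := fun y hy => ((hΩmem y).mp hy).1
    have hΩn : Ω.Normal := by
      constructor
      intro y hy g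
      rw [hΩmem] at hy ⊢
      refine ⟨hLn.conj_mem y hy.1 g, ?_⟩
      rw [conj_pow, hy.2]; group
    have hΩne : Ω ≠ ⊥ := by
      have hpL : p ∣ Nat.card L := by
        obtain ⟨k, hk⟩ := hLpg.exists_card_eq
        have hk0 : k ≠ 0 := by
          rintro rfl
          rw [pow_zero] at hk
          exact hL (Subgroup.card_eq_one.mp hk)
        rw [hk]; exact dvd_pow_self p hk0
      obtain ⟨z, hz⟩ := exists_prime_orderOf_dvd_card' p hpL
      intro hbot
      have hzΩ : (z : G) ∈ Ω := by
        rw [hΩmem]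
        refine ⟨z.2, ?_⟩
        have : z ^ p = 1 := by rw [← hz]; exact pow_orderOf_eq_one z
        have := congrArg Subtype.val this
        simpa using this
      rw [hbot, Subgroup.mem_bot] at hzΩ
      have : z = 1 := Subtype.ext hzΩ
      rw [this, orderOf_one] at hz
      exact hp.out.one_lt.ne hz
    have hΩeq := (hNmin Ω hΩn hΩL).resolve_left hΩne
    intro a ha
    have : a ∈ Ω := by rw [hΩeq]; exact ha
    exact ((hΩmem a).mp this).2
  · apply Subgroup.isComplement'_of_disjoint_and_mul_eq_univ (disjoint_iff.mpr hLM)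
    rw [← Subgroup.normal_mul, hsup, Subgroup.coe_top]
  · intro q hq hQne
    obtain ⟨Q', hQ'⟩ : ∃ Q' : Subgroup G, Q' = (Cfsg.pCore q ↥M).map M.subtype := ⟨_, rfl⟩
    have hQ'M : Q' ≤ M := by rw [hQ']; exact Subgroup.map_subtype_le _
    have hQ'pg : IsPGroup q Q' := by rw [hQ']; exact (pCore_isPGroup q).map _
    have hQ'ne : Q' ≠ ⊥ := by
      intro h
      apply hQne
      rw [hQ', Subgroup.map_eq_bot_iff_of_injective _ (Subgroup.subtype_injective M)] at h
      exact h
    have hMNQ : M ≤ Subgroup.normalizer (Q' : Set G) := by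
      rw [← Subgroup.normal_subgroupOf_iff_le_normalizer hQ'M]
      have : Q'.subgroupOf M = Cfsg.pCore q ↥M := by
        rw [hQ']
        exact Subgroup.comap_map_eq_self_of_injective (Subgroup.subtype_injective M) _
      rw [this]; exact pCore_normal q
    have hQ'notL : ¬ Q' ≤ L := by
      intro h
      apply hQ'ne
      rw [eq_bot_iff, ← hLM]
      exact le_inf h hQ'M
    constructor
    · -- congruence
      have hQ'NL : Q' ≤ Subgroup.normalizer (L : Set G) := by
        rw [Subgroup.normalizer_eq_top_iff.mpr hLn]; exact le_top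
      apply card_modEq_one_of_centralizer_trivial Q' L hQ'pg hQ'NL
      have hKn : (L ⊓ Subgroup.centralizer (Q' : Set G)).Normal := by
        rw [← Subgroup.normalizer_eq_top_iff, eq_top_iff, ← hsup]
        apply sup_le
        · intro l hl
          rw [Subgroup.mem_normalizer_iff]
          intro k
          constructor
          · intro hk
            rw [hLcomm l hl k (Subgroup.mem_inf.mp hk).1, mul_inv_cancel_right]; exact hk
          · intro hk
            have hkL : k ∈ L := by
              have := hLn.conj_mem _ (Subgroup.mem_inf.mp hk).1 l⁻¹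
              have e : l⁻¹ * (l * k * l⁻¹) * l⁻¹⁻¹ = k := by group
              rwa [e] at this
            rw [hLcomm l hl k hkL, mul_inv_cancel_right] at hk; exact hk
        · intro m hm
          rw [Subgroup.mem_normalizer_iff]
          intro k
          constructor
          · intro hk
            exact conj_mem_inf_centralizer_of_normalizes (hMNQ hm) hk
          · intro hk
            have := conj_mem_inf_centralizer_of_normalizes
              (Subgroup.inv_mem _ (hMNQ hm)) hk
            have e : m⁻¹ * (m * k * m⁻¹) * m⁻¹⁻¹ = k := by group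
            rwa [e] at this
      rcases hNmin _ hKn inf_le_left with h1 | h1
      · exact h1
      · exfalso
        apply hQ'notL
        have h2 : L ≤ Subgroup.centralizer (Q' : Set G) := by rw [← h1]; exact inf_le_right
        rw [← hcentL]
        exact Subgroup.le_centralizer_iff.mp h2
    · intro hqp
      subst hqp
      apply hQ'notL
      obtain ⟨T, hT⟩ : ∃ T : Subgroup G, T = L ⊔ Q' := ⟨_, rfl⟩
      have hTpg : IsPGroup q T := by
        rw [hT]; exact IsPGroup.to_sup_of_normal_left hLpg hQ'pg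
      have hTn : T.Normal := by
        rw [← Subgroup.normalizer_eq_top_iff, eq_top_iff, ← hsup]
        apply sup_le
        · exact le_trans (by rw [hT]; exact le_sup_left) Subgroup.le_normalizer
        · intro m hm
          apply mem_normalizer_of_conj_smul_eq
          rw [hT, Subgroup.smul_sup, Subgroup.Normal.conj_smul_eq_self m L,
            conj_smul_eq_of_mem_normalizer (hMNQ hm)]
      have h1 : T ≤ L := by rw [hLdef]; exact le_pCore hTn hTpg
      exact le_trans (by rw [hT]; exact le_sup_right) h1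

end Cfsg.Agent.Lib.Helper1
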