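import Mathlib
import Cfsg.Prelude.Def_SolvableStructure
import Cfsg.Agent.Lib.Helper1.CorefreePCore
import Cfsg.Agent.Lib.Helper1.SZConj
import Cfsg.Agent.Lib.Helper1.Schmidt
import Cfsg.Agent.Lib.Helper1.MaxSubgroupSolvable
set_option autoImplicit false
universe u v
open Cfsg
open scoped Pointwise
namespace Cfsg.Agent.Lib.Helper1
variable {G : Type u} [Group G]

theorem corefree_maximal_conj [Finite G] [Group.IsSolvable G] (U V : Subgroup G)
    (hU : IsCoatom U) (hV : IsCoatom V) (hUc : U.normalCore = ⊥) (hVc : V.normalCore = ⊥) :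
    ∃ g : G, MulAut.conj g • U = V := by
  have hnt : Nontrivial G := by
    by_contra h
    rw [not_nontrivial_iff_subsingleton] at h
    exact hU.1 (Subsingleton.elim _ _)
  obtain ⟨N, hNn, hNbot, hNmin⟩ := exists_minimal_normal (G := G)
  obtain ⟨hNab, p, hp, hNexp⟩ := minimal_normal_of_solvable N hNbot hNmin
  have hpF : Fact p.Prime := ⟨hp⟩
  have hNpg : IsPGroup p N := by
    intro x
    refine ⟨1, ?_⟩
    rw [pow_one]
    apply Subtype.ext
    simpa using hNexp x x.2
  obtain ⟨L, hLdef⟩ : ∃ L : Subgroup G, L = Cfsg.pCore p G := ⟨_, rfl⟩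
  have hLne : L ≠ ⊥ := by
    intro h
    apply hNbot
    rw [eq_bot_iff, ← h, hLdef]
    exact le_pCore hNn hNpg
  have hLn : L.Normal := by rw [hLdef]; exact pCore_normal p
  have hLpg : IsPGroup p L := by rw [hLdef]; exact pCore_isPGroup p
  obtain ⟨-, hLU, hLmin, hLcent, -⟩ :=
    corefree_maximal_pcore_structure p (hLdef ▸ hLne) U hU hUc
  obtain ⟨-, hLV, -, -, -⟩ :=
    corefree_maximal_pcore_structure p (hLdef ▸ hLne) V hV hVc
  rw [← hLdef] at hLU hLV hLmin hLcent
  by_cases hLtop : L = ⊤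
  · refine ⟨1, ?_⟩
    have h1 : U = ⊥ := by
      have := hLU.disjoint.eq_bot
      rwa [hLtop, top_inf_eq] at this
    have h2 : V = ⊥ := by
      have := hLV.disjoint.eq_bot
      rwa [hLtop, top_inf_eq] at this
    rw [h1, h2, map_one, one_smul]
  · have hntq : Nontrivial (G ⧸ L) := by
      rw [← not_subsingleton_iff_nontrivial]
      intro hs
      apply hLtop
      rw [← Subgroup.index_eq_one, Subgroup.index_eq_card]
      exact Nat.card_eq_one_iff_unique.mpr ⟨hs, ⟨1⟩⟩
    obtain ⟨Rq, hRqn, hRqbot, hRqmin⟩ := exists_minimal_normal (G := G ⧸ L)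
    obtain ⟨hRqab, q, hq, hRqexp⟩ := minimal_normal_of_solvable Rq hRqbot hRqmin
    have hqF : Fact q.Prime := ⟨hq⟩
    have hRqpg : IsPGroup q Rq := by
      intro x
      refine ⟨1, ?_⟩
      rw [pow_one]
      apply Subtype.ext
      simpa using hRqexp x x.2
    obtain ⟨R, hR⟩ : ∃ R : Subgroup G, R = Rq.comap (QuotientGroup.mk' L) := ⟨_, rfl⟩
    have hRn : R.Normal := by rw [hR]; exact hRqn.comap _
    have hLR : L ≤ R := by
      rw [hR]
      intro x hx
      rw [Subgroup.mem_comap]
      have : QuotientGroup.mk' L x = 1 := (QuotientGroup.eq_one_iff x).mpr hx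
      rw [this]; exact Rq.one_mem
    have hqp : q ≠ p := by
      intro h
      subst h
      have hRpg : IsPGroup q R := by
        rw [hR]
        apply IsPGroup.comap_of_ker_isPGroup hRqpg
        rw [QuotientGroup.ker_mk']; exact hLpg
      have hRL : R ≤ L := by rw [hLdef]; exact le_pCore hRn hRpg
      apply hRqbot
      rw [eq_bot_iff]
      intro y hy
      obtain ⟨x, rfl⟩ := QuotientGroup.mk'_surjective L y
      have hx : x ∈ R := by rw [hR]; exact hy
      rw [Subgroup.mem_bot]
      exact (QuotientGroup.eq_one_iff x).mpr (hRL hx)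
    have hRcard : Nat.card R = Nat.card L * Nat.card Rq := by
      rw [hR]; exact card_comap_mk' L Rq
    -- complements in R
    have hcU := isComplement'_subgroupOf (L := R) hLU (Or.inl hLR)
    have hcV := isComplement'_subgroupOf (L := R) hLV (Or.inl hLR)
    have hcardU : Nat.card (U.subgroupOf R) = Nat.card Rq := by
      have h1 := hcU.card_mul_card
      rw [card_subgroupOf_of_le hLR, hRcard] at h1
      exact Nat.eq_of_mul_eq_mul_left Nat.card_pos h1
    have hcop : (Nat.card (L.subgroupOf R)).Coprime (Nat.card (U.subgroupOf R)) := by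
      rw [card_subgroupOf_of_le hLR, hcardU]
      obtain ⟨a, ha⟩ := hLpg.exists_card_eq
      obtain ⟨b, hb⟩ := hRqpg.exists_card_eq
      rw [ha, hb]
      exact Nat.Coprime.pow _ _ ((Nat.coprime_primes hp hq).mpr (Ne.symm hqp))
    have hLRn : (L.subgroupOf R).Normal := hLn.subgroupOf R
    obtain ⟨r, hr⟩ := sz_conj' (L.subgroupOf R) (U.subgroupOf R) (V.subgroupOf R) hcU hcV hcop
      (Or.inl inferInstance)
    have hr' := conj_smul_inf_of_subgroupOf r hr
    obtain ⟨U₁, hU₁⟩ : ∃ U₁ : Subgroup G, U₁ = MulAut.conj (r : G) • U := ⟨_, rfl⟩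
    refine ⟨(r : G), ?_⟩
    rw [← hU₁]
    have hU₁co : IsCoatom U₁ := by rw [hU₁]; exact isCoatom_conj_smul _ hU
    have hLU₁ : Subgroup.IsComplement' L U₁ := by rw [hU₁]; exact isComplement'_conj_smul hLU _
    have hQeq : U₁ ⊓ R = V ⊓ R := by
      rw [← hr', Subgroup.smul_inf, Subgroup.Normal.conj_smul_eq_self (r : G) R, hU₁]
    by_contra hne
    have hsupUV : U₁ ⊔ V = ⊤ := by
      apply hU₁co.2
      apply lt_of_le_of_ne le_sup_left
      intro h
      apply hne
      have hVle : V ≤ U₁ := by rw [h]; exact le_sup_right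
      exact ((hV.le_iff_eq hU₁co.1).mp hVle)
    obtain ⟨Q, hQ⟩ : ∃ Q : Subgroup G, Q = U₁ ⊓ R := ⟨_, rfl⟩
    have hQn : Q.Normal := by
      rw [← Subgroup.normalizer_eq_top_iff, eq_top_iff, ← hsupUV]
      apply sup_le
      · rw [hQ]; exact smul_le_normalizer_inf_normal U₁ R
      · rw [hQ, hQeq]; exact smul_le_normalizer_inf_normal V R
    have hQL : Q ⊓ L = ⊥ := by
      rw [eq_bot_iff, ← hLU₁.disjoint.eq_bot, hQ]
      exact le_inf inf_le_right (le_trans inf_le_left inf_le_left)
    have hQcent : Q ≤ Subgroup.centralizer (L : Set G) := by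
      intro x hx
      rw [Subgroup.mem_centralizer_iff]
      intro l hl
      have hdis : Disjoint Q L := disjoint_iff.mpr hQL
      exact (Subgroup.commute_of_normal_of_disjoint _ _ hQn hLn hdis x l hx hl).symm
    rw [hLcent] at hQcent
    have hQbot : Q = ⊥ := by
      rw [eq_bot_iff, ← hQL]; exact le_inf le_rfl hQcent
    -- R = L ⊔ Q
    have hRL : R ≤ L := by
      intro x hx
      have hx' : x ∈ L ⊔ U₁ := by rw [hLU₁.sup_eq_top]; exact Subgroup.mem_top x
      rw [Subgroup.mem_sup_of_normal_left] at hx'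
      obtain ⟨l, hl, u, hu, rfl⟩ := hx'
      have huR : u ∈ R := by
        have : u = l⁻¹ * (l * u) := by group
        rw [this]; exact R.mul_mem (R.inv_mem (hLR hl)) hx
      have huQ : u ∈ Q := by rw [hQ]; exact Subgroup.mem_inf.mpr ⟨hu, huR⟩
      rw [hQbot, Subgroup.mem_bot] at huQ
      rw [huQ, mul_one]; exact hl
    apply hRqbot
    rw [eq_bot_iff]
    intro y hy
    obtain ⟨x, rfl⟩ := QuotientGroup.mk'_surjective L y
    have hx : x ∈ R := by rw [hR]; exact hy
    rw [Subgroup.mem_bot]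
    exact (QuotientGroup.eq_one_iff x).mpr (hRL hx)

end Cfsg.Agent.Lib.Helper1
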