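import Mathlib

set_option autoImplicit false
set_option maxHeartbeats 4000000
set_option maxRecDepth 100000
set_option linter.unusedVariables false
set_option linter.unusedSectionVars false
set_option linter.style.longLine false
set_option linter.unusedSimpArgs false
set_option linter.deprecated false
set_option linter.style.haveILetI false

/-! Elements of prime power order with maximal centralizers outside a normal subgroup. -/

namespace Cfsg.Agent.Lib.Helper1.Cpm

universe u
variable {G : Type u} [Group G] [Finite G]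

theorem isPGroup_centralizer (N : Subgroup G) [N.Normal]
    (h : ∀ y : G, y ∉ N → IsPrimePow (orderOf y))
    {x : G} (hx : x ∉ N) {p k : ℕ} (hp : p.Prime) (hord : orderOf x = p ^ k) :
    IsPGroup p ↥(Subgroup.centralizer ({x} : Set G)) := by
  haveI : Fact p.Prime := ⟨hp⟩
  have k0 : k ≠ 0 := by
    rintro rfl
    rw [pow_zero, orderOf_eq_one_iff] at hord
    exact hx (hord ▸ N.one_mem)
  rw [IsPGroup.iff_orderOf]
  rintro ⟨y, hy⟩
  have hyx : Commute x y := by
    rw [Subgroup.mem_centralizer_iff] at hy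
    exact hy x (Set.mem_singleton x)
  have hy0 : orderOf y ≠ 0 := (orderOf_pos y).ne'
  have key : ∀ q : ℕ, q.Prime → q ∣ orderOf y → q = p := by
    intro q hq hqy
    by_contra hne
    set c := y ^ (orderOf y / q) with hc
    have hcord : orderOf c = q := orderOf_pow_orderOf_div hy0 hqy
    have hxc : Commute x c := hyx.pow_right _
    have hcop : (orderOf x).Coprime (orderOf c) := by
      rw [hord, hcord]
      exact Nat.Coprime.pow_left k ((Nat.coprime_primes hp hq).mpr (Ne.symm hne))
    have hordxc : orderOf (x * c) = p ^ k * q := by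
      rw [hxc.orderOf_mul_eq_mul_orderOf_of_coprime hcop, hord, hcord]
    have hxcN : x * c ∉ N := by
      intro hmem
      have h1 : (x * c) ^ q ∈ N := N.pow_mem hmem q
      have h2 : (x * c) ^ q = x ^ q := by
        rw [hxc.mul_pow, ← hcord, pow_orderOf_eq_one, mul_one]
      rw [h2] at h1
      have hcop2 : q.Coprime (orderOf x) := by
        rw [hord]; exact Nat.Coprime.pow_right k ((Nat.coprime_primes hq hp).mpr hne)
      obtain ⟨m, hm⟩ := exists_pow_eq_self_of_coprime hcop2
      exact hx (hm ▸ N.pow_mem h1 m)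
    have hpp := h _ hxcN
    rw [hordxc, isPrimePow_iff_unique_prime_dvd] at hpp
    obtain ⟨r, ⟨hr, hrd⟩, huniq⟩ := hpp
    have hp1 := huniq p ⟨hp, Dvd.dvd.mul_right (dvd_pow_self p k0) q⟩
    have hq1 := huniq q ⟨hq, Dvd.intro_left _ rfl⟩
    exact hne (hq1.trans hp1.symm)
  refine ⟨(orderOf y).primeFactorsList.length, ?_⟩
  rw [← Subgroup.orderOf_coe]
  exact Nat.eq_prime_pow_of_unique_prime_dvd hy0 (fun {d} hd hdvd => key d hd hdvd)

theorem sylow_or_pgroup (N : Subgroup G) [N.Normal]
    (h : ∀ y : G, y ∉ N → IsPrimePow (orderOf y) ∧ IsCoatom (Subgroup.centralizer ({y} : Set G)))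
    {x : G} (hx : x ∉ N) {p k : ℕ} [hp : Fact p.Prime] (hord : orderOf x = p ^ k) :
    IsPGroup p G ∨ ∃ P : Sylow p G, (P : Subgroup G) = Subgroup.centralizer ({x} : Set G) := by
  have hM := isPGroup_centralizer N (fun y hy => (h y hy).1) hx hp.out hord
  obtain ⟨P, hP⟩ := hM.exists_le_sylow
  by_cases heq : Subgroup.centralizer ({x} : Set G) = (P : Subgroup G)
  · exact Or.inr ⟨P, heq.symm⟩
  · left
    have hlt : Subgroup.centralizer ({x} : Set G) < (P : Subgroup G) := lt_of_le_of_ne hP heq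
    have htop : (P : Subgroup G) = ⊤ := (h x hx).2.2 _ hlt
    intro g
    obtain ⟨j, hj⟩ := P.2 ⟨g, htop ▸ Subgroup.mem_top g⟩
    refine ⟨j, ?_⟩
    have := congrArg Subtype.val hj
    rwa [Subgroup.coe_pow, Subgroup.coe_one] at this

/-- The reduction: either `N` is solvable, or there is a prime `p` and a Sylow `p`-subgroup `P`
which is a coatom, `P ⊔ N = ⊤`, and all elements outside `N` are `p`-elements whose centralizers
are Sylow `p`-subgroups. -/
theorem reduction (N : Subgroup G) [N.Normal] (hN : N ≠ ⊤)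
    (h : ∀ y : G, y ∉ N → IsPrimePow (orderOf y) ∧ IsCoatom (Subgroup.centralizer ({y} : Set G)))
    (hns : ¬ Group.IsSolvable ↥N) :
    ∃ (p : ℕ) (hp : Fact p.Prime) (P : Sylow p G), IsCoatom (P : Subgroup G) ∧
      (P : Subgroup G) ⊔ N = ⊤ ∧
      ∀ y : G, y ∉ N → ∃ Q : Sylow p G, (Q : Subgroup G) = Subgroup.centralizer ({y} : Set G) := by
  have hnp : ∀ p : ℕ, p.Prime → ¬ IsPGroup p G := by
    intro p hp hG
    haveI : Fact p.Prime := ⟨hp⟩
    haveI : Group.IsNilpotent G := hG.isNilpotent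
    exact hns inferInstance
  obtain ⟨x₀, hx₀⟩ : ∃ x, x ∉ N := by
    by_contra hcon
    push_neg at hcon
    exact hN (eq_top_iff.mpr fun x _ => hcon x)
  obtain ⟨p, k, hp, hk, hord⟩ := (isPrimePow_nat_iff _).mp (h x₀ hx₀).1
  haveI hpf : Fact p.Prime := ⟨hp⟩
  obtain ⟨P, hP⟩ : ∃ P : Sylow p G, (P : Subgroup G) = Subgroup.centralizer ({x₀} : Set G) :=
    (sylow_or_pgroup N h hx₀ hord.symm).resolve_left (hnp p hp)
  have hPco : IsCoatom (P : Subgroup G) := hP ▸ (h x₀ hx₀).2
  have hNP : ¬ N ≤ (P : Subgroup G) := by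
    intro hle
    have hNp : IsPGroup p ↥N := by
      intro g
      obtain ⟨j, hj⟩ := P.2 ⟨g.1, hle g.2⟩
      refine ⟨j, ?_⟩
      have := congrArg Subtype.val hj
      rw [Subgroup.coe_pow, Subgroup.coe_one] at this
      exact Subtype.ext (by rw [Subgroup.coe_pow, Subgroup.coe_one]; exact this)
    haveI : Group.IsNilpotent ↥N := hNp.isNilpotent
    exact hns inferInstance
  have hsup : (P : Subgroup G) ⊔ N = ⊤ := by
    apply hPco.2
    refine lt_of_le_of_ne le_sup_left ?_
    intro heq
    exact hNP (heq ▸ le_sup_right)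
  refine ⟨p, hpf, P, hPco, hsup, ?_⟩
  intro y hy
  obtain ⟨q, j, hq, hj, hordy⟩ := (isPrimePow_nat_iff _).mp (h y hy).1
  -- q = p
  have hqp : q = p := by
    by_contra hne
    have hymem : y ∈ ((P : Subgroup G) ⊔ N : Subgroup G) := hsup ▸ Subgroup.mem_top y
    rw [← SetLike.mem_coe, Subgroup.mul_normal] at hymem
    obtain ⟨u, hu, n, hn, rfl⟩ := Set.mem_mul.mp hymem
    obtain ⟨a, ha⟩ := P.2 ⟨u, hu⟩
    have hua : u ^ (p ^ a) = 1 := by
      have := congrArg Subtype.val ha
      rwa [Subgroup.coe_pow, Subgroup.coe_one] at this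
    -- (u*n)^(p^a) ∈ N
    have hpow : (u * n) ^ (p ^ a) ∈ N := by
      have : ((QuotientGroup.mk' N) ((u * n) ^ (p ^ a))) = 1 := by
        rw [map_pow, map_mul]
        have hn1 : (QuotientGroup.mk' N) n = 1 := (QuotientGroup.eq_one_iff n).mpr hn
        rw [hn1, mul_one, ← map_pow, hua, map_one]
      exact (QuotientGroup.eq_one_iff _).mp this
    have hcop : (p ^ a).Coprime (orderOf (u * n)) := by
      rw [← hordy]
      exact Nat.Coprime.pow _ _ ((Nat.coprime_primes hp hq).mpr (Ne.symm hne))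
    obtain ⟨m, hm⟩ := exists_pow_eq_self_of_coprime hcop
    exact hy (hm ▸ N.pow_mem hpow m)
  subst hqp
  exact (sylow_or_pgroup N h hy hordy.symm).resolve_left (hnp q hq)

end Cfsg.Agent.Lib.Helper1.Cpm
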