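import Mathlib
import Cfsg.Agent.Lib.Helper1.Cpm1
import Cfsg.Agent.Lib.Helper1.CoprimeSylow

set_option autoImplicit false
set_option maxHeartbeats 4000000
set_option maxRecDepth 100000
set_option linter.unusedVariables false
set_option linter.unusedSectionVars false
set_option linter.style.longLine false
set_option linter.unusedSimpArgs false
set_option linter.deprecated false
set_option linter.style.haveILetI false

/-! Counting argument and endgame for S3903. -/

namespace Cfsg.Agent.Lib.Helper1.Cpm

universe u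
variable {G : Type u} [Group G] [Finite G]

theorem card_filter_mem [Fintype G] (H : Subgroup G) [DecidablePred (fun g : G => g ∈ H)] :
    (Finset.univ.filter (fun g : G => g ∈ H)).card = Nat.card ↥H := by
  classical
  rw [Nat.card_eq_fintype_card]
  exact (Fintype.card_of_subtype _ (by simp)).symm

/-- Two elements of `P ∖ N` which are conjugate in `G` are equal. -/
theorem unique_conj {p : ℕ} [Fact p.Prime] (N : Subgroup G) [N.Normal] (P : Sylow p G)
    (hsup : (P : Subgroup G) ⊔ N = ⊤)
    (hcent : ∀ y : G, y ∉ N →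
      ∃ Q : Sylow p G, (Q : Subgroup G) = Subgroup.centralizer ({y} : Set G))
    {y y' : G} (hy : y ∈ (P : Subgroup G)) (hyN : y ∉ N) (hy' : y' ∈ (P : Subgroup G))
    (hy'N : y' ∉ N) (hconj : ∃ g : G, g * y * g⁻¹ = y') : y = y' := by
  classical
  haveI : Fintype G := Fintype.ofFinite G
  by_contra hne
  obtain ⟨h₀, hh₀⟩ := hconj
  set c := Nat.card ↥(P : Subgroup G) with hc
  have hcardC : ∀ z : G, z ∉ N →
      (Finset.univ.filter (fun g : G => g ∈ Subgroup.centralizer ({z} : Set G))).card = c := by
    intro z hz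
    obtain ⟨Q, hQ⟩ := hcent z hz
    rw [card_filter_mem, ← hQ, hc, Sylow.card_eq_multiplicity, Sylow.card_eq_multiplicity]
  set Sfin : Finset G := Finset.univ.filter (fun g : G => g ∈ (P : Subgroup G) ∧ g ∉ N) with hS
  set Xfin : Finset G := Finset.univ.filter (fun g : G => g ∉ N) with hX
  set Dfin : Finset G := Finset.univ.filter (fun g : G => g ∈ (P : Subgroup G) ⊓ N) with hD
  set Pfin : Finset G := Finset.univ.filter (fun g : G => g ∈ (P : Subgroup G)) with hPf
  set Nfin : Finset G := Finset.univ.filter (fun g : G => g ∈ N) with hNf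
  have hPc : Pfin.card = c := card_filter_mem _
  have hNc : Nfin.card = Nat.card ↥N := card_filter_mem _
  have hDc : Dfin.card = Nat.card ↥((P : Subgroup G) ⊓ N) := card_filter_mem _
  have hsplit1 : Sfin.card + Dfin.card = Pfin.card := by
    have := Finset.card_filter_add_card_filter_not (s := Pfin) (fun g : G => g ∈ N)
    have e1 : Pfin.filter (fun g : G => g ∈ N) = Dfin := by
      ext g; simp [hPf, hD, Subgroup.mem_inf]
    have e2 : Pfin.filter (fun g : G => ¬ g ∈ N) = Sfin := by
      ext g; simp [hPf, hS]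
    rw [e1, e2] at this
    omega
  have hsplit2 : Xfin.card + Nfin.card = Fintype.card G := by
    have := Finset.card_filter_add_card_filter_not (s := (Finset.univ : Finset G))
      (fun g : G => g ∈ N)
    rw [Finset.card_univ] at this
    have e2 : (Finset.univ : Finset G).filter (fun g : G => ¬ g ∈ N) = Xfin := by
      ext g; simp [hX]
    rw [e2] at this
    have e1 : (Finset.univ : Finset G).filter (fun g : G => g ∈ N) = Nfin := by
      ext g; simp [hNf]
    rw [e1] at this
    omega
  have hidx1 : Nat.card ↥N * N.index = Fintype.card G := by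
    rw [← Nat.card_eq_fintype_card]; exact N.card_mul_index
  have hidx2 : Nat.card ↥((P : Subgroup G) ⊓ N) * N.index = c := by
    have h1 : N.relIndex ((P : Subgroup G) ⊔ N) = N.relIndex (P : Subgroup G) :=
      Subgroup.relIndex_sup_right _ _
    rw [hsup, Subgroup.relIndex_top_right] at h1
    have h2 := (N.subgroupOf (P : Subgroup G)).card_mul_index
    have h3 : Nat.card ↥(N.subgroupOf (P : Subgroup G)) = Nat.card ↥((P : Subgroup G) ⊓ N) := by
      rw [← Subgroup.inf_subgroupOf_right N (P : Subgroup G), inf_comm]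
      exact Nat.card_congr (Subgroup.subgroupOfEquivOfLe inf_le_left).toEquiv
    rw [h3] at h2
    rw [h1]
    exact h2
  have hnum : Sfin.card * Fintype.card G = Xfin.card * c := by
    have e1 : Sfin.card * Fintype.card G + Dfin.card * Fintype.card G = c * Fintype.card G := by
      rw [← add_mul, hsplit1, hPc]
    have e2 : Xfin.card * c + Nfin.card * c = Fintype.card G * c := by
      rw [← add_mul, hsplit2]
    have e3 : Dfin.card * Fintype.card G = Nfin.card * c := by
      rw [hDc, hNc, ← hidx1, ← hidx2]; ring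
    rw [e3] at e1
    have e4 : c * Fintype.card G = Fintype.card G * c := mul_comm _ _
    omega
  -- the fibers
  set T : Finset (G × G) := Sfin ×ˢ (Finset.univ : Finset G) with hT
  set f : G × G → G := fun a => a.2 * a.1 * a.2⁻¹ with hf
  have hmaps : ∀ a ∈ T, f a ∈ Xfin := by
    intro a ha
    rw [hT, Finset.mem_product] at ha
    have ha1 : a.1 ∈ (P : Subgroup G) ∧ a.1 ∉ N := by
      have := ha.1; rw [hS, Finset.mem_filter] at this; exact this.2
    rw [hX, Finset.mem_filter]
    refine ⟨Finset.mem_univ _, ?_⟩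
    intro hmem
    apply ha1.2
    have := (inferInstance : N.Normal).conj_mem _ hmem a.2⁻¹
    have e : a.2⁻¹ * (a.2 * a.1 * a.2⁻¹) * a.2⁻¹⁻¹ = a.1 := by group
    rwa [hf, e] at this
  have hsum := Finset.card_eq_sum_card_fiberwise hmaps
  have hTcard : T.card = Sfin.card * Fintype.card G := by
    rw [hT, Finset.card_product, Finset.card_univ]
  have hfib : ∀ b ∈ Xfin, c ≤ (T.filter (fun a => f a = b)).card := by
    intro b hb
    have hbN : b ∉ N := by rw [hX, Finset.mem_filter] at hb; exact hb.2
    obtain ⟨Q, hQ⟩ := hcent b hbN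
    have hbQ : b ∈ (Q : Subgroup G) := by
      rw [hQ, Subgroup.mem_centralizer_iff]
      intro h hh
      rw [Set.mem_singleton_iff] at hh
      rw [hh]
    obtain ⟨g, hg⟩ := MulAction.exists_smul_eq G Q P
    have hy₀P : g * b * g⁻¹ ∈ (P : Subgroup G) := by
      rw [← hg, Sylow.coe_subgroup_smul]
      have := Subgroup.smul_mem_pointwise_smul b (MulAut.conj g) (Q : Subgroup G) hbQ
      rwa [MulAut.smul_def, MulAut.conj_apply] at this
    have hy₀N : g * b * g⁻¹ ∉ N := by
      intro hmem
      apply hbN
      have := (inferInstance : N.Normal).conj_mem _ hmem g⁻¹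
      have e : g⁻¹ * (g * b * g⁻¹) * g⁻¹⁻¹ = b := by group
      rwa [e] at this
    rw [← hcardC (g * b * g⁻¹) hy₀N]
    apply Finset.card_le_card_of_injOn (fun c' => ((g * b * g⁻¹, g⁻¹ * c') : G × G))
    · intro c' hc'
      have hc'' : c' ∈ Subgroup.centralizer ({g * b * g⁻¹} : Set G) := by
        have := Finset.mem_coe.mp hc'; rw [Finset.mem_filter] at this; exact this.2
      rw [Subgroup.mem_centralizer_iff] at hc''
      have hcomm : (g * b * g⁻¹) * c' = c' * (g * b * g⁻¹) := hc'' _ (Set.mem_singleton _)
      rw [Finset.mem_coe, Finset.mem_filter, hT, Finset.mem_product]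
      refine ⟨⟨?_, Finset.mem_univ _⟩, ?_⟩
      · rw [hS, Finset.mem_filter]; exact ⟨Finset.mem_univ _, hy₀P, hy₀N⟩
      · show g⁻¹ * c' * (g * b * g⁻¹) * (g⁻¹ * c')⁻¹ = b
        calc g⁻¹ * c' * (g * b * g⁻¹) * (g⁻¹ * c')⁻¹
            = g⁻¹ * (c' * (g * b * g⁻¹)) * c'⁻¹ * g := by group
          _ = g⁻¹ * ((g * b * g⁻¹) * c') * c'⁻¹ * g := by rw [hcomm]
          _ = b := by group
    · intro c₁ _ c₂ _ h12
      have := (Prod.mk.inj h12).2
      exact mul_left_cancel this
  have hy'X : y' ∈ Xfin := by rw [hX, Finset.mem_filter]; exact ⟨Finset.mem_univ _, hy'N⟩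
  have hfib' : c < (T.filter (fun a => f a = y')).card := by
    set Cf : Finset G := Finset.univ.filter
      (fun g : G => g ∈ Subgroup.centralizer ({y'} : Set G)) with hCf
    set A : Finset (G × G) := insert ((y, h₀) : G × G) (Cf.image (fun c' => ((y', c') : G × G)))
      with hA
    have hnot : ((y, h₀) : G × G) ∉ Cf.image (fun c' => ((y', c') : G × G)) := by
      intro hmem
      rw [Finset.mem_image] at hmem
      obtain ⟨c', _, hc'⟩ := hmem
      exact hne (Prod.mk.inj hc').1.symm
    have hAcard : A.card = c + 1 := by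
      rw [hA, Finset.card_insert_of_notMem hnot, Finset.card_image_of_injective]
      · rw [hCf, hcardC y' hy'N]
      · intro c₁ c₂ h12; exact (Prod.mk.inj h12).2
    have hAsub : A ⊆ T.filter (fun a => f a = y') := by
      intro a ha
      rw [hA, Finset.mem_insert] at ha
      rw [Finset.mem_filter, hT, Finset.mem_product]
      rcases ha with rfl | ha
      · refine ⟨⟨?_, Finset.mem_univ _⟩, hh₀⟩
        rw [hS, Finset.mem_filter]; exact ⟨Finset.mem_univ _, hy, hyN⟩
      · rw [Finset.mem_image] at ha
        obtain ⟨c', hc', rfl⟩ := ha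
        have hc'' : c' ∈ Subgroup.centralizer ({y'} : Set G) := by
          rw [hCf, Finset.mem_filter] at hc'; exact hc'.2
        rw [Subgroup.mem_centralizer_iff] at hc''
        have hcomm : y' * c' = c' * y' := hc'' _ (Set.mem_singleton _)
        refine ⟨⟨?_, Finset.mem_univ _⟩, ?_⟩
        · rw [hS, Finset.mem_filter]; exact ⟨Finset.mem_univ _, hy', hy'N⟩
        · show c' * y' * c'⁻¹ = y'
          rw [← hcomm]; group
    have := Finset.card_le_card hAsub
    omega
  have hlt : ∑ b ∈ Xfin, c < ∑ b ∈ Xfin, (T.filter (fun a => f a = b)).card :=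
    Finset.sum_lt_sum hfib ⟨y', hy'X, hfib'⟩
  rw [Finset.sum_const, smul_eq_mul, ← hsum, hTcard, hnum] at hlt
  exact lt_irrefl _ hlt

end Cfsg.Agent.Lib.Helper1.Cpm
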