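import Mathlib
import Cfsg.Agent.Lib.Helper1.Cpm2

set_option autoImplicit false
set_option maxHeartbeats 4000000
set_option maxRecDepth 100000
set_option linter.unusedVariables false
set_option linter.unusedSectionVars false
set_option linter.style.longLine false
set_option linter.unusedSimpArgs false
set_option linter.deprecated false
set_option linter.style.haveILetI false

/-! Endgame for S3903. -/

namespace Cfsg.Agent.Lib.Helper1.Cpm

universe u
variable {G : Type u} [Group G] [Finite G]

open Cfsg.Agent.Lib.Helper1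

/-- From the reduced configuration, `G` is solvable. -/
theorem solvable_of_config {p : ℕ} [hp : Fact p.Prime] (N : Subgroup G) [N.Normal] (hN : N ≠ ⊤)
    (P : Sylow p G) (hPco : IsCoatom (P : Subgroup G))
    (hsup : (P : Subgroup G) ⊔ N = ⊤)
    (hcent : ∀ y : G, y ∉ N →
      ∃ Q : Sylow p G, (Q : Subgroup G) = Subgroup.centralizer ({y} : Set G)) :
    Group.IsSolvable G := by
  -- an element of P outside N
  obtain ⟨y₁, hy₁P, hy₁N⟩ : ∃ y₁, y₁ ∈ (P : Subgroup G) ∧ y₁ ∉ N := by
    by_contra hcon
    push_neg at hcon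
    have hle : (P : Subgroup G) ≤ N := fun g hg => hcon g hg
    apply hN
    rw [← hsup]
    exact (sup_eq_right.mpr hle).symm
  -- normalizer ≤ centralizer
  have hNC : Subgroup.normalizer ((P : Subgroup G) : Set G) ≤
      Subgroup.centralizer ((P : Subgroup G) : Set G) := by
    intro u hu
    rw [Subgroup.mem_normalizer_iff] at hu
    have hout : ∀ y, y ∈ (P : Subgroup G) → y ∉ N → u * y * u⁻¹ = y := by
      intro y hy hyN
      have h1 : u * y * u⁻¹ ∈ (P : Subgroup G) := (hu y).mp hy
      have h2 : u * y * u⁻¹ ∉ N := by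
        intro hmem
        apply hyN
        have := (inferInstance : N.Normal).conj_mem _ hmem u⁻¹
        have e : u⁻¹ * (u * y * u⁻¹) * u⁻¹⁻¹ = y := by group
        rwa [e] at this
      exact (unique_conj N P hsup hcent hy hyN h1 h2 ⟨u, rfl⟩).symm
    rw [Subgroup.mem_centralizer_iff]
    intro y hy
    have hyP : y ∈ (P : Subgroup G) := hy
    by_cases hyN : y ∈ N
    · -- use y₁ and y₁ * y
      have h1 := hout y₁ hy₁P hy₁N
      have hprodN : y₁ * y ∉ N := by
        intro hmem
        apply hy₁N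
        have := N.mul_mem hmem (N.inv_mem hyN)
        rwa [mul_inv_cancel_right] at this
      have h2 := hout (y₁ * y) ((P : Subgroup G).mul_mem hy₁P hyP) hprodN
      -- u y₁ y u⁻¹ = y₁ y and u y₁ u⁻¹ = y₁ ⇒ u y u⁻¹ = y
      have h3 : u * y * u⁻¹ = y := by
        have : u * (y₁ * y) * u⁻¹ = (u * y₁ * u⁻¹) * (u * y * u⁻¹) := by group
        rw [this, h1] at h2
        exact mul_left_cancel h2
      calc y * u = (u * y * u⁻¹) * u := by rw [h3]
        _ = u * y := by group
    · have h3 := hout y hyP hyN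
      calc y * u = (u * y * u⁻¹) * u := by rw [h3]
        _ = u * y := by group
  -- Burnside
  have hcomp := MonoidHom.ker_transferSylow_isComplement' P hNC
  set K : Subgroup G := (MonoidHom.transferSylow P hNC).ker with hK
  haveI hKn : K.Normal := by rw [hK]; infer_instance
  have hPsolv : Group.IsSolvable ↥(P : Subgroup G) := by
    haveI : Group.IsNilpotent ↥(P : Subgroup G) := P.2.isNilpotent
    infer_instance
  -- p does not divide card K
  have hKcard : ¬ p ∣ Nat.card ↥K := by
    have h1 : (P : Subgroup G).index = Nat.card ↥K := hcomp.index_eq_card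
    rw [← h1]
    exact P.not_dvd_index
  by_cases hK1 : Nat.card ↥K = 1
  · -- G is a p-group
    have hKbot : K = ⊥ := Subgroup.card_eq_one.mp hK1
    have htop : (P : Subgroup G) = ⊤ := by
      have := hcomp.sup_eq_top
      rwa [hKbot, bot_sup_eq] at this
    have hG : IsPGroup p G := by
      intro g
      obtain ⟨j, hj⟩ := P.2 ⟨g, htop ▸ Subgroup.mem_top g⟩
      refine ⟨j, ?_⟩
      have := congrArg Subtype.val hj
      rwa [Subgroup.coe_pow, Subgroup.coe_one] at this
    haveI : Group.IsNilpotent G := hG.isNilpotent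
    infer_instance
  · -- a prime q dividing card K
    set q := (Nat.card ↥K).minFac with hq
    have hqprime : q.Prime := Nat.minFac_prime hK1
    haveI : Fact q.Prime := ⟨hqprime⟩
    have hqdvd : q ∣ Nat.card ↥K := Nat.minFac_dvd _
    have hqp : q ≠ p := by
      intro h; exact hKcard (h ▸ hqdvd)
    have hcop : (Nat.card ↥(P : Subgroup G)).Coprime (Nat.card ↥K) := by
      obtain ⟨n, hn⟩ := P.2.exists_card_eq
      rw [hn]
      exact Nat.Coprime.pow_left n ((Nat.Prime.coprime_iff_not_dvd hp.out).mpr hKcard)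
    have hAK : (P : Subgroup G) ≤ Subgroup.normalizer (K : Set G) := by
      rw [Subgroup.normalizer_eq_top_iff.mpr hKn]; exact le_top
    obtain ⟨Q, hQ⟩ := coprime_exists_invariant_sylow (P : Subgroup G) K hAK hcop (Or.inl hPsolv) q
    set Q₁ : Subgroup G := (Q : Subgroup K).map K.subtype with hQ₁
    have hQ₁K : Q₁ ≤ K := by
      rintro _ ⟨w, _, rfl⟩; exact w.2
    have hQne : (Q : Subgroup K) ≠ ⊥ := Sylow.ne_bot_of_dvd_card Q hqdvd
    have hQ₁ne : Q₁ ≠ ⊥ := by
      intro h
      apply hQne
      rw [eq_bot_iff]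
      intro w hw
      have : (w : G) ∈ Q₁ := ⟨w, hw, rfl⟩
      rw [h, Subgroup.mem_bot] at this
      exact Subtype.ext this
    have hQ₁P : ¬ Q₁ ≤ (P : Subgroup G) := by
      intro hle
      apply hQ₁ne
      rw [eq_bot_iff]
      intro w hw
      have : w ∈ K ⊓ (P : Subgroup G) := ⟨hQ₁K hw, hle hw⟩
      rwa [hcomp.disjoint.eq_bot] at this
    have hsup2 : (P : Subgroup G) ⊔ Q₁ = ⊤ := by
      apply hPco.2
      refine lt_of_le_of_ne le_sup_left ?_
      intro heq
      exact hQ₁P (heq ▸ le_sup_right)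
    haveI hQ₁n : Q₁.Normal := by
      rw [← Subgroup.normalizer_eq_top_iff, eq_top_iff, ← hsup2]
      exact sup_le hQ Subgroup.le_normalizer
    -- Q₁ is a q-group, G/Q₁ a p-group
    have hQ₁q : IsPGroup q ↥Q₁ := Q.2.map K.subtype
    haveI : Group.IsSolvable ↥Q₁ := by
      haveI : Group.IsNilpotent ↥Q₁ := hQ₁q.isNilpotent
      infer_instance
    have hquot : IsPGroup p (G ⧸ Q₁) := by
      intro x
      obtain ⟨g, rfl⟩ := QuotientGroup.mk'_surjective Q₁ x
      have hg : g ∈ ((P : Subgroup G) ⊔ Q₁ : Subgroup G) := hsup2 ▸ Subgroup.mem_top g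
      rw [← SetLike.mem_coe, Subgroup.mul_normal] at hg
      obtain ⟨u, hu, w, hw, rfl⟩ := Set.mem_mul.mp hg
      obtain ⟨j, hj⟩ := P.2 ⟨u, hu⟩
      have huj : u ^ (p ^ j) = 1 := by
        have := congrArg Subtype.val hj
        rwa [Subgroup.coe_pow, Subgroup.coe_one] at this
      refine ⟨j, ?_⟩
      have hw1 : (QuotientGroup.mk' Q₁) w = 1 := (QuotientGroup.eq_one_iff w).mpr hw
      rw [map_mul, hw1, mul_one, ← map_pow, huj, map_one]
    haveI : Group.IsSolvable (G ⧸ Q₁) := by
      haveI : Group.IsNilpotent (G ⧸ Q₁) := hquot.isNilpotent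
      infer_instance
    apply Group.isSolvable_of_ker_le_range Q₁.subtype (QuotientGroup.mk' Q₁)
    rw [QuotientGroup.ker_mk', Subgroup.range_subtype]

/-- S3903. -/
theorem solvable_of_cp_max (N : Subgroup G) [N.Normal] (hN : N ≠ ⊤)
    (h : ∀ x : G, x ∉ N → IsPrimePow (orderOf x) ∧
      IsCoatom (Subgroup.centralizer ({x} : Set G))) :
    Group.IsSolvable ↥N := by
  by_contra hns
  obtain ⟨p, hp, P, hPco, hsup, hcent⟩ := reduction N hN h hns
  haveI := hp
  haveI : Group.IsSolvable G := solvable_of_config N hN P hPco hsup hcent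
  exact hns inferInstance

end Cfsg.Agent.Lib.Helper1.Cpm
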