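import Mathlib
import Cfsg.Agent.Lib.Helper2.Cr5Defs

set_option autoImplicit false
set_option linter.unusedVariables false
set_option linter.unusedSectionVars false
set_option linter.style.longLine false
set_option linter.deprecated false

/-!
# S3600 piece R7 (core): two `AffData` groups with coordinates are isomorphic
-/

open Cfsg.Agent.Lib.Helper8.C5 Cfsg.Agent.Lib.Helper2.Cr5

universe u v

namespace Cfsg.Agent.Lib.Helper1.Cr5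

theorem card_V4 : Nat.card (Multiplicative (Fin 4 → ZMod 2)) = 16 := by
  rw [Nat.card_eq_fintype_card, Fintype.card_multiplicative, Fintype.card_fun, ZMod.card,
    Fintype.card_fin]
  norm_num

/-- `θ` hits every element of `N`. -/
theorem coord_surj {X : Type u} [Group X] [Finite X] {N : Subgroup X} {ε : A5 →* X}
    (h : AffData N ε) {θ : Multiplicative (Fin 4 → ZMod 2) →* X} (hθ : Coord N ε θ) :
    ∀ n ∈ N, ∃ v, θ v = n := by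
  have hinj : Function.Injective
      (fun v : Multiplicative (Fin 4 → ZMod 2) => (⟨θ v, hθ.mem v⟩ : ↥N)) := by
    intro v w hvw
    exact hθ.inj (congrArg Subtype.val hvw)
  have hbij := (Nat.bijective_iff_injective_and_card _).mpr ⟨hinj, by rw [card_V4, h.card]⟩
  intro n hn
  obtain ⟨v, hv⟩ := hbij.2 ⟨n, hn⟩
  exact ⟨v, congrArg Subtype.val hv⟩

/-- every element is uniquely `θ v * ε a`. -/
theorem dec_bij {X : Type u} [Group X] [Finite X] {N : Subgroup X} {ε : A5 →* X}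
    (h : AffData N ε) {θ : Multiplicative (Fin 4 → ZMod 2) →* X} (hθ : Coord N ε θ) :
    Function.Bijective (fun p : Multiplicative (Fin 4 → ZMod 2) × A5 => θ p.1 * ε p.2) := by
  constructor
  · rintro ⟨v, a⟩ ⟨v', a'⟩ hp
    simp only at hp
    have h0 : ε a = (θ v)⁻¹ * θ v' * ε a' := by
      rw [mul_assoc, ← hp]; group
    have h1 : ε (a * a'⁻¹) = (θ v)⁻¹ * θ v' := by
      rw [map_mul, map_inv, h0]; group
    have h2 : a * a'⁻¹ = 1 :=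
      h.disj _ (by rw [h1]; exact N.mul_mem (N.inv_mem (hθ.mem v)) (hθ.mem v'))
    have h3 : a = a' := mul_inv_eq_one.mp h2
    subst h3
    have h4 : θ v = θ v' := mul_right_cancel hp
    rw [hθ.inj h4]
  · intro x
    obtain ⟨n, hn, a, rfl⟩ := h.top x
    obtain ⟨v, rfl⟩ := coord_surj h hθ n hn
    exact ⟨(v, a), rfl⟩

section key

variable {X₁ : Type u} {X₂ : Type v} [Group X₁] [Group X₂]
  {N₁ : Subgroup X₁} {ε₁ : A5 →* X₁} {N₂ : Subgroup X₂} {ε₂ : A5 →* X₂}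
  {θ₁ : Multiplicative (Fin 4 → ZMod 2) →* X₁} {θ₂ : Multiplicative (Fin 4 → ZMod 2) →* X₂}

/-- conjugation by `ε a` acts by the same map on the coordinates in both groups. -/
def SameAct (ε₁ : A5 →* X₁) (ε₂ : A5 →* X₂) (θ₁ : Multiplicative (Fin 4 → ZMod 2) →* X₁)
    (θ₂ : Multiplicative (Fin 4 → ZMod 2) →* X₂) (a : A5) : Prop :=
  ∃ f : Multiplicative (Fin 4 → ZMod 2) → Multiplicative (Fin 4 → ZMod 2),
    ∀ v, ε₁ a * θ₁ v * (ε₁ a)⁻¹ = θ₁ (f v) ∧ ε₂ a * θ₂ v * (ε₂ a)⁻¹ = θ₂ (f v)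

theorem sameAct_one : SameAct ε₁ ε₂ θ₁ θ₂ 1 :=
  ⟨id, fun v => by simp⟩

theorem sameAct_mul {a b : A5} (ha : SameAct ε₁ ε₂ θ₁ θ₂ a) (hb : SameAct ε₁ ε₂ θ₁ θ₂ b) :
    SameAct ε₁ ε₂ θ₁ θ₂ (a * b) := by
  obtain ⟨f, hf⟩ := ha
  obtain ⟨g, hg⟩ := hb
  refine ⟨f ∘ g, fun v => ⟨?_, ?_⟩⟩
  · have : ε₁ (a * b) * θ₁ v * (ε₁ (a * b))⁻¹ = ε₁ a * (ε₁ b * θ₁ v * (ε₁ b)⁻¹) * (ε₁ a)⁻¹ := by
      rw [map_mul]; group
    rw [this, (hg v).1, (hf _).1]; rfl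
  · have : ε₂ (a * b) * θ₂ v * (ε₂ (a * b))⁻¹ = ε₂ a * (ε₂ b * θ₂ v * (ε₂ b)⁻¹) * (ε₂ a)⁻¹ := by
      rw [map_mul]; group
    rw [this, (hg v).2, (hf _).2]; rfl

theorem sameAct_pu (hθ₁ : Coord N₁ ε₁ θ₁) (hθ₂ : Coord N₂ ε₂ θ₂) : SameAct ε₁ ε₂ θ₁ θ₂ pu :=
  ⟨fun v => Multiplicative.ofAdd (MU (Multiplicative.toAdd v)),
    fun v => ⟨hθ₁.u (Multiplicative.toAdd v), hθ₂.u (Multiplicative.toAdd v)⟩⟩

theorem sameAct_pd (hθ₁ : Coord N₁ ε₁ θ₁) (hθ₂ : Coord N₂ ε₂ θ₂) : SameAct ε₁ ε₂ θ₁ θ₂ pd :=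
  ⟨fun v => Multiplicative.ofAdd (MD (Multiplicative.toAdd v)),
    fun v => ⟨hθ₁.d (Multiplicative.toAdd v), hθ₂.d (Multiplicative.toAdd v)⟩⟩

theorem sameAct_pw (hθ₁ : Coord N₁ ε₁ θ₁) (hθ₂ : Coord N₂ ε₂ θ₂) : SameAct ε₁ ε₂ θ₁ θ₂ pw :=
  ⟨fun v => Multiplicative.ofAdd (MW (Multiplicative.toAdd v)),
    fun v => ⟨hθ₁.w (Multiplicative.toAdd v), hθ₂.w (Multiplicative.toAdd v)⟩⟩

theorem pu_inv : pu⁻¹ = pu := by
  have := pu_sq
  rw [pow_two] at this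
  exact inv_eq_of_mul_eq_one_left this

theorem pw_inv : pw⁻¹ = pw := by
  have := pw_sq
  rw [pow_two] at this
  exact inv_eq_of_mul_eq_one_left this

theorem pd_inv : pd⁻¹ = pd * pd := by
  have := pd_cube
  rw [pow_succ, pow_two] at this
  exact inv_eq_of_mul_eq_one_left this

theorem sameAct_all (hθ₁ : Coord N₁ ε₁ θ₁) (hθ₂ : Coord N₂ ε₂ θ₂) (a : A5) :
    SameAct ε₁ ε₂ θ₁ θ₂ a := by
  have hx : a ∈ Subgroup.closure ({pu, pd, pw} : Set A5) := by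
    rw [closure_udw]; exact Subgroup.mem_top a
  have key : SameAct ε₁ ε₂ θ₁ θ₂ a ∧ SameAct ε₁ ε₂ θ₁ θ₂ a⁻¹ := by
    refine Subgroup.closure_induction
      (p := fun a _ => SameAct ε₁ ε₂ θ₁ θ₂ a ∧ SameAct ε₁ ε₂ θ₁ θ₂ a⁻¹) ?_ ?_ ?_ ?_ hx
    · intro x hx
      simp only [Set.mem_insert_iff, Set.mem_singleton_iff] at hx
      rcases hx with rfl | rfl | rfl
      · refine ⟨sameAct_pu hθ₁ hθ₂, ?_⟩
        rw [pu_inv]; exact sameAct_pu hθ₁ hθ₂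
      · refine ⟨sameAct_pd hθ₁ hθ₂, ?_⟩
        rw [pd_inv]; exact sameAct_mul (sameAct_pd hθ₁ hθ₂) (sameAct_pd hθ₁ hθ₂)
      · refine ⟨sameAct_pw hθ₁ hθ₂, ?_⟩
        rw [pw_inv]; exact sameAct_pw hθ₁ hθ₂
    · refine ⟨sameAct_one, ?_⟩
      rw [inv_one]; exact sameAct_one
    · intro x y _ _ hx hy
      refine ⟨sameAct_mul hx.1 hy.1, ?_⟩
      rw [mul_inv_rev]; exact sameAct_mul hy.2 hx.2
    · intro x _ hx
      refine ⟨hx.2, ?_⟩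
      rw [inv_inv]; exact hx.1
  exact key.1

end key

/-- R7 (core): two `AffData` groups carrying coordinates are isomorphic. -/
theorem affData_unique_of_coord {X₁ : Type u} {X₂ : Type v} [Group X₁] [Group X₂]
    [Finite X₁] [Finite X₂]
    {N₁ : Subgroup X₁} {ε₁ : A5 →* X₁} {N₂ : Subgroup X₂} {ε₂ : A5 →* X₂}
    (h₁ : AffData N₁ ε₁) (h₂ : AffData N₂ ε₂)
    {θ₁ : Multiplicative (Fin 4 → ZMod 2) →* X₁} {θ₂ : Multiplicative (Fin 4 → ZMod 2) →* X₂}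
    (hθ₁ : Coord N₁ ε₁ θ₁) (hθ₂ : Coord N₂ ε₂ θ₂) : Nonempty (X₁ ≃* X₂) := by
  choose F hF using sameAct_all (ε₁ := ε₁) (ε₂ := ε₂) hθ₁ hθ₂
  let E₁ := Equiv.ofBijective _ (dec_bij h₁ hθ₁)
  let E₂ := Equiv.ofBijective _ (dec_bij h₂ hθ₂)
  have hm₁ : ∀ p q : Multiplicative (Fin 4 → ZMod 2) × A5,
      E₁ p * E₁ q = E₁ (p.1 * F p.2 q.1, p.2 * q.2) := by
    rintro ⟨v, a⟩ ⟨w, b⟩
    show θ₁ v * ε₁ a * (θ₁ w * ε₁ b) = θ₁ (v * F a w) * ε₁ (a * b)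
    rw [map_mul, map_mul, ← (hF a w).1]; group
  have hm₂ : ∀ p q : Multiplicative (Fin 4 → ZMod 2) × A5,
      E₂ p * E₂ q = E₂ (p.1 * F p.2 q.1, p.2 * q.2) := by
    rintro ⟨v, a⟩ ⟨w, b⟩
    show θ₂ v * ε₂ a * (θ₂ w * ε₂ b) = θ₂ (v * F a w) * ε₂ (a * b)
    rw [map_mul, map_mul, ← (hF a w).2]; group
  refine ⟨{ toEquiv := E₁.symm.trans E₂, map_mul' := ?_ }⟩
  intro x y
  obtain ⟨p, rfl⟩ := E₁.surjective x
  obtain ⟨q, rfl⟩ := E₁.surjective y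
  simp only [Equiv.toFun_as_coe, Equiv.trans_apply]
  rw [hm₁, Equiv.symm_apply_apply, Equiv.symm_apply_apply, Equiv.symm_apply_apply, hm₂]

end Cfsg.Agent.Lib.Helper1.Cr5
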