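import Mathlib
import Cfsg.Agent.Lib.Helper1.Cr5R7Core
import Cfsg.Agent.Lib.Helper7.Cr5R5
import Cfsg.Agent.Lib.Helper2.Cr5R6

set_option autoImplicit false

/-!
# S3600 piece R7: uniqueness of `N : A₅` with `|N| = 16` (an `AffData` group)
-/

open Cfsg.Agent.Lib.Helper8.C5 Cfsg.Agent.Lib.Helper2.Cr5

universe u v

namespace Cfsg.Agent.Lib.Helper1.Cr5

theorem ne_bot_of_affData {X : Type u} [Group X] {N : Subgroup X} {ε : A5 →* X}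
    (h : AffData N ε) : N ≠ ⊥ := by
  intro hb
  have := h.card
  rw [hb] at this
  simp at this

/-- R7: uniqueness of `N : A₅` with `|N| = 16`. -/
theorem affData_unique {X₁ : Type u} {X₂ : Type v} [Group X₁] [Group X₂] [Finite X₁] [Finite X₂]
    {N₁ : Subgroup X₁} {ε₁ : A5 →* X₁} {N₂ : Subgroup X₂} {ε₂ : A5 →* X₂}
    (h₁ : AffData N₁ ε₁) (h₂ : AffData N₂ ε₂) : Nonempty (X₁ ≃* X₂) := by
  obtain ⟨b₁, hb₁⟩ := Cfsg.Agent.Lib.Helper7.Cr5.exists_basis h₁.toActData (ne_bot_of_affData h₁)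
  obtain ⟨b₂, hb₂⟩ := Cfsg.Agent.Lib.Helper7.Cr5.exists_basis h₂.toActData (ne_bot_of_affData h₂)
  obtain ⟨θ₁, hθ₁⟩ := Cfsg.Agent.Lib.Helper2.Cr5.exists_coord h₁.toActData hb₁
  obtain ⟨θ₂, hθ₂⟩ := Cfsg.Agent.Lib.Helper2.Cr5.exists_coord h₂.toActData hb₂
  exact affData_unique_of_coord h₁ h₂ hθ₁ hθ₂

end Cfsg.Agent.Lib.Helper1.Cr5
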