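import Mathlib
import Cfsg.Prelude.Def_Involutions
import Cfsg.Agent.Lib.Lead.SEElem

/-!
# Simple groups in which commuting is transitive (CT-groups), part 1: the strongly embedded
normaliser of an involution centraliser
-/

set_option autoImplicit false
set_option linter.unusedSimpArgs false
set_option linter.unusedVariables false
set_option linter.unusedSectionVars false
set_option linter.style.longLine false

namespace Cfsg.Agent.Lib.Helper1.CtG

open Cfsg Cfsg.Agent.Lib.Lead Cfsg.Agent.Lib.Lead.SE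

variable {G : Type*} [Group G]

/-- hypotheses: `G` simple non-abelian, commuting transitive on non-identity elements, `t` an
involution -/
structure Hyp (t : G) : Prop where
  ct : ∀ a b c : G, a ≠ 1 → b ≠ 1 → c ≠ 1 → Commute a b → Commute b c → Commute a c
  ht : orderOf t = 2
  simple : IsSimpleGroup G
  nc : ∃ x y : G, x * y ≠ y * x

/-- the centraliser of the involution -/
def cA (t : G) : Subgroup G := Subgroup.centralizer ({t} : Set G)

/-- its normaliser -/
def cH (t : G) : Subgroup G := Subgroup.normalizer ((cA t : Subgroup G) : Set G)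

theorem mem_cA {t a : G} : a ∈ cA t ↔ a * t = t * a := by
  unfold cA
  rw [Subgroup.mem_centralizer_singleton_iff]

theorem t_mem_cA (t : G) : t ∈ cA t := mem_cA.mpr rfl

theorem cA_le_cH (t : G) : cA t ≤ cH t := Subgroup.le_normalizer

namespace Hyp

variable {t : G} (h : Hyp t)
include h

theorem t_ne : t ≠ 1 := invol_ne_one h.ht

/-- the centraliser is abelian -/
theorem comm {a b : G} (ha : a ∈ cA t) (hb : b ∈ cA t) : a * b = b * a := by
  by_cases ha1 : a = 1
  · rw [ha1, one_mul, mul_one]
  by_cases hb1 : b = 1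
  · rw [hb1, one_mul, mul_one]
  exact h.ct a t b ha1 h.t_ne hb1 (mem_cA.mp ha) (mem_cA.mp hb).symm

/-- the centraliser of a non-identity element of `A` is `A` -/
theorem cent_eq {x : G} (hx : x ∈ cA t) (hx1 : x ≠ 1) :
    Subgroup.centralizer ({x} : Set G) = cA t := by
  ext y
  rw [Subgroup.mem_centralizer_singleton_iff]
  constructor
  · intro hy
    by_cases hy1 : y = 1
    · rw [hy1]; exact Subgroup.one_mem _
    exact mem_cA.mpr (h.ct y x t hy1 hx1 h.t_ne hy (mem_cA.mp hx))
  · intro hy
    exact h.comm hy hx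

/-- `A` is a TI-subgroup with normaliser `H` -/
theorem mem_cH_of_conj {x g : G} (hx : x ∈ cA t) (hx1 : x ≠ 1) (hg : g * x * g⁻¹ ∈ cA t) :
    g ∈ cH t := by
  unfold cH
  rw [Subgroup.mem_normalizer_iff]
  intro n
  have hx'1 : g * x * g⁻¹ ≠ 1 := by
    intro h1
    apply hx1
    have : x = g⁻¹ * (g * x * g⁻¹) * g := by group
    rw [this, h1]; group
  have e1 : ∀ m : G, m ∈ cA t ↔ m * x = x * m := fun m => by
    rw [← h.cent_eq hx hx1, Subgroup.mem_centralizer_singleton_iff]
  have e2 : ∀ m : G, m ∈ cA t ↔ m * (g * x * g⁻¹) = (g * x * g⁻¹) * m := fun m => by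
    rw [← h.cent_eq hg hx'1, Subgroup.mem_centralizer_singleton_iff]
  show n ∈ cA t ↔ g * n * g⁻¹ ∈ cA t
  rw [e1 n, e2 (g * n * g⁻¹)]
  constructor
  · intro h1
    calc g * n * g⁻¹ * (g * x * g⁻¹) = g * (n * x) * g⁻¹ := by group
      _ = g * (x * n) * g⁻¹ := by rw [h1]
      _ = g * x * g⁻¹ * (g * n * g⁻¹) := by group
  · intro h1
    calc n * x = g⁻¹ * (g * n * g⁻¹ * (g * x * g⁻¹)) * g := by group
      _ = g⁻¹ * (g * x * g⁻¹ * (g * n * g⁻¹)) * g := by rw [h1]
      _ = x * n := by group

/-- involutions of `H` lie in `A` -/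
theorem invol_mem {s : G} (hs : orderOf s = 2) (hsH : s ∈ cH t) : s ∈ cA t := by
  have ht' : s * t * s⁻¹ ∈ cA t := by
    have := (Subgroup.mem_normalizer_iff.mp hsH) t
    exact this.mp (t_mem_cA t)
  have hsinv : s⁻¹ = s := invol_inv hs
  have hss : s * s = 1 := invol_mul_self hs
  by_cases hw : t * (s * t * s⁻¹) = 1
  · -- then s t s⁻¹ = t
    have h1 : s * t * s⁻¹ = t := by
      have h2 : s * t * s⁻¹ = t⁻¹ := by
        have := congrArg (t⁻¹ * ·) hw
        simpa [mul_assoc] using this
      rw [h2, invol_inv h.ht]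
    apply mem_cA.mpr
    have := congrArg (· * s) h1
    simpa [mul_assoc] using this
  · have hwA : t * (s * t * s⁻¹) ∈ cA t := Subgroup.mul_mem _ (t_mem_cA t) ht'
    rw [← h.cent_eq hwA hw, Subgroup.mem_centralizer_singleton_iff]
    have hc := h.comm (t_mem_cA t) ht'
    rw [hsinv] at hc ⊢
    calc s * (t * (s * t * s)) = (s * t * s) * (s * s) * t * s := by
          rw [hss, mul_one]; group
      _ = (s * t * s) * t * s := by rw [hss, mul_one]
      _ = t * (s * t * s) * s := by rw [← hc]
  
theorem cH_ne_top : cH t ≠ ⊤ := by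
  intro htop
  unfold cH at htop
  rw [Subgroup.normalizer_eq_top_iff] at htop
  haveI := h.simple
  rcases htop.eq_bot_or_eq_top with hb | hb
  · have := t_mem_cA t
    rw [hb, Subgroup.mem_bot] at this
    exact h.t_ne this
  · obtain ⟨x, y, hxy⟩ := h.nc
    apply hxy
    have hx : x ∈ cA t := by rw [hb]; exact Subgroup.mem_top _
    have hy : y ∈ cA t := by rw [hb]; exact Subgroup.mem_top _
    exact h.comm hx hy

variable [Finite G]

/-- `H` is strongly embedded -/
theorem se : IsStronglyEmbedded (cH t) := by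
  have heven : Even (Nat.card (cH t)) :=
    even_card_of_invol_mem (cH t) t h.ht (cA_le_cH t (t_mem_cA t))
  rw [stronglyEmbedded_iff (cH t) h.cH_ne_top heven]
  intro g hg s hs hsH hcon
  apply hg
  have hsA := h.invol_mem hs hsH
  have hs'A := h.invol_mem (by rw [orderOf_conj_eq', hs]) hcon
  have h1 := h.mem_cH_of_conj (g := g⁻¹) hsA (invol_ne_one hs) (by rw [inv_inv]; exact hs'A)
  have := Subgroup.inv_mem _ h1
  rwa [inv_inv] at this

/-- `2`-elements of `H` lie in `A` -/
theorem two_elt_mem {n : G} (hn : n ∈ cH t) (k : ℕ) (hk : orderOf n = 2 ^ k) : n ∈ cA t := by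
  rcases Nat.eq_zero_or_pos k with h0 | h0
  · rw [h0, pow_zero, orderOf_eq_one_iff] at hk
    rw [hk]; exact Subgroup.one_mem _
  · obtain ⟨j, rfl⟩ : ∃ j, k = j + 1 := ⟨k - 1, by omega⟩
    have hi : orderOf (n ^ 2 ^ j) = 2 := by
      rw [orderOf_pow' n (by positivity), hk, Nat.gcd_eq_right (pow_dvd_pow 2 (by omega)),
        pow_succ, Nat.mul_div_cancel_left _ (by positivity)]
    have hiH : n ^ 2 ^ j ∈ cH t := Subgroup.pow_mem _ hn _
    have hiA := h.invol_mem hi hiH
    rw [← h.cent_eq hiA (invol_ne_one hi), Subgroup.mem_centralizer_singleton_iff]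
    exact (Commute.pow_right (Commute.refl n) _).eq

end Hyp

end Cfsg.Agent.Lib.Helper1.CtG
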