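import Mathlib
import Cfsg.Agent.Lib.Helper1.CtG1

/-!
# Simple CT-groups, part 2: the action on the cosets of the strongly embedded subgroup
-/

set_option autoImplicit false
set_option linter.unusedSimpArgs false
set_option linter.unusedVariables false
set_option linter.unusedSectionVars false
set_option linter.style.longLine false

namespace Cfsg.Agent.Lib.Helper1.CtG

open Cfsg Cfsg.Agent.Lib.Lead Cfsg.Agent.Lib.Lead.SE

variable {G : Type*} [Group G]

/-- powers of an inverting element -/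
theorem pow_inverts' {a d : G} (hinv : a * d * a⁻¹ = d⁻¹) {e : ℕ} (he : Odd e) :
    a ^ e * d * (a ^ e)⁻¹ = d⁻¹ := by
  obtain ⟨j, rfl⟩ := he
  have h2 : a ^ 2 * d⁻¹ = d⁻¹ * a ^ 2 := by
    have : a * d⁻¹ * a⁻¹ = d := by
      have := congrArg (·⁻¹) hinv
      simp only [mul_inv_rev, inv_inv] at this
      rw [← mul_assoc] at this
      exact this
    calc a ^ 2 * d⁻¹ = a * (a * d⁻¹ * a⁻¹) * a := by rw [pow_two]; group
      _ = a * d * a := by rw [this]
      _ = (a * d * a⁻¹) * a ^ 2 := by rw [pow_two]; group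
      _ = d⁻¹ * a ^ 2 := by rw [hinv]
  have h3 : (a ^ 2) ^ j * d⁻¹ = d⁻¹ * (a ^ 2) ^ j := (Commute.pow_left h2 j)
  calc a ^ (2 * j + 1) * d * (a ^ (2 * j + 1))⁻¹
      = (a ^ 2) ^ j * (a * d * a⁻¹) * ((a ^ 2) ^ j)⁻¹ := by
        rw [pow_succ, pow_mul]; group
    _ = (a ^ 2) ^ j * d⁻¹ * ((a ^ 2) ^ j)⁻¹ := by rw [hinv]
    _ = d⁻¹ := by rw [h3]; group

variable [Finite G]

/-- the number of involutions of `H` -/
noncomputable def nf (t : G) : ℕ := Nat.card {s : G // orderOf s = 2 ∧ s ∈ cH t}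

namespace Hyp

variable {t : G} (h : Hyp t)
include h

local notation "HH" => cH t
local notation "x0" => ((1 : G) : G ⧸ cH t)

omit [Finite G] in
theorem smul_x0_iff {g : G} : g • x0 = x0 ↔ g ∈ HH := by
  rw [smul_mk_eq_iff]
  simp

omit [Finite G] in
theorem stab_x0 : MulAction.stabilizer G x0 = HH := by
  ext g
  rw [MulAction.mem_stabilizer_iff]
  exact h.smul_x0_iff

omit [Finite G] in
theorem t_mem_cH : t ∈ HH := cA_le_cH t (t_mem_cA t)

theorem nf_pos : 0 < nf t :=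
  Nat.card_pos_iff.mpr ⟨⟨⟨t, h.ht, h.t_mem_cH⟩⟩, inferInstance⟩

theorem exists_swap {x y : G ⧸ HH} (hxy : x ≠ y) : ∃ u : G, orderOf u = 2 ∧ u • x = y := by
  have h1 := card_swap h.se hxy
  have hpos : 0 < Nat.card {i : G // orderOf i = 2 ∧ i • x = y} := by
    rw [h1]
    exact h.nf_pos
  obtain ⟨⟨u, hu, hux⟩⟩ := (Nat.card_pos_iff.mp hpos).1
  exact ⟨u, hu, hux⟩

/-- the non-identity elements of `A` fix only the base point -/
theorem fix_A {a : G} (ha : a ∈ cA t) (ha1 : a ≠ 1) {y : G ⧸ HH} (hy : a • y = y) : y = x0 := by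
  by_contra hne
  obtain ⟨u, hu, hux⟩ := h.exists_swap (Ne.symm hne)
  have huinv : u⁻¹ = u := invol_inv hu
  have huy : u • y = x0 := by rw [← hux, ← mul_smul, invol_mul_self hu, one_smul]
  have huH : u ∉ HH := by
    intro hc
    apply hne
    rw [← hux]
    exact h.smul_x0_iff.mpr hc
  obtain ⟨a', ha'⟩ : ∃ a' : G, a' = u * a * u⁻¹ := ⟨_, rfl⟩
  have ha'H : a' ∈ HH := by
    rw [← h.smul_x0_iff, ha', mul_smul, mul_smul, huinv, hux, hy, huy]
  have e1 : u⁻¹ * a * u = a' := by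
    rw [ha', huinv]
  have hcA : a * a' * a⁻¹ * a'⁻¹ ∈ cA t := by
    have h1 : a' * a⁻¹ * a'⁻¹ ∈ cA t :=
      (Subgroup.mem_normalizer_iff.mp ha'H a⁻¹).mp (Subgroup.inv_mem _ ha)
    have : a * a' * a⁻¹ * a'⁻¹ = a * (a' * a⁻¹ * a'⁻¹) := by group
    rw [this]
    exact Subgroup.mul_mem _ ha h1
  have hconj : u⁻¹ * (a * a' * a⁻¹ * a'⁻¹) * u⁻¹⁻¹ = (a * a' * a⁻¹ * a'⁻¹)⁻¹ := by
    have e2 : u⁻¹ * a' * u = a := by
      rw [ha']; group
    calc u⁻¹ * (a * a' * a⁻¹ * a'⁻¹) * u⁻¹⁻¹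
        = (u⁻¹ * a * u) * (u⁻¹ * a' * u) * (u⁻¹ * a * u)⁻¹ * (u⁻¹ * a' * u)⁻¹ := by group
      _ = a' * a * a'⁻¹ * a⁻¹ := by rw [e1, e2]
      _ = (a * a' * a⁻¹ * a'⁻¹)⁻¹ := by group
  by_cases hc1 : a * a' * a⁻¹ * a'⁻¹ = 1
  · have hcomm : a' * a = a * a' := by
      have := congrArg (· * (a' * a)) hc1
      simp only [one_mul] at this
      rw [← this]; group
    have ha'A : a' ∈ cA t := by
      rw [← h.cent_eq ha ha1, Subgroup.mem_centralizer_singleton_iff]
      exact hcomm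
    exact huH (h.mem_cH_of_conj ha ha1 (g := u) (by rw [← ha']; exact ha'A))
  · have h2 := h.mem_cH_of_conj hcA hc1 (g := u⁻¹) (by rw [hconj]; exact Subgroup.inv_mem _ hcA)
    have := Subgroup.inv_mem _ h2
    rw [inv_inv] at this
    exact huH this

theorem cA_inf_two_point {y : G ⧸ HH} (hy : x0 ≠ y) :
    (Subgroup.centralizer ({t} : Set G) ⊓
      (MulAction.stabilizer G y ⊓ MulAction.stabilizer G x0) : Subgroup G) = ⊥ := by
  rw [eq_bot_iff]
  intro c hc
  obtain ⟨hcA, hcD⟩ := Subgroup.mem_inf.mp hc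
  obtain ⟨hcy, hcx⟩ := Subgroup.mem_inf.mp hcD
  rw [Subgroup.mem_bot]
  by_contra hc1
  exact hy (h.fix_A (show c ∈ cA t from hcA) hc1 (MulAction.mem_stabilizer_iff.mp hcy)).symm

theorem cA_two_point_eq_one {y : G ⧸ HH} (hy : x0 ≠ y) {c : G} (hc : c ∈ cA t)
    (hcD : c ∈ (MulAction.stabilizer G y ⊓ MulAction.stabilizer G x0 : Subgroup G)) : c = 1 := by
  have : c ∈ (Subgroup.centralizer ({t} : Set G) ⊓
      (MulAction.stabilizer G y ⊓ MulAction.stabilizer G x0) : Subgroup G) :=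
    Subgroup.mem_inf.mpr ⟨hc, hcD⟩
  rw [h.cA_inf_two_point hy, Subgroup.mem_bot] at this
  exact this

/-- the two point stabilizers have order `f` -/
theorem card_two_point {y : G ⧸ HH} (hy : x0 ≠ y) :
    Nat.card (MulAction.stabilizer G y ⊓ MulAction.stabilizer G x0 : Subgroup G) = nf t := by
  have htx : t • x0 = x0 := h.smul_x0_iff.mpr h.t_mem_cH
  have h1 := card_conjOrbit_mul
    (MulAction.stabilizer G y ⊓ MulAction.stabilizer G x0 : Subgroup G) t
  rw [card_orbit_eq h.se hy h.ht htx, h.cA_inf_two_point hy, Subgroup.card_bot, mul_one] at h1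
  exact h1.symm

/-- an involution swapping two points inverts their stabilizer -/
theorem inverts {y : G ⧸ HH} (hy : x0 ≠ y) {u : G} (hu : orderOf u = 2) (hux : u • x0 = y) {d : G}
    (hd : d ∈ (MulAction.stabilizer G y ⊓ MulAction.stabilizer G x0 : Subgroup G)) :
    u * d * u⁻¹ = d⁻¹ := by
  have h1 := card_inverted h.se hy hu hux
  have h1' : Nat.card {d : G // d ∈ (MulAction.stabilizer G y ⊓ MulAction.stabilizer G x0 :
      Subgroup G) ∧ u * d * u⁻¹ = d⁻¹} =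
      Nat.card (MulAction.stabilizer G y ⊓ MulAction.stabilizer G x0 : Subgroup G) := by
    rw [h1, h.card_two_point hy]
    rfl
  let f : {d : G // d ∈ (MulAction.stabilizer G y ⊓ MulAction.stabilizer G x0 : Subgroup G) ∧
      u * d * u⁻¹ = d⁻¹} → (MulAction.stabilizer G y ⊓ MulAction.stabilizer G x0 : Subgroup G) :=
    fun d => ⟨d.1, d.2.1⟩
  have hinj : Function.Injective f := fun a b hab => Subtype.ext (congrArg
    (fun z : (MulAction.stabilizer G y ⊓ MulAction.stabilizer G x0 : Subgroup G) => z.1) hab)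
  have hbij := hinj.bijective_of_nat_card_le (le_of_eq h1'.symm)
  obtain ⟨e, he⟩ := hbij.2 ⟨d, hd⟩
  have : e.1 = d := congrArg Subtype.val he
  rw [← this]
  exact e.2.2

/-- two point stabilizers are commutative -/
theorem two_point_comm {y : G ⧸ HH} (hy : x0 ≠ y) {a b : G}
    (ha : a ∈ (MulAction.stabilizer G y ⊓ MulAction.stabilizer G x0 : Subgroup G))
    (hb : b ∈ (MulAction.stabilizer G y ⊓ MulAction.stabilizer G x0 : Subgroup G)) :
    a * b = b * a := by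
  obtain ⟨u, hu, hux⟩ := h.exists_swap hy
  have h1 := h.inverts hy hu hux ha
  have h2 := h.inverts hy hu hux hb
  have h3 := h.inverts hy hu hux (Subgroup.mul_mem _ ha hb)
  have h4 : u * (a * b) * u⁻¹ = (u * a * u⁻¹) * (u * b * u⁻¹) := by group
  rw [h3, h1, h2, mul_inv_rev] at h4
  have := congrArg (·⁻¹) h4
  simpa using this

theorem exists_second_point : ∃ y : G ⧸ HH, x0 ≠ y := by
  obtain ⟨g, hg⟩ : ∃ g : G, g ∉ HH := by
    by_contra hall
    push Not at hall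
    exact h.cH_ne_top (eq_top_iff.mpr fun g _ => hall g)
  refine ⟨((g : G) : G ⧸ HH), ?_⟩
  intro he
  rw [QuotientGroup.eq] at he
  apply hg
  simpa using he

/-- the order of `H` -/
theorem card_cH : Nat.card (cH t) = Nat.card (cA t) * nf t := by
  have h1 := card_conjOrbit_mul (cH t) t
  have hcen : (Subgroup.centralizer ({t} : Set G) ⊓ cH t : Subgroup G) = cA t :=
    inf_eq_left.mpr (cA_le_cH t)
  obtain ⟨y, hy⟩ := h.exists_second_point
  have hsx : t • x0 = x0 := h.smul_x0_iff.mpr h.t_mem_cH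
  have horb : Nat.card {b : G // ∃ d ∈ cH t, d * t * d⁻¹ = b} = nf t := by
    unfold nf
    apply Nat.card_congr
    refine Equiv.subtypeEquivRight ?_
    intro b
    constructor
    · rintro ⟨d, hd, rfl⟩
      refine ⟨by rw [orderOf_conj_eq, h.ht], ?_⟩
      exact Subgroup.mul_mem _ (Subgroup.mul_mem _ hd h.t_mem_cH) (Subgroup.inv_mem _ hd)
    · rintro ⟨hb, hbH⟩
      have hbx : b • x0 = x0 := h.smul_x0_iff.mpr hbH
      obtain ⟨d, hd, hdb⟩ := exists_conj_in_inf h.se hy h.ht hb hsx hbx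
      refine ⟨d, ?_, hdb⟩
      have := (Subgroup.mem_inf.mp hd).2
      rwa [h.stab_x0] at this
  rw [horb, hcen] at h1
  rw [← h1, mul_comm]

/-- no element of `H` inverts a nontrivial odd order element of `H` -/
theorem eq_one_of_inverted {a d : G} (ha : a ∈ HH) (hd : d ∈ HH) (hodd : Odd (orderOf d))
    (hinv : a * d * a⁻¹ = d⁻¹) : d = 1 := by
  obtain ⟨k, e, he, hke⟩ := Nat.exists_eq_two_pow_mul_odd (orderOf_pos a).ne'
  have hinv' := pow_inverts' hinv he
  have hord : orderOf (a ^ e) = 2 ^ k := by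
    rw [orderOf_pow' a he.pos.ne', hke, Nat.gcd_eq_right (dvd_mul_left e (2 ^ k))]
    exact Nat.mul_div_cancel _ he.pos
  have haA : a ^ e ∈ cA t := h.two_elt_mem (pow_mem ha e) k hord
  have h1 : a ^ e * (d * (a ^ e)⁻¹ * d⁻¹) ∈ cA t := by
    apply Subgroup.mul_mem _ haA
    exact ((Subgroup.mem_normalizer_iff.mp hd) ((a ^ e)⁻¹)).mp (Subgroup.inv_mem _ haA)
  have h2 : a ^ e * (d * (a ^ e)⁻¹ * d⁻¹) = d⁻¹ * d⁻¹ := by
    calc a ^ e * (d * (a ^ e)⁻¹ * d⁻¹) = (a ^ e * d * (a ^ e)⁻¹) * d⁻¹ := by group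
      _ = d⁻¹ * d⁻¹ := by rw [hinv']
  rw [h2] at h1
  have hd2 : d ^ 2 ∈ cA t := by
    have := Subgroup.inv_mem _ h1
    have e : (d⁻¹ * d⁻¹)⁻¹ = d ^ 2 := by group
    rwa [e] at this
  have hdA : d ∈ cA t := by
    obtain ⟨m, hm⟩ := hodd
    have e : d = (d ^ 2) ^ (m + 1) := by
      rw [← pow_mul, show 2 * (m + 1) = orderOf d + 1 by omega, pow_succ, pow_orderOf_eq_one,
        one_mul]
    rw [e]
    exact Subgroup.pow_mem _ hd2 _
  have hc := h.comm haA hdA
  have h3 : d = d⁻¹ := by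
    rw [← hinv', hc]; group
  have h4 : d ^ 2 = 1 := by
    rw [pow_two]
    nth_rewrite 2 [h3]
    exact mul_inv_cancel d
  have h5 : orderOf d ∣ 2 := orderOf_dvd_of_pow_eq_one h4
  have h6 : orderOf d = 1 := Nat.eq_one_of_dvd_coprimes hodd.coprime_two_right dvd_rfl h5
  exact orderOf_eq_one_iff.mp h6

end Hyp

end Cfsg.Agent.Lib.Helper1.CtG
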