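import Mathlib
import Cfsg.Prelude
import Cfsg.Agent.Lib.Helper1.CtG3
import Cfsg.Agent.S0885

/-!
# Simple CT-groups, part 4: the Zassenhaus structure and Feit's inequality
-/

set_option autoImplicit false
set_option linter.unusedSimpArgs false
set_option linter.unusedVariables false
set_option linter.unusedSectionVars false
set_option linter.style.longLine false

namespace Cfsg.Agent.Lib.Helper1.CtG

open Cfsg Cfsg.Agent.Lib.Lead Cfsg.Agent.Lib.Lead.SE

variable {G : Type*} [Group G] [Finite G]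

namespace Hyp

variable {t : G} (h : Hyp t)
include h

local notation "HH" => cH t
local notation "x0" => ((1 : G) : G ⧸ cH t)

theorem exists_smul_x0 (a : G ⧸ HH) : ∃ k : G, k • a = x0 := by
  obtain ⟨g, rfl⟩ := QuotientGroup.mk_surjective a
  refine ⟨g⁻¹, ?_⟩
  show ((g⁻¹ * g : G) : G ⧸ HH) = x0
  rw [inv_mul_cancel]

/-- no non-identity element fixes three points -/
theorem three_point {a b c : G ⧸ HH} (hab : a ≠ b) (hbc : b ≠ c) (hac : a ≠ c) {g : G}
    (hga : g • a = a) (hgb : g • b = b) (hgc : g • c = c) : g = 1 := by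
  obtain ⟨k, hk⟩ := h.exists_smul_x0 a
  have h1 : (k * g * k⁻¹) • x0 = x0 := by
    rw [← hk, ← mul_smul, inv_mul_cancel_right, mul_smul, hga]
  have h2 : (k * g * k⁻¹) • (k • b) = k • b := by
    rw [← mul_smul, inv_mul_cancel_right, mul_smul, hgb]
  have h3 : (k * g * k⁻¹) • (k • c) = k • c := by
    rw [← mul_smul, inv_mul_cancel_right, mul_smul, hgc]
  have hb : x0 ≠ k • b := by
    rw [← hk]
    intro he
    exact hab (smul_left_cancel k he)
  have hc : x0 ≠ k • c := by
    rw [← hk]
    intro he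
    exact hac (smul_left_cancel k he)
  have hbc' : k • b ≠ k • c := fun he => hbc (smul_left_cancel k he)
  have h4 := h.three_point_base hb hc hbc' h1 h2 h3
  have : g = k⁻¹ * (k * g * k⁻¹) * k := by group
  rw [this, h4]; group

/-- double transitivity -/
theorem two_trans : MulAction.IsMultiplyPretransitive G (G ⧸ HH) 2 := by
  rw [MulAction.is_two_pretransitive_iff]
  intro a b c d hab hcd
  obtain ⟨k1, hk1⟩ := h.exists_smul_x0 a
  obtain ⟨k2, hk2⟩ := h.exists_smul_x0 c
  have hb : x0 ≠ k1 • b := by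
    rw [← hk1]
    intro he
    exact hab (smul_left_cancel k1 he)
  have hd : x0 ≠ k2 • d := by
    rw [← hk2]
    intro he
    exact hcd (smul_left_cancel k2 he)
  obtain ⟨m, hmA, hm⟩ := h.transitive_A hb hd
  have hmx : m • x0 = x0 := h.smul_x0_iff.mpr (cA_le_cH t hmA)
  refine ⟨k2⁻¹ * m * k1, ?_, ?_⟩
  · rw [mul_smul, mul_smul, hk1, hmx, ← hk2, ← mul_smul, inv_mul_cancel, one_smul]
  · rw [mul_smul, mul_smul, hm, ← mul_smul, inv_mul_cancel, one_smul]

/-- three distinct points -/
theorem exists_three : ∃ y z : G ⧸ HH, x0 ≠ y ∧ x0 ≠ z ∧ y ≠ z := by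
  obtain ⟨y, hy⟩ := h.exists_second_point
  have htx : t • x0 = x0 := h.smul_x0_iff.mpr h.t_mem_cH
  refine ⟨y, t • y, hy, ?_, ?_⟩
  · intro he
    rw [← htx] at he
    exact hy (smul_left_cancel t he)
  · intro he
    exact hy (h.fix_A (t_mem_cA t) h.t_ne he.symm).symm

/-- two point stabilizers have odd order -/
theorem odd_nf : Odd (nf t) := by
  obtain ⟨y, hy⟩ := h.exists_second_point
  rw [← h.card_two_point hy, ← Nat.not_even_iff_odd]
  intro he
  haveI : Fact (Nat.Prime 2) := ⟨Nat.prime_two⟩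
  obtain ⟨d, hd⟩ := exists_prime_orderOf_dvd_card' 2 (even_iff_two_dvd.mp he)
  have hd2 : orderOf (d : G) = 2 := by rw [Subgroup.orderOf_coe]; exact hd
  have hodd : Odd (orderOf (d : G)) :=
    odd_orderOf_of_fix h.se hy (MulAction.mem_stabilizer_iff.mp (Subgroup.mem_inf.mp d.2).2)
      (MulAction.mem_stabilizer_iff.mp (Subgroup.mem_inf.mp d.2).1)
  rw [hd2] at hodd
  exact absurd hodd (by decide)

/-- the group is a Zassenhaus group on the cosets of `H` -/
theorem isZassenhaus : Cfsg.IsZassenhausGroup G (G ⧸ HH) := by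
  obtain ⟨y, z, hy, hz, hyz⟩ := h.exists_three
  refine ⟨⟨?_⟩, h.two_trans, ?_, ?_, ?_⟩
  · intro g g' hgg
    have h1 : g'⁻¹ * g = 1 := by
      apply h.three_point hy hyz hz
      · rw [mul_smul, hgg, ← mul_smul, inv_mul_cancel, one_smul]
      · rw [mul_smul, hgg, ← mul_smul, inv_mul_cancel, one_smul]
      · rw [mul_smul, hgg, ← mul_smul, inv_mul_cancel, one_smul]
    have := congrArg (g' * ·) h1
    simpa using this
  · intro g a b c hab hbc hac hga hgb hgc
    exact h.three_point hab hbc hac hga hgb hgc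
  · have hcard := h.card_two_point hy
    have hne : (MulAction.stabilizer G y ⊓ MulAction.stabilizer G x0 : Subgroup G) ≠ ⊥ := by
      intro hb
      rw [hb, Subgroup.card_bot] at hcard
      exact h.nf_ne_one hcard.symm
    obtain ⟨d, hd1⟩ := (Subgroup.ne_bot_iff_exists_ne_one).mp hne
    refine ⟨(d : G), fun he => hd1 (Subtype.ext he), x0, y, hy, ?_, ?_⟩
    · exact MulAction.mem_stabilizer_iff.mp (Subgroup.mem_inf.mp d.2).2
    · exact MulAction.mem_stabilizer_iff.mp (Subgroup.mem_inf.mp d.2).1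
  · intro N hN hNt
    haveI := h.simple
    refine ⟨x0, ?_⟩
    rcases hN.eq_bot_or_eq_top with hb | hb
    · exfalso
      obtain ⟨n, hn⟩ := hNt.exists_smul_eq x0 y
      have hn1 : (n : G) = 1 := by
        have hle : N ≤ ⊥ := le_of_eq hb
        exact Subgroup.mem_bot.mp (hle n.2)
      have : (n : G) • x0 = y := hn
      rw [hn1, one_smul] at this
      exact hy this
    · intro hbot
      have htN : t ∈ N := by rw [hb]; exact Subgroup.mem_top _
      have hmem : (⟨t, htN⟩ : N) ∈ MulAction.stabilizer N x0 := by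
        rw [MulAction.mem_stabilizer_iff]
        exact h.smul_x0_iff.mpr h.t_mem_cH
      have h7 := (Subgroup.eq_bot_iff_forall _).mp hbot ⟨t, htN⟩ hmem
      exact h.t_ne (congrArg Subtype.val h7)

/-- Feit's inequality for our group -/
theorem feit_ineq : Nat.card (cA t) - 1 ≤ 2 * nf t := by
  classical
  haveI : Fintype (G ⧸ HH) := Fintype.ofFinite _
  obtain ⟨y, hy⟩ := h.exists_second_point
  have hcardΩ : Fintype.card (G ⧸ HH) = Nat.card (cA t) + 1 := by
    rw [← Nat.card_eq_fintype_card, h.card_points]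
  have he : Nat.card ↥(MulAction.stabilizer G x0 ⊓ MulAction.stabilizer G y : Subgroup G) = nf t := by
    rw [inf_comm]
    exact h.card_two_point hy
  have hHa : cA t ≤ MulAction.stabilizer G x0 := by
    rw [h.stab_x0]
    exact cA_le_cH t
  rcases Cfsg.Agent.S0885.result h.isZassenhaus hy (Nat.card (cA t)) (nf t) hcardΩ he h.odd_nf
    (cA t) hHa hcardΩ.symm (fun u hu hu1 c hc => h.fix_A hu hu1 hc) with h1 | ⟨-, ⟨u, v, huv⟩, -⟩
  · exact h1
  · exact absurd (Subtype.ext (h.comm u.2 v.2)) huv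

/-- the subgroup of elements of order at most two of `A` -/
def omega1 : Subgroup G where
  carrier := {a | a ∈ cA t ∧ a * a = 1}
  one_mem' := ⟨Subgroup.one_mem _, mul_one 1⟩
  mul_mem' := by
    rintro a b ⟨ha, ha2⟩ ⟨hb, hb2⟩
    refine ⟨Subgroup.mul_mem _ ha hb, ?_⟩
    have hc := h.comm ha hb
    calc a * b * (a * b) = a * (b * a) * b := by group
      _ = a * (a * b) * b := by rw [hc]
      _ = (a * a) * (b * b) := by group
      _ = 1 := by rw [ha2, hb2, mul_one]
  inv_mem' := by
    rintro a ⟨ha, ha2⟩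
    refine ⟨Subgroup.inv_mem _ ha, ?_⟩
    have : a⁻¹ = a := inv_eq_of_mul_eq_one_right ha2
    rw [this, ha2]

theorem mem_omega1 {a : G} : a ∈ h.omega1 ↔ a ∈ cA t ∧ a * a = 1 := Iff.rfl

theorem omega1_le : h.omega1 ≤ cA t := fun a ha => ha.1

theorem card_omega1 : Nat.card (h.omega1) = nf t + 1 := by
  classical
  have e : {s : G // orderOf s = 2 ∧ s ∈ cH t} ≃ {a : h.omega1 // a ≠ 1} :=
    { toFun := fun s => ⟨⟨s.1, h.invol_mem s.2.1 s.2.2, invol_mul_self s.2.1⟩, fun h1 =>
        invol_ne_one s.2.1 (congrArg Subtype.val h1)⟩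
      invFun := fun a => ⟨a.1.1, invol_of_mul_self (fun h1 => a.2 (Subtype.ext h1)) a.1.2.2,
        cA_le_cH t a.1.2.1⟩
      left_inv := fun s => rfl
      right_inv := fun a => rfl }
  have h1 : nf t = Nat.card {a : h.omega1 // a ≠ 1} := Nat.card_congr e
  haveI : Fintype (h.omega1) := Fintype.ofFinite _
  have h2 : Nat.card {a : h.omega1 // a ≠ 1} = Fintype.card h.omega1 - 1 := by
    rw [Nat.card_eq_fintype_card, Fintype.card_subtype_compl]
    simp only [Fintype.card_subtype_eq]
  have : 0 < Fintype.card (h.omega1) := Fintype.card_pos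
  rw [h1, h2, Nat.card_eq_fintype_card]
  omega

/-- `A` is an elementary abelian `2`-group with `|A| = f + 1` -/
theorem card_cA : Nat.card (cA t) = nf t + 1 := by
  have h1 := Subgroup.card_dvd_of_le h.omega1_le
  rw [h.card_omega1] at h1
  obtain ⟨j, hj⟩ := h1
  have h2 := h.feit_ineq
  have hpos : 0 < Nat.card (cA t) := Nat.card_pos
  rcases Nat.lt_or_ge j 2 with hj2 | hj2
  · interval_cases j
    · omega
    · omega
  · exfalso
    have : (nf t + 1) * 2 ≤ (nf t + 1) * j := Nat.mul_le_mul_left _ hj2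
    omega

theorem sq_eq_one {a : G} (ha : a ∈ cA t) : a * a = 1 := by
  have heq : h.omega1 = cA t := Subgroup.eq_of_le_of_card_ge h.omega1_le (by
    rw [h.card_omega1, h.card_cA])
  rw [← heq] at ha
  exact ha.2

theorem three_le_card_cA : 3 ≤ Nat.card (cA t) := by
  rw [h.card_cA]
  have := h.nf_pos
  have := h.nf_ne_one
  omega

end Hyp

end Cfsg.Agent.Lib.Helper1.CtG
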