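import Mathlib
import Cfsg.Prelude
import Cfsg.Agent.Lib.Helper1.CtG4
import Cfsg.Agent.S1230
import Cfsg.Agent.S0182
import Cfsg.Agent.Lib.Helper4.SL2CT
import Cfsg.Agent.Lib.Helper4.GL52b

/-!
# Simple CT-groups, part 5: identification with `PSL₂(2^f)` and the converse
-/

set_option autoImplicit false
set_option linter.unusedSimpArgs false
set_option linter.unusedVariables false
set_option linter.unusedSectionVars false
set_option linter.style.longLine false

namespace Cfsg.Agent.Lib.Helper1.CtG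

open Cfsg Cfsg.Agent.Lib.Lead Cfsg.Agent.Lib.Lead.SE

section Forward

variable {G : Type*} [Group G] [Finite G]

/-- a non-commutative simple group is not solvable -/
theorem not_solvable_of_simple_nc [IsSimpleGroup G] (hnc : ∃ x y : G, x * y ≠ y * x) :
    ¬ Group.IsSolvable G := by
  intro hs
  obtain ⟨x, y, hxy⟩ := hnc
  exact hxy ((IsSimpleGroup.comm_iff_isSolvable.mpr hs) x y)

/-- the even-order case -/
theorem psl_of_ct_even [IsSimpleGroup G] (hnc : ∃ x y : G, x * y ≠ y * x)
    (hct : ∀ a b c : G, a ≠ 1 → b ≠ 1 → c ≠ 1 → Commute a b → Commute b c → Commute a c)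
    (heven : Even (Nat.card G)) :
    ∃ (F : Type) (_ : Field F) (_ : Fintype F) (f : ℕ), 2 ≤ f ∧ Fintype.card F = 2 ^ f ∧
      Nonempty (G ≃* Matrix.ProjectiveSpecialLinearGroup (Fin 2) F) := by
  classical
  haveI : Fact (Nat.Prime 2) := ⟨Nat.prime_two⟩
  obtain ⟨t, ht⟩ := exists_prime_orderOf_dvd_card' (G := G) 2 heven.two_dvd
  have hyp : ∀ s : G, orderOf s = 2 → Hyp s := fun s hs => ⟨hct, hs, inferInstance, hnc⟩
  have h := hyp t ht
  -- the centraliser is a 2-group
  have hpA : IsPGroup 2 (cA t) := by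
    intro a
    refine ⟨1, ?_⟩
    apply Subtype.ext
    rw [pow_one, Subgroup.coe_pow, Subgroup.coe_one, pow_two]
    exact h.sq_eq_one a.2
  obtain ⟨T, hT⟩ := hpA.exists_le_sylow
  have hC : ∀ s : G, orderOf s = 2 →
      IsMulCommutative (Subgroup.centralizer ({s} : Set G)) ∧
        ∀ c ∈ Subgroup.centralizer ({s} : Set G), c ^ 2 = 1 := by
    intro s hs
    refine ⟨⟨⟨fun a b => Subtype.ext ((hyp s hs).comm a.2 b.2)⟩⟩, fun c hc => ?_⟩
    rw [pow_two]
    exact (hyp s hs).sq_eq_one hc
  have h3 : 3 ≤ Nat.card (cA t) := h.three_le_card_cA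
  have hAT : Nat.card (cA t) ≤ Nat.card (T : Subgroup G) :=
    Nat.le_of_dvd Nat.card_pos (Subgroup.card_dvd_of_le hT)
  have hnc' : ¬ IsCyclic (T : Subgroup G) := by
    intro hcyc
    haveI := hcyc
    haveI : IsCyclic ((cA t).subgroupOf (T : Subgroup G)) := Subgroup.isCyclic _
    have e := Subgroup.subgroupOfEquivOfLe hT
    haveI : IsCyclic (cA t) := isCyclic_of_surjective e.toMonoidHom e.surjective
    obtain ⟨g, hg⟩ := IsCyclic.exists_generator (α := cA t)
    have hord : orderOf g = Nat.card (cA t) := orderOf_eq_card_of_forall_mem_zpowers hg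
    have hg2 : g ^ 2 = 1 := by
      apply Subtype.ext
      rw [Subgroup.coe_pow, Subgroup.coe_one, pow_two]
      exact h.sq_eq_one g.2
    have := orderOf_le_of_pow_eq_one (by norm_num) hg2
    omega
  have hnn : ¬ (T : Subgroup G).Normal := by
    intro hn
    rcases hn.eq_bot_or_eq_top with hb | htop
    · have : t ∈ (T : Subgroup G) := hT (t_mem_cA t)
      rw [hb, Subgroup.mem_bot] at this
      exact h.t_ne this
    · have hpG : IsPGroup 2 G := by
        have := T.isPGroup'
        rw [htop] at this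
        exact IsPGroup.of_equiv this Subgroup.topEquiv
      haveI : Group.IsNilpotent G := hpG.isNilpotent
      exact not_solvable_of_simple_nc hnc inferInstance
  obtain ⟨F, iF, iFt, hcard, hiso⟩ := Cfsg.Agent.S1230.result T hnc' hnn hC
  obtain ⟨k, hk⟩ := IsPGroup.iff_card.mp T.isPGroup'
  have hk' : Nat.card (T : Subgroup G) = 2 ^ k := hk
  refine ⟨F, iF, iFt, k, ?_, ?_, hiso⟩
  · by_contra hlt
    have hk1 : k ≤ 1 := by omega
    have : 2 ^ k ≤ 2 ^ 1 := Nat.pow_le_pow_right (by norm_num) hk1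
    omega
  · rw [hcard]
    exact hk'

/-- the odd-order case is impossible -/
theorem not_odd_of_ct [IsSimpleGroup G] (hnc : ∃ x y : G, x * y ≠ y * x)
    (hct : ∀ a b c : G, a ≠ 1 → b ≠ 1 → c ≠ 1 → Commute a b → Commute b c → Commute a c)
    (hodd : Odd (Nat.card G)) : False := by
  apply not_solvable_of_simple_nc hnc
  apply Cfsg.Agent.S0182.result hodd
  intro x hx a ha b hb
  rw [Subgroup.mem_centralizer_singleton_iff] at ha hb
  by_cases ha1 : a = 1
  · rw [ha1, one_mul, mul_one]
  by_cases hb1 : b = 1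
  · rw [hb1, one_mul, mul_one]
  have h1 : Commute a x := ha
  have h2 : Commute x b := hb.symm
  exact hct a x b ha1 hx hb1 h1 h2

theorem psl_of_ct [IsSimpleGroup G] (hnc : ∃ x y : G, x * y ≠ y * x)
    (hct : ∀ a b c : G, a ≠ 1 → b ≠ 1 → c ≠ 1 → Commute a b → Commute b c → Commute a c) :
    ∃ (F : Type) (_ : Field F) (_ : Fintype F) (f : ℕ), 2 ≤ f ∧ Fintype.card F = 2 ^ f ∧
      Nonempty (G ≃* Matrix.ProjectiveSpecialLinearGroup (Fin 2) F) := by
  rcases Nat.even_or_odd (Nat.card G) with he | ho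
  · exact psl_of_ct_even hnc hct he
  · exact (not_odd_of_ct hnc hct ho).elim

end Forward

section Converse

open Matrix Cfsg.Agent.Lib.Helper4 Cfsg.Agent.Lib.Helper4.SL2Tr Cfsg.Agent.Lib.Helper4.SL2Ord
  Cfsg.Agent.Lib.Helper4.SL2Cov Cfsg.Agent.Lib.Helper4.SL2AH Cfsg.Agent.Lib.Helper4.SL2ABA
  Cfsg.Agent.Lib.Helper4.SL2CT

variable {F : Type*} [Field F] [Fintype F] [DecidableEq F] [CharP F 2]

local notation "SL2" => Matrix.SpecialLinearGroup (Fin 2) F
local notation "PSL2" => Matrix.ProjectiveSpecialLinearGroup (Fin 2) F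

/-- commuting is transitive on the non-identity elements of `PSL₂` in characteristic two -/
theorem ct_PSL2 (x y z : PSL2) (hx : x ≠ 1) (hy : y ≠ 1) (hz : z ≠ 1) (hxy : Commute x y)
    (hyz : Commute y z) : Commute x z := by
  obtain ⟨a, rfl⟩ := QuotientGroup.mk_surjective x
  obtain ⟨b, rfl⟩ := QuotientGroup.mk_surjective y
  obtain ⟨c, rfl⟩ := QuotientGroup.mk_surjective z
  have ha : a ≠ 1 := by rintro rfl; exact hx rfl
  have hb : b ≠ 1 := by rintro rfl; exact hy rfl
  have hc : c ≠ 1 := by rintro rfl; exact hz rfl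
  have hinj := mk_injective (F := F)
  have hab : a * b = b * a := hinj hxy
  have hbc : b * c = c * b := hinj hyz
  have h1 := centralizer_eq_of_commute a b (not_isScalar2_of_ne_one a ha)
    (not_isScalar2_of_ne_one b hb) hab
  have h2 : c ∈ Subgroup.centralizer ({b} : Set SL2) := by
    rw [Subgroup.mem_centralizer_singleton_iff]
    exact hbc.symm
  rw [← h1, Subgroup.mem_centralizer_singleton_iff] at h2
  show (QuotientGroup.mk a : PSL2) * QuotientGroup.mk c = QuotientGroup.mk c * QuotientGroup.mk a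
  exact congrArg _ h2.symm

end Converse

/-- the converse, transported along an isomorphism -/
theorem ct_of_psl {G : Type*} [Group G] {F : Type} [Field F] [Fintype F] {f : ℕ} (hf : 2 ≤ f)
    (hF : Fintype.card F = 2 ^ f)
    (e : G ≃* Matrix.ProjectiveSpecialLinearGroup (Fin 2) F) (a b c : G) (ha : a ≠ 1)
    (hb : b ≠ 1) (hc : c ≠ 1) (hab : Commute a b) (hbc : Commute b c) : Commute a c := by
  classical
  haveI : CharP F 2 := Cfsg.Agent.Lib.Helper4.GL52.charP_two_of_card (by omega) hF
  have h1 : e a ≠ 1 := fun h => ha (e.map_eq_one_iff.mp h)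
  have h2 : e b ≠ 1 := fun h => hb (e.map_eq_one_iff.mp h)
  have h3 : e c ≠ 1 := fun h => hc (e.map_eq_one_iff.mp h)
  have h4 : Commute (e a) (e b) := hab.map e
  have h5 : Commute (e b) (e c) := hbc.map e
  have h6 := ct_PSL2 (e a) (e b) (e c) h1 h2 h3 h4 h5
  have h7 : e (a * c) = e (c * a) := by
    rw [map_mul, map_mul]
    exact h6
  exact e.injective h7

end Cfsg.Agent.Lib.Helper1.CtG
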