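import Mathlib

/-! Two "transvection-like" automorphisms of an elementary abelian `p`-group (`p` odd): either
they generate a group of exponent `p` (degenerate case) or some word in them inverts the
centres and commutes with the first automorphism (the central involution of `SL₂(p)`). -/
set_option autoImplicit false
namespace Cfsg.Agent.Lib.Helper1.CycN

variable {A : Type*} [CommGroup A]

theorem aut_pow_fixed (φ : MulAut A) (x : A) (h : φ x = x) (n : ℕ) : (φ ^ n) x = x := by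
  induction n with
  | zero => simp
  | succ n ih => rw [pow_succ, MulAut.mul_apply, h, ih]

theorem choose_two_succ (n : ℕ) : (n + 1).choose 2 = n + n.choose 2 := by
  rw [Nat.choose_succ_succ' n 1, Nat.choose_one_right]

theorem aut_pow_formula (φ : MulAut A) (v x c : A) (h1 : φ v = v * x) (h2 : φ x = x * c)
    (h3 : φ c = c) (n : ℕ) : (φ ^ n) v = v * x ^ n * c ^ (n.choose 2) := by
  induction n with
  | zero => simp
  | succ n ih =>
    rw [pow_succ', MulAut.mul_apply, ih, map_mul, map_mul, map_pow, map_pow, h1, h2, h3,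
      mul_pow, choose_two_succ, pow_succ, pow_add]
    simp only [mul_assoc, mul_left_comm, mul_comm]

/-- Chain stabilizer predicate. -/
def Stab (U W : Subgroup A) (φ : MulAut A) : Prop :=
  (∀ v : A, φ v / v ∈ U) ∧ (∀ u ∈ U, φ u / u ∈ W) ∧ (∀ c ∈ W, φ c = c)

theorem stab_one (U W : Subgroup A) : Stab U W 1 := by
  refine ⟨fun v => ?_, fun u _ => ?_, fun c _ => rfl⟩
  · rw [MulAut.one_apply, div_self']; exact U.one_mem
  · rw [MulAut.one_apply, div_self']; exact W.one_mem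

theorem stab_mul {U W : Subgroup A} (hWU : W ≤ U) {φ φ' : MulAut A} (h : Stab U W φ)
    (h' : Stab U W φ') : Stab U W (φ * φ') := by
  refine ⟨fun v => ?_, fun u hu => ?_, fun c hc => ?_⟩
  · have hx := h'.1 v
    have e : (φ * φ') v / v = (φ (φ' v / v) / (φ' v / v)) * (φ' v / v) * (φ v / v) := by
      rw [MulAut.mul_apply, map_div, div_mul_cancel, div_mul_div_cancel]
    rw [e]
    exact U.mul_mem (U.mul_mem (hWU (h.2.1 _ hx)) hx) (h.1 v)
  · have hx := h'.2.1 u hu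
    have e : (φ * φ') u / u = φ (φ' u / u) * (φ u / u) := by
      rw [MulAut.mul_apply, map_div, div_mul_div_cancel]
    rw [e, h.2.2 _ hx]
    exact W.mul_mem hx (h.2.1 u hu)
  · rw [MulAut.mul_apply, h'.2.2 c hc, h.2.2 c hc]

theorem stab_inv {U W : Subgroup A} {φ : MulAut A} (h : Stab U W φ) : Stab U W φ⁻¹ := by
  have h1 : ∀ v, φ⁻¹ v / v ∈ U := by
    intro v
    have h2 := h.1 (φ⁻¹ v)
    rw [MulAut.apply_inv_self] at h2
    have e : φ⁻¹ v / v = (v / φ⁻¹ v)⁻¹ := by rw [inv_div]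
    rw [e]; exact U.inv_mem h2
  refine ⟨h1, fun u hu => ?_, fun c hc => ?_⟩
  · have hu' : φ⁻¹ u ∈ U := by
      have h2 := U.mul_mem (h1 u) hu
      rwa [div_mul_cancel] at h2
    have h3 := h.2.1 _ hu'
    rw [MulAut.apply_inv_self] at h3
    have e : φ⁻¹ u / u = (u / φ⁻¹ u)⁻¹ := by rw [inv_div]
    rw [e]; exact W.inv_mem h3
  · apply φ.injective
    rw [MulAut.apply_inv_self, h.2.2 c hc]

theorem stab_closure {U W : Subgroup A} (hWU : W ≤ U) {a b : MulAut A} (ha : Stab U W a)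
    (hb : Stab U W b) : ∀ φ ∈ Subgroup.closure ({a, b} : Set (MulAut A)), Stab U W φ := by
  intro φ hφ
  induction hφ using Subgroup.closure_induction with
  | mem x hx =>
    rcases hx with rfl | hx
    · exact ha
    · rw [Set.mem_singleton_iff] at hx; rw [hx]; exact hb
  | one => exact stab_one _ _
  | mul x y _ _ hx hy => exact stab_mul hWU hx hy
  | inv x _ hx => exact stab_inv hx

theorem stab_pow_eq_one {p : ℕ} (hp : p.Prime) (hp2 : p ≠ 2) (hexp : ∀ x : A, x ^ p = 1)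
    {U W : Subgroup A} {φ : MulAut A} (h : Stab U W φ) : φ ^ p = 1 := by
  ext v
  obtain ⟨x, hx⟩ : ∃ x : A, x = φ v / v := ⟨_, rfl⟩
  obtain ⟨c, hc⟩ : ∃ c : A, c = φ x / x := ⟨_, rfl⟩
  have hxU : x ∈ U := hx ▸ h.1 v
  have hcW : c ∈ W := hc ▸ h.2.1 x hxU
  have h1 : φ v = v * x := by rw [hx, mul_comm, div_mul_cancel]
  have h2 : φ x = x * c := by rw [hc, mul_comm, div_mul_cancel]
  have h3 : φ c = c := h.2.2 c hcW
  have hdvd : p ∣ p.choose 2 :=
    hp.dvd_choose_self (by norm_num) (lt_of_le_of_ne hp.two_le (Ne.symm hp2))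
  obtain ⟨k, hk⟩ := hdvd
  rw [aut_pow_formula φ v x c h1 h2 h3 p, hexp x, hk, pow_mul, hexp c, one_pow, mul_one, mul_one,
    MulAut.one_apply]

theorem fixed_of_mem_zpowers (φ : MulAut A) (w : A) (hw : φ w = w) :
    ∀ x ∈ Subgroup.zpowers w, φ x = x := by
  intro x hx
  obtain ⟨k, rfl⟩ := Subgroup.mem_zpowers_iff.mp hx
  rw [map_zpow, hw]

/-- Degenerate case: the group generated has exponent `p`. -/
theorem pow_eq_one_of_chain {p : ℕ} (hp : p.Prime) (hp2 : p ≠ 2) (hexp : ∀ x : A, x ^ p = 1)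
    (a b : MulAut A) (wa wb : A)
    (ha : ∀ v, a v / v ∈ Subgroup.zpowers wa) (haw : a wa = wa)
    (hb : ∀ v, b v / v ∈ Subgroup.zpowers wb) (hbw : b wb = wb) (hab : a wb = wb) :
    ∀ φ ∈ Subgroup.closure ({a, b} : Set (MulAut A)), φ ^ p = 1 := by
  intro φ hφ
  have hWU : Subgroup.zpowers wb ≤ Subgroup.zpowers wa ⊔ Subgroup.zpowers wb := le_sup_right
  have hafix : ∀ u ∈ Subgroup.zpowers wa ⊔ Subgroup.zpowers wb, a u = u := by
    have hle : Subgroup.zpowers wa ⊔ Subgroup.zpowers wb ≤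
        MonoidHom.eqLocus a.toMonoidHom (MonoidHom.id A) := by
      apply sup_le
      · rw [Subgroup.zpowers_le]; exact haw
      · rw [Subgroup.zpowers_le]; exact hab
    intro u hu
    exact hle hu
  have hSa : Stab (Subgroup.zpowers wa ⊔ Subgroup.zpowers wb) (Subgroup.zpowers wb) a := by
    refine ⟨fun v => le_sup_left (a := Subgroup.zpowers wa) (ha v), fun u hu => ?_, fun c hc => ?_⟩
    · rw [hafix u hu, div_self']; exact Subgroup.one_mem _
    · exact hafix c (hWU hc)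
  have hSb : Stab (Subgroup.zpowers wa ⊔ Subgroup.zpowers wb) (Subgroup.zpowers wb) b := by
    refine ⟨fun v => hWU (hb v), fun u _ => hb u, fun c hc => ?_⟩
    exact fixed_of_mem_zpowers b wb hbw c hc
  exact stab_pow_eq_one hp hp2 hexp (stab_closure hWU hSa hSb φ hφ)

theorem mem_zpowers_of_ne_one [Finite A] {p : ℕ} (hp : p.Prime) {x y : A} (hy : y ^ p = 1)
    (hx : x ∈ Subgroup.zpowers y) (hx1 : x ≠ 1) : y ∈ Subgroup.zpowers x := by
  have hle : Subgroup.zpowers x ≤ Subgroup.zpowers y := Subgroup.zpowers_le.mpr hx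
  have hxp : x ^ p = 1 := by
    obtain ⟨k, rfl⟩ := Subgroup.mem_zpowers_iff.mp hx
    rw [← zpow_natCast, ← zpow_mul, mul_comm, zpow_mul, zpow_natCast, hy, one_zpow]
  have hox : orderOf x = p := by
    rcases (Nat.dvd_prime hp).mp (orderOf_dvd_of_pow_eq_one hxp) with h | h
    · exact absurd (orderOf_eq_one_iff.mp h) hx1
    · exact h
  have hoy : orderOf y ∣ p := orderOf_dvd_of_pow_eq_one hy
  have heq : Subgroup.zpowers x = Subgroup.zpowers y := by
    apply Subgroup.eq_of_le_of_card_ge hle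
    rw [Nat.card_zpowers, Nat.card_zpowers, hox]
    exact Nat.le_of_dvd hp.pos hoy
  rw [heq]; exact Subgroup.mem_zpowers y

theorem exists_nat_pow [Finite A] {x y : A} (hx : x ∈ Subgroup.zpowers y) : ∃ n : ℕ, y ^ n = x :=
  (Submonoid.mem_powers_iff _ _).mp (mem_powers_iff_mem_zpowers.mpr hx)

/-- Non-degenerate case: an explicit word inverts `wa` and commutes with `a`. -/
theorem exists_inverting [Finite A] {p : ℕ} (hp : p.Prime) (hexp : ∀ x : A, x ^ p = 1)
    (a b : MulAut A) (wa wb : A)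
    (ha : ∀ v, a v / v ∈ Subgroup.zpowers wa) (haw : a wa = wa)
    (hb : ∀ v, b v / v ∈ Subgroup.zpowers wb) (hbw : b wb = wb)
    (hab : a wb ≠ wb) (hba : b wa ≠ wa) :
    ∃ j : ℕ, ∀ τ : MulAut A, τ = (a * b ^ j * a) * (a * b ^ j * a) →
      τ wa = wa⁻¹ ∧ τ * a = a * τ ∧ τ * τ = 1 := by
  obtain ⟨u₁, hu₁⟩ : ∃ u₁ : A, u₁ = a wb / wb := ⟨_, rfl⟩
  have hu₁m : u₁ ∈ Subgroup.zpowers wa := hu₁ ▸ ha wb
  have hu₁1 : u₁ ≠ 1 := by
    intro h; apply hab; rw [hu₁, div_eq_one] at h; exact h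
  have hwa_mem : wa ∈ Subgroup.zpowers u₁ := mem_zpowers_of_ne_one hp (hexp wa) hu₁m hu₁1
  have hau₁ : a u₁ = u₁ := fixed_of_mem_zpowers a wa haw u₁ hu₁m
  have hau₂ : a wb = u₁ * wb := by rw [hu₁, div_mul_cancel]
  obtain ⟨e, he⟩ : ∃ e : A, e = b u₁ / u₁ := ⟨_, rfl⟩
  have hem : e ∈ Subgroup.zpowers wb := he ▸ hb u₁
  have he1 : e ≠ 1 := by
    intro h
    rw [he, div_eq_one] at h
    apply hba
    exact fixed_of_mem_zpowers b u₁ h wa hwa_mem
  have hwb_mem : wb ∈ Subgroup.zpowers e := mem_zpowers_of_ne_one hp (hexp wb) hem he1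
  have hbe : b e = e := fixed_of_mem_zpowers b wb hbw e hem
  have hbu₁ : b u₁ = u₁ * e := by rw [he, mul_comm, div_mul_cancel]
  obtain ⟨j, hj⟩ : ∃ j : ℕ, e ^ j = wb⁻¹ := exists_nat_pow (Subgroup.inv_mem _ hwb_mem)
  have hbj1 : (b ^ j) u₁ = u₁ * wb⁻¹ := by
    have h := aut_pow_formula b u₁ e 1 hbu₁ (by rw [hbe, mul_one]) (map_one b) j
    rw [h, one_pow, mul_one, hj]
  have hbj2 : (b ^ j) wb = wb := aut_pow_fixed b wb hbw j
  refine ⟨j, ?_⟩
  intro τ hτ
  obtain ⟨s, hs⟩ : ∃ s : MulAut A, s = a * b ^ j * a := ⟨_, rfl⟩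
  rw [← hs] at hτ
  have hs1 : s u₁ = wb⁻¹ := by
    rw [hs, MulAut.mul_apply, MulAut.mul_apply, hau₁, hbj1, map_mul, map_inv, hau₁, hau₂,
      mul_inv, ← mul_assoc, mul_inv_cancel, one_mul]
  have hs2 : s wb = u₁ := by
    rw [hs, MulAut.mul_apply, MulAut.mul_apply, hau₂, map_mul, hbj1, hbj2, inv_mul_cancel_right,
      hau₁]
  have hτ1 : τ u₁ = u₁⁻¹ := by rw [hτ, MulAut.mul_apply, hs1, map_inv, hs2]
  have hτ2 : τ wb = wb⁻¹ := by rw [hτ, MulAut.mul_apply, hs2, hs1]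
  have hτinv : ∀ r m : ℕ, τ (u₁ ^ r * wb ^ m) = (u₁ ^ r * wb ^ m)⁻¹ := by
    intro r m; rw [map_mul, map_pow, map_pow, hτ1, hτ2, mul_inv, inv_pow, inv_pow]
  have hτfix : ∀ c : A, a c = c → b c = c → τ c = c := by
    intro c hac hbc
    have hsc : s c = c := by
      rw [hs, MulAut.mul_apply, MulAut.mul_apply, hac, aut_pow_fixed b c hbc j, hac]
    rw [hτ, MulAut.mul_apply, hsc, hsc]
  have hdec : ∀ v : A, ∃ r m : ℕ, ∃ c : A, v = c * (u₁ ^ r * wb ^ m) ∧ a c = c ∧ b c = c ∧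
      a (u₁ ^ r * wb ^ m) = u₁ ^ (r + m) * wb ^ m := by
    intro v
    obtain ⟨m, hm⟩ : ∃ m : ℕ, u₁ ^ m = a v / v :=
      exists_nat_pow ((Subgroup.zpowers_le.mpr hwa_mem) (ha v))
    obtain ⟨r, hr⟩ : ∃ r : ℕ, e ^ r = b v / v :=
      exists_nat_pow ((Subgroup.zpowers_le.mpr hwb_mem) (hb v))
    have hau : a (u₁ ^ r * wb ^ m) = u₁ ^ (r + m) * wb ^ m := by
      rw [map_mul, map_pow, map_pow, hau₁, hau₂, mul_pow, pow_add]; simp only [mul_assoc, mul_left_comm, mul_comm]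
    have hbu : b (u₁ ^ r * wb ^ m) = (u₁ ^ r * wb ^ m) * e ^ r := by
      rw [map_mul, map_pow, map_pow, hbu₁, hbw, mul_pow]; simp only [mul_assoc, mul_left_comm, mul_comm]
    have hav : a v = v * u₁ ^ m := by rw [hm, mul_comm, div_mul_cancel]
    have hbv : b v = v * e ^ r := by rw [hr, mul_comm, div_mul_cancel]
    refine ⟨r, m, v / (u₁ ^ r * wb ^ m), ?_, ?_, ?_, hau⟩
    · rw [div_mul_cancel]
    · rw [map_div, hau, hav, pow_add, div_eq_div_iff_mul_eq_mul]; simp only [mul_assoc, mul_left_comm, mul_comm]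
    · rw [map_div, hbu, hbv, div_eq_div_iff_mul_eq_mul]; simp only [mul_assoc, mul_left_comm, mul_comm]
  refine ⟨?_, ?_, ?_⟩
  · obtain ⟨k, hk⟩ := exists_nat_pow hwa_mem
    rw [← hk]
    have h := hτinv k 0
    rw [pow_zero, mul_one] at h
    exact h
  · ext v
    obtain ⟨r, m, c, hv, hac, hbc, hau⟩ := hdec v
    rw [MulAut.mul_apply, MulAut.mul_apply, hv, map_mul, hac, hau, map_mul, hτfix c hac hbc,
      hτinv, map_mul, hτfix c hac hbc, hτinv, map_mul, hac, map_inv, hau]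
  · ext v
    obtain ⟨r, m, c, hv, hac, hbc, -⟩ := hdec v
    rw [MulAut.mul_apply, MulAut.one_apply, hv, map_mul, hτfix c hac hbc, hτinv, map_mul,
      hτfix c hac hbc, map_inv, hτinv, inv_inv]

end Cfsg.Agent.Lib.Helper1.CycN
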