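import Mathlib
import Cfsg.Prelude.Def_Transfer
import Cfsg.Agent.Lib.Lead.BaerSuzuki
import Cfsg.Agent.Lib.Helper1.CycN1
import Cfsg.Agent.Lib.Helper1.QuadStable6
import Cfsg.Agent.Lib.Helper1.ThompsonBasic

/-! A `p`-element `y` (`p` odd) acting on a self-centralizing normal elementary abelian
`p`-subgroup `V ≥ O_p(G)` with `[V, y] ≤ ⟨y^p⟩ ≤ V` lies in `V`. -/
set_option autoImplicit false
open scoped IsMulCommutative
namespace Cfsg.Agent.Lib.Helper1.CycN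

variable {G : Type*} [Group G]

/-- `(y v)^n = v^n u^{C(n+1,2)} y^n` when `y v y⁻¹ = v u`, `y u y⁻¹ = u`, `u v = v u`. -/
theorem mul_pow_formula (y v u : G) (h1 : y * v * y⁻¹ = v * u) (h2 : y * u * y⁻¹ = u)
    (h3 : u * v = v * u) (n : ℕ) :
    (y * v) ^ n = v ^ n * u ^ ((n + 1).choose 2) * y ^ n := by
  induction n with
  | zero => simp
  | succ n ih =>
    have hc : Commute v u := h3.symm
    rw [pow_succ', ih]
    have e1 : y * v * (v ^ n * u ^ ((n + 1).choose 2) * y ^ n) =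
        (y * (v ^ (n + 1) * u ^ ((n + 1).choose 2)) * y⁻¹) * y ^ (n + 1) := by
      rw [pow_succ' v n, pow_succ' y n]; group
    rw [e1]
    have e2 : y * (v ^ (n + 1) * u ^ ((n + 1).choose 2)) * y⁻¹ =
        (y * v * y⁻¹) ^ (n + 1) * (y * u * y⁻¹) ^ ((n + 1).choose 2) := by
      rw [conj_pow, conj_pow]; group
    rw [e2, h1, h2, choose_two_succ (n + 1), hc.mul_pow]
    simp only [pow_add, mul_assoc]

theorem false_of_transvection [Finite G] {p : ℕ} [hp : Fact p.Prime] (hp2 : p ≠ 2)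
    (V : Subgroup G) [hVn : V.Normal] (hV : Cfsg.IsElementaryAbelian p V)
    (hCV : Subgroup.centralizer (V : Set G) ≤ V)
    (hOp : ∀ N : Subgroup G, N.Normal → IsPGroup p N → N ≤ V)
    (y : G) (hyV : y ∉ V) (hypV : y ^ p ∈ V)
    (hcomm : ∀ v ∈ V, y * v * y⁻¹ * v⁻¹ ∈ Subgroup.zpowers (y ^ p)) : False := by
  classical
  have : IsMulCommutative V := hV.1
  have hexp : ∀ x : V, x ^ p = 1 := fun x => Subtype.ext (hV.2 x x.2)
  obtain ⟨ψ, hψ⟩ : ∃ ψ : G →* MulAut V, ψ = MulAut.conjNormal := ⟨_, rfl⟩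
  have hψa : ∀ (g : G) (v : V), ((ψ g v : V) : G) = g * v * g⁻¹ := by
    intro g v; rw [hψ, MulAut.conjNormal_apply]
  have hker : ∀ g : G, ψ g = 1 → g ∈ V := by
    intro g hg
    apply hCV
    rw [← QuadSL2.conjNormal_ker V, MonoidHom.mem_ker, ← hψ]; exact hg
  have hT : ∀ (x : G) (wx : V), (wx : G) = x ^ p →
      (∀ v ∈ V, x * v * x⁻¹ * v⁻¹ ∈ Subgroup.zpowers (x ^ p)) →
      (∀ v : V, ψ x v / v ∈ Subgroup.zpowers wx) ∧ ψ x wx = wx := by
    intro x wx hwx hx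
    constructor
    · intro v
      obtain ⟨k, hk⟩ := Subgroup.mem_zpowers_iff.mp (hx v v.2)
      rw [Subgroup.mem_zpowers_iff]
      refine ⟨k, Subtype.ext ?_⟩
      rw [Subgroup.coe_zpow, hwx, hk, Subgroup.coe_div, hψa, div_eq_mul_inv]
    · apply Subtype.ext
      rw [hψa, hwx]; group
  have hz : ∀ g : G, ∀ v ∈ V, (g * y * g⁻¹) * v * (g * y * g⁻¹)⁻¹ * v⁻¹ ∈
      Subgroup.zpowers ((g * y * g⁻¹) ^ p) := by
    intro g v hv
    have hv₀ : g⁻¹ * v * g ∈ V := by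
      have := hVn.conj_mem v hv g⁻¹; simpa using this
    obtain ⟨k, hk⟩ := Subgroup.mem_zpowers_iff.mp (hcomm _ hv₀)
    rw [Subgroup.mem_zpowers_iff]
    refine ⟨k, ?_⟩
    rw [conj_pow, conj_zpow, hk]; group
  obtain ⟨wy, hwy⟩ : ∃ wy : V, wy = ⟨y ^ p, hypV⟩ := ⟨_, rfl⟩
  have hwyc : (wy : G) = y ^ p := by rw [hwy]
  obtain ⟨ha, haw⟩ := hT y wy hwyc hcomm
  have hwy1 : wy ≠ 1 := by
    intro h
    apply hyV; apply hker
    ext v
    have h1 := ha v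
    rw [h, Subgroup.zpowers_one_eq_bot, Subgroup.mem_bot, div_eq_one] at h1
    rw [h1, MulAut.one_apply]
  -- Baer–Suzuki
  have hBS : ∃ g : G, ¬ IsPGroup p (Subgroup.closure ({y, g * y * g⁻¹} : Set G)) := by
    by_contra hcon
    push Not at hcon
    have hyp2 : y ^ (p ^ 2) = 1 := by rw [pow_two, pow_mul]; exact hV.2 _ hypV
    have hX : IsPGroup p (Subgroup.zpowers y) := by
      obtain ⟨i, -, hi⟩ := (Nat.dvd_prime_pow hp.out).mp (orderOf_dvd_of_pow_eq_one hyp2)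
      apply IsPGroup.of_card (n := i)
      rw [Nat.card_zpowers, hi]
    have hpair : ∀ g : G, IsPGroup p
        ↥(Subgroup.zpowers y ⊔ Cfsg.Agent.Lib.Lead.BaerSuzuki.cj (Subgroup.zpowers y) g) := by
      intro g
      have hle : Subgroup.zpowers y ⊔ Cfsg.Agent.Lib.Lead.BaerSuzuki.cj (Subgroup.zpowers y) g ≤
          Subgroup.closure {y, g * y * g⁻¹} := by
        apply sup_le
        · rw [Subgroup.zpowers_le]
          exact Subgroup.subset_closure (by simp)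
        · unfold Cfsg.Agent.Lib.Lead.BaerSuzuki.cj
          rw [MonoidHom.map_zpowers, Subgroup.zpowers_le]
          apply Subgroup.subset_closure
          right
          rfl
      exact (hcon g).to_le hle
    obtain ⟨N, hNn, hNp, hXN⟩ := Cfsg.Agent.Lib.Lead.BaerSuzuki.baer_suzuki _ hpair hX
    exact hyV (hOp N hNn hNp (hXN (Subgroup.mem_zpowers y)))
  obtain ⟨g, hg⟩ := hBS
  obtain ⟨z, hzdef⟩ : ∃ z : G, z = g * y * g⁻¹ := ⟨_, rfl⟩
  rw [← hzdef] at hg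
  have hzp : z ^ p ∈ V := by
    rw [hzdef, conj_pow]; exact hVn.conj_mem _ hypV g
  obtain ⟨wz, hwz⟩ : ∃ wz : V, wz = ⟨z ^ p, hzp⟩ := ⟨_, rfl⟩
  have hwzc : (wz : G) = z ^ p := by rw [hwz]
  obtain ⟨hb, hbw⟩ := hT z wz hwzc (by rw [hzdef]; exact hz g)
  have hpg : ∀ a' b' : G, (∀ φ ∈ Subgroup.closure ({ψ a', ψ b'} : Set (MulAut V)), φ ^ p = 1) →
      IsPGroup p (Subgroup.closure ({a', b'} : Set G)) := by
    intro a' b' h
    rintro ⟨x, hx⟩
    refine ⟨2, Subtype.ext ?_⟩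
    have h1 : ψ x ∈ Subgroup.closure ({ψ a', ψ b'} : Set (MulAut V)) := by
      have h0 := Subgroup.mem_map_of_mem ψ hx
      rw [MonoidHom.map_closure, Set.image_pair] at h0
      exact h0
    have h2 : ψ (x ^ p) = 1 := by rw [map_pow]; exact h _ h1
    have h3 : x ^ p ∈ V := hker _ h2
    rw [Subgroup.coe_pow, Subgroup.coe_one, pow_two, pow_mul]
    exact hV.2 _ h3
  have hab : ψ y wz ≠ wz := by
    intro h
    exact hg (hpg y z (pow_eq_one_of_chain hp.out hp2 hexp (ψ y) (ψ z) wy wz ha haw hb hbw h))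
  have hba : ψ z wy ≠ wy := by
    intro h
    apply hg
    rw [Set.pair_comm]
    exact hpg z y (pow_eq_one_of_chain hp.out hp2 hexp (ψ z) (ψ y) wz wy hb hbw ha haw h)
  obtain ⟨j, hj⟩ := exists_inverting hp.out hexp (ψ y) (ψ z) wy wz ha haw hb hbw hab hba
  obtain ⟨t₀, ht₀⟩ : ∃ t₀ : G, t₀ = (y * z ^ j * y) * (y * z ^ j * y) := ⟨_, rfl⟩
  obtain ⟨hτw, hτa, hττ⟩ := hj (ψ t₀) (by rw [ht₀, map_mul, map_mul, map_mul, map_pow])
  obtain ⟨k, hk⟩ : ∃ k, p = 2 * k + 1 := hp.out.odd_of_ne_two hp2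
  obtain ⟨t, ht⟩ : ∃ t : G, t = t₀ ^ p := ⟨_, rfl⟩
  have hψt : ψ t = ψ t₀ := by
    rw [ht, map_pow]
    conv_lhs => rw [hk]
    rw [pow_succ, pow_mul, pow_two, hττ, one_pow, one_mul]
  have htt : t * t = 1 := by
    have h1 : t₀ * t₀ ∈ V := hker _ (by rw [map_mul, hττ])
    rw [ht, ← pow_add, ← two_mul, pow_mul, pow_two]
    exact hV.2 _ h1
  -- `[t, y] ∈ V`
  have hk₀ : t * y * t⁻¹ * y⁻¹ ∈ V := by
    apply hker
    rw [map_mul, map_mul, map_mul, map_inv, map_inv, hψt, hτa]; group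
  obtain ⟨v₀, hv₀⟩ : ∃ v₀ : G, v₀ = y⁻¹ * (t * y * t⁻¹ * y⁻¹) * y := ⟨_, rfl⟩
  have hv₀V : v₀ ∈ V := by
    have := hVn.conj_mem _ hk₀ y⁻¹; rw [hv₀]; simpa using this
  have htyt : t * y * t⁻¹ = y * v₀ := by rw [hv₀]; group
  have hinv : t * v₀ * t⁻¹ = v₀⁻¹ := by
    have h1 : t * (y * v₀) * t⁻¹ = y := by
      rw [← htyt]
      calc t * (t * y * t⁻¹) * t⁻¹ = (t * t) * y * (t * t)⁻¹ := by group
        _ = y := by rw [htt]; group
    have h2 : t * (y * v₀) * t⁻¹ = (t * y * t⁻¹) * (t * v₀ * t⁻¹) := by group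
    rw [h2, htyt] at h1
    have h3 : v₀ * (t * v₀ * t⁻¹) = 1 := by
      have h4 := congrArg (fun x => y⁻¹ * x) h1
      simp only [mul_assoc, inv_mul_cancel_left, inv_mul_cancel] at h4
      simpa [mul_assoc] using h4
    exact (eq_inv_of_mul_eq_one_right h3)
  obtain ⟨v₁, hv₁⟩ : ∃ v₁ : G, v₁ = v₀ ^ (k + 1) := ⟨_, rfl⟩
  have hv₁V : v₁ ∈ V := hv₁ ▸ V.pow_mem hv₀V _
  have hv₁sq : v₁ * v₁ = v₀ := by
    rw [hv₁, ← pow_add]
    have e : k + 1 + (k + 1) = p + 1 := by omega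
    rw [e, pow_succ, hV.2 _ hv₀V, one_mul]
  have hinv₁ : t * v₁ * t⁻¹ = v₁⁻¹ := by
    rw [hv₁, ← conj_pow, hinv, inv_pow]
  have hty' : t * (y * v₁) * t⁻¹ = y * v₁ := by
    have h2 : t * (y * v₁) * t⁻¹ = (t * y * t⁻¹) * (t * v₁ * t⁻¹) := by group
    rw [h2, htyt, hinv₁, ← hv₁sq]; group
  -- `(y v₁)^p = y^p`
  obtain ⟨u, hu⟩ : ∃ u : G, u = y * v₁ * y⁻¹ * v₁⁻¹ := ⟨_, rfl⟩
  have hum : u ∈ Subgroup.zpowers (y ^ p) := hu ▸ hcomm v₁ hv₁V
  have huV : u ∈ V := (Subgroup.zpowers_le.mpr hypV) hum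
  have h3 : u * v₁ = v₁ * u := isElementaryAbelian_comm hV huV hv₁V
  have h1 : y * v₁ * y⁻¹ = v₁ * u := by rw [← h3, hu]; group
  have h2 : y * u * y⁻¹ = u := by
    obtain ⟨m, hm⟩ := Subgroup.mem_zpowers_iff.mp hum
    rw [← hm]
    exact (((Commute.refl y).pow_right p).zpow_right m).mul_inv_cancel
  have hpow : (y * v₁) ^ p = y ^ p := by
    rw [mul_pow_formula y v₁ u h1 h2 h3 p, hV.2 _ hv₁V, one_mul, choose_two_succ]
    have hdvd : p ∣ p.choose 2 :=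
      hp.out.dvd_choose_self (by norm_num) (lt_of_le_of_ne hp.out.two_le (Ne.symm hp2))
    obtain ⟨c, hc⟩ := hdvd
    rw [pow_add, hV.2 _ huV, hc, pow_mul, hV.2 _ huV, one_pow, one_mul, one_mul]
  -- final contradiction
  have h5 : t * (y ^ p) * t⁻¹ = y ^ p := by
    rw [← hpow, ← conj_pow, hty']
  have h6 : t * (y ^ p) * t⁻¹ = (y ^ p)⁻¹ := by
    have h7 : ((ψ t₀ wy : V) : G) = ((wy⁻¹ : V) : G) := congrArg Subtype.val hτw
    rw [← hψt, hψa, hwyc, Subgroup.coe_inv, hwyc] at h7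
    exact h7
  have h8 : (y ^ p) * (y ^ p) = 1 := by
    have h9 : y ^ p = (y ^ p)⁻¹ := h5.symm.trans h6
    calc (y ^ p) * (y ^ p) = (y ^ p) * (y ^ p)⁻¹ := by rw [← h9]
      _ = 1 := mul_inv_cancel _
  have h10 : y ^ p = 1 := by
    have h11 : (y ^ p) ^ p = 1 := hV.2 _ hypV
    obtain ⟨q, hq⟩ : ∃ q : G, q = y ^ p := ⟨_, rfl⟩
    rw [← hq] at h11 h8 ⊢
    rw [hk, pow_succ, pow_mul, pow_two, h8, one_pow, one_mul] at h11
    exact h11
  apply hwy1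
  apply Subtype.ext
  rw [hwyc, h10, Subgroup.coe_one]

end Cfsg.Agent.Lib.Helper1.CycN
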