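import Mathlib
import Cfsg.Prelude.Def_PLocal
import Cfsg.Prelude.Def_OddOrderLocal
import Cfsg.Agent.Lib.Helper1.Fitting
import Cfsg.Agent.Lib.Helper1.FittingCentralizer
import Cfsg.Agent.Lib.Helper1.PSolvStable2
import Cfsg.Agent.Lib.Helper1.StableQuad4
import Cfsg.Agent.Lib.Helper1.Coprime
import Cfsg.Agent.Lib.Helper3.PSolvable

/-! Self-centralizing normal subgroups of a group `F ≥ F(T)` in a solvable group `T` with
`O_{π'}(T) = 1` (`2, 3 ∉ π`) are self-centralizing in `T`. -/
set_option autoImplicit false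
open scoped commutatorElement
namespace Cfsg.Agent.Lib.Helper1.HallFit

variable {T : Type*} [Group T]

theorem sectionKernel_normal (K N : Subgroup T) [hK : K.Normal] [hN : N.Normal] :
    (Cfsg.sectionKernel K N).Normal := by
  unfold Cfsg.sectionKernel
  have h2 : (K.map (QuotientGroup.mk' N)).Normal :=
    hK.map _ (QuotientGroup.mk'_surjective N)
  exact Subgroup.Normal.comap inferInstance _

/-- Step A -/
theorem commutator_le_of_scn (F A K Y : Subgroup T) [hK : K.Normal] (hKF : K ≤ F)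
    (hFA : F ≤ Subgroup.normalizer (A : Set T))
    (hcent : F ⊓ Subgroup.centralizer (A : Set T) ≤ A)
    (hY : Y ≤ Subgroup.centralizer (A : Set T)) : ⁅K, Y⁆ ≤ A := by
  rw [Subgroup.commutator_le]
  intro k hk z hz
  apply hcent
  refine Subgroup.mem_inf.mpr ⟨hKF ?_, ?_⟩
  · have : ⁅k, z⁆ = k * (z * k⁻¹ * z⁻¹) := by rw [commutatorElement_def]; group
    rw [this]
    exact K.mul_mem hk (hK.conj_mem _ (K.inv_mem hk) z)
  · rw [Subgroup.mem_centralizer_iff]
    intro a ha
    have hz' := Subgroup.mem_centralizer_iff.mp (hY hz)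
    have h1 : a * z = z * a := hz' a ha
    have hkn := hFA (hKF hk)
    have ha' : k⁻¹ * a * k ∈ A := by
      have := (Subgroup.mem_normalizer_iff.mp (Subgroup.inv_mem _ hkn) a).mp ha
      simpa using this
    have h2 : (k⁻¹ * a * k) * z = z * (k⁻¹ * a * k) := hz' _ ha'
    have h3 : a * z⁻¹ = z⁻¹ * a := by
      calc a * z⁻¹ = z⁻¹ * (z * a) * z⁻¹ := by group
        _ = z⁻¹ * (a * z) * z⁻¹ := by rw [h1]
        _ = z⁻¹ * a := by group
    rw [commutatorElement_def]
    calc a * (k * z * k⁻¹ * z⁻¹) = k * ((k⁻¹ * a * k) * z) * k⁻¹ * z⁻¹ := by group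
      _ = k * (z * (k⁻¹ * a * k)) * k⁻¹ * z⁻¹ := by rw [h2]
      _ = k * z * k⁻¹ * (a * z⁻¹) := by group
      _ = k * z * k⁻¹ * (z⁻¹ * a) := by rw [h3]
      _ = k * z * k⁻¹ * z⁻¹ * a := by group

/-- Step B: a coprime quadratic action is trivial. -/
theorem le_centralizer_of_coprime_quadratic [Finite T] (K Y : Subgroup T) [hK : K.Normal]
    (hcop : (Nat.card Y).Coprime (Nat.card K)) (hY : Group.IsSolvable Y)
    (hquad : ⁅⁅K, Y⁆, Y⁆ = ⊥) : K ≤ Subgroup.centralizer (Y : Set T) := by
  rw [← Subgroup.commutator_eq_bot_iff_le_centralizer,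
    ← coprime_commutator_commutator Y K
      (by rw [Subgroup.normalizer_eq_top_iff.mpr hK]; exact le_top) hcop (Or.inl hY), hquad]

theorem rElement_mem_fitting [Finite T] [hsolv : Group.IsSolvable T] (π : Set ℕ)
    (h2 : 2 ∉ π) (h3 : 3 ∉ π)
    (hπ' : ∀ N : Subgroup T, N.Normal → (∀ q : ℕ, q.Prime → q ∣ Nat.card N → q ∉ π) → N = ⊥)
    (F A : Subgroup T) (hF : Cfsg.fittingSubgroup T ≤ F)
    (hFA : F ≤ Subgroup.normalizer (A : Set T))
    (hcent : F ⊓ Subgroup.centralizer (A : Set T) ≤ A)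
    (r : ℕ) [hr : Fact r.Prime] (y : T) (k : ℕ) (hyk : y ^ (r ^ k) = 1)
    (hyA : y ∈ Subgroup.centralizer (A : Set T)) : y ∈ Cfsg.fittingSubgroup T := by
  classical
  obtain ⟨Y, hYdef⟩ : ∃ Y : Subgroup T, Y = Subgroup.zpowers y := ⟨_, rfl⟩
  have hyY : y ∈ Y := by rw [hYdef]; exact Subgroup.mem_zpowers y
  have hYA : Y ≤ Subgroup.centralizer (A : Set T) := by
    rw [hYdef, Subgroup.zpowers_le]; exact hyA
  obtain ⟨j, hj⟩ : ∃ j, Nat.card Y = r ^ j := by
    rw [hYdef, Nat.card_zpowers]
    obtain ⟨j, _, hj⟩ := (Nat.dvd_prime_pow hr.out).mp (orderOf_dvd_of_pow_eq_one hyk)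
    exact ⟨j, hj⟩
  have hYsolv : Group.IsSolvable Y := by
    rw [hYdef]; infer_instance
  have hquad : ∀ K : Subgroup T, K.Normal → K ≤ Cfsg.fittingSubgroup T → ⁅⁅K, Y⁆, Y⁆ = ⊥ := by
    intro K hK hKF
    have h1 : ⁅K, Y⁆ ≤ A := commutator_le_of_scn F A K Y (hKF.trans hF) hFA hcent hYA
    have h2 : ⁅A, Y⁆ = ⊥ := by
      rw [Subgroup.commutator_comm, Subgroup.commutator_eq_bot_iff_le_centralizer]; exact hYA
    exact eq_bot_iff.mpr (h2 ▸ Subgroup.commutator_mono h1 le_rfl)
  have hpF : ∀ q : ℕ, [Fact q.Prime] → Cfsg.pCore q T ≤ Cfsg.fittingSubgroup T := by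
    intro q hq
    rw [fittingSubgroup_eq_iSup_pCore]
    exact le_iSup (fun p : Nat.Primes => Cfsg.pCore (p : ℕ) T) ⟨q, hq.out⟩
  have hB : ∀ q : ℕ, [Fact q.Prime] → q ≠ r →
      Cfsg.pCore q T ≤ Subgroup.centralizer (Y : Set T) := by
    intro q hq hqr
    have hKn : (Cfsg.pCore q T).Normal := pCore_normal q
    obtain ⟨i, hi⟩ := IsPGroup.iff_card.mp (pCore_isPGroup (G := T) q)
    apply le_centralizer_of_coprime_quadratic
    · rw [hj, hi]
      exact Nat.Coprime.pow _ _ ((Nat.coprime_primes hr.out hq.out).mpr (Ne.symm hqr))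
    · exact hYsolv
    · exact hquad _ hKn (hpF q)
  by_cases hrπ : r ∈ π
  swap
  · have hbot : Cfsg.pCore r T = ⊥ := by
      apply hπ' _ (pCore_normal r)
      intro q hq hqd
      obtain ⟨i, hi⟩ := IsPGroup.iff_card.mp (pCore_isPGroup (G := T) r)
      rw [hi] at hqd
      have : q = r := (Nat.prime_dvd_prime_iff_eq hq hr.out).mp (hq.dvd_of_dvd_pow hqd)
      rw [this]; exact hrπ
    apply centralizer_fittingSubgroup_le
    have hle : Cfsg.fittingSubgroup T ≤ Subgroup.centralizer (Y : Set T) := by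
      rw [fittingSubgroup_eq_iSup_pCore]
      apply iSup_le
      intro q
      have : Fact (q : ℕ).Prime := ⟨q.2⟩
      by_cases hqr : (q : ℕ) = r
      · rw [hqr, hbot]; exact bot_le
      · exact hB q hqr
    rw [Subgroup.mem_centralizer_iff]
    intro f hf
    exact (Subgroup.mem_centralizer_iff.mp (hle hf) y hyY).symm
  · have hr2 : r ≠ 2 := fun h => h2 (h ▸ hrπ)
    have hr3 : r ≠ 3 := fun h => h3 (h ▸ hrπ)
    have hsec : Cfsg.IsPStableOnSection r (Cfsg.pCore r T)
        ((frattini ↥(Cfsg.pCore r T)).map (Cfsg.pCore r T).subtype) :=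
      (QuadSL2.isActionPStable_of_pSolvable (G := T) hr2 hr3
        (Cfsg.Agent.Lib.Helper3.isPSolvable_of_isSolvable r hsolv)).2.1
    obtain ⟨D, hDn, hSKD, ⟨k', hk'⟩, hyD⟩ := hsec y (by
      rw [← hYdef, hquad _ (pCore_normal r) (hpF r)]; exact bot_le)
    obtain ⟨SK, hSKdef⟩ : ∃ SK : Subgroup T, SK = Cfsg.sectionKernel (Cfsg.pCore r T)
        ((frattini ↥(Cfsg.pCore r T)).map (Cfsg.pCore r T).subtype) := ⟨_, rfl⟩
    rw [← hSKdef] at hSKD hk'
    have hSKn : SK.Normal := by rw [hSKdef]; exact sectionKernel_normal _ _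
    obtain ⟨L, hLdef⟩ : ∃ L : Subgroup T,
        L = ⨆ q : {q : Nat.Primes // (q : ℕ) ≠ r}, Cfsg.pCore ((q : Nat.Primes) : ℕ) T :=
      ⟨_, rfl⟩
    have hLn : L.Normal := by rw [hLdef]; infer_instance
    have hLY : L ≤ Subgroup.centralizer (Y : Set T) := by
      rw [hLdef]; apply iSup_le; rintro ⟨q, hq⟩
      have : Fact (q : ℕ).Prime := ⟨q.2⟩
      exact hB q hq
    have hKL : Cfsg.fittingSubgroup T = Cfsg.pCore r T ⊔ L := by
      rw [fittingSubgroup_eq_iSup_pCore]
      apply le_antisymm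
      · apply iSup_le; intro q
        by_cases hqr : (q : ℕ) = r
        · rw [hqr]; exact le_sup_left
        · refine le_trans ?_ le_sup_right
          rw [hLdef]
          exact le_iSup (fun q : {q : Nat.Primes // (q : ℕ) ≠ r} =>
            Cfsg.pCore ((q : Nat.Primes) : ℕ) T) ⟨q, hqr⟩
      · apply sup_le
        · exact le_iSup (fun p : Nat.Primes => Cfsg.pCore (p : ℕ) T) ⟨r, hr.out⟩
        · rw [hLdef]; apply iSup_le; rintro ⟨q, hq⟩
          exact le_iSup (fun p : Nat.Primes => Cfsg.pCore (p : ℕ) T) q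
    obtain ⟨M, hMdef⟩ : ∃ M : Subgroup T, M = D ⊓ Subgroup.centralizer (L : Set T) :=
      ⟨_, rfl⟩
    have hMn : M.Normal := by rw [hMdef]; infer_instance
    have hyM : y ∈ M := by
      rw [hMdef]; refine Subgroup.mem_inf.mpr ⟨hyD, ?_⟩
      rw [Subgroup.mem_centralizer_iff]; intro l hl
      exact (Subgroup.mem_centralizer_iff.mp (hLY hl) y hyY).symm
    have hcentral : ∀ z ∈ M, (orderOf z).Coprime r → ∀ m ∈ M, m * z = z * m := by
      intro z hzM hzr m hmM
      rw [hMdef] at hzM hmM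
      have h1 : z ^ (r ^ k') ∈ SK := by
        have hn : (SK.subgroupOf D).Normal := inferInstance
        have h := Subgroup.pow_index_mem (SK.subgroupOf D) (⟨z, hzM.1⟩ : D)
        rw [show (SK.subgroupOf D).index = r ^ k' from hk'] at h
        exact h
      obtain ⟨n, hn⟩ := exists_pow_eq_self_of_coprime (x := z) (n := r ^ k')
        (Nat.Coprime.pow_left _ hzr.symm)
      have hzSK : z ∈ SK := hn ▸ SK.pow_mem h1 n
      have hZle : Subgroup.zpowers z ≤
          Subgroup.centralizer ((Cfsg.pCore r T : Subgroup T) : Set T) := by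
        apply centralizes_of_trivial_on_frattini_quotient (Subgroup.zpowers z) (Cfsg.pCore r T)
        · rw [Subgroup.normalizer_eq_top_iff.mpr (pCore_normal r)]; exact le_top
        · rw [Nat.card_zpowers]
          obtain ⟨i, hi⟩ := IsPGroup.iff_card.mp
            ((pCore_isPGroup (G := T) r).to_subgroup (frattini _))
          rw [hi]; exact Nat.Coprime.pow_right _ hzr
        · intro a ha k hk
          have haSK : a ∈ SK := by
            obtain ⟨n, rfl⟩ := Subgroup.mem_zpowers_iff.mp ha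
            exact SK.zpow_mem hzSK n
          rw [hSKdef] at haSK
          exact (StableQuad.mem_sectionKernel_iff _ _ a).mp haSK k hk
      have hzCF : z ∈ Subgroup.centralizer (Cfsg.fittingSubgroup T : Set T) := by
        rw [hKL]
        have hle : (Cfsg.pCore r T ⊔ L) ≤ Subgroup.centralizer (Subgroup.zpowers z : Set T) := by
          apply sup_le
          · rw [← Subgroup.commutator_eq_bot_iff_le_centralizer, Subgroup.commutator_comm,
              Subgroup.commutator_eq_bot_iff_le_centralizer]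
            exact hZle
          · rw [← Subgroup.commutator_eq_bot_iff_le_centralizer, Subgroup.commutator_comm,
              Subgroup.commutator_eq_bot_iff_le_centralizer, Subgroup.zpowers_le]
            exact hzM.2
        rw [Subgroup.mem_centralizer_iff]; intro f hf
        exact (Subgroup.mem_centralizer_iff.mp (hle hf) z (Subgroup.mem_zpowers z)).symm
      have hzF : z ∈ Cfsg.pCore r T ⊔ L := hKL ▸ centralizer_fittingSubgroup_le hzCF
      have hzL : z ∈ L := by
        rw [← QuotientGroup.eq_one_iff (N := L)]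
        have hmem : (QuotientGroup.mk' L z) ∈ (Cfsg.pCore r T).map (QuotientGroup.mk' L) := by
          have := Subgroup.mem_map_of_mem (QuotientGroup.mk' L) hzF
          rw [Subgroup.map_sup, QuotientGroup.map_mk'_self, sup_bot_eq] at this
          exact this
        have hp : IsPGroup r ((Cfsg.pCore r T).map (QuotientGroup.mk' L)) :=
          (pCore_isPGroup r).map _
        obtain ⟨i, hi⟩ := hp ⟨_, hmem⟩
        have hi' : (QuotientGroup.mk' L z) ^ (r ^ i) = 1 := by
          simpa using congrArg Subtype.val hi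
        have ho : (QuotientGroup.mk' L z) ^ (orderOf z) = 1 := by
          rw [← map_pow, pow_orderOf_eq_one, map_one]
        have hd1 := orderOf_dvd_of_pow_eq_one hi'
        have hd2 := orderOf_dvd_of_pow_eq_one ho
        have hd : orderOf (QuotientGroup.mk' L z) ∣ Nat.gcd (r ^ i) (orderOf z) :=
          Nat.dvd_gcd hd1 hd2
        rw [Nat.Coprime.gcd_eq_one (Nat.Coprime.pow_left _ hzr.symm)] at hd
        exact orderOf_eq_one_iff.mp (Nat.dvd_one.mp hd)
      exact (Subgroup.mem_centralizer_iff.mp hmM.2 z hzL).symm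
    have hMnil : Group.IsNilpotent M := by
      have hQnil : Group.IsNilpotent (M ⧸ Subgroup.center M) := by
        have hP : IsPGroup r (M ⧸ Subgroup.center M) := by
          intro g
          obtain ⟨⟨m, hm⟩, rfl⟩ := QuotientGroup.mk'_surjective _ g
          have hn0 : orderOf m ≠ 0 := (orderOf_pos m).ne'
          obtain ⟨e, n, hn, hen⟩ := Nat.exists_eq_pow_mul_and_not_dvd hn0 r hr.out.ne_one
          refine ⟨e, ?_⟩
          rw [← map_pow, QuotientGroup.mk'_apply, QuotientGroup.eq_one_iff,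
            Subgroup.mem_center_iff]
          rintro ⟨m', hm'⟩
          apply Subtype.ext
          simp only [Subgroup.coe_mul, SubgroupClass.coe_pow]
          apply hcentral (m ^ (r ^ e)) (M.pow_mem hm _) _ m' hm'
          have hpow : (m ^ (r ^ e)) ^ n = 1 := by
            rw [← pow_mul, ← hen]; exact pow_orderOf_eq_one m
          exact Nat.Coprime.coprime_dvd_left (orderOf_dvd_of_pow_eq_one hpow)
            ((Nat.Prime.coprime_iff_not_dvd hr.out).mpr hn).symm
        exact hP.isNilpotent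
      exact Subgroup.isNilpotent_of_ker_le_center (QuotientGroup.mk' (Subgroup.center M))
        (by rw [QuotientGroup.ker_mk'])
    exact le_fittingSubgroup hMn hMnil hyM

theorem centralizer_le_of_scn [Finite T] [Group.IsSolvable T] (π : Set ℕ)
    (h2 : 2 ∉ π) (h3 : 3 ∉ π)
    (hπ' : ∀ N : Subgroup T, N.Normal → (∀ q : ℕ, q.Prime → q ∣ Nat.card N → q ∉ π) → N = ⊥)
    (F A : Subgroup T) (hF : Cfsg.fittingSubgroup T ≤ F)
    (hFA : F ≤ Subgroup.normalizer (A : Set T))
    (hcent : F ⊓ Subgroup.centralizer (A : Set T) ≤ A) :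
    Subgroup.centralizer (A : Set T) ≤ A := by
  have key : (Cfsg.fittingSubgroup T).subgroupOf (Subgroup.centralizer (A : Set T)) = ⊤ := by
    apply eq_top_of_forall_sylow_le
    intro p hp
    refine ⟨default, ?_⟩
    rintro ⟨g, hg⟩ hgP
    rw [Subgroup.mem_subgroupOf]
    obtain ⟨k, hk⟩ := (default : Sylow p ↥(Subgroup.centralizer (A : Set T))).isPGroup'
      ⟨⟨g, hg⟩, hgP⟩
    apply rElement_mem_fitting π h2 h3 hπ' F A hF hFA hcent p g k _ hg
    have := congrArg (fun x => ((x : Subgroup.centralizer (A : Set T)) : T))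
      (congrArg Subtype.val hk)
    simpa using this
  intro x hx
  have hx' : x ∈ Cfsg.fittingSubgroup T := Subgroup.subgroupOf_eq_top.mp key hx
  exact hcent ⟨hF hx', hx⟩

end Cfsg.Agent.Lib.Helper1.HallFit
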