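import Mathlib
import Cfsg.Prelude.Def_Local
import Cfsg.Prelude.Def_LocalEven
import Cfsg.Agent.Lib.Helper1.CycN2
import Cfsg.Agent.Lib.Helper1.HallFit1
import Cfsg.Agent.Lib.Helper1.PConstrainedOfPSolvable
import Cfsg.Agent.Lib.Helper1.PLengthOne
import Cfsg.Agent.Lib.Helper1.PSolvSub
import Cfsg.Agent.Lib.Helper1.QuadStable8
import Cfsg.Agent.Lib.Helper1.StableQuad4
import Cfsg.Agent.Lib.Helper2.HHDual
import Cfsg.Agent.Lib.Helper2.Involves
import Cfsg.Agent.Lib.Helper8.ThLoc3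

/-! Cyclic normal subgroups of a Sylow `p`-subgroup of a `p`-solvable group lie in `O_{p',p}(G)`
(`p` odd, or `G` is `S₄`-free). -/
set_option autoImplicit false
open Cfsg
namespace Cfsg.Agent.Lib.Helper1.CycN

variable {G : Type*} [Group G]

theorem false_of_config [Finite G] {p : ℕ} [hp : Fact p.Prime] (hsol : Cfsg.IsPSolvable p G)
    (V : Subgroup G) [hVn : V.Normal] (hV : Cfsg.IsElementaryAbelian p V)
    (hCV : Subgroup.centralizer (V : Set G) ≤ V)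
    (hOp : ∀ N : Subgroup G, N.Normal → IsPGroup p N → N ≤ V)
    (y : G) (hyV : y ∉ V) (hypV : y ^ p ∈ V)
    (hcomm : ∀ v ∈ V, y * v * y⁻¹ * v⁻¹ ∈ Subgroup.zpowers (y ^ p))
    (h : p ≠ 2 ∨ ¬ Cfsg.Involves (Equiv.Perm (Fin 4)) G) : False := by
  by_cases hp2 : p = 2
  swap
  · exact false_of_transvection hp2 V hV hCV hOp y hyV hypV hcomm
  subst hp2
  apply h.resolve_left (by simp)
  have hVC : V ≤ Subgroup.centralizer (V : Set G) := by
    intro v hv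
    rw [Subgroup.mem_centralizer_iff]
    intro u hu
    exact isElementaryAbelian_comm hV hu hv
  obtain ⟨P₀, hP₀⟩ : ∃ P₀ : Subgroup G, P₀ = Subgroup.centralizer (V : Set G) := ⟨_, rfl⟩
  have hP₀n : P₀.Normal := by rw [hP₀]; infer_instance
  have hP₀V : P₀ ≤ V := hP₀ ▸ hCV
  have hVP₀ : V ≤ P₀ := hP₀ ▸ hVC
  have hsurj := QuotientGroup.mk'_surjective P₀
  have hcore : Cfsg.pCore 2 (G ⧸ P₀) = ⊥ := by
    have hVp : IsPGroup 2 V := by
      intro v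
      exact ⟨1, by rw [pow_one]; exact Subtype.ext (hV.2 v v.2)⟩
    have h1 : IsPGroup 2 ((Cfsg.pCore 2 (G ⧸ P₀)).comap (QuotientGroup.mk' P₀)) := by
      apply (pCore_isPGroup 2).comap_of_ker_isPGroup
      rw [QuotientGroup.ker_mk']
      exact hVp.to_le hP₀V
    have h2 : (Cfsg.pCore 2 (G ⧸ P₀)).comap (QuotientGroup.mk' P₀) ≤ V :=
      hOp _ ((pCore_normal 2).comap _) h1
    rw [eq_bot_iff, ← Subgroup.map_comap_eq_self_of_surjective hsurj (Cfsg.pCore 2 (G ⧸ P₀))]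
    calc ((Cfsg.pCore 2 (G ⧸ P₀)).comap (QuotientGroup.mk' P₀)).map (QuotientGroup.mk' P₀)
        ≤ P₀.map (QuotientGroup.mk' P₀) := Subgroup.map_mono (h2.trans hVP₀)
      _ = ⊥ := QuotientGroup.map_mk'_self P₀
  have hQodd : (Nat.card (Cfsg.pPrimeCore 2 (G ⧸ P₀))).Coprime 2 :=
    Cfsg.Agent.Lib.Helper2.pPrimeCore_card_coprime 2
  have hCQ := Cfsg.Agent.Lib.Helper2.centralizer_pPrimeCore_le 2
    (isPSolvable_of_surjective 2 (QuotientGroup.mk' P₀) hsurj hsol) hcore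
  have hyP₀ : y ∉ P₀ := fun hy => hyV (hP₀V hy)
  have hy2 : y ^ 2 ∈ P₀ := hVP₀ hypV
  have hy21 : y ^ 2 ≠ 1 := by
    intro h1
    apply hyP₀
    rw [hP₀, Subgroup.mem_centralizer_iff]
    intro v hv
    have h2 := hcomm v hv
    rw [h1, Subgroup.zpowers_one_eq_bot, Subgroup.mem_bot] at h2
    calc v * y = (y * v * y⁻¹ * v⁻¹)⁻¹ * (y * v) := by group
      _ = y * v := by rw [h2]; group
  have hScard : Nat.card (Subgroup.zpowers (y ^ 2)) = 2 := by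
    rw [Nat.card_zpowers]
    have h1 : (y ^ 2) ^ 2 = 1 := hV.2 _ hypV
    rcases (Nat.dvd_prime Nat.prime_two).mp (orderOf_dvd_of_pow_eq_one h1) with h2 | h2
    · exact absurd (orderOf_eq_one_iff.mp h2) hy21
    · exact h2
  exact Cfsg.Agent.Lib.Helper8.ThLoc.involves_S4_of_transvection V P₀ hP₀ hV
    (Cfsg.pPrimeCore 2 (G ⧸ P₀)) hQodd hCQ y hyP₀ hy2 (Subgroup.zpowers (y ^ 2))
    (Subgroup.zpowers_le.mpr hypV) hScard hcomm

theorem le_pCore_of_cyclic_normal [Finite G] {p : ℕ} [hp : Fact p.Prime]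
    (hsol : Cfsg.IsPSolvable p G) (hbot : Cfsg.pPrimeCore p G = ⊥) (P : Sylow p G)
    (A : Subgroup G) (hAP : A ≤ (P : Subgroup G))
    (hAn : (P : Subgroup G) ≤ Subgroup.normalizer (A : Set G)) (hA : IsCyclic A)
    (h : p ≠ 2 ∨ ¬ Cfsg.Involves (Equiv.Perm (Fin 4)) G) : A ≤ Cfsg.pCore p G := by
  classical
  by_contra hAQ
  obtain ⟨Q, hQdef⟩ : ∃ Q : Subgroup G, Q = Cfsg.pCore p G := ⟨_, rfl⟩
  rw [← hQdef] at hAQ
  have hQn : Q.Normal := by rw [hQdef]; exact pCore_normal p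
  have hQp : IsPGroup p Q := by rw [hQdef]; exact pCore_isPGroup p
  have hQP : Q ≤ P := by rw [hQdef]; exact pCore_le_sylow p P
  have hleQ : ∀ N : Subgroup G, N.Normal → IsPGroup p N → N ≤ Q := fun N hN hNp =>
    le_trans (le_pCore hN hNp) (le_of_eq hQdef.symm)
  have hcQ : Subgroup.centralizer (Q : Set G) ≤ Q := by
    rw [hQdef]
    exact centralizer_pCore_le_of_isPSolvable hbot (PSolvSub.isPSolvable_subgroup hsol _)
  obtain ⟨⟨x, hxA⟩, hx⟩ := hA.exists_generator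
  have hAx : ∀ a ∈ A, ∃ j : ℤ, x ^ j = a := by
    intro a ha
    obtain ⟨j, hj⟩ := Subgroup.mem_zpowers_iff.mp (hx ⟨a, ha⟩)
    exact ⟨j, by simpa using congrArg Subtype.val hj⟩
  have hxQ : x ∉ Q := fun hxQ => hAQ (fun a ha => by
    obtain ⟨j, rfl⟩ := hAx a ha; exact Q.zpow_mem hxQ j)
  have hex : ∃ d : ℕ, 0 < d ∧ x ^ d ∈ Q :=
    ⟨orderOf x, orderOf_pos x, by rw [pow_orderOf_eq_one]; exact Q.one_mem⟩
  obtain ⟨d, hd⟩ : ∃ d, d = Nat.find hex := ⟨_, rfl⟩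
  have hd0 : 0 < d := hd ▸ (Nat.find_spec hex).1
  have hdQ : x ^ d ∈ Q := hd ▸ (Nat.find_spec hex).2
  have hdmin : ∀ m : ℕ, 0 < m → m < d → x ^ m ∉ Q := by
    intro m hm0 hmd hmQ
    exact Nat.find_min hex (hd ▸ hmd) ⟨hm0, hmQ⟩
  have hdiv : ∀ j : ℤ, x ^ j ∈ Q → (d : ℤ) ∣ j := by
    intro j hj
    have hd0' : (d : ℤ) ≠ 0 := by exact_mod_cast hd0.ne'
    have hr0 : 0 ≤ j % (d : ℤ) := Int.emod_nonneg j hd0'
    have hrd : j % (d : ℤ) < d := Int.emod_lt_of_pos j (by exact_mod_cast hd0)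
    have hxr : x ^ (j % (d : ℤ)) ∈ Q := by
      have e : j % (d : ℤ) = j - d * (j / d) := by rw [Int.emod_def]
      rw [e, zpow_sub, zpow_mul, zpow_natCast]
      exact Q.mul_mem hj (Q.inv_mem (Q.zpow_mem hdQ _))
    by_contra hnd
    have hrne : j % (d : ℤ) ≠ 0 := fun h0 => hnd (Int.dvd_of_emod_eq_zero h0)
    obtain ⟨r, hr⟩ := Int.eq_ofNat_of_zero_le hr0
    rw [hr, zpow_natCast] at hxr
    have hr0' : 0 < r := by
      rcases Nat.eq_zero_or_pos r with h0 | h0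
      · exfalso; apply hrne; rw [hr, h0]; rfl
      · exact h0
    have hrd' : r < d := by rw [hr] at hrd; exact_mod_cast hrd
    exact hdmin r hr0' hrd' hxr
  obtain ⟨N, hN⟩ : ∃ N, orderOf x = p ^ N := by
    obtain ⟨N, hN⟩ := (IsPGroup.iff_orderOf.mp P.isPGroup') ⟨x, hAP hxA⟩
    exact ⟨N, by rw [← hN]; exact (Subgroup.orderOf_mk x _).symm⟩
  have hdN : d ∣ p ^ N := by
    have h1 := hdiv (orderOf x) (by rw [zpow_natCast, pow_orderOf_eq_one]; exact Q.one_mem)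
    rw [hN] at h1; exact_mod_cast h1
  obtain ⟨k, -, hk⟩ := (Nat.dvd_prime_pow hp.out).mp hdN
  have hk0 : k ≠ 0 := by
    intro h0; rw [h0, pow_zero] at hk; rw [hk, pow_one] at hdQ; exact hxQ hdQ
  obtain ⟨k', rfl⟩ := Nat.exists_eq_succ_of_ne_zero hk0
  obtain ⟨y, hy⟩ : ∃ y : G, y = x ^ (p ^ k') := ⟨_, rfl⟩
  have hyA : y ∈ A := hy ▸ A.pow_mem hxA _
  have hyQ : y ∉ Q := by
    rw [hy]; apply hdmin _ (pow_pos hp.out.pos _)
    rw [hk]; exact Nat.pow_lt_pow_right hp.out.one_lt (Nat.lt_succ_self k')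
  have hyp : y ^ p = x ^ d := by rw [hy, ← pow_mul, hk, pow_succ]
  have hypQ : y ^ p ∈ Q := hyp ▸ hdQ
  have hcommQ : ∀ q ∈ Q, y * q * y⁻¹ * q⁻¹ ∈ Subgroup.zpowers (y ^ p) := by
    intro q hq
    have h1 : y * q * y⁻¹ * q⁻¹ ∈ Q := Q.mul_mem (hQn.conj_mem q hq y) (Q.inv_mem hq)
    have h2 : y * q * y⁻¹ * q⁻¹ ∈ A := by
      have h3 : q * y⁻¹ * q⁻¹ ∈ A :=
        (Subgroup.mem_normalizer_iff.mp (hAn (hQP hq)) _).mp (A.inv_mem hyA)
      have e : y * q * y⁻¹ * q⁻¹ = y * (q * y⁻¹ * q⁻¹) := by group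
      rw [e]; exact A.mul_mem hyA h3
    obtain ⟨j, hj⟩ := hAx _ h2
    obtain ⟨m, hm⟩ := hdiv j (hj ▸ h1)
    rw [Subgroup.mem_zpowers_iff]
    refine ⟨m, ?_⟩
    rw [hyp, ← hj, hm, zpow_mul, zpow_natCast]
  -- pass to `G / Φ(Q)`
  obtain ⟨Φ, hΦ⟩ : ∃ Φ : Subgroup G, Φ = (frattini ↥Q).map Q.subtype := ⟨_, rfl⟩
  have hΦn : Φ.Normal := by rw [hΦ]; infer_instance
  have hΦQ : Φ ≤ Q := by rw [hΦ]; exact Subgroup.map_subtype_le _
  have hsurj := QuotientGroup.mk'_surjective Φ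
  have hVn : (Q.map (QuotientGroup.mk' Φ)).Normal := hQn.map _ hsurj
  have hV : Cfsg.IsElementaryAbelian p (Q.map (QuotientGroup.mk' Φ)) :=
    QuadSL2.isElementaryAbelian_map_mk_of_frattini Q hQp Φ (le_of_eq hΦ.symm)
  have hSKle : Cfsg.sectionKernel Q Φ ≤ Q := by
    have hSKp : IsPGroup p (Cfsg.sectionKernel Q Φ) := by
      subst hΦ
      exact StableQuad.isPGroup_sectionKernel_frattini Q hQp hcQ
    exact hleQ _ (HallFit.sectionKernel_normal Q Φ) hSKp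
  apply false_of_config (isPSolvable_of_surjective p (QuotientGroup.mk' Φ) hsurj hsol)
    (Q.map (QuotientGroup.mk' Φ)) hV ?_ ?_ (QuotientGroup.mk' Φ y) ?_ ?_ ?_ ?_
  · intro c hc
    obtain ⟨g, rfl⟩ := hsurj c
    have hg : g ∈ Cfsg.sectionKernel Q Φ := hc
    exact ⟨g, hSKle hg, rfl⟩
  · intro M hM hMp
    have h1 : IsPGroup p (M.comap (QuotientGroup.mk' Φ)) := by
      apply hMp.comap_of_ker_isPGroup
      rw [QuotientGroup.ker_mk']
      exact hQp.to_le hΦQ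
    have h2 : M.comap (QuotientGroup.mk' Φ) ≤ Q := hleQ _ (hM.comap _) h1
    intro n hn
    obtain ⟨g, rfl⟩ := hsurj n
    exact ⟨g, h2 hn, rfl⟩
  · rintro ⟨q, hq, hqy⟩
    have h1 : q⁻¹ * y ∈ Φ := by
      rw [← QuotientGroup.ker_mk' Φ, MonoidHom.mem_ker, map_mul, map_inv, hqy, inv_mul_cancel]
    apply hyQ
    have e : y = q * (q⁻¹ * y) := by group
    rw [e]; exact Q.mul_mem hq (hΦQ h1)
  · rw [← map_pow]; exact Subgroup.mem_map_of_mem _ hypQ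
  · rintro _ ⟨q, hq, rfl⟩
    have h1 := Subgroup.mem_map_of_mem (QuotientGroup.mk' Φ) (hcommQ q hq)
    rw [MonoidHom.map_zpowers, map_pow, map_mul, map_mul, map_mul, map_inv, map_inv] at h1
    exact h1
  · rcases h with h | h
    · exact Or.inl h
    · exact Or.inr (fun hinv => h (Cfsg.Agent.Lib.Helper2.Inv.involves_of_quotient Φ hinv))

theorem s3788 [Finite G] {p : ℕ} [Fact p.Prime] (hG : Cfsg.IsPSolvable p G) (P : Sylow p G)
    (A : Subgroup G) (hAP : A ≤ (P : Subgroup G))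
    (hAn : (P : Subgroup G) ≤ Subgroup.normalizer (A : Set G)) (hA : IsCyclic A)
    (h : p ≠ 2 ∨ ¬ Cfsg.Involves (Equiv.Perm (Fin 4)) G) : A ≤ Cfsg.pPrimePCore p G := by
  unfold Cfsg.pPrimePCore
  rw [← Subgroup.map_le_iff_le_comap]
  have hsurj := QuotientGroup.mk'_surjective (Cfsg.pPrimeCore p G)
  apply le_pCore_of_cyclic_normal (isPSolvable_of_surjective p _ hsurj hG)
    (pPrimeCore_quotient_eq_bot p) (P.mapSurjective hsurj) (A.map _)
  · rw [Sylow.coe_mapSurjective]; exact Subgroup.map_mono hAP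
  · rw [Sylow.coe_mapSurjective]
    exact (Subgroup.map_mono hAn).trans (Subgroup.le_normalizer_map _)
  · exact isCyclic_of_surjective ((QuotientGroup.mk' (Cfsg.pPrimeCore p G)).subgroupMap A)
      (MonoidHom.subgroupMap_surjective _ _)
  · rcases h with h | h
    · exact Or.inl h
    · exact Or.inr (fun hinv => h (Cfsg.Agent.Lib.Helper2.Inv.involves_of_quotient _ hinv))

end Cfsg.Agent.Lib.Helper1.CycN
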