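import Mathlib
import Cfsg.Prelude.Def_SolvableStructure
import Cfsg.Agent.Lib.Helper1.SupersolvableInd

/-! Supersolvable groups: the derived subgroup is nilpotent. -/
set_option autoImplicit false
universe u v
open Cfsg
namespace Cfsg.Agent.Lib.Helper1
variable {G : Type u} [Group G]

theorem commutator_le_centralizer_of_isCyclic_normal (N : Subgroup G) [hN : N.Normal]
    [hc : IsCyclic N] : commutator G ≤ Subgroup.centralizer (N : Set G) := by
  let _ := (hc.mulAutMulEquiv N).toMonoidHom.commGroupOfInjective (hc.mulAutMulEquiv N).injective
  have h := Abelianization.commutator_subset_ker N.normalizerMonoidHom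
  rw [Subgroup.normalizerMonoidHom_ker] at h
  intro x hx
  have hxn : x ∈ Subgroup.normalizer (N : Set G) := by
    rw [Subgroup.normalizer_eq_top]; exact Subgroup.mem_top x
  have h1 : (⟨x, hxn⟩ : Subgroup.normalizer (N : Set G)) ∈ commutator (Subgroup.normalizer (N : Set G)) := by
    have h2 : (commutator (Subgroup.normalizer (N : Set G))).map (Subgroup.normalizer (N : Set G)).subtype =
        commutator G := by
      rw [Subgroup.map_subtype_commutator, Subgroup.normalizer_eq_top, commutator_def]
    rw [← h2] at hx
    obtain ⟨y, hy, hyx⟩ := hx
    have : y = ⟨x, hxn⟩ := Subtype.ext hyx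
    rw [← this]; exact hy
  exact h h1

theorem isNilpotent_commutator_of_isSupersolvable (G : Type u) [Group G] [Finite G]
    (hG : IsSupersolvable G) : Group.IsNilpotent (commutator G) := by
  refine supersolvable_induction (fun G _ => Group.IsNilpotent (commutator G)) ?_ ?_ G hG
  · intro G _ _
    infer_instance
  · intro G _ _ N _ hNc _ _ ih
    let f : commutator G →* G ⧸ N := (QuotientGroup.mk' N).comp (commutator G).subtype
    have hrange : f.range = commutator (G ⧸ N) := by
      rw [MonoidHom.range_eq_map, ← Subgroup.map_map, ← MonoidHom.range_eq_map, Subgroup.range_subtype,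
        commutator_def, Subgroup.map_commutator,
        Subgroup.map_top_of_surjective _ (QuotientGroup.mk'_surjective N), commutator_def]
    have hker : f.rangeRestrict.ker ≤ Subgroup.center (commutator G) := by
      rw [MonoidHom.ker_rangeRestrict]
      intro x hx
      rw [MonoidHom.mem_ker] at hx
      have hxN : (x : G) ∈ N := (QuotientGroup.eq_one_iff _).mp hx
      rw [Subgroup.mem_center_iff]
      intro y
      have := commutator_le_centralizer_of_isCyclic_normal N y.2
      rw [Subgroup.mem_centralizer_iff] at this
      apply Subtype.ext
      have h2 := this x hxN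
      simp only [Subgroup.coe_mul]
      exact h2.symm
    have hnil : Group.IsNilpotent f.range := by rw [hrange]; exact ih
    exact Subgroup.isNilpotent_of_ker_le_center f.rangeRestrict hker

end Cfsg.Agent.Lib.Helper1
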