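import Mathlib
import Cfsg.Agent.Lib.Helper1.SupersolvableDerived
set_option autoImplicit false
universe u v
open scoped commutatorElement
namespace Cfsg.Agent.Lib.Helper1
variable {G : Type u} [Group G]

theorem derived_two_cyclic_aux (A B C : Subgroup G) [hBn : B.Normal] [hCn : C.Normal]
    (hBA : B = ⁅A, A⁆) (hCB : C = ⁅B, B⁆) (hAcomm : A ≤ commutator G)
    (hBleA : B ≤ A) (hCleB : C ≤ B)
    (h₁ : IsCyclic (↥A ⧸ B.subgroupOf A)) (h₂ : IsCyclic (↥B ⧸ C.subgroupOf B)) : B = C := by
  obtain ⟨π, hπ⟩ : ∃ π : G →* G ⧸ C, π = QuotientGroup.mk' C := ⟨_, rfl⟩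
  have hπs : Function.Surjective π := by rw [hπ]; exact QuotientGroup.mk'_surjective C
  have hker : π.ker = C := by rw [hπ]; exact QuotientGroup.ker_mk' C
  -- N cyclic normal
  have hNn : (B.map π).Normal := hBn.map π hπs
  have hNc : IsCyclic (B.map π) := by
    let f : B →* B.map π := π.subgroupMap B
    have hf : Function.Surjective f := π.subgroupMap_surjective B
    have hfk : C.subgroupOf B ≤ f.ker := by
      intro x hx
      rw [MonoidHom.mem_ker]
      apply Subtype.ext
      show π x = 1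
      have : (x : G) ∈ π.ker := by rw [hker]; exact Subgroup.mem_subgroupOf.mp hx
      exact this
    exact isCyclic_of_surjective (QuotientGroup.lift (C.subgroupOf B) f hfk)
      (QuotientGroup.lift_surjective_of_surjective _ _ hf _)
  have hcen := commutator_le_centralizer_of_isCyclic_normal (B.map π)
  have hAmap : A.map π ≤ commutator (G ⧸ C) := by
    refine le_trans (Subgroup.map_mono hAcomm) ?_
    rw [commutator_def, Subgroup.map_commutator, commutator_def]
    exact Subgroup.commutator_mono le_top le_top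
  -- step 1
  have step1 : ∀ a ∈ A, ∀ b ∈ B, ⁅b, a⁆ ∈ C := by
    intro a ha b hb
    have h1 : π a ∈ Subgroup.centralizer ((B.map π : Subgroup (G ⧸ C)) : Set (G ⧸ C)) :=
      hcen (hAmap (Subgroup.mem_map_of_mem π ha))
    have h2 := (Subgroup.mem_centralizer_iff.mp h1) (π b) (Subgroup.mem_map_of_mem π hb)
    rw [← hker, MonoidHom.mem_ker, commutatorElement_def, map_mul, map_mul, map_mul, map_inv,
      map_inv, h2]
    group
  -- step 2
  let X := ↥A ⧸ C.subgroupOf A
  have hCAn : (C.subgroupOf A).Normal := hCn.subgroupOf A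
  have hBAn : (B.subgroupOf A).Normal := hBn.subgroupOf A
  let f : X →* ↥A ⧸ B.subgroupOf A :=
    QuotientGroup.map (C.subgroupOf A) (B.subgroupOf A) (MonoidHom.id ↥A) (by
      intro x hx
      rw [Subgroup.mem_comap, MonoidHom.id_apply, Subgroup.mem_subgroupOf]
      exact hCleB (Subgroup.mem_subgroupOf.mp hx))
  have hfker : f.ker ≤ Subgroup.center X := by
    intro x hx
    obtain ⟨b, rfl⟩ := QuotientGroup.mk_surjective x
    rw [MonoidHom.mem_ker] at hx
    have hb : b ∈ B.subgroupOf A := by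
      have : f (QuotientGroup.mk b) = QuotientGroup.mk b := rfl
      rw [this, QuotientGroup.eq_one_iff] at hx
      exact hx
    rw [Subgroup.mem_subgroupOf] at hb
    rw [Subgroup.mem_center_iff]
    intro y
    obtain ⟨a, rfl⟩ := QuotientGroup.mk_surjective y
    rw [← QuotientGroup.mk_mul, ← QuotientGroup.mk_mul]
    apply (QuotientGroup.eq).mpr
    rw [Subgroup.mem_subgroupOf]
    have h3 := step1 a a.2 b hb
    have : (((a * b)⁻¹ * (b * a) : A) : G) =
        ((a : G) * (b : G))⁻¹ * ⁅(b : G), (a : G)⁆ * ((a : G) * (b : G)) := by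
      simp only [Subgroup.coe_mul, Subgroup.coe_inv, commutatorElement_def]
      group
    rw [this]
    exact hCn.conj_mem' _ h3 _
  have hXc := MonoidHom.isMulCommutative_of_isCyclic_of_ker_le_center f hfker
  have hXcomm : ∀ a b : X, a * b = b * a := fun a b => mul_comm' a b
  apply le_antisymm _ hCleB
  rw [hBA, Subgroup.commutator_le]
  intro a ha a' ha'
  have h4 := hXcomm (QuotientGroup.mk (⟨a, ha⟩ : A)) (QuotientGroup.mk (⟨a', ha'⟩ : A))
  rw [← QuotientGroup.mk_mul, ← QuotientGroup.mk_mul] at h4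
  have h5 := (QuotientGroup.eq).mp h4
  rw [Subgroup.mem_subgroupOf] at h5
  have : ⁅a, a'⁆ = (a * a') * ((((⟨a, ha⟩ : A) * ⟨a', ha'⟩)⁻¹ * (⟨a', ha'⟩ * ⟨a, ha⟩) : A) : G)⁻¹ * (a * a')⁻¹ := by
    simp only [Subgroup.coe_mul, Subgroup.coe_inv, commutatorElement_def]
    group
  rw [this]
  exact hCn.conj_mem _ (C.inv_mem h5) _

theorem derived_series_two_cyclic (i : ℕ) (hi : 1 ≤ i)
    (h₁ : IsCyclic (↥(derivedSeries G i) ⧸ (derivedSeries G (i + 1)).subgroupOf (derivedSeries G i)))
    (h₂ : IsCyclic (↥(derivedSeries G (i + 1)) ⧸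
      (derivedSeries G (i + 2)).subgroupOf (derivedSeries G (i + 1)))) :
    derivedSeries G (i + 1) = derivedSeries G (i + 2) := by
  apply derived_two_cyclic_aux (derivedSeries G i) (derivedSeries G (i + 1)) (derivedSeries G (i + 2))
    (derivedSeries_succ G i) (derivedSeries_succ G (i + 1)) _
    (derivedSeries_antitone G (Nat.le_succ i)) (derivedSeries_antitone G (Nat.le_succ (i + 1))) h₁ h₂
  rw [← derivedSeries_one]; exact derivedSeries_antitone G hi

end Cfsg.Agent.Lib.Helper1
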