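import Mathlib

set_option autoImplicit false
universe u
namespace Cfsg.Agent.Lib.Helper1

/-- Recognition of dihedral groups: a group of order `2m` generated by `a` of order `m` and `b`
outside `⟨a⟩` with `b² = 1` and `b a b⁻¹ = a⁻¹` is isomorphic to `DihedralGroup m`. -/
theorem nonempty_mulEquiv_dihedralGroup {Y : Type u} [Group Y] [Finite Y] (m : ℕ) [NeZero m]
    (a b : Y) (ha : orderOf a = m) (hb : b ∉ Subgroup.zpowers a) (hb2 : b * b = 1)
    (hconj : b * a * b⁻¹ = a⁻¹) (hcard : Nat.card Y = 2 * m) :
    Nonempty (Y ≃* DihedralGroup m) := by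
  -- the additive hom ρ : ZMod m →+ Additive Y
  let f0 : ℤ →+ Additive Y := zmultiplesHom (Additive Y) (Additive.ofMul a)
  have hf0 : ∀ k : ℤ, f0 k = Additive.ofMul (a ^ k) := by
    intro k
    simp [f0, zmultiplesHom_apply]
  have hf0m : f0 (m : ℤ) = 0 := by
    rw [hf0, zpow_natCast, ← ha, pow_orderOf_eq_one]; rfl
  let ρ : ZMod m →+ Additive Y := ZMod.lift m ⟨f0, hf0m⟩
  have hρ : ∀ k : ℤ, ρ (k : ZMod m) = Additive.ofMul (a ^ k) := by
    intro k
    rw [ZMod.lift_coe]; exact hf0 k
  let g : ZMod m → Y := fun i => Additive.toMul (ρ i)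
  have hg_add : ∀ i j, g (i + j) = g i * g j := by
    intro i j
    show Additive.toMul (ρ (i + j)) = _
    rw [map_add]; rfl
  have hg_sub : ∀ i j, g (j - i) = (g i)⁻¹ * g j := by
    intro i j
    show Additive.toMul (ρ (j - i)) = _
    rw [sub_eq_neg_add, map_add, map_neg]; rfl
  have hg_int : ∀ k : ℤ, g (k : ZMod m) = a ^ k := fun k => by
    show Additive.toMul (ρ (k : ZMod m)) = _
    rw [hρ]; rfl
  have hg_mem : ∀ i, g i ∈ Subgroup.zpowers a := by
    intro i
    obtain ⟨k, rfl⟩ := ZMod.intCast_surjective i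
    rw [hg_int]
    exact Subgroup.zpow_mem_zpowers a k
  have hg_inj : Function.Injective g := by
    intro i j hij
    obtain ⟨k, rfl⟩ := ZMod.intCast_surjective i
    obtain ⟨l, rfl⟩ := ZMod.intCast_surjective j
    rw [hg_int, hg_int, zpow_eq_zpow_iff_modEq, ha] at hij
    exact (ZMod.intCast_eq_intCast_iff k l m).mpr hij
  have hbinv : b⁻¹ = b := inv_eq_of_mul_eq_one_left hb2
  have hg_conj : ∀ i, g i * b = b * (g i)⁻¹ := by
    intro i
    obtain ⟨k, rfl⟩ := ZMod.intCast_surjective i
    rw [hg_int]
    have h1 : b * a ^ k * b⁻¹ = (a ^ k)⁻¹ := by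
      have : b * a ^ k * b⁻¹ = (b * a * b⁻¹) ^ k := by
        rw [← MulAut.conj_apply, map_zpow, MulAut.conj_apply]
      rw [this, hconj, inv_zpow]
    calc a ^ k * b = b * (b⁻¹ * a ^ k * b) := by group
      _ = b * (b * a ^ k * b⁻¹) := by rw [hbinv]
      _ = b * (a ^ k)⁻¹ := by rw [h1]
  let F : DihedralGroup m → Y := fun x =>
    match x with
    | DihedralGroup.r i => g i
    | DihedralGroup.sr i => b * g i
  have hFr : ∀ i, F (DihedralGroup.r i) = g i := fun i => rfl
  have hFsr : ∀ i, F (DihedralGroup.sr i) = b * g i := fun i => rfl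
  have hFmul : ∀ x y, F (x * y) = F x * F y := by
    intro x y
    cases x with
    | r i =>
      cases y with
      | r j => rw [DihedralGroup.r_mul_r, hFr, hFr, hFr, hg_add]
      | sr j =>
        rw [DihedralGroup.r_mul_sr, hFsr, hFr, hFsr, hg_sub, ← mul_assoc, ← mul_assoc, hg_conj]
    | sr i =>
      cases y with
      | r j => rw [DihedralGroup.sr_mul_r, hFsr, hFsr, hFr, hg_add, mul_assoc]
      | sr j =>
        rw [DihedralGroup.sr_mul_sr, hFr, hFsr, hFsr, hg_sub]
        calc (g i)⁻¹ * g j = (b * b) * (g i)⁻¹ * g j := by rw [hb2, one_mul]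
          _ = b * (b * (g i)⁻¹) * g j := by group
          _ = b * (g i * b) * g j := by rw [hg_conj]
          _ = b * g i * (b * g j) := by group
  have hFinj : Function.Injective F := by
    intro x y hxy
    cases x with
    | r i =>
      cases y with
      | r j => rw [hFr, hFr] at hxy; rw [hg_inj hxy]
      | sr j =>
        exfalso
        rw [hFr, hFsr] at hxy
        apply hb
        have : b = g i * (g j)⁻¹ := by rw [hxy]; group
        rw [this]
        exact Subgroup.mul_mem _ (hg_mem i) (Subgroup.inv_mem _ (hg_mem j))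
    | sr i =>
      cases y with
      | r j =>
        exfalso
        rw [hFr, hFsr] at hxy
        apply hb
        have : b = g j * (g i)⁻¹ := by rw [← hxy]; group
        rw [this]
        exact Subgroup.mul_mem _ (hg_mem j) (Subgroup.inv_mem _ (hg_mem i))
      | sr j =>
        rw [hFsr, hFsr] at hxy
        rw [hg_inj (mul_left_cancel hxy)]
  have hFbij : Function.Bijective F := by
    apply hFinj.bijective_of_nat_card_le
    rw [hcard, DihedralGroup.nat_card]
  let Fhom : DihedralGroup m →* Y :=
    { toFun := F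
      map_one' := by
        have : (1 : DihedralGroup m) = DihedralGroup.r 0 := rfl
        rw [this, hFr]
        have h0 := hg_add 0 0
        rw [add_zero] at h0
        exact (mul_eq_left.mp h0.symm)
      map_mul' := hFmul }
  exact ⟨(MulEquiv.ofBijective Fhom hFbij).symm⟩

end Cfsg.Agent.Lib.Helper1
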