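import Mathlib
import Cfsg.Prelude.Def_Transfer
import Cfsg.Agent.Lib.Helper1.ThompsonTransfer
import Cfsg.Agent.Lib.Helper1.PResidual

set_option autoImplicit false
universe u
namespace Cfsg.Agent.Lib.Helper1
variable {G : Type u} [Group G]

theorem zmod_two_pow_eq_of_double_eq_zero (n : ℕ) (hn : 1 ≤ n) (i j : ZMod (2 ^ n))
    (hi : i + i = 0) (hi0 : i ≠ 0) (hj : j + j = 0) (hj0 : j ≠ 0) : i = j := by
  have hne : NeZero (2 ^ n) := ⟨by positivity⟩
  have key : ∀ k : ZMod (2 ^ n), k + k = 0 → k ≠ 0 → k.val = 2 ^ (n - 1) := by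
    intro k hk hk0
    have h1 : (k + k).val = 0 := by rw [hk, ZMod.val_zero]
    rw [ZMod.val_add] at h1
    have h2 : 2 ^ n ∣ k.val + k.val := Nat.dvd_of_mod_eq_zero h1
    have h3 : k.val < 2 ^ n := ZMod.val_lt k
    have h4 : k.val ≠ 0 := fun h => hk0 ((ZMod.val_eq_zero k).mp h)
    obtain ⟨c, hc⟩ := h2
    have h5 : 2 ^ n = 2 ^ (n - 1) * 2 := by rw [← pow_succ, Nat.sub_add_cancel hn]
    have hc1 : c = 1 := by
      have hpos : 0 < 2 ^ n := by positivity
      have : c < 2 := by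
        by_contra hge
        push Not at hge
        have : 2 ^ n * 2 ≤ 2 ^ n * c := Nat.mul_le_mul_left _ hge
        omega
      have : c ≠ 0 := by
        rintro rfl
        omega
      omega
    rw [hc1, mul_one] at hc
    omega
  apply ZMod.val_injective
  rw [key i hi hi0, key j hj hj0]

theorem dihedral_sylow_involutions_conj [Finite G] (T : Sylow 2 G) (n : ℕ) (hn : 2 ≤ n)
    (hT : Nonempty ((T : Subgroup G) ≃* DihedralGroup (2 ^ n)))
    (hO : Cfsg.pResidual 2 G = ⊤) (x y : G) (hx : orderOf x = 2) (hy : orderOf y = 2) :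
    ∃ g : G, g * x * g⁻¹ = y := by
  have : Fact (Nat.Prime 2) := ⟨Nat.prime_two⟩
  obtain ⟨e⟩ := hT
  have hne : NeZero (2 ^ n) := ⟨by positivity⟩
  -- no normal subgroup of index 2
  have hno2 : ¬ ∃ M : Subgroup G, M.Normal ∧ M.index = 2 ∧ x ∉ M ∨ M.Normal ∧ M.index = 2 := by
    rintro ⟨M, hM⟩
    have hM' : M.Normal ∧ M.index = 2 := by
      rcases hM with ⟨h1, h2, -⟩ | h
      · exact ⟨h1, h2⟩
      · exact h
    obtain ⟨hMn, hMi⟩ := hM'
    have hp : IsPGroup 2 (G ⧸ M) := IsPGroup.of_card (n := 1) (by rw [pow_one]; exact hMi)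
    have hle := pResidual_le_of_isPGroup_quotient M hp
    rw [hO, top_le_iff] at hle
    rw [hle, Subgroup.index_top] at hMi
    omega
  have hno2' : ∀ M : Subgroup G, M.Normal → M.index ≠ 2 := by
    intro M hMn hMi
    exact hno2 ⟨M, Or.inr ⟨hMn, hMi⟩⟩
  -- the rotation subgroup
  obtain ⟨R, hR⟩ : ∃ R : Subgroup (DihedralGroup (2 ^ n)), R = Subgroup.zpowers (DihedralGroup.r 1) :=
    ⟨_, rfl⟩
  obtain ⟨Q', hQ'⟩ : ∃ Q' : Subgroup (T : Subgroup G), Q' = R.comap e.toMonoidHom := ⟨_, rfl⟩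
  obtain ⟨Q, hQ⟩ : ∃ Q : Subgroup G, Q = Q'.map (T : Subgroup G).subtype := ⟨_, rfl⟩
  have hQT : Q ≤ (T : Subgroup G) := by rw [hQ]; exact Subgroup.map_subtype_le _
  have hRi : R.index = 2 := by
    have h1 := Subgroup.card_mul_index R
    rw [hR, Nat.card_zpowers, DihedralGroup.orderOf_r_one, DihedralGroup.nat_card, mul_comm] at h1
    rw [hR]
    exact Nat.eq_of_mul_eq_mul_right (show 0 < 2 ^ n by positivity) h1
  have hQi : Q.relIndex (T : Subgroup G) = 2 := by
    rw [Subgroup.relIndex, hQ]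
    have : (Q'.map (T : Subgroup G).subtype).subgroupOf (T : Subgroup G) = Q' :=
      Subgroup.comap_map_eq_self_of_injective (Subgroup.subtype_injective _) _
    rw [this, hQ', Subgroup.index_comap_of_surjective _ e.surjective]
    exact hRi
  -- uniqueness of the involution in Q
  have huniq : ∀ u v : G, u ∈ Q → v ∈ Q → orderOf u = 2 → orderOf v = 2 → u = v := by
    intro u v hu hv hou hov
    rw [hQ] at hu hv
    obtain ⟨t, ht, rfl⟩ := hu
    obtain ⟨s, hs, rfl⟩ := hv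
    have ht' : t ∈ Q' := ht
    have hs' : s ∈ Q' := hs
    rw [hQ', Subgroup.mem_comap, hR] at ht' hs'
    obtain ⟨i, hi⟩ := Subgroup.mem_zpowers_iff.mp ht'
    obtain ⟨j, hj⟩ := Subgroup.mem_zpowers_iff.mp hs'
    rw [DihedralGroup.r_one_zpow] at hi hj
    have hot : orderOf t = 2 := by
      have := Subgroup.orderOf_coe t
      rw [← this]; exact hou
    have hos : orderOf s = 2 := by
      have := Subgroup.orderOf_coe s
      rw [← this]; exact hov
    have hoet : orderOf (e t) = 2 := by rw [MulEquiv.orderOf_eq]; exact hot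
    have hoes : orderOf (e s) = 2 := by rw [MulEquiv.orderOf_eq]; exact hos
    have hi' : e t = DihedralGroup.r (i : ZMod (2 ^ n)) := hi.symm
    have hj' : e s = DihedralGroup.r (j : ZMod (2 ^ n)) := hj.symm
    have key : ∀ k : ZMod (2 ^ n), orderOf (DihedralGroup.r k) = 2 → k + k = 0 ∧ k ≠ 0 := by
      intro k hk
      have h1 : (DihedralGroup.r k) ^ 2 = 1 := by
        have h0 := pow_orderOf_eq_one (DihedralGroup.r k)
        rw [hk] at h0
        exact h0
      rw [pow_two, DihedralGroup.r_mul_r, DihedralGroup.one_def] at h1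
      refine ⟨DihedralGroup.r.inj h1, ?_⟩
      rintro rfl
      have : (DihedralGroup.r (0 : ZMod (2 ^ n))) = 1 := rfl
      rw [this, orderOf_one] at hk
      omega
    rw [hi'] at hoet
    rw [hj'] at hoes
    obtain ⟨h1, h2⟩ := key _ hoet
    obtain ⟨h3, h4⟩ := key _ hoes
    have hij := zmod_two_pow_eq_of_double_eq_zero n (by omega) _ _ h1 h2 h3 h4
    have : e t = e s := by rw [hi', hj', hij]
    rw [e.injective this]
  -- every involution is conjugate into Q
  have hinto : ∀ u : G, orderOf u = 2 → ∃ g : G, g * u * g⁻¹ ∈ Q := by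
    intro u hu
    by_contra hnc
    push Not at hnc
    obtain ⟨M, hMn, hMi, -⟩ := thompson_transfer T Q hQT hQi u hu hnc
    exact hno2' M hMn hMi
  obtain ⟨g₁, hg₁⟩ := hinto x hx
  obtain ⟨g₂, hg₂⟩ := hinto y hy
  have ho1 : orderOf (g₁ * x * g₁⁻¹) = 2 := by
    rw [← hx]
    exact orderOf_injective (MulAut.conj g₁).toMonoidHom (MulAut.conj g₁).injective x
  have ho2 : orderOf (g₂ * y * g₂⁻¹) = 2 := by
    rw [← hy]
    exact orderOf_injective (MulAut.conj g₂).toMonoidHom (MulAut.conj g₂).injective y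
  have heq := huniq _ _ hg₁ hg₂ ho1 ho2
  refine ⟨g₂⁻¹ * g₁, ?_⟩
  calc g₂⁻¹ * g₁ * x * (g₂⁻¹ * g₁)⁻¹ = g₂⁻¹ * (g₁ * x * g₁⁻¹) * g₂ := by group
    _ = g₂⁻¹ * (g₂ * y * g₂⁻¹) * g₂ := by rw [heq]
    _ = y := by group

end Cfsg.Agent.Lib.Helper1
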