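import Mathlib
import Cfsg.Agent.Lib.Helper1.Dv4
import Cfsg.Agent.Lib.Helper4.Simple60
import Cfsg.Agent.Lib.Helper4.Sixty5
import Cfsg.Agent.Lib.Helper4.SLCard
import Cfsg.Agent.S2119
import Cfsg.Agent.S0249
import Cfsg.Agent.S0495
import Cfsg.Agent.S0497

set_option autoImplicit false
set_option maxHeartbeats 4000000
set_option linter.unusedVariables false
set_option linter.unusedSectionVars false
set_option linter.style.longLine false
set_option linter.unusedSimpArgs false
set_option linter.deprecated false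

/-! Generic lemmas for the `D8`-centralizer theorem: four-groups acting fixed-point-freely,
recognition of `S5` and `SL3(2)`, small consequences of the four-group hypothesis. -/

namespace Cfsg.Agent.Lib.Helper1.Dv

open Subgroup

section generic

variable {G : Type*} [Group G]

/-- a four-group all of whose involutions act fixed-point-freely acts on the trivial group only -/
theorem four_group_fpf (N : Subgroup G) [Finite N] (a b : G) (ha : a * a = 1) (hb : b * b = 1)
    (hab : a * b = b * a)
    (hna : ∀ n ∈ N, a * n * a⁻¹ ∈ N) (hnb : ∀ n ∈ N, b * n * b⁻¹ ∈ N)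
    (hfa : ∀ n ∈ N, a * n = n * a → n = 1) (hfb : ∀ n ∈ N, b * n = n * b → n = 1)
    (hfab : ∀ n ∈ N, (a * b) * n = n * (a * b) → n = 1) : N = ⊥ := by
  have hab2 : (a * b) * (a * b) = 1 := by
    calc (a * b) * (a * b) = a * (b * a) * b := by group
      _ = a * (a * b) * b := by rw [hab]
      _ = (a * a) * (b * b) := by group
      _ = 1 := by rw [ha, hb, one_mul]
  have hnab : ∀ n ∈ N, (a * b) * n * (a * b)⁻¹ ∈ N := by
    intro n hn
    have := hna _ (hnb n hn)
    have e : (a * b) * n * (a * b)⁻¹ = a * (b * n * b⁻¹) * a⁻¹ := by group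
    rw [e]; exact this
  have ia := fpf_inverts N a ha hna hfa
  have ib := fpf_inverts N b hb hnb hfb
  have iab := fpf_inverts N (a * b) hab2 hnab hfab
  rw [Subgroup.eq_bot_iff_forall]
  intro n hn
  apply hfa n hn
  have h1 : (a * b) * n * (a * b)⁻¹ = a * (b * n * b⁻¹) * a⁻¹ := by group
  have h2 := iab n hn
  rw [h1, ib n hn] at h2
  have h3 : a * n * a⁻¹ = n := by
    have h4 : (a * n⁻¹ * a⁻¹)⁻¹ = (n⁻¹)⁻¹ := by rw [h2]
    rw [inv_inv] at h4
    calc a * n * a⁻¹ = (a * n⁻¹ * a⁻¹)⁻¹ := by group
      _ = n := h4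
  calc a * n = (a * n * a⁻¹) * a := by group
    _ = n * a := by rw [h3]

/-- a subgroup with four explicitly listed elements has order 4 -/
theorem card_eq_four_of_mem (Q : Subgroup G) (a b c : G)
    (h : ∀ y, y ∈ Q ↔ y = 1 ∨ y = a ∨ y = b ∨ y = c)
    (ha : a ≠ 1) (hb : b ≠ 1) (hc : c ≠ 1) (hab : a ≠ b) (hac : a ≠ c) (hbc : b ≠ c) :
    Nat.card Q = 4 := by
  have h1 : Nat.card Q = Set.ncard ((Q : Subgroup G) : Set G) := rfl
  have h2 : ((Q : Subgroup G) : Set G) = {1, a, b, c} := by
    ext y
    simp only [SetLike.mem_coe, Set.mem_insert_iff, Set.mem_singleton_iff]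
    exact h y
  rw [h1, h2, Set.ncard_insert_of_notMem, Set.ncard_insert_of_notMem,
    Set.ncard_insert_of_notMem, Set.ncard_singleton]
  · simp only [Set.mem_singleton_iff]
    exact hbc
  · simp only [Set.mem_insert_iff, Set.mem_singleton_iff, not_or]
    exact ⟨hab, hac⟩
  · simp only [Set.mem_insert_iff, Set.mem_singleton_iff, not_or]
    exact ⟨fun h => ha h.symm, fun h => hb h.symm, fun h => hc h.symm⟩

theorem isKleinFour_of (Q : Subgroup G) (hcard : Nat.card Q = 4) (hexp : ∀ y ∈ Q, y * y = 1) :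
    IsKleinFour Q := by
  refine ⟨hcard, ?_⟩
  haveI : Finite Q := Nat.finite_of_card_ne_zero (by rw [hcard]; norm_num)
  haveI : Nontrivial Q := by
    rw [← Finite.one_lt_card_iff_nontrivial, hcard]; norm_num
  rw [Monoid.exponent_eq_prime_iff Nat.prime_two]
  rintro ⟨x, hx⟩ hx1
  haveI : Fact (Nat.Prime 2) := ⟨Nat.prime_two⟩
  apply orderOf_eq_prime
  · apply Subtype.ext
    rw [pow_two]
    exact hexp x hx
  · exact hx1

theorem sup_eq_top_of_map_mk (C N : Subgroup G) [N.Normal]
    (h : C.map (QuotientGroup.mk' N) = ⊤) : C ⊔ N = ⊤ := by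
  rw [eq_top_iff]
  intro g _
  have hg : (QuotientGroup.mk' N g) ∈ C.map (QuotientGroup.mk' N) := by rw [h]; trivial
  obtain ⟨c, hc, hcg⟩ := Subgroup.mem_map.mp hg
  have hN : c⁻¹ * g ∈ N := by
    rw [← QuotientGroup.eq]
    exact hcg
  have e : g = c * (c⁻¹ * g) := by group
  rw [e]
  exact Subgroup.mul_mem_sup hc hN

end generic

section recog

abbrev SL32 := Matrix.SpecialLinearGroup (Fin 3) (ZMod 2)

theorem card_SL32 : Nat.card SL32 = 168 := by
  have h := Cfsg.Agent.Lib.Helper4.card_SL_mul (F := ZMod 2) 3 (by norm_num)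
  rw [Matrix.card_GL_field, Fin.prod_univ_three] at h
  simp at h
  rw [Nat.card_eq_fintype_card]
  exact h

theorem center_SL32 : Subgroup.center SL32 = ⊥ := by
  rw [Subgroup.eq_bot_iff_forall]
  intro A hA
  rw [Matrix.SpecialLinearGroup.mem_center_iff] at hA
  obtain ⟨r, hr, hA⟩ := hA
  have hr1 : r = 1 := by
    have key : ∀ r : ZMod 2, r ^ 3 = 1 → r = 1 := by decide
    apply key; simpa using hr
  subst hr1
  apply Subtype.ext
  rw [← hA]; simp

theorem simple_SL32 : IsSimpleGroup SL32 := by
  haveI : IsSimpleGroup (Matrix.ProjectiveSpecialLinearGroup (Fin 3) (ZMod 2)) :=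
    Cfsg.Agent.S0249.result 3 (le_refl 3)
  let e1 : SL32 ≃* SL32 ⧸ (⊥ : Subgroup SL32) := QuotientGroup.quotientBot.symm
  let e2 : SL32 ⧸ (⊥ : Subgroup SL32) ≃* SL32 ⧸ Subgroup.center SL32 :=
    QuotientGroup.quotientMulEquivOfEq center_SL32.symm
  exact (e1.trans e2).isSimpleGroup_congr.mpr inferInstance

theorem iso_SL32 {G : Type*} [Group G] [Finite G] [IsSimpleGroup G] (h : Nat.card G = 168) :
    Nonempty (G ≃* SL32) := by
  haveI := simple_SL32
  haveI : Fact (Nat.Prime 7) := ⟨by norm_num⟩
  obtain ⟨e1⟩ := Cfsg.Agent.S0495.result h (F := ZMod 7) (ZMod.card 7)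
  obtain ⟨e2⟩ := Cfsg.Agent.S0495.result card_SL32 (F := ZMod 7) (ZMod.card 7)
  exact ⟨e1.trans e2.symm⟩

theorem iso_S5 {G : Type*} [Group G] [Finite G] (M : Subgroup G) [M.Normal]
    (hcard : Nat.card G = 120) (φ : ↥M ≃* ↥(alternatingGroup (Fin 5)))
    (hcent : ∀ g : G, (∀ m ∈ M, g * m = m * g) → g = 1) :
    Nonempty (G ≃* Equiv.Perm (Fin 5)) := by
  let β : Equiv.Perm (Fin 5) ≃* MulAut ↥(alternatingGroup (Fin 5)) :=
    MulEquiv.ofBijective MulAut.conjNormal (Cfsg.Agent.S2119.result 5 (by norm_num) (by norm_num))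
  let θ : MulAut ↥M ≃* MulAut ↥(alternatingGroup (Fin 5)) := MulAut.congr φ
  let ψ : G →* MulAut ↥M := MulAut.conjNormal
  let f : G →* Equiv.Perm (Fin 5) := β.symm.toMonoidHom.comp (θ.toMonoidHom.comp ψ)
  have hψ : Function.Injective ψ := by
    rw [injective_iff_map_eq_one]
    intro g hg
    apply hcent
    intro m hm
    have h1 : ((ψ g) ⟨m, hm⟩ : ↥M) = ⟨m, hm⟩ := by rw [hg]; rfl
    have h2 : g * m * g⁻¹ = m := by
      have := congrArg Subtype.val h1
      simpa [ψ, MulAut.conjNormal_apply] using this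
    calc g * m = (g * m * g⁻¹) * g := by group
      _ = m * g := by rw [h2]
  have hf : Function.Injective f := by
    intro a b hab
    apply hψ
    apply θ.injective
    apply β.symm.injective
    exact hab
  have hbij : Function.Bijective f := by
    apply hf.bijective_of_nat_card_le
    rw [hcard, Nat.card_perm, Nat.card_fin]
    decide
  exact ⟨MulEquiv.ofBijective f hbij⟩

end recog

section v4more

variable {K : Type*} [Group K] [Finite K]

/-- in a group with a self-centralizing four-group with one class of involutions, a normal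
subgroup of odd order is trivial -/
theorem V4Hyp.no_normal_odd {x : K} (h : V4Hyp x) (b : K)
    (hb : b ∈ centralizer ({x} : Set K)) (hb1 : b ≠ 1) (hbx : b ≠ x)
    (N : Subgroup K) [hN : N.Normal] (hodd : Odd (Nat.card N)) : N = ⊥ := by
  have hx2 : x * x = 1 := sq_of_order_two h.ord
  have hb2 : b * b = 1 := h.exp2 b hb
  have hbx' : b * x = x * b := mem_cent.mp hb
  have hxc : x ∈ centralizer ({x} : Set K) := mem_cent.mpr rfl
  have hxb : x * b ∈ centralizer ({x} : Set K) := Subgroup.mul_mem _ hxc hb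
  have hxb2 : (x * b) * (x * b) = 1 := h.exp2 _ hxb
  have hxb1 : x * b ≠ 1 := by
    intro h1
    apply hbx
    have : x * b = x * x := by rw [h1, hx2]
    exact mul_left_cancel this
  have ob : orderOf b = 2 := order_two_of_sq hb2 hb1
  have oxb : orderOf (x * b) = 2 := order_two_of_sq hxb2 hxb1
  have hsq : ∀ n ∈ N, n ≠ 1 → n * n ≠ 1 := by
    intro n hn hn1 hnn
    apply hn1
    have d1 : orderOf n ∣ 2 := by
      apply orderOf_dvd_of_pow_eq_one; rw [pow_two]; exact hnn
    have d2 : orderOf n ∣ Nat.card N := Subgroup.orderOf_dvd_natCard N hn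
    have d3 : orderOf n ∣ Nat.gcd 2 (Nat.card N) := Nat.dvd_gcd d1 d2
    have hcop : Nat.gcd 2 (Nat.card N) = 1 := Odd.coprime_two_left hodd
    rw [hcop, Nat.dvd_one] at d3
    exact orderOf_eq_one_iff.mp d3
  have hfix : ∀ t : K, orderOf t = 2 → ∀ n ∈ N, t * n = n * t → n = 1 := by
    intro t ht n hn hcomm
    by_contra hn1
    exact h.no_comm (hsq n hn hn1) ht hcomm.symm
  exact four_group_fpf N x b hx2 hb2 hbx'.symm
    (fun n hn => hN.conj_mem n hn x) (fun n hn => hN.conj_mem n hn b)
    (hfix x h.ord) (hfix b ob) (hfix (x * b) oxb)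

/-- in a group of order 12 with the four-group hypothesis, the involutions are those of `C(x)` -/
theorem V4Hyp.invols_of_twelve {x : K} (h : V4Hyp x) (h12 : Nat.card K = 12) (b : K)
    (hb : b ∈ centralizer ({x} : Set K)) (hb1 : b ≠ 1) (hbx : b ≠ x)
    (t : K) (ht : orderOf t = 2) : t = x ∨ t = b ∨ t = x * b := by
  classical
  haveI := Fintype.ofFinite K
  have hc := card_invols_mul h
  rw [h12] at hc
  have hc3 : (invols K).card = 3 := by omega
  have hx2 : x * x = 1 := sq_of_order_two h.ord
  have hx1 : x ≠ 1 := ne_one_of_order_two h.ord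
  have hb2 : b * b = 1 := h.exp2 b hb
  have hxc : x ∈ centralizer ({x} : Set K) := mem_cent.mpr rfl
  have hxb : x * b ∈ centralizer ({x} : Set K) := Subgroup.mul_mem _ hxc hb
  have hxb2 : (x * b) * (x * b) = 1 := h.exp2 _ hxb
  have hxb1 : x * b ≠ 1 := by
    intro h1
    apply hbx
    have : x * b = x * x := by rw [h1, hx2]
    exact mul_left_cancel this
  have ob : orderOf b = 2 := order_two_of_sq hb2 hb1
  have oxb : orderOf (x * b) = 2 := order_two_of_sq hxb2 hxb1
  have hS : ({x, b, x * b} : Finset K) ⊆ invols K := by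
    intro y hy
    simp only [Finset.mem_insert, Finset.mem_singleton] at hy
    rw [mem_invols]
    rcases hy with rfl | rfl | rfl
    · exact h.ord
    · exact ob
    · exact oxb
  have hScard : ({x, b, x * b} : Finset K).card = 3 := by
    rw [Finset.card_insert_of_notMem, Finset.card_insert_of_notMem, Finset.card_singleton]
    · simp only [Finset.mem_singleton]
      intro hh
      apply hx1
      have : 1 * b = x * b := by rw [one_mul]; exact hh
      exact (mul_right_cancel this).symm
    · simp only [Finset.mem_insert, Finset.mem_singleton, not_or]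
      refine ⟨fun hh => hbx hh.symm, ?_⟩
      intro hh
      apply hb1
      have : x * 1 = x * b := by rw [mul_one]; exact hh
      exact (mul_left_cancel this).symm
  have hEq : ({x, b, x * b} : Finset K) = invols K :=
    Finset.eq_of_subset_of_card_le hS (by rw [hScard, hc3])
  have htm : t ∈ ({x, b, x * b} : Finset K) := by rw [hEq]; exact mem_invols.mpr ht
  simpa using htm

end v4more

end Cfsg.Agent.Lib.Helper1.Dv
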