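import Mathlib
import Cfsg.Agent.S0144
import Cfsg.Agent.Lib.Helper1.Dv2

set_option autoImplicit false
set_option maxHeartbeats 4000000
set_option linter.unusedVariables false
set_option linter.unusedSectionVars false
set_option linter.style.longLine false
set_option linter.unusedSimpArgs false
set_option linter.deprecated false

/-! Perfect groups: proper subgroups have index at least `5`, the centre has index at least `16`;
an involutory automorphism of a finite group with at most two fixed points forces solvability. -/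

namespace Cfsg.Agent.Lib.Helper1.Dv

open Subgroup
open scoped Classical

universe u

section perfect

variable {P : Type*} [Group P]

theorem derivedSeries_of_perfect (hP : commutator P = ⊤) (n : ℕ) : derivedSeries P n = ⊤ := by
  induction n with
  | zero => rfl
  | succ k ih => rw [derivedSeries_succ, ih, ← commutator_def]; exact hP

/-- a homomorphism from a perfect group to a solvable group is trivial -/
theorem perfect_hom_trivial {S : Type*} [Group S] [hS : Group.IsSolvable S] (hP : commutator P = ⊤)
    (f : P →* S) (p : P) : f p = 1 := by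
  obtain ⟨n, hn⟩ := hS.solvable
  have h1 : (derivedSeries P n).map f ≤ derivedSeries S n := map_derivedSeries_le_derivedSeries f n
  rw [derivedSeries_of_perfect hP, hn] at h1
  have : f p ∈ (⊤ : Subgroup P).map f := Subgroup.mem_map_of_mem f (Subgroup.mem_top p)
  exact Subgroup.mem_bot.mp (h1 this)

theorem perm_solvable_le_four {β : Type*} [DecidableEq β] [Fintype β]
    (h : Fintype.card β ≤ 4) : Group.IsSolvable (Equiv.Perm β) := by
  have hc : Nat.card (Equiv.Perm β) = (Fintype.card β).factorial := by
    rw [Nat.card_eq_fintype_card, Fintype.card_perm]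
  have : ∃ a b : ℕ, Nat.card (Equiv.Perm β) = 2 ^ a * 3 ^ b := by
    rw [hc]
    interval_cases (Fintype.card β)
    · exact ⟨0, 0, by decide⟩
    · exact ⟨0, 0, by decide⟩
    · exact ⟨1, 0, by decide⟩
    · exact ⟨1, 1, by decide⟩
    · exact ⟨3, 1, by decide⟩
  obtain ⟨a, b, hab⟩ := this
  exact Cfsg.Agent.S0144.result 2 3 a b Nat.prime_two Nat.prime_three hab

/-- a proper subgroup of a perfect group has index at least `5` -/
theorem perfect_index_ge_five [Finite P] (hP : commutator P = ⊤) (M : Subgroup P) (hM : M ≠ ⊤) :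
    5 ≤ M.index := by
  by_contra hlt
  push_neg at hlt
  haveI : Fintype (P ⧸ M) := Fintype.ofFinite _
  have hcard : Fintype.card (P ⧸ M) ≤ 4 := by
    rw [← Nat.card_eq_fintype_card, ← Subgroup.index_eq_card]
    omega
  haveI := perm_solvable_le_four hcard
  apply hM
  rw [eq_top_iff]
  intro p _
  have h1 := perfect_hom_trivial hP (MulAction.toPermHom P (P ⧸ M)) p
  have h2 : (MulAction.toPermHom P (P ⧸ M) p) ((1 : P) : P ⧸ M) = ((1 : P) : P ⧸ M) := by
    rw [h1]; rfl
  have h3 : ((p * 1 : P) : P ⧸ M) = ((1 : P) : P ⧸ M) := h2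
  rw [mul_one] at h3
  have := QuotientGroup.eq.mp h3
  simpa using this

theorem perfect_not_comm [Nontrivial P] (hP : commutator P = ⊤) : ¬ ∀ a b : P, a * b = b * a := by
  intro hc
  have : commutator P = ⊥ := by
    rw [commutator_eq_closure, Subgroup.closure_eq_bot_iff]
    rintro g ⟨a, b, rfl⟩
    rw [Set.mem_singleton_iff, commutatorElement_def, hc a b]
    group
  rw [this] at hP
  exact bot_ne_top hP

/-- a nontrivial perfect group has order at least `16` -/
theorem perfect_card_ge_sixteen [Finite P] [Nontrivial P] (hP : commutator P = ⊤) :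
    16 ≤ Nat.card P := by
  by_contra hlt
  push_neg at hlt
  have h2 : 1 < Nat.card P := Finite.one_lt_card
  obtain ⟨p, -, hp, hdvd, hsmall⟩ : ∃ p : ℕ, p < 16 ∧ p.Prime ∧ p ∣ Nat.card P ∧ Nat.card P < 5 * p := by
    generalize Nat.card P = n at *
    interval_cases n <;> decide
  haveI : Fact p.Prime := ⟨hp⟩
  obtain ⟨g, hg⟩ := exists_prime_orderOf_dvd_card' p hdvd
  have hcardZ : Nat.card (zpowers g) = p := by rw [Nat.card_zpowers, hg]
  have hidx : (zpowers g).index * p = Nat.card P := by
    rw [← hcardZ]; exact (zpowers g).index_mul_card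
  by_cases htop : zpowers g = ⊤
  · apply perfect_not_comm hP
    intro a b
    have ha : a ∈ zpowers g := htop ▸ mem_top a
    have hb : b ∈ zpowers g := htop ▸ mem_top b
    obtain ⟨i, rfl⟩ := ha
    obtain ⟨j, rfl⟩ := hb
    exact (Commute.zpow_zpow_self g i j)
  · have h5 := perfect_index_ge_five hP _ htop
    nlinarith

/-- the centre of a nontrivial perfect group has index at least `16` -/
theorem perfect_center_bound [Finite P] [Nontrivial P] (hP : commutator P = ⊤) :
    16 * Nat.card (center P) ≤ Nat.card P := by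
  have hsurj := QuotientGroup.mk'_surjective (center P)
  have hQ : commutator (P ⧸ center P) = ⊤ := by
    have h1 : (commutator P).map (QuotientGroup.mk' (center P)) = commutator (P ⧸ center P) := by
      rw [commutator_def, Subgroup.map_commutator, commutator_def,
        Subgroup.map_top_of_surjective _ hsurj]
    rw [← h1, hP, Subgroup.map_top_of_surjective _ hsurj]
  haveI : Nontrivial (P ⧸ center P) := by
    by_contra hnt
    rw [not_nontrivial_iff_subsingleton] at hnt
    apply perfect_not_comm hP
    intro a b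
    have : (a : P ⧸ center P) = 1 := Subsingleton.elim _ _
    have ha : a ∈ center P := (QuotientGroup.eq_one_iff a).mp this
    exact (Subgroup.mem_center_iff.mp ha b).symm
  have h16 := perfect_card_ge_sixteen hQ
  have := Subgroup.card_eq_card_quotient_mul_card_subgroup (center P)
  rw [this]
  nlinarith

theorem perfect_cent_sum [Fintype P] [Nontrivial P] (hP : commutator P = ⊤) :
    5 * ∑ h : P, Nat.card (centralizer ({h} : Set P))
      ≤ (Nat.card P + 4 * Nat.card (center P)) * Nat.card P := by
  obtain ⟨n, hn⟩ : ∃ n, n = Nat.card P := ⟨_, rfl⟩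
  rw [← hn]
  have hb : ∀ h : P, 5 * Nat.card (centralizer ({h} : Set P))
      ≤ (if h ∈ center P then 4 * n else 0) + n := by
    intro h
    by_cases hz : h ∈ center P
    · rw [if_pos hz]
      have : Nat.card (centralizer ({h} : Set P)) ≤ n := by
        rw [hn]; exact Subgroup.card_le_card_group _
      omega
    · rw [if_neg hz, zero_add]
      have hne : centralizer ({h} : Set P) ≠ ⊤ := by
        intro htop
        apply hz
        rw [Subgroup.mem_center_iff]
        intro g
        have : g ∈ centralizer ({h} : Set P) := htop ▸ mem_top g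
        exact mem_cent.mp this
      have h5 := perfect_index_ge_five hP _ hne
      have := (centralizer ({h} : Set P)).index_mul_card
      rw [← hn] at this
      nlinarith
  have hZ : (Finset.univ.filter (fun h : P => h ∈ center P)).card = Nat.card (center P) := by
    symm
    apply Nat.subtype_card
    intro c; simp
  have hU : (Finset.univ : Finset P).card = n := by
    rw [hn, Finset.card_univ, Nat.card_eq_fintype_card]
  calc 5 * ∑ h : P, Nat.card (centralizer ({h} : Set P))
      = ∑ h : P, 5 * Nat.card (centralizer ({h} : Set P)) := Finset.mul_sum _ _ _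
    _ ≤ ∑ h : P, ((if h ∈ center P then 4 * n else 0) + n) :=
        Finset.sum_le_sum (fun h _ => hb h)
    _ = (n + 4 * Nat.card (center P)) * n := by
        rw [Finset.sum_add_distrib, Finset.sum_ite, Finset.sum_const, Finset.sum_const,
          Finset.sum_const, hZ, hU]
        simp only [smul_eq_mul, mul_zero, add_zero]
        ring

end perfect

section lemmaA

variable {P : Type*} [Group P] [Fintype P]

/-- **Lemma A**: a nontrivial perfect finite group has no involutory automorphism with at most
two fixed points. -/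
theorem perfect_invol_aut [Nontrivial P] (σ : P → P) (hmul : ∀ a b, σ (a * b) = σ a * σ b)
    (hinv : ∀ a, σ (σ a) = a)
    (hfix : ∀ a b : P, σ a = a → σ b = b → a ≠ 1 → b ≠ 1 → a = b)
    (hP : commutator P = ⊤) : False := by
  let f : P →* P := MonoidHom.mk' σ hmul
  have hf : ∀ a, f a = σ a := fun _ => rfl
  have hσ1 : σ 1 = 1 := by rw [← hf]; exact map_one f
  have hσi : ∀ a, σ a⁻¹ = (σ a)⁻¹ := by intro a; rw [← hf, ← hf]; exact map_inv f a
  obtain ⟨J, hJ⟩ : ∃ J : Finset P, J = Finset.univ.filter (fun l => σ l * l = 1) := ⟨_, rfl⟩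
  have memJ : ∀ l, l ∈ J ↔ σ l * l = 1 := by intro l; rw [hJ]; simp
  obtain ⟨Fx, hFxdef⟩ : ∃ Fx : Finset P, Fx = Finset.univ.filter (fun a => σ a = a) := ⟨_, rfl⟩
  have memFx : ∀ l, l ∈ Fx ↔ σ l = l := by intro l; rw [hFxdef]; simp
  have hFx : Fx.card ≤ 2 := by
    by_cases h : ∃ a, σ a = a ∧ a ≠ 1
    · obtain ⟨a, ha, ha1⟩ := h
      have hsub : Fx ⊆ {1, a} := by
        intro b hb
        rw [memFx] at hb
        rw [Finset.mem_insert, Finset.mem_singleton]
        by_cases hb1 : b = 1
        · left; exact hb1
        · right; exact hfix b a hb ha hb1 ha1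
      exact (Finset.card_le_card hsub).trans Finset.card_le_two
    · push_neg at h
      have hsub : Fx ⊆ {1} := by
        intro b hb
        rw [memFx] at hb
        rw [Finset.mem_singleton]
        exact h b hb
      exact (Finset.card_le_card hsub).trans (by simp)
  -- (1) |P| ≤ 2 |J|
  have hN : Fintype.card P ≤ 2 * J.card := by
    have hfiber : ∀ a ∈ (Finset.univ : Finset P).image (fun l => σ l * l⁻¹),
        ((Finset.univ : Finset P).filter (fun l => σ l * l⁻¹ = a)).card ≤ 2 := by
      intro a ha
      obtain ⟨l₀, -, hl₀⟩ := Finset.mem_image.mp ha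
      refine le_trans ?_ hFx
      apply Finset.card_le_card_of_injOn (fun l => l₀⁻¹ * l)
      · intro l hl
        have hl' : σ l * l⁻¹ = a := by simpa using hl
        show l₀⁻¹ * l ∈ Fx
        rw [memFx, hmul, hσi]
        have h1 : σ l * l⁻¹ = σ l₀ * l₀⁻¹ := by rw [hl', hl₀]
        calc (σ l₀)⁻¹ * σ l = (σ l₀)⁻¹ * (σ l * l⁻¹) * l := by group
          _ = (σ l₀)⁻¹ * (σ l₀ * l₀⁻¹) * l := by rw [h1]
          _ = l₀⁻¹ * l := by group
      · intro l _ l' _ h
        exact mul_left_cancel h
    have h1 := Finset.card_le_mul_card_image (s := (Finset.univ : Finset P))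
      (f := fun l => σ l * l⁻¹) 2 hfiber
    have h2 : ((Finset.univ : Finset P).image (fun l => σ l * l⁻¹)).card ≤ J.card := by
      apply Finset.card_le_card
      intro a ha
      obtain ⟨l, -, rfl⟩ := Finset.mem_image.mp ha
      rw [memJ, hmul, hinv, hσi]
      group
    rw [Finset.card_univ] at h1
    omega
  -- (2) counting products
  have hsum : ∑ h : P, (J.filter (fun l => l * h ∈ J)).card = J.card * J.card := by
    have h1 : ∀ h : P, (J.filter (fun l => l * h ∈ J)).card
        = ∑ l ∈ J, if l * h ∈ J then 1 else 0 := by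
      intro h; rw [Finset.card_filter]
    simp_rw [h1]
    rw [Finset.sum_comm]
    have h2 : ∀ l ∈ J, (∑ h : P, if l * h ∈ J then 1 else 0) = J.card := by
      intro l _
      rw [← Finset.card_filter]
      apply Finset.card_bij (fun h _ => l * h)
      · intro h hh; simpa using hh
      · intro a _ b _ hab; exact mul_left_cancel hab
      · intro b hb; exact ⟨l⁻¹ * b, by simp [hb], by simp⟩
    rw [Finset.sum_congr rfl h2, Finset.sum_const, smul_eq_mul]
  -- (3) bound
  have hr : ∀ h : P, (J.filter (fun l => l * h ∈ J)).card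
      ≤ Nat.card (centralizer ({h} : Set P)) := by
    intro h
    rw [← card_centF]
    by_cases hne : (J.filter (fun l => l * h ∈ J)).Nonempty
    · obtain ⟨l₀, hl₀⟩ := hne
      rw [Finset.mem_filter, memJ, memJ] at hl₀
      have key : ∀ l, σ l * l = 1 → σ (l * h) * (l * h) = 1 → σ h = l * h⁻¹ * l⁻¹ := by
        intro l h1 h2
        have h3 : σ l = l⁻¹ := eq_inv_of_mul_eq_one_left h1
        rw [hmul, h3] at h2
        calc σ h = l * (l⁻¹ * σ h * (l * h)) * h⁻¹ * l⁻¹ := by group
          _ = l * h⁻¹ * l⁻¹ := by rw [h2]; group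
      have k0 := key l₀ hl₀.1 hl₀.2
      apply Finset.card_le_card_of_injOn (fun l => l₀⁻¹ * l)
      · intro l hl
        have hl' := Finset.mem_filter.mp hl
        rw [memJ, memJ] at hl'
        have k1 := key l hl'.1 hl'.2
        show l₀⁻¹ * l ∈ centF h
        rw [mem_centF]
        have h4 : l * h⁻¹ * l⁻¹ = l₀ * h⁻¹ * l₀⁻¹ := by rw [← k1, ← k0]
        have h5 : (l₀⁻¹ * l) * h⁻¹ = h⁻¹ * (l₀⁻¹ * l) := by
          calc (l₀⁻¹ * l) * h⁻¹ = l₀⁻¹ * (l * h⁻¹ * l⁻¹) * l := by group
            _ = l₀⁻¹ * (l₀ * h⁻¹ * l₀⁻¹) * l := by rw [h4]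
            _ = h⁻¹ * (l₀⁻¹ * l) := by group
        calc l₀⁻¹ * l * h = h * (h⁻¹ * (l₀⁻¹ * l)) * h := by group
          _ = h * ((l₀⁻¹ * l) * h⁻¹) * h := by rw [h5]
          _ = h * (l₀⁻¹ * l) := by group
      · intro l _ l' _ h
        exact mul_left_cancel h
    · rw [Finset.not_nonempty_iff_eq_empty] at hne
      rw [hne]; simp
  -- (4) r 1 = N
  have hr1 : (J.filter (fun l => l * 1 ∈ J)).card = J.card := by
    congr 1
    ext l; simp
  -- (5) combine
  have hcomb : J.card * J.card + Nat.card P
      ≤ J.card + ∑ h : P, Nat.card (centralizer ({h} : Set P)) := by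
    rw [← hsum, ← Finset.add_sum_erase Finset.univ _ (Finset.mem_univ (1 : P)),
      ← Finset.add_sum_erase Finset.univ (fun h => Nat.card (centralizer ({h} : Set P)))
        (Finset.mem_univ (1 : P)), hr1]
    have hc1 : Nat.card (centralizer ({(1 : P)} : Set P)) = Nat.card P := by
      have : centralizer ({(1 : P)} : Set P) = ⊤ := by
        rw [eq_top_iff]; intro g _; rw [mem_cent]; simp
      rw [this, Subgroup.card_top]
    rw [hc1]
    have := Finset.sum_le_sum (s := (Finset.univ : Finset P).erase 1) (fun h _ => hr h)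
    omega
  have hT := perfect_cent_sum hP
  have hZ := perfect_center_bound hP
  have hJle : J.card ≤ Fintype.card P := Finset.card_le_univ J
  rw [← Nat.card_eq_fintype_card] at hN hJle
  have hpos : 0 < Nat.card P := Nat.card_pos
  obtain ⟨n, hn⟩ : ∃ n, n = Nat.card P := ⟨_, rfl⟩
  obtain ⟨N, hNd⟩ : ∃ N, N = J.card := ⟨_, rfl⟩
  obtain ⟨z, hz⟩ : ∃ z, z = Nat.card (center P) := ⟨_, rfl⟩
  obtain ⟨T, hTd⟩ : ∃ T, T = ∑ h : P, Nat.card (centralizer ({h} : Set P)) := ⟨_, rfl⟩
  rw [← hn, ← hNd] at hN hJle hcomb
  rw [← hTd] at hcomb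
  rw [← hn, ← hz, ← hTd] at hT
  rw [← hn, ← hz] at hZ
  rw [← hn] at hpos
  -- 5(N² + n) ≤ 5N + (n+4z) n ; 16 z ≤ n ; n ≤ 2N ; N ≤ n
  have e1 : 5 * (N * N + n) ≤ 5 * N + (n + 4 * z) * n := by nlinarith
  have e2 : 16 * z * n ≤ n * n := by nlinarith
  have e3 : 20 * (N * N) + 20 * n ≤ 20 * N + 5 * (n * n) := by nlinarith
  have e4 : n * n ≤ 4 * (N * N) := by nlinarith
  have e5 : n ≤ N := by nlinarith
  have e6 : N = n := le_antisymm hJle e5
  rw [e6] at e1
  nlinarith

end lemmaA

section lemmaB

/-- **Lemma B**: a finite group with an involutory automorphism having at most two fixed points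
is solvable. -/
theorem solvable_of_invol_aut_aux : ∀ (n : ℕ) (P : Type u) [Group P] [Finite P], Nat.card P = n →
    ∀ (σ : P → P), (∀ a b, σ (a * b) = σ a * σ b) → (∀ a, σ (σ a) = a) →
    (∀ a b : P, σ a = a → σ b = b → a ≠ 1 → b ≠ 1 → a = b) → Group.IsSolvable P := by
  intro n
  induction n using Nat.strong_induction_on with
  | _ n ih =>
    intro P _ _ hn σ hmul hinv hfix
    by_cases hperf : commutator P = ⊤
    · by_cases hnt : Nontrivial P
      · haveI := Fintype.ofFinite P
        exact (perfect_invol_aut σ hmul hinv hfix hperf).elim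
      · rw [not_nontrivial_iff_subsingleton] at hnt
        infer_instance
    · have hlt : Nat.card (commutator P) < n := by
        rw [← hn]
        apply lt_of_le_of_ne (Subgroup.card_le_card_group _)
        intro h
        exact hperf ((Subgroup.card_eq_iff_eq_top _).mp h)
      let f : P →* P := MonoidHom.mk' σ hmul
      have hK : ∀ k ∈ commutator P, σ k ∈ commutator P := by
        intro k hk
        have h1 : f k ∈ (commutator P).map f := Subgroup.mem_map_of_mem f hk
        rw [commutator_def, Subgroup.map_commutator] at h1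
        rw [commutator_def]
        exact Subgroup.commutator_mono le_top le_top h1
      let σ' : ↥(commutator P) → ↥(commutator P) := fun k => ⟨σ k, hK k k.2⟩
      haveI : Group.IsSolvable ↥(commutator P) := by
        apply ih _ hlt ↥(commutator P) rfl σ'
        · intro a b; apply Subtype.ext; exact hmul a b
        · intro a; apply Subtype.ext; exact hinv a
        · intro a b ha hb ha1 hb1
          apply Subtype.ext
          apply hfix a b (congrArg Subtype.val ha) (congrArg Subtype.val hb)
          · intro h; exact ha1 (Subtype.ext h)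
          · intro h; exact hb1 (Subtype.ext h)
      apply solvable_of_ker_le_range (commutator P).subtype (Abelianization.of (G := P))
      rw [Abelianization.ker_of, Subgroup.range_subtype]

theorem solvable_of_invol_aut {P : Type u} [Group P] [Finite P] (σ : P → P)
    (hmul : ∀ a b, σ (a * b) = σ a * σ b) (hinv : ∀ a, σ (σ a) = a)
    (hfix : ∀ a b : P, σ a = a → σ b = b → a ≠ 1 → b ≠ 1 → a = b) : Group.IsSolvable P :=
  solvable_of_invol_aut_aux _ P rfl σ hmul hinv hfix

/-- a normal subgroup on which an involution has at most two fixed points is solvable -/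
theorem solvable_of_invol_fix_le_two {G : Type u} [Group G] [Finite G] (M : Subgroup G)
    [hMn : M.Normal] (x : G) (hx2 : x * x = 1)
    (hfix : ∀ a ∈ M, ∀ b ∈ M, x * a = a * x → x * b = b * x → a ≠ 1 → b ≠ 1 → a = b) :
    Group.IsSolvable ↥M := by
  have hxi : x⁻¹ = x := inv_eq_of_mul_eq_one_left hx2
  apply solvable_of_invol_aut (fun m : ↥M => ⟨x * m * x⁻¹, hMn.conj_mem m m.2 x⟩)
  · intro a b; apply Subtype.ext
    show x * ((a : G) * (b : G)) * x⁻¹ = x * a * x⁻¹ * (x * b * x⁻¹)
    group
  · intro a; apply Subtype.ext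
    show x * (x * (a : G) * x⁻¹) * x⁻¹ = a
    rw [hxi]
    calc x * (x * (a : G) * x) * x = (x * x) * a * (x * x) := by group
      _ = a := by rw [hx2, one_mul, mul_one]
  · intro a b ha hb ha1 hb1
    apply Subtype.ext
    have ha' : x * (a : G) * x⁻¹ = a := congrArg Subtype.val ha
    have hb' : x * (b : G) * x⁻¹ = b := congrArg Subtype.val hb
    apply hfix a a.2 b b.2
    · calc x * (a : G) = (x * a * x⁻¹) * x := by group
        _ = a * x := by rw [ha']
    · calc x * (b : G) = (x * b * x⁻¹) * x := by group
        _ = b * x := by rw [hb']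
    · intro h; exact ha1 (Subtype.ext h)
    · intro h; exact hb1 (Subtype.ext h)

end lemmaB

end Cfsg.Agent.Lib.Helper1.Dv
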