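import Mathlib
import Cfsg.Agent.Lib.Helper1.Dv8
import Cfsg.Agent.Lib.Helper1.FittingCentralizer
import Cfsg.Prelude.Def_Transfer

set_option autoImplicit false
set_option maxHeartbeats 4000000
set_option linter.unusedVariables false
set_option linter.unusedSectionVars false
set_option linter.style.longLine false
set_option linter.unusedSimpArgs false
set_option linter.deprecated false

/-! An involution with centralizer a four-group: normal `2`-subgroups, the solvable case. -/

namespace Cfsg.Agent.Lib.Helper1.Dv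

open Subgroup
open scoped Classical

universe u

theorem card_le_two_of_forall {α : Type*} (s : Finset α) (o : α)
    (h : ∀ a ∈ s, ∀ b ∈ s, a ≠ o → b ≠ o → a = b) : s.card ≤ 2 := by
  by_cases hex : ∃ a ∈ s, a ≠ o
  · obtain ⟨a, ha, ha1⟩ := hex
    have hsub : s ⊆ {o, a} := by
      intro b hb
      rw [Finset.mem_insert, Finset.mem_singleton]
      by_cases hb1 : b = o
      · left; exact hb1
      · right; exact h b hb a ha hb1 ha1
    exact (Finset.card_le_card hsub).trans Finset.card_le_two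
  · push_neg at hex
    have hsub : s ⊆ {o} := by
      intro b hb; rw [Finset.mem_singleton]; exact hex b hb
    exact (Finset.card_le_card hsub).trans (by simp)

/-- `x` is an involution whose centralizer has order `4` and exponent `2` -/
structure C4Hyp {G : Type*} [Group G] (x : G) : Prop where
  ord : orderOf x = 2
  card4 : Nat.card (centralizer ({x} : Set G)) = 4
  exp2 : ∀ c ∈ centralizer ({x} : Set G), c * c = 1

variable {G : Type u} [Group G] {x : G}

theorem C4Hyp.eq_of_mem [Finite G] (h : C4Hyp x) (D : Subgroup G)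
    (hD : D ≤ centralizer ({x} : Set G)) (hxD : x ∉ D) {a b : G} (ha : a ∈ D) (hb : b ∈ D)
    (ha1 : a ≠ 1) (hb1 : b ≠ 1) : a = b := by
  by_contra hab
  have hdvd : Nat.card D ∣ 4 := by rw [← h.card4]; exact Subgroup.card_dvd_of_le hD
  have hne4 : Nat.card D ≠ 4 := by
    intro h4
    have : D = centralizer ({x} : Set G) :=
      Subgroup.eq_of_le_of_card_ge hD (by rw [h4, h.card4])
    apply hxD; rw [this]; exact mem_cent.mpr rfl
  have hle2 : Nat.card D ≤ 2 := by
    have hm : Nat.card D ∈ Nat.divisors 4 := Nat.mem_divisors.mpr ⟨hdvd, by norm_num⟩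
    have hdiv : Nat.divisors 4 = {1, 2, 4} := by decide
    rw [hdiv] at hm
    simp only [Finset.mem_insert, Finset.mem_singleton] at hm
    omega
  haveI := Fintype.ofFinite G
  have hT : (Finset.univ.filter (fun g : G => g ∈ D)).card = Nat.card D := by
    symm; apply Nat.subtype_card; intro c; simp
  have h3 : 2 < (Finset.univ.filter (fun g : G => g ∈ D)).card :=
    Finset.two_lt_card_iff.mpr ⟨1, a, b, by simp [D.one_mem], by simp [ha], by simp [hb],
      Ne.symm ha1, Ne.symm hb1, hab⟩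
  omega

/-- `Ω₁(Z(Q))` as a subgroup of the ambient group -/
def ozq (Q : Subgroup G) : Subgroup G where
  carrier := {g | g ∈ Q ∧ g * g = 1 ∧ ∀ q ∈ Q, g * q = q * g}
  one_mem' := ⟨Q.one_mem, by simp, fun q _ => by simp⟩
  mul_mem' := by
    rintro a b ⟨haQ, ha2, hac⟩ ⟨hbQ, hb2, hbc⟩
    refine ⟨Q.mul_mem haQ hbQ, ?_, ?_⟩
    · calc a * b * (a * b) = a * (b * a) * b := by group
        _ = a * (a * b) * b := by rw [hac b hbQ]
        _ = (a * a) * (b * b) := by group
        _ = 1 := by rw [ha2, hb2, one_mul]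
    · intro q hq
      calc a * b * q = a * (b * q) := by group
        _ = a * (q * b) := by rw [hbc q hq]
        _ = (a * q) * b := by group
        _ = (q * a) * b := by rw [hac q hq]
        _ = q * (a * b) := by group
  inv_mem' := by
    rintro a ⟨haQ, ha2, hac⟩
    have : a⁻¹ = a := inv_eq_of_mul_eq_one_left ha2
    rw [this]
    exact ⟨haQ, ha2, hac⟩

theorem mem_ozq {Q : Subgroup G} {g : G} :
    g ∈ ozq Q ↔ g ∈ Q ∧ g * g = 1 ∧ ∀ q ∈ Q, g * q = q * g := Iff.rfl

theorem ozq_le (Q : Subgroup G) : ozq Q ≤ Q := fun _ h => h.1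

theorem ozq_normal (Q : Subgroup G) [hQn : Q.Normal] : (ozq Q).Normal := by
  refine ⟨fun e he g => ?_⟩
  obtain ⟨heQ, he2, hec⟩ := he
  refine ⟨hQn.conj_mem e heQ g, ?_, ?_⟩
  · calc g * e * g⁻¹ * (g * e * g⁻¹) = g * (e * e) * g⁻¹ := by group
      _ = 1 := by rw [he2]; group
  · intro q hq
    have hq' : g⁻¹ * q * g ∈ Q := by
      have := hQn.conj_mem q hq g⁻¹
      simpa using this
    calc g * e * g⁻¹ * q = g * (e * (g⁻¹ * q * g)) * g⁻¹ := by group
      _ = g * ((g⁻¹ * q * g) * e) * g⁻¹ := by rw [hec _ hq']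
      _ = q * (g * e * g⁻¹) := by group

theorem ozq_elementary (Q : Subgroup G) : Cfsg.IsElementaryAbelian 2 (ozq Q) := by
  refine ⟨⟨⟨fun a b => Subtype.ext (a.2.2.2 b b.2.1)⟩⟩, fun a ha => ?_⟩
  rw [pow_two]; exact ha.2.1

theorem ozq_ne_bot [Finite G] (Q : Subgroup G) (hQ2 : IsPGroup 2 Q) (hQne : Q ≠ ⊥) :
    ozq Q ≠ ⊥ := by
  haveI : Fact (Nat.Prime 2) := ⟨Nat.prime_two⟩
  haveI : Nontrivial ↥Q := (Subgroup.nontrivial_iff_ne_bot Q).mpr hQne
  haveI hc : Nontrivial (center ↥Q) := IsPGroup.center_nontrivial hQ2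
  have hZ2 : IsPGroup 2 (center ↥Q) := hQ2.to_subgroup (center ↥Q)
  obtain ⟨k, hk⟩ := IsPGroup.iff_card.mp hZ2
  have hgt : 1 < Nat.card (center ↥Q) := Finite.one_lt_card
  have hk0 : k ≠ 0 := by
    rintro rfl
    rw [pow_zero] at hk
    omega
  have h2dvd : 2 ∣ Nat.card (center ↥Q) := by
    rw [hk]; exact dvd_pow_self 2 hk0
  obtain ⟨z, hz⟩ := exists_prime_orderOf_dvd_card' 2 h2dvd
  have hzz : z * z = 1 := sq_of_order_two hz
  have hz1 : z ≠ 1 := ne_one_of_order_two hz
  intro hbot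
  have hmem : ((z : ↥Q) : G) ∈ ozq Q := by
    refine ⟨(z : ↥Q).2, ?_, ?_⟩
    · have := congrArg (fun t : center ↥Q => ((t : ↥Q) : G)) hzz
      simpa using this
    · intro q hq
      have h1 : ⟨q, hq⟩ * (z : ↥Q) = (z : ↥Q) * ⟨q, hq⟩ := Subgroup.mem_center_iff.mp z.2 ⟨q, hq⟩
      have := congrArg (fun t : ↥Q => (t : G)) h1
      simpa using this.symm
  rw [hbot, Subgroup.mem_bot] at hmem
  apply hz1
  apply Subtype.ext
  apply Subtype.ext
  simpa using hmem

/-- the order of a normal elementary abelian `2`-subgroup is at most `4` -/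
theorem C4Hyp.card_le_four [Finite G] (h : C4Hyp x) (E : Subgroup G) [hEn : E.Normal]
    (hcomm : ∀ a ∈ E, ∀ b ∈ E, a * b = b * a) (hexp : ∀ a ∈ E, a * a = 1) :
    Nat.card E ≤ 4 := by
  have hx2 : x * x = 1 := sq_of_order_two h.ord
  have hxi : x⁻¹ = x := inv_of_order_two h.ord
  by_cases hxE : x ∈ E
  · rw [← h.card4]
    apply Subgroup.card_le_of_le
    intro e he
    rw [mem_cent]
    exact hcomm e he x hxE
  · haveI := Fintype.ofFinite G
    obtain ⟨Ef, hEf⟩ : ∃ Ef : Finset G, Ef = Finset.univ.filter (fun g : G => g ∈ E) := ⟨_, rfl⟩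
    have memEf : ∀ g, g ∈ Ef ↔ g ∈ E := by intro g; rw [hEf]; simp
    have hEfc : Ef.card = Nat.card E := by
      symm; apply Nat.subtype_card; intro c; rw [memEf]
    obtain ⟨Df, hDf⟩ : ∃ Df : Finset G,
      Df = Finset.univ.filter (fun g : G => g ∈ E ∧ g * x = x * g) := ⟨_, rfl⟩
    have memDf : ∀ g, g ∈ Df ↔ g ∈ E ∧ g * x = x * g := by intro g; rw [hDf]; simp
    have hDf2 : Df.card ≤ 2 := by
      apply card_le_two_of_forall Df 1
      intro a ha b hb ha1 hb1
      rw [memDf] at ha hb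
      apply h.eq_of_mem (E ⊓ centralizer ({x} : Set G)) inf_le_right
        (fun hx' => hxE (Subgroup.mem_inf.mp hx').1)
        (Subgroup.mem_inf.mpr ⟨ha.1, mem_cent.mpr ha.2⟩)
        (Subgroup.mem_inf.mpr ⟨hb.1, mem_cent.mpr hb.2⟩) ha1 hb1
    have hconj : ∀ e ∈ E, x * e * x⁻¹ ∈ E := fun e he => hEn.conj_mem e he x
    have hfiber : ∀ a ∈ Ef.image (fun e => e * (x * e * x⁻¹)),
        (Ef.filter (fun e => e * (x * e * x⁻¹) = a)).card ≤ 2 := by
      intro a ha
      obtain ⟨e₀, he₀, hae₀⟩ := Finset.mem_image.mp ha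
      rw [memEf] at he₀
      refine le_trans ?_ hDf2
      apply Finset.card_le_card_of_injOn (fun e => e₀⁻¹ * e)
      · intro e he
        have he' := Finset.mem_filter.mp he
        rw [memEf] at he'
        obtain ⟨heE, hea⟩ := he'
        show e₀⁻¹ * e ∈ Df
        rw [memDf]
        have hdE : e₀⁻¹ * e ∈ E := E.mul_mem (E.inv_mem he₀) heE
        refine ⟨hdE, ?_⟩
        have h1 : e * (x * e * x⁻¹) = e₀ * (x * e₀ * x⁻¹) := by rw [hea, hae₀]
        have h2 : e₀⁻¹ * e = x * (e₀ * e⁻¹) * x⁻¹ := by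
          calc e₀⁻¹ * e = e₀⁻¹ * (e * (x * e * x⁻¹)) * (x * e * x⁻¹)⁻¹ := by group
            _ = e₀⁻¹ * (e₀ * (x * e₀ * x⁻¹)) * (x * e * x⁻¹)⁻¹ := by rw [h1]
            _ = x * (e₀ * e⁻¹) * x⁻¹ := by group
        have h3 : e₀ * e⁻¹ = e₀⁻¹ * e := by
          have hi0 : e₀⁻¹ = e₀ := inv_eq_of_mul_eq_one_left (hexp e₀ he₀)
          have hi1 : e⁻¹ = e := inv_eq_of_mul_eq_one_left (hexp e heE)
          rw [hi0, hi1]
        rw [h3] at h2
        calc e₀⁻¹ * e * x = (x * (e₀⁻¹ * e) * x⁻¹) * x := by rw [← h2]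
          _ = x * (e₀⁻¹ * e) := by group
      · intro l _ l' _ hh
        exact mul_left_cancel hh
    have h1 := Finset.card_le_mul_card_image (s := Ef)
      (f := fun e => e * (x * e * x⁻¹)) 2 hfiber
    have h2 : (Ef.image (fun e => e * (x * e * x⁻¹))).card ≤ Df.card := by
      apply Finset.card_le_card
      intro a ha
      obtain ⟨e, he, rfl⟩ := Finset.mem_image.mp ha
      rw [memEf] at he
      rw [memDf]
      have hce := hconj e he
      refine ⟨E.mul_mem he hce, ?_⟩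
      have hcm : e * (x * e * x⁻¹) = (x * e * x⁻¹) * e := hcomm e he _ hce
      calc e * (x * e * x⁻¹) * x = (x * e * x⁻¹) * e * x := by rw [hcm]
        _ = x * e * (x⁻¹ * e * x) := by group
        _ = x * e * (x * e * x⁻¹) := by rw [hxi]
        _ = x * (e * (x * e * x⁻¹)) := by group
    rw [← hEfc]
    omega

/-- **Step 0**: no nontrivial normal `2`-subgroups -/
theorem C4Hyp.normal_two_subgroup_trivial [Finite G] (h : C4Hyp x)
    (hne : ∀ E : Subgroup G, E.Normal → Cfsg.IsElementaryAbelian 2 E →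
      Nat.card ↥E ≠ 2 ∧ Nat.card ↥E ≠ 4)
    (Q : Subgroup G) (hQn : Q.Normal) (hQ2 : IsPGroup 2 Q) : Q = ⊥ := by
  by_contra hQne
  haveI := hQn
  haveI := ozq_normal Q
  have hEne := ozq_ne_bot Q hQ2 hQne
  have hle4 : Nat.card (ozq Q) ≤ 4 :=
    h.card_le_four (ozq Q) (fun a ha b hb => ha.2.2 b hb.1) (fun a ha => ha.2.1)
  have hE2 : IsPGroup 2 (ozq Q) := hQ2.to_le (ozq_le Q)
  obtain ⟨k, hk⟩ := IsPGroup.iff_card.mp hE2
  have hgt : 1 < Nat.card (ozq Q) := by
    haveI : Nontrivial ↥(ozq Q) := (Subgroup.nontrivial_iff_ne_bot _).mpr hEne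
    exact Finite.one_lt_card
  have hcases : Nat.card (ozq Q) = 2 ∨ Nat.card (ozq Q) = 4 := by
    rw [hk] at hle4 hgt ⊢
    have hk2 : k ≤ 2 := by
      by_contra hk3
      push_neg at hk3
      have : 2 ^ 3 ≤ 2 ^ k := Nat.pow_le_pow_right (by norm_num) hk3
      omega
    interval_cases k
    · simp at hgt
    · left; rfl
    · right; rfl
  have := hne (ozq Q) inferInstance (ozq_elementary Q)
  rcases hcases with h2 | h4
  · exact this.1 h2
  · exact this.2 h4

theorem pCore_two_eq_bot [Finite G] (h : C4Hyp x)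
    (hne : ∀ E : Subgroup G, E.Normal → Cfsg.IsElementaryAbelian 2 E →
      Nat.card ↥E ≠ 2 ∧ Nat.card ↥E ≠ 4) : Cfsg.pCore 2 G = ⊥ := by
  haveI : Fact (Nat.Prime 2) := ⟨Nat.prime_two⟩
  exact h.normal_two_subgroup_trivial hne _ (pCore_normal 2) (pCore_isPGroup 2)

/-- If `O_2(X) = 1` then `F(X)` has odd order. -/
theorem card_fitting_coprime_two {X : Type u} [Group X] [Finite X]
    (h : Cfsg.pCore 2 X = ⊥) : (Nat.card (Cfsg.fittingSubgroup X)).Coprime 2 := by
  have : Fact (Nat.Prime 2) := ⟨Nat.prime_two⟩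
  by_contra hcon
  have h2 : 2 ∣ Nat.card (Cfsg.fittingSubgroup X) := by
    by_contra h2
    exact hcon ((Nat.Prime.coprime_iff_not_dvd Nat.prime_two).mpr h2).symm
  obtain ⟨F, hF⟩ : ∃ F : Subgroup X, F = Cfsg.fittingSubgroup X := ⟨_, rfl⟩
  rw [← hF] at h2
  have hFn : F.Normal := by rw [hF]; exact fittingSubgroup_normal
  have hFnil : Group.IsNilpotent F := by rw [hF]; exact fittingSubgroup_isNilpotent
  obtain ⟨T⟩ : Nonempty (Sylow 2 ↥F) := inferInstance
  have hTne : (T : Subgroup ↥F) ≠ ⊥ := T.ne_bot_of_dvd_card h2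
  have htfae := (Group.isNilpotent_of_finite_tfae (G := ↥F)).out 0 3
  have hTn : (T : Subgroup ↥F).Normal := htfae.mp hFnil 2 inferInstance T
  have hTc : (T : Subgroup ↥F).Characteristic := T.characteristic_of_normal hTn
  have hTmapn : ((T : Subgroup ↥F).map F.subtype).Normal :=
    ConjAct.normal_of_characteristic_of_normal
  have hTp : IsPGroup 2 ((T : Subgroup ↥F).map F.subtype) := T.2.map _
  have hle := le_pCore hTmapn hTp
  rw [h, le_bot_iff] at hle
  apply hTne
  rw [eq_bot_iff]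
  intro y hy
  have : F.subtype y ∈ (T : Subgroup ↥F).map F.subtype := ⟨y, hy, rfl⟩
  rw [hle, Subgroup.mem_bot] at this
  rw [Subgroup.mem_bot]
  exact Subtype.ext this

/-- **Step 1**: in the solvable case with `O_2(G) = 1` there is a normal `2`-complement -/
theorem C4Hyp.normal_complement_of_solvable [Finite G] [Group.IsSolvable G] (h : C4Hyp x)
    (hO2 : Cfsg.pCore 2 G = ⊥) : Cfsg.HasNormalPComplement 2 G := by
  haveI : Fact (Nat.Prime 2) := ⟨Nat.prime_two⟩
  have hx2 : x * x = 1 := sq_of_order_two h.ord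
  have hxi : x⁻¹ = x := inv_of_order_two h.ord
  obtain ⟨F, hF⟩ : ∃ F : Subgroup G, F = Cfsg.fittingSubgroup G := ⟨_, rfl⟩
  have hFn : F.Normal := by rw [hF]; exact fittingSubgroup_normal
  have hFodd : (Nat.card F).Coprime 2 := by rw [hF]; exact card_fitting_coprime_two hO2
  have hCF : centralizer (F : Set G) ≤ F := by rw [hF]; exact centralizer_fittingSubgroup_le
  have hfixF : ∀ f ∈ F, x * f = f * x → f = 1 := by
    intro f hf hc
    have hfV : f ∈ centralizer ({x} : Set G) := mem_cent.mpr hc.symm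
    have hff : f * f = 1 := h.exp2 f hfV
    have h1 : orderOf f ∣ 2 := by
      apply orderOf_dvd_of_pow_eq_one; rw [pow_two]; exact hff
    have h2 : orderOf f ∣ Nat.card F := Subgroup.orderOf_dvd_natCard F hf
    have h3 : orderOf f ∣ 1 := by
      have := Nat.dvd_gcd h2 h1
      rwa [Nat.Coprime.gcd_eq_one hFodd] at this
    exact orderOf_eq_one_iff.mp (Nat.dvd_one.mp h3)
  have hinvF := fpf_inverts F x hx2 (fun n hn => hFn.conj_mem n hn x) hfixF
  have hc : ∀ g : G, x * g⁻¹ * x * g ∈ F := by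
    intro g
    apply hCF
    rw [Subgroup.mem_centralizer_iff]
    intro f hf
    have hu : g * f * g⁻¹ ∈ F := hFn.conj_mem f hf g
    have h1 : x * (g * f * g⁻¹) * x⁻¹ = (g * f * g⁻¹)⁻¹ := hinvF _ hu
    have h2 : x * f⁻¹ * x⁻¹ = f := by
      have := hinvF f⁻¹ (F.inv_mem hf)
      simpa using this
    symm
    calc x * g⁻¹ * x * g * f = x * g⁻¹ * (x * (g * f * g⁻¹) * x⁻¹) * x * g := by group
      _ = x * g⁻¹ * (g * f * g⁻¹)⁻¹ * x * g := by rw [h1]
      _ = (x * f⁻¹ * x⁻¹) * (x * g⁻¹ * x * g) := by group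
      _ = f * (x * g⁻¹ * x * g) := by rw [h2]
  haveI := Fintype.ofFinite G
  obtain ⟨Ff, hFf⟩ : ∃ Ff : Finset G, Ff = Finset.univ.filter (fun g : G => g ∈ F) := ⟨_, rfl⟩
  have memFf : ∀ g, g ∈ Ff ↔ g ∈ F := by intro g; rw [hFf]; simp
  have hFfc : Ff.card = Nat.card F := by
    symm; apply Nat.subtype_card; intro c; rw [memFf]
  have hfiber : ∀ a ∈ (Finset.univ : Finset G).image (fun g => x * g⁻¹ * x * g),
      ((Finset.univ : Finset G).filter (fun g => x * g⁻¹ * x * g = a)).card ≤ 4 := by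
    intro a ha
    obtain ⟨g₀, -, hg₀⟩ := Finset.mem_image.mp ha
    have h4 : (centF x).card = 4 := by rw [card_centF]; exact h.card4
    rw [← h4]
    apply Finset.card_le_card_of_injOn (fun g => g * g₀⁻¹)
    · intro g hg
      have hg' : x * g⁻¹ * x * g = a := by simpa using hg
      show g * g₀⁻¹ ∈ centF x
      rw [mem_centF]
      have h1 : x * g⁻¹ * x * g = x * g₀⁻¹ * x * g₀ := by rw [hg', hg₀]
      have h2 : g⁻¹ * x * g = g₀⁻¹ * x * g₀ := by
        calc g⁻¹ * x * g = x⁻¹ * (x * g⁻¹ * x * g) := by group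
          _ = x⁻¹ * (x * g₀⁻¹ * x * g₀) := by rw [h1]
          _ = g₀⁻¹ * x * g₀ := by group
      calc g * g₀⁻¹ * x = g * (g₀⁻¹ * x * g₀) * g₀⁻¹ := by group
        _ = g * (g⁻¹ * x * g) * g₀⁻¹ := by rw [h2]
        _ = x * (g * g₀⁻¹) := by group
    · intro l _ l' _ hh
      exact mul_right_cancel hh
  have h1 := Finset.card_le_mul_card_image (s := (Finset.univ : Finset G))
    (f := fun g => x * g⁻¹ * x * g) 4 hfiber
  have h2 : ((Finset.univ : Finset G).image (fun g => x * g⁻¹ * x * g)).card ≤ Ff.card := by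
    apply Finset.card_le_card
    intro a ha
    obtain ⟨g, -, rfl⟩ := Finset.mem_image.mp ha
    rw [memFf]; exact hc g
  rw [Finset.card_univ, ← Nat.card_eq_fintype_card] at h1
  rw [hFfc] at h2
  -- arithmetic
  have hmdvd : Nat.card F ∣ Nat.card G := Subgroup.card_subgroup_dvd_card F
  have h4dvd : 4 ∣ Nat.card G := by
    rw [← h.card4]; exact Subgroup.card_subgroup_dvd_card _
  have hcop4 : (Nat.card F).Coprime 4 := by
    have : (4 : ℕ) = 2 ^ 2 := by norm_num
    rw [this]; exact Nat.Coprime.pow_right 2 hFodd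
  have hmul : Nat.card F * 4 ∣ Nat.card G := Nat.Coprime.mul_dvd_of_dvd_of_dvd hcop4 hmdvd h4dvd
  have hpos : 0 < Nat.card G := Nat.card_pos
  have hle := Nat.le_of_dvd hpos hmul
  have hcardG : Nat.card F * 4 = Nat.card G := by omega
  have hcompl : F.IsComplement' (centralizer ({x} : Set G)) := by
    apply Subgroup.isComplement'_of_coprime
    · rw [h.card4]; exact hcardG
    · rw [h.card4]; exact hcop4
  -- a Sylow 2-subgroup equal to C(x)
  have hVp : IsPGroup 2 (centralizer ({x} : Set G)) := IsPGroup.of_card (n := 2) (by rw [h.card4]; norm_num)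
  obtain ⟨P, hVP⟩ := hVp.exists_le_sylow
  obtain ⟨k, hk⟩ := IsPGroup.iff_card.mp P.2
  have hPdvd : Nat.card (P : Subgroup G) ∣ Nat.card G := Subgroup.card_subgroup_dvd_card _
  have hP4 : Nat.card (P : Subgroup G) ∣ 4 := by
    rw [← hcardG] at hPdvd
    have hcop : (Nat.card (P : Subgroup G)).Coprime (Nat.card F) := by
      rw [hk]; exact Nat.Coprime.pow_left k hFodd.symm
    exact hcop.dvd_of_dvd_mul_left hPdvd
  have hPle : Nat.card (P : Subgroup G) ≤ 4 := Nat.le_of_dvd (by norm_num) hP4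
  have hVeq : centralizer ({x} : Set G) = (P : Subgroup G) :=
    Subgroup.eq_of_le_of_card_ge hVP (by rw [h.card4]; exact hPle)
  refine ⟨P, F, hFn, ?_⟩
  rw [← hVeq]; exact hcompl

end Cfsg.Agent.Lib.Helper1.Dv
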