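import Mathlib
import Cfsg.Agent.Lib.Helper1.Hall

set_option autoImplicit false
open scoped commutatorElement
universe u
namespace Cfsg.Agent.Lib.Helper1

theorem self_centralizing_quotient_step {X : Type u} [Group X] [Finite X] {p : ℕ}
    [hp : Fact p.Prime] (n : ℕ)
    (hX : Nat.card X = p ^ (n + 1)) (A : Subgroup X) (hA : Nat.card A = p ^ 2)
    (hC : Subgroup.centralizer (A : Set X) = A) (hAtop : A ≠ ⊤) :
    Nat.card (X ⧸ Subgroup.center X) = p ^ n ∧
    ∃ B : Subgroup (X ⧸ Subgroup.center X), Nat.card B = p ^ 2 ∧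
      Subgroup.centralizer (B : Set (X ⧸ Subgroup.center X)) = B := by
  have hXp : IsPGroup p X := IsPGroup.of_card hX
  have hAcomm : IsMulCommutative A := IsPGroup.isMulCommutative_of_card_eq_prime_sq hA
  have hZA : Subgroup.center X ≤ A := by
    rw [← hC]; exact Subgroup.center_le_centralizer _
  have hZneA : Subgroup.center X ≠ A := by
    intro h
    apply hAtop
    rw [← hC, ← h, Subgroup.centralizer_eq_top_iff_subset]
  have hXnt : Nontrivial X := by
    rw [← Finite.one_lt_card_iff_nontrivial, hX]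
    exact Nat.one_lt_pow (Nat.succ_ne_zero n) hp.out.one_lt
  have hZcard : Nat.card (Subgroup.center X) = p := by
    have h1 : Nat.card (Subgroup.center X) ∣ p ^ 2 := hA ▸ Subgroup.card_dvd_of_le hZA
    obtain ⟨j, hj, hj'⟩ := (Nat.dvd_prime_pow hp.out).mp h1
    have hj0 : j ≠ 0 := by
      rintro rfl
      rw [pow_zero] at hj'
      have : Subgroup.center X = ⊥ := Subgroup.card_eq_one.mp hj'
      have hnt := hXp.center_nontrivial
      rw [this] at hnt
      exact not_nontrivial _ hnt
    have hj2 : j ≠ 2 := by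
      rintro rfl
      exact hZneA (Subgroup.eq_of_le_of_card_ge hZA (by rw [hA, hj']))
    have : j = 1 := by omega
    rw [hj', this, pow_one]
  have hqcard : Nat.card (X ⧸ Subgroup.center X) = p ^ n := by
    have := Subgroup.card_eq_card_quotient_mul_card_subgroup (Subgroup.center X)
    rw [hX, hZcard, pow_succ] at this
    exact (Nat.eq_of_mul_eq_mul_right hp.out.pos this).symm
  refine ⟨hqcard, ?_⟩
  have hqp : IsPGroup p (X ⧸ Subgroup.center X) := hXp.to_quotient _
  obtain ⟨f, hf⟩ : ∃ f, f = QuotientGroup.mk' (Subgroup.center X) := ⟨_, rfl⟩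
  have hfs : Function.Surjective f := by rw [hf]; exact QuotientGroup.mk'_surjective _
  have hfker : f.ker = Subgroup.center X := by rw [hf]; exact QuotientGroup.ker_mk' _
  obtain ⟨Ab, hAb⟩ : ∃ Ab, Ab = A.map f := ⟨_, rfl⟩
  obtain ⟨Bb, hBb⟩ : ∃ Bb, Bb = Subgroup.centralizer (Ab : Set (X ⧸ Subgroup.center X)) :=
    ⟨_, rfl⟩
  have hAbBb : Ab ≤ Bb := by
    rw [hBb, hAb]
    rintro _ ⟨a, ha, rfl⟩
    rw [Subgroup.mem_centralizer_iff]
    rintro _ ⟨b, hb, rfl⟩
    rw [← map_mul, ← map_mul]
    exact congrArg f (congrArg Subtype.val (mul_comm' (⟨b, hb⟩ : A) ⟨a, ha⟩))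
  obtain ⟨B, hB⟩ : ∃ B, B = Bb.comap f := ⟨_, rfl⟩
  have hmemB : ∀ x, x ∈ B ↔ ∀ a ∈ A, ⁅x, a⁆ ∈ Subgroup.center X := by
    intro x
    rw [hB, Subgroup.mem_comap, hBb, Subgroup.mem_centralizer_iff, hAb]
    constructor
    · intro h a ha
      have h1 := h (f a) (Subgroup.mem_map_of_mem f ha)
      rw [← hfker, MonoidHom.mem_ker, map_commutatorElement,
        commutatorElement_eq_one_iff_mul_comm]
      exact h1.symm
    · rintro h _ ⟨a, ha, rfl⟩
      have h1 := h a ha
      rw [← hfker, MonoidHom.mem_ker, map_commutatorElement,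
        commutatorElement_eq_one_iff_mul_comm] at h1
      exact h1.symm
  have hAB : A ≤ B := by
    rw [hB]
    intro a ha
    exact hAbBb (hAb ▸ Subgroup.mem_map_of_mem f ha)
  -- B ≠ A
  have hBneA : ¬ B ≤ A := by
    intro hBA
    have hBeq : B = A := le_antisymm hBA hAB
    obtain ⟨Z₂, hZ₂⟩ : ∃ Z₂, Z₂ = (Subgroup.center (X ⧸ Subgroup.center X)).comap f := ⟨_, rfl⟩
    have hZ₂B : Z₂ ≤ B := by
      rw [hZ₂, hB, hBb]; exact Subgroup.comap_mono (Subgroup.center_le_centralizer _)
    have hZ₂card : Nat.card Z₂ =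
        Nat.card (Subgroup.center X) * Nat.card (Subgroup.center (X ⧸ Subgroup.center X)) := by
      rw [hZ₂, hf]; exact card_comap_mk' _ _
    have hqnt : Nontrivial (X ⧸ Subgroup.center X) := by
      rw [← Finite.one_lt_card_iff_nontrivial, hqcard]
      apply Nat.one_lt_pow _ hp.out.one_lt
      rintro rfl
      rw [zero_add, pow_one] at hX
      have h1 := Subgroup.card_le_card_group A
      rw [hA, hX] at h1
      have h2 := hp.out.one_lt
      nlinarith
    have hcq : p ∣ Nat.card (Subgroup.center (X ⧸ Subgroup.center X)) := by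
      have hnt := hqp.center_nontrivial
      obtain ⟨k, hk⟩ := IsPGroup.iff_card.mp (hqp.to_subgroup (Subgroup.center _))
      rw [hk]
      apply dvd_pow_self
      rintro rfl
      rw [pow_zero] at hk
      have := Subgroup.card_eq_one.mp hk
      rw [this] at hnt
      exact not_nontrivial _ hnt
    have hZ₂A : Z₂ = A := by
      apply Subgroup.eq_of_le_of_card_ge (hZ₂B.trans hBA)
      rw [hA, hZ₂card, hZcard, sq]
      exact Nat.mul_le_mul_left _ (Nat.le_of_dvd Nat.card_pos hcq)
    have hAbc : Ab = Subgroup.center (X ⧸ Subgroup.center X) := by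
      rw [hAb, ← hZ₂A, hZ₂, Subgroup.map_comap_eq_self_of_surjective hfs]
    have hBbtop : Bb = ⊤ := by
      rw [hBb, hAbc, Subgroup.centralizer_eq_top_iff_subset]
    apply hAtop
    rw [← hBeq, hB, hBbtop, Subgroup.comap_top]
  obtain ⟨a₀, ha₀A, ha₀Z⟩ := SetLike.exists_of_lt (lt_of_le_of_ne hZA hZneA)
  -- the hom
  have hcomm : ∀ x : B, ⁅(x : X), a₀⁆ ∈ Subgroup.center X := fun x => (hmemB x).mp x.2 a₀ ha₀A
  let φ : B →* Subgroup.center X :=
    { toFun := fun x => ⟨⁅(x : X), a₀⁆, hcomm x⟩
      map_one' := by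
        apply Subtype.ext
        simp
      map_mul' := fun x y => by
        apply Subtype.ext
        have e : ⁅(x : X) * y, a₀⁆ = x * ⁅(y : X), a₀⁆ * (x : X)⁻¹ * ⁅(x : X), a₀⁆ := by
          simp only [commutatorElement_def]; group
        have hc := Subgroup.mem_center_iff.mp (hcomm y) x
        show ⁅((x * y : B) : X), a₀⁆ = ⁅(x : X), a₀⁆ * ⁅(y : X), a₀⁆
        rw [Subgroup.coe_mul, e, hc, mul_inv_cancel_right]
        exact (Subgroup.mem_center_iff.mp (hcomm y) _).symm }
  have hker : φ.ker = A.subgroupOf B := by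
    ext x
    rw [MonoidHom.mem_ker, Subgroup.mem_subgroupOf]
    constructor
    · intro hx
      have h1 : ⁅(x : X), a₀⁆ = 1 := congrArg Subtype.val hx
      have h2 : (x : X) * a₀ = a₀ * x := commutatorElement_eq_one_iff_mul_comm.mp h1
      -- x centralizes A
      rw [← hC, Subgroup.mem_centralizer_iff]
      have hsup : Subgroup.zpowers a₀ ⊔ Subgroup.center X = A := by
        have hle : Subgroup.zpowers a₀ ⊔ Subgroup.center X ≤ A :=
          sup_le (Subgroup.zpowers_le.mpr ha₀A) hZA
        apply Subgroup.eq_of_le_of_card_ge hle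
        have h3 : Nat.card (Subgroup.zpowers a₀ ⊔ Subgroup.center X : Subgroup X) ∣ p ^ 2 :=
          hA ▸ Subgroup.card_dvd_of_le hle
        obtain ⟨j, hj, hj'⟩ := (Nat.dvd_prime_pow hp.out).mp h3
        have hj2 : j = 2 := by
          by_contra hne
          have : j ≤ 1 := by omega
          have h5 : p ^ j ≤ p ^ 1 := Nat.pow_le_pow_right hp.out.pos this
          rw [pow_one] at h5
          have h6 : Subgroup.center X = Subgroup.zpowers a₀ ⊔ Subgroup.center X :=
            Subgroup.eq_of_le_of_card_ge le_sup_right (by rw [hj', hZcard]; exact h5)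
          apply ha₀Z
          rw [h6]
          exact le_sup_left (a := Subgroup.zpowers a₀) (Subgroup.mem_zpowers a₀)
        rw [hA, hj', hj2]
      have hle : Subgroup.zpowers a₀ ⊔ Subgroup.center X ≤ Subgroup.centralizer {(x : X)} := by
        apply sup_le
        · rw [Subgroup.zpowers_le, Subgroup.mem_centralizer_singleton_iff]
          exact h2.symm
        · exact Subgroup.center_le_centralizer _
      intro a ha
      rw [← hsup] at ha
      exact (Subgroup.mem_centralizer_singleton_iff.mp (hle ha))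
    · intro hx
      apply Subtype.ext
      show ⁅(x : X), a₀⁆ = 1
      rw [commutatorElement_eq_one_iff_mul_comm]
      exact congrArg Subtype.val (mul_comm' (⟨x, hx⟩ : A) ⟨a₀, ha₀A⟩)
  have hrel : A.relIndex B = p := by
    rw [Subgroup.relIndex, ← hker, Subgroup.index_ker]
    have hdvd : Nat.card φ.range ∣ p := hZcard ▸ Subgroup.card_subgroup_dvd_card φ.range
    rcases (Nat.dvd_prime hp.out).mp hdvd with h1 | h1
    · exfalso
      apply hBneA
      rw [← Subgroup.relIndex_eq_one, Subgroup.relIndex, ← hker, Subgroup.index_ker, h1]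
    · exact h1
  have hBcard : Nat.card B = p ^ 3 := by
    have := Subgroup.relIndex_mul_relIndex ⊥ A B bot_le hAB
    rw [Subgroup.relIndex_bot_left, Subgroup.relIndex_bot_left, hA, hrel] at this
    rw [← this]; ring
  have hBbcard : Nat.card Bb = p ^ 2 := by
    have h1 : Nat.card B = Nat.card (Subgroup.center X) * Nat.card Bb := by
      rw [hB, hf]; exact card_comap_mk' _ _
    rw [hBcard, hZcard, pow_succ, mul_comm] at h1
    exact (Nat.eq_of_mul_eq_mul_left hp.out.pos h1).symm
  refine ⟨Bb, hBbcard, ?_⟩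
  have hBbcomm : IsMulCommutative Bb := IsPGroup.isMulCommutative_of_card_eq_prime_sq hBbcard
  apply le_antisymm
  · calc Subgroup.centralizer (Bb : Set (X ⧸ Subgroup.center X))
        ≤ Subgroup.centralizer (Ab : Set (X ⧸ Subgroup.center X)) :=
          Subgroup.centralizer_le hAbBb
      _ = Bb := hBb.symm
  · intro b hb
    rw [Subgroup.mem_centralizer_iff]
    intro c hc
    exact congrArg Subtype.val (mul_comm' (⟨c, hc⟩ : Bb) ⟨b, hb⟩)

end Cfsg.Agent.Lib.Helper1
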