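import Mathlib
import Cfsg.Agent.Lib.Helper1.MaxClassStep

set_option autoImplicit false
open scoped commutatorElement
universe u
namespace Cfsg.Agent.Lib.Helper1

theorem max_class_of_self_centralizing_aux (p : ℕ) [hp : Fact p.Prime] :
    ∀ (n : ℕ) (X : Type u) [Group X] [Finite X], Nat.card X = p ^ n →
      ∀ A : Subgroup X, Nat.card A = p ^ 2 → Subgroup.centralizer (A : Set X) = A →
        Group.nilpotencyClass X = n - 1 := by
  intro n
  induction n with
  | zero =>
    intro X _ _ hX A hA _
    exfalso
    have h1 := Subgroup.card_le_card_group A
    rw [hA, hX, pow_zero] at h1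
    have h2 := hp.out.one_lt
    nlinarith
  | succ n ih =>
    intro X _ _ hX A hA hC
    have hXp : IsPGroup p X := IsPGroup.of_card hX
    have hnil : Group.IsNilpotent X := hXp.isNilpotent
    have hXnt : Nontrivial X := by
      rw [← Finite.one_lt_card_iff_nontrivial, hX]
      exact Nat.one_lt_pow (Nat.succ_ne_zero n) hp.out.one_lt
    rw [Group.nilpotencyClass_eq_quotient_center_plus_one]
    by_cases hAtop : A = ⊤
    · have hn : n + 1 = 2 := by
        have h1 : Nat.card A = Nat.card X := by rw [hAtop, Subgroup.card_top]
        rw [hA, hX] at h1
        exact (Nat.pow_right_injective hp.out.two_le h1).symm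
      have hcen : Subgroup.center X = ⊤ := by
        rw [hAtop, Subgroup.coe_top, Subgroup.centralizer_univ] at hC
        exact hC
      have hss : Subsingleton (X ⧸ Subgroup.center X) := by
        constructor
        intro a b
        induction a using QuotientGroup.induction_on with
        | H a =>
          induction b using QuotientGroup.induction_on with
          | H b =>
            rw [QuotientGroup.eq, hcen]; exact Subgroup.mem_top _
      rw [Group.nilpotencyClass_zero_iff_subsingleton.mpr hss]
      omega
    · obtain ⟨hq, B, hB, hBC⟩ := self_centralizing_quotient_step n hX A hA hC hAtop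
      rw [ih (X ⧸ Subgroup.center X) hq B hB hBC]
      have hn : 2 ≤ n := by
        have h1 := Subgroup.card_le_card_group B
        rw [hB, hq] at h1
        exact (Nat.pow_le_pow_iff_right hp.out.one_lt).mp h1
      omega

theorem max_class_of_self_centralizing {X : Type u} [Group X] [Finite X] {p : ℕ} [Fact p.Prime]
    (n : ℕ) (hX : Nat.card X = p ^ n) (A : Subgroup X) (hA : Nat.card A = p ^ 2)
    (hC : Subgroup.centralizer (A : Set X) = A) : Group.nilpotencyClass X = n - 1 :=
  max_class_of_self_centralizing_aux p n X hX A hA hC

end Cfsg.Agent.Lib.Helper1
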