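import Mathlib
set_option autoImplicit false
open Pointwise

namespace Cfsg.Agent.Lib.Helper1

theorem nilpotencyClass_le_of_card_pow_aux (p : ℕ) [hp : Fact p.Prime] (m : ℕ) :
    ∀ (G : Type*) [Group G] [Finite G], Nat.card G = p ^ m → 1 < m →
      Group.nilpotencyClass G ≤ m - 1 := by
  induction m using Nat.strong_induction_on with
  | _ m ih =>
    intro G _ _ hG hm
    have hpG : IsPGroup p G := IsPGroup.of_card hG
    have hnil : Group.IsNilpotent G := hpG.isNilpotent
    have hnt : Nontrivial G := by
      rw [← Finite.one_lt_card_iff_nontrivial, hG]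
      exact Nat.one_lt_pow (by omega) hp.out.one_lt
    obtain ⟨k, hk0, hk⟩ := IsPGroup.card_center_eq_prime_pow hG (by omega)
    have hkm : k ≤ m := by
      have h1 : Nat.card (Subgroup.center G) ∣ Nat.card G := Subgroup.card_subgroup_dvd_card _
      rw [hk, hG] at h1
      exact (Nat.pow_dvd_pow_iff_le_right hp.out.one_lt).mp h1
    have hq : Nat.card (G ⧸ Subgroup.center G) = p ^ (m - k) := by
      have h1 := (Subgroup.center G).card_mul_index
      rw [hk, hG] at h1
      have h2 : p ^ m = p ^ k * p ^ (m - k) := by rw [← pow_add]; congr 1; omega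
      rw [h2] at h1
      exact Nat.eq_of_mul_eq_mul_left (pow_pos hp.out.pos k) h1
    rw [Group.nilpotencyClass_eq_quotient_center_plus_one]
    by_cases hj : 1 < m - k
    · have := ih (m - k) (by omega) (G ⧸ Subgroup.center G) hq hj
      omega
    · -- quotient is cyclic, so G is commutative
      have hcyc : IsCyclic (G ⧸ Subgroup.center G) := by
        have hj' : m - k = 0 ∨ m - k = 1 := by omega
        rcases hj' with h0 | h1
        · rw [h0, pow_zero] at hq
          have : Subsingleton (G ⧸ Subgroup.center G) := (Nat.card_eq_one_iff_unique.mp hq).1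
          exact isCyclic_of_subsingleton
        · rw [h1, pow_one] at hq
          exact isCyclic_of_prime_card hq
      have hcomm : IsMulCommutative G :=
        MonoidHom.isMulCommutative_of_isCyclic_of_ker_le_center
          (QuotientGroup.mk' (Subgroup.center G)) (by rw [QuotientGroup.ker_mk'])
      have h1 := (Group.IsNilpotent.nilpotencyClass_le_one_iff (G := G)).mpr hcomm
      rw [Group.nilpotencyClass_eq_quotient_center_plus_one] at h1
      omega

theorem nilpotencyClass_le_of_card_pow {G : Type*} [Group G] [Finite G] (p m : ℕ) [Fact p.Prime]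
    (hG : Nat.card G = p ^ m) (hm : 1 < m) : Group.nilpotencyClass G ≤ m - 1 :=
  nilpotencyClass_le_of_card_pow_aux p m G hG hm

end Cfsg.Agent.Lib.Helper1
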