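import Mathlib
import Cfsg.Agent.Lib.Helper1.PGroupClass

set_option autoImplicit false
open scoped commutatorElement
universe u
namespace Cfsg.Agent.Lib.Helper1

theorem nilpotencyClass_le_one_of_comm {X : Type u} [Group X] [Group.IsNilpotent X]
    (h : ∀ a b : X, a * b = b * a) : Group.nilpotencyClass X ≤ 1 := by
  rw [← Subgroup.upperCentralSeries_eq_top_iff_nilpotencyClass_le, Subgroup.upperCentralSeries_one,
    eq_top_iff]
  intro x _
  rw [Subgroup.mem_center_iff]
  intro g
  exact h g x

theorem subsingleton_quotient_center_of_comm {X : Type u} [Group X]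
    (h : ∀ a b : X, a * b = b * a) : Subsingleton (X ⧸ Subgroup.center X) := by
  constructor
  intro a b
  induction a using QuotientGroup.induction_on with
  | H a =>
    induction b using QuotientGroup.induction_on with
    | H b =>
      rw [QuotientGroup.eq, Subgroup.mem_center_iff]
      intro g
      exact h _ _

/-- In a `p`-group of order `p^n` (`n ≥ 3`) of maximal class, the centre has order `p` and the
central quotient again has maximal class. -/
theorem max_class_center_card {X : Type u} [Group X] [Finite X] {p : ℕ} [hp : Fact p.Prime] (n : ℕ)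
    (hn : 3 ≤ n) (hX : Nat.card X = p ^ n) (hc : Group.nilpotencyClass X = n - 1) :
    Nat.card (Subgroup.center X) = p ∧ Nat.card (X ⧸ Subgroup.center X) = p ^ (n - 1) ∧
      Group.nilpotencyClass (X ⧸ Subgroup.center X) = n - 2 := by
  have hXp : IsPGroup p X := IsPGroup.of_card hX
  have hnil : Group.IsNilpotent X := hXp.isNilpotent
  have hXnt : Nontrivial X := by
    rw [← Finite.one_lt_card_iff_nontrivial, hX]
    exact Nat.one_lt_pow (by omega) hp.out.one_lt
  have hcq : Group.nilpotencyClass (X ⧸ Subgroup.center X) = n - 2 := by
    have := Group.nilpotencyClass_eq_quotient_center_plus_one (G := X)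
    rw [hc] at this
    omega
  obtain ⟨j, hj⟩ := IsPGroup.iff_card.mp (hXp.to_subgroup (Subgroup.center X))
  have hjn : j ≤ n := by
    have h1 := Subgroup.card_le_card_group (Subgroup.center X)
    rw [hj, hX] at h1
    exact (Nat.pow_le_pow_iff_right hp.out.one_lt).mp h1
  have hq : Nat.card (X ⧸ Subgroup.center X) = p ^ (n - j) := by
    have := Subgroup.card_eq_card_quotient_mul_card_subgroup (Subgroup.center X)
    rw [hX, hj] at this
    have h2 : p ^ n = p ^ (n - j) * p ^ j := by rw [← pow_add, Nat.sub_add_cancel hjn]
    rw [h2] at this
    exact (Nat.eq_of_mul_eq_mul_right (pow_pos hp.out.pos j) this).symm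
  have hj0 : j ≠ 0 := by
    rintro rfl
    rw [pow_zero] at hj
    have := Subgroup.card_eq_one.mp hj
    have hnt := hXp.center_nontrivial
    rw [this] at hnt
    exact not_nontrivial _ hnt
  have hj1 : j = 1 := by
    by_contra hne
    have hj2 : 2 ≤ j := by omega
    by_cases hnj : 1 < n - j
    · have := nilpotencyClass_le_of_card_pow p (n - j) hq hnj
      rw [hcq] at this
      omega
    · -- quotient of order ≤ p: cyclic, so X abelian
      have hcyc : IsCyclic (X ⧸ Subgroup.center X) := by
        have h3 : n - j = 0 ∨ n - j = 1 := by omega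
        rcases h3 with h3 | h3
        · rw [h3, pow_zero] at hq
          have : Subsingleton (X ⧸ Subgroup.center X) := (Nat.card_eq_one_iff_unique.mp hq).1
          infer_instance
        · rw [h3, pow_one] at hq
          exact isCyclic_of_prime_card hq
      have hker : (QuotientGroup.mk' (Subgroup.center X)).ker ≤ Subgroup.center X := by
        rw [QuotientGroup.ker_mk']
      have hcomm := MonoidHom.isMulCommutative_of_isCyclic_of_ker_le_center _ hker
      have hss := subsingleton_quotient_center_of_comm (X := X) (fun a b => mul_comm' a b)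
      have h0 := Group.nilpotencyClass_zero_iff_subsingleton.mpr hss
      rw [hcq] at h0
      omega
  rw [hj1, pow_one] at hj
  rw [hj1] at hq
  exact ⟨hj, hq, hcq⟩

end Cfsg.Agent.Lib.Helper1
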