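import Mathlib
import Cfsg.Agent.Lib.Helper1.MaxClassTwoA

set_option autoImplicit false
open scoped commutatorElement
universe u
namespace Cfsg.Agent.Lib.Helper1

/-- Lemma W. -/
theorem pow_mem_center_of_conj {X : Type u} [Group X] (h : X) (m : ℕ) (hm : 2 ≤ m)
    (ho : orderOf h = 2 ^ m)
    (hconj : ∀ g : X, ∃ i : ℤ, ∃ ν : X, ν ∈ Subgroup.center X ∧ ν ^ 2 = 1 ∧
      g * h * g⁻¹ = h ^ i * ν) : h ^ (2 ^ (m - 1)) ∈ Subgroup.center X := by
  obtain ⟨w, hw⟩ : ∃ w, w = h ^ (2 ^ (m - 1)) := ⟨_, rfl⟩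
  rw [← hw]
  have hw2 : w ^ 2 = 1 := by
    rw [hw, ← pow_mul, ← pow_succ, Nat.sub_add_cancel (by omega), ← ho, pow_orderOf_eq_one]
  have hw1 : w ≠ 1 := by
    intro h1
    rw [hw] at h1
    have h2 := orderOf_dvd_of_pow_eq_one h1
    rw [ho] at h2
    have := (Nat.pow_dvd_pow_iff_le_right (by norm_num : 1 < 2)).mp h2
    omega
  rw [Subgroup.mem_center_iff]
  intro g
  obtain ⟨i, ν, hν, hν2, hg⟩ := hconj g
  have hνc : ∀ y : X, ν * y = y * ν := fun y => (Subgroup.mem_center_iff.mp hν y).symm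
  have h2 : g * h ^ 2 * g⁻¹ = h ^ (2 * i) := by
    have e : g * h ^ 2 * g⁻¹ = (g * h * g⁻¹) ^ 2 := by
      rw [pow_two, pow_two]; group
    rw [e, hg, pow_two]
    have : h ^ i * ν * (h ^ i * ν) = h ^ i * h ^ i * (ν * ν) := by
      rw [mul_assoc, ← mul_assoc ν, hνc (h ^ i)]; group
    rw [this, ← pow_two ν, hν2, mul_one, ← zpow_add]
    congr 1; ring
  have hwg : g * w * g⁻¹ = w ^ i := by
    have e1 : w = (h ^ 2) ^ (2 ^ (m - 2)) := by
      rw [hw, ← pow_mul, ← pow_succ']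
      congr 2; omega
    have e2 : g * (h ^ 2) ^ (2 ^ (m - 2)) * g⁻¹ = (g * h ^ 2 * g⁻¹) ^ (2 ^ (m - 2)) := by
      rw [conj_pow]
    rw [e1, e2, h2, ← pow_mul, ← zpow_natCast, ← zpow_natCast, ← zpow_mul, ← zpow_mul]
    congr 1
    push_cast
    ring
  have hwi : w ^ i = w := by
    rcases Int.even_or_odd i with ⟨k, hk⟩ | ⟨k, hk⟩
    · exfalso
      have : w ^ i = 1 := by
        rw [hk, ← two_mul, zpow_mul, zpow_ofNat, hw2, one_zpow]
      rw [this] at hwg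
      apply hw1
      have : w = g⁻¹ * (g * w * g⁻¹) * g := by group
      rw [this, hwg]; group
    · rw [hk, zpow_add, zpow_mul, zpow_ofNat, hw2, one_zpow, one_mul, zpow_one]
  rw [hwi] at hwg
  calc g * w = (g * w * g⁻¹) * g := by group
    _ = w * g := by rw [hwg]

end Cfsg.Agent.Lib.Helper1
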