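import Mathlib
import Cfsg.Agent.Lib.Helper1.MaxClassTwoB
import Cfsg.Agent.Lib.Helper1.Hall

set_option autoImplicit false
open scoped commutatorElement
universe u
namespace Cfsg.Agent.Lib.Helper1

theorem cyclic_lift_or_central {X : Type u} [Group X] [Finite X] (N : Subgroup X) [hNn : N.Normal]
    (hNZ : N ≤ Subgroup.center X) (hN2 : Nat.card N = 2) (m : ℕ) (hm : 2 ≤ m)
    (Cb : Subgroup (X ⧸ N)) [hCbn : Cb.Normal] (hCb : IsCyclic Cb) (hCbcard : Nat.card Cb = 2 ^ m) :
    IsCyclic (Cb.comap (QuotientGroup.mk' N)) ∨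
      ∃ w ∈ Subgroup.center X, w ∉ N ∧ w ≠ 1 := by
  obtain ⟨cb, hcb⟩ := (Subgroup.isCyclic_iff_exists_zpowers_eq_top Cb).mp hCb
  obtain ⟨h, rfl⟩ := QuotientGroup.mk_surjective cb
  have hocb : orderOf (h : X ⧸ N) = 2 ^ m := by
    rw [← Nat.card_zpowers, hcb, hCbcard]
  obtain ⟨H, hH⟩ : ∃ H, H = Cb.comap (QuotientGroup.mk' N) := ⟨_, rfl⟩
  rw [← hH]
  have hHcard : Nat.card H = 2 ^ (m + 1) := by
    rw [hH, card_comap_mk', hN2, hCbcard, pow_succ, mul_comm]
  have hHn : H.Normal := by rw [hH]; exact hCbn.comap _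
  have hhH : h ∈ H := by
    rw [hH, Subgroup.mem_comap, ← hcb]
    exact Subgroup.mem_zpowers _
  have hNsq : ∀ ν ∈ N, ν ^ 2 = 1 := by
    intro ν hν
    have := pow_card_eq_one' (G := N) (x := ⟨ν, hν⟩)
    rw [hN2] at this
    exact congrArg Subtype.val this
  by_cases hzh : Subgroup.zpowers h = H
  · left
    rw [← hzh]
    infer_instance
  · right
    have hdecomp : ∀ y ∈ H, ∃ i : ℤ, ∃ ν ∈ N, y = h ^ i * ν := by
      intro y hy
      rw [hH, Subgroup.mem_comap, ← hcb] at hy
      obtain ⟨i, hi⟩ := Subgroup.mem_zpowers_iff.mp hy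
      refine ⟨i, (h ^ i)⁻¹ * y, ?_, by group⟩
      have h1 : ((h ^ i : X) : X ⧸ N) = (QuotientGroup.mk' N) y := by
        rw [← hi]; simp
      exact QuotientGroup.eq.mp h1
    have hoh : orderOf h = 2 ^ m := by
      have h1 : orderOf (h : X ⧸ N) ∣ orderOf h := orderOf_map_dvd (QuotientGroup.mk' N) h
      rw [hocb] at h1
      have h2 : h ^ (2 ^ m) ∈ N := by
        rw [← QuotientGroup.eq_one_iff, QuotientGroup.mk_pow, ← hocb, pow_orderOf_eq_one]
      have h3 : h ^ (2 ^ (m + 1)) = 1 := by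
        rw [pow_succ, pow_mul]; exact hNsq _ h2
      have h4 : orderOf h ∣ 2 ^ (m + 1) := orderOf_dvd_of_pow_eq_one h3
      obtain ⟨j, hj, hj'⟩ := (Nat.dvd_prime_pow Nat.prime_two).mp h4
      have hmj : m ≤ j := by
        rw [hj'] at h1
        exact (Nat.pow_dvd_pow_iff_le_right (by norm_num : 1 < 2)).mp h1
      have hjm : j ≠ m + 1 := by
        rintro rfl
        apply hzh
        apply Subgroup.eq_of_le_of_card_ge (Subgroup.zpowers_le.mpr hhH)
        rw [Nat.card_zpowers, hj', hHcard]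
      have : j = m := by omega
      rw [hj', this]
    have hconj : ∀ g : X, ∃ i : ℤ, ∃ ν : X, ν ∈ Subgroup.center X ∧ ν ^ 2 = 1 ∧
        g * h * g⁻¹ = h ^ i * ν := by
      intro g
      obtain ⟨i, ν, hν, hy⟩ := hdecomp _ (hHn.conj_mem h hhH g)
      exact ⟨i, ν, hNZ hν, hNsq ν hν, hy⟩
    have hw := pow_mem_center_of_conj h m hm hoh hconj
    have hwN : h ^ (2 ^ (m - 1)) ∉ N := by
      intro hmem
      rw [← QuotientGroup.eq_one_iff, QuotientGroup.mk_pow] at hmem
      have h1 := orderOf_dvd_of_pow_eq_one hmem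
      rw [hocb] at h1
      have := (Nat.pow_dvd_pow_iff_le_right (by norm_num : 1 < 2)).mp h1
      omega
    exact ⟨_, hw, hwN, fun h1 => hwN (h1 ▸ N.one_mem)⟩

theorem exists_cyclic_index_two_of_max_class_aux : ∀ (n : ℕ), 3 ≤ n →
    ∀ (X : Type u) [Group X] [Finite X], Nat.card X = 2 ^ n → Group.nilpotencyClass X = n - 1 →
      ∃ C : Subgroup X, IsCyclic C ∧ C.index = 2 := by
  intro n hn
  induction n, hn using Nat.le_induction with
  | base =>
    intro X _ _ hX hc
    have hXp : IsPGroup 2 X := IsPGroup.of_card hX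
    have hnil : Group.IsNilpotent X := hXp.isNilpotent
    have hnc : ¬ ∀ a b : X, a * b = b * a := by
      intro h
      have := nilpotencyClass_le_one_of_comm h
      omega
    have hex : ∃ x : X, x ^ 2 ≠ 1 := by
      by_contra hno
      push Not at hno
      apply hnc
      intro a b
      have h1 := hno (a * b)
      have ha := hno a
      have hb := hno b
      rw [pow_two] at h1 ha hb
      have ha' : a⁻¹ = a := inv_eq_of_mul_eq_one_left ha
      have hb' : b⁻¹ = b := inv_eq_of_mul_eq_one_left hb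
      calc a * b = (a * b)⁻¹ := (inv_eq_of_mul_eq_one_left h1).symm
        _ = b⁻¹ * a⁻¹ := mul_inv_rev a b
        _ = b * a := by rw [ha', hb']
    obtain ⟨x, hx⟩ := hex
    have hox : orderOf x ∣ 2 ^ 3 := hX ▸ orderOf_dvd_natCard x
    obtain ⟨j, hj, hj'⟩ := (Nat.dvd_prime_pow Nat.prime_two).mp hox
    have hj2 : 2 ≤ j := by
      by_contra hlt
      have : j ≤ 1 := by omega
      apply hx
      have h1 : orderOf x ∣ 2 := by
        rw [hj']
        calc 2 ^ j ∣ 2 ^ 1 := pow_dvd_pow 2 this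
          _ = 2 := pow_one 2
      exact orderOf_dvd_iff_pow_eq_one.mp h1
    have hj3 : j ≠ 3 := by
      rintro rfl
      apply hnc
      have hcyc : IsCyclic X := isCyclic_of_orderOf_eq_card x (by rw [hj', hX])
      intro a b
      obtain ⟨g, hg⟩ := hcyc.exists_generator
      obtain ⟨i, rfl⟩ := Subgroup.mem_zpowers_iff.mp (hg a)
      obtain ⟨k, rfl⟩ := Subgroup.mem_zpowers_iff.mp (hg b)
      rw [← zpow_add, ← zpow_add, add_comm]
    have hj2' : j = 2 := by omega
    refine ⟨Subgroup.zpowers x, inferInstance, ?_⟩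
    have h1 := Subgroup.card_mul_index (Subgroup.zpowers x)
    rw [Nat.card_zpowers, hj', hj2', hX] at h1
    omega
  | succ n hn ih =>
    intro X _ _ hX hc
    obtain ⟨hZ2, hq, hcq⟩ := max_class_center_card (p := 2) (n + 1) (by omega) hX hc
    rw [Nat.add_sub_cancel] at hq
    have hcq' : Group.nilpotencyClass (X ⧸ Subgroup.center X) = n - 1 := by
      rw [hcq]; omega
    obtain ⟨Cb, hCb, hCbi⟩ := ih (X ⧸ Subgroup.center X) hq hcq'
    have hCbn : Cb.Normal := Subgroup.normal_of_index_eq_two hCbi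
    have hCbcard : Nat.card Cb = 2 ^ (n - 1) := by
      have h1 := Subgroup.card_mul_index Cb
      rw [hCbi, hq] at h1
      have h2 : 2 ^ n = 2 ^ (n - 1) * 2 := by
        rw [← pow_succ, Nat.sub_add_cancel (by omega)]
      rw [h2] at h1
      exact Nat.eq_of_mul_eq_mul_right (by norm_num) h1
    rcases cyclic_lift_or_central (Subgroup.center X) le_rfl hZ2 (n - 1) (by omega) Cb hCb hCbcard
      with h | ⟨w, hw, hwN, -⟩
    · refine ⟨_, h, ?_⟩
      rw [Subgroup.index_comap_of_surjective _ (QuotientGroup.mk'_surjective _)]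
      exact hCbi
    · exact absurd hw hwN

theorem exists_cyclic_index_two_of_max_class {X : Type u} [Group X] [Finite X] (n : ℕ) (hn : 3 ≤ n)
    (hX : Nat.card X = 2 ^ n) (hc : Group.nilpotencyClass X = n - 1) :
    ∃ C : Subgroup X, IsCyclic C ∧ C.index = 2 :=
  exists_cyclic_index_two_of_max_class_aux n hn X hX hc

end Cfsg.Agent.Lib.Helper1
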