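import Mathlib
import Cfsg.Agent.Lib.Helper1.Dv9
import Cfsg.Agent.Lib.Helper1.Dv5
import Cfsg.Agent.Lib.Helper1.ThompsonTransfer
import Cfsg.Agent.Lib.Helper1.MaxClassSelfCentralizing
import Cfsg.Agent.Lib.Helper1.MaxClassTwoC

set_option autoImplicit false
set_option maxHeartbeats 4000000
set_option linter.unusedVariables false
set_option linter.unusedSectionVars false
set_option linter.style.longLine false
set_option linter.unusedSimpArgs false
set_option linter.deprecated false

/-! An involution whose centralizer is a four-group, no normal `2`-complement, no small normal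
elementary abelian `2`-subgroup: the group is `A₅`. -/

namespace Cfsg.Agent.Lib.Helper1.Dv

open Subgroup
open scoped Classical

universe u

variable {G : Type u} [Group G] {x : G}

theorem mem_sylow_of_two_elt [Finite G] (P : Sylow 2 G) {g : G}
    (hgN : g ∈ normalizer ((P : Subgroup G) : Set G)) (hg2 : IsPGroup 2 (zpowers g)) :
    g ∈ (P : Subgroup G) := by
  have hle : zpowers g ≤ normalizer ((P : Subgroup G) : Set G) := by
    rw [zpowers_le]; exact hgN
  have hsup : IsPGroup 2 (zpowers g ⊔ (P : Subgroup G) : Subgroup G) :=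
    IsPGroup.to_sup_of_normal_right' hg2 P.2 hle
  have := P.3 hsup le_sup_right
  rw [← this]
  exact (le_sup_left : zpowers g ≤ _) (mem_zpowers g)

theorem exists_odd_elt [Finite G] (P : Sylow 2 G)
    (hN : ¬ normalizer ((P : Subgroup G) : Set G) ≤ (P : Subgroup G)) :
    ∃ g ∈ normalizer ((P : Subgroup G) : Set G), g ∉ (P : Subgroup G) ∧ Odd (orderOf g) := by
  obtain ⟨g, hgN, hgP⟩ := SetLike.not_le_iff_exists.mp hN
  have ho : orderOf g ≠ 0 := (orderOf_pos g).ne'
  obtain ⟨a, m, hm, hom⟩ := Nat.exists_eq_two_pow_mul_odd ho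
  have hk : orderOf (g ^ (2 ^ a)) = m := by
    rw [orderOf_pow_of_dvd (by positivity) ⟨m, hom⟩, hom]
    exact Nat.mul_div_cancel_left _ (by positivity)
  refine ⟨g ^ (2 ^ a), Subgroup.pow_mem _ hgN _, ?_, by rw [hk]; exact hm⟩
  intro h1
  obtain ⟨j, hj⟩ := P.2 ⟨g ^ (2 ^ a), h1⟩
  have hdv : orderOf (g ^ (2 ^ a)) ∣ 2 ^ j := by
    apply orderOf_dvd_of_pow_eq_one
    have := congrArg Subtype.val hj
    simpa using this
  rw [hk] at hdv
  have hcop : Nat.Coprime m (2 ^ j) := Nat.Coprime.pow_right j (Nat.coprime_two_right.mpr hm)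
  have hm1 : m = 1 := Nat.Coprime.eq_one_of_dvd hcop hdv
  rw [hm1, mul_one] at hom
  apply hgP
  apply mem_sylow_of_two_elt P hgN
  apply IsPGroup.of_card (n := a)
  rw [Nat.card_zpowers, hom]

theorem C4Hyp.comm (h : C4Hyp x) {a b : G} (ha : a ∈ centralizer ({x} : Set G))
    (hb : b ∈ centralizer ({x} : Set G)) : a * b = b * a := by
  have h1 := h.exp2 a ha
  have h2 := h.exp2 b hb
  have h3 := h.exp2 (a * b) (Subgroup.mul_mem _ ha hb)
  have hai : a⁻¹ = a := inv_eq_of_mul_eq_one_left h1
  have hbi : b⁻¹ = b := inv_eq_of_mul_eq_one_left h2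
  have habi : (a * b)⁻¹ = a * b := inv_eq_of_mul_eq_one_left h3
  calc a * b = (a * b)⁻¹ := habi.symm
    _ = b⁻¹ * a⁻¹ := mul_inv_rev a b
    _ = b * a := by rw [hai, hbi]

theorem C4Hyp.v4hyp [Finite G] (h : C4Hyp x) (P : Sylow 2 G)
    (hPV : (P : Subgroup G) = centralizer ({x} : Set G))
    (hN : ¬ normalizer ((P : Subgroup G) : Set G) ≤ (P : Subgroup G)) : V4Hyp x := by
  obtain ⟨g, hgN, hgP, hgodd⟩ := exists_odd_elt P hN
  rw [hPV] at hgN hgP
  have hx2 : x * x = 1 := sq_of_order_two h.ord
  have hx1 : x ≠ 1 := ne_one_of_order_two h.ord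
  have hnorm : ∀ v, v ∈ centralizer ({x} : Set G) → g * v * g⁻¹ ∈ centralizer ({x} : Set G) :=
    fun v hv => (Subgroup.mem_normalizer_iff.mp hgN v).mp hv
  have hxV : x ∈ centralizer ({x} : Set G) := mem_cent.mpr rfl
  have hg2V : g * g ∉ centralizer ({x} : Set G) := by
    intro hgg
    have h4 := h.exp2 _ hgg
    have h5 : g ^ 4 = 1 := by
      rw [show (4 : ℕ) = 2 + 2 from rfl, pow_add, pow_two]; exact h4
    have hd : orderOf g ∣ 4 := orderOf_dvd_of_pow_eq_one h5
    have hcop : Nat.Coprime (orderOf g) 4 := by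
      have : (4 : ℕ) = 2 ^ 2 := by norm_num
      rw [this]; exact Nat.Coprime.pow_right 2 (Nat.coprime_two_right.mpr hgodd)
    have h1 : orderOf g = 1 := Nat.Coprime.eq_one_of_dvd hcop hd
    rw [orderOf_eq_one_iff] at h1
    apply hgP; rw [h1]; exact Subgroup.one_mem _
  obtain ⟨y₁, hy₁⟩ : ∃ y₁, y₁ = g * x * g⁻¹ := ⟨_, rfl⟩
  obtain ⟨y₂, hy₂⟩ : ∃ y₂, y₂ = g * y₁ * g⁻¹ := ⟨_, rfl⟩
  have hy₁V : y₁ ∈ centralizer ({x} : Set G) := by rw [hy₁]; exact hnorm x hxV
  have hy₂V : y₂ ∈ centralizer ({x} : Set G) := by rw [hy₂]; exact hnorm y₁ hy₁V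
  have hxy₁ : x ≠ y₁ := by
    intro he
    apply hgP
    rw [mem_cent]
    calc g * x = (g * x * g⁻¹) * g := by group
      _ = x * g := by rw [← hy₁, ← he]
  have hxy₂ : x ≠ y₂ := by
    intro he
    apply hg2V
    rw [mem_cent]
    calc g * g * x = (g * (g * x * g⁻¹) * g⁻¹) * (g * g) := by group
      _ = x * (g * g) := by rw [← hy₁, ← hy₂, ← he]
  have hy₁y₂ : y₁ ≠ y₂ := by
    intro he
    apply hxy₁
    calc x = g⁻¹ * (g * x * g⁻¹) * g := by group
      _ = g⁻¹ * y₁ * g := by rw [← hy₁]
      _ = g⁻¹ * y₂ * g := by rw [← he]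
      _ = g⁻¹ * (g * y₁ * g⁻¹) * g := by rw [hy₂]
      _ = y₁ := by group
  have hy₁1 : y₁ ≠ 1 := by
    intro he
    apply hx1
    calc x = g⁻¹ * (g * x * g⁻¹) * g := by group
      _ = 1 := by rw [← hy₁, he]; group
  have hy₂1 : y₂ ≠ 1 := by
    intro he
    apply hy₁1
    calc y₁ = g⁻¹ * (g * y₁ * g⁻¹) * g := by group
      _ = 1 := by rw [← hy₂, he]; group
  haveI := Fintype.ofFinite G
  have hT4 : ({1, x, y₁, y₂} : Finset G).card = 4 := by
    rw [Finset.card_insert_of_notMem, Finset.card_insert_of_notMem,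
      Finset.card_insert_of_notMem, Finset.card_singleton]
    · simp [hy₁y₂]
    · simp [hxy₁, hxy₂]
    · simp [Ne.symm hx1, Ne.symm hy₁1, Ne.symm hy₂1]
  have hc4 : (centF x).card = 4 := by rw [card_centF]; exact h.card4
  have hsub : ({1, x, y₁, y₂} : Finset G) ⊆ centF x := by
    intro v hv
    simp only [Finset.mem_insert, Finset.mem_singleton] at hv
    rw [mem_centF]
    rcases hv with rfl | rfl | rfl | rfl
    · simp
    · rfl
    · exact mem_cent.mp hy₁V
    · exact mem_cent.mp hy₂V
  have hTeq := Finset.eq_of_subset_of_card_le hsub (by rw [hc4, hT4])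
  refine ⟨h.ord, h.card4, h.exp2, ?_⟩
  intro v hv hv1
  have hvT : v ∈ ({1, x, y₁, y₂} : Finset G) := by
    rw [hTeq, mem_centF]; exact mem_cent.mp hv
  simp only [Finset.mem_insert, Finset.mem_singleton] at hvT
  rcases hvT with rfl | rfl | rfl | rfl
  · exact absurd rfl hv1
  · exact IsConj.refl _
  · rw [isConj_iff]; exact ⟨g, hy₁.symm⟩
  · rw [isConj_iff]
    refine ⟨g * g, ?_⟩
    rw [hy₂, hy₁]; group

/-- main theorem -/
theorem c4_main [Finite G] (h : C4Hyp x)
    (hnc : ¬ Cfsg.HasNormalPComplement 2 G)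
    (hne : ∀ E : Subgroup G, E.Normal → Cfsg.IsElementaryAbelian 2 E →
      Nat.card ↥E ≠ 2 ∧ Nat.card ↥E ≠ 4) :
    Nonempty (G ≃* ↥(alternatingGroup (Fin 5))) := by
  haveI : Fact (Nat.Prime 2) := ⟨Nat.prime_two⟩
  have hx2 : x * x = 1 := sq_of_order_two h.ord
  have hxV : x ∈ centralizer ({x} : Set G) := mem_cent.mpr rfl
  have hO2 := pCore_two_eq_bot h hne
  have hnsol : ¬ Group.IsSolvable G := fun hs =>
    hnc (by haveI := hs; exact h.normal_complement_of_solvable hO2)
  have hVp : IsPGroup 2 (centralizer ({x} : Set G)) :=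
    IsPGroup.of_card (n := 2) (by rw [h.card4]; norm_num)
  obtain ⟨P, hVP⟩ := hVp.exists_le_sylow
  by_cases hP4 : Nat.card (P : Subgroup G) = 4
  · have hPV : (P : Subgroup G) = centralizer ({x} : Set G) :=
      (Subgroup.eq_of_le_of_card_ge hVP (by rw [hP4, h.card4])).symm
    by_cases hNC : normalizer ((P : Subgroup G) : Set G) ≤ centralizer ((P : Subgroup G) : Set G)
    · exfalso
      exact hnc ⟨P, (MonoidHom.transferSylow P hNC).ker, MonoidHom.normal_ker _,
        MonoidHom.ker_transferSylow_isComplement' P hNC⟩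
    · have hN : ¬ normalizer ((P : Subgroup G) : Set G) ≤ (P : Subgroup G) := by
        intro hle
        apply hNC
        refine hle.trans ?_
        intro a ha
        rw [Subgroup.mem_centralizer_iff]
        intro b hb
        rw [hPV] at ha
        have hb' : b ∈ centralizer ({x} : Set G) := by rw [← hPV]; exact hb
        exact h.comm hb' ha
      have hV := h.v4hyp P hPV hN
      rcases v4_card hV with h12 | h60
      · exfalso
        apply hnsol
        exact Cfsg.Agent.S0144.result 2 3 2 1 Nat.prime_two Nat.prime_three (by rw [h12]; norm_num)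
      · haveI : Fact (Nat.Prime 5) := ⟨by norm_num⟩
        haveI := Fintype.ofFinite G
        obtain ⟨b, hb, hb1, hbx⟩ : ∃ b ∈ centralizer ({x} : Set G), b ≠ 1 ∧ b ≠ x := by
          by_contra hno
          push_neg at hno
          have hc4 : (centF x).card = 4 := by rw [card_centF]; exact h.card4
          have hsub : centF x ⊆ {1, x} := by
            intro v hv
            rw [mem_centF] at hv
            rw [Finset.mem_insert, Finset.mem_singleton]
            by_cases hv1 : v = 1
            · left; exact hv1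
            · right; exact hno v (mem_cent.mpr hv) hv1
          have := (Finset.card_le_card hsub).trans Finset.card_le_two
          omega
        have hnot : ¬ ((default : Sylow 5 G) : Subgroup G).Normal := by
          intro hn
          haveI := hn
          have hc5 : Nat.card ((default : Sylow 5 G) : Subgroup G) = 5 := by
            have := Cfsg.Agent.Lib.Helper4.sylow_card_of_eq 5 1 12 (by rw [h60]; norm_num)
              (by norm_num) (default : Sylow 5 G)
            simpa using this
          have hbot := hV.no_normal_odd b hb hb1 hbx ((default : Sylow 5 G) : Subgroup G)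
            (by rw [hc5]; decide)
          rw [hbot, Subgroup.card_bot] at hc5
          omega
        haveI : IsSimpleGroup G :=
          Cfsg.Agent.Lib.Helper4.Sixty.isSimpleGroup_of_card_sixty h60 _ hnot
        exact Cfsg.Agent.Lib.Helper4.simple_sixty_iso h60
  · exfalso
    obtain ⟨n, hn⟩ := IsPGroup.iff_card.mp P.2
    have h4dvd : 4 ∣ Nat.card (P : Subgroup G) := by
      rw [← h.card4]; exact Subgroup.card_dvd_of_le hVP
    have hn3 : 3 ≤ n := by
      by_contra hlt
      push_neg at hlt
      rw [hn] at h4dvd hP4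
      interval_cases n
      · norm_num at h4dvd
      · norm_num at h4dvd
      · exact hP4 rfl
    -- the four-group inside P
    obtain ⟨A, hAdef⟩ : ∃ A : Subgroup ↥(P : Subgroup G),
      A = (centralizer ({x} : Set G)).subgroupOf (P : Subgroup G) := ⟨_, rfl⟩
    have hA : Nat.card A = 2 ^ 2 := by
      rw [hAdef, Nat.card_congr (Subgroup.subgroupOfEquivOfLe hVP).toEquiv, h.card4]
      norm_num
    have hCA : centralizer (A : Set ↥(P : Subgroup G)) = A := by
      ext s
      constructor
      · intro hs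
        rw [Subgroup.mem_centralizer_iff] at hs
        have hxA : (⟨x, hVP hxV⟩ : ↥(P : Subgroup G)) ∈ A := by
          rw [hAdef, Subgroup.mem_subgroupOf]; exact hxV
        have h1 := hs _ hxA
        have h2 : x * (s : G) = (s : G) * x := congrArg Subtype.val h1
        rw [hAdef, Subgroup.mem_subgroupOf, mem_cent]
        exact h2.symm
      · intro hs
        rw [Subgroup.mem_centralizer_iff]
        intro a ha
        rw [hAdef] at hs ha
        rw [Subgroup.mem_subgroupOf] at hs
        rw [SetLike.mem_coe, Subgroup.mem_subgroupOf] at ha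
        apply Subtype.ext
        exact h.comm ha hs
    have hclass := Cfsg.Agent.Lib.Helper1.max_class_of_self_centralizing n hn A hA hCA
    obtain ⟨C, hCcyc, hCidx⟩ :=
      Cfsg.Agent.Lib.Helper1.exists_cyclic_index_two_of_max_class n hn3 hn hclass
    obtain ⟨Q, hQdef⟩ : ∃ Q : Subgroup G, Q = C.map (P : Subgroup G).subtype := ⟨_, rfl⟩
    have hQP : Q ≤ (P : Subgroup G) := by rw [hQdef]; exact Subgroup.map_subtype_le C
    have hQi : Q.relIndex (P : Subgroup G) = 2 := by
      have : Q.subgroupOf (P : Subgroup G) = C := by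
        rw [hQdef]
        exact Subgroup.comap_map_eq_self_of_injective (Subgroup.subtype_injective _) C
      rw [Subgroup.relIndex, this, hCidx]
    have hcardC : 4 ≤ Nat.card C := by
      have h1 := C.index_mul_card
      rw [hCidx, hn] at h1
      have : 2 ^ 3 ≤ 2 ^ n := Nat.pow_le_pow_right (by norm_num) hn3
      omega
    have hno : ∀ g : G, g * x * g⁻¹ ∉ Q := by
      intro g hgQ
      haveI := hCcyc
      obtain ⟨c, hc⟩ := IsCyclic.exists_generator (α := ↥C)
      have hordc : orderOf c = Nat.card C := orderOf_eq_card_of_forall_mem_zpowers hc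
      have hq : orderOf (((c : ↥(P : Subgroup G)) : G)) = Nat.card C := by
        rw [Subgroup.orderOf_coe, Subgroup.orderOf_coe, hordc]
      rw [hQdef] at hgQ
      obtain ⟨s, hsC, hs⟩ := hgQ
      obtain ⟨i, hi⟩ := hc ⟨s, hsC⟩
      have hi' : (((c : ↥(P : Subgroup G)) : G)) ^ i = g * x * g⁻¹ := by
        have := congrArg (fun t : ↥C => ((t : ↥(P : Subgroup G)) : G)) hi
        simp only [Subgroup.coe_zpow] at this
        rw [this]; exact hs
      have hcomm : (((c : ↥(P : Subgroup G)) : G)) * (g * x * g⁻¹)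
          = (g * x * g⁻¹) * (((c : ↥(P : Subgroup G)) : G)) := by
        rw [← hi']
        exact (Commute.self_zpow _ i)
      obtain ⟨q, hqdef⟩ : ∃ q : G, q = ((c : ↥(P : Subgroup G)) : G) := ⟨_, rfl⟩
      rw [← hqdef] at hcomm hq
      have hqV : g⁻¹ * q * g ∈ centralizer ({x} : Set G) := by
        rw [mem_cent]
        calc g⁻¹ * q * g * x = g⁻¹ * (q * (g * x * g⁻¹)) * g := by group
          _ = g⁻¹ * ((g * x * g⁻¹) * q) * g := by rw [hcomm]
          _ = x * (g⁻¹ * q * g) := by group
      have hqq : q * q = 1 := by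
        have := h.exp2 _ hqV
        calc q * q = g * (g⁻¹ * q * g * (g⁻¹ * q * g)) * g⁻¹ := by group
          _ = 1 := by rw [this]; group
      have hd : orderOf q ∣ 2 := by
        apply orderOf_dvd_of_pow_eq_one; rw [pow_two]; exact hqq
      have := Nat.le_of_dvd (by norm_num) hd
      omega
    obtain ⟨M, hMn, hMi, hxM⟩ :=
      Cfsg.Agent.Lib.Helper1.thompson_transfer P Q hQP hQi x h.ord hno
    haveI := hMn
    haveI hMsol : Group.IsSolvable ↥M := by
      apply solvable_of_invol_fix_le_two M x hx2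
      intro a ha b hb hca hcb ha1 hb1
      exact h.eq_of_mem (M ⊓ centralizer ({x} : Set G)) inf_le_right
        (fun hx' => hxM (Subgroup.mem_inf.mp hx').1)
        (Subgroup.mem_inf.mpr ⟨ha, mem_cent.mpr hca.symm⟩)
        (Subgroup.mem_inf.mpr ⟨hb, mem_cent.mpr hcb.symm⟩) ha1 hb1
    apply hnsol
    haveI : Group.IsSolvable (G ⧸ M) := by
      have hc2 : Nat.card (G ⧸ M) = 2 := by rw [← Subgroup.index_eq_card]; exact hMi
      haveI : IsCyclic (G ⧸ M) := isCyclic_of_prime_card hc2
      letI : CommGroup (G ⧸ M) := IsCyclic.commGroup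
      exact isSolvable_of_comm (fun a b => mul_comm a b)
    apply solvable_of_ker_le_range M.subtype (QuotientGroup.mk' M)
    rw [QuotientGroup.ker_mk', Subgroup.range_subtype]

end Cfsg.Agent.Lib.Helper1.Dv
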