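import Mathlib
import Cfsg.Agent.Lib.Helper1.Dv5
import Cfsg.Agent.Lib.Helper6.D8Cent5
import Cfsg.Agent.Lib.Helper1.ThompsonTransfer
import Cfsg.Agent.Lib.Helper5.S4Rec

set_option autoImplicit false
set_option maxHeartbeats 4000000
set_option linter.unusedVariables false
set_option linter.unusedSectionVars false
set_option linter.style.longLine false
set_option linter.unusedSimpArgs false
set_option linter.deprecated false

/-! Groups with an involution whose centralizer is dihedral of order 8: the non-isolated case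
with two classes of involutions (`S4` and `S5`). -/

namespace Cfsg.Agent.Lib.Helper1.Dv

open Subgroup DihedralGroup

theorem dec_invol : ∀ d : DihedralGroup 4, d * d = 1 → d ≠ 1 → d ≠ r 2 → ∃ k, d = sr k := by
  decide

theorem dec_cent_sr : ∀ (k : ZMod 4) (d : DihedralGroup 4),
    d * sr k = sr k * d ↔ d = 1 ∨ d = r 2 ∨ d = sr k ∨ d = r 2 * sr k := by decide

theorem dec_conj_sr : ∀ k : ZMod 4,
    (r 1 : DihedralGroup 4) * sr k * (r 1)⁻¹ = r 2 * sr k := by decide

theorem dec_gen : ∀ d : DihedralGroup 4, (∃ i, d = sr i) ∨ (∃ i j, d = sr i * sr j) := by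
  decide

theorem dec_distinct : ∀ k : ZMod 4, (r 2 : DihedralGroup 4) ≠ 1 ∧ sr k ≠ 1 ∧ r 2 * sr k ≠ 1 ∧
    r 2 ≠ sr k ∧ r 2 ≠ r 2 * sr k ∧ sr k ≠ r 2 * sr k := by decide

theorem dec_sq_four : ∀ k : ZMod 4, (r 2 : DihedralGroup 4) * r 2 = 1 ∧ sr k * sr k = 1 ∧
    (r 2 * sr k) * (r 2 * sr k) = 1 := by decide

theorem dec_r1_sq : (r 1 : DihedralGroup 4) * r 1 = r 2 := by decide

theorem dec_noncomm : (r 1 : DihedralGroup 4) * sr 0 ≠ sr 0 * r 1 := by decide

section setup

variable {G : Type*} [Group G] {z : G}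
  (e : ↥(centralizer ({z} : Set G)) ≃* DihedralGroup 4)

/-- the element of `C(z)` corresponding to `d` -/
noncomputable def el (d : DihedralGroup 4) : G :=
  ((e.symm d : centralizer ({z} : Set G)) : G)

theorem el_mul (a b : DihedralGroup 4) : el e (a * b) = el e a * el e b := by
  unfold el; rw [map_mul]; rfl

theorem el_one : el e 1 = 1 := by
  unfold el; rw [map_one]; rfl

theorem el_inv (a : DihedralGroup 4) : el e a⁻¹ = (el e a)⁻¹ := by
  unfold el; rw [map_inv]; rfl

theorem el_mem (d : DihedralGroup 4) : el e d ∈ centralizer ({z} : Set G) := (e.symm d).2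

theorem el_inj : Function.Injective (el e) :=
  fun a b h => e.symm.injective (Subtype.ext h)

theorem el_e {y : G} (hy : y ∈ centralizer ({z} : Set G)) : el e (e ⟨y, hy⟩) = y := by
  unfold el; rw [MulEquiv.symm_apply_apply]

theorem el_r2 (hz : orderOf z = 2) : el e (r 2) = z := by
  unfold el
  rw [← Cfsg.Agent.Lib.Helper6.D8C.e_t e hz, MulEquiv.symm_apply_apply]

theorem el_sr_order (k : ZMod 4) : orderOf (el e (sr k)) = 2 :=
  Cfsg.Agent.Lib.Helper6.D8C.orderOf_coe_symm_sr e k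

/-- the four-group `C(z) ∩ C(u)`, `u = el (sr k)` -/
noncomputable def Qk (k : ZMod 4) : Subgroup G :=
  centralizer ({z} : Set G) ⊓ centralizer ({el e (sr k)} : Set G)

theorem mem_Qk (k : ZMod 4) (y : G) : y ∈ Qk e k ↔
    y = 1 ∨ y = el e (r 2) ∨ y = el e (sr k) ∨ y = el e (r 2 * sr k) := by
  unfold Qk
  rw [Subgroup.mem_inf]
  constructor
  · rintro ⟨hyC, hyu⟩
    rw [mem_cent] at hyu
    have hy : el e (e ⟨y, hyC⟩) = y := el_e e hyC
    have hd : e ⟨y, hyC⟩ * sr k = sr k * e ⟨y, hyC⟩ := by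
      apply el_inj e
      rw [el_mul, el_mul, hy]
      exact hyu
    rcases (dec_cent_sr k _).mp hd with h | h | h | h
    · left; rw [← hy, h, el_one]
    · right; left; rw [← hy, h]
    · right; right; left; rw [← hy, h]
    · right; right; right; rw [← hy, h]
  · intro h
    have key : ∀ d : DihedralGroup 4, d * sr k = sr k * d →
        el e d ∈ centralizer ({z} : Set G) ∧ el e d ∈ centralizer ({el e (sr k)} : Set G) := by
      intro d hd
      refine ⟨el_mem e d, ?_⟩
      rw [mem_cent, ← el_mul, ← el_mul, hd]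
    rcases h with h | h | h | h
    · rw [h, ← el_one e]; exact key 1 ((dec_cent_sr k 1).mpr (Or.inl rfl))
    · rw [h]; exact key _ ((dec_cent_sr k _).mpr (Or.inr (Or.inl rfl)))
    · rw [h]; exact key _ ((dec_cent_sr k _).mpr (Or.inr (Or.inr (Or.inl rfl))))
    · rw [h]; exact key _ ((dec_cent_sr k _).mpr (Or.inr (Or.inr (Or.inr rfl))))

theorem card_Qk (k : ZMod 4) : Nat.card (Qk e k) = 4 := by
  obtain ⟨h1, h2, h3, h4, h5, h6⟩ := dec_distinct k
  have hne : ∀ a b : DihedralGroup 4, a ≠ b → el e a ≠ el e b :=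
    fun a b hab h => hab (el_inj e h)
  apply card_eq_four_of_mem (Qk e k) (el e (r 2)) (el e (sr k)) (el e (r 2 * sr k)) (mem_Qk e k)
  · rw [← el_one e]; exact hne _ _ h1
  · rw [← el_one e]; exact hne _ _ h2
  · rw [← el_one e]; exact hne _ _ h3
  · exact hne _ _ h4
  · exact hne _ _ h5
  · exact hne _ _ h6

theorem sq_of_mem_Qk (k : ZMod 4) {y : G} (hy : y ∈ Qk e k) : y * y = 1 := by
  obtain ⟨h1, h2, h3⟩ := dec_sq_four k
  rcases (mem_Qk e k y).mp hy with h | h | h | h
  · rw [h, one_mul]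
  · rw [h, ← el_mul, h1, el_one]
  · rw [h, ← el_mul, h2, el_one]
  · rw [h, ← el_mul, h3, el_one]

theorem Qk_le (k : ZMod 4) : Qk e k ≤ centralizer ({z} : Set G) := inf_le_left

include e in
theorem card_C : Nat.card (centralizer ({z} : Set G)) = 8 :=
  Cfsg.Agent.Lib.Helper6.D8C.card_cent e

theorem relIndex_Qk (k : ZMod 4) : (Qk e k).relIndex (centralizer ({z} : Set G)) = 2 := by
  have h := Subgroup.relIndex_mul_relIndex (⊥ : Subgroup G) (Qk e k) (centralizer ({z} : Set G))
    bot_le (Qk_le e k)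
  rw [Subgroup.relIndex_bot_left, Subgroup.relIndex_bot_left, card_Qk, card_C e] at h
  omega

/-- the data of the non-isolated case -/
structure BData (k : ZMod 4) : Prop where
  hz : orderOf z = 2
  conj : IsConj z (el e (sr k))

variable {e}

theorem BData.zu {k : ZMod 4} (hB : BData e k) : z * el e (sr k) = el e (r 2 * sr k) := by
  rw [el_mul, el_r2 e hB.hz]

theorem BData.conj_zu {k : ZMod 4} (hB : BData e k) : IsConj z (el e (r 2 * sr k)) := by
  refine hB.conj.trans ?_
  rw [isConj_iff]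
  refine ⟨el e (r 1), ?_⟩
  rw [← el_inv, ← el_mul, ← el_mul, dec_conj_sr]

theorem BData.conj_of_mem {k : ZMod 4} (hB : BData e k) {y : G} (hy : y ∈ Qk e k) (hy1 : y ≠ 1) :
    IsConj z y := by
  rcases (mem_Qk e k y).mp hy with h | h | h | h
  · exact absurd h hy1
  · rw [h, el_r2 e hB.hz]
  · rw [h]; exact hB.conj
  · rw [h]; exact hB.conj_zu

theorem BData.z_mem {k : ZMod 4} (hB : BData e k) : z ∈ Qk e k := by
  rw [mem_Qk, el_r2 e hB.hz]; right; left; rfl

theorem BData.u_mem {k : ZMod 4} (hB : BData e k) : el e (sr k) ∈ Qk e k := by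
  rw [mem_Qk]; right; right; left; rfl

theorem BData.u_ne_z {k : ZMod 4} (hB : BData e k) : el e (sr k) ≠ z := by
  intro h
  have h' : el e (sr k) = el e (r 2) := h.trans (el_r2 e hB.hz).symm
  exact (dec_distinct k).2.2.2.1 (el_inj e h').symm

theorem BData.z_ne_one {k : ZMod 4} (hB : BData e k) : z ≠ 1 := ne_one_of_order_two hB.hz

theorem BData.u_ne_one {k : ZMod 4} (hB : BData e k) : el e (sr k) ≠ 1 :=
  ne_one_of_order_two (el_sr_order e k)

end setup

section caseB1

variable {G : Type*} [Group G] [Finite G] {z : G}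
  {e : ↥(centralizer ({z} : Set G)) ≃* DihedralGroup 4}

theorem exists_index_two {k : ZMod 4} (hB : BData e k) (c : G)
    (hc2 : orderOf c = 2) (hcz : ¬ IsConj z c) :
    ∃ M : Subgroup G, M.Normal ∧ M.index = 2 ∧ c ∉ M := by
  obtain ⟨T, hT⟩ := Cfsg.Agent.Lib.Helper6.D8C.exists_sylow e hB.hz
  apply Cfsg.Agent.Lib.Helper1.thompson_transfer T (Qk e k) (by rw [hT]; exact Qk_le e k)
    (by rw [hT]; exact relIndex_Qk e k) c hc2
  intro g hg
  apply hcz
  have h1 : g * c * g⁻¹ ≠ 1 := by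
    intro h
    apply ne_one_of_order_two hc2
    calc c = g⁻¹ * (g * c * g⁻¹) * g := by group
      _ = 1 := by rw [h]; group
  have h2 : IsConj z (g * c * g⁻¹) := hB.conj_of_mem hg h1
  refine h2.trans ?_
  rw [isConj_iff]
  exact ⟨g⁻¹, by group⟩

variable {k : ZMod 4} (hB : BData e k) (M : Subgroup G) [hMn : M.Normal] (hM2 : M.index = 2)
  (c : G) (hcC : c ∈ centralizer ({z} : Set G)) (hcM : c ∉ M)

include hB hM2 in
theorem z_mem_M : z ∈ M := by
  have h := Subgroup.mul_self_mem_of_index_two hM2 (el e (r 1))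
  rwa [← el_mul, dec_r1_sq, el_r2 e hB.hz] at h

include hB hM2 hMn in
theorem u_mem_M : el e (sr k) ∈ M := by
  obtain ⟨g, hg⟩ := isConj_iff.mp hB.conj
  rw [← hg]
  exact hMn.conj_mem z (z_mem_M hB M hM2) g

include hB hM2 hMn in
theorem Qk_le_M : Qk e k ≤ M := by
  intro y hy
  rcases (mem_Qk e k y).mp hy with h | h | h | h
  · rw [h]; exact M.one_mem
  · rw [h, el_r2 e hB.hz]; exact z_mem_M hB M hM2
  · rw [h]; exact u_mem_M hB M hM2
  · rw [h, ← hB.zu]; exact M.mul_mem (z_mem_M hB M hM2) (u_mem_M hB M hM2)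

include hB hM2 hMn hcC hcM in
theorem C_inf_M : centralizer ({z} : Set G) ⊓ M = Qk e k := by
  have hle : Qk e k ≤ centralizer ({z} : Set G) ⊓ M := le_inf (Qk_le e k) (Qk_le_M hB M hM2)
  have hd1 : Nat.card ↥(centralizer ({z} : Set G) ⊓ M) ∣ 8 := by
    rw [← card_C e]
    exact Subgroup.card_dvd_of_le inf_le_left
  have hd2 : 4 ∣ Nat.card ↥(centralizer ({z} : Set G) ⊓ M) := by
    rw [← card_Qk e k]
    exact Subgroup.card_dvd_of_le hle
  have hne : Nat.card ↥(centralizer ({z} : Set G) ⊓ M) ≠ 8 := by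
    intro h8
    apply hcM
    have : centralizer ({z} : Set G) ⊓ M = centralizer ({z} : Set G) :=
      Subgroup.eq_of_le_of_card_ge inf_le_left (by rw [h8, card_C e])
    have hc' : c ∈ centralizer ({z} : Set G) ⊓ M := by rw [this]; exact hcC
    exact hc'.2
  have h4 : Nat.card ↥(centralizer ({z} : Set G) ⊓ M) = 4 := by
    have hle8 : Nat.card ↥(centralizer ({z} : Set G) ⊓ M) ≤ 8 := Nat.le_of_dvd (by norm_num) hd1
    obtain ⟨m, hm⟩ := hd2
    have : m = 1 ∨ m = 2 := by
      rcases Nat.lt_or_ge m 3 with h | h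
      · interval_cases m
        · rw [hm] at hd1; simp at hd1
        · left; rfl
        · right; rfl
      · omega
    rcases this with rfl | rfl
    · omega
    · omega
  exact (Subgroup.eq_of_le_of_card_ge hle (by rw [h4, card_Qk e k])).symm

include hB hM2 hMn hcC hcM in
theorem mem_cent_x (c' : ↥M) :
    c' ∈ centralizer ({(⟨z, z_mem_M hB M hM2⟩ : ↥M)} : Set ↥M) ↔ (c' : G) ∈ Qk e k := by
  rw [mem_cent, ← C_inf_M hB M hM2 c hcC hcM, Subgroup.mem_inf, mem_cent]
  constructor
  · intro h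
    refine ⟨?_, c'.2⟩
    have := congrArg Subtype.val h
    simpa using this
  · rintro ⟨h, _⟩
    apply Subtype.ext
    simpa using h

include hB hM2 hMn hcC hcM in
theorem v4hyp_M : V4Hyp (⟨z, z_mem_M hB M hM2⟩ : ↥M) := by
  have hmem := mem_cent_x hB M hM2 c hcC hcM
  refine ⟨?_, ?_, ?_, ?_⟩
  · rw [Subgroup.orderOf_mk]; exact hB.hz
  · have hEq : centralizer ({(⟨z, z_mem_M hB M hM2⟩ : ↥M)} : Set ↥M) = (Qk e k).subgroupOf M := by
      ext c'
      rw [hmem, Subgroup.mem_subgroupOf]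
    rw [hEq, Nat.card_congr (Subgroup.subgroupOfEquivOfLe (Qk_le_M hB M hM2)).toEquiv, card_Qk]
  · intro c' hc'
    apply Subtype.ext
    rw [Subgroup.coe_mul, Subgroup.coe_one]
    exact sq_of_mem_Qk e k ((hmem c').mp hc')
  · intro v hv hv1
    have hvQ := (hmem v).mp hv
    have hv1' : (v : G) ≠ 1 := fun h => hv1 (Subtype.ext h)
    obtain ⟨g, hg⟩ := isConj_iff.mp (hB.conj_of_mem hvQ hv1')
    have hex : ∃ h : G, h ∈ M ∧ h * z * h⁻¹ = (v : G) := by
      by_cases hgM : g ∈ M
      · exact ⟨g, hgM, hg⟩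
      · refine ⟨g * c, (Subgroup.mul_mem_iff_of_index_two hM2).mpr (iff_of_false hgM hcM), ?_⟩
        have hcz : c * z = z * c := mem_cent.mp hcC
        calc g * c * z * (g * c)⁻¹ = g * (c * z) * c⁻¹ * g⁻¹ := by group
          _ = g * (z * c) * c⁻¹ * g⁻¹ := by rw [hcz]
          _ = g * z * g⁻¹ := by group
          _ = (v : G) := hg
    obtain ⟨h, hhM, hh⟩ := hex
    rw [isConj_iff]
    refine ⟨⟨h, hhM⟩, ?_⟩
    apply Subtype.ext
    simpa using hh

include hB hM2 hMn hcC hcM in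
theorem caseB1_aux :
    Nonempty (G ≃* Equiv.Perm (Fin 4)) ∨ Nonempty (G ≃* Equiv.Perm (Fin 5)) := by
  have hV := v4hyp_M hB M hM2 c hcC hcM
  have hmem := mem_cent_x hB M hM2 c hcC hcM
  have hzM := z_mem_M hB M hM2
  have huM := u_mem_M hB M hM2
  have hcardG : Nat.card ↥M * 2 = Nat.card G := by
    rw [← hM2]; exact Subgroup.card_mul_index M
  -- the second involution
  have hb : (⟨el e (sr k), huM⟩ : ↥M) ∈ centralizer ({(⟨z, hzM⟩ : ↥M)} : Set ↥M) :=
    (hmem _).mpr hB.u_mem
  have hb1 : (⟨el e (sr k), huM⟩ : ↥M) ≠ 1 := fun h => hB.u_ne_one (congrArg Subtype.val h)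
  have hbx : (⟨el e (sr k), huM⟩ : ↥M) ≠ ⟨z, hzM⟩ := fun h => hB.u_ne_z (congrArg Subtype.val h)
  have hselfC : ∀ g : G, (∀ v ∈ Qk e k, g * v = v * g) → g ∈ Qk e k := by
    intro g hg
    unfold Qk
    rw [Subgroup.mem_inf, mem_cent, mem_cent]
    exact ⟨hg z hB.z_mem, hg _ hB.u_mem⟩
  rcases v4_card hV with h12 | h60
  · left
    have h24 : Nat.card G = 24 := by omega
    haveI hQn : (Qk e k).Normal := by
      refine ⟨fun n hn g => ?_⟩
      by_cases hn1 : n = 1
      · rw [hn1]; simp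
      · have hnM : n ∈ M := Qk_le_M hB M hM2 hn
        have hgM : g * n * g⁻¹ ∈ M := hMn.conj_mem n hnM g
        have hord : orderOf (⟨g * n * g⁻¹, hgM⟩ : ↥M) = 2 := by
          rw [Subgroup.orderOf_mk]
          apply order_two_of_sq
          · calc g * n * g⁻¹ * (g * n * g⁻¹) = g * (n * n) * g⁻¹ := by group
              _ = 1 := by rw [sq_of_mem_Qk e k hn]; group
          · intro h
            apply hn1
            calc n = g⁻¹ * (g * n * g⁻¹) * g := by group
              _ = 1 := by rw [h]; group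
        have hxc : (⟨z, hzM⟩ : ↥M) ∈ centralizer ({(⟨z, hzM⟩ : ↥M)} : Set ↥M) := mem_cent.mpr rfl
        have hcases := hV.invols_of_twelve h12 _ hb hb1 hbx _ hord
        have : (⟨g * n * g⁻¹, hgM⟩ : ↥M) ∈ centralizer ({(⟨z, hzM⟩ : ↥M)} : Set ↥M) := by
          rcases hcases with h | h | h
          · rw [h]; exact hxc
          · rw [h]; exact hb
          · rw [h]; exact Subgroup.mul_mem _ hxc hb
        exact (hmem _).mp this
    exact Cfsg.Agent.Lib.Helper5.S4Rec.nonempty_mulEquiv_perm h24 (Qk e k)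
      (isKleinFour_of _ (card_Qk e k) (fun y hy => sq_of_mem_Qk e k hy)) hselfC
  · right
    have h120 : Nat.card G = 120 := by omega
    haveI : Fact (Nat.Prime 5) := ⟨by norm_num⟩
    have hnot : ¬ ((default : Sylow 5 ↥M) : Subgroup ↥M).Normal := by
      intro hn
      haveI := hn
      have hc5 : Nat.card ((default : Sylow 5 ↥M) : Subgroup ↥M) = 5 := by
        have := Cfsg.Agent.Lib.Helper4.sylow_card_of_eq 5 1 12 (by rw [h60]; norm_num) (by norm_num)
          (default : Sylow 5 ↥M)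
        simpa using this
      have hbot := hV.no_normal_odd _ hb hb1 hbx ((default : Sylow 5 ↥M) : Subgroup ↥M)
        (by rw [hc5]; decide)
      rw [hbot, Subgroup.card_bot] at hc5
      omega
    haveI : IsSimpleGroup ↥M :=
      Cfsg.Agent.Lib.Helper4.Sixty.isSimpleGroup_of_card_sixty h60 _ hnot
    obtain ⟨φ⟩ := Cfsg.Agent.Lib.Helper4.simple_sixty_iso (G := ↥M) h60
    apply iso_S5 M h120 φ
    intro g hg
    have hgQ : g ∈ Qk e k := hselfC g (fun v hv => hg v (Qk_le_M hB M hM2 hv))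
    have hgM : g ∈ M := Qk_le_M hB M hM2 hgQ
    by_contra hg1
    have hgc : (⟨g, hgM⟩ : ↥M) ∈ centralizer ({(⟨z, hzM⟩ : ↥M)} : Set ↥M) := (hmem _).mpr hgQ
    have hg1' : (⟨g, hgM⟩ : ↥M) ≠ 1 := fun h => hg1 (congrArg Subtype.val h)
    obtain ⟨h, hh⟩ := isConj_iff.mp (hV.conj _ hgc hg1')
    have hzg : z = g := by
      have h1 := congrArg Subtype.val hh
      simp only [Subgroup.coe_mul, Subgroup.coe_inv] at h1
      have h2 : g * (h : G) = (h : G) * g := hg _ h.2
      calc z = (h : G)⁻¹ * ((h : G) * z * (h : G)⁻¹) * (h : G) := by group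
        _ = (h : G)⁻¹ * g * (h : G) := by rw [h1]
        _ = (h : G)⁻¹ * (g * (h : G)) := by group
        _ = (h : G)⁻¹ * ((h : G) * g) := by rw [h2]
        _ = g := by group
    have htop : centralizer ({(⟨z, hzM⟩ : ↥M)} : Set ↥M) = ⊤ := by
      rw [eq_top_iff]
      intro m _
      rw [mem_cent]
      apply Subtype.ext
      rw [Subgroup.coe_mul, Subgroup.coe_mul]
      show (m : G) * z = z * (m : G)
      rw [hzg]
      exact (hg _ m.2).symm
    have := hV.card4
    rw [htop, Subgroup.card_top, h60] at this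
    omega

end caseB1

end Cfsg.Agent.Lib.Helper1.Dv
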