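import Mathlib
import Cfsg.Agent.Lib.Helper1.Dv6
import Cfsg.Agent.Lib.Helper2.ZS12

set_option autoImplicit false
set_option maxHeartbeats 4000000
set_option linter.unusedVariables false
set_option linter.unusedSectionVars false
set_option linter.style.longLine false
set_option linter.unusedSimpArgs false
set_option linter.deprecated false

/-! Groups with an involution whose centralizer is dihedral of order 8: the one-class case
(simple groups of order 168 and 360) and the main theorem. -/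

namespace Cfsg.Agent.Lib.Helper1.Dv

open Subgroup DihedralGroup
open scoped commutatorElement

section caseB2

variable {G : Type*} [Group G] [Finite G] {z : G}
  {e : ↥(centralizer ({z} : Set G)) ≃* DihedralGroup 4}

/-- an element commuting with a conjugate of `z` has 2-power order -/
theorem orderOf_dvd_eight_of_comm (e : ↥(centralizer ({z} : Set G)) ≃* DihedralGroup 4)
    {t n : G} (ht : IsConj z t) (hn : t * n = n * t) : orderOf n ∣ 8 := by
  have h8 : Nat.card (centralizer ({t} : Set G)) = 8 := by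
    rw [← Cfsg.Agent.Lib.Helper4.card_centralizer_eq_of_isConj ht, card_C e]
  rw [← h8]
  exact Subgroup.orderOf_dvd_natCard _ (mem_cent.mpr hn.symm)

theorem odd_normal_trivial {k : ZMod 4} (hB : BData e k) (N : Subgroup G) [hN : N.Normal]
    (hodd : Odd (Nat.card N)) : N = ⊥ := by
  have hfix : ∀ t : G, IsConj z t → ∀ n ∈ N, t * n = n * t → n = 1 := by
    intro t ht n hn hcomm
    have d1 := orderOf_dvd_eight_of_comm e ht hcomm
    have d2 : orderOf n ∣ Nat.card N := Subgroup.orderOf_dvd_natCard N hn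
    have d3 : orderOf n ∣ Nat.gcd 8 (Nat.card N) := Nat.dvd_gcd d1 d2
    have hcop : Nat.gcd 8 (Nat.card N) = 1 := by
      have h2 : Nat.Coprime 2 (Nat.card N) := Odd.coprime_two_left hodd
      have : Nat.Coprime (2 ^ 3) (Nat.card N) := Nat.Coprime.pow_left 3 h2
      exact this
    rw [hcop, Nat.dvd_one] at d3
    exact orderOf_eq_one_iff.mp d3
  have hz2 : z * z = 1 := sq_of_order_two hB.hz
  have hu2 : el e (sr k) * el e (sr k) = 1 := sq_of_order_two (el_sr_order e k)
  have hzu : z * el e (sr k) = el e (sr k) * z := (mem_cent.mp (el_mem e (sr k))).symm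
  refine four_group_fpf N z (el e (sr k)) hz2 hu2 hzu
    (fun n hn => hN.conj_mem n hn z) (fun n hn => hN.conj_mem n hn _)
    (hfix z (IsConj.refl z)) (hfix _ hB.conj) ?_
  rw [hB.zu]
  exact hfix _ hB.conj_zu

/-- `C(z)` is self-normalizing -/
theorem normalizer_C_le (hz : orderOf z = 2) (e : ↥(centralizer ({z} : Set G)) ≃* DihedralGroup 4) :
    normalizer ((centralizer ({z} : Set G) : Subgroup G) : Set G) ≤ centralizer ({z} : Set G) := by
  intro g hg
  have hg' : ∀ h, h ∈ centralizer ({z} : Set G) ↔ g * h * g⁻¹ ∈ centralizer ({z} : Set G) :=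
    fun h => Subgroup.mem_normalizer_iff.mp hg h
  have hzC : z ∈ centralizer ({z} : Set G) := mem_cent.mpr rfl
  have hwC : g * z * g⁻¹ ∈ centralizer ({z} : Set G) := (hg' z).mp hzC
  have hw : ∀ d ∈ centralizer ({z} : Set G), (g * z * g⁻¹) * d = d * (g * z * g⁻¹) := by
    intro d hd
    have h1 : g⁻¹ * d * g ∈ centralizer ({z} : Set G) := by
      rw [hg']
      have : g * (g⁻¹ * d * g) * g⁻¹ = d := by group
      rw [this]; exact hd
    have h2 : (g⁻¹ * d * g) * z = z * (g⁻¹ * d * g) := mem_cent.mp h1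
    calc (g * z * g⁻¹) * d = g * (z * (g⁻¹ * d * g)) * g⁻¹ := by group
      _ = g * ((g⁻¹ * d * g) * z) * g⁻¹ := by rw [h2]
      _ = d * (g * z * g⁻¹) := by group
  rcases Cfsg.Agent.Lib.Helper6.D8C.center_mem e hz hwC hw with h | h
  · exfalso
    apply ne_one_of_order_two hz
    calc z = g⁻¹ * (g * z * g⁻¹) * g := by group
      _ = 1 := by rw [h]; group
  · rw [mem_cent]
    calc g * z = (g * z * g⁻¹) * g := by group
      _ = z * g := by rw [h]

/-- every involution is conjugate into `C(z)` -/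
theorem exists_conj_mem_C (hz : orderOf z = 2) (e : ↥(centralizer ({z} : Set G)) ≃* DihedralGroup 4)
    (w : G) (hw : orderOf w = 2) : ∃ g : G, g * w * g⁻¹ ∈ centralizer ({z} : Set G) := by
  haveI : Fact (Nat.Prime 2) := ⟨Nat.prime_two⟩
  obtain ⟨T, hT⟩ := Cfsg.Agent.Lib.Helper6.D8C.exists_sylow e hz
  have hzw : IsPGroup 2 ↥(Subgroup.zpowers w) := by
    rw [IsPGroup.iff_card]
    exact ⟨1, by rw [Nat.card_zpowers, hw, pow_one]⟩
  obtain ⟨R₀, hR₀⟩ := hzw.exists_le_sylow
  obtain ⟨h, hh⟩ := MulAction.exists_smul_eq G R₀ T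
  refine ⟨h, ?_⟩
  rw [← hT, ← hh, Sylow.smul_def, Sylow.pointwise_smul_def]
  exact Subgroup.smul_mem_pointwise_smul w (MulAut.conj h) _ (hR₀ (Subgroup.mem_zpowers w))

theorem simple_of_one_class {k : ZMod 4} (hB : BData e k)
    (hall : ∀ c ∈ centralizer ({z} : Set G), orderOf c = 2 → IsConj z c) : IsSimpleGroup G := by
  haveI : Nontrivial G := ⟨⟨z, 1, hB.z_ne_one⟩⟩
  refine ⟨fun N hN => ?_⟩
  by_cases hbot : N = ⊥
  · left; exact hbot
  right
  haveI := hN
  haveI : Fact (Nat.Prime 2) := ⟨Nat.prime_two⟩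
  have heven : 2 ∣ Nat.card N := by
    by_contra h2
    apply hbot
    apply odd_normal_trivial hB N
    rw [← Nat.not_even_iff_odd, even_iff_two_dvd]
    exact h2
  obtain ⟨w, hw⟩ := exists_prime_orderOf_dvd_card' 2 heven
  have hw' : orderOf (w : G) = 2 := by rw [Subgroup.orderOf_coe]; exact hw
  obtain ⟨g, hg⟩ := exists_conj_mem_C hB.hz e (w : G) hw'
  have hgo : orderOf (g * (w : G) * g⁻¹) = 2 := by
    apply order_two_of_sq
    · calc g * (w : G) * g⁻¹ * (g * (w : G) * g⁻¹) = g * ((w : G) * (w : G)) * g⁻¹ := by group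
        _ = 1 := by rw [sq_of_order_two hw']; group
    · intro h
      apply ne_one_of_order_two hw'
      calc (w : G) = g⁻¹ * (g * (w : G) * g⁻¹) * g := by group
        _ = 1 := by rw [h]; group
  have hgN : g * (w : G) * g⁻¹ ∈ N := hN.conj_mem _ w.2 g
  have hzN : z ∈ N := by
    obtain ⟨a, ha⟩ := isConj_iff.mp (hall _ hg hgo)
    have : z = a⁻¹ * (g * (w : G) * g⁻¹) * a⁻¹⁻¹ := by rw [← ha]; group
    rw [this]
    exact hN.conj_mem _ hgN a⁻¹
  have hinvN : ∀ c ∈ centralizer ({z} : Set G), orderOf c = 2 → c ∈ N := by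
    intro c hc hc2
    obtain ⟨a, ha⟩ := isConj_iff.mp (hall c hc hc2)
    rw [← ha]
    exact hN.conj_mem _ hzN a
  have helN : ∀ d : DihedralGroup 4, el e d ∈ N := by
    intro d
    rcases dec_gen d with ⟨i, rfl⟩ | ⟨i, j, rfl⟩
    · exact hinvN _ (el_mem e _) (el_sr_order e i)
    · rw [el_mul]
      exact N.mul_mem (hinvN _ (el_mem e _) (el_sr_order e i))
        (hinvN _ (el_mem e _) (el_sr_order e j))
  have hCN : centralizer ({z} : Set G) ≤ N := by
    intro y hy
    rw [← el_e e hy]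
    exact helN _
  obtain ⟨T, hT⟩ := Cfsg.Agent.Lib.Helper6.D8C.exists_sylow e hB.hz
  have hTN : (T : Subgroup G) ≤ N := by rw [hT]; exact hCN
  have hfr := Sylow.normalizer_sup_eq_top' T hTN
  have hfr' : normalizer ((centralizer ({z} : Set G) : Subgroup G) : Set G) ⊔ N = ⊤ := by
    rw [← hT]; exact hfr
  rw [← hfr']
  exact ((sup_le ((normalizer_C_le hB.hz e).trans hCN) le_rfl).antisymm le_sup_right).symm

theorem caseB2 {k : ZMod 4} (hB : BData e k)
    (hall : ∀ c ∈ centralizer ({z} : Set G), orderOf c = 2 → IsConj z c) :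
    Nonempty (G ≃* Matrix.SpecialLinearGroup (Fin 3) (ZMod 2)) ∨
      Nonempty (G ≃* ↥(alternatingGroup (Fin 6))) := by
  haveI hs : IsSimpleGroup G := simple_of_one_class hB hall
  have hperf : commutator G = ⊤ := by
    rcases (inferInstance : (commutator G).Normal).eq_bot_or_eq_top with h | h
    · exfalso
      apply dec_noncomm
      apply el_inj e
      rw [el_mul, el_mul]
      have h1 : ⁅el e (r 1), el e (sr 0)⁆ ∈ commutator G := by
        rw [_root_.commutator_def]
        exact Subgroup.commutator_mem_commutator (Subgroup.mem_top _) (Subgroup.mem_top _)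
      rw [h, Subgroup.mem_bot] at h1
      exact commutatorElement_eq_one_iff_mul_comm.mp h1
    · exact h
  rcases Cfsg.Agent.Lib.Helper6.D8C.d8_main hperf z hB.hz e with h168 | h360
  · left; exact iso_SL32 h168
  · right; exact Cfsg.Agent.S0497.result h360

end caseB2

section main

variable {G : Type*} [Group G] [Finite G]

theorem d8_centralizer_main (z : G) (hz : orderOf z = 2)
    (e : ↥(centralizer ({z} : Set G)) ≃* DihedralGroup 4) :
    centralizer ({z} : Set G) ⊔ Cfsg.oddCore G = ⊤ ∨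
      Nonempty (G ≃* Equiv.Perm (Fin 4)) ∨ Nonempty (G ≃* Equiv.Perm (Fin 5)) ∨
      Nonempty (G ≃* Matrix.SpecialLinearGroup (Fin 3) (ZMod 2)) ∨
      Nonempty (G ≃* ↥(alternatingGroup (Fin 6))) := by
  by_cases hiso : Cfsg.IsIsolatedInvolution z
  · left
    haveI := Cfsg.Agent.Lib.Helper1.pPrimeCore_normal (G := G) 2
    exact sup_eq_top_of_map_mk _ _ (Cfsg.Agent.Lib.Helper2.ZS.centralizer_map_eq_top z hiso)
  right
  unfold Cfsg.IsIsolatedInvolution at hiso
  push Not at hiso
  obtain ⟨g, hcomm, hne⟩ := hiso hz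
  have hz2 : z * z = 1 := sq_of_order_two hz
  have huC : g * z * g⁻¹ ∈ centralizer ({z} : Set G) := mem_cent.mpr hcomm.symm.eq
  have hu2 : g * z * g⁻¹ * (g * z * g⁻¹) = 1 := by
    calc g * z * g⁻¹ * (g * z * g⁻¹) = g * (z * z) * g⁻¹ := by group
      _ = 1 := by rw [hz2]; group
  have hu1 : g * z * g⁻¹ ≠ 1 := by
    intro h
    apply ne_one_of_order_two hz
    calc z = g⁻¹ * (g * z * g⁻¹) * g := by group
      _ = 1 := by rw [h]; group
  have hel : el e (e ⟨g * z * g⁻¹, huC⟩) = g * z * g⁻¹ := el_e e huC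
  have hd2 : e ⟨g * z * g⁻¹, huC⟩ * e ⟨g * z * g⁻¹, huC⟩ = 1 := by
    apply el_inj e
    rw [el_mul, hel, el_one, hu2]
  have hd1 : e ⟨g * z * g⁻¹, huC⟩ ≠ 1 := by
    intro h
    apply hu1
    rw [← hel, h, el_one]
  have hdr : e ⟨g * z * g⁻¹, huC⟩ ≠ r 2 := by
    intro h
    apply hne
    rw [← hel, h, el_r2 e hz]
  obtain ⟨k, hk⟩ := dec_invol _ hd2 hd1 hdr
  have hB : BData e k := by
    refine ⟨hz, ?_⟩
    rw [isConj_iff]
    refine ⟨g, ?_⟩
    rw [← hk, hel]
  by_cases hall : ∀ c ∈ centralizer ({z} : Set G), orderOf c = 2 → IsConj z c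
  · right; right
    exact caseB2 hB hall
  · push Not at hall
    obtain ⟨c, hcC, hc2, hcz⟩ := hall
    obtain ⟨M, hMn, hM2, hcM⟩ := exists_index_two hB c hc2 hcz
    haveI := hMn
    rcases caseB1_aux hB M hM2 c hcC hcM with h | h
    · left; exact h
    · right; left; exact h

end main

end Cfsg.Agent.Lib.Helper1.Dv
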