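import Mathlib
import Cfsg.Agent.Lib.Helper1.Dv7
import Cfsg.Agent.Lib.Helper1.PLengthOne
import Cfsg.Agent.Lib.Helper5.OAut.D8

set_option autoImplicit false
set_option maxHeartbeats 4000000
set_option linter.unusedVariables false
set_option linter.unusedSectionVars false
set_option linter.style.longLine false
set_option linter.unusedSimpArgs false
set_option linter.deprecated false

/-! A group without subgroups of index `2` in which a `2`-central involution has the centralizer of a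
double transposition of `A₆`: `A₆` or `PSL₂(7)`. -/

namespace Cfsg.Agent.Lib.Helper1.Dv

open Subgroup

section A6

open Equiv Equiv.Perm

theorem cycleType_of_invol {g : Perm (Fin 6)} (hg : orderOf g = 2) (hs : g.support.card = 4) :
    g.cycleType = {2, 2} := by
  have hp : (orderOf g).Prime := by rw [hg]; exact Nat.prime_two
  obtain ⟨n, hn⟩ := cycleType_prime_order hp
  rw [hg] at hn
  have hsum : g.cycleType.sum = 4 := by rw [sum_cycleType, hs]
  rw [hn, Multiset.sum_replicate, smul_eq_mul] at hsum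
  have h1 : n = 1 := by omega
  rw [hn, h1]; rfl

theorem card_cent_perm {g : Perm (Fin 6)} (hct : g.cycleType = {2, 2}) :
    Nat.card (Subgroup.centralizer ({g} : Set (Perm (Fin 6)))) = 16 := by
  rw [nat_card_centralizer, hct]; decide

theorem cent_not_le_alt {g : Perm (Fin 6)} (hct : g.cycleType = {2, 2}) :
    ¬ Subgroup.centralizer ({g} : Set (Perm (Fin 6))) ≤ alternatingGroup (Fin 6) := by
  rw [Equiv.Perm.centralizer_le_alternating_iff]
  rintro ⟨h1, -, -⟩
  have := h1 2 (by rw [hct]; simp)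
  exact absurd this (by decide)

theorem card_cent_inf_alt {g : Perm (Fin 6)} (hct : g.cycleType = {2, 2}) :
    Nat.card ↥(alternatingGroup (Fin 6) ⊓ Subgroup.centralizer ({g} : Set (Perm (Fin 6)))) = 8 := by
  obtain ⟨C, hC⟩ : ∃ C : Subgroup (Perm (Fin 6)),
    C = Subgroup.centralizer ({g} : Set (Perm (Fin 6))) := ⟨_, rfl⟩
  rw [← hC]
  have h16 : Nat.card C = 16 := by rw [hC]; exact card_cent_perm hct
  have hnle : ¬ C ≤ alternatingGroup (Fin 6) := by rw [hC]; exact cent_not_le_alt hct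
  have hrel : (alternatingGroup (Fin 6)).relIndex C = 2 := by
    have hdvd : (alternatingGroup (Fin 6)).relIndex C ∣ 2 := by
      have := Subgroup.relIndex_dvd_index_of_normal (alternatingGroup (Fin 6)) C
      rwa [alternatingGroup.index_eq_two] at this
    have hne1 : (alternatingGroup (Fin 6)).relIndex C ≠ 1 := by
      intro h1; exact hnle (Subgroup.relIndex_eq_one.mp h1)
    rcases (Nat.dvd_prime Nat.prime_two).mp hdvd with h | h
    · exact absurd h hne1
    · exact h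
  have h1 := Subgroup.relIndex_mul_relIndex ⊥ (alternatingGroup (Fin 6) ⊓ C) C bot_le inf_le_right
  rw [Subgroup.relIndex_bot_left, Subgroup.relIndex_bot_left, Subgroup.inf_relIndex_right, hrel,
    h16] at h1
  omega

theorem card_cent_alt (αt : ↥(alternatingGroup (Fin 6))) (hαt : orderOf αt = 2)
    (hsupp : (αt : Perm (Fin 6)).support.card = 4) :
    Nat.card (Subgroup.centralizer ({αt} : Set ↥(alternatingGroup (Fin 6)))) = 8 := by
  have hord : orderOf (αt : Perm (Fin 6)) = 2 := by rw [Subgroup.orderOf_coe]; exact hαt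
  have hct := cycleType_of_invol hord hsupp
  have hmap : (Subgroup.centralizer ({αt} : Set ↥(alternatingGroup (Fin 6)))).map
      (alternatingGroup (Fin 6)).subtype
      = alternatingGroup (Fin 6) ⊓ Subgroup.centralizer ({(αt : Perm (Fin 6))} : Set (Perm (Fin 6))) := by
    ext p
    constructor
    · rintro ⟨c, hc, rfl⟩
      refine Subgroup.mem_inf.mpr ⟨c.2, ?_⟩
      rw [mem_cent]
      have := mem_cent.mp hc
      have h2 := congrArg Subtype.val this
      simpa using h2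
    · intro hp
      obtain ⟨hpA, hpC⟩ := Subgroup.mem_inf.mp hp
      refine ⟨⟨p, hpA⟩, ?_, rfl⟩
      rw [SetLike.mem_coe, mem_cent]
      apply Subtype.ext
      have := mem_cent.mp hpC
      simpa using this
  rw [← card_cent_inf_alt hct, ← hmap,
    Subgroup.card_map_of_injective (Subgroup.subtype_injective (alternatingGroup (Fin 6)))]

theorem cent_alt_dihedral (αt : ↥(alternatingGroup (Fin 6))) (hαt : orderOf αt = 2)
    (hsupp : (αt : Perm (Fin 6)).support.card = 4) :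
    Nonempty (↥(Subgroup.centralizer ({αt} : Set ↥(alternatingGroup (Fin 6)))) ≃* DihedralGroup 4) := by
  have hcard := card_cent_alt αt hαt hsupp
  have hord : orderOf (αt : Perm (Fin 6)) = 2 := by rw [Subgroup.orderOf_coe]; exact hαt
  have hct := cycleType_of_invol hord hsupp
  obtain ⟨α₀, hα₀⟩ : ∃ α₀ : Perm (Fin 6), α₀ = swap 0 1 * swap 2 3 := ⟨_, rfl⟩
  obtain ⟨s₀, hs₀⟩ : ∃ s₀ : Perm (Fin 6), s₀ = swap 0 2 * swap 1 3 := ⟨_, rfl⟩
  obtain ⟨t₀, ht₀⟩ : ∃ t₀ : Perm (Fin 6), t₀ = swap 0 1 * swap 4 5 := ⟨_, rfl⟩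
  have hα₀o : orderOf α₀ = 2 := by
    rw [hα₀]; exact orderOf_eq_prime (by decide) (by decide)
  have hα₀s : α₀.support.card = 4 := by rw [hα₀]; decide
  have hct₀ := cycleType_of_invol hα₀o hα₀s
  have hsc : s₀ * α₀ = α₀ * s₀ := by rw [hs₀, hα₀]; decide
  have htc : t₀ * α₀ = α₀ * t₀ := by rw [ht₀, hα₀]; decide
  have hss : s₀ * s₀ = 1 := by rw [hs₀]; decide
  have hst : s₀ * t₀ ≠ t₀ * s₀ := by rw [hs₀, ht₀]; decide
  have hsgs : sign s₀ = 1 := by
    rw [hs₀, Perm.sign_mul, sign_swap (by decide), sign_swap (by decide)]; rfl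
  have hsgt : sign t₀ = 1 := by
    rw [ht₀, Perm.sign_mul, sign_swap (by decide), sign_swap (by decide)]; rfl
  obtain ⟨σ, hσ⟩ := isConj_iff.mp (isConj_iff_cycleType_eq.mpr (hct₀.trans hct.symm))
  have hA : ∀ u : Perm (Fin 6), sign u = 1 → σ * u * σ⁻¹ ∈ alternatingGroup (Fin 6) := by
    intro u hu
    rw [mem_alternatingGroup, Perm.sign_mul, Perm.sign_mul, sign_inv, hu, mul_one, Int.units_mul_self]
  have hCm : ∀ u : Perm (Fin 6), u * α₀ = α₀ * u →
      (σ * u * σ⁻¹) * (αt : Perm (Fin 6)) = (αt : Perm (Fin 6)) * (σ * u * σ⁻¹) := by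
    intro u hu
    rw [← hσ]
    calc σ * u * σ⁻¹ * (σ * α₀ * σ⁻¹) = σ * (u * α₀) * σ⁻¹ := by group
      _ = σ * (α₀ * u) * σ⁻¹ := by rw [hu]
      _ = σ * α₀ * σ⁻¹ * (σ * u * σ⁻¹) := by group
  have hmemC : ∀ (u : Perm (Fin 6)) (hu : sign u = 1), u * α₀ = α₀ * u →
      (⟨σ * u * σ⁻¹, hA u hu⟩ : ↥(alternatingGroup (Fin 6)))
        ∈ Subgroup.centralizer ({αt} : Set ↥(alternatingGroup (Fin 6))) := by
    intro u hu huc
    rw [mem_cent]
    apply Subtype.ext
    exact hCm u huc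
  apply Cfsg.Agent.Lib.Helper5.OAut.exists_dihedral_equiv hcard
    ⟨⟨σ * s₀ * σ⁻¹, hA s₀ hsgs⟩, hmemC s₀ hsgs hsc⟩
    ⟨⟨σ * t₀ * σ⁻¹, hA t₀ hsgt⟩, hmemC t₀ hsgt htc⟩
  · apply Subtype.ext
    apply Subtype.ext
    show σ * s₀ * σ⁻¹ * (σ * s₀ * σ⁻¹) = 1
    calc σ * s₀ * σ⁻¹ * (σ * s₀ * σ⁻¹) = σ * (s₀ * s₀) * σ⁻¹ := by group
      _ = 1 := by rw [hss]; group
  · intro h
    have h1 : σ * s₀ * σ⁻¹ * (σ * t₀ * σ⁻¹) = σ * t₀ * σ⁻¹ * (σ * s₀ * σ⁻¹) :=
      congrArg (fun c : ↥(Subgroup.centralizer ({αt} : Set ↥(alternatingGroup (Fin 6)))) =>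
        ((c : ↥(alternatingGroup (Fin 6))) : Perm (Fin 6))) h
    apply hst
    calc s₀ * t₀ = σ⁻¹ * (σ * s₀ * σ⁻¹ * (σ * t₀ * σ⁻¹)) * σ := by group
      _ = σ⁻¹ * (σ * t₀ * σ⁻¹ * (σ * s₀ * σ⁻¹)) * σ := by rw [h1]
      _ = t₀ * s₀ := by group

end A6

section idx

variable {G : Type*} [Group G]

theorem exists_index_two_of_sup_eq_top [Finite G] (C N : Subgroup G) [hN : N.Normal]
    (hC : IsPGroup 2 C) (h : C ⊔ N = ⊤) (hne : N ≠ ⊤) : ∃ H : Subgroup G, H.index = 2 := by
  haveI : Fact (Nat.Prime 2) := ⟨Nat.prime_two⟩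
  have hQ : IsPGroup 2 (G ⧸ N) := by
    intro q
    obtain ⟨g, rfl⟩ := QuotientGroup.mk_surjective q
    have hg : g ∈ ((C ⊔ N : Subgroup G) : Set G) := by rw [h]; exact Set.mem_univ _
    rw [Subgroup.mul_normal] at hg
    obtain ⟨c, hc, n, hn, rfl⟩ := Set.mem_mul.mp hg
    obtain ⟨k, hk⟩ := hC ⟨c, hc⟩
    refine ⟨k, ?_⟩
    have hck : c ^ 2 ^ k = 1 := by
      have := congrArg Subtype.val hk
      simpa using this
    have hn' : ((c * n : G) : G ⧸ N) = (c : G ⧸ N) := by
      rw [QuotientGroup.mk_mul, (QuotientGroup.eq_one_iff n).mpr hn, mul_one]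
    rw [hn', ← QuotientGroup.mk_pow, hck]
    rfl
  obtain ⟨k, hk⟩ := IsPGroup.iff_card.mp hQ
  have hk0 : k ≠ 0 := by
    rintro rfl
    rw [pow_zero] at hk
    apply hne
    rw [← Subgroup.index_eq_one, Subgroup.index_eq_card]
    exact hk
  obtain ⟨k', rfl⟩ : ∃ k', k = k' + 1 := ⟨k - 1, by omega⟩
  obtain ⟨K, hK⟩ := Sylow.exists_subgroup_card_pow_prime 2 (n := k')
    (by rw [hk]; exact pow_dvd_pow 2 (Nat.le_succ k'))
  refine ⟨K.comap (QuotientGroup.mk' N), ?_⟩
  rw [Subgroup.index_comap_of_surjective K (QuotientGroup.mk'_surjective N)]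
  have h1 := K.index_mul_card
  rw [hK, hk, pow_succ] at h1
  have hpos : 0 < 2 ^ k' := by positivity
  nlinarith

end idx

section main

variable {G : Type*} [Group G] [Finite G]

theorem s3261_main (hG : ∀ H : Subgroup G, H.index ≠ 2)
    (αt : ↥(alternatingGroup (Fin 6))) (hαt : orderOf αt = 2)
    (hsupp : (αt : Equiv.Perm (Fin 6)).support.card = 4)
    (α : G) (hα : orderOf α = 2)
    (e : ↥(Subgroup.centralizer ({α} : Set G)) ≃*
      ↥(Subgroup.centralizer ({αt} : Set ↥(alternatingGroup (Fin 6))))) :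
    Nonempty (G ≃* ↥(alternatingGroup (Fin 6))) ∨
      (∃ (F : Type) (_ : Field F) (_ : Fintype F), Fintype.card F = 7 ∧
        Nonempty (G ≃* Matrix.ProjectiveSpecialLinearGroup (Fin 2) F)) := by
  obtain ⟨d⟩ := cent_alt_dihedral αt hαt hsupp
  rcases d8_centralizer_main α hα (e.trans d) with h1 | h2 | h3 | h4 | h5
  · exfalso
    haveI := Cfsg.Agent.Lib.Helper1.pPrimeCore_normal (G := G) 2
    have hcardC : Nat.card (centralizer ({α} : Set G)) = 2 ^ 3 := by
      rw [Nat.card_congr (e.trans d).toEquiv, DihedralGroup.nat_card]; norm_num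
    have hC2 : IsPGroup 2 (centralizer ({α} : Set G)) := IsPGroup.of_card hcardC
    have hne : Cfsg.oddCore G ≠ ⊤ := by
      intro htop
      have hcop := Cfsg.Agent.Lib.Helper1.pPrimeCore_card_coprime (G := G) 2
      have h2 : 2 ∣ Nat.card G := by rw [← hα]; exact orderOf_dvd_natCard α
      have hc : Nat.card (Cfsg.oddCore G) = Nat.card G := by rw [htop, Subgroup.card_top]
      have hcop' : (Nat.card G).Coprime 2 := by rw [← hc]; exact hcop
      have := Nat.Coprime.eq_one_of_dvd hcop'.symm h2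
      omega
    obtain ⟨H, hH⟩ := exists_index_two_of_sup_eq_top _ _ hC2 h1 hne
    exact hG H hH
  · exfalso
    obtain ⟨φ⟩ := h2
    apply hG ((alternatingGroup (Fin 4)).comap φ.toMonoidHom)
    rw [Subgroup.index_comap_of_surjective _ φ.surjective]
    exact alternatingGroup.index_eq_two
  · exfalso
    obtain ⟨φ⟩ := h3
    apply hG ((alternatingGroup (Fin 5)).comap φ.toMonoidHom)
    rw [Subgroup.index_comap_of_surjective _ φ.surjective]
    exact alternatingGroup.index_eq_two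
  · right
    obtain ⟨φ⟩ := h4
    haveI : IsSimpleGroup G := φ.isSimpleGroup_congr.mpr simple_SL32
    have h168 : Nat.card G = 168 := by rw [Nat.card_congr φ.toEquiv]; exact card_SL32
    haveI : Fact (Nat.Prime 7) := ⟨by norm_num⟩
    exact ⟨ZMod 7, inferInstance, inferInstance, ZMod.card 7,
      Cfsg.Agent.S0495.result h168 (F := ZMod 7) (ZMod.card 7)⟩
  · left; exact h5

end main

end Cfsg.Agent.Lib.Helper1.Dv
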