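import Mathlib
import Cfsg.Agent.Lib.Helper1.Dv11
import Cfsg.Agent.Lib.Helper1.Dv8

set_option autoImplicit false
set_option maxHeartbeats 4000000
set_option maxRecDepth 100000
set_option linter.unusedVariables false
set_option linter.unusedSectionVars false
set_option linter.style.longLine false
set_option linter.unusedSimpArgs false
set_option linter.deprecated false

/-! Groups with a `2`-central involution `t`, `C(t) ≅ Z₂ × S₄`, and `C(S') = S` for Sylow
`2`-subgroups: setup (coordinates on `C(t)`, the involution `z`, Burnside fusion). -/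

namespace Cfsg.Agent.Lib.Helper1.Dw

open Subgroup Equiv
open Cfsg.Agent.Lib.Helper1.Dv (mem_cent sq_of_order_two inv_of_order_two ne_one_of_order_two
  order_two_of_sq)

abbrev Z2 : Type := Multiplicative (ZMod 2)
abbrev S4 : Type := Equiv.Perm (Fin 4)

def τ1 : Z2 := Multiplicative.ofAdd (1 : ZMod 2)
def ζ0 : S4 := swap 0 2 * swap 1 3
def r0 : S4 := swap 0 1 * swap 1 2 * swap 2 3
def s0 : S4 := swap 0 2
def c3 : S4 := swap 0 1 * swap 1 2
def v1 : S4 := swap 0 1 * swap 2 3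

section dec

theorem z2_cases : ∀ a : Z2, a = 1 ∨ a = τ1 := by decide
theorem τ1_sq : τ1 * τ1 = 1 := by decide
theorem τ1_ne : τ1 ≠ 1 := by decide

theorem dec_comm : ∀ δ δ' : S4, δ * ζ0 = ζ0 * δ → δ' * ζ0 = ζ0 * δ' →
    δ * δ' * δ⁻¹ * δ'⁻¹ = 1 ∨ δ * δ' * δ⁻¹ * δ'⁻¹ = ζ0 := by decide

theorem dec_invol : ∀ σ : S4, σ * σ = 1 → σ ≠ 1 →
    (∃ π : S4, σ = π * ζ0 * π⁻¹) ∨ (∃ i j : Fin 4, i ≠ j ∧ σ = swap i j) := by decide

theorem dec_r0 : r0 * ζ0 = ζ0 * r0 ∧ s0 * ζ0 = ζ0 * s0 ∧ r0 * s0 * r0⁻¹ * s0⁻¹ = ζ0 := by decide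

theorem dec_ζ0 : ζ0 * ζ0 = 1 ∧ ζ0 ≠ 1 := by decide

theorem dec_c3 : c3 * ζ0 ≠ ζ0 * c3 ∧ c3 * c3 * c3 = 1 ∧ c3 ≠ 1 := by decide

theorem dec_v1 : (∃ π : S4, v1 = π * ζ0 * π⁻¹) ∧ (∃ π : S4, ζ0 * v1 = π * ζ0 * π⁻¹) ∧
    ζ0 * v1 = v1 * ζ0 ∧ v1 * v1 = 1 := by decide

theorem dec_s0 : s0 * s0 = 1 ∧ s0 * r0 ≠ r0 * s0 := by decide

theorem dec_card : Fintype.card {δ : S4 // δ * ζ0 = ζ0 * δ} = 8 := by decide

theorem dec_center : ∀ σ : S4, (∀ π : S4, π * σ = σ * π) → σ = 1 := by decide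

theorem dec_z2comm : ∀ a b : Z2, a * b * a⁻¹ * b⁻¹ = 1 := by decide

theorem dec_swap_noncomm : (swap (0 : Fin 4) 1) * swap 1 2 ≠ swap 1 2 * swap 0 1 := by decide

end dec

variable {G : Type*} [Group G]

section el

variable {t : G} (e : ↥(centralizer ({t} : Set G)) ≃* Z2 × S4)

/-- the element of `G` with coordinates `p` -/
noncomputable def el (p : Z2 × S4) : G := ((e.symm p : ↥(centralizer ({t} : Set G))) : G)

theorem el_mul (p q : Z2 × S4) : el e (p * q) = el e p * el e q := by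
  simp [el, map_mul]

theorem el_one : el e 1 = 1 := by simp [el]

theorem el_inv (p : Z2 × S4) : el e p⁻¹ = (el e p)⁻¹ := by simp [el, map_inv]

theorem el_mem (p : Z2 × S4) : el e p ∈ centralizer ({t} : Set G) :=
  (e.symm p).2

theorem el_inj : Function.Injective (el e) := by
  intro p q hpq
  have : e.symm p = e.symm q := Subtype.ext hpq
  exact e.symm.injective this

theorem el_e {x : G} (hx : x ∈ centralizer ({t} : Set G)) : el e (e ⟨x, hx⟩) = x := by
  simp [el]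

theorem el_comm_t (p : Z2 × S4) : el e p * t = t * el e p :=
  mem_cent.mp (el_mem e p)

theorem el_comm_iff (p q : Z2 × S4) : el e p * el e q = el e q * el e p ↔ p * q = q * p := by
  rw [← el_mul, ← el_mul]
  exact (el_inj e).eq_iff

theorem el_eq_one_iff (p : Z2 × S4) : el e p = 1 ↔ p = 1 := by
  rw [← el_one e]
  exact (el_inj e).eq_iff

theorem el_conj (π : S4) (a : Z2) (σ : S4) :
    el e (1, π) * el e (a, σ) * (el e (1, π))⁻¹ = el e (a, π * σ * π⁻¹) := by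
  rw [← el_inv, ← el_mul, ← el_mul]
  congr 1
  ext <;> simp

theorem el_t (ht : orderOf t = 2) : el e (τ1, 1) = t := by
  have htC : t ∈ centralizer ({t} : Set G) := mem_cent.mpr rfl
  obtain ⟨a, σ, hp⟩ : ∃ a σ, e ⟨t, htC⟩ = (a, σ) := ⟨_, _, rfl⟩
  have hta : el e (a, σ) = t := by rw [← hp]; exact el_e e htC
  have hσ : σ = 1 := by
    apply dec_center
    intro π
    have h1 : el e (1, π) * el e (a, σ) = el e (a, σ) * el e (1, π) := by
      rw [hta]; exact el_comm_t e (1, π)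
    have h2 := (el_comm_iff e (1, π) (a, σ)).mp h1
    have h3 := congrArg Prod.snd h2
    simpa using h3
  have ha : a = τ1 := by
    rcases z2_cases a with h1 | h1
    · exfalso
      have : el e (a, σ) = 1 := by rw [h1, hσ]; exact el_one e
      rw [hta] at this
      exact ne_one_of_order_two ht this
    · exact h1
  rw [ha, hσ] at hta
  exact hta

end el

/-- the normalised hypotheses -/
structure Hyp (t : G) (T : Sylow 2 G) (e : ↥(centralizer ({t} : Set G)) ≃* Z2 × S4) : Prop where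
  ord : orderOf t = 2
  h2 : ∀ S : Sylow 2 G,
    centralizer ((⁅(S : Subgroup G), (S : Subgroup G)⁆ : Subgroup G) : Set G) = (S : Subgroup G)
  leC : (T : Subgroup G) ≤ centralizer ({t} : Set G)
  memT : ∀ p : Z2 × S4, el e p ∈ (T : Subgroup G) ↔ p.2 * ζ0 = ζ0 * p.2

namespace Hyp

variable {t : G} {T : Sylow 2 G} {e : ↥(centralizer ({t} : Set G)) ≃* Z2 × S4}

theorem exists_el (h : Hyp t T e) {x : G} (hx : x ∈ (T : Subgroup G)) :
    ∃ p : Z2 × S4, el e p = x ∧ p.2 * ζ0 = ζ0 * p.2 := by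
  have hxC := h.leC hx
  refine ⟨e ⟨x, hxC⟩, el_e e hxC, ?_⟩
  rw [← h.memT, el_e e hxC]
  exact hx

theorem z_mem (h : Hyp t T e) : el e (1, ζ0) ∈ (T : Subgroup G) := by
  rw [h.memT]

theorem z_sq (h : Hyp t T e) : el e (1, ζ0) * el e (1, ζ0) = 1 := by
  rw [← el_mul, el_eq_one_iff]
  ext <;> simp [dec_ζ0.1]

theorem z_ne (h : Hyp t T e) : el e (1, ζ0) ≠ 1 := by
  rw [Ne, el_eq_one_iff]
  intro h1
  exact dec_ζ0.2 (congrArg Prod.snd h1)

theorem z_ord (h : Hyp t T e) : orderOf (el e (1, ζ0)) = 2 :=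
  order_two_of_sq h.z_sq h.z_ne

theorem comm_mem (h : Hyp t T e) {x y : G} (hx : x ∈ (T : Subgroup G)) (hy : y ∈ (T : Subgroup G)) :
    x * y * x⁻¹ * y⁻¹ = 1 ∨ x * y * x⁻¹ * y⁻¹ = el e (1, ζ0) := by
  obtain ⟨p, rfl, hp⟩ := h.exists_el hx
  obtain ⟨q, rfl, hq⟩ := h.exists_el hy
  rw [← el_inv, ← el_inv, ← el_mul, ← el_mul, ← el_mul]
  have h1 : (p * q * p⁻¹ * q⁻¹).1 = 1 := by
    simp only [Prod.fst_mul, Prod.fst_inv]
    exact dec_z2comm p.1 q.1
  rcases dec_comm p.2 q.2 hp hq with h2 | h2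
  · left
    rw [el_eq_one_iff]
    ext1
    · exact h1
    · simpa using h2
  · right
    congr 1
    ext1
    · exact h1
    · simpa using h2

theorem comm_le (h : Hyp t T e) :
    ⁅(T : Subgroup G), (T : Subgroup G)⁆ ≤ Subgroup.zpowers (el e (1, ζ0)) := by
  rw [Subgroup.commutator_le]
  intro x hx y hy
  rw [commutatorElement_def]
  rcases h.comm_mem hx hy with h1 | h1
  · rw [h1]; exact Subgroup.one_mem _
  · rw [h1]; exact Subgroup.mem_zpowers _

theorem z_mem_comm (h : Hyp t T e) :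
    el e (1, ζ0) ∈ ⁅(T : Subgroup G), (T : Subgroup G)⁆ := by
  have hr : el e (1, r0) ∈ (T : Subgroup G) := by rw [h.memT]; exact dec_r0.1
  have hs : el e (1, s0) ∈ (T : Subgroup G) := by rw [h.memT]; exact dec_r0.2.1
  have := Subgroup.commutator_mem_commutator hr hs
  rw [commutatorElement_def, ← el_inv, ← el_inv, ← el_mul, ← el_mul, ← el_mul] at this
  convert this using 2
  ext1
  · simp
  · simpa using dec_r0.2.2.symm

theorem cent_z (h : Hyp t T e) :
    centralizer ({el e (1, ζ0)} : Set G) = (T : Subgroup G) := by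
  apply le_antisymm
  · intro y hy
    rw [← h.h2 T, Subgroup.mem_centralizer_iff]
    intro c hc
    have hc' := h.comm_le hc
    obtain ⟨k, rfl⟩ := Subgroup.mem_zpowers_iff.mp hc'
    have hyz : y * el e (1, ζ0) = el e (1, ζ0) * y := mem_cent.mp hy
    exact ((Commute.zpow_left (show Commute (el e (1, ζ0)) y from hyz.symm) k)).eq
  · intro x hx
    obtain ⟨p, rfl, hp⟩ := h.exists_el hx
    rw [mem_cent, el_comm_iff]
    ext1
    · simp [mul_comm]
    · simpa using hp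

theorem isPGroup_cent_z (h : Hyp t T e) : IsPGroup 2 ↥(centralizer ({el e (1, ζ0)} : Set G)) := by
  rw [h.cent_z]; exact T.isPGroup'

theorem normalizer_le (h : Hyp t T e) :
    normalizer ((T : Subgroup G) : Set G) ≤ (T : Subgroup G) := by
  intro n hn
  rw [← h.cent_z, mem_cent]
  have hr : el e (1, r0) ∈ (T : Subgroup G) := by rw [h.memT]; exact dec_r0.1
  have hs : el e (1, s0) ∈ (T : Subgroup G) := by rw [h.memT]; exact dec_r0.2.1
  have hz : el e (1, ζ0) = el e (1, r0) * el e (1, s0) * (el e (1, r0))⁻¹ * (el e (1, s0))⁻¹ := by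
    rw [← el_inv, ← el_inv, ← el_mul, ← el_mul, ← el_mul]
    congr 1
    ext1
    · simp
    · simpa using dec_r0.2.2.symm
  have hnr : n * el e (1, r0) * n⁻¹ ∈ (T : Subgroup G) :=
    (Subgroup.mem_normalizer_iff.mp hn _).mp hr
  have hns : n * el e (1, s0) * n⁻¹ ∈ (T : Subgroup G) :=
    (Subgroup.mem_normalizer_iff.mp hn _).mp hs
  have hconj : n * el e (1, ζ0) * n⁻¹ =
      (n * el e (1, r0) * n⁻¹) * (n * el e (1, s0) * n⁻¹) * (n * el e (1, r0) * n⁻¹)⁻¹
        * (n * el e (1, s0) * n⁻¹)⁻¹ := by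
    rw [hz]; group
  rcases h.comm_mem hnr hns with h1 | h1
  · exfalso
    rw [← hconj] at h1
    have : el e (1, ζ0) = 1 := by
      calc el e (1, ζ0) = n⁻¹ * (n * el e (1, ζ0) * n⁻¹) * n := by group
        _ = 1 := by rw [h1]; group
    exact h.z_ne this
  · rw [← hconj] at h1
    calc n * el e (1, ζ0) = (n * el e (1, ζ0) * n⁻¹) * n := by group
      _ = el e (1, ζ0) * n := by rw [h1]

/-- Burnside: elements of `C(T)` that are conjugate are equal (as `N(T) = T`). -/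
theorem eq_of_conj_center [Finite G] (h : Hyp t T e) {x y : G}
    (hx : x ∈ centralizer ((T : Subgroup G) : Set G))
    (hy : y ∈ centralizer ((T : Subgroup G) : Set G)) (hc : IsConj x y) : x = y := by
  haveI : Fact (Nat.Prime 2) := ⟨Nat.prime_two⟩
  obtain ⟨g, hg⟩ := isConj_iff.mp hc
  have hy' : (g⁻¹)⁻¹ * x * g⁻¹ ∈ centralizer ((T : Subgroup G) : Set G) := by
    rw [inv_inv, hg]; exact hy
  obtain ⟨n, hn, hn2⟩ := Sylow.conj_eq_normalizer_conj_of_mem_centralizer T x g⁻¹ hx hy'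
  rw [inv_inv, hg] at hn2
  have hnT : n ∈ (T : Subgroup G) := h.normalizer_le hn
  have hcomm : n * x = x * n := (Subgroup.mem_centralizer_iff.mp hx n hnT)
  rw [hn2]
  calc x = n⁻¹ * (n * x) := by group
    _ = n⁻¹ * (x * n) := by rw [hcomm]
    _ = n⁻¹ * x * n := by group

theorem t_mem_centT (h : Hyp t T e) : t ∈ centralizer ((T : Subgroup G) : Set G) := by
  rw [Subgroup.mem_centralizer_iff]
  intro x hx
  exact mem_cent.mp (h.leC hx)

theorem z_mem_centT (h : Hyp t T e) : el e (1, ζ0) ∈ centralizer ((T : Subgroup G) : Set G) := by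
  rw [Subgroup.mem_centralizer_iff]
  intro x hx
  have : x ∈ centralizer ({el e (1, ζ0)} : Set G) := by rw [h.cent_z]; exact hx
  exact mem_cent.mp this

theorem tz_eq (h : Hyp t T e) : t * el e (1, ζ0) = el e (τ1, ζ0) := by
  calc t * el e (1, ζ0) = el e (τ1, 1) * el e (1, ζ0) := by rw [el_t e h.ord]
    _ = el e (τ1, ζ0) := by
      rw [← el_mul]
      congr 1

theorem not_conj_t_tz [Finite G] (h : Hyp t T e) : ¬ IsConj t (el e (τ1, ζ0)) := by
  intro hc
  have h1 : el e (τ1, ζ0) ∈ centralizer ((T : Subgroup G) : Set G) := by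
    rw [← h.tz_eq]; exact Subgroup.mul_mem _ h.t_mem_centT h.z_mem_centT
  have h2 := h.eq_of_conj_center h.t_mem_centT h1 hc
  rw [← h.tz_eq] at h2
  have : el e (1, ζ0) = 1 := by
    calc el e (1, ζ0) = t⁻¹ * (t * el e (1, ζ0)) := by group
      _ = t⁻¹ * t := by rw [← h2]
      _ = 1 := by group
  exact h.z_ne this

theorem not_conj_z_tz [Finite G] (h : Hyp t T e) : ¬ IsConj (el e (1, ζ0)) (el e (τ1, ζ0)) := by
  intro hc
  have h1 : el e (τ1, ζ0) ∈ centralizer ((T : Subgroup G) : Set G) := by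
    rw [← h.tz_eq]; exact Subgroup.mul_mem _ h.t_mem_centT h.z_mem_centT
  have h2 := h.eq_of_conj_center h.z_mem_centT h1 hc
  have h3 := el_inj e h2
  have := congrArg Prod.fst h3
  exact τ1_ne this.symm

/-- elements commuting with a conjugate of `z` have `2`-power order -/
theorem pow_two_of_comm_conj_z [Finite G] (h : Hyp t T e) {k x : G}
    (hx : x * (k * el e (1, ζ0) * k⁻¹) = (k * el e (1, ζ0) * k⁻¹) * x) :
    ∃ m : ℕ, x ^ 2 ^ m = 1 := by
  have h1 : k⁻¹ * x * k ∈ centralizer ({el e (1, ζ0)} : Set G) := by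
    rw [mem_cent]
    calc k⁻¹ * x * k * el e (1, ζ0) = k⁻¹ * (x * (k * el e (1, ζ0) * k⁻¹)) * k := by group
      _ = k⁻¹ * ((k * el e (1, ζ0) * k⁻¹) * x) * k := by rw [hx]
      _ = el e (1, ζ0) * (k⁻¹ * x * k) := by group
  obtain ⟨m, hm⟩ := h.isPGroup_cent_z ⟨_, h1⟩
  refine ⟨m, ?_⟩
  have h2 : (k⁻¹ * x * k) ^ 2 ^ m = 1 := by
    have := congrArg Subtype.val hm
    simpa using this
  have h3 : (k⁻¹ * x * k) ^ 2 ^ m = k⁻¹ * x ^ 2 ^ m * k := by
    have := conj_pow (a := k⁻¹) (b := x) (i := 2 ^ m)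
    rwa [inv_inv] at this
  rw [h3] at h2
  calc x ^ 2 ^ m = k * (k⁻¹ * x ^ 2 ^ m * k) * k⁻¹ := by group
    _ = 1 := by rw [h2]; group

theorem not_conj_t_z [Finite G] (h : Hyp t T e) : ¬ IsConj t (el e (1, ζ0)) := by
  intro hc
  obtain ⟨g, hg⟩ := isConj_iff.mp hc
  -- the element of order 3 in C(t)
  have h3 : el e (1, c3) * t = t * el e (1, c3) := el_comm_t e _
  have h4 : (g * el e (1, c3) * g⁻¹) * (1 * el e (1, ζ0) * 1⁻¹)
      = (1 * el e (1, ζ0) * 1⁻¹) * (g * el e (1, c3) * g⁻¹) := by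
    rw [one_mul, inv_one, mul_one, ← hg]
    calc g * el e (1, c3) * g⁻¹ * (g * t * g⁻¹) = g * (el e (1, c3) * t) * g⁻¹ := by group
      _ = g * (t * el e (1, c3)) * g⁻¹ := by rw [h3]
      _ = g * t * g⁻¹ * (g * el e (1, c3) * g⁻¹) := by group
  obtain ⟨m, hm⟩ := h.pow_two_of_comm_conj_z h4
  have h5 : (el e (1, c3)) ^ 2 ^ m = 1 := by
    have : (g * el e (1, c3) * g⁻¹) ^ 2 ^ m = g * (el e (1, c3)) ^ 2 ^ m * g⁻¹ := by
      rw [conj_pow]
    rw [this] at hm
    calc (el e (1, c3)) ^ 2 ^ m = g⁻¹ * (g * (el e (1, c3)) ^ 2 ^ m * g⁻¹) * g := by group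
      _ = 1 := by rw [hm]; group
  have h6 : (el e (1, c3)) ^ 3 = 1 := by
    rw [pow_succ, pow_two, ← el_mul, ← el_mul, el_eq_one_iff]
    ext1
    · simp
    · simpa using dec_c3.2.1
  have h7 : orderOf (el e (1, c3)) ∣ Nat.gcd (2 ^ m) 3 :=
    Nat.dvd_gcd (orderOf_dvd_of_pow_eq_one h5) (orderOf_dvd_of_pow_eq_one h6)
  have h8 : Nat.gcd (2 ^ m) 3 = 1 := by
    apply Nat.Coprime.pow_left
    decide
  rw [h8, Nat.dvd_one, orderOf_eq_one_iff, el_eq_one_iff] at h7
  exact dec_c3.2.2 (congrArg Prod.snd h7)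

end Hyp

end Cfsg.Agent.Lib.Helper1.Dw
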