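import Mathlib
import Cfsg.Agent.Lib.Helper1.Dw1

set_option autoImplicit false
set_option maxHeartbeats 4000000
set_option maxRecDepth 100000
set_option linter.unusedVariables false
set_option linter.unusedSectionVars false
set_option linter.style.longLine false
set_option linter.unusedSimpArgs false
set_option linter.deprecated false

/-! Fusion of involutions and Thompson transfer in the `Z₂ × S₄` problem. -/

namespace Cfsg.Agent.Lib.Helper1.Dw

open Subgroup Equiv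
open Cfsg.Agent.Lib.Helper1.Dv (mem_cent sq_of_order_two inv_of_order_two ne_one_of_order_two
  order_two_of_sq)

theorem dec_r0sq : r0 * r0 = ζ0 := by decide

variable {G : Type*} [Group G]

theorem isConj_of_conj_eq {x y : G} {g k : G} (h : g * x * g⁻¹ = k * y * k⁻¹) : IsConj x y := by
  rw [isConj_iff]
  refine ⟨k⁻¹ * g, ?_⟩
  calc k⁻¹ * g * x * (k⁻¹ * g)⁻¹ = k⁻¹ * (g * x * g⁻¹) * k := by group
    _ = k⁻¹ * (k * y * k⁻¹) * k := by rw [h]
    _ = y := by group

section dsub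

variable {t : G} (e : ↥(centralizer ({t} : Set G)) ≃* Z2 × S4)

/-- the Sylow `2`-subgroup of the `S₄` factor -/
noncomputable def Dsub : Subgroup G where
  carrier := {x | ∃ δ : S4, δ * ζ0 = ζ0 * δ ∧ x = el e (1, δ)}
  mul_mem' := by
    rintro x y ⟨δ, hδ, rfl⟩ ⟨δ', hδ', rfl⟩
    refine ⟨δ * δ', ?_, ?_⟩
    · rw [mul_assoc, hδ', ← mul_assoc, hδ, mul_assoc]
    · rw [← el_mul]; congr 1
  one_mem' := ⟨1, by simp, (el_one e).symm⟩
  inv_mem' := by
    rintro x ⟨δ, hδ, rfl⟩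
    refine ⟨δ⁻¹, ?_, ?_⟩
    · calc δ⁻¹ * ζ0 = δ⁻¹ * (ζ0 * δ) * δ⁻¹ := by group
        _ = δ⁻¹ * (δ * ζ0) * δ⁻¹ := by rw [hδ]
        _ = ζ0 * δ⁻¹ := by group
    · rw [← el_inv]; congr 1
      rw [Prod.inv_mk, inv_one]

theorem mem_Dsub {x : G} : x ∈ Dsub e ↔ ∃ δ : S4, δ * ζ0 = ζ0 * δ ∧ x = el e (1, δ) := Iff.rfl

theorem el_mem_Dsub (p : Z2 × S4) : el e p ∈ Dsub e ↔ p.1 = 1 ∧ p.2 * ζ0 = ζ0 * p.2 := by
  rw [mem_Dsub]
  constructor
  · rintro ⟨δ, hδ, hp⟩
    have := el_inj e hp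
    rw [this]
    exact ⟨rfl, hδ⟩
  · rintro ⟨h1, h2⟩
    refine ⟨p.2, h2, ?_⟩
    congr 1
    ext1
    · exact h1
    · rfl

end dsub

namespace Hyp

variable {t : G} {T : Sylow 2 G} {e : ↥(centralizer ({t} : Set G)) ≃* Z2 × S4}

theorem Dsub_le (h : Hyp t T e) : Dsub e ≤ (T : Subgroup G) := by
  rintro x ⟨δ, hδ, rfl⟩
  rw [h.memT]; exact hδ

theorem t_mem (h : Hyp t T e) : t ∈ (T : Subgroup G) := by
  have := (h.memT (τ1, 1)).mpr (by simp)
  rwa [el_t e h.ord] at this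

theorem relIndex_Dsub (h : Hyp t T e) : (Dsub e).relIndex (T : Subgroup G) = 2 := by
  show ((Dsub e).subgroupOf (T : Subgroup G)).index = 2
  rw [Subgroup.index_eq_two_iff]
  refine ⟨⟨t, h.t_mem⟩, ?_⟩
  rintro ⟨b, hb⟩
  obtain ⟨p, rfl, hp⟩ := h.exists_el hb
  rw [Subgroup.mem_subgroupOf, Subgroup.mem_subgroupOf]
  simp only [Subgroup.coe_mul]
  have hbt : el e p * t = el e (p.1 * τ1, p.2) := by
    calc el e p * t = el e p * el e (τ1, 1) := by rw [el_t e h.ord]
      _ = el e (p.1 * τ1, p.2) := by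
        rw [← el_mul]; congr 1
  rw [hbt, el_mem_Dsub, el_mem_Dsub]
  rcases z2_cases p.1 with h1 | h1
  · right
    refine ⟨⟨h1, hp⟩, ?_⟩
    rintro ⟨h2, -⟩
    simp only at h2
    rw [h1, one_mul] at h2
    exact τ1_ne h2
  · left
    refine ⟨⟨?_, hp⟩, ?_⟩
    · simp only
      rw [h1]; exact τ1_sq
    · rintro ⟨h2, -⟩
      rw [h1] at h2
      exact τ1_ne h2

variable [Finite G]

theorem conj_of_vtype (h : Hyp t T e) {σ : S4} (hσ : ∃ π : S4, σ = π * ζ0 * π⁻¹) (a : Z2) :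
    ∃ k : G, el e (a, σ) = k * el e (a, ζ0) * k⁻¹ := by
  obtain ⟨π, rfl⟩ := hσ
  exact ⟨el e (1, π), (el_conj e π a ζ0).symm⟩

theorem not_conj_t_vtype (h : Hyp t T e) {σ : S4} (hσ : ∃ π : S4, σ = π * ζ0 * π⁻¹) (a : Z2) :
    ¬ IsConj t (el e (a, σ)) := by
  intro hc
  obtain ⟨k, hk⟩ := h.conj_of_vtype hσ a
  obtain ⟨g, hg⟩ := isConj_iff.mp hc
  have h1 : IsConj t (el e (a, ζ0)) := isConj_of_conj_eq (hg.trans hk)
  rcases z2_cases a with ha | ha
  · rw [ha] at h1; exact h.not_conj_t_z h1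
  · rw [ha] at h1; exact h.not_conj_t_tz h1

theorem not_conj_tz_vtype (h : Hyp t T e) {σ : S4} (hσ : ∃ π : S4, σ = π * ζ0 * π⁻¹) :
    ¬ IsConj (el e (τ1, ζ0)) (el e (1, σ)) := by
  intro hc
  obtain ⟨k, hk⟩ := h.conj_of_vtype hσ 1
  obtain ⟨g, hg⟩ := isConj_iff.mp hc
  have h1 : IsConj (el e (τ1, ζ0)) (el e (1, ζ0)) := isConj_of_conj_eq (hg.trans hk)
  exact h.not_conj_z_tz h1.symm

/-- an involution of `C(t)` conjugate to `t` and different from `t` has a transposition as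
`S₄`-component -/
theorem swap_of_conj (h : Hyp t T e) {p : Z2 × S4} (hc : IsConj t (el e p)) (hne : el e p ≠ t) :
    ∃ i j : Fin 4, i ≠ j ∧ p.2 = swap i j := by
  obtain ⟨g, hg⟩ := isConj_iff.mp hc
  have hsq : el e p * el e p = 1 := by
    rw [← hg]
    calc g * t * g⁻¹ * (g * t * g⁻¹) = g * (t * t) * g⁻¹ := by group
      _ = 1 := by rw [sq_of_order_two h.ord]; group
  have hp1 : el e p ≠ 1 := by
    intro h1
    rw [h1] at hg
    have : t = 1 := by
      calc t = g⁻¹ * (g * t * g⁻¹) * g := by group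
        _ = 1 := by rw [hg]; group
    exact ne_one_of_order_two h.ord this
  have hsq' : p * p = 1 := by
    rw [← el_mul, el_eq_one_iff] at hsq; exact hsq
  have h2 : p.2 * p.2 = 1 := by
    have := congrArg Prod.snd hsq'
    simpa using this
  have h3 : p.2 ≠ 1 := by
    intro h3
    rcases z2_cases p.1 with ha | ha
    · apply hp1
      rw [el_eq_one_iff]
      ext1
      · exact ha
      · exact h3
    · apply hne
      have hp : p = (τ1, 1) := Prod.ext ha h3
      rw [hp]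
      exact el_t e h.ord
  rcases dec_invol p.2 h2 h3 with hv | hs
  · exfalso
    have : el e p = el e (p.1, p.2) := rfl
    rw [this] at hc
    exact h.not_conj_t_vtype hv p.1 hc
  · exact hs

theorem conj_swaps (h : Hyp t T e) {x : G} {a : Z2} {i j i' j' : Fin 4} (hij : i ≠ j) (hij' : i' ≠ j')
    (hc : IsConj x (el e (a, swap i j))) : IsConj x (el e (a, swap i' j')) := by
  obtain ⟨π, hπ⟩ := isConj_iff.mp (Equiv.Perm.isConj_swap hij hij')
  refine hc.trans ?_
  rw [isConj_iff]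
  refine ⟨el e (1, π), ?_⟩
  rw [el_conj, hπ]

/-- the second normalisation: `t` is conjugate to `t·(transposition)` -/
structure Tw (h : Hyp t T e) : Prop where
  conj : IsConj t (el e (τ1, swap 0 1))

theorem tz_ord (h : Hyp t T e) : orderOf (el e (τ1, ζ0)) = 2 := by
  apply order_two_of_sq
  · rw [← el_mul, el_eq_one_iff]
    ext1
    · simp [τ1_sq]
    · simpa using dec_ζ0.1
  · rw [Ne, el_eq_one_iff]
    intro h1
    exact dec_ζ0.2 (congrArg Prod.snd h1)

/-- an involution of `Dsub` is of `V`-type or of transposition type -/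
theorem invol_Dsub (h : Hyp t T e) {x u : G} (hu : orderOf u = 2) (hc : IsConj u x)
    (hx : x ∈ Dsub e) :
    (∃ σ : S4, (∃ π : S4, σ = π * ζ0 * π⁻¹) ∧ x = el e (1, σ)) ∨
    (∃ i j : Fin 4, i ≠ j ∧ x = el e (1, swap i j)) := by
  obtain ⟨δ, hδ, rfl⟩ := hx
  obtain ⟨g, hg⟩ := isConj_iff.mp hc
  have hsq : el e (1, δ) * el e (1, δ) = 1 := by
    rw [← hg]
    calc g * u * g⁻¹ * (g * u * g⁻¹) = g * (u * u) * g⁻¹ := by group
      _ = 1 := by rw [sq_of_order_two hu]; group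
  have hp1 : el e (1, δ) ≠ 1 := by
    intro h1
    rw [h1] at hg
    have : u = 1 := by
      calc u = g⁻¹ * (g * u * g⁻¹) * g := by group
        _ = 1 := by rw [hg]; group
    exact ne_one_of_order_two hu this
  have h2 : δ * δ = 1 := by
    rw [← el_mul, el_eq_one_iff] at hsq
    have := congrArg Prod.snd hsq
    simpa using this
  have h3 : δ ≠ 1 := by
    intro h3
    apply hp1
    rw [h3]; exact el_one e
  rcases dec_invol δ h2 h3 with hv | ⟨i, j, hij, hs⟩
  · left; exact ⟨δ, hv, rfl⟩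
  · right; exact ⟨i, j, hij, by rw [hs]⟩

/-- not both `t·(transposition)` and the transposition are conjugate to `t` -/
theorem not_conj_swap (h : Hyp t T e) (hw : Tw h) {i j : Fin 4} (hij : i ≠ j) :
    ¬ IsConj t (el e (1, swap i j)) := by
  intro hc
  -- Thompson transfer with `u = tz`
  have hno : ∀ g : G, g * el e (τ1, ζ0) * g⁻¹ ∉ Dsub e := by
    intro g hg
    have hcc : IsConj (el e (τ1, ζ0)) (g * el e (τ1, ζ0) * g⁻¹) := isConj_iff.mpr ⟨g, rfl⟩
    rcases h.invol_Dsub h.tz_ord hcc hg with ⟨σ, hv, hx⟩ | ⟨i', j', hij', hx⟩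
    · rw [hx] at hcc
      exact h.not_conj_tz_vtype hv hcc
    · rw [hx] at hcc
      have h1 : IsConj t (el e (1, swap i' j')) := h.conj_swaps hij hij' hc
      exact h.not_conj_t_tz (h1.trans hcc.symm)
  obtain ⟨M, hMn, hMi, hM⟩ := Cfsg.Agent.Lib.Helper1.thompson_transfer T (Dsub e) h.Dsub_le
    h.relIndex_Dsub (el e (τ1, ζ0)) h.tz_ord hno
  haveI := hMn
  -- `z ∈ M`
  have hz : el e (1, ζ0) ∈ M := by
    have := Subgroup.sq_mem_of_index_two hMi (el e (1, r0))
    rw [pow_two, ← el_mul] at this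
    convert this using 2
    ext1
    · simp
    · simpa using dec_r0sq.symm
  have ht : t ∉ M := by
    intro ht
    apply hM
    rw [← h.tz_eq]
    exact M.mul_mem ht hz
  have hconj : ∀ x : G, IsConj t x → x ∉ M := by
    intro x hx hxM
    obtain ⟨g, rfl⟩ := isConj_iff.mp hx
    apply ht
    have := hMn.conj_mem _ hxM g⁻¹
    convert this using 1
    group
  have h1 : el e (1, swap i j) ∉ M := hconj _ hc
  have h2 : el e (τ1, swap i j) ∉ M := hconj _ (h.conj_swaps (by decide) hij hw.conj)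
  have h3 : el e (1, swap i j) * el e (τ1, swap i j) ∈ M := by
    rw [Subgroup.mul_mem_iff_of_index_two hMi]
    exact ⟨fun h' => absurd h' h1, fun h' => absurd h' h2⟩
  apply ht
  rw [← el_t e h.ord]
  convert h3 using 1
  rw [← el_mul]
  congr 1
  ext1
  · simp
  · simp

/-- the index-two subgroup -/
theorem exists_index_two (h : Hyp t T e) (hw : Tw h) :
    ∃ M : Subgroup G, M.Normal ∧ M.index = 2 ∧ t ∉ M := by
  have hno : ∀ g : G, g * t * g⁻¹ ∉ Dsub e := by
    intro g hg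
    have hcc : IsConj t (g * t * g⁻¹) := isConj_iff.mpr ⟨g, rfl⟩
    rcases h.invol_Dsub h.ord hcc hg with ⟨σ, hv, hx⟩ | ⟨i', j', hij', hx⟩
    · rw [hx] at hcc
      exact h.not_conj_t_vtype hv 1 hcc
    · rw [hx] at hcc
      exact h.not_conj_swap hw hij' hcc
  exact Cfsg.Agent.Lib.Helper1.thompson_transfer T (Dsub e) h.Dsub_le h.relIndex_Dsub t h.ord hno

end Hyp

end Cfsg.Agent.Lib.Helper1.Dw
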