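import Mathlib

set_option autoImplicit false
set_option maxHeartbeats 4000000
set_option maxRecDepth 100000
set_option linter.unusedVariables false
set_option linter.unusedSectionVars false
set_option linter.style.longLine false
set_option linter.unusedSimpArgs false
set_option linter.deprecated false

/-! Recognition of `S₆`: a group with a normal subgroup `M ≅ A₆` of index `2`, trivial `C_G(M)`,
and an element outside `M` centralising an element of order `3` of `M`. -/

namespace Cfsg.Agent.Lib.Helper1.Dw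

open Subgroup Equiv Equiv.Perm

section perm6

abbrev P6 : Type := Equiv.Perm (Fin 6)
abbrev A6 : Type := ↥(alternatingGroup (Fin 6))

def c1' : P6 := swap 0 1 * swap 0 2
def d1' : P6 := swap 3 4 * swap 3 5
def c2' : P6 := c1' * d1'
def ρ1 : P6 := swap 3 4
def ρ2 : P6 := swap 0 3 * swap 1 4 * swap 2 5

theorem ct_c1 : c1'.cycleType = {3} :=
  (isThreeCycle_swap_mul_swap_same (by decide) (by decide) (by decide) : IsThreeCycle c1')

theorem ct_d1 : d1'.cycleType = {3} :=
  (isThreeCycle_swap_mul_swap_same (by decide) (by decide) (by decide) : IsThreeCycle d1')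

theorem disj_c1_d1 : Equiv.Perm.Disjoint c1' d1' := by
  intro x
  fin_cases x <;> simp [c1', d1', swap_apply_def]

theorem ct_c2 : c2'.cycleType = {3, 3} := by
  rw [c2', Equiv.Perm.Disjoint.cycleType_mul disj_c1_d1, ct_c1, ct_d1]; rfl

theorem comm_ρ1 : ρ1 * c1' = c1' * ρ1 := by
  unfold ρ1 c1'; decide

theorem comm_ρ2 : ρ2 * c2' = c2' * ρ2 := by
  unfold ρ2 c2' c1' d1'; decide

theorem sign_ρ1 : sign ρ1 = -1 := by
  unfold ρ1; rw [sign_swap (by decide)]

theorem sign_ρ2 : sign ρ2 = -1 := by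
  unfold ρ2
  rw [Perm.sign_mul, Perm.sign_mul, sign_swap (by decide), sign_swap (by decide),
    sign_swap (by decide)]
  decide

theorem sign_c1 : sign c1' = 1 := by
  unfold c1'
  rw [Perm.sign_mul, sign_swap (by decide), sign_swap (by decide)]; decide

theorem c1_fix5 : c1' 5 = 5 := by
  unfold c1'; decide

theorem card_fin6 : Fintype.card (Fin 6) = 6 := by simp

/-- elements of order `3` of `S₆` -/
theorem ct_of_order3 {g : P6} (hg : orderOf g = 3) :
    (g.support.card = 3 ∧ g.cycleType = {3}) ∨ (g.support.card = 6 ∧ g.cycleType = {3, 3}) := by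
  have hp : (orderOf g).Prime := by rw [hg]; exact Nat.prime_three
  obtain ⟨n, hn⟩ := cycleType_prime_order hp
  rw [hg] at hn
  have hsum : g.cycleType.sum = g.support.card := sum_cycleType g
  rw [hn, Multiset.sum_replicate, smul_eq_mul] at hsum
  have hle : g.support.card ≤ 6 := by
    have := Finset.card_le_univ g.support
    rwa [card_fin6] at this
  have hn01 : n = 0 ∨ n = 1 := by omega
  rcases hn01 with h0 | h1
  · left
    refine ⟨by omega, ?_⟩
    rw [hn, h0]; rfl
  · right
    refine ⟨by omega, ?_⟩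
    rw [hn, h1]; rfl

theorem conj_even_of {c ρ g : P6} (hρ : ρ * c = c * ρ) (hsρ : sign ρ = -1)
    (hct : c.cycleType = g.cycleType) : ∃ π : P6, sign π = 1 ∧ π * c * π⁻¹ = g := by
  obtain ⟨π0, hπ0⟩ := isConj_iff.mp (isConj_iff_cycleType_eq.mpr hct)
  rcases Int.units_eq_one_or (sign π0) with h1 | h1
  · exact ⟨π0, h1, hπ0⟩
  · refine ⟨π0 * ρ, ?_, ?_⟩
    · rw [Perm.sign_mul, h1, hsρ]; decide
    · calc π0 * ρ * c * (π0 * ρ)⁻¹ = π0 * (ρ * c) * ρ⁻¹ * π0⁻¹ := by group
        _ = π0 * (c * ρ) * ρ⁻¹ * π0⁻¹ := by rw [hρ]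
        _ = π0 * c * π0⁻¹ := by group
        _ = g := hπ0

/-- two elements of order `3` of `A₆` with the same number of moved points are conjugate in `A₆` -/
theorem conj_alt {g h : A6} (hg : orderOf g = 3) (hh : orderOf h = 3)
    (hs : (g : P6).support.card = (h : P6).support.card) : ∃ π : A6, π * g * π⁻¹ = h := by
  have hg' : orderOf (g : P6) = 3 := by rw [Subgroup.orderOf_coe]; exact hg
  have hh' : orderOf (h : P6) = 3 := by rw [Subgroup.orderOf_coe]; exact hh
  have key : ∃ (c ρ : P6), ρ * c = c * ρ ∧ sign ρ = -1 ∧ c.cycleType = (g : P6).cycleType ∧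
      c.cycleType = (h : P6).cycleType := by
    rcases ct_of_order3 hg' with ⟨hg3, hgc⟩ | ⟨hg6, hgc⟩
    · rcases ct_of_order3 hh' with ⟨hh3, hhc⟩ | ⟨hh6, hhc⟩
      · exact ⟨c1', ρ1, comm_ρ1, sign_ρ1, by rw [ct_c1, hgc], by rw [ct_c1, hhc]⟩
      · omega
    · rcases ct_of_order3 hh' with ⟨hh3, hhc⟩ | ⟨hh6, hhc⟩
      · omega
      · exact ⟨c2', ρ2, comm_ρ2, sign_ρ2, by rw [ct_c2, hgc], by rw [ct_c2, hhc]⟩
  obtain ⟨c, ρ, hρ, hsρ, hcg, hch⟩ := key
  obtain ⟨πg, hπg1, hπg⟩ := conj_even_of hρ hsρ hcg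
  obtain ⟨πh, hπh1, hπh⟩ := conj_even_of hρ hsρ hch
  have hmem : πh * πg⁻¹ ∈ alternatingGroup (Fin 6) := by
    rw [mem_alternatingGroup, Perm.sign_mul, sign_inv, hπg1, hπh1]; decide
  refine ⟨⟨πh * πg⁻¹, hmem⟩, ?_⟩
  apply Subtype.ext
  show πh * πg⁻¹ * (g : P6) * (πh * πg⁻¹)⁻¹ = (h : P6)
  rw [← hπg, ← hπh]
  group

theorem card_A6 : Nat.card A6 = 360 := by
  show Nat.card ↥(alternatingGroup (Fin 6)) = 360
  have h1 := (alternatingGroup (Fin 6)).index_mul_card
  rw [alternatingGroup.index_eq_two, Nat.card_perm, Nat.card_fin] at h1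
  have h6 : (6 : ℕ).factorial = 720 := by decide
  rw [h6] at h1
  omega

theorem smul_def_A6 (σ : A6) (i : Fin 6) : σ • i = (σ : P6) i := rfl

/-- the stabiliser of the point `5` in `A₆` -/
noncomputable def Stab5 : Subgroup A6 := MulAction.stabilizer A6 (5 : Fin 6)

theorem mem_Stab5 (σ : A6) : σ ∈ Stab5 ↔ (σ : P6) 5 = 5 := by
  unfold Stab5
  rw [MulAction.mem_stabilizer_iff]; rfl

theorem card_stab_A6 (j : Fin 6) : Nat.card (MulAction.stabilizer A6 j) = 60 := by
  haveI : MulAction.IsPretransitive A6 (Fin 6) :=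
    alternatingGroup.isPretransitive_of_three_le_card (Fin 6) (by rw [Nat.card_fin]; norm_num)
  have h1 := MulAction.index_stabilizer A6 j
  rw [MulAction.orbit_eq_univ, Set.ncard_univ, Nat.card_fin] at h1
  have h2 := (MulAction.stabilizer A6 j).index_mul_card
  rw [h1, card_A6] at h2
  omega

theorem card_Stab5 : Nat.card Stab5 = 60 := card_stab_A6 5

theorem exists_moving : ∀ j : Fin 6, j ≠ 5 →
    ∃ a b : Fin 6, a ≠ 5 ∧ b ≠ 5 ∧ a ≠ j ∧ b ≠ j ∧ a ≠ b := by decide

/-- `Stab5` is self-normalising in `A₆` -/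
theorem fix5_of_normalizes {π : A6} (hπ : ∀ σ : A6, σ ∈ Stab5 ↔ π * σ * π⁻¹ ∈ Stab5) :
    (π : P6) 5 = 5 := by
  by_contra hne
  set j : Fin 6 := (π : P6)⁻¹ 5 with hj
  have hj5 : j ≠ 5 := by
    intro h5
    apply hne
    have : (π : P6) j = 5 := by rw [hj]; simp
    rw [h5] at this; exact this
  obtain ⟨a, b, ha5, hb5, haj, hbj, hab⟩ := exists_moving j hj5
  have hsig : swap j a * swap j b ∈ alternatingGroup (Fin 6) := by
    rw [mem_alternatingGroup, Perm.sign_mul, sign_swap (Ne.symm haj), sign_swap (Ne.symm hbj)]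
    decide
  set σ : A6 := ⟨swap j a * swap j b, hsig⟩ with hσ
  have hσ5 : σ ∈ Stab5 := by
    rw [mem_Stab5]
    show (swap j a * swap j b) 5 = 5
    rw [Perm.mul_apply, swap_apply_of_ne_of_ne (Ne.symm hj5) (Ne.symm hb5),
      swap_apply_of_ne_of_ne (Ne.symm hj5) (Ne.symm ha5)]
  have h1 := (hπ σ).mp hσ5
  rw [mem_Stab5] at h1
  have h2 : (σ : P6) j = j := by
    have h3 : ((π * σ * π⁻¹ : A6) : P6) 5 = (π : P6) ((σ : P6) j) := by
      simp [hj]
    rw [h3] at h1
    have h4 : (π : P6) j = 5 := by rw [hj]; simp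
    rw [← h4] at h1
    exact (π : P6).injective h1
  have h5 : (σ : P6) j = b := by
    show (swap j a * swap j b) j = b
    rw [Perm.mul_apply, swap_apply_left, swap_apply_of_ne_of_ne hbj (Ne.symm hab)]
  rw [h5] at h2
  exact hbj h2

/-- a subgroup of order `60` of `A₆` containing a `3`-cycle fixes a point -/
theorem fixes_point (H : Subgroup A6) (hcard : Nat.card H = 60) (c : A6) (hc : c ∈ H)
    (hc3 : orderOf c = 3) (hcs : (c : P6).support.card = 3) :
    ∃ j : Fin 6, ∀ h ∈ H, (h : P6) j = j := by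
  haveI : Fact (Nat.Prime 5) := ⟨by norm_num⟩
  obtain ⟨f, hf⟩ := exists_prime_orderOf_dvd_card' (G := ↥H) 5 (by rw [hcard]; norm_num)
  set fp : P6 := ((f : A6) : P6) with hfp
  have hfo : orderOf fp = 5 := by
    rw [hfp, Subgroup.orderOf_coe, Subgroup.orderOf_coe]; exact hf
  have hp : (orderOf fp).Prime := by rw [hfo]; norm_num
  obtain ⟨n, hn⟩ := cycleType_prime_order hp
  rw [hfo] at hn
  have hsum : fp.cycleType.sum = fp.support.card := sum_cycleType fp
  rw [hn, Multiset.sum_replicate, smul_eq_mul] at hsum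
  have hle : fp.support.card ≤ 6 := by
    have := Finset.card_le_univ fp.support
    rwa [card_fin6] at this
  have hn0 : n = 0 := by omega
  have hs5 : fp.support.card = 5 := by omega
  have hcyc : fp.IsCycle := by
    rw [← card_cycleType_eq_one, hn, hn0]; rfl
  -- the fixed point of `fp`
  have hcompl : fp.supportᶜ.card = 1 := by
    rw [Finset.card_compl, card_fin6, hs5]
  obtain ⟨j0, hj0⟩ := Finset.card_eq_one.mp hcompl
  have hmem : ∀ a : Fin 6, a ≠ j0 → fp a ≠ a := by
    intro a ha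
    rw [← Equiv.Perm.mem_support]
    by_contra hns
    have : a ∈ fp.supportᶜ := Finset.mem_compl.mpr hns
    rw [hj0, Finset.mem_singleton] at this
    exact ha this
  refine ⟨j0, ?_⟩
  by_contra hfix
  push Not at hfix
  obtain ⟨h0, hh0, hh0j⟩ := hfix
  -- transitivity
  have htrans : ∀ a : Fin 6, ∃ h ∈ H, (h : P6) j0 = a := by
    intro a
    by_cases ha : a = j0
    · exact ⟨1, H.one_mem, by rw [ha]; rfl⟩
    · have hsc : fp.SameCycle ((h0 : P6) j0) a := hcyc.sameCycle (hmem _ hh0j) (hmem a ha)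
      obtain ⟨i, hi⟩ := hsc
      refine ⟨(f : A6) ^ i * h0, H.mul_mem (H.zpow_mem f.2 i) hh0, ?_⟩
      show (((f : A6) ^ i * h0 : A6) : P6) j0 = a
      rw [Subgroup.coe_mul, Subgroup.coe_zpow, Perm.mul_apply]
      exact hi
  -- a point fixed by `c`
  have hcle : (c : P6).support.card < 6 := by omega
  obtain ⟨i0, hi0⟩ : ∃ i0 : Fin 6, (c : P6) i0 = i0 := by
    by_contra hno
    push Not at hno
    have : (c : P6).support = Finset.univ := by
      ext x; simp [hno x]
    rw [this, Finset.card_univ, card_fin6] at hcle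
    exact absurd hcle (by norm_num)
  -- the action of `H`
  have horb : MulAction.orbit ↥H i0 = Set.univ := by
    ext a
    simp only [Set.mem_univ, iff_true]
    obtain ⟨ha, hha, hha'⟩ := htrans a
    obtain ⟨hi, hhi, hhi'⟩ := htrans i0
    refine ⟨⟨ha * hi⁻¹, H.mul_mem hha (H.inv_mem hhi)⟩, ?_⟩
    show ((ha * hi⁻¹ : A6) : P6) i0 = a
    rw [Subgroup.coe_mul, Subgroup.coe_inv, Perm.mul_apply]
    have : (hi : P6)⁻¹ i0 = j0 := by
      rw [← hhi']; simp
    rw [this, hha']
  have h1 := MulAction.index_stabilizer ↥H i0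
  rw [horb, Set.ncard_univ, Nat.card_fin] at h1
  have h2 := (MulAction.stabilizer ↥H i0).index_mul_card
  rw [h1, hcard] at h2
  have h10 : Nat.card (MulAction.stabilizer ↥H i0) = 10 := by omega
  have hcst : (⟨c, hc⟩ : ↥H) ∈ MulAction.stabilizer ↥H i0 := by
    rw [MulAction.mem_stabilizer_iff]
    exact hi0
  have h3 : orderOf (⟨⟨c, hc⟩, hcst⟩ : ↥(MulAction.stabilizer ↥H i0)) ∣ 10 := by
    rw [← h10]; exact orderOf_dvd_natCard _
  rw [Subgroup.orderOf_mk, Subgroup.orderOf_mk, hc3] at h3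
  exact absurd h3 (by norm_num)

end perm6

section recog

variable {G : Type*} [Group G] [Finite G]

theorem s6_recognition (M : Subgroup G) [hMn : M.Normal] (hM : M.index = 2)
    (φ : ↥M ≃* A6) (t : G) (ht : t ∉ M) (y : G) (hyM : y ∈ M) (hy : orderOf y = 3)
    (hty : t * y = y * t)
    (hcent : ∀ g : G, (∀ m ∈ M, g * m = m * g) → g = 1) :
    Nonempty (G ≃* Equiv.Perm (Fin 6)) := by
  classical
  -- basic cardinalities
  have hcardM : Nat.card M = 360 := by rw [Nat.card_congr φ.toEquiv]; exact card_A6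
  have hcardG : Nat.card G = 720 := by
    have := M.index_mul_card
    rw [hM, hcardM] at this
    omega
  haveI : IsSimpleGroup A6 := alternatingGroup.isSimpleGroup (by simp)
  haveI : IsSimpleGroup ↥M := φ.isSimpleGroup
  -- conjugation by `t` on `M`
  let tc : ↥M ≃* ↥M := MulAut.conjNormal t
  have htc : ∀ m : ↥M, ((tc m : ↥M) : G) = t * m * t⁻¹ := fun m => MulAut.conjNormal_apply t m
  -- support size
  let sc : ↥M → ℕ := fun m => ((φ m : A6) : P6).support.card
  have hsc_conj : ∀ a m : ↥M, sc (a * m * a⁻¹) = sc m := by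
    intro a m
    show ((φ (a * m * a⁻¹) : A6) : P6).support.card = ((φ m : A6) : P6).support.card
    rw [map_mul, map_mul, map_inv]
    exact card_support_conj
  -- the `3`-cycle
  let c1A : A6 := ⟨c1', mem_alternatingGroup.mpr sign_c1⟩
  have hc1o : orderOf c1A = 3 := by
    rw [← Subgroup.orderOf_coe]
    show orderOf c1' = 3
    have : c1'.IsThreeCycle := ct_c1
    exact this.orderOf
  have hc1s : ((c1A : A6) : P6).support.card = 3 := by
    show c1'.support.card = 3
    have : c1'.IsThreeCycle := ct_c1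
    exact this.card_support
  let x0 : ↥M := φ.symm c1A
  have hx0 : φ x0 = c1A := φ.apply_symm_apply c1A
  have hx0o : orderOf x0 = 3 := by
    rw [← hc1o, ← hx0]; exact (MulEquiv.orderOf_eq φ x0).symm
  have hscx0 : sc x0 = 3 := by
    show ((φ x0 : A6) : P6).support.card = 3
    rw [hx0]; exact hc1s
  let yM : ↥M := ⟨y, hyM⟩
  have hyMo : orderOf yM = 3 := by rw [Subgroup.orderOf_mk]; exact hy
  have htcy : tc yM = yM := by
    apply Subtype.ext
    rw [htc]
    show t * y * t⁻¹ = y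
    rw [hty]; group
  have hord : ∀ m : ↥M, orderOf (φ m) = orderOf m := fun m => MulEquiv.orderOf_eq φ m
  have hcases : ∀ m : ↥M, orderOf m = 3 → sc m = 3 ∨ sc m = 6 := by
    intro m hm
    have h1 : orderOf ((φ m : A6) : P6) = 3 := by
      rw [Subgroup.orderOf_coe, hord, hm]
    rcases ct_of_order3 h1 with ⟨h3, -⟩ | ⟨h6, -⟩
    · left; exact h3
    · right; exact h6
  have hconjM : ∀ m m' : ↥M, orderOf m = 3 → orderOf m' = 3 → sc m = sc m' →
      ∃ a : ↥M, a * m * a⁻¹ = m' := by
    intro m m' hm hm' hs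
    obtain ⟨π, hπ⟩ := conj_alt (g := φ m) (h := φ m') (by rw [hord, hm]) (by rw [hord, hm']) hs
    refine ⟨φ.symm π, ?_⟩
    apply φ.injective
    rw [map_mul, map_mul, map_inv, φ.apply_symm_apply]
    exact hπ
  have htco : orderOf (tc x0) = 3 := by
    rw [MulEquiv.orderOf_eq tc x0]; exact hx0o
  -- the key claim
  have hkey : sc (tc x0) = 3 := by
    rcases hcases yM hyMo with hy3 | hy6
    · obtain ⟨a, ha⟩ := hconjM yM x0 hyMo hx0o (by rw [hy3, hscx0])
      have : tc x0 = tc a * yM * (tc a)⁻¹ := by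
        rw [← ha, map_mul, map_mul, map_inv, htcy]
      rw [this, hsc_conj, hy3]
    · rcases hcases (tc x0) htco with h3 | h6
      · exact h3
      · exfalso
        obtain ⟨a, ha⟩ := hconjM yM (tc x0) hyMo htco (by rw [hy6, h6])
        have h1 : x0 = tc.symm a * yM * (tc.symm a)⁻¹ := by
          apply tc.injective
          rw [map_mul, map_mul, map_inv, tc.apply_symm_apply, htcy]
          exact ha.symm
        have h2 : sc x0 = sc yM := by rw [h1, hsc_conj]
        rw [hscx0, hy6] at h2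
        exact absurd h2 (by norm_num)
  -- the subgroup `AM` of `M`
  let AM : Subgroup ↥M := Stab5.comap φ.toMonoidHom
  have hAM : ∀ m : ↥M, m ∈ AM ↔ ((φ m : A6) : P6) 5 = 5 := by
    intro m
    show φ m ∈ Stab5 ↔ _
    exact mem_Stab5 _
  have hx0A : x0 ∈ AM := by
    rw [hAM, hx0]; exact c1_fix5
  have hcardAM : Nat.card AM = 60 := by
    have : AM = Stab5.map φ.symm.toMonoidHom := by
      ext m
      rw [Subgroup.mem_map]
      constructor
      · intro hm
        exact ⟨φ m, hm, φ.symm_apply_apply m⟩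
      · rintro ⟨σ, hσ, rfl⟩
        show φ (φ.symm σ) ∈ Stab5
        rw [φ.apply_symm_apply]; exact hσ
    rw [this, Subgroup.card_map_of_injective φ.symm.injective]
    exact card_Stab5
  -- the image of `t AM t⁻¹`
  let ψ : ↥M ≃* A6 := tc.trans φ
  let H : Subgroup A6 := AM.map ψ.toMonoidHom
  have hcardH : Nat.card H = 60 := by
    rw [Subgroup.card_map_of_injective ψ.injective]; exact hcardAM
  have hcH : ψ x0 ∈ H := Subgroup.mem_map_of_mem _ hx0A
  have hψx0 : ψ x0 = φ (tc x0) := rfl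
  obtain ⟨j, hj⟩ := fixes_point H hcardH (ψ x0) hcH (by rw [hψx0, hord]; exact htco)
    (by rw [hψx0]; exact hkey)
  have hHle : H ≤ MulAction.stabilizer A6 j := by
    intro σ hσ
    rw [MulAction.mem_stabilizer_iff]
    exact hj σ hσ
  have hHeq : H = MulAction.stabilizer A6 j :=
    Subgroup.eq_of_le_of_card_ge hHle (by rw [hcardH, card_stab_A6])
  haveI : MulAction.IsPretransitive A6 (Fin 6) :=
    alternatingGroup.isPretransitive_of_three_le_card (Fin 6) (by rw [Nat.card_fin]; norm_num)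
  obtain ⟨π, hπ⟩ := MulAction.exists_smul_eq A6 (5 : Fin 6) j
  have hπ' : (π : P6) 5 = j := hπ
  -- membership in `H`
  have hHmem : ∀ σ : A6, σ ∈ H ↔ ((π⁻¹ * σ * π : A6) : P6) 5 = 5 := by
    intro σ
    rw [hHeq, MulAction.mem_stabilizer_iff]
    show (σ : P6) j = j ↔ _
    rw [← hπ']
    simp only [Subgroup.coe_mul, Subgroup.coe_inv, Perm.mul_apply]
    constructor
    · intro h1; rw [h1]; simp
    · intro h1
      have := congrArg (π : P6) h1
      simpa using this
  let m0 : ↥M := φ.symm π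
  have hm0 : φ m0 = π := φ.apply_symm_apply π
  -- the element `n = m0⁻¹ t`
  let n : G := (m0 : G)⁻¹ * t
  have hnM : n ∉ M := by
    intro hn
    apply ht
    have : t = (m0 : G) * n := by simp [n]
    rw [this]
    exact M.mul_mem m0.2 hn
  -- the subgroup `AG` of `G`
  let AG : Subgroup G := AM.map M.subtype
  have hAG : ∀ x : G, x ∈ AG ↔ ∃ hx : x ∈ M, ((φ ⟨x, hx⟩ : A6) : P6) 5 = 5 := by
    intro x
    constructor
    · rintro ⟨m, hm, rfl⟩
      exact ⟨m.2, (hAM m).mp hm⟩
    · rintro ⟨hx, h5⟩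
      exact ⟨⟨x, hx⟩, (hAM _).mpr h5, rfl⟩
  have hAGle : AG ≤ M := by
    rintro x ⟨m, hm, rfl⟩
    exact m.2
  have hcardAG : Nat.card AG = 60 := by
    rw [Subgroup.card_map_of_injective M.subtype_injective]; exact hcardAM
  -- `n` normalises `AG`
  have hnorm_M : ∀ m : ↥M, m ∈ AM ↔ (m0⁻¹ * tc m * m0) ∈ AM := by
    intro m
    have h1 : m ∈ AM ↔ ψ m ∈ H := by
      constructor
      · intro hm; exact Subgroup.mem_map_of_mem _ hm
      · rintro ⟨m', hm', hmm'⟩
        have := ψ.injective hmm'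
        rw [← this]; exact hm'
    rw [h1, hHmem, hAM]
    have h2 : φ (m0⁻¹ * tc m * m0) = π⁻¹ * ψ m * π := by
      rw [map_mul, map_mul, map_inv, hm0]; rfl
    rw [h2]
  have hn_norm : n ∈ normalizer (AG : Set G) := by
    rw [Subgroup.mem_normalizer_iff]
    intro x
    have hconj_eq : ∀ m : ↥M, n * (m : G) * n⁻¹ = ((m0⁻¹ * tc m * m0 : ↥M) : G) := by
      intro m
      simp only [n, Subgroup.coe_mul, Subgroup.coe_inv, htc]
      group
    constructor
    · rintro ⟨m, hm, rfl⟩
      refine ⟨m0⁻¹ * tc m * m0, (hnorm_M m).mp hm, ?_⟩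
      exact (hconj_eq m).symm
    · intro hx
      have hxM : x ∈ M := by
        have h1 : n * x * n⁻¹ ∈ M := hAGle hx
        have := hMn.conj_mem _ h1 n⁻¹
        convert this using 1
        group
      obtain ⟨m', hm', hmm'⟩ := hx
      have h2 : n * ((⟨x, hxM⟩ : ↥M) : G) * n⁻¹ = ((m0⁻¹ * tc ⟨x, hxM⟩ * m0 : ↥M) : G) :=
        hconj_eq ⟨x, hxM⟩
      have h3 : m' = m0⁻¹ * tc ⟨x, hxM⟩ * m0 := by
        apply Subtype.ext
        rw [← h2]
        exact hmm'
      rw [h3] at hm'
      exact ⟨⟨x, hxM⟩, (hnorm_M _).mpr hm', rfl⟩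
  -- the normaliser
  let X : Subgroup G := normalizer (AG : Set G)
  have hAGX : AG ≤ X := Subgroup.le_normalizer
  have hXM : X ⊓ M = AG := by
    apply le_antisymm
    · intro x hx
      obtain ⟨hxX, hxM⟩ := Subgroup.mem_inf.mp hx
      rw [hAG]
      refine ⟨hxM, ?_⟩
      apply fix5_of_normalizes
      intro σ
      obtain ⟨m, rfl⟩ := φ.surjective σ
      have h1 : φ ⟨x, hxM⟩ * φ m * (φ ⟨x, hxM⟩)⁻¹ = φ (⟨x, hxM⟩ * m * ⟨x, hxM⟩⁻¹) := by
        rw [map_mul, map_mul, map_inv]
      rw [h1]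
      have h2 : ∀ m' : ↥M, φ m' ∈ Stab5 ↔ (m' : G) ∈ AG := by
        intro m'
        rw [hAG]
        constructor
        · intro h; exact ⟨m'.2, (mem_Stab5 _).mp h⟩
        · rintro ⟨_, h⟩; exact (mem_Stab5 _).mpr h
      rw [h2, h2]
      have := (Subgroup.mem_normalizer_iff.mp hxX) (m : G)
      simpa using this
    · exact le_inf hAGX hAGle
  have hrel : M.relIndex X = 2 := by
    have hdvd : M.relIndex X ∣ 2 := by
      have := Subgroup.relIndex_dvd_index_of_normal M X
      rwa [hM] at this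
    have hne1 : M.relIndex X ≠ 1 := by
      intro h1
      exact hnM (Subgroup.relIndex_eq_one.mp h1 hn_norm)
    rcases (Nat.dvd_prime Nat.prime_two).mp hdvd with h | h
    · exact absurd h hne1
    · exact h
  have hcardX : Nat.card X = 120 := by
    have h1 := Subgroup.relIndex_mul_relIndex ⊥ (M ⊓ X) X bot_le inf_le_right
    rw [Subgroup.relIndex_bot_left, Subgroup.relIndex_bot_left, Subgroup.inf_relIndex_right, hrel,
      inf_comm, hXM, hcardAG] at h1
    omega
  have hidxX : X.index = 6 := by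
    have := X.index_mul_card
    rw [hcardX, hcardG] at this
    omega
  -- the action on the cosets of `X`
  let ψG : G →* Equiv.Perm (G ⧸ X) := MulAction.toPermHom G (G ⧸ X)
  have hker : ψG.ker ≤ X := by
    rw [← Subgroup.normalCore_eq_ker]
    exact Subgroup.normalCore_le X
  have hinj : Function.Injective ψG := by
    rw [injective_iff_map_eq_one]
    intro g hg
    have hgk : g ∈ ψG.ker := MonoidHom.mem_ker.mpr hg
    apply hcent
    intro m hm
    -- the normal subgroup `ker ∩ M` of `M`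
    have hN : (ψG.ker.subgroupOf M) = ⊥ ∨ (ψG.ker.subgroupOf M) = ⊤ :=
      Subgroup.Normal.eq_bot_or_eq_top inferInstance
    rcases hN with hbot | htop
    · have h1 : g * m * g⁻¹ * m⁻¹ ∈ ψG.ker :=
        ψG.ker.mul_mem hgk ((MonoidHom.normal_ker ψG).conj_mem _ (ψG.ker.inv_mem hgk) m)
          |> fun h => by
            convert h using 1
            group
      have h2 : g * m * g⁻¹ * m⁻¹ ∈ M :=
        M.mul_mem (hMn.conj_mem _ hm g) (M.inv_mem hm)
      have h3 : (⟨g * m * g⁻¹ * m⁻¹, h2⟩ : ↥M) ∈ ψG.ker.subgroupOf M := by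
        rw [Subgroup.mem_subgroupOf]; exact h1
      rw [hbot, Subgroup.mem_bot] at h3
      have h4 : g * m * g⁻¹ * m⁻¹ = 1 := congrArg Subtype.val h3
      calc g * m = (g * m * g⁻¹ * m⁻¹) * m * g := by group
        _ = m * g := by rw [h4, one_mul]
    · exfalso
      have h1 : M ≤ ψG.ker := by
        intro x hx
        have : (⟨x, hx⟩ : ↥M) ∈ ψG.ker.subgroupOf M := by rw [htop]; exact Subgroup.mem_top _
        rwa [Subgroup.mem_subgroupOf] at this
      have h2 : M ≤ X := h1.trans hker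
      have h3 := Subgroup.card_le_of_le h2
      rw [hcardM, hcardX] at h3
      exact absurd h3 (by norm_num)
  have hcardQ : Nat.card (G ⧸ X) = 6 := by
    rw [← Subgroup.index_eq_card]; exact hidxX
  have hbij : Function.Bijective ψG := by
    apply hinj.bijective_of_nat_card_le
    rw [Nat.card_perm, hcardQ, hcardG]
    decide
  let e1 : G ≃* Equiv.Perm (G ⧸ X) := MulEquiv.ofBijective ψG hbij
  let e2 : (G ⧸ X) ≃ Fin 6 := Finite.equivFinOfCardEq hcardQ
  exact ⟨e1.trans e2.permCongrHom⟩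

end recog

end Cfsg.Agent.Lib.Helper1.Dw
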