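import Mathlib
import Cfsg.Agent.Lib.Helper1.Dw2
import Cfsg.Agent.Lib.Helper1.Dw3
import Cfsg.Agent.Lib.Helper1.Dv7
import Cfsg.Agent.Lib.Helper5.OAut.D8

set_option autoImplicit false
set_option maxHeartbeats 4000000
set_option maxRecDepth 100000
set_option linter.unusedVariables false
set_option linter.unusedSectionVars false
set_option linter.style.longLine false
set_option linter.unusedSimpArgs false
set_option linter.deprecated false

/-! The `Z₂ × S₄` problem: analysis of the subgroup of index two and the isolated case. -/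

namespace Cfsg.Agent.Lib.Helper1.Dw

open Subgroup Equiv
open Cfsg.Agent.Lib.Helper1.Dv (mem_cent sq_of_order_two inv_of_order_two ne_one_of_order_two
  order_two_of_sq)

/-- the seven `S₄`-components of the conjugates of `t` in `C(t)` -/
abbrev I7 : Type := {σ : S4 // σ = 1 ∨ ∃ i j : Fin 4, i ≠ j ∧ σ = swap i j}

theorem dec_card7 : Fintype.card I7 = 7 := by decide

theorem card_Z2S4 : Nat.card (Z2 × S4) = 48 := by
  rw [Nat.card_eq_fintype_card]
  decide

theorem dec_swap_ne : swap (0 : Fin 4) 1 ≠ 1 := by decide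

variable {G : Type*} [Group G]

theorem card_le_index [Finite G] {ι : Type*} (t : G) (x : ι → G)
    (hx : Function.Injective x) (hc : ∀ i, IsConj t (x i)) :
    Nat.card ι ≤ (centralizer ({t} : Set G)).index := by
  choose g hg using fun i => isConj_iff.mp (hc i)
  show Nat.card ι ≤ Nat.card (G ⧸ centralizer ({t} : Set G))
  apply Nat.card_le_card_of_injective (fun i => (g i : G ⧸ centralizer ({t} : Set G)))
  intro i j hij
  apply hx
  have h1 : (g i)⁻¹ * g j ∈ centralizer ({t} : Set G) := QuotientGroup.eq.mp hij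
  have h2 := mem_cent.mp h1
  rw [← hg i, ← hg j]
  calc g i * t * (g i)⁻¹ = g i * (t * ((g i)⁻¹ * g j)) * (g j)⁻¹ := by group
    _ = g i * ((g i)⁻¹ * g j * t) * (g j)⁻¹ := by rw [h2]
    _ = g j * t * (g j)⁻¹ := by group

/-- a group generated by pairwise commuting elements is commutative -/
theorem closure_comm {S : Set G} (hS : ∀ a ∈ S, ∀ b ∈ S, a * b = b * a) :
    ∀ a ∈ Subgroup.closure S, ∀ b ∈ Subgroup.closure S, a * b = b * a := by
  have h1 : Subgroup.closure S ≤ centralizer S := by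
    rw [Subgroup.closure_le]
    intro a ha
    rw [SetLike.mem_coe, Subgroup.mem_centralizer_iff]
    intro b hb
    exact hS b hb a ha
  have h2 : Subgroup.closure S ≤ centralizer (Subgroup.closure S : Set G) := by
    rw [Subgroup.closure_le]
    intro a ha
    rw [SetLike.mem_coe, Subgroup.mem_centralizer_iff]
    intro b hb
    have := Subgroup.mem_centralizer_iff.mp (h1 hb) a ha
    exact this.symm
  intro a ha b hb
  exact (Subgroup.mem_centralizer_iff.mp (h2 hb) a ha)

namespace Hyp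

variable {t : G} {T : Sylow 2 G} {e : ↥(centralizer ({t} : Set G)) ≃* Z2 × S4}

theorem card_C (h : Hyp t T e) : Nat.card (centralizer ({t} : Set G)) = 48 := by
  rw [Nat.card_congr e.toEquiv, card_Z2S4]

theorem t_mul (h : Hyp t T e) (a : Z2) (σ : S4) : t * el e (a, σ) = el e (τ1 * a, σ) := by
  calc t * el e (a, σ) = el e (τ1, 1) * el e (a, σ) := by rw [el_t e h.ord]
    _ = el e (τ1 * a, σ) := by
      rw [← el_mul, Prod.mk_mul_mk, one_mul]

theorem el_one_mul (σ π : S4) : el e (1, σ * π) = el e (1, σ) * el e (1, π) := by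
  rw [← el_mul, Prod.mk_mul_mk, one_mul]

variable [Finite G]

/-- elements of odd order commuting with a `V`-type involution are trivial -/
theorem fix_trivial (h : Hyp t T e) {σ : S4} (hσ : ∃ π : S4, σ = π * ζ0 * π⁻¹) {n : G} {c : ℕ}
    (hc : c.Coprime 2) (hn : n ^ c = 1) (hcomm : el e (1, σ) * n = n * el e (1, σ)) : n = 1 := by
  obtain ⟨k, hk⟩ := h.conj_of_vtype hσ 1
  rw [hk] at hcomm
  obtain ⟨m, hm⟩ := h.pow_two_of_comm_conj_z hcomm.symm
  have d1 : orderOf n ∣ 2 ^ m := orderOf_dvd_of_pow_eq_one hm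
  have d2 : orderOf n ∣ c := orderOf_dvd_of_pow_eq_one hn
  have d3 : orderOf n ∣ Nat.gcd (2 ^ m) c := Nat.dvd_gcd d1 d2
  have h8 : Nat.gcd (2 ^ m) c = 1 := by
    apply Nat.Coprime.pow_left
    exact hc.symm
  rw [h8, Nat.dvd_one, orderOf_eq_one_iff] at d3
  exact d3

theorem vtype_ζ0 : ∃ π : S4, ζ0 = π * ζ0 * π⁻¹ := ⟨1, by simp⟩

/-- the core `O(G)` is trivial -/
theorem core_eq_bot (h : Hyp t T e) : Cfsg.pPrimeCore 2 G = ⊥ := by
  haveI := pPrimeCore_normal (G := G) 2
  have hcop := pPrimeCore_card_coprime (G := G) 2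
  have hpow : ∀ n ∈ Cfsg.pPrimeCore 2 G, n ^ Nat.card (Cfsg.pPrimeCore 2 G) = 1 := by
    intro n hn
    have h1 : ((⟨n, hn⟩ : ↥(Cfsg.pPrimeCore 2 G)) ^ Nat.card (Cfsg.pPrimeCore 2 G)) = 1 :=
      pow_card_eq_one'
    have h2 := congrArg Subtype.val h1
    rw [Subgroup.coe_pow] at h2
    exact h2
  have hnorm : ∀ a : G, ∀ n ∈ Cfsg.pPrimeCore 2 G, a * n * a⁻¹ ∈ Cfsg.pPrimeCore 2 G :=
    fun a n hn => (pPrimeCore_normal (G := G) 2).conj_mem n hn a
  have hv1sq : el e (1, v1) * el e (1, v1) = 1 := by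
    rw [← el_one_mul, dec_v1.2.2.2]; exact el_one e
  have hab : el e (1, ζ0) * el e (1, v1) = el e (1, v1) * el e (1, ζ0) := by
    rw [← el_one_mul, ← el_one_mul, dec_v1.2.2.1]
  apply Dv.four_group_fpf (Cfsg.pPrimeCore 2 G) (el e (1, ζ0)) (el e (1, v1)) h.z_sq hv1sq hab
    (hnorm _) (hnorm _)
  · intro n hn hcomm
    exact h.fix_trivial vtype_ζ0 hcop (hpow n hn) hcomm
  · intro n hn hcomm
    exact h.fix_trivial dec_v1.1 hcop (hpow n hn) hcomm
  · intro n hn hcomm
    rw [← el_one_mul] at hcomm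
    exact h.fix_trivial dec_v1.2.1 hcop (hpow n hn) hcomm

/-- the isolated case -/
theorem iso_case (h : Hyp t T e) (hiso : Cfsg.IsIsolatedInvolution t) :
    centralizer ({t} : Set G) = ⊤ := by
  haveI := pPrimeCore_normal (G := G) 2
  have h1 := Dv.sup_eq_top_of_map_mk _ _ (Cfsg.Agent.Lib.Helper2.ZS.centralizer_map_eq_top t hiso)
  rw [h.core_eq_bot, sup_bot_eq] at h1
  exact h1

/-! ### the subgroup of index two -/

theorem z_mem_M (h : Hyp t T e) {M : Subgroup G} (hMi : M.index = 2) : el e (1, ζ0) ∈ M := by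
  have := Subgroup.sq_mem_of_index_two hMi (el e (1, r0))
  rw [pow_two, ← el_mul] at this
  convert this using 2
  ext1
  · simp
  · simpa using dec_r0sq.symm

theorem conj_not_mem_M (h : Hyp t T e) {M : Subgroup G} [hMn : M.Normal] (htM : t ∉ M) {x : G}
    (hx : IsConj t x) : x ∉ M := by
  intro hxM
  obtain ⟨g, rfl⟩ := isConj_iff.mp hx
  apply htM
  have := hMn.conj_mem _ hxM g⁻¹
  convert this using 1
  group

theorem tsw_not_mem_M (h : Hyp t T e) (hw : Tw h) {M : Subgroup G} [hMn : M.Normal] (htM : t ∉ M)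
    {i j : Fin 4} (hij : i ≠ j) : el e (τ1, swap i j) ∉ M :=
  h.conj_not_mem_M htM (h.conj_swaps (by decide) hij hw.conj)

theorem sw_mem_M (h : Hyp t T e) (hw : Tw h) {M : Subgroup G} [hMn : M.Normal] (hMi : M.index = 2)
    (htM : t ∉ M) {i j : Fin 4} (hij : i ≠ j) : el e (1, swap i j) ∈ M := by
  have h1 : t * el e (τ1, swap i j) = el e (1, swap i j) := by
    rw [h.t_mul, τ1_sq]
  rw [← h1, Subgroup.mul_mem_iff_of_index_two hMi]
  exact ⟨fun h' => absurd h' htM, fun h' => absurd h' (h.tsw_not_mem_M hw htM hij)⟩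

theorem one_mem_M (h : Hyp t T e) (hw : Tw h) {M : Subgroup G} [hMn : M.Normal] (hMi : M.index = 2)
    (htM : t ∉ M) (σ : S4) : el e (1, σ) ∈ M := by
  induction σ using Equiv.Perm.swap_induction_on with
  | one =>
    have : el e ((1 : Z2), (1 : S4)) = 1 := el_one e
    rw [this]; exact M.one_mem
  | swap_mul f x y hxy ih =>
    rw [el_one_mul]
    exact M.mul_mem (h.sw_mem_M hw hMi htM hxy) ih

theorem mem_M_iff (h : Hyp t T e) (hw : Tw h) {M : Subgroup G} [hMn : M.Normal] (hMi : M.index = 2)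
    (htM : t ∉ M) (p : Z2 × S4) : el e p ∈ M ↔ p.1 = 1 := by
  obtain ⟨a, σ⟩ := p
  rcases z2_cases a with ha | ha
  · rw [ha]
    exact iff_of_true (h.one_mem_M hw hMi htM σ) rfl
  · rw [ha]
    have h1 : el e (τ1, σ) = t * el e (1, σ) := by rw [h.t_mul, mul_one]
    constructor
    · intro hm
      exfalso
      rw [h1, Subgroup.mul_mem_iff_of_index_two hMi] at hm
      exact htM (hm.mpr (h.one_mem_M hw hMi htM σ))
    · intro h2
      exact absurd h2 τ1_ne

/-- the centralizer of `z` in `M` is dihedral of order eight -/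
theorem exists_dihedral (h : Hyp t T e) (hw : Tw h) (M : Subgroup G) [hMn : M.Normal]
    (hMi : M.index = 2) (htM : t ∉ M) :
    ∃ hz : el e (1, ζ0) ∈ M, orderOf (⟨el e (1, ζ0), hz⟩ : ↥M) = 2 ∧
      Nonempty (↥(centralizer ({(⟨el e (1, ζ0), hz⟩ : ↥M)} : Set ↥M)) ≃* DihedralGroup 4) := by
  have hz := h.z_mem_M hMi
  refine ⟨hz, ?_, ?_⟩
  · rw [Subgroup.orderOf_mk]; exact h.z_ord
  have hmemc : ∀ δ : {δ : S4 // δ * ζ0 = ζ0 * δ},
      (⟨el e (1, δ.1), h.one_mem_M hw hMi htM δ.1⟩ : ↥M) ∈
        centralizer ({(⟨el e (1, ζ0), hz⟩ : ↥M)} : Set ↥M) := by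
    intro δ
    rw [mem_cent]
    apply Subtype.ext
    show el e (1, δ.1) * el e (1, ζ0) = el e (1, ζ0) * el e (1, δ.1)
    rw [← el_one_mul, ← el_one_mul, δ.2]
  let f : {δ : S4 // δ * ζ0 = ζ0 * δ} → ↥(centralizer ({(⟨el e (1, ζ0), hz⟩ : ↥M)} : Set ↥M)) :=
    fun δ => ⟨⟨el e (1, δ.1), h.one_mem_M hw hMi htM δ.1⟩, hmemc δ⟩
  have hf : Function.Bijective f := by
    constructor
    · intro δ δ' hdd
      have h1 : el e (1, δ.1) = el e (1, δ'.1) := by
        have := congrArg (fun x => x.1.1) hdd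
        exact this
      have h2 := el_inj e h1
      exact Subtype.ext (congrArg Prod.snd h2)
    · rintro ⟨⟨m, hm⟩, hc⟩
      have hc' : m * el e (1, ζ0) = el e (1, ζ0) * m := by
        have := mem_cent.mp hc
        exact congrArg Subtype.val this
      have hmT : m ∈ (T : Subgroup G) := by
        rw [← h.cent_z]; exact mem_cent.mpr hc'
      obtain ⟨p, hp, hp2⟩ := h.exists_el hmT
      have hp1 : p.1 = 1 := by
        rw [← h.mem_M_iff hw hMi htM, hp]; exact hm
      refine ⟨⟨p.2, hp2⟩, ?_⟩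
      apply Subtype.ext
      apply Subtype.ext
      show el e (1, p.2) = m
      rw [← hp, ← hp1]
  have hcard : Nat.card ↥(centralizer ({(⟨el e (1, ζ0), hz⟩ : ↥M)} : Set ↥M)) = 8 := by
    rw [← Nat.card_eq_of_bijective f hf, Nat.card_eq_fintype_card, dec_card]
  have hs0 : s0 * ζ0 = ζ0 * s0 := dec_r0.2.1
  have hr0 : r0 * ζ0 = ζ0 * r0 := dec_r0.1
  refine Cfsg.Agent.Lib.Helper5.OAut.exists_dihedral_equiv hcard (f ⟨s0, hs0⟩) (f ⟨r0, hr0⟩) ?_ ?_
  · apply Subtype.ext
    apply Subtype.ext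
    show el e (1, s0) * el e (1, s0) = 1
    rw [← el_one_mul, dec_s0.1]; exact el_one e
  · intro hcomm
    have h1 : el e (1, s0) * el e (1, r0) = el e (1, r0) * el e (1, s0) := by
      have := congrArg (fun x => x.1.1) hcomm
      exact this
    rw [← el_one_mul, ← el_one_mul] at h1
    have h2 := el_inj e h1
    exact dec_s0.2 (congrArg Prod.snd h2)

/-- the seven known conjugates of `t` -/
theorem x7_inj : Function.Injective (fun σ : I7 => el e (τ1, σ.1)) := by
  intro a b hab
  have := el_inj e hab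
  exact Subtype.ext (congrArg Prod.snd this)

theorem x7_conj (h : Hyp t T e) (hw : Tw h) (σ : I7) : IsConj t (el e (τ1, σ.1)) := by
  rcases σ.2 with h1 | ⟨i, j, hij, h1⟩
  · rw [h1, el_t e h.ord]
  · rw [h1]; exact h.conj_swaps (by decide) hij hw.conj

theorem seven_le_index (h : Hyp t T e) (hw : Tw h) :
    7 ≤ (centralizer ({t} : Set G)).index := by
  have := card_le_index t (fun σ : I7 => el e (τ1, σ.1)) x7_inj (h.x7_conj hw)
  rwa [Nat.card_eq_fintype_card, dec_card7] at this

theorem card_G_ge (h : Hyp t T e) (hw : Tw h) : 336 ≤ Nat.card G := by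
  have h1 := Subgroup.card_mul_index (centralizer ({t} : Set G))
  rw [h.card_C] at h1
  have h2 := h.seven_le_index hw
  nlinarith

theorem card_M (h : Hyp t T e) {M : Subgroup G} (hMi : M.index = 2) :
    Nat.card M * 2 = Nat.card G := by
  have := Subgroup.card_mul_index M
  rwa [hMi] at this

/-- if the index of `C(t)` is seven, all conjugates of `t` commute with `t` -/
theorem conj_comm_of_index (h : Hyp t T e) (hw : Tw h)
    (hidx : (centralizer ({t} : Set G)).index = 7) (g : G) :
    (g * t * g⁻¹) * t = t * (g * t * g⁻¹) := by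
  by_cases hex : ∃ σ : I7, g * t * g⁻¹ = el e (τ1, σ.1)
  · obtain ⟨σ, hσ⟩ := hex
    rw [hσ]; exact el_comm_t e _
  · exfalso
    push Not at hex
    let x8 : Option I7 → G := fun o => match o with
      | none => g * t * g⁻¹
      | some σ => el e (τ1, σ.1)
    have hinj : Function.Injective x8 := by
      intro a b hab
      cases a with
      | none =>
        cases b with
        | none => rfl
        | some σ => exact absurd hab (hex σ)
      | some σ =>
        cases b with
        | none => exact absurd hab.symm (hex σ)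
        | some σ' =>
          have : σ = σ' := x7_inj (e := e) hab
          rw [this]
    have hconj : ∀ o, IsConj t (x8 o) := by
      intro o
      cases o with
      | none => exact isConj_iff.mpr ⟨g, rfl⟩
      | some σ => exact h.x7_conj hw σ
    have := card_le_index t x8 hinj hconj
    rw [Nat.card_eq_fintype_card, Fintype.card_option, dec_card7, hidx] at this
    omega

end Hyp

end Cfsg.Agent.Lib.Helper1.Dw
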