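import Mathlib
import Cfsg.Agent.Lib.Helper1.Dw4

set_option autoImplicit false
set_option maxHeartbeats 4000000
set_option maxRecDepth 100000
set_option linter.unusedVariables false
set_option linter.unusedSectionVars false
set_option linter.style.longLine false
set_option linter.unusedSimpArgs false
set_option linter.deprecated false

/-! The `Z₂ × S₄` problem: the five cases for the subgroup of index two. -/

namespace Cfsg.Agent.Lib.Helper1.Dw

open Subgroup Equiv
open Cfsg.Agent.Lib.Helper1.Dv (mem_cent sq_of_order_two inv_of_order_two ne_one_of_order_two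
  order_two_of_sq)

variable {G : Type*} [Group G]

namespace Hyp

variable {t : G} {T : Sylow 2 G} {e : ↥(centralizer ({t} : Set G)) ≃* Z2 × S4} [Finite G]

theorem caseA (h : Hyp t T e) (hw : Tw h) (M : Subgroup G) [hMn : M.Normal] (hMi : M.index = 2)
    (htM : t ∉ M) (hz : el e (1, ζ0) ∈ M)
    (hA : centralizer ({(⟨el e (1, ζ0), hz⟩ : ↥M)} : Set ↥M) ⊔ Cfsg.oddCore ↥M = ⊤) : False := by
  haveI := pPrimeCore_normal (G := ↥M) 2
  have hcop := pPrimeCore_card_coprime (G := ↥M) 2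
  have hbot : Cfsg.pPrimeCore 2 ↥M = ⊥ := by
    have hpow : ∀ n ∈ Cfsg.pPrimeCore 2 ↥M, (n : G) ^ Nat.card (Cfsg.pPrimeCore 2 ↥M) = 1 := by
      intro n hn
      have h1 : ((⟨n, hn⟩ : ↥(Cfsg.pPrimeCore 2 ↥M)) ^ Nat.card (Cfsg.pPrimeCore 2 ↥M)) = 1 :=
        pow_card_eq_one'
      have h2 := congrArg Subtype.val h1
      rw [Subgroup.coe_pow] at h2
      have h3 := congrArg Subtype.val h2
      rw [Subgroup.coe_pow] at h3
      exact h3
    have hnorm : ∀ a : ↥M, ∀ n ∈ Cfsg.pPrimeCore 2 ↥M, a * n * a⁻¹ ∈ Cfsg.pPrimeCore 2 ↥M :=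
      fun a n hn => (pPrimeCore_normal (G := ↥M) 2).conj_mem n hn a
    have hv := h.one_mem_M hw hMi htM v1
    apply Dv.four_group_fpf (Cfsg.pPrimeCore 2 ↥M) (⟨el e (1, ζ0), hz⟩ : ↥M)
      (⟨el e (1, v1), hv⟩ : ↥M)
    · apply Subtype.ext; exact h.z_sq
    · apply Subtype.ext
      show el e (1, v1) * el e (1, v1) = 1
      rw [← el_one_mul, dec_v1.2.2.2]; exact el_one e
    · apply Subtype.ext
      show el e (1, ζ0) * el e (1, v1) = el e (1, v1) * el e (1, ζ0)
      rw [← el_one_mul, ← el_one_mul, dec_v1.2.2.1]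
    · exact hnorm _
    · exact hnorm _
    · intro n hn hcomm
      have hc' : el e (1, ζ0) * (n : G) = (n : G) * el e (1, ζ0) := congrArg Subtype.val hcomm
      exact Subtype.ext (h.fix_trivial vtype_ζ0 hcop (hpow n hn) hc')
    · intro n hn hcomm
      have hc' : el e (1, v1) * (n : G) = (n : G) * el e (1, v1) := congrArg Subtype.val hcomm
      exact Subtype.ext (h.fix_trivial dec_v1.1 hcop (hpow n hn) hc')
    · intro n hn hcomm
      have hc' : el e (1, ζ0) * el e (1, v1) * (n : G) = (n : G) * (el e (1, ζ0) * el e (1, v1)) :=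
        congrArg Subtype.val hcomm
      rw [← el_one_mul] at hc'
      exact Subtype.ext (h.fix_trivial dec_v1.2.1 hcop (hpow n hn) hc')
  have hA' : centralizer ({(⟨el e (1, ζ0), hz⟩ : ↥M)} : Set ↥M) = ⊤ := by
    have h0 : Cfsg.oddCore ↥M = ⊥ := hbot
    rw [h0, sup_bot_eq] at hA; exact hA
  have hc3 := h.one_mem_M hw hMi htM c3
  have hmem : (⟨el e (1, c3), hc3⟩ : ↥M) ∈ centralizer ({(⟨el e (1, ζ0), hz⟩ : ↥M)} : Set ↥M) := by
    rw [hA']; trivial
  have h1 := mem_cent.mp hmem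
  have h2 : el e (1, c3) * el e (1, ζ0) = el e (1, ζ0) * el e (1, c3) := congrArg Subtype.val h1
  rw [← el_one_mul, ← el_one_mul] at h2
  exact dec_c3.1 (congrArg Prod.snd (el_inj e h2))

theorem caseBC (h : Hyp t T e) (hw : Tw h) (M : Subgroup G) (hMi : M.index = 2) {n : ℕ}
    (hn : n ≤ 5) (φ : ↥M ≃* Equiv.Perm (Fin n)) : False := by
  have h1 : Nat.card M = n.factorial := by
    rw [Nat.card_congr φ.toEquiv, Nat.card_perm, Nat.card_fin]
  have h2 := h.card_M hMi
  have h3 := h.card_G_ge hw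
  have h4 : n.factorial ≤ 120 := by
    calc n.factorial ≤ (5).factorial := Nat.factorial_le hn
      _ = 120 := by decide
  omega

theorem caseD (h : Hyp t T e) (hw : Tw h) (M : Subgroup G) [hMn : M.Normal] (hMi : M.index = 2)
    (htM : t ∉ M) (φ : ↥M ≃* Matrix.SpecialLinearGroup (Fin 3) (ZMod 2)) : False := by
  have hcM : Nat.card M = 168 := by
    rw [Nat.card_congr φ.toEquiv]; exact Dv.card_SL32
  have hcG : Nat.card G = 336 := by
    have := h.card_M hMi; omega
  have hidx : (centralizer ({t} : Set G)).index = 7 := by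
    have h1 := Subgroup.card_mul_index (centralizer ({t} : Set G))
    rw [h.card_C, hcG] at h1; omega
  have hcomm := h.conj_comm_of_index hw hidx
  have hS : ∀ a ∈ Group.conjugatesOfSet ({t} : Set G), ∀ b ∈ Group.conjugatesOfSet ({t} : Set G),
      a * b = b * a := by
    intro a ha b hb
    obtain ⟨t1, ht1, hca⟩ := Group.mem_conjugatesOfSet_iff.mp ha
    obtain ⟨t2, ht2, hcb⟩ := Group.mem_conjugatesOfSet_iff.mp hb
    rw [Set.mem_singleton_iff] at ht1 ht2
    rw [ht1] at hca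
    rw [ht2] at hcb
    obtain ⟨g, rfl⟩ := isConj_iff.mp hca
    obtain ⟨k, rfl⟩ := isConj_iff.mp hcb
    have := hcomm (g⁻¹ * k)
    calc g * t * g⁻¹ * (k * t * k⁻¹)
        = g * (t * ((g⁻¹ * k) * t * (g⁻¹ * k)⁻¹)) * g⁻¹ := by group
      _ = g * (((g⁻¹ * k) * t * (g⁻¹ * k)⁻¹) * t) * g⁻¹ := by rw [this]
      _ = k * t * k⁻¹ * (g * t * g⁻¹) := by group
  have hLcomm : ∀ a ∈ Subgroup.normalClosure ({t} : Set G),
      ∀ b ∈ Subgroup.normalClosure ({t} : Set G), a * b = b * a := closure_comm hS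
  have hLn : (Subgroup.normalClosure ({t} : Set G)).Normal := Subgroup.normalClosure_normal
  have htL : t ∈ Subgroup.normalClosure ({t} : Set G) :=
    Subgroup.subset_normalClosure (Set.mem_singleton t)
  have hconjL : ∀ x, IsConj t x → x ∈ Subgroup.normalClosure ({t} : Set G) := by
    intro x hx
    obtain ⟨g, rfl⟩ := isConj_iff.mp hx
    exact hLn.conj_mem t htL g
  have hswL : el e (1, swap 0 1) ∈ Subgroup.normalClosure ({t} : Set G) := by
    have h1 : t * el e (τ1, swap 0 1) = el e (1, swap 0 1) := by rw [h.t_mul, τ1_sq]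
    rw [← h1]; exact Subgroup.mul_mem _ htL (hconjL _ hw.conj)
  haveI : IsSimpleGroup ↥M := φ.isSimpleGroup_congr.mpr Dv.simple_SL32
  haveI := hLn
  have hN : ((Subgroup.normalClosure ({t} : Set G)).subgroupOf M).Normal :=
    Subgroup.normal_subgroupOf
  rcases hN.eq_bot_or_eq_top with hb | ht
  · have hmem : (⟨el e (1, swap 0 1), h.one_mem_M hw hMi htM _⟩ : ↥M) ∈
        (Subgroup.normalClosure ({t} : Set G)).subgroupOf M := by
      rw [Subgroup.mem_subgroupOf]; exact hswL
    rw [hb, Subgroup.mem_bot] at hmem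
    have h1 : el e (1, swap 0 1) = 1 := congrArg Subtype.val hmem
    rw [el_eq_one_iff] at h1
    exact dec_swap_ne (congrArg Prod.snd h1)
  · rw [Subgroup.subgroupOf_eq_top] at ht
    have h1 := hLcomm _ (ht (h.one_mem_M hw hMi htM (swap 0 1))) _
      (ht (h.one_mem_M hw hMi htM (swap 1 2)))
    rw [← el_one_mul, ← el_one_mul] at h1
    exact dec_swap_noncomm (congrArg Prod.snd (el_inj e h1))

theorem caseE (h : Hyp t T e) (hw : Tw h) (M : Subgroup G) [hMn : M.Normal] (hMi : M.index = 2)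
    (htM : t ∉ M) (φ : ↥M ≃* ↥(alternatingGroup (Fin 6))) :
    Nonempty (G ≃* Equiv.Perm (Fin 6)) := by
  haveI : Fact (Nat.Prime 3) := ⟨by norm_num⟩
  have hy3 : (el e (1, c3)) ^ 3 = 1 := by
    rw [pow_succ, pow_two, ← el_mul, ← el_mul, el_eq_one_iff]
    ext1
    · simp
    · simpa using dec_c3.2.1
  have hy1 : el e (1, c3) ≠ 1 := by
    rw [Ne, el_eq_one_iff]
    intro h1
    exact dec_c3.2.2 (congrArg Prod.snd h1)
  have hy : orderOf (el e (1, c3)) = 3 := orderOf_eq_prime hy3 hy1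
  have hty : t * el e (1, c3) = el e (1, c3) * t := (el_comm_t e _).symm
  have hcM : Nat.card M = 360 := by
    rw [Nat.card_congr φ.toEquiv]; exact card_A6
  refine s6_recognition M hMi φ t htM (el e (1, c3)) (h.one_mem_M hw hMi htM c3) hy hty ?_
  intro g hg
  have hgz : g ∈ centralizer ({el e (1, ζ0)} : Set G) := mem_cent.mpr (hg _ (h.z_mem_M hMi))
  rw [h.cent_z] at hgz
  obtain ⟨p, hp, hp2⟩ := h.exists_el hgz
  have hp2' : p.2 = 1 := by
    apply dec_center
    intro π
    have h1 := hg _ (h.one_mem_M hw hMi htM π)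
    rw [← hp, el_comm_iff] at h1
    have h3 := congrArg Prod.snd h1
    simpa using h3.symm
  rcases z2_cases p.1 with h1 | h1
  · rw [← hp, el_eq_one_iff]
    exact Prod.ext h1 hp2'
  · exfalso
    have hgt : g = t := by
      have hpp : p = (τ1, 1) := Prod.ext h1 hp2'
      calc g = el e p := hp.symm
        _ = el e (τ1, 1) := by rw [hpp]
        _ = t := el_t e h.ord
    have hle : M ≤ centralizer ({t} : Set G) := by
      intro m hm
      rw [mem_cent]
      rw [hgt] at hg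
      exact (hg m hm).symm
    have := Subgroup.card_le_of_le hle
    rw [h.card_C, hcM] at this
    omega

theorem main_tw (h : Hyp t T e) (hw : Tw h) : Nonempty (G ≃* Equiv.Perm (Fin 6)) := by
  obtain ⟨M, hMn, hMi, htM⟩ := h.exists_index_two hw
  haveI := hMn
  obtain ⟨hz, hzo, ⟨e'⟩⟩ := h.exists_dihedral hw M hMi htM
  rcases Dv.d8_centralizer_main (⟨el e (1, ζ0), hz⟩ : ↥M) hzo e' with
    hA | ⟨⟨φ⟩⟩ | ⟨⟨φ⟩⟩ | ⟨⟨φ⟩⟩ | ⟨⟨φ⟩⟩
  · exact (h.caseA hw M hMi htM hz hA).elim
  · exact (h.caseBC hw M hMi (by norm_num) φ).elim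
  · exact (h.caseBC hw M hMi (le_refl 5) φ).elim
  · exact (h.caseD hw M hMi htM φ).elim
  · exact h.caseE hw M hMi htM φ

end Hyp

end Cfsg.Agent.Lib.Helper1.Dw
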