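import Mathlib
import Cfsg.Agent.Lib.Helper1.Dw5

set_option autoImplicit false
set_option maxHeartbeats 4000000
set_option maxRecDepth 100000
set_option linter.unusedVariables false
set_option linter.unusedSectionVars false
set_option linter.style.longLine false
set_option linter.unusedSimpArgs false
set_option linter.deprecated false

/-! The `Z₂ × S₄` problem: normalisations and the final statement. -/

namespace Cfsg.Agent.Lib.Helper1.Dw

open Subgroup Equiv
open Cfsg.Agent.Lib.Helper1.Dv (mem_cent sq_of_order_two inv_of_order_two ne_one_of_order_two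
  order_two_of_sq)

/-- the sign character with values in `Z₂` -/
def sgn2 (σ : S4) : Z2 := if Equiv.Perm.sign σ = 1 then 1 else τ1

theorem sgn2_mul : ∀ σ π : S4, sgn2 (σ * π) = sgn2 σ * sgn2 π := by decide

theorem z2_sq : ∀ a : Z2, a * a = 1 := by decide

theorem sgn2_swap : sgn2 (swap 0 1) = τ1 := by decide

/-- the twisting automorphism of `Z₂ × S₄` -/
def θ : Z2 × S4 ≃* Z2 × S4 where
  toFun p := (p.1 * sgn2 p.2, p.2)
  invFun p := (p.1 * sgn2 p.2, p.2)
  left_inv p := by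
    ext1
    · show p.1 * sgn2 p.2 * sgn2 p.2 = p.1
      rw [mul_assoc, z2_sq, mul_one]
    · rfl
  right_inv p := by
    ext1
    · show p.1 * sgn2 p.2 * sgn2 p.2 = p.1
      rw [mul_assoc, z2_sq, mul_one]
    · rfl
  map_mul' p q := by
    ext1
    · show p.1 * q.1 * sgn2 (p.2 * q.2) = p.1 * sgn2 p.2 * (q.1 * sgn2 q.2)
      rw [sgn2_mul]
      rw [mul_mul_mul_comm]
    · rfl

theorem θ_symm_apply (p : Z2 × S4) : θ.symm p = (p.1 * sgn2 p.2, p.2) := rfl

/-- the Sylow `2`-subgroup of `Z₂ × S₄` -/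
def S0sub : Subgroup (Z2 × S4) where
  carrier := {p | p.2 * ζ0 = ζ0 * p.2}
  mul_mem' := by
    intro p q hp hq
    show (p * q).2 * ζ0 = ζ0 * (p * q).2
    rw [Prod.snd_mul, mul_assoc, show q.2 * ζ0 = ζ0 * q.2 from hq, ← mul_assoc,
      show p.2 * ζ0 = ζ0 * p.2 from hp, mul_assoc]
  one_mem' := by
    show (1 : Z2 × S4).2 * ζ0 = ζ0 * (1 : Z2 × S4).2
    simp
  inv_mem' := by
    intro p hp
    have hp' : p.2 * ζ0 = ζ0 * p.2 := hp
    show (p⁻¹).2 * ζ0 = ζ0 * (p⁻¹).2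
    rw [Prod.snd_inv]
    calc p.2⁻¹ * ζ0 = p.2⁻¹ * (ζ0 * p.2) * p.2⁻¹ := by group
      _ = p.2⁻¹ * (p.2 * ζ0) * p.2⁻¹ := by rw [hp']
      _ = ζ0 * p.2⁻¹ := by group

theorem mem_S0sub (p : Z2 × S4) : p ∈ S0sub ↔ p.2 * ζ0 = ζ0 * p.2 := Iff.rfl

theorem dec_card16 : Fintype.card {p : Z2 × S4 // p.2 * ζ0 = ζ0 * p.2} = 16 := by decide

theorem card_S0sub : Nat.card S0sub = 16 := by
  have h1 : Nat.card ↥S0sub = Nat.card {p : Z2 × S4 // p.2 * ζ0 = ζ0 * p.2} := rfl
  rw [h1, Nat.card_eq_fintype_card, dec_card16]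

variable {G : Type*} [Group G]

section twist

variable {t : G} (e : ↥(centralizer ({t} : Set G)) ≃* Z2 × S4)

theorem el_trans (ψ : Z2 × S4 ≃* Z2 × S4) (p : Z2 × S4) : el (e.trans ψ) p = el e (ψ.symm p) := rfl

theorem Hyp.twist {T : Sylow 2 G} (h : Hyp t T e) : Hyp t T (e.trans θ) where
  ord := h.ord
  h2 := h.h2
  leC := h.leC
  memT := by
    intro p
    rw [el_trans, h.memT, θ_symm_apply]

end twist

namespace Hyp

variable {t : G} {T : Sylow 2 G} {e : ↥(centralizer ({t} : Set G)) ≃* Z2 × S4} [Finite G]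

/-- the non-isolated case -/
theorem noniso_case (h : Hyp t T e) (hiso : ¬ Cfsg.IsIsolatedInvolution t) :
    Nonempty (G ≃* Equiv.Perm (Fin 6)) := by
  unfold Cfsg.IsIsolatedInvolution at hiso
  push Not at hiso
  obtain ⟨g, hcomm, hne⟩ := hiso h.ord
  have hcC : g * t * g⁻¹ ∈ centralizer ({t} : Set G) := mem_cent.mpr hcomm.symm.eq
  obtain ⟨p, hp⟩ : ∃ p : Z2 × S4, el e p = g * t * g⁻¹ := ⟨e ⟨_, hcC⟩, el_e e hcC⟩
  have hc : IsConj t (el e p) := by rw [hp]; exact isConj_iff.mpr ⟨g, rfl⟩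
  have hne' : el e p ≠ t := by rw [hp]; exact hne
  obtain ⟨i, j, hij, hsw⟩ := h.swap_of_conj hc hne'
  have hpp : p = (p.1, swap i j) := Prod.ext rfl hsw
  rw [hpp] at hc
  rcases z2_cases p.1 with h1 | h1
  · -- twist
    rw [h1] at hc
    have hc2 : IsConj t (el e (1, swap 0 1)) := h.conj_swaps hij (by decide) hc
    have h' := h.twist e
    have hw' : Tw h' := by
      constructor
      rw [el_trans, θ_symm_apply]
      have : ((τ1, swap (0 : Fin 4) 1) : Z2 × S4).1 * sgn2 ((τ1, swap (0 : Fin 4) 1) : Z2 × S4).2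
          = 1 := by
        show τ1 * sgn2 (swap 0 1) = 1
        rw [sgn2_swap, τ1_sq]
      rw [this]
      exact hc2
    exact h'.main_tw hw'
  · rw [h1] at hc
    have hw : Tw h := ⟨h.conj_swaps hij (by decide) hc⟩
    exact h.main_tw hw

end Hyp

/-! ### the first normalisation -/

theorem card_pow_two_le {n : ℕ} (hn : n ∣ 48) (k : ℕ) (hk : n = 2 ^ k) : n ≤ 16 := by
  have hk4 : k ≤ 4 := by
    by_contra hcon
    push Not at hcon
    have h1 : 2 ^ 5 ∣ 2 ^ k := Nat.pow_dvd_pow 2 hcon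
    rw [← hk] at h1
    have h2 : 2 ^ 5 ∣ 48 := h1.trans hn
    revert h2
    decide
  rw [hk]
  calc 2 ^ k ≤ 2 ^ 4 := Nat.pow_le_pow_right (by norm_num) hk4
    _ = 16 := by norm_num

theorem exists_hyp [Finite G] (t : G) (ht : orderOf t = 2) (T : Sylow 2 G)
    (htc : ∀ s ∈ (T : Subgroup G), s * t = t * s)
    (e : ↥(centralizer ({t} : Set G)) ≃* Z2 × S4)
    (h2 : ∀ S : Sylow 2 G,
      centralizer ((⁅(S : Subgroup G), (S : Subgroup G)⁆ : Subgroup G) : Set G) = (S : Subgroup G)) :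
    ∃ e0 : ↥(centralizer ({t} : Set G)) ≃* Z2 × S4, Hyp t T e0 := by
  haveI : Fact (Nat.Prime 2) := ⟨Nat.prime_two⟩
  have hle : (T : Subgroup G) ≤ centralizer ({t} : Set G) := fun s hs => mem_cent.mpr (htc s hs)
  have hcardC : Nat.card (centralizer ({t} : Set G)) = 48 := by
    rw [Nat.card_congr e.toEquiv, card_Z2S4]
  -- the Sylow subgroup of `C` coming from `T`
  let P0 : Sylow 2 ↥(centralizer ({t} : Set G)) := T.subtype hle
  -- the model Sylow subgroup
  let S0' : Subgroup ↥(centralizer ({t} : Set G)) :=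
    S0sub.comap (e : ↥(centralizer ({t} : Set G)) →* Z2 × S4)
  have hcardS0' : Nat.card S0' = 16 := by
    show Nat.card ↥(S0sub.comap (e : ↥(centralizer ({t} : Set G)) →* Z2 × S4)) = 16
    rw [Subgroup.comap_equiv_eq_map_symm, Subgroup.card_map_of_injective, card_S0sub]
    exact e.symm.injective
  have hp : IsPGroup 2 ↥S0' := IsPGroup.of_card (n := 4) (by rw [hcardS0']; norm_num)
  obtain ⟨Q, hQ⟩ := hp.exists_le_sylow
  obtain ⟨k, hk⟩ := IsPGroup.iff_card.mp Q.isPGroup'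
  have hQdvd : Nat.card (Q : Subgroup ↥(centralizer ({t} : Set G))) ∣ 48 := by
    rw [← hcardC]; exact Subgroup.card_subgroup_dvd_card _
  have hQle : Nat.card (Q : Subgroup ↥(centralizer ({t} : Set G))) ≤ 16 := card_pow_two_le hQdvd k hk
  have hQeq : S0' = (Q : Subgroup ↥(centralizer ({t} : Set G))) :=
    Subgroup.eq_of_le_of_card_ge hQ (by rw [hcardS0']; exact hQle)
  obtain ⟨c, hc⟩ := MulAction.exists_smul_eq ↥(centralizer ({t} : Set G)) P0 Q
  have hmemQ : ∀ x : ↥(centralizer ({t} : Set G)),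
      x ∈ (Q : Subgroup ↥(centralizer ({t} : Set G))) ↔ ((c⁻¹ * x * c : ↥(centralizer ({t} : Set G))) : G) ∈ (T : Subgroup G) := by
    intro x
    rw [← hc, Sylow.coe_subgroup_smul, Subgroup.mem_pointwise_smul_iff_inv_smul_mem]
    have h1 : (MulAut.conj c)⁻¹ • x = c⁻¹ * x * c := by
      rw [MulAut.smul_def, ← map_inv, MulAut.conj_apply, inv_inv]
    rw [h1]
    show c⁻¹ * x * c ∈ ((T.subtype hle : Sylow 2 ↥(centralizer ({t} : Set G))) : Subgroup ↥(centralizer ({t} : Set G))) ↔ _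
    rw [Sylow.coe_subtype, Subgroup.mem_subgroupOf]
  refine ⟨(MulAut.conj c).trans e, ⟨ht, h2, hle, ?_⟩⟩
  intro p
  have hel : el ((MulAut.conj c).trans e) p = ((c⁻¹ * e.symm p * c : ↥(centralizer ({t} : Set G))) : G) := by
    show (((MulAut.conj c).symm (e.symm p) : ↥(centralizer ({t} : Set G))) : G) = _
    rw [MulAut.conj_symm_apply]
  rw [hel, ← hmemQ, ← hQeq]
  show e (e.symm p) ∈ S0sub ↔ _
  rw [MulEquiv.apply_symm_apply, mem_S0sub]

end Cfsg.Agent.Lib.Helper1.Dw
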