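import Mathlib
import Cfsg.Agent.S2335
import Cfsg.Agent.S2334
import Cfsg.Agent.Lib.Helper6.LbgD
import Cfsg.Agent.Lib.Helper2.E6MNontrivFD

/-!
# E6M2 unit NONTRIV2 (S2341 farm)

A complex representation of `SU_n(q)` (`n ≥ 4` even, `(n, q)` not `(4,2), (4,3)`) on which some
element acts nontrivially has degree at least `(q^n - 1)/(q + 1)`; for `n ≥ 3` odd,
`(n, q) ≠ (3, 2)`, at least `(q^n - q)/(q + 1)`.
From S2335 / S2334 (irreducible representations of degree `≥ 2`), helper2's generic half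
(complete reducibility) and the perfectness of `SU_n(q)` (helper5/helper6).
-/

set_option autoImplicit false

namespace Cfsg.Agent.Lib.Helper1.E6M2

open Cfsg

/-- NONTRIV2, coordinate form, even `n`. -/
theorem su_degree_ge {F : Type*} [Field F] [Fintype F] [DecidableEq F] (n q : ℕ) (hn : 4 ≤ n)
    (heven : Even n) (hF : Fintype.card F = q ^ 2)
    (hex : (n, q) ≠ (4, 2) ∧ (n, q) ≠ (4, 3))
    {k : ℕ} (ρ : Representation ℂ (Cfsg.SU n F q) (Fin k → ℂ))
    (g : Cfsg.SU n F q) (hg : ρ g ≠ 1) :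
    (q ^ n - 1) / (q + 1) ≤ k := by
  classical
  have : Fintype ↥(Cfsg.SU n F q) := Fintype.ofFinite _
  exact Cfsg.Agent.Lib.Helper2.E6MNontriv.degree_ge_of_acts_nontrivially
    (Cfsg.Agent.Lib.Helper6.Lbg.su_perfect hF (by omega) (by omega)) _
    (Cfsg.Agent.S2335.result n q hn heven hF hex) ρ g hg

/-- NONTRIV2, arbitrary finite-dimensional space, even `n`. -/
theorem su_finrank_ge {F : Type*} [Field F] [Fintype F] [DecidableEq F] (n q : ℕ) (hn : 4 ≤ n)
    (heven : Even n) (hF : Fintype.card F = q ^ 2)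
    (hex : (n, q) ≠ (4, 2) ∧ (n, q) ≠ (4, 3))
    {V : Type*} [AddCommGroup V] [Module ℂ V] [FiniteDimensional ℂ V]
    (ρ : Representation ℂ (Cfsg.SU n F q) V)
    (g : Cfsg.SU n F q) (hg : ρ g ≠ 1) :
    (q ^ n - 1) / (q + 1) ≤ Module.finrank ℂ V := by
  classical
  have : Fintype ↥(Cfsg.SU n F q) := Fintype.ofFinite _
  exact Cfsg.Agent.Lib.Helper2.E6MNontriv.finrank_ge_of_acts_nontrivially
    (Cfsg.Agent.Lib.Helper6.Lbg.su_perfect hF (by omega) (by omega)) _
    (Cfsg.Agent.S2335.result n q hn heven hF hex) ρ g hg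

/-- NONTRIV2, pulled back along a homomorphism `φ : SU_n(q) →* G` (the shape used for a Levi
factor), even `n`: if `ρ (φ g) ≠ 1` then the space has dimension at least `(q^n - 1)/(q + 1)`. -/
theorem finrank_ge_of_hom {F : Type*} [Field F] [Fintype F] [DecidableEq F] (n q : ℕ) (hn : 4 ≤ n)
    (heven : Even n) (hF : Fintype.card F = q ^ 2)
    (hex : (n, q) ≠ (4, 2) ∧ (n, q) ≠ (4, 3))
    {G : Type*} [Group G] (φ : Cfsg.SU n F q →* G)
    {V : Type*} [AddCommGroup V] [Module ℂ V] [FiniteDimensional ℂ V]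
    (ρ : Representation ℂ G V)
    (g : Cfsg.SU n F q) (hg : ρ (φ g) ≠ 1) :
    (q ^ n - 1) / (q + 1) ≤ Module.finrank ℂ V :=
  su_finrank_ge n q hn heven hF hex (MonoidHom.comp ρ φ : Representation ℂ _ V) g hg

/-- NONTRIV2, coordinate form, odd `n`. -/
theorem su_degree_ge_odd {F : Type*} [Field F] [Fintype F] [DecidableEq F] (n q : ℕ) (hn : 3 ≤ n)
    (hodd : Odd n) (hF : Fintype.card F = q ^ 2) (hex : (n, q) ≠ (3, 2))
    {k : ℕ} (ρ : Representation ℂ (Cfsg.SU n F q) (Fin k → ℂ))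
    (g : Cfsg.SU n F q) (hg : ρ g ≠ 1) :
    (q ^ n - q) / (q + 1) ≤ k := by
  classical
  have : Fintype ↥(Cfsg.SU n F q) := Fintype.ofFinite _
  exact Cfsg.Agent.Lib.Helper2.E6MNontriv.degree_ge_of_acts_nontrivially
    (Cfsg.Agent.Lib.Helper6.Lbg.su_perfect hF hn
      (by rintro ⟨rfl, rfl⟩; exact hex rfl)) _
    (Cfsg.Agent.S2334.result n q hn hodd hF hex) ρ g hg

/-- NONTRIV2, arbitrary finite-dimensional space, odd `n`. -/
theorem su_finrank_ge_odd {F : Type*} [Field F] [Fintype F] [DecidableEq F] (n q : ℕ) (hn : 3 ≤ n)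
    (hodd : Odd n) (hF : Fintype.card F = q ^ 2) (hex : (n, q) ≠ (3, 2))
    {V : Type*} [AddCommGroup V] [Module ℂ V] [FiniteDimensional ℂ V]
    (ρ : Representation ℂ (Cfsg.SU n F q) V)
    (g : Cfsg.SU n F q) (hg : ρ g ≠ 1) :
    (q ^ n - q) / (q + 1) ≤ Module.finrank ℂ V := by
  classical
  have : Fintype ↥(Cfsg.SU n F q) := Fintype.ofFinite _
  exact Cfsg.Agent.Lib.Helper2.E6MNontriv.finrank_ge_of_acts_nontrivially
    (Cfsg.Agent.Lib.Helper6.Lbg.su_perfect hF hn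
      (by rintro ⟨rfl, rfl⟩; exact hex rfl)) _
    (Cfsg.Agent.S2334.result n q hn hodd hF hex) ρ g hg

/-- NONTRIV2, pulled back along a homomorphism, odd `n`. -/
theorem finrank_ge_of_hom_odd {F : Type*} [Field F] [Fintype F] [DecidableEq F] (n q : ℕ)
    (hn : 3 ≤ n) (hodd : Odd n) (hF : Fintype.card F = q ^ 2) (hex : (n, q) ≠ (3, 2))
    {G : Type*} [Group G] (φ : Cfsg.SU n F q →* G)
    {V : Type*} [AddCommGroup V] [Module ℂ V] [FiniteDimensional ℂ V]
    (ρ : Representation ℂ G V)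
    (g : Cfsg.SU n F q) (hg : ρ (φ g) ≠ 1) :
    (q ^ n - q) / (q + 1) ≤ Module.finrank ℂ V :=
  su_finrank_ge_odd n q hn hodd hF hex (MonoidHom.comp ρ φ : Representation ℂ _ V) g hg

end Cfsg.Agent.Lib.Helper1.E6M2
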