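import Mathlib
import Cfsg.Prelude
import Cfsg.Agent.Lib.Helper5.HermSU
import Cfsg.Agent.Lib.Helper5.E6MDefs

/-!
# E6M2 unit GENSU (S2341 farm): the split unitary group `SU₆` is generated by its root elements

`K` a field with `q²` elements, `d : Fin 6 → K` with `d i ≠ 0`, `d (5 - i) = (d i)^q`.
`Jd q d u v = ∑ i, d i * u i * (v (5 - i))^q` is a nondegenerate hermitian form with the three
hyperbolic pairs `(e₀, e₅), (e₁, e₄), (e₂, e₃)`; `SUJ q d` its special isometry group inside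
`SL₆(K)`.  The root elements are `xs i j t = (1 + t E_ij)(1 + s E_{5-j,5-i})`,
`s = -(d (5-i) / d (5-j)) t^q` (`i ≠ j`, `i + j ≠ 5`), and `xl i t = 1 + t E_{i,5-i}` with
`d i * t + d (5-i) * t^q = 0`.
-/

set_option autoImplicit false
set_option linter.unusedSectionVars false
set_option linter.unusedVariables false
set_option linter.unusedSimpArgs false

namespace Cfsg.Agent.Lib.Helper1.E6M2SU

open Matrix Cfsg Cfsg.Agent.Lib.Helper5.Herm Cfsg.Agent.Lib.Helper5.HermBridge
open Cfsg.Agent.Lib.Helper5.E6M (SL6 IJ tv)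

variable {K : Type*} [Field K]

/-- the split hermitian form with weights `d` -/
def Jd (q : ℕ) (d : Fin 6 → K) (u v : Fin 6 → K) : K :=
  ∑ i, d i * u i * (v (Fin.rev i)) ^ q

/-- the special isometry group of `Jd q d` -/
def SUJ (q : ℕ) (d : Fin 6 → K) : Subgroup (SL6 K) :=
  Cfsg.preserving (Cfsg.slToMat 6 K) (Jd q d)

theorem mem_SUJ {q : ℕ} {d : Fin 6 → K} (g : SL6 K) :
    g ∈ SUJ q d ↔ ∀ u v, Jd q d (g.1 *ᵥ u) (g.1 *ᵥ v) = Jd q d u v := Iff.rfl

theorem rev_ne_self (i : Fin 6) : Fin.rev i ≠ i := by revert i; decide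

theorem self_ne_rev (i : Fin 6) : i ≠ Fin.rev i := by revert i; decide

/-- the action of an elementary matrix on a vector -/
theorem tv_mulVec (p : IJ) (t : K) (w : Fin 6 → K) :
    (tv p t).1 *ᵥ w = fun k => w k + if k = p.1.1 then t * w p.1.2 else 0 := by
  funext k
  show (Matrix.transvection p.1.1 p.1.2 t *ᵥ w) k = _
  rw [Matrix.transvection, Matrix.add_mulVec, Matrix.one_mulVec, Matrix.single_mulVec]
  by_cases h : k = p.1.1
  · subst h; simp
  · simp [h, Function.update_of_ne h]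

/-- the short root elements -/
def xs (q : ℕ) (d : Fin 6 → K) (i j : Fin 6) (hij : i ≠ j) (hr : i ≠ Fin.rev j) (t : K) : SL6 K :=
  tv ⟨(i, j), hij⟩ t *
    tv ⟨(Fin.rev j, Fin.rev i), fun h => hij (Fin.rev_injective h).symm⟩
      (-(d (Fin.rev i) / d (Fin.rev j)) * t ^ q)

/-- the long root elements (the parameter is subject to `d i * t + d (5-i) * t^q = 0`) -/
def xl (i : Fin 6) (t : K) : SL6 K := tv ⟨(i, Fin.rev i), self_ne_rev i⟩ t

theorem xs_mulVec (q : ℕ) (d : Fin 6 → K) (i j : Fin 6) (hij : i ≠ j) (hr : i ≠ Fin.rev j) (t : K)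
    (w : Fin 6 → K) :
    (xs q d i j hij hr t).1 *ᵥ w = fun k => w k + (if k = i then t * w j else 0) +
      (if k = Fin.rev j then (-(d (Fin.rev i) / d (Fin.rev j)) * t ^ q) * w (Fin.rev i) else 0) := by
  unfold xs
  rw [Matrix.SpecialLinearGroup.coe_mul, ← Matrix.mulVec_mulVec, tv_mulVec, tv_mulVec]
  funext k
  have h1 : j ≠ Fin.rev j := self_ne_rev j
  simp only [h1, if_false, add_zero]
  ring

theorem xl_mulVec (i : Fin 6) (t : K) (w : Fin 6 → K) :
    (xl i t).1 *ᵥ w = fun k => w k + if k = i then t * w (Fin.rev i) else 0 := by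
  unfold xl
  rw [tv_mulVec]

/-- the set of root elements -/
def rootSet (q : ℕ) (d : Fin 6 → K) : Set (SL6 K) :=
  {g | ∃ (i j : Fin 6) (hij : i ≠ j) (hr : i ≠ Fin.rev j) (t : K), g = xs q d i j hij hr t} ∪
  {g | ∃ (i : Fin 6) (t : K), d i * t + d (Fin.rev i) * t ^ q = 0 ∧ g = xl i t}

/-- the subgroup generated by the root elements -/
def R (q : ℕ) (d : Fin 6 → K) : Subgroup (SL6 K) := Subgroup.closure (rootSet q d)

/-! ### algebra of the form -/

section form

variable [Fintype K] {q : ℕ} (hF : Fintype.card K = q ^ 2) (d : Fin 6 → K)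

theorem Jd_add_left (u u' v : Fin 6 → K) : Jd q d (u + u') v = Jd q d u v + Jd q d u' v := by
  unfold Jd
  rw [← Finset.sum_add_distrib]
  exact Finset.sum_congr rfl fun i _ => by rw [Pi.add_apply]; ring

include hF in
theorem Jd_add_right (u v v' : Fin 6 → K) : Jd q d u (v + v') = Jd q d u v + Jd q d u v' := by
  unfold Jd
  rw [← Finset.sum_add_distrib]
  exact Finset.sum_congr rfl fun i _ => by rw [Pi.add_apply, pow_q_add hF]; ring

theorem Jd_smul_left (a : K) (u v : Fin 6 → K) : Jd q d (a • u) v = a * Jd q d u v := by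
  unfold Jd
  rw [Finset.mul_sum]
  exact Finset.sum_congr rfl fun i _ => by rw [Pi.smul_apply, smul_eq_mul]; ring

theorem Jd_smul_right (a : K) (u v : Fin 6 → K) : Jd q d u (a • v) = a ^ q * Jd q d u v := by
  unfold Jd
  rw [Finset.mul_sum]
  exact Finset.sum_congr rfl fun i _ => by rw [Pi.smul_apply, smul_eq_mul, mul_pow]; ring

include hF in
theorem Jd_single_left (a : Fin 6) (x : K) (v : Fin 6 → K) :
    Jd q d (Pi.single a x) v = d a * x * (v (Fin.rev a)) ^ q := by
  unfold Jd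
  rw [Finset.sum_eq_single a]
  · rw [Pi.single_eq_same]
  · intro b _ hb
    rw [Pi.single_eq_of_ne hb, mul_zero, zero_mul]
  · intro h; exact absurd (Finset.mem_univ a) h

include hF in
theorem Jd_single_right (a : Fin 6) (x : K) (u : Fin 6 → K) :
    Jd q d u (Pi.single a x) = d (Fin.rev a) * u (Fin.rev a) * x ^ q := by
  unfold Jd
  rw [Finset.sum_eq_single (Fin.rev a)]
  · rw [Fin.rev_rev, Pi.single_eq_same]
  · intro b _ hb
    have : Fin.rev b ≠ a := fun h => hb (by rw [← h, Fin.rev_rev])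
    rw [Pi.single_eq_of_ne this, zero_pow (q_ne_zero hF), mul_zero]
  · intro h; exact absurd (Finset.mem_univ _) h

include hF in
/-- hermitian symmetry -/
theorem Jd_conj (hdh : ∀ i, d (Fin.rev i) = (d i) ^ q) (u v : Fin 6 → K) :
    (Jd q d u v) ^ q = Jd q d v u := by
  unfold Jd
  rw [pow_q_sum hF]
  rw [← Equiv.sum_comp (Fin.revPerm (n := 6))]
  refine Finset.sum_congr rfl fun i _ => ?_
  rw [Fin.revPerm_apply, Fin.rev_rev, mul_pow, mul_pow, hdh i]
  simp only [pow_q_pow_q hF]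
  ring

theorem xs_mulVec' (i j : Fin 6) (hij : i ≠ j) (hr : i ≠ Fin.rev j) (t : K) (w : Fin 6 → K) :
    (xs q d i j hij hr t).1 *ᵥ w = w + Pi.single i (t * w j) +
      Pi.single (Fin.rev j) ((-(d (Fin.rev i) / d (Fin.rev j)) * t ^ q) * w (Fin.rev i)) := by
  rw [xs_mulVec]
  funext k
  simp only [Pi.add_apply, Pi.single_apply]

theorem xl_mulVec' (i : Fin 6) (t : K) (w : Fin 6 → K) :
    (xl i t).1 *ᵥ w = w + Pi.single i (t * w (Fin.rev i)) := by
  rw [xl_mulVec]
  funext k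
  simp only [Pi.add_apply, Pi.single_apply]

include hF in
theorem xs_mem (hd : ∀ i, d i ≠ 0) (hdh : ∀ i, d (Fin.rev i) = (d i) ^ q)
    (i j : Fin 6) (hij : i ≠ j) (hr : i ≠ Fin.rev j) (t : K) : xs q d i j hij hr t ∈ SUJ q d := by
  rw [mem_SUJ]
  intro u v
  have hs : (-(d (Fin.rev i) / d (Fin.rev j)) * t ^ q) ^ q = -(d i / d j) * t := by
    rw [mul_pow, pow_q_pow_q hF, neg_pow, pow_q_neg_one hF, div_pow, ← hdh, ← hdh, Fin.rev_rev,
      Fin.rev_rev]
    ring
  have h1 : Fin.rev i ≠ i := rev_ne_self i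
  have h2 : Fin.rev i ≠ Fin.rev j := fun h => hij (Fin.rev_injective h)
  have h3 : j ≠ i := fun h => hij h.symm
  have h4 : Fin.rev (Fin.rev j) ≠ Fin.rev j := rev_ne_self _
  have h5 : Fin.rev (Fin.rev j) ≠ i := by rw [Fin.rev_rev]; exact h3
  rw [xs_mulVec', xs_mulVec']
  simp only [Jd_add_left, Jd_add_right hF, Jd_single_left hF, Pi.add_apply, Pi.single_apply, h1, h2,
    h4, h5, if_false, add_zero, Jd_single_right hF]
  rw [Fin.rev_rev] at *
  simp only [h3, if_false, add_zero, mul_pow, hs, zero_pow (q_ne_zero hF), mul_zero]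
  have hj := hd j
  have hj' := hd (Fin.rev j)
  field_simp
  ring

include hF in
theorem xl_mem (i : Fin 6) (t : K) (ht : d i * t + d (Fin.rev i) * t ^ q = 0) :
    xl i t ∈ SUJ q d := by
  rw [mem_SUJ]
  intro u v
  have h1 : Fin.rev i ≠ i := rev_ne_self i
  rw [xl_mulVec', xl_mulVec']
  simp only [Jd_add_left, Jd_add_right hF, Jd_single_left hF, Pi.add_apply, Pi.single_apply, h1,
    if_false, add_zero, Jd_single_right hF, mul_pow, zero_pow (q_ne_zero hF), mul_zero]
  linear_combination (u (Fin.rev i) * v (Fin.rev i) ^ q) * ht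

include hF in
theorem R_le_SUJ (hd : ∀ i, d i ≠ 0) (hdh : ∀ i, d (Fin.rev i) = (d i) ^ q) :
    R q d ≤ SUJ q d := by
  unfold R
  rw [Subgroup.closure_le]
  rintro g (⟨i, j, hij, hr, t, rfl⟩ | ⟨i, t, ht, rfl⟩)
  · exact xs_mem hF d hd hdh i j hij hr t
  · exact xl_mem hF d i t ht

end form

/-! ### transitivity of `R` on the non-zero isotropic vectors -/

section trans

variable [Fintype K] {q : ℕ} (hF : Fintype.card K = q ^ 2) (d : Fin 6 → K)

/-- `w'` is in the `R`-orbit of `w` -/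
def Reach (q : ℕ) (d : Fin 6 → K) (w w' : Fin 6 → K) : Prop := ∃ g ∈ R q d, g.1 *ᵥ w = w'

theorem Reach.refl (w : Fin 6 → K) : Reach q d w w :=
  ⟨1, Subgroup.one_mem _, by rw [Matrix.SpecialLinearGroup.coe_one, Matrix.one_mulVec]⟩

theorem Reach.trans {w w' w'' : Fin 6 → K} (h : Reach q d w w') (h' : Reach q d w' w'') :
    Reach q d w w'' := by
  obtain ⟨g, hg, rfl⟩ := h
  obtain ⟨g', hg', rfl⟩ := h'
  exact ⟨g' * g, Subgroup.mul_mem _ hg' hg, by
    rw [Matrix.SpecialLinearGroup.coe_mul, Matrix.mulVec_mulVec]⟩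

theorem reach_xs (i j : Fin 6) (hij : i ≠ j) (hr : i ≠ Fin.rev j) (t : K) (w : Fin 6 → K) :
    Reach q d w ((xs q d i j hij hr t).1 *ᵥ w) :=
  ⟨_, Subgroup.subset_closure (Or.inl ⟨i, j, hij, hr, t, rfl⟩), rfl⟩

theorem reach_xl (i : Fin 6) (t : K) (ht : d i * t + d (Fin.rev i) * t ^ q = 0) (w : Fin 6 → K) :
    Reach q d w ((xl i t).1 *ᵥ w) :=
  ⟨_, Subgroup.subset_closure (Or.inr ⟨i, t, ht, rfl⟩), rfl⟩

include hF in
theorem Reach.Jd_eq (hd : ∀ i, d i ≠ 0) (hdh : ∀ i, d (Fin.rev i) = (d i) ^ q)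
    {w w' : Fin 6 → K} (h : Reach q d w w') : Jd q d w' w' = Jd q d w w := by
  obtain ⟨g, hg, rfl⟩ := h
  exact (mem_SUJ g).mp (R_le_SUJ hF d hd hdh hg) w w

theorem rev0 : Fin.rev (0 : Fin 6) = 5 := rfl
theorem rev1 : Fin.rev (1 : Fin 6) = 4 := rfl
theorem rev2 : Fin.rev (2 : Fin 6) = 3 := rfl
theorem rev3 : Fin.rev (3 : Fin 6) = 2 := rfl
theorem rev4 : Fin.rev (4 : Fin 6) = 1 := rfl
theorem rev5 : Fin.rev (5 : Fin 6) = 0 := rfl

/-- step 1a: a non-zero coordinate outside `{0, 5}` can be moved to the coordinate `0` -/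
theorem reach_coord0_a (w : Fin 6 → K) (h0 : w 0 = 0) (j : Fin 6) (hj0 : j ≠ 0) (hj5 : j ≠ 5)
    (hj : w j ≠ 0) : ∃ w', Reach q d w w' ∧ w' 0 ≠ 0 := by
  have hr : (0 : Fin 6) ≠ Fin.rev j := by
    intro h
    apply hj5
    rw [← Fin.rev_rev j, ← h]; rfl
  refine ⟨_, reach_xs d 0 j (Ne.symm hj0) hr 1 w, ?_⟩
  rw [xs_mulVec]
  simp only [if_true, hr, if_false, add_zero, h0, zero_add, one_mul]
  exact hj

/-- step 1: some vector of the orbit has non-zero coordinate `0` -/
theorem reach_coord0 (w : Fin 6 → K) (hw : w ≠ 0) : ∃ w', Reach q d w w' ∧ w' 0 ≠ 0 := by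
  by_cases h0 : w 0 = 0
  · by_cases hex : ∃ j : Fin 6, j ≠ 0 ∧ j ≠ 5 ∧ w j ≠ 0
    · obtain ⟨j, hj0, hj5, hj⟩ := hex
      exact reach_coord0_a d w h0 j hj0 hj5 hj
    · have hz : ∀ j : Fin 6, j ≠ 0 → j ≠ 5 → w j = 0 := by
        intro j hj0 hj5
        by_contra hj
        exact hex ⟨j, hj0, hj5, hj⟩
      have h5 : w 5 ≠ 0 := by
        intro h5
        apply hw
        funext k
        by_cases hk0 : k = 0
        · rw [hk0]; exact h0
        · by_cases hk5 : k = 5
          · rw [hk5]; exact h5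
          · exact hz k hk0 hk5
      -- move the coordinate 5 to the coordinate 1
      have hstep := reach_xs (q := q) d 1 5 (by decide) (by decide) 1 w
      set w1 := (xs q d 1 5 (by decide) (by decide) 1).1 *ᵥ w with hw1
      have h10 : w1 0 = 0 := by
        rw [hw1, xs_mulVec]
        simp only [rev5, rev1, h0, hz 4 (by decide) (by decide), mul_zero, ite_self, add_zero,
          show ((0 : Fin 6) = 1) = False from by simp, if_false]
      have h11 : w1 1 ≠ 0 := by
        rw [hw1, xs_mulVec]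
        simp only [rev5, rev1, hz 1 (by decide) (by decide), zero_add, if_true, one_mul,
          show ((1 : Fin 6) = 0) = False from by simp, if_false, add_zero]
        exact h5
      obtain ⟨w', hw', h⟩ := reach_coord0_a d w1 h10 1 (by decide) (by decide) h11
      exact ⟨w', hstep.trans d hw', h⟩
  · exact ⟨w, Reach.refl d w, h0⟩

/-- step 2a: clear the coordinate `j ∉ {0, 5}`, only the coordinates `j` and `5` change -/
theorem clear_one (w : Fin 6 → K) (h0 : w 0 ≠ 0) (j : Fin 6) (hj0 : j ≠ 0) (hj5 : j ≠ 5) :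
    ∃ w', Reach q d w w' ∧ w' j = 0 ∧ ∀ k, k ≠ j → k ≠ 5 → w' k = w k := by
  have hr : j ≠ Fin.rev 0 := hj5
  refine ⟨_, reach_xs d j 0 hj0 hr (-(w j / w 0)) w, ?_, ?_⟩
  · rw [xs_mulVec]
    simp only [if_true, hr, if_false, add_zero]
    field_simp
    ring
  · intro k hkj hk5
    have hk5' : k ≠ Fin.rev 0 := hk5
    rw [xs_mulVec]
    simp only [hkj, hk5', if_false, add_zero]

/-- step 2: clear the coordinates `1, 2, 3, 4` -/
theorem reach_clear (w : Fin 6 → K) (h0 : w 0 ≠ 0) :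
    ∃ w', Reach q d w w' ∧ w' 0 = w 0 ∧ w' 1 = 0 ∧ w' 2 = 0 ∧ w' 3 = 0 ∧ w' 4 = 0 := by
  obtain ⟨w1, hr1, h11, hk1⟩ := clear_one (q := q) d w h0 1 (by decide) (by decide)
  have h10 : w1 0 = w 0 := hk1 0 (by decide) (by decide)
  obtain ⟨w2, hr2, h22, hk2⟩ := clear_one (q := q) d w1 (by rw [h10]; exact h0) 2 (by decide)
    (by decide)
  have h20 : w2 0 = w 0 := by rw [hk2 0 (by decide) (by decide), h10]
  obtain ⟨w3, hr3, h33, hk3⟩ := clear_one (q := q) d w2 (by rw [h20]; exact h0) 3 (by decide)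
    (by decide)
  have h30 : w3 0 = w 0 := by rw [hk3 0 (by decide) (by decide), h20]
  obtain ⟨w4, hr4, h44, hk4⟩ := clear_one (q := q) d w3 (by rw [h30]; exact h0) 4 (by decide)
    (by decide)
  refine ⟨w4, ((hr1.trans d hr2).trans d hr3).trans d hr4, ?_, ?_, ?_, ?_, h44⟩
  · rw [hk4 0 (by decide) (by decide), h30]
  · rw [hk4 1 (by decide) (by decide), hk3 1 (by decide) (by decide),
      hk2 1 (by decide) (by decide), h11]
  · rw [hk4 2 (by decide) (by decide), hk3 2 (by decide) (by decide), h22]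
  · rw [hk4 3 (by decide) (by decide), h33]

include hF in
/-- step 3: an isotropic vector supported on `{0, 5}` with non-zero coordinate `0` is moved
to a multiple of `e₀` by a long root element -/
theorem reach_line (hd : ∀ i, d i ≠ 0) (hdh : ∀ i, d (Fin.rev i) = (d i) ^ q)
    (w : Fin 6 → K) (h0 : w 0 ≠ 0) (h1 : w 1 = 0) (h2 : w 2 = 0) (h3 : w 3 = 0) (h4 : w 4 = 0)
    (hiso : Jd q d w w = 0) : Reach q d w (Pi.single 0 (w 0)) := by
  have hJ : d 0 * w 0 * (w 5) ^ q + d 5 * w 5 * (w 0) ^ q = 0 := by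
    have := hiso
    unfold Jd at this
    rw [Fin.sum_univ_six] at this
    simp only [rev0, rev1, rev2, rev3, rev4, rev5, h1, h2, h3, h4, mul_zero, zero_mul, add_zero,
      zero_pow (q_ne_zero hF)] at this
    exact this
  have h0q : (w 0) ^ q ≠ 0 := pow_ne_zero _ h0
  have ht : d 5 * (-(w 5 / w 0)) + d (Fin.rev 5) * (-(w 5 / w 0)) ^ q = 0 := by
    rw [rev5, neg_pow, pow_q_neg_one hF, div_pow]
    field_simp
    linear_combination (-1 : K) * hJ
  have hstep := reach_xl d 5 (-(w 5 / w 0)) ht w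
  have : (xl 5 (-(w 5 / w 0))).1 *ᵥ w = Pi.single 0 (w 0) := by
    rw [xl_mulVec]
    funext k
    fin_cases k
    · simp
    · simp [h1]
    · simp [h2]
    · simp [h3]
    · simp [h4]
    · simp only [rev5, Fin.reduceFinMk, if_true]
      rw [Pi.single_eq_of_ne (by decide)]
      field_simp
      ring
  rw [this] at hstep
  exact hstep

/-- step 4: `c e₀` is moved to `e₀` -/
theorem reach_scale (c : K) (hc : c ≠ 0) : Reach q d (Pi.single 0 c) (Pi.single 0 1) := by
  have e1 : (xs q d 1 0 (by decide) (by decide) (1 / c)).1 *ᵥ (Pi.single 0 c) =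
      ![c, 1, 0, 0, 0, 0] := by
    rw [xs_mulVec]
    funext k
    fin_cases k <;> simp [rev0, rev1, hc]
  have e2 : (xs q d 0 1 (by decide) (by decide) (1 - c)).1 *ᵥ ![c, 1, 0, 0, 0, 0] =
      ![1, 1, 0, 0, 0, 0] := by
    rw [xs_mulVec]
    funext k
    fin_cases k <;> simp [rev0, rev1]
  have e3 : (xs q d 1 0 (by decide) (by decide) (-1)).1 *ᵥ ![1, 1, 0, 0, 0, 0] =
      Pi.single 0 1 := by
    rw [xs_mulVec]
    funext k
    fin_cases k <;> simp [rev0, rev1]
  have s1 := reach_xs (q := q) d 1 0 (by decide) (by decide) (1 / c) (Pi.single 0 c)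
  have s2 := reach_xs (q := q) d 0 1 (by decide) (by decide) (1 - c) ![c, 1, 0, 0, 0, 0]
  have s3 := reach_xs (q := q) d 1 0 (by decide) (by decide) (-1) ![1, 1, 0, 0, 0, 0]
  rw [e1] at s1
  rw [e2] at s2
  rw [e3] at s3
  exact (s1.trans d s2).trans d s3

include hF in
/-- `R` is transitive on the non-zero isotropic vectors -/
theorem reach_e0 (hd : ∀ i, d i ≠ 0) (hdh : ∀ i, d (Fin.rev i) = (d i) ^ q)
    (w : Fin 6 → K) (hw : w ≠ 0) (hiso : Jd q d w w = 0) : Reach q d w (Pi.single 0 1) := by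
  obtain ⟨w1, hr1, h10⟩ := reach_coord0 (q := q) d w hw
  obtain ⟨w2, hr2, h20, h21, h22, h23, h24⟩ := reach_clear (q := q) d w1 h10
  have hr12 := hr1.trans d hr2
  have hiso2 : Jd q d w2 w2 = 0 := by rw [hr12.Jd_eq hF d hd hdh, hiso]
  have h20' : w2 0 ≠ 0 := by rw [h20]; exact h10
  have hr3 := reach_line hF d hd hdh w2 h20' h21 h22 h23 h24 hiso2
  exact (hr12.trans d hr3).trans d (reach_scale d (w2 0) h20')

include hF in
/-- every transvection of `SUJ` lies in `R` -/
theorem transvection_mem (hd : ∀ i, d i ≠ 0) (hdh : ∀ i, d (Fin.rev i) = (d i) ^ q)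
    (g : SL6 K) (hg : g ∈ SUJ q d) (w : Fin 6 → K) (hiso : Jd q d w w = 0) (c : K)
    (hgw : ∀ x, g.1 *ᵥ x = x + (c * Jd q d x w) • w) : g ∈ R q d := by
  by_cases hw : w = 0
  · have : g = 1 := by
      apply Subtype.ext
      apply Matrix.mulVec_injective
      funext x
      rw [hgw x, hw, smul_zero, add_zero, Matrix.SpecialLinearGroup.coe_one, Matrix.one_mulVec]
    rw [this]
    exact Subgroup.one_mem _
  · obtain ⟨h, hh, hhw⟩ := reach_e0 hF d hd hdh w hw hiso
    have hhS : h ∈ SUJ q d := R_le_SUJ hF d hd hdh hh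
    have hinv : ∀ x, h.1 *ᵥ ((h⁻¹).1 *ᵥ x) = x := by
      intro x
      rw [Matrix.mulVec_mulVec, ← Matrix.SpecialLinearGroup.coe_mul, mul_inv_cancel,
        Matrix.SpecialLinearGroup.coe_one, Matrix.one_mulVec]
    set t : K := c * d 5 with ht
    have hg' : h * g * h⁻¹ = xl 0 t := by
      apply Subtype.ext
      apply Matrix.mulVec_injective
      funext x
      rw [Matrix.SpecialLinearGroup.coe_mul, Matrix.SpecialLinearGroup.coe_mul,
        ← Matrix.mulVec_mulVec, ← Matrix.mulVec_mulVec, hgw, Matrix.mulVec_add,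
        Matrix.mulVec_smul, hinv, hhw, xl_mulVec']
      have h1 : Jd q d ((h⁻¹).1 *ᵥ x) w = Jd q d x (Pi.single 0 1) := by
        rw [← (mem_SUJ h).mp hhS, hinv, hhw]
      rw [h1, Jd_single_right hF, rev0, one_pow, mul_one, ht]
      congr 1
      funext k
      rw [Pi.smul_apply, Pi.single_apply, Pi.single_apply]
      split_ifs
      · rw [smul_eq_mul, mul_one]; ring
      · rw [smul_zero]
    have hxS : xl 0 t ∈ SUJ q d := by
      rw [← hg']
      exact Subgroup.mul_mem _ (Subgroup.mul_mem _ hhS hg) (Subgroup.inv_mem _ hhS)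
    have hcond : d 0 * t + d (Fin.rev 0) * t ^ q = 0 := by
      have h5 := (mem_SUJ _).mp hxS (Pi.single 5 1) (Pi.single 5 1)
      rw [xl_mulVec'] at h5
      simp only [Jd_add_left, Jd_add_right hF, Jd_single_left hF, Jd_single_right hF, rev0, rev5,
        Pi.add_apply, Pi.single_apply] at h5
      simp only [show ((0 : Fin 6) = 5) = False from by simp, show ((5 : Fin 6) = 0) = False from by simp,
        if_false, if_true, zero_pow (q_ne_zero hF), mul_zero, zero_add, add_zero, one_pow, mul_one,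
        zero_mul] at h5
      rw [rev0]
      linear_combination h5
    have hxR : xl 0 t ∈ R q d := Subgroup.subset_closure (Or.inr ⟨0, t, hcond, rfl⟩)
    have : g = h⁻¹ * (h * g * h⁻¹) * h := by group
    rw [this, hg']
    exact Subgroup.mul_mem _ (Subgroup.mul_mem _ (Subgroup.inv_mem _ hh) hxR) hh

end trans

end Cfsg.Agent.Lib.Helper1.E6M2SU
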