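import Mathlib
import Cfsg.Prelude
import Cfsg.Agent.Lib.Helper5.HermSU
import Cfsg.Agent.Lib.Helper5.HermBasis
import Cfsg.Agent.Lib.Helper1.E6M2SU

/-!
# E6M2 units ISO + GENSU (S2341 farm)

The split form `Jd q d` has an orthonormal basis (helper5's `HermBasis`), so `Cfsg.SU 6 K q`
(identity form) is conjugate inside `GL₆(K)` to `SUJ q d`; transporting helper5's
"`SU_n(q)` is generated by the unitary transvections" gives `SUJ q d = R q d` (generated by the
root elements).
-/

set_option autoImplicit false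
set_option linter.unusedSectionVars false
set_option linter.unusedVariables false
set_option linter.unusedSimpArgs false

namespace Cfsg.Agent.Lib.Helper1.E6M2SU

open Matrix Cfsg Cfsg.Agent.Lib.Helper5 Cfsg.Agent.Lib.Helper5.Herm Cfsg.Agent.Lib.Helper5.HermBridge
open Cfsg.Agent.Lib.Helper5.E6M (SL6 IJ tv)

variable {K : Type*} [Field K] [Fintype K] {q : ℕ} (hF : Fintype.card K = q ^ 2) (d : Fin 6 → K)

/-- the form as a sesquilinear map, semilinear in the first variable: `B x y = Jd y x` -/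
def JdSesq : (Fin 6 → K) →ₛₗ[HermBridge.sigma hF] (Fin 6 → K) →ₗ[K] K :=
  LinearMap.mk₂'ₛₗ (HermBridge.sigma hF) (RingHom.id K) (fun x y => Jd q d y x)
    (fun x x' y => Jd_add_right hF d y x x')
    (fun c x y => by rw [Jd_smul_right, sigma_apply, smul_eq_mul])
    (fun x y y' => Jd_add_left d y y' x)
    (fun c x y => by rw [Jd_smul_left, RingHom.id_apply, smul_eq_mul])

@[simp] theorem JdSesq_apply (x y : Fin 6 → K) : JdSesq hF d x y = Jd q d y x := rfl

theorem JdSesq_isSymm (hdh : ∀ i, d (Fin.rev i) = (d i) ^ q) : (JdSesq hF d).IsSymm :=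
  ⟨fun x y => by rw [JdSesq_apply, JdSesq_apply, sigma_apply, Jd_conj hF d hdh]⟩

theorem JdSesq_nondegenerate (hd : ∀ i, d i ≠ 0) : (JdSesq hF d).Nondegenerate := by
  constructor
  · intro x hx
    funext i
    have := hx (Pi.single (Fin.rev i) 1)
    rw [JdSesq_apply, Jd_single_left hF, Fin.rev_rev, mul_one] at this
    have h2 := (mul_eq_zero.mp this).resolve_left (hd _)
    exact pow_eq_zero_iff (q_ne_zero hF) |>.mp h2
  · intro y hy
    funext i
    have := hy (Pi.single (Fin.rev i) 1)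
    rw [JdSesq_apply, Jd_single_right hF, Fin.rev_rev, one_pow, mul_one] at this
    exact (mul_eq_zero.mp this).resolve_left (hd _)

include hF in
/-- a linear automorphism of `K⁶` carrying the identity form to `Jd q d` -/
theorem exists_isometry (hd : ∀ i, d i ≠ 0) (hdh : ∀ i, d (Fin.rev i) = (d i) ^ q) :
    ∃ e : (Fin 6 → K) ≃ₗ[K] (Fin 6 → K),
      ∀ u v, Jd q d (e u) (e v) = hermForm 6 K q u v := by
  obtain ⟨b, hb⟩ := Cfsg.Agent.Lib.Helper5.HermBasis.exists_orthonormal (sigma_ne_id hF)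
    (sigma_sigma hF) 6 (JdSesq hF d) (JdSesq_isSymm hF d hdh) (JdSesq_nondegenerate hF d hd)
    (by simp)
  have hli := Cfsg.Agent.Lib.Helper5.HermBasis.linearIndependent_of_orthonormal (JdSesq hF d) b hb
  let bb : Module.Basis (Fin 6) K (Fin 6 → K) :=
    basisOfLinearIndependentOfCardEqFinrank' b hli (by simp)
  have hbb : ∀ i, bb i = b i := fun i => by
    simp only [bb, coe_basisOfLinearIndependentOfCardEqFinrank']
  refine ⟨bb.equivFun.symm, ?_⟩
  intro u v
  rw [Module.Basis.equivFun_symm_apply, Module.Basis.equivFun_symm_apply]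
  rw [← JdSesq_apply hF d]
  simp only [map_sum, LinearMap.sum_apply, map_smulₛₗ, LinearMap.smul_apply, hbb, hb, smul_eq_mul,
    sigma_apply, RingHom.id_apply, mul_ite, mul_one, mul_zero, Finset.sum_ite_eq,
    Finset.sum_ite_eq', Finset.mem_univ, if_true]
  unfold hermForm
  rfl

omit [Fintype K] in
theorem toMatrix'_mul_symm (e : (Fin 6 → K) ≃ₗ[K] (Fin 6 → K)) :
    LinearMap.toMatrix' (e : (Fin 6 → K) →ₗ[K] (Fin 6 → K)) *
      LinearMap.toMatrix' (e.symm : (Fin 6 → K) →ₗ[K] (Fin 6 → K)) = 1 := by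
  rw [← LinearMap.toMatrix'_comp, ← LinearMap.toMatrix'_id]
  congr 1
  ext v
  simp

omit [Fintype K] in
theorem toMatrix'_symm_mul (e : (Fin 6 → K) ≃ₗ[K] (Fin 6 → K)) :
    LinearMap.toMatrix' (e.symm : (Fin 6 → K) →ₗ[K] (Fin 6 → K)) *
      LinearMap.toMatrix' (e : (Fin 6 → K) →ₗ[K] (Fin 6 → K)) = 1 := by
  rw [← LinearMap.toMatrix'_comp, ← LinearMap.toMatrix'_id]
  congr 1
  ext v
  simp

/-- conjugation by a linear automorphism of `K⁶`, as an endomorphism of `SL₆(K)` -/
noncomputable def conjSL (e : (Fin 6 → K) ≃ₗ[K] (Fin 6 → K)) : SL6 K →* SL6 K where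
  toFun A := ⟨LinearMap.toMatrix' (e : (Fin 6 → K) →ₗ[K] (Fin 6 → K)) * A.1 *
      LinearMap.toMatrix' (e.symm : (Fin 6 → K) →ₗ[K] (Fin 6 → K)), by
    rw [Matrix.det_mul, Matrix.det_mul, A.2, mul_one, ← Matrix.det_mul, toMatrix'_mul_symm,
      Matrix.det_one]⟩
  map_one' := by
    apply Subtype.ext
    show _ * (1 : Matrix (Fin 6) (Fin 6) K) * _ = 1
    rw [mul_one, toMatrix'_mul_symm]
  map_mul' A B := by
    apply Subtype.ext
    show _ * (A.1 * B.1) * _ = (_ * A.1 * _) * (_ * B.1 * _)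
    have h := toMatrix'_symm_mul e
    calc _ = LinearMap.toMatrix' (e : (Fin 6 → K) →ₗ[K] (Fin 6 → K)) * A.1 * 1 * B.1 *
          LinearMap.toMatrix' (e.symm : (Fin 6 → K) →ₗ[K] (Fin 6 → K)) := by
            rw [mul_one, Matrix.mul_assoc _ A.1 B.1]
      _ = _ := by rw [← h]; simp only [Matrix.mul_assoc]

omit [Fintype K] in
theorem conjSL_mulVec (e : (Fin 6 → K) ≃ₗ[K] (Fin 6 → K)) (A : SL6 K) (x : Fin 6 → K) :
    (conjSL e A).1 *ᵥ x = e (A.1 *ᵥ (e.symm x)) := by
  show (_ * A.1 * _) *ᵥ x = _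
  rw [← Matrix.mulVec_mulVec, ← Matrix.mulVec_mulVec, LinearMap.toMatrix'_mulVec,
    LinearMap.toMatrix'_mulVec]
  rfl

omit [Fintype K] in
theorem conjSL_symm_conjSL (e : (Fin 6 → K) ≃ₗ[K] (Fin 6 → K)) (A : SL6 K) :
    conjSL e (conjSL e.symm A) = A := by
  apply Subtype.ext
  apply Matrix.mulVec_injective
  funext x
  rw [conjSL_mulVec, conjSL_mulVec]
  simp

omit [Fintype K] in
/-- conjugation by an isometry `e : (K⁶, herm) → (K⁶, Jd)` carries `SU₆(q)` onto `SUJ` -/
theorem conjSL_mem_SUJ_iff (e : (Fin 6 → K) ≃ₗ[K] (Fin 6 → K))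
    (he : ∀ u v, Jd q d (e u) (e v) = hermForm 6 K q u v) (A : SL6 K) :
    conjSL e A ∈ SUJ q d ↔ A ∈ Cfsg.SU 6 K q := by
  constructor
  · intro h u v
    have := (mem_SUJ _).mp h (e u) (e v)
    rw [conjSL_mulVec, conjSL_mulVec, he, he] at this
    simpa using this
  · intro h
    rw [mem_SUJ]
    intro u v
    rw [conjSL_mulVec, conjSL_mulVec, he]
    have h2 := h (e.symm u) (e.symm v)
    have h3 := he (e.symm u) (e.symm v)
    simp only [LinearEquiv.apply_symm_apply] at h3
    rw [h3]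
    exact h2

include hF in
/-- the conjugate of a unitary transvection is in `R` -/
theorem conj_tv_mem_R (hd : ∀ i, d i ≠ 0) (hdh : ∀ i, d (Fin.rev i) = (d i) ^ q)
    (e : (Fin 6 → K) ≃ₗ[K] (Fin 6 → K))
    (he : ∀ u v, Jd q d (e u) (e v) = hermForm 6 K q u v)
    (A : ↥(Cfsg.SU 6 K q)) (hA : A ∈ HermSU.tvSet K q 6) : conjSL e A.1 ∈ R q d := by
  obtain ⟨v, c, hv, hAv⟩ := hA
  apply transvection_mem hF d hd hdh _ ((conjSL_mem_SUJ_iff d e he A.1).mpr A.2) (e v)
    (by rw [he]; exact hv) c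
  intro x
  rw [conjSL_mulVec, hAv, unitaryTransvection_mulVec, map_add, map_smul,
    LinearEquiv.apply_symm_apply]
  congr 3
  have := he (e.symm x) v
  rw [LinearEquiv.apply_symm_apply] at this
  exact this.symm

include hF in
/-- **GENSU**: the split `SU₆` is generated by its root elements. -/
theorem SUJ_eq_R (hd : ∀ i, d i ≠ 0) (hdh : ∀ i, d (Fin.rev i) = (d i) ^ q) :
    SUJ q d = R q d := by
  apply le_antisymm _ (R_le_SUJ hF d hd hdh)
  obtain ⟨e, he⟩ := exists_isometry hF d hd hdh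
  intro g hg
  -- `g = conjSL e A` with `A ∈ SU 6 K q`
  have hA : conjSL e.symm g ∈ Cfsg.SU 6 K q := by
    rw [← conjSL_mem_SUJ_iff d e he, conjSL_symm_conjSL]
    exact hg
  have hcl := HermSU.closure_tvSet hF 6 (by norm_num) (by omega)
  have hmem : (⟨conjSL e.symm g, hA⟩ : ↥(Cfsg.SU 6 K q)) ∈ Subgroup.closure (HermSU.tvSet K q 6) := by
    rw [hcl]; exact Subgroup.mem_top _
  have key : ∀ B : ↥(Cfsg.SU 6 K q), B ∈ Subgroup.closure (HermSU.tvSet K q 6) →
      conjSL e B.1 ∈ R q d := by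
    intro B hB
    induction hB using Subgroup.closure_induction with
    | mem y hy => exact conj_tv_mem_R hF d hd hdh e he y hy
    | one => rw [Subgroup.coe_one, map_one]; exact Subgroup.one_mem _
    | mul y z _ _ hy hz => rw [Subgroup.coe_mul, map_mul]; exact Subgroup.mul_mem _ hy hz
    | inv y _ hy => rw [Subgroup.coe_inv, map_inv]; exact Subgroup.inv_mem _ hy
  have := key _ hmem
  rw [conjSL_symm_conjSL] at this
  exact this

/-! ### the embedding `SU₆(q) → SL₆(K)` with image `R` -/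

include hF in
/-- **ISO + GENSU**: there is an injective homomorphism `ι : SU₆(q) →* SL₆(K)` (a conjugation inside
`GL₆(K)`) whose range is the group generated by the root elements. -/
theorem exists_iota (hd : ∀ i, d i ≠ 0) (hdh : ∀ i, d (Fin.rev i) = (d i) ^ q) :
    ∃ ι : ↥(Cfsg.SU 6 K q) →* SL6 K, Function.Injective ι ∧ ι.range = R q d := by
  obtain ⟨e, he⟩ := exists_isometry hF d hd hdh
  refine ⟨(conjSL e).comp (Cfsg.SU 6 K q).subtype, ?_, ?_⟩
  · intro A B hAB
    apply Subtype.ext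
    have h1 : conjSL e A.1 = conjSL e B.1 := hAB
    have h2 := congrArg (conjSL e.symm) h1
    have h3 := conjSL_symm_conjSL e.symm A.1
    have h4 := conjSL_symm_conjSL e.symm B.1
    rw [LinearEquiv.symm_symm] at h3 h4
    rw [h3, h4] at h2
    exact h2
  · rw [← SUJ_eq_R hF d hd hdh]
    ext g
    constructor
    · rintro ⟨A, rfl⟩
      exact (conjSL_mem_SUJ_iff d e he A.1).mpr A.2
    · intro hg
      have hA : conjSL e.symm g ∈ Cfsg.SU 6 K q := by
        rw [← conjSL_mem_SUJ_iff d e he, conjSL_symm_conjSL]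
        exact hg
      exact ⟨⟨_, hA⟩, conjSL_symm_conjSL e g⟩

include hF in
/-- the shape used for the Levi factor: a homomorphism `φ : SL₆(K) →* G` sending the root elements
into a subgroup `T` restricts to a homomorphism `ψ : SU₆(q) →* T` whose image is `φ(R)`. -/
theorem exists_hom (hd : ∀ i, d i ≠ 0) (hdh : ∀ i, d (Fin.rev i) = (d i) ^ q)
    {G : Type*} [Group G] (φ : SL6 K →* G) (T : Subgroup G) (hT : ∀ g ∈ rootSet q d, φ g ∈ T) :
    ∃ ψ : ↥(Cfsg.SU 6 K q) →* ↥T, ∀ g ∈ R q d, ∃ A, ((ψ A : ↥T) : G) = φ g := by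
  obtain ⟨ι, _, hι⟩ := exists_iota hF d hd hdh
  have hR : ∀ g ∈ R q d, φ g ∈ T := by
    intro g hg
    have : R q d ≤ T.comap φ := by
      unfold R
      rw [Subgroup.closure_le]
      exact hT
    exact this hg
  have hmem : ∀ A, (φ.comp ι) A ∈ T := by
    intro A
    apply hR
    rw [← hι]
    exact ⟨A, rfl⟩
  refine ⟨(φ.comp ι).codRestrict T hmem, ?_⟩
  intro g hg
  rw [← hι] at hg
  obtain ⟨A, rfl⟩ := hg
  exact ⟨A, rfl⟩

/-! ### the normal form of the root elements for `²E₆` (signs `m = (1,1,-1,1,-1,-1)`) -/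

/-- the signs: `σ(x_ij(t)) = x_{5-j,5-i}(-m_i m_j t^q)` -/
def msign : Fin 6 → K := ![1, 1, -1, 1, -1, -1]

/-- the root elements in the normal form of the `²E₆` farm -/
def rootSetM (K : Type*) [Field K] (q : ℕ) : Set (SL6 K) :=
  {g | ∃ (i j : Fin 6) (hij : i ≠ j) (hr : i ≠ Fin.rev j) (t : K),
    g = tv ⟨(i, j), hij⟩ t *
      tv ⟨(Fin.rev j, Fin.rev i), fun h => hij (Fin.rev_injective h).symm⟩
        (-(msign i * msign j) * t ^ q)} ∪
  {g | ∃ (i : Fin 6) (t : K), t ^ q = t ∧ g = tv ⟨(i, Fin.rev i), self_ne_rev i⟩ t}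

omit [Fintype K] in
theorem msign_rev (i : Fin 6) : (msign (Fin.rev i) : K) = -msign i := by
  fin_cases i <;> simp [msign, Fin.rev]

omit [Fintype K] in
theorem msign_sq (i : Fin 6) : (msign i : K) * msign i = 1 := by
  fin_cases i <;> simp [msign]

omit [Fintype K] in
theorem msign_ne_zero (i : Fin 6) : (msign i : K) ≠ 0 := by
  intro h
  have := msign_sq (K := K) i
  rw [h, mul_zero] at this
  exact zero_ne_one this

include hF in
theorem msign_pow (i : Fin 6) : (msign i : K) ^ q = msign i := by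
  fin_cases i <;> simp [msign, pow_q_neg_one hF]

include hF in
theorem exists_eta : ∃ η : K, η ≠ 0 ∧ η ^ q = -η := by
  have : ∃ t : K, t ^ q ≠ t := by
    by_contra hcon
    push Not at hcon
    apply sigma_ne_id hF
    ext a
    rw [sigma_apply, hcon a]
    rfl
  obtain ⟨a, ha⟩ := this
  refine ⟨a ^ q - a, sub_ne_zero.mpr ha, ?_⟩
  rw [pow_q_sub hF, pow_q_pow_q hF]
  ring

include hF in
theorem rootSet_eta (η : K) (hη : η ≠ 0) (hηq : η ^ q = -η) :
    rootSet q (fun i => η * msign i) = rootSetM K q := by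
  have hdiv : ∀ i j : Fin 6, (η * msign (Fin.rev i)) / (η * msign (Fin.rev j)) =
      (msign i * msign j : K) := by
    intro i j
    rw [msign_rev, msign_rev]
    have hj := msign_ne_zero (K := K) j
    have hjj := msign_sq (K := K) j
    field_simp
    linear_combination (-(msign i : K)) * hjj
  ext g
  constructor
  · rintro (⟨i, j, hij, hr, t, rfl⟩ | ⟨i, t, ht, rfl⟩)
    · left
      refine ⟨i, j, hij, hr, t, ?_⟩
      unfold xs
      rw [hdiv]
    · right
      refine ⟨i, t, ?_, rfl⟩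
      beta_reduce at ht
      rw [msign_rev] at ht
      have hi := msign_ne_zero (K := K) i
      have : η * msign i * (t - t ^ q) = 0 := by linear_combination ht
      have h2 := (mul_eq_zero.mp this).resolve_left (mul_ne_zero hη hi)
      exact (sub_eq_zero.mp h2).symm
  · rintro (⟨i, j, hij, hr, t, rfl⟩ | ⟨i, t, ht, rfl⟩)
    · left
      refine ⟨i, j, hij, hr, t, ?_⟩
      unfold xs
      rw [hdiv]
    · right
      refine ⟨i, t, ?_, rfl⟩
      beta_reduce
      rw [msign_rev, ht]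
      ring

include hF in
/-- **ISO + GENSU in the normal form of the `²E₆` farm**: an injective homomorphism
`ι : SU₆(q) →* SL₆(K)` whose range is the subgroup generated by the root elements `rootSetM`. -/
theorem exists_iota_M :
    ∃ ι : ↥(Cfsg.SU 6 K q) →* SL6 K, Function.Injective ι ∧
      ι.range = Subgroup.closure (rootSetM K q) := by
  obtain ⟨η, hη, hηq⟩ := exists_eta hF
  have hd : ∀ i, (fun i => η * msign i) i ≠ 0 := fun i => mul_ne_zero hη (msign_ne_zero i)
  have hdh : ∀ i, (fun i => η * msign i) (Fin.rev i) = ((fun i => η * msign i) i) ^ q := by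
    intro i
    show η * msign (Fin.rev i) = (η * msign i) ^ q
    rw [mul_pow, hηq, msign_pow hF, msign_rev]
    ring
  obtain ⟨ι, hinj, hr⟩ := exists_iota hF (fun i => η * msign i) hd hdh
  refine ⟨ι, hinj, ?_⟩
  rw [hr]
  unfold R
  rw [rootSet_eta hF η hη hηq]

include hF in
/-- **the unit used by the `²E₆` farm**: if `φ : SL₆(K) →* G` sends the root elements
`x_ij(t) x_{5-j,5-i}(-m_i m_j t^q)` (`t ∈ K`) and `x_{i,5-i}(t)` (`t ∈ F_q`) into `T`, there is a
homomorphism `ψ : SU₆(q) →* T` through which every one of them (indeed the whole group they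
generate) factors. -/
theorem exists_hom_M {G : Type*} [Group G] (φ : SL6 K →* G) (T : Subgroup G)
    (hT : ∀ g ∈ rootSetM K q, φ g ∈ T) :
    ∃ ψ : ↥(Cfsg.SU 6 K q) →* ↥T,
      ∀ g ∈ Subgroup.closure (rootSetM K q), ∃ A, ((ψ A : ↥T) : G) = φ g := by
  obtain ⟨η, hη, hηq⟩ := exists_eta hF
  have hd : ∀ i, (fun i => η * msign i) i ≠ 0 := fun i => mul_ne_zero hη (msign_ne_zero i)
  have hdh : ∀ i, (fun i => η * msign i) (Fin.rev i) = ((fun i => η * msign i) i) ^ q := by
    intro i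
    show η * msign (Fin.rev i) = (η * msign i) ^ q
    rw [mul_pow, hηq, msign_pow hF, msign_rev]
    ring
  have hset := rootSet_eta hF η hη hηq
  obtain ⟨ψ, hψ⟩ := exists_hom hF (fun i => η * msign i) hd hdh φ T (by rw [hset]; exact hT)
  refine ⟨ψ, ?_⟩
  intro g hg
  apply hψ
  unfold R
  rw [hset]
  exact hg

end Cfsg.Agent.Lib.Helper1.E6M2SU
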