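import Mathlib
import Cfsg.Agent.Lib.Helper1.E6M2SUIso
import Cfsg.Agent.Lib.Helper3.E6M2DefsC

/-!
# E6M2: bridge between helper3's `RJ q` (layer C2) and the units GENSU / ISO

`RJ q = Subgroup.closure (rootSetM K q)`, hence `RJ q` is the image of an injective homomorphism
`Cfsg.SU 6 K q →* SL6 K`.
-/

set_option autoImplicit false
set_option linter.unusedSectionVars false
set_option linter.unusedVariables false
set_option linter.unusedSimpArgs false

namespace Cfsg.Agent.Lib.Helper1.E6M2SU

open Matrix Cfsg Cfsg.Agent.Lib.Helper5 Cfsg.Agent.Lib.Helper5.Herm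
open Cfsg.Agent.Lib.Helper5.E6M (SL6 IJ tv)
open Cfsg.Agent.Lib.Helper3.E6M2C (RJ mS revp lpos)

variable {K : Type*} [Field K] [Fintype K] {q : ℕ} (hF : Fintype.card K = q ^ 2)

omit [Fintype K] in
theorem mS_cast (i j : Fin 6) : ((-(mS i * mS j) : ℤ) : K) = -(msign i * msign j) := by
  fin_cases i <;> fin_cases j <;> simp [mS, msign]

omit [Fintype K] in
theorem tv_mul_tv (p : IJ) (t u : K) : tv p t * tv p u = tv p (t + u) := by
  apply Subtype.ext
  show Matrix.transvection p.1.1 p.1.2 t * Matrix.transvection p.1.1 p.1.2 u = _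
  rw [Matrix.transvection_mul_transvection_same p.1.1 p.1.2 p.2]
  rfl

include hF in
theorem RJ_eq_closure : (RJ q : Subgroup (SL6 K)) = Subgroup.closure (rootSetM K q) := by
  apply le_antisymm
  · unfold RJ
    rw [Subgroup.closure_le]
    rintro g (⟨p, t, rfl⟩ | ⟨i, t, ht, rfl⟩)
    · obtain ⟨⟨i, j⟩, hij⟩ := p
      by_cases hr : i = Fin.rev j
      · -- the long root element with parameter `t + t ^ q`
        apply Subgroup.subset_closure
        right
        have hj : j = Fin.rev i := by rw [hr, Fin.rev_rev]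
        subst hj
        refine ⟨i, t + t ^ q, ?_, ?_⟩
        · rw [pow_q_add hF, pow_q_pow_q hF, add_comm]
        · unfold Cfsg.Agent.Lib.Helper3.E6M2C.xs
          have h1 : revp ⟨(i, Fin.rev i), hij⟩ = ⟨(i, Fin.rev i), hij⟩ := by
            apply Subtype.ext
            show (Fin.rev (Fin.rev i), Fin.rev i) = (i, Fin.rev i)
            rw [Fin.rev_rev]
          rw [h1, mS_cast, msign_rev]
          have h2 : (-(msign i * -msign i) : K) = 1 := by
            rw [mul_neg, neg_neg, msign_sq]
          rw [h2, one_mul, tv_mul_tv]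
      · apply Subgroup.subset_closure
        left
        refine ⟨i, j, hij, hr, t, ?_⟩
        unfold Cfsg.Agent.Lib.Helper3.E6M2C.xs
        rw [mS_cast]
        rfl
    · apply Subgroup.subset_closure
      right
      exact ⟨i, t, ht, rfl⟩
  · rw [Subgroup.closure_le]
    rintro g (⟨i, j, hij, hr, t, rfl⟩ | ⟨i, t, ht, rfl⟩)
    · apply Subgroup.subset_closure
      left
      refine ⟨⟨(i, j), hij⟩, t, ?_⟩
      unfold Cfsg.Agent.Lib.Helper3.E6M2C.xs
      rw [mS_cast]
      rfl
    · apply Subgroup.subset_closure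
      right
      exact ⟨i, t, ht, rfl⟩

include hF in
/-- **ISO + GENSU for helper3's `RJ`** -/
theorem exists_iota_RJ :
    ∃ ι : ↥(Cfsg.SU 6 K q) →* SL6 K, Function.Injective ι ∧ ι.range = RJ q := by
  obtain ⟨ι, h1, h2⟩ := exists_iota_M hF
  exact ⟨ι, h1, by rw [h2, RJ_eq_closure hF]⟩

end Cfsg.Agent.Lib.Helper1.E6M2SU
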