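import Mathlib
import Cfsg.Agent.Lib.Helper3.E6M2DefsC
import Cfsg.Agent.Lib.Helper6.E6MSTAB
import Cfsg.Agent.Lib.Helper6.E6MBlockPerf6
import Cfsg.Agent.Lib.Helper5.HermBridge
import Cfsg.Agent.Lib.Helper5.HermWitt

/-!
# E6M2 unit STABPERF2, part 1: the root elements of the stabiliser of `e_012` are commutators

`[xs q (i,k) a, xs q (k,j) b] = xs q (i,j) (a b)` for pairwise distinct `i, j, k` with
`j ≠ 5 - k`, `i ≠ 5 - k` (including the long case `j = 5 - i`, where `xs q (i,j) t` is the long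
root element with parameter `t + t^q`).
-/

set_option autoImplicit false
set_option linter.unusedSectionVars false
set_option linter.unusedVariables false
set_option linter.unusedSimpArgs false

namespace Cfsg.Agent.Lib.Helper1.E6M2Stab

open Cfsg.Agent.Lib.Helper5.E6M Cfsg.Agent.Lib.Helper3.E6M2C Matrix

variable {K : Type*} [Field K]

theorem mS_sq : ∀ k : Fin 6, mS k * mS k = 1 := by decide

theorem rev_ne (i : Fin 6) : Fin.rev i ≠ i := by revert i; decide

theorem ne_rev (i : Fin 6) : i ≠ Fin.rev i := by revert i; decide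

/-- the matrix of a short root element -/
theorem xs_coe (q : ℕ) (p : IJ) (t : K) :
    (xs q p t).1 = 1 + Matrix.single p.1.1 p.1.2 t +
      Matrix.single (Fin.rev p.1.2) (Fin.rev p.1.1)
        (((-(mS p.1.1 * mS p.1.2) : ℤ) : K) * t ^ q) := by
  unfold xs
  rw [Matrix.SpecialLinearGroup.coe_mul]
  show (1 + Matrix.single p.1.1 p.1.2 t) *
    (1 + Matrix.single (Fin.rev p.1.2) (Fin.rev p.1.1) _) = _
  have h : p.1.2 ≠ Fin.rev p.1.2 := ne_rev _
  rw [mul_add, mul_one, add_mul, one_mul, Matrix.single_mul_single_of_ne _ _ _ _ h, add_zero]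

/-- the commutator relation, in the form `a * b = c * b * a` -/
theorem xs_comm (q : ℕ)
    (i j k : Fin 6) (hik : i ≠ k) (hkj : k ≠ j) (hij : i ≠ j)
    (h1 : j ≠ Fin.rev k) (h2 : i ≠ Fin.rev k) (a b : K) :
    xs q ⟨(i, k), hik⟩ a * xs q ⟨(k, j), hkj⟩ b =
      xs q ⟨(i, j), hij⟩ (a * b) * xs q ⟨(k, j), hkj⟩ b * xs q ⟨(i, k), hik⟩ a := by
  apply Subtype.ext
  rw [Matrix.SpecialLinearGroup.coe_mul, Matrix.SpecialLinearGroup.coe_mul,
    Matrix.SpecialLinearGroup.coe_mul, xs_coe, xs_coe, xs_coe]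
  show (1 + Matrix.single i k a + Matrix.single (Fin.rev k) (Fin.rev i) _) *
      (1 + Matrix.single k j b + Matrix.single (Fin.rev j) (Fin.rev k) _) =
    (1 + Matrix.single i j (a * b) + Matrix.single (Fin.rev j) (Fin.rev i) _) *
      (1 + Matrix.single k j b + Matrix.single (Fin.rev j) (Fin.rev k) _) *
      (1 + Matrix.single i k a + Matrix.single (Fin.rev k) (Fin.rev i) _)
  have e1 : Fin.rev i ≠ k := fun h => h2 (by rw [← h, Fin.rev_rev])
  have e2 : Fin.rev i ≠ Fin.rev j := fun h => hij (Fin.rev_injective h)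
  have e3 : k ≠ Fin.rev j := fun h => h1 (by rw [h, Fin.rev_rev])
  have e4 : Fin.rev k ≠ i := fun h => h2 h.symm
  have e5 : Fin.rev i ≠ i := rev_ne i
  have e6 : Fin.rev i ≠ Fin.rev k := fun h => hik (Fin.rev_injective h)
  have e7 : j ≠ k := fun h => hkj h.symm
  have e8 : j ≠ Fin.rev j := ne_rev j
  have e9 : Fin.rev k ≠ k := rev_ne k
  have e10 : k ≠ i := fun h => hik h.symm
  have e11 : j ≠ i := fun h => hij h.symm
  have e12 : j ≠ Fin.rev k := h1
  have e13 : Fin.rev k ≠ Fin.rev j := fun h => hkj (Fin.rev_injective h)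
  have e14 : k ≠ Fin.rev k := fun h => e9 h.symm
  simp only [mul_add, add_mul, mul_one, one_mul, Matrix.single_mul_single_same,
    Matrix.single_mul_single_of_ne _ _ _ _ e1, Matrix.single_mul_single_of_ne _ _ _ _ e2,
    Matrix.single_mul_single_of_ne _ _ _ _ e3, Matrix.single_mul_single_of_ne _ _ _ _ e4,
    Matrix.single_mul_single_of_ne _ _ _ _ e5, Matrix.single_mul_single_of_ne _ _ _ _ e6,
    Matrix.single_mul_single_of_ne _ _ _ _ e7, Matrix.single_mul_single_of_ne _ _ _ _ e8,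
    Matrix.single_mul_single_of_ne _ _ _ _ e9, Matrix.single_mul_single_of_ne _ _ _ _ e10,
    Matrix.single_mul_single_of_ne _ _ _ _ e11, Matrix.single_mul_single_of_ne _ _ _ _ e12,
    Matrix.single_mul_single_of_ne _ _ _ _ e13, Matrix.single_mul_single_of_ne _ _ _ _ e14,
    add_zero, zero_add, mul_zero, zero_mul]
  have hs : (((-(mS i * mS j) : ℤ) : K) * (a * b) ^ q) +
      (((-(mS k * mS j) : ℤ) : K) * b ^ q) * ((((-(mS i * mS k) : ℤ) : K)) * a ^ q) = 0 := by
    have hk : ((mS k : ℤ) : K) * ((mS k : ℤ) : K) = 1 := by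
      rw [← Int.cast_mul, mS_sq]; simp
    rw [mul_pow]
    push_cast
    linear_combination (((mS i : ℤ) : K) * ((mS j : ℤ) : K) * a ^ q * b ^ q) * hk
  have hz : Matrix.single (Fin.rev j) (Fin.rev i) (((-(mS i * mS j) : ℤ) : K) * (a * b) ^ q) +
      Matrix.single (Fin.rev j) (Fin.rev i)
        ((((-(mS k * mS j) : ℤ) : K) * b ^ q) * ((((-(mS i * mS k) : ℤ) : K)) * a ^ q)) =
      (0 : Matrix (Fin 6) (Fin 6) K) := by
    rw [← Matrix.single_add, hs, Matrix.single_zero]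
  rw [eq_neg_of_add_eq_zero_left hz]
  abel

open Cfsg.Agent.Lib.Helper6.E6MBlockPerf (block6 Allowed6 transvection_mem_block6)

/-- the stabiliser of `e_012` in `RJ q`, as a subgroup -/
def S (K : Type*) [Field K] (q : ℕ) : Subgroup (SL6 K) := RJ q ⊓ block6 K

theorem isStab_iff (q : ℕ) (g : SL6 K) : IsStab q g ↔ g ∈ S K q := by
  unfold IsStab S
  rw [Subgroup.mem_inf, Cfsg.Agent.Lib.Helper6.E6MSTAB.stab]

/-- the set of commutators of elements of the stabiliser -/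
def Cset (K : Type*) [Field K] (q : ℕ) : Set (SL6 K) :=
  {x : SL6 K | ∃ a b : SL6 K, IsStab q a ∧ IsStab q b ∧ x = a * b * a⁻¹ * b⁻¹}

instance : DecidablePred (fun p : Fin 6 × Fin 6 => Allowed6 p.1 p.2) := by
  intro p; unfold Allowed6; infer_instance

theorem tv_mem_block6 (p : IJ) (hp : Allowed6 p.1.1 p.1.2) (t : K) : tv p t ∈ block6 K :=
  transvection_mem_block6 p.2 t hp

theorem allowed_revp (p : IJ) (hp : Allowed6 p.1.1 p.1.2) :
    Allowed6 (revp p).1.1 (revp p).1.2 := by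
  obtain ⟨⟨i, j⟩, hij⟩ := p
  revert hp hij
  revert i j
  unfold Allowed6 revp
  decide

theorem xs_mem_S (q : ℕ) (p : IJ) (hp : Allowed6 p.1.1 p.1.2) (t : K) : xs q p t ∈ S K q := by
  refine ⟨Subgroup.subset_closure (Or.inl ⟨p, t, rfl⟩), ?_⟩
  unfold xs
  exact Subgroup.mul_mem _ (tv_mem_block6 p hp t) (tv_mem_block6 _ (allowed_revp p hp) _)

theorem xl_mem_S (q : ℕ) (i : Fin 6) (hi : i.val < 3) (t : K) (ht : t ^ q = t) :
    xl i t ∈ S K q := by
  refine ⟨Subgroup.subset_closure (Or.inr ⟨i, t, ht, rfl⟩), ?_⟩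
  unfold xl
  apply tv_mem_block6
  unfold Allowed6
  show ¬ (3 ≤ i.val ∧ _)
  omega

theorem exists_k : ∀ i j : Fin 6, i ≠ j → Allowed6 i j →
    ∃ k : Fin 6, i ≠ k ∧ k ≠ j ∧ j ≠ Fin.rev k ∧ i ≠ Fin.rev k ∧ Allowed6 i k ∧ Allowed6 k j := by
  unfold Allowed6
  decide

/-- the allowed short root elements are commutators -/
theorem xs_mem_C (q : ℕ) (p : IJ) (hp : Allowed6 p.1.1 p.1.2) (t : K) :
    xs q p t ∈ Subgroup.closure (Cset K q) := by
  obtain ⟨⟨i, j⟩, hij⟩ := p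
  obtain ⟨k, hik, hkj, h1, h2, ha1, ha2⟩ := exists_k i j hij hp
  apply Subgroup.subset_closure
  refine ⟨xs q ⟨(i, k), hik⟩ t, xs q ⟨(k, j), hkj⟩ 1, ?_, ?_, ?_⟩
  · rw [isStab_iff]; exact xs_mem_S q _ ha1 t
  · rw [isStab_iff]; exact xs_mem_S q _ ha2 1
  · have h := xs_comm q i j k hik hkj hij h1 h2 t 1
    rw [mul_one] at h
    rw [h]
    group

theorem tv_mul_tv (p : IJ) (t u : K) : tv p t * tv p u = tv p (t + u) := by
  apply Subtype.ext
  show Matrix.transvection p.1.1 p.1.2 t * Matrix.transvection p.1.1 p.1.2 u = _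
  rw [Matrix.transvection_mul_transvection_same p.1.1 p.1.2 p.2]
  rfl

theorem mS_lpos : ∀ i : Fin 6, -(mS i * mS (Fin.rev i)) = 1 := by decide

/-- for `p = (i, 5-i)` the "short" root element is the long one with parameter `c + c^q` -/
theorem xs_lpos (q : ℕ) (i : Fin 6) (c : K) : xs q (lpos i) c = xl i (c + c ^ q) := by
  unfold xs xl
  have h1 : revp (lpos i) = lpos i := by
    apply Subtype.ext
    show (Fin.rev (Fin.rev i), Fin.rev i) = (i, Fin.rev i)
    rw [Fin.rev_rev]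
  have h2 : (((-(mS (lpos i).1.1 * mS (lpos i).1.2) : ℤ) : K)) = 1 := by
    show (((-(mS i * mS (Fin.rev i)) : ℤ) : K)) = 1
    rw [mS_lpos]; simp
  rw [h1, h2, one_mul, tv_mul_tv]

theorem xl_mem_C [Fintype K] (q : ℕ) (hK : Fintype.card K = q ^ 2) (i : Fin 6) (hi : i.val < 3)
    (t : K) (ht : t ^ q = t) : xl i t ∈ Subgroup.closure (Cset K q) := by
  obtain ⟨c, _, hc⟩ := Cfsg.Agent.Lib.Helper5.HermWitt.exists_trace
    (Cfsg.Agent.Lib.Helper5.HermBridge.sigma_ne_id hK)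
    (Cfsg.Agent.Lib.Helper5.HermBridge.sigma_sigma hK) t ht
  rw [Cfsg.Agent.Lib.Helper5.HermBridge.sigma_apply] at hc
  rw [← hc, ← xs_lpos]
  apply xs_mem_C
  unfold Allowed6
  show ¬ (3 ≤ i.val ∧ _)
  omega

end Cfsg.Agent.Lib.Helper1.E6M2Stab
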