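import Mathlib
import Cfsg.Agent.Lib.Helper1.E6M2StabGen
import Cfsg.Agent.Lib.Helper1.E6M2SUBridge
import Cfsg.Agent.Lib.Helper4.SLnGen

/-!
# E6M2 unit STABPERF2, part 2: the stabiliser of `e_012` in `RJ q` is generated by the root
elements it contains (Levi reduction by transvection induction on the upper left block, then the
unipotent radical entry by entry, using that `RJ q` preserves the skew-hermitian form).
-/

set_option autoImplicit false
set_option linter.unusedSectionVars false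
set_option linter.unusedVariables false
set_option linter.unusedSimpArgs false

namespace Cfsg.Agent.Lib.Helper1.E6M2Stab

open Cfsg.Agent.Lib.Helper5.E6M Cfsg.Agent.Lib.Helper3.E6M2C Matrix
open Cfsg.Agent.Lib.Helper6.E6MBlockPerf (block6 Allowed6 mem_block6)
open Cfsg.Agent.Lib.Helper1.E6M2SU (Jd msign tv_mulVec)

variable {K : Type*} [Field K] [Fintype K] {q : ℕ} (hK : Fintype.card K = q ^ 2)

/-- the skew-hermitian form `∑ m_i u_i (v_{5-i})^q` -/
abbrev Bm (q : ℕ) (u v : Fin 6 → K) : K := Jd q (msign : Fin 6 → K) u v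

include hK in
/-- `RJ q` preserves the skew-hermitian form -/
theorem RJ_preserves (g : SL6 K) (hg : g ∈ RJ q) (u v : Fin 6 → K) :
    Bm q (g.1 *ᵥ u) (g.1 *ᵥ v) = Bm q u v := by
  obtain ⟨η, hη, hηq⟩ := Cfsg.Agent.Lib.Helper1.E6M2SU.exists_eta hK
  have hd : ∀ i, (fun i => η * msign i) i ≠ 0 :=
    fun i => mul_ne_zero hη (Cfsg.Agent.Lib.Helper1.E6M2SU.msign_ne_zero i)
  have hdh : ∀ i, (fun i => η * msign i) (Fin.rev i) = ((fun i => η * msign i) i) ^ q := by
    intro i
    show η * msign (Fin.rev i) = (η * msign i) ^ q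
    rw [mul_pow, hηq, Cfsg.Agent.Lib.Helper1.E6M2SU.msign_pow hK,
      Cfsg.Agent.Lib.Helper1.E6M2SU.msign_rev]
    ring
  have h1 : g ∈ Cfsg.Agent.Lib.Helper1.E6M2SU.SUJ q (fun i => η * msign i) := by
    apply Cfsg.Agent.Lib.Helper1.E6M2SU.R_le_SUJ hK _ hd hdh
    unfold Cfsg.Agent.Lib.Helper1.E6M2SU.R
    rw [Cfsg.Agent.Lib.Helper1.E6M2SU.rootSet_eta hK η hη hηq,
      ← Cfsg.Agent.Lib.Helper1.E6M2SU.RJ_eq_closure hK]
    exact hg
  have h2 := (Cfsg.Agent.Lib.Helper1.E6M2SU.mem_SUJ g).mp h1 u v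
  have h3 : ∀ u v : Fin 6 → K, Jd q (fun i => η * msign i) u v = η * Bm q u v := by
    intro u v
    unfold Bm Jd
    rw [Finset.mul_sum]
    exact Finset.sum_congr rfl fun i _ => by ring
  rw [h3, h3] at h2
  exact mul_left_cancel₀ hη h2

omit [Fintype K] in
/-- the action of helper3's short root elements on vectors -/
theorem xs_mulVec3 (p : IJ) (t : K) (w : Fin 6 → K) :
    (xs q p t).1 *ᵥ w = fun k => w k + (if k = p.1.1 then t * w p.1.2 else 0) +
      (if k = Fin.rev p.1.2 then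
        (((-(mS p.1.1 * mS p.1.2) : ℤ) : K) * t ^ q) * w (Fin.rev p.1.1) else 0) := by
  unfold xs
  rw [Matrix.SpecialLinearGroup.coe_mul, ← Matrix.mulVec_mulVec, tv_mulVec, tv_mulVec]
  funext k
  have h1 : p.1.2 ≠ Fin.rev p.1.2 := ne_rev _
  have r1 : (revp p).1.1 = Fin.rev p.1.2 := rfl
  have r2 : (revp p).1.2 = Fin.rev p.1.1 := rfl
  simp only [r1, r2, h1, if_false, add_zero]
  ring

omit [Fintype K] in
theorem xl_mulVec3 (i : Fin 6) (t : K) (w : Fin 6 → K) :
    (xl i t).1 *ᵥ w = fun k => w k + if k = i then t * w (Fin.rev i) else 0 := by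
  unfold xl
  rw [tv_mulVec]
  rfl

/-! ### the Levi reduction -/

/-- padding by zeros: `K³ = ⟨e₀, e₁, e₂⟩ ⊆ K⁶` -/
def emb (v : Fin 3 → K) : Fin 6 → K := fun r => if h : r.val < 3 then v ⟨r.val, h⟩ else 0

omit [Fintype K] in
theorem emb_castAdd (v : Fin 3 → K) (c : Fin 3) : emb v (Fin.castAdd 3 c) = v c := by
  unfold emb
  have : (Fin.castAdd 3 c).val < 3 := c.2
  rw [dif_pos this]
  rfl

omit [Fintype K] in
theorem emb_of_ge (v : Fin 3 → K) (r : Fin 6) (hr : 3 ≤ r.val) : emb v r = 0 := by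
  unfold emb
  rw [dif_neg (by omega)]

omit [Fintype K] in
theorem transvection_mulVec' {n : Type*} [Fintype n] [DecidableEq n] (i j : n) (c : K)
    (w : n → K) :
    Matrix.transvection i j c *ᵥ w = fun k => w k + if k = i then c * w j else 0 := by
  funext k
  rw [Matrix.transvection, Matrix.add_mulVec, Matrix.one_mulVec, Matrix.single_mulVec]
  by_cases h : k = i
  · subst h; simp
  · simp [h, Function.update_of_ne h]

/-- the subgroup generated by the commutators of the stabiliser -/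
abbrev T (K : Type*) [Field K] (q : ℕ) : Subgroup (SL6 K) := Subgroup.closure (Cset K q)

omit [Fintype K] in
/-- every `A ∈ SL₃(K)` is the upper left block of an element of `T ∩ S` -/
theorem levi (A : Matrix.SpecialLinearGroup (Fin 3) K) :
    ∃ h : SL6 K, h ∈ T K q ∧ h ∈ S K q ∧ ∀ v : Fin 3 → K, h.1 *ᵥ emb v = emb (A.1 *ᵥ v) := by
  refine Cfsg.Agent.Lib.Helper4.transvection_induction_gen
    (fun A : Matrix.SpecialLinearGroup (Fin 3) K => ∃ h : SL6 K, h ∈ T K q ∧ h ∈ S K q ∧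
      ∀ v : Fin 3 → K, h.1 *ᵥ emb v = emb (A.1 *ᵥ v)) ?_ ?_ A
  · intro i j hij c
    have hij' : (Fin.castAdd 3 i : Fin 6) ≠ Fin.castAdd 3 j :=
      fun h => hij (Fin.castAdd_injective 3 3 h)
    have hal : Allowed6 (Fin.castAdd 3 i : Fin 6) (Fin.castAdd 3 j) := by
      unfold Allowed6
      have : (Fin.castAdd 3 i : Fin 6).val < 3 := i.2
      omega
    refine ⟨xs q ⟨(Fin.castAdd 3 i, Fin.castAdd 3 j), hij'⟩ c, xs_mem_C q _ hal c,
      xs_mem_S q _ hal c, ?_⟩
    intro v
    rw [xs_mulVec3]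
    show _ = emb (Matrix.transvection i j c *ᵥ v)
    rw [transvection_mulVec']
    funext k
    have hrev : 3 ≤ (Fin.rev (Fin.castAdd 3 i : Fin 6)).val := by
      have : (Fin.castAdd 3 i : Fin 6).val < 3 := i.2
      rw [Fin.val_rev]; omega
    simp only [emb_of_ge v _ hrev, mul_zero, ite_self, add_zero, emb_castAdd]
    by_cases hk : k.val < 3
    · obtain ⟨k', rfl⟩ : ∃ k' : Fin 3, k = Fin.castAdd 3 k' := ⟨⟨k.val, hk⟩, Fin.ext rfl⟩
      rw [emb_castAdd, emb_castAdd]
      simp only [(Fin.castAdd_injective 3 3).eq_iff]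
    · have hki : k ≠ Fin.castAdd 3 i := by
        intro h
        apply hk
        rw [h]; exact i.2
      rw [if_neg hki, add_zero]
      unfold emb
      rw [dif_neg hk, dif_neg hk]
  · rintro A B ⟨hA, hA1, hA2, hA3⟩ ⟨hB, hB1, hB2, hB3⟩
    refine ⟨hA * hB, Subgroup.mul_mem _ hA1 hB1, Subgroup.mul_mem _ hA2 hB2, ?_⟩
    intro v
    rw [Matrix.SpecialLinearGroup.coe_mul, ← Matrix.mulVec_mulVec, hB3, hA3,
      Matrix.SpecialLinearGroup.coe_mul, Matrix.mulVec_mulVec]

omit [Fintype K] in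
theorem block_mulVec_emb (g : SL6 K) (hg : g ∈ block6 K) (v : Fin 3 → K) :
    g.1 *ᵥ emb v = emb ((g.1.submatrix (Fin.castAdd 3 : Fin 3 → Fin 6) (Fin.castAdd 3)) *ᵥ v) := by
  obtain ⟨h0, _⟩ := (mem_block6 g).mp hg
  funext r
  have hsum : (g.1 *ᵥ emb v) r = ∑ k : Fin 3, g.1 r (Fin.castAdd 3 k) * v k := by
    show ∑ k : Fin (3 + 3), g.1 r k * emb v k = _
    rw [Fin.sum_univ_add]
    have h2 : ∑ k : Fin 3, g.1 r (Fin.natAdd 3 k) * emb v (Fin.natAdd 3 k) = 0 := by
      apply Finset.sum_eq_zero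
      intro k _
      rw [emb_of_ge v _ (by simp [Fin.natAdd]), mul_zero]
    rw [h2, add_zero]
    exact Finset.sum_congr rfl fun k _ => by rw [emb_castAdd]
  rw [hsum]
  by_cases hr : r.val < 3
  · obtain ⟨r', rfl⟩ : ∃ r' : Fin 3, r = Fin.castAdd 3 r' := ⟨⟨r.val, hr⟩, Fin.ext rfl⟩
    rw [emb_castAdd]
    rfl
  · rw [emb_of_ge _ _ (by omega)]
    apply Finset.sum_eq_zero
    intro k _
    rw [h0 r (Fin.castAdd 3 k) (by omega) k.2, zero_mul]

omit [Fintype K] in
/-- Levi reduction: every element of the stabiliser is, modulo `T ∩ S`, an element fixing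
`e₀, e₁, e₂` -/
theorem levi_reduce (g : SL6 K) (hg : g ∈ S K q) :
    ∃ h : SL6 K, h ∈ T K q ∧ h ∈ S K q ∧ ∀ v : Fin 3 → K, (h⁻¹ * g).1 *ᵥ emb v = emb v := by
  have hb : g ∈ block6 K := hg.2
  obtain ⟨_, hdet⟩ := (mem_block6 g).mp hb
  obtain ⟨h, hT, hS, hv⟩ := levi (q := q)
    (⟨g.1.submatrix (Fin.castAdd 3 : Fin 3 → Fin 6) (Fin.castAdd 3), hdet⟩ :
      Matrix.SpecialLinearGroup (Fin 3) K)
  refine ⟨h, hT, hS, ?_⟩
  intro v
  rw [Matrix.SpecialLinearGroup.coe_mul, ← Matrix.mulVec_mulVec, block_mulVec_emb g hb, ← hv,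
    Matrix.mulVec_mulVec, ← Matrix.SpecialLinearGroup.coe_mul, inv_mul_cancel,
    Matrix.SpecialLinearGroup.coe_one, Matrix.one_mulVec]

/-! ### the unipotent radical -/

omit [Fintype K] in
theorem emb_single (c : Fin 3) : emb (Pi.single c (1 : K)) = Pi.single (Fin.castAdd 3 c) 1 := by
  funext r
  by_cases hr : r.val < 3
  · obtain ⟨r', rfl⟩ : ∃ r' : Fin 3, r = Fin.castAdd 3 r' := ⟨⟨r.val, hr⟩, Fin.ext rfl⟩
    rw [emb_castAdd, Pi.single_apply, Pi.single_apply]
    simp only [(Fin.castAdd_injective 3 3).eq_iff]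
  · rw [emb_of_ge _ _ (by omega), Pi.single_apply, if_neg]
    intro h
    apply hr
    rw [h]; exact c.2

omit [Fintype K] in
/-- the columns `0, 1, 2` are standard -/
theorem col_std (g : SL6 K) (hfix : ∀ v : Fin 3 → K, g.1 *ᵥ emb v = emb v) (r c : Fin 6)
    (hc : c.val < 3) : g.1 r c = if r = c then 1 else 0 := by
  obtain ⟨c', rfl⟩ : ∃ c' : Fin 3, c = Fin.castAdd 3 c' := ⟨⟨c.val, hc⟩, Fin.ext rfl⟩
  have h := congrFun (hfix (Pi.single c' 1)) r
  rw [emb_single, Matrix.mulVec_single_one] at h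
  rw [Pi.single_apply] at h
  exact h

include hK in
/-- the rows `3, 4, 5` are standard -/
theorem row_std (g : SL6 K) (hg : g ∈ RJ q) (hfix : ∀ v : Fin 3 → K, g.1 *ᵥ emb v = emb v)
    (r c : Fin 6) (hr : 3 ≤ r.val) : g.1 r c = if r = c then 1 else 0 := by
  have ha : (Fin.rev r).val < 3 := by rw [Fin.val_rev]; omega
  have hcol : g.1 *ᵥ Pi.single (Fin.rev r) 1 = Pi.single (Fin.rev r) 1 := by
    funext k
    rw [Matrix.mulVec_single_one]
    show g.1 k (Fin.rev r) = _
    rw [col_std g hfix k _ ha, Pi.single_apply]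
  have h := RJ_preserves hK g hg (Pi.single (Fin.rev r) 1) (Pi.single c 1)
  rw [hcol] at h
  unfold Bm at h
  rw [Cfsg.Agent.Lib.Helper1.E6M2SU.Jd_single_left hK,
    Cfsg.Agent.Lib.Helper1.E6M2SU.Jd_single_left hK, Fin.rev_rev,
    Matrix.mulVec_single_one] at h
  have hm := Cfsg.Agent.Lib.Helper1.E6M2SU.msign_ne_zero (K := K) (Fin.rev r)
  have h2 : (g.1 r c) ^ q = ((Pi.single c (1 : K) : Fin 6 → K) r) ^ q := by
    have := mul_left_cancel₀ (mul_ne_zero hm one_ne_zero) h
    exact this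
  have h3 := congrArg (fun x => x ^ q) h2
  simp only [Cfsg.Agent.Lib.Helper5.Herm.pow_q_pow_q hK] at h3
  rw [h3, Pi.single_apply]

include hK in
/-- the hermitian relations between the entries of the upper right block -/
theorem herm_rel (g : SL6 K) (hg : g ∈ RJ q) (hfix : ∀ v : Fin 3 → K, g.1 *ᵥ emb v = emb v)
    (a c : Fin 6) (ha : 3 ≤ a.val) (hc : 3 ≤ c.val) :
    msign (Fin.rev c) * g.1 (Fin.rev c) a + msign a * (g.1 (Fin.rev a) c) ^ q = 0 := by
  have h := RJ_preserves hK g hg (Pi.single a 1) (Pi.single c 1)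
  have hq0 : q ≠ 0 := Cfsg.Agent.Lib.Helper5.Herm.q_ne_zero hK
  have hR : Bm q (Pi.single a (1 : K)) (Pi.single c 1) = 0 := by
    unfold Bm
    rw [Cfsg.Agent.Lib.Helper1.E6M2SU.Jd_single_left hK, Pi.single_apply, if_neg, zero_pow hq0,
      mul_zero]
    intro h
    have : (Fin.rev a).val < 3 := by rw [Fin.val_rev]; omega
    rw [h] at this
    omega
  rw [hR, Matrix.mulVec_single_one, Matrix.mulVec_single_one] at h
  rw [← h]
  unfold Bm Jd
  have hf : ∀ k : Fin 6, (msign k : K) * g.1.col a k * (g.1.col c (Fin.rev k)) ^ q =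
      (if k = Fin.rev c then msign (Fin.rev c) * g.1 (Fin.rev c) a else 0) +
      (if k = a then msign a * (g.1 (Fin.rev a) c) ^ q else 0) := by
    intro k
    show (msign k : K) * g.1 k a * (g.1 (Fin.rev k) c) ^ q = _
    by_cases hk : k.val < 3
    · have hk' : 3 ≤ (Fin.rev k).val := by rw [Fin.val_rev]; omega
      rw [row_std hK g hg hfix _ c hk']
      have hka : k ≠ a := by intro h; rw [h] at hk; omega
      rw [if_neg hka, add_zero]
      by_cases hkc : k = Fin.rev c
      · rw [if_pos hkc, if_pos (by rw [hkc, Fin.rev_rev]), one_pow, mul_one, hkc]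
      · rw [if_neg hkc, if_neg, zero_pow hq0, mul_zero]
        intro h
        apply hkc
        rw [← h, Fin.rev_rev]
    · rw [row_std hK g hg hfix k a (by omega)]
      have hkc : k ≠ Fin.rev c := by
        intro h
        have : (Fin.rev c).val < 3 := by rw [Fin.val_rev]; omega
        rw [← h] at this
        exact hk this
      rw [if_neg hkc, zero_add]
      by_cases hka : k = a
      · rw [if_pos hka, if_pos hka, mul_one, hka]
      · rw [if_neg hka, if_neg hka, mul_zero, zero_mul]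
  rw [Finset.sum_congr rfl fun k _ => hf k, Finset.sum_add_distrib, Finset.sum_ite_eq',
    Finset.sum_ite_eq', if_pos (Finset.mem_univ _), if_pos (Finset.mem_univ _)]

/-- the positions `(0,3)`, `(0,4)`, `(1,3)` -/
def q03 : IJ := ⟨(0, 3), by decide⟩
/-- the position `(0,4)` -/
def q04 : IJ := ⟨(0, 4), by decide⟩
/-- the position `(1,3)` -/
def q13 : IJ := ⟨(1, 3), by decide⟩

/-- the general element of the unipotent radical, as a product of root elements -/
def uProd (q : ℕ) (a05 a14 a23 b03 b04 b13 : K) : SL6 K :=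
  xl 0 a05 * xl 1 a14 * xl 2 a23 * xs q q03 b03 * xs q q04 b04 * xs q q13 b13

omit [Fintype K] in
theorem uProd_mulVec (a05 a14 a23 b03 b04 b13 : K) (w : Fin 6 → K) :
    (uProd q a05 a14 a23 b03 b04 b13).1 *ᵥ w =
      ![w 0 + b04 * w 4 + b03 * w 3 + a05 * w 5, w 1 + b13 * w 3 + b04 ^ q * w 5 + a14 * w 4,
        w 2 - b13 ^ q * w 4 - b03 ^ q * w 5 + a23 * w 3, w 3, w 4, w 5] := by
  unfold uProd
  simp only [Matrix.SpecialLinearGroup.coe_mul, ← Matrix.mulVec_mulVec]
  rw [xs_mulVec3, xs_mulVec3, xs_mulVec3, xl_mulVec3, xl_mulVec3, xl_mulVec3]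
  funext k
  fin_cases k <;> simp [q03, q04, q13, mS, Fin.rev] <;> ring

include hK in
/-- an element of the stabiliser fixing `e₀, e₁, e₂` is a product of root elements of the
unipotent radical, hence of commutators -/
theorem radical (g : SL6 K) (hg : g ∈ S K q) (hfix : ∀ v : Fin 3 → K, g.1 *ᵥ emb v = emb v) :
    g ∈ T K q := by
  have hR : g ∈ RJ q := hg.1
  have hcol := col_std g hfix
  have hrow := row_std hK g hR hfix
  have hneg : ∀ x : K, (-x) ^ q = -(x ^ q) := Cfsg.Agent.Lib.Helper5.Herm.pow_q_neg hK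
  have hpp : ∀ x : K, (x ^ q) ^ q = x := Cfsg.Agent.Lib.Helper5.Herm.pow_q_pow_q hK
  -- the relations
  have r55 := herm_rel hK g hR hfix 5 5 (by decide) (by decide)
  have r44 := herm_rel hK g hR hfix 4 4 (by decide) (by decide)
  have r33 := herm_rel hK g hR hfix 3 3 (by decide) (by decide)
  have r35 := herm_rel hK g hR hfix 3 5 (by decide) (by decide)
  have r45 := herm_rel hK g hR hfix 4 5 (by decide) (by decide)
  have r34 := herm_rel hK g hR hfix 3 4 (by decide) (by decide)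
  have m0 : (msign 0 : K) = 1 := by simp [msign]
  have m1 : (msign 1 : K) = 1 := by simp [msign]
  have m2 : (msign 2 : K) = -1 := by simp [msign]
  have m3 : (msign 3 : K) = 1 := by simp [msign]
  have m4 : (msign 4 : K) = -1 := by simp [msign]
  have m5 : (msign 5 : K) = -1 := by simp [msign]
  simp only [show Fin.rev (5 : Fin 6) = 0 from rfl, show Fin.rev (4 : Fin 6) = 1 from rfl,
    show Fin.rev (3 : Fin 6) = 2 from rfl, m0, m1, m2, m3, m4, m5] at r55 r44 r33 r35 r45 r34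
  have h05 : (g.1 0 5) ^ q = g.1 0 5 := by linear_combination (-1 : K) * r55
  have h14 : (g.1 1 4) ^ q = g.1 1 4 := by linear_combination (-1 : K) * r44
  have h23 : (g.1 2 3) ^ q = g.1 2 3 := by linear_combination r33
  have h25 : g.1 2 5 = -(g.1 0 3) ^ q := by
    have : (g.1 2 5) ^ q = -(g.1 0 3) := by linear_combination r35
    rw [← hpp (g.1 2 5), this, hneg]
  have h15 : g.1 1 5 = (g.1 0 4) ^ q := by
    have : (g.1 1 5) ^ q = g.1 0 4 := by linear_combination (-1 : K) * r45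
    rw [← hpp (g.1 1 5), this]
  have h24 : g.1 2 4 = -(g.1 1 3) ^ q := by
    have : (g.1 2 4) ^ q = -(g.1 1 3) := by linear_combination r34
    rw [← hpp (g.1 2 4), this, hneg]
  set u : SL6 K := uProd q (-(g.1 0 5)) (-(g.1 1 4)) (-(g.1 2 3)) (-(g.1 0 3)) (-(g.1 0 4))
    (-(g.1 1 3)) with hu
  have huT : u ∈ T K q := by
    rw [hu]
    unfold uProd
    refine Subgroup.mul_mem _ (Subgroup.mul_mem _ (Subgroup.mul_mem _ (Subgroup.mul_mem _
      (Subgroup.mul_mem _ ?_ ?_) ?_) ?_) ?_) ?_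
    · exact xl_mem_C q hK 0 (by decide) _ (by rw [hneg, h05])
    · exact xl_mem_C q hK 1 (by decide) _ (by rw [hneg, h14])
    · exact xl_mem_C q hK 2 (by decide) _ (by rw [hneg, h23])
    · exact xs_mem_C q q03 (by unfold Allowed6 q03; decide) _
    · exact xs_mem_C q q04 (by unfold Allowed6 q04; decide) _
    · exact xs_mem_C q q13 (by unfold Allowed6 q13; decide) _
  have hone : u * g = 1 := by
    apply Subtype.ext
    rw [Matrix.SpecialLinearGroup.coe_one]
    ext r c
    have hc : (u * g).1 r c = ((u * g).1 *ᵥ Pi.single c 1) r := by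
      rw [Matrix.mulVec_single_one]; rfl
    rw [hc, Matrix.SpecialLinearGroup.coe_mul, ← Matrix.mulVec_mulVec, Matrix.mulVec_single_one,
      hu, uProd_mulVec]
    show (![_, _, _, _, _, _] : Fin 6 → K) r = _
    simp only [Matrix.col_apply, hneg]
    fin_cases c <;> fin_cases r <;>
      simp [hcol, hrow, h25, h15, h24, Matrix.one_apply]
  have : g = u⁻¹ := by
    rw [eq_inv_iff_mul_eq_one, ← hone]
    have h2 : g * u = u⁻¹ * (u * g) * u := by group
    rw [h2, hone]; group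
  rw [this]
  exact Subgroup.inv_mem _ huT

end Cfsg.Agent.Lib.Helper1.E6M2Stab
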