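import Mathlib
import Cfsg.Agent.Lib.Helper1.E6M2StabDecomp

/-!
# E6M2 unit STABPERF2 (S2341 farm, layer C2): the stabiliser of `e_012` in `RJ q` is perfect
-/

set_option autoImplicit false
set_option linter.unusedSectionVars false

namespace Cfsg.Agent.Lib.Helper1.E6M2StabPerf

open Cfsg.Agent.Lib.Helper5.E6M Cfsg.Agent.Lib.Helper3.E6M2C Matrix
open Cfsg.Agent.Lib.Helper1.E6M2Stab

variable {K : Type*} [Field K] [Fintype K] [DecidableEq K] (q : ℕ) (hq : IsPrimePow q)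
  (hK : Fintype.card K = q ^ 2)

include hq hK in
theorem stab_perfect (g : SL6 K) (hg : IsStab q g) :
    g ∈ Subgroup.closure {x : SL6 K | ∃ a b : SL6 K, IsStab q a ∧ IsStab q b ∧
      x = a * b * a⁻¹ * b⁻¹} := by
  have hS : g ∈ S K q := (isStab_iff q g).mp hg
  obtain ⟨h, hT, hhS, hfix⟩ := levi_reduce (q := q) g hS
  have h2 : h⁻¹ * g ∈ S K q := Subgroup.mul_mem _ (Subgroup.inv_mem _ hhS) hS
  have h3 : h⁻¹ * g ∈ T K q := radical hK _ h2 hfix
  have : g = h * (h⁻¹ * g) := by group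
  rw [this]
  exact Subgroup.mul_mem _ hT h3

end Cfsg.Agent.Lib.Helper1.E6M2StabPerf
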