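import Mathlib
import Cfsg.Agent.Lib.Helper1.E6M2StabPerf
import Cfsg.Agent.Lib.Helper1.E6M2Nontriv
import Cfsg.Agent.Lib.Helper1.E6M2SUBridge

/-!
# E6M2, BRIDGE2: the fields `nontriv` and `stab` for the Levi group `L = RJ q`

* `nontriv_RJ`: a complex representation of `RJ q` on which some element acts non-trivially has
  degree at least `(q⁶ - 1)/(q + 1)` (ISO + NONTRIV2);
* `stab_transport`: the stabiliser in `RJ q` of a vector `Mm g' • (c e_012)` of the orbit of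
  `F_q^× e_012` is a conjugate of the stabiliser of `e_012`, which is perfect (STABPERF2); stated
  with an arbitrary automorphism `τ` of `RJ q` (identity, or inverse-transpose) through which the
  group acts.
-/

set_option autoImplicit false
set_option linter.unusedSectionVars false
set_option linter.unusedVariables false

namespace Cfsg.Agent.Lib.Helper1.E6M2BridgeNS

open Cfsg.Agent.Lib.Helper5.E6M Cfsg.Agent.Lib.Helper3.E6M2C Matrix
open Cfsg.Agent.Lib.Helper1.E6M2Stab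
open scoped commutatorElement

variable {K : Type*} [Field K] [Fintype K] [DecidableEq K] (q : ℕ) (hq : IsPrimePow q)
  (hK : Fintype.card K = q ^ 2)

include hK in
/-- the field `nontriv` of the bridge, for `L = RJ q` -/
theorem nontriv_RJ {W : Type*} [AddCommGroup W] [Module ℂ W] [FiniteDimensional ℂ W]
    (σ : Representation ℂ ↥(RJ (K := K) q) W) (l : ↥(RJ (K := K) q)) (hl : σ l ≠ 1) :
    (q ^ 6 - 1) / (q + 1) ≤ Module.finrank ℂ W := by
  obtain ⟨ι, hinj, hrange⟩ := Cfsg.Agent.Lib.Helper1.E6M2SU.exists_iota_RJ hK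
  have hmem : ∀ A, ι A ∈ RJ (K := K) q := by
    intro A
    rw [← hrange]
    exact ⟨A, rfl⟩
  obtain ⟨A, hA⟩ : ∃ A, ι A = l.1 := by
    have : l.1 ∈ ι.range := by rw [hrange]; exact l.2
    exact this
  have hA' : (ι.codRestrict (RJ (K := K) q) hmem) A = l := Subtype.ext hA
  apply Cfsg.Agent.Lib.Helper1.E6M2.finrank_ge_of_hom 6 q (by norm_num) (by decide) hK
    ⟨by intro h; simp at h, by intro h; simp at h⟩
    (ι.codRestrict (RJ (K := K) q) hmem) σ A
  rw [hA']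
  exact hl

/-- an element of `SL₆(K)` fixing `c e_012` (`c ≠ 0`) fixes `e_012` -/
theorem fixes_of_smul (y : SL6 K) (c : K) (hc : c ≠ 0)
    (h : Mm y.1 *ᵥ Pi.single I012 c = Pi.single I012 c) :
    Mm y.1 *ᵥ Pi.single I012 (1 : K) = Pi.single I012 1 := by
  have e : (Pi.single I012 c : T3 → K) = c • Pi.single I012 1 := by
    rw [← Pi.single_smul, smul_eq_mul, mul_one]
  rw [e, Matrix.mulVec_smul] at h
  have := congrArg (fun v => c⁻¹ • v) h
  simpa [smul_smul, inv_mul_cancel₀ hc] using this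

/-- an element of `SL₆(K)` fixing `e_012` fixes `c e_012` -/
theorem fixes_smul (y : SL6 K) (c : K)
    (h : Mm y.1 *ᵥ Pi.single I012 (1 : K) = Pi.single I012 1) :
    Mm y.1 *ᵥ Pi.single I012 c = Pi.single I012 c := by
  have e : (Pi.single I012 c : T3 → K) = c • Pi.single I012 1 := by
    rw [← Pi.single_smul, smul_eq_mul, mul_one]
  rw [e, Matrix.mulVec_smul, h]

include hq hK in
/-- the field `stab` of the bridge in group-theoretic form: if `τ x` fixes the vector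
`l₀ = Mm g' • (c e_012)` then `x` lies in the commutator subgroup of a subgroup `H` of `RJ q` all
of whose elements `h` have `τ h` fixing `l₀`. -/
theorem stab_transport (τ : ↥(RJ (K := K) q) ≃* ↥(RJ (K := K) q)) (g' : SL6 K)
    (hg' : g' ∈ RJ (K := K) q) (c : K) (hc : c ≠ 0) (x : ↥(RJ (K := K) q))
    (hx : Mm (τ x).1.1 *ᵥ (Mm g'.1 *ᵥ Pi.single I012 c) = Mm g'.1 *ᵥ Pi.single I012 c) :
    ∃ H : Subgroup ↥(RJ (K := K) q),
      (∀ h ∈ H, Mm (τ h).1.1 *ᵥ (Mm g'.1 *ᵥ Pi.single I012 c) = Mm g'.1 *ᵥ Pi.single I012 c) ∧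
      x ∈ (commutator H).map H.subtype := by
  classical
  -- the conjugate of the stabiliser, inside `SL₆(K)`
  let gL : ↥(RJ (K := K) q) := ⟨g', hg'⟩
  -- `H₀ = {h ∈ RJ | g'⁻¹ h g' ∈ S}`
  let H₀ : Subgroup ↥(RJ (K := K) q) :=
    ((S K q).subgroupOf (RJ (K := K) q)).map (MulAut.conj gL).toMonoidHom
  have hMul : ∀ a b : SL6 K, Mm (a * b).1 = Mm a.1 * Mm b.1 :=
    fun a b => Cfsg.Agent.Lib.Helper6.E6MMHOM.Mm_mul a b
  -- elements of `H₀` fix `l₀`
  have hH₀fix : ∀ h ∈ H₀, Mm h.1.1 *ᵥ (Mm g'.1 *ᵥ Pi.single I012 c) =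
      Mm g'.1 *ᵥ Pi.single I012 c := by
    rintro h ⟨s, hs, rfl⟩
    have hsS : s.1 ∈ S K q := hs
    have hsfix := fixes_smul s.1 c ((isStab_iff q s.1).mpr hsS).2
    show Mm (gL * s * gL⁻¹).1.1 *ᵥ _ = _
    have e1 : (gL * s * gL⁻¹).1 = g' * s.1 * g'⁻¹ := by
      rw [Subgroup.coe_mul, Subgroup.coe_mul, Subgroup.coe_inv]
    rw [e1, hMul, hMul, ← Matrix.mulVec_mulVec, ← Matrix.mulVec_mulVec, Matrix.mulVec_mulVec
      (Pi.single I012 c) (Mm g'⁻¹.1) (Mm g'.1), ← hMul, inv_mul_cancel,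
      Matrix.SpecialLinearGroup.coe_one, Cfsg.Agent.Lib.Helper6.E6MMHOM.Mm_one,
      Matrix.one_mulVec, hsfix]
  -- `τ x ∈ ⁅H₀, H₀⁆`
  have hy : gL⁻¹ * τ x * gL ∈ (S K q).subgroupOf (RJ (K := K) q) := by
    show (gL⁻¹ * τ x * gL).1 ∈ S K q
    rw [← isStab_iff]
    refine ⟨(gL⁻¹ * τ x * gL).2, ?_⟩
    apply fixes_of_smul _ c hc
    have e1 : (gL⁻¹ * τ x * gL).1 = g'⁻¹ * (τ x).1 * g' := by
      rw [Subgroup.coe_mul, Subgroup.coe_mul, Subgroup.coe_inv]
    rw [e1, hMul, hMul, ← Matrix.mulVec_mulVec, ← Matrix.mulVec_mulVec, hx,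
      Matrix.mulVec_mulVec, ← hMul, inv_mul_cancel, Matrix.SpecialLinearGroup.coe_one,
      Cfsg.Agent.Lib.Helper6.E6MMHOM.Mm_one, Matrix.one_mulVec]
  -- perfectness of the stabiliser, inside `RJ q`
  have hperf : ∀ s : ↥(RJ (K := K) q), s ∈ (S K q).subgroupOf (RJ (K := K) q) →
      s ∈ ⁅(S K q).subgroupOf (RJ (K := K) q), (S K q).subgroupOf (RJ (K := K) q)⁆ := by
    intro s hs
    have hsS : s.1 ∈ S K q := hs
    have h1 := Cfsg.Agent.Lib.Helper1.E6M2StabPerf.stab_perfect q hq hK s.1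
      ((isStab_iff q s.1).mpr hsS)
    -- transport the closure into the subgroup
    have hle : Subgroup.closure {x : SL6 K | ∃ a b : SL6 K, IsStab q a ∧
        IsStab q b ∧ x = a * b * a⁻¹ * b⁻¹} ≤
        (⁅(S K q).subgroupOf (RJ (K := K) q), (S K q).subgroupOf (RJ (K := K) q)⁆).map
          (RJ (K := K) q).subtype := by
      rw [Subgroup.closure_le]
      rintro y ⟨a, b, ha, hb, rfl⟩
      have haR : a ∈ RJ (K := K) q := ha.1
      have hbR : b ∈ RJ (K := K) q := hb.1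
      refine ⟨⁅(⟨a, haR⟩ : ↥(RJ (K := K) q)), ⟨b, hbR⟩⁆, ?_, ?_⟩
      · apply Subgroup.commutator_mem_commutator
        · exact (isStab_iff q a).mp ha
        · exact (isStab_iff q b).mp hb
      · rw [commutatorElement_def]
        simp only [map_mul, map_inv, Subgroup.subtype_apply]
    obtain ⟨z, hz, hzs⟩ := hle h1
    have : z = s := Subtype.ext hzs
    rw [← this]
    exact hz
  have hτx : τ x ∈ ⁅H₀, H₀⁆ := by
    have h1 := hperf _ hy
    have h2 : (MulAut.conj gL).toMonoidHom (gL⁻¹ * τ x * gL) ∈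
        (⁅(S K q).subgroupOf (RJ (K := K) q), (S K q).subgroupOf (RJ (K := K) q)⁆).map
          (MulAut.conj gL).toMonoidHom := Subgroup.mem_map_of_mem _ h1
    rw [Subgroup.map_commutator] at h2
    have e : (MulAut.conj gL).toMonoidHom (gL⁻¹ * τ x * gL) = τ x := by
      show gL * (gL⁻¹ * τ x * gL) * gL⁻¹ = τ x
      group
    rw [e] at h2
    exact h2
  -- pull back along `τ`
  refine ⟨H₀.map τ.symm.toMonoidHom, ?_, ?_⟩
  · rintro h ⟨h₀, hh₀, rfl⟩
    have : τ (τ.symm.toMonoidHom h₀) = h₀ := τ.apply_symm_apply h₀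
    rw [this]
    exact hH₀fix h₀ hh₀
  · rw [Subgroup.map_subtype_commutator, ← Subgroup.map_commutator]
    exact ⟨τ x, hτx, τ.symm_apply_apply x⟩

end Cfsg.Agent.Lib.Helper1.E6M2BridgeNS
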