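import Mathlib
import Cfsg.Agent.Lib.Helper3.E6M2DefsC
import Cfsg.Agent.Lib.Helper6.E6MSUPP
import Cfsg.Agent.Lib.Helper5.HermBridge

/-!
# E6M2 unit POINTA (S2341 farm, layer C2)

A non-zero element of `Λ_τ` can be moved by one root element to have a non-zero long coordinate.
-/

set_option autoImplicit false
set_option linter.unusedSectionVars false
set_option linter.unusedVariables false
set_option linter.unusedSimpArgs false

namespace Cfsg.Agent.Lib.Helper1.E6M2PointA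

open Cfsg.Agent.Lib.Helper5.E6M Cfsg.Agent.Lib.Helper3.E6M2C Matrix
open Cfsg.Agent.Lib.Helper6.E6MSUPP (tv_coord repl_repl)

/-- the table: for a short `J = {i, 5-i, x}` the position `p = (y, 5-i)` and the long
`I = {i, x, y}` -/
theorem table : ∀ J : T3, ¬ IsLong J → ∃ p : IJ,
    (p.1.2 ∈ J.1 ∧ p.1.1 ∉ J.1) ∧ IsLong (repl J p.1.1 p.1.2) ∧
    (Fin.rev p.1.2 ∈ (repl J p.1.1 p.1.2).1 ∧ Fin.rev p.1.1 ∉ (repl J p.1.1 p.1.2).1) ∧
    repl (repl J p.1.1 p.1.2) (Fin.rev p.1.1) (Fin.rev p.1.2) = tauI J ∧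
    (¬ (Fin.rev p.1.2 ∈ J.1 ∧ Fin.rev p.1.1 ∉ J.1) ∨
      IsLong (repl J (Fin.rev p.1.1) (Fin.rev p.1.2))) := by
  decide +kernel

variable {K : Type*} [Field K] [Fintype K] [DecidableEq K] (q : ℕ) (hq : IsPrimePow q)
  (hK : Fintype.card K = q ^ 2)

omit [Fintype K] [DecidableEq K] in
theorem rsgn_sq (I : T3) (i j : Fin 6) : ((rsgn I i j : ℤ) : K) * ((rsgn I i j : ℤ) : K) = 1 := by
  unfold rsgn
  rw [← Int.cast_mul, ← pow_add, ← two_mul, pow_mul]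
  simp

/-- the coordinate `I` of `xs q p t • l` -/
theorem xs_coord (p : IJ) (t : K) (l : T3 → K) (J : T3)
    (h0 : p.1.2 ∈ J.1 ∧ p.1.1 ∉ J.1)
    (h2 : Fin.rev p.1.2 ∈ (repl J p.1.1 p.1.2).1 ∧ Fin.rev p.1.1 ∉ (repl J p.1.1 p.1.2).1)
    (h4 : ¬ (Fin.rev p.1.2 ∈ J.1 ∧ Fin.rev p.1.1 ∉ J.1) ∨
      l (repl J (Fin.rev p.1.1) (Fin.rev p.1.2)) = 0) :
    (Mm (xs q p t).1 *ᵥ l) (repl J p.1.1 p.1.2) =
      l (repl J p.1.1 p.1.2) +
      (((-(mS p.1.1 * mS p.1.2) : ℤ) : K) * t ^ q) *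
        (((rsgn (repl (repl J p.1.1 p.1.2) (Fin.rev p.1.1) (Fin.rev p.1.2))
          (Fin.rev p.1.2) (Fin.rev p.1.1) : ℤ) : K) *
          l (repl (repl J p.1.1 p.1.2) (Fin.rev p.1.1) (Fin.rev p.1.2))) +
      t * (((rsgn J p.1.1 p.1.2 : ℤ) : K) * l J) := by
  obtain ⟨hI1, hI2, hI3⟩ := repl_repl p.1.1 p.1.2 p.2 J h0
  unfold xs
  rw [Cfsg.Agent.Lib.Helper6.E6MMHOM.Mm_mul, ← Matrix.mulVec_mulVec]
  have e1 : (tv p t).1 = Matrix.transvection p.1.1 p.1.2 t := rfl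
  have e2 : (tv (revp p) (((-(mS p.1.1 * mS p.1.2) : ℤ) : K) * t ^ q)).1 =
      Matrix.transvection (revp p).1.1 (revp p).1.2 (((-(mS p.1.1 * mS p.1.2) : ℤ) : K) * t ^ q) :=
    rfl
  rw [e1, e2, tv_coord p, if_pos ⟨hI1, hI2⟩, hI3, tv_coord (revp p), tv_coord (revp p)]
  have r1 : (revp p).1.1 = Fin.rev p.1.2 := rfl
  have r2 : (revp p).1.2 = Fin.rev p.1.1 := rfl
  rw [r1, r2, if_pos h2]
  have hJ : (if Fin.rev p.1.2 ∈ J.1 ∧ Fin.rev p.1.1 ∉ J.1 then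
      ((rsgn (repl J (Fin.rev p.1.1) (Fin.rev p.1.2)) (Fin.rev p.1.2) (Fin.rev p.1.1) : ℤ) : K) *
        l (repl J (Fin.rev p.1.1) (Fin.rev p.1.2)) else 0) = 0 := by
    rcases h4 with h | h
    · rw [if_neg h]
    · rw [h, mul_zero, ite_self]
  rw [hJ, mul_zero, add_zero]

include hK in
theorem exists_not_fixed : ∃ t : K, t ^ q ≠ t := by
  by_contra hcon
  push Not at hcon
  apply Cfsg.Agent.Lib.Helper5.HermBridge.sigma_ne_id hK
  ext a
  rw [Cfsg.Agent.Lib.Helper5.HermBridge.sigma_apply, hcon a]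
  rfl

include hK in
/-- a semilinear combination `ε u + κ u^q` with `ε² = 1` does not vanish identically -/
theorem exists_ne_zero (ε κ : K) (hε : ε * ε = 1) (a : K) (ha : a ≠ 0) :
    ∃ t : K, κ * (t ^ q * a ^ q) + t * (ε * a) ≠ 0 := by
  by_contra hcon
  push Not at hcon
  have h1 := hcon a⁻¹
  rw [← mul_pow, inv_mul_cancel₀ ha, one_pow, mul_one, ← mul_assoc, mul_comm a⁻¹ ε, mul_assoc,
    inv_mul_cancel₀ ha, mul_one] at h1
  obtain ⟨u, hu⟩ := exists_not_fixed q hK (K := K)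
  have h2 := hcon (u * a⁻¹)
  rw [← mul_pow, mul_assoc, inv_mul_cancel₀ ha, mul_one] at h2
  have h3 : u * a⁻¹ * (ε * a) = u * ε := by field_simp
  rw [h3] at h2
  have hκ : κ = -ε := by linear_combination h1
  rw [hκ] at h2
  have h4 : ε * (u - u ^ q) = 0 := by linear_combination h2
  have hε0 : ε ≠ 0 := by
    intro h
    rw [h, mul_zero] at hε
    exact zero_ne_one hε
  have h5 := (mul_eq_zero.mp h4).resolve_left hε0
  exact hu (sub_eq_zero.mp h5).symm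

include hq hK in
/-- unit POINTA -/
theorem pointA (l : T3 → K) (hl : InLam q l) (h0 : l ≠ 0) :
    ∃ g : SL6 K, g ∈ RJ q ∧ ∃ I : T3, IsLong I ∧ (Mm g.1 *ᵥ l) I ≠ 0 := by
  by_cases hlong : ∃ I : T3, IsLong I ∧ l I ≠ 0
  · obtain ⟨I, hI, hlI⟩ := hlong
    refine ⟨1, Subgroup.one_mem _, I, hI, ?_⟩
    rw [Matrix.SpecialLinearGroup.coe_one, Cfsg.Agent.Lib.Helper6.E6MMHOM.Mm_one, Matrix.one_mulVec]
    exact hlI
  · have hz : ∀ I : T3, IsLong I → l I = 0 := by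
      intro I hI
      by_contra h
      exact hlong ⟨I, hI, h⟩
    obtain ⟨J, hJ⟩ : ∃ J, l J ≠ 0 := by
      by_contra hcon
      push Not at hcon
      exact h0 (funext hcon)
    have hJs : ¬ IsLong J := fun h => hJ (hz J h)
    obtain ⟨p, hp0, hp1, hp2, hp3, hp4⟩ := table J hJs
    have h4 : ¬ (Fin.rev p.1.2 ∈ J.1 ∧ Fin.rev p.1.1 ∉ J.1) ∨
        l (repl J (Fin.rev p.1.1) (Fin.rev p.1.2)) = 0 := by
      rcases hp4 with h | h
      · exact Or.inl h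
      · exact Or.inr (hz _ h)
    have hform := fun t : K => xs_coord q p t l J hp0 hp2 h4
    rw [hp3, hl J, hz _ hp1] at hform
    obtain ⟨t, ht⟩ := exists_ne_zero q hK ((rsgn J p.1.1 p.1.2 : ℤ) : K)
      (((-(mS p.1.1 * mS p.1.2) : ℤ) : K) *
        (((rsgn (tauI J) (Fin.rev p.1.2) (Fin.rev p.1.1) : ℤ) : K) * ((epsI J : ℤ) : K)))
      (rsgn_sq _ _ _) (l J) hJ
    refine ⟨xs q p t, Subgroup.subset_closure (Or.inl ⟨p, t, rfl⟩), _, hp1, ?_⟩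
    rw [hform t, zero_add]
    intro h
    apply ht
    linear_combination h

end Cfsg.Agent.Lib.Helper1.E6M2PointA
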