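import Mathlib
import Cfsg.Agent.Lib.Helper8.E8CoreGen
import Cfsg.Agent.Lib.Helper5.ChevLevi
import Cfsg.Agent.Lib.Helper5.ChevChk.ChainAddE8
import Cfsg.Agent.Lib.Helper5.RootCent.Main

set_option autoImplicit false
set_option maxRecDepth 100000

/-!
# Farm E8CORE (S5751), unit LOW: the lower bound `U(k+1) ≤ A k`

`Ulev m` (`m ≥ 1`) is normalised by the maximal parabolic `M1`, the branch reflection maps
`Ulev (m+1)` into `Ulev m`, and the induction with `le_coreIn`.
-/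

namespace Cfsg.Agent.Lib.Helper1.E8Core

open Cfsg Cfsg.Lie Cfsg.Agent.Lib.Helper5.ChevStruct Cfsg.Agent.Lib.Helper5.ChevSym
  Cfsg.Agent.Lib.Helper8.E8Core

/-- the level data of `E₈` with all root lengths equal -/
theorem lvlE8 : LvlOK chevE8 rlOne := by
  refine ⟨fun r hr => (checkChainAdd_spec chevE8 rlOne r (chkChainAdd_E8 r hr)).1,
    fun r hr => (checkChainAdd_spec chevE8 rlOne r (chkChainAdd_E8 r hr)).2.1,
    fun r hr => (checkChainAdd_spec chevE8 rlOne r (chkChainAdd_E8 r hr)).2.2.1,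
    fun r hr e he i p hp => ⟨?_, ?_⟩⟩
  · have hW := (weightsOK_all chevE8 hE8).chain r hr (e.1, p.1, i) (by
      unfold flatChain
      rw [List.mem_flatMap]
      refine ⟨e, he, ?_⟩
      rw [List.mem_map]
      exact ⟨(p, i), List.mem_zipIdx_iff_getElem?.2 hp, rfl⟩)
    exact ⟨hW.2.1, hW.1⟩
  · exact (checkChainAdd_spec chevE8 rlOne r (chkChainAdd_E8 r hr)).2.2.2 e he i p hp

theorem lev_eq_co (r : ℕ) : lev r = co chevE8 r node := by
  unfold lev co
  rfl

theorem lev_neg (r : ℕ) (hr : r < chevE8.nroots) : lev (chevE8.neg r) = - lev r := by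
  rw [lev_eq_co, lev_eq_co]
  exact lvlE8.co_neg r hr node

theorem lev_nonneg (r : ℕ) (hr : chevE8.IsPosRoot r) : 0 ≤ lev r := by
  rw [lev_eq_co]
  exact ((isPosRoot_iff_co chevE8 hE8 r).1 hr).2 node node_lt

theorem pos_of_lev (r : ℕ) (hr : r < chevE8.nroots) (h : 1 ≤ lev r) : chevE8.IsPosRoot r := by
  apply isPosRoot_of_co_pos chevE8 hE8 rlOne lvlE8 r hr node node_lt
  rw [← lev_eq_co]
  omega

theorem lev_commTerms (r s : ℕ) (hr : r < chevE8.nroots) (hs : s < chevE8.nroots)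
    (c : ℕ × ℤ × ℕ × ℕ) (hc : c ∈ chevE8.commTerms r s) :
    c.1 < chevE8.nroots ∧ ∃ i j : ℕ, 1 ≤ i ∧ 1 ≤ j ∧
      lev c.1 = (i : ℤ) * lev r + (j : ℤ) * lev s := by
  obtain ⟨hcn, i, j, hi, hj, hw⟩ := commTerms_wt chevE8 rlOne lvlE8 r s hr hs c hc
  refine ⟨hcn, i, j, hi, hj, ?_⟩
  have h := hw node
  unfold wt rlOne at h
  rw [mul_one, mul_one, mul_one] at h
  exact h

/-- the set of positive roots of level at least `m` -/
def TT (m : ℤ) : Set ℕ := {r | chevE8.IsPosRoot r ∧ m ≤ lev r}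

theorem Ulev_eq (m : ℤ) : Ulev m = rootSetSub chevE8 F2 (TT m) := by
  unfold Ulev rootSetSub TT
  congr 1
  ext g
  constructor
  · rintro ⟨r, t, hp, hn, hg⟩
    exact ⟨r, t, ⟨hp, hn⟩, hg⟩
  · rintro ⟨r, t, ⟨hp, hn⟩, hg⟩
    exact ⟨r, t, hp, hn, hg⟩

theorem Ulev_mono {m m' : ℤ} (h : m ≤ m') : Ulev m' ≤ Ulev m := by
  unfold Ulev
  apply Subgroup.closure_mono
  rintro g ⟨r, t, hp, hn, hg⟩
  exact ⟨r, t, hp, h.trans hn, hg⟩

theorem Ulev_le_pos (m : ℤ) : Ulev m ≤ chevE8.posUnipotent F2 := by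
  unfold Ulev ChevalleyDatum.posUnipotent
  apply Subgroup.closure_mono
  rintro g ⟨r, t, hp, _, hg⟩
  exact ⟨r, t, hp, hg⟩

/-- a positive root subgroup normalises `Ulev m`, `m ≥ 1` -/
theorem rootSubgroup_le_normalizer_Ulev (m : ℤ) (hm : 1 ≤ m) (r : ℕ) (hr : chevE8.IsPosRoot r) :
    chevE8.rootSubgroup F2 r ≤ Subgroup.normalizer (Ulev m : Set (GL chevE8.Idx F2)) := by
  rw [Ulev_eq]
  by_cases hrT : r ∈ TT m
  · refine le_trans ?_ Subgroup.le_normalizer
    unfold ChevalleyDatum.rootSubgroup rootSetSub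
    apply Subgroup.closure_mono
    rintro g ⟨t, hg⟩
    exact ⟨r, t, hrT, hg⟩
  · apply rootSubgroup_le_normalizer_rootSetSub chevE8 hE8 (TT m) r hr.1
    intro s hs
    have h0 := lev_nonneg r hr
    refine ⟨hs.1.1, ?_, ?_, fun c hc => ?_⟩
    · rintro rfl
      exact hrT hs
    · rintro rfl
      have h1 := lev_neg r hr.1
      have h2 := hs.2
      omega
    · obtain ⟨hcn, i, j, hi, hj, hl⟩ := lev_commTerms r s hr.1 hs.1.1 c hc
      have h2 := hs.2
      have h3 : (0 : ℤ) ≤ (i : ℤ) * lev r := by positivity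
      have h4 : lev s ≤ (j : ℤ) * lev s := by
        have : (1 : ℤ) ≤ (j : ℤ) := by exact_mod_cast hj
        nlinarith
      have h5 : m ≤ lev c.1 := by omega
      exact ⟨pos_of_lev c.1 hcn (by omega), h5⟩

theorem borel_le_normalizer_Ulev (m : ℤ) (hm : 1 ≤ m) :
    chevE8.borelSubgroup F2 ≤ Subgroup.normalizer (Ulev m : Set (GL chevE8.Idx F2)) := by
  unfold ChevalleyDatum.borelSubgroup
  apply sup_le
  · unfold ChevalleyDatum.posUnipotent
    rw [Subgroup.closure_le]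
    rintro g ⟨r, t, hr, hg⟩
    apply rootSubgroup_le_normalizer_Ulev m hm r hr
    exact Subgroup.subset_closure ⟨t, hg⟩
  · rw [Ulev_eq]
    exact diagonal_le_normalizer_rootSetSub chevE8 hE8 _

set_option maxRecDepth 1000000 in
theorem chk_lev_reflect :
    ((List.range 8).all fun i => i == 3 || (List.range 240).all fun r =>
      decide (lev (chevE8.reflectRoot i r) = lev r)) = true := by
  decide +kernel

theorem lev_reflect (i : ℕ) (hi : i < chevE8.rank) (hin : i ≠ node) (r : ℕ)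
    (hr : r < chevE8.nroots) : lev (chevE8.reflectRoot i r) = lev r := by
  have h := chk_lev_reflect
  rw [List.all_eq_true] at h
  have h1 := h i (List.mem_range.2 hi)
  rw [Bool.or_eq_true] at h1
  rcases h1 with h1 | h1
  · exact absurd (beq_iff_eq.1 h1) hin
  · rw [List.all_eq_true] at h1
    exact of_decide_eq_true (h1 r (List.mem_range.2 hr))

set_option maxRecDepth 1000000 in
theorem chk_s3_level :
    ((List.range 240).all fun r =>
      !(decide (chevE8.IsPosRoot r) && decide (2 ≤ lev r)) ||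
        (decide (chevE8.IsPosRoot (chevE8.reflectRoot 3 r)) &&
          decide (lev r - 1 ≤ lev (chevE8.reflectRoot 3 r)))) = true := by
  decide +kernel

theorem s3_level (r : ℕ) (hr : chevE8.IsPosRoot r) (h2 : 2 ≤ lev r) :
    chevE8.IsPosRoot (chevE8.reflectRoot node r) ∧
      lev r - 1 ≤ lev (chevE8.reflectRoot node r) := by
  have h := chk_s3_level
  rw [List.all_eq_true] at h
  have h1 := h r (List.mem_range.2 hr.1)
  rw [Bool.or_eq_true] at h1
  rcases h1 with h1 | h1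
  · rw [Bool.not_eq_true', Bool.and_eq_false_iff] at h1
    rcases h1 with h1 | h1
    · exact absurd hr (of_decide_eq_false h1)
    · exact absurd h2 (of_decide_eq_false h1)
  · rw [Bool.and_eq_true] at h1
    exact ⟨of_decide_eq_true h1.1, of_decide_eq_true h1.2⟩

theorem reflectRoot_lt' (i : ℕ) (hi : i < chevE8.rank) (r : ℕ) (hr : r < chevE8.nroots) :
    chevE8.reflectRoot i r < chevE8.nroots := by
  have := wAct_lt chevE8 hE8 [i] (by simpa using hi) r hr
  simpa [wAct] using this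

/-- conjugation by `n_i`, `i` not the branch node, maps `Ulev m` into itself -/
theorem nGL_conj_mem_Ulev (m : ℤ) (hm : 1 ≤ m) (i : ℕ) (hi : i < chevE8.rank) (hin : i ≠ node)
    (x : GL chevE8.Idx F2) (hx : x ∈ Ulev m) :
    nGL chevE8 hE8 i * x * (nGL chevE8 hE8 i)⁻¹ ∈ Ulev m := by
  have hle : Ulev m ≤ (Ulev m).comap (MulAut.conj (nGL chevE8 hE8 i : GL chevE8.Idx F2)).toMonoidHom := by
    conv_lhs => unfold Ulev
    rw [Subgroup.closure_le]
    rintro g ⟨r, t, hp, hn, hg⟩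
    rw [SetLike.mem_coe, Subgroup.mem_comap, MulEquiv.coe_toMonoidHom, MulAut.conj_apply]
    have hc := nGL_conj (F := F2) chevE8 hE8 i hi r hp.1 t g hg
    have hrl := reflectRoot_lt' i hi r hp.1
    have hl := lev_reflect i hi hin r hp.1
    have h1 : 1 ≤ lev (chevE8.reflectRoot i r) := by rw [hl]; exact hm.trans hn
    have h2 : m ≤ lev (chevE8.reflectRoot i r) := by rw [hl]; exact hn
    unfold Ulev
    refine Subgroup.subset_closure
      (Set.mem_ofPred.2 ⟨chevE8.reflectRoot i r, _, pos_of_lev _ hrl h1, h2, hc⟩)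
  have h3 := hle hx
  rw [Subgroup.mem_comap, MulEquiv.coe_toMonoidHom, MulAut.conj_apply] at h3
  exact h3

/-- conjugation by the branch reflection maps `Ulev (m + 1)` into `Ulev m` -/
theorem s3_conj_mem_Ulev (m : ℤ) (hm : 1 ≤ m) (x : GL chevE8.Idx F2) (hx : x ∈ Ulev (m + 1)) :
    nGL chevE8 hE8 node * x * (nGL chevE8 hE8 node)⁻¹ ∈ Ulev m := by
  have hle : Ulev (m + 1) ≤
      (Ulev m).comap (MulAut.conj (nGL chevE8 hE8 node : GL chevE8.Idx F2)).toMonoidHom := by
    conv_lhs => unfold Ulev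
    rw [Subgroup.closure_le]
    rintro g ⟨r, t, hp, hn, hg⟩
    rw [SetLike.mem_coe, Subgroup.mem_comap, MulEquiv.coe_toMonoidHom, MulAut.conj_apply]
    have hc := nGL_conj (F := F2) chevE8 hE8 node node_lt r hp.1 t g hg
    have h22 : 2 ≤ lev r := by
      have : (2 : ℤ) ≤ m + 1 := by linarith
      exact this.trans hn
    obtain ⟨h1, h2⟩ := s3_level r hp h22
    have h3 : m ≤ lev (chevE8.reflectRoot node r) := by
      have : m ≤ lev r - 1 := by linarith
      exact this.trans h2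
    unfold Ulev
    refine Subgroup.subset_closure
      (Set.mem_ofPred.2 ⟨chevE8.reflectRoot node r, _, h1, h3, hc⟩)
  have h3 := hle hx
  rw [Subgroup.mem_comap, MulEquiv.coe_toMonoidHom, MulAut.conj_apply] at h3
  exact h3

theorem nGL_mem_normalizer_Ulev (m : ℤ) (hm : 1 ≤ m) (i : ℕ) (hi : i < chevE8.rank)
    (hin : i ≠ node) :
    (nGL chevE8 hE8 i : GL chevE8.Idx F2) ∈
      Subgroup.normalizer (Ulev m : Set (GL chevE8.Idx F2)) := by
  apply Subgroup.mem_normalizer_fintype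
  intro n hn
  exact nGL_conj_mem_Ulev m hm i hi hin n hn

/-- passage from `GL` to the group -/
theorem mem_normalizer_UlevG (m : ℤ) (g : GE)
    (hg : (g : GL chevE8.Idx F2) ∈ Subgroup.normalizer (Ulev m : Set (GL chevE8.Idx F2))) :
    g ∈ Subgroup.normalizer (UlevG m : Set GE) :=
  Subgroup.le_normalizer_comap (chevE8.group F2).subtype hg

theorem M1_le_normalizer (m : ℤ) (hm : 1 ≤ m) :
    M1 ≤ Subgroup.normalizer (UlevG m : Set GE) := by
  unfold M1 BNPair.parabolic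
  apply sup_le
  · intro g hg
    apply mem_normalizer_UlevG
    exact borel_le_normalizer_Ulev m hm hg
  · rw [Subgroup.closure_le]
    rintro g ⟨i, hi, hne, rfl⟩
    apply mem_normalizer_UlevG
    exact nGL_mem_normalizer_Ulev m hm i hi hne

theorem M1_conj_mem (m : ℤ) (hm : 1 ≤ m) (p : GE) (hp : p ∈ M1) (n : GE) (hn : n ∈ UlevG m) :
    p * n * p⁻¹ ∈ UlevG m :=
  ((Subgroup.mem_normalizer_iff.1 (M1_le_normalizer m hm hp)) n).1 hn

theorem UlevG_mono {m m' : ℤ} (h : m ≤ m') : UlevG m' ≤ UlevG m := by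
  intro g hg
  exact Ulev_mono h hg

theorem UlevG_le_M1 (m : ℤ) : UlevG m ≤ M1 := by
  intro g hg
  unfold M1 BNPair.parabolic
  apply Subgroup.mem_sup_left
  show (g : GL chevE8.Idx F2) ∈ chevE8.borelSubgroup F2
  unfold ChevalleyDatum.borelSubgroup
  exact Subgroup.mem_sup_left (Ulev_le_pos m hg)

theorem s3_conj_mem_UlevG (m : ℤ) (hm : 1 ≤ m) (n : GE) (hn : n ∈ UlevG (m + 1)) :
    s3 * n * s3⁻¹ ∈ UlevG m :=
  s3_conj_mem_Ulev m hm n hn

theorem s3_inv_conj_mem_UlevG (m : ℤ) (hm : 1 ≤ m) (n : GE) (hn : n ∈ UlevG (m + 1)) :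
    s3⁻¹ * n * s3 ∈ UlevG m := by
  have h1 : (s3 * s3)⁻¹ ∈ M1 := inv_mem s3_sq_mem_M1
  have h2 := M1_conj_mem (m + 1) (by omega) _ h1 n hn
  have h3 := s3_conj_mem_UlevG m hm _ h2
  have e : s3 * ((s3 * s3)⁻¹ * n * (s3 * s3)⁻¹⁻¹) * s3⁻¹ = s3⁻¹ * n * s3 := by group
  rwa [e] at h3

/-- **LOW**: `U(k+1) ≤ A k` -/
theorem LOW_le_A (k : ℕ) : UlevG ((k : ℤ) + 1) ≤ A k := by
  induction k with
  | zero => exact UlevG_le_M1 _
  | succ k ih =>
    rw [A_succ']
    have hk : (1 : ℤ) ≤ (k : ℤ) + 1 := by omega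
    have hcast : (((k + 1 : ℕ) : ℤ) + 1) = ((k : ℤ) + 1) + 1 := by push_cast; ring
    rw [hcast]
    apply le_coreIn
    · exact (UlevG_mono (by omega)).trans ih
    · intro n hn
      rw [(SYM k).1, mem_map_conj]
      exact ih (s3_inv_conj_mem_UlevG ((k : ℤ) + 1) hk n hn)
    · exact UlevG_le_M1 _
    · intro p hp n hn
      exact M1_conj_mem _ (by omega) p hp n hn

set_option maxRecDepth 100000 in
theorem chk_239 : (decide (chevE8.IsPosRoot 239) && decide (lev 239 = 6)) = true := by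
  decide +kernel

/-- **LOW**: `U(6) ≠ 1` -/
theorem LOW_ne_bot : UlevG 6 ≠ ⊥ := by
  intro h
  have h239 := chk_239
  rw [Bool.and_eq_true] at h239
  have hp : chevE8.IsPosRoot 239 := of_decide_eq_true h239.1
  have hl : lev 239 = 6 := of_decide_eq_true h239.2
  have hmem : (⟨xGL chevE8 hE8 239 (1 : F2), xGL_mem_group chevE8 hE8 239 1⟩ : GE) ∈ UlevG 6 := by
    show xGL chevE8 hE8 239 (1 : F2) ∈ Ulev 6
    apply Subgroup.subset_closure
    exact ⟨239, 1, hp, by omega, rfl⟩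
  rw [h, Subgroup.mem_bot] at hmem
  have h1 : xGL chevE8 hE8 239 (1 : F2) = 1 := congrArg Subtype.val hmem
  have h2 : chevE8.x F2 239 (1 : F2) = chevE8.x F2 239 0 := by
    have h3 : ((xGL chevE8 hE8 239 (1 : F2) : GL chevE8.Idx F2) : Matrix chevE8.Idx chevE8.Idx F2)
        = 1 := by rw [h1]; rfl
    rw [xGL_val] at h3
    rw [h3, x_at_zero]
  have := Cfsg.Agent.Lib.Helper5.RootCent.x_par_inj chevE8 hE8 239 hp.1 (1 : F2) 0 h2
  exact one_ne_zero this

end Cfsg.Agent.Lib.Helper1.E8Core
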