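import Mathlib
import Cfsg.Prelude.Def_ChevStructure
import Cfsg.Agent.Lib.Helper5.ChevRankOne
import Cfsg.Agent.Lib.Helper5.RankOneHom

set_option autoImplicit false

/-!
Rank-one moves for an involution `m` that swaps `X_r` and `X_{-r}`:
`m x_r(c) m⁻¹ = x_{-r}(μ c)`.

* `inv_move`: `m x_{-r}(c) m⁻¹ = x_r(c/μ)`;
* `drop_move`: if `μ = κ²` then `x_{-r}(κ) m x_{-r}(κ)⁻¹ = x_r(κ⁻¹) (n m)` with
  `n = x_r(-κ⁻¹) x_{-r}(κ) x_r(-κ⁻¹)`;
* `flip_move`: over a finite field of odd order, for every `β ≠ 0` some element `g` of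
  `⟨X_r, X_{-r}⟩` has `g m g⁻¹ = h_r(β) m`.
-/

namespace Cfsg.Agent.Lib.Helper1.InvolMoves

open Cfsg Cfsg.Lie Cfsg.Agent.Lib.Helper5.ChevSym Cfsg.Agent.Lib.Helper5.ChevStruct
  Cfsg.Agent.Lib.Helper5.RankOneHom

variable {F : Type*} [Field F]

local notation "SL2" => Matrix.SpecialLinearGroup (Fin 2) F

/-- conjugation by `[[0,1],[μ,0]]` on `SL₂` -/
def sigFun (μ : F) (hμ : μ ≠ 0) (g : SL2) : SL2 :=
  ⟨!![(g : Matrix (Fin 2) (Fin 2) F) 1 1, (g : Matrix (Fin 2) (Fin 2) F) 1 0 / μ;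
    μ * (g : Matrix (Fin 2) (Fin 2) F) 0 1, (g : Matrix (Fin 2) (Fin 2) F) 0 0], by
      rw [Matrix.det_fin_two_of]
      have := det_rel g
      field_simp
      linear_combination this⟩

theorem sigFun_val (μ : F) (hμ : μ ≠ 0) (g : SL2) :
    (sigFun μ hμ g : Matrix (Fin 2) (Fin 2) F)
      = !![(g : Matrix (Fin 2) (Fin 2) F) 1 1, (g : Matrix (Fin 2) (Fin 2) F) 1 0 / μ;
        μ * (g : Matrix (Fin 2) (Fin 2) F) 0 1, (g : Matrix (Fin 2) (Fin 2) F) 0 0] := rfl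

/-- `sigFun` as a homomorphism -/
def sig (μ : F) (hμ : μ ≠ 0) : SL2 →* SL2 where
  toFun := sigFun μ hμ
  map_one' := by
    apply Subtype.ext
    rw [sigFun_val]
    ext i j
    fin_cases i <;> fin_cases j <;> simp
  map_mul' g g' := by
    apply Subtype.ext
    rw [Matrix.SpecialLinearGroup.coe_mul, sigFun_val, sigFun_val, sigFun_val,
      Matrix.SpecialLinearGroup.coe_mul]
    ext i j
    fin_cases i <;> fin_cases j
    · simp [Matrix.mul_apply, Fin.sum_univ_two]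
      field_simp
      ring
    · simp [Matrix.mul_apply, Fin.sum_univ_two]
      field_simp
      ring
    · simp [Matrix.mul_apply, Fin.sum_univ_two]
      ring
    · simp [Matrix.mul_apply, Fin.sum_univ_two]
      field_simp
      ring

theorem sig_uu (μ : F) (hμ : μ ≠ 0) (t : F) : sig μ hμ (uu t) = ll (μ * t) := by
  apply Subtype.ext
  show (sigFun μ hμ (uu t) : Matrix (Fin 2) (Fin 2) F) = _
  rw [sigFun_val]
  ext i j
  fin_cases i <;> fin_cases j <;> simp [uu, ll]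

theorem sig_ll (μ : F) (hμ : μ ≠ 0) (t : F) : sig μ hμ (ll t) = uu (t / μ) := by
  apply Subtype.ext
  show (sigFun μ hμ (ll t) : Matrix (Fin 2) (Fin 2) F) = _
  rw [sigFun_val]
  ext i j
  fin_cases i <;> fin_cases j <;> simp [uu, ll]

section moves

variable (D : ChevalleyDatum) (hD : D ∈ Seven) (r : ℕ) (m : GL D.Idx F) (μ : F)

theorem xGL_inv_eq (t : F) : (xGL D hD r t : GL D.Idx F)⁻¹ = xGL D hD r (-t) := by
  rw [inv_eq_iff_mul_eq_one]
  apply Units.ext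
  rw [Units.val_mul, xGL_val, xGL_val, Units.val_one, x_mul_neg D hD]

/-- `m x_{-r}(c) m⁻¹ = x_r(c/μ)` -/
theorem inv_move (hμ : μ ≠ 0) (hmm : m * m = 1)
    (hm : ∀ c : F, m * xGL D hD r c * m⁻¹ = xGL D hD (D.neg r) (μ * c)) (c : F) :
    m * xGL D hD (D.neg r) c * m⁻¹ = xGL D hD r (c / μ) := by
  have hinv : m⁻¹ = m := inv_eq_of_mul_eq_one_left hmm
  have h1 := hm (c / μ)
  have e : μ * (c / μ) = c := by field_simp
  rw [e] at h1
  rw [← h1, hinv]
  calc m * (m * xGL D hD r (c / μ) * m) * m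
      = (m * m) * xGL D hD r (c / μ) * (m * m) := by group
    _ = _ := by rw [hmm, one_mul, mul_one]

/-- the drop move -/
theorem drop_move (hμ : μ ≠ 0) (hmm : m * m = 1)
    (hm : ∀ c : F, m * xGL D hD r c * m⁻¹ = xGL D hD (D.neg r) (μ * c)) (κ : F)
    (hκ : μ = κ * κ) :
    xGL D hD (D.neg r) κ * m * (xGL D hD (D.neg r) κ)⁻¹
      = xGL D hD r κ⁻¹ *
        ((xGL D hD r (-κ⁻¹) * xGL D hD (D.neg r) κ * xGL D hD r (-κ⁻¹)) * m) := by
  have hκ0 : κ ≠ 0 := by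
    rintro rfl
    rw [mul_zero] at hκ
    exact hμ hκ
  have h1 := inv_move D hD r m μ hμ hmm hm (-κ)
  have e : -κ / μ = -κ⁻¹ := by
    rw [hκ]; field_simp
  rw [e] at h1
  rw [xGL_inv_eq D hD (D.neg r) κ]
  have h2 : xGL D hD r κ⁻¹ * xGL D hD r (-κ⁻¹) = 1 := by
    rw [← xGL_inv_eq D hD r κ⁻¹]; group
  calc xGL D hD (D.neg r) κ * m * xGL D hD (D.neg r) (-κ)
      = xGL D hD (D.neg r) κ * (m * xGL D hD (D.neg r) (-κ) * m⁻¹) * m := by group
    _ = xGL D hD (D.neg r) κ * xGL D hD r (-κ⁻¹) * m := by rw [h1]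
    _ = (xGL D hD r κ⁻¹ * xGL D hD r (-κ⁻¹)) * xGL D hD (D.neg r) κ * xGL D hD r (-κ⁻¹) * m := by
        rw [h2, one_mul]
    _ = _ := by group

/-- `φ(diag(s, s⁻¹)) = h_r(s)` -/
theorem phi_dd (φ : SL2 →* GL D.Idx F)
    (h1 : ∀ t, φ (uu t) = xGL D hD r t) (h2 : ∀ t, φ (ll t) = xGL D hD (D.neg r) t)
    (s : F) (hs : s ≠ 0) : φ (dd s hs) = hGL D hD r s := by
  have e : dd s hs = (uu s * ll (-s⁻¹) * uu s) * (uu (-1) * ll 1 * uu (-1)) := by
    apply Subtype.ext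
    simp only [Matrix.SpecialLinearGroup.coe_mul]
    ext i j
    fin_cases i <;> fin_cases j <;>
      simp [uu, ll, dd, Matrix.mul_apply, Fin.sum_univ_two, hs]
  rw [e]
  simp only [map_mul, h1, h2]
  unfold hGL ChevalleyDatum.hWord ChevalleyDatum.nWord
  simp [wordGL, mul_assoc]

/-- conjugation by `m` on the image of `SL₂` -/
theorem conj_phi (hμ : μ ≠ 0) (hmm : m * m = 1)
    (hm : ∀ c : F, m * xGL D hD r c * m⁻¹ = xGL D hD (D.neg r) (μ * c))
    (φ : SL2 →* GL D.Idx F)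
    (h1 : ∀ t, φ (uu t) = xGL D hD r t) (h2 : ∀ t, φ (ll t) = xGL D hD (D.neg r) t)
    (g : SL2) : m * φ g * m⁻¹ = φ (sig μ hμ g) := by
  have key : (MulAut.conj m).toMonoidHom.comp φ = φ.comp (sig μ hμ) := by
    apply MonoidHom.eq_of_eqOn_dense (closure_uu_ll (F := F))
    rintro x (⟨t, rfl⟩ | ⟨t, rfl⟩)
    · show m * φ (uu t) * m⁻¹ = φ (sig μ hμ (uu t))
      rw [sig_uu, h1, h2, hm]
    · show m * φ (ll t) * m⁻¹ = φ (sig μ hμ (ll t))
      rw [sig_ll, h1, h2, inv_move D hD r m μ hμ hmm hm]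
  exact DFunLike.congr_fun key g

/-- the flip move -/
theorem flip_move [Fintype F] (hodd : Odd (Fintype.card F)) (hr : r < D.nroots)
    (hμ : μ ≠ 0) (hmm : m * m = 1)
    (hm : ∀ c : F, m * xGL D hD r c * m⁻¹ = xGL D hD (D.neg r) (μ * c)) (β : F) (hβ : β ≠ 0) :
    ∃ g ∈ D.group F, g * m * g⁻¹ = hGL D hD r β * m := by
  obtain ⟨-, φ, h1, h2⟩ := exists_sl2_hom (F := F) D hD r hr
  -- solve `X² - μ q² = β`
  obtain ⟨X, q, hXq⟩ : ∃ X q : F, X * X - μ * (q * q) = β := by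
    classical
    have hf : (Polynomial.X ^ 2 : Polynomial F).degree = 2 := Polynomial.degree_X_pow 2
    have hg : (Polynomial.C (-μ) * Polynomial.X ^ 2 + Polynomial.C (-β) : Polynomial F).degree
        = 2 := by
      rw [Polynomial.degree_add_C]
      · rw [Polynomial.degree_C_mul_X_pow 2 (neg_ne_zero.2 hμ)]; rfl
      · rw [Polynomial.degree_C_mul_X_pow 2 (neg_ne_zero.2 hμ)]; decide
    obtain ⟨a, b, hab⟩ := FiniteField.exists_root_sum_quadratic hf hg
      (Nat.odd_iff.1 hodd)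
    refine ⟨a, b, ?_⟩
    simp only [Polynomial.eval_pow, Polynomial.eval_X, Polynomial.eval_add, Polynomial.eval_mul,
      Polynomial.eval_C] at hab
    linear_combination hab
  set g : SL2 := ⟨!![X, q; μ * q / β, X / β], by
    rw [Matrix.det_fin_two_of]
    field_simp
    linear_combination hXq⟩ with hg
  have hmem : ∀ x : SL2, φ x ∈ D.group F := by
    intro x
    have : φ x ∈ φ.range := ⟨x, rfl⟩
    rw [range_eq_closure] at this
    refine (Subgroup.closure_le _).2 ?_ this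
    rintro y (⟨t, rfl⟩ | ⟨t, rfl⟩)
    · show φ (uu t) ∈ D.group F
      rw [h1]; exact xGL_mem_group D hD r t
    · show φ (ll t) ∈ D.group F
      rw [h2]; exact xGL_mem_group D hD _ t
  refine ⟨φ g, hmem g, ?_⟩
  have hc := conj_phi D hD r m μ hμ hmm hm φ h1 h2 g⁻¹
  have e : g * sig μ hμ g⁻¹ = dd β hβ := by
    apply Subtype.ext
    rw [Matrix.SpecialLinearGroup.coe_mul]
    show (g : Matrix (Fin 2) (Fin 2) F) * (sigFun μ hμ g⁻¹ : Matrix (Fin 2) (Fin 2) F) = _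
    rw [sigFun_val, Matrix.SpecialLinearGroup.coe_inv, Matrix.adjugate_fin_two]
    ext i j
    fin_cases i <;> fin_cases j
    · simp [hg, dd, Matrix.mul_apply, Fin.sum_univ_two]
      field_simp
      linear_combination hXq
    · simp [hg, dd, Matrix.mul_apply, Fin.sum_univ_two]
      field_simp
      ring
    · simp [hg, dd, Matrix.mul_apply, Fin.sum_univ_two]
      field_simp
      ring
    · simp [hg, dd, Matrix.mul_apply, Fin.sum_univ_two]
      field_simp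
      linear_combination hXq
  calc φ g * m * (φ g)⁻¹ = φ g * (m * φ g⁻¹ * m⁻¹) * m := by
        rw [map_inv]; group
    _ = φ (g * sig μ hμ g⁻¹) * m := by rw [hc, map_mul]
    _ = _ := by rw [e, phi_dd D hD r φ h1 h2]

end moves

end Cfsg.Agent.Lib.Helper1.InvolMoves
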