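import Mathlib
import Cfsg.Prelude.Def_ChevE8
import Cfsg.Agent.Lib.Helper6.F4InvDefs

set_option autoImplicit false

/-!
S4281 farm (E₈(q), q odd: exactly two classes of involutions): the two representatives
`tA = h_{α_2}(-1) h_{α_3}(-1)` (`Φ_t = D₈`) and `tB = h_{α_2}(-1) h_{α_5}(-1) h_{α_7}(-1) = h_θ(-1)`
(`Φ_t = A₁ × E₇`), their membership, order and nontriviality.
-/

namespace Cfsg.Agent.Lib.Helper1.E8Inv

open Cfsg Cfsg.Lie Cfsg.Agent.Lib.Helper5.ChevStruct Cfsg.Agent.Lib.Helper5.ChevSym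
  Cfsg.Agent.Lib.Helper7.Ch2G

variable {F : Type*} [Field F]

theorem memE8 : chevE8 ∈ Seven := by simp [Seven]

/-- `λ_A = α_2^∨ + α_3^∨` (coordinates `1`, `2`): the parity of `⟨r, λ_A⟩` is the parity of the
`α_1`-coefficient of `r`, so `Φ_t = D₈` -/
def lamA : Fin chevE8.rank → ℤ := fun j => if j.val = 1 ∨ j.val = 2 then 1 else 0

/-- `λ_B = α_2^∨ + α_5^∨ + α_7^∨ ≡ θ^∨` modulo 2 (coordinates `1`, `4`, `6`):
`Φ_t = {±θ} ∪ ⟨α_1, …, α_7⟩ = A₁ × E₇` -/
def lamB : Fin chevE8.rank → ℤ := fun j => if j.val = 1 ∨ j.val = 4 ∨ j.val = 6 then 1 else 0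

noncomputable def tA (F : Type*) [Field F] : GL chevE8.Idx F := hLam chevE8 F (-1) lamA

noncomputable def tB (F : Type*) [Field F] : GL chevE8.Idx F := hLam chevE8 F (-1) lamB

theorem tA_mem : tA F ∈ chevE8.group F := hLam_mem_group chevE8 memE8 _ _

theorem tB_mem : tB F ∈ chevE8.group F := hLam_mem_group chevE8 memE8 _ _

theorem tA_mem_diagonal : tA F ∈ chevE8.diagonalSubgroup F := hLam_mem_diagonal chevE8 memE8 _ _

theorem tB_mem_diagonal : tB F ∈ chevE8.diagonalSubgroup F := hLam_mem_diagonal chevE8 memE8 _ _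

theorem tA_sq : tA F * tA F = 1 := Cfsg.Agent.Lib.Helper7.ChG2.hLam_neg_one_sq chevE8 _

theorem tB_sq : tB F * tB F = 1 := Cfsg.Agent.Lib.Helper7.ChG2.hLam_neg_one_sq chevE8 _

/-- a computable form of `pairLam` for `E₈` -/
def pairE8 (lam : Fin chevE8.rank → ℤ) (r : ℕ) : ℤ :=
  ((List.finRange chevE8.rank).map fun i => lam i * chevE8.cartan i.val r).sum

theorem pairLam_eq (lam : Fin chevE8.rank → ℤ) (r : ℕ) : pairLam chevE8 lam r = pairE8 lam r := by
  unfold pairLam pairE8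
  rw [← List.sum_toFinset _ (List.nodup_finRange _)]
  simp

theorem tA_ne_one [Fintype F] (hodd : Odd (Fintype.card F)) : tA F ≠ 1 := by
  apply Cfsg.Agent.Lib.Helper6.F4Inv.h6_hLam_neg_one_ne_one hodd chevE8 memE8 _ 162 (by decide)
  rw [pairLam_eq]
  decide +kernel

theorem tB_ne_one [Fintype F] (hodd : Odd (Fintype.card F)) : tB F ≠ 1 := by
  apply Cfsg.Agent.Lib.Helper6.F4Inv.h6_hLam_neg_one_ne_one hodd chevE8 memE8 _ 120 (by decide)
  rw [pairLam_eq]
  decide +kernel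

end Cfsg.Agent.Lib.Helper1.E8Inv
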