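import Mathlib
import Cfsg.Agent.Lib.Helper1.FpfCyclic
import Cfsg.Agent.Lib.Helper1.FrattiniAction
import Cfsg.Agent.Lib.Helper1.MaxSubgroupSolvable
import Cfsg.Agent.Lib.Lead.MinNormalPower
set_option autoImplicit false
open scoped Pointwise commutatorElement
namespace Cfsg.Agent.Lib.Helper1.EPPO
universe u
variable {G : Type u} [Group G]

/-- every nonidentity element has prime power order -/
def IsEPPO (G : Type*) [Group G] : Prop := ∀ g : G, g ≠ 1 → IsPrimePow (orderOf g)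

theorem IsEPPO.false_of_commute (h : IsEPPO G) {x y : G} (hxy : Commute x y) {r s i j : ℕ}
    (hr : r.Prime) (hs : s.Prime) (hrs : r ≠ s) (hi : 0 < i) (hj : 0 < j)
    (hx : orderOf x = r ^ i) (hy : orderOf y = s ^ j) : False := by
  have hcop : Nat.Coprime (orderOf x) (orderOf y) := by
    rw [hx, hy]; exact Nat.Coprime.pow _ _ ((Nat.coprime_primes hr hs).mpr hrs)
  have ho : orderOf (x * y) = r ^ i * s ^ j := by
    rw [hxy.orderOf_mul_eq_mul_orderOf_of_coprime hcop, hx, hy]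
  have hne : x * y ≠ 1 := by
    intro h1
    rw [h1, orderOf_one] at ho
    have h2 : r ^ i ∣ 1 := ⟨s ^ j, ho⟩
    have h3 := Nat.dvd_one.mp h2
    exact hr.one_lt.ne' ((Nat.pow_eq_one.mp h3).resolve_right hi.ne')
  obtain ⟨t, k, ht, hk, htk⟩ := (isPrimePow_nat_iff _).mp (h _ hne)
  rw [ho] at htk
  have h1 : r ∣ t ^ k := by rw [htk]; exact Dvd.dvd.mul_right (dvd_pow_self r hi.ne') _
  have h2 : s ∣ t ^ k := by rw [htk]; exact Dvd.dvd.mul_left (dvd_pow_self s hj.ne') _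
  have h3 := (Nat.prime_dvd_prime_iff_eq hr ht).mp (hr.dvd_of_dvd_pow h1)
  have h4 := (Nat.prime_dvd_prime_iff_eq hs ht).mp (hs.dvd_of_dvd_pow h2)
  exact hrs (h3.trans h4.symm)

theorem IsEPPO.subgroup (h : IsEPPO G) (H : Subgroup G) : IsEPPO H := by
  intro g hg
  rw [← Subgroup.orderOf_coe]
  exact h _ (by intro h1; exact hg (Subtype.ext h1))

theorem IsEPPO.quotient (h : IsEPPO G) (N : Subgroup G) [N.Normal] : IsEPPO (G ⧸ N) := by
  intro gb hgb
  obtain ⟨g, rfl⟩ := QuotientGroup.mk_surjective gb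
  have hg : g ≠ 1 := by rintro rfl; exact hgb rfl
  obtain ⟨t, k, ht, hk, htk⟩ := (isPrimePow_nat_iff _).mp (h g hg)
  have hd : orderOf (g : G ⧸ N) ∣ t ^ k := by
    rw [htk]; exact orderOf_map_dvd (QuotientGroup.mk' N) g
  obtain ⟨j, hj, hjo⟩ := (Nat.dvd_prime_pow ht).mp hd
  rw [hjo]
  have hj0 : j ≠ 0 := by
    rintro rfl
    rw [pow_zero, orderOf_eq_one_iff] at hjo
    exact hgb hjo
  exact ht.isPrimePow.pow hj0

theorem IsEPPO.orderOf_eq (h : IsEPPO G) {g : G} (hg : g ≠ 1) :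
    ∃ t k : ℕ, t.Prime ∧ 0 < k ∧ orderOf g = t ^ k := by
  obtain ⟨t, k, ht, hk, htk⟩ := (isPrimePow_nat_iff _).mp (h g hg)
  exact ⟨t, k, ht, hk, htk.symm⟩

theorem IsEPPO.isPGroup_centralizer (h : IsEPPO G) {q : ℕ} (hq : q.Prime) {z : G} {j : ℕ}
    (hj : 0 < j) (hz : orderOf z = q ^ j) : IsPGroup q (Subgroup.centralizer {z}) := by
  rintro ⟨c, hc⟩
  by_cases hc1 : c = 1
  · exact ⟨0, by subst hc1; exact Subtype.ext (by simp)⟩
  obtain ⟨t, k, ht, hk, htk⟩ := h.orderOf_eq hc1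
  have hcomm : Commute c z :=
    (Subgroup.mem_centralizer_iff.mp hc z (Set.mem_singleton _)).symm
  have htq : t = q := by
    by_contra hne
    exact h.false_of_commute hcomm ht hq hne hk hj htk hz
  refine ⟨k, Subtype.ext ?_⟩
  show c ^ q ^ k = 1
  rw [← htq, ← htk]; exact pow_orderOf_eq_one c

/-- element of a `q`-group, nonidentity: order `q ^ j` with `0 < j` -/
theorem orderOf_eq_of_isPGroup {q : ℕ} (hq : q.Prime) {Q : Subgroup G} (hQ : IsPGroup q Q) {z : G}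
    (hz : z ∈ Q) (hz1 : z ≠ 1) : ∃ j, 0 < j ∧ orderOf z = q ^ j := by
  obtain ⟨k, hk⟩ := hQ ⟨z, hz⟩
  have hk' : z ^ q ^ k = 1 := by
    have := congrArg Subtype.val hk
    simpa using this
  obtain ⟨j, -, hj⟩ := (Nat.dvd_prime_pow hq).mp (orderOf_dvd_of_pow_eq_one hk')
  refine ⟨j, ?_, hj⟩
  rcases Nat.eq_zero_or_pos j with h0 | h0
  · exfalso; rw [h0, pow_zero, orderOf_eq_one_iff] at hj; exact hz1 hj
  · exact h0

theorem exists_normal_abelian_of_solvable_normal [Finite G] (R : Subgroup G) [R.Normal]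
    (hRs : Group.IsSolvable R) (hR : R ≠ ⊥) :
    ∃ A : Subgroup G, A.Normal ∧ A ≠ ⊥ ∧ A ≤ R ∧ ∀ a ∈ A, ∀ b ∈ A, a * b = b * a := by
  classical
  have hex : ∃ n, derivedSeries ↥R n = ⊥ := hRs.solvable
  have hnt : Nontrivial ↥R := (Subgroup.nontrivial_iff_ne_bot R).mpr hR
  have h0 : Nat.find hex ≠ 0 := by
    intro h
    have := Nat.find_spec hex
    rw [h, derivedSeries_zero] at this
    exact top_ne_bot this
  obtain ⟨m, hm⟩ := Nat.exists_eq_succ_of_ne_zero h0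
  have hD1 : derivedSeries ↥R m ≠ ⊥ := Nat.find_min hex (by rw [hm]; exact Nat.lt_succ_self m)
  have hD2 : ⁅derivedSeries ↥R m, derivedSeries ↥R m⁆ = ⊥ := by
    have := Nat.find_spec hex
    rw [hm, derivedSeries_succ] at this
    exact this
  refine ⟨(derivedSeries ↥R m).map R.subtype, inferInstance, ?_, ?_, ?_⟩
  · intro h
    apply hD1
    rw [eq_bot_iff]
    intro x hx
    have : (x : G) ∈ (derivedSeries ↥R m).map R.subtype := ⟨x, hx, rfl⟩
    rw [h, Subgroup.mem_bot] at this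
    exact Subgroup.mem_bot.mpr (Subtype.ext this)
  · rintro _ ⟨x, -, rfl⟩
    exact x.2
  · rintro _ ⟨a, ha, rfl⟩ _ ⟨b, hb, rfl⟩
    have h1 : ⁅a, b⁆ ∈ ⁅derivedSeries ↥R m, derivedSeries ↥R m⁆ :=
      Subgroup.commutator_mem_commutator ha hb
    rw [hD2, Subgroup.mem_bot, commutatorElement_eq_one_iff_mul_comm] at h1
    exact congrArg Subtype.val h1

/-- The solvable radical of a nonsolvable EPPO group is a `p`-group. -/
theorem IsEPPO.radical_isPGroup [Finite G] (h : IsEPPO G) (hns : ¬ Group.IsSolvable G)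
    (R : Subgroup G) [hRn : R.Normal] (hRs : Group.IsSolvable R) :
    ∃ p : ℕ, p.Prime ∧ IsPGroup p R := by
  by_cases hR : R = ⊥
  · refine ⟨2, Nat.prime_two, ?_⟩
    subst hR
    exact IsPGroup.of_bot
  obtain ⟨A, hAn, hA1, hAR, hAc⟩ := exists_normal_abelian_of_solvable_normal R hRs hR
  obtain ⟨a₀, ha₀, ha₀1⟩ : ∃ a ∈ A, a ≠ 1 := by
    by_contra hcon
    push Not at hcon
    exact hA1 ((Subgroup.eq_bot_iff_forall A).mpr hcon)
  obtain ⟨p, i₀, hp, hi₀, ho₀⟩ := h.orderOf_eq ha₀1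
  refine ⟨p, hp, ?_⟩
  -- order of elements of A
  have hAord : ∀ a ∈ A, a ≠ 1 → ∃ i, 0 < i ∧ orderOf a = p ^ i := by
    intro a ha ha1
    obtain ⟨t, k, ht, hk, htk⟩ := h.orderOf_eq ha1
    have htp : t = p := by
      by_contra hne
      exact h.false_of_commute (show Commute a a₀ from hAc a ha a₀ ha₀) ht hp hne hk hi₀ htk ho₀
    exact ⟨k, hk, by rw [htk, htp]⟩
  have hfpfA : ∀ (y : G) (s j : ℕ), s.Prime → s ≠ p → 0 < j → orderOf y = s ^ j →
      A ⊓ Subgroup.centralizer {y} = ⊥ := by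
    intro y s j hs hsp hj hy
    rw [eq_bot_iff]
    rintro a ⟨ha, hay⟩
    rw [Subgroup.mem_bot]
    by_contra ha1
    obtain ⟨i, hi, hai⟩ := hAord a ha ha1
    have hcomm : Commute a y :=
      (Subgroup.mem_centralizer_iff.mp hay y (Set.mem_singleton _)).symm
    exact h.false_of_commute hcomm hp hs (Ne.symm hsp) hi hj hai hy
  by_contra hRp
  -- a prime q ≠ p dividing |R|
  obtain ⟨q, hq, hqp, hqR⟩ : ∃ q : ℕ, q.Prime ∧ q ≠ p ∧ q ∣ Nat.card R := by
    by_contra hcon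
    push Not at hcon
    apply hRp
    have h1 : Nat.card R = p ^ (Nat.card R).primeFactorsList.length :=
      Nat.eq_prime_pow_of_unique_prime_dvd Nat.card_pos.ne' (fun {d} hd hdR => by
        by_contra hne
        exact hcon d hd hne hdR)
    have : Fact p.Prime := ⟨hp⟩
    exact IsPGroup.of_card h1
  have : Fact q.Prime := ⟨hq⟩
  obtain ⟨Q₀⟩ : Nonempty (Sylow q ↥R) := inferInstance
  obtain ⟨Q, hQ⟩ : ∃ Q : Subgroup G, Q = (Q₀ : Subgroup R).map R.subtype := ⟨_, rfl⟩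
  have hQq : IsPGroup q Q := by rw [hQ]; exact Q₀.isPGroup'.map _
  have hQ1 : Q ≠ ⊥ := by
    intro hb
    apply Q₀.ne_bot_of_dvd_card hqR
    rw [eq_bot_iff]
    intro x hx
    have : (x : G) ∈ Q := by rw [hQ]; exact ⟨x, hx, rfl⟩
    rw [hb, Subgroup.mem_bot] at this
    exact Subgroup.mem_bot.mpr (Subtype.ext this)
  have hFr : Subgroup.normalizer (Q : Set G) ⊔ R = ⊤ := by
    rw [hQ]; exact Sylow.normalizer_sup_eq_top Q₀
  -- the centre of Q
  obtain ⟨Z, hZ⟩ : ∃ Z : Subgroup G, Z = (Subgroup.center ↥Q).map Q.subtype := ⟨_, rfl⟩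
  have hZQ : Z ≤ Q := by rw [hZ]; rintro _ ⟨x, -, rfl⟩; exact x.2
  have hZ1 : Z ≠ ⊥ := by
    have : Nontrivial ↥Q := (Subgroup.nontrivial_iff_ne_bot Q).mpr hQ1
    have hnt : Nontrivial (Subgroup.center ↥Q) := hQq.center_nontrivial
    obtain ⟨x, hx⟩ := exists_ne (1 : Subgroup.center ↥Q)
    intro hb
    have : ((x : ↥Q) : G) ∈ Z := by rw [hZ]; exact ⟨x, x.2, rfl⟩
    rw [hb, Subgroup.mem_bot] at this
    exact hx (Subtype.ext (Subtype.ext this))
  have hZc : IsMulCommutative Z := by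
    refine ⟨⟨?_⟩⟩
    rintro ⟨a, ha⟩ ⟨b, hb⟩
    rw [hZ] at ha hb
    obtain ⟨a', ha', rfl⟩ := ha
    obtain ⟨b', hb', rfl⟩ := hb
    apply Subtype.ext
    have := Subgroup.mem_center_iff.mp ha' b'
    exact (congrArg Subtype.val this).symm
  have hNZ : Subgroup.normalizer (Q : Set G) ≤ Subgroup.normalizer (Z : Set G) := by
    rw [hZ]; exact normalizer_le_normalizer_map_characteristic Q (Subgroup.center ↥Q)
  have hZA : Z ≤ Subgroup.normalizer (A : Set G) := by
    rw [Subgroup.normalizer_eq_top]; exact le_top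
  have hfpfZ : ∀ z ∈ Z, z ≠ 1 → A ⊓ Subgroup.centralizer {z} = ⊥ := by
    intro z hz hz1
    obtain ⟨j, hj, hzj⟩ := orderOf_eq_of_isPGroup hq hQq (hZQ hz) hz1
    exact hfpfA z q j hq hqp hj hzj
  have hZcyc : IsCyclic ↥Z := isCyclic_of_fpf_of_abelian Z A hA1 hZA hfpfZ
  -- N(Z) is solvable
  obtain ⟨z₀, hz₀, hz₀1⟩ : ∃ z ∈ Z, z ≠ 1 := by
    by_contra hcon
    push Not at hcon
    exact hZ1 ((Subgroup.eq_bot_iff_forall Z).mpr hcon)
  obtain ⟨j₀, hj₀, hz₀j⟩ := orderOf_eq_of_isPGroup hq hQq (hZQ hz₀) hz₀1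
  have hCq := h.isPGroup_centralizer hq hj₀ hz₀j
  have hAutc : ∀ a b : MulAut ↥Z, a * b = b * a := by
    intro a b
    apply (IsCyclic.mulAutMulEquiv ↥Z).injective
    rw [map_mul, map_mul, mul_comm]
  have : Group.IsSolvable (MulAut ↥Z) := Group.isSolvable_of_comm hAutc
  have hkerq : IsPGroup q ↥(Z.normalizerMonoidHom.ker) := by
    rintro ⟨c, hc⟩
    rw [Subgroup.normalizerMonoidHom_ker, Subgroup.mem_subgroupOf] at hc
    have hc2 : (c : G) ∈ Subgroup.centralizer {z₀} :=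
      Subgroup.centralizer_le (Set.singleton_subset_iff.mpr hz₀) hc
    obtain ⟨k, hk⟩ := hCq ⟨(c : G), hc2⟩
    refine ⟨k, ?_⟩
    apply Subtype.ext
    apply Subtype.ext
    have := congrArg Subtype.val hk
    simpa using this
  have : Group.IsSolvable ↥(Z.normalizerMonoidHom.ker) := by
    have := hkerq.isNilpotent
    infer_instance
  have hNZsolv : Group.IsSolvable ↥(Subgroup.normalizer (Z : Set G)) :=
    Group.isSolvable_of_ker_le_range (Z.normalizerMonoidHom.ker).subtype Z.normalizerMonoidHom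
      (by rw [Subgroup.range_subtype])
  have hNsolv : Group.IsSolvable ↥(Subgroup.normalizer (Q : Set G)) :=
    Group.isSolvable_of_isSolvable_injective (Subgroup.inclusion_injective hNZ)
  -- G/R is solvable
  have hsurj : Function.Surjective
      ((QuotientGroup.mk' R).comp (Subgroup.normalizer (Q : Set G)).subtype) := by
    intro gb
    obtain ⟨g, rfl⟩ := QuotientGroup.mk_surjective gb
    have hg : g ∈ Subgroup.normalizer (Q : Set G) ⊔ R := by rw [hFr]; exact Subgroup.mem_top g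
    obtain ⟨n, hn, r, hr, rfl⟩ := Subgroup.mem_sup_of_normal_right.mp hg
    refine ⟨⟨n, hn⟩, ?_⟩
    show (QuotientGroup.mk' R) n = (QuotientGroup.mk' R) (n * r)
    have hr1 : (QuotientGroup.mk' R) r = 1 := (QuotientGroup.eq_one_iff r).mpr hr
    rw [map_mul, hr1, mul_one]
  have : Group.IsSolvable (G ⧸ R) := solvable_of_surjective hsurj
  apply hns
  exact Group.isSolvable_of_ker_le_range R.subtype (QuotientGroup.mk' R)
    (by rw [QuotientGroup.ker_mk', Subgroup.range_subtype])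

end Cfsg.Agent.Lib.Helper1.EPPO
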