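import Mathlib
import Cfsg.Agent.Lib.Helper1.EPPO1
set_option autoImplicit false
open scoped Pointwise commutatorElement
namespace Cfsg.Agent.Lib.Helper1.EPPO
open Cfsg.Agent.Lib.Lead.MinNormalPower
universe u
variable {G : Type u} [Group G]

/-- a finite nonsolvable group has two distinct prime divisors of its order -/
theorem exists_two_primes_of_not_solvable [Finite G] (X : Subgroup G)
    (hX : ¬ Group.IsSolvable X) :
    ∃ r₁ r₂ : ℕ, r₁.Prime ∧ r₂.Prime ∧ r₁ ≠ r₂ ∧ r₁ ∣ Nat.card X ∧ r₂ ∣ Nat.card X := by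
  by_contra hcon
  push Not at hcon
  apply hX
  by_cases h1 : Nat.card X = 1
  · have : Subsingleton X := (Nat.card_eq_one_iff_unique.mp h1).1
    infer_instance
  obtain ⟨p, hp, hpd⟩ := Nat.exists_prime_and_dvd h1
  have h2 : Nat.card X = p ^ (Nat.card X).primeFactorsList.length :=
    Nat.eq_prime_pow_of_unique_prime_dvd Nat.card_pos.ne' (fun {d} hd hdX => by
      by_contra hne
      exact hcon d p hd hp hne hdX hpd)
  have : Fact p.Prime := ⟨hp⟩
  have hXp : IsPGroup p X := IsPGroup.of_card h2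
  have := hXp.isNilpotent
  infer_instance

/-- two elementwise commuting subgroups, one of which has two prime divisors and the other
nontrivial, cannot exist in an EPPO group -/
theorem IsEPPO.false_of_commuting [Finite G] (h : IsEPPO G) (X Y : Subgroup G)
    (hXY : ∀ x ∈ X, ∀ y ∈ Y, x * y = y * x)
    (hX : ¬ Group.IsSolvable X) (hY : Y ≠ ⊥) : False := by
  obtain ⟨r₁, r₂, hr₁, hr₂, hne, hd₁, hd₂⟩ := exists_two_primes_of_not_solvable X hX
  have hY1 : Nat.card Y ≠ 1 := by
    intro h1
    exact hY (Subgroup.card_eq_one.mp h1)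
  obtain ⟨s, hs, hsd⟩ := Nat.exists_prime_and_dvd hY1
  obtain ⟨r, hr, hrs, hrd⟩ : ∃ r : ℕ, r.Prime ∧ r ≠ s ∧ r ∣ Nat.card X := by
    by_cases h1 : r₁ = s
    · exact ⟨r₂, hr₂, fun h2 => hne (h1.trans h2.symm), hd₂⟩
    · exact ⟨r₁, hr₁, h1, hd₁⟩
  have : Fact r.Prime := ⟨hr⟩
  have : Fact s.Prime := ⟨hs⟩
  obtain ⟨x, hx⟩ := exists_prime_orderOf_dvd_card' r hrd
  obtain ⟨y, hy⟩ := exists_prime_orderOf_dvd_card' s hsd
  have hx' : orderOf (x : G) = r ^ 1 := by rw [Subgroup.orderOf_coe, hx, pow_one]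
  have hy' : orderOf (y : G) = s ^ 1 := by rw [Subgroup.orderOf_coe, hy, pow_one]
  exact h.false_of_commute (show Commute (x : G) (y : G) from hXY x x.2 y y.2) hr hs hrs
    Nat.one_pos Nat.one_pos hx' hy'

/-- A finite EPPO group with trivial solvable radical has a unique minimal normal subgroup,
which is nonabelian simple. -/
theorem IsEPPO.unique_minimal_normal [Finite G] [Nontrivial G] (h : IsEPPO G)
    (hrad : ∀ N : Subgroup G, N.Normal → Group.IsSolvable N → N = ⊥) :
    ∃ M : Subgroup G, M.Normal ∧ IsSimpleGroup ↥M ∧ ¬ IsMulCommutative ↥M ∧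
      ∀ N : Subgroup G, N.Normal → N ≠ ⊥ → M ≤ N := by
  classical
  obtain ⟨M, hMn, hM1, hMmin⟩ := exists_minimal_normal (G := G)
  have hMns : ¬ Group.IsSolvable M := fun hs => hM1 (hrad M hMn hs)
  have hne : Nonempty {T : Subgroup G // Inv M T ∧ T ≠ ⊥} :=
    ⟨⟨M, ⟨le_rfl, fun n hn x hx => M.mul_mem (M.mul_mem hn hx) (M.inv_mem hn)⟩, hM1⟩⟩
  obtain ⟨⟨T, hTinv, hT1⟩, hTmin0⟩ :=
    Finite.exists_min (fun T : {T : Subgroup G // Inv M T ∧ T ≠ ⊥} => Nat.card T.1)
  have hTmin : ∀ T₁ : Subgroup G, Inv M T₁ → T₁ ≠ ⊥ → Nat.card T ≤ Nat.card T₁ :=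
    fun T₁ h1 h2 => hTmin0 ⟨T₁, h1, h2⟩
  have hsimple : IsSimpleGroup ↥T := simple_T M hMmin T hTinv hT1 hTmin
  -- distinct conjugates of T intersect trivially
  have hconj : ∀ g g' : G, MulAut.conj g • T ≠ MulAut.conj g' • T →
      (MulAut.conj g • T) ⊓ (MulAut.conj g' • T) = ⊥ := by
    intro g g' hgg'
    by_contra hcap
    have hI : Inv M ((MulAut.conj g • T) ⊓ (MulAut.conj g' • T)) :=
      (inv_conj hTinv g).inf (inv_conj hTinv g')
    have e1 := conj_min M T hTmin g _ hI hcap inf_le_left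
    have e2 := conj_min M T hTmin g' _ hI hcap inf_le_right
    exact hgg' (e1.symm.trans e2)
  have hcommconj : ∀ g g' : G, MulAut.conj g • T ≠ MulAut.conj g' • T →
      ∀ x ∈ MulAut.conj g • T, ∀ y ∈ MulAut.conj g' • T, x * y = y * x := by
    intro g g' hgg'
    exact Inv.commute (inv_conj hTinv g) (inv_conj hTinv g') (hconj g g' hgg')
  have hiSup : (⨆ g : G, MulAut.conj g • T) = M := iSup_conj_eq M hMmin T hTinv hT1
  -- T is not solvable
  have hTns : ¬ Group.IsSolvable T := by
    intro hTs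
    have hTc : ∀ a b : ↥T, a * b = b * a := IsSimpleGroup.comm_iff_isSolvable.mpr hTs
    have hpair : ∀ g g' : G, ∀ x ∈ MulAut.conj g • T, ∀ y ∈ MulAut.conj g' • T, x * y = y * x := by
      intro g g' x hx y hy
      by_cases hgg' : MulAut.conj g • T = MulAut.conj g' • T
      · rw [← hgg'] at hy
        rw [mem_conj_iff] at hx hy
        have := hTc ⟨_, hx⟩ ⟨_, hy⟩
        have h2 : g⁻¹ * x * g * (g⁻¹ * y * g) = g⁻¹ * y * g * (g⁻¹ * x * g) :=
          congrArg Subtype.val this
        calc x * y = g * (g⁻¹ * x * g * (g⁻¹ * y * g)) * g⁻¹ := by group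
          _ = g * (g⁻¹ * y * g * (g⁻¹ * x * g)) * g⁻¹ := by rw [h2]
          _ = y * x := by group
      · exact hcommconj g g' hgg' x hx y hy
    have hMc : M ≤ Subgroup.centralizer (M : Set G) := by
      conv_lhs => rw [← hiSup]
      apply iSup_le
      intro g
      rw [Subgroup.le_centralizer_iff]
      conv_lhs => rw [← hiSup]
      apply iSup_le
      intro g' y hy
      rw [Subgroup.mem_centralizer_iff]
      intro x hx
      exact hpair g g' x hx y hy
    apply hMns
    apply Group.isSolvable_of_comm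
    intro a b
    apply Subtype.ext
    exact (Subgroup.mem_centralizer_iff.mp (hMc b.2) a a.2)
  -- T = M
  have hTM : T = M := by
    by_contra hne'
    have hex : ∃ g : G, MulAut.conj g • T ≠ T := by
      by_contra hall
      push Not at hall
      apply hne'
      rw [← hiSup]
      apply le_antisymm
      · have := le_iSup (fun g : G => MulAut.conj g • T) 1
        simpa using this
      · apply iSup_le
        intro g
        rw [hall g]
    obtain ⟨g, hg⟩ := hex
    have h1T : MulAut.conj (1 : G) • T = T := by simp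
    have hcm : ∀ x ∈ T, ∀ y ∈ MulAut.conj g • T, x * y = y * x := by
      intro x hx y hy
      have hx' : x ∈ MulAut.conj (1 : G) • T := by rw [h1T]; exact hx
      exact hcommconj 1 g (by rw [h1T]; exact fun e => hg e.symm) x hx' y hy
    exact h.false_of_commuting T (MulAut.conj g • T) hcm hTns (conj_ne_bot T hT1 g)
  subst hTM
  refine ⟨T, hMn, hsimple, ?_, ?_⟩
  · intro hc
    apply hMns
    exact Group.isSolvable_of_comm (fun a b => hc.is_comm.comm a b)
  · intro N hNn hN1
    have hcap : (T ⊓ N).Normal := inferInstance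
    rcases hMmin (T ⊓ N) hcap inf_le_left with h0 | h0
    · exfalso
      have hIM : Inv ⊤ T := ⟨le_top, fun n _ x hx => hMn.conj_mem x hx n⟩
      have hIN : Inv ⊤ N := ⟨le_top, fun n _ x hx => hNn.conj_mem x hx n⟩
      exact h.false_of_commuting T N (Inv.commute hIM hIN h0) hMns hN1
    · rw [← h0]; exact inf_le_right

end Cfsg.Agent.Lib.Helper1.EPPO
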