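import Mathlib
import Cfsg.Prelude.Def_Transfer
set_option autoImplicit false
universe u
namespace Cfsg.Agent.Lib.Helper1.ES

variable {E : Type u} [Group E] {p : ℕ}

/-- power by an element of `ZMod p` -/
def zp (p : ℕ) (g : E) (t : ZMod p) : E := g ^ t.val

theorem zp_add [NeZero p] {g : E} (hg : g ^ p = 1) (s t : ZMod p) :
    zp p g (s + t) = zp p g s * zp p g t := by
  unfold zp
  rw [ZMod.val_add, ← pow_add, ← pow_eq_pow_mod _ hg]

theorem zp_zero (g : E) : zp p g 0 = 1 := by
  unfold zp; rw [ZMod.val_zero, pow_zero]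

theorem zp_natCast [NeZero p] {g : E} (hg : g ^ p = 1) (k : ℕ) : zp p g (k : ZMod p) = g ^ k := by
  unfold zp; rw [ZMod.val_natCast, ← pow_eq_pow_mod _ hg]

theorem zp_one_eq [Fact (1 < p)] (g : E) : zp p g 1 = g := by
  unfold zp; rw [ZMod.val_one, pow_one]

theorem zp_neg [NeZero p] {g : E} (hg : g ^ p = 1) (t : ZMod p) :
    zp p g (-t) = (zp p g t)⁻¹ := by
  rw [eq_inv_iff_mul_eq_one, ← zp_add hg, neg_add_cancel, zp_zero]

theorem zp_eq_one_iff [hp : Fact p.Prime] {z : E} (hz : z ≠ 1) (hzp : z ^ p = 1) (t : ZMod p) :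
    zp p z t = 1 ↔ t = 0 := by
  constructor
  · intro h
    unfold zp at h
    have ho : orderOf z = p := orderOf_eq_prime hzp hz
    have h0 : orderOf z ∣ t.val := orderOf_dvd_of_pow_eq_one h
    have h1 : p ∣ t.val := by rw [ho] at h0; exact h0
    have h2 : t.val < p := ZMod.val_lt t
    have h3 : t.val = 0 := Nat.eq_zero_of_dvd_of_lt h1 h2
    exact (ZMod.val_eq_zero t).mp h3
  · rintro rfl; exact zp_zero z

theorem zp_inj [hp : Fact p.Prime] {z : E} (hz : z ≠ 1) (hzp : z ^ p = 1) {s t : ZMod p}
    (h : zp p z s = zp p z t) : s = t := by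
  have h1 : zp p z (s - t) = 1 := by
    have : s = (s - t) + t := by ring
    rw [this, zp_add hzp] at h
    exact mul_eq_right.mp h
  exact sub_eq_zero.mp ((zp_eq_one_iff hz hzp _).mp h1)

theorem zp_commute {z : E} (hc : ∀ g : E, z * g = g * z) (t : ZMod p) (g : E) :
    zp p z t * g = g * zp p z t := by
  unfold zp
  have : Commute z g := hc g
  exact this.pow_left _

/-- The elementary hypotheses on a group `E` with a distinguished central element `z` of order `p`:
the centre is `⟨z⟩`, commutators and `p`-th powers lie in `⟨z⟩`. -/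
structure Data (p : ℕ) (z : E) : Prop where
  ne_one : z ≠ 1
  pow_p : z ^ p = 1
  central : ∀ g : E, z * g = g * z
  center_sub : ∀ g : E, (∀ h : E, g * h = h * g) → ∃ k : ℕ, g = z ^ k
  comm : ∀ a b : E, ∃ k : ℕ, a * b = b * a * z ^ k
  powp : ∀ g : E, ∃ k : ℕ, g ^ p = z ^ k

variable [hp : Fact p.Prime] {z : E}

noncomputable def kap (h : Data p z) (a b : E) : ZMod p := ((h.comm a b).choose : ZMod p)

theorem kap_spec (h : Data p z) (a b : E) : a * b = b * a * zp p z (kap h a b) := by
  unfold kap
  rw [zp_natCast h.pow_p]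
  exact (h.comm a b).choose_spec

theorem kap_unique (h : Data p z) {a b : E} {t : ZMod p} (ht : a * b = b * a * zp p z t) :
    kap h a b = t := by
  have h1 := kap_spec h a b
  rw [ht] at h1
  exact (zp_inj h.ne_one h.pow_p (mul_left_cancel h1)).symm

theorem kap_eq_zero_iff (h : Data p z) (a b : E) : kap h a b = 0 ↔ a * b = b * a := by
  constructor
  · intro h0
    have := kap_spec h a b
    rwa [h0, zp_zero, mul_one] at this
  · intro hab
    apply kap_unique
    rw [zp_zero, mul_one, hab]

theorem kap_mul_left (h : Data p z) (a a' b : E) : kap h (a * a') b = kap h a b + kap h a' b := by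
  apply kap_unique
  rw [zp_add h.pow_p]
  have hc := zp_commute (p := p) h.central
  calc a * a' * b = a * (a' * b) := mul_assoc _ _ _
    _ = a * (b * a' * zp p z (kap h a' b)) := by rw [← kap_spec h a' b]
    _ = (a * b) * a' * zp p z (kap h a' b) := by simp only [mul_assoc]
    _ = (b * a * zp p z (kap h a b)) * a' * zp p z (kap h a' b) := by rw [← kap_spec h a b]
    _ = b * a * (zp p z (kap h a b) * a') * zp p z (kap h a' b) := by simp only [mul_assoc]
    _ = b * a * (a' * zp p z (kap h a b)) * zp p z (kap h a' b) := by rw [hc]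
    _ = b * (a * a') * (zp p z (kap h a b) * zp p z (kap h a' b)) := by simp only [mul_assoc]

theorem kap_mul_right (h : Data p z) (a b b' : E) : kap h a (b * b') = kap h a b + kap h a b' := by
  apply kap_unique
  rw [zp_add h.pow_p]
  have hc := zp_commute (p := p) h.central
  calc a * (b * b') = (a * b) * b' := (mul_assoc _ _ _).symm
    _ = (b * a * zp p z (kap h a b)) * b' := by rw [← kap_spec h a b]
    _ = b * (a * (zp p z (kap h a b) * b')) := by simp only [mul_assoc]
    _ = b * (a * (b' * zp p z (kap h a b))) := by rw [hc]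
    _ = b * ((a * b') * zp p z (kap h a b)) := by simp only [mul_assoc]
    _ = b * ((b' * a * zp p z (kap h a b')) * zp p z (kap h a b)) := by rw [← kap_spec h a b']
    _ = b * b' * a * (zp p z (kap h a b') * zp p z (kap h a b)) := by simp only [mul_assoc]
    _ = b * b' * a * (zp p z (kap h a b) * zp p z (kap h a b')) := by rw [hc]

theorem kap_self (h : Data p z) (a : E) : kap h a a = 0 := (kap_eq_zero_iff h a a).mpr rfl

theorem kap_one_left (h : Data p z) (b : E) : kap h 1 b = 0 :=
  (kap_eq_zero_iff h 1 b).mpr (by rw [one_mul, mul_one])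

theorem kap_one_right (h : Data p z) (a : E) : kap h a 1 = 0 :=
  (kap_eq_zero_iff h a 1).mpr (by rw [one_mul, mul_one])

theorem kap_inv_left (h : Data p z) (a b : E) : kap h a⁻¹ b = - kap h a b := by
  have := kap_mul_left h a⁻¹ a b
  rw [inv_mul_cancel, kap_one_left] at this
  exact eq_neg_of_add_eq_zero_left this.symm

theorem kap_inv_right (h : Data p z) (a b : E) : kap h a b⁻¹ = - kap h a b := by
  have := kap_mul_right h a b⁻¹ b
  rw [inv_mul_cancel, kap_one_right] at this
  exact eq_neg_of_add_eq_zero_left this.symm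

theorem kap_pow_left (h : Data p z) (a b : E) (k : ℕ) : kap h (a ^ k) b = k * kap h a b := by
  induction k with
  | zero => rw [pow_zero, kap_one_left, Nat.cast_zero, zero_mul]
  | succ k ih => rw [pow_succ, kap_mul_left, ih, Nat.cast_succ]; ring

theorem kap_pow_right (h : Data p z) (a b : E) (k : ℕ) : kap h a (b ^ k) = k * kap h a b := by
  induction k with
  | zero => rw [pow_zero, kap_one_right, Nat.cast_zero, zero_mul]
  | succ k ih => rw [pow_succ, kap_mul_right, ih, Nat.cast_succ]; ring

theorem kap_symm (h : Data p z) (a b : E) : kap h b a = - kap h a b := by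
  have h1 := kap_spec h a b
  have h2 := kap_spec h b a
  have hc := zp_commute (p := p) h.central
  have h3 : a * b = a * b * (zp p z (kap h b a) * zp p z (kap h a b)) := by
    calc a * b = b * a * zp p z (kap h a b) := h1
      _ = a * b * zp p z (kap h b a) * zp p z (kap h a b) := by rw [← h2]
      _ = _ := by simp only [mul_assoc]
  have h4 : zp p z (kap h b a + kap h a b) = 1 := by
    rw [zp_add h.pow_p]
    exact (mul_eq_left.mp h3.symm)
  have := (zp_eq_one_iff h.ne_one h.pow_p _).mp h4
  exact eq_neg_of_add_eq_zero_left this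

theorem kap_zp_left (h : Data p z) (a b : E) (t : ZMod p) : kap h (zp p a t) b = t * kap h a b := by
  unfold zp
  rw [kap_pow_left, ZMod.natCast_zmod_val]

theorem kap_zp_right (h : Data p z) (a b : E) (t : ZMod p) : kap h a (zp p b t) = t * kap h a b := by
  unfold zp
  rw [kap_pow_right, ZMod.natCast_zmod_val]

theorem kap_z_left (h : Data p z) (b : E) : kap h z b = 0 :=
  (kap_eq_zero_iff h z b).mpr (h.central b)

theorem kap_z_right (h : Data p z) (a : E) : kap h a z = 0 :=
  (kap_eq_zero_iff h a z).mpr (h.central a).symm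

end Cfsg.Agent.Lib.Helper1.ES
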