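import Mathlib
import Cfsg.Agent.Lib.Helper1.ES1
set_option autoImplicit false
universe u
namespace Cfsg.Agent.Lib.Helper1.ES

variable {E : Type u} [Group E] {p : ℕ}

/-- The centralizer of `{x, y}`. -/
def cen (x y : E) : Subgroup E := Subgroup.centralizer {x, y}

theorem mem_cen_iff {x y g : E} : g ∈ cen x y ↔ g * x = x * g ∧ g * y = y * g := by
  unfold cen
  rw [Subgroup.mem_centralizer_iff]
  constructor
  · intro h
    exact ⟨(h x (by simp)).symm, (h y (by simp)).symm⟩
  · rintro ⟨h1, h2⟩ w hw
    rcases hw with rfl | rfl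
    · exact h1.symm
    · exact h2.symm

variable [hp : Fact p.Prime] {z : E}

theorem kap_of_rel (h : Data p z) {x y : E} (hxy : x * y = y * x * z) : kap h x y = 1 := by
  have : Fact (1 < p) := ⟨hp.out.one_lt⟩
  apply kap_unique
  rw [zp_one_eq]; exact hxy

omit hp in
theorem z_mem_cen (h : Data p z) (x y : E) : z ∈ cen x y :=
  mem_cen_iff.mpr ⟨h.central x, h.central y⟩

/-- Decomposition `E = ⟨x, y⟩ * C_E(x, y)`. -/
theorem decomp (h : Data p z) {x y : E} (hxy : x * y = y * x * z) (g : E) :
    ∃ i j : ZMod p, ∃ c ∈ cen x y, g = zp p y j * zp p x i * c := by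
  have hk : kap h x y = 1 := kap_of_rel h hxy
  have hk' : kap h y x = -1 := by rw [kap_symm h x y, hk]
  refine ⟨kap h g y, - kap h g x, (zp p y (- kap h g x) * zp p x (kap h g y))⁻¹ * g, ?_, ?_⟩
  · rw [mem_cen_iff]
    constructor
    · rw [← kap_eq_zero_iff h, kap_mul_left, kap_inv_left, kap_mul_left, kap_zp_left, kap_zp_left,
        kap_self, hk']
      ring
    · rw [← kap_eq_zero_iff h, kap_mul_left, kap_inv_left, kap_mul_left, kap_zp_left, kap_zp_left,
        kap_self, hk]
      ring
  · rw [mul_inv_cancel_left]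

omit hp in
theorem cen_commute_zp {x y : E} {c : E} (hc : c ∈ cen x y) (i j : ZMod p) :
    c * (zp p y j * zp p x i) = (zp p y j * zp p x i) * c := by
  obtain ⟨h1, h2⟩ := mem_cen_iff.mp hc
  have hx : Commute c x := h1
  have hy : Commute c y := h2
  have : Commute c (zp p y j * zp p x i) := by
    unfold zp
    exact (hy.pow_right _).mul_right (hx.pow_right _)
  exact this

/-- `C_E(x, y)` inherits the hypotheses. -/
theorem data_cen (h : Data p z) {x y : E} (hxy : x * y = y * x * z) :
    Data p (⟨z, z_mem_cen h x y⟩ : cen x y) where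
  ne_one := fun h1 => h.ne_one (congrArg Subtype.val h1)
  pow_p := Subtype.ext (by rw [Subgroup.coe_pow]; exact h.pow_p)
  central := fun g => Subtype.ext (by rw [Subgroup.coe_mul, Subgroup.coe_mul]; exact h.central g)
  center_sub := by
    intro c hc
    have hcen : ∀ g : E, (c : E) * g = g * (c : E) := by
      intro g
      obtain ⟨i, j, c', hc', rfl⟩ := decomp h hxy g
      have h1 := cen_commute_zp (p := p) c.2 i j
      have h2 : (c : E) * c' = c' * (c : E) := congrArg Subtype.val (hc ⟨c', hc'⟩)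
      calc (c : E) * (zp p y j * zp p x i * c') = ((c : E) * (zp p y j * zp p x i)) * c' := by
            simp only [mul_assoc]
        _ = (zp p y j * zp p x i) * ((c : E) * c') := by rw [h1]; simp only [mul_assoc]
        _ = zp p y j * zp p x i * c' * (c : E) := by rw [h2]; simp only [mul_assoc]
    obtain ⟨k, hk⟩ := h.center_sub c hcen
    exact ⟨k, Subtype.ext (by rw [Subgroup.coe_pow]; exact hk)⟩
  comm := by
    intro a b
    obtain ⟨k, hk⟩ := h.comm a b
    exact ⟨k, Subtype.ext (by
      rw [Subgroup.coe_mul, Subgroup.coe_mul, Subgroup.coe_mul, Subgroup.coe_pow]; exact hk)⟩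
  powp := by
    intro g
    obtain ⟨k, hk⟩ := h.powp g
    exact ⟨k, Subtype.ext (by rw [Subgroup.coe_pow, Subgroup.coe_pow]; exact hk)⟩

/-- If `E` is not abelian there are `x, y` with `x * y = y * x * z`. -/
theorem exists_pair (h : Data p z) {a b : E} (hab : a * b ≠ b * a) :
    ∃ x y : E, x * y = y * x * z := by
  have : Fact (1 < p) := ⟨hp.out.one_lt⟩
  have hk : kap h a b ≠ 0 := fun h0 => hab ((kap_eq_zero_iff h a b).mp h0)
  refine ⟨zp p a (kap h a b)⁻¹, b, ?_⟩
  have h1 := kap_spec h (zp p a (kap h a b)⁻¹) b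
  rw [kap_zp_left, inv_mul_cancel₀ hk, zp_one_eq] at h1
  exact h1

omit hp in
theorem not_mem_cen (h : Data p z) {x y : E} (hxy : x * y = y * x * z) : x ∉ cen x y := by
  intro hx
  have h2 := (mem_cen_iff.mp hx).2
  rw [h2] at hxy
  exact h.ne_one (mul_eq_left.mp hxy.symm)

end Cfsg.Agent.Lib.Helper1.ES
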