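import Mathlib
import Cfsg.Agent.Lib.Helper1.ES2
import Cfsg.Agent.Lib.Helper2.Heisenberg
set_option autoImplicit false
universe u
namespace Cfsg.Agent.Lib.Helper1.ES

open Cfsg.Agent.Lib.Helper2.HeisLib Matrix

variable {E : Type u} [Group E] {p : ℕ}

theorem pow_rel_left {x y z : E} (hzc : ∀ g : E, z * g = g * z) (hxy : x * y = y * x * z) (i : ℕ) :
    x ^ i * y = y * x ^ i * z ^ i := by
  induction i with
  | zero => simp
  | succ i ih =>
    have hc : Commute z x := hzc x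
    calc x ^ (i + 1) * y = x ^ i * (x * y) := by rw [pow_succ, mul_assoc]
      _ = x ^ i * (y * x * z) := by rw [hxy]
      _ = (x ^ i * y) * x * z := by simp only [mul_assoc]
      _ = (y * x ^ i * z ^ i) * x * z := by rw [ih]
      _ = y * x ^ i * (z ^ i * x) * z := by simp only [mul_assoc]
      _ = y * x ^ i * (x * z ^ i) * z := by rw [(hc.pow_left i).eq]
      _ = y * (x ^ i * x) * (z ^ i * z) := by simp only [mul_assoc]
      _ = y * x ^ (i + 1) * z ^ (i + 1) := by rw [← pow_succ, ← pow_succ]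

theorem pow_rel {x y z : E} (hzc : ∀ g : E, z * g = g * z) (hxy : x * y = y * x * z) (i j : ℕ) :
    x ^ i * y ^ j = y ^ j * x ^ i * z ^ (i * j) := by
  induction j with
  | zero => simp
  | succ j ih =>
    have hc : Commute (z ^ (i * j)) y := (show Commute z y from hzc y).pow_left _
    calc x ^ i * y ^ (j + 1) = (x ^ i * y ^ j) * y := by rw [pow_succ, mul_assoc]
      _ = (y ^ j * x ^ i * z ^ (i * j)) * y := by rw [ih]
      _ = y ^ j * x ^ i * (z ^ (i * j) * y) := by simp only [mul_assoc]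
      _ = y ^ j * x ^ i * (y * z ^ (i * j)) := by rw [hc.eq]
      _ = y ^ j * (x ^ i * y) * z ^ (i * j) := by simp only [mul_assoc]
      _ = y ^ j * (y * x ^ i * z ^ i) * z ^ (i * j) := by rw [pow_rel_left hzc hxy]
      _ = (y ^ j * y) * x ^ i * (z ^ i * z ^ (i * j)) := by simp only [mul_assoc]
      _ = y ^ (j + 1) * x ^ i * z ^ (i * (j + 1)) := by
        rw [← pow_succ, ← pow_add]; congr 2; ring

theorem zp_rel [NeZero p] {x y z : E} (hzc : ∀ g : E, z * g = g * z) (hz : z ^ p = 1)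
    (hxy : x * y = y * x * z) (i j : ZMod p) :
    zp p x i * zp p y j = zp p y j * zp p x i * zp p z (i * j) := by
  unfold zp
  rw [pow_rel hzc hxy, ZMod.val_mul, ← pow_eq_pow_mod _ hz]

variable [hp : Fact p.Prime]

/-- Peeling: extend a homomorphism from `Heis n` by one hyperbolic pair. -/
theorem peel {n : ℕ} {x y z : E} (hzc : ∀ g : E, z * g = g * z) (hz : z ^ p = 1)
    (hx : x ^ p = 1) (hy : y ^ p = 1) (hxy : x * y = y * x * z)
    (ψ : Heis n (ZMod p) →* E) (hψz : ∀ t, ψ (zc t) = zp p z t)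
    (hψx : ∀ m, x * ψ m = ψ m * x) (hψy : ∀ m, y * ψ m = ψ m * y) :
    ∃ φ : Heis (n + 1) (ZMod p) →* E, (∀ t, φ (zc t) = zp p z t) ∧
      ∀ m, φ m = zp p y (m.b 0) * zp p x (m.a 0) * ψ ⟨Fin.tail m.a, Fin.tail m.b, m.c⟩ := by
  let f : Heis (n + 1) (ZMod p) → E := fun m =>
    zp p y (m.b 0) * zp p x (m.a 0) * ψ ⟨Fin.tail m.a, Fin.tail m.b, m.c⟩
  have hf : ∀ m m', f (m * m') = f m * f m' := by
    intro m m'
    have e3 : (⟨Fin.tail (m * m').a, Fin.tail (m * m').b, (m * m').c⟩ : Heis n (ZMod p)) =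
        ⟨Fin.tail m.a, Fin.tail m.b, m.c⟩ * ⟨Fin.tail m'.a, Fin.tail m'.b, m'.c⟩ *
          zc (m.a 0 * m'.b 0) := by
      apply Heis.ext
      · ext i; simp [zc, Fin.tail]
      · ext i; simp [zc, Fin.tail]
      · simp only [mul_c, mul_a, zc, dotProduct, Fin.sum_univ_succ, Fin.tail, Pi.zero_apply,
          mul_zero, Finset.sum_const_zero, add_zero]
        ring
    have hXΨ : ∀ (i : ZMod p) (w : Heis n (ZMod p)), zp p x i * ψ w = ψ w * zp p x i := by
      intro i w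
      unfold zp
      exact ((show Commute x (ψ w) from hψx w).pow_left _).eq
    have hYΨ : ∀ (j : ZMod p) (w : Heis n (ZMod p)), zp p y j * ψ w = ψ w * zp p y j := by
      intro j w
      unfold zp
      exact ((show Commute y (ψ w) from hψy w).pow_left _).eq
    have hZ : ∀ (t : ZMod p) (g : E), zp p z t * g = g * zp p z t := zp_commute hzc
    show zp p y ((m * m').b 0) * zp p x ((m * m').a 0) *
        ψ ⟨Fin.tail (m * m').a, Fin.tail (m * m').b, (m * m').c⟩ = _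
    rw [e3, map_mul, map_mul, hψz]
    have ea : (m * m').a 0 = m.a 0 + m'.a 0 := rfl
    have eb : (m * m').b 0 = m.b 0 + m'.b 0 := rfl
    rw [ea, eb, zp_add hy, zp_add hx]
    set Yb := zp p y (m.b 0)
    set Yb' := zp p y (m'.b 0)
    set Xa := zp p x (m.a 0)
    set Xa' := zp p x (m'.a 0)
    set Ψ := ψ ⟨Fin.tail m.a, Fin.tail m.b, m.c⟩
    set Ψ' := ψ ⟨Fin.tail m'.a, Fin.tail m'.b, m'.c⟩
    set Z := zp p z (m.a 0 * m'.b 0)
    have hrel : Xa * Yb' = Yb' * Xa * Z := zp_rel hzc hz hxy _ _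
    show Yb * Yb' * (Xa * Xa') * (Ψ * Ψ' * Z) = Yb * Xa * Ψ * (Yb' * Xa' * Ψ')
    symm
    calc Yb * Xa * Ψ * (Yb' * Xa' * Ψ') = Yb * Xa * (Ψ * Yb') * Xa' * Ψ' := by
          simp only [mul_assoc]
      _ = Yb * Xa * (Yb' * Ψ) * Xa' * Ψ' := by rw [hYΨ]
      _ = Yb * (Xa * Yb') * (Ψ * Xa') * Ψ' := by simp only [mul_assoc]
      _ = Yb * (Yb' * Xa * Z) * (Xa' * Ψ) * Ψ' := by rw [hrel, hXΨ]
      _ = Yb * Yb' * Xa * (Z * (Xa' * (Ψ * Ψ'))) := by simp only [mul_assoc]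
      _ = Yb * Yb' * Xa * ((Xa' * (Ψ * Ψ')) * Z) := by rw [hZ]
      _ = Yb * Yb' * (Xa * Xa') * (Ψ * Ψ' * Z) := by simp only [mul_assoc]
  refine ⟨MonoidHom.mk' f hf, ?_, fun m => rfl⟩
  intro t
  show zp p y ((zc t : Heis (n + 1) (ZMod p)).b 0) * zp p x ((zc t : Heis (n + 1) (ZMod p)).a 0) *
      ψ ⟨Fin.tail (zc t : Heis (n + 1) (ZMod p)).a, Fin.tail (zc t : Heis (n + 1) (ZMod p)).b,
        (zc t : Heis (n + 1) (ZMod p)).c⟩ = _
  have e1 : (zc t : Heis (n + 1) (ZMod p)).b 0 = 0 := rfl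
  have e2 : (zc t : Heis (n + 1) (ZMod p)).a 0 = 0 := rfl
  have e3 : (⟨Fin.tail (zc t : Heis (n + 1) (ZMod p)).a, Fin.tail (zc t : Heis (n + 1) (ZMod p)).b,
        (zc t : Heis (n + 1) (ZMod p)).c⟩ : Heis n (ZMod p)) = zc t := rfl
  rw [e1, e2, e3, zp_zero, zp_zero, one_mul, one_mul, hψz]

/-- Base case: `Heis 0`. -/
theorem base {z : E} (hz : z ^ p = 1) :
    ∃ φ : Heis 0 (ZMod p) →* E, (∀ t, φ (zc t) = zp p z t) ∧ ∀ m, φ m = zp p z m.c := by
  refine ⟨MonoidHom.mk' (fun m => zp p z m.c) ?_, fun t => rfl, fun m => rfl⟩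
  intro m m'
  show zp p z (m * m').c = _
  rw [mul_c, dotProduct_of_isEmpty, add_zero, zp_add hz]

end Cfsg.Agent.Lib.Helper1.ES
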