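import Mathlib
import Cfsg.Agent.Lib.Helper1.ES3
import Cfsg.Agent.Lib.Helper1.FrattiniP
set_option autoImplicit false
universe u
namespace Cfsg.Agent.Lib.Helper1.ES

open Cfsg.Agent.Lib.Helper2.HeisLib Matrix
open scoped commutatorElement

variable {p : ℕ} [hp : Fact p.Prime]

/-- Main induction: a surjection from some Heisenberg group. -/
theorem exists_heis_surj : ∀ (N : ℕ) (E : Type u) [Group E] [Finite E] (z : E), Data p z →
    (∀ g : E, g ^ p = 1) → Nat.card E = N →
    ∃ n, ∃ φ : Heis n (ZMod p) →* E, Function.Surjective φ ∧ ∀ t, φ (zc t) = zp p z t := by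
  intro N
  induction N using Nat.strong_induction_on with
  | _ N ih =>
    intro E _ _ z h hexp hN
    by_cases hab : ∀ a b : E, a * b = b * a
    · -- abelian: `E = ⟨z⟩`
      obtain ⟨φ, hφz, hφ⟩ := base (p := p) (E := E) h.pow_p
      refine ⟨0, φ, ?_, hφz⟩
      intro g
      obtain ⟨k, hk⟩ := h.center_sub g (hab g)
      refine ⟨zc (k : ZMod p), ?_⟩
      rw [hφz, zp_natCast h.pow_p, hk]
    · push Not at hab
      obtain ⟨a, b, hab⟩ := hab
      obtain ⟨x, y, hxy⟩ := exists_pair h hab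
      have hlt : Nat.card (cen x y) < N := by
        rw [← hN]
        exact Finite.card_subtype_lt (not_mem_cen h hxy)
      obtain ⟨n, ψ₀, hψ₀s, hψ₀z⟩ := ih _ hlt (cen x y) ⟨z, z_mem_cen h x y⟩ (data_cen h hxy)
        (fun g => Subtype.ext (by rw [Subgroup.coe_pow]; exact hexp g)) rfl
      have hψmem : ∀ m, ((cen x y).subtype.comp ψ₀) m ∈ cen x y := fun m => (ψ₀ m).2
      obtain ⟨φ, hφz, hφ⟩ := peel h.central h.pow_p (hexp x) (hexp y) hxy
        ((cen x y).subtype.comp ψ₀)
        (by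
          intro t
          rw [MonoidHom.comp_apply, hψ₀z]
          unfold zp
          rfl)
        (fun m => ((mem_cen_iff.mp (hψmem m)).1).symm)
        (fun m => ((mem_cen_iff.mp (hψmem m)).2).symm)
      refine ⟨n + 1, φ, ?_, hφz⟩
      intro g
      obtain ⟨i, j, c, hc, rfl⟩ := decomp h hxy g
      obtain ⟨m', hm'⟩ := hψ₀s ⟨c, hc⟩
      refine ⟨⟨Fin.cons i m'.a, Fin.cons j m'.b, m'.c⟩, ?_⟩
      rw [hφ]
      simp only [Fin.cons_zero, Fin.tail_cons]
      rw [MonoidHom.comp_apply]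
      have : (⟨m'.a, m'.b, m'.c⟩ : Heis n (ZMod p)) = m' := rfl
      rw [this, hm']
      rfl

/-- A homomorphism from a Heisenberg group that is faithful on the centre is injective. -/
theorem heis_hom_injective {E : Type u} [Group E] {n : ℕ} {z : E} (hz1 : z ≠ 1) (hz : z ^ p = 1)
    (φ : Heis n (ZMod p) →* E) (hφz : ∀ t, φ (zc t) = zp p z t) : Function.Injective φ := by
  classical
  rw [injective_iff_map_eq_one]
  intro m hm
  have hcomm : ∀ g : Heis n (ZMod p), m.a ⬝ᵥ g.b - g.a ⬝ᵥ m.b = 0 := by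
    intro g
    have h1 : φ ⁅m, g⁆ = 1 := by
      rw [map_commutatorElement, hm, commutatorElement_one_left]
    rw [commutatorElement_eq, hφz] at h1
    exact (zp_eq_one_iff hz1 hz _).mp h1
  have ha : m.a = 0 := by
    ext i
    have h1 := hcomm ⟨0, Pi.single i 1, 0⟩
    simpa using h1
  have hb : m.b = 0 := by
    ext i
    have h1 := hcomm ⟨Pi.single i 1, 0, 0⟩
    simpa using h1
  have hm' : m = zc m.c := Heis.ext ha hb rfl
  rw [hm', hφz] at hm
  have hc : m.c = 0 := (zp_eq_one_iff hz1 hz _).mp hm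
  rw [hm', hc]
  rfl

/-- From the Prelude's `IsExtraspecial` to `Data`. -/
theorem data_of_extraspecial {E : Type u} [Group E] [Finite E] (h : Cfsg.IsExtraspecial p E) :
    ∃ z : E, Data p z := by
  obtain ⟨⟨hpg, hfrat, hcomm⟩, hcard⟩ := h
  have hcyc : IsCyclic (Subgroup.center E) := isCyclic_of_prime_card hcard
  have hnt : Nontrivial (Subgroup.center E) := by
    rw [← Finite.one_lt_card_iff_nontrivial, hcard]; exact hp.out.one_lt
  obtain ⟨z, hz⟩ := exists_ne (1 : Subgroup.center E)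
  have hgen : ∀ g : Subgroup.center E, g ∈ Subgroup.zpowers z := by
    intro g
    have := zpowers_eq_top_of_prime_card (G := Subgroup.center E) hcard hz
    rw [this]; exact Subgroup.mem_top g
  have hzp : (z : E) ^ p = 1 := by
    have : z ^ p = 1 := by rw [← hcard]; exact pow_card_eq_one'
    exact_mod_cast congrArg Subtype.val this
  have hz1 : (z : E) ≠ 1 := fun h1 => hz (Subtype.ext h1)
  have hmem : ∀ g : E, g ∈ Subgroup.center E → ∃ k : ℕ, g = (z : E) ^ k := by
    intro g hg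
    have h1 := hgen ⟨g, hg⟩
    rw [← mem_powers_iff_mem_zpowers] at h1
    obtain ⟨k, hk⟩ := h1
    exact ⟨k, by have := congrArg Subtype.val hk; simpa using this.symm⟩
  refine ⟨z, hz1, hzp, ?_, ?_, ?_, ?_⟩
  · intro g
    exact (Subgroup.mem_center_iff.mp z.2 g).symm
  · intro g hg
    exact hmem g (Subgroup.mem_center_iff.mpr (fun h => (hg h).symm))
  · intro a b
    have h1 : ⁅a⁻¹, b⁻¹⁆ ∈ Subgroup.center E := by
      rw [← hcomm, commutator_def]
      exact Subgroup.commutator_mem_commutator (Subgroup.mem_top _) (Subgroup.mem_top _)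
    obtain ⟨k, hk⟩ := hmem _ h1
    refine ⟨k, ?_⟩
    rw [← hk, commutatorElement_def]
    group
  · intro g
    have h1 : g ^ p ∈ Subgroup.center E := by
      rw [← hfrat]
      exact pow_prime_mem_frattini_of_isPGroup p hpg g
    exact hmem _ h1

/-- An extraspecial `p`-group of exponent `p` is a Heisenberg group. -/
theorem extraspecial_exp_iso_heis {E : Type u} [Group E] [Finite E]
    (h : Cfsg.IsExtraspecial p E) (hexp : ∀ g : E, g ^ p = 1) :
    ∃ n, Nonempty (Heis n (ZMod p) ≃* E) := by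
  obtain ⟨z, hd⟩ := data_of_extraspecial h
  obtain ⟨n, φ, hs, hz⟩ := exists_heis_surj (Nat.card E) E z hd hexp rfl
  exact ⟨n, ⟨MulEquiv.ofBijective φ ⟨heis_hom_injective hd.ne_one hd.pow_p φ hz, hs⟩⟩⟩

theorem extraspecial_exp_unique {E₁ : Type*} {E₂ : Type*} [Group E₁] [Group E₂]
    [Finite E₁] [Finite E₂]
    (h₁ : Cfsg.IsExtraspecial p E₁) (h₂ : Cfsg.IsExtraspecial p E₂)
    (he₁ : Monoid.exponent E₁ = p) (he₂ : Monoid.exponent E₂ = p)
    (hc : Nat.card E₁ = Nat.card E₂) : Nonempty (E₁ ≃* E₂) := by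
  obtain ⟨n₁, ⟨e₁⟩⟩ := extraspecial_exp_iso_heis h₁
    (fun g => by rw [← he₁]; exact Monoid.pow_exponent_eq_one g)
  obtain ⟨n₂, ⟨e₂⟩⟩ := extraspecial_exp_iso_heis h₂
    (fun g => by rw [← he₂]; exact Monoid.pow_exponent_eq_one g)
  have hn : n₁ = n₂ := by
    have c1 := Nat.card_congr e₁.toEquiv
    have c2 := Nat.card_congr e₂.toEquiv
    rw [card_heis, Nat.card_zmod] at c1 c2
    have : p ^ (1 + 2 * n₁) = p ^ (1 + 2 * n₂) := by rw [c1, c2, hc]
    have := Nat.pow_right_injective hp.out.two_le this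
    omega
  subst hn
  exact ⟨e₁.symm.trans e₂⟩

end Cfsg.Agent.Lib.Helper1.ES
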