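import Mathlib
set_option autoImplicit false
namespace Cfsg.Agent.Lib.Helper1.ES

open scoped commutatorElement

/-- Twisted Heisenberg group: triples `(a, b, c)` with multiplication
`(a,b,c)(a',b',c') = (a+a', b+b', c+c'+∑ (aᵢ b'ᵢ + sᵢ aᵢ a'ᵢ + tᵢ bᵢ b'ᵢ))`. -/
@[ext] structure TH {n : ℕ} {R : Type*} (s t : Fin n → R) where
  a : Fin n → R
  b : Fin n → R
  c : R

namespace TH

variable {n : ℕ} {R : Type*} [CommRing R] {s t : Fin n → R}

/-- the bilinear cocycle -/
def bil (s t : Fin n → R) (a b a' b' : Fin n → R) : R :=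
  ∑ i, (a i * b' i + s i * a i * a' i + t i * b i * b' i)

theorem bil_add_left (a₁ a₂ b₁ b₂ a' b' : Fin n → R) :
    bil s t (a₁ + a₂) (b₁ + b₂) a' b' = bil s t a₁ b₁ a' b' + bil s t a₂ b₂ a' b' := by
  unfold bil
  rw [← Finset.sum_add_distrib]
  apply Finset.sum_congr rfl
  intro i _
  simp only [Pi.add_apply]; ring

theorem bil_add_right (a b a₁ a₂ b₁ b₂ : Fin n → R) :
    bil s t a b (a₁ + a₂) (b₁ + b₂) = bil s t a b a₁ b₁ + bil s t a b a₂ b₂ := by
  unfold bil
  rw [← Finset.sum_add_distrib]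
  apply Finset.sum_congr rfl
  intro i _
  simp only [Pi.add_apply]; ring

theorem bil_zero_left (a' b' : Fin n → R) : bil s t 0 0 a' b' = 0 := by
  unfold bil; simp

theorem bil_zero_right (a b : Fin n → R) : bil s t a b 0 0 = 0 := by
  unfold bil; simp

theorem bil_neg_left (a b a' b' : Fin n → R) : bil s t (-a) (-b) a' b' = - bil s t a b a' b' := by
  unfold bil
  rw [← Finset.sum_neg_distrib]
  apply Finset.sum_congr rfl
  intro i _
  simp only [Pi.neg_apply]; ring

instance : Mul (TH s t) :=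
  ⟨fun x y => ⟨x.a + y.a, x.b + y.b, x.c + y.c + bil s t x.a x.b y.a y.b⟩⟩
instance : One (TH s t) := ⟨⟨0, 0, 0⟩⟩
instance : Inv (TH s t) := ⟨fun x => ⟨-x.a, -x.b, -x.c + bil s t x.a x.b x.a x.b⟩⟩

@[simp] theorem mul_a (x y : TH s t) : (x * y).a = x.a + y.a := rfl
@[simp] theorem mul_b (x y : TH s t) : (x * y).b = x.b + y.b := rfl
@[simp] theorem mul_c (x y : TH s t) : (x * y).c = x.c + y.c + bil s t x.a x.b y.a y.b := rfl
@[simp] theorem one_a : (1 : TH s t).a = 0 := rfl
@[simp] theorem one_b : (1 : TH s t).b = 0 := rfl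
@[simp] theorem one_c : (1 : TH s t).c = 0 := rfl
@[simp] theorem inv_a (x : TH s t) : (x⁻¹).a = -x.a := rfl
@[simp] theorem inv_b (x : TH s t) : (x⁻¹).b = -x.b := rfl
@[simp] theorem inv_c (x : TH s t) : (x⁻¹).c = -x.c + bil s t x.a x.b x.a x.b := rfl

instance : Group (TH s t) where
  mul_assoc x y z := by
    ext
    · simp [add_assoc]
    · simp [add_assoc]
    · simp only [mul_c, mul_a, mul_b, bil_add_left, bil_add_right]; ring
  one_mul x := by
    ext
    · simp
    · simp
    · simp only [mul_c, one_c, one_a, one_b, bil_zero_left]; ring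
  mul_one x := by
    ext
    · simp
    · simp
    · simp only [mul_c, one_c, one_a, one_b, bil_zero_right]; ring
  inv_mul_cancel x := by
    ext
    · simp
    · simp
    · simp only [mul_c, inv_c, inv_a, inv_b, bil_neg_left, one_c]; ring

/-- the central element `(0,0,r)` -/
def zc (r : R) : TH s t := ⟨0, 0, r⟩

@[simp] theorem zc_a (r : R) : (zc r : TH s t).a = 0 := rfl
@[simp] theorem zc_b (r : R) : (zc r : TH s t).b = 0 := rfl
@[simp] theorem zc_c (r : R) : (zc r : TH s t).c = r := rfl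

theorem bil_neg_right (a b a' b' : Fin n → R) : bil s t a b (-a') (-b') = - bil s t a b a' b' := by
  unfold bil
  rw [← Finset.sum_neg_distrib]
  apply Finset.sum_congr rfl
  intro i _
  simp only [Pi.neg_apply]; ring

theorem bil_sub_bil (a b a' b' : Fin n → R) :
    bil s t a b a' b' - bil s t a' b' a b = ∑ i, (a i * b' i - a' i * b i) := by
  unfold bil
  rw [← Finset.sum_sub_distrib]
  apply Finset.sum_congr rfl
  intro i _
  ring

theorem commutatorElement_eq (x y : TH s t) :
    ⁅x, y⁆ = zc (∑ i, (x.a i * y.b i - y.a i * x.b i)) := by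
  rw [commutatorElement_def]
  apply TH.ext
  · simp
  · simp
  · simp only [mul_c, mul_a, mul_b, inv_c, inv_a, inv_b, zc_c, bil_add_left, bil_neg_right,
      bil_neg_left]
    rw [← bil_sub_bil (s := s) (t := t)]
    ring

/-- the underlying product type -/
def equivProd : TH s t ≃ (Fin n → R) × (Fin n → R) × R where
  toFun x := (x.a, x.b, x.c)
  invFun y := ⟨y.1, y.2.1, y.2.2⟩
  left_inv _ := rfl
  right_inv _ := rfl

instance [Finite R] : Finite (TH s t) := Finite.of_equiv _ equivProd.symm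

omit [CommRing R] in
theorem card_th [Finite R] : Nat.card (TH s t) = Nat.card R ^ (1 + 2 * n) := by
  rw [Nat.card_congr equivProd, Nat.card_prod, Nat.card_prod, Nat.card_fun, Nat.card_fin]
  ring

end TH

end Cfsg.Agent.Lib.Helper1.ES
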