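import Mathlib
import Cfsg.Agent.Lib.Helper1.ES3
import Cfsg.Agent.Lib.Helper1.ES5
set_option autoImplicit false
universe u
namespace Cfsg.Agent.Lib.Helper1.ES

variable {E : Type u} [Group E]

theorem zmod2_cases (u : ZMod 2) : u = 0 ∨ u = 1 := by
  revert u; decide

theorem zp2_one (w : E) : zp 2 w 1 = w := by
  unfold zp; simp [ZMod.val_one]

theorem zp2_add {g z : E} {τ : ZMod 2} (hg : g ^ 2 = zp 2 z τ) (u v : ZMod 2) :
    zp 2 g (u + v) * zp 2 z (τ * u * v) = zp 2 g u * zp 2 g v := by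
  have h2 : (1 : ZMod 2) + 1 = 0 := by decide
  rcases zmod2_cases u with rfl | rfl <;> rcases zmod2_cases v with rfl | rfl
  · simp [zp_zero]
  · simp [zp_zero]
  · simp [zp_zero]
  · rw [h2, zp_zero, zp2_one, one_mul, mul_one, mul_one, ← hg, pow_two]

theorem central_move (A B C Z1 Z2 Z3 : E) (h2 : ∀ g, Z2 * g = g * Z2) (h3 : ∀ g, Z3 * g = g * Z3) :
    (A * Z3) * (B * Z2) * (C * Z1) = A * B * (C * (Z1 * Z2 * Z3)) := by
  calc (A * Z3) * (B * Z2) * (C * Z1) = A * (Z3 * (B * Z2 * (C * Z1))) := by simp only [mul_assoc]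
    _ = A * ((B * Z2 * (C * Z1)) * Z3) := by rw [h3]
    _ = A * B * (Z2 * (C * Z1)) * Z3 := by simp only [mul_assoc]
    _ = A * B * ((C * Z1) * Z2) * Z3 := by rw [h2]
    _ = A * B * (C * (Z1 * Z2 * Z3)) := by simp only [mul_assoc]

/-- Peeling for `p = 2`, with twists `σ`, `τ`. -/
theorem peel2 {n : ℕ} {s t : Fin n → ZMod 2} {x y z : E} {σ τ : ZMod 2}
    (hzc : ∀ g : E, z * g = g * z) (hz : z ^ 2 = 1)
    (hx : x ^ 2 = zp 2 z σ) (hy : y ^ 2 = zp 2 z τ) (hxy : x * y = y * x * z)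
    (ψ : TH s t →* E) (hψz : ∀ r, ψ (TH.zc r) = zp 2 z r)
    (hψx : ∀ m, x * ψ m = ψ m * x) (hψy : ∀ m, y * ψ m = ψ m * y) :
    ∃ φ : TH (Fin.cons σ s : Fin (n + 1) → ZMod 2) (Fin.cons τ t : Fin (n + 1) → ZMod 2) →* E,
      (∀ r, φ (TH.zc r) = zp 2 z r) ∧
      ∀ m, φ m = zp 2 y (m.b 0) * zp 2 x (m.a 0) * ψ ⟨Fin.tail m.a, Fin.tail m.b, m.c⟩ := by
  let f : TH (Fin.cons σ s : Fin (n + 1) → ZMod 2) (Fin.cons τ t : Fin (n + 1) → ZMod 2) → E :=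
    fun m => zp 2 y (m.b 0) * zp 2 x (m.a 0) * ψ ⟨Fin.tail m.a, Fin.tail m.b, m.c⟩
  have hf : ∀ m m', f (m * m') = f m * f m' := by
    intro m m'
    have e3 : (⟨Fin.tail (m * m').a, Fin.tail (m * m').b, (m * m').c⟩ : TH s t) =
        ⟨Fin.tail m.a, Fin.tail m.b, m.c⟩ * ⟨Fin.tail m'.a, Fin.tail m'.b, m'.c⟩ *
          TH.zc (m.a 0 * m'.b 0 + σ * m.a 0 * m'.a 0 + τ * m.b 0 * m'.b 0) := by
      apply TH.ext
      · ext i; simp [Fin.tail]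
      · ext i; simp [Fin.tail]
      · simp only [TH.mul_c, TH.mul_a, TH.mul_b, TH.zc_a, TH.zc_b, TH.zc_c, TH.bil_zero_right,
          add_zero]
        unfold TH.bil
        rw [Fin.sum_univ_succ]
        simp only [Fin.cons_zero, Fin.cons_succ, Fin.tail]
        ring
    have hXΨ : ∀ (i : ZMod 2) (w : TH s t), zp 2 x i * ψ w = ψ w * zp 2 x i := by
      intro i w
      unfold zp
      exact ((show Commute x (ψ w) from hψx w).pow_left _).eq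
    have hYΨ : ∀ (j : ZMod 2) (w : TH s t), zp 2 y j * ψ w = ψ w * zp 2 y j := by
      intro j w
      unfold zp
      exact ((show Commute y (ψ w) from hψy w).pow_left _).eq
    have hZ : ∀ (r : ZMod 2) (g : E), zp 2 z r * g = g * zp 2 z r := zp_commute hzc
    show zp 2 y ((m * m').b 0) * zp 2 x ((m * m').a 0) *
        ψ ⟨Fin.tail (m * m').a, Fin.tail (m * m').b, (m * m').c⟩ = _
    rw [e3, map_mul, map_mul, hψz]
    have ea : (m * m').a 0 = m.a 0 + m'.a 0 := rfl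
    have eb : (m * m').b 0 = m.b 0 + m'.b 0 := rfl
    rw [ea, eb, zp_add hz, zp_add hz]
    have hY := zp2_add hy (m.b 0) (m'.b 0)
    have hX := zp2_add hx (m.a 0) (m'.a 0)
    set Yab := zp 2 y (m.b 0 + m'.b 0)
    set Xaa := zp 2 x (m.a 0 + m'.a 0)
    set Yb := zp 2 y (m.b 0)
    set Yb' := zp 2 y (m'.b 0)
    set Xa := zp 2 x (m.a 0)
    set Xa' := zp 2 x (m'.a 0)
    set Ψ := ψ ⟨Fin.tail m.a, Fin.tail m.b, m.c⟩
    set Ψ' := ψ ⟨Fin.tail m'.a, Fin.tail m'.b, m'.c⟩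
    set Z1 := zp 2 z (m.a 0 * m'.b 0)
    set Z2 := zp 2 z (σ * m.a 0 * m'.a 0)
    set Z3 := zp 2 z (τ * m.b 0 * m'.b 0)
    have hrel : Xa * Yb' = Yb' * Xa * Z1 := zp_rel hzc hz hxy _ _
    show Yab * Xaa * (Ψ * Ψ' * (Z1 * Z2 * Z3)) = Yb * Xa * Ψ * (Yb' * Xa' * Ψ')
    symm
    calc Yb * Xa * Ψ * (Yb' * Xa' * Ψ') = Yb * Xa * (Ψ * Yb') * Xa' * Ψ' := by
          simp only [mul_assoc]
      _ = Yb * Xa * (Yb' * Ψ) * Xa' * Ψ' := by rw [hYΨ]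
      _ = Yb * (Xa * Yb') * (Ψ * Xa') * Ψ' := by simp only [mul_assoc]
      _ = Yb * (Yb' * Xa * Z1) * (Xa' * Ψ) * Ψ' := by rw [hrel, hXΨ]
      _ = Yb * Yb' * Xa * (Z1 * (Xa' * (Ψ * Ψ'))) := by simp only [mul_assoc]
      _ = Yb * Yb' * Xa * ((Xa' * (Ψ * Ψ')) * Z1) := by rw [hZ]
      _ = (Yb * Yb') * (Xa * Xa') * (Ψ * Ψ' * Z1) := by simp only [mul_assoc]
      _ = (Yab * Z3) * (Xaa * Z2) * (Ψ * Ψ' * Z1) := by rw [hY, hX]
      _ = Yab * Xaa * (Ψ * Ψ' * (Z1 * Z2 * Z3)) := central_move _ _ _ _ _ _ (hZ _) (hZ _)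
  refine ⟨MonoidHom.mk' f hf, ?_, fun m => rfl⟩
  intro r
  show zp 2 y 0 * zp 2 x 0 * ψ (TH.zc r) = _
  rw [zp_zero, zp_zero, one_mul, one_mul, hψz]

/-- Base case: rank `0`. -/
theorem base2 {z : E} (hz : z ^ 2 = 1) {s t : Fin 0 → ZMod 2} :
    ∃ φ : TH s t →* E, (∀ r, φ (TH.zc r) = zp 2 z r) ∧ ∀ m, φ m = zp 2 z m.c := by
  refine ⟨MonoidHom.mk' (fun m => zp 2 z m.c) ?_, fun t => rfl, fun m => rfl⟩
  intro m m'
  show zp 2 z (m * m').c = _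
  have : TH.bil s t m.a m.b m'.a m'.b = 0 := by unfold TH.bil; simp
  rw [TH.mul_c, this, add_zero, zp_add hz]

end Cfsg.Agent.Lib.Helper1.ES
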