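import Mathlib
import Cfsg.Agent.Lib.Helper1.ES6
set_option autoImplicit false
universe u
namespace Cfsg.Agent.Lib.Helper1.ES

open scoped commutatorElement

variable {E : Type u} [Group E] {z : E}

theorem sq_eq (h : Data 2 z) (g : E) : ∃ τ : ZMod 2, g ^ 2 = zp 2 z τ := by
  obtain ⟨k, hk⟩ := h.powp g
  exact ⟨(k : ZMod 2), by rw [zp_natCast h.pow_p, hk]⟩

theorem zz (h : Data 2 z) : z * z = 1 := by rw [← pow_two]; exact h.pow_p

theorem neg_one_zmod2 : (-1 : ZMod 2) = 1 := by decide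

theorem mul_sq (h : Data 2 z) (a b : E) : (a * b) ^ 2 = a ^ 2 * b ^ 2 * zp 2 z (kap h b a) := by
  have h1 := kap_spec h b a
  have hc := zp_commute (p := 2) h.central
  calc (a * b) ^ 2 = a * (b * a) * b := by rw [pow_two]; simp only [mul_assoc]
    _ = a * (a * b * zp 2 z (kap h b a)) * b := by rw [h1]
    _ = a * a * b * (zp 2 z (kap h b a) * b) := by simp only [mul_assoc]
    _ = a * a * b * (b * zp 2 z (kap h b a)) := by rw [hc]
    _ = a ^ 2 * b ^ 2 * zp 2 z (kap h b a) := by rw [pow_two, pow_two]; simp only [mul_assoc]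

/-- Normalisation of a hyperbolic pair: both squares equal. -/
theorem norm1 (h : Data 2 z) {a b : E} (hab : a * b ≠ b * a) :
    ∃ (x y : E) (ε : ZMod 2), x * y = y * x * z ∧ x ^ 2 = zp 2 z ε ∧ y ^ 2 = zp 2 z ε := by
  obtain ⟨x, y, hxy⟩ := exists_pair h hab
  obtain ⟨σ, hσ⟩ := sq_eq h x
  obtain ⟨τ, hτ⟩ := sq_eq h y
  have hk : kap h x y = 1 := kap_of_rel h hxy
  have hk' : kap h y x = 1 := by rw [kap_symm h x y, hk, neg_one_zmod2]
  have hsq : (x * y) ^ 2 = zp 2 z (σ + τ + 1) := by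
    rw [mul_sq h, hσ, hτ, hk', zp_add h.pow_p, zp_add h.pow_p]
  rcases zmod2_cases σ with rfl | rfl <;> rcases zmod2_cases τ with rfl | rfl
  · exact ⟨x, y, 0, hxy, hσ, hτ⟩
  · refine ⟨x, x * y, 0, ?_, hσ, ?_⟩
    · calc x * (x * y) = x * (y * x * z) := congrArg (x * ·) hxy
        _ = x * y * x * z := by simp only [mul_assoc]
    · rw [hsq]; congr 1
  · refine ⟨x * y, y, 0, ?_, ?_, hτ⟩
    · have hc : z * y = y * z := h.central y
      calc x * y * y = y * x * z * y := by rw [hxy]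
        _ = y * x * (z * y) := by simp only [mul_assoc]
        _ = y * (x * y) * z := by rw [hc]; simp only [mul_assoc]
    · rw [hsq]; congr 1
  · exact ⟨x, y, 1, hxy, hσ, hτ⟩

/-- From a pair with squares `z` and an element of the centraliser with square `z`, a pair of
involutions. -/
theorem norm2 (h : Data 2 z) {x y u : E} (hxy : x * y = y * x * z) (hx : x ^ 2 = z) (hy : y ^ 2 = z)
    (hu : u ∈ cen x y) (hu2 : u ^ 2 = z) :
    (x * u) * (y * u) = (y * u) * (x * u) * z ∧ (x * u) ^ 2 = 1 ∧ (y * u) ^ 2 = 1 := by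
  obtain ⟨h1, h2⟩ := mem_cen_iff.mp hu
  have hzz := zz h
  refine ⟨?_, ?_, ?_⟩
  · have hc : z * u = u * z := h.central u
    calc x * u * (y * u) = x * (u * y) * u := by simp only [mul_assoc]
      _ = x * (y * u) * u := by rw [h2]
      _ = (x * y) * u * u := by simp only [mul_assoc]
      _ = (y * x * z) * u * u := by rw [hxy]
      _ = y * x * (z * u) * u := by simp only [mul_assoc]
      _ = y * x * (u * z) * u := by rw [hc]
      _ = y * (x * u) * (z * u) := by simp only [mul_assoc]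
      _ = y * (u * x) * (u * z) := by rw [h1, hc]
      _ = y * u * (x * u) * z := by simp only [mul_assoc]
  · calc (x * u) ^ 2 = x * (u * x) * u := by rw [pow_two]; simp only [mul_assoc]
      _ = x * (x * u) * u := by rw [h1]
      _ = x ^ 2 * u ^ 2 := by rw [pow_two, pow_two]; simp only [mul_assoc]
      _ = 1 := by rw [hx, hu2, hzz]
  · calc (y * u) ^ 2 = y * (u * y) * u := by rw [pow_two]; simp only [mul_assoc]
      _ = y * (y * u) * u := by rw [h2]
      _ = y ^ 2 * u ^ 2 := by rw [pow_two, pow_two]; simp only [mul_assoc]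
      _ = 1 := by rw [hy, hu2, hzz]

theorem commute_of_sq_eq_one {G : Type*} [Group G] {c c' : G} (h1 : c ^ 2 = 1) (h2 : c' ^ 2 = 1)
    (h3 : (c * c') ^ 2 = 1) : c * c' = c' * c := by
  have e1 : c⁻¹ = c := by rw [inv_eq_iff_mul_eq_one, ← pow_two]; exact h1
  have e2 : c'⁻¹ = c' := by rw [inv_eq_iff_mul_eq_one, ← pow_two]; exact h2
  have e3 : (c * c')⁻¹ = c * c' := by rw [inv_eq_iff_mul_eq_one, ← pow_two]; exact h3
  rw [mul_inv_rev, e1, e2] at e3
  exact e3.symm

/-- The canonical twist vectors: all `0` except the last entry `ε`. -/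
def sig (ε : ZMod 2) : (n : ℕ) → Fin n → ZMod 2
  | 0 => fun i => i.elim0
  | 1 => fun _ => ε
  | (n + 2) => Fin.cons 0 (sig ε (n + 1))

theorem cons_zero_sig (n : ℕ) (ε : ZMod 2) :
    ∃ ε' : ZMod 2, (Fin.cons 0 (sig ε n) : Fin (n + 1) → ZMod 2) = sig ε' (n + 1) := by
  cases n with
  | zero =>
    refine ⟨0, ?_⟩
    funext i
    obtain ⟨i, hi⟩ := i
    have : i = 0 := by omega
    subst this
    rfl
  | succ n => exact ⟨ε, rfl⟩

theorem cons_sig_zero (ε ε' : ZMod 2) :
    (Fin.cons ε (sig ε' 0) : Fin 1 → ZMod 2) = sig ε 1 := by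
  funext i
  obtain ⟨i, hi⟩ := i
  have : i = 0 := by omega
  subst this
  rfl

/-- The abelian case. -/
theorem abelian_case (h : Data 2 z) (hab : ∀ a b : E, a * b = b * a) (s t : Fin 0 → ZMod 2) :
    ∃ φ : TH s t →* E, Function.Surjective φ ∧ ∀ r, φ (TH.zc r) = zp 2 z r := by
  obtain ⟨φ, hφz, -⟩ := base2 (E := E) h.pow_p (s := s) (t := t)
  refine ⟨φ, ?_, hφz⟩
  intro g
  obtain ⟨k, hk⟩ := h.center_sub g (hab g)
  refine ⟨TH.zc (k : ZMod 2), ?_⟩
  rw [hφz, zp_natCast h.pow_p, hk]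

/-- The inductive step. -/
theorem step2 (h : Data 2 z) {x y : E} {σ τ : ZMod 2} (hxy : x * y = y * x * z)
    (hx : x ^ 2 = zp 2 z σ) (hy : y ^ 2 = zp 2 z τ) {n : ℕ} {s t : Fin n → ZMod 2}
    (ψ₀ : TH s t →* cen x y) (hψ₀s : Function.Surjective ψ₀)
    (hψ₀z : ∀ r, ψ₀ (TH.zc r) = zp 2 (⟨z, z_mem_cen h x y⟩ : cen x y) r) :
    ∃ φ : TH (Fin.cons σ s : Fin (n + 1) → ZMod 2) (Fin.cons τ t : Fin (n + 1) → ZMod 2) →* E,
      Function.Surjective φ ∧ ∀ r, φ (TH.zc r) = zp 2 z r := by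
  have hψmem : ∀ m, ((cen x y).subtype.comp ψ₀) m ∈ cen x y := fun m => (ψ₀ m).2
  obtain ⟨φ, hφz, hφ⟩ := peel2 h.central h.pow_p hx hy hxy
    ((cen x y).subtype.comp ψ₀)
    (by
      intro r
      rw [MonoidHom.comp_apply, hψ₀z]
      unfold zp
      rfl)
    (fun m => ((mem_cen_iff.mp (hψmem m)).1).symm)
    (fun m => ((mem_cen_iff.mp (hψmem m)).2).symm)
  refine ⟨φ, ?_, hφz⟩
  intro g
  obtain ⟨i, j, c, hc, rfl⟩ := decomp h hxy g
  obtain ⟨m', hm'⟩ := hψ₀s ⟨c, hc⟩
  refine ⟨⟨Fin.cons i m'.a, Fin.cons j m'.b, m'.c⟩, ?_⟩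
  rw [hφ]
  simp only [Fin.cons_zero, Fin.tail_cons]
  rw [MonoidHom.comp_apply]
  have : (⟨m'.a, m'.b, m'.c⟩ : TH s t) = m' := rfl
  rw [this, hm']
  rfl

/-- Main induction for `p = 2`. -/
theorem exists_th_surj : ∀ (N : ℕ) (E : Type u) [Group E] [Finite E] (z : E), Data 2 z →
    Nat.card E = N →
    ∃ (n : ℕ) (ε : ZMod 2), ∃ φ : TH (sig ε n) (sig ε n) →* E,
      Function.Surjective φ ∧ ∀ r, φ (TH.zc r) = zp 2 z r := by
  intro N
  induction N using Nat.strong_induction_on with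
  | _ N ih =>
    intro E _ _ z h hN
    by_cases hab : ∀ a b : E, a * b = b * a
    · exact ⟨0, 0, abelian_case h hab _ _⟩
    · push Not at hab
      obtain ⟨a, b, hab⟩ := hab
      by_cases hgood : ∃ x y : E, x * y = y * x * z ∧ x ^ 2 = 1 ∧ y ^ 2 = 1
      · obtain ⟨x, y, hxy, hx, hy⟩ := hgood
        have hlt : Nat.card (cen x y) < N := by
          rw [← hN]
          exact Finite.card_subtype_lt (not_mem_cen h hxy)
        obtain ⟨n, ε, ψ₀, hψ₀s, hψ₀z⟩ := ih _ hlt (cen x y) ⟨z, z_mem_cen h x y⟩ (data_cen h hxy) rfl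
        have hst := step2 h hxy (σ := 0) (τ := 0) (by rw [zp_zero]; exact hx)
          (by rw [zp_zero]; exact hy) ψ₀ hψ₀s hψ₀z
        obtain ⟨ε', hε'⟩ := cons_zero_sig n ε
        rw [hε'] at hst
        exact ⟨n + 1, ε', hst⟩
      · push Not at hgood
        obtain ⟨x, y, ε, hxy, hx, hy⟩ := norm1 h hab
        have hε : ε = 1 := by
          rcases zmod2_cases ε with rfl | rfl
          · exfalso
            rw [zp_zero] at hx hy
            exact hgood x y hxy hx hy
          · rfl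
        subst hε
        rw [zp2_one] at hx hy
        have hCab : ∀ c c' : cen x y, c * c' = c' * c := by
          by_contra hcon
          push Not at hcon
          obtain ⟨c, c', hcc⟩ := hcon
          have hu : ∃ u : E, u ∈ cen x y ∧ u ^ 2 ≠ 1 := by
            by_contra hno
            push Not at hno
            apply hcc
            apply commute_of_sq_eq_one
            · exact Subtype.ext (by rw [Subgroup.coe_pow]; exact hno c c.2)
            · exact Subtype.ext (by rw [Subgroup.coe_pow]; exact hno c' c'.2)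
            · exact Subtype.ext (by rw [Subgroup.coe_pow]; exact hno (c * c') (c * c').2)
          obtain ⟨u, hu, hu2⟩ := hu
          obtain ⟨τ, hτ⟩ := sq_eq h u
          have hτ1 : τ = 1 := by
            rcases zmod2_cases τ with rfl | rfl
            · exfalso; rw [zp_zero] at hτ; exact hu2 hτ
            · rfl
          rw [hτ1, zp2_one] at hτ
          obtain ⟨g1, g2, g3⟩ := norm2 h hxy hx hy hu hτ
          exact hgood _ _ g1 g2 g3
        obtain ⟨ψ₀, hψ₀s, hψ₀z⟩ := abelian_case (data_cen h hxy) hCab (sig 0 0) (sig 0 0)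
        have hst := step2 h hxy (σ := 1) (τ := 1) (by rw [zp2_one]; exact hx)
          (by rw [zp2_one]; exact hy) ψ₀ hψ₀s hψ₀z
        rw [cons_sig_zero] at hst
        exact ⟨1, 1, hst⟩

/-- A homomorphism from a twisted Heisenberg group that is faithful on the centre is injective. -/
theorem th_hom_injective {n : ℕ} {s t : Fin n → ZMod 2} (hz1 : z ≠ 1) (hz : z ^ 2 = 1)
    (φ : TH s t →* E) (hφz : ∀ r, φ (TH.zc r) = zp 2 z r) : Function.Injective φ := by
  classical
  rw [injective_iff_map_eq_one]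
  intro m hm
  have hcomm : ∀ g : TH s t, ∑ i, (m.a i * g.b i - g.a i * m.b i) = 0 := by
    intro g
    have h1 : φ ⁅m, g⁆ = 1 := by
      rw [map_commutatorElement, hm, commutatorElement_one_left]
    rw [TH.commutatorElement_eq, hφz] at h1
    exact (zp_eq_one_iff hz1 hz _).mp h1
  have ha : m.a = 0 := by
    ext i
    have h1 := hcomm ⟨0, Pi.single i 1, 0⟩
    simpa [Pi.single_apply] using h1
  have hb : m.b = 0 := by
    ext i
    have h1 := hcomm ⟨Pi.single i 1, 0, 0⟩
    simpa [Pi.single_apply] using h1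
  have hm' : m = TH.zc m.c := TH.ext ha hb rfl
  rw [hm', hφz] at hm
  have hc : m.c = 0 := (zp_eq_one_iff hz1 hz _).mp hm
  rw [hm', hc]
  rfl

end Cfsg.Agent.Lib.Helper1.ES
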