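import Mathlib
import Cfsg.Agent.Lib.Helper1.ES7
import Cfsg.Agent.Lib.Helper1.ES4
set_option autoImplicit false
universe u
namespace Cfsg.Agent.Lib.Helper1.ES

/-- An extraspecial `2`-group is a twisted Heisenberg group with canonical twist. -/
theorem extraspecial2_iso_th {E : Type u} [Group E] [Finite E]
    (h : Cfsg.IsExtraspecial 2 E) :
    ∃ (n : ℕ) (ε : ZMod 2), Nonempty (TH (sig ε n) (sig ε n) ≃* E) := by
  obtain ⟨z, hd⟩ := data_of_extraspecial h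
  obtain ⟨n, ε, φ, hs, hz⟩ := exists_th_surj (Nat.card E) E z hd rfl
  exact ⟨n, ε, ⟨MulEquiv.ofBijective φ ⟨th_hom_injective hd.ne_one hd.pow_p φ hz, hs⟩⟩⟩

theorem extraspecial2_two_classes {E₁ : Type*} {E₂ : Type*} {E₃ : Type*} [Group E₁] [Group E₂]
    [Group E₃] [Finite E₁] [Finite E₂] [Finite E₃]
    (h₁ : Cfsg.IsExtraspecial 2 E₁) (h₂ : Cfsg.IsExtraspecial 2 E₂) (h₃ : Cfsg.IsExtraspecial 2 E₃)
    (h12 : Nat.card E₁ = Nat.card E₂) (h23 : Nat.card E₂ = Nat.card E₃) :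
    Nonempty (E₁ ≃* E₂) ∨ Nonempty (E₂ ≃* E₃) ∨ Nonempty (E₁ ≃* E₃) := by
  obtain ⟨n₁, ε₁, ⟨e₁⟩⟩ := extraspecial2_iso_th h₁
  obtain ⟨n₂, ε₂, ⟨e₂⟩⟩ := extraspecial2_iso_th h₂
  obtain ⟨n₃, ε₃, ⟨e₃⟩⟩ := extraspecial2_iso_th h₃
  have c1 := Nat.card_congr e₁.toEquiv
  have c2 := Nat.card_congr e₂.toEquiv
  have c3 := Nat.card_congr e₃.toEquiv
  rw [TH.card_th, Nat.card_zmod] at c1 c2 c3
  have hn12 : n₁ = n₂ := by
    have : 2 ^ (1 + 2 * n₁) = 2 ^ (1 + 2 * n₂) := by rw [c1, c2, h12]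
    have := Nat.pow_right_injective (le_refl 2) this
    omega
  have hn23 : n₂ = n₃ := by
    have : 2 ^ (1 + 2 * n₂) = 2 ^ (1 + 2 * n₃) := by rw [c2, c3, h23]
    have := Nat.pow_right_injective (le_refl 2) this
    omega
  subst hn12
  subst hn23
  rcases zmod2_cases ε₁ with rfl | rfl <;> rcases zmod2_cases ε₂ with rfl | rfl <;>
    rcases zmod2_cases ε₃ with rfl | rfl
  · exact Or.inl ⟨e₁.symm.trans e₂⟩
  · exact Or.inl ⟨e₁.symm.trans e₂⟩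
  · exact Or.inr (Or.inr ⟨e₁.symm.trans e₃⟩)
  · exact Or.inr (Or.inl ⟨e₂.symm.trans e₃⟩)
  · exact Or.inr (Or.inl ⟨e₂.symm.trans e₃⟩)
  · exact Or.inr (Or.inr ⟨e₁.symm.trans e₃⟩)
  · exact Or.inl ⟨e₁.symm.trans e₂⟩
  · exact Or.inl ⟨e₁.symm.trans e₂⟩

end Cfsg.Agent.Lib.Helper1.ES
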