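import Mathlib
import Cfsg.Agent.Lib.Helper9.NormalSeries
import Cfsg.Agent.Lib.Helper9.FusionSat3
import Cfsg.Agent.Lib.Helper9.SpeQuotient
import Cfsg.Agent.Lib.Helper7.StronglyEmbedded
import Cfsg.Agent.Lib.Helper2.EssGen2
import Cfsg.Agent.S5080

set_option autoImplicit false
set_option linter.style.haveILetI false
set_option linter.unusedSectionVars false
set_option linter.unusedVariables false
set_option maxHeartbeats 1000000

/-! Toolkit for the local analysis of essential subgroups: the chain-stabilizer lemma and the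
"bridge" lemma (no `p`-subgroup of `Aut_F(P)` meets `Aut_S(P)` and a suitable conjugate of it
outside `Inn(P)`). -/

namespace Cfsg.Agent.Lib.Helper1.ET

open Cfsg Cfsg.FusionSystem Cfsg.Agent.Lib.Helper9 Cfsg.Agent.Lib.Helper7

section abstract

variable {X : Type*} [Group X]

theorem spe_bridge [Finite X] {p : ℕ} [Fact p.Prime] {M : Subgroup X}
    (hM : IsStronglyPEmbedded p M) (T₀ : Sylow p X) :
    ∃ c : X, ∀ R : Subgroup X, IsPGroup p R → R ⊓ (T₀ : Subgroup X) ≠ ⊥ →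
      R ⊓ (T₀ : Subgroup X).map (MulAut.conj c).toMonoidHom ≠ ⊥ → False := by
  obtain ⟨hloc, hpM, P₀, hP₀M⟩ := local_of_spe hM
  have hMtop : M ≠ ⊤ := hM.2.1
  obtain ⟨k, hk⟩ := MulAction.exists_smul_eq X P₀ T₀
  obtain ⟨M₁, hM₁⟩ : ∃ M₁, M₁ = M.map (MulAut.conj k).toMonoidHom := ⟨_, rfl⟩
  have hloc₁ : NormalizersOfPSubgroupsLE p M₁ := by rw [hM₁]; exact normalizersLE_cj hloc k
  have hM₁top : M₁ ≠ ⊤ := by rw [hM₁]; exact cj_ne_top hMtop k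
  have hT₀M₁ : (T₀ : Subgroup X) ≤ M₁ := by
    rw [← hk, sylow_smul_coe_eq_map, hM₁]
    exact Subgroup.map_mono hP₀M
  obtain ⟨c, hc⟩ : ∃ c, c ∉ M₁ := by
    by_contra h
    push Not at h
    exact hM₁top (eq_top_iff.mpr fun x _ => h x)
  refine ⟨c, fun R hR h1 h2 => hc ?_⟩
  obtain ⟨P₂, hRP₂⟩ := hR.exists_le_sylow
  have hP₂M₁ : (P₂ : Subgroup X) ≤ M₁ := by
    apply sylow_le_of_inf_ne_bot hloc₁
    intro hbot
    apply h1
    rw [eq_bot_iff, ← hbot]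
    exact inf_le_inf hRP₂ hT₀M₁
  apply mem_of_conj_sylow_inf_ne_bot hloc₁ T₀ hT₀M₁ c
  intro hbot
  apply h2
  rw [eq_bot_iff, ← hbot]
  intro y hy
  exact Subgroup.mem_inf.mpr
    ⟨(Subgroup.mem_inf.mp hy).2, hP₂M₁ (hRP₂ (Subgroup.mem_inf.mp hy).1)⟩

end abstract

variable {Ω : Type*} [Group Ω] {S : Subgroup Ω}

/-- An element of `N_S(P)` stabilizing an `Aut_F(P)`-invariant chain of a centric radical `P`
lies in `P`. -/
theorem mem_of_stabilizes_chain [Finite S] {p : ℕ} [Fact p.Prime] (hS : IsPGroup p S)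
    (F : FusionSystem S) {P : Subgroup Ω} (hPc : F.IsCentric P) (hPr : F.IsRadical p P)
    (e : ℕ → Subgroup Ω)
    (hinv : ∀ α ∈ F.autGroup P, ∀ j, ∀ x : P, (x : Ω) ∈ e j → ((α x : P) : Ω) ∈ e j)
    (h0 : ∀ x ∈ P, x ∈ e 0 → x = 1) (m : ℕ) (hm : P ≤ e m)
    {g : Ω} (hgS : g ∈ S) (hgN : g ∈ Subgroup.normalizer (P : Set Ω))
    (hg : ∀ j, ∀ x ∈ P, x ∈ e (j + 1) → x⁻¹ * (g * x * g⁻¹) ∈ e j) : g ∈ P := by
  have hPS := hPc.1
  have hC : centralizerIn S P ≤ P := hPc.2 P (isConj_refl F hPS)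
  haveI hfinP : Finite P := finite_of_le hPS
  have hPp : IsPGroup p P := isPGroup_of_le hS hPS
  by_contra hgP
  have hβA : conjAut P ⟨g, hgN⟩ ∈ F.autGroup P :=
    autInducedBy_le_autGroup F hPS ((mem_autInducedBy_iff S P _).mpr ⟨g, hgS, fun x => rfl⟩)
  have hinv' : ∀ α ∈ F.autGroup P, ∀ j, ∀ x ∈ (e j).subgroupOf P, α x ∈ (e j).subgroupOf P :=
    fun α hα j x hx => hinv α hα j x hx
  have he0 : (e 0).subgroupOf P = ⊥ := by
    rw [eq_bot_iff]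
    intro x hx
    rw [Subgroup.mem_bot]
    exact Subtype.ext (h0 x x.2 hx)
  have hem : (e m).subgroupOf P = ⊤ := by
    rw [Subgroup.subgroupOf_eq_top]
    exact hm
  have hβ : ∀ j, ∀ x ∈ (e (j + 1)).subgroupOf P,
      x⁻¹ * conjAut P ⟨g, hgN⟩ x ∈ (e j).subgroupOf P := by
    intro j x hx
    show (x : Ω)⁻¹ * (g * x * g⁻¹) ∈ e j
    exact hg j x x.2 hx
  have h1 := le_pCore_of_stabilizes hPp (F.autGroup P) (fun j => (e j).subgroupOf P) hinv' he0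
    m hem hβA hβ
  rw [hPr.2] at h1
  exact not_mem_inn_of_not_mem hC hgS hgP hPS (fun x => rfl) h1

theorem conjAut_mem_autGroup (F : FusionSystem S) {P : Subgroup Ω} (hPS : P ≤ S) {g : Ω}
    (hgS : g ∈ S) (hgN : g ∈ Subgroup.normalizer (P : Set Ω)) :
    conjAut P ⟨g, hgN⟩ ∈ F.autGroup P :=
  autInducedBy_le_autGroup F hPS ((mem_autInducedBy_iff S P _).mpr ⟨g, hgS, fun x => rfl⟩)

/-- The bridge lemma for an essential subgroup. -/
theorem essential_bridge [Finite S] {p : ℕ} [Fact p.Prime] (hS : IsPGroup p S)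
    (F : FusionSystem S) (hF : F.IsSaturated p) {P : Subgroup Ω} (hP : F.IsEssential p P) :
    ∃ γ ∈ F.autGroup P, ∀ (R : Subgroup (MulAut P)), IsPGroup p R →
      ∀ g₁ ∈ S, ∀ (h₁ : g₁ ∈ Subgroup.normalizer (P : Set Ω)), g₁ ∉ P →
      ∀ g₂ ∈ S, ∀ (h₂ : g₂ ∈ Subgroup.normalizer (P : Set Ω)), g₂ ∉ P →
      conjAut P ⟨g₁, h₁⟩ ∈ R → γ * conjAut P ⟨g₂, h₂⟩ * γ⁻¹ ∈ R → False := by
  obtain ⟨hPc, hPn, hnorm, M, hM⟩ := id hP
  have hPS := hPc.1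
  have hC : centralizerIn S P ≤ P := hPc.2 P (isConj_refl F hPS)
  haveI hfinP : Finite P := finite_of_le hPS
  obtain ⟨-, T, hT⟩ := fullyAutomized_of_fullyNormalized hS F hF hPn
  haveI := hnorm
  obtain ⟨π, hπ⟩ : ∃ π : ↥(F.autGroup P) →* ↥(F.autGroup P) ⧸ (Inn P).subgroupOf (F.autGroup P),
      π = QuotientGroup.mk' ((Inn P).subgroupOf (F.autGroup P)) := ⟨_, rfl⟩
  have hsurj : Function.Surjective π := by rw [hπ]; exact QuotientGroup.mk'_surjective _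
  have hπ1 : ∀ a : ↥(F.autGroup P), π a = 1 ↔ a ∈ (Inn P).subgroupOf (F.autGroup P) := by
    intro a
    rw [hπ]
    exact QuotientGroup.eq_one_iff a
  obtain ⟨Tb, hTb⟩ : ∃ Tb : Sylow p (↥(F.autGroup P) ⧸ (Inn P).subgroupOf (F.autGroup P)),
      (Tb : Subgroup _) = (T : Subgroup (F.autGroup P)).map π := ⟨T.mapSurjective hsurj, rfl⟩
  obtain ⟨c, hc⟩ := spe_bridge hM Tb
  obtain ⟨γ, hγ⟩ := hsurj c
  refine ⟨γ.1, γ.2, ?_⟩
  intro R hR g₁ hg₁S h₁ hg₁P g₂ hg₂S h₂ hg₂P hR₁ hR₂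
  obtain ⟨a, ha⟩ : ∃ a : ↥(F.autGroup P), a = ⟨conjAut P ⟨g₁, h₁⟩,
    conjAut_mem_autGroup F hPS hg₁S h₁⟩ := ⟨_, rfl⟩
  obtain ⟨b, hb⟩ : ∃ b : ↥(F.autGroup P), b = ⟨conjAut P ⟨g₂, h₂⟩,
    conjAut_mem_autGroup F hPS hg₂S h₂⟩ := ⟨_, rfl⟩
  have haT : a ∈ (T : Subgroup (F.autGroup P)) := by
    rw [hT, ha]
    exact Subgroup.mem_subgroupOf.mpr
      ((mem_autInducedBy_iff S P _).mpr ⟨g₁, hg₁S, fun x => rfl⟩)
  have hbT : b ∈ (T : Subgroup (F.autGroup P)) := by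
    rw [hT, hb]
    exact Subgroup.mem_subgroupOf.mpr
      ((mem_autInducedBy_iff S P _).mpr ⟨g₂, hg₂S, fun x => rfl⟩)
  have ha1 : π a ≠ 1 := by
    intro h
    have h' := (hπ1 a).mp h
    rw [ha] at h'
    exact not_mem_inn_of_not_mem hC hg₁S hg₁P hPS (fun x => rfl) (Subgroup.mem_subgroupOf.mp h')
  have hb1 : π b ≠ 1 := by
    intro h
    have h' := (hπ1 b).mp h
    rw [hb] at h'
    exact not_mem_inn_of_not_mem hC hg₂S hg₂P hPS (fun x => rfl) (Subgroup.mem_subgroupOf.mp h')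
  have haR : a ∈ R.subgroupOf (F.autGroup P) := by
    rw [ha]
    exact Subgroup.mem_subgroupOf.mpr hR₁
  have hbR : γ * b * γ⁻¹ ∈ R.subgroupOf (F.autGroup P) := by
    rw [hb]
    exact Subgroup.mem_subgroupOf.mpr hR₂
  apply hc ((R.subgroupOf (F.autGroup P)).map π) (hR.comap_subtype.map π)
  · intro hbot
    apply ha1
    have hmem : π a ∈ (R.subgroupOf (F.autGroup P)).map π ⊓ (Tb : Subgroup _) :=
      Subgroup.mem_inf.mpr ⟨⟨a, haR, rfl⟩, by rw [hTb]; exact ⟨a, haT, rfl⟩⟩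
    rw [hbot, Subgroup.mem_bot] at hmem
    exact hmem
  · intro hbot
    apply hb1
    have hmem : π (γ * b * γ⁻¹) ∈ (R.subgroupOf (F.autGroup P)).map π ⊓
        (Tb : Subgroup _).map (MulAut.conj c).toMonoidHom := by
      refine Subgroup.mem_inf.mpr ⟨⟨γ * b * γ⁻¹, hbR, rfl⟩, ?_⟩
      refine ⟨π b, by rw [hTb]; exact ⟨b, hbT, rfl⟩, ?_⟩
      show c * π b * c⁻¹ = _
      rw [map_mul, map_mul, map_inv, hγ]
    rw [hbot, Subgroup.mem_bot, map_mul, map_mul, map_inv] at hmem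
    have e : π b = (π γ)⁻¹ * (π γ * π b * (π γ)⁻¹) * π γ := by group
    rw [e, hmem]
    group

end Cfsg.Agent.Lib.Helper1.ET
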