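import Mathlib
import Cfsg.Agent.Lib.Helper1.ET1
import Cfsg.Agent.Lib.Helper1.ExtraspecialOrder
import Cfsg.Agent.Lib.Helper1.KN2

set_option autoImplicit false
set_option linter.style.haveILetI false
set_option linter.unusedSectionVars false
set_option linter.unusedVariables false
set_option maxHeartbeats 1000000

/-! An essential subgroup contained in an extraspecial subgroup `Q` of index `p` of `S`,
`|S| ≥ p^6`, equals `Q`. -/

namespace Cfsg.Agent.Lib.Helper1.ET

open Cfsg Cfsg.FusionSystem Cfsg.Agent.Lib.Helper9 Cfsg.Agent.Lib.Helper7 Cfsg.Agent.Lib.Helper1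
open scoped commutatorElement

/-- a four-term chain -/
def chain3 {G : Type*} [Group G] (A B : Subgroup G) : ℕ → Subgroup G
  | 0 => ⊥
  | 1 => A
  | 2 => B
  | _ => ⊤

/-- automorphisms preserving every member of a chain -/
def chainPres {G : Type*} [Group G] (e : ℕ → Subgroup G) : Subgroup (MulAut G) where
  carrier := {α | ∀ j x, x ∈ e j ↔ α x ∈ e j}
  one_mem' := fun j x => Iff.rfl
  mul_mem' := by
    intro α β hα hβ j x
    rw [hβ j x, hα j (β x)]
    rfl
  inv_mem' := by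
    intro α hα j x
    have := hα j (α⁻¹ x)
    rw [MulAut.apply_inv_self] at this
    exact this.symm

theorem mem_chainPres_of_stab {G : Type*} [Group G] [Finite G] (e : ℕ → Subgroup G)
    (h0 : e 0 = ⊥) (hmono : ∀ j, e j ≤ e (j + 1)) (α : MulAut G)
    (hα : ∀ j, ∀ x ∈ e (j + 1), x⁻¹ * α x ∈ e j) : α ∈ chainPres e := by
  have hle : ∀ j, ∀ x ∈ e j, α x ∈ e j := by
    intro j x hx
    rcases j with _ | k
    · rw [h0, Subgroup.mem_bot] at hx
      rw [hx, map_one]
      exact Subgroup.one_mem _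
    · have h1 := hmono k (hα k x hx)
      have e1 : α x = x * (x⁻¹ * α x) := by group
      rw [e1]
      exact Subgroup.mul_mem _ hx h1
  intro j x
  constructor
  · exact hle j x
  · intro hx
    have hmap : (e j).map α.toMonoidHom = e j := by
      apply Subgroup.eq_of_le_of_card_ge
      · rintro _ ⟨y, hy, rfl⟩
        exact hle j y hy
      · rw [Subgroup.card_map_of_injective α.injective]
    rw [← hmap] at hx
    obtain ⟨y, hy, hyx⟩ := hx
    have : y = x := α.injective hyx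
    rw [← this]
    exact hy

theorem isPGroup_stab_chainPres {G : Type*} [Group G] [Finite G] {p : ℕ} [Fact p.Prime]
    (hG : IsPGroup p G) (e : ℕ → Subgroup G) (h0 : e 0 = ⊥) (m : ℕ) (hm : e m = ⊤) :
    IsPGroup p (stabChain (chainPres e) e (fun α hα j x hx => (hα j x).mp hx)) :=
  stabChain_isPGroup hG _ e _ h0 m hm

theorem mem_stab_chainPres {G : Type*} [Group G] [Finite G] (e : ℕ → Subgroup G)
    (h0 : e 0 = ⊥) (hmono : ∀ j, e j ≤ e (j + 1)) (α : MulAut G)
    (hα : ∀ j, ∀ x ∈ e (j + 1), x⁻¹ * α x ∈ e j) :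
    α ∈ stabChain (chainPres e) e (fun α hα j x hx => (hα j x).mp hx) :=
  ⟨mem_chainPres_of_stab e h0 hmono α hα, hα⟩

variable {Ω : Type*} [Group Ω] {S : Subgroup Ω}

/-- data of an extraspecial subgroup, in ambient terms -/
theorem extraspecial_ambient {p : ℕ} [hp : Fact p.Prime] (Q : Subgroup Ω) [Finite Q]
    (hQ : Cfsg.IsExtraspecial p ↥Q) :
    Nat.card ↥(Q ⊓ Subgroup.centralizer (Q : Set Ω)) = p ∧
    ∀ a ∈ Q, ∀ b ∈ Q, a * b * a⁻¹ * b⁻¹ ∈ Q ⊓ Subgroup.centralizer (Q : Set Ω) := by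
  obtain ⟨⟨hpg, hfrat, hcomm⟩, hcard⟩ := hQ
  have hmap : (Subgroup.center ↥Q).map Q.subtype = Q ⊓ Subgroup.centralizer (Q : Set Ω) := by
    ext x
    constructor
    · rintro ⟨y, hy, rfl⟩
      refine Subgroup.mem_inf.mpr ⟨y.2, ?_⟩
      rw [Subgroup.mem_centralizer_iff]
      intro q hq
      have := Subgroup.mem_center_iff.mp hy ⟨q, hq⟩
      exact congrArg Subtype.val this
    · intro hx
      obtain ⟨hxQ, hxC⟩ := Subgroup.mem_inf.mp hx
      refine ⟨⟨x, hxQ⟩, ?_, rfl⟩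
      rw [SetLike.mem_coe, Subgroup.mem_center_iff]
      intro q
      apply Subtype.ext
      exact Subgroup.mem_centralizer_iff.mp hxC q q.2
  constructor
  · rw [← hmap, Subgroup.card_map_of_injective Q.subtype_injective]
    exact hcard
  · intro a ha b hb
    rw [← hmap]
    have h1 : ⁅(⟨a, ha⟩ : Q), ⟨b, hb⟩⁆ ∈ Subgroup.center ↥Q := by
      rw [← hcomm, commutator_def]
      exact Subgroup.commutator_mem_commutator (Subgroup.mem_top _) (Subgroup.mem_top _)
    exact ⟨_, h1, rfl⟩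

/-- In a group of order at least `p^5` with centre of order `p` containing all commutators, a
self-centralizing abelian subgroup has, for each of its elements, a centralizing element
outside. -/
theorem exists_comm_not_mem {P : Type*} [Group P] [Finite P] {p : ℕ} [hp : Fact p.Prime]
    (hZcard : Nat.card (Subgroup.center P) = p)
    (hZc : ∀ x y : P, ⁅x, y⁆ ∈ Subgroup.center P) (E : Subgroup P)
    (hab : ∀ a ∈ E, ∀ b ∈ E, a * b = b * a)
    (hCE : ∀ q : P, (∀ e ∈ E, q * e = e * q) → q ∈ E) (hcard : p ^ 5 ≤ Nat.card P)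
    (z₁ : P) (hz₁ : z₁ ∈ E) : ∃ q : P, q ∉ E ∧ q * z₁ = z₁ * q := by
  by_contra hno
  push Not at hno
  have hC : ∀ q : P, q * z₁ = z₁ * q → q ∈ E := fun q hq => by
    by_contra hqE
    exact hno q hqE hq
  have hp2 : 2 ≤ p := hp.out.two_le
  have hEcent : E = Subgroup.centralizer {z₁} := by
    ext q
    rw [Subgroup.mem_centralizer_singleton_iff]
    exact ⟨fun hq => hab q hq z₁ hz₁, fun hq => hC q hq⟩
  -- E is proper
  have hEtop : E ≠ ⊤ := by
    intro htop
    have hcen : Subgroup.center P = ⊤ := by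
      rw [eq_top_iff]
      intro x _
      rw [Subgroup.mem_center_iff]
      intro g
      exact hab g (htop ▸ Subgroup.mem_top g) x (htop ▸ Subgroup.mem_top x)
    rw [hcen, Subgroup.card_top] at hZcard
    rw [hZcard] at hcard
    have h1 : p ^ 1 < p ^ 5 := Nat.pow_lt_pow_right hp2 (by norm_num)
    rw [pow_one] at h1
    omega
  obtain ⟨q₀, hq₀⟩ : ∃ q₀, q₀ ∉ E := by
    by_contra h
    push Not at h
    exact hEtop (eq_top_iff.mpr fun x _ => h x)
  have hq₀z : ⁅q₀, z₁⁆ ≠ 1 := by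
    intro h
    exact hq₀ (hC q₀ (commutatorElement_eq_one_iff_mul_comm.mp h))
  have hidx : E.index = p := by
    have h1 := relIndex_inf_centralizer_singleton (Subgroup.center P) hZcard le_rfl hZc ⊤ z₁ q₀
      (Subgroup.mem_top _) hq₀z
    rw [top_inf_eq, Subgroup.relIndex_top_right, ← hEcent] at h1
    exact h1
  -- D = C_E(q₀) is central
  obtain ⟨D, hD⟩ : ∃ D, D = E ⊓ Subgroup.centralizer {q₀} := ⟨_, rfl⟩
  have hDcen : D ≤ Subgroup.center P := by
    intro y hy
    rw [hD] at hy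
    obtain ⟨hyE, hyq⟩ := Subgroup.mem_inf.mp hy
    rw [Subgroup.mem_centralizer_singleton_iff] at hyq
    obtain ⟨K, hK⟩ : ∃ K, K = Subgroup.centralizer {y} := ⟨_, rfl⟩
    have hEK : E ≤ K := by
      intro e he
      rw [hK, Subgroup.mem_centralizer_singleton_iff]
      exact hab e he y hyE
    have hq₀K : q₀ ∈ K := by
      rw [hK, Subgroup.mem_centralizer_singleton_iff]
      exact hyq.symm
    have h1 : E.relIndex K * K.index = E.index := Subgroup.relIndex_mul_index hEK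
    have h2 : E.relIndex K ≠ 1 := by
      intro h
      exact hq₀ (Subgroup.relIndex_eq_one.mp h hq₀K)
    have h3 : E.relIndex K ∣ p := by
      rw [← hidx, ← h1]
      exact dvd_mul_right _ _
    have h4 : E.relIndex K = p := ((Nat.dvd_prime hp.out).mp h3).resolve_left h2
    rw [h4, hidx] at h1
    have h5 : K.index = 1 := by
      have hpos : 0 < p := by omega
      exact Nat.eq_of_mul_eq_mul_left hpos (by rw [h1, mul_one])
    have hKtop : K = ⊤ := Subgroup.index_eq_one.mp h5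
    rw [Subgroup.mem_center_iff]
    intro g
    have hg : g ∈ K := hKtop ▸ Subgroup.mem_top g
    rw [hK, Subgroup.mem_centralizer_singleton_iff] at hg
    exact hg
  have hDidx : D.relIndex E = p := by
    have hex : ∃ g ∈ E, ⁅g, q₀⁆ ≠ 1 := by
      by_contra h
      push Not at h
      apply hq₀
      apply hCE
      intro e he
      exact (commutatorElement_eq_one_iff_mul_comm.mp (h e he)).symm
    obtain ⟨g, hg, hgq⟩ := hex
    rw [hD]
    exact relIndex_inf_centralizer_singleton (Subgroup.center P) hZcard le_rfl hZc E q₀ g hg hgq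
  have hDE : D ≤ E := hD ▸ inf_le_left
  have hcardE : Nat.card D * D.relIndex E = Nat.card E := by
    have := Subgroup.relIndex_mul_relIndex ⊥ D E bot_le hDE
    rwa [Subgroup.relIndex_bot_left, Subgroup.relIndex_bot_left] at this
  have hcardD : Nat.card D ≤ p := hZcard ▸ Subgroup.card_le_of_le hDcen
  have hcardP : Nat.card E * E.index = Nat.card P := Subgroup.card_mul_index E
  rw [hidx] at hcardP
  rw [hDidx] at hcardE
  have h1 : Nat.card P ≤ p * p * p := by
    rw [← hcardP, ← hcardE]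
    exact Nat.mul_le_mul_right _ (Nat.mul_le_mul_right _ hcardD)
  have h2 : p * p * p < p ^ 5 := by
    have : p ^ 3 < p ^ 5 := Nat.pow_lt_pow_right hp2 (by norm_num)
    calc p * p * p = p ^ 3 := by ring
      _ < p ^ 5 := this
  omega

theorem essential_le_extraspecial_eq [Finite S] (p : ℕ) [hp : Fact p.Prime]
    (hS : IsPGroup p S) (Q : Subgroup Ω) (hQS : Q ≤ S) (hQ : Cfsg.IsExtraspecial p ↥Q)
    (hQi : (Q.subgroupOf S).index = p) (h6 : p ^ 6 ≤ Nat.card S)
    (F : FusionSystem S) (hF : F.IsSaturated p) (E : Subgroup Ω) (hEQ : E ≤ Q)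
    (hE : F.IsEssential p E) : E = Q := by
  haveI hfinQ : Finite Q := finite_of_le hQS
  have hp2 : 2 ≤ p := hp.out.two_le
  obtain ⟨hZcard, hcomm⟩ := extraspecial_ambient Q hQ
  obtain ⟨ZQ, hZQ⟩ : ∃ ZQ, ZQ = Q ⊓ Subgroup.centralizer (Q : Set Ω) := ⟨_, rfl⟩
  rw [← hZQ] at hZcard hcomm
  have hZQQ : ZQ ≤ Q := hZQ ▸ inf_le_left
  have hZQc : ∀ z ∈ ZQ, ∀ q ∈ Q, q * z = z * q := by
    intro z hz q hq
    rw [hZQ] at hz
    exact Subgroup.mem_centralizer_iff.mp (Subgroup.mem_inf.mp hz).2 q hq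
  -- |Q| ≥ p^5
  have hcardQ : p ^ 5 ≤ Nat.card Q := by
    have h1 : Nat.card (Q.subgroupOf S) * (Q.subgroupOf S).index = Nat.card S :=
      Subgroup.card_mul_index _
    have h2 : Nat.card (Q.subgroupOf S) = Nat.card Q :=
      Nat.card_congr (Subgroup.subgroupOfEquivOfLe hQS).toEquiv
    rw [hQi, h2] at h1
    rw [← h1] at h6
    have h3 : p ^ 5 * p ≤ Nat.card Q * p := by
      calc p ^ 5 * p = p ^ 6 := by ring
        _ ≤ Nat.card Q * p := h6
    exact Nat.le_of_mul_le_mul_right h3 (by omega)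
  have hEc := hE.1
  have hEr := Cfsg.Agent.S5080.result p hS F hF E hE
  have hES : E ≤ S := hEc.1
  haveI hfinE : Finite E := finite_of_le hES
  have hCS : centralizerIn S E ≤ E := hEc.2 E (isConj_refl F hES)
  have hZE : ZQ ≤ E := by
    intro z hz
    apply hCS
    refine ⟨hQS (hZQQ hz), ?_⟩
    show z ∈ Subgroup.centralizer (E : Set Ω)
    rw [Subgroup.mem_centralizer_iff]
    intro e he
    exact hZQc z hz e (hEQ he)
  have hQN : ∀ q ∈ Q, q ∈ Subgroup.normalizer (E : Set Ω) := by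
    intro q hq
    apply KN.mem_normalizer_of_forall_conj_mem
    intro e he
    have h1 := hZE (hcomm q hq e (hEQ he))
    have e1 : q * e * q⁻¹ = (q * e * q⁻¹ * e⁻¹) * e := by group
    rw [e1]
    exact E.mul_mem h1 he
  -- a generator of ZQ
  have hZne : ZQ ≠ ⊥ := by
    intro h
    rw [h, Subgroup.card_bot] at hZcard
    omega
  obtain ⟨c₀', hc₀'⟩ := (Subgroup.ne_bot_iff_exists_ne_one).mp hZne
  obtain ⟨c₀, hc₀⟩ : ∃ c₀ : Ω, c₀ = c₀' := ⟨_, rfl⟩
  have hc₀Z : c₀ ∈ ZQ := hc₀ ▸ c₀'.2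
  have hc₀1 : c₀ ≠ 1 := by
    intro h
    apply hc₀'
    apply Subtype.ext
    rw [← hc₀, h]
    rfl
  have hZgen : ∀ z ∈ ZQ, ∃ k : ℕ, z = c₀ ^ k := by
    intro z hz
    have h1 := mem_powers_of_prime_card (G := ZQ) hZcard (g := c₀') (g' := ⟨z, hz⟩) hc₀'
    obtain ⟨k, hk⟩ := h1
    refine ⟨k, ?_⟩
    have := congrArg Subtype.val hk
    rw [hc₀]
    simpa using this.symm
  by_cases hab : ∀ a ∈ E, ∀ b ∈ E, a * b = b * a
  · -- abelian case
    exfalso
    obtain ⟨γ, hγA, hbridge⟩ := essential_bridge hS F hF hE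
    have hc₀E : c₀ ∈ E := hZE hc₀Z
    obtain ⟨c₀E, hc₀E'⟩ : ∃ c₀E : ↥E, c₀E = ⟨c₀, hc₀E⟩ := ⟨_, rfl⟩
    obtain ⟨z₁', hz₁'⟩ : ∃ z₁' : ↥E, z₁' = γ c₀E := ⟨_, rfl⟩
    -- an element of Q outside E centralizing z₁
    have hZc' : ∀ x y : ↥Q, ⁅x, y⁆ ∈ Subgroup.center ↥Q := by
      intro x y
      rw [← hQ.1.2.2, commutator_def]
      exact Subgroup.commutator_mem_commutator (Subgroup.mem_top _) (Subgroup.mem_top _)
    obtain ⟨q, hqE, hqz⟩ := exists_comm_not_mem hQ.2 hZc' (E.subgroupOf Q)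
      (fun a ha b hb => Subtype.ext (hab a ha b hb))
      (fun q hq => by
        apply Subgroup.mem_subgroupOf.mpr
        apply hCS
        refine ⟨hQS q.2, ?_⟩
        show (q : Ω) ∈ Subgroup.centralizer (E : Set Ω)
        rw [Subgroup.mem_centralizer_iff]
        intro e he
        exact (congrArg Subtype.val (hq ⟨e, hEQ he⟩ (Subgroup.mem_subgroupOf.mpr he))).symm)
      hcardQ ⟨(z₁' : Ω), hEQ z₁'.2⟩ (Subgroup.mem_subgroupOf.mpr z₁'.2)
    obtain ⟨q₁, hq₁⟩ : ∃ q₁ : Ω, q₁ = q := ⟨_, rfl⟩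
    have hq₁Q : q₁ ∈ Q := hq₁ ▸ q.2
    have hq₁E : q₁ ∉ E := by
      intro h
      apply hqE
      apply Subgroup.mem_subgroupOf.mpr
      rw [← hq₁]
      exact h
    have hq₁z : q₁ * (z₁' : Ω) = (z₁' : Ω) * q₁ := by
      rw [hq₁]
      exact congrArg Subtype.val hqz
    have hq₁N := hQN q₁ hq₁Q
    obtain ⟨cq, hcq⟩ : ∃ cq : MulAut ↥E, cq = conjAut E ⟨q₁, hq₁N⟩ := ⟨_, rfl⟩
    have hcq_apply : ∀ x : ↥E, ((cq x : ↥E) : Ω) = q₁ * x * q₁⁻¹ := by
      intro x
      rw [hcq]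
      rfl
    -- cq fixes c₀E and z₁'
    have hcq_c₀ : cq c₀E = c₀E := by
      apply Subtype.ext
      rw [hcq_apply, hc₀E']
      show q₁ * c₀ * q₁⁻¹ = c₀
      rw [hZQc c₀ hc₀Z q₁ hq₁Q, mul_inv_cancel_right]
    have hcq_z₁ : cq z₁' = z₁' := by
      apply Subtype.ext
      rw [hcq_apply, hq₁z, mul_inv_cancel_right]
    -- commutators with q₁ are powers of c₀E
    have hcq_comm : ∀ y : ↥E, ∃ k : ℕ, y⁻¹ * cq y = c₀E ^ k := by
      intro y
      have h1 : ((y : Ω))⁻¹ * q₁ * ((y : Ω)⁻¹)⁻¹ * q₁⁻¹ ∈ ZQ :=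
        hcomm _ (Q.inv_mem (hEQ y.2)) _ hq₁Q
      obtain ⟨k, hk⟩ := hZgen _ h1
      refine ⟨k, ?_⟩
      apply Subtype.ext
      rw [Subgroup.coe_mul, Subgroup.coe_inv, hcq_apply, Subgroup.coe_pow, hc₀E']
      show (y : Ω)⁻¹ * (q₁ * y * q₁⁻¹) = c₀ ^ k
      rw [← hk]
      group
    -- the chain
    obtain ⟨Z₁, hZ₁⟩ : ∃ Z₁ : Subgroup ↥E, Z₁ = Subgroup.zpowers z₁' := ⟨_, rfl⟩
    obtain ⟨W, hW⟩ : ∃ W : Subgroup ↥E, W = Z₁ ⊔ Subgroup.zpowers c₀E := ⟨_, rfl⟩
    have hZ₁W : Z₁ ≤ W := hW ▸ le_sup_left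
    have hmono : ∀ j, chain3 Z₁ W j ≤ chain3 Z₁ W (j + 1) := by
      intro j
      match j with
      | 0 => exact bot_le
      | 1 => exact hZ₁W
      | 2 => exact le_top
      | (j + 3) => exact le_top
    have hEp : IsPGroup p ↥E := isPGroup_of_le hS hES
    have hRp := isPGroup_stab_chainPres hEp (chain3 Z₁ W) rfl 3 rfl
    -- fixed points of cq contain W
    have hfixW : ∀ x ∈ W, cq x = x := by
      have hle : W ≤ (MonoidHom.eqLocus cq.toMonoidHom (MonoidHom.id ↥E)) := by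
        rw [hW, hZ₁]
        apply sup_le
        · rw [Subgroup.zpowers_le]
          exact hcq_z₁
        · rw [Subgroup.zpowers_le]
          exact hcq_c₀
      intro x hx
      exact hle hx
    have hcqR : cq ∈ stabChain (chainPres (chain3 Z₁ W)) (chain3 Z₁ W)
        (fun α hα j x hx => (hα j x).mp hx) := by
      apply mem_stab_chainPres (chain3 Z₁ W) rfl hmono
      intro j x hx
      match j with
      | 0 =>
        show x⁻¹ * cq x ∈ (⊥ : Subgroup ↥E)
        have hx' : x ∈ Z₁ := hx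
        rw [hfixW x (hZ₁W hx'), inv_mul_cancel]
        exact Subgroup.one_mem _
      | 1 =>
        show x⁻¹ * cq x ∈ Z₁
        have hx' : x ∈ W := hx
        rw [hfixW x hx', inv_mul_cancel]
        exact Subgroup.one_mem _
      | 2 =>
        show x⁻¹ * cq x ∈ W
        obtain ⟨k, hk⟩ := hcq_comm x
        rw [hk, hW]
        exact (le_sup_right : Subgroup.zpowers c₀E ≤ _)
          (Subgroup.pow_mem _ (Subgroup.mem_zpowers c₀E) k)
      | (j + 3) => exact Subgroup.mem_top _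
    have hβR : γ * cq * γ⁻¹ ∈ stabChain (chainPres (chain3 Z₁ W)) (chain3 Z₁ W)
        (fun α hα j x hx => (hα j x).mp hx) := by
      apply mem_stab_chainPres (chain3 Z₁ W) rfl hmono
      have hgen : ∀ x : ↥E, x⁻¹ * (γ * cq * γ⁻¹) x ∈ Z₁ := by
        intro x
        obtain ⟨k, hk⟩ := hcq_comm (γ⁻¹ x)
        have e1 : x⁻¹ * (γ * cq * γ⁻¹) x = γ ((γ⁻¹ x)⁻¹ * cq (γ⁻¹ x)) := by
          rw [map_mul, map_inv, MulAut.apply_inv_self]
          rfl
        rw [e1, hk, map_pow, ← hz₁', hZ₁]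
        exact Subgroup.pow_mem _ (Subgroup.mem_zpowers z₁') k
      intro j x hx
      match j with
      | 0 =>
        show x⁻¹ * (γ * cq * γ⁻¹) x ∈ (⊥ : Subgroup ↥E)
        have hx' : x ∈ Z₁ := hx
        rw [hZ₁] at hx'
        obtain ⟨k, hk⟩ := Subgroup.mem_zpowers_iff.mp hx'
        have e2 : (γ * cq * γ⁻¹) x = x := by
          show γ (cq (γ⁻¹ x)) = x
          rw [← hk, hz₁', ← map_zpow, MulAut.inv_apply_self, map_zpow, hcq_c₀]
        rw [e2, inv_mul_cancel]
        exact Subgroup.one_mem _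
      | 1 => exact hgen x
      | 2 => exact hZ₁W (hgen x)
      | (j + 3) => exact Subgroup.mem_top _
    rw [hcq] at hcqR hβR
    exact hbridge _ hRp q₁ (hQS hq₁Q) hq₁N hq₁E q₁ (hQS hq₁Q) hq₁N hq₁E hcqR hβR
  · -- nonabelian case
    push Not at hab
    obtain ⟨a, ha, b, hb, hne⟩ := hab
    apply le_antisymm hEQ
    intro q hq
    obtain ⟨c, hc⟩ : ∃ c, c = a * b * a⁻¹ * b⁻¹ := ⟨_, rfl⟩
    have hcZ : c ∈ ZQ := hc ▸ hcomm a (hEQ ha) b (hEQ hb)
    have hc1 : c ≠ 1 := by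
      intro h
      apply hne
      rw [hc] at h
      have : a * b = (a * b * a⁻¹ * b⁻¹) * (b * a) := by group
      rw [this, h, one_mul]
    have hZgen' : ∀ z ∈ ZQ, ∃ k : ℕ, z = c ^ k := by
      intro z hz
      have h1 := mem_powers_of_prime_card (G := ZQ) hZcard (g := ⟨c, hcZ⟩) (g' := ⟨z, hz⟩)
        (fun h => hc1 (congrArg Subtype.val h))
      obtain ⟨k, hk⟩ := h1
      refine ⟨k, ?_⟩
      have := congrArg Subtype.val hk
      simpa using this.symm
    apply mem_of_stabilizes_chain hS F hEc hEr (chain3 ZQ ⊤) ?_ ?_ 2 ?_ (hQS hq) (hQN q hq) ?_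
    · intro α hα j x hx
      match j with
      | 0 =>
        have hx' : (x : Ω) ∈ (⊥ : Subgroup Ω) := hx
        rw [Subgroup.mem_bot] at hx'
        have hx1 : x = 1 := Subtype.ext hx'
        rw [hx1, map_one]
        exact Subgroup.one_mem _
      | 1 =>
        show ((α x : ↥E) : Ω) ∈ ZQ
        have hx' : (x : Ω) ∈ ZQ := hx
        obtain ⟨k, hk⟩ := hZgen' _ hx'
        have hxk : x = (⟨a, ha⟩ * ⟨b, hb⟩ * (⟨a, ha⟩ : ↥E)⁻¹ * (⟨b, hb⟩ : ↥E)⁻¹) ^ k := by
          apply Subtype.ext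
          rw [hk, hc]
          rfl
        rw [hxk, map_pow, map_mul, map_mul, map_mul, map_inv, map_inv, Subgroup.coe_pow]
        apply Subgroup.pow_mem
        exact hcomm _ (hEQ (α ⟨a, ha⟩).2) _ (hEQ (α ⟨b, hb⟩).2)
      | 2 => exact Subgroup.mem_top _
      | (j + 3) => exact Subgroup.mem_top _
    · intro x _ hx
      exact Subgroup.mem_bot.mp hx
    · exact le_top
    · intro j x hxE hx
      match j with
      | 0 =>
        show x⁻¹ * (q * x * q⁻¹) ∈ (⊥ : Subgroup Ω)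
        have hx' : x ∈ ZQ := hx
        rw [Subgroup.mem_bot, hZQc x hx' q hq, mul_inv_cancel_right, inv_mul_cancel]
      | 1 =>
        show x⁻¹ * (q * x * q⁻¹) ∈ ZQ
        have h1 := hcomm x⁻¹ (Q.inv_mem (hEQ hxE)) q hq
        have e1 : x⁻¹ * (q * x * q⁻¹) = x⁻¹ * q * x⁻¹⁻¹ * q⁻¹ := by group
        rw [e1]
        exact h1
      | 2 => exact Subgroup.mem_top _
      | (j + 3) => exact Subgroup.mem_top _

end Cfsg.Agent.Lib.Helper1.ET
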