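import Mathlib
import Cfsg.Agent.Lib.Helper1.ET2

set_option autoImplicit false
set_option linter.style.haveILetI false
set_option linter.unusedSectionVars false
set_option linter.unusedVariables false
set_option maxHeartbeats 1000000

/-! `p`-groups with an abelian subgroup of index `p`: basic setup and the essential subgroups
(Oliver). Part 1: setup, the moving automorphism and the index of an essential subgroup in its
normalizer. -/

namespace Cfsg.Agent.Lib.Helper1.ET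

open Cfsg Cfsg.FusionSystem Cfsg.Agent.Lib.Helper9 Cfsg.Agent.Lib.Helper7 Cfsg.Agent.Lib.Helper1
  Cfsg.Agent.Lib.Helper2.EssGen

variable {Ω : Type*} [Group Ω] {S : Subgroup Ω}

/-- setup: `A` abelian normal of index `p` in the nonabelian `S` -/
structure AbSetup (p : ℕ) (S A : Subgroup Ω) : Prop where
  hAS : A ≤ S
  hab : ∀ a ∈ A, ∀ b ∈ A, a * b = b * a
  hidx : A.relIndex S = p
  hnorm : ∀ s ∈ S, ∀ a ∈ A, s * a * s⁻¹ ∈ A
  hna : ∃ s ∈ S, ∃ t ∈ S, s * t ≠ t * s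

theorem abSetup_of [Finite S] {p : ℕ} [hp : Fact p.Prime] (hS : IsPGroup p S)
    (hna : ¬ IsMulCommutative ↥S) (A : Subgroup Ω)
    (hA : A ≤ S ∧ IsMulCommutative ↥A ∧ (A.subgroupOf S).index = p) : AbSetup p S A := by
  obtain ⟨hAS, hAc, hAi⟩ := hA
  refine ⟨hAS, ?_, hAi, ?_, ?_⟩
  · intro a ha b hb
    exact congrArg Subtype.val (hAc.is_comm.comm ⟨a, ha⟩ ⟨b, hb⟩)
  · obtain ⟨k, hk⟩ := IsPGroup.iff_card.mp hS
    have hk0 : k ≠ 0 := by
      intro h0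
      rw [h0, pow_zero] at hk
      have h1 : (A.subgroupOf S).index ∣ Nat.card ↥S := Subgroup.index_dvd_card _
      rw [hAi, hk] at h1
      exact hp.out.one_lt.ne' (Nat.dvd_one.mp h1)
    haveI : (A.subgroupOf S).Normal := by
      apply Subgroup.normal_of_index_eq_minFac_card
      rw [hAi, hk, Nat.Prime.pow_minFac hp.out hk0]
    intro s hs a ha
    have h1 : (⟨s, hs⟩ : ↥S) * ⟨a, hAS ha⟩ * (⟨s, hs⟩ : ↥S)⁻¹ ∈ A.subgroupOf S :=
      Subgroup.Normal.conj_mem inferInstance _ (Subgroup.mem_subgroupOf.mpr ha) _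
    exact Subgroup.mem_subgroupOf.mp h1
  · by_contra hno
    push Not at hno
    exact hna ⟨⟨fun a b => Subtype.ext (hno a a.2 b b.2)⟩⟩

section basic

variable {p : ℕ} [hp : Fact p.Prime] {A : Subgroup Ω}

theorem AbSetup.le_normalizer [Finite S] (h : AbSetup p S A) :
    S ≤ Subgroup.normalizer (A : Set Ω) := by
  intro s hs
  haveI : Finite A := finite_of_le h.hAS
  exact KN.mem_normalizer_of_forall_conj_mem (h.hnorm s hs)

theorem AbSetup.decomp [Finite S] (h : AbSetup p S A) {x : Ω} (hxS : x ∈ S) (hxA : x ∉ A) :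
    ∀ s ∈ S, ∃ k : ℤ, ∃ a ∈ A, s = x ^ k * a := by
  obtain ⟨K, hK⟩ : ∃ K, K = Subgroup.zpowers x ⊔ A := ⟨_, rfl⟩
  have hAK : A ≤ K := hK ▸ le_sup_right
  have hxK : x ∈ K := hK ▸ (le_sup_left : Subgroup.zpowers x ≤ _) (Subgroup.mem_zpowers x)
  have hKS : K ≤ S := hK ▸ sup_le (Subgroup.zpowers_le.mpr hxS) h.hAS
  have h1 := Subgroup.relIndex_mul_relIndex A K S hAK hKS
  rw [h.hidx] at h1
  have h2 : A.relIndex K ≠ 1 := fun h' => hxA (Subgroup.relIndex_eq_one.mp h' hxK)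
  have h3 : A.relIndex K ∣ p := ⟨_, h1.symm⟩
  have h4 : A.relIndex K = p := ((Nat.dvd_prime hp.out).mp h3).resolve_left h2
  rw [h4] at h1
  have h5 : K.relIndex S = 1 := Nat.eq_of_mul_eq_mul_left hp.out.pos (by rw [h1, mul_one])
  have hSK : S ≤ K := Subgroup.relIndex_eq_one.mp h5
  intro s hs
  have hs' : s ∈ Subgroup.zpowers x ⊔ A := hK ▸ hSK hs
  have hzn : Subgroup.zpowers x ≤ Subgroup.normalizer (A : Set Ω) :=
    (Subgroup.zpowers_le.mpr hxS).trans h.le_normalizer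
  obtain ⟨c, hc, a, ha, hca⟩ := exists_mul_of_mem_sup hzn hs'
  obtain ⟨k, rfl⟩ := Subgroup.mem_zpowers_iff.mp hc
  exact ⟨k, a, ha, hca⟩

theorem AbSetup.central_of_comm [Finite S] (h : AbSetup p S A) {x : Ω} (hxS : x ∈ S)
    (hxA : x ∉ A) {a : Ω} (ha : a ∈ A) (hax : a * x = x * a) : ∀ s ∈ S, s * a = a * s := by
  intro s hs
  obtain ⟨k, a', ha', rfl⟩ := h.decomp hxS hxA s hs
  have h1 : Commute a x := hax
  have h2 : Commute a a' := h.hab a ha a' ha'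
  exact ((h1.zpow_right k).mul_right h2).eq.symm

theorem AbSetup.center_le [Finite S] (h : AbSetup p S A) {z : Ω} (hzS : z ∈ S)
    (hz : ∀ s ∈ S, s * z = z * s) : z ∈ A := by
  by_contra hzA
  obtain ⟨s, hs, t, ht, hst⟩ := h.hna
  apply hst
  obtain ⟨k, a, ha, rfl⟩ := h.decomp hzS hzA s hs
  obtain ⟨l, b, hb, rfl⟩ := h.decomp hzS hzA t ht
  have haz : Commute a z := hz a (h.hAS ha)
  have hbz : Commute b z := hz b (h.hAS hb)
  have hab : Commute a b := h.hab a ha b hb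
  have h1 : Commute (z ^ k) (z ^ l * b) :=
    Commute.mul_right ((Commute.refl z).zpow_zpow k l) ((hbz.symm).zpow_left k)
  have h2 : Commute a (z ^ l * b) := Commute.mul_right (haz.zpow_right l) hab
  exact (Commute.mul_left h1 h2).eq

theorem P_decomp [Finite S] (h : AbSetup p S A) {P : Subgroup Ω} (hPS : P ≤ S) {x : Ω}
    (hxP : x ∈ P) (hxA : x ∉ A) : ∀ y ∈ P, ∃ k : ℤ, ∃ u ∈ P ⊓ A, y = x ^ k * u := by
  intro y hy
  obtain ⟨k, a, ha, rfl⟩ := h.decomp (hPS hxP) hxA y (hPS hy)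
  refine ⟨k, a, ⟨?_, ha⟩, rfl⟩
  have e : a = (x ^ k)⁻¹ * (x ^ k * a) := by group
  rw [e]
  exact P.mul_mem (P.inv_mem (P.zpow_mem hxP k)) hy

end basic

/-- elements whose commutator with `b` lies in the central subgroup `Z` -/
def commSub (S Z : Subgroup Ω) (hZ : ∀ z ∈ Z, ∀ s ∈ S, s * z = z * s) (b : Ω) : Subgroup Ω where
  carrier := {a | a ∈ S ∧ a * b * a⁻¹ * b⁻¹ ∈ Z}
  one_mem' := ⟨S.one_mem, by
    have e : (1 : Ω) * b * 1⁻¹ * b⁻¹ = 1 := by group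
    rw [e]
    exact Z.one_mem⟩
  mul_mem' := by
    rintro a a' ⟨ha, hab⟩ ⟨ha', hab'⟩
    refine ⟨S.mul_mem ha ha', ?_⟩
    have e : a * a' * b * (a * a')⁻¹ * b⁻¹ =
        a * (a' * b * a'⁻¹ * b⁻¹) * a⁻¹ * (a * b * a⁻¹ * b⁻¹) := by group
    rw [e, hZ _ hab' a ha, mul_inv_cancel_right]
    exact Z.mul_mem hab' hab
  inv_mem' := by
    rintro a ⟨ha, hab⟩
    refine ⟨S.inv_mem ha, ?_⟩
    have e : a⁻¹ * b * a⁻¹⁻¹ * b⁻¹ = a⁻¹ * (a * b * a⁻¹ * b⁻¹)⁻¹ * a⁻¹⁻¹ := by group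
    rw [e, hZ _ (Z.inv_mem hab) a⁻¹ (S.inv_mem ha), mul_inv_cancel_right]
    exact Z.inv_mem hab

theorem mem_commSub (S Z : Subgroup Ω) (hZ : ∀ z ∈ Z, ∀ s ∈ S, s * z = z * s) (b a : Ω) :
    a ∈ commSub S Z hZ b ↔ a ∈ S ∧ a * b * a⁻¹ * b⁻¹ ∈ Z := Iff.rfl

theorem comm_symm_mem (Z : Subgroup Ω) {a b : Ω} (hab : a * b * a⁻¹ * b⁻¹ ∈ Z) :
    b * a * b⁻¹ * a⁻¹ ∈ Z := by
  have e : b * a * b⁻¹ * a⁻¹ = (a * b * a⁻¹ * b⁻¹)⁻¹ := by group
  rw [e]
  exact Z.inv_mem hab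

/-- elements `y` with `y⁻¹ c(y)` in the normal subgroup `N` -/
def fixMod {G : Type*} [Group G] (c : MulAut G) (N : Subgroup G) [hN : N.Normal] : Subgroup G where
  carrier := {y | y⁻¹ * c y ∈ N}
  one_mem' := by
    show (1 : G)⁻¹ * c 1 ∈ N
    rw [map_one, inv_one, one_mul]
    exact N.one_mem
  mul_mem' := by
    intro a b ha hb
    show (a * b)⁻¹ * c (a * b) ∈ N
    have e : (a * b)⁻¹ * c (a * b) = b⁻¹ * (a⁻¹ * c a) * b⁻¹⁻¹ * (b⁻¹ * c b) := by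
      rw [map_mul]
      group
    rw [e]
    exact N.mul_mem (hN.conj_mem _ ha _) hb
  inv_mem' := by
    intro a ha
    show a⁻¹⁻¹ * c a⁻¹ ∈ N
    have e : a⁻¹⁻¹ * c a⁻¹ = a * (a⁻¹ * c a)⁻¹ * a⁻¹ := by
      rw [map_inv]
      group
    rw [e]
    exact hN.conj_mem _ (N.inv_mem ha) _

theorem mem_fixMod {G : Type*} [Group G] (c : MulAut G) (N : Subgroup G) [hN : N.Normal] (y : G) :
    y ∈ fixMod c N ↔ y⁻¹ * c y ∈ N := Iff.rfl

section ess

variable [Finite S] {p : ℕ} [hp : Fact p.Prime] {A : Subgroup Ω}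

theorem exists_moving (h : AbSetup p S A) (hS : IsPGroup p S) (F : FusionSystem S)
    (hF : F.IsSaturated p) {P : Subgroup Ω} (hP : F.IsEssential p P) {x : Ω} (hxP : x ∈ P)
    (hxA : x ∉ A) :
    ∃ α ∈ F.autGroup P, ∃ y : ↥P, (y : Ω) ∈ A ∧ ((α y : ↥P) : Ω) ∉ A := by
  by_contra hno
  push Not at hno
  have hPc := hP.1
  have hPr := Cfsg.Agent.S5080.result p hS F hF P hP
  have hPS : P ≤ S := hPc.1
  have hlt := essential_lt hS F hF hP
  obtain ⟨g, hgN, hgP⟩ := exists_mem_normalizerIn_not_mem hS hlt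
  apply hgP
  obtain ⟨k, a, ha, rfl⟩ := h.decomp (hPS hxP) hxA g hgN.1
  apply P.mul_mem (P.zpow_mem hxP k)
  have haN : a ∈ Subgroup.normalizer (P : Set Ω) := by
    have e : a = (x ^ k)⁻¹ * (x ^ k * a) := by group
    rw [e]
    exact Subgroup.mul_mem _ (Subgroup.inv_mem _ (Subgroup.le_normalizer (P.zpow_mem hxP k)))
      hgN.2
  apply mem_of_stabilizes_chain hS F hPc hPr (chain3 (P ⊓ A) ⊤) ?_ ?_ 2 le_top (h.hAS ha) haN ?_
  · intro α hα j y hy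
    match j with
    | 0 =>
      have hy' : (y : Ω) ∈ (⊥ : Subgroup Ω) := hy
      rw [Subgroup.mem_bot] at hy'
      have hy1 : y = 1 := Subtype.ext hy'
      rw [hy1, map_one]
      exact Subgroup.one_mem _
    | 1 =>
      have hy' : (y : Ω) ∈ P ⊓ A := hy
      exact ⟨(α y).2, hno α hα y hy'.2⟩
    | 2 => exact Subgroup.mem_top _
    | (j + 3) => exact Subgroup.mem_top _
  · intro y _ hy
    exact Subgroup.mem_bot.mp hy
  · intro j y hyP hy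
    match j with
    | 0 =>
      show y⁻¹ * (a * y * a⁻¹) ∈ (⊥ : Subgroup Ω)
      have hy' : y ∈ P ⊓ A := hy
      rw [Subgroup.mem_bot, h.hab a ha y hy'.2, mul_inv_cancel_right, inv_mul_cancel]
    | 1 =>
      show y⁻¹ * (a * y * a⁻¹) ∈ P ⊓ A
      refine ⟨P.mul_mem (P.inv_mem hyP) ((Subgroup.mem_normalizer_iff.mp haN y).mp hyP), ?_⟩
      have e : y⁻¹ * (a * y * a⁻¹) = (y⁻¹ * a * y⁻¹⁻¹) * a⁻¹ := by group
      rw [e]
      exact A.mul_mem (h.hnorm _ (S.inv_mem (hPS hyP)) a ha) (A.inv_mem ha)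
    | 2 => exact Subgroup.mem_top _
    | (j + 3) => exact Subgroup.mem_top _

theorem index_normalizer (h : AbSetup p S A) (hS : IsPGroup p S) (F : FusionSystem S)
    (hF : F.IsSaturated p) {P : Subgroup Ω} (hP : F.IsEssential p P) {x : Ω} (hxP : x ∈ P)
    (hxA : x ∉ A) :
    (P.subgroupOf (S ⊓ Subgroup.normalizer (P : Set Ω))).index = p := by
  have hPc := hP.1
  have hPS : P ≤ S := hPc.1
  haveI hfinP : Finite P := finite_of_le hPS
  have hlt := essential_lt hS F hF hP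
  obtain ⟨γ, hγA, hbridge⟩ := essential_bridge hS F hF hP
  obtain ⟨x', hx'⟩ : ∃ x' : ↥P, x' = ⟨x, hxP⟩ := ⟨_, rfl⟩
  obtain ⟨P₀', hP₀'⟩ : ∃ P₀' : Subgroup ↥P, P₀' = A.subgroupOf P := ⟨_, rfl⟩
  haveI hP₀n : P₀'.Normal := by
    rw [hP₀']
    constructor
    intro u hu w
    exact h.hnorm _ (hPS w.2) _ hu
  obtain ⟨P₂', hP₂'⟩ : ∃ P₂' : Subgroup ↥P, P₂' = P₀'.map γ.toMonoidHom := ⟨_, rfl⟩
  haveI hP₂n : P₂'.Normal := by
    rw [hP₂']
    exact hP₀n.map _ γ.surjective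
  have hidx₀ : P₀'.index = p := by
    rw [hP₀']
    show A.relIndex P = p
    haveI : (A.subgroupOf S).Normal := ⟨fun a ha s => h.hnorm _ s.2 _ ha⟩
    have h1 : (A.subgroupOf S).relIndex (P.subgroupOf S) ∣ (A.subgroupOf S).index :=
      Subgroup.relIndex_dvd_index_of_normal _ _
    rw [Subgroup.relIndex_subgroupOf hPS] at h1
    have h2 : (A.subgroupOf S).index = p := h.hidx
    rw [h2] at h1
    have h3 : A.relIndex P ≠ 1 := fun h' => hxA (Subgroup.relIndex_eq_one.mp h' hxP)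
    exact ((Nat.dvd_prime hp.out).mp h1).resolve_left h3
  have hidx₂ : P₂'.index = p := by
    rw [hP₂', Subgroup.index_map_of_bijective (f := γ.toMonoidHom) γ.bijective P₀']
    exact hidx₀
  have hf1 : ∀ n ∈ A, ∀ hn : n ∈ Subgroup.normalizer (P : Set Ω), ∀ u ∈ P₀',
      conjAut P ⟨n, hn⟩ u = u := by
    intro n hnA hn u hu
    rw [hP₀'] at hu
    apply Subtype.ext
    show n * u * n⁻¹ = u
    rw [h.hab n hnA u hu, mul_inv_cancel_right]
  have hf2 : ∀ n ∈ A, ∀ hn : n ∈ Subgroup.normalizer (P : Set Ω), ∀ y : ↥P,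
      y⁻¹ * conjAut P ⟨n, hn⟩ y ∈ P₀' := by
    intro n hnA hn y
    rw [hP₀']
    show (y : Ω)⁻¹ * (n * y * n⁻¹) ∈ A
    have e : (y : Ω)⁻¹ * (n * y * n⁻¹) = ((y : Ω)⁻¹ * n * (y : Ω)⁻¹⁻¹) * n⁻¹ := by group
    rw [e]
    exact A.mul_mem (h.hnorm _ (S.inv_mem (hPS y.2)) n hnA) (A.inv_mem hnA)
  obtain ⟨D', hD'⟩ : ∃ D' : Subgroup ↥P, D' = P₀' ⊓ P₂' := ⟨_, rfl⟩
  have hmono : ∀ j, chain3 D' P₂' j ≤ chain3 D' P₂' (j + 1) := by
    intro j
    match j with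
    | 0 => exact bot_le
    | 1 => exact hD' ▸ inf_le_right
    | 2 => exact le_top
    | (j + 3) => exact le_top
  have hPp : IsPGroup p ↥P := isPGroup_of_le hS hPS
  have hRp := isPGroup_stab_chainPres hPp (chain3 D' P₂') rfl 3 rfl
  have hβR : ∀ m ∈ A, ∀ hm : m ∈ Subgroup.normalizer (P : Set Ω),
      γ * conjAut P ⟨m, hm⟩ * γ⁻¹ ∈ stabChain (chainPres (chain3 D' P₂')) (chain3 D' P₂')
        (fun α hα j x hx => (hα j x).mp hx) := by
    intro m hmA hm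
    apply mem_stab_chainPres (chain3 D' P₂') rfl hmono
    have hg1 : ∀ w ∈ P₂', (γ * conjAut P ⟨m, hm⟩ * γ⁻¹) w = w := by
      intro w hw
      rw [hP₂'] at hw
      obtain ⟨u, hu, rfl⟩ := hw
      show γ (conjAut P ⟨m, hm⟩ (γ⁻¹ (γ u))) = γ u
      rw [MulAut.inv_apply_self, hf1 m hmA hm u hu]
    have hg2 : ∀ y, y⁻¹ * (γ * conjAut P ⟨m, hm⟩ * γ⁻¹) y ∈ P₂' := by
      intro y
      have e1 : y⁻¹ * (γ * conjAut P ⟨m, hm⟩ * γ⁻¹) y =
          γ ((γ⁻¹ y)⁻¹ * conjAut P ⟨m, hm⟩ (γ⁻¹ y)) := by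
        rw [map_mul, map_inv, MulAut.apply_inv_self]
        rfl
      rw [e1, hP₂']
      exact ⟨_, hf2 m hmA hm (γ⁻¹ y), rfl⟩
    intro j y hy
    match j with
    | 0 =>
      show y⁻¹ * (γ * conjAut P ⟨m, hm⟩ * γ⁻¹) y ∈ (⊥ : Subgroup ↥P)
      have hy' : y ∈ D' := hy
      rw [hD'] at hy'
      rw [hg1 y hy'.2, inv_mul_cancel]
      exact Subgroup.one_mem _
    | 1 =>
      show y⁻¹ * (γ * conjAut P ⟨m, hm⟩ * γ⁻¹) y ∈ D'
      have hy' : y ∈ P₂' := hy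
      rw [hg1 y hy', inv_mul_cancel]
      exact Subgroup.one_mem _
    | 2 => exact hg2 y
    | (j + 3) => exact Subgroup.mem_top _
  have hcR : ∀ n ∈ A, ∀ hn : n ∈ Subgroup.normalizer (P : Set Ω),
      (∀ y : ↥P, y⁻¹ * conjAut P ⟨n, hn⟩ y ∈ P₂') →
      conjAut P ⟨n, hn⟩ ∈ stabChain (chainPres (chain3 D' P₂')) (chain3 D' P₂')
        (fun α hα j x hx => (hα j x).mp hx) := by
    intro n hnA hn hcond
    apply mem_stab_chainPres (chain3 D' P₂') rfl hmono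
    intro j y hy
    match j with
    | 0 =>
      show y⁻¹ * conjAut P ⟨n, hn⟩ y ∈ (⊥ : Subgroup ↥P)
      have hy' : y ∈ D' := hy
      rw [hD'] at hy'
      rw [hf1 n hnA hn y hy'.1, inv_mul_cancel]
      exact Subgroup.one_mem _
    | 1 =>
      show y⁻¹ * conjAut P ⟨n, hn⟩ y ∈ D'
      rw [hD']
      exact ⟨hf2 n hnA hn y, hcond y⟩
    | 2 => exact hcond y
    | (j + 3) => exact Subgroup.mem_top _
  -- an element of `N_A(P)` outside `P`
  obtain ⟨g, hgN, hgP⟩ := exists_mem_normalizerIn_not_mem hS hlt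
  have hsplit : ∀ t ∈ S, t ∈ Subgroup.normalizer (P : Set Ω) →
      ∃ k : ℤ, ∃ a ∈ A, a ∈ Subgroup.normalizer (P : Set Ω) ∧ t = x ^ k * a := by
    intro t htS htN
    obtain ⟨k, a, ha, rfl⟩ := h.decomp (hPS hxP) hxA t htS
    refine ⟨k, a, ha, ?_, rfl⟩
    have e : a = (x ^ k)⁻¹ * (x ^ k * a) := by group
    rw [e]
    exact Subgroup.mul_mem _ (Subgroup.inv_mem _ (Subgroup.le_normalizer (P.zpow_mem hxP k))) htN
  obtain ⟨k₀, m₀, hm₀A, hm₀N, hgm⟩ := hsplit g hgN.1 hgN.2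
  have hm₀P : m₀ ∉ P := by
    intro hm
    apply hgP
    rw [hgm]
    exact P.mul_mem (P.zpow_mem hxP k₀) hm
  have key : ∀ n ∈ A, ∀ hn : n ∈ Subgroup.normalizer (P : Set Ω),
      (∀ y : ↥P, y⁻¹ * conjAut P ⟨n, hn⟩ y ∈ P₂') → n ∈ P := by
    intro n hnA hn hcond
    by_contra hnP
    exact hbridge _ hRp n (h.hAS hnA) hn hnP m₀ (h.hAS hm₀A) hm₀N hm₀P (hcR n hnA hn hcond)
      (hβR m₀ hm₀A hm₀N)
  have hred : ∀ n ∈ A, ∀ hn : n ∈ Subgroup.normalizer (P : Set Ω),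
      x'⁻¹ * conjAut P ⟨n, hn⟩ x' ∈ P₂' → ∀ y : ↥P, y⁻¹ * conjAut P ⟨n, hn⟩ y ∈ P₂' := by
    intro n hnA hn hxc y
    obtain ⟨k, u, hu, hyk⟩ := P_decomp h hPS hxP hxA y y.2
    have hy' : y = x' ^ k * ⟨u, hu.1⟩ := by
      apply Subtype.ext
      rw [hyk, hx']
      simp
    rw [← mem_fixMod, hy']
    apply Subgroup.mul_mem
    · exact Subgroup.zpow_mem _ ((mem_fixMod _ _ _).mpr hxc) k
    · rw [mem_fixMod, hf1 n hnA hn ⟨u, hu.1⟩ (by rw [hP₀']; exact hu.2), inv_mul_cancel]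
      exact Subgroup.one_mem _
  -- the homomorphism
  have hδmul : ∀ n n' : ↥(A ⊓ Subgroup.normalizer (P : Set Ω)),
      x'⁻¹ * conjAut P ⟨(n * n' : ↥(A ⊓ Subgroup.normalizer (P : Set Ω))), (n * n').2.2⟩ x' =
        (x'⁻¹ * conjAut P ⟨n, n.2.2⟩ x') * (x'⁻¹ * conjAut P ⟨n', n'.2.2⟩ x') := by
    intro n n'
    have e1 : conjAut P ⟨(n * n' : ↥(A ⊓ Subgroup.normalizer (P : Set Ω))), (n * n').2.2⟩ =
        conjAut P ⟨n, n.2.2⟩ * conjAut P ⟨n', n'.2.2⟩ := by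
      rw [← map_mul]
      rfl
    have e2 : conjAut P ⟨n', n'.2.2⟩ x' = x' * (x'⁻¹ * conjAut P ⟨n', n'.2.2⟩ x') := by group
    rw [e1, MulAut.mul_apply, e2, map_mul,
      hf1 n n.2.1 n.2.2 _ (hf2 n' n'.2.1 n'.2.2 x')]
    group
  let θ : ↥(A ⊓ Subgroup.normalizer (P : Set Ω)) →* ↥P ⧸ P₂' :=
    MonoidHom.mk' (fun n => (QuotientGroup.mk (x'⁻¹ * conjAut P ⟨n, n.2.2⟩ x') : ↥P ⧸ P₂'))
      (fun n n' => by rw [hδmul n n']; rfl)
  have hker : θ.ker ≤ P.subgroupOf (A ⊓ Subgroup.normalizer (P : Set Ω)) := by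
    intro n hn
    rw [MonoidHom.mem_ker] at hn
    have h1 : x'⁻¹ * conjAut P ⟨n, n.2.2⟩ x' ∈ P₂' := (QuotientGroup.eq_one_iff _).mp hn
    exact Subgroup.mem_subgroupOf.mpr (key n n.2.1 n.2.2 (hred n n.2.1 n.2.2 h1))
  have hdvd1 : (P.subgroupOf (A ⊓ Subgroup.normalizer (P : Set Ω))).index ∣ p := by
    have h1 : θ.ker.index ∣ p := by
      rw [Subgroup.index_ker, ← hidx₂]
      exact Subgroup.card_subgroup_dvd_card θ.range
    exact (Subgroup.index_dvd_of_le hker).trans h1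
  -- transfer to the normalizer
  obtain ⟨T, hT⟩ : ∃ T : Subgroup Ω, T = S ⊓ Subgroup.normalizer (P : Set Ω) := ⟨_, rfl⟩
  rw [← hT]
  have hNT : A ⊓ Subgroup.normalizer (P : Set Ω) ≤ T := by
    rw [hT]
    exact inf_le_inf_right _ h.hAS
  have hPT : P ≤ T := by
    rw [hT]
    exact le_inf hPS Subgroup.le_normalizer
  have hTmem : ∀ t ∈ T, t ∈ S ∧ t ∈ Subgroup.normalizer (P : Set Ω) := by
    intro t ht
    rw [hT] at ht
    exact ht
  haveI hPn : (P.subgroupOf T).Normal := by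
    constructor
    intro u hu t
    have htN : (t : Ω) ∈ Subgroup.normalizer (P : Set Ω) := (hTmem t.1 t.2).2
    exact (Subgroup.mem_normalizer_iff.mp htN u).mp hu
  have hsup : (A ⊓ Subgroup.normalizer (P : Set Ω)).subgroupOf T ⊔ P.subgroupOf T = ⊤ := by
    rw [eq_top_iff]
    intro t _
    have ht := hTmem t.1 t.2
    obtain ⟨k, a, haA, haN, hta⟩ := hsplit t ht.1 ht.2
    have haT : a ∈ T := hNT ⟨haA, haN⟩
    have hxT : x ^ k ∈ T := hPT (P.zpow_mem hxP k)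
    have e : t = ⟨x ^ k, hxT⟩ * ⟨a, haT⟩ := Subtype.ext hta
    rw [e]
    apply Subgroup.mul_mem
    · exact (le_sup_right : P.subgroupOf T ≤ _) (Subgroup.mem_subgroupOf.mpr (P.zpow_mem hxP k))
    · exact (le_sup_left : (A ⊓ Subgroup.normalizer (P : Set Ω)).subgroupOf T ≤ _)
        (Subgroup.mem_subgroupOf.mpr ⟨haA, haN⟩)
  have h1 := Subgroup.relIndex_sup_right ((A ⊓ Subgroup.normalizer (P : Set Ω)).subgroupOf T)
    (P.subgroupOf T)
  rw [hsup, Subgroup.relIndex_top_right, Subgroup.relIndex_subgroupOf hNT] at h1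
  have h2 : (P.subgroupOf T).index ∣ p := by
    rw [h1]
    exact hdvd1
  have h3 : (P.subgroupOf T).index ≠ 1 := by
    intro h'
    have h4 : P.subgroupOf T = ⊤ := Subgroup.index_eq_one.mp h'
    rw [Subgroup.subgroupOf_eq_top] at h4
    apply hgP
    apply h4
    rw [hT]
    exact hgN
  exact ((Nat.dvd_prime hp.out).mp h2).resolve_left h3

end ess

end Cfsg.Agent.Lib.Helper1.ET
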