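import Mathlib
import Cfsg.Agent.Lib.Helper1.ET3

set_option autoImplicit false
set_option linter.style.haveILetI false
set_option linter.unusedSectionVars false
set_option linter.unusedVariables false
set_option maxHeartbeats 1000000

/-! `p`-groups with an abelian subgroup of index `p`, part 2: the structure of the essential
subgroups not contained in `A`. -/

namespace Cfsg.Agent.Lib.Helper1.ET

open Cfsg Cfsg.FusionSystem Cfsg.Agent.Lib.Helper9 Cfsg.Agent.Lib.Helper7 Cfsg.Agent.Lib.Helper1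
  Cfsg.Agent.Lib.Helper2.EssGen

open scoped commutatorElement

variable {Ω : Type*} [Group Ω] {S : Subgroup Ω}

theorem center_map_subtype (S : Subgroup Ω) :
    (Subgroup.center ↥S).map S.subtype = S ⊓ Subgroup.centralizer (S : Set Ω) := by
  ext x
  constructor
  · rintro ⟨y, hy, rfl⟩
    refine Subgroup.mem_inf.mpr ⟨y.2, ?_⟩
    rw [Subgroup.mem_centralizer_iff]
    intro q hq
    have := Subgroup.mem_center_iff.mp hy ⟨q, hq⟩
    exact congrArg Subtype.val this
  · intro hx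
    obtain ⟨hxQ, hxC⟩ := Subgroup.mem_inf.mp hx
    refine ⟨⟨x, hxQ⟩, ?_, rfl⟩
    rw [SetLike.mem_coe, Subgroup.mem_center_iff]
    intro q
    apply Subtype.ext
    exact Subgroup.mem_centralizer_iff.mp hxC q q.2

theorem mem_Z₂_iff (S : Subgroup Ω) (y : Ω) :
    y ∈ (Subgroup.upperCentralSeries ↥S 2).map S.subtype ↔
      y ∈ S ∧ ∀ s ∈ S, y * s * y⁻¹ * s⁻¹ ∈ S ⊓ Subgroup.centralizer (S : Set Ω) := by
  constructor
  · rintro ⟨y', hy', rfl⟩
    refine ⟨y'.2, fun s hs => ?_⟩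
    have h1 : ⁅y', (⟨s, hs⟩ : ↥S)⁆ ∈ Subgroup.upperCentralSeries ↥S 1 :=
      (Subgroup.mem_upperCentralSeries_succ_iff (n := 1)).mp hy' ⟨s, hs⟩
    rw [Subgroup.upperCentralSeries_one] at h1
    rw [← center_map_subtype]
    exact ⟨_, h1, rfl⟩
  · rintro ⟨hyS, hy⟩
    refine ⟨⟨y, hyS⟩, ?_, rfl⟩
    show (⟨y, hyS⟩ : ↥S) ∈ Subgroup.upperCentralSeries ↥S (1 + 1)
    rw [Subgroup.mem_upperCentralSeries_succ_iff, Subgroup.upperCentralSeries_one]
    intro s
    have h1 := hy s s.2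
    rw [← center_map_subtype] at h1
    obtain ⟨c, hc, hcs⟩ := h1
    have : c = ⁅(⟨y, hyS⟩ : ↥S), s⁆ := Subtype.ext hcs
    rw [← this]
    exact hc

section ess

variable [Finite S] {p : ℕ} [hp : Fact p.Prime] {A : Subgroup Ω}

theorem structure_of_essential (h : AbSetup p S A) (hS : IsPGroup p S) (F : FusionSystem S)
    (hF : F.IsSaturated p) {P : Subgroup Ω} (hP : F.IsEssential p P) {x : Ω} (hxP : x ∈ P)
    (hxA : x ∉ A) :
    P = (S ⊓ Subgroup.centralizer (S : Set Ω)) ⊔ Subgroup.zpowers x ∨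
      ((Subgroup.upperCentralSeries ↥S 2).map S.subtype ≤ A ∧
        P = (Subgroup.upperCentralSeries ↥S 2).map S.subtype ⊔ Subgroup.zpowers x ∧
        P ⊓ A = (Subgroup.upperCentralSeries ↥S 2).map S.subtype ∧
        ¬ (∀ a ∈ P, ∀ b ∈ P, a * b = b * a)) := by
  have hPc := hP.1
  have hPr := Cfsg.Agent.S5080.result p hS F hF P hP
  have hPS : P ≤ S := hPc.1
  haveI hfinP : Finite P := finite_of_le hPS
  have hlt := essential_lt hS F hF hP
  have hCS : centralizerIn S P ≤ P := hPc.2 P (isConj_refl F hPS)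
  obtain ⟨Z, hZ⟩ : ∃ Z, Z = S ⊓ Subgroup.centralizer (S : Set Ω) := ⟨_, rfl⟩
  rw [← hZ]
  have hZS : Z ≤ S := hZ ▸ inf_le_left
  have hZc : ∀ z ∈ Z, ∀ s ∈ S, s * z = z * s := by
    intro z hz s hs
    rw [hZ] at hz
    exact Subgroup.mem_centralizer_iff.mp hz.2 s hs
  have hZmem : ∀ z ∈ S, (∀ s ∈ S, s * z = z * s) → z ∈ Z := by
    intro z hzS hz
    rw [hZ]
    exact ⟨hzS, Subgroup.mem_centralizer_iff.mpr hz⟩
  have hZP : Z ≤ P := by
    intro z hz
    apply hCS
    refine ⟨hZS hz, ?_⟩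
    show z ∈ Subgroup.centralizer (P : Set Ω)
    rw [Subgroup.mem_centralizer_iff]
    intro y hy
    exact hZc z hz y (hPS hy)
  have hxS : x ∈ S := hPS hxP
  by_cases hab : ∀ a ∈ P, ∀ b ∈ P, a * b = b * a
  · left
    apply le_antisymm
    · intro y hy
      obtain ⟨k, u, hu, rfl⟩ := P_decomp h hPS hxP hxA y hy
      have huZ : u ∈ Z :=
        hZmem u (hPS hu.1) (h.central_of_comm hxS hxA hu.2 (hab u hu.1 x hxP))
      exact Subgroup.mul_mem _
        ((le_sup_right : Subgroup.zpowers x ≤ _) (Subgroup.zpow_mem _ (Subgroup.mem_zpowers x) k))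
        ((le_sup_left : Z ≤ _) huZ)
    · exact sup_le hZP (Subgroup.zpowers_le.mpr hxP)
  · right
    -- centre of P
    have hN1 : ∀ y ∈ P, (∀ w ∈ P, w * y = y * w) → y ∈ Z := by
      intro y hy hyc
      by_cases hyA : y ∈ A
      · exact hZmem y (hPS hy) (h.central_of_comm hxS hxA hyA (hyc x hxP).symm)
      · exfalso
        apply hab
        intro a ha b hb
        obtain ⟨k, u, hu, rfl⟩ := P_decomp h hPS hy hyA a ha
        obtain ⟨l, u', hu', rfl⟩ := P_decomp h hPS hy hyA b hb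
        have huy : Commute u y := hyc u hu.1
        have hu'y : Commute u' y := hyc u' hu'.1
        have huu' : Commute u u' := h.hab u hu.2 u' hu'.2
        have h1 : Commute (y ^ k) (y ^ l * u') :=
          Commute.mul_right ((Commute.refl y).zpow_zpow k l) ((hu'y.symm).zpow_left k)
        have h2 : Commute u (y ^ l * u') := Commute.mul_right (huy.zpow_right l) huu'
        exact (Commute.mul_left h1 h2).eq
    -- the moving automorphism
    obtain ⟨α, hα, y₀, hy₀A, hy₀⟩ := exists_moving h hS F hF hP hxP hxA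
    obtain ⟨v, hv⟩ : ∃ v : Ω, v = ((α y₀ : ↥P) : Ω) := ⟨_, rfl⟩
    have hvP : v ∈ P := hv ▸ (α y₀).2
    have hvA : v ∉ A := hv ▸ hy₀
    -- elements of `A ∩ α(A ∩ P)` are central
    have hD : ∀ u : ↥P, (u : Ω) ∈ A → ((α u : ↥P) : Ω) ∈ A → ((α u : ↥P) : Ω) ∈ Z := by
      intro u hu hαu
      apply hN1 _ (α u).2
      intro w hw
      obtain ⟨k, u', hu', rfl⟩ := P_decomp h hPS hvP hvA w hw
      have h1 : Commute ((α u : ↥P) : Ω) u' := h.hab _ hαu u' hu'.2
      have h2 : Commute ((α u : ↥P) : Ω) v := by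
        rw [hv]
        have h3 : u * y₀ = y₀ * u := Subtype.ext (h.hab u hu y₀ hy₀A)
        have h4 : α u * α y₀ = α y₀ * α u := by rw [← map_mul, ← map_mul, h3]
        exact congrArg Subtype.val h4
      exact ((h2.zpow_right k).mul_right h1).eq.symm
    -- commutators of `P ∩ A` with `v`
    have hstep2 : ∀ u ∈ P ⊓ A, u * v * u⁻¹ * v⁻¹ ∈ Z := by
      intro u hu
      obtain ⟨u', hu'⟩ : ∃ u' : ↥P, u' = ⟨u, hu.1⟩ := ⟨_, rfl⟩
      -- the element `α⁻¹ u' * y₀ * (α⁻¹ u')⁻¹ * y₀⁻¹`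
      obtain ⟨d, hd⟩ : ∃ d : ↥P, d = α⁻¹ u' * y₀ * (α⁻¹ u')⁻¹ * y₀⁻¹ := ⟨_, rfl⟩
      have hdA : (d : Ω) ∈ A := by
        rw [hd]
        show ((α⁻¹ u' : ↥P) : Ω) * y₀ * ((α⁻¹ u' : ↥P) : Ω)⁻¹ * (y₀ : Ω)⁻¹ ∈ A
        exact A.mul_mem (h.hnorm _ (hPS (α⁻¹ u').2) _ hy₀A) (A.inv_mem hy₀A)
      have hαd : ((α d : ↥P) : Ω) = u * v * u⁻¹ * v⁻¹ := by
        rw [hd, map_mul, map_mul, map_mul, map_inv, map_inv, MulAut.apply_inv_self, hu', hv]
        rfl
      have hαdA : ((α d : ↥P) : Ω) ∈ A := by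
        rw [hαd]
        have e : u * v * u⁻¹ * v⁻¹ = u * (v * u⁻¹ * v⁻¹) := by group
        rw [e]
        exact A.mul_mem hu.2 (h.hnorm _ (hPS hvP) _ (A.inv_mem hu.2))
      rw [← hαd]
      exact hD d hdA hαdA
    -- class two
    have hcs : ∀ b ∈ S, ∀ y ∈ P, v ∈ commSub S Z hZc b → (∀ u ∈ P ⊓ A, u ∈ commSub S Z hZc b) →
        y ∈ commSub S Z hZc b := by
      intro b hb y hy hvb hub
      obtain ⟨k, u, hu, rfl⟩ := P_decomp h hPS hvP hvA y hy
      exact Subgroup.mul_mem _ (Subgroup.zpow_mem _ hvb k) (hub u hu)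
    have one_mem_Z : ∀ a : Ω, a * a * a⁻¹ * a⁻¹ ∈ Z := by
      intro a
      have e : a * a * a⁻¹ * a⁻¹ = 1 := by group
      rw [e]
      exact Z.one_mem
    have hyv : ∀ y ∈ P, y * v * y⁻¹ * v⁻¹ ∈ Z := by
      intro y hy
      have := hcs v (hPS hvP) y hy ⟨hPS hvP, one_mem_Z v⟩
        (fun u hu => ⟨hPS hu.1, hstep2 u hu⟩)
      exact this.2
    have hyu : ∀ y ∈ P, ∀ u' ∈ P ⊓ A, y * u' * y⁻¹ * u'⁻¹ ∈ Z := by
      intro y hy u' hu'
      have := hcs u' (hPS hu'.1) y hy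
        ⟨hPS hvP, comm_symm_mem Z (hstep2 u' hu')⟩
        (fun u hu => ⟨hPS hu.1, by
          have e : u * u' * u⁻¹ * u'⁻¹ = 1 := by
            rw [h.hab u hu.2 u' hu'.2]
            group
          rw [e]
          exact Z.one_mem⟩)
      exact this.2
    have hN4 : ∀ a ∈ P, ∀ b ∈ P, a * b * a⁻¹ * b⁻¹ ∈ Z := by
      intro a ha b hb
      have := hcs a (hPS ha) b hb ⟨hPS hvP, comm_symm_mem Z (hyv a ha)⟩
        (fun u hu => ⟨hPS hu.1, comm_symm_mem Z (hyu a ha u hu)⟩)
      exact comm_symm_mem Z this.2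
    -- the chain criterion
    have key2 : ∀ a ∈ A, a ∈ Subgroup.normalizer (P : Set Ω) →
        (∀ y ∈ P, y⁻¹ * (a * y * a⁻¹) ∈ Z) → a ∈ P := by
      intro a ha haN hcond
      apply mem_of_stabilizes_chain hS F hPc hPr (chain3 Z ⊤) ?_ ?_ 2 le_top (h.hAS ha) haN ?_
      · intro α' hα' j y hy
        match j with
        | 0 =>
          have hy' : (y : Ω) ∈ (⊥ : Subgroup Ω) := hy
          rw [Subgroup.mem_bot] at hy'
          have hy1 : y = 1 := Subtype.ext hy'
          rw [hy1, map_one]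
          exact Subgroup.one_mem _
        | 1 =>
          have hy' : (y : Ω) ∈ Z := hy
          show ((α' y : ↥P) : Ω) ∈ Z
          apply hN1 _ (α' y).2
          intro w hw
          have h3 : α'⁻¹ ⟨w, hw⟩ * y = y * α'⁻¹ ⟨w, hw⟩ :=
            Subtype.ext (hZc y hy' _ (hPS (α'⁻¹ ⟨w, hw⟩).2))
          have h4 : α' (α'⁻¹ ⟨w, hw⟩) * α' y = α' y * α' (α'⁻¹ ⟨w, hw⟩) := by
            rw [← map_mul, ← map_mul, h3]
          rw [MulAut.apply_inv_self] at h4
          exact congrArg Subtype.val h4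
        | 2 => exact Subgroup.mem_top _
        | (j + 3) => exact Subgroup.mem_top _
      · intro y _ hy
        exact Subgroup.mem_bot.mp hy
      · intro j y hyP hy
        match j with
        | 0 =>
          show y⁻¹ * (a * y * a⁻¹) ∈ (⊥ : Subgroup Ω)
          have hy' : y ∈ Z := hy
          rw [Subgroup.mem_bot, hZc y hy' a (h.hAS ha), mul_inv_cancel_right, inv_mul_cancel]
        | 1 => exact hcond y hyP
        | 2 => exact Subgroup.mem_top _
        | (j + 3) => exact Subgroup.mem_top _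
    -- a criterion for lying in `P`
    have key3 : ∀ a ∈ A, (∀ s ∈ S, a * s * a⁻¹ * s⁻¹ ∈ Z) → a ∈ P := by
      intro a ha hcomm
      have haN : a ∈ Subgroup.normalizer (P : Set Ω) := by
        apply KN.mem_normalizer_of_forall_conj_mem
        intro y hy
        have e : a * y * a⁻¹ = (a * y * a⁻¹ * y⁻¹) * y := by group
        rw [e]
        exact P.mul_mem (hZP (hcomm y (hPS hy))) hy
      apply key2 a ha haN
      intro y hy
      have h1 := comm_symm_mem Z (hcomm y⁻¹ (S.inv_mem (hPS hy)))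
      have e : y⁻¹ * (a * y * a⁻¹) = y⁻¹ * a * y⁻¹⁻¹ * a⁻¹ := by group
      rw [e]
      exact h1
    have hZ₂mem := mem_Z₂_iff S
    rw [← hZ] at hZ₂mem
    -- Z₂ ≤ A
    have hZ₂A : (Subgroup.upperCentralSeries ↥S 2).map S.subtype ≤ A := by
      intro y hy
      by_contra hyA
      obtain ⟨hyS, hyc⟩ := (hZ₂mem y).mp hy
      have hAP : A ≤ P := by
        intro a ha
        apply key3 a ha
        intro s hs
        obtain ⟨l, a', ha', rfl⟩ := h.decomp hyS hyA s hs
        have hmem : y ^ l * a' ∈ commSub S Z hZc a := by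
          apply Subgroup.mul_mem
          · exact Subgroup.zpow_mem _ (show y ∈ commSub S Z hZc a from ⟨hyS, hyc a (h.hAS ha)⟩) l
          · refine ⟨h.hAS ha', ?_⟩
            have e : a' * a * a'⁻¹ * a⁻¹ = 1 := by
              rw [h.hab a' ha' a ha]
              group
            rw [e]
            exact Z.one_mem
        exact comm_symm_mem Z hmem.2
      have hSP : S ≤ P := by
        intro s hs
        obtain ⟨k, a, ha, rfl⟩ := h.decomp hxS hxA s hs
        exact P.mul_mem (P.zpow_mem hxP k) (hAP ha)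
      exact absurd hSP (not_le_of_gt hlt)
    have hP₀ : P ⊓ A = (Subgroup.upperCentralSeries ↥S 2).map S.subtype := by
      apply le_antisymm
      · intro u hu
        rw [hZ₂mem]
        refine ⟨hPS hu.1, fun s hs => ?_⟩
        obtain ⟨k, a, ha, rfl⟩ := h.decomp hxS hxA s hs
        have hmem : x ^ k * a ∈ commSub S Z hZc u := by
          apply Subgroup.mul_mem
          · exact Subgroup.zpow_mem _ (show x ∈ commSub S Z hZc u from ⟨hxS, hN4 x hxP u hu.1⟩) k
          · refine ⟨h.hAS ha, ?_⟩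
            have e : a * u * a⁻¹ * u⁻¹ = 1 := by
              rw [h.hab a ha u hu.2]
              group
            rw [e]
            exact Z.one_mem
        exact comm_symm_mem Z hmem.2
      · intro y hy
        have hyA := hZ₂A hy
        obtain ⟨hyS, hyc⟩ := (hZ₂mem y).mp hy
        exact ⟨key3 y hyA hyc, hyA⟩
    refine ⟨hZ₂A, ?_, hP₀, hab⟩
    apply le_antisymm
    · intro y hy
      obtain ⟨k, u, hu, rfl⟩ := P_decomp h hPS hxP hxA y hy
      rw [hP₀] at hu
      exact Subgroup.mul_mem _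
        ((le_sup_right : Subgroup.zpowers x ≤ _) (Subgroup.zpow_mem _ (Subgroup.mem_zpowers x) k))
        ((le_sup_left : (Subgroup.upperCentralSeries ↥S 2).map S.subtype ≤ _) hu)
    · rw [← hP₀]
      exact sup_le inf_le_left (Subgroup.zpowers_le.mpr hxP)

/-- S5254 -/
theorem essentials_over_abelian_index_p (hS : IsPGroup p S) (F : FusionSystem S)
    (hF : F.IsSaturated p) (hna : ¬ IsMulCommutative ↥S) (A : Subgroup Ω)
    (hA : A ≤ S ∧ IsMulCommutative ↥A ∧ (A.subgroupOf S).index = p) (P : Subgroup Ω)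
    (hP : F.IsEssential p P) :
    (P = A ∨ (∃ x ∈ S, x ∉ A ∧ P = (S ⊓ Subgroup.centralizer (S : Set Ω)) ⊔ Subgroup.zpowers x) ∨
      (((Subgroup.upperCentralSeries ↥S 2).map S.subtype) ≤ A ∧ ∃ x ∈ S, x ∉ A ∧
        P = ((Subgroup.upperCentralSeries ↥S 2).map S.subtype) ⊔ Subgroup.zpowers x)) ∧
    (P.subgroupOf (S ⊓ Subgroup.normalizer (P : Set Ω))).index = p := by
  have h := abSetup_of hS hna A hA
  have hPS : P ≤ S := hP.1.1
  have hCS : centralizerIn S P ≤ P := hP.1.2 P (isConj_refl F hPS)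
  by_cases hPA : P ≤ A
  · have hAP : A ≤ P := by
      intro a ha
      apply hCS
      refine ⟨h.hAS ha, ?_⟩
      show a ∈ Subgroup.centralizer (P : Set Ω)
      rw [Subgroup.mem_centralizer_iff]
      intro y hy
      exact h.hab y (hPA hy) a ha
    have hPeq : P = A := le_antisymm hPA hAP
    refine ⟨Or.inl hPeq, ?_⟩
    rw [hPeq, inf_eq_left.mpr h.le_normalizer]
    exact hA.2.2
  · obtain ⟨x, hxP, hxA⟩ := SetLike.not_le_iff_exists.mp hPA
    refine ⟨Or.inr ?_, index_normalizer h hS F hF hP hxP hxA⟩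
    rcases structure_of_essential h hS F hF hP hxP hxA with h1 | ⟨h1, h2, -, -⟩
    · exact Or.inl ⟨x, hPS hxP, hxA, h1⟩
    · exact Or.inr ⟨h1, x, hPS hxP, hxA, h2⟩

end ess

end Cfsg.Agent.Lib.Helper1.ET
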