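import Mathlib
import Cfsg.Agent.Lib.Helper1.ET4

set_option autoImplicit false
set_option linter.style.haveILetI false
set_option linter.unusedSectionVars false
set_option linter.unusedVariables false
set_option maxHeartbeats 1000000

/-! `p`-groups with an abelian subgroup of index `p`, part 3: counting with the commutator
endomorphism of `A`. -/

namespace Cfsg.Agent.Lib.Helper1.ET

open Cfsg Cfsg.FusionSystem Cfsg.Agent.Lib.Helper9 Cfsg.Agent.Lib.Helper7 Cfsg.Agent.Lib.Helper1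
  Cfsg.Agent.Lib.Helper2.EssGen

open scoped commutatorElement

section general

theorem card_comap_eq {G H : Type*} [Group G] [Group H] (f : G →* H) (K : Subgroup H) :
    Nat.card ↥(K.comap f) = Nat.card ↥f.ker * Nat.card ↥(f.range ⊓ K : Subgroup H) := by
  have h1 : f.ker ≤ K.comap f := by
    intro g hg
    rw [Subgroup.mem_comap, MonoidHom.mem_ker.mp hg]
    exact K.one_mem
  have h2 := Subgroup.relIndex_mul_relIndex ⊥ f.ker (K.comap f) bot_le h1
  rw [Subgroup.relIndex_bot_left, Subgroup.relIndex_bot_left, Subgroup.relIndex_ker,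
    Subgroup.map_comap_eq] at h2
  exact h2.symm

theorem card_eq_card_mul_relIndex {G : Type*} [Group G] {H K : Subgroup G} (h : H ≤ K) :
    Nat.card ↥K = Nat.card ↥H * H.relIndex K := by
  have h2 := Subgroup.relIndex_mul_relIndex ⊥ H K bot_le h
  rw [Subgroup.relIndex_bot_left, Subgroup.relIndex_bot_left] at h2
  exact h2.symm

/-- iterates of an endomorphism -/
def homPow {G : Type*} [Group G] (φ : G →* G) : ℕ → (G →* G)
  | 0 => MonoidHom.id G
  | (k + 1) => φ.comp (homPow φ k)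

theorem homPow_succ {G : Type*} [Group G] (φ : G →* G) (k : ℕ) :
    homPow φ (k + 1) = φ.comp (homPow φ k) := rfl

theorem card_ker_homPow_le {G : Type*} [Group G] [Finite G] (φ : G →* G) (q : ℕ)
    (hq : Nat.card ↥(φ.range ⊓ φ.ker : Subgroup G) ≤ q) (k : ℕ) :
    Nat.card ↥(homPow φ (k + 1)).ker ≤ Nat.card ↥φ.ker * q ^ k := by
  induction k with
  | zero =>
    have e : homPow φ (0 + 1) = φ := by
      rw [homPow_succ]
      exact MonoidHom.comp_id φ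
    rw [e, pow_zero, mul_one]
  | succ k ih =>
    have e : (homPow φ (k + 1 + 1)).ker = φ.ker.comap (homPow φ (k + 1)) := by
      rw [homPow_succ φ (k + 1), MonoidHom.comap_ker]
    rw [e, card_comap_eq]
    have hle : (homPow φ (k + 1)).range ⊓ φ.ker ≤ φ.range ⊓ φ.ker := by
      apply inf_le_inf_right
      rintro _ ⟨a, rfl⟩
      exact ⟨homPow φ k a, rfl⟩
    have h3 : Nat.card ↥((homPow φ (k + 1)).range ⊓ φ.ker : Subgroup G) ≤ q :=
      (Subgroup.card_le_of_le hle).trans hq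
    calc Nat.card ↥(homPow φ (k + 1)).ker *
          Nat.card ↥((homPow φ (k + 1)).range ⊓ φ.ker : Subgroup G)
        ≤ (Nat.card ↥φ.ker * q ^ k) * q := Nat.mul_le_mul ih h3
      _ = Nat.card ↥φ.ker * q ^ (k + 1) := by rw [pow_succ, mul_assoc]

end general

variable {Ω : Type*} [Group Ω] {S : Subgroup Ω}

/-- elements whose commutator with `b` lies in the `S`-invariant subgroup `R` -/
def commSubN (S R : Subgroup Ω) (hR : ∀ s ∈ S, ∀ r ∈ R, s * r * s⁻¹ ∈ R) (b : Ω) :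
    Subgroup Ω where
  carrier := {a | a ∈ S ∧ a * b * a⁻¹ * b⁻¹ ∈ R}
  one_mem' := ⟨S.one_mem, by
    have e : (1 : Ω) * b * 1⁻¹ * b⁻¹ = 1 := by group
    rw [e]
    exact R.one_mem⟩
  mul_mem' := by
    rintro a a' ⟨ha, hab⟩ ⟨ha', hab'⟩
    refine ⟨S.mul_mem ha ha', ?_⟩
    have e : a * a' * b * (a * a')⁻¹ * b⁻¹ =
        a * (a' * b * a'⁻¹ * b⁻¹) * a⁻¹ * (a * b * a⁻¹ * b⁻¹) := by group
    rw [e]
    exact R.mul_mem (hR a ha _ hab') hab
  inv_mem' := by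
    rintro a ⟨ha, hab⟩
    refine ⟨S.inv_mem ha, ?_⟩
    have e : a⁻¹ * b * a⁻¹⁻¹ * b⁻¹ = a⁻¹ * (a * b * a⁻¹ * b⁻¹)⁻¹ * a⁻¹⁻¹ := by group
    rw [e]
    exact hR a⁻¹ (S.inv_mem ha) _ (R.inv_mem hab)

theorem cen_comm (S : Subgroup Ω) :
    ∀ z ∈ S ⊓ Subgroup.centralizer (S : Set Ω), ∀ s ∈ S, s * z = z * s := by
  intro z hz s hs
  exact Subgroup.mem_centralizer_iff.mp hz.2 s hs

theorem mem_cen (S : Subgroup Ω) {z : Ω} (hzS : z ∈ S) (hz : ∀ s ∈ S, s * z = z * s) :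
    z ∈ S ⊓ Subgroup.centralizer (S : Set Ω) :=
  ⟨hzS, Subgroup.mem_centralizer_iff.mpr hz⟩

section phi

variable [Finite S] {p : ℕ} [hp : Fact p.Prime] {A : Subgroup Ω}

theorem AbSetup.le_of_mem_of_le (h : AbSetup p S A) {x : Ω} (hxS : x ∈ S) (hxA : x ∉ A)
    {K : Subgroup Ω} (hxK : x ∈ K) (hAK : A ≤ K) : S ≤ K := by
  intro s hs
  obtain ⟨k, a, ha, rfl⟩ := h.decomp hxS hxA s hs
  exact K.mul_mem (K.zpow_mem hxK k) (hAK ha)

theorem AbSetup.relIndex_eq (h : AbSetup p S A) {H : Subgroup Ω} (hHS : H ≤ S) {x : Ω}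
    (hxH : x ∈ H) (hxA : x ∉ A) : A.relIndex H = p := by
  haveI : (A.subgroupOf S).Normal := ⟨fun a ha s => h.hnorm _ s.2 _ ha⟩
  have h1 : (A.subgroupOf S).relIndex (H.subgroupOf S) ∣ (A.subgroupOf S).index :=
    Subgroup.relIndex_dvd_index_of_normal _ _
  rw [Subgroup.relIndex_subgroupOf hHS] at h1
  have h2 : (A.subgroupOf S).index = p := h.hidx
  rw [h2] at h1
  have h3 : A.relIndex H ≠ 1 := fun h' => hxA (Subgroup.relIndex_eq_one.mp h' hxH)
  exact ((Nat.dvd_prime hp.out).mp h1).resolve_left h3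

theorem AbSetup.card_eq_mul (h : AbSetup p S A) {H : Subgroup Ω} (hHS : H ≤ S) {x : Ω}
    (hxH : x ∈ H) (hxA : x ∉ A) : Nat.card ↥H = Nat.card ↥(H ⊓ A : Subgroup Ω) * p := by
  have h1 := card_eq_card_mul_relIndex (inf_le_left : H ⊓ A ≤ H)
  rw [Subgroup.inf_relIndex_left, h.relIndex_eq hHS hxH hxA] at h1
  exact h1

/-- the commutator endomorphism `a ↦ [a, x]` of `A` -/
def commHom (h : AbSetup p S A) {x : Ω} (hxS : x ∈ S) : ↥A →* ↥A where
  toFun a := ⟨(a : Ω) * x * (a : Ω)⁻¹ * x⁻¹, by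
    have e : (a : Ω) * x * (a : Ω)⁻¹ * x⁻¹ = a * (x * (a : Ω)⁻¹ * x⁻¹) := by group
    rw [e]
    exact A.mul_mem a.2 (h.hnorm x hxS _ (A.inv_mem a.2))⟩
  map_one' := by
    apply Subtype.ext
    show (1 : Ω) * x * (1 : Ω)⁻¹ * x⁻¹ = 1
    group
  map_mul' a b := by
    apply Subtype.ext
    show ((a : Ω) * b) * x * ((a : Ω) * b)⁻¹ * x⁻¹ =
      ((a : Ω) * x * (a : Ω)⁻¹ * x⁻¹) * ((b : Ω) * x * (b : Ω)⁻¹ * x⁻¹)
    have hu : (b : Ω) * x * (b : Ω)⁻¹ * x⁻¹ ∈ A := by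
      have e : (b : Ω) * x * (b : Ω)⁻¹ * x⁻¹ = b * (x * (b : Ω)⁻¹ * x⁻¹) := by group
      rw [e]
      exact A.mul_mem b.2 (h.hnorm x hxS _ (A.inv_mem b.2))
    have hw : x * (a : Ω)⁻¹ * x⁻¹ ∈ A := h.hnorm x hxS _ (A.inv_mem a.2)
    have e1 : ((a : Ω) * b) * x * ((a : Ω) * b)⁻¹ * x⁻¹ =
        a * (((b : Ω) * x * (b : Ω)⁻¹ * x⁻¹) * (x * (a : Ω)⁻¹ * x⁻¹)) := by group
    have e2 : ((a : Ω) * x * (a : Ω)⁻¹ * x⁻¹) * ((b : Ω) * x * (b : Ω)⁻¹ * x⁻¹) =
        a * ((x * (a : Ω)⁻¹ * x⁻¹) * ((b : Ω) * x * (b : Ω)⁻¹ * x⁻¹)) := by group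
    rw [e1, e2, h.hab _ hu _ hw]

theorem commHom_val (h : AbSetup p S A) {x : Ω} (hxS : x ∈ S) (a : ↥A) :
    ((commHom h hxS a : ↥A) : Ω) = (a : Ω) * x * (a : Ω)⁻¹ * x⁻¹ := rfl

theorem commHom_ker (h : AbSetup p S A) {x : Ω} (hxS : x ∈ S) (hxA : x ∉ A) :
    (commHom h hxS).ker = (S ⊓ Subgroup.centralizer (S : Set Ω)).subgroupOf A := by
  ext a
  rw [MonoidHom.mem_ker, Subgroup.mem_subgroupOf]
  constructor
  · intro ha
    have h1 : (a : Ω) * x * (a : Ω)⁻¹ * x⁻¹ = 1 := congrArg Subtype.val ha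
    have h2 : (a : Ω) * x = x * a := by
      have e : (a : Ω) * x = ((a : Ω) * x * (a : Ω)⁻¹ * x⁻¹) * (x * a) := by group
      rw [e, h1, one_mul]
    exact mem_cen S (h.hAS a.2) (h.central_of_comm hxS hxA a.2 h2)
  · intro ha
    apply Subtype.ext
    show (a : Ω) * x * (a : Ω)⁻¹ * x⁻¹ = 1
    have h1 := cen_comm S _ ha x hxS
    rw [← h1]
    group

theorem mem_commRange (h : AbSetup p S A) {x : Ω} (hxS : x ∈ S) (r : Ω) :
    r ∈ (commHom h hxS).range.map A.subtype ↔ ∃ a ∈ A, a * x * a⁻¹ * x⁻¹ = r := by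
  constructor
  · rintro ⟨_, ⟨a, rfl⟩, rfl⟩
    exact ⟨a, a.2, rfl⟩
  · rintro ⟨a, ha, rfl⟩
    exact ⟨_, ⟨⟨a, ha⟩, rfl⟩, rfl⟩

theorem commRange_conj (h : AbSetup p S A) {x : Ω} (hxS : x ∈ S) (hxA : x ∉ A) :
    ∀ s ∈ S, ∀ r ∈ (commHom h hxS).range.map A.subtype,
      s * r * s⁻¹ ∈ (commHom h hxS).range.map A.subtype := by
  obtain ⟨R, hR⟩ : ∃ R, R = (commHom h hxS).range.map A.subtype := ⟨_, rfl⟩
  rw [← hR]
  have hRA : R ≤ A := hR ▸ Subgroup.map_subtype_le _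
  haveI : Finite R := finite_of_le (hRA.trans h.hAS)
  have hmem : ∀ r, r ∈ R ↔ ∃ a ∈ A, a * x * a⁻¹ * x⁻¹ = r := by
    intro r
    rw [hR]
    exact mem_commRange h hxS r
  have hxN : x ∈ Subgroup.normalizer (R : Set Ω) := by
    apply KN.mem_normalizer_of_forall_conj_mem
    intro r hr
    obtain ⟨c, hc, rfl⟩ := (hmem r).mp hr
    rw [hmem]
    refine ⟨x * c * x⁻¹, h.hnorm x hxS c hc, ?_⟩
    group
  have hAN : A ≤ Subgroup.normalizer (R : Set Ω) := by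
    intro a ha
    apply KN.mem_normalizer_of_forall_conj_mem
    intro r hr
    rw [h.hab a ha r (hRA hr), mul_inv_cancel_right]
    exact hr
  have hSN := h.le_of_mem_of_le hxS hxA hxN hAN
  intro s hs r hr
  exact (Subgroup.mem_normalizer_iff.mp (hSN hs) r).mp hr

theorem comm_mem_commRange (h : AbSetup p S A) {x : Ω} (hxS : x ∈ S) (hxA : x ∉ A) :
    ∀ s ∈ S, ∀ t ∈ S, s * t * s⁻¹ * t⁻¹ ∈ (commHom h hxS).range.map A.subtype := by
  obtain ⟨R, hR⟩ : ∃ R, R = (commHom h hxS).range.map A.subtype := ⟨_, rfl⟩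
  have hconj : ∀ s ∈ S, ∀ r ∈ R, s * r * s⁻¹ ∈ R := by
    rw [hR]
    exact commRange_conj h hxS hxA
  rw [← hR]
  have hmem : ∀ r, r ∈ R ↔ ∃ a ∈ A, a * x * a⁻¹ * x⁻¹ = r := by
    intro r
    rw [hR]
    exact mem_commRange h hxS r
  have one_mem : ∀ a b : Ω, a * b = b * a → a * b * a⁻¹ * b⁻¹ ∈ R := by
    intro a b hab
    have e : a * b * a⁻¹ * b⁻¹ = 1 := by
      rw [hab]
      group
    rw [e]
    exact R.one_mem
  have h1 : ∀ b ∈ A, S ≤ commSubN S R hconj b := by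
    intro b hb
    apply h.le_of_mem_of_le hxS hxA
    · exact ⟨hxS, comm_symm_mem R ((hmem _).mpr ⟨b, hb, rfl⟩)⟩
    · intro a ha
      exact ⟨h.hAS ha, one_mem a b (h.hab a ha b hb)⟩
  have h2 : S ≤ commSubN S R hconj x := by
    apply h.le_of_mem_of_le hxS hxA
    · exact ⟨hxS, one_mem x x rfl⟩
    · intro a ha
      exact ⟨h.hAS ha, (hmem _).mpr ⟨a, ha, rfl⟩⟩
  intro s hs t ht
  have h3 : S ≤ commSubN S R hconj s := by
    apply h.le_of_mem_of_le hxS hxA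
    · exact ⟨hxS, comm_symm_mem R (h2 hs).2⟩
    · intro a ha
      exact ⟨h.hAS ha, comm_symm_mem R (h1 a ha hs).2⟩
  exact comm_symm_mem R (h3 ht).2

theorem commutator_map_eq (h : AbSetup p S A) {x : Ω} (hxS : x ∈ S) (hxA : x ∉ A) :
    (commutator ↥S).map S.subtype = (commHom h hxS).range.map A.subtype := by
  apply le_antisymm
  · rw [Subgroup.map_le_iff_le_comap, commutator_def, Subgroup.commutator_le]
    intro s _ t _
    rw [Subgroup.mem_comap]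
    exact comm_mem_commRange h hxS hxA s s.2 t t.2
  · intro r hr
    obtain ⟨a, ha, rfl⟩ := (mem_commRange h hxS r).mp hr
    have hc : ⁅(⟨a, h.hAS ha⟩ : ↥S), ⟨x, hxS⟩⁆ ∈ commutator ↥S := by
      rw [commutator_def]
      exact Subgroup.commutator_mem_commutator (Subgroup.mem_top _) (Subgroup.mem_top _)
    exact ⟨_, hc, rfl⟩

theorem mem_Z₂_of_comm_mem (h : AbSetup p S A) {x : Ω} (hxS : x ∈ S) (hxA : x ∉ A) {a : Ω}
    (ha : a ∈ A) (hax : a * x * a⁻¹ * x⁻¹ ∈ S ⊓ Subgroup.centralizer (S : Set Ω)) :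
    a ∈ (Subgroup.upperCentralSeries ↥S 2).map S.subtype := by
  rw [mem_Z₂_iff]
  refine ⟨h.hAS ha, fun s hs => ?_⟩
  have hle : S ≤ commSub S _ (cen_comm S) a := by
    apply h.le_of_mem_of_le hxS hxA
    · exact ⟨hxS, comm_symm_mem _ hax⟩
    · intro b hb
      refine ⟨h.hAS hb, ?_⟩
      have e : b * a * b⁻¹ * a⁻¹ = 1 := by
        rw [h.hab b hb a ha]
        group
      rw [e]
      exact Subgroup.one_mem _
  exact comm_symm_mem _ (hle hs).2

theorem counting (h : AbSetup p S A) {x : Ω} (hxS : x ∈ S) (hxA : x ∉ A)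
    (hZ₂A : (Subgroup.upperCentralSeries ↥S 2).map S.subtype ≤ A)
    (hcard : Nat.card ↥((Subgroup.upperCentralSeries ↥S 2).map S.subtype) =
      p * Nat.card ↥(S ⊓ Subgroup.centralizer (S : Set Ω) : Subgroup Ω)) :
    Nat.card ↥((S ⊓ Subgroup.centralizer (S : Set Ω)) ⊓
        ((commutator ↥S).map S.subtype) : Subgroup Ω) = p ∧
    (((S ⊓ Subgroup.centralizer (S : Set Ω)) ⊔
        ((commutator ↥S).map S.subtype)).subgroupOf A).index = p ∧
    ((S ⊓ Subgroup.centralizer (S : Set Ω)).subgroupOf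
        ((Subgroup.upperCentralSeries ↥S 2).map S.subtype)).index = p ∧
    ∀ m : ℕ, ((S ⊓ Subgroup.centralizer (S : Set Ω)).subgroupOf S).index = p ^ m → 3 ≤ m →
      ¬ Subgroup.lowerCentralSeries S (m - 2) ≤ (S ⊓ Subgroup.centralizer (S : Set Ω)) := by
  obtain ⟨Z, hZ⟩ : ∃ Z, Z = S ⊓ Subgroup.centralizer (S : Set Ω) := ⟨_, rfl⟩
  obtain ⟨Z₂, hZ₂⟩ : ∃ Z₂, Z₂ = (Subgroup.upperCentralSeries ↥S 2).map S.subtype := ⟨_, rfl⟩
  obtain ⟨S', hS'⟩ : ∃ S', S' = (commutator ↥S).map S.subtype := ⟨_, rfl⟩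
  rw [← hZ, ← hZ₂] at hcard
  rw [← hZ₂] at hZ₂A
  rw [← hZ, ← hZ₂, ← hS']
  haveI hfinA : Finite A := finite_of_le h.hAS
  obtain ⟨φ, hφ⟩ : ∃ φ, φ = commHom h hxS := ⟨_, rfl⟩
  have hφval : ∀ y : ↥A, ((φ y : ↥A) : Ω) = (y : Ω) * x * (y : Ω)⁻¹ * x⁻¹ := by
    intro y
    rw [hφ]
    rfl
  have hker : φ.ker = Z.subgroupOf A := by
    rw [hφ, hZ]
    exact commHom_ker h hxS hxA
  have hS'R : S' = φ.range.map A.subtype := by
    rw [hS', hφ]
    exact commutator_map_eq h hxS hxA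
  have hS'A : S' ≤ A := hS'R ▸ Subgroup.map_subtype_le _
  have hrange : φ.range = S'.subgroupOf A := by
    rw [hS'R]
    exact (Subgroup.comap_map_eq_self_of_injective A.subtype_injective _).symm
  have hZc : ∀ z ∈ Z, ∀ s ∈ S, s * z = z * s := by
    rw [hZ]
    exact cen_comm S
  have hZA : Z ≤ A := by
    intro z hz
    have hz' := hz
    rw [hZ] at hz'
    exact h.center_le hz'.1 (hZc z hz)
  have hZS : Z ≤ S := hZ ▸ inf_le_left
  haveI hfinZ : Finite Z := finite_of_le hZS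
  have hZpos : 0 < Nat.card ↥Z := Nat.card_pos
  have hZZ₂ : Z ≤ Z₂ := by
    intro z hz
    rw [hZ₂, mem_Z₂_iff]
    refine ⟨hZS hz, fun s hs => ?_⟩
    have e : z * s * z⁻¹ * s⁻¹ = 1 := by
      have h1 := hZc z hz s hs
      rw [← h1]
      group
    rw [e]
    exact Subgroup.one_mem _
  have hcomap : Z₂.subgroupOf A = φ.ker.comap φ := by
    ext a
    rw [Subgroup.mem_subgroupOf, Subgroup.mem_comap, hker, Subgroup.mem_subgroupOf, hφval,
      hZ₂, hZ]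
    constructor
    · intro ha
      exact ((mem_Z₂_iff S _).mp ha).2 x hxS
    · intro ha
      exact mem_Z₂_of_comm_mem h hxS hxA a.2 ha
  have c1 : Nat.card ↥(Z₂.subgroupOf A) = Nat.card ↥Z₂ :=
    Nat.card_congr (Subgroup.subgroupOfEquivOfLe hZ₂A).toEquiv
  have c2 : Nat.card ↥φ.ker = Nat.card ↥Z := by
    rw [hker]
    exact Nat.card_congr (Subgroup.subgroupOfEquivOfLe hZA).toEquiv
  have c3 : Nat.card ↥(φ.range ⊓ φ.ker : Subgroup ↥A) = p := by
    have h1 := card_comap_eq φ φ.ker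
    rw [← hcomap, c1, hcard, c2, mul_comm p] at h1
    exact (Nat.eq_of_mul_eq_mul_left hZpos h1).symm
  have c3' : Nat.card ↥(φ.ker ⊓ φ.range : Subgroup ↥A) = p := by
    rw [inf_comm]
    exact c3
  -- (2)
  have r2 : Nat.card ↥(Z ⊓ S' : Subgroup Ω) = p := by
    have e : (Z ⊓ S').subgroupOf A = φ.ker ⊓ φ.range := by
      rw [hker, hrange]
      exact Subgroup.comap_inf _ _ _
    have e2 : Nat.card ↥((Z ⊓ S').subgroupOf A) = Nat.card ↥(Z ⊓ S' : Subgroup Ω) :=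
      Nat.card_congr (Subgroup.subgroupOfEquivOfLe (inf_le_left.trans hZA)).toEquiv
    rw [← e2, e, c3']
  -- (4)
  have r4 : (Z.subgroupOf Z₂).index = p := by
    show Z.relIndex Z₂ = p
    have h1 := card_eq_card_mul_relIndex hZZ₂
    rw [hcard, mul_comm p] at h1
    exact (Nat.eq_of_mul_eq_mul_left hZpos h1).symm
  -- (3)
  have r3 : ((Z ⊔ S').subgroupOf A).index = p := by
    rw [Subgroup.subgroupOf_sup hZA hS'A, ← hker, ← hrange]
    have e1 : φ.ker.relIndex (φ.ker ⊔ φ.range) = (φ.ker ⊓ φ.range).relIndex φ.range := by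
      rw [Subgroup.relIndex_sup_left, Subgroup.inf_relIndex_right]
    have e2 := card_eq_card_mul_relIndex (le_sup_left : φ.ker ≤ φ.ker ⊔ φ.range)
    have e3 := card_eq_card_mul_relIndex (inf_le_right : φ.ker ⊓ φ.range ≤ φ.range)
    have e4 : Nat.card ↥φ.ker * Nat.card ↥φ.range = Nat.card ↥A := by
      rw [← Subgroup.index_ker]
      exact Subgroup.card_mul_index _
    have e5 := Subgroup.card_mul_index (φ.ker ⊔ φ.range)
    rw [c3'] at e3
    rw [e1] at e2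
    have hpos : 0 < Nat.card ↥(φ.ker ⊔ φ.range : Subgroup ↥A) := Nat.card_pos
    have h6 : Nat.card ↥(φ.ker ⊔ φ.range : Subgroup ↥A) * (φ.ker ⊔ φ.range).index =
        Nat.card ↥(φ.ker ⊔ φ.range : Subgroup ↥A) * p := by
      rw [e5, ← e4, e3, e2]
      ring
    exact Nat.eq_of_mul_eq_mul_left hpos h6
  refine ⟨r2, r3, r4, ?_⟩
  -- (5)
  have hSA : Nat.card ↥S = Nat.card ↥A * p := by
    have h1 := card_eq_card_mul_relIndex h.hAS
    rw [h.hidx] at h1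
    exact h1
  have hlcs : ∀ k (a : ↥A), ((homPow φ k a : ↥A) : Ω) ∈ S.lowerCentralSeries k := by
    intro k
    induction k with
    | zero =>
      intro a
      exact h.hAS a.2
    | succ k ih =>
      intro a
      have hval : ((homPow φ (k + 1) a : ↥A) : Ω) = ⁅((homPow φ k a : ↥A) : Ω), x⁆ := by
        show ((φ (homPow φ k a) : ↥A) : Ω) = _
        rw [hφval]
        rfl
      rw [hval, Subgroup.lowerCentralSeries_succ]
      exact Subgroup.commutator_mem_commutator (ih a) hxS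
  intro m hm hm3 hle
  have hSZ : Nat.card ↥S = Nat.card ↥Z * p ^ m := by
    have h1 := card_eq_card_mul_relIndex hZS
    have hm' : Z.relIndex S = p ^ m := hm
    rw [hm'] at h1
    exact h1
  have htop : (homPow φ (m - 2 + 1)).ker = ⊤ := by
    rw [eq_top_iff]
    intro a _
    rw [MonoidHom.mem_ker, homPow_succ, MonoidHom.comp_apply, ← MonoidHom.mem_ker, hker,
      Subgroup.mem_subgroupOf]
    exact hle (hlcs (m - 2) a)
  have hle2 := card_ker_homPow_le φ p (le_of_eq c3) (m - 2)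
  rw [htop, Subgroup.card_top, c2] at hle2
  have hp1 : 1 < p := hp.out.one_lt
  have h7 : Nat.card ↥A * p ≤ Nat.card ↥Z * p ^ (m - 2) * p := Nat.mul_le_mul_right p hle2
  rw [← hSA, hSZ, mul_assoc, ← pow_succ] at h7
  have h8 : p ^ m ≤ p ^ (m - 2 + 1) := Nat.le_of_mul_le_mul_left h7 hZpos
  have h9 : m ≤ m - 2 + 1 := (Nat.pow_le_pow_iff_right hp1).mp h8
  omega

end phi

end Cfsg.Agent.Lib.Helper1.ET
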