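import Mathlib
import Cfsg.Agent.Lib.Helper1.ET5

set_option autoImplicit false
set_option linter.style.haveILetI false
set_option linter.unusedSectionVars false
set_option linter.unusedVariables false
set_option maxHeartbeats 1000000

/-! `p`-groups with an abelian subgroup of index `p`, part 4: consequences of an essential
subgroup different from `A` (Oliver). -/

namespace Cfsg.Agent.Lib.Helper1.ET

open Cfsg Cfsg.FusionSystem Cfsg.Agent.Lib.Helper9 Cfsg.Agent.Lib.Helper7 Cfsg.Agent.Lib.Helper1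
  Cfsg.Agent.Lib.Helper2.EssGen

open scoped commutatorElement

variable {Ω : Type*} [Group Ω] {S : Subgroup Ω}

section fus

variable [Finite S] {p : ℕ} [hp : Fact p.Prime] {A : Subgroup Ω}

theorem Z₂_card_of_essential (hS : IsPGroup p S) (F : FusionSystem S) (hF : F.IsSaturated p)
    (h : AbSetup p S A)
    (huniq : ∀ B : Subgroup Ω, B ≤ S → IsMulCommutative ↥B → (B.subgroupOf S).index = p → B = A)
    {P : Subgroup Ω} (hP : F.IsEssential p P) {x : Ω} (hxP : x ∈ P) (hxA : x ∉ A) :
    (Subgroup.upperCentralSeries ↥S 2).map S.subtype ≤ A ∧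
      Nat.card ↥((Subgroup.upperCentralSeries ↥S 2).map S.subtype) =
        p * Nat.card ↥(S ⊓ Subgroup.centralizer (S : Set Ω) : Subgroup Ω) := by
  have hPc := hP.1
  have hPS : P ≤ S := hPc.1
  haveI hfinP : Finite P := finite_of_le hPS
  have hCS : centralizerIn S P ≤ P := hPc.2 P (isConj_refl F hPS)
  obtain ⟨Z, hZ⟩ : ∃ Z, Z = S ⊓ Subgroup.centralizer (S : Set Ω) := ⟨_, rfl⟩
  obtain ⟨Z₂, hZ₂⟩ : ∃ Z₂, Z₂ = (Subgroup.upperCentralSeries ↥S 2).map S.subtype := ⟨_, rfl⟩
  rw [← hZ, ← hZ₂]
  have hZS : Z ≤ S := hZ ▸ inf_le_left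
  have hZc : ∀ z ∈ Z, ∀ s ∈ S, s * z = z * s := by
    rw [hZ]
    exact cen_comm S
  have hZmem : ∀ z ∈ S, (∀ s ∈ S, s * z = z * s) → z ∈ Z := by
    intro z hzS hz
    rw [hZ]
    exact mem_cen S hzS hz
  have hZP : Z ≤ P := by
    intro z hz
    apply hCS
    refine ⟨hZS hz, ?_⟩
    show z ∈ Subgroup.centralizer (P : Set Ω)
    rw [Subgroup.mem_centralizer_iff]
    intro y hy
    exact hZc z hz y (hPS hy)
  have hZA : Z ≤ A := by
    intro z hz
    exact h.center_le (hZS hz) (hZc z hz)
  have hxS : x ∈ S := hPS hxP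
  have hZ₂mem : ∀ y, y ∈ Z₂ ↔ y ∈ S ∧ ∀ s ∈ S, y * s * y⁻¹ * s⁻¹ ∈ Z := by
    intro y
    rw [hZ₂, hZ]
    exact mem_Z₂_iff S y
  have hidxN := index_normalizer h hS F hF hP hxP hxA
  by_cases hab : ∀ a ∈ P, ∀ b ∈ P, a * b = b * a
  · -- abelian case
    have hPA_Z : P ⊓ A = Z := by
      apply le_antisymm
      · intro u hu
        exact hZmem u (hPS hu.1) (h.central_of_comm hxS hxA hu.2 (hab u hu.1 x hxP))
      · exact le_inf hZP hZA
    have hZ₂A : Z₂ ≤ A := by
      intro y hy
      by_contra hyA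
      obtain ⟨hyS, hyc⟩ := (hZ₂mem y).mp hy
      have hall : ∀ a ∈ A, S ≤ commSub S Z hZc a := by
        intro a ha
        apply h.le_of_mem_of_le hyS hyA
        · exact ⟨hyS, hyc a (h.hAS ha)⟩
        · intro b hb
          refine ⟨h.hAS hb, ?_⟩
          have e : b * a * b⁻¹ * a⁻¹ = 1 := by
            rw [h.hab b hb a ha]
            group
          rw [e]
          exact Z.one_mem
      have hAN : A ≤ Subgroup.normalizer (P : Set Ω) := by
        intro a ha
        apply KN.mem_normalizer_of_forall_conj_mem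
        intro w hw
        have h1 : a * w * a⁻¹ * w⁻¹ ∈ Z := comm_symm_mem Z (hall a ha (hPS hw)).2
        have e : a * w * a⁻¹ = (a * w * a⁻¹ * w⁻¹) * w := by group
        rw [e]
        exact P.mul_mem (hZP h1) hw
      have hSN : S ≤ Subgroup.normalizer (P : Set Ω) :=
        h.le_of_mem_of_le hxS hxA (Subgroup.le_normalizer hxP) hAN
      rw [inf_eq_left.mpr hSN] at hidxN
      have hPeq := huniq P hPS ⟨⟨fun a b => Subtype.ext (hab a a.2 b b.2)⟩⟩ hidxN
      exact hxA (hPeq ▸ hxP)
    refine ⟨hZ₂A, ?_⟩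
    obtain ⟨N, hN⟩ : ∃ N, N = S ⊓ Subgroup.normalizer (P : Set Ω) := ⟨_, rfl⟩
    rw [← hN] at hidxN
    have hNS : N ≤ S := hN ▸ inf_le_left
    have hPN : P ≤ N := by
      rw [hN]
      exact le_inf hPS Subgroup.le_normalizer
    have hNA : N ⊓ A = Z₂ := by
      apply le_antisymm
      · intro a ha
        have haN : a ∈ Subgroup.normalizer (P : Set Ω) := by
          have h0 := ha.1
          rw [hN] at h0
          exact h0.2
        have h1 : a * x * a⁻¹ ∈ P := (Subgroup.mem_normalizer_iff.mp haN x).mp hxP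
        have h2 : a * x * a⁻¹ * x⁻¹ ∈ P ⊓ A := by
          refine ⟨P.mul_mem h1 (P.inv_mem hxP), ?_⟩
          have e : a * x * a⁻¹ * x⁻¹ = a * (x * a⁻¹ * x⁻¹) := by group
          rw [e]
          exact A.mul_mem ha.2 (h.hnorm x hxS _ (A.inv_mem ha.2))
        rw [hPA_Z, hZ] at h2
        rw [hZ₂]
        exact mem_Z₂_of_comm_mem h hxS hxA ha.2 h2
      · intro a ha
        obtain ⟨haS, hac⟩ := (hZ₂mem a).mp ha
        refine ⟨?_, hZ₂A ha⟩
        rw [hN]
        refine ⟨haS, ?_⟩
        apply KN.mem_normalizer_of_forall_conj_mem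
        intro w hw
        have e : a * w * a⁻¹ = (a * w * a⁻¹ * w⁻¹) * w := by group
        rw [e]
        exact P.mul_mem (hZP (hac w (hPS hw))) hw
    have cN := h.card_eq_mul hNS (hPN hxP) hxA
    have cP := h.card_eq_mul hPS hxP hxA
    rw [hNA] at cN
    rw [hPA_Z] at cP
    have cNP := card_eq_card_mul_relIndex hPN
    have hrel : P.relIndex N = p := hidxN
    rw [hrel, cN, cP] at cNP
    have h5 : Nat.card ↥Z₂ = Nat.card ↥Z * p := Nat.eq_of_mul_eq_mul_right hp.out.pos cNP
    rw [h5, mul_comm]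
  · -- nonabelian case
    rcases structure_of_essential h hS F hF hP hxP hxA with h1 | ⟨hZ₂A, h2, h3, -⟩
    · exfalso
      apply hab
      have hcx : ∀ w ∈ P, w * x = x * w := by
        intro w hw
        rw [h1] at hw
        have hle : (S ⊓ Subgroup.centralizer (S : Set Ω)) ⊔ Subgroup.zpowers x ≤
            Subgroup.centralizer ({x} : Set Ω) := by
          apply sup_le
          · intro z hz
            rw [Subgroup.mem_centralizer_iff]
            intro y hy
            rw [Set.mem_singleton_iff.mp hy]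
            exact cen_comm S z hz x hxS
          · rw [Subgroup.zpowers_le, Subgroup.mem_centralizer_iff]
            intro y hy
            rw [Set.mem_singleton_iff.mp hy]
        have h4 := Subgroup.mem_centralizer_iff.mp (hle hw) x (Set.mem_singleton x)
        exact h4.symm
      intro a ha b hb
      obtain ⟨k, u, hu, rfl⟩ := P_decomp h hPS hxP hxA a ha
      obtain ⟨l, u', hu', rfl⟩ := P_decomp h hPS hxP hxA b hb
      have hux : Commute u x := hcx u hu.1
      have hu'x : Commute u' x := hcx u' hu'.1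
      have huu' : Commute u u' := h.hab u hu.2 u' hu'.2
      have h1' : Commute (x ^ k) (x ^ l * u') :=
        Commute.mul_right ((Commute.refl x).zpow_zpow k l) ((hu'x.symm).zpow_left k)
      have h2' : Commute u (x ^ l * u') := Commute.mul_right (hux.zpow_right l) huu'
      exact (Commute.mul_left h1' h2').eq
    · rw [← hZ₂] at hZ₂A h3
      refine ⟨hZ₂A, ?_⟩
      have hZ₂P : Z₂ ≤ P := by
        rw [← h3]
        exact inf_le_left
      have hN1 : ∀ y ∈ P, (∀ w ∈ P, w * y = y * w) → y ∈ Z := by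
        intro y hy hyc
        by_cases hyA : y ∈ A
        · exact hZmem y (hPS hy) (h.central_of_comm hxS hxA hyA (hyc x hxP).symm)
        · exfalso
          apply hab
          intro a ha b hb
          obtain ⟨k, u, hu, rfl⟩ := P_decomp h hPS hy hyA a ha
          obtain ⟨l, u', hu', rfl⟩ := P_decomp h hPS hy hyA b hb
          have huy : Commute u y := hyc u hu.1
          have hu'y : Commute u' y := hyc u' hu'.1
          have huu' : Commute u u' := h.hab u hu.2 u' hu'.2
          have h1 : Commute (y ^ k) (y ^ l * u') :=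
            Commute.mul_right ((Commute.refl y).zpow_zpow k l) ((hu'y.symm).zpow_left k)
          have h2 : Commute u (y ^ l * u') := Commute.mul_right (huy.zpow_right l) huu'
          exact (Commute.mul_left h1 h2).eq
      obtain ⟨α, hα, y₀, hy₀A, hy₀⟩ := exists_moving h hS F hF hP hxP hxA
      obtain ⟨v, hv⟩ : ∃ v : Ω, v = ((α y₀ : ↥P) : Ω) := ⟨_, rfl⟩
      have hvP : v ∈ P := hv ▸ (α y₀).2
      have hvA : v ∉ A := hv ▸ hy₀
      have hD : ∀ u : ↥P, (u : Ω) ∈ A → ((α u : ↥P) : Ω) ∈ A → ((α u : ↥P) : Ω) ∈ Z := by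
        intro u hu hαu
        apply hN1 _ (α u).2
        intro w hw
        obtain ⟨k, u', hu', rfl⟩ := P_decomp h hPS hvP hvA w hw
        have h1 : Commute ((α u : ↥P) : Ω) u' := h.hab _ hαu u' hu'.2
        have h2 : Commute ((α u : ↥P) : Ω) v := by
          rw [hv]
          have h3 : u * y₀ = y₀ * u := Subtype.ext (h.hab u hu y₀ hy₀A)
          have h4 : α u * α y₀ = α y₀ * α u := by rw [← map_mul, ← map_mul, h3]
          exact congrArg Subtype.val h4
        exact ((h2.zpow_right k).mul_right h1).eq.symm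
      obtain ⟨P₀', hP₀'⟩ : ∃ P₀' : Subgroup ↥P, P₀' = A.subgroupOf P := ⟨_, rfl⟩
      haveI hP₀n : P₀'.Normal := by
        rw [hP₀']
        constructor
        intro u hu w
        exact h.hnorm _ (hPS w.2) _ hu
      obtain ⟨P₁', hP₁'⟩ : ∃ P₁' : Subgroup ↥P, P₁' = P₀'.map α.toMonoidHom := ⟨_, rfl⟩
      have hidx₀ : P₀'.index = p := by
        rw [hP₀']
        exact h.relIndex_eq hPS hxP hxA
      have hrel : P₀'.relIndex P₁' = p := by
        have h1 : P₀'.relIndex P₁' ∣ P₀'.index := Subgroup.relIndex_dvd_index_of_normal _ _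
        rw [hidx₀] at h1
        have h4 : P₀'.relIndex P₁' ≠ 1 := by
          intro h'
          have hle := Subgroup.relIndex_eq_one.mp h'
          have h5 : α y₀ ∈ P₁' := by
            rw [hP₁']
            refine ⟨y₀, ?_, rfl⟩
            rw [hP₀']
            exact hy₀A
          have h6 := hle h5
          rw [hP₀'] at h6
          exact hy₀ h6
        exact ((Nat.dvd_prime hp.out).mp h1).resolve_left h4
      have hinf : P₀' ⊓ P₁' = Z.subgroupOf P := by
        apply le_antisymm
        · intro u hu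
          obtain ⟨hu0, hu1⟩ := hu
          rw [hP₁'] at hu1
          obtain ⟨w, hw, rfl⟩ := hu1
          rw [hP₀'] at hw hu0
          exact hD w hw hu0
        · intro z hz
          have hzZ : (z : Ω) ∈ Z := hz
          refine ⟨?_, ?_⟩
          · rw [hP₀']
            exact hZA hzZ
          · rw [hP₁']
            refine ⟨α⁻¹ z, ?_, MulAut.apply_inv_self _ α z⟩
            rw [hP₀']
            show ((α⁻¹ z : ↥P) : Ω) ∈ A
            apply hZA
            apply hN1 _ (α⁻¹ z).2
            intro w hw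
            have h4 : (α ⟨w, hw⟩) * z = z * (α ⟨w, hw⟩) :=
              Subtype.ext (hZc z hzZ _ (hPS (α ⟨w, hw⟩).2))
            have h5 : α⁻¹ (α ⟨w, hw⟩ * z) = α⁻¹ (z * α ⟨w, hw⟩) := by rw [h4]
            rw [map_mul, map_mul, MulAut.inv_apply_self] at h5
            exact congrArg Subtype.val h5
      have c0 : Nat.card ↥P₀' = Nat.card ↥Z₂ := by
        rw [hP₀', ← Subgroup.inf_subgroupOf_right, inf_comm, h3]
        exact Nat.card_congr (Subgroup.subgroupOfEquivOfLe hZ₂P).toEquiv
      have c1 : Nat.card ↥P₁' = Nat.card ↥P₀' := by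
        rw [hP₁']
        exact Subgroup.card_map_of_injective α.injective
      have c2 := card_eq_card_mul_relIndex (inf_le_right : P₀' ⊓ P₁' ≤ P₁')
      rw [Subgroup.inf_relIndex_right, hrel, hinf, c1, c0] at c2
      have c3 : Nat.card ↥(Z.subgroupOf P) = Nat.card ↥Z :=
        Nat.card_congr (Subgroup.subgroupOfEquivOfLe hZP).toEquiv
      rw [c3] at c2
      rw [c2, mul_comm]

/-- S5257 -/
theorem essential_ne_abelian_index_p (hS : IsPGroup p S) (F : FusionSystem S)
    (hF : F.IsSaturated p) (hna : ¬ IsMulCommutative ↥S) (A : Subgroup Ω)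
    (hA : A ≤ S ∧ IsMulCommutative ↥A ∧ (A.subgroupOf S).index = p)
    (huniq : ∀ B : Subgroup Ω, B ≤ S → IsMulCommutative ↥B → (B.subgroupOf S).index = p → B = A)
    (P : Subgroup Ω) (hP : F.IsEssential p P) (hPA : P ≠ A) :
    ((Subgroup.upperCentralSeries ↥S 2).map S.subtype) ≤ A ∧
    Nat.card ↥((S ⊓ Subgroup.centralizer (S : Set Ω)) ⊓
        ((commutator ↥S).map S.subtype) : Subgroup Ω) = p ∧
    (((S ⊓ Subgroup.centralizer (S : Set Ω)) ⊔
        ((commutator ↥S).map S.subtype)).subgroupOf A).index = p ∧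
    ((S ⊓ Subgroup.centralizer (S : Set Ω)).subgroupOf
        ((Subgroup.upperCentralSeries ↥S 2).map S.subtype)).index = p ∧
    ∀ m : ℕ, ((S ⊓ Subgroup.centralizer (S : Set Ω)).subgroupOf S).index = p ^ m → 3 ≤ m →
      ¬ Subgroup.lowerCentralSeries S (m - 2) ≤ (S ⊓ Subgroup.centralizer (S : Set Ω)) := by
  have h := abSetup_of hS hna A hA
  have hPS : P ≤ S := hP.1.1
  have hCS : centralizerIn S P ≤ P := hP.1.2 P (isConj_refl F hPS)
  have hnle : ¬ P ≤ A := by
    intro hle
    apply hPA
    apply le_antisymm hle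
    intro a ha
    apply hCS
    refine ⟨h.hAS ha, ?_⟩
    show a ∈ Subgroup.centralizer (P : Set Ω)
    rw [Subgroup.mem_centralizer_iff]
    intro y hy
    exact h.hab y (hle hy) a ha
  obtain ⟨x, hxP, hxA⟩ := SetLike.not_le_iff_exists.mp hnle
  obtain ⟨hZ₂A, hcard⟩ := Z₂_card_of_essential hS F hF h huniq hP hxP hxA
  obtain ⟨r2, r3, r4, r5⟩ := counting h (hPS hxP) hxA hZ₂A hcard
  exact ⟨hZ₂A, r2, r3, r4, r5⟩

end fus

end Cfsg.Agent.Lib.Helper1.ET
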