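import Mathlib
import Cfsg.Agent.Lib.Helper1.ET6

set_option autoImplicit false
set_option linter.style.haveILetI false
set_option linter.unusedSectionVars false
set_option linter.unusedVariables false
set_option maxHeartbeats 1000000

/-! An `SL₂`-type computation: two conjugate "transvections" `t`, `t₁` of an abelian `p`-group
generate an element inverting `[t, V]` and centralizing `C_V(t) ∩ C_V(t₁)`. -/

namespace Cfsg.Agent.Lib.Helper1.ET

open Cfsg Cfsg.FusionSystem Cfsg.Agent.Lib.Helper9 Cfsg.Agent.Lib.Helper7 Cfsg.Agent.Lib.Helper1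

section ring

theorem one_add_pow_of_sq_zero {R : Type*} [Ring R] (x : R) (hx : x * x = 0) (j : ℕ) :
    (1 + x) ^ j = 1 + j • x := by
  induction j with
  | zero => simp
  | succ j ih =>
    rw [pow_succ, ih]
    simp only [add_mul, mul_add, one_mul, mul_one, smul_mul_assoc, hx, smul_zero, add_zero,
      succ_nsmul]
    abel

theorem word_identities {R : Type*} [Ring R] (ε η : R) (e2 : ε * ε = 0) (n2 : η * η = 0)
    (ene : ε * η * ε = -ε) (nen : η * ε * η = -η) :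
    ((1 + ε) * (1 + η) * (1 + ε)) ^ 2 = 1 + (ε * η + ε * η) + (η * ε + η * ε) ∧
    ((1 + ε) * (1 + η) * (1 + ε)) ^ 2 * (1 + ε) =
      (1 + ε) * ((1 + ε) * (1 + η) * (1 + ε)) ^ 2 := by
  have hw : (1 + ε) * (1 + η) * (1 + ε) = 1 + ε + η + ε * η + η * ε := by
    have h1 : (1 + ε) * (1 + η) * (1 + ε) =
        1 + ε + η + ε * η + η * ε + (ε + ε * ε + ε * η * ε) := by noncomm_ring
    rw [h1, e2, ene]
    abel
  have hδ : (ε + η + ε * η + η * ε) * (ε + η + ε * η + η * ε) = -(ε + ε) - (η + η) := by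
    have h1 : (ε + η + ε * η + η * ε) * (ε + η + ε * η + η * ε) =
        ε * ε + ε * η + (ε * ε) * η + ε * η * ε + η * ε + η * η + η * ε * η + (η * η) * ε
        + ε * η * ε + ε * (η * η) + (ε * η * ε) * η + ε * (η * η) * ε + η * (ε * ε) + η * ε * η
        + η * (ε * ε) * η + (η * ε * η) * ε := by noncomm_ring
    rw [h1, e2, n2, ene, nen]
    noncomm_ring
  have hh : ((1 + ε) * (1 + η) * (1 + ε)) ^ 2 = 1 + (ε * η + ε * η) + (η * ε + η * ε) := by
    rw [hw, pow_two]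
    have h1 : (1 + ε + η + ε * η + η * ε) * (1 + ε + η + ε * η + η * ε) =
        1 + (ε + η + ε * η + η * ε) + (ε + η + ε * η + η * ε) +
          (ε + η + ε * η + η * ε) * (ε + η + ε * η + η * ε) := by noncomm_ring
    rw [h1, hδ]
    noncomm_ring
  refine ⟨hh, ?_⟩
  rw [hh]
  have h1 : (1 + (ε * η + ε * η) + (η * ε + η * ε)) * (1 + ε) =
      1 + (ε * η + ε * η) + (η * ε + η * ε) + ε + (ε * η * ε + ε * η * ε) +
        (η * (ε * ε) + η * (ε * ε)) := by noncomm_ring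
  have h2 : (1 + ε) * (1 + (ε * η + ε * η) + (η * ε + η * ε)) =
      1 + (ε * η + ε * η) + (η * ε + η * ε) + ε + ((ε * ε) * η + (ε * ε) * η) +
        (ε * η * ε + ε * η * ε) := by noncomm_ring
  rw [h1, h2, e2]
  noncomm_ring

end ring

theorem eq_zero_of_coprime_nsmul {M : Type*} [AddCommGroup M] {x : M} {m n : ℕ}
    (h : m.Coprime n) (hm : m • x = 0) (hn : n • x = 0) : x = 0 := by
  have h1 := addOrderOf_dvd_of_nsmul_eq_zero hm
  have h2 := addOrderOf_dvd_of_nsmul_eq_zero hn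
  have h3 := Nat.dvd_gcd h1 h2
  rw [h.gcd_eq_one] at h3
  exact AddMonoid.addOrderOf_eq_one_iff.mp (Nat.dvd_one.mp h3)

theorem exists_inverting_word {M : Type*} [AddCommGroup M] (p : ℕ) [hp : Fact p.Prime]
    (hp2 : p ≠ 2) (τ γ γ' : AddMonoid.End M) (hγ : γ * γ' = 1) (hγ' : γ' * γ = 1)
    (L : AddSubgroup M) (hL : Nat.card L = p)
    (H1 : ∀ v, τ v - v ∈ L) (H2 : ∀ u ∈ L, τ u = u)
    (H4 : ∃ u ∈ L, τ (γ u) ≠ γ u) (H5 : ∃ u ∈ L, τ (γ' u) ≠ γ' u) :
    ∃ j : ℕ, ∃ h : AddMonoid.End M, h = (τ * (γ * τ * γ') ^ j * τ) ^ 2 ∧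
      h * τ = τ * h ∧ (∀ v, τ v = v → h v - v ∈ L) ∧ (∀ u ∈ L, h u = -u) ∧
      (∀ v, τ v = v → (h v = v ↔ γ (τ (γ' v)) = v)) := by
  obtain ⟨ε, hε⟩ : ∃ ε : AddMonoid.End M, ε = τ - 1 := ⟨_, rfl⟩
  have hτ : τ = 1 + ε := by
    rw [hε]
    abel
  have hεv : ∀ v, ε v = τ v - v := by
    intro v
    rw [hε]
    rfl
  have hεL : ∀ v, ε v ∈ L := fun v => by
    rw [hεv]
    exact H1 v
  have hε0 : ∀ u ∈ L, ε u = 0 := by
    intro u hu
    rw [hεv, H2 u hu, sub_self]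
  have hpL : ∀ u ∈ L, p • u = 0 := by
    intro u hu
    have h1 : Nat.card L • (⟨u, hu⟩ : L) = 0 := card_nsmul_eq_zero'
    rw [hL] at h1
    exact congrArg Subtype.val h1
  have hpLz : ∀ u ∈ L, (p : ℤ) • u = 0 := by
    intro u hu
    rw [natCast_zsmul]
    exact hpL u hu
  haveI : IsAddCyclic L := isAddCyclic_of_prime_card hL
  obtain ⟨a, ha⟩ := AddMonoidHom.map_addCyclic
    ((AddMonoidHom.comp (ε * γ) L.subtype).codRestrict L (fun u => hεL _))
  obtain ⟨b, hb⟩ := AddMonoidHom.map_addCyclic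
    ((AddMonoidHom.comp (ε * γ') L.subtype).codRestrict L (fun u => hεL _))
  have ha' : ∀ u ∈ L, ε (γ u) = a • u := by
    intro u hu
    exact congrArg Subtype.val (ha ⟨u, hu⟩)
  have hb' : ∀ u ∈ L, ε (γ' u) = b • u := by
    intro u hu
    exact congrArg Subtype.val (hb ⟨u, hu⟩)
  have hpa : ¬ (p : ℤ) ∣ a := by
    rintro ⟨m, rfl⟩
    obtain ⟨u, hu, hne⟩ := H4
    apply hne
    have h1 : ε (γ u) = 0 := by
      rw [ha' u hu, mul_smul]
      exact hpLz _ (L.zsmul_mem hu m)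
    have h2 := hεv (γ u)
    rw [h1] at h2
    exact sub_eq_zero.mp h2.symm
  have hpb : ¬ (p : ℤ) ∣ b := by
    rintro ⟨m, rfl⟩
    obtain ⟨u, hu, hne⟩ := H5
    apply hne
    have h1 : ε (γ' u) = 0 := by
      rw [hb' u hu, mul_smul]
      exact hpLz _ (L.zsmul_mem hu m)
    have h2 := hεv (γ' u)
    rw [h1] at h2
    exact sub_eq_zero.mp h2.symm
  obtain ⟨c, hc⟩ : ∃ c : ℤ, c = a * b := ⟨_, rfl⟩
  have hpc : ¬ (p : ℤ) ∣ c := by
    rw [hc]
    intro h
    rcases (Nat.prime_iff_prime_int.mp hp.out).dvd_or_dvd h with h | h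
    · exact hpa h
    · exact hpb h
  obtain ⟨j, m, hjm⟩ : ∃ j : ℕ, ∃ m : ℤ, c * j = m * p - 1 := by
    have hc0 : ((c : ℤ) : ZMod p) ≠ 0 := by
      rw [Ne, ZMod.intCast_zmod_eq_zero_iff_dvd]
      exact hpc
    refine ⟨(-((c : ZMod p))⁻¹).val, ?_⟩
    have h1 : (((c * ((-((c : ZMod p))⁻¹).val : ℕ) + 1 : ℤ)) : ZMod p) = 0 := by
      push_cast
      rw [ZMod.natCast_zmod_val, mul_neg, mul_inv_cancel₀ hc0, neg_add_cancel]
    rw [ZMod.intCast_zmod_eq_zero_iff_dvd] at h1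
    obtain ⟨m, hm⟩ := h1
    exact ⟨m, by linarith⟩
  have hpj : (j : ℕ).Coprime p := by
    rw [Nat.coprime_comm, Nat.Prime.coprime_iff_not_dvd hp.out]
    intro hdvd
    have h1 : (p : ℤ) ∣ c * j := Dvd.dvd.mul_left (Int.natCast_dvd_natCast.mpr hdvd) c
    rw [hjm] at h1
    have h2 : (p : ℤ) ∣ 1 := by
      have h3 : (p : ℤ) ∣ m * p := Dvd.intro_left m rfl
      have h4 := dvd_sub h3 h1
      rwa [sub_sub_cancel] at h4
    have h5 := Int.natCast_dvd_natCast.mp (by simpa using h2 : ((p : ℕ) : ℤ) ∣ ((1 : ℕ) : ℤ))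
    exact hp.out.one_lt.ne' (Nat.dvd_one.mp h5)
  obtain ⟨ε₁, hε₁⟩ : ∃ ε₁ : AddMonoid.End M, ε₁ = γ * ε * γ' := ⟨_, rfl⟩
  have hε₁v : ∀ v, ε₁ v = γ (ε (γ' v)) := by
    intro v
    rw [hε₁]
    rfl
  have hτ₁ : γ * τ * γ' = 1 + ε₁ := by
    rw [hτ, hε₁, mul_add, add_mul, mul_one, hγ]
  have R1 : ε * ε = 0 := by
    ext v
    show ε (ε v) = 0
    exact hε0 _ (hεL v)
  have R2 : ε₁ * ε₁ = 0 := by
    calc ε₁ * ε₁ = γ * ε * (γ' * γ) * ε * γ' := by
          rw [hε₁]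
          noncomm_ring
      _ = 0 := by rw [hγ', mul_one, mul_assoc γ ε ε, R1, mul_zero, zero_mul]
  have R3 : ε * ε₁ * ε = c • ε := by
    ext v
    show ε (ε₁ (ε v)) = c • ε v
    rw [hε₁v, hb' _ (hεL v), map_zsmul, map_zsmul, ha' _ (hεL v), smul_smul, hc, mul_comm]
  have R4 : ε₁ * ε * ε₁ = c • ε₁ := by
    ext v
    show ε₁ (ε (ε₁ v)) = c • ε₁ v
    rw [hε₁v, hε₁v]
    have e1 : ε (γ (ε (γ' v))) = a • ε (γ' v) := ha' _ (hεL _)
    have e2 : ε (γ' (ε (γ' v))) = b • ε (γ' v) := hb' _ (hεL _)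
    calc γ (ε (γ' (ε (γ (ε (γ' v)))))) = γ (ε (γ' (a • ε (γ' v)))) := by rw [e1]
      _ = γ (a • (b • ε (γ' v))) := by rw [map_zsmul, map_zsmul, e2]
      _ = c • γ (ε (γ' v)) := by rw [map_zsmul, map_zsmul, smul_smul, hc]
  have hpε : (p : ℤ) • ε = 0 := by
    ext v
    show (p : ℤ) • ε v = 0
    exact hpLz _ (hεL v)
  have hpε₁ : (p : ℤ) • ε₁ = 0 := by
    rw [hε₁, ← smul_mul_assoc, ← mul_smul_comm, hpε, mul_zero, zero_mul]
  have hcj : ∀ x : AddMonoid.End M, (p : ℤ) • x = 0 → ((j : ℤ) * c) • x = -x := by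
    intro x hx
    rw [mul_comm (j : ℤ) c, hjm, sub_smul, mul_smul, hx]
    simp
  obtain ⟨η, hη⟩ : ∃ η : AddMonoid.End M, η = (j : ℤ) • ε₁ := ⟨_, rfl⟩
  have hs : (γ * τ * γ') ^ j = 1 + η := by
    rw [hτ₁, one_add_pow_of_sq_zero ε₁ R2 j, hη, natCast_zsmul]
  have n2 : η * η = 0 := by
    rw [hη, smul_mul_assoc, mul_smul_comm, R2]
    simp
  have ene : ε * η * ε = -ε := by
    rw [hη, mul_smul_comm, smul_mul_assoc, R3, smul_smul]
    exact hcj ε hpε
  have nen : η * ε * η = -η := by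
    calc η * ε * η = (j : ℤ) • ((j : ℤ) • (ε₁ * ε * ε₁)) := by
          rw [hη]
          simp only [smul_mul_assoc, mul_smul_comm]
      _ = (j : ℤ) • (-ε₁) := by rw [R4, smul_smul (j : ℤ) c ε₁, hcj ε₁ hpε₁]
      _ = -η := by
          rw [hη]
          simp
  obtain ⟨hh, hcomm⟩ := word_identities ε η R1 n2 ene nen
  have hform : (τ * (γ * τ * γ') ^ j * τ) ^ 2 =
      1 + (ε * η + ε * η) + (η * ε + η * ε) := by
    rw [hs, hτ]
    exact hh
  have hηv : ∀ v, η v = (j : ℤ) • ε₁ v := by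
    intro v
    rw [hη]
    rfl
  have hhv : ∀ v, ((τ * (γ * τ * γ') ^ j * τ) ^ 2) v =
      v + (ε (η v) + ε (η v)) + (η (ε v) + η (ε v)) := by
    intro v
    rw [hform]
    rfl
  have hodd : (2 : ℕ).Coprime p := by
    rw [Nat.coprime_comm, Nat.Prime.coprime_iff_not_dvd hp.out]
    intro h2
    exact hp2 ((Nat.prime_dvd_prime_iff_eq hp.out Nat.prime_two).mp h2)
  refine ⟨j, _, rfl, ?_, ?_, ?_, ?_⟩
  · rw [hs, hτ]
    exact hcomm
  · intro v hv
    have hv0 : ε v = 0 := by rw [hεv, hv, sub_self]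
    rw [hhv, hv0, map_zero, add_zero, add_zero, add_sub_cancel_left]
    exact L.add_mem (hεL _) (hεL _)
  · intro u hu
    have hu0 : ε u = 0 := hε0 u hu
    have h1 : ε (η u) = -u := by
      rw [hηv, hε₁v, hb' u hu, map_zsmul, map_zsmul, map_zsmul, ha' u hu, smul_smul b a u,
        mul_comm b a, ← hc, smul_smul]
      rw [mul_comm (j : ℤ) c, hjm, sub_smul, mul_smul, hpLz u hu]
      simp
    rw [hhv, hu0, map_zero, add_zero, add_zero, h1]
    abel
  · intro v hv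
    have hv0 : ε v = 0 := by rw [hεv, hv, sub_self]
    have hτ₁v : γ (τ (γ' v)) = v + ε₁ v := by
      have h1 : (γ * τ * γ') v = (1 + ε₁) v := by rw [hτ₁]
      exact h1
    rw [hhv, hv0, map_zero, add_zero, add_zero, hτ₁v]
    constructor
    · intro h1
      have h2 : ε (η v) + ε (η v) = 0 := by
        have h3 : v + (ε (η v) + ε (η v)) = v + 0 := by rw [h1, add_zero]
        exact add_left_cancel h3
      have h3 : ε (η v) = 0 := by
        apply eq_zero_of_coprime_nsmul hodd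
        · rw [two_nsmul]
          exact h2
        · exact hpL _ (hεL _)
      have h4 : η (ε (η v)) = -η v := by
        have h5 : (η * ε * η) v = (-η) v := by rw [nen]
        exact h5
      rw [h3, map_zero] at h4
      have h5 : η v = 0 := by
        have := neg_eq_zero.mp h4.symm
        exact this
      rw [hηv, natCast_zsmul] at h5
      have h6 : ε₁ v = 0 := by
        apply eq_zero_of_coprime_nsmul hpj h5
        have h7 : ((p : ℤ) • ε₁) v = (0 : AddMonoid.End M) v := by rw [hpε₁]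
        have h8 : (p : ℤ) • ε₁ v = 0 := h7
        rwa [natCast_zsmul] at h8
      rw [h6, add_zero]
    · intro h1
      have h2 : ε₁ v = 0 := by
        have h3 : v + ε₁ v = v + 0 := by rw [h1, add_zero]
        exact add_left_cancel h3
      rw [hηv, h2, smul_zero, map_zero, add_zero, add_zero]

theorem exists_inverting_aut {V : Type*} [Group V] (hV : ∀ a b : V, a * b = b * a) (p : ℕ)
    [hp : Fact p.Prime] (hp2 : p ≠ 2) (t g : MulAut V) (L : Subgroup V) (hL : Nat.card L = p)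
    (H1 : ∀ v, t v * v⁻¹ ∈ L) (H2 : ∀ u ∈ L, t u = u)
    (H4 : ∃ u ∈ L, t (g u) ≠ g u) (H5 : ∃ u ∈ L, t (g⁻¹ u) ≠ g⁻¹ u) :
    ∃ h ∈ Subgroup.closure ({t, g * t * g⁻¹} : Set (MulAut V)), h * t = t * h ∧
      (∀ v, t v = v → h v * v⁻¹ ∈ L) ∧ (∀ u ∈ L, h u = u⁻¹) ∧
      (∀ v, t v = v → (h v = v ↔ g (t (g⁻¹ v)) = v)) := by
  letI : CommGroup V := { (inferInstance : Group V) with mul_comm := hV }
  let toEnd : MulAut V →* AddMonoid.End (Additive V) :=
    { toFun := fun α => MonoidHom.toAdditive α.toMonoidHom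
      map_one' := rfl
      map_mul' := fun α β => rfl }
  have htoEnd : ∀ (α : MulAut V) (v : V),
      toEnd α (Additive.ofMul v) = Additive.ofMul (α v) := fun α v => rfl
  have hγ : toEnd g * toEnd g⁻¹ = 1 := by rw [← map_mul, mul_inv_cancel, map_one]
  have hγ' : toEnd g⁻¹ * toEnd g = 1 := by rw [← map_mul, inv_mul_cancel, map_one]
  have hL' : Nat.card (Subgroup.toAddSubgroup L) = p := hL
  have H1' : ∀ v : Additive V, toEnd t v - v ∈ Subgroup.toAddSubgroup L := by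
    intro v
    show t (Additive.toMul v) / Additive.toMul v ∈ L
    rw [div_eq_mul_inv]
    exact H1 _
  have H2' : ∀ u ∈ Subgroup.toAddSubgroup L, toEnd t u = u := by
    intro u hu
    exact congrArg Additive.ofMul (H2 (Additive.toMul u) hu)
  have H4' : ∃ u ∈ Subgroup.toAddSubgroup L, toEnd t (toEnd g u) ≠ toEnd g u := by
    obtain ⟨u, hu, hne⟩ := H4
    exact ⟨Additive.ofMul u, hu, hne⟩
  have H5' : ∃ u ∈ Subgroup.toAddSubgroup L, toEnd t (toEnd g⁻¹ u) ≠ toEnd g⁻¹ u := by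
    obtain ⟨u, hu, hne⟩ := H5
    exact ⟨Additive.ofMul u, hu, hne⟩
  obtain ⟨j, h, hh, hc, h2, h3, h4⟩ := exists_inverting_word p hp2 (toEnd t) (toEnd g)
    (toEnd g⁻¹) hγ hγ' (Subgroup.toAddSubgroup L) hL' H1' H2' H4' H5'
  have hmem : (t * (g * t * g⁻¹) ^ j * t) ^ 2 ∈
      Subgroup.closure ({t, g * t * g⁻¹} : Set (MulAut V)) := by
    have ht : t ∈ Subgroup.closure ({t, g * t * g⁻¹} : Set (MulAut V)) :=
      Subgroup.subset_closure (Set.mem_insert _ _)
    have ht₁ : g * t * g⁻¹ ∈ Subgroup.closure ({t, g * t * g⁻¹} : Set (MulAut V)) :=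
      Subgroup.subset_closure (Set.mem_insert_of_mem _ rfl)
    exact Subgroup.pow_mem _ (Subgroup.mul_mem _ (Subgroup.mul_mem _ ht
      (Subgroup.pow_mem _ ht₁ j)) ht) 2
  have hh' : h = toEnd ((t * (g * t * g⁻¹) ^ j * t) ^ 2) := by
    rw [hh]
    simp only [map_pow, map_mul]
  refine ⟨_, hmem, ?_, ?_, ?_, ?_⟩
  · rw [hh', ← map_mul, ← map_mul] at hc
    apply MulEquiv.ext
    intro v
    have h5 := DFunLike.congr_fun hc (Additive.ofMul v)
    exact h5
  · intro v hv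
    have h5 := h2 (Additive.ofMul v) (congrArg Additive.ofMul hv)
    rw [hh'] at h5
    have h6 : ((t * (g * t * g⁻¹) ^ j * t) ^ 2) v / v ∈ L := h5
    rwa [div_eq_mul_inv] at h6
  · intro u hu
    have h5 := h3 (Additive.ofMul u) hu
    rw [hh'] at h5
    exact h5
  · intro v hv
    have h5 := h4 (Additive.ofMul v) (congrArg Additive.ofMul hv)
    rw [hh'] at h5
    exact h5

/-- two families of automorphisms stabilizing a common chain generate a `p`-group -/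
theorem isPGroup_closure_of_chain {V : Type*} [Group V] [Finite V] {p : ℕ} [Fact p.Prime]
    (hV : IsPGroup p V) (L L₁ : Subgroup V) (𝒜 ℬ : Set (MulAut V))
    (hA1 : ∀ c ∈ 𝒜, ∀ v, v⁻¹ * c v ∈ L) (hA2 : ∀ c ∈ 𝒜, ∀ u ∈ L ⊔ L₁, c u = u)
    (hB1 : ∀ c ∈ ℬ, ∀ v, v⁻¹ * c v ∈ L₁) (hB2 : ∀ c ∈ ℬ, ∀ u ∈ L₁, c u = u) :
    IsPGroup p (Subgroup.closure (𝒜 ∪ ℬ)) := by
  obtain ⟨e, he⟩ : ∃ e : ℕ → Subgroup V, e = chain3 L₁ (L ⊔ L₁) := ⟨_, rfl⟩
  have h0 : e 0 = ⊥ := by rw [he]; rfl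
  have h3 : e 3 = ⊤ := by rw [he]; rfl
  have hmono : ∀ j, e j ≤ e (j + 1) := by
    intro j
    rw [he]
    match j with
    | 0 => exact bot_le
    | 1 => exact le_sup_right
    | 2 => exact le_top
    | (j + 3) => exact le_top
  have hP := isPGroup_stab_chainPres hV e h0 3 h3
  apply hP.to_le
  rw [Subgroup.closure_le]
  rintro c (hc | hc)
  · apply mem_stab_chainPres e h0 hmono
    intro j x hx
    rw [he] at hx ⊢
    match j with
    | 0 =>
      have hx' : x ∈ L₁ := hx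
      rw [hA2 c hc x (le_sup_right (a := L) hx'), inv_mul_cancel]
      exact Subgroup.one_mem _
    | 1 =>
      have hx' : x ∈ L ⊔ L₁ := hx
      rw [hA2 c hc x hx', inv_mul_cancel]
      exact Subgroup.one_mem _
    | 2 => exact le_sup_left (b := L₁) (hA1 c hc x)
    | (j + 3) => exact Subgroup.mem_top _
  · apply mem_stab_chainPres e h0 hmono
    intro j x hx
    rw [he] at hx ⊢
    match j with
    | 0 =>
      have hx' : x ∈ L₁ := hx
      rw [hB2 c hc x hx', inv_mul_cancel]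
      exact Subgroup.one_mem _
    | 1 => exact hB1 c hc x
    | 2 => exact le_sup_right (a := L) (hB1 c hc x)
    | (j + 3) => exact Subgroup.mem_top _

end Cfsg.Agent.Lib.Helper1.ET
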