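import Mathlib
import Cfsg.Agent.Lib.Helper1.ET7
import Cfsg.Agent.Lib.Helper9.AlperinCor

set_option autoImplicit false
set_option linter.style.haveILetI false
set_option linter.unusedSectionVars false
set_option linter.unusedVariables false
set_option maxHeartbeats 1000000

/-! Morphisms between large subgroups act on a characteristic central subgroup like
`F`-automorphisms of `S` (via the Alperin--Goldschmidt theorem), and an extension lemma. -/

namespace Cfsg.Agent.Lib.Helper1.ET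

open Cfsg Cfsg.FusionSystem Cfsg.Agent.Lib.Helper9 Cfsg.Agent.Lib.Helper7 Cfsg.Agent.Lib.Helper1

variable {Ω : Type*} [Group Ω] {S : Subgroup Ω}

/-- `φ` reflects `Z` and agrees on `Z` with an `F`-automorphism of `S` -/
def ZCond (F : FusionSystem S) (Z : Subgroup Ω) (hZS : Z ≤ S) {R : Subgroup Ω} (φ : R →* Ω) :
    Prop :=
  (∀ r : R, φ r ∈ Z → (r : Ω) ∈ Z) ∧
    ∃ γ ∈ F.autGroup S, ∀ (r : R) (hr : (r : Ω) ∈ Z), φ r = ((γ ⟨r, hZS hr⟩ : ↥S) : Ω)

structure ZData (F : FusionSystem S) (Z : Subgroup Ω) : Prop where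
  hZS : Z ≤ S
  hZc : ∀ z ∈ Z, ∀ s ∈ S, s * z = z * s
  hZchar : ∀ γ ∈ F.autGroup S, ∀ s : ↥S, ((γ s : ↥S) : Ω) ∈ Z ↔ (s : Ω) ∈ Z

/-- the subsystem of the morphisms that are small or satisfy `ZCond` -/
def bigSys [Finite S] (F : FusionSystem S) (Z : Subgroup Ω) (hZ : ZData F Z) (n : ℕ) :
    FusionSystem S where
  Hom R := {φ | φ ∈ F.Hom R ∧ (Nat.card R ≤ n ∨ ZCond F Z hZ.hZS φ)}
  le_of_mem := fun h => F.le_of_mem h.1
  injective_of_mem := fun h => F.injective_of_mem h.1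
  conj_mem := by
    intro P g hP hg
    refine ⟨F.conj_mem hP hg, Or.inr ⟨?_, 1, Subgroup.one_mem _, ?_⟩⟩
    · intro r hr
      have hr' : g * (r : Ω) * g⁻¹ ∈ Z := hr
      have h1 := hZ.hZc _ hr' g⁻¹ (S.inv_mem hg)
      have e : (r : Ω) = g⁻¹ * (g * r * g⁻¹) * g := by group
      rw [e, h1, inv_mul_cancel_right]
      exact hr'
    · intro r hr
      show g * (r : Ω) * g⁻¹ = r
      rw [hZ.hZc _ hr g hg, mul_inv_cancel_right]
  comp_mem := by
    intro P Q φ ψ hφ hψ h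
    refine ⟨F.comp_mem hφ.1 hψ.1 h, ?_⟩
    by_cases hn : Nat.card P ≤ n
    · exact Or.inl hn
    · right
      have hQS : Q ≤ S := (F.le_of_mem hψ.1).1
      haveI : Finite Q := finite_of_le hQS
      have hle : Nat.card P ≤ Nat.card Q :=
        Nat.card_le_card_of_injective (φ.codRestrict Q h)
          (fun a b hab => F.injective_of_mem hφ.1 (congrArg Subtype.val hab))
      obtain ⟨c1, γ, hγ, c2⟩ := hφ.2.resolve_left hn
      obtain ⟨d1, δ, hδ, d2⟩ := hψ.2.resolve_left (by omega)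
      refine ⟨?_, δ * γ, Subgroup.mul_mem _ hδ hγ, ?_⟩
      · intro r hr
        exact c1 r (d1 ⟨φ r, h r⟩ hr)
      · intro r hr
        have h1 : φ r = ((γ ⟨r, hZ.hZS hr⟩ : ↥S) : Ω) := c2 r hr
        have h2 : φ r ∈ Z := by
          rw [h1]
          exact (hZ.hZchar γ hγ _).mpr hr
        have h3 := d2 ⟨φ r, h r⟩ h2
        have h4 : (⟨φ r, hZ.hZS h2⟩ : ↥S) = γ ⟨r, hZ.hZS hr⟩ := Subtype.ext h1
        show ψ ⟨φ r, h r⟩ = ((δ (γ ⟨r, hZ.hZS hr⟩) : ↥S) : Ω)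
        rw [h3, ← h4]
  inv_mem := by
    intro P φ hφ
    obtain ⟨ψ, hψ, hψφ⟩ := F.inv_mem hφ.1
    refine ⟨ψ, ⟨hψ, ?_⟩, hψφ⟩
    have hcard : Nat.card φ.range = Nat.card P :=
      (Nat.card_congr (MonoidHom.ofInjective (F.injective_of_mem hφ.1)).toEquiv).symm
    by_cases hn : Nat.card P ≤ n
    · left
      rw [hcard]
      exact hn
    · right
      obtain ⟨c1, γ, hγ, c2⟩ := hφ.2.resolve_left hn
      refine ⟨?_, γ⁻¹, Subgroup.inv_mem _ hγ, ?_⟩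
      · rintro ⟨w, x, rfl⟩ hw
        have e : ψ ⟨φ x, ⟨x, rfl⟩⟩ = (x : Ω) := hψφ x
        have h1 : (x : Ω) ∈ Z := by
          rw [← e]
          exact hw
        show φ x ∈ Z
        rw [c2 x h1]
        exact (hZ.hZchar γ hγ _).mpr h1
      · rintro ⟨w, x, rfl⟩ hw
        have hw' : φ x ∈ Z := hw
        have hx : (x : Ω) ∈ Z := c1 x hw'
        have e : ψ ⟨φ x, ⟨x, rfl⟩⟩ = (x : Ω) := hψφ x
        have h1 : (⟨φ x, hZ.hZS hw'⟩ : ↥S) = γ ⟨x, hZ.hZS hx⟩ := Subtype.ext (c2 x hx)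
        show ψ ⟨φ x, ⟨x, rfl⟩⟩ = ((γ⁻¹ (⟨φ x, hZ.hZS hw'⟩ : ↥S) : ↥S) : Ω)
        rw [e, h1, MulAut.inv_apply_self]

theorem zcond_of_card_lt [Finite S] (p : ℕ) [Fact p.Prime] (hS : IsPGroup p S)
    (F : FusionSystem S) (hF : F.IsSaturated p) (Z : Subgroup Ω) (hZ : ZData F Z) (n : ℕ)
    (hess : ∀ P, F.IsEssential p P → Nat.card P ≤ n ∨
      ∀ α ∈ F.autGroup P, ZCond F Z hZ.hZS (P.subtype.comp α.toMonoidHom))
    {R : Subgroup Ω} {φ : R →* Ω} (hφ : φ ∈ F.Hom R) (hR : n < Nat.card R) :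
    ZCond F Z hZ.hZS φ := by
  have hle : F ≤ bigSys F Z hZ n := by
    apply alperin p hS F hF
    intro P hP α hα
    have hPS : P ≤ S := by
      rcases hP with rfl | hP
      · exact le_rfl
      · exact hP.1.1
    rw [mem_autGroup_iff _ hPS]
    refine ⟨hom_of_mem_autGroup F hPS hα, ?_⟩
    rcases hP with rfl | hP
    · right
      exact ⟨fun r hr => (hZ.hZchar α hα r).mp hr, α, hα, fun r hr => rfl⟩
    · rcases hess P hP with h1 | h1
      · exact Or.inl h1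
      · exact Or.inr (h1 α hα)
  have h1 := hle R hφ
  exact h1.2.resolve_left (by omega)

theorem exists_extension [Finite S] {p : ℕ} [Fact p.Prime] (hS : IsPGroup p S)
    (F : FusionSystem S) (hF : F.IsSaturated p) {P : Subgroup Ω} (hPfn : F.IsFullyNormalized P)
    {n : MulAut P} (hn : n ∈ F.autGroup P) (Y : Set Ω)
    (hY : ∀ g ∈ Y, g ∈ S ∧ g ∈ Subgroup.normalizer (P : Set Ω) ∧ ∃ g' ∈ S,
      ∀ (x : P) (hx : g * (x : Ω) * g⁻¹ ∈ P),
        ((n ⟨g * x * g⁻¹, hx⟩ : P) : Ω) = g' * ((n x : P) : Ω) * g'⁻¹) :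
    ∃ (N : Subgroup Ω) (ψ : N →* Ω), ψ ∈ F.Hom N ∧ P ≤ N ∧ Y ⊆ N ∧
      ∀ (v : P) (hv : (v : Ω) ∈ N), ψ ⟨v, hv⟩ = ((n v : P) : Ω) := by
  have hPS : P ≤ S := hPfn.1
  have hrec := receptive_of_fullyCentralized hS F hF
    (fullyCentralized_of_fullyNormalized hS F hF hPfn)
  obtain ⟨φ, hφdef⟩ : ∃ φ : P →* Ω, φ = P.subtype.comp n.toMonoidHom := ⟨_, rfl⟩
  have hφ : φ ∈ F.Hom P := hφdef ▸ hom_of_mem_autGroup F hPS hn
  have hφv : ∀ x : P, φ x = ((n x : P) : Ω) := by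
    intro x
    rw [hφdef]
    rfl
  have hrange : φ.range = P := by
    ext w
    constructor
    · rintro ⟨x, rfl⟩
      rw [hφv]
      exact (n x).2
    · intro hw
      refine ⟨n⁻¹ ⟨w, hw⟩, ?_⟩
      rw [hφv, MulAut.apply_inv_self]
  obtain ⟨ψ, hψ, hψφ⟩ := hrec.2 P φ hφ hrange
  refine ⟨extender S P φ, ψ, hψ, ?_, ?_, ?_⟩
  · apply le_extender hPS φ
    intro x
    rw [hφv]
    exact hPS (n x).2
  · intro g hg
    obtain ⟨hgS, hgN, g', hg', hgg'⟩ := hY g hg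
    apply Subgroup.subset_closure
    refine ⟨hgS, hgN, g', hg', ?_⟩
    intro x hx
    rw [hφv, hφv]
    exact hgg' x hx
  · intro v hv
    rw [hψφ v v.2 hv, hφv]

end Cfsg.Agent.Lib.Helper1.ET
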