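import Mathlib
import Cfsg.Agent.Lib.Helper1.ET8
import Cfsg.Agent.Lib.Helper1.PCore

set_option autoImplicit false
set_option linter.style.haveILetI false
set_option linter.unusedSectionVars false
set_option linter.unusedVariables false
set_option maxHeartbeats 2000000

/-! `p`-groups with an abelian subgroup of index `p`, part 5: local analysis at an abelian
essential subgroup `Z⟨x⟩`. -/

namespace Cfsg.Agent.Lib.Helper1.ET

open Cfsg Cfsg.FusionSystem Cfsg.Agent.Lib.Helper9 Cfsg.Agent.Lib.Helper7 Cfsg.Agent.Lib.Helper1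
  Cfsg.Agent.Lib.Helper2.EssGen

open scoped commutatorElement

variable {Ω : Type*} [Group Ω] {S : Subgroup Ω}

section loc

variable [Finite S] {p : ℕ} [hp : Fact p.Prime] {A : Subgroup Ω}

/-- a `p`-subgroup of `Aut_F(P)` containing `Aut_S(P)` equals it (`P` fully normalized) -/
theorem le_autInducedBy_of_isPGroup (hS : IsPGroup p S) (F : FusionSystem S)
    (hF : F.IsSaturated p) {P : Subgroup Ω} (hPfn : F.IsFullyNormalized P)
    (Q : Subgroup (MulAut ↥P)) (hQ : IsPGroup p Q) (hTQ : autInducedBy S P ≤ Q)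
    (hQG : Q ≤ F.autGroup P) : Q ≤ autInducedBy S P := by
  obtain ⟨-, R, hR⟩ := fullyAutomized_of_fullyNormalized hS F hF hPfn
  have h1 : IsPGroup p (Q.subgroupOf (F.autGroup P)) := hQ.comap_subtype
  have h2 : (R : Subgroup (F.autGroup P)) ≤ Q.subgroupOf (F.autGroup P) := by
    rw [hR]
    exact Subgroup.comap_mono hTQ
  have h3 := R.is_maximal' h1 h2
  intro c hc
  have h4 : (⟨c, hQG hc⟩ : F.autGroup P) ∈ Q.subgroupOf (F.autGroup P) :=
    Subgroup.mem_subgroupOf.mpr hc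
  rw [h3, hR] at h4
  exact Subgroup.mem_subgroupOf.mp h4

theorem local_H (h : AbSetup p S A) (hS : IsPGroup p S) (F : FusionSystem S)
    (hF : F.IsSaturated p) (hp2 : p ≠ 2) {P : Subgroup Ω} (hP : F.IsEssential p P) {x : Ω}
    (hxP : x ∈ P) (hxA : x ∉ A) (hab : ∀ a ∈ P, ∀ b ∈ P, a * b = b * a)
    (hZ₂A : (Subgroup.upperCentralSeries ↥S 2).map S.subtype ≤ A)
    (hZ₀ : Nat.card ↥((S ⊓ Subgroup.centralizer (S : Set Ω)) ⊓
      ((commutator ↥S).map S.subtype) : Subgroup Ω) = p) :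
    ∃ (y : Ω) (hyN : y ∈ Subgroup.normalizer (P : Set Ω)), y ∈ S ∧ y ∉ P ∧
      (∀ v : ↥P, conjAut P ⟨y, hyN⟩ v = v ↔ (v : Ω) ∈ S ⊓ Subgroup.centralizer (S : Set Ω)) ∧
      (∀ c ∈ autInducedBy S P, ∀ v : ↥P,
        (v : Ω) ∈ S ⊓ Subgroup.centralizer (S : Set Ω) → c v = v) ∧
      (∃ g₀ ∈ F.autGroup P, g₀ * conjAut P ⟨y, hyN⟩ * g₀⁻¹ ∉ autInducedBy S P) ∧
      (∀ g ∈ F.autGroup P, g * conjAut P ⟨y, hyN⟩ * g⁻¹ ∉ autInducedBy S P →
        ∃ h' ∈ F.autGroup P, h' * conjAut P ⟨y, hyN⟩ = conjAut P ⟨y, hyN⟩ * h' ∧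
          (∀ v : ↥P, (v : Ω) ∈ S ⊓ Subgroup.centralizer (S : Set Ω) →
            ((h' v : ↥P) : Ω) * (v : Ω)⁻¹ ∈ (S ⊓ Subgroup.centralizer (S : Set Ω)) ⊓
              ((commutator ↥S).map S.subtype)) ∧
          (∀ v : ↥P, (v : Ω) ∈ (S ⊓ Subgroup.centralizer (S : Set Ω)) ⊓
              ((commutator ↥S).map S.subtype) → h' v = v⁻¹) ∧
          (∀ v : ↥P, (v : Ω) ∈ S ⊓ Subgroup.centralizer (S : Set Ω) →
            (h' v = v ↔ g (conjAut P ⟨y, hyN⟩ (g⁻¹ v)) = v))) := by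
  have hPc := hP.1
  have hPS : P ≤ S := hPc.1
  haveI hfinP : Finite P := finite_of_le hPS
  have hlt := essential_lt hS F hF hP
  have hCS : centralizerIn S P ≤ P := hPc.2 P (isConj_refl F hPS)
  obtain ⟨Z, hZ⟩ : ∃ Z, Z = S ⊓ Subgroup.centralizer (S : Set Ω) := ⟨_, rfl⟩
  obtain ⟨Z₂, hZ₂⟩ : ∃ Z₂, Z₂ = (Subgroup.upperCentralSeries ↥S 2).map S.subtype := ⟨_, rfl⟩
  obtain ⟨Z₀, hZ₀def⟩ : ∃ Z₀, Z₀ = Z ⊓ ((commutator ↥S).map S.subtype) := ⟨_, rfl⟩
  rw [← hZ] at hZ₀ ⊢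
  rw [← hZ₀def] at hZ₀ ⊢
  rw [← hZ₂] at hZ₂A
  have hZS : Z ≤ S := hZ ▸ inf_le_left
  have hZc : ∀ z ∈ Z, ∀ s ∈ S, s * z = z * s := by
    rw [hZ]
    exact cen_comm S
  have hZmem : ∀ z ∈ S, (∀ s ∈ S, s * z = z * s) → z ∈ Z := by
    intro z hzS hz
    rw [hZ]
    exact mem_cen S hzS hz
  have hZP : Z ≤ P := by
    intro z hz
    apply hCS
    refine ⟨hZS hz, ?_⟩
    show z ∈ Subgroup.centralizer (P : Set Ω)
    rw [Subgroup.mem_centralizer_iff]
    intro y hy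
    exact hZc z hz y (hPS hy)
  have hZA : Z ≤ A := fun z hz => h.center_le (hZS hz) (hZc z hz)
  have hxS : x ∈ S := hPS hxP
  have hZ₀Z : Z₀ ≤ Z := hZ₀def ▸ inf_le_left
  have hZ₂mem : ∀ y, y ∈ Z₂ ↔ y ∈ S ∧ ∀ s ∈ S, y * s * y⁻¹ * s⁻¹ ∈ Z := by
    intro y
    rw [hZ₂, hZ]
    exact mem_Z₂_iff S y
  have hPA_Z : P ⊓ A = Z := by
    apply le_antisymm
    · intro u hu
      exact hZmem u (hPS hu.1) (h.central_of_comm hxS hxA hu.2 (hab u hu.1 x hxP))
    · exact le_inf hZP hZA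
  have hV : ∀ a b : ↥P, a * b = b * a := fun a b => Subtype.ext (hab a a.2 b b.2)
  have hcomm_mem : ∀ a ∈ Z₂, ∀ v ∈ S, a * v * a⁻¹ * v⁻¹ ∈ Z₀ := by
    intro a ha v hv
    obtain ⟨haS, hac⟩ := (hZ₂mem a).mp ha
    rw [hZ₀def]
    refine ⟨hac v hv, ?_⟩
    have hc : ⁅(⟨a, haS⟩ : ↥S), ⟨v, hv⟩⁆ ∈ commutator ↥S := by
      rw [commutator_def]
      exact Subgroup.commutator_mem_commutator (Subgroup.mem_top _) (Subgroup.mem_top _)
    exact ⟨_, hc, rfl⟩
  have hZ₂N : ∀ a ∈ Z₂, a ∈ Subgroup.normalizer (P : Set Ω) := by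
    intro a ha
    apply KN.mem_normalizer_of_forall_conj_mem
    intro w hw
    have e : a * w * a⁻¹ = (a * w * a⁻¹ * w⁻¹) * w := by group
    rw [e]
    exact P.mul_mem (hZP (hZ₀Z (hcomm_mem a ha w (hPS hw)))) hw
  have hNdecomp : ∀ n ∈ S, n ∈ Subgroup.normalizer (P : Set Ω) →
      ∃ a ∈ Z₂, ∀ v ∈ P, n * v * n⁻¹ = a * v * a⁻¹ := by
    intro n hnS hnN
    obtain ⟨k, a, ha, rfl⟩ := h.decomp hxS hxA n hnS
    have hxkN : x ^ k ∈ Subgroup.normalizer (P : Set Ω) :=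
      Subgroup.le_normalizer (P.zpow_mem hxP k)
    have haN : a ∈ Subgroup.normalizer (P : Set Ω) := by
      have e : a = (x ^ k)⁻¹ * (x ^ k * a) := by group
      rw [e]
      exact Subgroup.mul_mem _ (Subgroup.inv_mem _ hxkN) hnN
    have h1 : a * x * a⁻¹ ∈ P := (Subgroup.mem_normalizer_iff.mp haN x).mp hxP
    have h2 : a * x * a⁻¹ * x⁻¹ ∈ P ⊓ A := by
      refine ⟨P.mul_mem h1 (P.inv_mem hxP), ?_⟩
      have e : a * x * a⁻¹ * x⁻¹ = a * (x * a⁻¹ * x⁻¹) := by group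
      rw [e]
      exact A.mul_mem ha (h.hnorm x hxS _ (A.inv_mem ha))
    rw [hPA_Z, hZ] at h2
    have haZ₂ : a ∈ Z₂ := by
      rw [hZ₂]
      exact mem_Z₂_of_comm_mem h hxS hxA ha h2
    refine ⟨a, haZ₂, fun v hv => ?_⟩
    have hav : a * v * a⁻¹ ∈ P := (Subgroup.mem_normalizer_iff.mp haN v).mp hv
    have e : x ^ k * a * v * (x ^ k * a)⁻¹ = x ^ k * (a * v * a⁻¹) * (x ^ k)⁻¹ := by group
    rw [e, hab _ (P.zpow_mem hxP k) _ hav, mul_inv_cancel_right]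
  have hTfix : ∀ c ∈ autInducedBy S P, ∀ v : ↥P, (v : Ω) ∈ Z → c v = v := by
    intro c hc v hv
    obtain ⟨n, hn, hcn⟩ := (mem_autInducedBy_iff S P c).mp hc
    apply Subtype.ext
    rw [hcn v, hZc _ hv n hn, mul_inv_cancel_right]
  have hTL : ∀ c ∈ autInducedBy S P, ∀ v : ↥P, v⁻¹ * c v ∈ Z₀.subgroupOf P := by
    intro c hc v
    obtain ⟨n, hn, hcn⟩ := (mem_autInducedBy_iff S P c).mp hc
    have hnN := mem_normalizer_of_induces c hcn
    obtain ⟨a, ha, hna⟩ := hNdecomp n hn hnN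
    rw [hV v⁻¹ (c v), Subgroup.mem_subgroupOf]
    show ((c v : ↥P) : Ω) * (v : Ω)⁻¹ ∈ Z₀
    rw [hcn v, hna v v.2]
    exact hcomm_mem a ha v (hPS v.2)
  have hPr := Cfsg.Agent.S5080.result p hS F hF P hP
  obtain ⟨n₀, hn₀N, hn₀P⟩ := exists_mem_normalizerIn_not_mem hS hlt
  have hnn : ∃ g₀ ∈ F.autGroup P, ∃ c ∈ autInducedBy S P,
      g₀ * c * g₀⁻¹ ∉ autInducedBy S P := by
    by_contra hno
    push Not at hno
    obtain ⟨-, R, hR⟩ := fullyAutomized_of_fullyNormalized hS F hF hP.2.1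
    have hTn : ((autInducedBy S P).subgroupOf (F.autGroup P)).Normal := by
      constructor
      intro c hc g
      rw [Subgroup.mem_subgroupOf] at hc ⊢
      exact hno g g.2 c hc
    have hTp : IsPGroup p ((autInducedBy S P).subgroupOf (F.autGroup P)) := hR ▸ R.isPGroup'
    have hle := le_pCore hTn hTp
    have hc₀ : conjAut P ⟨n₀, hn₀N.2⟩ ∈ autInducedBy S P := by
      rw [mem_autInducedBy_iff]
      exact ⟨n₀, hn₀N.1, fun v => rfl⟩
    have hc₀G := autInducedBy_le_autGroup F hPS hc₀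
    have h1 : (⟨_, hc₀G⟩ : F.autGroup P) ∈ pCore p (F.autGroup P) :=
      hle (Subgroup.mem_subgroupOf.mpr hc₀)
    have h2 : conjAut P ⟨n₀, hn₀N.2⟩ ∈
        (pCore p (F.autGroup P)).map (F.autGroup P).subtype := ⟨_, h1, rfl⟩
    rw [hPr.2] at h2
    exact not_mem_inn_of_not_mem hCS hn₀N.1 hn₀P hPS (fun v => rfl) h2
  obtain ⟨g₀, hg₀, c, hc, hg₀c⟩ := hnn
  obtain ⟨n, hn, hcn⟩ := (mem_autInducedBy_iff S P c).mp hc
  have hnN := mem_normalizer_of_induces c hcn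
  obtain ⟨y, hyZ₂, hny⟩ := hNdecomp n hn hnN
  have hyN := hZ₂N y hyZ₂
  have hyS : y ∈ S := ((hZ₂mem y).mp hyZ₂).1
  have hyA : y ∈ A := hZ₂A hyZ₂
  have htc : conjAut P ⟨y, hyN⟩ = c := by
    apply MulEquiv.ext
    intro v
    apply Subtype.ext
    rw [hcn v, hny v v.2]
    rfl
  obtain ⟨t, ht⟩ : ∃ t : MulAut ↥P, t = conjAut P ⟨y, hyN⟩ := ⟨_, rfl⟩
  have htv : ∀ v : ↥P, ((t v : ↥P) : Ω) = y * v * y⁻¹ := by
    intro v
    rw [ht]
    rfl
  have htT : t ∈ autInducedBy S P := by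
    rw [ht, htc]
    exact hc
  have htG : t ∈ F.autGroup P := autInducedBy_le_autGroup F hPS htT
  have hyZ : y ∉ Z := by
    intro hyZ
    apply hg₀c
    have hc1 : c = 1 := by
      rw [← htc]
      apply MulEquiv.ext
      intro v
      apply Subtype.ext
      show y * (v : Ω) * y⁻¹ = v
      rw [← hZc y hyZ v (hPS v.2), mul_inv_cancel_right]
    rw [hc1, mul_one, mul_inv_cancel]
    exact Subgroup.one_mem _
  have hyP : y ∉ P := by
    intro hyP
    have h1 : y ∈ P ⊓ A := ⟨hyP, hyA⟩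
    rw [hPA_Z] at h1
    exact hyZ h1
  have htfix : ∀ v : ↥P, t v = v ↔ (v : Ω) ∈ Z := by
    intro v
    constructor
    · intro hv
      have h1 : y * (v : Ω) * y⁻¹ = v := by rw [← htv, hv]
      have h2 : y * (v : Ω) = v * y := by
        have e : y * (v : Ω) = (y * v * y⁻¹) * y := by group
        rw [e, h1]
      by_cases hvA : (v : Ω) ∈ A
      · have h3 : (v : Ω) ∈ P ⊓ A := ⟨v.2, hvA⟩
        rw [hPA_Z] at h3
        exact h3
      · exfalso
        apply hyZ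
        exact hZmem y hyS (h.central_of_comm (hPS v.2) hvA hyA h2)
    · intro hv
      apply Subtype.ext
      rw [htv, hZc _ hv y hyS, mul_inv_cancel_right]
  obtain ⟨L, hLdef⟩ : ∃ L : Subgroup ↥P, L = Z₀.subgroupOf P := ⟨_, rfl⟩
  have hLcard : Nat.card L = p := by
    rw [hLdef, ← hZ₀]
    exact Nat.card_congr (Subgroup.subgroupOfEquivOfLe (hZ₀Z.trans hZP)).toEquiv
  have hLmem : ∀ v : ↥P, v ∈ L ↔ (v : Ω) ∈ Z₀ := by
    intro v
    rw [hLdef]
    exact Subgroup.mem_subgroupOf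
  have H1 : ∀ v : ↥P, t v * v⁻¹ ∈ L := by
    intro v
    rw [hLmem]
    show ((t v : ↥P) : Ω) * (v : Ω)⁻¹ ∈ Z₀
    rw [htv]
    exact hcomm_mem y hyZ₂ v (hPS v.2)
  have H1' : ∀ v : ↥P, v⁻¹ * t v ∈ L := fun v => by
    rw [hV v⁻¹ (t v)]
    exact H1 v
  have hLZ : ∀ u ∈ L, (u : Ω) ∈ Z := fun u hu => hZ₀Z ((hLmem u).mp hu)
  have H2 : ∀ u ∈ L, t u = u := fun u hu => (htfix u).mpr (hLZ u hu)
  have hTfix' : ∀ c ∈ autInducedBy S P, ∀ u ∈ L, c u = u :=
    fun c hc u hu => hTfix c hc u (hLZ u hu)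
  have hTL' : ∀ c ∈ autInducedBy S P, ∀ v : ↥P, v⁻¹ * c v ∈ L := by
    intro c hc v
    rw [hLdef]
    exact hTL c hc v
  refine ⟨y, hyN, hyS, hyP, ?_, hTfix, ?_, ?_⟩
  · rw [← ht]
    exact htfix
  · rw [← ht]
    refine ⟨g₀, hg₀, ?_⟩
    rw [ht, htc]
    exact hg₀c
  · rw [← ht]
    intro g hg hgt
    obtain ⟨t₁, ht₁⟩ : ∃ t₁ : MulAut ↥P, t₁ = g * t * g⁻¹ := ⟨_, rfl⟩
    rw [← ht₁] at hgt
    have ht₁G : t₁ ∈ F.autGroup P := by
      rw [ht₁]
      exact Subgroup.mul_mem _ (Subgroup.mul_mem _ hg htG) (Subgroup.inv_mem _ hg)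
    have ht₁v : ∀ v, t₁ v = g (t (g⁻¹ v)) := by
      intro v
      rw [ht₁]
      rfl
    have hB1 : ∀ v : ↥P, v⁻¹ * t₁ v ∈ L.map g.toMonoidHom := by
      intro v
      refine ⟨(g⁻¹ v)⁻¹ * t (g⁻¹ v), H1' _, ?_⟩
      show g ((g⁻¹ v)⁻¹ * t (g⁻¹ v)) = v⁻¹ * t₁ v
      rw [map_mul, map_inv, MulAut.apply_inv_self, ht₁v]
    have hB2 : ∀ u ∈ L.map g.toMonoidHom, t₁ u = u := by
      rintro _ ⟨z, hz, rfl⟩
      show t₁ (g z) = g z
      rw [ht₁v, MulAut.inv_apply_self, H2 z hz]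
    have hnoP : ∀ Q : Subgroup (MulAut ↥P), IsPGroup p Q → autInducedBy S P ≤ Q → t₁ ∈ Q →
        Q ≤ F.autGroup P → False := by
      intro Q hQ hTQ ht₁Q hQG
      exact hgt (le_autInducedBy_of_isPGroup hS F hF hP.2.1 Q hQ hTQ hQG ht₁Q)
    have hPp : IsPGroup p ↥P := isPGroup_of_le hS hPS
    have hTG : ∀ c ∈ (autInducedBy S P : Set (MulAut ↥P)), c ∈ F.autGroup P :=
      fun c hc => autInducedBy_le_autGroup F hPS hc
    have ht₁G' : ∀ c ∈ ({t₁} : Set (MulAut ↥P)), c ∈ F.autGroup P := by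
      intro c hc
      rw [Set.mem_singleton_iff.mp hc]
      exact ht₁G
    have H4 : ∃ u ∈ L, t (g u) ≠ g u := by
      by_contra hno
      push Not at hno
      have hgLZ : L.map g.toMonoidHom ≤ Z.subgroupOf P := by
        rintro _ ⟨u, hu, rfl⟩
        exact (htfix _).mp (hno u hu)
      have hLZ' : L ≤ Z.subgroupOf P := fun u hu => hLZ u hu
      have hQ := isPGroup_closure_of_chain hPp L (L.map g.toMonoidHom)
        (autInducedBy S P : Set (MulAut ↥P)) {t₁} hTL'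
        (fun c hc u hu => hTfix c hc u (sup_le hLZ' hgLZ hu))
        (fun c hc v => by
          rw [Set.mem_singleton_iff.mp hc]
          exact hB1 v)
        (fun c hc u hu => by
          rw [Set.mem_singleton_iff.mp hc]
          exact hB2 u hu)
      refine hnoP _ hQ (fun c hc => Subgroup.subset_closure (Or.inl hc))
        (Subgroup.subset_closure (Or.inr rfl)) ?_
      rw [Subgroup.closure_le]
      exact Set.union_subset hTG ht₁G'
    have H5 : ∃ u ∈ L, t (g⁻¹ u) ≠ g⁻¹ u := by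
      by_contra hno
      push Not at hno
      have ht₁L : ∀ u ∈ L, t₁ u = u := by
        intro u hu
        rw [ht₁v, hno u hu, MulAut.apply_inv_self]
      have hfixsup : ∀ u ∈ L.map g.toMonoidHom ⊔ L, t₁ u = u := by
        have hle : L.map g.toMonoidHom ⊔ L ≤
            MonoidHom.eqLocus t₁.toMonoidHom (MonoidHom.id ↥P) :=
          sup_le (fun u hu => hB2 u hu) (fun u hu => ht₁L u hu)
        exact fun u hu => hle hu
      have hQ := isPGroup_closure_of_chain hPp (L.map g.toMonoidHom) L {t₁}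
        (autInducedBy S P : Set (MulAut ↥P))
        (fun c hc v => by
          rw [Set.mem_singleton_iff.mp hc]
          exact hB1 v)
        (fun c hc u hu => by
          rw [Set.mem_singleton_iff.mp hc]
          exact hfixsup u hu)
        hTL' hTfix'
      refine hnoP _ hQ (fun c hc => Subgroup.subset_closure (Or.inr hc))
        (Subgroup.subset_closure (Or.inl rfl)) ?_
      rw [Subgroup.closure_le]
      exact Set.union_subset ht₁G' hTG
    obtain ⟨h', hh'cl, hc1, hc2, hc3, hc4⟩ :=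
      exists_inverting_aut hV p hp2 t g L hLcard H1 H2 H4 H5
    have hh'G : h' ∈ F.autGroup P := by
      have hle : Subgroup.closure ({t, g * t * g⁻¹} : Set (MulAut ↥P)) ≤ F.autGroup P := by
        rw [Subgroup.closure_le]
        rintro c (rfl | hc)
        · exact htG
        · rw [Set.mem_singleton_iff.mp hc, ← ht₁]
          exact ht₁G
      exact hle hh'cl
    refine ⟨h', hh'G, hc1, ?_, ?_, ?_⟩
    · intro v hv
      have h5 := hc2 v ((htfix v).mpr hv)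
      rw [hLmem] at h5
      exact h5
    · intro v hv
      exact hc3 v ((hLmem v).mpr hv)
    · intro v hv
      exact hc4 v ((htfix v).mpr hv)

end loc

end Cfsg.Agent.Lib.Helper1.ET
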