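import Mathlib
import Cfsg.Agent.Lib.Helper1.ET9
import Cfsg.Agent.Lib.Helper9.NormalCrit

set_option autoImplicit false
set_option linter.style.haveILetI false
set_option linter.unusedSectionVars false
set_option linter.unusedVariables false
set_option maxHeartbeats 4000000

/-! `p`-groups with an abelian subgroup of index `p`, part 6: automorphisms acting on the centre,
and the extension of the local inverting automorphisms to `S`. -/

namespace Cfsg.Agent.Lib.Helper1.ET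

open Cfsg Cfsg.FusionSystem Cfsg.Agent.Lib.Helper9 Cfsg.Agent.Lib.Helper7 Cfsg.Agent.Lib.Helper1
  Cfsg.Agent.Lib.Helper2.EssGen

open scoped commutatorElement

local notation "cen(" S ")" => (S ⊓ Subgroup.centralizer (S : Set _))
local notation "der(" S ")" => (Subgroup.map (Subgroup.subtype S) (commutator ↥S))

section AL

variable {G : Type*} [Group G]

theorem fix_of_stab {p m : ℕ} (hpm : m.Coprime p) (H H₀ : Subgroup G) (g : MulAut G)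
    (hH₀p : ∀ z ∈ H₀, z ^ p = 1) (hm : ∀ z ∈ H, (g ^ m) z = z)
    (h1 : ∀ z ∈ H, g z * z⁻¹ ∈ H₀) (h2 : ∀ z ∈ H₀, g z = z) : ∀ z ∈ H, g z = z := by
  intro z hz
  obtain ⟨ν, hν⟩ : ∃ ν, ν = g z * z⁻¹ := ⟨_, rfl⟩
  have hνH : ν ∈ H₀ := hν ▸ h1 z hz
  have hgz : g z = ν * z := by rw [hν, inv_mul_cancel_right]
  have hpow : ∀ k : ℕ, (g ^ k) z = ν ^ k * z := by
    intro k
    induction k with
    | zero => simp
    | succ k ih =>
      rw [pow_succ', MulAut.mul_apply, ih, map_mul, map_pow, h2 ν hνH, hgz, pow_succ, mul_assoc]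
  have h3 : ν ^ m = 1 := by
    have h4 := hpow m
    rw [hm z hz] at h4
    have h5 : ν ^ m * z = 1 * z := by rw [one_mul, ← h4]
    exact mul_right_cancel h5
  have h5 : ν = 1 := by
    have h6 := orderOf_dvd_of_pow_eq_one h3
    have h7 := orderOf_dvd_of_pow_eq_one (hH₀p ν hνH)
    have h8 := Nat.dvd_gcd h6 h7
    rw [hpm.gcd_eq_one] at h8
    exact orderOf_eq_one_iff.mp (Nat.dvd_one.mp h8)
  rw [hgz, h5, one_mul]

theorem agree_of_inverting (H H₀ : Subgroup G) (Γ : Subgroup (MulAut G))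
    (hH : ∀ γ ∈ Γ, ∀ z, γ z ∈ H ↔ z ∈ H)
    (hK : ∀ g ∈ Γ, (∀ z ∈ H, g z * z⁻¹ ∈ H₀) → (∀ z ∈ H₀, g z = z) → ∀ z ∈ H, g z = z)
    {η η' : MulAut G} (hη : η ∈ Γ) (hη' : η' ∈ Γ)
    (h1 : ∀ z ∈ H, η z * z⁻¹ ∈ H₀) (h2 : ∀ z ∈ H₀, η z = z⁻¹)
    (h1' : ∀ z ∈ H, η' z * z⁻¹ ∈ H₀) (h2' : ∀ z ∈ H₀, η' z = z⁻¹) :
    ∀ z ∈ H, η z = η' z := by
  have key := hK (η'⁻¹ * η) (Γ.mul_mem (Γ.inv_mem hη') hη) ?_ ?_
  · intro z hz
    have h3 := key z hz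
    rw [MulAut.mul_apply] at h3
    have h4 : η' (η'⁻¹ (η z)) = η' z := by rw [h3]
    rw [MulAut.apply_inv_self] at h4
    exact h4
  · intro z hz
    rw [MulAut.mul_apply]
    obtain ⟨w, hw⟩ : ∃ w, w = η'⁻¹ (η z) := ⟨_, rfl⟩
    rw [← hw]
    have hηz : η z ∈ H := (hH η hη z).mpr hz
    have hwH : w ∈ H := by
      rw [hw]
      exact (hH η'⁻¹ (Γ.inv_mem hη') _).mpr hηz
    have hη'w : η' w = η z := by rw [hw, MulAut.apply_inv_self]
    have h3 := h1' w hwH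
    rw [hη'w] at h3
    have h4 := h1 z hz
    have e : w * z⁻¹ = (η z * w⁻¹)⁻¹ * (η z * z⁻¹) := by group
    rw [e]
    exact H₀.mul_mem (H₀.inv_mem h3) h4
  · intro z hz
    rw [MulAut.mul_apply, h2 z hz]
    have h3 := h2' z hz
    rw [← h3, MulAut.inv_apply_self]

theorem commute_of_inverting (H H₀ : Subgroup G) (Γ : Subgroup (MulAut G))
    (hH : ∀ γ ∈ Γ, ∀ z, γ z ∈ H ↔ z ∈ H) (hH₀ : ∀ γ ∈ Γ, ∀ z, γ z ∈ H₀ ↔ z ∈ H₀)
    (hK : ∀ g ∈ Γ, (∀ z ∈ H, g z * z⁻¹ ∈ H₀) → (∀ z ∈ H₀, g z = z) → ∀ z ∈ H, g z = z)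
    {η γ : MulAut G} (hη : η ∈ Γ) (hγ : γ ∈ Γ)
    (h1 : ∀ z ∈ H, η z * z⁻¹ ∈ H₀) (h2 : ∀ z ∈ H₀, η z = z⁻¹) :
    ∀ z ∈ H, γ (η z) = η (γ z) := by
  have hη'' : γ⁻¹ * η * γ ∈ Γ := Γ.mul_mem (Γ.mul_mem (Γ.inv_mem hγ) hη) hγ
  have key := agree_of_inverting H H₀ Γ hH hK hη hη'' h1 h2 ?_ ?_
  · intro z hz
    have h3 := key z hz
    rw [MulAut.mul_apply, MulAut.mul_apply] at h3
    rw [h3, MulAut.apply_inv_self]
  · intro z hz
    rw [MulAut.mul_apply, MulAut.mul_apply]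
    have hγz : γ z ∈ H := (hH γ hγ z).mpr hz
    have h3 := h1 (γ z) hγz
    have h4 : γ⁻¹ (η (γ z) * (γ z)⁻¹) ∈ H₀ := (hH₀ γ⁻¹ (Γ.inv_mem hγ) _).mpr h3
    rw [map_mul, map_inv, MulAut.inv_apply_self] at h4
    exact h4
  · intro z hz
    rw [MulAut.mul_apply, MulAut.mul_apply]
    have hγz : γ z ∈ H₀ := (hH₀ γ hγ z).mpr hz
    rw [h2 (γ z) hγz, map_inv, MulAut.inv_apply_self]

end AL

variable {Ω : Type*} [Group Ω] {S : Subgroup Ω}

theorem cen_subgroupOf_eq (S : Subgroup Ω) : cen(S).subgroupOf S = Subgroup.center ↥S := by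
  rw [← center_map_subtype]
  exact Subgroup.comap_map_eq_self_of_injective S.subtype_injective _

theorem mem_cen_iff_center (S : Subgroup Ω) (u : ↥S) :
    (u : Ω) ∈ cen(S) ↔ u ∈ Subgroup.center ↥S := by
  rw [← cen_subgroupOf_eq, Subgroup.mem_subgroupOf]

theorem mem_der_iff (S : Subgroup Ω) (u : ↥S) : (u : Ω) ∈ der(S) ↔ u ∈ commutator ↥S :=
  Subgroup.mem_map_iff_mem S.subtype_injective

theorem aut_mem_cen_iff (γ : MulAut ↥S) (s : ↥S) :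
    ((γ s : ↥S) : Ω) ∈ cen(S) ↔ (s : Ω) ∈ cen(S) := by
  rw [mem_cen_iff_center, mem_cen_iff_center]
  have h2 := Subgroup.Characteristic.fixed
    (inferInstance : (Subgroup.center ↥S).Characteristic) γ
  exact SetLike.ext_iff.mp h2 s

theorem aut_mem_der_iff (γ : MulAut ↥S) (s : ↥S) :
    ((γ s : ↥S) : Ω) ∈ der(S) ↔ (s : Ω) ∈ der(S) := by
  rw [mem_der_iff, mem_der_iff]
  have h2 := Subgroup.Characteristic.fixed
    (inferInstance : (commutator ↥S).Characteristic) γ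
  exact SetLike.ext_iff.mp h2 s

theorem zData_cen (F : FusionSystem S) : ZData F cen(S) where
  hZS := inf_le_left
  hZc := cen_comm S
  hZchar := fun γ _ s => aut_mem_cen_iff γ s

section main

variable [Finite S] {p : ℕ} [hp : Fact p.Prime] {A : Subgroup Ω}

theorem cen_le_of_centric (F : FusionSystem S) {P : Subgroup Ω} (hPc : F.IsCentric P) :
    cen(S) ≤ P := by
  have hPS : P ≤ S := hPc.1
  have hCS : centralizerIn S P ≤ P := hPc.2 P (isConj_refl F hPS)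
  intro z hz
  apply hCS
  refine ⟨hz.1, ?_⟩
  show z ∈ Subgroup.centralizer (P : Set Ω)
  rw [Subgroup.mem_centralizer_iff]
  intro y hy
  exact cen_comm S z hz y (hPS hy)

theorem inf_eq_cen_of_abelian (h : AbSetup p S A) (F : FusionSystem S) {P : Subgroup Ω}
    (hPc : F.IsCentric P) {x : Ω} (hxP : x ∈ P) (hxA : x ∉ A)
    (hab : ∀ a ∈ P, ∀ b ∈ P, a * b = b * a) : P ⊓ A = cen(S) := by
  have hPS := hPc.1
  apply le_antisymm
  · intro u hu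
    exact mem_cen S (hPS hu.1) (h.central_of_comm (hPS hxP) hxA hu.2 (hab u hu.1 x hxP))
  · exact le_inf (cen_le_of_centric F hPc) (fun z hz => h.center_le hz.1 (cen_comm S z hz))

theorem center_of_nonabelian (h : AbSetup p S A) {P : Subgroup Ω} (hPS : P ≤ S) {x : Ω}
    (hxP : x ∈ P) (hxA : x ∉ A) (hnab : ¬ ∀ a ∈ P, ∀ b ∈ P, a * b = b * a) {y : Ω}
    (hy : y ∈ P) (hyc : ∀ w ∈ P, w * y = y * w) : y ∈ cen(S) := by
  by_cases hyA : y ∈ A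
  · exact mem_cen S (hPS hy) (h.central_of_comm (hPS hxP) hxA hyA (hyc x hxP).symm)
  · exfalso
    apply hnab
    intro a ha b hb
    obtain ⟨k, u, hu, rfl⟩ := P_decomp h hPS hy hyA a ha
    obtain ⟨l, u', hu', rfl⟩ := P_decomp h hPS hy hyA b hb
    have huy : Commute u y := hyc u hu.1
    have hu'y : Commute u' y := hyc u' hu'.1
    have huu' : Commute u u' := h.hab u hu.2 u' hu'.2
    have h1 : Commute (y ^ k) (y ^ l * u') :=
      Commute.mul_right ((Commute.refl y).zpow_zpow k l) ((hu'y.symm).zpow_left k)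
    have h2 : Commute u (y ^ l * u') := Commute.mul_right (huy.zpow_right l) huu'
    exact (Commute.mul_left h1 h2).eq

theorem abelian_of_eq_sup (h : AbSetup p S A) {P : Subgroup Ω} (hPS : P ≤ S) {x : Ω}
    (hxP : x ∈ P) (hxA : x ∉ A) (h1 : P = cen(S) ⊔ Subgroup.zpowers x) :
    ∀ a ∈ P, ∀ b ∈ P, a * b = b * a := by
  have hxS : x ∈ S := hPS hxP
  have hcx : ∀ w ∈ P, w * x = x * w := by
    intro w hw
    rw [h1] at hw
    have hle : cen(S) ⊔ Subgroup.zpowers x ≤ Subgroup.centralizer ({x} : Set Ω) := by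
      apply sup_le
      · intro z hz
        rw [Subgroup.mem_centralizer_iff]
        intro y hy
        rw [Set.mem_singleton_iff.mp hy]
        exact cen_comm S z hz x hxS
      · rw [Subgroup.zpowers_le, Subgroup.mem_centralizer_iff]
        intro y hy
        rw [Set.mem_singleton_iff.mp hy]
    have h4 := Subgroup.mem_centralizer_iff.mp (hle hw) x (Set.mem_singleton x)
    exact h4.symm
  intro a ha b hb
  obtain ⟨k, u, hu, rfl⟩ := P_decomp h hPS hxP hxA a ha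
  obtain ⟨l, u', hu', rfl⟩ := P_decomp h hPS hxP hxA b hb
  have hux : Commute u x := hcx u hu.1
  have hu'x : Commute u' x := hcx u' hu'.1
  have huu' : Commute u u' := h.hab u hu.2 u' hu'.2
  have h1' : Commute (x ^ k) (x ^ l * u') :=
    Commute.mul_right ((Commute.refl x).zpow_zpow k l) ((hu'x.symm).zpow_left k)
  have h2' : Commute u (x ^ l * u') := Commute.mul_right (hux.zpow_right l) huu'
  exact (Commute.mul_left h1' h2').eq

theorem fix_of_stab_S (hS : IsPGroup p S) (F : FusionSystem S) (hF : F.IsSaturated p)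
    (hZ₀ : Nat.card ↥(cen(S) ⊓ der(S) : Subgroup Ω) = p) (g : MulAut ↥S)
    (hg : g ∈ F.autGroup S)
    (h1 : ∀ z : ↥S, (z : Ω) ∈ cen(S) → ((g z : ↥S) : Ω) * (z : Ω)⁻¹ ∈ cen(S) ⊓ der(S))
    (h2 : ∀ z : ↥S, (z : Ω) ∈ cen(S) ⊓ der(S) → g z = z) :
    ∀ z : ↥S, (z : Ω) ∈ cen(S) → g z = z := by
  obtain ⟨-, R, hR⟩ := fullyAutomized_of_fullyNormalized hS F hF (fullyNormalized_top F)
  have hTn : ((autInducedBy S S).subgroupOf (F.autGroup S)).Normal := by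
    constructor
    intro c hc α
    rw [Subgroup.mem_subgroupOf] at hc ⊢
    obtain ⟨s, hs, hcs⟩ := (mem_autInducedBy_iff S S c.1).mp hc
    rw [mem_autInducedBy_iff]
    refine ⟨((α.1 ⟨s, hs⟩ : ↥S) : Ω), (α.1 ⟨s, hs⟩).2, fun x => ?_⟩
    show ((α.1 (c.1 (α.1⁻¹ x)) : ↥S) : Ω) = _
    have h3 : c.1 (α.1⁻¹ x) = ⟨s, hs⟩ * α.1⁻¹ x * ⟨s, hs⟩⁻¹ := Subtype.ext (hcs _)
    rw [h3, map_mul, map_mul, map_inv, MulAut.apply_inv_self]
    rfl
  haveI : ((R : Subgroup (F.autGroup S))).Normal := hR ▸ hTn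
  obtain ⟨m, hm⟩ : ∃ m, m = (R : Subgroup (F.autGroup S)).index := ⟨_, rfl⟩
  have hpm : m.Coprime p := by
    rw [Nat.coprime_comm, Nat.Prime.coprime_iff_not_dvd hp.out, hm]
    exact Sylow.not_dvd_index R
  have hgm : ∀ z : ↥S, (z : Ω) ∈ cen(S) → (g ^ m) z = z := by
    intro z hz
    have h3 : (⟨g, hg⟩ : F.autGroup S) ^ m ∈ (R : Subgroup (F.autGroup S)) := by
      rw [hm]
      exact Subgroup.pow_index_mem _ _
    rw [hR, Subgroup.mem_subgroupOf] at h3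
    have h4 : g ^ m ∈ autInducedBy S S := h3
    obtain ⟨s, hs, hgs⟩ := (mem_autInducedBy_iff S S _).mp h4
    apply Subtype.ext
    rw [hgs z, cen_comm S _ hz s hs, mul_inv_cancel_right]
  obtain ⟨H, hHdef⟩ : ∃ H : Subgroup ↥S, H = (cen(S) : Subgroup Ω).subgroupOf S := ⟨_, rfl⟩
  obtain ⟨H₀, hH₀def⟩ : ∃ H₀ : Subgroup ↥S, H₀ = (cen(S) ⊓ der(S) : Subgroup Ω).subgroupOf S :=
    ⟨_, rfl⟩
  have hHmem : ∀ z : ↥S, z ∈ H ↔ (z : Ω) ∈ (cen(S) : Subgroup Ω) := by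
    intro z
    rw [hHdef]
    exact Subgroup.mem_subgroupOf
  have hH₀mem : ∀ z : ↥S, z ∈ H₀ ↔ (z : Ω) ∈ (cen(S) ⊓ der(S) : Subgroup Ω) := by
    intro z
    rw [hH₀def]
    exact Subgroup.mem_subgroupOf
  have key := fix_of_stab hpm H H₀ g ?_
    (fun z hz => hgm z ((hHmem z).mp hz))
    (fun z hz => (hH₀mem _).mpr (h1 z ((hHmem z).mp hz)))
    (fun z hz => h2 z ((hH₀mem z).mp hz))
  · exact fun z hz => key z ((hHmem z).mpr hz)
  · intro z hz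
    have hz' : (z : Ω) ∈ (cen(S) ⊓ der(S) : Subgroup Ω) := (hH₀mem z).mp hz
    have h5 : (⟨(z : Ω), hz'⟩ : ↥(cen(S) ⊓ der(S) : Subgroup Ω)) ^
        Nat.card ↥(cen(S) ⊓ der(S) : Subgroup Ω) = 1 := pow_card_eq_one'
    rw [hZ₀] at h5
    have h6 : (z : Ω) ^ p = 1 := congrArg Subtype.val h5
    apply Subtype.ext
    exact h6

theorem local_S (h : AbSetup p S A) (hS : IsPGroup p S) (F : FusionSystem S)
    (hF : F.IsSaturated p) (hp2 : p ≠ 2) {P : Subgroup Ω} (hP : F.IsEssential p P) {x : Ω}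
    (hxP : x ∈ P) (hxA : x ∉ A) (hab : ∀ a ∈ P, ∀ b ∈ P, a * b = b * a)
    (hZ₂A : (Subgroup.upperCentralSeries ↥S 2).map S.subtype ≤ A)
    (hZ₀ : Nat.card ↥(cen(S) ⊓ der(S) : Subgroup Ω) = p)
    (zB : ∀ {R : Subgroup Ω} {φ : R →* Ω}, φ ∈ F.Hom R →
      Nat.card ↥(cen(S) : Subgroup Ω) * p < Nat.card R → ZCond F cen(S) inf_le_left φ) :
    ∃ t : MulAut ↥P, (∀ v : ↥P, t v = v ↔ (v : Ω) ∈ cen(S)) ∧
      (∀ c ∈ autInducedBy S P, ∀ v : ↥P, (v : Ω) ∈ cen(S) → c v = v) ∧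
      (∃ g₀ ∈ F.autGroup P, g₀ * t * g₀⁻¹ ∉ autInducedBy S P) ∧
      (∀ g ∈ F.autGroup P, g * t * g⁻¹ ∉ autInducedBy S P → ∃ γ ∈ F.autGroup S,
        (∀ z : ↥S, (z : Ω) ∈ cen(S) → ((γ z : ↥S) : Ω) * (z : Ω)⁻¹ ∈ cen(S) ⊓ der(S)) ∧
        (∀ z : ↥S, (z : Ω) ∈ cen(S) ⊓ der(S) → γ z = z⁻¹) ∧
        (∀ (v : ↥P) (hv : (v : Ω) ∈ cen(S)),
          γ ⟨v, hv.1⟩ = ⟨v, hv.1⟩ ↔ g (t (g⁻¹ v)) = v)) := by
  have hPS : P ≤ S := hP.1.1
  have hZP : cen(S) ≤ P := cen_le_of_centric F hP.1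
  have hPA_Z := inf_eq_cen_of_abelian h F hP.1 hxP hxA hab
  obtain ⟨y, hyN, hyS, hyP, htfix, hTfix, hg₀, hmain⟩ :=
    local_H h hS F hF hp2 hP hxP hxA hab hZ₂A hZ₀
  refine ⟨conjAut P ⟨y, hyN⟩, htfix, hTfix, hg₀, ?_⟩
  intro g hg hgt
  obtain ⟨h', hh'G, hc1, hc2, hc3, hc4⟩ := hmain g hg hgt
  have hY : ∀ g' ∈ ({y} : Set Ω), g' ∈ S ∧ g' ∈ Subgroup.normalizer (P : Set Ω) ∧ ∃ g'' ∈ S,
      ∀ (x : P) (hx : g' * (x : Ω) * g'⁻¹ ∈ P),
        ((h' ⟨g' * x * g'⁻¹, hx⟩ : P) : Ω) = g'' * ((h' x : P) : Ω) * g''⁻¹ := by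
    intro g' hg'
    rw [Set.mem_singleton_iff.mp hg']
    refine ⟨hyS, hyN, y, hyS, fun x hx => ?_⟩
    have h1 : h' (conjAut P ⟨y, hyN⟩ x) = conjAut P ⟨y, hyN⟩ (h' x) :=
      DFunLike.congr_fun hc1 x
    have h2 : conjAut P ⟨y, hyN⟩ x = ⟨y * x * y⁻¹, hx⟩ := Subtype.ext rfl
    rw [h2] at h1
    rw [h1]
    rfl
  obtain ⟨N, ψ, hψ, hPN, hYN, hψh'⟩ := exists_extension hS F hF hP.2.1 hh'G {y} hY
  have hyN' : y ∈ N := hYN rfl
  have hNS : N ≤ S := (F.le_of_mem hψ).1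
  haveI : Finite N := finite_of_le hNS
  have hlt : P < N := lt_of_le_of_ne hPN (fun e => hyP (e ▸ hyN'))
  have hcardlt : Nat.card P < Nat.card N := card_lt_of_lt' hlt
  have hcardP : Nat.card P = Nat.card ↥(cen(S) : Subgroup Ω) * p := by
    have h1 := h.card_eq_mul hPS hxP hxA
    rw [hPA_Z] at h1
    exact h1
  obtain ⟨c1, γ, hγ, c2⟩ := zB hψ (by rw [← hcardP]; exact hcardlt)
  have hγv : ∀ (v : ↥P) (hv : (v : Ω) ∈ cen(S)),
      ((γ ⟨v, hv.1⟩ : ↥S) : Ω) = ((h' v : ↥P) : Ω) := by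
    intro v hv
    have h1 := c2 ⟨v, hPN v.2⟩ hv
    rw [← hψh' v (hPN v.2)]
    exact h1.symm
  refine ⟨γ, hγ, ?_, ?_, ?_⟩
  · intro z hz
    have hzP : (z : Ω) ∈ P := hZP hz
    have h1 := hγv ⟨z, hzP⟩ hz
    have h2 : ((γ z : ↥S) : Ω) = ((h' ⟨z, hzP⟩ : ↥P) : Ω) := h1
    rw [h2]
    exact hc2 ⟨z, hzP⟩ hz
  · intro z hz
    have hzZ : (z : Ω) ∈ cen(S) := hz.1
    have hzP : (z : Ω) ∈ P := hZP hzZ
    apply Subtype.ext
    have h1 := hγv ⟨z, hzP⟩ hzZ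
    have h2 : ((γ z : ↥S) : Ω) = ((h' ⟨z, hzP⟩ : ↥P) : Ω) := h1
    rw [h2, hc3 ⟨z, hzP⟩ hz]
    rfl
  · intro v hv
    rw [← hc4 v hv]
    constructor
    · intro h1
      apply Subtype.ext
      rw [← hγv v hv, h1]
    · intro h1
      apply Subtype.ext
      rw [hγv v hv, h1]

end main

end Cfsg.Agent.Lib.Helper1.ET
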