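import Mathlib
import Cfsg.Agent.Lib.Helper1.ET10

set_option autoImplicit false
set_option linter.style.haveILetI false
set_option linter.unusedSectionVars false
set_option linter.unusedVariables false
set_option maxHeartbeats 4000000

/-! `p`-groups with an abelian subgroup of index `p`, part 7: if `A` is not essential and
`O_p(F) = 1` then `S` has maximal class (Oliver). -/

namespace Cfsg.Agent.Lib.Helper1.ET

open Cfsg Cfsg.FusionSystem Cfsg.Agent.Lib.Helper9 Cfsg.Agent.Lib.Helper7 Cfsg.Agent.Lib.Helper1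
  Cfsg.Agent.Lib.Helper2.EssGen

open scoped commutatorElement

local notation "cen(" S ")" => (S ⊓ Subgroup.centralizer (S : Set _))
local notation "der(" S ")" => (Subgroup.map (Subgroup.subtype S) (commutator ↥S))

variable {Ω : Type*} [Group Ω] {S : Subgroup Ω}

section main

variable [Finite S] {p : ℕ} [hp : Fact p.Prime]

/-- S5244 -/
theorem max_class_of_not_essential (hS : IsPGroup p S) (F : FusionSystem S)
    (hF : F.IsSaturated p) (hp2 : p ≠ 2) (hna : ¬ IsMulCommutative ↥S) (A : Subgroup Ω)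
    (hA : A ≤ S ∧ IsMulCommutative ↥A ∧ (A.subgroupOf S).index = p)
    (huniq : ∀ B : Subgroup Ω, B ≤ S → IsMulCommutative ↥B → (B.subgroupOf S).index = p → B = A)
    (hcore : F.core = ⊥) (hAe : ¬ F.IsEssential p A) :
    (∃ x ∈ S, x ∉ A ∧ F.IsEssential p (cen(S) ⊔ Subgroup.zpowers x)) ∧
    cen(S) ≤ der(S) ∧
    ∀ n : ℕ, Nat.card S = p ^ n → 3 ≤ n → Subgroup.lowerCentralSeries S (n - 2) ≠ ⊥ := by
  have h := abSetup_of hS hna A hA
  have hZS : (cen(S) : Subgroup Ω) ≤ S := inf_le_left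
  have hZc := cen_comm S
  have hbot : ∀ Q : Subgroup Ω, F.IsNormal Q → Q = ⊥ := by
    intro Q hQ
    have h1 : Q ≤ F.core := le_sSup hQ
    rw [hcore] at h1
    exact le_bot_iff.mp h1
  have hess_x : ∀ P, F.IsEssential p P → ∃ x ∈ P, x ∉ A := by
    intro P hP
    have hPS : P ≤ S := hP.1.1
    have hCS : centralizerIn S P ≤ P := hP.1.2 P (isConj_refl F hPS)
    by_contra hno
    push Not at hno
    have hPA : P = A := by
      apply le_antisymm (fun x hx => hno x hx)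
      intro a ha
      apply hCS
      refine ⟨h.hAS ha, ?_⟩
      show a ∈ Subgroup.centralizer (P : Set Ω)
      rw [Subgroup.mem_centralizer_iff]
      intro y hy
      exact h.hab y (hno y hy) a ha
    exact hAe (hPA ▸ hP)
  -- Part I
  have hI : ∃ x ∈ S, x ∉ A ∧ F.IsEssential p (cen(S) ⊔ Subgroup.zpowers x) := by
    by_contra hno
    push Not at hno
    have hZnormal : F.IsNormal cen(S) := by
      rw [normal_iff_essential_invariant p hS F hF]
      intro P hP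
      rcases hP with rfl | hP
      · refine ⟨hZS, fun α _ => ?_⟩
        rw [cen_subgroupOf_eq]
        exact Subgroup.characteristic_iff_map_eq.mp inferInstance α
      · obtain ⟨x, hxP, hxA⟩ := hess_x P hP
        have hPS : P ≤ S := hP.1.1
        have hZP := cen_le_of_centric F hP.1
        rcases structure_of_essential h hS F hF hP hxP hxA with h1 | ⟨-, -, -, h4⟩
        · exfalso
          exact hno x (hPS hxP) hxA (h1 ▸ hP)
        · refine ⟨hZP, fun α _ => ?_⟩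
          have hcenter : (cen(S) : Subgroup Ω).subgroupOf P = Subgroup.center ↥P := by
            ext u
            rw [Subgroup.mem_subgroupOf, Subgroup.mem_center_iff]
            constructor
            · intro hu w
              exact Subtype.ext (hZc _ hu w (hPS w.2))
            · intro hu
              exact center_of_nonabelian h hPS hxP hxA h4 u.2
                (fun w hw => congrArg Subtype.val (hu ⟨w, hw⟩))
          rw [hcenter]
          exact Subgroup.characteristic_iff_map_eq.mp inferInstance α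
    have hZbot := hbot _ hZnormal
    haveI : Nontrivial ↥S := by
      by_contra hnt
      rw [not_nontrivial_iff_subsingleton] at hnt
      exact hna ⟨⟨fun a b => Subsingleton.elim _ _⟩⟩
    haveI hcn := IsPGroup.center_nontrivial hS
    obtain ⟨u, hu⟩ := exists_ne (1 : Subgroup.center ↥S)
    have huZ : ((u : ↥S) : Ω) ∈ (cen(S) : Subgroup Ω) := (mem_cen_iff_center S u).mpr u.2
    rw [hZbot, Subgroup.mem_bot] at huZ
    apply hu
    apply Subtype.ext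
    apply Subtype.ext
    exact huZ
  refine ⟨hI, ?_⟩
  obtain ⟨x₀, hx₀S, hx₀A, hP₀⟩ := hI
  have hx₀P₀ : x₀ ∈ (cen(S) : Subgroup Ω) ⊔ Subgroup.zpowers x₀ :=
    (le_sup_right : Subgroup.zpowers x₀ ≤ _) (Subgroup.mem_zpowers x₀)
  obtain ⟨hZ₂A, hcard⟩ := Z₂_card_of_essential hS F hF h huniq hP₀ hx₀P₀ hx₀A
  obtain ⟨r2, r3, r4, r5⟩ := counting h hx₀S hx₀A hZ₂A hcard
  have hab₀ := abelian_of_eq_sup h hP₀.1.1 hx₀P₀ hx₀A rfl
  haveI hfinZ : Finite ↥(cen(S) : Subgroup Ω) := finite_of_le hZS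
  have hZpos : 0 < Nat.card ↥(cen(S) : Subgroup Ω) := Nat.card_pos
  have hp1 : 1 < p := hp.out.one_lt
  have hcardab : ∀ P, F.IsEssential p P → (∀ a ∈ P, ∀ b ∈ P, a * b = b * a) →
      Nat.card P = Nat.card ↥(cen(S) : Subgroup Ω) * p := by
    intro P hP hab
    obtain ⟨x, hxP, hxA⟩ := hess_x P hP
    have h1 := h.card_eq_mul hP.1.1 hxP hxA
    rw [inf_eq_cen_of_abelian h F hP.1 hxP hxA hab] at h1
    exact h1
  have hcardnab : ∀ P, F.IsEssential p P → (¬ ∀ a ∈ P, ∀ b ∈ P, a * b = b * a) →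
      Nat.card P = Nat.card ↥(cen(S) : Subgroup Ω) * p * p := by
    intro P hP hnab
    obtain ⟨x, hxP, hxA⟩ := hess_x P hP
    have h1 := h.card_eq_mul hP.1.1 hxP hxA
    rcases structure_of_essential h hS F hF hP hxP hxA with h2 | ⟨-, -, h3, -⟩
    · exact absurd (abelian_of_eq_sup h hP.1.1 hxP hxA h2) hnab
    · rw [h3, hcard] at h1
      rw [h1, mul_comm p]
  have hZd := zData_cen F
  -- Lemma A
  have zA : ∀ {R : Subgroup Ω} {φ : R →* Ω}, φ ∈ F.Hom R →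
      Nat.card ↥(cen(S) : Subgroup Ω) * p * p < Nat.card R →
      ZCond F cen(S) inf_le_left φ := by
    intro R φ hφ hR
    refine zcond_of_card_lt p hS F hF _ hZd _ ?_ hφ hR
    intro P hP
    left
    by_cases hab : ∀ a ∈ P, ∀ b ∈ P, a * b = b * a
    · rw [hcardab P hP hab]
      exact Nat.le_mul_of_pos_right _ hp.out.pos
    · rw [hcardnab P hP hab]
  -- Step 3
  have hstep3 : ∀ P, F.IsEssential p P → (¬ ∀ a ∈ P, ∀ b ∈ P, a * b = b * a) →
      ∀ α ∈ F.autGroup P, ZCond F cen(S) inf_le_left (P.subtype.comp α.toMonoidHom) := by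
    intro P hP hnab α hα
    obtain ⟨x, hxP, hxA⟩ := hess_x P hP
    have hPS : P ≤ S := hP.1.1
    haveI hfinP : Finite P := finite_of_le hPS
    have hZP := cen_le_of_centric F hP.1
    have hcenter : ∀ u : ↥P, (u : Ω) ∈ (cen(S) : Subgroup Ω) ↔ u ∈ Subgroup.center ↥P := by
      intro u
      rw [Subgroup.mem_center_iff]
      constructor
      · intro hu w
        exact Subtype.ext (hZc _ hu w (hPS w.2))
      · intro hu
        exact center_of_nonabelian h hPS hxP hxA hnab u.2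
          (fun w hw => congrArg Subtype.val (hu ⟨w, hw⟩))
    have hαZ : ∀ (β : MulAut ↥P) (u : ↥P),
        ((β u : ↥P) : Ω) ∈ (cen(S) : Subgroup Ω) ↔ (u : Ω) ∈ (cen(S) : Subgroup Ω) := by
      intro β u
      rw [hcenter, hcenter]
      exact SetLike.ext_iff.mp (Subgroup.Characteristic.fixed
        (inferInstance : (Subgroup.center ↥P).Characteristic) β) u
    refine ⟨fun r hr => (hαZ α r).mp hr, ?_⟩
    obtain ⟨-, R, hR⟩ := fullyAutomized_of_fullyNormalized hS F hF hP.2.1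
    obtain ⟨K, hK⟩ : ∃ K : Subgroup (F.autGroup P), ∀ β : F.autGroup P,
        β ∈ K ↔ ∀ u : ↥P, (u : Ω) ∈ (cen(S) : Subgroup Ω) → (β : MulAut ↥P) u = u := by
      refine ⟨{ carrier := {β | ∀ u : ↥P, (u : Ω) ∈ (cen(S) : Subgroup Ω) →
                  (β : MulAut ↥P) u = u}
                one_mem' := fun u _ => rfl
                mul_mem' := ?_
                inv_mem' := ?_ }, fun β => Iff.rfl⟩
      · intro a b ha hb u hu
        show (a : MulAut ↥P) ((b : MulAut ↥P) u) = u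
        rw [hb u hu, ha u hu]
      · intro a ha u hu
        show ((a : MulAut ↥P)⁻¹) u = u
        calc ((a : MulAut ↥P)⁻¹) u = ((a : MulAut ↥P)⁻¹) ((a : MulAut ↥P) u) := by rw [ha u hu]
          _ = u := MulAut.inv_apply_self _ _ _
    haveI hKn : K.Normal := by
      constructor
      intro β hβ g
      rw [hK] at hβ ⊢
      intro u hu
      show (g : MulAut ↥P) ((β : MulAut ↥P) ((g : MulAut ↥P)⁻¹ u)) = u
      rw [hβ _ ((hαZ _ u).mpr hu), MulAut.apply_inv_self]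
    have hRK : (R : Subgroup (F.autGroup P)) ≤ K := by
      rw [hR]
      intro c hc
      rw [hK]
      intro u hu
      obtain ⟨n, hn, hcn⟩ := (mem_autInducedBy_iff S P c.1).mp (Subgroup.mem_subgroupOf.mp hc)
      apply Subtype.ext
      rw [hcn u, hZc _ hu n hn, mul_inv_cancel_right]
    have hfr := Sylow.normalizer_sup_eq_top' R hRK
    have hαtop : (⟨α, hα⟩ : F.autGroup P) ∈ (⊤ : Subgroup (F.autGroup P)) := Subgroup.mem_top _
    rw [← hfr] at hαtop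
    obtain ⟨n, hn, k, hk, hnk⟩ := Subgroup.mem_sup_of_normal_right.mp hαtop
    have hn' : n ∈ Subgroup.normalizer ((R : Subgroup (F.autGroup P)) : Set (F.autGroup P)) := hn
    have hnT : ∀ c ∈ autInducedBy S P,
        (n : MulAut ↥P) * c * (n : MulAut ↥P)⁻¹ ∈ autInducedBy S P := by
      intro c hc
      have hcG := autInducedBy_le_autGroup F hPS hc
      have h1 : (⟨c, hcG⟩ : F.autGroup P) ∈ (R : Subgroup (F.autGroup P)) := by
        rw [hR]
        exact Subgroup.mem_subgroupOf.mpr hc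
      have h2 := (Subgroup.mem_normalizer_iff.mp hn' ⟨c, hcG⟩).mp h1
      rw [hR, Subgroup.mem_subgroupOf] at h2
      exact h2
    have hY : ∀ g' ∈ ((normalizerIn S P : Subgroup Ω) : Set Ω), g' ∈ S ∧
        g' ∈ Subgroup.normalizer (P : Set Ω) ∧ ∃ g'' ∈ S,
        ∀ (x : P) (hx : g' * (x : Ω) * g'⁻¹ ∈ P),
          (((n : MulAut ↥P) ⟨g' * x * g'⁻¹, hx⟩ : P) : Ω) =
            g'' * (((n : MulAut ↥P) x : P) : Ω) * g''⁻¹ := by
      intro g' hg'
      have hg'S : g' ∈ S := hg'.1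
      have hg'N : g' ∈ Subgroup.normalizer (P : Set Ω) := hg'.2
      refine ⟨hg'S, hg'N, ?_⟩
      have hc : conjAut P ⟨g', hg'N⟩ ∈ autInducedBy S P := by
        rw [mem_autInducedBy_iff]
        exact ⟨g', hg'S, fun v => rfl⟩
      obtain ⟨g'', hg'', hgg⟩ := (mem_autInducedBy_iff S P _).mp (hnT _ hc)
      refine ⟨g'', hg'', fun x hx => ?_⟩
      have h1 := hgg ((n : MulAut ↥P) x)
      have h2 : ((n : MulAut ↥P) * conjAut P ⟨g', hg'N⟩ * (n : MulAut ↥P)⁻¹)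
          ((n : MulAut ↥P) x) = (n : MulAut ↥P) (conjAut P ⟨g', hg'N⟩ x) := by
        rw [MulAut.mul_apply, MulAut.mul_apply, MulAut.inv_apply_self]
      rw [h2] at h1
      have h3 : conjAut P ⟨g', hg'N⟩ x = ⟨g' * x * g'⁻¹, hx⟩ := Subtype.ext rfl
      rw [h3] at h1
      exact h1
    obtain ⟨N, ψ, hψ, hPN, hYN, hψn⟩ := exists_extension hS F hF hP.2.1 n.2 _ hY
    have hNS : N ≤ S := (F.le_of_mem hψ).1
    haveI : Finite N := finite_of_le hNS
    have hcardN : Nat.card ↥(cen(S) : Subgroup Ω) * p * p < Nat.card N := by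
      have h1 : Nat.card ↥(normalizerIn S P) ≤ Nat.card N :=
        Subgroup.card_le_of_le (SetLike.coe_subset_coe.mp hYN)
      have h2 := index_normalizer h hS F hF hP hxP hxA
      have h3 : Nat.card ↥(normalizerIn S P) = Nat.card P * p := by
        have h4 := card_eq_card_mul_relIndex (self_le_normalizerIn' hPS : P ≤ normalizerIn S P)
        have h5 : P.relIndex (normalizerIn S P) = p := h2
        rw [h5] at h4
        exact h4
      rw [h3, hcardnab P hP hnab] at h1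
      calc Nat.card ↥(cen(S) : Subgroup Ω) * p * p
          < Nat.card ↥(cen(S) : Subgroup Ω) * p * p * p :=
            lt_mul_of_one_lt_right (Nat.mul_pos (Nat.mul_pos hZpos hp.out.pos) hp.out.pos) hp1
        _ ≤ Nat.card N := h1
    obtain ⟨c1, γ, hγ, c2⟩ := zA hψ hcardN
    refine ⟨γ, hγ, fun r hr => ?_⟩
    have hαnk : α = (n : MulAut ↥P) * (k : MulAut ↥P) := (congrArg Subtype.val hnk).symm
    have hkr : (k : MulAut ↥P) r = r := (hK k).mp hk r hr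
    show ((α r : ↥P) : Ω) = _
    rw [hαnk, MulAut.mul_apply, hkr, ← hψn r (hPN r.2)]
    exact c2 ⟨r, hPN r.2⟩ hr
  -- Lemma B
  have zB : ∀ {R : Subgroup Ω} {φ : R →* Ω}, φ ∈ F.Hom R →
      Nat.card ↥(cen(S) : Subgroup Ω) * p < Nat.card R →
      ZCond F cen(S) inf_le_left φ := by
    intro R φ hφ hR
    refine zcond_of_card_lt p hS F hF _ hZd _ ?_ hφ hR
    intro P hP
    by_cases hab : ∀ a ∈ P, ∀ b ∈ P, a * b = b * a
    · left
      rw [hcardab P hP hab]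
    · right
      exact hstep3 P hP hab
  -- the group data
  obtain ⟨Γ, hΓ⟩ : ∃ Γ : Subgroup (MulAut ↥S), Γ = F.autGroup S := ⟨_, rfl⟩
  obtain ⟨H, hHdef⟩ : ∃ H : Subgroup ↥S, H = (cen(S) : Subgroup Ω).subgroupOf S := ⟨_, rfl⟩
  obtain ⟨H₀, hH₀def⟩ : ∃ H₀ : Subgroup ↥S, H₀ = (cen(S) ⊓ der(S) : Subgroup Ω).subgroupOf S :=
    ⟨_, rfl⟩
  have hHmem : ∀ z : ↥S, z ∈ H ↔ (z : Ω) ∈ (cen(S) : Subgroup Ω) := by
    intro z
    rw [hHdef]
    exact Subgroup.mem_subgroupOf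
  have hH₀mem : ∀ z : ↥S, z ∈ H₀ ↔ (z : Ω) ∈ (cen(S) ⊓ der(S) : Subgroup Ω) := by
    intro z
    rw [hH₀def]
    exact Subgroup.mem_subgroupOf
  have hH : ∀ γ ∈ Γ, ∀ z, γ z ∈ H ↔ z ∈ H := by
    intro γ _ z
    rw [hHmem, hHmem]
    exact aut_mem_cen_iff γ z
  have hH₀ : ∀ γ ∈ Γ, ∀ z, γ z ∈ H₀ ↔ z ∈ H₀ := by
    intro γ _ z
    rw [hH₀mem, hH₀mem]
    have e1 := aut_mem_cen_iff γ z
    have e2 := aut_mem_der_iff γ z
    exact ⟨fun hh => ⟨e1.mp hh.1, e2.mp hh.2⟩, fun hh => ⟨e1.mpr hh.1, e2.mpr hh.2⟩⟩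
  have hK : ∀ g ∈ Γ, (∀ z ∈ H, g z * z⁻¹ ∈ H₀) → (∀ z ∈ H₀, g z = z) → ∀ z ∈ H, g z = z := by
    intro g hg h1 h2 z hz
    rw [hΓ] at hg
    exact fix_of_stab_S hS F hF r2 g hg
      (fun z hz => (hH₀mem _).mp (h1 z ((hHmem z).mpr hz)))
      (fun z hz => h2 z ((hH₀mem z).mpr hz)) z ((hHmem z).mp hz)
  -- local data at `P₀`
  obtain ⟨t₀, ht₀fix, hT₀fix, ⟨g₀, hg₀, hg₀t⟩, hmain₀⟩ :=
    local_S h hS F hF hp2 hP₀ hx₀P₀ hx₀A hab₀ hZ₂A r2 @zB
  obtain ⟨η₀, hη₀, hη₀1, hη₀2, -⟩ := hmain₀ g₀ hg₀ hg₀t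
  have hη₀Γ : η₀ ∈ Γ := by
    rw [hΓ]
    exact hη₀
  have hη₀1' : ∀ z ∈ H, η₀ z * z⁻¹ ∈ H₀ :=
    fun z hz => (hH₀mem _).mpr (hη₀1 z ((hHmem z).mp hz))
  have hη₀2' : ∀ z ∈ H₀, η₀ z = z⁻¹ := fun z hz => hη₀2 z ((hH₀mem z).mp hz)
  obtain ⟨Z₁s, hZ₁s⟩ : ∃ Z₁s : Subgroup ↥S, ∀ z : ↥S, z ∈ Z₁s ↔ (z ∈ H ∧ η₀ z = z) := by
    refine ⟨{ carrier := {z | z ∈ H ∧ η₀ z = z}
              one_mem' := ⟨H.one_mem, map_one η₀⟩
              mul_mem' := ?_
              inv_mem' := ?_ }, fun z => Iff.rfl⟩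
    · rintro a b ⟨ha, ha'⟩ ⟨hb, hb'⟩
      exact ⟨H.mul_mem ha hb, by rw [map_mul, ha', hb']⟩
    · rintro a ⟨ha, ha'⟩
      exact ⟨H.inv_mem ha, by rw [map_inv, ha']⟩
  have K1 : ∀ γ ∈ Γ, ∀ z ∈ Z₁s, γ z ∈ Z₁s := by
    intro γ hγ z hz
    rw [hZ₁s] at hz ⊢
    refine ⟨(hH γ hγ z).mpr hz.1, ?_⟩
    rw [← commute_of_inverting H H₀ Γ hH hH₀ hK hη₀Γ hγ hη₀1' hη₀2' z hz.1, hz.2]
  have K2 : ∀ η ∈ Γ, (∀ z ∈ H, η z * z⁻¹ ∈ H₀) → (∀ z ∈ H₀, η z = z⁻¹) →
      ∀ z ∈ H, η z = η₀ z :=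
    fun η hη h1 h2 => agree_of_inverting H H₀ Γ hH hK hη hη₀Γ h1 h2 hη₀1' hη₀2'
  obtain ⟨Z₁, hZ₁⟩ : ∃ Z₁ : Subgroup Ω, Z₁ = Z₁s.map S.subtype := ⟨_, rfl⟩
  have hZ₁mem : ∀ w : Ω, w ∈ Z₁ ↔ ∃ hw : w ∈ S, (⟨w, hw⟩ : ↥S) ∈ Z₁s := by
    intro w
    rw [hZ₁]
    constructor
    · rintro ⟨z, hz, rfl⟩
      exact ⟨z.2, hz⟩
    · rintro ⟨hw, hz⟩
      exact ⟨⟨w, hw⟩, hz, rfl⟩
  have hZ₁Z : Z₁ ≤ (cen(S) : Subgroup Ω) := by
    intro w hw
    obtain ⟨hwS, hz⟩ := (hZ₁mem w).mp hw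
    exact (hHmem _).mp ((hZ₁s _).mp hz).1
  have hZ₁normal : F.IsNormal Z₁ := by
    rw [normal_iff_essential_invariant p hS F hF]
    intro P hP
    rcases hP with rfl | hP
    · refine ⟨hZ₁Z.trans hZS, fun α hα => ?_⟩
      refine map_eq_of_forall_map_le (A := F.autGroup P) ?_ hα
      intro β hβ
      rintro _ ⟨z, hz, rfl⟩
      have hz0 : (z : Ω) ∈ Z₁ := hz
      show ((β z : ↥P) : Ω) ∈ Z₁
      obtain ⟨hzS, hz'⟩ := (hZ₁mem _).mp hz0
      rw [hZ₁mem]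
      refine ⟨(β z).2, ?_⟩
      exact K1 β (by rw [hΓ]; exact hβ) z hz'
    · obtain ⟨x, hxP, hxA⟩ := hess_x P hP
      have hPS : P ≤ S := hP.1.1
      have hZP := cen_le_of_centric F hP.1
      refine ⟨hZ₁Z.trans hZP, fun α hα => ?_⟩
      refine map_eq_of_forall_map_le (A := F.autGroup P) ?_ hα
      intro β hβ
      by_cases hab : ∀ a ∈ P, ∀ b ∈ P, a * b = b * a
      · obtain ⟨t, htfix, hTfix, ⟨g₁, hg₁, hg₁t⟩, hmainP⟩ :=
          local_S h hS F hF hp2 hP hxP hxA hab hZ₂A r2 @zB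
        have hstar : ∀ g ∈ F.autGroup P, g * t * g⁻¹ ∉ autInducedBy S P →
            ∀ (v : ↥P) (hv : (v : Ω) ∈ (cen(S) : Subgroup Ω)),
              ((⟨v, hv.1⟩ : ↥S) ∈ Z₁s ↔ g (t (g⁻¹ v)) = v) := by
          intro g hg hgt v hv
          obtain ⟨γ, hγ, hγ1, hγ2, hγ3⟩ := hmainP g hg hgt
          have hγΓ : γ ∈ Γ := by
            rw [hΓ]
            exact hγ
          have hvH : (⟨v, hv.1⟩ : ↥S) ∈ H := (hHmem _).mpr hv
          have h1 := K2 γ hγΓ (fun z hz => (hH₀mem _).mpr (hγ1 z ((hHmem z).mp hz)))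
            (fun z hz => hγ2 z ((hH₀mem z).mp hz)) _ hvH
          rw [← hγ3 v hv, hZ₁s, h1]
          exact ⟨fun h2 => h2.2, fun h2 => ⟨hvH, h2⟩⟩
        have h3' : ∀ g ∈ F.autGroup P, ∀ (v : ↥P) (hv : (v : Ω) ∈ (cen(S) : Subgroup Ω)),
            (⟨v, hv.1⟩ : ↥S) ∈ Z₁s → g (t (g⁻¹ v)) = v := by
          intro g hg v hv hvZ₁
          by_cases hgt : g * t * g⁻¹ ∈ autInducedBy S P
          · exact hTfix _ hgt v hv
          · exact (hstar g hg hgt v hv).mp hvZ₁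
        rintro _ ⟨v, hv0, rfl⟩
        have hv : (v : Ω) ∈ Z₁ := hv0
        show ((β v : ↥P) : Ω) ∈ Z₁
        obtain ⟨hvS, hvZ₁⟩ := (hZ₁mem _).mp hv
        have hvZ : (v : Ω) ∈ (cen(S) : Subgroup Ω) := hZ₁Z hv
        have ha : t (β v) = β v := by
          have h4 := h3' β⁻¹ (Subgroup.inv_mem _ hβ) v hvZ hvZ₁
          rw [inv_inv] at h4
          have h5 : β (β⁻¹ (t (β v))) = β v := by rw [h4]
          rw [MulAut.apply_inv_self] at h5
          exact h5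
        have hβvZ : ((β v : ↥P) : Ω) ∈ (cen(S) : Subgroup Ω) := (htfix _).mp ha
        have hb : g₁ (t (g₁⁻¹ (β v))) = β v := by
          have h4 := h3' (β⁻¹ * g₁) (Subgroup.mul_mem _ (Subgroup.inv_mem _ hβ) hg₁) v hvZ hvZ₁
          rw [mul_inv_rev, inv_inv, MulAut.mul_apply, MulAut.mul_apply] at h4
          have h5 : β (β⁻¹ (g₁ (t (g₁⁻¹ (β v))))) = β v := by rw [h4]
          rw [MulAut.apply_inv_self] at h5
          exact h5
        rw [hZ₁mem]
        exact ⟨hβvZ.1, (hstar g₁ hg₁ hg₁t (β v) hβvZ).mpr hb⟩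
      · obtain ⟨c1, γ, hγ, c2⟩ := hstep3 P hP hab β hβ
        rintro _ ⟨v, hv0, rfl⟩
        have hv : (v : Ω) ∈ Z₁ := hv0
        show ((β v : ↥P) : Ω) ∈ Z₁
        obtain ⟨hvS, hvZ₁⟩ := (hZ₁mem _).mp hv
        have hvZ : (v : Ω) ∈ (cen(S) : Subgroup Ω) := hZ₁Z hv
        have h1 : ((β v : ↥P) : Ω) = ((γ ⟨v, hvZ.1⟩ : ↥S) : Ω) := c2 v hvZ
        have h2 := K1 γ (by rw [hΓ]; exact hγ) ⟨v, hvS⟩ hvZ₁
        rw [hZ₁mem]
        have hw : ((β v : ↥P) : Ω) ∈ S := hPS (β v).2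
        refine ⟨hw, ?_⟩
        have e : (⟨((β v : ↥P) : Ω), hw⟩ : ↥S) = γ ⟨v, hvS⟩ := Subtype.ext h1
        rw [e]
        exact h2
  have hZ₁bot := hbot Z₁ hZ₁normal
  -- Step 8
  have hZZ₀ : (cen(S) : Subgroup Ω) ≤ der(S) := by
    intro z hz
    obtain ⟨zS, hzS⟩ : ∃ zS : ↥S, zS = ⟨z, hZS hz⟩ := ⟨_, rfl⟩
    have hzH : zS ∈ H := by
      rw [hHmem, hzS]
      exact hz
    obtain ⟨ν, hν⟩ : ∃ ν, ν = η₀ zS * zS⁻¹ := ⟨_, rfl⟩
    have hνH₀ : ν ∈ H₀ := hν ▸ hη₀1' zS hzH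
    have hη₀z : η₀ zS = ν * zS := by rw [hν, inv_mul_cancel_right]
    have hνp : ν ^ p = 1 := by
      have hν' : (ν : Ω) ∈ (cen(S) ⊓ der(S) : Subgroup Ω) := (hH₀mem ν).mp hνH₀
      have h5 : (⟨(ν : Ω), hν'⟩ : ↥(cen(S) ⊓ der(S) : Subgroup Ω)) ^
          Nat.card ↥(cen(S) ⊓ der(S) : Subgroup Ω) = 1 := pow_card_eq_one'
      rw [r2] at h5
      have h6 : (ν : Ω) ^ p = 1 := congrArg Subtype.val h5
      exact Subtype.ext h6
    obtain ⟨k, hk⟩ : ∃ k, k + k = p + 1 := by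
      rcases hp.out.eq_two_or_odd' with h2 | ⟨m, hm⟩
      · exact absurd h2 hp2
      · exact ⟨m + 1, by omega⟩
    obtain ⟨u, hu⟩ : ∃ u, u = ν ^ k := ⟨_, rfl⟩
    have huH₀ : u ∈ H₀ := hu ▸ H₀.pow_mem hνH₀ k
    have hu2 : u * u = ν := by rw [hu, ← pow_add, hk, pow_succ, hνp, one_mul]
    have huH : u ∈ H := (hHmem u).mpr ((hH₀mem u).mp huH₀).1
    have hcomm : ∀ a b : ↥S, a ∈ H → a * b = b * a := by
      intro a b ha
      exact Subtype.ext (hZc _ ((hHmem a).mp ha) b b.2).symm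
    have hw : zS * u ∈ Z₁s := by
      rw [hZ₁s]
      refine ⟨H.mul_mem hzH huH, ?_⟩
      rw [map_mul, hη₀z, hη₀2' u huH₀, ← hu2]
      have e1 : u * zS = zS * u := hcomm u zS huH
      calc u * u * zS * u⁻¹ = u * (u * zS) * u⁻¹ := by group
        _ = u * (zS * u) * u⁻¹ := by rw [e1]
        _ = u * zS := by group
        _ = zS * u := e1
    have hw' : ((zS * u : ↥S) : Ω) ∈ Z₁ := (hZ₁mem _).mpr ⟨(zS * u).2, hw⟩
    rw [hZ₁bot, Subgroup.mem_bot] at hw'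
    have h7 : zS = u⁻¹ := eq_inv_of_mul_eq_one_left (Subtype.ext hw')
    have h8 : zS ∈ H₀ := h7 ▸ H₀.inv_mem huH₀
    have h9 := ((hH₀mem zS).mp h8).2
    rw [hzS] at h9
    exact h9
  refine ⟨hZZ₀, ?_⟩
  -- Part III
  intro n hn hn3
  have hZeq : Nat.card ↥(cen(S) : Subgroup Ω) = p := by
    have h1 := r2
    rw [inf_eq_left.mpr hZZ₀] at h1
    exact h1
  have hSZ := card_eq_card_mul_relIndex hZS
  rw [hn, hZeq] at hSZ
  have hidx : ((cen(S) : Subgroup Ω).subgroupOf S).index = p ^ (n - 1) := by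
    have h1 : p ^ n = p * p ^ (n - 1) := by
      rw [← pow_succ']
      congr 1
      omega
    rw [h1] at hSZ
    exact (Nat.eq_of_mul_eq_mul_left hp.out.pos hSZ).symm
  by_cases hn4 : 4 ≤ n
  · have h1 := r5 (n - 1) hidx (by omega)
    intro hbotL
    apply h1
    have e : n - 2 = (n - 1 - 2) + 1 := by omega
    rw [e, Subgroup.lowerCentralSeries_succ,
      Subgroup.commutator_eq_bot_iff_le_centralizer] at hbotL
    exact le_inf (Subgroup.lowerCentralSeries_le_self S _) hbotL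
  · have hn' : n = 3 := by omega
    subst hn'
    intro hbotL
    have e : (3 : ℕ) - 2 = 0 + 1 := rfl
    rw [e, Subgroup.lowerCentralSeries_succ, Subgroup.lowerCentralSeries_zero,
      Subgroup.commutator_eq_bot_iff_le_centralizer] at hbotL
    obtain ⟨s, hs, t, ht, hst⟩ := h.hna
    exact hst (Subgroup.mem_centralizer_iff.mp (hbotL ht) s hs)

end main

end Cfsg.Agent.Lib.Helper1.ET
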