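import Mathlib
import Cfsg.Agent.Lib.Helper1.ET11
import Cfsg.Agent.Lib.Helper1.Rk3

set_option autoImplicit false
set_option linter.style.haveILetI false
set_option linter.unusedSectionVars false
set_option linter.unusedVariables false
set_option maxHeartbeats 4000000

/-! `p`-groups whose commutators lie in a central subgroup of order `p`: if `O_p(F) = 1` then
`Z(S) ≤ S'`.  Application: extraspecial subgroups of index `p` (S5178). -/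

namespace Cfsg.Agent.Lib.Helper1.ET

open Cfsg Cfsg.FusionSystem Cfsg.Agent.Lib.Helper9 Cfsg.Agent.Lib.Helper7 Cfsg.Agent.Lib.Helper1
  Cfsg.Agent.Lib.Helper2.EssGen

open scoped commutatorElement

local notation "cen(" S ")" => (S ⊓ Subgroup.centralizer (S : Set _))
local notation "der(" S ")" => (Subgroup.map (Subgroup.subtype S) (commutator ↥S))

variable {Ω : Type*} [Group Ω] {S : Subgroup Ω}

/-- the commutator map `s ↦ [s, m]` into a central subgroup containing the commutators -/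
def commHomC (S C : Subgroup Ω) (hCc : ∀ z ∈ C, ∀ s ∈ S, s * z = z * s)
    (hcomm : ∀ a ∈ S, ∀ b ∈ S, a * b * a⁻¹ * b⁻¹ ∈ C) {m : Ω} (hm : m ∈ S) : ↥S →* ↥C where
  toFun s := ⟨(s : Ω) * m * (s : Ω)⁻¹ * m⁻¹, hcomm s s.2 m hm⟩
  map_one' := by
    apply Subtype.ext
    show ((1 : ↥S) : Ω) * m * ((1 : ↥S) : Ω)⁻¹ * m⁻¹ = 1
    rw [Subgroup.coe_one]
    group
  map_mul' := by
    intro a b
    apply Subtype.ext
    show ((a * b : ↥S) : Ω) * m * ((a * b : ↥S) : Ω)⁻¹ * m⁻¹ =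
      ((a : Ω) * m * (a : Ω)⁻¹ * m⁻¹) * ((b : Ω) * m * (b : Ω)⁻¹ * m⁻¹)
    have hb := hcomm b b.2 m hm
    have haS : (a : Ω) * m * (a : Ω)⁻¹ * m⁻¹ ∈ S :=
      S.mul_mem (S.mul_mem (S.mul_mem a.2 hm) (S.inv_mem a.2)) (S.inv_mem hm)
    have e : ((a * b : ↥S) : Ω) * m * ((a * b : ↥S) : Ω)⁻¹ * m⁻¹ =
        (a : Ω) * ((b : Ω) * m * (b : Ω)⁻¹ * m⁻¹) * (a : Ω)⁻¹ *
          ((a : Ω) * m * (a : Ω)⁻¹ * m⁻¹) := by
      rw [Subgroup.coe_mul]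
      group
    rw [e, hCc _ hb a a.2, mul_inv_cancel_right]
    exact (hCc _ hb _ haS).symm

theorem comm_decomp {p : ℕ} [hp : Fact p.Prime] (S C : Subgroup Ω) (hC : Nat.card C = p)
    (hCc : ∀ z ∈ C, ∀ s ∈ S, s * z = z * s)
    (hcomm : ∀ a ∈ S, ∀ b ∈ S, a * b * a⁻¹ * b⁻¹ ∈ C) {m y : Ω} (hm : m ∈ S) (hy : y ∈ S)
    (hym : y * m ≠ m * y) :
    ∀ s ∈ S, ∃ k : ℤ, ∃ u ∈ S, u * m = m * u ∧ s = y ^ k * u := by
  obtain ⟨f, hf⟩ : ∃ f : ↥S →* ↥C, ∀ s : ↥S, ((f s : ↥C) : Ω) = (s : Ω) * m * (s : Ω)⁻¹ * m⁻¹ :=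
    ⟨commHomC S C hCc hcomm hm, fun s => rfl⟩
  intro s hs
  have hfy : f ⟨y, hy⟩ ≠ 1 := by
    intro h1
    have h2 : y * m * y⁻¹ * m⁻¹ = 1 := by
      rw [← hf ⟨y, hy⟩, h1]
      rfl
    apply hym
    have e : y * m = (y * m * y⁻¹ * m⁻¹) * (m * y) := by group
    rw [e, h2, one_mul]
  have h3 : f ⟨s, hs⟩ ∈ Subgroup.zpowers (f ⟨y, hy⟩) := mem_zpowers_of_prime_card hC hfy
  obtain ⟨k, hk⟩ := Subgroup.mem_zpowers_iff.mp h3
  have huS : y ^ (-k) * s ∈ S := S.mul_mem (S.zpow_mem hy _) hs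
  refine ⟨k, y ^ (-k) * s, huS, ?_, by group⟩
  have h4 : f ⟨y ^ (-k) * s, huS⟩ = 1 := by
    have e : (⟨y ^ (-k) * s, huS⟩ : ↥S) = (⟨y, hy⟩ : ↥S) ^ (-k) * ⟨s, hs⟩ := by
      apply Subtype.ext
      rw [Subgroup.coe_mul, Subgroup.coe_zpow]
    rw [e, map_mul, map_zpow, ← hk, zpow_neg, inv_mul_cancel]
  have h5 : (y ^ (-k) * s) * m * (y ^ (-k) * s)⁻¹ * m⁻¹ = 1 := by
    rw [← hf ⟨y ^ (-k) * s, huS⟩, h4]
    rfl
  have e : (y ^ (-k) * s) * m = ((y ^ (-k) * s) * m * (y ^ (-k) * s)⁻¹ * m⁻¹) *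
      (m * (y ^ (-k) * s)) := by group
  rw [e, h5, one_mul]

theorem decomp_of_relIndex [Finite S] {p : ℕ} [hp : Fact p.Prime] {Q : Subgroup Ω}
    (hQS : Q ≤ S) (hidx : Q.relIndex S = p) (hnorm : S ≤ Subgroup.normalizer (Q : Set Ω))
    {x : Ω} (hxS : x ∈ S) (hxQ : x ∉ Q) : ∀ s ∈ S, ∃ k : ℤ, ∃ a ∈ Q, s = x ^ k * a := by
  obtain ⟨K, hK⟩ : ∃ K, K = Subgroup.zpowers x ⊔ Q := ⟨_, rfl⟩
  have hQK : Q ≤ K := hK ▸ le_sup_right
  have hxK : x ∈ K := hK ▸ (le_sup_left : Subgroup.zpowers x ≤ _) (Subgroup.mem_zpowers x)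
  have hKS : K ≤ S := hK ▸ sup_le (Subgroup.zpowers_le.mpr hxS) hQS
  have h1 := Subgroup.relIndex_mul_relIndex Q K S hQK hKS
  rw [hidx] at h1
  have h2 : Q.relIndex K ≠ 1 := fun h' => hxQ (Subgroup.relIndex_eq_one.mp h' hxK)
  have h3 : Q.relIndex K ∣ p := ⟨_, h1.symm⟩
  have h4 : Q.relIndex K = p := ((Nat.dvd_prime hp.out).mp h3).resolve_left h2
  rw [h4] at h1
  have h5 : K.relIndex S = 1 := Nat.eq_of_mul_eq_mul_left hp.out.pos (by rw [h1, mul_one])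
  have hSK : S ≤ K := Subgroup.relIndex_eq_one.mp h5
  intro s hs
  have hs' : s ∈ Subgroup.zpowers x ⊔ Q := hK ▸ hSK hs
  have hzn : Subgroup.zpowers x ≤ Subgroup.normalizer (Q : Set Ω) :=
    (Subgroup.zpowers_le.mpr hxS).trans hnorm
  obtain ⟨c, hc, a, ha, hca⟩ := exists_mul_of_mem_sup hzn hs'
  obtain ⟨k, rfl⟩ := Subgroup.mem_zpowers_iff.mp hc
  exact ⟨k, a, ha, hca⟩

/-- an extraspecial subgroup `Q` of index `p`: `Z(Q) ≤ Z(S)`, and if `Z(S) ≠ Z(Q)` all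
commutators of `S` lie in `Z(Q) = Z(S) ∩ S'`. -/
theorem extraspecial_index_p_comm [Finite S] {p : ℕ} [hp : Fact p.Prime] (hS : IsPGroup p S)
    (Q : Subgroup Ω) (hQS : Q ≤ S) (hQ : Cfsg.IsExtraspecial p ↥Q)
    (hQi : (Q.subgroupOf S).index = p) :
    (cen(Q) : Subgroup Ω) ≤ cen(S) ∧ (¬ (cen(S) : Subgroup Ω) ≤ cen(Q) →
      Nat.card ↥(cen(S) ⊓ der(S) : Subgroup Ω) = p ∧
      (cen(S) ⊓ der(S) : Subgroup Ω) = cen(Q) ∧
      ∀ a ∈ S, ∀ b ∈ S, a * b * a⁻¹ * b⁻¹ ∈ (cen(S) ⊓ der(S) : Subgroup Ω)) := by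
  haveI hfinQ : Finite Q := finite_of_le hQS
  obtain ⟨hZ₀card, hcommQ⟩ := extraspecial_ambient Q hQ
  obtain ⟨Z₀, hZ₀def⟩ : ∃ Z₀, Z₀ = Q ⊓ Subgroup.centralizer (Q : Set Ω) := ⟨_, rfl⟩
  rw [← hZ₀def] at hZ₀card hcommQ ⊢
  have hQnorm : ∀ s ∈ S, ∀ q ∈ Q, s * q * s⁻¹ ∈ Q := by
    obtain ⟨k, hk⟩ := IsPGroup.iff_card.mp hS
    have hk0 : k ≠ 0 := by
      intro h0
      rw [h0, pow_zero] at hk
      have h1 : (Q.subgroupOf S).index ∣ Nat.card ↥S := Subgroup.index_dvd_card _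
      rw [hQi, hk] at h1
      exact hp.out.one_lt.ne' (Nat.dvd_one.mp h1)
    haveI : (Q.subgroupOf S).Normal := by
      apply Subgroup.normal_of_index_eq_minFac_card
      rw [hQi, hk, Nat.Prime.pow_minFac hp.out hk0]
    intro s hs q hq
    have h1 : (⟨s, hs⟩ : ↥S) * ⟨q, hQS hq⟩ * (⟨s, hs⟩ : ↥S)⁻¹ ∈ Q.subgroupOf S :=
      Subgroup.Normal.conj_mem inferInstance _ (Subgroup.mem_subgroupOf.mpr hq) _
    exact Subgroup.mem_subgroupOf.mp h1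
  have hZ₀Q : Z₀ ≤ Q := hZ₀def ▸ inf_le_left
  have hZ₀S : Z₀ ≤ S := hZ₀Q.trans hQS
  have hZ₀c : ∀ z ∈ Z₀, ∀ q ∈ Q, q * z = z * q := by
    intro z hz q hq
    rw [hZ₀def] at hz
    exact Subgroup.mem_centralizer_iff.mp hz.2 q hq
  have hZ₀norm : ∀ s ∈ S, ∀ z ∈ Z₀, s * z * s⁻¹ ∈ Z₀ := by
    intro s hs z hz
    rw [hZ₀def]
    refine ⟨hQnorm s hs z (hZ₀Q hz), ?_⟩
    show s * z * s⁻¹ ∈ Subgroup.centralizer (Q : Set Ω)
    rw [Subgroup.mem_centralizer_iff]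
    intro q hq
    have hq' : s⁻¹ * q * s ∈ Q := by
      have := hQnorm s⁻¹ (S.inv_mem hs) q hq
      rwa [inv_inv] at this
    have h1 := hZ₀c z hz _ hq'
    have e1 : q * (s * z * s⁻¹) = s * ((s⁻¹ * q * s) * z) * s⁻¹ := by group
    have e2 : (s * z * s⁻¹) * q = s * (z * (s⁻¹ * q * s)) * s⁻¹ := by group
    rw [e1, e2, h1]
  have hZ₀Z : Z₀ ≤ (cen(S) : Subgroup Ω) := by
    haveI : Group.IsNilpotent ↥S := hS.isNilpotent
    haveI hN : (Z₀.subgroupOf S).Normal := ⟨fun n hn s => by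
      rw [Subgroup.mem_subgroupOf] at hn ⊢
      exact hZ₀norm s s.2 n hn⟩
    have hcard : Nat.card ↥(Z₀.subgroupOf S) = p := by
      rw [← hZ₀card]
      exact Nat.card_congr (Subgroup.subgroupOfEquivOfLe hZ₀S).toEquiv
    have hle := Rk.le_center_of_normal_card_prime (Z₀.subgroupOf S) hcard
    intro z hz
    have h1 : (⟨z, hZ₀S hz⟩ : ↥S) ∈ Subgroup.center ↥S := hle (Subgroup.mem_subgroupOf.mpr hz)
    exact (mem_cen_iff_center S ⟨z, hZ₀S hz⟩).mpr h1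
  refine ⟨hZ₀Z, fun hne => ?_⟩
  obtain ⟨z₁, hz₁Z, hz₁Q⟩ : ∃ z₁ ∈ (cen(S) : Subgroup Ω), z₁ ∉ Q := by
    by_contra hno
    push Not at hno
    apply hne
    intro z hz
    rw [hZ₀def]
    exact ⟨hno z hz, Subgroup.mem_centralizer_iff.mpr (fun q hq => cen_comm S z hz q (hQS hq))⟩
  have hz₁S : z₁ ∈ S := hz₁Z.1
  have hdec := decomp_of_relIndex hQS hQi
    (fun s hs => KN.mem_normalizer_of_forall_conj_mem (hQnorm s hs)) hz₁S hz₁Q
  have hZ₀cS : ∀ z ∈ Z₀, ∀ s ∈ S, s * z = z * s := fun z hz => cen_comm S z (hZ₀Z hz)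
  have hz₁mem : ∀ b ∈ S, z₁ ∈ commSub S Z₀ hZ₀cS b := by
    intro b hb
    rw [mem_commSub]
    refine ⟨hz₁S, ?_⟩
    have h1 : z₁ * b = b * z₁ := (cen_comm S z₁ hz₁Z b hb).symm
    have h2 : z₁ * b * z₁⁻¹ * b⁻¹ = 1 := by
      rw [h1]
      group
    rw [h2]
    exact Z₀.one_mem
  have hQb : ∀ q ∈ Q, ∀ b ∈ S, q * b * q⁻¹ * b⁻¹ ∈ Z₀ := by
    intro q hq b hb
    apply comm_symm_mem Z₀
    obtain ⟨l, q', hq', rfl⟩ := hdec b hb
    have h1 : z₁ ^ l * q' ∈ commSub S Z₀ hZ₀cS q :=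
      Subgroup.mul_mem _ (Subgroup.zpow_mem _ (hz₁mem q (hQS hq)) l)
        ((mem_commSub S Z₀ hZ₀cS q q').mpr ⟨hQS hq', hcommQ q' hq' q hq⟩)
    exact ((mem_commSub S Z₀ hZ₀cS q _).mp h1).2
  have hcommS : ∀ a ∈ S, ∀ b ∈ S, a * b * a⁻¹ * b⁻¹ ∈ Z₀ := by
    intro a ha b hb
    obtain ⟨k, q, hq, rfl⟩ := hdec a ha
    have h1 : z₁ ^ k * q ∈ commSub S Z₀ hZ₀cS b :=
      Subgroup.mul_mem _ (Subgroup.zpow_mem _ (hz₁mem b hb) k)
        ((mem_commSub S Z₀ hZ₀cS b q).mpr ⟨hQS hq, hQb q hq b hb⟩)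
    exact ((mem_commSub S Z₀ hZ₀cS b _).mp h1).2
  have hder_le : (der(S) : Subgroup Ω) ≤ Z₀ := by
    rw [Subgroup.map_le_iff_le_comap, commutator_def, Subgroup.commutator_le]
    intro a _ b _
    rw [Subgroup.mem_comap]
    show ((a * b * a⁻¹ * b⁻¹ : ↥S) : Ω) ∈ Z₀
    exact hcommS a a.2 b b.2
  have hZ₀_le_der : Z₀ ≤ (der(S) : Subgroup Ω) := by
    intro z hz
    have hz' : z ∈ Q ⊓ Subgroup.centralizer (Q : Set Ω) := hZ₀def ▸ hz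
    have hzQ : z ∈ Q := hz'.1
    have h1 : (⟨z, hzQ⟩ : ↥Q) ∈ Subgroup.center ↥Q := (mem_cen_iff_center Q ⟨z, hzQ⟩).mp hz'
    rw [← hQ.1.2.2] at h1
    have h2 : (commutator ↥Q).map (Subgroup.inclusion hQS) ≤ commutator ↥S := by
      rw [commutator_def, commutator_def, Subgroup.map_commutator]
      exact Subgroup.commutator_mono le_top le_top
    have h3 : Subgroup.inclusion hQS ⟨z, hzQ⟩ ∈ commutator ↥S := h2 ⟨_, h1, rfl⟩
    exact ⟨_, h3, rfl⟩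
  have hH₀eq : (cen(S) ⊓ der(S) : Subgroup Ω) = Z₀ :=
    le_antisymm (inf_le_right.trans hder_le) (le_inf hZ₀Z hZ₀_le_der)
  refine ⟨?_, hH₀eq, fun a ha b hb => ?_⟩
  · rw [hH₀eq]
    exact hZ₀card
  · rw [hH₀eq]
    exact hcommS a ha b hb

section main

variable [Finite S] {p : ℕ} [hp : Fact p.Prime]

/-- local analysis at an abelian essential subgroup, when all commutators of `S` lie in a central
subgroup of order `p` -/
theorem local_Q (hS : IsPGroup p S) (F : FusionSystem S)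
    (hF : F.IsSaturated p) (hp2 : p ≠ 2) (Z Z₀ : Subgroup Ω) (hZ : Z = cen(S))
    (hZ₀def : Z₀ = Z ⊓ der(S)) (hZ₀ : Nat.card ↥Z₀ = p)
    (hcomm : ∀ a ∈ S, ∀ b ∈ S, a * b * a⁻¹ * b⁻¹ ∈ Z₀)
    {P : Subgroup Ω} (hP : F.IsEssential p P) (hab : ∀ a ∈ P, ∀ b ∈ P, a * b = b * a) :
    (∀ v : ↥P, (∀ c ∈ autInducedBy S P, c v = v) → (v : Ω) ∈ Z) ∧
    (∀ c ∈ autInducedBy S P, ∀ v : ↥P, (v : Ω) ∈ Z → c v = v) ∧
    (∃ m ∈ P, ∀ s ∈ S, s * m = m * s → s ∈ P) ∧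
    (∃ g₀ ∈ F.autGroup P, ∃ t₀ ∈ autInducedBy S P, g₀ * t₀ * g₀⁻¹ ∉ autInducedBy S P) ∧
    (∀ g ∈ F.autGroup P, ∀ t ∈ autInducedBy S P, g * t * g⁻¹ ∉ autInducedBy S P →
      ∃ γ ∈ F.autGroup S,
        (∀ z : ↥S, (z : Ω) ∈ Z → ((γ z : ↥S) : Ω) * (z : Ω)⁻¹ ∈ Z₀) ∧
        (∀ z : ↥S, (z : Ω) ∈ Z₀ → γ z = z⁻¹) ∧
        (∀ v : ↥P, (v : Ω) ∈ Z →
          (γ ⟨v, hP.1.1 v.2⟩ = ⟨v, hP.1.1 v.2⟩ ↔ g (t (g⁻¹ v)) = v))) := by
  have hPc := hP.1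
  have hPS : P ≤ S := hPc.1
  haveI hfinP : Finite P := finite_of_le hPS
  have hlt := essential_lt hS F hF hP
  have hCS : centralizerIn S P ≤ P := hPc.2 P (isConj_refl F hPS)
  have hZS : Z ≤ S := hZ ▸ inf_le_left
  have hZc : ∀ z ∈ Z, ∀ s ∈ S, s * z = z * s := by
    rw [hZ]
    exact cen_comm S
  have hZmem : ∀ z ∈ S, (∀ s ∈ S, s * z = z * s) → z ∈ Z := by
    intro z hzS hz
    rw [hZ]
    exact mem_cen S hzS hz
  have hZP : Z ≤ P := by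
    rw [hZ]
    exact cen_le_of_centric F hPc
  have hZ₀Z : Z₀ ≤ Z := hZ₀def ▸ inf_le_left
  have hV : ∀ a b : ↥P, a * b = b * a := fun a b => Subtype.ext (hab a a.2 b b.2)
  have hPp : IsPGroup p ↥P := isPGroup_of_le hS hPS
  have hPN : ∀ s ∈ S, s ∈ Subgroup.normalizer (P : Set Ω) := by
    intro s hs
    apply KN.mem_normalizer_of_forall_conj_mem
    intro w hw
    have e : s * w * s⁻¹ = (s * w * s⁻¹ * w⁻¹) * w := by group
    rw [e]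
    exact P.mul_mem (hZP (hZ₀Z (hcomm s hs w (hPS hw)))) hw
  have hcs : ∀ (s : Ω) (hs : s ∈ S), conjAut P ⟨s, hPN s hs⟩ ∈ autInducedBy S P := by
    intro s hs
    rw [mem_autInducedBy_iff]
    exact ⟨s, hs, fun v => rfl⟩
  have hTfix : ∀ c ∈ autInducedBy S P, ∀ v : ↥P, (v : Ω) ∈ Z → c v = v := by
    intro c hc v hv
    obtain ⟨n, hn, hcn⟩ := (mem_autInducedBy_iff S P c).mp hc
    apply Subtype.ext
    rw [hcn v, hZc _ hv n hn, mul_inv_cancel_right]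
  have hfixZ : ∀ v : ↥P, (∀ c ∈ autInducedBy S P, c v = v) → (v : Ω) ∈ Z := by
    intro v hv
    apply hZmem _ (hPS v.2)
    intro s hs
    have h1 := hv _ (hcs s hs)
    have h2 : s * (v : Ω) * s⁻¹ = v := congrArg Subtype.val h1
    have e : s * (v : Ω) = (s * v * s⁻¹) * s := by group
    rw [e, h2]
  obtain ⟨L, hLdef⟩ : ∃ L : Subgroup ↥P, L = Z₀.subgroupOf P := ⟨_, rfl⟩
  have hLcard : Nat.card L = p := by
    rw [hLdef, ← hZ₀]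
    exact Nat.card_congr (Subgroup.subgroupOfEquivOfLe (hZ₀Z.trans hZP)).toEquiv
  have hLmem : ∀ v : ↥P, v ∈ L ↔ (v : Ω) ∈ Z₀ := by
    intro v
    rw [hLdef]
    exact Subgroup.mem_subgroupOf
  have hLZ : ∀ u ∈ L, (u : Ω) ∈ Z := fun u hu => hZ₀Z ((hLmem u).mp hu)
  have hTL : ∀ c ∈ autInducedBy S P, ∀ v : ↥P, v⁻¹ * c v ∈ L := by
    intro c hc v
    obtain ⟨n, hn, hcn⟩ := (mem_autInducedBy_iff S P c).mp hc
    rw [hV v⁻¹ (c v), hLmem]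
    show ((c v : ↥P) : Ω) * (v : Ω)⁻¹ ∈ Z₀
    rw [hcn v]
    exact hcomm n hn v (hPS v.2)
  have hTL2 : ∀ c ∈ autInducedBy S P, ∀ v : ↥P, c v * v⁻¹ ∈ L := by
    intro c hc v
    rw [← hV v⁻¹ (c v)]
    exact hTL c hc v
  have hTfixL : ∀ c ∈ autInducedBy S P, ∀ u ∈ L, c u = u :=
    fun c hc u hu => hTfix c hc u (hLZ u hu)
  have hTG : ∀ c ∈ (autInducedBy S P : Set (MulAut ↥P)), c ∈ F.autGroup P :=
    fun c hc => autInducedBy_le_autGroup F hPS hc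
  -- the chain criterion
  have X1 : ∀ c' ∈ F.autGroup P, ∀ M : Subgroup ↥P, (∀ v, v⁻¹ * c' v ∈ M) →
      (∀ u ∈ M, c' u = u) → (∀ u ∈ L, c' u = u) → c' ∈ autInducedBy S P := by
    intro c' hc'G M h1 h2 h3
    have hfixsup : ∀ u ∈ M ⊔ L, c' u = u := by
      have hle : M ⊔ L ≤ MonoidHom.eqLocus c'.toMonoidHom (MonoidHom.id ↥P) :=
        sup_le (fun u hu => h2 u hu) (fun u hu => h3 u hu)
      exact fun u hu => hle hu
    have hQ := isPGroup_closure_of_chain hPp M L {c'} (autInducedBy S P : Set (MulAut ↥P))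
      (fun c hc v => by
        rw [Set.mem_singleton_iff.mp hc]
        exact h1 v)
      (fun c hc u hu => by
        rw [Set.mem_singleton_iff.mp hc]
        exact hfixsup u hu)
      hTL hTfixL
    refine le_autInducedBy_of_isPGroup hS F hF hP.2.1 _ hQ
      (fun c hc => Subgroup.subset_closure (Or.inr hc)) ?_
      (Subgroup.subset_closure (Or.inl rfl))
    rw [Subgroup.closure_le]
    refine Set.union_subset ?_ hTG
    intro c hc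
    rw [Set.mem_singleton_iff.mp hc]
    exact hc'G
  obtain ⟨u₀, hu₀L, hu₀1⟩ : ∃ u₀ ∈ L, u₀ ≠ 1 := by
    by_contra hno
    push Not at hno
    have hLbot : L = ⊥ := (Subgroup.eq_bot_iff_forall _).mpr hno
    rw [hLbot, Subgroup.card_bot] at hLcard
    exact hp.out.one_lt.ne hLcard
  have hgen : ∀ w ∈ L, w ≠ 1 → ∀ u ∈ L, ∃ k : ℤ, w ^ k = u := by
    intro w hw hw1 u hu
    have hw1' : (⟨w, hw⟩ : ↥L) ≠ 1 := fun h => hw1 (congrArg Subtype.val h)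
    have h1 : (⟨u, hu⟩ : ↥L) ∈ Subgroup.zpowers (⟨w, hw⟩ : ↥L) :=
      mem_zpowers_of_prime_card hLcard hw1'
    obtain ⟨k, hk⟩ := Subgroup.mem_zpowers_iff.mp h1
    refine ⟨k, ?_⟩
    have h2 := congrArg Subtype.val hk
    rw [Subgroup.coe_zpow] at h2
    exact h2
  have G1 : ∀ g ∈ F.autGroup P, (∀ u ∈ L, g u ∈ L) → (∀ u ∈ L, g⁻¹ u ∈ L) →
      ∀ c ∈ autInducedBy S P, g * c * g⁻¹ ∈ autInducedBy S P := by
    intro g hg h1 h2 c hc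
    have hcG : g * c * g⁻¹ ∈ F.autGroup P :=
      Subgroup.mul_mem _ (Subgroup.mul_mem _ hg (hTG c hc)) (Subgroup.inv_mem _ hg)
    have hfix : ∀ u ∈ L, (g * c * g⁻¹) u = u := by
      intro u hu
      show g (c (g⁻¹ u)) = u
      rw [hTfixL c hc _ (h2 u hu), MulAut.apply_inv_self]
    refine X1 _ hcG L ?_ hfix hfix
    intro v
    show v⁻¹ * g (c (g⁻¹ v)) ∈ L
    have h3 : v⁻¹ * g (c (g⁻¹ v)) = g ((g⁻¹ v)⁻¹ * c (g⁻¹ v)) := by
      rw [map_mul, map_inv, MulAut.apply_inv_self]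
    rw [h3]
    exact h1 _ (hTL c hc _)
  have G2 : ∀ g ∈ F.autGroup P, ∀ c ∈ autInducedBy S P, c ≠ 1 →
      g * c * g⁻¹ ∈ autInducedBy S P → (∀ u ∈ L, g u ∈ L) ∧ (∀ u ∈ L, g⁻¹ u ∈ L) := by
    intro g hg c hc hc1 hgc
    obtain ⟨v, hv⟩ : ∃ v, c v ≠ v := by
      by_contra hno
      push Not at hno
      exact hc1 (MulEquiv.ext hno)
    obtain ⟨w, hw⟩ : ∃ w, w = v⁻¹ * c v := ⟨_, rfl⟩
    have hwL : w ∈ L := hw ▸ hTL c hc v
    have hw1 : w ≠ 1 := by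
      intro h1
      apply hv
      rw [hw] at h1
      exact (inv_mul_eq_one.mp h1).symm
    have hgw : g w ∈ L := by
      have h3 : g w = (g v)⁻¹ * (g * c * g⁻¹) (g v) := by
        show g w = (g v)⁻¹ * g (c (g⁻¹ (g v)))
        rw [MulAut.inv_apply_self, hw, map_mul, map_inv]
      rw [h3]
      exact hTL _ hgc _
    have hgw1 : g w ≠ 1 := by
      intro h1
      apply hw1
      have h2 : g w = g 1 := by rw [h1, map_one]
      exact g.injective h2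
    constructor
    · intro u hu
      obtain ⟨k, rfl⟩ := hgen w hwL hw1 u hu
      rw [map_zpow]
      exact L.zpow_mem hgw k
    · intro u hu
      obtain ⟨k, rfl⟩ := hgen (g w) hgw hgw1 u hu
      rw [← map_zpow, MulAut.inv_apply_self]
      exact L.zpow_mem hwL k
  have H5 : ∀ g ∈ F.autGroup P, ¬ ((∀ u ∈ L, g u ∈ L) ∧ (∀ u ∈ L, g⁻¹ u ∈ L)) →
      ∀ c ∈ autInducedBy S P, c ≠ 1 → ∃ u ∈ L, c (g⁻¹ u) ≠ g⁻¹ u := by
    intro g hg hnp c hc hc1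
    by_contra hno
    push Not at hno
    apply hnp
    apply G2 g hg c hc hc1
    have hcG : g * c * g⁻¹ ∈ F.autGroup P :=
      Subgroup.mul_mem _ (Subgroup.mul_mem _ hg (hTG c hc)) (Subgroup.inv_mem _ hg)
    refine X1 _ hcG (L.map g.toMonoidHom) ?_ ?_ ?_
    · intro v
      refine ⟨(g⁻¹ v)⁻¹ * c (g⁻¹ v), hTL c hc _, ?_⟩
      show g ((g⁻¹ v)⁻¹ * c (g⁻¹ v)) = v⁻¹ * g (c (g⁻¹ v))
      rw [map_mul, map_inv, MulAut.apply_inv_self]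
    · rintro _ ⟨z, hz, rfl⟩
      show g (c (g⁻¹ (g z))) = g z
      rw [MulAut.inv_apply_self, hTfixL c hc z hz]
    · intro u hu
      show g (c (g⁻¹ u)) = u
      rw [hno u hu, MulAut.apply_inv_self]
  have hPr := Cfsg.Agent.S5080.result p hS F hF P hP
  obtain ⟨n₀, hn₀N, hn₀P⟩ := exists_mem_normalizerIn_not_mem hS hlt
  have hnn : ∃ g₀ ∈ F.autGroup P, ∃ c ∈ autInducedBy S P,
      g₀ * c * g₀⁻¹ ∉ autInducedBy S P := by
    by_contra hno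
    push Not at hno
    obtain ⟨-, R, hR⟩ := fullyAutomized_of_fullyNormalized hS F hF hP.2.1
    have hTn : ((autInducedBy S P).subgroupOf (F.autGroup P)).Normal := by
      constructor
      intro c hc g
      rw [Subgroup.mem_subgroupOf] at hc ⊢
      exact hno g g.2 c hc
    have hTp : IsPGroup p ((autInducedBy S P).subgroupOf (F.autGroup P)) := hR ▸ R.isPGroup'
    have hle := le_pCore hTn hTp
    have hc₀ : conjAut P ⟨n₀, hn₀N.2⟩ ∈ autInducedBy S P := by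
      rw [mem_autInducedBy_iff]
      exact ⟨n₀, hn₀N.1, fun v => rfl⟩
    have hc₀G := autInducedBy_le_autGroup F hPS hc₀
    have h1 : (⟨_, hc₀G⟩ : F.autGroup P) ∈ pCore p (F.autGroup P) :=
      hle (Subgroup.mem_subgroupOf.mpr hc₀)
    have h2 : conjAut P ⟨n₀, hn₀N.2⟩ ∈
        (pCore p (F.autGroup P)).map (F.autGroup P).subtype := ⟨_, h1, rfl⟩
    rw [hPr.2] at h2
    exact not_mem_inn_of_not_mem hCS hn₀N.1 hn₀P hPS (fun v => rfl) h2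
  have hnp_of : ∀ g ∈ F.autGroup P, ∀ c ∈ autInducedBy S P,
      g * c * g⁻¹ ∉ autInducedBy S P →
      ¬ ((∀ u ∈ L, g u ∈ L) ∧ (∀ u ∈ L, g⁻¹ u ∈ L)) := by
    intro g hg c hc hgc hpres
    exact hgc (G1 g hg hpres.1 hpres.2 c hc)
  have hne1_of : ∀ g c : MulAut ↥P, g * c * g⁻¹ ∉ autInducedBy S P → c ≠ 1 := by
    intro g c hgc hc1
    apply hgc
    rw [hc1, mul_one, mul_inv_cancel]
    exact Subgroup.one_mem _
  have hnp_inv : ∀ g : MulAut ↥P, ¬ ((∀ u ∈ L, g u ∈ L) ∧ (∀ u ∈ L, g⁻¹ u ∈ L)) →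
      ¬ ((∀ u ∈ L, g⁻¹ u ∈ L) ∧ (∀ u ∈ L, g⁻¹⁻¹ u ∈ L)) := by
    intro g h1 h2
    apply h1
    refine ⟨fun u hu => ?_, h2.1⟩
    have := h2.2 u hu
    rwa [inv_inv] at this
  have hm : ∃ m ∈ P, ∀ s ∈ S, s * m = m * s → s ∈ P := by
    obtain ⟨g₀, hg₀, c₀, hc₀, hg₀c⟩ := hnn
    have hnp := hnp_of g₀ hg₀ c₀ hc₀ hg₀c
    refine ⟨((g₀ u₀ : ↥P) : Ω), (g₀ u₀).2, ?_⟩
    intro s hs hsm
    by_contra hsP
    obtain ⟨c, hcdef⟩ : ∃ c, c = conjAut P ⟨s, hPN s hs⟩ := ⟨_, rfl⟩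
    have hcT : c ∈ autInducedBy S P := hcdef ▸ hcs s hs
    have hcv : ∀ v : ↥P, ((c v : ↥P) : Ω) = s * v * s⁻¹ := by
      intro v
      rw [hcdef]
      rfl
    have hc1 : c ≠ 1 := by
      intro h1
      apply hsP
      apply hCS
      refine ⟨hs, ?_⟩
      show s ∈ Subgroup.centralizer (P : Set Ω)
      rw [Subgroup.mem_centralizer_iff]
      intro w hw
      have h3 : s * w * s⁻¹ = w := by
        rw [← hcv ⟨w, hw⟩, h1]
        rfl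
      have e : s * w = (s * w * s⁻¹) * s := by group
      rw [e, h3]
    obtain ⟨u, hu, hcu⟩ := H5 g₀⁻¹ (Subgroup.inv_mem _ hg₀) (hnp_inv g₀ hnp) c hcT hc1
    rw [inv_inv] at hcu
    apply hcu
    obtain ⟨k, rfl⟩ := hgen u₀ hu₀L hu₀1 u hu
    rw [map_zpow, map_zpow]
    congr 1
    apply Subtype.ext
    rw [hcv, hsm, mul_inv_cancel_right]
  refine ⟨hfixZ, hTfix, hm, hnn, ?_⟩
  intro g hg t ht hgt
  have hnp := hnp_of g hg t ht hgt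
  have ht1 := hne1_of g t hgt
  have hH4 : ∃ u ∈ L, t (g u) ≠ g u := by
    obtain ⟨u, hu, h1⟩ := H5 g⁻¹ (Subgroup.inv_mem _ hg) (hnp_inv g hnp) t ht ht1
    rw [inv_inv] at h1
    exact ⟨u, hu, h1⟩
  have hH5 := H5 g hg hnp t ht ht1
  have htG := hTG t ht
  obtain ⟨h', hh'cl, hc1, hc2, hc3, hc4⟩ :=
    exists_inverting_aut hV p hp2 t g L hLcard (hTL2 t ht) (hTfixL t ht) hH4 hH5
  have hh'G : h' ∈ F.autGroup P := by
    have hle : Subgroup.closure ({t, g * t * g⁻¹} : Set (MulAut ↥P)) ≤ F.autGroup P := by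
      rw [Subgroup.closure_le]
      rintro c (rfl | hc)
      · exact htG
      · rw [Set.mem_singleton_iff.mp hc]
        exact Subgroup.mul_mem _ (Subgroup.mul_mem _ hg htG) (Subgroup.inv_mem _ hg)
    exact hle hh'cl
  have hh'L : ∀ u ∈ L, h' u ∈ L := fun u hu => by
    rw [hc3 u hu]
    exact L.inv_mem hu
  have hh'L' : ∀ u ∈ L, h'⁻¹ u ∈ L := by
    intro u hu
    have h1 : h' u⁻¹ = u := by rw [hc3 _ (L.inv_mem hu), inv_inv]
    have h2 : h'⁻¹ u = u⁻¹ := by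
      calc h'⁻¹ u = h'⁻¹ (h' u⁻¹) := by rw [h1]
        _ = u⁻¹ := MulAut.inv_apply_self _ _ _
    rw [h2]
    exact L.inv_mem hu
  have hnorm := G1 h' hh'G hh'L hh'L'
  have hY : ∀ g' ∈ ((S : Subgroup Ω) : Set Ω), g' ∈ S ∧
      g' ∈ Subgroup.normalizer (P : Set Ω) ∧ ∃ g'' ∈ S,
      ∀ (x : P) (hx : g' * (x : Ω) * g'⁻¹ ∈ P),
        ((h' ⟨g' * x * g'⁻¹, hx⟩ : P) : Ω) = g'' * ((h' x : P) : Ω) * g''⁻¹ := by
    intro g' hg'
    have hg'S : g' ∈ S := hg'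
    refine ⟨hg'S, hPN g' hg'S, ?_⟩
    obtain ⟨g'', hg'', hgg⟩ := (mem_autInducedBy_iff S P _).mp (hnorm _ (hcs g' hg'S))
    refine ⟨g'', hg'', fun x hx => ?_⟩
    have h1 := hgg (h' x)
    have h2 : (h' * conjAut P ⟨g', hPN g' hg'S⟩ * h'⁻¹) (h' x) =
        h' (conjAut P ⟨g', hPN g' hg'S⟩ x) := by
      rw [MulAut.mul_apply, MulAut.mul_apply, MulAut.inv_apply_self]
    rw [h2] at h1
    have h3 : conjAut P ⟨g', hPN g' hg'S⟩ x = ⟨g' * x * g'⁻¹, hx⟩ := Subtype.ext rfl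
    rw [h3] at h1
    exact h1
  obtain ⟨N, ψ, hψ, hPN', hYN, hψh'⟩ := exists_extension hS F hF hP.2.1 hh'G _ hY
  have hNS : N ≤ S := (F.le_of_mem hψ).1
  have hSN : S ≤ N := fun s hs => hYN hs
  have hψS : ∀ x : ↥N, ψ x ∈ S := (F.le_of_mem hψ).2
  haveI : Finite N := finite_of_le hNS
  -- the extension, as an automorphism of `S`
  obtain ⟨φ, hφdef⟩ : ∃ φ : ↥S →* Ω, φ = ψ.comp (Subgroup.inclusion hSN) := ⟨_, rfl⟩
  have hφ : φ ∈ F.Hom S := by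
    rw [hφdef]
    have h1 : (S.subtype : ↥S →* Ω) ∈ F.Hom S := by
      have h2 := F.conj_mem (le_refl S) (S.one_mem)
      have e : conjHom S 1 = S.subtype := by
        ext x
        show (1 : Ω) * x * (1 : Ω)⁻¹ = x
        group
      rw [e] at h2
      exact h2
    have h3 := F.comp_mem h1 hψ (fun x => hSN x.2)
    have e : ψ.comp ((S.subtype : ↥S →* Ω).codRestrict N (fun x => hSN x.2)) =
        ψ.comp (Subgroup.inclusion hSN) := by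
      ext x
      rfl
    rw [e] at h3
    exact h3
  have hφv : ∀ x : ↥S, φ x = ψ ⟨x, hSN x.2⟩ := by
    intro x
    rw [hφdef]
    rfl
  have hrange : φ.range = S := by
    have hle : φ.range ≤ S := by
      rintro _ ⟨x, rfl⟩
      exact (F.le_of_mem hφ).2 x
    exact Subgroup.eq_of_le_of_card_ge hle
      (Nat.card_congr (MonoidHom.ofInjective (F.injective_of_mem hφ)).toEquiv).le
  obtain ⟨γ, hγ, hγφ⟩ := exists_aut_of_hom F hφ hrange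
  have hγv : ∀ v : ↥P, ((γ ⟨v, hPS v.2⟩ : ↥S) : Ω) = ((h' v : ↥P) : Ω) := by
    intro v
    rw [hγφ, hφv]
    exact hψh' v (hSN (hPS v.2))
  refine ⟨γ, hγ, ?_, ?_, ?_⟩
  · intro z hz
    have hzP : (z : Ω) ∈ P := hZP hz
    have h1 := hc2 ⟨z, hzP⟩ (hTfix t ht ⟨z, hzP⟩ hz)
    rw [hLmem] at h1
    have h2 : ((γ z : ↥S) : Ω) = ((h' ⟨z, hzP⟩ : ↥P) : Ω) := hγv ⟨z, hzP⟩
    rw [h2]
    exact h1
  · intro z hz
    have hzP : (z : Ω) ∈ P := hZP (hZ₀Z hz)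
    have h1 := hc3 ⟨z, hzP⟩ ((hLmem _).mpr hz)
    apply Subtype.ext
    have h2 : ((γ z : ↥S) : Ω) = ((h' ⟨z, hzP⟩ : ↥P) : Ω) := hγv ⟨z, hzP⟩
    rw [h2, h1]
    rfl
  · intro v hv
    have h1 := hc4 v (hTfix t ht v hv)
    rw [← h1]
    constructor
    · intro h2
      apply Subtype.ext
      rw [← hγv v, h2]
    · intro h2
      apply Subtype.ext
      rw [hγv v, h2]

end main

end Cfsg.Agent.Lib.Helper1.ET
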