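import Mathlib
import Cfsg.Agent.Lib.Helper1.ET12

set_option autoImplicit false
set_option linter.style.haveILetI false
set_option linter.unusedSectionVars false
set_option linter.unusedVariables false
set_option maxHeartbeats 4000000

/-! If all commutators of `S` lie in a central subgroup of order `p` and `O_p(F) = 1`, then
`Z(S) ≤ S'`.  Application: S5178. -/

namespace Cfsg.Agent.Lib.Helper1.ET

open Cfsg Cfsg.FusionSystem Cfsg.Agent.Lib.Helper9 Cfsg.Agent.Lib.Helper7 Cfsg.Agent.Lib.Helper1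
  Cfsg.Agent.Lib.Helper2.EssGen

open scoped commutatorElement

local notation "cen(" S ")" => (S ⊓ Subgroup.centralizer (S : Set _))
local notation "der(" S ")" => (Subgroup.map (Subgroup.subtype S) (commutator ↥S))

variable {Ω : Type*} [Group Ω] {S : Subgroup Ω}

section main

variable [Finite S] {p : ℕ} [hp : Fact p.Prime]

theorem cen_le_of_central_commutators (hS : IsPGroup p S) (F : FusionSystem S)
    (hF : F.IsSaturated p) (hp2 : p ≠ 2) (hcore : F.core = ⊥)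
    (hZ₀ : Nat.card ↥(cen(S) ⊓ der(S) : Subgroup Ω) = p)
    (hcomm : ∀ a ∈ S, ∀ b ∈ S, a * b * a⁻¹ * b⁻¹ ∈ (cen(S) ⊓ der(S) : Subgroup Ω)) :
    (cen(S) : Subgroup Ω) ≤ der(S) := by
  have hZS : (cen(S) : Subgroup Ω) ≤ S := inf_le_left
  have hZc := cen_comm S
  have hp1 : 1 < p := hp.out.one_lt
  have hbot : ∀ Q : Subgroup Ω, F.IsNormal Q → Q = ⊥ := by
    intro Q hQ
    have h1 : Q ≤ F.core := le_sSup hQ
    rw [hcore] at h1
    exact le_bot_iff.mp h1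
  by_cases hexab : ∃ P, F.IsEssential p P ∧ ∀ a ∈ P, ∀ b ∈ P, a * b = b * a
  swap
  · -- all essential subgroups are nonabelian: `Z(S) ∩ S'` is normal in `F`
    exfalso
    push Not at hexab
    have hH₀normal : F.IsNormal (cen(S) ⊓ der(S) : Subgroup Ω) := by
      rw [normal_iff_essential_invariant p hS F hF]
      intro P hP
      rcases hP with rfl | hP
      · refine ⟨inf_le_left.trans inf_le_left, fun α hα => ?_⟩
        refine map_eq_of_forall_map_le (A := F.autGroup P) ?_ hα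
        intro β hβ
        rintro _ ⟨z, hz, rfl⟩
        have hz0 : (z : Ω) ∈ (cen(P) ⊓ der(P) : Subgroup Ω) := hz
        show ((β z : ↥P) : Ω) ∈ (cen(P) ⊓ der(P) : Subgroup Ω)
        exact ⟨(aut_mem_cen_iff β z).mpr hz0.1, (aut_mem_der_iff β z).mpr hz0.2⟩
      · have hPS : P ≤ S := hP.1.1
        have hZP := cen_le_of_centric F hP.1
        refine ⟨inf_le_left.trans hZP, fun α hα => ?_⟩
        refine map_eq_of_forall_map_le (A := F.autGroup P) ?_ hα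
        intro β hβ
        obtain ⟨a, ha, b, hb, hab⟩ := hexab P hP
        obtain ⟨c, hc⟩ : ∃ c : ↥P, c = ⟨a, ha⟩ * ⟨b, hb⟩ * ⟨a, ha⟩⁻¹ * ⟨b, hb⟩⁻¹ := ⟨_, rfl⟩
        have hcH₀ : (c : Ω) ∈ (cen(S) ⊓ der(S) : Subgroup Ω) := by
          rw [hc]
          exact hcomm a (hPS ha) b (hPS hb)
        have hc1 : (⟨(c : Ω), hcH₀⟩ : ↥(cen(S) ⊓ der(S) : Subgroup Ω)) ≠ 1 := by
          intro h1
          apply hab
          have h2 : (c : Ω) = 1 := congrArg Subtype.val h1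
          rw [hc] at h2
          have h3 : a * b * a⁻¹ * b⁻¹ = 1 := h2
          have e : a * b = (a * b * a⁻¹ * b⁻¹) * (b * a) := by group
          rw [e, h3, one_mul]
        have hβc : ((β c : ↥P) : Ω) ∈ (cen(S) ⊓ der(S) : Subgroup Ω) := by
          rw [hc]
          simp only [map_mul, map_inv]
          exact hcomm _ (hPS (β ⟨a, ha⟩).2) _ (hPS (β ⟨b, hb⟩).2)
        rintro _ ⟨z, hz, rfl⟩
        have hz0 : (z : Ω) ∈ (cen(S) ⊓ der(S) : Subgroup Ω) := hz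
        show ((β z : ↥P) : Ω) ∈ (cen(S) ⊓ der(S) : Subgroup Ω)
        have h4 : (⟨(z : Ω), hz0⟩ : ↥(cen(S) ⊓ der(S) : Subgroup Ω)) ∈
            Subgroup.zpowers (⟨(c : Ω), hcH₀⟩ : ↥(cen(S) ⊓ der(S) : Subgroup Ω)) :=
          mem_zpowers_of_prime_card hZ₀ hc1
        obtain ⟨k, hk⟩ := Subgroup.mem_zpowers_iff.mp h4
        have h5 : (c : Ω) ^ k = z := by
          have := congrArg Subtype.val hk
          rw [Subgroup.coe_zpow] at this
          exact this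
        have h6 : z = c ^ k := Subtype.ext (by rw [Subgroup.coe_zpow, h5])
        rw [h6, map_zpow, Subgroup.coe_zpow]
        exact Subgroup.zpow_mem _ hβc k
    have h1 := hbot _ hH₀normal
    rw [h1, Subgroup.card_bot] at hZ₀
    exact hp1.ne hZ₀
  -- there is an abelian essential subgroup
  obtain ⟨P₀, hP₀, hab₀⟩ := hexab
  obtain ⟨hfix₀, hTfix₀, ⟨m₀, hm₀P, hm₀⟩, ⟨g₀, hg₀, t₀, ht₀, hg₀t⟩, hmain₀⟩ :=
    local_Q hS F hF hp2 _ _ rfl rfl hZ₀ hcomm hP₀ hab₀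
  obtain ⟨η₀, hη₀, hη₀1, hη₀2, -⟩ := hmain₀ g₀ hg₀ t₀ ht₀ hg₀t
  have hP₀S : P₀ ≤ S := hP₀.1.1
  have hH₀c : ∀ z ∈ (cen(S) ⊓ der(S) : Subgroup Ω), ∀ s ∈ S, s * z = z * s :=
    fun z hz => hZc z hz.1
  -- all essential subgroups are abelian
  have hallab : ∀ P, F.IsEssential p P → ∀ a ∈ P, ∀ b ∈ P, a * b = b * a := by
    intro P hP
    have hPS : P ≤ S := hP.1.1
    have hlt := essential_lt hS F hF hP
    have hZP := cen_le_of_centric F hP.1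
    by_cases hPP₀ : P ≤ P₀
    · intro a ha b hb
      exact hab₀ a (hPP₀ ha) b (hPP₀ hb)
    · obtain ⟨y, hyP, hyP₀⟩ := SetLike.not_le_iff_exists.mp hPP₀
      have hyS := hPS hyP
      have hym : y * m₀ ≠ m₀ * y := fun h => hyP₀ (hm₀ y hyS h)
      have hdec1 := comm_decomp S _ hZ₀ hH₀c hcomm (hP₀S hm₀P) hyS hym
      by_cases hPZ : ∀ x ∈ P, x ∈ P₀ → x ∈ (cen(S) : Subgroup Ω)
      · have hdecP : ∀ a ∈ P, ∃ k : ℤ, ∃ u ∈ (cen(S) : Subgroup Ω), a = y ^ k * u := by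
          intro a ha
          obtain ⟨k, u, huS, hum, rfl⟩ := hdec1 a (hPS ha)
          have huP₀ : u ∈ P₀ := hm₀ u huS hum
          have huP : u ∈ P := by
            have e : u = (y ^ k)⁻¹ * (y ^ k * u) := by group
            rw [e]
            exact P.mul_mem (P.inv_mem (P.zpow_mem hyP k)) ha
          exact ⟨k, u, hPZ u huP huP₀, rfl⟩
        intro a ha b hb
        obtain ⟨k, u, hu, rfl⟩ := hdecP a ha
        obtain ⟨l, u', hu', rfl⟩ := hdecP b hb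
        have huy : Commute u y := (hZc u hu y hyS).symm
        have hu'y : Commute u' y := (hZc u' hu' y hyS).symm
        have huu' : Commute u u' := (hZc u hu u' hu'.1).symm
        have h1' : Commute (y ^ k) (y ^ l * u') :=
          Commute.mul_right ((Commute.refl y).zpow_zpow k l) ((hu'y.symm).zpow_left k)
        have h2' : Commute u (y ^ l * u') := Commute.mul_right (huy.zpow_right l) huu'
        exact (Commute.mul_left h1' h2').eq
      · exfalso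
        push Not at hPZ
        obtain ⟨x, hxP, hxP₀, hxZ⟩ := hPZ
        have hxS := hPS hxP
        have hxy : x * y ≠ y * x := by
          intro hxy
          apply hxZ
          apply mem_cen S hxS
          intro s hs
          obtain ⟨k, u, huS, hum, rfl⟩ := hdec1 s hs
          have huP₀ : u ∈ P₀ := hm₀ u huS hum
          have h1 : Commute x y := hxy
          have h2 : Commute x u := hab₀ x hxP₀ u huP₀
          exact ((h1.zpow_right k).mul_right h2).eq.symm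
        have hdec2 := comm_decomp S _ hZ₀ hH₀c hcomm hyS hxS hxy
        have hSP : S ≤ P := by
          intro s hs
          obtain ⟨k, u, huS, hum, rfl⟩ := hdec1 s hs
          have huP₀ : u ∈ P₀ := hm₀ u huS hum
          obtain ⟨l, w, hwS, hwy, rfl⟩ := hdec2 u huS
          have hwP₀ : w ∈ P₀ := by
            have e : w = (x ^ l)⁻¹ * (x ^ l * w) := by group
            rw [e]
            exact P₀.mul_mem (P₀.inv_mem (P₀.zpow_mem hxP₀ l)) huP₀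
          have hwZ : w ∈ (cen(S) : Subgroup Ω) := by
            apply mem_cen S hwS
            intro s' hs'
            obtain ⟨k', u', hu'S, hu'm, rfl⟩ := hdec1 s' hs'
            have hu'P₀ : u' ∈ P₀ := hm₀ u' hu'S hu'm
            have h1 : Commute w y := hwy
            have h2 : Commute w u' := hab₀ w hwP₀ u' hu'P₀
            exact ((h1.zpow_right k').mul_right h2).eq.symm
          exact P.mul_mem (P.zpow_mem hyP k) (P.mul_mem (P.zpow_mem hxP l) (hZP hwZ))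
        exact lt_irrefl _ (lt_of_lt_of_le hlt hSP)
  -- the group data
  obtain ⟨Γ, hΓ⟩ : ∃ Γ : Subgroup (MulAut ↥S), Γ = F.autGroup S := ⟨_, rfl⟩
  obtain ⟨H, hHdef⟩ : ∃ H : Subgroup ↥S, H = (cen(S) : Subgroup Ω).subgroupOf S := ⟨_, rfl⟩
  obtain ⟨H₀, hH₀def⟩ : ∃ H₀ : Subgroup ↥S, H₀ = (cen(S) ⊓ der(S) : Subgroup Ω).subgroupOf S :=
    ⟨_, rfl⟩
  have hHmem : ∀ z : ↥S, z ∈ H ↔ (z : Ω) ∈ (cen(S) : Subgroup Ω) := by
    intro z
    rw [hHdef]
    exact Subgroup.mem_subgroupOf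
  have hH₀mem : ∀ z : ↥S, z ∈ H₀ ↔ (z : Ω) ∈ (cen(S) ⊓ der(S) : Subgroup Ω) := by
    intro z
    rw [hH₀def]
    exact Subgroup.mem_subgroupOf
  have hH : ∀ γ ∈ Γ, ∀ z, γ z ∈ H ↔ z ∈ H := by
    intro γ _ z
    rw [hHmem, hHmem]
    exact aut_mem_cen_iff γ z
  have hH₀ : ∀ γ ∈ Γ, ∀ z, γ z ∈ H₀ ↔ z ∈ H₀ := by
    intro γ _ z
    rw [hH₀mem, hH₀mem]
    have e1 := aut_mem_cen_iff γ z
    have e2 := aut_mem_der_iff γ z
    exact ⟨fun hh => ⟨e1.mp hh.1, e2.mp hh.2⟩, fun hh => ⟨e1.mpr hh.1, e2.mpr hh.2⟩⟩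
  have hK : ∀ g ∈ Γ, (∀ z ∈ H, g z * z⁻¹ ∈ H₀) → (∀ z ∈ H₀, g z = z) → ∀ z ∈ H, g z = z := by
    intro g hg h1 h2 z hz
    rw [hΓ] at hg
    exact fix_of_stab_S hS F hF hZ₀ g hg
      (fun z hz => (hH₀mem _).mp (h1 z ((hHmem z).mpr hz)))
      (fun z hz => h2 z ((hH₀mem z).mpr hz)) z ((hHmem z).mp hz)
  have hη₀Γ : η₀ ∈ Γ := by
    rw [hΓ]
    exact hη₀
  have hη₀1' : ∀ z ∈ H, η₀ z * z⁻¹ ∈ H₀ :=
    fun z hz => (hH₀mem _).mpr (hη₀1 z ((hHmem z).mp hz))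
  have hη₀2' : ∀ z ∈ H₀, η₀ z = z⁻¹ := fun z hz => hη₀2 z ((hH₀mem z).mp hz)
  obtain ⟨Z₁s, hZ₁s⟩ : ∃ Z₁s : Subgroup ↥S, ∀ z : ↥S, z ∈ Z₁s ↔ (z ∈ H ∧ η₀ z = z) := by
    refine ⟨{ carrier := {z | z ∈ H ∧ η₀ z = z}
              one_mem' := ⟨H.one_mem, map_one η₀⟩
              mul_mem' := ?_
              inv_mem' := ?_ }, fun z => Iff.rfl⟩
    · rintro a b ⟨ha, ha'⟩ ⟨hb, hb'⟩
      exact ⟨H.mul_mem ha hb, by rw [map_mul, ha', hb']⟩
    · rintro a ⟨ha, ha'⟩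
      exact ⟨H.inv_mem ha, by rw [map_inv, ha']⟩
  have K1 : ∀ γ ∈ Γ, ∀ z ∈ Z₁s, γ z ∈ Z₁s := by
    intro γ hγ z hz
    rw [hZ₁s] at hz ⊢
    refine ⟨(hH γ hγ z).mpr hz.1, ?_⟩
    rw [← commute_of_inverting H H₀ Γ hH hH₀ hK hη₀Γ hγ hη₀1' hη₀2' z hz.1, hz.2]
  have K2 : ∀ η ∈ Γ, (∀ z ∈ H, η z * z⁻¹ ∈ H₀) → (∀ z ∈ H₀, η z = z⁻¹) →
      ∀ z ∈ H, η z = η₀ z :=
    fun η hη h1 h2 => agree_of_inverting H H₀ Γ hH hK hη hη₀Γ h1 h2 hη₀1' hη₀2'
  obtain ⟨Z₁, hZ₁⟩ : ∃ Z₁ : Subgroup Ω, Z₁ = Z₁s.map S.subtype := ⟨_, rfl⟩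
  have hZ₁mem : ∀ w : Ω, w ∈ Z₁ ↔ ∃ hw : w ∈ S, (⟨w, hw⟩ : ↥S) ∈ Z₁s := by
    intro w
    rw [hZ₁]
    constructor
    · rintro ⟨z, hz, rfl⟩
      exact ⟨z.2, hz⟩
    · rintro ⟨hw, hz⟩
      exact ⟨⟨w, hw⟩, hz, rfl⟩
  have hZ₁Z : Z₁ ≤ (cen(S) : Subgroup Ω) := by
    intro w hw
    obtain ⟨hwS, hz⟩ := (hZ₁mem w).mp hw
    exact (hHmem _).mp ((hZ₁s _).mp hz).1
  have hZ₁normal : F.IsNormal Z₁ := by
    rw [normal_iff_essential_invariant p hS F hF]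
    intro P hP
    rcases hP with rfl | hP
    · refine ⟨hZ₁Z.trans hZS, fun α hα => ?_⟩
      refine map_eq_of_forall_map_le (A := F.autGroup P) ?_ hα
      intro β hβ
      rintro _ ⟨z, hz, rfl⟩
      have hz0 : (z : Ω) ∈ Z₁ := hz
      show ((β z : ↥P) : Ω) ∈ Z₁
      obtain ⟨hzS, hz'⟩ := (hZ₁mem _).mp hz0
      rw [hZ₁mem]
      refine ⟨(β z).2, ?_⟩
      exact K1 β (by rw [hΓ]; exact hβ) z hz'
    · have hPS : P ≤ S := hP.1.1
      have hZP := cen_le_of_centric F hP.1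
      refine ⟨hZ₁Z.trans hZP, fun α hα => ?_⟩
      refine map_eq_of_forall_map_le (A := F.autGroup P) ?_ hα
      intro β hβ
      have hab := hallab P hP
      obtain ⟨hfixP, hTfixP, -, ⟨g₁, hg₁, t₁, ht₁, hg₁t⟩, hmainP⟩ :=
        local_Q hS F hF hp2 _ _ rfl rfl hZ₀ hcomm hP hab
      have hstar : ∀ g ∈ F.autGroup P, ∀ t ∈ autInducedBy S P,
          g * t * g⁻¹ ∉ autInducedBy S P →
          ∀ (v : ↥P) (hv : (v : Ω) ∈ (cen(S) : Subgroup Ω)),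
            ((⟨v, hPS v.2⟩ : ↥S) ∈ Z₁s ↔ g (t (g⁻¹ v)) = v) := by
        intro g hg t ht hgt v hv
        obtain ⟨γ, hγ, hγ1, hγ2, hγ3⟩ := hmainP g hg t ht hgt
        have hγΓ : γ ∈ Γ := by
          rw [hΓ]
          exact hγ
        have hvH : (⟨v, hPS v.2⟩ : ↥S) ∈ H := (hHmem _).mpr hv
        have h1 := K2 γ hγΓ (fun z hz => (hH₀mem _).mpr (hγ1 z ((hHmem z).mp hz)))
          (fun z hz => hγ2 z ((hH₀mem z).mp hz)) _ hvH
        rw [← hγ3 v hv, hZ₁s, h1]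
        exact ⟨fun h2 => h2.2, fun h2 => ⟨hvH, h2⟩⟩
      have h3' : ∀ g ∈ F.autGroup P, ∀ t ∈ autInducedBy S P, ∀ (v : ↥P),
          (v : Ω) ∈ (cen(S) : Subgroup Ω) → (⟨v, hPS v.2⟩ : ↥S) ∈ Z₁s →
          g (t (g⁻¹ v)) = v := by
        intro g hg t ht v hv hvZ₁
        by_cases hgt : g * t * g⁻¹ ∈ autInducedBy S P
        · exact hTfixP _ hgt v hv
        · exact (hstar g hg t ht hgt v hv).mp hvZ₁
      rintro _ ⟨v, hv0, rfl⟩
      have hv : (v : Ω) ∈ Z₁ := hv0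
      show ((β v : ↥P) : Ω) ∈ Z₁
      obtain ⟨hvS, hvZ₁⟩ := (hZ₁mem _).mp hv
      have hvZ : (v : Ω) ∈ (cen(S) : Subgroup Ω) := hZ₁Z hv
      have ha : ∀ c ∈ autInducedBy S P, c (β v) = β v := by
        intro c hc
        have h4 := h3' β⁻¹ (Subgroup.inv_mem _ hβ) c hc v hvZ hvZ₁
        rw [inv_inv] at h4
        have h5 : β (β⁻¹ (c (β v))) = β v := by rw [h4]
        rw [MulAut.apply_inv_self] at h5
        exact h5
      have hβvZ : ((β v : ↥P) : Ω) ∈ (cen(S) : Subgroup Ω) := hfixP _ ha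
      have hb : g₁ (t₁ (g₁⁻¹ (β v))) = β v := by
        have h4 := h3' (β⁻¹ * g₁) (Subgroup.mul_mem _ (Subgroup.inv_mem _ hβ) hg₁) t₁ ht₁ v
          hvZ hvZ₁
        rw [mul_inv_rev, inv_inv, MulAut.mul_apply, MulAut.mul_apply] at h4
        have h5 : β (β⁻¹ (g₁ (t₁ (g₁⁻¹ (β v))))) = β v := by rw [h4]
        rw [MulAut.apply_inv_self] at h5
        exact h5
      rw [hZ₁mem]
      exact ⟨hPS (β v).2, (hstar g₁ hg₁ t₁ ht₁ hg₁t (β v) hβvZ).mpr hb⟩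
  have hZ₁bot := hbot Z₁ hZ₁normal
  -- the final step
  intro z hz
  obtain ⟨zS, hzS⟩ : ∃ zS : ↥S, zS = ⟨z, hZS hz⟩ := ⟨_, rfl⟩
  have hzH : zS ∈ H := by
    rw [hHmem, hzS]
    exact hz
  obtain ⟨ν, hν⟩ : ∃ ν, ν = η₀ zS * zS⁻¹ := ⟨_, rfl⟩
  have hνH₀ : ν ∈ H₀ := hν ▸ hη₀1' zS hzH
  have hη₀z : η₀ zS = ν * zS := by rw [hν, inv_mul_cancel_right]
  have hνp : ν ^ p = 1 := by
    have hν' : (ν : Ω) ∈ (cen(S) ⊓ der(S) : Subgroup Ω) := (hH₀mem ν).mp hνH₀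
    have h5 : (⟨(ν : Ω), hν'⟩ : ↥(cen(S) ⊓ der(S) : Subgroup Ω)) ^
        Nat.card ↥(cen(S) ⊓ der(S) : Subgroup Ω) = 1 := pow_card_eq_one'
    rw [hZ₀] at h5
    have h6 : (ν : Ω) ^ p = 1 := congrArg Subtype.val h5
    exact Subtype.ext h6
  obtain ⟨k, hk⟩ : ∃ k, k + k = p + 1 := by
    rcases hp.out.eq_two_or_odd' with h2 | ⟨m, hm⟩
    · exact absurd h2 hp2
    · exact ⟨m + 1, by omega⟩
  obtain ⟨u, hu⟩ : ∃ u, u = ν ^ k := ⟨_, rfl⟩
  have huH₀ : u ∈ H₀ := hu ▸ H₀.pow_mem hνH₀ k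
  have hu2 : u * u = ν := by rw [hu, ← pow_add, hk, pow_succ, hνp, one_mul]
  have huH : u ∈ H := (hHmem u).mpr ((hH₀mem u).mp huH₀).1
  have hcommH : ∀ a b : ↥S, a ∈ H → a * b = b * a := by
    intro a b ha
    exact Subtype.ext (hZc _ ((hHmem a).mp ha) b b.2).symm
  have hw : zS * u ∈ Z₁s := by
    rw [hZ₁s]
    refine ⟨H.mul_mem hzH huH, ?_⟩
    rw [map_mul, hη₀z, hη₀2' u huH₀, ← hu2]
    have e1 : u * zS = zS * u := hcommH u zS huH
    calc u * u * zS * u⁻¹ = u * (u * zS) * u⁻¹ := by group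
      _ = u * (zS * u) * u⁻¹ := by rw [e1]
      _ = u * zS := by group
      _ = zS * u := e1
  have hw' : ((zS * u : ↥S) : Ω) ∈ Z₁ := (hZ₁mem _).mpr ⟨(zS * u).2, hw⟩
  rw [hZ₁bot, Subgroup.mem_bot] at hw'
  have h7 : zS = u⁻¹ := eq_inv_of_mul_eq_one_left (Subtype.ext hw')
  have h8 : zS ∈ H₀ := h7 ▸ H₀.inv_mem huH₀
  have h9 := ((hH₀mem zS).mp h8).2
  rw [hzS] at h9
  exact h9

/-- S5178 -/
theorem center_eq_of_extraspecial_index_p (hpo : Odd p) (hS : IsPGroup p S) (Q : Subgroup Ω)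
    (hQS : Q ≤ S) (hQ : Cfsg.IsExtraspecial p ↥Q) (hQi : (Q.subgroupOf S).index = p)
    (F : FusionSystem S) (hF : F.IsSaturated p) (hO : F.core = ⊥) :
    (cen(S) : Subgroup Ω) = cen(Q) := by
  have hp2 : p ≠ 2 := by
    intro h2
    rw [h2] at hpo
    exact absurd hpo (by decide)
  obtain ⟨h1, h2⟩ := extraspecial_index_p_comm hS Q hQS hQ hQi
  by_contra hne
  have hnle : ¬ (cen(S) : Subgroup Ω) ≤ cen(Q) := fun hle => hne (le_antisymm hle h1)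
  obtain ⟨hcard, heq, hcomm⟩ := h2 hnle
  have h3 := cen_le_of_central_commutators hS F hF hp2 hO hcard hcomm
  apply hnle
  rw [← heq]
  exact le_inf le_rfl h3

end main

end Cfsg.Agent.Lib.Helper1.ET
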