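import Mathlib
import Cfsg.Agent.Lib.Helper1.ET13
import Cfsg.Agent.Lib.Helper1.MaxClassTwoA
import Cfsg.Agent.Lib.Helper9.Alperin2

set_option autoImplicit false
set_option linter.style.haveILetI false
set_option linter.unusedSectionVars false
set_option linter.unusedVariables false
set_option maxHeartbeats 4000000

/-! In a `p`-group of maximal class, if an `F`-automorphism of `Z₂(S)` moves `Z(S)` then
`C_S(Z₂(S))` is essential (S5270). -/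

namespace Cfsg.Agent.Lib.Helper1.ET

open Cfsg Cfsg.FusionSystem Cfsg.Agent.Lib.Helper9 Cfsg.Agent.Lib.Helper7 Cfsg.Agent.Lib.Helper1
  Cfsg.Agent.Lib.Helper2.EssGen

open scoped commutatorElement

local notation "cen(" S ")" => (S ⊓ Subgroup.centralizer (S : Set _))

universe u

/-- centre and second centre of a `p`-group of maximal class -/
theorem max_class_Z2 {G : Type u} [Group G] [Finite G] {p : ℕ} [hp : Fact p.Prime] (n : ℕ)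
    (hn : 4 ≤ n) (hG : Nat.card G = p ^ n) (hc : Group.nilpotencyClass G = n - 1) :
    Nat.card (Subgroup.center G) = p ∧
    ∀ z₂ ∈ Subgroup.upperCentralSeries G 2, z₂ ∉ Subgroup.center G →
      ∀ z ∈ Subgroup.upperCentralSeries G 2, ∃ k : ℤ, ∃ c ∈ Subgroup.center G,
        z = z₂ ^ k * c := by
  obtain ⟨h1, h2, h3⟩ := max_class_center_card n (by omega) hG hc
  have h3' : Group.nilpotencyClass (G ⧸ Subgroup.center G) = (n - 1) - 1 := by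
    rw [h3]
    omega
  obtain ⟨h4, -, -⟩ := max_class_center_card (n - 1) (by omega) h2 h3'
  refine ⟨h1, ?_⟩
  intro z₂ hz₂ hz₂c z hz
  have hmemZ2 : ∀ x : G, x ∈ Subgroup.upperCentralSeries G 2 ↔
      (QuotientGroup.mk' (Subgroup.center G) x) ∈ Subgroup.center (G ⧸ Subgroup.center G) := by
    intro x
    have h := Subgroup.comap_upperCentralSeries_quotient_center (G := G) 1
    rw [Subgroup.upperCentralSeries_one] at h
    have h' : Subgroup.upperCentralSeries G 2 =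
        Subgroup.comap (QuotientGroup.mk' (Subgroup.center G))
          (Subgroup.center (G ⧸ Subgroup.center G)) := h.symm
    rw [h', Subgroup.mem_comap]
  obtain ⟨a, ha⟩ : ∃ a : ↥(Subgroup.center (G ⧸ Subgroup.center G)),
      a = ⟨QuotientGroup.mk' (Subgroup.center G) z₂, (hmemZ2 z₂).mp hz₂⟩ := ⟨_, rfl⟩
  obtain ⟨b, hb⟩ : ∃ b : ↥(Subgroup.center (G ⧸ Subgroup.center G)),
      b = ⟨QuotientGroup.mk' (Subgroup.center G) z, (hmemZ2 z).mp hz⟩ := ⟨_, rfl⟩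
  have ha1 : a ≠ 1 := by
    intro h
    apply hz₂c
    have h5 : QuotientGroup.mk' (Subgroup.center G) z₂ = 1 := by
      have := congrArg Subtype.val h
      rw [ha] at this
      exact this
    exact (QuotientGroup.eq_one_iff z₂).mp h5
  have h6 : b ∈ Subgroup.zpowers a := mem_zpowers_of_prime_card h4 ha1
  obtain ⟨k, hk⟩ := Subgroup.mem_zpowers_iff.mp h6
  have h7 : (QuotientGroup.mk' (Subgroup.center G) z₂) ^ k =
      QuotientGroup.mk' (Subgroup.center G) z := by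
    have := congrArg Subtype.val hk
    rw [Subgroup.coe_zpow, ha, hb] at this
    exact this
  refine ⟨k, z₂ ^ (-k) * z, ?_, by group⟩
  apply (QuotientGroup.eq_one_iff _).mp
  show QuotientGroup.mk' (Subgroup.center G) (z₂ ^ (-k) * z) = 1
  rw [map_mul, map_zpow, ← h7, zpow_neg, inv_mul_cancel]

variable {Ω : Type u} [Group Ω] {S : Subgroup Ω}

theorem nilpotencyClass_of_lcs_ne_bot [Finite S] {p : ℕ} [hp : Fact p.Prime] (n : ℕ)
    (hn : Nat.card S = p ^ n) (h2 : 2 ≤ n) (hmax : Subgroup.lowerCentralSeries S (n - 2) ≠ ⊥) :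
    Group.nilpotencyClass ↥S = n - 1 := by
  haveI : Group.IsNilpotent ↥S := (IsPGroup.of_card hn).isNilpotent
  have h1 : Group.nilpotencyClass ↥S ≤ n - 1 := nilpotencyClass_le_of_card_pow p n hn (by omega)
  have h3 : ¬ Group.nilpotencyClass ↥S ≤ n - 2 := by
    intro h
    apply hmax
    rw [← Subgroup.top_subtype_lowerCentralSeries,
      Subgroup.lowerCentralSeries_eq_bot_iff_nilpotencyClass_le.mpr h, Subgroup.map_bot]
  omega

/-- the commutator map `s ↦ [s, m]` into a central subgroup, for a fixed `m` -/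
def commHomE (S C : Subgroup Ω) (hCc : ∀ z ∈ C, ∀ s ∈ S, s * z = z * s) {m : Ω} (hm : m ∈ S)
    (hcomm : ∀ a ∈ S, a * m * a⁻¹ * m⁻¹ ∈ C) : ↥S →* ↥C where
  toFun s := ⟨(s : Ω) * m * (s : Ω)⁻¹ * m⁻¹, hcomm s s.2⟩
  map_one' := by
    apply Subtype.ext
    show ((1 : ↥S) : Ω) * m * ((1 : ↥S) : Ω)⁻¹ * m⁻¹ = 1
    rw [Subgroup.coe_one]
    group
  map_mul' := by
    intro a b
    apply Subtype.ext
    show ((a * b : ↥S) : Ω) * m * ((a * b : ↥S) : Ω)⁻¹ * m⁻¹ =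
      ((a : Ω) * m * (a : Ω)⁻¹ * m⁻¹) * ((b : Ω) * m * (b : Ω)⁻¹ * m⁻¹)
    have hb := hcomm b b.2
    have haS : (a : Ω) * m * (a : Ω)⁻¹ * m⁻¹ ∈ S :=
      S.mul_mem (S.mul_mem (S.mul_mem a.2 hm) (S.inv_mem a.2)) (S.inv_mem hm)
    have e : ((a * b : ↥S) : Ω) * m * ((a * b : ↥S) : Ω)⁻¹ * m⁻¹ =
        (a : Ω) * ((b : Ω) * m * (b : Ω)⁻¹ * m⁻¹) * (a : Ω)⁻¹ *
          ((a : Ω) * m * (a : Ω)⁻¹ * m⁻¹) := by
      rw [Subgroup.coe_mul]
      group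
    rw [e, hCc _ hb a a.2, mul_inv_cancel_right]
    exact (hCc _ hb _ haS).symm

theorem comm_decomp_elt {p : ℕ} [hp : Fact p.Prime] (S C : Subgroup Ω) (hC : Nat.card C = p)
    (hCc : ∀ z ∈ C, ∀ s ∈ S, s * z = z * s) {m : Ω} (hm : m ∈ S)
    (hcomm : ∀ a ∈ S, a * m * a⁻¹ * m⁻¹ ∈ C) {y : Ω} (hy : y ∈ S)
    (hym : y * m ≠ m * y) :
    ∀ s ∈ S, ∃ k : ℤ, ∃ u ∈ S, u * m = m * u ∧ s = y ^ k * u := by
  obtain ⟨f, hf⟩ : ∃ f : ↥S →* ↥C, ∀ s : ↥S, ((f s : ↥C) : Ω) = (s : Ω) * m * (s : Ω)⁻¹ * m⁻¹ :=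
    ⟨commHomE S C hCc hm hcomm, fun s => rfl⟩
  intro s hs
  have hfy : f ⟨y, hy⟩ ≠ 1 := by
    intro h1
    have h2 : y * m * y⁻¹ * m⁻¹ = 1 := by
      rw [← hf ⟨y, hy⟩, h1]
      rfl
    apply hym
    have e : y * m = (y * m * y⁻¹ * m⁻¹) * (m * y) := by group
    rw [e, h2, one_mul]
  have h3 : f ⟨s, hs⟩ ∈ Subgroup.zpowers (f ⟨y, hy⟩) := mem_zpowers_of_prime_card hC hfy
  obtain ⟨k, hk⟩ := Subgroup.mem_zpowers_iff.mp h3
  have huS : y ^ (-k) * s ∈ S := S.mul_mem (S.zpow_mem hy _) hs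
  refine ⟨k, y ^ (-k) * s, huS, ?_, by group⟩
  have h4 : f ⟨y ^ (-k) * s, huS⟩ = 1 := by
    have e : (⟨y ^ (-k) * s, huS⟩ : ↥S) = (⟨y, hy⟩ : ↥S) ^ (-k) * ⟨s, hs⟩ := by
      apply Subtype.ext
      rw [Subgroup.coe_mul, Subgroup.coe_zpow]
    rw [e, map_mul, map_zpow, ← hk, zpow_neg, inv_mul_cancel]
  have h5 : (y ^ (-k) * s) * m * (y ^ (-k) * s)⁻¹ * m⁻¹ = 1 := by
    rw [← hf ⟨y ^ (-k) * s, huS⟩, h4]
    rfl
  have e : (y ^ (-k) * s) * m = ((y ^ (-k) * s) * m * (y ^ (-k) * s)⁻¹ * m⁻¹) *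
      (m * (y ^ (-k) * s)) := by group
  rw [e, h5, one_mul]

section main

variable [Finite S]

theorem essential_centralizer_aux (p : ℕ) [hp : Fact p.Prime] (hS : IsPGroup p ↥S) (n : ℕ)
    (hn : Nat.card S = p ^ n) (h4 : 4 ≤ n) (hmax : Subgroup.lowerCentralSeries S (n - 2) ≠ ⊥)
    (F : FusionSystem S) (hF : F.IsSaturated p)
    (Z2 : Subgroup Ω) (hZ2 : Z2 = (Subgroup.upperCentralSeries ↥S 2).map S.subtype)
    (ZS : Subgroup Ω) (hZSdef : ZS = (Subgroup.center ↥S).map S.subtype)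
    (φ : ↥Z2 →* Ω) (hφ : φ ∈ F.Hom Z2) (hφZ : φ.range = Z2)
    (hmove : ∃ (z : Ω) (hz : z ∈ Z2), z ∈ ZS ∧ φ ⟨z, hz⟩ ∉ ZS) :
    F.IsEssential p (S ⊓ Subgroup.centralizer (Z2 : Set Ω)) := by
  have hcl := nilpotencyClass_of_lcs_ne_bot n hn (by omega) hmax
  obtain ⟨hcard, hgenZ2⟩ := max_class_Z2 n h4 hn hcl
  have hZSeq : ZS = cen(S) := by
    rw [hZSdef]
    exact center_map_subtype S
  have hZSS : ZS ≤ S := hZSeq ▸ inf_le_left
  have hZSc : ∀ z ∈ ZS, ∀ s ∈ S, s * z = z * s := by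
    rw [hZSeq]
    exact cen_comm S
  have hZSmem : ∀ z ∈ S, (∀ s ∈ S, s * z = z * s) → z ∈ ZS := by
    intro z hz h
    rw [hZSeq]
    exact mem_cen S hz h
  have hZScard : Nat.card ZS = p := by
    rw [hZSdef, Subgroup.card_map_of_injective S.subtype_injective]
    exact hcard
  have hmemZ2 : ∀ y, y ∈ Z2 ↔ y ∈ S ∧ ∀ s ∈ S, y * s * y⁻¹ * s⁻¹ ∈ ZS := by
    intro y
    rw [hZ2, hZSeq]
    exact mem_Z₂_iff S y
  have hZ2S : Z2 ≤ S := fun y hy => ((hmemZ2 y).mp hy).1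
  have hZSZ2 : ZS ≤ Z2 := by
    intro z hz
    rw [hmemZ2]
    refine ⟨hZSS hz, fun s hs => ?_⟩
    have e : z * s * z⁻¹ * s⁻¹ = 1 := by
      rw [← hZSc z hz s hs]
      group
    rw [e]
    exact ZS.one_mem
  have hgen : ∀ z₂ ∈ Z2, z₂ ∉ ZS → ∀ z ∈ Z2, ∃ k : ℤ, ∃ c ∈ ZS, z = z₂ ^ k * c := by
    intro z₂ hz₂ hz₂Z z hz
    rw [hZ2] at hz₂ hz
    obtain ⟨a, ha, rfl⟩ := hz₂
    obtain ⟨b, hb, rfl⟩ := hz
    have haZ : a ∉ Subgroup.center ↥S := by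
      intro h
      apply hz₂Z
      rw [hZSdef]
      exact ⟨a, h, rfl⟩
    obtain ⟨k, c, hc, hbc⟩ := hgenZ2 a ha haZ b hb
    refine ⟨k, S.subtype c, ?_, ?_⟩
    · rw [hZSdef]
      exact ⟨c, hc, rfl⟩
    · rw [hbc, map_mul, map_zpow]
  obtain ⟨z₀, hz₀, hz₀Z, hφz₀⟩ := hmove
  obtain ⟨z₂, hz₂def⟩ : ∃ z₂, z₂ = φ ⟨z₀, hz₀⟩ := ⟨_, rfl⟩
  have hz₂ : z₂ ∈ Z2 := by
    rw [hz₂def]
    exact hφZ.le ⟨_, rfl⟩
  have hz₂Z : z₂ ∉ ZS := hz₂def ▸ hφz₀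
  have hz₂S : z₂ ∈ S := hZ2S hz₂
  obtain ⟨R, hR⟩ : ∃ R, R = S ⊓ Subgroup.centralizer (Z2 : Set Ω) := ⟨_, rfl⟩
  rw [← hR]
  have hRS : R ≤ S := hR ▸ inf_le_left
  haveI hfinR : Finite R := finite_of_le hRS
  have hRmem : ∀ s, s ∈ R ↔ s ∈ S ∧ s * z₂ = z₂ * s := by
    intro s
    rw [hR]
    constructor
    · rintro ⟨hsS, hsC⟩
      exact ⟨hsS, (Subgroup.mem_centralizer_iff.mp hsC z₂ hz₂).symm⟩
    · rintro ⟨hsS, hsz⟩
      refine ⟨hsS, ?_⟩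
      show s ∈ Subgroup.centralizer (Z2 : Set Ω)
      rw [Subgroup.mem_centralizer_iff]
      intro z hz
      obtain ⟨k, c, hc, rfl⟩ := hgen z₂ hz₂ hz₂Z z hz
      have h1 : Commute s z₂ := hsz
      have h2 : Commute s c := hZSc c hc s hsS
      exact ((h1.zpow_right k).mul_right h2).eq.symm
  have hcommZ : ∀ a ∈ S, a * z₂ * a⁻¹ * z₂⁻¹ ∈ ZS := by
    intro a ha
    exact comm_symm_mem ZS (((hmemZ2 z₂).mp hz₂).2 a ha)
  have hdec : ∀ y ∈ S, y * z₂ ≠ z₂ * y →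
      ∀ s ∈ S, ∃ k : ℤ, ∃ u ∈ S, u * z₂ = z₂ * u ∧ s = y ^ k * u :=
    fun y hy hyz => comm_decomp_elt S ZS hZScard hZSc hz₂S hcommZ hy hyz
  have hZ2R : Z2 ≤ R := by
    intro z hz
    rw [hRmem]
    refine ⟨hZ2S hz, ?_⟩
    obtain ⟨k, c, hc, rfl⟩ := hgen z₂ hz₂ hz₂Z z hz
    have h1 : Commute (z₂ ^ k) z₂ := (Commute.refl z₂).zpow_left k
    have h2 : Commute c z₂ := (hZSc c hc z₂ hz₂S).symm
    exact (h1.mul_left h2).eq
  obtain ⟨y₀, hy₀S, hy₀z⟩ : ∃ y₀ ∈ S, y₀ * z₂ ≠ z₂ * y₀ := by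
    by_contra hno
    push Not at hno
    exact hz₂Z (hZSmem z₂ hz₂S hno)
  have hlt : R < S := by
    refine lt_of_le_of_ne hRS ?_
    intro h
    have h1 : y₀ ∈ R := h ▸ hy₀S
    exact hy₀z ((hRmem y₀).mp h1).2
  -- `Z₂` and `R` are normal in `S`
  have hZ2conj : ∀ s ∈ S, ∀ z ∈ Z2, s * z * s⁻¹ ∈ Z2 := by
    intro s hs z hz
    have h1 : s * z * s⁻¹ * z⁻¹ ∈ ZS := comm_symm_mem ZS (((hmemZ2 z).mp hz).2 s hs)
    have e : s * z * s⁻¹ = (s * z * s⁻¹ * z⁻¹) * z := by group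
    rw [e]
    exact Z2.mul_mem (hZSZ2 h1) hz
  haveI hfinZ2 : Finite Z2 := finite_of_le hZ2S
  have hZ2N : ∀ s ∈ S, s ∈ Subgroup.normalizer (Z2 : Set Ω) :=
    fun s hs => KN.mem_normalizer_of_forall_conj_mem (hZ2conj s hs)
  have hRconj : ∀ s ∈ S, ∀ r ∈ R, s * r * s⁻¹ ∈ R := by
    intro s hs r hr
    rw [hRmem]
    have hrS := hRS hr
    refine ⟨S.mul_mem (S.mul_mem hs hrS) (S.inv_mem hs), ?_⟩
    have hw : s⁻¹ * z₂ * s ∈ Z2 := by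
      have := hZ2conj s⁻¹ (S.inv_mem hs) z₂ hz₂
      rwa [inv_inv] at this
    have hr' : r ∈ S ⊓ Subgroup.centralizer (Z2 : Set Ω) := hR ▸ hr
    have hwr : (s⁻¹ * z₂ * s) * r = r * (s⁻¹ * z₂ * s) :=
      Subgroup.mem_centralizer_iff.mp hr'.2 _ hw
    have e1 : s * r * s⁻¹ * z₂ = s * (r * (s⁻¹ * z₂ * s)) * s⁻¹ := by group
    have e2 : z₂ * (s * r * s⁻¹) = s * ((s⁻¹ * z₂ * s) * r) * s⁻¹ := by group
    rw [e1, e2, hwr]
  have hNR : normalizerIn S R = S :=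
    le_antisymm inf_le_left
      (fun s hs => ⟨hs, KN.mem_normalizer_of_forall_conj_mem (hRconj s hs)⟩)
  have hNZ2 : normalizerIn S Z2 = S :=
    le_antisymm inf_le_left (fun s hs => ⟨hs, hZ2N s hs⟩)
  have hRfn : F.IsFullyNormalized R :=
    ⟨hRS, fun Q _ => by
      rw [hNR]
      exact Subgroup.card_le_of_le (inf_le_left : S ⊓ Subgroup.normalizer (Q : Set Ω) ≤ S)⟩
  have hZ2fn : F.IsFullyNormalized Z2 :=
    ⟨hZ2S, fun Q _ => by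
      rw [hNZ2]
      exact Subgroup.card_le_of_le (inf_le_left : S ⊓ Subgroup.normalizer (Q : Set Ω) ≤ S)⟩
  -- extend `φ` to `R`
  obtain ⟨α, hα, hαφ⟩ := exists_aut_of_hom F hφ hφZ
  have hY : ∀ g ∈ ((R : Subgroup Ω) : Set Ω), g ∈ S ∧
      g ∈ Subgroup.normalizer (Z2 : Set Ω) ∧ ∃ g' ∈ S,
      ∀ (x : Z2) (hx : g * (x : Ω) * g⁻¹ ∈ Z2),
        ((α ⟨g * x * g⁻¹, hx⟩ : Z2) : Ω) = g' * ((α x : Z2) : Ω) * g'⁻¹ := by
    intro g hg
    have hgR : g ∈ R := hg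
    have hgS := hRS hgR
    refine ⟨hgS, hZ2N g hgS, 1, S.one_mem, fun x hx => ?_⟩
    have hg' : g ∈ S ⊓ Subgroup.centralizer (Z2 : Set Ω) := hR ▸ hgR
    have h1 : (x : Ω) * g = g * x := Subgroup.mem_centralizer_iff.mp hg'.2 x x.2
    have h2 : (⟨g * x * g⁻¹, hx⟩ : Z2) = x := by
      apply Subtype.ext
      show g * (x : Ω) * g⁻¹ = x
      rw [← h1, mul_inv_cancel_right]
    rw [h2, one_mul, inv_one, mul_one]
  obtain ⟨N, ψ, hψ, hZ2N', hRN, hψα⟩ := exists_extension hS F hF hZ2fn hα _ hY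
  have hRN' : R ≤ N := fun r hr => hRN hr
  have hNS : N ≤ S := (F.le_of_mem hψ).1
  obtain ⟨ψR, hψRdef⟩ : ∃ ψR : ↥R →* Ω, ψR = ψ.comp (Subgroup.inclusion hRN') := ⟨_, rfl⟩
  have hψR : ψR ∈ F.Hom R := hψRdef ▸ restrict_mem F hψ hRN'
  have hψRv : ∀ r : ↥R, ψR r = ψ ⟨r, hRN' r.2⟩ := by
    intro r
    rw [hψRdef]
    rfl
  have hψz : ∀ x : ↥Z2, ψ ⟨x, hZ2N' x.2⟩ = φ x := by
    intro x
    rw [hψα x (hZ2N' x.2), hαφ]
  have hrange : ψR.range = R := by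
    have hle : ψR.range ≤ R := by
      rintro _ ⟨r, rfl⟩
      rw [hRmem]
      refine ⟨(F.le_of_mem hψR).2 r, ?_⟩
      obtain ⟨x, hx⟩ : ∃ x : ↥Z2, φ x = z₂ := by
        have h1 : z₂ ∈ φ.range := hφZ.ge hz₂
        exact h1
      have hr' : (r : Ω) ∈ S ⊓ Subgroup.centralizer (Z2 : Set Ω) := hR ▸ r.2
      have h1 : (x : Ω) * r = r * x := Subgroup.mem_centralizer_iff.mp hr'.2 x x.2
      have h2 : (⟨r, hRN' r.2⟩ : ↥N) * ⟨x, hZ2N' x.2⟩ = ⟨x, hZ2N' x.2⟩ * ⟨r, hRN' r.2⟩ :=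
        Subtype.ext h1.symm
      have h3 := congrArg ψ h2
      rw [map_mul, map_mul, hψz x, hx] at h3
      rw [hψRv]
      exact h3
    exact Subgroup.eq_of_le_of_card_ge hle
      (Nat.card_congr (MonoidHom.ofInjective (F.injective_of_mem hψR)).toEquiv).le
  obtain ⟨β, hβ, hβψ⟩ := exists_aut_of_hom F hψR hrange
  -- automorphisms preserving `Z(S)`
  obtain ⟨St, hSt⟩ : ∃ St : Subgroup (MulAut ↥R), ∀ a : MulAut ↥R,
      a ∈ St ↔ ∀ r : ↥R, ((a r : ↥R) : Ω) ∈ ZS ↔ (r : Ω) ∈ ZS := by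
    refine ⟨{ carrier := {a | ∀ r : ↥R, ((a r : ↥R) : Ω) ∈ ZS ↔ (r : Ω) ∈ ZS}
              one_mem' := fun r => Iff.rfl
              mul_mem' := ?_
              inv_mem' := ?_ }, fun a => Iff.rfl⟩
    · intro a b ha hb r
      show ((a (b r) : ↥R) : Ω) ∈ ZS ↔ (r : Ω) ∈ ZS
      rw [ha (b r), hb r]
    · intro a ha r
      have h1 := ha (a⁻¹ r)
      rw [MulAut.apply_inv_self] at h1
      exact h1.symm
  have hext : ∀ a ∈ extGen F R, a ∈ St := by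
    rintro a ⟨Q, hRQ, ψ', hψ', hψ'a⟩
    have hQS : Q ≤ S := (F.le_of_mem hψ').1
    obtain ⟨y', hy'Q, hy'R⟩ := SetLike.exists_of_lt hRQ
    have hy'S := hQS hy'Q
    have hy'z : y' * z₂ ≠ z₂ * y' := fun h => hy'R ((hRmem y').mpr ⟨hy'S, h⟩)
    have hSQ : S ≤ Q := by
      intro s hs
      obtain ⟨k, u, huS, huz, rfl⟩ := hdec y' hy'S hy'z s hs
      exact Q.mul_mem (Q.zpow_mem hy'Q k) (hRQ.le ((hRmem u).mpr ⟨huS, huz⟩))
    obtain rfl : S = Q := le_antisymm hSQ hQS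
    have hrange' : ψ'.range = S := by
      have hle : ψ'.range ≤ S := by
        rintro _ ⟨x, rfl⟩
        exact (F.le_of_mem hψ').2 x
      exact Subgroup.eq_of_le_of_card_ge hle
        (Nat.card_congr (MonoidHom.ofInjective (F.injective_of_mem hψ')).toEquiv).le
    obtain ⟨γ, hγ, hγψ⟩ := exists_aut_of_hom F hψ' hrange'
    rw [hSt]
    intro r
    have h1 : ((a r : ↥R) : Ω) = ((γ ⟨r, hRS r.2⟩ : ↥S) : Ω) := by
      rw [hγψ, ← hψ'a r]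
      rfl
    rw [h1, hZSeq]
    exact aut_mem_cen_iff γ ⟨r, hRS r.2⟩
  have hHSt : Subgroup.closure (extGen F R) ≤ St := (Subgroup.closure_le _).mpr hext
  have hβSt : β ∉ St := by
    intro h
    rw [hSt] at h
    have h1 := (h ⟨z₀, hZ2R hz₀⟩).mpr hz₀Z
    apply hφz₀
    have h2 : ((β ⟨z₀, hZ2R hz₀⟩ : ↥R) : Ω) = φ ⟨z₀, hz₀⟩ := by
      rw [hβψ, hψRv]
      exact hψz ⟨z₀, hz₀⟩
    rw [← h2]
    exact h1
  rcases extendable_dichotomy p hS F hF R hlt hRfn _ rfl with ⟨-, hH⟩ | ⟨hess, -⟩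
  · exfalso
    apply hβSt
    apply hHSt
    rw [hH]
    exact hβ
  · exact hess

/-- S5270 -/
theorem essential_centralizer_Z2 (p : ℕ) [hp : Fact p.Prime] (hS : IsPGroup p ↥S) (n : ℕ)
    (hn : Nat.card S = p ^ n) (h4 : 4 ≤ n) (hmax : Subgroup.lowerCentralSeries S (n - 2) ≠ ⊥)
    (F : FusionSystem S) (hF : F.IsSaturated p)
    (φ : ↥((Subgroup.upperCentralSeries ↥S 2).map S.subtype) →* Ω)
    (hφ : φ ∈ F.Hom ((Subgroup.upperCentralSeries ↥S 2).map S.subtype))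
    (hφZ : φ.range = ((Subgroup.upperCentralSeries ↥S 2).map S.subtype))
    (hmove : ∃ (z : Ω) (hz : z ∈ ((Subgroup.upperCentralSeries ↥S 2).map S.subtype)),
      z ∈ ((Subgroup.center ↥S).map S.subtype) ∧
        φ ⟨z, hz⟩ ∉ ((Subgroup.center ↥S).map S.subtype)) :
    F.IsEssential p (S ⊓ Subgroup.centralizer
      (((Subgroup.upperCentralSeries ↥S 2).map S.subtype) : Set Ω)) :=
  essential_centralizer_aux p hS n hn h4 hmax F hF _ rfl _ rfl φ hφ hφZ hmove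

end main

end Cfsg.Agent.Lib.Helper1.ET
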