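import Mathlib
import Cfsg.Agent.Lib.Helper9.StabChain
set_option autoImplicit false
set_option linter.style.haveILetI false
set_option linter.unusedSectionVars false
set_option linter.unusedVariables false
set_option maxHeartbeats 4000000
open scoped commutatorElement
namespace Cfsg.Agent.Lib.Helper1.ET15
open Cfsg Cfsg.Agent.Lib.Helper9

/-- a unit mod `p^k` of order prime to `p` has order dividing `p - 1` -/
theorem nt_pow (p k n : ℕ) [hp : Fact p.Prime] (a : ℤ) (hn : n.Coprime p)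
    (h : ((p ^ k : ℕ) : ℤ) ∣ a ^ n - 1) : ((p ^ k : ℕ) : ℤ) ∣ a ^ (p - 1) - 1 := by
  rcases Nat.eq_zero_or_pos k with rfl | hk
  · simp
  haveI : NeZero (p ^ k) := ⟨pow_ne_zero _ hp.out.ne_zero⟩
  have hn0 : n ≠ 0 := by
    rintro rfl
    rw [Nat.coprime_zero_left] at hn
    exact hp.out.one_lt.ne' hn
  have h1 : ((a : ZMod (p ^ k))) ^ n = 1 := by
    have h2 := (ZMod.intCast_zmod_eq_zero_iff_dvd (a ^ n - 1) (p ^ k)).mpr h
    push_cast at h2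
    exact sub_eq_zero.mp h2
  obtain ⟨u, hu⟩ : ∃ u : (ZMod (p ^ k))ˣ, (u : ZMod (p ^ k)) = (a : ZMod (p ^ k)) :=
    ⟨Units.ofPowEqOne _ n h1 hn0, by simp⟩
  have hun : u ^ n = 1 := by
    apply Units.ext
    rw [Units.val_pow_eq_pow_val, hu, h1, Units.val_one]
  have h2 : orderOf u ∣ n := orderOf_dvd_of_pow_eq_one hun
  have h3 : orderOf u ∣ p ^ (k - 1) * (p - 1) := by
    have h4 : orderOf u ∣ Nat.totient (p ^ k) := orderOf_dvd_of_pow_eq_one (ZMod.pow_totient u)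
    rwa [Nat.totient_prime_pow hp.out hk] at h4
  have h4 : (orderOf u).Coprime (p ^ (k - 1)) :=
    (Nat.Coprime.coprime_dvd_left h2 hn).pow_right _
  have h5 : orderOf u ∣ p - 1 := (Nat.Coprime.dvd_mul_left h4).mp h3
  have h6 : u ^ (p - 1) = 1 := orderOf_dvd_iff_pow_eq_one.mp h5
  have h7 : ((a : ZMod (p ^ k))) ^ (p - 1) = 1 := by
    have h8 := congrArg Units.val h6
    rwa [Units.val_pow_eq_pow_val, hu, Units.val_one] at h8
  have h9 : (((a ^ (p - 1) - 1 : ℤ)) : ZMod (p ^ k)) = 0 := by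
    push_cast
    rw [h7, sub_self]
  exact (ZMod.intCast_zmod_eq_zero_iff_dvd _ _).mp h9

variable {X : Type*} [Group X]

/-- an automorphism acts on a cyclic section as a power map -/
theorem cyc_const (N M : Subgroup X) [N.Normal] (y : X) (hy : y ∈ M)
    (hcyc : ∀ z ∈ M, ∃ k : ℤ, (y ^ k)⁻¹ * z ∈ N)
    (α : MulAut X) (hαN : ∀ x ∈ N, α x ∈ N) (hαM : ∀ x ∈ M, α x ∈ M) :
    ∃ a : ℤ, ∀ x ∈ M, (QuotientGroup.mk (α x) : X ⧸ N) = (QuotientGroup.mk x : X ⧸ N) ^ a := by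
  obtain ⟨a, ha⟩ := hcyc (α y) (hαM y hy)
  refine ⟨a, fun x hx => ?_⟩
  obtain ⟨k, hk⟩ := hcyc x hx
  have h1 : (QuotientGroup.mk x : X ⧸ N) = (QuotientGroup.mk y : X ⧸ N) ^ k := by
    rw [← QuotientGroup.mk_zpow]
    exact (QuotientGroup.eq.mpr hk).symm
  have h2 : (QuotientGroup.mk (α y) : X ⧸ N) = (QuotientGroup.mk y : X ⧸ N) ^ a := by
    rw [← QuotientGroup.mk_zpow]
    exact (QuotientGroup.eq.mpr ha).symm
  have h3 : (QuotientGroup.mk (α x) : X ⧸ N) = (QuotientGroup.mk (α y) : X ⧸ N) ^ k := by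
    have e : α x = (α y) ^ k * α ((y ^ k)⁻¹ * x) := by
      rw [← map_zpow, ← map_mul, mul_inv_cancel_left]
    rw [e, QuotientGroup.mk_mul, QuotientGroup.mk_zpow,
      (QuotientGroup.eq_one_iff _).mpr (hαN _ hk), mul_one]
  rw [h3, h2, h1, ← zpow_mul, ← zpow_mul, mul_comm]

theorem comm_step (N M : Subgroup X) [N.Normal] (y : X) (hy : y ∈ M)
    (hcyc : ∀ z ∈ M, ∃ k : ℤ, (y ^ k)⁻¹ * z ∈ N)
    (α β : MulAut X) (hαN : ∀ x ∈ N, α x ∈ N) (hαM : ∀ x ∈ M, α x ∈ M)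
    (hβN : ∀ x ∈ N, β x ∈ N) (hβM : ∀ x ∈ M, β x ∈ M) :
    ∀ x ∈ M, (β (α x))⁻¹ * α (β x) ∈ N := by
  obtain ⟨a, ha⟩ := cyc_const N M y hy hcyc α hαN hαM
  obtain ⟨b, hb⟩ := cyc_const N M y hy hcyc β hβN hβM
  intro x hx
  rw [← QuotientGroup.eq]
  rw [hb (α x) (hαM x hx), ha x hx, ha (β x) (hβM x hx), hb x hx, ← zpow_mul, ← zpow_mul, mul_comm]

/-- commutators of automorphisms preserving a chain with cyclic factors stabilize the chain -/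
theorem comm_mem_stabChain (A : Subgroup (MulAut X)) (e : ℕ → Subgroup X)
    (hinv : ∀ α ∈ A, ∀ j, ∀ x ∈ e j, α x ∈ e j)
    (hn : ∀ j, (e j).Normal)
    (hcyc : ∀ j, ∃ y ∈ e (j + 1), ∀ z ∈ e (j + 1), ∃ k : ℤ, (y ^ k)⁻¹ * z ∈ e j)
    {α β : MulAut X} (hα : α ∈ A) (hβ : β ∈ A) : ⁅α, β⁆ ∈ stabChain A e hinv := by
  refine ⟨?_, fun j w hw => ?_⟩
  · rw [commutatorElement_def]
    exact A.mul_mem (A.mul_mem (A.mul_mem hα hβ) (A.inv_mem hα)) (A.inv_mem hβ)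
  haveI := hn j
  obtain ⟨y, hy, hyc⟩ := hcyc j
  obtain ⟨z, hz⟩ : ∃ z, z = α⁻¹ (β⁻¹ w) := ⟨_, rfl⟩
  have hzM : z ∈ e (j + 1) := by
    rw [hz]
    exact hinv α⁻¹ (A.inv_mem hα) _ _ (hinv β⁻¹ (A.inv_mem hβ) _ _ hw)
  have h1 := comm_step (e j) (e (j + 1)) y hy hyc α β (hinv α hα j) (hinv α hα (j + 1))
    (hinv β hβ j) (hinv β hβ (j + 1)) z hzM
  have e1 : β (α z) = w := by
    rw [hz, MulAut.apply_inv_self, MulAut.apply_inv_self]
  have e2 : ⁅α, β⁆ w = α (β z) := by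
    rw [commutatorElement_def, hz]
    rfl
  have e3 : w⁻¹ * ⁅α, β⁆ w = (β (α z))⁻¹ * α (β z) := by rw [e1, e2]
  rw [e3]
  exact h1

/-- `p'`-elements: the `(p-1)`-th power stabilizes the chain -/
theorem pow_mem_stabChain [Finite X] {p : ℕ} [hp : Fact p.Prime] (hX : IsPGroup p X)
    (A : Subgroup (MulAut X)) (e : ℕ → Subgroup X)
    (hinv : ∀ α ∈ A, ∀ j, ∀ x ∈ e j, α x ∈ e j)
    (hn : ∀ j, (e j).Normal)
    (hcyc : ∀ j, ∃ y ∈ e (j + 1), ∀ z ∈ e (j + 1), ∃ k : ℤ, (y ^ k)⁻¹ * z ∈ e j)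
    {α : MulAut X} (hα : α ∈ A) (n : ℕ) (hnp : n.Coprime p) (hαn : α ^ n = 1) :
    α ^ (p - 1) ∈ stabChain A e hinv := by
  refine ⟨A.pow_mem hα _, fun j w hw => ?_⟩
  haveI := hn j
  obtain ⟨y, hy, hyc⟩ := hcyc j
  obtain ⟨a, ha⟩ := cyc_const (e j) (e (j + 1)) y hy hyc α (hinv α hα j) (hinv α hα (j + 1))
  have hpow : ∀ k : ℕ, ∀ x ∈ e (j + 1),
      (QuotientGroup.mk ((α ^ k) x) : X ⧸ e j) = (QuotientGroup.mk x : X ⧸ e j) ^ (a ^ k) := by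
    intro k
    induction k with
    | zero => intro x hx; simp
    | succ k ih =>
      intro x hx
      have hx' : (α ^ k) x ∈ e (j + 1) := hinv _ (A.pow_mem hα k) _ _ hx
      rw [pow_succ', MulAut.mul_apply, ha _ hx', ih x hx, ← zpow_mul, pow_succ]
  obtain ⟨t, ht⟩ := (IsPGroup.iff_orderOf.mp (hX.to_quotient (e j))) (QuotientGroup.mk y : X ⧸ e j)
  have h1 : (QuotientGroup.mk y : X ⧸ e j) ^ (a ^ n) = (QuotientGroup.mk y : X ⧸ e j) ^ (1 : ℤ) := by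
    rw [← hpow n y hy, hαn, zpow_one]
    rfl
  rw [zpow_eq_zpow_iff_modEq, ht] at h1
  have h2 : ((p ^ t : ℕ) : ℤ) ∣ a ^ n - 1 := (Int.modEq_iff_dvd.mp h1.symm)
  have h3 := nt_pow p t n a hnp h2
  have h4 : (QuotientGroup.mk y : X ⧸ e j) ^ (a ^ (p - 1)) = (QuotientGroup.mk y : X ⧸ e j) := by
    have h5 : (1 : ℤ) ≡ a ^ (p - 1) [ZMOD ((orderOf (QuotientGroup.mk y : X ⧸ e j) : ℕ) : ℤ)] := by
      rw [ht]
      exact Int.modEq_iff_dvd.mpr h3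
    have h6 := zpow_eq_zpow_iff_modEq.mpr h5
    rw [zpow_one] at h6
    exact h6.symm
  obtain ⟨k, hk⟩ := hyc w hw
  have h5 : (QuotientGroup.mk w : X ⧸ e j) = (QuotientGroup.mk y : X ⧸ e j) ^ k := by
    rw [← QuotientGroup.mk_zpow]
    exact (QuotientGroup.eq.mpr hk).symm
  have h6 : (QuotientGroup.mk ((α ^ (p - 1)) w) : X ⧸ e j) = (QuotientGroup.mk w : X ⧸ e j) := by
    rw [hpow (p - 1) w hw, h5, ← zpow_mul, mul_comm, zpow_mul, h4]
  exact QuotientGroup.eq.mp h6.symm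

theorem eq_one_of_isPGroup_of_coprime {G : Type*} [Group G] {p : ℕ} [Fact p.Prime]
    {K H : Subgroup G} (hK : IsPGroup p K) (hH : (Nat.card H).Coprime p) {g : G}
    (hgK : g ∈ K) (hgH : g ∈ H) : g = 1 := by
  obtain ⟨k, hk⟩ := hK ⟨g, hgK⟩
  have h1 : g ^ (p ^ k) = 1 := by
    have := congrArg Subtype.val hk
    simpa using this
  have h2 : g ^ (Nat.card H) = 1 := by
    have h3 : (⟨g, hgH⟩ : H) ^ (Nat.card H) = 1 := pow_card_eq_one'
    exact congrArg Subtype.val h3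
  have h3 : orderOf g ∣ Nat.gcd (p ^ k) (Nat.card H) :=
    Nat.dvd_gcd (orderOf_dvd_of_pow_eq_one h1) (orderOf_dvd_of_pow_eq_one h2)
  have h4 : Nat.gcd (p ^ k) (Nat.card H) = 1 := Nat.Coprime.pow_left k hH.symm
  rw [h4, Nat.dvd_one] at h3
  exact orderOf_eq_one_iff.mp h3

/-- a `p'`-group of automorphisms preserving a chain with cyclic factors of a `p`-group is abelian
of exponent dividing `p - 1` -/
theorem abelian_of_coprime [Finite X] {p : ℕ} [Fact p.Prime] (hX : IsPGroup p X)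
    (H : Subgroup (MulAut X)) (hH : (Nat.card H).Coprime p) (e : ℕ → Subgroup X)
    (hinv : ∀ α ∈ H, ∀ j, ∀ x ∈ e j, α x ∈ e j) (h0 : e 0 = ⊥) (m : ℕ) (hm : e m = ⊤)
    (hn : ∀ j, (e j).Normal)
    (hcyc : ∀ j, ∃ y ∈ e (j + 1), ∀ z ∈ e (j + 1), ∃ k : ℤ, (y ^ k)⁻¹ * z ∈ e j) :
    (∀ α ∈ H, ∀ β ∈ H, α * β = β * α) ∧ ∀ α ∈ H, α ^ (p - 1) = 1 := by
  have hK := stabChain_isPGroup hX H e hinv h0 m hm
  constructor
  · intro α hα β hβ
    have h1 := comm_mem_stabChain H e hinv hn hcyc hα hβ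
    have h2 : ⁅α, β⁆ = 1 := eq_one_of_isPGroup_of_coprime hK hH h1 h1.1
    exact commutatorElement_eq_one_iff_mul_comm.mp h2
  · intro α hα
    have hαn : α ^ (Nat.card H) = 1 := by
      have h3 : (⟨α, hα⟩ : H) ^ (Nat.card H) = 1 := pow_card_eq_one'
      exact congrArg Subtype.val h3
    have h1 := pow_mem_stabChain hX H e hinv hn hcyc hα (Nat.card H) hH hαn
    exact eq_one_of_isPGroup_of_coprime hK hH h1 h1.1

end Cfsg.Agent.Lib.Helper1.ET15
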