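import Mathlib
import Cfsg.Agent.Lib.Helper1.ET15
import Cfsg.Agent.Lib.Helper1.PCore
import Cfsg.Agent.Lib.Helper9.NormalCrit
import Cfsg.Agent.Lib.Helper9.Alperin1
import Cfsg.Agent.Lib.Helper9.FusionSat1
import Cfsg.Agent.Lib.Helper2.EssGen2
import Cfsg.Agent.Lib.Helper2.AutSys1
set_option autoImplicit false
set_option linter.style.haveILetI false
set_option linter.unusedSectionVars false
set_option linter.unusedVariables false
set_option maxHeartbeats 4000000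
open scoped commutatorElement
namespace Cfsg.Agent.Lib.Helper1.ET16
open Cfsg Cfsg.FusionSystem Cfsg.Agent.Lib.Helper9 Cfsg.Agent.Lib.Helper1.ET15

variable {Ω : Type*} [Group Ω] {S : Subgroup Ω}

theorem conj_mem_of_stronglyClosed (F : FusionSystem S) {c : Subgroup Ω} (hc : F.StronglyClosed c)
    {g : Ω} (hg : g ∈ S) {u : Ω} (hu : u ∈ c) : g * u * g⁻¹ ∈ c := by
  have h1 := F.conj_mem (P := c) (g := g) hc.1 hg
  exact hc.2 c le_rfl _ h1 ⟨u, hu⟩

/-- re-index a finite strongly closed chain by `ℕ` -/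
theorem chainN (F : FusionSystem S) (m : ℕ) (c : Fin (m + 1) → Subgroup Ω) (h0 : c 0 = ⊥)
    (hlast : c (Fin.last m) = S) (hsc : ∀ i, F.StronglyClosed (c i))
    (hstep : ∀ i : Fin m, c i.castSucc ≤ c i.succ ∧
      ∃ x ∈ S, c i.succ = c i.castSucc ⊔ Subgroup.zpowers x) :
    ∃ cN : ℕ → Subgroup Ω, cN 0 = ⊥ ∧ cN m = S ∧ (∀ j, F.StronglyClosed (cN j)) ∧
      ∀ j, cN j ≤ cN (j + 1) ∧ ∃ x ∈ S, cN (j + 1) = cN j ⊔ Subgroup.zpowers x := by
  have hSsc : F.StronglyClosed S := ⟨le_rfl, fun R hR φ hφ x => (F.le_of_mem hφ).2 x⟩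
  refine ⟨fun j => if h : j < m + 1 then c ⟨j, h⟩ else S, ?_, ?_, ?_, ?_⟩
  · show (if h : 0 < m + 1 then c ⟨0, h⟩ else S) = ⊥
    rw [dif_pos (Nat.succ_pos m)]
    exact h0
  · show (if h : m < m + 1 then c ⟨m, h⟩ else S) = S
    rw [dif_pos (Nat.lt_succ_self m)]
    exact hlast
  · intro j
    show F.StronglyClosed (if h : j < m + 1 then c ⟨j, h⟩ else S)
    split_ifs with h
    · exact hsc _
    · exact hSsc
  · intro j
    show (if h : j < m + 1 then c ⟨j, h⟩ else S) ≤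
        (if h : j + 1 < m + 1 then c ⟨j + 1, h⟩ else S) ∧
      ∃ x ∈ S, (if h : j + 1 < m + 1 then c ⟨j + 1, h⟩ else S) =
        (if h : j < m + 1 then c ⟨j, h⟩ else S) ⊔ Subgroup.zpowers x
    by_cases hj : j < m
    · rw [dif_pos (by omega : j < m + 1), dif_pos (by omega : j + 1 < m + 1)]
      exact hstep ⟨j, hj⟩
    · rw [dif_neg (by omega : ¬ j + 1 < m + 1)]
      have h1 : (if h : j < m + 1 then c ⟨j, h⟩ else S) = S := by
        by_cases hjm : j < m + 1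
        · rw [dif_pos hjm]
          have hjm' : j = m := by omega
          subst hjm'
          exact hlast
        · rw [dif_neg hjm]
      rw [h1]
      exact ⟨le_rfl, 1, S.one_mem, by rw [Subgroup.zpowers_one_eq_bot, sup_bot_eq]⟩

/-- the chain induced on a subgroup `P ≤ S` has normal members and cyclic steps -/
theorem chain_sub (F : FusionSystem S) (cN : ℕ → Subgroup Ω)
    (hsc : ∀ j, F.StronglyClosed (cN j))
    (hstep : ∀ j, cN j ≤ cN (j + 1) ∧ ∃ x ∈ S, cN (j + 1) = cN j ⊔ Subgroup.zpowers x)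
    {P : Subgroup Ω} (hPS : P ≤ S) :
    (∀ j, ((cN j).subgroupOf P).Normal) ∧
    ∀ j, ∃ y ∈ (cN (j + 1)).subgroupOf P, ∀ z ∈ (cN (j + 1)).subgroupOf P,
      ∃ k : ℤ, (y ^ k)⁻¹ * z ∈ (cN j).subgroupOf P := by
  constructor
  · intro j
    constructor
    intro n hn g
    rw [Subgroup.mem_subgroupOf] at hn ⊢
    have := conj_mem_of_stronglyClosed F (hsc j) (hPS g.2) hn
    simpa using this
  · intro j
    obtain ⟨hle, x, hxS, hx⟩ := hstep j
    have hcS : cN j ≤ S := (hsc j).1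
    obtain ⟨N, hN⟩ : ∃ N : Subgroup ↥S, N = (cN j).subgroupOf S := ⟨_, rfl⟩
    haveI hNn : N.Normal := by
      rw [hN]
      constructor
      intro n hn g
      rw [Subgroup.mem_subgroupOf] at hn ⊢
      have := conj_mem_of_stronglyClosed F (hsc j) g.2 hn
      simpa using this
    have h1 : ∀ z : ↥S, (z : Ω) ∈ cN (j + 1) → (QuotientGroup.mk z : ↥S ⧸ N) ∈
        Subgroup.zpowers (QuotientGroup.mk (⟨x, hxS⟩ : ↥S) : ↥S ⧸ N) := by
      intro z hz
      have h2 : (cN (j + 1)).subgroupOf S ≤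
          (Subgroup.zpowers (QuotientGroup.mk (⟨x, hxS⟩ : ↥S) : ↥S ⧸ N)).comap
            (QuotientGroup.mk' N) := by
        rw [hx, Subgroup.subgroupOf_sup hcS (Subgroup.zpowers_le.mpr hxS)]
        apply sup_le
        · intro u hu
          rw [Subgroup.mem_comap]
          have h3 : (QuotientGroup.mk' N) u = 1 := by
            rw [QuotientGroup.mk'_apply, QuotientGroup.eq_one_iff, hN]
            exact hu
          rw [h3]
          exact Subgroup.one_mem _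
        · intro u hu
          rw [Subgroup.mem_subgroupOf, Subgroup.mem_zpowers_iff] at hu
          obtain ⟨k, hk⟩ := hu
          rw [Subgroup.mem_comap, QuotientGroup.mk'_apply]
          have h3 : u = (⟨x, hxS⟩ : ↥S) ^ k := Subtype.ext (by rw [← hk]; simp)
          rw [h3, QuotientGroup.mk_zpow]
          exact Subgroup.zpow_mem_zpowers _ k
      exact h2 (Subgroup.mem_subgroupOf.mpr hz)
    obtain ⟨D, hD⟩ : ∃ D : Subgroup (↥S ⧸ N),
      D = ((cN (j + 1) ⊓ P).subgroupOf S).map (QuotientGroup.mk' N) := ⟨_, rfl⟩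
    have hDle : D ≤ Subgroup.zpowers (QuotientGroup.mk (⟨x, hxS⟩ : ↥S) : ↥S ⧸ N) := by
      rw [hD]
      rintro _ ⟨z, hz, rfl⟩
      have hz' : z ∈ (cN (j + 1) ⊓ P).subgroupOf S := hz
      rw [Subgroup.mem_subgroupOf] at hz'
      exact h1 z hz'.1
    haveI : IsCyclic ↥D := Subgroup.isCyclic_of_le hDle
    obtain ⟨g, hg⟩ := IsCyclic.exists_generator (α := ↥D)
    obtain ⟨y', hy'0, hy'g⟩ := hD.le g.2
    have hy' : y' ∈ (cN (j + 1) ⊓ P).subgroupOf S := hy'0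
    rw [Subgroup.mem_subgroupOf] at hy'
    refine ⟨⟨(y' : Ω), hy'.2⟩, Subgroup.mem_subgroupOf.mpr hy'.1, ?_⟩
    intro z hz
    rw [Subgroup.mem_subgroupOf] at hz
    have hzD : (QuotientGroup.mk' N) ⟨(z : Ω), hPS z.2⟩ ∈ D := by
      rw [hD]
      exact ⟨⟨(z : Ω), hPS z.2⟩, Subgroup.mem_subgroupOf.mpr ⟨hz, z.2⟩, rfl⟩
    obtain ⟨k, hk⟩ := Subgroup.mem_zpowers_iff.mp (hg ⟨_, hzD⟩)
    refine ⟨k, ?_⟩
    rw [Subgroup.mem_subgroupOf]
    have h3 : (QuotientGroup.mk' N) (y' ^ k) = (QuotientGroup.mk' N) ⟨(z : Ω), hPS z.2⟩ := by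
      rw [map_zpow, hy'g]
      have := congrArg Subtype.val hk
      simpa using this
    have h4 : (y' ^ k)⁻¹ * ⟨(z : Ω), hPS z.2⟩ ∈ N := QuotientGroup.eq.mp h3
    rw [hN, Subgroup.mem_subgroupOf] at h4
    simpa using h4

theorem autGroup_inv_of_stronglyClosed (F : FusionSystem S) {c : Subgroup Ω}
    (hc : F.StronglyClosed c) {P : Subgroup Ω} (hPS : P ≤ S) {α : MulAut ↥P}
    (hα : α ∈ F.autGroup P) (x : ↥P) (hx : (x : Ω) ∈ c) : ((α x : ↥P) : Ω) ∈ c := by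
  have h1 := hom_of_mem_autGroup F hPS hα
  have h2 := restrict_mem F h1 (inf_le_right : c ⊓ P ≤ P)
  have h3 := hc.2 (c ⊓ P) inf_le_left _ h2 ⟨(x : Ω), ⟨hx, x.2⟩⟩
  exact h3

/-- a saturated fusion system with a strongly closed chain with cyclic steps has no essential
subgroups -/
theorem no_essential_of_chain [Finite S] (p : ℕ) [Fact p.Prime] (hS : IsPGroup p ↥S)
    (F : FusionSystem S) (hF : F.IsSaturated p) (cN : ℕ → Subgroup Ω) (h0 : cN 0 = ⊥) (m : ℕ)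
    (hm : cN m = S) (hsc : ∀ j, F.StronglyClosed (cN j))
    (hstep : ∀ j, cN j ≤ cN (j + 1) ∧ ∃ x ∈ S, cN (j + 1) = cN j ⊔ Subgroup.zpowers x)
    (P : Subgroup Ω) (hP : F.IsEssential p P) : False := by
  have hPS : P ≤ S := hP.1.1
  have hlt : P < S := Cfsg.Agent.Lib.Helper2.EssGen.essential_lt hS F hF hP
  haveI : Finite ↥P := finite_of_le hPS
  have hPp : IsPGroup p ↥P := isPGroup_of_le hS hPS
  obtain ⟨hn, hcyc⟩ := chain_sub F cN hsc hstep hPS
  obtain ⟨e, he⟩ : ∃ e : ℕ → Subgroup ↥P, e = fun j => (cN j).subgroupOf P := ⟨_, rfl⟩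
  have hej : ∀ j, e j = (cN j).subgroupOf P := fun j => by rw [he]
  have hrad := (Cfsg.Agent.S5080.result p hS F hF P hP).2
  obtain ⟨A, hA⟩ : ∃ A : Subgroup (MulAut ↥P), A = F.autGroup P := ⟨_, rfl⟩
  rw [← hA] at hrad
  have hinv : ∀ α ∈ A, ∀ j, ∀ x ∈ e j, α x ∈ e j := by
    intro α hα j x hx
    rw [hej, Subgroup.mem_subgroupOf] at hx ⊢
    rw [hA] at hα
    exact autGroup_inv_of_stronglyClosed F (hsc j) hPS hα x hx
  have he0 : e 0 = ⊥ := by rw [hej, h0, Subgroup.bot_subgroupOf]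
  have hem : e m = ⊤ := by rw [hej, hm, Subgroup.subgroupOf_eq_top]; exact hPS
  have hn' : ∀ j, (e j).Normal := fun j => by rw [hej]; exact hn j
  have hcyc' : ∀ j, ∃ y ∈ e (j + 1), ∀ z ∈ e (j + 1), ∃ k : ℤ, (y ^ k)⁻¹ * z ∈ e j := by
    intro j; rw [hej, hej]; exact hcyc j
  have hK : IsPGroup p ↥(stabChain A e hinv) := stabChain_isPGroup hPp A e hinv he0 m hem
  obtain ⟨K, hKdef⟩ : ∃ K : Subgroup (MulAut ↥P), K = stabChain A e hinv := ⟨_, rfl⟩
  rw [← hKdef] at hK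
  have hKA : K ≤ A := by rw [hKdef]; intro α hα; exact hα.1
  have hcomm : ∀ α ∈ A, ∀ β ∈ A, ⁅α, β⁆ ∈ K := by
    intro α hα β hβ; rw [hKdef]; exact comm_mem_stabChain A e hinv hn' hcyc' hα hβ
  have hconj : ∀ (M : Subgroup (MulAut ↥P)), K ≤ M → ∀ a ∈ A, ∀ n ∈ M, n ∈ A →
      a * n * a⁻¹ ∈ M := by
    intro M hKM a ha n hn hnA
    have h1 : a * n * a⁻¹ = ⁅a, n⁆ * n := by rw [commutatorElement_def]; group
    rw [h1]
    exact M.mul_mem (hKM (hcomm a ha n hnA)) hn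
  obtain ⟨T, hT⟩ : ∃ T : Subgroup (MulAut ↥P), T = autInducedBy S P := ⟨_, rfl⟩
  have hTA : T ≤ A := by rw [hT, hA]; exact autInducedBy_le_autGroup F hPS
  have hTp : IsPGroup p ↥T := by rw [hT]; exact isPGroup_autInducedBy hS P
  have hTK : T ≤ Subgroup.normalizer (K : Set (MulAut ↥P)) := by
    intro t ht
    rw [Subgroup.mem_normalizer_iff]
    intro k
    constructor
    · intro hk
      exact hconj K le_rfl t (hTA ht) k hk (hKA hk)
    · intro hk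
      have h1 := hconj K le_rfl t⁻¹ (A.inv_mem (hTA ht)) _ hk (hKA hk)
      have h2 : t⁻¹ * (t * k * t⁻¹) * t⁻¹⁻¹ = k := by group
      rwa [h2] at h1
  have hNp : IsPGroup p ↥(K ⊔ T) := IsPGroup.to_sup_of_normal_left' hK hTp hTK
  have hNA : K ⊔ T ≤ A := sup_le hKA hTA
  have hNn : ((K ⊔ T).subgroupOf A).Normal := by
    constructor
    intro n hn a
    rw [Subgroup.mem_subgroupOf] at hn ⊢
    have := hconj (K ⊔ T) le_sup_left a.1 a.2 n.1 hn n.2
    simpa using this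
  have hle := Cfsg.Agent.Lib.Helper1.le_pCore (p := p) hNn (hNp.comap_subtype)
  have hTInn : T ≤ Cfsg.Inn ↥P := by
    intro t ht
    have h1 : (⟨t, hTA ht⟩ : ↥A) ∈ (K ⊔ T).subgroupOf A :=
      Subgroup.mem_subgroupOf.mpr (le_sup_right (a := K) ht)
    have h2 := hle h1
    rw [← hrad]
    exact ⟨⟨t, hTA ht⟩, h2, rfl⟩
  obtain ⟨g, hg, hgP⟩ := exists_mem_normalizerIn_not_mem hS hlt
  have hgS : g ∈ S := hg.1
  have hgN : g ∈ Subgroup.normalizer (P : Set Ω) := hg.2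
  have hC : centralizerIn S P ≤ P := hP.1.2 P (isConj_refl F hPS)
  have htT : conjAut P ⟨g, hgN⟩ ∈ T := by
    rw [hT, mem_autInducedBy_iff]
    exact ⟨g, hgS, fun x => rfl⟩
  exact not_mem_inn_of_not_mem hC hgS hgP hPS (fun x => rfl) (hTInn htT)

theorem isNormal_top_of_chain [Finite S] (p : ℕ) [Fact p.Prime] (hS : IsPGroup p ↥S)
    (F : FusionSystem S) (hF : F.IsSaturated p) (m : ℕ) (c : Fin (m + 1) → Subgroup Ω)
    (h0 : c 0 = ⊥) (hlast : c (Fin.last m) = S) (hsc : ∀ i, F.StronglyClosed (c i))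
    (hstep : ∀ i : Fin m, c i.castSucc ≤ c i.succ ∧
      ∃ x ∈ S, c i.succ = c i.castSucc ⊔ Subgroup.zpowers x) : F.IsNormal S := by
  obtain ⟨cN, hc0, hcm, hcsc, hcstep⟩ := chainN F m c h0 hlast hsc hstep
  rw [normal_iff_essential_invariant p hS F hF S]
  intro P hP
  rcases hP with hP | hP
  · rw [hP]
    refine ⟨le_rfl, fun α hα => ?_⟩
    rw [Subgroup.subgroupOf_self]
    exact Subgroup.map_top_of_surjective _ α.surjective
  · exact (no_essential_of_chain p hS F hF cN hc0 m hcm hcsc hcstep P hP).elim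

theorem inn_normal (G : Type*) [Group G] : (Cfsg.Inn G).Normal := by
  constructor
  rintro _ ⟨g, rfl⟩ α
  refine ⟨α g, ?_⟩
  ext x
  simp [MulAut.conj_apply]

theorem mem_inn_of_pElement {G : Type*} [Group G] {p : ℕ} [Fact p.Prime]
    (H : Subgroup (MulAut G)) (hH : (Nat.card H).Coprime p) {a : MulAut G}
    (ha : a ∈ Cfsg.Inn G ⊔ H) {k : ℕ} (hk : a ^ (p ^ k) = 1) : a ∈ Cfsg.Inn G := by
  haveI := inn_normal G
  have h1 : (QuotientGroup.mk' (Cfsg.Inn G)) a ∈ H.map (QuotientGroup.mk' (Cfsg.Inn G)) := by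
    have h2 : (Cfsg.Inn G ⊔ H).map (QuotientGroup.mk' (Cfsg.Inn G)) =
        H.map (QuotientGroup.mk' (Cfsg.Inn G)) := by
      rw [Subgroup.map_sup, QuotientGroup.map_mk'_self, bot_sup_eq]
    rw [← h2]
    exact Subgroup.mem_map_of_mem _ ha
  obtain ⟨h, hh, hha⟩ := h1
  have h3 : ((QuotientGroup.mk' (Cfsg.Inn G)) a) ^ (p ^ k) = 1 := by
    rw [← map_pow, hk, map_one]
  have h4 : ((QuotientGroup.mk' (Cfsg.Inn G)) a) ^ (Nat.card H) = 1 := by
    rw [← hha, ← map_pow]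
    have h5 : (⟨h, hh⟩ : H) ^ (Nat.card H) = 1 := pow_card_eq_one'
    have h6 : h ^ (Nat.card H) = 1 := congrArg Subtype.val h5
    rw [h6, map_one]
  have h5 : orderOf ((QuotientGroup.mk' (Cfsg.Inn G)) a) ∣ Nat.gcd (p ^ k) (Nat.card H) :=
    Nat.dvd_gcd (orderOf_dvd_of_pow_eq_one h3) (orderOf_dvd_of_pow_eq_one h4)
  have h6 : Nat.gcd (p ^ k) (Nat.card H) = 1 := Nat.Coprime.pow_left k hH.symm
  rw [h6, Nat.dvd_one, orderOf_eq_one_iff] at h5
  exact (QuotientGroup.eq_one_iff a).mp h5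

/-- if every saturated fusion system over `S` has a strongly closed chain with cyclic steps then
every `p'`-group of automorphisms of `S` is abelian of exponent dividing `p - 1` -/
theorem pprime_of_chain [Finite S] (p : ℕ) [Fact p.Prime] (hS : IsPGroup p ↥S)
    (hall : ∀ F : FusionSystem S, F.IsSaturated p →
      ∃ (m : ℕ) (c : Fin (m + 1) → Subgroup Ω), c 0 = ⊥ ∧ c (Fin.last m) = S ∧
        (∀ i : Fin (m + 1), F.StronglyClosed (c i)) ∧
        ∀ i : Fin m, c i.castSucc ≤ c i.succ ∧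
          ∃ x ∈ S, c i.succ = c i.castSucc ⊔ Subgroup.zpowers x)
    (H : Subgroup (MulAut ↥S)) (hH : (Nat.card ↥H).Coprime p) :
    IsMulCommutative ↥H ∧ ∀ h ∈ H, h ^ (p - 1) = 1 := by
  have hInn : Cfsg.Inn ↥S ≤ Cfsg.Inn ↥S ⊔ H := le_sup_left
  have hAp : ∀ a ∈ Cfsg.Inn ↥S ⊔ H, (∃ k : ℕ, a ^ (p ^ k) = 1) → a ∈ Cfsg.Inn ↥S := by
    rintro a ha ⟨k, hk⟩
    exact mem_inn_of_pElement H hH ha hk
  obtain ⟨F, hFdef⟩ : ∃ F : FusionSystem S,
    F = Cfsg.Agent.Lib.Helper2.AutSys.autSys S (Cfsg.Inn ↥S ⊔ H) hInn := ⟨_, rfl⟩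
  have hF : F.IsSaturated p := by
    rw [hFdef]
    exact Cfsg.Agent.Lib.Helper2.AutSys.autSys_saturated hS hInn hAp
  obtain ⟨m, c, h0, hlast, hsc, hstep⟩ := hall F hF
  obtain ⟨cN, hc0, hcm, hcsc, hcstep⟩ := chainN F m c h0 hlast hsc hstep
  obtain ⟨hn, hcyc⟩ := chain_sub F cN hcsc hcstep (le_refl S)
  obtain ⟨e, he⟩ : ∃ e : ℕ → Subgroup ↥S, e = fun j => (cN j).subgroupOf S := ⟨_, rfl⟩
  have hej : ∀ j, e j = (cN j).subgroupOf S := fun j => by rw [he]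
  have hinv : ∀ α ∈ H, ∀ j, ∀ x ∈ e j, α x ∈ e j := by
    intro α hα j x hx
    rw [hej, Subgroup.mem_subgroupOf] at hx ⊢
    have hR : cN j ≤ S := (hcsc j).1
    have hφ : (S.subtype.comp (α.toMonoidHom.comp (Subgroup.inclusion hR))) ∈ F.Hom (cN j) := by
      rw [hFdef]
      exact ⟨hR, α, le_sup_right (a := Cfsg.Inn ↥S) hα, fun x => rfl⟩
    exact (hcsc j).2 (cN j) le_rfl _ hφ ⟨(x : Ω), hx⟩
  have he0 : e 0 = ⊥ := by rw [hej, hc0, Subgroup.bot_subgroupOf]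
  have hem : e m = ⊤ := by rw [hej, hcm, Subgroup.subgroupOf_self]
  have hn' : ∀ j, (e j).Normal := fun j => by rw [hej]; exact hn j
  have hcyc' : ∀ j, ∃ y ∈ e (j + 1), ∀ z ∈ e (j + 1), ∃ k : ℤ, (y ^ k)⁻¹ * z ∈ e j := by
    intro j; rw [hej, hej]; exact hcyc j
  obtain ⟨h1, h2⟩ := abelian_of_coprime hS H hH e hinv he0 m hem hn' hcyc'
  exact ⟨⟨⟨fun a b => Subtype.ext (h1 a.1 a.2 b.1 b.2)⟩⟩, h2⟩

end Cfsg.Agent.Lib.Helper1.ET16
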