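import Mathlib
import Cfsg.Agent.Lib.Helper9.NormalCrit
import Cfsg.Agent.Lib.Helper9.FusionSat3
import Cfsg.Agent.Lib.Helper9.AlperinCor
set_option autoImplicit false
set_option linter.style.haveILetI false
set_option linter.unusedSectionVars false
set_option linter.unusedVariables false
set_option maxHeartbeats 4000000
open scoped commutatorElement
namespace Cfsg.Agent.Lib.Helper1.ET17
open Cfsg Cfsg.FusionSystem Cfsg.Agent.Lib.Helper9 Polynomial

theorem exists_eigen_aux (p : ℕ) [hp : Fact p.Prime] {W : Type*} [AddCommGroup W]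
    [Module (ZMod p) W] [Finite W] [Nontrivial W] (g : W →+ W)
    (hg : ∀ w, (g^[p - 1]) w = w) : ∃ w : W, w ≠ 0 ∧ ∃ a : ℕ, g w = a • w := by
  haveI : NeZero p := ⟨hp.out.ne_zero⟩
  obtain ⟨L, hLdef⟩ : ∃ L : Module.End (ZMod p) W, ∀ w, L w = g w :=
    ⟨g.toZModLinearMap p, fun w => rfl⟩
  have hLpow : ∀ (k : ℕ) (w : W), (L ^ k) w = (g^[k]) w := by
    intro k
    induction k with
    | zero => intro w; rfl
    | succ k ih =>
      intro w
      rw [pow_succ', Module.End.mul_apply, hLdef, ih, Function.iterate_succ_apply']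
  have hL1 : L ^ (p - 1) = 1 := by
    apply LinearMap.ext
    intro w
    rw [hLpow, hg]
    rfl
  have hLp : L ^ p = L := by
    have e : L ^ (p - 1 + 1) = L := by rw [pow_succ, hL1, one_mul]
    rwa [Nat.sub_add_cancel hp.out.one_le] at e
  have hP : aeval L (X ^ p - X : (ZMod p)[X]) = 0 := by
    rw [map_sub, map_pow, aeval_X, hLp, sub_self]
  have hdvd : minpoly (ZMod p) L ∣ (X ^ p - X : (ZMod p)[X]) := minpoly.dvd _ _ hP
  have hint : IsIntegral (ZMod p) L := Algebra.IsIntegral.isIntegral L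
  have hdeg : 0 < (minpoly (ZMod p) L).natDegree := minpoly.natDegree_pos hint
  obtain ⟨r, hr⟩ := hdvd
  have hne : (X ^ p - X : (ZMod p)[X]) ≠ 0 :=
    FiniteField.X_pow_card_sub_X_ne_zero (ZMod p) hp.out.one_lt
  have hnd : (X ^ p - X : (ZMod p)[X]).natDegree = p :=
    FiniteField.X_pow_card_sub_X_natDegree_eq (ZMod p) hp.out.one_lt
  have hroots : (X ^ p - X : (ZMod p)[X]).roots = Finset.univ.val := by
    have := FiniteField.roots_X_pow_card_sub_X (ZMod p)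
    rwa [ZMod.card] at this
  have hcardroots : Multiset.card (X ^ p - X : (ZMod p)[X]).roots = p := by
    rw [hroots]
    show (Finset.univ : Finset (ZMod p)).card = p
    rw [Finset.card_univ, ZMod.card]
  rw [hr] at hne hnd hcardroots
  have hq0 : minpoly (ZMod p) L ≠ 0 := fun h => hne (by rw [h, zero_mul])
  have hr0 : r ≠ 0 := fun h => hne (by rw [h, mul_zero])
  rw [Polynomial.roots_mul hne, Multiset.card_add] at hcardroots
  rw [Polynomial.natDegree_mul hq0 hr0] at hnd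
  have h1 := Polynomial.card_roots' r
  have h1' := Polynomial.card_roots' (minpoly (ZMod p) L)
  have h2 : 0 < Multiset.card (minpoly (ZMod p) L).roots := by omega
  obtain ⟨μ, hμ⟩ := Multiset.card_pos_iff_exists_mem.mp h2
  have hroot : (minpoly (ZMod p) L).IsRoot μ := Polynomial.isRoot_of_mem_roots hμ
  have hev := Module.End.hasEigenvalue_of_isRoot hroot
  obtain ⟨w, hw⟩ := hev.exists_hasEigenvector
  refine ⟨w, hw.2, μ.val, ?_⟩
  rw [← hLdef, hw.apply_eq_smul]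
  conv_lhs => rw [← ZMod.natCast_zmod_val μ]
  exact Nat.cast_smul_eq_nsmul (ZMod p) μ.val w

theorem exists_eigen_add (p : ℕ) [hp : Fact p.Prime] {W : Type*} [AddCommGroup W] [Finite W]
    [Nontrivial W] (hpw : ∀ w : W, p • w = 0) (g : W →+ W)
    (hg : ∀ w, (g^[p - 1]) w = w) : ∃ w : W, w ≠ 0 ∧ ∃ a : ℕ, g w = a • w :=
  @exists_eigen_aux p _ W _ (AddCommGroup.zmodModule hpw) _ _ g hg

theorem exists_eigen_mul (p : ℕ) [hp : Fact p.Prime] {U : Type*} [CommGroup U] [Finite U]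
    [Nontrivial U] (hexp : ∀ u : U, u ^ p = 1) (f : U →* U)
    (hf : ∀ u, (f^[p - 1]) u = u) : ∃ u : U, u ≠ 1 ∧ ∃ a : ℕ, f u = u ^ a := by
  have hpw : ∀ w : Additive U, p • w = 0 := by
    intro w
    apply Additive.toMul.injective
    rw [toMul_nsmul, toMul_zero]
    exact hexp _
  have hg : ∀ w : Additive U, ((MonoidHom.toAdditive f)^[p - 1]) w = w := by
    have key : ∀ (k : ℕ) (w : Additive U),
        ((MonoidHom.toAdditive f)^[k]) w = Additive.ofMul ((f^[k]) (Additive.toMul w)) := by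
      intro k
      induction k with
      | zero => intro w; rfl
      | succ k ih =>
        intro w
        rw [Function.iterate_succ_apply', ih, Function.iterate_succ_apply']
        rfl
    intro w
    rw [key, hf]
    rfl
  obtain ⟨w, hw0, a, hwa⟩ := exists_eigen_add p hpw (MonoidHom.toAdditive f) hg
  refine ⟨Additive.toMul w, fun h => hw0 (Additive.toMul.injective h), a, ?_⟩
  have := congrArg Additive.toMul hwa
  rw [toMul_nsmul] at this
  exact this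

/-- an endomorphism of order dividing `p - 1` of a nontrivial elementary abelian `p`-group has an
eigenvector -/
theorem exists_eigenvector {Y : Type*} [Group Y] (p : ℕ) [hp : Fact p.Prime] (V : Subgroup Y)
    [Finite ↥V] (hV : V ≠ ⊥) (hcomm : ∀ u ∈ V, ∀ v ∈ V, u * v = v * u)
    (hexp : ∀ v ∈ V, v ^ p = 1)
    (f : Y →* Y) (hfV : ∀ v ∈ V, f v ∈ V) (hf : ∀ v ∈ V, (f^[p - 1]) v = v) :
    ∃ v ∈ V, v ≠ 1 ∧ ∃ a : ℕ, f v = v ^ a := by
  let instC : CommGroup ↥V := { (inferInstance : Group ↥V) with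
    mul_comm := fun a b => Subtype.ext (hcomm a.1 a.2 b.1 b.2) }
  obtain ⟨v0, hv0⟩ := Subgroup.ne_bot_iff_exists_ne_one.mp hV
  haveI : Nontrivial ↥V := ⟨⟨v0, 1, hv0⟩⟩
  obtain ⟨fV, hfVdef⟩ : ∃ fV : ↥V →* ↥V, ∀ v : ↥V, ((fV v : ↥V) : Y) = f (v : Y) :=
    ⟨(f.comp V.subtype).codRestrict V (fun v => hfV v v.2), fun v => rfl⟩
  have hfVpow : ∀ (k : ℕ) (v : ↥V), (((fV^[k]) v : ↥V) : Y) = (f^[k]) (v : Y) := by
    intro k
    induction k with
    | zero => intro v; rfl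
    | succ k ih =>
      intro v
      rw [Function.iterate_succ_apply', hfVdef, ih, Function.iterate_succ_apply']
  have hexp' : ∀ u : ↥V, u ^ p = 1 := fun u => Subtype.ext (hexp u.1 u.2)
  have hf' : ∀ u : ↥V, (fV^[p - 1]) u = u := by
    intro u
    apply Subtype.ext
    rw [hfVpow, hf _ u.2]
  obtain ⟨u, hu1, a, hua⟩ := @exists_eigen_mul p _ ↥V instC _ _ hexp' fV hf'
  refine ⟨(u : Y), u.2, fun h => hu1 (Subtype.ext h), a, ?_⟩
  rw [← hfVdef, hua]
  rfl

/-- commuting endomorphisms of order dividing `p - 1` of a nontrivial elementary abelian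
`p`-group have a common eigenvector -/
theorem exists_common_eigenvector {Y : Type*} [Group Y] (p : ℕ) [hp : Fact p.Prime]
    (𝒞 : Set (Y →* Y)) :
    ∀ (n : ℕ) (V : Subgroup Y), Finite ↥V → Nat.card ↥V = n → V ≠ ⊥ →
      (∀ u ∈ V, ∀ v ∈ V, u * v = v * u) → (∀ v ∈ V, v ^ p = 1) →
      (∀ f ∈ 𝒞, ∀ v ∈ V, f v ∈ V) →
      (∀ f ∈ 𝒞, ∀ g ∈ 𝒞, ∀ v ∈ V, f (g v) = g (f v)) →
      (∀ f ∈ 𝒞, ∀ v ∈ V, (f^[p - 1]) v = v) →
      ∃ v ∈ V, v ≠ 1 ∧ ∀ f ∈ 𝒞, f v ∈ Subgroup.zpowers v := by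
  intro n
  induction n using Nat.strong_induction_on with
  | _ n ih =>
  intro V hfin hcard hV hcomm hexp hinv hcc hpow
  by_cases hsc : ∀ f ∈ 𝒞, ∀ v ∈ V, f v ∈ Subgroup.zpowers v
  · obtain ⟨v, hv⟩ := Subgroup.ne_bot_iff_exists_ne_one.mp hV
    exact ⟨v.1, v.2, fun h => hv (Subtype.ext h), fun f hf => hsc f hf v.1 v.2⟩
  · push Not at hsc
    obtain ⟨f, hf, v0, hv0, hv0f⟩ := hsc
    obtain ⟨v1, hv1, hv1ne, a, hv1a⟩ :=
      exists_eigenvector p V hV hcomm hexp f (hinv f hf) (hpow f hf)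
    obtain ⟨V', hV'def⟩ : ∃ V' : Subgroup Y, ∀ v, v ∈ V' ↔ (v ∈ V ∧ f v = v ^ a) :=
      ⟨{ carrier := {v | v ∈ V ∧ f v = v ^ a}
         one_mem' := ⟨V.one_mem, by rw [map_one, one_pow]⟩
         mul_mem' := by
           rintro u v ⟨hu, hua⟩ ⟨hv, hva⟩
           refine ⟨V.mul_mem hu hv, ?_⟩
           rw [map_mul, hua, hva, (show Commute u v from hcomm u hu v hv).mul_pow]
         inv_mem' := by
           rintro u ⟨hu, hua⟩
           exact ⟨V.inv_mem hu, by rw [map_inv, hua, inv_pow]⟩ }, fun v => Iff.rfl⟩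
    have hV'V : V' ≤ V := fun v hv => ((hV'def v).mp hv).1
    have hV'ne : V' ≠ ⊥ := by
      intro h
      have h1 : v1 ∈ V' := (hV'def v1).mpr ⟨hv1, hv1a⟩
      rw [h, Subgroup.mem_bot] at h1
      exact hv1ne h1
    have hlt : V' < V := by
      refine lt_of_le_of_ne hV'V ?_
      intro h
      have h1 : v0 ∈ V' := h ▸ hv0
      apply hv0f
      rw [((hV'def v0).mp h1).2]
      exact Subgroup.pow_mem _ (Subgroup.mem_zpowers v0) a
    haveI : Finite ↥V' :=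
      Finite.of_injective (Subgroup.inclusion hV'V) (Subgroup.inclusion_injective hV'V)
    have hcardlt : Nat.card ↥V' < n := by
      rw [← hcard]
      by_contra hle
      push Not at hle
      exact hlt.ne (Subgroup.eq_of_le_of_card_ge hV'V hle)
    obtain ⟨v, hv, hvne, hvf⟩ := ih _ hcardlt V' inferInstance rfl hV'ne
      (fun u hu v hv => hcomm u (hV'V hu) v (hV'V hv))
      (fun v hv => hexp v (hV'V hv))
      (fun g hg v hv => by
        obtain ⟨hvV, hva⟩ := (hV'def v).mp hv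
        refine (hV'def _).mpr ⟨hinv g hg v hvV, ?_⟩
        rw [hcc f hf g hg v hvV, hva, map_pow])
      (fun f' hf' g hg v hv => hcc f' hf' g hg v (hV'V hv))
      (fun f' hf' v hv => hpow f' hf' v (hV'V hv))
    exact ⟨v, hV'V hv, hvne, hvf⟩

/-- one step of the invariant chain -/
theorem step {X : Type*} [Group X] [Finite X] (p : ℕ) [hp : Fact p.Prime] (hX : IsPGroup p X)
    (A H : Subgroup (MulAut X)) (hInnA : ∀ g : X, MulAut.conj g ∈ A) (hHA : H ≤ A)
    (hdec : ∀ α ∈ A, ∃ g : X, ∃ h ∈ H, α = MulAut.conj g * h)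
    (hHc : ∀ a ∈ H, ∀ b ∈ H, a * b = b * a) (hHe : ∀ a ∈ H, a ^ (p - 1) = 1)
    (N : Subgroup X) (hne : N ≠ ⊤) (hinv : ∀ α ∈ A, ∀ z ∈ N, α z ∈ N) :
    ∃ x : X, x ∉ N ∧
      ∀ α ∈ A, ∀ z ∈ N ⊔ Subgroup.zpowers x, α z ∈ N ⊔ Subgroup.zpowers x := by
  haveI hNn : N.Normal := ⟨fun n hn g => by
    have := hinv (MulAut.conj g) (hInnA g) n hn
    rwa [MulAut.conj_apply] at this⟩
  have hle : ∀ α ∈ A, N ≤ N.comap (α : MulAut X).toMonoidHom := fun α hα z hz => hinv α hα z hz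
  obtain ⟨bar, hbar⟩ : ∃ bar : (α : MulAut X) → α ∈ A → (X ⧸ N →* X ⧸ N),
      ∀ α hα x, bar α hα (QuotientGroup.mk x) = QuotientGroup.mk (α x) :=
    ⟨fun α hα => QuotientGroup.map N N α.toMonoidHom (hle α hα), fun α hα x => rfl⟩
  obtain ⟨x0, hx0⟩ : ∃ x0, x0 ∉ N := by
    by_contra h
    push Not at h
    exact hne (eq_top_iff.mpr fun x _ => h x)
  haveI : Nontrivial (X ⧸ N) :=
    ⟨⟨QuotientGroup.mk x0, 1, fun h => hx0 ((QuotientGroup.eq_one_iff x0).mp h)⟩⟩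
  have hYp : IsPGroup p (X ⧸ N) := hX.to_quotient N
  haveI : Nontrivial (Subgroup.center (X ⧸ N)) := hYp.center_nontrivial
  obtain ⟨k, hk⟩ := IsPGroup.iff_card.mp (hYp.to_subgroup (Subgroup.center (X ⧸ N)))
  have hk0 : k ≠ 0 := by
    rintro rfl
    have := Finite.one_lt_card (α := Subgroup.center (X ⧸ N))
    rw [pow_zero] at hk
    omega
  have hdvd : p ∣ Nat.card (Subgroup.center (X ⧸ N)) := by
    rw [hk]; exact dvd_pow_self p hk0
  obtain ⟨z0, hz0⟩ := exists_prime_orderOf_dvd_card' p hdvd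
  obtain ⟨V, hVdef⟩ : ∃ V : Subgroup (X ⧸ N),
      ∀ v, v ∈ V ↔ (v ∈ Subgroup.center (X ⧸ N) ∧ v ^ p = 1) :=
    ⟨{ carrier := {v | v ∈ Subgroup.center (X ⧸ N) ∧ v ^ p = 1}
       one_mem' := ⟨Subgroup.one_mem _, one_pow _⟩
       mul_mem' := by
         rintro u v ⟨hu, hup⟩ ⟨hv, hvp⟩
         refine ⟨Subgroup.mul_mem _ hu hv, ?_⟩
         have hc : Commute u v := (Subgroup.mem_center_iff.mp hu v).symm
         rw [hc.mul_pow, hup, hvp, one_mul]
       inv_mem' := by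
         rintro u ⟨hu, hup⟩
         exact ⟨Subgroup.inv_mem _ hu, by rw [inv_pow, hup, inv_one]⟩ }, fun v => Iff.rfl⟩
  have hVne : V ≠ ⊥ := by
    intro h
    have h1 : (z0 : X ⧸ N) ∈ V := by
      rw [hVdef]
      refine ⟨z0.2, ?_⟩
      have h2 : z0 ^ p = 1 := by rw [← hz0]; exact pow_orderOf_eq_one z0
      exact congrArg Subtype.val h2
    rw [h, Subgroup.mem_bot] at h1
    have h2 : z0 = 1 := Subtype.ext h1
    rw [h2, orderOf_one] at hz0
    exact hp.out.one_lt.ne hz0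
  have barcenter : ∀ α hα, ∀ v ∈ Subgroup.center (X ⧸ N), bar α hα v ∈ Subgroup.center (X ⧸ N) := by
    intro α hα v hv
    rw [Subgroup.mem_center_iff]
    intro w
    obtain ⟨y, rfl⟩ := QuotientGroup.mk_surjective w
    have e : (QuotientGroup.mk y : X ⧸ N) = bar α hα (QuotientGroup.mk (α⁻¹ y)) := by
      rw [hbar, MulAut.apply_inv_self]
    rw [e, ← map_mul, ← map_mul, Subgroup.mem_center_iff.mp hv]
  have hVinv : ∀ α hα, ∀ v ∈ V, bar α hα v ∈ V := by
    intro α hα v hv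
    obtain ⟨hv1, hv2⟩ := (hVdef v).mp hv
    exact (hVdef _).mpr ⟨barcenter α hα v hv1, by rw [← map_pow, hv2, map_one]⟩
  obtain ⟨𝒞, h𝒞⟩ : ∃ 𝒞 : Set (X ⧸ N →* X ⧸ N),
      ∀ f, f ∈ 𝒞 ↔ ∃ h, ∃ hh : h ∈ H, f = bar h (hHA hh) :=
    ⟨{f | ∃ h, ∃ hh : h ∈ H, f = bar h (hHA hh)}, fun f => Iff.rfl⟩
  have hcc : ∀ f ∈ 𝒞, ∀ g ∈ 𝒞, ∀ v ∈ V, f (g v) = g (f v) := by
    intro f hf g hg v hv
    obtain ⟨h, hh, rfl⟩ := (h𝒞 f).mp hf
    obtain ⟨h', hh', rfl⟩ := (h𝒞 g).mp hg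
    obtain ⟨x, rfl⟩ := QuotientGroup.mk_surjective v
    rw [hbar, hbar, hbar, hbar]
    have h1 : h (h' x) = h' (h x) := by
      have := congrArg (fun t : MulAut X => t x) (hHc h hh h' hh')
      exact this
    rw [h1]
  have hpow : ∀ f ∈ 𝒞, ∀ v ∈ V, (f^[p - 1]) v = v := by
    intro f hf v hv
    obtain ⟨h, hh, rfl⟩ := (h𝒞 f).mp hf
    obtain ⟨x, rfl⟩ := QuotientGroup.mk_surjective v
    have key : ∀ k : ℕ, ((bar h (hHA hh))^[k]) (QuotientGroup.mk x) =
        QuotientGroup.mk ((h ^ k) x) := by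
      intro k
      induction k with
      | zero => rfl
      | succ k ih =>
        rw [Function.iterate_succ_apply', ih, hbar, pow_succ', MulAut.mul_apply]
    rw [key, hHe h hh]
    rfl
  obtain ⟨v, hvV, hvne, hvf⟩ := exists_common_eigenvector p 𝒞 (Nat.card ↥V) V inferInstance rfl
    hVne
    (fun u hu v hv => (Subgroup.mem_center_iff.mp ((hVdef u).mp hu).1 v).symm)
    (fun v hv => ((hVdef v).mp hv).2)
    (fun f hf v hv => by
      obtain ⟨h, hh, rfl⟩ := (h𝒞 f).mp hf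
      exact hVinv h (hHA hh) v hv)
    hcc hpow
  obtain ⟨x, rfl⟩ := QuotientGroup.mk_surjective v
  have hxN : x ∉ N := fun hx => hvne ((QuotientGroup.eq_one_iff x).mpr hx)
  have hkey : ∀ α hα, bar α hα (QuotientGroup.mk x) ∈
      Subgroup.zpowers (QuotientGroup.mk x : X ⧸ N) := by
    intro α hα
    obtain ⟨g, h, hh, rfl⟩ := hdec α hα
    have h1 : bar h (hHA hh) (QuotientGroup.mk x) ∈ Subgroup.zpowers (QuotientGroup.mk x : X ⧸ N) :=
      hvf _ ((h𝒞 _).mpr ⟨h, hh, rfl⟩)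
    have hc : (QuotientGroup.mk (h x) : X ⧸ N) ∈ Subgroup.center (X ⧸ N) := by
      rw [← hbar h (hHA hh)]
      exact ((hVdef _).mp (hVinv h (hHA hh) _ hvV)).1
    have h2 : (QuotientGroup.mk ((MulAut.conj g * h) x) : X ⧸ N) = QuotientGroup.mk (h x) := by
      rw [MulAut.mul_apply, MulAut.conj_apply, QuotientGroup.mk_mul, QuotientGroup.mk_mul,
        QuotientGroup.mk_inv, Subgroup.mem_center_iff.mp hc (QuotientGroup.mk g),
        mul_inv_cancel_right]
    rw [hbar, h2, ← hbar h (hHA hh)]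
    exact h1
  have hN' : N ⊔ Subgroup.zpowers x =
      (Subgroup.zpowers (QuotientGroup.mk x : X ⧸ N)).comap (QuotientGroup.mk' N) := by
    apply le_antisymm
    · apply sup_le
      · intro n hn
        rw [Subgroup.mem_comap, QuotientGroup.mk'_apply, (QuotientGroup.eq_one_iff n).mpr hn]
        exact Subgroup.one_mem _
      · rw [Subgroup.zpowers_le, Subgroup.mem_comap]
        exact Subgroup.mem_zpowers _
    · intro z hz
      rw [Subgroup.mem_comap, QuotientGroup.mk'_apply, Subgroup.mem_zpowers_iff] at hz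
      obtain ⟨k, hk⟩ := hz
      have h1 : (x ^ k)⁻¹ * z ∈ N := by
        rw [← QuotientGroup.eq, QuotientGroup.mk_zpow]
        exact hk
      have h2 : z = x ^ k * ((x ^ k)⁻¹ * z) := by group
      rw [h2]
      exact (N ⊔ Subgroup.zpowers x).mul_mem
        (le_sup_right (a := N) (Subgroup.zpow_mem_zpowers x k)) (le_sup_left (b := Subgroup.zpowers x) h1)
  refine ⟨x, hxN, fun α hα z hz => ?_⟩
  rw [hN'] at hz ⊢
  rw [Subgroup.mem_comap, QuotientGroup.mk'_apply] at hz ⊢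
  obtain ⟨k, hk⟩ := Subgroup.mem_zpowers_iff.mp hz
  rw [← hbar α hα, ← hk, map_zpow]
  exact Subgroup.zpow_mem _ (hkey α hα) k

/-- an invariant chain with cyclic steps from any invariant subgroup up to the whole group -/
theorem build {X : Type*} [Group X] [Finite X] (p : ℕ) [hp : Fact p.Prime] (hX : IsPGroup p X)
    (A H : Subgroup (MulAut X)) (hInnA : ∀ g : X, MulAut.conj g ∈ A) (hHA : H ≤ A)
    (hdec : ∀ α ∈ A, ∃ g : X, ∃ h ∈ H, α = MulAut.conj g * h)
    (hHc : ∀ a ∈ H, ∀ b ∈ H, a * b = b * a) (hHe : ∀ a ∈ H, a ^ (p - 1) = 1) :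
    ∀ (n : ℕ) (N : Subgroup X), (∀ α ∈ A, ∀ z ∈ N, α z ∈ N) → Nat.card X - Nat.card ↥N = n →
      ∃ (m : ℕ) (d : Fin (m + 1) → Subgroup X), d 0 = N ∧ d (Fin.last m) = ⊤ ∧
        (∀ i, ∀ α ∈ A, ∀ z ∈ d i, α z ∈ d i) ∧
        ∀ i : Fin m, d i.castSucc ≤ d i.succ ∧
          ∃ x : X, d i.succ = d i.castSucc ⊔ Subgroup.zpowers x := by
  intro n
  induction n using Nat.strong_induction_on with
  | _ n ih =>
  intro N hN hcard
  by_cases hNt : N = ⊤
  · exact ⟨0, fun _ => N, rfl, hNt, fun _ => hN, fun i => i.elim0⟩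
  · obtain ⟨x, hxN, hx⟩ := step p hX A H hInnA hHA hdec hHc hHe N hNt hN
    obtain ⟨N', hN'⟩ : ∃ N' : Subgroup X, N' = N ⊔ Subgroup.zpowers x := ⟨_, rfl⟩
    rw [← hN'] at hx
    have hNN' : N ≤ N' := by rw [hN']; exact le_sup_left
    have hxN' : x ∈ N' := by rw [hN']; exact le_sup_right (a := N) (Subgroup.mem_zpowers x)
    have hlt : N < N' := lt_of_le_of_ne hNN' (fun h => hxN (h ▸ hxN'))
    have hcardlt : Nat.card ↥N < Nat.card ↥N' := by
      by_contra hle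
      push Not at hle
      exact hlt.ne (Subgroup.eq_of_le_of_card_ge hNN' hle)
    have hN'le : Nat.card ↥N' ≤ Nat.card X := Subgroup.card_le_card_group N'
    obtain ⟨m', d', hd0, hdl, hdinv, hdstep⟩ :=
      ih (Nat.card X - Nat.card ↥N') (by omega) N' hx rfl
    refine ⟨m' + 1, @Fin.cons (m' + 1) (fun _ => Subgroup X) N d', ?_, ?_, ?_, ?_⟩
    · rfl
    · rw [← Fin.succ_last, Fin.cons_succ]
      exact hdl
    · intro i
      refine Fin.cases ?_ (fun j => ?_) i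
      · rw [Fin.cons_zero]; exact hN
      · rw [Fin.cons_succ]; exact hdinv j
    · intro i
      refine Fin.cases ?_ (fun j => ?_) i
      · rw [Fin.castSucc_zero, Fin.cons_zero, Fin.cons_succ, hd0]
        exact ⟨hNN', x, hN'⟩
      · rw [← Fin.succ_castSucc, Fin.cons_succ, Fin.cons_succ]
        exact hdstep j

variable {Ω : Type*} [Group Ω] {S : Subgroup Ω}

/-- when `S` is normal in `F`, subgroups invariant under `Aut_F(S)` are strongly closed -/
theorem stronglyClosed_of_inv (F : FusionSystem S) (hn : F.IsNormal S) {c : Subgroup Ω}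
    (hcS : c ≤ S)
    (hinv : ∀ α ∈ F.autGroup S, ∀ z : ↥S, (z : Ω) ∈ c → ((α z : ↥S) : Ω) ∈ c) :
    F.StronglyClosed c := by
  refine ⟨hcS, fun R hR φ hφ x => ?_⟩
  obtain ⟨ψ, hψ, hψφ, hψS⟩ := hn.2 R φ hφ
  have hRS : R ≤ S := hom_le F hφ
  have key : ∀ (T : Subgroup Ω) (hT : S = T) (ψ : ↥T →* Ω), ψ ∈ F.Hom T →
      (S.subgroupOf T).map ψ = S →
      ∃ α ∈ F.autGroup S, ∀ z : ↥T, ∃ hz : (z : Ω) ∈ S, ψ z = ((α ⟨z, hz⟩ : ↥S) : Ω) := by
    intro T hT ψ hψ hmap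
    subst hT
    have hr : ψ.range = S := by
      rw [Subgroup.subgroupOf_self] at hmap
      rw [MonoidHom.range_eq_map]
      exact hmap
    obtain ⟨α, hα, hαψ⟩ := exists_aut_of_hom F hψ hr
    exact ⟨α, hα, fun z => ⟨z.2, (hαψ z).symm⟩⟩
  obtain ⟨α, hα, hαψ⟩ := key (R ⊔ S) (sup_eq_right.mpr hRS).symm ψ hψ hψS
  obtain ⟨hz, e⟩ := hαψ (Subgroup.inclusion le_sup_left x)
  rw [← hψφ x, e]
  exact hinv α hα _ (hR x.2)

/-- `Aut_F(S) = Inn(S) · H` with `H` a `p'`-group -/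
theorem autGroup_top_decomp [Finite S] (p : ℕ) [hp : Fact p.Prime] (hS : IsPGroup p ↥S)
    (F : FusionSystem S) (hF : F.IsSaturated p) :
    ∃ H : Subgroup (MulAut ↥S), H ≤ F.autGroup S ∧ (Nat.card ↥H).Coprime p ∧
      ∀ α ∈ F.autGroup S, ∃ g : ↥S, ∃ h ∈ H, α = MulAut.conj g * h := by
  obtain ⟨-, R, hR⟩ := fullyAutomized_of_fullyNormalized hS F hF (fullyNormalized_top F)
  have hTn : ((autInducedBy S S).subgroupOf (F.autGroup S)).Normal := by
    constructor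
    intro c hc α
    rw [Subgroup.mem_subgroupOf] at hc ⊢
    obtain ⟨s, hs, hcs⟩ := (mem_autInducedBy_iff S S c.1).mp hc
    rw [mem_autInducedBy_iff]
    refine ⟨((α.1 ⟨s, hs⟩ : ↥S) : Ω), (α.1 ⟨s, hs⟩).2, fun x => ?_⟩
    show ((α.1 (c.1 (α.1⁻¹ x)) : ↥S) : Ω) = _
    have h3 : c.1 (α.1⁻¹ x) = ⟨s, hs⟩ * α.1⁻¹ x * ⟨s, hs⟩⁻¹ := Subtype.ext (hcs _)
    rw [h3, map_mul, map_mul, map_inv, MulAut.apply_inv_self]
    rfl
  haveI : ((R : Subgroup (F.autGroup S))).Normal := hR ▸ hTn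
  haveI : Finite (MulAut ↥S) := inferInstance
  have hcop : Nat.Coprime (Nat.card (R : Subgroup (F.autGroup S)))
      (R : Subgroup (F.autGroup S)).index := R.card_coprime_index
  obtain ⟨H₀, hH₀⟩ := Subgroup.exists_right_complement'_of_coprime hcop
  refine ⟨H₀.map (F.autGroup S).subtype, Subgroup.map_subtype_le _, ?_, ?_⟩
  · rw [Subgroup.card_map_of_injective (Subgroup.subtype_injective _), ← hH₀.symm.index_eq_card]
    exact ((Nat.Prime.coprime_iff_not_dvd hp.out).mpr R.not_dvd_index).symm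
  · intro α hα
    have h1 : (⟨α, hα⟩ : ↥(F.autGroup S)) ∈ ((R : Subgroup (F.autGroup S)) ⊔ H₀ : Subgroup _) := by
      rw [hH₀.sup_eq_top]
      exact Subgroup.mem_top _
    have h2 : (⟨α, hα⟩ : ↥(F.autGroup S)) ∈
        ((↑((R : Subgroup (F.autGroup S)) ⊔ H₀ : Subgroup _)) : Set ↥(F.autGroup S)) := h1
    rw [Subgroup.normal_mul] at h2
    obtain ⟨r, hr, h, hh, hrh⟩ := Set.mem_mul.mp h2
    have hr' : r ∈ (R : Subgroup (F.autGroup S)) := hr
    rw [hR, Subgroup.mem_subgroupOf] at hr'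
    obtain ⟨g, hg, hgr⟩ := (mem_autInducedBy_iff S S r.1).mp hr'
    have hrconj : r.1 = MulAut.conj (⟨g, hg⟩ : ↥S) := by
      ext x
      rw [hgr x]
      rfl
    refine ⟨⟨g, hg⟩, h.1, ⟨h, hh, rfl⟩, ?_⟩
    rw [← hrconj]
    exact (congrArg Subtype.val hrh).symm

/-- direction `⇐`: a resistant `S` all of whose `p'`-automorphism groups are abelian of exponent
dividing `p - 1` gives supersoluble chains -/
theorem chain_of_resistant [Finite S] (p : ℕ) [Fact p.Prime] (hS : IsPGroup p ↥S)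
    (hpp : ∀ H : Subgroup (MulAut ↥S), (Nat.card ↥H).Coprime p →
      IsMulCommutative ↥H ∧ ∀ h ∈ H, h ^ (p - 1) = 1)
    (F : FusionSystem S) (hF : F.IsSaturated p) (hFn : F.IsNormal S) :
    ∃ (m : ℕ) (c : Fin (m + 1) → Subgroup Ω), c 0 = ⊥ ∧ c (Fin.last m) = S ∧
      (∀ i : Fin (m + 1), F.StronglyClosed (c i)) ∧
      ∀ i : Fin m, c i.castSucc ≤ c i.succ ∧
        ∃ x ∈ S, c i.succ = c i.castSucc ⊔ Subgroup.zpowers x := by
  obtain ⟨H, hHA, hHcop, hdec⟩ := autGroup_top_decomp p hS F hF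
  obtain ⟨hHcomm, hHexp⟩ := hpp H hHcop
  have hHc : ∀ a ∈ H, ∀ b ∈ H, a * b = b * a := by
    intro a ha b hb
    have := hHcomm.is_comm.comm (⟨a, ha⟩ : H) ⟨b, hb⟩
    exact congrArg Subtype.val this
  have hInnA : ∀ g : ↥S, MulAut.conj g ∈ F.autGroup S :=
    fun g => Cfsg.Agent.S5080.inn_le_autGroup F le_rfl ⟨g, rfl⟩
  obtain ⟨m, d, hd0, hdl, hdinv, hdstep⟩ :=
    build p hS (F.autGroup S) H hInnA hHA hdec hHc hHexp _ ⊥
      (by intro α hα z hz; rw [Subgroup.mem_bot] at hz ⊢; rw [hz, map_one]) rfl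
  refine ⟨m, fun i => (d i).map S.subtype, ?_, ?_, ?_, ?_⟩
  · show (d 0).map S.subtype = ⊥
    rw [hd0, Subgroup.map_bot]
  · show (d (Fin.last m)).map S.subtype = S
    rw [hdl, ← MonoidHom.range_eq_map, Subgroup.range_subtype]
  · intro i
    apply stronglyClosed_of_inv F hFn (Subgroup.map_subtype_le _)
    intro α hα z hz
    obtain ⟨z', hz', hzz'⟩ := hz
    have hzz : z' = z := Subtype.ext hzz'
    subst hzz
    exact ⟨α z', hdinv i α hα z' hz', rfl⟩
  · intro i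
    obtain ⟨hle, x, hx⟩ := hdstep i
    refine ⟨Subgroup.map_mono hle, (x : Ω), x.2, ?_⟩
    show (d i.succ).map S.subtype = (d i.castSucc).map S.subtype ⊔ Subgroup.zpowers (x : Ω)
    rw [hx, Subgroup.map_sup, MonoidHom.map_zpowers]
    rfl

end Cfsg.Agent.Lib.Helper1.ET17
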