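import Mathlib

set_option autoImplicit false
set_option linter.unusedVariables false
set_option linter.unusedSectionVars false
set_option linter.style.longLine false
set_option linter.style.haveILetI false

/-!
# Groups all of whose nonidentity elements have prime order (EPO groups): basics (for S4068)
-/

namespace Cfsg.Agent.Lib.Helper1.Epo

open scoped BigOperators

/-- every nonidentity element has prime order -/
def EPO (G : Type*) [Group G] : Prop := ∀ g : G, g = 1 ∨ (orderOf g).Prime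

theorem EPO.subgroup {G : Type*} [Group G] (h : EPO G) (K : Subgroup G) : EPO K := by
  intro g
  rcases h (g : G) with h1 | h1
  · left; exact Subtype.ext h1
  · right; rwa [Subgroup.orderOf_coe] at h1

theorem EPO.of_injective {G H : Type*} [Group G] [Group H] (h : EPO G) (f : H →* G)
    (hf : Function.Injective f) : EPO H := by
  intro g
  rcases h (f g) with h1 | h1
  · left; exact hf (by rw [h1, map_one])
  · right; rwa [orderOf_injective f hf g] at h1

theorem EPO.quotient {G : Type*} [Group G] (h : EPO G) (N : Subgroup G) [N.Normal] :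
    EPO (G ⧸ N) := by
  intro g
  obtain ⟨x, rfl⟩ := QuotientGroup.mk_surjective g
  rcases h x with h1 | h1
  · left; rw [h1]; rfl
  · have hd : orderOf (QuotientGroup.mk' N x) ∣ orderOf x := orderOf_map_dvd (QuotientGroup.mk' N) x
    rcases (Nat.dvd_prime h1).mp hd with h2 | h2
    · left; exact orderOf_eq_one_iff.mp h2
    · right
      show (orderOf (QuotientGroup.mk' N x)).Prime
      rw [h2]; exact h1

/-- commuting nonidentity elements of an EPO group have the same order -/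
theorem EPO.orderOf_eq_of_commute {G : Type*} [Group G] (h : EPO G) {x y : G} (hx : x ≠ 1)
    (hy : y ≠ 1) (hxy : Commute x y) : orderOf x = orderOf y := by
  have hpx : (orderOf x).Prime := (h x).resolve_left hx
  have hpy : (orderOf y).Prime := (h y).resolve_left hy
  by_contra hne
  have hcop : Nat.Coprime (orderOf x) (orderOf y) := (Nat.coprime_primes hpx hpy).mpr hne
  have ho := hxy.orderOf_mul_eq_mul_orderOf_of_coprime hcop
  rcases h (x * y) with h1 | h1
  · rw [h1, orderOf_one] at ho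
    have := hpx.one_lt
    have := hpy.one_lt
    nlinarith
  · rw [ho] at h1
    exact Nat.not_prime_mul hpx.ne_one hpy.ne_one h1

/-- in an EPO group an element of `p`-power order has order dividing `p` -/
theorem EPO.pow_prime_eq_one {G : Type*} [Group G] (h : EPO G) {p : ℕ} (hp : p.Prime) {g : G}
    {k : ℕ} (hg : g ^ (p ^ k) = 1) : g ^ p = 1 := by
  rcases h g with h1 | h1
  · rw [h1, one_pow]
  · have hd : orderOf g ∣ p ^ k := orderOf_dvd_of_pow_eq_one hg
    have : orderOf g = p := (Nat.prime_dvd_prime_iff_eq h1 hp).mp (h1.dvd_of_dvd_pow hd)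
    rw [← this]; exact pow_orderOf_eq_one g

/-- the order of a nonidentity element of an EPO group: it is the prime `p` iff `g ^ p = 1` -/
theorem EPO.orderOf_eq_of_pow {G : Type*} [Group G] (h : EPO G) {p : ℕ} (hp : p.Prime) {g : G}
    (hg1 : g ≠ 1) (hg : g ^ p = 1) : orderOf g = p := by
  haveI : Fact p.Prime := ⟨hp⟩
  exact orderOf_eq_prime hg hg1

/-- **The norm lemma.** A group `Q₀` normalized by `u` acts on the abelian group `W`; if some
element of `Q₀` is fixed-point-free on `W`, the powers `u ^ j`, `0 < j < p`, centralize no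
nonidentity element of `Q₀`, and `|Q₀|` is prime to the orders in `W ≠ 1`, then the norm
`w ↦ ∏_{j < p} u^j • w` is not trivial. -/
theorem exists_norm_ne_one {Γ W : Type*} [Group Γ] [CommGroup W] (ρ : Γ →* MulAut W)
    (Q₀ : Subgroup Γ) [Finite Q₀] (u : Γ) (p : ℕ) (hp : 0 < p)
    (hnorm : ∀ x ∈ Q₀, u * x * u⁻¹ ∈ Q₀)
    (h1 : ∃ y ∈ Q₀, ∀ w : W, ρ y w = w → w = 1)
    (h2 : ∀ x ∈ Q₀, ∀ j : ℕ, 0 < j → j < p → u ^ j * x = x * u ^ j → x = 1)
    (h3 : ∀ w : W, w ^ Nat.card Q₀ = 1 → w = 1)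
    (h5 : ∃ w : W, w ≠ 1) :
    ∃ w : W, ∏ j ∈ Finset.range p, ρ (u ^ j) w ≠ 1 := by
  classical
  by_contra hall
  push_neg at hall
  letI : Fintype Q₀ := Fintype.ofFinite Q₀
  -- powers of `u` normalize `Q₀`
  have hnormj : ∀ j : ℕ, ∀ x ∈ Q₀, u ^ j * x * (u ^ j)⁻¹ ∈ Q₀ := by
    intro j
    induction j with
    | zero => intro x hx; simpa using hx
    | succ j ih =>
      intro x hx
      have : u ^ (j + 1) * x * (u ^ (j + 1))⁻¹ = u * (u ^ j * x * (u ^ j)⁻¹) * u⁻¹ := by
        rw [pow_succ']; group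
      rw [this]
      exact hnorm _ (ih x hx)
  -- the `Q₀`-average is trivial
  have hA : ∀ w : W, ∏ x : Q₀, ρ (x : Γ) w = 1 := by
    intro w
    obtain ⟨y, hy, hfpf⟩ := h1
    apply hfpf
    rw [map_prod]
    have : ∀ x : Q₀, ρ y (ρ (x : Γ) w) = ρ (((⟨y, hy⟩ : Q₀) * x : Q₀) : Γ) w := by
      intro x
      rw [Subgroup.coe_mul, map_mul]; rfl
    simp_rw [this]
    exact Fintype.prod_equiv (Equiv.mulLeft (⟨y, hy⟩ : Q₀)) _ _ (fun x => rfl)
  -- the double product
  have hD1 : ∀ w : W, ∏ x : Q₀, ∏ j ∈ Finset.range p, ρ ((x : Γ) * u ^ j * (x : Γ)⁻¹) w = 1 := by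
    intro w
    apply Finset.prod_eq_one
    intro x _
    have : ∀ j ∈ Finset.range p, ρ ((x : Γ) * u ^ j * (x : Γ)⁻¹) w =
        ρ (x : Γ) (ρ (u ^ j) (ρ ((x : Γ)⁻¹) w)) := by
      intro j _
      rw [map_mul, map_mul]; rfl
    rw [Finset.prod_congr rfl this, ← map_prod, hall, map_one]
  have hD2 : ∀ w : W, ∏ x : Q₀, ∏ j ∈ Finset.range p, ρ ((x : Γ) * u ^ j * (x : Γ)⁻¹) w =
      w ^ Nat.card Q₀ := by
    intro w
    rw [Finset.prod_comm]
    have hj : ∀ j ∈ Finset.range p, ∏ x : Q₀, ρ ((x : Γ) * u ^ j * (x : Γ)⁻¹) w =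
        if j = 0 then w ^ Nat.card Q₀ else 1 := by
      intro j hj
      rw [Finset.mem_range] at hj
      by_cases hj0 : j = 0
      · rw [if_pos hj0, hj0]
        have : ∀ x : Q₀, ρ ((x : Γ) * u ^ 0 * (x : Γ)⁻¹) w = w := by
          intro x
          rw [pow_zero, mul_one, mul_inv_cancel, map_one]; rfl
        simp_rw [this]
        rw [Finset.prod_const, Finset.card_univ, Nat.card_eq_fintype_card]
      · rw [if_neg hj0]
        have hj0' : 0 < j := Nat.pos_of_ne_zero hj0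
        -- the map `x ↦ x * (u^j x⁻¹ u^{-j})`
        let τ : Q₀ → Q₀ := fun x => ⟨(x : Γ) * (u ^ j * (x : Γ)⁻¹ * (u ^ j)⁻¹),
          Q₀.mul_mem x.2 (hnormj j _ (Q₀.inv_mem x.2))⟩
        have hτinj : Function.Injective τ := by
          intro a b hab
          have hab' : (a : Γ) * (u ^ j * (a : Γ)⁻¹ * (u ^ j)⁻¹) =
              (b : Γ) * (u ^ j * (b : Γ)⁻¹ * (u ^ j)⁻¹) := congrArg Subtype.val hab
          have hc : u ^ j * ((b : Γ)⁻¹ * (a : Γ)) = ((b : Γ)⁻¹ * (a : Γ)) * u ^ j := by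
            have e1 : (b : Γ)⁻¹ * (a : Γ) = (u ^ j * (b : Γ)⁻¹ * (u ^ j)⁻¹) *
                (u ^ j * (a : Γ)⁻¹ * (u ^ j)⁻¹)⁻¹ := by
              calc (b : Γ)⁻¹ * (a : Γ) = (b : Γ)⁻¹ * ((a : Γ) * (u ^ j * (a : Γ)⁻¹ * (u ^ j)⁻¹)) *
                    (u ^ j * (a : Γ)⁻¹ * (u ^ j)⁻¹)⁻¹ := by group
                _ = (b : Γ)⁻¹ * ((b : Γ) * (u ^ j * (b : Γ)⁻¹ * (u ^ j)⁻¹)) *
                    (u ^ j * (a : Γ)⁻¹ * (u ^ j)⁻¹)⁻¹ := by rw [hab']
                _ = _ := by group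
            have e2 : (u ^ j * (b : Γ)⁻¹ * (u ^ j)⁻¹) * (u ^ j * (a : Γ)⁻¹ * (u ^ j)⁻¹)⁻¹ =
                u ^ j * ((b : Γ)⁻¹ * (a : Γ)) * (u ^ j)⁻¹ := by group
            rw [e2] at e1
            calc u ^ j * ((b : Γ)⁻¹ * (a : Γ)) = (u ^ j * ((b : Γ)⁻¹ * (a : Γ)) * (u ^ j)⁻¹) * u ^ j := by
                  group
              _ = ((b : Γ)⁻¹ * (a : Γ)) * u ^ j := by rw [← e1]
          have := h2 _ (Q₀.mul_mem (Q₀.inv_mem b.2) a.2) j hj0' hj hc
          apply Subtype.ext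
          have h' : (a : Γ) = (b : Γ) * ((b : Γ)⁻¹ * (a : Γ)) := by group
          rw [h', this, mul_one]
        have hτbij : Function.Bijective τ := Finite.injective_iff_bijective.mp hτinj
        have hrew : ∀ x : Q₀, ρ ((x : Γ) * u ^ j * (x : Γ)⁻¹) w =
            ρ ((τ x : Q₀) : Γ) (ρ (u ^ j) w) := by
          intro x
          have : (x : Γ) * u ^ j * (x : Γ)⁻¹ = ((τ x : Q₀) : Γ) * u ^ j := by
            show (x : Γ) * u ^ j * (x : Γ)⁻¹ = (x : Γ) * (u ^ j * (x : Γ)⁻¹ * (u ^ j)⁻¹) * u ^ j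
            group
          rw [this, map_mul]; rfl
        rw [Fintype.prod_congr _ _ hrew]
        rw [← hA (ρ (u ^ j) w)]
        exact Fintype.prod_equiv (Equiv.ofBijective τ hτbij) _ _ (fun x => rfl)
    rw [Finset.prod_congr rfl hj, Finset.prod_ite_eq' (Finset.range p) 0]
    rw [if_pos (Finset.mem_range.mpr hp)]
  obtain ⟨w, hw⟩ := h5
  apply hw
  apply h3
  rw [← hD2 w, hD1 w]

end Cfsg.Agent.Lib.Helper1.Epo
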