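import Mathlib
import Cfsg.Agent.Lib.Helper1.FusionZJ1
import Cfsg.Agent.Lib.Helper1.NPC6
set_option autoImplicit false
open scoped commutatorElement Pointwise
open Cfsg
universe u
namespace Cfsg.Agent.Lib.Helper1.FusionZJ

open Cfsg.Agent.Lib.Helper1.FreeStable Cfsg.Agent.Lib.Helper1.NPC Cfsg.Agent.Lib.Helper1.ZJ
  Cfsg.Agent.Lib.Helper7

/-- In an `SL₂(p)`-free group `Z(J_e(T))` controls strong fusion with respect to every Sylow `T`. -/
theorem exists_mem_normalizer_ZJE_of_free {Y : Type u} [Group Y] [Finite Y] {p : ℕ} [Fact p.Prime]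
    (hp2 : p ≠ 2) (hfree : SL2Free p Y) (T : Sylow p Y) (A : Set Y) (g : Y)
    (hA : A ⊆ (T : Subgroup Y)) (hAg : cr g A ⊆ (T : Subgroup Y)) :
    ∃ x ∈ Subgroup.normalizer (centerThompsonOf p (T : Subgroup Y) : Set Y),
      ∀ a ∈ A, x⁻¹ * a * x = g⁻¹ * a * g := by
  obtain ⟨W, hWdef⟩ : ∃ W : ∀ (Q : Type u) [Group Q], Subgroup Q,
      W = (fun (Q : Type u) [Group Q] => ZJE p Q) := ⟨_, rfl⟩
  have hW : IsCharPFunctor.{u} p W := by rw [hWdef]; exact isCharPFunctor_ZJE p
  have hind : ∀ (Z : Type u) [Group Z] (X : Subgroup Z),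
      inducedFunctor (G := Z) W X = centerThompsonOf p X := by
    intro Z _ X
    unfold inducedFunctor
    rw [hWdef]
    exact map_subtype_ZJE p X
  have hloc : SectionProp (NormalInConstrained W p) Y := by
    intro K R hR hfin hcon T' hT'p hT'idx
    have hfreeQ : SL2Free p (↥K ⧸ R.subgroupOf K) := (hfree.subgroup K).quotient _
    rw [hind]
    have := zj_theorem_E_full hp2 hcon
      (fun P hPn hP => isPStableOn_of_free_of_isPGroup hp2 P hP hfreeQ) (hT'p.toSylow hT'idx)
    rw [IsPGroup.toSylow_coe] at this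
    exact this
  have h𝓦 : ∀ W' ∈ ({W} : Set (∀ (Q : Type u) [Group Q], Subgroup Q)), IsCharPFunctor.{u} p W' := by
    intro W' hW'
    rw [Set.mem_singleton_iff] at hW'
    rw [hW']; exact hW
  have hyp : SectionProp (ConstrainedGood {W} p) Y := by
    intro K R hR hfin hcon
    obtain ⟨T'⟩ : Nonempty (Sylow p (↥K ⧸ R.subgroupOf K)) := inferInstance
    apply familyControls_top_of_wReach T'
    intro A g hA hAg
    have hn := @hloc K R hR hfin hcon T'.toSubgroup T'.isPGroup' T'.not_dvd_index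
    apply WReach.single
    refine ⟨⟨inducedFunctor (G := (↥K ⧸ R.subgroupOf K)) W, ⟨W, rfl, rfl⟩, ?_⟩, hA, hAg⟩
    have h1 := Subgroup.normalizer_eq_top_iff.mpr hn
    refine Subgroup.mem_inf.mpr ⟨Subgroup.mem_top _, ?_⟩
    show g ∈ Subgroup.normalizer _
    rw [h1]
    exact Subgroup.mem_top _
  have main := familyControls_of_sectionProp h𝓦 (Nat.card Y) Y rfl hyp
  have hconj := indFamily_isConjugacyFunctor h𝓦 Y
  have hreach := wReach_top_of_familyControls T hconj main
  have hfam : indFamily {W} Y = {inducedFunctor (G := Y) W} := by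
    unfold indFamily
    rw [Set.image_singleton]
  rw [hfam] at hreach
  have := exists_mem_normalizer_of_wReach_singleton (hreach A g hA hAg)
  rw [hind] at this
  exact this

end Cfsg.Agent.Lib.Helper1.FusionZJ
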