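import Mathlib
import Cfsg.Agent.Lib.Helper1.Epo1
import Cfsg.Agent.S0183
import Cfsg.Agent.S0144
import Cfsg.Agent.S3031
import Cfsg.Agent.S1230
import Cfsg.Agent.S0494
import Cfsg.Agent.Lib.Helper5.PSL2Tori
import Cfsg.Agent.Lib.Helper5.DicksonOrders

set_option autoImplicit false
set_option linter.unusedVariables false
set_option linter.unusedSectionVars false
set_option linter.style.longLine false
set_option linter.style.haveILetI false

/-!
# Nonsolvable EPO groups are isomorphic to `A₅` (for S4068)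
-/

namespace Cfsg.Agent.Lib.Helper1.Epo

universe u

variable {G : Type u} [Group G]

theorem EPO.isPGroup_centralizer (h : EPO G) {g : G} (hg : g ≠ 1) :
    IsPGroup (orderOf g) (Subgroup.centralizer ({g} : Set G)) := by
  intro c
  by_cases hc : (c : G) = 1
  · exact ⟨0, by rw [pow_zero, pow_one]; exact Subtype.ext hc⟩
  · have hcomm : Commute (c : G) g := by
      have := c.2
      rw [Subgroup.mem_centralizer_singleton_iff] at this
      exact this
    have ho := h.orderOf_eq_of_commute hc hg hcomm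
    refine ⟨1, ?_⟩
    rw [pow_one, ← ho]
    apply Subtype.ext
    rw [Subgroup.coe_pow, pow_orderOf_eq_one]; rfl

theorem EPO.isCNGroup [Finite G] (h : EPO G) : Cfsg.IsCNGroup G := by
  intro g hg
  have hp : (orderOf g).Prime := (h g).resolve_left hg
  haveI : Fact (orderOf g).Prime := ⟨hp⟩
  exact (h.isPGroup_centralizer hg).isNilpotent

theorem EPO.solvable_of_odd [Finite G] (h : EPO G) (hodd : Odd (Nat.card G)) :
    Group.IsSolvable G :=
  Cfsg.Agent.S0183.result hodd h.isCNGroup

theorem solvable_of_isPGroup [Finite G] {p : ℕ} [Fact p.Prime] (h : IsPGroup p G) :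
    Group.IsSolvable G := by
  haveI := h.isNilpotent
  infer_instance

theorem solvable_of_normal (N : Subgroup G) [N.Normal] (h1 : Group.IsSolvable N)
    (h2 : Group.IsSolvable (G ⧸ N)) : Group.IsSolvable G :=
  (Group.isSolvable_iff_subgroup_quotient N).mpr ⟨h1, h2⟩

/-- a nonsolvable EPO group has even order -/
theorem EPO.even_card [Finite G] (h : EPO G) (hns : ¬ Group.IsSolvable G) : 2 ∣ Nat.card G := by
  by_contra h2
  exact hns (h.solvable_of_odd (Nat.odd_iff.mpr (Nat.two_dvd_ne_zero.mp h2)))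

/-- the Sylow 2-subgroup of a nonsolvable EPO group is not normal -/
theorem EPO.sylow_two_not_normal [Finite G] (h : EPO G) (hns : ¬ Group.IsSolvable G)
    (T : Sylow 2 G) : ¬ (T : Subgroup G).Normal := by
  haveI : Fact (Nat.Prime 2) := ⟨Nat.prime_two⟩
  intro hn
  haveI := hn
  apply hns
  apply solvable_of_normal (T : Subgroup G)
  · exact solvable_of_isPGroup T.isPGroup'
  · apply (h.quotient (T : Subgroup G)).solvable_of_odd
    have hc : Nat.card (G ⧸ (T : Subgroup G)) = (T : Subgroup G).index := rfl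
    rw [hc]
    have := T.not_dvd_index
    exact Nat.odd_iff.mpr (Nat.two_dvd_ne_zero.mp this)

/-- the Sylow 2-subgroup of a nonsolvable EPO group is not cyclic -/
theorem EPO.sylow_two_not_cyclic [Finite G] (h : EPO G) (hns : ¬ Group.IsSolvable G)
    (T : Sylow 2 G) : ¬ IsCyclic (T : Subgroup G) := by
  haveI : Fact (Nat.Prime 2) := ⟨Nat.prime_two⟩
  intro hcyc
  have h2 := h.even_card hns
  obtain ⟨P, N, hN, hc⟩ := Cfsg.Agent.S3031.result (p := 2) h2
    (fun q hq _ => hq.two_le) T (Or.inl hcyc)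
  haveI := hN
  apply hns
  apply solvable_of_normal N
  · apply (h.subgroup N).solvable_of_odd
    have e1 : (P : Subgroup G).index = Nat.card N := hc.index_eq_card
    rw [← e1]
    have := P.not_dvd_index
    exact Nat.odd_iff.mpr (Nat.two_dvd_ne_zero.mp this)
  · have e2 : N.index = Nat.card (P : Subgroup G) := hc.symm.index_eq_card
    have hc' : Nat.card (G ⧸ N) = N.index := rfl
    obtain ⟨k, hk⟩ := (IsPGroup.iff_card.mp P.isPGroup')
    apply solvable_of_isPGroup (p := 2)
    apply IsPGroup.of_card (n := k)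
    rw [hc', e2, hk]

/-- centralizers of involutions in an EPO group are elementary abelian -/
theorem EPO.centralizer_invol (h : EPO G) (t : G) (ht : orderOf t = 2) :
    IsMulCommutative (Subgroup.centralizer ({t} : Set G)) ∧
      ∀ c ∈ Subgroup.centralizer ({t} : Set G), c ^ 2 = 1 := by
  have ht1 : t ≠ 1 := by
    intro e
    rw [e, orderOf_one] at ht
    exact absurd ht (by decide)
  have hsq : ∀ c ∈ Subgroup.centralizer ({t} : Set G), c ^ 2 = 1 := by
    intro c hc
    by_cases hc1 : c = 1
    · rw [hc1, one_pow]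
    · have hcomm : Commute c t := by
        rw [Subgroup.mem_centralizer_singleton_iff] at hc
        exact hc
      have ho := h.orderOf_eq_of_commute hc1 ht1 hcomm
      rw [ht] at ho
      rw [← ho]; exact pow_orderOf_eq_one c
  refine ⟨⟨⟨fun a b => ?_⟩⟩, hsq⟩
  apply Subtype.ext
  have ha := hsq a a.2
  have hb := hsq b b.2
  have hab := hsq (a * b : G) (Subgroup.mul_mem _ a.2 b.2)
  show (a : G) * (b : G) = (b : G) * (a : G)
  have e1 : (a : G)⁻¹ = a := by
    rw [inv_eq_iff_mul_eq_one, ← sq]; exact ha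
  have e2 : (b : G)⁻¹ = b := by
    rw [inv_eq_iff_mul_eq_one, ← sq]; exact hb
  have e3 : ((a : G) * b)⁻¹ = a * b := by
    rw [inv_eq_iff_mul_eq_one, ← sq]; exact hab
  calc (a : G) * b = ((a : G) * b)⁻¹ := e3.symm
    _ = (b : G)⁻¹ * (a : G)⁻¹ := mul_inv_rev _ _
    _ = b * a := by rw [e1, e2]

/-- number theory: `q = 2^n`, `q - 1` is `1` or prime, `q + 1` prime: then `q = 2` or `q = 4` -/
theorem two_pow_cases {q n : ℕ} (hq : q = 2 ^ n) (hn : 1 ≤ n)
    (h1 : q - 1 = 1 ∨ (q - 1).Prime) (h2 : (q + 1).Prime) : q = 2 ∨ q = 4 := by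
  have hq2 : 2 ≤ q := by
    rw [hq]
    calc 2 = 2 ^ 1 := by norm_num
      _ ≤ 2 ^ n := Nat.pow_le_pow_right (by norm_num) hn
  have h3 : ¬ 3 ∣ q := by
    intro hd
    rw [hq] at hd
    have := Nat.Prime.dvd_of_dvd_pow Nat.prime_three hd
    omega
  have hcases : 3 ∣ q - 1 ∨ 3 ∣ q + 1 := by omega
  rcases hcases with hd | hd
  · rcases h1 with h1 | h1
    · omega
    · have := (Nat.prime_dvd_prime_iff_eq Nat.prime_three h1).mp hd
      right; omega
  · have := (Nat.prime_dvd_prime_iff_eq Nat.prime_three h2).mp hd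
    left; omega

/-- an EPO group `PSL₂(F)` with `|F| = 2^n`, `n ≥ 1`, has `|F| = 2` or `|F| = 4` -/
theorem card_field_of_epo_psl {F : Type} [Field F] [Fintype F]
    (h : EPO (Matrix.ProjectiveSpecialLinearGroup (Fin 2) F)) {n : ℕ} (hn : 1 ≤ n)
    (hF : Fintype.card F = 2 ^ n) : Fintype.card F = 2 ∨ Fintype.card F = 4 := by
  have hq2 : 2 ≤ Fintype.card F := by
    rw [hF]
    calc 2 = 2 ^ 1 := by norm_num
      _ ≤ 2 ^ n := Nat.pow_le_pow_right (by norm_num) hn
  have hodd : ¬ 2 ∣ Fintype.card F - 1 := by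
    have h2 : 2 ∣ Fintype.card F := by
      rw [hF]; exact dvd_pow_self 2 (by omega)
    omega
  have hg : Nat.gcd 2 (Fintype.card F - 1) = 1 :=
    (Nat.Prime.coprime_iff_not_dvd Nat.prime_two).mpr hodd
  -- general: a subgroup isomorphic to `DihedralGroup m` gives `m = 1 ∨ m.Prime`
  have key : ∀ m : ℕ, (∃ H : Subgroup (Matrix.ProjectiveSpecialLinearGroup (Fin 2) F),
      Nonempty (H ≃* DihedralGroup m)) → m = 1 ∨ m.Prime := by
    rintro m ⟨H, ⟨e⟩⟩
    have hE : EPO (DihedralGroup m) :=
      (h.subgroup H).of_injective e.symm.toMonoidHom e.symm.injective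
    rcases hE (DihedralGroup.r 1) with h1 | h1
    · left
      rw [← DihedralGroup.orderOf_r_one (n := m), h1, orderOf_one]
    · right
      rwa [DihedralGroup.orderOf_r_one] at h1
  have k1 := key _ (Cfsg.Agent.Lib.Helper5.PSL2Tori.exists_psl_dihedral_sub (F := F))
  have k2 := key _ (Cfsg.Agent.Lib.Helper5.PSL2Tori.exists_psl_dihedral_add (F := F))
  rw [hg, Nat.div_one] at k1 k2
  have k2' : (Fintype.card F + 1).Prime := by
    rcases k2 with k2 | k2
    · omega
    · exact k2
  exact two_pow_cases hF hn k1 k2'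

/-- a nonsolvable EPO group has order 60 -/
theorem EPO.card_eq_sixty [Finite G] (h : EPO G) (hns : ¬ Group.IsSolvable G) :
    Nat.card G = 60 := by
  haveI : Fact (Nat.Prime 2) := ⟨Nat.prime_two⟩
  obtain ⟨T⟩ : Nonempty (Sylow 2 G) := inferInstance
  obtain ⟨F, _, _, hFT, ⟨e⟩⟩ := Cfsg.Agent.S1230.result T (h.sylow_two_not_cyclic hns T)
    (h.sylow_two_not_normal hns T) (h.centralizer_invol)
  obtain ⟨n, hn⟩ := (IsPGroup.iff_card.mp T.isPGroup')
  have hTc : Nat.card T = 2 ^ n := hn
  have h2 := h.even_card hns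
  have hn1 : 1 ≤ n := by
    rcases Nat.eq_zero_or_pos n with h0 | h0
    · exfalso
      have hd : 2 ∣ Nat.card (T : Subgroup G) := T.dvd_card_of_dvd_card h2
      rw [hn, h0, pow_zero] at hd
      exact absurd hd (by decide)
    · exact h0
  have hF : Fintype.card F = 2 ^ n := by rw [hFT, hTc]
  have hE : EPO (Matrix.ProjectiveSpecialLinearGroup (Fin 2) F) :=
    h.of_injective e.symm.toMonoidHom e.symm.injective
  have hcard := Cfsg.Agent.Lib.Helper5.DicksonOrders.card_PSL2_mul (F := F)
  have hGc : Nat.card G = Nat.card (Matrix.ProjectiveSpecialLinearGroup (Fin 2) F) :=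
    Nat.card_congr e.toEquiv
  rcases card_field_of_epo_psl hE hn1 hF with hq | hq
  · exfalso
    rw [hq] at hcard
    have : Nat.card G = 2 ^ 1 * 3 ^ 1 := by
      rw [hGc]
      have h1 : Nat.gcd 2 (2 - 1) = 1 := by norm_num
      rw [h1] at hcard
      omega
    exact hns (Cfsg.Agent.S0144.result 2 3 1 1 Nat.prime_two Nat.prime_three this)
  · rw [hq] at hcard
    rw [hGc]
    have h1 : Nat.gcd 2 (4 - 1) = 1 := by norm_num
    rw [h1] at hcard
    omega

/-- a nonsolvable EPO group is simple -/
theorem EPO.isSimpleGroup [Finite G] (h : EPO G) (hns : ¬ Group.IsSolvable G) :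
    IsSimpleGroup G := by
  have h60 := h.card_eq_sixty hns
  haveI : Nontrivial G := by
    rw [← Finite.one_lt_card_iff_nontrivial, h60]; norm_num
  refine { exists_pair_ne := exists_pair_ne G, eq_bot_or_eq_top_of_normal := ?_ }
  intro N hN
  haveI := hN
  by_contra hne
  push_neg at hne
  obtain ⟨hb, ht⟩ := hne
  apply hns
  apply solvable_of_normal N
  · by_contra hsN
    have := (h.subgroup N).card_eq_sixty hsN
    apply ht
    exact Subgroup.eq_top_of_card_eq N (by rw [this, h60])
  · by_contra hsQ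
    have := (h.quotient N).card_eq_sixty hsQ
    have hc' : Nat.card (G ⧸ N) = N.index := rfl
    rw [hc'] at this
    have hmul := N.card_mul_index
    rw [this, h60] at hmul
    have hN1 : Nat.card N = 1 := by omega
    exact hb (Subgroup.card_eq_one.mp hN1)

/-- **Main theorem**: a finite nonsolvable group all of whose nonidentity elements have prime order
is isomorphic to `A₅`. -/
theorem EPO.equiv_alt5 [Finite G] (h : EPO G) (hns : ¬ Group.IsSolvable G) :
    Nonempty (G ≃* alternatingGroup (Fin 5)) := by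
  haveI := h.isSimpleGroup hns
  exact Cfsg.Agent.S0494.result (h.card_eq_sixty hns)

end Cfsg.Agent.Lib.Helper1.Epo
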