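import Mathlib
import Cfsg.Agent.Lib.Helper1.Epo2

set_option autoImplicit false
set_option linter.unusedVariables false
set_option linter.unusedSectionVars false
set_option linter.style.longLine false
set_option linter.style.haveILetI false

/-!
# Four automorphism orbits and nonsolvable: every nonidentity element has prime order (for S4068)
-/

namespace Cfsg.Agent.Lib.Helper1.Epo

universe u

variable {G : Type u} [Group G]

/-- a natural number with at most two prime divisors is `p^a * q^b`; otherwise it has three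
distinct prime divisors -/
theorem exists_three_primes_or (n : ℕ) (hn : n ≠ 0) :
    (∃ p q a b : ℕ, p.Prime ∧ q.Prime ∧ n = p ^ a * q ^ b) ∨
    (∃ p q r : ℕ, p.Prime ∧ q.Prime ∧ r.Prime ∧ p ≠ q ∧ p ≠ r ∧ q ≠ r ∧ p ∣ n ∧ q ∣ n ∧ r ∣ n) := by
  by_cases h1 : n = 1
  · left
    exact ⟨2, 3, 0, 0, Nat.prime_two, Nat.prime_three, by rw [h1]; norm_num⟩
  have hp : (n.minFac).Prime := Nat.minFac_prime h1
  obtain ⟨a, m, hm, hnm⟩ := Nat.exists_eq_pow_mul_and_not_dvd hn n.minFac hp.ne_one
  have hm0 : m ≠ 0 := by
    rintro rfl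
    exact hm (dvd_zero _)
  by_cases hm1 : m = 1
  · left
    exact ⟨n.minFac, 3, a, 0, hp, Nat.prime_three, by rw [hm1] at hnm; rw [pow_zero]; exact hnm⟩
  have hq : (m.minFac).Prime := Nat.minFac_prime hm1
  obtain ⟨b, m', hm', hmm'⟩ := Nat.exists_eq_pow_mul_and_not_dvd hm0 m.minFac hq.ne_one
  have hm'0 : m' ≠ 0 := by
    rintro rfl
    exact hm' (dvd_zero _)
  by_cases hm'1 : m' = 1
  · left
    refine ⟨n.minFac, m.minFac, a, b, hp, hq, ?_⟩
    rw [hm'1, mul_one] at hmm'
    exact hnm.trans (congrArg (fun z => n.minFac ^ a * z) hmm')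
  right
  have hr : (m'.minFac).Prime := Nat.minFac_prime hm'1
  have hm'm : m' ∣ m := Dvd.intro_left _ hmm'.symm
  have hmn : m ∣ n := Dvd.intro_left _ hnm.symm
  have hqm : m.minFac ∣ m := Nat.minFac_dvd m
  have hrm' : m'.minFac ∣ m' := Nat.minFac_dvd m'
  refine ⟨n.minFac, m.minFac, m'.minFac, hp, hq, hr, ?_, ?_, ?_, Nat.minFac_dvd n,
    hqm.trans hmn, (hrm'.trans hm'm).trans hmn⟩
  · intro e
    exact hm (e ▸ hqm)
  · intro e
    exact hm (e ▸ (hrm'.trans hm'm))
  · intro e
    exact hm' (e ▸ hrm')

/-- the order of an element is constant on automorphism orbits -/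
theorem orderOf_eq_of_orbitRel {x y : G}
    (h : (MulAction.orbitRel (MulAut G) G).r x y) : orderOf x = orderOf y := by
  obtain ⟨φ, hφ⟩ := h
  have : (φ : MulAut G) y = x := hφ
  rw [← this]
  exact MulEquiv.orderOf_eq φ y

/-- a finite nonsolvable group with four automorphism orbits is an EPO group -/
theorem epo_of_four_orbits [Finite G] (hns : ¬ Group.IsSolvable G)
    (h4 : Nat.card (MulAction.orbitRel.Quotient (MulAut G) G) = 4) : EPO G := by
  classical
  have hn0 : Nat.card G ≠ 0 := Nat.card_pos.ne'
  rcases exists_three_primes_or (Nat.card G) hn0 with ⟨p, q, a, b, hp, hq, hc⟩ |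
    ⟨p, q, r, hp, hq, hr, hpq, hpr, hqr, hpn, hqn, hrn⟩
  · exact absurd (Cfsg.Agent.S0144.result p q a b hp hq hc) hns
  haveI : Fact p.Prime := ⟨hp⟩
  haveI : Fact q.Prime := ⟨hq⟩
  haveI : Fact r.Prime := ⟨hr⟩
  obtain ⟨xp, hxp⟩ := exists_prime_orderOf_dvd_card' (G := G) p hpn
  obtain ⟨xq, hxq⟩ := exists_prime_orderOf_dvd_card' (G := G) q hqn
  obtain ⟨xr, hxr⟩ := exists_prime_orderOf_dvd_card' (G := G) r hrn
  -- the order function on orbits
  let ord : MulAction.orbitRel.Quotient (MulAut G) G → ℕ :=
    Quotient.lift (s := MulAction.orbitRel (MulAut G) G) orderOf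
      (fun x y h => orderOf_eq_of_orbitRel h)
  have hord : ∀ x : G, ord (Quotient.mk (MulAction.orbitRel (MulAut G) G) x) = orderOf x :=
    fun x => rfl
  let f : Fin 4 → MulAction.orbitRel.Quotient (MulAut G) G :=
    ![Quotient.mk _ (1 : G), Quotient.mk _ xp, Quotient.mk _ xq, Quotient.mk _ xr]
  have hf0 : ord (f 0) = 1 := by
    show ord (Quotient.mk _ (1 : G)) = 1
    rw [hord, orderOf_one]
  have hf1 : ord (f 1) = p := by
    show ord (Quotient.mk _ xp) = p
    rw [hord, hxp]
  have hf2 : ord (f 2) = q := by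
    show ord (Quotient.mk _ xq) = q
    rw [hord, hxq]
  have hf3 : ord (f 3) = r := by
    show ord (Quotient.mk _ xr) = r
    rw [hord, hxr]
  have hfall : ∀ i : Fin 4, ord (f i) = 1 ∨ (ord (f i)).Prime := by
    intro i
    fin_cases i
    · left; exact hf0
    · right; show (ord (f 1)).Prime; rw [hf1]; exact hp
    · right; show (ord (f 2)).Prime; rw [hf2]; exact hq
    · right; show (ord (f 3)).Prime; rw [hf3]; exact hr
  have hinj : Function.Injective f := by
    have hoi : Function.Injective (fun i : Fin 4 => ord (f i)) := by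
      intro i j hij
      have hij' : ord (f i) = ord (f j) := hij
      have p1 := hp.one_lt
      have q1 := hq.one_lt
      have r1 := hr.one_lt
      fin_cases i <;> fin_cases j <;> first
        | rfl
        | (exfalso
           simp only [Fin.zero_eta, Fin.mk_one, Fin.reduceFinMk] at hij'
           rw [hf0, hf1] at hij'; omega)
        | (exfalso
           simp only [Fin.zero_eta, Fin.mk_one, Fin.reduceFinMk] at hij'
           rw [hf0, hf2] at hij'; omega)
        | (exfalso
           simp only [Fin.zero_eta, Fin.mk_one, Fin.reduceFinMk] at hij'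
           rw [hf0, hf3] at hij'; omega)
        | (exfalso
           simp only [Fin.zero_eta, Fin.mk_one, Fin.reduceFinMk] at hij'
           rw [hf1, hf0] at hij'; omega)
        | (exfalso
           simp only [Fin.zero_eta, Fin.mk_one, Fin.reduceFinMk] at hij'
           rw [hf1, hf2] at hij'; omega)
        | (exfalso
           simp only [Fin.zero_eta, Fin.mk_one, Fin.reduceFinMk] at hij'
           rw [hf1, hf3] at hij'; omega)
        | (exfalso
           simp only [Fin.zero_eta, Fin.mk_one, Fin.reduceFinMk] at hij'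
           rw [hf2, hf0] at hij'; omega)
        | (exfalso
           simp only [Fin.zero_eta, Fin.mk_one, Fin.reduceFinMk] at hij'
           rw [hf2, hf1] at hij'; omega)
        | (exfalso
           simp only [Fin.zero_eta, Fin.mk_one, Fin.reduceFinMk] at hij'
           rw [hf2, hf3] at hij'; omega)
        | (exfalso
           simp only [Fin.zero_eta, Fin.mk_one, Fin.reduceFinMk] at hij'
           rw [hf3, hf0] at hij'; omega)
        | (exfalso
           simp only [Fin.zero_eta, Fin.mk_one, Fin.reduceFinMk] at hij'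
           rw [hf3, hf1] at hij'; omega)
        | (exfalso
           simp only [Fin.zero_eta, Fin.mk_one, Fin.reduceFinMk] at hij'
           rw [hf3, hf2] at hij'; omega)
    exact fun i j hij => hoi (congrArg ord hij)
  haveI : Finite (MulAction.orbitRel.Quotient (MulAut G) G) :=
    Nat.finite_of_card_ne_zero (by rw [h4]; norm_num)
  have hbij : Function.Bijective f :=
    hinj.bijective_of_nat_card_le (by rw [h4, Nat.card_eq_fintype_card, Fintype.card_fin])
  intro g
  obtain ⟨i, hi⟩ := hbij.2 (Quotient.mk _ g)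
  have hg : orderOf g = ord (f i) := by rw [hi, hord]
  rcases hfall i with h1 | h1
  · left
    rw [← hg] at h1
    exact orderOf_eq_one_iff.mp h1
  · right
    rw [hg]; exact h1

end Cfsg.Agent.Lib.Helper1.Epo
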