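import Mathlib
import Cfsg.Prelude.Def_Transfer
import Cfsg.Agent.Lib.Helper1.BurnsideBasis
import Cfsg.Agent.Lib.Helper1.Nilpotent
set_option autoImplicit false
universe u v
open scoped Pointwise commutatorElement
namespace Cfsg.Agent.Lib.Helper1
variable {G : Type u} [Group G]

theorem inf_centralizer_subgroupOf (E : Subgroup G) :
    (E ⊓ Subgroup.centralizer (E : Set G)).subgroupOf E = Subgroup.center E := by
  ext x
  rw [Subgroup.mem_subgroupOf, Subgroup.mem_center_iff, Subgroup.mem_inf]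
  constructor
  · rintro ⟨-, hx⟩ y
    have := Subgroup.mem_centralizer_iff.mp hx y y.2
    exact Subtype.ext this
  · intro h
    refine ⟨x.2, ?_⟩
    rw [Subgroup.mem_centralizer_iff]
    intro y hy
    exact congrArg Subtype.val (h ⟨y, hy⟩)

theorem extraspecial_central_product [Finite G] {p : ℕ} [hp : Fact p.Prime] (_hG : IsPGroup p G)
    (E : Subgroup G) (hE : Cfsg.IsExtraspecial p E)
    (h : ⁅(⊤ : Subgroup G), E⁆ ≤ E ⊓ Subgroup.centralizer (E : Set G)) :
    E ⊔ Subgroup.centralizer (E : Set G) = ⊤ := by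
  classical
  obtain ⟨⟨hEp, hfrat, hcomm⟩, hZcard⟩ := hE
  obtain ⟨Z, hZ⟩ : ∃ Z : Subgroup G, Z = E ⊓ Subgroup.centralizer (E : Set G) := ⟨_, rfl⟩
  obtain ⟨C, hC⟩ : ∃ C : Subgroup G, C = Subgroup.centralizer (E : Set G) := ⟨_, rfl⟩
  rw [← hZ] at h
  rw [← hC]
  -- E is normal
  have hEn : E.Normal := by
    constructor
    intro e he g
    have h1 : ⁅g, e⁆ ∈ Z := h (Subgroup.commutator_mem_commutator (Subgroup.mem_top g) he)
    have h2 : ⁅g, e⁆ ∈ E := by rw [hZ] at h1; exact (Subgroup.mem_inf.mp h1).1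
    have e1 : g * e * g⁻¹ = ⁅g, e⁆ * e := by rw [commutatorElement_def]; group
    rw [e1]; exact E.mul_mem h2 he
  have hCn : C.Normal := by rw [hC]; infer_instance
  -- index of center of E
  obtain ⟨d, hd⟩ : ∃ d : ℕ, (frattini E).index = p ^ d := by
    have h1 : (frattini E).index ∣ Nat.card E := Subgroup.index_dvd_card _
    obtain ⟨n, hn⟩ := IsPGroup.iff_card.mp hEp
    rw [hn] at h1
    obtain ⟨d, -, hd⟩ := (Nat.dvd_prime_pow hp.out).mp h1
    exact ⟨d, hd⟩
  have : Fintype E := Fintype.ofFinite E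
  obtain ⟨T, -, hTcard, hTgen⟩ := (burnside_basis p d hEp hd).1 Finset.univ (by
    rw [Finset.coe_univ, Subgroup.closure_univ])
  -- the injection G ⧸ C → (T → Z)
  have hmemZ : ∀ (g : G) (t : E), g * (t : G) * g⁻¹ * (t : G)⁻¹ ∈ Z := by
    intro g t
    have : g * (t : G) * g⁻¹ * (t : G)⁻¹ = ⁅g, (t : G)⁆ := by rw [commutatorElement_def]
    rw [this]
    exact h (Subgroup.commutator_mem_commutator (Subgroup.mem_top g) t.2)
  let f : G → (T → Z) := fun g t => ⟨g * ((t : E) : G) * g⁻¹ * ((t : E) : G)⁻¹, hmemZ g t⟩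
  have hf : ∀ g g' : G, f g = f g' → g'⁻¹ * g ∈ C := by
    intro g g' hgg
    rw [hC, Subgroup.mem_centralizer_iff]
    -- centralizes closure T = E
    have hcent : ∀ t ∈ T, (g'⁻¹ * g) * ((t : E) : G) = ((t : E) : G) * (g'⁻¹ * g) := by
      intro t ht
      have h1 := congrFun hgg ⟨t, ht⟩
      have h2 : g * (t : G) * g⁻¹ * (t : G)⁻¹ = g' * (t : G) * g'⁻¹ * (t : G)⁻¹ :=
        congrArg Subtype.val h1
      have h3 : g * (t : G) * g⁻¹ = g' * (t : G) * g'⁻¹ := mul_right_cancel h2
      calc g'⁻¹ * g * (t : G) = g'⁻¹ * (g * (t : G) * g⁻¹) * g := by group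
        _ = g'⁻¹ * (g' * (t : G) * g'⁻¹) * g := by rw [h3]
        _ = (t : G) * (g'⁻¹ * g) := by group
    intro y hy
    -- y ∈ E = closure of T (mapped)
    have hy' : (⟨y, hy⟩ : E) ∈ Subgroup.closure (T : Set E) := by rw [hTgen]; exact Subgroup.mem_top _
    have key : ∀ x : E, x ∈ Subgroup.closure (T : Set E) → (x : G) * (g'⁻¹ * g) = (g'⁻¹ * g) * (x : G) := by
      intro x hx
      induction hx using Subgroup.closure_induction with
      | mem t ht => exact (hcent t ht).symm
      | one => simp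
      | mul a b _ _ iha ihb =>
        rw [Subgroup.coe_mul, mul_assoc, ihb, ← mul_assoc, iha, mul_assoc]
      | inv a _ iha =>
        rw [Subgroup.coe_inv]
        have : (a : G)⁻¹ * (g'⁻¹ * g) = (a : G)⁻¹ * ((g'⁻¹ * g) * (a : G)) * (a : G)⁻¹ := by group
        rw [this, ← iha]; group
    exact key ⟨y, hy⟩ hy'
  have hidxC : C.index ≤ p ^ d := by
    let F : G ⧸ C → (T → Z) := Quotient.lift f (by
      intro a b hab
      -- a ≈ b means a⁻¹ * b ∈ C
      have hab' : a⁻¹ * b ∈ C := QuotientGroup.leftRel_apply.mp hab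
      funext t
      apply Subtype.ext
      show a * ((t : E) : G) * a⁻¹ * ((t : E) : G)⁻¹ = b * ((t : E) : G) * b⁻¹ * ((t : E) : G)⁻¹
      rw [hC, Subgroup.mem_centralizer_iff] at hab'
      have h1 := hab' _ (t : E).2
      congr 1
      calc a * ((t : E) : G) * a⁻¹ = a * (((t : E) : G) * (a⁻¹ * b)) * b⁻¹ := by group
        _ = a * ((a⁻¹ * b) * ((t : E) : G)) * b⁻¹ := by rw [h1]
        _ = b * ((t : E) : G) * b⁻¹ := by group)
    have hFinj : Function.Injective F := by
      intro x y hxy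
      induction x using Quotient.inductionOn with | _ a => ?_
      induction y using Quotient.inductionOn with | _ b => ?_
      have h1 : f a = f b := hxy
      have h2 := hf a b h1
      apply Quotient.sound
      apply QuotientGroup.leftRel_apply.mpr
      have : a⁻¹ * b = (b⁻¹ * a)⁻¹ := by group
      rw [this]; exact C.inv_mem h2
    have h1 := Nat.card_le_card_of_injective F hFinj
    have h2 : Nat.card (T → Z) = p ^ d := by
      rw [Nat.card_fun, Nat.card_eq_fintype_card (α := T), Fintype.card_coe, hTcard]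
      congr 1
      rw [hZ, ← hZcard, ← inf_centralizer_subgroupOf]
      exact (Nat.card_congr (Subgroup.subgroupOfEquivOfLe inf_le_left).toEquiv).symm
    rw [h2] at h1
    exact h1
  -- relative index
  have hrel : C.relIndex (E ⊔ C) = p ^ d := by
    rw [Subgroup.relIndex_sup_right, ← Subgroup.inf_relIndex_left]
    show ((E ⊓ C).subgroupOf E).index = p ^ d
    rw [hC, inf_centralizer_subgroupOf, ← hfrat, hd]
  have hmul := Subgroup.relIndex_mul_index (le_sup_right : C ≤ E ⊔ C)
  rw [hrel] at hmul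
  have hpos : 0 < p ^ d := pow_pos hp.out.pos d
  have hidx1 : (E ⊔ C).index = 1 := by
    have h1 : p ^ d * (E ⊔ C).index ≤ p ^ d := hmul ▸ hidxC
    have h2 : (E ⊔ C).index ≤ 1 := by
      by_contra hcon
      push Not at hcon
      have : p ^ d * 2 ≤ p ^ d * (E ⊔ C).index := Nat.mul_le_mul_left _ hcon
      omega
    have h3 : 0 < (E ⊔ C).index := Nat.pos_of_ne_zero Subgroup.index_ne_zero_of_finite
    omega
  exact Subgroup.index_eq_one.mp hidx1

end Cfsg.Agent.Lib.Helper1
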