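import Mathlib
import Cfsg.Prelude.Def_ChevStructure
import Cfsg.Agent.Lib.Helper5.ChevBruhatNF
import Cfsg.Agent.Lib.Helper5.ChevUCard
import Cfsg.Agent.Lib.Helper5.ChevTorusCard
import Cfsg.Agent.Lib.Helper5.ChevTorusAct
import Cfsg.Agent.Lib.Helper5.ChevDiag
import Cfsg.Agent.Lib.Helper5.ChevMonoN

set_option autoImplicit false

/-!
Every involution of a Chevalley group (seven types) over a finite field of odd order is
conjugate to an involution of the monomial subgroup `N`.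
-/

namespace Cfsg.Agent.Lib.Helper1.InvolN

open Cfsg Cfsg.Lie Cfsg.Agent.Lib.Helper5.ChevSym Cfsg.Agent.Lib.Helper5.ChevStruct

variable {F : Type*} [Field F]

/-- the double coset of `b n c` determines `n` modulo `H` -/
theorem dc_unique (D : ChevalleyDatum) (hD : D ∈ Seven) (b b' n n' c c' : GL D.Idx F)
    (hb : b ∈ D.borelSubgroup F) (hb' : b' ∈ D.borelSubgroup F)
    (hn : n ∈ D.monomialSubgroup F) (hn' : n' ∈ D.monomialSubgroup F)
    (hc : c ∈ D.borelSubgroup F) (hc' : c' ∈ D.borelSubgroup F) (e : b * n * c = b' * n' * c') :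
    n⁻¹ * n' ∈ D.diagonalSubgroup F := by
  have hnG := monomial_le_group D hD hn
  have hn'G := monomial_le_group D hD hn'
  have hgG : b * n * c ∈ D.group F :=
    mul_mem (mul_mem (borel_le_group D hD hb) hnG) (borel_le_group D hD hc)
  have h1 : (⟨b * n * c, hgG⟩ : ↥(D.group F)) ∈ DoubleCoset.doubleCoset (⟨n, hnG⟩ : ↥(D.group F))
      ((chevBNPair D hD F).B : Set ↥(D.group F)) (chevBNPair D hD F).B := by
    apply doubleCoset_subgroupOf (D.group F) (D.borelSubgroup F) (borel_le_group D hD)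
    rw [DoubleCoset.mem_doubleCoset]
    exact ⟨b, hb, c, hc, rfl⟩
  have h2 : (⟨b * n * c, hgG⟩ : ↥(D.group F)) ∈ DoubleCoset.doubleCoset
      (⟨n', hn'G⟩ : ↥(D.group F))
      ((chevBNPair D hD F).B : Set ↥(D.group F)) (chevBNPair D hD F).B := by
    apply doubleCoset_subgroupOf (D.group F) (D.borelSubgroup F) (borel_le_group D hD)
    rw [DoubleCoset.mem_doubleCoset]
    exact ⟨b', hb', c', hc', e⟩
  have heq : DoubleCoset.doubleCoset (⟨n, hnG⟩ : ↥(D.group F))
      ((chevBNPair D hD F).B : Set ↥(D.group F)) (chevBNPair D hD F).B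
      = DoubleCoset.doubleCoset (⟨n', hn'G⟩ : ↥(D.group F))
      ((chevBNPair D hD F).B : Set ↥(D.group F)) (chevBNPair D hD F).B := by
    apply DoubleCoset.eq_of_not_disjoint
    rw [Set.not_disjoint_iff]
    exact ⟨_, h1, h2⟩
  have h3 := (Cfsg.Agent.S0309.result (chevBNPair D hD F) (n := ⟨n, hnG⟩) (n' := ⟨n', hn'G⟩)
    hn hn').1 heq
  have h4 : n⁻¹ * n' ∈ D.borelSubgroup F := h3
  rw [← borel_inf_monomial D hD]
  exact ⟨h4, (D.monomialSubgroup F).mul_mem ((D.monomialSubgroup F).inv_mem hn) hn'⟩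

/-- `B = U H` elementwise -/
theorem borel_decomp (D : ChevalleyDatum) (hD : D ∈ Seven) (b : GL D.Idx F)
    (hb : b ∈ D.borelSubgroup F) :
    ∃ u ∈ D.posUnipotent F, ∃ h ∈ D.diagonalSubgroup F, b = u * h := by
  have hb' : b ∈ ((D.diagonalSubgroup F ⊔ D.posUnipotent F :
      Subgroup (GL D.Idx F)) : Set (GL D.Idx F)) := by
    rw [sup_comm]
    exact hb
  rw [Subgroup.coe_mul_of_left_le_normalizer_right _ _ (diagonal_le_normalizer_pos D hD)] at hb'
  obtain ⟨h, hh, u, hu, e2⟩ := Set.mem_mul.1 hb'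
  have hN := diagonal_le_normalizer_pos D hD hh
  refine ⟨h * u * h⁻¹, ?_, h, hh, ?_⟩
  · exact (Subgroup.mem_normalizer_iff.1 hN u).1 hu
  · rw [← e2]; group

/-- powers of `u h` -/
theorem pow_uh (D : ChevalleyDatum) (hD : D ∈ Seven) (u h : GL D.Idx F)
    (hu : u ∈ D.posUnipotent F) (hh : h ∈ D.diagonalSubgroup F) (m : ℕ) :
    ∃ u' ∈ D.posUnipotent F, (u * h) ^ m = u' * h ^ m := by
  induction m with
  | zero => exact ⟨1, one_mem _, by simp⟩
  | succ k ih =>
    obtain ⟨u', hu', e⟩ := ih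
    have hN := diagonal_le_normalizer_pos D hD (pow_mem hh k)
    refine ⟨u' * (h ^ k * u * (h ^ k)⁻¹), mul_mem hu' ?_, ?_⟩
    · exact (Subgroup.mem_normalizer_iff.1 hN u).1 hu
    · rw [pow_succ, e, pow_succ]; group

theorem card_diag_dvd [Fintype F] (D : ChevalleyDatum) (hD : D ∈ Seven) :
    Nat.card (D.diagonalSubgroup F) ∣ (Fintype.card F - 1) ^ D.rank :=
  Dvd.intro _ (card_diagonal_mul_card_ker (F := F) D hD)

/-- an element `u h` of `B` of order dividing a power of `q` has `h = 1` -/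
theorem diag_part_eq_one [Fintype F] (D : ChevalleyDatum) (hD : D ∈ Seven) (u h : GL D.Idx F)
    (hu : u ∈ D.posUnipotent F) (hh : h ∈ D.diagonalSubgroup F) (k : ℕ)
    (e : (u * h) ^ (Fintype.card F ^ k) = 1) : h = 1 := by
  obtain ⟨u', hu', e'⟩ := pow_uh D hD u h hu hh (Fintype.card F ^ k)
  rw [e] at e'
  have h1 : h ^ (Fintype.card F ^ k) ∈ D.posUnipotent F ⊓ D.diagonalSubgroup F := by
    refine Subgroup.mem_inf.2 ⟨?_, pow_mem hh _⟩
    have h0 : h ^ (Fintype.card F ^ k) = u'⁻¹ := by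
      have := congrArg (fun x => u'⁻¹ * x) e'
      simpa using this.symm
    rw [h0]; exact (D.posUnipotent F).inv_mem hu'
  rw [pos_inf_diagonal D hD, Subgroup.mem_bot] at h1
  have h2 : (⟨h, hh⟩ : D.diagonalSubgroup F) ^ (Nat.card (D.diagonalSubgroup F)) = 1 :=
    pow_card_eq_one'
  have h2' : h ^ (Nat.card (D.diagonalSubgroup F)) = 1 := by
    have h0 := congrArg Subtype.val h2
    rw [SubmonoidClass.coe_pow] at h0
    exact h0
  have h3 : h ^ ((Fintype.card F - 1) ^ D.rank) = 1 := by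
    obtain ⟨c, hc⟩ := card_diag_dvd (F := F) D hD
    rw [hc, pow_mul, h2', one_pow]
  have hq : 1 ≤ Fintype.card F := Fintype.card_pos
  have hcop : Nat.Coprime (Fintype.card F ^ k) ((Fintype.card F - 1) ^ D.rank) := by
    apply Nat.Coprime.pow
    have : Nat.Coprime (Fintype.card F - 1 + 1) (Fintype.card F - 1) := by
      rw [Nat.coprime_self_add_left]; exact Nat.coprime_one_left _
    rwa [Nat.sub_add_cancel hq] at this
  have := orderOf_dvd_of_pow_eq_one h1
  have h5 := orderOf_dvd_of_pow_eq_one h3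
  have h6 : orderOf h ∣ 1 := by
    rw [← Nat.Coprime.gcd_eq_one hcop]
    exact Nat.dvd_gcd this h5
  exact orderOf_eq_one_iff.1 (Nat.dvd_one.1 h6)

theorem pos_pow_card [Fintype F] (D : ChevalleyDatum) (hD : D ∈ Seven) (u : GL D.Idx F)
    (hu : u ∈ D.posUnipotent F) : u ^ (Fintype.card F ^ (D.nroots / 2)) = 1 := by
  have h2 : (⟨u, hu⟩ : D.posUnipotent F) ^ (Nat.card (D.posUnipotent F)) = 1 :=
    pow_card_eq_one'
  rw [card_posUnipotent D hD] at h2
  have h0 := congrArg Subtype.val h2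
  rw [SubmonoidClass.coe_pow] at h0
  exact h0

/-- every involution is conjugate to an involution of `N` (odd characteristic) -/
theorem invol_conj_monomial_cell [Fintype F] (D : ChevalleyDatum) (hD : D ∈ Seven)
    (hodd : Odd (Fintype.card F)) (t : GL D.Idx F) (ht : t ∈ D.group F) (ht2 : t * t = 1) :
    ∃ g ∈ D.group F, ∃ n ∈ D.monomialSubgroup F, n * n = 1 ∧ g * t * g⁻¹ = n ∧
      ∃ b₁ ∈ D.borelSubgroup F, ∃ b₂ ∈ D.borelSubgroup F, t = b₁ * n * b₂ := by
  obtain ⟨b, hb, n, hn, u, hu, e⟩ := bruhat_exists D hD t ht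
  have huU := unegOf_le_pos D n hu
  have huB := pos_le_borel D huU
  -- `t2 = u t u⁻¹ = (u b) n`
  obtain ⟨u₂, hu₂, h₂, hh₂, e₂⟩ := borel_decomp D hD (u * b) (mul_mem huB hb)
  set n' := h₂ * n with hn'def
  have hn' : n' ∈ D.monomialSubgroup F := mul_mem (diagonal_le_monomial D hh₂) hn
  have et2 : u * t * u⁻¹ = u₂ * n' := by
    rw [e, hn'def, ← mul_assoc u₂, ← e₂]; group
  have hsq : (u₂ * n') * (u₂ * n') = 1 := by
    rw [← et2]
    have : u * t * u⁻¹ * (u * t * u⁻¹) = u * (t * t) * u⁻¹ := by group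
    rw [this, ht2]; group
  -- `n'² ∈ H`
  have hu₂B := pos_le_borel D hu₂
  have hH : n'⁻¹ * n'⁻¹ ∈ D.diagonalSubgroup F := by
    apply dc_unique D hD u₂ 1 n' n'⁻¹ 1 u₂⁻¹ hu₂B (one_mem _) hn' (inv_mem hn') (one_mem _)
      (inv_mem hu₂B)
    have : u₂ * n' = (u₂ * n')⁻¹ := eq_inv_of_mul_eq_one_left hsq
    rw [mul_one, one_mul, this]; group
  -- `c = n' u₂ n'⁻¹ = u₂⁻¹ (n'²)⁻¹`
  have hc : n' * u₂ * n'⁻¹ = u₂⁻¹ * (n'⁻¹ * n'⁻¹) := by
    have h1 : n' * u₂ * n' = u₂⁻¹ := by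
      have := congrArg (fun x => u₂⁻¹ * x) hsq
      simp only [mul_one] at this
      rw [← this]; group
    calc n' * u₂ * n'⁻¹ = (n' * u₂ * n') * (n'⁻¹ * n'⁻¹) := by group
      _ = _ := by rw [h1]
  have hpow : (u₂⁻¹ * (n'⁻¹ * n'⁻¹)) ^ (Fintype.card F ^ (D.nroots / 2)) = 1 := by
    rw [← hc]
    have : (n' * u₂ * n'⁻¹) ^ (Fintype.card F ^ (D.nroots / 2))
        = n' * u₂ ^ (Fintype.card F ^ (D.nroots / 2)) * n'⁻¹ := by
      rw [conj_pow]
    rw [this, pos_pow_card D hD u₂ hu₂]; group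
  have hone := diag_part_eq_one D hD u₂⁻¹ (n'⁻¹ * n'⁻¹) (inv_mem hu₂) hH _ hpow
  have hnn : n' * n' = 1 := by
    have : (n' * n')⁻¹ = 1 := by rw [mul_inv_rev]; exact hone
    exact inv_eq_one.1 this
  have hinv : n' * u₂ * n'⁻¹ = u₂⁻¹ := by rw [hc, hone, mul_one]
  -- square root
  set m := Fintype.card F ^ (D.nroots / 2) with hm
  have hmodd : Odd m := hodd.pow
  obtain ⟨j, hj⟩ := hmodd
  set y := u₂ ^ (j + 1) with hy
  have hyy : y * y = u₂ := by
    rw [hy, ← pow_add]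
    have : j + 1 + (j + 1) = m + 1 := by omega
    rw [this, pow_succ, pos_pow_card D hD u₂ hu₂, one_mul]
  have hyinv : n' * y * n'⁻¹ = y⁻¹ := by
    rw [hy, ← conj_pow, hinv, inv_pow]
  have hn'inv : n'⁻¹ = n' := inv_eq_of_mul_eq_one_left hnn
  have hyU : y ∈ D.posUnipotent F := pow_mem hu₂ _
  refine ⟨y⁻¹ * u, ?_, n', hn', hnn, ?_, b * h₂⁻¹, ?_, u, huB, ?_⟩
  · exact mul_mem (inv_mem (borel_le_group D hD (pos_le_borel D hyU)))
      (borel_le_group D hD huB)
  rotate_left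
  · exact mul_mem hb (inv_mem (diagonal_le_borel D hh₂))
  · rw [e, hn'def]; group
  · have : y⁻¹ * u * t * (y⁻¹ * u)⁻¹ = y⁻¹ * (u * t * u⁻¹) * y := by group
    rw [this, et2, ← hyy]
    have h3 : y * n' = n' * y⁻¹ := by
      rw [hn'inv] at hyinv
      calc y * n' = (n' * n') * y * n' := by rw [hnn, one_mul]
        _ = n' * (n' * y * n') := by group
        _ = n' * y⁻¹ := by rw [hyinv]
    calc y⁻¹ * (y * y * n') * y = y * n' * y := by group
      _ = n' * y⁻¹ * y := by rw [h3]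
      _ = n' := by group

/-- every involution is conjugate to an involution of `N` (odd characteristic) -/
theorem invol_conj_monomial [Fintype F] (D : ChevalleyDatum) (hD : D ∈ Seven)
    (hodd : Odd (Fintype.card F)) (t : GL D.Idx F) (ht : t ∈ D.group F) (ht2 : t * t = 1) :
    ∃ g ∈ D.group F, ∃ n ∈ D.monomialSubgroup F, n * n = 1 ∧ g * t * g⁻¹ = n := by
  obtain ⟨g, hg, n, hn, h1, h2, -⟩ := invol_conj_monomial_cell D hD hodd t ht ht2
  exact ⟨g, hg, n, hn, h1, h2⟩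

end Cfsg.Agent.Lib.Helper1.InvolN
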