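import Mathlib
import Cfsg.Agent.Lib.Helper5.TwAutDefs
import Cfsg.Agent.Lib.Helper1.AutGen

set_option autoImplicit false

/-!
TWISTED-OUT farm, unit A1g: some inner twist of an automorphism preserves a Sylow subgroup.
-/

namespace Cfsg.Agent.Lib.Helper1.TwAut

open Cfsg.Agent.Lib.Helper5.TwAut

variable {Γ : Type*} [Group Γ]

theorem mapsT_of_autGen {G1 : Subgroup Γ} {θ : ↥G1 ≃* ↥G1} {K₁ K₂ : Subgroup Γ}
    (h : Cfsg.Agent.Lib.Helper1.AutGen.MapsT G1 θ K₁ K₂) : MapsT G1 θ K₁ K₂ := h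

theorem autGen_of_mapsT {G1 : Subgroup Γ} {θ : ↥G1 ≃* ↥G1} {K₁ K₂ : Subgroup Γ}
    (h : MapsT G1 θ K₁ K₂) : Cfsg.Agent.Lib.Helper1.AutGen.MapsT G1 θ K₁ K₂ := h

/-- A1g : Sylow. -/
theorem exists_conj_mapsT_of_sylow (G1 : Subgroup Γ) [Finite ↥G1] (P : Subgroup Γ) (p : ℕ)
    (hp : p.Prime) (hP : ∃ a, Nat.card ↥(P ⊓ G1) = p ^ a)
    (hidx : ¬ p ∣ (Nat.card ↥G1 / Nat.card ↥(P ⊓ G1))) (θ : ↥G1 ≃* ↥G1) :
    ∃ x : ↥G1, MapsT G1 (θ.trans (MulAut.conj x)) P P := by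
  classical
  have : Fact p.Prime := ⟨hp⟩
  obtain ⟨a, ha⟩ := hP
  have hcard : Nat.card ↥(P.subgroupOf G1) = Nat.card ↥(P ⊓ G1) := by
    rw [← Subgroup.inf_subgroupOf_right P G1]
    exact Nat.card_congr (Subgroup.subgroupOfEquivOfLe (inf_le_right : P ⊓ G1 ≤ G1)).toEquiv
  have hdvd : Nat.card ↥(P.subgroupOf G1) ∣ Nat.card ↥G1 := Subgroup.card_subgroup_dvd_card _
  rw [hcard, ha] at hdvd
  rw [ha] at hidx
  have hG0 : Nat.card ↥G1 ≠ 0 := Nat.card_pos.ne'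
  have hfac : (Nat.card ↥G1).factorization p = a := by
    obtain ⟨c, hc⟩ := hdvd
    have hc0 : c ≠ 0 := by
      rintro rfl
      rw [mul_zero] at hc
      exact hG0 hc
    have hpc : ¬ p ∣ c := by
      rw [hc, Nat.mul_div_cancel_left _ (pow_pos hp.pos a)] at hidx
      exact hidx
    rw [hc, Nat.factorization_mul (pow_ne_zero _ hp.ne_zero) hc0]
    simp [hp.factorization_pow, Nat.factorization_eq_zero_of_not_dvd hpc]
  have hcardP : Nat.card ↥(P.subgroupOf G1) = p ^ (Nat.card ↥G1).factorization p := by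
    rw [hcard, ha, hfac]
  let S : Sylow p ↥G1 := Sylow.ofCard (P.subgroupOf G1) hcardP
  exact Cfsg.Agent.Lib.Helper1.AutGen.exists_conj_mapsT_of_sylow G1 p P S rfl θ

end Cfsg.Agent.Lib.Helper1.TwAut
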