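import Mathlib
import Cfsg.Agent.Lib.Helper5.TwAutDefs2
import Cfsg.Agent.Lib.Helper1.AutGen
import Cfsg.Agent.Lib.Helper1.AutGlue
import Cfsg.Agent.Lib.Helper1.TwAutA1g
import Cfsg.Agent.Lib.Helper5.ChevTwistCell

set_option autoImplicit false
set_option linter.unusedVariables false
set_option linter.unusedSectionVars false

/-!
TWISTED-OUT farm, units A1 and A4 (A4 with A3 as a hypothesis: `exists_conj_mapsT_pos_neg_of`).
-/

namespace Cfsg.Agent.Lib.Helper1.TwAut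

open Cfsg Cfsg.Lie Cfsg.Agent.Lib.Helper5.ChevStruct Cfsg.Agent.Lib.Helper5.ChevSym
open Cfsg.Agent.Lib.Helper5.TwAut Cfsg.Agent.Lib.Helper5.RankOneHom

variable {K : Type*} [Field K] [Fintype K] (D : ChevalleyDatum) (hD : D ∈ Seven) (G : GraphData)
  (hp : checkGraphPerm D G = true) (f : K →+* K) (rho : Equiv.Perm (Fin D.rank))
  (orbs : List (List ℕ)) (G1 : Subgroup (GL D.Idx K)) (m : ℕ)
  (hyp : TwAutHyp D hD G hp f rho orbs G1 m)

include hyp in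
/-- A1 (instance of A1g with hyp.hsyl) -/
theorem exists_conj_mapsT_pos (θ : ↥G1 ≃* ↥G1) :
    ∃ x : ↥G1, MapsT G1 (θ.trans (MulAut.conj x)) (D.posUnipotent K) (D.posUnipotent K) := by
  classical
  obtain ⟨p, hp', -, hP, hidx⟩ := hyp.hsyl
  have : Finite ↥G1 := inferInstance
  exact exists_conj_mapsT_of_sylow G1 (D.posUnipotent K) p hp' hP hidx θ

/-- `MapsT` only sees the traces on `G1` -/
theorem mapsT_inf_iff {Γ : Type*} [Group Γ] (G1 : Subgroup Γ) (θ : ↥G1 ≃* ↥G1)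
    (K₁ K₂ : Subgroup Γ) : MapsT G1 θ (K₁ ⊓ G1) (K₂ ⊓ G1) ↔ MapsT G1 θ K₁ K₂ := by
  constructor
  · intro h g
    have := h g
    rw [Subgroup.mem_inf, Subgroup.mem_inf] at this
    exact ⟨fun h1 => (this.1 ⟨h1, (θ g).2⟩).1, fun h1 => (this.2 ⟨h1, g.2⟩).1⟩
  · intro h g
    rw [Subgroup.mem_inf, Subgroup.mem_inf]
    exact ⟨fun h1 => ⟨(h g).1 h1.1, g.2⟩, fun h1 => ⟨(h g).2 h1.1, (θ g).2⟩⟩

/-- conjugation by an element of `G1` commutes with taking the trace on `G1` -/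
theorem map_conj_inf {Γ : Type*} [Group Γ] (G1 P : Subgroup Γ) (n : Γ) (hn : n ∈ G1) :
    (P ⊓ G1).map (MulAut.conj n).toMonoidHom = P.map (MulAut.conj n).toMonoidHom ⊓ G1 := by
  ext y
  rw [Cfsg.Agent.Lib.Helper1.AutGen.mem_map_conj_iff, Subgroup.mem_inf, Subgroup.mem_inf,
    Cfsg.Agent.Lib.Helper1.AutGen.mem_map_conj_iff]
  constructor
  · rintro ⟨h1, h2⟩
    refine ⟨h1, ?_⟩
    have := G1.mul_mem (G1.mul_mem hn h2) (G1.inv_mem hn)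
    have e : n * (n⁻¹ * y * n) * n⁻¹ = y := by group
    rwa [e] at this
  · rintro ⟨h1, h2⟩
    exact ⟨h1, G1.mul_mem (G1.mul_mem (G1.inv_mem hn) h2) hn⟩

include hyp in
/-- A4 (with A3 as a hypothesis) : some inner twist of `θ` preserves both `U ∩ G1` and `V ∩ G1` -/
theorem exists_conj_mapsT_pos_neg_of
    (hA3 : ∀ (Js : List (List ℕ)) (hJs : ∀ J ∈ Js, J ∈ orbs)
      (hw : checkW0 D Js.flatten = true) (g : GL D.Idx K) (hg : g ∈ G1)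
      (hdisj : ∀ u ∈ D.posUnipotent K ⊓ G1, g * u * g⁻¹ ∈ D.posUnipotent K → u = 1),
      ∃ u ∈ D.posUnipotent K ⊓ G1, ∃ b ∈ D.borelSubgroup K ⊓ G1,
        g = u * wGL D hD Js.flatten * b)
    (θ : ↥G1 ≃* ↥G1) :
    ∃ x : ↥G1,
      MapsT G1 (θ.trans (MulAut.conj x)) (D.posUnipotent K) (D.posUnipotent K) ∧
      MapsT G1 (θ.trans (MulAut.conj x)) (D.negUnipotent K) (D.negUnipotent K) := by
  obtain ⟨Js, hJs, hw⟩ := hyp.hw0
  obtain ⟨hwd, hV⟩ := conj_pos_eq_neg' (K := K) D hD Js.flatten hw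
  have hn₀ : wGL D hD Js.flatten ∈ G1 := wGL_flatten_mem D hD orbs G1 hyp.bn.hn Js hJs
  obtain ⟨x₁, hx₁⟩ := exists_conj_mapsT_pos D hD G hp f rho orbs G1 m hyp θ
  have hA1 : ∃ x : ↥G1, Cfsg.Agent.Lib.Helper1.AutGen.MapsT G1 (θ.trans (MulAut.conj x))
      (D.posUnipotent K ⊓ G1) (D.posUnipotent K ⊓ G1) :=
    ⟨x₁, (mapsT_inf_iff G1 _ _ _).2 hx₁⟩
  have hV' : (D.posUnipotent K ⊓ G1).map (MulAut.conj (wGL D hD Js.flatten)).toMonoidHom
      = D.negUnipotent K ⊓ G1 := by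
    rw [map_conj_inf G1 _ _ hn₀, hV]
  have hBU : D.borelSubgroup K ⊓ G1 ≤
      Subgroup.normalizer ((D.posUnipotent K ⊓ G1 : Subgroup (GL D.Idx K)) : Set (GL D.Idx K)) := by
    rintro b ⟨hb1, hb2⟩
    have hbn := Cfsg.Agent.Lib.Helper1.ChevAut.borel_le_normalizer_pos' D hD hb1
    rw [Subgroup.mem_normalizer_iff]
    intro u
    rw [Subgroup.mem_inf, Subgroup.mem_inf, ← (Subgroup.mem_normalizer_iff.1 hbn) u]
    constructor
    · rintro ⟨h1, h2⟩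
      exact ⟨h1, G1.mul_mem (G1.mul_mem hb2 h2) (G1.inv_mem hb2)⟩
    · rintro ⟨h1, h2⟩
      refine ⟨h1, ?_⟩
      have := G1.mul_mem (G1.mul_mem (G1.inv_mem hb2) h2) hb2
      have e : b⁻¹ * (b * u * b⁻¹) * b = u := by group
      rwa [e] at this
  have hUV : ∀ g, g ∈ D.posUnipotent K ⊓ G1 → g ∈ D.negUnipotent K ⊓ G1 → g = 1 := by
    intro g hg1 hg2
    have : g ∈ D.borelSubgroup K ⊓ D.negUnipotent K := ⟨pos_le_borel D hg1.1, hg2.1⟩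
    rw [borel_inf_neg D hD] at this
    exact this
  have hA3' : ∀ g ∈ G1, (∀ u ∈ D.posUnipotent K ⊓ G1, g * u * g⁻¹ ∈ D.posUnipotent K ⊓ G1 → u = 1) →
      ∃ u ∈ D.posUnipotent K ⊓ G1, ∃ b ∈ D.borelSubgroup K ⊓ G1,
        g = u * wGL D hD Js.flatten * b := by
    intro g hg hdisj
    apply hA3 Js hJs hw g hg
    intro u hu hgu
    exact hdisj u hu ⟨hgu, G1.mul_mem (G1.mul_mem hg hu.2) (G1.inv_mem hg)⟩
  obtain ⟨x, h1, h2⟩ := Cfsg.Agent.Lib.Helper1.AutGen.exists_conj_mapsT_pos_neg_of G1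
    (D.posUnipotent K ⊓ G1) (D.negUnipotent K ⊓ G1) (D.borelSubgroup K ⊓ G1)
    (wGL D hD Js.flatten) inf_le_right hn₀ hV' hBU hUV θ hA1 hA3'
  exact ⟨x, (mapsT_inf_iff G1 _ _ _).1 h1, (mapsT_inf_iff G1 _ _ _).1 h2⟩

end Cfsg.Agent.Lib.Helper1.TwAut
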