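import Mathlib
import Cfsg.Agent.Lib.Helper5.TwAutDefs2
import Cfsg.Agent.Lib.Helper5.ChevTwistCell
import Cfsg.Agent.Lib.Helper5.ChevDiag
import Cfsg.Agent.Lib.Helper1.AutGen
import Cfsg.Agent.Lib.Helper1.AutB4

set_option autoImplicit false
set_option linter.unusedVariables false
set_option linter.unusedSectionVars false

/-!
TWISTED-OUT farm, unit A2b (with A2a `mem_borel_iff` as a hypothesis):
`H ∩ G1 = N_{G1}(U ∩ G1) ∩ N_{G1}(V ∩ G1)`.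
-/

namespace Cfsg.Agent.Lib.Helper1.TwAut

open Cfsg Cfsg.Lie Cfsg.Agent.Lib.Helper5.ChevStruct Cfsg.Agent.Lib.Helper5.ChevSym
open Cfsg.Agent.Lib.Helper5.TwAut Cfsg.Agent.Lib.Helper5.RankOneHom

/-- the conjugation condition is transported by an automorphism preserving `P` -/
theorem conj_cond_iff {Γ : Type*} [Group Γ] {G1 : Subgroup Γ} {θ : ↥G1 ≃* ↥G1} {P : Subgroup Γ}
    (hP : MapsT G1 θ P P) (g : ↥G1) :
    (∀ u ∈ P ⊓ G1, ((θ g : ↥G1) : Γ) * u * ((θ g : ↥G1) : Γ)⁻¹ ∈ P) ↔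
      (∀ u ∈ P ⊓ G1, (g : Γ) * u * (g : Γ)⁻¹ ∈ P) := by
  constructor
  · intro h u hu
    have h1 : ((θ ⟨u, hu.2⟩ : ↥G1) : Γ) ∈ P ⊓ G1 := ⟨(hP ⟨u, hu.2⟩).2 hu.1, (θ ⟨u, hu.2⟩).2⟩
    have h2 := h _ h1
    have e : ((θ g : ↥G1) : Γ) * ((θ ⟨u, hu.2⟩ : ↥G1) : Γ) * ((θ g : ↥G1) : Γ)⁻¹
        = ((θ (g * ⟨u, hu.2⟩ * g⁻¹) : ↥G1) : Γ) := by
      rw [map_mul, map_mul, map_inv]; rfl
    rw [e] at h2
    exact (hP _).1 h2
  · intro h u hu
    have h0 : ((θ (θ.symm ⟨u, hu.2⟩) : ↥G1) : Γ) = u := by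
      rw [MulEquiv.apply_symm_apply]
    have h1 : ((θ.symm ⟨u, hu.2⟩ : ↥G1) : Γ) ∈ P ⊓ G1 := by
      refine ⟨(hP _).1 ?_, (θ.symm ⟨u, hu.2⟩).2⟩
      rw [h0]; exact hu.1
    have h2 := h _ h1
    have h3 := (hP (g * θ.symm ⟨u, hu.2⟩ * g⁻¹)).2 h2
    have e : ((θ (g * θ.symm ⟨u, hu.2⟩ * g⁻¹) : ↥G1) : Γ)
        = ((θ g : ↥G1) : Γ) * u * ((θ g : ↥G1) : Γ)⁻¹ := by
      rw [map_mul, map_mul, map_inv, MulEquiv.apply_symm_apply]; rfl
    rw [e] at h3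
    exact h3

variable {K : Type*} [Field K] [Fintype K] (D : ChevalleyDatum) (hD : D ∈ Seven) (G : GraphData)
  (hp : checkGraphPerm D G = true) (f : K →+* K) (rho : Equiv.Perm (Fin D.rank))
  (orbs : List (List ℕ)) (G1 : Subgroup (GL D.Idx K)) (m : ℕ)
  (hyp : TwAutHyp D hD G hp f rho orbs G1 m)

include hyp in
/-- A2b (with A2a as a hypothesis) : `H ∩ G1 = N_{G1}(U ∩ G1) ∩ N_{G1}(V ∩ G1)` -/
theorem mem_diag_iff_of
    (hA2a : ∀ (g : GL D.Idx K), g ∈ G1 →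
      (g ∈ D.borelSubgroup K ↔ ∀ u ∈ D.posUnipotent K ⊓ G1, g * u * g⁻¹ ∈ D.posUnipotent K))
    (g : GL D.Idx K) (hg : g ∈ G1) :
    g ∈ D.diagonalSubgroup K ↔
      (∀ u ∈ D.posUnipotent K ⊓ G1, g * u * g⁻¹ ∈ D.posUnipotent K) ∧
      (∀ v ∈ D.negUnipotent K ⊓ G1, g * v * g⁻¹ ∈ D.negUnipotent K) := by
  constructor
  · intro hh
    refine ⟨fun u hu => ?_, fun v hv => ?_⟩
    · exact (Subgroup.mem_normalizer_iff.1 (diagonal_le_normalizer_pos D hD hh) u).1 hu.1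
    · exact (Subgroup.mem_normalizer_iff.1 (diagonal_le_normalizer_neg D hD hh) v).1 hv.1
  · rintro ⟨h1, h2⟩
    obtain ⟨Js, hJs, hw⟩ := hyp.hw0
    obtain ⟨hwd, hV₀⟩ := conj_pos_eq_neg' (K := K) D hD Js.flatten hw
    set n₀ : GL D.Idx K := wGL D hD Js.flatten with hn₀def
    have hn₀ : n₀ ∈ G1 := wGL_flatten_mem D hD orbs G1 hyp.bn.hn Js hJs
    have hn₀N : n₀ ∈ D.monomialSubgroup K := wGL_mem D hD Js.flatten hwd
    have hV₁ : (D.negUnipotent K).map (MulAut.conj n₀⁻¹).toMonoidHom = D.posUnipotent K := by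
      rw [← hV₀, Cfsg.Agent.Lib.Helper1.AutGen.map_conj_conj, inv_mul_cancel,
        Cfsg.Agent.Lib.Helper1.AutGen.map_conj_one]
    have hgB : g ∈ D.borelSubgroup K := (hA2a g hg).2 h1
    -- `g' = n₀⁻¹ g n₀ ∈ B`
    have hg'G : n₀⁻¹ * g * n₀ ∈ G1 := G1.mul_mem (G1.mul_mem (G1.inv_mem hn₀) hg) hn₀
    have hg'B : n₀⁻¹ * g * n₀ ∈ D.borelSubgroup K := by
      apply (hA2a _ hg'G).2
      intro u hu
      have hv : n₀ * u * n₀⁻¹ ∈ D.negUnipotent K ⊓ G1 := by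
        refine ⟨?_, G1.mul_mem (G1.mul_mem hn₀ hu.2) (G1.inv_mem hn₀)⟩
        rw [← hV₀]
        exact ⟨u, hu.1, by simp [MulAut.conj_apply]⟩
      have h3 := h2 _ hv
      have h4 : n₀⁻¹ * (g * (n₀ * u * n₀⁻¹) * g⁻¹) * n₀ ∈ D.posUnipotent K := by
        rw [← hV₁]
        exact ⟨_, h3, by simp [MulAut.conj_apply]⟩
      have e : n₀⁻¹ * g * n₀ * u * (n₀⁻¹ * g * n₀)⁻¹ = n₀⁻¹ * (g * (n₀ * u * n₀⁻¹) * g⁻¹) * n₀ := by
        group
      rw [e]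
      exact h4
    -- `g ∈ n₀ B n₀⁻¹ = V H`
    have hHn : (D.diagonalSubgroup K).map (MulAut.conj n₀).toMonoidHom = D.diagonalSubgroup K := by
      apply Cfsg.Agent.Lib.Helper1.AutGen.map_conj_of_mem_normalizer
      rw [Subgroup.mem_normalizer_iff]
      intro h
      constructor
      · intro hh
        exact (conj_monomial_diag_mem D hD _ hn₀N _ hh).1
      · intro hh
        have := (conj_monomial_diag_mem D hD _ hn₀N _ hh).2
        have e : n₀⁻¹ * (n₀ * h * n₀⁻¹) * n₀ = h := by group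
        rwa [e] at this
    have hgVH : g ∈ D.negUnipotent K ⊔ D.diagonalSubgroup K := by
      have h5 : g ∈ (D.borelSubgroup K).map (MulAut.conj n₀).toMonoidHom := by
        refine ⟨n₀⁻¹ * g * n₀, hg'B, ?_⟩
        simp only [MulEquiv.coe_toMonoidHom, MulAut.conj_apply]
        group
      unfold ChevalleyDatum.borelSubgroup at h5
      rw [Subgroup.map_sup, hV₀, hHn] at h5
      exact h5
    have : g ∈ D.borelSubgroup K ⊓ (D.negUnipotent K ⊔ D.diagonalSubgroup K) := ⟨hgB, hgVH⟩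
    rw [borel_inf_negBorel D hD] at this
    exact this

include hyp in
/-- A2b' (with A2a as a hypothesis) -/
theorem mapsT_diag_of
    (hA2a : ∀ (g : GL D.Idx K), g ∈ G1 →
      (g ∈ D.borelSubgroup K ↔ ∀ u ∈ D.posUnipotent K ⊓ G1, g * u * g⁻¹ ∈ D.posUnipotent K))
    (θ : ↥G1 ≃* ↥G1)
    (hU : MapsT G1 θ (D.posUnipotent K) (D.posUnipotent K))
    (hV : MapsT G1 θ (D.negUnipotent K) (D.negUnipotent K)) :
    MapsT G1 θ (D.diagonalSubgroup K) (D.diagonalSubgroup K) := fun g => by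
  rw [mem_diag_iff_of D hD G hp f rho orbs G1 m hyp hA2a _ (θ g).2,
    mem_diag_iff_of D hD G hp f rho orbs G1 m hyp hA2a _ g.2,
    conj_cond_iff hU g, conj_cond_iff hV g]

end Cfsg.Agent.Lib.Helper1.TwAut
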