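import Mathlib
import Cfsg.Agent.Lib.Helper5.TwAutDefs2
import Cfsg.Agent.Lib.Helper5.ChevTwistCell
import Cfsg.Agent.Lib.Helper5.ChevBruhat
import Cfsg.Agent.Lib.Helper1.AutGenB
import Cfsg.Agent.Lib.Helper1.AutB4

set_option autoImplicit false
set_option linter.unusedVariables false
set_option linter.unusedSectionVars false

/-!
TWISTED-OUT farm, unit B4: the positive node subgroups are fixed (`n₀`-trick).
-/

namespace Cfsg.Agent.Lib.Helper1.TwAut

open Cfsg Cfsg.Lie Cfsg.Agent.Lib.Helper5.ChevStruct Cfsg.Agent.Lib.Helper5.ChevSym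
open Cfsg.Agent.Lib.Helper5.TwAut Cfsg.Agent.Lib.Helper5.RankOneHom

section general

variable {K : Type*} [Field K] (D : ChevalleyDatum) (hD : D ∈ Seven)

/-- `n_w` maps `⟨X_r : r ∈ T⟩` into `⟨X_{w r} : r ∈ T⟩` -/
theorem map_conj_rootSetSub_le (w : List ℕ) (hw : ∀ i ∈ w, i < D.rank) (T T' : Set ℕ)
    (hT : ∀ r ∈ T, r < D.nroots ∧ wAct D w r ∈ T') :
    (rootSetSub D K T).map (MulAut.conj (wGL D hD w : GL D.Idx K)).toMonoidHom
      ≤ rootSetSub D K T' := by
  rw [Subgroup.map_le_iff_le_comap]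
  unfold rootSetSub
  rw [Subgroup.closure_le]
  rintro g ⟨s, t, hs, hg⟩
  obtain ⟨hsl, hs'⟩ := hT s hs
  obtain ⟨ε, -, hconj⟩ := wGL_conj (F := K) D hD w hw s hsl
  have h1 := hconj t g hg
  rw [SetLike.mem_coe, Subgroup.mem_comap]
  apply Subgroup.subset_closure
  refine ⟨wAct D w s, ε * t, hs', ?_⟩
  simpa [MulAut.conj_apply] using h1

include hD in
/-- the diagonal subgroup normalises `⟨X_r : r ∈ T⟩` -/
theorem diagonal_le_normalizer_rootSetSub (T : Set ℕ) :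
    D.diagonalSubgroup K ≤ Subgroup.normalizer (rootSetSub D K T : Set (GL D.Idx K)) := by
  intro h hh
  rw [Subgroup.mem_normalizer_iff]
  intro g
  constructor
  · exact diag_conj_mem_rootSetSub D hD T h hh g
  · intro hg
    have := diag_conj_mem_rootSetSub D hD T h⁻¹ (inv_mem hh) _ hg
    have e : h⁻¹ * (h * g * h⁻¹) * h⁻¹⁻¹ = g := by group
    rwa [e] at this

end general

variable {K : Type*} [Field K] [Fintype K] (D : ChevalleyDatum) (hD : D ∈ Seven) (G : GraphData)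
  (hp : checkGraphPerm D G = true) (f : K →+* K) (rho : Equiv.Perm (Fin D.rank))
  (orbs : List (List ℕ)) (G1 : Subgroup (GL D.Idx K)) (m : ℕ)
  (hyp : TwAutHyp D hD G hp f rho orbs G1 m)

include hyp in
/-- `n₀ X_{-J} n₀⁻¹ = X_J` -/
theorem map_conj_negJ (w : List ℕ) (hw : checkW0 D w = true) (hopp : OppOK D orbs w)
    (J : List ℕ) (hJ : J ∈ orbs) :
    (rootSetSub D K (negJ D J)).map (MulAut.conj (wGL D hD w : GL D.Idx K)).toMonoidHom
      = rootSetSub D K (posJ D J) := by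
  obtain ⟨hwd, -⟩ := conj_pos_eq_neg' (K := K) D hD w hw
  have hJwd := hyp.bn.hO.wd J hJ
  have ha : (rootSetSub D K (negJ D J)).map (MulAut.conj (wGL D hD w : GL D.Idx K)).toMonoidHom
      ≤ rootSetSub D K (posJ D J) := by
    apply map_conj_rootSetSub_le D hD w hwd
    rintro r ⟨i, hi, rfl⟩
    obtain ⟨i', hi', h⟩ := hopp J hJ i hi
    exact ⟨(neg_lt D hD _ (simple_lt D hD i (hJwd i hi))).1, i', hi', h⟩
  have hb : (rootSetSub D K (posJ D J)).map (MulAut.conj (wGL D hD w : GL D.Idx K)).toMonoidHom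
      ≤ rootSetSub D K (negJ D J) := by
    apply map_conj_rootSetSub_le D hD w hwd
    rintro r ⟨i, hi, rfl⟩
    obtain ⟨i', hi', h⟩ := hopp J hJ i hi
    have hsl := simple_lt D hD i (hJwd i hi)
    refine ⟨hsl, i', hi', ?_⟩
    rw [wAct_neg D hD w hwd _ hsl] at h
    have hlt : wAct D w (D.simple i) < D.nroots := wAct_lt D hD w hwd _ hsl
    rw [← h, (neg_lt D hD _ hlt).2.2]
  apply le_antisymm ha
  have hsq := Cfsg.Agent.Lib.Helper1.ChevAut.w0_sq_mem_diagonal (F := K) D hD w hw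
  have h1 := Subgroup.map_mono (f := (MulAut.conj (wGL D hD w : GL D.Idx K)).toMonoidHom) hb
  rw [Cfsg.Agent.Lib.Helper1.AutGen.map_conj_conj,
    Cfsg.Agent.Lib.Helper1.AutGen.map_conj_of_mem_normalizer _ _
      (diagonal_le_normalizer_rootSetSub D hD _ hsq)] at h1
  exact h1

include hyp in
/-- B4 : the positive node subgroups are fixed (`n₀`-trick) -/
theorem mapsT_pos_node (Js : List (List ℕ)) (hJs : ∀ J ∈ Js, J ∈ orbs)
    (hw : checkW0 D Js.flatten = true) (hopp : OppOK D orbs Js.flatten)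
    (hneg : ∀ θ' : ↥G1 ≃* ↥G1, MapsT G1 θ' (D.posUnipotent K) (D.posUnipotent K) →
      MapsT G1 θ' (D.negUnipotent K) (D.negUnipotent K) → ∀ J ∈ orbs,
      MapsT G1 θ' (rootSetSub D K (negJ D J)) (rootSetSub D K (negJ D J)))
    (θ : ↥G1 ≃* ↥G1)
    (hU : MapsT G1 θ (D.posUnipotent K) (D.posUnipotent K))
    (hV : MapsT G1 θ (D.negUnipotent K) (D.negUnipotent K)) (J : List ℕ) (hJ : J ∈ orbs) :
    MapsT G1 θ (rootSetSub D K (posJ D J)) (rootSetSub D K (posJ D J)) := by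
  obtain ⟨hwd, hV₀⟩ := conj_pos_eq_neg' (K := K) D hD Js.flatten hw
  have hn₀ : wGL D hD Js.flatten ∈ G1 := wGL_flatten_mem D hD orbs G1 hyp.bn.hn Js hJs
  have hsq := Cfsg.Agent.Lib.Helper1.ChevAut.w0_sq_mem_diagonal (F := K) D hD Js.flatten hw
  have hU₀ : (D.negUnipotent K).map (MulAut.conj (wGL D hD Js.flatten : GL D.Idx K)).toMonoidHom
      = D.posUnipotent K := by
    rw [← hV₀, Cfsg.Agent.Lib.Helper1.AutGen.map_conj_conj]
    exact Cfsg.Agent.Lib.Helper1.AutGen.map_conj_of_mem_normalizer _ _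
      (diagonal_le_normalizer_pos D hD hsq)
  obtain ⟨ρ, hρ⟩ := Cfsg.Agent.Lib.Helper1.AutGen.exists_perm_mapsT_pos_of (ι := Unit) G1
    (D.posUnipotent K) (D.negUnipotent K) (wGL D hD Js.flatten) hn₀ hV₀ hU₀
    (fun _ => rootSetSub D K (negJ D J)) (fun _ => rootSetSub D K (posJ D J)) (Equiv.refl Unit)
    (fun _ => map_conj_negJ D hD G hp f rho orbs G1 m hyp Js.flatten hw hopp J hJ)
    (fun θ' h1 h2 => ⟨Equiv.refl Unit, fun _ => hneg θ' h1 h2 J hJ⟩) θ hU hV
  exact hρ ()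

end Cfsg.Agent.Lib.Helper1.TwAut
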