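import Mathlib
import Cfsg.Agent.Lib.Helper5.TwAutDefs
import Cfsg.Agent.Lib.Helper8.ChevPsi2
import Cfsg.Agent.Lib.Helper1.AutW0
import Cfsg.Agent.Lib.Helper5.ChevTwistCore

set_option autoImplicit false
set_option linter.unusedSectionVars false
set_option linter.unusedVariables false

/-!
TWISTED-OUT farm, unit T1: the twisted root elements (basic calculus).
-/

namespace Cfsg.Agent.Lib.Helper1.TwAut

open Cfsg Cfsg.Lie Cfsg.Agent.Lib.Helper5.ChevStruct Cfsg.Agent.Lib.Helper5.ChevSym
open Cfsg.Agent.Lib.Helper5.TwAut Cfsg.Agent.Lib.Helper5.RankOneHom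
open Cfsg.Agent.Lib.Helper8.ChevPsi

variable {K : Type*} [Field K]

/-- `sT` at the `k`-th entry of a duplicate-free list -/
theorem sT_getD (f : K →+* K) (J : List ℕ) (hnd : J.Nodup) (t : K) (k : ℕ) (hk : k < J.length) :
    sT f J t (J.getD k 0) = (f ^ k) t := by
  unfold sT
  rw [List.getD_eq_getElem _ _ hk, hnd.idxOf_getElem]

theorem sT_add (f : K →+* K) (J : List ℕ) (a b : K) (i : ℕ) :
    sT f J (a + b) i = sT f J a i + sT f J b i := by
  unfold sT
  rw [map_add]

theorem sT_zero (f : K →+* K) (J : List ℕ) (i : ℕ) : sT f J 0 i = 0 := by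
  unfold sT
  rw [map_zero]

theorem sT_head (f : K →+* K) (i : ℕ) (J : List ℕ) (t : K) : sT f (i :: J) t i = t := by
  unfold sT
  rw [List.idxOf_cons_self]
  simp

/-- the `ρ`-compatibility of the parameters of a twisted root element -/
theorem sT_compat (f : K →+* K) (J : List ℕ) (hnd : J.Nodup) (ρN : ℕ → ℕ)
    (hcyc : ∀ j < J.length, ρN (J.getD j 0) = J.getD ((j + 1) % J.length) 0)
    (t : K) (ht : InK f J t) : ∀ i ∈ J, sT f J t (ρN i) = f (sT f J t i) := by
  intro i hi
  have hj : J.idxOf i < J.length := List.idxOf_lt_length_iff.2 hi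
  set j := J.idxOf i with hjdef
  have hij : J.getD j 0 = i := by
    rw [List.getD_eq_getElem _ _ hj]
    exact List.getElem_idxOf hj
  have h1 := hcyc j hj
  rw [hij] at h1
  have hlen : 0 < J.length := lt_of_le_of_lt (Nat.zero_le _) hj
  have hk : (j + 1) % J.length < J.length := Nat.mod_lt _ hlen
  rw [h1, sT_getD f J hnd t _ hk]
  have h2 : sT f J t i = (f ^ j) t := by
    rw [← hij, sT_getD f J hnd t j hj]
  rw [h2]
  have h3 : f ((f ^ j) t) = (f ^ (j + 1)) t := by
    rw [pow_succ']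
    rfl
  rw [h3]
  by_cases hlt : j + 1 < J.length
  · rw [Nat.mod_eq_of_lt hlt]
  · have he : j + 1 = J.length := by omega
    rw [he, Nat.mod_self]
    unfold InK at ht
    rw [ht]
    simp

/-! ### Injectivity of the parameter -/

section inj

variable {K : Type*} [Field K] (D : ChevalleyDatum) (hD : D ∈ Seven)

/-- a word in fundamental root elements lies in `U` -/
theorem posWord_mem (L : List ℕ) (e : ℕ → ℕ) (he : ∀ j ∈ L, e j < D.rank) (u : ℕ → K) :
    wordGL D hD (L.map fun j => (D.simple (e j), u j)) ∈ D.posUnipotent K := by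
  unfold wordGL
  apply Subgroup.list_prod_mem
  intro g hg
  rw [List.mem_map] at hg
  obtain ⟨q, hq, rfl⟩ := hg
  rw [List.mem_map] at hq
  obtain ⟨j, hj, rfl⟩ := hq
  exact xGL_mem_posUnipotent D hD _ (simple_isPosRoot D hD _ (he j hj)) _

/-- the coefficient at the fundamental root `p_i` of a word in fundamental root elements -/
theorem coefEntry_posWord (i : ℕ) (hi : i < D.rank) (L : List ℕ) (e : ℕ → ℕ)
    (he : ∀ j ∈ L, e j < D.rank) (u : ℕ → K) :
    coefEntry D hD i hi (wordGL D hD (L.map fun j => (D.simple (e j), u j)))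
      = (L.map fun j => if e j = i then u j else 0).sum := by
  induction L with
  | nil =>
    have : wordGL D hD (([] : List ℕ).map fun j => (D.simple (e j), u j)) = (1 : GL D.Idx K) := by
      simp [wordGL]
    rw [this, coefEntry_one]
    simp
  | cons j L ih =>
    have he' : ∀ k ∈ L, e k < D.rank := fun k hk => he k (List.mem_cons_of_mem _ hk)
    have hj : e j < D.rank := he j (List.mem_cons_self ..)
    rw [List.map_cons, wordGL_cons', List.map_cons, List.sum_cons,
      coefEntry_mul D hD i hi _ _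
        (xGL_mem_posUnipotent D hD _ (simple_isPosRoot D hD _ hj) _)
        (posWord_mem D hD L e he' u),
      ih he', coefEntry_xGL D hD i hi _ (simple_isPosRoot D hD _ hj)]
    congr 1
    by_cases h : e j = i
    · rw [if_pos h, if_pos (by rw [h])]
    · rw [if_neg h, if_neg]
      intro h'
      exact h (simple_injective D hD i (e j) hi hj h')

/-- conjugation of a word by `n_w` -/
theorem wGL_conj_word (w : List ℕ) (hw : ∀ i ∈ w, i < D.rank) (L : List ℕ) (r : ℕ → ℕ)
    (hr : ∀ j ∈ L, r j < D.nroots) :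
    ∃ ε : ℕ → K, (∀ j, ε j = 1 ∨ ε j = -1) ∧ ∀ u : ℕ → K,
      wGL D hD w * wordGL D hD (L.map fun j => (r j, u j)) * (wGL D hD w)⁻¹
        = wordGL D hD (L.map fun j => (wAct D w (r j), ε j * u j)) := by
  classical
  have hex : ∀ j : ℕ, ∃ ε : K, (ε = 1 ∨ ε = -1) ∧ (j ∈ L → ∀ (t : K),
      wGL D hD w * xGL D hD (r j) t * (wGL D hD w)⁻¹ = xGL D hD (wAct D w (r j)) (ε * t)) := by
    intro j
    by_cases hj : j ∈ L
    · obtain ⟨ε, hε, h⟩ := wGL_conj (F := K) D hD w hw (r j) (hr j hj)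
      refine ⟨ε, hε, fun _ t => ?_⟩
      apply Units.ext
      rw [h t (xGL D hD (r j) t) (xGL_val D hD _ _), xGL_val]
    · exact ⟨1, Or.inl rfl, fun h => absurd h hj⟩
  choose ε hε hconj using hex
  refine ⟨ε, hε, fun u => ?_⟩
  have key : ∀ L' : List ℕ, (∀ j ∈ L', j ∈ L) →
      wGL D hD w * wordGL D hD (L'.map fun j => (r j, u j)) * (wGL D hD w)⁻¹
        = wordGL D hD (L'.map fun j => (wAct D w (r j), ε j * u j)) := by
    intro L' hL'
    induction L' with
    | nil => simp [wordGL]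
    | cons j L' ih =>
      have hj : j ∈ L := hL' j (List.mem_cons_self ..)
      have ih' := ih (fun k hk => hL' k (List.mem_cons_of_mem _ hk))
      rw [List.map_cons, List.map_cons, wordGL_cons', wordGL_cons']
      simp only
      rw [← hconj j hj (u j), ← ih']
      group
  exact key L (fun j hj => hj)

end inj

variable [Fintype K] (D : ChevalleyDatum) (hD : D ∈ Seven) (G : GraphData)
  (hp : checkGraphPerm D G = true) (f : K →+* K) (rho : Equiv.Perm (Fin D.rank))
  (orbs : List (List ℕ)) (G1 : Subgroup (GL D.Idx K)) (m : ℕ)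
  (hyp : TwAutHyp D hD G hp f rho orbs G1 m)

include hyp in
/-- T1a -/
theorem xT_mem (J : List ℕ) (hJ : J ∈ orbs) (t : K) (ht : InK f J t) : xT D hD f J t ∈ G1 :=
  (hyp.hgen J hJ (sT f J t)
    (sT_compat f J (hyp.bn.hO.nodup J hJ) _ (hyp.hcyc J hJ) t ht)).1

include hyp in
/-- T1b -/
theorem yT_mem (J : List ℕ) (hJ : J ∈ orbs) (t : K) (ht : InK f J t) : yT D hD f J t ∈ G1 :=
  (hyp.hgen J hJ (sT f J t)
    (sT_compat f J (hyp.bn.hO.nodup J hJ) _ (hyp.hcyc J hJ) t ht)).2

include hyp in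
/-- T1c -/
theorem xT_add (J : List ℕ) (hJ : J ∈ orbs) (a b : K) :
    xT D hD f J (a + b) = xT D hD f J a * xT D hD f J b := by
  unfold xT
  have hpw := (pairwise_of_checkOrth D J (hyp.horth J hJ) (hyp.bn.hO.nodup J hJ)).1
  rw [← word_add D hD J (fun i => D.simple i) hpw (sT f J a) (sT f J b)]
  congr 1
  apply List.map_congr_left
  intro i _
  rw [sT_add]

include hyp in
/-- T1d -/
theorem yT_add (J : List ℕ) (hJ : J ∈ orbs) (a b : K) :
    yT D hD f J (a + b) = yT D hD f J a * yT D hD f J b := by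
  unfold yT
  have hpw := (pairwise_of_checkOrth D J (hyp.horth J hJ) (hyp.bn.hO.nodup J hJ)).2
  rw [← word_add D hD J (fun i => D.neg (D.simple i)) hpw (sT f J a) (sT f J b)]
  congr 1
  apply List.map_congr_left
  intro i _
  rw [sT_add]

/-- T1g -/
theorem xT_mem_rootSetSub (J : List ℕ) (t : K) :
    xT D hD f J t ∈ rootSetSub D K (posJ D J) := by
  unfold xT
  apply wordGL_mem_rootSetSub
  intro q hq
  rw [List.mem_map] at hq
  obtain ⟨i, hi, rfl⟩ := hq
  exact ⟨i, hi, rfl⟩

/-- T1h -/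
theorem yT_mem_rootSetSub (J : List ℕ) (t : K) :
    yT D hD f J t ∈ rootSetSub D K (negJ D J) := by
  unfold yT
  apply wordGL_mem_rootSetSub
  intro q hq
  rw [List.mem_map] at hq
  obtain ⟨i, hi, rfl⟩ := hq
  exact ⟨i, hi, rfl⟩

include hyp in
/-- T1i : `InK` is a subfield condition -/
theorem inK_props (J : List ℕ) (hJ : J ∈ orbs) :
    InK f J 0 ∧ InK f J 1 ∧ (∀ a b, InK f J a → InK f J b → InK f J (a + b) ∧ InK f J (a * b)) ∧
      (∀ a, InK f J a → InK f J (-a) ∧ InK f J a⁻¹) ∧
      (J.length = m → ∀ a, InK f J a) := by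
  unfold InK
  refine ⟨map_zero _, map_one _, ?_, ?_, ?_⟩
  · intro a b ha hb
    exact ⟨by rw [map_add, ha, hb], by rw [map_mul, ha, hb]⟩
  · intro a ha
    exact ⟨by rw [map_neg, ha], by rw [map_inv₀, ha]⟩
  · intro hm a
    rw [hm]
    exact hyp.hfm a


include hyp in
/-- T1e : the parameter is determined (unique factorisation in `U`) -/
theorem xT_injective (J : List ℕ) (hJ : J ∈ orbs) (a b : K)
    (h : xT D hD f J a = xT D hD f J b) : a = b := by
  have hwd := hyp.bn.hO.wd J hJ
  have hnd := hyp.bn.hO.nodup J hJ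
  have hne := hyp.hne J hJ
  obtain ⟨i₀, J', rfl⟩ := List.exists_cons_of_ne_nil hne
  have hi₀ : i₀ < D.rank := hwd i₀ (List.mem_cons_self ..)
  have hkey : ∀ t : K, coefEntry D hD i₀ hi₀ (xT D hD f (i₀ :: J') t) = t := by
    intro t
    unfold xT
    rw [coefEntry_posWord D hD i₀ hi₀ (i₀ :: J') (fun j => j) hwd (sT f (i₀ :: J') t),
      List.map_cons, List.sum_cons, if_pos rfl, sT_head]
    have : (J'.map fun j => if j = i₀ then sT f (i₀ :: J') t j else 0).sum = 0 := by
      apply List.sum_eq_zero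
      intro x hx
      rw [List.mem_map] at hx
      obtain ⟨j, hj, rfl⟩ := hx
      rw [if_neg]
      rintro rfl
      exact (List.nodup_cons.1 hnd).1 hj
    rw [this, add_zero]
  rw [← hkey a, ← hkey b, h]

include hyp in
/-- T1f -/
theorem yT_injective (J : List ℕ) (hJ : J ∈ orbs) (a b : K)
    (h : yT D hD f J a = yT D hD f J b) : a = b := by
  have hwd := hyp.bn.hO.wd J hJ
  have hnd := hyp.bn.hO.nodup J hJ
  have hne := hyp.hne J hJ
  obtain ⟨w, hw, hws, hwi⟩ := Cfsg.Agent.Lib.Helper1.ChevAut.exists_w0_simple D hD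
  have hwdw : ∀ i ∈ w, i < D.rank := (conj_pos_eq_neg' (K := K) D hD w hw).1
  have hnl : ∀ j ∈ J, D.neg (D.simple j) < D.nroots := fun j hj =>
    (neg_lt D hD _ (simple_lt D hD j (hwd j hj))).1
  obtain ⟨ε, hε, hconj⟩ := wGL_conj_word (K := K) D hD w hwdw J
    (fun j => D.neg (D.simple j)) hnl
  -- the opposition map on the indices
  have hex : ∀ k : ℕ, ∃ k' : ℕ, k' < D.rank ∧
      (k < D.rank → wAct D w (D.neg (D.simple k)) = D.simple k') := by
    intro k
    by_cases hk : k < D.rank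
    · obtain ⟨k', hk', h⟩ := Cfsg.Agent.Lib.Helper1.ChevAut.checkW0Simple_spec D w hws k hk
      exact ⟨k', hk', fun _ => h⟩
    · obtain ⟨i₀, J', rfl⟩ := List.exists_cons_of_ne_nil hne
      exact ⟨i₀, hwd i₀ (List.mem_cons_self ..), fun h => absurd h hk⟩
  choose e he1 he2 using hex
  have hform : ∀ t : K, wGL D hD w * yT D hD f J t * (wGL D hD w)⁻¹
      = wordGL D hD (J.map fun j => (D.simple (e j), ε j * sT f J t j)) := by
    intro t
    unfold yT
    rw [hconj (sT f J t)]
    congr 1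
    apply List.map_congr_left
    intro j hj
    rw [he2 j (hwd j hj)]
  obtain ⟨i₀, J', rfl⟩ := List.exists_cons_of_ne_nil hne
  have hi₀ : i₀ < D.rank := hwd i₀ (List.mem_cons_self ..)
  have hkey : ∀ t : K, coefEntry D hD (e i₀) (he1 i₀)
      (wGL D hD w * yT D hD f (i₀ :: J') t * (wGL D hD w)⁻¹) = ε i₀ * t := by
    intro t
    rw [hform t, coefEntry_posWord D hD (e i₀) (he1 i₀) (i₀ :: J') e (fun j _ => he1 j)
      (fun j => ε j * sT f (i₀ :: J') t j),
      List.map_cons, List.sum_cons, if_pos rfl, sT_head]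
    have : (J'.map fun j => if e j = e i₀ then ε j * sT f (i₀ :: J') t j else 0).sum = 0 := by
      apply List.sum_eq_zero
      intro x hx
      rw [List.mem_map] at hx
      obtain ⟨j, hj, rfl⟩ := hx
      rw [if_neg]
      intro hej
      have hjr : j < D.rank := hwd j (List.mem_cons_of_mem _ hj)
      have hne' : j ≠ i₀ := by
        rintro rfl
        exact (List.nodup_cons.1 hnd).1 hj
      have h1 := (Cfsg.Agent.Lib.Helper1.ChevAut.checkW0Inj_spec D w hwi j i₀ hjr hi₀ hne').1
      rw [he2 j hjr, he2 i₀ hi₀, hej] at h1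
      exact h1 rfl
    rw [this, add_zero]
  have h2 : ε i₀ * a = ε i₀ * b := by
    rw [← hkey a, ← hkey b, h]
  have hε0 : ε i₀ ≠ 0 := by
    rcases hε i₀ with h1 | h1 <;> rw [h1] <;> simp
  exact mul_left_cancel₀ hε0 h2

end Cfsg.Agent.Lib.Helper1.TwAut
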