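import Mathlib

/-! Feit--Thompson--Blichfeldt reduction (S0899), part A: group theory of a minimal
counterexample (abelian Sylow subgroups, proper subgroups have normal Sylow subgroups). -/

set_option autoImplicit false
set_option maxHeartbeats 4000000
set_option maxRecDepth 100000
set_option linter.unusedVariables false
set_option linter.unusedSectionVars false
set_option linter.style.longLine false
set_option linter.unusedSimpArgs false
set_option linter.deprecated false
set_option linter.style.haveILetI false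

namespace Cfsg.Agent.Lib.Helper1.Ftb

/-- `K` has a normal Sylow `p`-subgroup (formulated inside the ambient group). -/
def HasNSin (p : ℕ) {G : Type*} [Group G] (K : Subgroup G) : Prop :=
  ∃ S : Subgroup G, S ≤ K ∧ IsPGroup p S ∧ K ≤ Subgroup.normalizer (S : Set G) ∧
    ¬ p ∣ S.relIndex K

section basic
variable {G : Type*} [Group G] [Finite G] {p : ℕ} [hp : Fact p.Prime]

theorem hasNSin_comap (H : Subgroup G) (K : Subgroup H)
    (h : HasNSin p (K.map H.subtype)) : HasNSin p K := by
  obtain ⟨S, hSK, hSp, hSn, hSi⟩ := h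
  refine ⟨S.comap H.subtype, ?_, ?_, ?_, ?_⟩
  · intro x hx
    have h1 : (x : G) ∈ K.map H.subtype := hSK hx
    obtain ⟨y, hy, hyx⟩ := h1
    have h2 : y = x := Subtype.ext hyx
    exact h2 ▸ hy
  · exact hSp.comap_of_injective H.subtype H.subtype_injective
  · intro k hk
    have hk' : (k : G) ∈ Subgroup.normalizer (S : Set G) :=
      hSn (Subgroup.mem_map_of_mem _ hk)
    rw [Subgroup.mem_normalizer_iff] at hk' ⊢
    intro x
    have := hk' (x : G)
    show ((x : G) ∈ S) ↔ (((k * x * k⁻¹ : H) : G) ∈ S)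
    simpa using this
  · rwa [Subgroup.relIndex_comap]

theorem hasNSin_of_sylow_normal (K : Subgroup G)
    (h : ∀ Q : Sylow p K, (Q : Subgroup K).Normal) : HasNSin p K := by
  obtain ⟨Q⟩ := (Sylow.nonempty : Nonempty (Sylow p K))
  have hQn := h Q
  refine ⟨(Q : Subgroup K).map K.subtype, Subgroup.map_subtype_le _, Q.isPGroup'.map _, ?_, ?_⟩
  · have h1 := Subgroup.le_normalizer_map (H := (Q : Subgroup K)) K.subtype
    rw [Subgroup.normalizer_eq_top_iff.2 hQn] at h1
    have h2 : (⊤ : Subgroup K).map K.subtype = K := by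
      rw [← MonoidHom.range_eq_map]
      exact Subgroup.range_subtype K
    rw [h2] at h1
    exact h1
  · have h1 : ((Q : Subgroup K).map K.subtype).relIndex K = (Q : Subgroup K).index := by
      show (((Q : Subgroup K).map K.subtype).comap K.subtype).index = _
      rw [Subgroup.comap_map_eq_self_of_injective K.subtype_injective]
    rw [h1]
    exact Q.not_dvd_index

theorem sylow_normal_of_hasNSin_top (h : HasNSin p (⊤ : Subgroup G)) (P : Sylow p G) :
    (P : Subgroup G).Normal := by
  obtain ⟨S, -, hSp, hSn, hSi⟩ := h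
  have hSnorm : S.Normal := Subgroup.normalizer_eq_top_iff.1 (top_le_iff.1 hSn)
  rw [Subgroup.relIndex_top_right] at hSi
  let S' : Sylow p G := hSp.toSylow hSi
  have hS' : (S' : Subgroup G) = S := rfl
  have hS'n : (S' : Subgroup G).Normal := by rw [hS']; exact hSnorm
  haveI := Sylow.unique_of_normal S' hS'n
  have : P = S' := Subsingleton.elim _ _
  rw [this]; exact hS'n

/-- the hypotheses on a minimal counterexample -/
structure MinCE (p : ℕ) (G : Type*) [Group G] : Prop where
  hmin : ∀ X : Subgroup G, X ≠ ⊤ → ∀ Q : Sylow p X, (Q : Subgroup X).Normal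
  hab : ∀ Q : Sylow p G, ∀ x ∈ Q, ∀ y ∈ Q, x * y = y * x

theorem MinCE.sup_eq_top (h : MinCE p G) (P Q : Sylow p G) (hne : P ≠ Q) :
    (P : Subgroup G) ⊔ Q = ⊤ := by
  by_contra hX
  have hP : (P : Subgroup G) ≤ (P : Subgroup G) ⊔ Q := le_sup_left
  have hQ : (Q : Subgroup G) ≤ (P : Subgroup G) ⊔ Q := le_sup_right
  have h1 := h.hmin _ hX (P.subtype hP)
  haveI := Sylow.unique_of_normal (P.subtype hP) h1
  have h2 : P.subtype hP = Q.subtype hQ := Subsingleton.elim _ _
  exact hne (Sylow.subtype_injective h2)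

theorem MinCE.inf_le_center (h : MinCE p G) (P Q : Sylow p G) (hne : P ≠ Q) :
    (P : Subgroup G) ⊓ Q ≤ Subgroup.center G := by
  intro x hx
  rw [Subgroup.mem_center_iff]
  intro g
  have hg : g ∈ (P : Subgroup G) ⊔ Q := by rw [h.sup_eq_top P Q hne]; trivial
  have hc : (P : Subgroup G) ⊔ Q ≤ Subgroup.centralizer {x} := by
    apply sup_le
    · intro y hy
      rw [Subgroup.mem_centralizer_iff]
      intro z hz
      rw [Set.mem_singleton_iff] at hz
      subst hz
      exact h.hab P z hx.1 y hy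
    · intro y hy
      rw [Subgroup.mem_centralizer_iff]
      intro z hz
      rw [Set.mem_singleton_iff] at hz
      subst hz
      exact h.hab Q z hx.2 y hy
  have h3 := hc hg
  rw [Subgroup.mem_centralizer_iff] at h3
  exact (h3 x rfl).symm

theorem exists_sylow_ne (P : Sylow p G) (hn : ¬ (P : Subgroup G).Normal) :
    ∃ Q : Sylow p G, Q ≠ P := by
  by_contra hcon
  push_neg at hcon
  haveI : Subsingleton (Sylow p G) := ⟨fun a b => (hcon a).trans (hcon b).symm⟩
  exact hn (Sylow.normal_of_subsingleton P)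

theorem MinCE.eq_top_of_normal_of_le (h : MinCE p G) (P : Sylow p G)
    (hn : ¬ (P : Subgroup G).Normal) (M : Subgroup G) (hM : M.Normal)
    (hPM : (P : Subgroup G) ≤ M) : M = ⊤ := by
  by_contra hne
  have h1 := h.hmin M hne (P.subtype hPM)
  haveI hchar := Sylow.characteristic_of_normal (P.subtype hPM) h1
  haveI := hM
  have h2 : ((P.subtype hPM : Sylow p M) : Subgroup M).map M.subtype = (P : Subgroup G) := by
    rw [Sylow.coe_subtype]
    exact Subgroup.map_subgroupOf_eq_of_le hPM
  have h3 : (((P.subtype hPM : Sylow p M) : Subgroup M).map M.subtype).Normal := inferInstance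
  rw [h2] at h3
  exact hn h3

theorem coe_smul_eq_map (a : G) (P : Sylow p G) :
    ((a • P : Sylow p G) : Subgroup G) = (P : Subgroup G).map (MulAut.conj a).toMonoidHom := by
  ext x
  rw [Subgroup.mem_map]
  constructor
  · intro hx
    have hx' : x ∈ ((a • P : Sylow p G) : Set G) := hx
    rw [Sylow.coe_smul] at hx'
    obtain ⟨y, hy, hyx⟩ := hx'
    exact ⟨y, hy, hyx⟩
  · rintro ⟨y, hy, hyx⟩
    have : x ∈ ((a • P : Sylow p G) : Set G) := by
      rw [Sylow.coe_smul]
      exact ⟨y, hy, hyx⟩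
    exact this

/-- a normal `p`-subgroup lies in every Sylow `p`-subgroup -/
theorem le_sylow_of_normal (S : Subgroup G) (hS : IsPGroup p S) (hSn : S.Normal)
    (P : Sylow p G) : S ≤ P := by
  obtain ⟨R, hR⟩ := hS.exists_le_sylow
  obtain ⟨g, hg⟩ := MulAction.exists_smul_eq G R P
  intro x hx
  have h1 : g⁻¹ * x * g⁻¹⁻¹ ∈ S := hSn.conj_mem x hx g⁻¹
  have h2 : g⁻¹ * x * g⁻¹⁻¹ ∈ (R : Subgroup G) := hR h1
  have h3 : x ∈ ((g • R : Sylow p G) : Subgroup G) := by
    rw [coe_smul_eq_map, Subgroup.mem_map]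
    refine ⟨g⁻¹ * x * g⁻¹⁻¹, h2, ?_⟩
    simp [MulAut.conj_apply]
    group
  rw [hg] at h3
  exact h3

theorem MinCE.atMostOne (h : MinCE p G) (P : Sylow p G)
    (hZ : (P : Subgroup G) ⊓ Subgroup.center G = ⊥) :
    ∀ g : G, g ∉ Subgroup.center G → ∀ a b : G,
      Subgroup.centralizer ({g} : Set G) ⊓ (P : Subgroup G).map (MulAut.conj a).toMonoidHom ≠ ⊥ →
      Subgroup.centralizer ({g} : Set G) ⊓ (P : Subgroup G).map (MulAut.conj b).toMonoidHom ≠ ⊥ →
      (P : Subgroup G).map (MulAut.conj a).toMonoidHom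
        = (P : Subgroup G).map (MulAut.conj b).toMonoidHom := by
  intro g hg a b ha hb
  set X := Subgroup.centralizer ({g} : Set G) with hX
  have hXtop : X ≠ ⊤ := by
    intro htop
    apply hg
    have : ({g} : Set G) ⊆ Subgroup.center G := Subgroup.centralizer_eq_top_iff_subset.1 htop
    exact this rfl
  obtain ⟨S₀⟩ := (Sylow.nonempty : Nonempty (Sylow p X))
  have hS₀n := h.hmin X hXtop S₀
  haveI := Sylow.unique_of_normal S₀ hS₀n
  -- a Sylow subgroup of G containing the image of S₀
  obtain ⟨R, hR⟩ := (S₀.isPGroup'.map X.subtype).exists_le_sylow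
  -- general claim
  have key : ∀ c : G, X ⊓ (P : Subgroup G).map (MulAut.conj c).toMonoidHom ≠ ⊥ →
      (c • P : Sylow p G) = R := by
    intro c hc
    rw [Ne, Subgroup.eq_bot_iff_forall] at hc
    push_neg at hc
    obtain ⟨x, hx, hx1⟩ := hc
    have hxP : x ∈ ((c • P : Sylow p G) : Subgroup G) := by
      rw [coe_smul_eq_map]; exact hx.2
    -- x lies in S₀
    have hT : IsPGroup p (((c • P : Sylow p G) : Subgroup G).subgroupOf X) :=
      (c • P : Sylow p G).isPGroup'.comap_of_injective X.subtype X.subtype_injective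
    obtain ⟨S₁, hS₁⟩ := hT.exists_le_sylow
    have hS₁e : S₁ = S₀ := Subsingleton.elim _ _
    rw [hS₁e] at hS₁
    have hxS : (⟨x, hx.1⟩ : X) ∈ (S₀ : Subgroup X) := by
      apply hS₁
      rw [Subgroup.mem_subgroupOf]
      exact hxP
    have hxR : x ∈ (R : Subgroup G) := hR ⟨⟨x, hx.1⟩, hxS, rfl⟩
    by_contra hne
    have hcen : x ∈ Subgroup.center G := h.inf_le_center _ _ hne ⟨hxP, hxR⟩
    -- x = c y c⁻¹ with y ∈ P, and x central, so y = x
    obtain ⟨y, hy, hyx⟩ := hx.2
    have hyx' : c * y * c⁻¹ = x := by simpa [MulAut.conj_apply] using hyx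
    have hyeq : y = x := by
      have h1 : y = c⁻¹ * x * c := by rw [← hyx']; group
      rw [h1]
      have h2 := (Subgroup.mem_center_iff.1 hcen) c
      calc c⁻¹ * x * c = c⁻¹ * (x * c) := by group
        _ = c⁻¹ * (c * x) := by rw [h2]
        _ = x := by group
    have hbot : x ∈ (P : Subgroup G) ⊓ Subgroup.center G := ⟨hyeq ▸ hy, hcen⟩
    rw [hZ, Subgroup.mem_bot] at hbot
    exact hx1 hbot
  have h1 := key a ha
  have h2 := key b hb
  rw [← coe_smul_eq_map, ← coe_smul_eq_map, h1, h2]

end basic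

end Cfsg.Agent.Lib.Helper1.Ftb
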