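import Mathlib
import Cfsg.Prelude.Def_Local
import Cfsg.Prelude.Def_PLocal
import Cfsg.Prelude.Def_LocalEven
import Cfsg.Prelude.Def_Transfer
import Cfsg.Agent.Lib.Helper7.FG19Defs
import Cfsg.Agent.Lib.Helper7.FG19QE
import Cfsg.Agent.Lib.Helper7.FG19Sub
import Cfsg.Agent.Lib.Helper6.FG19Hall
import Cfsg.Agent.Lib.Helper8.FG19Tr
import Cfsg.Agent.Lib.Helper1.FtbA

/-! Farm FG19 (S4411), unit NPC: the local pair inside a `p`-solvable `Λ` with a normal `p`-subgroup
moved by a `q`-element.  `exists_local_of` takes unit V (`exists_local_of_not_npc`) as a hypothesis. -/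

set_option autoImplicit false
set_option linter.unusedSectionVars false
set_option linter.unusedVariables false
universe u

namespace Cfsg.Agent.Lib.Helper1.FG19

open Cfsg Cfsg.Agent.Lib.Helper7.FG19 Cfsg.Agent.Lib.Helper6.FG19Hall Cfsg.Agent.Lib.Helper8.FG19

variable {p q : ℕ} [Fact p.Prime] [Fact q.Prime]

/-- a normal `p`-subgroup moved by a `q`-element excludes a normal `p`-complement -/
theorem not_npc_of_autQ {W : Type u} [Group W] [Finite W] (hpq : p ≠ q) (H : Subgroup W)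
    [H.Normal] (hH : IsPGroup p H) (y : W) (hy : IsQ q y)
    (hyC : y ∉ Subgroup.centralizer (H : Set W)) : ¬ Cfsg.HasNormalPComplement p W := by
  have hp : p.Prime := Fact.out
  have hq : q.Prime := Fact.out
  rintro ⟨P, N, hN, hc⟩
  have hcard : Nat.card N * Nat.card (P : Subgroup W) = Nat.card W := hc.card_mul_card
  -- `N` is a `p'`-group
  have hNp : (Nat.card N).Coprime p := by
    have hidx : (P : Subgroup W).index = Nat.card N := by
      have h1 := (P : Subgroup W).card_mul_index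
      have hPpos : 0 < Nat.card (P : Subgroup W) := Nat.card_pos
      rw [← hcard, mul_comm] at h1
      exact Nat.eq_of_mul_eq_mul_right hPpos h1
    rw [← hidx]
    exact ((Nat.Prime.coprime_iff_not_dvd hp).2 P.not_dvd_index).symm
  -- `y ∈ N`
  have hyN : y ∈ N := by
    obtain ⟨k, hk⟩ := hy
    have hidxN : N.index = Nat.card (P : Subgroup W) := by
      have h1 := N.card_mul_index
      have hNpos : 0 < Nat.card N := Nat.card_pos
      rw [← hcard] at h1
      exact Nat.eq_of_mul_eq_mul_left hNpos h1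
    obtain ⟨a, ha⟩ := (IsPGroup.iff_card.1 P.isPGroup')
    rw [← QuotientGroup.eq_one_iff (N := N), ← orderOf_eq_one_iff]
    have h1 : orderOf (y : W ⧸ N) ∣ q ^ k := by
      rw [← hk]; exact orderOf_map_dvd (QuotientGroup.mk' N) y
    have h2 : orderOf (y : W ⧸ N) ∣ p ^ a := by
      rw [← ha, ← hidxN, Subgroup.index_eq_card]
      exact orderOf_dvd_natCard _
    have hcop : Nat.Coprime (q ^ k) (p ^ a) :=
      Nat.Coprime.pow _ _ ((Nat.coprime_primes hq hp).2 (Ne.symm hpq))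
    exact Nat.eq_one_of_dvd_coprimes hcop h1 h2
  apply hyC
  rw [Subgroup.mem_centralizer_iff]
  intro h hh
  have hmemN : y * h * y⁻¹ * h⁻¹ ∈ N := by
    have : h * y⁻¹ * h⁻¹ ∈ N := hN.conj_mem _ (N.inv_mem hyN) h
    have := N.mul_mem hyN this
    convert this using 1
    group
  have hmemH : y * h * y⁻¹ * h⁻¹ ∈ H :=
    H.mul_mem (Subgroup.Normal.conj_mem inferInstance h hh y) (H.inv_mem hh)
  have hone : y * h * y⁻¹ * h⁻¹ = 1 := by
    have hdis : H ⊓ N = ⊥ := by
      apply (Subgroup.disjoint_of_coprime_natCard _).eq_bot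
      obtain ⟨a, ha⟩ := IsPGroup.iff_card.1 hH
      rw [ha]
      exact Nat.Coprime.pow_left _ hNp.symm
    have : y * h * y⁻¹ * h⁻¹ ∈ H ⊓ N := ⟨hmemH, hmemN⟩
    rw [hdis, Subgroup.mem_bot] at this
    exact this
  calc h * y = (y * h * y⁻¹ * h⁻¹)⁻¹ * (y * h) := by group
    _ = y * h := by rw [hone, inv_one, one_mul]

/-- a group whose order involves only the primes `2` and `q ≠ 3` does not involve `S₄` -/
theorem not_involves_S4 {W : Type u} [Group W] [Finite W]
    (hW : ∀ r : ℕ, r.Prime → r ∣ Nat.card W → r = 2 ∨ r = q) (hq3 : q ≠ 3) :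
    ¬ Cfsg.Involves (Equiv.Perm (Fin 4)) W := by
  rintro ⟨K, R, hn, ⟨e⟩⟩
  have h24 : Nat.card (↥K ⧸ R.subgroupOf K) = 24 := by
    rw [Nat.card_congr e.toEquiv, Nat.card_eq_fintype_card, Fintype.card_perm, Fintype.card_fin]
    rfl
  have h3 : 3 ∣ Nat.card W := by
    have h1 : Nat.card (↥K ⧸ R.subgroupOf K) ∣ Nat.card K := by
      rw [← Subgroup.index_eq_card]
      exact Subgroup.index_dvd_card _
    have h2 : Nat.card K ∣ Nat.card W := Subgroup.card_subgroup_dvd_card K
    rw [h24] at h1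
    exact dvd_trans (by norm_num) (dvd_trans h1 h2)
  rcases hW 3 Nat.prime_three h3 with h | h
  · omega
  · exact hq3 h.symm

/-- an element of order prime to `p` in a `{p, q}`-group is a `q`-element -/
theorem isQ_of_coprime {W : Type u} [Group W] [Finite W]
    (hW : ∀ r : ℕ, r.Prime → r ∣ Nat.card W → r = p ∨ r = q) (g : W)
    (hg : (orderOf g).Coprime p) : IsQ q g := by
  have hq : q.Prime := Fact.out
  have hpos : 0 < orderOf g := orderOf_pos g
  by_cases h1 : orderOf g = 1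
  · exact ⟨0, by rw [h1, pow_zero]⟩
  · have := (Nat.eq_prime_pow_of_unique_prime_dvd hpos.ne' (p := q) (by
      intro r hr hrd
      rcases hW r hr (dvd_trans hrd (orderOf_dvd_natCard g)) with h | h
      · exfalso
        rw [h] at hrd hr
        exact (Nat.Prime.coprime_iff_not_dvd hr).1 hg.symm hrd
      · exact h))
    exact ⟨_, this⟩

theorem exists_local_of
    (hV : ∀ {W : Type u} [Group W] [Finite W] (P : Sylow p W)
      (h : p ≠ 2 ∨ ¬ Cfsg.Involves (Equiv.Perm (Fin 4)) W)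
      (hnpc : ¬ Cfsg.HasNormalPComplement p W),
      ∃ (K Q : Subgroup W) (g : W),
        (K = (P : Subgroup W) ⊓ Subgroup.centralizer ((P : Subgroup W) : Set W) ∨
          K = thompsonSubgroupAOf (P : Subgroup W)) ∧
        IsPGroup p Q ∧ Q ≤ Subgroup.normalizer (K : Set W) ∧ g ∈ Subgroup.normalizer (K : Set W) ∧
        g ∈ Subgroup.normalizer (Q : Set W) ∧ g ∉ Subgroup.centralizer (Q : Set W) ∧
        (orderOf g).Coprime p)
    {Λ : Type u} [Group Λ] [Finite Λ] (hpq : p ≠ q) (h23 : ¬ (p = 2 ∧ q = 3))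
    (hsol : IsPSolvable p Λ) (H : Subgroup Λ) [H.Normal] (hH : IsPGroup p H) (y : Λ)
    (hy : IsQ q y) (hyC : y ∉ Subgroup.centralizer (H : Set Λ)) :
    ∃ (P' K Q : Subgroup Λ) (g : Λ), Nat.card P' = p ^ (Nat.card Λ).factorization p ∧
      (K = P' ⊓ Subgroup.centralizer (P' : Set Λ) ∨ K = thompsonSubgroupAOf P') ∧ K ≠ ⊥ ∧
      IsPGroup p Q ∧ Q ≤ Subgroup.normalizer (K : Set Λ) ∧ g ∈ Subgroup.normalizer (K : Set Λ) ∧
      g ∈ Subgroup.normalizer (Q : Set Λ) ∧ g ∉ Subgroup.centralizer (Q : Set Λ) ∧ IsQ q g := by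
  have hp : p.Prime := Fact.out
  have hq : q.Prime := Fact.out
  obtain ⟨Y, hYpr, hYp, hYq⟩ := exists_hall_pq p q hsol
  -- a `q`-element of `Y` outside `C_Λ(H)`
  have hqC : q ∣ (Subgroup.centralizer (H : Set Λ)).index :=
    dvd_index_of_isQ (Subgroup.centralizer (H : Set Λ)) y hy hyC
  obtain ⟨y', hy'Y, hy'C, hy'q⟩ := exists_isQ_not_mem (q := q) (Subgroup.centralizer (H : Set Λ)) ⊤ Y
    le_top (by rwa [Subgroup.relIndex_top_right]) (by rwa [Subgroup.relIndex_top_right])
  -- a Sylow `p`-subgroup of `Y` is one of `Λ`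
  obtain ⟨P⟩ : Nonempty (Sylow p ↥Y) := inferInstance
  set P' : Subgroup Λ := (P : Subgroup ↥Y).map Y.subtype with hP'
  have hfac : (Nat.card ↥Y).factorization p = (Nat.card Λ).factorization p := by
    have h1 := Y.card_mul_index
    have hY0 : Nat.card ↥Y ≠ 0 := Nat.card_pos.ne'
    have hi0 : Y.index ≠ 0 := Subgroup.index_ne_zero_of_finite
    rw [← h1, Nat.factorization_mul hY0 hi0, Finsupp.add_apply,
      Nat.factorization_eq_zero_of_not_dvd hYp, add_zero]
  have hcardP' : Nat.card P' = p ^ (Nat.card Λ).factorization p := by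
    rw [hP', Subgroup.card_map_of_injective Y.subtype_injective, P.card_eq_multiplicity, hfac]
  have hHP' : H ≤ P' :=
    Cfsg.Agent.Lib.Helper1.Ftb.le_sylow_of_normal H hH inferInstance (Sylow.ofCard P' hcardP')
  have hP'Y : P' ≤ Y := by
    rw [hP']
    intro x hx
    obtain ⟨w, -, rfl⟩ := Subgroup.mem_map.1 hx
    exact w.2
  have hHY : H ≤ Y := hHP'.trans hP'Y
  have hHne : H ≠ ⊥ := by
    rintro rfl
    apply hyC
    rw [Subgroup.mem_centralizer_iff]
    intro h hh
    rw [Subgroup.mem_bot.1 hh, one_mul, mul_one]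
  have hP'ne : P' ≠ ⊥ := by
    intro h0
    apply hHne
    rw [eq_bot_iff, ← h0]
    exact hHP'
  -- inside `W = Y`
  have hWpr : ∀ r : ℕ, r.Prime → r ∣ Nat.card ↥Y → r = p ∨ r = q := hYpr
  have hHWn : (H.subgroupOf Y).Normal := Subgroup.normal_subgroupOf
  have hHWp : IsPGroup p (H.subgroupOf Y) := hH.comap_subtype
  have hyW : IsQ q (⟨y', hy'Y⟩ : ↥Y) := (isQ_coe (q := q) Y ⟨y', hy'Y⟩).1 hy'q
  have hyWC : (⟨y', hy'Y⟩ : ↥Y) ∉ Subgroup.centralizer ((H.subgroupOf Y : Subgroup ↥Y) : Set ↥Y) := by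
    intro hc
    apply hy'C
    rw [Subgroup.mem_centralizer_iff]
    intro h hh
    have := (Subgroup.mem_centralizer_iff.1 hc) ⟨h, hHY hh⟩ (Subgroup.mem_subgroupOf.2 hh)
    exact congrArg Subtype.val this
  have hnpc : ¬ Cfsg.HasNormalPComplement p ↥Y :=
    not_npc_of_autQ hpq (H.subgroupOf Y) hHWp ⟨y', hy'Y⟩ hyW hyWC
  have hS4 : p ≠ 2 ∨ ¬ Cfsg.Involves (Equiv.Perm (Fin 4)) ↥Y := by
    by_cases hp2 : p = 2
    · right
      apply not_involves_S4 (q := q)
      · intro r hr hrd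
        rcases hWpr r hr hrd with h | h
        · left; rw [h, hp2]
        · right; exact h
      · intro hq3
        exact h23 ⟨hp2, hq3⟩
    · left; exact hp2
  obtain ⟨KW, QW, gW, hKW, hQWp, hQWK, hgK, hgQ, hgC, hgcop⟩ :=
    hV P hS4 hnpc
  refine ⟨P', KW.map Y.subtype, QW.map Y.subtype, (gW : Λ), hcardP', ?_, ?_, hQWp.map _, ?_, ?_, ?_,
    ?_, ?_⟩
  · rcases hKW with h | h
    · left
      rw [h, map_Z]
    · right
      rw [h, map_J (p := p) Y (P : Subgroup ↥Y) P.2]
  · rcases hKW with h | h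
    · rw [h, map_Z]
      exact Z_ne_bot (p := p) P' (P.2.map _) hP'ne
    · rw [h, map_J (p := p) Y (P : Subgroup ↥Y) P.2]
      exact J_ne_bot (p := p) P' (P.2.map _) hP'ne
  · intro x hx
    obtain ⟨w, hw, rfl⟩ := Subgroup.mem_map.1 hx
    exact mem_normalizer_map_subtype Y KW w (hQWK hw)
  · exact mem_normalizer_map_subtype Y KW gW hgK
  · exact mem_normalizer_map_subtype Y QW gW hgQ
  · exact not_mem_centralizer_map_subtype Y QW gW hgC
  · exact (isQ_coe (q := q) Y gW).2 (isQ_of_coprime (p := p) hWpr gW hgcop)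

end Cfsg.Agent.Lib.Helper1.FG19
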