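import Mathlib
import Cfsg.Agent.Lib.Helper1.FG19NPC
import Cfsg.Agent.Lib.Helper7.FG19V

/-! Farm FG19 (S4411), unit NPC, verbatim form: `exists_local` from `exists_local_of` and helper7's unit V. -/

set_option autoImplicit false
set_option linter.unusedSectionVars false
set_option linter.unusedVariables false
universe u

namespace Cfsg.Agent.Lib.Helper1.FG19

open Cfsg Cfsg.Agent.Lib.Helper7.FG19

variable {p q : ℕ} [Fact p.Prime] [Fact q.Prime]

theorem exists_local {Λ : Type u} [Group Λ] [Finite Λ] (hpq : p ≠ q) (h23 : ¬ (p = 2 ∧ q = 3))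
    (hsol : IsPSolvable p Λ) (H : Subgroup Λ) [H.Normal] (hH : IsPGroup p H) (y : Λ)
    (hy : IsQ q y) (hyC : y ∉ Subgroup.centralizer (H : Set Λ)) :
    ∃ (P' K Q : Subgroup Λ) (g : Λ), Nat.card P' = p ^ (Nat.card Λ).factorization p ∧
      (K = P' ⊓ Subgroup.centralizer (P' : Set Λ) ∨ K = thompsonSubgroupAOf P') ∧ K ≠ ⊥ ∧
      IsPGroup p Q ∧ Q ≤ Subgroup.normalizer (K : Set Λ) ∧ g ∈ Subgroup.normalizer (K : Set Λ) ∧
      g ∈ Subgroup.normalizer (Q : Set Λ) ∧ g ∉ Subgroup.centralizer (Q : Set Λ) ∧ IsQ q g :=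
  exists_local_of (fun P h hnpc => Cfsg.Agent.Lib.Helper7.FG19.exists_local_of_not_npc P h hnpc)
    hpq h23 hsol H hH y hy hyC

end Cfsg.Agent.Lib.Helper1.FG19
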