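import Mathlib
import Cfsg.Prelude.Def_Local
import Cfsg.Prelude.Def_PLocal
import Cfsg.Agent.Lib.Helper7.FG19Defs
import Cfsg.Agent.Lib.Helper1.PConstrainedOfPSolvable

/-! Farm FG19 (S4411), unit Quot: passing to `G ⧸ K`, `K` a normal `p`-subgroup. -/

set_option autoImplicit false
set_option linter.unusedSectionVars false
set_option linter.unusedVariables false
universe u

namespace Cfsg.Agent.Lib.Helper1.FG19

open Cfsg Cfsg.Agent.Lib.Helper7.FG19

variable {p q : ℕ} [Fact p.Prime] [Fact q.Prime]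

/-- a power of `x` of `q`-power order outside `N`, when `x ∉ N` and `x ^ (q ^ k) ∈ N` -/
theorem exists_pow_isQ' {G : Type*} [Group G] [Finite G] (N : Subgroup G) (x : G) (k : ℕ)
    (hx : x ∉ N) (hxk : x ^ (q ^ k) ∈ N) : ∃ m : ℕ, IsQ q (x ^ m) ∧ x ^ m ∉ N := by
  have hq : q.Prime := Fact.out
  have hpos : 0 < orderOf x := orderOf_pos x
  obtain ⟨a, r, hr, hor⟩ := Nat.exists_eq_pow_mul_and_not_dvd hpos.ne' q hq.ne_one
  refine ⟨r, ⟨a, ?_⟩, ?_⟩
  · have hr0 : r ≠ 0 := by
      rintro rfl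
      rw [mul_zero] at hor
      omega
    rw [orderOf_pow' x hr0, hor, Nat.gcd_eq_right (Dvd.intro_left _ rfl),
      Nat.mul_div_cancel _ (Nat.pos_of_ne_zero hr0)]
  · intro hmem
    apply hx
    have hcop : Nat.Coprime r (q ^ k) := by
      apply Nat.Coprime.pow_right
      exact (Nat.Coprime.symm ((Nat.Prime.coprime_iff_not_dvd hq).2 hr))
    have hb := Int.gcd_eq_gcd_ab (r : ℤ) ((q ^ k : ℕ) : ℤ)
    have hg : Int.gcd (r : ℤ) ((q ^ k : ℕ) : ℤ) = 1 := by
      rw [Int.gcd_natCast_natCast]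
      exact hcop
    rw [hg] at hb
    have : x = (x ^ r) ^ (Int.gcdA (r : ℤ) ((q ^ k : ℕ) : ℤ)) *
        (x ^ (q ^ k)) ^ (Int.gcdB (r : ℤ) ((q ^ k : ℕ) : ℤ)) := by
      rw [← zpow_natCast x r, ← zpow_natCast x (q ^ k), ← zpow_mul, ← zpow_mul, ← zpow_add]
      rw [← hb]
      simp
    rw [this]
    exact N.mul_mem (N.zpow_mem hmem _) (N.zpow_mem hxk _)

theorem hyp_quotient {G : Type u} [Group G] [Finite G] (K : Subgroup G) [K.Normal]
    (hK : IsPGroup p K) (h : Hyp p G) : Hyp p (G ⧸ K) := by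
  intro Qb hQb
  set π := QuotientGroup.mk' K with hπ
  have hπs : Function.Surjective π := QuotientGroup.mk'_surjective K
  set Q : Subgroup G := Qb.comap π with hQ
  have hQp : IsPGroup p Q := by
    apply IsPGroup.comap_of_ker_isPGroup hQb π
    rw [hπ, QuotientGroup.ker_mk']
    exact hK
  have hsol := h Q hQp
  have hnorm : Subgroup.normalizer (Q : Set G) =
      (Subgroup.normalizer (Qb : Set (G ⧸ K))).comap π :=
    (Subgroup.comap_normalizer_eq_of_surjective Qb hπs).symm
  -- the map `N_G(Q) → N(Q̄)`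
  let f0 : ↥(Subgroup.normalizer (Q : Set G)) →* ↥(Subgroup.normalizer (Qb : Set (G ⧸ K))) :=
    { toFun := fun x => ⟨π x, by
        have : (x : G) ∈ (Subgroup.normalizer (Qb : Set (G ⧸ K))).comap π := by
          rw [← hnorm]; exact x.2
        exact Subgroup.mem_comap.1 this⟩
      map_one' := by
        apply Subtype.ext
        simp
      map_mul' := by
        intro x y
        apply Subtype.ext
        simp }
  have hf0s : Function.Surjective f0 := by
    rintro ⟨yb, hyb⟩
    obtain ⟨y, rfl⟩ := hπs yb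
    have hy : y ∈ Subgroup.normalizer (Q : Set G) := by
      rw [hnorm]; exact Subgroup.mem_comap.2 hyb
    exact ⟨⟨y, hy⟩, rfl⟩
  let f1 : ↥(Subgroup.normalizer (Q : Set G)) →*
      ↥(Subgroup.normalizer (Qb : Set (G ⧸ K))) ⧸
        (Subgroup.centralizer (Qb : Set (G ⧸ K))).subgroupOf
          (Subgroup.normalizer (Qb : Set (G ⧸ K))) :=
    (QuotientGroup.mk' _).comp f0
  have hf1s : Function.Surjective f1 :=
    (QuotientGroup.mk'_surjective _).comp hf0s
  have hker : (Subgroup.centralizer (Q : Set G)).subgroupOf (Subgroup.normalizer (Q : Set G)) ≤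
      f1.ker := by
    intro x hx
    rw [MonoidHom.mem_ker]
    show QuotientGroup.mk' _ (f0 x) = 1
    rw [QuotientGroup.mk'_apply, QuotientGroup.eq_one_iff, Subgroup.mem_subgroupOf]
    show π (x : G) ∈ Subgroup.centralizer (Qb : Set (G ⧸ K))
    rw [Subgroup.mem_centralizer_iff]
    intro gb hgb
    obtain ⟨g, rfl⟩ := hπs gb
    have hg : g ∈ Q := Subgroup.mem_comap.2 hgb
    have hx' : (x : G) ∈ Subgroup.centralizer (Q : Set G) := Subgroup.mem_subgroupOf.1 hx
    have := (Subgroup.mem_centralizer_iff.1 hx') g hg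
    rw [← map_mul, ← map_mul, this]
  exact Cfsg.Agent.Lib.Helper1.isPSolvable_of_surjective p (QuotientGroup.lift _ f1 hker)
    (QuotientGroup.lift_surjective_of_surjective _ _ hf1s hker) hsol

theorem autQ_comap {G : Type*} [Group G] [Finite G] (K : Subgroup G) [K.Normal]
    (Q : Subgroup (G ⧸ K)) (h : AutQ q Q) : AutQ q (Q.comap (QuotientGroup.mk' K)) := by
  obtain ⟨ybar, hyN, hyC, k, hk⟩ := h
  obtain ⟨x, rfl⟩ := QuotientGroup.mk'_surjective K ybar
  -- the preimage of the centralizer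
  set N : Subgroup G := (Subgroup.centralizer (Q : Set (G ⧸ K))).comap (QuotientGroup.mk' K) with hN
  have hxN : x ∉ N := fun hx => hyC (Subgroup.mem_comap.1 hx)
  have hxk : x ^ (q ^ k) ∈ N := by
    rw [hN, Subgroup.mem_comap, map_pow, ← hk, pow_orderOf_eq_one]
    exact Subgroup.one_mem _
  obtain ⟨m, hmq, hmN⟩ := exists_pow_isQ' (q := q) N x k hxN hxk
  refine ⟨x ^ m, ?_, ?_, hmq⟩
  · -- normalizes the preimage
    have hxnorm : x ∈ Subgroup.normalizer ((Q.comap (QuotientGroup.mk' K) : Subgroup G) : Set G) := by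
      rw [Subgroup.mem_normalizer_iff]
      intro g
      rw [Subgroup.mem_comap, Subgroup.mem_comap, map_mul, map_mul, map_inv]
      exact (Subgroup.mem_normalizer_iff.1 hyN) _
    exact Subgroup.pow_mem _ hxnorm m
  · intro hc
    apply hmN
    rw [hN, Subgroup.mem_comap, Subgroup.mem_centralizer_iff]
    intro gbar hg
    obtain ⟨g, rfl⟩ := QuotientGroup.mk'_surjective K gbar
    have hgQ : g ∈ Q.comap (QuotientGroup.mk' K) := Subgroup.mem_comap.2 hg
    have := (Subgroup.mem_centralizer_iff.1 hc) g hgQ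
    rw [← map_mul, ← map_mul, this]

theorem autQ_map_mk {G : Type*} [Group G] [Finite G] (hpq : p ≠ q) (K : Subgroup G) [K.Normal]
    (hK : IsPGroup p K) (hKq : ¬ AutQ q K) (H : Subgroup G) (h : AutQ q H) :
    AutQ q (H.map (QuotientGroup.mk' K)) := by
  have hp : p.Prime := Fact.out
  have hq : q.Prime := Fact.out
  obtain ⟨y, hyN, hyC, k, hk⟩ := h
  -- `y` centralizes `K`
  have hyK : y ∈ Subgroup.centralizer (K : Set G) := by
    by_contra hcon
    apply hKq
    refine ⟨y, ?_, hcon, k, hk⟩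
    rw [Subgroup.normalizer_eq_top]
    trivial
  refine ⟨QuotientGroup.mk' K y, ?_, ?_, ?_⟩
  · rw [Subgroup.mem_normalizer_iff]
    intro gbar
    obtain ⟨g, rfl⟩ := QuotientGroup.mk'_surjective K gbar
    constructor
    · rintro ⟨h0, hh0, he⟩
      refine ⟨y * h0 * y⁻¹, (Subgroup.mem_normalizer_iff.1 hyN h0).1 hh0, ?_⟩
      rw [map_mul, map_mul, map_inv, he]
    · rintro ⟨h0, hh0, he⟩
      refine ⟨y⁻¹ * h0 * y, ?_, ?_⟩
      · have := (Subgroup.mem_normalizer_iff.1 (Subgroup.inv_mem _ hyN) h0).1 hh0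
        rwa [inv_inv] at this
      · rw [map_mul, map_mul, map_inv, he]
        group
  · intro hc
    apply hyC
    rw [Subgroup.mem_centralizer_iff]
    intro h0 hh0
    -- `y h0 y⁻¹ = k0 h0` with `k0 ∈ K`
    have hcomm := (Subgroup.mem_centralizer_iff.1 hc) (QuotientGroup.mk' K h0)
      (Subgroup.mem_map_of_mem _ hh0)
    set k0 := y * h0 * y⁻¹ * h0⁻¹ with hk0
    have hk0K : k0 ∈ K := by
      rw [← QuotientGroup.eq_one_iff, hk0]
      have e : ((y * h0 * y⁻¹ * h0⁻¹ : G) : G ⧸ K) =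
          QuotientGroup.mk' K y * QuotientGroup.mk' K h0 * (QuotientGroup.mk' K y)⁻¹ *
            (QuotientGroup.mk' K h0)⁻¹ := by
        simp
      rw [e, ← hcomm]
      group
    have hyk0 : y * k0 = k0 * y := ((Subgroup.mem_centralizer_iff.1 hyK) k0 hk0K).symm
    have hconj : y * h0 * y⁻¹ = k0 * h0 := by rw [hk0]; group
    have hpow : ∀ n : ℕ, y ^ n * h0 * (y ^ n)⁻¹ = k0 ^ n * h0 := by
      intro n
      induction n with
      | zero => simp
      | succ n ih =>
        have hykn : y * k0 ^ n = k0 ^ n * y := by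
          exact (Commute.pow_right (show Commute y k0 from hyk0) n).eq
        calc y ^ (n + 1) * h0 * (y ^ (n + 1))⁻¹
            = y * (y ^ n * h0 * (y ^ n)⁻¹) * y⁻¹ := by rw [pow_succ']; group
          _ = y * (k0 ^ n * h0) * y⁻¹ := by rw [ih]
          _ = (y * k0 ^ n) * h0 * y⁻¹ := by group
          _ = k0 ^ n * (y * h0 * y⁻¹) := by rw [hykn]; group
          _ = k0 ^ (n + 1) * h0 := by rw [hconj, pow_succ]; group
    have h1 := hpow (orderOf y)
    rw [pow_orderOf_eq_one, one_mul, inv_one, mul_one] at h1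
    have hk1 : k0 ^ orderOf y = 1 := by
      have : k0 ^ orderOf y * h0 = 1 * h0 := by rw [← h1, one_mul]
      exact mul_right_cancel this
    -- `k0` is a `p`-element whose order divides `q ^ k`
    obtain ⟨j, hj⟩ := (IsPGroup.iff_orderOf.1 hK) ⟨k0, hk0K⟩
    have hj' : orderOf k0 = p ^ j := by rw [← Subgroup.orderOf_mk k0 hk0K]; exact hj
    have hdvd : orderOf k0 ∣ q ^ k := by rw [← hk]; exact orderOf_dvd_of_pow_eq_one hk1
    have hk01 : k0 = 1 := by
      rw [← orderOf_eq_one_iff, hj']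
      rw [hj'] at hdvd
      rcases Nat.eq_zero_or_pos j with h0j | hjpos
      · rw [h0j, pow_zero]
      · exfalso
        have hpd : p ∣ q ^ k := dvd_trans (dvd_pow_self p hjpos.ne') hdvd
        have := (Nat.prime_dvd_prime_iff_eq hp hq).1 (hp.dvd_of_dvd_pow hpd)
        exact hpq this
    rw [hk01, one_mul] at hconj
    calc h0 * y = (y * h0 * y⁻¹) * y := by rw [hconj]
      _ = y * h0 := by group
  · obtain ⟨j, -, hj⟩ := (Nat.dvd_prime_pow hq).1
      (show orderOf (QuotientGroup.mk' K y) ∣ q ^ k by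
        rw [← hk]; exact orderOf_map_dvd _ y)
    exact ⟨j, hj⟩

end Cfsg.Agent.Lib.Helper1.FG19
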