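import Mathlib
import Cfsg.Agent.Lib.Helper1.FM13
import Cfsg.Agent.Lib.Helper1.FrobeniusTheorem
import Cfsg.Agent.Lib.Helper1.FrobeniusBasic
import Cfsg.Agent.Lib.Helper1.CoprimeAbelian

/-! From a Frobenius complement to a kernel/complement pair in the ambient group. -/
set_option autoImplicit false
open scoped BigOperators commutatorElement

namespace Cfsg.Agent.Lib.Helper1.FM

variable {X : Type*} [Group X]

theorem frob_pair_of_complement [Finite X] (G : Subgroup X) (R : Subgroup ↥G)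
    (hR : Cfsg.IsFrobeniusComplement R) :
    ∃ K : Subgroup X, Subgroup.closure (Subtype.val '' Cfsg.frobeniusKernel R) = K ∧ K ≤ G ∧
      R.map G.subtype ≠ ⊥ ∧ R.map G.subtype ≤ Subgroup.normalizer (K : Set X) ∧
      ∀ r ∈ R.map G.subtype, r ≠ 1 → ∀ k ∈ K, r * k = k * r → k = 1 := by
  classical
  obtain ⟨N, hN, hNn, hcompl⟩ := Cfsg.Agent.Lib.Helper1.frobenius_theorem R hR
  refine ⟨N.map G.subtype, ?_, Subgroup.map_subtype_le N, ?_, ?_, ?_⟩
  · rw [← hN]
    have : (Subtype.val '' (N : Set ↥G)) = ((N.map G.subtype : Subgroup X) : Set X) := by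
      rw [Subgroup.coe_map]
      rfl
    rw [this, Subgroup.closure_eq]
  · intro h
    apply hR.1
    exact (Subgroup.map_eq_bot_iff_of_injective R G.subtype_injective).mp h
  · apply mem_normalizer_of_conj
    rintro _ ⟨r, _, rfl⟩ _ ⟨n, hn, rfl⟩
    exact ⟨r * n * r⁻¹, hNn.conj_mem n hn r, rfl⟩
  · have hN1 : N ≠ ⊥ := by
      intro h
      rw [h, Subgroup.isComplement'_bot_left] at hcompl
      exact hR.2.1 hcompl
    have hfp := (Cfsg.Agent.Lib.Helper1.frobenius_iff_fpf N R hcompl hN1 hR.1).mp hR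
    rintro _ ⟨r, hr, rfl⟩ hr1 _ ⟨n, hn, rfl⟩ hrn
    have hr1' : r ≠ 1 := by
      intro h
      apply hr1
      rw [h]
      rfl
    have h1 := hfp r hr hr1'
    have h2 : n ∈ N ⊓ Subgroup.centralizer {r} := by
      refine Subgroup.mem_inf.mpr ⟨hn, ?_⟩
      rw [Subgroup.mem_centralizer_iff]
      intro h hh
      rw [Set.mem_singleton_iff] at hh
      rw [hh]
      apply Subtype.ext
      exact hrn
    rw [h1, Subgroup.mem_bot] at h2
    rw [h2]
    rfl

theorem frob_complement_derived [Finite X] (G V : Subgroup X) {ℓ : ℕ} (hℓ : ℓ.Prime)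
    (hV : Cfsg.IsElementaryAbelian ℓ V) (hℓG : ¬ ℓ ∣ Nat.card G)
    (hGV : G ≤ Subgroup.normalizer (V : Set X)) (R : Subgroup ↥G)
    (hR : Cfsg.IsFrobeniusComplement R)
    (hCV : Nat.card ↥(V ⊓ Subgroup.centralizer ((R.map G.subtype : Subgroup X) : Set X)) = ℓ) :
    ⁅Subgroup.closure (Subtype.val '' Cfsg.frobeniusKernel R),
      Subgroup.closure (Subtype.val '' Cfsg.frobeniusKernel R)⁆
      ≤ Subgroup.centralizer (V : Set X) := by
  classical
  obtain ⟨K, hK, hKG, hR1, hRK, hfpf⟩ := frob_pair_of_complement G R hR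
  rw [hK]
  have hAG : K ⊔ R.map G.subtype ≤ G := sup_le hKG (Subgroup.map_subtype_le R)
  have hVc : IsMulCommutative V := hV.1
  have hsolv : Group.IsSolvable V := Cfsg.Agent.Lib.Helper1.isSolvable_of_isMulCommutative V
  have hℓF : Fact ℓ.Prime := ⟨hℓ⟩
  have hpg : IsPGroup ℓ V := by
    intro v
    refine ⟨1, ?_⟩
    apply Subtype.ext
    rw [pow_one, Subgroup.coe_pow]
    exact hV.2 v v.2
  obtain ⟨m, hm⟩ := IsPGroup.iff_card.mp hpg
  have hcop : (Nat.card V).Coprime (Nat.card ↥(K ⊔ R.map G.subtype)) := by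
    rw [hm]
    apply Nat.Coprime.pow_left
    rw [Nat.Prime.coprime_iff_not_dvd hℓ]
    intro h
    exact hℓG (h.trans (Subgroup.card_dvd_of_le hAG))
  have hcyc : IsCyclic ↥(V ⊓ Subgroup.centralizer ((R.map G.subtype : Subgroup X) : Set X)) :=
    isCyclic_of_prime_card hCV
  exact frob_derived K (R.map G.subtype) hR1 hRK hfpf (Nat.card V) V rfl (hAG.trans hGV) hsolv
    hcop hcyc

end Cfsg.Agent.Lib.Helper1.FM
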