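import Mathlib
import Cfsg.Prelude.Def_Transfer
import Cfsg.Agent.Lib.Helper7.FPF0

set_option autoImplicit false
set_option linter.style.haveILetI false

/-! # S2863 farm, unit U-DIH: `XProp 2 Y` for a nontrivial elementary abelian 2-subgroup of
the dihedral group of order `2r`, `r` an odd prime. -/

namespace Cfsg.Agent.Lib.Helper1.FPFDih

open Cfsg.Agent.Lib.Helper7.FPF

theorem two_ne_zero_zmod {r : ℕ} (hr : r.Prime) (hr2 : r ≠ 2) : (2 : ZMod r) ≠ 0 := by
  haveI : Fact r.Prime := ⟨hr⟩
  intro h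
  have h2 : ((2 : ℕ) : ZMod r) = 0 := by exact_mod_cast h
  rw [ZMod.natCast_eq_zero_iff] at h2
  have := (Nat.prime_dvd_prime_iff_eq hr Nat.prime_two).mp h2
  exact hr2 this

theorem four_mul_eq_zero {r : ℕ} (hr : r.Prime) (hr2 : r ≠ 2) (i : ZMod r)
    (h : i + i + (i + i) = 0) : i = 0 := by
  haveI : Fact r.Prime := ⟨hr⟩
  have h2 := two_ne_zero_zmod hr hr2
  have h4 : (2 : ZMod r) * (2 * i) = 0 := by rw [← h]; ring
  rcases mul_eq_zero.mp h4 with h | h
  · exact absurd h h2
  · rcases mul_eq_zero.mp h with h | h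
    · exact absurd h h2
    · exact h

theorem xprop_dihedral {r : ℕ} (hr : r.Prime) (hr2 : r ≠ 2) (Y : Subgroup (DihedralGroup r))
    (hY : Cfsg.IsElementaryAbelian 2 Y) (hne : Y ≠ ⊥) : XProp 2 Y := by
  haveI : Fact r.Prime := ⟨hr⟩
  haveI : NeZero r := ⟨hr.ne_zero⟩
  have h2 := two_ne_zero_zmod hr hr2
  obtain ⟨hYc, hYe⟩ := hY
  have hcomm : ∀ a ∈ Y, ∀ b ∈ Y, a * b = b * a := by
    intro a ha b hb
    have := hYc.is_comm.comm (⟨a, ha⟩ : Y) ⟨b, hb⟩
    exact congrArg Subtype.val this
  -- a reflection in Y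
  obtain ⟨j, hj⟩ : ∃ j : ZMod r, DihedralGroup.sr j ∈ Y := by
    obtain ⟨y, hy, hy1⟩ : ∃ y ∈ Y, y ≠ 1 := by
      by_contra hcon
      push_neg at hcon
      apply hne
      rw [eq_bot_iff]
      intro y hy
      rw [Subgroup.mem_bot]
      exact hcon y hy
    cases y with
    | r i =>
      exfalso
      have h1 := hYe _ hy
      rw [DihedralGroup.r_pow] at h1
      have h3 : (i * ((2 : ℕ) : ZMod r)) = 0 := by
        have := h1
        rw [← DihedralGroup.r_zero] at this
        exact DihedralGroup.r.inj this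
      have h4 : i = 0 := by
        rcases mul_eq_zero.mp h3 with h | h
        · exact h
        · exfalso; apply h2; exact_mod_cast h
      apply hy1
      rw [h4]; rfl
    | sr j => exact ⟨j, hy⟩
  intro x hx
  cases x with
  | sr k =>
    exfalso
    apply hx
    exact ⟨1, by rw [DihedralGroup.orderOf_sr, pow_one]⟩
  | r i =>
    have hi : i ≠ 0 := by
      intro h0
      apply hx
      refine ⟨0, ?_⟩
      rw [h0, DihedralGroup.r_zero, orderOf_one, pow_zero]
    -- k with 2k = i
    obtain ⟨k, hk⟩ : ∃ k : ZMod r, k + k = i := by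
      refine ⟨i * (2 : ZMod r)⁻¹, ?_⟩
      have : i * (2 : ZMod r)⁻¹ + i * (2 : ZMod r)⁻¹ = i * ((2 : ZMod r)⁻¹ * 2) := by ring
      rw [this, inv_mul_cancel₀ h2, mul_one]
    have hu : DihedralGroup.r k * DihedralGroup.sr j * (DihedralGroup.r k)⁻¹ =
        DihedralGroup.sr (j - i) := by
      rw [DihedralGroup.inv_r, DihedralGroup.r_mul_sr, DihedralGroup.sr_mul_r, ← hk]
      congr 1
      ring
    refine ⟨1, 1, Y.one_mem, Or.inl rfl, DihedralGroup.r k, 1, DihedralGroup.sr j,
      DihedralGroup.sr j, hj, hj, ?_, ?_, ?_⟩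
    · rw [hu, pow_one, mul_one, one_mul, inv_one, mul_one, DihedralGroup.sr_mul_sr]
      congr 1
      ring
    · rw [hu]
      intro hmem
      have hmap : (Y.map (MulAut.conj (1 : DihedralGroup r)).toMonoidHom : Subgroup _) = Y := by
        ext z
        simp
      rw [hmap, Subgroup.mem_normalizer_iff] at hmem
      have h1 := (hmem (DihedralGroup.sr j)).mp hj
      have h3 := hcomm _ h1 _ hj
      rw [DihedralGroup.inv_sr, DihedralGroup.sr_mul_sr, DihedralGroup.r_mul_sr,
        DihedralGroup.sr_mul_sr, DihedralGroup.sr_mul_sr] at h3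
      have h4 := DihedralGroup.r.inj h3
      apply hi
      apply four_mul_eq_zero hr hr2
      linear_combination h4
    · rw [one_mul, inv_one, mul_one]
      intro hmem
      rw [Subgroup.mem_normalizer_iff] at hmem
      have hu' : DihedralGroup.sr (j - i) ∈
          (Y.map (MulAut.conj (DihedralGroup.r k)).toMonoidHom : Subgroup _) := by
        refine ⟨DihedralGroup.sr j, hj, ?_⟩
        simpa using hu
      have h1 := (hmem (DihedralGroup.sr (j - i))).mp hu'
      -- commutativity of the conjugate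
      have hcomm' : ∀ a ∈ (Y.map (MulAut.conj (DihedralGroup.r k)).toMonoidHom : Subgroup _),
          ∀ b ∈ (Y.map (MulAut.conj (DihedralGroup.r k)).toMonoidHom : Subgroup _),
            a * b = b * a := by
        rintro _ ⟨a, ha, rfl⟩ _ ⟨b, hb, rfl⟩
        rw [← map_mul, ← map_mul, hcomm a ha b hb]
      have h3 := hcomm' _ h1 _ hu'
      rw [DihedralGroup.inv_sr, DihedralGroup.sr_mul_sr, DihedralGroup.r_mul_sr,
        DihedralGroup.sr_mul_sr, DihedralGroup.sr_mul_sr] at h3
      have h4 := DihedralGroup.r.inj h3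
      apply hi
      apply four_mul_eq_zero hr hr2
      linear_combination (-1 : ZMod r) * h4

end Cfsg.Agent.Lib.Helper1.FPFDih
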