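import Mathlib
import Cfsg.Agent.Lib.Helper1.FF16

/-! Two subnormal subgroups acting irreducibly on incomparable commutator modules: basics. -/
set_option autoImplicit false
universe u v
open Cfsg
open scoped commutatorElement Pointwise

namespace Cfsg.Agent.Lib.Helper1.FS
open Cfsg.Agent.Lib.Helper1.FF

variable {G : Type u} [Group G] {p : ℕ}

theorem map_conj_mul (W : Subgroup G) (g x : G) :
    (W.map (MulAut.conj x).toMonoidHom).map (MulAut.conj g).toMonoidHom =
      W.map (MulAut.conj (g * x)).toMonoidHom := by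
  rw [Subgroup.map_map]
  congr 1
  ext y
  simp [MulAut.conj_apply, mul_assoc]

theorem map_conj_one (W : Subgroup G) : W.map (MulAut.conj (1 : G)).toMonoidHom = W := by
  ext y
  simp

theorem map_conj_inv_map_conj (W : Subgroup G) (g : G) :
    (W.map (MulAut.conj g).toMonoidHom).map (MulAut.conj g⁻¹).toMonoidHom = W := by
  rw [map_conj_mul, inv_mul_cancel, map_conj_one]

theorem map_conj_map_conj_inv (W : Subgroup G) (g : G) :
    (W.map (MulAut.conj g⁻¹).toMonoidHom).map (MulAut.conj g).toMonoidHom = W := by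
  rw [map_conj_mul, mul_inv_cancel, map_conj_one]

theorem map_conj_inf (A B : Subgroup G) (g : G) :
    (A ⊓ B).map (MulAut.conj g).toMonoidHom =
      A.map (MulAut.conj g).toMonoidHom ⊓ B.map (MulAut.conj g).toMonoidHom :=
  Subgroup.map_inf A B _ (MulAut.conj g).injective

theorem map_conj_le_normalizer {A U : Subgroup G} (g : G)
    (h : A ≤ Subgroup.normalizer (U : Set G)) :
    A.map (MulAut.conj g).toMonoidHom ≤
      Subgroup.normalizer ((U.map (MulAut.conj g).toMonoidHom : Subgroup G) : Set G) := by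
  apply Cfsg.Agent.Lib.Helper1.le_normalizer_of_conj_mem
  rintro _ ⟨a, ha, rfl⟩ _ ⟨u, hu, rfl⟩
  refine ⟨a * u * a⁻¹, (Subgroup.mem_normalizer_iff.mp (h ha) u).mp hu, ?_⟩
  simp [MulAut.conj_apply, mul_assoc]

theorem map_conj_le_centralizer {A U : Subgroup G} (g : G)
    (h : A ≤ Subgroup.centralizer (U : Set G)) :
    A.map (MulAut.conj g).toMonoidHom ≤
      Subgroup.centralizer ((U.map (MulAut.conj g).toMonoidHom : Subgroup G) : Set G) := by
  rintro _ ⟨a, ha, rfl⟩
  rw [Subgroup.mem_centralizer_iff]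
  rintro _ ⟨u, hu, rfl⟩
  have := (Subgroup.mem_centralizer_iff.mp (h ha)) u hu
  simp only [MulEquiv.coe_toMonoidHom, MulAut.conj_apply]
  calc g * u * g⁻¹ * (g * a * g⁻¹) = g * (u * a) * g⁻¹ := by group
    _ = g * (a * u) * g⁻¹ := by rw [this]
    _ = _ := by group

/-- the hypotheses on a single subgroup -/
structure Good (p : ℕ) (V E₀ : Subgroup G) : Prop where
  hEV : E₀ ≤ Subgroup.normalizer (V : Set G)
  hfaith : E₀ ⊓ Subgroup.centralizer (V : Set G) = ⊥
  hO : ∀ P : Subgroup G, P ≤ E₀ → IsPGroup p P → E₀ ≤ Subgroup.normalizer (P : Set G) → P = ⊥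
  hirr : ∀ U : Subgroup G, U ≤ ⁅V, E₀⁆ → E₀ ≤ Subgroup.normalizer (U : Set G) →
    U = ⊥ ∨ U = ⁅V, E₀⁆
  hc : 2 < Nat.card E₀

namespace Good

variable {V E₀ : Subgroup G}

theorem W_le_V (h : Good p V E₀) : ⁅V, E₀⁆ ≤ V := commutator_le_of_le_normalizer _ _ h.hEV

theorem le_normalizer_W (_h : Good p V E₀) :
    E₀ ≤ Subgroup.normalizer ((⁅V, E₀⁆ : Subgroup G) : Set G) :=
  le_normalizer_commutator_right V E₀

theorem conj (h : Good p V E₀) {g : G} (hg : g ∈ Subgroup.normalizer (V : Set G)) :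
    Good p V (E₀.map (MulAut.conj g).toMonoidHom) where
  hEV := by
    have := map_conj_le_normalizer g h.hEV
    rwa [map_conj_eq_of_mem_normalizer' V hg] at this
  hfaith := by
    rw [eq_bot_iff]
    rintro _ ⟨⟨a, ha, rfl⟩, hc⟩
    rw [Subgroup.mem_bot]
    have hac : a ∈ E₀ ⊓ Subgroup.centralizer (V : Set G) := by
      refine Subgroup.mem_inf.mpr ⟨ha, ?_⟩
      have h1 := map_conj_le_centralizer g⁻¹
        (show Subgroup.zpowers ((MulAut.conj g).toMonoidHom a) ≤ Subgroup.centralizer (V : Set G) by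
          rw [Subgroup.zpowers_le]; exact hc)
      rw [map_conj_eq_of_mem_normalizer' V (Subgroup.inv_mem _ hg)] at h1
      have h2 : a ∈ (Subgroup.zpowers ((MulAut.conj g).toMonoidHom a)).map
          (MulAut.conj g⁻¹).toMonoidHom :=
        ⟨_, Subgroup.mem_zpowers _, by simp [MulAut.conj_apply, mul_assoc]⟩
      exact h1 h2
    rw [h.hfaith, Subgroup.mem_bot] at hac
    rw [hac, map_one]
  hO := by
    intro P hP hPp hPn
    have h1 : P.map (MulAut.conj g⁻¹).toMonoidHom = ⊥ := by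
      apply h.hO
      · have := Subgroup.map_mono (f := (MulAut.conj g⁻¹).toMonoidHom) hP
        rwa [map_conj_inv_map_conj] at this
      · exact hPp.map _
      · have := map_conj_le_normalizer g⁻¹ hPn
        rwa [map_conj_inv_map_conj] at this
    have h2 := congrArg (Subgroup.map (MulAut.conj g).toMonoidHom) h1
    rwa [map_conj_map_conj_inv, Subgroup.map_bot] at h2
  hirr := by
    intro U hU hUn
    rw [commutator_map_conj V E₀ hg] at hU ⊢
    have h1 : U.map (MulAut.conj g⁻¹).toMonoidHom = ⊥ ∨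
        U.map (MulAut.conj g⁻¹).toMonoidHom = ⁅V, E₀⁆ := by
      apply h.hirr
      · have := Subgroup.map_mono (f := (MulAut.conj g⁻¹).toMonoidHom) hU
        rwa [map_conj_inv_map_conj] at this
      · have := map_conj_le_normalizer g⁻¹ hUn
        rwa [map_conj_inv_map_conj] at this
    rcases h1 with h1 | h1
    · left
      have h2 := congrArg (Subgroup.map (MulAut.conj g).toMonoidHom) h1
      rwa [map_conj_map_conj_inv, Subgroup.map_bot] at h2
    · right
      have h2 := congrArg (Subgroup.map (MulAut.conj g).toMonoidHom) h1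
      rwa [map_conj_map_conj_inv] at h2
  hc := by
    rw [Subgroup.card_map_of_injective (MulAut.conj g).injective]
    exact h.hc

theorem ne_bot (h : Good p V E₀) : E₀ ≠ ⊥ := by
  intro h0
  have := h.hc
  rw [h0, Subgroup.card_bot] at this
  omega

/-- `E₀` acts nontrivially on `[V,E₀]` -/
theorem commutator_W (hV : IsElementaryAbelian p V) (h : Good p V E₀) :
    ⁅⁅V, E₀⁆, E₀⁆ = ⁅V, E₀⁆ := by
  have h1 : ⁅⁅V, E₀⁆, E₀⁆ ≤ ⁅V, E₀⁆ :=
    Subgroup.le_normalizer_iff_commutator_le_left.mp h.le_normalizer_W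
  rcases h.hirr _ h1 (le_normalizer_commutator_right _ E₀) with h2 | h2
  · exfalso
    apply h.ne_bot
    exact h.hO E₀ le_rfl (isPGroup_of_quadratic hV h.hEV h.hfaith h2) Subgroup.le_normalizer
  · exact h2

theorem W_ne_bot (hV : IsElementaryAbelian p V) (h : Good p V E₀) : ⁅V, E₀⁆ ≠ ⊥ := by
  intro h0
  apply h.ne_bot
  rw [eq_bot_iff, ← h.hfaith]
  exact le_inf le_rfl (le_centralizer_of_commutator_eq_bot h0)

/-- a subgroup normalized by `E₀` not containing `[V,E₀]` meets it trivially -/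
theorem inf_eq_bot_of_normalizes (h : Good p V E₀) {W' : Subgroup G}
    (hn : E₀ ≤ Subgroup.normalizer (W' : Set G)) (hnot : ¬ ⁅V, E₀⁆ ≤ W') : ⁅V, E₀⁆ ⊓ W' = ⊥ := by
  rcases h.hirr _ inf_le_left (Cfsg.Agent.Lib.Helper1.le_normalizer_inf h.le_normalizer_W hn)
    with h1 | h1
  · exact h1
  · exfalso
    apply hnot
    rw [← h1]; exact inf_le_right

/-- `E₀` does not centralize `[V,E₀]` -/
theorem not_le_centralizer_W (hV : IsElementaryAbelian p V) (h : Good p V E₀) :
    ¬ E₀ ≤ Subgroup.centralizer ((⁅V, E₀⁆ : Subgroup G) : Set G) := by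
  intro hcon
  apply h.W_ne_bot hV
  rw [← h.commutator_W hV, Subgroup.commutator_eq_bot_iff_le_centralizer, Subgroup.le_centralizer_iff]
  exact hcon

end Good

/-- the case where both commutator modules are invariant -/
theorem normal_case {V E₁ E₂ : Subgroup G} (hV : IsElementaryAbelian p V) (g₁ : Good p V E₁)
    (g₂ : Good p V E₂) (hf : (E₁ ⊔ E₂) ⊓ Subgroup.centralizer (V : Set G) = ⊥)
    (h12 : ¬ ⁅V, E₁⁆ ≤ ⁅V, E₂⁆) (h21 : ¬ ⁅V, E₂⁆ ≤ ⁅V, E₁⁆)
    (hn₁ : E₂ ≤ Subgroup.normalizer ((⁅V, E₁⁆ : Subgroup G) : Set G))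
    (hn₂ : E₁ ≤ Subgroup.normalizer ((⁅V, E₂⁆ : Subgroup G) : Set G)) :
    ⁅E₁, E₂⁆ = ⊥ ∧ E₁ ⊓ E₂ = ⊥ ∧ ⁅V, E₁⁆ ⊓ ⁅V, E₂⁆ = ⊥ := by
  have hW := g₁.inf_eq_bot_of_normalizes hn₂ h12
  have c1 : ⁅⁅V, E₁⁆, E₂⁆ = ⊥ := by
    rw [eq_bot_iff, ← hW]
    exact le_inf (Subgroup.le_normalizer_iff_commutator_le_left.mp hn₁)
      (Subgroup.commutator_mono g₁.W_le_V le_rfl)
  have c2 : ⁅⁅V, E₂⁆, E₁⁆ = ⊥ := by
    rw [eq_bot_iff, ← hW, inf_comm]
    exact le_inf (Subgroup.le_normalizer_iff_commutator_le_left.mp hn₂)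
      (Subgroup.commutator_mono g₂.W_le_V le_rfl)
  have c3 : ⁅E₁, E₂⁆ = ⊥ := by
    have h3 : ⁅⁅E₁, E₂⁆, V⁆ = ⊥ := by
      apply Subgroup.commutator_commutator_eq_bot_of_rotate
      · rw [Subgroup.commutator_comm E₂ V]; exact c2
      · exact c1
    rw [Subgroup.commutator_eq_bot_iff_le_centralizer] at h3
    rw [eq_bot_iff, ← hf]
    exact le_inf (commutator_le_sup E₁ E₂) h3
  refine ⟨c3, ?_, hW⟩
  apply g₁.hO _ inf_le_left
  · apply isPGroup_of_quadratic hV (inf_le_left.trans g₁.hEV)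
    · rw [eq_bot_iff, ← g₁.hfaith]
      exact inf_le_inf_right _ inf_le_left
    · rw [eq_bot_iff, ← c2]
      exact Subgroup.commutator_mono (Subgroup.commutator_mono le_rfl inf_le_right) inf_le_left
  · apply Cfsg.Agent.Lib.Helper1.le_normalizer_inf Subgroup.le_normalizer
    rw [Subgroup.commutator_eq_bot_iff_le_centralizer] at c3
    exact c3.trans (Subgroup.centralizer_le_normalizer _)

end Cfsg.Agent.Lib.Helper1.FS
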