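import Mathlib
import Cfsg.Agent.Lib.Helper1.FS1

/-! The induction step. -/
set_option autoImplicit false
universe u v
open Cfsg
open scoped commutatorElement Pointwise

namespace Cfsg.Agent.Lib.Helper1.FS
open Cfsg.Agent.Lib.Helper1.FF

variable {G : Type u} [Group G] {p : ℕ}

/-- conjugate of a subgroup -/
abbrev cj (g : G) (W : Subgroup G) : Subgroup G := W.map (MulAut.conj g).toMonoidHom

theorem card_cj [Finite G] (g : G) (W : Subgroup G) : Nat.card (cj g W) = Nat.card W :=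
  Subgroup.card_map_of_injective (MulAut.conj g).injective

theorem cj_le_sup_commutator {V E₂ W : Subgroup G} (hWV : W ≤ V) {g : G} (hg : g ∈ E₂) :
    cj g W ≤ W ⊔ ⁅V, E₂⁆ := by
  rintro _ ⟨w, hw, rfl⟩
  have : (MulAut.conj g).toMonoidHom w = (⁅w, g⁆)⁻¹ * w := by
    simp only [MulEquiv.coe_toMonoidHom, MulAut.conj_apply, commutatorElement_def]
    group
  rw [this, sup_comm]
  exact Subgroup.mul_mem_sup (Subgroup.inv_mem _
    (Subgroup.commutator_mem_commutator (hWV hw) hg)) hw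

/-- an element of `E₂` normalizing `W'` centralizes it if `W' ∩ [V,E₂] = 1` -/
theorem mem_centralizer_of_cj_eq {V E₂ W' : Subgroup G} (hWV : W' ≤ V) {g : G} (hg : g ∈ E₂)
    (hcj : cj g W' = W') (hdisj : W' ⊓ ⁅V, E₂⁆ = ⊥) :
    g ∈ Subgroup.centralizer (W' : Set G) := by
  rw [Subgroup.mem_centralizer_iff]
  intro w hw
  have h1 : g * w * g⁻¹ ∈ W' := by
    rw [← hcj]; exact ⟨w, hw, rfl⟩
  have h2 : g * w * g⁻¹ * w⁻¹ ∈ W' ⊓ ⁅V, E₂⁆ := by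
    refine Subgroup.mem_inf.mpr ⟨W'.mul_mem h1 (W'.inv_mem hw), ?_⟩
    have : g * w * g⁻¹ * w⁻¹ = (⁅w, g⁆)⁻¹ := by rw [commutatorElement_def]; group
    rw [this]
    exact Subgroup.inv_mem _ (Subgroup.commutator_mem_commutator (hWV hw) hg)
  rw [hdisj, Subgroup.mem_bot] at h2
  calc w * g = (g * w * g⁻¹ * w⁻¹)⁻¹ * g * w := by group
    _ = g * w := by rw [h2, inv_one, one_mul]

theorem le_normalizer_of_forall_cj_eq {E₂ W : Subgroup G} (h : ∀ g ∈ E₂, cj g W = W) :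
    E₂ ≤ Subgroup.normalizer (W : Set G) := by
  apply Cfsg.Agent.Lib.Helper1.le_normalizer_of_conj_mem
  intro g hg w hw
  rw [← h g hg]
  exact ⟨w, hw, rfl⟩

theorem cj_eq_of_mem_normalizer {W : Subgroup G} {g : G}
    (hg : g ∈ Subgroup.normalizer (W : Set G)) : cj g W = W :=
  map_conj_eq_of_mem_normalizer' W hg

/-- consequences of the key hypothesis for one conjugate -/
theorem conj_facts [Finite G] {V E₁ E₂ : Subgroup G} (g₁ : Good p V E₁) (g₂ : Good p V E₂)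
    (keyX : ∀ g ∈ E₂, cj g ⁅V, E₁⁆ ≠ ⁅V, E₁⁆ →
      E₁ ≤ Subgroup.normalizer ((cj g ⁅V, E₁⁆ : Subgroup G) : Set G))
    {g : G} (hg : g ∈ E₂) (hne : cj g ⁅V, E₁⁆ ≠ ⁅V, E₁⁆) :
    ⁅V, E₁⁆ ⊓ cj g ⁅V, E₁⁆ = ⊥ ∧
      E₁ ≤ Subgroup.centralizer ((cj g ⁅V, E₁⁆ : Subgroup G) : Set G) := by
  have hn := keyX g hg hne
  have hnot : ¬ ⁅V, E₁⁆ ≤ cj g ⁅V, E₁⁆ := by
    intro hle
    apply hne
    symm
    exact Subgroup.eq_of_le_of_card_ge hle (by rw [card_cj])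
  have hdisj := g₁.inf_eq_bot_of_normalizes hn hnot
  refine ⟨hdisj, ?_⟩
  apply le_centralizer_of_commutator_eq_bot
  rw [eq_bot_iff, ← hdisj, inf_comm]
  apply le_inf (Subgroup.le_normalizer_iff_commutator_le_left.mp hn)
  apply Subgroup.commutator_mono _ le_rfl
  have := Subgroup.map_mono (f := (MulAut.conj g).toMonoidHom) g₁.W_le_V
  rwa [map_conj_eq_of_mem_normalizer' V (g₂.hEV hg)] at this


/-- first consequence of a moved plane: `[W₂, E₁] = W₁` -/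
theorem commutator_eq_of_moved [Finite G] {V E₁ E₂ : Subgroup G} (hV : IsElementaryAbelian p V)
    (g₁ : Good p V E₁) (g₂ : Good p V E₂)
    (keyX : ∀ g ∈ E₂, cj g ⁅V, E₁⁆ ≠ ⁅V, E₁⁆ →
      E₁ ≤ Subgroup.normalizer ((cj g ⁅V, E₁⁆ : Subgroup G) : Set G))
    {x : G} (hx : x ∈ E₂) (hne : cj x ⁅V, E₁⁆ ≠ ⁅V, E₁⁆) :
    ⁅⁅V, E₂⁆, E₁⁆ = ⁅V, E₁⁆ := by
  obtain ⟨-, hcent⟩ := conj_facts g₁ g₂ keyX hx hne
  have hle : ⁅⁅V, E₂⁆, E₁⁆ ≤ ⁅V, E₁⁆ := Subgroup.commutator_mono g₂.W_le_V le_rfl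
  rcases g₁.hirr _ hle (le_normalizer_commutator_right _ E₁) with h | h
  · exfalso
    apply g₁.not_le_centralizer_W hV
    have hE₁W₂ : E₁ ≤ Subgroup.centralizer ((⁅V, E₂⁆ : Subgroup G) : Set G) :=
      le_centralizer_of_commutator_eq_bot h
    intro e he
    rw [Subgroup.mem_centralizer_iff]
    intro w hw
    have h1 : x * w * x⁻¹ ∈ cj x ⁅V, E₁⁆ := ⟨w, hw, rfl⟩
    have h2 := (Subgroup.mem_centralizer_iff.mp (hcent he)) _ h1
    have h3 : ⁅w, x⁆ ∈ ⁅V, E₂⁆ := Subgroup.commutator_mem_commutator (g₁.W_le_V hw) hx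
    have h4 := (Subgroup.mem_centralizer_iff.mp (hE₁W₂ he)) _ h3
    have e1 : w = ⁅w, x⁆ * (x * w * x⁻¹) := by rw [commutatorElement_def]; group
    calc w * e = ⁅w, x⁆ * (x * w * x⁻¹) * e := by rw [← e1]
      _ = ⁅w, x⁆ * ((x * w * x⁻¹) * e) := by group
      _ = ⁅w, x⁆ * (e * (x * w * x⁻¹)) := by rw [h2]
      _ = (⁅w, x⁆ * e) * (x * w * x⁻¹) := by group
      _ = (e * ⁅w, x⁆) * (x * w * x⁻¹) := by rw [h4]
      _ = e * (⁅w, x⁆ * (x * w * x⁻¹)) := by group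
      _ = e * w := by rw [← e1]
  · exact h

/-- counting in the doubly-moved case -/
theorem card_facts_of_moved [Finite G] {V W₁ W₂ X Y : Subgroup G}
    (hVc : ∀ x ∈ V, ∀ y ∈ V, x * y = y * x) (hW₁ : W₁ ≤ V) (hW₂ : W₂ ≤ V)
    (hX : X ≤ W₁ ⊔ W₂) (hY : Y ≤ W₁ ⊔ W₂) (hXc : Nat.card X = Nat.card W₁)
    (hYc : Nat.card Y = Nat.card W₂) (hX1 : W₁ ⊓ X = ⊥) (hY1 : W₂ ⊓ Y = ⊥) :
    W₁ ⊓ W₂ = ⊥ ∧ Nat.card W₁ = Nat.card W₂ ∧ W₁ ⊔ X = W₁ ⊔ W₂ := by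
  have hU : W₁ ⊔ W₂ ≤ V := sup_le hW₁ hW₂
  have k0 := card_sup_mul_card_inf_of_le_abelian hVc hW₁ hW₂
  have k1 := card_sup_mul_card_inf_of_le_abelian hVc hW₁ (hX.trans hU)
  have k2 := card_sup_mul_card_inf_of_le_abelian hVc hW₂ (hY.trans hU)
  rw [hX1, Subgroup.card_bot, mul_one, hXc] at k1
  rw [hY1, Subgroup.card_bot, mul_one, hYc] at k2
  have l1 : Nat.card ↥(W₁ ⊔ X : Subgroup G) ≤ Nat.card ↥(W₁ ⊔ W₂ : Subgroup G) :=
    Nat.le_of_dvd Nat.card_pos (Subgroup.card_dvd_of_le (sup_le le_sup_left hX))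
  have l2 : Nat.card ↥(W₂ ⊔ Y : Subgroup G) ≤ Nat.card ↥(W₁ ⊔ W₂ : Subgroup G) :=
    Nat.le_of_dvd Nat.card_pos (Subgroup.card_dvd_of_le (sup_le le_sup_right hY))
  rw [k1] at l1
  rw [k2] at l2
  obtain ⟨a, ha⟩ : ∃ a, a = Nat.card W₁ := ⟨_, rfl⟩
  obtain ⟨b, hb⟩ : ∃ b, b = Nat.card W₂ := ⟨_, rfl⟩
  obtain ⟨c, hc⟩ : ∃ c, c = Nat.card ↥(W₁ ⊓ W₂ : Subgroup G) := ⟨_, rfl⟩
  obtain ⟨u, hu⟩ : ∃ u, u = Nat.card ↥(W₁ ⊔ W₂ : Subgroup G) := ⟨_, rfl⟩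
  rw [← ha, ← hb, ← hc, ← hu] at k0
  rw [← ha, ← hu] at l1
  rw [← hb, ← hu] at l2
  have ha0 : 0 < a := ha ▸ Nat.card_pos
  have hb0 : 0 < b := hb ▸ Nat.card_pos
  have hc0 : 0 < c := hc ▸ Nat.card_pos
  -- a*a ≤ u, b*b ≤ u, u*c = a*b
  have hc1 : c = 1 := by
    by_contra hne
    have hc2 : 2 ≤ c := by omega
    have h1 : a * a * c ≤ a * b := by rw [← k0]; exact Nat.mul_le_mul_right c l1
    have h2 : b * b * c ≤ a * b := by rw [← k0]; exact Nat.mul_le_mul_right c l2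
    have h3 : a * c ≤ b := by
      have : a * (a * c) ≤ a * b := by rw [← mul_assoc]; exact h1
      exact Nat.le_of_mul_le_mul_left this ha0
    have h4 : b * c ≤ a := by
      have : b * (b * c) ≤ b * a := by rw [← mul_assoc, mul_comm b a]; exact h2
      exact Nat.le_of_mul_le_mul_left this hb0
    nlinarith
  rw [hc1, mul_one] at k0
  have hab : a = b := by
    have h1 : a * a ≤ a * b := k0 ▸ l1
    have h2 : b * b ≤ a * b := k0 ▸ l2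
    have h3 : a ≤ b := Nat.le_of_mul_le_mul_left h1 ha0
    have h4 : b ≤ a := by
      have : b * b ≤ b * a := by rw [mul_comm b a]; exact h2
      exact Nat.le_of_mul_le_mul_left this hb0
    omega
  refine ⟨Subgroup.card_eq_one.mp (hc ▸ hc1), by rw [← ha, ← hb, hab], ?_⟩
  apply Subgroup.eq_of_le_of_card_ge (sup_le le_sup_left hX)
  rw [k1, ← hu, k0, ← ha, hab]

end Cfsg.Agent.Lib.Helper1.FS
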