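import Mathlib
import Cfsg.Agent.Lib.Helper1.FS2

/-! The induction step: `E₂` normalizes `[V,E₁]`. -/
set_option autoImplicit false
universe u v
open Cfsg
open scoped commutatorElement Pointwise

namespace Cfsg.Agent.Lib.Helper1.FS
open Cfsg.Agent.Lib.Helper1.FF

variable {G : Type u} [Group G] {p : ℕ}

theorem cj_mul (W : Subgroup G) (g x : G) : cj g (cj x W) = cj (g * x) W := map_conj_mul W g x

theorem cj_inv_cj (W : Subgroup G) (g : G) : cj g⁻¹ (cj g W) = W := map_conj_inv_map_conj W g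

theorem cj_inf (A B : Subgroup G) (g : G) : cj g (A ⊓ B) = cj g A ⊓ cj g B := map_conj_inf A B g

theorem cj_bot (g : G) : cj g (⊥ : Subgroup G) = ⊥ := Subgroup.map_bot _

theorem cj_sup (A B : Subgroup G) (g : G) : cj g (A ⊔ B) = cj g A ⊔ cj g B :=
  Subgroup.map_sup A B _

theorem step [Finite G] [hp : Fact p.Prime] {V E₁ E₂ : Subgroup G} (hV : IsElementaryAbelian p V)
    (g₁ : Good p V E₁) (g₂ : Good p V E₂)
    (hf : (E₁ ⊔ E₂) ⊓ Subgroup.centralizer (V : Set G) = ⊥)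
    (h12 : ¬ ⁅V, E₁⁆ ≤ ⁅V, E₂⁆) (h21 : ¬ ⁅V, E₂⁆ ≤ ⁅V, E₁⁆)
    (keyX : ∀ g ∈ E₂, cj g ⁅V, E₁⁆ ≠ ⁅V, E₁⁆ →
      E₁ ≤ Subgroup.normalizer ((cj g ⁅V, E₁⁆ : Subgroup G) : Set G))
    (keyY : ∀ g ∈ E₁, cj g ⁅V, E₂⁆ ≠ ⁅V, E₂⁆ →
      E₂ ≤ Subgroup.normalizer ((cj g ⁅V, E₂⁆ : Subgroup G) : Set G)) :
    E₂ ≤ Subgroup.normalizer ((⁅V, E₁⁆ : Subgroup G) : Set G) := by
  by_contra hcon
  have hVc : ∀ x ∈ V, ∀ y ∈ V, x * y = y * x :=
    fun x hx y hy => isElementaryAbelian_comm hV hx hy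
  obtain ⟨x, hx, hxne⟩ : ∃ x ∈ E₂, cj x ⁅V, E₁⁆ ≠ ⁅V, E₁⁆ := by
    by_contra h
    push Not at h
    exact hcon (le_normalizer_of_forall_cj_eq h)
  have hT := commutator_eq_of_moved hV g₁ g₂ keyX hx hxne
  obtain ⟨y, hy, hyne⟩ : ∃ y ∈ E₁, cj y ⁅V, E₂⁆ ≠ ⁅V, E₂⁆ := by
    by_contra h
    push Not at h
    apply h12
    rw [← hT]
    exact Subgroup.le_normalizer_iff_commutator_le_left.mp (le_normalizer_of_forall_cj_eq h)
  obtain ⟨hdx, hcx⟩ := conj_facts g₁ g₂ keyX hx hxne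
  obtain ⟨hdy, -⟩ := conj_facts g₂ g₁ keyY hy hyne
  obtain ⟨W₁, hW₁⟩ : ∃ W₁ : Subgroup G, W₁ = ⁅V, E₁⁆ := ⟨_, rfl⟩
  obtain ⟨W₂, hW₂⟩ : ∃ W₂ : Subgroup G, W₂ = ⁅V, E₂⁆ := ⟨_, rfl⟩
  rw [← hW₁] at hxne hdx hcx keyX hcon h12 h21
  rw [← hW₂] at hyne hdy keyY h12 h21
  have hW₁V : W₁ ≤ V := hW₁ ▸ g₁.W_le_V
  have hW₂V : W₂ ≤ V := hW₂ ▸ g₂.W_le_V
  have hL2 : ∀ g ∈ E₂, cj g W₁ ≤ W₁ ⊔ W₂ := by
    intro g hg
    rw [hW₂]
    exact cj_le_sup_commutator hW₁V hg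
  have hL2' : cj y W₂ ≤ W₁ ⊔ W₂ := by
    rw [hW₁, sup_comm]
    exact cj_le_sup_commutator hW₂V hy
  obtain ⟨hW12, hcard, hU⟩ := card_facts_of_moved hVc hW₁V hW₂V (hL2 x hx) hL2'
    (card_cj x W₁) (card_cj y W₂) hdx hdy
  have hE₂W₂ : E₂ ≤ Subgroup.normalizer (W₂ : Set G) := hW₂ ▸ g₂.le_normalizer_W
  have hcjW₂ : ∀ g ∈ E₂, cj g W₂ = W₂ := fun g hg => cj_eq_of_mem_normalizer (hE₂W₂ hg)
  -- the key facts for an arbitrary moving element
  have hfacts : ∀ g ∈ E₂, cj g W₁ ≠ W₁ → W₁ ⊓ cj g W₁ = ⊥ ∧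
      E₁ ≤ Subgroup.centralizer ((cj g W₁ : Subgroup G) : Set G) := by
    intro g hg hne
    have := conj_facts g₁ g₂ (hW₁ ▸ keyX) hg (hW₁ ▸ hne)
    rw [← hW₁] at this
    exact this
  have hnotcent : ¬ E₁ ≤ Subgroup.centralizer (W₁ : Set G) := hW₁ ▸ g₁.not_le_centralizer_W hV
  -- the orbit has two elements
  have horbit : ∀ g ∈ E₂, cj g W₁ = W₁ ∨ cj g W₁ = cj x W₁ := by
    intro g hg
    by_contra hne
    push Not at hne
    obtain ⟨hne1, hne2⟩ := hne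
    obtain ⟨-, hcg⟩ := hfacts g hg hne1
    have hg' : x⁻¹ * g ∈ E₂ := E₂.mul_mem (E₂.inv_mem hx) hg
    have hne' : cj (x⁻¹ * g) W₁ ≠ W₁ := by
      intro h
      apply hne2
      have h2 := congrArg (cj x) h
      rw [cj_mul, mul_inv_cancel_left] at h2
      exact h2
    obtain ⟨hd', -⟩ := hfacts _ hg' hne'
    have hd'' : cj x W₁ ⊓ cj g W₁ = ⊥ := by
      have h2 := congrArg (cj x) hd'
      rw [cj_inf, cj_mul, mul_inv_cancel_left, cj_bot] at h2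
      exact h2
    have hsup : cj x W₁ ⊔ cj g W₁ = W₁ ⊔ W₂ := by
      apply Subgroup.eq_of_le_of_card_ge (sup_le (hL2 x hx) (hL2 g hg))
      have k1 := card_sup_mul_card_inf_of_le_abelian hVc ((hL2 x hx).trans (sup_le hW₁V hW₂V))
        ((hL2 g hg).trans (sup_le hW₁V hW₂V))
      rw [hd'', Subgroup.card_bot, mul_one, card_cj, card_cj] at k1
      have k2 := card_sup_mul_card_inf_of_le_abelian hVc hW₁V hW₂V
      rw [hW12, Subgroup.card_bot, mul_one, ← hcard] at k2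
      rw [k1, k2]
    apply hnotcent
    have h3 : E₁ ≤ Subgroup.centralizer (((cj x W₁ ⊔ cj g W₁ : Subgroup G)) : Set G) := by
      rw [centralizer_sup_eq]
      exact le_inf hcx hcg
    rw [hsup] at h3
    exact h3.trans (Subgroup.centralizer_le (show W₁ ≤ W₁ ⊔ W₂ from le_sup_left))
  -- the kernel of the action on `U`
  obtain ⟨U, hUdef⟩ : ∃ U : Subgroup G, U = W₁ ⊔ W₂ := ⟨_, rfl⟩
  have hE₂U : E₂ ≤ Subgroup.normalizer (U : Set G) := by
    apply Cfsg.Agent.Lib.Helper1.le_normalizer_of_conj_mem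
    intro g hg u hu
    have h1 : cj g U ≤ U := by
      rw [hUdef, cj_sup, hcjW₂ g hg]
      exact sup_le (hL2 g hg) le_sup_right
    exact h1 ⟨u, hu, rfl⟩
  have hR : E₂ ⊓ Subgroup.centralizer (U : Set G) = ⊥ := by
    apply g₂.hO _ inf_le_left
    · apply isPGroup_of_quadratic hV (inf_le_left.trans g₂.hEV)
      · rw [eq_bot_iff, ← g₂.hfaith]
        exact inf_le_inf_right _ inf_le_left
      · rw [Subgroup.commutator_eq_bot_iff_le_centralizer]
        calc ⁅V, E₂ ⊓ Subgroup.centralizer (U : Set G)⁆ ≤ ⁅V, E₂⁆ :=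
              Subgroup.commutator_mono le_rfl inf_le_left
          _ = W₂ := hW₂.symm
          _ ≤ U := hUdef ▸ le_sup_right
          _ ≤ Subgroup.centralizer ((E₂ ⊓ Subgroup.centralizer (U : Set G) : Subgroup G) : Set G) := by
              rw [Subgroup.le_centralizer_iff]
              exact inf_le_right
    · exact Cfsg.Agent.Lib.Helper1.le_normalizer_inf Subgroup.le_normalizer
        (hE₂U.trans (normalizer_le_normalizer_centralizer U))
  -- elements fixing `W₁` are trivial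
  have hfix : ∀ g ∈ E₂, cj g W₁ = W₁ → g = 1 := by
    intro g hg hgW
    have hc1 : g ∈ Subgroup.centralizer (W₁ : Set G) :=
      mem_centralizer_of_cj_eq hW₁V hg hgW (hW₂ ▸ hW12)
    have hgx : cj g (cj x W₁) = cj x W₁ := by
      rw [cj_mul]
      rcases horbit (g * x) (E₂.mul_mem hg hx) with h | h
      · exfalso
        apply hxne
        rw [← cj_mul] at h
        have h2 : cj g (cj x W₁) = cj g W₁ := h.trans hgW.symm
        have h3 := congrArg (cj g⁻¹) h2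
        rw [cj_inv_cj, cj_inv_cj] at h3
        exact h3
      · exact h
    have hdisj : cj x W₁ ⊓ ⁅V, E₂⁆ = ⊥ := by
      rw [← hW₂]
      have h2 := congrArg (cj x) hW12
      rw [cj_inf, hcjW₂ x hx, cj_bot] at h2
      exact h2
    have hc2 : g ∈ Subgroup.centralizer ((cj x W₁ : Subgroup G) : Set G) :=
      mem_centralizer_of_cj_eq ((hL2 x hx).trans (sup_le hW₁V hW₂V)) hg hgx hdisj
    have hmem : g ∈ E₂ ⊓ Subgroup.centralizer (U : Set G) := by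
      refine Subgroup.mem_inf.mpr ⟨hg, ?_⟩
      rw [hUdef, ← hU, centralizer_sup_eq]
      exact Subgroup.mem_inf.mpr ⟨hc1, hc2⟩
    rw [hR, Subgroup.mem_bot] at hmem
    exact hmem
  -- hence `|E₂| ≤ 2`
  have hsub : (E₂ : Set G) ⊆ {1, x} := by
    intro g hg
    rcases horbit g hg with h | h
    · left; exact hfix g hg h
    · right
      have hg' : x⁻¹ * g ∈ E₂ := E₂.mul_mem (E₂.inv_mem hx) hg
      have h2 : cj (x⁻¹ * g) W₁ = W₁ := by
        rw [← cj_mul, h, cj_inv_cj]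
      have h3 := hfix _ hg' h2
      rw [Set.mem_singleton_iff]
      calc g = x * (x⁻¹ * g) := by group
        _ = x := by rw [h3, mul_one]
  have hle : Nat.card E₂ ≤ 2 := by
    have h1 : Nat.card E₂ = (E₂ : Set G).ncard := (Nat.card_coe_set_eq _)
    rw [h1]
    calc (E₂ : Set G).ncard ≤ ({1, x} : Set G).ncard :=
          Set.ncard_le_ncard hsub (Set.toFinite _)
      _ ≤ 2 := Set.ncard_insert_le 1 {x} |>.trans (by rw [Set.ncard_singleton])
  have := g₂.hc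
  omega

end Cfsg.Agent.Lib.Helper1.FS
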