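import Mathlib
import Cfsg.Agent.Lib.Helper1.FS3
import Cfsg.Agent.Lib.Helper1.SubnormalPCore

/-! The induction, and the final statement. -/
set_option autoImplicit false
universe u v
open Cfsg
open scoped commutatorElement Pointwise

namespace Cfsg.Agent.Lib.Helper1.FS
open Cfsg.Agent.Lib.Helper1.FF

variable {G : Type u} [Group G] {p : ℕ}

theorem isSubnormal_subgroupOf_of_le {H K' K : Subgroup G} (hK : K' ≤ K)
    (h : (H.subgroupOf K).IsSubnormal) : (H.subgroupOf K').IsSubnormal := by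
  have h1 := h.comap (Subgroup.inclusion hK)
  have h2 : (H.subgroupOf K).comap (Subgroup.inclusion hK) = H.subgroupOf K' := by
    ext x
    simp [Subgroup.mem_subgroupOf]
  rwa [h2] at h1

theorem isSubnormal_subgroupOf_cj {H K : Subgroup G} {g : G} (hg : g ∈ K)
    (h : (H.subgroupOf K).IsSubnormal) : ((cj g H).subgroupOf K).IsSubnormal := by
  have h1 := h.map (f := (MulAut.conj (⟨g, hg⟩ : ↥K)).toMonoidHom) (MulAut.conj _).surjective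
  have h2 : (H.subgroupOf K).map (MulAut.conj (⟨g, hg⟩ : ↥K)).toMonoidHom =
      (cj g H).subgroupOf K := by
    ext x
    rw [Subgroup.mem_subgroupOf]
    constructor
    · rintro ⟨y, hy, rfl⟩
      exact ⟨(y : G), Subgroup.mem_subgroupOf.mp hy, by simp [MulAut.conj_apply]⟩
    · rintro ⟨y, hy, hyx⟩
      have hyK : y ∈ K := by
        have : y = g⁻¹ * (x : G) * g := by
          rw [← hyx]; simp [MulAut.conj_apply, mul_assoc]
        rw [this]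
        exact K.mul_mem (K.mul_mem (K.inv_mem hg) x.2) hg
      refine ⟨⟨y, hyK⟩, Subgroup.mem_subgroupOf.mpr hy, ?_⟩
      apply Subtype.ext
      rw [← hyx]
      simp [MulAut.conj_apply]
  rwa [h2] at h1

/-- a proper subnormal subgroup and its conjugates lie in a proper subgroup -/
theorem card_sup_cj_lt [Finite G] {H K : Subgroup G} (hHK : H ≤ K) (hne : H ≠ K)
    (h : (H.subgroupOf K).IsSubnormal) {g : G} (hg : g ∈ K) :
    Nat.card ↥(H ⊔ cj g H : Subgroup G) < Nat.card K := by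
  have hne' : H.subgroupOf K ≠ ⊤ := by
    intro h0
    apply hne
    apply le_antisymm hHK
    intro x hx
    have : (⟨x, hx⟩ : ↥K) ∈ H.subgroupOf K := by rw [h0]; exact Subgroup.mem_top _
    exact Subgroup.mem_subgroupOf.mp this
  obtain ⟨N, hNn, hHN, hNlt⟩ := h.exists_normal_and_le_and_lt_top_of_ne hne'
  have hle : H ⊔ cj g H ≤ N.map K.subtype := by
    apply sup_le
    · intro x hx
      exact ⟨⟨x, hHK hx⟩, hHN (Subgroup.mem_subgroupOf.mpr hx), rfl⟩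
    · rintro _ ⟨a, ha, rfl⟩
      have haN : (⟨a, hHK ha⟩ : ↥K) ∈ N := hHN (Subgroup.mem_subgroupOf.mpr ha)
      refine ⟨⟨g, hg⟩ * ⟨a, hHK ha⟩ * ⟨g, hg⟩⁻¹, hNn.conj_mem _ haN _, ?_⟩
      simp [MulAut.conj_apply]
  calc Nat.card ↥(H ⊔ cj g H : Subgroup G) ≤ Nat.card ↥(N.map K.subtype) :=
        Nat.le_of_dvd Nat.card_pos (Subgroup.card_dvd_of_le hle)
    _ = Nat.card N := Subgroup.card_map_of_injective K.subtype_injective
    _ < Nat.card K := by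
        by_contra hcon
        push Not at hcon
        have : N = ⊤ := Subgroup.eq_top_of_le_card N hcon
        exact hNlt.ne this

/-- the standing hypotheses on the pair -/
structure SubPair (p : ℕ) (V E₁ E₂ : Subgroup G) : Prop where
  g₁ : Good p V E₁
  g₂ : Good p V E₂
  hs₁ : (E₁.subgroupOf (E₁ ⊔ E₂)).IsSubnormal
  hs₂ : (E₂.subgroupOf (E₁ ⊔ E₂)).IsSubnormal
  hf : (E₁ ⊔ E₂) ⊓ Subgroup.centralizer (V : Set G) = ⊥
  h12 : ¬ ⁅V, E₁⁆ ≤ ⁅V, E₂⁆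
  h21 : ¬ ⁅V, E₂⁆ ≤ ⁅V, E₁⁆

theorem SubPair.symm {V E₁ E₂ : Subgroup G} (sp : SubPair p V E₁ E₂) : SubPair p V E₂ E₁ where
  g₁ := sp.g₂
  g₂ := sp.g₁
  hs₁ := by rw [sup_comm]; exact sp.hs₂
  hs₂ := by rw [sup_comm]; exact sp.hs₁
  hf := by rw [sup_comm]; exact sp.hf
  h12 := sp.h21
  h21 := sp.h12

/-- the pair formed by `E₁` and a conjugate under `E₂` moving `[V,E₁]` -/
theorem SubPair.conjPair [Finite G] {V E₁ E₂ : Subgroup G} (sp : SubPair p V E₁ E₂) {g : G}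
    (hg : g ∈ E₂) (hne : cj g ⁅V, E₁⁆ ≠ ⁅V, E₁⁆) : SubPair p V E₁ (cj g E₁) := by
  have hgE : g ∈ E₁ ⊔ E₂ := (le_sup_right : E₂ ≤ E₁ ⊔ E₂) hg
  have hgV : g ∈ Subgroup.normalizer (V : Set G) := sp.g₂.hEV hg
  have hle : E₁ ⊔ cj g E₁ ≤ E₁ ⊔ E₂ := by
    apply sup_le le_sup_left
    rintro _ ⟨a, ha, rfl⟩
    exact Subgroup.mul_mem _ (Subgroup.mul_mem _ hgE ((le_sup_left : E₁ ≤ E₁ ⊔ E₂) ha))
      (Subgroup.inv_mem _ hgE)
  have hW : ⁅V, cj g E₁⁆ = cj g ⁅V, E₁⁆ := commutator_map_conj V E₁ hgV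
  refine ⟨sp.g₁, sp.g₁.conj hgV, isSubnormal_subgroupOf_of_le hle sp.hs₁,
    isSubnormal_subgroupOf_of_le hle (isSubnormal_subgroupOf_cj hgE sp.hs₁), ?_, ?_, ?_⟩
  · rw [eq_bot_iff, ← sp.hf]
    exact inf_le_inf_right _ hle
  · rw [hW]
    intro h
    apply hne
    symm
    exact Subgroup.eq_of_le_of_card_ge h (by rw [card_cj])
  · rw [hW]
    intro h
    apply hne
    exact Subgroup.eq_of_le_of_card_ge h (by rw [card_cj])

theorem normalizes_aux [Finite G] [hp : Fact p.Prime] {V : Subgroup G}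
    (hV : IsElementaryAbelian p V) :
    ∀ n : ℕ, ∀ E₁ E₂ : Subgroup G, Nat.card ↥(E₁ ⊔ E₂ : Subgroup G) = n → SubPair p V E₁ E₂ →
      E₂ ≤ Subgroup.normalizer ((⁅V, E₁⁆ : Subgroup G) : Set G) ∧
      E₁ ≤ Subgroup.normalizer ((⁅V, E₂⁆ : Subgroup G) : Set G) := by
  intro n
  induction n using Nat.strong_induction_on with
  | _ n ih =>
    intro E₁ E₂ hn sp
    have key : ∀ E₁ E₂ : Subgroup G, Nat.card ↥(E₁ ⊔ E₂ : Subgroup G) = n → SubPair p V E₁ E₂ →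
        ∀ g ∈ E₂, cj g ⁅V, E₁⁆ ≠ ⁅V, E₁⁆ →
          E₁ ≤ Subgroup.normalizer ((cj g ⁅V, E₁⁆ : Subgroup G) : Set G) := by
      intro E₁ E₂ hn sp g hg hne
      have sp' := sp.conjPair hg hne
      have hgE : g ∈ E₁ ⊔ E₂ := (le_sup_right : E₂ ≤ E₁ ⊔ E₂) hg
      have hneE : E₁ ≠ E₁ ⊔ E₂ := by
        intro h
        apply sp.h21
        apply Subgroup.commutator_mono le_rfl
        rw [h]; exact le_sup_right
      have hlt := card_sup_cj_lt (le_sup_left : E₁ ≤ E₁ ⊔ E₂) hneE sp.hs₁ hgE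
      rw [hn] at hlt
      have := (ih _ hlt E₁ (cj g E₁) rfl sp').2
      rwa [commutator_map_conj V E₁ (sp.g₂.hEV hg)] at this
    have hn' : Nat.card ↥(E₂ ⊔ E₁ : Subgroup G) = n := by rw [sup_comm]; exact hn
    exact ⟨step hV sp.g₁ sp.g₂ sp.hf sp.h12 sp.h21 (key E₁ E₂ hn sp) (key E₂ E₁ hn' sp.symm),
      step hV sp.g₂ sp.g₁ sp.symm.hf sp.h21 sp.h12 (key E₂ E₁ hn' sp.symm) (key E₁ E₂ hn sp)⟩

/-- `O_p(E₁) = 1` for a subnormal subgroup `E₁` of `E` with `O_p(E) = 1` -/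
theorem eq_bot_of_pCore_eq_bot [Finite G] [hp : Fact p.Prime] {E E₁ P : Subgroup G}
    (hE₁E : E₁ ≤ E) (hs : (E₁.subgroupOf E).IsSubnormal) (hOp : Cfsg.pCore p ↥E = ⊥)
    (hP : P ≤ E₁) (hPp : IsPGroup p P) (hPn : E₁ ≤ Subgroup.normalizer (P : Set G)) : P = ⊥ := by
  have hPE : P ≤ E := hP.trans hE₁E
  have hle : P.subgroupOf E ≤ E₁.subgroupOf E := by
    intro x hx
    exact Subgroup.mem_subgroupOf.mpr (hP (Subgroup.mem_subgroupOf.mp hx))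
  have hnorm : ((P.subgroupOf E).subgroupOf (E₁.subgroupOf E)).Normal := by
    apply Subgroup.normal_subgroupOf_of_le_normalizer
    apply Cfsg.Agent.Lib.Helper1.le_normalizer_of_conj_mem
    intro x hx y hy
    rw [Subgroup.mem_subgroupOf] at hx hy ⊢
    have := (Subgroup.mem_normalizer_iff.mp (hPn hx) (y : G)).mp hy
    simpa using this
  have hsn : (P.subgroupOf E).IsSubnormal := Subgroup.IsSubnormal.trans hle hnorm.isSubnormal hs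
  have hPp' : IsPGroup p (P.subgroupOf E) :=
    hPp.of_equiv (Subgroup.subgroupOfEquivOfLe hPE).symm
  have h1 := Cfsg.Agent.Lib.Helper1.le_pCore_of_isSubnormal_of_isPGroup hsn hPp'
  rw [hOp, le_bot_iff] at h1
  rw [eq_bot_iff]
  intro x hx
  have : (⟨x, hPE hx⟩ : ↥E) ∈ P.subgroupOf E := Subgroup.mem_subgroupOf.mpr hx
  rw [h1, Subgroup.mem_bot] at this
  rw [Subgroup.mem_bot]
  exact congrArg Subtype.val this

/-- S0615 -/
theorem s0615 [Finite G] [hp : Fact p.Prime] (V E E₁ E₂ : Subgroup G)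
    (hV : Cfsg.IsElementaryAbelian p V) (hEV : E ≤ Subgroup.normalizer (V : Set G))
    (hf : E ⊓ Subgroup.centralizer (V : Set G) = ⊥) (hgen : E = E₁ ⊔ E₂)
    (hs₁ : (E₁.subgroupOf E).IsSubnormal) (hs₂ : (E₂.subgroupOf E).IsSubnormal)
    (hOp : Cfsg.pCore p ↥E = ⊥)
    (hirr₁ : (∀ U : Subgroup G, U ≤ ⁅V, E₁⁆ → E₁ ≤ Subgroup.normalizer (U : Set G) →
      U = ⊥ ∨ U = ⁅V, E₁⁆))
    (hirr₂ : (∀ U : Subgroup G, U ≤ ⁅V, E₂⁆ → E₂ ≤ Subgroup.normalizer (U : Set G) →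
      U = ⊥ ∨ U = ⁅V, E₂⁆))
    (h12 : ¬ ⁅V, E₁⁆ ≤ ⁅V, E₂⁆) (h21 : ¬ ⁅V, E₂⁆ ≤ ⁅V, E₁⁆) (hc₁ : 2 < Nat.card E₁)
    (hc₂ : 2 < Nat.card E₂) :
    ⁅E₁, E₂⁆ = ⊥ ∧ E₁ ⊓ E₂ = ⊥ ∧ ⁅V, E₁⁆ ⊓ ⁅V, E₂⁆ = ⊥ ∧ ⁅V, E⁆ = ⁅V, E₁⁆ ⊔ ⁅V, E₂⁆ := by
  have hE₁E : E₁ ≤ E := hgen ▸ le_sup_left
  have hE₂E : E₂ ≤ E := hgen ▸ le_sup_right
  have g₁ : Good p V E₁ := ⟨hE₁E.trans hEV, by
    rw [eq_bot_iff, ← hf]; exact inf_le_inf_right _ hE₁E,
    fun P hP hPp hPn => eq_bot_of_pCore_eq_bot hE₁E hs₁ hOp hP hPp hPn, hirr₁, hc₁⟩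
  have g₂ : Good p V E₂ := ⟨hE₂E.trans hEV, by
    rw [eq_bot_iff, ← hf]; exact inf_le_inf_right _ hE₂E,
    fun P hP hPp hPn => eq_bot_of_pCore_eq_bot hE₂E hs₂ hOp hP hPp hPn, hirr₂, hc₂⟩
  subst hgen
  have sp : SubPair p V E₁ E₂ := ⟨g₁, g₂, hs₁, hs₂, hf, h12, h21⟩
  obtain ⟨hn₁, hn₂⟩ := normalizes_aux hV _ E₁ E₂ rfl sp
  obtain ⟨c1, c2, c3⟩ := normal_case hV g₁ g₂ hf h12 h21 hn₁ hn₂
  exact ⟨c1, c2, c3, commutator_sup_eq g₁.hEV g₂.hEV⟩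

end Cfsg.Agent.Lib.Helper1.FS
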