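import Mathlib
import Cfsg.Agent.Lib.Helper1.FStab4
import Cfsg.Agent.Lib.Helper9.FusionSat4
import Cfsg.Agent.Lib.Helper9.Alperin1

set_option autoImplicit false

namespace Cfsg.Agent.Lib.Helper1.FStab

open Cfsg Cfsg.FusionSystem Cfsg.Agent.Lib.Helper9

variable {Ω : Type*} [Group Ω] {S : Subgroup Ω}

/-- the image of `O_p(Aut_F(Q))` in `Aut(Q)` -/
def opAut (p : ℕ) (F : FusionSystem S) (Q : Subgroup Ω) : Subgroup (MulAut ↥Q) :=
  (pCore p ↥(F.autGroup Q)).map (F.autGroup Q).subtype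

theorem opAut_le_autGroup (p : ℕ) (F : FusionSystem S) (Q : Subgroup Ω) :
    opAut p F Q ≤ F.autGroup Q := by
  rintro _ ⟨x, -, rfl⟩
  exact x.2

theorem opAut_conj_mem (p : ℕ) (F : FusionSystem S) (Q : Subgroup Ω) {a o : MulAut ↥Q}
    (ha : a ∈ F.autGroup Q) (ho : o ∈ opAut p F Q) : a * o * a⁻¹ ∈ opAut p F Q := by
  obtain ⟨x, hx, rfl⟩ := ho
  have := (Cfsg.Agent.Lib.Helper1.pCore_normal (G := ↥(F.autGroup Q)) p).conj_mem x hx ⟨a, ha⟩
  exact ⟨_, this, rfl⟩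

theorem finite_mulAut_of_le [Finite S] {Q : Subgroup Ω} (hQ : Q ≤ S) : Finite (MulAut ↥Q) := by
  have : Finite Q := finite_of_le hQ
  exact Finite.of_injective (fun α : MulAut ↥Q => (α : ↥Q → ↥Q))
    (fun a b hab => MulEquiv.ext (congrFun hab))

/-- `O_p(Aut_F(Q)) ≤ Aut_S(Q)` when `Q` is fully automized -/
theorem opAut_le_autInducedBy [Finite S] {p : ℕ} [Fact p.Prime] (F : FusionSystem S)
    {Q : Subgroup Ω} (hQ : F.IsFullyAutomized p Q) : opAut p F Q ≤ autInducedBy S Q := by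
  obtain ⟨hQS, R, hR⟩ := hQ
  have := finite_mulAut_of_le hQS
  rintro _ ⟨x, hx, rfl⟩
  have h1 : x ∈ (R : Subgroup ↥(F.autGroup Q)) := Cfsg.Agent.Lib.Helper1.pCore_le_sylow p R hx
  rw [hR] at h1
  exact h1

/-- `Inn(Q) ≤ O_p(Aut_F(Q))` -/
theorem inn_le_opAut [Finite S] {p : ℕ} [Fact p.Prime] (hS : IsPGroup p S) (F : FusionSystem S)
    {Q : Subgroup Ω} (hQ : Q ≤ S) : Inn ↥Q ≤ opAut p F Q := by
  have hle : Inn ↥Q ≤ F.autGroup Q :=
    (inn_le_autInducedBy hQ).trans (autInducedBy_le_autGroup F hQ)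
  have hn : ((Inn ↥Q).subgroupOf (F.autGroup Q)).Normal := by
    constructor
    intro n hn g
    exact (innNormal ↥Q).conj_mem n hn g
  have hp : IsPGroup p ↥((Inn ↥Q).subgroupOf (F.autGroup Q)) := by
    apply IsPGroup.comap_subtype
    have h1 : IsPGroup p ↥Q := isPGroup_of_le hS hQ
    have h2 : IsPGroup p ↥(MulAut.conj : ↥Q →* MulAut ↥Q).range := by
      rw [MonoidHom.range_eq_map]
      exact ((IsPGroup.of_equiv h1 Subgroup.topEquiv.symm)).map _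
    exact h2
  have h3 := Cfsg.Agent.Lib.Helper1.le_pCore hn hp
  intro x hx
  exact ⟨⟨x, hle hx⟩, h3 hx, rfl⟩

/-- the subgroup of `N_S(Q)` inducing elements of `O_p(Aut_F(Q))` -/
def coreNormalizer (p : ℕ) (F : FusionSystem S) (Q : Subgroup Ω) : Subgroup Ω :=
  S ⊓ ((opAut p F Q).comap (conjAut Q)).map (Subgroup.normalizer (Q : Set Ω)).subtype

theorem mem_coreNormalizer_iff (p : ℕ) (F : FusionSystem S) (Q : Subgroup Ω) (g : Ω) :
    g ∈ coreNormalizer p F Q ↔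
      g ∈ S ∧ ∃ hg : g ∈ Subgroup.normalizer (Q : Set Ω), conjAut Q ⟨g, hg⟩ ∈ opAut p F Q := by
  unfold coreNormalizer
  rw [Subgroup.mem_inf]
  constructor
  · rintro ⟨hgS, ⟨n, hn, rfl⟩⟩
    exact ⟨hgS, n.2, hn⟩
  · rintro ⟨hgS, hg, h⟩
    exact ⟨hgS, ⟨⟨g, hg⟩, h, rfl⟩⟩

theorem coreNormalizer_le_normalizerIn (p : ℕ) (F : FusionSystem S) (Q : Subgroup Ω) :
    coreNormalizer p F Q ≤ normalizerIn S Q := by
  intro g hg
  rw [mem_coreNormalizer_iff] at hg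
  exact ⟨hg.1, hg.2.1⟩

theorem coreNormalizer_le (p : ℕ) (F : FusionSystem S) (Q : Subgroup Ω) :
    coreNormalizer p F Q ≤ S := inf_le_left

theorem self_le_coreNormalizer [Finite S] {p : ℕ} [Fact p.Prime] (hS : IsPGroup p S)
    (F : FusionSystem S) {Q : Subgroup Ω} (hQ : Q ≤ S) : Q ≤ coreNormalizer p F Q := by
  intro g hg
  rw [mem_coreNormalizer_iff]
  refine ⟨hQ hg, Subgroup.le_normalizer hg, ?_⟩
  apply inn_le_opAut hS F hQ
  refine ⟨⟨g, hg⟩, ?_⟩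
  ext x
  rfl

theorem centralizerIn_le_coreNormalizer (p : ℕ) (F : FusionSystem S) (Q : Subgroup Ω) :
    centralizerIn S Q ≤ coreNormalizer p F Q := by
  intro c hc
  rw [mem_coreNormalizer_iff]
  have hcN : c ∈ Subgroup.normalizer (Q : Set Ω) := Subgroup.centralizer_le_normalizer _ hc.2
  refine ⟨hc.1, hcN, ?_⟩
  have : conjAut Q ⟨c, hcN⟩ = 1 := by
    ext x
    show c * (x : Ω) * c⁻¹ = x
    have h1 := (Subgroup.mem_centralizer_iff.mp hc.2) x x.2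
    rw [← h1]
    group
  rw [this]
  exact Subgroup.one_mem _

/-- every `F`-automorphism of a fully normalized `Q` extends to an `F`-automorphism of the
core normalizer -/
theorem exists_extension_coreNormalizer [Finite S] {p : ℕ} [Fact p.Prime] (hS : IsPGroup p S)
    (F : FusionSystem S) (hF : F.IsSaturated p) {Q : Subgroup Ω} (hQ : F.IsFullyNormalized Q)
    {ψ : ↥Q →* Ω} (hψ : ψ ∈ F.Hom Q) (hr : ψ.range = Q) :
    ∃ θ ∈ F.Hom (coreNormalizer p F Q), θ.range = coreNormalizer p F Q ∧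
      ∀ (x : Ω) (hx : x ∈ Q) (hxD : x ∈ coreNormalizer p F Q), θ ⟨x, hxD⟩ = ψ ⟨x, hx⟩ := by
  have hQS : Q ≤ S := hQ.1
  have hfc := fullyCentralized_of_fullyNormalized hS F hF hQ
  have hrec := receptive_of_fullyCentralized hS F hF hfc
  have haut := fullyAutomized_of_fullyNormalized hS F hF hQ
  obtain ⟨ρ, hρ, hρψ⟩ := hrec.2 Q ψ hψ hr
  obtain ⟨α, hα, hαψ⟩ := exists_aut_of_hom F hψ hr
  set D := coreNormalizer p F Q with hD
  have hQD : Q ≤ D := self_le_coreNormalizer hS F hQS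
  -- the conjugate automorphism induced by an element of `D`
  have key : ∀ g : Ω, g ∈ D → ∃ h ∈ S, ∃ hh : h ∈ Subgroup.normalizer (Q : Set Ω),
      conjAut Q ⟨h, hh⟩ ∈ opAut p F Q ∧
      ∀ (x : ↥Q) (hx : g * (x : Ω) * g⁻¹ ∈ Q), ψ ⟨g * x * g⁻¹, hx⟩ = h * ψ x * h⁻¹ := by
    intro g hg
    rw [hD, mem_coreNormalizer_iff] at hg
    obtain ⟨hgS, hgN, hgO⟩ := hg
    have h1 := opAut_conj_mem p F Q hα hgO
    have h2 := opAut_le_autInducedBy F haut h1
    obtain ⟨h, hhS, hh⟩ := (mem_autInducedBy_iff S Q _).mp h2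
    have hhN := mem_normalizer_of_induces _ hh
    refine ⟨h, hhS, hhN, ?_, ?_⟩
    · have : conjAut Q ⟨h, hhN⟩ = α * conjAut Q ⟨g, hgN⟩ * α⁻¹ := by
        ext x
        rw [hh x]
        rfl
      rw [this]
      exact h1
    · intro x hx
      have h3 := hh (α x)
      have h4 : (α * conjAut Q ⟨g, hgN⟩ * α⁻¹) (α x) = α (conjAut Q ⟨g, hgN⟩ x) := by
        show α (conjAut Q ⟨g, hgN⟩ (α⁻¹ (α x))) = _
        rw [MulAut.inv_apply_self]
      rw [h4, hαψ, hαψ] at h3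
      exact h3
  have hDle : D ≤ extender S Q ψ := by
    intro g hg
    obtain ⟨h, hhS, -, -, hh⟩ := key g hg
    have hg' := hg
    rw [hD, mem_coreNormalizer_iff] at hg'
    exact Subgroup.subset_closure ⟨hg'.1, hg'.2.1, h, hhS, hh⟩
  have hθ : ρ.comp (Subgroup.inclusion hDle) ∈ F.Hom D := restrict_mem F hρ hDle
  have hagree : ∀ (x : Ω) (hx : x ∈ Q) (hxD : x ∈ D),
      (ρ.comp (Subgroup.inclusion hDle)) ⟨x, hxD⟩ = ψ ⟨x, hx⟩ := by
    intro x hx hxD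
    exact hρψ x hx (hDle hxD)
  have hmaps : ∀ g : ↥D, (ρ.comp (Subgroup.inclusion hDle)) g ∈ D := by
    intro g
    obtain ⟨h, hhS, hhN, hhO, hh⟩ := key g g.2
    set g' := (ρ.comp (Subgroup.inclusion hDle)) g with hg'
    have hg'S : g' ∈ S := hom_mem F hθ g
    -- `g'` induces the same automorphism as `h`
    have hind : ∀ x : ↥Q, ((conjAut Q ⟨h, hhN⟩ x : ↥Q) : Ω) = g' * x * g'⁻¹ := by
      intro x
      -- write `x = ψ y`
      obtain ⟨y, hy⟩ := hr.ge x.2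
      have hgy : (g : Ω) * (y : Ω) * (g : Ω)⁻¹ ∈ Q := by
        have := coreNormalizer_le_normalizerIn p F Q g.2
        exact conj_mem_of_mem_normalizer this.2 y.2
      have h1 := hh y hgy
      have hyD : (y : Ω) ∈ D := hQD y.2
      have h2 : (ρ.comp (Subgroup.inclusion hDle)) ⟨(y : Ω), hyD⟩ = ψ y := hagree y y.2 hyD
      have h3 : (ρ.comp (Subgroup.inclusion hDle)) ⟨(g : Ω) * y * (g : Ω)⁻¹, hQD hgy⟩ =
          ψ ⟨(g : Ω) * y * (g : Ω)⁻¹, hgy⟩ := hagree _ hgy (hQD hgy)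
      have h4 : (⟨(g : Ω) * y * (g : Ω)⁻¹, hQD hgy⟩ : ↥D) = g * ⟨(y : Ω), hyD⟩ * g⁻¹ :=
        Subtype.ext rfl
      rw [h4, map_mul, map_mul, map_inv, h2, h1] at h3
      show h * (x : Ω) * h⁻¹ = g' * x * g'⁻¹
      rw [← hy, ← h3]
    have hg'N : g' ∈ Subgroup.normalizer (Q : Set Ω) := mem_normalizer_of_induces _ hind
    rw [hD, mem_coreNormalizer_iff]
    refine ⟨hg'S, hg'N, ?_⟩
    have : conjAut Q ⟨g', hg'N⟩ = conjAut Q ⟨h, hhN⟩ := by
      ext x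
      rw [hind x]
      rfl
    rw [this]
    exact hhO
  refine ⟨ρ.comp (Subgroup.inclusion hDle), hθ, ?_, hagree⟩
  have hle : (ρ.comp (Subgroup.inclusion hDle)).range ≤ D := by
    rintro _ ⟨g, rfl⟩
    exact hmaps g
  have hfinD : Finite ↥D := finite_of_le (coreNormalizer_le p F Q)
  apply Subgroup.eq_of_le_of_card_ge hle
  have hinj := F.injective_of_mem hθ
  rw [← Nat.card_congr (MonoidHom.ofInjective hinj).toEquiv]

end Cfsg.Agent.Lib.Helper1.FStab
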