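import Mathlib
import Cfsg.Agent.Lib.Helper1.FStab5
import Cfsg.Agent.Lib.Helper9.Alperin3

set_option autoImplicit false

namespace Cfsg.Agent.Lib.Helper1.FStab

open Cfsg Cfsg.FusionSystem Cfsg.Agent.Lib.Helper9

variable {Ω : Type*} [Group Ω] {S : Subgroup Ω}

/-- a fully normalized subgroup equal to its core normalizer is centric and radical -/
theorem centric_radical_of_coreNormalizer_eq [Finite S] {p : ℕ} [Fact p.Prime] (hS : IsPGroup p S)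
    (F : FusionSystem S) (hF : F.IsSaturated p) {Q : Subgroup Ω} (hQ : F.IsFullyNormalized Q)
    (hD : coreNormalizer p F Q = Q) : F.IsCentric Q ∧ F.IsRadical p Q := by
  have hQS : Q ≤ S := hQ.1
  have hfc := fullyCentralized_of_fullyNormalized hS F hF hQ
  have haut := fullyAutomized_of_fullyNormalized hS F hF hQ
  constructor
  · apply centric_of_fullyCentralized hS F hF hfc
    have := centralizerIn_le_coreNormalizer p F Q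
    rwa [hD] at this
  · refine ⟨hQS, ?_⟩
    show opAut p F Q = Inn ↥Q
    apply le_antisymm _ (inn_le_opAut hS F hQS)
    intro β hβ
    have h1 := opAut_le_autInducedBy F haut hβ
    obtain ⟨s, hsS, hs⟩ := (mem_autInducedBy_iff S Q β).mp h1
    have hsN := mem_normalizer_of_induces β hs
    have hsD : s ∈ coreNormalizer p F Q := by
      rw [mem_coreNormalizer_iff]
      refine ⟨hsS, hsN, ?_⟩
      have : conjAut Q ⟨s, hsN⟩ = β := by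
        ext x
        rw [hs x]
        rfl
      rw [this]
      exact hβ
    rw [hD] at hsD
    refine ⟨⟨s, hsD⟩, ?_⟩
    ext x
    rw [hs x]
    rfl

/-- every automorphism of `Q` in the system extends to an automorphism of `R` in the system -/
def ExtendsTo (F : FusionSystem S) (Q R : Subgroup Ω) : Prop :=
  Q ≤ R ∧ ∀ ψ ∈ F.Hom Q, ψ.range = Q → ∃ θ ∈ F.Hom R, θ.range = R ∧
    ∀ (x : Ω) (hx : x ∈ Q) (hxR : x ∈ R), θ ⟨x, hxR⟩ = ψ ⟨x, hx⟩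

theorem extendsTo_refl (F : FusionSystem S) (Q : Subgroup Ω) : ExtendsTo F Q Q :=
  ⟨le_rfl, fun ψ hψ hr => ⟨ψ, hψ, hr, fun _ _ _ => rfl⟩⟩

/-- push an automorphism forward along a map of the system -/
theorem hom_conj_push (F : FusionSystem S) {P : Subgroup Ω} {φ θ : ↥P →* Ω} (hφ : φ ∈ F.Hom P)
    (hθ : θ ∈ F.Hom P) (hr : θ.range = P) :
    ∃ θ' ∈ F.Hom φ.range, θ'.range = φ.range ∧
      ∀ (x : ↥P) (hθx : θ x ∈ P), θ' ⟨φ x, ⟨x, rfl⟩⟩ = φ ⟨θ x, hθx⟩ := by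
  obtain ⟨ν, hν, hνφ⟩ := F.inv_mem hφ
  have hνP : ∀ y : ↥φ.range, ν y ∈ P := by
    rintro ⟨_, x, rfl⟩
    rw [hνφ x]
    exact x.2
  have h1 := F.comp_mem hν hθ hνP
  have hθP : ∀ y : ↥φ.range, (θ.comp (ν.codRestrict P hνP)) y ∈ P := by
    intro y
    exact hr.le ⟨_, rfl⟩
  have h2 := F.comp_mem h1 hφ hθP
  have key : ∀ (x : ↥P) (hθx : θ x ∈ P),
      (φ.comp ((θ.comp (ν.codRestrict P hνP)).codRestrict P hθP)) ⟨φ x, ⟨x, rfl⟩⟩ =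
        φ ⟨θ x, hθx⟩ := by
    intro x hθx
    show φ ⟨θ ⟨ν ⟨φ x, ⟨x, rfl⟩⟩, _⟩, _⟩ = φ ⟨θ x, hθx⟩
    congr 2
    congr 1
    apply Subtype.ext
    exact hνφ x
  refine ⟨_, h2, ?_, key⟩
  apply le_antisymm
  · rintro _ ⟨y, rfl⟩
    exact ⟨_, rfl⟩
  · rintro _ ⟨x, rfl⟩
    obtain ⟨x₀, hx₀⟩ := hr.ge x.2
    have hθx₀ : θ x₀ ∈ P := by rw [hx₀]; exact x.2
    refine ⟨⟨φ x₀, ⟨x₀, rfl⟩⟩, ?_⟩
    rw [key x₀ hθx₀]
    congr 1
    exact Subtype.ext hx₀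

/-- pull an automorphism back along a map of the system -/
theorem hom_conj_pull (F : FusionSystem S) {P : Subgroup Ω} {φ : ↥P →* Ω} (hφ : φ ∈ F.Hom P)
    {ψ' : ↥φ.range →* Ω} (hψ' : ψ' ∈ F.Hom φ.range) (hr : ψ'.range = φ.range) :
    ∃ ψ ∈ F.Hom P, ψ.range = P ∧
      ∀ (x : ↥P) (hψx : ψ x ∈ P), φ ⟨ψ x, hψx⟩ = ψ' ⟨φ x, ⟨x, rfl⟩⟩ := by
  obtain ⟨ν, hν, hνφ⟩ := F.inv_mem hφ
  have hφr : ∀ x : ↥P, φ x ∈ φ.range := fun x => ⟨x, rfl⟩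
  have h1 := F.comp_mem hφ hψ' hφr
  have hψr : ∀ x : ↥P, (ψ'.comp (φ.codRestrict φ.range hφr)) x ∈ φ.range := by
    intro x
    exact hr.le ⟨_, rfl⟩
  have h2 := F.comp_mem h1 hν hψr
  have hinjφ := F.injective_of_mem hφ
  -- `φ (ν y) = y`
  have hφν : ∀ (y : ↥φ.range) (h : ν y ∈ P), φ ⟨ν y, h⟩ = y := by
    rintro ⟨_, x, rfl⟩ h
    congr 1
    apply Subtype.ext
    exact hνφ x
  have hνP : ∀ y : ↥φ.range, ν y ∈ P := by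
    rintro ⟨_, x, rfl⟩
    rw [hνφ x]
    exact x.2
  have key : ∀ (x : ↥P) (hψx : (ν.comp ((ψ'.comp (φ.codRestrict φ.range hφr)).codRestrict
      φ.range hψr)) x ∈ P),
      φ ⟨(ν.comp ((ψ'.comp (φ.codRestrict φ.range hφr)).codRestrict φ.range hψr)) x, hψx⟩ =
        ψ' ⟨φ x, ⟨x, rfl⟩⟩ := by
    intro x hψx
    exact hφν ⟨ψ' ⟨φ x, ⟨x, rfl⟩⟩, hψr x⟩ hψx
  refine ⟨_, h2, ?_, key⟩
  apply le_antisymm
  · rintro _ ⟨x, rfl⟩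
    exact hνP _
  · intro z hz
    -- `φ z = ψ' (φ x)` for some `x`
    obtain ⟨y, hy⟩ := hr.ge (hφr ⟨z, hz⟩)
    obtain ⟨x, hx⟩ := y.2
    refine ⟨x, ?_⟩
    have h3 : (ν.comp ((ψ'.comp (φ.codRestrict φ.range hφr)).codRestrict φ.range hψr)) x ∈ P :=
      hνP _
    have h4 := key x h3
    have h5 : ψ' ⟨φ x, ⟨x, rfl⟩⟩ = φ ⟨z, hz⟩ := by
      rw [← hy]
      congr 1
      exact Subtype.ext hx
    rw [h5] at h4
    exact congrArg Subtype.val (hinjφ h4)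

/-- Every subgroup of `S` is conjugate to a subgroup of a fully normalized centric radical
subgroup `R` to which all its automorphisms extend. -/
theorem exists_frc_extendsTo [Finite S] {p : ℕ} [Fact p.Prime] (hS : IsPGroup p S)
    (F : FusionSystem S) (hF : F.IsSaturated p) :
    ∀ (n : ℕ) (Q : Subgroup Ω), Q ≤ S → Nat.card ↥S - Nat.card ↥Q = n →
      ∃ R : Subgroup Ω, F.IsFullyNormalized R ∧ F.IsCentric R ∧ F.IsRadical p R ∧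
        ∃ φ ∈ F.Hom Q, ExtendsTo F φ.range R := by
  intro n
  induction n using Nat.strong_induction_on with
  | _ n ih =>
  intro Q hQS hn
  obtain ⟨Q₀, ⟨φ₀, hφ₀, hr₀⟩, hfn⟩ := exists_isConj_fullyNormalized F hQS
  have hQ₀S : Q₀ ≤ S := hfn.1
  set D₀ := coreNormalizer p F Q₀ with hD₀
  have hQ₀D₀ : Q₀ ≤ D₀ := self_le_coreNormalizer hS F hQ₀S
  have hD₀S : D₀ ≤ S := coreNormalizer_le p F Q₀
  by_cases hD : D₀ = Q₀
  · obtain ⟨hc, hrad⟩ := centric_radical_of_coreNormalizer_eq hS F hF hfn hD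
    refine ⟨Q₀, hfn, hc, hrad, φ₀, hφ₀, ?_⟩
    rw [hr₀]
    exact extendsTo_refl F Q₀
  · have hcardQ : Nat.card ↥Q₀ = Nat.card ↥Q := (card_eq_of_isConj F ⟨φ₀, hφ₀, hr₀⟩).symm
    have hfinD : Finite ↥D₀ := finite_of_le hD₀S
    have hlt : Nat.card ↥Q₀ < Nat.card ↥D₀ := by
      by_contra hcon
      push Not at hcon
      exact hD (Subgroup.eq_of_le_of_card_ge hQ₀D₀ hcon).symm
    have hDle : Nat.card ↥D₀ ≤ Nat.card ↥S := Subgroup.card_le_of_le hD₀S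
    obtain ⟨R, hRfn, hRc, hRr, φ₁, hφ₁, hext⟩ :=
      ih (Nat.card ↥S - Nat.card ↥D₀) (by omega) D₀ hD₀S rfl
    refine ⟨R, hRfn, hRc, hRr, ?_⟩
    have hφ₀D : ∀ x : ↥Q, φ₀ x ∈ D₀ := fun x => hQ₀D₀ (hr₀.le ⟨x, rfl⟩)
    refine ⟨_, F.comp_mem hφ₀ hφ₁ hφ₀D, ?_⟩
    -- the restriction of `φ₁` to `Q₀`
    set ι : ↥Q₀ →* Ω := φ₁.comp (Subgroup.inclusion hQ₀D₀) with hι
    have hιF : ι ∈ F.Hom Q₀ := restrict_mem F hφ₁ hQ₀D₀
    have hrange : (φ₁.comp (φ₀.codRestrict D₀ hφ₀D)).range = ι.range := by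
      apply le_antisymm
      · rintro _ ⟨x, rfl⟩
        exact ⟨⟨φ₀ x, hr₀.le ⟨x, rfl⟩⟩, rfl⟩
      · rintro _ ⟨y, rfl⟩
        obtain ⟨x, hx⟩ := hr₀.ge y.2
        refine ⟨x, ?_⟩
        show φ₁ ⟨φ₀ x, _⟩ = φ₁ ⟨(y : Ω), _⟩
        congr 1
        exact Subtype.ext hx
    rw [hrange]
    have hιle : ι.range ≤ φ₁.range := by
      rintro _ ⟨y, rfl⟩
      exact ⟨_, rfl⟩
    refine ⟨hιle.trans hext.1, ?_⟩
    intro ψ' hψ' hψ'r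
    obtain ⟨ψ, hψ, hψr, hψe⟩ := hom_conj_pull F hιF hψ' hψ'r
    obtain ⟨θ₀, hθ₀, hθ₀r, hθ₀e⟩ := exists_extension_coreNormalizer hS F hF hfn hψ hψr
    obtain ⟨θ', hθ', hθ'r, hθ'e⟩ := hom_conj_push F hφ₁ hθ₀ hθ₀r
    obtain ⟨θ, hθ, hθr, hθe⟩ := hext.2 θ' hθ' hθ'r
    refine ⟨θ, hθ, hθr, ?_⟩
    rintro _ ⟨x, rfl⟩ hxR
    have hxD : (x : Ω) ∈ D₀ := hQ₀D₀ x.2
    have h1 : (ι x : Ω) = φ₁ ⟨(x : Ω), hxD⟩ := rfl
    have hmem : φ₁ ⟨(x : Ω), hxD⟩ ∈ φ₁.range := ⟨_, rfl⟩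
    have h2 : θ ⟨ι x, hxR⟩ = θ' ⟨φ₁ ⟨(x : Ω), hxD⟩, hmem⟩ := hθe _ hmem hxR
    rw [h2]
    have hθx : θ₀ ⟨(x : Ω), hxD⟩ ∈ D₀ := hθ₀r.le ⟨_, rfl⟩
    rw [hθ'e ⟨(x : Ω), hxD⟩ hθx]
    have h3 : θ₀ ⟨(x : Ω), hxD⟩ = ψ x := hθ₀e x x.2 hxD
    have hψx : ψ x ∈ Q₀ := hψr.le ⟨x, rfl⟩
    have h4 := hψe x hψx
    rw [← h4]
    show φ₁ _ = φ₁ _
    congr 1
    exact Subtype.ext h3

end Cfsg.Agent.Lib.Helper1.FStab
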