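import Mathlib
import Cfsg.Agent.Lib.Helper1.FStab6

set_option autoImplicit false

namespace Cfsg.Agent.Lib.Helper1.FStab

open Cfsg Cfsg.FusionSystem Cfsg.Agent.Lib.Helper9

variable {Ω : Type*} [Group Ω] {S : Subgroup Ω}

/-- if the automorphisms of `Q ≤ R` extend to `R`, then `Aut_{N_F(R)}(Q) = Aut_F(Q)` -/
theorem autGroup_normalizerSystem_eq_of_extendsTo (F : FusionSystem S) {Q R : Subgroup Ω}
    (hRS : R ≤ S) (N : FusionSystem (normalizerIn S R)) (hN : F.IsNormalizerSystem R N)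
    (hext : ExtendsTo F Q R) : N.autGroup Q = F.autGroup Q := by
  apply le_antisymm (autGroup_normalizerSystem_le F R N hN Q)
  apply Subgroup.closure_mono
  intro α hα
  have hα' : Q.subtype.comp α.toMonoidHom ∈ F.Hom Q := hα
  show Q.subtype.comp α.toMonoidHom ∈ N.Hom Q
  rw [hN Q]
  have hQR : Q ≤ R := hext.1
  have hRN : R ≤ normalizerIn S R := self_le_normalizerIn' hRS
  have hrange : (Q.subtype.comp α.toMonoidHom).range = Q := by
    apply le_antisymm
    · rintro _ ⟨x, rfl⟩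
      exact (α x).2
    · intro z hz
      refine ⟨α⁻¹ ⟨z, hz⟩, ?_⟩
      show ((α (α⁻¹ ⟨z, hz⟩) : ↥Q) : Ω) = z
      rw [MulAut.apply_inv_self]
  obtain ⟨θ, hθ, hθr, hθe⟩ := hext.2 _ hα' hrange
  have hle : Q ⊔ R ≤ R := sup_le hQR le_rfl
  refine ⟨hα', hQR.trans hRN, fun x => hRN (hQR (α x).2), θ.comp (Subgroup.inclusion hle),
    restrict_mem F hθ hle, ?_, ?_⟩
  · intro x
    exact hθe x x.2 (hQR x.2)
  · ext z
    constructor
    · rintro ⟨y, hy, rfl⟩
      exact hθr.le ⟨_, rfl⟩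
    · intro hz
      obtain ⟨r, hr⟩ := hθr.ge hz
      refine ⟨⟨(r : Ω), (le_sup_right : R ≤ Q ⊔ R) r.2⟩, r.2, ?_⟩
      exact hr

/-- the harder direction: stability at the centric radicals suffices -/
theorem stable_of_frc [Finite S] (p : ℕ) [Fact p.Prime] (hS : IsPGroup p S) (F : FusionSystem S)
    (hF : F.IsSaturated p)
    (h : ∀ R : Subgroup Ω, F.IsFullyNormalized R → F.IsCentric R → F.IsRadical p R →
      ∀ N : FusionSystem (normalizerIn S R), F.IsNormalizerSystem R N →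
      ∀ Q : Subgroup Ω, N.IsFullyNormalized Q → StableAt p N Q)
    {Q : Subgroup Ω} (hQ : Q ≤ S) : StableAt p F Q := by
  obtain ⟨R, hRfn, hRc, hRr, φ, hφ, hext⟩ := exists_frc_extendsTo hS F hF _ Q hQ rfl
  have hRS : R ≤ S := hRfn.1
  set N := normalizerSystem F R hRS with hNdef
  have hN : F.IsNormalizerSystem R N := isNormalizerSystem_normalizerSystem F R hRS
  have hfinN : Finite ↥(normalizerIn S R) := finite_normalizerIn R
  have hQ'N : φ.range ≤ normalizerIn S R := hext.1.trans (self_le_normalizerIn' hRS)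
  have hstab : StableAt p N φ.range :=
    stableAt_of_fullyNormalized p N (h R hRfn hRc hRr N hN) hQ'N
  have hAeq := autGroup_normalizerSystem_eq_of_extendsTo F hRS N hN hext
  have hstabF : StableAt p F φ.range := by
    have hgen : ∀ K : Subgroup (MulAut ↥φ.range), K = F.autGroup φ.range →
        (∀ χ : MulAut ↥φ.range, χ ∈ K → Quad χ →
          χ ∈ ((pCore p ↥K).map K.subtype : Subgroup (MulAut ↥φ.range))) →
        StableAt p F φ.range := by
      rintro K rfl hK
      exact hK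
    exact hgen _ hAeq hstab
  intro χ hχ hquad
  set e := equivOfRange φ (F.injective_of_mem hφ) rfl with he
  have h1 := hstabF (MulAut.congr e χ) (congr_mem_autGroup F hφ rfl hχ) (quad_congr e hquad)
  exact (mem_pCore_map_iff p (MulAut.congr e) _ _ (map_autGroup_eq F hφ rfl) χ).mp h1

/-- the statement -/
theorem stable_iff_frc_normalizers [Finite S] (p : ℕ) [Fact p.Prime] (hS : IsPGroup p S)
    (F : FusionSystem S) (hF : F.IsSaturated p) :
    (∀ Q : Subgroup Ω, F.IsFullyNormalized Q → ∀ χ : MulAut ↥Q, χ ∈ F.autGroup Q →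
      (∀ a : ↥Q, (χ a⁻¹) * a * (χ a⁻¹) * (χ (χ a)) = 1) →
      χ ∈ ((Cfsg.pCore p ↥(F.autGroup Q)).map (F.autGroup Q).subtype : Subgroup (MulAut ↥Q))) ↔
    ∀ R : Subgroup Ω, F.IsFullyNormalized R → F.IsCentric R → F.IsRadical p R →
      ∀ N : Cfsg.FusionSystem (Cfsg.FusionSystem.normalizerIn S R), F.IsNormalizerSystem R N →
      (∀ Q : Subgroup Ω, N.IsFullyNormalized Q → ∀ χ : MulAut ↥Q, χ ∈ N.autGroup Q →
        (∀ a : ↥Q, (χ a⁻¹) * a * (χ a⁻¹) * (χ (χ a)) = 1) →
        χ ∈ ((Cfsg.pCore p ↥(N.autGroup Q)).map (N.autGroup Q).subtype :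
          Subgroup (MulAut ↥Q))) := by
  constructor
  · intro h R _ _ _ N hN Q hQ
    exact stable_normalizer p F h R N hN Q hQ.1
  · intro h Q hQ
    exact stable_of_frc p hS F hF h hQ.1

end Cfsg.Agent.Lib.Helper1.FStab
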