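import Mathlib
import Cfsg.Agent.Lib.Helper1.FrobeniusBasic
open Pointwise

set_option autoImplicit false

namespace Cfsg.Agent.Lib.Helper1

universe u

variable {G : Type u} [Group G]

theorem conj_smul_mul_of_mem {H : Subgroup G} (x : G) {h : G} (hh : h ∈ H) :
    MulAut.conj (x * h) • H = MulAut.conj x • H := by
  rw [map_mul, mul_smul, Subgroup.conj_smul_eq_self_of_mem hh]

theorem factorization_conjugates (H K A B : Subgroup G)
    (hHK : ∀ g : G, ∃ h ∈ H, ∃ k ∈ K, g = h * k)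
    (hA : ∃ x : G, A = MulAut.conj x • H) (hB : ∃ y : G, B = MulAut.conj y • K) :
    (∀ g : G, ∃ a ∈ A, ∃ b ∈ B, g = a * b) ∧
      ∃ g : G, A = MulAut.conj g • H ∧ B = MulAut.conj g • K := by
  obtain ⟨x, rfl⟩ := hA
  obtain ⟨y, rfl⟩ := hB
  obtain ⟨h, hh, k, hk, hxy⟩ := hHK (x⁻¹ * y)
  have hg : x * h = y * k⁻¹ := by
    have : y = x * (h * k) := by rw [← hxy]; group
    rw [this]; group
  have e1 : MulAut.conj (x * h) • H = MulAut.conj x • H := conj_smul_mul_of_mem x hh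
  have e2 : MulAut.conj (x * h) • K = MulAut.conj y • K := by
    rw [hg]; exact conj_smul_mul_of_mem y (K.inv_mem hk)
  refine ⟨?_, x * h, e1.symm, e2.symm⟩
  intro g
  set c := x * h with hc
  obtain ⟨h', hh', k', hk', hgg⟩ := hHK (c⁻¹ * g * c)
  refine ⟨c * h' * c⁻¹, ?_, c * k' * c⁻¹, ?_, ?_⟩
  · rw [← e1, mem_conj_smul_iff]
    have : c⁻¹ * (c * h' * c⁻¹) * c = h' := by group
    rw [this]; exact hh'
  · rw [← e2, mem_conj_smul_iff]
    have : c⁻¹ * (c * k' * c⁻¹) * c = k' := by group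
    rw [this]; exact hk'
  · have : g = c * (c⁻¹ * g * c) * c⁻¹ := by group
    rw [this, hgg]; group

end Cfsg.Agent.Lib.Helper1
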