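import Mathlib
import Cfsg.Agent.Lib.Helper1.FrattiniNormal
import Cfsg.Agent.Lib.Helper1.ComplementFrattini
import Cfsg.Agent.Lib.Helper1.Hall
import Cfsg.Agent.Lib.Helper1.SZHelpers
open Pointwise

set_option autoImplicit false

namespace Cfsg.Agent.Lib.Helper1

universe u

variable {G : Type u} [Group G]

/-- A minimal supplement `H` of an abelian normal subgroup `A` satisfies `A ⊓ H ≤ Φ(G)`. -/
theorem exists_supplement_inf_le_frattini [Finite G] (A : Subgroup G) [hAn : A.Normal]
    (hAc : ∀ a ∈ A, ∀ b ∈ A, a * b = b * a) :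
    ∃ H : Subgroup G, A ⊔ H = ⊤ ∧ A ⊓ H ≤ frattini G := by
  let α := {H : Subgroup G // A ⊔ H = ⊤}
  have : Nonempty α := ⟨⟨⊤, sup_top_eq A⟩⟩
  obtain ⟨⟨H, hH⟩, hmin⟩ := Finite.exists_min (fun H : α => Nat.card (H.1 : Subgroup G))
  refine ⟨H, hH, ?_⟩
  set D : Subgroup G := A ⊓ H with hD
  have hDn : D.Normal := inf_normal_of_abelian_normal_sup_eq_top A H hAc hH
  apply le_frattini_of_normal_le_frattini_subgroup H D
  have hDH : D ≤ H := inf_le_right
  have hD'n : (D.subgroupOf H).Normal := inferInstance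
  have key : D.subgroupOf H ≤ frattini H := by
    rw [frattini, Order.radical]
    apply le_iInf₂
    intro M hM
    by_contra hDM
    have hsup : D.subgroupOf H ⊔ M = ⊤ := by
      apply hM.2
      refine lt_of_le_of_ne le_sup_right ?_
      intro heq
      apply hDM
      rw [heq]; exact le_sup_left
    set M' : Subgroup G := M.map H.subtype with hM'
    have hAM' : A ⊔ M' = ⊤ := by
      rw [eq_top_iff]
      intro g _
      have hg : g ∈ A ⊔ H := by rw [hH]; trivial
      rw [Subgroup.mem_sup_of_normal_left] at hg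
      obtain ⟨a, ha, h, hh, rfl⟩ := hg
      have hh' : (⟨h, hh⟩ : H) ∈ D.subgroupOf H ⊔ M := by rw [hsup]; trivial
      rw [Subgroup.mem_sup_of_normal_left] at hh'
      obtain ⟨d, hd, m, hm, hdm⟩ := hh'
      have e : h = (d : G) * (m : G) := by
        have := congrArg Subtype.val hdm
        exact this.symm
      rw [e, ← mul_assoc]
      apply Subgroup.mul_mem_sup
      · exact A.mul_mem ha (Subgroup.mem_subgroupOf.mp hd).1
      · exact ⟨m, hm, rfl⟩
    have h1 := hmin ⟨M', hAM'⟩
    simp only at h1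
    have h2 : Nat.card M' = Nat.card M := Subgroup.card_map_of_injective H.subtype_injective
    have h3 := card_lt_of_ne_top M hM.1
    omega
  intro x hx
  exact ⟨⟨x, hDH hx⟩, key (Subgroup.mem_subgroupOf.mpr hx), rfl⟩

theorem abelian_normal_complemented_of_frattini_eq_bot [Finite G] (hΦ : frattini G = ⊥)
    (A : Subgroup G) [hAn : A.Normal] (hAc : ∀ a ∈ A, ∀ b ∈ A, a * b = b * a) :
    ∃ H : Subgroup G, Subgroup.IsComplement' A H := by
  obtain ⟨H, h1, h2⟩ := exists_supplement_inf_le_frattini A hAc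
  rw [hΦ] at h2
  exact ⟨H, isComplement'_of_normal_disjoint_sup_eq_top (eq_bot_iff.mpr h2) h1⟩

end Cfsg.Agent.Lib.Helper1
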