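import Mathlib
import Cfsg.Prelude.Def_SolvableStructure
import Cfsg.Prelude.Def_Transfer
import Cfsg.Agent.Lib.Helper1.NilpotentHallAux
import Cfsg.Agent.Lib.Helper1.CoprimeAbelian
set_option autoImplicit false
universe u v
open Cfsg
open scoped Pointwise
namespace Cfsg.Agent.Lib.Helper1
variable {G : Type u} [Group G]

theorem isNilpotent_of_isMulCommutative (H : Type v) [Group H] [hH : IsMulCommutative H] :
    Group.IsNilpotent H := by
  let _ : CommGroup H := { (inferInstance : Group H) with mul_comm := fun a b => mul_comm' a b }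
  infer_instance

theorem isPGroup_of_sylow_eq_top {r : ℕ} [Fact r.Prime] (R : Sylow r G)
    (h : (R : Subgroup G) = ⊤) : IsPGroup r G := by
  have h2 := R.2
  rw [h] at h2
  exact IsPGroup.of_equiv h2 Subgroup.topEquiv

theorem minimal_non_abelian_structure [Finite G] (hna : ¬ IsMulCommutative G)
    (h : ∀ H : Subgroup G, H ≠ ⊤ → IsMulCommutative H) :
    (∃ p : ℕ, p.Prime ∧ IsPGroup p G) ∨ ∃ p q : ℕ, p.Prime ∧ q.Prime ∧ p ≠ q ∧
      ∃ (P : Sylow p G) (Q : Sylow q G), IsCyclic P ∧ (Q : Subgroup G).Normal ∧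
        IsElementaryAbelian q (Q : Subgroup G) ∧ (P : Subgroup G) ⊔ Q = ⊤ := by
  by_cases hpg : ∃ p : ℕ, p.Prime ∧ IsPGroup p G
  · exact Or.inl hpg
  right
  have hnil_sub : ∀ H : Subgroup G, H ≠ ⊤ → Group.IsNilpotent H := by
    intro H hH
    have := h H hH
    exact isNilpotent_of_isMulCommutative H
  have hsylow_proper : ∀ (r : ℕ) [Fact r.Prime] (R : Sylow r G), (R : Subgroup G) ≠ ⊤ := by
    intro r hr R heq
    exact hpg ⟨r, hr.out, isPGroup_of_sylow_eq_top R heq⟩
  have hcomm_in : ∀ (H : Subgroup G), H ≠ ⊤ → ∀ a ∈ H, ∀ b ∈ H, a * b = b * a := by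
    intro H hH a ha b hb
    have := h H hH
    have h1 := mul_comm' (⟨a, ha⟩ : H) ⟨b, hb⟩
    exact congrArg Subtype.val h1
  by_cases hGnil : Group.IsNilpotent G
  · exfalso
    apply hna
    have hcenter : ∀ (r : ℕ) [Fact r.Prime] (R : Sylow r G),
        (R : Subgroup G) ≤ Subgroup.center G := by
      intro r hr R x hx
      have hC : Subgroup.centralizer ({x} : Set G) = ⊤ := by
        apply eq_top_of_forall_sylow_le
        intro s hs
        by_cases hsr : s = r
        · subst hsr
          refine ⟨R, ?_⟩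
          intro y hy
          rw [Subgroup.mem_centralizer_iff]
          intro z hz
          rw [Set.mem_singleton_iff] at hz
          subst hz
          exact hcomm_in R (hsylow_proper s R) z hx y hy
        · let S : Sylow s G := default
          refine ⟨S, ?_⟩
          intro y hy
          rw [Subgroup.mem_centralizer_iff]
          intro z hz
          rw [Set.mem_singleton_iff] at hz
          subst hz
          have hSn : (S : Subgroup G).Normal := inferInstance
          have hRn : (R : Subgroup G).Normal := inferInstance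
          have hdis : Disjoint (R : Subgroup G) (S : Subgroup G) := by
            apply Subgroup.disjoint_of_coprime_natCard
            obtain ⟨a, ha⟩ := R.2.exists_card_eq
            obtain ⟨b, hb⟩ := S.2.exists_card_eq
            rw [ha, hb]
            exact Nat.Coprime.pow _ _ ((Nat.coprime_primes hr.out hs.out).mpr (Ne.symm hsr))
          exact Subgroup.commute_of_normal_of_disjoint _ _ hRn hSn hdis z y hx hy
      rw [Subgroup.mem_center_iff]
      intro g
      have hg : g ∈ Subgroup.centralizer ({x} : Set G) := by rw [hC]; exact Subgroup.mem_top g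
      rw [Subgroup.mem_centralizer_iff] at hg
      exact (hg x rfl).symm
    have hZ : Subgroup.center G = ⊤ := by
      apply eq_top_of_forall_sylow_le
      intro r hr
      exact ⟨default, hcenter r default⟩
    refine ⟨⟨fun a b => ?_⟩⟩
    have ha : a ∈ Subgroup.center G := by rw [hZ]; exact Subgroup.mem_top a
    exact (Subgroup.mem_center_iff.mp ha b).symm
  · have hmin : IsMinimalNonNilpotent G := ⟨hGnil, hnil_sub⟩
    obtain ⟨p, q, hp, hq, hpq, P, Q, hcyc, hQn, hPQ, hncen⟩ :=
      minimal_non_nilpotent_structure_strong hmin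
    have hpF : Fact p.Prime := ⟨hp⟩
    have hqF : Fact q.Prime := ⟨hq⟩
    refine ⟨p, q, hp, hq, hpq, P, Q, hcyc, hQn, ?_, hPQ⟩
    have hQtop : (Q : Subgroup G) ≠ ⊤ := hsylow_proper q Q
    have hQab : IsMulCommutative (Q : Subgroup G) := h Q hQtop
    refine ⟨hQab, ?_⟩
    by_contra hex
    push Not at hex
    obtain ⟨x₀, hx₀Q, hx₀⟩ := hex
    let Ω : Subgroup G :=
      { carrier := {y | y ∈ (Q : Subgroup G) ∧ y ^ q = 1}
        mul_mem' := by
          rintro a b ⟨ha, ha'⟩ ⟨hb, hb'⟩
          refine ⟨Subgroup.mul_mem _ ha hb, ?_⟩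
          have hc : Commute a b := hcomm_in Q hQtop a ha b hb
          rw [hc.mul_pow, ha', hb', one_mul]
        one_mem' := ⟨Subgroup.one_mem _, one_pow _⟩
        inv_mem' := by
          rintro a ⟨ha, ha'⟩
          exact ⟨Subgroup.inv_mem _ ha, by rw [inv_pow, ha', inv_one]⟩ }
    have hΩmem : ∀ y, y ∈ Ω ↔ y ∈ (Q : Subgroup G) ∧ y ^ q = 1 := fun y => Iff.rfl
    have hΩQ : Ω ≤ Q := fun y hy => ((hΩmem y).mp hy).1
    have hΩn : Ω.Normal := by
      constructor
      intro y hy g
      rw [hΩmem] at hy ⊢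
      refine ⟨hQn.conj_mem y hy.1 g, ?_⟩
      rw [conj_pow, hy.2]; group
    have hΩlt : Nat.card Ω < Nat.card Q := by
      apply lt_of_le_of_ne (Subgroup.card_le_of_le hΩQ)
      intro heq
      have : Ω = Q := Subgroup.eq_of_le_of_card_ge hΩQ heq.ge
      have hx : x₀ ∈ Ω := by rw [this]; exact hx₀Q
      exact hx₀ ((hΩmem x₀).mp hx).2
    have hcop : (Nat.card P).Coprime (Nat.card Q) := by
      obtain ⟨a, ha⟩ := P.2.exists_card_eq
      obtain ⟨b, hb⟩ := Q.2.exists_card_eq
      rw [ha, hb]
      exact Nat.Coprime.pow _ _ ((Nat.coprime_primes hp hq).mpr hpq)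
    have hPΩ : (P : Subgroup G) ⊔ Ω ≠ ⊤ := by
      intro htop
      have h1 := card_sup_le_of_normal (P : Subgroup G) Ω
      rw [htop, Subgroup.card_top] at h1
      have h2 := card_mul_card_le_card_sup_mul_card_inf (P : Subgroup G) (Q : Subgroup G)
      have hinf : (P : Subgroup G) ⊓ Q = ⊥ := (Subgroup.disjoint_of_coprime_natCard hcop).eq_bot
      rw [hinf, Subgroup.card_bot, mul_one, hPQ, Subgroup.card_top] at h2
      have hPpos : 0 < Nat.card P := Nat.card_pos
      have : Nat.card P * Nat.card Ω < Nat.card P * Nat.card Q :=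
        Nat.mul_lt_mul_of_pos_left hΩlt hPpos
      omega
    apply hncen
    have hPN : (P : Subgroup G) ≤ Subgroup.normalizer ((Q : Subgroup G) : Set G) := by
      rw [Subgroup.normalizer_eq_top_iff.mpr hQn]; exact le_top
    apply coprime_abelian_trivial_of_fix_prime_order (P : Subgroup G) (Q : Subgroup G) hPN hcop
    intro v hv hvprime a ha
    have hvΩ : v ∈ Ω := by
      rw [hΩmem]
      refine ⟨hv, ?_⟩
      obtain ⟨b, hb⟩ := Q.2.exists_card_eq
      have h1 : orderOf v ∣ q ^ b := by
        rw [← hb]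
        have := orderOf_dvd_natCard (⟨v, hv⟩ : (Q : Subgroup G))
        rwa [Subgroup.orderOf_mk] at this
      have h2 : orderOf v = q := (Nat.prime_dvd_prime_iff_eq hvprime hq).mp (hvprime.dvd_of_dvd_pow h1)
      rw [← h2]; exact pow_orderOf_eq_one v
    exact hcomm_in _ hPΩ a (Subgroup.mem_sup_left ha) v (Subgroup.mem_sup_right hvΩ)

end Cfsg.Agent.Lib.Helper1
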