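import Mathlib
import Cfsg.Prelude.Def_SolvableStructure
import Cfsg.Agent.Lib.Helper1.Fitting
import Cfsg.Agent.Lib.Helper1.FrattiniNormal
import Cfsg.Agent.Lib.Helper1.FrattiniComplement
import Cfsg.Agent.Lib.Helper1.HereditaryCLT
import Cfsg.Agent.Lib.Helper1.MillerMoreno
set_option autoImplicit false
universe u v
open Cfsg
open scoped Pointwise commutatorElement
namespace Cfsg.Agent.Lib.Helper1
variable {G : Type u} [Group G]

theorem commutator_le_of_normal_coatom (M : Subgroup G) [hMn : M.Normal] (hM : IsCoatom M) :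
    commutator G ≤ M := by
  obtain ⟨x, -, hx⟩ := SetLike.exists_of_lt (lt_top_iff_ne_top.mpr hM.1)
  have hsup : M ⊔ Subgroup.zpowers x = ⊤ := by
    apply hM.2
    apply lt_of_le_of_ne le_sup_left
    intro h
    apply hx
    rw [h]; exact Subgroup.mem_sup_right (Subgroup.mem_zpowers x)
  have hcyc : IsCyclic (G ⧸ M) := by
    rw [isCyclic_iff_exists_zpowers_eq_top]
    refine ⟨QuotientGroup.mk' M x, ?_⟩
    rw [← MonoidHom.map_zpowers, eq_top_iff, ← Subgroup.map_top_of_surjective _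
      (QuotientGroup.mk'_surjective M), ← hsup, Subgroup.map_sup]
    apply sup_le _ le_rfl
    have : M.map (QuotientGroup.mk' M) = ⊥ := by
      rw [Subgroup.map_eq_bot_iff, QuotientGroup.ker_mk']
    rw [this]
    exact bot_le
  let _ : CommGroup (G ⧸ M) := IsCyclic.commGroup
  have := Abelianization.commutator_subset_ker (QuotientGroup.mk' M)
  rwa [QuotientGroup.ker_mk'] at this

theorem commutator_le_frattini_of_isNilpotent [Finite G] [hG : Group.IsNilpotent G] :
    commutator G ≤ frattini G := by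
  unfold frattini Order.radical
  apply le_iInf
  intro M
  apply le_iInf
  intro hM
  have hMn : M.Normal := (Group.isNilpotent_of_finite_tfae.out 0 2 rfl rfl).mp hG M hM
  exact commutator_le_of_normal_coatom M hM

theorem fittingSubgroup_eq_sSup_abelian_minimal_normal [Finite G] (hΦ : frattini G = ⊥) :
    Cfsg.fittingSubgroup G = sSup {N : Subgroup G | N.Normal ∧ N ≠ ⊥ ∧ IsMulCommutative N ∧
      ∀ K : Subgroup G, K.Normal → K ≤ N → K = ⊥ ∨ K = N} := by
  obtain ⟨F, hF⟩ : ∃ F : Subgroup G, F = Cfsg.fittingSubgroup G := ⟨_, rfl⟩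
  rw [← hF]
  have hFn : F.Normal := by rw [hF]; exact fittingSubgroup_normal
  have hFnil : Group.IsNilpotent F := by rw [hF]; exact fittingSubgroup_isNilpotent
  obtain ⟨S, hS⟩ : ∃ S : Subgroup G, S = sSup {N : Subgroup G | N.Normal ∧ N ≠ ⊥ ∧
      IsMulCommutative N ∧ ∀ K : Subgroup G, K.Normal → K ≤ N → K = ⊥ ∨ K = N} := ⟨_, rfl⟩
  rw [← hS]
  have hSF : S ≤ F := by
    rw [hS]
    apply sSup_le
    rintro N ⟨hNn, -, hNc, -⟩
    rw [hF]
    exact le_fittingSubgroup hNn (isNilpotent_of_isMulCommutative N)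
  apply le_antisymm _ hSF
  -- F abelian
  have hΦF : frattini ↥F = ⊥ := by
    have h1 := frattini_map_subtype_le_of_normal F
    rw [hΦ, le_bot_iff, Subgroup.map_eq_bot_iff_of_injective _ (Subgroup.subtype_injective F)] at h1
    exact h1
  have hFcomm : ∀ a ∈ F, ∀ b ∈ F, a * b = b * a := by
    intro a ha b hb
    have h1 : commutator ↥F ≤ frattini ↥F := commutator_le_frattini_of_isNilpotent
    rw [hΦF, le_bot_iff] at h1
    have h2 : ⁅(⟨a, ha⟩ : F), (⟨b, hb⟩ : F)⁆ ∈ commutator ↥F :=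
      Subgroup.commutator_mem_commutator (Subgroup.mem_top _) (Subgroup.mem_top _)
    rw [h1, Subgroup.mem_bot, commutatorElement_eq_one_iff_mul_comm] at h2
    exact congrArg Subtype.val h2
  have hSn : S.Normal := by
    rw [hS]; exact Subgroup.sSup_normal _ (fun _ h => h.1)
  obtain ⟨L, hL⟩ := abelian_normal_complemented_of_frattini_eq_bot hΦ S
    (fun a ha b hb => hFcomm a (hSF ha) b (hSF hb))
  obtain ⟨K, hK⟩ : ∃ K : Subgroup G, K = F ⊓ L := ⟨_, rfl⟩
  have hKF : K ≤ F := by rw [hK]; exact inf_le_left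
  have hKL : K ≤ L := by rw [hK]; exact inf_le_right
  have hKn : K.Normal := by
    rw [← Subgroup.normalizer_eq_top_iff, eq_top_iff, ← hL.sup_eq_top]
    apply sup_le
    · intro s hs
      rw [Subgroup.mem_normalizer_iff]
      intro k
      constructor
      · intro hk
        rw [hFcomm s (hSF hs) k (hKF hk), mul_inv_cancel_right]; exact hk
      · intro hk
        have hkF : k ∈ F := by
          have := hFn.conj_mem _ (hKF hk) s⁻¹
          have e : s⁻¹ * (s * k * s⁻¹) * s⁻¹⁻¹ = k := by group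
          rwa [e] at this
        rw [hFcomm s (hSF hs) k hkF, mul_inv_cancel_right] at hk; exact hk
    · intro l hl
      rw [Subgroup.mem_normalizer_iff]
      intro k
      rw [hK]
      constructor
      · intro hk
        exact Subgroup.mem_inf.mpr ⟨hFn.conj_mem k (Subgroup.mem_inf.mp hk).1 l,
          L.mul_mem (L.mul_mem hl (Subgroup.mem_inf.mp hk).2) (L.inv_mem hl)⟩
      · intro hk
        have a1 := hFn.conj_mem _ (Subgroup.mem_inf.mp hk).1 l⁻¹
        have a2 := L.mul_mem (L.mul_mem (L.inv_mem hl) (Subgroup.mem_inf.mp hk).2) hl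
        have e : l⁻¹ * (l * k * l⁻¹) * l⁻¹⁻¹ = k := by group
        have e' : l⁻¹ * (l * k * l⁻¹) * l = k := by group
        rw [e] at a1
        rw [e'] at a2
        exact Subgroup.mem_inf.mpr ⟨a1, a2⟩
  have hKbot : K = ⊥ := by
    by_contra hne
    obtain ⟨N₀, hN₀K, hN₀n, hN₀ne, hN₀min⟩ := exists_minimal_normal_le K hne
    have hN₀c : IsMulCommutative N₀ := ⟨⟨fun a b => Subtype.ext
      (hFcomm a (hKF (hN₀K a.2)) b (hKF (hN₀K b.2)))⟩⟩
    have hN₀S : N₀ ≤ S := by
      rw [hS]; exact le_sSup ⟨hN₀n, hN₀ne, hN₀c, hN₀min⟩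
    apply hN₀ne
    rw [eq_bot_iff, ← hL.disjoint.eq_bot]
    exact le_inf hN₀S (le_trans hN₀K hKL)
  intro f hf
  have hf' : f ∈ S ⊔ L := by rw [hL.sup_eq_top]; exact Subgroup.mem_top f
  rw [Subgroup.mem_sup_of_normal_left] at hf'
  obtain ⟨s, hs, l, hl, rfl⟩ := hf'
  have hlK : l ∈ K := by
    rw [hK]
    refine Subgroup.mem_inf.mpr ⟨?_, hl⟩
    have : l = s⁻¹ * (s * l) := by group
    rw [this]
    exact F.mul_mem (F.inv_mem (hSF hs)) hf
  rw [hKbot, Subgroup.mem_bot] at hlK
  rw [hlK, mul_one]; exact hs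

end Cfsg.Agent.Lib.Helper1
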