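import Mathlib
import Cfsg.Agent.Lib.Helper1.TransferFocal
import Cfsg.Agent.Lib.Helper1.FactorizationSylow
set_option autoImplicit false
universe u v
open scoped Pointwise
namespace Cfsg.Agent.Lib.Helper1

theorem focalSubgroup_mono {G : Type u} [Group G] {K K' : Subgroup G} (h : K ≤ K') :
    K.focalSubgroup ≤ K'.focalSubgroup := by
  rw [Subgroup.focalSubgroup_def, Subgroup.focalSubgroup_def]
  apply Subgroup.closure_mono
  rintro g ⟨hg, x, hx, u, rfl⟩
  exact ⟨h hg, x, h hx, u, rfl⟩

theorem map_focalSubgroup_le {G : Type u} [Group G] (N : Subgroup G) (K : Subgroup N) :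
    K.focalSubgroup.map N.subtype ≤ (K.map N.subtype).focalSubgroup := by
  rw [Subgroup.focalSubgroup_def, Subgroup.focalSubgroup_def, MonoidHom.map_closure]
  apply Subgroup.closure_mono
  rintro _ ⟨g, ⟨hg, x, hx, u, rfl⟩, rfl⟩
  refine ⟨⟨_, hg, rfl⟩, (x : G), ⟨x, hx, rfl⟩, (u : G), ?_⟩
  simp [commutatorElement_def]

theorem focal_iterate_map_le {G : Type u} [Group G] (N : Subgroup G) : ∀ (m : ℕ) (K : Subgroup N),
    ((fun K : Subgroup N => K.focalSubgroup)^[m] K).map N.subtype ≤
      (fun K : Subgroup G => K.focalSubgroup)^[m] (K.map N.subtype) := by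
  intro m
  induction m with
  | zero => intro K; exact le_rfl
  | succ m ih =>
    intro K
    rw [Function.iterate_succ_apply, Function.iterate_succ_apply]
    refine le_trans (ih _) ?_
    have hmono : Monotone (fun K : Subgroup G => K.focalSubgroup) := fun _ _ h => focalSubgroup_mono h
    exact hmono.iterate m (map_focalSubgroup_le N K)

/-- A normal Hall subgroup is characteristic. -/
theorem characteristic_of_normal_of_coprime {G : Type u} [Group G] [Finite G] (M : Subgroup G)
    [hM : M.Normal] (hcop : (Nat.card M).Coprime M.index) : M.Characteristic := by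
  rw [Subgroup.characteristic_iff_map_le]
  intro φ
  rintro _ ⟨x, hx, rfl⟩
  have h1 : orderOf (φ x) ∣ Nat.card M := by
    have : orderOf (φ x) = orderOf x := orderOf_injective φ.toMonoidHom φ.injective x
    rw [this]
    have := orderOf_dvd_natCard (⟨x, hx⟩ : M)
    rwa [Subgroup.orderOf_mk] at this
  have h2 : orderOf (QuotientGroup.mk' M (φ x)) ∣ M.index := by
    rw [Subgroup.index_eq_card]
    exact orderOf_dvd_natCard _
  have h3 : orderOf (QuotientGroup.mk' M (φ x)) ∣ orderOf (φ x) := orderOf_map_dvd _ _
  have h4 : orderOf (QuotientGroup.mk' M (φ x)) = 1 :=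
    Nat.eq_one_of_dvd_coprimes hcop (dvd_trans h3 h1) h2
  rw [orderOf_eq_one_iff] at h4
  rw [MulEquiv.coe_toMonoidHom]
  exact (QuotientGroup.eq_one_iff _).mp h4


theorem focal_series_complement : ∀ (n : ℕ) (G : Type u) [Group G] [Finite G] (H : Subgroup G),
    (Nat.card H).Coprime H.index → (fun K : Subgroup G => K.focalSubgroup)^[n] H = ⊥ →
    ∃ N : Subgroup G, N.Normal ∧ Subgroup.IsComplement' N H := by
  intro n
  induction n with
  | zero =>
    intro G _ _ H _ hH
    rw [Function.iterate_zero, id] at hH
    subst hH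
    exact ⟨⊤, inferInstance, Subgroup.isComplement'_top_bot⟩
  | succ n ih =>
    intro G _ _ H hHall hH
    rw [Function.iterate_succ_apply] at hH
    have hcop : Nat.Coprime H.index (⁅H, H⁆.relIndex H) :=
      Nat.Coprime.coprime_dvd_right (Subgroup.relIndex_dvd_card _ _) hHall.symm
    obtain ⟨hN1, hN2⟩ := transferFocal_ker_of_coprime H hcop
    obtain ⟨N, hN⟩ : ∃ N : Subgroup G, N = H.transferFocal.ker := ⟨_, rfl⟩
    have hNn : N.Normal := by rw [hN]; infer_instance
    rw [← hN] at hN1 hN2
    obtain ⟨K, hK⟩ : ∃ K : Subgroup N, K = H.focalSubgroup.subgroupOf N := ⟨_, rfl⟩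
    have hKmap : K.map N.subtype = H.focalSubgroup := by
      rw [hK, Subgroup.map_subgroupOf_eq_of_le]; rw [← hN1]; exact inf_le_left
    have hKiter : (fun K : Subgroup N => K.focalSubgroup)^[n] K = ⊥ := by
      have := focal_iterate_map_le N n K
      rw [hKmap, hH] at this
      rw [le_bot_iff, Subgroup.map_eq_bot_iff_of_injective _ N.subtype_injective] at this
      exact this
    have hKcard : Nat.card K = Nat.card H.focalSubgroup := by
      rw [← hKmap]; exact (Subgroup.card_map_of_injective N.subtype_injective).symm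
    have hfac : ∀ g : G, ∃ a ∈ N, ∃ b ∈ H, g = a * b := by
      intro g
      have hg : g ∈ ((N ⊔ H : Subgroup G) : Set G) := by rw [hN2]; trivial
      rw [Subgroup.normal_mul] at hg
      obtain ⟨a, ha, b, hb, rfl⟩ := Set.mem_mul.mp hg
      exact ⟨a, ha, b, hb, rfl⟩
    have hKidx : K.index = H.index := by
      rw [hK, ← relIndex_eq_index_of_mul_eq N H hfac, ← hN1]
      show (N ⊓ H).relIndex N = _
      rw [Subgroup.inf_relIndex_left]
    have hdvd : Nat.card H.focalSubgroup ∣ Nat.card H := Subgroup.card_dvd_of_le H.focalSubgroup_le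
    have hKhall : (Nat.card K).Coprime K.index := by
      rw [hKcard, hKidx]
      exact Nat.Coprime.coprime_dvd_left hdvd hHall
    obtain ⟨M', hM'n, hM'c⟩ := ih N K hKhall hKiter
    have hM'idx : M'.index = Nat.card K := hM'c.symm.index_eq_card
    have hM'card : Nat.card M' = H.index := by
      rw [← hKidx]; exact hM'c.index_eq_card.symm
    have hM'char : M'.Characteristic := by
      apply characteristic_of_normal_of_coprime
      rw [hM'idx, hM'card, hKcard]
      exact (Nat.Coprime.coprime_dvd_left hdvd hHall).symm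
    have hMn : (M'.map N.subtype).Normal := ConjAct.normal_of_characteristic_of_normal
    refine ⟨M'.map N.subtype, hMn, ?_⟩
    apply Subgroup.isComplement'_of_coprime
    · rw [Subgroup.card_map_of_injective N.subtype_injective, hM'card, mul_comm]
      exact H.card_mul_index
    · rw [Subgroup.card_map_of_injective N.subtype_injective, hM'card]; exact hHall.symm

end Cfsg.Agent.Lib.Helper1
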