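import Mathlib
import Cfsg.Agent.S0144
import Cfsg.Agent.Lib.Helper1.ComplementSystem2
import Cfsg.Agent.Lib.Helper1.MaxSubgroupSolvable
import Cfsg.Agent.Lib.Helper1.SolvablePmQ
set_option autoImplicit false
universe u v
open scoped Pointwise
namespace Cfsg.Agent.Lib.Helper1
variable {G : Type u} [Group G]

/-- `H` is a Hall `p`-complement. -/
def IsPComplement (p : ℕ) (H : Subgroup G) : Prop :=
  H.index = p ^ (Nat.card G).factorization p

theorem IsPComplement.card_coprime [Finite G] {p : ℕ} (hp : p.Prime) {H : Subgroup G}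
    (hH : IsPComplement p H) : (Nat.card H).Coprime p := by
  have h := H.card_mul_index
  rw [hH] at h
  have h2 : Nat.card H = Nat.card G / p ^ (Nat.card G).factorization p :=
    (Nat.div_eq_of_eq_mul_left (pow_pos hp.pos _) h.symm).symm
  rw [h2]
  exact (Nat.coprime_ordCompl hp Nat.card_pos.ne').symm

theorem IsPComplement.map_mk [Finite G] {p : ℕ} (hp : p.Prime) {H : Subgroup G}
    (hH : IsPComplement p H) (N : Subgroup G) [N.Normal] :
    IsPComplement p (H.map (QuotientGroup.mk' N)) := by
  unfold IsPComplement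
  have hsurj := QuotientGroup.mk'_surjective N
  have h1 : (H.map (QuotientGroup.mk' N)).index ∣ H.index := Subgroup.index_map_dvd H hsurj
  rw [hH] at h1
  obtain ⟨b, -, hb⟩ := (Nat.dvd_prime_pow hp).mp h1
  rw [hb]
  congr 1
  symm
  apply factorization_eq_of_eq_mul_pow hp (m := Nat.card (H.map (QuotientGroup.mk' N)))
  · exact Nat.Coprime.coprime_dvd_left (Subgroup.card_map_dvd _ _) (hH.card_coprime hp)
  · rw [← hb]; exact (Subgroup.card_mul_index _).symm

/-- The Hall-complement hypothesis passes to a Hall complement. -/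
theorem IsPComplement.inherit [Finite G] {p : ℕ} (hp : p.Prime) {H : Subgroup G}
    (hH : IsPComplement p H)
    (hG : ∀ t : ℕ, t.Prime → ∃ L : Subgroup G, IsPComplement t L) :
    ∀ t : ℕ, t.Prime → ∃ L : Subgroup H, IsPComplement t L := by
  intro t ht
  have hcard := H.card_mul_index
  rw [hH] at hcard
  by_cases htp : t = p
  · subst htp
    refine ⟨⊤, ?_⟩
    unfold IsPComplement
    rw [Subgroup.index_top]
    have : (Nat.card H).factorization t = 0 :=
      Nat.factorization_eq_zero_of_not_dvd
        ((Nat.Prime.coprime_iff_not_dvd ht).mp (hH.card_coprime ht).symm)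
    rw [this, pow_zero]
  · obtain ⟨L, hL⟩ := hG t ht
    refine ⟨L.subgroupOf H, ?_⟩
    unfold IsPComplement
    have hcop : H.index.Coprime L.index := by
      rw [hH, hL]
      exact Nat.Coprime.pow _ _ ((Nat.coprime_primes hp ht).mpr (Ne.symm htp))
    have h1 : (L.subgroupOf H).index = L.index := relIndex_eq_index_of_coprime H L hcop
    rw [h1, hL]
    congr 1
    rw [← hcard, Nat.factorization_mul Nat.card_pos.ne' (pow_ne_zero _ hp.ne_zero),
      Finsupp.add_apply, Nat.Prime.factorization_pow hp, Finsupp.single_eq_of_ne htp, add_zero]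

/-- An `s`-subgroup is conjugate into any subgroup of index prime to `s`. -/
theorem exists_conj_le_of_isPGroup_of_not_dvd_index [Finite G] {s : ℕ} [hs : Fact s.Prime]
    (X K : Subgroup G) (hX : IsPGroup s X) (hK : ¬ s ∣ K.index) :
    ∃ g : G, X ≤ MulAut.conj g • K := by
  let Q : Sylow s K := default
  have hQ' : IsPGroup s (Q.map K.subtype : Subgroup G) := Q.2.map K.subtype
  have hidx : ¬ s ∣ ((Q : Subgroup K).map K.subtype).index := by
    rw [Subgroup.index_map_subtype]
    exact Nat.Prime.not_dvd_mul hs.out Q.not_dvd_index hK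
  let S₁ : Sylow s G := hQ'.toSylow hidx
  obtain ⟨S, hS⟩ := hX.exists_le_sylow
  obtain ⟨g, hg⟩ := MulAction.exists_smul_eq G S₁ S
  refine ⟨g, ?_⟩
  have h1 : (S : Subgroup G) = MulAut.conj g • (S₁ : Subgroup G) := by
    rw [← hg, Sylow.coe_subgroup_smul]
  have h2 : (S₁ : Subgroup G) ≤ K := Subgroup.map_subtype_le _
  calc X ≤ S := hS
    _ = MulAut.conj g • (S₁ : Subgroup G) := h1
    _ ≤ MulAut.conj g • K := Subgroup.pointwise_smul_le_pointwise_smul_iff.mpr h2


theorem hall_converse_aux : ∀ (n : ℕ) (G : Type u) [Group G] [Finite G], Nat.card G = n →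
    (∀ t : ℕ, t.Prime → ∃ L : Subgroup G, IsPComplement t L) → Group.IsSolvable G := by
  intro n
  induction n using Nat.strong_induction_on with
  | _ n ih =>
    intro G _ _ hn hG
    rcases subsingleton_or_nontrivial G with hsub | hnt
    · infer_instance
    have hcard1 : Nat.card G ≠ 1 := by
      intro h
      rw [Nat.card_eq_one_iff_unique] at h
      exact not_subsingleton G h.1
    obtain ⟨p, hp, hpd⟩ := Nat.exists_prime_and_dvd hcard1
    obtain ⟨H, hH⟩ := hG p hp
    have hv : (Nat.card G).factorization p ≠ 0 := by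
      intro h0
      rcases (Nat.factorization_eq_zero_iff _ _).mp h0 with h | h | h
      · exact h hp
      · exact h hpd
      · exact Nat.card_pos.ne' h
    have hHidx : p ∣ H.index := by
      rw [hH]; exact dvd_pow_self p hv
    have hHlt : Nat.card H < n := by
      rw [← hn, ← H.card_mul_index]
      have h2 : 2 ≤ H.index := le_trans hp.two_le (Nat.le_of_dvd (Nat.pos_of_ne_zero Subgroup.index_ne_zero_of_finite) hHidx)
      have h1 : 0 < Nat.card H := Nat.card_pos
      nlinarith
    have hHsolv : Group.IsSolvable H := ih _ hHlt H rfl (hH.inherit hp hG)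
    rcases subsingleton_or_nontrivial H with hHsub | hHnt
    · have : Nat.card G = p ^ (Nat.card G).factorization p := by
        conv_lhs => rw [← H.card_mul_index, hH, Nat.card_unique, one_mul]
      exact isSolvable_of_card_prime_pow hp this
    obtain ⟨N, hNn, hNbot, hNmin⟩ := exists_minimal_normal (G := H)
    obtain ⟨-, s, hs, hNs⟩ := minimal_normal_of_solvable N hNbot hNmin
    have : Fact s.Prime := ⟨hs⟩
    have hNp : IsPGroup s N := by
      intro x
      refine ⟨1, ?_⟩
      rw [pow_one]
      apply Subtype.ext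
      rw [Subgroup.coe_pow]
      exact hNs x x.2
    obtain ⟨N', hN'⟩ : ∃ N' : Subgroup G, N' = N.map H.subtype := ⟨_, rfl⟩
    have hN'p : IsPGroup s N' := by rw [hN']; exact hNp.map H.subtype
    have hN'bot : N' ≠ ⊥ := by
      rw [hN']
      intro h
      exact hNbot ((Subgroup.map_eq_bot_iff_of_injective _ H.subtype_injective).mp h)
    have hN'norm : ∀ h ∈ H, ∀ x ∈ N', h * x * h⁻¹ ∈ N' := by
      intro h hh x hx
      rw [hN'] at hx ⊢
      obtain ⟨y, hy, rfl⟩ := hx
      exact ⟨⟨h, hh⟩ * y * ⟨h, hh⟩⁻¹, hNn.conj_mem y hy ⟨h, hh⟩, rfl⟩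
    by_cases h3 : ∃ q : ℕ, q.Prime ∧ q ∣ Nat.card G ∧ q ≠ p ∧ q ≠ s
    · obtain ⟨q, hq, hqd, hqp, hqs⟩ := h3
      obtain ⟨K₀, hK₀⟩ := hG q hq
      have hK₀s : ¬ s ∣ K₀.index := by
        rw [hK₀]
        intro h
        exact hqs ((Nat.prime_dvd_prime_iff_eq hs hq).mp (hs.dvd_of_dvd_pow h)).symm
      obtain ⟨g, hg⟩ := exists_conj_le_of_isPGroup_of_not_dvd_index N' K₀ hN'p hK₀s
      obtain ⟨K, hK⟩ : ∃ K, K = MulAut.conj g • K₀ := ⟨_, rfl⟩
      rw [← hK] at hg
      have hKc : IsPComplement q K := by
        unfold IsPComplement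
        rw [hK, index_conj_smul]
        exact hK₀
      have hcop : K.index.Coprime H.index := by
        rw [hKc, hH]
        exact Nat.Coprime.pow _ _ ((Nat.coprime_primes hq hp).mpr hqp)
      have hKH := mul_eq_of_coprime_index K H hcop
      obtain ⟨M, hM⟩ : ∃ M, M = Subgroup.normalClosure (N' : Set G) := ⟨_, rfl⟩
      have hMn : M.Normal := by rw [hM]; exact Subgroup.normalClosure_normal
      have hMK : M ≤ K := by
        rw [hM]
        unfold Subgroup.normalClosure
        rw [Subgroup.closure_le]
        intro y hy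
        rw [Group.mem_conjugatesOfSet_iff] at hy
        obtain ⟨x, hx, hconj⟩ := hy
        rw [isConj_iff] at hconj
        obtain ⟨c, rfl⟩ := hconj
        obtain ⟨k, hk, h, hh, rfl⟩ := hKH c
        have e : k * h * x * (k * h)⁻¹ = k * (h * x * h⁻¹) * k⁻¹ := by group
        rw [e]
        exact K.mul_mem (K.mul_mem hk (hg (hN'norm h hh x hx))) (K.inv_mem hk)
      have hv' : (Nat.card G).factorization q ≠ 0 := by
        intro h0
        rcases (Nat.factorization_eq_zero_iff _ _).mp h0 with h | h | h
        · exact h hq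
        · exact h hqd
        · exact Nat.card_pos.ne' h
      have hKlt : Nat.card K < n := by
        rw [← hn, ← K.card_mul_index]
        have hqK : q ∣ K.index := by rw [hKc]; exact dvd_pow_self q hv'
        have h2 : 2 ≤ K.index := le_trans hq.two_le (Nat.le_of_dvd (Nat.pos_of_ne_zero Subgroup.index_ne_zero_of_finite) hqK)
        have h1 : 0 < Nat.card K := Nat.card_pos
        nlinarith
      have hKsolv : Group.IsSolvable K := ih _ hKlt K rfl (hKc.inherit hq hG)
      have hMsolv : Group.IsSolvable M :=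
        Group.isSolvable_of_isSolvable_injective (Subgroup.inclusion_injective hMK)
      have hMbot : M ≠ ⊥ := by
        intro h
        apply hN'bot
        rw [eq_bot_iff, ← h, hM]
        exact Subgroup.le_normalClosure
      have hQlt : Nat.card (G ⧸ M) < n := by
        rw [← hn, ← M.card_mul_index, ← Subgroup.index_eq_card]
        have h1 : 0 < M.index := Nat.pos_of_ne_zero Subgroup.index_ne_zero_of_finite
        have h2 : 2 ≤ Nat.card M := by
          have : 0 < Nat.card M := Nat.card_pos
          have : Nat.card M ≠ 1 := fun h => hMbot (Subgroup.card_eq_one.mp h)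
          omega
        nlinarith
      have hQsolv : Group.IsSolvable (G ⧸ M) := ih _ hQlt (G ⧸ M) rfl (fun t ht => by
        obtain ⟨L, hL⟩ := hG t ht
        exact ⟨_, hL.map_mk ht M⟩)
      exact isSolvable_of_normal_of_quotient M hMsolv hQsolv
    · push Not at h3
      have hHs : ∃ b, Nat.card H = s ^ b := by
        refine ⟨_, Nat.eq_prime_pow_of_unique_prime_dvd Nat.card_pos.ne' ?_⟩
        intro d hd hdH
        have hdG : d ∣ Nat.card G := dvd_trans hdH (Subgroup.card_subgroup_dvd_card H)
        have hdp : d ≠ p := by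
          rintro rfl
          exact (Nat.Prime.coprime_iff_not_dvd hd).mp (hH.card_coprime hd).symm hdH
        exact h3 d hd hdG hdp
      obtain ⟨b, hb⟩ := hHs
      exact Cfsg.Agent.S0144.result s p b _ hs hp (by rw [← H.card_mul_index, hb, hH])

end Cfsg.Agent.Lib.Helper1
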