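import Mathlib
import Cfsg.Agent.Lib.Helper1.HallConverse
import Cfsg.Agent.Lib.Helper1.KegelLemma
set_option autoImplicit false
universe u v
open scoped Pointwise
namespace Cfsg.Agent.Lib.Helper1
variable {G : Type u} [Group G]

theorem Permute.sup_eq {H K : Subgroup G} (_hp : Permute H K) (S : Subgroup G)
    (hS : (S : Set G) = (H : Set G) * (K : Set G)) : S = H ⊔ K := by
  apply le_antisymm
  · intro x hx
    have : x ∈ (S : Set G) := hx
    rw [hS] at this
    obtain ⟨h, hh, k, hk, rfl⟩ := this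
    exact Subgroup.mul_mem _ (Subgroup.mem_sup_left hh) (Subgroup.mem_sup_right hk)
  · exact sup_le (le_of_coe_eq_mul_left hS) (le_of_coe_eq_mul_right hS)

theorem Permute.card_sup_of_coprime [Finite G] {H K : Subgroup G} (hp : Permute H K)
    (hcop : (Nat.card H).Coprime (Nat.card K)) :
    Nat.card (H ⊔ K : Subgroup G) = Nat.card H * Nat.card K := by
  obtain ⟨S, hS⟩ := hp.exists_subgroup
  have hSsup := hp.sup_eq S hS
  rw [← hSsup]
  apply le_antisymm
  · have h1 : Nat.card S = Nat.card ((H : Set G) * (K : Set G) : Set G) := by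
      rw [← hS]; rfl
    rw [h1]
    exact Set.natCard_mul_le
  · apply Nat.le_of_dvd Nat.card_pos
    apply hcop.mul_dvd_of_dvd_of_dvd
    · exact Subgroup.card_dvd_of_le (le_of_coe_eq_mul_left hS)
    · exact Subgroup.card_dvd_of_le (le_of_coe_eq_mul_right hS)

theorem permute_bot_left (K : Subgroup G) : Permute ⊥ K := by
  intro h hh k hk
  rw [Subgroup.mem_bot] at hh
  subst hh
  exact ⟨1, Subgroup.one_mem _, k, hk, by group⟩

theorem sylow_system_partial [Finite G] (S : (p : Nat.Primes) → Sylow (p : ℕ) G)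
    (hS : ∀ p q : Nat.Primes, Permute (S p : Subgroup G) (S q : Subgroup G))
    (T : Finset Nat.Primes) :
    ∀ q : Nat.Primes, q ∉ T →
      (Nat.card (⨆ t ∈ T, (S t : Subgroup G) : Subgroup G)).Coprime q ∧
        Permute (⨆ t ∈ T, (S t : Subgroup G)) (S q : Subgroup G) := by
  classical
  induction T using Finset.induction_on with
  | empty =>
    intro q _
    simp only [Finset.notMem_empty, iSup_false, iSup_bot]
    refine ⟨by simp, permute_bot_left _⟩
  | insert a T ha ih =>
    intro q hq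
    have hqa : q ≠ a := fun h => hq (h ▸ Finset.mem_insert_self a T)
    have hqT : q ∉ T := fun h => hq (Finset.mem_insert_of_mem h)
    rw [Finset.iSup_insert]
    obtain ⟨hc_a, hp_a⟩ := ih a ha
    obtain ⟨hc_q, hp_q⟩ := ih q hqT
    have : Fact (a : ℕ).Prime := ⟨a.2⟩
    obtain ⟨k, hk⟩ := (S a).2.exists_card_eq
    have hcop : (Nat.card (⨆ t ∈ T, (S t : Subgroup G) : Subgroup G)).Coprime
        (Nat.card (S a : Subgroup G)) := by
      rw [hk]; exact Nat.Coprime.pow_right _ hc_a
    have hcard := hp_a.card_sup_of_coprime hcop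
    rw [sup_comm] at hcard
    constructor
    · rw [hcard]
      apply Nat.Coprime.mul_left hc_q
      rw [hk]
      apply Nat.Coprime.pow_left
      rw [Nat.coprime_primes a.2 q.2]
      exact fun h => hqa (Subtype.ext h).symm
    · exact Permute.sup_left (hS a q) hp_q


theorem solvable_of_sylow_system [Finite G] (S : (p : Nat.Primes) → Sylow (p : ℕ) G)
    (hS : ∀ p q : Nat.Primes, (S p : Set G) * (S q : Set G) = (S q : Set G) * (S p : Set G)) :
    Group.IsSolvable G := by
  classical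
  have hperm : ∀ p q : Nat.Primes, Permute (S p : Subgroup G) (S q : Subgroup G) := by
    intro p q h hh k hk
    have : k * h ∈ (S q : Set G) * (S p : Set G) := ⟨k, hk, h, hh, rfl⟩
    rw [← hS p q] at this
    obtain ⟨h', hh', k', hk', e⟩ := this
    exact ⟨h', hh', k', hk', e.symm⟩
  apply hall_converse_aux _ G rfl
  intro p hp
  obtain ⟨p', hp'⟩ : ∃ p' : Nat.Primes, (p' : ℕ) = p := ⟨⟨p, hp⟩, rfl⟩
  subst hp'
  have hfin : {t : Nat.Primes | (t : ℕ) ∣ Nat.card G ∧ t ≠ p'}.Finite := by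
    have h1 : {t : Nat.Primes | (t : ℕ) ∈ (Finset.range (Nat.card G + 1) : Set ℕ)}.Finite :=
      Set.Finite.preimage (f := fun t : Nat.Primes => (t : ℕ)) (Subtype.val_injective.injOn)
        (Finset.finite_toSet _)
    apply h1.subset
    rintro t ⟨ht, -⟩
    have : (t : ℕ) ≤ Nat.card G := Nat.le_of_dvd Nat.card_pos ht
    simp only [Finset.coe_range, Set.mem_Iio, Set.mem_ofPred_eq]
    omega
  obtain ⟨T, hT⟩ : ∃ T : Finset Nat.Primes,
      ∀ t : Nat.Primes, t ∈ T ↔ ((t : ℕ) ∣ Nat.card G ∧ t ≠ p') :=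
    ⟨hfin.toFinset, fun t => by rw [Set.Finite.mem_toFinset]; rfl⟩
  obtain ⟨D, hD⟩ : ∃ D : Subgroup G, D = ⨆ t ∈ T, (S t : Subgroup G) := ⟨_, rfl⟩
  have hp'T : p' ∉ T := by
    rw [hT]; exact fun h => h.2 rfl
  have hDcop : (Nat.card D).Coprime p' := by
    have := (sylow_system_partial S hperm T p' hp'T).1
    rw [← hD] at this
    exact this
  refine ⟨D, ?_⟩
  unfold IsPComplement
  have hpow : ∃ k, D.index = (p' : ℕ) ^ k := by
    refine ⟨_, Nat.eq_prime_pow_of_unique_prime_dvd Subgroup.index_ne_zero_of_finite ?_⟩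
    intro r hr hrd
    by_contra hne
    obtain ⟨r', hr'⟩ : ∃ r' : Nat.Primes, (r' : ℕ) = r := ⟨⟨r, hr⟩, rfl⟩
    subst hr'
    have hrG : (r' : ℕ) ∣ Nat.card G := dvd_trans hrd (Subgroup.index_dvd_card D)
    have hr'T : r' ∈ T := by
      rw [hT]
      exact ⟨hrG, fun h => hne (by rw [h])⟩
    have hle : (S r' : Subgroup G) ≤ D := by
      rw [hD]
      exact le_iSup₂_of_le (f := fun (t : Nat.Primes) (_ : t ∈ T) => (S t : Subgroup G)) r' hr'T le_rfl
    have : Fact (r' : ℕ).Prime := ⟨r'.2⟩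
    exact (S r').not_dvd_index (dvd_trans hrd (Subgroup.index_dvd_of_le hle))
  obtain ⟨k, hk⟩ := hpow
  rw [hk]
  congr 1
  symm
  exact factorization_eq_of_eq_mul_pow hp hDcop (by rw [← hk]; exact (D.card_mul_index).symm)

end Cfsg.Agent.Lib.Helper1
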