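import Mathlib
import Cfsg.Agent.Lib.Helper1.FrobeniusConj2
import Cfsg.Agent.Lib.Helper1.CoprimeAbelian
import Cfsg.Agent.Lib.Helper3.CyclicSub
import Cfsg.Agent.Lib.Helper1.SylowSystemSolvable
import Cfsg.Agent.S0040
set_option autoImplicit false
universe u v
open scoped Pointwise commutatorElement
namespace Cfsg.Agent.Lib.Helper1
variable {G : Type u} [Group G]

theorem pgroup_center_data [Finite G] {r : ℕ} [Fact r.Prime] (R' : Subgroup G) (hR'p : IsPGroup r R')
    (hR'ne : R' ≠ ⊥) :
    R' ⊓ Subgroup.centralizer (R' : Set G) ≠ ⊥ ∧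
      IsMulCommutative (R' ⊓ Subgroup.centralizer (R' : Set G) : Subgroup G) ∧
      Subgroup.normalizer (R' : Set G) ≤
        Subgroup.normalizer ((R' ⊓ Subgroup.centralizer (R' : Set G) : Subgroup G) : Set G) := by
  refine ⟨?_, ?_, ?_⟩
  · have : Nontrivial R' := (Subgroup.nontrivial_iff_ne_bot R').mpr hR'ne
    have hc := hR'p.center_nontrivial
    obtain ⟨z, hz⟩ := exists_ne (1 : Subgroup.center R')
    intro h
    have hmem : ((z : R') : G) ∈ R' ⊓ Subgroup.centralizer (R' : Set G) := by
      refine Subgroup.mem_inf.mpr ⟨(z : R').2, ?_⟩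
      rw [Subgroup.mem_centralizer_iff]
      intro y hy
      have := Subgroup.mem_center_iff.mp z.2 ⟨y, hy⟩
      exact congrArg Subtype.val this
    rw [h, Subgroup.mem_bot] at hmem
    apply hz
    apply Subtype.ext
    apply Subtype.ext
    exact hmem
  · refine ⟨⟨fun a b => ?_⟩⟩
    apply Subtype.ext
    have ha : (a : G) ∈ R' ⊓ Subgroup.centralizer (R' : Set G) := a.2
    have hb : (b : G) ∈ R' ⊓ Subgroup.centralizer (R' : Set G) := b.2
    exact Subgroup.mem_centralizer_iff.mp (Subgroup.mem_inf.mp hb).2 a (Subgroup.mem_inf.mp ha).1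
  · apply le_normalizer_of_conj_mem
    intro x hx z hz
    obtain ⟨hz1, hz2⟩ := Subgroup.mem_inf.mp hz
    refine Subgroup.mem_inf.mpr ⟨(Subgroup.mem_normalizer_iff.mp hx z).mp hz1, ?_⟩
    rw [Subgroup.mem_centralizer_iff]
    intro y hy
    have hy' : x⁻¹ * y * x ∈ R' := by
      have := (Subgroup.mem_normalizer_iff.mp (Subgroup.inv_mem _ hx) y).mp hy
      simpa using this
    have h1 := Subgroup.mem_centralizer_iff.mp hz2 _ hy'
    calc y * (x * z * x⁻¹) = x * ((x⁻¹ * y * x) * z) * x⁻¹ := by group
      _ = x * (z * (x⁻¹ * y * x)) * x⁻¹ := by rw [h1]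
      _ = x * z * x⁻¹ * y := by group

theorem exists_invariant_abelian_of_coprime [Finite G] (A K : Subgroup G) (hK : K ≠ ⊥)
    (hAK : A ≤ Subgroup.normalizer (K : Set G)) (hcop : (Nat.card A).Coprime (Nat.card K))
    (hsolv : Group.IsSolvable A ∨ Group.IsSolvable K) :
    ∃ V : Subgroup G, V ≠ ⊥ ∧ V ≤ K ∧ IsMulCommutative V ∧
      A ≤ Subgroup.normalizer (V : Set G) := by
  have hKcard : Nat.card K ≠ 1 := fun h => hK (Subgroup.card_eq_one.mp h)
  obtain ⟨r, hr, hrK⟩ := Nat.exists_prime_and_dvd hKcard
  have : Fact r.Prime := ⟨hr⟩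
  obtain ⟨R, hR⟩ := coprime_exists_invariant_sylow A K hAK hcop hsolv r
  obtain ⟨R', hR'⟩ : ∃ R' : Subgroup G, R' = (R : Subgroup K).map K.subtype := ⟨_, rfl⟩
  rw [← hR'] at hR
  have hR'K : R' ≤ K := by rw [hR']; exact Subgroup.map_subtype_le _
  have hR'p : IsPGroup r R' := by rw [hR']; exact R.isPGroup'.map _
  have hR'ne : R' ≠ ⊥ := by
    intro h
    have h1 : Nat.card R' = Nat.card R := by
      rw [hR']; exact Subgroup.card_map_of_injective K.subtype_injective
    rw [h, Subgroup.card_bot, R.card_eq_multiplicity] at h1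
    have h2 : (Nat.card K).factorization r = 0 := by
      by_contra h0
      have : 1 < r ^ (Nat.card K).factorization r := Nat.one_lt_pow h0 hr.one_lt
      omega
    have h3 := (Nat.factorization_eq_zero_iff _ _).mp h2
    rcases h3 with h3 | h3 | h3
    · exact h3 hr
    · exact h3 hrK
    · exact Nat.card_pos.ne' h3
  obtain ⟨h1, h2, h3⟩ := pgroup_center_data R' hR'p hR'ne
  exact ⟨_, h1, inf_le_left.trans hR'K, h2, hR.trans h3⟩

/-- A group of order `p * q` acting fixed-point-freely on a nontrivial group is cyclic. -/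
theorem isCyclic_of_fpf_of_card_eq_mul [Finite G] (D K : Subgroup G) (hK : K ≠ ⊥)
    (hDK : D ≤ Subgroup.normalizer (K : Set G))
    (hfpf : ∀ a ∈ D, a ≠ 1 → K ⊓ Subgroup.centralizer {a} = ⊥)
    (hsolv : Group.IsSolvable D) {p q : ℕ} (hp : p.Prime) (hq : q.Prime)
    (hcard : Nat.card D = p * q) : IsCyclic D := by
  have hcop := coprime_of_fpf D K hDK hfpf
  obtain ⟨V, hVne, hVK, hVc, hDV⟩ := exists_invariant_abelian_of_coprime D K hK hDK hcop (Or.inl hsolv)
  apply fpf_on_abelian_cyclic D V hVne hDV _ (Or.inr ⟨p, q, hp, hq, hcard⟩)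
  intro a ha ha1
  rw [eq_bot_iff, ← hfpf a ha ha1]
  exact inf_le_inf_right _ hVK


theorem orderOf_conj_eq (g s : G) : orderOf (g * s * g⁻¹) = orderOf s := by
  have := orderOf_injective (MulAut.conj g).toMonoidHom (MulAut.conj g).injective s
  simpa using this

/-- In a group `H` with cyclic derived subgroup `A'` of order prime to `p`, an element `y` of order
`p` centralizing `A'` is central. -/
theorem central_of_centralizes_commutator {H : Type u} [Group H] [Finite H] {p : ℕ} (hp : p.Prime)
    (hpA : ¬ p ∣ Nat.card (commutator H)) (y : H) (hy : orderOf y = p)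
    (hcent : ∀ w ∈ commutator H, y * w = w * y) : y ∈ Subgroup.center H := by
  rw [Subgroup.mem_center_iff]
  intro h
  set c := y⁻¹ * (h * y * h⁻¹) with hc
  have hcA : c ∈ commutator H := by
    have : c = ⁅y⁻¹, h⁆ := by rw [hc, commutatorElement_def]; group
    rw [this]
    exact Subgroup.commutator_mem_commutator (Subgroup.mem_top _) (Subgroup.mem_top _)
  have hcomm : Commute y c := hcent c hcA
  have h1 : (h * y * h⁻¹) ^ p = 1 := by
    rw [← hy, ← orderOf_conj_eq h y]; exact pow_orderOf_eq_one _
  have h2 : h * y * h⁻¹ = y * c := by rw [hc]; group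
  rw [h2, hcomm.mul_pow, ← hy, pow_orderOf_eq_one, one_mul, hy] at h1
  have h3 : orderOf c ∣ p := orderOf_dvd_of_pow_eq_one h1
  have h4 : orderOf c ∣ Nat.card (commutator H) := by
    have : orderOf (⟨c, hcA⟩ : commutator H) = orderOf c := Subgroup.orderOf_mk c hcA
    rw [← this]; exact orderOf_dvd_natCard _
  have h5 : orderOf c = 1 := by
    rcases (Nat.dvd_prime hp).mp h3 with h | h
    · exact h
    · exfalso; rw [h] at h4; exact hpA h4
  have h6 : c = 1 := orderOf_eq_one_iff.mp h5
  rw [h6, mul_one] at h2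
  calc h * y = h * y * h⁻¹ * h := by group
    _ = y * h := by rw [h2]


theorem fpf_prime_order_commute [Finite G] (H K : Subgroup G) (hK : K ≠ ⊥)
    (hHK : H ≤ Subgroup.normalizer (K : Set G))
    (hfpf : ∀ h ∈ H, h ≠ 1 → K ⊓ Subgroup.centralizer {h} = ⊥) (hsolv : Group.IsSolvable H)
    {p q : ℕ} (hp : p.Prime) (hq : q.Prime) (hpq : p ≠ q) {w y : G} (hw : w ∈ H) (hy : y ∈ H)
    (hwo : orderOf w = q) (hyo : orderOf y = p) (hnorm : y * w * y⁻¹ ∈ Subgroup.zpowers w) :
    y * w = w * y := by
  have hyN : y ∈ Subgroup.normalizer ((Subgroup.zpowers w : Subgroup G) : Set G) := by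
    apply mem_normalizer_of_conj_smul_eq
    have h1 : MulAut.conj y • Subgroup.zpowers w = Subgroup.zpowers (y * w * y⁻¹) := by
      rw [conj_smul_eq_map, MonoidHom.map_zpowers]
      rfl
    have h2 : MulAut.conj y • Subgroup.zpowers w ≤ Subgroup.zpowers w := by
      rw [h1, Subgroup.zpowers_le]; exact hnorm
    exact Subgroup.eq_of_le_of_card_ge h2 (by rw [card_conj_smul])
  have hzN : Subgroup.zpowers y ≤ Subgroup.normalizer ((Subgroup.zpowers w : Subgroup G) : Set G) := by
    rw [Subgroup.zpowers_le]; exact hyN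
  have hperm : Permute (Subgroup.zpowers w) (Subgroup.zpowers y) := by
    intro h hh k hk
    exact ⟨k * h * k⁻¹, (Subgroup.mem_normalizer_iff.mp (hzN hk) h).mp hh, k, hk, by group⟩
  have hcop : (Nat.card (Subgroup.zpowers w)).Coprime (Nat.card (Subgroup.zpowers y)) := by
    rw [Nat.card_zpowers, Nat.card_zpowers, hwo, hyo]
    exact (Nat.coprime_primes hq hp).mpr hpq.symm
  have hcard := hperm.card_sup_of_coprime hcop
  rw [Nat.card_zpowers, Nat.card_zpowers, hwo, hyo] at hcard
  obtain ⟨D, hD⟩ : ∃ D : Subgroup G, D = Subgroup.zpowers w ⊔ Subgroup.zpowers y := ⟨_, rfl⟩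
  rw [← hD] at hcard
  have hDH : D ≤ H := by
    rw [hD]
    exact sup_le (by rw [Subgroup.zpowers_le]; exact hw) (by rw [Subgroup.zpowers_le]; exact hy)
  have hDsolv : Group.IsSolvable D :=
    Group.isSolvable_of_isSolvable_injective (Subgroup.inclusion_injective hDH)
  have hcyc := isCyclic_of_fpf_of_card_eq_mul D K hK (hDH.trans hHK)
    (fun a ha ha1 => hfpf a (hDH ha) ha1) hDsolv hq hp hcard
  have hwD : w ∈ D := by rw [hD]; exact (le_sup_left : Subgroup.zpowers w ≤ _) (Subgroup.mem_zpowers w)
  have hyD : y ∈ D := by rw [hD]; exact (le_sup_right : Subgroup.zpowers y ≤ _) (Subgroup.mem_zpowers y)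
  have := (IsCyclic.commGroup (α := D)).mul_comm ⟨y, hyD⟩ ⟨w, hwD⟩
  exact congrArg Subtype.val this


theorem frobenius_complement_center_ne_bot [Finite G] (K H : Subgroup G) [hKn : K.Normal]
    (hc : Subgroup.IsComplement' K H) (hK : K ≠ ⊥) (hH : H ≠ ⊥)
    (hfpf : ∀ h ∈ H, h ≠ 1 → K ⊓ Subgroup.centralizer {h} = ⊥) :
    Subgroup.center H ≠ ⊥ := by
  have hHK : H ≤ Subgroup.normalizer (K : Set G) := by
    rw [Subgroup.normalizer_eq_top]; exact le_top
  have hnt : Nontrivial H := (Subgroup.nontrivial_iff_ne_bot H).mpr hH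
  by_cases heven : 2 ∣ Nat.card H
  · obtain ⟨⟨s, hsH, hso, hsuniq, -⟩, -⟩ := frobenius_even_complement K H hc hK hfpf heven
    intro hbot
    have hmem : (⟨s, hsH⟩ : H) ∈ Subgroup.center H := by
      rw [Subgroup.mem_center_iff]
      intro h
      have h1 : orderOf ((h : G) * s * (h : G)⁻¹) = 2 := by rw [orderOf_conj_eq, hso]
      have h2 := hsuniq _ (H.mul_mem (H.mul_mem h.2 hsH) (H.inv_mem h.2)) h1
      apply Subtype.ext
      show (h : G) * s = s * h
      calc (h : G) * s = ((h : G) * s * (h : G)⁻¹) * h := by group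
        _ = s * h := by rw [h2]
    rw [hbot, Subgroup.mem_bot] at hmem
    have hs1 : s = 1 := congrArg Subtype.val hmem
    rw [hs1, orderOf_one] at hso
    norm_num at hso
  · have hZ : IsZGroup H := by
      refine ⟨fun p hp P => ?_⟩
      have : Fact p.Prime := ⟨hp⟩
      rcases Cfsg.Agent.S0040.result K H hc hK hfpf p P with h | ⟨n, ⟨e⟩⟩
      · exact h
      · exfalso
        apply heven
        have h1 : Nat.card P = 4 * 2 ^ n := by
          rw [Nat.card_congr e.toEquiv, Nat.card_eq_fintype_card, QuaternionGroup.card]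
        have h2 : Nat.card P ∣ Nat.card H := Subgroup.card_subgroup_dvd_card _
        rw [h1] at h2
        exact Dvd.dvd.trans (⟨2 * 2 ^ n, by ring⟩ : 2 ∣ 4 * 2 ^ n) h2
    have hsolv : Group.IsSolvable H := inferInstance
    by_cases hA : commutator H = ⊥
    · rw [commutator_eq_bot_iff_center_eq_top] at hA
      rw [hA]; exact top_ne_bot
    · have hlt : commutator H < ⊤ := IsZGroup.commutator_lt H
      have hidx : (commutator H).index ≠ 1 := fun h => hlt.ne (Subgroup.index_eq_one.mp h)
      obtain ⟨p, hp, hpdvd⟩ := Nat.exists_prime_and_dvd hidx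
      have hcopA := IsZGroup.coprime_commutator_index H
      have hpA : ¬ p ∣ Nat.card (commutator H) := by
        intro h
        have h1 := Nat.dvd_gcd h hpdvd
        rw [Nat.Coprime] at hcopA
        rw [hcopA] at h1
        exact hp.one_lt.ne' (Nat.dvd_one.mp h1)
      have hpH : p ∣ Nat.card H := hpdvd.trans (Subgroup.index_dvd_card _)
      have : Fact p.Prime := ⟨hp⟩
      obtain ⟨y, hy⟩ := exists_prime_orderOf_dvd_card' p hpH
      have hcyc : IsCyclic (commutator H) := IsZGroup.isCyclic_commutator H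
      have hVc : IsMulCommutative (commutator H) :=
        ⟨⟨fun a b => (IsCyclic.commGroup (α := commutator H)).mul_comm a b⟩⟩
      have hcent : ∀ w ∈ commutator H, y * w = w * y := by
        have hcop : (Nat.card (Subgroup.zpowers y)).Coprime (Nat.card (commutator H)) := by
          rw [Nat.card_zpowers, hy]
          exact (Nat.Prime.coprime_iff_not_dvd hp).mpr hpA
        have hAV : Subgroup.zpowers y ≤ Subgroup.normalizer ((commutator H : Subgroup H) : Set H) := by
          rw [Subgroup.normalizer_eq_top]; exact le_top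
        have hle := coprime_abelian_trivial_of_fix_prime_order (Subgroup.zpowers y) (commutator H)
          hAV hcop ?_
        · intro w hw
          have := Subgroup.mem_centralizer_iff.mp (hle (Subgroup.mem_zpowers y)) w hw
          exact this.symm
        · intro v hv hvo a ha
          have hq_dvd : orderOf v ∣ Nat.card (commutator H) := by
            have : orderOf (⟨v, hv⟩ : commutator H) = orderOf v := Subgroup.orderOf_mk v hv
            rw [← this]; exact orderOf_dvd_natCard _
          have hpq : p ≠ orderOf v := by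
            intro h
            rw [← h] at hq_dvd
            exact hpA hq_dvd
          have hnormH : y * v * y⁻¹ ∈ Subgroup.zpowers v := by
            have h1 : Subgroup.zpowers (y * v * y⁻¹) = Subgroup.zpowers v := by
              apply Cfsg.Agent.Lib.Helper3.subgroup_eq_of_card_eq_of_le_isCyclic (commutator H)
              · rw [Subgroup.zpowers_le]
                exact (inferInstance : (commutator H).Normal).conj_mem v hv y
              · rw [Subgroup.zpowers_le]; exact hv
              · rw [Nat.card_zpowers, Nat.card_zpowers, orderOf_conj_eq]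
            rw [← h1]; exact Subgroup.mem_zpowers _
          have hyv : y * v = v * y := by
            apply Subtype.ext
            refine fpf_prime_order_commute H K hK hHK hfpf hsolv hp hvo hpq v.2 y.2
              (Subgroup.orderOf_coe v) ((Subgroup.orderOf_coe y).trans hy) ?_
            obtain ⟨i, hi⟩ := Subgroup.mem_zpowers_iff.mp hnormH
            rw [Subgroup.mem_zpowers_iff]
            refine ⟨i, ?_⟩
            have := congrArg Subtype.val hi
            simpa using this
          obtain ⟨i, rfl⟩ := Subgroup.mem_zpowers_iff.mp ha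
          have hcm : Commute y v := hyv
          exact (hcm.zpow_left i).eq
      have hycenter := central_of_centralizes_commutator hp hpA y hy hcent
      intro hbot
      rw [hbot, Subgroup.mem_bot] at hycenter
      rw [hycenter, orderOf_one] at hy
      exact hp.ne_one hy.symm

end Cfsg.Agent.Lib.Helper1
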