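import Mathlib
import Cfsg.Prelude.Def_Solvable
import Cfsg.Agent.S0033
import Cfsg.Agent.Lib.Helper6.NSFrobE

set_option autoImplicit false
set_option maxHeartbeats 4000000
set_option maxRecDepth 100000
set_option linter.unusedVariables false
set_option linter.unusedSectionVars false
set_option linter.style.longLine false
set_option linter.unusedSimpArgs false
set_option linter.deprecated false
set_option linter.style.haveILetI false

/-!
# Fixed-point-free modules of Frobenius complements, part A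

A Frobenius complement has a fixed-point-free matrix representation over a prime field.
-/

namespace Cfsg.Agent.Lib.Helper1.Fpl

universe u v

section MatOfEnd

variable {G : Type*} [Group G] {k : Type*} [Field k] {V : Type*} [AddCommGroup V] [Module k V]
  [FiniteDimensional k V]

/-- a representation on a finite-dimensional space, written in matrices -/
theorem exists_matOfEnd (ρ : G →* Module.End k V) :
    ∃ ρ' : G →* GL (Fin (Module.finrank k V)) k, ∀ (g : G) (v : V),
      ((ρ' g : GL (Fin (Module.finrank k V)) k) : Matrix (Fin (Module.finrank k V))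
        (Fin (Module.finrank k V)) k).mulVec ((Module.finBasis k V).equivFun v)
        = (Module.finBasis k V).equivFun (ρ g v) := by
  classical
  let T : Module.End k V →* Matrix (Fin (Module.finrank k V)) (Fin (Module.finrank k V)) k :=
    MonoidHomClass.toMonoidHom (LinearMap.toMatrixAlgEquiv (Module.finBasis k V))
  refine ⟨(Units.map T).comp ρ.toHomUnits, ?_⟩
  intro g v
  have h1 : ((((Units.map T).comp ρ.toHomUnits) g : GL (Fin (Module.finrank k V)) k) :
      Matrix (Fin (Module.finrank k V)) (Fin (Module.finrank k V)) k)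
      = LinearMap.toMatrix (Module.finBasis k V) (Module.finBasis k V) (ρ g) := rfl
  rw [h1]
  have h2 := LinearMap.toMatrix_mulVec_repr (Module.finBasis k V) (Module.finBasis k V) (ρ g) v
  have h3 : ∀ w : V, (Module.finBasis k V).equivFun w = ⇑((Module.finBasis k V).repr w) :=
    fun w => rfl
  rw [h3, h3]
  exact h2

theorem matFpf_of_end (ρ : G →* Module.End k V)
    (ρ' : G →* GL (Fin (Module.finrank k V)) k)
    (h : ∀ (g : G) (v : V),
      ((ρ' g : GL (Fin (Module.finrank k V)) k) : Matrix (Fin (Module.finrank k V))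
        (Fin (Module.finrank k V)) k).mulVec ((Module.finBasis k V).equivFun v)
        = (Module.finBasis k V).equivFun (ρ g v))
    (hfree : ∀ g : G, g ≠ 1 → ∀ v : V, ρ g v = v → v = 0) :
    ∀ g : G, g ≠ 1 → ∀ w : Fin (Module.finrank k V) → k,
      ((ρ' g : GL (Fin (Module.finrank k V)) k) : Matrix (Fin (Module.finrank k V))
        (Fin (Module.finrank k V)) k).mulVec w = w → w = 0 := by
  intro g hg w hw
  obtain ⟨v, rfl⟩ := (Module.finBasis k V).equivFun.surjective w
  rw [h] at hw
  have h2 := (Module.finBasis k V).equivFun.injective hw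
  rw [hfree g hg v h2, map_zero]

end MatOfEnd

/-- an additive fixed-point-free action on a finite vector space over `ZMod r` in matrices -/
theorem mat_of_addAction_aux {W : Type u} [AddCommGroup W] [Finite W] [Nontrivial W] (r : ℕ)
    [Fact r.Prime] [Module (ZMod r) W] {Γ : Type v} [Group Γ] (act : Γ → (W →+ W))
    (hact1 : ∀ w : W, act 1 w = w) (hactmul : ∀ (g h : Γ) (w : W), act (g * h) w = act g (act h w))
    (hfree : ∀ g : Γ, g ≠ 1 → ∀ w : W, act g w = w → w = 0) :
    ∃ (d : ℕ) (ρ : Γ →* GL (Fin d) (ZMod r)), 0 < d ∧ ∀ g : Γ, g ≠ 1 → ∀ v : Fin d → ZMod r,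
      ((ρ g : GL (Fin d) (ZMod r)) : Matrix (Fin d) (Fin d) (ZMod r)).mulVec v = v → v = 0 := by
  classical
  haveI : Module.Finite (ZMod r) W := Module.Finite.of_finite
  have hone : AddMonoidHom.toZModLinearMap r (act 1) = (1 : Module.End (ZMod r) W) := by
    apply LinearMap.ext
    intro w
    have : (1 : Module.End (ZMod r) W) w = w := rfl
    rw [this]
    exact hact1 w
  have hmul : ∀ g h : Γ, AddMonoidHom.toZModLinearMap r (act (g * h))
      = (AddMonoidHom.toZModLinearMap r (act g) : Module.End (ZMod r) W)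
        * (AddMonoidHom.toZModLinearMap r (act h) : Module.End (ZMod r) W) := by
    intro g h
    apply LinearMap.ext
    intro w
    rw [Module.End.mul_apply]
    exact hactmul g h w
  let ρ₀ : Γ →* Module.End (ZMod r) W :=
    { toFun := fun g => AddMonoidHom.toZModLinearMap r (act g)
      map_one' := hone
      map_mul' := hmul }
  have hρ₀ : ∀ g : Γ, ∀ w : W, ρ₀ g w = act g w := fun g w => rfl
  obtain ⟨ρ', hρ'⟩ := exists_matOfEnd ρ₀
  refine ⟨Module.finrank (ZMod r) W, ρ', Module.finrank_pos, ?_⟩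
  exact matFpf_of_end ρ₀ ρ' hρ' (fun g hg w hw => hfree g hg w (by rw [← hρ₀]; exact hw))

theorem mat_of_addAction {W : Type u} [AddCommGroup W] [Finite W] [Nontrivial W] (r : ℕ)
    [Fact r.Prime] (hr : ∀ w : W, r • w = 0) {Γ : Type v} [Group Γ] (act : Γ → (W →+ W))
    (hact1 : ∀ w : W, act 1 w = w) (hactmul : ∀ (g h : Γ) (w : W), act (g * h) w = act g (act h w))
    (hfree : ∀ g : Γ, g ≠ 1 → ∀ w : W, act g w = w → w = 0) :
    ∃ (d : ℕ) (ρ : Γ →* GL (Fin d) (ZMod r)), 0 < d ∧ ∀ g : Γ, g ≠ 1 → ∀ v : Fin d → ZMod r,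
      ((ρ g : GL (Fin d) (ZMod r)) : Matrix (Fin d) (Fin d) (ZMod r)).mulVec v = v → v = 0 := by
  letI : Module (ZMod r) W := AddCommGroup.zmodModule hr
  exact mat_of_addAction_aux r act hact1 hactmul hfree

/-- from a multiplicative to an additive action -/
theorem add_of_mul {V₀ : Type u} [CommGroup V₀] [Finite V₀] [Nontrivial V₀] (r : ℕ)
    (hexp : ∀ v : V₀, v ^ r = 1) {Γ : Type v} [Group Γ]
    (act : Γ → (V₀ →* V₀)) (hact1 : ∀ v : V₀, act 1 v = v)
    (hactmul : ∀ (g h : Γ) (v : V₀), act (g * h) v = act g (act h v))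
    (hfree : ∀ g : Γ, g ≠ 1 → ∀ v : V₀, act g v = v → v = 1) {motive : Prop}
    (cont : ∀ (W : Type u) [AddCommGroup W] [Finite W] [Nontrivial W], (∀ w : W, r • w = 0) →
      ∀ (act : Γ → (W →+ W)), (∀ w : W, act 1 w = w) →
      (∀ (g h : Γ) (w : W), act (g * h) w = act g (act h w)) →
      (∀ g : Γ, g ≠ 1 → ∀ w : W, act g w = w → w = 0) → motive) : motive := by
  refine cont (Additive V₀) ?_ (fun g => MonoidHom.toAdditive (act g)) ?_ ?_ ?_
  · intro w
    apply Additive.toMul.injective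
    rw [toMul_nsmul, toMul_zero]
    exact hexp _
  · intro w
    apply Additive.toMul.injective
    exact hact1 (Additive.toMul w)
  · intro g h w
    apply Additive.toMul.injective
    exact hactmul g h (Additive.toMul w)
  · intro g hg w hw
    apply Additive.toMul.injective
    rw [toMul_zero]
    apply hfree g hg
    exact congrArg Additive.toMul hw

/-- `Ω₁(Z(P))` as a subgroup of `K` -/
def omegaZ' {K : Type u} [Group K] (P : Subgroup K) (r : ℕ) : Subgroup K where
  carrier := {k | k ∈ P ∧ (∀ x ∈ P, x * k = k * x) ∧ k ^ r = 1}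
  one_mem' := ⟨P.one_mem, fun x _ => by rw [mul_one, one_mul], one_pow r⟩
  mul_mem' := by
    intro a b ha hb
    refine ⟨P.mul_mem ha.1 hb.1, ?_, ?_⟩
    · intro x hx
      rw [← mul_assoc, ha.2.1 x hx, mul_assoc, hb.2.1 x hx, mul_assoc]
    · have hc : Commute a b := hb.2.1 a ha.1
      rw [hc.mul_pow, ha.2.2, hb.2.2, one_mul]
  inv_mem' := by
    intro a ha
    refine ⟨P.inv_mem ha.1, ?_, ?_⟩
    · intro x hx
      have := ha.2.1 x hx
      calc x * a⁻¹ = a⁻¹ * (a * x) * a⁻¹ := by group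
        _ = a⁻¹ * (x * a) * a⁻¹ := by rw [this]
        _ = a⁻¹ * x := by group
    · rw [inv_pow, ha.2.2, inv_one]

theorem mem_omegaZ' {K : Type u} [Group K] {P : Subgroup K} {r : ℕ} {k : K} :
    k ∈ omegaZ' P r ↔ k ∈ P ∧ (∀ x ∈ P, x * k = k * x) ∧ k ^ r = 1 := Iff.rfl

/-- the reduction: a group acting fixed-point-freely on a finite group acts fixed-point-freely on a
finite elementary abelian group -/
theorem reduce_fin {K : Type u} [Group K] [Finite K] [Nontrivial K] {Γ : Type v} [Group Γ]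
    [Finite Γ] [Nontrivial Γ] (φ : Γ →* MulAut K)
    (hfpf : ∀ g : Γ, g ≠ 1 → ∀ k : K, φ g k = k → k = 1) {motive : Prop}
    (cont : ∀ (r : ℕ) [Fact r.Prime] (W : Type u) [AddCommGroup W] [Finite W] [Nontrivial W],
      (∀ w : W, r • w = 0) → ∀ (act : Γ → (W →+ W)), (∀ w : W, act 1 w = w) →
      (∀ (g h : Γ) (w : W), act (g * h) w = act g (act h w)) →
      (∀ g : Γ, g ≠ 1 → ∀ w : W, act g w = w → w = 0) → motive) : motive := by
  classical
  haveI : Finite (MulAut K) := Finite.of_injective (fun f : MulAut K => (f : K → K))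
    (fun f g h => MulEquiv.ext (congrFun h))
  have hinj : Function.Injective φ := by
    rw [injective_iff_map_eq_one]
    intro g hg
    by_contra hg1
    obtain ⟨k, hk⟩ := exists_ne (1 : K)
    apply hk
    apply hfpf g hg1 k
    rw [hg]; rfl
  have hcard1 : Nat.card Γ ≠ 1 := by
    intro h
    have := (Nat.card_eq_one_iff_unique.mp h).1
    exact not_subsingleton Γ this
  obtain ⟨q, hq, hqdvd⟩ := Nat.exists_prime_and_dvd hcard1
  haveI := Fact.mk hq
  obtain ⟨γ, hγ⟩ := exists_prime_orderOf_dvd_card' q hqdvd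
  have hγ1 : γ ≠ 1 := by
    intro h
    rw [h, orderOf_one] at hγ
    exact hq.one_lt.ne hγ
  have hnil : Group.IsNilpotent K :=
    Cfsg.Agent.S0033.result (φ γ : MulAut K) (fun k hk => hfpf γ hγ1 k hk) q hq
      (by rw [orderOf_injective φ hinj γ]; exact hγ)
  have hKnt : Nat.card K ≠ 1 := by
    intro h
    have hsub := (Nat.card_eq_one_iff_unique.mp h).1
    exact not_subsingleton K hsub
  obtain ⟨r, hr, hrdvd⟩ := Nat.exists_prime_and_dvd hKnt
  haveI := Fact.mk hr
  obtain ⟨P⟩ : Nonempty (Sylow r K) := inferInstance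
  have htfae : Group.IsNilpotent K ↔ ∀ (p : ℕ) (_hp : Fact p.Prime) (P : Sylow p K),
      (P : Subgroup K).Normal := (Group.isNilpotent_of_finite_tfae (G := K)).out 0 3
  have hPn : (P : Subgroup K).Normal := htfae.mp hnil r inferInstance P
  have hchar : (P : Subgroup K).Characteristic := Sylow.characteristic_of_normal P hPn
  have hPinv : ∀ ψ : MulAut K, ∀ x ∈ (P : Subgroup K), ψ x ∈ (P : Subgroup K) := by
    intro ψ x hx
    exact (Subgroup.characteristic_iff_map_le.mp hchar ψ) (Subgroup.mem_map_of_mem _ hx)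
  obtain ⟨V₀, hV₀⟩ : ∃ V₀ : Subgroup K, V₀ = omegaZ' (P : Subgroup K) r := ⟨_, rfl⟩
  have hmem : ∀ k : K, k ∈ V₀ ↔ k ∈ (P : Subgroup K) ∧ (∀ x ∈ (P : Subgroup K), x * k = k * x)
      ∧ k ^ r = 1 := by
    intro k; rw [hV₀]; exact mem_omegaZ'
  have hVinv : ∀ ψ : MulAut K, ∀ k ∈ V₀, ψ k ∈ V₀ := by
    intro ψ k hk
    rw [hmem] at hk ⊢
    refine ⟨hPinv ψ k hk.1, ?_, ?_⟩
    · intro x hx
      have h1 : ψ⁻¹ x ∈ (P : Subgroup K) := hPinv ψ⁻¹ x hx
      have h2 := hk.2.1 _ h1
      have h3 : ψ (ψ⁻¹ x * k) = ψ (k * ψ⁻¹ x) := by rw [h2]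
      rw [map_mul, map_mul] at h3
      have h4 : ψ (ψ⁻¹ x) = x := by
        show (ψ * ψ⁻¹) x = x
        rw [mul_inv_cancel]; rfl
      rw [h4] at h3
      exact h3
    · rw [← map_pow, hk.2.2, map_one]
  have hPne : (P : Subgroup K) ≠ ⊥ := P.ne_bot_of_dvd_card hrdvd
  haveI : Nontrivial ↥(P : Subgroup K) := (Subgroup.nontrivial_iff_ne_bot _).mpr hPne
  have hPp : IsPGroup r ↥(P : Subgroup K) := P.isPGroup'
  haveI hZnt : Nontrivial (Subgroup.center ↥(P : Subgroup K)) := hPp.center_nontrivial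
  have hZp : IsPGroup r (Subgroup.center ↥(P : Subgroup K)) := hPp.to_subgroup _
  have hZdvd : r ∣ Nat.card (Subgroup.center ↥(P : Subgroup K)) := by
    rcases hZp.card_eq_or_dvd with h | h
    · exfalso
      have := (Nat.card_eq_one_iff_unique.mp h).1
      exact not_subsingleton _ this
    · exact h
  obtain ⟨z, hz⟩ := exists_prime_orderOf_dvd_card' r hZdvd
  have hzV : (((z : ↥(P : Subgroup K)) : K)) ∈ V₀ := by
    rw [hmem]
    refine ⟨(z : ↥(P : Subgroup K)).2, ?_, ?_⟩
    · intro x hx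
      have h1 := Subgroup.mem_center_iff.mp z.2 ⟨x, hx⟩
      exact congrArg Subtype.val h1
    · have h1 : z ^ r = 1 := by
        have := pow_orderOf_eq_one z
        rwa [hz] at this
      have h2 := congrArg (fun y : Subgroup.center ↥(P : Subgroup K) => ((y : ↥(P : Subgroup K)) : K)) h1
      simpa using h2
  have hz1 : (((z : ↥(P : Subgroup K)) : K)) ≠ 1 := by
    intro h
    have h2 : z = 1 := by
      apply Subtype.ext
      apply Subtype.ext
      exact h
    rw [h2, orderOf_one] at hz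
    exact hr.one_lt.ne hz
  haveI : Nontrivial ↥V₀ := ⟨⟨⟨_, hzV⟩, 1, fun h => hz1 (congrArg Subtype.val h)⟩⟩
  letI cg : CommGroup ↥V₀ :=
    { (inferInstance : Group ↥V₀) with
      mul_comm := fun a b => Subtype.ext (((hmem b).mp b.2).2.1 a ((hmem a).mp a.2).1) }
  let act : Γ → (↥V₀ →* ↥V₀) := fun g =>
    { toFun := fun v => ⟨(φ g : MulAut K) (v : K), hVinv (φ g) v v.2⟩
      map_one' := Subtype.ext (map_one (φ g : MulAut K))
      map_mul' := fun a b => Subtype.ext (map_mul (φ g : MulAut K) (a : K) (b : K)) }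
  have hact : ∀ (g : Γ) (v : ↥V₀), ((act g v : ↥V₀) : K) = (φ g : MulAut K) (v : K) := fun g v => rfl
  refine add_of_mul (V₀ := ↥V₀) r ?_ act ?_ ?_ ?_ (cont r)
  · intro v
    apply Subtype.ext
    rw [Subgroup.coe_pow, Subgroup.coe_one]
    exact ((hmem v).mp v.2).2.2
  · intro v
    apply Subtype.ext
    rw [hact, map_one]
    rfl
  · intro g h v
    apply Subtype.ext
    rw [hact, hact, hact, map_mul]
    rfl
  · intro g hg v hv
    apply Subtype.ext
    have h2 : (φ g : MulAut K) (v : K) = (v : K) := by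
      rw [← hact]; exact congrArg Subtype.val hv
    exact hfpf g hg _ h2

/-- **T1**: a Frobenius complement has a fixed-point-free matrix representation over a prime
field -/
theorem exists_mat_of_frobComp {G : Type*} [Group G] [Finite G]
    (hFC : ∃ (L : Type) (_ : Group L) (_ : Finite L) (H : Subgroup L),
      Cfsg.IsFrobeniusComplement H ∧ Nonempty (G ≃* H)) :
    ∃ (r : ℕ) (_ : Fact r.Prime) (d : ℕ) (ρ : G →* GL (Fin d) (ZMod r)), 0 < d ∧
      ∀ g : G, g ≠ 1 → ∀ v : Fin d → ZMod r,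
        ((ρ g : GL (Fin d) (ZMod r)) : Matrix (Fin d) (Fin d) (ZMod r)).mulVec v = v → v = 0 := by
  classical
  obtain ⟨L, _, _, H, hH, ⟨e⟩⟩ := hFC
  obtain ⟨N, hNn, hNne, hN⟩ := Cfsg.Agent.Lib.Helper6.NSFrob.exists_kernel H hH
  haveI := hNn
  haveI : Nontrivial ↥N := (Subgroup.nontrivial_iff_ne_bot N).mpr hNne
  haveI : Nontrivial ↥H := (Subgroup.nontrivial_iff_ne_bot H).mpr hH.1
  haveI : Nontrivial G := e.toEquiv.nontrivial
  let φ : G →* MulAut ↥N := (MulAut.conjNormal (H := N)).comp (H.subtype.comp e.toMonoidHom)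
  have hφ : ∀ (g : G) (k : ↥N), ((φ g k : ↥N) : L) = ((e g : ↥H) : L) * (k : L) * ((e g : ↥H) : L)⁻¹ :=
    fun g k => rfl
  have hfpf : ∀ g : G, g ≠ 1 → ∀ k : ↥N, φ g k = k → k = 1 := by
    intro g hg k hk
    have h1 : ((e g : ↥H) : L) ≠ 1 := by
      intro h
      apply hg
      apply e.injective
      rw [map_one]
      exact Subtype.ext h
    have h2 := hN _ (e g).2 h1
    have h3 : (k : L) ∈ N ⊓ Subgroup.centralizer {((e g : ↥H) : L)} := by
      refine Subgroup.mem_inf.mpr ⟨k.2, ?_⟩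
      rw [Subgroup.mem_centralizer_iff]
      intro h hh
      rw [Set.mem_singleton_iff] at hh
      rw [hh]
      have h4 := congrArg Subtype.val hk
      rw [hφ] at h4
      calc ((e g : ↥H) : L) * (k : L) = ((e g : ↥H) : L) * (k : L) * ((e g : ↥H) : L)⁻¹ * ((e g : ↥H) : L) := by group
        _ = (k : L) * ((e g : ↥H) : L) := by rw [h4]
    rw [h2, Subgroup.mem_bot] at h3
    exact Subtype.ext h3
  refine reduce_fin φ hfpf ?_
  intro r _ W _ _ _ hr act h1 h2 h3
  obtain ⟨d, ρ, hd, hρ⟩ := mat_of_addAction r hr act h1 h2 h3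
  exact ⟨r, inferInstance, d, ρ, hd, hρ⟩

end Cfsg.Agent.Lib.Helper1.Fpl
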