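import Mathlib

set_option autoImplicit false
set_option maxHeartbeats 4000000
set_option maxRecDepth 100000
set_option linter.unusedVariables false
set_option linter.unusedSectionVars false
set_option linter.style.longLine false
set_option linter.unusedSimpArgs false
set_option linter.deprecated false
set_option linter.style.haveILetI false

/-!
# Fixed-point-free modules of Frobenius complements, part B

Lifting a matrix representation of an `r'`-group from `ZMod r` to `ZMod (r ^ b)`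
(Schur–Zassenhaus).
-/

namespace Cfsg.Agent.Lib.Helper1.Fpl

/-- lifting a homomorphism through a surjection with `p`-group kernel, for a `p'`-group -/
theorem exists_lift_of_pGroup_ker {E Q G : Type*} [Group E] [Finite E] [Group Q] [Group G]
    [Finite G] (π : E →* Q) (hπ : Function.Surjective π) (ρ₀ : G →* Q) (p : ℕ) [Fact p.Prime]
    (hker : IsPGroup p π.ker) (hG : ¬ p ∣ Nat.card G) : ∃ ρ : G →* E, ∀ g, π (ρ g) = ρ₀ g := by
  classical
  let ψ : ↥(ρ₀.range.comap π) →* ↥ρ₀.range := π.subgroupComap ρ₀.range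
  have hψ : ∀ x : ↥(ρ₀.range.comap π), ((ψ x : ↥ρ₀.range) : Q) = π (x : E) := fun x => rfl
  have hψs : Function.Surjective ψ :=
    MonoidHom.subgroupComap_surjective_of_surjective π ρ₀.range hπ
  have hKp : IsPGroup p ψ.ker := by
    intro x
    have hx : ((x : ↥(ρ₀.range.comap π)) : E) ∈ π.ker := by
      rw [MonoidHom.mem_ker, ← hψ]
      have h1 := x.2
      rw [MonoidHom.mem_ker] at h1
      rw [h1]; rfl
    obtain ⟨k, hk⟩ := hker ⟨_, hx⟩
    refine ⟨k, ?_⟩
    apply Subtype.ext; apply Subtype.ext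
    have h2 := congrArg Subtype.val hk
    simpa using h2
  obtain ⟨m, hm⟩ := hKp.exists_card_eq
  have hidx : ψ.ker.index = Nat.card ↥ρ₀.range := by
    rw [Subgroup.index_ker, MonoidHom.range_eq_top.mpr hψs, Subgroup.card_top]
  have hdvd : Nat.card ↥ρ₀.range ∣ Nat.card G := Subgroup.card_range_dvd ρ₀
  have hcop : (Nat.card ψ.ker).Coprime ψ.ker.index := by
    rw [hm, hidx]
    apply Nat.Coprime.pow_left
    rw [Nat.Prime.coprime_iff_not_dvd Fact.out]
    intro h; exact hG (h.trans hdvd)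
  obtain ⟨C, hC⟩ := Subgroup.exists_right_complement'_of_coprime hcop
  -- the restriction of `ψ` to `C` is bijective
  have hinj : Function.Injective (ψ.comp C.subtype) := by
    rw [injective_iff_map_eq_one]
    intro c hc
    have h1 : (c : ↥(ρ₀.range.comap π)) ∈ ψ.ker ⊓ C := ⟨hc, c.2⟩
    rw [hC.disjoint.eq_bot, Subgroup.mem_bot] at h1
    exact Subtype.ext h1
  have hsurj : Function.Surjective (ψ.comp C.subtype) := by
    intro q
    obtain ⟨x, hx⟩ := hψs q
    obtain ⟨⟨k, c⟩, hkc, _⟩ := (Subgroup.isComplement'_def.mp hC).existsUnique x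
    refine ⟨⟨c.1, c.2⟩, ?_⟩
    have h1 : ψ (k : ↥(ρ₀.range.comap π)) = 1 := k.2
    have h2 : ψ x = ψ (k : ↥(ρ₀.range.comap π)) * ψ (c : ↥(ρ₀.range.comap π)) := by
      rw [← map_mul]; exact congrArg ψ hkc.symm
    rw [h1, one_mul] at h2
    rw [← hx, h2]
    rfl
  let θ : ↥C ≃* ↥ρ₀.range := MulEquiv.ofBijective (ψ.comp C.subtype) ⟨hinj, hsurj⟩
  have hθ : ∀ c : ↥C, θ c = ψ (c : ↥(ρ₀.range.comap π)) := fun c => rfl
  refine ⟨((ρ₀.range.comap π).subtype.comp C.subtype).comp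
    (θ.symm.toMonoidHom.comp ρ₀.rangeRestrict), ?_⟩
  intro g
  have h1 : π ((((ρ₀.range.comap π).subtype.comp C.subtype).comp
      (θ.symm.toMonoidHom.comp ρ₀.rangeRestrict)) g)
      = ((θ (θ.symm (ρ₀.rangeRestrict g)) : ↥ρ₀.range) : Q) := rfl
  rw [h1, MulEquiv.apply_symm_apply]
  rfl

section ZModLemmas

variable (r : ℕ) [hr : Fact r.Prime] (b : ℕ)

theorem dvd_pow_of_one_le (hb : 1 ≤ b) : r ∣ r ^ b := dvd_pow_self r (by omega)

/-- the reduction map `ZMod (r ^ b) → ZMod r` -/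
noncomputable def redZ (hb : 1 ≤ b) : ZMod (r ^ b) →+* ZMod r :=
  ZMod.castHom (dvd_pow_of_one_le r b hb) (ZMod r)

theorem isUnit_of_redZ (hb : 1 ≤ b) (x : ZMod (r ^ b)) (h : IsUnit (redZ r b hb x)) : IsUnit x := by
  haveI : NeZero (r ^ b) := ⟨pow_ne_zero b hr.out.ne_zero⟩
  have h1 : ((x.val : ℕ) : ZMod (r ^ b)) = x := ZMod.natCast_zmod_val x
  rw [← h1, map_natCast, ZMod.isUnit_iff_coprime] at h
  rw [← h1, ZMod.isUnit_iff_coprime]
  exact Nat.Coprime.pow_right b h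

theorem exists_mul_of_redZ_eq_zero (hb : 1 ≤ b) (x : ZMod (r ^ b)) (h : redZ r b hb x = 0) :
    ∃ y : ZMod (r ^ b), x = (r : ZMod (r ^ b)) * y := by
  haveI : NeZero (r ^ b) := ⟨pow_ne_zero b hr.out.ne_zero⟩
  have h1 : ((x.val : ℕ) : ZMod (r ^ b)) = x := ZMod.natCast_zmod_val x
  rw [← h1, map_natCast, ZMod.natCast_eq_zero_iff] at h
  obtain ⟨m, hm⟩ := h
  refine ⟨(m : ZMod (r ^ b)), ?_⟩
  rw [← h1, hm, Nat.cast_mul]

theorem redZ_surjective (hb : 1 ≤ b) : Function.Surjective (redZ r b hb) :=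
  ZMod.ringHom_surjective _

end ZModLemmas

section Expansion

theorem exists_one_add_pow {S : Type*} [Ring S] (Z : S) (n : ℕ) :
    ∃ W : S, (1 + Z) ^ n = 1 + n • Z + Z * Z * W := by
  induction n with
  | zero => exact ⟨0, by simp⟩
  | succ n ih =>
    obtain ⟨W, hW⟩ := ih
    refine ⟨W + n • (1 : S) + W * Z, ?_⟩
    have e1 : (n • Z) * Z = Z * Z * (n • (1 : S)) := by
      rw [smul_mul_assoc, mul_smul_comm, mul_one]
    rw [pow_succ, hW, succ_nsmul, mul_add (Z * Z), mul_add (Z * Z), mul_add _ 1 Z, mul_one,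
      add_mul, add_mul, one_mul, e1, mul_assoc (Z * Z) W Z]
    abel

theorem one_add_smul_pow {S : Type*} [Ring S] (r k : ℕ) (hk : 1 ≤ k) (Y : S) :
    ∃ Y' : S, (1 + (r ^ k) • Y) ^ r = 1 + (r ^ (k + 1)) • Y' := by
  obtain ⟨W, hW⟩ := exists_one_add_pow ((r ^ k) • Y) r
  refine ⟨Y + (r ^ (k - 1)) • (Y * Y * W), ?_⟩
  have e1 : ((r ^ k) • Y) * ((r ^ k) • Y) * W = (r ^ (k + 1) * r ^ (k - 1)) • (Y * Y * W) := by
    rw [smul_mul_smul_comm, smul_mul_assoc, ← pow_add, ← pow_add]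
    congr 2
    omega
  rw [hW, e1, smul_add, smul_smul, smul_smul, ← pow_succ', add_assoc]

end Expansion

section Kernel

variable (r : ℕ) [hr : Fact r.Prime] (b : ℕ) {d : ℕ}

/-- the reduction map on general linear groups -/
noncomputable def redGL (hb : 1 ≤ b) : GL (Fin d) (ZMod (r ^ b)) →* GL (Fin d) (ZMod r) :=
  Matrix.GeneralLinearGroup.map (redZ r b hb)

theorem redGL_apply (hb : 1 ≤ b) (A : GL (Fin d) (ZMod (r ^ b))) (i j : Fin d) :
    ((redGL r b hb A : GL (Fin d) (ZMod r)) : Matrix (Fin d) (Fin d) (ZMod r)) i j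
      = redZ r b hb ((A : Matrix (Fin d) (Fin d) (ZMod (r ^ b))) i j) := rfl

theorem redGL_coe (hb : 1 ≤ b) (A : GL (Fin d) (ZMod (r ^ b))) :
    ((redGL r b hb A : GL (Fin d) (ZMod r)) : Matrix (Fin d) (Fin d) (ZMod r))
      = (redZ r b hb).mapMatrix (A : Matrix (Fin d) (Fin d) (ZMod (r ^ b))) := rfl

theorem isPGroup_ker_redGL (hb : 1 ≤ b) : IsPGroup r (redGL r b hb (d := d)).ker := by
  classical
  intro A
  refine ⟨b - 1, ?_⟩
  have hA : redGL r b hb (A : GL (Fin d) (ZMod (r ^ b))) = 1 := A.2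
  -- entries
  have hent : ∀ i j : Fin d, ∃ y : ZMod (r ^ b),
      ((A : GL (Fin d) (ZMod (r ^ b))) : Matrix (Fin d) (Fin d) (ZMod (r ^ b))) i j
        - (1 : Matrix (Fin d) (Fin d) (ZMod (r ^ b))) i j = (r : ZMod (r ^ b)) * y := by
    intro i j
    apply exists_mul_of_redZ_eq_zero r b hb
    rw [map_sub, ← redGL_apply, hA]
    by_cases hij : i = j
    · subst hij
      simp
    · simp [Matrix.one_apply_ne hij]
  choose y hy using hent
  have h0 : ((A : GL (Fin d) (ZMod (r ^ b))) : Matrix (Fin d) (Fin d) (ZMod (r ^ b)))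
      = 1 + (r ^ 1) • (Matrix.of y) := by
    ext i j
    rw [Matrix.add_apply, Matrix.smul_apply, Matrix.of_apply, pow_one, nsmul_eq_mul, ← hy i j]
    ring
  have hind : ∀ j : ℕ, ∃ Y : Matrix (Fin d) (Fin d) (ZMod (r ^ b)),
      ((A : GL (Fin d) (ZMod (r ^ b))) : Matrix (Fin d) (Fin d) (ZMod (r ^ b))) ^ (r ^ j)
        = 1 + (r ^ (j + 1)) • Y := by
    intro j
    induction j with
    | zero => exact ⟨Matrix.of y, by rw [pow_zero, pow_one, zero_add]; exact h0⟩
    | succ j ih =>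
      obtain ⟨Y, hY⟩ := ih
      obtain ⟨Y', hY'⟩ := one_add_smul_pow r (j + 1) (by omega) Y
      refine ⟨Y', ?_⟩
      rw [pow_succ r j, pow_mul, hY, hY']
  obtain ⟨Y, hY⟩ := hind (b - 1)
  have hb1 : b - 1 + 1 = b := by omega
  rw [hb1] at hY
  have hzero : (r ^ b) • Y = 0 := by
    ext i j
    rw [Matrix.smul_apply, nsmul_eq_mul, ZMod.natCast_self, zero_mul]
    rfl
  rw [hzero, add_zero] at hY
  apply Subtype.ext
  apply Units.ext
  rw [Subgroup.coe_pow, Units.val_pow_eq_pow_val, hY]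
  rfl

theorem redGL_surjective (hb : 1 ≤ b) : Function.Surjective (redGL r b hb (d := d)) := by
  classical
  intro B
  have hs := redZ_surjective r b hb
  set A₀ : Matrix (Fin d) (Fin d) (ZMod (r ^ b)) :=
    Matrix.of fun i j => Function.surjInv hs ((B : Matrix (Fin d) (Fin d) (ZMod r)) i j) with hA₀
  have hmap : (redZ r b hb).mapMatrix A₀ = (B : Matrix (Fin d) (Fin d) (ZMod r)) := by
    ext i j
    rw [RingHom.mapMatrix_apply, Matrix.map_apply, hA₀, Matrix.of_apply]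
    exact Function.surjInv_eq hs _
  have hdet : IsUnit A₀.det := by
    apply isUnit_of_redZ r b hb
    rw [RingHom.map_det, hmap]
    exact Matrix.isUnits_det_units B
  refine ⟨Matrix.GeneralLinearGroup.mk'' A₀ hdet, ?_⟩
  apply Units.ext
  rw [redGL_coe]
  exact hmap

/-- **T2**: lifting to `ZMod (r ^ b)` -/
theorem exists_lift_zmod_pow (hb : 1 ≤ b) {G : Type*} [Group G] [Finite G] (ρ₀ : G →* GL (Fin d) (ZMod r))
    (hG : ¬ r ∣ Nat.card G) :
    ∃ ρ : G →* GL (Fin d) (ZMod (r ^ b)), ∀ g, redGL r b hb (ρ g) = ρ₀ g := by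
  haveI : NeZero (r ^ b) := ⟨pow_ne_zero b hr.out.ne_zero⟩
  haveI : Finite (GL (Fin d) (ZMod (r ^ b))) := inferInstance
  exact exists_lift_of_pGroup_ker (redGL r b hb) (redGL_surjective r b hb) ρ₀ r
    (isPGroup_ker_redGL r b hb) hG

theorem isUnit_det_sub_one_of_lift (hb : 1 ≤ b) (A : GL (Fin d) (ZMod (r ^ b)))
    (h : IsUnit (((redGL r b hb A : GL (Fin d) (ZMod r)) : Matrix (Fin d) (Fin d) (ZMod r)) - 1).det) :
    IsUnit (((A : GL (Fin d) (ZMod (r ^ b))) : Matrix (Fin d) (Fin d) (ZMod (r ^ b))) - 1).det := by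
  apply isUnit_of_redZ r b hb
  rw [RingHom.map_det, map_sub, map_one, ← redGL_coe]
  exact h

end Kernel

section DetFpf

/-- over a field: fixed-point-free means `M - 1` is invertible -/
theorem isUnit_det_sub_one_of_fpf {K : Type*} [Field K] {d : ℕ} (M : Matrix (Fin d) (Fin d) K)
    (h : ∀ v : Fin d → K, M.mulVec v = v → v = 0) : IsUnit (M - 1).det := by
  classical
  rw [isUnit_iff_ne_zero]
  intro h0
  obtain ⟨v, hv, hv0⟩ := Matrix.exists_mulVec_eq_zero_iff.mpr h0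
  apply hv
  apply h
  rw [Matrix.sub_mulVec, Matrix.one_mulVec, sub_eq_zero] at hv0
  exact hv0

theorem fpf_of_isUnit_det_sub_one {R : Type*} [CommRing R] {d : ℕ} (M : Matrix (Fin d) (Fin d) R)
    (h : IsUnit (M - 1).det) : ∀ v : Fin d → R, M.mulVec v = v → v = 0 := by
  classical
  intro v hv
  have h1 : (M - 1).mulVec v = 0 := by
    rw [Matrix.sub_mulVec, Matrix.one_mulVec, hv, sub_self]
  have h2 : ((M - 1)⁻¹ * (M - 1)).mulVec v = v := by
    rw [Matrix.nonsing_inv_mul _ h, Matrix.one_mulVec]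
  rw [← Matrix.mulVec_mulVec, h1, Matrix.mulVec_zero] at h2
  exact h2.symm

/-- the sum over a cyclic subgroup vanishes -/
theorem geom_sum_eq_zero_of_isUnit {R : Type*} [CommRing R] {d : ℕ} (M : Matrix (Fin d) (Fin d) R)
    (h : IsUnit (M - 1).det) (n : ℕ) (hn : M ^ n = 1) :
    ∑ i ∈ Finset.range n, M ^ i = 0 := by
  classical
  have h1 : (M - 1) * ∑ i ∈ Finset.range n, M ^ i = 0 := by
    rw [mul_geom_sum, hn, sub_self]
  have h2 : (M - 1)⁻¹ * ((M - 1) * ∑ i ∈ Finset.range n, M ^ i) = ∑ i ∈ Finset.range n, M ^ i := by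
    rw [← mul_assoc, Matrix.nonsing_inv_mul _ h, one_mul]
  rw [h1, mul_zero] at h2
  exact h2.symm

/-- a fixed-point-free matrix group over `ZMod r` has order prime to `r` -/
theorem not_dvd_card_of_matFpf {G : Type*} [Group G] [Finite G] (r : ℕ) [hr : Fact r.Prime] {d : ℕ}
    (hd : 0 < d) (ρ₀ : G →* GL (Fin d) (ZMod r))
    (hfree : ∀ g : G, g ≠ 1 → ∀ v : Fin d → ZMod r,
      ((ρ₀ g : GL (Fin d) (ZMod r)) : Matrix (Fin d) (Fin d) (ZMod r)).mulVec v = v → v = 0) :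
    ¬ r ∣ Nat.card G := by
  classical
  intro hdvd
  haveI : Nonempty (Fin d) := ⟨⟨0, hd⟩⟩
  obtain ⟨g, hg⟩ := exists_prime_orderOf_dvd_card' r hdvd
  have hg1 : g ≠ 1 := by
    intro h
    rw [h, orderOf_one] at hg
    exact hr.out.one_lt.ne hg
  have hgr : g ^ r = 1 := by
    have := pow_orderOf_eq_one g
    rwa [hg] at this
  set M : Matrix (Fin d) (Fin d) (ZMod r) := ((ρ₀ g : GL (Fin d) (ZMod r)) : Matrix (Fin d) (Fin d) (ZMod r)) with hM
  have hMr : M ^ r = 1 := by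
    rw [hM, ← Units.val_pow_eq_pow_val, ← map_pow, hgr, map_one]
    rfl
  have h1 : (M - 1) ^ r = 0 := by
    rw [sub_pow_char_of_commute r (Commute.one_right _), one_pow, hMr, sub_self]
  have h2 := isUnit_det_sub_one_of_fpf M (hfree g hg1)
  have h3 : ((M - 1).det) ^ r = 0 := by
    rw [← Matrix.det_pow, h1, Matrix.det_zero]
  have h4 := h2.pow r
  rw [h3] at h4
  exact not_isUnit_zero h4

end DetFpf

end Cfsg.Agent.Lib.Helper1.Fpl
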