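import Mathlib
import Cfsg.Agent.Lib.Helper1.FplA
import Cfsg.Agent.Lib.Helper1.FplB

set_option autoImplicit false
set_option maxHeartbeats 4000000
set_option maxRecDepth 100000
set_option linter.unusedVariables false
set_option linter.unusedSectionVars false
set_option linter.style.longLine false
set_option linter.unusedSimpArgs false
set_option linter.deprecated false
set_option linter.style.haveILetI false

/-!
# Fixed-point-free modules of Frobenius complements, part C

The norm ideal of the integral group ring; change of characteristic.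
-/

namespace Cfsg.Agent.Lib.Helper1.Fpl

universe u

/-- the norm element of the cyclic subgroup generated by `g` -/
noncomputable def normEl {G : Type u} [Group G] (g : G) : MonoidAlgebra ℤ G :=
  ∑ i ∈ Finset.range (orderOf g), MonoidAlgebra.of ℤ G g ^ i

/-- the (two-sided) ideal generated by the norm elements of the nontrivial cyclic subgroups -/
noncomputable def normIdeal (G : Type u) [Group G] : Ideal (MonoidAlgebra ℤ G) :=
  Ideal.span {y | ∃ g : G, g ≠ 1 ∧ ∃ x : MonoidAlgebra ℤ G, y = normEl g * x}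

section Basic

variable {G : Type u} [Group G]

theorem normEl_mul_mem (g : G) (hg : g ≠ 1) (x : MonoidAlgebra ℤ G) :
    normEl g * x ∈ normIdeal G := Ideal.subset_span ⟨g, hg, x, rfl⟩

theorem normIdeal_le_ker {B : Type*} [Ring B] (Φ : MonoidAlgebra ℤ G →+* B)
    (h : ∀ g : G, g ≠ 1 → Φ (normEl g) = 0) : normIdeal G ≤ RingHom.ker Φ := by
  rw [normIdeal, Ideal.span_le]
  rintro y ⟨g, hg, x, rfl⟩
  rw [SetLike.mem_coe, RingHom.mem_ker, map_mul, h g hg, zero_mul]

/-- **T3**: if `G` has a fixed-point-free matrix representation over `ZMod r`, no nonzero integer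
lies in the norm ideal -/
theorem intCast_not_mem_normIdeal [Finite G] (r : ℕ) [hr : Fact r.Prime] {d : ℕ} (hd : 0 < d)
    (ρ₀ : G →* GL (Fin d) (ZMod r))
    (hfree : ∀ g : G, g ≠ 1 → ∀ v : Fin d → ZMod r,
      ((ρ₀ g : GL (Fin d) (ZMod r)) : Matrix (Fin d) (Fin d) (ZMod r)).mulVec v = v → v = 0)
    (N : ℤ) (hN : N ≠ 0) : (N : MonoidAlgebra ℤ G) ∉ normIdeal G := by
  classical
  intro hmem
  have hG := not_dvd_card_of_matFpf r hd ρ₀ hfree
  obtain ⟨b, hb⟩ : ∃ b : ℕ, b = N.natAbs + 1 := ⟨_, rfl⟩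
  have hb1 : 1 ≤ b := by omega
  haveI : NeZero (r ^ b) := ⟨pow_ne_zero b hr.out.ne_zero⟩
  obtain ⟨ρ, hρ⟩ := exists_lift_zmod_pow r b hb1 ρ₀ hG
  let F : G →* Matrix (Fin d) (Fin d) (ZMod (r ^ b)) := (Units.coeHom _).comp ρ
  have hF : ∀ g : G, F g = ((ρ g : GL (Fin d) (ZMod (r ^ b))) : Matrix (Fin d) (Fin d) (ZMod (r ^ b))) :=
    fun g => rfl
  let Φ : MonoidAlgebra ℤ G →ₐ[ℤ] Matrix (Fin d) (Fin d) (ZMod (r ^ b)) :=
    MonoidAlgebra.lift ℤ _ G F
  have hΦ : ∀ g : G, Φ (MonoidAlgebra.of ℤ G g) = F g := fun g => MonoidAlgebra.lift_of F g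
  have hker : normIdeal G ≤ RingHom.ker (Φ : MonoidAlgebra ℤ G →+* Matrix (Fin d) (Fin d) (ZMod (r ^ b))) := by
    apply normIdeal_le_ker
    intro g hg
    have h1 : (Φ : MonoidAlgebra ℤ G →+* Matrix (Fin d) (Fin d) (ZMod (r ^ b))) (normEl g)
        = ∑ i ∈ Finset.range (orderOf g), (F g) ^ i := by
      rw [normEl, map_sum]
      apply Finset.sum_congr rfl
      intro i _
      rw [map_pow]
      congr 1
      exact hΦ g
    rw [h1]
    apply geom_sum_eq_zero_of_isUnit
    · rw [hF]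
      apply isUnit_det_sub_one_of_lift r b hb1
      rw [hρ g]
      exact isUnit_det_sub_one_of_fpf _ (hfree g hg)
    · rw [← map_pow, pow_orderOf_eq_one, map_one]
  have h0 : Φ (N : MonoidAlgebra ℤ G) = 0 := hker hmem
  rw [map_intCast] at h0
  have h1 : ((N : Matrix (Fin d) (Fin d) (ZMod (r ^ b))) ⟨0, hd⟩ ⟨0, hd⟩) = 0 := by rw [h0]; rfl
  rw [← zsmul_one N, Matrix.smul_apply, Matrix.one_apply_eq, zsmul_one,
    ZMod.intCast_zmod_eq_zero_iff_dvd] at h1
  have h2 : r ^ b ∣ N.natAbs := Int.natCast_dvd.mp h1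
  have h3 : r ^ b ≤ N.natAbs := Nat.le_of_dvd (Int.natAbs_pos.mpr hN) h2
  have h4 : b < r ^ b := Nat.lt_pow_self hr.out.one_lt
  omega

end Basic

section Quot

variable {G : Type u} [Group G] (J : Ideal (MonoidAlgebra ℤ G))

/-- the action of `G` on a quotient of the group ring by a left ideal -/
noncomputable def quotAct (g : G) : (MonoidAlgebra ℤ G ⧸ J) →+ (MonoidAlgebra ℤ G ⧸ J) :=
  DistribMulAction.toAddMonoidHom (MonoidAlgebra ℤ G ⧸ J) (MonoidAlgebra.of ℤ G g)

theorem quotAct_apply (g : G) (q : MonoidAlgebra ℤ G ⧸ J) :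
    quotAct J g q = MonoidAlgebra.of ℤ G g • q := rfl

theorem quotAct_one (q : MonoidAlgebra ℤ G ⧸ J) : quotAct J 1 q = q := by
  rw [quotAct_apply, map_one, one_smul]

theorem quotAct_mul (g h : G) (q : MonoidAlgebra ℤ G ⧸ J) :
    quotAct J (g * h) q = quotAct J g (quotAct J h q) := by
  rw [quotAct_apply, quotAct_apply, quotAct_apply, map_mul, mul_smul]

variable (hJ : ∀ g : G, g ≠ 1 → ∀ x : MonoidAlgebra ℤ G, normEl g * x ∈ J)

theorem normEl_smul_quot (hJ : ∀ g : G, g ≠ 1 → ∀ x : MonoidAlgebra ℤ G, normEl g * x ∈ J)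
    (g : G) (hg : g ≠ 1) (q : MonoidAlgebra ℤ G ⧸ J) : normEl g • q = 0 := by
  obtain ⟨x, rfl⟩ := Submodule.Quotient.mk_surjective J q
  rw [← Submodule.Quotient.mk_smul, smul_eq_mul, Submodule.Quotient.mk_eq_zero]
  exact hJ g hg x

theorem nsmul_eq_zero_of_fixed (hJ : ∀ g : G, g ≠ 1 → ∀ x : MonoidAlgebra ℤ G, normEl g * x ∈ J)
    (g : G) (hg : g ≠ 1) (q : MonoidAlgebra ℤ G ⧸ J) (hq : quotAct J g q = q) :
    (orderOf g) • q = 0 := by
  have h1 : ∀ i : ℕ, (MonoidAlgebra.of ℤ G g ^ i) • q = q := by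
    intro i
    induction i with
    | zero => rw [pow_zero, one_smul]
    | succ i ih =>
      rw [pow_succ, mul_smul]
      rw [quotAct_apply] at hq
      rw [hq, ih]
  have h2 := normEl_smul_quot J hJ g hg q
  rw [normEl, Finset.sum_smul, Finset.sum_congr rfl (fun i _ => h1 i), Finset.sum_const,
    Finset.card_range] at h2
  exact h2

end Quot

section ChangePrime

variable {G : Type u} [Group G] [Finite G]

/-- **T4**: if no nonzero integer lies in the norm ideal, then `G` has a fixed-point-free matrix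
representation over `ZMod s` for every prime `s` not dividing the order of `G` -/
theorem exists_mat_of_prime (hI : ∀ N : ℤ, N ≠ 0 → (N : MonoidAlgebra ℤ G) ∉ normIdeal G)
    (s : ℕ) [hs : Fact s.Prime] (hsG : ¬ s ∣ Nat.card G) :
    ∃ (d : ℕ) (ρ : G →* GL (Fin d) (ZMod s)), 0 < d ∧ ∀ g : G, g ≠ 1 → ∀ v : Fin d → ZMod s,
      ((ρ g : GL (Fin d) (ZMod s)) : Matrix (Fin d) (Fin d) (ZMod s)).mulVec v = v → v = 0 := by
  classical
  obtain ⟨J, hJdef⟩ : ∃ J : Ideal (MonoidAlgebra ℤ G),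
      J = normIdeal G ⊔ Ideal.span {(s : MonoidAlgebra ℤ G)} := ⟨_, rfl⟩
  have hJ : ∀ g : G, g ≠ 1 → ∀ x : MonoidAlgebra ℤ G, normEl g * x ∈ J := by
    intro g hg x
    rw [hJdef]
    exact (le_sup_left : normIdeal G ≤ _) (normEl_mul_mem g hg x)
  -- `s` kills the quotient
  have hs0 : ∀ q : MonoidAlgebra ℤ G ⧸ J, s • q = 0 := by
    intro q
    obtain ⟨x, rfl⟩ := Submodule.Quotient.mk_surjective J q
    have h1 : s • (Submodule.Quotient.mk x : MonoidAlgebra ℤ G ⧸ J)
        = Submodule.Quotient.mk (s • x) := by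
      exact (map_nsmul (Submodule.mkQ J) s x).symm
    rw [h1, Submodule.Quotient.mk_eq_zero, hJdef]
    apply (le_sup_right : Ideal.span {(s : MonoidAlgebra ℤ G)} ≤ _)
    rw [Ideal.mem_span_singleton']
    refine ⟨x, ?_⟩
    rw [nsmul_eq_mul, Nat.cast_comm]
  -- finiteness
  haveI : Finite (MonoidAlgebra ℤ G ⧸ J) := by
    haveI : AddGroup.FG (MonoidAlgebra ℤ G ⧸ J) := Module.Finite.iff_addGroup_fg.mp inferInstance
    apply AddCommGroup.finite_of_fg_isAddTorsion
    intro q
    rw [isOfFinAddOrder_iff_nsmul_eq_zero]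
    exact ⟨s, hs.out.pos, hs0 q⟩
  -- nontriviality
  have h1J : (1 : MonoidAlgebra ℤ G) ∉ J := by
    intro h1
    rw [hJdef, Submodule.mem_sup] at h1
    obtain ⟨y, hy, z, hz, hyz⟩ := h1
    rw [Ideal.mem_span_singleton'] at hz
    obtain ⟨c, hc⟩ := hz
    -- Nakayama
    have hin : (⊤ : Submodule ℤ (MonoidAlgebra ℤ G ⧸ normIdeal G))
        ≤ (Ideal.span {(s : ℤ)}) • (⊤ : Submodule ℤ (MonoidAlgebra ℤ G ⧸ normIdeal G)) := by
      intro m _
      obtain ⟨x, rfl⟩ := Submodule.Quotient.mk_surjective (normIdeal G) m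
      have e1 : x = x * y + (s : ℤ) • (x * c) := by
        have : x = x * (y + z) := by rw [hyz, mul_one]
        rw [mul_add, ← hc] at this
        rw [zsmul_eq_mul, Int.cast_natCast, Nat.cast_comm, mul_assoc]
        exact this
      have e2 : (Submodule.Quotient.mk x : MonoidAlgebra ℤ G ⧸ normIdeal G)
          = (s : ℤ) • (Submodule.Quotient.mk (x * c) : MonoidAlgebra ℤ G ⧸ normIdeal G) := by
        have e3 : (Submodule.Quotient.mk (x * y) : MonoidAlgebra ℤ G ⧸ normIdeal G) = 0 := by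
          rw [Submodule.Quotient.mk_eq_zero]
          exact Ideal.mul_mem_left _ x hy
        have e4 : (Submodule.Quotient.mk x : MonoidAlgebra ℤ G ⧸ normIdeal G)
            = Submodule.Quotient.mk (x * y + (s : ℤ) • (x * c)) := congrArg _ e1
        rw [Submodule.Quotient.mk_add, e3, zero_add] at e4
        rw [e4]
        exact map_zsmul (Submodule.mkQ (normIdeal G)) (s : ℤ) (x * c)
      rw [e2]
      exact Submodule.smul_mem_smul (Ideal.mem_span_singleton_self _) Submodule.mem_top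
    obtain ⟨D, hD1, hD2⟩ := Submodule.exists_sub_one_mem_and_smul_eq_zero_of_fg_of_le_smul
      (Ideal.span {(s : ℤ)}) (⊤ : Submodule ℤ (MonoidAlgebra ℤ G ⧸ normIdeal G))
      Module.Finite.fg_top hin
    have h3 := hD2 (Submodule.Quotient.mk 1) Submodule.mem_top
    have h4 : D • (Submodule.Quotient.mk (1 : MonoidAlgebra ℤ G) : MonoidAlgebra ℤ G ⧸ normIdeal G)
        = Submodule.Quotient.mk ((D : MonoidAlgebra ℤ G)) := by
      rw [← zsmul_one D]
      exact (map_zsmul (Submodule.mkQ (normIdeal G)) D 1).symm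
    rw [h4, Submodule.Quotient.mk_eq_zero] at h3
    have hD0 : D = 0 := by
      by_contra hne
      exact hI D hne h3
    rw [hD0, Ideal.mem_span_singleton] at hD1
    have h5 : (s : ℤ) ∣ 1 := by
      have := (dvd_neg (a := (s : ℤ)) (b := (0 - 1 : ℤ))).mpr hD1
      simpa using this
    have h6 : s ∣ 1 := by exact_mod_cast h5
    exact hs.out.one_lt.ne' (Nat.dvd_one.mp h6)
  haveI : Nontrivial (MonoidAlgebra ℤ G ⧸ J) := by
    refine ⟨⟨Submodule.Quotient.mk 1, 0, ?_⟩⟩
    rw [Ne, Submodule.Quotient.mk_eq_zero]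
    exact h1J
  -- freeness
  have hfree : ∀ g : G, g ≠ 1 → ∀ q : MonoidAlgebra ℤ G ⧸ J, quotAct J g q = q → q = 0 := by
    intro g hg q hq
    have h1 := nsmul_eq_zero_of_fixed J hJ g hg q hq
    have h2 := hs0 q
    have h3 : addOrderOf q ∣ Nat.gcd (orderOf g) s :=
      Nat.dvd_gcd (addOrderOf_dvd_of_nsmul_eq_zero h1) (addOrderOf_dvd_of_nsmul_eq_zero h2)
    have h4 : Nat.gcd (orderOf g) s = 1 := by
      have h5 : Nat.Coprime s (orderOf g) := by
        rw [Nat.Prime.coprime_iff_not_dvd hs.out]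
        intro h
        exact hsG (h.trans (orderOf_dvd_natCard g))
      exact h5.symm
    rw [h4, Nat.dvd_one] at h3
    exact AddMonoid.addOrderOf_eq_one_iff.mp h3
  exact mat_of_addAction s hs0 (quotAct J) (quotAct_one J) (quotAct_mul J) hfree

end ChangePrime

end Cfsg.Agent.Lib.Helper1.Fpl
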