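import Mathlib
import Cfsg.Agent.Lib.Helper1.FplC

set_option autoImplicit false
set_option maxHeartbeats 4000000
set_option maxRecDepth 100000
set_option linter.unusedVariables false
set_option linter.unusedSectionVars false
set_option linter.style.longLine false
set_option linter.unusedSimpArgs false
set_option linter.deprecated false
set_option linter.style.haveILetI false

/-!
# Fixed-point-free modules of Frobenius complements, part D

Characteristic zero: a fixed-point-free irreducible representation over `AlgebraicClosure ℚ`.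
-/

namespace Cfsg.Agent.Lib.Helper1.Fpl

open TensorProduct

universe u

theorem sum_pow_apply_of_fixed {R V : Type*} [Semiring R] [AddCommMonoid V] [Module R V]
    (X : Module.End R V) (v : V) (h : X v = v) (n : ℕ) :
    (∑ i ∈ Finset.range n, X ^ i) v = n • v := by
  have h1 : ∀ i : ℕ, (X ^ i) v = v := by
    intro i
    induction i with
    | zero => rw [pow_zero, Module.End.one_apply]
    | succ i ih => rw [pow_succ, Module.End.mul_apply, h, ih]
  rw [LinearMap.sum_apply, Finset.sum_congr rfl (fun i _ => h1 i), Finset.sum_const,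
    Finset.card_range]

section Rat

variable {G : Type u} [Group G] [Finite G]

/-- a fixed-point-free rational matrix representation -/
theorem exists_mat_rat (hI : ∀ N : ℤ, N ≠ 0 → (N : MonoidAlgebra ℤ G) ∉ normIdeal G) :
    ∃ (d : ℕ) (ρ : G →* GL (Fin d) ℚ), 0 < d ∧ ∀ g : G, g ≠ 1 → ∀ v : Fin d → ℚ,
      ((ρ g : GL (Fin d) ℚ) : Matrix (Fin d) (Fin d) ℚ).mulVec v = v → v = 0 := by
  classical
  have hJ : ∀ g : G, g ≠ 1 → ∀ x : MonoidAlgebra ℤ G, normEl g * x ∈ normIdeal G :=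
    fun g hg x => normEl_mul_mem g hg x
  let T : MonoidAlgebra ℤ G →+* Module.End ℤ (MonoidAlgebra ℤ G ⧸ normIdeal G) :=
    Module.toModuleEnd ℤ (S := MonoidAlgebra ℤ G) (MonoidAlgebra ℤ G ⧸ normIdeal G)
  have hT : ∀ (a : MonoidAlgebra ℤ G) (q : MonoidAlgebra ℤ G ⧸ normIdeal G), T a q = a • q :=
    fun a q => rfl
  let ρM : G →* Module.End ℤ (MonoidAlgebra ℤ G ⧸ normIdeal G) :=
    (T : MonoidAlgebra ℤ G →* Module.End ℤ (MonoidAlgebra ℤ G ⧸ normIdeal G)).comp
      (MonoidAlgebra.of ℤ G)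
  have hρM : ∀ g : G, ρM g = T (MonoidAlgebra.of ℤ G g) := fun g => rfl
  have hsumM : ∀ g : G, g ≠ 1 → ∑ i ∈ Finset.range (orderOf g), ρM g ^ i = 0 := by
    intro g hg
    have h1 : ∑ i ∈ Finset.range (orderOf g), ρM g ^ i = T (normEl g) := by
      rw [normEl, map_sum]
      apply Finset.sum_congr rfl
      intro i _
      rw [map_pow, hρM]
    rw [h1]
    apply LinearMap.ext
    intro q
    rw [hT, LinearMap.zero_apply]
    exact normEl_smul_quot (normIdeal G) hJ g hg q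
  let bc : Module.End ℤ (MonoidAlgebra ℤ G ⧸ normIdeal G) →ₐ[ℤ]
      Module.End ℚ (ℚ ⊗[ℤ] (MonoidAlgebra ℤ G ⧸ normIdeal G)) :=
    Module.End.baseChangeHom ℤ ℚ (MonoidAlgebra ℤ G ⧸ normIdeal G)
  let ρV : G →* Module.End ℚ (ℚ ⊗[ℤ] (MonoidAlgebra ℤ G ⧸ normIdeal G)) :=
    (bc : Module.End ℤ (MonoidAlgebra ℤ G ⧸ normIdeal G) →* _).comp ρM
  have hρV : ∀ g : G, ρV g = bc (ρM g) := fun g => rfl
  have hsumV : ∀ g : G, g ≠ 1 → ∑ i ∈ Finset.range (orderOf g), ρV g ^ i = 0 := by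
    intro g hg
    have h1 : ∑ i ∈ Finset.range (orderOf g), ρV g ^ i
        = bc (∑ i ∈ Finset.range (orderOf g), ρM g ^ i) := by
      rw [map_sum]
      apply Finset.sum_congr rfl
      intro i _
      rw [map_pow, hρV]
    rw [h1, hsumM g hg, map_zero]
  have hfree : ∀ g : G, g ≠ 1 → ∀ v : ℚ ⊗[ℤ] (MonoidAlgebra ℤ G ⧸ normIdeal G),
      ρV g v = v → v = 0 := by
    intro g hg v hv
    have h1 := sum_pow_apply_of_fixed (ρV g) v hv (orderOf g)
    rw [hsumV g hg, LinearMap.zero_apply] at h1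
    have h2 : ((orderOf g : ℕ) : ℚ) • v = 0 := by
      rw [Nat.cast_smul_eq_nsmul]; exact h1.symm
    rcases smul_eq_zero.mp h2 with h3 | h3
    · exfalso
      have h4 : orderOf g = 0 := by exact_mod_cast h3
      exact (orderOf_pos g).ne' h4
    · exact h3
  -- nontriviality
  haveI hloc : IsLocalizedModule (nonZeroDivisors ℤ)
      (TensorProduct.mk ℤ ℚ (MonoidAlgebra ℤ G ⧸ normIdeal G) 1) := by
    rw [isLocalizedModule_iff_isBaseChange (nonZeroDivisors ℤ) ℚ]
    exact TensorProduct.isBaseChange ℤ _ ℚ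
  haveI : Nontrivial (ℚ ⊗[ℤ] (MonoidAlgebra ℤ G ⧸ normIdeal G)) := by
    refine ⟨⟨(TensorProduct.mk ℤ ℚ (MonoidAlgebra ℤ G ⧸ normIdeal G) 1)
      (Submodule.Quotient.mk 1), 0, ?_⟩⟩
    intro h0
    rw [IsLocalizedModule.eq_zero_iff (nonZeroDivisors ℤ)] at h0
    obtain ⟨c, hc⟩ := h0
    have h1 : (c : ℤ) • (Submodule.Quotient.mk (1 : MonoidAlgebra ℤ G) :
        MonoidAlgebra ℤ G ⧸ normIdeal G) = 0 := hc
    have h2 : (c : ℤ) • (Submodule.Quotient.mk (1 : MonoidAlgebra ℤ G) :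
        MonoidAlgebra ℤ G ⧸ normIdeal G)
        = Submodule.Quotient.mk (((c : ℤ) : MonoidAlgebra ℤ G)) := by
      rw [← zsmul_one (c : ℤ)]
      exact (map_zsmul (Submodule.mkQ (normIdeal G)) (c : ℤ) 1).symm
    rw [h2, Submodule.Quotient.mk_eq_zero] at h1
    exact hI (c : ℤ) (nonZeroDivisors.coe_ne_zero c) h1
  obtain ⟨ρ', hρ'⟩ := exists_matOfEnd ρV
  exact ⟨_, ρ', Module.finrank_pos, matFpf_of_end ρV ρ' hρ' hfree⟩

end Rat

section FieldExt

variable {G : Type u} [Group G]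

/-- extension of scalars preserves fixed-point-freeness -/
theorem fpf_map {K F : Type*} [Field K] [Field F] (f : K →+* F) {d : ℕ} (ρ : G →* GL (Fin d) K)
    (hfree : ∀ g : G, g ≠ 1 → ∀ v : Fin d → K,
      ((ρ g : GL (Fin d) K) : Matrix (Fin d) (Fin d) K).mulVec v = v → v = 0) :
    ∀ g : G, g ≠ 1 → ∀ v : Fin d → F,
      ((((Matrix.GeneralLinearGroup.map f).comp ρ) g : GL (Fin d) F) :
        Matrix (Fin d) (Fin d) F).mulVec v = v → v = 0 := by
  classical
  intro g hg
  apply fpf_of_isUnit_det_sub_one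
  have h1 := isUnit_det_sub_one_of_fpf _ (hfree g hg)
  have h2 : ((((Matrix.GeneralLinearGroup.map f).comp ρ) g : GL (Fin d) F) :
        Matrix (Fin d) (Fin d) F) = f.mapMatrix ((ρ g : GL (Fin d) K) : Matrix (Fin d) (Fin d) K) :=
    rfl
  rw [h2, ← map_one f.mapMatrix, ← map_sub, ← RingHom.map_det]
  exact h1.map f

end FieldExt

section Irreducible

variable {G : Type u} [Group G]

/-- an irreducible constituent of a fixed-point-free matrix representation -/
theorem exists_irreducible_constituent {F : Type*} [Field F] {n : ℕ} (hn : 0 < n)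
    (ρ : G →* GL (Fin n) F)
    (hfree : ∀ g : G, g ≠ 1 → ∀ v : Fin n → F,
      ((ρ g : GL (Fin n) F) : Matrix (Fin n) (Fin n) F).mulVec v = v → v = 0) :
    ∃ (m : ℕ) (ρ' : G →* GL (Fin m) F), 0 < m ∧ Function.Injective ρ' ∧
      (∀ W : Submodule F (Fin m → F),
        (∀ g : G, ∀ w ∈ W, ((ρ' g : GL (Fin m) F) : Matrix (Fin m) (Fin m) F).mulVec w ∈ W) →
          W = ⊥ ∨ W = ⊤) ∧
      ∀ g : G, g ≠ 1 → ∀ v : Fin m → F,
        ((ρ' g : GL (Fin m) F) : Matrix (Fin m) (Fin m) F).mulVec v = v → v = 0 := by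
  classical
  haveI : Nonempty (Fin n) := ⟨⟨0, hn⟩⟩
  have hone : Matrix.mulVecLin (((ρ 1 : GL (Fin n) F) : Matrix (Fin n) (Fin n) F))
      = (1 : Module.End F (Fin n → F)) := by
    rw [map_one, Units.val_one, Matrix.mulVecLin_one]; rfl
  have hmul : ∀ g h : G, Matrix.mulVecLin (((ρ (g * h) : GL (Fin n) F) : Matrix (Fin n) (Fin n) F))
      = (Matrix.mulVecLin (((ρ g : GL (Fin n) F) : Matrix (Fin n) (Fin n) F)) :
          Module.End F (Fin n → F))
        * (Matrix.mulVecLin (((ρ h : GL (Fin n) F) : Matrix (Fin n) (Fin n) F)) :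
          Module.End F (Fin n → F)) := by
    intro g h
    rw [map_mul, Units.val_mul, Matrix.mulVecLin_mul]; rfl
  let ρE : G →* Module.End F (Fin n → F) :=
    { toFun := fun g => Matrix.mulVecLin ((ρ g : GL (Fin n) F) : Matrix (Fin n) (Fin n) F)
      map_one' := hone
      map_mul' := hmul }
  have hρE : ∀ (g : G) (v : Fin n → F),
      ρE g v = ((ρ g : GL (Fin n) F) : Matrix (Fin n) (Fin n) F).mulVec v := fun g v => rfl
  -- a minimal invariant subspace
  have hex : ∃ k : ℕ, ∃ W : Submodule F (Fin n → F), (W ≠ ⊥ ∧ ∀ g : G, ∀ w ∈ W, ρE g w ∈ W) ∧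
      Module.finrank F W = k := by
    refine ⟨_, ⊤, ⟨?_, fun g w _ => Submodule.mem_top⟩, rfl⟩
    exact top_ne_bot
  obtain ⟨W₀, ⟨hW₀ne, hW₀inv⟩, hW₀k⟩ := Nat.find_spec hex
  have hmin : ∀ W : Submodule F (Fin n → F), W ≠ ⊥ → (∀ g : G, ∀ w ∈ W, ρE g w ∈ W) →
      Module.finrank F W₀ ≤ Module.finrank F W := by
    intro W hW1 hW2
    rw [hW₀k]
    exact Nat.find_min' hex ⟨W, ⟨hW1, hW2⟩, rfl⟩
  haveI : Nontrivial ↥W₀ := (Submodule.nontrivial_iff_ne_bot).mpr hW₀ne
  have hone' : (ρE 1).restrict (hW₀inv 1) = (1 : Module.End F ↥W₀) := by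
    apply LinearMap.ext
    intro w
    apply Subtype.ext
    rw [LinearMap.restrict_coe_apply, map_one]
    rfl
  have hmul' : ∀ g h : G, (ρE (g * h)).restrict (hW₀inv (g * h))
      = ((ρE g).restrict (hW₀inv g) : Module.End F ↥W₀) * ((ρE h).restrict (hW₀inv h) : Module.End F ↥W₀) := by
    intro g h
    apply LinearMap.ext
    intro w
    apply Subtype.ext
    rw [LinearMap.restrict_coe_apply, map_mul, Module.End.mul_apply]
    rfl
  let ρW : G →* Module.End F ↥W₀ :=
    { toFun := fun g => (ρE g).restrict (hW₀inv g)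
      map_one' := hone'
      map_mul' := hmul' }
  have hρW : ∀ (g : G) (w : ↥W₀), ((ρW g w : ↥W₀) : Fin n → F) = ρE g (w : Fin n → F) :=
    fun g w => rfl
  have hfreeW : ∀ g : G, g ≠ 1 → ∀ w : ↥W₀, ρW g w = w → w = 0 := by
    intro g hg w hw
    apply Subtype.ext
    have h1 := congrArg Subtype.val hw
    rw [hρW, hρE] at h1
    rw [hfree g hg _ h1]
    rfl
  obtain ⟨ρ', hρ'⟩ := exists_matOfEnd ρW
  have hfree' := matFpf_of_end ρW ρ' hρ' hfreeW
  have hm : 0 < Module.finrank F ↥W₀ := Module.finrank_pos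
  refine ⟨_, ρ', hm, ?_, ?_, hfree'⟩
  · -- injectivity
    rw [injective_iff_map_eq_one]
    intro g hg
    by_contra hg1
    have h1 := hfree' g hg1 (fun _ => 1) (by rw [hg, Units.val_one, Matrix.one_mulVec])
    have h2 := congrFun h1 ⟨0, hm⟩
    exact one_ne_zero h2
  · -- irreducibility
    intro U hU
    obtain ⟨e, he⟩ : ∃ e : ↥W₀ ≃ₗ[F] (Fin (Module.finrank F ↥W₀) → F),
        e = (Module.finBasis F ↥W₀).equivFun := ⟨_, rfl⟩
    rw [← he] at hρ'
    set W' : Submodule F (Fin n → F) := (U.comap e.toLinearMap).map W₀.subtype with hW'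
    have hW'le : W' ≤ W₀ := Submodule.map_subtype_le W₀ _
    have hW'inv : ∀ g : G, ∀ w ∈ W', ρE g w ∈ W' := by
      intro g w hw
      rw [hW', Submodule.mem_map] at hw ⊢
      obtain ⟨w₁, hw₁, rfl⟩ := hw
      refine ⟨ρW g w₁, ?_, ?_⟩
      · rw [Submodule.mem_comap] at hw₁ ⊢
        have h1 : e (ρW g w₁) = ((ρ' g : GL (Fin (Module.finrank F ↥W₀)) F) :
            Matrix (Fin (Module.finrank F ↥W₀)) (Fin (Module.finrank F ↥W₀)) F).mulVec (e w₁) :=
          (hρ' g w₁).symm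
        show e (ρW g w₁) ∈ U
        rw [h1]
        exact hU g _ hw₁
      · rfl
    by_cases hbot : W' = ⊥
    · left
      rw [eq_bot_iff]
      intro u hu
      have h1 : (e.symm u : Fin n → F) ∈ W' := by
        rw [hW', Submodule.mem_map]
        refine ⟨e.symm u, ?_, rfl⟩
        rw [Submodule.mem_comap]
        show e (e.symm u) ∈ U
        rw [LinearEquiv.apply_symm_apply]
        exact hu
      rw [hbot, Submodule.mem_bot] at h1
      have h2 : e.symm u = 0 := Subtype.ext h1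
      have h3 : u = e (e.symm u) := (LinearEquiv.apply_symm_apply e u).symm
      rw [h3, h2, map_zero]
      exact Submodule.zero_mem _
    · right
      have h1 := hmin W' hbot hW'inv
      have h2 : W' = W₀ := Submodule.eq_of_le_of_finrank_le hW'le h1
      rw [eq_top_iff]
      intro u _
      have h3 : (e.symm u : Fin n → F) ∈ W' := by rw [h2]; exact (e.symm u).2
      rw [hW', Submodule.mem_map] at h3
      obtain ⟨w, hw, hwu⟩ := h3
      have h4 : w = e.symm u := Subtype.ext hwu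
      rw [Submodule.mem_comap, h4] at hw
      have h5 : e (e.symm u) ∈ U := hw
      rw [LinearEquiv.apply_symm_apply] at h5
      exact h5

end Irreducible

/-- **S3357** -/
theorem frobComp_fpf_rep {G : Type u} [Group G] [Finite G]
    (hFC : ∃ (L : Type) (_ : Group L) (_ : Finite L) (H : Subgroup L),
      Cfsg.IsFrobeniusComplement H ∧ Nonempty (G ≃* H)) :
    ∃ (n : ℕ) (ρ : G →* GL (Fin n) (AlgebraicClosure ℚ)), 0 < n ∧ Function.Injective ρ ∧
      (∀ W : Submodule (AlgebraicClosure ℚ) (Fin n → AlgebraicClosure ℚ),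
        (∀ g : G, ∀ w ∈ W, ((ρ g : GL (Fin n) (AlgebraicClosure ℚ)) :
          Matrix (Fin n) (Fin n) (AlgebraicClosure ℚ)).mulVec w ∈ W) → W = ⊥ ∨ W = ⊤) ∧
      ∀ g : G, g ≠ 1 → ∀ v : Fin n → AlgebraicClosure ℚ,
        ((ρ g : GL (Fin n) (AlgebraicClosure ℚ)) :
          Matrix (Fin n) (Fin n) (AlgebraicClosure ℚ)).mulVec v = v → v = 0 := by
  obtain ⟨r, hr, d, ρ₀, hd, hρ₀⟩ := exists_mat_of_frobComp hFC
  haveI := hr
  have hI := intCast_not_mem_normIdeal r hd ρ₀ hρ₀
  obtain ⟨d', ρ₁, hd', hρ₁⟩ := exists_mat_rat hI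
  have h2 := fpf_map (algebraMap ℚ (AlgebraicClosure ℚ)) ρ₁ hρ₁
  exact exists_irreducible_constituent hd' _ h2

end Cfsg.Agent.Lib.Helper1.Fpl
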