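import Mathlib
import Cfsg.Agent.Lib.Helper1.FplD
import Cfsg.Agent.Lib.Helper3.FrobConstr

set_option autoImplicit false
set_option maxHeartbeats 4000000
set_option maxRecDepth 100000
set_option linter.unusedVariables false
set_option linter.unusedSectionVars false
set_option linter.style.longLine false
set_option linter.unusedSimpArgs false
set_option linter.deprecated false
set_option linter.style.haveILetI false

/-!
# Fixed-point-free modules of Frobenius complements, part E

Direct products of Frobenius complements of coprime orders (S4292).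
-/

namespace Cfsg.Agent.Lib.Helper1.Fpl

open scoped Matrix

universe u v

section Tensor

variable {A : Type u} {B : Type v} [Group A] [Group B] {R : Type*} [CommRing R] {a b : ℕ}

/-- the action of `A × B` on `a × b` matrices -/
def tAct (ρA : A →* GL (Fin a) R) (ρB : B →* GL (Fin b) R) (g : A × B)
    (X : Matrix (Fin a) (Fin b) R) : Matrix (Fin a) (Fin b) R :=
  ((ρA g.1 : GL (Fin a) R) : Matrix (Fin a) (Fin a) R) * X
    * (((ρB g.2 : GL (Fin b) R) : Matrix (Fin b) (Fin b) R))ᵀ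

variable (ρA : A →* GL (Fin a) R) (ρB : B →* GL (Fin b) R)

theorem tAct_one (X : Matrix (Fin a) (Fin b) R) : tAct ρA ρB 1 X = X := by
  rw [tAct, Prod.fst_one, Prod.snd_one, map_one, map_one, Units.val_one, Units.val_one,
    Matrix.transpose_one, Matrix.one_mul, Matrix.mul_one]

theorem tAct_mul (g h : A × B) (X : Matrix (Fin a) (Fin b) R) :
    tAct ρA ρB (g * h) X = tAct ρA ρB g (tAct ρA ρB h X) := by
  rw [tAct, tAct, tAct, Prod.fst_mul, Prod.snd_mul, map_mul, map_mul, Units.val_mul, Units.val_mul,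
    Matrix.transpose_mul]
  simp only [Matrix.mul_assoc]

theorem tAct_zero (g : A × B) : tAct ρA ρB g 0 = 0 := by
  rw [tAct, Matrix.mul_zero, Matrix.zero_mul]

theorem tAct_add (g : A × B) (X Y : Matrix (Fin a) (Fin b) R) :
    tAct ρA ρB g (X + Y) = tAct ρA ρB g X + tAct ρA ρB g Y := by
  rw [tAct, tAct, tAct, Matrix.mul_add, Matrix.add_mul]

/-- the action as an instance -/
@[reducible] def tensorAct : DistribMulAction (A × B) (Matrix (Fin a) (Fin b) R) where
  smul := tAct ρA ρB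
  one_smul := tAct_one ρA ρB
  mul_smul := tAct_mul ρA ρB
  smul_zero := tAct_zero ρA ρB
  smul_add := tAct_add ρA ρB

theorem tAct_pow (g : A × B) (X : Matrix (Fin a) (Fin b) R) (h : tAct ρA ρB g X = X) (k : ℕ) :
    tAct ρA ρB (g ^ k) X = X := by
  induction k with
  | zero => rw [pow_zero, tAct_one]
  | succ k ih => rw [pow_succ, tAct_mul, h, ih]

theorem eq_zero_of_mul_eq_self {c : ℕ} (M : Matrix (Fin a) (Fin a) R)
    (hM : ∀ v : Fin a → R, M.mulVec v = v → v = 0) (X : Matrix (Fin a) (Fin c) R)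
    (hX : M * X = X) : X = 0 := by
  ext i j
  have h1 := hM (fun i => X i j) (by
    funext i
    have h2 := congrFun (congrFun hX i) j
    rw [Matrix.mul_apply] at h2
    rw [Matrix.mulVec, dotProduct]
    exact h2)
  exact congrFun h1 i

theorem tAct_fpf [Finite A] [Finite B] (hcop : (Nat.card A).Coprime (Nat.card B))
    (hA : ∀ x : A, x ≠ 1 → ∀ v : Fin a → R,
      ((ρA x : GL (Fin a) R) : Matrix (Fin a) (Fin a) R).mulVec v = v → v = 0)
    (hB : ∀ y : B, y ≠ 1 → ∀ v : Fin b → R,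
      ((ρB y : GL (Fin b) R) : Matrix (Fin b) (Fin b) R).mulVec v = v → v = 0)
    (g : A × B) (hg : g ≠ 1) (X : Matrix (Fin a) (Fin b) R) (hX : tAct ρA ρB g X = X) : X = 0 := by
  by_cases hx : g.1 = 1
  · have hy : g.2 ≠ 1 := by
      intro hy
      apply hg
      exact Prod.ext hx hy
    rw [tAct, hx, map_one, Units.val_one, Matrix.one_mul] at hX
    have h1 : ((ρB g.2 : GL (Fin b) R) : Matrix (Fin b) (Fin b) R) * Xᵀ = Xᵀ := by
      have h2 := congrArg Matrix.transpose hX
      rw [Matrix.transpose_mul, Matrix.transpose_transpose] at h2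
      exact h2
    have h3 := eq_zero_of_mul_eq_self _ (hB g.2 hy) Xᵀ h1
    have h4 := congrArg Matrix.transpose h3
    rw [Matrix.transpose_transpose, Matrix.transpose_zero] at h4
    exact h4
  · have h1 := tAct_pow ρA ρB g X hX (Nat.card B)
    have h2 : (g ^ Nat.card B).2 = 1 := by
      rw [Prod.pow_snd]; exact pow_card_eq_one'
    have hx' : (g ^ Nat.card B).1 ≠ 1 := by
      rw [Prod.pow_fst]
      intro h3
      have h4 : orderOf g.1 ∣ Nat.card B := orderOf_dvd_of_pow_eq_one h3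
      have h5 : orderOf g.1 ∣ Nat.card A := orderOf_dvd_natCard g.1
      have h6 : orderOf g.1 ∣ 1 := by
        have := Nat.dvd_gcd h5 h4
        rwa [hcop.gcd_eq_one] at this
      exact hx (orderOf_eq_one_iff.mp (Nat.dvd_one.mp h6))
    rw [tAct, h2, map_one, Units.val_one, Matrix.transpose_one, Matrix.mul_one] at h1
    exact eq_zero_of_mul_eq_self _ (hA _ hx') X h1

end Tensor

/-- a nontrivial group embedding into a Frobenius complement is a Frobenius complement -/
theorem frobComp_of_injective {G₁ : Type u} {G₂ : Type v} [Group G₁] [Finite G₁] [Nontrivial G₁]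
    [Group G₂] (ι : G₁ →* G₂) (hι : Function.Injective ι)
    (hFC : ∃ (L : Type) (_ : Group L) (_ : Finite L) (H : Subgroup L),
      Cfsg.IsFrobeniusComplement H ∧ Nonempty (G₂ ≃* H)) :
    ∃ (L : Type) (_ : Group L) (_ : Finite L) (H : Subgroup L),
      Cfsg.IsFrobeniusComplement H ∧ Nonempty (G₁ ≃* H) := by
  classical
  obtain ⟨L, _, _, H, hH, ⟨e⟩⟩ := hFC
  obtain ⟨N, hNn, hNne, hN⟩ := Cfsg.Agent.Lib.Helper6.NSFrob.exists_kernel H hH
  haveI := hNn
  haveI : Nontrivial ↥N := (Subgroup.nontrivial_iff_ne_bot N).mpr hNne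
  let φ : G₁ →* MulAut ↥N :=
    (MulAut.conjNormal (H := N)).comp (H.subtype.comp (e.toMonoidHom.comp ι))
  have hφ : ∀ (g : G₁) (k : ↥N),
      ((φ g k : ↥N) : L) = ((e (ι g) : ↥H) : L) * (k : L) * ((e (ι g) : ↥H) : L)⁻¹ :=
    fun g k => rfl
  have hfpf : ∀ g : G₁, g ≠ 1 → ∀ k : ↥N, φ g k = k → k = 1 := by
    intro g hg k hk
    have h1 : ((e (ι g) : ↥H) : L) ≠ 1 := by
      intro h
      apply hg
      apply hι
      apply e.injective
      rw [map_one, map_one]
      exact Subtype.ext h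
    have h2 := hN _ (e (ι g)).2 h1
    have h3 : (k : L) ∈ N ⊓ Subgroup.centralizer {((e (ι g) : ↥H) : L)} := by
      refine Subgroup.mem_inf.mpr ⟨k.2, ?_⟩
      rw [Subgroup.mem_centralizer_iff]
      intro h hh
      rw [Set.mem_singleton_iff] at hh
      rw [hh]
      have h4 := congrArg Subtype.val hk
      rw [hφ] at h4
      calc ((e (ι g) : ↥H) : L) * (k : L)
          = ((e (ι g) : ↥H) : L) * (k : L) * ((e (ι g) : ↥H) : L)⁻¹ * ((e (ι g) : ↥H) : L) := by group
        _ = (k : L) * ((e (ι g) : ↥H) : L) := by rw [h4]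
    rw [h2, Subgroup.mem_bot] at h3
    exact Subtype.ext h3
  obtain ⟨L', hL'1, hL'2, C, hC, hAC, _⟩ :=
    Cfsg.Agent.Lib.Helper3.exists_frobenius_of_free_action φ hfpf
  exact ⟨L', hL'1, hL'2, C, hC, hAC⟩

section Main

variable {A : Type u} {B : Type v} [Group A] [Finite A] [Nontrivial A] [Group B] [Finite B]
  [Nontrivial B]

theorem prod_frobComp_of
    (hA : ∃ (L : Type) (_ : Group L) (_ : Finite L) (H : Subgroup L),
      Cfsg.IsFrobeniusComplement H ∧ Nonempty (A ≃* H))
    (hB : ∃ (L : Type) (_ : Group L) (_ : Finite L) (H : Subgroup L),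
      Cfsg.IsFrobeniusComplement H ∧ Nonempty (B ≃* H))
    (hcop : (Nat.card A).Coprime (Nat.card B)) :
    ∃ (L : Type) (_ : Group L) (_ : Finite L) (H : Subgroup L),
      Cfsg.IsFrobeniusComplement H ∧ Nonempty ((A × B) ≃* H) := by
  classical
  obtain ⟨rA, hrA, dA, ρA₀, hdA, hρA₀⟩ := exists_mat_of_frobComp hA
  obtain ⟨rB, hrB, dB, ρB₀, hdB, hρB₀⟩ := exists_mat_of_frobComp hB
  haveI := hrA
  haveI := hrB
  have hIA := intCast_not_mem_normIdeal rA hdA ρA₀ hρA₀
  have hIB := intCast_not_mem_normIdeal rB hdB ρB₀ hρB₀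
  obtain ⟨s, hsge, hsp⟩ := Nat.exists_infinite_primes (Nat.card A * Nat.card B + 1)
  haveI := Fact.mk hsp
  have hApos : 0 < Nat.card A := Nat.card_pos
  have hBpos : 0 < Nat.card B := Nat.card_pos
  have hsA : ¬ s ∣ Nat.card A := by
    apply Nat.not_dvd_of_pos_of_lt hApos
    have : Nat.card A * 1 ≤ Nat.card A * Nat.card B := Nat.mul_le_mul_left _ hBpos
    omega
  have hsB : ¬ s ∣ Nat.card B := by
    apply Nat.not_dvd_of_pos_of_lt hBpos
    have : 1 * Nat.card B ≤ Nat.card A * Nat.card B := Nat.mul_le_mul_right _ hApos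
    omega
  obtain ⟨a, ρA, ha, hρA⟩ := exists_mat_of_prime hIA s hsA
  obtain ⟨b, ρB, hb, hρB⟩ := exists_mat_of_prime hIB s hsB
  haveI : NeZero s := ⟨hsp.ne_zero⟩
  haveI : Nonempty (Fin a) := ⟨⟨0, ha⟩⟩
  haveI : Nonempty (Fin b) := ⟨⟨0, hb⟩⟩
  haveI : Finite (Matrix (Fin a) (Fin b) (ZMod s)) := inferInstance
  haveI : Nontrivial (Matrix (Fin a) (Fin b) (ZMod s)) := inferInstance
  letI : DistribMulAction (A × B) (Matrix (Fin a) (Fin b) (ZMod s)) := tensorAct ρA ρB
  have hfree : ∀ g : A × B, g ≠ 1 → ∀ X : Matrix (Fin a) (Fin b) (ZMod s), g • X = X → X = 0 :=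
    fun g hg X hX => tAct_fpf ρA ρB hcop hρA hρB g hg X hX
  obtain ⟨L', hL'1, hL'2, C, hC, hAC, _⟩ :=
    Cfsg.Agent.Lib.Helper3.exists_frobenius_of_distribMulAction (H := A × B)
      (V := Matrix (Fin a) (Fin b) (ZMod s)) hfree
  exact ⟨L', hL'1, hL'2, C, hC, hAC⟩

theorem coprime_of_prod_frobComp
    (hAB : ∃ (L : Type) (_ : Group L) (_ : Finite L) (H : Subgroup L),
      Cfsg.IsFrobeniusComplement H ∧ Nonempty ((A × B) ≃* H)) :
    (Nat.card A).Coprime (Nat.card B) := by
  classical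
  obtain ⟨L, _, _, H, hH, ⟨e⟩⟩ := hAB
  have hcyc := Cfsg.Agent.Lib.Helper6.NSFrob.cyc_of_frobenius H hH e
  by_contra hnc
  obtain ⟨p, hp, hpA, hpB⟩ := Nat.Prime.not_coprime_iff_dvd.mp hnc
  haveI := Fact.mk hp
  obtain ⟨x, hx⟩ := exists_prime_orderOf_dvd_card' p hpA
  obtain ⟨y, hy⟩ := exists_prime_orderOf_dvd_card' p hpB
  set X : Subgroup (A × B) := (Subgroup.zpowers x).prod (Subgroup.zpowers y) with hXdef
  have hXc : IsMulCommutative ↥X := by
    refine ⟨⟨?_⟩⟩
    rintro ⟨⟨u1, u2⟩, hu⟩ ⟨⟨v1, v2⟩, hv⟩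
    rw [hXdef, Subgroup.mem_prod] at hu hv
    obtain ⟨i, hi⟩ := Subgroup.mem_zpowers_iff.mp hu.1
    obtain ⟨j, hj⟩ := Subgroup.mem_zpowers_iff.mp hu.2
    obtain ⟨k, hk⟩ := Subgroup.mem_zpowers_iff.mp hv.1
    obtain ⟨l, hl⟩ := Subgroup.mem_zpowers_iff.mp hv.2
    simp only at hi hj hk hl
    apply Subtype.ext
    apply Prod.ext
    · show u1 * v1 = v1 * u1
      rw [← hi, ← hk, ← zpow_add, ← zpow_add, add_comm]
    · show u2 * v2 = v2 * u2
      rw [← hj, ← hl, ← zpow_add, ← zpow_add, add_comm]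
  haveI := hcyc X hXc
  obtain ⟨g, hg⟩ := IsCyclic.exists_generator (α := ↥X)
  have hcard : Nat.card ↥X = p * p := by
    rw [hXdef, Nat.card_congr (Subgroup.prodEquiv _ _).toEquiv, Nat.card_prod, Nat.card_zpowers,
      Nat.card_zpowers, hx, hy]
  have hord : orderOf g = p * p := by
    rw [orderOf_eq_card_of_forall_mem_zpowers hg, hcard]
  have hgp : g ^ p = 1 := by
    have hgm : (g : A × B) ∈ (Subgroup.zpowers x).prod (Subgroup.zpowers y) := g.2
    rw [Subgroup.mem_prod] at hgm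
    obtain ⟨i, hi⟩ := Subgroup.mem_zpowers_iff.mp hgm.1
    obtain ⟨j, hj⟩ := Subgroup.mem_zpowers_iff.mp hgm.2
    have hxp : x ^ p = 1 := by
      have := pow_orderOf_eq_one x
      rwa [hx] at this
    have hyp : y ^ p = 1 := by
      have := pow_orderOf_eq_one y
      rwa [hy] at this
    apply Subtype.ext
    apply Prod.ext
    · show ((g : A × B) ^ p).1 = 1
      rw [Prod.pow_fst, ← hi, ← zpow_natCast, ← zpow_mul, mul_comm, zpow_mul, zpow_natCast, hxp,
        one_zpow]
    · show ((g : A × B) ^ p).2 = 1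
      rw [Prod.pow_snd, ← hj, ← zpow_natCast, ← zpow_mul, mul_comm, zpow_mul, zpow_natCast, hyp,
        one_zpow]
  have hdvd : p * p ∣ p := by
    rw [← hord]; exact orderOf_dvd_of_pow_eq_one hgp
  have hle : p * p ≤ p := Nat.le_of_dvd hp.pos hdvd
  have h2 := hp.two_le
  nlinarith

/-- **S4292** -/
theorem prod_frobComp_iff :
    (∃ (L : Type) (_ : Group L) (_ : Finite L) (H : Subgroup L),
      Cfsg.IsFrobeniusComplement H ∧ Nonempty ((A × B) ≃* H)) ↔
    ((∃ (L : Type) (_ : Group L) (_ : Finite L) (H : Subgroup L),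
      Cfsg.IsFrobeniusComplement H ∧ Nonempty (A ≃* H)) ∧
     (∃ (L : Type) (_ : Group L) (_ : Finite L) (H : Subgroup L),
      Cfsg.IsFrobeniusComplement H ∧ Nonempty (B ≃* H)) ∧
     (Nat.card A).Coprime (Nat.card B)) := by
  constructor
  · intro h
    refine ⟨?_, ?_, coprime_of_prod_frobComp h⟩
    · exact frobComp_of_injective (MonoidHom.inl A B)
        (fun a b hab => by simpa using congrArg Prod.fst hab) h
    · exact frobComp_of_injective (MonoidHom.inr A B)
        (fun a b hab => by simpa using congrArg Prod.snd hab) h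
  · rintro ⟨hA, hB, hcop⟩
    exact prod_frobComp_of hA hB hcop

end Main

end Cfsg.Agent.Lib.Helper1.Fpl
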