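import Mathlib
import Cfsg.Prelude.Def_LocalEven
import Cfsg.Agent.Lib.Helper1.FreeStable3
set_option autoImplicit false
open scoped commutatorElement Pointwise IsMulCommutative
open Cfsg
universe u v w
namespace Cfsg.Agent.Lib.Helper1.FreeStable

open Cfsg.Agent.Lib.Helper1.QuadSL2 Cfsg.Agent.Lib.Helper1.StableQuad Cfsg.Agent.Lib.Helper1.NPC
  Cfsg.Agent.Lib.Helper1.NPStable Cfsg.Agent.Lib.Helper2.Inv

variable {G : Type u} [Group G]

/-- the normalizer of a nontrivial `p`-subgroup of a section is involved in the normalizer of a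
nontrivial `p`-subgroup of the group -/
theorem exists_involves_normalizer_of_section [Finite G] {p : ℕ} [hp : Fact p.Prime]
    (K R : Subgroup G) [hR : (R.subgroupOf K).Normal]
    (Pb : Subgroup (↥K ⧸ R.subgroupOf K)) (hPb : IsPGroup p Pb) (hne : Pb ≠ ⊥) :
    ∃ P₀ : Subgroup G, IsPGroup p P₀ ∧ P₀ ≠ ⊥ ∧
      Cfsg.Involves ↥(Subgroup.normalizer (Pb : Set (↥K ⧸ R.subgroupOf K)))
        ↥(Subgroup.normalizer (P₀ : Set G)) := by
  obtain ⟨Nb, hNb⟩ : ∃ Nb, Nb = Subgroup.normalizer (Pb : Set (↥K ⧸ R.subgroupOf K)) := ⟨_, rfl⟩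
  rw [← hNb]
  obtain ⟨π, hπdef⟩ : ∃ π : ↥K →* ↥K ⧸ R.subgroupOf K, π = QuotientGroup.mk' (R.subgroupOf K) :=
    ⟨_, rfl⟩
  have hπ : Function.Surjective π := by rw [hπdef]; exact QuotientGroup.mk'_surjective _
  obtain ⟨M, hM⟩ : ∃ M : Subgroup ↥K, M = Nb.comap π := ⟨_, rfl⟩
  have hMmem : ∀ x : ↥M, π (x : ↥K) ∈ Nb := by
    have h0 : ∀ z : ↥K, z ∈ M → π z ∈ Nb := by
      intro z hz; rw [hM] at hz; exact hz
    intro x
    exact h0 _ x.2
  let πM : ↥M →* ↥Nb := (π.comp M.subtype).codRestrict Nb hMmem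
  have hπM : Function.Surjective πM := by
    rintro ⟨y, hy⟩
    obtain ⟨x, rfl⟩ := hπ y
    exact ⟨⟨x, by rw [hM]; exact hy⟩, rfl⟩
  have hPbN : Pb ≤ Nb := by rw [hNb]; exact Subgroup.le_normalizer
  haveI hPb'n : (Pb.subgroupOf Nb).Normal := by
    rw [hNb]; exact Subgroup.normal_in_normalizer
  have hPb'p : IsPGroup p (Pb.subgroupOf Nb) := hPb.comap_subtype
  obtain ⟨T, hTp, hTmap, hTn⟩ := exists_lift_normal_pSubgroup πM hπM (Pb.subgroupOf Nb) hPb'p
  let j : ↥M →* G := K.subtype.comp M.subtype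
  have hj : Function.Injective j := K.subtype_injective.comp M.subtype_injective
  refine ⟨T.map j, hTp.map j, ?_, ?_⟩
  · intro hbot
    apply hne
    have hT : T = ⊥ := (Subgroup.map_eq_bot_iff_of_injective T hj).mp hbot
    rw [hT, Subgroup.map_bot] at hTmap
    have h2 : Pb ⊓ Nb = ⊥ := Subgroup.subgroupOf_eq_bot.mp hTmap.symm |>.eq_bot
    rwa [inf_eq_left.mpr hPbN] at h2
  · let ι : ↥(Subgroup.normalizer (T : Set ↥M)) →* ↥(Subgroup.normalizer ((T.map j : Subgroup G) : Set G)) :=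
      (j.comp (Subgroup.normalizer (T : Set ↥M)).subtype).codRestrict _ (by
        intro x
        exact Subgroup.le_normalizer_map j ⟨x, x.2, rfl⟩)
    have hι : Function.Injective ι := by
      intro a b hab
      have := congrArg Subtype.val hab
      exact Subtype.ext (hj this)
    let ρ : ↥(Subgroup.normalizer (T : Set ↥M)) →* ↥Nb :=
      πM.comp (Subgroup.normalizer (T : Set ↥M)).subtype
    have hρ : Function.Surjective ρ := by
      intro y
      have : y ∈ (Subgroup.normalizer (T : Set ↥M)).map πM := by rw [hTn]; trivial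
      obtain ⟨x, hx, rfl⟩ := this
      exact ⟨⟨x, hx⟩, rfl⟩
    exact involves_of_inj_surj ι hι ρ hρ

theorem s2004 [Finite G] {p : ℕ} [hp : Fact p.Prime] (hp2 : p ≠ 2)
    (h : ∀ P : Subgroup G, IsPGroup p ↥P → P ≠ ⊥ →
      ¬ Cfsg.Involves (Matrix.SpecialLinearGroup (Fin 2) (ZMod p))
        ↥(Subgroup.normalizer ((P : Subgroup G) : Set G)))
    (K R : Subgroup G) [hR : (R.subgroupOf K).Normal] :
    Cfsg.IsNormalizerPStable p (↥K ⧸ R.subgroupOf K) := by
  apply isNormalizerPStable_of_local_free hp2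
  intro Pb hPb hne hinv
  obtain ⟨P₀, hP₀p, hP₀ne, hinv₀⟩ := exists_involves_normalizer_of_section K R Pb hPb hne
  exact h P₀ hP₀p hP₀ne (involves_trans hinv hinv₀)

end Cfsg.Agent.Lib.Helper1.FreeStable
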