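import Mathlib
import Cfsg.Prelude.Def_LocalEven
import Cfsg.Agent.Lib.Helper1.FreeStable4
set_option autoImplicit false
open scoped commutatorElement Pointwise IsMulCommutative
open Cfsg
universe u v w
namespace Cfsg.Agent.Lib.Helper1.FreeStable

open Cfsg.Agent.Lib.Helper1.QuadSL2 Cfsg.Agent.Lib.Helper1.StableQuad Cfsg.Agent.Lib.Helper1.NPC
  Cfsg.Agent.Lib.Helper1.NPStable Cfsg.Agent.Lib.Helper2.Inv

variable {G : Type u} [Group G]

/-- the subgroup form of normalizer `p`-stability -/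
theorem map_le_pCore_of_isNormalizerPStable {p : ℕ} (hst : IsNormalizerPStable p G)
    (P A : Subgroup G) (hP : IsPGroup p P)
    (hquad : ⁅⁅P, A⁆, A⁆ = ⊥) :
    (A.subgroupOf (Subgroup.normalizer (P : Set G))).map
        (QuotientGroup.mk' ((Subgroup.centralizer (P : Set G)).subgroupOf (Subgroup.normalizer (P : Set G))))
      ≤ Cfsg.pCore p _ := by
  rintro _ ⟨⟨g, hg⟩, hgA, rfl⟩
  rw [SetLike.mem_coe, Subgroup.mem_subgroupOf] at hgA
  apply hst P hP g hg
  rw [eq_bot_iff, ← hquad]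
  have hz : Subgroup.zpowers g ≤ A := by rw [Subgroup.zpowers_le]; exact hgA
  exact Subgroup.commutator_mono (Subgroup.commutator_mono le_rfl hz) hz

theorem isPStable_of_free [Finite G] {p : ℕ} [hp : Fact p.Prime] (hp2 : p ≠ 2)
    (hfree : SL2Free p G) (hO : Cfsg.pCore p G ≠ ⊥) : Cfsg.IsPStable p G := by
  refine ⟨hp.out.odd_of_ne_two hp2, hO, ?_⟩
  intro A P _ hP _ _ _ hquad
  exact map_le_pCore_of_isNormalizerPStable (isNormalizerPStable_of_free hp2 hfree) P A hP hquad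

theorem s0657 [Finite G] {p : ℕ} [hp : Fact p.Prime] (hp2 : p ≠ 2)
    (hO : Cfsg.pPrimeCore p G < Cfsg.pPrimePCore p G)
    (hns : ¬ Cfsg.IsPStable p (G ⧸ Cfsg.pPrimeCore p G)) :
    ∃ (K L : Subgroup G) (hL : (L.subgroupOf K).Normal), K ≤ ⊤ ∧
      Nonempty ((K ⧸ L.subgroupOf K) ≃* Matrix.SpecialLinearGroup (Fin 2) (ZMod p)) := by
  by_contra hcon
  apply hns
  have hfree : SL2Free p G := by
    rintro ⟨K, L, hL, he⟩
    exact hcon ⟨K, L, hL, le_top, he⟩
  apply isPStable_of_free hp2 (hfree.quotient _)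
  intro hbot
  apply hO.ne
  apply le_antisymm hO.le
  intro x hx
  unfold Cfsg.pPrimePCore at hx
  rw [Subgroup.mem_comap, hbot, Subgroup.mem_bot, QuotientGroup.mk'_apply,
    QuotientGroup.eq_one_iff] at hx
  exact hx

end Cfsg.Agent.Lib.Helper1.FreeStable
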