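import Mathlib
import Cfsg.Agent.Lib.Helper1.FrobeniusCount
set_option autoImplicit false
universe u v
open scoped Pointwise
namespace Cfsg.Agent.Lib.Helper1
variable {G : Type u} [Group G]

theorem smul_mk_eq_iff {H : Subgroup G} (x a : G) :
    x • (QuotientGroup.mk a : G ⧸ H) = QuotientGroup.mk a ↔ a⁻¹ * x * a ∈ H := by
  have h1 : x • (QuotientGroup.mk a : G ⧸ H) = QuotientGroup.mk (x * a) := rfl
  rw [h1, QuotientGroup.eq]
  have e : a⁻¹ * x * a = ((x * a)⁻¹ * a)⁻¹ := by group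
  rw [e, inv_mem_iff]

/-- A nonidentity element fixes at most one coset of a Frobenius complement. -/
theorem frobenius_fixed_unique {H : Subgroup G} (hH : Cfsg.IsFrobeniusComplement H) {x : G}
    (hx : x ≠ 1) {q r : G ⧸ H} (hq : x • q = q) (hr : x • r = r) : q = r := by
  obtain ⟨a, rfl⟩ := QuotientGroup.mk_surjective q
  obtain ⟨b, rfl⟩ := QuotientGroup.mk_surjective r
  rw [smul_mk_eq_iff] at hq hr
  have hne : a⁻¹ * x * a ≠ 1 := by
    intro h
    apply hx
    have : x = a * (a⁻¹ * x * a) * a⁻¹ := by group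
    rw [this, h]; group
  have := frobenius_mem_of_conj_mem hH hq hne (g := a⁻¹ * b) (by convert hr using 1; group)
  exact QuotientGroup.eq.mpr this

theorem frobenius_complement_dominance [Finite G] (H : Subgroup G)
    (hH : Cfsg.IsFrobeniusComplement H) (L : Subgroup G) (hL : Nat.card L ∣ Nat.card H) :
    ∃ x : G, L ≤ MulAut.conj x • H := by
  by_cases hL1 : Nat.card L = 1
  · rw [Subgroup.card_eq_one] at hL1
    exact ⟨1, by rw [hL1]; exact bot_le⟩
  have hL2 : 2 ≤ Nat.card L := by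
    have : 0 < Nat.card L := Nat.card_pos
    omega
  obtain ⟨P, hP⟩ : ∃ P : Set (G ⧸ H), P = {q | ∃ l : L, l ≠ 1 ∧ l • q = q} := ⟨_, rfl⟩
  let F : SubMulAction L (G ⧸ H) :=
    { carrier := Pᶜ
      smul_mem' := by
        intro m q hq hmq
        apply hq
        rw [hP] at hmq ⊢
        obtain ⟨l, hl1, hl⟩ := hmq
        refine ⟨m⁻¹ * l * m, ?_, ?_⟩
        · intro h
          apply hl1
          have : l = m * (m⁻¹ * l * m) * m⁻¹ := by group
          rw [this, h]; group
        · rw [mul_smul, mul_smul, hl, inv_smul_smul] }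
  have hfree : ∀ b : F, MulAction.stabilizer L b = ⊥ := by
    rintro ⟨q, hq⟩
    rw [eq_bot_iff]
    intro l hl
    rw [Subgroup.mem_bot]
    by_contra hne
    apply hq
    rw [hP]
    refine ⟨l, hne, ?_⟩
    have := MulAction.mem_stabilizer_iff.mp hl
    exact congrArg Subtype.val this
  have e := MulAction.selfEquivOrbitsQuotientProd hfree
  have hcard := Nat.card_congr e
  rw [Nat.card_prod] at hcard
  have hFc : Nat.card F = (Pᶜ : Set (G ⧸ H)).ncard := by
    rw [← Nat.card_coe_set_eq]; rfl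
  have hsum := Set.ncard_add_ncard_compl P (Set.toFinite _) (Set.toFinite _)
  have hidx : Nat.card (G ⧸ H) = H.index := rfl
  have hmod : H.index ≡ 1 [MOD Nat.card L] :=
    Nat.ModEq.of_dvd hL (index_mod_card_of_frobenius hH)
  -- |P| ≤ |L| - 1
  have hPle : P.ncard ≤ Nat.card L - 1 := by
    rw [← card_subtype_ne' (α := L) 1, ← Nat.card_coe_set_eq]
    have hex : ∀ q : P, ∃ l : L, l ≠ 1 ∧ l • (q : G ⧸ H) = q := by
      rintro ⟨q, hq⟩
      rw [hP] at hq
      exact hq
    choose f hf1 hf2 using hex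
    apply Nat.card_le_card_of_injective (fun q => (⟨f q, hf1 q⟩ : {l : L // l ≠ 1}))
    intro q r hqr
    have hqr' : f q = f r := congrArg Subtype.val hqr
    apply Subtype.ext
    have hx : ((f q : L) : G) ≠ 1 := fun h => hf1 q (Subtype.ext h)
    refine frobenius_fixed_unique hH hx (hf2 q) ?_
    rw [hqr']
    exact hf2 r
  have hP1 : P.ncard = 1 := by
    have h1 : P.ncard + Nat.card (Quotient (MulAction.orbitRel L F)) * Nat.card L = H.index := by
      rw [← hcard, hFc, hsum, hidx]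
    have h2 : P.ncard ≡ 1 [MOD Nat.card L] := by
      have : P.ncard + Nat.card (Quotient (MulAction.orbitRel L F)) * Nat.card L ≡ P.ncard [MOD Nat.card L] := by
        unfold Nat.ModEq
        rw [Nat.add_mul_mod_self_right]
      exact (this.symm.trans (h1 ▸ hmod))
    unfold Nat.ModEq at h2
    rw [Nat.mod_eq_of_lt (by omega), Nat.mod_eq_of_lt (by omega)] at h2
    exact h2
  obtain ⟨ω, hω⟩ := Set.ncard_eq_one.mp hP1
  obtain ⟨g, rfl⟩ := QuotientGroup.mk_surjective ω
  refine ⟨g, ?_⟩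
  intro l hl
  rw [mem_conj_smul_iff', ← smul_mk_eq_iff]
  have hmem : (QuotientGroup.mk g : G ⧸ H) ∈ P := by rw [hω]; rfl
  have hmem2 : l • (QuotientGroup.mk g : G ⧸ H) ∈ P := by
    rw [hP] at hmem ⊢
    obtain ⟨m, hm1, hm⟩ := hmem
    refine ⟨⟨l, hl⟩ * m * ⟨l, hl⟩⁻¹, ?_, ?_⟩
    · intro h
      apply hm1
      have : m = (⟨l, hl⟩ : L)⁻¹ * (⟨l, hl⟩ * m * ⟨l, hl⟩⁻¹) * ⟨l, hl⟩ := by group
      rw [this, h]; group
    · have e : l • (QuotientGroup.mk g : G ⧸ H) = (⟨l, hl⟩ : L) • (QuotientGroup.mk g : G ⧸ H) := rfl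
      rw [e, mul_smul, mul_smul, inv_smul_smul, hm]
  rw [hω] at hmem2
  exact hmem2

end Cfsg.Agent.Lib.Helper1
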