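import Mathlib
import Cfsg.Prelude.Def_Solvable
import Cfsg.Agent.Lib.Helper1.FrobeniusCount
open Pointwise

set_option autoImplicit false

namespace Cfsg.Agent.Lib.Helper1

universe u

variable {G : Type u} [Group G]

theorem invol_inv_eq {t : G} (ht2 : t * t = 1) : t⁻¹ = t := inv_eq_of_mul_eq_one_right ht2

theorem conj_invol_mul_self {t : G} (ht2 : t * t = 1) (g : G) :
    (g * t * g⁻¹) * (g * t * g⁻¹) = 1 := by
  calc (g * t * g⁻¹) * (g * t * g⁻¹) = g * (t * t) * g⁻¹ := by group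
    _ = 1 := by rw [ht2]; group

/-- two involutions invert their product -/
theorem invol_inverts_mul_left {t s : G} (ht2 : t * t = 1) (hs2 : s * s = 1) :
    t * (t * s) * t⁻¹ = (t * s)⁻¹ := by
  rw [invol_inv_eq ht2, mul_inv_rev, invol_inv_eq ht2, invol_inv_eq hs2]
  calc t * (t * s) * t = (t * t) * s * t := by group
    _ = s * t := by rw [ht2, one_mul]

theorem invol_inverts_mul_right {t s : G} (ht2 : t * t = 1) (hs2 : s * s = 1) :
    s * (t * s) * s⁻¹ = (t * s)⁻¹ := by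
  rw [invol_inv_eq hs2, mul_inv_rev, invol_inv_eq ht2, invol_inv_eq hs2]
  calc s * (t * s) * s = s * t * (s * s) := by group
    _ = s * t := by rw [hs2, mul_one]

theorem frobenius_mem_of_conj_mem' {H : Subgroup G} (hH : Cfsg.IsFrobeniusComplement H)
    {g h : G} (hh : h ∈ H) (hh1 : h ≠ 1) (hg : g * h * g⁻¹ ∈ H) : g ∈ H := by
  have : g⁻¹ ∈ H := by
    apply frobenius_mem_of_conj_mem hH hh hh1
    rwa [inv_inv]
  simpa using H.inv_mem this

theorem frobenius_invol_mul_conj_mem {H : Subgroup G} (hH : Cfsg.IsFrobeniusComplement H)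
    {t : G} (ht : t ∈ H) (ht1 : t ≠ 1) (ht2 : t * t = 1) {g : G} (hg : g ∉ H) :
    t * (g * t * g⁻¹) ∈ Cfsg.frobeniusKernel H := by
  set s := g * t * g⁻¹ with hsdef
  have hs2 : s * s = 1 := conj_invol_mul_self ht2 g
  by_cases hw1 : t * s = 1
  · left; exact hw1
  right
  intro x hx
  have h1 : t ∈ MulAut.conj x • H :=
    frobenius_mem_of_inverts hH hx hw1 (invol_inverts_mul_left ht2 hs2)
  have h2 : s ∈ MulAut.conj x • H :=
    frobenius_mem_of_inverts hH hx hw1 (invol_inverts_mul_right ht2 hs2)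
  rw [mem_conj_smul_iff'] at h1 h2
  have hxH : x ∈ H := frobenius_mem_of_conj_mem hH ht ht1 h1
  have hsH : s ∈ H := by
    have := H.mul_mem (H.mul_mem hxH h2) (H.inv_mem hxH)
    have e : x * (x⁻¹ * s * x) * x⁻¹ = s := by group
    rwa [e] at this
  exact hg (frobenius_mem_of_conj_mem' hH ht ht1 hsH)

theorem frobenius_invol_conj_inj {H : Subgroup G} (hH : Cfsg.IsFrobeniusComplement H)
    {t : G} (ht : t ∈ H) (ht1 : t ≠ 1) {g g' : G}
    (h : g * t * g⁻¹ = g' * t * g'⁻¹) : g'⁻¹ * g ∈ H := by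
  apply frobenius_mem_of_conj_mem' hH ht ht1
  have e : g'⁻¹ * g * t * (g'⁻¹ * g)⁻¹ = g'⁻¹ * (g * t * g⁻¹) * g' := by group
  rw [e, h]
  have e2 : g'⁻¹ * (g' * t * g'⁻¹) * g' = t := by group
  rw [e2]; exact ht

/-- Every element of the Frobenius kernel is `t * t^g` for a fixed involution `t ∈ H`. -/
theorem frobeniusKernel_eq_invol_mul_conj [Finite G] {H : Subgroup G}
    (hH : Cfsg.IsFrobeniusComplement H)
    {t : G} (ht : t ∈ H) (ht1 : t ≠ 1) (ht2 : t * t = 1) {k : G}
    (hk : k ∈ Cfsg.frobeniusKernel H) : ∃ g : G, k = t * (g * t * g⁻¹) := by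
  classical
  have hout : ∀ q : G ⧸ H, q ≠ QuotientGroup.mk 1 → q.out ∉ H := by
    intro q hq hmem
    apply hq
    rw [← QuotientGroup.out_eq' q, QuotientGroup.eq]
    simpa using H.inv_mem hmem
  let f : G ⧸ H → Cfsg.frobeniusKernel H := fun q =>
    if hq : q = QuotientGroup.mk 1 then ⟨1, Or.inl rfl⟩
    else ⟨t * (q.out * t * q.out⁻¹), frobenius_invol_mul_conj_mem hH ht ht1 ht2 (hout q hq)⟩
  have hne : ∀ g : G, g ∉ H → t * (g * t * g⁻¹) ≠ 1 := by
    intro g hg h
    apply hg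
    have h1 : g * t * g⁻¹ = t := by
      have := eq_inv_of_mul_eq_one_right h
      rw [this, invol_inv_eq ht2]
    apply frobenius_mem_of_conj_mem' hH ht ht1
    rw [h1]; exact ht
  have hinj : Function.Injective f := by
    intro q q' hqq
    by_cases hq : q = QuotientGroup.mk 1 <;> by_cases hq' : q' = QuotientGroup.mk 1
    · rw [hq, hq']
    · exfalso
      simp only [f, dif_pos hq, dif_neg hq'] at hqq
      have := congrArg Subtype.val hqq
      exact hne _ (hout q' hq') this.symm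
    · exfalso
      simp only [f, dif_pos hq', dif_neg hq] at hqq
      have := congrArg Subtype.val hqq
      exact hne _ (hout q hq) this
    · simp only [f, dif_neg hq', dif_neg hq] at hqq
      have h1 := congrArg Subtype.val hqq
      simp only at h1
      have h2 := mul_left_cancel h1
      have h3 := frobenius_invol_conj_inj hH ht ht1 h2
      rw [← QuotientGroup.out_eq' q, ← QuotientGroup.out_eq' q']
      exact (QuotientGroup.eq.mpr h3).symm
  have hcard : Nat.card (Cfsg.frobeniusKernel H) ≤ Nat.card (G ⧸ H) := by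
    rw [card_frobeniusKernel hH]; exact le_of_eq rfl
  have hbij := hinj.bijective_of_nat_card_le hcard
  obtain ⟨q, hq⟩ := hbij.2 ⟨k, hk⟩
  by_cases hq1 : q = QuotientGroup.mk 1
  · simp only [f, dif_pos hq1] at hq
    have := congrArg Subtype.val hq
    simp only at this
    refine ⟨1, ?_⟩
    rw [← this]; simp [ht2]
  · simp only [f, dif_neg hq1] at hq
    have := congrArg Subtype.val hq
    exact ⟨q.out, this.symm⟩


/-- `t` inverts every element of the kernel. -/
theorem frobeniusKernel_invol_inverts [Finite G] {H : Subgroup G}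
    (hH : Cfsg.IsFrobeniusComplement H)
    {t : G} (ht : t ∈ H) (ht1 : t ≠ 1) (ht2 : t * t = 1) {k : G}
    (hk : k ∈ Cfsg.frobeniusKernel H) : t * k * t⁻¹ = k⁻¹ := by
  obtain ⟨g, rfl⟩ := frobeniusKernel_eq_invol_mul_conj hH ht ht1 ht2 hk
  exact invol_inverts_mul_left ht2 (conj_invol_mul_self ht2 g)

/-- every conjugate of `t` inverts every element of the kernel. -/
theorem frobeniusKernel_conj_invol_inverts [Finite G] {H : Subgroup G}
    (hH : Cfsg.IsFrobeniusComplement H)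
    {t : G} (ht : t ∈ H) (ht1 : t ≠ 1) (ht2 : t * t = 1) {k : G}
    (hk : k ∈ Cfsg.frobeniusKernel H) (x : G) :
    (x * t * x⁻¹) * k * (x * t * x⁻¹)⁻¹ = k⁻¹ := by
  have h1 : x⁻¹ * k * x ∈ Cfsg.frobeniusKernel H := by
    have := frobeniusKernel_conj_mem hk x⁻¹
    rwa [inv_inv] at this
  have h2 := frobeniusKernel_invol_inverts hH ht ht1 ht2 h1
  calc (x * t * x⁻¹) * k * (x * t * x⁻¹)⁻¹ = x * (t * (x⁻¹ * k * x) * t⁻¹) * x⁻¹ := by group
    _ = x * (x⁻¹ * k * x)⁻¹ * x⁻¹ := by rw [h2]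
    _ = k⁻¹ := by group

theorem frobeniusKernel_commute [Finite G] {H : Subgroup G}
    (hH : Cfsg.IsFrobeniusComplement H)
    {t : G} (ht : t ∈ H) (ht1 : t ≠ 1) (ht2 : t * t = 1) {k k' : G}
    (hk : k ∈ Cfsg.frobeniusKernel H) (hk' : k' ∈ Cfsg.frobeniusKernel H) :
    k * k' = k' * k := by
  obtain ⟨g, rfl⟩ := frobeniusKernel_eq_invol_mul_conj hH ht ht1 ht2 hk
  have h1 := frobeniusKernel_conj_invol_inverts hH ht ht1 ht2 hk' g
  have h2 := frobeniusKernel_invol_inverts hH ht ht1 ht2 (frobeniusKernel_inv_mem hk')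
  rw [inv_inv] at h2
  set s := g * t * g⁻¹ with hs
  -- t s k' s⁻¹ t⁻¹ = k'
  have h3 : t * s * k' * (t * s)⁻¹ = k' := by
    calc t * s * k' * (t * s)⁻¹ = t * (s * k' * s⁻¹) * t⁻¹ := by group
      _ = t * k'⁻¹ * t⁻¹ := by rw [h1]
      _ = k' := h2
  calc t * s * k' = t * s * k' * (t * s)⁻¹ * (t * s) := by group
    _ = k' * (t * s) := by rw [h3]

theorem frobeniusKernel_mul_mem [Finite G] {H : Subgroup G}
    (hH : Cfsg.IsFrobeniusComplement H)
    {t : G} (ht : t ∈ H) (ht1 : t ≠ 1) (ht2 : t * t = 1) {k k' : G}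
    (hk : k ∈ Cfsg.frobeniusKernel H) (hk' : k' ∈ Cfsg.frobeniusKernel H) :
    k * k' ∈ Cfsg.frobeniusKernel H := by
  by_cases hw1 : k * k' = 1
  · left; exact hw1
  right
  intro x hx
  -- every conjugate of t inverts k * k'
  have hinv : ∀ y : G, (y * t * y⁻¹) * (k * k') * (y * t * y⁻¹)⁻¹ = (k * k')⁻¹ := by
    intro y
    have h1 := frobeniusKernel_conj_invol_inverts hH ht ht1 ht2 hk y
    have h2 := frobeniusKernel_conj_invol_inverts hH ht ht1 ht2 hk' y
    set s := y * t * y⁻¹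
    have hc : k⁻¹ * k'⁻¹ = k'⁻¹ * k⁻¹ :=
      frobeniusKernel_commute hH ht ht1 ht2 (frobeniusKernel_inv_mem hk)
        (frobeniusKernel_inv_mem hk')
    calc s * (k * k') * s⁻¹ = (s * k * s⁻¹) * (s * k' * s⁻¹) := by group
      _ = k⁻¹ * k'⁻¹ := by rw [h1, h2]
      _ = k'⁻¹ * k⁻¹ := hc
      _ = (k * k')⁻¹ := by rw [mul_inv_rev]
  have hall : ∀ y : G, y * t * y⁻¹ ∈ MulAut.conj x • H := fun y =>
    frobenius_mem_of_inverts hH hx hw1 (hinv y)
  have htx : t ∈ MulAut.conj x • H := by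
    have := hall 1
    simpa using this
  rw [mem_conj_smul_iff'] at htx
  have hxH : x ∈ H := frobenius_mem_of_conj_mem hH ht ht1 htx
  apply hH.2.1
  rw [eq_top_iff]
  intro y _
  apply frobenius_mem_of_conj_mem' hH ht ht1
  have h1 := hall y
  rw [mem_conj_smul_iff'] at h1
  have := H.mul_mem (H.mul_mem hxH h1) (H.inv_mem hxH)
  have e : x * (x⁻¹ * (y * t * y⁻¹) * x) * x⁻¹ = y * t * y⁻¹ := by group
  rwa [e] at this

end Cfsg.Agent.Lib.Helper1
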