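import Mathlib
import Cfsg.Prelude.Def_Local
import Cfsg.Agent.Lib.Helper1.Fsg1

set_option autoImplicit false
set_option maxHeartbeats 4000000
set_option maxRecDepth 100000
set_option linter.unusedVariables false
set_option linter.unusedSectionVars false
set_option linter.style.longLine false
set_option linter.unusedSimpArgs false
set_option linter.deprecated false
set_option linter.style.haveILetI false

/-!
# Two-generated Sylow subgroups with core-free Frattini subgroup, part 2 (helper1, for S4172)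
General lemmas.
-/

open scoped commutatorElement
universe u
namespace Cfsg.Agent.Lib.Helper1.Fsg

section General

variable {G : Type*} [Group G]

/-- conjugation-invariant subsets of a subgroup with trivial normal core are trivial -/
theorem eq_one_of_conj_invariant (H : Subgroup G) (hH : H.normalCore = ⊥) (S : Set G)
    (hS : ∀ s ∈ S, ∀ g : G, g * s * g⁻¹ ∈ S) (hsub : S ⊆ H) : ∀ s ∈ S, s = 1 := by
  have h1 : Subgroup.normalClosure S ≤ H := by
    unfold Subgroup.normalClosure
    rw [Subgroup.closure_le]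
    intro x hx
    obtain ⟨s, hs, hconj⟩ := Group.mem_conjugatesOfSet_iff.mp hx
    obtain ⟨c, hc⟩ := isConj_iff.mp hconj
    rw [← hc]
    exact hsub (hS s hs c)
  have h2 : Subgroup.normalClosure S ≤ H.normalCore := Subgroup.normal_le_normalCore.mpr h1
  intro s hs
  have h3 := h2 (Subgroup.subset_normalClosure hs)
  rw [hH] at h3
  exact Subgroup.mem_bot.mp h3

theorem map_conj_map_conj (x y : G) (A : Subgroup G) :
    (A.map (MulAut.conj y).toMonoidHom).map (MulAut.conj x).toMonoidHom =
      A.map (MulAut.conj (x * y)).toMonoidHom := by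
  rw [Subgroup.map_map]
  congr 1
  ext z
  simp [mul_assoc]

theorem map_conj_one (A : Subgroup G) : A.map (MulAut.conj (1 : G)).toMonoidHom = A := by
  ext z
  simp

theorem mem_map_conj {x z : G} {A : Subgroup G} :
    z ∈ A.map (MulAut.conj x).toMonoidHom ↔ x⁻¹ * z * x ∈ A := by
  constructor
  · rintro ⟨a, ha, rfl⟩
    have : x⁻¹ * ((MulAut.conj x).toMonoidHom a) * x = a := by
      show x⁻¹ * (x * a * x⁻¹) * x = a
      group
    rw [this]; exact ha
  · intro h
    refine ⟨x⁻¹ * z * x, h, ?_⟩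
    show x * (x⁻¹ * z * x) * x⁻¹ = z
    group

/-- conjugation by `x` preserves the join of an `x`-stable family of subgroups -/
theorem conj_mem_sSup (𝒮 : Set (Subgroup G)) (x : G)
    (h : ∀ A ∈ 𝒮, A.map (MulAut.conj x).toMonoidHom ∈ 𝒮) :
    ∀ y ∈ sSup 𝒮, x * y * x⁻¹ ∈ sSup 𝒮 := by
  have h1 : sSup 𝒮 ≤ (sSup 𝒮).comap (MulAut.conj x).toMonoidHom := by
    apply sSup_le
    intro A hA
    rw [← Subgroup.map_le_iff_le_comap]
    exact le_sSup (h A hA)
  intro y hy
  exact h1 hy

theorem le_normalizer_sSup (𝒮 : Set (Subgroup G)) (P : Subgroup G)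
    (h : ∀ A ∈ 𝒮, ∀ x ∈ P, A.map (MulAut.conj x).toMonoidHom ∈ 𝒮) :
    P ≤ Subgroup.normalizer ((sSup 𝒮 : Subgroup G) : Set G) := by
  intro x hx
  rw [Subgroup.mem_normalizer_iff]
  intro y
  constructor
  · intro hy
    exact conj_mem_sSup 𝒮 x (fun A hA => h A hA x hx) y hy
  · intro hy
    have h1 := conj_mem_sSup 𝒮 x⁻¹ (fun A hA => h A hA x⁻¹ (P.inv_mem hx)) _ hy
    have h2 : x⁻¹ * (x * y * x⁻¹) * x⁻¹⁻¹ = y := by group
    rwa [h2] at h1

theorem sSup_normal_of_conj_invariant (𝒮 : Set (Subgroup G))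
    (h : ∀ A ∈ 𝒮, ∀ x : G, A.map (MulAut.conj x).toMonoidHom ∈ 𝒮) : (sSup 𝒮).Normal := by
  constructor
  intro y hy x
  exact conj_mem_sSup 𝒮 x (fun A hA => h A hA x) y hy

/-- joins of elementwise commuting families commute -/
theorem commutator_sSup_eq_bot (𝒮 𝒯 : Set (Subgroup G))
    (h : ∀ A ∈ 𝒮, ∀ B ∈ 𝒯, ⁅A, B⁆ = ⊥) : ⁅sSup 𝒮, sSup 𝒯⁆ = ⊥ := by
  rw [Subgroup.commutator_eq_bot_iff_le_centralizer]
  apply sSup_le
  intro A hA
  rw [Subgroup.le_centralizer_iff]
  apply sSup_le
  intro B hB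
  rw [Subgroup.le_centralizer_iff, ← Subgroup.commutator_eq_bot_iff_le_centralizer]
  exact h A hA B hB

/-- the join of a pairwise commuting family of subgroups of order prime to `n` has order
prime to `n` -/
theorem coprime_card_sSup_of_commute [Finite G] (𝒮 : Set (Subgroup G))
    (hcomm : ∀ A ∈ 𝒮, ∀ B ∈ 𝒮, A ≠ B → ⁅A, B⁆ = ⊥) (n : ℕ)
    (hcop : ∀ A ∈ 𝒮, (Nat.card A).Coprime n) : (Nat.card ↥(sSup 𝒮)).Coprime n := by
  classical
  haveI : Fintype ↥𝒮 := Fintype.ofFinite _
  have hc : Pairwise fun i j : ↥𝒮 => ∀ x y : G, x ∈ (i : Subgroup G) → y ∈ (j : Subgroup G) →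
      Commute x y := by
    intro i j hij x y hx hy
    have hne : (i : Subgroup G) ≠ (j : Subgroup G) := fun h => hij (Subtype.ext h)
    have h1 := hcomm i i.2 j j.2 hne
    rw [Subgroup.commutator_eq_bot_iff_le_centralizer] at h1
    exact ((Subgroup.mem_centralizer_iff.mp (h1 hx)) y hy).symm
  have hrange : (Subgroup.noncommPiCoprod hc).range = sSup 𝒮 := by
    rw [Subgroup.noncommPiCoprod_range, sSup_eq_iSup']
  have hdvd : Nat.card ↥(sSup 𝒮) ∣ Nat.card (∀ i : ↥𝒮, ↥(i : Subgroup G)) := by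
    rw [← hrange]
    exact Subgroup.card_range_dvd _
  rw [Nat.card_pi] at hdvd
  apply Nat.Coprime.coprime_dvd_left hdvd
  apply Nat.Coprime.prod_left
  intro i _
  exact hcop i i.2

/-- the image of `P` in `G / F` is cyclic when `P ≤ F⟨z⟩` -/
theorem isCyclic_map_mk_of_le_sup (P F : Subgroup G) [hF : F.Normal] (z : G)
    (h : P ≤ F ⊔ Subgroup.zpowers z) : IsCyclic ↥(P.map (QuotientGroup.mk' F)) := by
  have h1 : P.map (QuotientGroup.mk' F) ≤ Subgroup.zpowers (QuotientGroup.mk' F z) := by
    refine (Subgroup.map_mono h).trans ?_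
    rw [Subgroup.map_sup, MonoidHom.map_zpowers, QuotientGroup.map_mk'_self, bot_sup_eq]
  exact Subgroup.isCyclic_of_le h1

/-- In a cyclic `p`-group, every element of order dividing `p` lies in every nontrivial
subgroup. -/
theorem mem_of_pow_prime_eq_one_of_isCyclic {C : Type*} [Group C] [IsCyclic C] [Finite C]
    (p : ℕ) [hp : Fact p.Prime] (hC : IsPGroup p C) (D : Subgroup C) (hD : D ≠ ⊥)
    (w : C) (hw : w ^ p = 1) : w ∈ D := by
  classical
  by_cases hw1 : w = 1
  · rw [hw1]; exact D.one_mem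
  letI : CommGroup C := IsCyclic.commGroup
  -- an element of order p in D
  have hDp : IsPGroup p ↥D := hC.to_subgroup D
  obtain ⟨b, hb⟩ := IsPGroup.iff_card.mp hDp
  have hb0 : b ≠ 0 := by
    intro hb0
    rw [hb0, pow_zero] at hb
    exact hD (Subgroup.card_eq_one.mp hb)
  have hdvd : p ∣ Nat.card ↥D := by rw [hb]; exact dvd_pow_self p hb0
  obtain ⟨u, hu⟩ := exists_prime_orderOf_dvd_card' p hdvd
  have hup : (u : C) ^ p = 1 := by
    have := pow_orderOf_eq_one u
    rw [hu] at this
    have h2 := congrArg Subtype.val this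
    simpa using h2
  have hu1 : (u : C) ≠ 1 := by
    intro h
    have : u = 1 := Subtype.ext h
    rw [this, orderOf_one] at hu
    exact hp.out.one_lt.ne hu
  -- the kernel of the p-th power map
  set K : Subgroup C := (powMonoidHom p : C →* C).ker with hK
  have hcardK : Nat.card K = (Nat.card C).gcd p := IsCyclic.card_powMonoidHom_ker C p
  have hwK : w ∈ K := by rw [hK, MonoidHom.mem_ker, powMonoidHom_apply]; exact hw
  have huK : (u : C) ∈ K := by rw [hK, MonoidHom.mem_ker, powMonoidHom_apply]; exact hup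
  have hKp : Nat.card K = p := by
    have h1 : Nat.card K ∣ p := by rw [hcardK]; exact Nat.gcd_dvd_right _ _
    rcases (Nat.dvd_prime hp.out).mp h1 with h2 | h2
    · exfalso
      have : K = ⊥ := Subgroup.card_eq_one.mp h2
      rw [this, Subgroup.mem_bot] at hwK
      exact hw1 hwK
    · exact h2
  have hgen : Subgroup.zpowers (⟨(u : C), huK⟩ : ↥K) = ⊤ :=
    zpowers_eq_top_of_prime_card hKp (fun h => hu1 (congrArg Subtype.val h))
  have hwm : (⟨w, hwK⟩ : ↥K) ∈ Subgroup.zpowers (⟨(u : C), huK⟩ : ↥K) := by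
    rw [hgen]; exact Subgroup.mem_top _
  obtain ⟨k, hk⟩ := Subgroup.mem_zpowers_iff.mp hwm
  have hk' : (u : C) ^ k = w := by
    have := congrArg Subtype.val hk
    simpa using this
  rw [← hk']
  exact D.zpow_mem u.2 k

end General

section WithCore

variable {G : Type*} [Group G] [Finite G] {p : ℕ} [hp : Fact p.Prime]

/-- With `O_{p'}(G) = 1`, a normal nilpotent subgroup is a `p`-group. -/
theorem isPGroup_of_normal_nilpotent (hcore : Cfsg.pPrimeCore p G = ⊥) (A : Subgroup G)
    [hA : A.Normal] (hnil : Group.IsNilpotent ↥A) : IsPGroup p ↥A := by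
  classical
  have hall : ∀ q : ℕ, q.Prime → q ∣ Nat.card ↥A → q = p := by
    intro q hq hqd
    by_contra hne
    haveI : Fact q.Prime := ⟨hq⟩
    obtain ⟨S⟩ : Nonempty (Sylow q ↥A) := inferInstance
    haveI hSn : (S : Subgroup ↥A).Normal :=
      (Group.isNilpotent_of_finite_tfae.out 0 3 rfl rfl).mp hnil q ⟨hq⟩ S
    haveI hSc : (S : Subgroup ↥A).Characteristic := Sylow.characteristic_of_normal S hSn
    haveI hSg : ((S : Subgroup ↥A).map A.subtype).Normal :=
      ConjAct.normal_of_characteristic_of_normal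
    obtain ⟨k, hk⟩ := IsPGroup.iff_card.mp S.isPGroup'
    have hle : (S : Subgroup ↥A).map A.subtype ≤ Cfsg.pPrimeCore p G := by
      apply le_sSup
      refine ⟨hSg, ?_⟩
      rw [Subgroup.card_map_of_injective (Subgroup.subtype_injective A), hk]
      apply Nat.Coprime.pow_left
      exact (Nat.coprime_primes hq hp.out).mpr hne
    rw [hcore, le_bot_iff, Subgroup.map_eq_bot_iff_of_injective _ (Subgroup.subtype_injective A)]
      at hle
    exact S.ne_bot_of_dvd_card hqd hle
  have hcard : Nat.card ↥A = p ^ (Nat.card ↥A).primeFactorsList.length :=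
    Nat.eq_prime_pow_of_unique_prime_dvd Nat.card_pos.ne' (fun {d} hd hdd => hall d hd hdd)
  exact IsPGroup.of_card hcard

/-- With `O_{p'}(G) = 1`, the Fitting subgroup lies in every Sylow `p`-subgroup. -/
theorem fitting_le_sylow (hcore : Cfsg.pPrimeCore p G = ⊥) (P : Sylow p G) :
    Cfsg.fittingSubgroup G ≤ P := by
  apply sSup_le
  rintro A ⟨hAn, hAnil⟩
  haveI := hAn
  exact le_sylow_of_normal_isPGroup P A (isPGroup_of_normal_nilpotent hcore A hAnil)

theorem fitting_normal : (Cfsg.fittingSubgroup G).Normal :=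
  Subgroup.sSup_normal _ (fun _ h => h.1)

/-- Tate's theorem for a subgroup `N` normalized by a Sylow `p`-subgroup. -/
theorem tate_sub (P : Sylow p G) (N : Subgroup G)
    (hPN : (P : Subgroup G) ≤ Subgroup.normalizer (N : Set G))
    (h : N ⊓ (P : Subgroup G) ≤ (frattini ↥(P : Subgroup G)).map (P : Subgroup G).subtype) :
    Cfsg.HasNormalPComplement p ↥N := by
  classical
  set Ga : Subgroup G := Subgroup.normalizer (N : Set G) with hGa
  have hNGa : N ≤ Ga := Subgroup.le_normalizer
  let P' : Sylow p ↥Ga := P.subtype hPN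
  have hP' : (P' : Subgroup ↥Ga) = (P : Subgroup G).subgroupOf Ga := Sylow.coe_subtype P hPN
  haveI hN' : (N.subgroupOf Ga).Normal := Subgroup.normal_in_normalizer
  obtain ⟨e, he⟩ : ∃ e : ↥(P' : Subgroup ↥Ga) ≃* ↥(P : Subgroup G),
      ∀ w : ↥(P' : Subgroup ↥Ga), ((e w : ↥(P : Subgroup G)) : G) = ((w : ↥Ga) : G) :=
    ⟨(MulEquiv.subgroupCongr hP').trans (Subgroup.subgroupOfEquivOfLe hPN), fun w => rfl⟩
  have hfr : ∀ w : ↥(P : Subgroup G), w ∈ frattini ↥(P : Subgroup G) →
      e.symm w ∈ frattini ↥(P' : Subgroup ↥Ga) := by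
    intro w hw
    have h1 := frattini_le_comap_frattini_of_surjective (φ := e.symm.toMonoidHom)
      e.symm.surjective
    exact h1 hw
  have h' : N.subgroupOf Ga ⊓ (P' : Subgroup ↥Ga) ≤
      (frattini ↥(P' : Subgroup ↥Ga)).map (P' : Subgroup ↥Ga).subtype := by
    intro y hy
    have hyN : (y : G) ∈ N := Subgroup.mem_subgroupOf.mp hy.1
    have hyP : (y : G) ∈ (P : Subgroup G) := by
      have h3 : y ∈ (P : Subgroup G).subgroupOf Ga := hP' ▸ hy.2
      exact Subgroup.mem_subgroupOf.mp h3
    obtain ⟨w, hw, hwy⟩ := h ⟨hyN, hyP⟩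
    refine ⟨e.symm w, hfr w hw, ?_⟩
    apply Subtype.ext
    have h2 := he (e.symm w)
    rw [MulEquiv.apply_symm_apply] at h2
    show (((e.symm w : ↥(P' : Subgroup ↥Ga)) : ↥Ga) : G) = (y : G)
    rw [← h2]
    exact hwy
  obtain ⟨R, M, hMn, hc⟩ := Tate.tate P' (N.subgroupOf Ga) h'
  -- transport along the isomorphism `N.subgroupOf Ga ≃* N`
  let f : ↥(N.subgroupOf Ga) ≃* ↥N := Subgroup.subgroupOfEquivOfLe hNGa
  let R₂ : Sylow p ↥N := R.comapOfInjective f.symm.toMonoidHom f.symm.injective
    (by rw [MonoidHom.range_eq_top.mpr f.symm.surjective]; exact le_top)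
  refine ⟨R₂, M.comap f.symm.toMonoidHom, ?_, ?_⟩
  · haveI := hMn
    exact Subgroup.Normal.comap hMn _
  · have hR₂ : (R₂ : Subgroup ↥N) = (R : Subgroup ↥(N.subgroupOf Ga)).comap f.symm.toMonoidHom :=
      Sylow.coe_comapOfInjective _ _ _ _
    rw [hR₂]
    -- complements transport along an isomorphism
    rw [Subgroup.isComplement'_iff_card_mul_and_disjoint]
    obtain ⟨hcm, hdj⟩ := Subgroup.isComplement'_iff_card_mul_and_disjoint.mp hc
    have hcardM : Nat.card ↥(M.comap f.symm.toMonoidHom) = Nat.card M := by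
      have : M.comap f.symm.toMonoidHom = M.map f.toMonoidHom := by
        ext x
        simp only [Subgroup.mem_comap, Subgroup.mem_map]
        constructor
        · intro hx
          exact ⟨f.symm x, hx, f.apply_symm_apply x⟩
        · rintro ⟨m, hm, rfl⟩
          show f.symm (f m) ∈ M
          rw [f.symm_apply_apply]; exact hm
      rw [this, Subgroup.card_map_of_injective f.injective]
    have hcardR : Nat.card ↥((R : Subgroup ↥(N.subgroupOf Ga)).comap f.symm.toMonoidHom) =
        Nat.card (R : Subgroup ↥(N.subgroupOf Ga)) := by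
      have : (R : Subgroup ↥(N.subgroupOf Ga)).comap f.symm.toMonoidHom =
          (R : Subgroup ↥(N.subgroupOf Ga)).map f.toMonoidHom := by
        ext x
        simp only [Subgroup.mem_comap, Subgroup.mem_map]
        constructor
        · intro hx
          exact ⟨f.symm x, hx, f.apply_symm_apply x⟩
        · rintro ⟨m, hm, rfl⟩
          show f.symm (f m) ∈ (R : Subgroup ↥(N.subgroupOf Ga))
          rw [f.symm_apply_apply]; exact hm
      rw [this, Subgroup.card_map_of_injective f.injective]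
    refine ⟨?_, ?_⟩
    · rw [hcardM, hcardR, hcm]
      exact Nat.card_congr f.toEquiv
    · rw [disjoint_iff, ← Subgroup.comap_inf, disjoint_iff.mp hdj]
      rw [eq_bot_iff]
      intro x hx
      rw [Subgroup.mem_comap, Subgroup.mem_bot] at hx
      rw [Subgroup.mem_bot]
      have := congrArg f hx
      rw [map_one] at this
      simpa using this

end WithCore

end Cfsg.Agent.Lib.Helper1.Fsg
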