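import Mathlib
import Cfsg.Prelude.Def_Local
import Cfsg.Agent.Lib.Helper1.Fsg2
import Cfsg.Agent.Lib.Helper1.FrattiniP
import Cfsg.Agent.Lib.Helper1.Gaschutz2
import Cfsg.Agent.Lib.Helper1.CentralExtension
import Cfsg.Agent.Lib.Helper1.SubnormalPCore
import Cfsg.Agent.Lib.Helper2.Components3

set_option autoImplicit false
set_option maxHeartbeats 4000000
set_option maxRecDepth 100000
set_option linter.unusedVariables false
set_option linter.unusedSectionVars false
set_option linter.style.longLine false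
set_option linter.unusedSimpArgs false
set_option linter.deprecated false
set_option linter.style.haveILetI false

/-!
# Two-generated Sylow subgroups with core-free Frattini subgroup, part 3 (helper1, for S4172)
The unique minimal normal subgroup and the identification `F*(G) = N₀`.
-/

open scoped commutatorElement
open Cfsg Cfsg.Agent.Lib.Helper2
universe u
namespace Cfsg.Agent.Lib.Helper1.Fsg

variable {G : Type*} [Group G] [Finite G] {p : ℕ} [hp : Fact p.Prime]

/-- the hypotheses of S4172 -/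
structure Hyp (p : ℕ) [Fact p.Prime] (P : Sylow p G) : Prop where
  hna : ¬ IsMulCommutative (P : Subgroup G)
  hgen : (frattini ↥(P : Subgroup G)).index = p ^ 2
  hcore : Cfsg.pPrimeCore p G = ⊥
  hfrat : ((frattini ↥(P : Subgroup G)).map (P : Subgroup G).subtype).normalCore = ⊥

theorem le_normalizer_of_normal (N P : Subgroup G) [hN : N.Normal] :
    P ≤ Subgroup.normalizer (N : Set G) := by
  intro x _
  rw [Subgroup.mem_normalizer_iff]
  intro y
  constructor
  · intro hy
    exact hN.conj_mem y hy x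
  · intro hy
    have h1 := hN.conj_mem _ hy x⁻¹
    have h2 : x⁻¹ * (x * y * x⁻¹) * x⁻¹⁻¹ = y := by group
    rwa [h2] at h1

variable {P : Sylow p G}

theorem Hyp.comm_le (h : Hyp p P) (N : Subgroup G) [hN : N.Normal] (hne : N ≠ ⊥) :
    ⁅(P : Subgroup G), (P : Subgroup G)⁆ ≤ N :=
  Fsg.comm_le p hp.out (P : Subgroup G) h.hgen N (le_normalizer_of_normal N _)
    (claim1 P h.hcore h.hfrat N hne)

theorem Hyp.not_comm (h : Hyp p P) : ⁅(P : Subgroup G), (P : Subgroup G)⁆ ≠ ⊥ := by
  intro hbot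
  apply h.hna
  refine ⟨⟨fun a b => ?_⟩⟩
  have h1 : ⁅(a : G), (b : G)⁆ ∈ ⁅(P : Subgroup G), (P : Subgroup G)⁆ :=
    Subgroup.commutator_mem_commutator a.2 b.2
  rw [hbot, Subgroup.mem_bot, commutatorElement_eq_one_iff_mul_comm] at h1
  exact Subtype.ext h1

/-- there is a unique minimal normal subgroup -/
theorem Hyp.exists_min_normal (h : Hyp p P) : ∃ N₀ : Subgroup G, N₀.Normal ∧ N₀ ≠ ⊥ ∧
    ∀ K : Subgroup G, K.Normal → K ≠ ⊥ → N₀ ≤ K := by
  classical
  have hpair : ∀ N₁ N₂ : Subgroup G, N₁.Normal → N₂.Normal → N₁ ≠ ⊥ → N₂ ≠ ⊥ →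
      N₁ ⊓ N₂ ≠ ⊥ := by
    intro N₁ N₂ h1 h2 hn1 hn2 hbot
    haveI := h1
    haveI := h2
    have c1 := h.comm_le N₁ hn1
    have c2 := h.comm_le N₂ hn2
    exact h.not_comm (le_bot_iff.mp (hbot ▸ le_inf c1 c2))
  have htop : (⊤ : Subgroup G) ≠ ⊥ := by
    intro htb
    apply h.not_comm
    rw [eq_bot_iff]
    intro x _
    have : x ∈ (⊤ : Subgroup G) := Subgroup.mem_top x
    rw [htb] at this
    exact this
  have hex : ∃ n, ∃ N : Subgroup G, N.Normal ∧ N ≠ ⊥ ∧ Nat.card N = n :=
    ⟨_, ⊤, inferInstance, htop, rfl⟩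
  obtain ⟨N, hNn, hNne, hNc⟩ := Nat.find_spec hex
  refine ⟨N, hNn, hNne, ?_⟩
  intro K hK hKne
  have h1 : N ⊓ K ≠ ⊥ := hpair N K hNn hK hNne hKne
  haveI := hNn
  haveI := hK
  have h2 : (N ⊓ K).Normal := inferInstance
  have h3 : Nat.find hex ≤ Nat.card ↥(N ⊓ K) := Nat.find_min' hex ⟨N ⊓ K, h2, h1, rfl⟩
  have h4 : N ⊓ K = N := Subgroup.eq_of_le_of_card_ge inf_le_left (hNc ▸ h3)
  rw [← h4]
  exact inf_le_right

theorem commutator_self_eq_bot_of_comm (N : Subgroup G) (hab : IsMulCommutative N) :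
    ⁅N, N⁆ = ⊥ := by
  rw [Subgroup.commutator_eq_bot_iff_le_centralizer]
  intro a ha
  rw [Subgroup.mem_centralizer_iff]
  intro b hb
  exact congrArg Subtype.val (hab.is_comm.comm ⟨b, hb⟩ ⟨a, ha⟩)

theorem isMulCommutative_of_le_centralizer (N : Subgroup G)
    (h : N ≤ Subgroup.centralizer (N : Set G)) : IsMulCommutative N := by
  refine ⟨⟨fun a b => ?_⟩⟩
  apply Subtype.ext
  have := Subgroup.mem_centralizer_iff.mp (h b.2) a a.2
  exact this

/-- Case A: the minimal normal subgroup is abelian. -/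
theorem Hyp.caseA (h : Hyp p P) (N₀ : Subgroup G) [hN₀ : N₀.Normal] (hne : N₀ ≠ ⊥)
    (hmin : ∀ K : Subgroup G, K.Normal → K ≠ ⊥ → N₀ ≤ K) (hab : IsMulCommutative N₀) :
    Cfsg.layer G = ⊥ ∧ Cfsg.fittingSubgroup G = N₀ := by
  classical
  have hpp := hp.out
  have hPg : IsPGroup p ↥(P : Subgroup G) := P.isPGroup'
  -- N₀ is nilpotent
  have hN₀nil : Group.IsNilpotent ↥N₀ := by
    letI : CommGroup ↥N₀ :=
      { (inferInstance : Group ↥N₀) with mul_comm := fun a b => hab.is_comm.comm a b }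
    exact CommGroup.isNilpotent
  have hN₀p : IsPGroup p ↥N₀ := isPGroup_of_normal_nilpotent h.hcore N₀ hN₀nil
  have hN₀P : N₀ ≤ (P : Subgroup G) := le_sylow_of_normal_isPGroup P N₀ hN₀p
  have hNN : ⁅N₀, N₀⁆ = ⊥ := commutator_self_eq_bot_of_comm N₀ hab
  have hcl := claim1 P h.hcore h.hfrat N₀ hne
  have hΦ1 : ∀ x : G, ∀ hx : x ∈ (P : Subgroup G),
      x ^ p ∈ (frattini ↥(P : Subgroup G)).map (P : Subgroup G).subtype := by
    intro x hx
    exact ⟨⟨x, hx⟩ ^ p, pow_prime_mem_frattini_of_isPGroup p hPg ⟨x, hx⟩, rfl⟩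
  have hΦ2 : ⁅(P : Subgroup G), (P : Subgroup G)⁆ ≤
      (frattini ↥(P : Subgroup G)).map (P : Subgroup G).subtype := by
    rw [← Subgroup.map_subtype_commutator]
    exact Subgroup.map_mono (commutator_le_frattini_of_isPGroup p hPg)
  constructor
  · -- the layer is trivial
    by_contra hE
    haveI hEn : (Cfsg.layer G).Normal := layer_normal
    have hN₀E : N₀ ≤ Cfsg.layer G := hmin _ hEn hE
    have hEc : Cfsg.layer G ≤ Subgroup.centralizer (N₀ : Set G) := by
      apply sSup_le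
      intro K hK
      rcases isComponent_le_or_commutator_eq_bot hK hN₀.isSubnormal with h1 | h1
      · exfalso
        apply isComponent_not_commutative hK
        rw [eq_bot_iff, ← hNN]
        exact Subgroup.commutator_mono h1 h1
      · rw [Subgroup.commutator_comm, Subgroup.commutator_eq_bot_iff_le_centralizer] at h1
        exact h1
    have hEperf : ⁅Cfsg.layer G, Cfsg.layer G⁆ = Cfsg.layer G := by
      apply le_antisymm
      · rw [Subgroup.commutator_le]
        intro a ha b hb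
        exact Subgroup.mul_mem _ (Subgroup.mul_mem _ (Subgroup.mul_mem _ ha hb)
          (Subgroup.inv_mem _ ha)) (Subgroup.inv_mem _ hb)
      · apply sSup_le
        intro K hK
        rw [← isComponent_perfect hK]
        exact Subgroup.commutator_mono (le_layer hK) (le_layer hK)
    haveI hEP : Group.IsPerfect ↥(Cfsg.layer G) := Subgroup.isPerfect_iff.mpr hEperf
    obtain ⟨R, hR⟩ := exists_sylow_subgroupOf P (Cfsg.layer G)
    have hRP : (R : Subgroup ↥(Cfsg.layer G)).map (Cfsg.layer G).subtype ≤ (P : Subgroup G) := by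
      rw [hR, Subgroup.subgroupOf_map_subtype]
      exact inf_le_left
    apply hcl
    refine inf_le_left.trans ?_
    refine le_trans ?_ hΦ2
    intro x hx
    have hxE : x ∈ Cfsg.layer G := hN₀E hx
    have h1 : (⟨x, hxE⟩ : ↥(Cfsg.layer G)) ∈ Subgroup.center ↥(Cfsg.layer G) := by
      rw [Subgroup.mem_center_iff]
      intro g
      apply Subtype.ext
      have := Subgroup.mem_centralizer_iff.mp (hEc g.2) x hx
      exact this.symm
    have h2 : (⟨x, hxE⟩ : ↥(Cfsg.layer G)) ∈ commutator ↥(Cfsg.layer G) := by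
      rw [hEP.commutator_eq_top]
      exact Subgroup.mem_top _
    have h3 : (⟨x, hxE⟩ : ↥(Cfsg.layer G)) ∈ (R : Subgroup ↥(Cfsg.layer G)) := by
      rw [hR, Subgroup.mem_subgroupOf]
      exact hN₀P hx
    have h4 := center_inf_commutator_inf_sylow_le R ⟨⟨h1, h2⟩, h3⟩
    have h5 : x ∈ (⁅(R : Subgroup ↥(Cfsg.layer G)), (R : Subgroup ↥(Cfsg.layer G))⁆).map
        (Cfsg.layer G).subtype := ⟨_, h4, rfl⟩
    rw [Subgroup.map_commutator] at h5
    exact Subgroup.commutator_mono hRP hRP h5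
  · -- the Fitting subgroup is N₀
    haveI hFn : (Cfsg.fittingSubgroup G).Normal := fitting_normal
    have hFP : Cfsg.fittingSubgroup G ≤ (P : Subgroup G) := fitting_le_sylow h.hcore P
    have hN₀F : N₀ ≤ Cfsg.fittingSubgroup G := le_sSup ⟨hN₀, hN₀nil⟩
    apply le_antisymm _ hN₀F
    -- F is elementary abelian
    have hFpow : ∀ x ∈ Cfsg.fittingSubgroup G, x ^ p = 1 := by
      intro x hx
      apply eq_one_of_conj_invariant _ h.hfrat {y | ∃ x ∈ Cfsg.fittingSubgroup G, y = x ^ p}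
      · rintro _ ⟨a, ha, rfl⟩ g
        exact ⟨g * a * g⁻¹, hFn.conj_mem a ha g, (conj_pow).symm⟩
      · rintro _ ⟨a, ha, rfl⟩
        exact hΦ1 a (hFP ha)
      · exact ⟨x, hx, rfl⟩
    have hFcomm : ∀ a ∈ Cfsg.fittingSubgroup G, ∀ b ∈ Cfsg.fittingSubgroup G, a * b = b * a := by
      intro a ha b hb
      have h1 : ⁅a, b⁆ = 1 := by
        apply eq_one_of_conj_invariant _ h.hfrat
          {y | ∃ a ∈ Cfsg.fittingSubgroup G, ∃ b ∈ Cfsg.fittingSubgroup G, y = ⁅a, b⁆}
        · rintro _ ⟨a, ha, b, hb, rfl⟩ g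
          refine ⟨g * a * g⁻¹, hFn.conj_mem a ha g, g * b * g⁻¹, hFn.conj_mem b hb g, ?_⟩
          exact map_commutatorElement (MulAut.conj g) a b
        · rintro _ ⟨a, ha, b, hb, rfl⟩
          exact hΦ2 (Subgroup.commutator_mem_commutator (hFP ha) (hFP hb))
        · exact ⟨a, ha, b, hb, rfl⟩
      exact commutatorElement_eq_one_iff_mul_comm.mp h1
    obtain ⟨z, hzP, hPz⟩ := two_gen_sub p hpp (P : Subgroup G) h.hgen N₀ hcl
    have hPz' : (P : Subgroup G) ≤ N₀ ⊔ Subgroup.zpowers z :=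
      hPz.trans (sup_le_sup_right inf_le_left _)
    have hzle : Subgroup.zpowers z ≤ (P : Subgroup G) := (Subgroup.zpowers_le).mpr hzP
    intro f hf
    by_cases hZ : Subgroup.zpowers z ⊓ N₀ = ⊥
    · -- Gaschütz
      haveI := hab
      obtain ⟨k, hk⟩ := IsPGroup.iff_card.mp hN₀p
      have hcop : (Nat.card ↥N₀).Coprime (P : Subgroup G).index := by
        rw [hk]
        apply Nat.Coprime.pow_left
        exact (Nat.Prime.coprime_iff_not_dvd hpp).mpr P.not_dvd_index
      have hU : N₀ ⊔ Subgroup.zpowers z = (P : Subgroup G) :=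
        le_antisymm (sup_le hN₀P hzle) hPz'
      obtain ⟨H, hH⟩ := Gaschutz.gaschutz_exists (K := N₀) (A := Subgroup.zpowers z)
        (P : Subgroup G) hcop hZ hU
      have hdecomp : ∀ g : G, ∃ n ∈ N₀, ∃ k ∈ H, n * k = g := by
        intro g
        have : g ∈ N₀ ⊔ H := by rw [hH.sup_eq_top]; exact Subgroup.mem_top g
        exact Subgroup.mem_sup_of_normal_left.mp this
      have hWn : (Cfsg.fittingSubgroup G ⊓ H).Normal := by
        constructor
        intro w hw g
        obtain ⟨n, hn, k, hk', rfl⟩ := hdecomp g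
        have hw' : k * w * k⁻¹ ∈ Cfsg.fittingSubgroup G ⊓ H :=
          ⟨hFn.conj_mem w hw.1 k, H.mul_mem (H.mul_mem hk' hw.2) (H.inv_mem hk')⟩
        have hc := hFcomm n (hN₀F hn) (k * w * k⁻¹) hw'.1
        have : n * k * w * (n * k)⁻¹ = k * w * k⁻¹ := by
          calc n * k * w * (n * k)⁻¹ = n * (k * w * k⁻¹) * n⁻¹ := by group
            _ = (k * w * k⁻¹) * n * n⁻¹ := by rw [hc]
            _ = k * w * k⁻¹ := by group
        rw [this]
        exact hw'
      have hWbot : Cfsg.fittingSubgroup G ⊓ H = ⊥ := by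
        by_contra hWne
        have h1 : N₀ ≤ Cfsg.fittingSubgroup G ⊓ H := hmin _ hWn hWne
        have h2 : N₀ ≤ N₀ ⊓ H := le_inf le_rfl (h1.trans inf_le_right)
        rw [disjoint_iff.mp hH.disjoint] at h2
        exact hne (le_bot_iff.mp h2)
      obtain ⟨n, hn, k, hk', rfl⟩ := hdecomp f
      have hkF : k ∈ Cfsg.fittingSubgroup G := by
        have : k = n⁻¹ * (n * k) := by group
        rw [this]
        exact Subgroup.mul_mem _ (Subgroup.inv_mem _ (hN₀F hn)) hf
      have hk1 : k ∈ Cfsg.fittingSubgroup G ⊓ H := ⟨hkF, hk'⟩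
      rw [hWbot, Subgroup.mem_bot] at hk1
      rw [hk1, mul_one]
      exact hn
    · -- ⟨z⟩ meets N₀ nontrivially
      have hfP : f ∈ N₀ ⊔ Subgroup.zpowers z := hPz' (hFP hf)
      obtain ⟨n, hn, w, hw, rfl⟩ := Subgroup.mem_sup_of_normal_left.mp hfP
      have hwF : w ∈ Cfsg.fittingSubgroup G := by
        have : w = n⁻¹ * (n * w) := by group
        rw [this]
        exact Subgroup.mul_mem _ (Subgroup.inv_mem _ (hN₀F hn)) hf
      have hwp : w ^ p = 1 := hFpow w hwF
      have hC : IsPGroup p ↥(Subgroup.zpowers z) := hPg.to_le hzle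
      have hD : N₀.subgroupOf (Subgroup.zpowers z) ≠ ⊥ := by
        rw [Ne, Subgroup.subgroupOf_eq_bot, disjoint_iff, inf_comm]
        exact hZ
      have h1 := mem_of_pow_prime_eq_one_of_isCyclic p hC (N₀.subgroupOf (Subgroup.zpowers z)) hD
        ⟨w, hw⟩ (Subtype.ext (by simpa using hwp))
      rw [Subgroup.mem_subgroupOf] at h1
      exact N₀.mul_mem hn h1

/-- Case B: the minimal normal subgroup is not abelian. -/
theorem Hyp.caseB (h : Hyp p P) (N₀ : Subgroup G) [hN₀ : N₀.Normal] (hne : N₀ ≠ ⊥)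
    (hmin : ∀ K : Subgroup G, K.Normal → K ≠ ⊥ → N₀ ≤ K) (hnab : ¬ IsMulCommutative N₀) :
    Cfsg.fittingSubgroup G = ⊥ ∧ Cfsg.layer G = N₀ ∧
      Subgroup.centralizer (N₀ : Set G) = ⊥ := by
  classical
  -- the centralizer of N₀ is trivial
  have hC : Subgroup.centralizer (N₀ : Set G) = ⊥ := by
    by_contra hCne
    have h1 : N₀ ≤ Subgroup.centralizer (N₀ : Set G) := hmin _ inferInstance hCne
    exact hnab (isMulCommutative_of_le_centralizer N₀ h1)
  -- normal nilpotent subgroups are trivial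
  have hnil : ∀ M : Subgroup G, M.Normal → Group.IsNilpotent ↥M → M = ⊥ := by
    intro M hMn hMnil
    by_contra hMne
    haveI := hMn
    haveI := hMnil
    haveI : Nontrivial ↥M := (Subgroup.nontrivial_iff_ne_bot M).mpr hMne
    have hZne : Subgroup.center ↥M ≠ ⊥ := Group.IsNilpotent.center_ne_bot ↥M
    haveI hZn : ((Subgroup.center ↥M).map M.subtype).Normal :=
      ConjAct.normal_of_characteristic_of_normal
    have hZne' : (Subgroup.center ↥M).map M.subtype ≠ ⊥ := by
      rw [Ne, Subgroup.map_eq_bot_iff_of_injective _ (Subgroup.subtype_injective M)]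
      exact hZne
    have h1 : N₀ ≤ (Subgroup.center ↥M).map M.subtype := hmin _ hZn hZne'
    apply hnab
    refine ⟨⟨fun a b => ?_⟩⟩
    apply Subtype.ext
    obtain ⟨a', ha', haa⟩ := h1 a.2
    obtain ⟨b', hb', hbb⟩ := h1 b.2
    have h2 : b' * a' = a' * b' := (Subgroup.mem_center_iff.mp ha') b'
    have h3 := congrArg Subtype.val h2
    simp only [Subgroup.coe_mul] at h3
    show (a : G) * (b : G) = (b : G) * (a : G)
    rw [← haa, ← hbb]
    exact h3.symm
  have hF : Cfsg.fittingSubgroup G = ⊥ := by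
    rw [eq_bot_iff]
    apply sSup_le
    rintro M ⟨hMn, hMnil⟩
    rw [hnil M hMn hMnil]
  -- every component lies in N₀
  have hcomp : ∀ K : Subgroup G, IsComponent K → K ≤ N₀ := by
    intro K hK
    rcases isComponent_le_or_commutator_eq_bot hK hN₀.isSubnormal with h1 | h1
    · exact h1
    · exfalso
      rw [Subgroup.commutator_comm, Subgroup.commutator_eq_bot_iff_le_centralizer, hC] at h1
      exact isComponent_ne_bot hK (le_bot_iff.mp h1)
  -- a component exists
  obtain ⟨T, hTN, hTsn, hTs⟩ := exists_simple_subnormal_le N₀ hN₀.isSubnormal hne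
  have hTna : ¬ ∀ a b : ↥T, a * b = b * a := by
    intro hcomm
    haveI : IsMulCommutative ↥T := ⟨⟨hcomm⟩⟩
    haveI := hTs
    have hq : (Nat.card ↥T).Prime := Group.is_simple_iff_prime_card.mp hTs
    haveI : Fact (Nat.card ↥T).Prime := ⟨hq⟩
    have hTp : IsPGroup (Nat.card ↥T) ↥T := IsPGroup.of_card (n := 1) (by rw [pow_one])
    have h1 : T ≤ Cfsg.pCore (Nat.card ↥T) G := le_pCore_of_isSubnormal_of_isPGroup hTsn hTp
    have h2 : Cfsg.pCore (Nat.card ↥T) G = ⊥ := by
      rw [eq_bot_iff]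
      apply sSup_le
      rintro M ⟨hMn, hMp⟩
      rw [hnil M hMn hMp.isNilpotent]
    rw [h2, le_bot_iff] at h1
    rw [h1] at hq
    simp at hq
    exact Nat.not_prime_one hq
  have hTcomp : IsComponent T := ⟨hTsn, isQuasisimple_of_simple hTna⟩
  haveI hEn : (Cfsg.layer G).Normal := layer_normal
  have hEne : Cfsg.layer G ≠ ⊥ := by
    intro hE
    have := le_layer hTcomp
    rw [hE, le_bot_iff] at this
    exact isComponent_ne_bot hTcomp this
  refine ⟨hF, le_antisymm (sSup_le fun K hK => hcomp K hK) (hmin _ hEn hEne), hC⟩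

end Cfsg.Agent.Lib.Helper1.Fsg
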