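import Mathlib
import Cfsg.Prelude.Def_Local
import Cfsg.Agent.Lib.Helper1.Fsg3

set_option autoImplicit false
set_option maxHeartbeats 4000000
set_option maxRecDepth 100000
set_option linter.unusedVariables false
set_option linter.unusedSectionVars false
set_option linter.style.longLine false
set_option linter.unusedSimpArgs false
set_option linter.deprecated false
set_option linter.style.haveILetI false

/-!
# Two-generated Sylow subgroups with core-free Frattini subgroup, part 4 (helper1, for S4172)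
Transitivity of `P` on the components.
-/

open scoped commutatorElement
open Cfsg Cfsg.Agent.Lib.Helper2
universe u
namespace Cfsg.Agent.Lib.Helper1.Fsg

variable {G : Type*} [Group G] [Finite G] {p : ℕ} [hp : Fact p.Prime] {P : Sylow p G}

/-- A nonempty `P`-stable family of components cannot generate a subgroup meeting `P` inside
`Φ(P)`. -/
theorem Hyp.no_small (h : Hyp p P) (𝒮 : Set (Subgroup G)) (h𝒮 : ∀ A ∈ 𝒮, IsComponent A)
    (hne : 𝒮.Nonempty)
    (hst : ∀ A ∈ 𝒮, ∀ x ∈ (P : Subgroup G), A.map (MulAut.conj x).toMonoidHom ∈ 𝒮)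
    (hsm : sSup 𝒮 ⊓ (P : Subgroup G) ≤
      (frattini ↥(P : Subgroup G)).map (P : Subgroup G).subtype) : False := by
  classical
  have hpp := hp.out
  obtain ⟨N, hN⟩ : ∃ N : Subgroup G, N = sSup 𝒮 := ⟨_, rfl⟩
  rw [← hN] at hsm
  have hPN : (P : Subgroup G) ≤ Subgroup.normalizer (N : Set G) := by
    rw [hN]
    exact le_normalizer_sSup 𝒮 (P : Subgroup G) hst
  obtain ⟨R, M, hMn, hc⟩ := tate_sub P N hPN hsm
  haveI := hMn
  -- N is perfect
  have hNperf : ⁅N, N⁆ = N := by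
    apply le_antisymm
    · rw [Subgroup.commutator_le]
      intro a ha b hb
      exact Subgroup.mul_mem _ (Subgroup.mul_mem _ (Subgroup.mul_mem _ ha hb)
        (Subgroup.inv_mem _ ha)) (Subgroup.inv_mem _ hb)
    · rw [hN]
      apply sSup_le
      intro K hK
      rw [← isComponent_perfect (h𝒮 K hK)]
      exact Subgroup.commutator_mono (le_sSup hK) (le_sSup hK)
  haveI hNP : Group.IsPerfect ↥N := Subgroup.isPerfect_iff.mpr hNperf
  -- the quotient by the normal p-complement is a perfect p-group, hence trivial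
  have hidx : M.index = Nat.card (R : Subgroup ↥N) := hc.symm.index_eq_card
  obtain ⟨k, hk⟩ := IsPGroup.iff_card.mp R.isPGroup'
  have hQp : IsPGroup p (↥N ⧸ M) := by
    apply IsPGroup.of_card (n := k)
    rw [← Subgroup.index_eq_card, hidx, hk]
  have hsub : Subsingleton (↥N ⧸ M) := by
    by_contra hns
    rw [not_subsingleton_iff_nontrivial] at hns
    haveI := hns
    exact Group.IsPerfect.not_isNilpotent (↥N ⧸ M) hQp.isNilpotent
  have hidx1 : M.index = 1 := by
    rw [Subgroup.index_eq_card]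
    exact Nat.card_of_subsingleton (1 : ↥N ⧸ M)
  have hRbot : (R : Subgroup ↥N) = ⊥ := by
    rw [← Subgroup.card_eq_one, ← hidx, hidx1]
  have hnd : ¬ p ∣ Nat.card ↥N := fun hd => R.ne_bot_of_dvd_card hd hRbot
  -- pick a component of order prime to p
  obtain ⟨X, hX⟩ := hne
  have hXc : IsComponent X := h𝒮 X hX
  have hXN : X ≤ N := hN ▸ le_sSup hX
  have hcopX : (Nat.card ↥X).Coprime p := by
    rw [Nat.coprime_comm, hpp.coprime_iff_not_dvd]
    intro hd
    exact hnd (hd.trans (Subgroup.card_dvd_of_le hXN))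
  -- the normal closure of X is a normal p'-subgroup
  set 𝒟 : Set (Subgroup G) := {A | ∃ g : G, A = X.map (MulAut.conj g).toMonoidHom} with h𝒟
  have h𝒟c : ∀ A ∈ 𝒟, IsComponent A := by
    rintro A ⟨g, rfl⟩
    exact isComponent_conj g hXc
  have hDn : (sSup 𝒟).Normal := by
    apply sSup_normal_of_conj_invariant
    rintro A ⟨g, rfl⟩ x
    exact ⟨x * g, map_conj_map_conj x g X⟩
  have hDcop : (Nat.card ↥(sSup 𝒟)).Coprime p := by
    apply coprime_card_sSup_of_commute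
    · intro A hA B hB hAB
      rcases isComponent_eq_or_commutator_eq_bot (h𝒟c A hA) (h𝒟c B hB) with h1 | h1
      · exact absurd h1 hAB
      · exact h1
    · rintro A ⟨g, rfl⟩
      rw [Subgroup.card_map_of_injective (MulAut.conj g).injective]
      exact hcopX
  have hDle : sSup 𝒟 ≤ Cfsg.pPrimeCore p G := le_sSup ⟨hDn, hDcop⟩
  rw [h.hcore, le_bot_iff] at hDle
  have hXD : X ≤ sSup 𝒟 := le_sSup ⟨1, (map_conj_one X).symm⟩
  rw [hDle, le_bot_iff] at hXD
  exact isComponent_ne_bot hXc hXD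

/-- `P` permutes the components transitively (case B). -/
theorem Hyp.transitive (h : Hyp p P) (N₀ : Subgroup G)
    (hL : Cfsg.layer G = N₀) (hC : Subgroup.centralizer (N₀ : Set G) = ⊥)
    (K L : Subgroup G) (hK : IsComponent K) (hLc : IsComponent L) :
    ∃ x ∈ (P : Subgroup G), L = K.map (MulAut.conj x).toMonoidHom := by
  classical
  have hpp := hp.out
  by_contra hcon
  push Not at hcon
  set 𝒪 : Set (Subgroup G) :=
    {A | ∃ x ∈ (P : Subgroup G), A = K.map (MulAut.conj x).toMonoidHom} with h𝒪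
  set 𝒪' : Set (Subgroup G) := {A | IsComponent A ∧ A ∉ 𝒪} with h𝒪'
  have h𝒪c : ∀ A ∈ 𝒪, IsComponent A := by
    rintro A ⟨x, _, rfl⟩
    exact isComponent_conj x hK
  have h𝒪'c : ∀ A ∈ 𝒪', IsComponent A := fun A hA => hA.1
  have hst : ∀ A ∈ 𝒪, ∀ y ∈ (P : Subgroup G), A.map (MulAut.conj y).toMonoidHom ∈ 𝒪 := by
    rintro A ⟨x, hx, rfl⟩ y hy
    exact ⟨y * x, Subgroup.mul_mem _ hy hx, map_conj_map_conj y x K⟩
  have hst' : ∀ A ∈ 𝒪', ∀ y ∈ (P : Subgroup G), A.map (MulAut.conj y).toMonoidHom ∈ 𝒪' := by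
    rintro A ⟨hAc, hAn⟩ y hy
    refine ⟨isComponent_conj y hAc, ?_⟩
    rintro ⟨x, hx, hAx⟩
    apply hAn
    refine ⟨y⁻¹ * x, Subgroup.mul_mem _ (Subgroup.inv_mem _ hy) hx, ?_⟩
    have h1 : (A.map (MulAut.conj y).toMonoidHom).map (MulAut.conj y⁻¹).toMonoidHom = A := by
      rw [map_conj_map_conj, inv_mul_cancel, map_conj_one]
    rw [← h1, hAx, map_conj_map_conj]
  have hK𝒪 : K ∈ 𝒪 := ⟨1, Subgroup.one_mem _, (map_conj_one K).symm⟩
  have hL𝒪' : L ∈ 𝒪' := by
    refine ⟨hLc, ?_⟩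
    rintro ⟨x, hx, hLx⟩
    exact hcon x hx hLx
  have hcomm : ∀ A ∈ 𝒪, ∀ B ∈ 𝒪', ⁅A, B⁆ = ⊥ := by
    intro A hA B hB
    rcases isComponent_eq_or_commutator_eq_bot (h𝒪c A hA) hB.1 with h1 | h1
    · exact absurd (h1 ▸ hA) hB.2
    · exact h1
  have hab : ⁅sSup 𝒪, sSup 𝒪'⁆ = ⊥ := commutator_sSup_eq_bot 𝒪 𝒪' hcomm
  have hsup : sSup 𝒪 ⊔ sSup 𝒪' = N₀ := by
    rw [← hL]
    apply le_antisymm
    · apply sup_le
      · exact sSup_le fun A hA => le_layer (h𝒪c A hA)
      · exact sSup_le fun A hA => le_layer hA.1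
    · apply sSup_le
      intro A hA
      by_cases hA𝒪 : A ∈ 𝒪
      · exact le_sup_of_le_left (le_sSup hA𝒪)
      · exact le_sup_of_le_right (le_sSup ⟨hA, hA𝒪⟩)
  have hinf : sSup 𝒪 ⊓ sSup 𝒪' = ⊥ := by
    rw [eq_bot_iff]
    intro x hx
    rw [← hC]
    have h1 : sSup 𝒪 ≤ Subgroup.centralizer ((sSup 𝒪' : Subgroup G) : Set G) :=
      Subgroup.commutator_eq_bot_iff_le_centralizer.mp hab
    have h2 : sSup 𝒪' ≤ Subgroup.centralizer ((sSup 𝒪 : Subgroup G) : Set G) :=
      Subgroup.le_centralizer_iff.mp h1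
    have h3 : Subgroup.zpowers x ≤ Subgroup.centralizer ((sSup 𝒪' : Subgroup G) : Set G) :=
      (Subgroup.zpowers_le).mpr (h1 hx.1)
    have h4 : Subgroup.zpowers x ≤ Subgroup.centralizer ((sSup 𝒪 : Subgroup G) : Set G) :=
      (Subgroup.zpowers_le).mpr (h2 hx.2)
    have h5 : sSup 𝒪 ⊔ sSup 𝒪' ≤ Subgroup.centralizer ((Subgroup.zpowers x : Subgroup G) : Set G) :=
      sup_le (Subgroup.le_centralizer_iff.mp h4) (Subgroup.le_centralizer_iff.mp h3)
    rw [hsup] at h5
    exact (Subgroup.le_centralizer_iff.mp h5) (Subgroup.mem_zpowers x)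
  by_cases ha : sSup 𝒪 ⊓ (P : Subgroup G) ≤
      (frattini ↥(P : Subgroup G)).map (P : Subgroup G).subtype
  · exact h.no_small 𝒪 h𝒪c ⟨K, hK𝒪⟩ hst ha
  · by_cases hb : sSup 𝒪' ⊓ (P : Subgroup G) ≤
        (frattini ↥(P : Subgroup G)).map (P : Subgroup G).subtype
    · exact h.no_small 𝒪' h𝒪'c ⟨L, hL𝒪'⟩ hst' hb
    · have c1 := Fsg.comm_le p hpp (P : Subgroup G) h.hgen (sSup 𝒪)
        (le_normalizer_sSup 𝒪 _ hst) ha
      have c2 := Fsg.comm_le p hpp (P : Subgroup G) h.hgen (sSup 𝒪')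
        (le_normalizer_sSup 𝒪' _ hst') hb
      exact h.not_comm (le_bot_iff.mp (hinf ▸ le_inf c1 c2))

end Cfsg.Agent.Lib.Helper1.Fsg
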