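import Mathlib
import Cfsg.Agent.Lib.Helper1.FtbA

/-! Feit--Thompson--Blichfeldt reduction (S0899), part B: transfer and the normal
`p`-complement in a minimal counterexample whose Sylow subgroup meets the centre. -/

set_option autoImplicit false
set_option maxHeartbeats 4000000
set_option maxRecDepth 100000
set_option linter.unusedVariables false
set_option linter.unusedSectionVars false
set_option linter.style.longLine false
set_option linter.unusedSimpArgs false
set_option linter.deprecated false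
set_option linter.style.haveILetI false

namespace Cfsg.Agent.Lib.Helper1.Ftb

variable {G : Type*} [Group G] [Finite G] {p : ℕ} [hp : Fact p.Prime]

open scoped IsMulCommutative in
theorem MinCE.exists_proper_normal_pIndex (h : MinCE p G) (P : Sylow p G) (z : G)
    (hzP : z ∈ (P : Subgroup G)) (hzc : z ∈ Subgroup.center G) (hz1 : z ≠ 1) :
    ∃ K : Subgroup G, K.Normal ∧ K ≠ ⊤ ∧ ∃ j, K.index = p ^ j := by
  haveI : IsMulCommutative (P : Subgroup G) :=
    ⟨⟨fun a b => Subtype.ext (h.hab P a a.2 b b.2)⟩⟩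
  let V : G →* (P : Subgroup G) := MonoidHom.transfer (MonoidHom.id (P : Subgroup G))
  have key : ∀ (k : ℕ) (g₀ : G), g₀⁻¹ * z ^ k * g₀ ∈ (P : Subgroup G) →
      g₀⁻¹ * z ^ k * g₀ = z ^ k := by
    intro k g₀ _
    have hc : z ^ k ∈ Subgroup.center G := Subgroup.pow_mem _ hzc k
    have h1 := (Subgroup.mem_center_iff.1 hc) g₀
    calc g₀⁻¹ * z ^ k * g₀ = g₀⁻¹ * (z ^ k * g₀) := by group
      _ = g₀⁻¹ * (g₀ * z ^ k) := by rw [h1]
      _ = z ^ k := by group
  have hVz : V z = ⟨z ^ (P : Subgroup G).index, MonoidHom.transfer_eq_pow_aux z key⟩ := by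
    have h1 := MonoidHom.transfer_eq_pow (MonoidHom.id (P : Subgroup G)) z key
    simpa using h1
  have hVz1 : V z ≠ 1 := by
    intro h1
    rw [hVz] at h1
    have h2 : z ^ (P : Subgroup G).index = 1 := by
      have := congrArg Subtype.val h1
      simpa using this
    have h3 : orderOf z ∣ (P : Subgroup G).index := orderOf_dvd_of_pow_eq_one h2
    obtain ⟨k, hk⟩ := P.isPGroup' ⟨z, hzP⟩
    have h4 : z ^ p ^ k = 1 := by
      have := congrArg Subtype.val hk
      simpa using this
    have h5 : orderOf z ∣ p ^ k := orderOf_dvd_of_pow_eq_one h4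
    have hcop : Nat.Coprime (p ^ k) (P : Subgroup G).index :=
      Nat.Coprime.pow_left k ((Nat.Prime.coprime_iff_not_dvd hp.out).2 P.not_dvd_index)
    have h6 : orderOf z = 1 := Nat.eq_one_of_dvd_coprimes hcop h5 h3
    exact hz1 (orderOf_eq_one_iff.1 h6)
  refine ⟨V.ker, inferInstance, ?_, ?_⟩
  · intro htop
    apply hVz1
    have : z ∈ V.ker := by rw [htop]; trivial
    exact MonoidHom.mem_ker.1 this
  · have h1 : V.ker.index = Nat.card V.range := Subgroup.index_ker V
    have h2 : Nat.card V.range ∣ Nat.card (P : Subgroup G) :=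
      Subgroup.card_subgroup_dvd_card V.range
    obtain ⟨n, hn⟩ := IsPGroup.iff_card.1 P.isPGroup'
    rw [hn] at h2
    obtain ⟨j, -, hj⟩ := (Nat.dvd_prime_pow hp.out).1 h2
    exact ⟨j, by rw [h1, hj]⟩

theorem MinCE.exists_normal_pComplement (h : MinCE p G) (P : Sylow p G)
    (hn : ¬ (P : Subgroup G).Normal) (K : Subgroup G) (hK : K.Normal) (hKtop : K ≠ ⊤)
    (j : ℕ) (hKi : K.index = p ^ j) :
    ∃ L : Subgroup G, L.Normal ∧ (Nat.card L).Coprime p ∧ ∃ k, L.index = p ^ k := by
  obtain ⟨S₀⟩ := (Sylow.nonempty : Nonempty (Sylow p K))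
  have hS₀n := h.hmin K hKtop S₀
  haveI := hS₀n
  haveI := hK
  haveI hchar := Sylow.characteristic_of_normal S₀ hS₀n
  have hSnorm : ((S₀ : Subgroup K).map K.subtype).Normal := inferInstance
  have hSp : IsPGroup p ((S₀ : Subgroup K).map K.subtype) := S₀.isPGroup'.map _
  obtain ⟨Q, hQ⟩ := exists_sylow_ne P hn
  have hScen : (S₀ : Subgroup K).map K.subtype ≤ Subgroup.center G := by
    intro x hx
    exact h.inf_le_center P Q (Ne.symm hQ)
      ⟨le_sylow_of_normal _ hSp hSnorm P hx, le_sylow_of_normal _ hSp hSnorm Q hx⟩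
  obtain ⟨L₀, hL₀⟩ := Subgroup.exists_right_complement'_of_coprime
    (N := (S₀ : Subgroup K)) S₀.card_coprime_index
  have hcard : Nat.card (S₀ : Subgroup K) * Nat.card L₀ = Nat.card K := hL₀.card_mul
  have hidx : Nat.card (S₀ : Subgroup K) * (S₀ : Subgroup K).index = Nat.card K :=
    Subgroup.card_mul_index _
  have hS₀pos : 0 < Nat.card (S₀ : Subgroup K) := Nat.card_pos
  have hL₀card : Nat.card L₀ = (S₀ : Subgroup K).index :=
    Nat.eq_of_mul_eq_mul_left hS₀pos (hcard.trans hidx.symm)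
  have hL₀cop : (Nat.card L₀).Coprime p := by
    rw [hL₀card]
    exact ((Nat.Prime.coprime_iff_not_dvd hp.out).2 S₀.not_dvd_index).symm
  obtain ⟨n, hn'⟩ := IsPGroup.iff_card.1 S₀.isPGroup'
  have hLcard : Nat.card (L₀.map K.subtype) = Nat.card L₀ :=
    Subgroup.card_map_of_injective K.subtype_injective
  refine ⟨L₀.map K.subtype, ?_, ?_, ?_⟩
  · constructor
    intro x hx g
    obtain ⟨x₀, hx₀, rfl⟩ := hx
    have hyK : g * (x₀ : G) * g⁻¹ ∈ K := hK.conj_mem _ x₀.2 g
    obtain ⟨⟨s, l⟩, hsl, -⟩ := hL₀.existsUnique (⟨g * (x₀ : G) * g⁻¹, hyK⟩ : K)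
    simp only at hsl
    set m := Nat.card L₀ with hm
    have hlm : (l : K) ^ m = 1 := by
      have h1 : (l : L₀) ^ m = 1 := pow_card_eq_one' (G := L₀) (x := l)
      have h2 : ((l ^ m : L₀) : K) = ((1 : L₀) : K) := congrArg Subtype.val h1
      rwa [Subgroup.coe_pow, Subgroup.coe_one] at h2
    have hscen : ((s : K) : G) ∈ Subgroup.center G := hScen ⟨(s : K), s.2, rfl⟩
    have hcomm : Commute (s : K) (l : K) := by
      have h1 := (Subgroup.mem_center_iff.1 hscen) ((l : K) : G)
      apply Subtype.ext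
      simpa using h1.symm
    have hpow : (⟨g * (x₀ : G) * g⁻¹, hyK⟩ : K) ^ m = (s : K) ^ m := by
      rw [← hsl, hcomm.mul_pow, hlm, mul_one]
    have hx₀m : (x₀ : K) ^ m = 1 := by
      have h1 : (⟨x₀, hx₀⟩ : L₀) ^ m = 1 := pow_card_eq_one' (G := L₀) (x := ⟨x₀, hx₀⟩)
      have h2 : (((⟨x₀, hx₀⟩ : L₀) ^ m : L₀) : K) = ((1 : L₀) : K) := congrArg Subtype.val h1
      rwa [Subgroup.coe_pow, Subgroup.coe_one] at h2
    have hpow1 : (⟨g * (x₀ : G) * g⁻¹, hyK⟩ : K) ^ m = 1 := by
      apply Subtype.ext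
      have h3 : ((x₀ : K) : G) ^ m = 1 := by
        have := congrArg Subtype.val hx₀m
        simpa using this
      simp only [Subgroup.coe_pow, Subgroup.coe_one]
      rw [conj_pow, h3]
      group
    have hsm : (s : K) ^ m = 1 := hpow.symm.trans hpow1
    have hs1 : (s : K) = 1 := by
      obtain ⟨k, hk⟩ := S₀.isPGroup' s
      have h4 : ((s : K)) ^ p ^ k = 1 := by
        have := congrArg Subtype.val hk
        simpa using this
      have h5 : orderOf (s : K) ∣ p ^ k := orderOf_dvd_of_pow_eq_one h4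
      have h6 : orderOf (s : K) ∣ m := orderOf_dvd_of_pow_eq_one hsm
      have hcop : Nat.Coprime (p ^ k) m := Nat.Coprime.pow_left k hL₀cop.symm
      exact orderOf_eq_one_iff.1 (Nat.eq_one_of_dvd_coprimes hcop h5 h6)
    rw [hs1, one_mul] at hsl
    refine ⟨(l : K), l.2, ?_⟩
    have := congrArg Subtype.val hsl
    simpa using this
  · rw [hLcard]; exact hL₀cop
  · refine ⟨n + j, ?_⟩
    have h1 : Nat.card (L₀.map K.subtype) * (L₀.map K.subtype).index = Nat.card G :=
      Subgroup.card_mul_index _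
    have h2 : Nat.card K * K.index = Nat.card G := Subgroup.card_mul_index _
    rw [hLcard] at h1
    have hL₀pos : 0 < Nat.card L₀ := Nat.card_pos
    apply Nat.eq_of_mul_eq_mul_left hL₀pos
    rw [h1, ← h2, ← hcard, hKi, hn', pow_add]
    ring

end Cfsg.Agent.Lib.Helper1.Ftb
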