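import Mathlib
import Cfsg.Prelude.Def_Characters
import Cfsg.Prelude.Def_Blocks
import Cfsg.Agent.Lib.Helper6.GaloisRat
import Cfsg.Agent.Lib.Helper6.Constituent

/-! Feit--Thompson--Blichfeldt reduction (S0899), part C: a character of degree `< p - 1` which is
integer valued on the powers of a `p`-element has that element in its kernel. -/

set_option autoImplicit false
set_option maxHeartbeats 4000000
set_option maxRecDepth 100000
set_option linter.unusedVariables false
set_option linter.unusedSectionVars false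
set_option linter.style.longLine false
set_option linter.unusedSimpArgs false
set_option linter.deprecated false
set_option linter.style.haveILetI false

namespace Cfsg.Agent.Lib.Helper1.Ftb

open Polynomial Cfsg Cfsg.Agent.Lib.Helper6

/-- Galois invariance of an integral sum of `p`-th roots of unity -/
theorem sum_pow_eq_of_int {ι : Type*} [Fintype ι] (p : ℕ) [hp : Fact p.Prime] (μ : ι → ℂ)
    (hμ : ∀ i, μ i ^ p = 1) (z : ℤ) (hz : ∑ i, μ i = (z : ℂ)) (k : ℕ) (hk : ¬ p ∣ k) :
    ∑ i, μ i ^ k = (z : ℂ) := by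
  classical
  haveI : NeZero p := ⟨hp.out.ne_zero⟩
  have hpos : 0 < p := hp.out.pos
  obtain ⟨ζ, hζ⟩ : ∃ ζ : ℂ, IsPrimitiveRoot ζ p := ⟨_, Complex.isPrimitiveRoot_exp p hp.out.ne_zero⟩
  have he : ∀ i, ∃ e < p, ζ ^ e = μ i := fun i => hζ.eq_pow_of_pow_eq_one (hμ i)
  choose e hep he using he
  set g : ℚ[X] := ∑ i, X ^ e i - C (z : ℚ) with hg
  have hroot : aeval ζ g = 0 := by
    rw [hg, map_sub, map_sum]
    simp only [map_pow, aeval_X, aeval_C]
    rw [Finset.sum_congr rfl (fun i _ => he i), hz]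
    simp
  have hdvd : cyclotomic p ℚ ∣ g := by
    rw [cyclotomic_eq_minpoly_rat hζ hpos]
    exact minpoly.dvd ℚ ζ hroot
  have hcop : Nat.Coprime k p := ((Nat.Prime.coprime_iff_not_dvd hp.out).2 hk).symm
  have hζk : IsPrimitiveRoot (ζ ^ k) p := hζ.pow_of_coprime k hcop
  have hroot2 : aeval (ζ ^ k) (cyclotomic p ℚ) = 0 := by
    have h1 : IsRoot (cyclotomic p ℂ) (ζ ^ k) := hζk.isRoot_cyclotomic hpos
    rw [← map_cyclotomic p (algebraMap ℚ ℂ)] at h1
    rw [IsRoot.def, eval_map] at h1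
    rw [aeval_def]
    exact h1
  obtain ⟨q, hq⟩ := hdvd
  have hroot3 : aeval (ζ ^ k) g = 0 := by
    rw [hq, map_mul, hroot2, zero_mul]
  rw [hg, map_sub, map_sum] at hroot3
  simp only [map_pow, aeval_X, aeval_C] at hroot3
  have h2 : ∀ i, (ζ ^ k) ^ e i = μ i ^ k := by
    intro i
    rw [← he i, ← pow_mul, ← pow_mul, mul_comm]
  rw [Finset.sum_congr rfl (fun i _ => h2 i)] at hroot3
  have h3 : (algebraMap ℚ ℂ) (z : ℚ) = (z : ℂ) := by simp
  rw [h3] at hroot3
  exact sub_eq_zero.1 hroot3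

/-- core lemma: fewer than `p - 1` `p`-th roots of unity whose power sums are all integers are all
equal to `1` -/
theorem all_one_of_int_prime {m : ℕ} (p : ℕ) [hp : Fact p.Prime] (μ : Fin m → ℂ)
    (hμ : ∀ i, μ i ^ p = 1) (hm : m + 1 < p)
    (hint : ∀ k : ℕ, ∃ z : ℤ, ∑ i, μ i ^ k = (z : ℂ)) : ∀ i, μ i = 1 := by
  classical
  obtain ⟨z, hz⟩ := hint 1
  simp only [pow_one] at hz
  have hall : ∀ j, 0 < j → j < p → ∑ i, μ i ^ j = (z : ℂ) := by
    intro j h1 h2
    apply sum_pow_eq_of_int p μ hμ z hz j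
    intro hd
    have := Nat.le_of_dvd h1 hd
    omega
  obtain ⟨p', rfl⟩ : ∃ p', p = p' + 1 := ⟨p - 1, by have := hp.out.pos; omega⟩
  have hsum : ∑ j ∈ Finset.range (p' + 1), ∑ i, μ i ^ j = (m : ℂ) + (p' : ℂ) * z := by
    rw [Finset.sum_range_succ']
    simp only [pow_zero, Finset.sum_const, Finset.card_univ, Fintype.card_fin, nsmul_eq_mul,
      mul_one]
    rw [Finset.sum_congr rfl (fun j hj => hall (j + 1) (Nat.succ_pos j)
      (by have := Finset.mem_range.1 hj; omega))]
    rw [Finset.sum_const, Finset.card_range, nsmul_eq_mul]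
    ring
  set m0 := (Finset.univ.filter (fun i => μ i = 1)).card with hm0
  have hsum2 : ∑ j ∈ Finset.range (p' + 1), ∑ i, μ i ^ j = (m0 : ℂ) * ((p' : ℂ) + 1) := by
    rw [Finset.sum_comm]
    have hin : ∀ i, ∑ j ∈ Finset.range (p' + 1), μ i ^ j
        = if μ i = 1 then ((p' : ℂ) + 1) else 0 := by
      intro i
      split_ifs with h
      · rw [h]; simp
      · have h1 := geom_sum_mul (μ i) (p' + 1)
        rw [hμ i, sub_self] at h1
        rcases mul_eq_zero.1 h1 with h2 | h2
        · exact h2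
        · exact absurd (sub_eq_zero.1 h2) h
    rw [Finset.sum_congr rfl (fun i _ => hin i), Finset.sum_ite, Finset.sum_const,
      Finset.sum_const_zero, add_zero, nsmul_eq_mul]
  have hm0le : m0 ≤ m := by
    have := Finset.card_filter_le (Finset.univ : Finset (Fin m)) (fun i => μ i = 1)
    simpa using this
  have hint' : (m : ℤ) + (p' : ℤ) * z = (m0 : ℤ) * ((p' : ℤ) + 1) := by
    have := hsum.symm.trans hsum2
    exact_mod_cast this
  have hdvd : (p' : ℤ) ∣ (m : ℤ) - m0 := ⟨(m0 : ℤ) - z, by linear_combination hint'⟩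
  have habs : |(m : ℤ) - m0| < (p' : ℤ) := by
    rw [abs_of_nonneg (by have : (m0 : ℤ) ≤ m := by exact_mod_cast hm0le
                          linarith)]
    have h1 : (m : ℤ) + 1 < (p' : ℤ) + 1 := by exact_mod_cast hm
    have h2 : (0 : ℤ) ≤ m0 := Int.natCast_nonneg _
    linarith
  have heq := Int.eq_zero_of_abs_lt_dvd hdvd habs
  have hmm : m0 = m := by
    have : (m0 : ℤ) = m := by linarith
    exact_mod_cast this
  have h1 : (Finset.univ.filter (fun i => μ i = 1)).card = (Finset.univ : Finset (Fin m)).card := by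
    rw [← hm0, hmm]; simp
  intro i
  exact (Finset.card_filter_eq_iff.1 h1) i (Finset.mem_univ i)

theorem all_one_of_int_prime_pow {m : ℕ} (p : ℕ) [hp : Fact p.Prime] (hm : m + 1 < p) :
    ∀ (a : ℕ) (μ : Fin m → ℂ), (∀ i, μ i ^ p ^ a = 1) →
      (∀ k : ℕ, ∃ z : ℤ, ∑ i, μ i ^ k = (z : ℂ)) → ∀ i, μ i = 1 := by
  intro a
  induction a with
  | zero =>
    intro μ hμ _ i
    simpa using hμ i
  | succ a ih =>
    intro μ hμ hint
    have h1 : ∀ i, (μ i ^ p ^ a) = 1 := by
      apply all_one_of_int_prime p (fun i => μ i ^ p ^ a) _ hm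
      · intro k
        obtain ⟨z, hz⟩ := hint (p ^ a * k)
        refine ⟨z, ?_⟩
        rw [← hz]
        apply Finset.sum_congr rfl
        intro i _
        rw [← pow_mul]
      · intro i
        show (μ i ^ p ^ a) ^ p = 1
        rw [← pow_mul, ← pow_succ]
        exact hμ i
    exact ih μ h1 hint

/-- a character of degree `< p - 1`, integer valued on the powers of the `p`-element `v`, has `v`
in its kernel -/
theorem apply_eq_apply_one_of_int {G : Type*} [Group G] {χ : G → ℂ} (hχ : IsCharacter G χ)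
    (p : ℕ) [hp : Fact p.Prime] (hdeg : charDegree χ + 1 < p) (v : G) (a : ℕ)
    (hv : v ^ p ^ a = 1) (hint : ∀ k : ℕ, ∃ z : ℤ, χ (v ^ k) = (z : ℂ)) : χ v = χ 1 := by
  obtain ⟨m, μ, hμ, hval⟩ := IsCharacter.exists_eigen_pow hχ v (p ^ a)
    (pow_pos hp.out.pos a) hv
  have hm : charDegree χ = m := by
    have h1 := hval 0
    simp only [pow_zero, Finset.sum_const, Finset.card_univ, Fintype.card_fin, nsmul_eq_mul,
      mul_one] at h1
    rw [IsCharacter.apply_one_eq_charDegree hχ] at h1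
    exact_mod_cast h1
  have hall := all_one_of_int_prime_pow p (by rw [← hm]; exact hdeg) a μ hμ (by
    intro k
    obtain ⟨z, hz⟩ := hint k
    exact ⟨z, by rw [← hval k, hz]⟩)
  have h1 := hval 1
  simp only [pow_one] at h1
  rw [h1, IsCharacter.apply_one_eq_charDegree hχ, hm]
  rw [Finset.sum_congr rfl (fun i _ => hall i)]
  simp

end Cfsg.Agent.Lib.Helper1.Ftb
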