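import Mathlib
import Cfsg.Agent.S0887
import Cfsg.Agent.Lib.Helper3.GlauCyc10
import Cfsg.Agent.Lib.Helper3.CharQuot
import Cfsg.Agent.Lib.Helper3.DetChar
import Cfsg.Agent.Lib.Helper3.FT5
import Cfsg.Agent.Lib.Helper6.Decomp
import Cfsg.Agent.Lib.Helper6.CharMisc
import Cfsg.Agent.Lib.Helper6.Constituent
import Cfsg.Agent.Lib.Helper6.Linear
import Cfsg.Agent.Lib.Helper6.IrrBasis
import Cfsg.Agent.Lib.Helper6.Mult
import Cfsg.Agent.Lib.Helper1.FtbA
import Cfsg.Agent.Lib.Helper1.FtbC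

/-! Feit--Thompson--Blichfeldt reduction (S0899), part D: the character theory. -/

set_option autoImplicit false
set_option maxHeartbeats 4000000
set_option maxRecDepth 100000
set_option linter.unusedVariables false
set_option linter.unusedSectionVars false
set_option linter.style.longLine false
set_option linter.unusedSimpArgs false
set_option linter.deprecated false
set_option linter.style.haveILetI false

namespace Cfsg.Agent.Lib.Helper1.Ftb

open Cfsg Cfsg.Agent.Lib.Helper6 Cfsg.Agent.Lib.Helper3.DetChar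

universe u

variable {G : Type u} [Group G] [Fintype G]

/-- an irreducible character of degree `< p` restricts irreducibly to a normal subgroup of
`p`-power index -/
theorem restrict_irr_of_pIndex (p : ℕ) [hp : Fact p.Prime] (L : Subgroup G) [hL : L.Normal]
    [Fintype L] (k : ℕ) (hidx : L.index = p ^ k) {χ : G → ℂ} (hχ : IsIrrCharacter G χ)
    (hdeg : charDegree χ < p) : IsIrrCharacter L (fun l : L => χ l) := by
  have hχc := IsIrrCharacter.isCharacter hχ
  have hψ : IsCharacter L (fun l : L => χ l) := IsCharacter.restrict L hχc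
  have h1 : (fun l : L => χ l) 1 ≠ 0 := by
    show χ ((1 : L) : G) ≠ 0
    rw [Subgroup.coe_one]; exact IsIrrCharacter.apply_one_ne_zero hχ
  obtain ⟨ϑ, hcon⟩ := IsCharacter.exists_constituent hψ h1
  have hϑc := IsIrrCharacter.isCharacter ϑ.2
  obtain ⟨hdvd, hquot⟩ := Cfsg.Agent.S0887.result L χ hχ (ϑ : L → ℂ) ϑ.2 hcon (charDegree χ)
    (charDegree (ϑ : L → ℂ)) (IsCharacter.apply_one_eq_charDegree hχc)
    (IsCharacter.apply_one_eq_charDegree hϑc)
  rw [hidx] at hquot
  obtain ⟨i, -, hi⟩ := (Nat.dvd_prime_pow hp.out).1 hquot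
  have hdpos := IsIrrCharacter.charDegree_pos ϑ.2
  have hcpos := IsIrrCharacter.charDegree_pos hχ
  have hi0 : i = 0 := by
    by_contra h0
    have h3 : p ≤ p ^ i := by
      calc p = p ^ 1 := (pow_one p).symm
        _ ≤ p ^ i := Nat.pow_le_pow_right hp.out.pos (Nat.one_le_iff_ne_zero.2 h0)
    have h2 : charDegree χ / charDegree (ϑ : L → ℂ) ≤ charDegree χ := Nat.div_le_self _ _
    omega
  rw [hi0, pow_zero] at hi
  have hcd : charDegree χ = charDegree (ϑ : L → ℂ) := by
    obtain ⟨t, ht⟩ := hdvd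
    rw [ht, Nat.mul_div_cancel_left _ hdpos] at hi
    rw [ht, hi, mul_one]
  have h11 : (fun l : L => χ l) 1 = (ϑ : L → ℂ) 1 := by
    show χ ((1 : L) : G) = _
    rw [Subgroup.coe_one, IsCharacter.apply_one_eq_charDegree hχc,
      IsCharacter.apply_one_eq_charDegree hϑc, hcd]
  have := IsCharacter.eq_of_constituent_of_apply_one_eq hψ ϑ.2 hcon h11
  rw [this]; exact ϑ.2

theorem exists_exp (p a d : ℕ) (hp : p.Prime) (hd : ¬ p ∣ d) : ∃ e : ℕ, p ^ a ∣ d * e + 1 := by
  have hcop : Nat.Coprime d (p ^ a) :=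
    Nat.Coprime.pow_right a ((Nat.Prime.coprime_iff_not_dvd hp).2 hd).symm
  haveI : NeZero (p ^ a) := ⟨(pow_pos hp.pos a).ne'⟩
  refine ⟨(-(d : ZMod (p ^ a))⁻¹).val, ?_⟩
  rw [← ZMod.natCast_eq_zero_iff]
  push_cast
  rw [ZMod.natCast_zmod_val, mul_neg, ZMod.coe_mul_inv_eq_one d hcop]
  ring

/-- twisting an irreducible character of degree prime to `p` by a linear character so that the
determinantal order becomes prime to `p` -/
theorem exists_twist_coprime (p : ℕ) [hp : Fact p.Prime] {χ : G → ℂ} (hχ : IsIrrCharacter G χ)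
    (hdeg : charDegree χ < p) :
    ∃ f : G →* ℂˣ, (Cfsg.detOrder (fun g => ((f g : ℂˣ) : ℂ) * χ g)).Coprime p := by
  have hχc := IsIrrCharacter.isCharacter hχ
  obtain ⟨δ, hδ⟩ := exists_hom_eq_detChar hχc
  set d := charDegree χ with hd
  have hdpos : 0 < d := IsIrrCharacter.charDegree_pos hχ
  have hpd : ¬ p ∣ d := fun h => by have := Nat.le_of_dvd hdpos h; omega
  obtain ⟨a, m, hm, hN⟩ := Nat.exists_eq_pow_mul_and_not_dvd
    (Nat.card_pos (α := G)).ne' p hp.out.ne_one
  obtain ⟨e, he⟩ := exists_exp p a d hp.out hpd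
  refine ⟨δ ^ e, ?_⟩
  have hdet : Cfsg.detChar (fun g => (((δ ^ e) g : ℂˣ) : ℂ) * χ g)
      = fun g => ((δ g : ℂˣ) : ℂ) ^ (d * e + 1) := by
    rw [detChar_mul_hom (δ ^ e) hχc, hδ]
    funext g
    simp only [MonoidHom.pow_apply, Units.val_pow_eq_pow_val]
    rw [← hd]
    ring
  have hpow : (fun g => ((δ g : ℂˣ) : ℂ) ^ (d * e + 1)) ^ m = 1 := by
    funext g
    simp only [Pi.pow_apply, Pi.one_apply]
    rw [← pow_mul]
    obtain ⟨t, ht⟩ := he
    have h1 : (d * e + 1) * m = Nat.card G * t := by rw [ht, hN]; ring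
    rw [h1, pow_mul, ← Units.val_pow_eq_pow_val, ← map_pow, pow_card_eq_one', map_one]
    simp
  unfold Cfsg.detOrder
  rw [hdet]
  have h2 := orderOf_dvd_of_pow_eq_one hpow
  exact Nat.Coprime.coprime_dvd_left h2 ((Nat.Prime.coprime_iff_not_dvd hp.out).2 hm).symm

/-- in a group with a normal `p`-complement, commutators with `p`-elements lie in the kernel of
every irreducible character of degree `< p - 1` -/
theorem comm_mem_ker_of_pElement (p : ℕ) [hp : Fact p.Prime] (L : Subgroup G) [hL : L.Normal]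
    [Fintype L] (hLcop : (Nat.card L).Coprime p) (k : ℕ) (hidx : L.index = p ^ k)
    {χ : G → ℂ} (hχ : IsIrrCharacter G χ) (hdeg : charDegree χ + 1 < p)
    (v : G) (a : ℕ) (hv : v ^ p ^ a = 1) (g : G) : χ (v * g * v⁻¹ * g⁻¹) = χ 1 := by
  classical
  have hχc := IsIrrCharacter.isCharacter hχ
  obtain ⟨f, hf⟩ := exists_twist_coprime p hχ (by omega)
  set χh : G → ℂ := fun g => ((f g : ℂˣ) : ℂ) * χ g with hχh
  have hχhirr : IsIrrCharacter G χh := isIrrCharacter_hom_mul f hχ
  have hχhc := IsIrrCharacter.isCharacter hχhirr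
  have hχL : IsIrrCharacter L (fun l : L => χ l) :=
    restrict_irr_of_pIndex p L k hidx hχ (by omega)
  have hχhL : IsIrrCharacter L (fun l : L => χh l) :=
    isIrrCharacter_hom_mul (f.comp L.subtype) hχL
  have hdegh : charDegree χh = charDegree χ := by
    unfold charDegree
    simp [hχh]
  have hint : ∀ w : G, w ^ p ^ a = 1 → ∃ z : ℤ, χh w = (z : ℂ) := by
    intro w hw
    have hord : orderOf w ∣ p ^ a := orderOf_dvd_of_pow_eq_one hw
    obtain ⟨b, -, hb⟩ := (Nat.dvd_prime_pow hp.out).1 hord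
    have hcop1 : (Nat.card L).Coprime (orderOf w) := by
      rw [hb]; exact Nat.Coprime.pow_right b hLcop
    have hcop2 : (Cfsg.detOrder χh).Coprime (orderOf w) := by
      rw [hb]; exact Nat.Coprime.pow_right b hf
    haveI : Fintype ↥(L ⊓ Subgroup.centralizer ({w} : Set G)) := Fintype.ofFinite _
    obtain ⟨β, ε, hε, hβ⟩ := Cfsg.Agent.Lib.Helper3.GlauCyc.exists_correspondent_elt L w hcop1
      (L ⊓ Subgroup.centralizer ({w} : Set G)) rfl hχhirr hχhL hcop2
    have h1 := hβ 1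
    rw [Subgroup.coe_one, one_mul] at h1
    refine ⟨ε * (charDegree (β : ↥(L ⊓ Subgroup.centralizer ({w} : Set G)) → ℂ) : ℤ), ?_⟩
    rw [h1, IsCharacter.apply_one_eq_charDegree (IsIrrCharacter.isCharacter β.2)]
    push_cast
    rfl
  have hvk : ∀ j : ℕ, ∃ z : ℤ, χh (v ^ j) = (z : ℂ) := by
    intro j
    apply hint
    rw [← pow_mul, mul_comm, pow_mul, hv, one_pow]
  have hker : χh v = χh 1 :=
    apply_eq_apply_one_of_int hχhc p (by rw [hdegh]; exact hdeg) v a hv hvk
  obtain ⟨K, hKn, hK⟩ := Cfsg.Agent.Lib.Helper3.CharQuot.exists_kernel hχhc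
  have hvK : v ∈ K := (hK v).2 hker
  have h2 : v * g * v⁻¹ * g⁻¹ ∈ K := by
    have h3 : g * v⁻¹ * g⁻¹ ∈ K := hKn.conj_mem _ (K.inv_mem hvK) g
    have h4 : v * g * v⁻¹ * g⁻¹ = v * (g * v⁻¹ * g⁻¹) := by group
    rw [h4]; exact K.mul_mem hvK h3
  have h4 := (hK _).1 h2
  simp only [hχh] at h4
  have hf1 : f (v * g * v⁻¹ * g⁻¹) = 1 := by
    rw [map_mul, map_mul, map_mul, map_inv, map_inv]
    rw [mul_comm (f v) (f g), mul_assoc (f g), mul_inv_cancel, mul_one, mul_inv_cancel]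
  rw [hf1, map_one] at h4
  simpa using h4

/-- in a group with a normal `p`-complement and a faithful character of degree `< p - 1`, all
`p`-elements are central -/
theorem pElement_central (p : ℕ) [hp : Fact p.Prime] (L : Subgroup G) [hL : L.Normal]
    (hLcop : (Nat.card L).Coprime p) (k : ℕ) (hidx : L.index = p ^ k)
    {θ : G → ℂ} (hθ : IsCharacter G θ) (hf : ∀ g : G, θ g = θ 1 → g = 1)
    (hdeg : charDegree θ + 1 < p) (v : G) (a : ℕ) (hv : v ^ p ^ a = 1) :
    v ∈ Subgroup.center G := by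
  classical
  haveI : Fintype L := Fintype.ofFinite _
  haveI : Fintype (IrrCharacter G) := Fintype.ofFinite _
  obtain ⟨m, hm⟩ := IsCharacter.eq_sum_irr hθ
  have hval : ∀ g : G, θ g = ∑ ψ : IrrCharacter G, (m ψ : ℂ) * (ψ : G → ℂ) g := by
    intro g
    have := congrFun hm g
    simp only [Finset.sum_apply, Pi.smul_apply, nsmul_eq_mul] at this
    exact this
  have hle : ∀ ψ : IrrCharacter G, m ψ ≠ 0 → charDegree (ψ : G → ℂ) ≤ charDegree θ := by
    intro ψ hψ
    have h2 := hval 1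
    rw [IsCharacter.apply_one_eq_charDegree hθ] at h2
    have h3 : ∀ ψ' : IrrCharacter G, (m ψ' : ℂ) * (ψ' : G → ℂ) 1
        = ((m ψ' * charDegree (ψ' : G → ℂ) : ℕ) : ℂ) := by
      intro ψ'
      rw [IsCharacter.apply_one_eq_charDegree (IsIrrCharacter.isCharacter ψ'.2)]
      push_cast; ring
    rw [Finset.sum_congr rfl (fun ψ' _ => h3 ψ'), ← Nat.cast_sum] at h2
    have h4 : charDegree θ = ∑ ψ' : IrrCharacter G, m ψ' * charDegree (ψ' : G → ℂ) := by
      exact_mod_cast h2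
    rw [h4]
    calc charDegree (ψ : G → ℂ) ≤ m ψ * charDegree (ψ : G → ℂ) :=
          Nat.le_mul_of_pos_left _ (Nat.pos_of_ne_zero hψ)
      _ ≤ _ := Finset.single_le_sum
          (f := fun ψ' : IrrCharacter G => m ψ' * charDegree (ψ' : G → ℂ))
          (fun _ _ => Nat.zero_le _) (Finset.mem_univ ψ)
  rw [Subgroup.mem_center_iff]
  intro g
  have hc : θ (v * g * v⁻¹ * g⁻¹) = θ 1 := by
    rw [hval, hval 1]
    apply Finset.sum_congr rfl
    intro ψ _
    by_cases hψ : m ψ = 0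
    · rw [hψ]; simp
    · rw [comm_mem_ker_of_pElement p L hLcop k hidx ψ.2
        (by have := hle ψ hψ; omega) v a hv g]
  have h1 := hf _ hc
  calc g * v = (v * g * v⁻¹ * g⁻¹)⁻¹ * (v * g) := by group
    _ = v * g := by rw [h1]; group

/-- the case `P ∩ Z(G) = 1` of a minimal counterexample: the Feit--Thompson inequality -/
theorem case_one (p : ℕ) [hp : Fact p.Prime] (hMin : MinCE p G) (P : Sylow p G)
    (hn : ¬ (P : Subgroup G).Normal)
    (hZ : (P : Subgroup G) ⊓ Subgroup.center G = ⊥)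
    {θ : G → ℂ} (hθ : IsCharacter G θ) (hf : ∀ g : G, θ g = θ 1 → g = 1) (n : ℕ)
    (hdeg : charDegree θ ≤ n) :
    (Nat.card (P : Subgroup G) : ℝ) < ((n : ℝ) + 1) ^ 2 := by
  classical
  haveI : Fintype (IrrCharacter G) := Fintype.ofFinite _
  haveI : Fintype (P : Subgroup G) := Fintype.ofFinite _
  obtain ⟨m, hm⟩ := IsCharacter.eq_sum_irr hθ
  have hval : ∀ g : G, θ g = ∑ ψ : IrrCharacter G, (m ψ : ℂ) * (ψ : G → ℂ) g := by
    intro g
    have := congrFun hm g
    simp only [Finset.sum_apply, Pi.smul_apply, nsmul_eq_mul] at this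
    exact this
  have hle : ∀ ψ : IrrCharacter G, m ψ ≠ 0 → charDegree (ψ : G → ℂ) ≤ charDegree θ := by
    intro ψ hψ
    have h2 := hval 1
    rw [IsCharacter.apply_one_eq_charDegree hθ] at h2
    have h3 : ∀ ψ' : IrrCharacter G, (m ψ' : ℂ) * (ψ' : G → ℂ) 1
        = ((m ψ' * charDegree (ψ' : G → ℂ) : ℕ) : ℂ) := by
      intro ψ'
      rw [IsCharacter.apply_one_eq_charDegree (IsIrrCharacter.isCharacter ψ'.2)]
      push_cast; ring
    rw [Finset.sum_congr rfl (fun ψ' _ => h3 ψ'), ← Nat.cast_sum] at h2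
    have h4 : charDegree θ = ∑ ψ' : IrrCharacter G, m ψ' * charDegree (ψ' : G → ℂ) := by
      exact_mod_cast h2
    rw [h4]
    calc charDegree (ψ : G → ℂ) ≤ m ψ * charDegree (ψ : G → ℂ) :=
          Nat.le_mul_of_pos_left _ (Nat.pos_of_ne_zero hψ)
      _ ≤ _ := Finset.single_le_sum
          (f := fun ψ' : IrrCharacter G => m ψ' * charDegree (ψ' : G → ℂ))
          (fun _ _ => Nat.zero_le _) (Finset.mem_univ ψ)
  -- a nonlinear constituent exists
  have hex : ∃ ψ : IrrCharacter G, m ψ ≠ 0 ∧ (ψ : G → ℂ) 1 ≠ 1 := by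
    by_contra hcon
    push_neg at hcon
    apply hn
    have hcomm : ∀ x y : G, x * y = y * x := by
      intro x y
      have hc : θ (x * y * x⁻¹ * y⁻¹) = θ 1 := by
        rw [hval, hval 1]
        apply Finset.sum_congr rfl
        intro ψ _
        by_cases hψ : m ψ = 0
        · rw [hψ]; simp
        · have hl := hcon ψ hψ
          have hψc := IsIrrCharacter.isCharacter ψ.2
          have hmul := IsCharacter.mul_of_apply_one_eq_one hψc hl
          rw [hmul, hmul, hmul, hl]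
          have h7 : (ψ : G → ℂ) x * (ψ : G → ℂ) x⁻¹ = 1 := by
            rw [← hmul, mul_inv_cancel, hl]
          have h8 : (ψ : G → ℂ) y * (ψ : G → ℂ) y⁻¹ = 1 := by
            rw [← hmul, mul_inv_cancel, hl]
          have h9 : (ψ : G → ℂ) x * (ψ : G → ℂ) y * (ψ : G → ℂ) x⁻¹ * (ψ : G → ℂ) y⁻¹
              = ((ψ : G → ℂ) x * (ψ : G → ℂ) x⁻¹) * ((ψ : G → ℂ) y * (ψ : G → ℂ) y⁻¹) := by ring
          rw [h9, h7, h8]; ring
      have h1 := hf _ hc
      calc x * y = (x * y * x⁻¹ * y⁻¹) * (y * x) := by group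
        _ = y * x := by rw [h1, one_mul]
    constructor
    intro x hx g
    have : g * x * g⁻¹ = x := by rw [hcomm g x]; group
    rw [this]; exact hx
  obtain ⟨ψ, hψm, hψ1⟩ := hex
  have hsec := Cfsg.Agent.Lib.Helper3.FT.ft_second (P : Subgroup G)
    (fun a ha b hb => hMin.hab P a ha b hb) hZ (hMin.atMostOne P hZ) ψ.2 hψ1
    (fun M hM hPM => hMin.eq_top_of_normal_of_le P hn M hM hPM)
  have hψd : ((ψ : G → ℂ) 1).re = (charDegree (ψ : G → ℂ) : ℝ) := by
    rw [IsCharacter.apply_one_eq_charDegree (IsIrrCharacter.isCharacter ψ.2)]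
    simp
  rw [hψd] at hsec
  have h5 : (charDegree (ψ : G → ℂ) : ℝ) ≤ n := by
    have := (hle ψ hψm).trans hdeg
    exact_mod_cast this
  have h6 : (0 : ℝ) ≤ (charDegree (ψ : G → ℂ) : ℝ) := Nat.cast_nonneg _
  calc (Nat.card (P : Subgroup G) : ℝ) < (1 + (charDegree (ψ : G → ℂ) : ℝ)) ^ 2 := hsec
    _ ≤ ((n : ℝ) + 1) ^ 2 := by
      apply pow_le_pow_left₀ (by linarith)
      linarith

end Cfsg.Agent.Lib.Helper1.Ftb
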