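import Mathlib
import Cfsg.Agent.Lib.Lead.Bli1
import Cfsg.Agent.Lib.Helper6.CharBasic
import Cfsg.Agent.Lib.Helper1.FtbA
import Cfsg.Agent.Lib.Helper1.FtbB
import Cfsg.Agent.Lib.Helper1.FtbD

/-! Feit--Thompson--Blichfeldt reduction (S0899), part E: the induction. -/

set_option autoImplicit false
set_option maxHeartbeats 4000000
set_option maxRecDepth 100000
set_option linter.unusedVariables false
set_option linter.unusedSectionVars false
set_option linter.style.longLine false
set_option linter.unusedSimpArgs false
set_option linter.deprecated false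
set_option linter.style.haveILetI false

namespace Cfsg.Agent.Lib.Helper1.Ftb

open Cfsg Cfsg.Agent.Lib.Helper6

universe u

theorem ftb_main (n p : ℕ) [hp : Fact p.Prime] (hnp : n + 1 < p) :
    ∀ (N : ℕ) (G : Type u) [Group G] [Finite G], Nat.card G = N →
      ∀ θ : G → ℂ, IsCharacter G θ → (∀ g : G, θ g = θ 1 → g = 1) → charDegree θ ≤ n →
      ((n + 1) ^ 2 ≤ p ∨ ∀ K : Subgroup G, ¬ p ^ 2 ∣ Nat.card K → HasNSin p K) →
      ∀ P : Sylow p G, (P : Subgroup G).Normal := by
  intro N
  induction N using Nat.strong_induction_on with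
  | _ N ih =>
  intro G _ _ hN θ hθ hf hdeg halt P
  by_contra hn
  haveI : Fintype G := Fintype.ofFinite G
  have hMin : MinCE p G := by
    constructor
    · intro X hX Q
      have hlt : Nat.card X < N := by
        rw [← hN]
        refine lt_of_le_of_ne (Subgroup.card_le_card_group X) ?_
        intro heq
        exact hX ((Subgroup.card_eq_iff_eq_top X).1 heq)
      refine ih (Nat.card X) hlt X rfl (fun x : X => θ x) (IsCharacter.restrict X hθ) ?_ ?_ ?_ Q
      · intro x hx
        have h1 : θ (x : G) = θ 1 := by simpa using hx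
        exact Subtype.ext (hf (x : G) h1)
      · have h1 : charDegree (fun x : X => θ x) = charDegree θ := by
          unfold charDegree
          simp
        rw [h1]; exact hdeg
      · rcases halt with h | h
        · exact Or.inl h
        · right
          intro K hK
          apply hasNSin_comap X K
          apply h
          rwa [Subgroup.card_map_of_injective X.subtype_injective]
    · intro Q
      apply Cfsg.Agent.Lib.Lead.Bli.comm_of_big hθ hf hdeg (Q : Subgroup G)
      intro q hq hqd
      obtain ⟨t, ht⟩ := IsPGroup.iff_card.1 Q.isPGroup'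
      rw [ht] at hqd
      have h1 : q = p := (Nat.prime_dvd_prime_iff_eq hq hp.out).1 (hq.dvd_of_dvd_pow hqd)
      omega
  obtain ⟨t, ht⟩ := IsPGroup.iff_card.1 P.isPGroup'
  by_cases hZ : (P : Subgroup G) ⊓ Subgroup.center G = ⊥
  · have hlt := case_one p hMin P hn hZ hθ hf n hdeg
    have hlt' : p ^ t < (n + 1) ^ 2 := by
      rw [ht] at hlt
      have : ((p ^ t : ℕ) : ℝ) < (((n + 1) ^ 2 : ℕ) : ℝ) := by
        push_cast at hlt ⊢; exact hlt
      exact_mod_cast this
    have ht0 : t ≠ 0 := by
      intro h0
      apply hn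
      have hbot : (P : Subgroup G) = ⊥ := by
        apply Subgroup.card_eq_one.1
        rw [ht, h0, pow_zero]
      rw [hbot]
      infer_instance
    have hple : p ≤ p ^ t := by
      calc p = p ^ 1 := (pow_one p).symm
        _ ≤ p ^ t := Nat.pow_le_pow_right hp.out.pos (Nat.one_le_iff_ne_zero.2 ht0)
    rcases halt with h | h
    · omega
    · have hsq : (n + 1) ^ 2 < p ^ 2 := Nat.pow_lt_pow_left hnp (by norm_num)
      have ht2 : t < 2 := by
        by_contra h2
        push_neg at h2
        have : p ^ 2 ≤ p ^ t := Nat.pow_le_pow_right hp.out.pos h2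
        omega
      have ht1 : t = 1 := by omega
      have hcardG : Nat.card G = p * (P : Subgroup G).index := by
        rw [← Subgroup.card_mul_index (P : Subgroup G), ht, ht1, pow_one]
      have hnd : ¬ p ^ 2 ∣ Nat.card (⊤ : Subgroup G) := by
        rw [Subgroup.card_top, hcardG, pow_two]
        intro hd
        have := Nat.dvd_of_mul_dvd_mul_left hp.out.pos hd
        exact P.not_dvd_index this
      exact hn (sylow_normal_of_hasNSin_top (h ⊤ hnd) P)
  · rw [Subgroup.eq_bot_iff_forall] at hZ
    push_neg at hZ
    obtain ⟨z, hz, hz1⟩ := hZ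
    obtain ⟨K, hKn, hKtop, j, hKi⟩ := hMin.exists_proper_normal_pIndex P z hz.1 hz.2 hz1
    obtain ⟨L, hLn, hLcop, k, hLi⟩ := hMin.exists_normal_pComplement P hn K hKn hKtop j hKi
    haveI := hLn
    apply hn
    constructor
    intro x hx g
    have hxp : x ^ p ^ t = 1 := by
      have h1 : (⟨x, hx⟩ : (P : Subgroup G)) ^ Nat.card (P : Subgroup G) = 1 := pow_card_eq_one'
      rw [ht] at h1
      have h2 := congrArg Subtype.val h1
      simpa using h2
    have hcen := pElement_central p L hLcop k hLi hθ hf (by omega) x t hxp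
    have h3 := (Subgroup.mem_center_iff.1 hcen) g
    have : g * x * g⁻¹ = x := by rw [h3]; group
    rw [this]; exact hx

/-- the group-theoretic form of S0899 -/
theorem ftb_rep {G : Type u} [Group G] [Finite G] (n : ℕ) (ρ : Representation ℂ G (Fin n → ℂ))
    (hρ : Function.Injective ρ) (p : ℕ) [hp : Fact p.Prime]
    (h : (n + 1) ^ 2 ≤ p ∨ (n + 1 < p ∧ ∀ K : Subgroup G, ¬ p ^ 2 ∣ Nat.card K →
      ∀ Q : Sylow p K, (Q : Subgroup K).Normal)) (P : Sylow p G) : (P : Subgroup G).Normal := by
  have hnp : n + 1 < p := by
    rcases h with h | h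
    · by_contra hcon
      push_neg at hcon
      have h1 : p ≤ (n + 1) ^ 1 := by simpa using hcon
      have h2 : (n + 1) ^ 1 ≤ (n + 1) ^ 2 := Nat.pow_le_pow_right (by omega) (by norm_num)
      have h3 : (n + 1) ^ 2 = p := by omega
      have h4 : (n + 1) ^ 1 = p := by omega
      -- p = (n+1) and p = (n+1)^2: then n + 1 = 1, p = 1
      have h5 : (n + 1) ^ 2 = (n + 1) ^ 1 := by omega
      have h6 : n + 1 = 1 := by
        by_contra hne
        have : 1 < n + 1 := by omega
        have := Nat.pow_lt_pow_right this (show 1 < 2 by norm_num)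
        omega
      have := hp.out.one_lt
      rw [h6] at h4
      omega
    · exact h.1
  have hθ : IsCharacter G ρ.character := ⟨n, ρ, rfl⟩
  have h1 : ρ.character 1 = (n : ℂ) := by
    rw [Representation.char_one]
    simp
  have hdeg : charDegree ρ.character ≤ n := by
    unfold charDegree
    rw [h1]
    simp
  have hf : ∀ g : G, ρ.character g = ρ.character 1 → g = 1 := by
    intro g hg
    rw [Representation.char_one, character_eq_finrank_iff] at hg
    apply hρ
    rw [map_one]
    exact hg
  refine ftb_main n p hnp (Nat.card G) G rfl ρ.character hθ hf hdeg ?_ P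
  rcases h with h | h
  · exact Or.inl h
  · right
    intro K hK
    exact hasNSin_of_sylow_normal K (h.2 K hK)

end Cfsg.Agent.Lib.Helper1.Ftb
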