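import Mathlib
import Cfsg.Prelude.Def_ChevStructure
import Cfsg.Agent.Lib.Helper1.InvolN
import Cfsg.Agent.Lib.Helper1.InvolMoves
import Cfsg.Agent.Lib.Helper5.ChevW0
import Cfsg.Agent.Lib.Helper5.ChevGen
import Cfsg.Agent.Lib.Helper5.ChevNormal
import Cfsg.Agent.Lib.Helper7.Ch2G4

set_option autoImplicit false

/-!
`G₂(q)`, `q` odd: an involution `m = n_{w₀} h` of `N` over the longest element is conjugate to
an involution of `N` lying over `s_α w₀`.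
-/

namespace Cfsg.Agent.Lib.Helper1.G2InvC0

open Cfsg Cfsg.Lie Cfsg.Agent.Lib.Helper5.ChevSym Cfsg.Agent.Lib.Helper5.ChevStruct
  Cfsg.Agent.Lib.Helper1.InvolN Cfsg.Agent.Lib.Helper1.InvolMoves Cfsg.Agent.Lib.Helper7.Ch2G

variable {F : Type*} [Field F]

/-- the longest word of `W(G₂)` -/
def w0 : List ℕ := [0, 1, 0, 1, 0, 1]

theorem w0_wd : ∀ i ∈ w0, i < chevG2.rank := by decide

theorem neg7 : chevG2.neg 7 = 4 := by decide
theorem simple0 : chevG2.simple 0 = 7 := by decide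
theorem simple1 : chevG2.simple 1 = 6 := by decide
theorem act7 : wAct chevG2 w0 7 = 4 := by decide
theorem cartan14 : chevG2.cartan 1 4 = 1 := by decide

/-- the action of `m = n_{w₀} h` on `X_α` -/
theorem exists_mu (hD : chevG2 ∈ Seven) (h : GL chevG2.Idx F)
    (hh : h ∈ chevG2.diagonalSubgroup F) :
    ∃ μ : F, μ ≠ 0 ∧ ∀ c : F, (wGL chevG2 hD w0 * h) * xGL chevG2 hD 7 c * (wGL chevG2 hD w0 * h)⁻¹
      = xGL chevG2 hD 4 (μ * c) := by
  obtain ⟨cc, hcc, hmat⟩ := exists_torusMat_of_mem chevG2 hD h hh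
  obtain ⟨ε, hε, hconj⟩ := wGL_conj (F := F) chevG2 hD w0 w0_wd 7 (by decide)
  have hε0 : ε ≠ 0 := by
    rcases hε with rfl | rfl
    · exact one_ne_zero
    · exact neg_ne_zero.2 one_ne_zero
  refine ⟨ε * chi chevG2 cc 7, mul_ne_zero hε0 (chi_ne_zero chevG2 cc hcc 7), fun c => ?_⟩
  have h1 := torus_conj_x chevG2 hD h (xGL chevG2 hD 7 c) cc hcc hmat 7 c (xGL_val _ _ _ _)
  have h1' : h * xGL chevG2 hD 7 c * h⁻¹ = xGL chevG2 hD 7 (chi chevG2 cc 7 * c) :=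
    Units.ext (by rw [h1, xGL_val])
  have h2 := hconj (chi chevG2 cc 7 * c) (xGL chevG2 hD 7 (chi chevG2 cc 7 * c)) (xGL_val _ _ _ _)
  rw [act7] at h2
  have h2' : wGL chevG2 hD w0 * xGL chevG2 hD 7 (chi chevG2 cc 7 * c) * (wGL chevG2 hD w0)⁻¹
      = xGL chevG2 hD 4 (ε * (chi chevG2 cc 7 * c)) :=
    Units.ext (by rw [h2, xGL_val])
  calc (wGL chevG2 hD w0 * h) * xGL chevG2 hD 7 c * (wGL chevG2 hD w0 * h)⁻¹
      = wGL chevG2 hD w0 * (h * xGL chevG2 hD 7 c * h⁻¹) * (wGL chevG2 hD w0)⁻¹ := by group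
    _ = xGL chevG2 hD 4 (ε * chi chevG2 cc 7 * c) := by rw [h1', h2', mul_assoc]

/-- the square case: drop to the cell of `s_α w₀` -/
theorem c0_sq [Fintype F] (hD : chevG2 ∈ Seven) (hodd : Odd (Fintype.card F))
    (h : GL chevG2.Idx F) (hh : h ∈ chevG2.diagonalSubgroup F)
    (hmm : (wGL chevG2 hD w0 * h) * (wGL chevG2 hD w0 * h) = 1) (κ : F) (hκ : κ ≠ 0)
    (hmove : ∀ c : F, (wGL chevG2 hD w0 * h) * xGL chevG2 hD 7 c * (wGL chevG2 hD w0 * h)⁻¹
      = xGL chevG2 hD 4 (κ * κ * c)) :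
    ∃ g ∈ chevG2.group F, ∃ m' ∈ chevG2.monomialSubgroup F, m' * m' = 1 ∧
      g * (wGL chevG2 hD w0 * h) * g⁻¹ = m' ∧
      ∃ n0 ∈ chevG2.monomialSubgroup F, n0 * (nGL chevG2 hD 0)⁻¹ ∈ chevG2.diagonalSubgroup F ∧
      ∃ h' ∈ chevG2.diagonalSubgroup F, m' = n0 * wGL chevG2 hD w0 * h' := by
  set m := wGL chevG2 hD w0 * h with hm
  have hwN : wGL chevG2 hD w0 ∈ chevG2.monomialSubgroup F := wGL_mem chevG2 hD w0 w0_wd
  have hmN : m ∈ chevG2.monomialSubgroup F := mul_mem hwN (diagonal_le_monomial chevG2 hh)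
  have hmG : m ∈ chevG2.group F := monomial_le_group chevG2 hD hmN
  have hmove' : ∀ c : F, m * xGL chevG2 hD 7 c * m⁻¹ = xGL chevG2 hD (chevG2.neg 7) (κ * κ * c) := by
    intro c; rw [neg7]; exact hmove c
  have hdrop := drop_move chevG2 hD 7 m (κ * κ) (mul_ne_zero hκ hκ) hmm hmove' κ rfl
  rw [neg7] at hdrop
  -- the element `n_α(-κ⁻¹)`
  set nr := xGL chevG2 hD 7 (-κ⁻¹) * xGL chevG2 hD 4 κ * xGL chevG2 hD 7 (-κ⁻¹) with hnr
  have hκi : -κ⁻¹ ≠ 0 := neg_ne_zero.2 (inv_ne_zero hκ)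
  have hnrw : nr = wordGL chevG2 hD (chevG2.nWord 7 (-κ⁻¹)) := by
    unfold ChevalleyDatum.nWord
    rw [neg7]
    simp [wordGL, hnr, mul_assoc]
  have hnrN : nr ∈ chevG2.monomialSubgroup F := by
    rw [hnrw]; exact nGL_mem_monomial chevG2 hD 7 (by decide) _ hκi
  have hnrH : nr * (nGL chevG2 hD 0)⁻¹ ∈ chevG2.diagonalSubgroup F := by
    have e : nr = wordGL chevG2 hD (chevG2.hWord 7 (-κ⁻¹)) * nGL chevG2 hD 0 := by
      rw [hnrw]
      apply Units.ext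
      rw [Units.val_mul, wordGL_val, wordGL_val, nGL_val, simple0]
      exact nMat_eq_hMat_mul chevG2 hD 7 _
    rw [e, mul_inv_cancel_right]
    exact Subgroup.subset_closure ⟨7, -κ⁻¹, by decide, hκi, wordGL_val chevG2 hD _⟩
  -- the conjugate involution
  set t' := xGL chevG2 hD 7 κ⁻¹ * (nr * m) with ht'
  have hxG : xGL chevG2 hD 4 κ ∈ chevG2.group F := xGL_mem_group chevG2 hD 4 κ
  have ht'G : t' ∈ chevG2.group F := by
    rw [← hdrop]
    exact mul_mem (mul_mem hxG hmG) (inv_mem hxG)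
  have ht'2 : t' * t' = 1 := by
    rw [← hdrop]
    calc xGL chevG2 hD 4 κ * m * (xGL chevG2 hD 4 κ)⁻¹ * (xGL chevG2 hD 4 κ * m * (xGL chevG2 hD 4 κ)⁻¹)
        = xGL chevG2 hD 4 κ * (m * m) * (xGL chevG2 hD 4 κ)⁻¹ := by group
      _ = 1 := by rw [hmm]; group
  obtain ⟨g₂, hg₂, m', hm', hm'2, hconj, b₁, hb₁, b₂, hb₂, ecell⟩ :=
    invol_conj_monomial_cell chevG2 hD hodd t' ht'G ht'2
  have hxB : xGL chevG2 hD 7 κ⁻¹ ∈ chevG2.borelSubgroup F := by
    apply pos_le_borel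
    exact Subgroup.subset_closure ⟨7, κ⁻¹, by decide, xGL_val _ _ _ _⟩
  have hH3 : (nr * m)⁻¹ * m' ∈ chevG2.diagonalSubgroup F := by
    apply dc_unique chevG2 hD (xGL chevG2 hD 7 κ⁻¹) b₁ (nr * m) m' 1 b₂ hxB hb₁
      (mul_mem hnrN hmN) hm' (one_mem _) hb₂
    rw [mul_one, ← ecell]
  refine ⟨g₂ * xGL chevG2 hD 4 κ, mul_mem hg₂ hxG, m', hm', hm'2, ?_, nr, hnrN, hnrH,
    h * ((nr * m)⁻¹ * m'), mul_mem hh hH3, ?_⟩
  · rw [← hconj, ← hdrop]; group
  · rw [hm]; group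

/-- the case `w₀` -/
theorem c0 [Fintype F] (hD : chevG2 ∈ Seven) (hodd : Odd (Fintype.card F))
    (h : GL chevG2.Idx F) (hh : h ∈ chevG2.diagonalSubgroup F)
    (hmm : (wGL chevG2 hD w0 * h) * (wGL chevG2 hD w0 * h) = 1) :
    ∃ g ∈ chevG2.group F, ∃ m' ∈ chevG2.monomialSubgroup F, m' * m' = 1 ∧
      g * (wGL chevG2 hD w0 * h) * g⁻¹ = m' ∧
      ∃ n0 ∈ chevG2.monomialSubgroup F, n0 * (nGL chevG2 hD 0)⁻¹ ∈ chevG2.diagonalSubgroup F ∧
      ∃ h' ∈ chevG2.diagonalSubgroup F, m' = n0 * wGL chevG2 hD w0 * h' := by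
  classical
  obtain ⟨μ, hμ, hmove⟩ := exists_mu hD h hh
  by_cases hsq : IsSquare μ
  · obtain ⟨κ, rfl⟩ := hsq
    have hκ : κ ≠ 0 := by
      rintro rfl
      exact hμ (mul_zero _)
    exact c0_sq hD hodd h hh hmm κ hκ hmove
  · -- flip at the long simple root with a nonsquare
    set m := wGL chevG2 hD w0 * h with hm
    -- the action of `m` on `X_β`
    have hwN : wGL chevG2 hD w0 ∈ chevG2.monomialSubgroup F := wGL_mem chevG2 hD w0 w0_wd
    obtain ⟨cc, hcc, hmat⟩ := exists_torusMat_of_mem chevG2 hD h hh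
    obtain ⟨ε, hε, hconj⟩ := wGL_conj (F := F) chevG2 hD w0 w0_wd 6 (by decide)
    have hε0 : ε ≠ 0 := by
      rcases hε with rfl | rfl
      · exact one_ne_zero
      · exact neg_ne_zero.2 one_ne_zero
    have act6 : wAct chevG2 w0 6 = chevG2.neg 6 := by decide
    have hmove6 : ∀ c : F, m * xGL chevG2 hD 6 c * m⁻¹
        = xGL chevG2 hD (chevG2.neg 6) (ε * chi chevG2 cc 6 * c) := by
      intro c
      have h1 := torus_conj_x chevG2 hD h (xGL chevG2 hD 6 c) cc hcc hmat 6 c (xGL_val _ _ _ _)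
      have h1' : h * xGL chevG2 hD 6 c * h⁻¹ = xGL chevG2 hD 6 (chi chevG2 cc 6 * c) :=
        Units.ext (by rw [h1, xGL_val])
      have h2 := hconj (chi chevG2 cc 6 * c) (xGL chevG2 hD 6 (chi chevG2 cc 6 * c))
        (xGL_val _ _ _ _)
      rw [act6] at h2
      have h2' : wGL chevG2 hD w0 * xGL chevG2 hD 6 (chi chevG2 cc 6 * c) * (wGL chevG2 hD w0)⁻¹
          = xGL chevG2 hD (chevG2.neg 6) (ε * (chi chevG2 cc 6 * c)) :=
        Units.ext (by rw [h2, xGL_val])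
      calc m * xGL chevG2 hD 6 c * m⁻¹
          = wGL chevG2 hD w0 * (h * xGL chevG2 hD 6 c * h⁻¹) * (wGL chevG2 hD w0)⁻¹ := by
            rw [hm]; group
        _ = _ := by rw [h1', h2', mul_assoc]
    -- a nonsquare
    obtain ⟨β, hβ⟩ : ∃ β : F, ¬ IsSquare β := by
      apply FiniteField.exists_nonsquare
      intro h2
      have h3 := FiniteField.even_card_of_char_two h2
      have h4 := Nat.odd_iff.1 hodd
      omega
    have hβ0 : β ≠ 0 := by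
      rintro rfl
      exact hβ ⟨0, (mul_zero 0).symm⟩
    obtain ⟨g₁, hg₁, hflip⟩ := flip_move chevG2 hD 6 m (ε * chi chevG2 cc 6) hodd (by decide)
      (mul_ne_zero hε0 (chi_ne_zero chevG2 cc hcc 6)) hmm hmove6 β hβ0
    -- the new element `m₁ = h_β(β) m = n_{w₀} h₁`
    have hhβ : hGL chevG2 hD 6 β ∈ chevG2.diagonalSubgroup F := by
      have := hGL_simple_mem_diagonal chevG2 hD 1 (by decide) β hβ0
      rwa [simple1] at this
    set h₁ := (wGL chevG2 hD w0)⁻¹ * hGL chevG2 hD 6 β * wGL chevG2 hD w0 * h with hh₁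
    have hh₁H : h₁ ∈ chevG2.diagonalSubgroup F := by
      have := (conj_monomial_diag_mem chevG2 hD _ (inv_mem hwN) _ hhβ).1
      rw [inv_inv] at this
      exact mul_mem this hh
    have em₁ : hGL chevG2 hD 6 β * m = wGL chevG2 hD w0 * h₁ := by
      rw [hm, hh₁]; group
    have hm₁2 : (wGL chevG2 hD w0 * h₁) * (wGL chevG2 hD w0 * h₁) = 1 := by
      rw [← em₁, ← hflip]
      calc g₁ * m * g₁⁻¹ * (g₁ * m * g₁⁻¹) = g₁ * (m * m) * g₁⁻¹ := by group
        _ = 1 := by rw [hmm]; group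
    -- its action on `X_α`
    have hβμ : IsSquare (β * μ) := by
      have h1 : quadraticChar F β = -1 := (quadraticChar_neg_one_iff_not_isSquare).2 hβ
      have h2 : quadraticChar F μ = -1 := (quadraticChar_neg_one_iff_not_isSquare).2 hsq
      have h3 : quadraticChar F (β * μ) = 1 := by
        rw [map_mul, h1, h2]; norm_num
      exact (quadraticChar_one_iff_isSquare (mul_ne_zero hβ0 hμ)).1 h3
    obtain ⟨κ, hκ⟩ := hβμ
    have hκ0 : κ ≠ 0 := by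
      rintro rfl
      rw [mul_zero] at hκ
      exact (mul_ne_zero hβ0 hμ) hκ
    have hmove₁ : ∀ c : F, (wGL chevG2 hD w0 * h₁) * xGL chevG2 hD 7 c * (wGL chevG2 hD w0 * h₁)⁻¹
        = xGL chevG2 hD 4 (κ * κ * c) := by
      intro c
      rw [← em₁]
      have e1 := hGL_conj_x chevG2 hD 1 (by decide) β hβ0 4 (μ * c)
      rw [simple1, cartan14, zpow_one] at e1
      calc hGL chevG2 hD 6 β * m * xGL chevG2 hD 7 c * (hGL chevG2 hD 6 β * m)⁻¹
          = hGL chevG2 hD 6 β * (m * xGL chevG2 hD 7 c * m⁻¹) * (hGL chevG2 hD 6 β)⁻¹ := by group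
        _ = xGL chevG2 hD 4 (κ * κ * c) := by rw [hmove c, e1, ← hκ, mul_assoc]
    obtain ⟨g, hg, m', hm', hm'2, hc, rest⟩ := c0_sq hD hodd h₁ hh₁H hm₁2 κ hκ0 hmove₁
    refine ⟨g * g₁, mul_mem hg hg₁, m', hm', hm'2, ?_, rest⟩
    rw [← hc, ← em₁, ← hflip]; group

end Cfsg.Agent.Lib.Helper1.G2InvC0
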