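import Mathlib
import Cfsg.Agent.Lib.Helper1.KL1
import Cfsg.Agent.Lib.Helper9.Alperin1
import Cfsg.Agent.Lib.Helper1.Nilpotent

set_option autoImplicit false
set_option linter.style.haveILetI false
set_option linter.unusedSectionVars false
set_option linter.unusedVariables false

/-! Kessar–Linckelmann reduction, part 2: a bad subgroup normal in `S`. -/

namespace Cfsg.Agent.Lib.Helper1.KL

open Cfsg Cfsg.FusionSystem Cfsg.Agent.Lib.Helper9 Cfsg.Agent.Lib.Helper1.KN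

universe u

/-- the induction hypothesis: the theorem for all smaller `p`-groups -/
def IHyp (p n : ℕ) : Prop :=
  ∀ (Ω' : Type u) [Group Ω'] (S' : Subgroup Ω') [Finite S'], Nat.card S' < n → IsPGroup p S' →
    ∀ F' : FusionSystem S', F'.IsSaturated p → ∀ D' : Subgroup Ω', F'.StronglyClosed D' →
      (∀ N' : FusionSystem (normalizerIn S' (centerThompsonAOf D')),
        F'.IsNormalizerSystem (centerThompsonAOf D') N' → InnerOn N') → InnerOn F'

variable {Ω : Type u} [Group Ω] {S : Subgroup Ω} {R : Subgroup Ω}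

local notation "TT" => normalizerIn S R

theorem descent [Finite S] {p : ℕ} [Fact p.Prime] (hS : IsPGroup p S) (F : FusionSystem S)
    (hF : F.IsSaturated p) {D : Subgroup Ω} (hD : F.StronglyClosed D) (hD0 : D ≠ ⊥)
    (IH : IHyp.{u} p (Nat.card S)) (hRfn : F.IsFullyNormalized R)
    (hb : Bad F p R) (hTS : TT ≠ S) :
    ∃ U' : Subgroup Ω, U' ≠ ⊥ ∧ F.IsFullyNormalized U' ∧ Bad F p U' ∧
      Nat.card TT < Nat.card (normalizerIn S U') := by
  have hRS := hRfn.1
  have hTle : TT ≤ S := normalizerIn_le S R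
  have hlt : TT < S := lt_of_le_of_ne hTle hTS
  haveI : Finite TT := finite_normalizerIn (S := S) R
  haveI : Finite R := finite_of_le hRS
  have hTp : IsPGroup p TT := isPGroup_of_le hS hTle
  obtain ⟨E, hE⟩ := Cfsg.Agent.S5096.result F R hRS
  have hEsat := Cfsg.Agent.S5098.result p hS F hF R hRfn E hE
  have hcard : Nat.card TT < Nat.card S := by
    by_contra hcon
    push Not at hcon
    exact hTS (Subgroup.eq_of_le_of_card_ge hTle hcon)
  -- `D ⊓ T` is strongly closed in `E`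
  have hDT : E.StronglyClosed (D ⊓ TT) := by
    refine ⟨inf_le_right, fun X hX φ hφ x => ⟨?_, (E.le_of_mem hφ).2 x⟩⟩
    exact hD.2 X (hX.trans inf_le_left) φ (hom_of_normalizerSystem F E hE hφ) x
  -- `E` is not inner
  have hniE : ¬ InnerOn E := by
    obtain ⟨Y, α, hRY, hYN, hα, hαR, hαp⟩ := hb
    refine not_innerOn_of_aut hTp E hYN ?_ hαp
    rw [mem_autGroup_iff E hYN, hE Y]
    exact mem_normalizerHom_of_aut F hRY hYN hα hαR
  -- apply the induction hypothesis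
  have hIH := IH Ω TT hcard hTp E hEsat (D ⊓ TT) hDT
  have hex : ∃ N' : FusionSystem (normalizerIn TT (centerThompsonAOf (D ⊓ TT))),
      E.IsNormalizerSystem (centerThompsonAOf (D ⊓ TT)) N' ∧ ¬ InnerOn N' := by
    by_contra hcon
    push Not at hcon
    exact hniE (hIH hcon)
  obtain ⟨N', hN', hniN'⟩ := hex
  have hUle : centerThompsonAOf (D ⊓ TT) ≤ D ⊓ TT := centerThompsonAOf_le' _
  have hUT : centerThompsonAOf (D ⊓ TT) ≤ TT := hUle.trans inf_le_right
  haveI : Finite (D ⊓ TT : Subgroup Ω) := finite_of_le (inf_le_right : D ⊓ TT ≤ TT)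
  haveI : Finite (centerThompsonAOf (D ⊓ TT)) := finite_of_le hUT
  -- elements of `S` normalizing `T` normalize `U`
  have hnormU : ∀ g ∈ S, g ∈ Subgroup.normalizer (TT : Set Ω) →
      g ∈ Subgroup.normalizer (centerThompsonAOf (D ⊓ TT) : Set Ω) := by
    intro g hgS hgT
    have hgD : g ∈ Subgroup.normalizer (D : Set Ω) := le_normalizer_of_stronglyClosed F hD hgS
    have hgDT : g ∈ Subgroup.normalizer ((D ⊓ TT : Subgroup Ω) : Set Ω) := by
      rw [Subgroup.mem_normalizer_iff]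
      intro h
      rw [Subgroup.mem_inf, Subgroup.mem_inf, ← Subgroup.mem_normalizer_iff.mp hgD h,
        ← Subgroup.mem_normalizer_iff.mp hgT h]
    apply KN.mem_normalizer_of_forall_conj_mem
    intro x hx
    exact conj_mem_centerThompsonAOf hgDT hx
  have hTU : TT ≤ normalizerIn S (centerThompsonAOf (D ⊓ TT)) :=
    fun t ht => ⟨hTle ht, hnormU t (hTle ht) (Subgroup.le_normalizer ht)⟩
  have hTTU : normalizerIn TT (centerThompsonAOf (D ⊓ TT)) = TT :=
    le_antisymm inf_le_left (fun t ht => ⟨ht, (hTU ht).2⟩)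
  have hUfn : E.IsFullyNormalized (centerThompsonAOf (D ⊓ TT)) :=
    ⟨hUT, fun Q _ => by rw [hTTU]; exact Subgroup.card_le_of_le inf_le_left⟩
  -- `U` is bad in `E`, hence in `F`
  have hbE : Bad E p (centerThompsonAOf (D ⊓ TT)) :=
    bad_of_not_innerOn hTp E hEsat hUfn N' hN' hniN'
  have hbF : Bad F p (centerThompsonAOf (D ⊓ TT)) := by
    obtain ⟨Y, α, hUY, hYN, hα, hαU, hαp⟩ := hbE
    have hYT : Y ≤ TT := hYN.trans inf_le_left
    refine ⟨Y, α, hUY, fun y hy => ⟨hTle (hYT hy), (hYN hy).2⟩, ?_, hαU, hαp⟩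
    rw [mem_autGroup_iff F (hYT.trans hTle)]
    exact hom_of_normalizerSystem F E hE (hom_of_mem_autGroup E hYT hα)
  -- `U ≠ ⊥`
  have hDT0 : D ⊓ TT ≠ ⊥ := by
    haveI : Group.IsNilpotent ↥S := hS.isNilpotent
    haveI : (D.subgroupOf S).Normal := ⟨fun n hn g => by
      rw [Subgroup.mem_subgroupOf] at hn ⊢
      show (g : Ω) * n * (g : Ω)⁻¹ ∈ D
      exact conj_mem_of_stronglyClosed F hD g.2 hn⟩
    have hDS0 : D.subgroupOf S ≠ ⊥ := by
      intro h0
      apply hD0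
      rw [eq_bot_iff]
      intro d hd
      have h1 : (⟨d, hD.1 hd⟩ : S) ∈ D.subgroupOf S := Subgroup.mem_subgroupOf.mpr hd
      rw [h0, Subgroup.mem_bot] at h1
      rw [Subgroup.mem_bot]
      exact congrArg Subtype.val h1
    have h1 := Cfsg.Agent.Lib.Helper1.normal_inf_center_ne_bot (D.subgroupOf S) hDS0
    intro h0
    apply h1
    rw [eq_bot_iff]
    rintro z ⟨hzD, hzC⟩
    have hzT : (z : Ω) ∈ TT := by
      refine ⟨z.2, ?_⟩
      apply KN.mem_normalizer_of_forall_conj_mem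
      intro r hr
      have h2 := Subgroup.mem_center_iff.mp hzC ⟨r, hRS hr⟩
      have h3 : r * (z : Ω) = z * r := congrArg Subtype.val h2
      have h4 : (z : Ω) * r * (z : Ω)⁻¹ = r := by rw [← h3]; group
      rw [h4]
      exact hr
    have h5 : (z : Ω) ∈ D ⊓ TT := ⟨Subgroup.mem_subgroupOf.mp hzD, hzT⟩
    rw [h0, Subgroup.mem_bot] at h5
    rw [Subgroup.mem_bot]
    exact Subtype.ext h5
  have hU0 : centerThompsonAOf (D ⊓ TT) ≠ ⊥ :=
    centerThompsonAOf_ne_bot' (isPGroup_of_le hTp inf_le_right) hDT0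
  obtain ⟨U', hU'0, hU'fn, hU'b, hU'card⟩ := exists_fn_bad hS F hF hU0 hbF
  refine ⟨U', hU'0, hU'fn, hU'b, lt_of_lt_of_le ?_ hU'card⟩
  obtain ⟨g, hgN, hgT⟩ := exists_mem_normalizerIn_not_mem hS hlt
  have hgU : g ∈ normalizerIn S (centerThompsonAOf (D ⊓ TT)) := ⟨hgN.1, hnormU g hgN.1 hgN.2⟩
  haveI := finite_normalizerIn (S := S) (centerThompsonAOf (D ⊓ TT))
  by_contra hcon
  push Not at hcon
  have h6 := Subgroup.eq_of_le_of_card_ge hTU hcon
  apply hgT
  rw [h6]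
  exact hgU

/-- Steps 0 and 1: a nontrivial bad subgroup normal in `S` -/
theorem exists_bad_normal [Finite S] {p : ℕ} [Fact p.Prime] (hS : IsPGroup p S)
    (F : FusionSystem S) (hF : F.IsSaturated p) {D : Subgroup Ω} (hD : F.StronglyClosed D)
    (hD0 : D ≠ ⊥) (IH : IHyp.{u} p (Nat.card S)) (hni : ¬ InnerOn F) :
    ∃ R : Subgroup Ω, R ≠ ⊥ ∧ normalizerIn S R = S ∧ Bad F p R := by
  obtain ⟨Y, α, hYS, hα, hαp⟩ := exists_aut_of_not_innerOn hS F hF hni
  have hY0 : Y ≠ ⊥ := by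
    intro h0
    apply hαp 0
    apply MulEquiv.ext
    intro y
    have hy1 : ∀ z : Y, z = 1 := fun z => Subtype.ext (by
      have h1 : (z : Ω) ∈ (⊥ : Subgroup Ω) := h0.le z.2
      exact Subgroup.mem_bot.mp h1)
    rw [hy1 y]
    simp
  have hbY : Bad F p Y :=
    ⟨Y, α, le_rfl, self_le_normalizerIn' hYS, hα, fun y _ => (α y).2, hαp⟩
  obtain ⟨R₀, hR₀0, hR₀fn, hR₀b, -⟩ := exists_fn_bad hS F hF hY0 hbY
  have hfin : {R : Subgroup Ω | R ≠ ⊥ ∧ F.IsFullyNormalized R ∧ Bad F p R}.Finite :=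
    (finite_subgroups_le S).subset (fun R hR => hR.2.1.1)
  haveI : Finite {R : Subgroup Ω // R ≠ ⊥ ∧ F.IsFullyNormalized R ∧ Bad F p R} := hfin.to_subtype
  haveI : Nonempty {R : Subgroup Ω // R ≠ ⊥ ∧ F.IsFullyNormalized R ∧ Bad F p R} :=
    ⟨⟨R₀, hR₀0, hR₀fn, hR₀b⟩⟩
  obtain ⟨⟨R, hR0, hRfn, hRb⟩, hmax⟩ := Finite.exists_max
    (fun R : {R : Subgroup Ω // R ≠ ⊥ ∧ F.IsFullyNormalized R ∧ Bad F p R} =>
      Nat.card (normalizerIn S (R : Subgroup Ω)))
  refine ⟨R, hR0, ?_, hRb⟩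
  by_contra hTS
  obtain ⟨U', hU'0, hU'fn, hU'b, hlt⟩ := descent hS F hF hD hD0 IH hRfn hRb hTS
  have h1 := hmax ⟨U', hU'0, hU'fn, hU'b⟩
  exact absurd hlt (not_lt.mpr h1)

end Cfsg.Agent.Lib.Helper1.KL
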