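import Mathlib
import Cfsg.Agent.Lib.Helper1.KL1
import Cfsg.Agent.Lib.Helper1.MaxInter
import Cfsg.Agent.Lib.Helper2.Cores
import Cfsg.Agent.S5086

set_option autoImplicit false
set_option linter.style.haveILetI false
set_option linter.unusedSectionVars false
set_option linter.unusedVariables false

/-! Kessar–Linckelmann reduction, part 3: `O_p(E)` is centric when `E/O_p(E)` is inner. -/

namespace Cfsg.Agent.Lib.Helper1.KL

open Cfsg Cfsg.FusionSystem Cfsg.Agent.Lib.Helper9 Cfsg.Agent.Lib.Helper1.KN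

variable {Ω : Type*} [Group Ω] {T : Subgroup Ω}

/-- `D ⊔ R` is strongly closed if `D` is strongly closed and `R` is normal -/
theorem stronglyClosed_sup_normal (E : FusionSystem T) {D R : Subgroup Ω}
    (hD : E.StronglyClosed D) (hR : E.IsNormal R) : E.StronglyClosed (D ⊔ R) := by
  refine ⟨_root_.sup_le hD.1 hR.1, fun X hX φ hφ x => ?_⟩
  obtain ⟨ψ, hψ, hψext, hψR⟩ := hR.2 X φ hφ
  obtain ⟨d, hd, r, hr, hxdr⟩ :=
    sup_decomp (fun a ha b hb => conj_mem_of_isNormal E hR (hD.1 ha) hb) (hX x.2)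
  have hdXR : d ∈ X ⊔ R := by
    have h1 : d = x * r⁻¹ := by rw [hxdr]; group
    rw [h1]
    exact Subgroup.mul_mem _ (Subgroup.mem_sup_left x.2) (Subgroup.mem_sup_right (R.inv_mem hr))
  have hrXR : r ∈ X ⊔ R := Subgroup.mem_sup_right hr
  have h1 : ψ ⟨d, hdXR⟩ ∈ D := by
    have hle : (X ⊔ R) ⊓ D ≤ X ⊔ R := inf_le_left
    exact hD.2 ((X ⊔ R) ⊓ D) inf_le_right _ (restrict_mem E hψ hle) ⟨d, hdXR, hd⟩
  have h2 : ψ ⟨r, hrXR⟩ ∈ R := hψR.le ⟨⟨r, hrXR⟩, Subgroup.mem_subgroupOf.mpr hr, rfl⟩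
  have h3 : φ x = ψ ⟨d, hdXR⟩ * ψ ⟨r, hrXR⟩ := by
    rw [← hψext x, ← map_mul]
    congr 1
    apply Subtype.ext
    exact hxdr
  rw [h3]
  exact Subgroup.mul_mem _ (Subgroup.mem_sup_left h1) (Subgroup.mem_sup_right h2)

/-- `R ⊔ C_T(R)` is strongly closed when `R` is normal -/
theorem stronglyClosed_sup_centralizer (E : FusionSystem T) {R : Subgroup Ω} (hR : E.IsNormal R) :
    E.StronglyClosed (R ⊔ centralizerIn T R) := by
  have hRT := hR.1
  refine ⟨_root_.sup_le hRT (centralizerIn_le T R), fun X hX φ hφ x => ?_⟩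
  obtain ⟨ψ, hψ, hψext, hψR⟩ := hR.2 X φ hφ
  have hnorm : ∀ a ∈ R, ∀ b ∈ centralizerIn T R, a * b * a⁻¹ ∈ centralizerIn T R := by
    intro a ha b hb
    have hab : a * b = b * a := Subgroup.mem_centralizer_iff.mp hb.2 a ha
    have h1 : a * b * a⁻¹ = b := by rw [hab]; group
    rw [h1]
    exact hb
  obtain ⟨r, hr, c, hc, hxrc⟩ := sup_decomp hnorm (hX x.2)
  have hrXR : r ∈ X ⊔ R := Subgroup.mem_sup_right hr
  have hcXR : c ∈ X ⊔ R := by
    have h1 : c = r⁻¹ * x := by rw [hxrc]; group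
    rw [h1]
    exact Subgroup.mul_mem _ (Subgroup.mem_sup_right (R.inv_mem hr)) (Subgroup.mem_sup_left x.2)
  have h1 : ψ ⟨r, hrXR⟩ ∈ R := hψR.le ⟨⟨r, hrXR⟩, Subgroup.mem_subgroupOf.mpr hr, rfl⟩
  have h2 : ψ ⟨c, hcXR⟩ ∈ centralizerIn T R := by
    refine ⟨hom_mem E hψ _, ?_⟩
    refine Subgroup.mem_centralizer_iff.mpr ?_
    intro r' hr'
    obtain ⟨r'', hr'', rfl⟩ := hψR.ge hr'
    have hr''R : (r'' : Ω) ∈ R := Subgroup.mem_subgroupOf.mp hr''
    rw [← map_mul, ← map_mul]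
    congr 1
    apply Subtype.ext
    exact Subgroup.mem_centralizer_iff.mp hc.2 _ hr''R
  have h3 : φ x = ψ ⟨r, hrXR⟩ * ψ ⟨c, hcXR⟩ := by
    rw [← hψext x, ← map_mul]
    congr 1
    apply Subtype.ext
    exact hxrc
  rw [h3]
  exact Subgroup.mul_mem _ (Subgroup.mem_sup_left h1) (Subgroup.mem_sup_right h2)

theorem pow_fix {P R : Subgroup Ω} (α : MulAut P) (hαR : ∀ y : P, (y : Ω) ∈ R → α y = y)
    (n : ℕ) (y : P) (hy : (y : Ω) ∈ R) : (α ^ n) y = y := by
  induction n with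
  | zero => simp
  | succ n ih => rw [pow_succ, MulAut.mul_apply, hαR y hy, ih]

/-- an automorphism of `P` that is trivial on `R` and acts on `P/R` as conjugation by an
element of the `p`-group `T` is a `p`-element -/
theorem aut_pow_eq_one [Finite T] {p : ℕ} [Fact p.Prime] (hT : IsPGroup p T) {R P : Subgroup Ω}
    (hRP : R ≤ P) (hPT : P ≤ T) (hRnorm : ∀ t ∈ T, ∀ r ∈ R, t * r * t⁻¹ ∈ R)
    (α : MulAut P) (hαR : ∀ y : P, (y : Ω) ∈ R → α y = y) {t : Ω} (ht : t ∈ T)
    (hstar : ∀ y : P, (t * y * t⁻¹)⁻¹ * ((α y : P) : Ω) ∈ R) : ∃ k : ℕ, α ^ (p ^ k) = 1 := by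
  have hRT : R ≤ T := hRP.trans hPT
  haveI : Finite R := finite_of_le hRT
  -- Claim A
  have hA : ∀ (n : ℕ) (y : P), ∃ r ∈ R, (((α ^ n) y : P) : Ω) = t ^ n * y * (t ^ n)⁻¹ * r := by
    intro n
    induction n with
    | zero => intro y; exact ⟨1, R.one_mem, by simp⟩
    | succ n ih =>
      intro y
      obtain ⟨r, hr, hy⟩ := ih y
      have hr' := hstar ((α ^ n) y)
      refine ⟨t * r * t⁻¹ * ((t * ((α ^ n) y : P) * t⁻¹)⁻¹ * ((α ((α ^ n) y) : P) : Ω)),
        R.mul_mem (hRnorm t ht r hr) hr', ?_⟩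
      have e1 : ((α ((α ^ n) y) : P) : Ω) = t * ((α ^ n) y : P) * t⁻¹ *
          ((t * ((α ^ n) y : P) * t⁻¹)⁻¹ * ((α ((α ^ n) y) : P) : Ω)) := by group
      rw [pow_succ' α, MulAut.mul_apply]
      conv_lhs => rw [e1]
      rw [hy, pow_succ']
      group
  obtain ⟨k, hk⟩ := hT ⟨t, ht⟩
  have hk' : t ^ (p ^ k) = 1 := by
    have := congrArg Subtype.val hk
    simpa using this
  -- β = α^(p^k) moves every element by an element of R
  have hB1 : ∀ y : P, ∃ r ∈ R, (((α ^ (p ^ k)) y : P) : Ω) = y * r := by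
    intro y
    obtain ⟨r, hr, hy⟩ := hA (p ^ k) y
    refine ⟨r, hr, ?_⟩
    rw [hy, hk']
    simp
  have hβR : ∀ y : P, (y : Ω) ∈ R → (α ^ (p ^ k)) y = y := fun y hy => pow_fix α hαR _ y hy
  have hB2 : ∀ (m : ℕ) (y : P) (r : Ω), r ∈ R → (((α ^ (p ^ k)) y : P) : Ω) = y * r →
      ((((α ^ (p ^ k)) ^ m) y : P) : Ω) = y * r ^ m := by
    intro m y r hr hy
    induction m with
    | zero => simp
    | succ m ih =>
      have hz : ((α ^ (p ^ k)) ^ m) y = y * ⟨r ^ m, hRP (R.pow_mem hr m)⟩ := Subtype.ext ih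
      rw [pow_succ' (α ^ (p ^ k)), MulAut.mul_apply, hz, map_mul,
        hβR ⟨r ^ m, hRP (R.pow_mem hr m)⟩ (R.pow_mem hr m)]
      show (((α ^ (p ^ k)) y : P) : Ω) * r ^ m = y * r ^ (m + 1)
      rw [hy, pow_succ', mul_assoc]
  obtain ⟨j, hj⟩ := (IsPGroup.iff_card).mp (isPGroup_of_le hT hRT)
  refine ⟨k + j, ?_⟩
  rw [pow_add, pow_mul]
  apply MulEquiv.ext
  intro y
  apply Subtype.ext
  obtain ⟨r, hr, hy⟩ := hB1 y
  rw [hB2 (p ^ j) y r hr hy, ← hj]
  have h1 : (⟨r, hr⟩ : R) ^ Nat.card R = 1 := pow_card_eq_one'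
  have h2 : r ^ Nat.card R = 1 := by
    have h3 := congrArg Subtype.val h1
    rw [Subgroup.coe_pow] at h3
    exact h3
  rw [h2]
  simp

/-- Step 3 of the reduction: if every automorphism acts on the quotient by `R` as an element of
`T`, and `R` is the largest normal subgroup containing `R`, then `R` is centric. -/
theorem centric_of_star [Finite T] {p : ℕ} [Fact p.Prime] (hT : IsPGroup p T) (E : FusionSystem T)
    (hE : E.IsSaturated p) {R : Subgroup Ω} (hRn : E.IsNormal R)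
    (hstar : ∀ (Y : Subgroup Ω) (α : MulAut Y), Y ≤ T → α ∈ E.autGroup Y →
      ∃ t ∈ T, ∀ y : Y, (t * y * t⁻¹)⁻¹ * ((α y : Y) : Ω) ∈ R)
    (hmaxn : ∀ Q' : Subgroup Ω, E.IsNormal Q' → R ≤ Q' → Q' = R) : E.IsCentric R := by
  have hRT := hRn.1
  haveI : Finite R := finite_of_le hRT
  have hsc := stronglyClosed_of_normal E hRn
  have hRnorm : ∀ t ∈ T, ∀ r ∈ R, t * r * t⁻¹ ∈ R :=
    fun t ht r hr => conj_mem_of_isNormal E hRn ht hr
  have hkey : ∀ P : Subgroup Ω, E.IsCentric P → E.IsRadical p P → centralizerIn T R ≤ P := by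
    intro P hPc hPr
    have hPT := hPc.1
    have hRP : R ≤ P := ((Cfsg.Agent.S5086.result p hT E hE R).mp hRn).2 P hPc hPr
    haveI : Finite P := finite_of_le hPT
    let C : Subgroup ↥(E.autGroup P) :=
      { carrier := {a | ∀ y : P, (y : Ω) ∈ R → (a : MulAut P) y = y}
        one_mem' := fun y _ => rfl
        mul_mem' := by
          intro a b ha hb y hy
          show (a : MulAut P) ((b : MulAut P) y) = y
          rw [hb y hy, ha y hy]
        inv_mem' := by
          intro a ha y hy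
          show (a : MulAut P)⁻¹ y = y
          have h1 := ha y hy
          calc (a : MulAut P)⁻¹ y = (a : MulAut P)⁻¹ ((a : MulAut P) y) := by rw [h1]
            _ = y := MulAut.inv_apply_self _ _ _ }
    have hpres : ∀ (b : ↥(E.autGroup P)) (y : P), (y : Ω) ∈ R →
        (((b : MulAut P) y : P) : Ω) ∈ R := by
      intro b y hy
      have hb := hom_of_mem_autGroup E hPT b.2
      exact hsc.2 R le_rfl _ (restrict_mem E hb hRP) ⟨y, hy⟩
    have hCn : C.Normal := by
      constructor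
      intro a ha b y hy
      show (b : MulAut P) ((a : MulAut P) ((b : MulAut P)⁻¹ y)) = y
      have h1 : ((((b⁻¹ : ↥(E.autGroup P)) : MulAut P) y : P) : Ω) ∈ R := hpres b⁻¹ y hy
      have h2 := ha _ h1
      have h3 : (a : MulAut P) ((b : MulAut P)⁻¹ y) = (b : MulAut P)⁻¹ y := h2
      rw [h3]
      exact MulAut.apply_inv_self _ _ _
    have hCp : IsPGroup p C := by
      intro c
      obtain ⟨t, ht, hst⟩ := hstar P ((c : ↥(E.autGroup P)) : MulAut P) hPT (c : ↥(E.autGroup P)).2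
      obtain ⟨k, hk⟩ := aut_pow_eq_one hT hRP hPT hRnorm ((c : ↥(E.autGroup P)) : MulAut P)
        c.2 ht hst
      refine ⟨k, ?_⟩
      apply Subtype.ext
      apply Subtype.ext
      rw [Subgroup.coe_pow, Subgroup.coe_pow]
      exact hk
    have hCle : C ≤ pCore p ↥(E.autGroup P) := Cfsg.Agent.Lib.Helper2.le_pCore hCp
    have hin : ∀ x ∈ centralizerIn T R, x ∈ Subgroup.normalizer (P : Set Ω) → x ∈ P := by
      intro x hx hxN
      have hconj : conjHom P x ∈ E.Hom P := E.conj_mem hPT hx.1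
      have hrange : (conjHom P x).range = P := by
        ext y
        constructor
        · rintro ⟨z, rfl⟩
          exact (Subgroup.mem_normalizer_iff.mp hxN z).mp z.2
        · intro hy
          have hy' : x⁻¹ * y * x ∈ P := by
            apply (Subgroup.mem_normalizer_iff.mp hxN _).mpr
            have e1 : x * (x⁻¹ * y * x) * x⁻¹ = y := by group
            rw [e1]
            exact hy
          refine ⟨⟨x⁻¹ * y * x, hy'⟩, ?_⟩
          show x * (x⁻¹ * y * x) * x⁻¹ = y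
          group
      obtain ⟨α, hα, hαx⟩ := exists_aut_of_hom E hconj hrange
      have hαC : (⟨α, hα⟩ : ↥(E.autGroup P)) ∈ C := by
        intro y hy
        apply Subtype.ext
        show ((α y : P) : Ω) = y
        rw [hαx]
        show x * y * x⁻¹ = y
        have e1 := Subgroup.mem_centralizer_iff.mp hx.2 y hy
        rw [← e1]
        group
      have h1 : α ∈ (pCore p ↥(E.autGroup P)).map (E.autGroup P).subtype :=
        ⟨⟨α, hα⟩, hCle hαC, rfl⟩
      rw [hPr.2] at h1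
      obtain ⟨y, hy⟩ := h1
      have h2 : ∀ g ∈ P, (y : Ω) * g * (y : Ω)⁻¹ = x * g * x⁻¹ := by
        intro g hg
        have e1 : ((MulAut.conj y ⟨g, hg⟩ : P) : Ω) = (y : Ω) * g * (y : Ω)⁻¹ := rfl
        rw [← e1, hy, hαx]
        rfl
      have h3 : (y : Ω)⁻¹ * x ∈ Subgroup.centralizer (P : Set Ω) := inv_mul_mem_centralizer h2
      have h4 : (y : Ω)⁻¹ * x ∈ centralizerIn T P :=
        ⟨T.mul_mem (T.inv_mem (hPT y.2)) hx.1, h3⟩
      have h5 := hPc.2 P (isConj_refl E hPT) h4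
      have e2 : x = y * ((y : Ω)⁻¹ * x) := by group
      rw [e2]
      exact P.mul_mem y.2 h5
    by_contra hnot
    have hHT : P ⊔ centralizerIn T R ≤ T := _root_.sup_le hPT (centralizerIn_le T R)
    have hlt : P < P ⊔ centralizerIn T R := by
      refine lt_of_le_of_ne le_sup_left (fun h => hnot ?_)
      have h1 : centralizerIn T R ≤ P ⊔ centralizerIn T R := le_sup_right
      rwa [← h] at h1
    haveI : Finite ↥(P ⊔ centralizerIn T R) := finite_of_le hHT
    have hnil : Group.IsNilpotent ↥(P ⊔ centralizerIn T R) := (isPGroup_of_le hT hHT).isNilpotent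
    obtain ⟨x, hxH, hxN, hxP⟩ :=
      Cfsg.Agent.Lib.Helper1.exists_mem_normalizer_not_mem_of_lt hnil hlt
    have hnorm : ∀ a ∈ P, ∀ b ∈ centralizerIn T R, a * b * a⁻¹ ∈ centralizerIn T R := by
      intro a ha b hb
      refine ⟨T.mul_mem (T.mul_mem (hPT ha) hb.1) (T.inv_mem (hPT ha)), ?_⟩
      refine Subgroup.mem_centralizer_iff.mpr ?_
      intro r hr
      have hr' : a⁻¹ * r * a ∈ R := by
        have := hRnorm a⁻¹ (T.inv_mem (hPT ha)) r hr
        simpa using this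
      have hc := Subgroup.mem_centralizer_iff.mp hb.2 _ hr'
      calc r * (a * b * a⁻¹) = a * ((a⁻¹ * r * a) * b) * a⁻¹ := by group
        _ = a * (b * (a⁻¹ * r * a)) * a⁻¹ := by rw [hc]
        _ = a * b * a⁻¹ * r := by group
    obtain ⟨a, ha, c, hc, hxac⟩ := sup_decomp hnorm hxH
    have hcN : c ∈ Subgroup.normalizer (P : Set Ω) := by
      have e1 : c = a⁻¹ * x := by rw [hxac]; group
      rw [e1]
      exact Subgroup.mul_mem _ (Subgroup.inv_mem _ (Subgroup.le_normalizer ha)) hxN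
    apply hxP
    rw [hxac]
    exact P.mul_mem ha (hin c hc hcN)
  have hQ'n : E.IsNormal (R ⊔ centralizerIn T R) := by
    rw [Cfsg.Agent.S5086.result p hT E hE]
    refine ⟨stronglyClosed_sup_centralizer E hRn, fun P hPc hPr =>
      _root_.sup_le ?_ (hkey P hPc hPr)⟩
    exact ((Cfsg.Agent.S5086.result p hT E hE R).mp hRn).2 P hPc hPr
  have hQ'R := hmaxn _ hQ'n le_sup_left
  have hCR : centralizerIn T R ≤ R := by
    have h1 : centralizerIn T R ≤ R ⊔ centralizerIn T R := le_sup_right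
    rwa [hQ'R] at h1
  refine ⟨hRT, ?_⟩
  rintro R' ⟨φ, hφ, rfl⟩
  have hr : φ.range = R := by
    have hle : φ.range ≤ R := by
      rintro _ ⟨x, rfl⟩
      exact hsc.2 R le_rfl φ hφ x
    apply Subgroup.eq_of_le_of_card_ge hle
    exact le_of_eq (Nat.card_congr (MonoidHom.ofInjective (E.injective_of_mem hφ)).toEquiv)
  rw [hr]
  exact hCR

end Cfsg.Agent.Lib.Helper1.KL
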