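import Mathlib
import Cfsg.Agent.Lib.Helper1.KL2
import Cfsg.Agent.Lib.Helper1.KL3
import Cfsg.Agent.Lib.Helper9.FactorSys8

set_option autoImplicit false
set_option linter.style.haveILetI false
set_option linter.unusedSectionVars false
set_option linter.unusedVariables false

/-! Kessar–Linckelmann reduction, part 4: passing to the quotient by a normal subgroup. -/

namespace Cfsg.Agent.Lib.Helper1.KL

open Cfsg Cfsg.FusionSystem Cfsg.Agent.Lib.Helper9 Cfsg.Agent.Lib.Helper1.KN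

universe u

variable {Ω : Type u} [Group Ω] {T : Subgroup Ω}

theorem star_or_le [Finite T] {p : ℕ} [Fact p.Prime] (hT : IsPGroup p T) (E : FusionSystem T)
    (hEsat : E.IsSaturated p) {R : Subgroup Ω} (hRn : E.IsNormal R) (hR0 : R ≠ ⊥)
    {D : Subgroup Ω} (hD : E.StronglyClosed D) (IH : IHyp.{u} p (Nat.card T))
    (hX : ∀ X : Subgroup Ω, R ≤ X → X ≤ T → Nat.card R < Nat.card X →
      (∀ t ∈ T, ∀ x ∈ X, t * x * t⁻¹ ∈ X) →
      ∀ (Z : Subgroup Ω) (ψ : Z →* Ω), ψ ∈ E.Hom Z → X ≤ Z → (X.subgroupOf Z).map ψ = X →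
        ∃ t ∈ T, ∀ z : Z, ψ z = t * z * t⁻¹) :
    (∀ (Y : Subgroup Ω) (α : MulAut Y), Y ≤ T → α ∈ E.autGroup Y →
      ∃ t ∈ T, ∀ y : Y, (t * y * t⁻¹)⁻¹ * ((α y : Y) : Ω) ∈ R) ∨ D ≤ R := by
  have hRT := hRn.1
  have hDT := hD.1
  haveI : Finite R := finite_of_le hRT
  have hsc := stronglyClosed_of_normal E hRn
  haveI : (R.subgroupOf T).Normal := ⟨fun n hn g => by
    rw [Subgroup.mem_subgroupOf] at hn ⊢
    show (g : Ω) * n * (g : Ω)⁻¹ ∈ R
    exact conj_mem_of_isNormal E hRn g.2 hn⟩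
  obtain ⟨θ, hθdef⟩ : ∃ θ : ↥T →* ↥T ⧸ R.subgroupOf T, θ = QuotientGroup.mk' (R.subgroupOf T) :=
    ⟨_, rfl⟩
  have hθsurj : Function.Surjective θ := by
    rw [hθdef]
    exact QuotientGroup.mk'_surjective _
  obtain ⟨Eb, hfac⟩ := exists_factorSystem_quotient E R hsc
  rw [← hθdef] at hfac
  have hker := hfac.2.1
  have hrange := hfac.2.2.1
  have hHom := hfac.2.2.2
  have hDR : E.StronglyClosed (D ⊔ R) := stronglyClosed_sup_normal E hD hRn
  have hDb := imageAlong_stronglyClosed E θ Eb hfac hDR le_sup_right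
  by_cases hDb0 : imageAlong θ (D ⊔ R) = ⊥
  · right
    intro d hd
    have h1 : θ ⟨d, hDT hd⟩ ∈ imageAlong θ (D ⊔ R) :=
      (mem_imageAlong θ _ _).mpr ⟨d, hDT hd, Subgroup.mem_sup_left hd, rfl⟩
    rw [hDb0, Subgroup.mem_bot] at h1
    exact (hker _).mp h1
  · left
    haveI : Finite (↥T ⧸ R.subgroupOf T) := inferInstance
    haveI : Finite ↥(⊤ : Subgroup (↥T ⧸ R.subgroupOf T)) := inferInstance
    have hS'p : IsPGroup p ↥(⊤ : Subgroup (↥T ⧸ R.subgroupOf T)) :=
      isPGroup_of_range_eq hT θ hrange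
    have hEbsat := factorSystem_saturated p hT E hEsat hsc θ Eb hfac
    have hcard : Nat.card ↥(⊤ : Subgroup (↥T ⧸ R.subgroupOf T)) < Nat.card T := by
      rw [Subgroup.card_top]
      have h1 := Subgroup.card_eq_card_quotient_mul_card_subgroup (R.subgroupOf T)
      have h2 : Nat.card ↥(R.subgroupOf T) = Nat.card R :=
        Nat.card_congr (Subgroup.subgroupOfEquivOfLe hRT).toEquiv
      have h3 : 1 < Nat.card R := (Subgroup.one_lt_card_iff_ne_bot R).mpr hR0
      have h4 : 0 < Nat.card (↥T ⧸ R.subgroupOf T) := Nat.card_pos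
      rw [h2] at h1
      nlinarith
    have hXble : centerThompsonAOf (imageAlong θ (D ⊔ R)) ≤ imageAlong θ (D ⊔ R) :=
      centerThompsonAOf_le' _
    have hXb0 : centerThompsonAOf (imageAlong θ (D ⊔ R)) ≠ ⊥ :=
      centerThompsonAOf_ne_bot' (isPGroup_of_le hS'p le_top) hDb0
    have hXbnorm : ∀ (g : ↥T ⧸ R.subgroupOf T),
        ∀ x ∈ centerThompsonAOf (imageAlong θ (D ⊔ R)),
          g * x * g⁻¹ ∈ centerThompsonAOf (imageAlong θ (D ⊔ R)) := by
      intro g x hx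
      apply conj_mem_centerThompsonAOf _ hx
      apply KN.mem_normalizer_of_forall_conj_mem
      intro y hy
      exact conj_mem_of_stronglyClosed Eb hDb (Subgroup.mem_top g) hy
    have hRX : R ≤ preimageAlong θ (centerThompsonAOf (imageAlong θ (D ⊔ R))) :=
      ker_le_preimageAlong θ hRT hker _
    have hXT : preimageAlong θ (centerThompsonAOf (imageAlong θ (D ⊔ R))) ≤ T :=
      preimageAlong_le θ _
    have himX : imageAlong θ (preimageAlong θ (centerThompsonAOf (imageAlong θ (D ⊔ R)))) =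
        centerThompsonAOf (imageAlong θ (D ⊔ R)) := imageAlong_preimageAlong θ hrange le_top
    haveI : Finite ↥(preimageAlong θ (centerThompsonAOf (imageAlong θ (D ⊔ R)))) :=
      finite_of_le hXT
    have hcardX : Nat.card R <
        Nat.card ↥(preimageAlong θ (centerThompsonAOf (imageAlong θ (D ⊔ R)))) := by
      by_contra hcon
      push Not at hcon
      have heq := Subgroup.eq_of_le_of_card_ge hRX hcon
      apply hXb0
      rw [← himX, ← heq, eq_bot_iff]
      intro y hy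
      obtain ⟨r, hrT, hrR, rfl⟩ := (mem_imageAlong θ R y).mp hy
      rw [Subgroup.mem_bot]
      exact (hker _).mpr hrR
    have hXnorm : ∀ t ∈ T, ∀ x ∈ preimageAlong θ (centerThompsonAOf (imageAlong θ (D ⊔ R))),
        t * x * t⁻¹ ∈ preimageAlong θ (centerThompsonAOf (imageAlong θ (D ⊔ R))) := by
      intro t ht x hx
      obtain ⟨hxT, hxθ⟩ := (mem_preimageAlong θ _ x).mp hx
      refine (mem_preimageAlong θ _ _).mpr ⟨T.mul_mem (T.mul_mem ht hxT) (T.inv_mem ht), ?_⟩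
      have e1 : (⟨t * x * t⁻¹, T.mul_mem (T.mul_mem ht hxT) (T.inv_mem ht)⟩ : T) =
          ⟨t, ht⟩ * ⟨x, hxT⟩ * ⟨t, ht⟩⁻¹ := rfl
      rw [e1, map_mul, map_mul, map_inv]
      exact hXbnorm _ _ hxθ
    have hNinner : ∀ Nb : FusionSystem (normalizerIn (⊤ : Subgroup (↥T ⧸ R.subgroupOf T))
        (centerThompsonAOf (imageAlong θ (D ⊔ R)))),
        Eb.IsNormalizerSystem (centerThompsonAOf (imageAlong θ (D ⊔ R))) Nb → InnerOn Nb := by
      intro Nb hNb Pb
      apply Set.Subset.antisymm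
      · intro φb hφb
        rw [hNb Pb] at hφb
        obtain ⟨hφbE, hPbN, hφbN, ψb, hψb, hψbext, hψbX⟩ := hφb
        obtain ⟨-, ψ, hψ, hZT, hψT, hZim, hind⟩ := (hHom _ ψb).mp hψb
        have hXZ : preimageAlong θ (centerThompsonAOf (imageAlong θ (D ⊔ R))) ≤
            preimageAlong θ (Pb ⊔ centerThompsonAOf (imageAlong θ (D ⊔ R))) :=
          preimageAlong_mono θ le_sup_right
        have hψX : ((preimageAlong θ (centerThompsonAOf (imageAlong θ (D ⊔ R)))).subgroupOf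
            (preimageAlong θ (Pb ⊔ centerThompsonAOf (imageAlong θ (D ⊔ R))))).map ψ =
            preimageAlong θ (centerThompsonAOf (imageAlong θ (D ⊔ R))) := by
          apply map_eq_of_forall_mem ψ (E.injective_of_mem hψ) hXZ
          intro z hz
          obtain ⟨hzT, hzθ⟩ := (mem_preimageAlong θ _ _).mp hz
          refine (mem_preimageAlong θ _ _).mpr ⟨hψT z, ?_⟩
          rw [← hind z]
          exact hψbX.le ⟨⟨θ ⟨z, hZT z.2⟩, hZim z⟩, Subgroup.mem_subgroupOf.mpr hzθ, rfl⟩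
        obtain ⟨t, ht, hψt⟩ := hX _ hRX hXT hcardX hXnorm _ ψ hψ hXZ hψX
        refine ⟨hPbN, θ ⟨t, ht⟩, ⟨Subgroup.mem_top _, ?_⟩, fun xb => ?_⟩
        · apply KN.mem_normalizer_of_forall_conj_mem
          intro y hy
          exact hXbnorm _ _ hy
        · obtain ⟨z, hz⟩ := hθsurj (xb : ↥T ⧸ R.subgroupOf T)
          have hzZ : (z : Ω) ∈
              preimageAlong θ (Pb ⊔ centerThompsonAOf (imageAlong θ (D ⊔ R))) := by
            refine (mem_preimageAlong θ _ _).mpr ⟨z.2, ?_⟩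
            show θ z ∈ Pb ⊔ centerThompsonAOf (imageAlong θ (D ⊔ R))
            rw [hz]
            exact Subgroup.mem_sup_left xb.2
          have e1 : (Subgroup.inclusion (le_sup_left : Pb ≤
              Pb ⊔ centerThompsonAOf (imageAlong θ (D ⊔ R))) xb) =
              ⟨θ ⟨(z : Ω), hZT hzZ⟩, hZim ⟨z, hzZ⟩⟩ := by
            apply Subtype.ext
            show (xb : ↥T ⧸ R.subgroupOf T) = θ z
            rw [hz]
          rw [← hψbext xb, e1, hind ⟨z, hzZ⟩]
          have e2 : (⟨ψ ⟨z, hzZ⟩, hψT ⟨z, hzZ⟩⟩ : T) = ⟨t, ht⟩ * z * ⟨t, ht⟩⁻¹ := by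
            apply Subtype.ext
            exact hψt ⟨z, hzZ⟩
          rw [e2, map_mul, map_mul, map_inv, hz]
      · exact innerFusionSystem_le Nb Pb
    have hEbin : InnerOn Eb := IH _ ⊤ hcard hS'p Eb hEbsat _ hDb hNinner
    have hmor := factor_isSurjectiveMorphism p hT E hEsat R hsc θ Eb hfac
    intro Y α hYT hα
    obtain ⟨φ', hφ', hY, hαT, hY', hind⟩ := hmor.1.2 Y _ (hom_of_mem_autGroup E hYT hα)
    rw [hEbin _] at hφ'
    obtain ⟨-, g, -, hg⟩ := hφ'
    obtain ⟨t, rfl⟩ := hθsurj g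
    refine ⟨t, t.2, fun y => ?_⟩
    have h1 : θ t * θ ⟨y, hY y.2⟩ * (θ t)⁻¹ = θ ⟨((α y : Y) : Ω), hαT y⟩ := by
      have h0 := hind y
      rw [hg] at h0
      exact h0
    have h2 : θ ((t * ⟨y, hY y.2⟩ * t⁻¹)⁻¹ * ⟨((α y : Y) : Ω), hαT y⟩) = 1 := by
      rw [map_mul, map_inv, map_mul, map_mul, map_inv, h1, inv_mul_cancel]
    exact (hker _).mp h2

end Cfsg.Agent.Lib.Helper1.KL
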