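import Mathlib
import Cfsg.Agent.Lib.Helper1.KL1
import Cfsg.Agent.Lib.Helper1.FusionControl
import Cfsg.Agent.Lib.Helper9.FactorSys1
import Cfsg.Agent.Lib.Helper2.Cores
import Cfsg.Agent.S3082

set_option autoImplicit false
set_option linter.style.haveILetI false
set_option linter.unusedSectionVars false
set_option linter.unusedVariables false

/-! Kessar–Linckelmann reduction, part 5: a constrained system whose model has `N_L(Z(J(D)))`
controlled by `T` is inner (Glauberman–Thompson for the model). -/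

namespace Cfsg.Agent.Lib.Helper1.KL

open Cfsg Cfsg.FusionSystem Cfsg.Agent.Lib.Helper9 Cfsg.Agent.Lib.Helper1.KN

variable {Ω : Type*} [Group Ω] {T : Subgroup Ω} {L : Type*} [Group L]

theorem exists_pull_conj (ι : ↥T →* L) (hinj : Function.Injective ι) {Q : Subgroup Ω}
    (hQT : Q ≤ T) (g : L) (hg : ∀ x : Q, g * ι ⟨x, hQT x.2⟩ * g⁻¹ ∈ ι.range) :
    ∃ φ : Q →* Ω, ∃ hφ : ∀ x, φ x ∈ T, ∀ x, ι ⟨φ x, hφ x⟩ = g * ι ⟨x, hQT x.2⟩ * g⁻¹ := by
  have hc : ∀ x : Q, ((MulAut.conj g).toMonoidHom.comp (ι.comp (Subgroup.inclusion hQT))) x ∈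
      ι.range := fun x => hg x
  refine ⟨T.subtype.comp ((MonoidHom.ofInjective hinj).symm.toMonoidHom.comp
    (((MulAut.conj g).toMonoidHom.comp (ι.comp (Subgroup.inclusion hQT))).codRestrict
      ι.range hc)), fun x => Subtype.property _, fun x => ?_⟩
  have h1 := (MonoidHom.ofInjective hinj).apply_symm_apply
    ((((MulAut.conj g).toMonoidHom.comp (ι.comp (Subgroup.inclusion hQT))).codRestrict
      ι.range hc) x)
  exact congrArg Subtype.val h1

/-- conjugation by `g` pulled back to the largest subgroup of `T` that it maps into `ι(T)` -/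
theorem exists_hom_of_conj (E : FusionSystem T) (ι : ↥T →* L) (hreal : E.IsRealizedBy ι) (g : L) :
    ∃ (Q₀ : Subgroup Ω) (hQ₀T : Q₀ ≤ T) (φ : Q₀ →* Ω) (hφT : ∀ x, φ x ∈ T), φ ∈ E.Hom Q₀ ∧
      (∀ x, ι ⟨φ x, hφT x⟩ = g * ι ⟨x, hQ₀T x.2⟩ * g⁻¹) ∧
      (∀ (x : Ω) (hx : x ∈ T), g * ι ⟨x, hx⟩ * g⁻¹ ∈ ι.range → x ∈ Q₀) := by
  have hQ₀T : preimageAlong ((MulAut.conj g).toMonoidHom.comp ι) ι.range ≤ T :=
    preimageAlong_le _ _
  have hg : ∀ x : ↥(preimageAlong ((MulAut.conj g).toMonoidHom.comp ι) ι.range),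
      g * ι ⟨x, hQ₀T x.2⟩ * g⁻¹ ∈ ι.range := by
    intro x
    obtain ⟨hx, h⟩ := (mem_preimageAlong _ _ _).mp x.2
    exact h
  obtain ⟨φ, hφ, hφι⟩ := exists_pull_conj ι hreal.1 hQ₀T g hg
  refine ⟨_, hQ₀T, φ, hφ, (hreal.2 _ hQ₀T φ hφ).mpr ⟨g, hφι⟩, hφι, fun x hx h => ?_⟩
  exact (mem_preimageAlong _ _ _).mpr ⟨hx, h⟩

theorem innerOn_of_model [Finite T] {p : ℕ} [Fact p.Prime] (hp : p ≠ 2) (hT : IsPGroup p T)
    (E : FusionSystem T) (ι : ↥T →* L) (hmodel : E.IsModel p L ι) {D : Subgroup Ω}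
    (hD : E.StronglyClosed D)
    (hW : ∀ (P : Subgroup Ω) (φ : P →* Ω), φ ∈ E.normalizerHom (centerThompsonAOf D) P →
      ∃ t ∈ T, ∀ x : P, φ x = t * x * t⁻¹) : InnerOn E := by
  obtain ⟨hfin, hreal, ⟨Sy, hSy⟩, hcent⟩ := hmodel
  haveI := hfin
  have hinj := hreal.1
  have hDT := hD.1
  have hWD : centerThompsonAOf D ≤ D := centerThompsonAOf_le' D
  have hWT : centerThompsonAOf D ≤ T := hWD.trans hDT
  haveI : Finite D := finite_of_le hDT
  haveI : Finite (centerThompsonAOf D) := finite_of_le hWT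
  have hTW : ∀ t ∈ T, ∀ w ∈ centerThompsonAOf D, t * w * t⁻¹ ∈ centerThompsonAOf D := by
    intro t ht w hw
    exact conj_mem_centerThompsonAOf (le_normalizer_of_stronglyClosed E hD ht) hw
  have hDLle : imageAlong ι D ≤ (Sy : Subgroup L) := by
    rw [hSy]
    rintro _ ⟨d, -, rfl⟩
    exact ⟨d, rfl⟩
  -- the image of `D` is strongly closed
  have hDLsc : Cfsg.IsStronglyClosed (imageAlong ι D) (Sy : Subgroup L) := by
    refine ⟨hDLle, ?_⟩
    rintro _ ⟨d, hd, rfl⟩ g hg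
    have hdD : (d : Ω) ∈ D := Subgroup.mem_subgroupOf.mp hd
    rw [hSy] at hg
    obtain ⟨Q₀, hQ₀T, φ, hφT, hφE, hφι, hQ₀mem⟩ := exists_hom_of_conj E ι hreal g
    have hdQ₀ : (d : Ω) ∈ Q₀ := hQ₀mem d d.2 hg
    have h1 := hD.2 (Q₀ ⊓ D) inf_le_right _ (restrict_mem E hφE inf_le_left) ⟨d, hdQ₀, hdD⟩
    exact (mem_imageAlong ι D _).mpr ⟨φ ⟨d, hdQ₀⟩, hφT _, h1, hφι ⟨d, hdQ₀⟩⟩
  -- `Z(J(ι D)) = ι(Z(J(D)))`
  have hr : (ι.comp (Subgroup.inclusion hDT)).range = imageAlong ι D := by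
    ext y
    constructor
    · rintro ⟨x, rfl⟩
      exact ⟨⟨x, hDT x.2⟩, Subgroup.mem_subgroupOf.mpr x.2, rfl⟩
    · rintro ⟨t, ht, rfl⟩
      exact ⟨⟨t, Subgroup.mem_subgroupOf.mp ht⟩, rfl⟩
  have hinj' : Function.Injective (ι.comp (Subgroup.inclusion hDT)) :=
    hinj.comp (Subgroup.inclusion_injective hDT)
  have hWL : ∀ x : ↥D, (x : Ω) ∈ centerThompsonAOf D ↔
      ι ⟨x, hDT x.2⟩ ∈ centerThompsonAOf (imageAlong ι D) :=
    fun x => mem_centerThompsonAOf_iff_of_hom _ hinj' hr x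
  have hWLle : centerThompsonAOf (imageAlong ι D) ≤ imageAlong ι D := centerThompsonAOf_le' _
  -- `ι(T)` normalizes `Z(J(ι D))`
  have hSyM : (Sy : Subgroup L) ≤
      Subgroup.normalizer (centerThompsonAOf (imageAlong ι D) : Set L) := by
    rw [hSy]
    rintro _ ⟨t, rfl⟩
    apply KN.mem_normalizer_of_forall_conj_mem
    intro y hy
    obtain ⟨d, hdT, hdD, rfl⟩ := (mem_imageAlong ι D y).mp (hWLle hy)
    have h1 : d ∈ centerThompsonAOf D := (hWL ⟨d, hdD⟩).mpr hy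
    have h2 := hTW t t.2 d h1
    have h3 := (hWL ⟨t * d * t⁻¹, hWD h2⟩).mp h2
    have h3' : ι (t * ⟨d, hdT⟩ * t⁻¹) ∈ centerThompsonAOf (imageAlong ι D) := h3
    rw [map_mul, map_mul, map_inv] at h3'
    exact h3'
  -- control of fusion in the normalizer
  have hctl : Cfsg.Agent.Lib.Helper1.ControlsOwnFusion (Sy.subtype hSyM) := by
    intro x hx g hgx
    have hx' : (x : L) ∈ (Sy : Subgroup L) := by
      have h0 : x ∈ ((Sy.subtype hSyM : Sylow p _) : Subgroup _) := hx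
      rw [Sylow.coe_subtype, Subgroup.mem_subgroupOf] at h0
      exact h0
    have hgx' : (g : L) * x * (g : L)⁻¹ ∈ (Sy : Subgroup L) := by
      have h0 : g * x * g⁻¹ ∈ ((Sy.subtype hSyM : Sylow p _) : Subgroup _) := hgx
      rw [Sylow.coe_subtype, Subgroup.mem_subgroupOf] at h0
      exact h0
    rw [hSy] at hx' hgx'
    obtain ⟨d', hd'⟩ := hx'
    obtain ⟨Q₀, hQ₀T, φ, hφT, hφE, hφι, hQ₀mem⟩ := exists_hom_of_conj E ι hreal (g : L)
    have hd'Q₀ : (d' : Ω) ∈ Q₀ := hQ₀mem d' d'.2 (by rw [hd']; exact hgx')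
    have hgN := g.2
    have hWQ₀ : centerThompsonAOf D ≤ Q₀ := by
      intro w hw
      apply hQ₀mem w (hWT hw)
      have h1 := (hWL ⟨w, hWD hw⟩).mp hw
      have h2 := (Subgroup.mem_normalizer_iff.mp hgN _).mp h1
      have h3 := hDLle (hWLle h2)
      rw [hSy] at h3
      exact h3
    -- `φ` preserves `W`
    have hφW : ∀ z : Q₀, (z : Ω) ∈ centerThompsonAOf D → φ z ∈ centerThompsonAOf D := by
      intro z hz
      have h1 := hD.2 (Q₀ ⊓ D) inf_le_right _ (restrict_mem E hφE inf_le_left) ⟨z, z.2, hWD hz⟩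
      have h1' : φ z ∈ D := h1
      apply (hWL ⟨φ z, h1'⟩).mpr
      have h2 := (hWL ⟨z, hWD hz⟩).mp hz
      have h3 := (Subgroup.mem_normalizer_iff.mp hgN _).mp h2
      rw [hφι z]
      exact h3
    have hmem : φ ∈ E.normalizerHom (centerThompsonAOf D) Q₀ := by
      have hle : Q₀ ⊔ centerThompsonAOf D ≤ Q₀ := _root_.sup_le le_rfl hWQ₀
      have hN : ∀ t ∈ T, t ∈ normalizerIn T (centerThompsonAOf D) := fun t ht =>
        ⟨ht, KN.mem_normalizer_of_forall_conj_mem (hTW t ht)⟩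
      refine ⟨hφE, fun z hz => hN z (hQ₀T hz), fun z => hN _ (hφT z),
        φ.comp (Subgroup.inclusion hle), restrict_mem E hφE hle, fun z => rfl, ?_⟩
      rw [map_subgroupOf_comp_inclusion_eq hle _ le_sup_right]
      exact map_eq_of_forall_mem φ (E.injective_of_mem hφE) hWQ₀ hφW
    obtain ⟨t, ht, hφt⟩ := hW Q₀ φ hmem
    have hιt : ι ⟨t, ht⟩ ∈ (Sy : Subgroup L) := by rw [hSy]; exact ⟨_, rfl⟩
    refine ⟨⟨ι ⟨t, ht⟩, hSyM hιt⟩, ?_, ?_⟩
    · have h0 : (⟨ι ⟨t, ht⟩, hSyM hιt⟩ :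
          ↥(Subgroup.normalizer (centerThompsonAOf (imageAlong ι D) : Set L))) ∈
          ((Sy.subtype hSyM : Sylow p _) : Subgroup _) := by
        rw [Sylow.coe_subtype, Subgroup.mem_subgroupOf]
        exact hιt
      exact h0
    · apply Subtype.ext
      show ι ⟨t, ht⟩ * (x : L) * (ι ⟨t, ht⟩)⁻¹ = (g : L) * x * (g : L)⁻¹
      rw [← hd']
      have h1 := hφι ⟨d', hd'Q₀⟩
      rw [← h1]
      have e1 : (⟨φ ⟨d', hd'Q₀⟩, hφT _⟩ : T) = ⟨t, ht⟩ * d' * ⟨t, ht⟩⁻¹ := by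
        apply Subtype.ext
        exact hφt ⟨d', hd'Q₀⟩
      rw [e1, map_mul, map_mul, map_inv]
  obtain ⟨K₀, hK₀n, hK₀c⟩ :=
    Cfsg.Agent.Lib.Helper1.normal_complement_of_controlsOwnFusion (Sy.subtype hSyM) hctl
  have hM : Cfsg.HasNormalPComplement p
      ↥(Subgroup.normalizer (centerThompsonAOf (imageAlong ι D) : Set L)) :=
    ⟨Sy.subtype hSyM, K₀, hK₀n, hK₀c⟩
  obtain ⟨P', K, hKn, hKc⟩ := Cfsg.Agent.S3082.result hp Sy (imageAlong ι D) hDLsc (Or.inl hM)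
  -- `K = ⊥`
  have hKcard : ¬ p ∣ Nat.card K := by
    have h1 := hKc.card_mul_card
    have h2 := (P' : Subgroup L).card_mul_index
    have h3 : 0 < Nat.card (P' : Subgroup L) := Nat.card_pos
    have h4 : Nat.card K = (P' : Subgroup L).index := by
      have : Nat.card K * Nat.card (P' : Subgroup L) = (P' : Subgroup L).index * Nat.card (P' : Subgroup L) := by
        rw [h1, mul_comm, h2]
      exact Nat.eq_of_mul_eq_mul_right h3 this
    rw [h4]
    exact P'.not_dvd_index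
  have hKbot : K = ⊥ := by
    obtain ⟨m, hm⟩ := (IsPGroup.iff_card).mp (Cfsg.Agent.Lib.Helper2.pCore_isPGroup (G := L) p)
    have hcop : (Nat.card K).Coprime (Nat.card (pCore p L)) := by
      rw [hm]
      apply Nat.Coprime.pow_right
      exact ((Nat.Prime.coprime_iff_not_dvd Fact.out).mpr hKcard).symm
    have hdisj : K ⊓ pCore p L = ⊥ := (Subgroup.disjoint_of_coprime_natCard hcop).eq_bot
    rw [eq_bot_iff]
    intro k hk
    have hkc : k ∈ Subgroup.centralizer ((pCore p L : Subgroup L) : Set L) := by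
      refine Subgroup.mem_centralizer_iff.mpr ?_
      intro x hx
      have h1 : k * x * k⁻¹ * x⁻¹ ∈ K ⊓ pCore p L := by
        constructor
        · have h2 : x * k⁻¹ * x⁻¹ ∈ K := hKn.conj_mem _ (K.inv_mem hk) x
          have e1 : k * x * k⁻¹ * x⁻¹ = k * (x * k⁻¹ * x⁻¹) := by group
          rw [e1]
          exact K.mul_mem hk h2
        · have h2 : k * x * k⁻¹ ∈ pCore p L := (inferInstance : (pCore p L).Normal).conj_mem _ hx k
          exact Subgroup.mul_mem _ h2 (Subgroup.inv_mem _ hx)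
      rw [hdisj, Subgroup.mem_bot] at h1
      calc x * k = (k * x * k⁻¹ * x⁻¹)⁻¹ * (k * x) := by group
        _ = k * x := by rw [h1]; group
    have h2 : k ∈ K ⊓ pCore p L := ⟨hk, hcent hkc⟩
    rw [hdisj] at h2
    exact h2
  have hP'top : (P' : Subgroup L) = ⊤ := by
    rw [hKbot] at hKc
    exact Subgroup.isComplement'_bot_left.mp hKc
  have hSytop : (Sy : Subgroup L) = ⊤ := by
    have h1 : IsPGroup p ↥(⊤ : Subgroup L) := by
      rw [← hP'top]
      exact P'.isPGroup'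
    exact (Sy.is_maximal' h1 le_top).symm
  have hιtop : ι.range = ⊤ := by rw [← hSy, hSytop]
  intro P
  apply Set.Subset.antisymm
  · intro φ hφ
    obtain ⟨hPT, hφT⟩ := E.le_of_mem hφ
    obtain ⟨g, hg⟩ := (hreal.2 P hPT φ hφT).mp hφ
    have hgr : g ∈ ι.range := by rw [hιtop]; exact Subgroup.mem_top g
    obtain ⟨t, rfl⟩ := hgr
    refine ⟨hPT, t, t.2, fun x => ?_⟩
    have h1 := hg x
    rw [← map_inv, ← map_mul, ← map_mul] at h1
    exact congrArg Subtype.val (hinj h1)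
  · exact innerFusionSystem_le E P

end Cfsg.Agent.Lib.Helper1.KL
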