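import Mathlib

set_option autoImplicit false
set_option linter.style.haveILetI false
set_option linter.unusedSectionVars false
set_option linter.unusedVariables false

namespace Cfsg.Agent.Lib.Helper1.Model

universe u v w x

theorem perm_apply_inv {Y : Type*} (g : Equiv.Perm Y) (y : Y) : g (g⁻¹ y) = y :=
  g.apply_symm_apply y

theorem perm_inv_apply {Y : Type*} (g : Equiv.Perm Y) (y : Y) : g⁻¹ (g y) = y :=
  g.symm_apply_apply y

variable {S : Type u} {Γ : Type v} {Z : Type w} [Group S] [Group Γ] [CommGroup Z]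

/-- An `S`-`S`-biset lying over the group `Γ` (through `π : S →* Γ`), free on the right, whose
fibres over `Γ` are torsors under the kernel `Z` of `π`. -/
structure Biset (π : S →* Γ) (j : Z →* S) (act : Γ →* MulAut Z) (Y : Type x) where
  l : S → Y → Y
  r : Y → S → Y
  p : Y → Γ
  l_one : ∀ y, l 1 y = y
  l_mul : ∀ a a' y, l (a * a') y = l a (l a' y)
  r_one : ∀ y, r y 1 = y
  r_mul : ∀ y b b', r (r y b) b' = r y (b * b')
  l_r : ∀ a y b, l a (r y b) = r (l a y) b
  p_l : ∀ a y, p (l a y) = π a * p y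
  p_r : ∀ y b, p (r y b) = p y * π b
  free : ∀ y b, r y b = y → b = 1
  fib : ∀ y y', p y = p y' → ∃ z : Z, y' = r y (j z)
  surj : Function.Surjective p
  compat : ∀ (z : Z) y, l (j z) y = r y (j (act (p y)⁻¹ z))

variable {π : S →* Γ} {j : Z →* S} {act : Γ →* MulAut Z} {Y : Type x}
variable (B : Biset π j act Y)

namespace Biset

theorem r_cancel {y : Y} {b b' : S} (h : B.r y b = B.r y b') : b = b' := by
  have h1 : B.r (B.r y b) (b⁻¹ * b') = B.r y b := by
    rw [B.r_mul, mul_inv_cancel_left, h]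
  have h2 := B.free _ _ h1
  exact inv_mul_eq_one.mp h2

theorem r_inv_cancel (y : Y) (b : S) : B.r (B.r y b) b⁻¹ = y := by
  rw [B.r_mul, mul_inv_cancel, B.r_one]

theorem r_inv_cancel' (y : Y) (b : S) : B.r (B.r y b⁻¹) b = y := by
  rw [B.r_mul, inv_mul_cancel, B.r_one]

theorem l_inv_cancel (a : S) (y : Y) : B.l a⁻¹ (B.l a y) = y := by
  rw [← B.l_mul, inv_mul_cancel, B.l_one]

theorem l_inv_cancel' (a : S) (y : Y) : B.l a (B.l a⁻¹ y) = y := by
  rw [← B.l_mul, mul_inv_cancel, B.l_one]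

theorem r_inj {y y' : Y} {b : S} (h : B.r y b = B.r y' b) : y = y' := by
  have := congrArg (fun t => B.r t b⁻¹) h
  simpa [B.r_inv_cancel] using this

/-- left multiplication as a permutation -/
def lperm (a : S) : Equiv.Perm Y where
  toFun := B.l a
  invFun := B.l a⁻¹
  left_inv := B.l_inv_cancel a
  right_inv := B.l_inv_cancel' a

@[simp] theorem lperm_apply (a : S) (y : Y) : B.lperm a y = B.l a y := rfl

/-- the right orbit relation -/
def rS : Setoid Y where
  r y y' := ∃ b, y' = B.r y b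
  iseqv :=
    { refl := fun y => ⟨1, (B.r_one y).symm⟩
      symm := by
        rintro y y' ⟨b, rfl⟩
        exact ⟨b⁻¹, (B.r_inv_cancel y b).symm⟩
      trans := by
        rintro y y' y'' ⟨b, rfl⟩ ⟨b', rfl⟩
        exact ⟨b * b', B.r_mul y b b'⟩ }

/-- the big group: right-equivariant permutations covering left multiplications of `Γ` -/
def Ehat : Subgroup (Equiv.Perm Y × Γ) where
  carrier := {g | (∀ y b, g.1 (B.r y b) = B.r (g.1 y) b) ∧ ∀ y, B.p (g.1 y) = g.2 * B.p y}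
  one_mem' := ⟨fun y b => rfl, fun y => by simp⟩
  mul_mem' := by
    rintro g h ⟨hg1, hg2⟩ ⟨hh1, hh2⟩
    refine ⟨fun y b => ?_, fun y => ?_⟩
    · show g.1 (h.1 (B.r y b)) = B.r (g.1 (h.1 y)) b
      rw [hh1, hg1]
    · show B.p (g.1 (h.1 y)) = (g.2 * h.2) * B.p y
      rw [hg2, hh2, mul_assoc]
  inv_mem' := by
    rintro g ⟨hg1, hg2⟩
    refine ⟨fun y b => ?_, fun y => ?_⟩
    · show g.1⁻¹ (B.r y b) = B.r (g.1⁻¹ y) b
      apply g.1.injective
      rw [hg1, perm_apply_inv, perm_apply_inv]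
    · show B.p (g.1⁻¹ y) = g.2⁻¹ * B.p y
      have := hg2 (g.1⁻¹ y)
      rw [perm_apply_inv] at this
      rw [this, inv_mul_cancel_left]

theorem mem_Ehat (g : Equiv.Perm Y × Γ) : g ∈ B.Ehat ↔
    (∀ y b, g.1 (B.r y b) = B.r (g.1 y) b) ∧ ∀ y, B.p (g.1 y) = g.2 * B.p y := Iff.rfl

/-- permutations of kernel type -/
def IsK (e : Equiv.Perm Y) : Prop :=
  (∀ y b, e (B.r y b) = B.r (e y) b) ∧ ∀ y, B.p (e y) = B.p y

theorem isK_iff (e : Equiv.Perm Y) : B.IsK e ↔ ((e, (1 : Γ)) : Equiv.Perm Y × Γ) ∈ B.Ehat := by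
  rw [mem_Ehat]
  constructor
  · rintro ⟨h1, h2⟩
    exact ⟨h1, fun y => by rw [h2]; simp⟩
  · rintro ⟨h1, h2⟩
    exact ⟨h1, fun y => by rw [h2]; simp⟩

theorem isK_of_mem {g : Equiv.Perm Y × Γ} (hg : g ∈ B.Ehat) (h1 : g.2 = 1) : B.IsK g.1 :=
  ⟨hg.1, fun y => by rw [hg.2, h1, one_mul]⟩

theorem isK_one : B.IsK 1 := ⟨fun _ _ => rfl, fun _ => rfl⟩

theorem isK_mul {e e' : Equiv.Perm Y} (he : B.IsK e) (he' : B.IsK e') : B.IsK (e * e') := by
  have h := B.Ehat.mul_mem ((B.isK_iff e).mp he) ((B.isK_iff e').mp he')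
  have h2 : ((e, (1 : Γ)) * (e', (1 : Γ)) : Equiv.Perm Y × Γ) = (e * e', 1) := by
    ext <;> simp
  rw [h2] at h
  exact (B.isK_iff _).mpr h

theorem isK_inv {e : Equiv.Perm Y} (he : B.IsK e) : B.IsK e⁻¹ := by
  have h := B.Ehat.inv_mem ((B.isK_iff e).mp he)
  have h2 : ((e, (1 : Γ))⁻¹ : Equiv.Perm Y × Γ) = (e⁻¹, 1) := by
    ext <;> simp
  rw [h2] at h
  exact (B.isK_iff _).mpr h

theorem isK_conj {g : Equiv.Perm Y × Γ} (hg : g ∈ B.Ehat) {k : Equiv.Perm Y} (hk : B.IsK k) :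
    B.IsK (g.1 * k * g.1⁻¹) := by
  have h := B.Ehat.mul_mem (B.Ehat.mul_mem hg ((B.isK_iff k).mp hk)) (B.Ehat.inv_mem hg)
  have h2 : (g * (k, (1 : Γ)) * g⁻¹ : Equiv.Perm Y × Γ) = (g.1 * k * g.1⁻¹, 1) := by
    ext <;> simp
  rw [h2] at h
  exact (B.isK_iff _).mpr h

open Classical in
/-- the `Z`-valued displacement of a permutation of kernel type -/
noncomputable def zeta (e : Equiv.Perm Y) (y : Y) : Z :=
  if h : ∃ z : Z, e y = B.r y (j z) then h.choose else 1

theorem zeta_spec {e : Equiv.Perm Y} (he : B.IsK e) (y : Y) :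
    e y = B.r y (j (B.zeta e y)) := by
  have h : ∃ z : Z, e y = B.r y (j z) := B.fib y (e y) (he.2 y).symm
  rw [zeta, dif_pos h]
  exact h.choose_spec

theorem zeta_unique (hj : Function.Injective j) {e : Equiv.Perm Y} (he : B.IsK e) {y : Y} {z : Z}
    (h : e y = B.r y (j z)) : B.zeta e y = z := by
  have h1 := B.zeta_spec he y
  rw [h] at h1
  exact (hj (B.r_cancel h1)).symm

theorem zeta_one (hj : Function.Injective j) (y : Y) : B.zeta (1 : Equiv.Perm Y) y = 1 := by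
  apply B.zeta_unique hj B.isK_one
  rw [map_one, B.r_one]
  rfl

theorem zeta_mul (hj : Function.Injective j) {e e' : Equiv.Perm Y} (he : B.IsK e)
    (he' : B.IsK e') (y : Y) : B.zeta (e * e') y = B.zeta e y * B.zeta e' y := by
  apply B.zeta_unique hj (B.isK_mul he he')
  show e (e' y) = _
  rw [B.zeta_spec he' y, he.1, B.zeta_spec he y, B.r_mul, map_mul]

theorem zeta_r (hj : Function.Injective j)
    (hact : ∀ (s : S) (z : Z), j (act (π s) z) = s * j z * s⁻¹)
    {e : Equiv.Perm Y} (he : B.IsK e) (y : Y) (b : S) :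
    B.zeta e (B.r y b) = act (π b)⁻¹ (B.zeta e y) := by
  apply B.zeta_unique hj he
  rw [he.1, B.zeta_spec he y, B.r_mul, B.r_mul, ← map_inv, hact]
  congr 1
  group

/-- the twisted displacement -/
noncomputable def Phi (e : Equiv.Perm Y) (y : Y) : Z := act (B.p y) (B.zeta e y)

theorem Phi_r (hj : Function.Injective j)
    (hact : ∀ (s : S) (z : Z), j (act (π s) z) = s * j z * s⁻¹)
    {e : Equiv.Perm Y} (he : B.IsK e) (y : Y) (b : S) : B.Phi e (B.r y b) = B.Phi e y := by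
  unfold Phi
  rw [B.zeta_r hj hact he, B.p_r, map_mul, MulAut.mul_apply, map_inv, MulAut.apply_inv_self]

theorem Phi_rel (hj : Function.Injective j)
    (hact : ∀ (s : S) (z : Z), j (act (π s) z) = s * j z * s⁻¹)
    {e : Equiv.Perm Y} (he : B.IsK e) {y y' : Y} (h : B.rS.r y y') : B.Phi e y' = B.Phi e y := by
  obtain ⟨b, rfl⟩ := h
  exact B.Phi_r hj hact he y b

theorem Phi_one (hj : Function.Injective j) (y : Y) : B.Phi (1 : Equiv.Perm Y) y = 1 := by
  unfold Phi
  rw [B.zeta_one hj, map_one]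

theorem Phi_mul (hj : Function.Injective j) {e e' : Equiv.Perm Y} (he : B.IsK e)
    (he' : B.IsK e') (y : Y) : B.Phi (e * e') y = B.Phi e y * B.Phi e' y := by
  unfold Phi
  rw [B.zeta_mul hj he he', map_mul]

theorem zeta_conj (hj : Function.Injective j) {g : Equiv.Perm Y × Γ} (hg : g ∈ B.Ehat)
    {k : Equiv.Perm Y} (hk : B.IsK k) (y : Y) :
    B.zeta (g.1 * k * g.1⁻¹) y = B.zeta k (g.1⁻¹ y) := by
  apply B.zeta_unique hj (B.isK_conj hg hk)
  show g.1 (k (g.1⁻¹ y)) = _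
  rw [B.zeta_spec hk (g.1⁻¹ y), hg.1, perm_apply_inv]

theorem Phi_conj (hj : Function.Injective j) {g : Equiv.Perm Y × Γ} (hg : g ∈ B.Ehat)
    {k : Equiv.Perm Y} (hk : B.IsK k) (y : Y) :
    B.Phi (g.1 * k * g.1⁻¹) y = act g.2 (B.Phi k (g.1⁻¹ y)) := by
  unfold Phi
  rw [B.zeta_conj hj hg hk]
  have h1 : B.p y = g.2 * B.p (g.1⁻¹ y) := by
    rw [← hg.2, perm_apply_inv]
  rw [h1, map_mul, MulAut.mul_apply]

theorem zeta_lperm (hj : Function.Injective j) (hπj : ∀ z, π (j z) = 1) (z : Z) (y : Y) :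
    B.zeta (B.lperm (j z)) y = act (B.p y)⁻¹ z := by
  have hK : B.IsK (B.lperm (j z)) :=
    ⟨fun y b => B.l_r _ y b, fun y => by rw [lperm_apply, B.p_l, hπj, one_mul]⟩
  apply B.zeta_unique hj hK
  rw [lperm_apply, B.compat]

theorem isK_lperm (hπj : ∀ z, π (j z) = 1) (z : Z) : B.IsK (B.lperm (j z)) :=
  ⟨fun y b => B.l_r _ y b, fun y => by rw [lperm_apply, B.p_l, hπj, one_mul]⟩

theorem Phi_lperm (hj : Function.Injective j) (hπj : ∀ z, π (j z) = 1) (z : Z) (y : Y) :
    B.Phi (B.lperm (j z)) y = z := by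
  unfold Phi
  rw [B.zeta_lperm hj hπj, map_inv, MulAut.apply_inv_self]

section norm

variable [Finite Y]

/-- the norm map on permutations of kernel type -/
noncomputable def Nrm (e : Equiv.Perm Y) : Z :=
  letI := Fintype.ofFinite (Quotient B.rS)
  ∏ i : Quotient B.rS, B.Phi e (Quotient.out i)

theorem Nrm_one (hj : Function.Injective j) : B.Nrm (1 : Equiv.Perm Y) = 1 := by
  unfold Nrm
  apply Finset.prod_eq_one
  intro i _
  exact B.Phi_one hj _

theorem Nrm_mul (hj : Function.Injective j) {e e' : Equiv.Perm Y} (he : B.IsK e)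
    (he' : B.IsK e') : B.Nrm (e * e') = B.Nrm e * B.Nrm e' := by
  unfold Nrm
  rw [← Finset.prod_mul_distrib]
  apply Finset.prod_congr rfl
  intro i _
  exact B.Phi_mul hj he he' _

theorem Nrm_inv (hj : Function.Injective j) {e : Equiv.Perm Y} (he : B.IsK e) :
    B.Nrm e⁻¹ = (B.Nrm e)⁻¹ := by
  have h := B.Nrm_mul hj he (B.isK_inv he)
  rw [mul_inv_cancel, B.Nrm_one hj] at h
  exact eq_inv_of_mul_eq_one_right h.symm

theorem Nrm_conj (hj : Function.Injective j)
    (hact : ∀ (s : S) (z : Z), j (act (π s) z) = s * j z * s⁻¹)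
    {g : Equiv.Perm Y × Γ} (hg : g ∈ B.Ehat) {k : Equiv.Perm Y} (hk : B.IsK k) :
    B.Nrm (g.1 * k * g.1⁻¹) = act g.2 (B.Nrm k) := by
  unfold Nrm
  letI := Fintype.ofFinite (Quotient B.rS)
  rw [map_prod]
  have hginv := B.Ehat.inv_mem hg
  -- the induced permutation of right orbits
  let τ : Quotient B.rS → Quotient B.rS := fun i => Quotient.mk B.rS (g.1⁻¹ (Quotient.out i))
  have hτ : ∀ i, B.Phi k (g.1⁻¹ (Quotient.out i)) = B.Phi k (Quotient.out (τ i)) := by
    intro i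
    have h1 : B.rS.r (Quotient.out (τ i)) (g.1⁻¹ (Quotient.out i)) :=
      Quotient.exact (Quotient.out_eq (τ i))
    exact B.Phi_rel hj hact hk h1
  have hτinj : Function.Injective τ := by
    intro i i' h
    have h1 : B.rS.r (g.1⁻¹ (Quotient.out i)) (g.1⁻¹ (Quotient.out i')) := Quotient.exact h
    obtain ⟨b, hb⟩ := h1
    have h2 : g.1⁻¹ (Quotient.out i') = g.1⁻¹ (B.r (Quotient.out i) b) := by
      rw [hb]
      exact (hginv.1 _ _).symm
    have h3 : Quotient.out i' = B.r (Quotient.out i) b := (g.1⁻¹).injective h2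
    have h4 : Quotient.mk B.rS (Quotient.out i) = Quotient.mk B.rS (Quotient.out i') :=
      Quotient.sound ⟨b, h3⟩
    rw [Quotient.out_eq, Quotient.out_eq] at h4
    exact h4
  have hτbij : Function.Bijective τ := Finite.injective_iff_bijective.mp hτinj
  calc ∏ i : Quotient B.rS, B.Phi (g.1 * k * g.1⁻¹) (Quotient.out i)
      = ∏ i : Quotient B.rS, act g.2 (B.Phi k (Quotient.out (τ i))) := by
        apply Finset.prod_congr rfl
        intro i _
        rw [B.Phi_conj hj hg hk, hτ]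
    _ = ∏ i : Quotient B.rS, act g.2 (B.Phi k (Quotient.out i)) :=
        hτbij.prod_comp (fun i => act g.2 (B.Phi k (Quotient.out i)))

theorem Nrm_lperm (hj : Function.Injective j) (hπj : ∀ z, π (j z) = 1) (z : Z) :
    B.Nrm (B.lperm (j z)) = z ^ Nat.card (Quotient B.rS) := by
  unfold Nrm
  letI := Fintype.ofFinite (Quotient B.rS)
  rw [Finset.prod_congr rfl (fun i _ => B.Phi_lperm hj hπj z _), Finset.prod_const,
    Finset.card_univ, Nat.card_eq_fintype_card]

end norm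

end Biset

end Cfsg.Agent.Lib.Helper1.Model
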