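import Mathlib
import Cfsg.Agent.Lib.Helper1.Model1

set_option autoImplicit false
set_option linter.style.haveILetI false
set_option linter.unusedSectionVars false
set_option linter.unusedVariables false

namespace Cfsg.Agent.Lib.Helper1.Model

universe u v w x

variable {S : Type u} {Γ : Type v} {Z : Type w} [Group S] [Group Γ] [CommGroup Z]
variable {π : S →* Γ} {j : Z →* S} {act : Γ →* MulAut Z} {Y : Type x}
variable (B : Biset π j act Y)

namespace Biset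

/-- the left action as a homomorphism into the big group -/
def iotaHat : S →* B.Ehat where
  toFun s := ⟨(B.lperm s, π s), ⟨fun y b => B.l_r s y b, fun y => B.p_l s y⟩⟩
  map_one' := by
    apply Subtype.ext
    apply Prod.ext
    · show B.lperm 1 = 1
      ext y
      exact B.l_one y
    · exact map_one π
  map_mul' := fun s s' => by
    apply Subtype.ext
    apply Prod.ext
    · show B.lperm (s * s') = B.lperm s * B.lperm s'
      ext y
      exact B.l_mul s s' y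
    · exact map_mul π s s'

theorem iotaHat_fst (s : S) : (B.iotaHat s).1.1 = B.lperm s := rfl

theorem iotaHat_snd (s : S) : (B.iotaHat s).1.2 = π s := rfl

/-- the projection of the big group to `Γ` -/
def thetaHat : B.Ehat →* Γ := (MonoidHom.snd (Equiv.Perm Y) Γ).comp B.Ehat.subtype

theorem thetaHat_apply (g : B.Ehat) : B.thetaHat g = g.1.2 := rfl

section cover

variable [Finite Y]

/-- the covering/stability lemma -/
theorem exists_cover (γ : Γ) (X : Subgroup S) (ψ : S → S)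
    (hψmul : ∀ x ∈ X, ∀ x' ∈ X, ψ (x * x') = ψ x * ψ x')
    (hψπ : ∀ x ∈ X, π (ψ x) = γ * π x * γ⁻¹)
    (hpt : ∀ y₀ : Y, ∃ y₀' : Y, B.p y₀' = γ * B.p y₀ ∧
      ∀ x ∈ X, ∀ b, B.l x y₀ = B.r y₀ b → B.l (ψ x) y₀' = B.r y₀' b) :
    ∃ g : B.Ehat, g.1.2 = γ ∧ ∀ x ∈ X, g * B.iotaHat x * g⁻¹ = B.iotaHat (ψ x) := by
  classical
  let R : Setoid Y :=
    { r := fun y y' => ∃ x ∈ X, ∃ b, y' = B.r (B.l x y) b
      iseqv :=
        { refl := fun y => ⟨1, X.one_mem, 1, by rw [B.l_one, B.r_one]⟩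
          symm := by
            rintro y y' ⟨x, hx, b, rfl⟩
            refine ⟨x⁻¹, X.inv_mem hx, b⁻¹, ?_⟩
            rw [B.l_r, B.l_inv_cancel, B.r_inv_cancel]
          trans := by
            rintro y y' y'' ⟨x, hx, b, rfl⟩ ⟨x', hx', b', rfl⟩
            refine ⟨x' * x, X.mul_mem hx' hx, b * b', ?_⟩
            rw [B.l_r, B.r_mul, B.l_mul] } }
  choose c hc1 hc2 using hpt
  let ρ : Y → Y := fun y => Quotient.out (Quotient.mk R y)
  have hρ : ∀ y, ∃ x ∈ X, ∃ b, y = B.r (B.l x (ρ y)) b := fun y =>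
    Quotient.exact (Quotient.out_eq (Quotient.mk R y))
  choose xs hxs bs hbs using hρ
  let e : Y → Y := fun y => B.r (B.l (ψ (xs y)) (c (ρ y))) (bs y)
  have hWD : ∀ (y₀ : Y) (x₁ : S) (hx₁ : x₁ ∈ X) (x₂ : S) (hx₂ : x₂ ∈ X) (b₁ b₂ : S),
      B.r (B.l x₁ y₀) b₁ = B.r (B.l x₂ y₀) b₂ →
      B.r (B.l (ψ x₁) (c y₀)) b₁ = B.r (B.l (ψ x₂) (c y₀)) b₂ := by
    intro y₀ x₁ hx₁ x₂ hx₂ b₁ b₂ h
    have hx : x₂⁻¹ * x₁ ∈ X := X.mul_mem (X.inv_mem hx₂) hx₁
    have h1 : B.l (x₂⁻¹ * x₁) y₀ = B.r y₀ (b₂ * b₁⁻¹) := by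
      have h2 : B.l x₁ y₀ = B.r (B.l x₂ y₀) (b₂ * b₁⁻¹) := by
        rw [← B.r_mul, ← h, B.r_inv_cancel]
      rw [B.l_mul, h2, B.l_r, B.l_inv_cancel]
    have h3 := hc2 y₀ _ hx _ h1
    have h4 : ψ x₁ = ψ x₂ * ψ (x₂⁻¹ * x₁) := by
      rw [← hψmul x₂ hx₂ _ hx, mul_inv_cancel_left]
    rw [h4, B.l_mul, h3, B.l_r, B.r_mul, inv_mul_cancel_right]
  have hρr : ∀ y b, ρ (B.r y b) = ρ y := by
    intro y b
    have h : Quotient.mk R (B.r y b) = Quotient.mk R y :=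
      Quotient.sound ⟨1, X.one_mem, b⁻¹, by rw [B.l_one, B.r_inv_cancel]⟩
    show Quotient.out (Quotient.mk R (B.r y b)) = Quotient.out (Quotient.mk R y)
    rw [h]
  have hρl : ∀ x ∈ X, ∀ y, ρ (B.l x y) = ρ y := by
    intro x hx y
    have h : Quotient.mk R (B.l x y) = Quotient.mk R y :=
      Quotient.sound ⟨x⁻¹, X.inv_mem hx, 1, by rw [B.l_inv_cancel, B.r_one]⟩
    show Quotient.out (Quotient.mk R (B.l x y)) = Quotient.out (Quotient.mk R y)
    rw [h]
  have he1 : ∀ y b, e (B.r y b) = B.r (e y) b := by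
    intro y b
    have h1 := hbs (B.r y b)
    rw [hρr] at h1
    have h2 := hbs y
    have h3 : B.r (B.l (xs (B.r y b)) (ρ y)) (bs (B.r y b)) =
        B.r (B.l (xs y) (ρ y)) (bs y * b) := by
      rw [← h1, ← B.r_mul, ← h2]
    have h4 := hWD (ρ y) _ (hxs _) _ (hxs y) _ _ h3
    show B.r (B.l (ψ (xs (B.r y b))) (c (ρ (B.r y b)))) (bs (B.r y b)) =
      B.r (B.r (B.l (ψ (xs y)) (c (ρ y))) (bs y)) b
    rw [hρr, h4, B.r_mul]
  have he2 : ∀ x ∈ X, ∀ y, e (B.l x y) = B.l (ψ x) (e y) := by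
    intro x hx y
    have h1 := hbs (B.l x y)
    rw [hρl x hx] at h1
    have h2 := hbs y
    have h3 : B.r (B.l (xs (B.l x y)) (ρ y)) (bs (B.l x y)) =
        B.r (B.l (x * xs y) (ρ y)) (bs y) := by
      rw [← h1, B.l_mul, ← B.l_r, ← h2]
    have h4 := hWD (ρ y) _ (hxs _) _ (X.mul_mem hx (hxs y)) _ _ h3
    show B.r (B.l (ψ (xs (B.l x y))) (c (ρ (B.l x y)))) (bs (B.l x y)) =
      B.l (ψ x) (B.r (B.l (ψ (xs y)) (c (ρ y))) (bs y))
    rw [hρl x hx, h4, hψmul x hx _ (hxs y), B.l_mul, B.l_r]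
  have he3 : ∀ y, B.p (e y) = γ * B.p y := by
    intro y
    have h2 := hbs y
    show B.p (B.r (B.l (ψ (xs y)) (c (ρ y))) (bs y)) = γ * B.p y
    rw [B.p_r, B.p_l, hc1, hψπ _ (hxs y)]
    conv_rhs => rw [h2, B.p_r, B.p_l]
    group
  have heinj : Function.Injective e := by
    intro y y' h
    have h1 : B.p y = B.p y' := by
      have := congrArg B.p h
      rw [he3, he3] at this
      exact mul_left_cancel this
    obtain ⟨z, rfl⟩ := B.fib y y' h1
    rw [he1] at h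
    have := B.free _ _ h.symm
    rw [this, B.r_one]
  have hbij : Function.Bijective e := Finite.injective_iff_bijective.mp heinj
  let E : Equiv.Perm Y := Equiv.ofBijective e hbij
  have hE : ((E, γ) : Equiv.Perm Y × Γ) ∈ B.Ehat := ⟨fun y b => he1 y b, fun y => he3 y⟩
  refine ⟨⟨(E, γ), hE⟩, rfl, ?_⟩
  intro x hx
  apply Subtype.ext
  apply Prod.ext
  · show E * B.lperm x * E⁻¹ = B.lperm (ψ x)
    ext y
    show E (B.l x (E⁻¹ y)) = B.l (ψ x) y
    have h : E (B.l x (E⁻¹ y)) = B.l (ψ x) (E (E⁻¹ y)) := he2 x hx _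
    rw [h, perm_apply_inv]
  · show γ * π x * γ⁻¹ = π (ψ x)
    exact (hψπ x hx).symm

theorem thetaHat_surjective : Function.Surjective B.thetaHat := by
  intro γ
  obtain ⟨g, hg, -⟩ := B.exists_cover γ ⊥ (fun _ => 1)
    (fun x _ x' _ => (mul_one 1).symm)
    (fun x hx => by
      rw [Subgroup.mem_bot] at hx
      rw [hx, map_one, mul_one, mul_inv_cancel])
    (fun y₀ => by
      obtain ⟨y₀', hy₀'⟩ := B.surj (γ * B.p y₀)
      refine ⟨y₀', hy₀', ?_⟩
      intro x hx b h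
      rw [Subgroup.mem_bot] at hx
      rw [hx, B.l_one] at h
      have hb : b = 1 := B.free _ _ h.symm
      rw [hb, B.l_one, B.r_one])
  exact ⟨g, hg⟩

/-- the number of right orbits is the index of the image of `S` in `Γ` -/
theorem card_orbits : Nat.card (Quotient B.rS) = π.range.index := by
  rw [Subgroup.index_eq_card]
  let f : Quotient B.rS → Γ ⧸ π.range :=
    Quotient.lift (fun y => (QuotientGroup.mk (B.p y) : Γ ⧸ π.range)) (by
      rintro y y' ⟨b, rfl⟩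
      apply QuotientGroup.eq.mpr
      rw [B.p_r, inv_mul_cancel_left]
      exact ⟨b, rfl⟩)
  have hf : Function.Bijective f := by
    constructor
    · rintro ⟨y⟩ ⟨y'⟩ h
      have h1 : (B.p y)⁻¹ * B.p y' ∈ π.range := QuotientGroup.eq.mp h
      obtain ⟨b, hb⟩ := h1
      have h2 : B.p (B.r y b) = B.p y' := by
        rw [B.p_r, hb, mul_inv_cancel_left]
      obtain ⟨z, hz⟩ := B.fib _ _ h2
      apply Quotient.sound
      exact ⟨b * j z, by rw [hz, B.r_mul]⟩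
    · intro q
      obtain ⟨γ, rfl⟩ := QuotientGroup.mk_surjective q
      obtain ⟨y, rfl⟩ := B.surj γ
      exact ⟨Quotient.mk B.rS y, rfl⟩
  exact Nat.card_congr (Equiv.ofBijective f hf)

end cover

section quotient

variable [Finite Y]
variable (hj : Function.Injective j)

/-- the kernel of the norm -/
def Ksub : Subgroup B.Ehat where
  carrier := {g | g.1.2 = 1 ∧ B.Nrm g.1.1 = 1}
  one_mem' := ⟨rfl, B.Nrm_one hj⟩
  mul_mem' := by
    rintro g h ⟨hg1, hg2⟩ ⟨hh1, hh2⟩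
    refine ⟨?_, ?_⟩
    · show g.1.2 * h.1.2 = 1
      rw [hg1, hh1, mul_one]
    · show B.Nrm (g.1.1 * h.1.1) = 1
      rw [B.Nrm_mul hj (B.isK_of_mem g.2 hg1) (B.isK_of_mem h.2 hh1), hg2, hh2, mul_one]
  inv_mem' := by
    rintro g ⟨hg1, hg2⟩
    refine ⟨?_, ?_⟩
    · show g.1.2⁻¹ = 1
      rw [hg1, inv_one]
    · show B.Nrm (g.1.1⁻¹) = 1
      rw [B.Nrm_inv hj (B.isK_of_mem g.2 hg1), hg2, inv_one]

theorem mem_Ksub (g : B.Ehat) : g ∈ B.Ksub hj ↔ g.1.2 = 1 ∧ B.Nrm g.1.1 = 1 := Iff.rfl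

theorem Ksub_normal (hact : ∀ (s : S) (z : Z), j (act (π s) z) = s * j z * s⁻¹) :
    (B.Ksub hj).Normal := by
  constructor
  intro k hk g
  obtain ⟨hk1, hk2⟩ := hk
  refine ⟨?_, ?_⟩
  · show g.1.2 * k.1.2 * g.1.2⁻¹ = 1
    rw [hk1, mul_one, mul_inv_cancel]
  · show B.Nrm (g.1.1 * k.1.1 * g.1.1⁻¹) = 1
    rw [B.Nrm_conj hj hact g.2 (B.isK_of_mem k.2 hk1), hk2, map_one]

end quotient

/-- **The extension theorem.**  From a biset over `Γ` we get a group `G` containing `S`, mapping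
onto `Γ` with kernel (the image of) `Z`, in which every "stable" partial map of `S` is induced by
conjugation. -/
theorem exists_extension [Finite Y] [Finite Γ] (hj : Function.Injective j)
    (hπj : ∀ z, π (j z) = 1) (hker : ∀ s, π s = 1 → ∃ z, j z = s)
    (hact : ∀ (s : S) (z : Z), j (act (π s) z) = s * j z * s⁻¹)
    (hcop : (Nat.card Z).Coprime π.range.index) :
    ∃ (G : Type (max x v)) (_ : Group G) (_ : Finite G) (ι : S →* G) (θ : G →* Γ),
      Function.Injective ι ∧ Function.Surjective θ ∧ (∀ s, θ (ι s) = π s) ∧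
      (∀ g, θ g = 1 → ∃ z, g = ι (j z)) ∧
      ∀ (γ : Γ) (X : Subgroup S) (ψ : S → S),
        (∀ x ∈ X, ∀ x' ∈ X, ψ (x * x') = ψ x * ψ x') →
        (∀ x ∈ X, π (ψ x) = γ * π x * γ⁻¹) →
        (∀ y₀ : Y, ∃ y₀' : Y, B.p y₀' = γ * B.p y₀ ∧
          ∀ x ∈ X, ∀ b, B.l x y₀ = B.r y₀ b → B.l (ψ x) y₀' = B.r y₀' b) →
        ∃ g : G, θ g = γ ∧ ∀ x ∈ X, g * ι x * g⁻¹ = ι (ψ x) := by
  haveI := B.Ksub_normal hj hact
  have hcop' : (Nat.card Z).Coprime (Nat.card (Quotient B.rS)) := by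
    rw [B.card_orbits]
    exact hcop
  have hle : B.Ksub hj ≤ B.thetaHat.ker := by
    intro g hg
    rw [MonoidHom.mem_ker]
    exact hg.1
  refine ⟨B.Ehat ⧸ B.Ksub hj, inferInstance, inferInstance,
    (QuotientGroup.mk' (B.Ksub hj)).comp B.iotaHat,
    QuotientGroup.lift (B.Ksub hj) B.thetaHat hle, ?_, ?_, ?_, ?_, ?_⟩
  · -- injectivity
    rw [injective_iff_map_eq_one]
    intro s hs
    have h1 : B.iotaHat s ∈ B.Ksub hj := (QuotientGroup.eq_one_iff _).mp hs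
    obtain ⟨h2, h3⟩ := h1
    obtain ⟨z, rfl⟩ := hker s h2
    rw [B.iotaHat_fst, B.Nrm_lperm hj hπj] at h3
    have h4 : (powCoprime hcop') z = (powCoprime hcop') 1 := by
      rw [powCoprime_apply, powCoprime_apply, h3, one_pow]
    rw [(powCoprime hcop').injective h4, map_one]
  · -- surjectivity
    intro γ
    obtain ⟨g, hg⟩ := B.thetaHat_surjective γ
    exact ⟨QuotientGroup.mk g, hg⟩
  · intro s
    rfl
  · -- the kernel
    intro g hg
    obtain ⟨g, rfl⟩ := QuotientGroup.mk_surjective g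
    have hg2 : g.1.2 = 1 := hg
    have hK : B.IsK g.1.1 := B.isK_of_mem g.2 hg2
    obtain ⟨z, hz⟩ := (powCoprime hcop').surjective (B.Nrm g.1.1)
    rw [powCoprime_apply] at hz
    refine ⟨z, ?_⟩
    apply QuotientGroup.eq.mpr
    refine ⟨?_, ?_⟩
    · show g.1.2⁻¹ * π (j z) = 1
      rw [hg2, hπj, inv_one, one_mul]
    · show B.Nrm (g.1.1⁻¹ * B.lperm (j z)) = 1
      rw [B.Nrm_mul hj (B.isK_inv hK) (B.isK_lperm hπj z), B.Nrm_inv hj hK,
        B.Nrm_lperm hj hπj, hz, inv_mul_cancel]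
  · intro γ X ψ h1 h2 h3
    obtain ⟨g, hg, hgx⟩ := B.exists_cover γ X ψ h1 h2 h3
    refine ⟨QuotientGroup.mk g, hg, ?_⟩
    intro x hx
    have := congrArg (QuotientGroup.mk (s := B.Ksub hj)) (hgx x hx)
    exact this

end Biset

end Cfsg.Agent.Lib.Helper1.Model
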