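import Mathlib
import Cfsg.Agent.Lib.Helper9.FusionSat3
import Cfsg.Agent.Lib.Helper9.ExtenderIff
import Cfsg.Agent.Lib.Helper9.GroupFusionAut
import Cfsg.Agent.Lib.Helper9.NormalSeries4
import Cfsg.Agent.Lib.Helper1.KN8
import Cfsg.Agent.S5095

set_option autoImplicit false
set_option linter.style.haveILetI false
set_option linter.unusedSectionVars false
set_option linter.unusedVariables false

namespace Cfsg.Agent.Lib.Helper1.Model

open Cfsg Cfsg.FusionSystem Cfsg.Agent.Lib.Helper9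
open scoped IsMulCommutative

universe u

variable {Ω : Type u} [Group Ω] {S : Subgroup Ω}

/-- `f` restricted to `P` is an `F`-morphism -/
def AdmF (F : FusionSystem S) (P : Subgroup Ω) (f : ↥S → ↥S) : Prop :=
  ∃ φ ∈ F.Hom P, ∀ (x : ↥S) (hx : (x : Ω) ∈ P), φ ⟨x, hx⟩ = (f x : Ω)

namespace AdmF

variable {F : FusionSystem S} {P P' : Subgroup Ω} {f f' : ↥S → ↥S}

theorem le (h : AdmF F P f) : P ≤ S := by
  obtain ⟨φ, hφ, -⟩ := h
  exact hom_le F hφ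

theorem mono (h : AdmF F P f) (hle : P' ≤ P) : AdmF F P' f := by
  obtain ⟨φ, hφ, hf⟩ := h
  exact ⟨φ.comp (Subgroup.inclusion hle), restrict_mem F hφ hle, fun x hx => hf x (hle hx)⟩

theorem congr (h : AdmF F P f) (hff' : ∀ x : ↥S, (x : Ω) ∈ P → f x = f' x) : AdmF F P f' := by
  obtain ⟨φ, hφ, hf⟩ := h
  exact ⟨φ, hφ, fun x hx => by rw [hf x hx, hff' x hx]⟩

theorem comp (h : AdmF F P f) (h' : AdmF F P' f')
    (hmap : ∀ x : ↥S, (x : Ω) ∈ P → (f x : Ω) ∈ P') : AdmF F P (fun x => f' (f x)) := by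
  obtain ⟨φ, hφ, hf⟩ := h
  obtain ⟨φ', hφ', hf'⟩ := h'
  have hPS := hom_le F hφ
  have hcod : ∀ x : P, φ x ∈ P' := by
    intro x
    have h1 : φ x = (f ⟨x, hPS x.2⟩ : Ω) := hf ⟨x, hPS x.2⟩ x.2
    rw [h1]
    exact hmap _ x.2
  refine ⟨φ'.comp (φ.codRestrict P' hcod), F.comp_mem hφ hφ' hcod, ?_⟩
  intro x hx
  have h1 : (φ.codRestrict P' hcod) ⟨x, hx⟩ = ⟨(f x : Ω), hmap x hx⟩ := Subtype.ext (hf x hx)
  show φ' ((φ.codRestrict P' hcod) ⟨x, hx⟩) = _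
  rw [h1]
  exact hf' (f x) (hmap x hx)

theorem conj (F : FusionSystem S) (hP : P ≤ S) (s : ↥S) : AdmF F P (fun x => s * x * s⁻¹) :=
  ⟨conjHom P s, F.conj_mem hP s.2, fun x hx => rfl⟩

theorem map_mul (h : AdmF F P f) {x x' : ↥S} (hx : (x : Ω) ∈ P) (hx' : (x' : Ω) ∈ P) :
    f (x * x') = f x * f x' := by
  obtain ⟨φ, hφ, hf⟩ := h
  apply Subtype.ext
  rw [Subgroup.coe_mul, ← hf x hx, ← hf x' hx', ← hf (x * x') (P.mul_mem hx hx'), ← _root_.map_mul]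
  rfl

theorem map_one (h : AdmF F P f) : f 1 = 1 := by
  obtain ⟨φ, hφ, hf⟩ := h
  apply Subtype.ext
  rw [← hf 1 P.one_mem]
  exact _root_.map_one φ

theorem map_inv (h : AdmF F P f) {x : ↥S} (hx : (x : Ω) ∈ P) : f x⁻¹ = (f x)⁻¹ := by
  have h1 := h.map_mul (x' := x⁻¹) hx (show ((x⁻¹ : ↥S) : Ω) ∈ P from P.inv_mem hx)
  rw [mul_inv_cancel, h.map_one] at h1
  exact eq_inv_of_mul_eq_one_right h1.symm

theorem injOn (h : AdmF F P f) {x x' : ↥S} (hx : (x : Ω) ∈ P) (hx' : (x' : Ω) ∈ P)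
    (he : f x = f x') : x = x' := by
  obtain ⟨φ, hφ, hf⟩ := h
  have h1 : φ ⟨x, hx⟩ = φ ⟨x', hx'⟩ := by rw [hf x hx, hf x' hx', he]
  have h2 := F.injective_of_mem hφ h1
  exact Subtype.ext (congrArg (fun t : P => (t : Ω)) h2)

/-- two `F`-maps on `P` agreeing on a centric subgroup differ by an element of its centre -/
theorem agree [Finite S] {p : ℕ} [Fact p.Prime] (hS : IsPGroup p S) (hF : F.IsSaturated p)
    {Q : Subgroup Ω} (hQ : F.IsCentric Q) (hQP : Q ≤ P) (h : AdmF F P f) (h' : AdmF F P f')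
    (hag : ∀ x : ↥S, (x : Ω) ∈ Q → f x = f' x) :
    ∃ z : ↥S, (z : Ω) ∈ Q ∧ (z : Ω) ∈ Subgroup.centralizer (Q : Set Ω) ∧
      ∀ x : ↥S, (x : Ω) ∈ P → f' x = f (z * x * z⁻¹) := by
  obtain ⟨φ, hφ, hf⟩ := h
  obtain ⟨φ', hφ', hf'⟩ := h'
  have hPS := hom_le F hφ
  obtain ⟨z, hzQ, hzC, hz⟩ := Cfsg.Agent.S5095.result p hS F hF P Q hQP hQ φ φ' hφ hφ'
    (fun x hxQ => by
      have h1 : φ x = (f ⟨x, hPS x.2⟩ : Ω) := hf ⟨x, hPS x.2⟩ x.2
      have h2 : φ' x = (f' ⟨x, hPS x.2⟩ : Ω) := hf' ⟨x, hPS x.2⟩ x.2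
      rw [h1, h2, hag ⟨x, hPS x.2⟩ hxQ])
  refine ⟨⟨z, hPS z.2⟩, hzQ, hzC, ?_⟩
  intro x hx
  apply Subtype.ext
  have hmem : (((⟨z, hPS z.2⟩ : ↥S) * x * (⟨z, hPS z.2⟩ : ↥S)⁻¹ : ↥S) : Ω) ∈ P :=
    P.mul_mem (P.mul_mem z.2 hx) (P.inv_mem z.2)
  rw [← hf' x hx, ← hf _ hmem]
  exact hz ⟨x, hx⟩

end AdmF

open Classical in
/-- extend a homomorphism `P →* Ω` with values in `S` to a (junk outside `P`) function on `S` -/
noncomputable def extendFun (P : Subgroup Ω) (φ : P →* Ω) (x : ↥S) : ↥S :=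
  if h : ∃ hx : (x : Ω) ∈ P, φ ⟨x, hx⟩ ∈ S then ⟨φ ⟨x, h.choose⟩, h.choose_spec⟩ else 1

theorem extendFun_apply (F : FusionSystem S) {P : Subgroup Ω} {φ : P →* Ω} (hφ : φ ∈ F.Hom P)
    (x : ↥S) (hx : (x : Ω) ∈ P) : ((extendFun P φ x : ↥S) : Ω) = φ ⟨x, hx⟩ := by
  have h : ∃ hx : (x : Ω) ∈ P, φ ⟨x, hx⟩ ∈ S := ⟨hx, hom_mem F hφ _⟩
  rw [extendFun, dif_pos h]

theorem AdmF.of_hom {F : FusionSystem S} {P : Subgroup Ω} {φ : P →* Ω} (hφ : φ ∈ F.Hom P) :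
    AdmF F P (extendFun P φ) :=
  ⟨φ, hφ, fun x hx => (extendFun_apply F hφ x hx).symm⟩

theorem AdmF.to_hom {F : FusionSystem S} {P : Subgroup Ω} {f : ↥S → ↥S} (h : AdmF F P f)
    {φ : P →* Ω} (hφ : ∀ (x : ↥S) (hx : (x : Ω) ∈ P), φ ⟨x, hx⟩ = (f x : Ω)) : φ ∈ F.Hom P := by
  obtain ⟨φ', hφ', hf⟩ := h
  have hPS := hom_le F hφ'
  have : φ = φ' := by
    ext x
    have h1 : φ x = (f ⟨x, hPS x.2⟩ : Ω) := hφ ⟨x, hPS x.2⟩ x.2
    have h2 : φ' x = (f ⟨x, hPS x.2⟩ : Ω) := hf ⟨x, hPS x.2⟩ x.2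
    rw [h1, h2]
  rw [this]
  exact hφ'

/-! ### automorphisms of the centre -/

theorem mem_center_of_aut {G : Type*} [Group G] (γ : MulAut G) {z : G}
    (hz : z ∈ Subgroup.center G) : γ z ∈ Subgroup.center G := by
  rw [Subgroup.mem_center_iff] at hz ⊢
  intro g
  have h1 := hz (γ⁻¹ g)
  have h2 := congrArg γ h1
  rw [_root_.map_mul, _root_.map_mul, MulAut.apply_inv_self] at h2
  exact h2

/-- restriction of automorphisms to the centre -/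
def centerAut (G : Type*) [Group G] : MulAut G →* MulAut (Subgroup.center G) where
  toFun γ :=
    { toFun := fun z => ⟨γ z, mem_center_of_aut γ z.2⟩
      invFun := fun z => ⟨γ⁻¹ z, mem_center_of_aut γ⁻¹ z.2⟩
      left_inv := fun z => Subtype.ext (by simp)
      right_inv := fun z => Subtype.ext (by simp)
      map_mul' := fun z z' => Subtype.ext (by simp) }
  map_one' := by
    ext z
    rfl
  map_mul' := fun γ γ' => by
    ext z
    rfl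

theorem centerAut_apply {G : Type*} [Group G] (γ : MulAut G) (z : Subgroup.center G) :
    ((centerAut G γ z : Subgroup.center G) : G) = γ z := rfl

end Cfsg.Agent.Lib.Helper1.Model
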