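import Mathlib
import Cfsg.Agent.Lib.Helper1.Model3

set_option autoImplicit false
set_option linter.style.haveILetI false
set_option linter.unusedSectionVars false
set_option linter.unusedVariables false

namespace Cfsg.Agent.Lib.Helper1.Model

open Cfsg Cfsg.FusionSystem Cfsg.Agent.Lib.Helper9
open scoped IsMulCommutative

universe u

variable {Ω : Type u} [Group Ω] {S : Subgroup Ω} [Finite S]
variable (F : FusionSystem S) {Q : Subgroup Ω} (hQn : F.IsNormal Q)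

include F hQn in
theorem le_normalizer_of_isNormal : S ≤ Subgroup.normalizer (Q : Set Ω) := by
  intro s hs
  haveI : Finite Q := finite_of_le hQn.1
  exact KN.mem_normalizer_of_forall_conj_mem (fun y hy => KN.conj_mem_of_isNormal F hQn hs hy)

/-- conjugation action of `S` on `Q`, with values in `Aut_F(Q)` -/
noncomputable def piHom : ↥S →* ↥(F.autGroup Q) :=
  ((conjAut Q).comp (Subgroup.inclusion (le_normalizer_of_isNormal F hQn))).codRestrict
    (F.autGroup Q) (fun s => by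
      rw [mem_autGroup_iff F hQn.1]
      have h2 : conjHom Q (s : Ω) = Q.subtype.comp (((conjAut Q).comp
          (Subgroup.inclusion (le_normalizer_of_isNormal F hQn))) s).toMonoidHom := by
        ext x
        rfl
      rw [← h2]
      exact F.conj_mem hQn.1 s.2)

theorem piHom_apply (s : ↥S) (q : Q) :
    ((((piHom F hQn s : ↥(F.autGroup Q)) : MulAut Q) q : Q) : Ω) = s * q * (s : Ω)⁻¹ := rfl

section app

variable (hQS : Q ≤ S)

open Classical in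
/-- apply an automorphism of `Q` to an element of `S` (junk outside `Q`) -/
noncomputable def app (g : MulAut Q) (x : ↥S) : ↥S :=
  if h : (x : Ω) ∈ Q then ⟨g ⟨x, h⟩, hQS (g ⟨x, h⟩).2⟩ else 1

theorem app_coe (g : MulAut Q) {x : ↥S} (h : (x : Ω) ∈ Q) :
    ((app hQS g x : ↥S) : Ω) = g ⟨x, h⟩ := by
  rw [app, dif_pos h]

theorem app_mem (g : MulAut Q) {x : ↥S} (h : (x : Ω) ∈ Q) : ((app hQS g x : ↥S) : Ω) ∈ Q := by
  rw [app_coe hQS g h]
  exact (g ⟨x, h⟩).2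

theorem app_mul' (g g' : MulAut Q) {x : ↥S} (h : (x : Ω) ∈ Q) :
    app hQS (g * g') x = app hQS g (app hQS g' x) := by
  apply Subtype.ext
  rw [app_coe hQS _ h, app_coe hQS g (app_mem hQS g' h)]
  have h1 : (⟨((app hQS g' x : ↥S) : Ω), app_mem hQS g' h⟩ : Q) = g' ⟨x, h⟩ :=
    Subtype.ext (app_coe hQS g' h)
  rw [h1]
  rfl

theorem app_one {x : ↥S} (h : (x : Ω) ∈ Q) : app hQS (1 : MulAut Q) x = x := by
  apply Subtype.ext
  rw [app_coe hQS _ h]
  rfl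

theorem app_inv_app (g : MulAut Q) {x : ↥S} (h : (x : Ω) ∈ Q) :
    app hQS g⁻¹ (app hQS g x) = x := by
  rw [← app_mul' hQS _ _ h, inv_mul_cancel, app_one hQS h]

theorem app_app_inv (g : MulAut Q) {x : ↥S} (h : (x : Ω) ∈ Q) :
    app hQS g (app hQS g⁻¹ x) = x := by
  rw [← app_mul' hQS _ _ h, mul_inv_cancel, app_one hQS h]

theorem app_map_mul (g : MulAut Q) {x x' : ↥S} (h : (x : Ω) ∈ Q) (h' : (x' : Ω) ∈ Q) :
    app hQS g (x * x') = app hQS g x * app hQS g x' := by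
  apply Subtype.ext
  rw [Subgroup.coe_mul, app_coe hQS g h, app_coe hQS g h', app_coe hQS g (Q.mul_mem h h'),
    ← Subgroup.coe_mul, ← _root_.map_mul]
  rfl

theorem aut_ext_app {g g' : MulAut Q}
    (h : ∀ x : ↥S, (x : Ω) ∈ Q → app hQS g x = app hQS g' x) : g = g' := by
  ext q
  have h1 := h ⟨q, hQS q.2⟩ q.2
  have h2 := congrArg (fun t : ↥S => (t : Ω)) h1
  rw [app_coe hQS g q.2, app_coe hQS g' q.2] at h2
  exact h2

end app

theorem app_piHom (s : ↥S) {x : ↥S} (h : (x : Ω) ∈ Q) :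
    app hQn.1 ((piHom F hQn s : ↥(F.autGroup Q)) : MulAut Q) x = s * x * s⁻¹ := by
  apply Subtype.ext
  rw [app_coe hQn.1 _ h]
  rfl

/-- the inclusion of the centre of `Q` into `S` -/
def jHom (hQS : Q ≤ S) : ↥(Subgroup.center ↥Q) →* ↥S :=
  (Subgroup.inclusion hQS).comp (Subgroup.center ↥Q).subtype

theorem jHom_coe (hQS : Q ≤ S) (z : ↥(Subgroup.center ↥Q)) :
    ((jHom hQS z : ↥S) : Ω) = ((z : Q) : Ω) := rfl

theorem jHom_mem (hQS : Q ≤ S) (z : ↥(Subgroup.center ↥Q)) : ((jHom hQS z : ↥S) : Ω) ∈ Q :=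
  (z : Q).2

theorem jHom_injective (hQS : Q ≤ S) : Function.Injective (jHom hQS) := by
  intro z z' h
  apply Subtype.ext
  apply Subtype.ext
  exact congrArg (fun t : ↥S => (t : Ω)) h

/-- the action of `Aut_F(Q)` on the centre of `Q` -/
def actHom : ↥(F.autGroup Q) →* MulAut ↥(Subgroup.center ↥Q) :=
  (centerAut ↥Q).comp (F.autGroup Q).subtype

theorem actHom_coe (γ : ↥(F.autGroup Q)) (z : ↥(Subgroup.center ↥Q)) :
    ((actHom F γ z : ↥(Subgroup.center ↥Q)) : Q) = (γ : MulAut Q) (z : Q) := rfl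

theorem jHom_actHom_eq_app (γ : ↥(F.autGroup Q)) (z : ↥(Subgroup.center ↥Q)) :
    jHom hQn.1 (actHom F γ z) = app hQn.1 (γ : MulAut Q) (jHom hQn.1 z) := by
  apply Subtype.ext
  rw [app_coe hQn.1 _ (jHom_mem hQn.1 z)]
  rfl

theorem piHom_eq_one_iff (s : ↥S) :
    piHom F hQn s = 1 ↔ (s : Ω) ∈ Subgroup.centralizer (Q : Set Ω) := by
  constructor
  · intro h
    rw [Subgroup.mem_centralizer_iff]
    intro q hq
    have h1 := piHom_apply F hQn s ⟨q, hq⟩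
    rw [h] at h1
    have h2 : q = (s : Ω) * q * (s : Ω)⁻¹ := h1
    calc q * (s : Ω) = ((s : Ω) * q * (s : Ω)⁻¹) * s := by rw [← h2]
      _ = s * q := by group
  · intro h
    rw [Subgroup.mem_centralizer_iff] at h
    apply Subtype.ext
    ext q
    show (s : Ω) * q * (s : Ω)⁻¹ = q
    rw [← h q q.2]
    group

theorem piHom_jHom (z : ↥(Subgroup.center ↥Q)) : piHom F hQn (jHom hQn.1 z) = 1 := by
  rw [piHom_eq_one_iff, Subgroup.mem_centralizer_iff]
  intro q hq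
  have h1 := Subgroup.mem_center_iff.mp z.2 ⟨q, hq⟩
  exact congrArg (fun t : Q => (t : Ω)) h1

theorem exists_jHom_of_piHom_eq_one (hQc : F.IsCentric Q) (s : ↥S) (h : piHom F hQn s = 1) :
    ∃ z, jHom hQn.1 z = s := by
  rw [piHom_eq_one_iff] at h
  have hC : centralizerIn S Q ≤ Q := hQc.2 Q (isConj_refl F hQn.1)
  have hsQ : (s : Ω) ∈ Q := hC ⟨s.2, h⟩
  have hz : (⟨s, hsQ⟩ : Q) ∈ Subgroup.center ↥Q := by
    rw [Subgroup.mem_center_iff]
    intro q
    apply Subtype.ext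
    exact (Subgroup.mem_centralizer_iff.mp h q q.2)
  exact ⟨⟨⟨s, hsQ⟩, hz⟩, Subtype.ext rfl⟩

theorem jHom_actHom (s : ↥S) (z : ↥(Subgroup.center ↥Q)) :
    jHom hQn.1 (actHom F (piHom F hQn s) z) = s * jHom hQn.1 z * s⁻¹ := by
  rw [jHom_actHom_eq_app F hQn, app_piHom F hQn s (jHom_mem hQn.1 z)]

/-! ### receptivity -/

section ext

variable {p : ℕ} [Fact p.Prime] (hS : IsPGroup p S) (hF : F.IsSaturated p)

include hQn in
theorem fullyNormalized_of_isNormal : F.IsFullyNormalized Q := by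
  refine ⟨hQn.1, fun Q' _ => ?_⟩
  haveI : Finite ↥(normalizerIn S Q) := finite_normalizerIn Q
  apply Subgroup.card_le_of_le
  intro x hx
  exact ⟨hx.1, le_normalizer_of_isNormal F hQn hx.1⟩

include hQn hS hF in
theorem receptive_of_isNormal : F.IsReceptive Q :=
  receptive_of_fullyCentralized hS F hF
    (fullyCentralized_of_fullyNormalized hS F hF (fullyNormalized_of_isNormal F hQn))

/-- the domain to which `γ` extends -/
def NΩ (γ : ↥(F.autGroup Q)) : Subgroup Ω :=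
  extender S Q (Q.subtype.comp (γ : MulAut Q).toMonoidHom)

theorem NΩ_le (γ : ↥(F.autGroup Q)) : NΩ F γ ≤ S :=
  (extender_le_normalizerIn Q _).trans inf_le_left

include hQn in
theorem le_NΩ (γ : ↥(F.autGroup Q)) : Q ≤ NΩ F γ :=
  le_extender hQn.1 _ (fun x => hQn.1 ((γ : MulAut Q) x).2)

theorem mem_NΩ_iff (γ : ↥(F.autGroup Q)) (x : ↥S) :
    (x : Ω) ∈ NΩ F γ ↔ ∃ h : ↥S, γ * piHom F hQn x * γ⁻¹ = piHom F hQn h := by
  unfold NΩ
  rw [mem_extender_iff]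
  constructor
  · rintro ⟨-, -, h, hhS, hh⟩
    refine ⟨⟨h, hhS⟩, ?_⟩
    apply Subtype.ext
    ext q
    show ((γ : MulAut Q) (((piHom F hQn x : ↥(F.autGroup Q)) : MulAut Q) ((γ : MulAut Q)⁻¹ q)) : Ω) =
      h * q * h⁻¹
    have hq' : (x : Ω) * (((γ : MulAut Q)⁻¹ q : Q) : Ω) * (x : Ω)⁻¹ ∈ Q :=
      KN.conj_mem_of_isNormal F hQn x.2 ((γ : MulAut Q)⁻¹ q).2
    have h1 := hh ((γ : MulAut Q)⁻¹ q) hq'
    have h2 : ((Q.subtype.comp (γ : MulAut Q).toMonoidHom) ((γ : MulAut Q)⁻¹ q) : Ω) = q := by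
      show (((γ : MulAut Q) ((γ : MulAut Q)⁻¹ q) : Q) : Ω) = q
      rw [MulAut.apply_inv_self]
    rw [h2] at h1
    rw [← h1]
    rfl
  · rintro ⟨h, hh⟩
    refine ⟨x.2, le_normalizer_of_isNormal F hQn x.2, h, h.2, fun q hq => ?_⟩
    have h1 : γ * piHom F hQn x = piHom F hQn h * γ := by
      rw [← hh]
      group
    have h2 := congrArg (fun t : ↥(F.autGroup Q) => (((t : MulAut Q) q : Q) : Ω)) h1
    exact h2

include hS hF in
theorem exists_psi (γ : ↥(F.autGroup Q)) : ∃ f : ↥S → ↥S, AdmF F (NΩ F γ) f ∧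
    ∀ x : ↥S, (x : Ω) ∈ Q → f x = app hQn.1 (γ : MulAut Q) x := by
  have hφ : Q.subtype.comp (γ : MulAut Q).toMonoidHom ∈ F.Hom Q :=
    (mem_autGroup_iff F hQn.1 _).mp γ.2
  have hrange : (Q.subtype.comp (γ : MulAut Q).toMonoidHom).range = Q := by
    ext y
    constructor
    · rintro ⟨q, rfl⟩
      exact ((γ : MulAut Q) q).2
    · intro hy
      refine ⟨(γ : MulAut Q)⁻¹ ⟨y, hy⟩, ?_⟩
      show (((γ : MulAut Q) ((γ : MulAut Q)⁻¹ ⟨y, hy⟩) : Q) : Ω) = y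
      rw [MulAut.apply_inv_self]
  obtain ⟨ψ, hψ, hψQ⟩ := (receptive_of_isNormal F hQn hS hF).2 Q _ hφ hrange
  refine ⟨extendFun _ ψ, AdmF.of_hom hψ, ?_⟩
  intro x hx
  apply Subtype.ext
  have hxN : (x : Ω) ∈ extender S Q (Q.subtype.comp (γ : MulAut Q).toMonoidHom) :=
    le_NΩ F hQn γ hx
  rw [extendFun_apply F hψ x hxN, app_coe hQn.1 _ hx]
  exact hψQ x hx hxN

/-- a chosen `F`-extension of `γ` to its extender -/
noncomputable def psiFun (γ : ↥(F.autGroup Q)) : ↥S → ↥S :=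
  Classical.choose (exists_psi F hQn hS hF γ)

theorem psiFun_adm (γ : ↥(F.autGroup Q)) : AdmF F (NΩ F γ) (psiFun F hQn hS hF γ) :=
  (Classical.choose_spec (exists_psi F hQn hS hF γ)).1

theorem psiFun_Q (γ : ↥(F.autGroup Q)) {x : ↥S} (hx : (x : Ω) ∈ Q) :
    psiFun F hQn hS hF γ x = app hQn.1 (γ : MulAut Q) x :=
  (Classical.choose_spec (exists_psi F hQn hS hF γ)).2 x hx

theorem piHom_psiFun (γ : ↥(F.autGroup Q)) {x : ↥S} (hx : (x : Ω) ∈ NΩ F γ) :
    piHom F hQn (psiFun F hQn hS hF γ x) = γ * piHom F hQn x * γ⁻¹ := by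
  have hadm := psiFun_adm F hQn hS hF γ
  apply Subtype.ext
  apply aut_ext_app hQn.1
  intro x₀ hx₀
  rw [app_piHom F hQn _ hx₀]
  show _ = app hQn.1 ((γ : MulAut Q) * (piHom F hQn x : ↥(F.autGroup Q)) * (γ : MulAut Q)⁻¹) x₀
  rw [app_mul' hQn.1 _ _ hx₀, app_mul' hQn.1 _ _ (app_mem hQn.1 _ hx₀),
    app_piHom F hQn x (app_mem hQn.1 _ hx₀)]
  set q' := app hQn.1 (γ : MulAut Q)⁻¹ x₀ with hq'
  have hq'Q : (q' : Ω) ∈ Q := app_mem hQn.1 _ hx₀
  have hcQ : ((x * q' * x⁻¹ : ↥S) : Ω) ∈ Q := KN.conj_mem_of_isNormal F hQn x.2 hq'Q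
  have hq'N : (q' : Ω) ∈ NΩ F γ := le_NΩ F hQn γ hq'Q
  rw [← psiFun_Q F hQn hS hF γ hcQ, hadm.map_mul ((NΩ F γ).mul_mem hx hq'N) ((NΩ F γ).inv_mem hx),
    hadm.map_mul hx hq'N, hadm.map_inv hx, psiFun_Q F hQn hS hF γ hq'Q, hq',
    app_app_inv hQn.1 _ hx₀]

end ext

end Cfsg.Agent.Lib.Helper1.Model
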