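import Mathlib
import Cfsg.Agent.Lib.Helper1.Model2
import Cfsg.Agent.Lib.Helper1.Model4

set_option autoImplicit false
set_option linter.style.haveILetI false
set_option linter.unusedSectionVars false
set_option linter.unusedVariables false

namespace Cfsg.Agent.Lib.Helper1.Model

open Cfsg Cfsg.FusionSystem Cfsg.Agent.Lib.Helper9
open scoped IsMulCommutative

universe u

variable {Ω : Type u} [Group Ω] {S : Subgroup Ω} [Finite S]
variable (F : FusionSystem S) {Q : Subgroup Ω} (hQn : F.IsNormal Q)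
variable {p : ℕ} [Fact p.Prime] (hS : IsPGroup p S) (hF : F.IsSaturated p)

/-- the double coset relation of `Aut_S(Q)` on `Aut_F(Q)` -/
def dS : Setoid ↥(F.autGroup Q) where
  r γ γ' := ∃ a b : ↥S, γ' = piHom F hQn a * γ * piHom F hQn b
  iseqv :=
    { refl := fun γ => ⟨1, 1, by rw [map_one, one_mul, mul_one]⟩
      symm := by
        rintro γ γ' ⟨a, b, rfl⟩
        refine ⟨a⁻¹, b⁻¹, ?_⟩
        rw [map_inv, map_inv]
        group
      trans := by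
        rintro γ γ' γ'' ⟨a, b, rfl⟩ ⟨a', b', rfl⟩
        refine ⟨a' * a, b * b', ?_⟩
        rw [map_mul, map_mul]
        group }

/-- chosen double coset representatives -/
noncomputable def tau (d : Quotient (dS F hQn)) : ↥(F.autGroup Q) := Quotient.out d

theorem exists_tau (γ : ↥(F.autGroup Q)) : ∃ a b : ↥S,
    γ = piHom F hQn a * tau F hQn (Quotient.mk (dS F hQn) γ) * piHom F hQn b :=
  Quotient.exact (Quotient.out_eq (Quotient.mk (dS F hQn) γ))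

theorem mk_tau (d : Quotient (dS F hQn)) : Quotient.mk (dS F hQn) (tau F hQn d) = d :=
  Quotient.out_eq d

/-- the domain of the `d`-th structure map -/
noncomputable def Nd (d : Quotient (dS F hQn)) : Subgroup Ω := NΩ F (tau F hQn d)⁻¹

/-- the `d`-th structure map -/
noncomputable def psid (d : Quotient (dS F hQn)) : ↥S → ↥S := psiFun F hQn hS hF (tau F hQn d)⁻¹

theorem psid_adm (d : Quotient (dS F hQn)) : AdmF F (Nd F hQn d) (psid F hQn hS hF d) :=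
  psiFun_adm F hQn hS hF _

/-- the graph of the `d`-th structure map -/
noncomputable def Delta (d : Quotient (dS F hQn)) : Subgroup (↥S × ↥S) where
  carrier := {w | (w.1 : Ω) ∈ Nd F hQn d ∧ psid F hQn hS hF d w.1 = w.2}
  one_mem' := ⟨(Nd F hQn d).one_mem, (psid_adm F hQn hS hF d).map_one⟩
  mul_mem' := by
    rintro w w' ⟨h1, h2⟩ ⟨h1', h2'⟩
    refine ⟨(Nd F hQn d).mul_mem h1 h1', ?_⟩
    show psid F hQn hS hF d (w.1 * w'.1) = w.2 * w'.2
    rw [(psid_adm F hQn hS hF d).map_mul h1 h1', h2, h2']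
  inv_mem' := by
    rintro w ⟨h1, h2⟩
    refine ⟨(Nd F hQn d).inv_mem h1, ?_⟩
    show psid F hQn hS hF d (w.1⁻¹) = w.2⁻¹
    rw [(psid_adm F hQn hS hF d).map_inv h1, h2]

theorem mem_Delta (d : Quotient (dS F hQn)) (w : ↥S × ↥S) : w ∈ Delta F hQn hS hF d ↔
    (w.1 : Ω) ∈ Nd F hQn d ∧ psid F hQn hS hF d w.1 = w.2 := Iff.rfl

/-- the biset -/
abbrev YY : Type u := Σ d : Quotient (dS F hQn), (↥S × ↥S) ⧸ Delta F hQn hS hF d

include hQn in
theorem finite_autGroup : Finite ↥(F.autGroup Q) := by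
  haveI : Finite Q := finite_of_le hQn.1
  infer_instance

instance instFiniteYY : Finite (YY F hQn hS hF) := by
  haveI : Finite ↥(F.autGroup Q) := finite_autGroup F hQn
  infer_instance

/-- points of the biset -/
noncomputable def mkY (d : Quotient (dS F hQn)) (w : ↥S × ↥S) : YY F hQn hS hF := ⟨d, QuotientGroup.mk w⟩

theorem mkY_eq_iff (d : Quotient (dS F hQn)) (w w' : ↥S × ↥S) :
    mkY F hQn hS hF d w = mkY F hQn hS hF d w' ↔ w⁻¹ * w' ∈ Delta F hQn hS hF d := by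
  constructor
  · intro h
    exact QuotientGroup.eq.mp (eq_of_heq (Sigma.mk.inj h).2)
  · intro h
    exact congrArg (Sigma.mk d) (QuotientGroup.eq.mpr h)

theorem exists_mkY (y : YY F hQn hS hF) : ∃ d w, y = mkY F hQn hS hF d w := by
  obtain ⟨d, q⟩ := y
  obtain ⟨w, rfl⟩ := QuotientGroup.mk_surjective q
  exact ⟨d, w, rfl⟩

/-- left action -/
noncomputable def lY (a : ↥S) (y : YY F hQn hS hF) : YY F hQn hS hF := ⟨y.1, ((a, 1) : ↥S × ↥S) • y.2⟩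

/-- right action -/
noncomputable def rY (y : YY F hQn hS hF) (b : ↥S) : YY F hQn hS hF := ⟨y.1, ((1, b⁻¹) : ↥S × ↥S) • y.2⟩

theorem lY_mk (a : ↥S) (d : Quotient (dS F hQn)) (w : ↥S × ↥S) :
    lY F hQn hS hF a (mkY F hQn hS hF d w) = mkY F hQn hS hF d (a * w.1, w.2) := by
  show (⟨d, QuotientGroup.mk (((a, 1) : ↥S × ↥S) * w)⟩ : YY F hQn hS hF) = _
  unfold mkY
  congr 2
  ext <;> simp

theorem rY_mk (d : Quotient (dS F hQn)) (w : ↥S × ↥S) (b : ↥S) :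
    rY F hQn hS hF (mkY F hQn hS hF d w) b = mkY F hQn hS hF d (w.1, b⁻¹ * w.2) := by
  show (⟨d, QuotientGroup.mk (((1, b⁻¹) : ↥S × ↥S) * w)⟩ : YY F hQn hS hF) = _
  unfold mkY
  congr 2
  ext <;> simp

theorem pY_wd (d : Quotient (dS F hQn)) (w w' : ↥S × ↥S)
    (h : QuotientGroup.leftRel (Delta F hQn hS hF d) w w') :
    piHom F hQn w.1 * tau F hQn d * (piHom F hQn w.2)⁻¹ =
      piHom F hQn w'.1 * tau F hQn d * (piHom F hQn w'.2)⁻¹ := by
  rw [QuotientGroup.leftRel_apply] at h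
  obtain ⟨h1, h2⟩ := h
  have h3 := piHom_psiFun F hQn hS hF (tau F hQn d)⁻¹ h1
  have h4 : psiFun F hQn hS hF (tau F hQn d)⁻¹ (w⁻¹ * w').1 = (w⁻¹ * w').2 := h2
  rw [h4] at h3
  have h5 : (w⁻¹ * w').1 = w.1⁻¹ * w'.1 := rfl
  have h6 : (w⁻¹ * w').2 = w.2⁻¹ * w'.2 := rfl
  rw [h5, h6, map_mul, map_mul, map_inv, map_inv] at h3
  have h7 : piHom F hQn w'.2 = piHom F hQn w.2 * ((tau F hQn d)⁻¹ *
      ((piHom F hQn w.1)⁻¹ * piHom F hQn w'.1) * (tau F hQn d)⁻¹⁻¹) := by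
    rw [← h3]
    group
  rw [h7]
  group

/-- the projection to `Aut_F(Q)` -/
noncomputable def pY (y : YY F hQn hS hF) : ↥(F.autGroup Q) :=
  Quotient.liftOn' y.2
    (fun w => piHom F hQn w.1 * tau F hQn y.1 * (piHom F hQn w.2)⁻¹) (pY_wd F hQn hS hF y.1)

theorem pY_mk (d : Quotient (dS F hQn)) (w : ↥S × ↥S) :
    pY F hQn hS hF (mkY F hQn hS hF d w) =
      piHom F hQn w.1 * tau F hQn d * (piHom F hQn w.2)⁻¹ := rfl

theorem surjY : Function.Surjective (pY F hQn hS hF) := by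
  intro γ
  obtain ⟨a, b, hab⟩ := exists_tau F hQn γ
  refine ⟨mkY F hQn hS hF (Quotient.mk (dS F hQn) γ) (a, b⁻¹), ?_⟩
  rw [pY_mk, map_inv, inv_inv]
  exact hab.symm

theorem freeY (y : YY F hQn hS hF) (b : ↥S) (h : rY F hQn hS hF y b = y) : b = 1 := by
  obtain ⟨d, w, rfl⟩ := exists_mkY F hQn hS hF y
  rw [rY_mk, mkY_eq_iff] at h
  obtain ⟨h1, h2⟩ := h
  have h3 : ((w.1, b⁻¹ * w.2)⁻¹ * w : ↥S × ↥S).1 = 1 := by
    show w.1⁻¹ * w.1 = 1
    group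
  have h4 : ((w.1, b⁻¹ * w.2)⁻¹ * w : ↥S × ↥S).2 = w.2⁻¹ * b * w.2 := by
    show (b⁻¹ * w.2)⁻¹ * w.2 = w.2⁻¹ * b * w.2
    group
  rw [h3, h4, (psid_adm F hQn hS hF d).map_one] at h2
  have h5 : b = w.2 * (w.2⁻¹ * b * w.2) * w.2⁻¹ := by group
  rw [h5, ← h2]
  group

theorem fibY (hQc : F.IsCentric Q) (y y' : YY F hQn hS hF)
    (h : pY F hQn hS hF y = pY F hQn hS hF y') :
    ∃ z : ↥(Subgroup.center ↥Q), y' = rY F hQn hS hF y (jHom hQn.1 z) := by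
  obtain ⟨d, w, rfl⟩ := exists_mkY F hQn hS hF y
  obtain ⟨d', w', rfl⟩ := exists_mkY F hQn hS hF y'
  rw [pY_mk, pY_mk] at h
  have hd : d = d' := by
    rw [← mk_tau F hQn d, ← mk_tau F hQn d']
    apply Quotient.sound
    refine ⟨w'.1⁻¹ * w.1, w.2⁻¹ * w'.2, ?_⟩
    rw [map_mul, map_mul, map_inv, map_inv]
    have h1 : tau F hQn d' = (piHom F hQn w'.1)⁻¹ * (piHom F hQn w'.1 * tau F hQn d' *
        (piHom F hQn w'.2)⁻¹) * piHom F hQn w'.2 := by group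
    rw [h1, ← h]
    group
  subst hd
  -- solve for `π w'.1`
  have hA : piHom F hQn w'.1 = piHom F hQn w.1 * tau F hQn d * (piHom F hQn w.2)⁻¹ *
      piHom F hQn w'.2 * (tau F hQn d)⁻¹ := by
    rw [h]
    group
  have hxN : ((w.1⁻¹ * w'.1 : ↥S) : Ω) ∈ Nd F hQn d := by
    unfold Nd
    rw [mem_NΩ_iff F hQn]
    refine ⟨w.2⁻¹ * w'.2, ?_⟩
    rw [map_mul, map_mul, map_inv, map_inv, hA]
    group
  have hπt : piHom F hQn (w.2 * psid F hQn hS hF d (w.1⁻¹ * w'.1) * w'.2⁻¹) = 1 := by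
    rw [map_mul, map_mul, map_inv]
    unfold psid
    rw [piHom_psiFun F hQn hS hF _ hxN, map_mul, map_inv, hA]
    group
  obtain ⟨z, hz⟩ := exists_jHom_of_piHom_eq_one F hQn hQc _ hπt
  refine ⟨z, ?_⟩
  rw [rY_mk, eq_comm, mkY_eq_iff]
  refine ⟨?_, ?_⟩
  · show (((w.1)⁻¹ * w'.1 : ↥S) : Ω) ∈ Nd F hQn d
    exact hxN
  · show psid F hQn hS hF d (w.1⁻¹ * w'.1) = ((jHom hQn.1 z)⁻¹ * w.2)⁻¹ * w'.2
    rw [hz]
    group

theorem compatY (z : ↥(Subgroup.center ↥Q)) (y : YY F hQn hS hF) :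
    lY F hQn hS hF (jHom hQn.1 z) y =
      rY F hQn hS hF y (jHom hQn.1 (actHom F (pY F hQn hS hF y)⁻¹ z)) := by
  obtain ⟨d, w, rfl⟩ := exists_mkY F hQn hS hF y
  rw [lY_mk, rY_mk, eq_comm, mkY_eq_iff, pY_mk]
  have hzQ : ((jHom hQn.1 z : ↥S) : Ω) ∈ Q := jHom_mem hQn.1 z
  have hxQ : ((w.1⁻¹ * jHom hQn.1 z * w.1 : ↥S) : Ω) ∈ Q := by
    have := KN.conj_mem_of_isNormal F hQn (S.inv_mem w.1.2) hzQ
    rw [inv_inv] at this
    exact this
  refine ⟨?_, ?_⟩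
  · show (((w.1)⁻¹ * (jHom hQn.1 z * w.1) : ↥S) : Ω) ∈ Nd F hQn d
    rw [← mul_assoc]
    exact le_NΩ F hQn _ hxQ
  · show psid F hQn hS hF d (w.1⁻¹ * (jHom hQn.1 z * w.1)) = ((jHom hQn.1 (actHom F
      (piHom F hQn w.1 * tau F hQn d * (piHom F hQn w.2)⁻¹)⁻¹ z))⁻¹ * w.2)⁻¹ * w.2
    rw [← mul_assoc]
    unfold psid
    rw [psiFun_Q F hQn hS hF _ hxQ, jHom_actHom_eq_app F hQn]
    have h1 : (piHom F hQn w.1 * tau F hQn d * (piHom F hQn w.2)⁻¹)⁻¹ =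
        piHom F hQn w.2 * (tau F hQn d)⁻¹ * piHom F hQn w.1⁻¹ := by
      rw [map_inv]
      group
    rw [h1]
    have h2 : ((piHom F hQn w.2 * (tau F hQn d)⁻¹ * piHom F hQn w.1⁻¹ : ↥(F.autGroup Q)) :
        MulAut Q) = ((piHom F hQn w.2 : ↥(F.autGroup Q)) : MulAut Q) *
          (((tau F hQn d)⁻¹ : ↥(F.autGroup Q)) : MulAut Q) *
          ((piHom F hQn w.1⁻¹ : ↥(F.autGroup Q)) : MulAut Q) := rfl
    rw [h2, app_mul' hQn.1 _ _ hzQ, app_piHom F hQn _ hzQ]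
    have hxQ' : ((w.1⁻¹ * jHom hQn.1 z * w.1⁻¹⁻¹ : ↥S) : Ω) ∈ Q := by
      rw [inv_inv]
      exact hxQ
    rw [app_mul' hQn.1 _ _ hxQ', app_piHom F hQn _ (app_mem hQn.1 _ hxQ'), inv_inv]
    group

/-- the biset structure -/
noncomputable def bisetY (hQc : F.IsCentric Q) :
    Biset (piHom F hQn) (jHom hQn.1) (actHom F) (YY F hQn hS hF) where
  l := lY F hQn hS hF
  r := rY F hQn hS hF
  p := pY F hQn hS hF
  l_one := by
    intro y
    obtain ⟨d, w, rfl⟩ := exists_mkY F hQn hS hF y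
    rw [lY_mk, one_mul]
  l_mul := by
    intro a a' y
    obtain ⟨d, w, rfl⟩ := exists_mkY F hQn hS hF y
    rw [lY_mk, lY_mk, lY_mk, mul_assoc]
  r_one := by
    intro y
    obtain ⟨d, w, rfl⟩ := exists_mkY F hQn hS hF y
    rw [rY_mk, inv_one, one_mul]
  r_mul := by
    intro y b b'
    obtain ⟨d, w, rfl⟩ := exists_mkY F hQn hS hF y
    rw [rY_mk, rY_mk, rY_mk, mul_inv_rev, mul_assoc]
  l_r := by
    intro a y b
    obtain ⟨d, w, rfl⟩ := exists_mkY F hQn hS hF y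
    rw [rY_mk, lY_mk, lY_mk, rY_mk]
  p_l := by
    intro a y
    obtain ⟨d, w, rfl⟩ := exists_mkY F hQn hS hF y
    rw [lY_mk, pY_mk, pY_mk, map_mul]
    group
  p_r := by
    intro y b
    obtain ⟨d, w, rfl⟩ := exists_mkY F hQn hS hF y
    rw [rY_mk, pY_mk, pY_mk, map_mul, map_inv]
    group
  free := freeY F hQn hS hF
  fib := fibY F hQn hS hF hQc
  surj := surjY F hQn hS hF
  compat := compatY F hQn hS hF

end Cfsg.Agent.Lib.Helper1.Model
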