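import Mathlib
import Cfsg.Agent.Lib.Helper1.Model5

set_option autoImplicit false
set_option linter.style.haveILetI false
set_option linter.unusedSectionVars false
set_option linter.unusedVariables false

namespace Cfsg.Agent.Lib.Helper1.Model

open Cfsg Cfsg.FusionSystem Cfsg.Agent.Lib.Helper9
open scoped IsMulCommutative

universe u

variable {Ω : Type u} [Group Ω] {S : Subgroup Ω} [Finite S]
variable (F : FusionSystem S) {Q : Subgroup Ω} (hQn : F.IsNormal Q)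
variable {p : ℕ} [Fact p.Prime] (hS : IsPGroup p S) (hF : F.IsSaturated p)

theorem app_pi_mul (s : ↥S) (g : MulAut Q) {x : ↥S} (hx : (x : Ω) ∈ Q) :
    app hQn.1 (((piHom F hQn s : ↥(F.autGroup Q)) : MulAut Q) * g) x =
      s * app hQn.1 g x * s⁻¹ := by
  rw [app_mul' hQn.1 _ _ hx, app_piHom F hQn s (app_mem hQn.1 _ hx)]

theorem app_mul_pi (g : MulAut Q) (s : ↥S) {x : ↥S} (hx : (x : Ω) ∈ Q) :
    app hQn.1 (g * ((piHom F hQn s : ↥(F.autGroup Q)) : MulAut Q)) x =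
      app hQn.1 g (s * x * s⁻¹) := by
  rw [app_mul' hQn.1 _ _ hx, app_piHom F hQn s hx]

include hQn in
theorem conj_mem_Q (s : ↥S) {x : ↥S} (hx : (x : Ω) ∈ Q) : ((s * x * s⁻¹ : ↥S) : Ω) ∈ Q :=
  KN.conj_mem_of_isNormal F hQn s.2 hx

include hQn in
theorem conj_mem_Q' (s : ↥S) {x : ↥S} (hx : (x : Ω) ∈ Q) : ((s⁻¹ * x * s : ↥S) : Ω) ∈ Q := by
  have := conj_mem_Q F hQn s⁻¹ hx
  rw [inv_inv] at this
  exact this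

/-- the stability of the biset -/
theorem stableY (hQc : F.IsCentric Q) (γ : ↥(F.autGroup Q)) (y₀ : YY F hQn hS hF) :
    ∃ y₀' : YY F hQn hS hF, pY F hQn hS hF y₀' = γ * pY F hQn hS hF y₀ ∧
      ∀ x : ↥S, (x : Ω) ∈ NΩ F γ → ∀ b : ↥S,
        lY F hQn hS hF x y₀ = rY F hQn hS hF y₀ b →
          lY F hQn hS hF (psiFun F hQn hS hF γ x) y₀' = rY F hQn hS hF y₀' b := by
  obtain ⟨d, ⟨a, c⟩, rfl⟩ := exists_mkY F hQn hS hF y₀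
  obtain ⟨y₁, hy₁⟩ := surjY F hQn hS hF (γ * pY F hQn hS hF (mkY F hQn hS hF d (a, c)))
  obtain ⟨d₁, ⟨a₁, c₁⟩, rfl⟩ := exists_mkY F hQn hS hF y₁
  rw [pY_mk, pY_mk] at hy₁
  simp only at hy₁
  rw [pY_mk]
  simp only
  -- abbreviations
  have hadmγ := psiFun_adm F hQn hS hF γ
  have hadm₀ := psid_adm F hQn hS hF d
  have hadm₁ := psid_adm F hQn hS hF d₁
  set ψ := psiFun F hQn hS hF γ with hψdef
  set ψ₀ := psid F hQn hS hF d with hψ₀def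
  set ψ₁ := psid F hQn hS hF d₁ with hψ₁def
  set τ := tau F hQn d with hτdef
  set τ₁ := tau F hQn d₁ with hτ₁def
  -- solve for τ₁
  have hτ₁ : τ₁ = (piHom F hQn a₁)⁻¹ * (γ * (piHom F hQn a * τ * (piHom F hQn c)⁻¹)) *
      piHom F hQn c₁ := by
    rw [← hy₁]
    group
  -- the common domain
  let P₀ : Subgroup Ω := NΩ F γ ⊓ (Nd F hQn d).comap (MulAut.conj (a : Ω)⁻¹).toMonoidHom
  have hmemP₀ : ∀ x : Ω, x ∈ P₀ ↔ x ∈ NΩ F γ ∧ (a : Ω)⁻¹ * x * a ∈ Nd F hQn d := by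
    intro x
    simp [P₀, Subgroup.mem_inf, Subgroup.mem_comap]
  have hP₀S : P₀ ≤ S := inf_le_left.trans (NΩ_le F γ)
  have hQP₀ : Q ≤ P₀ := by
    intro x hx
    rw [hmemP₀]
    refine ⟨le_NΩ F hQn γ hx, ?_⟩
    exact le_NΩ F hQn _ (conj_mem_Q' F hQn a (x := ⟨x, hQn.1 hx⟩) hx)
  -- π of ψ₀ and ψ
  have hπψ₀ : ∀ u : ↥S, (u : Ω) ∈ Nd F hQn d →
      piHom F hQn (ψ₀ u) = τ⁻¹ * piHom F hQn u * τ⁻¹⁻¹ := fun u hu =>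
    piHom_psiFun F hQn hS hF _ hu
  have hπψ₁ : ∀ u : ↥S, (u : Ω) ∈ Nd F hQn d₁ →
      piHom F hQn (ψ₁ u) = τ₁⁻¹ * piHom F hQn u * τ₁⁻¹⁻¹ := fun u hu =>
    piHom_psiFun F hQn hS hF _ hu
  have hπψ : ∀ u : ↥S, (u : Ω) ∈ NΩ F γ →
      piHom F hQn (ψ u) = γ * piHom F hQn u * γ⁻¹ := fun u hu =>
    piHom_psiFun F hQn hS hF _ hu
  -- the two maps
  let α₀ : ↥S → ↥S := fun x => c * ψ₀ (a⁻¹ * x * a) * c⁻¹
  let α₁ : ↥S → ↥S := fun x => c₁ * ψ₁ (a₁⁻¹ * ψ x * a₁) * c₁⁻¹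
  have hconj : ∀ (P : Subgroup Ω) (hP : P ≤ S) (s : ↥S), AdmF F P (fun x => s⁻¹ * x * s) := by
    intro P hP s
    exact (AdmF.conj F hP s⁻¹).congr (fun x _ => by rw [inv_inv])
  have hα₀ : AdmF F P₀ α₀ := by
    have h1 := (hconj P₀ hP₀S a).comp hadm₀ (fun x hx => ((hmemP₀ _).mp hx).2)
    exact h1.comp (AdmF.conj F (le_refl S) c) (fun x _ => (ψ₀ (a⁻¹ * x * a)).2)
  -- key membership
  have hK1 : ∀ x : ↥S, (x : Ω) ∈ P₀ → ((a₁⁻¹ * ψ x * a₁ : ↥S) : Ω) ∈ Nd F hQn d₁ := by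
    intro x hx
    obtain ⟨hxN, hxa⟩ := (hmemP₀ _).mp hx
    unfold Nd
    rw [mem_NΩ_iff F hQn]
    refine ⟨c₁⁻¹ * α₀ x * c₁, ?_⟩
    show τ₁⁻¹ * piHom F hQn (a₁⁻¹ * ψ x * a₁) * τ₁⁻¹⁻¹ =
      piHom F hQn (c₁⁻¹ * (c * ψ₀ (a⁻¹ * x * a) * c⁻¹) * c₁)
    simp only [map_mul, map_inv]
    rw [hπψ x hxN, hπψ₀ _ hxa]
    simp only [map_mul, map_inv]
    rw [hτ₁]
    group
  have hα₁ : AdmF F P₀ α₁ := by
    have h1 := (hadmγ.mono (inf_le_left : P₀ ≤ NΩ F γ)).comp (hconj S (le_refl S) a₁)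
      (fun x _ => (ψ x).2)
    have h2 := h1.comp hadm₁ hK1
    exact h2.comp (AdmF.conj F (le_refl S) c₁) (fun x _ => (ψ₁ (a₁⁻¹ * ψ x * a₁)).2)
  -- agreement on Q
  have hag : ∀ x : ↥S, (x : Ω) ∈ Q → α₀ x = α₁ x := by
    intro x hx
    have e0 : α₀ x = app hQn.1 (((piHom F hQn c : ↥(F.autGroup Q)) : MulAut Q) *
        (((τ⁻¹ : ↥(F.autGroup Q)) : MulAut Q) *
          ((piHom F hQn a⁻¹ : ↥(F.autGroup Q)) : MulAut Q))) x := by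
      rw [app_pi_mul F hQn c _ hx, app_mul_pi F hQn _ _ hx, inv_inv]
      show c * ψ₀ (a⁻¹ * x * a) * c⁻¹ = _
      rw [hψ₀def]
      unfold psid
      rw [psiFun_Q F hQn hS hF _ (conj_mem_Q' F hQn a hx)]
    have e1 : α₁ x = app hQn.1 (((piHom F hQn c₁ : ↥(F.autGroup Q)) : MulAut Q) *
        ((((τ₁⁻¹ : ↥(F.autGroup Q)) : MulAut Q) *
          ((piHom F hQn a₁⁻¹ : ↥(F.autGroup Q)) : MulAut Q)) * (γ : MulAut Q))) x := by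
      rw [app_pi_mul F hQn c₁ _ hx, app_mul' hQn.1 _ _ hx,
        app_mul_pi F hQn _ _ (app_mem hQn.1 _ hx), inv_inv]
      show c₁ * ψ₁ (a₁⁻¹ * ψ x * a₁) * c₁⁻¹ = _
      rw [hψdef, psiFun_Q F hQn hS hF γ hx, hψ₁def]
      unfold psid
      rw [psiFun_Q F hQn hS hF _ (conj_mem_Q' F hQn a₁ (app_mem hQn.1 _ hx))]
    rw [e0, e1]
    congr 1
    have h3 : piHom F hQn c * (τ⁻¹ * piHom F hQn a⁻¹) =
        piHom F hQn c₁ * ((τ₁⁻¹ * piHom F hQn a₁⁻¹) * γ) := by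
      rw [hτ₁]
      simp only [map_inv]
      group
    exact congrArg (fun t : ↥(F.autGroup Q) => (t : MulAut Q)) h3
  obtain ⟨z, hzQ, hzC, hz⟩ := AdmF.agree hS hF hQc hQP₀ hα₀ hα₁ hag
  have hzP₀ : (z : Ω) ∈ P₀ := hQP₀ hzQ
  have hπz : piHom F hQn z = 1 := (piHom_eq_one_iff F hQn z).mpr hzC
  -- the twisting element
  have hπz' : piHom F hQn (α₀ z) = 1 := by
    show piHom F hQn (c * ψ₀ (a⁻¹ * z * a) * c⁻¹) = 1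
    simp only [map_mul, map_inv]
    rw [hπψ₀ _ ((hmemP₀ _).mp hzP₀).2]
    simp only [map_mul, map_inv]
    rw [hπz]
    group
  have hz' : ∀ x : ↥S, (x : Ω) ∈ P₀ → α₁ x = α₀ z * α₀ x * (α₀ z)⁻¹ := by
    intro x hx
    rw [hz x hx, hα₀.map_mul (P₀.mul_mem hzP₀ hx) (P₀.inv_mem hzP₀), hα₀.map_mul hzP₀ hx,
      hα₀.map_inv hzP₀]
  refine ⟨rY F hQn hS hF (mkY F hQn hS hF d₁ (a₁, c₁)) (α₀ z), ?_, ?_⟩
  · rw [rY_mk, pY_mk, ← hτ₁def]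
    simp only [map_mul, map_inv]
    rw [hπz', ← hy₁]
    group
  · intro x hxN b hb
    rw [lY_mk, rY_mk, eq_comm, mkY_eq_iff, mem_Delta] at hb
    obtain ⟨hb1, hb2⟩ := hb
    have hb1' : ((a⁻¹ * x * a : ↥S) : Ω) ∈ Nd F hQn d := by
      have : ((a, b⁻¹ * c)⁻¹ * (x * a, c) : ↥S × ↥S).1 = a⁻¹ * x * a := by
        show a⁻¹ * (x * a) = a⁻¹ * x * a
        group
      rw [this] at hb1
      exact hb1
    have hb2' : ψ₀ (a⁻¹ * x * a) = c⁻¹ * b * c := by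
      have h1 : ((a, b⁻¹ * c)⁻¹ * (x * a, c) : ↥S × ↥S).1 = a⁻¹ * x * a := by
        show a⁻¹ * (x * a) = a⁻¹ * x * a
        group
      have h2 : ((a, b⁻¹ * c)⁻¹ * (x * a, c) : ↥S × ↥S).2 = c⁻¹ * b * c := by
        show (b⁻¹ * c)⁻¹ * c = c⁻¹ * b * c
        group
      rw [h1, h2] at hb2
      exact hb2
    have hxP₀ : (x : Ω) ∈ P₀ := (hmemP₀ _).mpr ⟨hxN, hb1'⟩
    have hα₀x : α₀ x = b := by
      show c * ψ₀ (a⁻¹ * x * a) * c⁻¹ = b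
      rw [hb2']
      group
    have hα₁x := hz' x hxP₀
    rw [hα₀x] at hα₁x
    rw [rY_mk, lY_mk, rY_mk, eq_comm, mkY_eq_iff, mem_Delta]
    refine ⟨?_, ?_⟩
    · have : ((a₁, b⁻¹ * ((α₀ z)⁻¹ * c₁))⁻¹ * (ψ x * a₁, (α₀ z)⁻¹ * c₁) : ↥S × ↥S).1 =
          a₁⁻¹ * ψ x * a₁ := by
        show a₁⁻¹ * (ψ x * a₁) = a₁⁻¹ * ψ x * a₁
        group
      rw [this]
      exact hK1 x hxP₀
    · have h1 : ((a₁, b⁻¹ * ((α₀ z)⁻¹ * c₁))⁻¹ * (ψ x * a₁, (α₀ z)⁻¹ * c₁) : ↥S × ↥S).1 =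
          a₁⁻¹ * ψ x * a₁ := by
        show a₁⁻¹ * (ψ x * a₁) = a₁⁻¹ * ψ x * a₁
        group
      have h2 : ((a₁, b⁻¹ * ((α₀ z)⁻¹ * c₁))⁻¹ * (ψ x * a₁, (α₀ z)⁻¹ * c₁) : ↥S × ↥S).2 =
          c₁⁻¹ * (α₀ z * b * (α₀ z)⁻¹) * c₁ := by
        show (b⁻¹ * ((α₀ z)⁻¹ * c₁))⁻¹ * ((α₀ z)⁻¹ * c₁) = c₁⁻¹ * (α₀ z * b * (α₀ z)⁻¹) * c₁
        group
      rw [h1, h2, ← hα₁x]
      show ψ₁ (a₁⁻¹ * ψ x * a₁) = c₁⁻¹ * (c₁ * ψ₁ (a₁⁻¹ * ψ x * a₁) * c₁⁻¹) * c₁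
      group

end Cfsg.Agent.Lib.Helper1.Model
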