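import Mathlib
import Cfsg.Agent.Lib.Helper1.Model6

set_option autoImplicit false
set_option linter.style.haveILetI false
set_option linter.unusedSectionVars false
set_option linter.unusedVariables false

namespace Cfsg.Agent.Lib.Helper1.Model

open Cfsg Cfsg.FusionSystem Cfsg.Agent.Lib.Helper9
open scoped IsMulCommutative

universe u

variable {Ω : Type u} [Group Ω] {S : Subgroup Ω} [Finite S]
variable (F : FusionSystem S) {Q : Subgroup Ω} (hQn : F.IsNormal Q)
variable {p : ℕ} [Fact p.Prime] (hS : IsPGroup p S) (hF : F.IsSaturated p)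

/-- an `F`-map extending `γ` on `Q` transports the conjugation action through `γ` -/
theorem piHom_of_adm {P : Subgroup Ω} {f : ↥S → ↥S} (hf : AdmF F P f) (hQP : Q ≤ P)
    (γ : ↥(F.autGroup Q)) (hfQ : ∀ x : ↥S, (x : Ω) ∈ Q → f x = app hQn.1 (γ : MulAut Q) x)
    {x : ↥S} (hx : (x : Ω) ∈ P) :
    piHom F hQn (f x) = γ * piHom F hQn x * γ⁻¹ := by
  apply Subtype.ext
  apply aut_ext_app hQn.1
  intro x₀ hx₀
  rw [app_piHom F hQn _ hx₀]
  show _ = app hQn.1 ((γ : MulAut Q) * (piHom F hQn x : ↥(F.autGroup Q)) * (γ : MulAut Q)⁻¹) x₀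
  rw [app_mul' hQn.1 _ _ hx₀, app_mul' hQn.1 _ _ (app_mem hQn.1 _ hx₀),
    app_piHom F hQn x (app_mem hQn.1 _ hx₀)]
  set q' := app hQn.1 (γ : MulAut Q)⁻¹ x₀ with hq'
  have hq'Q : (q' : Ω) ∈ Q := app_mem hQn.1 _ hx₀
  have hcQ : ((x * q' * x⁻¹ : ↥S) : Ω) ∈ Q := KN.conj_mem_of_isNormal F hQn x.2 hq'Q
  have hq'P : (q' : Ω) ∈ P := hQP hq'Q
  rw [← hfQ _ hcQ, hf.map_mul (P.mul_mem hx hq'P) (P.inv_mem hx),
    hf.map_mul hx hq'P, hf.map_inv hx, hfQ _ hq'Q, hq', app_app_inv hQn.1 _ hx₀]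

theorem range_piHom :
    (piHom F hQn).range = (autInducedBy S Q).subgroupOf (F.autGroup Q) := by
  ext γ
  rw [Subgroup.mem_subgroupOf, mem_autInducedBy_iff]
  constructor
  · rintro ⟨s, rfl⟩
    exact ⟨s, s.2, fun x => rfl⟩
  · rintro ⟨g, hg, hgx⟩
    refine ⟨⟨g, hg⟩, ?_⟩
    apply Subtype.ext
    ext x
    exact (hgx x).symm

include hS hF in
theorem not_dvd_index_range : ¬ p ∣ (piHom F hQn).range.index := by
  haveI : Finite ↥(F.autGroup Q) := finite_autGroup F hQn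
  obtain ⟨-, R, hR⟩ := fullyAutomized_of_fullyNormalized hS F hF
    (fullyNormalized_of_isNormal F hQn)
  rw [range_piHom, ← hR]
  exact R.not_dvd_index

include hQn hS in
theorem isPGroup_center : IsPGroup p ↥(Subgroup.center ↥Q) :=
  (isPGroup_of_le hS hQn.1).to_subgroup _

include hS hF in
/-- **Existence of models**, with the structure map to `Aut_F(Q)`. -/
theorem exists_model_aux (hQc : F.IsCentric Q) :
    ∃ (G : Type u) (_ : Group G) (ι : ↥S →* G), F.IsModel p G ι ∧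
      ∃ θ : G →* ↥(F.autGroup Q), Function.Surjective θ ∧
        (∀ s, θ (ι s) = piHom F hQn s) ∧
        (∀ g, θ g = 1 → ∃ z, g = ι (jHom hQn.1 z)) := by
  haveI : Finite ↥(F.autGroup Q) := finite_autGroup F hQn
  haveI : Finite Q := finite_of_le hQn.1
  have hQS := hQn.1
  -- coprimality
  have hcop : (Nat.card ↥(Subgroup.center ↥Q)).Coprime (piHom F hQn).range.index := by
    obtain ⟨n, hn⟩ := (IsPGroup.iff_card).mp (isPGroup_center F hQn hS)
    rw [hn]
    apply Nat.Coprime.pow_left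
    exact (Nat.Prime.coprime_iff_not_dvd Fact.out).mpr (not_dvd_index_range F hQn hS hF)
  obtain ⟨G, hGgrp, hGfin, ι, θ, hιinj, hθsurj, hθι, hker, hstab⟩ :=
    (bisetY F hQn hS hF hQc).exists_extension (jHom_injective hQS) (piHom_jHom F hQn)
      (exists_jHom_of_piHom_eq_one F hQn hQc) (jHom_actHom F hQn) hcop
  -- (C): every `γ` has a good lift
  have hC : ∀ γ : ↥(F.autGroup Q), ∃ g₀ : G, θ g₀ = γ ∧ ∀ x : ↥S, (x : Ω) ∈ NΩ F γ →
      g₀ * ι x * g₀⁻¹ = ι (psiFun F hQn hS hF γ x) := by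
    intro γ
    obtain ⟨g₀, hg₀, hg₀x⟩ := hstab γ ((NΩ F γ).subgroupOf S) (psiFun F hQn hS hF γ)
      (fun x hx x' hx' => (psiFun_adm F hQn hS hF γ).map_mul hx hx')
      (fun x hx => piHom_psiFun F hQn hS hF γ hx)
      (fun y₀ => by
        obtain ⟨y₀', h1, h2⟩ := stableY F hQn hS hF hQc γ y₀
        exact ⟨y₀', h1, fun x hx b hb => h2 x hx b hb⟩)
    exact ⟨g₀, hg₀, fun x hx => hg₀x x hx⟩
  -- (D): the conjugation action of an arbitrary element
  have hD : ∀ g : G, ∃ z : ↥(Subgroup.center ↥Q), ∀ x : ↥S, (x : Ω) ∈ NΩ F (θ g) →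
      g * ι x * g⁻¹ = ι (psiFun F hQn hS hF (θ g)
        (jHom hQS z * x * (jHom hQS z)⁻¹)) := by
    intro g
    obtain ⟨g₀, hg₀, hg₀x⟩ := hC (θ g)
    have h1 : θ (g₀⁻¹ * g) = 1 := by
      rw [map_mul, map_inv, hg₀, inv_mul_cancel]
    obtain ⟨z, hz⟩ := hker _ h1
    refine ⟨z, fun x hx => ?_⟩
    have hzN : ((jHom hQS z : ↥S) : Ω) ∈ NΩ F (θ g) := le_NΩ F hQn _ (jHom_mem hQS z)
    have hmem : ((jHom hQS z * x * (jHom hQS z)⁻¹ : ↥S) : Ω) ∈ NΩ F (θ g) :=
      (NΩ F (θ g)).mul_mem ((NΩ F (θ g)).mul_mem hzN hx) ((NΩ F (θ g)).inv_mem hzN)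
    rw [← hg₀x _ hmem, map_mul, map_mul, map_inv, ← hz]
    group
  -- normality of the image of `Q`
  have hQι : ∀ (g : G) (q : ↥S), (q : Ω) ∈ Q → ∃ q' : ↥S, (q' : Ω) ∈ Q ∧ g * ι q * g⁻¹ = ι q' := by
    intro g q hq
    obtain ⟨z, hz⟩ := hD g
    have hq2 : ((jHom hQS z * q * (jHom hQS z)⁻¹ : ↥S) : Ω) ∈ Q :=
      conj_mem_Q F hQn _ hq
    refine ⟨_, ?_, hz q (le_NΩ F hQn _ hq)⟩
    rw [psiFun_Q F hQn hS hF _ hq2]
    exact app_mem hQS _ hq2
  refine ⟨G, hGgrp, ι, ⟨hGfin, ⟨hιinj, ?_⟩, ?_, ?_⟩, θ, hθsurj, hθι, hker⟩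
  · -- realization
    intro P hP φ hφS
    constructor
    · intro hφ
      obtain ⟨ψ', hψ', hψ'P, hψ'Q⟩ := hQn.2 P φ hφ
      have hadm : AdmF F (P ⊔ Q) (extendFun (P ⊔ Q) ψ') := AdmF.of_hom hψ'
      have hPQS : P ⊔ Q ≤ S := sup_le hP hQS
      -- the automorphism induced on `Q`
      have hle : Q ≤ P ⊔ Q := le_sup_right
      have hres := restrict_mem F hψ' hle
      obtain ⟨α, hα, hαψ⟩ := exists_aut_of_normal F hQn (le_refl Q) hres
      let γ : ↥(F.autGroup Q) := ⟨α, hα⟩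
      have hfQ : ∀ x : ↥S, (x : Ω) ∈ Q →
          extendFun (P ⊔ Q) ψ' x = app hQS (γ : MulAut Q) x := by
        intro x hx
        apply Subtype.ext
        rw [extendFun_apply F hψ' x (hle hx), app_coe hQS _ hx]
        exact (hαψ ⟨x, hx⟩).symm
      have hPQN : P ⊔ Q ≤ NΩ F γ := by
        intro x hx
        have hxS : x ∈ S := hPQS hx
        rw [show x = ((⟨x, hxS⟩ : ↥S) : Ω) from rfl, mem_NΩ_iff F hQn]
        exact ⟨_, (piHom_of_adm F hQn hadm hle γ hfQ (x := ⟨x, hxS⟩) hx).symm⟩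
      obtain ⟨z, hzQ, hzC, hz⟩ := AdmF.agree hS hF hQc hle
        ((psiFun_adm F hQn hS hF γ).mono hPQN) hadm
        (fun x hx => by rw [psiFun_Q F hQn hS hF γ hx, hfQ x hx])
      obtain ⟨g₀, hg₀, hg₀x⟩ := hC γ
      refine ⟨g₀ * ι z, fun x => ?_⟩
      have hxPQ : (x : Ω) ∈ P ⊔ Q := (le_sup_left : P ≤ P ⊔ Q) x.2
      have h1 : (⟨φ x, hφS x⟩ : ↥S) = extendFun (P ⊔ Q) ψ' ⟨x, hP x.2⟩ := by
        apply Subtype.ext
        rw [extendFun_apply F hψ' ⟨x, hP x.2⟩ hxPQ]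
        exact (hψ'P x).symm
      rw [h1, hz ⟨x, hP x.2⟩ hxPQ]
      have hmem : ((z * ⟨x, hP x.2⟩ * z⁻¹ : ↥S) : Ω) ∈ NΩ F γ := by
        apply hPQN
        exact (P ⊔ Q).mul_mem ((P ⊔ Q).mul_mem (hle hzQ) hxPQ) ((P ⊔ Q).inv_mem (hle hzQ))
      rw [← hg₀x _ hmem, map_mul, map_mul, map_inv]
      group
    · rintro ⟨g, hg⟩
      obtain ⟨z, hz⟩ := hD g
      have hPN : ∀ x : P, (x : Ω) ∈ NΩ F (θ g) := by
        intro x
        rw [show (x : Ω) = ((⟨x, hP x.2⟩ : ↥S) : Ω) from rfl, mem_NΩ_iff F hQn]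
        refine ⟨⟨φ x, hφS x⟩, ?_⟩
        rw [← hθι, ← hθι, hg x, map_mul, map_mul, map_inv]
      have hval : ∀ x : P, (⟨φ x, hφS x⟩ : ↥S) = psiFun F hQn hS hF (θ g)
          (jHom hQS z * ⟨x, hP x.2⟩ * (jHom hQS z)⁻¹) := by
        intro x
        apply hιinj
        rw [hg x, hz ⟨x, hP x.2⟩ (hPN x)]
      have hadm : AdmF F P (fun x => psiFun F hQn hS hF (θ g)
          (jHom hQS z * x * (jHom hQS z)⁻¹)) := by
        refine (AdmF.conj F hP (jHom hQS z)).comp (psiFun_adm F hQn hS hF (θ g)) ?_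
        intro x hx
        have hzN : ((jHom hQS z : ↥S) : Ω) ∈ NΩ F (θ g) := le_NΩ F hQn _ (jHom_mem hQS z)
        exact (NΩ F (θ g)).mul_mem ((NΩ F (θ g)).mul_mem hzN (hPN ⟨x, hx⟩))
          ((NΩ F (θ g)).inv_mem hzN)
      apply hadm.to_hom
      intro x hx
      exact congrArg (fun t : ↥S => (t : Ω)) (hval ⟨x, hx⟩)
  · -- Sylow
    have hp : IsPGroup p ↥ι.range := hS.of_equiv (MonoidHom.ofInjective hιinj)
    have hcardG : Nat.card G = Nat.card ↥(Subgroup.center ↥Q) * Nat.card ↥(F.autGroup Q) := by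
      rw [Subgroup.card_eq_card_quotient_mul_card_subgroup θ.ker,
        Nat.card_congr (QuotientGroup.quotientKerEquivOfSurjective θ hθsurj).toEquiv, mul_comm]
      congr 1
      symm
      apply Nat.card_congr
      refine Equiv.ofBijective (fun z => ⟨ι (jHom hQS z), by
        rw [MonoidHom.mem_ker, hθι, piHom_jHom F hQn]⟩) ⟨?_, ?_⟩
      · intro z z' h
        exact jHom_injective hQS (hιinj (congrArg Subtype.val h))
      · rintro ⟨g, hg⟩
        obtain ⟨z, hz⟩ := hker g (MonoidHom.mem_ker.mp hg)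
        exact ⟨z, Subtype.ext hz.symm⟩
    have hcardS : Nat.card ↥S = Nat.card ↥(Subgroup.center ↥Q) *
        Nat.card ↥(piHom F hQn).range := by
      rw [Subgroup.card_eq_card_quotient_mul_card_subgroup (piHom F hQn).ker,
        Nat.card_congr (QuotientGroup.quotientKerEquivRange (piHom F hQn)).toEquiv, mul_comm]
      congr 1
      symm
      apply Nat.card_congr
      refine Equiv.ofBijective (fun z => ⟨jHom hQS z, by
        rw [MonoidHom.mem_ker, piHom_jHom F hQn]⟩) ⟨?_, ?_⟩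
      · intro z z' h
        exact jHom_injective hQS (congrArg Subtype.val h)
      · rintro ⟨s, hs⟩
        obtain ⟨z, hz⟩ := exists_jHom_of_piHom_eq_one F hQn hQc s (MonoidHom.mem_ker.mp hs)
        exact ⟨z, Subtype.ext hz⟩
    have hcardR : Nat.card ↥ι.range = Nat.card ↥S :=
      (Nat.card_congr (MonoidHom.ofInjective hιinj).toEquiv).symm
    have hidx : ι.range.index = (piHom F hQn).range.index := by
      have h1 := Subgroup.index_mul_card ι.range
      have h2 := Subgroup.index_mul_card (piHom F hQn).range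
      rw [hcardR, hcardS, hcardG, ← h2] at h1
      have hpos : 0 < Nat.card ↥(Subgroup.center ↥Q) * Nat.card ↥(piHom F hQn).range :=
        Nat.mul_pos Nat.card_pos Nat.card_pos
      have h3 : ι.range.index * (Nat.card ↥(Subgroup.center ↥Q) *
          Nat.card ↥(piHom F hQn).range) = (piHom F hQn).range.index *
          (Nat.card ↥(Subgroup.center ↥Q) * Nat.card ↥(piHom F hQn).range) := by
        rw [h1]
        ring
      exact Nat.eq_of_mul_eq_mul_right hpos h3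
    have hnd : ¬ p ∣ ι.range.index := by
      rw [hidx]
      exact not_dvd_index_range F hQn hS hF
    exact ⟨hp.toSylow hnd, rfl⟩
  · -- the centralizer of the core
    let N : Subgroup G := (Q.subgroupOf S).map ι
    have hNnormal : N.Normal := by
      constructor
      rintro n ⟨q, hq, rfl⟩ g
      obtain ⟨q', hq', hgq⟩ := hQι g q hq
      rw [hgq]
      exact ⟨q', hq', rfl⟩
    have hNp : IsPGroup p N :=
      (hS.to_subgroup (Q.subgroupOf S)).map ι
    have hNle : N ≤ pCore p G := le_pCore hNnormal hNp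
    intro g hg
    have hg' : g ∈ Subgroup.centralizer (N : Set G) := Subgroup.centralizer_le hNle hg
    rw [Subgroup.mem_centralizer_iff] at hg'
    obtain ⟨z, hz⟩ := hD g
    have hθg : θ g = 1 := by
      apply Subtype.ext
      apply aut_ext_app hQS
      intro x₀ hx₀
      rw [Subgroup.coe_one, app_one hQS hx₀]
      have h1 := hg' (ι x₀) ⟨x₀, hx₀, rfl⟩
      have h2 : g * ι x₀ * g⁻¹ = ι x₀ := by
        rw [← h1]
        group
      rw [hz x₀ (le_NΩ F hQn _ hx₀)] at h2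
      have h3 := hιinj h2
      have hcomm : jHom hQS z * x₀ * (jHom hQS z)⁻¹ = x₀ := by
        have h4 := Subgroup.mem_center_iff.mp z.2 ⟨x₀, hx₀⟩
        have h5 : x₀ * jHom hQS z = jHom hQS z * x₀ :=
          Subtype.ext (congrArg (fun t : Q => (t : Ω)) h4)
        rw [← h5]
        group
      rw [hcomm, psiFun_Q F hQn hS hF _ hx₀] at h3
      exact h3
    obtain ⟨z', hz'⟩ := hker g hθg
    apply hNle
    rw [hz']
    exact ⟨jHom hQS z', jHom_mem hQS z', rfl⟩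

end Cfsg.Agent.Lib.Helper1.Model
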