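import Mathlib
import Cfsg.Agent.Lib.Helper1.KL2
import Cfsg.Agent.Lib.Helper1.KL3
import Cfsg.Agent.Lib.Helper1.KL4
import Cfsg.Agent.Lib.Helper1.KL5
import Cfsg.Agent.S5090

set_option autoImplicit false
set_option linter.style.haveILetI false
set_option linter.unusedSectionVars false
set_option linter.unusedVariables false

/-! Kessar–Linckelmann reduction, part 6: the reduction lemma and the Glauberman–Thompson
criterion for fusion systems relative to a strongly closed subgroup. -/

namespace Cfsg.Agent.Lib.Helper1.KL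

open Cfsg Cfsg.FusionSystem Cfsg.Agent.Lib.Helper9 Cfsg.Agent.Lib.Helper1.KN

universe u

variable {Ω : Type u} [Group Ω] {S : Subgroup Ω}

theorem le_of_bad {F : FusionSystem S} {p : ℕ} {R : Subgroup Ω} (hb : Bad F p R) : R ≤ S := by
  obtain ⟨Y, α, hRY, hYN, -⟩ := hb
  exact hRY.trans (hYN.trans (normalizerIn_le S R))

/-- **Reduction lemma**: a saturated system that is not inner contains the normalizer system of
a nontrivial `R ⊴ S` that is saturated, not inner, and either constrained or with `D ≤ R`. -/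
theorem reduction [Finite S] {p : ℕ} [Fact p.Prime] (hS : IsPGroup p S) (F : FusionSystem S)
    (hF : F.IsSaturated p) {D : Subgroup Ω} (hD : F.StronglyClosed D) (hD0 : D ≠ ⊥)
    (IH : IHyp.{u} p (Nat.card S)) (hni : ¬ InnerOn F) :
    ∃ (R : Subgroup Ω) (E : FusionSystem (normalizerIn S R)), R ≠ ⊥ ∧ normalizerIn S R = S ∧
      F.IsNormalizerSystem R E ∧ E.IsSaturated p ∧ ¬ InnerOn E ∧ E.IsNormal R ∧
        (E.IsConstrained p ∨ D ≤ R) := by
  obtain ⟨R₀, hR₀0, hR₀N, hR₀b⟩ := exists_bad_normal hS F hF hD hD0 IH hni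
  have hfin : {R : Subgroup Ω | R ≠ ⊥ ∧ normalizerIn S R = S ∧ Bad F p R}.Finite :=
    (finite_subgroups_le S).subset (fun R hR => le_of_bad hR.2.2)
  haveI : Finite {R : Subgroup Ω // R ≠ ⊥ ∧ normalizerIn S R = S ∧ Bad F p R} := hfin.to_subtype
  haveI : Nonempty {R : Subgroup Ω // R ≠ ⊥ ∧ normalizerIn S R = S ∧ Bad F p R} :=
    ⟨⟨R₀, hR₀0, hR₀N, hR₀b⟩⟩
  obtain ⟨⟨R, hR0, hRN, hRb⟩, hmax⟩ := Finite.exists_max
    (fun R : {R : Subgroup Ω // R ≠ ⊥ ∧ normalizerIn S R = S ∧ Bad F p R} =>
      Nat.card (R : Subgroup Ω))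
  have hRS : R ≤ S := le_of_bad hRb
  have hRfn := fullyNormalized_of_normalizerIn_eq F hRS hRN
  obtain ⟨E, hE⟩ := Cfsg.Agent.S5096.result F R hRS
  have hEsat := Cfsg.Agent.S5098.result p hS F hF R hRfn E hE
  haveI : Finite ↥(normalizerIn S R) := finite_normalizerIn (S := S) R
  have hTp : IsPGroup p ↥(normalizerIn S R) := isPGroup_of_le hS (normalizerIn_le S R)
  have hniE : ¬ InnerOn E := by
    obtain ⟨Y, α, hRY, hYN, hα, hαR, hαp⟩ := hRb
    refine not_innerOn_of_aut hTp E hYN ?_ hαp
    rw [mem_autGroup_iff E hYN, hE Y]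
    exact mem_normalizerHom_of_aut F hRY hYN hα hαR
  have hRn : E.IsNormal R := normal_self_of_isNormalizerSystem F hRS E hE
  refine ⟨R, E, hR0, hRN, hE, hEsat, hniE, hRn, ?_⟩
  have hIH' : IHyp.{u} p (Nat.card ↥(normalizerIn S R)) := by
    rw [hRN]
    exact IH
  have hDT : D ≤ normalizerIn S R := by
    rw [hRN]
    exact hD.1
  have hDE : E.StronglyClosed D :=
    stronglyClosed_of_subsystem E F (isSubsystemOf_normalizerSystem F E hE) hDT hD
  have hmaxn : ∀ Q' : Subgroup Ω, E.IsNormal Q' → R ≤ Q' → Q' = R := by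
    intro Q' hQ'n hRQ'
    have hQ'T := hQ'n.1
    haveI : Finite Q' := finite_of_le (hQ'T.trans (normalizerIn_le S R))
    have hQ'b : Bad F p Q' := bad_of_normal_ge F E hE hQ'n hRb
    have hQ'N : normalizerIn S Q' = S := by
      apply normalizerIn_eq_of_forall
      intro s hs x hx
      exact conj_mem_of_isNormal E hQ'n (by rw [hRN]; exact hs) hx
    have hQ'0 : Q' ≠ ⊥ := by
      intro h
      apply hR0
      rw [eq_bot_iff, ← h]
      exact hRQ'
    have h1 := hmax ⟨Q', hQ'0, hQ'N, hQ'b⟩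
    exact (Subgroup.eq_of_le_of_card_ge hRQ' h1).symm
  have hX : ∀ X : Subgroup Ω, R ≤ X → X ≤ normalizerIn S R → Nat.card R < Nat.card X →
      (∀ t ∈ normalizerIn S R, ∀ x ∈ X, t * x * t⁻¹ ∈ X) →
      ∀ (Z : Subgroup Ω) (ψ : Z →* Ω), ψ ∈ E.Hom Z → X ≤ Z → (X.subgroupOf Z).map ψ = X →
        ∃ t ∈ normalizerIn S R, ∀ z : Z, ψ z = t * z * t⁻¹ := by
    intro X hRX hXT hcard hXnorm Z ψ hψ hXZ hψX
    have hXS : X ≤ S := hXT.trans (normalizerIn_le S R)
    haveI : Finite X := finite_of_le hXS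
    have hXN : normalizerIn S X = S :=
      normalizerIn_eq_of_forall (fun s hs x hx => hXnorm s (by rw [hRN]; exact hs) x hx)
    have hX0 : X ≠ ⊥ := by
      intro h
      apply hR0
      rw [eq_bot_iff, ← h]
      exact hRX
    have hXnb : ¬ Bad F p X := fun hb => absurd (hmax ⟨X, hX0, hXN, hb⟩) (not_le.mpr hcard)
    have hXfn := fullyNormalized_of_normalizerIn_eq F hXS hXN
    obtain ⟨NX, hNX⟩ := Cfsg.Agent.S5096.result F X hXS
    have hNXin : InnerOn NX := by
      by_contra hcon
      exact hXnb (bad_of_not_innerOn hS F hF hXfn NX hNX hcon)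
    have hψF := hom_of_normalizerSystem F E hE hψ
    have hZS : Z ≤ S := (F.le_of_mem hψF).1
    have hle : Z ⊔ X ≤ Z := _root_.sup_le le_rfl hXZ
    have hmem : ψ ∈ F.normalizerHom X Z := by
      refine ⟨hψF, ?_, ?_, ψ.comp (Subgroup.inclusion hle), restrict_mem F hψF hle,
        fun z => rfl, ?_⟩
      · rw [hXN]
        exact hZS
      · intro z
        rw [hXN]
        exact (F.le_of_mem hψF).2 z
      · rw [map_subgroupOf_comp_inclusion_eq hle _ le_sup_right]
        exact hψX
    rw [← hNX Z, hNXin Z] at hmem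
    obtain ⟨-, s, hs, hψs⟩ := hmem
    exact ⟨s, by rw [hRN]; exact normalizerIn_le S X hs, hψs⟩
  rcases star_or_le hTp E hEsat hRn hR0 hDE hIH' hX with hstar | hDR
  · left
    exact ⟨hEsat, R, hRn, centric_of_star hTp E hEsat hRn hstar hmaxn⟩
  · right
    exact hDR

/-- the induction step of the theorem -/
theorem thmA_step [Finite S] {p : ℕ} [Fact p.Prime] (hp : p ≠ 2) (hS : IsPGroup p S)
    (F : FusionSystem S) (hF : F.IsSaturated p) {D : Subgroup Ω} (hD : F.StronglyClosed D)
    (IH : IHyp.{u} p (Nat.card S))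
    (hN : ∀ N : FusionSystem (normalizerIn S (centerThompsonAOf D)),
      F.IsNormalizerSystem (centerThompsonAOf D) N → InnerOn N) : InnerOn F := by
  by_contra hni
  have hWle : centerThompsonAOf D ≤ D := centerThompsonAOf_le' D
  have hWS : centerThompsonAOf D ≤ S := hWle.trans hD.1
  haveI : Finite ↥(centerThompsonAOf D) := finite_of_le hWS
  obtain ⟨NW, hNW⟩ := Cfsg.Agent.S5096.result F _ hWS
  have hNWin := hN NW hNW
  have hWinner : ∀ (P : Subgroup Ω) (φ : P →* Ω),
      φ ∈ F.normalizerHom (centerThompsonAOf D) P → ∃ s ∈ S, ∀ x : P, φ x = s * x * s⁻¹ := by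
    intro P φ hφ
    rw [← hNW P, hNWin P] at hφ
    obtain ⟨-, s, hs, hφs⟩ := hφ
    exact ⟨s, normalizerIn_le S _ hs, hφs⟩
  have hNW' : ∀ s ∈ S, s ∈ normalizerIn S (centerThompsonAOf D) := fun s hs =>
    ⟨hs, KN.mem_normalizer_of_forall_conj_mem (fun w hw =>
      conj_mem_centerThompsonAOf (le_normalizer_of_stronglyClosed F hD hs) hw)⟩
  by_cases hD0 : D = ⊥
  · apply hni
    intro P
    apply Set.Subset.antisymm
    · intro φ hφ
      have hW0 : centerThompsonAOf D = ⊥ := by
        rw [eq_bot_iff]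
        exact hWle.trans hD0.le
      obtain ⟨hPS, hφS⟩ := F.le_of_mem hφ
      have hle : P ⊔ centerThompsonAOf D ≤ P := by
        rw [hW0]
        exact _root_.sup_le le_rfl bot_le
      have hmem : φ ∈ F.normalizerHom (centerThompsonAOf D) P := by
        refine ⟨hφ, fun x hx => hNW' x (hPS hx), fun x => hNW' _ (hφS x),
          φ.comp (Subgroup.inclusion hle), restrict_mem F hφ hle, fun z => rfl, ?_⟩
        rw [map_subgroupOf_comp_inclusion_eq hle _ le_sup_right]
        apply le_antisymm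
        · rintro _ ⟨x, hx, rfl⟩
          have hx1 : (x : Ω) ∈ centerThompsonAOf D := Subgroup.mem_subgroupOf.mp hx
          rw [hW0, Subgroup.mem_bot] at hx1
          have hx2 : x = 1 := Subtype.ext hx1
          rw [hx2, map_one]
          exact Subgroup.one_mem _
        · rw [hW0]
          exact bot_le
      obtain ⟨s, hs, hφs⟩ := hWinner P φ hmem
      exact ⟨hPS, s, hs, hφs⟩
    · exact innerFusionSystem_le F P
  · obtain ⟨R, E, hR0, hRN, hE, hEsat, hniE, hRn, hcase⟩ := reduction hS F hF hD hD0 IH hni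
    apply hniE
    haveI : Finite ↥(normalizerIn S R) := finite_normalizerIn (S := S) R
    have hTp : IsPGroup p ↥(normalizerIn S R) := isPGroup_of_le hS (normalizerIn_le S R)
    have hDT : D ≤ normalizerIn S R := by
      rw [hRN]
      exact hD.1
    have hDE : E.StronglyClosed D :=
      stronglyClosed_of_subsystem E F (isSubsystemOf_normalizerSystem F E hE) hDT hD
    have hWE : ∀ (P : Subgroup Ω) (φ : P →* Ω),
        φ ∈ E.normalizerHom (centerThompsonAOf D) P →
          ∃ t ∈ normalizerIn S R, ∀ x : P, φ x = t * x * t⁻¹ := by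
      intro P φ hφ
      obtain ⟨hφE, hPN, hφN, ψ, hψ, hψext, hψW⟩ := hφ
      have hmem : φ ∈ F.normalizerHom (centerThompsonAOf D) P :=
        ⟨hom_of_normalizerSystem F E hE hφE,
          fun x hx => ⟨normalizerIn_le S R (hPN hx).1, (hPN hx).2⟩,
          fun x => ⟨normalizerIn_le S R (hφN x).1, (hφN x).2⟩, ψ,
          hom_of_normalizerSystem F E hE hψ, hψext, hψW⟩
      obtain ⟨s, hs, hφs⟩ := hWinner P φ hmem
      exact ⟨s, by rw [hRN]; exact hs, hφs⟩
    rcases hcase with hcon | hDR
    · obtain ⟨L, hL, ι, hmodel⟩ := Cfsg.Agent.S5090.result p hTp E hcon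
      exact innerOn_of_model hp hTp E ι hmodel hDE hWE
    · intro P
      apply Set.Subset.antisymm
      · intro φ hφ
        have hφ' := hφ
        rw [hE P] at hφ'
        obtain ⟨hφF, hPN, hφN, ψ, hψ, hψext, hψR⟩ := hφ'
        have hWPR : centerThompsonAOf D ≤ P ⊔ R := hWle.trans (hDR.trans le_sup_right)
        have hle : P ⊔ centerThompsonAOf D ≤ P ⊔ R := _root_.sup_le le_sup_left hWPR
        have hDPR : D ≤ P ⊔ R := hDR.trans le_sup_right
        haveI : Finite D := finite_of_le hD.1
        -- `ψ` restricts to an automorphism of `D`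
        have hψD : ψ.comp (Subgroup.inclusion hDPR) ∈ F.Hom D := restrict_mem F hψ hDPR
        have hrD : (ψ.comp (Subgroup.inclusion hDPR)).range = D := by
          have hle' : (ψ.comp (Subgroup.inclusion hDPR)).range ≤ D := by
            rintro _ ⟨x, rfl⟩
            exact hD.2 D le_rfl _ hψD x
          apply Subgroup.eq_of_le_of_card_ge hle'
          exact le_of_eq (Nat.card_congr
            (MonoidHom.ofInjective (F.injective_of_mem hψD)).toEquiv)
        have hmem : φ ∈ F.normalizerHom (centerThompsonAOf D) P := by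
          refine ⟨hφF, fun x hx => hNW' x (normalizerIn_le S R (hPN hx)),
            fun x => hNW' _ (normalizerIn_le S R (hφN x)), ψ.comp (Subgroup.inclusion hle),
            restrict_mem F hψ hle, fun x => hψext x, ?_⟩
          rw [map_subgroupOf_comp_inclusion_eq hle ψ le_sup_right]
          apply map_eq_of_forall_mem ψ (F.injective_of_mem hψ) hWPR
          intro z hz
          exact (mem_centerThompsonAOf_iff_of_hom _ (F.injective_of_mem hψD) hrD
            ⟨z, hWle hz⟩).mp hz
        obtain ⟨s, hs, hφs⟩ := hWinner P φ hmem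
        exact ⟨(E.le_of_mem hφ).1, s, by rw [hRN]; exact hs, hφs⟩
      · exact innerFusionSystem_le E P

/-- the theorem for all `p`-groups of order less than `n` -/
theorem thmA_aux {p : ℕ} [Fact p.Prime] (hp : p ≠ 2) (n : ℕ) : IHyp.{u} p n := by
  induction n with
  | zero =>
    intro Ω' _ S' _ h
    exact absurd h (Nat.not_lt_zero _)
  | succ n ih =>
    intro Ω' _ S' _ hcard hS' F' hF' D' hD' hN
    by_cases hlt : Nat.card S' < n
    · exact ih Ω' S' hlt hS' F' hF' D' hD' hN
    · have hn : Nat.card S' = n := by omega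
      subst hn
      exact thmA_step hp hS' F' hF' hD' ih hN

/-- **Glauberman–Thompson for fusion systems, relative to a strongly closed subgroup.** -/
theorem thmA [Finite S] {p : ℕ} [Fact p.Prime] (hp : p ≠ 2) (hS : IsPGroup p S)
    (F : FusionSystem S) (hF : F.IsSaturated p) {D : Subgroup Ω} (hD : F.StronglyClosed D)
    (hN : ∀ N : FusionSystem (normalizerIn S (centerThompsonAOf D)),
      F.IsNormalizerSystem (centerThompsonAOf D) N → InnerOn N) : InnerOn F :=
  thmA_step hp hS F hF hD (thmA_aux hp _) hN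

/-- the converse direction -/
theorem normalizer_innerOn_of_innerOn [Finite S] (F : FusionSystem S) (hin : InnerOn F)
    {W : Subgroup Ω} (hWS : W ≤ S) (N : FusionSystem (normalizerIn S W))
    (hN : F.IsNormalizerSystem W N) : InnerOn N := by
  haveI : Finite W := finite_of_le hWS
  intro P
  apply Set.Subset.antisymm
  · intro φ hφ
    rw [hN P] at hφ
    obtain ⟨hφF, hPN, hφN, ψ, hψ, hψext, hψW⟩ := hφ
    rw [hin (P ⊔ W)] at hψ
    obtain ⟨-, s, hs, hψs⟩ := hψ
    refine ⟨hPN, s, ⟨hs, ?_⟩, fun x => ?_⟩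
    · apply KN.mem_normalizer_of_forall_conj_mem
      intro w hw
      have h1 := hψW.le ⟨⟨w, Subgroup.mem_sup_right hw⟩, Subgroup.mem_subgroupOf.mpr hw, rfl⟩
      rw [hψs] at h1
      exact h1
    · rw [← hψext x, hψs]
      rfl
  · exact innerFusionSystem_le N P

theorem exists_transport {T S : Subgroup Ω} (h : T = S) (E : FusionSystem T) (p : ℕ) :
    ∃ E' : FusionSystem S, (∀ P, E'.Hom P = E.Hom P) ∧ (E.IsConstrained p → E'.IsConstrained p) ∧
      (∀ P, (innerFusionSystem S).Hom P = (innerFusionSystem T).Hom P) := by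
  subst h
  exact ⟨E, fun _ => rfl, id, fun _ => rfl⟩

/-- a non-inner saturated system (`p` odd) contains a non-inner constrained subsystem over `S` -/
theorem exists_constrained_sub [Finite S] {p : ℕ} [Fact p.Prime] (hp : p ≠ 2) (hS : IsPGroup p S)
    (F : FusionSystem S) (hF : F.IsSaturated p) (hni : ¬ InnerOn F) :
    ∃ E : FusionSystem S, E ≤ F ∧ E.IsConstrained p ∧
      ∃ P : Subgroup Ω, E.Hom P ≠ (innerFusionSystem S).Hom P := by
  have hSsc : F.StronglyClosed S := ⟨le_rfl, fun R hR φ hφ x => (F.le_of_mem hφ).2 x⟩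
  have hS0 : S ≠ ⊥ := by
    intro h0
    apply hni
    intro P
    apply Set.Subset.antisymm
    · intro φ hφ
      obtain ⟨hPS, hφS⟩ := F.le_of_mem hφ
      refine ⟨hPS, 1, S.one_mem, fun x => ?_⟩
      have h1 : (x : Ω) ∈ (⊥ : Subgroup Ω) := h0.le (hPS x.2)
      have h2 : φ x ∈ (⊥ : Subgroup Ω) := h0.le (hφS x)
      rw [Subgroup.mem_bot] at h1 h2
      rw [h1, h2]
      simp
    · exact innerFusionSystem_le F P
  obtain ⟨R, E, hR0, hRN, hE, hEsat, hniE, hRn, hcase⟩ :=
    reduction hS F hF hSsc hS0 (thmA_aux hp _) hni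
  have hcon : E.IsConstrained p := by
    rcases hcase with hcon | hSR
    · exact hcon
    · refine ⟨hEsat, R, hRn, hRn.1, ?_⟩
      haveI : Finite R := finite_of_le (hRn.1.trans (normalizerIn_le S R))
      have hsc := stronglyClosed_of_normal E hRn
      rintro R' ⟨φ, hφ, rfl⟩
      have hr : φ.range = R := by
        have hle : φ.range ≤ R := by
          rintro _ ⟨x, rfl⟩
          exact hsc.2 R le_rfl φ hφ x
        apply Subgroup.eq_of_le_of_card_ge hle
        exact le_of_eq (Nat.card_congr (MonoidHom.ofInjective (E.injective_of_mem hφ)).toEquiv)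
      rw [hr]
      intro c hc
      exact hSR (normalizerIn_le S R hc.1)
  obtain ⟨E', hE'Hom, hE'con, hinn⟩ := exists_transport hRN E p
  refine ⟨E', ?_, hE'con hcon, ?_⟩
  · intro P φ hφ
    rw [hE'Hom P] at hφ
    exact hom_of_normalizerSystem F E hE hφ
  · by_contra hall
    push Not at hall
    apply hniE
    intro P
    rw [← hE'Hom P, hall P, hinn P]

end Cfsg.Agent.Lib.Helper1.KL
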