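import Mathlib

set_option autoImplicit false
set_option linter.style.haveILetI false
set_option linter.unusedSectionVars false
set_option linter.unusedVariables false

/-! Uniqueness of models, part 1: an averaging argument (Gaschütz style).  Given two extensions
`G₁`, `G₂` of (subgroups of) `Γ` by an abelian group `Z`, sharing a subgroup `S` of index prime to
`|Z|` in `G₁`, such that every element of `G₁` has a lift in `G₂` inducing the same fusion in `S`,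
there is a homomorphism `G₁ → G₂` over `Γ` that is the identity on `S`. -/

namespace Cfsg.Agent.Lib.Helper1.MU

section good

variable {S G₁ G₂ Γ : Type*} [Group S] [Group G₁] [Group G₂] [Group Γ]
variable (ι₁ : S →* G₁) (ι₂ : S →* G₂) (π₁ : G₁ →* Γ) (π₂ : G₂ →* Γ)

/-- `u` is a good lift of `d`: same image in `Γ`, and the same fusion in `S` -/
def Good (d : G₁) (u : G₂) : Prop :=
  π₂ u = π₁ d ∧ ∀ x y : S, d * ι₁ x * d⁻¹ = ι₁ y → u * ι₂ x * u⁻¹ = ι₂ y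

variable {ι₁ ι₂ π₁ π₂}

theorem good_wd {d : G₁} {u : G₂} (h : Good ι₁ ι₂ π₁ π₂ d u) {a b a' b' : S}
    (he : ι₁ a * d * ι₁ b = ι₁ a' * d * ι₁ b') : ι₂ a * u * ι₂ b = ι₂ a' * u * ι₂ b' := by
  have h0 : d * ι₁ b = (ι₁ a)⁻¹ * (ι₁ a' * d * ι₁ b') := by
    rw [← he]; group
  have h1 : d * ι₁ (b * b'⁻¹) * d⁻¹ = ι₁ (a⁻¹ * a') := by
    rw [map_mul, map_mul, map_inv, map_inv]
    calc d * (ι₁ b * (ι₁ b')⁻¹) * d⁻¹ = (d * ι₁ b) * (ι₁ b')⁻¹ * d⁻¹ := by group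
      _ = ((ι₁ a)⁻¹ * (ι₁ a' * d * ι₁ b')) * (ι₁ b')⁻¹ * d⁻¹ := by rw [h0]
      _ = (ι₁ a)⁻¹ * ι₁ a' := by group
  have h2 := h.2 _ _ h1
  rw [map_mul, map_mul, map_inv, map_inv] at h2
  calc ι₂ a * u * ι₂ b = ι₂ a * (u * (ι₂ b * (ι₂ b')⁻¹) * u⁻¹) * u * ι₂ b' := by group
    _ = ι₂ a * ((ι₂ a)⁻¹ * ι₂ a') * u * ι₂ b' := by rw [h2]
    _ = ι₂ a' * u * ι₂ b' := by group

variable (ι₁)

/-- the double coset relation -/
def dcSetoid : Setoid G₁ where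
  r t t' := ∃ a b : S, t' = ι₁ a * t * ι₁ b
  iseqv := ⟨fun t => ⟨1, 1, by simp⟩,
    fun {t t'} ⟨a, b, h⟩ => ⟨a⁻¹, b⁻¹, by rw [h, map_inv, map_inv]; group⟩,
    fun {t t' t''} ⟨a, b, h⟩ ⟨a', b', h'⟩ => ⟨a' * a, b * b', by
      rw [h', h, map_mul, map_mul]; group⟩⟩

variable {ι₁}

/-- a biequivariant family of good lifts -/
theorem exists_tau (hgood : ∀ d : G₁, ∃ u : G₂, Good ι₁ ι₂ π₁ π₂ d u)
    (hπ : ∀ s, π₁ (ι₁ s) = π₂ (ι₂ s)) :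
    ∃ τ : G₁ → G₂, (∀ t, π₂ (τ t) = π₁ t) ∧ (∀ s t, τ (ι₁ s * t) = ι₂ s * τ t) ∧
      (∀ t s, τ (t * ι₁ s) = τ t * ι₂ s) := by
  classical
  let rep : G₁ → G₁ := fun t => (Quotient.mk (dcSetoid ι₁) t).out
  have hrep : ∀ t, ∃ a b : S, t = ι₁ a * rep t * ι₁ b := fun t =>
    Quotient.mk_out (s := dcSetoid ι₁) t
  choose A B hAB using hrep
  choose U hU using hgood
  have hrl : ∀ s t, rep (ι₁ s * t) = rep t := by
    intro s t
    have h1 : Quotient.mk (dcSetoid ι₁) (ι₁ s * t) = Quotient.mk (dcSetoid ι₁) t :=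
      (Quotient.sound (s := dcSetoid ι₁) (a := t) (b := ι₁ s * t) ⟨s, 1, by simp⟩).symm
    show (Quotient.mk (dcSetoid ι₁) (ι₁ s * t)).out = (Quotient.mk (dcSetoid ι₁) t).out
    rw [h1]
  have hrr : ∀ t s, rep (t * ι₁ s) = rep t := by
    intro t s
    have h1 : Quotient.mk (dcSetoid ι₁) (t * ι₁ s) = Quotient.mk (dcSetoid ι₁) t :=
      (Quotient.sound (s := dcSetoid ι₁) (a := t) (b := t * ι₁ s) ⟨1, s, by simp⟩).symm
    show (Quotient.mk (dcSetoid ι₁) (t * ι₁ s)).out = (Quotient.mk (dcSetoid ι₁) t).out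
    rw [h1]
  refine ⟨fun t => ι₂ (A t) * U (rep t) * ι₂ (B t), ?_, ?_, ?_⟩
  · intro t
    rw [map_mul, map_mul, (hU (rep t)).1, ← hπ, ← hπ, ← map_mul, ← map_mul, ← hAB t]
  · intro s t
    show ι₂ (A (ι₁ s * t)) * U (rep (ι₁ s * t)) * ι₂ (B (ι₁ s * t)) =
      ι₂ s * (ι₂ (A t) * U (rep t) * ι₂ (B t))
    have h1 : ι₁ (A (ι₁ s * t)) * rep t * ι₁ (B (ι₁ s * t)) =
        ι₁ (s * A t) * rep t * ι₁ (B t) := by
      have h2 := hAB (ι₁ s * t)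
      rw [hrl] at h2
      rw [← h2, map_mul]
      conv_lhs => rw [hAB t]
      group
    rw [hrl, good_wd (hU (rep t)) h1, map_mul]
    group
  · intro t s
    show ι₂ (A (t * ι₁ s)) * U (rep (t * ι₁ s)) * ι₂ (B (t * ι₁ s)) =
      ι₂ (A t) * U (rep t) * ι₂ (B t) * ι₂ s
    have h1 : ι₁ (A (t * ι₁ s)) * rep t * ι₁ (B (t * ι₁ s)) =
        ι₁ (A t) * rep t * ι₁ (B t * s) := by
      have h2 := hAB (t * ι₁ s)
      rw [hrr] at h2
      rw [← h2, map_mul]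
      conv_lhs => rw [hAB t]
      group
    rw [hrr, good_wd (hU (rep t)) h1, map_mul]
    group

end good

/-- the data for the averaging argument -/
structure Data (S G₁ G₂ Γ Z : Type*) [Group S] [Group G₁] [Group G₂] [Group Γ] [CommGroup Z] where
  ι₁ : S →* G₁
  ι₂ : S →* G₂
  π₁ : G₁ →* Γ
  π₂ : G₂ →* Γ
  j : Z →* G₂
  τ : G₁ → G₂
  zf : G₂ → Z
  hj : Function.Injective j
  hzf : ∀ k, π₂ k = 1 → j (zf k) = k
  hjk : ∀ z, π₂ (j z) = 1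
  hπ : ∀ s, π₁ (ι₁ s) = π₂ (ι₂ s)
  τπ : ∀ t, π₂ (τ t) = π₁ t
  τl : ∀ s t, τ (ι₁ s * t) = ι₂ s * τ t
  τr : ∀ t s, τ (t * ι₁ s) = τ t * ι₂ s

namespace Data

variable {S G₁ G₂ Γ Z : Type*} [Group S] [Group G₁] [Group G₂] [Group Γ] [CommGroup Z]
variable (D : Data S G₁ G₂ Γ Z)

theorem zf_j (z : Z) : D.zf (D.j z) = z := D.hj (D.hzf _ (D.hjk z))

theorem zf_one : D.zf 1 = 1 := by
  have := D.zf_j 1
  rwa [map_one] at this

/-- the candidate values at `g`, indexed by the cosets of `S` -/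
noncomputable def c (g : G₁) (q : G₁ ⧸ D.ι₁.range) : G₂ := D.τ (g * q.out) * (D.τ q.out)⁻¹

theorem c_eq (g t : G₁) : D.τ (g * t) * (D.τ t)⁻¹ = D.c g (QuotientGroup.mk t) := by
  obtain ⟨⟨h, s, rfl⟩, hh⟩ := QuotientGroup.mk_out_eq_mul D.ι₁.range t
  unfold c
  rw [hh]
  show D.τ (g * t) * (D.τ t)⁻¹ = D.τ (g * (t * D.ι₁ s)) * (D.τ (t * D.ι₁ s))⁻¹
  rw [← mul_assoc, D.τr, D.τr]
  group

theorem c_mul (g h : G₁) (q : G₁ ⧸ D.ι₁.range) : D.c (g * h) q = D.c g (h • q) * D.c h q := by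
  have h1 : h • q = QuotientGroup.mk (h * q.out) := by
    conv_lhs => rw [← QuotientGroup.out_eq' q]
    rfl
  rw [h1, ← D.c_eq g (h * q.out)]
  unfold c
  rw [mul_assoc g h]
  group

theorem pi_c (g : G₁) (q : G₁ ⧸ D.ι₁.range) : D.π₂ (D.c g q) = D.π₁ g := by
  unfold c
  rw [map_mul, map_inv, D.τπ, D.τπ, map_mul, mul_inv_cancel_right]

theorem c_iota (s : S) (q : G₁ ⧸ D.ι₁.range) : D.c (D.ι₁ s) q = D.ι₂ s := by
  unfold c
  rw [D.τl, mul_inv_cancel_right]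

theorem pi_conj (u : G₂) (z : Z) : D.π₂ (u * D.j z * u⁻¹) = 1 := by
  rw [map_mul, map_mul, D.hjk, mul_one, map_inv, mul_inv_cancel]

/-- conjugation on `Z` -/
noncomputable def cz (u : G₂) : Z →* Z :=
  MonoidHom.mk' (fun z => D.zf (u * D.j z * u⁻¹)) (by
    intro a b
    apply D.hj
    rw [D.hzf _ (D.pi_conj u _), map_mul D.j (D.zf _) (D.zf _), D.hzf _ (D.pi_conj u _),
      D.hzf _ (D.pi_conj u _), map_mul]
    group)

theorem j_cz (u : G₂) (z : Z) : D.j (D.cz u z) = u * D.j z * u⁻¹ :=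
  D.hzf _ (D.pi_conj u z)

variable [Fintype (G₁ ⧸ D.ι₁.range)]

/-- the product of the deviations of the candidates from `u` -/
noncomputable def P (g : G₁) (u : G₂) : Z := ∏ q : G₁ ⧸ D.ι₁.range, D.zf (u⁻¹ * D.c g q)

theorem pi_dev {g : G₁} {u : G₂} (hu : D.π₂ u = D.π₁ g) (q : G₁ ⧸ D.ι₁.range) :
    D.π₂ (u⁻¹ * D.c g q) = 1 := by
  rw [map_mul, map_inv, D.pi_c, hu, inv_mul_cancel]

theorem P_mul_j {g : G₁} {u : G₂} (hu : D.π₂ u = D.π₁ g) (r : Z) :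
    D.P g (u * D.j r) = (r⁻¹) ^ (Fintype.card (G₁ ⧸ D.ι₁.range)) * D.P g u := by
  unfold P
  have h1 : ∀ q : G₁ ⧸ D.ι₁.range,
      D.zf ((u * D.j r)⁻¹ * D.c g q) = r⁻¹ * D.zf (u⁻¹ * D.c g q) := by
    intro q
    apply D.hj
    have hu' : D.π₂ (u * D.j r) = D.π₁ g := by rw [map_mul, D.hjk, mul_one, hu]
    rw [D.hzf _ (D.pi_dev hu' q), map_mul, D.hzf _ (D.pi_dev hu q), map_inv]
    group
  rw [Finset.prod_congr rfl (fun q _ => h1 q), Finset.prod_mul_distrib, Finset.prod_const,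
    Finset.card_univ]

theorem P_mul {g h : G₁} {u v : G₂} (hu : D.π₂ u = D.π₁ g) (hv : D.π₂ v = D.π₁ h) :
    D.P (g * h) (u * v) = D.cz v⁻¹ (D.P g u) * D.P h v := by
  have huv : D.π₂ (u * v) = D.π₁ (g * h) := by rw [map_mul, map_mul, hu, hv]
  have h1 : ∀ q : G₁ ⧸ D.ι₁.range, D.zf ((u * v)⁻¹ * D.c (g * h) q) =
      D.cz v⁻¹ (D.zf (u⁻¹ * D.c g (h • q))) * D.zf (v⁻¹ * D.c h q) := by
    intro q
    apply D.hj
    rw [D.hzf _ (D.pi_dev huv q), map_mul, D.j_cz, D.hzf _ (D.pi_dev hu _),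
      D.hzf _ (D.pi_dev hv q), D.c_mul]
    group
  unfold P
  rw [Finset.prod_congr rfl (fun q _ => h1 q), Finset.prod_mul_distrib, ← map_prod]
  congr 2
  exact Equiv.prod_comp (MulAction.toPerm h) (fun q => D.zf (u⁻¹ * D.c g q))

theorem exists_avg (hcop : (Nat.card Z).Coprime (Fintype.card (G₁ ⧸ D.ι₁.range))) (g : G₁) :
    ∃ u : G₂, D.π₂ u = D.π₁ g ∧ D.P g u = 1 := by
  have h0 : D.π₂ (D.τ g) = D.π₁ g := D.τπ g
  refine ⟨D.τ g * D.j ((powCoprime hcop).symm (D.P g (D.τ g))), ?_, ?_⟩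
  · rw [map_mul, D.hjk, mul_one, h0]
  · rw [D.P_mul_j h0, inv_pow, ← powCoprime_apply hcop, Equiv.apply_symm_apply, inv_mul_cancel]

theorem avg_unique (hcop : (Nat.card Z).Coprime (Fintype.card (G₁ ⧸ D.ι₁.range))) {g : G₁}
    {u u' : G₂} (hu : D.π₂ u = D.π₁ g) (hu' : D.π₂ u' = D.π₁ g) (h1 : D.P g u = 1)
    (h2 : D.P g u' = 1) : u = u' := by
  have hk : D.π₂ (u⁻¹ * u') = 1 := by rw [map_mul, map_inv, hu, hu', inv_mul_cancel]
  have h3 : u' = u * D.j (D.zf (u⁻¹ * u')) := by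
    rw [D.hzf _ hk]; group
  have h4 := D.P_mul_j hu (D.zf (u⁻¹ * u'))
  rw [← h3, h2, h1, mul_one, inv_pow] at h4
  have h5 : (powCoprime hcop) (D.zf (u⁻¹ * u')) = (powCoprime hcop) 1 := by
    rw [powCoprime_apply, powCoprime_apply, one_pow]
    exact (inv_eq_one.mp h4.symm)
  have h6 := (powCoprime hcop).injective h5
  rw [h3, h6, map_one, mul_one]

/-- **The averaged homomorphism.** -/
theorem exists_hom (hcop : (Nat.card Z).Coprime (Fintype.card (G₁ ⧸ D.ι₁.range))) :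
    ∃ φ : G₁ →* G₂, (∀ s, φ (D.ι₁ s) = D.ι₂ s) ∧ ∀ g, D.π₂ (φ g) = D.π₁ g := by
  choose f hf1 hf2 using D.exists_avg hcop
  have hmul : ∀ g h, f (g * h) = f g * f h := by
    intro g h
    apply D.avg_unique hcop (hf1 (g * h)) _ (hf2 (g * h))
    · rw [D.P_mul (hf1 g) (hf1 h), hf2 g, hf2 h, map_one, mul_one]
    · rw [map_mul, map_mul, hf1, hf1]
  refine ⟨MonoidHom.mk' f hmul, ?_, fun g => hf1 g⟩
  intro s
  show f (D.ι₁ s) = D.ι₂ s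
  apply D.avg_unique hcop (hf1 _) _ (hf2 _)
  · unfold P
    apply Finset.prod_eq_one
    intro q _
    rw [D.c_iota, inv_mul_cancel, D.zf_one]
  · rw [D.hπ]

end Data

/-- **The abstract isomorphism theorem**: a homomorphism over `Γ`, identity on `S`. -/
theorem exists_hom_of_good {S G₁ G₂ Γ Z : Type*} [Group S] [Group G₁] [Group G₂] [Group Γ]
    [CommGroup Z] [Finite G₁] (ι₁ : S →* G₁) (ι₂ : S →* G₂) (π₁ : G₁ →* Γ) (π₂ : G₂ →* Γ)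
    (j : Z →* G₂) (hj : Function.Injective j) (hjr : ∀ k : G₂, π₂ k = 1 ↔ ∃ z, j z = k)
    (hπ : ∀ s, π₁ (ι₁ s) = π₂ (ι₂ s)) (hcop : (Nat.card Z).Coprime ι₁.range.index)
    (hgood : ∀ d : G₁, ∃ u : G₂, Good ι₁ ι₂ π₁ π₂ d u) :
    ∃ φ : G₁ →* G₂, (∀ s, φ (ι₁ s) = ι₂ s) ∧ ∀ g, π₂ (φ g) = π₁ g := by
  classical
  obtain ⟨τ, hτπ, hτl, hτr⟩ := exists_tau hgood hπ
  have hex : ∀ k : G₂, ∃ z : Z, π₂ k = 1 → j z = k := by
    intro k
    by_cases hk : π₂ k = 1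
    · obtain ⟨z, hz⟩ := (hjr k).mp hk
      exact ⟨z, fun _ => hz⟩
    · exact ⟨1, fun h => absurd h hk⟩
  choose zf hzf using hex
  let D : Data S G₁ G₂ Γ Z :=
    { ι₁ := ι₁, ι₂ := ι₂, π₁ := π₁, π₂ := π₂, j := j, τ := τ, zf := zf, hj := hj, hzf := hzf
      hjk := fun z => (hjr (j z)).mpr ⟨z, rfl⟩, hπ := hπ, τπ := hτπ, τl := hτl, τr := hτr }
  haveI : Fintype (G₁ ⧸ D.ι₁.range) := Fintype.ofFinite _
  have hcop' : (Nat.card Z).Coprime (Fintype.card (G₁ ⧸ D.ι₁.range)) := by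
    rw [Fintype.card_eq_nat_card, ← Subgroup.index_eq_card]
    exact hcop
  exact D.exists_hom hcop'

end Cfsg.Agent.Lib.Helper1.MU
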