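import Mathlib
import Cfsg.Agent.Lib.Helper1.MU1
import Cfsg.Agent.Lib.Helper1.KL5
import Cfsg.Agent.Lib.Helper8.AxB
import Cfsg.Agent.Lib.Helper7.CharP

set_option autoImplicit false
set_option linter.style.haveILetI false
set_option linter.unusedSectionVars false
set_option linter.unusedVariables false

/-! Uniqueness of models, part 2: application of the averaging argument to two models of a
constrained fusion system. -/

namespace Cfsg.Agent.Lib.Helper1.MU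

open Cfsg Cfsg.FusionSystem Cfsg.Agent.Lib.Helper9 Cfsg.Agent.Lib.Helper1.KN
open scoped IsMulCommutative

variable {Ω : Type*} [Group Ω] {S : Subgroup Ω}

section onemodel

variable {G : Type*} [Group G]

/-- the action of the model on (the copy in `S` of) `Q` -/
theorem exists_pi (ι : ↥S →* G) (hinj : Function.Injective ι) (Q : Subgroup Ω)
    (hn : ((Q.subgroupOf S).map ι).Normal) :
    ∃ π : G →* MulAut ↥(Q.subgroupOf S), ∀ (g : G) (q : ↥(Q.subgroupOf S)),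
      ι ((π g q : ↥(Q.subgroupOf S)) : ↥S) = g * ι (q : ↥S) * g⁻¹ := by
  haveI := hn
  let e := (Q.subgroupOf S).equivMapOfInjective ι hinj
  refine ⟨(MulAut.congr e.symm).toMonoidHom.comp MulAut.conjNormal, fun g q => ?_⟩
  have h1 : ((MulAut.congr e.symm).toMonoidHom.comp MulAut.conjNormal) g q =
      e.symm (MulAut.conjNormal g (e q)) := rfl
  rw [h1]
  have h2 : ι ((e.symm (MulAut.conjNormal g (e q)) : ↥(Q.subgroupOf S)) : ↥S) =
      ((e (e.symm (MulAut.conjNormal g (e q))) : ↥((Q.subgroupOf S).map ι)) : G) :=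
    (Subgroup.coe_equivMapOfInjective_apply _ ι hinj _).symm
  rw [h2, MulEquiv.apply_symm_apply, MulAut.conjNormal_apply,
    Subgroup.coe_equivMapOfInjective_apply]

theorem pi_eq_one_iff (ι : ↥S →* G) (hinj : Function.Injective ι) (Q : Subgroup Ω)
    (π : G →* MulAut ↥(Q.subgroupOf S))
    (hπ : ∀ (g : G) (q : ↥(Q.subgroupOf S)),
      ι ((π g q : ↥(Q.subgroupOf S)) : ↥S) = g * ι (q : ↥S) * g⁻¹) (g : G) :
    π g = 1 ↔ ∀ q : ↥(Q.subgroupOf S), g * ι (q : ↥S) * g⁻¹ = ι (q : ↥S) := by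
  constructor
  · intro h q
    rw [← hπ g q, h]
    rfl
  · intro h
    apply MulEquiv.ext
    intro q
    apply Subtype.ext
    apply hinj
    rw [hπ g q, h q]
    rfl

theorem pi_iota (ι : ↥S →* G) (hinj : Function.Injective ι) (Q : Subgroup Ω)
    (π : G →* MulAut ↥(Q.subgroupOf S))
    (hπ : ∀ (g : G) (q : ↥(Q.subgroupOf S)),
      ι ((π g q : ↥(Q.subgroupOf S)) : ↥S) = g * ι (q : ↥S) * g⁻¹) (s : ↥S)
    (q : ↥(Q.subgroupOf S)) : ((π (ι s) q : ↥(Q.subgroupOf S)) : ↥S) = s * q * s⁻¹ := by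
  apply hinj
  rw [hπ, map_mul, map_mul, map_inv]

/-- in a model, the centralizer of a normal centric subgroup is its centre -/
theorem centralizer_le_of_isModel [Finite S] (p : ℕ) [Fact p.Prime] (hS : IsPGroup p S)
    (F : FusionSystem S) (ι : ↥S →* G) (hG : F.IsModel p G ι) {Q : Subgroup Ω}
    (hQn : F.IsNormal Q) (hQc : F.IsCentric Q) (g : G)
    (hg : ∀ q : ↥(Q.subgroupOf S), g * ι (q : ↥S) * g⁻¹ = ι (q : ↥S)) :
    ∃ z : ↥(Subgroup.center ↥(Q.subgroupOf S)), g = ι ((z : ↥(Q.subgroupOf S)) : ↥S) := by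
  have hnorm := map_normal_of_isModel p F ι hG hQn
  obtain ⟨hfin, ⟨hinj, hreal⟩, ⟨Sy, hSy⟩, hcent⟩ := hG
  haveI := hfin
  haveI := hnorm
  set N : Subgroup G := (Q.subgroupOf S).map ι with hN
  have hNp : IsPGroup p N := (hS.to_subgroup (Q.subgroupOf S)).map ι
  have hUn : (pCore p G).Normal := Cfsg.Agent.Lib.Helper1.pCore_normal p
  have hUp : IsPGroup p (pCore p G) := Cfsg.Agent.Lib.Helper1.pCore_isPGroup p
  have hUle : pCore p G ≤ ι.range := by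
    rw [← hSy]
    exact Cfsg.Agent.Lib.Helper1.pCore_le_sylow p Sy
  have key1 : ∀ y : G, y ∈ ι.range → y ∈ Subgroup.centralizer (N : Set G) →
      ∃ s : ↥S, (s : Ω) ∈ Q ∧ (∀ q : ↥(Q.subgroupOf S), s * q = q * s) ∧ y = ι s := by
    rintro _ ⟨s, rfl⟩ hy
    have hsc : ∀ q : ↥(Q.subgroupOf S), (q : ↥S) * s = s * q := by
      intro q
      apply hinj
      rw [map_mul, map_mul]
      exact Subgroup.mem_centralizer_iff.mp hy (ι q) ⟨q, q.2, rfl⟩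
    have hsQ : (s : Ω) ∈ Q := by
      apply hQc.2 Q (isConj_refl F hQc.1)
      refine Subgroup.mem_inf.mpr ⟨s.2, Subgroup.mem_centralizer_iff.mpr ?_⟩
      intro x hx
      have := hsc ⟨⟨x, hQc.1 hx⟩, Subgroup.mem_subgroupOf.mpr hx⟩
      exact congrArg Subtype.val this
    exact ⟨s, hsQ, fun q => (hsc q).symm, rfl⟩
  have key2 : ∀ x ∈ Subgroup.centralizer (N : Set G), (orderOf x).Coprime p → x = 1 := by
    intro x hx hxo
    have hA : (Nat.card (Subgroup.zpowers x)).Coprime p := by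
      rw [Nat.card_zpowers]; exact hxo
    have hAle : Subgroup.zpowers x ≤ Subgroup.centralizer (N : Set G) := by
      rw [Subgroup.zpowers_le]; exact hx
    have hAB : ⁅Subgroup.zpowers x, N⁆ = ⊥ :=
      Subgroup.commutator_eq_bot_iff_le_centralizer.mpr hAle
    have h1 := Cfsg.Agent.Lib.Helper8.thompson_AxB p (Subgroup.zpowers x) N hNp hA hAB _
      (pCore p G) rfl hUp
      (by rw [Subgroup.normalizer_eq_top]; exact le_top)
      (by rw [Subgroup.normalizer_eq_top]; exact le_top)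
      (by
        intro y hy
        obtain ⟨hyU, hyC⟩ := Subgroup.mem_inf.mp hy
        obtain ⟨s, hsQ, -, rfl⟩ := key1 y (hUle hyU) hyC
        have hyN : ι s ∈ N := ⟨s, Subgroup.mem_subgroupOf.mpr hsQ, rfl⟩
        refine Subgroup.mem_centralizer_iff.mpr ?_
        intro h hh
        exact (Subgroup.mem_centralizer_iff.mp (hAle hh) (ι s) hyN).symm)
    rw [Subgroup.commutator_comm] at h1
    have h2 := Subgroup.commutator_eq_bot_iff_le_centralizer.mp h1 (Subgroup.mem_zpowers x)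
    exact Cfsg.Agent.Lib.Helper7.eq_one_of_mem_isPGroup_of_coprime hUp (hcent h2) hxo
  have hCp : IsPGroup p (Subgroup.centralizer (N : Set G)) :=
    Cfsg.Agent.Lib.Helper7.isPGroup_of_forall_coprime_eq_one _ key2
  have hCn : (Subgroup.centralizer (N : Set G)).Normal := Subgroup.normal_centralizer
  have hCU : Subgroup.centralizer (N : Set G) ≤ pCore p G :=
    Cfsg.Agent.Lib.Helper1.le_pCore hCn hCp
  have hgC : g ∈ Subgroup.centralizer (N : Set G) := by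
    refine Subgroup.mem_centralizer_iff.mpr ?_
    rintro _ ⟨q, hq, rfl⟩
    have := hg ⟨q, hq⟩
    calc ι q * g = (g * ι q * g⁻¹) * g := by rw [this]
      _ = g * ι q := by group
  obtain ⟨s, hsQ, hsc, rfl⟩ := key1 g (hUle (hCU hgC)) hgC
  refine ⟨⟨⟨s, Subgroup.mem_subgroupOf.mpr hsQ⟩, ?_⟩, rfl⟩
  rw [Subgroup.mem_center_iff]
  intro q
  exact Subtype.ext (hsc q).symm

end onemodel

section twomodels

variable {G₁ : Type*} [Group G₁] {G₂ : Type*} [Group G₂]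

theorem exists_good_lift (F : FusionSystem S) (ι₁ : ↥S →* G₁) (ι₂ : ↥S →* G₂)
    (h₁ : F.IsRealizedBy ι₁) (h₂ : F.IsRealizedBy ι₂) (g₁ : G₁) :
    ∃ g₂ : G₂, ∀ x y : ↥S, g₁ * ι₁ x * g₁⁻¹ = ι₁ y → g₂ * ι₂ x * g₂⁻¹ = ι₂ y := by
  obtain ⟨Q₀, hQ₀S, φ, hφS, hφF, hφι, hQ₀mem⟩ := KL.exists_hom_of_conj F ι₁ h₁ g₁
  obtain ⟨g₂, hg₂⟩ := (h₂.2 Q₀ hQ₀S φ hφS).mp hφF
  refine ⟨g₂, fun x y hxy => ?_⟩
  have hx : (x : Ω) ∈ Q₀ := hQ₀mem x x.2 (by
    show g₁ * ι₁ x * g₁⁻¹ ∈ ι₁.range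
    rw [hxy]; exact ⟨y, rfl⟩)
  have h3 := hφι ⟨x, hx⟩
  have h4 : (⟨φ ⟨x, hx⟩, hφS _⟩ : ↥S) = y := h₁.1 (by rw [h3]; exact hxy)
  have h5 := hg₂ ⟨x, hx⟩
  rw [h4] at h5
  exact h5.symm

theorem pi_eq_of_lift (ι₁ : ↥S →* G₁) (ι₂ : ↥S →* G₂) (hinj₂ : Function.Injective ι₂)
    (Q : Subgroup Ω) (π₁ : G₁ →* MulAut ↥(Q.subgroupOf S)) (π₂ : G₂ →* MulAut ↥(Q.subgroupOf S))
    (hπ₁ : ∀ (g : G₁) (q : ↥(Q.subgroupOf S)),
      ι₁ ((π₁ g q : ↥(Q.subgroupOf S)) : ↥S) = g * ι₁ (q : ↥S) * g⁻¹)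
    (hπ₂ : ∀ (g : G₂) (q : ↥(Q.subgroupOf S)),
      ι₂ ((π₂ g q : ↥(Q.subgroupOf S)) : ↥S) = g * ι₂ (q : ↥S) * g⁻¹) {g₁ : G₁} {g₂ : G₂}
    (h : ∀ x y : ↥S, g₁ * ι₁ x * g₁⁻¹ = ι₁ y → g₂ * ι₂ x * g₂⁻¹ = ι₂ y) : π₂ g₂ = π₁ g₁ := by
  apply MulEquiv.ext
  intro q
  apply Subtype.ext
  apply hinj₂
  rw [hπ₂ g₂ q]
  exact h q _ (hπ₁ g₁ q).symm

/-- **Uniqueness of models.** -/
theorem model_unique [Finite S] (p : ℕ) [Fact p.Prime] (hS : IsPGroup p S) (F : FusionSystem S)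
    (hF : F.IsConstrained p) (ι₁ : ↥S →* G₁) (ι₂ : ↥S →* G₂) (h₁ : F.IsModel p G₁ ι₁)
    (h₂ : F.IsModel p G₂ ι₂) : ∃ φ : G₁ ≃* G₂, ∀ x : ↥S, φ (ι₁ x) = ι₂ x := by
  obtain ⟨hsat, Q, hQn, hQc⟩ := hF
  have hn₁ := map_normal_of_isModel p F ι₁ h₁ hQn
  have hn₂ := map_normal_of_isModel p F ι₂ h₂ hQn
  haveI hfin₁ : Finite G₁ := h₁.1
  haveI hfin₂ : Finite G₂ := h₂.1
  have hinj₁ := h₁.2.1.1
  have hinj₂ := h₂.2.1.1
  obtain ⟨π₁, hπ₁⟩ := exists_pi ι₁ hinj₁ Q hn₁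
  obtain ⟨π₂, hπ₂⟩ := exists_pi ι₂ hinj₂ Q hn₂
  let j : ↥(Subgroup.center ↥(Q.subgroupOf S)) →* G₂ :=
    ι₂.comp ((Q.subgroupOf S).subtype.comp (Subgroup.center ↥(Q.subgroupOf S)).subtype)
  have hj : Function.Injective j :=
    hinj₂.comp ((Subgroup.subtype_injective _).comp (Subgroup.subtype_injective _))
  have hjapp : ∀ z : ↥(Subgroup.center ↥(Q.subgroupOf S)),
      j z = ι₂ ((z : ↥(Q.subgroupOf S)) : ↥S) := fun z => rfl
  -- central elements act trivially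
  have hcen : ∀ (G : Type _) [Group G] (ι : ↥S →* G) (z : ↥(Subgroup.center ↥(Q.subgroupOf S)))
      (q : ↥(Q.subgroupOf S)), ι ((z : ↥(Q.subgroupOf S)) : ↥S) * ι (q : ↥S) *
        (ι ((z : ↥(Q.subgroupOf S)) : ↥S))⁻¹ = ι (q : ↥S) := by
    intro G _ ι z q
    have h1 : (q : ↥S) * ((z : ↥(Q.subgroupOf S)) : ↥S) = ((z : ↥(Q.subgroupOf S)) : ↥S) * q :=
      congrArg Subtype.val (Subgroup.mem_center_iff.mp z.2 q)
    rw [← map_mul, ← h1, map_mul, mul_inv_cancel_right]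
  have hjr : ∀ k : G₂, π₂ k = 1 ↔ ∃ z, j z = k := by
    intro k
    rw [pi_eq_one_iff ι₂ hinj₂ Q π₂ hπ₂]
    constructor
    · intro h
      obtain ⟨z, hz⟩ := centralizer_le_of_isModel p hS F ι₂ h₂ hQn hQc k h
      exact ⟨z, hz.symm⟩
    · rintro ⟨z, rfl⟩ q
      exact hcen G₂ ι₂ z q
  have hπ : ∀ s, π₁ (ι₁ s) = π₂ (ι₂ s) := by
    intro s
    apply MulEquiv.ext
    intro q
    apply Subtype.ext
    rw [pi_iota ι₁ hinj₁ Q π₁ hπ₁, pi_iota ι₂ hinj₂ Q π₂ hπ₂]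
  have hZp : IsPGroup p ↥(Subgroup.center ↥(Q.subgroupOf S)) :=
    (hS.to_subgroup _).to_subgroup _
  have hcop : (Nat.card ↥(Subgroup.center ↥(Q.subgroupOf S))).Coprime ι₁.range.index := by
    obtain ⟨n, hn⟩ := (IsPGroup.iff_card).mp hZp
    rw [hn]
    apply Nat.Coprime.pow_left
    obtain ⟨Sy, hSy⟩ := h₁.2.2.1
    rw [← hSy]
    exact (Nat.Prime.coprime_iff_not_dvd Fact.out).mpr (Sylow.not_dvd_index Sy)
  have hgood : ∀ d : G₁, ∃ u : G₂, Good ι₁ ι₂ π₁ π₂ d u := by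
    intro d
    obtain ⟨u, hu⟩ := exists_good_lift F ι₁ ι₂ h₁.2.1 h₂.2.1 d
    exact ⟨u, pi_eq_of_lift ι₁ ι₂ hinj₂ Q π₁ π₂ hπ₁ hπ₂ hu, hu⟩
  obtain ⟨φ, hφι, hφπ⟩ := exists_hom_of_good ι₁ ι₂ π₁ π₂ j hj hjr hπ hcop hgood
  have hφinj : Function.Injective φ := by
    rw [injective_iff_map_eq_one]
    intro g hg
    have h1 : π₁ g = 1 := by rw [← hφπ g, hg, map_one]
    rw [pi_eq_one_iff ι₁ hinj₁ Q π₁ hπ₁] at h1
    obtain ⟨z, rfl⟩ := centralizer_le_of_isModel p hS F ι₁ h₁ hQn hQc g h1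
    rw [hφι] at hg
    have h2 : ((z : ↥(Q.subgroupOf S)) : ↥S) = 1 := hinj₂ (by rw [hg, map_one])
    rw [h2, map_one]
  have hφsurj : Function.Surjective φ := by
    intro g₂
    obtain ⟨g₁, hg₁⟩ := exists_good_lift F ι₂ ι₁ h₂.2.1 h₁.2.1 g₂
    have h1 : π₁ g₁ = π₂ g₂ := pi_eq_of_lift ι₂ ι₁ hinj₁ Q π₂ π₁ hπ₂ hπ₁ hg₁
    have h2 : π₂ ((φ g₁)⁻¹ * g₂) = 1 := by
      rw [map_mul, map_inv, hφπ, h1, inv_mul_cancel]
    obtain ⟨z, hz⟩ := (hjr _).mp h2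
    refine ⟨g₁ * ι₁ ((z : ↥(Q.subgroupOf S)) : ↥S), ?_⟩
    rw [map_mul, hφι, ← hjapp, hz]
    group
  exact ⟨MulEquiv.ofBijective φ ⟨hφinj, hφsurj⟩, fun x => hφι x⟩

end twomodels

end Cfsg.Agent.Lib.Helper1.MU
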