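import Mathlib
import Cfsg.Agent.Lib.Helper1.MU2

set_option autoImplicit false
set_option linter.style.haveILetI false
set_option linter.unusedSectionVars false
set_option linter.unusedVariables false

/-! A finite group realizing a constrained fusion system on a Sylow subgroup, in which the image
of a normal centric subgroup is normal, maps onto every model. -/

namespace Cfsg.Agent.Lib.Helper1.MU

open Cfsg Cfsg.FusionSystem Cfsg.Agent.Lib.Helper9 Cfsg.Agent.Lib.Helper1.KN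
open scoped IsMulCommutative

variable {Ω : Type*} [Group Ω] {S : Subgroup Ω}
variable {G₁ : Type*} [Group G₁] {G₂ : Type*} [Group G₂]

theorem exists_surjective_hom_to_model [Finite S] (p : ℕ) [Fact p.Prime] (hS : IsPGroup p S)
    (F : FusionSystem S) {Q : Subgroup Ω} (hQn : F.IsNormal Q) (hQc : F.IsCentric Q)
    (ι₁ : ↥S →* G₁) (ι₂ : ↥S →* G₂) [Finite G₁] (hreal₁ : F.IsRealizedBy ι₁)
    (hsyl₁ : ∃ T : Sylow p G₁, (T : Subgroup G₁) = ι₁.range)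
    (hn₁ : ((Q.subgroupOf S).map ι₁).Normal) (h₂ : F.IsModel p G₂ ι₂) :
    ∃ φ : G₁ →* G₂, Function.Surjective φ ∧ ∀ x : ↥S, φ (ι₁ x) = ι₂ x := by
  have hn₂ := map_normal_of_isModel p F ι₂ h₂ hQn
  haveI hfin₂ : Finite G₂ := h₂.1
  have hinj₁ := hreal₁.1
  have hinj₂ := h₂.2.1.1
  obtain ⟨π₁, hπ₁⟩ := exists_pi ι₁ hinj₁ Q hn₁
  obtain ⟨π₂, hπ₂⟩ := exists_pi ι₂ hinj₂ Q hn₂
  let j : ↥(Subgroup.center ↥(Q.subgroupOf S)) →* G₂ :=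
    ι₂.comp ((Q.subgroupOf S).subtype.comp (Subgroup.center ↥(Q.subgroupOf S)).subtype)
  have hj : Function.Injective j :=
    hinj₂.comp ((Subgroup.subtype_injective _).comp (Subgroup.subtype_injective _))
  have hjapp : ∀ z : ↥(Subgroup.center ↥(Q.subgroupOf S)),
      j z = ι₂ ((z : ↥(Q.subgroupOf S)) : ↥S) := fun z => rfl
  have hcen : ∀ (G : Type _) [Group G] (ι : ↥S →* G) (z : ↥(Subgroup.center ↥(Q.subgroupOf S)))
      (q : ↥(Q.subgroupOf S)), ι ((z : ↥(Q.subgroupOf S)) : ↥S) * ι (q : ↥S) *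
        (ι ((z : ↥(Q.subgroupOf S)) : ↥S))⁻¹ = ι (q : ↥S) := by
    intro G _ ι z q
    have h1 : (q : ↥S) * ((z : ↥(Q.subgroupOf S)) : ↥S) = ((z : ↥(Q.subgroupOf S)) : ↥S) * q :=
      congrArg Subtype.val (Subgroup.mem_center_iff.mp z.2 q)
    rw [← map_mul, ← h1, map_mul, mul_inv_cancel_right]
  have hjr : ∀ k : G₂, π₂ k = 1 ↔ ∃ z, j z = k := by
    intro k
    rw [pi_eq_one_iff ι₂ hinj₂ Q π₂ hπ₂]
    constructor
    · intro h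
      obtain ⟨z, hz⟩ := centralizer_le_of_isModel p hS F ι₂ h₂ hQn hQc k h
      exact ⟨z, hz.symm⟩
    · rintro ⟨z, rfl⟩ q
      exact hcen G₂ ι₂ z q
  have hπ : ∀ s, π₁ (ι₁ s) = π₂ (ι₂ s) := by
    intro s
    apply MulEquiv.ext
    intro q
    apply Subtype.ext
    rw [pi_iota ι₁ hinj₁ Q π₁ hπ₁, pi_iota ι₂ hinj₂ Q π₂ hπ₂]
  have hZp : IsPGroup p ↥(Subgroup.center ↥(Q.subgroupOf S)) :=
    (hS.to_subgroup _).to_subgroup _
  have hcop : (Nat.card ↥(Subgroup.center ↥(Q.subgroupOf S))).Coprime ι₁.range.index := by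
    obtain ⟨n, hn⟩ := (IsPGroup.iff_card).mp hZp
    rw [hn]
    apply Nat.Coprime.pow_left
    obtain ⟨Sy, hSy⟩ := hsyl₁
    rw [← hSy]
    exact (Nat.Prime.coprime_iff_not_dvd Fact.out).mpr (Sylow.not_dvd_index Sy)
  have hgood : ∀ d : G₁, ∃ u : G₂, Good ι₁ ι₂ π₁ π₂ d u := by
    intro d
    obtain ⟨u, hu⟩ := exists_good_lift F ι₁ ι₂ hreal₁ h₂.2.1 d
    exact ⟨u, pi_eq_of_lift ι₁ ι₂ hinj₂ Q π₁ π₂ hπ₁ hπ₂ hu, hu⟩
  obtain ⟨φ, hφι, hφπ⟩ := exists_hom_of_good ι₁ ι₂ π₁ π₂ j hj hjr hπ hcop hgood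
  refine ⟨φ, ?_, hφι⟩
  intro g₂
  obtain ⟨g₁, hg₁⟩ := exists_good_lift F ι₂ ι₁ h₂.2.1 hreal₁ g₂
  have h1 : π₁ g₁ = π₂ g₂ := pi_eq_of_lift ι₂ ι₁ hinj₁ Q π₂ π₁ hπ₂ hπ₁ hg₁
  have h2 : π₂ ((φ g₁)⁻¹ * g₂) = 1 := by
    rw [map_mul, map_inv, hφπ, h1, inv_mul_cancel]
  obtain ⟨z, hz⟩ := (hjr _).mp h2
  refine ⟨g₁ * ι₁ ((z : ↥(Q.subgroupOf S)) : ↥S), ?_⟩
  rw [map_mul, hφι, ← hjapp, hz]
  group

end Cfsg.Agent.Lib.Helper1.MU
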