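import Mathlib
import Cfsg.Agent.Lib.Helper1.MU2
import Cfsg.Agent.Lib.Helper1.KL6
import Cfsg.Agent.Lib.Helper7.CharP7
import Cfsg.Agent.Lib.Helper7.CharP4
import Cfsg.Agent.Lib.Helper2.Involves

set_option autoImplicit false
set_option linter.style.haveILetI false
set_option linter.unusedSectionVars false
set_option linter.unusedVariables false

/-! Qd(p)-free inheritance, part 1: group-theoretic lemmas on models.  The normalizer of a fully
normalized subgroup in a model is a model of the normalizer system. -/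

namespace Cfsg.Agent.Lib.Helper1.QF

open Cfsg Cfsg.FusionSystem Cfsg.Agent.Lib.Helper9 Cfsg.Agent.Lib.Helper1.KN
  Cfsg.Agent.Lib.Helper1.KL

theorem involves_of_injective {H : Type*} [Group H] {A : Type*} [Group A] {C : Type*} [Group C]
    (f : A →* C) (hf : Function.Injective f) (h : Involves H A) : Involves H C :=
  Cfsg.Agent.Lib.Helper2.Inv.involves_trans h
    (Cfsg.Agent.Lib.Helper2.Inv.involves_congr (MonoidHom.ofInjective hf).symm
      (Cfsg.Agent.Lib.Helper2.Inv.involves_subgroup f.range))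

variable {Ω : Type*} [Group Ω]

/-- a model over `T₁` is a model of any system over `T₂ = T₁` with the same maps -/
theorem model_congr {T₁ T₂ : Subgroup Ω} (h : T₁ = T₂) (p : ℕ) (E₁ : FusionSystem T₁)
    (E₂ : FusionSystem T₂) (hE : ∀ P, E₂.Hom P = E₁.Hom P) {L : Type*} [Group L] (ι : ↥T₁ →* L)
    (hm : E₁.IsModel p L ι) : E₂.IsModel p L (ι.comp (Subgroup.inclusion h.ge)) := by
  subst h
  have h0 : ι.comp (Subgroup.inclusion (le_refl T₁)) = ι := by
    ext x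
    rfl
  rw [h0]
  obtain ⟨hfin, ⟨hinj, hreal⟩, hsyl, hc⟩ := hm
  refine ⟨hfin, ⟨hinj, fun P hP φ hφ => ?_⟩, hsyl, hc⟩
  rw [hE P]
  exact hreal P hP φ hφ

/-- images of normalizing elements normalize the image -/
theorem map_mem_normalizer' {D X X'' : Subgroup Ω} [Finite X''] (ψ : ↥D →* Ω)
    (hX : (X.subgroupOf D).map ψ = X'') {z : ↥D}
    (hz : (z : Ω) ∈ Subgroup.normalizer (X : Set Ω)) :
    ψ z ∈ Subgroup.normalizer (X'' : Set Ω) := by
  apply Cfsg.Agent.Lib.Helper1.KN.mem_normalizer_of_forall_conj_mem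
  intro y hy
  obtain ⟨r, hr, rfl⟩ := hX.ge hy
  rw [← map_inv, ← map_mul, ← map_mul]
  apply hX.le
  refine ⟨_, ?_, rfl⟩
  show ((z * r * z⁻¹ : ↥D) : Ω) ∈ X
  exact conj_mem_of_mem_normalizer hz hr

theorem range_restrict_eq_map {D X : Subgroup Ω} (h : X ≤ D) (ψ : ↥D →* Ω) :
    (ψ.comp (Subgroup.inclusion h)).range = (X.subgroupOf D).map ψ := by
  ext y
  constructor
  · rintro ⟨x, rfl⟩
    exact ⟨Subgroup.inclusion h x, x.2, rfl⟩
  · rintro ⟨z, hz, rfl⟩
    exact ⟨⟨z, hz⟩, rfl⟩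

/-- an injective map sending a finite subgroup into itself sends it onto itself -/
theorem map_eq_of_le_inj {D X : Subgroup Ω} [Finite X] (hXD : X ≤ D) (ψ : ↥D →* Ω)
    (hinj : Function.Injective ψ) (hle : (X.subgroupOf D).map ψ ≤ X) :
    (X.subgroupOf D).map ψ = X := by
  apply Subgroup.eq_of_le_of_card_ge hle
  rw [Subgroup.card_map_of_injective hinj]
  exact le_of_eq (Nat.card_congr (Subgroup.subgroupOfEquivOfLe hXD).toEquiv).symm

section realized

variable {T : Subgroup Ω} {L : Type*} [Group L]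

/-- a subgroup whose image in a realizing group is normal is normal in the system -/
theorem isNormal_of_map_normal (E : FusionSystem T) (ι : ↥T →* L) (hreal : E.IsRealizedBy ι)
    {X : Subgroup Ω} (hXT : X ≤ T) (hn : ((X.subgroupOf T).map ι).Normal) : E.IsNormal X := by
  obtain ⟨hinj, hreal⟩ := hreal
  refine ⟨hXT, fun P φ hφ => ?_⟩
  obtain ⟨hPT, hφT⟩ := E.le_of_mem hφ
  obtain ⟨g, hg⟩ := (hreal P hPT φ hφT).mp hφ
  have hPX : P ⊔ X ≤ T := sup_le hPT hXT
  have hmem : ∀ z : ↥(P ⊔ X), g * ι ⟨z, hPX z.2⟩ * g⁻¹ ∈ ι.range := by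
    let f : ↥(P ⊔ X) →* L :=
      (MulAut.conj g).toMonoidHom.comp (ι.comp (Subgroup.inclusion hPX))
    have hf : ∀ z, f z = g * ι ⟨z, hPX z.2⟩ * g⁻¹ := fun z => rfl
    intro z
    rw [← hf]
    show z ∈ ι.range.comap f
    apply mem_of_sup_induction (ι.range.comap f)
    · intro x
      show f _ ∈ ι.range
      rw [hf]
      exact ⟨⟨φ x, hφT x⟩, hg x⟩
    · intro q
      show f _ ∈ ι.range
      rw [hf]
      have h1 : g * ι ⟨q, hXT q.2⟩ * g⁻¹ ∈ (X.subgroupOf T).map ι :=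
        hn.conj_mem _ ⟨⟨q, hXT q.2⟩, q.2, rfl⟩ g
      obtain ⟨y, -, hy⟩ := h1
      exact ⟨y, hy⟩
  obtain ⟨ψ, hψT, hψι⟩ := exists_pull_conj ι hinj hPX g hmem
  have hψE : ψ ∈ E.Hom (P ⊔ X) := (hreal _ hPX ψ hψT).mpr ⟨g, hψι⟩
  refine ⟨ψ, hψE, ?_, ?_⟩
  · intro x
    have h1 := hψι (Subgroup.inclusion le_sup_left x)
    have h2 := hg x
    have h3 : (⟨ψ (Subgroup.inclusion le_sup_left x), hψT _⟩ : ↥T) = ⟨φ x, hφT x⟩ :=
      hinj (by rw [h1, h2]; rfl)
    exact congrArg Subtype.val h3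
  · ext y
    constructor
    · rintro ⟨z, hz, rfl⟩
      have hzX : (z : Ω) ∈ X := hz
      have h1 := hψι z
      have h2 : g * ι ⟨z, hPX z.2⟩ * g⁻¹ ∈ (X.subgroupOf T).map ι :=
        hn.conj_mem _ ⟨⟨z, hPX z.2⟩, hzX, rfl⟩ g
      obtain ⟨y, hy, hyz⟩ := h2
      rw [← h1] at hyz
      have h3 := hinj hyz
      have hy' : (y : Ω) ∈ X := hy
      rw [h3] at hy'
      exact hy'
    · intro hy
      have h2 : g⁻¹ * ι ⟨y, hXT hy⟩ * g⁻¹⁻¹ ∈ (X.subgroupOf T).map ι :=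
        hn.conj_mem _ ⟨⟨y, hXT hy⟩, hy, rfl⟩ g⁻¹
      obtain ⟨x₀, hx₀, hx₀y⟩ := h2
      have hx₀X : (x₀ : Ω) ∈ X := hx₀
      refine ⟨⟨x₀, (le_sup_right : X ≤ P ⊔ X) hx₀X⟩, hx₀X, ?_⟩
      have h1 := hψι ⟨x₀, (le_sup_right : X ≤ P ⊔ X) hx₀X⟩
      have h3 : (⟨ψ ⟨x₀, (le_sup_right : X ≤ P ⊔ X) hx₀X⟩, hψT _⟩ : ↥T) = ⟨y, hXT hy⟩ := by
        apply hinj
        rw [h1]
        show g * ι x₀ * g⁻¹ = _
        rw [hx₀y]
        group
      exact congrArg Subtype.val h3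

theorem iota_mem_normalizer (ι : ↥T →* L) (A : Subgroup Ω) (x : ↥(normalizerIn T A)) :
    ι ⟨x, normalizerIn_le T A x.2⟩ ∈
      Subgroup.normalizer (((A.subgroupOf T).map ι : Subgroup L) : Set L) := by
  have hxN : (x : Ω) ∈ Subgroup.normalizer (A : Set Ω) := x.2.2
  rw [Subgroup.mem_normalizer_iff]
  intro y
  constructor
  · rintro ⟨a, ha, rfl⟩
    refine ⟨⟨x, normalizerIn_le T A x.2⟩ * a * ⟨x, normalizerIn_le T A x.2⟩⁻¹, ?_, by
      rw [map_mul, map_mul, map_inv]⟩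
    show ((x : Ω) * a * (x : Ω)⁻¹) ∈ A
    exact (Subgroup.mem_normalizer_iff.mp hxN a).mp ha
  · rintro ⟨a, ha, hay⟩
    refine ⟨⟨x, normalizerIn_le T A x.2⟩⁻¹ * a * ⟨x, normalizerIn_le T A x.2⟩, ?_, ?_⟩
    · show (x : Ω)⁻¹ * a * x ∈ A
      have ha' : (a : Ω) ∈ A := ha
      have e : (x : Ω) * ((x : Ω)⁻¹ * a * x) * (x : Ω)⁻¹ = a := by group
      apply (Subgroup.mem_normalizer_iff.mp hxN _).mpr
      rw [e]
      exact ha'
    · rw [map_mul, map_mul, map_inv, hay]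
      group

/-- the restriction of `ι` to `N_T(A)`, with values in `N_L(ι A)` -/
noncomputable def iotaN (ι : ↥T →* L) (A : Subgroup Ω) :
    ↥(normalizerIn T A) →*
      ↥(Subgroup.normalizer (((A.subgroupOf T).map ι : Subgroup L) : Set L)) :=
  (ι.comp (Subgroup.inclusion (normalizerIn_le T A))).codRestrict _ (iota_mem_normalizer ι A)

theorem iotaN_coe (ι : ↥T →* L) (A : Subgroup Ω) (x : ↥(normalizerIn T A)) :
    ((iotaN ι A x : ↥(Subgroup.normalizer (((A.subgroupOf T).map ι : Subgroup L) : Set L))) : L) =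
      ι ⟨x, normalizerIn_le T A x.2⟩ := rfl

/-- **The normalizer of a fully normalized subgroup in a model is a model of the normalizer
system.** -/
theorem normalizer_isModel [Finite T] (p : ℕ) [Fact p.Prime] (hT : IsPGroup p T)
    (E : FusionSystem T) (ι : ↥T →* L) (hL : E.IsModel p L ι) {A : Subgroup Ω}
    (hA : E.IsFullyNormalized A) (EA : FusionSystem (normalizerIn T A))
    (hEA : E.IsNormalizerSystem A EA) :
    EA.IsModel p ↥(Subgroup.normalizer (((A.subgroupOf T).map ι : Subgroup L) : Set L))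
      (iotaN ι A) := by
  obtain ⟨hfin, ⟨hinj, hreal⟩, ⟨Sy, hSy⟩, hcent⟩ := hL
  haveI := hfin
  have hAT : A ≤ T := hA.1
  have hTA : normalizerIn T A ≤ T := normalizerIn_le T A
  have hAN : A ≤ normalizerIn T A := self_le_normalizerIn' hAT
  haveI : Finite ↥A := finite_of_le hAT
  have hmemA' : ∀ (a : Ω) (ha : a ∈ A), ι ⟨a, hAT ha⟩ ∈ (A.subgroupOf T).map ι :=
    fun a ha => ⟨⟨a, hAT ha⟩, ha, rfl⟩
  have hA'mem : ∀ y ∈ (A.subgroupOf T).map ι, ∃ (a : Ω) (ha : a ∈ A), ι ⟨a, hAT ha⟩ = y := by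
    rintro _ ⟨a, ha, rfl⟩
    exact ⟨a, ha, rfl⟩
  have hinjN : Function.Injective (iotaN ι A) := by
    intro x y hxy
    have h1 : ι ⟨x, hTA x.2⟩ = ι ⟨y, hTA y.2⟩ := congrArg Subtype.val hxy
    have h2 := hinj h1
    have h3 : (x : Ω) = y := Subtype.mk.inj h2
    exact Subtype.ext h3
  refine ⟨inferInstance, ⟨hinjN, ?_⟩, ?_, ?_⟩
  · -- realization
    intro P hP φ hφ
    rw [hEA P]
    constructor
    · rintro ⟨hφE, -, -, ψ, hψ, hψP, hψA⟩
      have hPA : P ⊔ A ≤ T := sup_le (hP.trans hTA) hAT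
      have hψT : ∀ z, ψ z ∈ T := fun z => hom_mem E hψ z
      obtain ⟨g, hg⟩ := (hreal _ hPA ψ hψT).mp hψ
      have hgM : g ∈ Subgroup.normalizer (((A.subgroupOf T).map ι : Subgroup L) : Set L) := by
        apply Cfsg.Agent.Lib.Helper1.KN.mem_normalizer_of_forall_conj_mem
        intro y hy
        obtain ⟨a, ha, rfl⟩ := hA'mem y hy
        have h1 := hg ⟨a, (le_sup_right : A ≤ P ⊔ A) ha⟩
        have h2 : ψ ⟨a, (le_sup_right : A ≤ P ⊔ A) ha⟩ ∈ A :=
          hψA.le ⟨⟨a, (le_sup_right : A ≤ P ⊔ A) ha⟩, ha, rfl⟩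
        have h3 := hmemA' _ h2
        rw [h1] at h3
        exact h3
      refine ⟨⟨g, hgM⟩, fun x => ?_⟩
      apply Subtype.ext
      show ι ⟨φ x, hTA (hφ x)⟩ = g * ι ⟨x, hTA (hP x.2)⟩ * g⁻¹
      have h1 := hg (Subgroup.inclusion le_sup_left x)
      have h2 : (⟨ψ (Subgroup.inclusion le_sup_left x), hψT _⟩ : ↥T) = ⟨φ x, hTA (hφ x)⟩ :=
        Subtype.ext (hψP x)
      rw [h2] at h1
      exact h1
    · rintro ⟨m, hm⟩
      have hm' : ∀ x : P, ι ⟨φ x, hTA (hφ x)⟩ = (m : L) * ι ⟨x, hTA (hP x.2)⟩ * (m : L)⁻¹ :=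
        fun x => congrArg Subtype.val (hm x)
      have hPT : P ≤ T := hP.trans hTA
      have hφT : ∀ x, φ x ∈ T := fun x => hTA (hφ x)
      have hφE : φ ∈ E.Hom P := (hreal P hPT φ hφT).mpr ⟨m, hm'⟩
      have hPA : P ⊔ A ≤ T := sup_le hPT hAT
      have hmN : (m : L) ∈ Subgroup.normalizer (((A.subgroupOf T).map ι : Subgroup L) : Set L) :=
        m.2
      have hmem : ∀ z : ↥(P ⊔ A), (m : L) * ι ⟨z, hPA z.2⟩ * (m : L)⁻¹ ∈ ι.range := by
        let f : ↥(P ⊔ A) →* L :=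
          (MulAut.conj (m : L)).toMonoidHom.comp (ι.comp (Subgroup.inclusion hPA))
        have hf : ∀ z, f z = (m : L) * ι ⟨z, hPA z.2⟩ * (m : L)⁻¹ := fun z => rfl
        intro z
        rw [← hf]
        show z ∈ ι.range.comap f
        apply mem_of_sup_induction (ι.range.comap f)
        · intro x
          show f _ ∈ ι.range
          rw [hf]
          exact ⟨⟨φ x, hφT x⟩, hm' x⟩
        · intro a
          show f _ ∈ ι.range
          rw [hf]
          have h1 := conj_mem_of_mem_normalizer hmN (hmemA' a a.2)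
          obtain ⟨y, -, hy⟩ := h1
          exact ⟨y, hy⟩
      obtain ⟨ψ, hψT, hψι⟩ := exists_pull_conj ι hinj hPA (m : L) hmem
      have hψE : ψ ∈ E.Hom (P ⊔ A) := (hreal _ hPA ψ hψT).mpr ⟨m, hψι⟩
      refine ⟨hφE, hP, hφ, ψ, hψE, ?_, ?_⟩
      · intro x
        have h1 := hψι (Subgroup.inclusion le_sup_left x)
        have h2 := hm' x
        have h3 : (⟨ψ (Subgroup.inclusion le_sup_left x), hψT _⟩ : ↥T) = ⟨φ x, hφT x⟩ :=
          hinj (by rw [h1, h2]; rfl)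
        exact congrArg Subtype.val h3
      · apply map_eq_of_le_inj le_sup_right ψ (E.injective_of_mem hψE)
        rintro _ ⟨z, hz, rfl⟩
        have hzA : (z : Ω) ∈ A := hz
        have h1 := hψι z
        have h2 := conj_mem_of_mem_normalizer hmN (hmemA' z hzA)
        obtain ⟨a, ha, hay⟩ := hA'mem _ h2
        have h3 : (⟨ψ z, hψT z⟩ : ↥T) = ⟨a, hAT ha⟩ := hinj (by rw [h1, hay])
        have h4 : ψ z = a := congrArg Subtype.val h3
        rw [h4]
        exact ha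
  · -- Sylow
    have hNp : IsPGroup p ↥(normalizerIn T A) := isPGroup_of_le hT hTA
    have hrp : IsPGroup p ↥(iotaN ι A).range :=
      hNp.of_surjective (iotaN ι A).rangeRestrict (iotaN ι A).rangeRestrict_surjective
    obtain ⟨Sy₁, hSy₁⟩ := hrp.exists_le_sylow
    refine ⟨Sy₁, ?_⟩
    symm
    apply Subgroup.eq_of_le_of_card_ge hSy₁
    have hP₁p : IsPGroup p ↥((Sy₁ : Subgroup ↥(Subgroup.normalizer
        (((A.subgroupOf T).map ι : Subgroup L) : Set L))).map (Subgroup.subtype _)) :=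
      Sy₁.isPGroup'.map _
    obtain ⟨g, hg⟩ := exists_cj_le_sylow Sy hP₁p
    rw [hSy] at hg
    have hgy : ∀ y : ↥(Subgroup.normalizer (((A.subgroupOf T).map ι : Subgroup L) : Set L)),
        y ∈ (Sy₁ : Subgroup _) → g * (y : L) * g⁻¹ ∈ ι.range := by
      intro y hy
      apply hg
      exact ⟨(y : L), ⟨y, hy, rfl⟩, rfl⟩
    have hconjA : ∀ x : ↥A, g * ι ⟨x, hAT x.2⟩ * g⁻¹ ∈ ι.range :=
      fun x => hgy (iotaN ι A ⟨x, hAN x.2⟩) (hSy₁ ⟨_, rfl⟩)
    obtain ⟨φg, hφgT, hφgι⟩ := exists_pull_conj ι hinj hAT g hconjA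
    have hφgE : φg ∈ E.Hom A := (hreal A hAT φg hφgT).mpr ⟨g, hφgι⟩
    have hfn := hA.2 φg.range ⟨φg, hφgE, rfl⟩
    have hex : ∀ y : ↥(Sy₁ : Subgroup ↥(Subgroup.normalizer
        (((A.subgroupOf T).map ι : Subgroup L) : Set L))),
        ∃ t : ↥T, ι t = g * ((y : ↥(Subgroup.normalizer
          (((A.subgroupOf T).map ι : Subgroup L) : Set L))) : L) * g⁻¹ := fun y => hgy y y.2
    choose tf htf using hex
    haveI : Finite ↥φg.range := finite_of_le (by
      rintro _ ⟨a, rfl⟩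
      exact hφgT a)
    have htN : ∀ y, (tf y : Ω) ∈ normalizerIn T φg.range := by
      intro y
      refine ⟨(tf y).2, ?_⟩
      apply Cfsg.Agent.Lib.Helper1.KN.mem_normalizer_of_forall_conj_mem
      rintro _ ⟨a, rfl⟩
      have hyN : ((y : ↥(Subgroup.normalizer (((A.subgroupOf T).map ι : Subgroup L) : Set L))) : L)
          ∈ Subgroup.normalizer (((A.subgroupOf T).map ι : Subgroup L) : Set L) :=
        (y : ↥(Subgroup.normalizer (((A.subgroupOf T).map ι : Subgroup L) : Set L))).2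
      have h1 := conj_mem_of_mem_normalizer hyN (hmemA' a a.2)
      obtain ⟨a₂, ha₂, ha₂y⟩ := hA'mem _ h1
      refine ⟨⟨a₂, ha₂⟩, ?_⟩
      have h2 : (⟨φg ⟨a₂, ha₂⟩, hφgT _⟩ : ↥T) = tf y * ⟨φg a, hφgT a⟩ * (tf y)⁻¹ := by
        apply hinj
        rw [hφgι, map_mul, map_mul, map_inv, htf, hφgι, ha₂y]
        group
      exact congrArg Subtype.val h2
    have hinjf : Function.Injective (fun y : ↥(Sy₁ : Subgroup ↥(Subgroup.normalizer
        (((A.subgroupOf T).map ι : Subgroup L) : Set L))) =>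
        (⟨tf y, htN y⟩ : ↥(normalizerIn T φg.range))) := by
      intro y y' hyy'
      have hyy'' : (⟨tf y, htN y⟩ : ↥(normalizerIn T φg.range)) = ⟨tf y', htN y'⟩ := hyy'
      have h1 : (tf y : Ω) = tf y' := Subtype.mk.inj hyy''
      have h2 : tf y = tf y' := Subtype.ext h1
      have h3 := htf y
      rw [h2, htf y'] at h3
      have h5 := congrArg (fun z => g⁻¹ * z * g) h3
      have h6 : ∀ z : L, g⁻¹ * (g * z * g⁻¹) * g = z := fun z => by group
      simp only [h6] at h5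
      exact Subtype.ext (Subtype.ext h5.symm)
    haveI : Finite ↥(normalizerIn T φg.range) := finite_normalizerIn _
    have hc1 := Nat.card_le_card_of_injective _ hinjf
    have hc2 : Nat.card ↥(iotaN ι A).range = Nat.card ↥(normalizerIn T A) :=
      (Nat.card_congr (MonoidHom.ofInjective hinjN).toEquiv).symm
    rw [hc2]
    exact hc1.trans hfn
  · -- characteristic p
    have h1 : Subgroup.centralizer ((pCore p ↥(⊤ : Subgroup L) : Subgroup ↥(⊤ : Subgroup L)) :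
        Set ↥(⊤ : Subgroup L)) ≤ pCore p ↥(⊤ : Subgroup L) :=
      Cfsg.Agent.Lib.Helper7.charP_of_mulEquiv (Subgroup.topEquiv : (⊤ : Subgroup L) ≃* L).symm
        hcent
    have h2 : Cfsg.Agent.Lib.Helper7.CharPIn p (⊤ : Subgroup L) :=
      (Cfsg.Agent.Lib.Helper7.charPIn_iff p ⊤).mpr h1
    have hA'p : IsPGroup p ↥((A.subgroupOf T).map ι) := (hT.to_subgroup (A.subgroupOf T)).map ι
    have h3 := Cfsg.Agent.Lib.Helper7.charPIn_inf_normalizer h2 hA'p le_top
    rw [top_inf_eq] at h3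
    exact (Cfsg.Agent.Lib.Helper7.charPIn_iff p _).mp h3

end realized

end Cfsg.Agent.Lib.Helper1.QF
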