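import Mathlib
import Cfsg.Agent.Lib.Helper1.QI1

set_option autoImplicit false
set_option linter.style.haveILetI false
set_option linter.unusedSectionVars false
set_option linter.unusedVariables false

/-! Qd(p)-free inheritance, part 2: iterated normalizer systems `N_{N_F(A)}(B)` and
`N_{N_F(B)}(A)` for `A ≤ B`, described inside `F`. -/

namespace Cfsg.Agent.Lib.Helper1.QF

open Cfsg Cfsg.FusionSystem Cfsg.Agent.Lib.Helper9 Cfsg.Agent.Lib.Helper1.KN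
  Cfsg.Agent.Lib.Helper1.KL

variable {Ω : Type*} [Group Ω] {S : Subgroup Ω}

/-- maps of `F` between subgroups of `N_S(A) ∩ N_S(B)` that extend to `P ⊔ B` normalizing both
`A` and `B` -/
def DNHom (F : FusionSystem S) (A B P : Subgroup Ω) : Set (↥P →* Ω) :=
  {φ | φ ∈ F.Hom P ∧ P ≤ normalizerIn S A ∧ P ≤ normalizerIn S B ∧
    (∀ x : ↥P, φ x ∈ normalizerIn S A) ∧ (∀ x : ↥P, φ x ∈ normalizerIn S B) ∧
    ∃ ψ ∈ F.Hom (P ⊔ B), (∀ x : ↥P, ψ (Subgroup.inclusion le_sup_left x) = φ x) ∧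
      (B.subgroupOf (P ⊔ B)).map ψ = B ∧ (A.subgroupOf (P ⊔ B)).map ψ = A}

/-- `N_{N_F(Q)}(R)` for `Q ≤ R ≤ N_S(Q)` -/
theorem nn2 [Finite S] (F : FusionSystem S) {Q R : Subgroup Ω} (hQR : Q ≤ R)
    (hRT : R ≤ normalizerIn S Q) (N : FusionSystem (normalizerIn S Q))
    (hN : F.IsNormalizerSystem Q N) (N₁ : FusionSystem (normalizerIn (normalizerIn S Q) R))
    (hN₁ : N.IsNormalizerSystem R N₁) (P : Subgroup Ω) : N₁.Hom P = DNHom F Q R P := by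
  have hRS : R ≤ S := hRT.trans (normalizerIn_le S Q)
  have hQS : Q ≤ S := hQR.trans hRS
  haveI : Finite ↥Q := finite_of_le hQS
  haveI : Finite ↥R := finite_of_le hRS
  ext φ
  rw [hN₁ P]
  constructor
  · rintro ⟨hφN, hP, hφP, ψ, hψN, hψP, hψR⟩
    rw [hN P] at hφN
    rw [hN (P ⊔ R)] at hψN
    obtain ⟨hφF, -, -, -⟩ := hφN
    obtain ⟨hψF, hPRT, hψT, ψ', hψ', hψ'ext, hψ'Q⟩ := hψN
    have hQPR : Q ≤ P ⊔ R := hQR.trans le_sup_right
    refine ⟨hφF, fun x hx => (hP hx).1, fun x hx => ⟨(hP hx).1.1, (hP hx).2⟩,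
      fun x => (hφP x).1, fun x => ⟨(hφP x).1.1, (hφP x).2⟩, ψ, hψF, hψP, hψR, ?_⟩
    have h := map_subgroupOf_comp_inclusion_eq (le_sup_left : P ⊔ R ≤ (P ⊔ R) ⊔ Q) ψ' hQPR
    rw [hψ'Q] at h
    have e : ψ'.comp (Subgroup.inclusion (le_sup_left : P ⊔ R ≤ (P ⊔ R) ⊔ Q)) = ψ := by
      ext z
      exact hψ'ext z
    rw [e] at h
    exact h
  · rintro ⟨hφF, hPQ, hPR, hφQ, hφR, ψ, hψF, hψP, hψR, hψQ⟩
    have hPRT : P ⊔ R ≤ normalizerIn S Q := sup_le hPQ hRT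
    have hQPR : Q ≤ P ⊔ R := hQR.trans le_sup_right
    have hψN : ψ ∈ N.Hom (P ⊔ R) := by
      rw [hN (P ⊔ R)]
      have hle : (P ⊔ R) ⊔ Q ≤ P ⊔ R := sup_le le_rfl hQPR
      refine ⟨hψF, hPRT, fun z => ⟨hom_mem F hψF z, map_mem_normalizer' ψ hψQ (hPRT z.2).2⟩,
        ψ.comp (Subgroup.inclusion hle), restrict_mem F hψF hle, fun z => rfl, ?_⟩
      rw [map_subgroupOf_comp_inclusion_eq hle ψ le_sup_right]
      exact hψQ
    have hφN : φ ∈ N.Hom P := by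
      have h1 := restrict_mem N hψN (le_sup_left : P ≤ P ⊔ R)
      have h2 : ψ.comp (Subgroup.inclusion (le_sup_left : P ≤ P ⊔ R)) = φ := by
        ext x
        exact hψP x
      rwa [h2] at h1
    exact ⟨hφN, fun x hx => ⟨hPQ hx, (hPR hx).2⟩, fun x => ⟨hφQ x, (hφR x).2⟩, ψ, hψN, hψP, hψR⟩

/-- `N_{N_F(B)}(A)` for `A ≤ B` -/
theorem nn1 [Finite S] (F : FusionSystem S) {A B : Subgroup Ω} (hAB : A ≤ B) (hBS : B ≤ S)
    (NB : FusionSystem (normalizerIn S B)) (hNB : F.IsNormalizerSystem B NB)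
    (NBA : FusionSystem (normalizerIn (normalizerIn S B) A))
    (hNBA : NB.IsNormalizerSystem A NBA) (P : Subgroup Ω) : NBA.Hom P = DNHom F A B P := by
  have hAS : A ≤ S := hAB.trans hBS
  haveI : Finite ↥A := finite_of_le hAS
  haveI : Finite ↥B := finite_of_le hBS
  have hBN : B ≤ normalizerIn S B := self_le_normalizerIn' hBS
  ext φ
  rw [hNBA P]
  constructor
  · rintro ⟨hφNB, hP, hφP, ψ₁, hψ₁NB, hψ₁P, hψ₁A⟩
    rw [hNB P] at hφNB
    rw [hNB (P ⊔ A)] at hψ₁NB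
    obtain ⟨hφF, -, -, -⟩ := hφNB
    obtain ⟨hψ₁F, hPAT, hψ₁T, ψ₂, hψ₂F, hψ₂ext, hψ₂B⟩ := hψ₁NB
    have hle : P ⊔ B ≤ (P ⊔ A) ⊔ B :=
      sup_le ((le_sup_left : P ≤ P ⊔ A).trans le_sup_left) le_sup_right
    have hAPB : A ≤ P ⊔ B := hAB.trans le_sup_right
    refine ⟨hφF, fun x hx => ⟨(hP hx).1.1, (hP hx).2⟩, fun x hx => (hP hx).1,
      fun x => ⟨(hφP x).1.1, (hφP x).2⟩, fun x => (hφP x).1,
      ψ₂.comp (Subgroup.inclusion hle), restrict_mem F hψ₂F hle, ?_, ?_, ?_⟩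
    · intro x
      exact (hψ₂ext (Subgroup.inclusion le_sup_left x)).trans (hψ₁P x)
    · rw [map_subgroupOf_comp_inclusion_eq hle ψ₂ le_sup_right]
      exact hψ₂B
    · rw [map_subgroupOf_comp_inclusion_eq hle ψ₂ hAPB]
      have h := map_subgroupOf_comp_inclusion_eq (le_sup_left : P ⊔ A ≤ (P ⊔ A) ⊔ B) ψ₂
        (le_sup_right : A ≤ P ⊔ A)
      have e : ψ₂.comp (Subgroup.inclusion (le_sup_left : P ⊔ A ≤ (P ⊔ A) ⊔ B)) = ψ₁ := by
        ext z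
        exact hψ₂ext z
      rw [e, hψ₁A] at h
      exact h.symm
  · rintro ⟨hφF, hPA, hPB, hφA, hφB, ψ, hψF, hψP, hψB, hψA⟩
    have hle₁ : P ⊔ A ≤ P ⊔ B := sup_le le_sup_left (hAB.trans le_sup_right)
    have hPAT : P ⊔ A ≤ normalizerIn S B := sup_le hPB (hAB.trans hBN)
    have hPBT : P ⊔ B ≤ normalizerIn S B := sup_le hPB hBN
    have hψ₁NB : ψ.comp (Subgroup.inclusion hle₁) ∈ NB.Hom (P ⊔ A) := by
      rw [hNB (P ⊔ A)]
      have hle' : (P ⊔ A) ⊔ B ≤ P ⊔ B := sup_le hle₁ le_sup_right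
      refine ⟨restrict_mem F hψF hle₁, hPAT,
        fun z => ⟨hom_mem F hψF _, map_mem_normalizer' ψ hψB (hPAT z.2).2⟩,
        ψ.comp (Subgroup.inclusion hle'), restrict_mem F hψF hle', fun z => rfl, ?_⟩
      rw [map_subgroupOf_comp_inclusion_eq hle' ψ le_sup_right]
      exact hψB
    have hφNB : φ ∈ NB.Hom P := by
      have h1 := restrict_mem NB hψ₁NB (le_sup_left : P ≤ P ⊔ A)
      have h2 : (ψ.comp (Subgroup.inclusion hle₁)).comp
          (Subgroup.inclusion (le_sup_left : P ≤ P ⊔ A)) = φ := by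
        ext x
        exact hψP x
      rwa [h2] at h1
    refine ⟨hφNB, fun x hx => ⟨hPB hx, (hPA hx).2⟩, fun x => ⟨hφB x, (hφA x).2⟩,
      ψ.comp (Subgroup.inclusion hle₁), hψ₁NB, fun x => hψP x, ?_⟩
    rw [map_subgroupOf_comp_inclusion_eq hle₁ ψ le_sup_right]
    exact hψA

end Cfsg.Agent.Lib.Helper1.QF
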