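import Mathlib
import Cfsg.Agent.Lib.Helper1.QI2
import Cfsg.Agent.Lib.Helper9.RealizedFactor
import Cfsg.Agent.S5096

set_option autoImplicit false
set_option linter.style.haveILetI false
set_option linter.unusedSectionVars false
set_option linter.unusedVariables false
set_option maxHeartbeats 1000000

/-! Qd(p)-free inheritance, part 3: the embedding of the model of `N_{N_F(Q)}(R)` into the
model of `N_F(R'')`, `R''` a fully normalized conjugate of `R`. -/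

namespace Cfsg.Agent.Lib.Helper1.QF

open Cfsg Cfsg.FusionSystem Cfsg.Agent.Lib.Helper9 Cfsg.Agent.Lib.Helper1.KN
  Cfsg.Agent.Lib.Helper1.KL

variable {Ω : Type*} [Group Ω] {S : Subgroup Ω}

theorem centric_of_isConj (F : FusionSystem S) {R R'' : Subgroup Ω} (hRc : F.IsCentric R)
    (h : F.IsConj R R'') : F.IsCentric R'' :=
  ⟨isConj_le_right F h, fun Q' hQ' => hRc.2 Q' (isConj_trans F h hQ')⟩

/-- the normalizers in `N_S(R'')` of the `N_F(R'')`-conjugates of `χ(Q)` are no larger than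
`N_{N_S(Q)}(R)` -/
theorem card_normalizerIn_le [Finite S] {p : ℕ} [Fact p.Prime] (hS : IsPGroup p S)
    (F : FusionSystem S) (hF : F.IsSaturated p) {Q R : Subgroup Ω}
    (hQfn : F.IsFullyNormalized Q) (hQR : Q ≤ R) (hRT : R ≤ normalizerIn S Q)
    (N : FusionSystem (normalizerIn S Q)) (hN : F.IsNormalizerSystem Q N)
    (hRfn : N.IsFullyNormalized R) {R'' : Subgroup Ω} (χ : ↥(normalizerIn S R) →* Ω)
    (hχ : χ ∈ F.Hom (normalizerIn S R)) (hχT : ∀ x, χ x ∈ normalizerIn S R'')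
    (hχR : (R.subgroupOf (normalizerIn S R)).map χ = R'')
    (N'' : FusionSystem (normalizerIn S R'')) (hN'' : F.IsNormalizerSystem R'' N'')
    {Q'' : Subgroup Ω} (hQ'' : (Q.subgroupOf (normalizerIn S R)).map χ = Q'')
    {Q₃ : Subgroup Ω} (hQ₃ : N''.IsConj Q'' Q₃) :
    Nat.card ↥(normalizerIn (normalizerIn S R'') Q₃) ≤
      Nat.card ↥(normalizerIn (normalizerIn S Q) R) := by
  subst hQ''
  have hRS : R ≤ S := hRT.trans (normalizerIn_le S Q)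
  have hQS : Q ≤ S := hQfn.1
  have hRY : R ≤ normalizerIn S R := self_le_normalizerIn' hRS
  have hQY : Q ≤ normalizerIn S R := hQR.trans hRY
  have hχinj := F.injective_of_mem hχ
  haveI : Finite ↥Q := finite_of_le hQS
  haveI : Finite ↥R := finite_of_le hRS
  have hR''S : R'' ≤ S := by
    rw [← hχR]
    rintro _ ⟨z, -, rfl⟩
    exact (hχT z).1
  haveI : Finite ↥R'' := finite_of_le hR''S
  have hQ''R'' : (Q.subgroupOf (normalizerIn S R)).map χ ≤ R'' := by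
    rw [← hχR]
    exact Subgroup.map_mono (fun z hz => hQR hz)
  haveI : Finite ↥((Q.subgroupOf (normalizerIn S R)).map χ) := finite_of_le (hQ''R''.trans hR''S)
  obtain ⟨θ, hθN, hθr⟩ := hQ₃
  rw [hN'' _] at hθN
  obtain ⟨hθF, hQ''T, hθT, θ', hθ'F, hθ'ext, hθ'R⟩ := hθN
  have hQ₃S : Q₃ ≤ S := by
    rw [← hθr]
    rintro _ ⟨z, rfl⟩
    exact (hθT z).1
  haveI : Finite ↥Q₃ := finite_of_le hQ₃S
  have hχQ : χ.comp (Subgroup.inclusion hQY) ∈ F.Hom Q := restrict_mem F hχ hQY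
  have hconj1 : F.IsConj Q ((Q.subgroupOf (normalizerIn S R)).map χ) :=
    ⟨_, hχQ, range_restrict_eq_map hQY χ⟩
  have hconj2 : F.IsConj ((Q.subgroupOf (normalizerIn S R)).map χ) Q₃ := ⟨θ, hθF, hθr⟩
  have hconj : F.IsConj Q₃ Q := isConj_symm F (isConj_trans F hconj1 hconj2)
  have hautQ := fullyAutomized_of_fullyNormalized hS F hF hQfn
  have hrecQ := receptive_of_fullyCentralized hS F hF
    (fullyCentralized_of_fullyNormalized hS F hF hQfn)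
  obtain ⟨ψ₃, hψ₃F, hψ₃T, hψ₃Q⟩ := exists_normalizer_hom hS F Q Q₃ hautQ hrecQ hconj
  have hψ₃inj := F.injective_of_mem hψ₃F
  have hθ'Q : (((Q.subgroupOf (normalizerIn S R)).map χ).subgroupOf
      ((Q.subgroupOf (normalizerIn S R)).map χ ⊔ R'')).map θ' = Q₃ := by
    rw [map_left_eq_range θ' θ hθ'ext, hθr]
  have hR''nQ'' : ∀ r'' ∈ R'', r'' ∈ Subgroup.normalizer
      (((Q.subgroupOf (normalizerIn S R)).map χ : Subgroup Ω) : Set Ω) := by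
    intro r'' hr''
    rw [← hχR] at hr''
    obtain ⟨z, hz, rfl⟩ := hr''
    exact map_mem_normalizer' χ rfl (hRT hz).2
  have hR''N₃ : R'' ≤ normalizerIn S Q₃ := by
    intro r'' hr''
    refine ⟨hR''S hr'', ?_⟩
    obtain ⟨z, hz, rfl⟩ := hθ'R.ge hr''
    exact map_mem_normalizer' θ' hθ'Q (hR''nQ'' _ hz)
  have hR₃T : (R''.subgroupOf (normalizerIn S Q₃)).map ψ₃ ≤ normalizerIn S Q := by
    rintro _ ⟨z, -, rfl⟩
    exact hψ₃T z
  have hχR' : χ.comp (Subgroup.inclusion hRY) ∈ F.Hom R := restrict_mem F hχ hRY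
  have hχRv : ∀ x : ↥R, (χ.comp (Subgroup.inclusion hRY)) x ∈ R'' :=
    fun x => hχR.le ⟨Subgroup.inclusion hRY x, x.2, rfl⟩
  have hθ'R' : θ'.comp (Subgroup.inclusion (le_sup_right :
      R'' ≤ (Q.subgroupOf (normalizerIn S R)).map χ ⊔ R'')) ∈ F.Hom R'' :=
    restrict_mem F hθ'F le_sup_right
  obtain ⟨κ₁, hκ₁F, hκ₁⟩ := comp_hom F hχR' hθ'R' hχRv
  have hκ₁R'' : ∀ x : ↥R, κ₁ x ∈ R'' := by
    intro x
    rw [hκ₁]
    exact hθ'R.le ⟨_, hχRv x, rfl⟩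
  have hκ₁v : ∀ x : ↥R, κ₁ x ∈ normalizerIn S Q₃ := fun x => hR''N₃ (hκ₁R'' x)
  obtain ⟨κ, hκF, hκ⟩ := comp_hom F hκ₁F hψ₃F hκ₁v
  have hκN : κ ∈ N.Hom R := by
    rw [hN R]
    have hle : R ⊔ Q ≤ R := sup_le le_rfl hQR
    refine ⟨hκF, hRT, fun x => by rw [hκ]; exact hψ₃T _, κ.comp (Subgroup.inclusion hle),
      restrict_mem F hκF hle, fun x => rfl, ?_⟩
    rw [map_subgroupOf_comp_inclusion_eq hle κ le_sup_right]
    apply map_eq_of_le_inj hQR κ (F.injective_of_mem hκF)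
    rintro _ ⟨z, hz, rfl⟩
    have hzQ : (z : Ω) ∈ Q := hz
    rw [hκ]
    apply hψ₃Q.le
    refine ⟨⟨κ₁ z, hκ₁v z⟩, ?_, rfl⟩
    show κ₁ z ∈ Q₃
    rw [hκ₁, ← hθr]
    have hχzQ'' : χ (Subgroup.inclusion hRY z) ∈ (Q.subgroupOf (normalizerIn S R)).map χ :=
      ⟨Subgroup.inclusion hRY z, hzQ, rfl⟩
    have h1 := hθ'ext ⟨χ (Subgroup.inclusion hRY z), hχzQ''⟩
    exact ⟨⟨_, hχzQ''⟩, h1.symm⟩
  have hκr : κ.range = (R''.subgroupOf (normalizerIn S Q₃)).map ψ₃ := by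
    apply le_antisymm
    · rintro _ ⟨x, rfl⟩
      rw [hκ]
      exact ⟨⟨κ₁ x, hκ₁v x⟩, hκ₁R'' x, rfl⟩
    · rintro _ ⟨y, hy, rfl⟩
      have hyR'' : (y : Ω) ∈ R'' := hy
      obtain ⟨z, hz, hzy⟩ := hθ'R.ge hyR''
      have hzR'' : (z : Ω) ∈ R'' := hz
      obtain ⟨r, hr, hrz⟩ := hχR.ge hzR''
      have hrR : (r : Ω) ∈ R := hr
      refine ⟨⟨r, hrR⟩, ?_⟩
      rw [hκ]
      have h1 : κ₁ ⟨r, hrR⟩ = y := by
        have hincl : Subgroup.inclusion hRY ⟨(r : Ω), hrR⟩ = r := Subtype.ext rfl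
        have hz' : (Subgroup.inclusion (le_sup_right :
            R'' ≤ (Q.subgroupOf (normalizerIn S R)).map χ ⊔ R'')
            ⟨(χ.comp (Subgroup.inclusion hRY)) ⟨r, hrR⟩, hχRv ⟨r, hrR⟩⟩) = z := by
          apply Subtype.ext
          show χ (Subgroup.inclusion hRY ⟨(r : Ω), hrR⟩) = z
          rw [hincl]
          exact hrz
        exact (hκ₁ _).trans ((congrArg θ' hz').trans hzy)
      have h2 : (⟨κ₁ ⟨r, hrR⟩, hκ₁v _⟩ : ↥(normalizerIn S Q₃)) = y := Subtype.ext h1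
      rw [h2]
  have h1 := hRfn.2 _ ⟨κ, hκN, hκr⟩
  refine le_trans ?_ h1
  have hdom : normalizerIn (normalizerIn S R'') Q₃ ≤ normalizerIn S Q₃ :=
    fun x hx => ⟨hx.1.1, hx.2⟩
  haveI : Finite ↥((R''.subgroupOf (normalizerIn S Q₃)).map ψ₃) :=
    finite_of_le (hR₃T.trans (normalizerIn_le S Q))
  have hval : ∀ x : ↥(normalizerIn (normalizerIn S R'') Q₃), ψ₃ ⟨x, hdom x.2⟩ ∈
      normalizerIn (normalizerIn S Q) ((R''.subgroupOf (normalizerIn S Q₃)).map ψ₃) := by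
    intro x
    exact ⟨hψ₃T _, map_mem_normalizer' ψ₃ rfl x.2.1.2⟩
  haveI : Finite ↥(normalizerIn (normalizerIn S Q)
      ((R''.subgroupOf (normalizerIn S Q₃)).map ψ₃)) :=
    finite_of_le ((normalizerIn_le _ _).trans (normalizerIn_le S Q))
  apply Nat.card_le_card_of_injective (fun x : ↥(normalizerIn (normalizerIn S R'') Q₃) =>
    (⟨ψ₃ ⟨x, hdom x.2⟩, hval x⟩ :
    ↥(normalizerIn (normalizerIn S Q) ((R''.subgroupOf (normalizerIn S Q₃)).map ψ₃))))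
  intro x x' hxx'
  have hxx'' : (⟨ψ₃ ⟨x, hdom x.2⟩, hval x⟩ : ↥(normalizerIn (normalizerIn S Q)
      ((R''.subgroupOf (normalizerIn S Q₃)).map ψ₃))) = ⟨ψ₃ ⟨x', hdom x'.2⟩, hval x'⟩ := hxx'
  have h2 : ψ₃ ⟨x, hdom x.2⟩ = ψ₃ ⟨x', hdom x'.2⟩ := Subtype.mk.inj hxx''
  have h3 := hψ₃inj h2
  exact Subtype.ext (Subtype.mk.inj h3)

theorem exists_preimage' {Y P P'' : Subgroup Ω} (χ : ↥Y →* Ω) (hPY : P ≤ Y)
    (hP'' : (P.subgroupOf Y).map χ = P'') (y : ↥P'') :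
    ∃ (x : ↥P) (h : χ ⟨x, hPY x.2⟩ ∈ P''), y = ⟨χ ⟨x, hPY x.2⟩, h⟩ := by
  obtain ⟨x, hx, hxy⟩ := hP''.ge y.2
  have hxP : (x : Ω) ∈ P := hx
  have h1 : χ ⟨(x : Ω), hPY hxP⟩ = y := hxy
  refine ⟨⟨x, hxP⟩, ?_, ?_⟩
  · show χ ⟨(x : Ω), hPY hxP⟩ ∈ P''
    rw [h1]
    exact y.2
  · exact Subtype.ext h1.symm

theorem map_inv_eq {Y Y'' A A'' : Subgroup Ω} (χ : ↥Y →* Ω) (χ' : ↥Y'' →* Ω)
    (hχ' : ∀ (x : ↥Y) (h : χ x ∈ Y''), χ' ⟨χ x, h⟩ = x) (hY'' : χ.range = Y'')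
    (hAY : A ≤ Y) (hA'' : (A.subgroupOf Y).map χ = A'') :
    (A''.subgroupOf Y'').map χ' = A := by
  apply le_antisymm
  · rintro _ ⟨y, hy, rfl⟩
    have hyA : (y : Ω) ∈ A'' := hy
    obtain ⟨a, ha, hay⟩ := hA''.ge hyA
    have haA : (a : Ω) ∈ A := ha
    have hmem : χ a ∈ Y'' := by
      rw [hay]
      exact y.2
    have h1 : y = ⟨χ a, hmem⟩ := Subtype.ext hay.symm
    rw [h1, hχ']
    exact haA
  · intro a ha
    have h1 : χ ⟨a, hAY ha⟩ ∈ Y'' := hY''.le ⟨_, rfl⟩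
    refine ⟨⟨χ ⟨a, hAY ha⟩, h1⟩, ?_, hχ' _ h1⟩
    show χ ⟨a, hAY ha⟩ ∈ A''
    exact hA''.le ⟨⟨a, hAY ha⟩, ha, rfl⟩

/-- transporting a map of `F` along an isomorphism `χ` of `F` -/
theorem exists_transport_hom (F : FusionSystem S) {Y P P'' : Subgroup Ω} (χ : ↥Y →* Ω)
    (hχ : χ ∈ F.Hom Y) (hPY : P ≤ Y) (hP'' : (P.subgroupOf Y).map χ = P'') (φ : ↥P →* Ω)
    (hφ : φ ∈ F.Hom P) (hφY : ∀ x, φ x ∈ Y) :
    ∃ ω ∈ F.Hom P'', ∀ (x : ↥P) (h : χ ⟨x, hPY x.2⟩ ∈ P''),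
      ω ⟨χ ⟨x, hPY x.2⟩, h⟩ = χ ⟨φ x, hφY x⟩ := by
  have hχP : χ.comp (Subgroup.inclusion hPY) ∈ F.Hom P := restrict_mem F hχ hPY
  have hr : (χ.comp (Subgroup.inclusion hPY)).range = P'' :=
    (range_restrict_eq_map hPY χ).trans hP''
  obtain ⟨ρ, hρF, hρ, hρr, -⟩ := inv_hom F hχP hr
  have hρP : ∀ y : ↥P'', ρ y ∈ P := fun y => hρr.le ⟨y, rfl⟩
  obtain ⟨κ₁, hκ₁F, hκ₁⟩ := comp_hom F hρF hφ hρP
  have hκ₁Y : ∀ y : ↥P'', κ₁ y ∈ Y := fun y => by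
    rw [hκ₁]
    exact hφY _
  obtain ⟨ω, hωF, hω⟩ := comp_hom F hκ₁F hχ hκ₁Y
  refine ⟨ω, hωF, fun x h => ?_⟩
  have h1 : ρ ⟨χ ⟨x, hPY x.2⟩, h⟩ = x := hρ x h
  have h2 : (⟨ρ ⟨χ ⟨x, hPY x.2⟩, h⟩, hρP _⟩ : ↥P) = x := Subtype.ext h1
  have h3 : κ₁ ⟨χ ⟨x, hPY x.2⟩, h⟩ = φ x := (hκ₁ _).trans (congrArg φ h2)
  have h4 : (⟨κ₁ ⟨χ ⟨x, hPY x.2⟩, h⟩, hκ₁Y _⟩ : ↥Y) = ⟨φ x, hφY x⟩ := Subtype.ext h3
  exact (hω _).trans (congrArg χ h4)

/-- transporting the description of the iterated normalizer system along an isomorphism -/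
theorem dnhom_transport [Finite S] (F : FusionSystem S) {Y A B P A'' B'' P'' : Subgroup Ω}
    (χ : ↥Y →* Ω) (hχ : χ ∈ F.Hom Y) (hAB : A ≤ B) (hBY : B ≤ Y) (hPY : P ≤ Y)
    (hA'' : (A.subgroupOf Y).map χ = A'') (hB'' : (B.subgroupOf Y).map χ = B'')
    (hP'' : (P.subgroupOf Y).map χ = P'')
    (φ : ↥P →* Ω) (hφY : ∀ x, φ x ∈ Y) (ω : ↥P'' →* Ω)
    (hω : ∀ (x : ↥P) (h : χ ⟨x, hPY x.2⟩ ∈ P''), ω ⟨χ ⟨x, hPY x.2⟩, h⟩ = χ ⟨φ x, hφY x⟩)
    (hφ : φ ∈ DNHom F A B P) : ω ∈ DNHom F A'' B'' P'' := by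
  obtain ⟨hφF, hPA, hPB, hφA, hφB, ψ, hψF, hψP, hψB, hψA⟩ := hφ
  have hYS : Y ≤ S := (F.le_of_mem hχ).1
  have hχS : ∀ y, χ y ∈ S := (F.le_of_mem hχ).2
  have hχinj := F.injective_of_mem hχ
  have hAY : A ≤ Y := hAB.trans hBY
  have hA''S : A'' ≤ S := by
    rw [← hA'']
    rintro _ ⟨z, -, rfl⟩
    exact hχS z
  have hB''S : B'' ≤ S := by
    rw [← hB'']
    rintro _ ⟨z, -, rfl⟩
    exact hχS z
  have hP''S : P'' ≤ S := by
    intro y hy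
    obtain ⟨z, -, hz⟩ := hP''.ge hy
    rw [← hz]
    exact hχS z
  haveI : Finite ↥A'' := finite_of_le hA''S
  haveI : Finite ↥B'' := finite_of_le hB''S
  have hXY : P ⊔ B ≤ Y := sup_le hPY hBY
  have hX'' : ((P ⊔ B).subgroupOf Y).map χ = P'' ⊔ B'' := by
    rw [← hP'', ← hB'', ← Subgroup.map_sup, Subgroup.subgroupOf_sup hPY hBY]
  have hψY : ∀ z : ↥(P ⊔ B), ψ z ∈ Y := by
    intro z
    refine mem_of_sup_induction (Y.comap ψ) (fun x => ?_) (fun b => ?_) z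
    · show ψ (Subgroup.inclusion le_sup_left x) ∈ Y
      rw [hψP]
      exact hφY x
    · show ψ (Subgroup.inclusion le_sup_right b) ∈ Y
      exact hBY (hψB.le ⟨_, b.2, rfl⟩)
  obtain ⟨κ, hκF, hκ⟩ := exists_transport_hom F χ hχ hXY hX'' ψ hψF hψY
  have hnorm : ∀ (C C'' : Subgroup Ω), Finite ↥C'' → (C.subgroupOf Y).map χ = C'' →
      ∀ y : ↥Y, (y : Ω) ∈ normalizerIn S C → χ y ∈ normalizerIn S C'' := by
    intro C C'' _ hC y hy
    exact ⟨hχS y, map_mem_normalizer' χ hC hy.2⟩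
  have hext : ∀ y : ↥P'', κ (Subgroup.inclusion le_sup_left y) = ω y := by
    intro y
    obtain ⟨x, h, rfl⟩ := exists_preimage' χ hPY hP'' y
    have h' : χ ⟨(Subgroup.inclusion (le_sup_left : P ≤ P ⊔ B) x : ↥(P ⊔ B)),
        hXY (Subgroup.inclusion (le_sup_left : P ≤ P ⊔ B) x).2⟩ ∈ P'' ⊔ B'' :=
      (le_sup_left : P'' ≤ P'' ⊔ B'') h
    have h1 := hκ (Subgroup.inclusion (le_sup_left : P ≤ P ⊔ B) x) h'
    rw [hω x h]
    refine Eq.trans ?_ (h1.trans ?_)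
    · rfl
    · exact congrArg χ (Subtype.ext (hψP x))
  have key : ∀ (C C'' : Subgroup Ω), Finite ↥C'' → ∀ (hCX : C ≤ P ⊔ B),
      (C.subgroupOf Y).map χ = C'' → (C.subgroupOf (P ⊔ B)).map ψ = C →
      (C''.subgroupOf (P'' ⊔ B'')).map κ = C'' := by
    intro C C'' _ hCX hC'' hψC
    have hCY : C ≤ Y := hCX.trans hXY
    have hC''X'' : C'' ≤ P'' ⊔ B'' := by
      rw [← hC'', ← hX'']
      exact Subgroup.map_mono (fun z hz => hCX hz)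
    apply map_eq_of_le_inj hC''X'' κ (F.injective_of_mem hκF)
    rintro _ ⟨y, hy, rfl⟩
    have hyC : (y : Ω) ∈ C'' := hy
    obtain ⟨c, h, hcy⟩ := exists_preimage' χ hCY hC'' ⟨y, hyC⟩
    have h'' : χ ⟨(Subgroup.inclusion hCX c : ↥(P ⊔ B)),
        hXY (Subgroup.inclusion hCX c).2⟩ ∈ P'' ⊔ B'' := hC''X'' h
    have hv : (y : Ω) = χ ⟨c, hCY c.2⟩ := congrArg Subtype.val hcy
    have hyeq : y = ⟨χ ⟨(Subgroup.inclusion hCX c : ↥(P ⊔ B)),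
        hXY (Subgroup.inclusion hCX c).2⟩, h''⟩ :=
      Subtype.ext hv
    rw [hyeq, hκ]
    exact hC''.le ⟨⟨ψ (Subgroup.inclusion hCX c), hψY _⟩, hψC.le ⟨_, c.2, rfl⟩, rfl⟩
  have e : κ.comp (Subgroup.inclusion (le_sup_left : P'' ≤ P'' ⊔ B'')) = ω :=
    MonoidHom.ext hext
  have hωF : ω ∈ F.Hom P'' := e ▸ restrict_mem F hκF le_sup_left
  refine ⟨hωF, ?_, ?_, ?_, ?_, κ, hκF, hext, ?_, ?_⟩
  · intro y hy
    obtain ⟨x, h, hxy⟩ := exists_preimage' χ hPY hP'' ⟨y, hy⟩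
    have hy' : y = χ ⟨x, hPY x.2⟩ := congrArg Subtype.val hxy
    rw [hy']
    exact hnorm A A'' inferInstance hA'' _ (hPA x.2)
  · intro y hy
    obtain ⟨x, h, hxy⟩ := exists_preimage' χ hPY hP'' ⟨y, hy⟩
    have hy' : y = χ ⟨x, hPY x.2⟩ := congrArg Subtype.val hxy
    rw [hy']
    exact hnorm B B'' inferInstance hB'' _ (hPB x.2)
  · intro y
    obtain ⟨x, h, rfl⟩ := exists_preimage' χ hPY hP'' y
    rw [hω x h]
    exact hnorm A A'' inferInstance hA'' _ (hφA x)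
  · intro y
    obtain ⟨x, h, rfl⟩ := exists_preimage' χ hPY hP'' y
    rw [hω x h]
    exact hnorm B B'' inferInstance hB'' _ (hφB x)
  · exact key B B'' inferInstance le_sup_right hB'' hψB
  · exact key A A'' inferInstance (hAB.trans le_sup_right) hA'' hψA

universe v w

/-- the model of `N_{N_F(Q)}(R)` embeds in the model of `N_F(R'')`, `R''` a fully normalized
conjugate of `R` -/
theorem exists_embedding [Finite S] {p : ℕ} [Fact p.Prime] (hS : IsPGroup p S)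
    (F : FusionSystem S) (hF : F.IsSaturated p) {Q R : Subgroup Ω}
    (hQfn : F.IsFullyNormalized Q) (hQR : Q ≤ R) (hRT : R ≤ normalizerIn S Q)
    (N : FusionSystem (normalizerIn S Q)) (hN : F.IsNormalizerSystem Q N)
    (hRfn : N.IsFullyNormalized R) (hRc : F.IsCentric R)
    (N₁ : FusionSystem (normalizerIn (normalizerIn S Q) R)) (hN₁ : N.IsNormalizerSystem R N₁)
    {L : Type v} [Group L] (ι : ↥(normalizerIn (normalizerIn S Q) R) →* L)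
    (hL : N₁.IsModel p L ι) :
    ∃ R'' : Subgroup Ω, F.IsConj R R'' ∧ F.IsFullyNormalized R'' ∧ F.IsCentric R'' ∧
      ∀ (N'' : FusionSystem (normalizerIn S R'')), F.IsNormalizerSystem R'' N'' →
      ∀ (L'' : Type w) [Group L''] (ι'' : ↥(normalizerIn S R'') →* L''), N''.IsModel p L'' ι'' →
        ∃ f : L →* L'', Function.Injective f := by
  classical
  have hRS : R ≤ S := hRT.trans (normalizerIn_le S Q)
  have hQS : Q ≤ S := hQfn.1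
  obtain ⟨R'', hconj, hR''fn⟩ := exists_isConj_fullyNormalized F hRS
  refine ⟨R'', hconj, hR''fn, centric_of_isConj F hRc hconj, ?_⟩
  intro N'' hN'' L'' _ ι'' hL''
  have hR''S : R'' ≤ S := hR''fn.1
  have haut'' := fullyAutomized_of_fullyNormalized hS F hF hR''fn
  have hrec'' := receptive_of_fullyCentralized hS F hF
    (fullyCentralized_of_fullyNormalized hS F hF hR''fn)
  obtain ⟨χ, hχF, hχT, hχR⟩ := exists_normalizer_hom hS F R'' R haut'' hrec'' hconj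
  have hRY : R ≤ normalizerIn S R := self_le_normalizerIn' hRS
  have hQY : Q ≤ normalizerIn S R := hQR.trans hRY
  have hχinj := F.injective_of_mem hχF
  have hT₁Y : normalizerIn (normalizerIn S Q) R ≤ normalizerIn S R :=
    fun x hx => ⟨hx.1.1, hx.2⟩
  obtain ⟨Q'', hQ''⟩ : ∃ Q'', (Q.subgroupOf (normalizerIn S R)).map χ = Q'' := ⟨_, rfl⟩
  haveI : Finite ↥(normalizerIn S R'') := finite_of_le (normalizerIn_le S R'')
  haveI : Finite ↥(normalizerIn S Q) := finite_of_le (normalizerIn_le S Q)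
  haveI : Finite ↥(normalizerIn (normalizerIn S Q) R) :=
    finite_of_le ((normalizerIn_le _ R).trans (normalizerIn_le S Q))
  have hT'' : IsPGroup p ↥(normalizerIn S R'') := isPGroup_of_le hS (normalizerIn_le S R'')
  have hT₁ : IsPGroup p ↥(normalizerIn (normalizerIn S Q) R) :=
    isPGroup_of_le hS ((normalizerIn_le _ R).trans (normalizerIn_le S Q))
  haveI : Finite ↥R'' := finite_of_le hR''S
  have hQ''R'' : Q'' ≤ R'' := by
    rw [← hQ'', ← hχR]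
    exact Subgroup.map_mono (fun z hz => hQR hz)
  have hQ''S : Q'' ≤ S := hQ''R''.trans hR''S
  haveI : Finite ↥Q'' := finite_of_le hQ''S
  have hR''T'' : R'' ≤ normalizerIn S R'' := self_le_normalizerIn' hR''S
  have hQ''T'' : Q'' ≤ normalizerIn S R'' := hQ''R''.trans hR''T''
  have hχ₁v : ∀ x : ↥(normalizerIn (normalizerIn S Q) R),
      (χ.comp (Subgroup.inclusion hT₁Y)) x ∈ normalizerIn (normalizerIn S R'') Q'' :=
    fun x => ⟨hχT _, map_mem_normalizer' χ hQ'' (z := Subgroup.inclusion hT₁Y x) x.2.1.2⟩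
  obtain ⟨χ₁, hχ₁⟩ : ∃ χ₁ : ↥(normalizerIn (normalizerIn S Q) R) →*
      ↥(normalizerIn (normalizerIn S R'') Q''), ∀ x, (χ₁ x : Ω) = χ ⟨x, hT₁Y x.2⟩ :=
    ⟨(χ.comp (Subgroup.inclusion hT₁Y)).codRestrict _ hχ₁v, fun x => rfl⟩
  have hχ₁inj : Function.Injective χ₁ := by
    intro a b hab
    have h1 : χ ⟨a, hT₁Y a.2⟩ = χ ⟨b, hT₁Y b.2⟩ := by
      rw [← hχ₁ a, ← hχ₁ b, hab]
    exact Subtype.ext (Subtype.mk.inj (hχinj h1))
  have hcard : ∀ Q₃, N''.IsConj Q'' Q₃ →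
      Nat.card ↥(normalizerIn (normalizerIn S R'') Q₃) ≤
        Nat.card ↥(normalizerIn (normalizerIn S Q) R) :=
    fun Q₃ h => card_normalizerIn_le hS F hF hQfn hQR hRT N hN hRfn χ hχF hχT hχR N'' hN''
      hQ'' h
  haveI : Finite ↥(normalizerIn (normalizerIn S R'') Q'') :=
    finite_of_le ((normalizerIn_le _ Q'').trans (normalizerIn_le S R''))
  have hχ₁bij : Function.Bijective χ₁ :=
    hχ₁inj.bijective_of_nat_card_le (hcard Q'' (isConj_refl N'' hQ''T''))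
  have hQ''fn : N''.IsFullyNormalized Q'' :=
    ⟨hQ''T'', fun Q₃ h => (hcard Q₃ h).trans (Nat.card_le_card_of_injective χ₁ hχ₁inj)⟩
  obtain ⟨N₂, hN₂⟩ := Cfsg.Agent.S5096.result N'' Q'' hQ''T''
  have hM := normalizer_isModel p hT'' N'' ι'' hL'' hQ''fn N₂ hN₂
  have hM₁ : N₁.IsModel p ↥(Subgroup.normalizer
      (((Q''.subgroupOf (normalizerIn S R'')).map ι'' : Subgroup L'') : Set L''))
      ((iotaN ι'' Q'').comp χ₁) := by
    obtain ⟨hMfin, ⟨hMinj, hMreal⟩, ⟨TM, hTM⟩, hMcent⟩ := hM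
    refine ⟨hMfin, ⟨hMinj.comp hχ₁inj, ?_⟩, ⟨TM, ?_⟩, hMcent⟩
    · intro P hP φ hφ
      have hPY : P ≤ normalizerIn S R := hP.trans hT₁Y
      obtain ⟨P'', hP''⟩ : ∃ P'', (P.subgroupOf (normalizerIn S R)).map χ = P'' := ⟨_, rfl⟩
      have hφY : ∀ x : ↥P, φ x ∈ normalizerIn S R := fun x => hT₁Y (hφ x)
      have hmemP : ∀ x : ↥P, χ ⟨x, hPY x.2⟩ ∈ P'' :=
        fun x => hP''.le ⟨⟨x, hPY x.2⟩, x.2, rfl⟩
      have hP''T₂ : P'' ≤ normalizerIn (normalizerIn S R'') Q'' := by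
        intro y hy
        obtain ⟨x, h, hxy⟩ := exists_preimage' χ hPY hP'' ⟨y, hy⟩
        have hy' : y = χ ⟨x, hPY x.2⟩ := congrArg Subtype.val hxy
        rw [hy']
        exact hχ₁v ⟨x, hP x.2⟩
      have e1 : ∀ x : ↥P, (⟨χ ⟨x, hPY x.2⟩, hP''T₂ (hmemP x)⟩ :
          ↥(normalizerIn (normalizerIn S R'') Q'')) = χ₁ ⟨x, hP x.2⟩ :=
        fun x => Subtype.ext (hχ₁ ⟨x, hP x.2⟩).symm
      rw [nn2 F hQR hRT N hN N₁ hN₁ P]
      constructor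
      · intro hφD
        obtain ⟨ω, hωF, hω⟩ := exists_transport_hom F χ hχF hPY hP'' φ hφD.1 hφY
        have hωD : ω ∈ DNHom F Q'' R'' P'' :=
          dnhom_transport F χ hχF hQR hRY hPY hQ'' hχR hP'' φ hφY ω hω hφD
        rw [← nn1 F hQ''R'' hR''S N'' hN'' N₂ hN₂ P''] at hωD
        have hωT₂ : ∀ y : ↥P'', ω y ∈ normalizerIn (normalizerIn S R'') Q'' := by
          intro y
          obtain ⟨x, h, rfl⟩ := exists_preimage' χ hPY hP'' y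
          rw [hω x h]
          exact hχ₁v ⟨φ x, hφ x⟩
        obtain ⟨g, hg⟩ := (hMreal P'' hP''T₂ ω hωT₂).mp hωD
        refine ⟨g, fun x => ?_⟩
        have h1 := hg ⟨χ ⟨x, hPY x.2⟩, hmemP x⟩
        have h2 : (⟨ω ⟨χ ⟨x, hPY x.2⟩, hmemP x⟩, hωT₂ _⟩ :
            ↥(normalizerIn (normalizerIn S R'') Q'')) = χ₁ ⟨φ x, hφ x⟩ :=
          Subtype.ext ((hω x (hmemP x)).trans (hχ₁ ⟨φ x, hφ x⟩).symm)
        show (iotaN ι'' Q'') (χ₁ ⟨φ x, hφ x⟩) =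
          g * (iotaN ι'' Q'') (χ₁ ⟨x, hP x.2⟩) * g⁻¹
        rw [← h2, ← e1 x]
        exact h1
      · rintro ⟨g, hg⟩
        have hg' : ∀ x : ↥P, (iotaN ι'' Q'') (χ₁ ⟨φ x, hφ x⟩) =
            g * (iotaN ι'' Q'') ⟨χ ⟨x, hPY x.2⟩, hP''T₂ (hmemP x)⟩ * g⁻¹ := by
          intro x
          have h1 : (iotaN ι'' Q'') (χ₁ ⟨φ x, hφ x⟩) =
            g * (iotaN ι'' Q'') (χ₁ ⟨x, hP x.2⟩) * g⁻¹ := hg x
          rw [← e1 x] at h1
          exact h1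
        have hconjmem : ∀ y : ↥P'', g * (iotaN ι'' Q'') ⟨y, hP''T₂ y.2⟩ * g⁻¹ ∈
            (iotaN ι'' Q'').range := by
          intro y
          obtain ⟨x, h, rfl⟩ := exists_preimage' χ hPY hP'' y
          exact ⟨χ₁ ⟨φ x, hφ x⟩, hg' x⟩
        obtain ⟨ω, hωT₂, hω⟩ := exists_pull_conj (iotaN ι'' Q'') hMinj hP''T₂ g hconjmem
        have hωN₂ : ω ∈ N₂.Hom P'' := (hMreal P'' hP''T₂ ω hωT₂).mpr ⟨g, hω⟩
        have hlink : ∀ (x : ↥P) (h : χ ⟨x, hPY x.2⟩ ∈ P''),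
            ω ⟨χ ⟨x, hPY x.2⟩, h⟩ = χ ⟨φ x, hφY x⟩ := by
          intro x h
          have h1 := hω ⟨χ ⟨x, hPY x.2⟩, h⟩
          have h3 : (iotaN ι'' Q'') ⟨ω ⟨χ ⟨x, hPY x.2⟩, h⟩, hωT₂ _⟩ =
              (iotaN ι'' Q'') (χ₁ ⟨φ x, hφ x⟩) := h1.trans (hg' x).symm
          have h4 := hMinj h3
          have h5 : ω ⟨χ ⟨x, hPY x.2⟩, h⟩ = (χ₁ ⟨φ x, hφ x⟩ : Ω) :=
            congrArg Subtype.val h4
          rw [h5, hχ₁]
        obtain ⟨χ', hχ'F, hχ', hχ'r, -⟩ := inv_hom F hχF (rfl : χ.range = χ.range)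
        have hR''Y'' : R'' ≤ χ.range := by
          intro r hr
          obtain ⟨z, -, hz⟩ := hχR.ge hr
          exact ⟨z, hz⟩
        have hP''Y'' : P'' ≤ χ.range := by
          intro y hy
          obtain ⟨z, -, hz⟩ := hP''.ge hy
          exact ⟨z, hz⟩
        have hωY'' : ∀ y : ↥P'', ω y ∈ χ.range := by
          intro y
          obtain ⟨t, ht⟩ := hχ₁bij.2 ⟨ω y, hωT₂ y⟩
          refine ⟨⟨t, hT₁Y t.2⟩, ?_⟩
          rw [← hχ₁ t, ht]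
        have hQ' := map_inv_eq χ χ' hχ' rfl hQY hQ''
        have hR' := map_inv_eq χ χ' hχ' rfl hRY hχR
        have hP' := map_inv_eq χ χ' hχ' rfl hPY hP''
        rw [nn1 F hQ''R'' hR''S N'' hN'' N₂ hN₂ P''] at hωN₂
        refine dnhom_transport F χ' hχ'F hQ''R'' hR''Y'' hP''Y'' hQ' hR' hP' ω hωY'' φ ?_ hωN₂
        intro y h
        obtain ⟨x, hx, rfl⟩ := exists_preimage' χ hPY hP'' y
        have h1 : χ' ⟨χ ⟨x, hPY x.2⟩, hP''Y'' hx⟩ = x := hχ' ⟨x, hPY x.2⟩ _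
        have h2 : (⟨χ' ⟨χ ⟨x, hPY x.2⟩, hP''Y'' hx⟩, h⟩ : ↥P) = x := Subtype.ext h1
        have h3 : (⟨ω ⟨χ ⟨x, hPY x.2⟩, hx⟩, hωY'' _⟩ : ↥χ.range) =
            ⟨χ ⟨φ x, hφY x⟩, ⟨_, rfl⟩⟩ := Subtype.ext (hlink x hx)
        exact (congrArg φ h2).trans
          ((hχ' ⟨φ x, hφY x⟩ ⟨_, rfl⟩).symm.trans (congrArg χ' h3.symm))
    · rw [hTM, MonoidHom.range_comp, MonoidHom.range_eq_top.mpr hχ₁bij.2,
        ← MonoidHom.range_eq_map]
  have hcon := Cfsg.Agent.Lib.Helper9.constrained_of_model p N₁ ι hL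
  obtain ⟨e, he⟩ := MU.model_unique p hT₁ N₁ hcon ι _ hL hM₁
  exact ⟨(Subgroup.subtype _).comp e.toMonoidHom, Subtype.val_injective.comp e.injective⟩

end Cfsg.Agent.Lib.Helper1.QF
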