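import Mathlib
import Cfsg.Agent.Lib.Helper1.QI3
import Cfsg.Agent.Lib.Helper1.FStab6
import Cfsg.Agent.S5098
import Cfsg.Agent.S5090
import Cfsg.Prelude.Def_FusionReduction

set_option autoImplicit false
set_option linter.style.haveILetI false
set_option linter.unusedSectionVars false
set_option linter.unusedVariables false
set_option maxHeartbeats 1000000

/-! Qd(p)-free inheritance, part 4: it suffices to test `H`-freeness at the fully normalized
centric radical subgroups (S5250). -/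

namespace Cfsg.Agent.Lib.Helper1.QF

open Cfsg Cfsg.FusionSystem Cfsg.Agent.Lib.Helper9 Cfsg.Agent.Lib.Helper1.KN
  Cfsg.Agent.Lib.Helper1.KL Cfsg.Agent.Lib.Helper1.FStab

universe u v w

theorem normalizerHom_eq_of_isNormal {Ω : Type u} [Group Ω] {T : Subgroup Ω}
    (E : FusionSystem T) {D : Subgroup Ω} (hD : E.IsNormal D)
    (hTD : normalizerIn T D = T) (P : Subgroup Ω) : E.normalizerHom D P = E.Hom P := by
  ext φ
  constructor
  · exact fun h => h.1
  · intro hφ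
    obtain ⟨hPT, hφT⟩ := E.le_of_mem hφ
    refine ⟨hφ, ?_, ?_, hD.2 P φ hφ⟩
    · rw [hTD]
      exact hPT
    · intro x
      rw [hTD]
      exact hφT x

/-- the image of the core normalizer of `Q` is normal in a model of `N_F(Q)` -/
theorem map_coreNormalizer_normal {Ω : Type u} [Group Ω] {S : Subgroup Ω} [Finite S] {p : ℕ}
    [Fact p.Prime] (hS : IsPGroup p S)
    (F : FusionSystem S) (hF : F.IsSaturated p) {Q : Subgroup Ω}
    (hQfn : F.IsFullyNormalized Q) (hQc : F.IsCentric Q)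
    (N : FusionSystem (normalizerIn S Q)) (hN : F.IsNormalizerSystem Q N)
    {L : Type v} [Group L] (ι : ↥(normalizerIn S Q) →* L) (hL : N.IsModel p L ι) :
    (((coreNormalizer p F Q).subgroupOf (normalizerIn S Q)).map ι).Normal := by
  classical
  have hQS : Q ≤ S := hQfn.1
  haveI : Finite ↥(normalizerIn S Q) := finite_of_le (normalizerIn_le S Q)
  haveI : Finite ↥Q := finite_of_le hQS
  have hT : IsPGroup p ↥(normalizerIn S Q) := isPGroup_of_le hS (normalizerIn_le S Q)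
  have hQT : Q ≤ normalizerIn S Q := self_le_normalizerIn' hQS
  have hQn : N.IsNormal Q := normal_self_of_isNormalizerSystem F hQS N hN
  have hQcN : N.IsCentric Q := centric_self_of_isNormalizerSystem F hQc N hN
  have hιQ := map_normal_of_isModel p N ι hL hQn
  have haut := fullyAutomized_of_fullyNormalized hS F hF hQfn
  have hinj : Function.Injective ι := hL.2.1.1
  have hreal := hL.2.1.2
  have hDT : coreNormalizer p F Q ≤ normalizerIn S Q := coreNormalizer_le_normalizerIn p F Q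
  have hQD : Q ≤ coreNormalizer p F Q := self_le_coreNormalizer hS F hQS
  constructor
  intro n hn g
  obtain ⟨d, hd, rfl⟩ := hn
  have hdD : (d : Ω) ∈ coreNormalizer p F Q := hd
  have hgQ : ∀ x : ↥Q, g * ι ⟨x, hQT x.2⟩ * g⁻¹ ∈ ι.range := by
    intro x
    have h1 : ι ⟨x, hQT x.2⟩ ∈ (Q.subgroupOf (normalizerIn S Q)).map ι :=
      ⟨⟨x, hQT x.2⟩, x.2, rfl⟩
    obtain ⟨y, -, hy⟩ := hιQ.conj_mem _ h1 g
    exact ⟨y, hy⟩
  obtain ⟨φ, hφT, hφ⟩ := exists_pull_conj ι hinj hQT g hgQ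
  have hφN : φ ∈ N.Hom Q := (hreal Q hQT φ hφT).mpr ⟨g, hφ⟩
  have hφF : φ ∈ F.Hom Q := by
    rw [hN Q] at hφN
    exact hφN.1
  have hφQ : ∀ x : ↥Q, φ x ∈ Q := by
    intro x
    have h1 : ι ⟨x, hQT x.2⟩ ∈ (Q.subgroupOf (normalizerIn S Q)).map ι :=
      ⟨⟨x, hQT x.2⟩, x.2, rfl⟩
    obtain ⟨y, hy, hyx⟩ := hιQ.conj_mem _ h1 g
    have h2 : y = ⟨φ x, hφT x⟩ := hinj (hyx.trans (hφ x).symm)
    have hyQ : (y : Ω) ∈ Q := hy
    rw [h2] at hyQ
    exact hyQ
  have hφinj := F.injective_of_mem hφF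
  have hr : φ.range = Q := by
    apply Subgroup.eq_of_le_of_card_ge
    · rintro _ ⟨x, rfl⟩
      exact hφQ x
    · exact (Nat.card_congr (MonoidHom.ofInjective hφinj).toEquiv).le
  obtain ⟨α, hα, hαφ⟩ := exists_aut_of_hom F hφF hr
  obtain ⟨hdS, hdN, hdO⟩ := (mem_coreNormalizer_iff p F Q d).mp hdD
  have h1 := opAut_conj_mem p F Q hα hdO
  have h2 := opAut_le_autInducedBy F haut h1
  obtain ⟨s, hsS, hs⟩ := (mem_autInducedBy_iff S Q _).mp h2
  have hsN := mem_normalizer_of_induces _ hs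
  have hsD : s ∈ coreNormalizer p F Q := by
    rw [mem_coreNormalizer_iff]
    refine ⟨hsS, hsN, ?_⟩
    have : conjAut Q ⟨s, hsN⟩ = α * conjAut Q ⟨d, hdN⟩ * α⁻¹ := by
      ext x
      rw [hs x]
      rfl
    rw [this]
    exact h1
  have hsT : s ∈ normalizerIn S Q := ⟨hsS, hsN⟩
  have hconj' : ∀ x' : ↥Q, (g * ι d * g⁻¹) * ι ⟨α x', hQT (α x').2⟩ * (g * ι d * g⁻¹)⁻¹ =
      ι ⟨s, hsT⟩ * ι ⟨α x', hQT (α x').2⟩ * (ι ⟨s, hsT⟩)⁻¹ := by
    intro x'
    have e1 : ι ⟨x', hQT x'.2⟩ = g⁻¹ * ι ⟨α x', hQT (α x').2⟩ * g := by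
      have h := hφ x'
      have h' : (⟨φ x', hφT x'⟩ : ↥(normalizerIn S Q)) = ⟨α x', hQT (α x').2⟩ :=
        Subtype.ext (hαφ x').symm
      rw [h'] at h
      rw [h]
      group
    have e2 : ι ⟨conjAut Q ⟨d, hdN⟩ x', hQT (conjAut Q ⟨d, hdN⟩ x').2⟩ =
        ι d * ι ⟨x', hQT x'.2⟩ * (ι d)⁻¹ := by
      have h' : (⟨conjAut Q ⟨d, hdN⟩ x', hQT (conjAut Q ⟨d, hdN⟩ x').2⟩ :
          ↥(normalizerIn S Q)) = d * ⟨x', hQT x'.2⟩ * d⁻¹ := Subtype.ext rfl
      rw [h', map_mul, map_mul, map_inv]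
    have e3 : ι ⟨φ (conjAut Q ⟨d, hdN⟩ x'), hφT _⟩ =
        ι ⟨s, hsT⟩ * ι ⟨α x', hQT (α x').2⟩ * (ι ⟨s, hsT⟩)⁻¹ := by
      have h' : (⟨φ (conjAut Q ⟨d, hdN⟩ x'), hφT _⟩ : ↥(normalizerIn S Q)) =
          ⟨s, hsT⟩ * ⟨α x', hQT (α x').2⟩ * ⟨s, hsT⟩⁻¹ := by
        apply Subtype.ext
        show φ (conjAut Q ⟨d, hdN⟩ x') = s * (α x' : Ω) * s⁻¹
        rw [← hαφ, ← hs (α x')]
        show ((α (conjAut Q ⟨d, hdN⟩ x') : ↥Q) : Ω) =
          ((α (conjAut Q ⟨d, hdN⟩ (α⁻¹ (α x'))) : ↥Q) : Ω)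
        rw [MulAut.inv_apply_self]
      rw [h', map_mul, map_mul, map_inv]
    have e4 := hφ (conjAut Q ⟨d, hdN⟩ x')
    rw [e3, e2, e1] at e4
    rw [e4]
    group
  have hconj : ∀ x : ↥Q, (g * ι d * g⁻¹) * ι ⟨x, hQT x.2⟩ * (g * ι d * g⁻¹)⁻¹ =
      ι ⟨s, hsT⟩ * ι ⟨x, hQT x.2⟩ * (ι ⟨s, hsT⟩)⁻¹ := by
    intro x
    have h := hconj' (α⁻¹ x)
    rw [MulAut.apply_inv_self] at h
    exact h
  have hw : ∀ q : ↥(Q.subgroupOf (normalizerIn S Q)),
      ((ι ⟨s, hsT⟩)⁻¹ * (g * ι d * g⁻¹)) * ι ↑q * ((ι ⟨s, hsT⟩)⁻¹ * (g * ι d * g⁻¹))⁻¹ =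
        ι ↑q := by
    intro q
    have hqQ : ((q : ↥(normalizerIn S Q)) : Ω) ∈ Q := q.2
    have h : (g * ι d * g⁻¹) * ι ↑q * (g * ι d * g⁻¹)⁻¹ =
        ι ⟨s, hsT⟩ * ι ↑q * (ι ⟨s, hsT⟩)⁻¹ := hconj ⟨_, hqQ⟩
    calc ((ι ⟨s, hsT⟩)⁻¹ * (g * ι d * g⁻¹)) * ι ↑q * ((ι ⟨s, hsT⟩)⁻¹ * (g * ι d * g⁻¹))⁻¹
        = (ι ⟨s, hsT⟩)⁻¹ * ((g * ι d * g⁻¹) * ι ↑q * (g * ι d * g⁻¹)⁻¹) * ι ⟨s, hsT⟩ := by
          group
      _ = (ι ⟨s, hsT⟩)⁻¹ * (ι ⟨s, hsT⟩ * ι ↑q * (ι ⟨s, hsT⟩)⁻¹) * ι ⟨s, hsT⟩ := by rw [h]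
      _ = ι ↑q := by group
  obtain ⟨z, hz⟩ := MU.centralizer_le_of_isModel p hT N ι hL hQn hQcN _ hw
  have hzQ : (((z : ↥(Q.subgroupOf (normalizerIn S Q))) : ↥(normalizerIn S Q)) : Ω) ∈ Q :=
    (z : ↥(Q.subgroupOf (normalizerIn S Q))).2
  refine ⟨⟨s, hsT⟩ * ↑↑z, ?_, ?_⟩
  · exact (coreNormalizer p F Q).mul_mem hsD (hQD hzQ)
  · rw [map_mul, ← hz]
    group

/-- S5250 for an arbitrary group `H`: `H`-freeness may be tested at the fully normalized
centric radical subgroups -/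
theorem sectionFree_of_radical {Ω : Type u} [Group Ω] {S : Subgroup Ω} [Finite S] (p : ℕ)
    [Fact p.Prime] (hS : IsPGroup p S) (F : FusionSystem S) (hF : F.IsSaturated p)
    {H : Type w} [Group H]
    (h : ∀ Q : Subgroup Ω, F.IsFullyNormalized Q → F.IsCentric Q → F.IsRadical p Q →
      ∀ N : FusionSystem (normalizerIn S Q), F.IsNormalizerSystem Q N →
      ∀ (L : Type u) [Group L] (ι : ↥(normalizerIn S Q) →* L), N.IsModel p L ι →
        ¬ Involves H L) :
    F.IsSectionFree p H := by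
  have main : ∀ n : ℕ, ∀ Q : Subgroup Ω, Nat.card ↥S - Nat.card ↥Q = n →
      F.IsFullyNormalized Q → F.IsCentric Q →
      ∀ N : FusionSystem (normalizerIn S Q), F.IsNormalizerSystem Q N →
      ∀ (L : Type u) [Group L] (ι : ↥(normalizerIn S Q) →* L), N.IsModel p L ι →
        ¬ Involves H L := by
    intro n
    induction n using Nat.strong_induction_on with
    | _ n ih =>
      intro Q hn hQfn hQc N hN L _ ι hL
      by_cases hrad : F.IsRadical p Q
      · exact h Q hQfn hQc hrad N hN L ι hL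
      · have hQS : Q ≤ S := hQfn.1
        haveI : Finite ↥(normalizerIn S Q) := finite_of_le (normalizerIn_le S Q)
        obtain ⟨D, hDdef⟩ : ∃ D, D = coreNormalizer p F Q := ⟨_, rfl⟩
        have hDne : D ≠ Q := by
          rw [hDdef]
          exact fun hD => hrad (centric_radical_of_coreNormalizer_eq hS F hF hQfn hD).2
        have hDT : D ≤ normalizerIn S Q := by
          rw [hDdef]
          exact coreNormalizer_le_normalizerIn p F Q
        have hQD : Q ≤ D := by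
          rw [hDdef]
          exact self_le_coreNormalizer hS F hQS
        have hDn : ((D.subgroupOf (normalizerIn S Q)).map ι).Normal := by
          rw [hDdef]
          exact map_coreNormalizer_normal hS F hF hQfn hQc N hN ι hL
        have hDS : D ≤ S := hDT.trans (normalizerIn_le S Q)
        haveI : Finite ↥D := finite_of_le hDS
        have hDN : N.IsNormal D := isNormal_of_map_normal N ι hL.2.1 hDT hDn
        have hTD : normalizerIn (normalizerIn S Q) D = normalizerIn S Q := by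
          apply le_antisymm (normalizerIn_le _ _)
          intro t ht
          refine ⟨ht, ?_⟩
          apply Cfsg.Agent.Lib.Helper1.KN.mem_normalizer_of_forall_conj_mem
          intro y hy
          have h1 : ι ⟨y, hDT hy⟩ ∈ (D.subgroupOf (normalizerIn S Q)).map ι :=
            ⟨⟨y, hDT hy⟩, hy, rfl⟩
          obtain ⟨z, hz, hzy⟩ := hDn.conj_mem _ h1 (ι ⟨t, ht⟩)
          have h2 : z = ⟨t, ht⟩ * ⟨y, hDT hy⟩ * ⟨t, ht⟩⁻¹ :=
            hL.2.1.1 (by rw [hzy, map_mul, map_mul, map_inv])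
          have hzD : (z : Ω) ∈ D := hz
          rw [h2] at hzD
          exact hzD
        obtain ⟨N₁, hN₁⟩ := Cfsg.Agent.S5096.result N D hDT
        have hN₁Hom : ∀ P, N₁.Hom P = N.Hom P :=
          fun P => (hN₁ P).trans (normalizerHom_eq_of_isNormal N hDN hTD P)
        have hL₁ := model_congr hTD.symm p N N₁ hN₁Hom ι hL
        have hDfn : N.IsFullyNormalized D := fullyNormalized_of_normalizerIn_eq N hDT hTD
        have hDc : F.IsCentric D := centric_of_le F hQc hQD hDS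
        obtain ⟨R'', hconj, hR''fn, hR''c, hemb⟩ :=
          exists_embedding hS F hF hQfn hQD hDT N hN hDfn hDc N₁ hN₁ _ hL₁
        have hR''S : R'' ≤ S := hR''fn.1
        obtain ⟨N'', hN''⟩ := Cfsg.Agent.S5096.result F R'' hR''S
        have hN''sat := Cfsg.Agent.S5098.result p hS F hF R'' hR''fn N'' hN''
        have hN''con : N''.IsConstrained p :=
          ⟨hN''sat, R'', normal_self_of_isNormalizerSystem F hR''S N'' hN'',
            centric_self_of_isNormalizerSystem F hR''c N'' hN''⟩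
        haveI : Finite ↥(normalizerIn S R'') := finite_of_le (normalizerIn_le S R'')
        obtain ⟨L'', _, ι'', hL''⟩ := Cfsg.Agent.S5090.result p
          (isPGroup_of_le hS (normalizerIn_le S R'')) N'' hN''con
        obtain ⟨f, hf⟩ := hemb N'' hN'' L'' ι'' hL''
        have hcardeq : Nat.card ↥D = Nat.card ↥R'' := card_eq_of_isConj F hconj
        have hcardlt : Nat.card ↥Q < Nat.card ↥D := by
          by_contra hle
          push Not at hle
          exact hDne (Subgroup.eq_of_le_of_card_ge hQD hle).symm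
        have hcardle : Nat.card ↥R'' ≤ Nat.card ↥S := Subgroup.card_le_of_le hR''S
        have hlt : Nat.card ↥S - Nat.card ↥R'' < n := by omega
        have hIH := ih _ hlt R'' rfl hR''fn hR''c N'' hN'' L'' ι'' hL''
        exact fun hinv => hIH (involves_of_injective f hf hinv)
  intro Q hQfn hQc N hN L _ ι hL
  exact main _ Q rfl hQfn hQc N hN L ι hL

end Cfsg.Agent.Lib.Helper1.QF
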