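import Mathlib
import Cfsg.Agent.Lib.Helper1.QI4
import Cfsg.Agent.S5086

set_option autoImplicit false
set_option linter.style.haveILetI false
set_option linter.unusedSectionVars false
set_option linter.unusedVariables false
set_option maxHeartbeats 1000000

/-! Qd(p)-free inheritance, part 5: normalizer systems of `H`-free systems are `H`-free
(S5240). -/

namespace Cfsg.Agent.Lib.Helper1.QF

open Cfsg Cfsg.FusionSystem Cfsg.Agent.Lib.Helper9 Cfsg.Agent.Lib.Helper1.KN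
  Cfsg.Agent.Lib.Helper1.KL Cfsg.Agent.Lib.Helper1.FStab

universe u v w

/-- a subgroup `R ≥ Q` of `N_S(Q)` centric in `N_F(Q)` is centric in `F` (`Q` fully
normalized) -/
theorem centric_of_centric_normalizer {Ω : Type u} [Group Ω] {S : Subgroup Ω} [Finite S]
    {p : ℕ} [Fact p.Prime] (hS : IsPGroup p S) (F : FusionSystem S) (hF : F.IsSaturated p)
    {Q R : Subgroup Ω} (hQfn : F.IsFullyNormalized Q) (hQR : Q ≤ R)
    (hRT : R ≤ normalizerIn S Q) (N : FusionSystem (normalizerIn S Q))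
    (hN : F.IsNormalizerSystem Q N) (hRc : N.IsCentric R) : F.IsCentric R := by
  have hRS : R ≤ S := hRT.trans (normalizerIn_le S Q)
  have hQS : Q ≤ S := hQfn.1
  haveI : Finite ↥Q := finite_of_le hQS
  haveI : Finite ↥R := finite_of_le hRS
  refine ⟨hRS, ?_⟩
  rintro R' ⟨φ, hφF, hφr⟩
  have hφinj := F.injective_of_mem hφF
  obtain ⟨Q', hQ'⟩ : ∃ Q', (Q.subgroupOf R).map φ = Q' := ⟨_, rfl⟩
  have hQ'R' : Q' ≤ R' := by
    rw [← hQ', ← hφr]
    rintro _ ⟨z, -, rfl⟩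
    exact ⟨z, rfl⟩
  have hR'S : R' ≤ S := by
    rw [← hφr]
    rintro _ ⟨z, rfl⟩
    exact hom_mem F hφF z
  have hQ'S : Q' ≤ S := hQ'R'.trans hR'S
  haveI : Finite ↥Q' := finite_of_le hQ'S
  haveI : Finite ↥R' := finite_of_le hR'S
  have hconj1 : F.IsConj Q Q' :=
    ⟨_, restrict_mem F hφF hQR, (range_restrict_eq_map hQR φ).trans hQ'⟩
  have hautQ := fullyAutomized_of_fullyNormalized hS F hF hQfn
  have hrecQ := receptive_of_fullyCentralized hS F hF
    (fullyCentralized_of_fullyNormalized hS F hF hQfn)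
  obtain ⟨ψ, hψF, hψT, hψQ⟩ := exists_normalizer_hom hS F Q Q' hautQ hrecQ
    (isConj_symm F hconj1)
  have hψinj := F.injective_of_mem hψF
  -- `φ` has values in `N_S(Q')`
  have hφv : ∀ x : ↥R, φ x ∈ normalizerIn S Q' :=
    fun x => ⟨hom_mem F hφF x, map_mem_normalizer' φ hQ' (hRT x.2).2⟩
  have hR'N : R' ≤ normalizerIn S Q' := by
    rw [← hφr]
    rintro _ ⟨z, rfl⟩
    exact hφv z
  obtain ⟨κ, hκF, hκ⟩ := comp_hom F hφF hψF hφv
  have hκinj := F.injective_of_mem hκF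
  obtain ⟨R₂, hR₂⟩ : ∃ R₂, (R'.subgroupOf (normalizerIn S Q')).map ψ = R₂ := ⟨_, rfl⟩
  have hκN : κ ∈ N.Hom R := by
    rw [hN R]
    have hle : R ⊔ Q ≤ R := sup_le le_rfl hQR
    refine ⟨hκF, hRT, fun x => by rw [hκ]; exact hψT _, κ.comp (Subgroup.inclusion hle),
      restrict_mem F hκF hle, fun x => rfl, ?_⟩
    rw [map_subgroupOf_comp_inclusion_eq hle κ le_sup_right]
    apply map_eq_of_le_inj hQR κ hκinj
    rintro _ ⟨z, hz, rfl⟩
    have hzQ : (z : Ω) ∈ Q := hz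
    rw [hκ]
    apply hψQ.le
    refine ⟨⟨φ z, hφv z⟩, ?_, rfl⟩
    show φ z ∈ Q'
    exact hQ'.le ⟨z, hzQ, rfl⟩
  have hκr : κ.range = R₂ := by
    apply le_antisymm
    · rintro _ ⟨x, rfl⟩
      rw [hκ]
      apply hR₂.le
      refine ⟨⟨φ x, hφv x⟩, ?_, rfl⟩
      show φ x ∈ R'
      exact hφr.le ⟨x, rfl⟩
    · intro y hy
      obtain ⟨z, hz, hzy⟩ := hR₂.ge hy
      have hzR' : (z : Ω) ∈ R' := hz
      obtain ⟨x, hx⟩ := hφr.ge hzR'
      refine ⟨x, ?_⟩
      rw [hκ, ← hzy]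
      exact congrArg ψ (Subtype.ext hx)
  have hcent := hRc.2 R₂ ⟨κ, hκN, hκr⟩
  -- now the centralizer
  intro c hc
  have hcN : c ∈ normalizerIn S Q' := by
    refine ⟨hc.1, ?_⟩
    apply Subgroup.centralizer_le_normalizer
    exact Subgroup.centralizer_le (fun x hx => hQ'R' hx) hc.2
  have hψc : ψ ⟨c, hcN⟩ ∈ centralizerIn (normalizerIn S Q) R₂ := by
    refine ⟨hψT _, ?_⟩
    refine Subgroup.mem_centralizer_iff.mpr ?_
    intro y hy
    obtain ⟨z, hz, hzy⟩ := hR₂.ge hy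
    have hzR' : (z : Ω) ∈ R' := hz
    have hcomm : (z : Ω) * c = c * z := (Subgroup.mem_centralizer_iff.mp hc.2) z hzR'
    have hcomm' : z * ⟨c, hcN⟩ = ⟨c, hcN⟩ * z := Subtype.ext hcomm
    rw [← hzy, ← map_mul, ← map_mul, hcomm']
  obtain ⟨z, hz, hzc⟩ := hR₂.ge (hcent hψc)
  have hzR' : (z : Ω) ∈ R' := hz
  have h1 : z = ⟨c, hcN⟩ := hψinj hzc
  rw [h1] at hzR'
  exact hzR'

/-- S5240 for an arbitrary group `H` -/
theorem normalizer_sectionFree {Ω : Type u} [Group Ω] {S : Subgroup Ω} [Finite S] (p : ℕ)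
    [Fact p.Prime] (hS : IsPGroup p S) (F : FusionSystem S) (hF : F.IsSaturated p)
    {H : Type w} [Group H] (hfree : F.IsSectionFree p H) (Q : Subgroup Ω)
    (hQ : F.IsFullyNormalized Q) (N : FusionSystem (normalizerIn S Q))
    (hN : F.IsNormalizerSystem Q N) : N.IsSectionFree p H := by
  have hQS : Q ≤ S := hQ.1
  haveI : Finite ↥(normalizerIn S Q) := finite_of_le (normalizerIn_le S Q)
  have hT : IsPGroup p ↥(normalizerIn S Q) := isPGroup_of_le hS (normalizerIn_le S Q)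
  have hNsat := Cfsg.Agent.S5098.result p hS F hF Q hQ N hN
  apply sectionFree_of_radical p hT N hNsat
  intro R hRfn hRc hRrad N₁ hN₁ L _ ι hL
  have hQn : N.IsNormal Q := normal_self_of_isNormalizerSystem F hQS N hN
  have hQR : Q ≤ R := ((Cfsg.Agent.S5086.result p hT N hNsat Q).mp hQn).2 R hRc hRrad
  have hRT : R ≤ normalizerIn S Q := hRfn.1
  have hRcF := centric_of_centric_normalizer hS F hF hQ hQR hRT N hN hRc
  obtain ⟨R'', hconj, hR''fn, hR''c, hemb⟩ :=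
    exists_embedding hS F hF hQ hQR hRT N hN hRfn hRcF N₁ hN₁ ι hL
  have hR''S : R'' ≤ S := hR''fn.1
  obtain ⟨N'', hN''⟩ := Cfsg.Agent.S5096.result F R'' hR''S
  have hN''sat := Cfsg.Agent.S5098.result p hS F hF R'' hR''fn N'' hN''
  have hN''con : N''.IsConstrained p :=
    ⟨hN''sat, R'', normal_self_of_isNormalizerSystem F hR''S N'' hN'',
      centric_self_of_isNormalizerSystem F hR''c N'' hN''⟩
  haveI : Finite ↥(normalizerIn S R'') := finite_of_le (normalizerIn_le S R'')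
  obtain ⟨L'', _, ι'', hL''⟩ := Cfsg.Agent.S5090.result p
    (isPGroup_of_le hS (normalizerIn_le S R'')) N'' hN''con
  obtain ⟨f, hf⟩ := hemb N'' hN'' L'' ι'' hL''
  have h1 := hfree R'' hR''fn hR''c N'' hN'' L'' ι'' hL''
  exact fun hinv => h1 (involves_of_injective f hf hinv)

end Cfsg.Agent.Lib.Helper1.QF
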