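import Mathlib
import Cfsg.Agent.Lib.Helper1.QI5
import Cfsg.Agent.Lib.Helper9.FactorSys5

set_option autoImplicit false
set_option linter.style.haveILetI false
set_option linter.unusedSectionVars false
set_option linter.unusedVariables false
set_option maxHeartbeats 1000000

/-! Qd(p)-free inheritance, part 7: if `L` realizes `N_F(R)` (`R` the preimage of `R'`), then
`L / ι(Q)` realizes `N_{F/Q}(R')`. -/

namespace Cfsg.Agent.Lib.Helper1.QF

open Cfsg Cfsg.FusionSystem Cfsg.Agent.Lib.Helper9 Cfsg.Agent.Lib.Helper1.KN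
  Cfsg.Agent.Lib.Helper1.KL

universe u v w

theorem exists_quotient_realization {Ω : Type u} [Group Ω] {S : Subgroup Ω} [Finite S] (p : ℕ)
    [Fact p.Prime] (F : FusionSystem S) {Q : Subgroup Ω} (hQsc : F.StronglyClosed Q)
    {Ω' : Type v} [Group Ω'] {S' : Subgroup Ω'} (θ : ↥S →* Ω') (E : FusionSystem S')
    (hE : F.IsFactorSystem Q θ E) {R' : Subgroup Ω'} (hR'S' : R' ≤ S') {R : Subgroup Ω}
    (hR : preimageAlong θ R' = R)
    (N : FusionSystem (normalizerIn S R)) (hN : F.IsNormalizerSystem R N)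
    (N' : FusionSystem (normalizerIn S' R')) (hN' : E.IsNormalizerSystem R' N')
    {L : Type w} [Group L] [Finite L] (ι : ↥(normalizerIn S R) →* L)
    (hreal : N.IsRealizedBy ι) (hsyl : ∃ T : Sylow p L, (T : Subgroup L) = ι.range)
    (hRn : ((R.subgroupOf (normalizerIn S R)).map ι).Normal) :
    ∃ (Lb : Type w) (_ : Group Lb) (_ : Finite Lb) (π : L →* Lb)
      (ιb : ↥(normalizerIn S' R') →* Lb),
      Function.Surjective π ∧ N'.IsRealizedBy ιb ∧
        (∃ T : Sylow p Lb, (T : Subgroup Lb) = ιb.range) ∧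
        ((R'.subgroupOf (normalizerIn S' R')).map ιb).Normal := by
  classical
  obtain ⟨hQS, hker, hrange, hHom⟩ := hE
  have hinj := hreal.1
  haveI : Finite ↥S' := finite_of_range_eq θ hrange
  have hRS : R ≤ S := hR ▸ preimageAlong_le θ R'
  have hQR : Q ≤ R := hR ▸ ker_le_preimageAlong θ hQS hker R'
  haveI : Finite ↥R := finite_of_le hRS
  haveI : Finite ↥R' := finite_of_le hR'S'
  have hRT : R ≤ normalizerIn S R := self_le_normalizerIn' hRS
  have hR'T' : R' ≤ normalizerIn S' R' := self_le_normalizerIn' hR'S'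
  have hTS : normalizerIn S R ≤ S := normalizerIn_le S R
  have hT'S' : normalizerIn S' R' ≤ S' := normalizerIn_le S' R'
  have memR : ∀ s : ↥S, (s : Ω) ∈ R ↔ θ s ∈ R' := by
    intro s
    rw [← hR, mem_preimageAlong]
    constructor
    · rintro ⟨_, h⟩
      exact h
    · intro h
      exact ⟨s.2, h⟩
  have memT : ∀ s : ↥S, (s : Ω) ∈ normalizerIn S R ↔ θ s ∈ normalizerIn S' R' := by
    intro s
    rw [← hR, ← preimageAlong_normalizerIn θ hrange hR'S', mem_preimageAlong]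
    constructor
    · rintro ⟨_, h⟩
      exact h
    · intro h
      exact ⟨s.2, h⟩
  have hθTv : ∀ t : ↥(normalizerIn S R),
      (θ.comp (Subgroup.inclusion hTS)) t ∈ normalizerIn S' R' :=
    fun t => (memT ⟨t, hTS t.2⟩).mp t.2
  obtain ⟨θT, hθT⟩ : ∃ θT : ↥(normalizerIn S R) →* ↥(normalizerIn S' R'),
      ∀ t, (θT t : Ω') = θ ⟨t, hTS t.2⟩ :=
    ⟨(θ.comp (Subgroup.inclusion hTS)).codRestrict _ hθTv, fun t => rfl⟩
  have hθTsurj : Function.Surjective θT := by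
    intro t'
    have h1 : (t' : Ω') ∈ θ.range := by
      rw [hrange]
      exact hT'S' t'.2
    obtain ⟨s, hs⟩ := h1
    have hsT : (s : Ω) ∈ normalizerIn S R := by
      apply (memT s).mpr
      rw [hs]
      exact t'.2
    refine ⟨⟨s, hsT⟩, Subtype.ext ?_⟩
    rw [hθT]
    exact hs
  have hθTker : ∀ t : ↥(normalizerIn S R), θT t = 1 ↔ (t : Ω) ∈ Q := by
    intro t
    rw [← hker ⟨t, hTS t.2⟩, ← hθT t]
    constructor
    · intro h
      rw [h]
      rfl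
    · intro h
      exact Subtype.ext h
  -- the image of `Q` is normal
  have hQιn : ((Q.subgroupOf (normalizerIn S R)).map ι).Normal := by
    constructor
    rintro _ ⟨q, hq, rfl⟩ g
    have hqQ : (q : Ω) ∈ Q := hq
    have hgR : ∀ r : ↥R, g * ι ⟨r, hRT r.2⟩ * g⁻¹ ∈ ι.range := by
      intro r
      obtain ⟨y, -, hy⟩ := hRn.conj_mem _ ⟨⟨r, hRT r.2⟩, r.2, rfl⟩ g
      exact ⟨y, hy⟩
    obtain ⟨φ, hφT, hφ⟩ := exists_pull_conj ι hinj hRT g hgR
    have hφN : φ ∈ N.Hom R := (hreal.2 R hRT φ hφT).mpr ⟨g, hφ⟩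
    have hφF : φ ∈ F.Hom R := by
      rw [hN R] at hφN
      exact hφN.1
    have h1 : φ ⟨q, hQR hqQ⟩ ∈ Q := map_mem_of_stronglyClosed F hQsc hφF ⟨q, hQR hqQ⟩ hqQ
    refine ⟨⟨φ ⟨q, hQR hqQ⟩, hφT _⟩, h1, ?_⟩
    rw [hφ]
  obtain ⟨K, hK⟩ : ∃ K : Subgroup L, K = (Q.subgroupOf (normalizerIn S R)).map ι := ⟨_, rfl⟩
  have hKn : K.Normal := by
    rw [hK]
    exact hQιn
  haveI := hKn
  have memK : ∀ g : L, g ∈ K ↔ ∃ q : ↥(normalizerIn S R), (q : Ω) ∈ Q ∧ ι q = g := by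
    intro g
    rw [hK]
    exact Iff.rfl
  obtain ⟨π, hπsurj, hπker⟩ : ∃ π : L →* L ⧸ K, Function.Surjective π ∧
      ∀ g, π g = 1 ↔ g ∈ K :=
    ⟨QuotientGroup.mk' K, QuotientGroup.mk'_surjective K, fun g => QuotientGroup.eq_one_iff g⟩
  have hker' : θT.ker ≤ (π.comp ι).ker := by
    intro t ht
    rw [MonoidHom.mem_ker] at ht ⊢
    have htQ : (t : Ω) ∈ Q := (hθTker t).mp ht
    exact (hπker _).mpr ((memK _).mpr ⟨t, htQ, rfl⟩)
  obtain ⟨ιb, hιb⟩ : ∃ ιb : ↥(normalizerIn S' R') →* L ⧸ K, ∀ t, ιb (θT t) = π (ι t) :=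
    ⟨MonoidHom.liftOfRightInverse θT (Function.surjInv hθTsurj)
      (Function.rightInverse_surjInv hθTsurj) ⟨π.comp ι, hker'⟩,
      fun t => MonoidHom.liftOfRightInverse_comp_apply _ _ _ _ t⟩
  have hιbinj : Function.Injective ιb := by
    rw [injective_iff_map_eq_one]
    intro t' ht'
    obtain ⟨t, rfl⟩ := hθTsurj t'
    rw [hιb, hπker] at ht'
    obtain ⟨q, hqQ, hq⟩ := (memK _).mp ht'
    have h1 : q = t := hinj hq
    rw [h1] at hqQ
    exact (hθTker t).mpr hqQ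
  have hrealb : N'.IsRealizedBy ιb := by
    refine ⟨hιbinj, ?_⟩
    intro P' hP' φ' hφ'
    have hP'S' : P' ≤ S' := hP'.trans hT'S'
    have hX'S' : P' ⊔ R' ≤ S' := sup_le hP'S' hR'S'
    have hX'T' : P' ⊔ R' ≤ normalizerIn S' R' := sup_le hP' hR'T'
    have hPS : preimageAlong θ P' ≤ S := preimageAlong_le θ P'
    have hPT : preimageAlong θ P' ≤ normalizerIn S R := by
      intro x hx
      obtain ⟨hxS, hx'⟩ := (mem_preimageAlong θ P' x).mp hx
      exact (memT ⟨x, hxS⟩).mpr (hP' hx')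
    have hXS : preimageAlong θ (P' ⊔ R') ≤ S := preimageAlong_le θ _
    have hXT : preimageAlong θ (P' ⊔ R') ≤ normalizerIn S R := by
      intro x hx
      obtain ⟨hxS, hx'⟩ := (mem_preimageAlong θ _ x).mp hx
      exact (memT ⟨x, hxS⟩).mpr (hX'T' hx')
    have hRX : R ≤ preimageAlong θ (P' ⊔ R') := by
      rw [← hR]
      exact preimageAlong_mono θ le_sup_right
    have hPX : preimageAlong θ P' ≤ preimageAlong θ (P' ⊔ R') :=
      preimageAlong_mono θ le_sup_left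
    have hPP' := map_mem_of_mem_preimageAlong θ P'
    have hXX' := map_mem_of_mem_preimageAlong θ (P' ⊔ R')
    rw [hN' P']
    constructor
    · rintro ⟨hφ'E, -, -, ψ', hψ'E, hψ'ext, hψ'R'⟩
      obtain ⟨-, ψ, hψF, hXS', hψS, hXX'', hψind⟩ := (hHom (P' ⊔ R') ψ').mp hψ'E
      have hψinj := F.injective_of_mem hψF
      have hψR : (R.subgroupOf (preimageAlong θ (P' ⊔ R'))).map ψ = R := by
        apply map_eq_of_le_inj hRX ψ hψinj
        rintro _ ⟨z, hz, rfl⟩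
        have hzR : (z : Ω) ∈ R := hz
        have h1 : θ ⟨z, hXS' z.2⟩ ∈ R' := (memR ⟨z, hXS' z.2⟩).mp hzR
        have h2 : ψ' ⟨θ ⟨z, hXS' z.2⟩, hXX'' z⟩ ∈ R' :=
          hψ'R'.le ⟨⟨θ ⟨z, hXS' z.2⟩, hXX'' z⟩, h1, rfl⟩
        rw [hψind z] at h2
        exact (memR ⟨ψ z, hψS z⟩).mpr h2
      have hψT : ∀ x, ψ x ∈ normalizerIn S R :=
        fun x => ⟨hψS x, map_mem_normalizer' ψ hψR (hXT x.2).2⟩
      have hψN : ψ ∈ N.Hom (preimageAlong θ (P' ⊔ R')) := by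
        rw [hN _]
        have hle : preimageAlong θ (P' ⊔ R') ⊔ R ≤ preimageAlong θ (P' ⊔ R') :=
          sup_le le_rfl hRX
        refine ⟨hψF, hXT, hψT, ψ.comp (Subgroup.inclusion hle), restrict_mem F hψF hle,
          fun x => rfl, ?_⟩
        rw [map_subgroupOf_comp_inclusion_eq hle ψ le_sup_right]
        exact hψR
      obtain ⟨g, hg⟩ := (hreal.2 _ hXT ψ hψT).mp hψN
      refine ⟨π g, fun x' => ?_⟩
      obtain ⟨d, hd⟩ := exists_preimage_of_mem_range θ hrange hP'S' x'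
      have hdX : (d : Ω) ∈ preimageAlong θ (P' ⊔ R') := hPX d.2
      have h1 := hg ⟨d, hdX⟩
      have e1 : (⟨x', hP' x'.2⟩ : ↥(normalizerIn S' R')) = θT ⟨d, hXT hdX⟩ :=
        Subtype.ext ((hθT _).trans hd).symm
      have e2 : (⟨φ' x', hφ' x'⟩ : ↥(normalizerIn S' R')) =
          θT ⟨ψ ⟨d, hdX⟩, hψT ⟨d, hdX⟩⟩ := by
        apply Subtype.ext
        rw [hθT]
        show φ' x' = θ ⟨ψ ⟨d, hdX⟩, hψS ⟨d, hdX⟩⟩
        rw [← hψ'ext x', ← hψind ⟨d, hdX⟩]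
        exact congrArg ψ' (Subtype.ext hd.symm)
      rw [e1, e2, hιb, hιb, h1, map_mul, map_mul, map_inv]
    · rintro ⟨gb, hgb⟩
      obtain ⟨g, rfl⟩ := hπsurj gb
      have hkey : ∀ x : ↥(preimageAlong θ P'), ∃ t : ↥(normalizerIn S R),
          ι t = g * ι ⟨x, hPT x.2⟩ * g⁻¹ ∧
            θ ⟨t, hTS t.2⟩ = φ' ⟨θ ⟨x, hPS x.2⟩, hPP' x⟩ := by
        intro x
        obtain ⟨t, ht⟩ := hθTsurj ⟨φ' ⟨θ ⟨x, hPS x.2⟩, hPP' x⟩, hφ' _⟩
        have h1 := hgb ⟨θ ⟨x, hPS x.2⟩, hPP' x⟩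
        have e1 : (⟨θ ⟨x, hPS x.2⟩, hP' (hPP' x)⟩ : ↥(normalizerIn S' R')) =
            θT ⟨x, hPT x.2⟩ := Subtype.ext (hθT ⟨x, hPT x.2⟩).symm
        have h2 : π (ι t) = π (g * ι ⟨x, hPT x.2⟩ * g⁻¹) := by
          rw [map_mul, map_mul, map_inv, ← hιb, ← hιb, ht, ← e1]
          exact h1
        have h3 : π ((ι t)⁻¹ * (g * ι ⟨x, hPT x.2⟩ * g⁻¹)) = 1 := by
          rw [map_mul, map_inv, h2, inv_mul_cancel]
        obtain ⟨q, hqQ, hq⟩ := (memK _).mp ((hπker _).mp h3)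
        refine ⟨t * q, ?_, ?_⟩
        · rw [map_mul, hq]
          group
        · have h4 : θT (t * q) = θT t := by
            rw [map_mul, (hθTker q).mpr hqQ, mul_one]
          have h5 : θ ⟨(t * q : ↥(normalizerIn S R)), hTS (t * q).2⟩ =
              ((θT (t * q) : ↥(normalizerIn S' R')) : Ω') := (hθT _).symm
          rw [h5, h4, ht]
      choose tf htf1 htf2 using hkey
      obtain ⟨φ, hφT, hφι⟩ := exists_pull_conj ι hinj hPT g (fun x => ⟨tf x, htf1 x⟩)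
      have hφS : ∀ x, φ x ∈ S := fun x => hTS (hφT x)
      have hlink : ∀ x : ↥(preimageAlong θ P'),
          θ ⟨φ x, hφS x⟩ = φ' ⟨θ ⟨x, hPS x.2⟩, hPP' x⟩ := by
        intro x
        have h1 : (⟨φ x, hφT x⟩ : ↥(normalizerIn S R)) = tf x :=
          hinj ((hφι x).trans (htf1 x).symm)
        rw [← htf2 x, ← h1]
      have hφN : φ ∈ N.Hom (preimageAlong θ P') := (hreal.2 _ hPT φ hφT).mpr ⟨g, hφι⟩
      rw [hN _] at hφN
      obtain ⟨hφF, -, -, ψ, hψF, hψext, hψR⟩ := hφN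
      have hφ'E : φ' ∈ E.Hom P' :=
        (hHom P' φ').mpr ⟨hP'S', φ, hφF, hPS, hφS, hPP', fun x => (hlink x).symm⟩
      have hXle : preimageAlong θ (P' ⊔ R') ≤ preimageAlong θ P' ⊔ R := by
        have h1 : P' ⊔ R' ≤ imageAlong θ (preimageAlong θ P' ⊔ R) := by
          apply sup_le
          · exact (imageAlong_preimageAlong θ hrange hP'S').ge.trans
              (imageAlong_mono θ le_sup_left)
          · exact (imageAlong_preimageAlong θ hrange hR'S').ge.trans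
              (imageAlong_mono θ (hR.le.trans le_sup_right))
        exact (preimageAlong_mono θ h1).trans ((preimageAlong_imageAlong_le θ hker _).trans
          (sup_le le_rfl (hQR.trans le_sup_right)))
      have hψXF : ψ.comp (Subgroup.inclusion hXle) ∈ F.Hom (preimageAlong θ (P' ⊔ R')) :=
        restrict_mem F hψF hXle
      have hψXS : ∀ x, (ψ.comp (Subgroup.inclusion hXle)) x ∈ S :=
        fun x => hom_mem F hψXF x
      have hsurj : ∀ y ∈ P' ⊔ R', ∃ x : ↥(preimageAlong θ (P' ⊔ R')), θ ⟨x, hXS x.2⟩ = y :=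
        fun y hy => exists_preimage_of_mem_range θ hrange hX'S' ⟨y, hy⟩
      have hker'' : ∀ x : ↥(preimageAlong θ (P' ⊔ R')), θ ⟨x, hXS x.2⟩ = 1 →
          θ ⟨(ψ.comp (Subgroup.inclusion hXle)) x, hψXS x⟩ = 1 := by
        intro x hx
        have h1 : (x : Ω) ∈ Q := (hker _).mp hx
        exact (hker _).mpr (map_mem_of_stronglyClosed F hQsc hψXF x h1)
      obtain ⟨ψ', hψ'def⟩ : ∃ ψ' : ↥(P' ⊔ R') →* Ω',
          ψ' = inducedHom θ hXS _ hψXS (P' ⊔ R') hXX' hsurj hker'' := ⟨_, rfl⟩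
      have hψ'app : ∀ x : ↥(preimageAlong θ (P' ⊔ R')), ψ' ⟨θ ⟨x, hXS x.2⟩, hXX' x⟩ =
          θ ⟨(ψ.comp (Subgroup.inclusion hXle)) x, hψXS x⟩ := by
        intro x
        rw [hψ'def]
        exact inducedHom_apply θ hXS _ hψXS (P' ⊔ R') hXX' hsurj hker'' x
      have hψ'E : ψ' ∈ E.Hom (P' ⊔ R') := by
        rw [hψ'def]
        exact (hHom _ _).mpr ⟨hX'S', _, hψXF,
          inducedAlong_inducedHom θ hXS _ hψXS (P' ⊔ R') hXX' hsurj hker''⟩
      refine ⟨hφ'E, hP', hφ', ψ', hψ'E, ?_, ?_⟩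
      · intro x'
        obtain ⟨d, hd⟩ := exists_preimage_of_mem_range θ hrange hP'S' x'
        have hdX : (d : Ω) ∈ preimageAlong θ (P' ⊔ R') := hPX d.2
        have e1 : Subgroup.inclusion (le_sup_left : P' ≤ P' ⊔ R') x' =
            ⟨θ ⟨(⟨d, hdX⟩ : ↥(preimageAlong θ (P' ⊔ R'))), hXS hdX⟩, hXX' ⟨d, hdX⟩⟩ :=
          Subtype.ext hd.symm
        rw [e1, hψ'app]
        have e2 : (ψ.comp (Subgroup.inclusion hXle)) ⟨d, hdX⟩ = φ d := hψext d
        have e2' : (⟨(ψ.comp (Subgroup.inclusion hXle)) ⟨d, hdX⟩, hψXS ⟨d, hdX⟩⟩ : ↥S) =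
            ⟨φ d, hφS d⟩ := Subtype.ext e2
        have e3 : x' = ⟨θ ⟨d, hPS d.2⟩, hPP' d⟩ := Subtype.ext hd.symm
        exact (congrArg θ e2').trans ((hlink d).trans (congrArg φ' e3.symm))
      · apply map_eq_of_le_inj le_sup_right ψ' (E.injective_of_mem hψ'E)
        rintro _ ⟨y, hy, rfl⟩
        have hyR' : (y : Ω') ∈ R' := hy
        obtain ⟨r, hr⟩ := exists_preimage_of_mem_range θ hrange hR'S' ⟨y, hyR'⟩
        have hrR : (r : Ω) ∈ R := hR.le r.2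
        have hrX : (r : Ω) ∈ preimageAlong θ (P' ⊔ R') := hRX hrR
        have e1 : y = ⟨θ ⟨(⟨r, hrX⟩ : ↥(preimageAlong θ (P' ⊔ R'))), hXS hrX⟩,
            hXX' ⟨r, hrX⟩⟩ := Subtype.ext hr.symm
        rw [e1, hψ'app]
        apply (memR _).mp
        show (ψ.comp (Subgroup.inclusion hXle)) ⟨r, hrX⟩ ∈ R
        exact hψR.le ⟨Subgroup.inclusion hXle ⟨r, hrX⟩, hrR, rfl⟩
  have hrangeb : ιb.range = (ι.range).map π := by
    apply le_antisymm
    · rintro _ ⟨t', rfl⟩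
      obtain ⟨t, rfl⟩ := hθTsurj t'
      rw [hιb]
      exact ⟨ι t, ⟨t, rfl⟩, rfl⟩
    · rintro _ ⟨_, ⟨t, rfl⟩, rfl⟩
      exact ⟨θT t, hιb t⟩
  obtain ⟨TL, hTL⟩ := hsyl
  have hsylb : ∃ T : Sylow p (L ⧸ K), (T : Subgroup (L ⧸ K)) = ιb.range :=
    ⟨TL.mapSurjective hπsurj, by rw [Sylow.coe_mapSurjective, hTL, hrangeb]⟩
  have hnb : ((R'.subgroupOf (normalizerIn S' R')).map ιb).Normal := by
    have h1 : (R'.subgroupOf (normalizerIn S' R')).map ιb =
        ((R.subgroupOf (normalizerIn S R)).map ι).map π := by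
      apply le_antisymm
      · rintro _ ⟨t', ht', rfl⟩
        obtain ⟨t, rfl⟩ := hθTsurj t'
        have h2 : ((θT t : ↥(normalizerIn S' R')) : Ω') ∈ R' := ht'
        rw [hθT] at h2
        have h3 : (t : Ω) ∈ R := (memR ⟨t, hTS t.2⟩).mpr h2
        rw [hιb]
        exact ⟨ι t, ⟨t, h3, rfl⟩, rfl⟩
      · rintro _ ⟨_, ⟨t, ht, rfl⟩, rfl⟩
        have htR : (t : Ω) ∈ R := ht
        refine ⟨θT t, ?_, hιb t⟩
        show ((θT t : ↥(normalizerIn S' R')) : Ω') ∈ R'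
        rw [hθT]
        exact (memR ⟨t, hTS t.2⟩).mp htR
    rw [h1]
    exact hRn.map π hπsurj
  exact ⟨L ⧸ K, inferInstance, inferInstance, π, ιb, hπsurj, hrealb, hsylb, hnb⟩

end Cfsg.Agent.Lib.Helper1.QF
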