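import Mathlib
import Cfsg.Agent.Lib.Helper1.QI6
import Cfsg.Agent.Lib.Helper1.QI7
import Cfsg.Agent.Lib.Helper9.NormalCrit

set_option autoImplicit false
set_option linter.style.haveILetI false
set_option linter.unusedSectionVars false
set_option linter.unusedVariables false
set_option maxHeartbeats 1000000

/-! Qd(p)-free inheritance, part 8: factor systems of `H`-free systems by normal subgroups are
`H`-free (S5241). -/

namespace Cfsg.Agent.Lib.Helper1.QF

open Cfsg Cfsg.FusionSystem Cfsg.Agent.Lib.Helper9 Cfsg.Agent.Lib.Helper1.KN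
  Cfsg.Agent.Lib.Helper1.KL

universe u v w

theorem centric_preimageAlong {Ω : Type u} [Group Ω] {S : Subgroup Ω} [Finite S]
    (F : FusionSystem S) {Q : Subgroup Ω} (hQsc : F.StronglyClosed Q) {Ω' : Type v} [Group Ω']
    {S' : Subgroup Ω'} (θ : ↥S →* Ω') (E : FusionSystem S') (hE : F.IsFactorSystem Q θ E)
    {R' : Subgroup Ω'} (hR'c : E.IsCentric R') : F.IsCentric (preimageAlong θ R') := by
  refine ⟨preimageAlong_le θ R', fun R₁ hconj => ?_⟩
  obtain ⟨hconj', hpre⟩ := isConj_imageAlong_of_isConj F hQsc θ E hE hR'c.1 hconj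
  have hcent := hR'c.2 _ hconj'
  obtain ⟨hQS, hker, hrange, hHom⟩ := hE
  intro c hc
  apply hpre.le
  rw [mem_preimageAlong]
  refine ⟨hc.1, hcent ⟨?_, ?_⟩⟩
  · rw [← hrange]
    exact ⟨_, rfl⟩
  · refine Subgroup.mem_centralizer_iff.mpr ?_
    intro y hy
    obtain ⟨x, hxS, hxR₁, rfl⟩ := (mem_imageAlong θ R₁ y).mp hy
    have hcomm : x * c = c * x := (Subgroup.mem_centralizer_iff.mp hc.2) x hxR₁
    have h1 : (⟨x, hxS⟩ : ↥S) * ⟨c, hc.1⟩ = ⟨c, hc.1⟩ * ⟨x, hxS⟩ := Subtype.ext hcomm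
    rw [← map_mul, ← map_mul, h1]

/-- S5241 for an arbitrary group `H` -/
theorem factor_sectionFree {Ω : Type u} [Group Ω] {S : Subgroup Ω} [Finite S] (p : ℕ)
    [Fact p.Prime] (hS : IsPGroup p S) (F : FusionSystem S) (hF : F.IsSaturated p)
    (Q : Subgroup Ω) (hQ : F.IsNormal Q) {H : Type w} [Group H]
    (hfree : F.IsSectionFree p H) {Ω' : Type v} [Group Ω'] {S' : Subgroup Ω'}
    (θ : ↥S →* Ω') (E : FusionSystem S') (hE : F.IsFactorSystem Q θ E) :
    E.IsSectionFree p H := by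
  intro R' hR'fn hR'c N' hN' L' _ ι' hL'
  have hQsc : F.StronglyClosed Q := stronglyClosed_of_normal F hQ
  have hR'S' : R' ≤ S' := hR'fn.1
  have hrange := hE.2.2.1
  haveI : Finite ↥S' := finite_of_range_eq θ hrange
  have hS' : IsPGroup p ↥S' := isPGroup_of_range_eq hS θ hrange
  have hRfn : F.IsFullyNormalized (preimageAlong θ R') :=
    fullyNormalized_preimageAlong F hQsc θ E hE hR'fn
  have hRc : F.IsCentric (preimageAlong θ R') := centric_preimageAlong F hQsc θ E hE hR'c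
  have hRS : preimageAlong θ R' ≤ S := preimageAlong_le θ R'
  obtain ⟨N, hN⟩ := Cfsg.Agent.S5096.result F _ hRS
  have hNsat := Cfsg.Agent.S5098.result p hS F hF _ hRfn N hN
  have hRnN : N.IsNormal (preimageAlong θ R') := normal_self_of_isNormalizerSystem F hRS N hN
  have hNcon : N.IsConstrained p :=
    ⟨hNsat, _, hRnN, centric_self_of_isNormalizerSystem F hRc N hN⟩
  haveI : Finite ↥(normalizerIn S (preimageAlong θ R')) := finite_of_le (normalizerIn_le S _)
  obtain ⟨L, _, ι, hL⟩ := Cfsg.Agent.S5090.result p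
    (isPGroup_of_le hS (normalizerIn_le S _)) N hNcon
  have hfreeL := hfree _ hRfn hRc N hN L ι hL
  haveI : Finite L := hL.1
  obtain ⟨Lb, _, _, π, ιb, hπ, hrealb, hsylb, hnb⟩ :=
    exists_quotient_realization p F hQsc θ E hE hR'S' rfl N hN N' hN' ι hL.2.1 hL.2.2.1
      (map_normal_of_isModel p N ι hL hRnN)
  haveI : Finite ↥(normalizerIn S' R') := finite_of_le (normalizerIn_le S' R')
  have hT' : IsPGroup p ↥(normalizerIn S' R') := isPGroup_of_le hS' (normalizerIn_le S' R')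
  have hR'n : N'.IsNormal R' := normal_self_of_isNormalizerSystem E hR'S' N' hN'
  have hR'cN : N'.IsCentric R' := centric_self_of_isNormalizerSystem E hR'c N' hN'
  obtain ⟨f, hfsurj, -⟩ := MU.exists_surjective_hom_to_model p hT' N' hR'n hR'cN ιb ι'
    hrealb hsylb hnb hL'
  intro hinv
  apply hfreeL
  exact Cfsg.Agent.Lib.Helper2.Inv.involves_of_surjective_hom (⊤ : Subgroup L)
    ((f.comp π).comp (Subgroup.topEquiv : ↥(⊤ : Subgroup L) ≃* L).toMonoidHom)
    ((hfsurj.comp hπ).comp (Subgroup.topEquiv : ↥(⊤ : Subgroup L) ≃* L).surjective) hinv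

end Cfsg.Agent.Lib.Helper1.QF
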