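import Mathlib
import Cfsg.Agent.Lib.Helper1.QI8
import Cfsg.Agent.Lib.Helper1.KL6
import Cfsg.Agent.Lib.Helper9.Solvable6
import Cfsg.Agent.Lib.Helper9.AlperinCor
import Cfsg.Agent.S5096

set_option autoImplicit false
set_option linter.style.haveILetI false
set_option linter.unusedSectionVars false
set_option linter.unusedVariables false
set_option maxHeartbeats 1000000

/-! Glauberman functors on fusion systems: the local-to-global principle. -/

namespace Cfsg.Agent.Lib.Helper1.GF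

open Cfsg Cfsg.FusionSystem Cfsg.Agent.Lib.Helper9 Cfsg.Agent.Lib.Helper1.KN
  Cfsg.Agent.Lib.Helper1.KL Cfsg.Agent.Lib.Helper1.QF

variable {Ω : Type*} [Group Ω] {S : Subgroup Ω}

/-- a map of `F` on an overgroup of `R` inside `N_S(R)` carrying `R` onto `R` is a map of the
normalizer system -/
theorem mem_normalizerHom_of_map_eq [Finite S] (F : FusionSystem S) {R Y : Subgroup Ω}
    (hRY : R ≤ Y) (hYN : Y ≤ normalizerIn S R) {φ : ↥Y →* Ω} (hφ : φ ∈ F.Hom Y)
    (hφR : (R.subgroupOf Y).map φ = R) : φ ∈ F.normalizerHom R Y := by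
  have hYS : Y ≤ S := hYN.trans (normalizerIn_le S R)
  have hle : Y ⊔ R ≤ Y := _root_.sup_le le_rfl hRY
  haveI : Finite R := finite_of_le (hRY.trans hYS)
  have hn : ∀ y : ↥Y, φ y ∈ Subgroup.normalizer (R : Set Ω) := by
    intro y
    apply KN.mem_normalizer_of_forall_conj_mem
    intro x hx
    obtain ⟨r, hr, hrx⟩ := hφR.ge hx
    have hrR : (r : Ω) ∈ R := hr
    have hyn : (y : Ω) ∈ Subgroup.normalizer (R : Set Ω) := (hYN y.2).2
    have h1 : (y : Ω) * r * (y : Ω)⁻¹ ∈ R := (Subgroup.mem_normalizer_iff.mp hyn r).mp hrR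
    have h2 : φ y * x * (φ y)⁻¹ = φ (y * r * y⁻¹) := by
      rw [map_mul, map_mul, map_inv, hrx]
    rw [h2]
    have h3 : y * r * y⁻¹ ∈ R.subgroupOf Y := by
      rw [Subgroup.mem_subgroupOf]
      simpa using h1
    exact hφR.le ⟨y * r * y⁻¹, h3, rfl⟩
  refine ⟨hφ, hYN, fun y => ⟨(F.le_of_mem hφ).2 y, hn y⟩,
    φ.comp (Subgroup.inclusion hle), restrict_mem F hφ hle, fun x => rfl, ?_⟩
  rw [map_subgroupOf_comp_inclusion_eq hle _ le_sup_right]
  exact hφR

/-- Alperin's fusion theorem in inductive form: to show `F ≤ E` it suffices to show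
`Aut_F(Q) ≤ Aut_E(Q)` for fully normalized `Q`, assuming all maps of `F` on larger subgroups are
already in `E`. -/
theorem alperin_ind [Finite S] (p : ℕ) [Fact p.Prime] (hS : IsPGroup p S)
    (F : FusionSystem S) (hF : F.IsSaturated p) (E : FusionSystem S)
    (hE : ∀ Q : Subgroup Ω, F.IsFullyNormalized Q →
      (∀ P₁ : Subgroup Ω, P₁ ≤ S → Nat.card Q < Nat.card P₁ → F.Hom P₁ ⊆ E.Hom P₁) →
      F.autGroup Q ≤ E.autGroup Q) :
    ∀ (n : ℕ) (P : Subgroup Ω), P ≤ S → Nat.card S - Nat.card P = n → F.Hom P ⊆ E.Hom P := by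
  intro n
  induction n using Nat.strong_induction_on with
  | _ n ih =>
    intro P hPS hn φ hφ
    have hIH : ∀ P₁ : Subgroup Ω, P₁ ≤ S → Nat.card P < Nat.card P₁ → F.Hom P₁ ⊆ E.Hom P₁ := by
      intro P₁ hP₁ hlt
      have hle : Nat.card P₁ ≤ Nat.card S := Subgroup.card_le_of_le hP₁
      exact ih (Nat.card S - Nat.card P₁) (by omega) P₁ hP₁ rfl
    by_cases hPeq : P = S
    · subst hPeq
      have hr : φ.range = P := by
        apply Subgroup.eq_of_le_of_card_ge (range_le F hφ)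
        exact (Nat.card_congr (MonoidHom.ofInjective (F.injective_of_mem hφ)).toEquiv).le
      obtain ⟨α, hα, hαφ⟩ := exists_aut_of_hom F hφ hr
      have hαE := hE P (fullyNormalized_top F) hIH hα
      have h1 := hom_of_mem_autGroup E le_rfl hαE
      have h2 : P.subtype.comp α.toMonoidHom = φ := by
        ext x
        exact hαφ x
      rw [← h2]
      exact h1
    · have hlt : P < S := lt_of_le_of_ne hPS hPeq
      obtain ⟨Q, hPQ, hQn⟩ := exists_isConj_fullyNormalized F hPS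
      have hQa := fullyAutomized_of_fullyNormalized hS F hF hQn
      have hQr := receptive_of_fullyCentralized hS F hF
        (fullyCentralized_of_fullyNormalized hS F hF hQn)
      have hPP' : F.IsConj P φ.range := ⟨φ, hφ, rfl⟩
      have hP'Q : F.IsConj φ.range Q := isConj_trans F (isConj_symm F hPP') hPQ
      have hP'S : φ.range ≤ S := range_le F hφ
      obtain ⟨χ, hχ, -, hχQ⟩ := exists_normalizer_hom hS F Q P hQa hQr hPQ
      obtain ⟨χ', hχ', -, hχ'Q⟩ := exists_normalizer_hom hS F Q φ.range hQa hQr hP'Q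
      have hcP' : Nat.card φ.range = Nat.card P := (card_eq_of_isConj F hPP').symm
      have hcQ : Nat.card Q = Nat.card P := (card_eq_of_isConj F hPQ).symm
      have hcS : Nat.card P < Nat.card S := card_lt_of_lt' hlt
      have hP'lt : φ.range < S := lt_of_card_lt' hP'S (hcP' ▸ hcS)
      have hN : ∀ R : Subgroup Ω, R < S → Nat.card R < Nat.card (normalizerIn S R) := by
        intro R hR
        have := finite_normalizerIn (S := S) R
        obtain ⟨g, hg, hgR⟩ := exists_mem_normalizerIn_not_mem hS hR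
        apply card_lt_of_lt'
        exact lt_of_le_of_ne (self_le_normalizerIn' hR.le) (fun h => hgR (h ▸ hg))
      have hχE : χ ∈ E.Hom (normalizerIn S P) := hIH _ inf_le_left (hN P hlt) hχ
      have hχ'E : χ' ∈ E.Hom (normalizerIn S φ.range) :=
        hIH _ inf_le_left (hcP' ▸ hN φ.range hP'lt) hχ'
      have hPN : P ≤ normalizerIn S P := self_le_normalizerIn' hPS
      have hP'N : φ.range ≤ normalizerIn S φ.range := self_le_normalizerIn' hP'S
      have hAut : F.autGroup Q ≤ E.autGroup Q :=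
        hE Q hQn (fun P₁ hP₁ hlt₁ => hIH P₁ hP₁ (lt_of_eq_of_lt hcQ.symm hlt₁))
      exact hom_of_factor F E hφ rfl (restrict_mem F hχ hPN) (restrict_mem E hχE hPN)
        ((range_comp_inclusion hPN χ).trans hχQ)
        (restrict_mem F hχ' hP'N) (restrict_mem E hχ'E hP'N)
        ((range_comp_inclusion hP'N χ').trans hχ'Q) hAut

/-- a subgroup normalizing `T` normalizes the image of `T` under a functor compatible with
isomorphisms -/
theorem normalizerIn_le_of_char [Finite S] (Wf : Subgroup Ω → Subgroup Ω)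
    (hW1 : ∀ T, Wf T ≤ T)
    (hW3 : ∀ (T T' : Subgroup Ω) (φ : ↥T →* Ω), T ≤ S → Function.Injective φ → φ.range = T' →
      ((Wf T).subgroupOf T).map φ = Wf T') {T : Subgroup Ω} (hTS : T ≤ S) :
    normalizerIn S T ≤ normalizerIn S (Wf T) := by
  intro g hg
  have hgn : g ∈ Subgroup.normalizer (T : Set Ω) := hg.2
  suffices hsuff : g ∈ Subgroup.normalizer ((Wf T : Subgroup Ω) : Set Ω) from ⟨hg.1, hsuff⟩
  have hinj : Function.Injective (conjHom T g) := by
    intro a b hab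
    have h : g * (a : Ω) * g⁻¹ = g * (b : Ω) * g⁻¹ := hab
    exact Subtype.ext (mul_left_cancel (mul_right_cancel h))
  have hr : (conjHom T g).range = T := by
    ext x
    constructor
    · rintro ⟨y, rfl⟩
      exact (Subgroup.mem_normalizer_iff.mp hgn y).mp y.2
    · intro hx
      have hgn' : g⁻¹ ∈ Subgroup.normalizer (T : Set Ω) := Subgroup.inv_mem _ hgn
      have h1 : g⁻¹ * x * g⁻¹⁻¹ ∈ T := (Subgroup.mem_normalizer_iff.mp hgn' x).mp hx
      refine ⟨⟨g⁻¹ * x * g⁻¹⁻¹, h1⟩, ?_⟩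
      show g * (g⁻¹ * x * g⁻¹⁻¹) * g⁻¹ = x
      group
  have h3 := hW3 T T (conjHom T g) hTS hinj hr
  haveI : Finite (Wf T) := finite_of_le ((hW1 T).trans hTS)
  apply KN.mem_normalizer_of_forall_conj_mem
  intro x hx
  have hxT : x ∈ T := hW1 T hx
  have h4 : (⟨x, hxT⟩ : ↥T) ∈ (Wf T).subgroupOf T := by
    rw [Subgroup.mem_subgroupOf]
    exact hx
  exact h3.le ⟨⟨x, hxT⟩, h4, rfl⟩

theorem normalizerIn_W_top [Finite S] (Wf : Subgroup Ω → Subgroup Ω)
    (hW1 : ∀ T, Wf T ≤ T)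
    (hW3 : ∀ (T T' : Subgroup Ω) (φ : ↥T →* Ω), T ≤ S → Function.Injective φ → φ.range = T' →
      ((Wf T).subgroupOf T).map φ = Wf T') : normalizerIn S (Wf S) = S :=
  le_antisymm (normalizerIn_le S _)
    (fun s hs => normalizerIn_le_of_char Wf hW1 hW3 le_rfl (self_le_normalizerIn' le_rfl hs))

/-- the climbing lemma -/
theorem climb [Finite S] {p : ℕ} [Fact p.Prime] (hS : IsPGroup p S)
    (F : FusionSystem S) (hF : F.IsSaturated p) (Wf : Subgroup Ω → Subgroup Ω)
    (hW1 : ∀ T, Wf T ≤ T)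
    (hW2 : ∀ T, T ≤ S → T ≠ ⊥ → Wf T ≠ ⊥)
    (hW3 : ∀ (T T' : Subgroup Ω) (φ : ↥T →* Ω), T ≤ S → Function.Injective φ → φ.range = T' →
      ((Wf T).subgroupOf T).map φ = Wf T')
    (hH : ∀ Q : Subgroup Ω, F.IsFullyNormalized Q → Q ≠ ⊥ →
      ∀ N : FusionSystem (normalizerIn S Q), F.IsNormalizerSystem Q N →
        N.IsNormal (Wf (normalizerIn S Q)))
    (E : FusionSystem S) (hE : ∀ P, E.Hom P = F.normalizerHom (Wf S) P)
    (c : ℕ) (hIH : ∀ P₁ : Subgroup Ω, P₁ ≤ S → c < Nat.card P₁ → F.Hom P₁ ⊆ E.Hom P₁) :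
    ∀ (d : ℕ) (V : Subgroup Ω), F.IsFullyNormalized V → V ≠ ⊥ →
      c ≤ Nat.card (normalizerIn S V) → Nat.card S - Nat.card (normalizerIn S V) ≤ d →
      ∀ (B : Subgroup Ω) (ω : ↥B →* Ω), V ≤ B → B ≤ normalizerIn S V → ω ∈ F.Hom B →
        (V.subgroupOf B).map ω = V → ω ∈ E.Hom B := by
  have hWS : normalizerIn S (Wf S) = S := normalizerIn_W_top Wf hW1 hW3
  intro d
  induction d using Nat.strong_induction_on with
  | _ d ih =>
    intro V hVn hV1 hcV hd B ω hVB hBN hω hωV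
    have hVS : V ≤ S := hVn.1
    haveI hfinT : Finite (normalizerIn S V) := finite_normalizerIn (S := S) V
    have hT'S : normalizerIn S V ≤ S := normalizerIn_le S V
    have hVT' : V ≤ normalizerIn S V := self_le_normalizerIn' hVS
    obtain ⟨N, hN⟩ := Cfsg.Agent.S5096.result F V hVS
    obtain ⟨V₂, hV₂def⟩ : ∃ V₂, V₂ = Wf (normalizerIn S V) := ⟨_, rfl⟩
    have hNn : N.IsNormal V₂ := by
      rw [hV₂def]
      exact hH V hVn hV1 N hN
    have hωN : ω ∈ N.Hom B := by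
      rw [hN B]
      exact mem_normalizerHom_of_map_eq F hVB hBN hω hωV
    obtain ⟨ψ, hψN, hψext, hψW⟩ := hNn.2 B ω hωN
    have hψ' := hψN
    rw [hN (B ⊔ V₂)] at hψ'
    have hψF : ψ ∈ F.Hom (B ⊔ V₂) := hψ'.1
    have hB₂N : B ⊔ V₂ ≤ normalizerIn S V := hψ'.2.1
    have hψT' : ∀ x, ψ x ∈ normalizerIn S V := hψ'.2.2.1
    have hV₂1 : V₂ ≠ ⊥ := by
      rw [hV₂def]
      exact hW2 _ hT'S (fun h => hV1 (le_bot_iff.mp (hVT'.trans h.le)))
    suffices hψE : ψ ∈ E.Hom (B ⊔ V₂) by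
      have h1 := restrict_mem E hψE (le_sup_left : B ≤ B ⊔ V₂)
      have h2 : ψ.comp (Subgroup.inclusion le_sup_left) = ω := by
        ext x
        exact hψext x
      rw [← h2]
      exact h1
    by_cases hTS : normalizerIn S V = S
    · have hV₂S' : V₂ = Wf S := hV₂def.trans (congrArg Wf hTS)
      subst hV₂S'
      rw [hE]
      have hle : B ⊔ Wf S ≤ normalizerIn S (Wf S) := by
        rw [hWS]
        exact hom_le F hψF
      exact mem_normalizerHom_of_map_eq F le_sup_right hle hψF hψW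
    · have hT'lt : normalizerIn S V < S := lt_of_le_of_ne hT'S hTS
      have hV₂T' : V₂ ≤ normalizerIn S V := by
        rw [hV₂def]
        exact hW1 _
      have hV₂S : V₂ ≤ S := hV₂T'.trans hT'S
      have hNN : normalizerIn S (normalizerIn S V) ≤ normalizerIn S V₂ := by
        rw [hV₂def]
        exact normalizerIn_le_of_char Wf hW1 hW3 hT'S
      obtain ⟨g, hg, hgT⟩ := exists_mem_normalizerIn_not_mem hS hT'lt
      have hlt1 : Nat.card (normalizerIn S V) < Nat.card (normalizerIn S (normalizerIn S V)) := by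
        haveI := finite_normalizerIn (S := S) (normalizerIn S V)
        apply card_lt_of_lt'
        exact lt_of_le_of_ne (self_le_normalizerIn' hT'S) (fun h => hgT (h ▸ hg))
      haveI := finite_normalizerIn (S := S) V₂
      have hle2 : Nat.card (normalizerIn S (normalizerIn S V)) ≤ Nat.card (normalizerIn S V₂) :=
        Subgroup.card_le_of_le hNN
      obtain ⟨V₃, hV₂₃, hV₃n⟩ := exists_isConj_fullyNormalized F hV₂S
      have hV₃a := fullyAutomized_of_fullyNormalized hS F hF hV₃n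
      have hV₃r := receptive_of_fullyCentralized hS F hF
        (fullyCentralized_of_fullyNormalized hS F hF hV₃n)
      obtain ⟨χ, hχ, hχN, hχV⟩ := exists_normalizer_hom hS F V₃ V₂ hV₃a hV₃r hV₂₃
      have hχE : χ ∈ E.Hom (normalizerIn S V₂) :=
        hIH _ (normalizerIn_le S V₂) (by omega) hχ
      have hT'NV₂ : normalizerIn S V ≤ normalizerIn S V₂ :=
        (self_le_normalizerIn' hT'S).trans hNN
      have hB₂N₂ : B ⊔ V₂ ≤ normalizerIn S V₂ := hB₂N.trans hT'NV₂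
      have hψval : ∀ x, ψ x ∈ normalizerIn S V₂ := fun x => hT'NV₂ (hψT' x)
      obtain ⟨B₃, hB₃⟩ : ∃ B₃, ((B ⊔ V₂).subgroupOf (normalizerIn S V₂)).map χ = B₃ := ⟨_, rfl⟩
      obtain ⟨ω₃, hω₃F, hω₃⟩ := exists_transport_hom F χ hχ hB₂N₂ hB₃ ψ hψF hψval
      have hV₃B₃ : V₃ ≤ B₃ := by
        intro y hy
        obtain ⟨x, hx, rfl⟩ := hχV.ge hy
        have hx' : (x : Ω) ∈ V₂ := hx
        have hx'' : x ∈ (B ⊔ V₂).subgroupOf (normalizerIn S V₂) := by
          rw [Subgroup.mem_subgroupOf]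
          exact (le_sup_right : V₂ ≤ B ⊔ V₂) hx'
        exact hB₃.le ⟨x, hx'', rfl⟩
      have hB₃N : B₃ ≤ normalizerIn S V₃ := by
        intro y hy
        obtain ⟨x, hx, rfl⟩ := hB₃.ge hy
        exact hχN x
      haveI : Finite V₃ := finite_of_le hV₃n.1
      have hω₃V : (V₃.subgroupOf B₃).map ω₃ = V₃ := by
        apply map_eq_of_forall_mem ω₃ (F.injective_of_mem hω₃F) hV₃B₃
        intro y hy
        obtain ⟨v, hv, hvy⟩ := hχV.ge hy
        have hv' : (v : Ω) ∈ V₂ := hv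
        have hvB : (v : Ω) ∈ B ⊔ V₂ := (le_sup_right : V₂ ≤ B ⊔ V₂) hv'
        have hmem : χ ⟨((⟨(v : Ω), hvB⟩ : ↥(B ⊔ V₂)) : Ω), hB₂N₂ hvB⟩ ∈ B₃ := by
          have : χ ⟨((⟨(v : Ω), hvB⟩ : ↥(B ⊔ V₂)) : Ω), hB₂N₂ hvB⟩ = χ v := rfl
          rw [this, hvy]
          exact y.2
        have hy' : y = ⟨χ ⟨((⟨(v : Ω), hvB⟩ : ↥(B ⊔ V₂)) : Ω), hB₂N₂ hvB⟩, hmem⟩ :=
          Subtype.ext hvy.symm
        rw [hy', hω₃ ⟨(v : Ω), hvB⟩ hmem]
        have hψv : ψ ⟨(v : Ω), hvB⟩ ∈ V₂ := by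
          have h5 : (⟨(v : Ω), hvB⟩ : ↥(B ⊔ V₂)) ∈ V₂.subgroupOf (B ⊔ V₂) := by
            rw [Subgroup.mem_subgroupOf]
            exact hv'
          exact hψW.le ⟨_, h5, rfl⟩
        have h6 : (⟨ψ ⟨(v : Ω), hvB⟩, hψval _⟩ : ↥(normalizerIn S V₂)) ∈
            V₂.subgroupOf (normalizerIn S V₂) := by
          rw [Subgroup.mem_subgroupOf]
          exact hψv
        exact hχV.le ⟨_, h6, rfl⟩
      have hV₃1 : V₃ ≠ ⊥ := by
        intro h
        apply hV₂1
        apply Subgroup.eq_bot_of_card_eq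
        rw [card_eq_of_isConj F hV₂₃, h]
        exact Subgroup.card_bot
      have hle3 : Nat.card (normalizerIn S V₂) ≤ Nat.card (normalizerIn S V₃) :=
        hV₃n.2 V₂ (isConj_symm F hV₂₃)
      have hle4 : Nat.card (normalizerIn S V₃) ≤ Nat.card S :=
        Subgroup.card_le_of_le (normalizerIn_le S V₃)
      have hle5 : Nat.card (normalizerIn S V) ≤ Nat.card S :=
        Subgroup.card_le_of_le hT'S
      have hω₃E : ω₃ ∈ E.Hom B₃ :=
        ih (d - 1) (by omega) V₃ hV₃n hV₃1 (by omega) (by omega) B₃ ω₃ hV₃B₃ hB₃N hω₃F hω₃V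
      obtain ⟨θ, hθ, hθχ, -, -⟩ := inv_hom E hχE rfl
      have hχB : χ.comp (Subgroup.inclusion hB₂N₂) ∈ E.Hom (B ⊔ V₂) := restrict_mem E hχE hB₂N₂
      have h1 : ∀ x : ↥(B ⊔ V₂), (χ.comp (Subgroup.inclusion hB₂N₂)) x ∈ B₃ := by
        intro x
        have hx : Subgroup.inclusion hB₂N₂ x ∈ (B ⊔ V₂).subgroupOf (normalizerIn S V₂) := by
          rw [Subgroup.mem_subgroupOf]
          exact x.2
        exact hB₃.le ⟨_, hx, rfl⟩
      obtain ⟨γ₁, hγ₁, hγ₁e⟩ := comp_hom E hχB hω₃E h1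
      have h2 : ∀ x : ↥(B ⊔ V₂), γ₁ x = χ ⟨ψ x, hψval x⟩ := by
        intro x
        rw [hγ₁e]
        exact hω₃ x (h1 x)
      have h3 : ∀ x : ↥(B ⊔ V₂), γ₁ x ∈ χ.range := fun x => by
        rw [h2]
        exact ⟨_, rfl⟩
      obtain ⟨γ₂, hγ₂, hγ₂e⟩ := comp_hom E hγ₁ hθ h3
      have h4 : γ₂ = ψ := by
        ext x
        rw [hγ₂e]
        have h5 : (⟨γ₁ x, h3 x⟩ : ↥χ.range) = ⟨χ ⟨ψ x, hψval x⟩, ⟨_, rfl⟩⟩ :=
          Subtype.ext (h2 x)
        rw [h5]
        exact hθχ ⟨ψ x, hψval x⟩ _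
      rw [← h4]
      exact hγ₂

/-- **Local-to-global principle for Glauberman functors.** -/
theorem local_to_global [Finite S] {p : ℕ} [Fact p.Prime] (hS : IsPGroup p S)
    (F : FusionSystem S) (hF : F.IsSaturated p) (Wf : Subgroup Ω → Subgroup Ω)
    (hW1 : ∀ T, Wf T ≤ T)
    (hW2 : ∀ T, T ≤ S → T ≠ ⊥ → Wf T ≠ ⊥)
    (hW3 : ∀ (T T' : Subgroup Ω) (φ : ↥T →* Ω), T ≤ S → Function.Injective φ → φ.range = T' →
      ((Wf T).subgroupOf T).map φ = Wf T')
    (hH : ∀ Q : Subgroup Ω, F.IsFullyNormalized Q → Q ≠ ⊥ →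
      ∀ N : FusionSystem (normalizerIn S Q), F.IsNormalizerSystem Q N →
        N.IsNormal (Wf (normalizerIn S Q))) : F.IsNormal (Wf S) := by
  have hWS : normalizerIn S (Wf S) = S := normalizerIn_W_top Wf hW1 hW3
  obtain ⟨E₀, hE₀⟩ := Cfsg.Agent.S5096.result F (Wf S) (hW1 S)
  obtain ⟨E, hEE₀, -, -⟩ := exists_transport hWS E₀ p
  have hE : ∀ P, E.Hom P = F.normalizerHom (Wf S) P := fun P => (hEE₀ P).trans (hE₀ P)
  have hFE : ∀ P, F.Hom P ⊆ E.Hom P := by
    intro P φ hφ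
    have hPS := hom_le F hφ
    refine alperin_ind p hS F hF E ?_ _ P hPS rfl hφ
    intro Q hQn hIH
    show Subgroup.closure _ ≤ Subgroup.closure _
    apply Subgroup.closure_mono
    intro α hα
    have hα' : Q.subtype.comp α.toMonoidHom ∈ F.Hom Q := hα
    show Q.subtype.comp α.toMonoidHom ∈ E.Hom Q
    by_cases hQ1 : Q = ⊥
    · subst hQ1
      have h1 : conjHom ⊥ 1 ∈ E.Hom ⊥ := E.conj_mem bot_le S.one_mem
      have h2 : (⊥ : Subgroup Ω).subtype.comp α.toMonoidHom = conjHom ⊥ 1 := by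
        ext x
        have hx : x = 1 := Subsingleton.elim _ _
        rw [hx]
        simp
      rw [h2]
      exact h1
    · have hQS := hQn.1
      haveI : Finite Q := finite_of_le hQS
      haveI := finite_normalizerIn (S := S) Q
      have hr : (Q.subgroupOf Q).map (Q.subtype.comp α.toMonoidHom) = Q :=
        map_eq_of_forall_mem _ (F.injective_of_mem hα') le_rfl (fun y _ => (α y).2)
      have hcQ : Nat.card Q ≤ Nat.card (normalizerIn S Q) :=
        Subgroup.card_le_of_le (self_le_normalizerIn' hQS)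
      exact climb hS F hF Wf hW1 hW2 hW3 hH E hE (Nat.card Q) hIH _ Q hQn hQ1 hcQ le_rfl Q _
        le_rfl (self_le_normalizerIn' hQS) hα' hr
  refine ⟨hW1 S, fun P φ hφ => ?_⟩
  have h := hFE P hφ
  rw [hE P] at h
  exact h.2.2.2

end Cfsg.Agent.Lib.Helper1.GF
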