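import Mathlib
import Cfsg.Agent.Lib.Helper1.QI9
import Cfsg.Agent.S5145
import Cfsg.Agent.S5158
import Cfsg.Agent.S5090
import Cfsg.Agent.S5098

set_option autoImplicit false
set_option linter.style.haveILetI false
set_option linter.unusedSectionVars false
set_option linter.unusedVariables false
set_option maxHeartbeats 1000000

/-! Glauberman functors on fusion systems: a `H`-free saturated fusion system is solvable and
the functor's value on `S` is normal in it. -/

namespace Cfsg.Agent.Lib.Helper1.GF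

open Cfsg Cfsg.FusionSystem Cfsg.Agent.Lib.Helper9 Cfsg.Agent.Lib.Helper1.KN
  Cfsg.Agent.Lib.Helper1.KL Cfsg.Agent.Lib.Helper1.QF
open scoped commutatorElement

universe u v

/-- the value of a functor on a subgroup, as a subgroup of the ambient group -/
def Wsub (W : ∀ (Q : Type u) [Group Q], Subgroup Q) {Ω : Type u} [Group Ω] (T : Subgroup Ω) :
    Subgroup Ω :=
  (W ↥T).map T.subtype

/-- transfer of normality between systems with the same maps -/
theorem isNormal_transfer {Ω : Type*} [Group Ω] {T S : Subgroup Ω} (h : T = S)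
    (E : FusionSystem T) (F : FusionSystem S) (hEF : ∀ P, E.Hom P = F.Hom P) {X : Subgroup Ω}
    (hX : E.IsNormal X) : F.IsNormal X := by
  subst h
  refine ⟨hX.1, fun P φ hφ => ?_⟩
  have hφ' : φ ∈ E.Hom P := by
    rw [hEF]
    exact hφ
  obtain ⟨ψ, hψ, h1, h2⟩ := hX.2 P φ hφ'
  refine ⟨ψ, ?_, h1, h2⟩
  rw [← hEF]
  exact hψ

/-- a system is solvable if the factor system modulo a subgroup normal in it is solvable -/
theorem solvable_of_normal_pgroup_factor {Ω : Type*} [Group Ω] {S : Subgroup Ω} [Finite S]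
    (p : ℕ) [Fact p.Prime] (hS : IsPGroup p S)
    (F : FusionSystem S) (hF : F.IsSaturated p) {R : Subgroup Ω} (hR : F.IsNormal R)
    {Ω' : Type*} [Group Ω'] {S' : Subgroup Ω'} (θ : S →* Ω') (D : FusionSystem S')
    (hD : F.IsFactorSystem R θ D) (hDs : D.IsSolvableSystem) : F.IsSolvableSystem := by
  have hT : F.StronglyClosed R := stronglyClosed_of_normal F hR
  have hRS := hR.1
  haveI : Finite R := finite_of_le hRS
  have hRp : IsPGroup p R := isPGroup_of_le hS hRS
  haveI hnil : Group.IsNilpotent R := hRp.isNilpotent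
  obtain ⟨n, hn⟩ := Group.IsNilpotent.nilpotent (↥R)
  have hDsat := factorSystem_saturated p hS F hF hT θ D hD
  have hD' := hD
  obtain ⟨hTS, hker, hrange, hHom⟩ := hD'
  haveI : Finite S' := finite_of_range_eq θ hrange
  have hS'p : IsPGroup p S' := isPGroup_of_range_eq hS θ hrange
  obtain ⟨m, d, hd0, hdm, hdsc, -, hdcomm⟩ :=
    exists_chain_of_solvable p hS'p D hDsat hDs _ ⊥ (stronglyClosed_bot D) le_rfl
  refine solvable_of_two_chains p hS F hF n m
    (fun j => (Subgroup.upperCentralSeries (↥R) j).map R.subtype)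
    (fun j => preimageAlong θ (d j)) ?_ ?_ ?_ ?_ ?_ ?_ ?_
  · show (Subgroup.upperCentralSeries (↥R) 0).map R.subtype = ⊥
    rw [Subgroup.upperCentralSeries_zero, Subgroup.map_bot]
  · show (Subgroup.upperCentralSeries (↥R) n).map R.subtype = preimageAlong θ (d 0)
    rw [hn, hd0]
    have htop : (⊤ : Subgroup ↥R).map R.subtype = R := by
      rw [← MonoidHom.range_eq_map, Subgroup.range_subtype]
    rw [htop]
    ext x
    rw [mem_preimageAlong]
    constructor
    · intro hx
      exact ⟨hTS hx, by rw [Subgroup.mem_bot]; exact (hker ⟨x, hTS hx⟩).mpr hx⟩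
    · rintro ⟨hxS, hx⟩
      exact (hker ⟨x, hxS⟩).mp (by rwa [Subgroup.mem_bot] at hx)
  · show preimageAlong θ (d m) = S
    rw [hdm]
    apply le_antisymm (preimageAlong_le θ S')
    intro x hx
    rw [mem_preimageAlong]
    exact ⟨hx, hrange ▸ ⟨⟨x, hx⟩, rfl⟩⟩
  · intro j _
    exact stronglyClosed_of_normal F (upperCentralSeries_map_normal F hR j)
  · intro j _
    exact preimageAlong_stronglyClosed p hS F hF hT θ D hD (hdsc j)
  · intro j hj
    show ⁅(Subgroup.upperCentralSeries (↥R) (j + 1)).map R.subtype,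
      (Subgroup.upperCentralSeries (↥R) (j + 1)).map R.subtype⁆ ≤
      (Subgroup.upperCentralSeries (↥R) j).map R.subtype
    exact (Subgroup.commutator_mono (Subgroup.map_subtype_le _) le_rfl).trans
      (commutator_upperCentralSeries_map_le R j)
  · intro j hj
    show ⁅preimageAlong θ (d (j + 1)), preimageAlong θ (d (j + 1))⁆ ≤ preimageAlong θ (d j)
    rw [Subgroup.commutator_le]
    intro a ha b hb
    obtain ⟨haS, ha'⟩ := (mem_preimageAlong θ _ a).mp ha
    obtain ⟨hbS, hb'⟩ := (mem_preimageAlong θ _ b).mp hb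
    rw [mem_preimageAlong]
    have hab : ⁅a, b⁆ ∈ S := by
      rw [commutatorElement_def]
      exact S.mul_mem (S.mul_mem (S.mul_mem haS hbS) (S.inv_mem haS)) (S.inv_mem hbS)
    refine ⟨hab, ?_⟩
    have h1 : (⟨⁅a, b⁆, hab⟩ : S) = ⁅(⟨a, haS⟩ : S), ⟨b, hbS⟩⁆ := by
      apply Subtype.ext
      simp [commutatorElement_def]
    rw [h1, map_commutatorElement]
    exact hdcomm j hj (Subgroup.commutator_mem_commutator ha' hb')

section functor

variable {p : ℕ} [Fact p.Prime] (W : ∀ (Q : Type u) [Group Q], Subgroup Q)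

theorem Wsub_le {Ω : Type u} [Group Ω] (T : Subgroup Ω) : Wsub W T ≤ T :=
  Subgroup.map_subtype_le _

theorem Wsub_subgroupOf {Ω : Type u} [Group Ω] (T : Subgroup Ω) :
    (Wsub W T).subgroupOf T = W ↥T :=
  Subgroup.comap_map_eq_self_of_injective T.subtype_injective _

theorem W_map_hom
    (hW2 : ∀ (Q R : Type u) [Group Q] [Group R] [Finite Q], IsPGroup p Q →
      ∀ φ : Q ≃* R, (W Q).map φ.toMonoidHom = W R)
    {A : Type u} [Group A] [Finite A] (hA : IsPGroup p A) {L : Type u} [Group L] (f : A →* L)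
    (hinj : Function.Injective f) (P' : Subgroup L) (hr : f.range = P') :
    (W A).map f = (W ↥P').map P'.subtype := by
  let e : A ≃* ↥P' := MulEquiv.ofBijective (f.codRestrict P' (fun x => hr.le ⟨x, rfl⟩))
    ⟨fun a b hab => hinj (congrArg Subtype.val hab), fun y => by
      obtain ⟨x, hx⟩ := hr.ge y.2
      exact ⟨x, Subtype.ext hx⟩⟩
  have he : ∀ a, ((e a : ↥P') : L) = f a := fun a => rfl
  have h1 := hW2 A ↥P' hA e
  ext y
  constructor
  · rintro ⟨x, hx, rfl⟩
    refine ⟨e x, ?_, he x⟩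
    rw [← h1]
    exact ⟨x, hx, rfl⟩
  · rintro ⟨y', hy', rfl⟩
    rw [← h1] at hy'
    obtain ⟨x, hx, rfl⟩ := hy'
    exact ⟨x, hx, (he x).symm⟩

theorem Wsub_ne_bot
    (hW1 : ∀ (Q : Type u) [Group Q] [Finite Q], IsPGroup p Q → Nontrivial Q → W Q ≠ ⊥)
    {Ω : Type u} [Group Ω] {S : Subgroup Ω} [Finite S] (hS : IsPGroup p S) {T : Subgroup Ω}
    (hTS : T ≤ S) (hT : T ≠ ⊥) : Wsub W T ≠ ⊥ := by
  haveI : Finite T := finite_of_le hTS
  have hnt : Nontrivial ↥T := (Subgroup.nontrivial_iff_ne_bot T).mpr hT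
  have h1 := hW1 ↥T (isPGroup_of_le hS hTS) hnt
  intro h
  exact h1 ((Subgroup.map_eq_bot_iff_of_injective _ T.subtype_injective).mp h)

theorem Wsub_map
    (hW2 : ∀ (Q R : Type u) [Group Q] [Group R] [Finite Q], IsPGroup p Q →
      ∀ φ : Q ≃* R, (W Q).map φ.toMonoidHom = W R)
    {Ω : Type u} [Group Ω] {S : Subgroup Ω} [Finite S] (hS : IsPGroup p S) (T T' : Subgroup Ω)
    (φ : ↥T →* Ω) (hTS : T ≤ S) (hinj : Function.Injective φ) (hr : φ.range = T') :
    ((Wsub W T).subgroupOf T).map φ = Wsub W T' := by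
  haveI : Finite T := finite_of_le hTS
  rw [Wsub_subgroupOf]
  exact W_map_hom W hW2 (isPGroup_of_le hS hTS) φ hinj T' hr

/-- in a constrained `H`-free system the functor's value on `S` is normal -/
theorem normal_of_constrained {H : Type v} [Group H]
    (hW2 : ∀ (Q R : Type u) [Group Q] [Group R] [Finite Q], IsPGroup p Q →
      ∀ φ : Q ≃* R, (W Q).map φ.toMonoidHom = W R)
    (hW3 : ∀ (L : Type u) [Group L] [Finite L] (P : Sylow p L),
      Subgroup.centralizer ((pCore p L : Subgroup L) : Set L) =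
        pCore p L ⊓ Subgroup.centralizer ((pCore p L : Subgroup L) : Set L) →
      ¬ Involves H L →
        (((W ↥(P : Subgroup L)).map (P : Subgroup L).subtype : Subgroup L)).Normal)
    {Ω : Type u} [Group Ω] {S : Subgroup Ω} [Finite S] (hS : IsPGroup p S) (F : FusionSystem S)
    (hF : F.IsSaturated p) (hfree : F.IsSectionFree p H) (hcon : F.IsConstrained p) :
    F.IsNormal (Wsub W S) := by
  obtain ⟨-, Q₀, hQ₀n, hQ₀c⟩ := hcon
  have hQ₀S : Q₀ ≤ S := hQ₀n.1
  haveI : Finite Q₀ := finite_of_le hQ₀S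
  have hNQ : normalizerIn S Q₀ = S :=
    normalizerIn_eq_of_forall (fun s hs x hx => conj_mem_of_isNormal F hQ₀n hs hx)
  have hQ₀fn : F.IsFullyNormalized Q₀ := fullyNormalized_of_normalizerIn_eq F hQ₀S hNQ
  obtain ⟨N₀, hN₀⟩ := Cfsg.Agent.S5096.result F Q₀ hQ₀S
  have hN₀sat := Cfsg.Agent.S5098.result p hS F hF Q₀ hQ₀fn N₀ hN₀
  have hN₀con : N₀.IsConstrained p :=
    ⟨hN₀sat, Q₀, normal_self_of_isNormalizerSystem F hQ₀S N₀ hN₀,
      centric_self_of_isNormalizerSystem F hQ₀c N₀ hN₀⟩
  haveI : Finite ↥(normalizerIn S Q₀) := finite_of_le (normalizerIn_le S Q₀)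
  have hTp : IsPGroup p ↥(normalizerIn S Q₀) := isPGroup_of_le hS (normalizerIn_le S Q₀)
  obtain ⟨L, _, ι, hL⟩ := Cfsg.Agent.S5090.result p hTp N₀ hN₀con
  have hfreeL := hfree Q₀ hQ₀fn hQ₀c N₀ hN₀ L ι hL
  obtain ⟨hLfin, hreal, ⟨P₀, hP₀⟩, hcent⟩ := hL
  haveI : Finite L := hLfin
  have hceq : Subgroup.centralizer ((pCore p L : Subgroup L) : Set L) =
      pCore p L ⊓ Subgroup.centralizer ((pCore p L : Subgroup L) : Set L) :=
    le_antisymm (le_inf hcent le_rfl) inf_le_right
  have hWn := hW3 L P₀ hceq hfreeL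
  have hmapeq : Subgroup.map ι ((Wsub W (normalizerIn S Q₀)).subgroupOf (normalizerIn S Q₀)) =
      (W ↥(P₀ : Subgroup L)).map (P₀ : Subgroup L).subtype := by
    rw [Wsub_subgroupOf]
    exact W_map_hom W hW2 hTp ι hreal.1 _ hP₀.symm
  have hnorm : (Subgroup.map ι
      ((Wsub W (normalizerIn S Q₀)).subgroupOf (normalizerIn S Q₀))).Normal := by
    rw [hmapeq]
    exact hWn
  have h1 : N₀.IsNormal (Wsub W (normalizerIn S Q₀)) :=
    isNormal_of_map_normal N₀ ι hreal (Wsub_le W _) hnorm
  have hEF : ∀ P, N₀.Hom P = F.Hom P := fun P =>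
    (hN₀ P).trans (normalizerHom_eq_of_isNormal F hQ₀n hNQ P)
  have h2 : F.IsNormal (Wsub W (normalizerIn S Q₀)) := isNormal_transfer hNQ N₀ F hEF h1
  have h3 : Wsub W (normalizerIn S Q₀) = Wsub W S := congrArg (Wsub W) hNQ
  rw [← h3]
  exact h2

/-- the induction hypothesis -/
def GIH (p : ℕ) (W : ∀ (Q : Type u) [Group Q], Subgroup Q) (H : Type v) [Group H] (n : ℕ) :
    Prop :=
  ∀ (Ω : Type u) [Group Ω] (S : Subgroup Ω) [Finite S], IsPGroup p S → Nat.card S < n →
    ∀ F : FusionSystem S, F.IsSaturated p → F.IsSectionFree p H →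
      F.IsSolvableSystem ∧ F.IsNormal (Wsub W S)

theorem step2 {H : Type v} [Group H]
    (hW2 : ∀ (Q R : Type u) [Group Q] [Group R] [Finite Q], IsPGroup p Q →
      ∀ φ : Q ≃* R, (W Q).map φ.toMonoidHom = W R)
    (hW3 : ∀ (L : Type u) [Group L] [Finite L] (P : Sylow p L),
      Subgroup.centralizer ((pCore p L : Subgroup L) : Set L) =
        pCore p L ⊓ Subgroup.centralizer ((pCore p L : Subgroup L) : Set L) →
      ¬ Involves H L →
        (((W ↥(P : Subgroup L)).map (P : Subgroup L).subtype : Subgroup L)).Normal)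
    {Ω : Type u} [Group Ω] {S : Subgroup Ω} [Finite S] (hS : IsPGroup p S) (F : FusionSystem S)
    (hF : F.IsSaturated p) (hfree : F.IsSectionFree p H)
    (IH : GIH.{u, v} p W H (Nat.card S)) (hcore : F.core ≠ ⊥) :
    F.IsSolvableSystem ∧ F.IsNormal (Wsub W S) := by
  have hRn : F.IsNormal F.core := Cfsg.Agent.S5145.result F
  have hsc := stronglyClosed_of_normal F hRn
  haveI := subgroupOf_normal_of_stronglyClosed F hsc
  obtain ⟨Eb, hEb⟩ := exists_factorSystem_quotient F F.core hsc
  have hEbsat := factorSystem_saturated p hS F hF hsc _ Eb hEb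
  have hEbfree := factor_sectionFree p hS F hF F.core hRn hfree _ Eb hEb
  haveI : Finite (⊤ : Subgroup (↥S ⧸ F.core.subgroupOf S)) := finite_of_range_eq _ hEb.2.2.1
  have hS'p : IsPGroup p (⊤ : Subgroup (↥S ⧸ F.core.subgroupOf S)) :=
    isPGroup_of_range_eq hS _ hEb.2.2.1
  have hcard : Nat.card (⊤ : Subgroup (↥S ⧸ F.core.subgroupOf S)) < Nat.card S := by
    rw [Subgroup.card_top, Subgroup.card_eq_card_quotient_mul_card_subgroup (F.core.subgroupOf S)]
    have h1 : 1 < Nat.card (F.core.subgroupOf S) := by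
      rw [Subgroup.one_lt_card_iff_ne_bot]
      intro h
      apply hcore
      rw [eq_bot_iff]
      intro x hx
      have h2 : (⟨x, hRn.1 hx⟩ : S) ∈ F.core.subgroupOf S := by
        rw [Subgroup.mem_subgroupOf]
        exact hx
      rw [h, Subgroup.mem_bot] at h2
      rw [Subgroup.mem_bot]
      exact congrArg Subtype.val h2
    have h0 : 0 < Nat.card (↥S ⧸ F.core.subgroupOf S) := Nat.card_pos
    nlinarith
  obtain ⟨hEbsolv, -⟩ := IH (↥S ⧸ F.core.subgroupOf S) ⊤ hS'p hcard Eb hEbsat hEbfree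
  have hsolv := solvable_of_normal_pgroup_factor p hS F hF hRn _ Eb hEb hEbsolv
  have hcon := Cfsg.Agent.S5158.result p hS F hF hsolv
  exact ⟨hsolv, normal_of_constrained W hW2 hW3 hS F hF hfree hcon⟩

theorem step3 {H : Type v} [Group H]
    (hW1 : ∀ (Q : Type u) [Group Q] [Finite Q], IsPGroup p Q → Nontrivial Q → W Q ≠ ⊥)
    (hW2 : ∀ (Q R : Type u) [Group Q] [Group R] [Finite Q], IsPGroup p Q →
      ∀ φ : Q ≃* R, (W Q).map φ.toMonoidHom = W R)
    (hW3 : ∀ (L : Type u) [Group L] [Finite L] (P : Sylow p L),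
      Subgroup.centralizer ((pCore p L : Subgroup L) : Set L) =
        pCore p L ⊓ Subgroup.centralizer ((pCore p L : Subgroup L) : Set L) →
      ¬ Involves H L →
        (((W ↥(P : Subgroup L)).map (P : Subgroup L).subtype : Subgroup L)).Normal)
    {Ω : Type u} [Group Ω] {S : Subgroup Ω} [Finite S] (hS : IsPGroup p S) (F : FusionSystem S)
    (hF : F.IsSaturated p) (hfree : F.IsSectionFree p H)
    (IH : GIH.{u, v} p W H (Nat.card S)) (hcore : F.core = ⊥) :
    F.IsSolvableSystem ∧ F.IsNormal (Wsub W S) := by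
  have hnorm : F.IsNormal (Wsub W S) := by
    apply local_to_global hS F hF (Wsub W) (fun T => Wsub_le W T)
      (fun T hT hT1 => Wsub_ne_bot W hW1 hS hT hT1)
      (fun T T' φ hT hinj hr => Wsub_map W hW2 hS T T' φ hT hinj hr)
    intro Q hQn hQ1 N hN
    haveI := finite_normalizerIn (S := S) Q
    have hTp : IsPGroup p (normalizerIn S Q) := isPGroup_of_le hS (normalizerIn_le S Q)
    have hNsat := Cfsg.Agent.S5098.result p hS F hF Q hQn N hN
    have hNfree := normalizer_sectionFree p hS F hF hfree Q hQn N hN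
    by_cases hlt : Nat.card (normalizerIn S Q) < Nat.card S
    · exact (IH Ω (normalizerIn S Q) hTp hlt N hNsat hNfree).2
    · have hcardeq : Nat.card (normalizerIn S Q) = Nat.card S :=
        le_antisymm (Subgroup.card_le_of_le (normalizerIn_le S Q)) (not_lt.mp hlt)
      have hQN : N.IsNormal Q := normal_self_of_isNormalizerSystem F hQn.1 N hN
      have hNcore : N.core ≠ ⊥ := by
        intro h
        apply hQ1
        rw [eq_bot_iff, ← h]
        exact le_sSup hQN
      have IH' : GIH.{u, v} p W H (Nat.card (normalizerIn S Q)) := by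
        rw [hcardeq]
        exact IH
      exact (step2 W hW2 hW3 hTp N hNsat hNfree IH' hNcore).2
  have hS1 : S = ⊥ := by
    by_contra hS1
    have h1 := Wsub_ne_bot W hW1 hS le_rfl hS1
    apply h1
    rw [eq_bot_iff, ← hcore]
    exact le_sSup hnorm
  refine ⟨?_, hnorm⟩
  intro R hR hRS _ E hE
  have h2 : R = ⊥ := le_bot_iff.mp (le_of_le_of_eq hR.1 hS1)
  exact absurd (h2.trans hS1.symm) hRS

theorem gih_all {H : Type v} [Group H]
    (hW1 : ∀ (Q : Type u) [Group Q] [Finite Q], IsPGroup p Q → Nontrivial Q → W Q ≠ ⊥)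
    (hW2 : ∀ (Q R : Type u) [Group Q] [Group R] [Finite Q], IsPGroup p Q →
      ∀ φ : Q ≃* R, (W Q).map φ.toMonoidHom = W R)
    (hW3 : ∀ (L : Type u) [Group L] [Finite L] (P : Sylow p L),
      Subgroup.centralizer ((pCore p L : Subgroup L) : Set L) =
        pCore p L ⊓ Subgroup.centralizer ((pCore p L : Subgroup L) : Set L) →
      ¬ Involves H L →
        (((W ↥(P : Subgroup L)).map (P : Subgroup L).subtype : Subgroup L)).Normal)
    (n : ℕ) : GIH.{u, v} p W H n := by
  induction n with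
  | zero =>
    intro Ω _ S _ hS h
    exact absurd h (Nat.not_lt_zero _)
  | succ n ih =>
    intro Ω _ S _ hS hcard F hF hfree
    have IH : GIH.{u, v} p W H (Nat.card S) := by
      intro Ω' _ S' _ hS' h'
      exact ih Ω' S' hS' (by omega)
    by_cases hcore : F.core = ⊥
    · exact step3 W hW1 hW2 hW3 hS F hF hfree IH hcore
    · exact step2 W hW2 hW3 hS F hF hfree IH hcore

/-- **Glauberman functors on `H`-free saturated fusion systems**: the system is solvable and the
functor's value on `S` is normal in it. -/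
theorem functor_normal {H : Type v} [Group H]
    (hW1 : ∀ (Q : Type u) [Group Q] [Finite Q], IsPGroup p Q → Nontrivial Q → W Q ≠ ⊥)
    (hW2 : ∀ (Q R : Type u) [Group Q] [Group R] [Finite Q], IsPGroup p Q →
      ∀ φ : Q ≃* R, (W Q).map φ.toMonoidHom = W R)
    (hW3 : ∀ (L : Type u) [Group L] [Finite L] (P : Sylow p L),
      Subgroup.centralizer ((pCore p L : Subgroup L) : Set L) =
        pCore p L ⊓ Subgroup.centralizer ((pCore p L : Subgroup L) : Set L) →
      ¬ Involves H L →
        (((W ↥(P : Subgroup L)).map (P : Subgroup L).subtype : Subgroup L)).Normal)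
    {Ω : Type u} [Group Ω] {S : Subgroup Ω} [Finite S] (hS : IsPGroup p S) (F : FusionSystem S)
    (hF : F.IsSaturated p) (hfree : F.IsSectionFree p H) :
    F.IsSolvableSystem ∧ F.IsNormal ((W ↥S).map S.subtype) :=
  gih_all W hW1 hW2 hW3 (Nat.card S + 1) Ω S hS (Nat.lt_succ_self _) F hF hfree

/-- the functor's value on `S` controls fusion -/
theorem functor_controls {H : Type v} [Group H]
    (hW1 : ∀ (Q : Type u) [Group Q] [Finite Q], IsPGroup p Q → Nontrivial Q → W Q ≠ ⊥)
    (hW2 : ∀ (Q R : Type u) [Group Q] [Group R] [Finite Q], IsPGroup p Q →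
      ∀ φ : Q ≃* R, (W Q).map φ.toMonoidHom = W R)
    (hW3 : ∀ (L : Type u) [Group L] [Finite L] (P : Sylow p L),
      Subgroup.centralizer ((pCore p L : Subgroup L) : Set L) =
        pCore p L ⊓ Subgroup.centralizer ((pCore p L : Subgroup L) : Set L) →
      ¬ Involves H L →
        (((W ↥(P : Subgroup L)).map (P : Subgroup L).subtype : Subgroup L)).Normal)
    {Ω : Type u} [Group Ω] {S : Subgroup Ω} [Finite S] (hS : IsPGroup p S) (F : FusionSystem S)
    (hF : F.IsSaturated p) (hfree : F.IsSectionFree p H)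
    (N : FusionSystem (normalizerIn S ((W ↥S).map S.subtype)))
    (hN : F.IsNormalizerSystem ((W ↥S).map S.subtype) N) :
    ∀ P : Subgroup Ω, N.Hom P = F.Hom P := by
  have h := (functor_normal W hW1 hW2 hW3 hS F hF hfree).2
  haveI : Finite ↥((W ↥S).map S.subtype) := finite_of_le h.1
  have hTS : normalizerIn S ((W ↥S).map S.subtype) = S :=
    normalizerIn_eq_of_forall (fun s hs x hx => conj_mem_of_isNormal F h hs hx)
  intro P
  exact (hN P).trans (normalizerHom_eq_of_isNormal F h hTS P)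

end functor

end Cfsg.Agent.Lib.Helper1.GF
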