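import Mathlib
import Cfsg.Agent.Lib.Helper1.QI10
import Cfsg.Agent.S2800
import Cfsg.Agent.S5097

set_option autoImplicit false
set_option linter.style.haveILetI false
set_option linter.unusedSectionVars false
set_option linter.unusedVariables false
set_option maxHeartbeats 1000000

/-! Thompson's normal `p`-complement theorem for fusion systems, part 1: the Thompson subgroup,
the hypotheses, and the theorem for constrained systems. -/

namespace Cfsg.Agent.Lib.Helper1.TH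

open Cfsg Cfsg.FusionSystem Cfsg.Agent.Lib.Helper9 Cfsg.Agent.Lib.Helper1.KN
  Cfsg.Agent.Lib.Helper1.KL Cfsg.Agent.Lib.Helper1.QF

universe u

section grp

variable {G : Type*} [Group G] {G' : Type*} [Group G']

theorem thompsonSubgroupAOf_le' (P : Subgroup G) : thompsonSubgroupAOf P ≤ P := by
  unfold thompsonSubgroupAOf
  exact Subgroup.map_subtype_le _

theorem mem_thompsonSubgroupAOf_iff_of_equiv {P : Subgroup G} {P' : Subgroup G'} (e : ↥P ≃* ↥P')
    (x : ↥P) :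
    (x : G) ∈ thompsonSubgroupAOf P ↔ ((e x : ↥P') : G') ∈ thompsonSubgroupAOf P' := by
  unfold thompsonSubgroupAOf
  rw [thompsonA_map e]
  have h1 : (x : G) ∈ (thompsonSubgroupA ↥P).map P.subtype ↔ x ∈ thompsonSubgroupA ↥P :=
    Subgroup.mem_map_iff_mem P.subtype_injective
  have h2 : ((e x : ↥P') : G') ∈ ((thompsonSubgroupA ↥P).map e.toMonoidHom).map P'.subtype ↔
      e x ∈ (thompsonSubgroupA ↥P).map e.toMonoidHom :=
    Subgroup.mem_map_iff_mem P'.subtype_injective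
  have h3 : e x ∈ (thompsonSubgroupA ↥P).map e.toMonoidHom ↔ x ∈ thompsonSubgroupA ↥P :=
    Subgroup.mem_map_iff_mem (f := e.toMonoidHom) e.injective
  rw [h1, h2, h3]

theorem conj_mem_thompsonSubgroupAOf {P : Subgroup G} {n : G}
    (hn : n ∈ Subgroup.normalizer (P : Set G)) {x : G} (hx : x ∈ thompsonSubgroupAOf P) :
    n * x * n⁻¹ ∈ thompsonSubgroupAOf P := by
  have hxP : x ∈ P := thompsonSubgroupAOf_le' P hx
  exact (mem_thompsonSubgroupAOf_iff_of_equiv (conjEquiv P n hn) ⟨x, hxP⟩).mp hx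

theorem mem_thompsonSubgroupAOf_iff_of_hom {P : Subgroup G} {P' : Subgroup G'} (φ : ↥P →* G')
    (hinj : Function.Injective φ) (hr : φ.range = P') (x : ↥P) :
    (x : G) ∈ thompsonSubgroupAOf P ↔ φ x ∈ thompsonSubgroupAOf P' :=
  mem_thompsonSubgroupAOf_iff_of_equiv (equivRange φ hinj hr) x

theorem thompsonSubgroupAOf_ne_bot' {P : Subgroup G} [Finite P] {p : ℕ} [Fact p.Prime]
    (hP : IsPGroup p P) (hne : P ≠ ⊥) : thompsonSubgroupAOf P ≠ ⊥ := by
  intro h
  apply centerThompsonAOf_ne_bot' hP hne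
  have hle : centerThompsonAOf P ≤ thompsonSubgroupAOf P := by
    unfold centerThompsonAOf
    exact inf_le_left
  rw [eq_bot_iff]
  exact hle.trans h.le

/-- the centre of a nontrivial `p`-subgroup is nontrivial -/
theorem zOf_ne_bot {P : Subgroup G} [Finite P] {p : ℕ} [Fact p.Prime]
    (hP : IsPGroup p P) (hne : P ≠ ⊥) : P ⊓ Subgroup.centralizer (P : Set G) ≠ ⊥ := by
  haveI : Nontrivial ↥P := (Subgroup.nontrivial_iff_ne_bot P).mpr hne
  haveI := hP.center_nontrivial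
  obtain ⟨z, hz⟩ := exists_ne (1 : Subgroup.center ↥P)
  intro h
  apply hz
  have h0 : ((z : ↥P) : G) ∈ Subgroup.centralizer (P : Set G) := by
    refine Subgroup.mem_centralizer_iff.mpr (fun y hy => ?_)
    exact congrArg Subtype.val (Subgroup.mem_center_iff.mp z.2 ⟨y, hy⟩)
  have h1 : ((z : ↥P) : G) ∈ P ⊓ Subgroup.centralizer (P : Set G) := ⟨(z : ↥P).2, h0⟩
  rw [h, Subgroup.mem_bot] at h1
  exact Subtype.ext (Subtype.ext h1)

/-- the centre is invariant under normalizing elements -/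
theorem conj_mem_zOf {P : Subgroup G} {g : G} (hg : g ∈ Subgroup.normalizer (P : Set G)) {x : G}
    (hx : x ∈ P ⊓ Subgroup.centralizer (P : Set G)) :
    g * x * g⁻¹ ∈ P ⊓ Subgroup.centralizer (P : Set G) := by
  have h1 : g * x * g⁻¹ ∈ P := (Subgroup.mem_normalizer_iff.mp hg x).mp hx.1
  have hg' : g⁻¹ ∈ Subgroup.normalizer (P : Set G) := Subgroup.inv_mem _ hg
  have h2 : g * x * g⁻¹ ∈ Subgroup.centralizer (P : Set G) := by
    refine Subgroup.mem_centralizer_iff.mpr (fun t ht => ?_)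
    have h3 : g⁻¹ * t * g ∈ P := by
      have := (Subgroup.mem_normalizer_iff.mp hg' t).mp ht
      simpa using this
    have h4 := Subgroup.mem_centralizer_iff.mp hx.2 _ h3
    calc t * (g * x * g⁻¹) = g * (g⁻¹ * t * g * x) * g⁻¹ := by group
      _ = g * (x * (g⁻¹ * t * g)) * g⁻¹ := by rw [h4]
      _ = g * x * g⁻¹ * t := by group
  exact ⟨h1, h2⟩

end grp

section fus

variable {Ω : Type*} [Group Ω]

/-- Thompson's hypotheses: `C_F(Z(S))` and `N_F(J(S))` are inner -/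
def THyp {T : Subgroup Ω} (E : FusionSystem T) : Prop :=
  (∀ (P : Subgroup Ω) (φ : P →* Ω),
    φ ∈ E.centralizerHom (T ⊓ Subgroup.centralizer (T : Set Ω)) P →
      ∃ t ∈ T, ∀ x : P, φ x = t * x * t⁻¹) ∧
  (∀ (P : Subgroup Ω) (φ : P →* Ω), φ ∈ E.normalizerHom (thompsonSubgroupAOf T) P →
      ∃ t ∈ T, ∀ x : P, φ x = t * x * t⁻¹)

theorem thyp_mono {T S : Subgroup Ω} (h : T = S) (E : FusionSystem T) (F : FusionSystem S)
    (hsub : ∀ P, E.Hom P ⊆ F.Hom P) (hth : THyp F) : THyp E := by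
  subst h
  refine ⟨fun P φ hφ => hth.1 P φ ?_, fun P φ hφ => hth.2 P φ ?_⟩
  · obtain ⟨h1, h2, h3, ψ, hψ, h4, h5⟩ := hφ
    exact ⟨hsub P h1, h2, h3, ψ, hsub _ hψ, h4, h5⟩
  · obtain ⟨h1, h2, h3, ψ, hψ, h4, h5⟩ := hφ
    exact ⟨hsub P h1, h2, h3, ψ, hsub _ hψ, h4, h5⟩

theorem cent_sub_norm {T : Subgroup Ω} (E : FusionSystem T) {Q P : Subgroup Ω} {φ : P →* Ω}
    (hφ : φ ∈ E.centralizerHom Q P) : φ ∈ E.normalizerHom Q P := by
  obtain ⟨h1, h2, h3, ψ, hψ, h4, h5⟩ := hφ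
  refine ⟨h1, h2.trans (centralizerIn_le_normalizerIn T Q),
    fun x => centralizerIn_le_normalizerIn T Q (h3 x), ψ, hψ, h4, ?_⟩
  ext y
  constructor
  · rintro ⟨z, hz, rfl⟩
    have hzQ : (z : Ω) ∈ Q := Subgroup.mem_subgroupOf.mp hz
    have e2 : ψ z = (z : Ω) := h5 ⟨z, hzQ⟩
    rw [e2]
    exact hzQ
  · intro hy
    exact ⟨Subgroup.inclusion le_sup_right ⟨y, hy⟩, Subgroup.mem_subgroupOf.mpr hy, h5 ⟨y, hy⟩⟩

theorem innerOn_of_complement {T : Subgroup Ω} {L : Type*} [Group L] [Finite T] {p : ℕ}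
    [Fact p.Prime] (E : FusionSystem T) (ι : ↥T →* L) (hmodel : E.IsModel p L ι)
    (hnpc : HasNormalPComplement p L) : InnerOn E := by
  obtain ⟨hfin, hreal, ⟨Sy, hSy⟩, hcent⟩ := hmodel
  haveI := hfin
  have hinj := hreal.1
  obtain ⟨P', K, hKn, hKc⟩ := hnpc
  have hKcard : ¬ p ∣ Nat.card K := by
    have h1 := hKc.card_mul_card
    have h2 := (P' : Subgroup L).card_mul_index
    have h3 : 0 < Nat.card (P' : Subgroup L) := Nat.card_pos
    have h4 : Nat.card K = (P' : Subgroup L).index := by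
      have : Nat.card K * Nat.card (P' : Subgroup L) =
          (P' : Subgroup L).index * Nat.card (P' : Subgroup L) := by
        rw [h1, mul_comm, h2]
      exact Nat.eq_of_mul_eq_mul_right h3 this
    rw [h4]
    exact P'.not_dvd_index
  have hKbot : K = ⊥ := by
    obtain ⟨m, hm⟩ := (IsPGroup.iff_card).mp (Cfsg.Agent.Lib.Helper2.pCore_isPGroup (G := L) p)
    have hcop : (Nat.card K).Coprime (Nat.card (pCore p L)) := by
      rw [hm]
      apply Nat.Coprime.pow_right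
      exact ((Nat.Prime.coprime_iff_not_dvd Fact.out).mpr hKcard).symm
    have hdisj : K ⊓ pCore p L = ⊥ := (Subgroup.disjoint_of_coprime_natCard hcop).eq_bot
    rw [eq_bot_iff]
    intro k hk
    have hkc : k ∈ Subgroup.centralizer ((pCore p L : Subgroup L) : Set L) := by
      refine Subgroup.mem_centralizer_iff.mpr ?_
      intro x hx
      have h1 : k * x * k⁻¹ * x⁻¹ ∈ K ⊓ pCore p L := by
        constructor
        · have h2 : x * k⁻¹ * x⁻¹ ∈ K := hKn.conj_mem _ (K.inv_mem hk) x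
          have e1 : k * x * k⁻¹ * x⁻¹ = k * (x * k⁻¹ * x⁻¹) := by group
          rw [e1]
          exact K.mul_mem hk h2
        · have h2 : k * x * k⁻¹ ∈ pCore p L :=
            (inferInstance : (pCore p L).Normal).conj_mem _ hx k
          exact Subgroup.mul_mem _ h2 (Subgroup.inv_mem _ hx)
      rw [hdisj, Subgroup.mem_bot] at h1
      calc x * k = (k * x * k⁻¹ * x⁻¹)⁻¹ * (k * x) := by group
        _ = k * x := by rw [h1]; group
    have h2 : k ∈ K ⊓ pCore p L := ⟨hk, hcent hkc⟩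
    rw [hdisj] at h2
    exact h2
  have hP'top : (P' : Subgroup L) = ⊤ := by
    rw [hKbot] at hKc
    exact Subgroup.isComplement'_bot_left.mp hKc
  have hSytop : (Sy : Subgroup L) = ⊤ := by
    have h1 : IsPGroup p ↥(⊤ : Subgroup L) := by
      rw [← hP'top]
      exact P'.isPGroup'
    exact (Sy.is_maximal' h1 le_top).symm
  have hιtop : ι.range = ⊤ := by rw [← hSy, hSytop]
  intro P
  apply Set.Subset.antisymm
  · intro φ hφ
    obtain ⟨hPT, hφT⟩ := E.le_of_mem hφ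
    obtain ⟨g, hg⟩ := (hreal.2 P hPT φ hφT).mp hφ
    have hgr : g ∈ ι.range := by rw [hιtop]; exact Subgroup.mem_top g
    obtain ⟨t, rfl⟩ := hgr
    refine ⟨hPT, t, t.2, fun x => ?_⟩
    have h1 := hg x
    rw [← map_inv, ← map_mul, ← map_mul] at h1
    exact congrArg Subtype.val (hinj h1)
  · exact innerFusionSystem_le E P

/-- a local subgroup of a realizing group whose fusion in the Sylow subgroup is controlled by
the Sylow subgroup has a normal `p`-complement -/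
theorem npc_of_hom {T : Subgroup Ω} {L : Type*} [Group L] [Finite L] {p : ℕ} [Fact p.Prime]
    (E : FusionSystem T) (ι : ↥T →* L) (hreal : E.IsRealizedBy ι) (Sy : Sylow p L)
    (hSy : (Sy : Subgroup L) = ι.range) (M : Subgroup L) (hSyM : (Sy : Subgroup L) ≤ M)
    (h : ∀ g ∈ M, ∀ (Q₀ : Subgroup Ω) (hQ₀T : Q₀ ≤ T) (φ : Q₀ →* Ω) (hφT : ∀ x, φ x ∈ T),
      φ ∈ E.Hom Q₀ → (∀ x, ι ⟨φ x, hφT x⟩ = g * ι ⟨x, hQ₀T x.2⟩ * g⁻¹) →
      (∀ (x : Ω) (hx : x ∈ T), g * ι ⟨x, hx⟩ * g⁻¹ ∈ ι.range → x ∈ Q₀) →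
      ∃ t ∈ T, ∀ x : Q₀, φ x = t * x * t⁻¹) :
    HasNormalPComplement p ↥M := by
  have hctl : Cfsg.Agent.Lib.Helper1.ControlsOwnFusion (Sy.subtype hSyM) := by
    intro x hx g hgx
    have hx' : (x : L) ∈ (Sy : Subgroup L) := by
      have h0 : x ∈ ((Sy.subtype hSyM : Sylow p _) : Subgroup _) := hx
      rw [Sylow.coe_subtype, Subgroup.mem_subgroupOf] at h0
      exact h0
    have hgx' : (g : L) * x * (g : L)⁻¹ ∈ (Sy : Subgroup L) := by
      have h0 : g * x * g⁻¹ ∈ ((Sy.subtype hSyM : Sylow p _) : Subgroup _) := hgx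
      rw [Sylow.coe_subtype, Subgroup.mem_subgroupOf] at h0
      exact h0
    rw [hSy] at hx' hgx'
    obtain ⟨d', hd'⟩ := hx'
    obtain ⟨Q₀, hQ₀T, φ, hφT, hφE, hφι, hQ₀mem⟩ := exists_hom_of_conj E ι hreal (g : L)
    have hd'Q₀ : (d' : Ω) ∈ Q₀ := hQ₀mem d' d'.2 (by rw [hd']; exact hgx')
    obtain ⟨t, ht, hφt⟩ := h (g : L) g.2 Q₀ hQ₀T φ hφT hφE hφι hQ₀mem
    have hιt : ι ⟨t, ht⟩ ∈ (Sy : Subgroup L) := by rw [hSy]; exact ⟨_, rfl⟩
    refine ⟨⟨ι ⟨t, ht⟩, hSyM hιt⟩, ?_, ?_⟩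
    · have h0 : (⟨ι ⟨t, ht⟩, hSyM hιt⟩ : ↥M) ∈
          ((Sy.subtype hSyM : Sylow p _) : Subgroup _) := by
        rw [Sylow.coe_subtype, Subgroup.mem_subgroupOf]
        exact hιt
      exact h0
    · apply Subtype.ext
      show ι ⟨t, ht⟩ * (x : L) * (ι ⟨t, ht⟩)⁻¹ = (g : L) * x * (g : L)⁻¹
      rw [← hd']
      have h1 := hφι ⟨d', hd'Q₀⟩
      rw [← h1]
      have e1 : (⟨φ ⟨d', hd'Q₀⟩, hφT _⟩ : T) = ⟨t, ht⟩ * d' * ⟨t, ht⟩⁻¹ := by
        apply Subtype.ext
        exact hφt ⟨d', hd'Q₀⟩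
      rw [e1, map_mul, map_mul, map_inv]
  obtain ⟨K₀, hK₀n, hK₀c⟩ :=
    Cfsg.Agent.Lib.Helper1.normal_complement_of_controlsOwnFusion (Sy.subtype hSyM) hctl
  exact ⟨Sy.subtype hSyM, K₀, hK₀n, hK₀c⟩

/-- **Thompson's theorem for a system with a model** -/
theorem innerOn_of_model_th {T : Subgroup Ω} {L : Type*} [Group L] [Finite T] {p : ℕ}
    [Fact p.Prime] (hT : IsPGroup p T) (E : FusionSystem T) (ι : ↥T →* L)
    (hmodel : E.IsModel p L ι) (hfree : p ≠ 2 ∨ ¬ Involves (Equiv.Perm (Fin 4)) L)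
    (hth : THyp E) : InnerOn E := by
  have hmodel' := hmodel
  obtain ⟨hfin, hreal, ⟨Sy, hSy⟩, hcent⟩ := hmodel'
  haveI := hfin
  have hinj := hreal.1
  have hιSy : ∀ t : T, ι t ∈ (Sy : Subgroup L) := fun t => by rw [hSy]; exact ⟨t, rfl⟩
  -- the centre
  have hZ : ∀ x : T, (x : Ω) ∈ T ⊓ Subgroup.centralizer (T : Set Ω) ↔
      ι x ∈ (Sy : Subgroup L) ⊓ Subgroup.centralizer ((Sy : Subgroup L) : Set L) := by
    intro x
    constructor
    · rintro ⟨-, hx⟩
      have h0 : ι x ∈ Subgroup.centralizer ((Sy : Subgroup L) : Set L) := by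
        refine Subgroup.mem_centralizer_iff.mpr (fun y hy => ?_)
        have hy' : y ∈ ι.range := by rw [← hSy]; exact hy
        obtain ⟨t, rfl⟩ := hy'
        have h1 : (t : Ω) * x = x * t := Subgroup.mem_centralizer_iff.mp hx t t.2
        have h2 : t * x = x * t := Subtype.ext h1
        rw [← map_mul, ← map_mul, h2]
      exact ⟨hιSy x, h0⟩
    · rintro ⟨-, hx⟩
      have h0 : (x : Ω) ∈ Subgroup.centralizer (T : Set Ω) := by
        refine Subgroup.mem_centralizer_iff.mpr (fun t ht => ?_)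
        have h1 := Subgroup.mem_centralizer_iff.mp hx (ι ⟨t, ht⟩) (hιSy _)
        rw [← map_mul, ← map_mul] at h1
        exact congrArg Subtype.val (hinj h1)
      exact ⟨x.2, h0⟩
  -- the Thompson subgroup
  have hJ : ∀ x : T, (x : Ω) ∈ thompsonSubgroupAOf T ↔
      ι x ∈ thompsonSubgroupAOf (Sy : Subgroup L) :=
    fun x => mem_thompsonSubgroupAOf_iff_of_hom ι hinj hSy.symm x
  have hJle : thompsonSubgroupAOf (Sy : Subgroup L) ≤ (Sy : Subgroup L) :=
    thompsonSubgroupAOf_le' _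
  have hJT : thompsonSubgroupAOf T ≤ T := thompsonSubgroupAOf_le' T
  haveI : Finite ↥(thompsonSubgroupAOf T) := finite_of_le hJT
  have hSyC : (Sy : Subgroup L) ≤ Subgroup.centralizer
      ((((Sy : Subgroup L) ⊓ Subgroup.centralizer ((Sy : Subgroup L) : Set L) :
        Subgroup L)) : Set L) := by
    intro y hy
    refine Subgroup.mem_centralizer_iff.mpr (fun z hz => ?_)
    exact (Subgroup.mem_centralizer_iff.mp hz.2 y hy).symm
  have hSyN : (Sy : Subgroup L) ≤ Subgroup.normalizer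
      ((thompsonSubgroupAOf (Sy : Subgroup L) : Subgroup L) : Set L) := by
    intro y hy
    apply KN.mem_normalizer_of_forall_conj_mem
    intro w hw
    exact conj_mem_thompsonSubgroupAOf (Subgroup.le_normalizer hy) hw
  have hTC : ∀ t ∈ T, t ∈ centralizerIn T (T ⊓ Subgroup.centralizer (T : Set Ω)) := by
    intro t ht
    have h1 : t ∈ Subgroup.centralizer
        (((T ⊓ Subgroup.centralizer (T : Set Ω) : Subgroup Ω)) : Set Ω) := by
      refine Subgroup.mem_centralizer_iff.mpr (fun z hz => ?_)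
      exact (Subgroup.mem_centralizer_iff.mp hz.2 t ht).symm
    exact ⟨ht, h1⟩
  have hTN : ∀ t ∈ T, t ∈ normalizerIn T (thompsonSubgroupAOf T) := by
    intro t ht
    have h1 : t ∈ Subgroup.normalizer ((thompsonSubgroupAOf T : Subgroup Ω) : Set Ω) :=
      KN.mem_normalizer_of_forall_conj_mem (fun w hw =>
        conj_mem_thompsonSubgroupAOf (Subgroup.le_normalizer ht) hw)
    exact ⟨ht, h1⟩
  -- the centralizer of the centre
  have hC : HasNormalPComplement p ↥(Subgroup.centralizer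
      ((((Sy : Subgroup L) ⊓ Subgroup.centralizer ((Sy : Subgroup L) : Set L) :
        Subgroup L)) : Set L)) := by
    apply npc_of_hom E ι hreal Sy hSy _ hSyC
    intro g hg Q₀ hQ₀T φ hφT hφE hφι hQ₀mem
    have hgz : ∀ z : T, (z : Ω) ∈ T ⊓ Subgroup.centralizer (T : Set Ω) →
        g * ι z * g⁻¹ = ι z := by
      intro z hz
      have h1 := Subgroup.mem_centralizer_iff.mp hg (ι z) ((hZ z).mp hz)
      rw [← h1, mul_inv_cancel_right]
    have hZQ₀ : T ⊓ Subgroup.centralizer (T : Set Ω) ≤ Q₀ := by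
      intro z hz
      apply hQ₀mem z hz.1
      rw [hgz ⟨z, hz.1⟩ hz]
      exact ⟨_, rfl⟩
    have hφz : ∀ z : Q₀, (z : Ω) ∈ T ⊓ Subgroup.centralizer (T : Set Ω) → φ z = z := by
      intro z hz
      have h1 := hφι z
      rw [hgz ⟨z, hQ₀T z.2⟩ hz] at h1
      exact congrArg Subtype.val (hinj h1)
    have hle : Q₀ ⊔ (T ⊓ Subgroup.centralizer (T : Set Ω)) ≤ Q₀ := _root_.sup_le le_rfl hZQ₀
    have hmem : φ ∈ E.centralizerHom (T ⊓ Subgroup.centralizer (T : Set Ω)) Q₀ :=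
      ⟨hφE, fun z hz => hTC z (hQ₀T hz), fun z => hTC _ (hφT z),
        φ.comp (Subgroup.inclusion hle), restrict_mem E hφE hle, fun z => rfl,
        fun z => hφz ⟨z, hZQ₀ z.2⟩ z.2⟩
    exact hth.1 Q₀ φ hmem
  -- the normalizer of the Thompson subgroup
  have hN : HasNormalPComplement p ↥(Subgroup.normalizer
      ((thompsonSubgroupAOf (Sy : Subgroup L) : Subgroup L) : Set L)) := by
    apply npc_of_hom E ι hreal Sy hSy _ hSyN
    intro g hg Q₀ hQ₀T φ hφT hφE hφι hQ₀mem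
    have hJQ₀ : thompsonSubgroupAOf T ≤ Q₀ := by
      intro w hw
      apply hQ₀mem w (hJT hw)
      have h1 := (hJ ⟨w, hJT hw⟩).mp hw
      have h2 := (Subgroup.mem_normalizer_iff.mp hg _).mp h1
      have h3 := hJle h2
      rw [hSy] at h3
      exact h3
    have hφJ : ∀ z : Q₀, (z : Ω) ∈ thompsonSubgroupAOf T → φ z ∈ thompsonSubgroupAOf T := by
      intro z hz
      apply (hJ ⟨φ z, hφT z⟩).mpr
      have h2 := (hJ ⟨z, hQ₀T z.2⟩).mp hz
      have h3 := (Subgroup.mem_normalizer_iff.mp hg _).mp h2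
      rw [hφι z]
      exact h3
    have hle : Q₀ ⊔ thompsonSubgroupAOf T ≤ Q₀ := _root_.sup_le le_rfl hJQ₀
    have hmem : φ ∈ E.normalizerHom (thompsonSubgroupAOf T) Q₀ := by
      refine ⟨hφE, fun z hz => hTN z (hQ₀T hz), fun z => hTN _ (hφT z),
        φ.comp (Subgroup.inclusion hle), restrict_mem E hφE hle, fun z => rfl, ?_⟩
      rw [map_subgroupOf_comp_inclusion_eq hle _ le_sup_right]
      exact map_eq_of_forall_mem φ (E.injective_of_mem hφE) hJQ₀ hφJ
    exact hth.2 Q₀ φ hmem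
  have hnpc := Cfsg.Agent.S2800.result Sy hfree hC hN
  exact innerOn_of_complement E ι hmodel hnpc

end fus

/-- **Thompson's theorem for constrained systems** -/
theorem innerOn_of_constrained_th {Ω : Type u} [Group Ω] {T : Subgroup Ω} [Finite T] {p : ℕ}
    [Fact p.Prime] (hT : IsPGroup p T) (E : FusionSystem T) (hEsat : E.IsSaturated p)
    (hfree : p ≠ 2 ∨ E.IsSectionFree p (Equiv.Perm (Fin 4))) (hcon : E.IsConstrained p)
    (hth : THyp E) : InnerOn E := by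
  obtain ⟨-, Q₀, hQ₀n, hQ₀c⟩ := hcon
  have hQ₀T : Q₀ ≤ T := hQ₀n.1
  haveI : Finite Q₀ := finite_of_le hQ₀T
  have hNQ : normalizerIn T Q₀ = T :=
    normalizerIn_eq_of_forall (fun s hs x hx => conj_mem_of_isNormal E hQ₀n hs hx)
  have hQ₀fn : E.IsFullyNormalized Q₀ := fullyNormalized_of_normalizerIn_eq E hQ₀T hNQ
  obtain ⟨N₀, hN₀⟩ := Cfsg.Agent.S5096.result E Q₀ hQ₀T
  have hN₀sat := Cfsg.Agent.S5098.result p hT E hEsat Q₀ hQ₀fn N₀ hN₀
  have hN₀con : N₀.IsConstrained p :=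
    ⟨hN₀sat, Q₀, normal_self_of_isNormalizerSystem E hQ₀T N₀ hN₀,
      centric_self_of_isNormalizerSystem E hQ₀c N₀ hN₀⟩
  haveI : Finite ↥(normalizerIn T Q₀) := finite_of_le (normalizerIn_le T Q₀)
  have hTp : IsPGroup p ↥(normalizerIn T Q₀) := isPGroup_of_le hT (normalizerIn_le T Q₀)
  obtain ⟨L, _, ι, hL⟩ := Cfsg.Agent.S5090.result p hTp N₀ hN₀con
  have hfreeL : p ≠ 2 ∨ ¬ Involves (Equiv.Perm (Fin 4)) L :=
    hfree.imp id (fun h => h Q₀ hQ₀fn hQ₀c N₀ hN₀ L ι hL)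
  have hEF : ∀ P, N₀.Hom P = E.Hom P := fun P =>
    (hN₀ P).trans (normalizerHom_eq_of_isNormal E hQ₀n hNQ P)
  have hth₀ : THyp N₀ := thyp_mono hNQ N₀ E (fun P => (hEF P).le) hth
  have hin₀ := innerOn_of_model_th hTp N₀ ι hL hfreeL hth₀
  intro P
  rw [← hEF P, hin₀ P, hNQ]

end Cfsg.Agent.Lib.Helper1.TH
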