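import Mathlib
import Cfsg.Agent.Lib.Helper1.TH1

set_option autoImplicit false
set_option linter.style.haveILetI false
set_option linter.unusedSectionVars false
set_option linter.unusedVariables false
set_option maxHeartbeats 1000000

/-! Thompson's normal `p`-complement theorem for fusion systems, part 2: the reduction to the
constrained case. -/

namespace Cfsg.Agent.Lib.Helper1.TH

open Cfsg Cfsg.FusionSystem Cfsg.Agent.Lib.Helper9 Cfsg.Agent.Lib.Helper1.KN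
  Cfsg.Agent.Lib.Helper1.KL Cfsg.Agent.Lib.Helper1.QF

universe u

variable {Ω : Type u} [Group Ω] {S : Subgroup Ω}

/-- the induction hypothesis: the theorem for all smaller `p`-groups -/
def TIH (p n : ℕ) : Prop :=
  ∀ (Ω' : Type u) [Group Ω'] (S' : Subgroup Ω') [Finite S'], Nat.card S' < n → IsPGroup p S' →
    ∀ F' : FusionSystem S', F'.IsSaturated p →
      (p ≠ 2 ∨ F'.IsSectionFree p (Equiv.Perm (Fin 4))) → THyp F' → InnerOn F'

theorem exists_char_of_not_thyp {T : Subgroup Ω} [Finite T] {p : ℕ} [Fact p.Prime]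
    (hT : IsPGroup p T) (hT0 : T ≠ ⊥) (E : FusionSystem T) (h : ¬ THyp E) :
    ∃ U : Subgroup Ω, U ≤ T ∧ U ≠ ⊥ ∧
      (∀ g ∈ Subgroup.normalizer (T : Set Ω), ∀ x ∈ U, g * x * g⁻¹ ∈ U) ∧
      ∃ (P : Subgroup Ω) (φ : P →* Ω), φ ∈ E.normalizerHom U P ∧
        ¬ ∃ t ∈ T, ∀ x : P, φ x = t * x * t⁻¹ := by
  by_cases h1 : ∀ (P : Subgroup Ω) (φ : P →* Ω),
      φ ∈ E.centralizerHom (T ⊓ Subgroup.centralizer (T : Set Ω)) P →
        ∃ t ∈ T, ∀ x : P, φ x = t * x * t⁻¹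
  · by_contra hcon
    apply h
    refine ⟨h1, ?_⟩
    intro P φ hφ
    by_contra hnot
    exact hcon ⟨thompsonSubgroupAOf T, thompsonSubgroupAOf_le' T,
      thompsonSubgroupAOf_ne_bot' hT hT0, fun g hg x hx => conj_mem_thompsonSubgroupAOf hg hx,
      P, φ, hφ, hnot⟩
  · by_contra hcon
    apply h1
    intro P φ hφ
    by_contra hnot
    exact hcon ⟨T ⊓ Subgroup.centralizer (T : Set Ω), inf_le_left, zOf_ne_bot hT hT0,
      fun g hg x hx => conj_mem_zOf hg hx, P, φ, cent_sub_norm E hφ, hnot⟩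

theorem bad_of_normalizerHom [Finite S] {p : ℕ} [Fact p.Prime] (hS : IsPGroup p S)
    (F : FusionSystem S) (hF : F.IsSaturated p) {U : Subgroup Ω} (hU : F.IsFullyNormalized U)
    {P : Subgroup Ω} {φ : P →* Ω} (hφ : φ ∈ F.normalizerHom U P)
    (hnot : ¬ ∃ t ∈ S, ∀ x : P, φ x = t * x * t⁻¹) : Bad F p U := by
  obtain ⟨N', hN'⟩ := Cfsg.Agent.S5096.result F U hU.1
  apply bad_of_not_innerOn hS F hF hU N' hN'
  intro hin
  apply hnot
  rw [← hN' P, hin P] at hφ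
  obtain ⟨-, t, ht, hφt⟩ := hφ
  exact ⟨t, normalizerIn_le S U ht, hφt⟩

theorem bad_of_bad_normalizer (F : FusionSystem S) {p : ℕ} {R : Subgroup Ω}
    (E : FusionSystem (normalizerIn S R)) (hE : F.IsNormalizerSystem R E) {U : Subgroup Ω}
    (hb : Bad E p U) : Bad F p U := by
  obtain ⟨Y, α, hUY, hYN, hα, hαU, hαp⟩ := hb
  have hTle : normalizerIn S R ≤ S := normalizerIn_le S R
  have hYT : Y ≤ normalizerIn S R := hYN.trans inf_le_left
  refine ⟨Y, α, hUY, fun y hy => ⟨hTle (hYT hy), (hYN hy).2⟩, ?_, hαU, hαp⟩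
  rw [mem_autGroup_iff F (hYT.trans hTle)]
  exact hom_of_normalizerSystem F E hE (hom_of_mem_autGroup E hYT hα)

theorem descent_th [Finite S] {p : ℕ} [Fact p.Prime] (hS : IsPGroup p S) (F : FusionSystem S)
    (hF : F.IsSaturated p) (hfree : p ≠ 2 ∨ F.IsSectionFree p (Equiv.Perm (Fin 4)))
    (IH : TIH.{u} p (Nat.card S)) {R : Subgroup Ω} (hRfn : F.IsFullyNormalized R) (hR0 : R ≠ ⊥)
    (hb : Bad F p R) (hTS : normalizerIn S R ≠ S) :
    ∃ U' : Subgroup Ω, U' ≠ ⊥ ∧ F.IsFullyNormalized U' ∧ Bad F p U' ∧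
      Nat.card (normalizerIn S R) < Nat.card (normalizerIn S U') := by
  have hRS := hRfn.1
  have hTle : normalizerIn S R ≤ S := normalizerIn_le S R
  have hlt : normalizerIn S R < S := lt_of_le_of_ne hTle hTS
  haveI : Finite ↥(normalizerIn S R) := finite_normalizerIn (S := S) R
  haveI : Finite R := finite_of_le hRS
  have hTp : IsPGroup p ↥(normalizerIn S R) := isPGroup_of_le hS hTle
  obtain ⟨E, hE⟩ := Cfsg.Agent.S5096.result F R hRS
  have hEsat := Cfsg.Agent.S5098.result p hS F hF R hRfn E hE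
  have hcard : Nat.card ↥(normalizerIn S R) < Nat.card S := by
    by_contra hcon
    push Not at hcon
    exact hTS (Subgroup.eq_of_le_of_card_ge hTle hcon)
  have hniE : ¬ InnerOn E := by
    obtain ⟨Y, α, hRY, hYN, hα, hαR, hαp⟩ := hb
    refine not_innerOn_of_aut hTp E hYN ?_ hαp
    rw [mem_autGroup_iff E hYN, hE Y]
    exact mem_normalizerHom_of_aut F hRY hYN hα hαR
  have hfreeE : p ≠ 2 ∨ E.IsSectionFree p (Equiv.Perm (Fin 4)) :=
    hfree.imp id (fun h => normalizer_sectionFree p hS F hF h R hRfn E hE)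
  have hnth : ¬ THyp E := fun hth =>
    hniE (IH Ω (normalizerIn S R) hcard hTp E hEsat hfreeE hth)
  have hT0 : normalizerIn S R ≠ ⊥ := by
    intro h0
    apply hR0
    rw [eq_bot_iff, ← h0]
    exact self_le_normalizerIn' hRS
  obtain ⟨U, hUT, hU0, hUchar, P, φ, hφ, hnot⟩ := exists_char_of_not_thyp hTp hT0 E hnth
  haveI : Finite ↥U := finite_of_le hUT
  have hnormU : ∀ g ∈ S, g ∈ Subgroup.normalizer ((normalizerIn S R : Subgroup Ω) : Set Ω) →
      g ∈ Subgroup.normalizer (U : Set Ω) := fun g _ hgT =>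
    KN.mem_normalizer_of_forall_conj_mem (fun x hx => hUchar g hgT x hx)
  have hTU : normalizerIn S R ≤ normalizerIn S U :=
    fun t ht => ⟨hTle ht, hnormU t (hTle ht) (Subgroup.le_normalizer ht)⟩
  have hTTU : normalizerIn (normalizerIn S R) U = normalizerIn S R :=
    le_antisymm inf_le_left (fun t ht => ⟨ht, (hTU ht).2⟩)
  have hUfn : E.IsFullyNormalized U :=
    ⟨hUT, fun Q _ => by rw [hTTU]; exact Subgroup.card_le_of_le inf_le_left⟩
  have hbE : Bad E p U := bad_of_normalizerHom hTp E hEsat hUfn hφ hnot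
  have hbF : Bad F p U := bad_of_bad_normalizer F E hE hbE
  obtain ⟨U', hU'0, hU'fn, hU'b, hU'card⟩ := exists_fn_bad hS F hF hU0 hbF
  refine ⟨U', hU'0, hU'fn, hU'b, lt_of_lt_of_le ?_ hU'card⟩
  obtain ⟨g, hgN, hgT⟩ := exists_mem_normalizerIn_not_mem hS hlt
  have hgU : g ∈ normalizerIn S U := ⟨hgN.1, hnormU g hgN.1 hgN.2⟩
  haveI := finite_normalizerIn (S := S) U
  by_contra hcon
  push Not at hcon
  have h6 := Subgroup.eq_of_le_of_card_ge hTU hcon
  apply hgT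
  rw [h6]
  exact hgU

/-- a nontrivial bad subgroup normal in `S` -/
theorem exists_bad_normal_th [Finite S] {p : ℕ} [Fact p.Prime] (hS : IsPGroup p S)
    (F : FusionSystem S) (hF : F.IsSaturated p)
    (hfree : p ≠ 2 ∨ F.IsSectionFree p (Equiv.Perm (Fin 4)))
    (IH : TIH.{u} p (Nat.card S)) (hni : ¬ InnerOn F) :
    ∃ R : Subgroup Ω, R ≠ ⊥ ∧ normalizerIn S R = S ∧ Bad F p R := by
  obtain ⟨Y, α, hYS, hα, hαp⟩ := exists_aut_of_not_innerOn hS F hF hni
  have hY0 : Y ≠ ⊥ := by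
    intro h0
    apply hαp 0
    apply MulEquiv.ext
    intro y
    have hy1 : ∀ z : Y, z = 1 := fun z => Subtype.ext (by
      have h1 : (z : Ω) ∈ (⊥ : Subgroup Ω) := h0.le z.2
      exact Subgroup.mem_bot.mp h1)
    rw [hy1 y]
    simp
  have hbY : Bad F p Y :=
    ⟨Y, α, le_rfl, self_le_normalizerIn' hYS, hα, fun y _ => (α y).2, hαp⟩
  obtain ⟨R₀, hR₀0, hR₀fn, hR₀b, -⟩ := exists_fn_bad hS F hF hY0 hbY
  have hfin : {R : Subgroup Ω | R ≠ ⊥ ∧ F.IsFullyNormalized R ∧ Bad F p R}.Finite :=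
    (finite_subgroups_le S).subset (fun R hR => hR.2.1.1)
  haveI : Finite {R : Subgroup Ω // R ≠ ⊥ ∧ F.IsFullyNormalized R ∧ Bad F p R} := hfin.to_subtype
  haveI : Nonempty {R : Subgroup Ω // R ≠ ⊥ ∧ F.IsFullyNormalized R ∧ Bad F p R} :=
    ⟨⟨R₀, hR₀0, hR₀fn, hR₀b⟩⟩
  obtain ⟨⟨R, hR0, hRfn, hRb⟩, hmax⟩ := Finite.exists_max
    (fun R : {R : Subgroup Ω // R ≠ ⊥ ∧ F.IsFullyNormalized R ∧ Bad F p R} =>
      Nat.card (normalizerIn S (R : Subgroup Ω)))
  refine ⟨R, hR0, ?_, hRb⟩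
  by_contra hTS
  obtain ⟨U', hU'0, hU'fn, hU'b, hlt⟩ := descent_th hS F hF hfree IH hRfn hR0 hRb hTS
  have h1 := hmax ⟨U', hU'0, hU'fn, hU'b⟩
  exact absurd hlt (not_lt.mpr h1)

/-- an inner factor system gives the `star` property -/
theorem star_of_factor_inner {T : Subgroup Ω} [Finite T] {p : ℕ} [Fact p.Prime]
    (hT : IsPGroup p T) (E : FusionSystem T) (hEsat : E.IsSaturated p) {R : Subgroup Ω}
    (hsc : E.StronglyClosed R) {Ω' : Type*} [Group Ω'] {S' : Subgroup Ω'} (θ : ↥T →* Ω')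
    (Eb : FusionSystem S') (hfac : E.IsFactorSystem R θ Eb) (hEbin : InnerOn Eb) :
    ∀ (Y : Subgroup Ω) (α : MulAut Y), Y ≤ T → α ∈ E.autGroup Y →
      ∃ t ∈ T, ∀ y : Y, (t * y * t⁻¹)⁻¹ * ((α y : Y) : Ω) ∈ R := by
  have hker := hfac.2.1
  have hrange := hfac.2.2.1
  have hmor := factor_isSurjectiveMorphism p hT E hEsat R hsc θ Eb hfac
  intro Y α hYT hα
  obtain ⟨φ', hφ', hY, hαT, hY', hind⟩ := hmor.1.2 Y _ (hom_of_mem_autGroup E hYT hα)
  rw [hEbin _] at hφ'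
  obtain ⟨-, g, hgS', hg⟩ := hφ'
  have hgr : g ∈ θ.range := by rw [hrange]; exact hgS'
  obtain ⟨t, rfl⟩ := hgr
  refine ⟨t, t.2, fun y => ?_⟩
  have h1 : θ t * θ ⟨y, hY y.2⟩ * (θ t)⁻¹ = θ ⟨((α y : Y) : Ω), hαT y⟩ := by
    have h0 := hind y
    rw [hg] at h0
    exact h0
  have h2 : θ ((t * ⟨y, hY y.2⟩ * t⁻¹)⁻¹ * ⟨((α y : Y) : Ω), hαT y⟩) = 1 := by
    rw [map_mul, map_inv, map_mul, map_mul, map_inv, h1, inv_mul_cancel]
  exact (hker _).mp h2

theorem star_th {T : Subgroup Ω} [Finite T] {p : ℕ} [Fact p.Prime] (hT : IsPGroup p T)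
    (E : FusionSystem T) (hEsat : E.IsSaturated p)
    (hfree : p ≠ 2 ∨ E.IsSectionFree p (Equiv.Perm (Fin 4)))
    {R : Subgroup Ω} (hRn : E.IsNormal R) (hR0 : R ≠ ⊥) (IH : TIH.{u} p (Nat.card T))
    (hX : ∀ X : Subgroup Ω, R ≤ X → X ≤ T → Nat.card R < Nat.card X →
      (∀ t ∈ T, ∀ x ∈ X, t * x * t⁻¹ ∈ X) →
      ∀ (Z : Subgroup Ω) (ψ : Z →* Ω), ψ ∈ E.Hom Z → X ≤ Z → (X.subgroupOf Z).map ψ = X →
        ∃ t ∈ T, ∀ z : Z, ψ z = t * z * t⁻¹) :
    ∀ (Y : Subgroup Ω) (α : MulAut Y), Y ≤ T → α ∈ E.autGroup Y →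
      ∃ t ∈ T, ∀ y : Y, (t * y * t⁻¹)⁻¹ * ((α y : Y) : Ω) ∈ R := by
  have hRT := hRn.1
  haveI : Finite R := finite_of_le hRT
  by_cases hRT' : R = T
  · intro Y α hYT hα
    refine ⟨1, T.one_mem, fun y => ?_⟩
    rw [hRT']
    exact T.mul_mem (T.inv_mem (by simpa using hYT y.2)) (hYT (α y).2)
  have hsc := stronglyClosed_of_normal E hRn
  haveI : (R.subgroupOf T).Normal := subgroupOf_normal_of_stronglyClosed E hsc
  obtain ⟨θ, hθdef⟩ : ∃ θ : ↥T →* ↥T ⧸ R.subgroupOf T, θ = QuotientGroup.mk' (R.subgroupOf T) :=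
    ⟨_, rfl⟩
  have hθsurj : Function.Surjective θ := by
    rw [hθdef]
    exact QuotientGroup.mk'_surjective _
  obtain ⟨Eb, hfac⟩ := exists_factorSystem_quotient E R hsc
  rw [← hθdef] at hfac
  have hker := hfac.2.1
  have hrange := hfac.2.2.1
  have hHom := hfac.2.2.2
  haveI : Finite (↥T ⧸ R.subgroupOf T) := inferInstance
  haveI : Finite ↥(⊤ : Subgroup (↥T ⧸ R.subgroupOf T)) := inferInstance
  have hS'p : IsPGroup p ↥(⊤ : Subgroup (↥T ⧸ R.subgroupOf T)) :=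
    isPGroup_of_range_eq hT θ hrange
  have hEbsat := factorSystem_saturated p hT E hEsat hsc θ Eb hfac
  have hEbfree : p ≠ 2 ∨ Eb.IsSectionFree p (Equiv.Perm (Fin 4)) :=
    hfree.imp id (fun h => factor_sectionFree p hT E hEsat R hRn h θ Eb hfac)
  have hcard : Nat.card ↥(⊤ : Subgroup (↥T ⧸ R.subgroupOf T)) < Nat.card T := by
    rw [Subgroup.card_top]
    have h1 := Subgroup.card_eq_card_quotient_mul_card_subgroup (R.subgroupOf T)
    have h2 : Nat.card ↥(R.subgroupOf T) = Nat.card R :=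
      Nat.card_congr (Subgroup.subgroupOfEquivOfLe hRT).toEquiv
    have h3 : 1 < Nat.card R := (Subgroup.one_lt_card_iff_ne_bot R).mpr hR0
    have h4 : 0 < Nat.card (↥T ⧸ R.subgroupOf T) := Nat.card_pos
    rw [h2] at h1
    nlinarith
  have htop0 : (⊤ : Subgroup (↥T ⧸ R.subgroupOf T)) ≠ ⊥ := by
    intro h0
    apply hRT'
    apply le_antisymm hRT
    intro t ht
    have h1 : θ ⟨t, ht⟩ ∈ (⊤ : Subgroup (↥T ⧸ R.subgroupOf T)) := Subgroup.mem_top _
    rw [h0, Subgroup.mem_bot] at h1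
    exact (hker _).mp h1
  have hkey : ∀ Xb : Subgroup (↥T ⧸ R.subgroupOf T), Xb ≠ ⊥ →
      (∀ (g : ↥T ⧸ R.subgroupOf T), ∀ x ∈ Xb, g * x * g⁻¹ ∈ Xb) →
      ∀ (Pb : Subgroup (↥T ⧸ R.subgroupOf T)) (φb : Pb →* ↥T ⧸ R.subgroupOf T),
        φb ∈ Eb.normalizerHom Xb Pb →
          ∃ t ∈ (⊤ : Subgroup (↥T ⧸ R.subgroupOf T)), ∀ x : Pb, φb x = t * x * t⁻¹ := by
    intro Xb hXb0 hXbnorm Pb φb hφb
    obtain ⟨hφbE, hPbN, hφbN, ψb, hψb, hψbext, hψbX⟩ := hφb
    obtain ⟨-, ψ, hψ, hZT, hψT, hZim, hind⟩ := (hHom _ ψb).mp hψb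
    have hRX : R ≤ preimageAlong θ Xb := ker_le_preimageAlong θ hRT hker _
    have hXT : preimageAlong θ Xb ≤ T := preimageAlong_le θ _
    have himX : imageAlong θ (preimageAlong θ Xb) = Xb :=
      imageAlong_preimageAlong θ hrange le_top
    haveI : Finite ↥(preimageAlong θ Xb) := finite_of_le hXT
    have hcardX : Nat.card R < Nat.card ↥(preimageAlong θ Xb) := by
      by_contra hcon
      push Not at hcon
      have heq := Subgroup.eq_of_le_of_card_ge hRX hcon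
      apply hXb0
      rw [← himX, ← heq, eq_bot_iff]
      intro y hy
      obtain ⟨r, hrT, hrR, rfl⟩ := (mem_imageAlong θ R y).mp hy
      rw [Subgroup.mem_bot]
      exact (hker _).mpr hrR
    have hXnorm : ∀ t ∈ T, ∀ x ∈ preimageAlong θ Xb, t * x * t⁻¹ ∈ preimageAlong θ Xb := by
      intro t ht x hx
      obtain ⟨hxT, hxθ⟩ := (mem_preimageAlong θ _ x).mp hx
      refine (mem_preimageAlong θ _ _).mpr ⟨T.mul_mem (T.mul_mem ht hxT) (T.inv_mem ht), ?_⟩
      have e1 : (⟨t * x * t⁻¹, T.mul_mem (T.mul_mem ht hxT) (T.inv_mem ht)⟩ : T) =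
          ⟨t, ht⟩ * ⟨x, hxT⟩ * ⟨t, ht⟩⁻¹ := rfl
      rw [e1, map_mul, map_mul, map_inv]
      exact hXbnorm _ _ hxθ
    have hXZ : preimageAlong θ Xb ≤ preimageAlong θ (Pb ⊔ Xb) :=
      preimageAlong_mono θ le_sup_right
    have hψX : ((preimageAlong θ Xb).subgroupOf (preimageAlong θ (Pb ⊔ Xb))).map ψ =
        preimageAlong θ Xb := by
      apply map_eq_of_forall_mem ψ (E.injective_of_mem hψ) hXZ
      intro z hz
      obtain ⟨hzT, hzθ⟩ := (mem_preimageAlong θ _ _).mp hz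
      refine (mem_preimageAlong θ _ _).mpr ⟨hψT z, ?_⟩
      rw [← hind z]
      exact hψbX.le ⟨⟨θ ⟨z, hZT z.2⟩, hZim z⟩, Subgroup.mem_subgroupOf.mpr hzθ, rfl⟩
    obtain ⟨t, ht, hψt⟩ := hX _ hRX hXT hcardX hXnorm _ ψ hψ hXZ hψX
    refine ⟨θ ⟨t, ht⟩, Subgroup.mem_top _, fun xb => ?_⟩
    obtain ⟨z, hz⟩ := hθsurj (xb : ↥T ⧸ R.subgroupOf T)
    have hzZ : (z : Ω) ∈ preimageAlong θ (Pb ⊔ Xb) := by
      refine (mem_preimageAlong θ _ _).mpr ⟨z.2, ?_⟩
      show θ z ∈ Pb ⊔ Xb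
      rw [hz]
      exact Subgroup.mem_sup_left xb.2
    have e1 : (Subgroup.inclusion (le_sup_left : Pb ≤ Pb ⊔ Xb) xb) =
        ⟨θ ⟨(z : Ω), hZT hzZ⟩, hZim ⟨z, hzZ⟩⟩ := by
      apply Subtype.ext
      show (xb : ↥T ⧸ R.subgroupOf T) = θ z
      rw [hz]
    rw [← hψbext xb, e1, hind ⟨z, hzZ⟩]
    have e2 : (⟨ψ ⟨z, hzZ⟩, hψT ⟨z, hzZ⟩⟩ : T) = ⟨t, ht⟩ * z * ⟨t, ht⟩⁻¹ := by
      apply Subtype.ext
      exact hψt ⟨z, hzZ⟩
    rw [e2, map_mul, map_mul, map_inv, hz]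
  have hZb0 := zOf_ne_bot hS'p htop0
  have hJb0 := thompsonSubgroupAOf_ne_bot' hS'p htop0
  have hnt : ∀ g : ↥T ⧸ R.subgroupOf T,
      g ∈ Subgroup.normalizer (((⊤ : Subgroup (↥T ⧸ R.subgroupOf T))) : Set (↥T ⧸ R.subgroupOf T)) :=
    fun g => Subgroup.mem_normalizer_iff.mpr
      (fun h => ⟨fun _ => Subgroup.mem_top _, fun _ => Subgroup.mem_top _⟩)
  have hthb : THyp Eb :=
    ⟨fun Pb φb hφb => hkey _ hZb0 (fun g x hx => conj_mem_zOf (hnt g) hx) Pb φb
        (cent_sub_norm Eb hφb),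
      fun Pb φb hφb => hkey _ hJb0 (fun g x hx => conj_mem_thompsonSubgroupAOf (hnt g) hx)
        Pb φb hφb⟩
  have hEbin : InnerOn Eb := IH _ ⊤ hcard hS'p Eb hEbsat hEbfree hthb
  exact star_of_factor_inner hT E hEsat hsc θ Eb hfac hEbin

/-- **Reduction**: a saturated system that is not inner contains the normalizer system of some
`R ⊴ S` that is saturated, not inner and constrained. -/
theorem reduction_th [Finite S] {p : ℕ} [Fact p.Prime] (hS : IsPGroup p S) (F : FusionSystem S)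
    (hF : F.IsSaturated p) (hfree : p ≠ 2 ∨ F.IsSectionFree p (Equiv.Perm (Fin 4)))
    (IH : TIH.{u} p (Nat.card S)) (hni : ¬ InnerOn F) :
    ∃ (R : Subgroup Ω) (E : FusionSystem (normalizerIn S R)), normalizerIn S R = S ∧
      F.IsNormalizerSystem R E ∧ E.IsSaturated p ∧ ¬ InnerOn E ∧ E.IsConstrained p ∧
        (p ≠ 2 ∨ E.IsSectionFree p (Equiv.Perm (Fin 4))) := by
  obtain ⟨R₀, hR₀0, hR₀N, hR₀b⟩ := exists_bad_normal_th hS F hF hfree IH hni
  have hfin : {R : Subgroup Ω | R ≠ ⊥ ∧ normalizerIn S R = S ∧ Bad F p R}.Finite :=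
    (finite_subgroups_le S).subset (fun R hR => le_of_bad hR.2.2)
  haveI : Finite {R : Subgroup Ω // R ≠ ⊥ ∧ normalizerIn S R = S ∧ Bad F p R} := hfin.to_subtype
  haveI : Nonempty {R : Subgroup Ω // R ≠ ⊥ ∧ normalizerIn S R = S ∧ Bad F p R} :=
    ⟨⟨R₀, hR₀0, hR₀N, hR₀b⟩⟩
  obtain ⟨⟨R, hR0, hRN, hRb⟩, hmax⟩ := Finite.exists_max
    (fun R : {R : Subgroup Ω // R ≠ ⊥ ∧ normalizerIn S R = S ∧ Bad F p R} =>
      Nat.card (R : Subgroup Ω))
  have hRS : R ≤ S := le_of_bad hRb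
  have hRfn := fullyNormalized_of_normalizerIn_eq F hRS hRN
  obtain ⟨E, hE⟩ := Cfsg.Agent.S5096.result F R hRS
  have hEsat := Cfsg.Agent.S5098.result p hS F hF R hRfn E hE
  haveI : Finite ↥(normalizerIn S R) := finite_normalizerIn (S := S) R
  have hTp : IsPGroup p ↥(normalizerIn S R) := isPGroup_of_le hS (normalizerIn_le S R)
  have hniE : ¬ InnerOn E := by
    obtain ⟨Y, α, hRY, hYN, hα, hαR, hαp⟩ := hRb
    refine not_innerOn_of_aut hTp E hYN ?_ hαp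
    rw [mem_autGroup_iff E hYN, hE Y]
    exact mem_normalizerHom_of_aut F hRY hYN hα hαR
  have hRn : E.IsNormal R := normal_self_of_isNormalizerSystem F hRS E hE
  have hfreeE : p ≠ 2 ∨ E.IsSectionFree p (Equiv.Perm (Fin 4)) :=
    hfree.imp id (fun h => normalizer_sectionFree p hS F hF h R hRfn E hE)
  have hIH' : TIH.{u} p (Nat.card ↥(normalizerIn S R)) := by
    rw [hRN]
    exact IH
  have hmaxn : ∀ Q' : Subgroup Ω, E.IsNormal Q' → R ≤ Q' → Q' = R := by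
    intro Q' hQ'n hRQ'
    have hQ'T := hQ'n.1
    haveI : Finite Q' := finite_of_le (hQ'T.trans (normalizerIn_le S R))
    have hQ'b : Bad F p Q' := bad_of_normal_ge F E hE hQ'n hRb
    have hQ'N : normalizerIn S Q' = S := by
      apply normalizerIn_eq_of_forall
      intro s hs x hx
      exact conj_mem_of_isNormal E hQ'n (by rw [hRN]; exact hs) hx
    have hQ'0 : Q' ≠ ⊥ := by
      intro h
      apply hR0
      rw [eq_bot_iff, ← h]
      exact hRQ'
    have h1 := hmax ⟨Q', hQ'0, hQ'N, hQ'b⟩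
    exact (Subgroup.eq_of_le_of_card_ge hRQ' h1).symm
  have hX : ∀ X : Subgroup Ω, R ≤ X → X ≤ normalizerIn S R → Nat.card R < Nat.card X →
      (∀ t ∈ normalizerIn S R, ∀ x ∈ X, t * x * t⁻¹ ∈ X) →
      ∀ (Z : Subgroup Ω) (ψ : Z →* Ω), ψ ∈ E.Hom Z → X ≤ Z → (X.subgroupOf Z).map ψ = X →
        ∃ t ∈ normalizerIn S R, ∀ z : Z, ψ z = t * z * t⁻¹ := by
    intro X hRX hXT hcard hXnorm Z ψ hψ hXZ hψX
    have hXS : X ≤ S := hXT.trans (normalizerIn_le S R)
    haveI : Finite X := finite_of_le hXS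
    have hXN : normalizerIn S X = S :=
      normalizerIn_eq_of_forall (fun s hs x hx => hXnorm s (by rw [hRN]; exact hs) x hx)
    have hX0 : X ≠ ⊥ := by
      intro h
      apply hR0
      rw [eq_bot_iff, ← h]
      exact hRX
    have hXnb : ¬ Bad F p X := fun hb => absurd (hmax ⟨X, hX0, hXN, hb⟩) (not_le.mpr hcard)
    have hXfn := fullyNormalized_of_normalizerIn_eq F hXS hXN
    obtain ⟨NX, hNX⟩ := Cfsg.Agent.S5096.result F X hXS
    have hNXin : InnerOn NX := by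
      by_contra hcon
      exact hXnb (bad_of_not_innerOn hS F hF hXfn NX hNX hcon)
    have hψF := hom_of_normalizerSystem F E hE hψ
    have hZS : Z ≤ S := (F.le_of_mem hψF).1
    have hle : Z ⊔ X ≤ Z := _root_.sup_le le_rfl hXZ
    have hmem : ψ ∈ F.normalizerHom X Z := by
      refine ⟨hψF, ?_, ?_, ψ.comp (Subgroup.inclusion hle), restrict_mem F hψF hle,
        fun z => rfl, ?_⟩
      · rw [hXN]
        exact hZS
      · intro z
        rw [hXN]
        exact (F.le_of_mem hψF).2 z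
      · rw [map_subgroupOf_comp_inclusion_eq hle _ le_sup_right]
        exact hψX
    rw [← hNX Z, hNXin Z] at hmem
    obtain ⟨-, s, hs, hψs⟩ := hmem
    exact ⟨s, by rw [hRN]; exact normalizerIn_le S X hs, hψs⟩
  have hstar := star_th hTp E hEsat hfreeE hRn hR0 hIH' hX
  exact ⟨R, E, hRN, hE, hEsat, hniE,
    ⟨hEsat, R, hRn, centric_of_star hTp E hEsat hRn hstar hmaxn⟩, hfreeE⟩

theorem thompson_step [Finite S] {p : ℕ} [Fact p.Prime] (hS : IsPGroup p S) (F : FusionSystem S)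
    (hF : F.IsSaturated p) (hfree : p ≠ 2 ∨ F.IsSectionFree p (Equiv.Perm (Fin 4)))
    (IH : TIH.{u} p (Nat.card S)) (hth : THyp F) : InnerOn F := by
  by_contra hni
  obtain ⟨R, E, hRN, hE, hEsat, hniE, hcon, hfreeE⟩ := reduction_th hS F hF hfree IH hni
  apply hniE
  haveI : Finite ↥(normalizerIn S R) := finite_normalizerIn (S := S) R
  have hTp : IsPGroup p ↥(normalizerIn S R) := isPGroup_of_le hS (normalizerIn_le S R)
  have hthE : THyp E :=
    thyp_mono hRN E F (fun P φ h => hom_of_normalizerSystem F E hE h) hth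
  exact innerOn_of_constrained_th hTp E hEsat hfreeE hcon hthE

theorem thompson_all {p : ℕ} [Fact p.Prime] (n : ℕ) : TIH.{u} p n := by
  induction n with
  | zero =>
    intro Ω' _ S' _ h
    exact absurd h (Nat.not_lt_zero _)
  | succ n ih =>
    intro Ω' _ S' _ hcard hS' F' hF' hfree' hth'
    by_cases hlt : Nat.card S' < n
    · exact ih Ω' S' hlt hS' F' hF' hfree' hth'
    · have hn : Nat.card S' = n := by omega
      subst hn
      exact thompson_step hS' F' hF' hfree' ih hth'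

/-- **Thompson's normal `p`-complement theorem for fusion systems.** -/
theorem thompson_inner [Finite S] {p : ℕ} [Fact p.Prime] (hS : IsPGroup p S) (F : FusionSystem S)
    (hF : F.IsSaturated p) (hfree : p ≠ 2 ∨ F.IsSectionFree p (Equiv.Perm (Fin 4)))
    (hth : THyp F) : InnerOn F :=
  thompson_step hS F hF hfree (thompson_all _) hth

end Cfsg.Agent.Lib.Helper1.TH
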