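import Mathlib
import Cfsg.Agent.Lib.Helper1.TH2

set_option autoImplicit false
set_option linter.style.haveILetI false
set_option linter.unusedSectionVars false
set_option linter.unusedVariables false
set_option maxHeartbeats 1000000

/-! A strengthened Frobenius criterion for fusion systems: if `Aut_F(Q)` is a `p`-group for every
nontrivial characteristic subgroup `Q` of `S` then the system is inner. -/

namespace Cfsg.Agent.Lib.Helper1.TH

open Cfsg Cfsg.FusionSystem Cfsg.Agent.Lib.Helper9 Cfsg.Agent.Lib.Helper1.KN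
  Cfsg.Agent.Lib.Helper1.KL Cfsg.Agent.Lib.Helper1.QF

universe u

variable {Ω : Type u} [Group Ω] {S : Subgroup Ω}

theorem innerOn_of_bot (F : FusionSystem S) (h0 : S = ⊥) : InnerOn F := by
  intro P
  apply Set.Subset.antisymm
  · intro φ hφ
    obtain ⟨hPS, hφS⟩ := F.le_of_mem hφ
    refine ⟨hPS, 1, S.one_mem, fun x => ?_⟩
    have h1 : (x : Ω) ∈ (⊥ : Subgroup Ω) := h0.le (hPS x.2)
    have h2 : φ x ∈ (⊥ : Subgroup Ω) := h0.le (hφS x)
    rw [Subgroup.mem_bot] at h1 h2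
    rw [h1, h2]
    simp
  · exact innerFusionSystem_le F P

/-- automorphisms of the factor system lift to the full preimage -/
theorem lift_aut {T : Subgroup Ω} [Finite T] (E : FusionSystem T) {R : Subgroup Ω}
    (hsc : E.StronglyClosed R) {Ω' : Type*} [Group Ω'] {S' : Subgroup Ω'} (θ : ↥T →* Ω')
    (Eb : FusionSystem S') (hfac : E.IsFactorSystem R θ Eb) {Yb : Subgroup Ω'} (hYb : Yb ≤ S')
    {αb : MulAut Yb} (hαb : αb ∈ Eb.autGroup Yb) :
    ∃ α ∈ E.autGroup (preimageAlong θ Yb), ∀ (y : ↥(preimageAlong θ Yb))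
      (h1 : ((α y : ↥(preimageAlong θ Yb)) : Ω) ∈ T)
      (h2 : θ ⟨y, preimageAlong_le θ Yb y.2⟩ ∈ Yb),
        θ ⟨((α y : ↥(preimageAlong θ Yb)) : Ω), h1⟩ =
          ((αb ⟨θ ⟨y, preimageAlong_le θ Yb y.2⟩, h2⟩ : Yb) : Ω') := by
  obtain ⟨hRT, hker, hrange, hHom⟩ := hfac
  have h1 := hom_of_mem_autGroup Eb hYb hαb
  obtain ⟨-, φ, hφ, hD, hφT, hDY, hind⟩ := (hHom Yb _).mp h1
  have hr : φ.range = preimageAlong θ Yb := by
    rw [range_eq_preimageAlong_of_induced E hsc θ hker hrange hYb hφ ⟨hD, hφT, hDY, hind⟩,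
      range_subtype_comp_aut]
  obtain ⟨α, hα, hαφ⟩ := exists_aut_of_hom E hφ hr
  refine ⟨α, hα, fun y h1 h2 => ?_⟩
  have e : (⟨((α y : ↥(preimageAlong θ Yb)) : Ω), h1⟩ : T) = ⟨φ y, hφT y⟩ :=
    Subtype.ext (hαφ y)
  rw [e]
  exact (hind y).symm

theorem lift_pow {Y : Type*} [Group Y] {Ω' : Type*} [Group Ω'] (π : Y →* Ω') {Yb : Subgroup Ω'}
    (hπ : ∀ y, π y ∈ Yb) (α : MulAut Y) (αb : MulAut Yb)
    (h : ∀ y, π (α y) = ((αb ⟨π y, hπ y⟩ : Yb) : Ω')) (n : ℕ) (y : Y) :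
    π ((α ^ n) y) = (((αb ^ n) ⟨π y, hπ y⟩ : Yb) : Ω') := by
  induction n generalizing y with
  | zero => simp
  | succ n ih =>
    rw [pow_succ, pow_succ, MulAut.mul_apply, MulAut.mul_apply, ih (α y)]
    have e : (⟨π (α y), hπ (α y)⟩ : Yb) = αb ⟨π y, hπ y⟩ := Subtype.ext (h y)
    rw [e]

theorem lift_pow_eq_one {Y : Type*} [Group Y] {Ω' : Type*} [Group Ω'] (π : Y →* Ω')
    {Yb : Subgroup Ω'} (hπ : ∀ y, π y ∈ Yb) (α : MulAut Y) (αb : MulAut Yb)
    (h : ∀ y, π (α y) = ((αb ⟨π y, hπ y⟩ : Yb) : Ω')) (hsurj : ∀ z : Yb, ∃ y, π y = z) (m : ℕ)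
    (hm : α ^ m = 1) : αb ^ m = 1 := by
  apply MulEquiv.ext
  intro z
  obtain ⟨y, hy⟩ := hsurj z
  have h1 := lift_pow π hπ α αb h m y
  rw [hm] at h1
  apply Subtype.ext
  have e : z = ⟨π y, hπ y⟩ := Subtype.ext hy.symm
  rw [e, ← h1]
  simp

/-- if `W` is normal in `E`, the factor system `E/W` is inner and `Aut_E(W)` is a `p`-group, then
`E` is inner -/
theorem innerOn_of_factor_inner {T : Subgroup Ω} [Finite T] {p : ℕ} [Fact p.Prime]
    (hT : IsPGroup p T) (E : FusionSystem T) (hEsat : E.IsSaturated p) {W : Subgroup Ω}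
    (hWn : E.IsNormal W) {Ω' : Type*} [Group Ω'] {S' : Subgroup Ω'} (θ : ↥T →* Ω')
    (Eb : FusionSystem S') (hfac : E.IsFactorSystem W θ Eb) (hEbin : InnerOn Eb)
    (hWp : IsPGroup p (E.autGroup W)) : InnerOn E := by
  by_contra hni
  obtain ⟨Y₀, α₀, hY₀T, hα₀, hα₀p⟩ := exists_aut_of_not_innerOn hT E hEsat hni
  have hWT := hWn.1
  haveI : Finite W := finite_of_le hWT
  have hsc := stronglyClosed_of_normal E hWn
  obtain ⟨ψ, hψ, hψext, hψW⟩ := hWn.2 Y₀ _ (hom_of_mem_autGroup E hY₀T hα₀)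
  have hrange : ψ.range = Y₀ ⊔ W := by
    rw [range_ext_eq ψ _ hψext hψW, range_subtype_comp_aut]
  obtain ⟨α, hα, hαψ⟩ := exists_aut_of_hom E hψ hrange
  have hYT : Y₀ ⊔ W ≤ T := _root_.sup_le hY₀T hWT
  have hWY : W ≤ Y₀ ⊔ W := le_sup_right
  have hαp : ∀ k : ℕ, α ^ (p ^ k) ≠ 1 := by
    intro k hk
    apply hα₀p k
    apply MulEquiv.ext
    intro y
    apply Subtype.ext
    have h2 := pow_ext (le_sup_left : Y₀ ≤ Y₀ ⊔ W) α α₀
      (fun y => by rw [hαψ, hψext]; rfl) (p ^ k) y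
    rw [← h2, hk]
    rfl
  -- the restriction to `W`
  have hβhom : (ψ.comp (Subgroup.inclusion hWY)) ∈ E.Hom W := restrict_mem E hψ hWY
  have hβr : (ψ.comp (Subgroup.inclusion hWY)).range = W := by
    rw [range_restrict_eq_map hWY ψ]
    exact hψW
  obtain ⟨β, hβ, hβψ⟩ := exists_aut_of_hom E hβhom hβr
  obtain ⟨a, ha⟩ := hWp ⟨β, hβ⟩
  have ha' : β ^ (p ^ a) = 1 := by
    have := congrArg Subtype.val ha
    rw [Subgroup.coe_pow] at this
    exact this
  have hγW : ∀ y : ↥(Y₀ ⊔ W), (y : Ω) ∈ W → (α ^ (p ^ a)) y = y := by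
    intro y hy
    apply Subtype.ext
    have h2 := pow_ext hWY α β (fun w => by rw [hαψ, hβψ]; rfl) (p ^ a) ⟨y, hy⟩
    have e : Subgroup.inclusion hWY ⟨(y : Ω), hy⟩ = y := Subtype.ext rfl
    rw [e] at h2
    rw [h2, ha']
    rfl
  obtain ⟨t, ht, hst⟩ := star_of_factor_inner hT E hEsat hsc θ Eb hfac hEbin (Y₀ ⊔ W)
    (α ^ (p ^ a)) hYT (Subgroup.pow_mem _ hα _)
  have hWnorm : ∀ t ∈ T, ∀ r ∈ W, t * r * t⁻¹ ∈ W :=
    fun t ht r hr => conj_mem_of_isNormal E hWn ht hr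
  obtain ⟨k, hk⟩ := aut_pow_eq_one hT hWY hYT hWnorm (α ^ (p ^ a)) hγW ht hst
  apply hαp (a + k)
  rw [pow_add, pow_mul]
  exact hk

/-- the hypothesis: automizers of nontrivial characteristic subgroups are `p`-groups -/
def CH (p : ℕ) {Ω : Type*} [Group Ω] {S : Subgroup Ω} (F : FusionSystem S) : Prop :=
  ∀ Q : Subgroup Ω, Q ≤ S → Q ≠ ⊥ →
    (∀ (σ : ↥S ≃* ↥S) (x : ↥S), (x : Ω) ∈ Q → ((σ x : ↥S) : Ω) ∈ Q) → IsPGroup p (F.autGroup Q)

/-- the induction hypothesis -/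
def CIH (p n : ℕ) : Prop :=
  ∀ (Ω' : Type u) [Group Ω'] (S' : Subgroup Ω') [Finite S'], Nat.card S' < n → IsPGroup p S' →
    ∀ F' : FusionSystem S', F'.IsSaturated p →
      (p ≠ 2 ∨ F'.IsSectionFree p (Equiv.Perm (Fin 4))) → CH p F' → InnerOn F'

theorem char_transport {X S : Subgroup Ω} (hX : X = S) (Q : Subgroup Ω) :
    (∀ (σ : ↥S ≃* ↥S) (x : ↥S), (x : Ω) ∈ Q → ((σ x : ↥S) : Ω) ∈ Q) ↔
    (∀ (σ : ↥X ≃* ↥X) (x : ↥X), (x : Ω) ∈ Q → ((σ x : ↥X) : Ω) ∈ Q) := by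
  subst hX
  exact Iff.rfl

theorem inner_of_char_normal {T : Subgroup Ω} [Finite T] {p : ℕ} [Fact p.Prime]
    (hT : IsPGroup p T) (E : FusionSystem T) (hEsat : E.IsSaturated p)
    (hfree : p ≠ 2 ∨ E.IsSectionFree p (Equiv.Perm (Fin 4)))
    {W : Subgroup Ω} (hWn : E.IsNormal W) (hW0 : W ≠ ⊥)
    (hWchar : ∀ (σ : ↥T ≃* ↥T) (x : ↥T), (x : Ω) ∈ W → ((σ x : ↥T) : Ω) ∈ W)
    (hCH : CH p E) (IH : CIH.{u} p (Nat.card T)) : InnerOn E := by
  have hWT := hWn.1
  haveI : Finite W := finite_of_le hWT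
  have hsc := stronglyClosed_of_normal E hWn
  haveI : (W.subgroupOf T).Normal := subgroupOf_normal_of_stronglyClosed E hsc
  obtain ⟨θ, hθdef⟩ : ∃ θ : ↥T →* ↥T ⧸ W.subgroupOf T, θ = QuotientGroup.mk' (W.subgroupOf T) :=
    ⟨_, rfl⟩
  obtain ⟨Eb, hfac⟩ := exists_factorSystem_quotient E W hsc
  rw [← hθdef] at hfac
  have hker := hfac.2.1
  have hrange := hfac.2.2.1
  haveI : Finite (↥T ⧸ W.subgroupOf T) := inferInstance
  haveI : Finite ↥(⊤ : Subgroup (↥T ⧸ W.subgroupOf T)) := inferInstance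
  have hS'p : IsPGroup p ↥(⊤ : Subgroup (↥T ⧸ W.subgroupOf T)) :=
    isPGroup_of_range_eq hT θ hrange
  have hEbsat := factorSystem_saturated p hT E hEsat hsc θ Eb hfac
  have hEbfree : p ≠ 2 ∨ Eb.IsSectionFree p (Equiv.Perm (Fin 4)) :=
    hfree.imp id (fun h => factor_sectionFree p hT E hEsat W hWn h θ Eb hfac)
  have hcard : Nat.card ↥(⊤ : Subgroup (↥T ⧸ W.subgroupOf T)) < Nat.card T := by
    rw [Subgroup.card_top]
    have h1 := Subgroup.card_eq_card_quotient_mul_card_subgroup (W.subgroupOf T)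
    have h2 : Nat.card ↥(W.subgroupOf T) = Nat.card W :=
      Nat.card_congr (Subgroup.subgroupOfEquivOfLe hWT).toEquiv
    have h3 : 1 < Nat.card W := (Subgroup.one_lt_card_iff_ne_bot W).mpr hW0
    have h4 : 0 < Nat.card (↥T ⧸ W.subgroupOf T) := Nat.card_pos
    rw [h2] at h1
    nlinarith
  have hCHb : CH p Eb := by
    intro Qb hQb hQb0 hQbchar
    have hQT : preimageAlong θ Qb ≤ T := preimageAlong_le θ Qb
    have hWQ : W ≤ preimageAlong θ Qb := ker_le_preimageAlong θ hWT hker _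
    have hQ0 : preimageAlong θ Qb ≠ ⊥ := by
      intro h
      apply hW0
      rw [eq_bot_iff, ← h]
      exact hWQ
    have hQchar : ∀ (σ : ↥T ≃* ↥T) (x : ↥T), (x : Ω) ∈ preimageAlong θ Qb →
        ((σ x : ↥T) : Ω) ∈ preimageAlong θ Qb := by
      intro σ x hx
      obtain ⟨hxT, hxθ⟩ := (mem_preimageAlong θ Qb _).mp hx
      have hxθ' : θ x ∈ Qb := hxθ
      have he : Subgroup.map (σ : ↥T →* ↥T) (W.subgroupOf T) = W.subgroupOf T := by
        ext w
        constructor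
        · rintro ⟨v, hv, rfl⟩
          exact Subgroup.mem_subgroupOf.mpr (hWchar σ v (Subgroup.mem_subgroupOf.mp hv))
        · intro hw
          exact ⟨σ.symm w, Subgroup.mem_subgroupOf.mpr
            (hWchar σ.symm w (Subgroup.mem_subgroupOf.mp hw)), σ.apply_symm_apply w⟩
      obtain ⟨σb, hσb⟩ : ∃ σb : (↥T ⧸ W.subgroupOf T) ≃* (↥T ⧸ W.subgroupOf T),
          ∀ y : ↥T, σb (θ y) = θ (σ y) := by
        refine ⟨QuotientGroup.congr (W.subgroupOf T) (W.subgroupOf T) σ he, fun y => ?_⟩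
        rw [hθdef]
        exact QuotientGroup.congr_mk' _ _ σ he y
      have h3 := hQbchar (Subgroup.topEquiv.trans (σb.trans Subgroup.topEquiv.symm))
        ⟨θ x, Subgroup.mem_top _⟩ hxθ'
      have h4 : σb (θ x) ∈ Qb := h3
      rw [hσb x] at h4
      exact (mem_preimageAlong θ Qb _).mpr ⟨(σ x).2, h4⟩
    have hAut : IsPGroup p (E.autGroup (preimageAlong θ Qb)) := hCH _ hQT hQ0 hQchar
    intro ab
    obtain ⟨α, hα, hlift⟩ := lift_aut E hsc θ Eb hfac hQb ab.2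
    obtain ⟨k, hk⟩ := hAut ⟨α, hα⟩
    have hk' : α ^ (p ^ k) = 1 := by
      have := congrArg Subtype.val hk
      rw [Subgroup.coe_pow] at this
      exact this
    have hπ : ∀ y : ↥(preimageAlong θ Qb), (θ.comp (Subgroup.inclusion hQT)) y ∈ Qb :=
      fun y => ((mem_preimageAlong θ Qb _).mp y.2).2
    have hsurj : ∀ z : Qb, ∃ y : ↥(preimageAlong θ Qb),
        (θ.comp (Subgroup.inclusion hQT)) y = z := by
      intro z
      obtain ⟨d, hd⟩ := exists_preimage_of_mem_range θ hrange hQb z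
      exact ⟨d, hd⟩
    have hone := lift_pow_eq_one (θ.comp (Subgroup.inclusion hQT)) hπ α ab.1
      (fun y => hlift y (hQT (α y).2) (hπ y)) hsurj (p ^ k) hk'
    refine ⟨k, ?_⟩
    apply Subtype.ext
    rw [Subgroup.coe_pow]
    exact hone
  have hEbin : InnerOn Eb := IH _ ⊤ hcard hS'p Eb hEbsat hEbfree hCHb
  exact innerOn_of_factor_inner hT E hEsat hWn θ Eb hfac hEbin (hCH W hWT hW0 hWchar)

theorem char_step [Finite S] {p : ℕ} [Fact p.Prime] (hS : IsPGroup p S) (F : FusionSystem S)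
    (hF : F.IsSaturated p) (hfree : p ≠ 2 ∨ F.IsSectionFree p (Equiv.Perm (Fin 4)))
    (IH : CIH.{u} p (Nat.card S)) (hCH : CH p F) : InnerOn F := by
  by_cases hS0 : S = ⊥
  · exact innerOn_of_bot F hS0
  have hkeyW : ∀ W : Subgroup Ω, W ≤ S → W ≠ ⊥ →
      (∀ (σ : ↥S ≃* ↥S) (x : ↥S), (x : Ω) ∈ W → ((σ x : ↥S) : Ω) ∈ W) →
      ∀ (P : Subgroup Ω) (φ : P →* Ω), φ ∈ F.normalizerHom W P →
        ∃ t ∈ S, ∀ x : P, φ x = t * x * t⁻¹ := by
    intro W hWS hW0 hWchar P φ hφ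
    haveI : Finite W := finite_of_le hWS
    have hWconj : ∀ s ∈ S, ∀ x ∈ W, s * x * s⁻¹ ∈ W := by
      intro s hs x hx
      exact hWchar (conjEquiv S s (Subgroup.le_normalizer hs)) ⟨x, hWS hx⟩ hx
    have hWN : normalizerIn S W = S := normalizerIn_eq_of_forall hWconj
    have hWfn := fullyNormalized_of_normalizerIn_eq F hWS hWN
    obtain ⟨N, hN⟩ := Cfsg.Agent.S5096.result F W hWS
    have hNsat := Cfsg.Agent.S5098.result p hS F hF W hWfn N hN
    haveI : Finite ↥(normalizerIn S W) := finite_normalizerIn (S := S) W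
    have hTp : IsPGroup p ↥(normalizerIn S W) := isPGroup_of_le hS (normalizerIn_le S W)
    have hNfree : p ≠ 2 ∨ N.IsSectionFree p (Equiv.Perm (Fin 4)) :=
      hfree.imp id (fun h => normalizer_sectionFree p hS F hF h W hWfn N hN)
    have hWnN : N.IsNormal W := normal_self_of_isNormalizerSystem F hWS N hN
    have hWchar' := (char_transport hWN W).mp hWchar
    have hCHN : CH p N := by
      intro Q hQT hQ0 hQchar
      have hQS : Q ≤ S := hQT.trans (normalizerIn_le S W)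
      have hQcharS := (char_transport hWN Q).mpr hQchar
      have hpF := hCH Q hQS hQ0 hQcharS
      intro a
      have haF : (a : MulAut Q) ∈ F.autGroup Q := by
        rw [mem_autGroup_iff F hQS]
        exact hom_of_normalizerSystem F N hN (hom_of_mem_autGroup N hQT a.2)
      obtain ⟨k, hk⟩ := hpF ⟨a, haF⟩
      refine ⟨k, ?_⟩
      apply Subtype.ext
      rw [Subgroup.coe_pow]
      have := congrArg Subtype.val hk
      rw [Subgroup.coe_pow] at this
      exact this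
    have hIH' : CIH.{u} p (Nat.card ↥(normalizerIn S W)) := by
      rw [hWN]
      exact IH
    have hNin := inner_of_char_normal hTp N hNsat hNfree hWnN hW0 hWchar' hCHN hIH'
    rw [← hN P, hNin P] at hφ
    obtain ⟨-, t, ht, hφt⟩ := hφ
    exact ⟨t, normalizerIn_le S W ht, hφt⟩
  have hZchar : ∀ (σ : ↥S ≃* ↥S) (x : ↥S), (x : Ω) ∈ S ⊓ Subgroup.centralizer (S : Set Ω) →
      ((σ x : ↥S) : Ω) ∈ S ⊓ Subgroup.centralizer (S : Set Ω) := by
    intro σ x hx
    have h0 : ((σ x : ↥S) : Ω) ∈ Subgroup.centralizer (S : Set Ω) := by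
      refine Subgroup.mem_centralizer_iff.mpr (fun y hy => ?_)
      have h1 : ((σ.symm ⟨y, hy⟩ : ↥S) : Ω) * x = x * (σ.symm ⟨y, hy⟩ : ↥S) :=
        Subgroup.mem_centralizer_iff.mp hx.2 _ (σ.symm ⟨y, hy⟩).2
      have h2 : σ.symm ⟨y, hy⟩ * x = x * σ.symm ⟨y, hy⟩ := Subtype.ext h1
      have h3 := congrArg σ h2
      rw [map_mul, map_mul, MulEquiv.apply_symm_apply] at h3
      exact congrArg Subtype.val h3
    exact ⟨(σ x).2, h0⟩
  have hJchar : ∀ (σ : ↥S ≃* ↥S) (x : ↥S), (x : Ω) ∈ thompsonSubgroupAOf S →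
      ((σ x : ↥S) : Ω) ∈ thompsonSubgroupAOf S :=
    fun σ x hx => (mem_thompsonSubgroupAOf_iff_of_equiv σ x).mp hx
  have hth : THyp F :=
    ⟨fun P φ hφ => hkeyW _ inf_le_left (zOf_ne_bot hS hS0) hZchar P φ (cent_sub_norm F hφ),
      fun P φ hφ => hkeyW _ (thompsonSubgroupAOf_le' S) (thompsonSubgroupAOf_ne_bot' hS hS0)
        hJchar P φ hφ⟩
  exact thompson_inner hS F hF hfree hth

theorem char_all {p : ℕ} [Fact p.Prime] (n : ℕ) : CIH.{u} p n := by
  induction n with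
  | zero =>
    intro Ω' _ S' _ h
    exact absurd h (Nat.not_lt_zero _)
  | succ n ih =>
    intro Ω' _ S' _ hcard hS' F' hF' hfree' hCH'
    by_cases hlt : Nat.card S' < n
    · exact ih Ω' S' hlt hS' F' hF' hfree' hCH'
    · have hn : Nat.card S' = n := by omega
      subst hn
      exact char_step hS' F' hF' hfree' ih hCH'

/-- **a strengthened Frobenius criterion for fusion systems** -/
theorem char_inner [Finite S] {p : ℕ} [Fact p.Prime] (hS : IsPGroup p S) (F : FusionSystem S)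
    (hF : F.IsSaturated p) (hfree : p ≠ 2 ∨ F.IsSectionFree p (Equiv.Perm (Fin 4)))
    (hCH : CH p F) : InnerOn F :=
  char_step hS F hF hfree (char_all _) hCH

end Cfsg.Agent.Lib.Helper1.TH
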