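import Mathlib
import Cfsg.Agent.Lib.Helper1.TH3
import Cfsg.Agent.Lib.Helper9.CentralCrit
import Cfsg.Agent.Lib.Helper9.FusionSat4
import Cfsg.Agent.Lib.Helper1.FStab5

set_option autoImplicit false
set_option linter.style.haveILetI false
set_option linter.unusedSectionVars false
set_option linter.unusedVariables false
set_option maxHeartbeats 1000000

/-! Control of weak closure of elements by positive characteristic functors, part 1:
definitions, elementary lemmas and the constrained case. -/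

namespace Cfsg.Agent.Lib.Helper1.WC

open Cfsg Cfsg.FusionSystem Cfsg.Agent.Lib.Helper9 Cfsg.Agent.Lib.Helper1.KN
  Cfsg.Agent.Lib.Helper1.KL Cfsg.Agent.Lib.Helper1.QF Cfsg.Agent.Lib.Helper1.GF

universe u v

section defs

variable {Ω : Type*} [Group Ω]

/-- every map of the system fixes the elements of `Z₀` lying in its source -/
def FixG {T : Subgroup Ω} (E : FusionSystem T) (Z₀ : Subgroup Ω) : Prop :=
  ∀ (P : Subgroup Ω) (φ : P →* Ω), φ ∈ E.Hom P → ∀ y : P, (y : Ω) ∈ Z₀ → φ y = y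

/-- every map of the normalizer system of `X` fixes the elements of `Z₀` lying in its source -/
def NFixG {T : Subgroup Ω} (E : FusionSystem T) (X Z₀ : Subgroup Ω) : Prop :=
  ∀ (P : Subgroup Ω) (φ : P →* Ω), φ ∈ E.normalizerHom X P → ∀ y : P, (y : Ω) ∈ Z₀ → φ y = y

/-- `Z₀` is an admissible subgroup of the centre of `T` -/
def Adm (p : ℕ) (pw : Prop) (T Z₀ : Subgroup Ω) : Prop :=
  Z₀ ≤ T ⊓ Subgroup.centralizer (T : Set Ω) ∧
    (pw → ∀ z ∈ Z₀, ∃ y ∈ T ⊓ Subgroup.centralizer (T : Set Ω), y ^ p = z)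

theorem fixG_of_isCentral {T : Subgroup Ω} (E : FusionSystem T) {Z₀ : Subgroup Ω}
    (h : E.IsCentral Z₀) : FixG E Z₀ :=
  fun P φ hφ y hy => map_eq_of_isCentral E h hφ y hy

theorem isCentral_of_fixG {T : Subgroup Ω} [Finite T] {p : ℕ} [Fact p.Prime] (hT : IsPGroup p T)
    (E : FusionSystem T) (hE : E.IsSaturated p) {Z₀ : Subgroup Ω} (hZ : Z₀ ≤ T)
    (h : FixG E Z₀) : E.IsCentral Z₀ := by
  rw [central_iff_singleton_classes p hT E hE Z₀]
  refine ⟨hZ, ?_⟩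
  rintro x hx y ⟨φ, hφ, hφx⟩
  rw [← hφx]
  exact h _ φ hφ ⟨x, Subgroup.mem_zpowers x⟩ hx

theorem nfix_mono {T S : Subgroup Ω} (h : T = S) (E : FusionSystem T) (F : FusionSystem S)
    (hsub : ∀ P, E.Hom P ⊆ F.Hom P) {X Z₀ : Subgroup Ω} (hF : NFixG F X Z₀) : NFixG E X Z₀ := by
  subst h
  intro P φ hφ
  apply hF P φ
  obtain ⟨h1, h2, h3, ψ, hψ, h4, h5⟩ := hφ
  exact ⟨hsub P h1, h2, h3, ψ, hsub _ hψ, h4, h5⟩

theorem adm_congr {p : ℕ} {pw : Prop} {T S Z₀ : Subgroup Ω} (h : T = S) (hS : Adm p pw S Z₀) :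
    Adm p pw T Z₀ := by
  subst h
  exact hS

theorem adm_sub {p : ℕ} {pw : Prop} {T S Z₀ : Subgroup Ω} (hTS : T ≤ S)
    (hZ : S ⊓ Subgroup.centralizer (S : Set Ω) ≤ T) (hS : Adm p pw S Z₀) : Adm p pw T Z₀ := by
  have hmono : ∀ z ∈ S ⊓ Subgroup.centralizer (S : Set Ω),
      z ∈ T ⊓ Subgroup.centralizer (T : Set Ω) := by
    intro z hz
    have h2 : z ∈ Subgroup.centralizer (T : Set Ω) :=
      Subgroup.centralizer_le (SetLike.coe_subset_coe.mpr hTS) hz.2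
    exact ⟨hZ hz, h2⟩
  refine ⟨fun z hz => hmono z (hS.1 hz), fun hpw z hz => ?_⟩
  obtain ⟨y, hy, hyz⟩ := hS.2 hpw z hz
  exact ⟨y, hmono y hy, hyz⟩

theorem center_le_normalizerIn {S V : Subgroup Ω} (hVS : V ≤ S) :
    S ⊓ Subgroup.centralizer (S : Set Ω) ≤ normalizerIn S V := by
  intro z hz
  have h1 : z ∈ Subgroup.centralizer (V : Set Ω) :=
    Subgroup.centralizer_le (SetLike.coe_subset_coe.mpr hVS) hz.2
  have h2 : z ∈ Subgroup.normalizer (V : Set Ω) := Subgroup.centralizer_le_normalizer _ h1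
  exact ⟨hz.1, h2⟩

theorem top_of_sup {A B Y : Subgroup Ω} (hY : Y = A ⊔ B) (K : Subgroup ↥Y)
    (hA : ∀ (a : Ω) (_ : a ∈ A) (h : a ∈ Y), (⟨a, h⟩ : ↥Y) ∈ K)
    (hB : ∀ (b : Ω) (_ : b ∈ B) (h : b ∈ Y), (⟨b, h⟩ : ↥Y) ∈ K) : ∀ x : ↥Y, x ∈ K := by
  have hAY : A ≤ Y := by rw [hY]; exact le_sup_left
  have hBY : B ≤ Y := by rw [hY]; exact le_sup_right
  have hle : A ⊔ B ≤ K.map Y.subtype :=
    _root_.sup_le (fun a ha => ⟨⟨a, hAY ha⟩, hA a ha _, rfl⟩)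
      (fun b hb => ⟨⟨b, hBY hb⟩, hB b hb _, rfl⟩)
  intro x
  obtain ⟨k, hk, hkx⟩ := hle (hY.le x.2)
  have e : k = x := Subtype.ext hkx
  rw [← e]
  exact hk

theorem top_of_gen {y : Ω} {R Y : Subgroup Ω} (hY : Y = Subgroup.zpowers y ⊔ R) (K : Subgroup ↥Y)
    (hy : ∀ h : y ∈ Y, (⟨y, h⟩ : ↥Y) ∈ K)
    (hR : ∀ (r : Ω) (_ : r ∈ R) (h : r ∈ Y), (⟨r, h⟩ : ↥Y) ∈ K) : ∀ x : ↥Y, x ∈ K := by
  have hyY : y ∈ Y := by rw [hY]; exact Subgroup.mem_sup_left (Subgroup.mem_zpowers y)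
  apply top_of_sup hY K _ hR
  intro a ha h
  obtain ⟨n, rfl⟩ := Subgroup.mem_zpowers_iff.mp ha
  have e : (⟨y ^ n, h⟩ : ↥Y) = (⟨y, hyY⟩ : ↥Y) ^ n := Subtype.ext (by rw [Subgroup.coe_zpow])
  rw [e]
  exact K.zpow_mem (hy hyY) n

theorem conj_mem_sup {A B : Subgroup Ω} {t : Ω} (hA : ∀ x ∈ A, t * x * t⁻¹ ∈ A)
    (hB : ∀ x ∈ B, t * x * t⁻¹ ∈ B) : ∀ x ∈ A ⊔ B, t * x * t⁻¹ ∈ A ⊔ B := by
  intro x hx
  have h1 : (A ⊔ B).map (MulAut.conj t).toMonoidHom ≤ A ⊔ B := by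
    rw [Subgroup.map_sup]
    apply _root_.sup_le_sup
    · rintro _ ⟨a, ha, rfl⟩
      exact hA a ha
    · rintro _ ⟨b, hb, rfl⟩
      exact hB b hb
  exact h1 ⟨x, hx, rfl⟩

theorem conj_mem_centralizer {R : Subgroup Ω} {g x : Ω}
    (hg : g ∈ Subgroup.normalizer (R : Set Ω)) (hx : x ∈ Subgroup.centralizer (R : Set Ω)) :
    g * x * g⁻¹ ∈ Subgroup.centralizer (R : Set Ω) := by
  have hg' : g⁻¹ ∈ Subgroup.normalizer (R : Set Ω) := Subgroup.inv_mem _ hg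
  refine Subgroup.mem_centralizer_iff.mpr (fun t ht => ?_)
  have h3 : g⁻¹ * t * g ∈ R := by
    have := (Subgroup.mem_normalizer_iff.mp hg' t).mp ht
    simpa using this
  have h4 := Subgroup.mem_centralizer_iff.mp hx _ h3
  calc t * (g * x * g⁻¹) = g * (g⁻¹ * t * g * x) * g⁻¹ := by group
    _ = g * (x * (g⁻¹ * t * g)) * g⁻¹ := by rw [h4]
    _ = g * x * g⁻¹ * t := by group

/-- the fixed points of an automorphism -/
def fixSub {Y : Type*} [Group Y] (α : MulAut Y) : Subgroup Y where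
  carrier := {x | α x = x}
  one_mem' := map_one α
  mul_mem' := by
    intro x y hx hy
    have hx' : α x = x := hx
    have hy' : α y = y := hy
    show α (x * y) = x * y
    rw [map_mul, hx', hy']
  inv_mem' := by
    intro x hx
    have hx' : α x = x := hx
    show α x⁻¹ = x⁻¹
    rw [map_inv, hx']

theorem mem_fixSub {Y : Type*} [Group Y] (α : MulAut Y) (x : Y) : x ∈ fixSub α ↔ α x = x :=
  Iff.rfl

theorem exists_pow_of_mem_closure (Z : Subgroup Ω) (hZ : ∀ a ∈ Z, ∀ b ∈ Z, a * b = b * a)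
    (p : ℕ) {z : Ω} (hz : z ∈ Subgroup.closure ((fun x : Ω => x ^ p) '' (Z : Set Ω))) :
    ∃ y ∈ Z, y ^ p = z := by
  induction hz using Subgroup.closure_induction with
  | mem x hx =>
    obtain ⟨y, hy, rfl⟩ := hx
    exact ⟨y, hy, rfl⟩
  | one => exact ⟨1, Z.one_mem, one_pow p⟩
  | mul a b _ _ iha ihb =>
    obtain ⟨y₁, hy₁, rfl⟩ := iha
    obtain ⟨y₂, hy₂, rfl⟩ := ihb
    have hc : Commute y₁ y₂ := hZ y₁ hy₁ y₂ hy₂
    exact ⟨y₁ * y₂, Z.mul_mem hy₁ hy₂, hc.mul_pow p⟩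
  | inv a _ iha =>
    obtain ⟨y, hy, rfl⟩ := iha
    exact ⟨y⁻¹, Z.inv_mem hy, inv_pow y p⟩

end defs

/-- the local hypothesis on groups of characteristic `p` -/
def LH (p : ℕ) (W : ∀ (Q : Type u) [Group Q], Subgroup Q) (pw c : Prop) (H : Type v) [Group H] :
    Prop :=
  ∀ (L : Type u) [Group L] [Finite L] (P : Sylow p L),
    Subgroup.centralizer ((pCore p L : Subgroup L) : Set L) ≤ pCore p L →
    (c ∨ ¬ Involves H L) →
    ∀ x ∈ (P : Subgroup L) ⊓ Subgroup.centralizer ((P : Subgroup L) : Set L),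
      (pw → ∃ y ∈ (P : Subgroup L) ⊓ Subgroup.centralizer ((P : Subgroup L) : Set L),
        y ^ p = x) →
      (∀ n ∈ Subgroup.normalizer ((Wsub W (P : Subgroup L) : Subgroup L) : Set L),
        n * x * n⁻¹ = x) →
      ∀ g : L, g * x * g⁻¹ ∈ (P : Subgroup L) → g * x * g⁻¹ = x

/-- the induction hypothesis: the theorem for all smaller `p`-groups -/
def WIH (p : ℕ) (W : ∀ (Q : Type u) [Group Q], Subgroup Q) (pw c : Prop) (H : Type v) [Group H]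
    (n : ℕ) : Prop :=
  ∀ (Ω' : Type u) [Group Ω'] (S' : Subgroup Ω') [Finite S'], Nat.card S' < n → IsPGroup p S' →
    ∀ F' : FusionSystem S', F'.IsSaturated p → (c ∨ F'.IsSectionFree p H) →
      ∀ Z₀ : Subgroup Ω', Adm p pw S' Z₀ → NFixG F' (Wsub W S') Z₀ → FixG F' Z₀

section functor

variable {p : ℕ} [Fact p.Prime] (W : ∀ (Q : Type u) [Group Q], Subgroup Q)

/-- the value of the functor on a subgroup is invariant under its normalizer -/
theorem conj_mem_Wsub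
    (hW2 : ∀ (Q R : Type u) [Group Q] [Group R] [Finite Q], IsPGroup p Q →
      ∀ φ : Q ≃* R, (W Q).map φ.toMonoidHom = W R)
    {L : Type u} [Group L] {P : Subgroup L} [Finite P] (hP : IsPGroup p P) {n : L}
    (hn : n ∈ Subgroup.normalizer (P : Set L)) {x : L} (hx : x ∈ Wsub W P) :
    n * x * n⁻¹ ∈ Wsub W P := by
  obtain ⟨x', hx', rfl⟩ := hx
  have h1 := hW2 ↥P ↥P hP (conjEquiv P n hn)
  refine ⟨conjEquiv P n hn x', ?_, rfl⟩
  rw [← h1]
  exact ⟨x', hx', rfl⟩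

/-- the theorem for a system with a model -/
theorem fixG_of_model
    (hW2 : ∀ (Q R : Type u) [Group Q] [Group R] [Finite Q], IsPGroup p Q →
      ∀ φ : Q ≃* R, (W Q).map φ.toMonoidHom = W R)
    {pw c : Prop} {H : Type v} [Group H] (hLH : LH.{u, v} p W pw c H)
    {Ω : Type u} [Group Ω] {T : Subgroup Ω} [Finite T] {L : Type u} [Group L]
    (hT : IsPGroup p T) (E : FusionSystem T) (ι : ↥T →* L) (hmodel : E.IsModel p L ι)
    (hfree : c ∨ ¬ Involves H L) {Z₀ : Subgroup Ω} (hadm : Adm p pw T Z₀)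
    (hN : NFixG E (Wsub W T) Z₀) : FixG E Z₀ := by
  obtain ⟨hfin, hreal, ⟨Sy, hSy⟩, hcent⟩ := hmodel
  haveI := hfin
  have hinj := hreal.1
  have hιSy : ∀ t : T, ι t ∈ (Sy : Subgroup L) := fun t => by rw [hSy]; exact ⟨t, rfl⟩
  have hZ : ∀ x : T, (x : Ω) ∈ T ⊓ Subgroup.centralizer (T : Set Ω) →
      ι x ∈ (Sy : Subgroup L) ⊓ Subgroup.centralizer ((Sy : Subgroup L) : Set L) := by
    rintro x ⟨-, hx⟩
    have h0 : ι x ∈ Subgroup.centralizer ((Sy : Subgroup L) : Set L) := by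
      refine Subgroup.mem_centralizer_iff.mpr (fun y hy => ?_)
      have hy' : y ∈ ι.range := by rw [← hSy]; exact hy
      obtain ⟨t, rfl⟩ := hy'
      have h1 : (t : Ω) * x = x * t := Subgroup.mem_centralizer_iff.mp hx t t.2
      have h2 : t * x = x * t := Subtype.ext h1
      rw [← map_mul, ← map_mul, h2]
    exact ⟨hιSy x, h0⟩
  have hWmap : (W ↥T).map ι = Wsub W (Sy : Subgroup L) :=
    W_map_hom W hW2 hT ι hinj _ hSy.symm
  have hWiff : ∀ w : T, (w : Ω) ∈ Wsub W T ↔ ι w ∈ Wsub W (Sy : Subgroup L) := by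
    intro w
    rw [← hWmap]
    constructor
    · rintro ⟨w', hw', hww'⟩
      have e : w' = w := Subtype.ext hww'
      rw [← e]
      exact ⟨w', hw', rfl⟩
    · rintro ⟨w', hw', hww'⟩
      have e : w' = w := hinj hww'
      rw [← e]
      exact ⟨w', hw', rfl⟩
  have hNT : normalizerIn T (Wsub W T) = T :=
    normalizerIn_W_top (Wsub W) (fun T' => Wsub_le W T')
      (fun T₁ T₂ φ h1 h2 h3 => Wsub_map W hW2 hT T₁ T₂ φ h1 h2 h3)
  have hTN : ∀ t ∈ T, t ∈ normalizerIn T (Wsub W T) := fun t ht => by rw [hNT]; exact ht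
  have hWT : Wsub W T ≤ T := Wsub_le W T
  haveI : Finite ↥(Wsub W T) := finite_of_le hWT
  have hpcSy : pCore p L ≤ (Sy : Subgroup L) := Cfsg.Agent.Lib.Helper7.pCore_le_sylow Sy
  intro P φ hφ y hy
  obtain ⟨hPT, hφT⟩ := E.le_of_mem hφ
  have hyT : (y : Ω) ∈ T := hPT y.2
  have hyZ : (y : Ω) ∈ T ⊓ Subgroup.centralizer (T : Set Ω) := hadm.1 hy
  have hxZ := hZ ⟨y, hyT⟩ hyZ
  have hxpc : ι ⟨y, hyT⟩ ∈ pCore p L :=
    hcent (Subgroup.centralizer_le (SetLike.coe_subset_coe.mpr hpcSy) hxZ.2)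
  have hconj : ∀ g : L, g * ι ⟨y, hyT⟩ * g⁻¹ ∈ (Sy : Subgroup L) := fun g =>
    hpcSy ((inferInstance : (pCore p L).Normal).conj_mem _ hxpc g)
  have hnorm : ∀ n ∈ Subgroup.normalizer ((Wsub W (Sy : Subgroup L) : Subgroup L) : Set L),
      n * ι ⟨y, hyT⟩ * n⁻¹ = ι ⟨y, hyT⟩ := by
    intro n hn
    obtain ⟨Q₀, hQ₀T, φ₀, hφ₀T, hφ₀E, hφ₀ι, hQ₀mem⟩ := exists_hom_of_conj E ι hreal n
    have hWQ₀ : Wsub W T ≤ Q₀ := by
      intro w hw
      apply hQ₀mem w (hWT hw)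
      have h1 := (hWiff ⟨w, hWT hw⟩).mp hw
      have h2 := (Subgroup.mem_normalizer_iff.mp hn _).mp h1
      have h3 := Wsub_le W _ h2
      rw [hSy] at h3
      exact h3
    have hφW : ∀ z : Q₀, (z : Ω) ∈ Wsub W T → φ₀ z ∈ Wsub W T := by
      intro z hz
      apply (hWiff ⟨φ₀ z, hφ₀T z⟩).mpr
      have h2 := (hWiff ⟨z, hQ₀T z.2⟩).mp hz
      have h3 := (Subgroup.mem_normalizer_iff.mp hn _).mp h2
      rw [hφ₀ι z]
      exact h3
    have hyQ₀ : (y : Ω) ∈ Q₀ := by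
      apply hQ₀mem (y : Ω) hyT
      rw [← hSy]
      exact hconj n
    have hle : Q₀ ⊔ Wsub W T ≤ Q₀ := _root_.sup_le le_rfl hWQ₀
    have hmem : φ₀ ∈ E.normalizerHom (Wsub W T) Q₀ := by
      refine ⟨hφ₀E, fun z hz => hTN z (hQ₀T hz), fun z => hTN _ (hφ₀T z),
        φ₀.comp (Subgroup.inclusion hle), restrict_mem E hφ₀E hle, fun z => rfl, ?_⟩
      rw [map_subgroupOf_comp_inclusion_eq hle _ le_sup_right]
      exact map_eq_of_forall_mem φ₀ (E.injective_of_mem hφ₀E) hWQ₀ hφW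
    have h1 := hN Q₀ φ₀ hmem ⟨y, hyQ₀⟩ hy
    have h2 := hφ₀ι ⟨y, hyQ₀⟩
    rw [← h2]
    congr 1
    exact Subtype.ext h1
  have hpwL : pw → ∃ y' ∈ (Sy : Subgroup L) ⊓ Subgroup.centralizer ((Sy : Subgroup L) : Set L),
      y' ^ p = ι ⟨y, hyT⟩ := by
    intro hpw
    obtain ⟨y', hy', hyp⟩ := hadm.2 hpw y hy
    refine ⟨ι ⟨y', hy'.1⟩, hZ ⟨y', hy'.1⟩ hy', ?_⟩
    rw [← map_pow]
    congr 1
    apply Subtype.ext
    rw [Subgroup.coe_pow]
    exact hyp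
  have hall := hLH L Sy hcent hfree (ι ⟨y, hyT⟩) hxZ hpwL hnorm
  obtain ⟨g, hg⟩ := (hreal.2 P hPT φ hφT).mp hφ
  have h1 := hg y
  rw [hall g (hconj g)] at h1
  exact congrArg Subtype.val (hinj h1)

/-- the theorem for constrained systems -/
theorem fixG_of_constrained
    (hW2 : ∀ (Q R : Type u) [Group Q] [Group R] [Finite Q], IsPGroup p Q →
      ∀ φ : Q ≃* R, (W Q).map φ.toMonoidHom = W R)
    {pw c : Prop} {H : Type v} [Group H] (hLH : LH.{u, v} p W pw c H)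
    {Ω : Type u} [Group Ω] {T : Subgroup Ω} [Finite T] (hT : IsPGroup p T) (E : FusionSystem T)
    (hEsat : E.IsSaturated p) (hfree : c ∨ E.IsSectionFree p H) (hcon : E.IsConstrained p)
    {Z₀ : Subgroup Ω} (hadm : Adm p pw T Z₀) (hN : NFixG E (Wsub W T) Z₀) : FixG E Z₀ := by
  obtain ⟨-, Q₀, hQ₀n, hQ₀c⟩ := hcon
  have hQ₀T : Q₀ ≤ T := hQ₀n.1
  haveI : Finite Q₀ := finite_of_le hQ₀T
  have hNQ : normalizerIn T Q₀ = T :=
    normalizerIn_eq_of_forall (fun s hs x hx => conj_mem_of_isNormal E hQ₀n hs hx)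
  have hQ₀fn : E.IsFullyNormalized Q₀ := fullyNormalized_of_normalizerIn_eq E hQ₀T hNQ
  obtain ⟨N₀, hN₀⟩ := Cfsg.Agent.S5096.result E Q₀ hQ₀T
  have hN₀sat := Cfsg.Agent.S5098.result p hT E hEsat Q₀ hQ₀fn N₀ hN₀
  have hN₀con : N₀.IsConstrained p :=
    ⟨hN₀sat, Q₀, normal_self_of_isNormalizerSystem E hQ₀T N₀ hN₀,
      centric_self_of_isNormalizerSystem E hQ₀c N₀ hN₀⟩
  haveI : Finite ↥(normalizerIn T Q₀) := finite_of_le (normalizerIn_le T Q₀)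
  have hTp : IsPGroup p ↥(normalizerIn T Q₀) := isPGroup_of_le hT (normalizerIn_le T Q₀)
  obtain ⟨L, _, ι, hL⟩ := Cfsg.Agent.S5090.result p hTp N₀ hN₀con
  have hfreeL : c ∨ ¬ Involves H L := hfree.imp id (fun h => h Q₀ hQ₀fn hQ₀c N₀ hN₀ L ι hL)
  have hEF : ∀ P, N₀.Hom P = E.Hom P := fun P =>
    (hN₀ P).trans (normalizerHom_eq_of_isNormal E hQ₀n hNQ P)
  have hW : Wsub W (normalizerIn T Q₀) = Wsub W T := congrArg (Wsub W) hNQ
  have hN' : NFixG N₀ (Wsub W (normalizerIn T Q₀)) Z₀ := by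
    rw [hW]
    exact nfix_mono hNQ N₀ E (fun P => (hEF P).le) hN
  have hfix := fixG_of_model W hW2 hLH hTp N₀ ι hL hfreeL (adm_congr hNQ hadm) hN'
  intro P φ hφ
  rw [← hEF P] at hφ
  exact hfix P φ hφ

end functor

end Cfsg.Agent.Lib.Helper1.WC
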