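import Mathlib
import Cfsg.Agent.Lib.Helper8.WC6b
import Cfsg.Agent.Lib.Helper1.WC1

set_option autoImplicit false
set_option linter.style.haveILetI false
set_option linter.unusedSectionVars false
set_option linter.unusedVariables false
set_option maxHeartbeats 1000000

/-! Generation of fusion systems by `C_F(℧¹ Z(S))` and `N_F(J(S))`, part 1: group theory. -/

namespace Cfsg.Agent.Lib.Helper1.GN

open Cfsg Cfsg.Agent.Lib.Helper1 Cfsg.Agent.Lib.Helper1.ZJ Cfsg.Agent.Lib.Helper8.ThLoc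

universe u

variable {G : Type u} [Group G]

/-- the subgroup of `p`-th powers of a commutative subgroup -/
def powSub (p : ℕ) (V : Subgroup G) (hVc : ∀ x ∈ V, ∀ y ∈ V, x * y = y * x) : Subgroup G where
  carrier := {x | ∃ v ∈ V, v ^ p = x}
  one_mem' := ⟨1, V.one_mem, one_pow p⟩
  mul_mem' := by
    rintro _ _ ⟨a, ha, rfl⟩ ⟨b, hb, rfl⟩
    have hc : Commute a b := hVc a ha b hb
    exact ⟨a * b, V.mul_mem ha hb, hc.mul_pow p⟩
  inv_mem' := by
    rintro _ ⟨a, ha, rfl⟩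
    exact ⟨a⁻¹, V.inv_mem ha, inv_pow a p⟩

theorem powSub_le {p : ℕ} {V : Subgroup G} {hVc : ∀ x ∈ V, ∀ y ∈ V, x * y = y * x} :
    powSub p V hVc ≤ V := by
  rintro _ ⟨v, hv, rfl⟩
  exact V.pow_mem hv p

theorem powSub_normal {p : ℕ} {V : Subgroup G} {hVc : ∀ x ∈ V, ∀ y ∈ V, x * y = y * x}
    [hVn : V.Normal] : (powSub p V hVc).Normal := by
  refine ⟨?_⟩
  rintro _ ⟨v, hv, rfl⟩ g
  exact ⟨g * v * g⁻¹, hVn.conj_mem v hv g, conj_pow⟩

theorem conj_pow_eq {V : Subgroup G} (hVc : ∀ x ∈ V, ∀ y ∈ V, x * y = y * x) {a : G}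
    (haV : ∀ v ∈ V, a * v * a⁻¹ ∈ V)
    (hq : ∀ v ∈ V, a * (a * v * a⁻¹ * v⁻¹) * a⁻¹ = a * v * a⁻¹ * v⁻¹) {v : G} (hv : v ∈ V)
    (k : ℕ) : a ^ k * v * (a ^ k)⁻¹ = v * (a * v * a⁻¹ * v⁻¹) ^ k := by
  obtain ⟨c, hc⟩ : ∃ c, c = a * v * a⁻¹ * v⁻¹ := ⟨_, rfl⟩
  have hcV : c ∈ V := by
    rw [hc]
    exact V.mul_mem (haV v hv) (V.inv_mem hv)
  have hac : a * c * a⁻¹ = c := by
    rw [hc]
    exact hq v hv
  have hav : a * v * a⁻¹ = v * c := by
    have h1 : v * c = c * v := hVc v hv c hcV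
    rw [h1, hc]
    group
  rw [← hc]
  induction k with
  | zero => simp
  | succ k ih =>
    have h1 : a ^ (k + 1) * v * (a ^ (k + 1))⁻¹ = a * (a ^ k * v * (a ^ k)⁻¹) * a⁻¹ := by
      rw [pow_succ']
      group
    have h2 : a * (v * c ^ k) * a⁻¹ = (a * v * a⁻¹) * (a * c * a⁻¹) ^ k := by
      rw [conj_pow]
      group
    rw [h1, ih, h2, hac, hav, pow_succ', mul_assoc]

theorem comm_pow_of_pow_comm {p : ℕ} {V : Subgroup G} (hVc : ∀ x ∈ V, ∀ y ∈ V, x * y = y * x)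
    {a : G} (haV : ∀ v ∈ V, a * v * a⁻¹ ∈ V)
    (hq : ∀ v ∈ V, a * (a * v * a⁻¹ * v⁻¹) * a⁻¹ = a * v * a⁻¹ * v⁻¹)
    (hap : ∀ v ∈ V, a ^ p * v = v * a ^ p) : ∀ v ∈ V, a * v ^ p = v ^ p * a := by
  intro v hv
  obtain ⟨c, hc⟩ : ∃ c, c = a * v * a⁻¹ * v⁻¹ := ⟨_, rfl⟩
  have hcV : c ∈ V := by
    rw [hc]
    exact V.mul_mem (haV v hv) (V.inv_mem hv)
  have h1 := conj_pow_eq hVc haV hq hv p
  rw [← hc] at h1
  have h2 : a ^ p * v * (a ^ p)⁻¹ = v := by
    rw [hap v hv, mul_inv_cancel_right]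
  rw [h2] at h1
  have hcp : c ^ p = 1 := by
    have h3 : v * c ^ p = v * 1 := by
      rw [mul_one]
      exact h1.symm
    exact mul_left_cancel h3
  have hav : a * v * a⁻¹ = v * c := by
    have h3 : v * c = c * v := hVc v hv c hcV
    rw [h3, hc]
    group
  have hvc : Commute v c := hVc v hv c hcV
  have h4 : a * v ^ p * a⁻¹ = v ^ p := by
    rw [← conj_pow, hav, hvc.mul_pow, hcp, mul_one]
  calc a * v ^ p = a * v ^ p * a⁻¹ * a := by group
    _ = v ^ p * a := by rw [h4]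

/-- an abelian subgroup of largest order contains every element centralizing it -/
theorem mem_of_centralizes_FPr [Finite G] {T A : Subgroup G} (hA : A ∈ FPr (PrA (G := G)) T)
    {z : G} (hzT : z ∈ T) (h0 : ∀ a ∈ A, a * z = z * a) : z ∈ A := by
  have h1 : ∀ x ∈ (A : Set G) ∪ {z}, ∀ y ∈ (A : Set G) ∪ {z}, x * y = y * x := by
    rintro x (hx | hx) y (hy | hy)
    · exact hA.2.1 x hx y hy
    · rw [Set.mem_singleton_iff] at hy
      rw [hy]
      exact h0 x hx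
    · rw [Set.mem_singleton_iff] at hx
      rw [hx]
      exact (h0 y hy).symm
    · rw [Set.mem_singleton_iff] at hx hy
      rw [hx, hy]
  have hcl : Subgroup.closure ((A : Set G) ∪ {z}) ≤ T := by
    rw [Subgroup.closure_le]
    rintro t (ht | ht)
    · exact hA.1 ht
    · rw [Set.mem_singleton_iff] at ht
      rw [ht]
      exact hzT
  have hPr : PrA (Subgroup.closure ((A : Set G) ∪ {z})) := by
    have := Subgroup.isMulCommutative_closure h1
    intro x hx y hy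
    have h2 := mul_comm' (⟨x, hx⟩ : Subgroup.closure ((A : Set G) ∪ {z})) ⟨y, hy⟩
    exact congrArg Subtype.val h2
  have h2 := hA.2.2 _ hcl hPr
  have h3 : A ≤ Subgroup.closure ((A : Set G) ∪ {z}) := by
    intro a ha
    exact Subgroup.subset_closure (Or.inl ha)
  have h4 := Subgroup.eq_of_le_of_card_ge h3 h2
  rw [h4]
  exact Subgroup.subset_closure (Or.inr rfl)

/-- if the Thompson subgroup of `T` lies in `R` then so does the centralizer of `R` in `T` -/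
theorem inf_centralizer_le_of_thompson_le [Finite G] {T R : Subgroup G}
    (h : thompsonSubgroupAOf T ≤ R) : T ⊓ Subgroup.centralizer (R : Set G) ≤ R := by
  obtain ⟨A, hA⟩ := (zjFamily_A (G := G) 2).nonempty T
  have hAR : A ≤ R := (Cfsg.Agent.Lib.Helper8.WC.le_JA_of_mem_FPr hA).trans h
  intro x hx
  apply hAR
  apply mem_of_centralizes_FPr hA hx.1
  intro a ha
  exact Subgroup.mem_centralizer_iff.mp hx.2 a (hAR ha)

theorem normal_centralizer_of_normal (W : Subgroup G) [hW : W.Normal] :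
    (Subgroup.centralizer (W : Set G)).Normal := by
  refine ⟨fun x hx g => ?_⟩
  have hg : g ∈ Subgroup.normalizer (W : Set G) := by
    rw [Subgroup.normalizer_eq_top_iff.mpr hW]
    exact Subgroup.mem_top g
  exact Cfsg.Agent.Lib.Helper1.WC.conj_mem_centralizer hg hx

/-- **The local generation lemma.** -/
theorem exists_normal_of_not_le [Finite G] {p : ℕ} [hp : Fact p.Prime] (P : Sylow p G)
    (K Q : Subgroup G) [hKn : K.Normal] [hQn : Q.Normal] (hQK : Q ≤ K) (hQp : IsPGroup p Q)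
    (hcent : (P : Subgroup G) ⊓ K ⊓ Subgroup.centralizer (Q : Set G) ≤ Q)
    (hJ : ¬ thompsonSubgroupAOf ((P : Subgroup G) ⊓ K) ≤ Q) :
    ∃ W : Subgroup G, W.Normal ∧
      (∀ y ∈ ((P : Subgroup G) ⊓ K) ⊓
        Subgroup.centralizer ((((P : Subgroup G) ⊓ K : Subgroup G)) : Set G), y ^ p ∈ W) ∧
      ¬ ((P : Subgroup G) ⊓ K ⊓ Subgroup.centralizer (W : Set G) ≤ Q) ∧
      Q ≤ Subgroup.centralizer (W : Set G) := by
  obtain ⟨U, hU⟩ : ∃ U : Subgroup G, U = (P : Subgroup G) ⊓ K := ⟨_, rfl⟩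
  rw [← hU] at hcent hJ ⊢
  have hUP : U ≤ P := hU ▸ inf_le_left
  have hUp : IsPGroup p U := P.2.to_le hUP
  have hQP : Q ≤ P := Cfsg.Agent.Lib.Helper8.WC.normal_le_sylow P hQn hQp
  have hQU : Q ≤ U := by
    rw [hU]
    exact le_inf hQP hQK
  obtain ⟨ZQ, hZQ⟩ : ∃ ZQ : Subgroup G, ZQ = Q ⊓ Subgroup.centralizer (Q : Set G) := ⟨_, rfl⟩
  haveI hZQn : ZQ.Normal := by
    rw [hZQ]
    refine ⟨fun x hx g => ⟨hQn.conj_mem x hx.1 g, ?_⟩⟩
    have hg : g ∈ Subgroup.normalizer (Q : Set G) := by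
      rw [Subgroup.normalizer_eq_top_iff.mpr hQn]
      exact Subgroup.mem_top g
    exact Cfsg.Agent.Lib.Helper1.WC.conj_mem_centralizer hg hx.2
  have hZU : U ⊓ Subgroup.centralizer (U : Set G) ≤ ZQ := by
    intro y hy
    have h1 : y ∈ Subgroup.centralizer (Q : Set G) :=
      Subgroup.centralizer_le (SetLike.coe_subset_coe.mpr hQU) hy.2
    rw [hZQ]
    exact ⟨hcent ⟨hy.1, h1⟩, h1⟩
  obtain ⟨V, hV⟩ : ∃ V : Subgroup G, V = Subgroup.normalClosure
      ((U ⊓ Subgroup.centralizer (U : Set G) : Subgroup G) : Set G) := ⟨_, rfl⟩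
  haveI hVn : V.Normal := by
    rw [hV]
    exact Subgroup.normalClosure_normal
  have hVZQ : V ≤ ZQ := by
    rw [hV]
    exact Subgroup.normalClosure_le_normal (SetLike.coe_subset_coe.mpr hZU)
  have hVc : ∀ x ∈ V, ∀ y ∈ V, x * y = y * x := by
    intro x hx y hy
    have h1 := hVZQ hx
    have h2 := hVZQ hy
    rw [hZQ] at h1 h2
    exact Subgroup.mem_centralizer_iff.mp h2.2 x h1.1
  have hVQ : V ≤ Q := by
    intro x hx
    have h1 := hVZQ hx
    rw [hZQ] at h1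
    exact h1.1
  have hVU : V ≤ U := hVQ.trans hQU
  have hQCV : Q ≤ Subgroup.centralizer (V : Set G) := by
    intro q hq
    rw [Subgroup.mem_centralizer_iff]
    intro v hv
    have h1 := hVZQ hv
    rw [hZQ] at h1
    exact (Subgroup.mem_centralizer_iff.mp h1.2 q hq).symm
  have hW : powSub p V hVc ≤ V := powSub_le
  refine ⟨powSub p V hVc, powSub_normal, ?_, ?_, ?_⟩
  · intro y hy
    refine ⟨y, ?_, rfl⟩
    rw [hV]
    exact Subgroup.subset_normalClosure hy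
  · intro hle
    have hUV : U ⊓ Subgroup.centralizer (V : Set G) ≤ Q := by
      intro x hx
      apply hle
      exact ⟨hx.1, Subgroup.centralizer_le (SetLike.coe_subset_coe.mpr hW) hx.2⟩
    have hJV : ¬ thompsonSubgroupAOf U ≤ Subgroup.centralizer (V : Set G) := by
      intro h
      exact hJ (fun x hx => hUV ⟨thompsonSubgroupAOf_le U hx, h hx⟩)
    obtain ⟨A₁, hA₁, hA₁V⟩ := exists_mem_not_le hJV
    have hUNV : U ≤ Subgroup.normalizer (V : Set G) := by
      rw [Subgroup.normalizer_eq_top_iff.mpr hVn]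
      exact le_top
    obtain ⟨A, hA, hAV, hAq, -⟩ :=
      Cfsg.Agent.Lib.Helper8.WC.exists_quadratic_mem_FPr hUp hVU hVc hUNV hA₁ hA₁V
    apply hAV
    intro a ha
    have hAU : A ≤ U := hA.1
    obtain ⟨n, hn⟩ := hUp ⟨a, hAU ha⟩
    have han : a ^ p ^ n = 1 := by
      have h1 := congrArg Subtype.val hn
      rwa [Subgroup.coe_pow, Subgroup.coe_one] at h1
    have key : ∀ j : ℕ, j ≤ n → a ^ p ^ (n - j) ∈ Subgroup.centralizer (V : Set G) := by
      intro j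
      induction j with
      | zero =>
        intro _
        rw [Nat.sub_zero, han]
        exact Subgroup.one_mem _
      | succ j ih =>
        intro hj
        have ih' := ih (by omega)
        obtain ⟨b, hb⟩ : ∃ b, b = a ^ p ^ (n - (j + 1)) := ⟨_, rfl⟩
        have hbA : b ∈ A := by
          rw [hb]
          exact A.pow_mem ha _
        have e : n - (j + 1) + 1 = n - j := by omega
        have hbp : b ^ p = a ^ p ^ (n - j) := by
          rw [hb, ← pow_mul, ← pow_succ, e]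
        have hbV : ∀ v ∈ V, b * v * b⁻¹ ∈ V := fun v hv => hVn.conj_mem v hv b
        have hbq : ∀ v ∈ V, b * (b * v * b⁻¹ * v⁻¹) * b⁻¹ = b * v * b⁻¹ * v⁻¹ :=
          fun v hv => hAq b hbA b hbA v hv
        have hbpc : ∀ v ∈ V, b ^ p * v = v * b ^ p := by
          intro v hv
          rw [hbp]
          exact (Subgroup.mem_centralizer_iff.mp ih' v hv).symm
        have hbW := comm_pow_of_pow_comm hVc hbV hbq hbpc
        have hbCW : b ∈ Subgroup.centralizer ((powSub p V hVc : Subgroup G) : Set G) := by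
          rw [Subgroup.mem_centralizer_iff]
          rintro _ ⟨v, hv, rfl⟩
          exact (hbW v hv).symm
        rw [← hb]
        exact hQCV (hle ⟨hAU hbA, hbCW⟩)
    have h5 := key n le_rfl
    rwa [Nat.sub_self, pow_zero, pow_one] at h5
  · exact hQCV.trans (Subgroup.centralizer_le (SetLike.coe_subset_coe.mpr hW))

/-- the Frattini decomposition with respect to a normal subgroup -/
theorem exists_mul_of_normal [Finite G] {p : ℕ} [Fact p.Prime] (P : Sylow p G) (K₁ : Subgroup G)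
    [K₁.Normal] (g : G) :
    ∃ n k : G, g = n * k ∧
      n ∈ Subgroup.normalizer ((((P : Subgroup G) ⊓ K₁ : Subgroup G)) : Set G) ∧ k ∈ K₁ := by
  have h := Cfsg.Agent.Lib.Helper8.WC.frattini_inf_normal P K₁
  have hg : g ∈ Subgroup.normalizer ((((P : Subgroup G) ⊓ K₁ : Subgroup G)) : Set G) ⊔ K₁ := by
    rw [h]
    exact Subgroup.mem_top g
  have hg' : g ∈ ((Subgroup.normalizer ((((P : Subgroup G) ⊓ K₁ : Subgroup G)) : Set G) ⊔ K₁ :
      Subgroup G) : Set G) := hg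
  rw [Subgroup.mul_normal] at hg'
  obtain ⟨n, hn, k, hk, rfl⟩ := Set.mem_mul.mp hg'
  exact ⟨n, k, rfl, hn, hk⟩

/-- in a group of characteristic `p`, the centralizer in a normal subgroup `K` of
`O_p(G) ∩ K` lies in `O_p(G) ∩ K` -/
theorem inf_centralizer_le [Finite G] {p : ℕ} [hp : Fact p.Prime] (K QL : Subgroup G)
    [hKn : K.Normal] [hQLn : QL.Normal] (hQLp : IsPGroup p QL)
    (hQLmax : ∀ D : Subgroup G, D.Normal → IsPGroup p D → D ≤ QL)
    (hcent : Subgroup.centralizer (QL : Set G) ≤ QL) :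
    K ⊓ Subgroup.centralizer ((QL ⊓ K : Subgroup G) : Set G) ≤ QL ⊓ K := by
  obtain ⟨QK, hQK⟩ : ∃ QK : Subgroup G, QK = QL ⊓ K := ⟨_, rfl⟩
  rw [← hQK]
  haveI hQKn : QK.Normal := by
    rw [hQK]
    exact Subgroup.normal_inf_normal QL K
  have hQKp : IsPGroup p QK := hQLp.to_le (hQK ▸ inf_le_left)
  obtain ⟨b, hb⟩ := IsPGroup.iff_card.mp hQKp
  haveI hCn : (Subgroup.centralizer (QK : Set G)).Normal := normal_centralizer_of_normal QK
  haveI hMn : (K ⊓ Subgroup.centralizer (QK : Set G)).Normal := Subgroup.normal_inf_normal _ _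
  have hMp : IsPGroup p ↥(K ⊓ Subgroup.centralizer (QK : Set G)) := by
    rintro ⟨m, hmK, hmC⟩
    have hpow : ∀ x ∈ QL, m ^ (p ^ b) * x = x * m ^ (p ^ b) := by
      intro x hx
      obtain ⟨c, hc⟩ : ∃ c, c = x⁻¹ * (m * x * m⁻¹) := ⟨_, rfl⟩
      have hcQL : c ∈ QL := by
        rw [hc]
        exact QL.mul_mem (QL.inv_mem hx) (hQLn.conj_mem x hx m)
      have hcK : c ∈ K := by
        have h1 : x⁻¹ * m * x⁻¹⁻¹ ∈ K := hKn.conj_mem m hmK x⁻¹
        have h2 : c = (x⁻¹ * m * x⁻¹⁻¹) * m⁻¹ := by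
          rw [hc]
          group
        rw [h2]
        exact K.mul_mem h1 (K.inv_mem hmK)
      have hcQK : c ∈ QK := by
        rw [hQK]
        exact Subgroup.mem_inf.mpr ⟨hcQL, hcK⟩
      have hmc : c * m = m * c := Subgroup.mem_centralizer_iff.mp hmC c hcQK
      have hmx : m * x * m⁻¹ = x * c := by
        rw [hc]
        group
      have hind : ∀ j : ℕ, m ^ j * x * (m ^ j)⁻¹ = x * c ^ j := by
        intro j
        induction j with
        | zero => simp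
        | succ j ih =>
          have h1 : m ^ (j + 1) * x * (m ^ (j + 1))⁻¹ = m * (m ^ j * x * (m ^ j)⁻¹) * m⁻¹ := by
            rw [pow_succ']
            group
          have hmcj : m * c ^ j * m⁻¹ = c ^ j := by
            have h3 : Commute m c := hmc.symm
            have h4 : Commute m (c ^ j) := h3.pow_right j
            rw [h4.eq, mul_inv_cancel_right]
          have h2 : m * (x * c ^ j) * m⁻¹ = (m * x * m⁻¹) * (m * c ^ j * m⁻¹) := by group
          rw [h1, ih, h2, hmx, hmcj, pow_succ', mul_assoc]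
      have hcN : c ^ (p ^ b) = 1 := by
        have h1 : (⟨c, hcQK⟩ : ↥QK) ^ Nat.card QK = 1 := pow_card_eq_one'
        rw [hb] at h1
        have h3 := congrArg Subtype.val h1
        rwa [Subgroup.coe_pow, Subgroup.coe_one] at h3
      have h4 := hind (p ^ b)
      rw [hcN, mul_one] at h4
      obtain ⟨M, hM⟩ : ∃ M, M = m ^ p ^ b := ⟨_, rfl⟩
      rw [← hM] at h4 ⊢
      calc M * x = M * x * M⁻¹ * M := by group
        _ = x * M := by rw [h4]
    have hmQL : m ^ (p ^ b) ∈ QL := by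
      apply hcent
      rw [Subgroup.mem_centralizer_iff]
      intro x hx
      exact (hpow x hx).symm
    obtain ⟨a, ha⟩ := hQLp ⟨m ^ (p ^ b), hmQL⟩
    refine ⟨b + a, Subtype.ext ?_⟩
    have h5 : (m ^ p ^ b) ^ p ^ a = 1 := by
      have h6 := congrArg Subtype.val ha
      rwa [Subgroup.coe_pow, Subgroup.coe_one] at h6
    rw [Subgroup.coe_pow, Subgroup.coe_one]
    show m ^ p ^ (b + a) = 1
    rw [pow_add, pow_mul]
    exact h5
  intro m hm
  rw [hQK]
  exact Subgroup.mem_inf.mpr ⟨hQLmax _ hMn hMp hm, (Subgroup.mem_inf.mp hm).1⟩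

/-- the refined decomposition: `g = s k n` with `s` in the Sylow subgroup, `k` in the normal
subgroup and `n` carrying `A (P ∩ K₁)` into `P` -/
theorem exists_decomp [Finite G] {p : ℕ} [hp : Fact p.Prime] (P : Sylow p G) (K₁ : Subgroup G)
    [hK₁ : K₁.Normal] (A : Subgroup G) (hAP : A ≤ P) (g : G)
    (hg : ∀ a ∈ A, g * a * g⁻¹ ∈ (P : Subgroup G)) :
    ∃ s k n : G, g = s * k * n ∧ s ∈ (P : Subgroup G) ∧ k ∈ K₁ ∧
      ∀ x ∈ A ⊔ ((P : Subgroup G) ⊓ K₁), n * x * n⁻¹ ∈ (P : Subgroup G) := by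
  obtain ⟨Y, hY⟩ : ∃ Y : Subgroup G, Y = (P : Subgroup G) ⊓ K₁ := ⟨_, rfl⟩
  rw [← hY]
  have hYP : Y ≤ P := hY ▸ inf_le_left
  have hYK : Y ≤ K₁ := hY ▸ inf_le_right
  obtain ⟨A', hA'⟩ : ∃ A' : Subgroup G, A' = A.map (MulAut.conj g).toMonoidHom := ⟨_, rfl⟩
  have hA'P : A' ≤ P := by
    rw [hA']
    rintro _ ⟨a, ha, rfl⟩
    exact hg a ha
  obtain ⟨M, hM⟩ : ∃ M : Subgroup G, M = A' ⊔ K₁ := ⟨_, rfl⟩
  have hA'M : A' ≤ M := hM ▸ le_sup_left
  have hKM : K₁ ≤ M := hM ▸ le_sup_right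
  obtain ⟨Sg₂, hSg₂⟩ : ∃ Sg₂ : Subgroup G, Sg₂ = A' ⊔ Y := ⟨_, rfl⟩
  have hSg₂P : Sg₂ ≤ P := by
    rw [hSg₂]
    exact sup_le hA'P hYP
  have hSg₂M : Sg₂ ≤ M := by
    rw [hSg₂]
    exact sup_le hA'M (hYK.trans hKM)
  have hSg₂p : IsPGroup p Sg₂ := P.2.to_le hSg₂P
  obtain ⟨Sg₁, hSg₁⟩ : ∃ Sg₁ : Subgroup G, Sg₁ = (A ⊔ Y).map (MulAut.conj g).toMonoidHom :=
    ⟨_, rfl⟩
  have hSg₁p : IsPGroup p Sg₁ := by
    rw [hSg₁]
    exact (P.2.to_le (sup_le hAP hYP)).map _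
  have hSg₁M : Sg₁ ≤ M := by
    rw [hSg₁, Subgroup.map_sup]
    apply sup_le
    · rw [← hA']
      exact hA'M
    · rintro _ ⟨y, hy, rfl⟩
      exact hKM (hK₁.conj_mem y (hYK hy) g)
  obtain ⟨T₂, hT₂⟩ := Cfsg.Agent.Lib.Helper8.WC.exists_sylow_of_le_subgroup M Sg₂ hSg₂M hSg₂p
  obtain ⟨T₁, hT₁⟩ := Cfsg.Agent.Lib.Helper8.WC.exists_sylow_of_le_subgroup M Sg₁ hSg₁M hSg₁p
  obtain ⟨m, hmM, hm⟩ := Cfsg.Agent.Lib.Helper8.WC.exists_conj_sylow_subgroup M T₂ T₁
  obtain ⟨Sg, hSg⟩ : ∃ Sg : Subgroup G, Sg = (T₂ : Subgroup M).map M.subtype := ⟨_, rfl⟩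
  rw [← hSg] at hT₂ hm
  have hSgp : IsPGroup p Sg := by
    rw [hSg]
    exact T₂.2.map _
  have hSgM : Sg ≤ M := by
    rw [hSg]
    exact Subgroup.map_subtype_le _
  -- `Sg ∩ K₁ = Y`
  have hSgK : Sg ⊓ K₁ ≤ Y := by
    obtain ⟨P', hP'⟩ := hSgp.exists_le_sylow
    obtain ⟨h, hh⟩ := MulAction.exists_smul_eq G P P'
    have hYle : Y ≤ (P' : Subgroup G) ⊓ K₁ :=
      le_inf (((le_sup_right : Y ≤ A' ⊔ Y).trans (hSg₂ ▸ hT₂)).trans hP') hYK
    have hmapeq : (P' : Subgroup G) ⊓ K₁ = Y.map (MulAut.conj h).toMonoidHom := by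
      ext x
      constructor
      · rintro ⟨hx1, hx2⟩
        have hx1' : x ∈ ((h • P : Sylow p G) : Subgroup G) := by
          rw [hh]
          exact hx1
        rw [Cfsg.Agent.Lib.Helper8.WC.mem_smul_sylow_iff] at hx1'
        refine ⟨h⁻¹ * x * h, ?_, ?_⟩
        · rw [hY]
          refine ⟨hx1', ?_⟩
          have := hK₁.conj_mem x hx2 h⁻¹
          simpa using this
        · show h * (h⁻¹ * x * h) * h⁻¹ = x
          group
      · rintro ⟨y, hy, rfl⟩
        rw [hY] at hy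
        refine ⟨?_, hK₁.conj_mem y hy.2 h⟩
        have : h * y * h⁻¹ ∈ ((h • P : Sylow p G) : Subgroup G) := by
          rw [Cfsg.Agent.Lib.Helper8.WC.mem_smul_sylow_iff]
          have e : h⁻¹ * (h * y * h⁻¹) * h = y := by group
          rw [e]
          exact hy.1
        rw [hh] at this
        exact this
    have hcard : Nat.card ↥((P' : Subgroup G) ⊓ K₁) = Nat.card Y := by
      rw [hmapeq]
      exact Subgroup.card_map_of_injective (MulAut.conj h).injective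
    have heq : Y = (P' : Subgroup G) ⊓ K₁ := Subgroup.eq_of_le_of_card_ge hYle hcard.le
    rw [heq]
    exact inf_le_inf_right K₁ hP'
  have hSgP : Sg ≤ P := by
    intro σ hσ
    have hσM : σ ∈ ((A' ⊔ K₁ : Subgroup G) : Set G) := by
      rw [← hM]
      exact hSgM hσ
    rw [Subgroup.mul_normal] at hσM
    obtain ⟨a', ha', k', hk', rfl⟩ := Set.mem_mul.mp hσM
    have ha'Sg : a' ∈ Sg := hT₂ ((le_sup_left : A' ≤ A' ⊔ Y).trans hSg₂.ge ha')
    have hk'Sg : k' ∈ Sg := by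
      have e : k' = a'⁻¹ * (a' * k') := by group
      rw [e]
      exact Sg.mul_mem (Sg.inv_mem ha'Sg) hσ
    exact (P : Subgroup G).mul_mem (hA'P ha') (hYP (hSgK ⟨hk'Sg, hk'⟩))
  have hmM' : m ∈ ((A' ⊔ K₁ : Subgroup G) : Set G) := by
    rw [← hM]
    exact hmM
  rw [Subgroup.mul_normal] at hmM'
  obtain ⟨s, hs, k, hk, hsk⟩ := Set.mem_mul.mp hmM'
  refine ⟨s, k, m⁻¹ * g, ?_, hA'P hs, hk, ?_⟩
  · rw [hsk]
    group
  · intro x hx
    have h1 : g * x * g⁻¹ ∈ Sg₁ := by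
      rw [hSg₁]
      exact ⟨x, hx, rfl⟩
    have h2 := hm _ (hT₁ h1)
    have e : m⁻¹ * g * x * (m⁻¹ * g)⁻¹ = m⁻¹ * (g * x * g⁻¹) * m := by group
    rw [e]
    exact hSgP h2

end Cfsg.Agent.Lib.Helper1.GN
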