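import Mathlib
import Cfsg.Agent.Lib.Helper1.GN1

set_option autoImplicit false
set_option linter.style.haveILetI false
set_option linter.unusedSectionVars false
set_option linter.unusedVariables false
set_option maxHeartbeats 1000000

/-! Generation of fusion systems by `C_F(℧¹ Z(S))` and `N_F(J(S))`, part 2: helpers on fusion
systems. -/

namespace Cfsg.Agent.Lib.Helper1.GN

open Cfsg Cfsg.FusionSystem Cfsg.Agent.Lib.Helper9 Cfsg.Agent.Lib.Helper1.KN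
  Cfsg.Agent.Lib.Helper1.KL Cfsg.Agent.Lib.Helper1.QF Cfsg.Agent.Lib.Helper1.GF

universe u

section basic

variable {Ω : Type*} [Group Ω]

/-- the centre of `S` -/
def Zc (S : Subgroup Ω) : Subgroup Ω := S ⊓ Subgroup.centralizer (S : Set Ω)

/-- the subgroup generated by the `p`-th powers of the elements of the centre of `S` -/
def Z1 (p : ℕ) (S : Subgroup Ω) : Subgroup Ω :=
  powerClosure p 1 (S ⊓ Subgroup.centralizer (S : Set Ω))

theorem Z1_le_Zc (p : ℕ) (S : Subgroup Ω) : Z1 p S ≤ Zc S := by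
  unfold Z1 powerClosure
  rw [Subgroup.closure_le]
  rintro _ ⟨x, hx, rfl⟩
  exact (Zc S).pow_mem hx _

theorem pow_mem_Z1 {p : ℕ} {S : Subgroup Ω} {z : Ω} (hz : z ∈ Zc S) : z ^ p ∈ Z1 p S := by
  unfold Z1 powerClosure
  apply Subgroup.subset_closure
  exact ⟨z, hz, by rw [pow_one]⟩

theorem Z1_le_of_forall {p : ℕ} {S W : Subgroup Ω} (h : ∀ z ∈ Zc S, z ^ p ∈ W) : Z1 p S ≤ W := by
  unfold Z1 powerClosure
  rw [Subgroup.closure_le]
  rintro _ ⟨x, hx, rfl⟩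
  rw [pow_one]
  exact h x hx

theorem Zc_le_Zc {T S : Subgroup Ω} (hTS : T ≤ S) (hZ : Zc S ≤ T) : Zc S ≤ Zc T := by
  intro z hz
  exact ⟨hZ hz, Subgroup.centralizer_le (SetLike.coe_subset_coe.mpr hTS) hz.2⟩

theorem Z1_mono {p : ℕ} {T S : Subgroup Ω} (h : Zc S ≤ Zc T) : Z1 p S ≤ Z1 p T :=
  Z1_le_of_forall (fun z hz => pow_mem_Z1 (h hz))

theorem Z1_le (p : ℕ) (S : Subgroup Ω) : Z1 p S ≤ S := (Z1_le_Zc p S).trans inf_le_left

theorem centralizerIn_Z1 (p : ℕ) (S : Subgroup Ω) : centralizerIn S (Z1 p S) = S := by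
  apply le_antisymm inf_le_left
  intro s hs
  have h2 : s ∈ Subgroup.centralizer ((Z1 p S : Subgroup Ω) : Set Ω) := by
    rw [Subgroup.mem_centralizer_iff]
    intro z hz
    have h1 := Z1_le_Zc p S hz
    exact (Subgroup.mem_centralizer_iff.mp h1.2 s hs).symm
  exact ⟨hs, h2⟩

/-- the restriction of a fusion system to a subgroup -/
def restrictSys {S T : Subgroup Ω} (E : FusionSystem S) (hTS : T ≤ S) : FusionSystem T where
  Hom P := {φ | φ ∈ E.Hom P ∧ P ≤ T ∧ ∀ x, φ x ∈ T}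
  le_of_mem := fun h => ⟨h.2.1, h.2.2⟩
  injective_of_mem := fun h => E.injective_of_mem h.1
  conj_mem := by
    intro P g hP hg
    refine ⟨E.conj_mem (hP.trans hTS) (hTS hg), hP, fun x => ?_⟩
    show g * x * g⁻¹ ∈ T
    exact T.mul_mem (T.mul_mem hg (hP x.2)) (T.inv_mem hg)
  comp_mem := by
    intro P Q φ ψ hφ hψ h
    exact ⟨E.comp_mem hφ.1 hψ.1 h, hφ.2.1, fun x => hψ.2.2 _⟩
  inv_mem := by
    intro P φ hφ
    obtain ⟨ψ, hψ, hψφ⟩ := E.inv_mem hφ.1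
    refine ⟨ψ, ⟨hψ, ?_, ?_⟩, hψφ⟩
    · rintro _ ⟨x, rfl⟩
      exact hφ.2.2 x
    · rintro ⟨_, x, rfl⟩
      rw [hψφ x]
      exact hφ.2.1 x.2

theorem mem_restrictSys {S T : Subgroup Ω} (E : FusionSystem S) (hTS : T ≤ S) {P : Subgroup Ω}
    {φ : ↥P →* Ω} : φ ∈ (restrictSys E hTS).Hom P ↔ φ ∈ E.Hom P ∧ P ≤ T ∧ ∀ x, φ x ∈ T :=
  Iff.rfl

theorem centralizerHom_mono {T' T : Subgroup Ω} (hT'T : T' ≤ T) (D' : FusionSystem T')
    (D : FusionSystem T) (hsub : ∀ P, D'.Hom P ⊆ D.Hom P) (Z P : Subgroup Ω) :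
    D'.centralizerHom Z P ⊆ D.centralizerHom Z P := by
  rintro φ ⟨hφ, hP, hval, ψ, hψ, hext, hfix⟩
  exact ⟨hsub P hφ, hP.trans (inf_le_inf_right _ hT'T),
    fun x => inf_le_inf_right _ hT'T (hval x), ψ, hsub _ hψ, hext, hfix⟩

theorem normalizerHom_mono {T' T : Subgroup Ω} (hT'T : T' ≤ T) (D' : FusionSystem T')
    (D : FusionSystem T) (hsub : ∀ P, D'.Hom P ⊆ D.Hom P) (Z P : Subgroup Ω) :
    D'.normalizerHom Z P ⊆ D.normalizerHom Z P := by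
  rintro φ ⟨hφ, hP, hval, ψ, hψ, hext, hfix⟩
  exact ⟨hsub P hφ, hP.trans (inf_le_inf_right _ hT'T),
    fun x => inf_le_inf_right _ hT'T (hval x), ψ, hsub _ hψ, hext, hfix⟩

theorem card_lt_of_mem_not_mem {R X : Subgroup Ω} [Finite X] (hRX : R ≤ X) {x : Ω} (hxX : x ∈ X)
    (hxR : x ∉ R) : Nat.card R < Nat.card X := by
  apply Cfsg.Agent.Lib.Helper9.card_lt_of_lt'
  refine lt_of_le_of_ne hRX (fun h => hxR ?_)
  rw [h]
  exact hxX

/-- a map sending `A` and `B` into `X` sends `A ⊔ B` into `X` -/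
theorem map_mem_of_sup {Y A B X : Subgroup Ω} (φ : ↥Y →* Ω)
    (hA : ∀ y : ↥Y, (y : Ω) ∈ A → φ y ∈ X) (hB : ∀ y : ↥Y, (y : Ω) ∈ B → φ y ∈ X)
    (hAY : A ≤ Y) (hBY : B ≤ Y) : ∀ y : ↥Y, (y : Ω) ∈ A ⊔ B → φ y ∈ X := by
  have hle : A ⊔ B ≤ (X.comap φ).map Y.subtype := by
    apply sup_le
    · intro a ha
      exact ⟨⟨a, hAY ha⟩, hA _ ha, rfl⟩
    · intro b hb
      exact ⟨⟨b, hBY hb⟩, hB _ hb, rfl⟩
  intro y hy
  obtain ⟨y', hy', hyy'⟩ := hle hy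
  have h : y' = y := Subtype.ext hyy'
  rw [← h]
  exact hy'

/-- a normal subgroup `C` of a `p`-group `S` with `C ∩ N_S(Q) ≤ Q` lies in `Q` -/
theorem le_of_normalizer_inf_le {S : Subgroup Ω} [Finite S] {p : ℕ} [Fact p.Prime]
    (hS : IsPGroup p S) {Q C : Subgroup Ω} (hQS : Q ≤ S) (hCS : C ≤ S)
    (hCn : ∀ s ∈ S, ∀ c ∈ C, s * c * s⁻¹ ∈ C) (h : C ⊓ normalizerIn S Q ≤ Q) : C ≤ Q := by
  by_contra hne
  have hle : Q ⊔ C ≤ S := sup_le hQS hCS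
  haveI : Finite ↥(Q ⊔ C) := finite_of_le hle
  have hp' : IsPGroup p ↥(Q ⊔ C) := isPGroup_of_le hS hle
  have hlt : Q < Q ⊔ C := by
    refine lt_of_le_of_ne le_sup_left (fun heq => hne ?_)
    have h1 : C ≤ Q ⊔ C := le_sup_right
    rw [← heq] at h1
    exact h1
  obtain ⟨g, hg, hgQ⟩ := exists_mem_normalizerIn_not_mem hp' hlt
  obtain ⟨q, hq, c, hc, rfl⟩ := KL.sup_decomp (fun a ha b hb => hCn a (hQS ha) b hb) hg.1
  apply hgQ
  have hcN : c ∈ normalizerIn S Q := by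
    refine ⟨hCS hc, ?_⟩
    have h1 : q⁻¹ * (q * c) = c := by group
    rw [← h1]
    exact Subgroup.mul_mem _ (Subgroup.inv_mem _ (Subgroup.le_normalizer hq)) hg.2
  exact Q.mul_mem hq (h ⟨hc, hcN⟩)

/-- if the Thompson subgroup of `T` lies in `R` then so does the centralizer of `R` in `T`;
version for a finite subgroup of an arbitrary group -/
theorem inf_centralizer_le_of_thompson_le' {T R : Subgroup Ω} [Finite T]
    (h : thompsonSubgroupAOf T ≤ R) : T ⊓ Subgroup.centralizer (R : Set Ω) ≤ R := by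
  intro x hx
  have hJ : thompsonSubgroupAOf (⊤ : Subgroup ↥T) ≤ R.subgroupOf T := by
    intro y hy
    rw [Subgroup.mem_subgroupOf]
    apply h
    have h1 := (Cfsg.Agent.Lib.Helper1.TH.mem_thompsonSubgroupAOf_iff_of_equiv
      (Subgroup.topEquiv : ↥(⊤ : Subgroup ↥T) ≃* ↥T) ⟨y, Subgroup.mem_top y⟩).mp hy
    exact h1
  have key := inf_centralizer_le_of_thompson_le (G := ↥T) hJ
  have hx2 : (⟨x, hx.1⟩ : ↥T) ∈
      Subgroup.centralizer ((R.subgroupOf T : Subgroup ↥T) : Set ↥T) := by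
    rw [Subgroup.mem_centralizer_iff]
    intro r hr
    apply Subtype.ext
    have hr' : (r : Ω) ∈ R := hr
    exact Subgroup.mem_centralizer_iff.mp hx.2 r hr'
  have hx' : (⟨x, hx.1⟩ : ↥T) ∈ (⊤ : Subgroup ↥T) ⊓
      Subgroup.centralizer ((R.subgroupOf T : Subgroup ↥T) : Set ↥T) :=
    Subgroup.mem_inf.mpr ⟨Subgroup.mem_top _, hx2⟩
  exact key hx'

/-- a subgroup of `Q` normal in `F` is normal in the normalizer system of `Q` -/
theorem isNormal_of_le_normalizerSystem {S : Subgroup Ω} [Finite S] (F : FusionSystem S)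
    {Q R : Subgroup Ω} (hQS : Q ≤ S) (hRQ : R ≤ Q) (hRn : F.IsNormal R)
    (N : FusionSystem (normalizerIn S Q)) (hN : F.IsNormalizerSystem Q N) : N.IsNormal R := by
  have hsc := stronglyClosed_of_normal F hRn
  have hRS := hRn.1
  haveI : Finite R := finite_of_le hRS
  refine ⟨hRQ.trans (self_le_normalizerIn' hQS), fun P φ hφ => ?_⟩
  have hφ' := hφ
  rw [hN P] at hφ'
  obtain ⟨hφF, hPN, hφN, ψ, hψ, hψP, hψQ⟩ := hφ'
  have hPQN : P ⊔ Q ≤ normalizerIn S Q := sup_le hPN (self_le_normalizerIn' hQS)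
  have hψN : ψ ∈ N.Hom (P ⊔ Q) := by
    rw [hN (P ⊔ Q)]
    exact mem_normalizerHom_of_map_eq F le_sup_right hPQN hψ hψQ
  have hle : P ⊔ R ≤ P ⊔ Q := sup_le_sup_left hRQ P
  refine ⟨ψ.comp (Subgroup.inclusion hle), restrict_mem N hψN hle, fun x => hψP x, ?_⟩
  apply map_eq_of_forall_mem _ (F.injective_of_mem (restrict_mem F hψ hle)) le_sup_right
  intro y hy
  exact hsc.2 R le_rfl _ (restrict_mem F hψ (hRQ.trans le_sup_right : R ≤ P ⊔ Q)) ⟨y, hy⟩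

end basic

section iota

variable {Ω : Type*} [Group Ω] {T : Subgroup Ω} {L : Type*} [Group L]

theorem iota_mem_imageAlong_iff (ι : ↥T →* L) (hinj : Function.Injective ι) (P : Subgroup Ω)
    (x : ↥T) : ι x ∈ imageAlong ι P ↔ (x : Ω) ∈ P := by
  constructor
  · rintro ⟨y, hy, hyx⟩
    have h := hinj hyx
    rw [← h]
    exact hy
  · intro hx
    exact ⟨x, hx, rfl⟩

theorem imageAlong_top_eq_range (ι : ↥T →* L) : imageAlong ι T = ι.range := by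
  ext y
  constructor
  · rintro ⟨x, -, rfl⟩
    exact ⟨x, rfl⟩
  · rintro ⟨x, rfl⟩
    exact ⟨x, x.2, rfl⟩

theorem eq_of_iota_eq (ι : ↥T →* L) (hinj : Function.Injective ι) {a b : Ω} (ha : a ∈ T)
    (hb : b ∈ T) (h : ι ⟨a, ha⟩ = ι ⟨b, hb⟩) : a = b :=
  congrArg Subtype.val (hinj h)

theorem imageAlong_thompson (ι : ↥T →* L) (hinj : Function.Injective ι) {U : Subgroup Ω}
    (hUT : U ≤ T) :
    imageAlong ι (thompsonSubgroupAOf U) = thompsonSubgroupAOf (imageAlong ι U) := by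
  have hφinj : Function.Injective (ι.comp (Subgroup.inclusion hUT)) :=
    hinj.comp (Subgroup.inclusion_injective hUT)
  have hr : (ι.comp (Subgroup.inclusion hUT)).range = imageAlong ι U := by
    ext y
    constructor
    · rintro ⟨u, rfl⟩
      exact ⟨Subgroup.inclusion hUT u, u.2, rfl⟩
    · rintro ⟨t, ht, rfl⟩
      exact ⟨⟨t, ht⟩, rfl⟩
  ext y
  constructor
  · rintro ⟨t, ht, rfl⟩
    have htJ : (t : Ω) ∈ thompsonSubgroupAOf U := ht
    have htU : (t : Ω) ∈ U := Cfsg.Agent.Lib.Helper1.TH.thompsonSubgroupAOf_le' U htJ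
    exact (Cfsg.Agent.Lib.Helper1.TH.mem_thompsonSubgroupAOf_iff_of_hom
      (ι.comp (Subgroup.inclusion hUT)) hφinj hr ⟨t, htU⟩).mp htJ
  · intro hy
    have hyU : y ∈ imageAlong ι U := Cfsg.Agent.Lib.Helper1.TH.thompsonSubgroupAOf_le' _ hy
    rw [← hr] at hyU
    obtain ⟨u, rfl⟩ := hyU
    have h1 := (Cfsg.Agent.Lib.Helper1.TH.mem_thompsonSubgroupAOf_iff_of_hom
      (ι.comp (Subgroup.inclusion hUT)) hφinj hr u).mpr hy
    exact ⟨Subgroup.inclusion hUT u, h1, rfl⟩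

theorem exists_hom_on (E : FusionSystem T) (ι : ↥T →* L) (hreal : E.IsRealizedBy ι)
    {B : Subgroup Ω} (hBT : B ≤ T) (g : L)
    (hg : ∀ x : B, g * ι ⟨x, hBT x.2⟩ * g⁻¹ ∈ ι.range) :
    ∃ (φ : B →* Ω) (hφT : ∀ x, φ x ∈ T), φ ∈ E.Hom B ∧
      ∀ x, ι ⟨φ x, hφT x⟩ = g * ι ⟨x, hBT x.2⟩ * g⁻¹ := by
  obtain ⟨φ, hφ, hφι⟩ := exists_pull_conj ι hreal.1 hBT g hg
  exact ⟨φ, hφ, (hreal.2 _ hBT φ hφ).mpr ⟨g, hφι⟩, hφι⟩

theorem conj_iota_mem_of_sup (ι : ↥T →* L) {A B : Subgroup Ω} (hA : A ≤ T) (hB : B ≤ T) (g : L)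
    (M : Subgroup L) (hgA : ∀ (x : Ω) (hx : x ∈ A), g * ι ⟨x, hA hx⟩ * g⁻¹ ∈ M)
    (hgB : ∀ (x : Ω) (hx : x ∈ B), g * ι ⟨x, hB hx⟩ * g⁻¹ ∈ M) :
    ∀ (x : Ω) (hx : x ∈ A ⊔ B), g * ι ⟨x, (sup_le hA hB) hx⟩ * g⁻¹ ∈ M := by
  have hle : A ⊔ B ≤ preimageAlong ((MulAut.conj g).toMonoidHom.comp ι) M := by
    apply sup_le
    · intro x hx
      exact (mem_preimageAlong _ _ _).mpr ⟨hA hx, hgA x hx⟩
    · intro x hx
      exact (mem_preimageAlong _ _ _).mpr ⟨hB hx, hgB x hx⟩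
  intro x hx
  obtain ⟨_, h⟩ := (mem_preimageAlong _ _ _).mp (hle hx)
  exact h

theorem iota_mem_centralizer_imageAlong (ι : ↥T →* L) {R : Subgroup Ω} (hRT : R ≤ T) (x : ↥T)
    (hx : (x : Ω) ∈ Subgroup.centralizer (R : Set Ω)) :
    ι x ∈ Subgroup.centralizer ((imageAlong ι R : Subgroup L) : Set L) := by
  rw [Subgroup.mem_centralizer_iff]
  rintro _ ⟨r, hr, rfl⟩
  rw [← map_mul, ← map_mul]
  congr 1
  apply Subtype.ext
  exact Subgroup.mem_centralizer_iff.mp hx r hr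

theorem mem_centralizer_of_iota (ι : ↥T →* L) (hinj : Function.Injective ι) {R : Subgroup Ω}
    (hRT : R ≤ T) (x : ↥T)
    (h : ι x ∈ Subgroup.centralizer ((imageAlong ι R : Subgroup L) : Set L)) :
    (x : Ω) ∈ Subgroup.centralizer (R : Set Ω) := by
  rw [Subgroup.mem_centralizer_iff]
  intro r hr
  have h1 := Subgroup.mem_centralizer_iff.mp h (ι ⟨r, hRT hr⟩) ⟨⟨r, hRT hr⟩, hr, rfl⟩
  rw [← map_mul, ← map_mul] at h1
  exact congrArg Subtype.val (hinj h1)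

/-- the image of the centre of `T` is central in the image of `T` -/
theorem iota_center_mem (ι : ↥T →* L) {z : Ω} (hz : z ∈ Zc T) :
    ι ⟨z, hz.1⟩ ∈ Subgroup.centralizer ((ι.range : Subgroup L) : Set L) := by
  rw [Subgroup.mem_centralizer_iff]
  rintro _ ⟨t, rfl⟩
  rw [← map_mul, ← map_mul]
  congr 1
  apply Subtype.ext
  exact Subgroup.mem_centralizer_iff.mp hz.2 t t.2

/-- `ι` maps `℧¹ Z(T)` into `W` as soon as the `p`-th powers of the image of `Z(T)` lie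
in `W` -/
theorem iota_Z1_mem (ι : ↥T →* L) {p : ℕ} (W : Subgroup L)
    (h : ∀ (z : Ω) (hz : z ∈ Zc T), (ι ⟨z, hz.1⟩) ^ p ∈ W) :
    ∀ (z : Ω) (hz : z ∈ Z1 p T), ι ⟨z, Z1_le p T hz⟩ ∈ W := by
  have hle : Z1 p T ≤ preimageAlong ι W := by
    apply Z1_le_of_forall
    intro z hz
    refine (mem_preimageAlong _ _ _).mpr ⟨T.pow_mem hz.1 p, ?_⟩
    have h1 := h z hz
    rw [← map_pow] at h1
    exact h1
  intro z hz
  obtain ⟨_, h1⟩ := (mem_preimageAlong _ _ _).mp (hle hz)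
  exact h1

/-- two maps agreeing after `ι` are equal -/
theorem hom_ext_of_iota (ι : ↥T →* L) (hinj : Function.Injective ι) {Q : Subgroup Ω}
    {φ γ : ↥Q →* Ω} (hφ : ∀ x, φ x ∈ T) (hγ : ∀ x, γ x ∈ T)
    (h : ∀ x, ι ⟨γ x, hγ x⟩ = ι ⟨φ x, hφ x⟩) : γ = φ := by
  ext x
  exact eq_of_iota_eq ι hinj (hγ x) (hφ x) (h x)

end iota

/-- the hypothesis on larger normal subgroups -/
def HX {Ω : Type*} [Group Ω] {T : Subgroup Ω} (D E : FusionSystem T) (R : Subgroup Ω) : Prop :=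
  ∀ X : Subgroup Ω, R ≤ X → X ≤ T → Nat.card R < Nat.card X →
    (∀ t ∈ T, ∀ x ∈ X, t * x * t⁻¹ ∈ X) →
    ∀ (B : Subgroup Ω) (ω : ↥B →* Ω), ω ∈ D.Hom B → X ≤ B → (X.subgroupOf B).map ω = X →
      ω ∈ E.Hom B

/-- the statement of the generation theorem over `T` -/
def GenStmt (p : ℕ) {Ω : Type u} [Group Ω] (T : Subgroup Ω) : Prop :=
  ∀ D E : FusionSystem T, D.IsSaturated p →
    (∀ P, D.centralizerHom (Z1 p T) P ⊆ E.Hom P) →
    (∀ P, D.normalizerHom (thompsonSubgroupAOf T) P ⊆ E.Hom P) →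
    ∀ P, D.Hom P ⊆ E.Hom P

/-- the induction hypothesis -/
def GenIH (p : ℕ) (Ω : Type u) [Group Ω] (n : ℕ) : Prop :=
  ∀ T : Subgroup Ω, Finite T → IsPGroup p T → Nat.card T < n → GenStmt p T

end Cfsg.Agent.Lib.Helper1.GN
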