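import Mathlib
import Cfsg.Agent.Lib.Helper1.GN2

set_option autoImplicit false
set_option linter.style.haveILetI false
set_option linter.unusedSectionVars false
set_option linter.unusedVariables false
set_option maxHeartbeats 1000000

/-! Generation of fusion systems by `C_F(℧¹ Z(S))` and `N_F(J(S))`, part 3: the constrained
case. -/

namespace Cfsg.Agent.Lib.Helper1.GN

open Cfsg Cfsg.FusionSystem Cfsg.Agent.Lib.Helper9 Cfsg.Agent.Lib.Helper1.KN
  Cfsg.Agent.Lib.Helper1.KL Cfsg.Agent.Lib.Helper1.QF Cfsg.Agent.Lib.Helper1.GF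
  Cfsg.Agent.Lib.Helper7 Cfsg.Agent.Lib.Helper8.ThLoc

universe u

/-- the constrained case, given a model -/
theorem gen_of_model {Ω : Type*} [Group Ω] {T : Subgroup Ω} [Finite T] {p : ℕ} [Fact p.Prime]
    (hT : IsPGroup p T) (D E : FusionSystem T)
    (hCE : ∀ P, D.centralizerHom (Z1 p T) P ⊆ E.Hom P)
    (hNE : ∀ P, D.normalizerHom (thompsonSubgroupAOf T) P ⊆ E.Hom P)
    {R : Subgroup Ω} (hRdef : R = D.core) (hRn : D.IsNormal R)
    (hX : HX D E R) {G : Type*} [Group G] (ι : ↥T →* G) (hmodel : D.IsModel p G ι) :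
    ∀ P, D.Hom P ⊆ E.Hom P := by
  obtain ⟨hfin, hreal, ⟨Sy, hSy⟩, hcent⟩ := id hmodel
  haveI := hfin
  have hinj := hreal.1
  have hRT := hRn.1
  haveI : Finite R := finite_of_le hRT
  have hsc := stronglyClosed_of_normal D hRn
  have hRnorm : ∀ t ∈ T, ∀ x ∈ R, t * x * t⁻¹ ∈ R :=
    fun s hs x hx => conj_mem_of_isNormal D hRn hs hx
  have hrange : ∀ x : ↥T, ι x ∈ (Sy : Subgroup G) := fun x => by
    rw [hSy]
    exact ⟨x, rfl⟩
  haveI hRLn : (imageAlong ι R).Normal := map_normal_of_isModel p D ι hmodel hRn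
  have hRLSy : imageAlong ι R ≤ Sy := (imageAlong_le_range ι R).trans hSy.ge
  have hRLp : IsPGroup p (imageAlong ι R) := Sy.2.to_le hRLSy
  have hpcSy : pCore p G ≤ Sy := pCore_le_sylow p Sy
  have hpc : pCore p G = imageAlong ι R := by
    apply le_antisymm
    · have hX₀T : preimageAlong ι (pCore p G) ≤ T := preimageAlong_le _ _
      have him : imageAlong ι (preimageAlong ι (pCore p G)) = pCore p G :=
        imageAlong_preimageAlong ι hSy.symm hpcSy
      have hn : (((preimageAlong ι (pCore p G)).subgroupOf T).map ι).Normal := by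
        show (imageAlong ι (preimageAlong ι (pCore p G))).Normal
        rw [him]
        exact pCore_normal p
      have hX₀n : D.IsNormal (preimageAlong ι (pCore p G)) :=
        isNormal_of_map_normal D ι hreal hX₀T hn
      have hX₀R : preimageAlong ι (pCore p G) ≤ R := by
        rw [hRdef]
        exact le_sSup hX₀n
      rw [← him]
      exact imageAlong_mono ι hX₀R
    · exact le_pCore hRLn hRLp
  by_cases hJ : thompsonSubgroupAOf (Sy : Subgroup G) ≤ pCore p G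
  · -- the Thompson subgroup is normal
    have hJeq : thompsonSubgroupAOf (pCore p G) = thompsonSubgroupAOf (Sy : Subgroup G) :=
      thompsonSubgroupAOf_eq_of_le hpcSy hJ
    haveI hJn : (thompsonSubgroupAOf (Sy : Subgroup G)).Normal := by
      rw [← hJeq]
      exact thompsonSubgroupAOf_normal (pCore p G) (pCore_isPGroup p)
    have himT : imageAlong ι T = (Sy : Subgroup G) := (imageAlong_top_eq_range ι).trans hSy.symm
    have hJim : imageAlong ι (thompsonSubgroupAOf T) = thompsonSubgroupAOf (Sy : Subgroup G) := by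
      rw [imageAlong_thompson ι hinj le_rfl, himT]
    have hJT : thompsonSubgroupAOf T ≤ T := Cfsg.Agent.Lib.Helper1.TH.thompsonSubgroupAOf_le' T
    haveI : Finite (thompsonSubgroupAOf T) := finite_of_le hJT
    have hJR : thompsonSubgroupAOf T ≤ R := by
      intro x hx
      have h1 : ι ⟨x, hJT hx⟩ ∈ imageAlong ι (thompsonSubgroupAOf T) :=
        ⟨⟨x, hJT hx⟩, hx, rfl⟩
      rw [hJim] at h1
      have h2 := hJ h1
      rw [hpc] at h2
      exact (iota_mem_imageAlong_iff ι hinj R _).mp h2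
    have hJnorm : normalizerIn T (thompsonSubgroupAOf T) = T :=
      normalizerIn_eq_of_forall (fun s hs x hx =>
        Cfsg.Agent.Lib.Helper1.TH.conj_mem_thompsonSubgroupAOf (Subgroup.le_normalizer hs) hx)
    intro P φ hφ
    obtain ⟨ψ, hψ, hψext, hψR⟩ := hRn.2 P φ hφ
    obtain ⟨hBT, hψT⟩ := D.le_of_mem hψ
    obtain ⟨g, hg⟩ := (hreal.2 _ hBT ψ hψT).mp hψ
    have hJB : thompsonSubgroupAOf T ≤ P ⊔ R := hJR.trans le_sup_right
    have hmap : ((thompsonSubgroupAOf T).subgroupOf (P ⊔ R)).map ψ = thompsonSubgroupAOf T := by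
      apply map_eq_of_forall_mem ψ (D.injective_of_mem hψ) hJB
      intro y hy
      have h1 : ι ⟨y, hBT y.2⟩ ∈ thompsonSubgroupAOf (Sy : Subgroup G) := by
        rw [← hJim]
        exact ⟨⟨y, hBT y.2⟩, hy, rfl⟩
      have h2 := hJn.conj_mem _ h1 g
      rw [← hg y, ← hJim] at h2
      exact (iota_mem_imageAlong_iff ι hinj _ _).mp h2
    have hψN : ψ ∈ D.normalizerHom (thompsonSubgroupAOf T) (P ⊔ R) :=
      mem_normalizerHom_of_map_eq D hJB (by rw [hJnorm]; exact hBT) hψ hmap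
    have hψE := hNE _ hψN
    have h1 := restrict_mem E hψE (le_sup_left : P ≤ P ⊔ R)
    have h2 : ψ.comp (Subgroup.inclusion le_sup_left) = φ := by
      ext x
      exact hψext x
    rw [← h2]
    exact h1
  · -- the local generation lemma applies
    have hJ' : ¬ thompsonSubgroupAOf ((Sy : Subgroup G) ⊓ ⊤) ≤ pCore p G := by
      rw [inf_top_eq]
      exact hJ
    have hcent' : (Sy : Subgroup G) ⊓ ⊤ ⊓
        Subgroup.centralizer ((pCore p G : Subgroup G) : Set G) ≤ pCore p G :=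
      inf_le_right.trans hcent
    obtain ⟨W, hWn, hWa, hWb, hWc⟩ := exists_normal_of_not_le Sy ⊤ (pCore p G) le_top
      (pCore_isPGroup p) hcent' hJ'
    rw [inf_top_eq] at hWa hWb
    haveI := hWn
    obtain ⟨K₁, hK₁⟩ : ∃ K₁ : Subgroup G, K₁ = Subgroup.centralizer (W : Set G) := ⟨_, rfl⟩
    haveI hK₁n : K₁.Normal := by
      rw [hK₁]
      exact normal_centralizer_of_normal W
    rw [← hK₁] at hWb hWc
    obtain ⟨X, hXdef⟩ : ∃ X, X = preimageAlong ι ((Sy : Subgroup G) ⊓ K₁) := ⟨_, rfl⟩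
    have hXT : X ≤ T := by
      rw [hXdef]
      exact preimageAlong_le _ _
    haveI : Finite X := finite_of_le hXT
    have hmemX : ∀ x : ↥T, (x : Ω) ∈ X ↔ ι x ∈ K₁ := by
      intro x
      rw [hXdef, mem_preimageAlong]
      constructor
      · rintro ⟨hx, h⟩
        exact h.2
      · intro h
        exact ⟨x.2, Subgroup.mem_inf.mpr ⟨hrange x, h⟩⟩
    have hRX : R ≤ X := by
      intro r hr
      have h1 : ι ⟨r, hRT hr⟩ ∈ pCore p G := by
        rw [hpc]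
        exact ⟨⟨r, hRT hr⟩, hr, rfl⟩
      exact (hmemX ⟨r, hRT hr⟩).mpr (hWc h1)
    have hXnorm : ∀ t ∈ T, ∀ x ∈ X, t * x * t⁻¹ ∈ X := by
      intro t ht x hx
      have hxT := hXT hx
      have h1 := (hmemX ⟨x, hxT⟩).mp hx
      have h2 : ι (⟨t, ht⟩ * ⟨x, hxT⟩ * ⟨t, ht⟩⁻¹) ∈ K₁ := by
        rw [map_mul, map_mul, map_inv]
        exact hK₁n.conj_mem _ h1 _
      exact (hmemX (⟨t, ht⟩ * ⟨x, hxT⟩ * ⟨t, ht⟩⁻¹)).mpr h2
    have hcardX : Nat.card R < Nat.card X := by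
      obtain ⟨y, hy, hyQ⟩ := SetLike.not_le_iff_exists.mp hWb
      have hy1 : y ∈ (Sy : Subgroup G) := (Subgroup.mem_inf.mp hy).1
      have hy2 : y ∈ K₁ := (Subgroup.mem_inf.mp hy).2
      rw [hSy] at hy1
      obtain ⟨x, rfl⟩ := hy1
      have hxX : (x : Ω) ∈ X := (hmemX x).mpr hy2
      have hxR : (x : Ω) ∉ R := by
        intro hxR
        apply hyQ
        rw [hpc]
        exact ⟨x, hxR, rfl⟩
      exact card_lt_of_mem_not_mem hRX hxX hxR
    have hZ1W : ∀ (z : Ω) (hz : z ∈ Z1 p T), ι ⟨z, Z1_le p T hz⟩ ∈ W := by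
      apply iota_Z1_mem ι W
      intro z hz
      apply hWa
      have hc := iota_center_mem ι hz
      rw [← hSy] at hc
      exact Subgroup.mem_inf.mpr ⟨hrange _, hc⟩
    intro P φ hφ
    obtain ⟨hPT, hφT⟩ := D.le_of_mem hφ
    obtain ⟨g, hg⟩ := (hreal.2 P hPT φ hφT).mp hφ
    have hASy : imageAlong ι P ≤ Sy := (imageAlong_le_range ι P).trans hSy.ge
    have hgA : ∀ a ∈ imageAlong ι P, g * a * g⁻¹ ∈ (Sy : Subgroup G) := by
      rintro _ ⟨x, hx, rfl⟩
      have h := hg ⟨x, hx⟩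
      have h' : g * ι x * g⁻¹ = ι ⟨φ ⟨x, hx⟩, hφT _⟩ := h.symm
      rw [h']
      exact hrange _
    obtain ⟨s, k, n, hgskn, hs, hk, hn⟩ := exists_decomp Sy K₁ (imageAlong ι P) hASy g hgA
    have hBT : P ⊔ X ≤ T := sup_le hPT hXT
    have hnB : ∀ (z : Ω) (hz : z ∈ P ⊔ X), n * ι ⟨z, hBT hz⟩ * n⁻¹ ∈ ι.range := by
      rw [← hSy]
      apply conj_iota_mem_of_sup ι hPT hXT n (Sy : Subgroup G)
      · intro x hx
        exact hn _ (Subgroup.mem_sup_left ⟨⟨x, hPT hx⟩, hx, rfl⟩)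
      · intro x hx
        exact hn _ (Subgroup.mem_sup_right
          (Subgroup.mem_inf.mpr ⟨hrange _, (hmemX ⟨x, hXT hx⟩).mp hx⟩))
    obtain ⟨ψn, hψnT, hψnD, hψnι⟩ := exists_hom_on D ι hreal hBT n (fun z => hnB z z.2)
    have hXB : X ≤ P ⊔ X := le_sup_right
    have hψnX : (X.subgroupOf (P ⊔ X)).map ψn = X := by
      apply map_eq_of_forall_mem ψn (D.injective_of_mem hψnD) hXB
      intro y hy
      have hyT := hBT y.2
      have h1 : ι ⟨y, hyT⟩ ∈ K₁ := (hmemX ⟨y, hyT⟩).mp hy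
      have h2 : ι ⟨ψn y, hψnT y⟩ ∈ K₁ := by
        rw [hψnι y]
        exact hK₁n.conj_mem _ h1 n
      exact (hmemX ⟨ψn y, hψnT y⟩).mpr h2
    have hψnE : ψn ∈ E.Hom (P ⊔ X) :=
      hX X hRX hXT hcardX hXnorm (P ⊔ X) ψn hψnD hXB hψnX
    have hψnP : ψn.comp (Subgroup.inclusion le_sup_left) ∈ E.Hom P :=
      restrict_mem E hψnE le_sup_left
    obtain ⟨P₂, hP₂⟩ : ∃ P₂,
        (ψn.comp (Subgroup.inclusion (le_sup_left : P ≤ P ⊔ X))).range = P₂ := ⟨_, rfl⟩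
    obtain ⟨Q₀, hQ₀T, κ₀, hκ₀T, hκ₀D, hκ₀ι, hκ₀max⟩ := exists_hom_of_conj D ι hreal k
    have hval1 : ∀ x : ↥P, (ψn.comp (Subgroup.inclusion le_sup_left)) x ∈ P₂ := fun x => by
      rw [← hP₂]
      exact ⟨x, rfl⟩
    have hP₂T : P₂ ≤ T := by
      rw [← hP₂]
      rintro _ ⟨x, rfl⟩
      exact hψnT _
    have hkey : ∀ x : ↥P, k * ι ⟨ψn (Subgroup.inclusion le_sup_left x), hψnT _⟩ * k⁻¹ =
        s⁻¹ * ι ⟨φ x, hφT x⟩ * s := by
      intro x
      have h1 : ι ⟨ψn (Subgroup.inclusion le_sup_left x), hψnT _⟩ =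
          n * ι ⟨x, hPT x.2⟩ * n⁻¹ := hψnι _
      rw [h1, hg x, hgskn]
      group
    have hP₂Q₀ : P₂ ≤ Q₀ := by
      intro y hy
      rw [← hP₂] at hy
      obtain ⟨x, rfl⟩ := hy
      have h0 : (ψn.comp (Subgroup.inclusion le_sup_left)) x =
          ψn (Subgroup.inclusion le_sup_left x) := rfl
      rw [h0]
      apply hκ₀max _ (hψnT _)
      rw [hkey x, ← hSy]
      exact Subgroup.mul_mem _ (Subgroup.mul_mem _ (Subgroup.inv_mem _ hs) (hrange _)) hs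
    have hkfix : ∀ (z : Ω) (hz : z ∈ Z1 p T),
        k * ι ⟨z, Z1_le p T hz⟩ * k⁻¹ = ι ⟨z, Z1_le p T hz⟩ := by
      intro z hz
      have h1 := hZ1W z hz
      have hk' : k ∈ Subgroup.centralizer (W : Set G) := by
        rw [← hK₁]
        exact hk
      have h2 := Subgroup.mem_centralizer_iff.mp hk' _ h1
      rw [← h2, mul_inv_cancel_right]
    have hZ1Q₀ : Z1 p T ≤ Q₀ := by
      intro z hz
      apply hκ₀max z (Z1_le p T hz)
      rw [hkfix z hz]
      exact ⟨_, rfl⟩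
    have hle : P₂ ⊔ Z1 p T ≤ Q₀ := sup_le hP₂Q₀ hZ1Q₀
    have hκ : κ₀.comp (Subgroup.inclusion hP₂Q₀) ∈ D.centralizerHom (Z1 p T) P₂ := by
      refine ⟨restrict_mem D hκ₀D hP₂Q₀, ?_, ?_, κ₀.comp (Subgroup.inclusion hle),
        restrict_mem D hκ₀D hle, fun x => rfl, ?_⟩
      · rw [centralizerIn_Z1]
        exact hP₂T
      · intro x
        rw [centralizerIn_Z1]
        exact hκ₀T _
      · intro z
        have hzT := Z1_le p T z.2
        have h1 : ι ⟨κ₀ ⟨z, hZ1Q₀ z.2⟩, hκ₀T _⟩ = k * ι ⟨z, hzT⟩ * k⁻¹ := hκ₀ι ⟨z, hZ1Q₀ z.2⟩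
        have h2 := hkfix z z.2
        exact eq_of_iota_eq ι hinj (hκ₀T _) hzT (h1.trans h2)
    have hκE := hCE P₂ hκ
    obtain ⟨s₀, hs₀⟩ : ∃ s₀ : ↥T, ι s₀ = s := by
      have h := hs
      rw [hSy] at h
      exact h
    obtain ⟨γ₁, hγ₁, hγ₁e⟩ := comp_hom E hψnP hκE hval1
    have hγ₁T : ∀ x, γ₁ x ∈ T := fun x => (E.le_of_mem hγ₁).2 x
    obtain ⟨γ₂, hγ₂, hγ₂e⟩ := comp_hom E hγ₁ (E.conj_mem le_rfl s₀.2) hγ₁T
    have hγ₂T : ∀ x, γ₂ x ∈ T := fun x => (E.le_of_mem hγ₂).2 x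
    have h4 : γ₂ = φ := by
      apply hom_ext_of_iota ι hinj hφT hγ₂T
      intro x
      have e0 : γ₂ x = (s₀ : Ω) * γ₁ x * (s₀ : Ω)⁻¹ := hγ₂e x
      have e1 : (⟨γ₂ x, hγ₂T x⟩ : ↥T) = s₀ * ⟨γ₁ x, hγ₁T x⟩ * s₀⁻¹ := Subtype.ext e0
      have hmemQ₀ : ψn (Subgroup.inclusion le_sup_left x) ∈ Q₀ := hP₂Q₀ (hval1 x)
      have e2 : ι ⟨γ₁ x, hγ₁T x⟩ =
          ι ⟨κ₀ ⟨ψn (Subgroup.inclusion le_sup_left x), hmemQ₀⟩, hκ₀T _⟩ :=
        congrArg ι (Subtype.ext (hγ₁e x))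
      have e3 : ι ⟨κ₀ ⟨ψn (Subgroup.inclusion le_sup_left x), hmemQ₀⟩, hκ₀T _⟩ =
          k * ι ⟨ψn (Subgroup.inclusion le_sup_left x), hψnT _⟩ * k⁻¹ := hκ₀ι _
      rw [e1, map_mul, map_mul, map_inv, hs₀, e2, e3, hkey x]
      group
    rw [← h4]
    exact hγ₂

/-- the constrained case -/
theorem gen_constrained {Ω : Type u} [Group Ω] {T : Subgroup Ω} [Finite T] {p : ℕ}
    [Fact p.Prime] (hT : IsPGroup p T) (D E : FusionSystem T) (hD : D.IsSaturated p)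
    (hCE : ∀ P, D.centralizerHom (Z1 p T) P ⊆ E.Hom P)
    (hNE : ∀ P, D.normalizerHom (thompsonSubgroupAOf T) P ⊆ E.Hom P)
    {R : Subgroup Ω} (hRdef : R = D.core) (hRn : D.IsNormal R) (hcen : centralizerIn T R ≤ R)
    (hX : HX D E R) : ∀ P, D.Hom P ⊆ E.Hom P := by
  have hRT := hRn.1
  haveI : Finite R := finite_of_le hRT
  have hsc := stronglyClosed_of_normal D hRn
  have hRc : D.IsCentric R := by
    refine ⟨hRT, fun Q hQ => ?_⟩
    have hQR : Q ≤ R := by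
      obtain ⟨φ, hφ, hr⟩ := hQ
      rw [← hr]
      rintro _ ⟨x, rfl⟩
      exact hsc.2 R le_rfl φ hφ x
    have hcard := card_eq_of_isConj D hQ
    have hQeq : Q = R := Subgroup.eq_of_le_of_card_ge hQR hcard.le
    rw [hQeq]
    exact hcen
  obtain ⟨G, _, ι, hmodel⟩ := Cfsg.Agent.S5090.result p hT D ⟨hD, R, hRn, hRc⟩
  exact gen_of_model hT D E hCE hNE hRdef hRn hX ι hmodel

end Cfsg.Agent.Lib.Helper1.GN
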