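import Mathlib
import Cfsg.Agent.Lib.Helper1.GN3

set_option autoImplicit false
set_option linter.style.haveILetI false
set_option linter.unusedSectionVars false
set_option linter.unusedVariables false
set_option maxHeartbeats 1000000

/-! Generation of fusion systems by `C_F(℧¹ Z(S))` and `N_F(J(S))`, part 4: the climbing
lemma. -/

namespace Cfsg.Agent.Lib.Helper1.GN

open Cfsg Cfsg.FusionSystem Cfsg.Agent.Lib.Helper9 Cfsg.Agent.Lib.Helper1.KN
  Cfsg.Agent.Lib.Helper1.KL Cfsg.Agent.Lib.Helper1.QF Cfsg.Agent.Lib.Helper1.GF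

universe u

/-- the climbing lemma -/
theorem climb_gen {Ω : Type u} [Group Ω] {T : Subgroup Ω} [Finite T] {p : ℕ} [Fact p.Prime]
    (hT : IsPGroup p T) (IH : GenIH p Ω (Nat.card T)) (D E : FusionSystem T)
    (hD : D.IsSaturated p)
    (hCE : ∀ P, D.centralizerHom (Z1 p T) P ⊆ E.Hom P)
    {R : Subgroup Ω} (hRn : D.IsNormal R) (hncen : ¬ centralizerIn T R ≤ R)
    (hX : HX D E R) (c : ℕ)
    (hIH : ∀ P₁ : Subgroup Ω, P₁ ≤ T → c < Nat.card P₁ → D.Hom P₁ ⊆ E.Hom P₁) :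
    ∀ (d : ℕ) (V : Subgroup Ω), R ≤ V → V ≤ T → Nat.card R < Nat.card V →
      c < Nat.card (normalizerIn T V) → Nat.card T - Nat.card (normalizerIn T V) ≤ d →
      ∀ (B : Subgroup Ω) (ω : ↥B →* Ω), V ≤ B → B ≤ normalizerIn T V → ω ∈ D.Hom B →
        (V.subgroupOf B).map ω = V → ω ∈ E.Hom B := by
  have hRT := hRn.1
  have hsc := stronglyClosed_of_normal D hRn
  have hRnorm : ∀ t ∈ T, ∀ x ∈ R, t * x * t⁻¹ ∈ R :=
    fun s hs x hx => conj_mem_of_isNormal D hRn hs hx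
  haveI : Finite R := finite_of_le hRT
  have hRnormalizer : ∀ t ∈ T, t ∈ Subgroup.normalizer (R : Set Ω) := fun t ht =>
    KN.mem_normalizer_of_forall_conj_mem (fun y hy => hRnorm t ht y hy)
  intro d
  induction d using Nat.strong_induction_on with
  | _ d ih =>
    intro V hRV hVT hcV hcN hd B ω hVB hBN hω hωV
    haveI : Finite V := finite_of_le hVT
    haveI := finite_normalizerIn (S := T) V
    obtain ⟨V₃, hVV₃, hV₃n⟩ := exists_isConj_fullyNormalized D hVT
    have hV₃a := fullyAutomized_of_fullyNormalized hT D hD hV₃n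
    have hV₃r := receptive_of_fullyCentralized hT D hD
      (fullyCentralized_of_fullyNormalized hT D hD hV₃n)
    obtain ⟨χ, hχ, hχN, hχV⟩ := exists_normalizer_hom hT D V₃ V hV₃a hV₃r hVV₃
    have hχE : χ ∈ E.Hom (normalizerIn T V) := hIH _ (normalizerIn_le T V) hcN hχ
    have hV₃T := hV₃n.1
    haveI : Finite V₃ := finite_of_le hV₃T
    haveI := finite_normalizerIn (S := T) V₃
    have hVN : V ≤ normalizerIn T V := self_le_normalizerIn' hVT
    have hRN : R ≤ normalizerIn T V := hRV.trans hVN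
    have hχR : (R.subgroupOf (normalizerIn T V)).map χ = R :=
      map_eq_of_forall_mem χ (D.injective_of_mem hχ) hRN
        (fun y hy => hsc.2 R le_rfl _ (restrict_mem D hχ hRN) ⟨y, hy⟩)
    have hRV₃ : R ≤ V₃ := by
      intro r hr
      obtain ⟨r', hr', hrr'⟩ := hχR.ge hr
      have hr'R : (r' : Ω) ∈ R := hr'
      have hr'V : r' ∈ V.subgroupOf (normalizerIn T V) := by
        rw [Subgroup.mem_subgroupOf]
        exact hRV hr'R
      rw [← hrr']
      exact hχV.le ⟨r', hr'V, rfl⟩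
    have hcV₃ : Nat.card V₃ = Nat.card V := (card_eq_of_isConj D hVV₃).symm
    have hle3 : Nat.card (normalizerIn T V) ≤ Nat.card (normalizerIn T V₃) :=
      hV₃n.2 V (isConj_symm D hVV₃)
    have hωN := mem_normalizerHom_of_map_eq D hVB hBN hω hωV
    have hωval : ∀ x, ω x ∈ normalizerIn T V := hωN.2.2.1
    obtain ⟨B₃, hB₃⟩ : ∃ B₃, (B.subgroupOf (normalizerIn T V)).map χ = B₃ := ⟨_, rfl⟩
    obtain ⟨ω₃, hω₃D, hω₃⟩ := exists_transport_hom D χ hχ hBN hB₃ ω hω hωval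
    have hV₃B₃ : V₃ ≤ B₃ := by
      intro y hy
      obtain ⟨x, hx, rfl⟩ := hχV.ge hy
      have hx' : (x : Ω) ∈ V := hx
      have hx'' : x ∈ B.subgroupOf (normalizerIn T V) := by
        rw [Subgroup.mem_subgroupOf]
        exact hVB hx'
      exact hB₃.le ⟨x, hx'', rfl⟩
    have hB₃N : B₃ ≤ normalizerIn T V₃ := by
      intro y hy
      obtain ⟨x, hx, rfl⟩ := hB₃.ge hy
      exact hχN x
    have hω₃V : (V₃.subgroupOf B₃).map ω₃ = V₃ := by
      apply map_eq_of_forall_mem ω₃ (D.injective_of_mem hω₃D) hV₃B₃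
      intro y hy
      obtain ⟨v, hv, hvy⟩ := hχV.ge hy
      have hv' : (v : Ω) ∈ V := hv
      have hvB : (v : Ω) ∈ B := hVB hv'
      have hmem : χ ⟨((⟨(v : Ω), hvB⟩ : ↥B) : Ω), hBN hvB⟩ ∈ B₃ := by
        have h0 : χ ⟨((⟨(v : Ω), hvB⟩ : ↥B) : Ω), hBN hvB⟩ = χ v := rfl
        rw [h0, hvy]
        exact y.2
      have hy' : y = ⟨χ ⟨((⟨(v : Ω), hvB⟩ : ↥B) : Ω), hBN hvB⟩, hmem⟩ :=
        Subtype.ext hvy.symm
      rw [hy', hω₃ ⟨(v : Ω), hvB⟩ hmem]
      have hωv : ω ⟨(v : Ω), hvB⟩ ∈ V := by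
        have h5 : (⟨(v : Ω), hvB⟩ : ↥B) ∈ V.subgroupOf B := by
          rw [Subgroup.mem_subgroupOf]
          exact hv'
        exact hωV.le ⟨_, h5, rfl⟩
      have h6 : (⟨ω ⟨(v : Ω), hvB⟩, hωval _⟩ : ↥(normalizerIn T V)) ∈
          V.subgroupOf (normalizerIn T V) := by
        rw [Subgroup.mem_subgroupOf]
        exact hωv
      exact hχV.le ⟨_, h6, rfl⟩
    suffices hω₃E : ω₃ ∈ E.Hom B₃ by
      obtain ⟨θ, hθ, hθχ, -, -⟩ := inv_hom E hχE rfl
      have hχB : χ.comp (Subgroup.inclusion hBN) ∈ E.Hom B := restrict_mem E hχE hBN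
      have h1 : ∀ x : ↥B, (χ.comp (Subgroup.inclusion hBN)) x ∈ B₃ := by
        intro x
        have hx : Subgroup.inclusion hBN x ∈ B.subgroupOf (normalizerIn T V) := by
          rw [Subgroup.mem_subgroupOf]
          exact x.2
        exact hB₃.le ⟨_, hx, rfl⟩
      obtain ⟨γ₁, hγ₁, hγ₁e⟩ := comp_hom E hχB hω₃E h1
      have h2 : ∀ x : ↥B, γ₁ x = χ ⟨ω x, hωval x⟩ := by
        intro x
        rw [hγ₁e]
        exact hω₃ x (h1 x)
      have h3 : ∀ x : ↥B, γ₁ x ∈ χ.range := fun x => by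
        rw [h2]
        exact ⟨_, rfl⟩
      obtain ⟨γ₂, hγ₂, hγ₂e⟩ := comp_hom E hγ₁ hθ h3
      have h4 : γ₂ = ω := by
        ext x
        rw [hγ₂e]
        have h5 : (⟨γ₁ x, h3 x⟩ : ↥χ.range) = ⟨χ ⟨ω x, hωval x⟩, ⟨_, rfl⟩⟩ :=
          Subtype.ext (h2 x)
        rw [h5]
        exact hθχ ⟨ω x, hωval x⟩ _
      rw [← h4]
      exact hγ₂
    by_cases hTS : normalizerIn T V₃ = T
    · exact hX V₃ hRV₃ hV₃T (by omega)
        (fun t ht x hx => conj_mem_of_normalizerIn_eq hTS ht hx) B₃ ω₃ hω₃D hV₃B₃ hω₃V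
    · -- the normalizer system of `V₃`
      obtain ⟨N₃, hN₃⟩ := Cfsg.Agent.S5096.result D V₃ hV₃T
      have hN₃sat := Cfsg.Agent.S5098.result p hT D hD V₃ hV₃n N₃ hN₃
      have hT₃T : normalizerIn T V₃ ≤ T := normalizerIn_le T V₃
      have hT₃lt : normalizerIn T V₃ < T := lt_of_le_of_ne hT₃T hTS
      have hcT₃ : Nat.card (normalizerIn T V₃) < Nat.card T :=
        Cfsg.Agent.Lib.Helper9.card_lt_of_lt' hT₃lt
      have hT₃p : IsPGroup p (normalizerIn T V₃) := isPGroup_of_le hT hT₃T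
      have hV₃T₃ : V₃ ≤ normalizerIn T V₃ := self_le_normalizerIn' hV₃T
      have hsub : ∀ P, N₃.Hom P ⊆ D.Hom P :=
        fun P φ h => hom_of_normalizerSystem D N₃ hN₃ h
      obtain ⟨g₀, hg₀, hg₀T⟩ := exists_mem_normalizerIn_not_mem hT hT₃lt
      haveI := finite_normalizerIn (S := T) (normalizerIn T V₃)
      have hlt1 : Nat.card (normalizerIn T V₃) <
          Nat.card (normalizerIn T (normalizerIn T V₃)) := by
        apply Cfsg.Agent.Lib.Helper9.card_lt_of_lt'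
        exact lt_of_le_of_ne (self_le_normalizerIn' hT₃T) (fun h => hg₀T (h ▸ hg₀))
      have hgen := IH (normalizerIn T V₃) inferInstance hT₃p hcT₃ N₃
        (restrictSys E hT₃T) hN₃sat ?_ ?_
      · have hω₃N : ω₃ ∈ N₃.Hom B₃ := by
          rw [hN₃ B₃]
          exact mem_normalizerHom_of_map_eq D hV₃B₃ hB₃N hω₃D hω₃V
        exact (hgen B₃ hω₃N).1
      · -- the centralizer part
        intro P φ hφ
        have hφN := hφ.1
        obtain ⟨hPT₃, hφT₃⟩ := N₃.le_of_mem hφN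
        have hZ : Z1 p T ≤ Z1 p (normalizerIn T V₃) :=
          Z1_mono (Zc_le_Zc hT₃T (Cfsg.Agent.Lib.Helper1.WC.center_le_normalizerIn hV₃T))
        have h1 := centralizerHom_mono hT₃T N₃ D hsub _ P hφ
        obtain ⟨hφD, -, -, ψ, hψ, hψext, hψfix⟩ := h1
        have hle : P ⊔ Z1 p T ≤ P ⊔ Z1 p (normalizerIn T V₃) := sup_le_sup_left hZ P
        have h2 : φ ∈ D.centralizerHom (Z1 p T) P := by
          refine ⟨hφD, ?_, ?_, ψ.comp (Subgroup.inclusion hle), restrict_mem D hψ hle,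
            fun x => hψext x, fun x => hψfix ⟨x, hZ x.2⟩⟩
          · rw [centralizerIn_Z1]
            exact hPT₃.trans hT₃T
          · intro x
            rw [centralizerIn_Z1]
            exact hT₃T (hφT₃ x)
        exact ⟨hCE P h2, hPT₃, hφT₃⟩
      · -- the normalizer part
        obtain ⟨J, hJdef⟩ : ∃ J, J = thompsonSubgroupAOf (normalizerIn T V₃) := ⟨_, rfl⟩
        rw [← hJdef]
        intro P φ hφ
        obtain ⟨hφN, hPN, hφNv, ψ, hψ, hψext, hψJ⟩ := hφ
        obtain ⟨hPT₃, hφT₃⟩ := N₃.le_of_mem hφN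
        rw [hN₃] at hψ
        obtain ⟨hψD, hB'N, hψval, ψ', hψ', hψ'ext, hψ'V⟩ := hψ
        have hJT₃ : J ≤ normalizerIn T V₃ := by
          rw [hJdef]
          exact Cfsg.Agent.Lib.Helper1.TH.thompsonSubgroupAOf_le' _
        have hJT : J ≤ T := hJT₃.trans hT₃T
        haveI : Finite J := finite_of_le hJT
        have hB'T₃ : P ⊔ J ⊔ V₃ ≤ normalizerIn T V₃ := sup_le hB'N hV₃T₃
        have hV₂B' : R ⊔ J ≤ P ⊔ J ⊔ V₃ :=
          sup_le (hRV₃.trans le_sup_right) ((le_sup_right : J ≤ P ⊔ J).trans le_sup_left)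
        have hV₂T : R ⊔ J ≤ T := sup_le hRT hJT
        haveI : Finite ↥(R ⊔ J) := finite_of_le hV₂T
        have hRB' : R ≤ P ⊔ J ⊔ V₃ := hRV₃.trans le_sup_right
        have hJB' : J ≤ P ⊔ J ⊔ V₃ := (le_sup_right : J ≤ P ⊔ J).trans le_sup_left
        have hψ'R : ∀ y : ↥(P ⊔ J ⊔ V₃), (y : Ω) ∈ R → ψ' y ∈ R ⊔ J := fun y hy =>
          Subgroup.mem_sup_left (hsc.2 R le_rfl _ (restrict_mem D hψ' hRB') ⟨y, hy⟩)
        have hψ'J : ∀ y : ↥(P ⊔ J ⊔ V₃), (y : Ω) ∈ J → ψ' y ∈ R ⊔ J := by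
          intro y hy
          have hyPJ : (y : Ω) ∈ P ⊔ J := Subgroup.mem_sup_right hy
          have h1 : ψ' y = ψ ⟨y, hyPJ⟩ := hψ'ext ⟨y, hyPJ⟩
          rw [h1]
          apply Subgroup.mem_sup_right
          have h5 : (⟨(y : Ω), hyPJ⟩ : ↥(P ⊔ J)) ∈ J.subgroupOf (P ⊔ J) := by
            rw [Subgroup.mem_subgroupOf]
            exact hy
          exact hψJ.le ⟨_, h5, rfl⟩
        have hψ'V₂ : ((R ⊔ J).subgroupOf (P ⊔ J ⊔ V₃)).map ψ' = R ⊔ J :=
          map_eq_of_forall_mem ψ' (D.injective_of_mem hψ') hV₂B'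
            (map_mem_of_sup ψ' hψ'R hψ'J hRB' hJB')
        have hJR : ¬ J ≤ R := by
          intro hle
          have h1 : normalizerIn T V₃ ⊓ Subgroup.centralizer (R : Set Ω) ≤ R := by
            apply inf_centralizer_le_of_thompson_le'
            rw [← hJdef]
            exact hle
          have hCn : ∀ s ∈ T, ∀ c ∈ centralizerIn T R, s * c * s⁻¹ ∈ centralizerIn T R := by
            intro s hs c hc
            have h2 : s * c * s⁻¹ ∈ Subgroup.centralizer (R : Set Ω) :=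
              Cfsg.Agent.Lib.Helper1.WC.conj_mem_centralizer (hRnormalizer s hs) hc.2
            exact ⟨T.mul_mem (T.mul_mem hs hc.1) (T.inv_mem hs), h2⟩
          have h3 : centralizerIn T R ⊓ normalizerIn T V₃ ≤ V₃ := by
            intro x hx
            have hx1 : x ∈ centralizerIn T R := (Subgroup.mem_inf.mp hx).1
            have hx2 : x ∈ normalizerIn T V₃ := (Subgroup.mem_inf.mp hx).2
            exact hRV₃ (h1 (Subgroup.mem_inf.mpr ⟨hx2, hx1.2⟩))
          have h4 : centralizerIn T R ≤ V₃ :=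
            le_of_normalizer_inf_le hT hV₃T (centralizerIn_le T R) hCn h3
          apply hncen
          intro x hx
          exact h1 (Subgroup.mem_inf.mpr ⟨hV₃T₃ (h4 hx), hx.2⟩)
        have hcardV₂ : Nat.card R < Nat.card ↥(R ⊔ J) := by
          obtain ⟨j, hj, hjR⟩ := SetLike.not_le_iff_exists.mp hJR
          exact card_lt_of_mem_not_mem le_sup_left (Subgroup.mem_sup_right hj) hjR
        have hNN : normalizerIn T (normalizerIn T V₃) ≤ normalizerIn T (R ⊔ J) := by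
          intro g hg
          have hg2 : g ∈ Subgroup.normalizer ((R ⊔ J : Subgroup Ω) : Set Ω) := by
            apply KN.mem_normalizer_of_forall_conj_mem
            apply Cfsg.Agent.Lib.Helper1.WC.conj_mem_sup (hRnorm g hg.1)
            intro x hx
            rw [hJdef] at hx ⊢
            exact Cfsg.Agent.Lib.Helper1.TH.conj_mem_thompsonSubgroupAOf hg.2 hx
          exact ⟨hg.1, hg2⟩
        haveI := finite_normalizerIn (S := T) (R ⊔ J)
        have hle2 : Nat.card (normalizerIn T (normalizerIn T V₃)) ≤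
            Nat.card (normalizerIn T (R ⊔ J)) := Subgroup.card_le_of_le hNN
        have hle4 : Nat.card (normalizerIn T (R ⊔ J)) ≤ Nat.card T :=
          Subgroup.card_le_of_le (normalizerIn_le T _)
        have hB'N₂ : P ⊔ J ⊔ V₃ ≤ normalizerIn T (R ⊔ J) :=
          hB'T₃.trans ((self_le_normalizerIn' hT₃T).trans hNN)
        have hψ'E : ψ' ∈ E.Hom (P ⊔ J ⊔ V₃) :=
          ih (d - 1) (by omega) (R ⊔ J) le_sup_left hV₂T hcardV₂ (by omega) (by omega)
            (P ⊔ J ⊔ V₃) ψ' hV₂B' hB'N₂ hψ' hψ'V₂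
        have hPB' : P ≤ P ⊔ J ⊔ V₃ := (le_sup_left : P ≤ P ⊔ J).trans le_sup_left
        have h1 := restrict_mem E hψ'E hPB'
        have h2 : ψ'.comp (Subgroup.inclusion hPB') = φ := by
          ext x
          have h3 : ψ' (Subgroup.inclusion hPB' x) = ψ (Subgroup.inclusion le_sup_left x) :=
            hψ'ext (Subgroup.inclusion le_sup_left x)
          exact h3.trans (hψext x)
        rw [h2] at h1
        exact ⟨h1, hPT₃, hφT₃⟩

end Cfsg.Agent.Lib.Helper1.GN
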