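import Mathlib
import Cfsg.Agent.Lib.Helper1.GN4

set_option autoImplicit false
set_option linter.style.haveILetI false
set_option linter.unusedSectionVars false
set_option linter.unusedVariables false
set_option maxHeartbeats 1000000

/-! Generation of fusion systems by `C_F(℧¹ Z(S))` and `N_F(J(S))`, part 5: automorphisms of
centric subgroups and the main induction. -/

namespace Cfsg.Agent.Lib.Helper1.GN

open Cfsg Cfsg.FusionSystem Cfsg.Agent.Lib.Helper9 Cfsg.Agent.Lib.Helper1.KN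
  Cfsg.Agent.Lib.Helper1.KL Cfsg.Agent.Lib.Helper1.QF Cfsg.Agent.Lib.Helper1.GF
  Cfsg.Agent.Lib.Helper8.ThLoc

universe u

/-- automorphisms of a fully normalized centric subgroup containing `R`, given a model of the
normalizer system -/
theorem gen_aut_model {Ω : Type u} [Group Ω] {T : Subgroup Ω} [Finite T] {p : ℕ} [Fact p.Prime]
    (hT : IsPGroup p T) (IH : GenIH p Ω (Nat.card T)) (D E : FusionSystem T)
    (hD : D.IsSaturated p)
    (hCE : ∀ P, D.centralizerHom (Z1 p T) P ⊆ E.Hom P)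
    {R : Subgroup Ω} (hRn : D.IsNormal R) (hncen : ¬ centralizerIn T R ≤ R) (hX : HX D E R)
    {Q : Subgroup Ω} (hQn : D.IsFullyNormalized Q) (hQc : D.IsCentric Q) (hRQ : R ≤ Q)
    (hIH : ∀ P₁ : Subgroup Ω, P₁ ≤ T → Nat.card Q < Nat.card P₁ → D.Hom P₁ ⊆ E.Hom P₁)
    {φ : ↥Q →* Ω} (hφ : φ ∈ D.Hom Q) (hφQ : ∀ y : ↥Q, φ y ∈ Q)
    (NQ : FusionSystem (normalizerIn T Q)) (hNQ : D.IsNormalizerSystem Q NQ)
    {L : Type*} [Group L] (ι : ↥(normalizerIn T Q) →* L) (hmodel : NQ.IsModel p L ι) :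
    φ ∈ E.Hom Q := by
  obtain ⟨hfin, hreal, ⟨Sy, hSy⟩, hcent⟩ := id hmodel
  haveI := hfin
  have hinj := hreal.1
  have hQT := hQn.1
  have hRT := hRn.1
  haveI : Finite Q := finite_of_le hQT
  haveI : Finite R := finite_of_le hRT
  have hsc := stronglyClosed_of_normal D hRn
  have hRnorm : ∀ t ∈ T, ∀ x ∈ R, t * x * t⁻¹ ∈ R :=
    fun s hs x hx => conj_mem_of_isNormal D hRn hs hx
  have hRnormalizer : ∀ t ∈ T, t ∈ Subgroup.normalizer (R : Set Ω) := fun t ht =>
    KN.mem_normalizer_of_forall_conj_mem (fun y hy => hRnorm t ht y hy)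
  have hTQT : normalizerIn T Q ≤ T := normalizerIn_le T Q
  have hQTQ : Q ≤ normalizerIn T Q := self_le_normalizerIn' hQT
  have hRTQ : R ≤ normalizerIn T Q := hRQ.trans hQTQ
  haveI := finite_normalizerIn (S := T) Q
  have hrange : ∀ x : ↥(normalizerIn T Q), ι x ∈ (Sy : Subgroup L) := fun x => by
    rw [hSy]
    exact ⟨x, rfl⟩
  have hQnorm : NQ.IsNormal Q := normal_self_of_isNormalizerSystem D hQT NQ hNQ
  have hRnormNQ : NQ.IsNormal R := isNormal_of_le_normalizerSystem D hQT hRQ hRn NQ hNQ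
  haveI hQLn : (imageAlong ι Q).Normal := map_normal_of_isModel p NQ ι hmodel hQnorm
  haveI hRLn : (imageAlong ι R).Normal := map_normal_of_isModel p NQ ι hmodel hRnormNQ
  have hQLSy : imageAlong ι Q ≤ Sy := (imageAlong_le_range ι Q).trans hSy.ge
  have hQLp : IsPGroup p (imageAlong ι Q) := Sy.2.to_le hQLSy
  have hsub : ∀ P, NQ.Hom P ⊆ D.Hom P := fun P ψ h => hom_of_normalizerSystem D NQ hNQ h
  have hφinj := D.injective_of_mem hφ
  have hφmap : (Q.subgroupOf Q).map φ = Q :=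
    map_eq_of_forall_mem φ hφinj le_rfl (fun y _ => hφQ y)
  have hφNQ : φ ∈ NQ.Hom Q := by
    rw [hNQ Q]
    exact mem_normalizerHom_of_map_eq D le_rfl hQTQ hφ hφmap
  have hφTQ : ∀ x, φ x ∈ normalizerIn T Q := fun x => hQTQ (hφQ x)
  obtain ⟨ℓ, hℓ⟩ := (hreal.2 Q hQTQ φ hφTQ).mp hφNQ
  have hmemQ : ∀ x : ↥(normalizerIn T Q), ι x ∈ imageAlong ι Q ↔ (x : Ω) ∈ Q :=
    iota_mem_imageAlong_iff ι hinj Q
  -- the extension principle
  have hext : ∀ (g : L) (M : Subgroup L), M ≤ Sy → ¬ M ≤ imageAlong ι Q →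
      (∀ y ∈ M, g * y * g⁻¹ ∈ (Sy : Subgroup L)) →
      ∃ (ψ : ↥Q →* Ω) (hψT : ∀ x, ψ x ∈ normalizerIn T Q), ψ ∈ E.Hom Q ∧ (∀ x, ψ x ∈ Q) ∧
        ∀ x, ι ⟨ψ x, hψT x⟩ = g * ι ⟨x, hQTQ x.2⟩ * g⁻¹ := by
    intro g M hMSy hMQ hgM
    obtain ⟨X₂, hX₂def⟩ : ∃ X₂, X₂ = preimageAlong ι M := ⟨_, rfl⟩
    have hX₂T : X₂ ≤ normalizerIn T Q := by
      rw [hX₂def]
      exact preimageAlong_le _ _
    have hBT : Q ⊔ X₂ ≤ normalizerIn T Q := sup_le hQTQ hX₂T
    have hgB : ∀ (z : Ω) (hz : z ∈ Q ⊔ X₂), g * ι ⟨z, hBT hz⟩ * g⁻¹ ∈ ι.range := by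
      rw [← hSy]
      apply conj_iota_mem_of_sup ι hQTQ hX₂T g (Sy : Subgroup L)
      · intro x hx
        exact hQLSy (hQLn.conj_mem _ ⟨⟨x, hQTQ hx⟩, hx, rfl⟩ g)
      · intro x hx
        apply hgM
        rw [hX₂def] at hx
        obtain ⟨_, h⟩ := (mem_preimageAlong _ _ _).mp hx
        exact h
    obtain ⟨ψB, hψBT, hψBN, hψBι⟩ := exists_hom_on NQ ι hreal hBT g (fun z => hgB z z.2)
    have hψBD : ψB ∈ D.Hom (Q ⊔ X₂) := hsub _ hψBN
    haveI : Finite ↥(Q ⊔ X₂) := finite_of_le (hBT.trans hTQT)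
    have hcard : Nat.card Q < Nat.card ↥(Q ⊔ X₂) := by
      obtain ⟨y, hy, hyQ⟩ := SetLike.not_le_iff_exists.mp hMQ
      have hy1 := hMSy hy
      rw [hSy] at hy1
      obtain ⟨x, rfl⟩ := hy1
      have hxX₂ : (x : Ω) ∈ X₂ := by
        rw [hX₂def]
        exact (mem_preimageAlong _ _ _).mpr ⟨x.2, hy⟩
      have hxQ : (x : Ω) ∉ Q := fun h => hyQ ((hmemQ x).mpr h)
      exact card_lt_of_mem_not_mem le_sup_left (Subgroup.mem_sup_right hxX₂) hxQ
    have hψBE : ψB ∈ E.Hom (Q ⊔ X₂) := hIH _ (hBT.trans hTQT) hcard hψBD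
    refine ⟨ψB.comp (Subgroup.inclusion le_sup_left), fun x => hψBT _,
      restrict_mem E hψBE le_sup_left, ?_, fun x => hψBι _⟩
    intro x
    have h1 : ι ⟨ψB (Subgroup.inclusion le_sup_left x), hψBT _⟩ =
        g * ι ⟨x, hQTQ x.2⟩ * g⁻¹ := hψBι _
    have h2 : ι ⟨ψB (Subgroup.inclusion le_sup_left x), hψBT _⟩ ∈ imageAlong ι Q := by
      rw [h1]
      exact hQLn.conj_mem _ ⟨⟨x, hQTQ x.2⟩, x.2, rfl⟩ g
    exact (hmemQ _).mp h2
  by_cases hpcQ : pCore p L ≤ imageAlong ι Q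
  swap
  · obtain ⟨ψ, hψT, hψE, hψQ, hψι⟩ := hext ℓ (pCore p L) (pCore_le_sylow p Sy) hpcQ
      (fun y hy => pCore_le_sylow p Sy ((pCore_normal p).conj_mem y hy ℓ))
    have h : ψ = φ := hom_ext_of_iota ι hinj hφTQ hψT (fun x => (hψι x).trans (hℓ x).symm)
    rw [← h]
    exact hψE
  have hQLmax : ∀ D' : Subgroup L, D'.Normal → IsPGroup p D' → D' ≤ imageAlong ι Q :=
    fun D' hn hp' => (le_pCore hn hp').trans hpcQ
  have hcentQ : Subgroup.centralizer ((imageAlong ι Q : Subgroup L) : Set L) ≤ imageAlong ι Q :=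
    ((Subgroup.centralizer_le (SetLike.coe_subset_coe.mpr hpcQ)).trans hcent).trans hpcQ
  obtain ⟨K, hKdef⟩ : ∃ K : Subgroup L,
      K = Subgroup.centralizer ((imageAlong ι R : Subgroup L) : Set L) := ⟨_, rfl⟩
  haveI hKn : K.Normal := by
    rw [hKdef]
    exact normal_centralizer_of_normal _
  have hKmem : ∀ x : ↥(normalizerIn T Q),
      ι x ∈ K ↔ (x : Ω) ∈ Subgroup.centralizer (R : Set Ω) := by
    intro x
    rw [hKdef]
    exact ⟨mem_centralizer_of_iota ι hinj hRTQ x, iota_mem_centralizer_imageAlong ι hRTQ x⟩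
  have hφR : ∀ y : ↥Q, (y : Ω) ∈ R → φ y ∈ R :=
    fun y hy => hsc.2 R le_rfl _ (restrict_mem D hφ hRQ) ⟨y, hy⟩
  have hφRmap : (R.subgroupOf Q).map φ = R := map_eq_of_forall_mem φ hφinj hRQ hφR
  have hCn : ∀ s ∈ T, ∀ c ∈ centralizerIn T R, s * c * s⁻¹ ∈ centralizerIn T R := by
    intro s hs c hc
    have h2 : s * c * s⁻¹ ∈ Subgroup.centralizer (R : Set Ω) :=
      Cfsg.Agent.Lib.Helper1.WC.conj_mem_centralizer (hRnormalizer s hs) hc.2
    exact ⟨T.mul_mem (T.mul_mem hs hc.1) (T.inv_mem hs), h2⟩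
  by_cases hc1 : ∀ (x : Ω) (hx : x ∈ normalizerIn T Q), ι ⟨x, hx⟩ ∈ K → x ∈ Q
  · -- the centralizer of `R` lies in `Q`
    have hCQ' : centralizerIn T R ⊓ normalizerIn T Q ≤ Q := by
      intro x hx
      have hx1 : x ∈ centralizerIn T R := (Subgroup.mem_inf.mp hx).1
      have hx2 : x ∈ normalizerIn T Q := (Subgroup.mem_inf.mp hx).2
      exact hc1 x hx2 ((hKmem ⟨x, hx2⟩).mpr hx1.2)
    have hCQ : centralizerIn T R ≤ Q :=
      le_of_normalizer_inf_le hT hQT (centralizerIn_le T R) hCn hCQ'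
    have hφC : ∀ y : ↥Q, (y : Ω) ∈ centralizerIn T R → φ y ∈ centralizerIn T R := by
      intro y hy
      have h2 : φ y ∈ Subgroup.centralizer (R : Set Ω) := by
        rw [Subgroup.mem_centralizer_iff]
        intro r hr
        obtain ⟨r', hr', hrr'⟩ := hφRmap.ge hr
        have hr'R : (r' : Ω) ∈ R := hr'
        rw [← hrr', ← map_mul, ← map_mul]
        congr 1
        apply Subtype.ext
        exact Subgroup.mem_centralizer_iff.mp hy.2 r' hr'R
      exact ⟨hQT (hφQ y), h2⟩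
    have hX₁Q : R ⊔ centralizerIn T R ≤ Q := sup_le hRQ hCQ
    have hX₁T := hX₁Q.trans hQT
    haveI : Finite ↥(R ⊔ centralizerIn T R) := finite_of_le hX₁T
    have hφX₁ := map_eq_of_forall_mem φ hφinj hX₁Q
      (map_mem_of_sup φ (fun y hy => Subgroup.mem_sup_left (hφR y hy))
        (fun y hy => Subgroup.mem_sup_right (hφC y hy)) hRQ hCQ)
    have hcard₁ : Nat.card R < Nat.card ↥(R ⊔ centralizerIn T R) := by
      obtain ⟨c, hc, hcR⟩ := SetLike.not_le_iff_exists.mp hncen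
      exact card_lt_of_mem_not_mem le_sup_left (Subgroup.mem_sup_right hc) hcR
    exact hX _ le_sup_left hX₁T hcard₁
      (fun t ht => Cfsg.Agent.Lib.Helper1.WC.conj_mem_sup (hRnorm t ht) (hCn t ht))
      Q φ hφ hX₁Q hφX₁
  push Not at hc1
  obtain ⟨x₀, hx₀TQ, hx₀K, hx₀Q⟩ := hc1
  haveI hQKn : (imageAlong ι Q ⊓ K).Normal := Subgroup.normal_inf_normal _ _
  have hQKp : IsPGroup p ↥(imageAlong ι Q ⊓ K : Subgroup L) := hQLp.to_le inf_le_left
  have hQKSK : imageAlong ι Q ⊓ K ≤ (Sy : Subgroup L) ⊓ K := inf_le_inf_right K hQLSy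
  have hcentK : (Sy : Subgroup L) ⊓ K ⊓
      Subgroup.centralizer ((imageAlong ι Q ⊓ K : Subgroup L) : Set L) ≤ imageAlong ι Q ⊓ K := by
    have h1 := inf_centralizer_le K (imageAlong ι Q) hQLp hQLmax hcentQ
    exact (inf_le_inf_right _ inf_le_right).trans h1
  by_cases hJ : thompsonSubgroupAOf ((Sy : Subgroup L) ⊓ K) ≤ imageAlong ι Q ⊓ K
  · -- the Thompson subgroup of `C_{N_T(Q)}(R)` is normalized
    obtain ⟨U, hUdef⟩ : ∃ U, U = centralizerIn (normalizerIn T Q) R := ⟨_, rfl⟩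
    have hUTQ : U ≤ normalizerIn T Q := by
      rw [hUdef]
      exact centralizerIn_le _ _
    haveI : Finite U := finite_of_le (hUTQ.trans hTQT)
    have hUmem : ∀ x : ↥(normalizerIn T Q), (x : Ω) ∈ U ↔ ι x ∈ K := by
      intro x
      rw [hUdef, hKmem, mem_centralizerIn]
      exact ⟨fun h => h.2, fun h => ⟨x.2, h⟩⟩
    have himU : imageAlong ι U = (Sy : Subgroup L) ⊓ K := by
      ext y
      constructor
      · rintro ⟨x, hx, rfl⟩
        exact Subgroup.mem_inf.mpr ⟨hrange x, (hUmem x).mp hx⟩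
      · intro hy
        have hy1 : y ∈ (Sy : Subgroup L) := (Subgroup.mem_inf.mp hy).1
        have hy2 : y ∈ K := (Subgroup.mem_inf.mp hy).2
        rw [hSy] at hy1
        obtain ⟨x, rfl⟩ := hy1
        exact ⟨x, (hUmem x).mpr hy2, rfl⟩
    obtain ⟨JU, hJUdef⟩ : ∃ JU, JU = thompsonSubgroupAOf U := ⟨_, rfl⟩
    have hJUU : JU ≤ U := by
      rw [hJUdef]
      exact Cfsg.Agent.Lib.Helper1.TH.thompsonSubgroupAOf_le' U
    have hJim : imageAlong ι JU = thompsonSubgroupAOf ((Sy : Subgroup L) ⊓ K) := by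
      rw [hJUdef, imageAlong_thompson ι hinj hUTQ, himU]
    have hJUTQ : JU ≤ normalizerIn T Q := hJUU.trans hUTQ
    have hJUQ : JU ≤ Q := by
      intro x hx
      have h1 : ι ⟨x, hJUTQ hx⟩ ∈ imageAlong ι JU := ⟨⟨x, hJUTQ hx⟩, hx, rfl⟩
      rw [hJim] at h1
      have h2 := hJ h1
      exact (hmemQ _).mp (Subgroup.mem_inf.mp h2).1
    have hJeq : thompsonSubgroupAOf (imageAlong ι Q ⊓ K) =
        thompsonSubgroupAOf ((Sy : Subgroup L) ⊓ K) := thompsonSubgroupAOf_eq_of_le hQKSK hJ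
    haveI hJn : (thompsonSubgroupAOf ((Sy : Subgroup L) ⊓ K)).Normal := by
      rw [← hJeq]
      exact thompsonSubgroupAOf_normal (imageAlong ι Q ⊓ K) hQKp
    have hφJ : ∀ y : ↥Q, (y : Ω) ∈ JU → φ y ∈ JU := by
      intro y hy
      have h1 : ι ⟨y, hQTQ y.2⟩ ∈ thompsonSubgroupAOf ((Sy : Subgroup L) ⊓ K) := by
        rw [← hJim]
        exact ⟨⟨y, hQTQ y.2⟩, hy, rfl⟩
      have h2 := hJn.conj_mem _ h1 ℓ
      rw [← hℓ y, ← hJim] at h2
      exact (iota_mem_imageAlong_iff ι hinj JU _).mp h2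
    have hX'Q : R ⊔ JU ≤ Q := sup_le hRQ hJUQ
    have hX'T : R ⊔ JU ≤ T := hX'Q.trans hQT
    haveI : Finite ↥(R ⊔ JU) := finite_of_le hX'T
    have hφX' : ((R ⊔ JU).subgroupOf Q).map φ = R ⊔ JU :=
      map_eq_of_forall_mem φ hφinj hX'Q
        (map_mem_of_sup φ (fun y hy => Subgroup.mem_sup_left (hφR y hy))
          (fun y hy => Subgroup.mem_sup_right (hφJ y hy)) hRQ hJUQ)
    have hJUR : ¬ JU ≤ R := by
      intro hle
      have h1 : thompsonSubgroupAOf ((Sy : Subgroup L) ⊓ K) ≤ imageAlong ι R := by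
        rw [← hJim]
        exact imageAlong_mono ι hle
      have h2 := inf_centralizer_le_of_thompson_le h1
      have hx₀C : ι ⟨x₀, hx₀TQ⟩ ∈
          Subgroup.centralizer ((imageAlong ι R : Subgroup L) : Set L) := by
        rw [← hKdef]
        exact hx₀K
      have h3 : ι ⟨x₀, hx₀TQ⟩ ∈ imageAlong ι R :=
        h2 (Subgroup.mem_inf.mpr ⟨Subgroup.mem_inf.mpr ⟨hrange _, hx₀K⟩, hx₀C⟩)
      exact hx₀Q (hRQ ((iota_mem_imageAlong_iff ι hinj R _).mp h3))
    have hcard' : Nat.card R < Nat.card ↥(R ⊔ JU) := by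
      obtain ⟨j, hj, hjR⟩ := SetLike.not_le_iff_exists.mp hJUR
      exact card_lt_of_mem_not_mem le_sup_left (Subgroup.mem_sup_right hj) hjR
    have hNN : normalizerIn T (normalizerIn T Q) ≤ normalizerIn T (R ⊔ JU) := by
      intro g hg
      have hgU : g ∈ Subgroup.normalizer (U : Set Ω) := by
        apply KN.mem_normalizer_of_forall_conj_mem
        intro u hu
        rw [hUdef] at hu ⊢
        have hu' := mem_centralizerIn.mp hu
        exact mem_centralizerIn.mpr ⟨(Subgroup.mem_normalizer_iff.mp hg.2 u).mp hu'.1,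
          Cfsg.Agent.Lib.Helper1.WC.conj_mem_centralizer (hRnormalizer g hg.1) hu'.2⟩
      have hg2 : g ∈ Subgroup.normalizer ((R ⊔ JU : Subgroup Ω) : Set Ω) := by
        apply KN.mem_normalizer_of_forall_conj_mem
        apply Cfsg.Agent.Lib.Helper1.WC.conj_mem_sup (hRnorm g hg.1)
        intro x hx
        rw [hJUdef] at hx ⊢
        exact Cfsg.Agent.Lib.Helper1.TH.conj_mem_thompsonSubgroupAOf hgU hx
      exact ⟨hg.1, hg2⟩
    by_cases hTQ : normalizerIn T Q = T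
    · have hX'norm : ∀ t ∈ T, ∀ x ∈ R ⊔ JU, t * x * t⁻¹ ∈ R ⊔ JU := by
        intro t ht x hx
        have ht2 : t ∈ Subgroup.normalizer ((normalizerIn T Q : Subgroup Ω) : Set Ω) := by
          rw [hTQ]
          exact Subgroup.le_normalizer ht
        have ht' : t ∈ normalizerIn T (normalizerIn T Q) := ⟨ht, ht2⟩
        have h1 := (hNN ht').2
        exact (Subgroup.mem_normalizer_iff.mp h1 x).mp hx
      exact hX (R ⊔ JU) le_sup_left hX'T hcard' hX'norm Q φ hφ hX'Q hφX'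
    · have hlt : normalizerIn T Q < T := lt_of_le_of_ne hTQT hTQ
      obtain ⟨g, hg, hgT⟩ := exists_mem_normalizerIn_not_mem hT hlt
      haveI := finite_normalizerIn (S := T) (normalizerIn T Q)
      haveI := finite_normalizerIn (S := T) (R ⊔ JU)
      have hlt1 : Nat.card (normalizerIn T Q) <
          Nat.card (normalizerIn T (normalizerIn T Q)) := by
        apply Cfsg.Agent.Lib.Helper9.card_lt_of_lt'
        exact lt_of_le_of_ne (self_le_normalizerIn' hTQT) (fun h => hgT (h ▸ hg))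
      have hle2 : Nat.card (normalizerIn T (normalizerIn T Q)) ≤
          Nat.card (normalizerIn T (R ⊔ JU)) := Subgroup.card_le_of_le hNN
      have hcQ : Nat.card Q ≤ Nat.card (normalizerIn T Q) := Subgroup.card_le_of_le hQTQ
      exact climb_gen hT IH D E hD hCE hRn hncen hX (Nat.card Q) hIH _ (R ⊔ JU) le_sup_left
        hX'T hcard' (by omega) le_rfl Q φ hX'Q
        (hQTQ.trans ((self_le_normalizerIn' hTQT).trans hNN)) hφ hφX'
  · -- the local generation lemma applies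
    obtain ⟨W, hWn, hWa, hWb, hWc⟩ := exists_normal_of_not_le Sy K (imageAlong ι Q ⊓ K)
      inf_le_right hQKp hcentK hJ
    haveI := hWn
    haveI hCWn : (Subgroup.centralizer (W : Set L)).Normal := normal_centralizer_of_normal W
    obtain ⟨K₁, hK₁def⟩ : ∃ K₁ : Subgroup L, K₁ = K ⊓ Subgroup.centralizer (W : Set L) :=
      ⟨_, rfl⟩
    haveI hK₁n : K₁.Normal := by
      rw [hK₁def]
      exact Subgroup.normal_inf_normal _ _
    obtain ⟨n, k, hℓnk, hn, hk⟩ := exists_mul_of_normal Sy K₁ ℓ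
    have hSK₁ : ¬ ((Sy : Subgroup L) ⊓ K₁ ≤ imageAlong ι Q) := by
      intro hle
      apply hWb
      intro y hy
      have hy1 : y ∈ (Sy : Subgroup L) ⊓ K := (Subgroup.mem_inf.mp hy).1
      have hy2 : y ∈ Subgroup.centralizer (W : Set L) := (Subgroup.mem_inf.mp hy).2
      have hyS : y ∈ (Sy : Subgroup L) := (Subgroup.mem_inf.mp hy1).1
      have hyK : y ∈ K := (Subgroup.mem_inf.mp hy1).2
      have hyK₁ : y ∈ K₁ := by
        rw [hK₁def]
        exact Subgroup.mem_inf.mpr ⟨hyK, hy2⟩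
      exact Subgroup.mem_inf.mpr ⟨hle (Subgroup.mem_inf.mpr ⟨hyS, hyK₁⟩), hyK⟩
    obtain ⟨ψn, hψnT, hψnE, hψnQ, hψnι⟩ := hext n ((Sy : Subgroup L) ⊓ K₁) inf_le_left hSK₁
      (fun y hy => by
        have h := (Subgroup.mem_normalizer_iff.mp hn y).mp hy
        exact (Subgroup.mem_inf.mp h).1)
    have hkQ : ∀ x : ↥Q, k * ι ⟨x, hQTQ x.2⟩ * k⁻¹ ∈ ι.range := by
      intro x
      rw [← hSy]
      exact hQLSy (hQLn.conj_mem _ ⟨⟨x, hQTQ x.2⟩, x.2, rfl⟩ k)
    obtain ⟨ψk, hψkT, hψkN, hψkι⟩ := exists_hom_on NQ ι hreal hQTQ k hkQ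
    have hψkD : ψk ∈ D.Hom Q := hsub _ hψkN
    have hψkQ : ∀ x, ψk x ∈ Q := by
      intro x
      have h2 : ι ⟨ψk x, hψkT x⟩ ∈ imageAlong ι Q := by
        rw [hψkι x]
        exact hQLn.conj_mem _ ⟨⟨x, hQTQ x.2⟩, x.2, rfl⟩ k
      exact (hmemQ _).mp h2
    have hZcQ : Zc T ≤ Q := by
      intro z hz
      apply hQc.2 Q (isConj_refl D hQT)
      exact ⟨hz.1, Subgroup.centralizer_le (SetLike.coe_subset_coe.mpr hQT) hz.2⟩
    have hZ1Q : Z1 p T ≤ Q := (Z1_le_Zc p T).trans hZcQ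
    have hZ1pre : Z1 p T ≤ preimageAlong ι W := by
      apply Z1_le_of_forall
      intro z hz
      have hzTQ : z ∈ normalizerIn T Q := hQTQ (hZcQ hz)
      have hzK : ι ⟨z, hzTQ⟩ ∈ K := (hKmem ⟨z, hzTQ⟩).mpr
        (Subgroup.centralizer_le (SetLike.coe_subset_coe.mpr hRT) hz.2)
      have hzC : ι ⟨z, hzTQ⟩ ∈
          Subgroup.centralizer ((((Sy : Subgroup L) ⊓ K : Subgroup L)) : Set L) := by
        rw [Subgroup.mem_centralizer_iff]
        intro y hy
        have hy' : y ∈ (Sy : Subgroup L) ⊓ K := hy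
        have hy1 : y ∈ (Sy : Subgroup L) := (Subgroup.mem_inf.mp hy').1
        rw [hSy] at hy1
        obtain ⟨t, rfl⟩ := hy1
        rw [← map_mul, ← map_mul]
        congr 1
        apply Subtype.ext
        exact Subgroup.mem_centralizer_iff.mp hz.2 t (hTQT t.2)
      have h1 := hWa _ (Subgroup.mem_inf.mpr ⟨Subgroup.mem_inf.mpr ⟨hrange _, hzK⟩, hzC⟩)
      rw [← map_pow] at h1
      exact (mem_preimageAlong _ _ _).mpr ⟨(normalizerIn T Q).pow_mem hzTQ p, h1⟩
    have hk' : k ∈ Subgroup.centralizer (W : Set L) := by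
      rw [hK₁def] at hk
      exact (Subgroup.mem_inf.mp hk).2
    have hkfix : ∀ (z : Ω) (hz : z ∈ Z1 p T),
        k * ι ⟨z, hQTQ (hZ1Q hz)⟩ * k⁻¹ = ι ⟨z, hQTQ (hZ1Q hz)⟩ := by
      intro z hz
      obtain ⟨_, h1⟩ := (mem_preimageAlong _ _ _).mp (hZ1pre hz)
      have h2 := Subgroup.mem_centralizer_iff.mp hk' _ h1
      rw [← h2, mul_inv_cancel_right]
    have hleQ : Q ⊔ Z1 p T ≤ Q := sup_le le_rfl hZ1Q
    have hψkC : ψk ∈ D.centralizerHom (Z1 p T) Q := by
      refine ⟨hψkD, ?_, ?_, ψk.comp (Subgroup.inclusion hleQ), restrict_mem D hψkD hleQ,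
        fun x => rfl, ?_⟩
      · rw [centralizerIn_Z1]
        exact hQT
      · intro x
        rw [centralizerIn_Z1]
        exact hQT (hψkQ x)
      · intro z
        have hzQ := hZ1Q z.2
        have h1 : ι ⟨ψk ⟨z, hzQ⟩, hψkT _⟩ = k * ι ⟨z, hQTQ hzQ⟩ * k⁻¹ := hψkι ⟨z, hzQ⟩
        have h2 := hkfix z z.2
        exact eq_of_iota_eq ι hinj (hψkT _) (hQTQ hzQ) (h1.trans h2)
    have hψkE := hCE Q hψkC
    obtain ⟨γ, hγ, hγe⟩ := comp_hom E hψkE hψnE hψkQ
    have hγT : ∀ x, γ x ∈ normalizerIn T Q := fun x => by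
      rw [hγe]
      exact hψnT _
    have h : γ = φ := by
      apply hom_ext_of_iota ι hinj hφTQ hγT
      intro x
      have e1 : ι ⟨γ x, hγT x⟩ = ι ⟨ψn ⟨ψk x, hψkQ x⟩, hψnT _⟩ :=
        congrArg ι (Subtype.ext (hγe x))
      have e2 : ι ⟨ψn ⟨ψk x, hψkQ x⟩, hψnT _⟩ = n * ι ⟨ψk x, hQTQ (hψkQ x)⟩ * n⁻¹ := hψnι _
      have e3 : ι ⟨ψk x, hQTQ (hψkQ x)⟩ = k * ι ⟨x, hQTQ x.2⟩ * k⁻¹ := hψkι x
      rw [e1, e2, e3, hℓ x, hℓnk]
      group
    rw [← h]
    exact hγ

/-- automorphisms of a fully normalized centric subgroup containing `R` -/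
theorem gen_aut {Ω : Type u} [Group Ω] {T : Subgroup Ω} [Finite T] {p : ℕ} [Fact p.Prime]
    (hT : IsPGroup p T) (IH : GenIH p Ω (Nat.card T)) (D E : FusionSystem T)
    (hD : D.IsSaturated p)
    (hCE : ∀ P, D.centralizerHom (Z1 p T) P ⊆ E.Hom P)
    {R : Subgroup Ω} (hRn : D.IsNormal R) (hncen : ¬ centralizerIn T R ≤ R) (hX : HX D E R)
    {Q : Subgroup Ω} (hQn : D.IsFullyNormalized Q) (hQc : D.IsCentric Q) (hRQ : R ≤ Q)
    (hIH : ∀ P₁ : Subgroup Ω, P₁ ≤ T → Nat.card Q < Nat.card P₁ → D.Hom P₁ ⊆ E.Hom P₁)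
    {φ : ↥Q →* Ω} (hφ : φ ∈ D.Hom Q) (hφQ : ∀ y : ↥Q, φ y ∈ Q) : φ ∈ E.Hom Q := by
  have hQT := hQn.1
  obtain ⟨NQ, hNQ⟩ := Cfsg.Agent.S5096.result D Q hQT
  have hNQsat := Cfsg.Agent.S5098.result p hT D hD Q hQn NQ hNQ
  have hQnorm : NQ.IsNormal Q := normal_self_of_isNormalizerSystem D hQT NQ hNQ
  have hQcen : NQ.IsCentric Q := centric_self_of_isNormalizerSystem D hQc NQ hNQ
  haveI := finite_normalizerIn (S := T) Q
  have hTQp : IsPGroup p (normalizerIn T Q) := isPGroup_of_le hT (normalizerIn_le T Q)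
  obtain ⟨L, _, ι, hmodel⟩ := Cfsg.Agent.S5090.result p hTQp NQ ⟨hNQsat, Q, hQnorm, hQcen⟩
  exact gen_aut_model hT IH D E hD hCE hRn hncen hX hQn hQc hRQ hIH hφ hφQ NQ hNQ ι hmodel

/-- the main induction, on the index of `O_p(D)` -/
theorem gen_core {p : ℕ} [Fact p.Prime] {Ω : Type u} [Group Ω] :
    ∀ (m : ℕ) (T : Subgroup Ω) [Finite T], IsPGroup p T → GenIH p Ω (Nat.card T) →
      ∀ D E : FusionSystem T, D.IsSaturated p → Nat.card T - Nat.card D.core = m →
      (∀ P, D.centralizerHom (Z1 p T) P ⊆ E.Hom P) →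
      (∀ P, D.normalizerHom (thompsonSubgroupAOf T) P ⊆ E.Hom P) →
      ∀ P, D.Hom P ⊆ E.Hom P := by
  intro m
  induction m using Nat.strong_induction_on with
  | _ m ih =>
    intro T _ hT IH D E hD hm hCE hNE
    have hRn0 : D.IsNormal D.core := Cfsg.Agent.S5145.result D
    obtain ⟨R, hRdef⟩ : ∃ R, R = D.core := ⟨_, rfl⟩
    rw [← hRdef] at hRn0 hm
    have hRn := hRn0
    have hRT : R ≤ T := hRn.1
    haveI : Finite R := finite_of_le hRT
    have hX : HX D E R := by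
      intro X hRX hXT hcard hXnorm B ω hω hXB hωX
      haveI : Finite X := finite_of_le hXT
      have hXN : normalizerIn T X = T := normalizerIn_eq_of_forall hXnorm
      have hXfn := fullyNormalized_of_normalizerIn_eq D hXT hXN
      obtain ⟨DX, hDX⟩ := Cfsg.Agent.S5096.result D X hXT
      have hDXsat := Cfsg.Agent.S5098.result p hT D hD X hXfn DX hDX
      haveI : Finite ↥(normalizerIn T X) := finite_normalizerIn (S := T) X
      have hTXT : normalizerIn T X ≤ T := normalizerIn_le T X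
      have hTXp : IsPGroup p ↥(normalizerIn T X) := isPGroup_of_le hT hTXT
      have hXn : DX.IsNormal X := normal_self_of_isNormalizerSystem D hXT DX hDX
      have hcardT : Nat.card ↥(normalizerIn T X) = Nat.card T := by rw [hXN]
      have IH' : GenIH p Ω (Nat.card ↥(normalizerIn T X)) := by
        rw [hcardT]
        exact IH
      have hsub : ∀ P, DX.Hom P ⊆ D.Hom P :=
        fun P φ h => hom_of_normalizerSystem D DX hDX h
      have hcoreN : DX.IsNormal DX.core := Cfsg.Agent.S5145.result DX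
      have hXcore : X ≤ DX.core := le_sSup hXn
      haveI : Finite ↥DX.core := finite_of_le (hcoreN.1.trans hTXT)
      have h1 : Nat.card X ≤ Nat.card ↥DX.core := Subgroup.card_le_of_le hXcore
      have h2 : Nat.card ↥DX.core ≤ Nat.card ↥(normalizerIn T X) :=
        Subgroup.card_le_of_le hcoreN.1
      have h3 : Nat.card R ≤ Nat.card T := Subgroup.card_le_of_le hRT
      have hlt : Nat.card ↥(normalizerIn T X) - Nat.card ↥DX.core < m := by omega
      have hZ : Z1 p (normalizerIn T X) = Z1 p T := congrArg (Z1 p) hXN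
      have hJ : thompsonSubgroupAOf (normalizerIn T X) = thompsonSubgroupAOf T :=
        congrArg thompsonSubgroupAOf hXN
      have hres := ih _ hlt (normalizerIn T X) hTXp IH' DX (restrictSys E hTXT) hDXsat rfl
        ?_ ?_
      · have hBN : B ≤ normalizerIn T X := by
          rw [hXN]
          exact (D.le_of_mem hω).1
        have hωDX : ω ∈ DX.Hom B := by
          rw [hDX B]
          exact mem_normalizerHom_of_map_eq D hXB hBN hω hωX
        exact (hres B hωDX).1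
      · intro P φ hφ
        rw [hZ] at hφ
        have h4 := centralizerHom_mono hTXT DX D hsub _ P hφ
        obtain ⟨hPT', hφT'⟩ := DX.le_of_mem hφ.1
        exact ⟨hCE P h4, hPT', hφT'⟩
      · intro P φ hφ
        rw [hJ] at hφ
        have h4 := normalizerHom_mono hTXT DX D hsub _ P hφ
        obtain ⟨hPT', hφT'⟩ := DX.le_of_mem hφ.1
        exact ⟨hNE P h4, hPT', hφT'⟩
    by_cases hcen : centralizerIn T R ≤ R
    · exact gen_constrained hT D E hD hCE hNE hRdef hRn hcen hX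
    · intro P φ hφ
      have hPT := hom_le D hφ
      refine alperin_ind p hT D hD E ?_ _ P hPT rfl hφ
      intro Q hQn hIH
      show Subgroup.closure _ ≤ Subgroup.closure _
      apply Subgroup.closure_mono
      intro α hα
      have hα' : Q.subtype.comp α.toMonoidHom ∈ D.Hom Q := hα
      show Q.subtype.comp α.toMonoidHom ∈ E.Hom Q
      have hQT := hQn.1
      haveI : Finite Q := finite_of_le hQT
      by_cases hQc : D.IsCentric Q
      swap
      · have hαA : α ∈ D.autGroup Q := Subgroup.subset_closure hα'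
        obtain ⟨Q', hQQ', φ', hφ', hφ'α⟩ :=
          autGroup_subset_extGen_of_not_centric hT D hD hQn hQc hαA
        have hQ'T := hom_le D hφ'
        haveI : Finite Q' := finite_of_le hQ'T
        have hφ'E := hIH Q' hQ'T (Cfsg.Agent.Lib.Helper9.card_lt_of_lt' hQQ') hφ'
        have h1 := restrict_mem E hφ'E hQQ'.le
        have h2 : φ'.comp (Subgroup.inclusion hQQ'.le) = Q.subtype.comp α.toMonoidHom := by
          ext x
          exact hφ'α x
        rw [← h2]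
        exact h1
      by_cases hRQ : R ≤ Q
      swap
      · obtain ⟨ψ, hψ, hψext, hψR⟩ := hRn.2 Q _ hα'
        have hBT := hom_le D hψ
        haveI : Finite ↥(Q ⊔ R) := finite_of_le hBT
        obtain ⟨r, hr, hrQ⟩ := SetLike.not_le_iff_exists.mp hRQ
        have hcard : Nat.card Q < Nat.card ↥(Q ⊔ R) :=
          card_lt_of_mem_not_mem le_sup_left (Subgroup.mem_sup_right hr) hrQ
        have hψE := hIH _ hBT hcard hψ
        have h1 := restrict_mem E hψE (le_sup_left : Q ≤ Q ⊔ R)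
        have h2 : ψ.comp (Subgroup.inclusion le_sup_left) = Q.subtype.comp α.toMonoidHom := by
          ext x
          exact hψext x
        rw [← h2]
        exact h1
      · exact gen_aut hT IH D E hD hCE hRn hcen hX hQn hQc hRQ hIH hα' (fun y => (α y).2)

theorem gen_all {p : ℕ} [Fact p.Prime] {Ω : Type u} [Group Ω] : ∀ n : ℕ, GenIH p Ω n := by
  intro n
  induction n using Nat.strong_induction_on with
  | _ n ih =>
    intro T hfin hT hlt D E hD hCE hNE
    haveI := hfin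
    exact gen_core _ T hT (ih (Nat.card T) hlt) D E hD rfl hCE hNE

/-- **Generation of a saturated fusion system by `C_F(℧¹ Z(S))` and `N_F(J(S))`.** -/
theorem gen_main {Ω : Type u} [Group Ω] {S : Subgroup Ω} [Finite S] (p : ℕ) [Fact p.Prime]
    (hS : IsPGroup p S) (F E : FusionSystem S) (hF : F.IsSaturated p)
    (hCE : ∀ P, F.centralizerHom
      (powerClosure p 1 (S ⊓ Subgroup.centralizer (S : Set Ω))) P ⊆ E.Hom P)
    (hNE : ∀ P, F.normalizerHom (thompsonSubgroupAOf S) P ⊆ E.Hom P) :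
    ∀ P, F.Hom P ⊆ E.Hom P :=
  gen_all (Nat.card S + 1) S inferInstance hS (Nat.lt_succ_self _) F E hF hCE hNE

end Cfsg.Agent.Lib.Helper1.GN
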