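import Mathlib
import Cfsg.Agent.Lib.Helper1.GN5

set_option autoImplicit false
set_option linter.style.haveILetI false
set_option linter.unusedSectionVars false
set_option linter.unusedVariables false
set_option maxHeartbeats 1000000

/-! Normality of `℧ⁿ(Z(S))` for `S` of class at most `n(p-1)+1`, part 1: the module lemma. -/

namespace Cfsg.Agent.Lib.Helper1.GA

open Cfsg Cfsg.FusionSystem Cfsg.Agent.Lib.Helper9 Cfsg.Agent.Lib.Helper1.KN
  Cfsg.Agent.Lib.Helper1.GN

universe u v

section ring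

/-- the binomial expansion of `(X+1)^p` with the linear term made explicit -/
theorem poly_key (p : ℕ) [hp : Fact p.Prime] : ∃ r' : Polynomial ℤ,
    (Polynomial.X + 1 : Polynomial ℤ) ^ p =
      Polynomial.X ^ p + 1 + (p : Polynomial ℤ) * Polynomial.X * (Polynomial.X * r' + 1) := by
  obtain ⟨r, hr⟩ := exists_add_pow_prime_eq hp.out (Polynomial.X : Polynomial ℤ) 1
  have hp1 : p ≠ 1 := hp.out.ne_one
  have hp0 : (p : ℤ) ≠ 0 := by exact_mod_cast hp.out.ne_zero
  have hc : r.coeff 0 = 1 := by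
    have h : ((Polynomial.X + 1 : Polynomial ℤ) ^ p).coeff 1 =
        ((Polynomial.X : Polynomial ℤ) ^ p + 1 ^ p + (p : Polynomial ℤ) * Polynomial.X * 1 * r).coeff 1 := by
      rw [hr]
    rw [Polynomial.coeff_X_add_one_pow] at h
    have e : ((p : Polynomial ℤ) * Polynomial.X * 1 * r) = Polynomial.C (p : ℤ) * (Polynomial.X * r) := by
      rw [mul_one, mul_assoc]
      congr 1
    rw [e, Polynomial.coeff_add, Polynomial.coeff_add, Polynomial.coeff_X_pow, one_pow,
      Polynomial.coeff_one, Polynomial.coeff_C_mul, Polynomial.coeff_X_mul, Nat.choose_one_right,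
      if_neg (Ne.symm hp1), if_neg (by norm_num), zero_add, zero_add] at h
    have h' : (p : ℤ) * 1 = (p : ℤ) * r.coeff 0 := by rw [mul_one]; exact_mod_cast h
    exact (mul_left_cancel₀ hp0 h').symm
  refine ⟨r.divX, ?_⟩
  have hr2 : r = Polynomial.X * r.divX + 1 := by
    conv_lhs => rw [← Polynomial.X_mul_divX_add r]
    rw [hc, Polynomial.C_1]
  rw [hr, one_pow, mul_one, ← hr2]

/-- the key computation in a commutative ring -/
theorem ring_key {Q : Type*} [CommRing Q] (p : ℕ) [hp : Fact p.Prime] (n : ℕ) (π : Q)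
    (h1 : π ^ (n * (p - 1) + 1) = 0) (h2 : (π + 1) ^ p = 1) : (p : Q) ^ n * π = 0 := by
  obtain ⟨r', hr'⟩ := poly_key p
  have h3 := congrArg (Polynomial.aeval π) hr'
  simp only [map_pow, map_add, map_mul, map_one, Polynomial.aeval_X, map_natCast] at h3
  obtain ⟨ρ, hρ⟩ : ∃ ρ, ρ = Polynomial.aeval π r' := ⟨_, rfl⟩
  rw [← hρ, h2] at h3
  have hnil : IsNilpotent (π * ρ) := ⟨n * (p - 1) + 1, by rw [mul_pow, h1, zero_mul]⟩
  obtain ⟨v, hv⟩ := (hnil.isUnit_one_add).exists_right_inv
  have hpπ : (p : Q) * π = -v * π ^ p := by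
    have h4 : (p : Q) * π * (π * ρ + 1) = -π ^ p := by linear_combination -h3
    calc (p : Q) * π = (p : Q) * π * ((1 + π * ρ) * v) := by rw [hv, mul_one]
      _ = ((p : Q) * π * (π * ρ + 1)) * v := by ring
      _ = -v * π ^ p := by rw [h4]; ring
  have hind : ∀ j : ℕ, ∃ c : Q, (p : Q) ^ j * π = c * π ^ (j * (p - 1) + 1) := by
    intro j
    induction j with
    | zero => exact ⟨1, by simp⟩
    | succ j ih =>
      obtain ⟨c, hc⟩ := ih
      refine ⟨c * -v, ?_⟩
      have hp1 : (j + 1) * (p - 1) + 1 = j * (p - 1) + p := by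
        have := hp.out.one_lt
        rw [Nat.succ_mul]
        omega
      rw [hp1]
      calc (p : Q) ^ (j + 1) * π = ((p : Q) ^ j * π) * p := by ring
        _ = c * π ^ (j * (p - 1) + 1) * p := by rw [hc]
        _ = c * π ^ (j * (p - 1)) * ((p : Q) * π) := by ring
        _ = c * π ^ (j * (p - 1)) * (-v * π ^ p) := by rw [hpπ]
        _ = c * -v * π ^ (j * (p - 1) + p) := by ring
  obtain ⟨c, hc⟩ := hind n
  rw [hc, h1, mul_zero]

/-- the polynomial identity -/
theorem R3 (p : ℕ) [hp : Fact p.Prime] (n : ℕ) :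
    ∃ a b : Polynomial ℤ, (p : Polynomial ℤ) ^ n * Polynomial.X =
      a * Polynomial.X ^ (n * (p - 1) + 1) + b * ((Polynomial.X + 1) ^ p - 1) := by
  obtain ⟨I, hI⟩ : ∃ I : Ideal (Polynomial ℤ), I = Ideal.span
    {Polynomial.X ^ (n * (p - 1) + 1), (Polynomial.X + 1) ^ p - 1} := ⟨_, rfl⟩
  have h1 : (Ideal.Quotient.mk I Polynomial.X) ^ (n * (p - 1) + 1) = 0 := by
    rw [← map_pow, Ideal.Quotient.eq_zero_iff_mem, hI]
    exact Ideal.subset_span (Set.mem_insert _ _)
  have h2 : (Ideal.Quotient.mk I Polynomial.X + 1) ^ p = 1 := by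
    have h : (Ideal.Quotient.mk I) ((Polynomial.X + 1) ^ p - 1) = 0 := by
      rw [Ideal.Quotient.eq_zero_iff_mem, hI]
      exact Ideal.subset_span (Set.mem_insert_of_mem _ (Set.mem_singleton _))
    rw [map_sub, map_pow, map_add, map_one, sub_eq_zero] at h
    exact h
  have h3 := ring_key p n (Ideal.Quotient.mk I Polynomial.X) h1 h2
  have h4 : (p : Polynomial ℤ) ^ n * Polynomial.X ∈ I := by
    rw [← Ideal.Quotient.eq_zero_iff_mem, map_mul, map_pow, map_natCast]
    exact h3
  rw [hI, Ideal.mem_span_pair] at h4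
  obtain ⟨a, b, hab⟩ := h4
  exact ⟨a, b, hab.symm⟩

end ring

section endo

variable {M : Type v} [AddCommGroup M]

theorem end_mul_apply (f g : AddMonoid.End M) (x : M) : (f * g) x = f (g x) := rfl
theorem end_one_apply (x : M) : (1 : AddMonoid.End M) x = x := rfl
theorem end_sub_apply (f g : AddMonoid.End M) (x : M) : (f - g) x = f x - g x := rfl
theorem end_add_apply (f g : AddMonoid.End M) (x : M) : (f + g) x = f x + g x := rfl

/-- the key lemma on endomorphisms -/
theorem E1 (p : ℕ) [hp : Fact p.Prime] (n : ℕ) (τ : AddMonoid.End M) (x : M)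
    (h1 : ((τ - 1) ^ (n * (p - 1) + 1)) x = 0) (h2 : (τ ^ p) x = x) :
    τ (p ^ n • x) = p ^ n • x := by
  obtain ⟨a, b, hab⟩ := R3 p n
  have h3 := congrArg (Polynomial.aeval (τ - 1)) hab
  simp only [map_mul, map_add, map_pow, map_sub, map_one, Polynomial.aeval_X, map_natCast]
    at h3
  rw [sub_add_cancel] at h3
  have h4 := DFunLike.congr_fun h3 x
  have e1 : ((Polynomial.aeval (τ - 1)) a * (τ - 1) ^ (n * (p - 1) + 1)) x = 0 := by
    rw [end_mul_apply, h1, map_zero]
  have e2 : ((Polynomial.aeval (τ - 1)) b * (τ ^ p - 1)) x = 0 := by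
    rw [end_mul_apply, end_sub_apply, h2, end_one_apply, sub_self, map_zero]
  have e3 : ((p : AddMonoid.End M) ^ n * (τ - 1)) x = p ^ n • (τ x - x) := by
    rw [end_mul_apply, end_sub_apply, end_one_apply, ← Nat.cast_pow, AddMonoid.End.natCast_apply]
  rw [end_add_apply, e1, e2, e3, add_zero, smul_sub, sub_eq_zero] at h4
  rw [map_nsmul]
  exact h4

/-- conjugation and powers in a monoid -/
theorem conj_pow_ring {R : Type*} [Monoid R] (a a' b : R) (h1 : a * a' = 1) (h2 : a' * a = 1)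
    (k : ℕ) : (a * b * a') ^ k = a * b ^ k * a' := by
  induction k with
  | zero => rw [pow_zero, pow_zero, mul_one, h1]
  | succ k ih =>
    rw [pow_succ, ih, pow_succ]
    calc a * b ^ k * a' * (a * b * a') = a * b ^ k * (a' * a) * b * a' := by
          simp only [mul_assoc]
      _ = a * (b ^ k * b) * a' := by rw [h2, mul_one]; simp only [mul_assoc]

/-- the fixer of a vector -/
def fixer {G : Type u} [Group G] (ρ : G →* AddMonoid.End M) (w : M) : Subgroup G where
  carrier := {g | ρ g w = w}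
  one_mem' := by
    show ρ 1 w = w
    rw [map_one]
    rfl
  mul_mem' := by
    intro a b ha hb
    have ha' : ρ a w = w := ha
    have hb' : ρ b w = w := hb
    show ρ (a * b) w = w
    rw [map_mul, end_mul_apply, hb', ha']
  inv_mem' := by
    intro a ha
    have ha' : ρ a w = w := ha
    show ρ a⁻¹ w = w
    have h : ρ a⁻¹ (ρ a w) = w := by
      rw [← end_mul_apply, ← map_mul, inv_mul_cancel, map_one]
      rfl
    rwa [ha'] at h

theorem mem_fixer {G : Type u} [Group G] (ρ : G →* AddMonoid.End M) (w : M) (g : G) :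
    g ∈ fixer ρ w ↔ ρ g w = w := Iff.rfl

end endo

section grp

variable {G : Type u} [Group G]

/-- the closure of a conjugation invariant set is normal -/
theorem closure_normal_of_conj (T : Set G) (h : ∀ g : G, ∀ t ∈ T, g * t * g⁻¹ ∈ T) :
    (Subgroup.closure T).Normal := by
  constructor
  intro y hy g
  induction hy using Subgroup.closure_induction with
  | mem x hx => exact Subgroup.subset_closure (h g x hx)
  | one => simp
  | mul a b _ _ ha hb =>
    have e : g * (a * b) * g⁻¹ = (g * a * g⁻¹) * (g * b * g⁻¹) := by group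
    rw [e]
    exact mul_mem ha hb
  | inv a _ ha =>
    have e : g * a⁻¹ * g⁻¹ = (g * a * g⁻¹)⁻¹ := by group
    rw [e]
    exact inv_mem ha

/-- an element of `p`-power order is conjugate into a given Sylow subgroup -/
theorem exists_conj_of_pow_eq_one [Finite G] {p : ℕ} [hp : Fact p.Prime] (S : Sylow p G) (t : G)
    (k : ℕ) (hk : t ^ (p ^ k) = 1) : ∃ h s : G, s ∈ (S : Subgroup G) ∧ t = h * s * h⁻¹ := by
  have hord : orderOf t ∣ p ^ k := orderOf_dvd_of_pow_eq_one hk
  obtain ⟨j, -, hj⟩ := (Nat.dvd_prime_pow hp.out).mp hord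
  have hpg : IsPGroup p (Subgroup.zpowers t) :=
    IsPGroup.of_card (n := j) (by rw [Nat.card_zpowers, hj])
  obtain ⟨Q, hQ⟩ := hpg.exists_le_sylow
  obtain ⟨g, hg⟩ := MulAction.exists_smul_eq G S Q
  have h1 : t ∈ (Q : Subgroup G) := hQ (Subgroup.mem_zpowers t)
  rw [← hg, Sylow.coe_subgroup_smul, Subgroup.mem_smul_pointwise_iff_exists] at h1
  obtain ⟨s, hs, hst⟩ := h1
  refine ⟨g, s, hs, ?_⟩
  rw [← hst]
  rfl

end grp

section star

/-- the module lemma, by induction on the order of the group -/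
theorem star_aux {M : Type v} [AddCommGroup M] (p : ℕ) [hp : Fact p.Prime] (n : ℕ) :
    ∀ N : ℕ, ∀ (G : Type u) [Group G] [Finite G], Nat.card G = N →
      ∀ (S : Sylow p G) (ρ : G →* AddMonoid.End M) (x : M),
      (∀ s ∈ (S : Subgroup G), ρ s x = x) →
      (∀ s ∈ (S : Subgroup G), ∀ y : M, ((ρ s - 1) ^ (n * (p - 1) + 1)) y = 0) →
      ∀ g s : G, s ∈ (S : Subgroup G) → ρ (g * s * g⁻¹) (p ^ n • x) = p ^ n • x := by
  intro N
  induction N using Nat.strong_induction_on with
  | _ N ih =>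
    intro G _ _ hcard S ρ x hfix hnil
    classical
    have hone : ∀ h : G, ρ h * ρ h⁻¹ = 1 := fun h => by
      rw [← map_mul, mul_inv_cancel, map_one]
    have hone' : ∀ h : G, ρ h⁻¹ * ρ h = 1 := fun h => by
      rw [← map_mul, inv_mul_cancel, map_one]
    by_cases hSO : (S : Subgroup G) ≤ pCore p G
    · intro g s hs
      have h1 : pCore p G = (S : Subgroup G) := le_antisymm (pCore_le_sylow p S) hSO
      have h2 : g * s * g⁻¹ ∈ (S : Subgroup G) := by
        rw [← h1]
        exact (pCore_normal p).conj_mem s (hSO hs) g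
      rw [map_nsmul, hfix _ h2]
    · obtain ⟨O, hO⟩ : ∃ O, O = pCore p G := ⟨_, rfl⟩
      haveI hOn : O.Normal := hO ▸ pCore_normal p
      have hOp : IsPGroup p O := hO ▸ pCore_isPGroup p
      have hOS : O ≤ S := hO ▸ pCore_le_sylow p S
      rw [← hO] at hSO
      obtain ⟨T, hT⟩ : ∃ T : Set G, T = {t | t ^ p ∈ O} := ⟨_, rfl⟩
      have hTconj : ∀ g : G, ∀ t ∈ T, g * t * g⁻¹ ∈ T := by
        intro g t ht
        rw [hT] at ht ⊢
        show (g * t * g⁻¹) ^ p ∈ O
        rw [conj_pow]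
        exact hOn.conj_mem _ ht g
      haveI hΩn : (Subgroup.closure T).Normal := closure_normal_of_conj T hTconj
      -- Step 1
      have hTfix : ∀ t ∈ T, ρ t (p ^ n • x) = p ^ n • x := by
        intro t ht
        have htO : t ^ p ∈ O := by
          rw [hT] at ht
          exact ht
        obtain ⟨k, hk⟩ := hOp ⟨t ^ p, htO⟩
        have hk' : t ^ (p ^ (k + 1)) = 1 := by
          have h := congrArg Subtype.val hk
          rw [Subgroup.coe_pow, Subgroup.coe_one] at h
          rw [pow_succ', pow_mul]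
          exact h
        obtain ⟨h, s, hs, hts⟩ := exists_conj_of_pow_eq_one S t _ hk'
        apply E1 p n (ρ t) x
        · have e0 : ρ t - 1 = ρ h * (ρ s - 1) * ρ h⁻¹ := by
            rw [hts, map_mul, map_mul, mul_sub, sub_mul, mul_one, hone]
          rw [e0, conj_pow_ring _ _ _ (hone h) (hone' h)]
          show ρ h (((ρ s - 1) ^ (n * (p - 1) + 1)) (ρ h⁻¹ x)) = 0
          rw [hnil s hs, map_zero]
        · rw [← map_pow]
          exact hfix _ (hOS htO)
      have hΩfix : Subgroup.closure T ≤ fixer ρ (p ^ n • x) :=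
        (Subgroup.closure_le _).mpr (fun t ht => hTfix t ht)
      -- Step 2
      obtain ⟨s₂, hs₂S, hs₂O, hs₂T⟩ : ∃ s₂, s₂ ∈ (S : Subgroup G) ∧ s₂ ∉ O ∧ s₂ ^ p ∈ O := by
        obtain ⟨s₁, hs₁S, hs₁O⟩ := SetLike.not_le_iff_exists.mp hSO
        have hex : ∃ k, s₁ ^ (p ^ k) ∈ O := by
          obtain ⟨k, hk⟩ := S.2 ⟨s₁, hs₁S⟩
          refine ⟨k, ?_⟩
          have h := congrArg Subtype.val hk
          rw [Subgroup.coe_pow, Subgroup.coe_one] at h
          rw [h]
          exact O.one_mem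
        have hk₀ : Nat.find hex ≠ 0 := by
          intro h0
          have h := Nat.find_spec hex
          rw [h0, pow_zero, pow_one] at h
          exact hs₁O h
        obtain ⟨j, hj⟩ := Nat.exists_eq_succ_of_ne_zero hk₀
        refine ⟨s₁ ^ (p ^ j), pow_mem hs₁S _, ?_, ?_⟩
        · exact Nat.find_min hex (by rw [hj]; exact Nat.lt_succ_self j)
        · have h := Nat.find_spec hex
          rw [hj, Nat.succ_eq_add_one, pow_succ, pow_mul] at h
          exact h
      obtain ⟨S₀, hS₀⟩ : ∃ S₀, S₀ = (S : Subgroup G) ⊓ Subgroup.closure T := ⟨_, rfl⟩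
      have hS₀n : ¬ S₀.Normal := by
        intro hn
        have hp₀ : IsPGroup p S₀ := S.2.to_le (hS₀ ▸ inf_le_left)
        have hle : S₀ ≤ pCore p G := le_pCore hn hp₀
        rw [← hO] at hle
        apply hs₂O
        apply hle
        rw [hS₀]
        refine Subgroup.mem_inf.mpr ⟨hs₂S, Subgroup.subset_closure ?_⟩
        rw [hT]
        exact hs₂T
      obtain ⟨N₁, hN₁⟩ : ∃ N₁, N₁ = Subgroup.normalizer (S₀ : Set G) := ⟨_, rfl⟩
      have hN₁top : N₁ ≠ ⊤ := by
        intro h
        apply hS₀n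
        rw [← Subgroup.normalizer_eq_top_iff, ← hN₁]
        exact h
      have hSN₁ : (S : Subgroup G) ≤ N₁ := by
        intro s hs
        rw [hN₁]
        apply KN.mem_normalizer_of_forall_conj_mem
        intro y hy
        rw [hS₀] at hy ⊢
        have hy' := Subgroup.mem_inf.mp hy
        exact Subgroup.mem_inf.mpr
          ⟨mul_mem (mul_mem hs hy'.1) (inv_mem hs), hΩn.conj_mem y hy'.2 s⟩
      have hlt : Nat.card N₁ < N := by
        rw [← hcard]
        have h0 : N₁ < ⊤ := lt_top_iff_ne_top.mpr hN₁top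
        have h1 := Cfsg.Agent.Lib.Helper9.card_lt_of_lt' h0
        rwa [Subgroup.card_top] at h1
      have hIH := ih (Nat.card N₁) hlt ↥N₁ rfl (S.subtype hSN₁) (ρ.comp N₁.subtype) x
        (fun s hs => hfix (s : G) (Subgroup.mem_subgroupOf.mp hs))
        (fun s hs y => hnil (s : G) (Subgroup.mem_subgroupOf.mp hs) y)
      intro g s hs
      obtain ⟨n₁, k, hg, hn₁, hk⟩ := exists_mul_of_normal S (Subgroup.closure T) g⁻¹
      have hn₁' : n₁ ∈ N₁ := by
        rw [hN₁, hS₀]
        exact hn₁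
      have hw : n₁⁻¹ * s * n₁ ∈ fixer ρ (p ^ n • x) := by
        have h := hIH ⟨n₁⁻¹, inv_mem hn₁'⟩ ⟨s, hSN₁ hs⟩ (Subgroup.mem_subgroupOf.mpr hs)
        have e : ((⟨n₁⁻¹, inv_mem hn₁'⟩ * ⟨s, hSN₁ hs⟩ *
            (⟨n₁⁻¹, inv_mem hn₁'⟩ : ↥N₁)⁻¹ : ↥N₁) : G) = n₁⁻¹ * s * n₁ := by
          simp
        show ρ (n₁⁻¹ * s * n₁) (p ^ n • x) = p ^ n • x
        rw [← e]
        exact h
      have hkfix : k ∈ fixer ρ (p ^ n • x) := hΩfix hk
      have hg' : g = k⁻¹ * n₁⁻¹ := by rw [← mul_inv_rev, ← hg, inv_inv]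
      have e2 : g * s * g⁻¹ = k⁻¹ * (n₁⁻¹ * s * n₁) * k := by
        rw [hg]
        rw [hg']
        group
      have hmem : g * s * g⁻¹ ∈ fixer ρ (p ^ n • x) := by
        rw [e2]
        exact mul_mem (mul_mem (inv_mem hkfix) hw) hkfix
      exact hmem

/-- **The module lemma.** If every element `s` of a Sylow `p`-subgroup `S` of `G` acts on `M` with
`(s-1)^(n(p-1)+1) = 0` and `x` is fixed by `S` then `pⁿ x` is fixed by the normal closure of
`S`. -/
theorem star {G : Type u} [Group G] [Finite G] {M : Type v} [AddCommGroup M] (p : ℕ)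
    [Fact p.Prime] (n : ℕ) (S : Sylow p G) (ρ : G →* AddMonoid.End M) (x : M)
    (hfix : ∀ s ∈ (S : Subgroup G), ρ s x = x)
    (hnil : ∀ s ∈ (S : Subgroup G), ∀ y : M, ((ρ s - 1) ^ (n * (p - 1) + 1)) y = 0)
    (g s : G) (hs : s ∈ (S : Subgroup G)) : ρ (g * s * g⁻¹) (p ^ n • x) = p ^ n • x :=
  star_aux p n (Nat.card G) G rfl S ρ x hfix hnil g s hs

end star

end Cfsg.Agent.Lib.Helper1.GA
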