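import Mathlib
import Cfsg.Agent.Lib.Helper1.GA1

set_option autoImplicit false
set_option linter.style.haveILetI false
set_option linter.unusedSectionVars false
set_option linter.unusedVariables false
set_option maxHeartbeats 1000000

/-! Normality of `℧ⁿ(Z(S))` for `S` of class at most `n(p-1)+1`, part 2: the group theorem. -/

namespace Cfsg.Agent.Lib.Helper1.GA

open Cfsg Cfsg.FusionSystem Cfsg.Agent.Lib.Helper9 Cfsg.Agent.Lib.Helper1.KN
  Cfsg.Agent.Lib.Helper1.GN

universe u

section rep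

variable {G : Type u} [Group G]

/-- commutative group structure on an abelian subgroup -/
@[reducible] def commGroupOf (V : Subgroup G) (hVc : ∀ a ∈ V, ∀ b ∈ V, a * b = b * a) :
    CommGroup ↥V :=
  { (inferInstance : Group ↥V) with
    mul_comm := fun a b => Subtype.ext (hVc a.1 a.2 b.1 b.2) }

/-- the additive group of an abelian subgroup -/
def AddV (V : Subgroup G) (hVc : ∀ a ∈ V, ∀ b ∈ V, a * b = b * a) : Type u := Additive ↥V

noncomputable instance instAddCommGroupAddV (V : Subgroup G)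
    (hVc : ∀ a ∈ V, ∀ b ∈ V, a * b = b * a) : AddCommGroup (AddV V hVc) :=
  @Additive.addCommGroup ↥V (commGroupOf V hVc)

namespace AddV

variable {V : Subgroup G} {hVc : ∀ a ∈ V, ∀ b ∈ V, a * b = b * a}

/-- an element of `V` as a vector -/
def mk (v : G) (hv : v ∈ V) : AddV V hVc := Additive.ofMul (⟨v, hv⟩ : ↥V)

/-- the underlying group element -/
def val (a : AddV V hVc) : G := ((Additive.toMul a : ↥V) : G)

theorem val_mem (a : AddV V hVc) : a.val ∈ V := (Additive.toMul a : ↥V).2

theorem val_mk (v : G) (hv : v ∈ V) : (mk v hv : AddV V hVc).val = v := rfl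

theorem val_injective : Function.Injective (val : AddV V hVc → G) := by
  intro a b h
  have h1 : (Additive.toMul a : ↥V) = Additive.toMul b := Subtype.ext h
  exact Additive.toMul.injective h1

theorem val_add (a b : AddV V hVc) : (a + b).val = a.val * b.val := rfl

theorem val_zero : (0 : AddV V hVc).val = 1 := rfl

theorem val_neg (a : AddV V hVc) : (-a).val = a.val⁻¹ := rfl

theorem val_sub (a b : AddV V hVc) : (a - b).val = a.val * b.val⁻¹ := by
  rw [sub_eq_add_neg, val_add, val_neg]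

theorem val_nsmul (k : ℕ) (a : AddV V hVc) : (k • a).val = a.val ^ k := by
  induction k with
  | zero => rw [zero_smul, pow_zero, val_zero]
  | succ k ih => rw [succ_nsmul, val_add, ih, pow_succ]

end AddV

/-- the conjugation representation on a normal abelian subgroup -/
noncomputable def conjRep (V : Subgroup G) [hVn : V.Normal]
    (hVc : ∀ a ∈ V, ∀ b ∈ V, a * b = b * a) : G →* AddMonoid.End (AddV V hVc) where
  toFun g := AddMonoidHom.mk'
    (fun a => AddV.mk (g * a.val * g⁻¹) (hVn.conj_mem _ a.val_mem g))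
    (by
      intro a b
      apply AddV.val_injective
      show g * (a.val * b.val) * g⁻¹ = (g * a.val * g⁻¹) * (g * b.val * g⁻¹)
      group)
  map_one' := by
    apply AddMonoidHom.ext
    intro a
    apply AddV.val_injective
    show 1 * a.val * 1⁻¹ = a.val
    group
  map_mul' := by
    intro g h
    apply AddMonoidHom.ext
    intro a
    apply AddV.val_injective
    show (g * h) * a.val * (g * h)⁻¹ = g * (h * a.val * h⁻¹) * g⁻¹
    group

theorem val_conjRep (V : Subgroup G) [hVn : V.Normal]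
    (hVc : ∀ a ∈ V, ∀ b ∈ V, a * b = b * a) (g : G) (a : AddV V hVc) :
    (conjRep V hVc g a).val = g * a.val * g⁻¹ := rfl

end rep

section main

variable {G : Type u} [Group G]

/-- **The group theorem.** If `J(S)` is normal in `G` and `S` has class at most `n(p-1)+1` then
`℧ⁿ(Z(S))` is normal in `G`. -/
theorem group_main [Finite G] (p : ℕ) [Fact p.Prime] (n : ℕ) (Sy : Sylow p G)
    (hJ : (thompsonSubgroupAOf (Sy : Subgroup G)).Normal)
    (hcl : (Sy : Subgroup G).lowerCentralSeries (n * (p - 1) + 1) = ⊥) :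
    (powerClosure p n (Zc (Sy : Subgroup G))).Normal := by
  obtain ⟨J, hJdef⟩ : ∃ J, J = thompsonSubgroupAOf (Sy : Subgroup G) := ⟨_, rfl⟩
  rw [← hJdef] at hJ
  haveI := hJ
  have hJSy : J ≤ Sy := hJdef ▸ Cfsg.Agent.Lib.Helper1.TH.thompsonSubgroupAOf_le' _
  obtain ⟨V, hVdef⟩ : ∃ V, V = J ⊓ Subgroup.centralizer (J : Set G) := ⟨_, rfl⟩
  have hVc : ∀ a ∈ V, ∀ b ∈ V, a * b = b * a := by
    intro a ha b hb
    rw [hVdef] at ha hb
    exact Subgroup.mem_centralizer_iff.mp (Subgroup.mem_inf.mp hb).2 a (Subgroup.mem_inf.mp ha).1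
  haveI hVn : V.Normal := by
    constructor
    intro v hv g
    rw [hVdef] at hv ⊢
    exact Cfsg.Agent.Lib.Helper1.TH.conj_mem_zOf
      (by rw [Subgroup.normalizer_eq_top]; exact Subgroup.mem_top g) hv
  have hVSy : V ≤ Sy := fun v hv => hJSy (by rw [hVdef] at hv; exact (Subgroup.mem_inf.mp hv).1)
  have hZV : Zc (Sy : Subgroup G) ≤ V := by
    intro z hz
    rw [hVdef]
    have hz' : z ∈ (Sy : Subgroup G) ⊓ Subgroup.centralizer ((Sy : Subgroup G) : Set G) := hz
    refine Subgroup.mem_inf.mpr ⟨?_, ?_⟩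
    · rw [hJdef]
      exact Cfsg.Agent.Lib.Helper8.WC.center_le_JA _ hz'
    · exact Subgroup.centralizer_le (SetLike.coe_subset_coe.mpr hJSy) (Subgroup.mem_inf.mp hz').2
  have hlcs : ∀ s ∈ (Sy : Subgroup G), ∀ k : ℕ, ∀ a : AddV V hVc,
      (((conjRep V hVc s - 1) ^ k) a).val ∈ (Sy : Subgroup G).lowerCentralSeries k := by
    intro s hs k
    induction k with
    | zero =>
      intro a
      rw [pow_zero, end_one_apply]
      exact hVSy a.val_mem
    | succ k ih =>
      intro a
      rw [pow_succ', end_mul_apply, end_sub_apply, end_one_apply, AddV.val_sub, val_conjRep,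
        Subgroup.lowerCentralSeries_succ, Subgroup.commutator_comm]
      have h := Subgroup.commutator_mem_commutator hs (ih a)
      rw [commutatorElement_def] at h
      exact h
  have hnil : ∀ s ∈ (Sy : Subgroup G), ∀ y : AddV V hVc,
      ((conjRep V hVc s - 1) ^ (n * (p - 1) + 1)) y = 0 := by
    intro s hs y
    apply AddV.val_injective
    rw [AddV.val_zero]
    have h := hlcs s hs (n * (p - 1) + 1) y
    rw [hcl] at h
    exact Subgroup.mem_bot.mp h
  have hcomm : ∀ z ∈ Zc (Sy : Subgroup G), ∀ g s : G, s ∈ (Sy : Subgroup G) →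
      (g * s * g⁻¹) * z ^ (p ^ n) * (g * s * g⁻¹)⁻¹ = z ^ (p ^ n) := by
    intro z hz g s hs
    have hzV := hZV hz
    have hz' : z ∈ (Sy : Subgroup G) ⊓ Subgroup.centralizer ((Sy : Subgroup G) : Set G) := hz
    have hfix : ∀ s ∈ (Sy : Subgroup G),
        conjRep V hVc s (AddV.mk z hzV) = AddV.mk z hzV := by
      intro s hs
      apply AddV.val_injective
      rw [val_conjRep, AddV.val_mk]
      have h := Subgroup.mem_centralizer_iff.mp (Subgroup.mem_inf.mp hz').2 s hs
      rw [h, mul_inv_cancel_right]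
    have h := star p n Sy (conjRep V hVc) (AddV.mk z hzV) hfix hnil g s hs
    have h' := congrArg AddV.val h
    rw [val_conjRep, AddV.val_nsmul, AddV.val_mk] at h'
    exact h'
  obtain ⟨C, hC⟩ : ∃ C : Set G,
    C = {y | ∃ g s : G, s ∈ (Sy : Subgroup G) ∧ y = g * s * g⁻¹} := ⟨_, rfl⟩
  have hCconj : ∀ g : G, ∀ t ∈ C, g * t * g⁻¹ ∈ C := by
    intro g t ht
    rw [hC] at ht ⊢
    obtain ⟨g', s, hs, rfl⟩ := ht
    exact ⟨g * g', s, hs, by group⟩
  haveI hHn : (Subgroup.closure C).Normal := closure_normal_of_conj C hCconj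
  have hSyH : (Sy : Subgroup G) ≤ Subgroup.closure C := fun s hs =>
    Subgroup.subset_closure (by rw [hC]; exact ⟨1, s, hs, by group⟩)
  have hHcent : ∀ z ∈ Zc (Sy : Subgroup G), ∀ k ∈ Subgroup.closure C,
      k * z ^ (p ^ n) * k⁻¹ = z ^ (p ^ n) := by
    intro z hz
    obtain ⟨w, hw⟩ : ∃ w, w = z ^ (p ^ n) := ⟨_, rfl⟩
    rw [← hw]
    have hle : Subgroup.closure C ≤ Subgroup.centralizer {w} := by
      rw [Subgroup.closure_le]
      intro y hy
      rw [hC] at hy
      obtain ⟨g, s, hs, rfl⟩ := hy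
      rw [SetLike.mem_coe, Subgroup.mem_centralizer_iff]
      intro w' hw'
      rw [Set.mem_singleton_iff] at hw'
      rw [hw']
      have h := hcomm z hz g s hs
      rw [← hw] at h
      calc w * (g * s * g⁻¹)
          = ((g * s * g⁻¹) * w * (g * s * g⁻¹)⁻¹) * (g * s * g⁻¹) := by rw [h]
        _ = (g * s * g⁻¹) * w := by group
    intro k hk
    have h := Subgroup.mem_centralizer_iff.mp (hle hk) w (Set.mem_singleton _)
    rw [← h, mul_inv_cancel_right]
  unfold powerClosure
  apply closure_normal_of_conj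
  rintro g _ ⟨z, hz, rfl⟩
  obtain ⟨n₁, k, hg, hn₁, hk⟩ := exists_mul_of_normal Sy (Subgroup.closure C) g
  have hinf : (Sy : Subgroup G) ⊓ Subgroup.closure C = Sy := inf_eq_left.mpr hSyH
  rw [hinf] at hn₁
  refine ⟨n₁ * z * n₁⁻¹, Cfsg.Agent.Lib.Helper1.TH.conj_mem_zOf hn₁ hz, ?_⟩
  have hkz := hHcent z hz k hk
  rw [conj_pow, hg]
  obtain ⟨w, hw⟩ : ∃ w, w = z ^ (p ^ n) := ⟨_, rfl⟩
  rw [← hw] at hkz ⊢
  calc n₁ * k * w * (n₁ * k)⁻¹ = n₁ * (k * w * k⁻¹) * n₁⁻¹ := by group
    _ = n₁ * w * n₁⁻¹ := by rw [hkz]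

end main

end Cfsg.Agent.Lib.Helper1.GA
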