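import Mathlib
import Cfsg.Agent.Lib.Helper1.GA2
import Cfsg.Agent.Lib.Helper9.NormalSeries3

set_option autoImplicit false
set_option linter.style.haveILetI false
set_option linter.unusedSectionVars false
set_option linter.unusedVariables false
set_option maxHeartbeats 1000000

/-! Normality of `℧ⁿ(Z(S))` for `S` of class at most `n(p-1)+1`, part 3: fusion systems. -/

namespace Cfsg.Agent.Lib.Helper1.GA

open Cfsg Cfsg.FusionSystem Cfsg.Agent.Lib.Helper9 Cfsg.Agent.Lib.Helper1.KN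
  Cfsg.Agent.Lib.Helper1.KL Cfsg.Agent.Lib.Helper1.QF Cfsg.Agent.Lib.Helper1.GF
  Cfsg.Agent.Lib.Helper1.GN

universe u

section transport

variable {Ω : Type u} [Group Ω]

theorem exists_transport_full {T S : Subgroup Ω} (h : T = S) (E : FusionSystem T) (p : ℕ)
    (J : Subgroup Ω) :
    ∃ E' : FusionSystem S, (∀ P, E'.Hom P = E.Hom P) ∧ (E.IsSaturated p → E'.IsSaturated p) ∧
      (E.IsNormal J → E'.IsNormal J) := by
  subst h
  exact ⟨E, fun _ => rfl, id, id⟩

/-- the image of `℧ⁿ(Z(T))` under an injective homomorphism -/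
theorem imageAlong_powerClosure {T : Subgroup Ω} {L : Type*} [Group L] (ι : ↥T →* L)
    (hinj : Function.Injective ι) (p n : ℕ) :
    imageAlong ι (powerClosure p n (Zc T)) = powerClosure p n (Zc (ι.range)) := by
  apply le_antisymm
  · rintro _ ⟨t, ht, rfl⟩
    have ht' : (t : Ω) ∈ powerClosure p n (Zc T) := ht
    have key : ∀ z ∈ powerClosure p n (Zc T),
        ∃ hz : z ∈ T, ι ⟨z, hz⟩ ∈ powerClosure p n (Zc ι.range) := by
      intro z hz
      unfold powerClosure at hz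
      induction hz using Subgroup.closure_induction with
      | mem x hx =>
        obtain ⟨c, hc, rfl⟩ := hx
        have hcT : c ∈ T := hc.1
        refine ⟨T.pow_mem hcT _, ?_⟩
        have e : (⟨c ^ (p ^ n), T.pow_mem hcT _⟩ : ↥T) = (⟨c, hcT⟩ : ↥T) ^ (p ^ n) :=
          Subtype.ext (by rw [Subgroup.coe_pow])
        rw [e, map_pow]
        apply Subgroup.subset_closure
        refine ⟨ι ⟨c, hcT⟩, ?_, rfl⟩
        exact Subgroup.mem_inf.mpr ⟨⟨_, rfl⟩, iota_center_mem ι hc⟩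
      | one =>
        refine ⟨T.one_mem, ?_⟩
        have e : (⟨1, T.one_mem⟩ : ↥T) = 1 := rfl
        rw [e, map_one]
        exact Subgroup.one_mem _
      | mul a b _ _ ha hb =>
        obtain ⟨haT, ha'⟩ := ha
        obtain ⟨hbT, hb'⟩ := hb
        refine ⟨T.mul_mem haT hbT, ?_⟩
        have e : (⟨a * b, T.mul_mem haT hbT⟩ : ↥T) = ⟨a, haT⟩ * ⟨b, hbT⟩ := rfl
        rw [e, map_mul]
        exact mul_mem ha' hb'
      | inv a _ ha =>
        obtain ⟨haT, ha'⟩ := ha
        refine ⟨T.inv_mem haT, ?_⟩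
        have e : (⟨a⁻¹, T.inv_mem haT⟩ : ↥T) = ⟨a, haT⟩⁻¹ := rfl
        rw [e, map_inv]
        exact inv_mem ha'
    obtain ⟨hz, h⟩ := key _ ht'
    exact h
  · show Subgroup.closure _ ≤ _
    rw [Subgroup.closure_le]
    rintro _ ⟨x, hx, rfl⟩
    have hx' : x ∈ ι.range ⊓ Subgroup.centralizer ((ι.range : Subgroup L) : Set L) := hx
    obtain ⟨t, rfl⟩ := (Subgroup.mem_inf.mp hx').1
    have htZ : (t : Ω) ∈ Zc T := by
      refine Subgroup.mem_inf.mpr ⟨t.2, ?_⟩
      rw [Subgroup.mem_centralizer_iff]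
      intro s hs
      have h := Subgroup.mem_centralizer_iff.mp (Subgroup.mem_inf.mp hx').2 (ι ⟨s, hs⟩) ⟨_, rfl⟩
      rw [← map_mul, ← map_mul] at h
      exact congrArg Subtype.val (hinj h)
    refine ⟨t ^ (p ^ n), ?_, map_pow ι t _⟩
    show ((t ^ (p ^ n) : ↥T) : Ω) ∈ powerClosure p n (Zc T)
    rw [Subgroup.coe_pow]
    exact Subgroup.subset_closure ⟨t, htZ, rfl⟩

end transport

section main

variable {Ω : Type u} [Group Ω] {S : Subgroup Ω}

/-- the abelian case -/
theorem agemo_normal_zero [Finite S] (p : ℕ) [Fact p.Prime]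
    (hS : IsPGroup p S) (F : FusionSystem S) (hF : F.IsSaturated p)
    (hcl : S.lowerCentralSeries 1 = ⊥) : F.IsNormal (powerClosure p 0 (Zc S)) := by
  have hab : ⁅S, S⁆ = ⊥ := hcl
  have hSc : S ≤ Subgroup.centralizer (S : Set Ω) :=
    Subgroup.commutator_eq_bot_iff_le_centralizer.mp hab
  have hZ : Zc S = S := inf_eq_left.mpr hSc
  have hpc : powerClosure p 0 (Zc S) = S := by
    rw [hZ]
    unfold powerClosure
    apply le_antisymm
    · rw [Subgroup.closure_le]
      rintro _ ⟨x, hx, rfl⟩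
      exact S.pow_mem hx _
    · intro x hx
      exact Subgroup.subset_closure ⟨x, hx, by simp⟩
  rw [hpc]
  exact normal_of_abelian_stronglyClosed p hS F hF S hab.le (stronglyClosed_top F)

/-- the case `n ≥ 1` -/
theorem agemo_normal_pos [Finite S] (p : ℕ) [Fact p.Prime]
    (hS : IsPGroup p S) (F : FusionSystem S) (hF : F.IsSaturated p) (n : ℕ) (hn : 1 ≤ n)
    (hcl : S.lowerCentralSeries (n * (p - 1) + 1) = ⊥) :
    F.IsNormal (powerClosure p n (Zc S)) := by
  obtain ⟨Z, hZdef⟩ : ∃ Z, Z = powerClosure p n (Zc S) := ⟨_, rfl⟩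
  rw [← hZdef]
  have hZZc : Z ≤ Zc S := by
    rw [hZdef]
    unfold powerClosure
    rw [Subgroup.closure_le]
    rintro _ ⟨x, hx, rfl⟩
    exact (Zc S).pow_mem hx _
  have hZS : Z ≤ S := hZZc.trans inf_le_left
  have hZZ1 : Z ≤ powerClosure p 1 (S ⊓ Subgroup.centralizer (S : Set Ω)) := by
    rw [hZdef]
    show Subgroup.closure _ ≤ _
    rw [Subgroup.closure_le]
    rintro _ ⟨x, hx, rfl⟩
    obtain ⟨k, rfl⟩ : ∃ k, n = k + 1 := ⟨n - 1, by omega⟩
    have e : x ^ (p ^ (k + 1)) = (x ^ (p ^ k)) ^ p := by rw [pow_succ, pow_mul]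
    rw [e]
    exact pow_mem_Z1 ((Zc S).pow_mem hx _)
  haveI : Finite Z := finite_of_le hZS
  have hZc : ∀ s ∈ S, ∀ z ∈ Z, s * z * s⁻¹ = z := by
    intro s hs z hz
    have h := Subgroup.mem_centralizer_iff.mp (Subgroup.mem_inf.mp (hZZc hz)).2 s hs
    rw [h, mul_inv_cancel_right]
  have hZnorm : normalizerIn S Z = S :=
    normalizerIn_eq_of_forall (fun s hs z hz => by rw [hZc s hs z hz]; exact hz)
  obtain ⟨E₀, hE₀⟩ := Cfsg.Agent.S5096.result F Z hZS
  obtain ⟨E, hEE₀, -, -⟩ := exists_transport hZnorm E₀ p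
  have hE : ∀ P, E.Hom P = F.normalizerHom Z P := fun P => (hEE₀ P).trans (hE₀ P)
  have hCE : ∀ P, F.centralizerHom
      (powerClosure p 1 (S ⊓ Subgroup.centralizer (S : Set Ω))) P ⊆ E.Hom P := by
    intro P φ hφ
    rw [hE P]
    obtain ⟨hφF, hPC, hφC, ψ, hψ, hψP, hψZ⟩ := hφ
    refine ⟨hφF, ?_, ?_, ?_⟩
    · rw [hZnorm]
      exact hom_le F hφF
    · intro x
      rw [hZnorm]
      exact hom_mem F hφF x
    · have hle : P ⊔ Z ≤ P ⊔ powerClosure p 1 (S ⊓ Subgroup.centralizer (S : Set Ω)) :=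
        sup_le_sup_left hZZ1 P
      have hψ' : ψ.comp (Subgroup.inclusion hle) ∈ F.Hom (P ⊔ Z) := restrict_mem F hψ hle
      refine ⟨ψ.comp (Subgroup.inclusion hle), hψ', fun x => hψP x, ?_⟩
      apply map_eq_of_forall_mem _ (F.injective_of_mem hψ') le_sup_right
      intro y hy
      have h := hψZ ⟨(y : Ω), hZZ1 hy⟩
      have e : (ψ.comp (Subgroup.inclusion hle)) y =
          ψ (Subgroup.inclusion le_sup_right ⟨(y : Ω), hZZ1 hy⟩) := rfl
      rw [e, h]
      exact hy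
  have hNE : ∀ P, F.normalizerHom (thompsonSubgroupAOf S) P ⊆ E.Hom P := by
    have hJS₀ : thompsonSubgroupAOf S ≤ S := Cfsg.Agent.Lib.Helper1.TH.thompsonSubgroupAOf_le' S
    haveI : Finite (thompsonSubgroupAOf S) := finite_of_le hJS₀
    have hJnormS₀ : normalizerIn S (thompsonSubgroupAOf S) = S :=
      normalizerIn_eq_of_forall (fun s hs x hx =>
        Cfsg.Agent.Lib.Helper1.TH.conj_mem_thompsonSubgroupAOf (Subgroup.le_normalizer hs) hx)
    obtain ⟨J, hJdef⟩ : ∃ J, J = thompsonSubgroupAOf S := ⟨_, rfl⟩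
    rw [← hJdef] at hJS₀ hJnormS₀ ⊢
    haveI : Finite J := finite_of_le hJS₀
    have hJfn : F.IsFullyNormalized J := fullyNormalized_of_normalizerIn_eq F hJS₀ hJnormS₀
    obtain ⟨N₀, hN₀⟩ := Cfsg.Agent.S5096.result F J hJS₀
    have hN₀sat := Cfsg.Agent.S5098.result p hS F hF J hJfn N₀ hN₀
    have hN₀n : N₀.IsNormal J := normal_self_of_isNormalizerSystem F hJS₀ N₀ hN₀
    obtain ⟨NJ, hNJ₀, hsatT, hnT⟩ := exists_transport_full hJnormS₀ N₀ p J
    have hNJsat := hsatT hN₀sat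
    have hJn : NJ.IsNormal J := hnT hN₀n
    have hNJ : ∀ P, NJ.Hom P = F.normalizerHom J P := fun P => (hNJ₀ P).trans (hN₀ P)
    have hJc : NJ.IsCentric J := by
      refine ⟨hJS₀, fun Q hQ => ?_⟩
      have hsc := stronglyClosed_of_normal NJ hJn
      have hQJ : Q ≤ J := by
        obtain ⟨φ, hφ, hr⟩ := hQ
        rw [← hr]
        rintro _ ⟨x, rfl⟩
        exact hsc.2 J le_rfl φ hφ x
      have hcard := card_eq_of_isConj NJ hQ
      have hQeq : Q = J := Subgroup.eq_of_le_of_card_ge hQJ hcard.le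
      rw [hQeq]
      show S ⊓ Subgroup.centralizer (J : Set Ω) ≤ J
      exact inf_centralizer_le_of_thompson_le' hJdef.ge
    obtain ⟨L, _, ι, hmodel⟩ := Cfsg.Agent.S5090.result p hS NJ ⟨hNJsat, J, hJn, hJc⟩
    obtain ⟨hfin, hreal, ⟨Sy, hSy⟩, hcent⟩ := id hmodel
    haveI := hfin
    have hinj := hreal.1
    have hJL : (imageAlong ι J).Normal := map_normal_of_isModel p NJ ι hmodel hJn
    have himS : imageAlong ι S = (Sy : Subgroup L) := (imageAlong_top_eq_range ι).trans hSy.symm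
    have hJim : imageAlong ι J = thompsonSubgroupAOf (Sy : Subgroup L) := by
      rw [hJdef, imageAlong_thompson ι hinj le_rfl, himS]
    rw [hJim] at hJL
    have h1 : (⊤ : Subgroup ↥S).lowerCentralSeries (n * (p - 1) + 1) = ⊥ := by
      have h := Subgroup.top_subtype_lowerCentralSeries S (n * (p - 1) + 1)
      rw [hcl] at h
      exact (Subgroup.map_eq_bot_iff_of_injective _ (Subgroup.subtype_injective S)).mp h
    have h2 : (Sy : Subgroup L).lowerCentralSeries (n * (p - 1) + 1) = ⊥ := by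
      rw [hSy, MonoidHom.range_eq_map, ← Subgroup.map_lowerCentralSeries, h1, Subgroup.map_bot]
    have hZL := group_main p n Sy hJL h2
    have hZim : imageAlong ι Z = powerClosure p n (Zc (Sy : Subgroup L)) := by
      rw [hZdef, imageAlong_powerClosure ι hinj p n, hSy]
    have hZn : NJ.IsNormal Z := isNormal_of_map_normal NJ ι hreal hZS (by
      show (imageAlong ι Z).Normal
      rw [hZim]
      exact hZL)
    intro P φ hφ
    rw [hE P]
    have hφNJ : φ ∈ NJ.Hom P := by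
      rw [hNJ P]
      exact hφ
    obtain ⟨ψ, hψ, hψP, hψZ⟩ := hZn.2 P φ hφNJ
    have hψF : ψ ∈ F.Hom (P ⊔ Z) := by
      rw [hNJ] at hψ
      exact hψ.1
    have hφF : φ ∈ F.Hom P := hφ.1
    refine ⟨hφF, ?_, ?_, ψ, hψF, hψP, hψZ⟩
    · rw [hZnorm]
      exact hom_le F hφF
    · intro x
      rw [hZnorm]
      exact hom_mem F hφF x
  have hFE := gen_main p hS F E hF hCE hNE
  refine ⟨hZS, fun P φ hφ => ?_⟩
  have h := hFE P hφ
  rw [hE P] at h
  exact h.2.2.2

/-- **`℧ⁿ(Z(S))` is normal in a saturated fusion system over `S` of class at most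
`n(p-1)+1`.** -/
theorem agemo_normal [Finite S] (p : ℕ) [Fact p.Prime]
    (hS : IsPGroup p S) (F : FusionSystem S) (hF : F.IsSaturated p) (n : ℕ)
    (hcl : S.lowerCentralSeries (n * (p - 1) + 1) = ⊥) :
    F.IsNormal (powerClosure p n (S ⊓ Subgroup.centralizer (S : Set Ω))) := by
  rcases Nat.eq_zero_or_pos n with h0 | hpos
  · subst h0
    rw [Nat.zero_mul, Nat.zero_add] at hcl
    exact agemo_normal_zero p hS F hF hcl
  · exact agemo_normal_pos p hS F hF n hpos hcl

end main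

end Cfsg.Agent.Lib.Helper1.GA
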