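import Mathlib
import Cfsg.Agent.Lib.Helper1.GA3

set_option autoImplicit false
set_option linter.style.haveILetI false
set_option linter.unusedSectionVars false
set_option linter.unusedVariables false
set_option maxHeartbeats 1000000

/-! Exponent bound for `S` of class at most `n(p-1)+1` carrying a saturated fusion system with
trivial core. -/

namespace Cfsg.Agent.Lib.Helper1.GA

open Cfsg Cfsg.FusionSystem Cfsg.Agent.Lib.Helper9 Cfsg.Agent.Lib.Helper1.KN
  Cfsg.Agent.Lib.Helper1.GN

universe u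

open scoped commutatorElement

section exponent

variable {G : Type*} [Group G]

/-- if `⁅X, Y⁆` commutes with `X` then `⁅X^k, Y⁆ = ⁅X, Y⁆^k` -/
theorem comm_pow_of_commute (X Y : G) (h : Commute ⁅X, Y⁆ X) (k : ℕ) :
    ⁅X ^ k, Y⁆ = ⁅X, Y⁆ ^ k := by
  induction k with
  | zero => simp
  | succ k ih =>
    have hk : Commute (⁅X, Y⁆ ^ k) X := h.pow_left k
    have e1 : ⁅X ^ (k + 1), Y⁆ = X * ⁅X ^ k, Y⁆ * (Y * X⁻¹ * Y⁻¹) := by
      rw [commutatorElement_def, commutatorElement_def, pow_succ']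
      group
    rw [e1, ih, ← hk.eq, pow_succ, mul_assoc (⁅X, Y⁆ ^ k)]
    congr 1
    rw [commutatorElement_def]
    group

/-- `e`-th powers move down the upper central series if `e` kills the centre -/
theorem pow_mem_upper (e : ℕ) (he : ∀ z ∈ Subgroup.center G, z ^ e = 1) :
    ∀ i : ℕ, ∀ x ∈ Subgroup.upperCentralSeries G (i + 1),
      x ^ e ∈ Subgroup.upperCentralSeries G i := by
  intro i
  induction i with
  | zero =>
    intro x hx
    have hx' : x ∈ Subgroup.upperCentralSeries G 1 := hx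
    rw [Subgroup.upperCentralSeries_one] at hx'
    rw [he x hx']
    exact Subgroup.one_mem _
  | succ i ih =>
    intro x hx
    rw [Subgroup.mem_upperCentralSeries_succ_iff]
    intro y
    have hc : ⁅x, y⁆ ∈ Subgroup.upperCentralSeries G (i + 1) :=
      Subgroup.mem_upperCentralSeries_succ_iff.mp hx y
    have hce : ⁅x, y⁆ ^ e ∈ Subgroup.upperCentralSeries G i := ih _ hc
    have hcx : ⁅⁅x, y⁆, x⁆ ∈ Subgroup.upperCentralSeries G i :=
      Subgroup.mem_upperCentralSeries_succ_iff.mp hc x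
    obtain ⟨π, hπ⟩ : ∃ π : G →* G ⧸ Subgroup.upperCentralSeries G i,
        ∀ g : G, π g = 1 ↔ g ∈ Subgroup.upperCentralSeries G i :=
      ⟨QuotientGroup.mk' _, fun g => QuotientGroup.eq_one_iff g⟩
    have hcomm : Commute ⁅π x, π y⁆ (π x) := by
      have h1 : π ⁅⁅x, y⁆, x⁆ = 1 := (hπ _).mpr hcx
      rw [map_commutatorElement, map_commutatorElement] at h1
      exact commutatorElement_eq_one_iff_commute.mp h1
    have h2 := comm_pow_of_commute (π x) (π y) hcomm e
    have h3 : π ⁅x ^ e, y⁆ = 1 := by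
      rw [map_commutatorElement, map_pow, h2, ← map_commutatorElement, ← map_pow]
      exact (hπ _).mpr hce
    exact (hπ _).mp h3

theorem pow_eq_one_of_mem_upper (e : ℕ) (he : ∀ z ∈ Subgroup.center G, z ^ e = 1) :
    ∀ i : ℕ, ∀ x ∈ Subgroup.upperCentralSeries G i, x ^ (e ^ i) = 1 := by
  intro i
  induction i with
  | zero =>
    intro x hx
    rw [Subgroup.upperCentralSeries_zero, Subgroup.mem_bot] at hx
    rw [hx, one_pow]
  | succ i ih =>
    intro x hx
    have h := ih _ (pow_mem_upper e he i x hx)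
    rw [← pow_mul, ← pow_succ'] at h
    exact h

end exponent

section main

variable {Ω : Type u} [Group Ω] {S : Subgroup Ω}

/-- **Exponent bound.** -/
theorem exponent_dvd [Finite S] (p : ℕ) [Fact p.Prime]
    (hS : IsPGroup p S) (F : FusionSystem S) (hF : F.IsSaturated p) (n : ℕ)
    (hcl : S.lowerCentralSeries (n * (p - 1) + 1) = ⊥) (hcore : F.core = ⊥) :
    Monoid.exponent ↥S ∣ p ^ (n ^ 2 * (p - 1) + n) := by
  have hZn := agemo_normal p hS F hF n hcl
  have hZbot : powerClosure p n (S ⊓ Subgroup.centralizer (S : Set Ω)) = ⊥ := by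
    rw [eq_bot_iff, ← hcore]
    exact le_sSup hZn
  have he : ∀ z ∈ Subgroup.center ↥S, z ^ (p ^ n) = 1 := by
    intro z hz
    have hzZ : (z : Ω) ∈ S ⊓ Subgroup.centralizer (S : Set Ω) := by
      refine Subgroup.mem_inf.mpr ⟨z.2, ?_⟩
      rw [Subgroup.mem_centralizer_iff]
      intro s hs
      have h := Subgroup.mem_center_iff.mp hz ⟨s, hs⟩
      exact congrArg Subtype.val h
    have h1 : (z : Ω) ^ (p ^ n) ∈
        powerClosure p n (S ⊓ Subgroup.centralizer (S : Set Ω)) :=
      Subgroup.subset_closure ⟨(z : Ω), hzZ, rfl⟩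
    rw [hZbot, Subgroup.mem_bot] at h1
    apply Subtype.ext
    rw [Subgroup.coe_pow, h1, Subgroup.coe_one]
  have h1 : (⊤ : Subgroup ↥S).lowerCentralSeries (n * (p - 1) + 1) = ⊥ := by
    have h := Subgroup.top_subtype_lowerCentralSeries S (n * (p - 1) + 1)
    rw [hcl] at h
    exact (Subgroup.map_eq_bot_iff_of_injective _ (Subgroup.subtype_injective S)).mp h
  have h2 : Subgroup.upperCentralSeries ↥S (n * (p - 1) + 1) = ⊤ :=
    Subgroup.lowerCentralSeries_eq_bot_iff_upperCentralSeries_eq_top.mp h1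
  apply Monoid.exponent_dvd_of_forall_pow_eq_one
  intro x
  have h3 := pow_eq_one_of_mem_upper (p ^ n) he (n * (p - 1) + 1) x
    (by rw [h2]; exact Subgroup.mem_top x)
  have e : (p ^ n) ^ (n * (p - 1) + 1) = p ^ (n ^ 2 * (p - 1) + n) := by
    rw [← pow_mul]
    congr 1
    ring
  rw [← e]
  exact h3

end main

end Cfsg.Agent.Lib.Helper1.GA
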