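import Mathlib
import Cfsg.Agent.Lib.Helper1.WC1

set_option autoImplicit false
set_option linter.style.haveILetI false
set_option linter.unusedSectionVars false
set_option linter.unusedVariables false
set_option maxHeartbeats 1000000

/-! Control of weak closure of elements by positive characteristic functors, part 2:
systems with a nontrivial normal subgroup. -/

namespace Cfsg.Agent.Lib.Helper1.WC

open Cfsg Cfsg.FusionSystem Cfsg.Agent.Lib.Helper9 Cfsg.Agent.Lib.Helper1.KN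
  Cfsg.Agent.Lib.Helper1.KL Cfsg.Agent.Lib.Helper1.QF Cfsg.Agent.Lib.Helper1.GF

universe u v

variable {p : ℕ} [Fact p.Prime] (W : ∀ (Q : Type u) [Group Q], Subgroup Q)

/-- modulo a nontrivial normal subgroup `R`, every map of the system fixes the elements of `Z₀` -/
theorem spade
    (hW1 : ∀ (Q : Type u) [Group Q] [Finite Q], IsPGroup p Q → Nontrivial Q → W Q ≠ ⊥)
    (hW2 : ∀ (Q R : Type u) [Group Q] [Group R] [Finite Q], IsPGroup p Q →
      ∀ φ : Q ≃* R, (W Q).map φ.toMonoidHom = W R)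
    {pw c : Prop} {H : Type v} [Group H]
    {Ω : Type u} [Group Ω] {T : Subgroup Ω} [Finite T] (hT : IsPGroup p T)
    (D : FusionSystem T) (hD : D.IsSaturated p) (hfree : c ∨ D.IsSectionFree p H)
    {R : Subgroup Ω} (hRn : D.IsNormal R) (hR0 : R ≠ ⊥)
    (IH : WIH.{u, v} p W pw c H (Nat.card T)) {Z₀ : Subgroup Ω} (hadm : Adm p pw T Z₀)
    (hX : ∀ X : Subgroup Ω, R ≤ X → X ≤ T → Nat.card R < Nat.card X →
      (∀ t ∈ T, ∀ x ∈ X, t * x * t⁻¹ ∈ X) →
      ∀ (Z : Subgroup Ω) (ψ : Z →* Ω), ψ ∈ D.Hom Z → X ≤ Z → (X.subgroupOf Z).map ψ = X →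
        ∀ z : Z, (z : Ω) ∈ Z₀ → ψ z = z) :
    ∀ (P : Subgroup Ω) (φ : P →* Ω), φ ∈ D.Hom P → ∀ y : P, (y : Ω) ∈ Z₀ →
      (y : Ω)⁻¹ * φ y ∈ R := by
  have hRT := hRn.1
  haveI : Finite R := finite_of_le hRT
  by_cases hRT' : R = T
  · intro P φ hφ y hy
    rw [hRT']
    exact T.mul_mem (T.inv_mem ((D.le_of_mem hφ).1 y.2)) ((D.le_of_mem hφ).2 y)
  have hsc := stronglyClosed_of_normal D hRn
  haveI : (R.subgroupOf T).Normal := subgroupOf_normal_of_stronglyClosed D hsc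
  obtain ⟨θ, hθdef⟩ : ∃ θ : ↥T →* ↥T ⧸ R.subgroupOf T, θ = QuotientGroup.mk' (R.subgroupOf T) :=
    ⟨_, rfl⟩
  have hθsurj : Function.Surjective θ := by
    rw [hθdef]
    exact QuotientGroup.mk'_surjective _
  obtain ⟨Eb, hfac⟩ := exists_factorSystem_quotient D R hsc
  rw [← hθdef] at hfac
  have hker := hfac.2.1
  have hrange := hfac.2.2.1
  have hHom := hfac.2.2.2
  haveI : Finite (↥T ⧸ R.subgroupOf T) := inferInstance
  haveI : Finite ↥(⊤ : Subgroup (↥T ⧸ R.subgroupOf T)) := inferInstance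
  have hS'p : IsPGroup p ↥(⊤ : Subgroup (↥T ⧸ R.subgroupOf T)) :=
    isPGroup_of_range_eq hT θ hrange
  have hEbsat := factorSystem_saturated p hT D hD hsc θ Eb hfac
  have hEbfree : c ∨ Eb.IsSectionFree p H :=
    hfree.imp id (fun h => factor_sectionFree p hT D hD R hRn h θ Eb hfac)
  have hcard : Nat.card ↥(⊤ : Subgroup (↥T ⧸ R.subgroupOf T)) < Nat.card T := by
    rw [Subgroup.card_top]
    have h1 := Subgroup.card_eq_card_quotient_mul_card_subgroup (R.subgroupOf T)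
    have h2 : Nat.card ↥(R.subgroupOf T) = Nat.card R :=
      Nat.card_congr (Subgroup.subgroupOfEquivOfLe hRT).toEquiv
    have h3 : 1 < Nat.card R := (Subgroup.one_lt_card_iff_ne_bot R).mpr hR0
    have h4 : 0 < Nat.card (↥T ⧸ R.subgroupOf T) := Nat.card_pos
    rw [h2] at h1
    nlinarith
  have htop0 : (⊤ : Subgroup (↥T ⧸ R.subgroupOf T)) ≠ ⊥ := by
    intro h0
    apply hRT'
    apply le_antisymm hRT
    intro t ht
    have h1 : θ ⟨t, ht⟩ ∈ (⊤ : Subgroup (↥T ⧸ R.subgroupOf T)) := Subgroup.mem_top _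
    rw [h0, Subgroup.mem_bot] at h1
    exact (hker _).mp h1
  -- the image of `Z₀`
  obtain ⟨Zb, hZbdef⟩ : ∃ Zb : Subgroup (↥T ⧸ R.subgroupOf T), Zb = imageAlong θ Z₀ := ⟨_, rfl⟩
  have hmemZb : ∀ z : T, (z : Ω) ∈ Z₀ → θ z ∈ Zb := fun z hz => by
    rw [hZbdef]
    exact ⟨z, Subgroup.mem_subgroupOf.mpr hz, rfl⟩
  have hZb_exists : ∀ zb ∈ Zb, ∃ z : T, (z : Ω) ∈ Z₀ ∧ θ z = zb := by
    rw [hZbdef]
    rintro _ ⟨z, hz, rfl⟩
    exact ⟨z, Subgroup.mem_subgroupOf.mp hz, rfl⟩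
  have hcenb : ∀ z : T, (z : Ω) ∈ T ⊓ Subgroup.centralizer (T : Set Ω) →
      θ z ∈ (⊤ : Subgroup (↥T ⧸ R.subgroupOf T)) ⊓
        Subgroup.centralizer (((⊤ : Subgroup (↥T ⧸ R.subgroupOf T)) : Subgroup _) : Set _) := by
    intro z hz
    have h0 : θ z ∈ Subgroup.centralizer
        (((⊤ : Subgroup (↥T ⧸ R.subgroupOf T)) : Subgroup _) : Set _) := by
      refine Subgroup.mem_centralizer_iff.mpr (fun g _ => ?_)
      obtain ⟨t, rfl⟩ := hθsurj g
      rw [← map_mul, ← map_mul]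
      congr 1
      exact Subtype.ext (Subgroup.mem_centralizer_iff.mp hz.2 t t.2)
    exact ⟨Subgroup.mem_top _, h0⟩
  have hadmb : Adm p pw (⊤ : Subgroup (↥T ⧸ R.subgroupOf T)) Zb := by
    refine ⟨fun zb hzb => ?_, fun hpw zb hzb => ?_⟩
    · obtain ⟨z, hz, rfl⟩ := hZb_exists zb hzb
      exact hcenb z (hadm.1 hz)
    · obtain ⟨z, hz, rfl⟩ := hZb_exists zb hzb
      obtain ⟨y, hy, hyz⟩ := hadm.2 hpw z hz
      refine ⟨θ ⟨y, hy.1⟩, hcenb ⟨y, hy.1⟩ hy, ?_⟩
      rw [← map_pow]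
      congr 1
      apply Subtype.ext
      rw [Subgroup.coe_pow]
      exact hyz
  have hXb_norm : normalizerIn (⊤ : Subgroup (↥T ⧸ R.subgroupOf T))
      (Wsub W (⊤ : Subgroup (↥T ⧸ R.subgroupOf T))) = ⊤ :=
    normalizerIn_W_top (Wsub W) (fun T' => Wsub_le W T')
      (fun T₁ T₂ φ h1 h2 h3 => Wsub_map W hW2 hS'p T₁ T₂ φ h1 h2 h3)
  have hNb : NFixG Eb (Wsub W (⊤ : Subgroup (↥T ⧸ R.subgroupOf T))) Zb := by
    intro Pb φb hφb xb hxb
    obtain ⟨Xb, hXbdef⟩ : ∃ Xb, Xb = Wsub W (⊤ : Subgroup (↥T ⧸ R.subgroupOf T)) := ⟨_, rfl⟩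
    rw [← hXbdef] at hφb
    have hXb0 : Xb ≠ ⊥ := by
      rw [hXbdef]
      exact Wsub_ne_bot W hW1 hS'p le_rfl htop0
    have hXbnorm : ∀ (g : ↥T ⧸ R.subgroupOf T), ∀ x ∈ Xb, g * x * g⁻¹ ∈ Xb := by
      intro g x hx
      have hg : g ∈ normalizerIn (⊤ : Subgroup (↥T ⧸ R.subgroupOf T)) Xb := by
        rw [hXbdef, hXb_norm]
        exact Subgroup.mem_top g
      exact (Subgroup.mem_normalizer_iff.mp hg.2 x).mp hx
    obtain ⟨hφbE, hPbN, hφbN, ψb, hψb, hψbext, hψbX⟩ := hφb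
    obtain ⟨-, ψ, hψ, hZT, hψT, hZim, hind⟩ := (hHom _ ψb).mp hψb
    have hRX : R ≤ preimageAlong θ Xb := ker_le_preimageAlong θ hRT hker _
    have hXT : preimageAlong θ Xb ≤ T := preimageAlong_le θ _
    have himX : imageAlong θ (preimageAlong θ Xb) = Xb :=
      imageAlong_preimageAlong θ hrange le_top
    haveI : Finite ↥(preimageAlong θ Xb) := finite_of_le hXT
    have hcardX : Nat.card R < Nat.card ↥(preimageAlong θ Xb) := by
      by_contra hcon
      push Not at hcon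
      have heq := Subgroup.eq_of_le_of_card_ge hRX hcon
      apply hXb0
      rw [← himX, ← heq, eq_bot_iff]
      intro y hy
      obtain ⟨r, hrT, hrR, rfl⟩ := (mem_imageAlong θ R y).mp hy
      rw [Subgroup.mem_bot]
      exact (hker _).mpr hrR
    have hXnorm : ∀ t ∈ T, ∀ x ∈ preimageAlong θ Xb, t * x * t⁻¹ ∈ preimageAlong θ Xb := by
      intro t ht x hx
      obtain ⟨hxT, hxθ⟩ := (mem_preimageAlong θ _ x).mp hx
      refine (mem_preimageAlong θ _ _).mpr ⟨T.mul_mem (T.mul_mem ht hxT) (T.inv_mem ht), ?_⟩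
      have e1 : (⟨t * x * t⁻¹, T.mul_mem (T.mul_mem ht hxT) (T.inv_mem ht)⟩ : T) =
          ⟨t, ht⟩ * ⟨x, hxT⟩ * ⟨t, ht⟩⁻¹ := rfl
      rw [e1, map_mul, map_mul, map_inv]
      exact hXbnorm _ _ hxθ
    have hXZ : preimageAlong θ Xb ≤ preimageAlong θ (Pb ⊔ Xb) :=
      preimageAlong_mono θ le_sup_right
    have hψX : ((preimageAlong θ Xb).subgroupOf (preimageAlong θ (Pb ⊔ Xb))).map ψ =
        preimageAlong θ Xb := by
      apply map_eq_of_forall_mem ψ (D.injective_of_mem hψ) hXZ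
      intro z hz
      obtain ⟨hzT, hzθ⟩ := (mem_preimageAlong θ _ _).mp hz
      refine (mem_preimageAlong θ _ _).mpr ⟨hψT z, ?_⟩
      rw [← hind z]
      exact hψbX.le ⟨⟨θ ⟨z, hZT z.2⟩, hZim z⟩, Subgroup.mem_subgroupOf.mpr hzθ, rfl⟩
    obtain ⟨z, hz, hzx⟩ := hZb_exists _ hxb
    have hzZ : (z : Ω) ∈ preimageAlong θ (Pb ⊔ Xb) := by
      refine (mem_preimageAlong θ _ _).mpr ⟨z.2, ?_⟩
      show θ z ∈ Pb ⊔ Xb
      rw [hzx]
      exact Subgroup.mem_sup_left xb.2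
    have hfix := hX _ hRX hXT hcardX hXnorm _ ψ hψ hXZ hψX ⟨z, hzZ⟩ hz
    have e1 : (Subgroup.inclusion (le_sup_left : Pb ≤ Pb ⊔ Xb) xb) =
        ⟨θ ⟨(z : Ω), hZT hzZ⟩, hZim ⟨z, hzZ⟩⟩ := by
      apply Subtype.ext
      show (xb : ↥T ⧸ R.subgroupOf T) = θ z
      rw [hzx]
    rw [← hψbext xb, e1, hind ⟨z, hzZ⟩]
    have e2 : (⟨ψ ⟨z, hzZ⟩, hψT ⟨z, hzZ⟩⟩ : T) = z := Subtype.ext hfix
    rw [e2, hzx]
  have hfixb : FixG Eb Zb := IH _ ⊤ hcard hS'p Eb hEbsat hEbfree Zb hadmb hNb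
  have hmor := factor_isSurjectiveMorphism p hT D hD R hsc θ Eb hfac
  intro P φ hφ y hy
  obtain ⟨φ', hφ', hPT, hφT, hP', hind⟩ := hmor.1.2 P φ hφ
  have h1 := hfixb _ φ' hφ' ⟨θ ⟨y, hPT y.2⟩, hP' y⟩ (hmemZb ⟨y, hPT y.2⟩ hy)
  have h2 := hind y
  have h2' : θ ⟨φ y, hφT y⟩ = θ ⟨y, hPT y.2⟩ := h2.symm.trans h1
  have h3 : θ ((⟨y, hPT y.2⟩ : T)⁻¹ * ⟨φ y, hφT y⟩) = 1 := by
    rw [map_mul, map_inv, h2']
    exact inv_mul_cancel _
  exact (hker _).mp h3

/-- **Lemma A**: the theorem for a system with a nontrivial normal subgroup, assuming it for all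
smaller `p`-groups. -/
theorem lemmaA
    (hW1 : ∀ (Q : Type u) [Group Q] [Finite Q], IsPGroup p Q → Nontrivial Q → W Q ≠ ⊥)
    (hW2 : ∀ (Q R : Type u) [Group Q] [Group R] [Finite Q], IsPGroup p Q →
      ∀ φ : Q ≃* R, (W Q).map φ.toMonoidHom = W R)
    {pw c : Prop} {H : Type v} [Group H] (hLH : LH.{u, v} p W pw c H) :
    ∀ (m : ℕ) (Ω : Type u) [Group Ω] (T : Subgroup Ω) [Finite T], IsPGroup p T →
      WIH.{u, v} p W pw c H (Nat.card T) →
      ∀ D : FusionSystem T, D.IsSaturated p → (c ∨ D.IsSectionFree p H) →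
      ∀ V : Subgroup Ω, D.IsNormal V → V ≠ ⊥ → Nat.card T - Nat.card V = m →
      ∀ Z₀ : Subgroup Ω, Adm p pw T Z₀ → NFixG D (Wsub W T) Z₀ → FixG D Z₀ := by
  intro m
  induction m using Nat.strong_induction_on with
  | _ m ih =>
    intro Ω _ T _ hT IH D hD hfree V hVn hV0 hm Z₀ hadm hN
    have hRn0 : D.IsNormal D.core := Cfsg.Agent.S5145.result D
    obtain ⟨R, hRdef⟩ : ∃ R, R = D.core := ⟨_, rfl⟩
    rw [← hRdef] at hRn0
    have hRn := hRn0
    have hVR : V ≤ R := by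
      rw [hRdef]
      exact le_sSup hVn
    have hRT : R ≤ T := hRn.1
    haveI : Finite R := finite_of_le hRT
    have hR0 : R ≠ ⊥ := by
      intro h
      apply hV0
      rw [eq_bot_iff, ← h]
      exact hVR
    have hsc := stronglyClosed_of_normal D hRn
    have hRnorm : ∀ t ∈ T, ∀ x ∈ R, t * x * t⁻¹ ∈ R :=
      fun s hs x hx => conj_mem_of_isNormal D hRn hs hx
    have hNR : normalizerIn T R = T := normalizerIn_eq_of_forall hRnorm
    -- larger normal subgroups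
    have hX : ∀ X : Subgroup Ω, R ≤ X → X ≤ T → Nat.card R < Nat.card X →
        (∀ t ∈ T, ∀ x ∈ X, t * x * t⁻¹ ∈ X) →
        ∀ (Z : Subgroup Ω) (ψ : Z →* Ω), ψ ∈ D.Hom Z → X ≤ Z → (X.subgroupOf Z).map ψ = X →
          ∀ z : Z, (z : Ω) ∈ Z₀ → ψ z = z := by
      intro X hRX hXT hcard hXnorm Z ψ hψ hXZ hψX z hz
      haveI : Finite X := finite_of_le hXT
      have hXN : normalizerIn T X = T := normalizerIn_eq_of_forall hXnorm
      have hXfn := fullyNormalized_of_normalizerIn_eq D hXT hXN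
      obtain ⟨DX, hDX⟩ := Cfsg.Agent.S5096.result D X hXT
      have hDXsat := Cfsg.Agent.S5098.result p hT D hD X hXfn DX hDX
      haveI : Finite ↥(normalizerIn T X) := finite_normalizerIn (S := T) X
      have hTXp : IsPGroup p ↥(normalizerIn T X) := isPGroup_of_le hT (normalizerIn_le T X)
      have hfreeX : c ∨ DX.IsSectionFree p H :=
        hfree.imp id (fun h => normalizer_sectionFree p hT D hD h X hXfn DX hDX)
      have hXn : DX.IsNormal X := normal_self_of_isNormalizerSystem D hXT DX hDX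
      have hX0 : X ≠ ⊥ := by
        intro h
        apply hR0
        rw [eq_bot_iff, ← h]
        exact hRX
      have hcardT : Nat.card ↥(normalizerIn T X) = Nat.card T := by rw [hXN]
      have IH' : WIH.{u, v} p W pw c H (Nat.card ↥(normalizerIn T X)) := by
        rw [hcardT]
        exact IH
      have hadmX : Adm p pw (normalizerIn T X) Z₀ := adm_congr hXN hadm
      have hNX : NFixG DX (Wsub W (normalizerIn T X)) Z₀ := by
        have hW : Wsub W (normalizerIn T X) = Wsub W T := congrArg (Wsub W) hXN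
        rw [hW]
        exact nfix_mono hXN DX D (fun P φ h => hom_of_normalizerSystem D DX hDX h) hN
      have hlt : Nat.card ↥(normalizerIn T X) - Nat.card X < m := by
        have h1 : Nat.card V ≤ Nat.card R := Subgroup.card_le_of_le hVR
        have h2 : Nat.card X ≤ Nat.card T := Subgroup.card_le_of_le hXT
        omega
      have hfix := ih _ hlt Ω (normalizerIn T X) hTXp IH' DX hDXsat hfreeX X hXn hX0 rfl Z₀
        hadmX hNX
      have hZN : Z ≤ normalizerIn T X := by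
        rw [hXN]
        exact (D.le_of_mem hψ).1
      have hψDX : ψ ∈ DX.Hom Z := by
        rw [hDX Z]
        exact mem_normalizerHom_of_map_eq D hXZ hZN hψ hψX
      exact hfix Z ψ hψDX z hz
    by_cases hcen : centralizerIn T R ≤ R
    · -- the constrained case
      have hRc : D.IsCentric R := by
        refine ⟨hRT, fun Q hQ => ?_⟩
        have hQR : Q ≤ R := by
          obtain ⟨φ, hφ, hr⟩ := hQ
          rw [← hr]
          rintro _ ⟨x, rfl⟩
          exact hsc.2 R le_rfl φ hφ x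
        have hcard := card_eq_of_isConj D hQ
        have hQeq : Q = R := Subgroup.eq_of_le_of_card_ge hQR hcard.le
        rw [hQeq]
        exact hcen
      exact fixG_of_constrained W hW2 hLH hT D hD hfree ⟨hD, R, hRn, hRc⟩ hadm hN
    · -- the non-constrained case
      have hsp := spade W hW1 hW2 hT D hD hfree hRn hR0 IH hadm hX
      intro P φ hφ y hy
      obtain ⟨hPT, hφT⟩ := D.le_of_mem hφ
      have hyT : (y : Ω) ∈ T := hPT y.2
      have hyZ : (y : Ω) ∈ T ⊓ Subgroup.centralizer (T : Set Ω) := hadm.1 hy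
      have hyC : (y : Ω) ∈ centralizerIn T R := by
        have h2 : (y : Ω) ∈ Subgroup.centralizer (R : Set Ω) :=
          Subgroup.centralizer_le (SetLike.coe_subset_coe.mpr hRT) hyZ.2
        exact ⟨hyT, h2⟩
      obtain ⟨ψ, hψ, hψext, hψR⟩ := hRn.2 P φ hφ
      obtain ⟨Y, hYdef⟩ : ∃ Y, Y = Subgroup.zpowers (y : Ω) ⊔ R := ⟨_, rfl⟩
      have hyY : (y : Ω) ∈ Y := by
        rw [hYdef]
        exact Subgroup.mem_sup_left (Subgroup.mem_zpowers _)
      have hRY : R ≤ Y := by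
        rw [hYdef]
        exact le_sup_right
      have hYPR : Y ≤ P ⊔ R := by
        rw [hYdef]
        exact _root_.sup_le_sup_right (Subgroup.zpowers_le.mpr y.2) R
      have hPRT : P ⊔ R ≤ T := _root_.sup_le hPT hRT
      have hYT : Y ≤ T := hYPR.trans hPRT
      haveI : Finite Y := finite_of_le hYT
      have hr₀ : (y : Ω)⁻¹ * φ y ∈ R := hsp P φ hφ y hy
      -- `ψ` on `Y`
      obtain ⟨ψY, hψYdef⟩ : ∃ ψY : ↥Y →* Ω, ψY = ψ.comp (Subgroup.inclusion hYPR) := ⟨_, rfl⟩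
      have hψY : ψY ∈ D.Hom Y := by
        rw [hψYdef]
        exact restrict_mem D hψ hYPR
      have hψYy : ψY ⟨y, hyY⟩ = φ y := by
        rw [hψYdef, ← hψext y]
        rfl
      have hψYR : ∀ (r : Ω) (hr : r ∈ R), ψY ⟨r, hRY hr⟩ ∈ R := by
        intro r hr
        rw [hψYdef]
        exact hψR.le ⟨⟨r, (le_sup_right : R ≤ P ⊔ R) hr⟩, Subgroup.mem_subgroupOf.mpr hr, rfl⟩
      have hφyY : φ y ∈ Y := by
        have e : φ y = (y : Ω) * ((y : Ω)⁻¹ * φ y) := by group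
        rw [e]
        exact Y.mul_mem hyY (hRY hr₀)
      have hψYmem : ∀ x : ↥Y, ψY x ∈ Y := by
        intro x
        refine Subgroup.mem_comap.mp (top_of_gen hYdef (Y.comap ψY) (fun h => ?_)
          (fun r hr h => ?_) x)
        · rw [Subgroup.mem_comap, hψYy]
          exact hφyY
        · rw [Subgroup.mem_comap]
          exact hRY (hψYR r hr)
      have hψYr : ψY.range = Y := by
        apply Subgroup.eq_of_le_of_card_ge
        · rintro _ ⟨x, rfl⟩
          exact hψYmem x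
        · exact (Nat.card_congr (MonoidHom.ofInjective (D.injective_of_mem hψY)).toEquiv).le
      obtain ⟨a₁, ha₁, ha₁e⟩ := exists_aut_of_hom D hψY hψYr
      -- the extension of `ψ|R` to `R C_T(R)`
      have hRfn : D.IsFullyNormalized R := fullyNormalized_of_normalizerIn_eq D hRT hNR
      have hRrec := receptive_of_fullyCentralized hT D hD
        (fullyCentralized_of_fullyNormalized hT D hD hRfn)
      have hRPR : R ≤ P ⊔ R := le_sup_right
      obtain ⟨ψR, hψRdef⟩ : ∃ ψR : ↥R →* Ω, ψR = ψ.comp (Subgroup.inclusion hRPR) := ⟨_, rfl⟩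
      have hψRhom : ψR ∈ D.Hom R := by
        rw [hψRdef]
        exact restrict_mem D hψ hRPR
      have hψRr : ψR.range = R := by
        rw [hψRdef, range_restrict_eq_map hRPR ψ]
        exact hψR
      obtain ⟨βt, hβt, hβtext⟩ := hRrec.2 R ψR hψRhom hψRr
      obtain ⟨X₁, hX₁def⟩ : ∃ X₁, X₁ = R ⊔ centralizerIn T R := ⟨_, rfl⟩
      have hRX₁ : R ≤ X₁ := by
        rw [hX₁def]
        exact le_sup_left
      have hCX₁ : centralizerIn T R ≤ X₁ := by
        rw [hX₁def]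
        exact le_sup_right
      have hX₁T : X₁ ≤ T := by
        rw [hX₁def]
        exact _root_.sup_le hRT (centralizerIn_le T R)
      haveI : Finite X₁ := finite_of_le hX₁T
      have hRext : R ≤ extender T R ψR :=
        le_extender hRT ψR (fun x => (D.le_of_mem hψRhom).2 x)
      have hX₁ext : X₁ ≤ extender T R ψR := by
        rw [hX₁def]
        exact _root_.sup_le hRext (centralizerIn_le_extender R ψR)
      obtain ⟨β, hβdef⟩ : ∃ β : ↥X₁ →* Ω, β = βt.comp (Subgroup.inclusion hX₁ext) := ⟨_, rfl⟩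
      have hβ : β ∈ D.Hom X₁ := by
        rw [hβdef]
        exact restrict_mem D hβt hX₁ext
      have hβR : ∀ (r : Ω) (hr : r ∈ R), β ⟨r, hRX₁ hr⟩ = ψR ⟨r, hr⟩ := by
        intro r hr
        rw [hβdef]
        exact hβtext r hr (hX₁ext (hRX₁ hr))
      have hβC : ∀ (c' : Ω) (hc : c' ∈ centralizerIn T R),
          β ⟨c', hCX₁ hc⟩ ∈ centralizerIn T R := by
        intro c' hc
        rw [hβdef]
        exact extension_centralizer_mem D hψRhom hψRr hβt hβtext c' hc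
      have hψRmem : ∀ r : ↥R, ψR r ∈ R := fun r => hψRr.le ⟨r, rfl⟩
      have hβmem : ∀ x : ↥X₁, β x ∈ X₁ := by
        intro x
        refine Subgroup.mem_comap.mp (top_of_sup hX₁def (X₁.comap β) (fun r hr h => ?_)
          (fun c' hc h => ?_) x)
        · rw [Subgroup.mem_comap, hβR r hr]
          exact hRX₁ (hψRmem ⟨r, hr⟩)
        · rw [Subgroup.mem_comap]
          exact hCX₁ (hβC c' hc)
      have hTnormR : ∀ t ∈ T, t ∈ Subgroup.normalizer (R : Set Ω) := fun t ht => by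
        have h1 : t ∈ normalizerIn T R := by
          rw [hNR]
          exact ht
        exact h1.2
      have hCnorm : ∀ t ∈ T, ∀ x ∈ centralizerIn T R, t * x * t⁻¹ ∈ centralizerIn T R := by
        intro t ht x hx
        have h1 : t * x * t⁻¹ ∈ T := T.mul_mem (T.mul_mem ht hx.1) (T.inv_mem ht)
        have h2 : t * x * t⁻¹ ∈ Subgroup.centralizer (R : Set Ω) :=
          conj_mem_centralizer (hTnormR t ht) hx.2
        exact ⟨h1, h2⟩
      have hX₁norm : ∀ t ∈ T, ∀ x ∈ X₁, t * x * t⁻¹ ∈ X₁ := by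
        intro t ht x hx
        rw [hX₁def] at hx ⊢
        exact conj_mem_sup (hRnorm t ht) (hCnorm t ht) x hx
      have hcardX₁ : Nat.card R < Nat.card X₁ := by
        by_contra hcon
        push Not at hcon
        have heq := Subgroup.eq_of_le_of_card_ge hRX₁ hcon
        exact hcen (hCX₁.trans heq.ge)
      have hβX₁ : (X₁.subgroupOf X₁).map β = X₁ :=
        map_eq_of_forall_mem β (D.injective_of_mem hβ) le_rfl (fun z _ => hβmem z)
      have hβfix := hX X₁ hRX₁ hX₁T hcardX₁ hX₁norm X₁ β hβ le_rfl hβX₁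
      have hyX₁ : (y : Ω) ∈ X₁ := hCX₁ hyC
      have hβy : β ⟨y, hyX₁⟩ = y := hβfix ⟨y, hyX₁⟩ hy
      -- `β` on `Y`
      have hYX₁ : Y ≤ X₁ := by
        rw [hYdef]
        exact _root_.sup_le (Subgroup.zpowers_le.mpr hyX₁) hRX₁
      obtain ⟨βY, hβYdef⟩ : ∃ βY : ↥Y →* Ω, βY = β.comp (Subgroup.inclusion hYX₁) := ⟨_, rfl⟩
      have hβY : βY ∈ D.Hom Y := by
        rw [hβYdef]
        exact restrict_mem D hβ hYX₁
      have hβYy : βY ⟨y, hyY⟩ = y := by
        rw [hβYdef]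
        exact hβy
      have hβYR : ∀ (r : Ω) (hr : r ∈ R), βY ⟨r, hRY hr⟩ = ψY ⟨r, hRY hr⟩ := by
        intro r hr
        rw [hβYdef, hψYdef]
        have h1 := hβR r hr
        rw [hψRdef] at h1
        exact h1
      have hβYmem : ∀ x : ↥Y, βY x ∈ Y := by
        intro x
        refine Subgroup.mem_comap.mp (top_of_gen hYdef (Y.comap βY) (fun h => ?_)
          (fun r hr h => ?_) x)
        · rw [Subgroup.mem_comap, hβYy]
          exact hyY
        · rw [Subgroup.mem_comap, hβYR r hr]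
          exact hRY (hψYR r hr)
      have hβYr : βY.range = Y := by
        apply Subgroup.eq_of_le_of_card_ge
        · rintro _ ⟨x, rfl⟩
          exact hβYmem x
        · exact (Nat.card_congr (MonoidHom.ofInjective (D.injective_of_mem hβY)).toEquiv).le
      obtain ⟨a₂, ha₂, ha₂e⟩ := exists_aut_of_hom D hβY hβYr
      -- the automorphism `a`
      obtain ⟨a, hadef⟩ : ∃ a : MulAut ↥Y, a = a₁ * a₂⁻¹ := ⟨_, rfl⟩
      have ha : a ∈ D.autGroup Y := by
        rw [hadef]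
        exact Subgroup.mul_mem _ ha₁ (Subgroup.inv_mem _ ha₂)
      have ha₁y : a₁ ⟨y, hyY⟩ = ⟨φ y, hφyY⟩ := Subtype.ext ((ha₁e _).trans hψYy)
      have ha₂y : a₂ ⟨y, hyY⟩ = ⟨y, hyY⟩ := Subtype.ext ((ha₂e _).trans hβYy)
      have ha₁₂R : ∀ (r : Ω) (hr : r ∈ R), a₁ ⟨r, hRY hr⟩ = a₂ ⟨r, hRY hr⟩ := by
        intro r hr
        apply Subtype.ext
        rw [ha₁e, ha₂e, hβYR r hr]
      have hay : a ⟨y, hyY⟩ = ⟨φ y, hφyY⟩ := by
        rw [hadef, MulAut.mul_apply]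
        have h1 : a₂⁻¹ ⟨y, hyY⟩ = ⟨y, hyY⟩ := (MulEquiv.symm_apply_eq a₂).mpr ha₂y.symm
        rw [h1, ha₁y]
      have haR : ∀ x : ↥Y, (x : Ω) ∈ R → a x = x := by
        intro x hx
        obtain ⟨r', hr'⟩ := hψRr.ge hx
        have hr'R : (r' : Ω) ∈ R := r'.2
        have h2 : a₂ ⟨r', hRY hr'R⟩ = x := by
          apply Subtype.ext
          rw [ha₂e, hβYR (r' : Ω) hr'R, hψYdef]
          rw [hψRdef] at hr'
          exact hr'
        rw [hadef, MulAut.mul_apply]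
        have h3 : a₂⁻¹ x = ⟨r', hRY hr'R⟩ := (MulEquiv.symm_apply_eq a₂).mpr h2.symm
        rw [h3, ha₁₂R (r' : Ω) hr'R, h2]
      obtain ⟨r₀, hr₀def⟩ : ∃ r₀ : Ω, r₀ = (y : Ω)⁻¹ * φ y := ⟨_, rfl⟩
      have hr₀R : r₀ ∈ R := by
        rw [hr₀def]
        exact hr₀
      have hφy : φ y = (y : Ω) * r₀ := by
        rw [hr₀def]
        group
      have hay' : a ⟨y, hyY⟩ = ⟨y, hyY⟩ * ⟨r₀, hRY hr₀R⟩ := by
        rw [hay]
        exact Subtype.ext hφy
      have hpow : ∀ k : ℕ, (a ^ k) ⟨y, hyY⟩ = ⟨y, hyY⟩ * (⟨r₀, hRY hr₀R⟩ : ↥Y) ^ k := by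
        intro k
        induction k with
        | zero => simp
        | succ k ihk =>
          rw [pow_succ' a, MulAut.mul_apply, ihk, map_mul, map_pow, hay',
            haR ⟨r₀, hRY hr₀R⟩ hr₀R, pow_succ' (⟨r₀, hRY hr₀R⟩ : ↥Y), mul_assoc]
      obtain ⟨j, hj⟩ := (IsPGroup.iff_card).mp (isPGroup_of_le hT hRT)
      have hr₀pow : (⟨r₀, hRY hr₀R⟩ : ↥Y) ^ (p ^ j) = 1 := by
        apply Subtype.ext
        rw [Subgroup.coe_pow, Subgroup.coe_one, ← hj]
        have h1 : (⟨r₀, hr₀R⟩ : ↥R) ^ Nat.card R = 1 := pow_card_eq_one'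
        have h3 := congrArg Subtype.val h1
        rw [Subgroup.coe_pow] at h3
        exact h3
      have hapow : a ^ (p ^ j) = 1 := by
        apply MulEquiv.ext
        intro x
        refine (mem_fixSub _ _).mp (top_of_gen hYdef (fixSub (a ^ (p ^ j))) (fun h => ?_)
          (fun r hr h => ?_) x)
        · rw [mem_fixSub, hpow, hr₀pow, mul_one]
        · rw [mem_fixSub]
          exact pow_fix a haR _ ⟨r, h⟩ hr
      -- `Y` is fully normalized
      have hZPnorm : ∀ t ∈ T, ∀ x ∈ Subgroup.zpowers (y : Ω),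
          t * x * t⁻¹ ∈ Subgroup.zpowers (y : Ω) := by
        intro t ht x hx
        have hxT : x ∈ T ⊓ Subgroup.centralizer (T : Set Ω) := (Subgroup.zpowers_le.mpr hyZ) hx
        have h1 : t * x = x * t := Subgroup.mem_centralizer_iff.mp hxT.2 t ht
        have h2 : t * x * t⁻¹ = x := by rw [h1, mul_inv_cancel_right]
        rw [h2]
        exact hx
      have hYnorm : ∀ t ∈ T, ∀ x ∈ Y, t * x * t⁻¹ ∈ Y := by
        intro t ht x hx
        rw [hYdef] at hx ⊢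
        exact conj_mem_sup (hZPnorm t ht) (hRnorm t ht) x hx
      have hNY : normalizerIn T Y = T := normalizerIn_eq_of_forall hYnorm
      have hYfn : D.IsFullyNormalized Y := fullyNormalized_of_normalizerIn_eq D hYT hNY
      haveI : Finite (MulAut ↥Y) := Cfsg.Agent.Lib.Helper1.FStab.finite_mulAut_of_le hYT
      haveI : Finite ↥(D.autGroup Y) := inferInstance
      obtain ⟨-, R₀, hR₀⟩ := fullyAutomized_of_fullyNormalized hT D hD hYfn
      have haApow : (⟨a, ha⟩ : ↥(D.autGroup Y)) ^ (p ^ j) = 1 := by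
        apply Subtype.ext
        rw [Subgroup.coe_pow, Subgroup.coe_one]
        exact hapow
      have hzp : IsPGroup p ↥(Subgroup.zpowers (⟨a, ha⟩ : ↥(D.autGroup Y))) := by
        rintro ⟨g, hg⟩
        obtain ⟨i, rfl⟩ := Subgroup.mem_zpowers_iff.mp hg
        refine ⟨j, Subtype.ext ?_⟩
        rw [Subgroup.coe_pow, Subgroup.coe_one]
        show ((⟨a, ha⟩ : ↥(D.autGroup Y)) ^ i) ^ (p ^ j) = 1
        rw [← zpow_natCast, ← zpow_mul, mul_comm, zpow_mul, zpow_natCast, haApow, one_zpow]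
      obtain ⟨Q', hQ'⟩ := hzp.exists_le_sylow
      obtain ⟨g, hg⟩ := MulAction.exists_smul_eq ↥(D.autGroup Y) Q' R₀
      have hκ0 : MulAut.conj g • (⟨a, ha⟩ : ↥(D.autGroup Y)) ∈
          (R₀ : Subgroup ↥(D.autGroup Y)) := by
        rw [← hg, Sylow.smul_def, Sylow.pointwise_smul_def]
        exact Subgroup.smul_mem_pointwise_smul _ (MulAut.conj g) _
          (hQ' (Subgroup.mem_zpowers _))
      rw [hR₀, Subgroup.mem_subgroupOf] at hκ0
      obtain ⟨t, ht, hκt⟩ := (mem_autInducedBy_iff T Y _).mp hκ0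
      obtain ⟨γ, hγdef⟩ : ∃ γ : MulAut ↥Y, γ = (g : MulAut ↥Y) := ⟨_, rfl⟩
      have hγ : γ ∈ D.autGroup Y := by
        rw [hγdef]
        exact g.2
      have hκt' : ∀ x : ↥Y, ((γ (a (γ⁻¹ x)) : ↥Y) : Ω) = t * x * t⁻¹ := by
        intro x
        rw [hγdef]
        exact hκt x
      have hγhom := hom_of_mem_autGroup D hYT hγ
      have hρ : (y : Ω)⁻¹ * ((γ ⟨y, hyY⟩ : ↥Y) : Ω) ∈ R := hsp Y _ hγhom ⟨y, hyY⟩ hy
      obtain ⟨ρ, hρdef⟩ : ∃ ρ : ↥Y, ρ = (⟨y, hyY⟩ : ↥Y)⁻¹ * γ ⟨y, hyY⟩ := ⟨_, rfl⟩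
      have hρR : (ρ : Ω) ∈ R := by
        rw [hρdef]
        exact hρ
      have hγy : γ ⟨y, hyY⟩ = ⟨y, hyY⟩ * ρ := by
        rw [hρdef, mul_inv_cancel_left]
      have hγinv : γ⁻¹ ∈ D.autGroup Y := Subgroup.inv_mem _ hγ
      have hγinvhom := restrict_mem D (hom_of_mem_autGroup D hYT hγinv) hRY
      have hσρ : ((γ⁻¹ ρ : ↥Y) : Ω) ∈ R := hsc.2 R le_rfl _ hγinvhom ⟨ρ, hρR⟩
      have hκρ : γ (a (γ⁻¹ ρ)) = ρ := by
        rw [haR (γ⁻¹ ρ) hσρ]
        exact MulEquiv.apply_symm_apply γ ρ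
      have hκy : γ (a (γ⁻¹ ⟨y, hyY⟩)) = ⟨y, hyY⟩ := by
        apply Subtype.ext
        rw [hκt' ⟨y, hyY⟩]
        show t * (y : Ω) * t⁻¹ = y
        have h1 : t * (y : Ω) = y * t := Subgroup.mem_centralizer_iff.mp hyZ.2 t ht
        rw [h1, mul_inv_cancel_right]
      have hfinal : a ⟨y, hyY⟩ = ⟨y, hyY⟩ := by
        have h0 : γ (a (γ⁻¹ (⟨y, hyY⟩ * ρ))) = ⟨y, hyY⟩ * ρ := by
          rw [map_mul, map_mul, map_mul, hκy, hκρ]
        rw [← hγy] at h0
        have h2 : γ⁻¹ (γ ⟨y, hyY⟩) = ⟨y, hyY⟩ := MulEquiv.symm_apply_apply γ _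
        rw [h2] at h0
        exact γ.injective h0
      rw [hay] at hfinal
      exact congrArg Subtype.val hfinal

end Cfsg.Agent.Lib.Helper1.WC
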