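import Mathlib
import Cfsg.Agent.Lib.Helper1.WC2

set_option autoImplicit false
set_option linter.style.haveILetI false
set_option linter.unusedSectionVars false
set_option linter.unusedVariables false
set_option maxHeartbeats 1000000

/-! Control of weak closure of elements by positive characteristic functors, part 3:
the reduction by Alperin's fusion theorem and the main theorem. -/

namespace Cfsg.Agent.Lib.Helper1.WC

open Cfsg Cfsg.FusionSystem Cfsg.Agent.Lib.Helper9 Cfsg.Agent.Lib.Helper1.KN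
  Cfsg.Agent.Lib.Helper1.KL Cfsg.Agent.Lib.Helper1.QF Cfsg.Agent.Lib.Helper1.GF

universe u v

variable {p : ℕ} [Fact p.Prime] (W : ∀ (Q : Type u) [Group Q], Subgroup Q)

/-- the climbing claim: the normalizer systems of fully normalized subgroups with large
normalizers fix `Z₀` -/
theorem claimA
    (hW1 : ∀ (Q : Type u) [Group Q] [Finite Q], IsPGroup p Q → Nontrivial Q → W Q ≠ ⊥)
    (hW2 : ∀ (Q R : Type u) [Group Q] [Group R] [Finite Q], IsPGroup p Q →
      ∀ φ : Q ≃* R, (W Q).map φ.toMonoidHom = W R)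
    {pw c : Prop} {H : Type v} [Group H] (hLH : LH.{u, v} p W pw c H)
    {Ω : Type u} [Group Ω] {S : Subgroup Ω} [Finite S] (hS : IsPGroup p S) (F : FusionSystem S)
    (hF : F.IsSaturated p) (hfree : c ∨ F.IsSectionFree p H)
    (IH : WIH.{u, v} p W pw c H (Nat.card S)) {Z₀ : Subgroup Ω} (hadm : Adm p pw S Z₀)
    (hN : NFixG F (Wsub W S) Z₀) (E' : FusionSystem S)
    (hE'fix : ∀ (P : Subgroup Ω) (φ : P →* Ω), φ ∈ E'.Hom P → ∀ y : P, (y : Ω) ∈ Z₀ → φ y = y)
    (c₀ : ℕ) (hIH : ∀ P₁ : Subgroup Ω, P₁ ≤ S → c₀ < Nat.card P₁ → F.Hom P₁ ⊆ E'.Hom P₁) :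
    ∀ (d : ℕ) (V : Subgroup Ω), F.IsFullyNormalized V → V ≠ ⊥ →
      c₀ ≤ Nat.card (normalizerIn S V) → Nat.card S - Nat.card (normalizerIn S V) = d →
      ∀ NV : FusionSystem (normalizerIn S V), F.IsNormalizerSystem V NV → FixG NV Z₀ := by
  intro d
  induction d using Nat.strong_induction_on with
  | _ d ih =>
    intro V hVn hV0 hcV hd NV hNV
    have hVS : V ≤ S := hVn.1
    haveI hfinT : Finite (normalizerIn S V) := finite_normalizerIn (S := S) V
    have hT'S : normalizerIn S V ≤ S := normalizerIn_le S V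
    have hVT' : V ≤ normalizerIn S V := self_le_normalizerIn' hVS
    have hTp : IsPGroup p ↥(normalizerIn S V) := isPGroup_of_le hS hT'S
    have hNVsat := Cfsg.Agent.S5098.result p hS F hF V hVn NV hNV
    have hNVfree : c ∨ NV.IsSectionFree p H :=
      hfree.imp id (fun h => normalizer_sectionFree p hS F hF h V hVn NV hNV)
    have hadmV : Adm p pw (normalizerIn S V) Z₀ :=
      adm_sub hT'S (center_le_normalizerIn hVS) hadm
    have hVnNV : NV.IsNormal V := normal_self_of_isNormalizerSystem F hVS NV hNV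
    by_cases hTS : normalizerIn S V = S
    · -- Lemma A
      have hcardeq : Nat.card ↥(normalizerIn S V) = Nat.card S := by rw [hTS]
      have IH' : WIH.{u, v} p W pw c H (Nat.card ↥(normalizerIn S V)) := by
        rw [hcardeq]
        exact IH
      have hW : Wsub W (normalizerIn S V) = Wsub W S := congrArg (Wsub W) hTS
      have hN' : NFixG NV (Wsub W (normalizerIn S V)) Z₀ := by
        rw [hW]
        exact nfix_mono hTS NV F (fun P φ h => hom_of_normalizerSystem F NV hNV h) hN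
      exact lemmaA W hW1 hW2 hLH _ Ω (normalizerIn S V) hTp IH' NV hNVsat hNVfree V hVnNV hV0
        rfl Z₀ hadmV hN'
    · -- induction
      have hT'lt : normalizerIn S V < S := lt_of_le_of_ne hT'S hTS
      have hcard : Nat.card ↥(normalizerIn S V) < Nat.card S := card_lt_of_lt' hT'lt
      apply IH Ω (normalizerIn S V) hcard hTp NV hNVsat hNVfree Z₀ hadmV
      intro P φ hφ y hy
      obtain ⟨V₂, hV₂def⟩ : ∃ V₂, V₂ = Wsub W (normalizerIn S V) := ⟨_, rfl⟩
      rw [← hV₂def] at hφ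
      obtain ⟨hφNV, hPN, hφN, ψ, hψNV, hψext, hψW⟩ := hφ
      have hψ' := hψNV
      rw [hNV (P ⊔ V₂)] at hψ'
      have hψF : ψ ∈ F.Hom (P ⊔ V₂) := hψ'.1
      have hB₂N : P ⊔ V₂ ≤ normalizerIn S V := hψ'.2.1
      have hψT' : ∀ x, ψ x ∈ normalizerIn S V := hψ'.2.2.1
      have hV₂1 : V₂ ≠ ⊥ := by
        rw [hV₂def]
        exact Wsub_ne_bot W hW1 hS hT'S (fun h => hV0 (le_bot_iff.mp (hVT'.trans h.le)))
      have hV₂T' : V₂ ≤ normalizerIn S V := by
        rw [hV₂def]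
        exact Wsub_le W _
      have hV₂S : V₂ ≤ S := hV₂T'.trans hT'S
      have hNN : normalizerIn S (normalizerIn S V) ≤ normalizerIn S V₂ := by
        rw [hV₂def]
        exact normalizerIn_le_of_char (Wsub W) (fun T' => Wsub_le W T')
          (fun T₁ T₂ φ h1 h2 h3 => Wsub_map W hW2 hS T₁ T₂ φ h1 h2 h3) hT'S
      obtain ⟨g, hg, hgT⟩ := exists_mem_normalizerIn_not_mem hS hT'lt
      have hlt1 : Nat.card (normalizerIn S V) < Nat.card (normalizerIn S (normalizerIn S V)) := by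
        haveI := finite_normalizerIn (S := S) (normalizerIn S V)
        apply card_lt_of_lt'
        exact lt_of_le_of_ne (self_le_normalizerIn' hT'S) (fun h => hgT (h ▸ hg))
      haveI := finite_normalizerIn (S := S) V₂
      have hle2 : Nat.card (normalizerIn S (normalizerIn S V)) ≤ Nat.card (normalizerIn S V₂) :=
        Subgroup.card_le_of_le hNN
      obtain ⟨V₃, hV₂₃, hV₃n⟩ := exists_isConj_fullyNormalized F hV₂S
      have hV₃a := fullyAutomized_of_fullyNormalized hS F hF hV₃n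
      have hV₃r := receptive_of_fullyCentralized hS F hF
        (fullyCentralized_of_fullyNormalized hS F hF hV₃n)
      obtain ⟨χ, hχ, hχN, hχV⟩ := exists_normalizer_hom hS F V₃ V₂ hV₃a hV₃r hV₂₃
      have hχE : χ ∈ E'.Hom (normalizerIn S V₂) :=
        hIH _ (normalizerIn_le S V₂) (by omega) hχ
      have hT'NV₂ : normalizerIn S V ≤ normalizerIn S V₂ :=
        (self_le_normalizerIn' hT'S).trans hNN
      have hB₂N₂ : P ⊔ V₂ ≤ normalizerIn S V₂ := hB₂N.trans hT'NV₂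
      have hψval : ∀ x, ψ x ∈ normalizerIn S V₂ := fun x => hT'NV₂ (hψT' x)
      obtain ⟨B₃, hB₃⟩ : ∃ B₃, ((P ⊔ V₂).subgroupOf (normalizerIn S V₂)).map χ = B₃ := ⟨_, rfl⟩
      obtain ⟨ω₃, hω₃F, hω₃⟩ := exists_transport_hom F χ hχ hB₂N₂ hB₃ ψ hψF hψval
      have hV₃B₃ : V₃ ≤ B₃ := by
        intro z hz
        obtain ⟨x, hx, rfl⟩ := hχV.ge hz
        have hx' : (x : Ω) ∈ V₂ := hx
        have hx'' : x ∈ (P ⊔ V₂).subgroupOf (normalizerIn S V₂) := by
          rw [Subgroup.mem_subgroupOf]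
          exact (le_sup_right : V₂ ≤ P ⊔ V₂) hx'
        exact hB₃.le ⟨x, hx'', rfl⟩
      have hB₃N : B₃ ≤ normalizerIn S V₃ := by
        intro z hz
        obtain ⟨x, hx, rfl⟩ := hB₃.ge hz
        exact hχN x
      haveI : Finite V₃ := finite_of_le hV₃n.1
      have hω₃V : (V₃.subgroupOf B₃).map ω₃ = V₃ := by
        apply map_eq_of_forall_mem ω₃ (F.injective_of_mem hω₃F) hV₃B₃
        intro z hz
        obtain ⟨v, hv, hvz⟩ := hχV.ge hz
        have hv' : (v : Ω) ∈ V₂ := hv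
        have hvB : (v : Ω) ∈ P ⊔ V₂ := (le_sup_right : V₂ ≤ P ⊔ V₂) hv'
        have hmem : χ ⟨((⟨(v : Ω), hvB⟩ : ↥(P ⊔ V₂)) : Ω), hB₂N₂ hvB⟩ ∈ B₃ := by
          have : χ ⟨((⟨(v : Ω), hvB⟩ : ↥(P ⊔ V₂)) : Ω), hB₂N₂ hvB⟩ = χ v := rfl
          rw [this, hvz]
          exact z.2
        have hz' : z = ⟨χ ⟨((⟨(v : Ω), hvB⟩ : ↥(P ⊔ V₂)) : Ω), hB₂N₂ hvB⟩, hmem⟩ :=
          Subtype.ext hvz.symm
        rw [hz', hω₃ ⟨(v : Ω), hvB⟩ hmem]
        have hψv : ψ ⟨(v : Ω), hvB⟩ ∈ V₂ := by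
          have h5 : (⟨(v : Ω), hvB⟩ : ↥(P ⊔ V₂)) ∈ V₂.subgroupOf (P ⊔ V₂) := by
            rw [Subgroup.mem_subgroupOf]
            exact hv'
          exact hψW.le ⟨_, h5, rfl⟩
        have h6 : (⟨ψ ⟨(v : Ω), hvB⟩, hψval _⟩ : ↥(normalizerIn S V₂)) ∈
            V₂.subgroupOf (normalizerIn S V₂) := by
          rw [Subgroup.mem_subgroupOf]
          exact hψv
        exact hχV.le ⟨_, h6, rfl⟩
      have hV₃1 : V₃ ≠ ⊥ := by
        intro h
        apply hV₂1
        apply Subgroup.eq_bot_of_card_eq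
        rw [card_eq_of_isConj F hV₂₃, h]
        exact Subgroup.card_bot
      have hle3 : Nat.card (normalizerIn S V₂) ≤ Nat.card (normalizerIn S V₃) :=
        hV₃n.2 V₂ (isConj_symm F hV₂₃)
      have hle4 : Nat.card (normalizerIn S V₃) ≤ Nat.card S :=
        Subgroup.card_le_of_le (normalizerIn_le S V₃)
      have hle5 : Nat.card (normalizerIn S V) ≤ Nat.card S :=
        Subgroup.card_le_of_le hT'S
      obtain ⟨NV₃, hNV₃⟩ := Cfsg.Agent.S5096.result F V₃ hV₃n.1
      have hfix₃ : FixG NV₃ Z₀ :=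
        ih (Nat.card S - Nat.card (normalizerIn S V₃)) (by omega) V₃ hV₃n hV₃1 (by omega) rfl
          NV₃ hNV₃
      have hω₃N : ω₃ ∈ NV₃.Hom B₃ := by
        rw [hNV₃ B₃]
        exact mem_normalizerHom_of_map_eq F hV₃B₃ hB₃N hω₃F hω₃V
      have hyB : (y : Ω) ∈ P ⊔ V₂ := (le_sup_left : P ≤ P ⊔ V₂) y.2
      have hyN₂ : (y : Ω) ∈ normalizerIn S V₂ := hB₂N₂ hyB
      have hχy : χ ⟨y, hyN₂⟩ = y := hE'fix _ χ hχE ⟨y, hyN₂⟩ hy
      have hmem : χ ⟨((⟨(y : Ω), hyB⟩ : ↥(P ⊔ V₂)) : Ω), hB₂N₂ hyB⟩ ∈ B₃ := by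
        have hx : (⟨(y : Ω), hyN₂⟩ : ↥(normalizerIn S V₂)) ∈
            (P ⊔ V₂).subgroupOf (normalizerIn S V₂) := by
          rw [Subgroup.mem_subgroupOf]
          exact hyB
        exact hB₃.le ⟨_, hx, rfl⟩
      have h1 := hω₃ ⟨(y : Ω), hyB⟩ hmem
      have hmemZ : χ ⟨(y : Ω), hyN₂⟩ ∈ Z₀ := by
        rw [hχy]
        exact hy
      have h2 := hfix₃ B₃ ω₃ hω₃N ⟨χ ⟨(y : Ω), hyN₂⟩, hmem⟩ hmemZ
      have h3 : χ ⟨ψ ⟨(y : Ω), hyB⟩, hψval _⟩ = χ ⟨(y : Ω), hyN₂⟩ := h1.symm.trans h2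
      have h4 := F.injective_of_mem hχ h3
      have h5 : ψ ⟨(y : Ω), hyB⟩ = y := congrArg Subtype.val h4
      rw [← hψext y]
      exact h5

/-- the inductive step of the main theorem -/
theorem wc_step
    (hW1 : ∀ (Q : Type u) [Group Q] [Finite Q], IsPGroup p Q → Nontrivial Q → W Q ≠ ⊥)
    (hW2 : ∀ (Q R : Type u) [Group Q] [Group R] [Finite Q], IsPGroup p Q →
      ∀ φ : Q ≃* R, (W Q).map φ.toMonoidHom = W R)
    {pw c : Prop} {H : Type v} [Group H] (hLH : LH.{u, v} p W pw c H)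
    {Ω : Type u} [Group Ω] {S : Subgroup Ω} [Finite S] (hS : IsPGroup p S) (F : FusionSystem S)
    (hF : F.IsSaturated p) (hfree : c ∨ F.IsSectionFree p H)
    (IH : WIH.{u, v} p W pw c H (Nat.card S)) {Z₀ : Subgroup Ω} (hadm : Adm p pw S Z₀)
    (hN : NFixG F (Wsub W S) Z₀) : FixG F Z₀ := by
  have hZ₀S : Z₀ ≤ S := hadm.1.trans inf_le_left
  have hCS : centralizerIn S Z₀ = S := by
    apply le_antisymm (centralizerIn_le S Z₀)
    intro s hs
    have h2 : s ∈ Subgroup.centralizer (Z₀ : Set Ω) := by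
      refine Subgroup.mem_centralizer_iff.mpr (fun z hz => ?_)
      exact (Subgroup.mem_centralizer_iff.mp (hadm.1 hz).2 s hs).symm
    exact ⟨hs, h2⟩
  obtain ⟨E₀, hE₀⟩ := Cfsg.Agent.S5097.result F Z₀ hZ₀S
  obtain ⟨E', hE'E₀, -, -⟩ := exists_transport hCS E₀ p
  have hE' : ∀ P, E'.Hom P = F.centralizerHom Z₀ P := fun P => (hE'E₀ P).trans (hE₀ P)
  have hE'fix : ∀ (P : Subgroup Ω) (φ : P →* Ω), φ ∈ E'.Hom P →
      ∀ y : P, (y : Ω) ∈ Z₀ → φ y = y := by
    intro P φ hφ y hy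
    rw [hE' P] at hφ
    obtain ⟨-, -, -, ψ, -, hψext, hψZ⟩ := hφ
    have h1 := hψext y
    have h2 := hψZ ⟨(y : Ω), hy⟩
    have h3 : (Subgroup.inclusion le_sup_left y : (P ⊔ Z₀ : Subgroup Ω)) =
        Subgroup.inclusion le_sup_right (⟨(y : Ω), hy⟩ : Z₀) := Subtype.ext rfl
    rw [← h1, h3, h2]
  have hFE : ∀ P, F.Hom P ⊆ E'.Hom P := by
    intro P φ hφ
    have hPS := hom_le F hφ
    refine alperin_ind p hS F hF E' ?_ _ P hPS rfl hφ
    intro Q hQn hIH
    show Subgroup.closure _ ≤ Subgroup.closure _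
    apply Subgroup.closure_mono
    intro α hα
    have hα' : Q.subtype.comp α.toMonoidHom ∈ F.Hom Q := hα
    show Q.subtype.comp α.toMonoidHom ∈ E'.Hom Q
    by_cases hQ1 : Q = ⊥
    · subst hQ1
      have h1 : conjHom ⊥ 1 ∈ E'.Hom ⊥ := E'.conj_mem bot_le S.one_mem
      have h2 : (⊥ : Subgroup Ω).subtype.comp α.toMonoidHom = conjHom ⊥ 1 := by
        ext x
        have hx : x = 1 := Subsingleton.elim _ _
        rw [hx]
        simp
      rw [h2]
      exact h1
    · have hQS := hQn.1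
      haveI : Finite Q := finite_of_le hQS
      haveI := finite_normalizerIn (S := S) Q
      have hcQ : Nat.card Q ≤ Nat.card (normalizerIn S Q) :=
        Subgroup.card_le_of_le (self_le_normalizerIn' hQS)
      obtain ⟨NQ, hNQ⟩ := Cfsg.Agent.S5096.result F Q hQS
      have hfixQ : FixG NQ Z₀ :=
        claimA W hW1 hW2 hLH hS F hF hfree IH hadm hN E' hE'fix (Nat.card Q) hIH _ Q hQn hQ1
          hcQ rfl NQ hNQ
      have hNQsat := Cfsg.Agent.S5098.result p hS F hF Q hQn NQ hNQ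
      have hTp : IsPGroup p ↥(normalizerIn S Q) := isPGroup_of_le hS (normalizerIn_le S Q)
      have hZ₀N : Z₀ ≤ normalizerIn S Q := hadm.1.trans (center_le_normalizerIn hQS)
      have hcen : NQ.IsCentral Z₀ := isCentral_of_fixG hTp NQ hNQsat hZ₀N hfixQ
      have hr : (Q.subgroupOf Q).map (Q.subtype.comp α.toMonoidHom) = Q :=
        map_eq_of_forall_mem _ (F.injective_of_mem hα') le_rfl (fun y _ => (α y).2)
      have hαN : Q.subtype.comp α.toMonoidHom ∈ NQ.Hom Q := by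
        rw [hNQ Q]
        exact mem_normalizerHom_of_map_eq F le_rfl (self_le_normalizerIn' hQS) hα' hr
      obtain ⟨ψ, hψ, hψext, hψZ⟩ := hcen.2 Q _ hαN
      rw [hE' Q]
      have hQC : Q ≤ centralizerIn S Z₀ := by
        rw [hCS]
        exact hQS
      refine ⟨hα', hQC, fun x => ?_, ψ, hom_of_normalizerSystem F NQ hNQ hψ, hψext, hψZ⟩
      rw [hCS]
      exact (F.le_of_mem hα').2 x
  intro P φ hφ y hy
  exact hE'fix P φ (hFE P hφ) y hy

theorem wc_all
    (hW1 : ∀ (Q : Type u) [Group Q] [Finite Q], IsPGroup p Q → Nontrivial Q → W Q ≠ ⊥)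
    (hW2 : ∀ (Q R : Type u) [Group Q] [Group R] [Finite Q], IsPGroup p Q →
      ∀ φ : Q ≃* R, (W Q).map φ.toMonoidHom = W R)
    {pw c : Prop} {H : Type v} [Group H] (hLH : LH.{u, v} p W pw c H) (n : ℕ) :
    WIH.{u, v} p W pw c H n := by
  induction n with
  | zero =>
    intro Ω' _ S' _ h
    exact absurd h (Nat.not_lt_zero _)
  | succ n ih =>
    intro Ω' _ S' _ hcard hS' F' hF' hfree' Z₀ hadm hN
    by_cases hlt : Nat.card S' < n
    · exact ih Ω' S' hlt hS' F' hF' hfree' Z₀ hadm hN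
    · have hn : Nat.card S' = n := by omega
      subst hn
      exact wc_step W hW1 hW2 hLH hS' F' hF' hfree' ih hadm hN

/-- **Main theorem**: if the maps of `N_F(W(S))` fix the elements of the admissible subgroup
`Z₀` of `Z(S)`, then so do all maps of `F`. -/
theorem wc_main
    (hW1 : ∀ (Q : Type u) [Group Q] [Finite Q], IsPGroup p Q → Nontrivial Q → W Q ≠ ⊥)
    (hW2 : ∀ (Q R : Type u) [Group Q] [Group R] [Finite Q], IsPGroup p Q →
      ∀ φ : Q ≃* R, (W Q).map φ.toMonoidHom = W R)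
    {pw c : Prop} {H : Type v} [Group H] (hLH : LH.{u, v} p W pw c H)
    {Ω : Type u} [Group Ω] {S : Subgroup Ω} [Finite S] (hS : IsPGroup p S) (F : FusionSystem S)
    (hF : F.IsSaturated p) (hfree : c ∨ F.IsSectionFree p H) {Z₀ : Subgroup Ω}
    (hadm : Adm p pw S Z₀) (hN : NFixG F (Wsub W S) Z₀) : FixG F Z₀ :=
  wc_step W hW1 hW2 hLH hS F hF hfree (wc_all W hW1 hW2 hLH _) hadm hN

/-- the centre of `F` lies in the centre of the normalizer system of a subgroup normal in `S` -/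
theorem center_le_center_normalizer {Ω : Type*} [Group Ω] {S : Subgroup Ω} [Finite S]
    (hS : IsPGroup p S) (F : FusionSystem S) (hF : F.IsSaturated p) {X : Subgroup Ω}
    (hXS : X ≤ S) (hNX : normalizerIn S X = S) (N : FusionSystem (normalizerIn S X))
    (hN : F.IsNormalizerSystem X N) : F.center ≤ N.center := by
  haveI : Finite ↥(normalizerIn S X) := finite_normalizerIn (S := S) X
  have hTp : IsPGroup p ↥(normalizerIn S X) := isPGroup_of_le hS (normalizerIn_le S X)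
  have hXfn := fullyNormalized_of_normalizerIn_eq F hXS hNX
  have hNsat := Cfsg.Agent.S5098.result p hS F hF X hXfn N hN
  have hc := isCentral_center F
  have hfix : FixG N F.center := fun P φ hφ y hy =>
    map_eq_of_isCentral F hc (hom_of_normalizerSystem F N hN hφ) y hy
  have hle : F.center ≤ normalizerIn S X := by
    rw [hNX]
    exact hc.1
  exact le_sSup (isCentral_of_fixG hTp N hNsat hle hfix)

/-- a subgroup of the centre of `N_F(W(S))` lies in the centre of `F` -/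
theorem le_center_of_le_center_normalizer
    (hW1 : ∀ (Q : Type u) [Group Q] [Finite Q], IsPGroup p Q → Nontrivial Q → W Q ≠ ⊥)
    (hW2 : ∀ (Q R : Type u) [Group Q] [Group R] [Finite Q], IsPGroup p Q →
      ∀ φ : Q ≃* R, (W Q).map φ.toMonoidHom = W R)
    {pw c : Prop} {H : Type v} [Group H] (hLH : LH.{u, v} p W pw c H)
    {Ω : Type u} [Group Ω] {S : Subgroup Ω} [Finite S] (hS : IsPGroup p S) (F : FusionSystem S)
    (hF : F.IsSaturated p) (hfree : c ∨ F.IsSectionFree p H)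
    (N : FusionSystem (normalizerIn S (Wsub W S))) (hN : F.IsNormalizerSystem (Wsub W S) N)
    {Z₀ : Subgroup Ω} (hZ₀ : Z₀ ≤ N.center)
    (hpw : pw → ∀ z ∈ Z₀, ∃ y ∈ S ⊓ Subgroup.centralizer (S : Set Ω), y ^ p = z) :
    Z₀ ≤ F.center := by
  have hNS : normalizerIn S (Wsub W S) = S :=
    normalizerIn_W_top (Wsub W) (fun T' => Wsub_le W T')
      (fun T₁ T₂ φ h1 h2 h3 => Wsub_map W hW2 hS T₁ T₂ φ h1 h2 h3)
  haveI : Finite ↥(normalizerIn S (Wsub W S)) := finite_normalizerIn (S := S) _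
  have hc := isCentral_center N
  have hZ₀T : Z₀ ≤ normalizerIn S (Wsub W S) := hZ₀.trans hc.1
  have hZ₀S : Z₀ ≤ S := hZ₀T.trans (normalizerIn_le S _)
  have hfixN : FixG N N.center := fixG_of_isCentral N hc
  have hadm : Adm p pw S Z₀ := by
    refine ⟨fun z hz => ?_, hpw⟩
    have h2 : z ∈ Subgroup.centralizer (S : Set Ω) := by
      refine Subgroup.mem_centralizer_iff.mpr (fun s hs => ?_)
      have hsN : s ∈ normalizerIn S (Wsub W S) := by
        rw [hNS]
        exact hs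
      have hconj : conjHom Z₀ s ∈ N.Hom Z₀ := N.conj_mem hZ₀T hsN
      have h3 := hfixN Z₀ _ hconj ⟨z, hz⟩ (hZ₀ hz)
      have h4 : s * z * s⁻¹ = z := h3
      calc s * z = s * z * s⁻¹ * s := by group
        _ = z * s := by rw [h4]
    exact ⟨hZ₀S hz, h2⟩
  have hNF : NFixG F (Wsub W S) Z₀ := by
    intro P φ hφ y hy
    rw [← hN P] at hφ
    exact hfixN P φ hφ y (hZ₀ hy)
  have hfix := wc_main W hW1 hW2 hLH hS F hF hfree hadm hNF
  exact le_sSup (isCentral_of_fixG hS F hF hZ₀S hfix)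

end Cfsg.Agent.Lib.Helper1.WC
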