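import Mathlib
import Cfsg.Agent.Lib.Helper1.WC3
import Cfsg.Agent.S2799

set_option autoImplicit false
set_option linter.style.haveILetI false
set_option linter.unusedSectionVars false
set_option linter.unusedVariables false
set_option maxHeartbeats 1000000

/-! Control of weak closure of elements: functors with the local centre condition, and the
Thompson subgroup (Glauberman's theorem for fusion systems). -/

namespace Cfsg.Agent.Lib.Helper1.WC

open Cfsg Cfsg.FusionSystem Cfsg.Agent.Lib.Helper9 Cfsg.Agent.Lib.Helper1.KN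
  Cfsg.Agent.Lib.Helper1.KL Cfsg.Agent.Lib.Helper1.QF Cfsg.Agent.Lib.Helper1.GF

universe u v

section general

variable {p : ℕ} [Fact p.Prime] (W : ∀ (Q : Type u) [Group Q], Subgroup Q)

/-- an element of `P` centralized by `N_L(W(P))` lies in the centre of `N_L(W(P))` -/
theorem mem_center_normalizer_Wsub
    (hW2 : ∀ (Q R : Type u) [Group Q] [Group R] [Finite Q], IsPGroup p Q →
      ∀ φ : Q ≃* R, (W Q).map φ.toMonoidHom = W R)
    {L : Type u} [Group L] [Finite L] (P : Sylow p L) {x : L} (hxP : x ∈ (P : Subgroup L))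
    (hnorm : ∀ n ∈ Subgroup.normalizer ((Wsub W (P : Subgroup L) : Subgroup L) : Set L),
      n * x * n⁻¹ = x) :
    x ∈ (Subgroup.center ↥(Subgroup.normalizer
      ((Wsub W (P : Subgroup L) : Subgroup L) : Set L))).map
        (Subgroup.normalizer ((Wsub W (P : Subgroup L) : Subgroup L) : Set L)).subtype := by
  haveI : Finite ↥(Wsub W (P : Subgroup L)) := inferInstance
  have hxN : x ∈ Subgroup.normalizer ((Wsub W (P : Subgroup L) : Subgroup L) : Set L) := by
    apply KN.mem_normalizer_of_forall_conj_mem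
    intro w hw
    exact conj_mem_Wsub W hW2 P.isPGroup' (Subgroup.le_normalizer hxP) hw
  refine ⟨⟨x, hxN⟩, Subgroup.mem_center_iff.mpr (fun n => ?_), rfl⟩
  apply Subtype.ext
  show (n : L) * x = x * n
  have h1 := hnorm n n.2
  calc (n : L) * x = (n : L) * x * (n : L)⁻¹ * n := by group
    _ = x * n := by rw [h1]

/-- the local hypothesis for a functor with the local centre condition -/
theorem lh_of_center_condition
    (hW2 : ∀ (Q R : Type u) [Group Q] [Group R] [Finite Q], IsPGroup p Q →
      ∀ φ : Q ≃* R, (W Q).map φ.toMonoidHom = W R)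
    (hC : ∀ (G : Type u) [Group G] [Finite G] (P : Sylow p G),
      Cfsg.pCore p G ⊓ Subgroup.center G = Cfsg.pCore p G ⊓
        (Subgroup.center ↥(Subgroup.normalizer
          (((W ↥(P : Subgroup G)).map (P : Subgroup G).subtype : Subgroup G) : Set G))).map
          (Subgroup.normalizer
            (((W ↥(P : Subgroup G)).map (P : Subgroup G).subtype : Subgroup G) : Set G)).subtype)
    {H : Type v} [Group H] : LH.{u, v} p W False True H := by
  intro L _ _ P hcent _ x hx _ hnorm g _
  have hpcP : pCore p L ≤ (P : Subgroup L) := Cfsg.Agent.Lib.Helper7.pCore_le_sylow P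
  have hxpc : x ∈ pCore p L :=
    hcent (Subgroup.centralizer_le (SetLike.coe_subset_coe.mpr hpcP) hx.2)
  have hxZN := mem_center_normalizer_Wsub W hW2 P hx.1 hnorm
  have h1 : x ∈ pCore p L ⊓ (Subgroup.center ↥(Subgroup.normalizer
      (((W ↥(P : Subgroup L)).map (P : Subgroup L).subtype : Subgroup L) : Set L))).map
        (Subgroup.normalizer
          (((W ↥(P : Subgroup L)).map (P : Subgroup L).subtype : Subgroup L) : Set L)).subtype :=
    ⟨hxpc, hxZN⟩
  have h2 := (hC L P).ge h1
  have hxZ : x ∈ Subgroup.center L := h2.2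
  have h3 := Subgroup.mem_center_iff.mp hxZ g
  rw [h3, mul_inv_cancel_right]

/-- **Functors with the local centre condition control weak closure of elements.** -/
theorem center_eq_of_center_condition
    (hW1 : ∀ (Q : Type u) [Group Q] [Finite Q], IsPGroup p Q → Nontrivial Q → W Q ≠ ⊥)
    (hW2 : ∀ (Q R : Type u) [Group Q] [Group R] [Finite Q], IsPGroup p Q →
      ∀ φ : Q ≃* R, (W Q).map φ.toMonoidHom = W R)
    (hC : ∀ (G : Type u) [Group G] [Finite G] (P : Sylow p G),
      Cfsg.pCore p G ⊓ Subgroup.center G = Cfsg.pCore p G ⊓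
        (Subgroup.center ↥(Subgroup.normalizer
          (((W ↥(P : Subgroup G)).map (P : Subgroup G).subtype : Subgroup G) : Set G))).map
          (Subgroup.normalizer
            (((W ↥(P : Subgroup G)).map (P : Subgroup G).subtype : Subgroup G) : Set G)).subtype)
    {Ω : Type u} [Group Ω] {S : Subgroup Ω} [Finite S] (hS : IsPGroup p S) (F : FusionSystem S)
    (hF : F.IsSaturated p) (N : FusionSystem (normalizerIn S ((W ↥S).map S.subtype)))
    (hN : F.IsNormalizerSystem ((W ↥S).map S.subtype) N) : N.center = F.center := by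
  have hLH : LH.{u, 0} p W False True (Equiv.Perm (Fin 4)) := lh_of_center_condition W hW2 hC
  have hNS : normalizerIn S (Wsub W S) = S :=
    normalizerIn_W_top (Wsub W) (fun T' => Wsub_le W T')
      (fun T₁ T₂ φ h1 h2 h3 => Wsub_map W hW2 hS T₁ T₂ φ h1 h2 h3)
  apply le_antisymm
  · exact le_center_of_le_center_normalizer W hW1 hW2 hLH hS F hF (Or.inl trivial) N hN le_rfl
      (fun h => h.elim)
  · exact center_le_center_normalizer hS F hF (Wsub_le W S) hNS N hN

end general

section thompson

/-- the Thompson subgroup functor -/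
def ThW : ∀ (Q : Type u) [Group Q], Subgroup Q := fun Q _ => thompsonSubgroupA Q

variable {p : ℕ} [Fact p.Prime]

theorem thW_map (Q R : Type u) [Group Q] [Group R] [Finite Q] (_ : IsPGroup p Q) (φ : Q ≃* R) :
    (ThW.{u} Q).map φ.toMonoidHom = ThW.{u} R :=
  (thompsonA_map φ).symm

theorem thW_ne_bot (Q : Type u) [Group Q] [Finite Q] (hQ : IsPGroup p Q) (hnt : Nontrivial Q) :
    ThW.{u} Q ≠ ⊥ := by
  intro h
  have htop0 : (⊤ : Subgroup Q) ≠ ⊥ := by
    intro h0
    obtain ⟨x, hx⟩ := exists_ne (1 : Q)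
    apply hx
    have h1 : x ∈ (⊤ : Subgroup Q) := Subgroup.mem_top x
    rw [h0, Subgroup.mem_bot] at h1
    exact h1
  have hTp : IsPGroup p ↥(⊤ : Subgroup Q) := hQ.to_subgroup ⊤
  have h1 := Cfsg.Agent.Lib.Helper1.TH.thompsonSubgroupAOf_ne_bot' hTp htop0
  apply h1
  unfold thompsonSubgroupAOf
  have h2 := thompsonA_map (Subgroup.topEquiv (G := Q)).symm
  have h3 : thompsonSubgroupA Q = ⊥ := h
  rw [h2, h3, Subgroup.map_bot, Subgroup.map_bot]

/-- the local hypothesis for the Thompson subgroup and `p`-th powers, from Glauberman's theorem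
on weakly closed elements -/
theorem lh_thompson_pow : LH.{u, 0} p ThW.{u} True True (Equiv.Perm (Fin 4)) := by
  intro L _ _ P hcent hfree x hx hpw hnorm g hg
  have hxZN := mem_center_normalizer_Wsub ThW.{u} (fun Q R _ _ _ hQ φ => thW_map Q R hQ φ) P
    hx.1 hnorm
  have hxZN' : x ∈ (Subgroup.center ↥(Subgroup.normalizer
      ((Cfsg.thompsonSubgroupAOf (P : Subgroup L)) : Set L))).map
      (Subgroup.normalizer ((Cfsg.thompsonSubgroupAOf (P : Subgroup L)) : Set L)).subtype :=
    hxZN
  exact Cfsg.Agent.S2799.result P x hx.1 hxZN' (Or.inr (Or.inl (hpw trivial))) g hg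

/-- the local hypothesis for the Thompson subgroup, `p` odd or `S₄`-free -/
theorem lh_thompson_free : LH.{u, 0} p ThW.{u} False (p ≠ 2) (Equiv.Perm (Fin 4)) := by
  intro L _ _ P hcent hfree x hx hpw hnorm g hg
  have hxZN := mem_center_normalizer_Wsub ThW.{u} (fun Q R _ _ _ hQ φ => thW_map Q R hQ φ) P
    hx.1 hnorm
  have hxZN' : x ∈ (Subgroup.center ↥(Subgroup.normalizer
      ((Cfsg.thompsonSubgroupAOf (P : Subgroup L)) : Set L))).map
      (Subgroup.normalizer ((Cfsg.thompsonSubgroupAOf (P : Subgroup L)) : Set L)).subtype :=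
    hxZN
  rcases hfree with h | h
  · exact Cfsg.Agent.S2799.result P x hx.1 hxZN' (Or.inl h) g hg
  · exact Cfsg.Agent.S2799.result P x hx.1 hxZN' (Or.inr (Or.inr h)) g hg

variable {Ω : Type u} [Group Ω] {S : Subgroup Ω} [Finite S]

/-- **Glauberman's theorem for fusion systems, `p`-th powers.** -/
theorem thompson_center_pow (hS : IsPGroup p S) (F : FusionSystem S) (hF : F.IsSaturated p)
    (N : FusionSystem (normalizerIn S (thompsonSubgroupAOf S)))
    (hN : F.IsNormalizerSystem (thompsonSubgroupAOf S) N) :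
    Subgroup.closure ((fun z : Ω => z ^ p) ''
      ((S ⊓ Subgroup.centralizer (S : Set Ω) : Subgroup Ω) : Set Ω)) ⊓ N.center ≤ F.center := by
  apply le_center_of_le_center_normalizer ThW.{u} (fun Q _ _ hQ hnt => thW_ne_bot Q hQ hnt)
    (fun Q R _ _ _ hQ φ => thW_map Q R hQ φ) lh_thompson_pow hS F hF (Or.inl trivial) N hN
    inf_le_right
  intro _ z hz
  apply exists_pow_of_mem_closure (S ⊓ Subgroup.centralizer (S : Set Ω)) _ p hz.1
  intro a ha b hb
  exact Subgroup.mem_centralizer_iff.mp hb.2 a ha.1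

/-- **Glauberman's theorem for fusion systems.** -/
theorem thompson_center_eq (hS : IsPGroup p S) (F : FusionSystem S) (hF : F.IsSaturated p)
    (hfree : p ≠ 2 ∨ F.IsSectionFree p (Equiv.Perm (Fin 4)))
    (N : FusionSystem (normalizerIn S (thompsonSubgroupAOf S)))
    (hN : F.IsNormalizerSystem (thompsonSubgroupAOf S) N) : N.center = F.center := by
  have hNS : normalizerIn S (Wsub ThW.{u} S) = S :=
    normalizerIn_W_top (Wsub ThW.{u}) (fun T' => Wsub_le ThW.{u} T')
      (fun T₁ T₂ φ h1 h2 h3 =>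
        Wsub_map ThW.{u} (fun Q R _ _ _ hQ φ => thW_map Q R hQ φ) hS T₁ T₂ φ h1 h2 h3)
  apply le_antisymm
  · exact le_center_of_le_center_normalizer ThW.{u} (fun Q _ _ hQ hnt => thW_ne_bot Q hQ hnt)
      (fun Q R _ _ _ hQ φ => thW_map Q R hQ φ) lh_thompson_free hS F hF hfree N hN le_rfl
      (fun h => h.elim)
  · exact center_le_center_normalizer hS F hF (Wsub_le ThW.{u} S) hNS N hN

end thompson

end Cfsg.Agent.Lib.Helper1.WC
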