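import Mathlib
import Cfsg.Agent.Lib.Helper1.GA3
import Cfsg.Agent.Lib.Helper1.WC4

set_option autoImplicit false
set_option linter.style.haveILetI false
set_option linter.unusedSectionVars false
set_option linter.unusedVariables false
set_option maxHeartbeats 1000000

/-! The centre of a saturated fusion system (`p` odd) is a direct factor of `Z(S)`. -/

namespace Cfsg.Agent.Lib.Helper1.GA

open Cfsg Cfsg.FusionSystem Cfsg.Agent.Lib.Helper9 Cfsg.Agent.Lib.Helper1.KN
  Cfsg.Agent.Lib.Helper1.KL Cfsg.Agent.Lib.Helper1.QF Cfsg.Agent.Lib.Helper1.GF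
  Cfsg.Agent.Lib.Helper1.GN

universe u

section trace

variable {G : Type u} [Group G] [Finite G]

/-- the trace argument: `Z(G)` is a direct factor of `Z(Sy)` -/
theorem center_direct_factor (p : ℕ) [hp : Fact p.Prime] (Sy : Sylow p G) (V : Subgroup G)
    [hVn : V.Normal] (hVc : ∀ a ∈ V, ∀ b ∈ V, a * b = b * a) (hVSy : V ≤ Sy)
    (hZV : Zc (Sy : Subgroup G) ≤ V) (hCS : Subgroup.center G ≤ Sy) :
    ∃ K : Subgroup G, K ≤ Zc (Sy : Subgroup G) ∧ Subgroup.center G ⊓ K = ⊥ ∧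
      Subgroup.center G ⊔ K = Zc (Sy : Subgroup G) := by
  classical
  haveI : Fintype (G ⧸ (Sy : Subgroup G)) := Fintype.ofFinite _
  obtain ⟨ρ, hρ⟩ : ∃ ρ : G →* AddMonoid.End (AddV V hVc), ρ = conjRep V hVc := ⟨_, rfl⟩
  have hval : ∀ (g : G) (a : AddV V hVc), (ρ g a).val = g * a.val * g⁻¹ := by
    intro g a
    rw [hρ]
    rfl
  obtain ⟨tr, htr⟩ : ∃ tr : AddV V hVc →+ AddV V hVc,
      ∀ x, tr x = ∑ q : G ⧸ (Sy : Subgroup G), ρ (Quotient.out q) x :=
    ⟨AddMonoidHom.mk' (fun x => ∑ q : G ⧸ (Sy : Subgroup G), ρ (Quotient.out q) x)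
      (by intro a b; simp only [map_add, Finset.sum_add_distrib]), fun x => rfl⟩
  -- invariance of the trace
  have hinv : ∀ x, (∀ s ∈ (Sy : Subgroup G), ρ s x = x) → ∀ h : G, ρ h (tr x) = tr x := by
    intro x hx h
    rw [htr, map_sum]
    have key : ∀ q : G ⧸ (Sy : Subgroup G),
        ρ h (ρ (Quotient.out q) x) = ρ (Quotient.out (h • q)) x := by
      intro q
      have e1 : h • q = (QuotientGroup.mk (h * Quotient.out q) : G ⧸ (Sy : Subgroup G)) := by
        conv_lhs => rw [← QuotientGroup.out_eq' q]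
        rfl
      obtain ⟨s, hs⟩ := QuotientGroup.mk_out_eq_mul (Sy : Subgroup G) (h * Quotient.out q)
      rw [e1, hs, map_mul, end_mul_apply, hx s s.2, map_mul, end_mul_apply]
    rw [Finset.sum_congr rfl (fun q _ => key q)]
    exact Equiv.sum_comp (MulAction.toPerm h : Equiv.Perm (G ⧸ (Sy : Subgroup G)))
      (fun q => ρ (Quotient.out q) x)
  have htrfix : ∀ x, (∀ g : G, ρ g x = x) → tr x = (Sy : Subgroup G).index • x := by
    intro x hx
    have h1 : ∑ q : G ⧸ (Sy : Subgroup G), ρ (Quotient.out q) x =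
        ∑ _q : G ⧸ (Sy : Subgroup G), x :=
      Finset.sum_congr rfl (fun q _ => hx (Quotient.out q))
    rw [htr, h1, Finset.sum_const, Finset.card_univ, Subgroup.index, Nat.card_eq_fintype_card]
  have hcenZ : Subgroup.center G ≤ Zc (Sy : Subgroup G) := by
    intro g hg
    refine Subgroup.mem_inf.mpr ⟨hCS hg, ?_⟩
    rw [Subgroup.mem_centralizer_iff]
    intro s _
    exact Subgroup.mem_center_iff.mp hg s
  have hfixS : ∀ (g : G) (hg : g ∈ Zc (Sy : Subgroup G)), ∀ s ∈ (Sy : Subgroup G),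
      ρ s (AddV.mk g (hZV hg)) = AddV.mk g (hZV hg) := by
    intro g hg s hs
    apply AddV.val_injective
    rw [hval, AddV.val_mk]
    have hg' : g ∈ (Sy : Subgroup G) ⊓ Subgroup.centralizer ((Sy : Subgroup G) : Set G) := hg
    have h := Subgroup.mem_centralizer_iff.mp (Subgroup.mem_inf.mp hg').2 s hs
    rw [h, mul_inv_cancel_right]
  have hcen_of_fix : ∀ a : AddV V hVc, (∀ h : G, ρ h a = a) → a.val ∈ Subgroup.center G := by
    intro a ha
    rw [Subgroup.mem_center_iff]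
    intro h
    have h1 := congrArg AddV.val (ha h)
    rw [hval] at h1
    exact mul_inv_eq_iff_eq_mul.mp h1
  have hZc_of_fix : ∀ a : AddV V hVc, (∀ s ∈ (Sy : Subgroup G), ρ s a = a) →
      a.val ∈ Zc (Sy : Subgroup G) := by
    intro a ha
    refine Subgroup.mem_inf.mpr ⟨hVSy a.val_mem, ?_⟩
    rw [Subgroup.mem_centralizer_iff]
    intro s hs
    have h1 := congrArg AddV.val (ha s hs)
    rw [hval] at h1
    exact mul_inv_eq_iff_eq_mul.mp h1
  obtain ⟨K, hK⟩ : ∃ K : Subgroup G, ∀ g, g ∈ K ↔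
      ∃ a : AddV V hVc, a.val = g ∧ (∀ s ∈ (Sy : Subgroup G), ρ s a = a) ∧ tr a = 0 :=
    ⟨{ carrier := {g | ∃ a : AddV V hVc, a.val = g ∧
          (∀ s ∈ (Sy : Subgroup G), ρ s a = a) ∧ tr a = 0}
       one_mem' := ⟨0, AddV.val_zero, fun s _ => map_zero _, map_zero _⟩
       mul_mem' := by
        rintro _ _ ⟨a, rfl, ha1, ha2⟩ ⟨b, rfl, hb1, hb2⟩
        refine ⟨a + b, AddV.val_add a b, fun s hs => ?_, ?_⟩
        · rw [map_add, ha1 s hs, hb1 s hs]
        · rw [map_add, ha2, hb2, add_zero]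
       inv_mem' := by
        rintro _ ⟨a, rfl, ha1, ha2⟩
        refine ⟨-a, AddV.val_neg a, fun s hs => ?_, ?_⟩
        · rw [map_neg, ha1 s hs]
        · rw [map_neg, ha2, neg_zero] }, fun g => Iff.rfl⟩
  have hKZ : K ≤ Zc (Sy : Subgroup G) := by
    intro g hg
    obtain ⟨a, rfl, ha1, -⟩ := (hK g).mp hg
    exact hZc_of_fix a ha1
  -- arithmetic
  obtain ⟨e, he⟩ := (Sy.2.to_le hVSy).exists_card_eq
  have hcop : Nat.Coprime (Sy : Subgroup G).index (Nat.card V) := by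
    rw [he]
    apply Nat.Coprime.pow_right
    exact ((Nat.Prime.coprime_iff_not_dvd hp.out).mpr (Sy.not_dvd_index)).symm
  have hkill : ∀ y : AddV V hVc, Nat.card V • y = 0 := by
    intro y
    apply AddV.val_injective
    rw [AddV.val_nsmul, AddV.val_zero]
    have h1 : (⟨y.val, y.val_mem⟩ : ↥V) ^ Nat.card V = 1 := pow_card_eq_one'
    have h2 := congrArg Subtype.val h1
    rw [Subgroup.coe_pow] at h2
    exact h2
  have hbez : ∀ y : AddV V hVc,
      (Nat.gcdA (Sy : Subgroup G).index (Nat.card V) * ((Sy : Subgroup G).index : ℤ)) • y = y := by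
    intro y
    have h1 := Nat.gcd_eq_gcd_ab (Sy : Subgroup G).index (Nat.card V)
    rw [hcop.gcd_eq_one] at h1
    have h2 : ((Nat.card V : ℤ) * Nat.gcdB (Sy : Subgroup G).index (Nat.card V)) • y = 0 := by
      rw [mul_comm, mul_smul, natCast_zsmul, hkill, smul_zero]
    have h3 : ((1 : ℕ) : ℤ) • y = y := by simp
    rw [h1, add_smul, h2, add_zero, mul_comm] at h3
    exact h3
  refine ⟨K, hKZ, ?_, ?_⟩
  · rw [eq_bot_iff]
    intro g hg
    obtain ⟨hgc, hgK⟩ := Subgroup.mem_inf.mp hg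
    obtain ⟨a, rfl, ha1, ha2⟩ := (hK g).mp hgK
    have hall : ∀ h : G, ρ h a = a := by
      intro h
      apply AddV.val_injective
      rw [hval]
      have h1 := Subgroup.mem_center_iff.mp hgc h
      rw [h1, mul_inv_cancel_right]
    have h1 := htrfix a hall
    rw [ha2] at h1
    have h2 := hbez a
    rw [mul_smul, natCast_zsmul, ← h1, smul_zero] at h2
    rw [Subgroup.mem_bot, ← h2]
    exact AddV.val_zero
  · apply le_antisymm (sup_le hcenZ hKZ)
    intro g hg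
    obtain ⟨a, ha⟩ : ∃ a : AddV V hVc, a = AddV.mk g (hZV hg) := ⟨_, rfl⟩
    have haS : ∀ s ∈ (Sy : Subgroup G), ρ s a = a := by
      rw [ha]
      exact hfixS g hg
    obtain ⟨t, ht⟩ : ∃ t, t = tr a := ⟨_, rfl⟩
    have htL : ∀ h : G, ρ h t = t := by
      rw [ht]
      exact hinv a haS
    obtain ⟨A, hA⟩ : ∃ A : ℤ, A = Nat.gcdA (Sy : Subgroup G).index (Nat.card V) := ⟨_, rfl⟩
    have hx₁L : ∀ h : G, ρ h (A • t) = A • t := by
      intro h
      rw [map_zsmul, htL h]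
    have htt : tr (A • t) = t := by
      rw [map_zsmul, htrfix t htL, ← natCast_zsmul, ← mul_smul, hA]
      exact hbez t
    have hx₂K : (a - A • t).val ∈ K := by
      rw [hK]
      refine ⟨a - A • t, rfl, fun s hs => ?_, ?_⟩
      · rw [map_sub, haS s hs, hx₁L s]
      · rw [map_sub, htt, ← ht, sub_self]
    have hx₁c : (A • t).val ∈ Subgroup.center G := hcen_of_fix _ hx₁L
    have hg' : g = (A • t).val * (a - A • t).val := by
      rw [← AddV.val_add, add_sub_cancel, ha, AddV.val_mk]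
    rw [hg']
    exact Subgroup.mul_mem_sup hx₁c hx₂K

end trace

section fusion

variable {Ω : Type u} [Group Ω] {S : Subgroup Ω}

theorem exists_transport_center {T S : Subgroup Ω} (h : T = S) (E : FusionSystem T) (p : ℕ)
    (J : Subgroup Ω) :
    ∃ E' : FusionSystem S, (∀ P, E'.Hom P = E.Hom P) ∧ (E.IsSaturated p → E'.IsSaturated p) ∧
      (E.IsNormal J → E'.IsNormal J) ∧ E'.center = E.center := by
  subst h
  exact ⟨E, fun _ => rfl, id, id, rfl⟩

/-- central subgroups lie in the centre of `S` -/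
theorem mem_Zc_of_mem_center [Finite S] (E : FusionSystem S) {z : Ω} (hz : z ∈ E.center) :
    z ∈ Zc S := by
  have hc := isCentral_center E
  have hzS : z ∈ S := hc.1 hz
  refine Subgroup.mem_inf.mpr ⟨hzS, ?_⟩
  rw [Subgroup.mem_centralizer_iff]
  intro s hs
  have h1 := map_eq_of_isCentral E hc (E.conj_mem le_rfl hs) ⟨z, hzS⟩ hz
  have h2 : s * z * s⁻¹ = z := h1
  exact mul_inv_eq_iff_eq_mul.mp h2

/-- the centre of a system with a model is the centre of the model -/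
theorem center_of_model [Finite S] {p : ℕ} [Fact p.Prime] (hS : IsPGroup p S)
    (E : FusionSystem S) (hE : E.IsSaturated p) {L : Type u} [Group L] (ι : ↥S →* L)
    (hmodel : E.IsModel p L ι) (z : Ω) (hz : z ∈ S) :
    z ∈ E.center ↔ ι ⟨z, hz⟩ ∈ Subgroup.center L := by
  obtain ⟨hfin, hreal, ⟨Sy, hSy⟩, hcent⟩ := id hmodel
  haveI := hfin
  have hinj := hreal.1
  have hpcSy : pCore p L ≤ (Sy : Subgroup L) := pCore_le_sylow p Sy
  constructor
  · intro hzc
    have hc := isCentral_center E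
    have hzZ : z ∈ Zc S := mem_Zc_of_mem_center E hzc
    rw [Subgroup.mem_center_iff]
    intro g
    obtain ⟨Q₀, hQ₀S, φ, hφS, hφE, hφι, hQ₀mem⟩ := exists_hom_of_conj E ι hreal g
    have h0 : ι ⟨z, hz⟩ ∈ Subgroup.centralizer ((ι.range : Subgroup L) : Set L) :=
      iota_center_mem ι hzZ
    rw [← hSy] at h0
    have hxpc : ι ⟨z, hz⟩ ∈ pCore p L :=
      hcent (Subgroup.centralizer_le (SetLike.coe_subset_coe.mpr hpcSy) h0)
    have hconj : g * ι ⟨z, hz⟩ * g⁻¹ ∈ ι.range := by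
      rw [← hSy]
      exact hpcSy ((pCore_normal p).conj_mem _ hxpc g)
    have hzQ₀ : z ∈ Q₀ := hQ₀mem z hz hconj
    have h1 := map_eq_of_isCentral E hc hφE ⟨z, hzQ₀⟩ hzc
    have h2 := hφι ⟨z, hzQ₀⟩
    have h3 : (⟨φ ⟨z, hzQ₀⟩, hφS ⟨z, hzQ₀⟩⟩ : ↥S) = ⟨z, hz⟩ := Subtype.ext h1
    rw [h3] at h2
    exact (mul_inv_eq_iff_eq_mul.mp h2.symm)
  · intro hzL
    have hZ₀S : preimageAlong ι (Subgroup.center L) ≤ S := preimageAlong_le _ _
    have hfix : Cfsg.Agent.Lib.Helper1.WC.FixG E (preimageAlong ι (Subgroup.center L)) := by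
      intro P φ hφ y hy
      obtain ⟨hPS, hφS⟩ := E.le_of_mem hφ
      obtain ⟨g, hg⟩ := (hreal.2 P hPS φ hφS).mp hφ
      obtain ⟨hyS, hyc⟩ := (mem_preimageAlong _ _ _).mp hy
      have h1 := hg y
      have h2 := Subgroup.mem_center_iff.mp hyc g
      have h3 : g * ι ⟨(y : Ω), hPS y.2⟩ * g⁻¹ = ι ⟨(y : Ω), hyS⟩ := by
        rw [h2, mul_inv_cancel_right]
      rw [h3] at h1
      exact eq_of_iota_eq ι hinj _ _ h1
    have hcen := Cfsg.Agent.Lib.Helper1.WC.isCentral_of_fixG hS E hE hZ₀S hfix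
    exact (le_sSup hcen : preimageAlong ι (Subgroup.center L) ≤ E.center)
      ((mem_preimageAlong _ _ _).mpr ⟨hz, hzL⟩)

/-- **The centre of a saturated fusion system (`p` odd) is a direct factor of `Z(S)`.** -/
theorem center_factor [Finite S] (p : ℕ) [Fact p.Prime] (hp : p ≠ 2) (hS : IsPGroup p S)
    (F : FusionSystem S) (hF : F.IsSaturated p) :
    ∃ K : Subgroup Ω, K ≤ S ⊓ Subgroup.centralizer (S : Set Ω) ∧ F.center ⊓ K = ⊥ ∧
      F.center ⊔ K = S ⊓ Subgroup.centralizer (S : Set Ω) := by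
  have hJS₀ : thompsonSubgroupAOf S ≤ S := Cfsg.Agent.Lib.Helper1.TH.thompsonSubgroupAOf_le' S
  haveI : Finite (thompsonSubgroupAOf S) := finite_of_le hJS₀
  have hJnormS₀ : normalizerIn S (thompsonSubgroupAOf S) = S :=
    normalizerIn_eq_of_forall (fun s hs x hx =>
      Cfsg.Agent.Lib.Helper1.TH.conj_mem_thompsonSubgroupAOf (Subgroup.le_normalizer hs) hx)
  have hJfn : F.IsFullyNormalized (thompsonSubgroupAOf S) :=
    fullyNormalized_of_normalizerIn_eq F hJS₀ hJnormS₀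
  obtain ⟨N₀, hN₀⟩ := Cfsg.Agent.S5096.result F (thompsonSubgroupAOf S) hJS₀
  have hN₀sat := Cfsg.Agent.S5098.result p hS F hF (thompsonSubgroupAOf S) hJfn N₀ hN₀
  have hN₀n : N₀.IsNormal (thompsonSubgroupAOf S) :=
    normal_self_of_isNormalizerSystem F hJS₀ N₀ hN₀
  have hcen1 : N₀.center = F.center :=
    Cfsg.Agent.Lib.Helper1.WC.thompson_center_eq hS F hF (Or.inl hp) N₀ hN₀
  obtain ⟨NJ, hNJ₀, hsatT, hnT, hcen2⟩ :=
    exists_transport_center hJnormS₀ N₀ p (thompsonSubgroupAOf S)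
  have hNJsat := hsatT hN₀sat
  have hJn : NJ.IsNormal (thompsonSubgroupAOf S) := hnT hN₀n
  have hJc : NJ.IsCentric (thompsonSubgroupAOf S) := by
    refine ⟨hJS₀, fun Q hQ => ?_⟩
    have hsc := stronglyClosed_of_normal NJ hJn
    have hQJ : Q ≤ thompsonSubgroupAOf S := by
      obtain ⟨φ, hφ, hr⟩ := hQ
      rw [← hr]
      rintro _ ⟨x, rfl⟩
      exact hsc.2 _ le_rfl φ hφ x
    have hcard := card_eq_of_isConj NJ hQ
    have hQeq : Q = thompsonSubgroupAOf S := Subgroup.eq_of_le_of_card_ge hQJ hcard.le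
    rw [hQeq]
    show S ⊓ Subgroup.centralizer ((thompsonSubgroupAOf S : Subgroup Ω) : Set Ω) ≤
      thompsonSubgroupAOf S
    exact inf_centralizer_le_of_thompson_le' le_rfl
  obtain ⟨L, _, ι, hmodel⟩ :=
    Cfsg.Agent.S5090.result p hS NJ ⟨hNJsat, thompsonSubgroupAOf S, hJn, hJc⟩
  have hFc : ∀ (z : Ω) (hz : z ∈ S), z ∈ F.center ↔ ι ⟨z, hz⟩ ∈ Subgroup.center L := by
    intro z hz
    rw [← hcen1, ← hcen2]
    exact center_of_model hS NJ hNJsat ι hmodel z hz
  obtain ⟨hfin, hreal, ⟨Sy, hSy⟩, hcent⟩ := id hmodel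
  haveI := hfin
  have hinj := hreal.1
  have hrange : ∀ x : ↥S, ι x ∈ (Sy : Subgroup L) := fun x => by
    rw [hSy]
    exact ⟨x, rfl⟩
  have hJL : (imageAlong ι (thompsonSubgroupAOf S)).Normal :=
    map_normal_of_isModel p NJ ι hmodel hJn
  have himS : imageAlong ι S = (Sy : Subgroup L) := (imageAlong_top_eq_range ι).trans hSy.symm
  have hJim : imageAlong ι (thompsonSubgroupAOf S) = thompsonSubgroupAOf (Sy : Subgroup L) := by
    rw [imageAlong_thompson ι hinj le_rfl, himS]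
  rw [hJim] at hJL
  obtain ⟨J, hJdef⟩ : ∃ J, J = thompsonSubgroupAOf (Sy : Subgroup L) := ⟨_, rfl⟩
  rw [← hJdef] at hJL
  haveI := hJL
  have hJSy : J ≤ Sy := hJdef ▸ Cfsg.Agent.Lib.Helper1.TH.thompsonSubgroupAOf_le' _
  obtain ⟨V, hVdef⟩ : ∃ V, V = J ⊓ Subgroup.centralizer (J : Set L) := ⟨_, rfl⟩
  have hVc : ∀ a ∈ V, ∀ b ∈ V, a * b = b * a := by
    intro a ha b hb
    rw [hVdef] at ha hb
    exact Subgroup.mem_centralizer_iff.mp (Subgroup.mem_inf.mp hb).2 a (Subgroup.mem_inf.mp ha).1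
  haveI hVn : V.Normal := by
    constructor
    intro v hv g
    rw [hVdef] at hv ⊢
    exact Cfsg.Agent.Lib.Helper1.TH.conj_mem_zOf
      (by rw [Subgroup.normalizer_eq_top]; exact Subgroup.mem_top g) hv
  have hVSy : V ≤ Sy := fun v hv => hJSy (by rw [hVdef] at hv; exact (Subgroup.mem_inf.mp hv).1)
  have hZV : Zc (Sy : Subgroup L) ≤ V := by
    intro z hz
    rw [hVdef]
    have hz' : z ∈ (Sy : Subgroup L) ⊓ Subgroup.centralizer ((Sy : Subgroup L) : Set L) := hz
    refine Subgroup.mem_inf.mpr ⟨?_, ?_⟩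
    · rw [hJdef]
      exact Cfsg.Agent.Lib.Helper8.WC.center_le_JA _ hz'
    · exact Subgroup.centralizer_le (SetLike.coe_subset_coe.mpr hJSy) (Subgroup.mem_inf.mp hz').2
  have hpcSy : pCore p L ≤ (Sy : Subgroup L) := pCore_le_sylow p Sy
  have hCS : Subgroup.center L ≤ Sy := by
    intro g hg
    apply hpcSy
    apply hcent
    exact Subgroup.center_le_centralizer _ hg
  obtain ⟨KL, hKLZ, hKLbot, hKLsup⟩ := center_direct_factor p Sy V hVc hVSy hZV hCS
  have hZcS : ∀ (x : Ω) (hx : x ∈ S), ι ⟨x, hx⟩ ∈ Zc (Sy : Subgroup L) → x ∈ Zc S := by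
    intro x hx h
    have h' : ι ⟨x, hx⟩ ∈ (Sy : Subgroup L) ⊓
        Subgroup.centralizer ((Sy : Subgroup L) : Set L) := h
    refine Subgroup.mem_inf.mpr ⟨hx, ?_⟩
    rw [Subgroup.mem_centralizer_iff]
    intro s hs
    have h1 := Subgroup.mem_centralizer_iff.mp (Subgroup.mem_inf.mp h').2 (ι ⟨s, hs⟩)
      (hrange ⟨s, hs⟩)
    rw [← map_mul, ← map_mul] at h1
    exact congrArg Subtype.val (hinj h1)
  have hKS : preimageAlong ι KL ≤ Zc S := by
    intro x hx
    obtain ⟨hxS, hxK⟩ := (mem_preimageAlong _ _ _).mp hx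
    exact hZcS x hxS (hKLZ hxK)
  refine ⟨preimageAlong ι KL, hKS, ?_, ?_⟩
  · rw [eq_bot_iff]
    intro x hx
    obtain ⟨hxc, hxK⟩ := Subgroup.mem_inf.mp hx
    obtain ⟨hxS, hxK'⟩ := (mem_preimageAlong _ _ _).mp hxK
    have h1 : ι ⟨x, hxS⟩ ∈ Subgroup.center L ⊓ KL :=
      Subgroup.mem_inf.mpr ⟨(hFc x hxS).mp hxc, hxK'⟩
    rw [hKLbot, Subgroup.mem_bot] at h1
    have h2 : (⟨x, hxS⟩ : ↥S) = 1 := hinj (by rw [h1, map_one])
    rw [Subgroup.mem_bot]
    exact congrArg Subtype.val h2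
  · apply le_antisymm
    · apply sup_le _ hKS
      intro z hz
      have h := mem_Zc_of_mem_center F hz
      exact h
    · intro z hz
      have hz' : z ∈ Zc S := hz
      have hzS : z ∈ S := (Subgroup.mem_inf.mp hz).1
      have h1 : ι ⟨z, hzS⟩ ∈ Zc (Sy : Subgroup L) := by
        refine Subgroup.mem_inf.mpr ⟨hrange _, ?_⟩
        have h0 := iota_center_mem ι hz'
        rw [← hSy] at h0
        exact h0
      rw [← hKLsup] at h1
      obtain ⟨c, hc, k, hk, hck⟩ := Subgroup.mem_sup_of_normal_left.mp h1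
      have hcr : c ∈ ι.range := by
        rw [← hSy]
        exact hCS hc
      have hkr : k ∈ ι.range := by
        rw [← hSy]
        have hk' : k ∈ (Sy : Subgroup L) ⊓
            Subgroup.centralizer ((Sy : Subgroup L) : Set L) := hKLZ hk
        exact (Subgroup.mem_inf.mp hk').1
      obtain ⟨c₀, rfl⟩ := hcr
      obtain ⟨k₀, rfl⟩ := hkr
      rw [← map_mul] at hck
      have h2 : c₀ * k₀ = ⟨z, hzS⟩ := hinj hck
      have h3 : z = (c₀ : Ω) * (k₀ : Ω) := by
        have := congrArg Subtype.val h2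
        rw [Subgroup.coe_mul] at this
        exact this.symm
      rw [h3]
      apply Subgroup.mul_mem_sup
      · exact (hFc (c₀ : Ω) c₀.2).mpr hc
      · exact (mem_preimageAlong _ _ _).mpr ⟨k₀.2, hk⟩

end fusion

end Cfsg.Agent.Lib.Helper1.GA
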