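import Mathlib
import Cfsg.Prelude.Def_Local
import Cfsg.Agent.Lib.Helper1.UpperPSeriesShift
import Cfsg.Agent.Lib.Helper1.PLengthOne
import Cfsg.Agent.Lib.Helper1.PCore
import Cfsg.Agent.S4218
set_option autoImplicit false
open Cfsg
universe u
namespace Cfsg.Agent.Lib.Helper1

/-- In a `p`-solvable group, `Z(S) ≤ O_{p',p}(G)` for a Sylow `p`-subgroup `S`. -/
theorem center_sylow_le_pPrimePCore {G : Type*} [Group G] [Finite G] {p : ℕ} [hp : Fact p.Prime]
    (hsol : IsPSolvable p G) (S : Sylow p G) :
    (S : Subgroup G) ⊓ Subgroup.centralizer ((S : Subgroup G) : Set G) ≤ pPrimePCore p G := by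
  rintro z ⟨hzS, hzC⟩
  have hsurj := QuotientGroup.mk'_surjective (pPrimeCore p G)
  have hsolq := Cfsg.Agent.S4218.isPSolvable_quotient p (pPrimeCore p G) hsol
  have hbot : pPrimeCore p (G ⧸ pPrimeCore p G) = ⊥ := pPrimeCore_quotient_eq_bot p
  change (QuotientGroup.mk' (pPrimeCore p G)) z ∈ pCore p (G ⧸ pPrimeCore p G)
  apply Cfsg.Agent.S4218.HH p hsolq hbot
  intro y hy
  have hy2 : y ∈ ((S.mapSurjective hsurj : Sylow p (G ⧸ pPrimeCore p G)) :
      Subgroup (G ⧸ pPrimeCore p G)) := pCore_le_sylow p _ hy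
  rw [Sylow.coe_mapSurjective] at hy2
  obtain ⟨s, hs, rfl⟩ := hy2
  have h1 : s * z = z * s := Subgroup.mem_centralizer_iff.mp hzC s hs
  have h2 : (QuotientGroup.mk' (pPrimeCore p G)) z * (QuotientGroup.mk' (pPrimeCore p G)) s *
      ((QuotientGroup.mk' (pPrimeCore p G)) z)⁻¹ * ((QuotientGroup.mk' (pPrimeCore p G)) s)⁻¹ = 1 := by
    rw [← map_mul, ← h1, map_mul]; group
  rw [h2]
  exact Subgroup.one_mem _

theorem pLengthLE_aux (p : ℕ) [hp : Fact p.Prime] : ∀ (c : ℕ) (G : Type u) [Group G] [Finite G],
    IsPSolvable p G → ∀ S : Sylow p G, Group.nilpotencyClass ↥(S : Subgroup G) ≤ c →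
      (upperPSeries p G (2 * c + 1)).1 = ⊤ := by
  intro c
  induction c with
  | zero =>
    intro G _ _ hsol S hS
    have : Group.IsNilpotent ↥(S : Subgroup G) := S.isPGroup'.isNilpotent
    have h0 : Group.nilpotencyClass ↥(S : Subgroup G) = 0 := Nat.le_zero.mp hS
    rw [Group.nilpotencyClass_zero_iff_subsingleton] at h0
    have h1 : Nat.card (S : Subgroup G) = 1 := Nat.card_unique
    have h2 : ¬ p ∣ (S : Subgroup G).index := S.not_dvd_index
    have h3 : (S : Subgroup G).index = Nat.card G := by
      have := (S : Subgroup G).card_mul_index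
      rw [h1, one_mul] at this
      exact this
    rw [h3] at h2
    have h4 : (Nat.card (⊤ : Subgroup G)).Coprime p := by
      rw [Subgroup.card_top]
      exact ((Nat.Prime.coprime_iff_not_dvd hp.out).mpr h2).symm
    show (upperPSeries p G 1).1 = ⊤
    rw [Helper3.upperPSeries_one, eq_top_iff]
    exact le_pPrimeCore Subgroup.normal_top h4
  | succ c ih =>
    intro G _ _ hsol S hS
    have hsurj := QuotientGroup.mk'_surjective (upperPSeries p G 2).1
    have hsolq := Cfsg.Agent.S4218.isPSolvable_quotient p (upperPSeries p G 2).1 hsol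
    have : Group.IsNilpotent ↥(S : Subgroup G) := S.isPGroup'.isNilpotent
    -- the class of the Sylow subgroup of the quotient drops
    have hclass : Group.nilpotencyClass
        ↥((S.mapSurjective hsurj : Sylow p (G ⧸ (upperPSeries p G 2).1)) :
          Subgroup (G ⧸ (upperPSeries p G 2).1)) ≤ c := by
      obtain ⟨ψ, hψ⟩ : ∃ ψ : ↥(S : Subgroup G) →*
          ↥((S : Subgroup G).map (QuotientGroup.mk' (upperPSeries p G 2).1)),
          ψ = (QuotientGroup.mk' (upperPSeries p G 2).1).subgroupMap (S : Subgroup G) := ⟨_, rfl⟩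
      have hψs : Function.Surjective ψ := by
        rw [hψ]; exact MonoidHom.subgroupMap_surjective _ _
      have hZ : Subgroup.center ↥(S : Subgroup G) ≤ ψ.ker := by
        intro z hz
        rw [MonoidHom.mem_ker, hψ]
        apply Subtype.ext
        change (QuotientGroup.mk' (upperPSeries p G 2).1) (z : G) = 1
        rw [QuotientGroup.mk'_apply, QuotientGroup.eq_one_iff, Helper3.upperPSeries_two]
        apply center_sylow_le_pPrimePCore hsol S
        refine ⟨z.2, ?_⟩
        change (z : G) ∈ Subgroup.centralizer _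
        rw [Subgroup.mem_centralizer_iff]
        intro s hs
        have := Subgroup.mem_center_iff.mp hz ⟨s, hs⟩
        exact congrArg Subtype.val this
      have hlift : Function.Surjective (QuotientGroup.lift (Subgroup.center ↥(S : Subgroup G)) ψ hZ) := by
        intro y
        obtain ⟨x, rfl⟩ := hψs y
        exact ⟨QuotientGroup.mk x, rfl⟩
      have h1 := Group.nilpotencyClass_le_of_surjective _ hlift
      rw [Group.nilpotencyClass_quotient_center] at h1
      exact h1.trans (by omega)
    have h2 := ih (G ⧸ (upperPSeries p G 2).1) hsolq (S.mapSurjective hsurj) hclass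
    have e : 2 * (c + 1) + 1 = (2 * c + 1) + 2 := by ring
    rw [e, upperPSeries_shift, h2, Subgroup.comap_top]

theorem pLengthLE_nilpotencyClass_sylow {G : Type u} [Group G] [Finite G] {p : ℕ} [Fact p.Prime]
    (hsol : IsPSolvable p G) (S : Sylow p G) :
    PLengthLE p (Group.nilpotencyClass ↥(S : Subgroup G)) G :=
  pLengthLE_aux p _ G hsol S le_rfl

end Cfsg.Agent.Lib.Helper1
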