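import Mathlib
import Cfsg.Agent.Lib.Helper1.GA5
import Cfsg.Agent.Lib.Helper9.GroupFusionSat
import Cfsg.Agent.Lib.Helper1.Fusion2
import Cfsg.Agent.Lib.Helper1.PLengthClass
import Cfsg.Agent.Lib.Helper3.PSolvable
import Cfsg.Agent.S1944

set_option autoImplicit false
set_option linter.style.haveILetI false
set_option linter.unusedSectionVars false
set_option linter.unusedVariables false
set_option maxHeartbeats 1000000

/-! The weakly closed elements of a Sylow subgroup form a direct factor of its centre. -/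

namespace Cfsg.Agent.Lib.Helper1.GA

open Cfsg Cfsg.FusionSystem Cfsg.Agent.Lib.Helper9 Cfsg.Agent.Lib.Helper1.GN
open scoped Pointwise

universe u

section weakly

variable {G : Type u} [Group G]

/-- the set of elements of `S` that are their only conjugate in `S` -/
def WCl (S : Subgroup G) : Set G :=
  {x | x ∈ S ∧ ∀ g : G, g * x * g⁻¹ ∈ S → g * x * g⁻¹ = x}

theorem wcl_le_Zc {S : Subgroup G} {x : G} (hx : x ∈ WCl S) : x ∈ Zc S := by
  refine Subgroup.mem_inf.mpr ⟨hx.1, ?_⟩
  rw [Subgroup.mem_centralizer_iff]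
  intro s hs
  have h := hx.2 s (S.mul_mem (S.mul_mem hs hx.1) (S.inv_mem hs))
  exact mul_inv_eq_iff_eq_mul.mp h

variable [Finite G] {p : ℕ} [Fact p.Prime]

theorem wcl_closure (S : Sylow p G) {y : G}
    (hy : y ∈ Subgroup.closure (WCl (S : Subgroup G)))
    (g : G) (hu : g * y * g⁻¹ ∈ (S : Subgroup G)) : g * y * g⁻¹ = y := by
  have hcl : Subgroup.closure (WCl (S : Subgroup G)) ≤ Zc (S : Subgroup G) :=
    (Subgroup.closure_le _).mpr (fun x hx => wcl_le_Zc hx)
  have hyZ := hcl hy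
  have hyZ' : y ∈ (S : Subgroup G) ⊓ Subgroup.centralizer ((S : Subgroup G) : Set G) := hyZ
  have hyS : y ∈ (S : Subgroup G) := (Subgroup.mem_inf.mp hyZ').1
  have hyc : ∀ s ∈ (S : Subgroup G), s * y = y * s :=
    Subgroup.mem_centralizer_iff.mp (Subgroup.mem_inf.mp hyZ').2
  obtain ⟨u, hudef⟩ : ∃ u, u = g * y * g⁻¹ := ⟨_, rfl⟩
  rw [← hudef] at hu ⊢
  obtain ⟨C, hC⟩ : ∃ C : Subgroup G, ∀ z, z ∈ C ↔ z * u = u * z :=
    ⟨Subgroup.centralizer {u}, fun z => by
      rw [Subgroup.mem_centralizer_iff]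
      constructor
      · intro h
        exact (h u (Set.mem_singleton u)).symm
      · intro h w hw
        rw [Set.mem_singleton_iff] at hw
        rw [hw]
        exact h.symm⟩
  have hAC : ((g • S : Sylow p G) : Subgroup G) ≤ C := by
    intro a ha
    rw [Sylow.smul_def, Sylow.pointwise_smul_def] at ha
    obtain ⟨s, hs, rfl⟩ := (Subgroup.mem_smul_pointwise_iff_exists _ _ _).mp ha
    rw [hC, MulAut.smul_def, MulAut.conj_apply, hudef]
    have := hyc s hs
    calc g * s * g⁻¹ * (g * y * g⁻¹) = g * (s * y) * g⁻¹ := by group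
      _ = g * (y * s) * g⁻¹ := by rw [this]
      _ = g * y * g⁻¹ * (g * s * g⁻¹) := by group
  obtain ⟨c, hcC, R, hAR, hBR⟩ := exists_conj_le_common_sylow C
    ((g • S : Sylow p G) : Subgroup G) ((S : Subgroup G) ⊓ C) (g • S).2
    (S.2.to_le inf_le_left) hAC inf_le_right
  have hR : (R : Subgroup G) = ((g • S : Sylow p G) : Subgroup G) :=
    (g • S).is_maximal' R.2 hAR
  have hk : ∀ t ∈ (S : Subgroup G), t * u = u * t →
      (g⁻¹ * c) * t * (g⁻¹ * c)⁻¹ ∈ (S : Subgroup G) := by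
    intro t ht htu
    have h1 : MulAut.conj c • t ∈ MulAut.conj c • ((S : Subgroup G) ⊓ C) :=
      Subgroup.smul_mem_pointwise_smul _ _ _ (Subgroup.mem_inf.mpr ⟨ht, (hC t).mpr htu⟩)
    have h2 := hBR h1
    rw [hR, Sylow.smul_def, Sylow.pointwise_smul_def] at h2
    obtain ⟨s, hs, hse⟩ := (Subgroup.mem_smul_pointwise_iff_exists _ _ _).mp h2
    rw [MulAut.smul_def, MulAut.conj_apply, MulAut.smul_def, MulAut.conj_apply] at hse
    have h3 : (g⁻¹ * c) * t * (g⁻¹ * c)⁻¹ = s := by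
      rw [mul_inv_rev, inv_inv]
      calc g⁻¹ * c * t * (c⁻¹ * g) = g⁻¹ * (c * t * c⁻¹) * g := by group
        _ = g⁻¹ * (g * s * g⁻¹) * g := by rw [hse]
        _ = s := by group
    rw [h3]
    exact hs
  have hku : (g⁻¹ * c) * u * (g⁻¹ * c)⁻¹ = y := by
    have hcu : c * u = u * c := (hC c).mp hcC
    rw [mul_inv_rev, inv_inv]
    calc g⁻¹ * c * u * (c⁻¹ * g) = g⁻¹ * (c * u) * c⁻¹ * g := by group
      _ = g⁻¹ * (u * c) * c⁻¹ * g := by rw [hcu]
      _ = g⁻¹ * u * g := by group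
      _ = y := by rw [hudef]; group
  have hkW : WCl (S : Subgroup G) ⊆
      ((Subgroup.centralizer ({g⁻¹ * c} : Set G) : Subgroup G) : Set G) := by
    intro x hx
    have hxZ := wcl_le_Zc hx
    have hxZ' : x ∈ (S : Subgroup G) ⊓ Subgroup.centralizer ((S : Subgroup G) : Set G) := hxZ
    have hxu : x * u = u * x :=
      (Subgroup.mem_centralizer_iff.mp (Subgroup.mem_inf.mp hxZ').2 u hu).symm
    have h1 := hk x hx.1 hxu
    have h2 := hx.2 _ h1
    rw [SetLike.mem_coe, Subgroup.mem_centralizer_iff]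
    intro w hw
    rw [Set.mem_singleton_iff] at hw
    rw [hw]
    exact mul_inv_eq_iff_eq_mul.mp h2
  have hky : y ∈ Subgroup.centralizer ({g⁻¹ * c} : Set G) :=
    (Subgroup.closure_le _).mpr hkW hy
  have hky' : (g⁻¹ * c) * y = y * (g⁻¹ * c) :=
    Subgroup.mem_centralizer_iff.mp hky _ (Set.mem_singleton _)
  have h3 : (g⁻¹ * c) * y * (g⁻¹ * c)⁻¹ = y := by rw [hky', mul_inv_cancel_right]
  have h4 : (g⁻¹ * c) * u * (g⁻¹ * c)⁻¹ = (g⁻¹ * c) * y * (g⁻¹ * c)⁻¹ := hku.trans h3.symm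
  exact mul_left_cancel (mul_right_cancel h4)

theorem closure_wcl_le (S : Sylow p G) :
    Subgroup.closure (WCl (S : Subgroup G)) ≤ (S : Subgroup G) := by
  have hcl : Subgroup.closure (WCl (S : Subgroup G)) ≤ Zc (S : Subgroup G) :=
    (Subgroup.closure_le _).mpr (fun x hx => wcl_le_Zc hx)
  intro x hx
  have h : x ∈ (S : Subgroup G) ⊓ Subgroup.centralizer ((S : Subgroup G) : Set G) := hcl hx
  exact (Subgroup.mem_inf.mp h).1

/-- the centre of `F_S(G)` is the set of weakly closed elements -/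
theorem center_group_iff (S : Sylow p G) (x : G) :
    x ∈ (groupFusionSystem (S : Subgroup G)).center ↔ x ∈ WCl (S : Subgroup G) := by
  constructor
  · intro hx
    have hc := isCentral_center (groupFusionSystem (S : Subgroup G))
    have hxS : x ∈ (S : Subgroup G) := hc.1 hx
    refine ⟨hxS, fun g hg => ?_⟩
    have hle : Subgroup.zpowers x ≤ (S : Subgroup G) := by
      rw [Subgroup.zpowers_le]
      exact hxS
    have hφ : conjHom (Subgroup.zpowers x) g ∈
        (groupFusionSystem (S : Subgroup G)).Hom (Subgroup.zpowers x) := by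
      refine ⟨hle, fun y => ?_, g, fun y => rfl⟩
      obtain ⟨k, hk⟩ := Subgroup.mem_zpowers_iff.mp y.2
      show g * (y : G) * g⁻¹ ∈ (S : Subgroup G)
      rw [← hk, ← conj_zpow]
      exact (S : Subgroup G).zpow_mem hg k
    exact map_eq_of_isCentral _ hc hφ ⟨x, Subgroup.mem_zpowers x⟩ hx
  · intro hx
    have hfix : Cfsg.Agent.Lib.Helper1.WC.FixG (groupFusionSystem (S : Subgroup G))
        (Subgroup.closure (WCl (S : Subgroup G))) := by
      rintro P φ ⟨hPS, hφS, g, hg⟩ y hy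
      rw [hg y]
      exact wcl_closure S hy g (by rw [← hg y]; exact hφS y)
    have hcen := Cfsg.Agent.Lib.Helper1.WC.isCentral_of_fixG S.2
      (groupFusionSystem (S : Subgroup G)) (groupFusion_saturated S) (closure_wcl_le S) hfix
    exact (le_sSup hcen : Subgroup.closure (WCl (S : Subgroup G)) ≤
      (groupFusionSystem (S : Subgroup G)).center) (Subgroup.subset_closure hx)

/-- **S1945** -/
theorem sylow_center_splits (S : Sylow p G) (h : p ≠ 2 ∨ Group.IsSolvable G) :
    ∃ W K : Subgroup G, (∀ x : G, x ∈ W ↔ (x ∈ (S : Subgroup G) ∧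
        ∀ g : G, g * x * g⁻¹ ∈ (S : Subgroup G) → g * x * g⁻¹ = x)) ∧
      K ≤ ((S : Subgroup G) ⊓ Subgroup.centralizer ((S : Subgroup G) : Set G)) ∧ W ⊓ K = ⊥ ∧
      W ⊔ K = ((S : Subgroup G) ⊓ Subgroup.centralizer ((S : Subgroup G) : Set G)) := by
  rcases h with hp | hsol
  · obtain ⟨K, hK1, hK2, hK3⟩ := center_factor p hp S.2
      (groupFusionSystem (S : Subgroup G)) (groupFusion_saturated S)
    exact ⟨(groupFusionSystem (S : Subgroup G)).center, K, fun x => center_group_iff S x,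
      hK1, hK2, hK3⟩
  · exact Cfsg.Agent.S1944.result S
      (center_sylow_le_pPrimePCore (Cfsg.Agent.Lib.Helper3.isPSolvable_of_isSolvable p hsol) S)

end weakly

end Cfsg.Agent.Lib.Helper1.GA
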