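import Mathlib
import Cfsg.Agent.Lib.Helper1.WC4
import Cfsg.Agent.Lib.Helper2.SylowNormal

set_option autoImplicit false
set_option linter.style.haveILetI false
set_option linter.unusedSectionVars false
set_option linter.unusedVariables false
set_option maxHeartbeats 1000000

/-! Functors with the quadratic element condition control `p`-th powers of the centre. -/

namespace Cfsg.Agent.Lib.Helper1.GB

open Cfsg Cfsg.FusionSystem Cfsg.Agent.Lib.Helper1.GF Cfsg.Agent.Lib.Helper1.WC

universe u

open scoped commutatorElement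

/-- if `g y g⁻¹ = c y` with `c` commuting with `g` then `g^k y g^-k = c^k y` -/
theorem conj_pow_of_commute {L : Type*} [Group L] (g y c : L) (hc : g * y * g⁻¹ = c * y)
    (hcg : g * c = c * g) (k : ℕ) : g ^ k * y * (g ^ k)⁻¹ = c ^ k * y := by
  induction k with
  | zero => simp
  | succ k ih =>
    have hcgk : g * c ^ k = c ^ k * g := (Commute.pow_right (show Commute g c from hcg) k).eq
    calc g ^ (k + 1) * y * (g ^ (k + 1))⁻¹ = g * (g ^ k * y * (g ^ k)⁻¹) * g⁻¹ := by
          rw [pow_succ']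
          simp only [mul_inv_rev, mul_assoc]
      _ = g * (c ^ k * y) * g⁻¹ := by rw [ih]
      _ = (g * c ^ k) * y * g⁻¹ := by simp only [mul_assoc]
      _ = c ^ k * (g * y * g⁻¹) := by rw [hcgk]; simp only [mul_assoc]
      _ = c ^ (k + 1) * y := by rw [hc, pow_succ]; simp only [mul_assoc]

theorem mem_center_map {L : Type*} [Group L] (Q : Subgroup L) (v : L) :
    v ∈ (Subgroup.center ↥Q).map Q.subtype ↔ v ∈ Q ∧ ∀ q ∈ Q, q * v = v * q := by
  constructor
  · rintro ⟨⟨v, hv⟩, hz, rfl⟩
    refine ⟨hv, fun q hq => ?_⟩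
    have := Subgroup.mem_center_iff.mp hz ⟨q, hq⟩
    exact congrArg Subtype.val this
  · rintro ⟨hv, h⟩
    exact ⟨⟨v, hv⟩, Subgroup.mem_center_iff.mpr (fun q => Subtype.ext (h q.1 q.2)), rfl⟩

/-- the centre of a normal subgroup is invariant under conjugation -/
theorem conj_mem_center_map {L : Type*} [Group L] (Q : Subgroup L) (hQn : Q.Normal) {v : L}
    (hv : v ∈ (Subgroup.center ↥Q).map Q.subtype) (g : L) :
    g * v * g⁻¹ ∈ (Subgroup.center ↥Q).map Q.subtype := by
  rw [mem_center_map] at hv ⊢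
  refine ⟨hQn.conj_mem v hv.1 g, fun q hq => ?_⟩
  have hq' : g⁻¹ * q * g ∈ Q := by
    have := hQn.conj_mem q hq g⁻¹
    rwa [inv_inv] at this
  have h1 := hv.2 _ hq'
  calc q * (g * v * g⁻¹) = g * ((g⁻¹ * q * g) * v) * g⁻¹ := by group
    _ = g * (v * (g⁻¹ * q * g)) * g⁻¹ := by rw [h1]
    _ = g * v * g⁻¹ * q := by group

/-- a quadratically acting element whose `p`-th power lies in `Q` centralizes the `p`-th powers of
`Z(Q)` -/
theorem conj_pow_fixed {L : Type*} [Group L] {p : ℕ} (Q : Subgroup L) (hQn : Q.Normal) {g : L}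
    (hgp : g ^ p ∈ Q)
    (hquad : ⁅⁅(Subgroup.center ↥Q).map Q.subtype, Subgroup.zpowers g⁆, Subgroup.zpowers g⁆ = ⊥)
    {y : L} (hy : y ∈ (Subgroup.center ↥Q).map Q.subtype) : g * y ^ p * g⁻¹ = y ^ p := by
  obtain ⟨V, hV⟩ : ∃ V, V = (Subgroup.center ↥Q).map Q.subtype := ⟨_, rfl⟩
  rw [← hV] at hquad hy
  have hgy : g * y * g⁻¹ ∈ V := by
    rw [hV] at hy ⊢
    exact conj_mem_center_map Q hQn hy g
  obtain ⟨c, hcdef⟩ : ∃ c, c = g * y * g⁻¹ * y⁻¹ := ⟨_, rfl⟩
  have hcV : c ∈ V := by
    rw [hcdef]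
    exact V.mul_mem hgy (V.inv_mem hy)
  have hc1 : c ∈ ⁅V, Subgroup.zpowers g⁆ := by
    rw [Subgroup.commutator_comm, hcdef]
    exact Subgroup.commutator_mem_commutator (Subgroup.mem_zpowers g) hy
  have hc2 : ⁅c, g⁆ = 1 := by
    have h1 : ⁅c, g⁆ ∈ ⁅⁅V, Subgroup.zpowers g⁆, Subgroup.zpowers g⁆ :=
      Subgroup.commutator_mem_commutator hc1 (Subgroup.mem_zpowers g)
    rw [hquad, Subgroup.mem_bot] at h1
    exact h1
  have hcg : g * c = c * g := ((commutatorElement_eq_one_iff_commute.mp hc2).eq).symm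
  have hc : g * y * g⁻¹ = c * y := by
    rw [hcdef]; group
  have h1 := conj_pow_of_commute g y c hc hcg p
  have hyQ := (mem_center_map Q y).mp (hV ▸ hy)
  have h2 : g ^ p * y = y * g ^ p := hyQ.2 _ hgp
  have h3 : g ^ p * y * (g ^ p)⁻¹ = y := by
    rw [h2, mul_inv_cancel_right]
  have hcp : c ^ p = 1 := by
    rw [h3] at h1
    have : c ^ p * y = 1 * y := by rw [one_mul]; exact h1.symm
    exact mul_right_cancel this
  have hcQ := (mem_center_map Q c).mp (hV ▸ hcV)
  have hcy : Commute c y := hyQ.2 c hcQ.1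
  calc g * y ^ p * g⁻¹ = (g * y * g⁻¹) ^ p := (conj_pow).symm
    _ = (c * y) ^ p := by rw [hc]
    _ = c ^ p * y ^ p := hcy.mul_pow p
    _ = y ^ p := by rw [hcp, one_mul]

section quad

variable {p : ℕ} [Fact p.Prime] (W : ∀ (Q : Type u) [Group Q], Subgroup Q)

/-- the functor's value on a Sylow subgroup of a subgroup -/
theorem Wsub_subtype_map
    (hW2 : ∀ (Q R : Type u) [Group Q] [Group R] [Finite Q], IsPGroup p Q →
      ∀ φ : Q ≃* R, (W Q).map φ.toMonoidHom = W R)
    {L : Type u} [Group L] [Finite L] (P : Sylow p L) (H : Subgroup L)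
    (hPH : (P : Subgroup L) ≤ H) :
    (Wsub W ((P.subtype hPH : Sylow p H) : Subgroup H)).map H.subtype =
      Wsub W (P : Subgroup L) := by
  obtain ⟨P', hP'⟩ : ∃ P' : Subgroup H, P' = ((P.subtype hPH : Sylow p H) : Subgroup H) :=
    ⟨_, rfl⟩
  rw [← hP']
  have hP'' : P' = (P : Subgroup L).subgroupOf H := by rw [hP']; rfl
  have hP'p : IsPGroup p ↥P' := by
    rw [hP']
    exact (P.subtype hPH).isPGroup'
  unfold Wsub
  rw [Subgroup.map_map]
  apply W_map_hom W hW2 hP'p (H.subtype.comp P'.subtype)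
  · intro a b hab
    apply Subtype.ext
    apply Subtype.ext
    exact hab
  · ext x
    constructor
    · rintro ⟨a, rfl⟩
      have h1 : (a : H) ∈ P' := a.2
      have h2 : (a : H) ∈ (P : Subgroup L).subgroupOf H := by
        rw [← hP'']
        exact h1
      exact Subgroup.mem_subgroupOf.mp h2
    · intro hx
      have hx' : (⟨x, hPH hx⟩ : H) ∈ P' := by
        rw [hP'']
        exact Subgroup.mem_subgroupOf.mpr hx
      exact ⟨⟨⟨x, hPH hx⟩, hx'⟩, rfl⟩

theorem quad_main
    (hW2 : ∀ (Q R : Type u) [Group Q] [Group R] [Finite Q], IsPGroup p Q →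
      ∀ φ : Q ≃* R, (W Q).map φ.toMonoidHom = W R)
    (hq : ∀ (G : Type u) [Group G] [Finite G] (P : Sylow p G),
      ¬ (((W ↥(P : Subgroup G)).map (P : Subgroup G).subtype : Subgroup G)).Normal →
      ∃ g : G, g ∈ (P : Subgroup G) ∧ g ∉ Cfsg.pCore p G ∧
        ⁅⁅Subgroup.center ↥(Cfsg.pCore p G) |>.map (Cfsg.pCore p G).subtype, Subgroup.zpowers g⁆,
          Subgroup.zpowers g⁆ = ⊥) :
    ∀ (n : ℕ) (L : Type u) [Group L] [Finite L], Nat.card L ≤ n → ∀ (P : Sylow p L),
      Subgroup.centralizer ((pCore p L : Subgroup L) : Set L) ≤ pCore p L →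
      ∀ y ∈ (P : Subgroup L) ⊓ Subgroup.centralizer ((P : Subgroup L) : Set L),
      (∀ m ∈ Subgroup.normalizer ((Wsub W (P : Subgroup L) : Subgroup L) : Set L),
        m * y ^ p * m⁻¹ = y ^ p) →
      ∀ g : L, g * y ^ p * g⁻¹ = y ^ p := by
  intro n
  induction n with
  | zero =>
    intro L _ _ hcard
    exfalso
    have := Nat.card_pos (α := L)
    omega
  | succ n ih =>
    intro L _ _ hcard P hcent y hy hnorm
    by_cases hWn : (((W ↥(P : Subgroup L)).map (P : Subgroup L).subtype : Subgroup L)).Normal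
    · intro g
      apply hnorm g
      have : Subgroup.normalizer ((Wsub W (P : Subgroup L) : Subgroup L) : Set L) = ⊤ := by
        exact Subgroup.normalizer_eq_top_iff.mpr hWn
      rw [this]
      exact Subgroup.mem_top g
    · obtain ⟨g0, hg0P, hg0Q, hquad⟩ := hq L P hWn
      obtain ⟨Q, hQ⟩ : ∃ Q, Q = pCore p L := ⟨_, rfl⟩
      rw [← hQ] at hg0Q hquad hcent
      have hQn : Q.Normal := hQ ▸ Cfsg.Agent.Lib.Helper1.pCore_normal p
      have hQP : Q ≤ (P : Subgroup L) := hQ ▸ Cfsg.Agent.Lib.Helper1.pCore_le_sylow p P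
      have hQp : IsPGroup p Q := hQ ▸ Cfsg.Agent.Lib.Helper1.pCore_isPGroup p
      have hyP : y ∈ (P : Subgroup L) := hy.1
      have hyc : ∀ s ∈ (P : Subgroup L), s * y = y * s :=
        fun s hs => Subgroup.mem_centralizer_iff.mp hy.2 s hs
      have hyQ : y ∈ Q := hcent (Subgroup.centralizer_le (SetLike.coe_subset_coe.mpr hQP) hy.2)
      have hyV : y ∈ (Subgroup.center ↥Q).map Q.subtype := by
        rw [mem_center_map]
        exact ⟨hyQ, fun q hq => hyc q (hQP hq)⟩
      -- the centralizer of `y ^ p`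
      obtain ⟨C, hCdef⟩ : ∃ C, C = Subgroup.centralizer ({y ^ p} : Set L) := ⟨_, rfl⟩
      have hC : ∀ t, t ∈ C ↔ t * y ^ p * t⁻¹ = y ^ p := by
        intro t
        rw [hCdef, Subgroup.mem_centralizer_iff]
        constructor
        · intro h
          have h1 := h (y ^ p) rfl
          rw [← h1, mul_inv_cancel_right]
        · intro h z hz
          rw [Set.mem_singleton_iff] at hz
          rw [hz]
          calc y ^ p * t = t * y ^ p * t⁻¹ * t := by rw [h]
            _ = t * y ^ p := by group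
      -- Claim A
      have hA : ∀ H : Subgroup L, (P : Subgroup L) ≤ H → H ≠ ⊤ → H ≤ C := by
        intro H hPH hHtop h hh
        rw [hC]
        have hcardH : Nat.card H ≤ n := by
          have h1 : Nat.card H ≤ Nat.card L := Subgroup.card_le_card_group H
          have h2 : Nat.card H ≠ Nat.card L := fun he => hHtop (Subgroup.eq_top_of_card_eq H he)
          omega
        obtain ⟨P', hP'⟩ : ∃ P' : Sylow p H, P' = P.subtype hPH := ⟨_, rfl⟩
        have hP'c : (P' : Subgroup H) = (P : Subgroup L).subgroupOf H := by rw [hP']; rfl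
        have hQH : Q.subgroupOf H ≤ pCore p H := by
          apply Cfsg.Agent.Lib.Helper1.le_pCore
          · exact hQn.subgroupOf H
          · exact hQp.comap_subtype
        have hcentH : Subgroup.centralizer ((pCore p H : Subgroup H) : Set H) ≤ pCore p H := by
          intro c hc
          apply hQH
          rw [Subgroup.mem_subgroupOf]
          apply hcent
          rw [Subgroup.mem_centralizer_iff]
          intro q hq
          have hqH : (⟨q, hPH (hQP hq)⟩ : H) ∈ pCore p H :=
            hQH (Subgroup.mem_subgroupOf.mpr hq)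
          have := Subgroup.mem_centralizer_iff.mp hc _ hqH
          exact congrArg Subtype.val this
        obtain ⟨y', hy'def⟩ : ∃ y' : H, y' = ⟨y, hPH hyP⟩ := ⟨_, rfl⟩
        have hy'v : (y' : L) = y := by rw [hy'def]
        have hy' : y' ∈ (P' : Subgroup H) ⊓ Subgroup.centralizer ((P' : Subgroup H) : Set H) := by
          refine Subgroup.mem_inf.mpr ⟨?_, ?_⟩
          · rw [hP'c, Subgroup.mem_subgroupOf, hy'v]
            exact hyP
          · rw [Subgroup.mem_centralizer_iff]
            intro s hs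
            rw [SetLike.mem_coe, hP'c, Subgroup.mem_subgroupOf] at hs
            apply Subtype.ext
            rw [Subgroup.coe_mul, Subgroup.coe_mul, hy'v]
            exact hyc _ hs
        have hWmap : (Wsub W (P' : Subgroup H)).map H.subtype = Wsub W (P : Subgroup L) := by
          rw [hP']
          exact Wsub_subtype_map W hW2 P H hPH
        have hnorm' : ∀ m ∈ Subgroup.normalizer ((Wsub W (P' : Subgroup H) : Subgroup H) : Set H),
            m * y' ^ p * m⁻¹ = y' ^ p := by
          intro m hm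
          have hmL : (m : L) ∈ Subgroup.normalizer
              ((Wsub W (P : Subgroup L) : Subgroup L) : Set L) := by
            apply Cfsg.Agent.Lib.Helper1.KN.mem_normalizer_of_forall_conj_mem
            intro w hw
            rw [← hWmap] at hw ⊢
            obtain ⟨w', hw', rfl⟩ := hw
            have h1 := (Subgroup.mem_normalizer_iff.mp hm w').mp hw'
            exact ⟨m * w' * m⁻¹, h1, rfl⟩
          have h2 := hnorm _ hmL
          apply Subtype.ext
          rw [Subgroup.coe_mul, Subgroup.coe_mul, Subgroup.coe_inv, Subgroup.coe_pow, hy'v]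
          exact h2
        have h3 := ih ↥H hcardH P' hcentH y' hy' hnorm' ⟨h, hh⟩
        have h4 := congrArg Subtype.val h3
        rw [Subgroup.coe_mul, Subgroup.coe_mul, Subgroup.coe_inv, Subgroup.coe_pow, hy'v] at h4
        exact h4
      -- the power trick
      have hpow : ∃ k : ℕ, g0 ^ (p ^ k) ∈ Q := by
        obtain ⟨k, hk⟩ := P.isPGroup' ⟨g0, hg0P⟩
        refine ⟨k, ?_⟩
        have h1 : g0 ^ (p ^ k) = 1 := by
          have := congrArg Subtype.val hk
          simpa using this
        rw [h1]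
        exact Q.one_mem
      classical
      obtain ⟨k0, hk0def⟩ : ∃ k0, k0 = Nat.find hpow := ⟨_, rfl⟩
      have hk0 : g0 ^ (p ^ k0) ∈ Q := hk0def ▸ Nat.find_spec hpow
      have hk0ne : k0 ≠ 0 := by
        intro h0
        rw [h0, pow_zero, pow_one] at hk0
        exact hg0Q hk0
      obtain ⟨k1, hk1⟩ := Nat.exists_eq_succ_of_ne_zero hk0ne
      obtain ⟨g, hgdef⟩ : ∃ g, g = g0 ^ (p ^ k1) := ⟨_, rfl⟩
      have hgQ : g ∉ Q := by
        rw [hgdef]
        apply Nat.find_min hpow
        rw [← hk0def, hk1]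
        exact Nat.lt_succ_self k1
      have hgp : g ^ p ∈ Q := by
        rw [hgdef, ← pow_mul, ← pow_succ, ← Nat.succ_eq_add_one, ← hk1]
        exact hk0
      have hgP : g ∈ (P : Subgroup L) := by
        rw [hgdef]
        exact Subgroup.pow_mem _ hg0P _
      have hzp : Subgroup.zpowers g ≤ Subgroup.zpowers g0 := by
        rw [Subgroup.zpowers_le, hgdef]
        exact Subgroup.pow_mem _ (Subgroup.mem_zpowers g0) _
      have hquad' : ⁅⁅(Subgroup.center ↥Q).map Q.subtype, Subgroup.zpowers g⁆,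
          Subgroup.zpowers g⁆ = ⊥ := by
        rw [← le_bot_iff, ← hquad]
        exact Subgroup.commutator_mono (Subgroup.commutator_mono le_rfl hzp) hzp
      -- conjugates of `g` centralize `y ^ p`
      have hconj : ∀ h : L, h * g * h⁻¹ ∈ C := by
        intro h
        rw [hC]
        have hy1 : h⁻¹ * y * h⁻¹⁻¹ ∈ (Subgroup.center ↥Q).map Q.subtype :=
          conj_mem_center_map Q hQn hyV h⁻¹
        have h1 := conj_pow_fixed (p := p) Q hQn hgp hquad' hy1
        rw [conj_pow, inv_inv] at h1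
        calc h * g * h⁻¹ * y ^ p * (h * g * h⁻¹)⁻¹
            = h * (g * (h⁻¹ * y ^ p * h) * g⁻¹) * h⁻¹ := by group
          _ = h * (h⁻¹ * y ^ p * h) * h⁻¹ := by rw [h1]
          _ = y ^ p := by group
      obtain ⟨X, hXdef⟩ : ∃ X, X = Subgroup.normalClosure ({g} : Set L) := ⟨_, rfl⟩
      have hXn : X.Normal := hXdef ▸ Subgroup.normalClosure_normal
      have hgX : g ∈ X := hXdef ▸ Subgroup.subset_normalClosure (Set.mem_singleton g)
      have hXC : X ≤ C := by
        rw [hXdef]
        unfold Subgroup.normalClosure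
        rw [Subgroup.closure_le]
        intro a ha
        rw [Group.mem_conjugatesOfSet_iff] at ha
        obtain ⟨b, hb, hba⟩ := ha
        rw [Set.mem_singleton_iff] at hb
        rw [hb] at hba
        obtain ⟨c, hc⟩ := isConj_iff.mp hba
        rw [← hc]
        exact hconj c
      -- Frattini
      obtain ⟨R, hRdef⟩ : ∃ R, R = (P : Subgroup L) ⊓ X := ⟨_, rfl⟩
      haveI := hXn
      obtain ⟨R', hR'⟩ := Cfsg.Agent.Lib.Helper2.exists_sylow_eq_inf_normal P X
      have hfr := Sylow.normalizer_sup_eq_top R'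
      rw [hR', Subgroup.map_subgroupOf_eq_of_le inf_le_right, ← hRdef] at hfr
      have hPN : (P : Subgroup L) ≤ Subgroup.normalizer ((R : Subgroup L) : Set L) := by
        intro s hs
        apply Cfsg.Agent.Lib.Helper1.KN.mem_normalizer_of_forall_conj_mem
        intro r hr
        rw [hRdef] at hr ⊢
        exact ⟨Subgroup.mul_mem _ (Subgroup.mul_mem _ hs hr.1) (Subgroup.inv_mem _ hs),
          hXn.conj_mem r hr.2 s⟩
      have hNtop : Subgroup.normalizer ((R : Subgroup L) : Set L) ≠ ⊤ := by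
        intro htop
        have hRn : R.Normal := by
          rw [← Subgroup.normalizer_eq_top_iff]
          exact htop
        have hRp : IsPGroup p R := by
          rw [hRdef]
          exact P.isPGroup'.to_le inf_le_left
        have hRQ : R ≤ Q := hQ ▸ Cfsg.Agent.Lib.Helper1.le_pCore hRn hRp
        apply hgQ
        apply hRQ
        rw [hRdef]
        exact ⟨hgP, hgX⟩
      have hNC := hA _ hPN hNtop
      have htop : (⊤ : Subgroup L) ≤ C := by
        rw [← hfr]
        exact sup_le hNC hXC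
      intro t
      exact (hC t).mp (htop (Subgroup.mem_top t))

/-- the local hypothesis for a functor with the quadratic element condition and `p`-th powers -/
theorem lh_quad
    (hW2 : ∀ (Q R : Type u) [Group Q] [Group R] [Finite Q], IsPGroup p Q →
      ∀ φ : Q ≃* R, (W Q).map φ.toMonoidHom = W R)
    (hq : ∀ (G : Type u) [Group G] [Finite G] (P : Sylow p G),
      ¬ (((W ↥(P : Subgroup G)).map (P : Subgroup G).subtype : Subgroup G)).Normal →
      ∃ g : G, g ∈ (P : Subgroup G) ∧ g ∉ Cfsg.pCore p G ∧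
        ⁅⁅Subgroup.center ↥(Cfsg.pCore p G) |>.map (Cfsg.pCore p G).subtype, Subgroup.zpowers g⁆,
          Subgroup.zpowers g⁆ = ⊥) :
    LH.{u, 0} p W True True (Equiv.Perm (Fin 4)) := by
  intro L _ _ P hcent _ x hx hpw hnorm g _
  obtain ⟨y, hy, rfl⟩ := hpw trivial
  exact quad_main W hW2 hq (Nat.card L) L le_rfl P hcent y hy hnorm g

/-- **S5253** -/
theorem quad_center_pow
    (hW1 : ∀ (Q : Type u) [Group Q] [Finite Q], IsPGroup p Q → Nontrivial Q → W Q ≠ ⊥)
    (hW2 : ∀ (Q R : Type u) [Group Q] [Group R] [Finite Q], IsPGroup p Q →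
      ∀ φ : Q ≃* R, (W Q).map φ.toMonoidHom = W R)
    (hq : ∀ (G : Type u) [Group G] [Finite G] (P : Sylow p G),
      ¬ (((W ↥(P : Subgroup G)).map (P : Subgroup G).subtype : Subgroup G)).Normal →
      ∃ g : G, g ∈ (P : Subgroup G) ∧ g ∉ Cfsg.pCore p G ∧
        ⁅⁅Subgroup.center ↥(Cfsg.pCore p G) |>.map (Cfsg.pCore p G).subtype, Subgroup.zpowers g⁆,
          Subgroup.zpowers g⁆ = ⊥)
    {Ω : Type u} [Group Ω] {S : Subgroup Ω} [Finite S] (hS : IsPGroup p S)
    (F : Cfsg.FusionSystem S) (hF : F.IsSaturated p)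
    (N : Cfsg.FusionSystem (Cfsg.FusionSystem.normalizerIn S ((W ↥S).map S.subtype)))
    (hN : F.IsNormalizerSystem ((W ↥S).map S.subtype) N) :
    Subgroup.closure ((fun z => z ^ p) ''
      ((S ⊓ Subgroup.centralizer (S : Set Ω) : Subgroup Ω) : Set Ω)) ⊓ N.center ≤ F.center := by
  apply le_center_of_le_center_normalizer W hW1 hW2 (lh_quad W hW2 hq) hS F hF (Or.inl trivial)
    N hN inf_le_right
  intro _ z hz
  apply exists_pow_of_mem_closure (S ⊓ Subgroup.centralizer (S : Set Ω)) _ p hz.1
  intro a ha b hb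
  exact Subgroup.mem_centralizer_iff.mp hb.2 a ha.1

end quad

end Cfsg.Agent.Lib.Helper1.GB
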