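import Mathlib
import Cfsg.Agent.Lib.Helper1.WC3
import Cfsg.Agent.Lib.Helper2.Tr7
import Cfsg.Agent.Lib.Helper9.Focal

set_option autoImplicit false
set_option linter.style.haveILetI false
set_option linter.unusedSectionVars false
set_option linter.unusedVariables false
set_option maxHeartbeats 1000000

/-! Control of transfer by positive characteristic functors, part 1: definitions, elementary
lemmas, and the intersection of the focal subgroup with a normal subgroup. -/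

namespace Cfsg.Agent.Lib.Helper1.GC

open Cfsg Cfsg.FusionSystem Cfsg.Agent.Lib.Helper9 Cfsg.Agent.Lib.Helper1.KN
  Cfsg.Agent.Lib.Helper1.KL Cfsg.Agent.Lib.Helper1.QF Cfsg.Agent.Lib.Helper1.GF
  Cfsg.Agent.Lib.Helper1.WC

universe u

section defs

variable {Ω : Type*} [Group Ω]

/-- the focal subgroup of the normalizer system of `X` in `E` -/
def NFoc {T : Subgroup Ω} (E : FusionSystem T) (X : Subgroup Ω) : Subgroup Ω :=
  Subgroup.closure {y : Ω | ∃ (P : Subgroup Ω) (φ : P →* Ω) (x : P),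
    φ ∈ E.normalizerHom X P ∧ y = (x : Ω)⁻¹ * φ x}

/-- `[R, Aut_E(R)]` -/
def AutComm {T : Subgroup Ω} (E : FusionSystem T) (R : Subgroup Ω) : Subgroup Ω :=
  Subgroup.closure {y : Ω | ∃ (φ : R →* Ω) (x : R), φ ∈ E.Hom R ∧ y = (x : Ω)⁻¹ * φ x}

theorem mem_focal {T : Subgroup Ω} (E : FusionSystem T) {P : Subgroup Ω} {φ : P →* Ω}
    (hφ : φ ∈ E.Hom P) (x : P) : (x : Ω)⁻¹ * φ x ∈ E.focalSubgroup :=
  Subgroup.subset_closure ⟨P, φ, x, hφ, rfl⟩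

theorem mem_NFoc {T : Subgroup Ω} (E : FusionSystem T) {X P : Subgroup Ω} {φ : P →* Ω}
    (hφ : φ ∈ E.normalizerHom X P) (x : P) : (x : Ω)⁻¹ * φ x ∈ NFoc E X :=
  Subgroup.subset_closure ⟨P, φ, x, hφ, rfl⟩

theorem mem_autComm {T : Subgroup Ω} (E : FusionSystem T) {R : Subgroup Ω} {φ : R →* Ω}
    (hφ : φ ∈ E.Hom R) (x : R) : (x : Ω)⁻¹ * φ x ∈ AutComm E R :=
  Subgroup.subset_closure ⟨φ, x, hφ, rfl⟩

theorem focal_le {T : Subgroup Ω} (E : FusionSystem T) : E.focalSubgroup ≤ T := by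
  apply (Subgroup.closure_le _).mpr
  rintro _ ⟨P, φ, x, hφ, rfl⟩
  obtain ⟨hPT, hφT⟩ := E.le_of_mem hφ
  exact T.mul_mem (T.inv_mem (hPT x.2)) (hφT x)

theorem NFoc_le_focal {T : Subgroup Ω} (E : FusionSystem T) (X : Subgroup Ω) :
    NFoc E X ≤ E.focalSubgroup := by
  apply Subgroup.closure_mono
  rintro _ ⟨P, φ, x, hφ, rfl⟩
  exact ⟨P, φ, x, hφ.1, rfl⟩

theorem focal_eq_NFoc {S : Subgroup Ω} (F : FusionSystem S) (X : Subgroup Ω)
    (N : FusionSystem (normalizerIn S X)) (hN : F.IsNormalizerSystem X N) :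
    N.focalSubgroup = NFoc F X := by
  apply le_antisymm
  · apply Subgroup.closure_mono
    rintro _ ⟨P, φ, x, hφ, rfl⟩
    rw [hN P] at hφ
    exact ⟨P, φ, x, hφ, rfl⟩
  · apply Subgroup.closure_mono
    rintro _ ⟨P, φ, x, hφ, rfl⟩
    rw [← hN P] at hφ
    exact ⟨P, φ, x, hφ, rfl⟩

theorem normalizerIn_mono_left {T S : Subgroup Ω} (hTS : T ≤ S) (X : Subgroup Ω) :
    normalizerIn T X ≤ normalizerIn S X := fun g hg => ⟨hTS hg.1, hg.2⟩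

theorem NFoc_mono {T S : Subgroup Ω} (hTS : T ≤ S) (E : FusionSystem T) (F : FusionSystem S)
    (h : ∀ (P : Subgroup Ω) (φ : P →* Ω), φ ∈ E.Hom P → φ ∈ F.Hom P) (X : Subgroup Ω) :
    NFoc E X ≤ NFoc F X := by
  apply Subgroup.closure_mono
  rintro _ ⟨P, φ, x, ⟨hφ, hP, hval, ψ, hψ, hext, hmap⟩, rfl⟩
  exact ⟨P, φ, x, ⟨h P φ hφ, hP.trans (normalizerIn_mono_left hTS X),
    fun z => normalizerIn_mono_left hTS X (hval z), ψ, h _ ψ hψ, hext, hmap⟩, rfl⟩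

theorem focal_mono {T S : Subgroup Ω} (E : FusionSystem T) (F : FusionSystem S)
    (h : ∀ (P : Subgroup Ω) (φ : P →* Ω), φ ∈ E.Hom P → φ ∈ F.Hom P) :
    E.focalSubgroup ≤ F.focalSubgroup := by
  apply Subgroup.closure_mono
  rintro _ ⟨P, φ, x, hφ, rfl⟩
  exact ⟨P, φ, x, h P φ hφ, rfl⟩

open scoped commutatorElement in
theorem comm_le_NFoc {T : Subgroup Ω} [Finite T] (E : FusionSystem T) {X : Subgroup Ω}
    (hXT : X ≤ T) (hNX : normalizerIn T X = T) : ⁅T, T⁆ ≤ NFoc E X := by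
  apply Subgroup.commutator_le.mpr
  intro a ha b hb
  haveI : Finite X := finite_of_le hXT
  have hTN : T ≤ normalizerIn T X := hNX.ge
  have hφ : conjHom T b ∈ E.Hom T := E.conj_mem le_rfl hb
  have hbn : b ∈ Subgroup.normalizer (X : Set Ω) := (hTN hb).2
  have hmap : (X.subgroupOf T).map (conjHom T b) = X := by
    apply map_eq_of_forall_mem (conjHom T b) (E.injective_of_mem hφ) hXT
    intro y hy
    rw [conjHom_apply]
    exact (Subgroup.mem_normalizer_iff.mp hbn y).mp hy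
  have hmem : conjHom T b ∈ E.normalizerHom X T :=
    mem_normalizerHom_of_map_eq E hXT hTN hφ hmap
  have h1 := mem_NFoc E hmem ⟨a⁻¹, T.inv_mem ha⟩
  have e : ⁅a, b⁆ = ((⟨a⁻¹, T.inv_mem ha⟩ : T) : Ω)⁻¹ * conjHom T b ⟨a⁻¹, T.inv_mem ha⟩ := by
    rw [commutatorElement_def, conjHom_apply]
    show a * b * a⁻¹ * b⁻¹ = (a⁻¹)⁻¹ * (b * a⁻¹ * b⁻¹)
    group
  rw [e]
  exact h1

theorem autComm_le {T : Subgroup Ω} (E : FusionSystem T) {R : Subgroup Ω}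
    (hsc : E.StronglyClosed R) : AutComm E R ≤ R := by
  apply (Subgroup.closure_le _).mpr
  rintro _ ⟨φ, x, hφ, rfl⟩
  exact R.mul_mem (R.inv_mem x.2) (hsc.2 R le_rfl φ hφ x)

theorem autComm_map_mem {T : Subgroup Ω} (E : FusionSystem T) {R : Subgroup Ω}
    (hsc : E.StronglyClosed R) {α : R →* Ω} (hα : α ∈ E.Hom R) :
    ∀ u ∈ AutComm E R, ∀ hu : u ∈ R, α ⟨u, hu⟩ ∈ AutComm E R := by
  intro u hu
  have hu' : u ∈ Subgroup.closure {y : Ω | ∃ (φ : R →* Ω) (x : R), φ ∈ E.Hom R ∧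
      y = (x : Ω)⁻¹ * φ x} := hu
  refine Subgroup.closure_induction
    (p := fun u _ => ∀ hu : u ∈ R, α ⟨u, hu⟩ ∈ AutComm E R) ?_ ?_ ?_ ?_ hu'
  · rintro _ ⟨β, x, hβ, rfl⟩ hmem
    have hβx : β x ∈ R := hsc.2 R le_rfl β hβ x
    have e : (⟨(x : Ω)⁻¹ * β x, hmem⟩ : R) = x⁻¹ * ⟨β x, hβx⟩ := rfl
    rw [e, map_mul, map_inv]
    have h1 := mem_autComm E hα x
    have h2 := mem_autComm E hβ x
    have h3 := mem_autComm E hα ⟨β x, hβx⟩
    have e2 : (α x)⁻¹ * α ⟨β x, hβx⟩ =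
        ((x : Ω)⁻¹ * α x)⁻¹ * ((x : Ω)⁻¹ * β x) * ((β x)⁻¹ * α ⟨β x, hβx⟩) := by group
    rw [e2]
    exact Subgroup.mul_mem _ (Subgroup.mul_mem _ (Subgroup.inv_mem _ h1) h2) h3
  · intro h1
    have e : (⟨1, h1⟩ : R) = 1 := rfl
    rw [e, map_one]
    exact Subgroup.one_mem _
  · intro a b ha hb iha ihb hab
    have haR : a ∈ R := autComm_le E hsc ha
    have hbR : b ∈ R := autComm_le E hsc hb
    have e : (⟨a * b, hab⟩ : R) = ⟨a, haR⟩ * ⟨b, hbR⟩ := rfl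
    rw [e, map_mul]
    exact Subgroup.mul_mem _ (iha haR) (ihb hbR)
  · intro a ha iha hainv
    have haR : a ∈ R := autComm_le E hsc ha
    have e : (⟨a⁻¹, hainv⟩ : R) = (⟨a, haR⟩)⁻¹ := rfl
    rw [e, map_inv]
    exact Subgroup.inv_mem _ (iha haR)

theorem autComm_stronglyClosed {T : Subgroup Ω} (E : FusionSystem T) {R : Subgroup Ω}
    (hRn : E.IsNormal R) (hsc : E.StronglyClosed R) : E.StronglyClosed (AutComm E R) := by
  have hUR := autComm_le E hsc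
  refine ⟨hUR.trans hsc.1, ?_⟩
  intro P hPU φ hφ x
  obtain ⟨ψ, hψ, hψext, hψR⟩ := hRn.2 P φ hφ
  have hRle : R ≤ P ⊔ R := le_sup_right
  have hα : ψ.comp (Subgroup.inclusion hRle) ∈ E.Hom R := restrict_mem E hψ hRle
  have hxU : (x : Ω) ∈ AutComm E R := hPU x.2
  have hxR : (x : Ω) ∈ R := hUR hxU
  have h1 := autComm_map_mem E hsc hα (x : Ω) hxU hxR
  have e : (ψ.comp (Subgroup.inclusion hRle)) ⟨(x : Ω), hxR⟩ = φ x := by
    rw [← hψext x]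
    rfl
  rw [← e]
  exact h1

theorem autComm_mono {T S : Subgroup Ω} (E : FusionSystem T) (F : FusionSystem S)
    (R : Subgroup Ω) (h : ∀ φ : R →* Ω, φ ∈ E.Hom R → φ ∈ F.Hom R) :
    AutComm E R ≤ AutComm F R := by
  apply Subgroup.closure_mono
  rintro _ ⟨φ, x, hφ, rfl⟩
  exact ⟨φ, x, h φ hφ, rfl⟩

end defs

/-- the image of the focal subgroup in a factor system lies in the focal subgroup -/
theorem focal_map_le {Ω : Type*} [Group Ω] {T : Subgroup Ω} [Finite T] {p : ℕ} [Fact p.Prime]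
    (hT : IsPGroup p T) (D : FusionSystem T) (hD : D.IsSaturated p) {R : Subgroup Ω}
    (hsc : D.StronglyClosed R) {Ω' : Type*} [Group Ω'] {S' : Subgroup Ω'} (θ : ↥T →* Ω')
    (Eb : FusionSystem S') (hfac : D.IsFactorSystem R θ Eb) :
    ∀ w ∈ D.focalSubgroup, ∀ hw : w ∈ T, θ ⟨w, hw⟩ ∈ Eb.focalSubgroup := by
  have hmor := factor_isSurjectiveMorphism p hT D hD R hsc θ Eb hfac
  intro w hw
  have hw' : w ∈ Subgroup.closure {y : Ω | ∃ (P : Subgroup Ω) (φ : P →* Ω) (x : P),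
      φ ∈ D.Hom P ∧ y = (x : Ω)⁻¹ * φ x} := hw
  refine Subgroup.closure_induction
    (p := fun w _ => ∀ hw : w ∈ T, θ ⟨w, hw⟩ ∈ Eb.focalSubgroup) ?_ ?_ ?_ ?_ hw'
  · rintro _ ⟨P, φ, y, hφ, rfl⟩ hwT
    obtain ⟨φ', hφ', hPT, hφT, hP', hind⟩ := hmor.1.2 P φ hφ
    have e : (⟨(y : Ω)⁻¹ * φ y, hwT⟩ : T) = (⟨y, hPT y.2⟩ : T)⁻¹ * ⟨φ y, hφT y⟩ := rfl
    rw [e, map_mul, map_inv, ← hind y]
    exact mem_focal Eb hφ' ⟨θ ⟨y, hPT y.2⟩, hP' y⟩
  · intro h1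
    have e : (⟨1, h1⟩ : T) = 1 := rfl
    rw [e, map_one]
    exact Subgroup.one_mem _
  · intro a b ha hb iha ihb hab
    have haT : a ∈ T := focal_le D ha
    have hbT : b ∈ T := focal_le D hb
    have e : (⟨a * b, hab⟩ : T) = ⟨a, haT⟩ * ⟨b, hbT⟩ := rfl
    rw [e, map_mul]
    exact Subgroup.mul_mem _ (iha haT) (ihb hbT)
  · intro a ha iha hainv
    have haT : a ∈ T := focal_le D ha
    have e : (⟨a⁻¹, hainv⟩ : T) = (⟨a, haT⟩)⁻¹ := rfl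
    rw [e, map_inv]
    exact Subgroup.inv_mem _ (iha haT)

/-- for a subgroup `R` normal in a saturated system, `foc(D) ∩ R ≤ T' [R, Aut_D(R)]` -/
theorem focal_inf_le {Ω : Type u} [Group Ω] {T : Subgroup Ω} [Finite T] {p : ℕ} [Fact p.Prime]
    (hT : IsPGroup p T) (D : FusionSystem T) (hD : D.IsSaturated p) {R : Subgroup Ω}
    (hRn : D.IsNormal R) : D.focalSubgroup ⊓ R ≤ ⁅T, T⁆ ⊔ AutComm D R := by
  have hRT := hRn.1
  have hscR := stronglyClosed_of_normal D hRn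
  have hsc := autComm_stronglyClosed D hRn hscR
  obtain ⟨U, hUdef⟩ : ∃ U, U = AutComm D R := ⟨_, rfl⟩
  rw [← hUdef] at hsc ⊢
  have hUR : U ≤ R := by
    rw [hUdef]
    exact autComm_le D hscR
  have hUT : U ≤ T := hsc.1
  haveI : (U.subgroupOf T).Normal := subgroupOf_normal_of_stronglyClosed D hsc
  obtain ⟨θ, hθdef⟩ : ∃ θ : ↥T →* ↥T ⧸ U.subgroupOf T, θ = QuotientGroup.mk' (U.subgroupOf T) :=
    ⟨_, rfl⟩
  have hθsurj : Function.Surjective θ := by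
    rw [hθdef]
    exact QuotientGroup.mk'_surjective _
  obtain ⟨Eb, hfac⟩ := exists_factorSystem_quotient D U hsc
  rw [← hθdef] at hfac
  have hker := hfac.2.1
  have hrange := hfac.2.2.1
  have hHom := hfac.2.2.2
  haveI : Finite (↥T ⧸ U.subgroupOf T) := inferInstance
  haveI : Finite ↥(⊤ : Subgroup (↥T ⧸ U.subgroupOf T)) := inferInstance
  have hS'p : IsPGroup p ↥(⊤ : Subgroup (↥T ⧸ U.subgroupOf T)) :=
    isPGroup_of_range_eq hT θ hrange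
  have hEbsat := factorSystem_saturated p hT D hD hsc θ Eb hfac
  -- the image of `R` is central
  have hfix : FixG Eb (imageAlong θ R) := by
    intro Pb φb hφb xb hxb
    obtain ⟨-, ψ, hψ, hZT, hψT, hZim, hind⟩ := (hHom _ φb).mp hφb
    obtain ⟨r, hrT, hrR, hrx⟩ := (mem_imageAlong θ R _).mp hxb
    have hmem : θ ⟨r, hrT⟩ ∈ Pb := by
      rw [hrx]
      exact xb.2
    have hrZ : r ∈ preimageAlong θ Pb := (mem_preimageAlong θ _ _).mpr ⟨hrT, hmem⟩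
    obtain ⟨ψ', hψ', hψ'ext, hψ'R⟩ := hRn.2 _ ψ hψ
    have hRle : R ≤ preimageAlong θ Pb ⊔ R := le_sup_right
    have hα : ψ'.comp (Subgroup.inclusion hRle) ∈ D.Hom R := restrict_mem D hψ' hRle
    have h1 := mem_autComm D hα ⟨r, hrR⟩
    have e1 : (ψ'.comp (Subgroup.inclusion hRle)) ⟨r, hrR⟩ = ψ ⟨r, hrZ⟩ := by
      rw [← hψ'ext ⟨r, hrZ⟩]
      rfl
    rw [e1, ← hUdef] at h1
    have h2 : θ ((⟨r, hrT⟩ : T)⁻¹ * ⟨ψ ⟨r, hrZ⟩, hψT ⟨r, hrZ⟩⟩) = 1 := (hker _).mpr h1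
    rw [map_mul, map_inv, inv_mul_eq_one] at h2
    have e3 : xb = ⟨θ ⟨r, hrT⟩, hmem⟩ := Subtype.ext hrx.symm
    have h3 : φb ⟨θ ⟨r, hrT⟩, hmem⟩ = θ ⟨ψ ⟨r, hrZ⟩, hψT ⟨r, hrZ⟩⟩ := hind ⟨r, hrZ⟩
    rw [e3, h3]
    exact h2.symm
  have hRbtop : imageAlong θ R ≤ (⊤ : Subgroup (↥T ⧸ U.subgroupOf T)) := le_top
  have hcen : Eb.IsCentral (imageAlong θ R) := isCentral_of_fixG hS'p Eb hEbsat hRbtop hfix
  have hRbc : imageAlong θ R ≤ Eb.center := le_sSup hcen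
  have hfic := Cfsg.Agent.Lib.Helper2.Tr.focal_inf_center p hS'p Eb hEbsat
  rintro w ⟨hwf, hwR⟩
  have hwT : w ∈ T := hRT hwR
  have h1 : θ ⟨w, hwT⟩ ∈ Eb.focalSubgroup := focal_map_le hT D hD hsc θ Eb hfac w hwf hwT
  have h2 : θ ⟨w, hwT⟩ ∈ Eb.center := hRbc ((mem_imageAlong θ R _).mpr ⟨w, hwT, hwR, rfl⟩)
  have h3 : θ ⟨w, hwT⟩ ∈ ⁅(⊤ : Subgroup (↥T ⧸ U.subgroupOf T)), (⊤ : Subgroup (↥T ⧸ U.subgroupOf T))⁆ := by
    have h4 : θ ⟨w, hwT⟩ ∈ Eb.focalSubgroup ⊓ Eb.center := ⟨h1, h2⟩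
    rw [hfic] at h4
    exact h4.1
  have h5 : ⁅(⊤ : Subgroup (↥T ⧸ U.subgroupOf T)), (⊤ : Subgroup (↥T ⧸ U.subgroupOf T))⁆ = (⁅(⊤ : Subgroup ↥T), (⊤ : Subgroup ↥T)⁆).map θ := by
    rw [Subgroup.map_commutator, Subgroup.map_top_of_surjective θ hθsurj]
  rw [h5] at h3
  obtain ⟨c, hc, hcw⟩ := h3
  have h6 : ((c : ↥T) : Ω) ∈ ⁅T, T⁆ := by
    have h7 : (⁅(⊤ : Subgroup ↥T), (⊤ : Subgroup ↥T)⁆).map T.subtype = ⁅T, T⁆ := by
      rw [Subgroup.map_commutator, ← MonoidHom.range_eq_map, Subgroup.range_subtype]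
    rw [← h7]
    exact ⟨c, hc, rfl⟩
  have h8 : θ (c⁻¹ * ⟨w, hwT⟩) = 1 := by
    rw [map_mul, map_inv, hcw]
    exact inv_mul_cancel _
  have h9 : (c : Ω)⁻¹ * w ∈ U := (hker _).mp h8
  have e : w = (c : Ω) * ((c : Ω)⁻¹ * w) := by group
  rw [e]
  exact Subgroup.mul_mem_sup h6 h9

end Cfsg.Agent.Lib.Helper1.GC
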