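import Mathlib
import Cfsg.Agent.Lib.Helper1.GC1
import Cfsg.Agent.Lib.Helper1.WC4

set_option autoImplicit false
set_option linter.style.haveILetI false
set_option linter.unusedSectionVars false
set_option linter.unusedVariables false
set_option maxHeartbeats 1000000

/-! Control of transfer by positive characteristic functors, part 2: the constrained case,
the quotient step, and systems with a nontrivial normal subgroup. -/

namespace Cfsg.Agent.Lib.Helper1.GC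

open Cfsg Cfsg.FusionSystem Cfsg.Agent.Lib.Helper9 Cfsg.Agent.Lib.Helper1.KN
  Cfsg.Agent.Lib.Helper1.KL Cfsg.Agent.Lib.Helper1.QF Cfsg.Agent.Lib.Helper1.GF
  Cfsg.Agent.Lib.Helper1.WC

universe u

/-- the local hypothesis on groups of characteristic `p` -/
def LT (p : ℕ) (W : ∀ (Q : Type u) [Group Q], Subgroup Q) : Prop :=
  ∀ (G : Type u) [Group G] [Finite G] (P : Sylow p G),
    Subgroup.centralizer ((pCore p G : Subgroup G) : Set G) ≤ pCore p G →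
    pCore p G ⊓ commutator G = pCore p G ⊓
      (commutator ↥(Subgroup.normalizer ((Wsub W (P : Subgroup G) : Subgroup G) : Set G))).map
        (Subgroup.normalizer ((Wsub W (P : Subgroup G) : Subgroup G) : Set G)).subtype

/-- the induction hypothesis: the theorem for all smaller `p`-groups -/
def TIH (p : ℕ) (W : ∀ (Q : Type u) [Group Q], Subgroup Q) (n : ℕ) : Prop :=
  ∀ (Ω' : Type u) [Group Ω'] (S' : Subgroup Ω') [Finite S'], Nat.card S' < n → IsPGroup p S' →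
    ∀ F' : FusionSystem S', F'.IsSaturated p → F'.focalSubgroup ≤ NFoc F' (Wsub W S')

section functor

variable {p : ℕ} [Fact p.Prime] (W : ∀ (Q : Type u) [Group Q], Subgroup Q)

open scoped commutatorElement in
/-- the constrained case: `[R, Aut_E(R)]` lies in the focal subgroup of `N_E(W(T))` -/
theorem autComm_le_of_model
    (hW2 : ∀ (Q R : Type u) [Group Q] [Group R] [Finite Q], IsPGroup p Q →
      ∀ φ : Q ≃* R, (W Q).map φ.toMonoidHom = W R)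
    (hLT : LT p W)
    {Ω : Type u} [Group Ω] {T : Subgroup Ω} [Finite T] {L : Type u} [Group L]
    (hT : IsPGroup p T) (E : FusionSystem T) (ι : ↥T →* L) (hmodel : E.IsModel p L ι)
    {R : Subgroup Ω} (hRn : E.IsNormal R) : AutComm E R ≤ NFoc E (Wsub W T) := by
  obtain ⟨hfin, hreal, ⟨Sy, hSy⟩, hcent⟩ := id hmodel
  haveI := hfin
  have hinj := hreal.1
  have hRT := hRn.1
  have hscR := stronglyClosed_of_normal E hRn
  have hιSy : ∀ t : T, ι t ∈ (Sy : Subgroup L) := fun t => by rw [hSy]; exact ⟨t, rfl⟩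
  have hWmap : (W ↥T).map ι = Wsub W (Sy : Subgroup L) :=
    W_map_hom W hW2 hT ι hinj _ hSy.symm
  have hWiff : ∀ w : T, (w : Ω) ∈ Wsub W T ↔ ι w ∈ Wsub W (Sy : Subgroup L) := by
    intro w
    rw [← hWmap]
    constructor
    · rintro ⟨w', hw', hww'⟩
      have e : w' = w := Subtype.ext hww'
      rw [← e]
      exact ⟨w', hw', rfl⟩
    · rintro ⟨w', hw', hww'⟩
      have e : w' = w := hinj hww'
      rw [← e]
      exact ⟨w', hw', rfl⟩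
  have hNT : normalizerIn T (Wsub W T) = T :=
    normalizerIn_W_top (Wsub W) (fun T' => Wsub_le W T')
      (fun T₁ T₂ φ h1 h2 h3 => Wsub_map W hW2 hT T₁ T₂ φ h1 h2 h3)
  have hTN : ∀ t ∈ T, t ∈ normalizerIn T (Wsub W T) := fun t ht => by rw [hNT]; exact ht
  have hWT : Wsub W T ≤ T := Wsub_le W T
  haveI : Finite ↥(Wsub W T) := finite_of_le hWT
  have hpcSy : pCore p L ≤ (Sy : Subgroup L) := Cfsg.Agent.Lib.Helper7.pCore_le_sylow Sy
  -- `ι(R) ≤ O_p(L)`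
  haveI hRLn : ((R.subgroupOf T).map ι).Normal := map_normal_of_isModel p E ι hmodel hRn
  have hRLSy : (R.subgroupOf T).map ι ≤ Sy := by
    rintro _ ⟨x, -, rfl⟩
    exact hιSy x
  have hRLp : IsPGroup p ↥((R.subgroupOf T).map ι) := Sy.2.to_le hRLSy
  have hRpc : (R.subgroupOf T).map ι ≤ pCore p L := le_pCore hRLn hRLp
  -- the normalizer of `W(Sy)`
  have hLTL := hLT L Sy hcent
  obtain ⟨N, hNdef⟩ : ∃ N : Subgroup L,
      N = Subgroup.normalizer ((Wsub W (Sy : Subgroup L) : Subgroup L) : Set L) := ⟨_, rfl⟩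
  rw [← hNdef] at hLTL
  haveI : Finite ↥(Sy : Subgroup L) := inferInstance
  haveI : Finite ↥(Wsub W (Sy : Subgroup L)) := finite_of_le (Wsub_le W _)
  have hSyN : (Sy : Subgroup L) ≤ N := by
    intro s hs
    rw [hNdef]
    apply KN.mem_normalizer_of_forall_conj_mem
    intro x hx
    exact conj_mem_Wsub W hW2 Sy.2 (Subgroup.le_normalizer hs) hx
  obtain ⟨SyN, hSyNdef⟩ : ∃ SyN : Sylow p ↥N, SyN = Sy.subtype hSyN := ⟨_, rfl⟩
  have hSyNcoe : (SyN : Subgroup ↥N) = (Sy : Subgroup L).subgroupOf N := by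
    rw [hSyNdef]
    rfl
  have hfoc := Subgroup.commutator_inf_eq_focalSubgroup SyN
  -- the focal subgroup of `Sy` in `N` lies in the image of `NFoc`
  have hkey : ∀ n' ∈ (SyN : Subgroup ↥N).focalSubgroup,
      ((n' : ↥N) : L) ∈ (( NFoc E (Wsub W T)).subgroupOf T).map ι := by
    intro n' hn'
    have hle : (SyN : Subgroup ↥N).focalSubgroup ≤
        (((NFoc E (Wsub W T)).subgroupOf T).map ι).comap N.subtype := by
      rw [Subgroup.focalSubgroup_def]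
      apply (Subgroup.closure_le _).mpr
      rintro g ⟨hgSy, x, hxSy, u, hgxu⟩
      rw [hSyNcoe, Subgroup.mem_subgroupOf] at hgSy hxSy
      show ((g : ↥N) : L) ∈ ((NFoc E (Wsub W T)).subgroupOf T).map ι
      have hxr : (x : L) ∈ ι.range := by rw [← hSy]; exact hxSy
      obtain ⟨a, ha⟩ := hxr
      have hun : (u : L) ∈ Subgroup.normalizer ((Wsub W (Sy : Subgroup L) : Subgroup L) : Set L) := by
        rw [← hNdef]
        exact u.2
      have hgL : (g : L) = (x : L) * (u : L) * (x : L)⁻¹ * (u : L)⁻¹ := by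
        rw [hgxu, commutatorElement_def]
        rfl
      obtain ⟨Q₀, hQ₀T, φ₀, hφ₀T, hφ₀E, hφ₀ι, hQ₀mem⟩ := exists_hom_of_conj E ι hreal (u : L)
      have hWQ₀ : Wsub W T ≤ Q₀ := by
        intro w hw
        apply hQ₀mem w (hWT hw)
        have h1 := (hWiff ⟨w, hWT hw⟩).mp hw
        have h2 := (Subgroup.mem_normalizer_iff.mp hun _).mp h1
        have h3 := Wsub_le W _ h2
        rw [hSy] at h3
        exact h3
      have hφW : ∀ z : Q₀, (z : Ω) ∈ Wsub W T → φ₀ z ∈ Wsub W T := by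
        intro z hz
        apply (hWiff ⟨φ₀ z, hφ₀T z⟩).mpr
        have h2 := (hWiff ⟨z, hQ₀T z.2⟩).mp hz
        have h3 := (Subgroup.mem_normalizer_iff.mp hun _).mp h2
        rw [hφ₀ι z]
        exact h3
      have hainvT : ((a : ↥T) : Ω)⁻¹ ∈ T := T.inv_mem a.2
      have hainvQ₀ : ((a : ↥T) : Ω)⁻¹ ∈ Q₀ := by
        apply hQ₀mem _ hainvT
        rw [← hSy]
        have e1 : (⟨((a : ↥T) : Ω)⁻¹, hainvT⟩ : T) = a⁻¹ := rfl
        rw [e1, map_inv, ha]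
        have e2 : (u : L) * (x : L)⁻¹ * (u : L)⁻¹ = (x : L)⁻¹ * (g : L) := by
          rw [hgL]
          group
        rw [e2]
        exact Subgroup.mul_mem _ (Subgroup.inv_mem _ hxSy) hgSy
      have hle' : Q₀ ⊔ Wsub W T ≤ Q₀ := _root_.sup_le le_rfl hWQ₀
      have hmem : φ₀ ∈ E.normalizerHom (Wsub W T) Q₀ := by
        refine ⟨hφ₀E, fun z hz => hTN z (hQ₀T hz), fun z => hTN _ (hφ₀T z),
          φ₀.comp (Subgroup.inclusion hle'), restrict_mem E hφ₀E hle', fun z => rfl, ?_⟩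
        rw [map_subgroupOf_comp_inclusion_eq hle' _ le_sup_right]
        exact map_eq_of_forall_mem φ₀ (E.injective_of_mem hφ₀E) hWQ₀ hφW
      have h1 := mem_NFoc E hmem ⟨((a : ↥T) : Ω)⁻¹, hainvQ₀⟩
      have hyT : (((a : ↥T) : Ω)⁻¹)⁻¹ * φ₀ ⟨((a : ↥T) : Ω)⁻¹, hainvQ₀⟩ ∈ T :=
        T.mul_mem (T.inv_mem hainvT) (hφ₀T _)
      refine ⟨⟨_, hyT⟩, Subgroup.mem_subgroupOf.mpr h1, ?_⟩
      have e3 : (⟨(((a : ↥T) : Ω)⁻¹)⁻¹ * φ₀ ⟨((a : ↥T) : Ω)⁻¹, hainvQ₀⟩, hyT⟩ : T) =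
          (a⁻¹)⁻¹ * ⟨φ₀ ⟨((a : ↥T) : Ω)⁻¹, hainvQ₀⟩, hφ₀T _⟩ := rfl
      rw [e3, map_mul, map_inv, map_inv, hφ₀ι ⟨((a : ↥T) : Ω)⁻¹, hainvQ₀⟩]
      have e4 : (⟨((⟨((a : ↥T) : Ω)⁻¹, hainvQ₀⟩ : Q₀) : Ω), hQ₀T hainvQ₀⟩ : T) = a⁻¹ := rfl
      rw [e4, map_inv, ha, hgL]
      group
    exact hle hn'
  -- the generators
  apply (Subgroup.closure_le _).mpr
  rintro _ ⟨α, r, hα, rfl⟩
  have hαR : ∀ x : R, α x ∈ R := fun x => hscR.2 R le_rfl α hα x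
  have hαT : ∀ x : R, α x ∈ T := fun x => hRT (hαR x)
  obtain ⟨g, hg⟩ := (hreal.2 R hRT α hαT).mp hα
  have hyR : (r : Ω)⁻¹ * α r ∈ R := R.mul_mem (R.inv_mem r.2) (hαR r)
  have hyT : (r : Ω)⁻¹ * α r ∈ T := hRT hyR
  have hxpc : ι ⟨(r : Ω)⁻¹ * α r, hyT⟩ ∈ pCore p L :=
    hRpc ⟨⟨_, hyT⟩, Subgroup.mem_subgroupOf.mpr hyR, rfl⟩
  have hxcomm : ι ⟨(r : Ω)⁻¹ * α r, hyT⟩ ∈ commutator L := by
    have e1 : (⟨(r : Ω)⁻¹ * α r, hyT⟩ : T) = (⟨r, hRT r.2⟩ : T)⁻¹ * ⟨α r, hαT r⟩ := rfl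
    rw [e1, map_mul, map_inv, hg r]
    have e2 : (ι ⟨r, hRT r.2⟩)⁻¹ * (g * ι ⟨r, hRT r.2⟩ * g⁻¹) = ⁅(ι ⟨r, hRT r.2⟩)⁻¹, g⁆ := by
      rw [commutatorElement_def]
      group
    rw [e2]
    exact Subgroup.commutator_mem_commutator (Subgroup.mem_top _) (Subgroup.mem_top _)
  have hx2 : ι ⟨(r : Ω)⁻¹ * α r, hyT⟩ ∈ pCore p L ⊓ commutator L := ⟨hxpc, hxcomm⟩
  rw [hLTL] at hx2
  obtain ⟨n', hn'comm, hn'x⟩ := hx2.2
  have hn'Sy : n' ∈ (SyN : Subgroup ↥N) := by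
    rw [hSyNcoe, Subgroup.mem_subgroupOf]
    have : ((n' : ↥N) : L) = ι ⟨(r : Ω)⁻¹ * α r, hyT⟩ := hn'x
    rw [this]
    exact hιSy _
  have hn'foc : n' ∈ (SyN : Subgroup ↥N).focalSubgroup := by
    rw [← hfoc]
    exact ⟨hn'comm, hn'Sy⟩
  obtain ⟨t, ht, htx⟩ := hkey n' hn'foc
  have hn'x' : ((n' : ↥N) : L) = ι ⟨(r : Ω)⁻¹ * α r, hyT⟩ := hn'x
  rw [hn'x'] at htx
  have h5 := hinj htx
  have h6 : (t : Ω) = (r : Ω)⁻¹ * α r := congrArg Subtype.val h5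
  rw [← h6]
  exact Subgroup.mem_subgroupOf.mp ht

/-- the quotient step: modulo a nontrivial normal subgroup `R`, the focal subgroup lies in the
focal subgroup of the normalizer of the preimage of `W(T/R)` -/
theorem quotT
    (hW1 : ∀ (Q : Type u) [Group Q] [Finite Q], IsPGroup p Q → Nontrivial Q → W Q ≠ ⊥)
    (hW2 : ∀ (Q R : Type u) [Group Q] [Group R] [Finite Q], IsPGroup p Q →
      ∀ φ : Q ≃* R, (W Q).map φ.toMonoidHom = W R)
    {Ω : Type u} [Group Ω] {T : Subgroup Ω} [Finite T] (hT : IsPGroup p T)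
    (D : FusionSystem T) (hD : D.IsSaturated p)
    {R : Subgroup Ω} (hRn : D.IsNormal R) (hR0 : R ≠ ⊥)
    (IH : TIH.{u} p W (Nat.card T)) (T₁ : Subgroup Ω)
    (hX : ∀ X : Subgroup Ω, R ≤ X → X ≤ T → Nat.card R < Nat.card X →
      (∀ t ∈ T, ∀ x ∈ X, t * x * t⁻¹ ∈ X) →
      ∀ (Z : Subgroup Ω) (ψ : Z →* Ω), ψ ∈ D.Hom Z → X ≤ Z → (X.subgroupOf Z).map ψ = X →
        ∀ z : Z, (z : Ω)⁻¹ * ψ z ∈ T₁) :
    ∀ (P : Subgroup Ω) (φ : P →* Ω), φ ∈ D.Hom P → ∀ y : P,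
      ∃ t₁ ∈ T₁, t₁⁻¹ * ((y : Ω)⁻¹ * φ y) ∈ R := by
  have hRT := hRn.1
  haveI : Finite R := finite_of_le hRT
  by_cases hRT' : R = T
  · intro P φ hφ y
    refine ⟨1, T₁.one_mem, ?_⟩
    rw [hRT', inv_one, one_mul]
    exact T.mul_mem (T.inv_mem ((D.le_of_mem hφ).1 y.2)) ((D.le_of_mem hφ).2 y)
  have hsc := stronglyClosed_of_normal D hRn
  haveI : (R.subgroupOf T).Normal := subgroupOf_normal_of_stronglyClosed D hsc
  obtain ⟨θ, hθdef⟩ : ∃ θ : ↥T →* ↥T ⧸ R.subgroupOf T, θ = QuotientGroup.mk' (R.subgroupOf T) :=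
    ⟨_, rfl⟩
  have hθsurj : Function.Surjective θ := by
    rw [hθdef]
    exact QuotientGroup.mk'_surjective _
  obtain ⟨Eb, hfac⟩ := exists_factorSystem_quotient D R hsc
  rw [← hθdef] at hfac
  have hker := hfac.2.1
  have hrange := hfac.2.2.1
  have hHom := hfac.2.2.2
  haveI : Finite (↥T ⧸ R.subgroupOf T) := inferInstance
  haveI : Finite ↥(⊤ : Subgroup (↥T ⧸ R.subgroupOf T)) := inferInstance
  have hS'p : IsPGroup p ↥(⊤ : Subgroup (↥T ⧸ R.subgroupOf T)) :=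
    isPGroup_of_range_eq hT θ hrange
  have hEbsat := factorSystem_saturated p hT D hD hsc θ Eb hfac
  have hcard : Nat.card ↥(⊤ : Subgroup (↥T ⧸ R.subgroupOf T)) < Nat.card T := by
    rw [Subgroup.card_top]
    have h1 := Subgroup.card_eq_card_quotient_mul_card_subgroup (R.subgroupOf T)
    have h2 : Nat.card ↥(R.subgroupOf T) = Nat.card R :=
      Nat.card_congr (Subgroup.subgroupOfEquivOfLe hRT).toEquiv
    have h3 : 1 < Nat.card R := (Subgroup.one_lt_card_iff_ne_bot R).mpr hR0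
    have h4 : 0 < Nat.card (↥T ⧸ R.subgroupOf T) := Nat.card_pos
    rw [h2] at h1
    nlinarith
  have htop0 : (⊤ : Subgroup (↥T ⧸ R.subgroupOf T)) ≠ ⊥ := by
    intro h0
    apply hRT'
    apply le_antisymm hRT
    intro t ht
    have h1 : θ ⟨t, ht⟩ ∈ (⊤ : Subgroup (↥T ⧸ R.subgroupOf T)) := Subgroup.mem_top _
    rw [h0, Subgroup.mem_bot] at h1
    exact (hker _).mp h1
  have hXb_norm : normalizerIn (⊤ : Subgroup (↥T ⧸ R.subgroupOf T))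
      (Wsub W (⊤ : Subgroup (↥T ⧸ R.subgroupOf T))) = ⊤ :=
    normalizerIn_W_top (Wsub W) (fun T' => Wsub_le W T')
      (fun T₁ T₂ φ h1 h2 h3 => Wsub_map W hW2 hS'p T₁ T₂ φ h1 h2 h3)
  obtain ⟨Xb, hXbdef⟩ : ∃ Xb, Xb = Wsub W (⊤ : Subgroup (↥T ⧸ R.subgroupOf T)) := ⟨_, rfl⟩
  have hXb0 : Xb ≠ ⊥ := by
    rw [hXbdef]
    exact Wsub_ne_bot W hW1 hS'p le_rfl htop0
  have hXbnorm : ∀ (g : ↥T ⧸ R.subgroupOf T), ∀ x ∈ Xb, g * x * g⁻¹ ∈ Xb := by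
    intro g x hx
    have hg : g ∈ normalizerIn (⊤ : Subgroup (↥T ⧸ R.subgroupOf T)) Xb := by
      rw [hXbdef, hXb_norm]
      exact Subgroup.mem_top g
    exact (Subgroup.mem_normalizer_iff.mp hg.2 x).mp hx
  have hRX : R ≤ preimageAlong θ Xb := ker_le_preimageAlong θ hRT hker _
  have hXT : preimageAlong θ Xb ≤ T := preimageAlong_le θ _
  have himX : imageAlong θ (preimageAlong θ Xb) = Xb :=
    imageAlong_preimageAlong θ hrange le_top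
  haveI : Finite ↥(preimageAlong θ Xb) := finite_of_le hXT
  have hcardX : Nat.card R < Nat.card ↥(preimageAlong θ Xb) := by
    by_contra hcon
    push Not at hcon
    have heq := Subgroup.eq_of_le_of_card_ge hRX hcon
    apply hXb0
    rw [← himX, ← heq, eq_bot_iff]
    intro y hy
    obtain ⟨r, hrT, hrR, rfl⟩ := (mem_imageAlong θ R y).mp hy
    rw [Subgroup.mem_bot]
    exact (hker _).mpr hrR
  have hXnorm : ∀ t ∈ T, ∀ x ∈ preimageAlong θ Xb, t * x * t⁻¹ ∈ preimageAlong θ Xb := by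
    intro t ht x hx
    obtain ⟨hxT, hxθ⟩ := (mem_preimageAlong θ _ x).mp hx
    refine (mem_preimageAlong θ _ _).mpr ⟨T.mul_mem (T.mul_mem ht hxT) (T.inv_mem ht), ?_⟩
    have e1 : (⟨t * x * t⁻¹, T.mul_mem (T.mul_mem ht hxT) (T.inv_mem ht)⟩ : T) =
        ⟨t, ht⟩ * ⟨x, hxT⟩ * ⟨t, ht⟩⁻¹ := rfl
    rw [e1, map_mul, map_mul, map_inv]
    exact hXbnorm _ _ hxθ
  have hfocb : Eb.focalSubgroup ≤ NFoc Eb Xb := by
    rw [hXbdef]
    exact IH _ ⊤ hcard hS'p Eb hEbsat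
  have hNK : NFoc Eb Xb ≤ imageAlong θ T₁ := by
    apply (Subgroup.closure_le _).mpr
    rintro _ ⟨Pb, φb, xb, hφb, rfl⟩
    obtain ⟨hφbE, hPbN, hφbN, ψb, hψb, hψbext, hψbX⟩ := hφb
    obtain ⟨-, ψ, hψ, hZT, hψT, hZim, hind⟩ := (hHom _ ψb).mp hψb
    have hXZ : preimageAlong θ Xb ≤ preimageAlong θ (Pb ⊔ Xb) :=
      preimageAlong_mono θ le_sup_right
    have hψX : ((preimageAlong θ Xb).subgroupOf (preimageAlong θ (Pb ⊔ Xb))).map ψ =
        preimageAlong θ Xb := by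
      apply map_eq_of_forall_mem ψ (D.injective_of_mem hψ) hXZ
      intro z hz
      obtain ⟨hzT, hzθ⟩ := (mem_preimageAlong θ _ _).mp hz
      refine (mem_preimageAlong θ _ _).mpr ⟨hψT z, ?_⟩
      rw [← hind z]
      exact hψbX.le ⟨⟨θ ⟨z, hZT z.2⟩, hZim z⟩, Subgroup.mem_subgroupOf.mpr hzθ, rfl⟩
    obtain ⟨z, hzx⟩ := hθsurj (xb : ↥T ⧸ R.subgroupOf T)
    have hzZ : (z : Ω) ∈ preimageAlong θ (Pb ⊔ Xb) := by
      refine (mem_preimageAlong θ _ _).mpr ⟨z.2, ?_⟩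
      show θ z ∈ Pb ⊔ Xb
      rw [hzx]
      exact Subgroup.mem_sup_left xb.2
    have hgood := hX _ hRX hXT hcardX hXnorm _ ψ hψ hXZ hψX ⟨z, hzZ⟩
    have e1 : (Subgroup.inclusion (le_sup_left : Pb ≤ Pb ⊔ Xb) xb) =
        ⟨θ ⟨(z : Ω), hZT hzZ⟩, hZim ⟨z, hzZ⟩⟩ := by
      apply Subtype.ext
      show (xb : ↥T ⧸ R.subgroupOf T) = θ z
      rw [hzx]
    have e2 : φb xb = θ ⟨ψ ⟨z, hzZ⟩, hψT ⟨z, hzZ⟩⟩ := by
      rw [← hψbext xb, e1, hind ⟨z, hzZ⟩]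
    rw [e2, ← hzx]
    refine (mem_imageAlong θ T₁ _).mpr ⟨(z : Ω)⁻¹ * ψ ⟨z, hzZ⟩,
      T.mul_mem (T.inv_mem z.2) (hψT _), hgood, ?_⟩
    have e3 : (⟨(z : Ω)⁻¹ * ψ ⟨z, hzZ⟩, T.mul_mem (T.inv_mem z.2) (hψT _)⟩ : T) =
        z⁻¹ * ⟨ψ ⟨z, hzZ⟩, hψT ⟨z, hzZ⟩⟩ := rfl
    rw [e3, map_mul, map_inv]
  intro P φ hφ y
  obtain ⟨hPT, hφT⟩ := D.le_of_mem hφ
  have hwT : (y : Ω)⁻¹ * φ y ∈ T := T.mul_mem (T.inv_mem (hPT y.2)) (hφT y)
  have h1 : θ ⟨(y : Ω)⁻¹ * φ y, hwT⟩ ∈ Eb.focalSubgroup :=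
    focal_map_le hT D hD hsc θ Eb hfac _ (mem_focal D hφ y) hwT
  have h2 := hNK (hfocb h1)
  obtain ⟨t₁, ht₁T, ht₁, ht₁θ⟩ := (mem_imageAlong θ T₁ _).mp h2
  refine ⟨t₁, ht₁, ?_⟩
  have h3 : θ ((⟨t₁, ht₁T⟩ : T)⁻¹ * ⟨(y : Ω)⁻¹ * φ y, hwT⟩) = 1 := by
    rw [map_mul, map_inv, ht₁θ]
    exact inv_mul_cancel _
  exact (hker _).mp h3

end functor

end Cfsg.Agent.Lib.Helper1.GC
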