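import Mathlib
import Cfsg.Agent.Lib.Helper1.GC2

set_option autoImplicit false
set_option linter.style.haveILetI false
set_option linter.unusedSectionVars false
set_option linter.unusedVariables false
set_option maxHeartbeats 1000000

/-! Control of transfer by positive characteristic functors, part 3: systems with a nontrivial
normal subgroup, the climbing argument and the main theorem. -/

namespace Cfsg.Agent.Lib.Helper1.GC

open Cfsg Cfsg.FusionSystem Cfsg.Agent.Lib.Helper9 Cfsg.Agent.Lib.Helper1.KN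
  Cfsg.Agent.Lib.Helper1.KL Cfsg.Agent.Lib.Helper1.QF Cfsg.Agent.Lib.Helper1.GF
  Cfsg.Agent.Lib.Helper1.WC

universe u

variable {p : ℕ} [Fact p.Prime] (W : ∀ (Q : Type u) [Group Q], Subgroup Q)

/-- the theorem for a system with a nontrivial normal subgroup, assuming it for all smaller
`p`-groups -/
theorem lemmaT
    (hW1 : ∀ (Q : Type u) [Group Q] [Finite Q], IsPGroup p Q → Nontrivial Q → W Q ≠ ⊥)
    (hW2 : ∀ (Q R : Type u) [Group Q] [Group R] [Finite Q], IsPGroup p Q →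
      ∀ φ : Q ≃* R, (W Q).map φ.toMonoidHom = W R)
    (hLT : LT.{u} p W) :
    ∀ (m : ℕ) (Ω : Type u) [Group Ω] (T : Subgroup Ω) [Finite T], IsPGroup p T →
      TIH.{u} p W (Nat.card T) →
      ∀ D : FusionSystem T, D.IsSaturated p →
      ∀ V : Subgroup Ω, D.IsNormal V → V ≠ ⊥ → Nat.card T - Nat.card V = m →
      D.focalSubgroup ≤ NFoc D (Wsub W T) := by
  intro m
  induction m using Nat.strong_induction_on with
  | _ m ih =>
    intro Ω _ T _ hT IH D hD V hVn hV0 hm
    have hRn0 : D.IsNormal D.core := Cfsg.Agent.S5145.result D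
    obtain ⟨R, hRdef⟩ : ∃ R, R = D.core := ⟨_, rfl⟩
    rw [← hRdef] at hRn0
    have hRn := hRn0
    have hVR : V ≤ R := by
      rw [hRdef]
      exact le_sSup hVn
    have hRT : R ≤ T := hRn.1
    haveI : Finite R := finite_of_le hRT
    have hR0 : R ≠ ⊥ := by
      intro h
      apply hV0
      rw [eq_bot_iff, ← h]
      exact hVR
    have hsc := stronglyClosed_of_normal D hRn
    have hRnorm : ∀ t ∈ T, ∀ x ∈ R, t * x * t⁻¹ ∈ R :=
      fun s hs x hx => conj_mem_of_isNormal D hRn hs hx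
    have hNR : normalizerIn T R = T := normalizerIn_eq_of_forall hRnorm
    have hNT : normalizerIn T (Wsub W T) = T :=
      normalizerIn_W_top (Wsub W) (fun T' => Wsub_le W T')
        (fun T₁ T₂ φ h1 h2 h3 => Wsub_map W hW2 hT T₁ T₂ φ h1 h2 h3)
    have hcomm : ⁅T, T⁆ ≤ NFoc D (Wsub W T) := comm_le_NFoc D (Wsub_le W T) hNT
    -- larger normal subgroups
    have hX : ∀ X : Subgroup Ω, R ≤ X → X ≤ T → Nat.card R < Nat.card X →
        (∀ t ∈ T, ∀ x ∈ X, t * x * t⁻¹ ∈ X) →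
        ∀ (Z : Subgroup Ω) (ψ : Z →* Ω), ψ ∈ D.Hom Z → X ≤ Z → (X.subgroupOf Z).map ψ = X →
          ∀ z : Z, (z : Ω)⁻¹ * ψ z ∈ NFoc D (Wsub W T) := by
      intro X hRX hXT hcard hXnorm Z ψ hψ hXZ hψX z
      haveI : Finite X := finite_of_le hXT
      have hXN : normalizerIn T X = T := normalizerIn_eq_of_forall hXnorm
      have hXfn := fullyNormalized_of_normalizerIn_eq D hXT hXN
      obtain ⟨DX, hDX⟩ := Cfsg.Agent.S5096.result D X hXT
      have hDXsat := Cfsg.Agent.S5098.result p hT D hD X hXfn DX hDX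
      haveI : Finite ↥(normalizerIn T X) := finite_normalizerIn (S := T) X
      have hTXp : IsPGroup p ↥(normalizerIn T X) := isPGroup_of_le hT (normalizerIn_le T X)
      have hXn : DX.IsNormal X := normal_self_of_isNormalizerSystem D hXT DX hDX
      have hX0 : X ≠ ⊥ := by
        intro h
        apply hR0
        rw [eq_bot_iff, ← h]
        exact hRX
      have hcardT : Nat.card ↥(normalizerIn T X) = Nat.card T := by rw [hXN]
      have IH' : TIH.{u} p W (Nat.card ↥(normalizerIn T X)) := by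
        rw [hcardT]
        exact IH
      have hlt : Nat.card ↥(normalizerIn T X) - Nat.card X < m := by
        have h1 : Nat.card V ≤ Nat.card R := Subgroup.card_le_of_le hVR
        have h2 : Nat.card X ≤ Nat.card T := Subgroup.card_le_of_le hXT
        omega
      have hfoc := ih _ hlt Ω (normalizerIn T X) hTXp IH' DX hDXsat X hXn hX0 rfl
      have hW : Wsub W (normalizerIn T X) = Wsub W T := congrArg (Wsub W) hXN
      rw [hW] at hfoc
      have hZN : Z ≤ normalizerIn T X := by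
        rw [hXN]
        exact (D.le_of_mem hψ).1
      have hψDX : ψ ∈ DX.Hom Z := by
        rw [hDX Z]
        exact mem_normalizerHom_of_map_eq D hXZ hZN hψ hψX
      have h1 := hfoc (mem_focal DX hψDX z)
      exact NFoc_mono (normalizerIn_le T X) DX D
        (fun P φ h => hom_of_normalizerSystem D DX hDX h) _ h1
    -- `[R, Aut_D(R)]`
    have hU : AutComm D R ≤ NFoc D (Wsub W T) := by
      by_cases hcen : centralizerIn T R ≤ R
      · -- the constrained case
        have hRc : D.IsCentric R := by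
          refine ⟨hRT, fun Q hQ => ?_⟩
          have hQR : Q ≤ R := by
            obtain ⟨φ, hφ, hr⟩ := hQ
            rw [← hr]
            rintro _ ⟨x, rfl⟩
            exact hsc.2 R le_rfl φ hφ x
          have hcard := card_eq_of_isConj D hQ
          have hQeq : Q = R := Subgroup.eq_of_le_of_card_ge hQR hcard.le
          rw [hQeq]
          exact hcen
        obtain ⟨L, _, ι, hL⟩ := Cfsg.Agent.S5090.result p hT D ⟨hD, R, hRn, hRc⟩
        exact autComm_le_of_model W hW2 hLT hT D ι hL hRn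
      · -- the non-constrained case
        apply (Subgroup.closure_le _).mpr
        rintro _ ⟨α, r, hα, rfl⟩
        have hαr : α.range = R := by
          apply Subgroup.eq_of_le_of_card_ge
          · rintro _ ⟨x, rfl⟩
            exact hsc.2 R le_rfl α hα x
          · exact (Nat.card_congr (MonoidHom.ofInjective (D.injective_of_mem hα)).toEquiv).le
        have hRfn : D.IsFullyNormalized R := fullyNormalized_of_normalizerIn_eq D hRT hNR
        have hRrec := receptive_of_fullyCentralized hT D hD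
          (fullyCentralized_of_fullyNormalized hT D hD hRfn)
        obtain ⟨βt, hβt, hβtext⟩ := hRrec.2 R α hα hαr
        obtain ⟨X₁, hX₁def⟩ : ∃ X₁, X₁ = R ⊔ centralizerIn T R := ⟨_, rfl⟩
        have hRX₁ : R ≤ X₁ := by
          rw [hX₁def]
          exact le_sup_left
        have hCX₁ : centralizerIn T R ≤ X₁ := by
          rw [hX₁def]
          exact le_sup_right
        have hX₁T : X₁ ≤ T := by
          rw [hX₁def]
          exact _root_.sup_le hRT (centralizerIn_le T R)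
        haveI : Finite X₁ := finite_of_le hX₁T
        have hRext : R ≤ extender T R α :=
          le_extender hRT α (fun x => (D.le_of_mem hα).2 x)
        have hX₁ext : X₁ ≤ extender T R α := by
          rw [hX₁def]
          exact _root_.sup_le hRext (centralizerIn_le_extender R α)
        obtain ⟨β, hβdef⟩ : ∃ β : ↥X₁ →* Ω, β = βt.comp (Subgroup.inclusion hX₁ext) := ⟨_, rfl⟩
        have hβ : β ∈ D.Hom X₁ := by
          rw [hβdef]
          exact restrict_mem D hβt hX₁ext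
        have hβR : ∀ (r' : Ω) (hr : r' ∈ R), β ⟨r', hRX₁ hr⟩ = α ⟨r', hr⟩ := by
          intro r' hr
          rw [hβdef]
          exact hβtext r' hr (hX₁ext (hRX₁ hr))
        have hβC : ∀ (c' : Ω) (hc : c' ∈ centralizerIn T R),
            β ⟨c', hCX₁ hc⟩ ∈ centralizerIn T R := by
          intro c' hc
          rw [hβdef]
          exact extension_centralizer_mem D hα hαr hβt hβtext c' hc
        have hαmem : ∀ r' : ↥R, α r' ∈ R := fun r' => hαr.le ⟨r', rfl⟩
        have hβmem : ∀ x : ↥X₁, β x ∈ X₁ := by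
          intro x
          refine Subgroup.mem_comap.mp (top_of_sup hX₁def (X₁.comap β) (fun r' hr h => ?_)
            (fun c' hc h => ?_) x)
          · rw [Subgroup.mem_comap, hβR r' hr]
            exact hRX₁ (hαmem ⟨r', hr⟩)
          · rw [Subgroup.mem_comap]
            exact hCX₁ (hβC c' hc)
        have hTnormR : ∀ t ∈ T, t ∈ Subgroup.normalizer (R : Set Ω) := fun t ht => by
          have h1 : t ∈ normalizerIn T R := by
            rw [hNR]
            exact ht
          exact h1.2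
        have hCnorm : ∀ t ∈ T, ∀ x ∈ centralizerIn T R, t * x * t⁻¹ ∈ centralizerIn T R := by
          intro t ht x hx
          have h1 : t * x * t⁻¹ ∈ T := T.mul_mem (T.mul_mem ht hx.1) (T.inv_mem ht)
          have h2 : t * x * t⁻¹ ∈ Subgroup.centralizer (R : Set Ω) :=
            conj_mem_centralizer (hTnormR t ht) hx.2
          exact ⟨h1, h2⟩
        have hX₁norm : ∀ t ∈ T, ∀ x ∈ X₁, t * x * t⁻¹ ∈ X₁ := by
          intro t ht x hx
          rw [hX₁def] at hx ⊢
          exact conj_mem_sup (hRnorm t ht) (hCnorm t ht) x hx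
        have hcardX₁ : Nat.card R < Nat.card X₁ := by
          by_contra hcon
          push Not at hcon
          have heq := Subgroup.eq_of_le_of_card_ge hRX₁ hcon
          exact hcen (hCX₁.trans heq.ge)
        have hβX₁ : (X₁.subgroupOf X₁).map β = X₁ :=
          map_eq_of_forall_mem β (D.injective_of_mem hβ) le_rfl (fun z _ => hβmem z)
        have hgood := hX X₁ hRX₁ hX₁T hcardX₁ hX₁norm X₁ β hβ le_rfl hβX₁ ⟨r, hRX₁ r.2⟩
        have e : β ⟨r, hRX₁ r.2⟩ = α r := hβR r r.2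
        rw [← e]
        exact hgood
    -- the quotient step
    have hq := quotT W hW1 hW2 hT D hD hRn hR0 IH (NFoc D (Wsub W T)) hX
    have hfi := focal_inf_le hT D hD hRn
    apply (Subgroup.closure_le _).mpr
    rintro _ ⟨P, φ, y, hφ, rfl⟩
    obtain ⟨t₁, ht₁, ht₁R⟩ := hq P φ hφ y
    have h1 : t₁⁻¹ * ((y : Ω)⁻¹ * φ y) ∈ D.focalSubgroup :=
      Subgroup.mul_mem _ (Subgroup.inv_mem _ (NFoc_le_focal D _ ht₁)) (mem_focal D hφ y)
    have h2 : t₁⁻¹ * ((y : Ω)⁻¹ * φ y) ∈ ⁅T, T⁆ ⊔ AutComm D R := hfi ⟨h1, ht₁R⟩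
    have h3 : t₁⁻¹ * ((y : Ω)⁻¹ * φ y) ∈ NFoc D (Wsub W T) := (_root_.sup_le hcomm hU) h2
    have e : (y : Ω)⁻¹ * φ y = t₁ * (t₁⁻¹ * ((y : Ω)⁻¹ * φ y)) := by group
    show (y : Ω)⁻¹ * φ y ∈ NFoc D (Wsub W T)
    rw [e]
    exact Subgroup.mul_mem _ ht₁ h3

/-- the climbing claim: the focal subgroups of the normalizer systems of fully normalized
subgroups with large normalizers lie in the focal subgroup of `N_F(W(S))` -/
theorem climbT
    (hW1 : ∀ (Q : Type u) [Group Q] [Finite Q], IsPGroup p Q → Nontrivial Q → W Q ≠ ⊥)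
    (hW2 : ∀ (Q R : Type u) [Group Q] [Group R] [Finite Q], IsPGroup p Q →
      ∀ φ : Q ≃* R, (W Q).map φ.toMonoidHom = W R)
    (hLT : LT.{u} p W)
    {Ω : Type u} [Group Ω] {S : Subgroup Ω} [Finite S] (hS : IsPGroup p S) (F : FusionSystem S)
    (hF : F.IsSaturated p) (IH : TIH.{u} p W (Nat.card S))
    (hcomm : ⁅S, S⁆ ≤ NFoc F (Wsub W S))
    (c₀ : ℕ) (hIH : ∀ P₁ : Subgroup Ω, P₁ ≤ S → c₀ < Nat.card P₁ →
      F.Hom P₁ ⊆ (focalSubsystem F (NFoc F (Wsub W S)) hcomm).Hom P₁) :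
    ∀ (d : ℕ) (V : Subgroup Ω), F.IsFullyNormalized V → V ≠ ⊥ →
      c₀ ≤ Nat.card (normalizerIn S V) → Nat.card S - Nat.card (normalizerIn S V) = d →
      ∀ NV : FusionSystem (normalizerIn S V), F.IsNormalizerSystem V NV →
        NV.focalSubgroup ≤ NFoc F (Wsub W S) := by
  intro d
  induction d using Nat.strong_induction_on with
  | _ d ih =>
    intro V hVn hV0 hcV hd NV hNV
    have hVS : V ≤ S := hVn.1
    haveI hfinT : Finite (normalizerIn S V) := finite_normalizerIn (S := S) V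
    have hT'S : normalizerIn S V ≤ S := normalizerIn_le S V
    have hVT' : V ≤ normalizerIn S V := self_le_normalizerIn' hVS
    have hTp : IsPGroup p ↥(normalizerIn S V) := isPGroup_of_le hS hT'S
    have hNVsat := Cfsg.Agent.S5098.result p hS F hF V hVn NV hNV
    have hVnNV : NV.IsNormal V := normal_self_of_isNormalizerSystem F hVS NV hNV
    have hNVF : ∀ (P : Subgroup Ω) (φ : P →* Ω), φ ∈ NV.Hom P → φ ∈ F.Hom P :=
      fun P φ h => hom_of_normalizerSystem F NV hNV h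
    by_cases hTS : normalizerIn S V = S
    · have hcardeq : Nat.card ↥(normalizerIn S V) = Nat.card S := by rw [hTS]
      have IH' : TIH.{u} p W (Nat.card ↥(normalizerIn S V)) := by
        rw [hcardeq]
        exact IH
      have hW : Wsub W (normalizerIn S V) = Wsub W S := congrArg (Wsub W) hTS
      have h1 := lemmaT W hW1 hW2 hLT _ Ω (normalizerIn S V) hTp IH' NV hNVsat V hVnNV hV0 rfl
      rw [hW] at h1
      exact h1.trans (NFoc_mono hT'S NV F hNVF _)
    · have hT'lt : normalizerIn S V < S := lt_of_le_of_ne hT'S hTS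
      have hcard : Nat.card ↥(normalizerIn S V) < Nat.card S := card_lt_of_lt' hT'lt
      have h0 := IH Ω (normalizerIn S V) hcard hTp NV hNVsat
      refine h0.trans ?_
      apply (Subgroup.closure_le _).mpr
      rintro _ ⟨P, φ, y, hφ, rfl⟩
      obtain ⟨V₂, hV₂def⟩ : ∃ V₂, V₂ = Wsub W (normalizerIn S V) := ⟨_, rfl⟩
      rw [← hV₂def] at hφ
      obtain ⟨hφNV, hPN, hφN, ψ, hψNV, hψext, hψW⟩ := hφ
      have hψ' := hψNV
      rw [hNV (P ⊔ V₂)] at hψ'
      have hψF : ψ ∈ F.Hom (P ⊔ V₂) := hψ'.1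
      have hB₂N : P ⊔ V₂ ≤ normalizerIn S V := hψ'.2.1
      have hψT' : ∀ x, ψ x ∈ normalizerIn S V := hψ'.2.2.1
      have hV₂1 : V₂ ≠ ⊥ := by
        rw [hV₂def]
        exact Wsub_ne_bot W hW1 hS hT'S (fun h => hV0 (le_bot_iff.mp (hVT'.trans h.le)))
      have hV₂T' : V₂ ≤ normalizerIn S V := by
        rw [hV₂def]
        exact Wsub_le W _
      have hV₂S : V₂ ≤ S := hV₂T'.trans hT'S
      have hNN : normalizerIn S (normalizerIn S V) ≤ normalizerIn S V₂ := by
        rw [hV₂def]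
        exact normalizerIn_le_of_char (Wsub W) (fun T' => Wsub_le W T')
          (fun T₁ T₂ φ h1 h2 h3 => Wsub_map W hW2 hS T₁ T₂ φ h1 h2 h3) hT'S
      obtain ⟨g, hg, hgT⟩ := exists_mem_normalizerIn_not_mem hS hT'lt
      have hlt1 : Nat.card (normalizerIn S V) < Nat.card (normalizerIn S (normalizerIn S V)) := by
        haveI := finite_normalizerIn (S := S) (normalizerIn S V)
        apply card_lt_of_lt'
        exact lt_of_le_of_ne (self_le_normalizerIn' hT'S) (fun h => hgT (h ▸ hg))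
      haveI := finite_normalizerIn (S := S) V₂
      have hle2 : Nat.card (normalizerIn S (normalizerIn S V)) ≤ Nat.card (normalizerIn S V₂) :=
        Subgroup.card_le_of_le hNN
      obtain ⟨V₃, hV₂₃, hV₃n⟩ := exists_isConj_fullyNormalized F hV₂S
      have hV₃a := fullyAutomized_of_fullyNormalized hS F hF hV₃n
      have hV₃r := receptive_of_fullyCentralized hS F hF
        (fullyCentralized_of_fullyNormalized hS F hF hV₃n)
      obtain ⟨χ, hχ, hχN, hχV⟩ := exists_normalizer_hom hS F V₃ V₂ hV₃a hV₃r hV₂₃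
      have hχE : χ ∈ (focalSubsystem F (NFoc F (Wsub W S)) hcomm).Hom (normalizerIn S V₂) :=
        hIH _ (normalizerIn_le S V₂) (by omega) hχ
      have hT'NV₂ : normalizerIn S V ≤ normalizerIn S V₂ :=
        (self_le_normalizerIn' hT'S).trans hNN
      have hB₂N₂ : P ⊔ V₂ ≤ normalizerIn S V₂ := hB₂N.trans hT'NV₂
      have hψval : ∀ x, ψ x ∈ normalizerIn S V₂ := fun x => hT'NV₂ (hψT' x)
      obtain ⟨B₃, hB₃⟩ : ∃ B₃, ((P ⊔ V₂).subgroupOf (normalizerIn S V₂)).map χ = B₃ := ⟨_, rfl⟩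
      obtain ⟨ω₃, hω₃F, hω₃⟩ := exists_transport_hom F χ hχ hB₂N₂ hB₃ ψ hψF hψval
      have hV₃B₃ : V₃ ≤ B₃ := by
        intro z hz
        obtain ⟨x, hx, rfl⟩ := hχV.ge hz
        have hx' : (x : Ω) ∈ V₂ := hx
        have hx'' : x ∈ (P ⊔ V₂).subgroupOf (normalizerIn S V₂) := by
          rw [Subgroup.mem_subgroupOf]
          exact (le_sup_right : V₂ ≤ P ⊔ V₂) hx'
        exact hB₃.le ⟨x, hx'', rfl⟩
      have hB₃N : B₃ ≤ normalizerIn S V₃ := by
        intro z hz
        obtain ⟨x, hx, rfl⟩ := hB₃.ge hz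
        exact hχN x
      haveI : Finite V₃ := finite_of_le hV₃n.1
      have hω₃V : (V₃.subgroupOf B₃).map ω₃ = V₃ := by
        apply map_eq_of_forall_mem ω₃ (F.injective_of_mem hω₃F) hV₃B₃
        intro z hz
        obtain ⟨v, hv, hvz⟩ := hχV.ge hz
        have hv' : (v : Ω) ∈ V₂ := hv
        have hvB : (v : Ω) ∈ P ⊔ V₂ := (le_sup_right : V₂ ≤ P ⊔ V₂) hv'
        have hmem : χ ⟨((⟨(v : Ω), hvB⟩ : ↥(P ⊔ V₂)) : Ω), hB₂N₂ hvB⟩ ∈ B₃ := by
          have : χ ⟨((⟨(v : Ω), hvB⟩ : ↥(P ⊔ V₂)) : Ω), hB₂N₂ hvB⟩ = χ v := rfl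
          rw [this, hvz]
          exact z.2
        have hz' : z = ⟨χ ⟨((⟨(v : Ω), hvB⟩ : ↥(P ⊔ V₂)) : Ω), hB₂N₂ hvB⟩, hmem⟩ :=
          Subtype.ext hvz.symm
        rw [hz', hω₃ ⟨(v : Ω), hvB⟩ hmem]
        have hψv : ψ ⟨(v : Ω), hvB⟩ ∈ V₂ := by
          have h5 : (⟨(v : Ω), hvB⟩ : ↥(P ⊔ V₂)) ∈ V₂.subgroupOf (P ⊔ V₂) := by
            rw [Subgroup.mem_subgroupOf]
            exact hv'
          exact hψW.le ⟨_, h5, rfl⟩
        have h6 : (⟨ψ ⟨(v : Ω), hvB⟩, hψval _⟩ : ↥(normalizerIn S V₂)) ∈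
            V₂.subgroupOf (normalizerIn S V₂) := by
          rw [Subgroup.mem_subgroupOf]
          exact hψv
        exact hχV.le ⟨_, h6, rfl⟩
      have hV₃1 : V₃ ≠ ⊥ := by
        intro h
        apply hV₂1
        apply Subgroup.eq_bot_of_card_eq
        rw [card_eq_of_isConj F hV₂₃, h]
        exact Subgroup.card_bot
      have hle3 : Nat.card (normalizerIn S V₂) ≤ Nat.card (normalizerIn S V₃) :=
        hV₃n.2 V₂ (isConj_symm F hV₂₃)
      have hle4 : Nat.card (normalizerIn S V₃) ≤ Nat.card S :=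
        Subgroup.card_le_of_le (normalizerIn_le S V₃)
      have hle5 : Nat.card (normalizerIn S V) ≤ Nat.card S :=
        Subgroup.card_le_of_le hT'S
      obtain ⟨NV₃, hNV₃⟩ := Cfsg.Agent.S5096.result F V₃ hV₃n.1
      have hfoc₃ : NV₃.focalSubgroup ≤ NFoc F (Wsub W S) :=
        ih (Nat.card S - Nat.card (normalizerIn S V₃)) (by omega) V₃ hV₃n hV₃1 (by omega) rfl
          NV₃ hNV₃
      have hω₃N : ω₃ ∈ NV₃.Hom B₃ := by
        rw [hNV₃ B₃]
        exact mem_normalizerHom_of_map_eq F hV₃B₃ hB₃N hω₃F hω₃V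
      have hyB : (y : Ω) ∈ P ⊔ V₂ := (le_sup_left : P ≤ P ⊔ V₂) y.2
      have hyN₂ : (y : Ω) ∈ normalizerIn S V₂ := hB₂N₂ hyB
      have hmem : χ ⟨((⟨(y : Ω), hyB⟩ : ↥(P ⊔ V₂)) : Ω), hB₂N₂ hyB⟩ ∈ B₃ := by
        have hx : (⟨(y : Ω), hyN₂⟩ : ↥(normalizerIn S V₂)) ∈
            (P ⊔ V₂).subgroupOf (normalizerIn S V₂) := by
          rw [Subgroup.mem_subgroupOf]
          exact hyB
        exact hB₃.le ⟨_, hx, rfl⟩
      have h1 := hω₃ ⟨(y : Ω), hyB⟩ hmem
      -- the three factors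
      have ha : (y : Ω)⁻¹ * χ ⟨(y : Ω), hyN₂⟩ ∈ NFoc F (Wsub W S) := hχE.2 ⟨(y : Ω), hyN₂⟩
      have hb : (χ ⟨(y : Ω), hyN₂⟩)⁻¹ * χ ⟨ψ ⟨(y : Ω), hyB⟩, hψval _⟩ ∈ NFoc F (Wsub W S) := by
        have h2 := hfoc₃ (mem_focal NV₃ hω₃N ⟨χ ⟨(y : Ω), hyN₂⟩, hmem⟩)
        rw [h1] at h2
        exact h2
      have hc : (ψ ⟨(y : Ω), hyB⟩)⁻¹ * χ ⟨ψ ⟨(y : Ω), hyB⟩, hψval _⟩ ∈ NFoc F (Wsub W S) :=
        hχE.2 ⟨ψ ⟨(y : Ω), hyB⟩, hψval _⟩
      have hφy : φ y = ψ ⟨(y : Ω), hyB⟩ := by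
        rw [← hψext y]
        rfl
      have e : (y : Ω)⁻¹ * φ y = ((y : Ω)⁻¹ * χ ⟨(y : Ω), hyN₂⟩) *
          ((χ ⟨(y : Ω), hyN₂⟩)⁻¹ * χ ⟨ψ ⟨(y : Ω), hyB⟩, hψval _⟩) *
          ((ψ ⟨(y : Ω), hyB⟩)⁻¹ * χ ⟨ψ ⟨(y : Ω), hyB⟩, hψval _⟩)⁻¹ := by
        rw [hφy]
        group
      show (y : Ω)⁻¹ * φ y ∈ NFoc F (Wsub W S)
      rw [e]
      exact Subgroup.mul_mem _ (Subgroup.mul_mem _ ha hb) (Subgroup.inv_mem _ hc)

/-- the inductive step of the main theorem -/
theorem tr_step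
    (hW1 : ∀ (Q : Type u) [Group Q] [Finite Q], IsPGroup p Q → Nontrivial Q → W Q ≠ ⊥)
    (hW2 : ∀ (Q R : Type u) [Group Q] [Group R] [Finite Q], IsPGroup p Q →
      ∀ φ : Q ≃* R, (W Q).map φ.toMonoidHom = W R)
    (hLT : LT.{u} p W)
    {Ω : Type u} [Group Ω] {S : Subgroup Ω} [Finite S] (hS : IsPGroup p S) (F : FusionSystem S)
    (hF : F.IsSaturated p) (IH : TIH.{u} p W (Nat.card S)) :
    F.focalSubgroup ≤ NFoc F (Wsub W S) := by
  have hNS : normalizerIn S (Wsub W S) = S :=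
    normalizerIn_W_top (Wsub W) (fun T' => Wsub_le W T')
      (fun T₁ T₂ φ h1 h2 h3 => Wsub_map W hW2 hS T₁ T₂ φ h1 h2 h3)
  have hcomm : ⁅S, S⁆ ≤ NFoc F (Wsub W S) := comm_le_NFoc F (Wsub_le W S) hNS
  obtain ⟨E', hE'def⟩ : ∃ E', E' = focalSubsystem F (NFoc F (Wsub W S)) hcomm := ⟨_, rfl⟩
  have hFE : ∀ P, F.Hom P ⊆ E'.Hom P := by
    intro P φ hφ
    have hPS := hom_le F hφ
    refine alperin_ind p hS F hF E' ?_ _ P hPS rfl hφ
    intro Q hQn hIH
    show Subgroup.closure _ ≤ Subgroup.closure _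
    apply Subgroup.closure_mono
    intro α hα
    have hα' : Q.subtype.comp α.toMonoidHom ∈ F.Hom Q := hα
    show Q.subtype.comp α.toMonoidHom ∈ E'.Hom Q
    by_cases hQ1 : Q = ⊥
    · subst hQ1
      have h1 : conjHom ⊥ 1 ∈ E'.Hom ⊥ := E'.conj_mem bot_le S.one_mem
      have h2 : (⊥ : Subgroup Ω).subtype.comp α.toMonoidHom = conjHom ⊥ 1 := by
        ext x
        have hx : x = 1 := Subsingleton.elim _ _
        rw [hx]
        simp
      rw [h2]
      exact h1
    · have hQS := hQn.1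
      haveI : Finite Q := finite_of_le hQS
      haveI := finite_normalizerIn (S := S) Q
      have hcQ : Nat.card Q ≤ Nat.card (normalizerIn S Q) :=
        Subgroup.card_le_of_le (self_le_normalizerIn' hQS)
      obtain ⟨NQ, hNQ⟩ := Cfsg.Agent.S5096.result F Q hQS
      have hIH' : ∀ P₁ : Subgroup Ω, P₁ ≤ S → Nat.card Q < Nat.card P₁ →
          F.Hom P₁ ⊆ (focalSubsystem F (NFoc F (Wsub W S)) hcomm).Hom P₁ := by
        intro P₁ hP₁ hlt
        rw [← hE'def]
        exact hIH P₁ hP₁ hlt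
      have hfocQ : NQ.focalSubgroup ≤ NFoc F (Wsub W S) :=
        climbT W hW1 hW2 hLT hS F hF IH hcomm (Nat.card Q) hIH' _ Q hQn hQ1 hcQ rfl NQ hNQ
      have hr : (Q.subgroupOf Q).map (Q.subtype.comp α.toMonoidHom) = Q :=
        map_eq_of_forall_mem _ (F.injective_of_mem hα') le_rfl (fun y _ => (α y).2)
      have hαN : Q.subtype.comp α.toMonoidHom ∈ NQ.Hom Q := by
        rw [hNQ Q]
        exact mem_normalizerHom_of_map_eq F le_rfl (self_le_normalizerIn' hQS) hα' hr
      rw [hE'def]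
      exact ⟨hα', fun x => hfocQ (mem_focal NQ hαN x)⟩
  apply (Subgroup.closure_le _).mpr
  rintro _ ⟨P, φ, y, hφ, rfl⟩
  have h1 := hFE P hφ
  rw [hE'def] at h1
  exact h1.2 y

theorem tr_all
    (hW1 : ∀ (Q : Type u) [Group Q] [Finite Q], IsPGroup p Q → Nontrivial Q → W Q ≠ ⊥)
    (hW2 : ∀ (Q R : Type u) [Group Q] [Group R] [Finite Q], IsPGroup p Q →
      ∀ φ : Q ≃* R, (W Q).map φ.toMonoidHom = W R)
    (hLT : LT.{u} p W) (n : ℕ) : TIH.{u} p W n := by
  induction n with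
  | zero =>
    intro Ω' _ S' _ h
    exact absurd h (Nat.not_lt_zero _)
  | succ n ih =>
    intro Ω' _ S' _ hcard hS' F' hF'
    by_cases hlt : Nat.card S' < n
    · exact ih Ω' S' hlt hS' F' hF'
    · have hn : Nat.card S' = n := by omega
      subst hn
      exact tr_step W hW1 hW2 hLT hS' F' hF' ih

/-- **Main theorem**: a positive characteristic functor satisfying the local transfer condition
controls transfer in every saturated fusion system. -/
theorem tr_main
    (hW1 : ∀ (Q : Type u) [Group Q] [Finite Q], IsPGroup p Q → Nontrivial Q → W Q ≠ ⊥)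
    (hW2 : ∀ (Q R : Type u) [Group Q] [Group R] [Finite Q], IsPGroup p Q →
      ∀ φ : Q ≃* R, (W Q).map φ.toMonoidHom = W R)
    (hLT : LT.{u} p W)
    {Ω : Type u} [Group Ω] {S : Subgroup Ω} [Finite S] (hS : IsPGroup p S) (F : FusionSystem S)
    (hF : F.IsSaturated p) (N : FusionSystem (normalizerIn S (Wsub W S)))
    (hN : F.IsNormalizerSystem (Wsub W S) N) : N.focalSubgroup = F.focalSubgroup := by
  rw [focal_eq_NFoc F _ N hN]
  exact le_antisymm (NFoc_le_focal F _)
    (tr_step W hW1 hW2 hLT hS F hF (tr_all W hW1 hW2 hLT _))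

end Cfsg.Agent.Lib.Helper1.GC
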