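import Mathlib
import Cfsg.Agent.Lib.Helper1.SplitPResidual2
import Cfsg.Agent.Lib.Helper1.SZConj
import Cfsg.Agent.Lib.Helper1.Hall
import Cfsg.Agent.Lib.Helper1.PCore

set_option autoImplicit false
set_option linter.style.haveILetI false
set_option linter.unusedSectionVars false
set_option linter.unusedVariables false
set_option maxHeartbeats 1000000

/-! A group-theoretic lemma for fusion systems whose Sylow normalizer is inner: a finite group of
characteristic `p` in which all fusion in a Sylow `p`-subgroup is trivial modulo a normal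
subgroup contained in the Frattini subgroup of the Sylow subgroup is a `p`-group. -/

namespace Cfsg.Agent.Lib.Helper1.GD

open Pointwise
open Cfsg Cfsg.Agent.Lib.Helper1

universe u

/-- Relative Frattini argument for complements of a solvable normal Hall subgroup `Q` of `R`:
any element normalizing `R` is, up to an element of `Q`, in the normalizer of the complement. -/
theorem exists_mul_mem_normalizer_of_complement_solvable {G : Type u} [Group G] [Finite G]
    (Q R H : Subgroup G) (hQR : Q ≤ R)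
    (hHR : H ≤ R) (hQs : Group.IsSolvable ↥Q) (hRQ : R ≤ Subgroup.normalizer (Q : Set G))
    (hcard : Nat.card R = Nat.card Q * Nat.card H)
    (hcop : (Nat.card Q).Coprime (Nat.card H))
    (m : G) (hmR : m ∈ Subgroup.normalizer (R : Set G)) :
    ∃ a ∈ Q, a⁻¹ * m ∈ Subgroup.normalizer (H : Set G) := by
  haveI hQn : (Q.subgroupOf R).Normal :=
    (Subgroup.normal_subgroupOf_iff_le_normalizer hQR).mpr hRQ
  haveI := hQs
  have hQs' : Group.IsSolvable ↥(Q.subgroupOf R) :=
    Group.isSolvable_of_isSolvable_injective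
      (f := (Subgroup.subgroupOfEquivOfLe hQR).toMonoidHom)
      (Subgroup.subgroupOfEquivOfLe hQR).injective
  obtain ⟨H', hH'⟩ : ∃ H', H' = MulAut.conj m • H := ⟨_, rfl⟩
  have hH'R : H' ≤ R := by
    rw [hH']
    intro x hx
    rw [Subgroup.mem_pointwise_smul_iff_inv_smul_mem] at hx
    have h1 : m⁻¹ * x * m ∈ R := by
      have : (MulAut.conj m)⁻¹ • x = m⁻¹ * x * m := by simp [MulAut.smul_def, ← map_inv]
      rw [this] at hx
      exact hHR hx
    have h2 := (Subgroup.mem_normalizer_iff.mp hmR (m⁻¹ * x * m)).mp h1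
    have e : m * (m⁻¹ * x * m) * m⁻¹ = x := by group
    rwa [e] at h2
  have hH'card : Nat.card H' = Nat.card H := by rw [hH']; exact card_conj_smul m H
  have hcQ : Nat.card (Q.subgroupOf R) = Nat.card Q := card_subgroupOf_of_le hQR
  have hcH : Nat.card (H.subgroupOf R) = Nat.card H := card_subgroupOf_of_le hHR
  have hcH' : Nat.card (H'.subgroupOf R) = Nat.card H := by
    rw [card_subgroupOf_of_le hH'R, hH'card]
  have hcompH : Subgroup.IsComplement' (Q.subgroupOf R) (H.subgroupOf R) := by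
    apply Subgroup.isComplement'_of_card_mul_and_disjoint
    · rw [hcQ, hcH, hcard]
    · apply Subgroup.disjoint_of_coprime_natCard
      rw [hcQ, hcH]; exact hcop
  have hcompH' : Subgroup.IsComplement' (Q.subgroupOf R) (H'.subgroupOf R) := by
    apply Subgroup.isComplement'_of_card_mul_and_disjoint
    · rw [hcQ, hcH', hcard]
    · apply Subgroup.disjoint_of_coprime_natCard
      rw [hcQ, hcH']; exact hcop
  have hcop' : (Nat.card (Q.subgroupOf R)).Coprime (Nat.card (H.subgroupOf R)) := by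
    rw [hcQ, hcH]; exact hcop
  obtain ⟨a, ha, hconj⟩ := sz_conj_mem (Q.subgroupOf R) (H.subgroupOf R) (H'.subgroupOf R)
    hcompH hcompH' hcop' (Or.inl hQs')
  have h1 : MulAut.conj (a : G) • H = H' := conj_smul_of_subgroupOf hHR hH'R a hconj
  refine ⟨a, Subgroup.mem_subgroupOf.mp ha, ?_⟩
  apply mem_normalizer_of_conj_smul_eq
  rw [map_mul, mul_smul, ← hH', ← h1, ← mul_smul, ← map_mul, inv_mul_cancel, map_one, one_smul]

/-- **The group lemma**: let `L` be a finite group with `C_L(O_p(L)) ≤ O_p(L)`, `Sy` a Sylow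
`p`-subgroup and `QL ≤ Sy` a normal subgroup of `L` such that all fusion in `Sy` is trivial
modulo `QL` and `QL` consists of non-generators of `Sy`. Then `L = Sy`. -/
theorem sylow_eq_top_of_fusion {L : Type u} [Group L] [Finite L] {p : ℕ} [Fact p.Prime]
    (Sy : Sylow p L) (QL : Subgroup L) [hQLn : QL.Normal] (hQS : QL ≤ (Sy : Subgroup L))
    (hcent : Subgroup.centralizer ((pCore p L : Subgroup L) : Set L) ≤ pCore p L)
    (hfus : ∀ g : L, ∀ x ∈ (Sy : Subgroup L), g * x * g⁻¹ ∈ (Sy : Subgroup L) →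
      x⁻¹ * (g * x * g⁻¹) ∈ QL)
    (hfrat : ∀ S₁ : Subgroup L, S₁ ≤ (Sy : Subgroup L) →
      (∀ s ∈ (Sy : Subgroup L), ∃ a ∈ QL, a⁻¹ * s ∈ S₁) → (Sy : Subgroup L) ≤ S₁) :
    ∀ g : L, g ∈ (Sy : Subgroup L) := by
  have hpprime : p.Prime := Fact.out
  obtain ⟨π, hπdef⟩ : ∃ π : L →* L ⧸ QL, π = QuotientGroup.mk' QL := ⟨_, rfl⟩
  have hπsurj : Function.Surjective π := by
    rw [hπdef]
    exact QuotientGroup.mk'_surjective _
  have hπker : ∀ x : L, π x = 1 ↔ x ∈ QL := by
    intro x
    rw [hπdef, QuotientGroup.mk'_apply, QuotientGroup.eq_one_iff]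
  -- the preimage of the image of `Sy`
  have hpre : ∀ y : L, π y ∈ (Sy : Subgroup L).map π → y ∈ (Sy : Subgroup L) := by
    rintro y ⟨s, hs, hsy⟩
    have h1 : π (s⁻¹ * y) = 1 := by
      rw [map_mul, map_inv, hsy]
      exact inv_mul_cancel _
    have h2 : s⁻¹ * y ∈ (Sy : Subgroup L) := hQS ((hπker _).mp h1)
    have e : y = s * (s⁻¹ * y) := by group
    rw [e]
    exact Subgroup.mul_mem _ hs h2
  obtain ⟨Syb, hSybdef⟩ : ∃ Syb : Sylow p (L ⧸ QL), Syb = Sy.mapSurjective hπsurj := ⟨_, rfl⟩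
  have hSybcoe : (Syb : Subgroup (L ⧸ QL)) = (Sy : Subgroup L).map π := by
    rw [hSybdef]
    exact Sylow.coe_mapSurjective hπsurj Sy
  have hP : Subgroup.normalizer ((Syb : Subgroup (L ⧸ QL)) : Set (L ⧸ QL)) ≤
      Subgroup.centralizer ((Syb : Subgroup (L ⧸ QL)) : Set (L ⧸ QL)) := by
    intro gb hgb
    rw [Subgroup.mem_centralizer_iff]
    intro xb hxb
    have hxb' : xb ∈ (Syb : Subgroup (L ⧸ QL)) := hxb
    obtain ⟨g, rfl⟩ := hπsurj gb
    have hxb2 := hxb'
    rw [hSybcoe] at hxb2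
    obtain ⟨x, hx, rfl⟩ := hxb2
    have h1 : π g * π x * (π g)⁻¹ ∈ (Syb : Subgroup (L ⧸ QL)) :=
      (Subgroup.mem_normalizer_iff.mp hgb (π x)).mp hxb'
    have h2 : g * x * g⁻¹ ∈ (Sy : Subgroup L) := by
      apply hpre
      rw [map_mul, map_mul, map_inv, ← hSybcoe]
      exact h1
    have h3 := hfus g x hx h2
    have h4 : π (x⁻¹ * (g * x * g⁻¹)) = 1 := (hπker _).mpr h3
    rw [map_mul, map_inv, map_mul, map_mul, map_inv] at h4
    have h5 : π x = π g * π x * (π g)⁻¹ := inv_mul_eq_one.mp h4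
    calc π x * π g = (π g * π x * (π g)⁻¹) * π g := by rw [← h5]
      _ = π g * π x := by group
  -- Burnside's transfer theorem
  haveI : Finite (L ⧸ QL) := inferInstance
  have hcomp := MonoidHom.ker_transferSylow_isComplement' Syb hP
  obtain ⟨Kb, hKbdef⟩ : ∃ Kb, Kb = (MonoidHom.transferSylow Syb hP).ker := ⟨_, rfl⟩
  rw [← hKbdef] at hcomp
  have hKbn : Kb.Normal := by
    rw [hKbdef]
    exact MonoidHom.normal_ker _
  have hKbidx : (Syb : Subgroup (L ⧸ QL)).index = Nat.card Kb := hcomp.index_eq_card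
  have hpKb : ¬ p ∣ Nat.card Kb := by
    rw [← hKbidx]
    exact Syb.not_dvd_index
  have hpKbcop : Nat.Coprime p (Nat.card Kb) := (Nat.Prime.coprime_iff_not_dvd hpprime).mpr hpKb
  -- the preimage `K` of the normal `p`-complement
  obtain ⟨K, hKdef⟩ : ∃ K : Subgroup L, K = Kb.comap π := ⟨_, rfl⟩
  have hKn : K.Normal := by
    rw [hKdef]
    exact hKbn.comap π
  have hQK : QL ≤ K := by
    intro x hx
    rw [hKdef, Subgroup.mem_comap, (hπker x).mpr hx]
    exact Kb.one_mem
  have hKcard : Nat.card K = Nat.card QL * Nat.card Kb := by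
    rw [hKdef, hπdef]
    exact card_comap_mk' QL Kb
  have hQLp : IsPGroup p ↥QL := Sy.2.to_le hQS
  obtain ⟨n, hn⟩ := hQLp.exists_card_eq
  have hcop : (Nat.card QL).Coprime (Nat.card Kb) := by
    rw [hn]
    exact Nat.Coprime.pow_left n hpKbcop
  -- a complement `H` to `QL` in `K`
  haveI hQKn : (QL.subgroupOf K).Normal := inferInstance
  have hcQK : Nat.card (QL.subgroupOf K) = Nat.card QL := card_subgroupOf_of_le hQK
  have hidxQK : (QL.subgroupOf K).index = Nat.card Kb := by
    have h1 := Subgroup.card_mul_index (QL.subgroupOf K)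
    rw [hcQK, hKcard] at h1
    exact Nat.eq_of_mul_eq_mul_left Nat.card_pos h1
  obtain ⟨H0, hH0⟩ := Subgroup.exists_right_complement'_of_coprime (N := QL.subgroupOf K)
    (by rw [hcQK, hidxQK]; exact hcop)
  obtain ⟨H, hHdef⟩ : ∃ H : Subgroup L, H = H0.map K.subtype := ⟨_, rfl⟩
  have hHK : H ≤ K := by
    rw [hHdef]
    exact Subgroup.map_subtype_le H0
  have hHcard : Nat.card H = Nat.card Kb := by
    rw [hHdef, Subgroup.card_map_of_injective K.subtype_injective,
      ← hH0.symm.index_eq_card, hidxQK]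
  -- the relative Frattini argument
  have hQsolv : Group.IsSolvable ↥QL := by
    haveI := hQLp.isNilpotent
    exact IsNilpotent.to_isSolvable
  have hfr : ∀ m : L, ∃ a ∈ QL, a⁻¹ * m ∈ Subgroup.normalizer (H : Set L) := by
    intro m
    apply exists_mul_mem_normalizer_of_complement_solvable QL K H hQK hHK hQsolv
    · rw [Subgroup.normalizer_eq_top_iff.mpr hQLn]
      exact le_top
    · rw [hKcard, hHcard]
    · rw [hHcard]
      exact hcop
    · rw [Subgroup.normalizer_eq_top_iff.mpr hKn]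
      exact Subgroup.mem_top m
  have hSyN : (Sy : Subgroup L) ≤ Subgroup.normalizer (H : Set L) := by
    have h0 : ∀ s ∈ (Sy : Subgroup L), ∃ a ∈ QL,
        a⁻¹ * s ∈ (Sy : Subgroup L) ⊓ Subgroup.normalizer (H : Set L) := by
      intro s hs
      obtain ⟨a, ha, ham⟩ := hfr s
      exact ⟨a, ha, Subgroup.mul_mem _ (Subgroup.inv_mem _ (hQS ha)) hs, ham⟩
    exact (hfrat _ inf_le_left h0).trans inf_le_right
  have hHn : H.Normal := by
    apply Subgroup.normalizer_eq_top_iff.mp
    rw [eq_top_iff]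
    intro m _
    obtain ⟨a, ha, ham⟩ := hfr m
    have e : m = a * (a⁻¹ * m) := by group
    rw [e]
    exact Subgroup.mul_mem _ (hSyN (hQS ha)) ham
  -- `H` is trivial
  have hpcn : (pCore p L).Normal := pCore_normal p
  have hpcp : IsPGroup p ↥(pCore p L) := pCore_isPGroup p
  have hdisj : Disjoint H (pCore p L) := by
    apply Subgroup.disjoint_of_coprime_natCard
    obtain ⟨k, hk⟩ := hpcp.exists_card_eq
    rw [hHcard, hk]
    exact (Nat.Coprime.pow_left k hpKbcop).symm
  have hHle : H ≤ pCore p L := by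
    intro h hh
    apply hcent
    rw [Subgroup.mem_centralizer_iff]
    intro y hy
    exact ((Subgroup.commute_of_normal_of_disjoint H (pCore p L) hHn hpcn hdisj h y hh hy).eq).symm
  have hH1 : H = ⊥ := by
    rw [eq_bot_iff]
    intro h hh
    exact hdisj.le_bot (Subgroup.mem_inf.mpr ⟨hh, hHle hh⟩)
  have hKb1 : Nat.card Kb = 1 := by
    rw [← hHcard, hH1]
    exact Subgroup.card_bot
  have hKbbot : Kb = ⊥ := by
    apply Subgroup.eq_bot_of_card_eq
    exact hKb1
  rw [hKbbot] at hcomp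
  have hSybtop : (Syb : Subgroup (L ⧸ QL)) = ⊤ := Subgroup.isComplement'_bot_left.mp hcomp
  intro g
  apply hpre
  rw [← hSybcoe, hSybtop]
  exact Subgroup.mem_top _

end Cfsg.Agent.Lib.Helper1.GD
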