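import Mathlib
import Cfsg.Agent.Lib.Helper1.GD1
import Cfsg.Agent.Lib.Helper1.GC3
import Cfsg.Agent.Lib.Helper1.GN2
import Cfsg.Agent.S5090

set_option autoImplicit false
set_option linter.style.haveILetI false
set_option linter.unusedSectionVars false
set_option linter.unusedVariables false
set_option maxHeartbeats 1000000

/-! Saturated fusion systems whose Sylow normalizer is inner and which have a normal subgroup
between the derived subgroup and the Frattini subgroup are inner. -/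

namespace Cfsg.Agent.Lib.Helper1.GD

open Cfsg Cfsg.FusionSystem Cfsg.Agent.Lib.Helper9 Cfsg.Agent.Lib.Helper1.KN
  Cfsg.Agent.Lib.Helper1.KL Cfsg.Agent.Lib.Helper1.QF Cfsg.Agent.Lib.Helper1.GF
  Cfsg.Agent.Lib.Helper1.WC Cfsg.Agent.Lib.Helper1.GC Cfsg.Agent.Lib.Helper1.GN

universe u

theorem frattini_map_congr {Ω : Type*} [Group Ω] {A B : Subgroup Ω} (h : A = B) :
    (frattini ↥A).map A.subtype = (frattini ↥B).map B.subtype := by
  subst h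
  rfl

theorem pow_fix_mul {Ω : Type*} [Group Ω] {Y₁ Q : Subgroup Ω} (δ : MulAut ↥Y₁)
    (hfix : ∀ y : ↥Y₁, (y : Ω) ∈ Q → δ y = y)
    (hc : ∀ y : ↥Y₁, ((y⁻¹ * δ y : ↥Y₁) : Ω) ∈ Q) :
    ∀ (n : ℕ) (y : ↥Y₁), (δ ^ n) y = y * (y⁻¹ * δ y) ^ n := by
  intro n
  induction n with
  | zero =>
    intro y
    simp
  | succ n ih =>
    intro y
    rw [pow_succ', MulAut.mul_apply, ih y, map_mul, map_pow, hfix _ (hc y), pow_succ',
      ← mul_assoc, mul_inv_cancel_left]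

theorem pow_conj_on {Ω : Type*} [Group Ω] {Y₁ Q : Subgroup Ω} (a : MulAut ↥Y₁) (t : Ω)
    (hQt : ∀ x ∈ Q, t * x * t⁻¹ ∈ Q)
    (h : ∀ y : ↥Y₁, (y : Ω) ∈ Q → ((a y : ↥Y₁) : Ω) = t * y * t⁻¹) :
    ∀ (n : ℕ) (y : ↥Y₁), (y : Ω) ∈ Q → (((a ^ n) y : ↥Y₁) : Ω) = t ^ n * y * (t ^ n)⁻¹ := by
  intro n
  induction n with
  | zero =>
    intro y _
    simp
  | succ n ih =>
    intro y hy
    have hay : ((a y : ↥Y₁) : Ω) ∈ Q := by
      rw [h y hy]
      exact hQt _ hy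
    rw [pow_succ, MulAut.mul_apply, ih (a y) hay, h y hy, pow_succ]
    group

section main

variable {Ω : Type u} [Group Ω] {T : Subgroup Ω} [Finite T] {p : ℕ} [Fact p.Prime]

/-- a constrained system in which all fusion is trivial modulo a normal subgroup contained in
the Frattini subgroup is inner -/
theorem innerOn_of_model_frattini (hT : IsPGroup p T) (E : FusionSystem T) {L : Type u} [Group L]
    (ι : ↥T →* L) (hmodel : E.IsModel p L ι) {Q : Subgroup Ω} (hQn : E.IsNormal Q)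
    (hA : ∀ (P : Subgroup Ω) (φ : P →* Ω), φ ∈ E.Hom P → ∀ x : P, (x : Ω)⁻¹ * φ x ∈ Q)
    (hQfrat : Q ≤ (frattini ↥T).map T.subtype) : InnerOn E := by
  obtain ⟨hfin, hreal, ⟨Sy, hSy⟩, hcent⟩ := id hmodel
  haveI := hfin
  have hinj := hreal.1
  have hQT := hQn.1
  haveI hQLn : ((Q.subgroupOf T).map ι).Normal := map_normal_of_isModel p E ι hmodel hQn
  have hιSy : ∀ t : T, ι t ∈ (Sy : Subgroup L) := fun t => by
    rw [hSy]
    exact ⟨t, rfl⟩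
  have hQS : (Q.subgroupOf T).map ι ≤ (Sy : Subgroup L) := by
    rintro _ ⟨x, -, rfl⟩
    exact hιSy x
  have hfus : ∀ g : L, ∀ x ∈ (Sy : Subgroup L), g * x * g⁻¹ ∈ (Sy : Subgroup L) →
      x⁻¹ * (g * x * g⁻¹) ∈ (Q.subgroupOf T).map ι := by
    intro g x hx hgx
    rw [hSy] at hx hgx
    obtain ⟨a, rfl⟩ := hx
    obtain ⟨Q₀, hQ₀T, φ₀, hφ₀T, hφ₀E, hφ₀ι, hQ₀mem⟩ := exists_hom_of_conj E ι hreal g
    have haQ₀ : (a : Ω) ∈ Q₀ := hQ₀mem a a.2 hgx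
    have h1 := hA Q₀ φ₀ hφ₀E ⟨a, haQ₀⟩
    have hyT : (a : Ω)⁻¹ * φ₀ ⟨a, haQ₀⟩ ∈ T := hQT h1
    refine ⟨⟨_, hyT⟩, Subgroup.mem_subgroupOf.mpr h1, ?_⟩
    have e1 : (⟨(a : Ω)⁻¹ * φ₀ ⟨a, haQ₀⟩, hyT⟩ : T) = a⁻¹ * ⟨φ₀ ⟨a, haQ₀⟩, hφ₀T _⟩ := rfl
    rw [e1, map_mul, map_inv, hφ₀ι ⟨a, haQ₀⟩]
  have hfrat : ∀ S₁ : Subgroup L, S₁ ≤ (Sy : Subgroup L) →
      (∀ s ∈ (Sy : Subgroup L), ∃ a ∈ (Q.subgroupOf T).map ι, a⁻¹ * s ∈ S₁) →
      (Sy : Subgroup L) ≤ S₁ := by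
    intro S₁ hS₁ h
    have htop : S₁.comap ι ⊔ frattini ↥T = ⊤ := by
      rw [eq_top_iff]
      intro t _
      obtain ⟨a, ⟨q, hq, rfl⟩, hat⟩ := h (ι t) (hιSy t)
      have hqf : q ∈ frattini ↥T := by
        have h1 : (q : Ω) ∈ (frattini ↥T).map T.subtype :=
          hQfrat (Subgroup.mem_subgroupOf.mp hq)
        obtain ⟨q', hq', hqq'⟩ := h1
        have e : q' = q := Subtype.ext hqq'
        rw [← e]
        exact hq'
      have h2 : q⁻¹ * t ∈ S₁.comap ι := by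
        rw [Subgroup.mem_comap, map_mul, map_inv]
        exact hat
      have e : t = q * (q⁻¹ * t) := by group
      rw [e]
      exact Subgroup.mul_mem _ (Subgroup.mem_sup_right hqf) (Subgroup.mem_sup_left h2)
    have h3 := frattini_nongenerating htop
    intro s hs
    rw [hSy] at hs
    obtain ⟨t, rfl⟩ := hs
    have h4 : t ∈ S₁.comap ι := by
      rw [h3]
      exact Subgroup.mem_top t
    exact h4
  have hall := sylow_eq_top_of_fusion Sy ((Q.subgroupOf T).map ι) hQS hcent hfus hfrat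
  intro P
  ext φ
  constructor
  · intro hφ
    obtain ⟨hPT, hφT⟩ := E.le_of_mem hφ
    obtain ⟨g, hg⟩ := (hreal.2 P hPT φ hφT).mp hφ
    have hgSy := hall g
    rw [hSy] at hgSy
    obtain ⟨t, rfl⟩ := hgSy
    refine ⟨hPT, t, t.2, fun x => ?_⟩
    have h1 : ι ⟨φ x, hφT x⟩ = ι (t * ⟨x, hPT x.2⟩ * t⁻¹) := by
      rw [map_mul, map_mul, map_inv]
      exact hg x
    exact congrArg Subtype.val (hinj h1)
  · rintro ⟨hPT, t, ht, hφ⟩
    have e : φ = conjHom P t := by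
      apply MonoidHom.ext
      intro x
      rw [hφ x]
      rfl
    rw [e]
    exact E.conj_mem hPT ht

open scoped commutatorElement in
/-- step (A): if `Aut_E(T)` is inner and `T/Q` is abelian, all fusion is trivial modulo `Q` -/
theorem focal_le_of_aut_top (hT : IsPGroup p T) (E : FusionSystem T) (hE : E.IsSaturated p)
    {Q : Subgroup Ω} (hsc : E.StronglyClosed Q) (hcommQ : ⁅T, T⁆ ≤ Q)
    (hAut : ∀ (Y : Subgroup Ω) (φ : Y →* Ω), T ≤ Y → φ ∈ E.Hom Y →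
      ∃ t ∈ T, ∀ x : Y, φ x = t * x * t⁻¹) :
    ∀ (P : Subgroup Ω) (φ : P →* Ω), φ ∈ E.Hom P → ∀ x : P, (x : Ω)⁻¹ * φ x ∈ Q := by
  have hQT := hsc.1
  haveI : (Q.subgroupOf T).Normal := subgroupOf_normal_of_stronglyClosed E hsc
  obtain ⟨θ, hθdef⟩ : ∃ θ : ↥T →* ↥T ⧸ Q.subgroupOf T, θ = QuotientGroup.mk' (Q.subgroupOf T) :=
    ⟨_, rfl⟩
  have hθsurj : Function.Surjective θ := by
    rw [hθdef]
    exact QuotientGroup.mk'_surjective _
  obtain ⟨Eb, hfac⟩ := exists_factorSystem_quotient E Q hsc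
  rw [← hθdef] at hfac
  have hker := hfac.2.1
  have hrange := hfac.2.2.1
  have hHom := hfac.2.2.2
  haveI : Finite (↥T ⧸ Q.subgroupOf T) := inferInstance
  haveI : Finite ↥(⊤ : Subgroup (↥T ⧸ Q.subgroupOf T)) := inferInstance
  have hS'p : IsPGroup p ↥(⊤ : Subgroup (↥T ⧸ Q.subgroupOf T)) :=
    isPGroup_of_range_eq hT θ hrange
  have hEbsat := factorSystem_saturated p hT E hE hsc θ Eb hfac
  -- the quotient is abelian
  have hcomm : ∀ a b : ↥T ⧸ Q.subgroupOf T, a * b = b * a := by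
    intro a b
    obtain ⟨x, rfl⟩ := hθsurj a
    obtain ⟨y, rfl⟩ := hθsurj b
    have h1 : ((x * y * x⁻¹ * y⁻¹ : ↥T) : Ω) ∈ Q := by
      apply hcommQ
      have e : ((x * y * x⁻¹ * y⁻¹ : ↥T) : Ω) = ⁅(x : Ω), (y : Ω)⁆ := by
        rw [commutatorElement_def]
        rfl
      rw [e]
      exact Subgroup.commutator_mem_commutator x.2 y.2
    have h2 : θ (x * y * x⁻¹ * y⁻¹) = 1 := (hker _).mpr h1
    simp only [map_mul, map_inv] at h2
    have h3 : θ x * θ y * (θ x)⁻¹ = θ y := mul_inv_eq_one.mp h2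
    calc θ x * θ y = (θ x * θ y * (θ x)⁻¹) * θ x := by group
      _ = θ y * θ x := by rw [h3]
  have hcen : ∀ Xb : Subgroup (↥T ⧸ Q.subgroupOf T),
      centralizerIn (⊤ : Subgroup (↥T ⧸ Q.subgroupOf T)) Xb = ⊤ := by
    intro Xb
    rw [eq_top_iff]
    intro z _
    refine ⟨Subgroup.mem_top z, Subgroup.mem_centralizer_iff.mpr ?_⟩
    intro y _
    exact hcomm y z
  -- every map of the quotient system is an inclusion
  have hid : ∀ (Pb : Subgroup (↥T ⧸ Q.subgroupOf T)) (φb : Pb →* (↥T ⧸ Q.subgroupOf T)),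
      φb ∈ Eb.Hom Pb → ∀ xb : Pb, φb xb = xb := by
    intro Pb φb hφb xb
    have hfc : Eb.IsFullyCentralized φb.range :=
      ⟨le_top, fun Q' _ => le_of_eq (by rw [hcen, hcen])⟩
    have hrec := receptive_of_fullyCentralized hS'p Eb hEbsat hfc
    obtain ⟨ψ, hψ, hψext⟩ := hrec.2 Pb φb hφb rfl
    have htopext : (⊤ : Subgroup (↥T ⧸ Q.subgroupOf T)) ≤ extender ⊤ Pb φb := by
      have h := centralizerIn_le_extender (S := (⊤ : Subgroup (↥T ⧸ Q.subgroupOf T))) Pb φb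
      rw [hcen Pb] at h
      exact h
    have hρ : ψ.comp (Subgroup.inclusion htopext) ∈ Eb.Hom ⊤ := restrict_mem Eb hψ htopext
    obtain ⟨-, χ, hχ, hZT, hχT, hZim, hind⟩ := (hHom _ _).mp hρ
    have hTle : T ≤ preimageAlong θ ⊤ := by
      intro t ht
      exact (mem_preimageAlong θ _ _).mpr ⟨ht, Subgroup.mem_top _⟩
    obtain ⟨t, ht, hχt⟩ := hAut _ χ hTle hχ
    have key : ∀ (z : ↥(preimageAlong θ ⊤)) (hz : θ ⟨z, hZT z.2⟩ ∈ Pb),
        φb ⟨θ ⟨z, hZT z.2⟩, hz⟩ = θ ⟨z, hZT z.2⟩ := by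
      intro z hz
      rw [← hψext _ hz (htopext (Subgroup.mem_top _))]
      have h1 := hind z
      have h2 : ψ ⟨θ ⟨z, hZT z.2⟩, htopext (Subgroup.mem_top _)⟩ = θ ⟨χ z, hχT z⟩ := h1
      rw [h2]
      have h4 : (⟨χ z, hχT z⟩ : T) = ⟨t, ht⟩ * ⟨z, hZT z.2⟩ * ⟨t, ht⟩⁻¹ :=
        Subtype.ext (hχt z)
      rw [h4, map_mul, map_mul, map_inv, hcomm (θ ⟨t, ht⟩) (θ ⟨z, hZT z.2⟩), mul_assoc,
        mul_inv_cancel, mul_one]
    obtain ⟨x, hx⟩ := hθsurj (xb : ↥T ⧸ Q.subgroupOf T)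
    have hxZ : (x : Ω) ∈ preimageAlong θ ⊤ := hTle x.2
    have hz : θ ⟨((⟨x, hxZ⟩ : ↥(preimageAlong θ ⊤)) : Ω), hZT hxZ⟩ ∈ Pb := by
      show θ x ∈ Pb
      rw [hx]
      exact xb.2
    have h5 := key ⟨x, hxZ⟩ hz
    have e : xb = ⟨θ ⟨((⟨x, hxZ⟩ : ↥(preimageAlong θ ⊤)) : Ω), hZT hxZ⟩, hz⟩ :=
      Subtype.ext hx.symm
    rw [e]
    exact h5
  intro P φ hφ x
  obtain ⟨hPT, hφT⟩ := E.le_of_mem hφ
  have hwT : (x : Ω)⁻¹ * φ x ∈ T := T.mul_mem (T.inv_mem (hPT x.2)) (hφT x)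
  have h1 : θ ⟨(x : Ω)⁻¹ * φ x, hwT⟩ ∈ Eb.focalSubgroup :=
    focal_map_le hT E hE hsc θ Eb hfac _ (mem_focal E hφ x) hwT
  have hfocb : Eb.focalSubgroup = ⊥ := by
    rw [eq_bot_iff]
    apply (Subgroup.closure_le _).mpr
    rintro _ ⟨Pb, φb, xb, hφb, rfl⟩
    rw [hid Pb φb hφb xb]
    show (xb : ↥T ⧸ Q.subgroupOf T)⁻¹ * xb ∈ (⊥ : Subgroup (↥T ⧸ Q.subgroupOf T))
    rw [inv_mul_cancel]
    exact Subgroup.one_mem _
  rw [hfocb, Subgroup.mem_bot] at h1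
  exact (hker _).mp h1

/-- steps (C), (D): the automorphisms of `Q` in the system are induced by `T` -/
theorem aut_inner_of_normal (hT : IsPGroup p T) (E : FusionSystem T) (hE : E.IsSaturated p)
    {Q : Subgroup Ω} (hQn : E.IsNormal Q)
    (hA : ∀ (P : Subgroup Ω) (φ : P →* Ω), φ ∈ E.Hom P → ∀ x : P, (x : Ω)⁻¹ * φ x ∈ Q)
    (hQfrat : Q ≤ (frattini ↥T).map T.subtype) :
    ∀ β : Q →* Ω, β ∈ E.Hom Q → ∃ t ∈ T, ∀ x : Q, β x = t * x * t⁻¹ := by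
  have hQT := hQn.1
  haveI : Finite Q := finite_of_le hQT
  have hsc := stronglyClosed_of_normal E hQn
  have hQnorm : ∀ t ∈ T, ∀ x ∈ Q, t * x * t⁻¹ ∈ Q :=
    fun s hs x hx => conj_mem_of_isNormal E hQn hs hx
  have hNQ : normalizerIn T Q = T := normalizerIn_eq_of_forall hQnorm
  obtain ⟨R, hRdef⟩ : ∃ R, R = Q ⊔ centralizerIn T Q := ⟨_, rfl⟩
  have hQR : Q ≤ R := by
    rw [hRdef]
    exact le_sup_left
  have hCR : centralizerIn T Q ≤ R := by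
    rw [hRdef]
    exact le_sup_right
  have hRT : R ≤ T := by
    rw [hRdef]
    exact _root_.sup_le hQT (centralizerIn_le T Q)
  haveI : Finite R := finite_of_le hRT
  have hTnormQ : ∀ t ∈ T, t ∈ Subgroup.normalizer (Q : Set Ω) := fun t ht => by
    have h1 : t ∈ normalizerIn T Q := by
      rw [hNQ]
      exact ht
    exact h1.2
  have hCnorm : ∀ t ∈ T, ∀ x ∈ centralizerIn T Q, t * x * t⁻¹ ∈ centralizerIn T Q := by
    intro t ht x hx
    exact ⟨T.mul_mem (T.mul_mem ht hx.1) (T.inv_mem ht),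
      conj_mem_centralizer (hTnormQ t ht) hx.2⟩
  have hRnorm : ∀ t ∈ T, ∀ x ∈ R, t * x * t⁻¹ ∈ R := by
    intro t ht x hx
    rw [hRdef] at hx ⊢
    exact conj_mem_sup (hQnorm t ht) (hCnorm t ht) x hx
  have hNR : normalizerIn T R = T := normalizerIn_eq_of_forall hRnorm
  have hRfn := fullyNormalized_of_normalizerIn_eq E hRT hNR
  obtain ⟨E₁, hE₁⟩ := Cfsg.Agent.S5096.result E R hRT
  have hE₁sat := Cfsg.Agent.S5098.result p hT E hE R hRfn E₁ hE₁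
  haveI : Finite ↥(normalizerIn T R) := finite_normalizerIn (S := T) R
  have hT₁p : IsPGroup p ↥(normalizerIn T R) := isPGroup_of_le hT (normalizerIn_le T R)
  have hRn₁ : E₁.IsNormal R := normal_self_of_isNormalizerSystem E hRT E₁ hE₁
  have hsc₁ := stronglyClosed_of_normal E₁ hRn₁
  have hRc₁ : E₁.IsCentric R := by
    refine ⟨hRn₁.1, fun Q' hQ' => ?_⟩
    have hQ'R : Q' ≤ R := by
      obtain ⟨φ, hφ, hr⟩ := hQ'
      rw [← hr]
      rintro _ ⟨x, rfl⟩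
      exact hsc₁.2 R le_rfl φ hφ x
    have hcard := card_eq_of_isConj E₁ hQ'
    have hQ'eq : Q' = R := Subgroup.eq_of_le_of_card_ge hQ'R hcard.le
    rw [hQ'eq]
    intro c hc
    apply hCR
    refine ⟨normalizerIn_le T R hc.1, ?_⟩
    exact Subgroup.centralizer_le (show (Q : Set Ω) ⊆ R from hQR) hc.2
  obtain ⟨L, _, ι, hL⟩ := Cfsg.Agent.S5090.result p hT₁p E₁ ⟨hE₁sat, R, hRn₁, hRc₁⟩
  have hQn₁ : E₁.IsNormal Q := isNormal_of_le_normalizerSystem E hRT hQR hQn E₁ hE₁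
  have hA₁ : ∀ (P : Subgroup Ω) (φ : P →* Ω), φ ∈ E₁.Hom P → ∀ x : P, (x : Ω)⁻¹ * φ x ∈ Q :=
    fun P φ hφ x => hA P φ (hom_of_normalizerSystem E E₁ hE₁ hφ) x
  have hQfrat₁ : Q ≤ (frattini ↥(normalizerIn T R)).map (normalizerIn T R).subtype := by
    rw [frattini_map_congr hNR]
    exact hQfrat
  have hin := innerOn_of_model_frattini hT₁p E₁ ι hL hQn₁ hA₁ hQfrat₁
  intro β hβ
  have hβr : β.range = Q := by
    apply Subgroup.eq_of_le_of_card_ge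
    · rintro _ ⟨x, rfl⟩
      exact hsc.2 Q le_rfl β hβ x
    · exact (Nat.card_congr (MonoidHom.ofInjective (E.injective_of_mem hβ)).toEquiv).le
  have hQfn : E.IsFullyNormalized Q := fullyNormalized_of_normalizerIn_eq E hQT hNQ
  have hQrec := receptive_of_fullyCentralized hT E hE
    (fullyCentralized_of_fullyNormalized hT E hE hQfn)
  obtain ⟨βt, hβt, hβtext⟩ := hQrec.2 Q β hβ hβr
  have hQext : Q ≤ extender T Q β := le_extender hQT β (fun x => (E.le_of_mem hβ).2 x)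
  have hRext : R ≤ extender T Q β := by
    rw [hRdef]
    exact _root_.sup_le hQext (centralizerIn_le_extender Q β)
  obtain ⟨β', hβ'def⟩ : ∃ β' : ↥R →* Ω, β' = βt.comp (Subgroup.inclusion hRext) := ⟨_, rfl⟩
  have hβ' : β' ∈ E.Hom R := by
    rw [hβ'def]
    exact restrict_mem E hβt hRext
  have hβ'Q : ∀ (r' : Ω) (hr : r' ∈ Q), β' ⟨r', hQR hr⟩ = β ⟨r', hr⟩ := by
    intro r' hr
    rw [hβ'def]
    exact hβtext r' hr (hRext (hQR hr))
  have hβ'C : ∀ (c' : Ω) (hc : c' ∈ centralizerIn T Q),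
      β' ⟨c', hCR hc⟩ ∈ centralizerIn T Q := by
    intro c' hc
    rw [hβ'def]
    exact extension_centralizer_mem E hβ hβr hβt hβtext c' hc
  have hβmemQ : ∀ r' : ↥Q, β r' ∈ Q := fun r' => hβr.le ⟨r', rfl⟩
  have hβ'mem : ∀ x : ↥R, β' x ∈ R := by
    intro x
    refine Subgroup.mem_comap.mp (top_of_sup hRdef (R.comap β') (fun r' hr h => ?_)
      (fun c' hc h => ?_) x)
    · rw [Subgroup.mem_comap, hβ'Q r' hr]
      exact hQR (hβmemQ ⟨r', hr⟩)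
    · rw [Subgroup.mem_comap]
      exact hCR (hβ'C c' hc)
  have hβ'R : (R.subgroupOf R).map β' = R :=
    map_eq_of_forall_mem β' (E.injective_of_mem hβ') le_rfl (fun z _ => hβ'mem z)
  have hβ'E₁ : β' ∈ E₁.Hom R := by
    rw [hE₁ R]
    exact mem_normalizerHom_of_map_eq E le_rfl (self_le_normalizerIn' hRT) hβ' hβ'R
  rw [hin R] at hβ'E₁
  obtain ⟨-, t, ht, hβ't⟩ := hβ'E₁
  refine ⟨t, normalizerIn_le T R ht, fun x => ?_⟩
  have e : β x = β' ⟨x, hQR x.2⟩ := (hβ'Q x x.2).symm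
  rw [e]
  exact hβ't ⟨x, hQR x.2⟩

/-- **Main theorem**: a saturated system over `T` in which the automorphisms of `T` are inner and
which has a normal subgroup `Q` with `[T, T] ≤ Q ≤ Φ(T)` is the inner system of `T`. -/
theorem innerOn_of_frattini (hT : IsPGroup p T) (E : FusionSystem T) (hE : E.IsSaturated p)
    {Q : Subgroup Ω} (hQn : E.IsNormal Q) (hcommQ : ⁅T, T⁆ ≤ Q)
    (hQfrat : Q ≤ (frattini ↥T).map T.subtype)
    (hAut : ∀ (Y : Subgroup Ω) (φ : Y →* Ω), T ≤ Y → φ ∈ E.Hom Y →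
      ∃ t ∈ T, ∀ x : Y, φ x = t * x * t⁻¹) : InnerOn E := by
  have hsc := stronglyClosed_of_normal E hQn
  have hA := focal_le_of_aut_top hT E hE hsc hcommQ hAut
  have hD := aut_inner_of_normal hT E hE hQn hA hQfrat
  by_contra hni
  obtain ⟨Y, α, hYT, hα, hαp⟩ := exists_aut_of_not_innerOn hT E hE hni
  have hQT := hQn.1
  haveI : Finite Q := finite_of_le hQT
  have h1 := hom_of_mem_autGroup E hYT hα
  obtain ⟨ψ, hψ, hψext, hψQ⟩ := hQn.2 Y _ h1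
  have hrange : ψ.range = Y ⊔ Q := by
    rw [range_ext_eq ψ _ hψext hψQ, range_subtype_comp_aut]
  obtain ⟨α', hα', hα'ψ⟩ := exists_aut_of_hom E hψ hrange
  have hY₁T : Y ⊔ Q ≤ T := _root_.sup_le hYT hQT
  have hQY₁ : Q ≤ Y ⊔ Q := le_sup_right
  have hβ : ψ.comp (Subgroup.inclusion hQY₁) ∈ E.Hom Q := restrict_mem E hψ hQY₁
  obtain ⟨t, ht, hβt⟩ := hD _ hβ
  obtain ⟨j, hj⟩ := hT ⟨t, ht⟩
  have hj' : t ^ (p ^ j) = 1 := by
    have := congrArg Subtype.val hj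
    simpa using this
  have hQnorm : ∀ x ∈ Q, t * x * t⁻¹ ∈ Q := fun x hx => conj_mem_of_isNormal E hQn ht hx
  have hα'Q : ∀ y : ↥(Y ⊔ Q), (y : Ω) ∈ Q → ((α' y : ↥(Y ⊔ Q)) : Ω) = t * y * t⁻¹ := by
    intro y hy
    rw [hα'ψ]
    exact hβt ⟨y, hy⟩
  have hpowQ := pow_conj_on α' t hQnorm hα'Q
  obtain ⟨δ, hδdef⟩ : ∃ δ : MulAut ↥(Y ⊔ Q), δ = α' ^ (p ^ j) := ⟨_, rfl⟩
  have hδmem : δ ∈ E.autGroup (Y ⊔ Q) := by
    rw [hδdef]
    exact Subgroup.pow_mem _ hα' _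
  have hδfix : ∀ y : ↥(Y ⊔ Q), (y : Ω) ∈ Q → δ y = y := by
    intro y hy
    apply Subtype.ext
    rw [hδdef, hpowQ (p ^ j) y hy, hj']
    simp
  have hδc : ∀ y : ↥(Y ⊔ Q), ((y⁻¹ * δ y : ↥(Y ⊔ Q)) : Ω) ∈ Q := by
    intro y
    have h2 := hA _ _ (hom_of_mem_autGroup E hY₁T hδmem) y
    exact h2
  obtain ⟨l, hl⟩ := hT.exists_card_eq
  have hδpow : δ ^ (p ^ l) = 1 := by
    apply MulEquiv.ext
    intro y
    rw [pow_fix_mul δ hδfix hδc (p ^ l) y]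
    have hc1 : (y⁻¹ * δ y) ^ (p ^ l) = 1 := by
      have hcT : ((y⁻¹ * δ y : ↥(Y ⊔ Q)) : Ω) ∈ T := hQT (hδc y)
      have h3 : (⟨_, hcT⟩ : T) ^ Nat.card T = 1 := pow_card_eq_one'
      rw [hl] at h3
      have h5 : ((y⁻¹ * δ y : ↥(Y ⊔ Q)) : Ω) ^ (p ^ l) = 1 := congrArg Subtype.val h3
      apply Subtype.ext
      exact h5
    rw [hc1, mul_one]
    rfl
  apply hαp (j + l)
  apply MulEquiv.ext
  intro y
  apply Subtype.ext
  have h2 := pow_ext (le_sup_left : Y ≤ Y ⊔ Q) α' α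
    (fun y => by rw [hα'ψ, hψext]; rfl) (p ^ (j + l)) y
  rw [← h2]
  have e : α' ^ (p ^ (j + l)) = 1 := by
    rw [pow_add, pow_mul, ← hδdef]
    exact hδpow
  rw [e]
  rfl

end main

end Cfsg.Agent.Lib.Helper1.GD
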