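import Mathlib
import Cfsg.Agent.Lib.Helper1.GD2

set_option autoImplicit false
set_option linter.style.haveILetI false
set_option linter.unusedSectionVars false
set_option linter.unusedVariables false
set_option maxHeartbeats 1000000

/-! If `N_F(S)` is inner and `[S, S] ≤ Q ≤ Φ(S)` then `N_F(Q)` is inner. -/

namespace Cfsg.Agent.Lib.Helper1.GD

open Cfsg Cfsg.FusionSystem Cfsg.Agent.Lib.Helper9 Cfsg.Agent.Lib.Helper1.KN
  Cfsg.Agent.Lib.Helper1.KL Cfsg.Agent.Lib.Helper1.QF Cfsg.Agent.Lib.Helper1.GF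
  Cfsg.Agent.Lib.Helper1.WC Cfsg.Agent.Lib.Helper1.GC Cfsg.Agent.Lib.Helper1.GN

universe u

open scoped commutatorElement in
theorem normalizer_inner_of_frattini {Ω : Type u} [Group Ω] {S : Subgroup Ω} [Finite S] (p : ℕ)
    [Fact p.Prime] (hS : IsPGroup p S) (F : FusionSystem S) (hF : F.IsSaturated p)
    (hN : ∀ N : FusionSystem (normalizerIn S S), F.IsNormalizerSystem S N →
      ∀ P : Subgroup Ω, N.Hom P = (innerFusionSystem (normalizerIn S S)).Hom P)
    (Q : Subgroup Ω) (h1 : (commutator ↥S).map S.subtype ≤ Q)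
    (h2 : Q ≤ (frattini ↥S).map S.subtype) :
    ∀ N : FusionSystem (normalizerIn S Q), F.IsNormalizerSystem Q N →
      ∀ P : Subgroup Ω, N.Hom P = (innerFusionSystem (normalizerIn S Q)).Hom P := by
  intro N hNsys
  have hQS : Q ≤ S := h2.trans (Subgroup.map_subtype_le _)
  haveI : Finite Q := finite_of_le hQS
  have hcomm : ⁅S, S⁆ ≤ Q := by
    have h7 : (⁅(⊤ : Subgroup ↥S), (⊤ : Subgroup ↥S)⁆).map S.subtype = ⁅S, S⁆ := by
      rw [Subgroup.map_commutator, ← MonoidHom.range_eq_map, Subgroup.range_subtype]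
    rw [← h7]
    exact h1
  have hQnorm : ∀ s ∈ S, ∀ x ∈ Q, s * x * s⁻¹ ∈ Q := by
    intro s hs x hx
    have e : s * x * s⁻¹ = ⁅s, x⁆ * x := by
      rw [commutatorElement_def]
      group
    rw [e]
    exact Q.mul_mem (hcomm (Subgroup.commutator_mem_commutator hs (hQS hx))) hx
  have hNQ : normalizerIn S Q = S := normalizerIn_eq_of_forall hQnorm
  have hQfn := fullyNormalized_of_normalizerIn_eq F hQS hNQ
  have hNsat := Cfsg.Agent.S5098.result p hS F hF Q hQfn N hNsys
  haveI : Finite ↥(normalizerIn S Q) := finite_normalizerIn (S := S) Q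
  have hTp : IsPGroup p ↥(normalizerIn S Q) := isPGroup_of_le hS (normalizerIn_le S Q)
  have hQn : N.IsNormal Q := normal_self_of_isNormalizerSystem F hQS N hNsys
  have hcommT : ⁅normalizerIn S Q, normalizerIn S Q⁆ ≤ Q := by
    rw [hNQ]
    exact hcomm
  have hfratT : Q ≤ (frattini ↥(normalizerIn S Q)).map (normalizerIn S Q).subtype := by
    rw [frattini_map_congr hNQ]
    exact h2
  have hNSS : normalizerIn S S = S :=
    normalizerIn_eq_of_forall (fun s hs x hx => S.mul_mem (S.mul_mem hs hx) (S.inv_mem hs))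
  obtain ⟨NS, hNS⟩ := Cfsg.Agent.S5096.result F S le_rfl
  have hNSin := hN NS hNS
  have hAut : ∀ (Y : Subgroup Ω) (φ : Y →* Ω), normalizerIn S Q ≤ Y → φ ∈ N.Hom Y →
      ∃ t ∈ normalizerIn S Q, ∀ x : Y, φ x = t * x * t⁻¹ := by
    intro Y φ hTY hφ
    have hφF : φ ∈ F.Hom Y := hom_of_normalizerSystem F N hNsys hφ
    have hYS : Y ≤ S := (F.le_of_mem hφF).1
    have hSY : S ≤ Y := hNQ.ge.trans hTY
    have hφS : (S.subgroupOf Y).map φ = S :=
      map_eq_of_forall_mem φ (F.injective_of_mem hφF) hSY (fun y _ => (F.le_of_mem hφF).2 y)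
    have hφNS : φ ∈ NS.Hom Y := by
      rw [hNS Y]
      exact mem_normalizerHom_of_map_eq F hSY (hYS.trans hNSS.ge) hφF hφS
    rw [hNSin Y] at hφNS
    obtain ⟨-, t, ht, hφt⟩ := hφNS
    exact ⟨t, hNQ.ge (normalizerIn_le S S ht), hφt⟩
  exact innerOn_of_frattini hTp N hNsat hQn hcommT hfratT hAut

end Cfsg.Agent.Lib.Helper1.GD
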