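import Mathlib
import Cfsg.Agent.Lib.Helper1.GE1

set_option autoImplicit false
set_option linter.style.haveILetI false
set_option linter.unusedSectionVars false
set_option linter.unusedVariables false
set_option maxHeartbeats 4000000

/-! A strongly closed metacyclic `p`-subgroup (`p` odd) of a Sylow `p`-subgroup of a finite group
`L` with `C_L(O_p(L)) ≤ O_p(L)` lies in `O_p(L)`. -/

namespace Cfsg.Agent.Lib.Helper1.GE

open Cfsg Cfsg.Agent.Lib.Helper1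
open scoped commutatorElement

universe u

variable {L : Type u} [Group L]

theorem metacyclic_stronglyClosed_le_pCore [Finite L] {p : ℕ} [hp : Fact p.Prime] (hp2 : p ≠ 2)
    (Sy : Sylow p L) (PL : Subgroup L) (hPS : PL ≤ (Sy : Subgroup L))
    (hsc : ∀ y ∈ PL, ∀ g : L, g * y * g⁻¹ ∈ (Sy : Subgroup L) → g * y * g⁻¹ ∈ PL)
    (hcent : Subgroup.centralizer ((pCore p L : Subgroup L) : Set L) ≤ pCore p L)
    (hm : IsMetacyclic ↥PL) : PL ≤ pCore p L := by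
  by_contra hnot
  obtain ⟨x, hxP, hxR⟩ := SetLike.not_le_iff_exists.mp hnot
  obtain ⟨R, hRdef⟩ : ∃ R : Subgroup L, R = pCore p L := ⟨_, rfl⟩
  rw [← hRdef] at hxR hcent
  haveI hRn : R.Normal := by rw [hRdef]; exact pCore_normal p
  have hRp : IsPGroup p R := by rw [hRdef]; exact pCore_isPGroup p
  have hRSy : R ≤ (Sy : Subgroup L) := by rw [hRdef]; exact pCore_le_sylow p Sy
  have hSyp : IsPGroup p (Sy : Subgroup L) := Sy.isPGroup'
  -- M
  obtain ⟨M, hMdef⟩ : ∃ M : Subgroup L, M = PL ⊓ R := ⟨_, rfl⟩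
  have hMP : M ≤ PL := by rw [hMdef]; exact inf_le_left
  have hMR : M ≤ R := by rw [hMdef]; exact inf_le_right
  haveI hMn : M.Normal := by
    constructor
    intro m hm' g
    rw [hMdef] at hm' ⊢
    have h1 : g * m * g⁻¹ ∈ R := hRn.conj_mem m hm'.2 g
    exact Subgroup.mem_inf.mpr ⟨hsc m hm'.1 g (hRSy h1), h1⟩
  have hMp : IsPGroup p M := hRp.to_le hMR
  have hMm : IsMetacyclic ↥M := isMetacyclic_of_le hMP hm
  -- V
  obtain ⟨V, hVdef⟩ : ∃ V : Subgroup L, V = omegaOne p M := ⟨_, rfl⟩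
  haveI hVn : V.Normal := by rw [hVdef]; exact omegaOne_normal p M
  obtain ⟨hVe, hVc, hVcard, hVcyc⟩ := omega_sub_facts hp2 M hMp hMm
  rw [← hVdef] at hVe hVc hVcard hVcyc
  have hVM : V ≤ M := by rw [hVdef]; exact omegaOne_le p M
  have hVp : IsPGroup p V := hMp.to_le hVM
  have hVmem : ∀ m ∈ M, m ^ p = 1 → m ∈ V := fun m hm' h => by
    rw [hVdef]; exact Subgroup.subset_closure ⟨hm', h⟩
  -- B
  obtain ⟨πM, hπM⟩ : ∃ π : L →* L ⧸ M, π = QuotientGroup.mk' M := ⟨_, rfl⟩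
  have hπ1 : ∀ g : L, πM g = 1 ↔ g ∈ M := by
    intro g
    rw [hπM]
    exact QuotientGroup.eq_one_iff g
  haveI hRmapn : (R.map πM).Normal :=
    hRn.map πM (by rw [hπM]; exact QuotientGroup.mk'_surjective M)
  obtain ⟨B, hBdef⟩ : ∃ B : Subgroup L,
      B = (Subgroup.centralizer ((R.map πM : Subgroup (L ⧸ M)) : Set (L ⧸ M))).comap πM :=
    ⟨_, rfl⟩
  haveI hBn : B.Normal := by
    rw [hBdef]
    exact Subgroup.Normal.comap Subgroup.normal_centralizer πM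
  have hBmem : ∀ g : L, g ∈ B ↔ ∀ r ∈ R, g * r * g⁻¹ * r⁻¹ ∈ M := by
    intro g
    rw [hBdef, Subgroup.mem_comap, Subgroup.mem_centralizer_iff]
    constructor
    · intro h r hr
      have h1 := h (πM r) (Subgroup.mem_map_of_mem πM hr)
      rw [← hπ1, map_mul, map_mul, map_mul, map_inv, map_inv, ← h1]
      group
    · intro h z hz
      obtain ⟨r, hr, rfl⟩ := hz
      have h1 := (hπ1 _).mpr (h r hr)
      rw [map_mul, map_mul, map_mul, map_inv, map_inv] at h1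
      exact (comm_of_commutator_eq_one h1).symm
  have hPB : PL ≤ B := by
    intro y hy
    rw [hBmem]
    intro r hr
    rw [hMdef]
    refine Subgroup.mem_inf.mpr ⟨?_, ?_⟩
    · have h1 : r * y⁻¹ * r⁻¹ ∈ PL :=
        hsc y⁻¹ (PL.inv_mem hy) r
          (Subgroup.mul_mem _ (Subgroup.mul_mem _ (hRSy hr) (Subgroup.inv_mem _ (hPS hy)))
            (Subgroup.inv_mem _ (hRSy hr)))
      have e : y * r * y⁻¹ * r⁻¹ = y * (r * y⁻¹ * r⁻¹) := by group
      rw [e]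
      exact PL.mul_mem hy h1
    · have h1 : y * r * y⁻¹ ∈ R := hRn.conj_mem r hr y
      exact R.mul_mem h1 (R.inv_mem hr)
  -- p'-elements of B centralizing V are trivial
  have hPprime : ∀ g ∈ B, (∀ v ∈ V, g * v = v * g) → (orderOf g).Coprime p → g = 1 := by
    intro g hgB hgV hgcop
    have hord : orderOf (MulAut.conj g) ∣ orderOf g := orderOf_map_dvd MulAut.conj g
    have hacop : (orderOf (MulAut.conj g)).Coprime p := Nat.Coprime.coprime_dvd_left hord hgcop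
    have hMinv : ∀ m ∈ M, MulAut.conj g m ∈ M := fun m hm' => by
      rw [MulAut.conj_apply]; exact hMn.conj_mem m hm' g
    have haM : restrictAut (MulAut.conj g) M hMinv = 1 := by
      apply coprime_aut_trivial_of_fix_omega hp2 hMp _
        (Nat.Coprime.coprime_dvd_left (orderOf_restrictAut_dvd _ M hMinv) hacop)
      intro m hm'
      apply Subtype.ext
      rw [restrictAut_apply, MulAut.conj_apply]
      have hmp : (m : L) ^ p = 1 := by
        have := congrArg Subtype.val hm'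
        rw [Subgroup.coe_pow, Subgroup.coe_one] at this
        exact this
      have hmV : (m : L) ∈ V := hVmem m m.2 hmp
      rw [hgV _ hmV, mul_inv_cancel_right]
    have hgM : ∀ m ∈ M, g * m * g⁻¹ = m := by
      intro m hm'
      have h1 : ((restrictAut (MulAut.conj g) M hMinv ⟨m, hm'⟩ : ↥M) : L) = m := by
        rw [haM]; rfl
      exact h1
    have hRinv : ∀ r ∈ R, MulAut.conj g r ∈ R := fun r hr => by
      rw [MulAut.conj_apply]; exact hRn.conj_mem r hr g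
    have hgR : ∀ r ∈ R, g * r * g⁻¹ = r := by
      intro r hr
      have h1 : restrictAut (MulAut.conj g) R hRinv ⟨r, hr⟩ = ⟨r, hr⟩ := by
        apply aut_apply_eq_of_fixed_commutator hRp _
          (Nat.Coprime.coprime_dvd_left (orderOf_restrictAut_dvd _ R hRinv) hacop)
        apply Subtype.ext
        show g * (r⁻¹ * (g * r * g⁻¹)) * g⁻¹ = r⁻¹ * (g * r * g⁻¹)
        have hm' : r⁻¹ * (g * r * g⁻¹) ∈ M := by
          have h2 := (hBmem g).mp hgB r hr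
          have h3 := hMn.conj_mem _ h2 r⁻¹
          have e : r⁻¹ * (g * r * g⁻¹) = r⁻¹ * (g * r * g⁻¹ * r⁻¹) * r⁻¹⁻¹ := by group
          rw [e]
          exact h3
        exact hgM _ hm'
      exact congrArg Subtype.val h1
    have hgC : g ∈ Subgroup.centralizer ((R : Subgroup L) : Set L) := by
      rw [Subgroup.mem_centralizer_iff]
      intro r hr
      have h := hgR r hr
      calc r * g = (g * r * g⁻¹) * g := by rw [h]
        _ = g * r := by group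
    have hgRmem : g ∈ R := hcent hgC
    obtain ⟨k, hk⟩ := hRp ⟨g, hgRmem⟩
    have hk' : g ^ (p ^ k) = 1 := by
      have := congrArg Subtype.val hk
      rw [Subgroup.coe_pow, Subgroup.coe_one] at this
      exact this
    have h3 : orderOf g = 1 :=
      Nat.eq_one_of_dvd_coprimes (hgcop.pow_right k) dvd_rfl (orderOf_dvd_of_pow_eq_one hk')
    exact orderOf_eq_one_iff.mp h3
  obtain ⟨a, ha⟩ := hSyp.exists_card_eq
  have hpow_cop : ∀ g : L, (orderOf (g ^ (p ^ a))).Coprime p := by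
    intro g
    have h1 : (g ^ (p ^ a)) ^ (Sy : Subgroup L).index = 1 := by
      rw [← pow_mul, ← ha, Subgroup.card_mul_index]
      exact pow_card_eq_one'
    have h2 : orderOf (g ^ (p ^ a)) ∣ (Sy : Subgroup L).index := orderOf_dvd_of_pow_eq_one h1
    have h3 : ¬ p ∣ (Sy : Subgroup L).index := Sy.not_dvd_index
    exact Nat.Coprime.coprime_dvd_left h2 ((Nat.Prime.coprime_iff_not_dvd hp.out).mpr h3).symm
  -- B₁
  obtain ⟨B₁, hB₁def⟩ : ∃ B₁ : Subgroup L,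
      B₁ = B ⊓ Subgroup.centralizer ((V : Subgroup L) : Set L) := ⟨_, rfl⟩
  haveI hCVn : (Subgroup.centralizer ((V : Subgroup L) : Set L)).Normal :=
    Subgroup.normal_centralizer
  haveI hB₁n : B₁.Normal := by rw [hB₁def]; infer_instance
  have hB₁mem : ∀ g, g ∈ B₁ ↔ g ∈ B ∧ ∀ v ∈ V, g * v = v * g := by
    intro g
    rw [hB₁def, Subgroup.mem_inf, Subgroup.mem_centralizer_iff]
    constructor
    · rintro ⟨h1, h2⟩
      exact ⟨h1, fun v hv => (h2 v hv).symm⟩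
    · rintro ⟨h1, h2⟩
      exact ⟨h1, fun v hv => (h2 v hv).symm⟩
  have hB₁p : IsPGroup p B₁ := by
    rintro ⟨g, hg⟩
    refine ⟨a, Subtype.ext ?_⟩
    rw [Subgroup.coe_pow, Subgroup.coe_one]
    have hgN : g ^ (p ^ a) ∈ B₁ := B₁.pow_mem hg _
    obtain ⟨h1, h2⟩ := (hB₁mem _).mp hgN
    exact hPprime _ h1 h2 (hpow_cop g)
  have hB₁R : B₁ ≤ R := by rw [hRdef]; exact le_pCore hB₁n hB₁p
  have hact : ∀ u ∈ B, u ∉ R → ∃ v ∈ V, u * v ≠ v * u := by
    intro u huB huR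
    by_contra h
    push Not at h
    exact huR (hB₁R ((hB₁mem u).mpr ⟨huB, h⟩))
  -- Baer–Suzuki
  have hxp : IsPGroup p ↥(Subgroup.zpowers x) :=
    hSyp.to_le (Subgroup.zpowers_le.mpr (hPS hxP))
  have hBS : ∃ g : L, ¬ IsPGroup p
      ↥(Subgroup.zpowers x ⊔ (Subgroup.zpowers x).map (MulAut.conj g).toMonoidHom) := by
    by_contra h
    push Not at h
    obtain ⟨N, hNn, hNp, hxN⟩ := Cfsg.Agent.S0199.result (Subgroup.zpowers x) hxp h
    have hNR : N ≤ R := by rw [hRdef]; exact le_pCore hNn hNp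
    exact hxR (hNR (hxN (Subgroup.mem_zpowers x)))
  obtain ⟨g, hg⟩ := hBS
  obtain ⟨y, hydef⟩ : ∃ y : L, y = g * x * g⁻¹ := ⟨_, rfl⟩
  have hmapz : (Subgroup.zpowers x).map (MulAut.conj g).toMonoidHom = Subgroup.zpowers y := by
    rw [MonoidHom.map_zpowers, hydef]
    rfl
  have hyp : IsPGroup p ↥(Subgroup.zpowers y) := by
    rw [← hmapz]
    exact hxp.map _
  rw [hmapz] at hg
  obtain ⟨J, hJdef⟩ : ∃ J : Subgroup L, J = Subgroup.zpowers x ⊔ Subgroup.zpowers y := ⟨_, rfl⟩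
  rw [← hJdef] at hg
  have hxJ : x ∈ J := by rw [hJdef]; exact Subgroup.mem_sup_left (Subgroup.mem_zpowers x)
  have hyJ : y ∈ J := by rw [hJdef]; exact Subgroup.mem_sup_right (Subgroup.mem_zpowers y)
  have hJle : ∀ K : Subgroup L, x ∈ K → y ∈ K → J ≤ K := by
    intro K hx hy
    rw [hJdef]
    exact sup_le (Subgroup.zpowers_le.mpr hx) (Subgroup.zpowers_le.mpr hy)
  obtain ⟨j', hj'J, hj'1, hj'cop⟩ : ∃ j' ∈ J, j' ≠ 1 ∧ (orderOf j').Coprime p := by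
    by_contra h
    push Not at h
    apply hg
    rintro ⟨j, hj⟩
    refine ⟨a, Subtype.ext ?_⟩
    rw [Subgroup.coe_pow, Subgroup.coe_one]
    by_contra h1
    exact h (j ^ p ^ a) (J.pow_mem hj _) h1 (hpow_cop j)
  have hxB : x ∈ B := hPB hxP
  have hyB : y ∈ B := by rw [hydef]; exact hBn.conj_mem x hxB g
  have hyR : y ∉ R := by
    intro h
    apply hxR
    have h1 := hRn.conj_mem y h g⁻¹
    rw [hydef] at h1
    have e : g⁻¹ * (g * x * g⁻¹) * g⁻¹⁻¹ = x := by group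
    rw [e] at h1
    exact h1
  have hJB : J ≤ B := hJle B hxB hyB
  -- linear algebra on V
  obtain ⟨hV2, hDx, hcx⟩ := lin_facts V hVc hVcard hVp x hxp (hact x hxB hxR)
  obtain ⟨-, hDy, hcy⟩ := lin_facts V hVc hVcard hVp y hyp (hact y hyB hyR)
  obtain ⟨Dx, hDxdef⟩ : ∃ D : Subgroup L,
      D = V ⊓ Subgroup.centralizer ((Subgroup.zpowers x : Subgroup L) : Set L) := ⟨_, rfl⟩
  obtain ⟨Dy, hDydef⟩ : ∃ D : Subgroup L,
      D = V ⊓ Subgroup.centralizer ((Subgroup.zpowers y : Subgroup L) : Set L) := ⟨_, rfl⟩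
  rw [← hDxdef] at hDx hcx
  rw [← hDydef] at hDy hcy
  have hDxmem : ∀ z, z ∈ Dx ↔ z ∈ V ∧ x * z = z * x := fun z => by
    rw [hDxdef, Subgroup.mem_inf, mem_centralizer_zpowers_iff]
  have hDymem : ∀ z, z ∈ Dy ↔ z ∈ V ∧ y * z = z * y := fun z => by
    rw [hDydef, Subgroup.mem_inf, mem_centralizer_zpowers_iff]
  have hDne : Dx ≠ Dy := by
    intro hD
    have hxS : x ∈ chainStab V Dx := by
      rw [mem_chainStab]
      exact ⟨fun d hd => ((hDxmem d).mp hd).2, hcx⟩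
    have hyS : y ∈ chainStab V Dx := by
      rw [mem_chainStab, hD]
      exact ⟨fun d hd => ((hDymem d).mp hd).2, hcy⟩
    have hj'S := hJle _ hxS hyS hj'J
    rw [mem_chainStab] at hj'S
    obtain ⟨hj1, hj2⟩ := hj'S
    have hj'V : ∀ v ∈ V, j' * v = v * j' := by
      have hVinv : ∀ v ∈ V, MulAut.conj j' v ∈ V := fun v hv => by
        rw [MulAut.conj_apply]; exact hVn.conj_mem v hv j'
      have hord : orderOf (MulAut.conj j') ∣ orderOf j' := orderOf_map_dvd MulAut.conj j'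
      have hacop := Nat.Coprime.coprime_dvd_left
        ((orderOf_restrictAut_dvd _ V hVinv).trans hord) hj'cop
      intro v hv
      have h1 : restrictAut (MulAut.conj j') V hVinv ⟨v, hv⟩ = ⟨v, hv⟩ := by
        apply aut_apply_eq_of_fixed_commutator hVp _ hacop
        apply Subtype.ext
        show j' * (v⁻¹ * (j' * v * j'⁻¹)) * j'⁻¹ = v⁻¹ * (j' * v * j'⁻¹)
        have hd : v⁻¹ * (j' * v * j'⁻¹) ∈ Dx := by
          have h2 := hj2 v hv
          have e : v⁻¹ * (j' * v * j'⁻¹) = j' * v * j'⁻¹ * v⁻¹ :=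
            hVc _ (V.inv_mem hv) _ (hVn.conj_mem v hv j')
          rw [e]
          exact h2
        rw [hj1 _ hd, mul_inv_cancel_right]
      have h2 : j' * v * j'⁻¹ = v := congrArg Subtype.val h1
      calc j' * v = (j' * v * j'⁻¹) * j' := by group
        _ = v * j' := by rw [h2]
    exact hj'1 (hPprime j' (hJB hj'J) hj'V hj'cop)
  have hDinf : ∀ z, z ∈ Dx → z ∈ Dy → z = 1 := by
    intro z hzx hzy
    by_contra hz1
    have h1 : Dx ≤ Dy := le_of_card_prime hDx hzx hzy hz1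
    have h2 : Dy ≤ Dx := le_of_card_prime hDy hzy hzx hz1
    exact hDne (le_antisymm h1 h2)
  have hDy1 : Dy ≠ ⊥ := by
    intro h
    rw [h, Subgroup.card_bot] at hDy
    exact hp.out.one_lt.ne hDy
  obtain ⟨⟨e₂, he₂D⟩, he₂ne⟩ := (Subgroup.ne_bot_iff_exists_ne_one).mp hDy1
  have he₂1 : e₂ ≠ 1 := fun h => he₂ne (Subtype.ext h)
  obtain ⟨he₂V, he₂y⟩ := (hDymem e₂).mp he₂D
  obtain ⟨e₁, he₁def⟩ : ∃ e₁, e₁ = x * e₂ * x⁻¹ * e₂⁻¹ := ⟨_, rfl⟩
  have he₁D : e₁ ∈ Dx := by rw [he₁def]; exact hcx e₂ he₂V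
  obtain ⟨he₁V, he₁x⟩ := (hDxmem e₁).mp he₁D
  have he₁1 : e₁ ≠ 1 := by
    intro h
    rw [he₁def] at h
    have h1 : x * e₂ = e₂ * x := comm_of_commutator_eq_one h
    exact he₂1 (hDinf e₂ ((hDxmem e₂).mpr ⟨he₂V, h1⟩) he₂D)
  obtain ⟨b, hbdef⟩ : ∃ b, b = y * e₁ * y⁻¹ * e₁⁻¹ := ⟨_, rfl⟩
  have hbD : b ∈ Dy := by rw [hbdef]; exact hcy e₁ he₁V
  obtain ⟨hbV, hby⟩ := (hDymem b).mp hbD
  have hb1 : b ≠ 1 := by
    intro h
    rw [hbdef] at h
    have h1 : y * e₁ = e₁ * y := comm_of_commutator_eq_one h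
    exact he₁1 (hDinf e₁ he₁D ((hDymem e₁).mpr ⟨he₁V, h1⟩))
  obtain ⟨l, hl⟩ : ∃ l : ℕ, b ^ l = e₂⁻¹ := by
    have h1 : Dy ≤ Subgroup.zpowers b :=
      le_of_card_prime hDy hbD (Subgroup.mem_zpowers b) hb1
    have h2 : e₂⁻¹ ∈ Subgroup.zpowers b := h1 (Dy.inv_mem he₂D)
    rw [← mem_powers_iff_mem_zpowers] at h2
    exact (Submonoid.mem_powers_iff _ _).mp h2
  have hyb : y * e₁ * y⁻¹ = e₁ * b := by
    have h1 : e₁ * b = b * e₁ := hVc _ he₁V _ hbV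
    rw [h1, hbdef]
    group
  have hybb : y * b * y⁻¹ = b := by rw [hby]; exact mul_inv_cancel_right _ _
  have hypow : ∀ n : ℕ, y ^ n * e₁ * (y ^ n)⁻¹ = e₁ * b ^ n := by
    intro n
    induction n with
    | zero => simp
    | succ n ih =>
      have e : y ^ (n + 1) * e₁ * (y ^ (n + 1))⁻¹ = y * (y ^ n * e₁ * (y ^ n)⁻¹) * y⁻¹ := by
        rw [pow_succ']
        generalize y ^ n = s
        group
      rw [e, ih]
      have e2 : y * (e₁ * b ^ n) * y⁻¹ = (y * e₁ * y⁻¹) * (y * b * y⁻¹) ^ n := by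
        rw [conj_pow]
        group
      rw [e2, hyb, hybb, pow_succ', mul_assoc]
  obtain ⟨u₂, hu₂def⟩ : ∃ u₂, u₂ = y ^ l := ⟨_, rfl⟩
  have hu₂e₁ : u₂ * e₁ * u₂⁻¹ = e₁ * e₂⁻¹ := by rw [hu₂def, hypow l, hl]
  have hu₂e₂ : u₂ * e₂ * u₂⁻¹ = e₂ := by
    have hc : Commute y e₂ := he₂y
    have h1 : Commute (y ^ l) e₂ := hc.pow_left l
    rw [hu₂def, h1.eq]
    exact mul_inv_cancel_right _ _
  have hxe₁ : x * e₁ * x⁻¹ = e₁ := by rw [he₁x]; exact mul_inv_cancel_right _ _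
  have hxe₂ : x * e₂ * x⁻¹ = e₁ * e₂ := by rw [he₁def]; group
  obtain ⟨w, hwdef⟩ : ∃ w, w = x * u₂ * x := ⟨_, rfl⟩
  have hwe₁ : w * e₁ * w⁻¹ = e₂⁻¹ := by
    have e : w * e₁ * w⁻¹ = x * (u₂ * (x * e₁ * x⁻¹) * u₂⁻¹) * x⁻¹ := by rw [hwdef]; group
    rw [e, hxe₁, hu₂e₁]
    have e2 : x * (e₁ * e₂⁻¹) * x⁻¹ = (x * e₁ * x⁻¹) * (x * e₂ * x⁻¹)⁻¹ := by group
    rw [e2, hxe₁, hxe₂, mul_inv_rev]
    have e3 : e₂⁻¹ * e₁⁻¹ = e₁⁻¹ * e₂⁻¹ := hVc _ (V.inv_mem he₂V) _ (V.inv_mem he₁V)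
    rw [e3, mul_inv_cancel_left]
  have hwe₂ : w * e₂ * w⁻¹ = e₁ := by
    have e : w * e₂ * w⁻¹ = x * (u₂ * (x * e₂ * x⁻¹) * u₂⁻¹) * x⁻¹ := by rw [hwdef]; group
    rw [e, hxe₂]
    have e2 : u₂ * (e₁ * e₂) * u₂⁻¹ = (u₂ * e₁ * u₂⁻¹) * (u₂ * e₂ * u₂⁻¹) := by group
    rw [e2, hu₂e₁, hu₂e₂, inv_mul_cancel_right]
    exact hxe₁
  obtain ⟨t₀, ht₀def⟩ : ∃ t₀, t₀ = w * w := ⟨_, rfl⟩
  have ht₀e₁ : t₀ * e₁ * t₀⁻¹ = e₁⁻¹ := by
    have e : t₀ * e₁ * t₀⁻¹ = w * (w * e₁ * w⁻¹) * w⁻¹ := by rw [ht₀def]; group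
    rw [e, hwe₁]
    have e2 : w * e₂⁻¹ * w⁻¹ = (w * e₂ * w⁻¹)⁻¹ := by group
    rw [e2, hwe₂]
  have ht₀e₂ : t₀ * e₂ * t₀⁻¹ = e₂⁻¹ := by
    have e : t₀ * e₂ * t₀⁻¹ = w * (w * e₂ * w⁻¹) * w⁻¹ := by rw [ht₀def]; group
    rw [e, hwe₂, hwe₁]
  have hI : ∀ v ∈ V, t₀ * v * t₀⁻¹ = v⁻¹ := by
    obtain ⟨I, hIdef⟩ : ∃ I, I = invSub V hVc t₀ := ⟨_, rfl⟩
    have hIV : I ≤ V := by
      rw [hIdef]
      exact fun v hv => ((mem_invSub V hVc t₀ v).mp hv).1
    have he₁I : e₁ ∈ I := by rw [hIdef]; exact (mem_invSub V hVc t₀ e₁).mpr ⟨he₁V, ht₀e₁⟩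
    have he₂I : e₂ ∈ I := by rw [hIdef]; exact (mem_invSub V hVc t₀ e₂).mpr ⟨he₂V, ht₀e₂⟩
    have hDxI : Dx ≤ I := le_of_card_prime hDx he₁D he₁I he₁1
    have hDyI : Dy ≤ I := le_of_card_prime hDy he₂D he₂I he₂1
    have hcardI : Nat.card I ∣ p ^ 2 := by
      rw [← hV2]
      exact Subgroup.card_dvd_of_le hIV
    obtain ⟨k, hk2, hk⟩ := (Nat.dvd_prime_pow hp.out).mp hcardI
    have hIeq : I = V := by
      have hk2' : k = 2 := by
        by_contra hne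
        have hk1 : k ≤ 1 := by omega
        have h1 : Nat.card I ≤ p := by
          rw [hk]
          calc p ^ k ≤ p ^ 1 := Nat.pow_le_pow_right hp.out.pos hk1
            _ = p := pow_one p
        have h2 : Dx = I := Subgroup.eq_of_le_of_card_ge hDxI (by rw [hDx]; exact h1)
        have h3 : Dy = I := Subgroup.eq_of_le_of_card_ge hDyI (by rw [hDy]; exact h1)
        exact hDne (h2.trans h3.symm)
      exact Subgroup.eq_of_le_of_card_ge hIV (by rw [hk, hk2', hV2])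
    intro v hv
    rw [← hIeq, hIdef] at hv
    exact ((mem_invSub V hVc t₀ v).mp hv).2
  have hNodd : Odd (p ^ a) := (hp.out.odd_of_ne_two hp2).pow
  obtain ⟨k, hk⟩ := hNodd
  obtain ⟨τ, hτdef⟩ : ∃ τ, τ = t₀ ^ (p ^ a) := ⟨_, rfl⟩
  have hτinv : ∀ v ∈ V, τ * v * τ⁻¹ = v⁻¹ := by
    rw [hτdef, hk]
    exact conj_pow_of_invert V t₀ hI k
  have hτcop : (orderOf τ).Coprime p := by rw [hτdef]; exact hpow_cop t₀
  obtain ⟨c, hcdef⟩ : ∃ c, c = τ * x * τ⁻¹ * x⁻¹ := ⟨_, rfl⟩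
  have hτinv' : ∀ v ∈ V, τ⁻¹ * v * τ = v⁻¹ := by
    intro v hv
    have h1 := hτinv v⁻¹ (V.inv_mem hv)
    rw [inv_inv] at h1
    calc τ⁻¹ * v * τ = τ⁻¹ * (τ * v⁻¹ * τ⁻¹) * τ := by rw [h1]
      _ = v⁻¹ := by group
  have hcB₁ : c ∈ B₁ := by
    rw [hB₁mem]
    constructor
    · rw [hcdef]
      exact B.mul_mem (hBn.conj_mem x hxB τ) (B.inv_mem hxB)
    · intro v hv
      have hv1 : x⁻¹ * v * x ∈ V := by
        have := hVn.conj_mem v hv x⁻¹
        rwa [inv_inv] at this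
      have h1 : τ⁻¹ * (x⁻¹ * v * x) * τ = (x⁻¹ * v * x)⁻¹ := hτinv' _ hv1
      have h2 : c * v * c⁻¹ = v := by
        have e : c * v * c⁻¹ = τ * (x * (τ⁻¹ * (x⁻¹ * v * x) * τ) * x⁻¹) * τ⁻¹ := by
          rw [hcdef]; group
        rw [e, h1]
        have e2 : x * (x⁻¹ * v * x)⁻¹ * x⁻¹ = v⁻¹ := by group
        rw [e2, hτinv _ (V.inv_mem hv), inv_inv]
      calc c * v = (c * v * c⁻¹) * c := by group
        _ = v * c := by rw [h2]
  have hcR : c ∈ R := hB₁R hcB₁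
  have hτx : τ * x * τ⁻¹ = c * x := by rw [hcdef]; group
  have hτxP : τ * x * τ⁻¹ ∈ PL := by
    apply hsc x hxP τ
    rw [hτx]
    exact Subgroup.mul_mem _ (hRSy hcR) (hPS hxP)
  have hcM : c ∈ M := by
    rw [hMdef]
    refine Subgroup.mem_inf.mpr ⟨?_, hcR⟩
    rw [hcdef]
    exact PL.mul_mem hτxP (PL.inv_mem hxP)
  -- P₁
  obtain ⟨P₁, hP₁def⟩ : ∃ P₁ : Subgroup L, P₁ = M ⊔ Subgroup.zpowers x := ⟨_, rfl⟩
  have hMP₁ : M ≤ P₁ := by rw [hP₁def]; exact le_sup_left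
  have hxP₁ : x ∈ P₁ := by
    rw [hP₁def]; exact Subgroup.mem_sup_right (Subgroup.mem_zpowers x)
  have hP₁P : P₁ ≤ PL := by
    rw [hP₁def]; exact sup_le hMP (Subgroup.zpowers_le.mpr hxP)
  have hP₁p : IsPGroup p P₁ := hSyp.to_le (hP₁P.trans hPS)
  have hP₁m : IsMetacyclic ↥P₁ := isMetacyclic_of_le hP₁P hm
  obtain ⟨A, hAdef⟩ : ∃ A : Subgroup L, A = Subgroup.zpowers τ := ⟨_, rfl⟩
  have hAcop : (Nat.card A).Coprime p := by rw [hAdef, Nat.card_zpowers]; exact hτcop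
  have hτnorm : ∀ z ∈ P₁, τ * z * τ⁻¹ ∈ P₁ := by
    have h1 : M ⊔ Subgroup.zpowers x ≤ P₁.comap (MulAut.conj τ).toMonoidHom := by
      apply sup_le
      · intro m hm'
        exact hMP₁ (hMn.conj_mem m hm' τ)
      · rw [Subgroup.zpowers_le]
        show τ * x * τ⁻¹ ∈ P₁
        rw [hτx]
        exact P₁.mul_mem (hMP₁ hcM) hxP₁
    intro z hz
    rw [hP₁def] at hz
    exact h1 hz
  have hAN : A ≤ Subgroup.normalizer ((P₁ : Subgroup L) : Set L) := by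
    rw [hAdef]
    exact Subgroup.zpowers_le.mpr
      (Cfsg.Agent.Lib.Helper3.mem_normalizer_of_forall_conj_mem P₁ τ hτnorm)
  obtain ⟨-, hsup, -, -⟩ := Cfsg.Agent.Lib.Helper2.MetaAct.metacyclic_coprime_action p hp2 P₁ A
    hP₁p hP₁m hAN hAcop
  have hcomm : ⁅P₁, A⁆ ≤ M := by
    rw [Subgroup.commutator_le]
    intro g₁ hg₁ g₂ hg₂
    rw [← hπ1, map_commutatorElement, commutatorElement_eq_one_iff_commute]
    have hτc : Commute (πM x) (πM τ) := by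
      have h1 : πM (τ * x * τ⁻¹ * x⁻¹) = 1 := (hπ1 _).mpr (by rw [← hcdef]; exact hcM)
      rw [map_mul, map_mul, map_mul, map_inv, map_inv] at h1
      exact (comm_of_commutator_eq_one h1).symm
    have h1 : M ⊔ Subgroup.zpowers x ≤
        (Subgroup.centralizer ({πM τ} : Set (L ⧸ M))).comap πM := by
      apply sup_le
      · intro m hm'
        rw [Subgroup.mem_comap, (hπ1 m).mpr hm']
        exact Subgroup.one_mem _
      · rw [Subgroup.zpowers_le, Subgroup.mem_comap, Subgroup.mem_centralizer_singleton_iff]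
        exact hτc.eq
    have h2 : Commute (πM g₁) (πM τ) := by
      rw [hP₁def] at hg₁
      have h3 := h1 hg₁
      rw [Subgroup.mem_comap, Subgroup.mem_centralizer_singleton_iff] at h3
      exact h3
    rw [hAdef] at hg₂
    obtain ⟨k, rfl⟩ := Subgroup.mem_zpowers_iff.mp hg₂
    rw [map_zpow]
    exact h2.zpow_right k
  obtain ⟨C, hCdef⟩ : ∃ C : Subgroup L,
      C = P₁ ⊓ Subgroup.centralizer ((A : Subgroup L) : Set L) := ⟨_, rfl⟩
  rw [← hCdef] at hsup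
  have hCτ : ∀ z ∈ C, τ * z = z * τ := by
    intro z hz
    rw [hCdef] at hz
    have h1 := (Subgroup.mem_inf.mp hz).2
    rw [hAdef] at h1
    exact (mem_centralizer_zpowers_iff τ z).mp h1
  have hCM : ∀ z ∈ C, z ∈ M → z = 1 := by
    by_contra h
    push Not at h
    obtain ⟨z₀, hz₀C, hz₀M, hz₀1⟩ := h
    have hY1 : C ⊓ M ≠ ⊥ := by
      intro hbot
      have h1 : z₀ ∈ C ⊓ M := Subgroup.mem_inf.mpr ⟨hz₀C, hz₀M⟩
      rw [hbot, Subgroup.mem_bot] at h1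
      exact hz₀1 h1
    have hYp : IsPGroup p ↥(C ⊓ M) := hMp.to_le inf_le_right
    obtain ⟨z, hz, hz1, hzp⟩ :=
      Cfsg.Agent.Lib.Helper2.MetaAct.exists_ne_one_pow_prime_eq_one (C ⊓ M) hYp hY1
    obtain ⟨hzC, hzM⟩ := Subgroup.mem_inf.mp hz
    have hzV : z ∈ V := hVmem z hzM hzp
    have h1 := hτinv z hzV
    have h2 := hCτ z hzC
    rw [h2, mul_inv_cancel_right] at h1
    have h3 : z * z = 1 := by
      have h4 := mul_inv_cancel z
      rw [← h1] at h4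
      exact h4
    have h3' : z ^ 2 = 1 := by rw [pow_two]; exact h3
    have h4 : orderOf z ∣ 2 := orderOf_dvd_of_pow_eq_one h3'
    have h5 : orderOf z ∣ p := orderOf_dvd_of_pow_eq_one hzp
    have h6 : orderOf z = 1 :=
      Nat.eq_one_of_dvd_coprimes
        ((Nat.coprime_primes Nat.prime_two hp.out).mpr (Ne.symm hp2)) h4 h5
    exact hz1 (orderOf_eq_one_iff.mp h6)
  have hC1 : C ≠ ⊥ := by
    intro hbot
    rw [hbot, sup_bot_eq] at hsup
    have h1 : x ∈ ⁅P₁, A⁆ := by rw [hsup]; exact hxP₁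
    exact hxR (hMR (hcomm h1))
  have hCp : IsPGroup p ↥C := hP₁p.to_le (by rw [hCdef]; exact inf_le_left)
  obtain ⟨c₀, hc₀C, hc₀1, hc₀p⟩ :=
    Cfsg.Agent.Lib.Helper2.MetaAct.exists_ne_one_pow_prime_eq_one C hCp hC1
  have hc₀P₁ : c₀ ∈ P₁ := by
    rw [hCdef] at hc₀C
    exact (Subgroup.mem_inf.mp hc₀C).1
  have hMnc : ¬ IsCyclic ↥(M.subgroupOf P₁) := by
    intro hcyc
    have h1 : IsCyclic ↥M := (MulEquiv.isCyclic (Subgroup.subgroupOfEquivOfLe hMP₁)).mp hcyc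
    have h2 := hVcyc h1
    rw [hV2] at h2
    have h3 : 2 ≤ p := hp.out.two_le
    nlinarith
  have hc₀M : c₀ ∈ M := by
    have h1 := Cfsg.Agent.Lib.Helper2.MetaAct.mem_of_pow_eq_one_of_not_isCyclic hp2 hP₁p hP₁m
      (M.subgroupOf P₁) hMnc ⟨c₀, hc₀P₁⟩
      (Subtype.ext (by rw [Subgroup.coe_pow, Subgroup.coe_one]; exact hc₀p))
    exact Subgroup.mem_subgroupOf.mp h1
  exact hc₀1 (hCM c₀ hc₀C hc₀M)

end Cfsg.Agent.Lib.Helper1.GE
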