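import Mathlib
import Cfsg.Agent.Lib.Helper1.GE2
import Cfsg.Agent.Lib.Helper1.GD3
import Cfsg.Agent.Lib.Helper1.KN8
import Cfsg.Agent.Lib.Helper1.KL5
import Cfsg.Agent.Lib.Helper9.NormalSeries
import Cfsg.Agent.S5080
import Cfsg.Agent.S5090
import Cfsg.Agent.S5096
import Cfsg.Agent.S5098

set_option autoImplicit false
set_option linter.style.haveILetI false
set_option linter.unusedSectionVars false
set_option linter.unusedVariables false
set_option maxHeartbeats 1000000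

/-! For odd `p`, a strongly closed metacyclic subgroup of a saturated fusion system is normal. -/

namespace Cfsg.Agent.Lib.Helper1.GE

open Cfsg Cfsg.FusionSystem Cfsg.Agent.Lib.Helper9 Cfsg.Agent.Lib.Helper1.KN
  Cfsg.Agent.Lib.Helper1.KL Cfsg.Agent.Lib.Helper1.QF Cfsg.Agent.Lib.Helper1.GF
  Cfsg.Agent.Lib.Helper1.WC Cfsg.Agent.Lib.Helper1.GC Cfsg.Agent.Lib.Helper1.GN
  Cfsg.Agent.Lib.Helper1.GD

universe u

theorem metacyclic_normal {Ω : Type u} [Group Ω] {S : Subgroup Ω} [Finite S] (p : ℕ)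
    [hp : Fact p.Prime] (hS : IsPGroup p S) (F : FusionSystem S) (hF : F.IsSaturated p)
    (P : Subgroup Ω) (hP : F.StronglyClosed P) (hp2 : p ≠ 2) (hm : IsMetacyclic ↥P) :
    F.IsNormal P := by
  rw [normal_iff_essential_invariant p hS F hF]
  intro R hR
  have hRS : R ≤ S := by
    rcases hR with rfl | hR
    · exact le_rfl
    · exact hR.1.1
  refine ⟨?_, fun α hα =>
    map_eq_of_forall_map_le (fun β hβ => map_le_of_stronglyClosed F hP hRS hβ) hα⟩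
  rcases hR with rfl | hR
  · exact hP.1
  have hRr := Cfsg.Agent.S5080.result p hS F hF R hR
  have hRc := hR.1
  have hRfn := hR.2.1
  have hPS := hP.1
  obtain ⟨E, hE⟩ := Cfsg.Agent.S5096.result F R hRS
  have hEsat := Cfsg.Agent.S5098.result p hS F hF R hRfn E hE
  haveI : Finite ↥(normalizerIn S R) := finite_normalizerIn (S := S) R
  have hTS : normalizerIn S R ≤ S := normalizerIn_le S R
  have hTp : IsPGroup p ↥(normalizerIn S R) := isPGroup_of_le hS hTS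
  have hRnE : E.IsNormal R := normal_self_of_isNormalizerSystem F hRS E hE
  have hRcE : E.IsCentric R := centric_self_of_isNormalizerSystem F hRc E hE
  obtain ⟨L, _, ι, hmodel⟩ := Cfsg.Agent.S5090.result p hTp E ⟨hEsat, R, hRnE, hRcE⟩
  have hpc := (normalizer_centric_radical_constrained p hS F hF R hRfn hRc hRr E hE ι).2 hmodel
  obtain ⟨hfin, hreal, ⟨Sy, hSy⟩, hcent⟩ := id hmodel
  haveI := hfin
  have hinj := hreal.1
  obtain ⟨T, hTdef⟩ : ∃ T : Subgroup Ω, T = normalizerIn S R := ⟨_, rfl⟩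
  -- PL
  obtain ⟨PL, hPLdef⟩ : ∃ PL : Subgroup L,
      PL = ((P ⊓ normalizerIn S R).subgroupOf (normalizerIn S R)).map ι := ⟨_, rfl⟩
  have hPLS : PL ≤ (Sy : Subgroup L) := by
    rw [hPLdef, hSy]
    rintro _ ⟨t, -, rfl⟩
    exact ⟨t, rfl⟩
  have hPLm : IsMetacyclic ↥PL := by
    have h1 : IsMetacyclic ↥(P ⊓ normalizerIn S R) := isMetacyclic_of_le inf_le_left hm
    have h2 : IsMetacyclic ↥((P ⊓ normalizerIn S R).subgroupOf (normalizerIn S R)) :=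
      Cfsg.Agent.Lib.Helper2.MetaAct.isMetacyclic_of_mulEquiv
        (Subgroup.subgroupOfEquivOfLe (inf_le_right : P ⊓ normalizerIn S R ≤ normalizerIn S R)).symm
        h1
    rw [hPLdef]
    exact Cfsg.Agent.Lib.Helper2.MetaAct.isMetacyclic_of_mulEquiv
      (Subgroup.equivMapOfInjective _ ι hinj) h2
  have hsc : ∀ y ∈ PL, ∀ g : L, g * y * g⁻¹ ∈ (Sy : Subgroup L) → g * y * g⁻¹ ∈ PL := by
    intro y hy g hgy
    rw [hPLdef] at hy ⊢
    obtain ⟨a, haP, rfl⟩ := hy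
    rw [hSy] at hgy
    obtain ⟨Q₀, hQ₀T, φ₀, hφ₀T, hφ₀E, hφ₀ι, hQ₀mem⟩ := exists_hom_of_conj E ι hreal g
    have haQ₀ : (a : Ω) ∈ Q₀ := hQ₀mem a a.2 hgy
    have haP' : (a : Ω) ∈ P := (Subgroup.mem_subgroupOf.mp haP).1
    have hφ₀F : φ₀ ∈ F.Hom Q₀ := hom_of_normalizerSystem F E hE hφ₀E
    have h1 := hP.2 (Q₀ ⊓ P) inf_le_right _ (restrict_mem F hφ₀F inf_le_left) ⟨a, haQ₀, haP'⟩
    have h2 : φ₀ ⟨a, haQ₀⟩ ∈ P := h1
    refine ⟨⟨φ₀ ⟨a, haQ₀⟩, hφ₀T _⟩, Subgroup.mem_subgroupOf.mpr ⟨h2, hφ₀T _⟩, ?_⟩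
    exact hφ₀ι ⟨a, haQ₀⟩
  have hmain := metacyclic_stronglyClosed_le_pCore hp2 Sy PL hPLS hsc hcent hPLm
  rw [hpc, hPLdef] at hmain
  -- N_P(R) ≤ R
  have key : ∀ b ∈ P, b ∈ normalizerIn S R → b ∈ R := by
    intro b hbP hbT
    have h1 : ι ⟨b, hbT⟩ ∈ (R.subgroupOf (normalizerIn S R)).map ι :=
      hmain ⟨⟨b, hbT⟩, Subgroup.mem_subgroupOf.mpr ⟨hbP, hbT⟩, rfl⟩
    obtain ⟨r, hr, hrb⟩ := h1
    have h2 : r = ⟨b, hbT⟩ := hinj hrb
    rw [h2] at hr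
    exact Subgroup.mem_subgroupOf.mp hr
  by_contra hPR
  have hRPS : R ⊔ P ≤ S := sup_le hRS hPS
  have hlt : R < R ⊔ P := lt_of_le_of_ne le_sup_left (fun h => hPR (h ▸ le_sup_right))
  haveI hfin2 : Finite (R ⊔ P : Subgroup Ω) := finite_of_le hRPS
  obtain ⟨g, hgN, hgR⟩ :=
    exists_mem_normalizerIn_not_mem (S := R ⊔ P) (isPGroup_of_le hS hRPS) hlt
  have hRN : R ≤ Subgroup.normalizer (P : Set Ω) :=
    hRS.trans (le_normalizer_of_stronglyClosed F hP)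
  obtain ⟨a, ha, b, hb, hab⟩ := exists_mul_of_mem_sup hRN hgN.1
  apply hgR
  rw [hab]
  apply R.mul_mem ha
  apply key b hb
  have h1 : a⁻¹ * g ∈ Subgroup.normalizer (R : Set Ω) :=
    Subgroup.mul_mem _ (Subgroup.inv_mem _ (Subgroup.le_normalizer ha)) hgN.2
  rw [hab] at h1
  have h2 : b ∈ Subgroup.normalizer (R : Set Ω) := by simpa using h1
  exact ⟨hPS hb, h2⟩

end Cfsg.Agent.Lib.Helper1.GE
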