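import Mathlib

set_option autoImplicit false

/-! GH5 (S3106), second layer, unit G2d: if `W2 ≤ Φ ≤ Q` are normal in `Y`, `W2` central in `Y`, `|Φ : W2| = 2` and every
`Y`-invariant homomorphism `Q → W2` is trivial, then `Φ` is central in `Q`. -/

namespace Cfsg.Agent.Lib.Helper1.GH5G2d

universe u

variable {Y : Type u} [Group Y] [Finite Y]

/-- two elements of `Φ` outside `W2` differ by an element of `W2` when `|Φ| = 2 |W2|`. -/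
theorem inv_mul_mem_of_not_mem (Φ W2 : Subgroup Y) (hW2Φ : W2 ≤ Φ)
    (hidx : Nat.card ↥Φ = 2 * Nat.card ↥W2) {f f' : Y} (hf : f ∈ Φ) (hf' : f' ∈ Φ)
    (hfn : f ∉ W2) (hfn' : f' ∉ W2) : f⁻¹ * f' ∈ W2 := by
  have hcardH : Nat.card ↥(W2.subgroupOf Φ) = Nat.card ↥W2 :=
    Nat.card_congr (Subgroup.subgroupOfEquivOfLe hW2Φ).toEquiv
  have hmul := Subgroup.card_mul_index (W2.subgroupOf Φ)
  rw [hcardH, hidx] at hmul
  have hpos : 0 < Nat.card ↥W2 := Nat.card_pos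
  have hindex : (W2.subgroupOf Φ).index = 2 := by
    have : Nat.card ↥W2 * (W2.subgroupOf Φ).index = Nat.card ↥W2 * 2 := by rw [hmul]; ring
    exact Nat.eq_of_mul_eq_mul_left hpos this
  have key := Subgroup.mul_mem_iff_of_index_two hindex (a := (⟨f, hf⟩ : ↥Φ)⁻¹) (b := (⟨f', hf'⟩ : ↥Φ))
  have h1 : ¬ ((⟨f, hf⟩ : ↥Φ)⁻¹ ∈ W2.subgroupOf Φ) := by
    rw [Subgroup.inv_mem_iff, Subgroup.mem_subgroupOf]
    exact hfn
  have h2 : ¬ ((⟨f', hf'⟩ : ↥Φ) ∈ W2.subgroupOf Φ) := by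
    rw [Subgroup.mem_subgroupOf]
    exact hfn'
  have := key.mpr ⟨fun h => absurd h h1, fun h => absurd h h2⟩
  rw [Subgroup.mem_subgroupOf] at this
  simpa using this

theorem G2d (Q Φ W2 : Subgroup Y) [Q.Normal] [hΦn : Φ.Normal] [hW2n : W2.Normal]
    (hW2Φ : W2 ≤ Φ) (hW2c : ∀ w ∈ W2, ∀ y : Y, w * y = y * w)
    (hidx : Nat.card ↥Φ = 2 * Nat.card ↥W2)
    (hnf : ∀ F : ↥Q →* ↥W2,
      (∀ (y : Y) (q : ↥Q) (h : y * q * y⁻¹ ∈ Q), F ⟨y * q * y⁻¹, h⟩ = F q) → ∀ q, F q = 1) :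
    ∀ f ∈ Φ, ∀ q ∈ Q, f * q = q * f := by
  intro f hf
  by_cases hfW : f ∈ W2
  · intro q _
    exact hW2c f hfW q
  -- conjugates of f lie in f W2
  have hconj : ∀ y : Y, f⁻¹ * (y * f * y⁻¹) ∈ W2 := by
    intro y
    have h1 : y * f * y⁻¹ ∈ Φ := hΦn.conj_mem f hf y
    have h2 : y * f * y⁻¹ ∉ W2 := by
      intro h
      apply hfW
      have := hW2n.conj_mem _ h y⁻¹
      simpa [mul_assoc] using this
    exact inv_mul_mem_of_not_mem Φ W2 hW2Φ hidx hf h1 hfW h2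
  -- the commutator map
  have hcm : ∀ q : Y, q * f * q⁻¹ * f⁻¹ ∈ W2 := by
    intro q
    have h := hconj q
    -- f⁻¹ (q f q⁻¹) ∈ W2, conjugate by f
    have := hW2n.conj_mem _ h f
    simpa [mul_assoc] using this
  let F : ↥Q →* ↥W2 :=
    { toFun := fun q => ⟨(q : Y) * f * (q : Y)⁻¹ * f⁻¹, hcm q⟩
      map_one' := by
        apply Subtype.ext
        simp
      map_mul' := by
        intro a b
        apply Subtype.ext
        show ((a * b : ↥Q) : Y) * f * ((a * b : ↥Q) : Y)⁻¹ * f⁻¹ =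
          ((a : Y) * f * (a : Y)⁻¹ * f⁻¹) * ((b : Y) * f * (b : Y)⁻¹ * f⁻¹)
        have hb := hW2c _ (hcm b) ((a : Y)⁻¹)
        -- a b f b⁻¹ a⁻¹ f⁻¹ = a (b f b⁻¹ f⁻¹) f a⁻¹ f⁻¹ = a (b f b⁻¹ f⁻¹) a⁻¹ (a f a⁻¹ f⁻¹)
        have e : ((a * b : ↥Q) : Y) * f * ((a * b : ↥Q) : Y)⁻¹ * f⁻¹
            = (a : Y) * (((b : Y) * f * (b : Y)⁻¹ * f⁻¹) * (a : Y)⁻¹) * ((a : Y) * f * (a : Y)⁻¹ * f⁻¹) := by
          simp only [Subgroup.coe_mul]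
          group
        rw [e, hb]
        have hc := hW2c _ (hcm b) ((a : Y) * f * (a : Y)⁻¹ * f⁻¹)
        rw [← mul_assoc (a : Y), mul_inv_cancel, one_mul, hc] }
  have hFinv : ∀ (y : Y) (q : ↥Q) (h : y * q * y⁻¹ ∈ Q), F ⟨y * q * y⁻¹, h⟩ = F q := by
    intro y q h
    apply Subtype.ext
    show (y * q * y⁻¹) * f * (y * q * y⁻¹)⁻¹ * f⁻¹ = (q : Y) * f * (q : Y)⁻¹ * f⁻¹
    -- y⁻¹ f y = f w with w ∈ W2 central
    obtain ⟨w, hw, hwe⟩ : ∃ w ∈ W2, y⁻¹ * f * y = f * w := by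
      refine ⟨f⁻¹ * (y⁻¹ * f * y⁻¹⁻¹), hconj y⁻¹, ?_⟩
      group
    have hwc := hW2c w hw
    have e1 : (y * q * y⁻¹) * f * (y * q * y⁻¹)⁻¹ * f⁻¹
        = y * ((q : Y) * (y⁻¹ * f * y) * (q : Y)⁻¹ * (y⁻¹ * f * y)⁻¹) * y⁻¹ := by group
    rw [e1, hwe]
    have e2 : (q : Y) * (f * w) * (q : Y)⁻¹ * (f * w)⁻¹ = (q : Y) * f * (q : Y)⁻¹ * f⁻¹ := by
      rw [mul_inv_rev]
      have h1 : (q : Y) * (f * w) * (q : Y)⁻¹ * (w⁻¹ * f⁻¹)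
          = (q : Y) * f * (w * ((q : Y)⁻¹ * w⁻¹)) * f⁻¹ := by group
      rw [h1, hwc ((q : Y)⁻¹ * w⁻¹)]
      group
    rw [e2]
    have hcen := hW2c _ (hcm q) y⁻¹
    rw [mul_assoc, hcen, ← mul_assoc, mul_inv_cancel, one_mul]
  intro q hq
  have h1 := hnf F hFinv ⟨q, hq⟩
  have h2 : (q : Y) * f * (q : Y)⁻¹ * f⁻¹ = 1 := congrArg Subtype.val h1
  have : q * f = f * q := by
    have := mul_eq_one_iff_eq_inv.mp h2
    rw [inv_inv] at this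
    calc q * f = q * f * q⁻¹ * q := by group
      _ = f * q := by rw [this]
  exact this.symm

end Cfsg.Agent.Lib.Helper1.GH5G2d
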