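import Mathlib
import Cfsg.Agent.Lib.Helper1.Nilpotent
import Cfsg.Agent.Lib.Helper1.FrattiniP

set_option autoImplicit false
open scoped commutatorElement

/-! GH5 (S3106) unit U7: one-layer setup, abstract part.
* `minimal_normal_central`: a minimal normal subgroup `W` of `G` inside a normal `p`-subgroup `Q` is central in `Q` and has exponent `p`.
* class-two calculus for a group `Q` with a central subgroup `W` of exponent two containing all squares. -/

namespace Cfsg.Agent.Lib.Helper1.GH5U7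

section minimal

variable {G : Type*} [Group G] [Finite G] {p : ℕ} [hp : Fact p.Prime]

/-- A minimal normal subgroup of `G` contained in a normal `p`-subgroup `Q` is central in `Q` and of exponent `p`. -/
theorem minimal_normal_central (Q W : Subgroup G) [hQn : Q.Normal] [hWn : W.Normal] (hQ : IsPGroup p Q)
    (hWQ : W ≤ Q) (hW1 : W ≠ ⊥)
    (hmin : ∀ K : Subgroup G, K.Normal → K ≤ W → K = ⊥ ∨ K = W) :
    (∀ w ∈ W, ∀ q ∈ Q, w * q = q * w) ∧ (∀ w ∈ W, w ^ p = 1) := by
  classical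
  -- the centre of Q as a subgroup of G
  have hZn : (Q ⊓ Subgroup.centralizer (Q : Set G)).Normal := inferInstance
  have hKn : (W ⊓ (Q ⊓ Subgroup.centralizer (Q : Set G))).Normal := inferInstance
  have hKne : W ⊓ (Q ⊓ Subgroup.centralizer (Q : Set G)) ≠ ⊥ := by
    -- work inside Q
    have : Group.IsNilpotent Q := hQ.isNilpotent
    have hWQn : (W.subgroupOf Q).Normal := inferInstance
    have hne : W.subgroupOf Q ≠ ⊥ := by
      intro h
      apply hW1
      rw [Subgroup.subgroupOf_eq_bot] at h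
      exact (disjoint_iff.mp h) ▸ (inf_eq_left.mpr hWQ).symm
    have h1 := Cfsg.Agent.Lib.Helper1.normal_inf_center_ne_bot (W.subgroupOf Q) hne
    obtain ⟨x, hx, hx1⟩ := (Subgroup.ne_bot_iff_exists_ne_one).mp h1 |> fun ⟨x, h⟩ => (⟨x.1, x.2, fun e => h (Subtype.ext e)⟩ : ∃ y : Q, y ∈ W.subgroupOf Q ⊓ Subgroup.center Q ∧ y ≠ 1)
    intro hbot
    apply hx1
    have hxW : x ∈ W.subgroupOf Q := hx.1
    have hxZ : x ∈ Subgroup.center Q := hx.2
    have : (x : G) ∈ W ⊓ (Q ⊓ Subgroup.centralizer (Q : Set G)) := by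
      refine ⟨hxW, x.2, ?_⟩
      refine Subgroup.mem_centralizer_iff.mpr (fun q hq => ?_)
      have := Subgroup.mem_center_iff.mp hxZ ⟨q, hq⟩
      exact congrArg Subtype.val this
    rw [hbot, Subgroup.mem_bot] at this
    exact Subtype.ext this
  have hK : W ⊓ (Q ⊓ Subgroup.centralizer (Q : Set G)) = W := by
    rcases hmin _ hKn inf_le_left with h | h
    · exact absurd h hKne
    · exact h
  have hcent : ∀ w ∈ W, ∀ q ∈ Q, w * q = q * w := by
    intro w hw q hq
    have : w ∈ W ⊓ (Q ⊓ Subgroup.centralizer (Q : Set G)) := by rw [hK]; exact hw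
    exact ((Subgroup.mem_centralizer_iff.mp this.2.2) q hq).symm
  refine ⟨hcent, ?_⟩
  -- exponent p : the subgroup of elements of order dividing p
  have hcomm : ∀ a ∈ W, ∀ b ∈ W, a * b = b * a := fun a ha b hb => hcent a ha b (hWQ hb)
  let Ω : Subgroup G :=
    { carrier := {w | w ∈ W ∧ w ^ p = 1}
      one_mem' := ⟨W.one_mem, one_pow p⟩
      mul_mem' := by
        rintro a b ⟨ha, ha'⟩ ⟨hb, hb'⟩
        refine ⟨W.mul_mem ha hb, ?_⟩
        have hc : Commute a b := hcomm a ha b hb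
        rw [hc.mul_pow, ha', hb', one_mul]
      inv_mem' := by
        rintro a ⟨ha, ha'⟩
        exact ⟨W.inv_mem ha, by rw [inv_pow, ha', inv_one]⟩ }
  have hΩn : Ω.Normal := by
    constructor
    intro w hw g
    refine ⟨hWn.conj_mem w hw.1 g, ?_⟩
    rw [conj_pow, hw.2, mul_one, mul_inv_cancel]
  have hΩW : Ω ≤ W := fun w hw => hw.1
  have hΩne : Ω ≠ ⊥ := by
    -- Cauchy in W
    have hWp : IsPGroup p W := hQ.to_le hWQ
    have hWnt : Nontrivial W := (Subgroup.nontrivial_iff_ne_bot W).mpr hW1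
    obtain ⟨n, hn⟩ := hWp.exists_card_eq
    have hn0 : n ≠ 0 := by
      intro h0
      rw [h0, pow_zero] at hn
      have := (Nat.card_eq_one_iff_unique.mp hn).1
      exact not_subsingleton W this
    have hdvd : p ∣ Nat.card W := by rw [hn]; exact dvd_pow_self p hn0
    letI : Fintype W := Fintype.ofFinite W
    rw [Nat.card_eq_fintype_card] at hdvd
    obtain ⟨x, hx⟩ := exists_prime_orderOf_dvd_card p hdvd
    intro hbot
    have hxΩ : (x : G) ∈ Ω := by
      refine ⟨x.2, ?_⟩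
      have : x ^ p = 1 := by rw [← hx]; exact pow_orderOf_eq_one x
      exact_mod_cast congrArg Subtype.val this
    rw [hbot, Subgroup.mem_bot] at hxΩ
    have hx1 : x = 1 := Subtype.ext hxΩ
    rw [hx1, orderOf_one] at hx
    exact hp.out.one_lt.ne hx
  have hΩ : Ω = W := by
    rcases hmin Ω hΩn hΩW with h | h
    · exact absurd h hΩne
    · exact h
  intro w hw
  have : w ∈ Ω := by rw [hΩ]; exact hw
  exact this.2

end minimal

section classTwo

variable {Q : Type*} [Group Q] (W : Subgroup Q)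

/-- Hypotheses of the class-two calculus: `W` central, of exponent two, containing all squares. -/
structure Layer : Prop where
  central : ∀ w ∈ W, ∀ q : Q, w * q = q * w
  sq_mem : ∀ x : Q, x ^ 2 ∈ W
  exp_two : ∀ w ∈ W, w ^ 2 = 1

variable {W}

theorem Layer.comm_mem (h : Layer W) (x y : Q) : ⁅x, y⁆ ∈ W := by
  have e : ⁅x, y⁆ = (x * y) ^ 2 * (y⁻¹ * (x⁻¹) ^ 2 * y) * (y⁻¹) ^ 2 := by
    rw [commutatorElement_def]; simp only [pow_two]; group
  have h3 := h.sq_mem x⁻¹
  have hc := h.central _ h3 y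
  have e2 : y⁻¹ * (x⁻¹) ^ 2 * y = (x⁻¹) ^ 2 := by
    rw [mul_assoc, hc, ← mul_assoc, inv_mul_cancel, one_mul]
  rw [e, e2]
  exact W.mul_mem (W.mul_mem (h.sq_mem _) h3) (h.sq_mem _)

theorem Layer.comm_central (h : Layer W) (x y z : Q) : ⁅x, y⁆ * z = z * ⁅x, y⁆ :=
  h.central _ (h.comm_mem x y) z

theorem Layer.comm_sq (h : Layer W) (x y : Q) : ⁅x, y⁆ ^ 2 = 1 := h.exp_two _ (h.comm_mem x y)

theorem Layer.comm_inv (h : Layer W) (x y : Q) : ⁅x, y⁆⁻¹ = ⁅x, y⁆ := by
  have := h.comm_sq x y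
  rw [pow_two] at this
  exact inv_eq_of_mul_eq_one_left this

theorem Layer.comm_symm (h : Layer W) (x y : Q) : ⁅x, y⁆ = ⁅y, x⁆ := by
  rw [← commutatorElement_inv, h.comm_inv]

theorem Layer.comm_mul_left (h : Layer W) (x y z : Q) : ⁅x * y, z⁆ = ⁅x, z⁆ * ⁅y, z⁆ := by
  have key : ⁅x * y, z⁆ = x * ⁅y, z⁆ * x⁻¹ * ⁅x, z⁆ := by
    simp only [commutatorElement_def]; group
  rw [key, ← h.comm_central y z x, mul_assoc (⁅y, z⁆), mul_inv_cancel, mul_one, h.comm_central y z]

theorem Layer.comm_mul_right (h : Layer W) (x y z : Q) : ⁅x, y * z⁆ = ⁅x, y⁆ * ⁅x, z⁆ := by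
  rw [h.comm_symm x (y * z), h.comm_mul_left, h.comm_symm y x, h.comm_symm z x]

theorem Layer.comm_of_mem_left (h : Layer W) {w : Q} (hw : w ∈ W) (y : Q) : ⁅w, y⁆ = 1 := by
  rw [commutatorElement_def, h.central w hw y, mul_assoc y, mul_inv_cancel, mul_one, mul_inv_cancel]

theorem Layer.comm_of_mem_right (h : Layer W) (x : Q) {w : Q} (hw : w ∈ W) : ⁅x, w⁆ = 1 := by
  rw [h.comm_symm, h.comm_of_mem_left hw]

theorem Layer.comm_mul_mem_left (h : Layer W) (x y : Q) {w : Q} (hw : w ∈ W) : ⁅x * w, y⁆ = ⁅x, y⁆ := by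
  rw [h.comm_mul_left, h.comm_of_mem_left hw, mul_one]

theorem Layer.comm_mul_mem_right (h : Layer W) (x y : Q) {w : Q} (hw : w ∈ W) : ⁅x, y * w⁆ = ⁅x, y⁆ := by
  rw [h.comm_mul_right, h.comm_of_mem_right x hw, mul_one]

theorem Layer.comm_inv_left (h : Layer W) (x y : Q) : ⁅x⁻¹, y⁆ = ⁅x, y⁆ := by
  have h1 := h.comm_mul_left x x⁻¹ y
  rw [mul_inv_cancel, commutatorElement_one_left] at h1
  rw [← h.comm_inv x y]
  exact (inv_eq_of_mul_eq_one_right h1.symm).symm

theorem Layer.comm_inv_right (h : Layer W) (x y : Q) : ⁅x, y⁻¹⁆ = ⁅x, y⁆ := by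
  rw [h.comm_symm, h.comm_inv_left, h.comm_symm]

/-- `(xy)^2 = x^2 y^2 [y,x]`. -/
theorem Layer.sq_mul (h : Layer W) (x y : Q) : (x * y) ^ 2 = x ^ 2 * y ^ 2 * ⁅y, x⁆ := by
  have key : (x * y) ^ 2 = x ^ 2 * y ^ 2 * (y⁻¹ * ⁅y⁻¹, x⁻¹⁆ * y) := by
    rw [commutatorElement_def]; simp only [pow_two]; group
  have hc := h.comm_central y⁻¹ x⁻¹ y
  have e2 : y⁻¹ * ⁅y⁻¹, x⁻¹⁆ * y = ⁅y⁻¹, x⁻¹⁆ := by
    rw [mul_assoc, hc, ← mul_assoc, inv_mul_cancel, one_mul]
  rw [key, e2, h.comm_inv_left, h.comm_inv_right]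

theorem Layer.sq_mul_mem (h : Layer W) (x : Q) {w : Q} (hw : w ∈ W) : (x * w) ^ 2 = x ^ 2 := by
  rw [h.sq_mul, h.exp_two w hw, mul_one, h.comm_of_mem_left hw, mul_one]

theorem Layer.sq_central (h : Layer W) (x z : Q) : x ^ 2 * z = z * x ^ 2 := h.central _ (h.sq_mem x) z

/-- congruence modulo `W`: squares and commutators only depend on cosets. -/
theorem Layer.sq_congr (h : Layer W) {x x' : Q} (hx : x⁻¹ * x' ∈ W) : x' ^ 2 = x ^ 2 := by
  have : x' = x * (x⁻¹ * x') := by group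
  rw [this, h.sq_mul_mem x hx]

theorem Layer.comm_congr (h : Layer W) {x x' y y' : Q} (hx : x⁻¹ * x' ∈ W) (hy : y⁻¹ * y' ∈ W) :
    ⁅x', y'⁆ = ⁅x, y⁆ := by
  have e1 : x' = x * (x⁻¹ * x') := by group
  have e2 : y' = y * (y⁻¹ * y') := by group
  rw [e1, e2, h.comm_mul_mem_left _ _ hx, h.comm_mul_mem_right _ _ hy]

/-- equivariance under automorphisms preserving nothing in particular: plain group identities. -/
theorem sq_map {Q' : Type*} [Group Q'] (f : Q →* Q') (x : Q) : f (x ^ 2) = (f x) ^ 2 := map_pow f x 2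

theorem comm_map {Q' : Type*} [Group Q'] (f : Q →* Q') (x y : Q) : f ⁅x, y⁆ = ⁅f x, f y⁆ :=
  map_commutatorElement f x y

/-- In a `Layer`, `W` abelian and every element of `Q` has order dividing four. -/
theorem Layer.pow_four (h : Layer W) (x : Q) : x ^ 4 = 1 := by
  have : x ^ 4 = (x ^ 2) ^ 2 := by rw [← pow_mul]
  rw [this, h.exp_two _ (h.sq_mem x)]

/-- If all squares and all commutators are trivial modulo a subgroup `M ≤ W`... : the subgroup generated by squares and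
commutators of a subset. Here: if `x^2 = 1` for all `x` then `Q` is commutative. -/
theorem Layer.comm_of_sq_eq_one (h : Layer W) (hsq : ∀ x : Q, x ^ 2 = 1) (x y : Q) : x * y = y * x := by
  have h1 := h.sq_mul x y
  rw [hsq, hsq, hsq, one_mul, one_mul] at h1
  have : ⁅y, x⁆ = 1 := h1.symm
  rw [commutatorElement_eq_one_iff_mul_comm] at this
  exact this.symm

end classTwo

end Cfsg.Agent.Lib.Helper1.GH5U7
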