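import Mathlib
import Cfsg.Agent.Lib.Helper1.GH5U7

set_option autoImplicit false
open scoped commutatorElement

/-! GH5 (S3106) unit U7, part 2: the bridge from the group-level one-layer shape to abstract modules. -/

namespace Cfsg.Agent.Lib.Helper1.GH5U7

universe u

section bridge

variable {Y : Type u} [Group Y] (Q W : Subgroup Y) [hQn : Q.Normal] [hWn : W.Normal]

/-- the multiplicative version of `V = Q / W`. -/
abbrev Vm : Type u := ↥Q ⧸ W.subgroupOf Q

theorem conj_mem_subgroupOf (y : Y) :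
    W.subgroupOf Q ≤ (W.subgroupOf Q).comap ((MulAut.conjNormal y : ↥Q ≃* ↥Q).toMonoidHom) := by
  intro q hq
  rw [Subgroup.mem_comap]
  rw [Subgroup.mem_subgroupOf] at hq ⊢
  simp only [MulEquiv.toMonoidHom_eq_coe, MonoidHom.coe_coe, MulAut.conjNormal_apply]
  exact hWn.conj_mem _ hq y

/-- conjugation by `y` on `Q / W`. -/
def conjV (y : Y) : Vm Q W →* Vm Q W :=
  QuotientGroup.map _ _ ((MulAut.conjNormal y : ↥Q ≃* ↥Q).toMonoidHom) (conj_mem_subgroupOf Q W y)

theorem conjV_mk (y : Y) (q : ↥Q) :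
    conjV Q W y (QuotientGroup.mk q) = QuotientGroup.mk (MulAut.conjNormal y q) := rfl

theorem conjV_one : conjV Q W (1 : Y) = MonoidHom.id _ := by
  ext q
  simp [conjV]

theorem conjV_mul (y y' : Y) : conjV Q W (y * y') = (conjV Q W y).comp (conjV Q W y') := by
  ext q
  simp [conjV]

/-- conjugation by `y` on `W`. -/
def conjW (y : Y) : ↥W →* ↥W := (MulAut.conjNormal y : ↥W ≃* ↥W).toMonoidHom

theorem conjW_apply (y : Y) (w : ↥W) : ((conjW W y w : ↥W) : Y) = y * w * y⁻¹ := by
  simp [conjW]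

theorem conjW_one : conjW W (1 : Y) = MonoidHom.id _ := by
  refine MonoidHom.ext (fun w => Subtype.ext ?_)
  rw [conjW_apply]; simp

theorem conjW_mul (y y' : Y) : conjW W (y * y') = (conjW W y).comp (conjW W y') := by
  refine MonoidHom.ext (fun w => Subtype.ext ?_)
  rw [MonoidHom.comp_apply, conjW_apply, conjW_apply, conjW_apply]; group


/-- the group-level one-layer hypotheses give a `Layer` on the type `↥Q`. -/
theorem layer_of (hc : ∀ w ∈ W, ∀ q ∈ Q, w * q = q * w) (hsq : ∀ q ∈ Q, q * q ∈ W)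
    (hexp : ∀ w ∈ W, w * w = 1) : Layer (W.subgroupOf Q) := by
  refine ⟨?_, ?_, ?_⟩
  · intro w hw q
    exact Subtype.ext (hc _ hw _ q.2)
  · intro x
    rw [Subgroup.mem_subgroupOf, pow_two]
    exact hsq _ x.2
  · intro w hw
    rw [pow_two]
    exact Subtype.ext (hexp _ hw)

variable {Q W}

/-- the squaring map `Q / W → W`. -/
def sqV (hL : Layer (W.subgroupOf Q)) : Vm Q W → ↥W := fun v =>
  Quotient.liftOn' v (fun q => (⟨((q ^ 2 : ↥Q) : Y), Subgroup.mem_subgroupOf.mp (hL.sq_mem q)⟩ : ↥W)) (by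
    intro a b hab
    have hab' : a⁻¹ * b ∈ W.subgroupOf Q := QuotientGroup.leftRel_apply.mp hab
    have := hL.sq_congr hab'
    exact Subtype.ext (congrArg (fun t : ↥Q => (t : Y)) this.symm))

theorem sqV_mk (hL : Layer (W.subgroupOf Q)) (q : ↥Q) :
    ((sqV hL (QuotientGroup.mk q) : ↥W) : Y) = (q : Y) * q := by
  show ((q ^ 2 : ↥Q) : Y) = _
  rw [pow_two]; rfl

/-- the commutator map `Q / W → Q / W → W`. -/
def cmV (hL : Layer (W.subgroupOf Q)) : Vm Q W → Vm Q W → ↥W := fun v v' =>
  Quotient.liftOn₂' v v' (fun q q' => (⟨((⁅q, q'⁆ : ↥Q) : Y), Subgroup.mem_subgroupOf.mp (hL.comm_mem q q')⟩ : ↥W)) (by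
    intro a b a' b' haa hbb
    have h1 : a⁻¹ * a' ∈ W.subgroupOf Q := QuotientGroup.leftRel_apply.mp haa
    have h2 : b⁻¹ * b' ∈ W.subgroupOf Q := QuotientGroup.leftRel_apply.mp hbb
    have := hL.comm_congr h1 h2
    exact Subtype.ext (congrArg (fun t : ↥Q => (t : Y)) this.symm))

theorem cmV_mk (hL : Layer (W.subgroupOf Q)) (q q' : ↥Q) :
    ((cmV hL (QuotientGroup.mk q) (QuotientGroup.mk q') : ↥W) : Y) = ((⁅q, q'⁆ : ↥Q) : Y) := rfl


theorem vm_comm (hL : Layer (W.subgroupOf Q)) (a b : Vm Q W) : a * b = b * a := by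
  induction a using QuotientGroup.induction_on with | H a => ?_
  induction b using QuotientGroup.induction_on with | H b => ?_
  rw [← QuotientGroup.mk_mul, ← QuotientGroup.mk_mul, QuotientGroup.eq]
  have h := hL.comm_mem b⁻¹ a⁻¹
  rw [commutatorElement_def, inv_inv, inv_inv] at h
  rw [mul_inv_rev, ← mul_assoc]
  exact h

theorem vm_sq (hL : Layer (W.subgroupOf Q)) (a : Vm Q W) : a * a = 1 := by
  induction a using QuotientGroup.induction_on with | H a => ?_
  rw [← QuotientGroup.mk_mul, QuotientGroup.eq_one_iff, ← pow_two]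
  exact hL.sq_mem a

theorem conjV_of_mem (hL : Layer (W.subgroupOf Q)) {q : Y} (hq : q ∈ Q) (a : Vm Q W) :
    conjV Q W q a = a := by
  induction a using QuotientGroup.induction_on with | H a => ?_
  rw [conjV_mk, QuotientGroup.eq]
  have h := hL.comm_mem ⟨q, hq⟩ a⁻¹
  rw [commutatorElement_def, inv_inv] at h
  have e : (MulAut.conjNormal q a : ↥Q) = ⟨q, hq⟩ * a * ⟨q, hq⟩⁻¹ := by
    apply Subtype.ext
    simp [MulAut.conjNormal_apply]
  rw [e]
  convert h using 1
  group

theorem conjW_of_mem (hc : ∀ w ∈ W, ∀ q ∈ Q, w * q = q * w) {q : Y} (hq : q ∈ Q) (w : ↥W) :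
    conjW W q w = w := by
  apply Subtype.ext
  rw [conjW_apply, ← hc _ w.2 _ hq, mul_assoc, mul_inv_cancel, mul_one]

theorem sqV_mul (hL : Layer (W.subgroupOf Q)) (a b : Vm Q W) :
    sqV hL (a * b) = sqV hL a * sqV hL b * cmV hL a b := by
  induction a using QuotientGroup.induction_on with | H a => ?_
  induction b using QuotientGroup.induction_on with | H b => ?_
  apply Subtype.ext
  rw [← QuotientGroup.mk_mul]
  have h := hL.sq_mul a b
  rw [← hL.comm_symm a b] at h
  show ((((a * b) ^ 2 : ↥Q)) : Y) = (((a ^ 2 : ↥Q)) : Y) * (((b ^ 2 : ↥Q)) : Y) * ((⁅a, b⁆ : ↥Q) : Y)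
  rw [h]; rfl

theorem cmV_mul_left (hL : Layer (W.subgroupOf Q)) (a a' b : Vm Q W) :
    cmV hL (a * a') b = cmV hL a b * cmV hL a' b := by
  induction a using QuotientGroup.induction_on with | H a => ?_
  induction a' using QuotientGroup.induction_on with | H a' => ?_
  induction b using QuotientGroup.induction_on with | H b => ?_
  apply Subtype.ext
  rw [← QuotientGroup.mk_mul]
  show ((⁅a * a', b⁆ : ↥Q) : Y) = ((⁅a, b⁆ : ↥Q) : Y) * ((⁅a', b⁆ : ↥Q) : Y)
  rw [hL.comm_mul_left]; rfl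

theorem cmV_symm (hL : Layer (W.subgroupOf Q)) (a b : Vm Q W) : cmV hL a b = cmV hL b a := by
  induction a using QuotientGroup.induction_on with | H a => ?_
  induction b using QuotientGroup.induction_on with | H b => ?_
  apply Subtype.ext
  show ((⁅a, b⁆ : ↥Q) : Y) = ((⁅b, a⁆ : ↥Q) : Y)
  rw [hL.comm_symm]

theorem cmV_mul_right (hL : Layer (W.subgroupOf Q)) (a b b' : Vm Q W) :
    cmV hL a (b * b') = cmV hL a b * cmV hL a b' := by
  rw [cmV_symm hL a (b * b'), cmV_mul_left, cmV_symm hL b a, cmV_symm hL b' a]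

theorem cmV_self (hL : Layer (W.subgroupOf Q)) (a : Vm Q W) : cmV hL a a = 1 := by
  induction a using QuotientGroup.induction_on with | H a => ?_
  apply Subtype.ext
  show ((⁅a, a⁆ : ↥Q) : Y) = 1
  rw [commutatorElement_self]; rfl

theorem sqV_conj (hL : Layer (W.subgroupOf Q)) (y : Y) (a : Vm Q W) :
    sqV hL (conjV Q W y a) = conjW W y (sqV hL a) := by
  induction a using QuotientGroup.induction_on with | H a => ?_
  apply Subtype.ext
  rw [conjV_mk, sqV_mk, conjW_apply, sqV_mk]
  simp only [MulAut.conjNormal_apply]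
  group

theorem cmV_conj (hL : Layer (W.subgroupOf Q)) (y : Y) (a b : Vm Q W) :
    cmV hL (conjV Q W y a) (conjV Q W y b) = conjW W y (cmV hL a b) := by
  induction a using QuotientGroup.induction_on with | H a => ?_
  induction b using QuotientGroup.induction_on with | H b => ?_
  apply Subtype.ext
  rw [conjV_mk, conjV_mk, cmV_mk, conjW_apply, cmV_mk]
  simp only [commutatorElement_def, MulAut.conjNormal_apply, Subgroup.coe_mul, Subgroup.coe_inv]
  group


/-- **GH5 U7 bridge**: from the group-level one-layer shape to abstract `𝔽₂`-modules `V = Q/W`, `Wt = W` with the action of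
`Y ⧸ Q`, the squaring map `s` and the commutator map `c`. -/
theorem exists_layer {Y : Type u} [Group Y] [Finite Y] (Q W : Subgroup Y) [hQn : Q.Normal] [hWn : W.Normal]
    (hWQ : W ≤ Q) (hc : ∀ w ∈ W, ∀ q ∈ Q, w * q = q * w) (hsq : ∀ q ∈ Q, q * q ∈ W)
    (hexp : ∀ w ∈ W, w * w = 1) :
    ∃ (V Wt : Type u) (_ : AddCommGroup V) (_ : AddCommGroup Wt) (_ : Finite V) (_ : Finite Wt)
      (ρV : (Y ⧸ Q) →* AddMonoid.End V) (ρW : (Y ⧸ Q) →* AddMonoid.End Wt)
      (πV : ↥Q → V) (πW : ↥W → Wt) (s : V → Wt) (c : V → V → Wt),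
      (∀ u : V, u + u = 0) ∧ (∀ w : Wt, w + w = 0) ∧
      Function.Surjective πV ∧ (∀ a b : ↥Q, πV (a * b) = πV a + πV b) ∧
      (∀ a : ↥Q, πV a = 0 ↔ (a : Y) ∈ W) ∧
      Function.Bijective πW ∧ (∀ a b : ↥W, πW (a * b) = πW a + πW b) ∧
      (∀ (y : Y) (q : ↥Q) (h : y * q * y⁻¹ ∈ Q),
        ρV (QuotientGroup.mk y) (πV q) = πV ⟨y * q * y⁻¹, h⟩) ∧
      (∀ (y : Y) (w : ↥W) (h : y * w * y⁻¹ ∈ W),
        ρW (QuotientGroup.mk y) (πW w) = πW ⟨y * w * y⁻¹, h⟩) ∧
      (∀ (q : ↥Q) (h : (q : Y) * q ∈ W), s (πV q) = πW ⟨(q : Y) * q, h⟩) ∧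
      (∀ (q q' : ↥Q) (h : (q : Y) * q' * (q : Y)⁻¹ * (q' : Y)⁻¹ ∈ W),
        c (πV q) (πV q') = πW ⟨(q : Y) * q' * (q : Y)⁻¹ * (q' : Y)⁻¹, h⟩) ∧
      (∀ u v : V, s (u + v) = s u + s v + c u v) ∧
      (∀ u u' v : V, c (u + u') v = c u v + c u' v) ∧
      (∀ u v v' : V, c u (v + v') = c u v + c u v') ∧
      (∀ u : V, c u u = 0) ∧ (∀ u v : V, c u v = c v u) ∧
      (∀ (g : Y ⧸ Q) (u : V), s (ρV g u) = ρW g (s u)) ∧
      (∀ (g : Y ⧸ Q) (u v : V), c (ρV g u) (ρV g v) = ρW g (c u v)) ∧
      Nat.card V * Nat.card ↥W = Nat.card ↥Q ∧ Nat.card Wt = Nat.card ↥W := by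
  classical
  have hL : Layer (W.subgroupOf Q) := layer_of Q W hc hsq hexp
  letI instCV : CommGroup (Vm Q W) := { (inferInstance : Group (Vm Q W)) with mul_comm := vm_comm hL }
  letI instCW : CommGroup ↥W :=
    { (inferInstance : Group ↥W) with mul_comm := fun a b => Subtype.ext (hc a a.2 b (hWQ b.2)) }
  -- the actions
  let φV : Y →* AddMonoid.End (Additive (Vm Q W)) :=
    { toFun := fun y => MonoidHom.toAdditive (conjV Q W y)
      map_one' := by rw [conjV_one]; rfl
      map_mul' := fun y y' => by rw [conjV_mul]; rfl }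
  have hφV : ∀ q ∈ Q, φV q = 1 := by
    intro q hq
    exact AddMonoidHom.ext (fun v => congrArg Additive.ofMul (conjV_of_mem hL hq (Additive.toMul v)))
  let ρV : (Y ⧸ Q) →* AddMonoid.End (Additive (Vm Q W)) := QuotientGroup.lift Q φV hφV
  let φW : Y →* AddMonoid.End (Additive ↥W) :=
    { toFun := fun y => MonoidHom.toAdditive (conjW W y)
      map_one' := by rw [conjW_one]; rfl
      map_mul' := fun y y' => by rw [conjW_mul]; rfl }
  have hφW : ∀ q ∈ Q, φW q = 1 := by
    intro q hq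
    exact AddMonoidHom.ext (fun w => congrArg Additive.ofMul (conjW_of_mem hc hq (Additive.toMul w)))
  let ρW : (Y ⧸ Q) →* AddMonoid.End (Additive ↥W) := QuotientGroup.lift Q φW hφW
  let πV : ↥Q → Additive (Vm Q W) := fun q => Additive.ofMul (QuotientGroup.mk q)
  let πW : ↥W → Additive ↥W := fun w => Additive.ofMul w
  let s : Additive (Vm Q W) → Additive ↥W := fun v => Additive.ofMul (sqV hL (Additive.toMul v))
  let c : Additive (Vm Q W) → Additive (Vm Q W) → Additive ↥W :=
    fun u v => Additive.ofMul (cmV hL (Additive.toMul u) (Additive.toMul v))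
  refine ⟨Additive (Vm Q W), Additive ↥W, inferInstance, inferInstance, inferInstance, inferInstance,
    ρV, ρW, πV, πW, s, c, ?_, ?_, ?_, ?_, ?_, ?_, ?_, ?_, ?_, ?_, ?_, ?_, ?_, ?_, ?_, ?_, ?_, ?_, ?_, ?_⟩
  · intro u
    exact congrArg Additive.ofMul (vm_sq hL (Additive.toMul u))
  · intro w
    apply congrArg Additive.ofMul
    exact Subtype.ext (hexp _ (Additive.toMul w).2)
  · intro v
    obtain ⟨q, hq⟩ := QuotientGroup.mk_surjective (Additive.toMul v)
    exact ⟨q, congrArg Additive.ofMul hq⟩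
  · intro a b
    rfl
  · intro a
    show Additive.ofMul (QuotientGroup.mk a : Vm Q W) = 0 ↔ _
    rw [← ofMul_one, Additive.ofMul.apply_eq_iff_eq, QuotientGroup.eq_one_iff]
    rfl
  · exact Additive.ofMul.bijective
  · intro a b
    rfl
  · intro y q h
    show Additive.ofMul (conjV Q W y (QuotientGroup.mk q)) = _
    rw [conjV_mk]
    apply congrArg Additive.ofMul
    apply congrArg QuotientGroup.mk
    apply Subtype.ext
    simp [MulAut.conjNormal_apply]
  · intro y w h
    show Additive.ofMul (conjW W y w) = _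
    apply congrArg Additive.ofMul
    apply Subtype.ext
    rw [conjW_apply]
  · intro q h
    apply congrArg Additive.ofMul
    apply Subtype.ext
    exact sqV_mk hL q
  · intro q q' h
    apply congrArg Additive.ofMul
    apply Subtype.ext
    show ((cmV hL (QuotientGroup.mk q) (QuotientGroup.mk q') : ↥W) : Y) = _
    rw [cmV_mk, commutatorElement_def]
    simp
  · intro u v
    exact congrArg Additive.ofMul (sqV_mul hL (Additive.toMul u) (Additive.toMul v))
  · intro u u' v
    exact congrArg Additive.ofMul (cmV_mul_left hL (Additive.toMul u) (Additive.toMul u') (Additive.toMul v))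
  · intro u v v'
    exact congrArg Additive.ofMul (cmV_mul_right hL (Additive.toMul u) (Additive.toMul v) (Additive.toMul v'))
  · intro u
    exact congrArg Additive.ofMul (cmV_self hL (Additive.toMul u))
  · intro u v
    exact congrArg Additive.ofMul (cmV_symm hL (Additive.toMul u) (Additive.toMul v))
  · intro g u
    induction g using QuotientGroup.induction_on with | H y => ?_
    exact congrArg Additive.ofMul (sqV_conj hL y (Additive.toMul u))
  · intro g u v
    induction g using QuotientGroup.induction_on with | H y => ?_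
    exact congrArg Additive.ofMul (cmV_conj hL y (Additive.toMul u) (Additive.toMul v))
  · have h1 : Nat.card (Additive (Vm Q W)) = Nat.card (Vm Q W) := Nat.card_congr Additive.toMul
    have h2 : Nat.card ↥(W.subgroupOf Q) = Nat.card ↥W :=
      Nat.card_congr (Subgroup.subgroupOfEquivOfLe hWQ).toEquiv
    rw [h1, ← h2]
    exact (Subgroup.card_eq_card_quotient_mul_card_subgroup (W.subgroupOf Q)).symm
  · exact Nat.card_congr Additive.toMul

end bridge

end Cfsg.Agent.Lib.Helper1.GH5U7
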