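import Mathlib
import Cfsg.Agent.Lib.Helper1.GH5U7b

set_option autoImplicit false
open scoped commutatorElement

/-! GH5 (S3106) unit U7, part 3: two mini-bridges.
* `exists_central_module`: a normal subgroup `A ≤ Q` of `Y`, central in `Q`, of exponent two, as an abstract module for `Y ⧸ Q`.
* `exists_rhoV`: for `Φ ≤ Q` normal in `Y` containing all squares of `Q` (no centrality needed): the module `V = Q / Φ`. -/

namespace Cfsg.Agent.Lib.Helper1.GH5U7

universe u

theorem exists_central_module {Y : Type u} [Group Y] [Finite Y] (Q A : Subgroup Y) [hQn : Q.Normal]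
    [hAn : A.Normal] (hc : ∀ a ∈ A, ∀ q ∈ Q, a * q = q * a) (hAQ : A ≤ Q) (hexp : ∀ a ∈ A, a * a = 1) :
    ∃ (Wt : Type u) (_ : AddCommGroup Wt) (_ : Finite Wt) (ρW : (Y ⧸ Q) →* AddMonoid.End Wt)
      (πW : ↥A → Wt),
      (∀ w : Wt, w + w = 0) ∧ Function.Bijective πW ∧ (∀ a b : ↥A, πW (a * b) = πW a + πW b) ∧
      (∀ (y : Y) (w : ↥A) (h : y * w * y⁻¹ ∈ A),
        ρW (QuotientGroup.mk y) (πW w) = πW ⟨y * w * y⁻¹, h⟩) ∧
      Nat.card Wt = Nat.card ↥A := by
  classical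
  letI instCW : CommGroup ↥A :=
    { (inferInstance : Group ↥A) with mul_comm := fun a b => Subtype.ext (hc a a.2 b (hAQ b.2)) }
  let φW : Y →* AddMonoid.End (Additive ↥A) :=
    { toFun := fun y => MonoidHom.toAdditive (conjW A y)
      map_one' := by rw [conjW_one]; rfl
      map_mul' := fun y y' => by rw [conjW_mul]; rfl }
  have hφW : ∀ q ∈ Q, φW q = 1 := by
    intro q hq
    exact AddMonoidHom.ext (fun w => congrArg Additive.ofMul (conjW_of_mem hc hq (Additive.toMul w)))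
  let ρW : (Y ⧸ Q) →* AddMonoid.End (Additive ↥A) := QuotientGroup.lift Q φW hφW
  refine ⟨Additive ↥A, inferInstance, inferInstance, ρW, fun w => Additive.ofMul w, ?_, ?_, ?_, ?_, ?_⟩
  · intro w
    apply congrArg Additive.ofMul
    exact Subtype.ext (hexp _ (Additive.toMul w).2)
  · exact Additive.ofMul.bijective
  · intro a b
    rfl
  · intro y w h
    show Additive.ofMul (conjW A y w) = _
    apply congrArg Additive.ofMul
    apply Subtype.ext
    rw [conjW_apply]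
  · exact Nat.card_congr Additive.toMul

section rhoV

variable {Y : Type u} [Group Y] {Q Φ : Subgroup Y} [hQn : Q.Normal] [hΦn : Φ.Normal]

theorem comm_mem_of_sq (hsq : ∀ q ∈ Q, q * q ∈ Φ) (x y : ↥Q) : ⁅x, y⁆ ∈ Φ.subgroupOf Q := by
  rw [Subgroup.mem_subgroupOf]
  have e : ((⁅x, y⁆ : ↥Q) : Y)
      = ((x : Y) * y) * ((x : Y) * y) * ((y : Y)⁻¹ * ((x : Y)⁻¹ * (x : Y)⁻¹) * (y : Y)⁻¹⁻¹) *
        ((y : Y)⁻¹ * (y : Y)⁻¹) := by
    rw [commutatorElement_def]
    simp only [Subgroup.coe_mul, Subgroup.coe_inv]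
    group
  rw [e]
  refine Φ.mul_mem (Φ.mul_mem (hsq _ (Q.mul_mem x.2 y.2)) ?_) (hsq _ (Q.inv_mem y.2))
  exact hΦn.conj_mem _ (hsq _ (Q.inv_mem x.2)) _

theorem vm_comm' (hsq : ∀ q ∈ Q, q * q ∈ Φ) (a b : Vm Q Φ) : a * b = b * a := by
  induction a using QuotientGroup.induction_on with | H a => ?_
  induction b using QuotientGroup.induction_on with | H b => ?_
  rw [← QuotientGroup.mk_mul, ← QuotientGroup.mk_mul, QuotientGroup.eq]
  have h := comm_mem_of_sq (Φ := Φ) hsq b⁻¹ a⁻¹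
  rw [commutatorElement_def, inv_inv, inv_inv] at h
  rw [mul_inv_rev, ← mul_assoc]
  exact h

theorem vm_sq' (hsq : ∀ q ∈ Q, q * q ∈ Φ) (a : Vm Q Φ) : a * a = 1 := by
  induction a using QuotientGroup.induction_on with | H a => ?_
  rw [← QuotientGroup.mk_mul, QuotientGroup.eq_one_iff, Subgroup.mem_subgroupOf]
  exact hsq _ a.2

theorem conjV_of_mem' (hsq : ∀ q ∈ Q, q * q ∈ Φ) {q : Y} (hq : q ∈ Q) (a : Vm Q Φ) :
    conjV Q Φ q a = a := by
  induction a using QuotientGroup.induction_on with | H a => ?_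
  rw [conjV_mk, QuotientGroup.eq]
  have h := comm_mem_of_sq (Φ := Φ) hsq ⟨q, hq⟩ a⁻¹
  rw [commutatorElement_def, inv_inv] at h
  have e : (MulAut.conjNormal q a : ↥Q) = ⟨q, hq⟩ * a * ⟨q, hq⟩⁻¹ := by
    apply Subtype.ext
    simp [MulAut.conjNormal_apply]
  rw [e]
  convert h using 1
  group

end rhoV

/-- the module `V = Q / Φ` for a normal subgroup `Φ ≤ Q` of `Y` containing all squares of `Q`. -/
theorem exists_rhoV {Y : Type u} [Group Y] [Finite Y] (Q Φ : Subgroup Y) [hQn : Q.Normal] [hΦn : Φ.Normal]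
    (hΦQ : Φ ≤ Q) (hsq : ∀ q ∈ Q, q * q ∈ Φ) :
    ∃ (V : Type u) (_ : AddCommGroup V) (_ : Finite V) (ρV : (Y ⧸ Q) →* AddMonoid.End V) (πV : ↥Q → V),
      (∀ u : V, u + u = 0) ∧ Function.Surjective πV ∧ (∀ a b : ↥Q, πV (a * b) = πV a + πV b) ∧
      (∀ a : ↥Q, πV a = 0 ↔ (a : Y) ∈ Φ) ∧
      (∀ (y : Y) (q : ↥Q) (h : y * q * y⁻¹ ∈ Q),
        ρV (QuotientGroup.mk y) (πV q) = πV ⟨y * q * y⁻¹, h⟩) ∧
      Nat.card V * Nat.card ↥Φ = Nat.card ↥Q := by
  classical
  letI instCV : CommGroup (Vm Q Φ) :=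
    { (inferInstance : Group (Vm Q Φ)) with mul_comm := vm_comm' hsq }
  let φV : Y →* AddMonoid.End (Additive (Vm Q Φ)) :=
    { toFun := fun y => MonoidHom.toAdditive (conjV Q Φ y)
      map_one' := by rw [conjV_one]; rfl
      map_mul' := fun y y' => by rw [conjV_mul]; rfl }
  have hφV : ∀ q ∈ Q, φV q = 1 := by
    intro q hq
    exact AddMonoidHom.ext (fun v => congrArg Additive.ofMul (conjV_of_mem' hsq hq (Additive.toMul v)))
  let ρV : (Y ⧸ Q) →* AddMonoid.End (Additive (Vm Q Φ)) := QuotientGroup.lift Q φV hφV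
  refine ⟨Additive (Vm Q Φ), inferInstance, inferInstance, ρV,
    fun q => Additive.ofMul (QuotientGroup.mk q), ?_, ?_, ?_, ?_, ?_, ?_⟩
  · intro u
    exact congrArg Additive.ofMul (vm_sq' hsq (Additive.toMul u))
  · intro v
    obtain ⟨q, hq⟩ := QuotientGroup.mk_surjective (Additive.toMul v)
    exact ⟨q, congrArg Additive.ofMul hq⟩
  · intro a b
    rfl
  · intro a
    show Additive.ofMul (QuotientGroup.mk a : Vm Q Φ) = 0 ↔ _
    rw [← ofMul_one, Additive.ofMul.apply_eq_iff_eq, QuotientGroup.eq_one_iff]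
    rfl
  · intro y q h
    show Additive.ofMul (conjV Q Φ y (QuotientGroup.mk q)) = _
    rw [conjV_mk]
    apply congrArg Additive.ofMul
    apply congrArg QuotientGroup.mk
    apply Subtype.ext
    simp [MulAut.conjNormal_apply]
  · have h1 : Nat.card (Additive (Vm Q Φ)) = Nat.card (Vm Q Φ) := Nat.card_congr Additive.toMul
    have h2 : Nat.card ↥(Φ.subgroupOf Q) = Nat.card ↥Φ :=
      Nat.card_congr (Subgroup.subgroupOfEquivOfLe hΦQ).toEquiv
    rw [h1, ← h2]
    exact (Subgroup.card_eq_card_quotient_mul_card_subgroup (Φ.subgroupOf Q)).symm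

end Cfsg.Agent.Lib.Helper1.GH5U7
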