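import Mathlib
import Cfsg.Agent.Lib.Helper2.GH5Core
import Cfsg.Agent.Lib.Helper9.GH5M
import Cfsg.Agent.Lib.Helper4.GH5MO4
import Cfsg.Agent.Lib.Helper8.GH5OTb
import Cfsg.Agent.Lib.Helper6.GH5R
import Cfsg.Agent.Lib.Helper1.GH5U7c

set_option autoImplicit false
set_option linter.unusedSectionVars false

/-! GH5 (S3106), second layer: module-level preparations for the assembly of `G2_second_layer`. -/

namespace Cfsg.Agent.Lib.Helper1.GH5G2

open Cfsg.Agent.Lib.Helper3.A8Emb (sqSub sqSub_le)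
open Cfsg.Agent.Lib.Helper2.GH5 (GH5Data sq_mem_sqSub)
open Cfsg.Agent.Lib.Helper9.GH5M (f1 dichotomy TypeN stab mem_stab card_G)
open Cfsg.Agent.Lib.Helper4.GH5 (TypeOData exists_typeO_of_stab12)
open Cfsg.Agent.Lib.Helper8.GH5Cases (SC)

universe u

variable {Y : Type u} [Group Y] [Finite Y]

/-- an elementary abelian `2`-subgroup has order at most `16` when the sectional `2`-rank is at most `4`. -/
theorem card_le_sixteen (hr : Cfsg.SectionalPRankLE 2 4 Y) (A : Subgroup Y)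
    (hAc : ∀ a ∈ A, ∀ b ∈ A, a * b = b * a) (hA2 : ∀ a ∈ A, a * a = 1) : Nat.card ↥A ≤ 16 := by
  by_contra hlt
  push Not at hlt
  have hp : IsPGroup 2 ↥A := by
    intro a
    refine ⟨1, ?_⟩
    apply Subtype.ext
    simp [pow_two, hA2 a.1 a.2]
  obtain ⟨n, hn⟩ := IsPGroup.iff_card.mp hp
  have h32 : 32 ≤ Nat.card ↥A := by
    rw [hn] at hlt ⊢
    have h4 : 4 < n := by
      by_contra h
      push Not at h
      have : 2 ^ n ≤ 2 ^ 4 := Nat.pow_le_pow_right (by norm_num) h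
      omega
    calc 32 = 2 ^ 5 := by norm_num
      _ ≤ 2 ^ n := Nat.pow_le_pow_right (by norm_num) h4
  refine Cfsg.Agent.Lib.Helper6.GH5.false_of_elemAb_section_mul hr ⊥ A bot_le ?_ ?_ ?_
  · intro x hx y hy
    rw [hAc x hx y hy]
    simp
  · intro x hx
    rw [hA2 x hx]
    exact Subgroup.one_mem _
  · simpa using h32

/-- a normal subgroup `A ≤ Q` central in `Q`, of exponent two and order at most `16`, is central
in `Y` or has order `16` (`Y ⧸ Q ≃ A₅`). -/
theorem central_or_sixteen (Q A : Subgroup Y) [Q.Normal] [hAn : A.Normal]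
    (e : Y ⧸ Q ≃* alternatingGroup (Fin 5))
    (hc : ∀ a ∈ A, ∀ q ∈ Q, a * q = q * a) (hAQ : A ≤ Q) (hexp : ∀ a ∈ A, a * a = 1)
    (hcard : Nat.card ↥A ≤ 16) :
    (∀ a ∈ A, ∀ y : Y, a * y = y * a) ∨ Nat.card ↥A = 16 := by
  obtain ⟨Wt, iA, iF, ρW, πW, hW2, hbij, hadd, hconj, hcardW⟩ :=
    Cfsg.Agent.Lib.Helper1.GH5U7.exists_central_module Q A hc hAQ hexp
  rcases f1 e hW2 ρW (by rw [hcardW]; exact hcard) with h | ⟨h16, _⟩
  · left
    intro a ha y
    have hmem : y * a * y⁻¹ ∈ A := hAn.conj_mem a ha y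
    have h1 := hconj y ⟨a, ha⟩ hmem
    rw [h] at h1
    have h2 := hbij.1 h1
    have h3 : a = y * a * y⁻¹ := congrArg Subtype.val h2
    calc a * y = (y * a * y⁻¹) * y := by rw [← h3]
      _ = y * a := by group
  · right
    rw [← hcardW]
    exact h16

/-- a minimal normal subgroup which is central and of exponent two has order two. -/
theorem card_two_of_central_minimal (W : Subgroup Y) (hW1 : W ≠ ⊥)
    (hmin : ∀ M : Subgroup Y, M.Normal → M ≤ W → M = ⊥ ∨ M = W)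
    (hWc : ∀ w ∈ W, ∀ y : Y, w * y = y * w) (hexp : ∀ w ∈ W, w * w = 1) : Nat.card ↥W = 2 := by
  obtain ⟨⟨w, hw⟩, hw1'⟩ := (Subgroup.ne_bot_iff_exists_ne_one).mp hW1
  have hw1 : w ≠ 1 := fun h => hw1' (Subtype.ext h)
  have hn : (Subgroup.zpowers w).Normal := by
    constructor
    intro n hn y
    obtain ⟨k, rfl⟩ := Subgroup.mem_zpowers_iff.mp hn
    have hk : w ^ k ∈ W := W.zpow_mem hw k
    have h1 : y * w ^ k * y⁻¹ = w ^ k := by
      rw [← hWc _ hk y]
      group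
    rw [h1]
    exact hn
  rcases hmin _ hn ((Subgroup.zpowers_le).mpr hw) with h | h
  · exfalso
    apply hw1
    have h1 : w ∈ Subgroup.zpowers w := Subgroup.mem_zpowers w
    rw [h] at h1
    exact Subgroup.mem_bot.mp h1
  · rw [← h, Nat.card_zpowers]
    have : Fact (Nat.Prime 2) := ⟨Nat.prime_two⟩
    exact orderOf_eq_prime (by rw [pow_two]; exact hexp w hw) hw1

/-- the module `V = Q / sqSub Q` with its dictionary: order `16`, faithful, of type N or type O. -/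
theorem exists_V (Q : Subgroup Y) [hQn : Q.Normal] (hD : GH5Data Q) :
    ∃ (V : Type u) (_ : AddCommGroup V) (_ : Finite V) (ρV : (Y ⧸ Q) →* AddMonoid.End V)
      (πV : ↥Q → V),
      (∀ u : V, u + u = 0) ∧ Function.Surjective πV ∧
      (∀ a b : ↥Q, πV (a * b) = πV a + πV b) ∧
      (∀ a : ↥Q, πV a = 0 ↔ (a : Y) ∈ sqSub Q) ∧
      (∀ (y : Y) (q : ↥Q) (h : y * q * y⁻¹ ∈ Q),
        ρV (QuotientGroup.mk y) (πV q) = πV ⟨y * q * y⁻¹, h⟩) ∧
      Nat.card V = 16 ∧ Function.Injective ρV ∧ (TypeN ρV ∨ Nonempty (TypeOData ρV)) := by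
  obtain ⟨V, iA, iF, ρV, πV, hV2, hsurj, hadd, hker, hconj, hcardV⟩ :=
    Cfsg.Agent.Lib.Helper1.GH5U7.exists_rhoV Q (sqSub Q) (sqSub_le Q)
      (fun q hq => sq_mem_sqSub Q hq)
  obtain ⟨e⟩ := hD.iso
  have hπ1 : πV 1 = 0 := by
    have h := hadd 1 1
    rw [mul_one] at h
    have h2 : πV 1 + 0 = πV 1 + πV 1 := by rw [add_zero]; exact h
    exact (add_left_cancel h2).symm
  have hπinv : ∀ a : ↥Q, πV a⁻¹ = πV a := by
    intro a
    have h := hadd a⁻¹ a
    rw [inv_mul_cancel, hπ1] at h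
    have h2 : πV a⁻¹ + πV a = πV a + πV a := by rw [← h, hV2]
    exact add_right_cancel h2
  -- commutators of Q lie in sqSub Q
  have hcommem : ∀ x ∈ Q, ∀ y ∈ Q, x * y * x⁻¹ * y⁻¹ ∈ sqSub Q := by
    intro x hx y hy
    have h1 : πV (⟨x, hx⟩ * ⟨y, hy⟩ * (⟨x, hx⟩ : ↥Q)⁻¹ * (⟨y, hy⟩ : ↥Q)⁻¹) = 0 := by
      rw [hadd, hadd, hadd, hπinv, hπinv]
      have : πV ⟨x, hx⟩ + πV ⟨y, hy⟩ + πV ⟨x, hx⟩ + πV ⟨y, hy⟩
          = (πV ⟨x, hx⟩ + πV ⟨x, hx⟩) + (πV ⟨y, hy⟩ + πV ⟨y, hy⟩) := by abel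
      rw [this, hV2, hV2, add_zero]
    exact (hker _).mp h1
  -- |V| ≤ 16
  have hle : Nat.card V ≤ 16 := by
    have h1 := Cfsg.Agent.Lib.Helper6.GH5.relIndex_le_of_sectional hD.rank (sqSub Q) Q
      (fun x hx y hy => by
        rw [commutatorElement_def]
        exact hcommem x hx y hy)
      (fun x hx => by rw [pow_two]; exact sq_mem_sqSub Q hx)
    have h2 : Nat.card ↥((sqSub Q).subgroupOf Q) = Nat.card ↥(sqSub Q) :=
      Nat.card_congr (Subgroup.subgroupOfEquivOfLe (sqSub_le Q)).toEquiv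
    have h3 := Subgroup.card_mul_index ((sqSub Q).subgroupOf Q)
    rw [h2] at h3
    have hpos : 0 < Nat.card ↥(sqSub Q) := Nat.card_pos
    have h4 : Nat.card V = ((sqSub Q).subgroupOf Q).index := by
      have : Nat.card ↥(sqSub Q) * Nat.card V = Nat.card ↥(sqSub Q) * ((sqSub Q).subgroupOf Q).index := by
        rw [h3, mul_comm]; exact hcardV
      exact Nat.eq_of_mul_eq_mul_left hpos this
    rw [h4]
    exact h1
  rcases f1 e hV2 ρV hle with htriv | ⟨h16, hinj⟩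
  · exfalso
    have hall : ∀ y : Y, y ∈ Q := by
      intro y
      apply hD.faithful
      intro a ha
      have hmem : y * a * y⁻¹ ∈ Q := hQn.conj_mem a ha y
      have h1 := hconj y ⟨a, ha⟩ hmem
      rw [htriv] at h1
      have h2 : πV (⟨y * a * y⁻¹, hmem⟩ * (⟨a, ha⟩ : ↥Q)⁻¹) = 0 := by
        rw [hadd, hπinv, ← h1, hV2]
      exact (hker _).mp h2
    have htop : Q = ⊤ := (Subgroup.eq_top_iff' Q).mpr hall
    have h60 := card_G e
    have h1 : Nat.card (Y ⧸ Q) = 1 := by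
      rw [← Subgroup.index_eq_card, htop, Subgroup.index_top]
    omega
  · refine ⟨V, iA, iF, ρV, πV, hV2, hsurj, hadd, hker, hconj, h16, hinj, ?_⟩
    rcases dichotomy e hV2 ρV h16 hinj with hN | ⟨u0, hu0, h12⟩
    · exact Or.inl hN
    · right
      refine exists_typeO_of_stab12 e h16 hV2 ρV hinj u0 hu0 ?_
      rw [← h12]
      exact Nat.card_congr (Equiv.subtypeEquivRight (fun g => mem_stab.symm))

/-- there is no nontrivial `Y`-invariant homomorphism from `Q` to a central (in `Q`) normal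
subgroup of exponent two. -/
theorem no_inv_hom (Q : Subgroup Y) [hQn : Q.Normal] (hD : GH5Data Q) (W2 : Subgroup Y) [W2.Normal]
    (hW2Q : W2 ≤ Q) (hc : ∀ w ∈ W2, ∀ q ∈ Q, w * q = q * w) (hexp : ∀ w ∈ W2, w * w = 1)
    (F : ↥Q →* ↥W2)
    (hF : ∀ (y : Y) (q : ↥Q) (h : y * q * y⁻¹ ∈ Q), F ⟨y * q * y⁻¹, h⟩ = F q) :
    ∀ q, F q = 1 := by
  classical
  obtain ⟨V, iA, iF, ρV, πV, hV2, hsurj, hadd, hker, hconj, h16, hinj, htype⟩ := exists_V Q hD
  obtain ⟨Wt, iAW, iFW, ρW, πW, hW2', hbij, haddW, hconjW, hcardW⟩ :=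
    Cfsg.Agent.Lib.Helper1.GH5U7.exists_central_module Q W2 hc hW2Q hexp
  have hπ1 : πV 1 = 0 := by
    have h := hadd 1 1
    rw [mul_one] at h
    have h2 : πV 1 + 0 = πV 1 + πV 1 := by rw [add_zero]; exact h
    exact (add_left_cancel h2).symm
  have hπinv : ∀ a : ↥Q, πV a⁻¹ = πV a := by
    intro a
    have h := hadd a⁻¹ a
    rw [inv_mul_cancel, hπ1] at h
    have h2 : πV a⁻¹ + πV a = πV a + πV a := by rw [← h, hV2]
    exact add_right_cancel h2
  have hπW1 : πW 1 = 0 := by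
    have h := haddW 1 1
    rw [mul_one] at h
    have h2 : πW 1 + 0 = πW 1 + πW 1 := by rw [add_zero]; exact h
    exact (add_left_cancel h2).symm
  -- F kills sqSub Q
  have hFsq : ∀ (x : Y) (hx : x ∈ Q), x ∈ sqSub Q → F ⟨x, hx⟩ = 1 := by
    have hle : sqSub Q ≤ (F.ker).map Q.subtype := by
      unfold sqSub
      rw [Subgroup.closure_le]
      rintro y ⟨b, hb, rfl⟩
      refine ⟨⟨b, hb⟩ ^ 2, ?_, rfl⟩
      show F (⟨b, hb⟩ ^ 2) = 1
      rw [map_pow, pow_two]
      apply Subtype.ext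
      exact hexp _ (F ⟨b, hb⟩).2
    intro x hx hxs
    obtain ⟨q, hq, hqx⟩ := hle hxs
    have : q = ⟨x, hx⟩ := Subtype.ext hqx
    rw [← this]
    exact hq
  -- F is constant on the fibres of πV
  have hFfib : ∀ a b : ↥Q, πV a = πV b → F a = F b := by
    intro a b hab
    have h1 : πV (a * b⁻¹) = 0 := by rw [hadd, hπinv, hab, hV2]
    have h2 := (hker _).mp h1
    have h3 := hFsq _ (a * b⁻¹).2 h2
    have h4 : F (a * b⁻¹) = 1 := h3
    rw [map_mul, map_inv, mul_inv_eq_one] at h4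
    exact h4
  let Fb : V → Wt := fun v => πW (F (Function.surjInv hsurj v))
  have hFb : ∀ q : ↥Q, Fb (πV q) = πW (F q) := by
    intro q
    show πW (F (Function.surjInv hsurj (πV q))) = πW (F q)
    rw [hFfib _ q (Function.surjInv_eq hsurj (πV q))]
  have hFbadd : ∀ u v : V, Fb (u + v) = Fb u + Fb v := by
    intro u v
    obtain ⟨a, rfl⟩ := hsurj u
    obtain ⟨b, rfl⟩ := hsurj v
    rw [← hadd, hFb, hFb, hFb, map_mul, haddW]
  have hFbeq : ∀ (g : Y ⧸ Q) (v : V), Fb (ρV g v) = Fb v := by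
    intro g v
    obtain ⟨y, rfl⟩ := QuotientGroup.mk_surjective g
    obtain ⟨q, rfl⟩ := hsurj v
    have hmem : y * q * y⁻¹ ∈ Q := hQn.conj_mem q q.2 y
    rw [hconj y q hmem, hFb, hFb, hF y q hmem]
  have hSC : SC ρV (1 : (Y ⧸ Q) →* AddMonoid.End Wt) Fb (fun _ _ => 0) :=
    { V2 := hV2
      W2 := hW2'
      c_add_left := by intro _ _ _; simp
      c_add_right := by intro _ _ _; simp
      c_self := by intro _; rfl
      s_add := by intro u v; rw [hFbadd, add_zero]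
      s_equiv := by
        intro g v
        rw [hFbeq]
        rfl
      c_equiv := by
        intro g u v
        show (0 : Wt) = (1 : AddMonoid.End Wt) 0
        simp }
  have htriv : ∀ (g : Y ⧸ Q) (w : Wt), (1 : (Y ⧸ Q) →* AddMonoid.End Wt) g w = w :=
    fun _ _ => rfl
  have hzero : ∀ v : V, Fb v = 0 := by
    rcases htype with hN | ⟨⟨d⟩⟩
    · exact (Cfsg.Agent.Lib.Helper8.GH5Cases.case_N_triv hSC (by rw [h16]; norm_num) hN htriv).1
    · rcases Cfsg.Agent.Lib.Helper8.GH5OT.case_O_triv_data hSC htriv d with h0 | ⟨a, ha, _, hca, _⟩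
      · exact h0.1
      · exfalso
        apply ha
        have := hca 0 1 (by decide)
        exact this.symm
  intro q
  have h1 : πW (F q) = πW 1 := by rw [← hFb, hzero, hπW1]
  exact hbij.1 h1

end Cfsg.Agent.Lib.Helper1.GH5G2
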