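import Mathlib
import Cfsg.Agent.Lib.Helper2.GH5Core
import Cfsg.Agent.Lib.Helper7.GH5G2
import Cfsg.Agent.Lib.Helper7.GH5CardV
import Cfsg.Agent.Lib.Helper9.GH5G2f
import Cfsg.Agent.Lib.Helper1.GH5U7
import Cfsg.Agent.Lib.Helper1.GH5G2d
import Cfsg.Agent.Lib.Helper1.GH5G2m

set_option autoImplicit false

/-! GH5 (S3106): the second layer, assembly. `second_layer : SecondLayerStmt` (the statement of
`Stubs.G2_second_layer`): pieces G2a, G2c (helper7), G2d (helper1), G2f (helper9). -/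

namespace Cfsg.Agent.Lib.Helper1.GH5G2

open Cfsg.Agent.Lib.Helper3.A8Emb (sqSub sqSub_le)
open Cfsg.Agent.Lib.Helper2.GH5 (GH5Data SecondLayerStmt sq_mem_sqSub)

universe u

theorem second_layer : SecondLayerStmt.{u} := by
  intro G _ _ Q _ hD W2 _ hW2le hW2ne hmin hcard hnab
  obtain ⟨e⟩ := hD.iso
  have hW2Q : W2 ≤ Q := hW2le.trans (sqSub_le Q)
  have : Fact (Nat.Prime 2) := ⟨Nat.prime_two⟩
  obtain ⟨hc2, hexp2'⟩ := Cfsg.Agent.Lib.Helper1.GH5U7.minimal_normal_central (p := 2) Q W2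
    hD.pgroup hW2Q hW2ne hmin
  have hexp2 : ∀ w ∈ W2, w * w = 1 := fun w hw => by rw [← pow_two]; exact hexp2' w hw
  have hab2 : ∀ a ∈ W2, ∀ b ∈ W2, a * b = b * a := fun a ha b hb => hc2 a ha b (hW2Q hb)
  have hle16 := card_le_sixteen hD.rank W2 hab2 hexp2
  rcases central_or_sixteen Q W2 e hc2 hW2Q hexp2 hle16 with hcen | h16
  · -- |W2| = 2
    have h2 : Nat.card ↥W2 = 2 := card_two_of_central_minimal W2 hW2ne hmin hcen hexp2
    have h4 : Nat.card ↥(sqSub Q) = 4 := by rw [hcard, h2]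
    have hΦc : ∀ f ∈ sqSub Q, ∀ q ∈ Q, f * q = q * f :=
      Cfsg.Agent.Lib.Helper1.GH5G2d.G2d Q (sqSub Q) W2 hW2le hcen hcard
        (fun F hF => no_inv_hom Q hD W2 hW2Q hc2 hexp2 F hF)
    by_cases hex : ∃ f ∈ sqSub Q, f * f ≠ 1
    · obtain ⟨f, hf, hff⟩ := hex
      obtain ⟨a, ha, b, hb, hab⟩ := hnab
      exact hab (Cfsg.Agent.Lib.Helper7.GH5G2.G2c Q (sqSub Q) W2 (sqSub_le Q) hΦc
        (fun q hq => sq_mem_sqSub Q hq) h4 hW2le h2 f hf hff a ha b hb)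
    · push Not at hex
      rcases central_or_sixteen Q (sqSub Q) e hΦc (sqSub_le Q) hex (by rw [h4]; norm_num)
        with hcenΦ | h16Φ
      · have h := Cfsg.Agent.Lib.Helper9.GH5G2f.card_sqSub_le_two Q e hex
          (fun f hf y => by rw [← hcenΦ f hf y]; group)
          (Cfsg.Agent.Lib.Helper7.GH5BRA.cardV G Q hD) hD.faithful
        omega
      · omega
  · -- |W2| = 16
    have h32 : Nat.card ↥(sqSub Q) = 32 := by rw [hcard, h16]
    exact Cfsg.Agent.Lib.Helper7.GH5G2.G2a hD.rank (sqSub Q) W2 hW2le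
      (fun w hw f hf => hc2 w hw f (sqSub_le Q hf)) hexp2 h16 h32 hmin

end Cfsg.Agent.Lib.Helper1.GH5G2
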