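import Mathlib
import Cfsg.Agent.Lib.Helper2.GH7Defs
import Cfsg.Agent.Lib.Helper7.GH7Irr1
import Cfsg.Agent.Lib.Helper1.Dv5

/-!
# GH7 (S3105), unit AFF (helper1, for helper7's OMEGA-SPLIT): orbit–stabiliser lemma.
If `G / Q ≅ L = SL(3, 2)` acts on 8 points with `Q` acting trivially, an element `y` over `y7` has
exactly one fixed point `x0`, and `x0` is not fixed by `G`, then the action is transitive and
point stabilisers map onto subgroups of order 21 of `L`.
-/

set_option autoImplicit false
set_option linter.unusedVariables false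
set_option linter.unusedSectionVars false
set_option linter.style.longLine false
set_option linter.style.haveILetI false
set_option maxHeartbeats 1000000

namespace Cfsg.Agent.Lib.Helper1.GH7Aff

open Cfsg.Agent.Lib.Helper2.GH7

universe u

theorem y7_pow_seven : y7 ^ 7 = 1 := by decide

theorem aff_free {G : Type u} [Group G] [Finite G] {Q : Subgroup G} [Q.Normal] (θ : G →* L)
    (hsurj : Function.Surjective θ) (hker : θ.ker = Q)
    {X : Type} [Fintype X] [DecidableEq X] [MulAction G X] (hX : Fintype.card X = 8)
    (hQ : ∀ q ∈ Q, ∀ x : X, q • x = x) (y : G) (hy : θ y = y7) (x0 : X)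
    (hx0 : ∀ x : X, y • x = x ↔ x = x0) (g0 : G) (hg0 : g0 • x0 ≠ x0) :
    ∀ (k : G) (x : X), k • x = x → (θ k) ^ 21 = 1 := by
  classical
  haveI : Fact (Nat.Prime 7) := ⟨by norm_num⟩
  have hy7 : y ^ 7 ∈ Q := by
    rw [← hker, MonoidHom.mem_ker, map_pow, hy]
    exact y7_pow_seven
  have hσ : ∀ x : X, (fun x : X => y • x)^[7] x = x := by
    intro x
    rw [smul_iterate]
    exact hQ _ hy7 x
  have hmod := Cfsg.Agent.Lib.Helper7.GH7Irr.card_filter_modEq (fun x : X => y • x) 7 hσ
    (fun x => x ∈ MulAction.orbit G x0) (fun x hx => by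
      obtain ⟨g, rfl⟩ := hx
      exact ⟨y * g, by simp [mul_smul]⟩)
  have hfix : (Finset.univ.filter (fun x : X => x ∈ MulAction.orbit G x0 ∧ y • x = x)) = {x0} := by
    ext x
    simp only [Finset.mem_filter, Finset.mem_univ, true_and, Finset.mem_singleton]
    constructor
    · rintro ⟨_, h⟩
      exact (hx0 x).mp h
    · rintro rfl
      exact ⟨MulAction.mem_orbit_self _, (hx0 _).mpr rfl⟩
  rw [hfix, Finset.card_singleton] at hmod
  have hle : (Finset.univ.filter (fun x : X => x ∈ MulAction.orbit G x0)).card ≤ 8 := by
    rw [← hX]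
    exact Finset.card_le_univ _
  have hge : 2 ≤ (Finset.univ.filter (fun x : X => x ∈ MulAction.orbit G x0)).card := by
    have hsub : ({x0, g0 • x0} : Finset X) ⊆ Finset.univ.filter (fun x : X => x ∈ MulAction.orbit G x0) := by
      intro x hx
      simp only [Finset.mem_insert, Finset.mem_singleton] at hx
      simp only [Finset.mem_filter, Finset.mem_univ, true_and]
      rcases hx with rfl | rfl
      · exact MulAction.mem_orbit_self _
      · exact MulAction.mem_orbit _ _
    have := Finset.card_le_card hsub
    rwa [Finset.card_pair (Ne.symm hg0)] at this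
  have h8 : (Finset.univ.filter (fun x : X => x ∈ MulAction.orbit G x0)).card = 8 := by
    unfold Nat.ModEq at hmod
    omega
  have hall : ∀ x : X, x ∈ MulAction.orbit G x0 := by
    have huniv : Finset.univ.filter (fun x : X => x ∈ MulAction.orbit G x0) = Finset.univ := by
      apply Finset.eq_univ_of_card
      rw [h8, hX]
    intro x
    have : x ∈ Finset.univ.filter (fun x : X => x ∈ MulAction.orbit G x0) := by
      rw [huniv]; exact Finset.mem_univ _
    simpa using this
  intro k x hkx
  have horb : MulAction.orbit G x = Set.univ := by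
    apply Set.eq_univ_of_forall
    intro z
    have hz := hall z
    have hx := hall x
    rw [← MulAction.orbit_eq_iff] at hz hx
    rw [← hz.trans hx.symm]
    exact MulAction.mem_orbit_self _
  have hidx : (MulAction.stabilizer G x).index = 8 := by
    rw [MulAction.index_stabilizer, horb, Set.ncard_univ, Nat.card_eq_fintype_card, hX]
  have hQS : Q ≤ MulAction.stabilizer G x := by
    intro q hq
    exact hQ q hq x
  have hQidx : Q.index = 168 := by
    rw [← hker, Subgroup.index_ker, MonoidHom.range_eq_top.mpr hsurj, Subgroup.card_top]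
    exact Cfsg.Agent.Lib.Helper1.Dv.card_SL32
  have hrel : Q.relIndex (MulAction.stabilizer G x) = 21 := by
    have h1 := Subgroup.relIndex_mul_index hQS
    rw [hidx, hQidx] at h1
    omega
  have hk21 : k ^ 21 ∈ Q := by
    rw [← hrel]
    exact Subgroup.pow_relIndex_mem Q (K := MulAction.stabilizer G x) hkx
  rw [← hker, MonoidHom.mem_ker, map_pow] at hk21
  exact hk21

end Cfsg.Agent.Lib.Helper1.GH7Aff
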