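import Mathlib
import Cfsg.Agent.Lib.Helper2.GH7Defs

/-!
# GH7 (S3105), S★b (helper1): explicit facts on `L = SL(3, 2)` acting on `𝔽₂³`.
-/

set_option autoImplicit false
set_option linter.style.longLine false

namespace Cfsg.Agent.Lib.Helper1.GH7Sb

open Cfsg.Agent.Lib.Helper2.GH7

/-- the first basis vector -/
def e1 : Fin 3 → ZMod 2 := ![1, 0, 0]

/-- `t - 1` has image in `⟨e1⟩` -/
def Tv (t : L) : Prop :=
  ∀ v : Fin 3 → ZMod 2, Matrix.mulVec (t : Matrix (Fin 3) (Fin 3) (ZMod 2)) v + v = 0 ∨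
    Matrix.mulVec (t : Matrix (Fin 3) (Fin 3) (ZMod 2)) v + v = e1

instance (t : L) : Decidable (Tv t) := by unfold Tv; infer_instance

/-- every element of order 4 of `L` is conjugate to `u4` -/
theorem conj_u4 : ∀ u : L, u ^ 4 = 1 → u ^ 2 ≠ 1 → ∃ h : L, h * u * h⁻¹ = u4 := by decide +kernel

/-- every involution of `L` is conjugate to `z13` -/
theorem conj_z13 : ∀ t : L, t * t = 1 → t ≠ 1 → ∃ h : L, h * t * h⁻¹ = z13 := by decide +kernel

/-- the fixed vectors of `u4` -/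
theorem fix_u4 : ∀ v : Fin 3 → ZMod 2,
    Matrix.mulVec (u4 : Matrix (Fin 3) (Fin 3) (ZMod 2)) v = v → v = 0 ∨ v = e1 := by decide

/-- the second and third transvections with centre `e1` -/
def t2 : L := x3 * z13 * x3⁻¹
def t3 : L := x3 * t2 * x3⁻¹

theorem t3_eq : t3 = z13 * t2 := by decide
theorem t3_eq' : t3⁻¹ * (z13 * t2) = 1 := by decide
theorem Tv_z13 : Tv z13 := by decide
theorem Tv_t2 : Tv t2 := by decide
theorem Tv_t3 : Tv t3 := by decide
theorem Tv_t2_inv : Tv t2⁻¹ := by decide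
theorem Tv_t3_inv : Tv t3⁻¹ := by decide
theorem x3_e1 : Matrix.mulVec (x3 : Matrix (Fin 3) (Fin 3) (ZMod 2)) e1 = e1 := by decide
theorem z13_e1 : Matrix.mulVec (z13 : Matrix (Fin 3) (Fin 3) (ZMod 2)) e1 = e1 := by decide
theorem t2_e1 : Matrix.mulVec (t2 : Matrix (Fin 3) (Fin 3) (ZMod 2)) e1 = e1 := by decide
theorem t2_inv_e1 : Matrix.mulVec (t2⁻¹ : L).1 e1 = e1 := by decide
theorem t3_inv_e1 : Matrix.mulVec (t3⁻¹ : L).1 e1 = e1 := by decide
theorem e1_ne : e1 ≠ 0 := by decide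
theorem e1_add : e1 + e1 = 0 := by decide
theorem mulVec_zero' (t : L) : Matrix.mulVec (t : Matrix (Fin 3) (Fin 3) (ZMod 2)) 0 = 0 :=
  Matrix.mulVec_zero _
theorem z13_ne_one : z13 ≠ 1 := by decide
theorem t2_ne_one : t2 ≠ 1 := by decide
theorem t2_ne_z13 : t2 ≠ z13 := by decide
theorem z13t2_ne_one : z13 * t2 ≠ 1 := by decide
theorem u4_sq' : u4 * u4 = z13 := by decide
theorem z13_sq' : z13 * z13 = 1 := by decide

end Cfsg.Agent.Lib.Helper1.GH7Sb
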