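import Mathlib
import Cfsg.Agent.Lib.Helper2.GH7HC2
import Cfsg.Agent.Lib.Helper1.GH7Sb2

/-!
# GH7 (S3105), unit F4 (helper1): when `ker θ = A = Z4^3`, every involution of `L` lifts to an involution of `G`
(of-pattern: F3 as a hypothesis).
-/

set_option autoImplicit false
set_option linter.unusedVariables false
set_option linter.unusedSectionVars false
set_option linter.style.longLine false
set_option maxHeartbeats 1000000

namespace Cfsg.Agent.Lib.Helper1.GH7F4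

open Cfsg.Agent.Lib.Helper2.GH7
open Cfsg.Agent.Lib.Helper1.GH7Sb

universe u

variable {G : Type u} [Group G] [Finite G] {θ : G →* L}

def e3 : Fin 3 → ZMod 2 := ![0, 0, 1]

theorem z13_e3 : e3 + Matrix.mulVec (z13 : Matrix (Fin 3) (Fin 3) (ZMod 2)) e3 = e1 := by decide

theorem orderOf_u4 : orderOf u4 = 4 := by
  have h1 : ¬ u4 ^ 2 ^ 1 = 1 := by decide
  have h2 : u4 ^ 2 ^ (1 + 1) = 1 := by decide
  have := orderOf_eq_prime_pow (p := 2) h1 h2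
  simpa using this

/-- in an abelian subgroup, `k^2 = a (k a k⁻¹)` makes `a⁻¹ k` an involution -/
theorem sq_eq_one_of_norm {A : Subgroup G} (hcomm : ∀ a ∈ A, ∀ b ∈ A, a * b = b * a) [hA : A.Normal]
    {a k : G} (ha : a ∈ A) (hk : k * k = a * (k * a * k⁻¹)) : (a⁻¹ * k) * (a⁻¹ * k) = 1 := by
  have hc : k * a * k⁻¹ ∈ A := hA.conj_mem a ha k
  have h1 := hcomm a ha _ hc
  calc a⁻¹ * k * (a⁻¹ * k) = a⁻¹ * (k * a * k⁻¹)⁻¹ * (k * k) := by group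
    _ = a⁻¹ * (k * a * k⁻¹)⁻¹ * (a * (k * a * k⁻¹)) := by rw [hk]
    _ = a⁻¹ * (k * a * k⁻¹)⁻¹ * ((k * a * k⁻¹) * a) := by rw [h1]
    _ = 1 := by group

/-- **F4** (of-pattern: `hF3` is the statement of `homocyclic_F3`). -/
theorem homocyclic_F4_of {A W : Subgroup G} (h : HC θ A W) (hker : θ.ker = A)
    (hF3 : ∀ x : G, orderOf (θ x) = 4 → ∀ a ∈ A,
      x * (a * (x ^ 2 * a * (x ^ 2)⁻¹)) * x⁻¹ = a * (x ^ 2 * a * (x ^ 2)⁻¹))
    (t : L) (ht : t * t = 1) : ∃ k : G, θ k = t ∧ k * k = 1 := by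
  classical
  by_cases ht1 : t = 1
  · exact ⟨1, by rw [map_one, ht1], one_mul 1⟩
  have hAn := h.nA
  obtain ⟨α, π, hπs, hπm, hπk, hπc⟩ := h.coords
  have hsurj' : ∀ l : L, ∃ g : G, α (θ g) = l := by
    intro l
    obtain ⟨g, hg⟩ := h.surj (α.symm l)
    exact ⟨g, by rw [hg, MulEquiv.apply_symm_apply]⟩
  have hkerA : ∀ g : G, α (θ g) = 1 ↔ g ∈ A := by
    intro g
    rw [← hker, MonoidHom.mem_ker]
    constructor
    · intro h1; exact α.injective (by rw [h1, map_one])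
    · intro h1; rw [h1, map_one]
  -- reduce to z13
  have ht' : α t * α t = 1 := by rw [← map_mul, ht, map_one]
  have ht1' : α t ≠ 1 := fun h1 => ht1 (α.injective (by rw [h1, map_one]))
  obtain ⟨hc, hhc⟩ := conj_z13 (α t) ht' ht1'
  suffices hmain : ∃ k0 : G, α (θ k0) = z13 ∧ k0 * k0 = 1 by
    obtain ⟨k0, hk0, hk00⟩ := hmain
    obtain ⟨gt, hgt⟩ := hsurj' hc
    refine ⟨gt⁻¹ * k0 * gt, ?_, ?_⟩
    · apply α.injective
      simp only [map_mul, map_inv]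
      rw [hgt, hk0, ← hhc]
      group
    · calc gt⁻¹ * k0 * gt * (gt⁻¹ * k0 * gt) = gt⁻¹ * (k0 * k0) * gt := by group
        _ = 1 := by rw [hk00]; group
  -- a lift of u4
  obtain ⟨x, hx⟩ := hsurj' u4
  have hxord : orderOf (θ x) = 4 := by
    rw [← MulEquiv.orderOf_eq α, hx]; exact orderOf_u4
  have hk1 : α (θ (x ^ 2)) = z13 := by
    rw [map_pow, map_pow, hx, pow_two]; exact u4_sq'
  have hx4A : x ^ 4 ∈ A := by
    rw [← hkerA, map_pow, map_pow, hx]; decide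
  have hx4fix : x * x ^ 4 * x⁻¹ = x ^ 4 := by group
  -- the element b1
  obtain ⟨a1, ha1⟩ := hπs e3
  obtain ⟨b1, hb1def⟩ : ∃ b1 : G, b1 = (a1 : G) * (x ^ 2 * (a1 : G) * (x ^ 2)⁻¹) := ⟨_, rfl⟩
  have hca1 : x ^ 2 * (a1 : G) * (x ^ 2)⁻¹ ∈ A := hAn.conj_mem a1 a1.2 _
  have hb1A : b1 ∈ A := by rw [hb1def]; exact A.mul_mem a1.2 hca1
  have hπb1 : π ⟨b1, hb1A⟩ = e1 := by
    have : (⟨b1, hb1A⟩ : ↥A) = a1 * ⟨x ^ 2 * (a1 : G) * (x ^ 2)⁻¹, hca1⟩ := by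
      apply Subtype.ext; exact hb1def
    rw [this, hπm, hπc (x ^ 2) a1 hca1, hk1, ha1]
    exact z13_e3
  have hb1fix : x * b1 * x⁻¹ = b1 := by
    rw [hb1def]; exact hF3 x hxord a1 a1.2
  -- π of fixed elements
  have hπfix : ∀ b (hb : b ∈ A), x * b * x⁻¹ = b → π ⟨b, hb⟩ = 0 ∨ π ⟨b, hb⟩ = e1 := by
    intro b hb hfix
    apply fix_u4
    have hcb : x * b * x⁻¹ ∈ A := hAn.conj_mem b hb x
    have := hπc x ⟨b, hb⟩ hcb
    rw [hx] at this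
    rw [← this]
    congr 1
    apply Subtype.ext
    exact hfix
  -- elements of A with the same π differ by W
  have hπeq : ∀ a b : ↥A, π a = π b → (a : G) * (b : G)⁻¹ ∈ W := by
    intro a b hab
    have : π (a * b⁻¹) = 0 := by
      have h2 : π (a * b⁻¹) + π b = π a := by rw [← hπm, inv_mul_cancel_right]
      have h3 : π (a * b⁻¹) + π b = 0 + π b := by rw [h2, hab, zero_add]
      exact add_right_cancel h3
    exact (hπk _).mp this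
  -- fixed points in W
  have hWfix : ∀ w ∈ W, x * w * x⁻¹ = w → w = 1 ∨ w = b1 * b1 := by
    intro w hw hfix
    obtain ⟨a, ha, haw⟩ := h.exists_sqrt w hw
    have hca : x * a * x⁻¹ ∈ A := hAn.conj_mem a ha x
    have hsq' : (x * a * x⁻¹) * (x * a * x⁻¹) = a * a := by
      calc (x * a * x⁻¹) * (x * a * x⁻¹) = x * (a * a) * x⁻¹ := by group
        _ = a * a := by rw [haw, hfix]
    have hcomm1 := h.comm _ hca a⁻¹ (A.inv_mem ha)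
    have hW1 : (x * a * x⁻¹) * a⁻¹ ∈ W := by
      apply h.omega _ (A.mul_mem hca (A.inv_mem ha))
      calc (x * a * x⁻¹) * a⁻¹ * ((x * a * x⁻¹) * a⁻¹)
          = (x * a * x⁻¹) * (a⁻¹ * (x * a * x⁻¹)) * a⁻¹ := by group
        _ = (x * a * x⁻¹) * ((x * a * x⁻¹) * a⁻¹) * a⁻¹ := by rw [hcomm1]
        _ = ((x * a * x⁻¹) * (x * a * x⁻¹)) * (a * a)⁻¹ := by group
        _ = 1 := by rw [hsq', mul_inv_cancel]
    have hπa : Matrix.mulVec (u4 : Matrix (Fin 3) (Fin 3) (ZMod 2)) (π ⟨a, ha⟩) = π ⟨a, ha⟩ := by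
      have h1 := hπc x ⟨a, ha⟩ hca
      rw [hx] at h1
      rw [← h1]
      have h2 : π (⟨x * a * x⁻¹, hca⟩ * (⟨a, ha⟩ : ↥A)⁻¹) = 0 := (hπk _).mpr hW1
      have h3 : π (⟨x * a * x⁻¹, hca⟩ * (⟨a, ha⟩ : ↥A)⁻¹) + π ⟨a, ha⟩ = π ⟨x * a * x⁻¹, hca⟩ := by
        rw [← hπm, inv_mul_cancel_right]
      rw [← h3, h2, zero_add]
    rcases fix_u4 _ hπa with h0 | h0
    · left
      have haW : a ∈ W := (hπk ⟨a, ha⟩).mp h0
      rw [← haw]; exact h.expW a haW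
    · right
      have hW2 := hπeq ⟨a, ha⟩ ⟨b1, hb1A⟩ (by rw [h0, hπb1])
      have h4 := h.expW _ hW2
      have hcomm2 := h.comm a ha b1⁻¹ (A.inv_mem hb1A)
      have h5 : (a * b1⁻¹) * (a * b1⁻¹) = (a * a) * (b1 * b1)⁻¹ := by
        calc (a * b1⁻¹) * (a * b1⁻¹) = a * (b1⁻¹ * a) * b1⁻¹ := by group
          _ = a * (a * b1⁻¹) * b1⁻¹ := by rw [hcomm2]
          _ = (a * a) * (b1 * b1)⁻¹ := by group
      have h4' : (a : G) * b1⁻¹ * ((a : G) * b1⁻¹) = 1 := h4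
      rw [h5, haw] at h4'
      exact mul_inv_eq_one.mp h4'
  -- fixed points in A
  have hAfix : ∀ b ∈ A, x * b * x⁻¹ = b → b = 1 ∨ b = b1 ∨ b = b1 * b1 ∨ b = b1 * b1 * b1 := by
    intro b hb hfix
    rcases hπfix b hb hfix with h0 | h0
    · have hbW : b ∈ W := (hπk ⟨b, hb⟩).mp h0
      rcases hWfix b hbW hfix with h1 | h1
      · exact Or.inl h1
      · exact Or.inr (Or.inr (Or.inl h1))
    · have hW2 : b * b1⁻¹ ∈ W := hπeq ⟨b, hb⟩ ⟨b1, hb1A⟩ (by rw [h0, hπb1])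
      have hfix2 : x * (b * b1⁻¹) * x⁻¹ = b * b1⁻¹ := by
        calc x * (b * b1⁻¹) * x⁻¹ = (x * b * x⁻¹) * (x * b1 * x⁻¹)⁻¹ := by group
          _ = b * b1⁻¹ := by rw [hfix, hb1fix]
      rcases hWfix _ hW2 hfix2 with h1 | h1
      · right; left
        exact mul_inv_eq_one.mp h1
      · right; right; right
        calc b = (b * b1⁻¹) * b1 := by group
          _ = b1 * b1 * b1 := by rw [h1]
  -- the norm identities
  have hk1k1 : x ^ 2 * x ^ 2 = x ^ 4 := by group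
  have hcomm_a1 : (a1 : G) * (x ^ 2 * (a1 : G) * (x ^ 2)⁻¹) = (x ^ 2 * (a1 : G) * (x ^ 2)⁻¹) * (a1 : G) :=
    h.comm a1 a1.2 _ hca1
  have key : ∃ a0 ∈ A, x ^ 2 * x ^ 2 = a0 * (x ^ 2 * a0 * (x ^ 2)⁻¹) := by
    rw [hk1k1]
    rcases hAfix _ hx4A hx4fix with h1 | h1 | h1 | h1
    · exact ⟨1, A.one_mem, by rw [h1]; group⟩
    · exact ⟨a1, a1.2, by rw [h1, hb1def]⟩
    · refine ⟨a1 * a1, A.mul_mem a1.2 a1.2, ?_⟩
      rw [h1, hb1def]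
      calc (a1 : G) * (x ^ 2 * a1 * (x ^ 2)⁻¹) * ((a1 : G) * (x ^ 2 * a1 * (x ^ 2)⁻¹))
          = (a1 : G) * ((x ^ 2 * a1 * (x ^ 2)⁻¹) * (a1 : G)) * (x ^ 2 * a1 * (x ^ 2)⁻¹) := by group
        _ = (a1 : G) * ((a1 : G) * (x ^ 2 * a1 * (x ^ 2)⁻¹)) * (x ^ 2 * a1 * (x ^ 2)⁻¹) := by
            rw [hcomm_a1]
        _ = (a1 : G) * a1 * (x ^ 2 * ((a1 : G) * a1) * (x ^ 2)⁻¹) := by group
    · refine ⟨a1 * a1 * a1, A.mul_mem (A.mul_mem a1.2 a1.2) a1.2, ?_⟩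
      rw [h1, hb1def]
      calc (a1 : G) * (x ^ 2 * a1 * (x ^ 2)⁻¹) * ((a1 : G) * (x ^ 2 * a1 * (x ^ 2)⁻¹)) *
            ((a1 : G) * (x ^ 2 * a1 * (x ^ 2)⁻¹))
          = (a1 : G) * ((x ^ 2 * a1 * (x ^ 2)⁻¹) * (a1 : G)) * ((x ^ 2 * a1 * (x ^ 2)⁻¹) * (a1 : G)) *
              (x ^ 2 * a1 * (x ^ 2)⁻¹) := by group
        _ = (a1 : G) * ((a1 : G) * (x ^ 2 * a1 * (x ^ 2)⁻¹)) * ((a1 : G) * (x ^ 2 * a1 * (x ^ 2)⁻¹)) *
              (x ^ 2 * a1 * (x ^ 2)⁻¹) := by rw [hcomm_a1]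
        _ = (a1 : G) * (a1 : G) * ((x ^ 2 * a1 * (x ^ 2)⁻¹) * (a1 : G)) * (x ^ 2 * a1 * (x ^ 2)⁻¹) *
              (x ^ 2 * a1 * (x ^ 2)⁻¹) := by group
        _ = (a1 : G) * (a1 : G) * ((a1 : G) * (x ^ 2 * a1 * (x ^ 2)⁻¹)) * (x ^ 2 * a1 * (x ^ 2)⁻¹) *
              (x ^ 2 * a1 * (x ^ 2)⁻¹) := by rw [hcomm_a1]
        _ = (a1 : G) * a1 * a1 * (x ^ 2 * ((a1 : G) * a1 * a1) * (x ^ 2)⁻¹) := by group
  obtain ⟨a0, ha0, hnorm⟩ := key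
  refine ⟨a0⁻¹ * x ^ 2, ?_, sq_eq_one_of_norm h.comm ha0 hnorm⟩
  simp only [map_mul, map_inv]
  rw [(hkerA a0).mpr ha0, inv_one, one_mul]
  exact hk1

end Cfsg.Agent.Lib.Helper1.GH7F4
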