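import Mathlib
import Cfsg.Agent.Lib.Helper1.GH7F4
import Cfsg.Agent.Lib.Helper2.GH7F3

/-!
# GH7 (S3105), unit F4 (helper1): verbatim wrapper.
-/

set_option autoImplicit false
set_option linter.unusedVariables false
set_option linter.unusedSectionVars false
set_option linter.style.longLine false

namespace Cfsg.Agent.Lib.Helper1.GH7F4

open Cfsg.Agent.Lib.Helper2.GH7

universe u

variable {G : Type u} [Group G] [Finite G] {θ : G →* L}

/-- **F4**: when `ker θ = A`, every involution of `L` lifts to an involution of `G`. -/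
theorem homocyclic_F4 {A W : Subgroup G} (h : HC θ A W) (hker : θ.ker = A) (t : L) (ht : t * t = 1) :
    ∃ k : G, θ k = t ∧ k * k = 1 :=
  homocyclic_F4_of h hker
    (fun x hx a ha => Cfsg.Agent.Lib.Helper2.GH7.homocyclic_F3 h x hx a ha) t ht

end Cfsg.Agent.Lib.Helper1.GH7F4
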