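import Mathlib
import Cfsg.Agent.Lib.Helper2.GH7Defs

/-!
# GH7 (S3105), tools for the S★ units (helper1): `Q` abelian of order 32 with `Φ(Q) = sqSub Q` of order 2
(`Q = Z4 × E8`): `Ω₁(Q)` as a subgroup, its order, the central involution `w0`.
-/

set_option autoImplicit false
set_option linter.unusedVariables false
set_option linter.unusedSectionVars false
set_option linter.style.longLine false

namespace Cfsg.Agent.Lib.Helper1.GH7Sb

open Cfsg.Agent.Lib.Helper3.A8Emb (sqSub)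
open Cfsg.Agent.Lib.Helper2.GH7

universe u

variable {G : Type u} [Group G] {Q : Subgroup G}

/-- `Ω₁(Q)` for an abelian subgroup `Q` -/
def omega1 (Q : Subgroup G) (hcomm : ∀ a ∈ Q, ∀ b ∈ Q, a * b = b * a) : Subgroup G where
  carrier := {q | q ∈ Q ∧ q * q = 1}
  one_mem' := ⟨Q.one_mem, by simp⟩
  mul_mem' := by
    rintro a b ⟨ha, ha2⟩ ⟨hb, hb2⟩
    refine ⟨Q.mul_mem ha hb, ?_⟩
    calc a * b * (a * b) = a * (b * a) * b := by group
      _ = a * (a * b) * b := by rw [hcomm b hb a ha]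
      _ = (a * a) * (b * b) := by group
      _ = 1 := by rw [ha2, hb2, one_mul]
  inv_mem' := by
    rintro a ⟨ha, ha2⟩
    refine ⟨Q.inv_mem ha, ?_⟩
    calc a⁻¹ * a⁻¹ = (a * a)⁻¹ := by group
      _ = 1 := by rw [ha2, inv_one]

theorem mem_omega1 {hcomm : ∀ a ∈ Q, ∀ b ∈ Q, a * b = b * a} {q : G} :
    q ∈ omega1 Q hcomm ↔ q ∈ Q ∧ q * q = 1 := Iff.rfl

theorem omega1_le (hcomm : ∀ a ∈ Q, ∀ b ∈ Q, a * b = b * a) : omega1 Q hcomm ≤ Q :=
  fun _ h => h.1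

instance omega1_normal [hQ : Q.Normal] (hcomm : ∀ a ∈ Q, ∀ b ∈ Q, a * b = b * a) :
    (omega1 Q hcomm).Normal where
  conj_mem := by
    rintro q ⟨hq, hq2⟩ g
    refine ⟨hQ.conj_mem q hq g, ?_⟩
    calc g * q * g⁻¹ * (g * q * g⁻¹) = g * (q * q) * g⁻¹ := by group
      _ = 1 := by rw [hq2]; group

theorem sq_mem_sqSub {q : G} (hq : q ∈ Q) : q * q ∈ sqSub Q := by
  unfold sqSub
  apply Subgroup.subset_closure
  exact ⟨q, hq, (pow_two q).symm⟩

section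
variable [Finite G]

/-- the elements of `sqSub Q` when it has order 2 -/
theorem mem_sqSub_cases (hΦ : Nat.card (sqSub Q) = 2) {w0 : G} (hw0 : w0 ∈ sqSub Q) (hne : w0 ≠ 1)
    {w : G} (hw : w ∈ sqSub Q) : w = 1 ∨ w = w0 := by
  have hz : Subgroup.zpowers w0 ≤ sqSub Q := Subgroup.zpowers_le.mpr hw0
  have hord : orderOf w0 = 2 := by
    have h1 : orderOf w0 ∣ 2 := by
      rw [← hΦ]
      have := orderOf_dvd_natCard (⟨w0, hw0⟩ : sqSub Q)
      rwa [Subgroup.orderOf_mk] at this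
    rcases (Nat.dvd_prime Nat.prime_two).mp h1 with h | h
    · exact absurd (orderOf_eq_one_iff.mp h) hne
    · exact h
  have hcardz : Nat.card (Subgroup.zpowers w0) = 2 := by rw [Nat.card_zpowers, hord]
  have heq : Subgroup.zpowers w0 = sqSub Q :=
    Subgroup.eq_of_le_of_card_ge hz (by rw [hΦ, hcardz])
  rw [← heq] at hw
  obtain ⟨k, rfl⟩ := Subgroup.mem_zpowers_iff.mp hw
  have h2 : w0 ^ (2 : ℤ) = 1 := by
    have := pow_orderOf_eq_one w0
    rw [hord] at this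
    exact_mod_cast this
  rcases Int.even_or_odd' k with ⟨m, rfl | rfl⟩
  · left; rw [zpow_mul, h2, one_zpow]
  · right; rw [zpow_add, zpow_mul, h2, one_zpow, one_mul, zpow_one]

theorem sqSub_sq_eq_one (hΦ : Nat.card (sqSub Q) = 2) {w : G} (hw : w ∈ sqSub Q) : w * w = 1 := by
  have := pow_card_eq_one' (G := sqSub Q) (x := ⟨w, hw⟩)
  rw [hΦ] at this
  have h2 := congrArg Subtype.val this
  simpa [pow_two] using h2

theorem sqSub_le_omega1 (hcomm : ∀ a ∈ Q, ∀ b ∈ Q, a * b = b * a) (hΦ : Nat.card (sqSub Q) = 2) :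
    sqSub Q ≤ omega1 Q hcomm :=
  fun w hw => ⟨Cfsg.Agent.Lib.Helper3.A8Emb.sqSub_le Q hw, sqSub_sq_eq_one hΦ hw⟩

/-- squares in `Q` -/
theorem sq_cases (hΦ : Nat.card (sqSub Q) = 2) {c : G} (hcQ : c ∈ Q) (hc : c * c ≠ 1) {q : G}
    (hq : q ∈ Q) : q * q = 1 ∨ q * q = c * c :=
  mem_sqSub_cases hΦ (sq_mem_sqSub hcQ) hc (sq_mem_sqSub hq)

theorem w0_sq (hΦ : Nat.card (sqSub Q) = 2) {c : G} (hcQ : c ∈ Q) : (c * c) * (c * c) = 1 :=
  sqSub_sq_eq_one hΦ (sq_mem_sqSub hcQ)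

/-- `Q = Ω₁ ∪ c Ω₁` -/
theorem mem_omega1_or (hcomm : ∀ a ∈ Q, ∀ b ∈ Q, a * b = b * a) (hΦ : Nat.card (sqSub Q) = 2)
    {c : G} (hcQ : c ∈ Q) (hc : c * c ≠ 1) {q : G} (hq : q ∈ Q) :
    q ∈ omega1 Q hcomm ∨ c⁻¹ * q ∈ omega1 Q hcomm := by
  rcases sq_cases hΦ hcQ hc hq with h | h
  · exact Or.inl ⟨hq, h⟩
  · right
    refine ⟨Q.mul_mem (Q.inv_mem hcQ) hq, ?_⟩
    have hcq : q * c⁻¹ = c⁻¹ * q := hcomm q hq c⁻¹ (Q.inv_mem hcQ)
    calc c⁻¹ * q * (c⁻¹ * q) = c⁻¹ * (q * c⁻¹) * q := by group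
      _ = c⁻¹ * (c⁻¹ * q) * q := by rw [hcq]
      _ = (c * c)⁻¹ * (q * q) := by group
      _ = 1 := by rw [h, inv_mul_cancel]

theorem card_omega1 (hcomm : ∀ a ∈ Q, ∀ b ∈ Q, a * b = b * a) (hcard : Nat.card Q = 32)
    (hΦ : Nat.card (sqSub Q) = 2) {c : G} (hcQ : c ∈ Q) (hc : c * c ≠ 1) :
    Nat.card (omega1 Q hcomm) = 16 := by
  have hle := omega1_le (Q := Q) hcomm
  have hrel : (omega1 Q hcomm).relIndex Q = 2 := by
    rw [Subgroup.relIndex_eq_two_iff]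
    refine ⟨c, hcQ, ?_⟩
    intro b hb
    have hbc : b * c = c * b := hcomm b hb c hcQ
    have e : b * c * (b * c) = (b * b) * (c * c) := by
      calc b * c * (b * c) = b * (c * b) * c := by group
        _ = b * (b * c) * c := by rw [hbc]
        _ = (b * b) * (c * c) := by group
    rcases sq_cases hΦ hcQ hc hb with h | h
    · right
      refine ⟨⟨hb, h⟩, ?_⟩
      rintro ⟨_, h2⟩
      rw [e, h, one_mul] at h2
      exact hc h2
    · left
      refine ⟨⟨Q.mul_mem hb hcQ, ?_⟩, ?_⟩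
      · rw [e, h]; exact w0_sq hΦ hcQ
      · rintro ⟨_, h2⟩
        rw [h] at h2; exact hc h2
  have h1 := Subgroup.relIndex_mul_index hle
  have h2 := Subgroup.card_mul_index (omega1 Q hcomm)
  have h3 := Subgroup.card_mul_index Q
  rw [hrel] at h1
  have hpos : 0 < Q.index := Nat.pos_of_ne_zero Subgroup.index_ne_zero_of_finite
  rw [← h1] at h2
  rw [hcard] at h3
  have h4 : Nat.card (omega1 Q hcomm) * 2 * Q.index = 32 * Q.index := by
    rw [h3, ← h2]; ring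
  have h5 := Nat.eq_of_mul_eq_mul_right hpos h4
  omega

end

end Cfsg.Agent.Lib.Helper1.GH7Sb
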