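import Mathlib
import Cfsg.Agent.Lib.Helper1.GH7Sb1
import Cfsg.Agent.Lib.Helper1.GH7Sb2
import Cfsg.Agent.Lib.Helper5.GH7Sec

/-!
# GH7 (S3105), unit S★b (helper1): `rank5_of_lift` — the `E32` section.
-/

set_option autoImplicit false
set_option linter.unusedVariables false
set_option linter.unusedSectionVars false
set_option linter.style.longLine false
set_option maxHeartbeats 1000000

namespace Cfsg.Agent.Lib.Helper1.GH7Sb

open Cfsg.Agent.Lib.Helper3.A8Emb (sqSub)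
open Cfsg.Agent.Lib.Helper2.GH7

universe u

variable {G : Type u} [Group G] [Finite G] {Q : Subgroup G} [Q.Normal]

/-- if `H ≤ K` has relative index 2 then `|K| = 2 |H|` -/
theorem card_of_relIndex_two {H K : Subgroup G} (hle : H ≤ K) (hrel : H.relIndex K = 2) :
    Nat.card K = 2 * Nat.card H := by
  have h1 := Subgroup.relIndex_mul_index hle
  have h2 := Subgroup.card_mul_index H
  have h3 := Subgroup.card_mul_index K
  rw [hrel] at h1
  have hpos : 0 < K.index := Nat.pos_of_ne_zero Subgroup.index_ne_zero_of_finite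
  rw [← h1] at h2
  have h4 : (2 * Nat.card H) * K.index = Nat.card K * K.index := by
    rw [h3, ← h2]; ring
  exact (Nat.eq_of_mul_eq_mul_right hpos h4).symm

/-- conjugation commutator with `a` and with `c⁻¹ a` agree when `c` is central -/
theorem comm_central_mul {c : G} (hcen : ∀ g : G, g * c = c * g) (g a : G) :
    g * a * g⁻¹ * a⁻¹ = g * (c⁻¹ * a) * g⁻¹ * (c⁻¹ * a)⁻¹ := by
  have hc1 : g * c⁻¹ = c⁻¹ * g := by
    have := hcen g
    calc g * c⁻¹ = c⁻¹ * (c * g) * c⁻¹ := by group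
      _ = c⁻¹ * (g * c) * c⁻¹ := by rw [this]
      _ = c⁻¹ * g := by group
  calc g * a * g⁻¹ * a⁻¹ = c * (c⁻¹ * g) * a * g⁻¹ * a⁻¹ := by group
    _ = c * (g * c⁻¹) * a * g⁻¹ * a⁻¹ := by rw [hc1]
    _ = c * (g * (c⁻¹ * a) * g⁻¹ * (c⁻¹ * a)⁻¹) * c⁻¹ := by group
    _ = g * (c⁻¹ * a) * g⁻¹ * (c⁻¹ * a)⁻¹ := by
      rw [← hcen (g * (c⁻¹ * a) * g⁻¹ * (c⁻¹ * a)⁻¹), mul_inv_cancel_right]

/-- **S★b**: the `E32` section. -/
theorem rank5_of_lift (θ : G →* L) (hsurj : Function.Surjective θ) (hker : θ.ker = Q)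
    (hcomm : ∀ a ∈ Q, ∀ b ∈ Q, a * b = b * a) (hcard : Nat.card Q = 32) (hΦ : Nat.card (sqSub Q) = 2)
    (hfaith : ∀ g : G, (∀ a ∈ Q, g * a * g⁻¹ * a⁻¹ ∈ sqSub Q) → g ∈ Q)
    (c : G) (hcQ : c ∈ Q) (hc : c * c ≠ 1) (hcen : ∀ g : G, g * c = c * g)
    (x : G) (hx : orderOf (θ x) = 4) (hx8 : x ^ 8 = 1) : ¬ Cfsg.SectionalPRankLE 2 4 G := by
  classical
  intro hr
  obtain ⟨α, φ, hφmul, hφsurj, hφker, hφconj⟩ :=
    exists_coords θ hsurj hker hcomm hcard hΦ hfaith c hcQ hc hcen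
  have hOn : (omega1 Q hcomm).Normal := omega1_normal hcomm
  have hOQ : omega1 Q hcomm ≤ Q := omega1_le hcomm
  have hWO : sqSub Q ≤ omega1 Q hcomm := sqSub_le_omega1 hcomm hΦ
  -- the twisted homomorphism
  let θ' : G →* L := α.toMonoidHom.comp θ
  have hθ' : ∀ g, θ' g = α (θ g) := fun g => rfl
  have hθ'surj : Function.Surjective θ' := α.surjective.comp hsurj
  have hθ'ker : ∀ g, θ' g = 1 ↔ g ∈ Q := by
    intro g
    rw [hθ', ← hker, MonoidHom.mem_ker]
    constructor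
    · intro h; exact α.injective (by rw [h, map_one])
    · intro h; rw [h, map_one]
  have hconj : ∀ g : G, ∀ o ∈ omega1 Q hcomm,
      φ (g * o * g⁻¹) = Matrix.mulVec (θ' g : Matrix (Fin 3) (Fin 3) (ZMod 2)) (φ o) := hφconj
  -- basic facts on φ
  have hφone : φ 1 = 0 := (hφker 1 (Subgroup.one_mem _)).mpr (Subgroup.one_mem _)
  have hOinv : ∀ o ∈ omega1 Q hcomm, o⁻¹ = o := fun o ho => inv_eq_of_mul_eq_one_left ho.2
  -- conjugate `x` so that it lies over `u4`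
  have hu : orderOf (θ' x) = 4 := by rw [hθ', MulEquiv.orderOf_eq]; exact hx
  have hu4 : (θ' x) ^ 4 = 1 := by rw [← hu]; exact pow_orderOf_eq_one _
  have hu2 : (θ' x) ^ 2 ≠ 1 := pow_ne_one_of_lt_orderOf (by norm_num) (by rw [hu]; norm_num)
  obtain ⟨h, hh⟩ := conj_u4 (θ' x) hu4 hu2
  obtain ⟨hl, rfl⟩ := hθ'surj h
  obtain ⟨x', hx'def⟩ : ∃ x' : G, x' = hl * x * hl⁻¹ := ⟨_, rfl⟩
  have hx'θ : θ' x' = u4 := by rw [hx'def, map_mul, map_mul, map_inv]; exact hh
  have hx'8 : x' ^ 8 = 1 := by rw [hx'def, conj_pow, hx8]; group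
  obtain ⟨k, hkdef⟩ : ∃ k : G, k = x' * x' := ⟨_, rfl⟩
  have hkθ : θ' k = z13 := by rw [hkdef, map_mul, hx'θ]; exact u4_sq'
  have hkkθ : θ' (k * k) = 1 := by rw [map_mul, hkθ]; exact z13_sq'
  have hkkQ : k * k ∈ Q := (hθ'ker _).mp hkkθ
  have hkk8 : k * k * (k * k) = 1 := by
    have : k * k * (k * k) = x' ^ 8 := by
      rw [hkdef]; simp only [pow_succ, pow_zero, one_mul, mul_assoc]
    rw [this, hx'8]
  have hkkO : k * k ∈ omega1 Q hcomm := ⟨hkkQ, hkk8⟩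
  have hkkfix : x' * (k * k) * x'⁻¹ = k * k := by rw [hkdef]; group
  have hφkk : φ (k * k) = 0 ∨ φ (k * k) = e1 := by
    apply fix_u4
    rw [← hx'θ, ← hconj x' _ hkkO, hkkfix]
  -- the subgroup M
  let M : Subgroup G :=
    { carrier := {o | o ∈ omega1 Q hcomm ∧ (φ o = 0 ∨ φ o = e1)}
      one_mem' := ⟨Subgroup.one_mem _, Or.inl hφone⟩
      mul_mem' := by
        rintro a b ⟨ha, ha'⟩ ⟨hb, hb'⟩
        refine ⟨Subgroup.mul_mem _ ha hb, ?_⟩
        rw [hφmul a ha b hb]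
        rcases ha' with h1 | h1 <;> rcases hb' with h2 | h2 <;> rw [h1, h2]
        · left; simp
        · right; simp
        · right; simp
        · left; exact e1_add
      inv_mem' := by
        rintro a ⟨ha, ha'⟩
        rw [hOinv a ha]
        exact ⟨ha, ha'⟩ }
  have hMmem : ∀ o, o ∈ M ↔ o ∈ omega1 Q hcomm ∧ (φ o = 0 ∨ φ o = e1) := fun o => Iff.rfl
  have hMO : M ≤ omega1 Q hcomm := fun o ho => ho.1
  have hWM : sqSub Q ≤ M := fun w hw => ⟨hWO hw, Or.inl ((hφker w (hWO hw)).mpr hw)⟩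
  have hcardM : Nat.card M = 4 := by
    obtain ⟨o1, ho1, hφo1⟩ := hφsurj e1
    have hrel : (sqSub Q).relIndex M = 2 := by
      rw [Subgroup.relIndex_eq_two_iff]
      refine ⟨o1, ⟨ho1, Or.inr hφo1⟩, ?_⟩
      intro b hb
      have hbo : b * o1 ∈ omega1 Q hcomm := Subgroup.mul_mem _ hb.1 ho1
      have e : φ (b * o1) = φ b + e1 := by rw [hφmul b hb.1 o1 ho1, hφo1]
      rcases hb.2 with h0 | h0
      · right
        refine ⟨(hφker b hb.1).mp h0, ?_⟩
        intro hm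
        have := (hφker _ hbo).mpr hm
        rw [e, h0, zero_add] at this
        exact e1_ne this
      · left
        refine ⟨(hφker _ hbo).mp (by rw [e, h0]; exact e1_add), ?_⟩
        intro hm
        have := (hφker b hb.1).mpr hm
        rw [h0] at this
        exact e1_ne this
    rw [card_of_relIndex_two hWM hrel, hΦ]
  -- (a) elements fixing e1 normalize M
  have hA : ∀ g : G, Matrix.mulVec (θ' g : Matrix (Fin 3) (Fin 3) (ZMod 2)) e1 = e1 →
      ∀ m ∈ M, g * m * g⁻¹ ∈ M := by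
    intro g hg m hm
    refine ⟨hOn.conj_mem m hm.1 g, ?_⟩
    rw [hconj g m hm.1]
    rcases hm.2 with h0 | h0
    · left; rw [h0]; exact Matrix.mulVec_zero _
    · right; rw [h0]; exact hg
  -- (b) transvections with centre e1 act trivially on Q / M
  have hB : ∀ g : G, Tv (θ' g) → ∀ q ∈ Q, g * q * g⁻¹ * q⁻¹ ∈ M := by
    intro g hg
    have hBO : ∀ o ∈ omega1 Q hcomm, g * o * g⁻¹ * o⁻¹ ∈ M := by
      intro o ho
      have hgo := hOn.conj_mem o ho g
      have hoi : o⁻¹ ∈ omega1 Q hcomm := Subgroup.inv_mem _ ho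
      refine ⟨Subgroup.mul_mem _ hgo hoi, ?_⟩
      rw [hφmul _ hgo _ hoi, hconj g o ho, hOinv o ho]
      exact hg (φ o)
    intro q hq
    rcases mem_omega1_or hcomm hΦ hcQ hc hq with h1 | h1
    · exact hBO q h1
    · rw [comm_central_mul hcen g q]
      exact hBO _ h1
  -- the lifts
  obtain ⟨g2, hg2⟩ := hθ'surj x3
  have hg2fix : Matrix.mulVec (θ' g2 : Matrix (Fin 3) (Fin 3) (ZMod 2)) e1 = e1 := by
    rw [hg2]; exact x3_e1
  obtain ⟨k2, hk2def⟩ : ∃ k2 : G, k2 = g2 * k * g2⁻¹ := ⟨_, rfl⟩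
  obtain ⟨k3, hk3def⟩ : ∃ k3 : G, k3 = g2 * k2 * g2⁻¹ := ⟨_, rfl⟩
  have hk2θ : θ' k2 = t2 := by
    rw [hk2def, map_mul, map_mul, map_inv, hg2, hkθ]; rfl
  have hk3θ : θ' k3 = t3 := by
    rw [hk3def, map_mul, map_mul, map_inv, hg2, hk2θ]; rfl
  have hkkM : k * k ∈ M := ⟨hkkO, hφkk⟩
  have hk2k2M : k2 * k2 ∈ M := by
    have : k2 * k2 = g2 * (k * k) * g2⁻¹ := by rw [hk2def]; group
    rw [this]; exact hA g2 hg2fix _ hkkM
  have hk3k3M : k3 * k3 ∈ M := by
    have : k3 * k3 = g2 * (k2 * k2) * g2⁻¹ := by rw [hk3def]; group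
    rw [this]; exact hA g2 hg2fix _ hk2k2M
  have hkTv : Tv (θ' k) := by rw [hkθ]; exact Tv_z13
  have hk2Tv : Tv (θ' k2) := by rw [hk2θ]; exact Tv_t2
  have hk3iTv : Tv (θ' k3⁻¹) := by rw [map_inv, hk3θ]; exact Tv_t3_inv
  have hk2iTv : Tv (θ' k2⁻¹) := by rw [map_inv, hk2θ]; exact Tv_t2_inv
  have hkfix : Matrix.mulVec (θ' k : Matrix (Fin 3) (Fin 3) (ZMod 2)) e1 = e1 := by
    rw [hkθ]; exact z13_e1
  have hk2fix : Matrix.mulVec (θ' k2 : Matrix (Fin 3) (Fin 3) (ZMod 2)) e1 = e1 := by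
    rw [hk2θ]; exact t2_e1
  have hk2ifix : Matrix.mulVec (θ' k2⁻¹ : Matrix (Fin 3) (Fin 3) (ZMod 2)) e1 = e1 := by
    rw [map_inv, hk2θ]; exact t2_inv_e1
  -- the commutator of k and k2
  have hq0 : k3⁻¹ * (k * k2) ∈ Q := by
    rw [← hθ'ker, map_mul, map_mul, map_inv, hk3θ, hkθ, hk2θ]
    exact t3_eq'
  have hkk2sq : (k * k2) * (k * k2) ∈ M := by
    obtain ⟨q0, hq0def⟩ : ∃ q0 : G, q0 = k3⁻¹ * (k * k2) := ⟨_, rfl⟩
    have hq0Q : q0 ∈ Q := by rw [hq0def]; exact hq0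
    have e : k * k2 = k3 * q0 := by rw [hq0def]; group
    have e2 : (k3 * q0) * (k3 * q0) = (k3 * k3) * (k3⁻¹ * q0 * k3⁻¹⁻¹ * q0⁻¹) * (q0 * q0) := by group
    rw [e, e2]
    exact Subgroup.mul_mem _ (Subgroup.mul_mem _ hk3k3M (hB k3⁻¹ hk3iTv q0 hq0Q))
      (hWM (sq_mem_sqSub hq0Q))
  have hcommk : k * k2 * k⁻¹ * k2⁻¹ ∈ M := by
    have e : k * k2 * k⁻¹ * k2⁻¹ =
        ((k * k2) * (k * k2)) * (k2⁻¹ * (k * k)⁻¹ * k2⁻¹⁻¹) * (k2 * k2)⁻¹ := by group
    rw [e]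
    exact Subgroup.mul_mem _ (Subgroup.mul_mem _ hkk2sq
      (hA k2⁻¹ hk2ifix _ (Subgroup.inv_mem _ hkkM))) (Subgroup.inv_mem _ hk2k2M)
  -- the generating set
  let T : Set G := (Q : Set G) ∪ {k, k2}
  have hTmem : ∀ t ∈ T, t ∈ Q ∨ t = k ∨ t = k2 := by
    intro t ht
    rcases ht with h1 | h1
    · exact Or.inl h1
    · simp only [Set.mem_insert_iff, Set.mem_singleton_iff] at h1
      exact Or.inr h1
  have hMQ : M ≤ Q := hMO.trans hOQ
  have hn : ∀ t ∈ T, ∀ m ∈ M, t * m * t⁻¹ ∈ M := by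
    intro t ht m hm
    rcases hTmem t ht with h1 | rfl | rfl
    · rw [hcomm t h1 m (hMQ hm), mul_inv_cancel_right]; exact hm
    · exact hA _ hkfix m hm
    · exact hA _ hk2fix m hm
  have hsq : ∀ t ∈ T, t * t ∈ M := by
    intro t ht
    rcases hTmem t ht with h1 | rfl | rfl
    · exact hWM (sq_mem_sqSub h1)
    · exact hkkM
    · exact hk2k2M
  have hinvcomm : ∀ a b : G, a * b * a⁻¹ * b⁻¹ ∈ M → b * a * b⁻¹ * a⁻¹ ∈ M := by
    intro a b hab
    have : b * a * b⁻¹ * a⁻¹ = (a * b * a⁻¹ * b⁻¹)⁻¹ := by group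
    rw [this]; exact Subgroup.inv_mem _ hab
  have hcm : ∀ t ∈ T, ∀ t' ∈ T, t * t' * t⁻¹ * t'⁻¹ ∈ M := by
    intro t ht t' ht'
    rcases hTmem t ht with h1 | rfl | rfl <;> rcases hTmem t' ht' with h2 | rfl | rfl
    · rw [hcomm t h1 t' h2, mul_inv_cancel_right, mul_inv_cancel]; exact Subgroup.one_mem _
    · exact hinvcomm _ _ (hB _ hkTv t h1)
    · exact hinvcomm _ _ (hB _ hk2Tv t h1)
    · exact hB _ hkTv t' h2
    · rw [mul_inv_cancel_right, mul_inv_cancel]; exact Subgroup.one_mem _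
    · exact hcommk
    · exact hB _ hk2Tv t' h2
    · exact hinvcomm _ _ hcommk
    · rw [mul_inv_cancel_right, mul_inv_cancel]; exact Subgroup.one_mem _
  have hQT : Q ≤ Subgroup.closure T := by
    intro q hq
    exact Subgroup.subset_closure (Or.inl hq)
  have hkT : k ∈ Subgroup.closure T := Subgroup.subset_closure (Or.inr (by simp))
  have hk2T : k2 ∈ Subgroup.closure T := Subgroup.subset_closure (Or.inr (by simp))
  -- counting
  have hcardT : 128 ≤ Nat.card (Subgroup.closure T) := by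
    let r : Fin 4 → G := ![1, k, k2, k * k2]
    have hrT : ∀ i, r i ∈ Subgroup.closure T := by
      intro i
      fin_cases i
      · exact Subgroup.one_mem _
      · exact hkT
      · exact hk2T
      · exact Subgroup.mul_mem _ hkT hk2T
    have hrθ : ∀ i, θ' (r i) = (![1, z13, t2, z13 * t2] : Fin 4 → L) i := by
      intro i
      fin_cases i
      · exact map_one _
      · exact hkθ
      · exact hk2θ
      · show θ' (k * k2) = z13 * t2
        rw [map_mul, hkθ, hk2θ]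
    have hinjL : Function.Injective (![1, z13, t2, z13 * t2] : Fin 4 → L) := by decide
    let f : ↥Q × Fin 4 → ↥(Subgroup.closure T) := fun p =>
      ⟨r p.2 * p.1, Subgroup.mul_mem _ (hrT p.2) (hQT p.1.2)⟩
    have hf : Function.Injective f := by
      rintro ⟨q, i⟩ ⟨q', j⟩ hqq
      have h1 : r i * (q : G) = r j * (q' : G) := congrArg Subtype.val hqq
      have h2 : θ' (r i) = θ' (r j) := by
        have := congrArg θ' h1
        rw [map_mul, map_mul, (hθ'ker _).mpr q.2, (hθ'ker _).mpr q'.2, mul_one, mul_one] at this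
        exact this
      rw [hrθ, hrθ] at h2
      have hij : i = j := hinjL h2
      subst hij
      have h3 : (q : G) = q' := mul_left_cancel h1
      have h4 : q = q' := Subtype.ext h3
      rw [h4]
    have := Nat.card_le_card_of_injective f hf
    rw [Nat.card_prod, hcard, Nat.card_eq_fintype_card, Fintype.card_fin] at this
    exact this
  exact Cfsg.Agent.Lib.Helper5.GH7.false_of_gen_section hr M T hn hsq hcm
    (fun m hm => hQT (hMQ hm)) (by rw [hcardM]; exact hcardT)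

end Cfsg.Agent.Lib.Helper1.GH7Sb
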