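import Mathlib
import Cfsg.Agent.Lib.Helper1.GH7Sb1
import Cfsg.Agent.Lib.Helper2.GH7Glue

/-!
# GH7 (S3105), tools for OMEGA-SPLIT (helper1, for helper7): coordinates on `Ω₁(Q) / Φ(Q)`
(`Q = Z4 × E8`), version WITHOUT a central element of order 4.
-/

set_option autoImplicit false
set_option linter.unusedVariables false
set_option linter.unusedSectionVars false
set_option linter.style.longLine false
set_option maxHeartbeats 1000000

namespace Cfsg.Agent.Lib.Helper1.GH7Sb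

open Cfsg.Agent.Lib.Helper3.A8Emb (sqSub)
open Cfsg.Agent.Lib.Helper2.GH7

universe u

variable {G : Type u} [Group G] [Finite G] {Q : Subgroup G} [Q.Normal]

/-- **COORDS'**: an equivariant surjection `φ : Ω₁(Q) → 𝔽₂³` with kernel `Φ(Q)`, where `g ∈ G` acts on `𝔽₂³` through
`α (θ g)` (natural module) for some automorphism `α` of `L`.  (`φ` is defined on all of `G`, and is `0` outside `Ω₁(Q)`.) -/
theorem exists_coords' (θ : G →* L) (hsurj : Function.Surjective θ) (hker : θ.ker = Q)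
    (hcomm : ∀ a ∈ Q, ∀ b ∈ Q, a * b = b * a) (hcard : Nat.card Q = 32) (hΦ : Nat.card (sqSub Q) = 2)
    (hfaith : ∀ g : G, (∀ a ∈ Q, g * a * g⁻¹ * a⁻¹ ∈ sqSub Q) → g ∈ Q) :
    ∃ (α : L ≃* L) (φ : G → (Fin 3 → ZMod 2)),
      (∀ a ∈ omega1 Q hcomm, ∀ b ∈ omega1 Q hcomm, φ (a * b) = φ a + φ b) ∧
      (∀ v : Fin 3 → ZMod 2, ∃ o ∈ omega1 Q hcomm, φ o = v) ∧
      (∀ o ∈ omega1 Q hcomm, φ o = 0 ↔ o ∈ sqSub Q) ∧
      (∀ g : G, ∀ o ∈ omega1 Q hcomm,
        φ (g * o * g⁻¹) = Matrix.mulVec (α (θ g) : Matrix (Fin 3) (Fin 3) (ZMod 2)) (φ o)) := by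
  classical
  obtain ⟨c, hcQ, hc⟩ : ∃ c ∈ Q, c * c ≠ 1 := by
    by_contra hno
    push_neg at hno
    have hbot : sqSub Q = ⊥ := by
      rw [eq_bot_iff]
      unfold sqSub
      rw [Subgroup.closure_le]
      rintro y ⟨b, hb, rfl⟩
      rw [pow_two, hno b hb]
      exact Subgroup.one_mem _
    rw [hbot] at hΦ
    simp at hΦ
  have hWO : sqSub Q ≤ omega1 Q hcomm := sqSub_le_omega1 hcomm hΦ
  have hOQ : omega1 Q hcomm ≤ Q := omega1_le hcomm
  have hOn : (omega1 Q hcomm).Normal := omega1_normal hcomm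
  obtain ⟨V, Wt, iV, iW, fV, fW, ρV, ρW, πV, πW, s, cc, hV2, hW2, hπsurj, hπmul, hπker, hπWbij, hπWmul,
    hρV, hρW, hs, hcdef, hs_add, hc_l, hc_r, hc_self, hc_symm, hs_eq, hc_eq, hcardV, hcardW⟩ :=
    Cfsg.Agent.Lib.Helper1.GH5U7.exists_layer (omega1 Q hcomm) (sqSub Q) hWO
      (fun w hw q hq => hcomm w (hOQ (hWO hw)) q (hOQ hq))
      (fun q hq => by rw [hq.2]; exact Subgroup.one_mem _)
      (fun w hw => sqSub_sq_eq_one hΦ hw)
  have hcardV8 : Nat.card V = 8 := by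
    rw [hΦ, card_omega1 hcomm hcard hΦ hcQ hc] at hcardV
    omega
  let ρ' : G →* AddMonoid.End V := ρV.comp (QuotientGroup.mk' (omega1 Q hcomm))
  have hρ' : ∀ (g : G) (o : ↥(omega1 Q hcomm)),
      ρ' g (πV o) = πV ⟨g * o * g⁻¹, hOn.conj_mem o o.2 g⟩ := by
    intro g o
    exact hρV g o (hOn.conj_mem o o.2 g)
  have hk : ∀ g : G, θ g = 1 → ρ' g = 1 := by
    intro g hg
    have hgQ : g ∈ Q := by rw [← hker]; exact hg
    ext v
    obtain ⟨o, rfl⟩ := hπsurj v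
    rw [hρ']
    show πV _ = πV o
    congr 1
    apply Subtype.ext
    show g * (o : G) * g⁻¹ = o
    rw [hcomm g hgQ o (hOQ o.2), mul_inv_cancel_right]
  have hf : ∀ g : G, ρ' g = 1 → θ g = 1 := by
    intro g hg
    have hgO : ∀ o ∈ omega1 Q hcomm, g * o * g⁻¹ * o⁻¹ ∈ sqSub Q := by
      intro o ho
      have h1 : ρ' g (πV ⟨o, ho⟩) = πV ⟨o, ho⟩ := by rw [hg]; rfl
      rw [hρ'] at h1
      have h2 : πV (⟨g * o * g⁻¹, hOn.conj_mem o ho g⟩ * (⟨o, ho⟩ : ↥(omega1 Q hcomm))⁻¹) = 0 := by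
        rw [hπmul, h1, ← hπmul, mul_inv_cancel]
        exact (hπker 1).mpr (Subgroup.one_mem _)
      exact (hπker _).mp h2
    have hgK : g ∈ centMod (omega1 Q hcomm) (sqSub Q) := hgO
    refine le_ker_of_sq θ hsurj (centMod (omega1 Q hcomm) (sqSub Q)) ?_ g hgK
    intro k hk
    have hkk : k * k ∈ Q := by
      apply hfaith
      intro a ha
      have hb : k * a * k⁻¹ * a⁻¹ ∈ omega1 Q hcomm :=
        comm_mem_of_index_two Q (omega1 Q hcomm) hOQ
          (by rw [hcard, card_omega1 hcomm hcard hΦ hcQ hc]) k a ha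
      have h1 : k * k * a * (k * k)⁻¹ * a⁻¹ =
          (k * (k * a * k⁻¹ * a⁻¹) * k⁻¹ * (k * a * k⁻¹ * a⁻¹)⁻¹) *
            ((k * a * k⁻¹ * a⁻¹) * (k * a * k⁻¹ * a⁻¹)) := by group
      rw [h1]
      exact mul_mem (hk _ hb) (sq_mem_sqSub (hOQ hb))
    have hkk' : k * k ∈ θ.ker := by rw [hker]; exact hkk
    rw [MonoidHom.mem_ker, map_mul] at hkk'
    exact hkk'
  obtain ⟨α, e, he⟩ := Cfsg.Agent.Lib.Helper8.GH7Mod.coords θ hsurj ρ' hk hV2 hcardV8 hf
  refine ⟨α, fun g => if h : g ∈ omega1 Q hcomm then e (πV ⟨g, h⟩) else 0, ?_, ?_, ?_, ?_⟩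
  · intro a ha b hb
    have hab := Subgroup.mul_mem _ ha hb
    simp only [dif_pos ha, dif_pos hb, dif_pos hab]
    rw [← map_add, ← hπmul]
    rfl
  · intro v
    obtain ⟨o, ho⟩ := hπsurj (e.symm v)
    refine ⟨o, o.2, ?_⟩
    simp only [dif_pos o.2]
    rw [show (⟨(o : G), o.2⟩ : ↥(omega1 Q hcomm)) = o from rfl, ho, AddEquiv.apply_symm_apply]
  · intro o ho
    simp only [dif_pos ho]
    rw [← hπker ⟨o, ho⟩]
    constructor
    · intro h
      have : e (πV ⟨o, ho⟩) = e 0 := by rw [h, map_zero]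
      exact e.injective this
    · intro h
      rw [h, map_zero]
  · intro g o ho
    have hgo := hOn.conj_mem o ho g
    simp only [dif_pos ho, dif_pos hgo]
    rw [← he, hρ']

end Cfsg.Agent.Lib.Helper1.GH7Sb
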