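import Mathlib
import Cfsg.Agent.Lib.Helper1.GH7Sb2
import Cfsg.Agent.Lib.Helper3.GH7Om4

/-!
# GH7 (S3105), unit S★a-nonsplit (helper1): explicit facts on `L = SL(3, 2)` for (N2)-(N4).
-/

set_option autoImplicit false
set_option linter.style.longLine false

namespace Cfsg.Agent.Lib.Helper1.GH7Sb

open Cfsg.Agent.Lib.Helper2.GH7
open Cfsg.Agent.Lib.Helper3.GH7Om (OddAt)

/-- `u4` is odd in `Stab(e1)` -/
theorem oddAt_u4 : OddAt u4 e1 := by decide

/-- the transvection `a12` (centre `e1`) is odd in `Stab(w)` for `w` on its axis outside its centre -/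
theorem oddAt_a12 : ∀ w : Fin 3 → ZMod 2,
    Matrix.mulVec (a12 : Matrix (Fin 3) (Fin 3) (ZMod 2)) w = w → w ≠ 0 → w ≠ e1 → OddAt a12 w := by
  decide

theorem u4_e1 : Matrix.mulVec (u4 : Matrix (Fin 3) (Fin 3) (ZMod 2)) e1 = e1 := by decide

/-- `w ∈ [U, u4]` or the involution `u4 * a12` (axis `[U, u4]`) moves `w` -/
theorem dich_u4 : ∀ w : Fin 3 → ZMod 2,
    (∃ w' : Fin 3 → ZMod 2, Matrix.mulVec (u4 : Matrix (Fin 3) (Fin 3) (ZMod 2)) w' + w' = w) ∨
      Matrix.mulVec ((u4 * a12 : L) : Matrix (Fin 3) (Fin 3) (ZMod 2)) w + w ≠ 0 := by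
  decide

theorem a12_ne_one : a12 ≠ 1 := by decide
theorem a12u4_sq : (a12 * u4) * (a12 * u4) = 1 := by decide
theorem a12u4_ne : a12 * u4 ≠ 1 := by decide
theorem a12_inv : a12⁻¹ = a12 := by decide
theorem a12_sq' : a12 * a12 = 1 := by decide
theorem u4_pow_four : u4 ^ 4 = 1 := by decide
theorem u4_conj_a12 : u4 * (a12 * u4 * a12⁻¹) = 1 := by decide

end Cfsg.Agent.Lib.Helper1.GH7Sb
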