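import Mathlib
import Cfsg.Agent.Lib.Helper1.GH7Sb1
import Cfsg.Agent.Lib.Helper1.GH7Sn1
import Cfsg.Agent.Lib.Helper1.GH7F4

/-!
# GH7 (S3105), unit S★a-nonsplit in of-form (helper1): `exists_lift_pow8_nonsplit_of`
(lead's (N2)-(N4) from (N1) as a hypothesis, in the shape of `Helper3.GH7Om.N3_of`).
-/

set_option autoImplicit false
set_option linter.unusedVariables false
set_option linter.unusedSectionVars false
set_option linter.style.longLine false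
set_option maxHeartbeats 1000000

namespace Cfsg.Agent.Lib.Helper1.GH7Sb

open Cfsg.Agent.Lib.Helper3.A8Emb (sqSub)
open Cfsg.Agent.Lib.Helper2.GH7
open Cfsg.Agent.Lib.Helper3.GH7Om (OddAt)

universe u

variable {G : Type u} [Group G] [Finite G] {Q : Subgroup G} [Q.Normal]

theorem add_self_vec' (v : Fin 3 → ZMod 2) : v + v = 0 := by
  funext i
  have : ∀ a : ZMod 2, a + a = 0 := by decide
  exact this _

/-- a pure group identity (relation B of (N4)) -/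
theorem relB_identity (x s : G) :
    x * (s * s) * x⁻¹ =
      (x * s) * (x * (s * x * s⁻¹))⁻¹ * (x * s)⁻¹ * (x * (s * x * s⁻¹)) * (s * s) := by
  group

/-- **S★a nonsplit, of-form**: (N2)-(N4) from (N1). -/
theorem exists_lift_pow8_nonsplit_of (θ : G →* L) (hsurj : Function.Surjective θ) (hker : θ.ker = Q)
    (hcomm : ∀ a ∈ Q, ∀ b ∈ Q, a * b = b * a) (hcard : Nat.card Q = 32) (hΦ : Nat.card (sqSub Q) = 2)
    (hfaith : ∀ g : G, (∀ a ∈ Q, g * a * g⁻¹ * a⁻¹ ∈ sqSub Q) → g ∈ Q)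
    (c : G) (hcQ : c ∈ Q) (hc : c * c ≠ 1) (hcen : ∀ g : G, g * c = c * g)
    (hN1 : ∀ (α : L ≃* L) (φ : G → (Fin 3 → ZMod 2)),
      (∀ a ∈ omega1 Q hcomm, ∀ b ∈ omega1 Q hcomm, φ (a * b) = φ a + φ b) →
      (∀ v : Fin 3 → ZMod 2, ∃ o ∈ omega1 Q hcomm, φ o = v) →
      (∀ o ∈ omega1 Q hcomm, φ o = 0 ↔ o ∈ sqSub Q) →
      (∀ g : G, ∀ o ∈ omega1 Q hcomm,
        φ (g * o * g⁻¹) = Matrix.mulVec (α (θ g) : Matrix (Fin 3) (Fin 3) (ZMod 2)) (φ o)) →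
      ∀ (g₀ o₀ : G), o₀ ∈ omega1 Q hcomm → φ o₀ ≠ 0 → OddAt (α (θ g₀)) (φ o₀) → g₀ * o₀ = o₀ * g₀ →
        ∃ U' : Subgroup G, U'.Normal ∧ U' ≤ Q ∧ Nat.card U' = 8 ∧ ∀ x ∈ U', x * x = 1)
    (hns : ¬ ∃ U' : Subgroup G, U'.Normal ∧ U' ≤ Q ∧ Nat.card U' = 8 ∧ ∀ x ∈ U', x * x = 1) :
    ∃ x : G, orderOf (θ x) = 4 ∧ x ^ 8 = 1 := by
  classical
  by_contra hno
  obtain ⟨α, φ, hφmul, hφsurj, hφker, hφconj⟩ :=
    exists_coords θ hsurj hker hcomm hcard hΦ hfaith c hcQ hc hcen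
  have hOn : (omega1 Q hcomm).Normal := omega1_normal hcomm
  have hOQ : omega1 Q hcomm ≤ Q := omega1_le hcomm
  have hWO : sqSub Q ≤ omega1 Q hcomm := sqSub_le_omega1 hcomm hΦ
  -- the twisted homomorphism
  let θ' : G →* L := α.toMonoidHom.comp θ
  have hθ' : ∀ g, θ' g = α (θ g) := fun g => rfl
  have hθ'surj : Function.Surjective θ' := α.surjective.comp hsurj
  have hθ'ker : ∀ g, θ' g = 1 ↔ g ∈ Q := by
    intro g
    rw [hθ', ← hker, MonoidHom.mem_ker]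
    constructor
    · intro h; exact α.injective (by rw [h, map_one])
    · intro h; rw [h, map_one]
  have hconj : ∀ g : G, ∀ o ∈ omega1 Q hcomm,
      φ (g * o * g⁻¹) = Matrix.mulVec (θ' g : Matrix (Fin 3) (Fin 3) (ZMod 2)) (φ o) := hφconj
  have hφone : φ 1 = 0 := (hφker 1 (Subgroup.one_mem _)).mpr (Subgroup.one_mem _)
  have hOinv : ∀ o ∈ omega1 Q hcomm, o⁻¹ = o := fun o ho => inv_eq_of_mul_eq_one_left ho.2
  -- (N1) in usable form
  have hN1' : ∀ g o : G, o ∈ omega1 Q hcomm → φ o ≠ 0 → OddAt (θ' g) (φ o) → g * o * g⁻¹ ≠ o := by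
    intro g o ho hv hodd hfix
    apply hns
    apply hN1 α φ hφmul hφsurj hφker hφconj g o ho hv hodd
    calc g * o = g * o * g⁻¹ * g := by group
      _ = o * g := by rw [hfix]
  have hno' : ∀ x : G, θ' x = u4 → x ^ 8 ≠ 1 := by
    intro x hx h8
    apply hno
    refine ⟨x, ?_, h8⟩
    rw [← MulEquiv.orderOf_eq α, ← hθ', hx]
    exact Cfsg.Agent.Lib.Helper1.GH7F4.orderOf_u4
  -- the central involution `w0 = c^2` and `W`
  have hw0W : c * c ∈ sqSub Q := sq_mem_sqSub hcQ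
  have hWcen : ∀ w ∈ sqSub Q, ∀ g : G, g * w = w * g := by
    intro w hw g
    rcases mem_sqSub_cases hΦ hw0W hc hw with rfl | rfl
    · simp
    · calc g * (c * c) = (g * c) * c := by group
        _ = (c * g) * c := by rw [hcen g]
        _ = c * (g * c) := by group
        _ = c * (c * g) := by rw [hcen g]
        _ = c * c * g := by group
  have hWsq : ∀ w ∈ sqSub Q, w * w = 1 := fun w hw => sqSub_sq_eq_one hΦ hw
  have hcinv : ∀ g : G, g * c⁻¹ = c⁻¹ * g := by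
    intro g
    calc g * c⁻¹ = c⁻¹ * (c * g) * c⁻¹ := by group
      _ = c⁻¹ * (g * c) * c⁻¹ := by rw [hcen g]
      _ = c⁻¹ * g := by group
  -- elements of `Q` outside `O1`
  have hQO : ∀ q ∈ Q, q ∉ omega1 Q hcomm → c⁻¹ * q ∈ omega1 Q hcomm := by
    intro q hq hqO
    rcases mem_omega1_or hcomm hΦ hcQ hc hq with h | h
    · exact absurd h hqO
    · exact h
  -- choose `x` over `u4` and `s` over `a12`
  obtain ⟨x, hx⟩ := hθ'surj u4
  obtain ⟨s, hs⟩ := hθ'surj a12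
  have hx8 : x ^ 8 ≠ 1 := hno' x hx
  have hx4Q : x ^ 4 ∈ Q := by
    rw [← hθ'ker, map_pow, hx]; exact u4_pow_four
  have hx4O : x ^ 4 ∉ omega1 Q hcomm := by
    rintro ⟨_, h⟩
    apply hx8
    rw [← h]; group
  -- `o0 := c⁻¹ x^4 ∈ W`
  have ho0O : c⁻¹ * x ^ 4 ∈ omega1 Q hcomm := hQO _ hx4Q hx4O
  have ho0fix : x * (c⁻¹ * x ^ 4) * x⁻¹ = c⁻¹ * x ^ 4 := by
    calc x * (c⁻¹ * x ^ 4) * x⁻¹ = (x * c⁻¹) * x ^ 4 * x⁻¹ := by group
      _ = (c⁻¹ * x) * x ^ 4 * x⁻¹ := by rw [hcinv x]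
      _ = c⁻¹ * x ^ 4 := by group
  have ho0W : c⁻¹ * x ^ 4 ∈ sqSub Q := by
    rw [← hφker _ ho0O]
    have hfixv : Matrix.mulVec (u4 : Matrix (Fin 3) (Fin 3) (ZMod 2)) (φ (c⁻¹ * x ^ 4)) = φ (c⁻¹ * x ^ 4) := by
      rw [← hx, ← hconj x _ ho0O, ho0fix]
    rcases fix_u4 _ hfixv with h | h
    · exact h
    · exfalso
      apply hN1' x _ ho0O (by rw [h]; exact e1_ne) (by rw [hx, h]; exact oddAt_u4) ho0fix
  -- `x^4` is central
  have hx4cen : ∀ g : G, g * x ^ 4 = x ^ 4 * g := by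
    intro g
    have e : x ^ 4 = c * (c⁻¹ * x ^ 4) := by group
    rw [e]
    calc g * (c * (c⁻¹ * x ^ 4)) = (g * c) * (c⁻¹ * x ^ 4) := by group
      _ = (c * g) * (c⁻¹ * x ^ 4) := by rw [hcen g]
      _ = c * (g * (c⁻¹ * x ^ 4)) := by group
      _ = c * ((c⁻¹ * x ^ 4) * g) := by rw [hWcen _ ho0W g]
      _ = c * (c⁻¹ * x ^ 4) * g := by group
  -- lifts of involutions have squares outside `O1`
  have hK0 : ∀ k : G, θ' k = z13 → k * k ∉ omega1 Q hcomm := by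
    intro k hk hkk
    have hqQ : k⁻¹ * (x * x) ∈ Q := by
      rw [← hθ'ker, map_mul, map_inv, map_mul, hk, hx, u4_sq']
      exact inv_mul_cancel _
    obtain ⟨q, hqdef⟩ : ∃ q : G, q = k⁻¹ * (x * x) := ⟨_, rfl⟩
    rw [← hqdef] at hqQ
    have hxx : x * x = k * q := by rw [hqdef]; group
    have hx4 : x ^ 4 = (k * k) * ((k⁻¹ * q * k) * q) := by
      calc x ^ 4 = (x * x) * (x * x) := by simp only [pow_succ, pow_zero, one_mul, mul_assoc]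
        _ = (k * q) * (k * q) := by rw [hxx]
        _ = (k * k) * ((k⁻¹ * q * k) * q) := by group
    have hkqk : k⁻¹ * q * k ∈ Q := by
      have := ‹Q.Normal›.conj_mem q hqQ k⁻¹
      simpa using this
    have hmO : (k⁻¹ * q * k) * q ∈ omega1 Q hcomm := by
      refine ⟨Q.mul_mem hkqk hqQ, ?_⟩
      have hqq : q * q ∈ sqSub Q := sq_mem_sqSub hqQ
      calc (k⁻¹ * q * k) * q * ((k⁻¹ * q * k) * q)
          = (k⁻¹ * q * k) * (q * (k⁻¹ * q * k)) * q := by group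
        _ = (k⁻¹ * q * k) * ((k⁻¹ * q * k) * q) * q := by rw [hcomm q hqQ _ hkqk]
        _ = k⁻¹ * ((q * q) * k) * (q * q) := by group
        _ = k⁻¹ * (k * (q * q)) * (q * q) := by rw [hWcen _ hqq k]
        _ = (q * q) * (q * q) := by group
        _ = 1 := hWsq _ hqq
    apply hx4O
    rw [hx4]
    exact Subgroup.mul_mem _ hkk hmO
  have hK : ∀ k : G, θ' k * θ' k = 1 → θ' k ≠ 1 → k * k ∉ omega1 Q hcomm := by
    intro k hk2 hk1 hkk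
    obtain ⟨h, hh⟩ := conj_z13 (θ' k) hk2 hk1
    obtain ⟨hl, rfl⟩ := hθ'surj h
    apply hK0 (hl * k * hl⁻¹) (by rw [map_mul, map_mul, map_inv]; exact hh)
    have e : hl * k * hl⁻¹ * (hl * k * hl⁻¹) = hl * (k * k) * hl⁻¹ := by group
    rw [e]
    exact hOn.conj_mem _ hkk hl
  -- `s^2 = c o2`
  have hssQ : s * s ∈ Q := by
    rw [← hθ'ker, map_mul, hs]; exact a12_sq'
  have hssO : s * s ∉ omega1 Q hcomm := hK s (by rw [hs]; exact a12_sq') (by rw [hs]; exact a12_ne_one)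
  have ho2O : c⁻¹ * (s * s) ∈ omega1 Q hcomm := hQO _ hssQ hssO
  have ho2fix : s * (c⁻¹ * (s * s)) * s⁻¹ = c⁻¹ * (s * s) := by
    calc s * (c⁻¹ * (s * s)) * s⁻¹ = (s * c⁻¹) * (s * s) * s⁻¹ := by group
      _ = (c⁻¹ * s) * (s * s) * s⁻¹ := by rw [hcinv s]
      _ = c⁻¹ * (s * s) := by group
  have hφo2 : φ (c⁻¹ * (s * s)) = 0 ∨ φ (c⁻¹ * (s * s)) = e1 := by
    by_contra hcon
    rw [not_or] at hcon
    have hfixv : Matrix.mulVec (a12 : Matrix (Fin 3) (Fin 3) (ZMod 2)) (φ (c⁻¹ * (s * s))) = φ (c⁻¹ * (s * s)) := by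
      rw [← hs, ← hconj s _ ho2O, ho2fix]
    apply hN1' s _ ho2O hcon.1 (by rw [hs]; exact oddAt_a12 _ hfixv hcon.1 hcon.2) ho2fix
  -- `q1 := x (s x s⁻¹) ∈ O1`
  obtain ⟨q1, hq1def⟩ : ∃ q1 : G, q1 = x * (s * x * s⁻¹) := ⟨_, rfl⟩
  have hq1Q : q1 ∈ Q := by
    rw [← hθ'ker, hq1def, map_mul, map_mul, map_mul, map_inv, hx, hs]
    exact u4_conj_a12
  have hsxsx : (s * x) * (s * x) = x⁻¹ * (q1 * (s * s)) * x := by
    rw [hq1def]; group
  have hsxO : (s * x) * (s * x) ∉ omega1 Q hcomm :=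
    hK (s * x) (by rw [map_mul, hs, hx]; exact a12u4_sq) (by rw [map_mul, hs, hx]; exact a12u4_ne)
  have hq1ssO : q1 * (s * s) ∉ omega1 Q hcomm := by
    intro h
    apply hsxO
    rw [hsxsx]
    have := hOn.conj_mem _ h x⁻¹
    simpa using this
  have hq1O : q1 ∈ omega1 Q hcomm := by
    by_contra hq1O
    have ho := hQO _ hq1Q hq1O
    apply hq1ssO
    have e : q1 * (s * s) = (c * c) * ((c⁻¹ * q1) * (c⁻¹ * (s * s))) := by
      calc q1 * (s * s) = c * (c⁻¹ * q1) * (c * (c⁻¹ * (s * s))) := by group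
        _ = c * ((c⁻¹ * q1) * c) * (c⁻¹ * (s * s)) := by group
        _ = c * (c * (c⁻¹ * q1)) * (c⁻¹ * (s * s)) := by rw [hcen (c⁻¹ * q1)]
        _ = (c * c) * ((c⁻¹ * q1) * (c⁻¹ * (s * s))) := by group
    rw [e]
    exact Subgroup.mul_mem _ (hWO hw0W) (Subgroup.mul_mem _ ho ho2O)
  -- relation A: `φ q1 ∉ [U, u4]`
  have hrelA : ¬ ∃ w' : Fin 3 → ZMod 2,
      Matrix.mulVec (u4 : Matrix (Fin 3) (Fin 3) (ZMod 2)) w' + w' = φ q1 := by
    rintro ⟨w', hw'⟩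
    obtain ⟨q', hq'O, hφq'⟩ := hφsurj w'
    have hxq'O : x * q' * x⁻¹ ∈ omega1 Q hcomm := hOn.conj_mem _ hq'O x
    have hmO : x * q' * x⁻¹ * q' ∈ omega1 Q hcomm := Subgroup.mul_mem _ hxq'O hq'O
    have hφm : φ (x * q' * x⁻¹ * q') = φ q1 := by
      rw [hφmul _ hxq'O _ hq'O, hconj x _ hq'O, hx, hφq', hw']
    have hwW : q1 * (x * q' * x⁻¹ * q') ∈ sqSub Q := by
      rw [← hφker _ (Subgroup.mul_mem _ hq1O hmO), hφmul _ hq1O _ hmO, hφm]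
      exact add_self_vec' _
    obtain ⟨w, hwdef⟩ : ∃ w : G, w = q1 * (x * q' * x⁻¹ * q') := ⟨_, rfl⟩
    rw [← hwdef] at hwW
    have hq1eq : q1 = w * (x * q' * x⁻¹ * q') := by
      have hm2 : (x * q' * x⁻¹ * q') * (x * q' * x⁻¹ * q') = 1 := hmO.2
      calc q1 = q1 * ((x * q' * x⁻¹ * q') * (x * q' * x⁻¹ * q')) := by rw [hm2, mul_one]
        _ = (q1 * (x * q' * x⁻¹ * q')) * (x * q' * x⁻¹ * q') := by group
        _ = w * (x * q' * x⁻¹ * q') := by rw [← hwdef]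
    have hq'inv : q'⁻¹ = q' := hOinv _ hq'O
    -- `s x s⁻¹ = w * (q' x⁻¹ q'⁻¹)`
    have hsxs : s * x * s⁻¹ = w * (q' * x⁻¹ * q'⁻¹) := by
      have h1 : s * x * s⁻¹ = x⁻¹ * q1 := by rw [hq1def]; group
      rw [h1, hq1eq, hq'inv]
      calc x⁻¹ * (w * (x * q' * x⁻¹ * q')) = (x⁻¹ * w) * (x * q' * x⁻¹ * q') := by group
        _ = (w * x⁻¹) * (x * q' * x⁻¹ * q') := by rw [hWcen _ hwW x⁻¹]
        _ = w * (q' * x⁻¹ * q') := by group
    have hpow : (s * x * s⁻¹) ^ 4 = (w * (q' * x⁻¹ * q'⁻¹)) ^ 4 := by rw [hsxs]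
    have hcommute : Commute w (q' * x⁻¹ * q'⁻¹) := (hWcen _ hwW _).symm
    rw [conj_pow, hcommute.mul_pow, conj_pow] at hpow
    have hw4 : w ^ 4 = 1 := by
      have := hWsq _ hwW
      calc w ^ 4 = (w * w) * (w * w) := by simp only [pow_succ, pow_zero, one_mul, mul_assoc]
        _ = 1 := by rw [this, one_mul]
    rw [hw4, one_mul] at hpow
    -- `s x^4 s⁻¹ = x^4`, `q' x⁻⁴ q'⁻¹ = x⁻⁴`
    have h1 : s * x ^ 4 * s⁻¹ = x ^ 4 := by rw [hx4cen s, mul_inv_cancel_right]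
    have h2 : q' * x⁻¹ ^ 4 * q'⁻¹ = x⁻¹ ^ 4 := by
      have e : x⁻¹ ^ 4 = (x ^ 4)⁻¹ := by group
      rw [e]
      have := hx4cen q'
      calc q' * (x ^ 4)⁻¹ * q'⁻¹ = (x ^ 4)⁻¹ * (x ^ 4 * q') * (x ^ 4)⁻¹ * q'⁻¹ := by group
        _ = (x ^ 4)⁻¹ * (q' * x ^ 4) * (x ^ 4)⁻¹ * q'⁻¹ := by rw [this]
        _ = (x ^ 4)⁻¹ := by group
    rw [h1, h2] at hpow
    apply hx8
    calc x ^ 8 = x ^ 4 * x ^ 4 := by group
      _ = x⁻¹ ^ 4 * x ^ 4 := by rw [← hpow]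
      _ = 1 := by group
  -- relation B
  have hrelB := relB_identity x s
  rw [← hq1def] at hrelB
  obtain ⟨m2, hm2def⟩ : ∃ m2 : G, m2 = (x * s) * q1⁻¹ * (x * s)⁻¹ := ⟨_, rfl⟩
  rw [← hm2def] at hrelB
  have hm2O : m2 ∈ omega1 Q hcomm := by
    rw [hm2def]
    exact hOn.conj_mem _ (Subgroup.inv_mem _ hq1O) _
  have hφm2 : φ m2 = Matrix.mulVec ((u4 * a12 : L) : Matrix (Fin 3) (Fin 3) (ZMod 2)) (φ q1) := by
    rw [hm2def, hOinv _ hq1O, hconj _ _ hq1O, map_mul, hx, hs]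
  have hxo2 : x * (c⁻¹ * (s * s)) * x⁻¹ = m2 * q1 * (c⁻¹ * (s * s)) := by
    have hq1m2Q : m2 * q1 ∈ Q := Q.mul_mem (hOQ hm2O) hq1Q
    calc x * (c⁻¹ * (s * s)) * x⁻¹ = (x * c⁻¹) * (s * s) * x⁻¹ := by group
      _ = (c⁻¹ * x) * (s * s) * x⁻¹ := by rw [hcinv x]
      _ = c⁻¹ * (x * (s * s) * x⁻¹) := by group
      _ = c⁻¹ * (m2 * q1 * (s * s)) := by rw [hrelB]
      _ = (c⁻¹ * (m2 * q1)) * (s * s) := by group
      _ = ((m2 * q1) * c⁻¹) * (s * s) := by rw [hcinv (m2 * q1)]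
      _ = m2 * q1 * (c⁻¹ * (s * s)) := by group
  have hφB := congrArg φ hxo2
  rw [hconj x _ ho2O, hx, hφmul _ (Subgroup.mul_mem _ hm2O hq1O) _ ho2O, hφmul _ hm2O _ hq1O, hφm2] at hφB
  have hfixo2 : Matrix.mulVec (u4 : Matrix (Fin 3) (Fin 3) (ZMod 2)) (φ (c⁻¹ * (s * s))) = φ (c⁻¹ * (s * s)) := by
    rcases hφo2 with h | h
    · rw [h]; exact Matrix.mulVec_zero _
    · rw [h]; exact u4_e1
  rw [hfixo2] at hφB
  have hzero : Matrix.mulVec ((u4 * a12 : L) : Matrix (Fin 3) (Fin 3) (ZMod 2)) (φ q1) + φ q1 = 0 := by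
    have h3 := congrArg (fun v => v + φ (c⁻¹ * (s * s))) hφB
    simp only [add_self_vec', add_assoc] at h3
    rw [add_zero] at h3
    exact h3.symm
  rcases dich_u4 (φ q1) with h | h
  · exact hrelA h
  · exact h hzero

end Cfsg.Agent.Lib.Helper1.GH7Sb
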