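import Mathlib
import Cfsg.Agent.Lib.Helper2.GLU0
import Cfsg.Agent.Lib.Helper1.GGBound

/-!
# Verbatim forms of the units X1, Y2, Y4 (uniqueness of the reversal), YC of the S4538 farm
-/

set_option autoImplicit false

namespace Cfsg.Agent.Lib.Helper1.GLUX

open Matrix Cfsg Cfsg.Agent.Lib.Helper2.GLU Cfsg.Agent.Lib.Helper6.Flg
open Cfsg.Agent.Lib.Helper1.MackeyBound Cfsg.Agent.Lib.Helper1.BruhatU
  Cfsg.Agent.Lib.Helper1.GGBound

section abstract

variable {G : Type*} [Group G] [Fintype G]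

/-- X1: Mackey UPPER bound for two induced linear characters over a covering family of
double-coset representatives. -/
theorem x1_mackey_bound (H K : Subgroup G) (α : H →* ℂˣ) (β : K →* ℂˣ)
    {I : Type*} [Fintype I] (x : I → G)
    (hcov : ∀ g : G, ∃ w : I, ∃ h ∈ H, ∃ k ∈ K, g = h * x w * k) :
    (classInner (indFun H (fun h => ((α h : ℂˣ) : ℂ)))
        (indFun K (fun k => ((β k : ℂˣ) : ℂ)))).re ≤
      (Nat.card {w : I // ∀ (y : K) (hy : x w * (y : G) * (x w)⁻¹ ∈ H),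
          α ⟨x w * (y : G) * (x w)⁻¹, hy⟩ = β y} : ℝ) := by
  obtain ⟨m, hm, hle⟩ := mackey_bound H K α β x hcov
  rw [hm, Complex.natCast_re, Nat.cast_le]
  refine hle.trans ?_
  apply Nat.card_le_card_of_injective
    (fun w : {w : I // ∀ (h : H) (k : K), (h : G) * x w = x w * (k : G) → α h = β k} =>
      (⟨w.1, fun y hy => w.2 ⟨_, hy⟩ y (by simp)⟩ :
        {w : I // ∀ (y : K) (hy : x w * (y : G) * (x w)⁻¹ ∈ H),
          α ⟨x w * (y : G) * (x w)⁻¹, hy⟩ = β y}))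
  intro a b hab
  apply Subtype.ext
  have := congrArg Subtype.val hab
  exact this

end abstract

section concrete

variable {n : ℕ} {F : Type*} [Field F]

theorem mem_uni_iff (u : GL (Fin n) F) : u ∈ uni n F ↔
    (u ∈ upperTriangularGL n F ∧ ∀ i, (u : Matrix (Fin n) (Fin n) F) i i = 1) := by
  rw [mem_uni]
  constructor
  · intro h
    refine ⟨?_, ?_⟩
    · intro a b hab
      have hab' : b < a := hab
      rw [h a b hab'.le, Matrix.one_apply_ne (ne_of_gt hab')]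
    · intro i
      rw [h i i le_rfl, Matrix.one_apply_eq]
  · rintro ⟨h1, h2⟩ a b hab
    rcases hab.lt_or_eq with h | h
    · rw [Matrix.one_apply_ne (ne_of_gt h)]
      exact h1 h
    · rw [h, h2, Matrix.one_apply_eq]

/-- Y2: the cover `G = ⋃_w B · Wgl w · U` -/
theorem y2_cover (g : GL (Fin n) F) :
    ∃ w : Equiv.Perm (Fin n), ∃ b ∈ upperTriangularGL n F, ∃ u ∈ uni n F,
      g = b * Wgl n F w * u := by
  obtain ⟨b, hb, w, u, hu, hu1, e⟩ := bruhat_cover_unitri g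
  exact ⟨w, b, hb, u, (mem_uni_iff u).2 ⟨hu, hu1⟩, e⟩

/-- two permutations that reverse every adjacent pair are equal (both are the reversal) -/
theorem y4_rev_unique (w w' : Equiv.Perm (Fin n))
    (hw : ∀ (i : ℕ) (hi : i + 1 < n), w ⟨i + 1, hi⟩ < w ⟨i, by omega⟩)
    (hw' : ∀ (i : ℕ) (hi : i + 1 < n), w' ⟨i + 1, hi⟩ < w' ⟨i, by omega⟩) : w = w' := by
  apply perm_eq_of_descent
  · intro i j hij
    have hi : (i : ℕ) + 1 < n := by have := j.2; omega
    have := hw i hi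
    have e1 : (⟨(i : ℕ) + 1, hi⟩ : Fin n) = j := Fin.ext hij.symm
    have e2 : (⟨(i : ℕ), by omega⟩ : Fin n) = i := Fin.ext rfl
    rwa [e1, e2] at this
  · intro i j hij
    have hi : (i : ℕ) + 1 < n := by have := j.2; omega
    have := hw' i hi
    have e1 : (⟨(i : ℕ) + 1, hi⟩ : Fin n) = j := Fin.ext hij.symm
    have e2 : (⟨(i : ℕ), by omega⟩ : Fin n) = i := Fin.ext rfl
    rwa [e1, e2] at this

theorem xel_apply (a b : Fin n) (hab : a ≠ b) (c : F) (k l : Fin n) :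
    ((xel F a b hab c : GL (Fin n) F) : Matrix (Fin n) (Fin n) F) k l =
      (1 : Matrix (Fin n) (Fin n) F) k l + if (a = k ∧ b = l) then c else 0 := by
  rw [xel_val, Matrix.transvection, Matrix.add_apply, Matrix.single_apply]

theorem y4_xel_mem (a b : Fin n) (hab : a < b) (c : F) : xel F a b hab.ne c ∈ uni n F := by
  rw [mem_uni]
  intro k l hkl
  rw [xel_apply, if_neg, add_zero]
  rintro ⟨rfl, rfl⟩
  exact absurd hab (not_lt.2 hkl)

/-- YC: `⟨Ind_B^G φ, Ind_U^G ψ⟩ ≤ 1` for `φ` trivial on `U`. -/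
theorem yc_bound [Fintype (GL (Fin n) F)] (ψ : uni n F →* ℂˣ)
    (hψ : ∀ (i : ℕ) (hi : i + 1 < n), ∃ c : F, ∀ h : xadj F i hi c ∈ uni n F, ψ ⟨_, h⟩ ≠ 1)
    (φ : upperTriangularGL n F →* ℂˣ)
    (hφ : ∀ b : upperTriangularGL n F, (b : GL (Fin n) F) ∈ uni n F → φ b = 1) :
    (classInner (indFun (upperTriangularGL n F) (fun b => ((φ b : ℂˣ) : ℂ)))
      (indFun (uni n F) (fun u => ((ψ u : ℂˣ) : ℂ)))).re ≤ 1 := by
  obtain ⟨m, hm, hle⟩ := gg_bound (uni n F) mem_uni_iff φ hφ ψ (by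
    intro i j hij
    have hi : (i : ℕ) + 1 < n := by have := j.2; omega
    obtain ⟨c, hc⟩ := hψ i hi
    have hmem : xadj F i hi c ∈ uni n F := y4_xel_mem _ _ (by
      show (i : ℕ) < (i : ℕ) + 1
      omega) c
    refine ⟨⟨_, hmem⟩, ?_, hc hmem⟩
    intro k l hkl hnot
    show ((xadj F i hi c : GL (Fin n) F) : Matrix (Fin n) (Fin n) F) k l = 0
    unfold xadj
    rw [xel_apply, Matrix.one_apply_ne hkl, zero_add, if_neg]
    rintro ⟨e1, e2⟩
    apply hnot
    refine ⟨?_, ?_⟩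
    · rw [← e1]
    · rw [← e2]
      exact Fin.ext hij.symm)
  rw [hm, Complex.natCast_re]
  exact_mod_cast hle

end concrete

end Cfsg.Agent.Lib.Helper1.GLUX
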