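import Mathlib
import Cfsg.Agent.Lib.Helper7.SLY5d
import Cfsg.Agent.Lib.Helper1.GGBound

/-!
# (C) of the S4538 farm for the canonical definitions `Helper7.SLY.Uni`, `tgl`
-/

set_option autoImplicit false

namespace Cfsg.Agent.Lib.Helper1.GLUX2

open Matrix Cfsg Cfsg.Agent.Lib.Helper7.SLY Cfsg.Agent.Lib.Helper6.Flg
open Cfsg.Agent.Lib.Helper1.GGBound

variable {n : ℕ} {F : Type*} [Field F]

/-- (C): `⟨Ind_B^G φ, Ind_U^G ψ⟩ ≤ 1` for `φ` trivial on `U` and `ψ` nontrivial on each simple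
root subgroup. -/
theorem yc_bound_Uni [Fintype (GL (Fin n) F)] (ψ : Uni n F →* ℂˣ)
    (hψ : ∀ (i : ℕ) (hi : i + 1 < n), ∃ c : F,
      ∀ h : tgl (posA i hi) (posB i hi) (posA_ne_posB i hi) c ∈ Uni n F, ψ ⟨_, h⟩ ≠ 1)
    (φ : upperTriangularGL n F →* ℂˣ)
    (hφ : ∀ b : upperTriangularGL n F, (b : GL (Fin n) F) ∈ Uni n F → φ b = 1) :
    (classInner (indFun (upperTriangularGL n F) (fun b => ((φ b : ℂˣ) : ℂ)))
      (indFun (Uni n F) (fun u => ((ψ u : ℂˣ) : ℂ)))).re ≤ 1 := by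
  obtain ⟨m, hm, hle⟩ := gg_bound (Uni n F) mem_Uni_iff φ hφ ψ (by
    intro i j hij
    have hi : (i : ℕ) + 1 < n := by have := j.2; omega
    obtain ⟨c, hc⟩ := hψ i hi
    have hmem : tgl (posA i hi) (posB i hi) (posA_ne_posB i hi) c ∈ Uni n F :=
      tgl_mem_urad_val (posA i hi) (posB i hi) (by
        show (i : ℕ) < (i : ℕ) + 1
        omega) c
    refine ⟨⟨_, hmem⟩, ?_, hc hmem⟩
    intro k l hkl hnot
    show ((tgl (posA i hi) (posB i hi) (posA_ne_posB i hi) c : GL (Fin n) F) :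
      Matrix (Fin n) (Fin n) F) k l = 0
    rw [tgl_val, Matrix.transvection, Matrix.add_apply, Matrix.one_apply_ne hkl, zero_add,
      Matrix.single_apply, if_neg]
    rintro ⟨e1, e2⟩
    apply hnot
    refine ⟨?_, ?_⟩
    · rw [← e1]
      exact Fin.ext rfl
    · rw [← e2]
      exact Fin.ext hij.symm)
  rw [hm, Complex.natCast_re]
  exact_mod_cast hle

end Cfsg.Agent.Lib.Helper1.GLUX2
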