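import Mathlib
import Cfsg.Prelude.Def_Blocks
import Cfsg.Agent.Lib.Helper6.UniGL4
import Cfsg.Agent.Lib.Helper4.DegSet

/-!
# Z1e of the S4538 farm: the Steinberg character of `SL_n(F)` has defect zero
-/

set_option autoImplicit false

namespace Cfsg.Agent.Lib.Helper1.GLUZ1e

open Cfsg Cfsg.Agent.Lib.Helper6.UniGL Cfsg.Agent.Lib.Helper6.UnipotentDegree
open scoped MatrixGroups

variable {n : ℕ} {F : Type*} [Field F]

/-- Z1e: existence of a character of `SL_n(F)` of defect zero (Steinberg character). -/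
theorem z1e_exists [Fintype F] (p : ℕ) [Fact p.Prime] [CharP F p] (hn : 2 ≤ n) :
    ∃ θ : IrrCharacter (Matrix.SpecialLinearGroup (Fin n) F),
      (charDegree θ.1).factorization p =
        (Nat.card (Matrix.SpecialLinearGroup (Fin n) F)).factorization p := by
  classical
  have hp : p.Prime := Fact.out
  have hsum : ∑ i : Fin n, (fun _ : Fin n => 1) i = n := by simp
  let χS : IrrCharacter (Matrix.SpecialLinearGroup (Fin n) F) :=
    ⟨unipotentSL (F := F) (fun _ => 1), isIrrCharacter_unipotentSL _ monotone_const hsum⟩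
  have hχ1 : (χS : Matrix.SpecialLinearGroup (Fin n) F → ℂ) 1 =
      ((Fintype.card F ^ tri n : ℕ) : ℂ) := by
    show unipotentCharacterGL n F (fun _ => 1) (Matrix.SpecialLinearGroup.toGL 1) = _
    rw [map_one, Nat.cast_pow]
    exact steinberg_degree
  refine ⟨χS, ?_⟩
  rw [Cfsg.Agent.Lib.Helper4.charDegree_eq_of_apply_one hχ1]
  have hfin : Finite (Matrix.ProjectiveSpecialLinearGroup (Fin n) F) := by
    have : Finite (Matrix.SpecialLinearGroup (Fin n) F) := inferInstance
    exact Quotient.finite _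
  have P : Sylow p (Matrix.ProjectiveSpecialLinearGroup (Fin n) F) := default
  have hP := card_sylow_PSL p n (by omega) P
  rw [Sylow.card_eq_multiplicity] at hP
  rw [← hP, Nat.factorization_pow, Finsupp.smul_apply, hp.factorization_self, smul_eq_mul, mul_one]
  have h1 := Cfsg.Agent.Lib.Helper4.card_PSL_mul (F := F) n (by omega)
  obtain ⟨f, _, hqf⟩ := FiniteField.card F p
  have hf : 1 ≤ (f : ℕ) := f.pos
  have hgcd : Nat.gcd n (Fintype.card F - 1) ≠ 0 := Nat.gcd_ne_zero_left (by omega)
  have hgcd' : ¬ p ∣ Nat.gcd n (Fintype.card F - 1) := fun h => by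
    rw [hqf] at h
    exact not_dvd_pred p f hp hf (h.trans (Nat.gcd_dvd_right _ _))
  rw [← h1, Nat.factorization_mul hgcd Nat.card_pos.ne', Finsupp.add_apply,
    Nat.factorization_eq_zero_of_not_dvd hgcd', zero_add]

end Cfsg.Agent.Lib.Helper1.GLUZ1e
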