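import Mathlib
import Cfsg.Agent.Lib.Helper1.ClassTwo

set_option autoImplicit false
set_option linter.style.haveILetI false
set_option linter.unusedSectionVars false
set_option linter.unusedVariables false
set_option maxHeartbeats 4000000

/-! Groups `P` with a central subgroup `Z` of prime order `p` containing all commutators and all
`p`-th powers (generalized extraspecial groups): class-two calculus, counting, complements. -/

namespace Cfsg.Agent.Lib.Helper1.GX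

open scoped commutatorElement

universe u

variable {Ω : Type u} [Group Ω]

structure GXData (p : ℕ) (P Z : Subgroup Ω) : Prop where
  hZP : Z ≤ P
  hcard : Nat.card Z = p
  hcen : ∀ z ∈ Z, ∀ a ∈ P, a * z = z * a
  hcomm : ∀ a ∈ P, ∀ b ∈ P, ⁅a, b⁆ ∈ Z
  hpow : ∀ a ∈ P, a ^ p ∈ Z

namespace GXData

variable {p : ℕ} [hp : Fact p.Prime] {P Z : Subgroup Ω}

theorem finiteZ (G : GXData p P Z) : Finite Z :=
  Nat.finite_of_card_ne_zero (by rw [G.hcard]; exact hp.out.ne_zero)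

theorem pow_p_eq_one (G : GXData p P Z) {z : Ω} (hz : z ∈ Z) : z ^ p = 1 := by
  have h := pow_card_eq_one' (G := ↥Z) (x := ⟨z, hz⟩)
  rw [G.hcard] at h
  exact congrArg Subtype.val h

theorem gen (G : GXData p P Z) {c z : Ω} (hc : c ∈ Z) (hc1 : c ≠ 1) (hz : z ∈ Z) :
    ∃ k : ℕ, z = c ^ k := by
  have h := mem_powers_of_prime_card (G := ↥Z) G.hcard (g := ⟨c, hc⟩) (g' := ⟨z, hz⟩)
    (fun h => hc1 (congrArg Subtype.val h))
  obtain ⟨k, hk⟩ := (Submonoid.mem_powers_iff _ _).mp h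
  exact ⟨k, (congrArg Subtype.val hk).symm⟩

theorem orderOf_eq (G : GXData p P Z) {c : Ω} (hc : c ∈ Z) (hc1 : c ≠ 1) : orderOf c = p :=
  orderOf_eq_prime (G.pow_p_eq_one hc) hc1

theorem comm_mem_P (G : GXData p P Z) {a b : Ω} (ha : a ∈ P) (hb : b ∈ P) : ⁅a, b⁆ ∈ P :=
  G.hZP (G.hcomm a ha b hb)

theorem comm_mul_left (G : GXData p P Z) {a b c : Ω} (ha : a ∈ P) (hb : b ∈ P) (hc : c ∈ P) :
    ⁅a * b, c⁆ = ⁅a, c⁆ * ⁅b, c⁆ := by
  have e : ⁅a * b, c⁆ = a * ⁅b, c⁆ * a⁻¹ * ⁅a, c⁆ := by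
    simp only [commutatorElement_def]; group
  rw [e, G.hcen _ (G.hcomm b hb c hc) a ha, mul_inv_cancel_right,
    G.hcen _ (G.hcomm b hb c hc) _ (G.comm_mem_P ha hc)]

theorem comm_mul_right (G : GXData p P Z) {a b c : Ω} (ha : a ∈ P) (hb : b ∈ P) (hc : c ∈ P) :
    ⁅a, b * c⁆ = ⁅a, b⁆ * ⁅a, c⁆ := by
  have e : ⁅a, b * c⁆ = ⁅a, b⁆ * (b * ⁅a, c⁆ * b⁻¹) := by
    simp only [commutatorElement_def]; group
  rw [e, G.hcen _ (G.hcomm a ha c hc) b hb, mul_inv_cancel_right]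

theorem comm_pow_left (G : GXData p P Z) {a b : Ω} (ha : a ∈ P) (hb : b ∈ P) (n : ℕ) :
    ⁅a ^ n, b⁆ = ⁅a, b⁆ ^ n := by
  induction n with
  | zero => simp
  | succ n ih => rw [pow_succ, G.comm_mul_left (P.pow_mem ha n) ha hb, ih, pow_succ]

theorem comm_pow_right (G : GXData p P Z) {a b : Ω} (ha : a ∈ P) (hb : b ∈ P) (n : ℕ) :
    ⁅a, b ^ n⁆ = ⁅a, b⁆ ^ n := by
  induction n with
  | zero => simp
  | succ n ih => rw [pow_succ, G.comm_mul_right ha (P.pow_mem hb n) hb, ih, pow_succ]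

theorem comm_inv_left (G : GXData p P Z) {a b : Ω} (ha : a ∈ P) (hb : b ∈ P) :
    ⁅a⁻¹, b⁆ = ⁅a, b⁆⁻¹ := by
  have h := G.comm_mul_left (P.inv_mem ha) ha hb
  rw [inv_mul_cancel, commutatorElement_one_left] at h
  exact eq_inv_of_mul_eq_one_left h.symm

theorem comm_inv_right (G : GXData p P Z) {a b : Ω} (ha : a ∈ P) (hb : b ∈ P) :
    ⁅a, b⁻¹⁆ = ⁅a, b⁆⁻¹ := by
  have h := G.comm_mul_right ha (P.inv_mem hb) hb
  rw [inv_mul_cancel, commutatorElement_one_right] at h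
  exact eq_inv_of_mul_eq_one_left h.symm

theorem comm_zpow_left (G : GXData p P Z) {a b : Ω} (ha : a ∈ P) (hb : b ∈ P) (n : ℤ) :
    ⁅a ^ n, b⁆ = ⁅a, b⁆ ^ n := by
  obtain ⟨m, rfl | rfl⟩ := n.eq_nat_or_neg
  · rw [zpow_natCast, zpow_natCast]
    exact G.comm_pow_left ha hb m
  · rw [zpow_neg, zpow_neg, zpow_natCast, zpow_natCast, G.comm_inv_left (P.pow_mem ha m) hb,
      G.comm_pow_left ha hb m]

theorem comm_zpow_right (G : GXData p P Z) {a b : Ω} (ha : a ∈ P) (hb : b ∈ P) (n : ℤ) :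
    ⁅a, b ^ n⁆ = ⁅a, b⁆ ^ n := by
  obtain ⟨m, rfl | rfl⟩ := n.eq_nat_or_neg
  · rw [zpow_natCast, zpow_natCast]
    exact G.comm_pow_right ha hb m
  · rw [zpow_neg, zpow_neg, zpow_natCast, zpow_natCast, G.comm_inv_right ha (P.pow_mem hb m),
      G.comm_pow_right ha hb m]

theorem comm_central_left (G : GXData p P Z) {z a : Ω} (hz : z ∈ Z) (ha : a ∈ P) :
    ⁅z, a⁆ = 1 :=
  commutatorElement_eq_one_iff_mul_comm.mpr (G.hcen z hz a ha).symm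

theorem comm_central_right (G : GXData p P Z) {z a : Ω} (hz : z ∈ Z) (ha : a ∈ P) :
    ⁅a, z⁆ = 1 :=
  commutatorElement_eq_one_iff_mul_comm.mpr (G.hcen z hz a ha)

theorem commCentral (G : GXData p P Z) : CommCentral ↥P := by
  intro x y z
  apply Subtype.ext
  show ⁅(x : Ω), (y : Ω)⁆ * z = z * ⁅(x : Ω), (y : Ω)⁆
  exact (G.hcen _ (G.hcomm x x.2 y y.2) z z.2).symm

theorem mul_pow_p (G : GXData p P Z) (hp2 : p ≠ 2) {a b : Ω} (ha : a ∈ P) (hb : b ∈ P) :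
    (a * b) ^ p = a ^ p * b ^ p := by
  have hc : ⁅(⟨b, hb⟩ : ↥P), (⟨a, ha⟩ : ↥P)⁆ ^ p = 1 := by
    apply Subtype.ext
    show ⁅b, a⁆ ^ p = 1
    exact G.pow_p_eq_one (G.hcomm b hb a ha)
  have := G.commCentral.mul_pow_prime_eq hp.out hp2 ⟨a, ha⟩ ⟨b, hb⟩ hc
  exact congrArg Subtype.val this

theorem mul_pow_two (G : GXData p P Z) {a b : Ω} (ha : a ∈ P) (hb : b ∈ P) :
    (a * b) ^ 2 = a ^ 2 * b ^ 2 * ⁅b, a⁆ := by
  have hq := G.hcomm b hb a ha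
  have e : (a * b) ^ 2 = a * ⁅b, a⁆ * a * b * b := by
    simp only [commutatorElement_def, pow_two]; group
  rw [e, G.hcen _ hq a ha, G.hcen _ hq (a ^ 2 * b ^ 2) (P.mul_mem (P.pow_mem ha 2) (P.pow_mem hb 2))]
  simp only [pow_two, mul_assoc]

theorem decomp (G : GXData p P Z) {x w a : Ω} (hx : x ∈ P) (hw : w ∈ P) (hxw : x * w ≠ w * x)
    (ha : a ∈ P) : ∃ k : ℕ, ∃ b ∈ P, b * w = w * b ∧ a = x ^ k * b := by
  have hc : ⁅x, w⁆ ∈ Z := G.hcomm x hx w hw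
  have hc1 : ⁅x, w⁆ ≠ 1 := fun h => hxw (commutatorElement_eq_one_iff_mul_comm.mp h)
  obtain ⟨k, hk⟩ := G.gen hc hc1 (G.hcomm a ha w hw)
  have hb : (x ^ k)⁻¹ * a ∈ P := P.mul_mem (P.inv_mem (P.pow_mem hx k)) ha
  have e : a = x ^ k * ((x ^ k)⁻¹ * a) := by group
  refine ⟨k, (x ^ k)⁻¹ * a, hb, ?_, e⟩
  have h1 := G.comm_mul_left (P.pow_mem hx k) hb hw
  rw [← e, hk, G.comm_pow_left hx hw k] at h1
  have h2 : ⁅x, w⁆ ^ k * 1 = ⁅x, w⁆ ^ k * ⁅(x ^ k)⁻¹ * a, w⁆ := by rw [mul_one]; exact h1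
  exact commutatorElement_eq_one_iff_mul_comm.mp (mul_left_cancel h2).symm

theorem decomp_right (G : GXData p P Z) {x w u : Ω} (hx : x ∈ P) (hw : w ∈ P)
    (hxw : x * w ≠ w * x) (hu : u ∈ P) :
    ∃ j : ℕ, ∃ v ∈ P, x * v = v * x ∧ u = w ^ j * v := by
  have hc : ⁅x, w⁆ ∈ Z := G.hcomm x hx w hw
  have hc1 : ⁅x, w⁆ ≠ 1 := fun h => hxw (commutatorElement_eq_one_iff_mul_comm.mp h)
  obtain ⟨j, hj⟩ := G.gen hc hc1 (G.hcomm x hx u hu)
  have hv : (w ^ j)⁻¹ * u ∈ P := P.mul_mem (P.inv_mem (P.pow_mem hw j)) hu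
  have e : u = w ^ j * ((w ^ j)⁻¹ * u) := by group
  refine ⟨j, (w ^ j)⁻¹ * u, hv, ?_, e⟩
  have h1 := G.comm_mul_right hx (P.pow_mem hw j) hv
  rw [← e, hj, G.comm_pow_right hx hw j] at h1
  have h2 : ⁅x, w⁆ ^ j * 1 = ⁅x, w⁆ ^ j * ⁅x, (w ^ j)⁻¹ * u⁆ := by rw [mul_one]; exact h1
  exact commutatorElement_eq_one_iff_mul_comm.mp (mul_left_cancel h2).symm

theorem map_mem_Z (G : GXData p P Z) {R : Subgroup Ω} (hPR : P ≤ R) (ψ : ↥R →* Ω)
    (hψP : ∀ a (ha : a ∈ P), ψ ⟨a, hPR ha⟩ ∈ P) (hnab : ∃ a ∈ P, ∃ b ∈ P, a * b ≠ b * a) :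
    ∀ z (hz : z ∈ Z), ψ ⟨z, hPR (G.hZP hz)⟩ ∈ Z := by
  obtain ⟨a, ha, b, hb, hab⟩ := hnab
  have hc : ⁅a, b⁆ ∈ Z := G.hcomm a ha b hb
  have hc1 : ⁅a, b⁆ ≠ 1 := fun h => hab (commutatorElement_eq_one_iff_mul_comm.mp h)
  have hψc : ψ ⟨⁅a, b⁆, hPR (G.hZP hc)⟩ ∈ Z := by
    have e : (⟨⁅a, b⁆, hPR (G.hZP hc)⟩ : ↥R) = ⁅(⟨a, hPR ha⟩ : ↥R), ⟨b, hPR hb⟩⁆ :=
      Subtype.ext rfl
    rw [e, map_commutatorElement]
    exact G.hcomm _ (hψP a ha) _ (hψP b hb)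
  intro z hz
  obtain ⟨k, rfl⟩ := G.gen hc hc1 hz
  have e : (⟨⁅a, b⁆ ^ k, hPR (G.hZP hz)⟩ : ↥R) = ⟨⁅a, b⁆, hPR (G.hZP hc)⟩ ^ k := Subtype.ext rfl
  rw [e, map_pow]
  exact Z.pow_mem hψc k

theorem mem_Z_of_map (G : GXData p P Z) {R : Subgroup Ω} (hZR : Z ≤ R) (ψ : ↥R →* Ω)
    (hinj : Function.Injective ψ) (hψZ : ∀ z (hz : z ∈ Z), ψ ⟨z, hZR hz⟩ ∈ Z) (u : ↥R)
    (hu : ψ u ∈ Z) : (u : Ω) ∈ Z := by
  haveI := G.finiteZ
  let f : ↥Z → ↥Z := fun z => ⟨ψ ⟨z, hZR z.2⟩, hψZ z z.2⟩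
  have hf : Function.Injective f := by
    intro z₁ z₂ h
    have h1 : ψ ⟨z₁, hZR z₁.2⟩ = ψ ⟨z₂, hZR z₂.2⟩ := congrArg Subtype.val h
    have h2 := hinj h1
    exact Subtype.ext (Subtype.mk.inj h2)
  obtain ⟨z, hz⟩ := (Finite.injective_iff_surjective.mp hf) ⟨ψ u, hu⟩
  have h1 : ψ ⟨z, hZR z.2⟩ = ψ u := congrArg Subtype.val hz
  have h2 := hinj h1
  rw [← h2]
  exact z.2

theorem card_eq_p_mul (G : GXData p P Z) (Q K : Subgroup Ω) [Finite Q] (f : Ω → Ω)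
    (hfZ : ∀ a ∈ Q, f a ∈ Z) (hfmul : ∀ a ∈ Q, ∀ b ∈ Q, f (a * b) = f a * f b)
    (hne : ∃ a ∈ Q, f a ≠ 1) (hK : ∀ a, a ∈ K ↔ a ∈ Q ∧ f a = 1) :
    Nat.card Q = p * Nat.card K := by
  haveI : Fact (Nat.card ↥Z).Prime := by rw [G.hcard]; exact hp
  let φ : ↥Q →* ↥Z := MonoidHom.mk' (fun a => ⟨f a, hfZ a a.2⟩)
    (fun a b => Subtype.ext (hfmul a a.2 b b.2))
  have hsurj : Function.Surjective φ := by
    rw [← MonoidHom.range_eq_top]
    rcases (φ.range).eq_bot_or_eq_top_of_prime_card with h | h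
    · exfalso
      obtain ⟨a, ha, hfa⟩ := hne
      have h1 : φ ⟨a, ha⟩ ∈ φ.range := ⟨_, rfl⟩
      rw [h, Subgroup.mem_bot] at h1
      exact hfa (congrArg Subtype.val h1)
    · exact h
  have hKQ : K ≤ Q := fun a ha => ((hK a).mp ha).1
  have hker : φ.ker = K.subgroupOf Q := by
    ext a
    rw [MonoidHom.mem_ker, Subgroup.mem_subgroupOf, hK]
    constructor
    · intro h
      exact ⟨a.2, congrArg Subtype.val h⟩
    · intro h
      exact Subtype.ext h.2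
  have h1 := Subgroup.card_eq_card_quotient_mul_card_subgroup φ.ker
  have h2 : Nat.card (↥Q ⧸ φ.ker) = p := by
    rw [Nat.card_congr (QuotientGroup.quotientKerEquivOfSurjective φ hsurj).toEquiv, G.hcard]
  have h3 : Nat.card φ.ker = Nat.card K := by
    rw [hker]
    exact Nat.card_congr (Subgroup.subgroupOfEquivOfLe hKQ).toEquiv
  rw [h1, h2, h3]

theorem top_of (G : GXData p P Z) : GXData p (⊤ : Subgroup ↥P) (Z.subgroupOf P) where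
  hZP := le_top
  hcard := by
    rw [← G.hcard]
    exact Nat.card_congr (Subgroup.subgroupOfEquivOfLe G.hZP).toEquiv
  hcen := fun z hz a _ => Subtype.ext (G.hcen z (Subgroup.mem_subgroupOf.mp hz) a a.2)
  hcomm := fun a _ b _ => Subgroup.mem_subgroupOf.mpr (G.hcomm a a.2 b b.2)
  hpow := fun a _ => Subgroup.mem_subgroupOf.mpr (G.hpow a a.2)

end GXData

/-- internal direct product -/
theorem idp_top {G₀ : Type u} [Group G₀] (H K : Subgroup G₀)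
    (hcomm : ∀ h ∈ H, ∀ k ∈ K, h * k = k * h) (hdisj : ∀ g, g ∈ H → g ∈ K → g = 1)
    (hsurj : ∀ q : G₀, ∃ h ∈ H, ∃ k ∈ K, q = h * k) : Nonempty (G₀ ≃* ↥H × ↥K) := by
  let f : ↥H × ↥K →* G₀ := MonoidHom.noncommCoprod H.subtype K.subtype
    (fun h k => (show Commute (h : G₀) (k : G₀) from hcomm h h.2 k k.2))
  have hf : ∀ hk : ↥H × ↥K, f hk = (hk.1 : G₀) * (hk.2 : G₀) := fun hk => rfl
  have hinj : Function.Injective f := by
    rw [injective_iff_map_eq_one]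
    rintro ⟨h, k⟩ hhk
    rw [hf] at hhk
    have hhk' : (h : G₀) * (k : G₀) = 1 := hhk
    have h1 : (h : G₀) = (k : G₀)⁻¹ := eq_inv_of_mul_eq_one_left hhk'
    have h2 : (h : G₀) = 1 := hdisj _ h.2 (by rw [h1]; exact K.inv_mem k.2)
    have h3 : (k : G₀) = 1 := by
      rw [h2, one_mul] at hhk'
      exact hhk'
    exact Prod.ext (Subtype.ext h2) (Subtype.ext h3)
  have hsur : Function.Surjective f := by
    intro q
    obtain ⟨h, hh, k, hk, rfl⟩ := hsurj q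
    exact ⟨(⟨h, hh⟩, ⟨k, hk⟩), rfl⟩
  exact ⟨(MulEquiv.ofBijective f ⟨hinj, hsur⟩).symm⟩

/-- complements in elementary abelian groups -/
theorem exists_compl_comm {V : Type u} [CommGroup V] [Finite V] {p : ℕ} [hp : Fact p.Prime]
    (hexp : ∀ v : V, v ^ p = 1) (Z : Subgroup V) :
    ∃ A : Subgroup V, (∀ g, g ∈ A → g ∈ Z → g = 1) ∧ ∀ u : V, ∃ z ∈ Z, ∃ a ∈ A, u = z * a := by
  let 𝒮 : Set (Subgroup V) := {A | ∀ g, g ∈ A → g ∈ Z → g = 1}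
  have h𝒮 : 𝒮.Finite := Set.toFinite 𝒮
  have hbot : (⊥ : Subgroup V) ∈ 𝒮 := fun g hg _ => Subgroup.mem_bot.mp hg
  obtain ⟨A, -, hAmax⟩ := h𝒮.exists_le_maximal hbot
  have hAS : ∀ g, g ∈ A → g ∈ Z → g = 1 := hAmax.prop
  refine ⟨A, hAS, fun u => ?_⟩
  by_contra hno
  push Not at hno
  have hu1 : u ≠ 1 := fun h => hno 1 Z.one_mem 1 A.one_mem (by rw [h, one_mul])
  have hord : orderOf u = p := orderOf_eq_prime (hexp u) hu1
  have hcardu : Nat.card (Subgroup.zpowers u) = p := by rw [Nat.card_zpowers, hord]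
  have hA' : A ⊔ Subgroup.zpowers u ∈ 𝒮 := by
    intro g hg hgZ
    obtain ⟨a, ha, y, hy, rfl⟩ := Subgroup.mem_sup.mp hg
    by_cases hy1 : y = 1
    · subst hy1
      rw [mul_one] at hgZ ⊢
      exact hAS a ha hgZ
    · exfalso
      have h1 := mem_zpowers_of_prime_card (G := ↥(Subgroup.zpowers u)) hcardu (g := ⟨y, hy⟩)
        (g' := ⟨u, Subgroup.mem_zpowers u⟩) (fun h => hy1 (congrArg Subtype.val h))
      obtain ⟨m, hm⟩ := Subgroup.mem_zpowers_iff.mp h1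
      have hm' : y ^ m = u := congrArg Subtype.val hm
      have e : u = (a * y) ^ m * (a ^ m)⁻¹ := by
        rw [mul_zpow, hm', mul_comm (a ^ m) u, mul_inv_cancel_right]
      exact hno _ (Z.zpow_mem hgZ m) _ (A.inv_mem (A.zpow_mem ha m)) e
  have hle : A ≤ A ⊔ Subgroup.zpowers u := le_sup_left
  have h2 := hAmax.le_of_ge hA' hle
  have huA : u ∈ A := h2 ((le_sup_right : Subgroup.zpowers u ≤ _) (Subgroup.mem_zpowers u))
  exact hno 1 Z.one_mem u huA (one_mul u).symm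

end Cfsg.Agent.Lib.Helper1.GX
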