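import Mathlib
import Cfsg.Agent.Lib.Helper1.GX1
import Cfsg.Agent.Lib.Helper1.QdC3
import Cfsg.Agent.Lib.Helper1.DihedralRecognition

set_option autoImplicit false
set_option linter.style.haveILetI false
set_option linter.unusedSectionVars false
set_option linter.unusedVariables false
set_option maxHeartbeats 4000000

/-! Structure of a generalized extraspecial group with an elementary abelian centralizer of index
`p²`: it is `E × A` with `E` of order `p³`. -/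

namespace Cfsg.Agent.Lib.Helper1.GX

open scoped commutatorElement

universe u

theorem exceptional {G₀ : Type u} [Group G₀] [Finite G₀] {p : ℕ} [hp : Fact p.Prime]
    (Z : Subgroup G₀) (G : GXData p (⊤ : Subgroup G₀) Z) (x w : G₀) (hxw : x * w ≠ w * x)
    (hxp : x ^ p = 1) (hwp : w ^ p = 1)
    (hCexp : ∀ u : G₀, u * x = x * u → u * w = w * u → u ^ p = 1)
    (hCcomm : ∀ u v : G₀, u * x = x * u → u * w = w * u → v * x = x * v → v * w = w * v →
      u * v = v * u) :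
    ∃ E₀ A : Subgroup G₀, Nonempty (G₀ ≃* ↥E₀ × ↥A) ∧ Nat.card E₀ = p ^ 3 ∧ x ∈ E₀ ∧ w ∈ E₀ ∧
      (∀ a ∈ A, ∀ b ∈ A, a * b = b * a) ∧ (∀ a ∈ A, a ^ p = 1) := by
  have mt : ∀ a : G₀, a ∈ (⊤ : Subgroup G₀) := fun a => Subgroup.mem_top a
  have hc : ⁅x, w⁆ ∈ Z := G.hcomm x (mt x) w (mt w)
  have hc1 : ⁅x, w⁆ ≠ 1 := fun h => hxw (commutatorElement_eq_one_iff_mul_comm.mp h)
  have hordc : orderOf ⁅x, w⁆ = p := G.orderOf_eq hc hc1
  have hcenZ : ∀ z ∈ Z, ∀ a : G₀, a * z = z * a := fun z hz a => G.hcen z hz a (mt a)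
  haveI hZn : Z.Normal := ⟨fun n hn g => by rw [hcenZ n hn g, mul_inv_cancel_right]; exact hn⟩
  obtain ⟨M, hMdef⟩ : ∃ M : Subgroup G₀, M = Subgroup.zpowers w ⊔ Z := ⟨_, rfl⟩
  have hZM : Z ≤ M := hMdef ▸ le_sup_right
  haveI hMn : M.Normal := ⟨fun m hm g => by
    have e : g * m * g⁻¹ = ⁅g, m⁆ * m := by simp only [commutatorElement_def]; group
    rw [e]
    exact M.mul_mem (hZM (G.hcomm g (mt g) m (mt m))) hm⟩
  obtain ⟨E₀, hE₀def⟩ : ∃ E₀ : Subgroup G₀, E₀ = Subgroup.zpowers x ⊔ M := ⟨_, rfl⟩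
  have hxE : x ∈ E₀ := by
    rw [hE₀def]; exact (le_sup_left : Subgroup.zpowers x ≤ _) (Subgroup.mem_zpowers x)
  have hME : M ≤ E₀ := hE₀def ▸ le_sup_right
  have hwE : w ∈ E₀ := hME (by
    rw [hMdef]; exact (le_sup_left : Subgroup.zpowers w ≤ _) (Subgroup.mem_zpowers w))
  have hZE : Z ≤ E₀ := hZM.trans hME
  have nf : ∀ e ∈ E₀, ∃ i j : ℤ, ∃ z ∈ Z, e = x ^ i * w ^ j * z := by
    intro e he
    rw [hE₀def] at he
    obtain ⟨y, hy, m, hm, rfl⟩ := Subgroup.mem_sup_of_normal_right.mp he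
    rw [hMdef] at hm
    obtain ⟨y', hy', z, hz, rfl⟩ := Subgroup.mem_sup_of_normal_right.mp hm
    obtain ⟨i, rfl⟩ := Subgroup.mem_zpowers_iff.mp hy
    obtain ⟨j, rfl⟩ := Subgroup.mem_zpowers_iff.mp hy'
    exact ⟨i, j, z, hz, (mul_assoc _ _ _).symm⟩
  have kill : ∀ (y : G₀), y ^ p = 1 → ∀ i : ℤ, ⁅x, w⁆ ^ i = 1 → y ^ i = 1 := by
    intro y hy i hi
    have h1 : ((orderOf ⁅x, w⁆ : ℕ) : ℤ) ∣ i := orderOf_dvd_iff_zpow_eq_one.mpr hi
    rw [hordc] at h1
    obtain ⟨m, rfl⟩ := h1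
    rw [zpow_mul, zpow_natCast, hy, one_zpow]
  have key : ∀ e ∈ E₀, e * x = x * e → e * w = w * e → e ∈ Z := by
    intro e he hex hew
    obtain ⟨i, j, z, hz, rfl⟩ := nf e he
    have h1 : ⁅x ^ i * w ^ j * z, w⁆ = ⁅x, w⁆ ^ i := by
      rw [G.comm_mul_left (mt _) (mt _) (mt _), G.comm_mul_left (mt _) (mt _) (mt _),
        G.comm_zpow_left (mt _) (mt _), G.comm_central_left hz (mt _), mul_one]
      have : ⁅w ^ j, w⁆ = 1 :=
        commutatorElement_eq_one_iff_mul_comm.mpr ((Commute.refl w).zpow_left j).eq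
      rw [this, mul_one]
    have h2 : ⁅x, w⁆ ^ i = 1 := by
      rw [← h1]; exact commutatorElement_eq_one_iff_mul_comm.mpr hew
    have hxi : x ^ i = 1 := kill x hxp i h2
    rw [hxi, one_mul] at hex ⊢
    have h3 : ⁅x, w ^ j * z⁆ = ⁅x, w⁆ ^ j := by
      rw [G.comm_mul_right (mt _) (mt _) (mt _), G.comm_zpow_right (mt _) (mt _),
        G.comm_central_right hz (mt _), mul_one]
    have h4 : ⁅x, w⁆ ^ j = 1 := by
      rw [← h3]; exact commutatorElement_eq_one_iff_mul_comm.mpr hex.symm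
    rw [kill w hwp j h4, one_mul]
    exact hz
  -- card
  have hcard : Nat.card E₀ = p ^ 3 := by
    obtain ⟨K₁, hK₁⟩ : ∃ K₁ : Subgroup G₀, K₁ = E₀ ⊓ Subgroup.centralizer {w} := ⟨_, rfl⟩
    have hK₁mem : ∀ a, a ∈ K₁ ↔ a ∈ E₀ ∧ ⁅a, w⁆ = 1 := by
      intro a
      rw [hK₁, Subgroup.mem_inf, Subgroup.mem_centralizer_singleton_iff,
        commutatorElement_eq_one_iff_mul_comm]
    have h1 : Nat.card E₀ = p * Nat.card K₁ :=
      G.card_eq_p_mul E₀ K₁ (fun a => ⁅a, w⁆) (fun a _ => G.hcomm a (mt a) w (mt w))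
        (fun a _ b _ => G.comm_mul_left (mt a) (mt b) (mt w)) ⟨x, hxE, hc1⟩ hK₁mem
    have hZmem : ∀ a, a ∈ Z ↔ a ∈ K₁ ∧ ⁅x, a⁆ = 1 := by
      intro a
      constructor
      · intro ha
        exact ⟨(hK₁mem a).mpr ⟨hZE ha, G.comm_central_left ha (mt w)⟩,
          G.comm_central_right ha (mt x)⟩
      · rintro ⟨haK, hxa⟩
        obtain ⟨haE, haw⟩ := (hK₁mem a).mp haK
        exact key a haE (commutatorElement_eq_one_iff_mul_comm.mp hxa).symm
          (commutatorElement_eq_one_iff_mul_comm.mp haw)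
    have hwK : w ∈ K₁ := (hK₁mem w).mpr ⟨hwE, commutatorElement_self w⟩
    have h2 : Nat.card K₁ = p * Nat.card Z :=
      G.card_eq_p_mul K₁ Z (fun a => ⁅x, a⁆) (fun a _ => G.hcomm x (mt x) a (mt a))
        (fun a _ b _ => G.comm_mul_right (mt x) (mt a) (mt b)) ⟨w, hwK, hc1⟩ hZmem
    rw [h1, h2, G.hcard]; ring
  -- complement
  obtain ⟨C, hCdef⟩ : ∃ C : Subgroup G₀,
      C = Subgroup.centralizer {x} ⊓ Subgroup.centralizer {w} := ⟨_, rfl⟩
  have hCmem : ∀ u, u ∈ C ↔ u * x = x * u ∧ u * w = w * u := by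
    intro u
    rw [hCdef, Subgroup.mem_inf, Subgroup.mem_centralizer_singleton_iff,
      Subgroup.mem_centralizer_singleton_iff]
  have hZC : Z ≤ C := fun z hz => (hCmem z).mpr ⟨(hcenZ z hz x).symm, (hcenZ z hz w).symm⟩
  letI : CommGroup ↥C := { (inferInstance : Group ↥C) with
    mul_comm := fun u v => Subtype.ext (hCcomm u v ((hCmem u).mp u.2).1 ((hCmem u).mp u.2).2
      ((hCmem v).mp v.2).1 ((hCmem v).mp v.2).2) }
  obtain ⟨A', hA'Z, hA'gen⟩ := exists_compl_comm (V := ↥C) (p := p)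
    (fun u => Subtype.ext (hCexp u ((hCmem u).mp u.2).1 ((hCmem u).mp u.2).2)) (Z.subgroupOf C)
  obtain ⟨A, hAdef⟩ : ∃ A : Subgroup G₀, A = A'.map C.subtype := ⟨_, rfl⟩
  have hAC : A ≤ C := by
    rw [hAdef]
    rintro _ ⟨a, -, rfl⟩
    exact a.2
  have hAZ : ∀ g, g ∈ A → g ∈ Z → g = 1 := by
    intro g hgA hgZ
    rw [hAdef] at hgA
    obtain ⟨a, ha, rfl⟩ := hgA
    have := hA'Z a ha (Subgroup.mem_subgroupOf.mpr hgZ)
    rw [this]
    rfl
  have hAgen : ∀ u ∈ C, ∃ z ∈ Z, ∃ a ∈ A, u = z * a := by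
    intro u hu
    obtain ⟨z, hz, a, ha, hza⟩ := hA'gen ⟨u, hu⟩
    refine ⟨z, Subgroup.mem_subgroupOf.mp hz, a, ?_, congrArg Subtype.val hza⟩
    rw [hAdef]
    exact ⟨a, ha, rfl⟩
  have hiso : Nonempty (G₀ ≃* ↥E₀ × ↥A) := by
    apply idp_top E₀ A
    · intro e he a ha
      obtain ⟨hax, haw⟩ := (hCmem a).mp (hAC ha)
      obtain ⟨i, j, z, hz, rfl⟩ := nf e he
      have h1 : Commute a (x ^ i) := (show Commute a x from hax).zpow_right i
      have h2 : Commute a (w ^ j) := (show Commute a w from haw).zpow_right j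
      have h3 : Commute a z := hcenZ z hz a
      exact ((h1.mul_right h2).mul_right h3).symm.eq
    · intro g hgE hgA
      obtain ⟨hgx, hgw⟩ := (hCmem g).mp (hAC hgA)
      exact hAZ g hgA (key g hgE hgx hgw)
    · intro q
      obtain ⟨k, b, -, hbw, rfl⟩ := G.decomp (mt x) (mt w) hxw (mt q)
      obtain ⟨j, v, -, hxv, rfl⟩ := G.decomp_right (mt x) (mt w) hxw (mt b)
      have hvw : v * w = w * v := by
        have h1 : Commute (w ^ j * v) w := hbw
        have h2 : Commute (w ^ j) w := (Commute.refl w).pow_left j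
        have h3 : Commute ((w ^ j)⁻¹ * (w ^ j * v)) w := (h2.inv_left).mul_left h1
        rwa [inv_mul_cancel_left] at h3
      obtain ⟨z, hz, a, ha, rfl⟩ := hAgen v ((hCmem v).mpr ⟨hxv.symm, hvw⟩)
      refine ⟨x ^ k * w ^ j * z,
        E₀.mul_mem (E₀.mul_mem (E₀.pow_mem hxE k) (E₀.pow_mem hwE j)) (hZE hz), a, ha, ?_⟩
      group
  refine ⟨E₀, A, hiso, hcard, hxE, hwE, ?_, ?_⟩
  · intro a ha b hb
    obtain ⟨h1, h2⟩ := (hCmem a).mp (hAC ha)
    obtain ⟨h3, h4⟩ := (hCmem b).mp (hAC hb)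
    exact hCcomm a b h1 h2 h3 h4
  · intro a ha
    obtain ⟨h1, h2⟩ := (hCmem a).mp (hAC ha)
    exact hCexp a h1 h2

/-- a copy of `Fin n` without any algebraic structure -/
structure Box (n : ℕ) : Type where
  val : Fin n

def boxEquiv (n : ℕ) : Box n ≃ Fin n := ⟨Box.val, Box.mk, fun _ => rfl, fun _ => rfl⟩

theorem exists_small_group (Y : Type u) [Group Y] [Finite Y] :
    ∃ (E : Type) (_ : Group E), Nonempty (Y ≃* E) := by
  let e : Box (Nat.card Y) ≃ Y := (boxEquiv _).trans (Finite.equivFin Y).symm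
  letI : Group (Box (Nat.card Y)) := e.group
  exact ⟨Box (Nat.card Y), inferInstance, ⟨e.mulEquiv.symm⟩⟩

theorem exists_small_commGroup (Y : Type u) [Group Y] [Finite Y]
    (h : ∀ a b : Y, a * b = b * a) : ∃ (A : Type) (_ : CommGroup A), Nonempty (Y ≃* A) := by
  letI : CommGroup Y := { (inferInstance : Group Y) with mul_comm := h }
  let e : Box (Nat.card Y) ≃ Y := (boxEquiv _).trans (Finite.equivFin Y).symm
  letI : CommGroup (Box (Nat.card Y)) := e.commGroup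
  exact ⟨Box (Nat.card Y), inferInstance, ⟨e.mulEquiv.symm⟩⟩

theorem exceptional_odd {G₀ : Type u} [Group G₀] [Finite G₀] {p : ℕ} [hp : Fact p.Prime]
    (Z : Subgroup G₀) (G : GXData p (⊤ : Subgroup G₀) Z) (x w : G₀) (hxw : x * w ≠ w * x)
    (hexp : ∀ a : G₀, a ^ p = 1)
    (hCcomm : ∀ u v : G₀, u * x = x * u → u * w = w * u → v * x = x * v → v * w = w * v →
      u * v = v * u) :
    ∃ (E : Type) (_ : Group E) (A : Type) (_ : CommGroup A), Cfsg.IsExtraspecial p E ∧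
      Nat.card E = p ^ 3 ∧ Monoid.exponent E = p ∧ (∀ a : A, a ^ p = 1) ∧
      Nonempty (G₀ ≃* E × A) := by
  obtain ⟨E₀, A₀, ⟨iso⟩, hcard, hxE, hwE, hAc, hAe⟩ :=
    exceptional Z G x w hxw (hexp x) (hexp w) (fun u _ _ => hexp u) hCcomm
  obtain ⟨E, instE, ⟨eE⟩⟩ := exists_small_group ↥E₀
  obtain ⟨A, instA, ⟨eA⟩⟩ := exists_small_commGroup ↥A₀
    (fun a b => Subtype.ext (hAc a a.2 b b.2))
  have hcardE : Nat.card E = p ^ 3 := by
    rw [← hcard]
    exact (Nat.card_congr eE.toEquiv).symm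
  have hne : eE ⟨x, hxE⟩ * eE ⟨w, hwE⟩ ≠ eE ⟨w, hwE⟩ * eE ⟨x, hxE⟩ := by
    rw [← map_mul, ← map_mul]
    intro h
    exact hxw (congrArg Subtype.val (eE.injective h))
  refine ⟨E, instE, A, instA, ?_, hcardE, ?_, ?_, ⟨iso.trans (MulEquiv.prodCongr eE eA)⟩⟩
  · exact QdC.isExtraspecial_of_card_cube hcardE ⟨_, _, hne⟩
  · have h1 : Monoid.exponent E ∣ p := Monoid.exponent_dvd_of_forall_pow_eq_one (fun e => by
      obtain ⟨y, rfl⟩ := eE.surjective e
      rw [← map_pow]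
      have : y ^ p = 1 := Subtype.ext (hexp y)
      rw [this, map_one])
    rcases (Nat.dvd_prime hp.out).mp h1 with h | h
    · exfalso
      rw [Monoid.exp_eq_one_iff] at h
      exact hne (Subsingleton.elim _ _)
    · exact h
  · intro a
    obtain ⟨y, rfl⟩ := eA.surjective a
    rw [← map_pow]
    have : y ^ p = 1 := Subtype.ext (hAe y y.2)
    rw [this, map_one]

theorem exceptional_two {G₀ : Type u} [Group G₀] [Finite G₀]
    (Z : Subgroup G₀) (G : GXData 2 (⊤ : Subgroup G₀) Z) (x w : G₀) (hxw : x * w ≠ w * x)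
    (hxp : x ^ 2 = 1) (hwp : w ^ 2 = 1)
    (hCexp : ∀ u : G₀, u * x = x * u → u * w = w * u → u ^ 2 = 1)
    (hCcomm : ∀ u v : G₀, u * x = x * u → u * w = w * u → v * x = x * v → v * w = w * v →
      u * v = v * u) :
    ∃ (A : Type) (_ : CommGroup A), (∀ a : A, a ^ 2 = 1) ∧
      Nonempty (G₀ ≃* DihedralGroup 4 × A) := by
  obtain ⟨E₀, A₀, ⟨iso⟩, hcard, hxE, hwE, hAc, hAe⟩ :=
    exceptional Z G x w hxw hxp hwp hCexp hCcomm
  have mt : ∀ a : G₀, a ∈ (⊤ : Subgroup G₀) := fun a => Subgroup.mem_top a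
  have hc : ⁅x, w⁆ ∈ Z := G.hcomm x (mt x) w (mt w)
  have hc1 : ⁅x, w⁆ ≠ 1 := fun h => hxw (commutatorElement_eq_one_iff_mul_comm.mp h)
  have hx2 : x * x = 1 := by rw [← pow_two]; exact hxp
  have hw2 : w * w = 1 := by rw [← pow_two]; exact hwp
  have hxinv : x⁻¹ = x := inv_eq_of_mul_eq_one_right hx2
  have hwinv : w⁻¹ = w := inv_eq_of_mul_eq_one_right hw2
  have hsq : (x * w) ^ 2 = ⁅x, w⁆ := by
    rw [commutatorElement_def, hxinv, hwinv, pow_two]
    group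
  have hc2 : ⁅x, w⁆ ^ 2 = 1 := G.pow_p_eq_one hc
  have hord : orderOf (x * w) = 4 := by
    have h := orderOf_eq_prime_pow (p := 2) (n := 1) (x := x * w)
      (by rw [pow_one, hsq]; exact hc1)
      (by rw [show (2 : ℕ) ^ (1 + 1) = 2 * 2 from rfl, pow_mul, hsq, hc2])
    rw [h]
    norm_num
  have hD : Nonempty (↥E₀ ≃* DihedralGroup 4) := by
    apply nonempty_mulEquiv_dihedralGroup 4 (⟨x * w, E₀.mul_mem hxE hwE⟩ : ↥E₀) ⟨x, hxE⟩
    · rw [← hord]
      exact (Subgroup.orderOf_coe (⟨x * w, E₀.mul_mem hxE hwE⟩ : ↥E₀)).symm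
    · intro h
      obtain ⟨k, hk⟩ := Subgroup.mem_zpowers_iff.mp h
      have h1 : Commute ((⟨x * w, E₀.mul_mem hxE hwE⟩ : ↥E₀) ^ k) ⟨x * w, E₀.mul_mem hxE hwE⟩ :=
        (Commute.refl _).zpow_left k
      rw [hk] at h1
      have h2 : x * (x * w) = x * w * x := congrArg Subtype.val h1.eq
      rw [mul_assoc] at h2
      exact hxw (mul_left_cancel h2)
    · exact Subtype.ext hx2
    · apply Subtype.ext
      show x * (x * w) * x⁻¹ = (x * w)⁻¹
      rw [mul_inv_rev, hxinv, hwinv, ← mul_assoc, hx2, one_mul]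
    · rw [hcard]
      norm_num
  obtain ⟨eD⟩ := hD
  obtain ⟨A, instA, ⟨eA⟩⟩ := exists_small_commGroup ↥A₀
    (fun a b => Subtype.ext (hAc a a.2 b b.2))
  refine ⟨A, instA, ?_, ⟨iso.trans (MulEquiv.prodCongr eD eA)⟩⟩
  intro a
  obtain ⟨y, rfl⟩ := eA.surjective a
  rw [← map_pow]
  have : y ^ 2 = 1 := Subtype.ext (hAe y y.2)
  rw [this, map_one]

end Cfsg.Agent.Lib.Helper1.GX
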