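import Mathlib
import Cfsg.Agent.Lib.Helper1.GX2
import Cfsg.Agent.Lib.Helper1.ET9
import Cfsg.Agent.Lib.Helper1.Rk3
import Cfsg.Agent.Lib.Helper1.FrattiniP
import Cfsg.Agent.Lib.Helper1.KN2
import Cfsg.Agent.Lib.Helper9.NormalSeries

set_option autoImplicit false
set_option linter.style.haveILetI false
set_option linter.unusedSectionVars false
set_option linter.unusedVariables false
set_option maxHeartbeats 4000000

/-! Strongly closed generalized extraspecial subgroups: fusion-theoretic part. -/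

namespace Cfsg.Agent.Lib.Helper1.GX

open Cfsg Cfsg.FusionSystem Cfsg.Agent.Lib.Helper9 Cfsg.Agent.Lib.Helper7 Cfsg.Agent.Lib.Helper1
  Cfsg.Agent.Lib.Helper1.ET

open scoped commutatorElement

universe u

variable {Ω : Type u} [Group Ω] {S : Subgroup Ω}

/-- a `p`-subgroup of `Aut_F(Q)` is conjugate into `Aut_S(Q)` (`Q` fully normalized) -/
theorem exists_conj_le_autInducedBy [Finite S] {p : ℕ} [Fact p.Prime] (hS : IsPGroup p S)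
    (F : FusionSystem S) (hF : F.IsSaturated p) {Q : Subgroup Ω} (hQfn : F.IsFullyNormalized Q)
    (D : Subgroup (MulAut ↥Q)) (hD : IsPGroup p D) (hDG : D ≤ F.autGroup Q) :
    ∃ γ ∈ F.autGroup Q, ∀ d ∈ D, γ * d * γ⁻¹ ∈ autInducedBy S Q := by
  haveI : Finite ↥Q := finite_of_le hQfn.1
  obtain ⟨-, R, hR⟩ := fullyAutomized_of_fullyNormalized hS F hF hQfn
  have hD' : IsPGroup p (D.subgroupOf (F.autGroup Q)) := hD.comap_subtype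
  obtain ⟨Q', hQ'⟩ := hD'.exists_le_sylow
  obtain ⟨γ, hγ⟩ := MulAction.exists_smul_eq ↥(F.autGroup Q) Q' R
  refine ⟨γ.1, γ.2, fun d hd => ?_⟩
  have h1 : (⟨d, hDG hd⟩ : ↥(F.autGroup Q)) ∈ (Q' : Subgroup ↥(F.autGroup Q)) :=
    hQ' (Subgroup.mem_subgroupOf.mpr hd)
  have h2 : (MulAut.conj γ).toMonoidHom ⟨d, hDG hd⟩ ∈ ((γ • Q' : Sylow p ↥(F.autGroup Q)) :
      Subgroup ↥(F.autGroup Q)) := by
    rw [Sylow.smul_def, Sylow.pointwise_smul_def]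
    exact Subgroup.smul_mem_pointwise_smul _ (MulAut.conj γ) _ h1
  rw [hγ, hR, Subgroup.mem_subgroupOf] at h2
  exact h2

theorem exists_ext_centralizer [Finite S] {p : ℕ} [Fact p.Prime] (hS : IsPGroup p S)
    (F : FusionSystem S) (hF : F.IsSaturated p) {z : Ω} (hzS : z ∈ S)
    (hzc : ∀ s ∈ S, s * z = z * s) {φ₀ : ↥(Subgroup.zpowers z) →* Ω}
    (hφ₀ : φ₀ ∈ F.Hom (Subgroup.zpowers z)) :
    ∃ (N : Subgroup Ω) (ρ : ↥N →* Ω), ρ ∈ F.Hom N ∧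
      (∀ a ∈ S, a * φ₀ ⟨z, Subgroup.mem_zpowers z⟩ = φ₀ ⟨z, Subgroup.mem_zpowers z⟩ * a →
        a ∈ N) ∧
      ∀ (h : φ₀ ⟨z, Subgroup.mem_zpowers z⟩ ∈ N), ρ ⟨_, h⟩ = z := by
  have hZzS : Subgroup.zpowers z ≤ S := Subgroup.zpowers_le.mpr hzS
  obtain ⟨θ, hθ, hθφ, hθr, -⟩ := inv_hom F hφ₀ rfl
  have hfc : F.IsFullyCentralized (Subgroup.zpowers z) := by
    refine ⟨hZzS, fun Q _ => ?_⟩
    have h1 : centralizerIn S Q ≤ centralizerIn S (Subgroup.zpowers z) := by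
      intro a ha
      refine ⟨ha.1, ?_⟩
      show a ∈ Subgroup.centralizer ((Subgroup.zpowers z : Subgroup Ω) : Set Ω)
      rw [Subgroup.mem_centralizer_iff]
      intro y hy
      obtain ⟨k, rfl⟩ := Subgroup.mem_zpowers_iff.mp hy
      exact ((show Commute a z from hzc a ha.1).zpow_right k).symm.eq
    haveI : Finite ↥(centralizerIn S (Subgroup.zpowers z)) := finite_centralizerIn _
    exact Subgroup.card_le_of_le h1
  have hrec := receptive_of_fullyCentralized hS F hF hfc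
  obtain ⟨ρ, hρ, hρθ⟩ := hrec.2 φ₀.range θ hθ hθr
  refine ⟨extender S φ₀.range θ, ρ, hρ, ?_, ?_⟩
  · intro a haS haw
    apply centralizerIn_le_extender φ₀.range θ
    refine ⟨haS, ?_⟩
    show a ∈ Subgroup.centralizer ((φ₀.range : Subgroup Ω) : Set Ω)
    rw [Subgroup.mem_centralizer_iff]
    rintro _ ⟨u, rfl⟩
    obtain ⟨k, hk⟩ := Subgroup.mem_zpowers_iff.mp u.2
    have hu : u = (⟨z, Subgroup.mem_zpowers z⟩ : ↥(Subgroup.zpowers z)) ^ k :=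
      Subtype.ext hk.symm
    rw [hu, map_zpow]
    exact ((show Commute a (φ₀ ⟨z, Subgroup.mem_zpowers z⟩) from haw).zpow_right k).symm.eq
  · intro h
    rw [hρθ _ ⟨_, rfl⟩ h]
    exact hθφ ⟨z, Subgroup.mem_zpowers z⟩ ⟨_, rfl⟩

theorem gxData_of [Finite S] {p : ℕ} [hp : Fact p.Prime] (hS : IsPGroup p S)
    (F : FusionSystem S) {P : Subgroup Ω} (hP : F.StronglyClosed P)
    (hge : frattini ↥P = commutator ↥P ∧ Nat.card ↥(commutator ↥P) = p) :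
    ∃ Z : Subgroup Ω, GXData p P Z ∧ (∀ z ∈ Z, ∀ s ∈ S, s * z = z * s) ∧
      ∃ a ∈ P, ∃ b ∈ P, a * b ≠ b * a := by
  have hPS := hP.1
  haveI : Finite ↥P := finite_of_le hPS
  have hPp : IsPGroup p ↥P := isPGroup_of_le hS hPS
  obtain ⟨Z, hZdef⟩ : ∃ Z : Subgroup Ω, Z = (commutator ↥P).map P.subtype := ⟨_, rfl⟩
  have hZP : Z ≤ P := by
    rw [hZdef]
    rintro _ ⟨u, -, rfl⟩
    exact u.2
  have hcard : Nat.card Z = p := by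
    rw [hZdef, Subgroup.card_map_of_injective P.subtype_injective]
    exact hge.2
  have hcommZ : ∀ a ∈ P, ∀ b ∈ P, ⁅a, b⁆ ∈ Z := by
    intro a ha b hb
    rw [hZdef]
    refine ⟨⁅(⟨a, ha⟩ : ↥P), (⟨b, hb⟩ : ↥P)⁆, ?_, rfl⟩
    rw [commutator_def]
    exact Subgroup.commutator_mem_commutator (Subgroup.mem_top _) (Subgroup.mem_top _)
  have hpowZ : ∀ a ∈ P, a ^ p ∈ Z := by
    intro a ha
    have h1 := pow_prime_mem_frattini_of_isPGroup p hPp (⟨a, ha⟩ : ↥P)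
    rw [hge.1] at h1
    rw [hZdef]
    exact ⟨_, h1, rfl⟩
  have hnorm : ∀ s ∈ S, ∀ z ∈ Z, s * z * s⁻¹ ∈ Z := by
    intro s hs z hz
    have hsN : s ∈ Subgroup.normalizer (P : Set Ω) := le_normalizer_of_stronglyClosed F hP hs
    rw [hZdef] at hz ⊢
    obtain ⟨u, hu, rfl⟩ := hz
    have h2 := Subgroup.Characteristic.fixed
      (inferInstance : (commutator ↥P).Characteristic) (conjAut P ⟨s, hsN⟩)
    have h3 : conjAut P ⟨s, hsN⟩ u ∈ commutator ↥P := (SetLike.ext_iff.mp h2 u).mpr hu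
    exact ⟨_, h3, rfl⟩
  have hZS : Z ≤ S := hZP.trans hPS
  have hcenS : ∀ z ∈ Z, ∀ s ∈ S, s * z = z * s := by
    haveI : (Z.subgroupOf S).Normal := ⟨fun n hn g =>
      Subgroup.mem_subgroupOf.mpr (hnorm g g.2 n (Subgroup.mem_subgroupOf.mp hn))⟩
    haveI : Group.IsNilpotent ↥S := hS.isNilpotent
    have hNcard : Nat.card (Z.subgroupOf S) = p := by
      rw [← hcard]
      exact Nat.card_congr (Subgroup.subgroupOfEquivOfLe hZS).toEquiv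
    have hle := Rk.le_center_of_normal_card_prime (Z.subgroupOf S) hNcard
    intro z hz s hs
    have h1 : (⟨z, hZS hz⟩ : ↥S) ∈ Subgroup.center ↥S := hle (Subgroup.mem_subgroupOf.mpr hz)
    have h2 := Subgroup.mem_center_iff.mp h1 ⟨s, hs⟩
    exact congrArg Subtype.val h2
  refine ⟨Z, ⟨hZP, hcard, fun z hz a ha => hcenS z hz a (hPS ha), hcommZ, hpowZ⟩, hcenS, ?_⟩
  by_contra hno
  push Not at hno
  have hbot : commutator ↥P = ⊥ := by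
    rw [eq_bot_iff, commutator_def, Subgroup.commutator_le]
    intro a _ b _
    rw [Subgroup.mem_bot, commutatorElement_eq_one_iff_mul_comm]
    exact Subtype.ext (hno a a.2 b b.2)
  have h1 := hge.2
  rw [hbot, Subgroup.card_bot] at h1
  exact hp.out.one_lt.ne h1

theorem struct_of_conj [Finite S] {p : ℕ} [hp : Fact p.Prime] (hS : IsPGroup p S)
    (F : FusionSystem S) (hF : F.IsSaturated p) {P Z : Subgroup Ω} (hP : F.StronglyClosed P)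
    (G : GXData p P Z) (hZS : ∀ z ∈ Z, ∀ s ∈ S, s * z = z * s)
    (hnab : ∃ a ∈ P, ∃ b ∈ P, a * b ≠ b * a) {z : Ω} (hz : z ∈ Z)
    {φ₀ : ↥(Subgroup.zpowers z) →* Ω} (hφ₀ : φ₀ ∈ F.Hom (Subgroup.zpowers z)) (w : Ω)
    (hw : φ₀ ⟨z, Subgroup.mem_zpowers z⟩ = w) (hwZ : w ∉ Z) :
    w ∈ P ∧ (∀ a ∈ P, a * w = w * a → ∀ b ∈ P, b * w = w * b → a * b = b * a) ∧
      (∀ a ∈ P, a * w = w * a → a ^ p = 1) ∧ (∃ x ∈ P, x * w ≠ w * x) ∧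
      ∃ θ₀ : ↥(P ⊓ Subgroup.centralizer {w}) →* Ω,
        θ₀ ∈ F.Hom (P ⊓ Subgroup.centralizer {w}) ∧ (∀ a, θ₀ a ∈ P) ∧
        ∀ (h : w ∈ P ⊓ Subgroup.centralizer {w}), θ₀ ⟨w, h⟩ = z := by
  subst hw
  have hPS := hP.1
  have hzS : z ∈ S := hPS (G.hZP hz)
  obtain ⟨N, ρ, hρ, hN, hρw⟩ := exists_ext_centralizer hS F hF hzS (hZS z hz) hφ₀
  obtain ⟨w, hwdef⟩ : ∃ w, w = φ₀ ⟨z, Subgroup.mem_zpowers z⟩ := ⟨_, rfl⟩
  rw [← hwdef] at hN hρw hwZ ⊢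
  have hwP : w ∈ P := by
    rw [hwdef]
    exact hP.2 (Subgroup.zpowers z) (Subgroup.zpowers_le.mpr (G.hZP hz)) φ₀ hφ₀ _
  obtain ⟨P₀, hP₀def⟩ : ∃ P₀, P₀ = P ⊓ Subgroup.centralizer {w} := ⟨_, rfl⟩
  rw [← hP₀def]
  have hP₀mem : ∀ a, a ∈ P₀ ↔ a ∈ P ∧ a * w = w * a := by
    intro a
    rw [hP₀def, Subgroup.mem_inf, Subgroup.mem_centralizer_singleton_iff]
  have hP₀P : P₀ ≤ P := fun a ha => ((hP₀mem a).mp ha).1
  have hP₀N : P₀ ≤ N := fun a ha => hN a (hPS (hP₀P ha)) ((hP₀mem a).mp ha).2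
  have hθ₀ := restrict_mem F hρ hP₀N
  obtain ⟨θ₀, hθ₀def⟩ : ∃ θ₀ : ↥P₀ →* Ω, θ₀ = ρ.comp (Subgroup.inclusion hP₀N) := ⟨_, rfl⟩
  rw [← hθ₀def] at hθ₀
  have hθ₀P : ∀ a, θ₀ a ∈ P := hP.2 P₀ hP₀P θ₀ hθ₀
  have hwP₀ : w ∈ P₀ := (hP₀mem w).mpr ⟨hwP, rfl⟩
  have hθ₀w : ∀ h : w ∈ P₀, θ₀ ⟨w, h⟩ = z := by
    intro h
    rw [hθ₀def]
    exact hρw (hP₀N h)
  have hZP₀ : Z ≤ P₀ := fun z' hz' =>
    (hP₀mem z').mpr ⟨G.hZP hz', (G.hcen z' hz' w hwP).symm⟩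
  have hinj := F.injective_of_mem hθ₀
  have key : ¬ ∃ c₀ : ↥P₀, (c₀ : Ω) ∈ Z ∧ (c₀ : Ω) ≠ 1 ∧ θ₀ c₀ ∈ Z := by
    rintro ⟨c₀, hc₀Z, hc₀1, hθc₀⟩
    have hθZ : ∀ z' (hz' : z' ∈ Z), θ₀ ⟨z', hZP₀ hz'⟩ ∈ Z := by
      intro z' hz'
      obtain ⟨k, rfl⟩ := G.gen hc₀Z hc₀1 hz'
      have e : (⟨(c₀ : Ω) ^ k, hZP₀ hz'⟩ : ↥P₀) = c₀ ^ k := Subtype.ext rfl
      rw [e, map_pow]
      exact Z.pow_mem hθc₀ k
    have := G.mem_Z_of_map hZP₀ θ₀ hinj hθZ ⟨w, hwP₀⟩ (by rw [hθ₀w]; exact hz)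
    exact hwZ this
  have E1 : ∀ a ∈ P, a * w = w * a → ∀ b ∈ P, b * w = w * b → a * b = b * a := by
    intro a ha haw b hb hbw
    by_contra hab
    apply key
    have haP₀ : a ∈ P₀ := (hP₀mem a).mpr ⟨ha, haw⟩
    have hbP₀ : b ∈ P₀ := (hP₀mem b).mpr ⟨hb, hbw⟩
    refine ⟨⁅(⟨a, haP₀⟩ : ↥P₀), (⟨b, hbP₀⟩ : ↥P₀)⁆, G.hcomm a ha b hb, ?_, ?_⟩
    · exact fun h => hab (commutatorElement_eq_one_iff_mul_comm.mp h)
    · rw [map_commutatorElement]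
      exact G.hcomm _ (hθ₀P _) _ (hθ₀P _)
  have E2 : ∀ a ∈ P, a * w = w * a → a ^ p = 1 := by
    intro a ha haw
    by_contra hap
    apply key
    have haP₀ : a ∈ P₀ := (hP₀mem a).mpr ⟨ha, haw⟩
    refine ⟨(⟨a, haP₀⟩ : ↥P₀) ^ p, G.hpow a ha, hap, ?_⟩
    rw [map_pow]
    exact G.hpow _ (hθ₀P _)
  refine ⟨hwP, E1, E2, ?_, θ₀, hθ₀, hθ₀P, hθ₀w⟩
  by_contra hall
  push Not at hall
  obtain ⟨a, ha, b, hb, hab⟩ := hnab
  exact hab (E1 a ha (hall a ha) b hb (hall b hb))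

end Cfsg.Agent.Lib.Helper1.GX
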