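import Mathlib
import Cfsg.Agent.Lib.Helper1.GX3

set_option autoImplicit false
set_option linter.style.haveILetI false
set_option linter.unusedSectionVars false
set_option linter.unusedVariables false
set_option maxHeartbeats 4000000

/-! Strongly closed generalized extraspecial subgroups: the local `SL₂` argument. -/

namespace Cfsg.Agent.Lib.Helper1.GX

open Cfsg Cfsg.FusionSystem Cfsg.Agent.Lib.Helper9 Cfsg.Agent.Lib.Helper7 Cfsg.Agent.Lib.Helper1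
  Cfsg.Agent.Lib.Helper1.ET

open scoped commutatorElement

universe u

variable {Ω : Type u} [Group Ω] {S : Subgroup Ω}

/-- replace `w` by a conjugate whose centralizer in `P` is fully normalized -/
theorem exists_fn_conj [Finite S] {p : ℕ} [hp : Fact p.Prime] (hS : IsPGroup p S)
    (F : FusionSystem S) (hF : F.IsSaturated p) {P Z : Subgroup Ω} (hP : F.StronglyClosed P)
    (G : GXData p P Z) (hnab : ∃ a ∈ P, ∃ b ∈ P, a * b ≠ b * a) {z : Ω} (hz : z ∈ Z)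
    {φ₀ : ↥(Subgroup.zpowers z) →* Ω} (hφ₀ : φ₀ ∈ F.Hom (Subgroup.zpowers z)) (w : Ω)
    (hw : φ₀ ⟨z, Subgroup.mem_zpowers z⟩ = w) (hwZ : w ∉ Z) :
    ∃ (w' : Ω) (φ₁ : ↥(Subgroup.zpowers z) →* Ω), φ₁ ∈ F.Hom (Subgroup.zpowers z) ∧
      φ₁ ⟨z, Subgroup.mem_zpowers z⟩ = w' ∧ w' ∉ Z ∧
      F.IsFullyNormalized (P ⊓ Subgroup.centralizer {w'}) := by
  have hPS := hP.1
  haveI : Finite ↥P := finite_of_le hPS
  have hzP : Subgroup.zpowers z ≤ P := Subgroup.zpowers_le.mpr (G.hZP hz)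
  have hφ₀P : ∀ u, φ₀ u ∈ P := hP.2 (Subgroup.zpowers z) hzP φ₀ hφ₀
  have hwP : w ∈ P := hw ▸ hφ₀P _
  obtain ⟨P₀, hP₀def⟩ : ∃ P₀, P₀ = P ⊓ Subgroup.centralizer {w} := ⟨_, rfl⟩
  have hP₀mem : ∀ a, a ∈ P₀ ↔ a ∈ P ∧ a * w = w * a := by
    intro a
    rw [hP₀def, Subgroup.mem_inf, Subgroup.mem_centralizer_singleton_iff]
  have hP₀P : P₀ ≤ P := fun a ha => ((hP₀mem a).mp ha).1
  have hP₀S := hP₀P.trans hPS
  haveI : Finite ↥P₀ := finite_of_le hP₀S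
  have hZP₀ : Z ≤ P₀ := fun z' hz' =>
    (hP₀mem z').mpr ⟨G.hZP hz', (G.hcen z' hz' w hwP).symm⟩
  obtain ⟨Q₀, hconj, hQfn⟩ := exists_isConj_fullyNormalized F hP₀S
  have hfa := fullyAutomized_of_fullyNormalized hS F hF hQfn
  have hrec := receptive_of_fullyCentralized hS F hF
    (fullyCentralized_of_fullyNormalized hS F hF hQfn)
  obtain ⟨χ, hχ, hχN, hχQ⟩ := exists_normalizer_hom hS F Q₀ P₀ hfa hrec hconj
  have hPN : P ≤ normalizerIn S P₀ := by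
    intro a ha
    refine ⟨hPS ha, KN.mem_normalizer_of_forall_conj_mem (fun b hb => ?_)⟩
    have e : a * b * a⁻¹ = ⁅a, b⁆ * b := by simp only [commutatorElement_def]; group
    rw [e]
    exact P₀.mul_mem (hZP₀ (G.hcomm a ha b (hP₀P hb))) hb
  have hχPm := restrict_mem F hχ hPN
  obtain ⟨χP, hχPdef⟩ : ∃ χP : ↥P →* Ω, χP = χ.comp (Subgroup.inclusion hPN) := ⟨_, rfl⟩
  rw [← hχPdef] at hχPm
  have hχPP : ∀ a : ↥P, χP a ∈ P := hP.2 P le_rfl χP hχPm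
  have hχPinj := F.injective_of_mem hχPm
  have hχZ := G.map_mem_Z le_rfl χP (fun a ha => hχPP ⟨a, ha⟩) hnab
  obtain ⟨w', hw'⟩ : ∃ w', w' = χP ⟨w, hwP⟩ := ⟨_, rfl⟩
  obtain ⟨φ₁, hφ₁, hφ₁eq⟩ := comp_hom F hφ₀ hχPm hφ₀P
  have hφ₁z : φ₁ ⟨z, Subgroup.mem_zpowers z⟩ = w' := by
    rw [hφ₁eq, hw']
    congr 1
    exact Subtype.ext hw
  have hw'Z : w' ∉ Z := by
    intro h
    rw [hw'] at h
    exact hwZ (G.mem_Z_of_map G.hZP χP hχPinj hχZ ⟨w, hwP⟩ h)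
  refine ⟨w', φ₁, hφ₁, hφ₁z, hw'Z, ?_⟩
  have hQeq : Q₀ = P ⊓ Subgroup.centralizer {w'} := by
    apply le_antisymm
    · intro y hy
      rw [← hχQ] at hy
      obtain ⟨n, hn, rfl⟩ := hy
      have hnP₀ : (n : Ω) ∈ P₀ := Subgroup.mem_subgroupOf.mp hn
      have hnP : (n : Ω) ∈ P := hP₀P hnP₀
      have e : χ n = χP ⟨n, hnP⟩ := by
        rw [hχPdef]
        show χ n = χ (Subgroup.inclusion hPN ⟨n, hnP⟩)
        congr 1
      rw [Subgroup.mem_inf, Subgroup.mem_centralizer_singleton_iff, e, hw']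
      refine ⟨hχPP _, ?_⟩
      rw [← map_mul, ← map_mul]
      congr 1
      exact Subtype.ext ((hP₀mem _).mp hnP₀).2
    · intro y hy
      rw [Subgroup.mem_inf, Subgroup.mem_centralizer_singleton_iff] at hy
      obtain ⟨hyP, hyw⟩ := hy
      let g : ↥P → ↥P := fun a => ⟨χP a, hχPP a⟩
      have hg : Function.Injective g := by
        intro a b hab
        exact hχPinj (congrArg Subtype.val hab)
      obtain ⟨a, ha⟩ := (Finite.injective_iff_surjective.mp hg) ⟨y, hyP⟩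
      have hay : χP a = y := congrArg Subtype.val ha
      have h1 : χP (a * ⟨w, hwP⟩) = χP (⟨w, hwP⟩ * a) := by
        rw [map_mul, map_mul, hay, ← hw']
        exact hyw
      have h2 := hχPinj h1
      have h3 : (a : Ω) * w = w * a := congrArg Subtype.val h2
      have haP₀ : (a : Ω) ∈ P₀ := (hP₀mem _).mpr ⟨a.2, h3⟩
      rw [← hχQ]
      refine ⟨Subgroup.inclusion hPN a, Subgroup.mem_subgroupOf.mpr haP₀, ?_⟩
      rw [← hay, hχPdef]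
      rfl
  rw [← hQeq]
  exact hQfn

theorem pow_eq_one_of_fn [Finite S] {p : ℕ} [hp : Fact p.Prime] (hS : IsPGroup p S)
    (F : FusionSystem S) (hF : F.IsSaturated p) (hp2 : p ≠ 2) {P Z : Subgroup Ω}
    (hP : F.StronglyClosed P) (G : GXData p P Z) (hnab : ∃ a ∈ P, ∃ b ∈ P, a * b ≠ b * a)
    {w : Ω} (hwP : w ∈ P) (hwZ : w ∉ Z) (P₀ : Subgroup Ω)
    (hP₀mem : ∀ a, a ∈ P₀ ↔ a ∈ P ∧ a * w = w * a) (hfn : F.IsFullyNormalized P₀)
    (hab₀ : ∀ a ∈ P₀, ∀ b ∈ P₀, a * b = b * a) (hexp₀ : ∀ a ∈ P₀, a ^ p = 1)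
    (θ₀ : ↥P₀ →* Ω) (hθ₀ : θ₀ ∈ F.Hom P₀) (hθ₀P : ∀ a, θ₀ a ∈ P)
    (hθ₀w : ∀ h : w ∈ P₀, θ₀ ⟨w, h⟩ ∈ Z) {x : Ω} (hxP : x ∈ P) (hxw : x * w ≠ w * x) :
    x ^ p = 1 := by
  have hPS := hP.1
  have hP₀P : P₀ ≤ P := fun a ha => ((hP₀mem a).mp ha).1
  have hP₀S := hP₀P.trans hPS
  haveI : Finite ↥P₀ := finite_of_le hP₀S
  haveI : Finite ↥P := finite_of_le hPS
  have hwP₀ : w ∈ P₀ := (hP₀mem w).mpr ⟨hwP, rfl⟩
  have hZP₀ : Z ≤ P₀ := fun z hz => (hP₀mem z).mpr ⟨G.hZP hz, (G.hcen z hz w hwP).symm⟩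
  have hxS := hPS hxP
  have hconjP₀ : ∀ y ∈ P, ∀ b ∈ P₀, y * b * y⁻¹ ∈ P₀ := by
    intro y hy b hb
    have e : y * b * y⁻¹ = ⁅y, b⁆ * b := by simp only [commutatorElement_def]; group
    rw [e]
    exact P₀.mul_mem (hZP₀ (G.hcomm y hy b (hP₀P hb))) hb
  have hxN : x ∈ Subgroup.normalizer (P₀ : Set Ω) :=
    KN.mem_normalizer_of_forall_conj_mem (hconjP₀ x hxP)
  obtain ⟨t, ht⟩ : ∃ t : MulAut ↥P₀, t = conjAut P₀ ⟨x, hxN⟩ := ⟨_, rfl⟩
  have htv : ∀ v : ↥P₀, ((t v : ↥P₀) : Ω) = x * v * x⁻¹ := fun v => by rw [ht]; rfl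
  have htS : t ∈ autInducedBy S P₀ := by
    rw [mem_autInducedBy_iff]
    exact ⟨x, hxS, htv⟩
  have htG : t ∈ F.autGroup P₀ := autInducedBy_le_autGroup F hP₀S htS
  have hV : ∀ a b : ↥P₀, a * b = b * a := fun a b => Subtype.ext (hab₀ a a.2 b b.2)
  have hpowt : ∀ k : ℕ, ∀ v : ↥P₀, (((t ^ k) v : ↥P₀) : Ω) = x ^ k * v * (x ^ k)⁻¹ := by
    intro k
    induction k with
    | zero => intro v; simp
    | succ k ih =>
      intro v
      rw [pow_succ', MulAut.mul_apply, htv, ih]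
      group
  have X1 : ∀ y ∈ P, ∀ s : MulAut ↥P₀, (∀ v : ↥P₀, ((s v : ↥P₀) : Ω) = y * v * y⁻¹) →
      s ∈ Subgroup.zpowers t := by
    intro y hy s hs
    obtain ⟨k, b, hbP, hbw, rfl⟩ := G.decomp hxP hwP hxw hy
    have hbP₀ : b ∈ P₀ := (hP₀mem b).mpr ⟨hbP, hbw⟩
    have hst : s = t ^ k := by
      apply MulEquiv.ext
      intro v
      apply Subtype.ext
      rw [hs, hpowt]
      have h1 : b * (v : Ω) * b⁻¹ = v := by rw [hab₀ b hbP₀ v v.2, mul_inv_cancel_right]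
      calc x ^ k * b * v * (x ^ k * b)⁻¹ = x ^ k * (b * v * b⁻¹) * (x ^ k)⁻¹ := by group
        _ = _ := by rw [h1]
    rw [hst]
    exact Subgroup.npow_mem_zpowers t k
  obtain ⟨L, hLdef⟩ : ∃ L : Subgroup ↥P₀, L = Z.subgroupOf P₀ := ⟨_, rfl⟩
  have hLmem : ∀ v : ↥P₀, v ∈ L ↔ (v : Ω) ∈ Z := fun v => by
    rw [hLdef]; exact Subgroup.mem_subgroupOf
  have hLcard : Nat.card L = p := by
    rw [hLdef, ← G.hcard]
    exact Nat.card_congr (Subgroup.subgroupOfEquivOfLe hZP₀).toEquiv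
  have H1 : ∀ v : ↥P₀, t v * v⁻¹ ∈ L := by
    intro v
    rw [hLmem]
    show ((t v : ↥P₀) : Ω) * (v : Ω)⁻¹ ∈ Z
    rw [htv]
    exact G.hcomm x hxP v (hP₀P v.2)
  have H1' : ∀ v : ↥P₀, v⁻¹ * t v ∈ L := fun v => by
    rw [hV v⁻¹ (t v)]; exact H1 v
  have H2 : ∀ u ∈ L, t u = u := by
    intro u hu
    apply Subtype.ext
    rw [htv, G.hcen _ ((hLmem u).mp hu) x hxP, mul_inv_cancel_right]
  -- strong closure of ⟨t⟩
  have Ha : ∀ α ∈ F.autGroup P₀, α * t * α⁻¹ ∈ autInducedBy S P₀ →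
      α * t * α⁻¹ ∈ Subgroup.zpowers t := by
    intro α hα hαt
    obtain ⟨s, hsS, hs⟩ := (mem_autInducedBy_iff S P₀ _).mp hαt
    obtain ⟨N, ψ, hψ, hP₀N, hYN, hψα⟩ := exists_extension hS F hF hfn hα {x} (by
      intro g hg
      rw [Set.mem_singleton_iff] at hg
      subst hg
      refine ⟨hxS, hxN, s, hsS, fun v hv => ?_⟩
      have h1 := hs (α v)
      rw [MulAut.mul_apply, MulAut.mul_apply, MulAut.inv_apply_self] at h1
      rw [← h1]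
      have e : (⟨g * (v : Ω) * g⁻¹, hv⟩ : ↥P₀) = t v := Subtype.ext (htv v).symm
      rw [e])
    have hxN' : x ∈ N := hYN rfl
    obtain ⟨y, hy⟩ : ∃ y, y = ψ ⟨x, hxN'⟩ := ⟨_, rfl⟩
    have hyP : y ∈ P := by
      rw [hy]
      have hle : Subgroup.zpowers x ≤ N := Subgroup.zpowers_le.mpr hxN'
      exact hP.2 (Subgroup.zpowers x) (Subgroup.zpowers_le.mpr hxP) _ (restrict_mem F hψ hle)
        ⟨x, Subgroup.mem_zpowers x⟩
    apply X1 y hyP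
    intro u
    obtain ⟨v, rfl⟩ : ∃ v, α v = u := ⟨α⁻¹ u, MulAut.apply_inv_self _ α u⟩
    rw [MulAut.mul_apply, MulAut.mul_apply, MulAut.inv_apply_self]
    rw [← hψα (t v) (hP₀N (t v).2), ← hψα v (hP₀N v.2), hy, ← map_inv, ← map_mul, ← map_mul]
    congr 1
    exact Subtype.ext (htv v)
  -- ⟨t⟩ is not normal
  have Hb : ∃ g ∈ F.autGroup P₀, g * t * g⁻¹ ∉ Subgroup.zpowers t := by
    by_contra hall
    push Not at hall
    have hsZ : ∀ s ∈ Subgroup.zpowers t, ∀ v : ↥P₀, ((s v : ↥P₀) : Ω) * (v : Ω)⁻¹ ∈ Z := by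
      intro s hs v
      obtain ⟨k, rfl⟩ := (Submonoid.mem_powers_iff _ _).mp (mem_powers_iff_mem_zpowers.mpr hs)
      rw [hpowt]
      exact G.hcomm _ (P.pow_mem hxP k) v (hP₀P v.2)
    obtain ⟨c₀, hc₀⟩ : ∃ c₀ : ↥P₀, c₀ = t ⟨w, hwP₀⟩ * (⟨w, hwP₀⟩ : ↥P₀)⁻¹ := ⟨_, rfl⟩
    have hc₀v : (c₀ : Ω) = ⁅x, w⁆ := by
      rw [hc₀]
      show ((t ⟨w, hwP₀⟩ : ↥P₀) : Ω) * w⁻¹ = _
      rw [htv]
      rfl
    have hc₀Z : (c₀ : Ω) ∈ Z := by rw [hc₀v]; exact G.hcomm x hxP w hwP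
    have hc₀1 : (c₀ : Ω) ≠ 1 := by
      rw [hc₀v]
      exact fun h => hxw (commutatorElement_eq_one_iff_mul_comm.mp h)
    have hinv : ∀ β ∈ F.autGroup P₀, ∀ u : ↥P₀, (u : Ω) ∈ Z → ((β u : ↥P₀) : Ω) ∈ Z := by
      intro β hβ u hu
      have h1 : ((β c₀ : ↥P₀) : Ω) ∈ Z := by
        have h2 : β c₀ = (β * t * β⁻¹) (β ⟨w, hwP₀⟩) * (β ⟨w, hwP₀⟩)⁻¹ := by
          rw [hc₀, map_mul, map_inv, MulAut.mul_apply, MulAut.mul_apply, MulAut.inv_apply_self]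
        rw [h2]
        exact hsZ _ (hall β hβ) (β ⟨w, hwP₀⟩)
      obtain ⟨k, hk⟩ := G.gen hc₀Z hc₀1 hu
      have e : u = c₀ ^ k := Subtype.ext hk
      rw [e, map_pow]
      exact Z.pow_mem h1 k
    obtain ⟨P₁, hP₁⟩ : ∃ P₁, P₁ = θ₀.range := ⟨_, rfl⟩
    have hconj : F.IsConj P₀ P₁ := ⟨θ₀, hθ₀, hP₁.symm⟩
    have hP₁mem : ∀ y, y ∈ P₁ ↔ ∃ a, θ₀ a = y := fun y => by
      rw [hP₁]; exact MonoidHom.mem_range
    have hθ₀P₁ : ∀ a, θ₀ a ∈ P₁ := fun a => (hP₁mem _).mpr ⟨a, rfl⟩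
    have hP₁P : P₁ ≤ P := by
      rw [hP₁]
      rintro _ ⟨a, rfl⟩
      exact hθ₀P a
    have hP₁S := hP₁P.trans hPS
    haveI : Finite ↥P₁ := finite_of_le hP₁S
    have hfa := fullyAutomized_of_fullyNormalized hS F hF hfn
    have hrec := receptive_of_fullyCentralized hS F hF
      (fullyCentralized_of_fullyNormalized hS F hF hfn)
    obtain ⟨χ, hχ, hχN, hχP₀⟩ := exists_normalizer_hom hS F P₀ P₁ hfa hrec (isConj_symm F hconj)
    have hz₁ : θ₀ ⟨w, hwP₀⟩ ∈ Z := hθ₀w hwP₀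
    have hz₁1 : θ₀ ⟨w, hwP₀⟩ ≠ 1 := by
      intro h
      have h1 := F.injective_of_mem hθ₀ (h.trans (map_one θ₀).symm)
      have hw1 : w = 1 := congrArg Subtype.val h1
      exact hwZ (hw1 ▸ Z.one_mem)
    have hZP₁ : Z ≤ P₁ := by
      intro z' hz'
      obtain ⟨k, rfl⟩ := G.gen hz₁ hz₁1 hz'
      exact P₁.pow_mem (hθ₀P₁ _) k
    have hPN₁ : P ≤ normalizerIn S P₁ := by
      intro a ha
      refine ⟨hPS ha, KN.mem_normalizer_of_forall_conj_mem (fun b hb => ?_)⟩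
      have e : a * b * a⁻¹ = ⁅a, b⁆ * b := by simp only [commutatorElement_def]; group
      rw [e]
      exact P₁.mul_mem (hZP₁ (G.hcomm a ha b (hP₁P hb))) hb
    have hχPm := restrict_mem F hχ hPN₁
    have hχPP : ∀ a : ↥P, (χ.comp (Subgroup.inclusion hPN₁)) a ∈ P := hP.2 P le_rfl _ hχPm
    have hχZ := G.map_mem_Z le_rfl (χ.comp (Subgroup.inclusion hPN₁))
      (fun a ha => hχPP ⟨a, ha⟩) hnab
    have hθN : ∀ a : ↥P₀, θ₀ a ∈ normalizerIn S P₁ := fun a => hPN₁ (hθ₀P a)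
    obtain ⟨α₀, hα₀, hα₀eq⟩ := comp_hom F hθ₀ hχ hθN
    have hα₀r : α₀.range = P₀ := by
      apply le_antisymm
      · rintro _ ⟨a, rfl⟩
        rw [hα₀eq]
        have h1 : χ ⟨θ₀ a, hθN a⟩ ∈ Subgroup.map χ (P₁.subgroupOf (normalizerIn S P₁)) :=
          ⟨⟨θ₀ a, hθN a⟩, Subgroup.mem_subgroupOf.mpr (hθ₀P₁ a), rfl⟩
        rw [hχP₀] at h1
        exact h1
      · intro y hy
        rw [← hχP₀] at hy
        obtain ⟨n, hn, rfl⟩ := hy
        have hn' : (n : Ω) ∈ P₁ := Subgroup.mem_subgroupOf.mp hn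
        obtain ⟨a, ha⟩ := (hP₁mem _).mp hn'
        refine ⟨a, ?_⟩
        rw [hα₀eq]
        congr 1
        exact Subtype.ext ha
    obtain ⟨α, hα, hαeq⟩ := exists_aut_of_hom F hα₀ hα₀r
    have hαw : ((α ⟨w, hwP₀⟩ : ↥P₀) : Ω) ∈ Z := by
      rw [hαeq, hα₀eq]
      exact hχZ _ hz₁
    have h3 := hinv α⁻¹ ((F.autGroup P₀).inv_mem hα) (α ⟨w, hwP₀⟩) hαw
    rw [MulAut.inv_apply_self] at h3
    exact hwZ h3
  obtain ⟨g, hg, hgt⟩ := Hb
  obtain ⟨t₁, ht₁⟩ : ∃ t₁ : MulAut ↥P₀, t₁ = g * t * g⁻¹ := ⟨_, rfl⟩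
  rw [← ht₁] at hgt
  have ht₁G : t₁ ∈ F.autGroup P₀ := by
    rw [ht₁]
    exact Subgroup.mul_mem _ (Subgroup.mul_mem _ hg htG) (Subgroup.inv_mem _ hg)
  have ht₁v : ∀ v, t₁ v = g (t (g⁻¹ v)) := fun v => by rw [ht₁]; rfl
  have hB1 : ∀ v : ↥P₀, v⁻¹ * t₁ v ∈ L.map g.toMonoidHom := by
    intro v
    refine ⟨(g⁻¹ v)⁻¹ * t (g⁻¹ v), H1' _, ?_⟩
    show g ((g⁻¹ v)⁻¹ * t (g⁻¹ v)) = v⁻¹ * t₁ v
    rw [map_mul, map_inv, MulAut.apply_inv_self, ht₁v]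
  have hB2 : ∀ u ∈ L.map g.toMonoidHom, t₁ u = u := by
    rintro _ ⟨z, hz, rfl⟩
    show t₁ (g z) = g z
    rw [ht₁v, MulAut.inv_apply_self, H2 z hz]
  have hPp : IsPGroup p ↥P₀ := isPGroup_of_le hS hP₀S
  have hnoP : ∀ D : Subgroup (MulAut ↥P₀), IsPGroup p D → t ∈ D → t₁ ∈ D →
      D ≤ F.autGroup P₀ → False := by
    intro D hD htD ht₁D hDG
    obtain ⟨γ, hγ, hγD⟩ := exists_conj_le_autInducedBy hS F hF hfn D hD hDG
    have h1 := Ha γ hγ (hγD t htD)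
    have e2 : (γ * g) * t * (γ * g)⁻¹ = γ * t₁ * γ⁻¹ := by rw [ht₁]; group
    have h2 : (γ * g) * t * (γ * g)⁻¹ ∈ Subgroup.zpowers t := by
      apply Ha (γ * g) (Subgroup.mul_mem _ hγ hg)
      rw [e2]
      exact hγD t₁ ht₁D
    rw [e2] at h2
    obtain ⟨X, hX⟩ : ∃ X, X = Subgroup.zpowers t := ⟨_, rfl⟩
    rw [← hX] at h1 h2 hgt
    have hmap : X.map (MulAut.conj γ).toMonoidHom ≤ X := by
      rw [hX, MonoidHom.map_zpowers, Subgroup.zpowers_le, ← hX]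
      exact h1
    have heq : X.map (MulAut.conj γ).toMonoidHom = X :=
      Subgroup.eq_of_le_of_card_ge hmap
        (Subgroup.card_map_of_injective (MulAut.conj γ).injective).ge
    have h3 : γ * t₁ * γ⁻¹ ∈ X.map (MulAut.conj γ).toMonoidHom := by rw [heq]; exact h2
    obtain ⟨s, hs, hst⟩ := h3
    have hst' : (MulAut.conj γ) s = (MulAut.conj γ) t₁ := hst
    have hst'' : s = t₁ := (MulAut.conj γ).injective hst'
    exact hgt (hst'' ▸ hs)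
  have H4 : ∃ u ∈ L, t (g u) ≠ g u := by
    by_contra hno
    push Not at hno
    have hfix : ∀ u ∈ L ⊔ L.map g.toMonoidHom, t u = u := by
      have hle : L ⊔ L.map g.toMonoidHom ≤
          MonoidHom.eqLocus t.toMonoidHom (MonoidHom.id ↥P₀) := by
        apply sup_le
        · intro u hu
          exact H2 u hu
        · rintro _ ⟨u, hu, rfl⟩
          exact hno u hu
      exact fun u hu => hle hu
    have hQ := isPGroup_closure_of_chain hPp L (L.map g.toMonoidHom) {t} {t₁}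
      (fun c hc v => by rw [Set.mem_singleton_iff.mp hc]; exact H1' v)
      (fun c hc u hu => by rw [Set.mem_singleton_iff.mp hc]; exact hfix u hu)
      (fun c hc v => by rw [Set.mem_singleton_iff.mp hc]; exact hB1 v)
      (fun c hc u hu => by rw [Set.mem_singleton_iff.mp hc]; exact hB2 u hu)
    refine hnoP _ hQ (Subgroup.subset_closure (Or.inl rfl)) (Subgroup.subset_closure (Or.inr rfl)) ?_
    rw [Subgroup.closure_le]
    rintro c (hc | hc)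
    · rw [Set.mem_singleton_iff.mp hc]; exact htG
    · rw [Set.mem_singleton_iff.mp hc]; exact ht₁G
  have H5 : ∃ u ∈ L, t (g⁻¹ u) ≠ g⁻¹ u := by
    by_contra hno
    push Not at hno
    have ht₁L : ∀ u ∈ L, t₁ u = u := by
      intro u hu
      rw [ht₁v, hno u hu, MulAut.apply_inv_self]
    have hfix : ∀ u ∈ L.map g.toMonoidHom ⊔ L, t₁ u = u := by
      have hle : L.map g.toMonoidHom ⊔ L ≤
          MonoidHom.eqLocus t₁.toMonoidHom (MonoidHom.id ↥P₀) := by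
        apply sup_le
        · intro u hu
          exact hB2 u hu
        · intro u hu
          exact ht₁L u hu
      exact fun u hu => hle hu
    have hQ := isPGroup_closure_of_chain hPp (L.map g.toMonoidHom) L {t₁} {t}
      (fun c hc v => by rw [Set.mem_singleton_iff.mp hc]; exact hB1 v)
      (fun c hc u hu => by rw [Set.mem_singleton_iff.mp hc]; exact hfix u hu)
      (fun c hc v => by rw [Set.mem_singleton_iff.mp hc]; exact H1' v)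
      (fun c hc u hu => by rw [Set.mem_singleton_iff.mp hc]; exact H2 u hu)
    refine hnoP _ hQ (Subgroup.subset_closure (Or.inr rfl)) (Subgroup.subset_closure (Or.inl rfl)) ?_
    rw [Subgroup.closure_le]
    rintro c (hc | hc)
    · rw [Set.mem_singleton_iff.mp hc]; exact ht₁G
    · rw [Set.mem_singleton_iff.mp hc]; exact htG
  obtain ⟨h, hh, hht, -, hhL, -⟩ := exists_inverting_aut hV p hp2 t g L hLcard H1 H2 H4 H5
  have hhG : h ∈ F.autGroup P₀ := by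
    have hle : Subgroup.closure ({t, g * t * g⁻¹} : Set (MulAut ↥P₀)) ≤ F.autGroup P₀ := by
      rw [Subgroup.closure_le]
      rintro c (hc | hc)
      · rw [hc]; exact htG
      · rw [Set.mem_singleton_iff.mp hc, ← ht₁]; exact ht₁G
    exact hle hh
  have hcomm_ht : ∀ v : ↥P₀, h (t v) = t (h v) := fun v =>
    congrArg (fun f : MulAut ↥P₀ => f v) hht
  obtain ⟨N, ψ, hψ, hP₀N, hYN, hψh⟩ := exists_extension hS F hF hfn hhG {x} (by
    intro g' hg'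
    rw [Set.mem_singleton_iff] at hg'
    subst hg'
    refine ⟨hxS, hxN, g', hxS, fun v hv => ?_⟩
    have e : (⟨g' * (v : Ω) * g'⁻¹, hv⟩ : ↥P₀) = t v := Subtype.ext (htv v).symm
    rw [e, hcomm_ht, htv])
  have hxN' : x ∈ N := hYN rfl
  obtain ⟨y, hy⟩ : ∃ y, y = ψ ⟨x, hxN'⟩ := ⟨_, rfl⟩
  have hyP : y ∈ P := by
    rw [hy]
    have hle : Subgroup.zpowers x ≤ N := Subgroup.zpowers_le.mpr hxN'
    exact hP.2 (Subgroup.zpowers x) (Subgroup.zpowers_le.mpr hxP) _ (restrict_mem F hψ hle)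
      ⟨x, Subgroup.mem_zpowers x⟩
  have hcent : ∀ u (hu : u ∈ P₀), y * u * y⁻¹ = x * u * x⁻¹ := by
    intro u hu
    obtain ⟨v, hv⟩ : ∃ v : ↥P₀, h v = ⟨u, hu⟩ := ⟨h⁻¹ ⟨u, hu⟩, MulAut.apply_inv_self _ h _⟩
    have h1 : ψ ⟨((t v : ↥P₀) : Ω), hP₀N (t v).2⟩ = y * ψ ⟨v, hP₀N v.2⟩ * y⁻¹ := by
      rw [hy, ← map_inv, ← map_mul, ← map_mul]
      congr 1
      exact Subtype.ext (htv v)
    rw [hψh, hψh, hcomm_ht, htv, hv] at h1
    exact h1.symm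
  obtain ⟨a, ha⟩ : ∃ a, a = x⁻¹ * y := ⟨_, rfl⟩
  have haP : a ∈ P := by rw [ha]; exact P.mul_mem (P.inv_mem hxP) hyP
  have haw : a * w = w * a := by
    have h1 := hcent w hwP₀
    rw [ha]
    have e1 : x⁻¹ * y * w = x⁻¹ * (y * w * y⁻¹) * y := by group
    rw [e1, h1]
    group
  have haP₀ : a ∈ P₀ := (hP₀mem a).mpr ⟨haP, haw⟩
  have hyxa : y = x * a := by rw [ha]; group
  have hyp : y ^ p = x ^ p := by
    rw [hyxa, G.mul_pow_p hp2 hxP haP, hexp₀ a haP₀, mul_one]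
  have hxpZ : x ^ p ∈ Z := G.hpow x hxP
  have hψxp : ψ ⟨x ^ p, hP₀N (hZP₀ hxpZ)⟩ = (x ^ p)⁻¹ := by
    have h1 := hψh ⟨x ^ p, hZP₀ hxpZ⟩ (hP₀N (hZP₀ hxpZ))
    have h2 := hhL ⟨x ^ p, hZP₀ hxpZ⟩ ((hLmem _).mpr hxpZ)
    rw [h2] at h1
    exact h1
  have hψxp' : ψ ⟨x ^ p, hP₀N (hZP₀ hxpZ)⟩ = y ^ p := by
    rw [hy, ← map_pow]
    congr 1
  have h5 : (x ^ p)⁻¹ = x ^ p := by rw [← hψxp, hψxp', hyp]
  have h6 : (x ^ p) ^ 2 = 1 := by
    rw [pow_two]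
    nth_rewrite 1 [← h5]
    exact inv_mul_cancel _
  have h7 : (x ^ p) ^ p = 1 := G.pow_p_eq_one hxpZ
  have hcop : Nat.Coprime 2 p := (Nat.coprime_primes Nat.prime_two hp.out).mpr (Ne.symm hp2)
  have h8 : orderOf (x ^ p) ∣ Nat.gcd 2 p :=
    Nat.dvd_gcd (orderOf_dvd_of_pow_eq_one h6) (orderOf_dvd_of_pow_eq_one h7)
  rw [hcop.gcd_eq_one, Nat.dvd_one] at h8
  exact orderOf_eq_one_iff.mp h8

end Cfsg.Agent.Lib.Helper1.GX
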