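import Mathlib
import Cfsg.Agent.Lib.Helper1.GX4

set_option autoImplicit false
set_option linter.style.haveILetI false
set_option linter.unusedSectionVars false
set_option linter.unusedVariables false
set_option maxHeartbeats 4000000

/-! A strongly closed generalized extraspecial subgroup of a saturated fusion system is normal,
unless it is `D₈ × A` (`p = 2`) or `p₊^{1+2} × A` (`p` odd). -/

namespace Cfsg.Agent.Lib.Helper1.GX

open Cfsg Cfsg.FusionSystem Cfsg.Agent.Lib.Helper9 Cfsg.Agent.Lib.Helper7 Cfsg.Agent.Lib.Helper1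
  Cfsg.Agent.Lib.Helper1.ET

open scoped commutatorElement

universe u

theorem genExtraspecial_normal {Ω : Type u} [Group Ω] {S : Subgroup Ω} [Finite S] (p : ℕ)
    [hp : Fact p.Prime] (hS : IsPGroup p S) (F : Cfsg.FusionSystem S) (hF : F.IsSaturated p)
    (P : Subgroup Ω) (hP : F.StronglyClosed P)
    (hge : frattini ↥P = commutator ↥P ∧ Nat.card ↥(commutator ↥P) = p)
    (h2 : p = 2 → ¬ ∃ (A : Type) (_ : CommGroup A), (∀ a : A, a ^ 2 = 1) ∧
      Nonempty (↥P ≃* DihedralGroup 4 × A))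
    (hodd : p ≠ 2 → ¬ ∃ (E : Type) (_ : Group E) (A : Type) (_ : CommGroup A),
      Cfsg.IsExtraspecial p E ∧ Nat.card E = p ^ 3 ∧ Monoid.exponent E = p ∧
      (∀ a : A, a ^ p = 1) ∧ Nonempty (↥P ≃* E × A)) : F.IsNormal P := by
  by_contra hnot
  have hPS := hP.1
  haveI : Finite ↥P := finite_of_le hPS
  obtain ⟨Z, G, hZS, hnab⟩ := gxData_of hS F hP hge
  have hZP := G.hZP
  -- `Z` is not strongly closed
  have hZnsc : ¬ F.StronglyClosed Z := by
    intro hZsc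
    apply hnot
    obtain ⟨T, hT0, hT1, hT2, hT3⟩ : ∃ T : ℕ → Subgroup Ω, T 0 = ⊥ ∧ T 1 = Z ∧ T 2 = P ∧
        ∀ j, 2 < j → T j = S :=
      ⟨fun j => if j = 0 then ⊥ else if j = 1 then Z else if j = 2 then P else S, by simp,
        by simp, by simp, fun j hj => by
          show (if j = 0 then ⊥ else if j = 1 then Z else if j = 2 then P else S) = S
          rw [if_neg (by omega), if_neg (by omega), if_neg (by omega)]⟩
    refine normal_of_series p hS F hF P T 2 hT0 hT2 ?_ ?_ hT3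
    · intro j
      rcases (show j = 0 ∨ j = 1 ∨ j = 2 ∨ 2 < j by omega) with rfl | rfl | rfl | h
      · rw [hT0]; exact stronglyClosed_bot F
      · rw [hT1]; exact hZsc
      · rw [hT2]; exact hP
      · rw [hT3 j h]; exact stronglyClosed_top F
    · intro j hj
      rcases (show j = 0 ∨ j = 1 by omega) with rfl | rfl
      · show ⁅P, T 1⁆ ≤ T 0
        rw [hT1, hT0, Subgroup.commutator_le]
        intro a ha z hz
        rw [Subgroup.mem_bot]
        exact G.comm_central_right hz ha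
      · show ⁅P, T 2⁆ ≤ T 1
        rw [hT2, hT1, Subgroup.commutator_le]
        exact fun a ha b hb => G.hcomm a ha b hb
  have hex : ∃ R : Subgroup Ω, R ≤ Z ∧ ∃ φ ∈ F.Hom R, ∃ x : ↥R, φ x ∉ Z := by
    by_contra hno
    push Not at hno
    exact hZnsc ⟨hZP.trans hPS, fun R hR φ hφ x => hno R hR φ hφ x⟩
  obtain ⟨R, hRZ, φ, hφ, xr, hxr⟩ := hex
  obtain ⟨z, hzdef⟩ : ∃ z : Ω, z = (xr : Ω) := ⟨_, rfl⟩
  have hz : z ∈ Z := hzdef ▸ hRZ xr.2
  have hzR : Subgroup.zpowers z ≤ R := Subgroup.zpowers_le.mpr (hzdef ▸ xr.2)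
  have hφ₀ := restrict_mem F hφ hzR
  obtain ⟨φ₀, hφ₀def⟩ : ∃ φ₀ : ↥(Subgroup.zpowers z) →* Ω,
      φ₀ = φ.comp (Subgroup.inclusion hzR) := ⟨_, rfl⟩
  rw [← hφ₀def] at hφ₀
  obtain ⟨w₀, hw₀⟩ : ∃ w₀, w₀ = φ xr := ⟨_, rfl⟩
  have hw₀' : φ₀ ⟨z, Subgroup.mem_zpowers z⟩ = w₀ := by
    rw [hφ₀def, hw₀]
    show φ (Subgroup.inclusion hzR ⟨z, Subgroup.mem_zpowers z⟩) = φ xr
    congr 1
    exact Subtype.ext hzdef
  have hw₀Z : w₀ ∉ Z := hw₀ ▸ hxr
  by_cases hp2 : p = 2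
  · -- p = 2
    subst hp2
    obtain ⟨hwP, hab₀, hexp₀, ⟨x, hxP, hxw⟩, -⟩ :=
      struct_of_conj hS F hF hP G hZS hnab hz hφ₀ w₀ hw₀' hw₀Z
    have hw2 : w₀ ^ 2 = 1 := hexp₀ w₀ hwP rfl
    have hc : ⁅x, w₀⁆ ∈ Z := G.hcomm x hxP w₀ hwP
    have hc1 : ⁅x, w₀⁆ ≠ 1 := fun h => hxw (commutatorElement_eq_one_iff_mul_comm.mp h)
    -- an involution outside the centralizer of `w₀`
    have hinv : ∃ x' ∈ P, x' * w₀ ≠ w₀ * x' ∧ x' ^ 2 = 1 := by
      by_cases hx2 : x ^ 2 = 1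
      · exact ⟨x, hxP, hxw, hx2⟩
      · refine ⟨x * w₀, P.mul_mem hxP hwP, ?_, ?_⟩
        · intro h
          apply hxw
          have h1 : x * w₀ * w₀ = w₀ * x * w₀ := by rw [h, mul_assoc]
          exact mul_right_cancel h1
        · have hx2Z : x ^ 2 ∈ Z := G.hpow x hxP
          obtain ⟨k, hk⟩ := G.gen hc hc1 hx2Z
          have hc2 : ⁅x, w₀⁆ ^ 2 = 1 := G.pow_p_eq_one hc
          have hxc : x ^ 2 = ⁅x, w₀⁆ := by
            rcases Nat.even_or_odd' k with ⟨m, rfl | rfl⟩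
            · exfalso
              apply hx2
              rw [hk, pow_mul, hc2, one_pow]
            · rw [hk, pow_succ, pow_mul, hc2, one_pow, one_mul]
          rw [G.mul_pow_two hxP hwP, hw2, mul_one, hxc, ← commutatorElement_inv x w₀,
            mul_inv_cancel]
    obtain ⟨x', hx'P, hx'w, hx'2⟩ := hinv
    apply h2 rfl
    have hxw' : (⟨x', hx'P⟩ : ↥P) * ⟨w₀, hwP⟩ ≠ ⟨w₀, hwP⟩ * ⟨x', hx'P⟩ :=
      fun h => hx'w (congrArg Subtype.val h)
    refine exceptional_two (Z.subgroupOf P) G.top_of ⟨x', hx'P⟩ ⟨w₀, hwP⟩ hxw'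
      (Subtype.ext hx'2) (Subtype.ext hw2) ?_ ?_
    · intro u _ huw
      exact Subtype.ext (hexp₀ u u.2 (congrArg Subtype.val huw))
    · intro u v _ huw _ hvw
      exact Subtype.ext (hab₀ u u.2 (congrArg Subtype.val huw) v v.2 (congrArg Subtype.val hvw))
  · -- p odd
    obtain ⟨w, φ₁, hφ₁, hφ₁z, hwZ, hfn⟩ := exists_fn_conj hS F hF hP G hnab hz hφ₀ w₀ hw₀' hw₀Z
    obtain ⟨hwP, hab₀, hexp₀, ⟨x, hxP, hxw⟩, θ₀, hθ₀, hθ₀P, hθ₀w⟩ :=
      struct_of_conj hS F hF hP G hZS hnab hz hφ₁ w hφ₁z hwZ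
    have hP₀mem : ∀ a, a ∈ P ⊓ Subgroup.centralizer {w} ↔ a ∈ P ∧ a * w = w * a := by
      intro a
      rw [Subgroup.mem_inf, Subgroup.mem_centralizer_singleton_iff]
    have hexp : ∀ a ∈ P, a ^ p = 1 := by
      intro a ha
      by_cases haw : a * w = w * a
      · exact hexp₀ a ha haw
      · exact pow_eq_one_of_fn hS F hF hp2 hP G hnab hwP hwZ _ hP₀mem hfn
          (fun a ha b hb => hab₀ a ((hP₀mem a).mp ha).1 ((hP₀mem a).mp ha).2 b
            ((hP₀mem b).mp hb).1 ((hP₀mem b).mp hb).2)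
          (fun a ha => hexp₀ a ((hP₀mem a).mp ha).1 ((hP₀mem a).mp ha).2)
          θ₀ hθ₀ hθ₀P (fun h => by rw [hθ₀w h]; exact hz) ha haw
    apply hodd hp2
    have hxw' : (⟨x, hxP⟩ : ↥P) * ⟨w, hwP⟩ ≠ ⟨w, hwP⟩ * ⟨x, hxP⟩ :=
      fun h => hxw (congrArg Subtype.val h)
    refine exceptional_odd (Z.subgroupOf P) G.top_of ⟨x, hxP⟩ ⟨w, hwP⟩ hxw'
      (fun a => Subtype.ext (hexp a a.2)) ?_
    intro u v _ huw _ hvw
    exact Subtype.ext (hab₀ u u.2 (congrArg Subtype.val huw) v v.2 (congrArg Subtype.val hvw))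

end Cfsg.Agent.Lib.Helper1.GX
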