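import Mathlib
import Cfsg.Prelude.Def_Transfer
import Cfsg.Agent.Lib.Helper1.Fusion2
set_option autoImplicit false
open Pointwise
namespace Cfsg.Agent.Lib.Helper1

/-- Control of fusion of subgroups by the normalizer of a weakly closed central subgroup. -/
theorem weaklyClosed_central_controls_fusion_subgroup {G : Type*} [Group G] [Finite G] {p : ℕ}
    [Fact p.Prime] (P : Sylow p G) (Z : Subgroup G) (hZ : Z ≤ Subgroup.centralizer (P : Set G))
    (hW : Cfsg.IsWeaklyClosed Z P) (R : Subgroup G) (hR : R ≤ P) (g : G)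
    (hg : ∀ x ∈ R, g * x * g⁻¹ ∈ P) :
    ∃ n ∈ Subgroup.normalizer (Z : Set G), ∀ x ∈ R, n * x * n⁻¹ = g * x * g⁻¹ := by
  obtain ⟨hZP, hWC⟩ := hW
  simp only [map_conj_eq_smul] at hWC
  have hZp : IsPGroup p Z := P.2.to_le hZP
  have hZgp : IsPGroup p (MulAut.conj g • Z : Subgroup G) := by
    have : (MulAut.conj g • Z : Subgroup G) = Z.map (MulAut.conj g).toMonoidHom := rfl
    rw [this]; exact hZp.map _
  obtain ⟨C, hC⟩ : ∃ C, C = Subgroup.centralizer ((MulAut.conj g • R : Subgroup G) : Set G) :=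
    ⟨_, rfl⟩
  have h1 : Z ≤ C := by
    intro z hz
    rw [hC, Subgroup.mem_centralizer_iff]
    intro y hy
    rw [SetLike.mem_coe, mem_conj_smul_iff] at hy
    have hyP : y ∈ (P : Subgroup G) := by
      have := hg _ hy
      have e : g * (g⁻¹ * y * g) * g⁻¹ = y := by group
      rwa [e] at this
    exact Subgroup.mem_centralizer_iff.mp (hZ hz) y hyP
  have h2 : (MulAut.conj g • Z : Subgroup G) ≤ C := by
    intro z hz
    rw [mem_conj_smul_iff] at hz
    rw [hC, Subgroup.mem_centralizer_iff]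
    intro y hy
    rw [SetLike.mem_coe, mem_conj_smul_iff] at hy
    have := Subgroup.mem_centralizer_iff.mp (hZ hz) _ (hR hy)
    have e1 : y * z = g * ((g⁻¹ * y * g) * (g⁻¹ * z * g)) * g⁻¹ := by group
    have e2 : z * y = g * ((g⁻¹ * z * g) * (g⁻¹ * y * g)) * g⁻¹ := by group
    rw [e1, e2, this]
  obtain ⟨c, hc, T, hZT, hcT⟩ := exists_conj_le_common_sylow C Z
    (MulAut.conj g • Z) hZp hZgp h1 h2
  obtain ⟨r, hr⟩ := MulAction.exists_smul_eq G P T
  have hT : (T : Subgroup G) = MulAut.conj r • (P : Subgroup G) := by rw [← hr]; rfl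
  have k1 : MulAut.conj r⁻¹ • Z ≤ (P : Subgroup G) := by
    rw [map_inv]
    exact Subgroup.subset_pointwise_smul_iff.mp (hT ▸ hZT)
  have k1' := hWC r⁻¹ k1
  have k2 : MulAut.conj r⁻¹ • (MulAut.conj c • MulAut.conj g • Z) ≤ (P : Subgroup G) := by
    rw [map_inv]
    exact Subgroup.subset_pointwise_smul_iff.mp (hT ▸ hcT)
  rw [smul_smul, smul_smul, ← map_mul, ← map_mul] at k2
  have k2' := hWC _ k2
  have k3 : MulAut.conj (c * g) • Z = Z := by
    have e : MulAut.conj (c * g) = MulAut.conj r * MulAut.conj (r⁻¹ * c * g) := by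
      rw [← map_mul]; congr 1; group
    rw [e, mul_smul, k2']
    have e2 : MulAut.conj r • (MulAut.conj r⁻¹ • Z) = Z := by
      rw [smul_smul, ← map_mul, mul_inv_cancel, map_one, one_smul]
    rw [k1'] at e2
    exact e2
  refine ⟨c * g, mem_normalizer_of_conj_smul_eq k3, ?_⟩
  intro x hx
  rw [hC, Subgroup.mem_centralizer_iff] at hc
  have hy : g * x * g⁻¹ ∈ ((MulAut.conj g • R : Subgroup G) : Set G) := by
    rw [SetLike.mem_coe, mem_conj_smul_iff]
    have e : g⁻¹ * (g * x * g⁻¹) * g = x := by group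
    rw [e]; exact hx
  have h3 := hc _ hy
  have e : c * g * x * (c * g)⁻¹ = c * (g * x * g⁻¹) * c⁻¹ := by group
  rw [e, ← h3]; group

theorem inf_centralizer_conj_smul {G : Type*} [Group G] (H : Subgroup G) (g : G) :
    (MulAut.conj g • H) ⊓ Subgroup.centralizer ((MulAut.conj g • H : Subgroup G) : Set G) =
      MulAut.conj g • (H ⊓ Subgroup.centralizer (H : Set G)) := by
  ext x
  rw [mem_conj_smul_iff, Subgroup.mem_inf, Subgroup.mem_inf, mem_conj_smul_iff,
    Subgroup.mem_centralizer_iff, Subgroup.mem_centralizer_iff]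
  constructor
  · rintro ⟨hx1, hx2⟩
    refine ⟨hx1, ?_⟩
    intro y hy
    have hy' : g * y * g⁻¹ ∈ ((MulAut.conj g • H : Subgroup G) : Set G) := by
      rw [SetLike.mem_coe, mem_conj_smul_iff]
      have e : g⁻¹ * (g * y * g⁻¹) * g = y := by group
      rw [e]; exact hy
    have := hx2 _ hy'
    have e1 : y * (g⁻¹ * x * g) = g⁻¹ * ((g * y * g⁻¹) * x) * g := by group
    have e2 : g⁻¹ * x * g * y = g⁻¹ * (x * (g * y * g⁻¹)) * g := by group
    rw [e1, e2, this]
  · rintro ⟨hx1, hx2⟩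
    refine ⟨hx1, ?_⟩
    intro y hy
    rw [SetLike.mem_coe, mem_conj_smul_iff] at hy
    have := hx2 _ hy
    have e1 : y * x = g * ((g⁻¹ * y * g) * (g⁻¹ * x * g)) * g⁻¹ := by group
    have e2 : x * y = g * ((g⁻¹ * x * g) * (g⁻¹ * y * g)) * g⁻¹ := by group
    rw [e1, e2, this]

/-- A `p`-normality hypothesis implies weak closure of the centre of the Sylow subgroup. -/
theorem isWeaklyClosed_center_of_pNormal {G : Type*} [Group G] [Finite G] {p : ℕ} [Fact p.Prime]
    (P : Sylow p G)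
    (hn : ∀ Q : Sylow p G, (P : Subgroup G) ⊓ Subgroup.centralizer (P : Set G) ≤ (Q : Subgroup G) →
      (Q : Subgroup G) ⊓ Subgroup.centralizer (Q : Set G) =
        (P : Subgroup G) ⊓ Subgroup.centralizer (P : Set G)) :
    Cfsg.IsWeaklyClosed ((P : Subgroup G) ⊓ Subgroup.centralizer (P : Set G)) P := by
  refine ⟨inf_le_left, ?_⟩
  intro g hg
  simp only [map_conj_eq_smul] at hg ⊢
  have h1 : (P : Subgroup G) ⊓ Subgroup.centralizer (P : Set G) ≤ ((g⁻¹ • P : Sylow p G) : Subgroup G) := by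
    rw [Sylow.coe_subgroup_smul, Subgroup.subset_pointwise_smul_iff, ← map_inv, inv_inv]
    exact hg
  have h2 := hn _ h1
  have h3 : ((g⁻¹ • P : Sylow p G) : Subgroup G) ⊓
      Subgroup.centralizer ((g⁻¹ • P : Sylow p G) : Set G) =
      MulAut.conj g⁻¹ • ((P : Subgroup G) ⊓ Subgroup.centralizer (P : Set G)) :=
    inf_centralizer_conj_smul (P : Subgroup G) g⁻¹
  rw [h3] at h2
  have h4 : MulAut.conj g • (MulAut.conj g⁻¹ • ((P : Subgroup G) ⊓ Subgroup.centralizer (P : Set G))) =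
      (P : Subgroup G) ⊓ Subgroup.centralizer (P : Set G) := by
    rw [smul_smul, ← map_mul, mul_inv_cancel, map_one, one_smul]
  rw [h2] at h4
  exact h4

end Cfsg.Agent.Lib.Helper1
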