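import Mathlib
import Cfsg.Prelude.Def_Transfer
import Cfsg.Prelude.Def_FusionSystem
import Cfsg.Agent.Lib.Helper1.GrunPNormal1
import Cfsg.Agent.Lib.Helper9.HyperfocalGroup2
set_option autoImplicit false
open Pointwise
open Cfsg Cfsg.FusionSystem
universe u
namespace Cfsg.Agent.Lib.Helper1

theorem pResidual_map_subtype_le {G : Type*} [Group G] (p : ℕ) (V : Subgroup G) :
    (pResidual p V).map V.subtype ≤ pResidual p G := by
  unfold pResidual
  rw [MonoidHom.map_closure]
  apply Subgroup.closure_mono
  rintro _ ⟨v, hv, rfl⟩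
  have hv' : Nat.Coprime (orderOf v) p := hv
  show Nat.Coprime (orderOf (v : G)) p
  rw [Subgroup.orderOf_coe]
  exact hv'

theorem mem_pResidual_map_of_coprime {G : Type*} [Group G] (p : ℕ) (V : Subgroup G) (v : G)
    (hv : v ∈ V) (ho : Nat.Coprime (orderOf v) p) : v ∈ (pResidual p V).map V.subtype := by
  refine ⟨⟨v, hv⟩, ?_, rfl⟩
  apply Subgroup.subset_closure
  show Nat.Coprime (orderOf (⟨v, hv⟩ : V)) p
  rw [Subgroup.orderOf_mk]
  exact ho

/-- **Grün's second theorem (`O^p` form)** for a `p`-normal group. -/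
theorem grun_pNormal {G : Type u} [Group G] [Finite G] {p : ℕ} [Fact p.Prime] (P : Sylow p G)
    (hn : ∀ Q : Sylow p G, (P : Subgroup G) ⊓ Subgroup.centralizer (P : Set G) ≤ (Q : Subgroup G) →
      (Q : Subgroup G) ⊓ Subgroup.centralizer (Q : Set G) =
        (P : Subgroup G) ⊓ Subgroup.centralizer (P : Set G))
    (V : Subgroup G)
    (hV : Subgroup.normalizer (((P : Subgroup G) ⊓ Subgroup.centralizer (P : Set G) : Subgroup G) :
      Set G) ≤ V) :
    (P : Subgroup G) ⊓ pResidual p G = (P : Subgroup G) ⊓ (pResidual p V).map V.subtype := by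
  obtain ⟨Z, hZ⟩ : ∃ Z, Z = (P : Subgroup G) ⊓ Subgroup.centralizer (P : Set G) := ⟨_, rfl⟩
  have hW : IsWeaklyClosed Z P := by rw [hZ]; exact isWeaklyClosed_center_of_pNormal P hn
  have hZc : Z ≤ Subgroup.centralizer (P : Set G) := by rw [hZ]; exact inf_le_right
  rw [← hZ] at hV
  have hPV : (P : Subgroup G) ≤ V := by
    refine le_trans ?_ hV
    intro x hx
    rw [hZ]
    exact smul_le_normalizer_inf_normal' x hx
  apply le_antisymm
  · apply le_inf inf_le_left
    rw [← Helper9.hyperfocal_groupFusion_eq p P]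
    unfold hyperfocalSubgroup
    rw [Subgroup.closure_le]
    rintro y ⟨R, α, x, hRP, hα, rfl⟩
    show (x : G)⁻¹ * (((α : MulAut R) x : R) : G) ∈ (pResidual p V).map V.subtype
    have key : ∀ α ∈ pResidual p ((groupFusionSystem (P : Subgroup G)).autGroup R), ∀ x : R,
        (x : G)⁻¹ * (((α : MulAut R) x : R) : G) ∈ (pResidual p V).map V.subtype := by
      intro α hα
      unfold pResidual at hα
      induction hα using Subgroup.closure_induction with
      | mem a ha =>
        intro x
        have ha' : Nat.Coprime (orderOf a) p := ha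
        have h1 : (a : MulAut R) ∈ autInducedBy ⊤ R := by
          rw [← Helper9.groupFusion_autGroup_eq hRP]
          exact a.2
        obtain ⟨g, -, hg⟩ := (Helper9.mem_autInducedBy_iff ⊤ R _).mp h1
        -- control of fusion: replace g by n ∈ N_G(Z)
        have hgP : ∀ x ∈ R, g * x * g⁻¹ ∈ (P : Subgroup G) := by
          intro x hx
          rw [← hg ⟨x, hx⟩]
          exact hRP ((a : MulAut R) ⟨x, hx⟩).2
        obtain ⟨n, hnZ, hnx⟩ :=
          weaklyClosed_central_controls_fusion_subgroup P Z hZc hW R hRP g hgP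
        have hn' : ∀ x : R, (((a : MulAut R) x : R) : G) = n * (x : G) * n⁻¹ := by
          intro x
          rw [hg x, hnx x x.2]
        obtain ⟨k, hk1, hk2⟩ := Helper9.exists_pow_pPrime p n (orderOf a) ha'
        have h2 : a ^ k = a := by
          have := (pow_eq_pow_iff_modEq (x := a) (n := k) (m := 1)).mpr hk1
          rwa [pow_one] at this
        have h3 : (((a : MulAut R) x : R) : G) = n ^ k * (x : G) * (n ^ k)⁻¹ := by
          have h4 := Helper9.pow_apply_of_conj (a : MulAut R) n hn' k x
          have h5 : ((a : MulAut R)) ^ k = (a : MulAut R) := by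
            have := congrArg Subtype.val h2
            simpa using this
          rw [h5] at h4
          exact h4
        rw [h3]
        have hnV : n ^ k ∈ V := V.pow_mem (hV hnZ) k
        have hxV : (x : G) ∈ V := hPV (hRP x.2)
        have h6 : n ^ k ∈ (pResidual p V).map V.subtype :=
          mem_pResidual_map_of_coprime p V _ hnV hk2
        have h7 : (x : G)⁻¹ * n ^ k * (x : G)⁻¹⁻¹ ∈ (pResidual p V).map V.subtype := by
          apply mem_pResidual_map_of_coprime p V _
            (V.mul_mem (V.mul_mem (V.inv_mem hxV) hnV) (V.inv_mem (V.inv_mem hxV)))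
          have : orderOf ((x : G)⁻¹ * n ^ k * (x : G)⁻¹⁻¹) = orderOf (n ^ k) := by
            have := orderOf_injective (MulAut.conj (x : G)⁻¹).toMonoidHom
              (MulAut.conj (x : G)⁻¹).injective (n ^ k)
            simpa [MulAut.conj_apply] using this
          rw [this]
          exact hk2
        have h8 : (x : G)⁻¹ * (n ^ k * (x : G) * (n ^ k)⁻¹) =
            ((x : G)⁻¹ * n ^ k * (x : G)⁻¹⁻¹) * (n ^ k)⁻¹ := by group
        rw [h8]
        exact Subgroup.mul_mem _ h7 (Subgroup.inv_mem _ h6)
      | one =>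
        intro x
        simp
      | mul a b _ _ iha ihb =>
        intro x
        have h1 : (x : G)⁻¹ * ((((a * b : (groupFusionSystem (P : Subgroup G)).autGroup R) :
            MulAut R) x : R) : G) =
            ((x : G)⁻¹ * (((b : MulAut R) x : R) : G)) *
            ((((b : MulAut R) x : R) : G)⁻¹ * (((a : MulAut R) ((b : MulAut R) x) : R) : G)) := by
          show (x : G)⁻¹ * (((a : MulAut R) ((b : MulAut R) x) : R) : G) = _
          group
        rw [h1]
        exact Subgroup.mul_mem _ (ihb x) (iha _)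
      | inv a _ iha =>
        intro x
        have h1 := iha ((a : MulAut R)⁻¹ x)
        rw [MulAut.apply_inv_self] at h1
        have h2 : (x : G)⁻¹ * ((((a⁻¹ : (groupFusionSystem (P : Subgroup G)).autGroup R) :
            MulAut R) x : R) : G) =
            ((((a : MulAut R)⁻¹ x : R) : G)⁻¹ * (x : G))⁻¹ := by
          show (x : G)⁻¹ * ((((a : MulAut R)⁻¹ x : R)) : G) = _
          group
        rw [h2]
        exact Subgroup.inv_mem _ h1
    exact key α hα x
  · exact inf_le_inf le_rfl (pResidual_map_subtype_le p V)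
where
  smul_le_normalizer_inf_normal' (x : G) (hx : x ∈ (P : Subgroup G)) :
      x ∈ Subgroup.normalizer (((P : Subgroup G) ⊓ Subgroup.centralizer (P : Set G) : Subgroup G) :
        Set G) := by
    rw [Subgroup.mem_normalizer_iff]
    intro y
    have hcn : (Subgroup.centralizer ((P : Subgroup G) : Set G)).Normal → True := fun _ => trivial
    constructor
    · rintro ⟨hy1, hy2⟩
      refine ⟨(P : Subgroup G).mul_mem ((P : Subgroup G).mul_mem hx hy1) ((P : Subgroup G).inv_mem hx), ?_⟩
      change x * y * x⁻¹ ∈ Subgroup.centralizer _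
      change y ∈ Subgroup.centralizer _ at hy2
      rw [Subgroup.mem_centralizer_iff] at hy2 ⊢
      intro z hz
      have hz' : x⁻¹ * z * x ∈ ((P : Subgroup G) : Set G) :=
        (P : Subgroup G).mul_mem ((P : Subgroup G).mul_mem ((P : Subgroup G).inv_mem hx) hz) hx
      have := hy2 _ hz'
      have e1 : z * (x * y * x⁻¹) = x * ((x⁻¹ * z * x) * y) * x⁻¹ := by group
      have e2 : x * y * x⁻¹ * z = x * (y * (x⁻¹ * z * x)) * x⁻¹ := by group
      rw [e1, e2, this]
    · rintro ⟨hy1, hy2⟩
      have hyP : y ∈ (P : Subgroup G) := by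
        have := (P : Subgroup G).mul_mem ((P : Subgroup G).mul_mem ((P : Subgroup G).inv_mem hx) hy1) hx
        have e : x⁻¹ * (x * y * x⁻¹) * x = y := by group
        rwa [e] at this
      refine ⟨hyP, ?_⟩
      change y ∈ Subgroup.centralizer _
      change x * y * x⁻¹ ∈ Subgroup.centralizer _ at hy2
      rw [Subgroup.mem_centralizer_iff] at hy2 ⊢
      intro z hz
      have hz' : x * z * x⁻¹ ∈ ((P : Subgroup G) : Set G) :=
        (P : Subgroup G).mul_mem ((P : Subgroup G).mul_mem hx hz) ((P : Subgroup G).inv_mem hx)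
      have := hy2 _ hz'
      have e1 : z * y = x⁻¹ * ((x * z * x⁻¹) * (x * y * x⁻¹)) * x := by group
      have e2 : y * z = x⁻¹ * ((x * y * x⁻¹) * (x * z * x⁻¹)) * x := by group
      rw [e1, e2, this]

end Cfsg.Agent.Lib.Helper1
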