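import Mathlib
import Cfsg.Agent.Lib.Helper2.HDDefs

/-!
# Farm HD (S1235): unit U4 (case A), a cyclic subgroup of index at most 8 bounds the sections
-/

set_option autoImplicit false

namespace Cfsg.Agent.Lib.Helper1.HDU4

open Cfsg.Agent.Lib.Helper2.HDDefs

theorem card_mul_relIndex'' {G : Type*} [Group G] {H K : Subgroup G} (h : H ≤ K) :
    Nat.card H * H.relIndex K = Nat.card K := by
  have h1 := Subgroup.relIndex_mul_relIndex (⊥ : Subgroup G) H K bot_le h
  rwa [Subgroup.relIndex_bot_left, Subgroup.relIndex_bot_left] at h1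

/-- U4 (case A): a cyclic subgroup of index at most 8 bounds the sections. -/
theorem U4_cyclic {P : Type*} [Group P] [Finite P] (C : Subgroup P) (hC : IsCyclic C)
    (hidx : C.index ≤ 8) : SecBound P := by
  intro R M hMR hn hsq
  have hK : IsCyclic ↥(R ⊓ C) := by
    have h1 : IsCyclic ↥((R ⊓ C).subgroupOf C) := Subgroup.isCyclic _
    exact (Subgroup.subgroupOfEquivOfLe (inf_le_right : R ⊓ C ≤ C)).isCyclic.mp h1
  obtain ⟨⟨k₀, hk₀⟩, hgen⟩ := hK.exists_generator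
  have hKeq : R ⊓ C = Subgroup.zpowers k₀ := by
    apply le_antisymm
    · intro x hx
      have h1 := hgen ⟨x, hx⟩
      rw [Subgroup.mem_zpowers_iff] at h1 ⊢
      obtain ⟨n, hn'⟩ := h1
      refine ⟨n, ?_⟩
      have h2 := congrArg Subtype.val hn'
      simpa using h2
    · rw [Subgroup.zpowers_le]
      exact hk₀
  have hk₀R : k₀ ∈ R := (Subgroup.mem_inf.mp hk₀).1
  have hsqM : k₀ ^ 2 ∈ M := by
    rw [pow_two]
    exact hsq k₀ hk₀R
  have h1 : orderOf (k₀ ^ 2) ≤ Nat.card M := by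
    rw [← Nat.card_zpowers]
    exact Subgroup.card_le_of_le ((Subgroup.zpowers_le).mpr hsqM)
  have h2 : orderOf k₀ ≤ 2 * orderOf (k₀ ^ 2) := by
    rw [orderOf_pow' k₀ (by norm_num : (2 : ℕ) ≠ 0)]
    have hg : Nat.gcd (orderOf k₀) 2 ∣ orderOf k₀ := Nat.gcd_dvd_left _ _
    have hg2 : Nat.gcd (orderOf k₀) 2 ≤ 2 := Nat.le_of_dvd (by norm_num) (Nat.gcd_dvd_right _ _)
    obtain ⟨q, hq⟩ := hg
    have hgpos : 0 < Nat.gcd (orderOf k₀) 2 := Nat.gcd_pos_of_pos_right _ (by norm_num)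
    have h3 : orderOf k₀ / Nat.gcd (orderOf k₀) 2 = q :=
      Nat.div_eq_of_eq_mul_right hgpos hq
    rw [h3]
    calc orderOf k₀ = Nat.gcd (orderOf k₀) 2 * q := hq
      _ ≤ 2 * q := Nat.mul_le_mul_right q hg2
  have hcardK : Nat.card ↥(R ⊓ C) = orderOf k₀ := by
    rw [hKeq, Nat.card_zpowers]
  have h3 := card_mul_relIndex'' (inf_le_left : R ⊓ C ≤ R)
  rw [Subgroup.inf_relIndex_left, hcardK] at h3
  have h4 : C.relIndex R ≤ 8 := by
    have h5 : C.relIndex (⊤ : Subgroup P) ≠ 0 := by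
      rw [Subgroup.relIndex_top_right]
      exact Subgroup.index_ne_zero_of_finite
    have h6 := Subgroup.relIndex_le_of_le_right (le_top : R ≤ ⊤) h5
    rw [Subgroup.relIndex_top_right] at h6
    omega
  calc Nat.card ↥R = orderOf k₀ * C.relIndex R := h3.symm
    _ ≤ (2 * Nat.card ↥M) * 8 := Nat.mul_le_mul (le_trans h2 (Nat.mul_le_mul_left 2 h1)) h4
    _ = 16 * Nat.card ↥M := by ring

end Cfsg.Agent.Lib.Helper1.HDU4
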