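import Mathlib
import Cfsg.Agent.Lib.Helper2.HDDefs

/-!
# Farm HD (S1235): unit U6a (case B), a second elementary abelian subgroup of order 16
-/

set_option autoImplicit false

namespace Cfsg.Agent.Lib.Helper1.HDU6a

open Cfsg.Agent.Lib.Helper2.HDDefs

/-- elements of `T ⊔ T'` when `T'` normalizes `T` -/
theorem exists_mul_of_mem_sup_normalizes {P : Type*} [Group P] (T T' : Subgroup P)
    (hT'N : T' ≤ Subgroup.normalizer (T : Set P)) (w : P) (hw : w ∈ T ⊔ T') :
    ∃ t ∈ T, ∃ p ∈ T', w = t * p := by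
  rw [Subgroup.sup_eq_closure] at hw
  induction hw using Subgroup.closure_induction with
  | mem x hx =>
    rcases hx with hx | hx
    · exact ⟨x, hx, 1, T'.one_mem, by simp⟩
    · exact ⟨1, T.one_mem, x, hx, by simp⟩
  | one => exact ⟨1, T.one_mem, 1, T'.one_mem, by simp⟩
  | mul x y _ _ ihx ihy =>
    obtain ⟨a, ha, b, hb, rfl⟩ := ihx
    obtain ⟨a', ha', b', hb', rfl⟩ := ihy
    have h1 : b * a' * b⁻¹ ∈ T := (Subgroup.mem_normalizer_iff.mp (hT'N hb) a').mp ha'
    exact ⟨a * (b * a' * b⁻¹), T.mul_mem ha h1, b * b', T'.mul_mem hb hb', by group⟩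
  | inv x _ ih =>
    obtain ⟨a, ha, b, hb, rfl⟩ := ih
    have h1 : b⁻¹ * a⁻¹ * b⁻¹⁻¹ ∈ T :=
      (Subgroup.mem_normalizer_iff.mp (hT'N (T'.inv_mem hb)) a⁻¹).mp (T.inv_mem ha)
    exact ⟨b⁻¹ * a⁻¹ * b⁻¹⁻¹, h1, b⁻¹, T'.inv_mem hb, by group⟩

theorem card_mul_relIndex' {G : Type*} [Group G] {H K : Subgroup G} (h : H ≤ K) :
    Nat.card H * H.relIndex K = Nat.card K := by
  have h1 := Subgroup.relIndex_mul_relIndex (⊥ : Subgroup G) H K bot_le h
  rwa [Subgroup.relIndex_bot_left, Subgroup.relIndex_bot_left] at h1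

/-- a group of exponent 2 is commutative -/
theorem comm_of_exp_two {P : Type*} [Group P] (T : Subgroup P) (hexp : ∀ t ∈ T, t * t = 1) :
    ∀ a ∈ T, ∀ b ∈ T, a * b = b * a := by
  intro a ha b hb
  have h1 := hexp (a * b) (T.mul_mem ha hb)
  have h2 := hexp a ha
  have h3 := hexp b hb
  symm
  calc b * a = (a * a) * (b * a) * (b * b) := by rw [h2, h3]; group
    _ = a * (a * b * (a * b)) * b := by group
    _ = a * b := by rw [h1]; group

/-- U6a (case B): a second elementary abelian subgroup of order 16 inside `N_P(T)`. -/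
theorem U6a_two {P : Type*} [Group P] [Finite P] (hP : IsPGroup 2 P) (T B : Subgroup P)
    (hBT : B ≤ T) (hT16 : Nat.card T = 16) (hTexp : ∀ t ∈ T, t * t = 1) (hB4 : Nat.card B = 4)
    (hcent : SmallCent T B) (hN : Nat.card ↥(Subgroup.normalizer (T : Set P)) ≤ 64)
    (T' : Subgroup P) (hT'16 : Nat.card T' = 16) (hT'exp : ∀ t ∈ T', t * t = 1) (hne : T' ≠ T)
    (hT'N : T' ≤ Subgroup.normalizer (T : Set P)) :
    Nat.card ↥(T ⊓ T') = 4 ∧ T ⊔ T' = Subgroup.normalizer (T : Set P) ∧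
      Nat.card ↥(Subgroup.normalizer (T : Set P)) = 64 ∧
      ∀ E : Subgroup P, E ≤ T ⊔ T' → (∀ e ∈ E, e * e = 1) → E ≤ T ∨ E ≤ T' := by
  classical
  have hTN : T ≤ Subgroup.normalizer (T : Set P) := Subgroup.le_normalizer
  have hT'comm := comm_of_exp_two T' hT'exp
  -- centralizer bound
  have hCp : ∀ p ∈ T', p ∉ T →
      Nat.card ↥(T ⊓ Subgroup.centralizer ({p} : Set P)) ≤ 4 := by
    intro p hp hpT
    have hdisj : ∀ c ∈ T ⊓ Subgroup.centralizer ({p} : Set P), c ∈ B → c = 1 := by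
      intro c hc hcB
      by_contra hne1
      have hcp : p * c = c * p := by
        have h1 := (Subgroup.mem_inf.mp hc).2
        rw [Subgroup.mem_centralizer_iff] at h1
        exact h1 p rfl
      exact hpT (hcent c hcB hne1 p hcp)
    have hinj : Function.Injective
        (fun x : ↥(T ⊓ Subgroup.centralizer ({p} : Set P)) × ↥B =>
          (⟨x.1.1 * x.2.1, T.mul_mem (Subgroup.mem_inf.mp x.1.2).1 (hBT x.2.2)⟩ : ↥T)) := by
      rintro ⟨⟨c, hc⟩, ⟨b, hb⟩⟩ ⟨⟨c', hc'⟩, ⟨b', hb'⟩⟩ h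
      simp only [Subtype.mk.injEq] at h
      have h1 : c'⁻¹ * c = b' * b⁻¹ := by
        calc c'⁻¹ * c = c'⁻¹ * (c * b) * b⁻¹ := by group
          _ = c'⁻¹ * (c' * b') * b⁻¹ := by rw [h]
          _ = b' * b⁻¹ := by group
      have h2 : c'⁻¹ * c = 1 := by
        apply hdisj _ (Subgroup.mul_mem _ (Subgroup.inv_mem _ hc') hc)
        rw [h1]
        exact B.mul_mem hb' (B.inv_mem hb)
      have h3 : c = c' := by
        have := inv_mul_eq_one.mp h2
        exact this.symm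
      subst h3
      have h4 : b = b' := mul_left_cancel h
      subst h4
      rfl
    have hle := Nat.card_le_card_of_injective _ hinj
    rw [Nat.card_prod, hB4, hT16] at hle
    omega
  have hWle : ∀ p ∈ T', T ⊓ T' ≤ T ⊓ Subgroup.centralizer ({p} : Set P) := by
    intro p hp x hx
    refine Subgroup.mem_inf.mpr ⟨(Subgroup.mem_inf.mp hx).1, ?_⟩
    rw [Subgroup.mem_centralizer_iff]
    intro h hh
    rw [Set.mem_singleton_iff] at hh
    subst hh
    exact hT'comm h hp x (Subgroup.mem_inf.mp hx).2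
  -- an element of T' outside T
  have hnle : ¬ T' ≤ T := by
    intro hle
    apply hne
    exact Subgroup.eq_of_le_of_card_ge hle (by rw [hT16, hT'16])
  obtain ⟨p₀, hp₀, hp₀T⟩ := SetLike.not_le_iff_exists.mp hnle
  have hW4le : Nat.card ↥(T ⊓ T') ≤ 4 :=
    le_trans (Subgroup.card_le_of_le (hWle p₀ hp₀)) (hCp p₀ hp₀ hp₀T)
  -- lower bound
  have hNpos : 0 < Nat.card ↥(Subgroup.normalizer (T : Set P)) := Nat.card_pos
  have h1 := card_mul_relIndex' hTN
  rw [hT16] at h1
  have hrN : T.relIndex (Subgroup.normalizer (T : Set P)) ≤ 4 := by omega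
  have hrN0 : T.relIndex (Subgroup.normalizer (T : Set P)) ≠ 0 := by
    intro h0
    rw [h0] at h1
    omega
  have hrT' : T.relIndex T' ≤ 4 :=
    le_trans (Subgroup.relIndex_le_of_le_right hT'N hrN0) hrN
  have h2 := card_mul_relIndex' (inf_le_right : T ⊓ T' ≤ T')
  rw [Subgroup.inf_relIndex_right, hT'16] at h2
  have hW4 : Nat.card ↥(T ⊓ T') = 4 := by
    have h3 : Nat.card ↥(T ⊓ T') * T.relIndex T' ≤ Nat.card ↥(T ⊓ T') * 4 :=
      Nat.mul_le_mul_left _ hrT'
    omega
  have hr4 : T.relIndex T' = 4 := by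
    rw [hW4] at h2
    omega
  -- the join
  have hsupN : T ⊔ T' ≤ Subgroup.normalizer (T : Set P) := sup_le hTN hT'N
  have h4 := card_mul_relIndex' (le_sup_left : T ≤ T ⊔ T')
  rw [hT16] at h4
  have hsup0 : T.relIndex (T ⊔ T') ≠ 0 := by
    intro h0
    rw [h0] at h4
    have : 0 < Nat.card ↥(T ⊔ T') := Nat.card_pos
    omega
  have h5 : T.relIndex T' ≤ T.relIndex (T ⊔ T') :=
    Subgroup.relIndex_le_of_le_right le_sup_right hsup0
  have hsup64 : 64 ≤ Nat.card ↥(T ⊔ T') := by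
    rw [hr4] at h5
    omega
  have hsupeq : T ⊔ T' = Subgroup.normalizer (T : Set P) :=
    Subgroup.eq_of_le_of_card_ge hsupN (le_trans hN hsup64)
  have hN64 : Nat.card ↥(Subgroup.normalizer (T : Set P)) = 64 := by
    have h6 : Nat.card ↥(T ⊔ T') ≤ Nat.card ↥(Subgroup.normalizer (T : Set P)) :=
      Subgroup.card_le_of_le hsupN
    omega
  refine ⟨hW4, hsupeq, hN64, ?_⟩
  -- elements of order at most 2
  have hinv : ∀ e ∈ T ⊔ T', e * e = 1 → e ∈ T ∨ e ∈ T' := by
    intro e he hee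
    obtain ⟨t, ht, p, hp, rfl⟩ := exists_mul_of_mem_sup_normalizes T T' hT'N e he
    by_cases hpT : p ∈ T
    · left; exact T.mul_mem ht hpT
    · right
      have htt := hTexp t ht
      have hpp := hT'exp p hp
      have hcomm : p * t = t * p := by
        calc p * t = (t * t) * (p * t) * (p * p) := by rw [htt, hpp]; group
          _ = t * (t * p * (t * p)) * p := by group
          _ = t * p := by rw [hee]; group
      have htC : t ∈ T ⊓ Subgroup.centralizer ({p} : Set P) := by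
        refine Subgroup.mem_inf.mpr ⟨ht, ?_⟩
        rw [Subgroup.mem_centralizer_iff]
        intro h hh
        rw [Set.mem_singleton_iff] at hh
        subst hh
        exact hcomm
      have heq : T ⊓ T' = T ⊓ Subgroup.centralizer ({p} : Set P) :=
        Subgroup.eq_of_le_of_card_ge (hWle p hp) (by rw [hW4]; exact hCp p hp hpT)
      rw [← heq] at htC
      exact T'.mul_mem (Subgroup.mem_inf.mp htC).2 hp
  intro E hE hEexp
  by_contra hcon
  rw [not_or] at hcon
  obtain ⟨e₁, he₁, he₁T⟩ := SetLike.not_le_iff_exists.mp hcon.1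
  obtain ⟨e₂, he₂, he₂T'⟩ := SetLike.not_le_iff_exists.mp hcon.2
  have he₁T' : e₁ ∈ T' := (hinv e₁ (hE he₁) (hEexp e₁ he₁)).resolve_left he₁T
  have he₂T : e₂ ∈ T := (hinv e₂ (hE he₂) (hEexp e₂ he₂)).resolve_right he₂T'
  have h12 := E.mul_mem he₁ he₂
  rcases hinv _ (hE h12) (hEexp _ h12) with h | h
  · apply he₁T
    have : e₁ = e₁ * e₂ * e₂⁻¹ := by group
    rw [this]
    exact T.mul_mem h (T.inv_mem he₂T)
  · apply he₂T'
    have : e₂ = e₁⁻¹ * (e₁ * e₂) := by group
    rw [this]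
    exact T'.mul_mem (T'.inv_mem he₁T') h

end Cfsg.Agent.Lib.Helper1.HDU6a
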