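import Mathlib
import Cfsg.Agent.Lib.Helper2.HDDefs

/-!
# Farm HD (S1235): unit U8a, dihedral `D`
-/

set_option autoImplicit false

namespace Cfsg.Agent.Lib.Helper1.HDU8a

/-- U8a: dihedral `D`: four-group, or nonabelian with a cyclic subgroup of index 2. -/
theorem U8a_dihedral {G : Type*} [Group G] (D : Subgroup G) (m : ℕ) (hm : 2 ≤ m)
    (e : ↥D ≃* DihedralGroup m) :
    (Nat.card D = 4 ∧ ∀ d ∈ D, d * d = 1) ∨
      ∃ C : Subgroup G, C ≤ D ∧ IsCyclic C ∧ C.relIndex D = 2 ∧
        ∃ d ∈ D, ∃ d' ∈ D, d * d' ≠ d' * d := by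
  have hcardD : Nat.card D = 2 * m := by
    rw [Nat.card_congr e.toEquiv, DihedralGroup.nat_card]
  rcases Nat.lt_or_ge 2 m with h3 | h2
  · right
    have hm0 : NeZero m := ⟨by omega⟩
    set g : D := e.symm (DihedralGroup.r 1) with hg
    set s : D := e.symm (DihedralGroup.sr 0) with hs
    refine ⟨Subgroup.zpowers (g : G), ?_, inferInstance, ?_, (g : G), g.2, (s : G), s.2, ?_⟩
    · rw [Subgroup.zpowers_le]
      exact g.2
    · have h1 : (Subgroup.zpowers (g : G)).subgroupOf D = Subgroup.zpowers g := by
        have h2 : (Subgroup.zpowers g).map D.subtype = Subgroup.zpowers (g : G) := by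
          rw [MonoidHom.map_zpowers]
          rfl
        rw [← h2, Subgroup.subgroupOf]
        exact Subgroup.comap_map_eq_self_of_injective D.subtype_injective _
      rw [Subgroup.relIndex, h1]
      have h3' := Subgroup.card_mul_index (Subgroup.zpowers g)
      rw [Nat.card_zpowers, hcardD] at h3'
      have h4 : orderOf g = m := by
        rw [hg, MulEquiv.orderOf_eq, DihedralGroup.orderOf_r_one]
      rw [h4] at h3'
      have hmpos : 0 < m := by omega
      have h5 : m * (Subgroup.zpowers g).index = m * 2 := by rw [h3']; ring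
      exact Nat.eq_of_mul_eq_mul_left hmpos h5
    · intro hcomm
      have h1 : g * s = s * g := by
        apply Subtype.ext
        exact hcomm
      have h2 : (DihedralGroup.r 1 : DihedralGroup m) * DihedralGroup.sr 0 =
          DihedralGroup.sr 0 * DihedralGroup.r 1 := by
        have h3' := congrArg e h1
        rw [map_mul, map_mul, hg, hs, MulEquiv.apply_symm_apply, MulEquiv.apply_symm_apply] at h3'
        exact h3'
      rw [DihedralGroup.r_mul_sr, DihedralGroup.sr_mul_r] at h2
      have h3' : (0 : ZMod m) - 1 = 0 + 1 := by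
        injection h2
      have h4 : ((2 : ℕ) : ZMod m) = 0 := by
        have : (2 : ZMod m) = 0 := by linear_combination -h3'
        exact_mod_cast this
      rw [ZMod.natCast_eq_zero_iff] at h4
      have := Nat.le_of_dvd (by norm_num) h4
      omega
  · left
    have hm2 : m = 2 := by omega
    subst hm2
    refine ⟨by rw [hcardD], ?_⟩
    intro d hd
    have h0 : ∀ x : DihedralGroup 2, x * x = 1 := by decide
    have h1 : e ⟨d, hd⟩ * e ⟨d, hd⟩ = 1 := h0 _
    have h2 : (⟨d, hd⟩ : D) * ⟨d, hd⟩ = 1 := by
      apply e.injective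
      rw [map_mul, map_one, h1]
    have h3 := congrArg Subtype.val h2
    simpa using h3

end Cfsg.Agent.Lib.Helper1.HDU8a
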