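import Mathlib
set_option autoImplicit false
open scoped BigOperators
namespace Cfsg.Agent.Lib.Helper1.HH2L

/-- The trace of a fixed-point-free automorphism of order dividing `p` vanishes. -/
theorem prod_pow_apply_eq_one {W : Type*} [CommGroup W] {p : ℕ} (hp : 0 < p)
    (c : MulAut W) (hc : c ^ p = 1) (hfpf : ∀ w : W, c w = w → w = 1) (w : W) :
    ∏ k ∈ Finset.range p, (c ^ k) w = 1 := by
  apply hfpf
  rw [map_prod]
  have h1 : ∀ k ∈ Finset.range p, c ((c ^ k) w) = (c ^ (k + 1)) w := by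
    intro k _
    rw [pow_succ', MulAut.mul_apply]
  rw [Finset.prod_congr rfl h1]
  obtain ⟨m, rfl⟩ : ∃ m, p = m + 1 := ⟨p - 1, by omega⟩
  rw [Finset.prod_range_succ (fun k => (c ^ (k + 1)) w), hc, MulAut.one_apply,
    Finset.prod_range_succ' (fun k => (c ^ k) w), pow_zero, MulAut.one_apply]

/-- RANK2: `Z_p × Z_p` cannot act on a nontrivial finite abelian `p'`-group with every element
outside the `p`-multiples fixed-point-free. -/
theorem rank_two_fpf {W : Type*} [CommGroup W] [Finite W] {p : ℕ} [hp : Fact p.Prime]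
    (hW : (Nat.card W).Coprime p) (a b : MulAut W) (hab : a * b = b * a) (ha : a ^ p = 1)
    (hb : b ^ p = 1)
    (hfpf : ∀ i j : ℕ, ¬ (p ∣ i ∧ p ∣ j) → ∀ w : W, (a ^ i * b ^ j) w = w → w = 1) :
    ∀ w : W, w = 1 := by
  intro w
  have hp0 : 0 < p := hp.out.pos
  have hcomm : Commute a b := hab
  -- the lines `a * b ^ j`
  have h1 : ∀ j ∈ Finset.range p, ∏ k ∈ Finset.range p, ((a * b ^ j) ^ k) w = 1 := by
    intro j _
    apply prod_pow_apply_eq_one hp0
    · rw [(hcomm.pow_right j).mul_pow, ha, ← pow_mul, mul_comm, pow_mul, hb, one_pow, one_mul]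
    · intro v hv
      apply hfpf 1 j _ v
      · rw [pow_one]; exact hv
      · rintro ⟨h, -⟩
        exact hp.out.one_lt.ne' (Nat.eq_one_of_dvd_one h) |>.elim
  have h2 : ∏ j ∈ Finset.range p, ∏ k ∈ Finset.range p, ((a * b ^ j) ^ k) w = 1 :=
    Finset.prod_eq_one h1
  rw [Finset.prod_comm] at h2
  -- inner products
  have h3 : ∀ k ∈ Finset.range p, k ≠ 0 →
      ∏ j ∈ Finset.range p, ((a * b ^ j) ^ k) w = 1 := by
    intro k hk hk0
    have h4 : ∀ j ∈ Finset.range p, ((a * b ^ j) ^ k) w = (a ^ k) (((b ^ k) ^ j) w) := by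
      intro j _
      rw [(hcomm.pow_right j).mul_pow, MulAut.mul_apply, ← pow_mul, ← pow_mul, mul_comm j k]
    rw [Finset.prod_congr rfl h4, ← map_prod]
    have h5 : ∏ j ∈ Finset.range p, ((b ^ k) ^ j) w = 1 := by
      apply prod_pow_apply_eq_one hp0
      · rw [← pow_mul, mul_comm, pow_mul, hb, one_pow]
      · intro v hv
        apply hfpf 0 k _ v
        · rw [pow_zero, one_mul]; exact hv
        · rintro ⟨-, h⟩
          have := Nat.le_of_dvd (Nat.pos_of_ne_zero hk0) h
          have := Finset.mem_range.mp hk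
          omega
    rw [h5, map_one]
  have h6 : ∏ k ∈ Finset.range p, ∏ j ∈ Finset.range p, ((a * b ^ j) ^ k) w =
      ∏ j ∈ Finset.range p, ((a * b ^ j) ^ 0) w := by
    apply Finset.prod_eq_single 0
    · intro k hk hk0; exact h3 k hk hk0
    · intro h; exact absurd (Finset.mem_range.mpr hp0) h
  rw [h6] at h2
  simp only [pow_zero, MulAut.one_apply, Finset.prod_const, Finset.card_range] at h2
  -- `w ^ p = 1` and `|W|` coprime to `p`
  have h7 : orderOf w ∣ p := orderOf_dvd_of_pow_eq_one h2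
  have h8 : orderOf w ∣ Nat.card W := orderOf_dvd_natCard w
  exact orderOf_eq_one_iff.mp (Nat.eq_one_of_dvd_coprimes hW h8 h7)

end Cfsg.Agent.Lib.Helper1.HH2L
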