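import Mathlib
import Cfsg.Agent.Lib.Helper1.HH2
import Cfsg.Agent.Lib.Helper1.HH2LRank2
set_option autoImplicit false
open scoped BigOperators Pointwise
namespace Cfsg.Agent.Lib.Helper1.HH2L

section basic
variable {W Z A : Type*} [CommGroup W] [CommGroup Z] [CommGroup A]

theorem beta_skew (β : W →* W →* Z) (hβalt : ∀ w, β w w = 1) (w w' : W) :
    β w w' * β w' w = 1 := by
  have h := hβalt (w * w')
  have e : β (w * w') (w * w') = (β w w * β w' w) * (β w w' * β w' w') := by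
    rw [map_mul (β (w * w')) w w', map_mul β w w', MonoidHom.mul_apply, MonoidHom.mul_apply]
  rw [e, hβalt, hβalt, one_mul, mul_one, mul_comm] at h
  exact h

theorem sigma_pow_rho (ρ : A →* MulAut W) (σ : MulAut W) (φ : MulAut A)
    (hσρ : ∀ a w, σ (ρ a w) = ρ (φ a) (σ w)) (k : ℕ) (a : A) (w : W) :
    (σ ^ k) (ρ a w) = ρ ((φ ^ k) a) ((σ ^ k) w) := by
  induction k generalizing a w with
  | zero => simp
  | succ k ih =>
    rw [pow_succ', pow_succ', MulAut.mul_apply, MulAut.mul_apply, MulAut.mul_apply, ih, hσρ]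

theorem sigma_pow_beta (β : W →* W →* Z) (σ : MulAut W) (τ : MulAut Z)
    (hσβ : ∀ w w', β (σ w) (σ w') = τ (β w w')) (k : ℕ) (w w' : W) :
    β ((σ ^ k) w) ((σ ^ k) w') = (τ ^ k) (β w w') := by
  induction k generalizing w w' with
  | zero => simp
  | succ k ih =>
    rw [pow_succ', pow_succ', MulAut.mul_apply, MulAut.mul_apply, MulAut.mul_apply, hσβ, ih]

end basic

section step4
variable {A : Type*} [CommGroup A]

/-- An automorphism of `p`-power order stabilising a subgroup `D` of index `p` (in the form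
`A = ⟨z⟩ D`) of an elementary abelian group acts trivially on `A / D`. -/
theorem mul_inv_mem_of_map_le {p : ℕ} [hp : Fact p.Prime]
    (hA : ∀ a : A, a ^ p = 1) (D : Subgroup A) (z : A) (hzD : z ∉ D)
    (IDX : ∀ b : A, ∃ i : ℕ, b * z ^ i ∈ D)
    (φ₀ : MulAut A) (hφ₀ : φ₀ ^ p = 1) (hmap : ∀ d ∈ D, φ₀ d ∈ D) (a : A) :
    φ₀ a * a⁻¹ ∈ D := by
  have hle : D ≤ D.comap φ₀.toMonoidHom := fun d hd => by
    rw [Subgroup.mem_comap]; exact hmap d hd
  obtain ⟨ψ, hψ⟩ : ∃ ψ : A ⧸ D →* A ⧸ D, ∀ b : A, ψ (b : A ⧸ D) = ((φ₀ b : A) : A ⧸ D) :=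
    ⟨QuotientGroup.map D D φ₀.toMonoidHom hle, fun b => rfl⟩
  obtain ⟨g, hg⟩ : ∃ g : A ⧸ D, g = ((z : A) : A ⧸ D) := ⟨_, rfl⟩
  have hgen : ∀ x : A ⧸ D, x ∈ Subgroup.zpowers g := by
    intro x
    obtain ⟨b, rfl⟩ := QuotientGroup.mk_surjective x
    obtain ⟨i, hi⟩ := IDX b
    have h1 : ((b * z ^ i : A) : A ⧸ D) = 1 := (QuotientGroup.eq_one_iff _).mpr hi
    rw [QuotientGroup.mk_mul, QuotientGroup.mk_pow, ← hg] at h1
    have h2 : (b : A ⧸ D) = (g ^ i)⁻¹ := eq_inv_of_mul_eq_one_left h1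
    rw [h2]
    exact Subgroup.inv_mem _ (Subgroup.pow_mem _ (Subgroup.mem_zpowers g) i)
  have hcyc : IsCyclic (A ⧸ D) := ⟨g, hgen⟩
  obtain ⟨m, hm⟩ := MonoidHom.map_cyclic ψ
  have hg1 : g ≠ 1 := by
    rw [hg]; intro h; exact hzD ((QuotientGroup.eq_one_iff _).mp h)
  have hgp : g ^ p = 1 := by
    rw [hg, ← QuotientGroup.mk_pow, hA z]; rfl
  have hord : orderOf g = p := orderOf_eq_prime hgp hg1
  -- iterate
  have hiter1 : ∀ (j : ℕ) (x : A ⧸ D), (ψ^[j]) x = x ^ (m ^ j) := by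
    intro j
    induction j with
    | zero => intro x; simp
    | succ j ih =>
      intro x
      rw [Function.iterate_succ_apply', ih, hm, ← zpow_mul, pow_succ]
  have hiter2 : ∀ (j : ℕ) (b : A), (ψ^[j]) (b : A ⧸ D) = (((φ₀ ^ j) b : A) : A ⧸ D) := by
    intro j
    induction j with
    | zero => intro b; simp
    | succ j ih =>
      intro b
      rw [Function.iterate_succ_apply', ih, hψ, pow_succ', MulAut.mul_apply]
  have h3 : g ^ (m ^ p) = g := by
    rw [← hiter1 p g, hg, hiter2 p z, hφ₀, MulAut.one_apply]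
  have h4 : g ^ (m ^ p - 1) = 1 := by
    rw [zpow_sub, zpow_one, h3, mul_inv_cancel]
  have h5 : (p : ℤ) ∣ m ^ p - 1 := by
    have := orderOf_dvd_iff_zpow_eq_one.mpr h4
    rw [hord] at this; exact this
  have h6 : ((m : ZMod p)) = 1 := by
    have h7 : ((m ^ p - 1 : ℤ) : ZMod p) = 0 := (ZMod.intCast_zmod_eq_zero_iff_dvd _ p).mpr h5
    push_cast at h7
    rw [ZMod.pow_card] at h7
    exact sub_eq_zero.mp h7
  have h8 : (p : ℤ) ∣ m - 1 := by
    rw [← ZMod.intCast_zmod_eq_zero_iff_dvd]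
    push_cast
    rw [h6, sub_self]
  have h9 : g ^ m = g := by
    have : g ^ (m - 1) = 1 := by
      apply orderOf_dvd_iff_zpow_eq_one.mp
      rw [hord]; exact h8
    rw [zpow_sub, zpow_one] at this
    exact mul_inv_eq_one.mp this
  have h10 : ∀ x : A ⧸ D, ψ x = x := by
    intro x
    obtain ⟨k, rfl⟩ := Subgroup.mem_zpowers_iff.mp (hgen x)
    rw [hm, ← zpow_mul, mul_comm, zpow_mul, h9]
  have h11 := h10 (a : A ⧸ D)
  rw [hψ] at h11
  have h12 : a⁻¹ * φ₀ a ∈ D := QuotientGroup.eq.mp h11.symm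
  rw [mul_comm]; exact h12

end step4

section main
variable {W Z A : Type*} [CommGroup W] [CommGroup Z] [CommGroup A]

theorem exists_pow_pow_eq {p : ℕ} (hp : p.Prime) (g : A) (hg : g ^ p = 1) (m : ℕ)
    (hm : ¬ p ∣ m) : ∃ m' : ℕ, (g ^ m) ^ m' = g := by
  have hcop : Nat.Coprime m p := ((Nat.Prime.coprime_iff_not_dvd hp).mpr hm).symm
  obtain ⟨u, -, hu⟩ := Nat.exists_mul_mod_eq_one_of_coprime hcop hp.one_lt
  refine ⟨u, ?_⟩
  rw [← pow_mul, pow_eq_pow_mod _ hg, hu, pow_one]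

/-- FORM-abstract: the alternating form argument. -/
theorem form_abstract [Finite W] [Finite A]
    {p : ℕ} [hpF : Fact p.Prime] (hW : (Nat.card W).Coprime p) (hA : ∀ a : A, a ^ p = 1)
    (ρ : A →* MulAut W)
    (β : W →* W →* Z) (hβalt : ∀ w, β w w = 1) (hβA : ∀ a w w', β (ρ a w) (ρ a w') = β w w')
    (σ : MulAut W) (τ : MulAut Z) (φ : MulAut A)
    (hσβ : ∀ w w', β (σ w) (σ w') = τ (β w w'))
    (hσρ : ∀ a w, σ (ρ a w) = ρ (φ a) (σ w))
    (n : ℕ) (hσ : σ ^ p ^ (n + 1) = 1) (hφ : φ ^ p ^ (n + 1) = 1)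
    (hi : ∀ X : Subgroup W, (∀ w ∈ X, σ w ∈ X) → (∀ w ∈ X, ∀ w' ∈ X, β w w' = 1) →
      ∀ w ∈ X, (σ ^ p ^ n) w = w)
    (a : A) : ∀ w : W, ρ ((φ ^ p ^ n) a * a⁻¹) w = w := by
  classical
  have hp : p.Prime := hpF.out
  have hFA : Fintype A := Fintype.ofFinite A
  intro w₀
  by_contra hne
  obtain ⟨φ₀, hφ₀⟩ : ∃ φ₀ : MulAut A, φ₀ = φ ^ p ^ n := ⟨_, rfl⟩
  obtain ⟨z, hz⟩ : ∃ z : A, z = φ₀ a * a⁻¹ := ⟨_, rfl⟩
  rw [← hφ₀, ← hz] at hne
  have hφ₀p : φ₀ ^ p = 1 := by rw [hφ₀, ← pow_mul, ← pow_succ]; exact hφ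
  -- coprimality
  have hWp : ∀ (w : W) (k : ℕ), w ^ p ^ k = 1 → w = 1 := by
    intro w k hw
    have h1 : orderOf w ∣ p ^ k := orderOf_dvd_of_pow_eq_one hw
    have h2 : orderOf w ∣ Nat.card W := orderOf_dvd_natCard w
    exact orderOf_eq_one_iff.mp
      (Nat.eq_one_of_dvd_coprimes (Nat.Coprime.pow_right k hW) h2 h1)
  obtain ⟨r, hr⟩ : ∃ r, Nat.card A = p ^ r :=
    IsPGroup.iff_card.mp (fun g => ⟨1, by rw [pow_one]; exact hA g⟩)
  have hρcomm : ∀ (b c : A) (w : W), ρ b (ρ c w) = ρ c (ρ b w) := by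
    intro b c w
    rw [← MulAut.mul_apply, ← MulAut.mul_apply, ← map_mul, ← map_mul, mul_comm]
  -- the trace
  obtain ⟨tr, htr⟩ : ∃ tr : W →* W, ∀ w, tr w = ∏ b : A, ρ b w :=
    ⟨{ toFun := fun w => ∏ b : A, ρ b w
       map_one' := by simp
       map_mul' := by intro x y; simp [Finset.prod_mul_distrib] }, fun w => rfl⟩
  obtain ⟨W0, hW0⟩ : ∃ W0 : Subgroup W, W0 = tr.ker := ⟨_, rfl⟩
  have hW0mem : ∀ w, w ∈ W0 ↔ ∏ b : A, ρ b w = 1 := by
    intro w; rw [hW0, MonoidHom.mem_ker, htr]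
  have hW0A : ∀ (c : A) (w : W), w ∈ W0 → ρ c w ∈ W0 := by
    intro c w hw
    rw [hW0mem] at hw ⊢
    rw [← hw]
    apply Fintype.prod_equiv (Equiv.mulRight c)
    intro b
    rw [Equiv.coe_mulRight, map_mul, MulAut.mul_apply]
  have hW0σ : ∀ w : W, w ∈ W0 → σ w ∈ W0 := by
    intro w hw
    rw [hW0mem] at hw ⊢
    have h1 : σ (∏ b : A, ρ b w) = ∏ b : A, ρ (φ b) (σ w) := by
      rw [map_prod]
      exact Finset.prod_congr rfl (fun b _ => hσρ b w)
    rw [hw, map_one] at h1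
    rw [h1]
    exact (Fintype.prod_equiv φ.toEquiv _ _ (fun b => rfl)).symm
  have hW0σk : ∀ (k : ℕ) (w : W), w ∈ W0 → (σ ^ k) w ∈ W0 := by
    intro k
    induction k with
    | zero => intro w hw; simpa using hw
    | succ k ih => intro w hw; rw [pow_succ', MulAut.mul_apply]; exact hW0σ _ (ih w hw)
  have hW0δ : ∀ (c : A) (w : W), ρ c w * w⁻¹ ∈ W0 := by
    intro c w
    rw [hW0mem]
    have h1 : ∀ b : A, ρ b (ρ c w * w⁻¹) = ρ (b * c) w * (ρ b w)⁻¹ := by
      intro b; rw [map_mul, map_inv, map_mul, MulAut.mul_apply]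
    rw [Finset.prod_congr rfl (fun b _ => h1 b), Finset.prod_mul_distrib, Finset.prod_inv_distrib]
    have h2 : ∏ b : A, ρ (b * c) w = ∏ b : A, ρ b w :=
      Fintype.prod_equiv (Equiv.mulRight c) _ _ (fun b => rfl)
    rw [h2, mul_inv_cancel]
  have hW0fix : ∀ w ∈ W0, (∀ b : A, ρ b w = w) → w = 1 := by
    intro w hw hfix
    rw [hW0mem] at hw
    rw [Finset.prod_congr rfl (fun b _ => hfix b), Finset.prod_const, Finset.card_univ,
      ← Nat.card_eq_fintype_card, hr] at hw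
    exact hWp w r hw
  -- the commutator subgroup `[W, z]`
  have hzp : z ^ p = 1 := hA z
  obtain ⟨δ, hδ⟩ : ∃ δ : W →* W, ∀ w, δ w = ρ z w * w⁻¹ :=
    ⟨{ toFun := fun w => ρ z w * w⁻¹
       map_one' := by simp
       map_mul' := by intro x y; rw [map_mul, mul_inv]; exact mul_mul_mul_comm _ _ _ _ },
      fun w => rfl⟩
  obtain ⟨Wz, hWz⟩ : ∃ Wz : Subgroup W, Wz = δ.range := ⟨_, rfl⟩
  have hWzfix : ∀ v ∈ Wz, ρ z v = v → v = 1 := by
    intro v hv hfix
    rw [hWz] at hv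
    obtain ⟨w, rfl⟩ := hv
    have h1 : ∀ k : ℕ, (ρ z ^ k) (δ w) = δ w := by
      intro k
      induction k with
      | zero => simp
      | succ k ih => rw [pow_succ', MulAut.mul_apply, ih, hfix]
    have h2 : ∏ k ∈ Finset.range p, (ρ z ^ k) (δ w) = (δ w) ^ p := by
      rw [Finset.prod_congr rfl (fun k _ => h1 k), Finset.prod_const, Finset.card_range]
    have h3 : ∏ k ∈ Finset.range p, (ρ z ^ k) (δ w) = 1 := by
      have h4 : ∀ k ∈ Finset.range p, (ρ z ^ k) (δ w) = (ρ z ^ (k + 1)) w / (ρ z ^ k) w := by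
        intro k _
        rw [hδ, map_mul, map_inv, pow_succ, MulAut.mul_apply, div_eq_mul_inv]
      rw [Finset.prod_congr rfl h4, Finset.prod_range_div (fun k => (ρ z ^ k) w), ← map_pow, hzp,
        map_one, pow_zero, div_self']
    rw [h2] at h3
    exact hWp _ 1 (by rw [pow_one]; exact h3)
  have hWzA : ∀ (c : A) (v : W), v ∈ Wz → ρ c v ∈ Wz := by
    intro c v hv
    rw [hWz] at hv ⊢
    obtain ⟨w, rfl⟩ := hv
    refine ⟨ρ c w, ?_⟩
    rw [hδ, hδ, map_mul, map_inv, hρcomm]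
  have hWzne : Wz ≠ ⊥ := by
    intro h
    have h1 : δ w₀ ∈ Wz := by rw [hWz]; exact ⟨w₀, rfl⟩
    rw [h, Subgroup.mem_bot, hδ] at h1
    exact hne (mul_inv_eq_one.mp h1)
  have hWzW0 : Wz ≤ W0 := by
    intro v hv
    rw [hWz] at hv
    obtain ⟨w, rfl⟩ := hv
    rw [hδ]; exact hW0δ z w
  -- a minimal nontrivial `A`-invariant subgroup `U ≤ [W, z]`
  obtain ⟨S, hS⟩ : ∃ S : Set (Subgroup W),
      S = {U | U ≠ ⊥ ∧ U ≤ Wz ∧ ∀ (c : A) (w : W), w ∈ U → ρ c w ∈ U} := ⟨_, rfl⟩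
  have hSne : S.Nonempty := ⟨Wz, by rw [hS]; exact ⟨hWzne, le_refl _, hWzA⟩⟩
  obtain ⟨U, hUmin⟩ := (Set.toFinite S).exists_minimal hSne
  have hUS : U ∈ S := hUmin.prop
  rw [hS] at hUS
  obtain ⟨hUne, hUWz, hUA⟩ := hUS
  have hUmin' : ∀ U' : Subgroup W, U' ≠ ⊥ → U' ≤ U →
      (∀ (c : A) (w : W), w ∈ U' → ρ c w ∈ U') → U ≤ U' := by
    intro U' h1 h2 h3
    exact hUmin.le_of_le (by rw [hS]; exact ⟨h1, h2.trans hUWz, h3⟩) h2
  obtain ⟨u, huU, hu1⟩ : ∃ u ∈ U, u ≠ 1 := by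
    by_contra h
    push Not at h
    exact hUne ((Subgroup.eq_bot_iff_forall U).mpr h)
  -- the kernel `D`
  obtain ⟨D, hD⟩ : ∃ D : Subgroup A, ∀ b, b ∈ D ↔ ∀ w ∈ U, ρ b w = w :=
    ⟨{ carrier := {b | ∀ w ∈ U, ρ b w = w}
       one_mem' := by intro w _; simp
       mul_mem' := by
        intro b c hb hc w hw
        rw [map_mul, MulAut.mul_apply, hc w hw, hb w hw]
       inv_mem' := by
        intro b hb w hw
        have := hb w hw
        rw [map_inv]
        calc (ρ b)⁻¹ w = (ρ b)⁻¹ (ρ b w) := by rw [this]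
          _ = w := MulAut.inv_apply_self _ _ _ }, fun b => Iff.rfl⟩
  have hzD : z ∉ D := by
    intro h
    exact hu1 (hWzfix u (hUWz huU) ((hD z).mp h u huU))
  have hfpfU : ∀ c : A, c ∉ D → ∀ w ∈ U, ρ c w = w → w = 1 := by
    intro c hc w hw hfix
    by_contra hw1
    obtain ⟨F, hF⟩ : ∃ F : Subgroup W, ∀ v, v ∈ F ↔ v ∈ U ∧ ρ c v = v :=
      ⟨{ carrier := {v | v ∈ U ∧ ρ c v = v}
         one_mem' := ⟨U.one_mem, map_one _⟩
         mul_mem' := by
          rintro x y ⟨hx, hx'⟩ ⟨hy, hy'⟩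
          exact ⟨U.mul_mem hx hy, by rw [map_mul, hx', hy']⟩
         inv_mem' := by
          rintro x ⟨hx, hx'⟩
          exact ⟨U.inv_mem hx, by rw [map_inv, hx']⟩ }, fun v => Iff.rfl⟩
    have hFne : F ≠ ⊥ := by
      intro h
      have : w ∈ F := (hF w).mpr ⟨hw, hfix⟩
      rw [h, Subgroup.mem_bot] at this
      exact hw1 this
    have hFU : F ≤ U := fun v hv => ((hF v).mp hv).1
    have hFA : ∀ (b : A) (v : W), v ∈ F → ρ b v ∈ F := by
      intro b v hv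
      obtain ⟨h1, h2⟩ := (hF v).mp hv
      exact (hF _).mpr ⟨hUA b v h1, by rw [hρcomm, h2]⟩
    have hUF := hUmin' F hFne hFU hFA
    apply hc
    rw [hD]
    intro v hv
    exact ((hF v).mp (hUF hv)).2
  -- `D` has index `p`:  `A = ⟨c⟩ D` for every `c ∉ D`
  have hWU : (Nat.card U).Coprime p :=
    Nat.Coprime.coprime_dvd_left (Subgroup.card_subgroup_dvd_card U) hW
  obtain ⟨res, hres⟩ : ∃ res : A →* MulAut ↥U, ∀ (b : A) (w : ↥U), ((res b w : ↥U) : W) = ρ b w :=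
    ⟨{ toFun := fun b =>
        { toFun := fun w => ⟨ρ b w, hUA b w w.2⟩
          invFun := fun w => ⟨ρ b⁻¹ w, hUA b⁻¹ w w.2⟩
          left_inv := by
            intro w; apply Subtype.ext
            show ρ b⁻¹ (ρ b w) = w
            rw [map_inv]; exact MulAut.inv_apply_self _ _ _
          right_inv := by
            intro w; apply Subtype.ext
            show ρ b (ρ b⁻¹ w) = w
            rw [map_inv]; exact MulAut.apply_inv_self _ _ _
          map_mul' := by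
            intro x y; apply Subtype.ext
            show ρ b ((x : W) * (y : W)) = ρ b x * ρ b y
            rw [map_mul] }
       map_one' := by
        ext w
        show ρ 1 (w : W) = w
        rw [map_one, MulAut.one_apply]
       map_mul' := by
        intro b c; ext w
        show ρ (b * c) (w : W) = ρ b (ρ c w)
        rw [map_mul, MulAut.mul_apply] }, fun b w => rfl⟩
  have IDX : ∀ b c : A, c ∉ D → ∃ i : ℕ, b * c ^ i ∈ D := by
    intro b c hc
    by_contra hcon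
    push Not at hcon
    have hfp : ∀ i j : ℕ, ¬ (p ∣ i ∧ p ∣ j) →
        ∀ w : ↥U, ((res c) ^ i * (res b) ^ j) w = w → w = 1 := by
      intro i j hij w hw
      have h1 : c ^ i * b ^ j ∉ D := by
        intro hmem
        by_cases hj : p ∣ j
        · have hi : ¬ p ∣ i := fun h => hij ⟨h, hj⟩
          obtain ⟨t, rfl⟩ := hj
          rw [pow_mul, hA b, one_pow, mul_one] at hmem
          obtain ⟨m', hm'⟩ := exists_pow_pow_eq hp c (hA c) i hi
          exact hc (hm' ▸ D.pow_mem hmem m')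
        · obtain ⟨m', hm'⟩ := exists_pow_pow_eq hp b (hA b) j hj
          have h2 := D.pow_mem hmem m'
          rw [mul_pow, hm', ← pow_mul, mul_comm] at h2
          exact hcon _ h2
      have h3 : ρ (c ^ i * b ^ j) (w : W) = w := by
        have := congrArg Subtype.val hw
        rw [← map_pow, ← map_pow, ← map_mul, hres] at this
        exact this
      have h4 := hfpfU _ h1 (w : W) w.2 h3
      exact Subtype.ext h4
    have hcb : res c * res b = res b * res c := by rw [← map_mul, ← map_mul, mul_comm]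
    have h5 := rank_two_fpf hWU (res c) (res b) hcb (by rw [← map_pow, hA, map_one])
      (by rw [← map_pow, hA, map_one]) hfp ⟨u, huU⟩
    exact hu1 (congrArg Subtype.val h5)
  have IDXmap : ∀ (ψ : MulAut A) (b c : A), c ∉ D.map ψ.toMonoidHom →
      ∃ i : ℕ, b * c ^ i ∈ D.map ψ.toMonoidHom := by
    intro ψ b c hc
    have h1 : ψ⁻¹ c ∉ D := by
      intro h
      apply hc
      exact ⟨ψ⁻¹ c, h, MulAut.apply_inv_self _ _ _⟩
    obtain ⟨i, hi⟩ := IDX (ψ⁻¹ b) (ψ⁻¹ c) h1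
    refine ⟨i, ψ⁻¹ b * (ψ⁻¹ c) ^ i, hi, ?_⟩
    show ψ (ψ⁻¹ b * (ψ⁻¹ c) ^ i) = b * c ^ i
    rw [map_mul, map_pow, MulAut.apply_inv_self, MulAut.apply_inv_self]
  have hcardmap : ∀ ψ : MulAut A, Nat.card (D.map ψ.toMonoidHom) = Nat.card D := by
    intro ψ
    exact Subgroup.card_map_of_injective ψ.injective
  have hexists_notin : ∀ D₁ D₂ : Subgroup A, Nat.card D₁ = Nat.card D₂ → D₁ ≠ D₂ →
      ∃ c ∈ D₁, c ∉ D₂ := by
    intro D₁ D₂ hc hne'
    by_contra hcon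
    push Not at hcon
    exact hne' (Subgroup.eq_of_le_of_card_ge hcon hc.symm.le)
  -- `D` is moved by `φ₀`
  have hφ₀D : D.map φ₀.toMonoidHom ≠ D := by
    intro heq
    have hmap : ∀ d ∈ D, φ₀ d ∈ D := by
      intro d hd
      rw [← heq]; exact ⟨d, hd, rfl⟩
    have := mul_inv_mem_of_map_le hA D z hzD (fun b => IDX b z hzD) φ₀ hφ₀p hmap a
    rw [← hz] at this
    exact hzD this
  have hφkD : ∀ k : ℕ, 0 < k → k < p ^ (n + 1) → D.map (φ ^ k).toMonoidHom ≠ D := by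
    intro k hk0 hkN heq
    have h1 : φ ^ p ^ n ∈ Subgroup.zpowers (φ ^ k) :=
      Cfsg.Agent.Lib.Helper1.HH.pow_pow_mem_zpowers hp φ n hφ k hk0 hkN
    have hfin : IsOfFinOrder (φ ^ k) := by
      rw [isOfFinOrder_iff_pow_eq_one]
      refine ⟨p ^ (n + 1), pow_pos hp.pos _, ?_⟩
      rw [← pow_mul, mul_comm, pow_mul, hφ, one_pow]
    rw [← hfin.mem_powers_iff_mem_zpowers] at h1
    obtain ⟨j, hj⟩ := h1
    have h2 : ∀ j : ℕ, D.map ((φ ^ k) ^ j).toMonoidHom = D := by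
      intro j
      induction j with
      | zero =>
        ext x
        constructor
        · rintro ⟨d, hd, rfl⟩; simpa using hd
        · intro hx; exact ⟨x, hx, by simp⟩
      | succ j ih =>
        ext x
        constructor
        · rintro ⟨d, hd, rfl⟩
          have h3 : ((φ ^ k) ^ j) d ∈ D := by rw [← ih]; exact ⟨d, hd, rfl⟩
          have h4 : (φ ^ k) (((φ ^ k) ^ j) d) ∈ D := by rw [← heq]; exact ⟨_, h3, rfl⟩
          rw [pow_succ']
          exact h4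
        · intro hx
          rw [← heq] at hx
          obtain ⟨d, hd, rfl⟩ := hx
          rw [← ih] at hd
          obtain ⟨d', hd', rfl⟩ := hd
          refine ⟨d', hd', ?_⟩
          show ((φ ^ k) ^ (j + 1)) d' = (φ ^ k) (((φ ^ k) ^ j) d')
          rw [pow_succ', MulAut.mul_apply]
    apply hφ₀D
    rw [hφ₀, ← hj]
    exact h2 j
  -- orthogonality
  have hortho : ∀ k : ℕ, 0 < k → k < p ^ (n + 1) → β u ((σ ^ k) u) = 1 := by
    intro k hk0 hkN
    obtain ⟨Dk, hDk⟩ : ∃ Dk : Subgroup A, Dk = D.map (φ ^ k).toMonoidHom := ⟨_, rfl⟩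
    have hDkne : D ≠ Dk := by rw [hDk]; exact (hφkD k hk0 hkN).symm
    obtain ⟨c, hcD, hcDk⟩ := hexists_notin D Dk (by rw [hDk, hcardmap]) hDkne
    obtain ⟨Xk, hXk⟩ : ∃ Xk : Subgroup W, ∀ w, w ∈ Xk ↔ w ∈ W0 ∧ ∀ d ∈ Dk, ρ d w = w :=
      ⟨{ carrier := {w | w ∈ W0 ∧ ∀ d ∈ Dk, ρ d w = w}
         one_mem' := ⟨W0.one_mem, fun d _ => map_one _⟩
         mul_mem' := by
          rintro x y ⟨hx, hx'⟩ ⟨hy, hy'⟩
          exact ⟨W0.mul_mem hx hy, fun d hd => by rw [map_mul, hx' d hd, hy' d hd]⟩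
         inv_mem' := by
          rintro x ⟨hx, hx'⟩
          exact ⟨W0.inv_mem hx, fun d hd => by rw [map_inv, hx' d hd]⟩ }, fun w => Iff.rfl⟩
    have huk : (σ ^ k) u ∈ Xk := by
      rw [hXk]
      refine ⟨hW0σk k u (hWzW0 (hUWz huU)), ?_⟩
      intro d hd
      rw [hDk] at hd
      obtain ⟨d₀, hd₀, rfl⟩ := hd
      show ρ ((φ ^ k) d₀) ((σ ^ k) u) = (σ ^ k) u
      rw [← sigma_pow_rho ρ σ φ hσρ, (hD d₀).mp hd₀ u huU]
    have hXkc : ∀ w ∈ Xk, ρ c w * w⁻¹ ∈ Xk := by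
      intro w hw
      have hw' := (hXk w).mp hw
      apply Xk.mul_mem _ (Xk.inv_mem hw)
      rw [hXk]
      exact ⟨hW0A c w hw'.1, fun d hd => by rw [hρcomm, hw'.2 d hd]⟩
    have hinj : Function.Injective (fun w : ↥Xk => (⟨ρ c w * (w : W)⁻¹, hXkc w w.2⟩ : ↥Xk)) := by
      intro w w' hww'
      have h1 : ρ c (w : W) * (w : W)⁻¹ = ρ c (w' : W) * (w' : W)⁻¹ := Subtype.mk.inj hww'
      obtain ⟨v, hv⟩ : ∃ v : W, v = (w : W) * (w' : W)⁻¹ := ⟨_, rfl⟩
      have hvX : v ∈ Xk := by rw [hv]; exact Xk.mul_mem w.2 (Xk.inv_mem w'.2)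
      have hvc : ρ c v = v := by
        rw [hv, map_mul, map_inv]
        have h2 : ρ c (w : W) = ρ c (w' : W) * (w' : W)⁻¹ * (w : W) := by
          rw [← h1]; group
        rw [h2]
        calc ρ c (w' : W) * (w' : W)⁻¹ * (w : W) * (ρ c (w' : W))⁻¹
            = (ρ c (w' : W))⁻¹ * (ρ c (w' : W) * ((w' : W)⁻¹ * (w : W))) := by
              rw [mul_comm, mul_assoc]
          _ = (w' : W)⁻¹ * (w : W) := inv_mul_cancel_left _ _
          _ = (w : W) * (w' : W)⁻¹ := mul_comm _ _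
      have hv' := (hXk v).mp hvX
      have hv1 : v = 1 := by
        apply hW0fix v hv'.1
        intro b
        obtain ⟨i, hi⟩ := IDXmap (φ ^ k) b c (by rw [← hDk]; exact hcDk)
        rw [← hDk] at hi
        have h3 := hv'.2 _ hi
        have h4 : ρ (c ^ i) v = v := by
          rw [map_pow]
          clear h3 hi
          induction i with
          | zero => simp
          | succ i ih => rw [pow_succ', MulAut.mul_apply, ih, hvc]
        rw [map_mul, MulAut.mul_apply, h4] at h3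
        exact h3
      apply Subtype.ext
      rw [hv] at hv1
      exact mul_inv_eq_one.mp hv1
    have hsurj := Finite.surjective_of_injective hinj
    obtain ⟨w, hw⟩ := hsurj ⟨(σ ^ k) u, huk⟩
    have hw' : ρ c (w : W) * (w : W)⁻¹ = (σ ^ k) u := Subtype.mk.inj hw
    rw [← hw', map_mul, map_inv]
    have h5 : β u (ρ c (w : W)) = β u (w : W) := by
      have := hβA c u (w : W)
      rw [(hD c).mp hcD u huU] at this
      exact this
    rw [h5, mul_inv_cancel]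
  -- the isotropic subgroup
  obtain ⟨X, hX⟩ : ∃ X : Subgroup W, X = Subgroup.closure (Set.range (fun k : ℕ => (σ ^ k) u)) :=
    ⟨_, rfl⟩
  have hXσ : ∀ w ∈ X, σ w ∈ X := by
    have h1 : X ≤ X.comap σ.toMonoidHom := by
      rw [hX, Subgroup.closure_le]
      rintro _ ⟨k, rfl⟩
      show σ ((σ ^ k) u) ∈ Subgroup.closure _
      apply Subgroup.subset_closure
      exact ⟨k + 1, by show (σ ^ (k + 1)) u = σ ((σ ^ k) u); rw [pow_succ', MulAut.mul_apply]⟩
    intro w hw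
    exact h1 hw
  have hσmod : ∀ k : ℕ, (σ ^ k) u = (σ ^ (k % p ^ (n + 1))) u := by
    intro k
    rw [pow_eq_pow_mod k hσ]
  have hgen0 : ∀ k : ℕ, β u ((σ ^ k) u) = 1 := by
    intro k
    rw [hσmod k]
    by_cases h0 : k % p ^ (n + 1) = 0
    · rw [h0, pow_zero, MulAut.one_apply]; exact hβalt u
    · exact hortho _ (Nat.pos_of_ne_zero h0) (Nat.mod_lt _ (pow_pos hp.pos _))
  have hgen : ∀ i j : ℕ, β ((σ ^ i) u) ((σ ^ j) u) = 1 := by
    have hle : ∀ i j : ℕ, i ≤ j → β ((σ ^ i) u) ((σ ^ j) u) = 1 := by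
      intro i j hij
      obtain ⟨t, rfl⟩ := Nat.exists_eq_add_of_le hij
      rw [pow_add, MulAut.mul_apply, sigma_pow_beta β σ τ hσβ, hgen0, map_one]
    intro i j
    rcases le_total i j with h | h
    · exact hle i j h
    · have h1 := beta_skew β hβalt ((σ ^ i) u) ((σ ^ j) u)
      rw [hle j i h, mul_one] at h1
      exact h1
  have hXiso : ∀ w ∈ X, ∀ w' ∈ X, β w w' = 1 := by
    have h1 : ∀ i : ℕ, X ≤ (β ((σ ^ i) u)).ker := by
      intro i
      rw [hX, Subgroup.closure_le]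
      rintro _ ⟨j, rfl⟩
      exact hgen i j
    intro w hw w' hw'
    have h2 : X ≤ (β.flip w').ker := by
      rw [hX, Subgroup.closure_le]
      rintro _ ⟨i, rfl⟩
      show β.flip w' ((σ ^ i) u) = 1
      rw [MonoidHom.flip_apply]
      exact h1 i hw'
    have := h2 hw
    rw [MonoidHom.mem_ker, MonoidHom.flip_apply] at this
    exact this
  have huX : u ∈ X := by
    rw [hX]; apply Subgroup.subset_closure
    exact ⟨0, by simp⟩
  have hfixu := hi X hXσ hXiso u huX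
  -- final contradiction
  obtain ⟨c, hcD', hcD⟩ := hexists_notin (D.map φ₀.toMonoidHom) D (hcardmap φ₀) hφ₀D
  obtain ⟨d₀, hd₀, rfl⟩ := hcD'
  have h1 : ρ (φ₀ d₀) ((σ ^ p ^ n) u) = (σ ^ p ^ n) u := by
    rw [hφ₀, ← sigma_pow_rho ρ σ φ hσρ, (hD d₀).mp hd₀ u huU]
  rw [hfixu] at h1
  exact hu1 (hfpfU _ hcD u huU h1)

end main

end Cfsg.Agent.Lib.Helper1.HH2L
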