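import Mathlib
import Cfsg.Prelude.Def_Local
import Cfsg.Prelude.Def_PLocal
import Cfsg.Agent.Lib.Helper1.HH3
set_option autoImplicit false
open Cfsg
open scoped commutatorElement BigOperators
universe u
namespace Cfsg.Agent.Lib.Helper1.HH2L
open Cfsg.Agent.Lib.Helper1.HH
variable {G : Type u} [Group G]

theorem pow_centralizes_abelian_aux [Finite G] {p : ℕ} [hp : Fact p.Prime]
    (hsol : IsPSolvable p G) (hbot : pPrimeCore p G = ⊥) (n : ℕ)
    (hexp : ExpLE p (n + 1) G) (x : G) (hx : ∃ a, x ^ p ^ a = 1)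
    (H : Subgroup G) [hHn : H.Normal] (hH : H = pCore p G)
    (T : Subgroup (G ⧸ H)) (hTab : ∀ a ∈ T, ∀ b ∈ T, a * b = b * a)
    (hTcop : (Nat.card T).Coprime p)
    (hxT : ∀ b ∈ T, (QuotientGroup.mk' H x) * b * (QuotientGroup.mk' H x)⁻¹ ∈ T) :
    ∀ b ∈ T, (QuotientGroup.mk' H x) ^ p ^ n * b = b * (QuotientGroup.mk' H x) ^ p ^ n := by
  have hHp : IsPGroup p H := by rw [hH]; exact pCore_isPGroup p
  have hc : Subgroup.centralizer (H : Set G) ≤ H := by
    rw [hH]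
    exact centralizer_pCore_le_of_isPSolvable hbot (PSolvSub.isPSolvable_subgroup hsol _)
  obtain ⟨Φ, hΦ⟩ : ∃ Φ, Φ = (frattini ↥H).map H.subtype := ⟨_, rfl⟩
  have hΦn : Φ.Normal := by rw [hΦ]; infer_instance
  have hker : sectionKernel H Φ ≤ H := by
    have h1 : IsPGroup p (sectionKernel H Φ) := by
      subst hΦ
      exact StableQuad.isPGroup_sectionKernel_frattini H hHp hc
    exact (le_pCore (sectionKernel_normal H Φ) h1).trans_eq hH.symm
  have hcommΦ : ∀ a ∈ H, ∀ b ∈ H, a * b * a⁻¹ * b⁻¹ ∈ Φ := by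
    intro a ha b hb
    rw [hΦ]
    have h2 : ⁅(⟨a, ha⟩ : H), ⟨b, hb⟩⁆ ∈ commutator ↥H :=
      Subgroup.commutator_mem_commutator (Subgroup.mem_top _) (Subgroup.mem_top _)
    have h3 := commutator_le_frattini_of_isPGroup p hHp h2
    exact ⟨_, h3, by simp [commutatorElement_def]⟩
  have hcomm : ∀ a b : ↥(sec H Φ), a * b = b * a := by
    rintro ⟨_, a, ha, rfl⟩ ⟨_, b, hb, rfl⟩
    apply Subtype.ext
    show (QuotientGroup.mk' Φ a) * (QuotientGroup.mk' Φ b) =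
      (QuotientGroup.mk' Φ b) * (QuotientGroup.mk' Φ a)
    rw [← map_mul, ← map_mul]
    apply Eq.symm
    show ((b * a : G) : G ⧸ Φ) = ((a * b : G) : G ⧸ Φ)
    rw [QuotientGroup.eq]
    have := hcommΦ a⁻¹ (H.inv_mem ha) b⁻¹ (H.inv_mem hb)
    have e : (b * a)⁻¹ * (a * b) = a⁻¹ * b⁻¹ * a⁻¹⁻¹ * b⁻¹⁻¹ := by group
    rw [e]; exact this
  let _ : CommGroup ↥(sec H Φ) := { (inferInstance : Group ↥(sec H Φ)) with mul_comm := hcomm }
  have hHker : ∀ h ∈ H, secAct H Φ h = 1 := by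
    intro h hh
    rw [secAct_eq_one_iff, StableQuad.mem_sectionKernel_iff]
    intro k hk
    exact hcommΦ h hh k hk
  obtain ⟨ρ, hρ⟩ : ∃ ρ : (G ⧸ H) →* MulAut ↥(sec H Φ),
      ∀ g : G, ρ (QuotientGroup.mk' H g) = secAct H Φ g :=
    ⟨QuotientGroup.lift H (secAct H Φ) (fun h hh => MonoidHom.mem_ker.mpr (hHker h hh)),
      fun g => rfl⟩
  obtain ⟨π, hπ⟩ : ∃ π : G →* G ⧸ H, π = QuotientGroup.mk' H := ⟨_, rfl⟩
  have hπs : Function.Surjective π := by rw [hπ]; exact QuotientGroup.mk'_surjective H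
  have hπker : ∀ g, π g = 1 ↔ g ∈ H := by
    intro g; rw [hπ]; exact QuotientGroup.eq_one_iff g
  rw [← hπ] at hxT ⊢
  obtain ⟨xh, hxh⟩ : ∃ xh, xh = π x := ⟨_, rfl⟩
  rw [← hxh] at hxT ⊢
  have hxN : xh ^ p ^ (n + 1) = 1 := by rw [hxh, ← map_pow, hexp x hx, map_one]
  obtain ⟨yh, hyh⟩ : ∃ yh, yh = xh ^ p ^ n := ⟨_, rfl⟩
  rw [← hyh]
  have hyp : yh ^ p = 1 := by rw [hyh, ← pow_mul, ← pow_succ]; exact hxN
  obtain ⟨X, hX⟩ : ∃ X, X = Subgroup.zpowers xh := ⟨_, rfl⟩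
  have hxhX : xh ∈ X := by rw [hX]; exact Subgroup.mem_zpowers _
  have hXT : X ≤ Subgroup.normalizer (T : Set (G ⧸ H)) := by
    rw [hX, Subgroup.zpowers_le, Subgroup.mem_normalizer_iff]
    intro b
    constructor
    · intro hb; exact hxT b hb
    · intro hb
      -- conjugation by xh is injective on the finite set T, hence surjective
      have hinj : Function.Injective (fun t : T => (⟨xh * t * xh⁻¹, hxT t t.2⟩ : T)) := by
        intro s t hst
        have := Subtype.mk.inj hst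
        apply Subtype.ext
        have h2 : xh * (s : G ⧸ H) = xh * (t : G ⧸ H) := mul_right_cancel this
        exact mul_left_cancel h2
      have hsurj := Finite.surjective_of_injective hinj
      obtain ⟨t, ht⟩ := hsurj ⟨xh * b * xh⁻¹, hb⟩
      have h1 : xh * (t : G ⧸ H) * xh⁻¹ = xh * b * xh⁻¹ := Subtype.mk.inj ht
      have h2 : (t : G ⧸ H) = b := mul_left_cancel (mul_right_cancel h1)
      rw [← h2]; exact t.2
  have hTc : IsMulCommutative T := ⟨⟨fun a b => Subtype.ext (hTab a a.2 b b.2)⟩⟩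
  obtain ⟨Y, hY⟩ : ∃ Y, Y = Subgroup.zpowers yh := ⟨_, rfl⟩
  have hyX : yh ∈ X := by
    rw [hX, hyh]; exact Subgroup.pow_mem _ (Subgroup.mem_zpowers _) _
  have hYX : Y ≤ X := by rw [hY, Subgroup.zpowers_le]; exact hyX
  have hYT : Y ≤ Subgroup.normalizer (T : Set (G ⧸ H)) := hYX.trans hXT
  have hYcard : Nat.card Y ∣ p := by
    rw [hY, Nat.card_zpowers]; exact orderOf_dvd_of_pow_eq_one hyp
  have hYcop : (Nat.card Y).Coprime (Nat.card T) :=
    Nat.Coprime.coprime_dvd_left hYcard hTcop.symm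
  obtain ⟨hdec1, hdec2⟩ := coprime_abelian_decomposition Y T hYT hYcop
  obtain ⟨Q₁, hQ₁⟩ : ∃ Q₁, Q₁ = ⁅T, Y⁆ := ⟨_, rfl⟩
  rw [← hQ₁] at hdec1 hdec2
  have hQ₁T : Q₁ ≤ T := le_sup_right.trans_eq hdec2
  have hxhY : xh ∈ Subgroup.normalizer (Y : Set (G ⧸ H)) := by
    apply Subgroup.centralizer_le_normalizer
    rw [hY, Subgroup.mem_centralizer_iff]
    intro z hz
    obtain ⟨k, rfl⟩ := Subgroup.mem_zpowers_iff.mp hz
    rw [hyh]
    exact (((Commute.refl xh).pow_left (p ^ n)).zpow_left k).eq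
  have hxQ₁ : ∀ b ∈ Q₁, xh * b * xh⁻¹ ∈ Q₁ := by
    rw [hQ₁]; exact conj_mem_commutator T Y xh (hXT hxhX) hxhY
  have hfix : ∀ i, 0 < i → i < p ^ (n + 1) → ∀ b ∈ Q₁, xh ^ i * b = b * xh ^ i → b = 1 := by
    intro i hi0 hiN b hb hcm
    have h1 : yh ∈ Subgroup.zpowers (xh ^ i) := by
      rw [hyh]; exact pow_pow_mem_zpowers hp.out xh n hxN i hi0 hiN
    have h2 : Subgroup.zpowers (xh ^ i) ≤ Subgroup.centralizer {b} := by
      rw [Subgroup.zpowers_le, Subgroup.mem_centralizer_iff]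
      intro z hz; rw [Set.mem_singleton_iff] at hz; rw [hz]; exact hcm.symm
    have h3 : yh ∈ Subgroup.centralizer {b} := h2 h1
    have h4 : b * yh = yh * b := Subgroup.mem_centralizer_iff.mp h3 b (Set.mem_singleton _)
    have h5 : b ∈ Subgroup.centralizer (Y : Set (G ⧸ H)) := by
      rw [hY, Subgroup.mem_centralizer_iff]
      intro z hz
      obtain ⟨k, rfl⟩ := Subgroup.mem_zpowers_iff.mp hz
      exact ((Commute.zpow_left (show Commute yh b from h4.symm) k)).eq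
    have h6 : b ∈ (T ⊓ Subgroup.centralizer (Y : Set (G ⧸ H))) ⊓ Q₁ := ⟨⟨hQ₁T hb, h5⟩, hb⟩
    rw [hdec1] at h6
    exact Subgroup.mem_bot.mp h6
  have hM : IsPGroup p ↥(sec H Φ) := hHp.map (QuotientGroup.mk' Φ)
  have hQ₁cop : (Nat.card Q₁).Coprime p :=
    Nat.Coprime.coprime_dvd_left (Subgroup.card_dvd_of_le hQ₁T) hTcop
  have hinv : ∀ m : ↥(sec H Φ), m ^ Nat.card Q₁ = 1 → m = 1 := by
    intro m hm
    obtain ⟨j, hj⟩ := hM m
    have h1 : orderOf m ∣ p ^ j := orderOf_dvd_of_pow_eq_one hj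
    have h2 : orderOf m ∣ Nat.card Q₁ := orderOf_dvd_of_pow_eq_one hm
    have h3 : Nat.Coprime (p ^ j) (Nat.card Q₁) := Nat.Coprime.pow_left _ hQ₁cop.symm
    exact orderOf_eq_one_iff.mp (Nat.eq_one_of_dvd_coprimes h3 h1 h2)
  have hxp : IsPGroup p (Subgroup.zpowers x) := by
    obtain ⟨a, ha⟩ := hx
    obtain ⟨k, -, hk⟩ := (Nat.dvd_prime_pow hp.out).mp (orderOf_dvd_of_pow_eq_one ha)
    exact IsPGroup.of_card (n := k) (by rw [Nat.card_zpowers, hk])
  have hHx : IsPGroup p (H ⊔ Subgroup.zpowers x : Subgroup G) :=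
    IsPGroup.to_sup_of_normal_left hHp hxp
  have hnorm : ∀ m : ↥(sec H Φ), ∏ i ∈ Finset.range (p ^ (n + 1)), ρ (xh ^ i) m = 1 := by
    rintro ⟨_, h, hh, rfl⟩
    have hρx : ∀ i : ℕ, ρ (xh ^ i) = secAct H Φ (x ^ i) := by
      intro i; rw [hxh, ← map_pow, hπ, hρ]
    have key : ∀ k : ℕ, ((∏ i ∈ Finset.range k,
        ρ (xh ^ i) ⟨QuotientGroup.mk' Φ h, ⟨h, hh, rfl⟩⟩ : ↥(sec H Φ)) : G ⧸ Φ) =
        QuotientGroup.mk' Φ ((h * x) ^ k * (x ^ k)⁻¹) := by
      intro k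
      induction k with
      | zero => simp
      | succ k ih =>
        rw [Finset.prod_range_succ, Subgroup.coe_mul, ih, hρx, secAct_apply_coe,
          ← map_inv, ← map_mul, ← map_mul, ← map_mul]
        congr 1
        rw [pow_succ, pow_succ]; group
    apply Subtype.ext
    rw [key]
    have h1 : ∃ a, (h * x) ^ p ^ a = 1 := by
      have hmem : h * x ∈ (H ⊔ Subgroup.zpowers x : Subgroup G) :=
        Subgroup.mul_mem _ (Subgroup.mem_sup_left hh)
          (Subgroup.mem_sup_right (Subgroup.mem_zpowers x))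
      obtain ⟨a, ha⟩ := hHx ⟨h * x, hmem⟩
      refine ⟨a, ?_⟩
      have := congrArg Subtype.val ha
      simpa using this
    rw [hexp _ h1, hexp x hx]
    simp
  have hN : 0 < p ^ (n + 1) := pow_pos hp.out.pos _
  have htriv := trivial_action_of_norm_eq_one ρ xh Q₁ hxQ₁ (p ^ (n + 1)) hfix hinv hnorm hN
  have hQ₁bot : Q₁ = ⊥ := by
    rw [eq_bot_iff]
    intro b hb
    obtain ⟨g, rfl⟩ := hπs b
    have h1 : secAct H Φ g = 1 := by
      apply MulEquiv.ext
      intro m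
      have := htriv _ hb m
      rw [hπ, hρ] at this
      rw [this]; rfl
    rw [secAct_eq_one_iff] at h1
    exact Subgroup.mem_bot.mpr ((hπker g).mpr (hker h1))
  rw [hQ₁bot, sup_bot_eq] at hdec2
  intro b hb
  have h1 : b ∈ T ⊓ Subgroup.centralizer (Y : Set (G ⧸ H)) := by rw [hdec2]; exact hb
  have h2 := Subgroup.mem_centralizer_iff.mp h1.2 yh (by rw [hY]; exact Subgroup.mem_zpowers _)
  exact h2

/-- Lemma N (abelian case of Hall–Higman Theorem B, in the form used by the two-level argument):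
if `O_{p'}(G) = 1` and all `p`-elements of `G` have order dividing `p ^ (n+1)`, then for a
`p`-element `x` the power `x ^ p ^ n` centralizes, modulo `O_p(G)`, every abelian `p'`-subgroup
of `G / O_p(G)` normalized by the image of `x`. -/
theorem pow_centralizes_abelian_quot [Finite G] {p : ℕ} [hp : Fact p.Prime]
    (hsol : IsPSolvable p G) (hbot : pPrimeCore p G = ⊥) (n : ℕ)
    (hexp : ExpLE p (n + 1) G) (x : G) (hx : ∃ a, x ^ p ^ a = 1)
    (T : Subgroup (G ⧸ pCore p G)) (hTab : ∀ a ∈ T, ∀ b ∈ T, a * b = b * a)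
    (hTcop : (Nat.card T).Coprime p)
    (hxT : ∀ b ∈ T, (QuotientGroup.mk' (pCore p G) x) * b *
      (QuotientGroup.mk' (pCore p G) x)⁻¹ ∈ T) :
    ∀ b ∈ T, (QuotientGroup.mk' (pCore p G) x) ^ p ^ n * b =
      b * (QuotientGroup.mk' (pCore p G) x) ^ p ^ n :=
  pow_centralizes_abelian_aux hsol hbot n hexp x hx (pCore p G) rfl T hTab hTcop hxT

end Cfsg.Agent.Lib.Helper1.HH2L
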