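import Mathlib
import Cfsg.Agent.Lib.Helper6.HH2LAlp
set_option autoImplicit false
namespace Cfsg.Agent.Lib.Helper1.HH2L

/-- Lemma Q with the statement of Q2 (`comm_centralizes_K`) as an explicit hypothesis. -/
theorem pow_commute_of_exceptional_aux {L : Type*} [Group L] [Finite L] {p : ℕ} [Fact p.Prime]
    (hp2 : p ≠ 2)
    (K : Subgroup L) [K.Normal] (hK : (Nat.card K).Coprime p)
    (P : Subgroup L) (hP : IsPGroup p P)
    (hPK : ∀ t ∈ P, (∀ k ∈ K, t * k = k * t) → t = 1)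
    (n : ℕ) (hexp : ∀ t ∈ P, t ^ p ^ (n + 1) = 1)
    (hstar : ∀ t ∈ P, ∀ B : Subgroup L, B ≤ K → (∀ a ∈ B, ∀ b ∈ B, a * b = b * a) →
      (∀ b ∈ B, t * b * t⁻¹ ∈ B) → ∀ b ∈ B, t ^ p ^ n * b = b * t ^ p ^ n)
    (hQ2 : ∀ (A : Subgroup L), A ≤ P → (∀ t ∈ P, ∀ a ∈ A, t * a * t⁻¹ ∈ A) →
      (∀ a ∈ A, ∀ b ∈ A, a * b = b * a) → (∀ a ∈ A, a ^ p = 1) →
      (∀ B : Subgroup L, B ≤ K → (∀ a ∈ B, ∀ b ∈ B, a * b = b * a) →
        (∀ t ∈ P, ∀ b ∈ B, t * b * t⁻¹ ∈ B) → ∀ a ∈ A, ∀ b ∈ B, a * b = b * a) →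
      ∀ t ∈ P, ∀ a ∈ A, ∀ k ∈ K,
        (t ^ p ^ n * a * (t ^ p ^ n)⁻¹ * a⁻¹) * k = k * (t ^ p ^ n * a * (t ^ p ^ n)⁻¹ * a⁻¹)) :
    ∀ s ∈ P, ∀ t ∈ P, s ^ p ^ n * t ^ p ^ n = t ^ p ^ n * s ^ p ^ n := by
  classical
  -- the subgroup generated by the p^n-th powers
  set gens : Set L := {s | ∃ t ∈ P, s = t ^ p ^ n} with hgens
  set R : Subgroup L := Subgroup.closure gens with hR
  have hgP : gens ⊆ (P : Set L) := by
    rintro s ⟨t, ht, rfl⟩
    exact P.pow_mem ht _
  have hRP : R ≤ P := (Subgroup.closure_le P).2 hgP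
  have hgR : ∀ t ∈ P, t ^ p ^ n ∈ R := fun t ht => Subgroup.subset_closure ⟨t, ht, rfl⟩
  -- R is P-invariant
  have hRinv : ∀ u ∈ P, ∀ r ∈ R, u * r * u⁻¹ ∈ R := by
    intro u hu r hr
    induction hr using Subgroup.closure_induction with
    | mem x hx =>
      obtain ⟨t, ht, rfl⟩ := hx
      have : u * t ^ p ^ n * u⁻¹ = (u * t * u⁻¹) ^ p ^ n := (conj_pow).symm
      rw [this]
      exact hgR _ (P.mul_mem (P.mul_mem hu ht) (P.inv_mem hu))
    | one => simp
    | mul x y _ _ hx hy =>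
      have : u * (x * y) * u⁻¹ = (u * x * u⁻¹) * (u * y * u⁻¹) := by group
      rw [this]; exact R.mul_mem hx hy
    | inv x _ hx =>
      have : u * x⁻¹ * u⁻¹ = (u * x * u⁻¹)⁻¹ := by group
      rw [this]; exact R.inv_mem hx
  -- Step 1: R centralizes every P-invariant abelian subgroup of K
  have hstep1 : ∀ B : Subgroup L, B ≤ K → (∀ a ∈ B, ∀ b ∈ B, a * b = b * a) →
      (∀ t ∈ P, ∀ b ∈ B, t * b * t⁻¹ ∈ B) → ∀ r ∈ R, ∀ b ∈ B, r * b = b * r := by
    intro B hBK hBab hBinv r hr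
    induction hr using Subgroup.closure_induction with
    | mem x hx =>
      obtain ⟨t, ht, rfl⟩ := hx
      exact hstar t ht B hBK hBab (hBinv t ht)
    | one => intro b _; simp
    | mul x y _ _ hx hy =>
      intro b hb
      rw [mul_assoc, hy b hb, ← mul_assoc, hx b hb, mul_assoc]
    | inv x _ hx =>
      intro b hb
      have := hx b hb
      calc x⁻¹ * b = x⁻¹ * (b * x) * x⁻¹ := by group
        _ = x⁻¹ * (x * b) * x⁻¹ := by rw [this]
        _ = b * x⁻¹ := by group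
  -- the family of admissible subgroups
  let S : Set (Subgroup L) := {E | E ≤ R ∧ (∀ t ∈ P, ∀ e ∈ E, t * e * t⁻¹ ∈ E) ∧
    (∀ a ∈ E, ∀ b ∈ E, a * b = b * a) ∧ (∀ a ∈ E, a ^ p = 1)}
  have hSbot : (⊥ : Subgroup L) ∈ S := by
    refine ⟨bot_le, ?_, ?_, ?_⟩
    · intro t _ e he
      rw [Subgroup.mem_bot] at he ⊢
      subst he; simp
    · intro a ha b hb
      rw [Subgroup.mem_bot] at ha hb
      subst ha; subst hb; rfl
    · intro a ha
      rw [Subgroup.mem_bot] at ha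
      subst ha; simp
  obtain ⟨E, hES, hEmax⟩ := (Set.toFinite S).exists_maximal ⟨⊥, hSbot⟩
  obtain ⟨hER, hEinv, hEab, hEexp⟩ := hES
  have hEP : E ≤ P := hER.trans hRP
  -- Step 2: every generator commutes with E
  have hstep2 : ∀ t ∈ P, ∀ a ∈ E, t ^ p ^ n * a = a * t ^ p ^ n := by
    intro t ht a ha
    have hz := hQ2 E hEP hEinv hEab hEexp
      (fun B hBK hBab hBinv a ha b hb => hstep1 B hBK hBab hBinv a (hER ha) b hb) t ht a ha
    have hzP : t ^ p ^ n * a * (t ^ p ^ n)⁻¹ * a⁻¹ ∈ P :=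
      P.mul_mem (P.mul_mem (P.mul_mem (P.pow_mem ht _) (hEP ha)) (P.inv_mem (P.pow_mem ht _)))
        (P.inv_mem (hEP ha))
    have h1 := hPK _ hzP hz
    calc t ^ p ^ n * a = (t ^ p ^ n * a * (t ^ p ^ n)⁻¹ * a⁻¹) * (a * t ^ p ^ n) := by group
      _ = a * t ^ p ^ n := by rw [h1, one_mul]
  -- Step 3: Alperin's lemma inside P
  have hPfin : Finite P := inferInstance
  have hRn : (R.subgroupOf P).Normal := by
    refine ⟨fun r hr u => ?_⟩
    rw [Subgroup.mem_subgroupOf] at hr ⊢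
    simpa using hRinv u u.2 r hr
  have hEn : (E.subgroupOf P).Normal := by
    refine ⟨fun e he u => ?_⟩
    rw [Subgroup.mem_subgroupOf] at he ⊢
    simpa using hEinv u u.2 e he
  have hkey : ∀ t ∈ P, t ^ p ^ n ∈ E := by
    intro t ht
    have htp : t ^ p ^ n ∈ P := P.pow_mem ht _
    have hmem : (⟨t ^ p ^ n, htp⟩ : P) ∈ E.subgroupOf P := by
      refine Cfsg.Agent.Lib.Helper6.HH2L.alperin_equivariant hp2 hP (R.subgroupOf P)
        (E.subgroupOf P) ?_ ?_ ?_ ?_ ⟨t ^ p ^ n, htp⟩ ?_ ?_ ?_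
      · intro x hx
        rw [Subgroup.mem_subgroupOf] at hx ⊢
        exact hER hx
      · intro a ha b hb
        rw [Subgroup.mem_subgroupOf] at ha hb
        exact Subtype.ext (hEab a ha b hb)
      · intro a ha
        rw [Subgroup.mem_subgroupOf] at ha
        exact Subtype.ext (by simpa using hEexp a ha)
      · intro E' hE'n hEE' hE'R hE'ab hE'exp
        -- map back to L
        have hmapS : E'.map P.subtype ∈ S := by
          refine ⟨?_, ?_, ?_, ?_⟩
          · rintro _ ⟨x, hx, rfl⟩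
            have := hE'R hx
            rwa [Subgroup.mem_subgroupOf] at this
          · rintro u hu _ ⟨x, hx, rfl⟩
            refine ⟨⟨u, hu⟩ * x * (⟨u, hu⟩ : P)⁻¹, hE'n.conj_mem x hx ⟨u, hu⟩, ?_⟩
            simp
          · rintro _ ⟨x, hx, rfl⟩ _ ⟨y, hy, rfl⟩
            have := hE'ab x hx y hy
            have h2 := congrArg P.subtype this
            simpa using h2
          · rintro _ ⟨x, hx, rfl⟩
            have := hE'exp x hx
            have h2 := congrArg P.subtype this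
            simpa using h2
        have hle : E ≤ E'.map P.subtype := by
          intro e he
          refine ⟨⟨e, hEP he⟩, hEE' ?_, rfl⟩
          rw [Subgroup.mem_subgroupOf]
          exact he
        have hle' : E'.map P.subtype ≤ E := hEmax hmapS hle
        intro x hx
        rw [Subgroup.mem_subgroupOf]
        exact hle' ⟨x, hx, rfl⟩
      · rw [Subgroup.mem_subgroupOf]
        exact hgR t ht
      · apply Subtype.ext
        have : (t ^ p ^ n) ^ p = 1 := by
          rw [← pow_mul, ← pow_succ]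
          exact hexp t ht
        simpa using this
      · intro e he
        rw [Subgroup.mem_subgroupOf] at he
        exact Subtype.ext (hstep2 t ht e he)
    rwa [Subgroup.mem_subgroupOf] at hmem
  intro s hs t ht
  exact hEab _ (hkey s hs) _ (hkey t ht)

end Cfsg.Agent.Lib.Helper1.HH2L
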