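import Mathlib
import Cfsg.Agent.Lib.Helper1.HH2LQ
import Cfsg.Agent.Lib.Helper6.HH2LFormG
import Cfsg.Agent.Lib.Helper7.HH2LQ2
set_option autoImplicit false
namespace Cfsg.Agent.Lib.Helper1.HH2L

/-- Q2, verbatim shape (helper7's `comm_centralizes_K_of_formg` fed with helper6's `form_group`). -/
theorem comm_centralizes_K {L : Type*} [Group L] [Finite L] {p : ℕ} [Fact p.Prime]
    (K : Subgroup L) [K.Normal] (hK : (Nat.card K).Coprime p)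
    (P : Subgroup L) (hP : IsPGroup p P)
    (n : ℕ) (hexp : ∀ t ∈ P, t ^ p ^ (n + 1) = 1)
    (hstar : ∀ t ∈ P, ∀ B : Subgroup L, B ≤ K → (∀ a ∈ B, ∀ b ∈ B, a * b = b * a) →
      (∀ b ∈ B, t * b * t⁻¹ ∈ B) → ∀ b ∈ B, t ^ p ^ n * b = b * t ^ p ^ n)
    (A : Subgroup L) (hAP : A ≤ P) (hAn : ∀ t ∈ P, ∀ a ∈ A, t * a * t⁻¹ ∈ A)
    (hAab : ∀ a ∈ A, ∀ b ∈ A, a * b = b * a) (hAexp : ∀ a ∈ A, a ^ p = 1)
    (hAcent : ∀ B : Subgroup L, B ≤ K → (∀ a ∈ B, ∀ b ∈ B, a * b = b * a) →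
      (∀ t ∈ P, ∀ b ∈ B, t * b * t⁻¹ ∈ B) → ∀ a ∈ A, ∀ b ∈ B, a * b = b * a)
    (t : L) (ht : t ∈ P) (a : L) (ha : a ∈ A) :
    ∀ k ∈ K, (t ^ p ^ n * a * (t ^ p ^ n)⁻¹ * a⁻¹) * k = k * (t ^ p ^ n * a * (t ^ p ^ n)⁻¹ * a⁻¹) :=
  Cfsg.Agent.Lib.Helper7.HH2L.comm_centralizes_K_of_formg
    (fun q hq hpq C hCq hC2 A hAab hAexp hAC hAZ y n hy hyA hyC hi a ha =>
      haveI := hq
      Cfsg.Agent.Lib.Helper6.HH2L.form_group hpq C hCq hC2 A hAab hAexp hAC hAZ y n hy hyA hyC hi a ha)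
    K hK P hP n hexp hstar A hAP hAn hAab hAexp hAcent t ht a ha

/-- LEMMA Q (Route B plug-in), verbatim shape. -/
theorem pow_commute_of_exceptional {L : Type*} [Group L] [Finite L] {p : ℕ} [Fact p.Prime] (hp2 : p ≠ 2)
    (K : Subgroup L) [K.Normal] (hK : (Nat.card K).Coprime p)
    (P : Subgroup L) (hP : IsPGroup p P)
    (hPK : ∀ t ∈ P, (∀ k ∈ K, t * k = k * t) → t = 1)
    (n : ℕ) (hexp : ∀ t ∈ P, t ^ p ^ (n + 1) = 1)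
    (hstar : ∀ t ∈ P, ∀ B : Subgroup L, B ≤ K → (∀ a ∈ B, ∀ b ∈ B, a * b = b * a) →
      (∀ b ∈ B, t * b * t⁻¹ ∈ B) → ∀ b ∈ B, t ^ p ^ n * b = b * t ^ p ^ n) :
    ∀ s ∈ P, ∀ t ∈ P, s ^ p ^ n * t ^ p ^ n = t ^ p ^ n * s ^ p ^ n :=
  pow_commute_of_exceptional_aux hp2 K hK P hP hPK n hexp hstar
    (fun A hAP hAn hAab hAexp hAcent t ht a ha =>
      comm_centralizes_K K hK P hP n hexp hstar A hAP hAn hAab hAexp hAcent t ht a ha)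

end Cfsg.Agent.Lib.Helper1.HH2L
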