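import Mathlib
import Cfsg.Prelude.Def_Local
import Cfsg.Agent.Lib.Helper1.HH3
import Cfsg.Agent.Lib.Helper1.UpperPSeriesShift
import Cfsg.Agent.Lib.Helper1.PLengthOne
import Cfsg.Agent.Lib.Helper1.PCore
import Cfsg.Agent.S4218
set_option autoImplicit false
open Cfsg
universe u
namespace Cfsg.Agent.Lib.Helper1.HH

/-- Hall–Higman: `p`-solvable, abelian Sylow `q`-subgroups for `q ≠ p`, exponent of the Sylow
`p`-subgroups dividing `p ^ n` implies `p`-length at most `n`. -/
theorem upperPSeries_top_of_expLE (p : ℕ) [hp : Fact p.Prime] :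
    ∀ (n : ℕ) (G : Type u) [Group G] [Finite G],
      IsPSolvable p G → AbSyl p G → ExpLE p n G → (upperPSeries p G (2 * n + 1)).1 = ⊤ := by
  intro n
  induction n with
  | zero =>
    intro G _ _ hsol hab hexp
    have h2 : ¬ p ∣ Nat.card G := by
      intro hdvd
      obtain ⟨z, hz⟩ := exists_prime_orderOf_dvd_card' p hdvd
      have h1 : z ^ p ^ 0 = 1 := hexp z ⟨1, by rw [pow_one, ← hz]; exact pow_orderOf_eq_one z⟩
      rw [pow_zero, pow_one] at h1
      rw [h1, orderOf_one] at hz
      exact hp.out.one_lt.ne hz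
    have h4 : (Nat.card (⊤ : Subgroup G)).Coprime p := by
      rw [Subgroup.card_top]
      exact ((Nat.Prime.coprime_iff_not_dvd hp.out).mpr h2).symm
    show (upperPSeries p G 1).1 = ⊤
    rw [Helper3.upperPSeries_one, eq_top_iff]
    exact le_pPrimeCore Subgroup.normal_top h4
  | succ n ih =>
    intro G _ _ hsol hab hexp
    have hsurj := QuotientGroup.mk'_surjective (upperPSeries p G 2).1
    have hsolq := Cfsg.Agent.S4218.isPSolvable_quotient p (upperPSeries p G 2).1 hsol
    have habq : AbSyl p (G ⧸ (upperPSeries p G 2).1) := hab.map _ hsurj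
    have hexpq : ExpLE p n (G ⧸ (upperPSeries p G 2).1) := by
      rintro z' ⟨b, hb⟩
      obtain ⟨z, rfl, ha⟩ := exists_pElement_lift hp.out _ hsurj z' b hb
      rw [← map_pow, QuotientGroup.mk'_apply, QuotientGroup.eq_one_iff, Helper3.upperPSeries_two]
      show (QuotientGroup.mk' (pPrimeCore p G)) (z ^ p ^ n) ∈ pCore p (G ⧸ pPrimeCore p G)
      rw [map_pow]
      have hs1 := QuotientGroup.mk'_surjective (pPrimeCore p G)
      apply pow_mem_pCore_of_expLE (Cfsg.Agent.S4218.isPSolvable_quotient p _ hsol)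
        (pPrimeCore_quotient_eq_bot p) (hab.map _ hs1) n (hexp.map hp.out _ hs1)
      obtain ⟨a, ha⟩ := ha
      exact ⟨a, by rw [← map_pow, ha, map_one]⟩
    have h2 := ih (G ⧸ (upperPSeries p G 2).1) hsolq habq hexpq
    have e : 2 * (n + 1) + 1 = (2 * n + 1) + 2 := by ring
    rw [e, upperPSeries_shift, h2, Subgroup.comap_top]

end Cfsg.Agent.Lib.Helper1.HH
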