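import Mathlib
import Cfsg.Prelude.Def_Local
import Cfsg.Prelude.Def_PLocal
import Cfsg.Agent.Lib.Helper1.HH3
set_option autoImplicit false
set_option linter.style.haveILetI false
open Cfsg
open scoped commutatorElement IsMulCommutative
universe u
namespace Cfsg.Agent.Lib.Helper1.HHE
open Cfsg.Agent.Lib.Helper1.HH
variable {G : Type u} [Group G]

/-- LIN: linearisation of `O_p(G)/Φ(O_p(G))` when `O_{p'}(G) = 1`. -/
theorem lin_package [Finite G] {p : ℕ} [hp : Fact p.Prime]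
    (hsol : IsPSolvable p G) (hbot : pPrimeCore p G = ⊥) :
    ∃ (V : Type u) (_ : AddCommGroup V) (_ : Module (ZMod p) V) (_ : Finite V)
      (ρ : G →* (V ≃ₗ[ZMod p] V)) (π : ↥(pCore p G) →* Multiplicative V),
      Function.Surjective π ∧ ρ.ker = pCore p G ∧
      ∀ (g : G) (h : ↥(pCore p G)) (hgh : g * (h : G) * g⁻¹ ∈ pCore p G),
        π ⟨g * (h : G) * g⁻¹, hgh⟩ = Multiplicative.ofAdd (ρ g (Multiplicative.toAdd (π h))) := by
  obtain ⟨H, hH⟩ : ∃ H, H = pCore p G := ⟨_, rfl⟩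
  rw [← hH]
  have hHn : H.Normal := by rw [hH]; infer_instance
  have hHp : IsPGroup p H := by rw [hH]; exact pCore_isPGroup p
  have hc : Subgroup.centralizer (H : Set G) ≤ H := by
    rw [hH]
    exact centralizer_pCore_le_of_isPSolvable hbot (PSolvSub.isPSolvable_subgroup hsol _)
  obtain ⟨Φ, hΦ⟩ : ∃ Φ, Φ = (frattini ↥H).map H.subtype := ⟨_, rfl⟩
  have hΦn : Φ.Normal := by rw [hΦ]; infer_instance
  have hker : sectionKernel H Φ ≤ H := by
    have h1 : IsPGroup p (sectionKernel H Φ) := by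
      subst hΦ
      exact StableQuad.isPGroup_sectionKernel_frattini H hHp hc
    exact (le_pCore (sectionKernel_normal H Φ) h1).trans_eq hH.symm
  have hcommΦ : ∀ a ∈ H, ∀ b ∈ H, a * b * a⁻¹ * b⁻¹ ∈ Φ := by
    intro a ha b hb
    rw [hΦ]
    have h2 : ⁅(⟨a, ha⟩ : H), ⟨b, hb⟩⁆ ∈ commutator ↥H :=
      Subgroup.commutator_mem_commutator (Subgroup.mem_top _) (Subgroup.mem_top _)
    have h3 := commutator_le_frattini_of_isPGroup p hHp h2
    exact ⟨_, h3, by simp [commutatorElement_def]⟩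
  have hcomm : ∀ a b : ↥(sec H Φ), a * b = b * a := by
    rintro ⟨_, a, ha, rfl⟩ ⟨_, b, hb, rfl⟩
    apply Subtype.ext
    show (QuotientGroup.mk' Φ a) * (QuotientGroup.mk' Φ b) =
      (QuotientGroup.mk' Φ b) * (QuotientGroup.mk' Φ a)
    rw [← map_mul, ← map_mul]
    apply Eq.symm
    show ((b * a : G) : G ⧸ Φ) = ((a * b : G) : G ⧸ Φ)
    rw [QuotientGroup.eq]
    have := hcommΦ a⁻¹ (H.inv_mem ha) b⁻¹ (H.inv_mem hb)
    have e : (b * a)⁻¹ * (a * b) = a⁻¹ * b⁻¹ * a⁻¹⁻¹ * b⁻¹⁻¹ := by group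
    rw [e]; exact this
  haveI : IsMulCommutative ↥(sec H Φ) := ⟨⟨hcomm⟩⟩
  have hHker : ∀ h ∈ H, secAct H Φ h = 1 := by
    intro h hh
    rw [secAct_eq_one_iff, StableQuad.mem_sectionKernel_iff]
    intro k hk
    exact hcommΦ h hh k hk
  -- exponent `p`
  have hpow : ∀ m : ↥(sec H Φ), m ^ p = 1 := by
    rintro ⟨_, a, ha, rfl⟩
    apply Subtype.ext
    show (QuotientGroup.mk' Φ a) ^ p = 1
    rw [← map_pow, QuotientGroup.mk'_apply, QuotientGroup.eq_one_iff, hΦ]
    have h1 : (⟨a, ha⟩ : ↥H) ^ p ∈ frattini ↥H := pow_prime_mem_frattini_of_isPGroup p hHp _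
    exact ⟨_, h1, by simp⟩
  have instMod : Module (ZMod p) (Additive ↥(sec H Φ)) := AddCommGroup.zmodModule (n := p) (by
    intro x
    obtain ⟨a, rfl⟩ := Additive.ofMul.surjective x
    rw [← ofMul_pow, hpow a, ofMul_one])
  obtain ⟨ρ, hρ⟩ : ∃ ρ : G →* (Additive ↥(sec H Φ) ≃ₗ[ZMod p] Additive ↥(sec H Φ)),
      ∀ (g : G) (a : Additive ↥(sec H Φ)),
        ρ g a = Additive.ofMul (secAct H Φ g (Additive.toMul a)) := by
    refine ⟨{ toFun := fun g => (MulEquiv.toAdditive (secAct H Φ g)).toLinearEquiv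
                (fun c x => ZMod.map_smul _ c x)
              map_one' := ?_
              map_mul' := ?_ }, fun _ _ => rfl⟩
    · apply LinearEquiv.ext
      intro a
      show Additive.ofMul (secAct H Φ (1 : G) (Additive.toMul a)) = a
      rw [map_one]; rfl
    · intro g h
      apply LinearEquiv.ext
      intro a
      show Additive.ofMul (secAct H Φ (g * h) (Additive.toMul a)) =
        Additive.ofMul (secAct H Φ g (Additive.toMul
          (Additive.ofMul (secAct H Φ h (Additive.toMul a)))))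
      rw [map_mul]; rfl
  obtain ⟨π, hπ⟩ : ∃ π : ↥H →* Multiplicative (Additive ↥(sec H Φ)),
      ∀ h : ↥H, π h = Multiplicative.ofAdd (Additive.ofMul
        (⟨QuotientGroup.mk' Φ (h : G), ⟨(h : G), h.2, rfl⟩⟩ : ↥(sec H Φ))) := by
    refine ⟨{ toFun := fun h => Multiplicative.ofAdd (Additive.ofMul
        (⟨QuotientGroup.mk' Φ (h : G), ⟨(h : G), h.2, rfl⟩⟩ : ↥(sec H Φ)))
              map_one' := ?_
              map_mul' := ?_ }, fun _ => rfl⟩
    · rfl
    · intro a b; rfl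
  refine ⟨Additive ↥(sec H Φ), inferInstance, instMod, inferInstance, ρ, π, ?_, ?_, ?_⟩
  · intro v
    obtain ⟨a, ha, hma⟩ := (Additive.toMul (Multiplicative.toAdd v)).2
    refine ⟨⟨a, ha⟩, ?_⟩
    rw [hπ]
    have h1 : (⟨QuotientGroup.mk' Φ a, ⟨a, ha, rfl⟩⟩ : ↥(sec H Φ)) =
        Additive.toMul (Multiplicative.toAdd v) := Subtype.ext hma
    show Multiplicative.ofAdd (Additive.ofMul
      (⟨QuotientGroup.mk' Φ a, ⟨a, ha, rfl⟩⟩ : ↥(sec H Φ))) = v
    rw [h1]; rfl
  · ext g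
    rw [MonoidHom.mem_ker]
    constructor
    · intro hg
      apply hker
      rw [← secAct_eq_one_iff]
      apply MulEquiv.ext
      intro m
      have := congrArg (fun f => f (Additive.ofMul m)) hg
      simp only [hρ] at this
      exact this
    · intro hg
      apply LinearEquiv.ext
      intro a
      rw [hρ, hHker g hg]
      rfl
  · intro g h hgh
    rw [hπ, hπ, hρ]
    congr 2

end Cfsg.Agent.Lib.Helper1.HHE
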