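import Mathlib
import Cfsg.Prelude.Def_Local
import Cfsg.Agent.Lib.Helper1.HH4
import Cfsg.Agent.Lib.Helper1.HHELin
import Cfsg.Agent.Lib.Helper3.HHC10
import Cfsg.Agent.Lib.Helper3.HHB3
import Cfsg.Agent.Lib.Helper4.Sg42K
set_option autoImplicit false
open Cfsg
open scoped BigOperators
universe u v
namespace Cfsg.Agent.Lib.Helper1.HHE
open Cfsg.Agent.Lib.Helper1.HH

/-- Theorem B applied to the linearised action. -/
theorem thmB_of_lin {G : Type u} [Group G] [Finite G] {p : ℕ} [hp : Fact p.Prime]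
    (hsol : IsPSolvable p G)
    {V : Type v} [AddCommGroup V] [Module (ZMod p) V] [Finite V]
    (ρ : G →* (V ≃ₗ[ZMod p] V)) (hρker : ρ.ker = pCore p G)
    (n : ℕ) (x : G) (hx1 : x ^ p ^ (n + 1) = 1) (hx2 : x ^ p ^ n ∉ pCore p G) :
    ((ρ x : Module.End (ZMod p) V) - 1) ^ (p ^ (n + 1) - 1) ≠ 0 ∨ ∃ q n₀ m : ℕ, q.Prime ∧ 1 ≤ n₀ ∧
      n₀ ≤ n + 1 ∧ 1 ≤ m ∧ p ^ n₀ - 1 = q ^ m ∧
      (∀ S : Sylow q ρ.range, ¬ IsMulCommutative S) ∧
      ((ρ x : Module.End (ZMod p) V) - 1) ^ (p ^ (n + 1 - n₀) * (p ^ n₀ - 1) - 1) ≠ 0 := by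
  have hfin : Finite ρ.range := Finite.of_surjective ρ.rangeRestrict ρ.rangeRestrict_surjective
  have hsolL : IsPSolvable p ρ.range :=
    isPSolvable_of_surjective p ρ.rangeRestrict ρ.rangeRestrict_surjective hsol
  have hOpL : pCore p ρ.range = ⊥ := by
    have e1 : G ⧸ pCore p G ≃* G ⧸ ρ.ker := QuotientGroup.quotientMulEquivOfEq hρker.symm
    have e2 : G ⧸ ρ.ker ≃* ρ.range := QuotientGroup.quotientKerEquivRange ρ
    exact Cfsg.Agent.Lib.Helper4.Sg42.pCore_eq_bot_of_equiv (e1.trans e2) p (Cfsg.Agent.Lib.Helper2.pCore_quotient_pCore_eq_bot p)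
  have hξ1 : (ρ x) ^ p ^ (n + 1) = 1 := by rw [← map_pow, hx1, map_one]
  have hξ2 : ¬ (ρ x) ^ p ^ n = 1 := by
    intro h
    apply hx2
    rw [← hρker, MonoidHom.mem_ker, map_pow]
    exact h
  have hord : orderOf (ρ x) = p ^ (n + 1) := orderOf_eq_prime_pow hξ2 hξ1
  have hmem : ρ x ∈ ρ.range := ⟨x, rfl⟩
  exact Cfsg.Agent.Lib.Helper3.HHC10.theoremB_concrete (F := ZMod p) (p := p) ρ.range hsolL hOpL (ρ x) hmem n hord

/-- powers of a linear equivalence as endomorphisms -/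
theorem coe_pow_end {p : ℕ} {V : Type v} [AddCommGroup V] [Module (ZMod p) V]
    (f : V ≃ₗ[ZMod p] V) (k : ℕ) (v : V) :
    ((f : Module.End (ZMod p) V) ^ k) v = (f ^ k) v := by
  induction k generalizing v with
  | zero => simp
  | succ k ih =>
    rw [pow_succ, pow_succ, Module.End.mul_apply, ih]
    rfl

/-- The geometric sum of `ρ x` applied to the class of `h` is the class of
`(h x)^k x^{-k}`. -/
theorem sum_pow_apply {G : Type u} [Group G] {p : ℕ}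
    {V : Type v} [AddCommGroup V] [Module (ZMod p) V]
    (ρ : G →* (V ≃ₗ[ZMod p] V)) (π : ↥(pCore p G) →* Multiplicative V)
    (hequiv : ∀ (g : G) (h : ↥(pCore p G)) (hgh : g * (h : G) * g⁻¹ ∈ pCore p G),
        π ⟨g * (h : G) * g⁻¹, hgh⟩ = Multiplicative.ofAdd (ρ g (Multiplicative.toAdd (π h))))
    (x : G) (h : ↥(pCore p G)) (k : ℕ) :
    ∃ hk : ((h : G) * x) ^ k * (x ^ k)⁻¹ ∈ pCore p G,
      (∑ i ∈ Finset.range k, ((ρ x : Module.End (ZMod p) V) ^ i)) (Multiplicative.toAdd (π h)) =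
        Multiplicative.toAdd (π ⟨((h : G) * x) ^ k * (x ^ k)⁻¹, hk⟩) := by
  have hn : (pCore p G).Normal := inferInstance
  induction k with
  | zero =>
    refine ⟨by simp, ?_⟩
    simp only [Finset.range_zero, Finset.sum_empty, LinearMap.zero_apply, pow_zero, inv_one,
      mul_one]
    have : (⟨1, (pCore p G).one_mem⟩ : ↥(pCore p G)) = 1 := rfl
    rw [this, map_one]; rfl
  | succ k ih =>
    obtain ⟨hk, ih⟩ := ih
    have hconj : x ^ k * (h : G) * (x ^ k)⁻¹ ∈ pCore p G := hn.conj_mem _ h.2 _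
    have e : ((h : G) * x) ^ (k + 1) * (x ^ (k + 1))⁻¹ =
        (((h : G) * x) ^ k * (x ^ k)⁻¹) * (x ^ k * (h : G) * (x ^ k)⁻¹) := by
      rw [pow_succ, pow_succ]; group
    have hk1 : ((h : G) * x) ^ (k + 1) * (x ^ (k + 1))⁻¹ ∈ pCore p G := by
      rw [e]; exact (pCore p G).mul_mem hk hconj
    refine ⟨hk1, ?_⟩
    rw [Finset.sum_range_succ, LinearMap.add_apply, ih, coe_pow_end, ← map_pow]
    have h2 := hequiv (x ^ k) h hconj
    have h3 : (⟨((h : G) * x) ^ (k + 1) * (x ^ (k + 1))⁻¹, hk1⟩ : ↥(pCore p G)) =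
        ⟨((h : G) * x) ^ k * (x ^ k)⁻¹, hk⟩ * ⟨x ^ k * (h : G) * (x ^ k)⁻¹, hconj⟩ :=
      Subtype.ext e
    rw [h3, map_mul, h2]
    rfl

end Cfsg.Agent.Lib.Helper1.HHE
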