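import Mathlib
import Cfsg.Prelude.Def_Local
import Cfsg.Agent.Lib.Helper1.HHEThmB
set_option autoImplicit false
set_option linter.style.haveILetI false
open Cfsg
open scoped BigOperators
universe u v
namespace Cfsg.Agent.Lib.Helper1.HHE
open Cfsg.Agent.Lib.Helper1.HH

theorem pow_ne_zero_of_le' {R : Type*} [Ring R] (f : R) {k m : ℕ} (hkm : k ≤ m) (h : f ^ m ≠ 0) :
    f ^ k ≠ 0 := by
  intro h0
  apply h
  obtain ⟨t, rfl⟩ := Nat.exists_eq_add_of_le hkm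
  rw [pow_add, h0, zero_mul]

/-- LEM-E: some `(u x)^(p^n)`, `u ∈ O_p(K)`, does not commute with `x^(p^n)`. -/
theorem lemE {K : Type u} [Group K] [Finite K] {p : ℕ} [hp : Fact p.Prime] (hp2 : p ≠ 2)
    (hsol : IsPSolvable p K) (hbot : pPrimeCore p K = ⊥) (n : ℕ) (x : K)
    (hx : x ^ p ^ (n + 1) = 1) (hxn : x ^ p ^ n ∉ pCore p K) :
    ∃ u ∈ pCore p K, (u * x) ^ p ^ n * x ^ p ^ n ≠ x ^ p ^ n * (u * x) ^ p ^ n := by
  obtain ⟨V, iA, iM, iF, ρ, π, hπs, hρker, hequiv⟩ := lin_package hsol hbot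
  have hp3 : 3 ≤ p := by
    have := hp.out.two_le
    omega
  obtain ⟨A, hA⟩ : ∃ A, A = p ^ n := ⟨_, rfl⟩
  have hA0 : 0 < A := by rw [hA]; exact pow_pos hp.out.pos _
  have hpA : p ^ (n + 1) = p * A := by rw [hA, pow_succ, mul_comm]
  have h3A : 3 * A ≤ p * A := Nat.mul_le_mul_right A hp3
  -- nonvanishing of `(ξ - 1)^(2 p^n - 1)`
  have hne : ((ρ x : Module.End (ZMod p) V) - 1) ^ (2 * A - 1) ≠ 0 := by
    rcases thmB_of_lin hsol ρ hρker n x hx hxn with h | ⟨q, n₀, m, -, h1, h2, -, -, -, h6⟩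
    · refine pow_ne_zero_of_le' _ ?_ h
      rw [hpA]; omega
    · refine pow_ne_zero_of_le' _ ?_ h6
      obtain ⟨a, ha⟩ : ∃ a, a = p ^ (n + 1 - n₀) := ⟨_, rfl⟩
      obtain ⟨b, hb⟩ : ∃ b, b = p ^ n₀ := ⟨_, rfl⟩
      rw [← ha, ← hb]
      have hab : a * b = p * A := by
        rw [ha, hb, ← pow_add, ← hpA]
        congr 1; omega
      have haA : a ≤ A := by
        rw [ha, hA]; exact Nat.pow_le_pow_right hp.out.pos (by omega)
      have hb1 : 1 ≤ b := by rw [hb]; exact Nat.one_le_pow _ _ hp.out.pos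
      have e : a * (b - 1) = a * b - a := by rw [Nat.mul_sub_one]
      rw [e, hab]; omega
  -- factorisation
  have hfac : ((ρ x : Module.End (ZMod p) V) - 1) ^ (2 * A - 1) =
      ((ρ x : Module.End (ZMod p) V) ^ A - 1) *
        ∑ i ∈ Finset.range A, (ρ x : Module.End (ZMod p) V) ^ i := by
    have e : 2 * A - 1 = A + (A - 1) := by omega
    rw [e, pow_add, hA, Cfsg.Agent.Lib.Helper3.HHB3.alg_sub_one_pow (K := ZMod p) p n,
      Cfsg.Agent.Lib.Helper3.HHB3.alg_geom_sum_eq_pow (K := ZMod p) p n]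
  rw [hfac] at hne
  obtain ⟨v, hv⟩ : ∃ v : V, (((ρ x : Module.End (ZMod p) V) ^ A - 1) *
      ∑ i ∈ Finset.range A, (ρ x : Module.End (ZMod p) V) ^ i) v ≠ 0 := by
    by_contra hcon
    push Not at hcon
    exact hne (LinearMap.ext hcon)
  obtain ⟨h, hh⟩ := hπs (Multiplicative.ofAdd v)
  have hvh : v = Multiplicative.toAdd (π h) := by rw [hh]; rfl
  obtain ⟨hk, hs⟩ := sum_pow_apply ρ π hequiv x h A
  refine ⟨(h : K), h.2, ?_⟩
  rw [← hA]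
  intro hcomm
  apply hv
  rw [Module.End.mul_apply, hvh, hs, LinearMap.sub_apply, Module.End.one_apply, coe_pow_end,
    ← map_pow, sub_eq_zero]
  have hn : (pCore p K).Normal := inferInstance
  have hconj : x ^ A * (((h : K) * x) ^ A * (x ^ A)⁻¹) * (x ^ A)⁻¹ ∈ pCore p K :=
    hn.conj_mem _ hk _
  have h2 := hequiv (x ^ A) ⟨((h : K) * x) ^ A * (x ^ A)⁻¹, hk⟩ hconj
  have h3 : (⟨x ^ A * (((h : K) * x) ^ A * (x ^ A)⁻¹) * (x ^ A)⁻¹, hconj⟩ : ↥(pCore p K)) =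
      ⟨((h : K) * x) ^ A * (x ^ A)⁻¹, hk⟩ := by
    apply Subtype.ext
    show x ^ A * (((h : K) * x) ^ A * (x ^ A)⁻¹) * (x ^ A)⁻¹ = ((h : K) * x) ^ A * (x ^ A)⁻¹
    calc x ^ A * (((h : K) * x) ^ A * (x ^ A)⁻¹) * (x ^ A)⁻¹
        = (x ^ A * ((h : K) * x) ^ A) * (x ^ A)⁻¹ * (x ^ A)⁻¹ := by group
      _ = (((h : K) * x) ^ A * x ^ A) * (x ^ A)⁻¹ * (x ^ A)⁻¹ := by rw [hcomm]
      _ = ((h : K) * x) ^ A * (x ^ A)⁻¹ := by group
  rw [h3] at h2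
  have h4 := congrArg Multiplicative.toAdd h2
  rw [toAdd_ofAdd] at h4
  exact h4.symm

end Cfsg.Agent.Lib.Helper1.HHE
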