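import Mathlib
import Cfsg.Prelude.Def_Local
import Cfsg.Agent.Lib.Helper1.HH4
import Cfsg.Agent.Lib.Helper1.HHEThmB
set_option autoImplicit false
set_option linter.style.haveILetI false
open Cfsg
open scoped BigOperators
universe u v
namespace Cfsg.Agent.Lib.Helper1.HHE
open Cfsg.Agent.Lib.Helper1.HH

/-- Abelian Sylow `q`-subgroups pass to homomorphic images. -/
theorem sylow_comm_map {G G' : Type*} [Group G] [Finite G] [Group G'] (q : ℕ) [Fact q.Prime]
    (f : G →* G') (hf : Function.Surjective f)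
    (h : ∀ S : Sylow q G, IsMulCommutative (S : Subgroup G)) :
    ∀ S' : Sylow q G', IsMulCommutative (S' : Subgroup G') := by
  intro Q'
  have : Finite G' := Finite.of_surjective f hf
  obtain ⟨S⟩ : Nonempty (Sylow q G) := inferInstance
  obtain ⟨g', hg'⟩ := MulAction.exists_smul_eq G' (S.mapSurjective hf) Q'
  have key : ∀ c' ∈ (Q' : Subgroup G'), ∃ s ∈ (S : Subgroup G), c' = g' * f s * g'⁻¹ := by
    intro c' hc'
    rw [← hg', Sylow.coe_subgroup_smul, Subgroup.mem_smul_pointwise_iff_exists] at hc'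
    obtain ⟨s', hs', rfl⟩ := hc'
    rw [Sylow.coe_mapSurjective] at hs'
    obtain ⟨s, hs, rfl⟩ := hs'
    exact ⟨s, hs, by rw [MulAut.smul_def, MulAut.conj_apply]⟩
  refine ⟨⟨fun a b => ?_⟩⟩
  obtain ⟨s, hs, hs'⟩ := key a a.2
  obtain ⟨t, ht, ht'⟩ := key b b.2
  have hst : s * t = t * s := by
    have := (h S).is_comm.comm ⟨s, hs⟩ ⟨t, ht⟩
    exact congrArg Subtype.val this
  apply Subtype.ext
  rw [Subgroup.coe_mul, Subgroup.coe_mul, hs', ht']
  calc g' * f s * g'⁻¹ * (g' * f t * g'⁻¹) = g' * f (s * t) * g'⁻¹ := by rw [map_mul]; group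
    _ = g' * f (t * s) * g'⁻¹ := by rw [hst]
    _ = g' * f t * g'⁻¹ * (g' * f s * g'⁻¹) := by rw [map_mul]; group

/-- `h * x` is a `p`-element for `h ∈ O_p(G)` and a `p`-element `x`. -/
theorem mul_isPElement {G : Type u} [Group G] [Finite G] {p : ℕ} [hp : Fact p.Prime]
    (h : G) (hh : h ∈ pCore p G) (x : G) (hx : ∃ a, x ^ p ^ a = 1) : ∃ a, (h * x) ^ p ^ a = 1 := by
  have hHp : IsPGroup p (pCore p G) := pCore_isPGroup p
  have hxp : IsPGroup p (Subgroup.zpowers x) := by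
    obtain ⟨a, ha⟩ := hx
    obtain ⟨k, -, hk⟩ := (Nat.dvd_prime_pow hp.out).mp (orderOf_dvd_of_pow_eq_one ha)
    exact IsPGroup.of_card (n := k) (by rw [Nat.card_zpowers, hk])
  have hHx : IsPGroup p (pCore p G ⊔ Subgroup.zpowers x : Subgroup G) :=
    IsPGroup.to_sup_of_normal_left hHp hxp
  have hmem : h * x ∈ (pCore p G ⊔ Subgroup.zpowers x : Subgroup G) :=
    Subgroup.mul_mem _ (Subgroup.mem_sup_left hh) (Subgroup.mem_sup_right (Subgroup.mem_zpowers x))
  obtain ⟨a, ha⟩ := hHx ⟨h * x, hmem⟩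
  refine ⟨a, ?_⟩
  have := congrArg Subtype.val ha
  simpa using this

/-- The norm of `ρ x` vanishes on `V` when all `p`-elements have order dividing `p ^ (n+1)`. -/
theorem geom_sum_eq_zero {G : Type u} [Group G] [Finite G] {p : ℕ} [hp : Fact p.Prime]
    {V : Type v} [AddCommGroup V] [Module (ZMod p) V]
    (ρ : G →* (V ≃ₗ[ZMod p] V)) (π : ↥(pCore p G) →* Multiplicative V)
    (hπs : Function.Surjective π)
    (hequiv : ∀ (g : G) (h : ↥(pCore p G)) (hgh : g * (h : G) * g⁻¹ ∈ pCore p G),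
        π ⟨g * (h : G) * g⁻¹, hgh⟩ = Multiplicative.ofAdd (ρ g (Multiplicative.toAdd (π h))))
    (N : ℕ) (x : G) (hx : ∃ a, x ^ p ^ a = 1)
    (hN : ∀ z : G, (∃ a, z ^ p ^ a = 1) → z ^ N = 1) :
    (∑ i ∈ Finset.range N, ((ρ x : Module.End (ZMod p) V) ^ i)) = 0 := by
  apply LinearMap.ext
  intro v
  obtain ⟨h, hh⟩ := hπs (Multiplicative.ofAdd v)
  have hv : v = Multiplicative.toAdd (π h) := by rw [hh]; rfl
  obtain ⟨hk, hs⟩ := sum_pow_apply ρ π hequiv x h N
  rw [hv, hs]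
  have h1 : ((h : G) * x) ^ N = 1 := hN _ (mul_isPElement (h : G) h.2 x hx)
  have h2 : x ^ N = 1 := hN x hx
  have e : (⟨((h : G) * x) ^ N * (x ^ N)⁻¹, hk⟩ : ↥(pCore p G)) = 1 :=
    Subtype.ext (by simp [h1, h2])
  rw [e, map_one]
  rfl

/-- B1: the key lemma for part 1. -/
theorem pow_mem_pCore_of_good {G : Type u} [Group G] [Finite G] {p : ℕ} [hp : Fact p.Prime]
    (hp2 : p ≠ 2) (hsol : IsPSolvable p G) (hbot : pPrimeCore p G = ⊥)
    (hF : (¬ ∃ k : ℕ, p = 2 ^ k + 1) ∨ ∀ S : Sylow 2 G, IsMulCommutative (S : Subgroup G))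
    (n : ℕ) (hexp : ExpLE p (n + 1) G) (x : G) (hx : ∃ a, x ^ p ^ a = 1) :
    x ^ p ^ n ∈ pCore p G := by
  by_contra hxn
  obtain ⟨V, iA, iM, iF, ρ, π, hπs, hρker, hequiv⟩ := lin_package hsol hbot
  have hx1 : x ^ p ^ (n + 1) = 1 := hexp x hx
  have hsum := geom_sum_eq_zero ρ π hπs hequiv (p ^ (n + 1)) x hx hexp
  have hgeom := Cfsg.Agent.Lib.Helper3.HHB3.alg_geom_sum_eq_pow (K := ZMod p) p (n + 1)
    (ρ x : Module.End (ZMod p) V)
  rw [hsum] at hgeom
  rcases thmB_of_lin hsol ρ hρker n x hx1 hxn with h | ⟨q, n₀, m, hq, h1, h2, h3, h4, h5, h6⟩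
  · exact h hgeom.symm
  · -- the exceptional case: `q = 2`, `p` Fermat, nonabelian Sylow 2-subgroups
    have hpodd : Odd p := hp.out.odd_of_ne_two hp2
    have hpow_odd : Odd (p ^ n₀) := hpodd.pow
    have heven : 2 ∣ p ^ n₀ - 1 := by
      obtain ⟨t, ht⟩ := hpow_odd
      rw [ht]; exact ⟨t, by omega⟩
    have hq2 : q = 2 := by
      rw [h4] at heven
      have := (Nat.Prime.dvd_of_dvd_pow Nat.prime_two heven)
      exact ((Nat.prime_dvd_prime_iff_eq Nat.prime_two hq).mp this).symm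
    subst hq2
    rcases hF with hF | hF
    · apply hF
      have hdvd : p - 1 ∣ p ^ n₀ - 1 := Nat.sub_one_dvd_pow_sub_one p n₀
      rw [h4] at hdvd
      obtain ⟨k, -, hk⟩ := (Nat.dvd_prime_pow Nat.prime_two).mp hdvd
      exact ⟨k, by have := hp.out.one_lt; omega⟩
    · have hab := sylow_comm_map 2 ρ.rangeRestrict ρ.rangeRestrict_surjective hF
      obtain ⟨S⟩ : Nonempty (Sylow 2 ρ.range) := inferInstance
      exact h5 S (hab S)

/-- P1: part 1 of S3786 (`l_p ≤ e` when `p` is not a Fermat prime or the Sylow 2-subgroups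
are abelian). -/
theorem plength_le_of_good (p : ℕ) [hp : Fact p.Prime] (hp2 : p ≠ 2) :
    ∀ (e : ℕ) (G : Type u) [Group G] [Finite G], IsPSolvable p G → ExpLE p e G →
      ((¬ ∃ k : ℕ, p = 2 ^ k + 1) ∨ ∀ S : Sylow 2 G, IsMulCommutative (S : Subgroup G)) →
      (upperPSeries p G (2 * e + 1)).1 = ⊤ := by
  intro n
  induction n with
  | zero =>
    intro G _ _ hsol hexp hF
    have h2 : ¬ p ∣ Nat.card G := by
      intro hdvd
      obtain ⟨z, hz⟩ := exists_prime_orderOf_dvd_card' p hdvd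
      have h1 : z ^ p ^ 0 = 1 := hexp z ⟨1, by rw [pow_one, ← hz]; exact pow_orderOf_eq_one z⟩
      rw [pow_zero, pow_one] at h1
      rw [h1, orderOf_one] at hz
      exact hp.out.one_lt.ne hz
    have h4 : (Nat.card (⊤ : Subgroup G)).Coprime p := by
      rw [Subgroup.card_top]
      exact ((Nat.Prime.coprime_iff_not_dvd hp.out).mpr h2).symm
    show (upperPSeries p G 1).1 = ⊤
    rw [Helper3.upperPSeries_one, eq_top_iff]
    exact le_pPrimeCore Subgroup.normal_top h4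
  | succ n ih =>
    intro G _ _ hsol hexp hF
    have hsurj := QuotientGroup.mk'_surjective (upperPSeries p G 2).1
    have hsolq := Cfsg.Agent.S4218.isPSolvable_quotient p (upperPSeries p G 2).1 hsol
    have hFq : (¬ ∃ k : ℕ, p = 2 ^ k + 1) ∨
        ∀ S : Sylow 2 (G ⧸ (upperPSeries p G 2).1),
          IsMulCommutative (S : Subgroup (G ⧸ (upperPSeries p G 2).1)) :=
      hF.imp id (fun h => sylow_comm_map 2 _ hsurj h)
    have hexpq : ExpLE p n (G ⧸ (upperPSeries p G 2).1) := by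
      rintro z' ⟨b, hb⟩
      obtain ⟨z, rfl, ha⟩ := exists_pElement_lift hp.out _ hsurj z' b hb
      rw [← map_pow, QuotientGroup.mk'_apply, QuotientGroup.eq_one_iff, Helper3.upperPSeries_two]
      show (QuotientGroup.mk' (pPrimeCore p G)) (z ^ p ^ n) ∈ pCore p (G ⧸ pPrimeCore p G)
      rw [map_pow]
      have hs1 := QuotientGroup.mk'_surjective (pPrimeCore p G)
      apply pow_mem_pCore_of_good hp2 (Cfsg.Agent.S4218.isPSolvable_quotient p _ hsol)
        (pPrimeCore_quotient_eq_bot p) (hF.imp id (fun h => sylow_comm_map 2 _ hs1 h)) n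
        (hexp.map hp.out _ hs1)
      obtain ⟨a, ha⟩ := ha
      exact ⟨a, by rw [← map_pow, ha, map_one]⟩
    have h2 := ih (G ⧸ (upperPSeries p G 2).1) hsolq hexpq hFq
    have e : 2 * (n + 1) + 1 = (2 * n + 1) + 2 := by ring
    rw [e, upperPSeries_shift, h2, Subgroup.comap_top]

end Cfsg.Agent.Lib.Helper1.HHE
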