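import Mathlib
import Cfsg.Agent.Lib.Lead.PTrans
import Cfsg.Agent.Lib.Lead.Imp3
import Cfsg.Agent.Lib.Lead.QDCore2
import Cfsg.Agent.Lib.Helper4.StabTwo2

set_option autoImplicit false

/-!
# Piece D2 of S3371: a half-transitive quasi-dihedral group gives alternative 2
-/

namespace Cfsg.Agent.Lib.Helper1.HalfTr

open Cfsg.Agent.Lib.Lead.PTrans (stab mem_stab)
open Cfsg.Agent.Lib.Lead
open Cfsg.Agent.Lib.Lead.QDCore Cfsg.Agent.Lib.Lead.QDArith

theorem even_iff_not_even_add_one {n : ℕ} (hn : 1 ≤ n) (a : ZMod (2 ^ n)) :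
    Even a ↔ ¬ Even (a + 1) := by
  constructor
  · intro h h'
    exact not_even_and_odd hn (a + 1) ⟨h', h.add_one⟩
  · intro h
    have ho : Odd (a + 1) := (odd_iff_not_even hn (a + 1)).2 h
    have := ho.sub_odd odd_one
    simpa using this

theorem card_even_zmod {n : ℕ} (hn : 1 ≤ n) :
    Nat.card {i : ZMod (2 ^ n) // Even i} = 2 ^ (n - 1) := by
  classical
  haveI : NeZero (2 ^ n) := ⟨by positivity⟩
  have e : {i : ZMod (2 ^ n) // Even i} ≃ {i : ZMod (2 ^ n) // ¬ Even i} :=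
    (Equiv.addRight (1 : ZMod (2 ^ n))).subtypeEquiv (fun a => by
      simpa using even_iff_not_even_add_one hn a)
  have h1 : Nat.card {i : ZMod (2 ^ n) // Even i} + Nat.card {i : ZMod (2 ^ n) // ¬ Even i}
      = 2 ^ n := by
    have := Nat.card_congr (Equiv.sumCompl (fun i : ZMod (2 ^ n) => Even i))
    rw [Nat.card_sum, Nat.card_zmod] at this
    exact this
  rw [← Nat.card_congr e] at h1
  have h2 : 2 ^ n = 2 * 2 ^ (n - 1) := by
    rw [← pow_succ']; congr 1; omega
  omega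

variable {q : ℕ} [Fact q.Prime] {V : Type*} [AddCommGroup V] [Module (ZMod q) V] [Finite V]
  {G : Type*} [Group G] [Finite G]

theorem alt2_of_quasiDihedral [Nontrivial V]
    (ρ : G →* (V ≃ₗ[ZMod q] V)) (hρ : Function.Injective ρ)
    (hirr : ∀ W : Submodule (ZMod q) V, (∀ g : G, ∀ w ∈ W, ρ g w ∈ W) → W = ⊥ ∨ W = ⊤)
    (s : ℕ) (hs : ∀ v : V, v ≠ 0 → Nat.card (stab ρ v) = s) (hs1 : s ≠ 1)
    (hqd : Cfsg.IsQuasiDihedral G) :
    Nat.card V = q ^ 2 ∧ ∃ m : ℕ, q = 2 ^ m - 1 ∧ Nat.card G = 2 ^ (m + 2) := by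
  classical
  obtain ⟨n, x, y, hQ⟩ := exists_QD hqd
  have hn3 : 3 ≤ n := hQ.hn
  have hn1 : 1 ≤ n := by omega
  have hn2 : 2 ≤ n := by omega
  set z : G := r n x (hh n) with hz
  have hmh : mm n * hh n = hh n := by
    rw [mul_comm]; exact hh_mul_odd hn1 (odd_mm hn2)
  have hzc : z ∈ Subgroup.center G := by
    rw [Subgroup.mem_center_iff]
    intro g
    rcases hQ.exists_rep g with ⟨i, rfl⟩ | ⟨i, rfl⟩
    · rw [hz, ← hQ.r_add, ← hQ.r_add, add_comm]
    · rw [hz, hQ.s_mul_r, hQ.r_mul_s, hmh, add_comm]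
  have hz1 : z ≠ 1 := hQ.rh_ne_one
  have hzo : orderOf z = 2 := hQ.orderOf_rh
  have hfix : Imp.fixedSub ρ z = ⊥ := Imp.fixedSub_central ρ hρ hirr z hzc hz1
  -- stabilizers meet ⟨x⟩ trivially
  have hmeet : ∀ v : V, v ≠ 0 → ∀ g ∈ stab ρ v, g ∈ Subgroup.zpowers x → g = 1 := by
    intro v hv g hgv hgx
    by_contra hg1
    have hdvd : orderOf g ∣ 2 ^ (n + 1) := by
      rw [← hQ.card]; exact orderOf_dvd_natCard g
    obtain ⟨k, -, hk⟩ := (Nat.dvd_prime_pow Nat.prime_two).1 hdvd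
    have hk0 : k ≠ 0 := by
      rintro rfl
      rw [pow_zero, orderOf_eq_one_iff] at hk
      exact hg1 hk
    have h2 : 2 ∣ Nat.card (Subgroup.zpowers g) := by
      rw [Nat.card_zpowers, hk]
      exact dvd_pow_self 2 hk0
    haveI : Fact (Nat.Prime 2) := ⟨Nat.prime_two⟩
    obtain ⟨t, ht⟩ := exists_prime_orderOf_dvd_card' 2 h2
    have ht' : orderOf (t : G) = 2 := by rw [Subgroup.orderOf_coe]; exact ht
    have htv : (t : G) ∈ stab ρ v := (Subgroup.zpowers_le.2 hgv) t.2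
    have htx : (t : G) ∈ Subgroup.zpowers x := (Subgroup.zpowers_le.2 hgx) t.2
    rcases hQ.involution_cases ht' with h | ⟨i, -, h⟩
    · have hzv : z ∈ stab ρ v := by rw [hz, ← h]; exact htv
      have : v ∈ Imp.fixedSub ρ z := mem_stab.1 hzv
      rw [hfix, Submodule.mem_bot] at this
      exact hv this
    · exact hQ.s_not_mem i (h ▸ htx)
  -- every stabilizer has exactly 2 elements
  have hstab : ∀ v : V, v ≠ 0 → Nat.card {g : G // ρ g v = v} = 2 := by
    intro v hv
    have hcard : Nat.card (stab ρ v) = s := hs v hv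
    have hne : ∃ g ∈ stab ρ v, g ≠ 1 := by
      by_contra hcon
      push_neg at hcon
      have : stab ρ v = ⊥ := (Subgroup.eq_bot_iff_forall _).2 hcon
      rw [this, Subgroup.card_bot] at hcard
      exact hs1 hcard.symm
    obtain ⟨g, hg, hg1⟩ := hne
    have hgx : g ∉ Subgroup.zpowers x := fun h => hg1 (hmeet v hv g hg h)
    have hidx := hQ.index_zpowers
    have huniq : ∀ g' ∈ stab ρ v, g' = 1 ∨ g' = g := by
      intro g' hg'
      by_cases hx' : g' ∈ Subgroup.zpowers x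
      · left; exact hmeet v hv g' hg' hx'
      · right
        have h1 : g⁻¹ * g' ∈ Subgroup.zpowers x := by
          rw [Subgroup.mul_mem_iff_of_index_two hidx]
          constructor
          · intro h; exact absurd ((Subgroup.inv_mem_iff _).1 h) hgx
          · intro h; exact absurd h hx'
        have h2 : g⁻¹ * g' ∈ stab ρ v := (stab ρ v).mul_mem ((stab ρ v).inv_mem hg) hg'
        have := hmeet v hv _ h2 h1
        exact (inv_mul_eq_one.1 this).symm
    rw [Nat.card_eq_two_iff]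
    refine ⟨⟨1, mem_stab.1 (stab ρ v).one_mem⟩, ⟨g, mem_stab.1 hg⟩, ?_, ?_⟩
    · intro h
      exact hg1 (congrArg Subtype.val h).symm
    · ext ⟨g', hg'⟩
      simp only [Set.mem_insert_iff, Set.mem_singleton_iff, Set.mem_univ, iff_true]
      rcases huniq g' (mem_stab.2 hg') with h | h
      · left; exact Subtype.ext h
      · right; exact Subtype.ext h
  obtain ⟨r', hV, hcnt⟩ := Cfsg.Agent.Lib.Helper4.StabTwo.main ρ hstab hρ z hzo hzc
  -- the noncentral involutions are the `s i`, `i` even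
  have hbij : Nat.card {g : G // orderOf g = 2 ∧ g ∉ Subgroup.center G} = 2 ^ (n - 1) := by
    rw [← card_even_zmod hn1]
    symm
    apply Nat.card_congr
    refine Equiv.ofBijective
      (fun i => ⟨QDCore.s n x y i.1, hQ.orderOf_s_even i.2, ?_⟩) ⟨?_, ?_⟩
    · intro hc
      have h3 := Subgroup.mem_center_iff.1 hc (r n x (qq n))
      rw [hQ.r_mul_s, hQ.s_mul_r, hQ.mm_qq] at h3
      have h4 := hQ.s_inj h3
      apply hh_ne_zero hn1
      have h5 : hh n = (i.1 + (qq n + hh n)) - (qq n + i.1) := by ring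
      rw [h5, ← h4]; ring
    · intro i j hij
      have := congrArg Subtype.val hij
      exact Subtype.ext (hQ.s_inj this)
    · rintro ⟨t, ht, htc⟩
      rcases hQ.involution_cases ht with h | ⟨i, hi, h⟩
      · exact absurd (h ▸ hzc) htc
      · exact ⟨⟨i, hi⟩, Subtype.ext h.symm⟩
  have heq : 2 ^ (n - 1) = q ^ r' + 1 := by rw [← hbij, hcnt]
  have hr' : 1 ≤ r' := by
    rcases Nat.eq_zero_or_pos r' with h0 | h0
    · exfalso
      rw [h0, pow_zero] at heq
      have h6 : 2 ^ (n - 1) = 2 ^ 1 := by omega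
      have := Nat.pow_right_injective (le_refl 2) h6
      omega
    · exact h0
  have hqp : q.Prime := Fact.out
  rcases Cfsg.Agent.Lib.Lead.PTrans.nt Nat.prime_two hqp (by omega : 1 ≤ n - 1) hr' heq with
    ⟨_, h⟩ | ⟨_, h⟩ | ⟨_, h, _⟩
  · subst h
    refine ⟨by simpa using hV, n - 1, ?_, ?_⟩
    · rw [pow_one] at heq; omega
    · rw [hQ.card]; congr 1; omega
  · omega
  · omega

end Cfsg.Agent.Lib.Helper1.HalfTr
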