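import Mathlib
import Cfsg.Agent.Lib.Helper1.HallComplement
import Cfsg.Agent.Lib.Helper1.SZConj
import Cfsg.Agent.Lib.Helper1.Zipper
set_option autoImplicit false
open Pointwise
open scoped commutatorElement

namespace Cfsg.Agent.Lib.Helper1

universe u

theorem hall_central_in_normalizer_aux : ∀ (n : ℕ) (G : Type u) [Group G] [Finite G], Nat.card G = n →
    ∀ H : Subgroup G, Nat.Coprime (Nat.card H) H.index →
      Subgroup.normalizer (H : Set G) ≤ Subgroup.centralizer (H : Set G) →
      ∃ N : Subgroup G, N.Normal ∧ N.IsComplement' H := by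
  intro n
  induction n using Nat.strong_induction_on with
  | _ n ih =>
  intro G _ _ hn H hHall hNC
  have hcomm : ∀ a ∈ H, ∀ b ∈ H, a * b = b * a := fun a ha b hb =>
    (hNC (Subgroup.le_normalizer ha) b hb).symm
  have hHc : IsMulCommutative H := ⟨⟨fun a b => Subtype.ext (hcomm a a.2 b b.2)⟩⟩
  have hHnil : Group.IsNilpotent H := by
    let _ : CommGroup H := { (inferInstance : Group H) with mul_comm := hHc.is_comm.comm }
    infer_instance
  rw [nilpotent_hall_normal_complement_iff H hHnil hHall]
  rintro x hx y hy ⟨g, hg⟩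
  refine ⟨1, H.one_mem, ?_⟩
  rw [one_mul, inv_one, mul_one]
  -- show x = y
  set C := Subgroup.centralizer ({y} : Set G) with hC
  have hHC : H ≤ C := by
    intro a ha
    rw [hC, Subgroup.mem_centralizer_singleton_iff]
    exact hcomm a ha y hy
  have hgHC : MulAut.conj g • H ≤ C := by
    intro a ha
    rw [mem_conj_smul_iff] at ha
    rw [hC, Subgroup.mem_centralizer_singleton_iff, ← hg]
    have := hcomm _ ha x hx
    have e1 : a * (g * x * g⁻¹) = g * ((g⁻¹ * a * g) * x) * g⁻¹ := by group
    have e2 : g * x * g⁻¹ * a = g * (x * (g⁻¹ * a * g)) * g⁻¹ := by group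
    rw [e1, e2, this]
  by_cases hCtop : C = ⊤
  · have hyc : g⁻¹ ∈ C := by rw [hCtop]; trivial
    rw [hC, Subgroup.mem_centralizer_singleton_iff] at hyc
    have hx' : x = g⁻¹ * y * g := by rw [← hg]; group
    rw [hx', hyc]; group
  · have hcardC : Nat.card C < n := hn ▸ card_lt_of_ne_top C hCtop
    -- the Hall subgroup H of C
    set H' := H.subgroupOf C with hH'
    have hcardH' : Nat.card H' = Nat.card H := card_subgroupOf_of_le hHC
    have hHall' : Nat.Coprime (Nat.card H') H'.index := by
      rw [hcardH']
      exact Nat.Coprime.coprime_dvd_right (Subgroup.relIndex_dvd_index_of_le hHC) hHall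
    have hNC' : Subgroup.normalizer (H' : Set C) ≤ Subgroup.centralizer (H' : Set C) := by
      intro c hc
      rw [hH', ← Subgroup.subgroupOf_normalizer_eq hHC, Subgroup.mem_subgroupOf] at hc
      have h1 := hNC hc
      rw [Subgroup.mem_centralizer_iff]
      intro a ha
      apply Subtype.ext
      exact h1 (a : G) (Subgroup.mem_subgroupOf.mp ha)
    obtain ⟨K', hK'n, hK'c⟩ := ih (Nat.card C) hcardC C rfl H' hHall' hNC'
    -- the second complement
    set H'' := (MulAut.conj g • H).subgroupOf C with hH''
    have hcardH'' : Nat.card H'' = Nat.card H := by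
      rw [hH'', card_subgroupOf_of_le hgHC]
      exact card_conj_smul g H
    have hcop : (Nat.card K').Coprime (Nat.card H') := by
      rw [← hK'c.index_eq_card]
      exact hHall'.symm
    have hK'c2 : K'.IsComplement' H'' := by
      apply Subgroup.isComplement'_of_coprime
      · rw [hcardH'', ← hcardH']; exact hK'c.card_mul_card
      · rw [hcardH'', ← hcardH']; exact hcop
    have hsolv : Group.IsSolvable H' := Group.isSolvable_of_comm (fun a b => Subtype.ext (Subtype.ext
        (hcomm a (Subgroup.mem_subgroupOf.mp a.2) b (Subgroup.mem_subgroupOf.mp b.2))))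
    obtain ⟨c, hc⟩ := sz_conj' K' H' H'' hK'c hK'c2 hcop (Or.inr hsolv)
    rw [hH', subgroupOf_conj_smul, hH''] at hc
    have hcHC : MulAut.conj (c : G) • H ≤ C := by
      intro a ha
      rw [mem_conj_smul_iff] at ha
      have := C.mul_mem (C.mul_mem c.2 (hHC ha)) (C.inv_mem c.2)
      have e : (c : G) * ((c : G)⁻¹ * a * c) * (c : G)⁻¹ = a := by group
      rwa [e] at this
    have hc2 : MulAut.conj (c : G) • H = MulAut.conj g • H := by
      have h1 := congrArg (Subgroup.map C.subtype) hc
      rw [Subgroup.subgroupOf_map_subtype, Subgroup.subgroupOf_map_subtype,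
        inf_eq_left.mpr hcHC, inf_eq_left.mpr hgHC] at h1
      exact h1
    have hn : g⁻¹ * (c : G) ∈ Subgroup.normalizer (H : Set G) := by
      apply mem_normalizer_of_conj_smul_eq
      rw [map_mul, mul_smul, hc2, smul_smul, ← map_mul, inv_mul_cancel, map_one, one_smul]
    have hcen := hNC hn x hx
    -- hcen : x * (g⁻¹ * c) = g⁻¹ * c * x
    have hcy : (c : G) * y = y * (c : G) := Subgroup.mem_centralizer_singleton_iff.mp c.2
    have h3 : (c : G) * x * (c : G)⁻¹ = y := by
      rw [← hg]
      have e : (c : G) * x * (c : G)⁻¹ = g * ((g⁻¹ * (c : G)) * x) * (c : G)⁻¹ := by group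
      rw [e, ← hcen]; group
    have h4 : x = (c : G)⁻¹ * y * (c : G) := by rw [← h3]; group
    rw [h4, mul_assoc, ← hcy]; group

/-- A Hall subgroup that is central in its normalizer has a normal complement. -/
theorem hall_central_in_normalizer {G : Type u} [Group G] [Finite G] (H : Subgroup G)
    (hHall : Nat.Coprime (Nat.card H) H.index)
    (h : Subgroup.normalizer (H : Set G) ≤ Subgroup.centralizer (H : Set G)) :
    ∃ N : Subgroup G, N.Normal ∧ N.IsComplement' H :=
  hall_central_in_normalizer_aux (Nat.card G) G rfl H hHall h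

end Cfsg.Agent.Lib.Helper1
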