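import Mathlib
import Cfsg.Prelude.Def_OddOrderLocal
import Cfsg.Agent.Lib.Helper1.HallFit1
import Cfsg.Agent.Lib.Helper2.Cores

/-! `C_S(A) = A × D` for `A ∈ SCN(F(H))`, `H` a Hall `π`-subgroup of the solvable group `S`,
`2, 3 ∉ π`. -/
set_option autoImplicit false
open scoped commutatorElement
namespace Cfsg.Agent.Lib.Helper1.HallFit

variable {S : Type*} [Group S]

/-- A normal subgroup of order coprime to the index of `Hb` lies in `Hb`. -/
theorem normal_le_of_coprime_index [Finite S] (N Hb : Subgroup S) [hN : N.Normal]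
    (hcop : (Nat.card N).Coprime Hb.index) : N ≤ Hb := by
  have h1 := Helper2.card_sup_mul_card_inf Hb N
  have h2 : Nat.card Hb * Hb.relIndex (Hb ⊔ N) = Nat.card (Hb ⊔ N : Subgroup S) := by
    rw [← Subgroup.relIndex_bot_left, Subgroup.relIndex_mul_relIndex _ _ _ bot_le le_sup_left,
      Subgroup.relIndex_bot_left]
  have h3 : Hb.relIndex (Hb ⊔ N) ∣ Hb.index := Subgroup.relIndex_dvd_index_of_le le_sup_left
  have h4 : Hb.relIndex (Hb ⊔ N) ∣ Nat.card N := by
    rw [← h2, mul_assoc] at h1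
    have hpos : 0 < Nat.card Hb := Nat.card_pos
    have h5 := Nat.eq_of_mul_eq_mul_left hpos h1
    exact Dvd.intro _ h5
  have h5 : Hb.relIndex (Hb ⊔ N) = 1 :=
    Nat.Coprime.eq_one_of_dvd (Nat.Coprime.coprime_dvd_left h4 hcop) h3
  exact le_sup_right.trans (Subgroup.relIndex_eq_one.mp h5)

theorem s1893 [Finite S] [Group.IsSolvable S]
    (π : Set ℕ) (h2 : 2 ∉ π) (h3 : 3 ∉ π) (H : Subgroup S) (hH : Cfsg.IsPiHall π H)
    (A : Subgroup S) (hA : Cfsg.IsSCN ((Cfsg.fittingSubgroup H).map H.subtype) A) :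
    ∃ D : Subgroup S, D ≤ Subgroup.centralizer (A : Set S) ∧
      (∀ c ∈ Subgroup.centralizer (A : Set S), ∀ d ∈ D, c * d * c⁻¹ ∈ D) ∧
      A ⊓ D = ⊥ ∧ A ⊔ D = Subgroup.centralizer (A : Set S) ∧
      ∀ q : ℕ, q.Prime → q ∣ Nat.card D → q ∉ π := by
  classical
  obtain ⟨R, hRdef⟩ : ∃ R : Subgroup S, R = Cfsg.piCore πᶜ S := ⟨_, rfl⟩
  have hRn : R.Normal := by rw [hRdef]; infer_instance
  have hRπ : ∀ q : ℕ, q.Prime → q ∣ Nat.card R → q ∉ π := by
    intro q hq hd; rw [hRdef] at hd; exact Helper2.piCore_pi πᶜ q hq hd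
  obtain ⟨FS, hFSdef⟩ : ∃ FS : Subgroup S, FS = (Cfsg.fittingSubgroup H).map H.subtype :=
    ⟨_, rfl⟩
  rw [← hFSdef] at hA
  obtain ⟨hAF, hFA, hFcent⟩ := hA
  have hFSH : FS ≤ H := by rw [hFSdef]; exact Subgroup.map_subtype_le _
  have hHR : H ⊓ R = ⊥ := by
    apply disjoint_iff.mp
    apply Subgroup.disjoint_of_coprime_natCard
    apply Nat.coprime_of_dvd
    intro q hq hq1 hq2
    exact hRπ q hq hq2 (hH.1 q hq hq1)
  have hAR : A ⊓ R = ⊥ := le_bot_iff.mp (hHR ▸ inf_le_inf_right R (hAF.trans hFSH))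
  -- the quotient has trivial `π'`-core
  have hπ' : ∀ N : Subgroup (S ⧸ R), N.Normal →
      (∀ q : ℕ, q.Prime → q ∣ Nat.card N → q ∉ π) → N = ⊥ := by
    intro N hN hNπ
    have hcn : (N.comap (QuotientGroup.mk' R)).Normal := hN.comap _
    have hle : N.comap (QuotientGroup.mk' R) ≤ R := by
      refine le_trans (Helper2.le_piCore ?_) (le_of_eq hRdef.symm)
      intro q hq hqd
      have := Fact.mk hq
      obtain ⟨⟨g, hg⟩, hgo⟩ := exists_prime_orderOf_dvd_card' q hqd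
      have hgo' : orderOf g = q := by rw [← hgo]; exact (Subgroup.orderOf_mk g hg).symm
      by_cases hgR : g ∈ R
      · apply hRπ q hq
        rw [← hgo']; exact Subgroup.orderOf_dvd_natCard _ hgR
      · have h1 : orderOf (QuotientGroup.mk' R g) ∣ q := by
          rw [← hgo']; exact orderOf_map_dvd _ g
        have h2 : orderOf (QuotientGroup.mk' R g) ≠ 1 := by
          rw [Ne, orderOf_eq_one_iff, QuotientGroup.mk'_apply, QuotientGroup.eq_one_iff]
          exact hgR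
        have h3 : orderOf (QuotientGroup.mk' R g) = q :=
          ((Nat.dvd_prime hq).mp h1).resolve_left h2
        have h4 : q ∣ Nat.card N := by
          rw [← h3]; exact Subgroup.orderOf_dvd_natCard _ hg
        exact hNπ q hq h4
    rw [eq_bot_iff, ← Subgroup.map_comap_eq_self_of_surjective (QuotientGroup.mk'_surjective R) N]
    calc (N.comap (QuotientGroup.mk' R)).map (QuotientGroup.mk' R)
        ≤ R.map (QuotientGroup.mk' R) := Subgroup.map_mono hle
      _ = ⊥ := QuotientGroup.map_mk'_self R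
  -- `F(S/R) ≤ H R / R`
  have hHbar_index : ∀ q : ℕ, q.Prime → q ∈ π →
      ¬ q ∣ (H.map (QuotientGroup.mk' R)).index := by
    intro q hq hqπ hd
    exact hH.2 q hq hqπ (hd.trans (Subgroup.index_map_dvd H (QuotientGroup.mk'_surjective R)))
  have hpcore_le : ∀ q : Nat.Primes,
      Cfsg.pCore (q : ℕ) (S ⧸ R) ≤ H.map (QuotientGroup.mk' R) := by
    intro q
    have : Fact (q : ℕ).Prime := ⟨q.2⟩
    obtain ⟨i, hi⟩ := IsPGroup.iff_card.mp (pCore_isPGroup (G := S ⧸ R) (q : ℕ))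
    by_cases hqπ : (q : ℕ) ∈ π
    · apply normal_le_of_coprime_index
      rw [hi]
      exact Nat.Coprime.pow_left _
        ((Nat.Prime.coprime_iff_not_dvd q.2).mpr (hHbar_index q q.2 hqπ))
    · have hbot : Cfsg.pCore (q : ℕ) (S ⧸ R) = ⊥ := by
        apply hπ' _ (pCore_normal _)
        intro q' hq' hd
        rw [hi] at hd
        have : q' = q := (Nat.prime_dvd_prime_iff_eq hq' q.2).mp (hq'.dvd_of_dvd_pow hd)
        rw [this]; exact hqπ
      rw [hbot]; exact bot_le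
  have hFT_le : Cfsg.fittingSubgroup (S ⧸ R) ≤ H.map (QuotientGroup.mk' R) := by
    rw [fittingSubgroup_eq_iSup_pCore]; exact iSup_le hpcore_le
  obtain ⟨L, hLdef⟩ : ∃ L : Subgroup S,
      L = H ⊓ (Cfsg.fittingSubgroup (S ⧸ R)).comap (QuotientGroup.mk' R) := ⟨_, rfl⟩
  have hLH : L ≤ H := by rw [hLdef]; exact inf_le_left
  have hLmap : Cfsg.fittingSubgroup (S ⧸ R) ≤ L.map (QuotientGroup.mk' R) := by
    intro t ht
    obtain ⟨h, hh, rfl⟩ := hFT_le ht
    exact ⟨h, by rw [hLdef]; exact Subgroup.mem_inf.mpr ⟨hh, ht⟩, rfl⟩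
  have hLn : (L.subgroupOf H).Normal := by
    rw [hLdef, Subgroup.inf_subgroupOf_left]
    have : ((Cfsg.fittingSubgroup (S ⧸ R)).comap (QuotientGroup.mk' R)).Normal :=
      fittingSubgroup_normal.comap _
    infer_instance
  have hLnil : Group.IsNilpotent (L.subgroupOf H) := by
    have hFTnil : Group.IsNilpotent (Cfsg.fittingSubgroup (S ⧸ R)) := fittingSubgroup_isNilpotent
    let f : ↥(L.subgroupOf H) →* ↥(Cfsg.fittingSubgroup (S ⧸ R)) :=
      ((QuotientGroup.mk' R).comp (H.subtype.comp (L.subgroupOf H).subtype)).codRestrict _ (by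
        rintro ⟨⟨h, hh⟩, hl⟩
        have hl' : h ∈ L := hl
        rw [hLdef] at hl'
        exact hl'.2)
    apply Subgroup.isNilpotent_of_ker_le_center f
    have hker : f.ker = ⊥ := by
      rw [eq_bot_iff]
      rintro ⟨⟨h, hh⟩, hl⟩ hx
      rw [MonoidHom.mem_ker] at hx
      have hx' : QuotientGroup.mk' R h = 1 := congrArg Subtype.val hx
      rw [QuotientGroup.mk'_apply, QuotientGroup.eq_one_iff] at hx'
      have h1 : h ∈ H ⊓ R := Subgroup.mem_inf.mpr ⟨hh, hx'⟩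
      rw [hHR, Subgroup.mem_bot] at h1
      rw [Subgroup.mem_bot]
      apply Subtype.ext; apply Subtype.ext
      exact h1
    rw [hker]; exact bot_le
  have hL_le : L ≤ FS := by
    have h1 : L.subgroupOf H ≤ Cfsg.fittingSubgroup H := le_fittingSubgroup hLn hLnil
    rw [hFSdef]
    intro l hl
    exact ⟨⟨l, hLH hl⟩, h1 (Subgroup.mem_subgroupOf.mpr hl), rfl⟩
  have hF : Cfsg.fittingSubgroup (S ⧸ R) ≤ FS.map (QuotientGroup.mk' R) :=
    hLmap.trans (Subgroup.map_mono hL_le)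
  have hFAb : FS.map (QuotientGroup.mk' R) ≤
      Subgroup.normalizer ((A.map (QuotientGroup.mk' R) : Subgroup (S ⧸ R)) : Set (S ⧸ R)) :=
    (Subgroup.map_mono hFA).trans (Subgroup.le_normalizer_map _)
  have hcentb : FS.map (QuotientGroup.mk' R) ⊓
      Subgroup.centralizer ((A.map (QuotientGroup.mk' R) : Subgroup (S ⧸ R)) : Set (S ⧸ R)) ≤
      A.map (QuotientGroup.mk' R) := by
    intro t ht
    obtain ⟨⟨f, hf, rfl⟩, htc⟩ := Subgroup.mem_inf.mp ht
    refine ⟨f, ?_, rfl⟩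
    rw [← hFcent]
    refine Subgroup.mem_inf.mpr ⟨hf, ?_⟩
    rw [Subgroup.mem_centralizer_iff]
    intro a ha
    have h1 : QuotientGroup.mk' R a * QuotientGroup.mk' R f =
        QuotientGroup.mk' R f * QuotientGroup.mk' R a :=
      Subgroup.mem_centralizer_iff.mp htc _ (Subgroup.mem_map_of_mem _ ha)
    have h2 : f * a * f⁻¹ * a⁻¹ ∈ R := by
      have h : (QuotientGroup.mk' R) (f * a * f⁻¹ * a⁻¹) = 1 := by
        rw [map_mul, map_mul, map_mul, map_inv, map_inv, ← h1]; group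
      rwa [QuotientGroup.mk'_apply, QuotientGroup.eq_one_iff] at h
    have h3 : f * a * f⁻¹ * a⁻¹ ∈ A :=
      A.mul_mem ((Subgroup.mem_normalizer_iff.mp (hFA hf) a).mp ha) (A.inv_mem ha)
    have h4 : f * a * f⁻¹ * a⁻¹ = 1 := by
      have h : f * a * f⁻¹ * a⁻¹ ∈ A ⊓ R := Subgroup.mem_inf.mpr ⟨h3, h2⟩
      rw [hAR] at h; exact Subgroup.mem_bot.mp h
    calc a * f = (f * a * f⁻¹ * a⁻¹)⁻¹ * (f * a) := by group
      _ = f * a := by rw [h4]; group
  have hcore := centralizer_le_of_scn π h2 h3 hπ' (FS.map (QuotientGroup.mk' R))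
    (A.map (QuotientGroup.mk' R)) hF hFAb hcentb
  have hCle : ∀ c ∈ Subgroup.centralizer (A : Set S), ∃ a ∈ A, a⁻¹ * c ∈ R := by
    intro c hc
    have h1 : QuotientGroup.mk' R c ∈ Subgroup.centralizer
        ((A.map (QuotientGroup.mk' R) : Subgroup (S ⧸ R)) : Set (S ⧸ R)) := by
      rw [Subgroup.mem_centralizer_iff]
      rintro _ ⟨a, ha, rfl⟩
      rw [← map_mul, ← map_mul, Subgroup.mem_centralizer_iff.mp hc a ha]
    obtain ⟨a, ha, hac⟩ := hcore h1
    refine ⟨a, ha, ?_⟩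
    have h : (QuotientGroup.mk' R) (a⁻¹ * c) = 1 := by rw [map_mul, map_inv, hac]; group
    rwa [QuotientGroup.mk'_apply, QuotientGroup.eq_one_iff] at h
  have hAC : A ≤ Subgroup.centralizer (A : Set S) := by
    intro a ha
    rw [← hFcent] at ha
    exact (Subgroup.mem_inf.mp ha).2
  refine ⟨R ⊓ Subgroup.centralizer (A : Set S), inf_le_right, ?_, ?_, ?_, ?_⟩
  · intro c hc d hd
    obtain ⟨hd1, hd2⟩ := Subgroup.mem_inf.mp hd
    exact Subgroup.mem_inf.mpr ⟨hRn.conj_mem d hd1 c,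
      Subgroup.mul_mem _ (Subgroup.mul_mem _ hc hd2) (Subgroup.inv_mem _ hc)⟩
  · rw [eq_bot_iff, ← hAR]
    exact le_inf inf_le_left (inf_le_right.trans inf_le_left)
  · apply le_antisymm (sup_le hAC inf_le_right)
    intro c hc
    obtain ⟨a, ha, har⟩ := hCle c hc
    have e : c = a * (a⁻¹ * c) := by group
    rw [e]
    refine Subgroup.mul_mem_sup ha (Subgroup.mem_inf.mpr ⟨har, ?_⟩)
    exact Subgroup.mul_mem _ (Subgroup.inv_mem _ (hAC ha)) hc
  · intro q hq hd
    exact hRπ q hq (hd.trans (Subgroup.card_dvd_of_le inf_le_left))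

end Cfsg.Agent.Lib.Helper1.HallFit
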