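import Mathlib
import Cfsg.Agent.Lib.Lead.Sz2D2

set_option autoImplicit false
set_option maxHeartbeats 4000000
set_option linter.unusedVariables false
set_option linter.unusedSectionVars false
set_option linter.style.longLine false

/-!
# Higman's theorem on Suzuki 2-groups, relative set-up

We fix a Suzuki datum `SD P K` and work with `K`-invariant subgroups of `P`.
-/

namespace Cfsg.Agent.Lib.Helper1.Hg

open Cfsg.Agent.Lib.Lead.Sz2D

universe u

variable {P : Type u} [Group P] {K : Subgroup (MulAut P)}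

/-- `K`-invariance of a subgroup -/
def Inv (K : Subgroup (MulAut P)) (H : Subgroup P) : Prop := ∀ k ∈ K, ∀ x ∈ H, k x ∈ H

theorem Inv.inv_mem {H : Subgroup P} (hH : Inv K H) {k : MulAut P} (hk : k ∈ K) {x : P}
    (hx : x ∈ H) : k⁻¹ x ∈ H := hH k⁻¹ (K.inv_mem hk) x hx

theorem Inv.mem_iff {H : Subgroup P} (hH : Inv K H) {k : MulAut P} (hk : k ∈ K) {x : P} :
    k x ∈ H ↔ x ∈ H := by
  constructor
  · intro h
    have := hH.inv_mem hk h
    rwa [MulAut.inv_apply_self] at this
  · exact hH k hk x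

theorem Inv.inf {A B : Subgroup P} (hA : Inv K A) (hB : Inv K B) : Inv K (A ⊓ B) :=
  fun k hk x hx => ⟨hA k hk x hx.1, hB k hk x hx.2⟩

theorem Inv.sup {A B : Subgroup P} (hA : Inv K A) (hB : Inv K B) : Inv K (A ⊔ B) := by
  intro k hk x hx
  have h1 : A ⊔ B ≤ (A ⊔ B).comap (k : P ≃* P).toMonoidHom := by
    apply sup_le
    · intro a ha
      exact Subgroup.mem_sup_left (hA k hk a ha)
    · intro b hb
      exact Subgroup.mem_sup_right (hB k hk b hb)
  exact h1 hx

theorem Inv.closure {s : Set P} (hs : ∀ k ∈ K, ∀ x ∈ s, k x ∈ s) : Inv K (Subgroup.closure s) := by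
  intro k hk x hx
  have h1 : Subgroup.closure s ≤ (Subgroup.closure s).comap (k : P ≃* P).toMonoidHom := by
    rw [Subgroup.closure_le]
    intro a ha
    exact Subgroup.subset_closure (hs k hk a ha)
  exact h1 hx

theorem inv_Om (K : Subgroup (MulAut P)) : Inv K (Om P) := fun k _ x hx => map_Om k hx

theorem inv_top (K : Subgroup (MulAut P)) : Inv K (⊤ : Subgroup P) := fun _ _ _ _ => Subgroup.mem_top _

/-- fixed-point-free automorphisms: `x ↦ x⁻¹ k(x)` is injective -/
theorem fpf_inj (h : SD P K) {k : MulAut P} (hk : k ∈ K) (hk1 : k ≠ 1) {a b : P}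
    (hab : a⁻¹ * k a = b⁻¹ * k b) : a = b := by
  by_contra hne
  have h1 : k (b * a⁻¹) = b * a⁻¹ := by
    rw [map_mul, map_inv]
    have e1 : k a = a * (b⁻¹ * k b) := by rw [← hab]; group
    rw [e1]
    group
  have h2 : b * a⁻¹ ≠ 1 := by
    intro h3
    apply hne
    have := mul_inv_eq_one.mp h3
    exact this.symm
  exact hk1 (h.semi_gen hk h2 h1)

/-- the key coset lemma: an invariant coset of an invariant subgroup is trivial -/
theorem mem_of_inv_mul_map_mem (h : SD P K) {k : MulAut P} (hk : k ∈ K) (hk1 : k ≠ 1)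
    (B : Subgroup P) (hB : ∀ x ∈ B, k x ∈ B) {a : P} (ha : a⁻¹ * k a ∈ B) : a ∈ B := by
  haveI := h.fin
  let ψ : B → B := fun b => ⟨(b : P)⁻¹ * k b, B.mul_mem (B.inv_mem b.2) (hB b b.2)⟩
  have hinj : Function.Injective ψ := by
    intro b b' hbb
    have h1 : (b : P)⁻¹ * k b = (b' : P)⁻¹ * k b' := congrArg Subtype.val hbb
    exact Subtype.ext (fpf_inj h hk hk1 h1)
  have hsurj : Function.Surjective ψ := Finite.surjective_of_injective hinj
  obtain ⟨b, hb⟩ := hsurj ⟨a⁻¹ * k a, ha⟩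
  have h1 : (b : P)⁻¹ * k b = a⁻¹ * k a := congrArg Subtype.val hb
  have h2 : (b : P) = a := fpf_inj h hk hk1 h1
  rw [← h2]
  exact b.2

/-- a chosen element of `K` moving a fixed involution to `z` -/
theorem exists_base (h : SD P K) : ∃ z₀ : P, z₀ ≠ 1 ∧ z₀ * z₀ = 1 := by
  obtain ⟨x, y, _, hx1, hx2, _⟩ := h.two
  exact ⟨x, hx1, hx2⟩

/-- every nontrivial invariant section has order at least `|Om P|` -/
theorem card_mul_le (h : SD P K) {A B : Subgroup P} (hA : Inv K A) (hB : Inv K B) (hBA : B ≤ A)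
    (hne : ∃ a ∈ A, a ∉ B) : Nat.card B * Nat.card (Om P) ≤ Nat.card A := by
  classical
  haveI := h.fin
  obtain ⟨a, haA, haB⟩ := hne
  obtain ⟨z₀, hz₀1, hz₀2⟩ := exists_base h
  -- choose k_z
  have hex : ∀ z : Om P, (z : P) ≠ 1 → ∃ k ∈ K, k z₀ = (z : P) := by
    intro z hz
    exact h.trans z₀ z hz₀1 hz₀2 hz z.2.2
  let g : Om P → P := fun z => if hz : (z : P) = 1 then 1 else (Classical.choose (hex z hz)) a
  have hgA : ∀ z, g z ∈ A := by
    intro z
    show (if hz : (z : P) = 1 then (1 : P) else (Classical.choose (hex z hz)) a) ∈ A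
    split_ifs with hz
    · exact A.one_mem
    · exact hA _ (Classical.choose_spec (hex z hz)).1 a haA
  have hg : ∀ z z' : Om P, (g z')⁻¹ * g z ∈ B → z = z' := by
    intro z z' hzz
    by_cases hz : (z : P) = 1
    · by_cases hz' : (z' : P) = 1
      · exact Subtype.ext (hz.trans hz'.symm)
      · exfalso
        have e1 : g z = 1 := by show (if hz : (z : P) = 1 then (1 : P) else _) = 1; rw [dif_pos hz]
        have e2 : g z' = (Classical.choose (hex z' hz')) a := by
          show (if hz : (z' : P) = 1 then (1 : P) else _) = _; rw [dif_neg hz']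
        rw [e1, e2, mul_one] at hzz
        have h3 := B.inv_mem hzz
        rw [inv_inv] at h3
        exact haB ((hB.mem_iff (Classical.choose_spec (hex z' hz')).1).mp h3)
    · by_cases hz' : (z' : P) = 1
      · exfalso
        have e1 : g z' = 1 := by show (if hz : (z' : P) = 1 then (1 : P) else _) = 1; rw [dif_pos hz']
        have e2 : g z = (Classical.choose (hex z hz)) a := by
          show (if hz : (z : P) = 1 then (1 : P) else _) = _; rw [dif_neg hz]
        rw [e1, e2, inv_one, one_mul] at hzz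
        exact haB ((hB.mem_iff (Classical.choose_spec (hex z hz)).1).mp hzz)
      · have e1 : g z = (Classical.choose (hex z hz)) a := by
          show (if hz : (z : P) = 1 then (1 : P) else _) = _; rw [dif_neg hz]
        have e2 : g z' = (Classical.choose (hex z' hz')) a := by
          show (if hz : (z' : P) = 1 then (1 : P) else _) = _; rw [dif_neg hz']
        obtain ⟨hk, hkz⟩ := Classical.choose_spec (hex z hz)
        obtain ⟨hk', hkz'⟩ := Classical.choose_spec (hex z' hz')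
        set k := Classical.choose (hex z hz) with hkdef
        set k' := Classical.choose (hex z' hz') with hk'def
        rw [e1, e2] at hzz
        -- apply k'⁻¹
        have h3 : k'⁻¹ ((k' a)⁻¹ * k a) ∈ B := hB.inv_mem hk' hzz
        rw [map_mul, map_inv, MulAut.inv_apply_self] at h3
        have h4 : k'⁻¹ (k a) = (k'⁻¹ * k) a := rfl
        rw [h4] at h3
        by_cases hkk : k'⁻¹ * k = 1
        · have h5 : k = k' := by
            have := inv_mul_eq_one.mp hkk
            exact this.symm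
          apply Subtype.ext
          rw [← hkz, ← hkz', h5]
        · exfalso
          apply haB
          exact mem_of_inv_mul_map_mem h (K.mul_mem (K.inv_mem hk') hk) hkk B
            (fun x hx => hB _ (K.mul_mem (K.inv_mem hk') hk) x hx) h3
  let f : Om P × B → A := fun p => ⟨g p.1 * p.2, A.mul_mem (hgA p.1) (hBA p.2.2)⟩
  have hf : Function.Injective f := by
    rintro ⟨z, b⟩ ⟨z', b'⟩ hzb
    have h1 : g z * b = g z' * b' := congrArg Subtype.val hzb
    have h2 : (g z')⁻¹ * g z = b' * (b : P)⁻¹ := by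
      have : g z = g z' * b' * (b : P)⁻¹ := by rw [← h1]; group
      rw [this]; group
    have h3 : z = z' := hg z z' (by rw [h2]; exact B.mul_mem b'.2 (B.inv_mem b.2))
    subst h3
    have h4 : (b : P) = b' := mul_left_cancel h1
    exact Prod.ext rfl (Subtype.ext h4)
  have := Nat.card_le_card_of_injective f hf
  rw [Nat.card_prod] at this
  rw [mul_comm]
  exact this

/-- restriction of an automorphism to an invariant subgroup -/
def resAut (H : Subgroup P) (k : MulAut P) (h1 : ∀ x ∈ H, k x ∈ H) (h2 : ∀ x ∈ H, k⁻¹ x ∈ H) :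
    MulAut H where
  toFun x := ⟨k x, h1 x x.2⟩
  invFun x := ⟨k⁻¹ x, h2 x x.2⟩
  left_inv x := Subtype.ext (MulAut.inv_apply_self P k x)
  right_inv x := Subtype.ext (MulAut.apply_inv_self P k x)
  map_mul' x y := Subtype.ext (map_mul k (x : P) (y : P))

theorem resAut_coe (H : Subgroup P) (k : MulAut P) (h1 : ∀ x ∈ H, k x ∈ H)
    (h2 : ∀ x ∈ H, k⁻¹ x ∈ H) (x : H) : ((resAut H k h1 h2 x : H) : P) = k x := rfl

/-- the group of restricted automorphisms -/
def resK (K : Subgroup (MulAut P)) (H : Subgroup P) : Subgroup (MulAut H) where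
  carrier := {f | ∃ k ∈ K, ∀ x : H, ((f x : H) : P) = k x}
  mul_mem' := by
    rintro f f' ⟨k, hk, hf⟩ ⟨k', hk', hf'⟩
    refine ⟨k * k', K.mul_mem hk hk', fun x => ?_⟩
    rw [MulAut.mul_apply, hf, hf', MulAut.mul_apply]
  one_mem' := ⟨1, K.one_mem, fun x => rfl⟩
  inv_mem' := by
    rintro f ⟨k, hk, hf⟩
    refine ⟨k⁻¹, K.inv_mem hk, fun x => ?_⟩
    have h1 := hf (f⁻¹ x)
    rw [MulAut.apply_inv_self] at h1
    rw [h1, MulAut.inv_apply_self]

theorem sd_sub (h : SD P K) {H : Subgroup P} (hH : Inv K H) (hOm : Om P ≤ H) :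
    SD H (resK K H) := by
  haveI := h.fin
  refine ⟨inferInstance, h.pg.to_subgroup H, ?_, ?_, ?_, ?_⟩
  · rintro f ⟨k, hk, hf⟩ f' ⟨k', hk', hf'⟩
    apply MulEquiv.ext
    intro x
    apply Subtype.ext
    rw [MulAut.mul_apply, MulAut.mul_apply, hf, hf', hf', hf]
    have := h.comm k hk k' hk'
    calc k (k' x) = (k * k') x := rfl
      _ = (k' * k) x := by rw [this]
      _ = k' (k x) := rfl
  · obtain ⟨x, y, hxy, hx1, hx2, hy1, hy2⟩ := h.two
    have hxO : x ∈ Om P := h.mem_Om_iff.mpr hx2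
    have hyO : y ∈ Om P := h.mem_Om_iff.mpr hy2
    refine ⟨⟨x, hOm hxO⟩, ⟨y, hOm hyO⟩, ?_, ?_, ?_, ?_, ?_⟩
    · intro he; exact hxy (congrArg Subtype.val he)
    · intro he; exact hx1 (congrArg Subtype.val he)
    · exact Subtype.ext hx2
    · intro he; exact hy1 (congrArg Subtype.val he)
    · exact Subtype.ext hy2
  · intro x y hx1 hx2 hy1 hy2
    have hx1' : (x : P) ≠ 1 := fun he => hx1 (Subtype.ext he)
    have hy1' : (y : P) ≠ 1 := fun he => hy1 (Subtype.ext he)
    have hx2' : (x : P) * x = 1 := congrArg Subtype.val hx2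
    have hy2' : (y : P) * y = 1 := congrArg Subtype.val hy2
    obtain ⟨k, hk, hkx⟩ := h.trans x y hx1' hx2' hy1' hy2'
    refine ⟨resAut H k (hH k hk) (fun z hz => hH.inv_mem hk hz), ⟨k, hk, fun z => rfl⟩, ?_⟩
    exact Subtype.ext hkx
  · rintro f ⟨k, hk, hf⟩ x hx1 hx2 hfx
    have hx1' : (x : P) ≠ 1 := fun he => hx1 (Subtype.ext he)
    have hx2' : (x : P) * x = 1 := congrArg Subtype.val hx2
    have h1 : k x = x := by rw [← hf, hfx]
    have h2 : k = 1 := h.semi k hk x hx1' hx2' h1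
    apply MulEquiv.ext
    intro y
    apply Subtype.ext
    rw [hf, h2]
    rfl

/-- the centre of a nonabelian invariant subgroup is `Om P` -/
theorem sq_eq_one_of_central (h : SD P K) {H : Subgroup P} (hH : Inv K H) (hOm : Om P ≤ H)
    (hna : ∃ x ∈ H, ∃ y ∈ H, x * y ≠ y * x) {a : P} (haH : a ∈ H)
    (hac : ∀ x ∈ H, a * x = x * a) : a * a = 1 := by
  by_contra hne
  obtain ⟨x, hx, y, hy, hxy⟩ := hna
  have hsd := sd_sub h hH hOm
  have hcen : (⟨a, haH⟩ : H) ∈ Subgroup.center H := by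
    rw [Subgroup.mem_center_iff]
    intro g
    apply Subtype.ext
    exact (hac g g.2).symm
  have hne' : (⟨a, haH⟩ : H) * ⟨a, haH⟩ ≠ 1 := fun he => hne (congrArg Subtype.val he)
  have := main hsd ⟨⟨a, haH⟩, hcen, hne'⟩ ⟨x, hx⟩ ⟨y, hy⟩
  exact hxy (congrArg Subtype.val this)

theorem mem_Om_of_central (h : SD P K) {H : Subgroup P} (hH : Inv K H) (hOm : Om P ≤ H)
    (hna : ∃ x ∈ H, ∃ y ∈ H, x * y ≠ y * x) {a : P} (haH : a ∈ H)
    (hac : ∀ x ∈ H, a * x = x * a) : a ∈ Om P :=
  h.mem_Om_iff.mpr (sq_eq_one_of_central h hH hOm hna haH hac)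

/-- an invariant subgroup containing a nontrivial element contains `Om P` -/
theorem Om_le_of_inv (h : SD P K) {H : Subgroup P} (hH : Inv K H) (hne : ∃ x ∈ H, x ≠ 1) :
    Om P ≤ H := by
  classical
  obtain ⟨x, hxH, hx1⟩ := hne
  -- a power of x is an involution
  have hex : ∃ j, x ^ (2 ^ j) = 1 := h.pg x
  obtain ⟨j, hj, hmin⟩ : ∃ j, x ^ (2 ^ j) = 1 ∧ ∀ m < j, x ^ (2 ^ m) ≠ 1 :=
    ⟨Nat.find hex, Nat.find_spec hex, fun m hm => Nat.find_min hex hm⟩
  cases j with
  | zero =>
    rw [pow_zero, pow_one] at hj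
    exact absurd hj hx1
  | succ i =>
    have hw1 : x ^ (2 ^ i) ≠ 1 := hmin i (Nat.lt_succ_self i)
    have hw2 : x ^ (2 ^ i) * x ^ (2 ^ i) = 1 := by
      rw [← pow_add]
      have h2 : 2 ^ i + 2 ^ i = 2 ^ (i + 1) := by ring
      rw [h2]
      exact hj
    have hwH : x ^ (2 ^ i) ∈ H := H.pow_mem hxH _
    have h3 : Om P ≤ H ⊓ Om P := by
      apply h.Om_le (H ⊓ Om P) ⟨_, ⟨hwH, h.mem_Om_iff.mpr hw2⟩, hw1⟩ inf_le_right
      intro k hk y hy
      exact ⟨hH k hk y hy.1, map_Om k hy.2⟩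
    exact h3.trans inf_le_left

end Cfsg.Agent.Lib.Helper1.Hg
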