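import Mathlib
import Cfsg.Agent.Lib.Helper1.Hg1
import Cfsg.Agent.Lib.Helper2.QuadCW

set_option autoImplicit false
set_option maxHeartbeats 4000000
set_option linter.unusedVariables false
set_option linter.unusedSectionVars false
set_option linter.style.longLine false

/-!
# Higman: the subgroup `Yof H`, squares centralize it, Chevalley–Warning bound
-/

namespace Cfsg.Agent.Lib.Helper1.Hg

open Cfsg.Agent.Lib.Lead.Sz2D

universe u

variable {P : Type u} [Group P] {K : Subgroup (MulAut P)}

theorem Om_comm {z : P} (hz : z ∈ Om P) (g : P) : z * g = g * z :=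
  (Subgroup.mem_center_iff.mp hz.1 g).symm

theorem cm_mul_left' {x x' y : P} (hc : cm x y * x' = x' * cm x y) :
    cm (x * x') y = cm x y * cm x' y := by
  have e1 := mul_eq_cm (x * x') y
  have e2 : x * x' * y = y * (x * x') * (cm x y * cm x' y) := by
    calc x * x' * y = x * (x' * y) := by group
      _ = x * (y * x' * cm x' y) := by rw [← mul_eq_cm x' y]
      _ = (x * y) * x' * cm x' y := by group
      _ = (y * x * cm x y) * x' * cm x' y := by rw [← mul_eq_cm x y]
      _ = y * x * (cm x y * x') * cm x' y := by group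
      _ = y * x * (x' * cm x y) * cm x' y := by rw [hc]
      _ = y * (x * x') * (cm x y * cm x' y) := by group
  exact mul_left_cancel (e1.symm.trans e2)

theorem cm_mul_right' {x y y' : P} (hc : cm x y * y' = y' * cm x y) :
    cm x (y * y') = cm x y' * cm x y := by
  have e1 := mul_eq_cm x (y * y')
  have e2 : x * (y * y') = y * y' * x * (cm x y' * cm x y) := by
    calc x * (y * y') = (x * y) * y' := by group
      _ = (y * x * cm x y) * y' := by rw [← mul_eq_cm x y]
      _ = y * x * (cm x y * y') := by group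
      _ = y * x * (y' * cm x y) := by rw [hc]
      _ = y * (x * y') * cm x y := by group
      _ = y * (y' * x * cm x y') * cm x y := by rw [← mul_eq_cm x y']
      _ = y * y' * x * (cm x y' * cm x y) := by group
  exact mul_left_cancel (e1.symm.trans e2)

theorem cm_one_left (y : P) : cm 1 y = 1 := by unfold cm; group

theorem cm_one_right (x : P) : cm x 1 = 1 := by unfold cm; group

theorem cm_inv_left' {x y : P} (hc : cm x y * x⁻¹ = x⁻¹ * cm x y) :
    cm x⁻¹ y = (cm x y)⁻¹ := by
  have h1 := cm_mul_left' (x := x) (x' := x⁻¹) (y := y) hc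
  rw [mul_inv_cancel, cm_one_left] at h1
  exact (inv_eq_of_mul_eq_one_right h1.symm).symm

theorem cm_eq_one_iff {x y : P} : cm x y = 1 ↔ x * y = y * x := by
  constructor
  · intro h
    have := mul_eq_cm x y
    rw [h, mul_one] at this
    exact this
  · intro h
    unfold cm
    rw [h, inv_mul_cancel]

/-- `(x * m)² = x² * (m² * cm m x)` when `cm m x` is central -/
theorem mul_sq_eq {x m : P} (hc : ∀ g : P, cm m x * g = g * cm m x) :
    (x * m) * (x * m) = (x * x) * ((m * m) * cm m x) := by
  have e := mul_eq_cm m x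
  calc (x * m) * (x * m) = x * (m * x) * m := by group
    _ = x * (x * m * cm m x) * m := by rw [← e]
    _ = x * x * m * (cm m x * m) := by group
    _ = x * x * m * (m * cm m x) := by rw [hc m]
    _ = (x * x) * ((m * m) * cm m x) := by group

/-- the preimage in `H` of `Ω₁(Z(H/Om))` -/
def Yof (H : Subgroup P) : Subgroup P where
  carrier := {y | y ∈ H ∧ y * y ∈ Om P ∧ ∀ g ∈ H, cm y g ∈ Om P}
  one_mem' := ⟨H.one_mem, by rw [one_mul]; exact (Om P).one_mem,
    fun g _ => by rw [cm_one_left]; exact (Om P).one_mem⟩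
  mul_mem' := by
    rintro y y' ⟨hy, hy2, hyc⟩ ⟨hy', hy'2, hy'c⟩
    refine ⟨H.mul_mem hy hy', ?_, ?_⟩
    · have h1 : (y * y') * (y * y') = (y * y) * ((y' * y') * cm y' y) :=
        mul_sq_eq (fun g => Om_comm (hy'c y hy) g)
      rw [h1]
      exact (Om P).mul_mem hy2 ((Om P).mul_mem hy'2 (hy'c y hy))
    · intro g hg
      rw [cm_mul_left' (Om_comm (hyc g hg) y')]
      exact (Om P).mul_mem (hyc g hg) (hy'c g hg)
  inv_mem' := by
    rintro y ⟨hy, hy2, hyc⟩
    refine ⟨H.inv_mem hy, ?_, ?_⟩
    · have : y⁻¹ * y⁻¹ = (y * y)⁻¹ := by group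
      rw [this]
      exact (Om P).inv_mem hy2
    · intro g hg
      rw [cm_inv_left' (Om_comm (hyc g hg) y⁻¹)]
      exact (Om P).inv_mem (hyc g hg)

theorem mem_Yof {H : Subgroup P} {y : P} :
    y ∈ Yof H ↔ y ∈ H ∧ y * y ∈ Om P ∧ ∀ g ∈ H, cm y g ∈ Om P := Iff.rfl

theorem Yof_le (H : Subgroup P) : Yof H ≤ H := fun _ hy => hy.1

theorem Om_le_Yof {H : Subgroup P} (hOm : Om P ≤ H) : Om P ≤ Yof H := by
  intro z hz
  refine ⟨hOm hz, ?_, ?_⟩
  · rw [hz.2]; exact (Om P).one_mem
  · intro g _
    rw [cm_central_left hz.1]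
    exact (Om P).one_mem

theorem inv_Yof {H : Subgroup P} (hH : Inv K H) : Inv K (Yof H) := by
  rintro k hk y ⟨hy, hy2, hyc⟩
  refine ⟨hH k hk y hy, ?_, ?_⟩
  · rw [← map_mul]
    exact map_Om k hy2
  · intro g hg
    have h1 : g = k (k⁻¹ g) := (MulAut.apply_inv_self P k g).symm
    rw [h1, ← map_cm]
    exact map_Om k (hyc _ (hH.inv_mem hk hg))

/-- the subgroup `Yof H` is normalized by `H` -/
theorem conj_mem_Yof {H : Subgroup P} (hOm : Om P ≤ H) {y g : P} (hy : y ∈ Yof H) (hg : g ∈ H) :
    g⁻¹ * y * g ∈ Yof H := by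
  have h1 : g⁻¹ * y * g = y * cm y g := by unfold cm; group
  rw [h1]
  exact (Yof H).mul_mem hy (Om_le_Yof hOm (hy.2.2 g hg))

/-- Step 1: every square of `H` centralizes `Yof H` -/
theorem sq_comm_Yof {H : Subgroup P} {x m : P} (hx : x ∈ H) (hm : m ∈ Yof H) :
    (x * x) * m = m * (x * x) := by
  have hc : ∀ g : P, cm m x * g = g * cm m x := fun g => Om_comm (hm.2.2 x hx) g
  have h1 := mul_sq_eq (x := x) (m := m) hc
  set z := (m * m) * cm m x with hz
  have hzO : z ∈ Om P := (Om P).mul_mem hm.2.1 (hm.2.2 x hx)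
  -- (x m) commutes with its square
  have h2 : (x * m) * ((x * m) * (x * m)) = ((x * m) * (x * m)) * (x * m) := by group
  rw [h1] at h2
  have h3 : (x * m) * (x * x) * z = (x * x) * (x * m) * z := by
    calc (x * m) * (x * x) * z = (x * m) * ((x * x) * z) := by group
      _ = ((x * x) * z) * (x * m) := h2
      _ = (x * x) * (z * (x * m)) := by group
      _ = (x * x) * ((x * m) * z) := by rw [Om_comm hzO]
      _ = (x * x) * (x * m) * z := by group
  have h4 : (x * m) * (x * x) = (x * x) * (x * m) := mul_right_cancel h3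
  have h5 : x * (m * (x * x)) = x * ((x * x) * m) := by
    calc x * (m * (x * x)) = (x * m) * (x * x) := by group
      _ = (x * x) * (x * m) := h4
      _ = x * ((x * x) * m) := by group
  exact (mul_left_cancel h5).symm

/-- Chevalley–Warning bound: if all squares of `H` lie in `Om P` then `|H| ≤ |Om P|³` -/
theorem card_le_cube (h : SD P K) {H : Subgroup P} (hOm : Om P ≤ H)
    (hsq : ∀ x ∈ H, x * x ∈ Om P) : Nat.card H ≤ Nat.card (Om P) ^ 3 := by
  haveI := h.fin
  set T : Subgroup H := (Om P).subgroupOf H with hT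
  have hTc : T ≤ Subgroup.center H := by
    intro t ht
    rw [Subgroup.mem_center_iff]
    intro g
    apply Subtype.ext
    have : (t : P) ∈ Om P := ht
    exact (Om_comm this (g : P)).symm
  have hT2 : ∀ t ∈ T, t ^ 2 = 1 := by
    intro t ht
    have : (t : P) ∈ Om P := ht
    apply Subtype.ext
    rw [pow_two]
    exact this.2
  have hsq' : ∀ g : H, g ^ 2 ∈ T := by
    intro g
    show ((g ^ 2 : H) : P) ∈ Om P
    rw [pow_two]
    exact hsq g g.2
  have hN : ∀ x : H, x ^ 2 = 1 → x ∈ T := by
    intro x hx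
    show (x : P) ∈ Om P
    apply h.mem_Om_iff.mpr
    have := congrArg Subtype.val hx
    rw [pow_two] at this
    exact this
  have h1 := Cfsg.Agent.Lib.Helper2.index_le_card_sq_of_central_sq T hTc hT2 hsq' T hN
  have h2 : Nat.card T = Nat.card (Om P) :=
    Nat.card_congr (Subgroup.subgroupOfEquivOfLe hOm).toEquiv
  have h3 : Nat.card T * T.index = Nat.card H := T.card_mul_index
  rw [h2] at h1 h3
  rw [← h3]
  calc Nat.card (Om P) * T.index ≤ Nat.card (Om P) * Nat.card (Om P) ^ 2 :=
        Nat.mul_le_mul_left _ h1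
    _ = Nat.card (Om P) ^ 3 := by ring

end Cfsg.Agent.Lib.Helper1.Hg
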