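import Mathlib
import Cfsg.Agent.Lib.Lead.Sz2B

set_option autoImplicit false
set_option maxHeartbeats 4000000
set_option linter.unusedVariables false
set_option linter.unusedSectionVars false
set_option linter.style.longLine false

/-!
# Field lemmas for Higman's theorem

Expansions of additive maps of a finite field of characteristic two in terms of automorphisms,
uniqueness of products of two automorphisms, and three special lemmas used in the proof that a
Suzuki 2-group has class two.
-/

namespace Cfsg.Agent.Lib.Helper1.Hg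

open Cfsg.Agent.Lib.Lead.Sz2B

section field

variable {F : Type*} [Field F] [Fintype F] [CharP F 2] [Fintype (F ≃+* F)]

theorem expand (f : F →+ F) : ∃ c : (F ≃+* F) → F, ∀ x, f x = ∑ σ, c σ * σ x := by
  classical
  obtain ⟨s, c, hc⟩ := (Cfsg.Agent.S1140.result (F := F)).2.1 f
  refine ⟨fun σ => if σ ∈ s then c σ else 0, fun x => ?_⟩
  rw [hc x]
  have e1 : ∑ σ ∈ s, c σ * σ x = ∑ σ ∈ s, (if σ ∈ s then c σ else 0) * σ x :=
    Finset.sum_congr rfl (fun σ hσ => by rw [if_pos hσ])
  rw [e1]
  exact Finset.sum_subset (Finset.subset_univ s) (fun σ _ hσ => by rw [if_neg hσ, zero_mul])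

theorem li1u (c : (F ≃+* F) → F) (h : ∀ x : F, ∑ σ, c σ * σ x = 0) (σ : F ≃+* F) : c σ = 0 :=
  li1 Finset.univ c h σ (Finset.mem_univ _)

theorem li2u (d : (F ≃+* F) × (F ≃+* F) → F)
    (h : ∀ x y : F, ∑ p, d p * (p.1 x * p.2 y) = 0) (p : (F ≃+* F) × (F ≃+* F)) : d p = 0 :=
  li2 Finset.univ d h p (Finset.mem_univ _)

theorem coef_unique (c c' : (F ≃+* F) → F)
    (h : ∀ x : F, ∑ σ, c σ * σ x = ∑ σ, c' σ * σ x) (σ : F ≃+* F) : c σ = c' σ := by
  have h1 : ∀ x : F, ∑ σ, (c σ - c' σ) * σ x = 0 := by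
    intro x
    simp only [sub_mul, Finset.sum_sub_distrib, h x, sub_self]
  exact sub_eq_zero.mp (li1u (fun σ => c σ - c' σ) h1 σ)

/-- products of two automorphisms determine the unordered pair -/
theorem prod_two_unique (A B C D : F ≃+* F) (h : ∀ l : F, A l * B l = C l * D l) :
    (A = C ∧ B = D) ∨ (A = D ∧ B = C) := by
  classical
  have hpol : ∀ x y : F, A x * B y + B x * A y + C x * D y + D x * C y = 0 := by
    intro x y
    have h1 := h (x + y)
    have h2 := h x
    have h3 := h y
    simp only [map_add] at h1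
    have h2' : (2 : F) = 0 := CharTwo.two_eq_zero
    linear_combination h1 - h2 - h3 + (C x * D y + D x * C y) * h2'
  obtain ⟨d, hddef⟩ : ∃ d : (F ≃+* F) × (F ≃+* F) → F, ∀ p, d p =
      (if p = (A, B) then 1 else 0) + (if p = (B, A) then 1 else 0) +
      (if p = (C, D) then 1 else 0) + (if p = (D, C) then 1 else 0) := ⟨_, fun _ => rfl⟩
  have hd : ∀ x y : F, ∑ p, d p * (p.1 x * p.2 y) = 0 := by
    intro x y
    simp only [hddef, add_mul, Finset.sum_add_distrib, ite_mul, one_mul, zero_mul,
      Finset.sum_ite_eq', Finset.mem_univ, if_true]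
    exact hpol x y
  by_cases hAB : A = B
  · subst hAB
    by_cases hCD : C = D
    · subst hCD
      left
      have : A = C := by
        apply RingEquiv.ext
        intro l
        exact mul_self_inj_two (h l)
      exact ⟨this, this⟩
    · exfalso
      have e1 : ¬ ((C, D) = (A, A)) := by
        intro e; rw [Prod.mk.injEq] at e; exact hCD (e.1.trans e.2.symm)
      have e2 : ¬ ((C, D) = (D, C)) := by
        intro e; rw [Prod.mk.injEq] at e; exact hCD e.1
      have h1 : d (C, D) = 0 := li2u d hd (C, D)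
      have h2 : d (C, D) = 1 := by
        rw [hddef, if_neg e1, if_pos rfl, if_neg e2]; ring
      rw [h2] at h1
      exact one_ne_zero h1
  · by_contra hcon
    rw [not_or] at hcon
    have e1 : ¬ ((A, B) = (B, A)) := by
      intro e; rw [Prod.mk.injEq] at e; exact hAB e.1
    have e2 : ¬ ((A, B) = (C, D)) := by
      intro e; rw [Prod.mk.injEq] at e; exact hcon.1 e
    have e3 : ¬ ((A, B) = (D, C)) := by
      intro e; rw [Prod.mk.injEq] at e; exact hcon.2 e
    have h1 : d (A, B) = 0 := li2u d hd (A, B)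
    have h2 : d (A, B) = 1 := by
      rw [hddef, if_pos rfl, if_neg e1, if_neg e2, if_neg e3]; ring
    rw [h2] at h1
    exact one_ne_zero h1

/-- Lemma B: an additive map which is semilinear for two different characters vanishes -/
theorem coef_vanish (ρ₀ ρ : F ≃+* F) (hρ₀ : ρ₀ ≠ 1) (hρ : ρ ≠ ρ₀) (c : F →+ F)
    (hc : ∀ l u : F, l ≠ 0 → c (l / ρ₀ l * u) = l / ρ l * c u) : ∀ u, c u = 0 := by
  obtain ⟨a, ha⟩ := expand c
  have hzero : ∀ α, a α = 0 := by
    intro α
    by_contra hne
    have hid : ∀ l : F, α l * ρ l = (1 : F ≃+* F) l * (ρ₀.trans α) l := by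
      intro l
      by_cases hl : l = 0
      · subst hl
        rw [map_zero, zero_mul, map_zero, zero_mul]
      · have h1 : ∀ u : F, ∑ β, (a β * (β (l / ρ₀ l) - l / ρ l)) * β u = 0 := by
          intro u
          have h0 := hc l u hl
          rw [ha, ha, Finset.mul_sum] at h0
          rw [← sub_eq_zero, ← Finset.sum_sub_distrib] at h0
          rw [← h0]
          apply Finset.sum_congr rfl
          intro β _
          rw [map_mul]; ring
        have h2 := li1u _ h1 α
        rcases mul_eq_zero.mp h2 with h3 | h3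
        · exact absurd h3 hne
        · have h4 : α (l / ρ₀ l) = l / ρ l := sub_eq_zero.mp h3
          rw [map_div₀] at h4
          have hρl : ρ l ≠ 0 := (map_ne_zero ρ).mpr hl
          have hρ₀l : ρ₀ l ≠ 0 := (map_ne_zero ρ₀).mpr hl
          have hαρ₀l : α (ρ₀ l) ≠ 0 := (map_ne_zero α).mpr hρ₀l
          rw [RingAut.one_apply, RingEquiv.trans_apply]
          rw [div_eq_div_iff hαρ₀l hρl] at h4
          exact h4
    rcases prod_two_unique α ρ 1 (ρ₀.trans α) hid with ⟨h1, h2⟩ | ⟨h1, h2⟩
    · apply hρ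
      rw [h2, h1]
      apply RingEquiv.ext
      intro l
      rw [RingEquiv.trans_apply, RingAut.one_apply]
    · apply hρ₀
      apply RingEquiv.ext
      intro l
      have h3 := congrArg (fun σ : F ≃+* F => σ l) h1
      simp only [RingEquiv.trans_apply] at h3
      rw [RingAut.one_apply]
      exact (α.injective h3).symm
  intro u
  rw [ha]
  apply Finset.sum_eq_zero
  intro β _
  rw [hzero, zero_mul]

/-- Lemma E1 -/
theorem phi_form (ρ₀ : F ≃+* F) (φ : F →+ F) (h : ∀ u, u * ρ₀ (φ u) = φ u) :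
    ∀ u, ρ₀ (φ u) = u * ρ₀ (φ 1) := by
  intro u
  have h1 := h (u + 1)
  have h2 := h u
  have h3 := h 1
  rw [map_add, map_add] at h1
  have h4 : u * ρ₀ (φ 1) + ρ₀ (φ u) = 0 := by linear_combination h1 - h2 - h3
  exact (CharTwo.add_eq_zero.mp h4).symm

theorem phi_frob (ρ₀ : F ≃+* F) (φ : F →+ F) (h : ∀ u, u * ρ₀ (φ u) = φ u) (hc : φ 1 ≠ 0) :
    (∀ u, ρ₀ (u * u) = u) ∧ ∀ u, φ u = φ 1 * (u * u) := by
  have hf := phi_form ρ₀ φ h
  have h1 : ρ₀ (φ 1) = φ 1 := by
    have := h 1
    rwa [one_mul] at this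
  have h2 : ∀ u, φ u = φ 1 * (u * u) := by
    intro u
    rw [← h u, hf u, h1]; ring
  refine ⟨?_, h2⟩
  intro u
  have h3 := hf u
  rw [h2 u, map_mul, h1] at h3
  have h4 : φ 1 * ρ₀ (u * u) = φ 1 * u := by rw [h3]; ring
  exact mul_left_cancel₀ hc h4

/-- the Frobenius automorphism -/
noncomputable def frobE (F : Type*) [Field F] [Fintype F] [CharP F 2] : F ≃+* F :=
  RingEquiv.ofBijective
    ({ toFun := fun x => x * x
       map_one' := by simp
       map_mul' := fun x y => by ring
       map_zero' := by simp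
       map_add' := fun x y => by
        have h2 : (2 : F) = 0 := CharTwo.two_eq_zero
        linear_combination (x * y) * h2 } : F →+* F)
    (by
      have hinj : Function.Injective (fun x : F => x * x) := fun a b hab => mul_self_inj_two hab
      exact ⟨hinj, Finite.surjective_of_injective hinj⟩)

theorem frobE_apply (x : F) : frobE F x = x * x := rfl

theorem frobE_ne_one (hF : ∃ a : F, a * a ≠ a) : frobE F ≠ 1 := by
  intro h
  obtain ⟨a, ha⟩ := hF
  apply ha
  have := congrArg (fun σ : F ≃+* F => σ a) h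
  simpa [frobE_apply] using this

/-- Lemma E2 -/
theorem final_contra (hF : ∃ a : F, a * a ≠ a) (c A : F) (hc : c ≠ 0) (cf : (F ≃+* F) → F)
    (hcf : cf 1 = 0)
    (h : ∀ u : F, u * A = c * (u * u) + ∑ ρ, cf ρ * ρ (c * (u * u))) : False := by
  classical
  obtain ⟨e, hedef⟩ : ∃ e : (F ≃+* F) → F, ∀ σ, e σ =
      (if σ = 1 then A else 0) + (if σ = frobE F then c else 0) +
      cf ((frobE F)⁻¹ * σ) * ((frobE F)⁻¹ * σ) c := ⟨_, fun _ => rfl⟩
  have hsum : ∀ u : F, ∑ σ, e σ * σ u = 0 := by
    intro u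
    have e3 : ∑ σ : F ≃+* F, cf ((frobE F)⁻¹ * σ) * ((frobE F)⁻¹ * σ) c * σ u =
        ∑ ρ, cf ρ * ρ (c * (u * u)) := by
      rw [← Equiv.sum_comp (Equiv.mulLeft (frobE F))]
      apply Finset.sum_congr rfl
      intro ρ _
      rw [Equiv.coe_mulLeft, inv_mul_cancel_left, RingAut.mul_apply, frobE_apply, map_mul, map_mul]
      ring
    simp only [hedef, add_mul, Finset.sum_add_distrib, ite_mul, zero_mul,
      Finset.sum_ite_eq', Finset.mem_univ, if_true]
    rw [e3, RingAut.one_apply, frobE_apply]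
    have h2 : (2 : F) = 0 := CharTwo.two_eq_zero
    linear_combination (-1 : F) * h u + (u * A) * h2
  have h1 := li1u e hsum (frobE F)
  rw [hedef, if_neg (frobE_ne_one hF), if_pos rfl, inv_mul_cancel, hcf, zero_mul, zero_add,
    add_zero] at h1
  exact hc h1

end field

end Cfsg.Agent.Lib.Helper1.Hg
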