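import Mathlib
import Cfsg.Agent.Lib.Helper1.Hg1
import Cfsg.Agent.Lib.Helper1.Hg2
import Cfsg.Agent.Lib.Helper7.PGroupAux

set_option autoImplicit false
set_option maxHeartbeats 4000000
set_option linter.unusedVariables false
set_option linter.unusedSectionVars false
set_option linter.style.longLine false

/-!
# Higman's theorem: group-theoretic preliminaries

`YY P` is the preimage of `Ω₁(Z(P / Z))` and `CC P` its centralizer.
-/

namespace Cfsg.Agent.Lib.Helper1.Hg

open Cfsg.Agent.Lib.Lead.Sz2D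

universe u

/-- a central element of order two modulo `N` inside a normal subgroup `W` -/
theorem exists_central_mod {G : Type u} [Group G] [Finite G] (hG : IsPGroup 2 G)
    (N W : Subgroup G) [N.Normal] [W.Normal] (hne : ∃ w ∈ W, w ∉ N) :
    ∃ w ∈ W, w ∉ N ∧ w * w ∈ N ∧ ∀ g : G, cm w g ∈ N := by
  classical
  haveI : Fact (Nat.Prime 2) := ⟨Nat.prime_two⟩
  obtain ⟨w₀, hw₀W, hw₀N⟩ := hne
  have hπs : Function.Surjective (QuotientGroup.mk' N) := QuotientGroup.mk'_surjective N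
  obtain ⟨W', hW'def⟩ : ∃ W' : Subgroup (G ⧸ N), W' = W.map (QuotientGroup.mk' N) := ⟨_, rfl⟩
  haveI : W'.Normal := by
    rw [hW'def]
    exact Subgroup.Normal.map inferInstance (QuotientGroup.mk' N) hπs
  have hQ : IsPGroup 2 (G ⧸ N) := hG.to_quotient N
  have hW'ne : W' ≠ ⊥ := by
    intro hbot
    have h1 : (QuotientGroup.mk' N) w₀ ∈ W' := by
      rw [hW'def]; exact Subgroup.mem_map_of_mem _ hw₀W
    rw [hbot, Subgroup.mem_bot] at h1
    exact hw₀N ((QuotientGroup.eq_one_iff w₀).mp h1)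
  obtain ⟨b, hbW, hb1, hbc⟩ :=
    Cfsg.Agent.Lib.Helper7.exists_mem_center_of_normal_ne_bot hQ W' hW'ne
  have hzp : IsPGroup 2 (Subgroup.zpowers b) := hQ.to_subgroup _
  obtain ⟨z, hz, hzo⟩ := Cfsg.Agent.Lib.Helper7.exists_orderOf_eq_prime_mem_zpowers hzp hb1
  have hzW : z ∈ W' := (Subgroup.zpowers_le.mpr hbW) hz
  have hzc : z ∈ Subgroup.center (G ⧸ N) := (Subgroup.zpowers_le.mpr hbc) hz
  rw [hW'def] at hzW
  obtain ⟨w, hwW, hwz⟩ := Subgroup.mem_map.mp hzW
  refine ⟨w, hwW, ?_, ?_, ?_⟩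
  · intro hwN
    have h1 : z = 1 := by rw [← hwz]; exact (QuotientGroup.eq_one_iff w).mpr hwN
    rw [h1, orderOf_one] at hzo
    norm_num at hzo
  · have h1 : z * z = 1 := by rw [← pow_two, ← hzo]; exact pow_orderOf_eq_one z
    rw [← hwz, ← map_mul] at h1
    exact (QuotientGroup.eq_one_iff (w * w)).mp h1
  · intro g
    apply (QuotientGroup.eq_one_iff _).mp
    show (QuotientGroup.mk' N) (cm w g) = 1
    unfold cm
    rw [map_mul, map_inv, map_mul, map_mul, hwz]
    rw [Subgroup.mem_center_iff] at hzc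
    rw [hzc ((QuotientGroup.mk' N) g), inv_mul_cancel]

variable {P : Type u} [Group P] {K : Subgroup (MulAut P)}

/-- the preimage of `Ω₁(Z(P/Z))` -/
abbrev YY (P : Type u) [Group P] : Subgroup P := Yof (⊤ : Subgroup P)

theorem mem_YY {y : P} : y ∈ YY P ↔ y * y ∈ Om P ∧ ∀ g, cm y g ∈ Om P := by
  rw [mem_Yof]
  constructor
  · rintro ⟨_, h2, h3⟩
    exact ⟨h2, fun g => h3 g (Subgroup.mem_top g)⟩
  · rintro ⟨h2, h3⟩
    exact ⟨Subgroup.mem_top y, h2, fun g _ => h3 g⟩

theorem inv_YY (K : Subgroup (MulAut P)) : Inv K (YY P) := inv_Yof (inv_top K)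

theorem Om_le_YY : Om P ≤ YY P := Om_le_Yof le_top

theorem conj_mem_YY {y : P} (hy : y ∈ YY P) (g : P) : g⁻¹ * y * g ∈ YY P :=
  conj_mem_Yof le_top hy (Subgroup.mem_top g)

/-- the centralizer of `YY P` -/
def CC (P : Type u) [Group P] : Subgroup P := Subgroup.centralizer ((YY P : Subgroup P) : Set P)

theorem mem_CC {c : P} : c ∈ CC P ↔ ∀ y ∈ YY P, y * c = c * y := Subgroup.mem_centralizer_iff

theorem sq_mem_CC (x : P) : x * x ∈ CC P := by
  rw [mem_CC]
  intro y hy
  exact (sq_comm_Yof (Subgroup.mem_top x) hy).symm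

theorem inv_CC (K : Subgroup (MulAut P)) : Inv K (CC P) := by
  intro k hk c hc
  rw [mem_CC] at hc ⊢
  intro y hy
  have h1 := hc (k⁻¹ y) ((inv_YY K).inv_mem hk hy)
  have h2 := congrArg k h1
  rw [map_mul, map_mul, MulAut.apply_inv_self] at h2
  exact h2

theorem CC_conj {c : P} (hc : c ∈ CC P) (g : P) : g * c * g⁻¹ ∈ CC P := by
  rw [mem_CC] at hc ⊢
  intro y hy
  have h1 := hc (g⁻¹ * y * g) (conj_mem_YY hy g)
  calc y * (g * c * g⁻¹) = g * ((g⁻¹ * y * g) * c) * g⁻¹ := by group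
    _ = g * (c * (g⁻¹ * y * g)) * g⁻¹ := by rw [h1]
    _ = g * c * g⁻¹ * y := by group

theorem CC_normal : (CC P).Normal := ⟨fun c hc g => CC_conj hc g⟩

/-- if all squares lie in `Om P` then so do all commutators -/
theorem cm_mem_of_sq (hsq : ∀ x : P, x * x ∈ Om P) (x g : P) : cm x g ∈ Om P := by
  have hc : (x * x) * g = g * (x * x) := Om_comm (hsq x) g
  have e : cm x g = ((x⁻¹ * g⁻¹) * (x⁻¹ * g⁻¹)) * ((x * x) * (g * g)) := by
    unfold cm
    calc (g * x)⁻¹ * (x * g) = x⁻¹ * g⁻¹ * x⁻¹ * g⁻¹ * (g * (x * x)) * g := by group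
      _ = x⁻¹ * g⁻¹ * x⁻¹ * g⁻¹ * ((x * x) * g) * g := by rw [hc]
      _ = _ := by group
  rw [e]
  exact (Om P).mul_mem (hsq _) ((Om P).mul_mem (hsq x) (hsq g))

theorem exists_not_Om (hna : ∃ x y : P, x * y ≠ y * x) : ∃ w ∈ (⊤ : Subgroup P), w ∉ Om P := by
  by_contra hcon
  push Not at hcon
  obtain ⟨x, y, hxy⟩ := hna
  exact hxy (Om_comm (hcon x (Subgroup.mem_top x)) y)

theorem exists_YY_not_Om (h : SD P K) (hna : ∃ x y : P, x * y ≠ y * x) :
    ∃ y ∈ YY P, y ∉ Om P := by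
  haveI := h.fin
  obtain ⟨w, _, hwN, hw2, hwc⟩ := exists_central_mod h.pg (Om P) ⊤ (exists_not_Om hna)
  exact ⟨w, mem_YY.mpr ⟨hw2, hwc⟩, hwN⟩

/-- Case A: `YY P` nonabelian -/
theorem caseA (h : SD P K) (hYna : ∃ a ∈ YY P, ∃ b ∈ YY P, a * b ≠ b * a) :
    ∀ x : P, x * x ∈ Om P := by
  haveI := h.fin
  have hC : CC P ≤ Om P := by
    by_contra hcon
    have hne : ∃ w ∈ CC P, w ∉ Om P := by
      by_contra h2
      push Not at h2
      exact hcon h2
    haveI : (CC P).Normal := CC_normal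
    obtain ⟨w, hwC, hwN, hw2, hwc⟩ := exists_central_mod h.pg (Om P) (CC P) hne
    have hwY : w ∈ YY P := mem_YY.mpr ⟨hw2, hwc⟩
    have hcen : ∀ y ∈ YY P, w * y = y * w := fun y hy => ((mem_CC.mp hwC) y hy).symm
    exact hwN (mem_Om_of_central h (inv_YY K) Om_le_YY hYna hwY hcen)
  intro x
  exact hC (sq_mem_CC x)

/-- counting lemma: an abelian subgroup with all squares in `Om P` has order at most `q²` -/
theorem card_le_sq_of_abelian (h : SD P K) (A : Subgroup P)
    (hab : ∀ a ∈ A, ∀ b ∈ A, a * b = b * a) (hsq : ∀ a ∈ A, a * a ∈ Om P) :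
    Nat.card A ≤ Nat.card (Om P) * Nat.card (Om P) := by
  haveI := h.fin
  let f : A →* Om P :=
    { toFun := fun a => ⟨(a : P) * a, hsq a a.2⟩
      map_one' := by apply Subtype.ext; simp
      map_mul' := fun a b => by
        apply Subtype.ext
        show ((a : P) * b) * (a * b) = (a * a) * (b * b)
        have h1 := hab a a.2 b b.2
        calc (a : P) * b * (a * b) = a * (b * a) * b := by group
          _ = a * (a * b) * b := by rw [h1]
          _ = _ := by group }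
  have h1 : Nat.card f.ker * f.ker.index = Nat.card A := f.ker.card_mul_index
  have h2 : f.ker.index = Nat.card f.range := Subgroup.index_ker f
  have h3 : Nat.card f.range ≤ Nat.card (Om P) := Subgroup.card_le_card_group _
  have h4 : Nat.card f.ker ≤ Nat.card (Om P) := by
    have hk : ∀ a : f.ker, ((a : A) : P) ∈ Om P := by
      intro a
      apply h.mem_Om_iff.mpr
      have h5 : f (a : A) = 1 := a.2
      exact congrArg Subtype.val h5
    let g : f.ker → Om P := fun a => ⟨((a : A) : P), hk a⟩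
    have hg : Function.Injective g := by
      intro a b hab'
      have h5 : ((a : A) : P) = ((b : A) : P) := congrArg (fun z : Om P => (z : P)) hab'
      exact Subtype.ext (Subtype.ext h5)
    exact Nat.card_le_card_of_injective g hg
  rw [← h1, h2]
  exact Nat.mul_le_mul h4 h3

section caseB

variable (h : SD P K) (hYab : ∀ a ∈ YY P, ∀ b ∈ YY P, a * b = b * a)
  (hYne : ∃ y ∈ YY P, y ∉ Om P)

include h hYab hYne

theorem sq_surj_YY : ∀ z ∈ Om P, ∃ y ∈ YY P, y * y = z := by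
  let S : Subgroup P :=
    { carrier := {z | ∃ y ∈ YY P, y * y = z}
      one_mem' := ⟨1, (YY P).one_mem, by simp⟩
      mul_mem' := by
        rintro z z' ⟨y, hy, rfl⟩ ⟨y', hy', rfl⟩
        refine ⟨y * y', (YY P).mul_mem hy hy', ?_⟩
        have h1 := hYab y hy y' hy'
        calc y * y' * (y * y') = y * (y' * y) * y' := by group
          _ = y * (y * y') * y' := by rw [h1]
          _ = _ := by group
      inv_mem' := by
        rintro z ⟨y, hy, rfl⟩
        exact ⟨y⁻¹, (YY P).inv_mem hy, by group⟩ }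
  have hle : S ≤ Om P := by
    rintro z ⟨y, hy, rfl⟩
    exact (mem_YY.mp hy).1
  have hne : ∃ x ∈ S, x ≠ 1 := by
    obtain ⟨y, hy, hyO⟩ := hYne
    exact ⟨y * y, ⟨y, hy, rfl⟩, fun h1 => hyO (h.mem_Om_iff.mpr h1)⟩
  have hinv : ∀ k ∈ K, ∀ x ∈ S, k x ∈ S := by
    rintro k hk z ⟨y, hy, rfl⟩
    exact ⟨k y, inv_YY K k hk y hy, by rw [map_mul]⟩
  intro z hz
  exact h.Om_le S hne hle hinv hz

theorem card_YY : Nat.card (YY P) = Nat.card (Om P) * Nat.card (Om P) := by
  apply le_antisymm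
  · exact card_le_sq_of_abelian h (YY P) hYab (fun a ha => (mem_YY.mp ha).1)
  · exact card_mul_le h (inv_YY K) (inv_Om K) Om_le_YY hYne

theorem YY_le_CC : YY P ≤ CC P := by
  intro y hy
  rw [mem_CC]
  intro y' hy'
  exact hYab y' hy' y hy

theorem Om_le_CC : Om P ≤ CC P := Om_le_YY.trans (YY_le_CC h hYab hYne)

theorem CC_abelian : ∀ a ∈ CC P, ∀ b ∈ CC P, a * b = b * a := by
  by_contra hcon
  push Not at hcon
  obtain ⟨a, ha, b, hb, hab⟩ := hcon
  obtain ⟨y, hy, hyO⟩ := hYne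
  apply hyO
  refine mem_Om_of_central h (inv_CC K) (Om_le_CC h hYab ⟨y, hy, hyO⟩) ⟨a, ha, b, hb, hab⟩
    (YY_le_CC h hYab ⟨y, hy, hyO⟩ hy) ?_
  intro c hc
  exact (mem_CC.mp hc) y hy

theorem CC_ne_top (hna : ∃ x y : P, x * y ≠ y * x) : ∃ x : P, x ∉ CC P := by
  by_contra hcon
  push Not at hcon
  obtain ⟨y, hy, hyO⟩ := hYne
  apply hyO
  obtain ⟨a, b, hab⟩ := hna
  refine mem_Om_of_central h (inv_top K) le_top
    ⟨a, Subgroup.mem_top a, b, Subgroup.mem_top b, hab⟩ (Subgroup.mem_top y) ?_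
  intro c _
  exact (mem_CC.mp (hcon c)) y hy

theorem Om2_CC : ∀ c ∈ CC P, c * c ∈ Om P → c ∈ YY P := by
  haveI := h.fin
  have hCab := CC_abelian h hYab hYne
  let T : Subgroup P :=
    { carrier := {c | c ∈ CC P ∧ c * c ∈ Om P}
      one_mem' := ⟨(CC P).one_mem, by rw [one_mul]; exact (Om P).one_mem⟩
      mul_mem' := by
        rintro c c' ⟨hc, hc2⟩ ⟨hc', hc'2⟩
        refine ⟨(CC P).mul_mem hc hc', ?_⟩
        have h1 := hCab c hc c' hc'
        have e : c * c' * (c * c') = (c * c) * (c' * c') := by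
          calc c * c' * (c * c') = c * (c' * c) * c' := by group
            _ = c * (c * c') * c' := by rw [h1]
            _ = _ := by group
        rw [e]
        exact (Om P).mul_mem hc2 hc'2
      inv_mem' := by
        rintro c ⟨hc, hc2⟩
        refine ⟨(CC P).inv_mem hc, ?_⟩
        have e : c⁻¹ * c⁻¹ = (c * c)⁻¹ := by group
        rw [e]
        exact (Om P).inv_mem hc2 }
  have hYT : YY P ≤ T := fun y hy => ⟨YY_le_CC h hYab hYne hy, (mem_YY.mp hy).1⟩
  have hTcard : Nat.card T ≤ Nat.card (YY P) := by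
    rw [card_YY h hYab hYne]
    exact card_le_sq_of_abelian h T (fun a ha b hb => hCab a ha.1 b hb.1) (fun a ha => ha.2)
  have hTY : YY P = T := Subgroup.eq_of_le_of_card_ge hYT hTcard
  intro c hc hc2
  rw [hTY]
  exact ⟨hc, hc2⟩

end caseB

end Cfsg.Agent.Lib.Helper1.Hg
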