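import Mathlib
import Cfsg.Agent.Lib.Helper1.Hg4
import Cfsg.Agent.Lib.Helper1.Hg5
import Cfsg.Agent.Lib.Lead.Sz2C

set_option autoImplicit false
set_option maxHeartbeats 4000000
set_option linter.unusedVariables false
set_option linter.unusedSectionVars false
set_option linter.style.longLine false

/-!
# Higman's theorem: coordinates and the commutator endomorphisms
-/

namespace Cfsg.Agent.Lib.Helper1.Hg

open Cfsg.Agent.Lib.Lead.Sz2D Cfsg.Agent.Lib.Lead

universe u v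

variable {P : Type u} [Group P] {K : Subgroup (MulAut P)}

/-- coordinates on `Om P` -/
structure Coo (P : Type u) [Group P] (K : Subgroup (MulAut P)) (F : Type v) [Field F] where
  ι : P → F
  κ : MulAut P → F
  card : Nat.card (Om P) = Nat.card F
  surj : ∀ a, ∃ z ∈ Om P, ι z = a
  inj : ∀ z ∈ Om P, ι z = 0 → z = 1
  add : ∀ z ∈ Om P, ∀ z' ∈ Om P, ι (z * z') = ι z + ι z'
  act : ∀ k ∈ K, ∀ z ∈ Om P, ι (k z) = κ k * ι z
  ksurj : ∀ l, l ≠ 0 → ∃ k ∈ K, κ k = l
  kne : ∀ k ∈ K, κ k ≠ 0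

theorem exists_coord (h : SD P K) : ∃ n : ℕ, Nonempty (Coo P K (GaloisField 2 n)) := by
  classical
  haveI := h.fin
  obtain ⟨z₀, hz₀1, hz₀2⟩ := exists_base h
  let instZ : CommGroup (Om P) :=
    { (inferInstance : Group (Om P)) with
      mul_comm := fun a b => Subtype.ext (Om_comm a.2 b.1) }
  let instK : CommGroup K :=
    { (inferInstance : Group K) with
      mul_comm := fun a b => Subtype.ext (h.comm a.1 a.2 b.1 b.2) }
  let actZ : K → Om P → Om P := fun k z => ⟨k.1 z.1, map_Om k.1 z.2⟩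
  let e₀ : Om P := ⟨z₀, h.mem_Om_iff.mpr hz₀2⟩
  have hRZ : @Sz2C.RAct K instK (Om P) instZ actZ e₀ :=
    { act_one := fun z => Subtype.ext rfl
      act_mul := fun k k' z => Subtype.ext rfl
      act_hom := fun k x y => Subtype.ext (map_mul k.1 x.1 y.1)
      ne := fun he => hz₀1 (congrArg Subtype.val he)
      ex := by
        intro z hz
        have hz1 : z.1 ≠ 1 := fun h1 => hz (Subtype.ext h1)
        obtain ⟨k, hk, hkz⟩ := h.trans z₀ z.1 hz₀1 hz₀2 hz1 z.2.2
        exact ⟨⟨k, hk⟩, Subtype.ext hkz⟩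
      uniq := by
        intro k k' hkk
        have h1 : k.1 z₀ = k'.1 z₀ := congrArg Subtype.val hkk
        have h2 : (k'.1⁻¹ * k.1) z₀ = z₀ := by
          rw [MulAut.mul_apply, h1, MulAut.inv_apply_self]
        have h3 := h.semi_gen (K.mul_mem (K.inv_mem k'.2) k.2) hz₀1 h2
        apply Subtype.ext
        have h4 : k'.1 * (k'.1⁻¹ * k.1) = k'.1 * 1 := by rw [h3]
        rw [mul_inv_cancel_left, mul_one] at h4
        exact h4
      two := fun z => Subtype.ext z.2.2 }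
  obtain ⟨n, ι, κ, hn, hbij, hadd, he, hact, hsurj, hne, hinj⟩ :=
    @Sz2C.coord K instK (Om P) instZ _ actZ e₀ hRZ
  have hadd' : ∀ x y : Om P, ι (x * y) = ι x + ι y := hadd
  have hι1 : ι 1 = 0 := by
    have h1 := hadd' 1 1
    rw [mul_one] at h1
    have h3 : ι 1 + ι 1 = ι 1 + 0 := by rw [add_zero]; exact h1.symm
    exact add_left_cancel h3
  refine ⟨n, ⟨{
    ι := fun x => if hx : x ∈ Om P then ι ⟨x, hx⟩ else 0
    κ := fun k => if hk : k ∈ K then κ ⟨k, hk⟩ else 0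
    card := Nat.card_eq_of_bijective ι hbij
    surj := ?_
    inj := ?_
    add := ?_
    act := ?_
    ksurj := ?_
    kne := ?_ }⟩⟩
  · intro a
    obtain ⟨z, hz⟩ := hbij.2 a
    refine ⟨z.1, z.2, ?_⟩
    show (if hx : z.1 ∈ Om P then ι ⟨z.1, hx⟩ else 0) = a
    rw [dif_pos z.2]
    exact hz
  · intro z hz hz0
    have h1 : (if hx : z ∈ Om P then ι ⟨z, hx⟩ else 0) = 0 := hz0
    rw [dif_pos hz, ← hι1] at h1
    exact congrArg Subtype.val (hbij.1 h1)
  · intro z hz z' hz'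
    show (if hx : z * z' ∈ Om P then ι ⟨z * z', hx⟩ else 0) =
      (if hx : z ∈ Om P then ι ⟨z, hx⟩ else 0) + (if hx : z' ∈ Om P then ι ⟨z', hx⟩ else 0)
    rw [dif_pos hz, dif_pos hz', dif_pos ((Om P).mul_mem hz hz')]
    exact hadd' ⟨z, hz⟩ ⟨z', hz'⟩
  · intro k hk z hz
    show (if hx : k z ∈ Om P then ι ⟨k z, hx⟩ else 0) =
      (if hk : k ∈ K then κ ⟨k, hk⟩ else 0) * (if hx : z ∈ Om P then ι ⟨z, hx⟩ else 0)
    rw [dif_pos hz, dif_pos hk, dif_pos (map_Om k hz)]
    exact hact ⟨k, hk⟩ ⟨z, hz⟩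
  · intro l hl
    obtain ⟨k, hk⟩ := hsurj l hl
    refine ⟨k.1, k.2, ?_⟩
    show (if hk : k.1 ∈ K then κ ⟨k.1, hk⟩ else 0) = l
    rw [dif_pos k.2]
    exact hk
  · intro k hk
    show (if hk : k ∈ K then κ ⟨k, hk⟩ else 0) ≠ 0
    rw [dif_pos hk]
    exact hne ⟨k, hk⟩

section coo

variable {F : Type v} [Field F] [Fintype F] [CharP F 2]

theorem Coo.map_one (co : Coo P K F) : co.ι 1 = 0 := by
  have h1 := co.add 1 (Om P).one_mem 1 (Om P).one_mem
  rw [mul_one] at h1
  have h3 : co.ι 1 + co.ι 1 = co.ι 1 + 0 := by rw [add_zero]; exact h1.symm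
  exact add_left_cancel h3

theorem Coo.inj' (co : Coo P K F) (h : SD P K) {z z' : P} (hz : z ∈ Om P) (hz' : z' ∈ Om P)
    (he : co.ι z = co.ι z') : z = z' := by
  have h1 : co.ι (z * z') = 0 := by
    rw [co.add z hz z' hz', he]
    exact CharTwo.add_self_eq_zero _
  have h2 := co.inj (z * z') ((Om P).mul_mem hz hz') h1
  have h3 : z' * z' = 1 := h.mem_Om_iff.mp hz'
  calc z = z * z' * z'⁻¹ := by group
    _ = z'⁻¹ := by rw [h2, one_mul]
    _ = z' := inv_eq_of_mul_eq_one_left h3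

theorem Om_inv_self (h : SD P K) {z : P} (hz : z ∈ Om P) : z⁻¹ = z :=
  inv_eq_of_mul_eq_one_left (h.mem_Om_iff.mp hz)

/-- the field has more than two elements -/
theorem Coo.exists_ne (co : Coo P K F) (h : SD P K) : ∃ a : F, a * a ≠ a := by
  obtain ⟨x, y, hxy, hx1, hx2, hy1, hy2⟩ := h.two
  have hxO : x ∈ Om P := h.mem_Om_iff.mpr hx2
  have hyO : y ∈ Om P := h.mem_Om_iff.mpr hy2
  have hx0 : co.ι x ≠ 0 := fun h0 => hx1 (co.inj x hxO h0)
  have hy0 : co.ι y ≠ 0 := fun h0 => hy1 (co.inj y hyO h0)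
  have hne : co.ι x ≠ co.ι y := fun he => hxy (co.inj' h hxO hyO he)
  by_cases h1 : co.ι x = 1
  · refine ⟨co.ι y, fun h2 => ?_⟩
    have h3 : co.ι y * (co.ι y - 1) = 0 := by linear_combination h2
    rcases mul_eq_zero.mp h3 with h4 | h4
    · exact hy0 h4
    · exact hne (h1.trans (sub_eq_zero.mp h4).symm)
  · refine ⟨co.ι x, fun h2 => ?_⟩
    have h3 : co.ι x * (co.ι x - 1) = 0 := by linear_combination h2
    rcases mul_eq_zero.mp h3 with h4 | h4
    · exact hx0 h4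
    · exact h1 (sub_eq_zero.mp h4)

theorem Coo.kappa_one (co : Coo P K F) (h : SD P K) : co.κ 1 = 1 := by
  obtain ⟨z, hz, hz1⟩ := co.surj 1
  have h1 := co.act 1 K.one_mem z hz
  rw [MulAut.one_apply, hz1, mul_one] at h1
  exact h1.symm

/-- a nontrivial element of `K` -/
theorem Coo.exists_k (co : Coo P K F) (h : SD P K) : ∃ k ∈ K, k ≠ 1 := by
  obtain ⟨a, ha⟩ := co.exists_ne h
  have ha0 : a ≠ 0 := by
    rintro rfl
    exact ha (mul_zero 0)
  obtain ⟨k, hk, hka⟩ := co.ksurj a ha0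
  refine ⟨k, hk, ?_⟩
  rintro rfl
  rw [co.kappa_one h] at hka
  apply ha
  rw [← hka, mul_one]

theorem sq_mul_YY (hYab : ∀ a ∈ YY P, ∀ b ∈ YY P, a * b = b * a) {y y' : P} (hy : y ∈ YY P)
    (hy' : y' ∈ YY P) : (y * y') * (y * y') = (y * y) * (y' * y') := by
  have h1 := hYab y hy y' hy'
  calc y * y' * (y * y') = y * (y' * y) * y' := by group
    _ = y * (y * y') * y' := by rw [h1]
    _ = _ := by group

theorem cm_YY_mem {y : P} (hy : y ∈ YY P) (x : P) : cm y x ∈ Om P := (mem_YY.mp hy).2 x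

theorem sq_YY_mem {y : P} (hy : y ∈ YY P) : y * y ∈ Om P := (mem_YY.mp hy).1

section roots

variable (co : Coo P K F)

variable (h : SD P K) (hYab : ∀ a ∈ YY P, ∀ b ∈ YY P, a * b = b * a)
  (hYne : ∃ y ∈ YY P, y ∉ Om P)

open Classical in
/-- a chosen square root in `YY P` -/
noncomputable def rt (a : F) : P :=
  if hex : ∃ y ∈ YY P, co.ι (y * y) = a then Classical.choose hex else 1

/-- the commutator endomorphism in coordinates -/
noncomputable def Ef (x : P) (a : F) : F := co.ι (cm (rt co a) x)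

include h hYab hYne

theorem rt_spec (a : F) : rt co a ∈ YY P ∧ co.ι (rt co a * rt co a) = a := by
  have hex : ∃ y ∈ YY P, co.ι (y * y) = a := by
    obtain ⟨z, hz, hza⟩ := co.surj a
    obtain ⟨y, hy, hyz⟩ := sq_surj_YY h hYab hYne z hz
    exact ⟨y, hy, by rw [hyz, hza]⟩
  unfold rt
  rw [dif_pos hex]
  exact Classical.choose_spec hex

/-- (E1) -/
theorem Ef_sq {y : P} (hy : y ∈ YY P) (x : P) : Ef co x (co.ι (y * y)) = co.ι (cm y x) := by
  obtain ⟨hr, hr2⟩ := rt_spec co h hYab hYne (co.ι (y * y))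
  set r := rt co (co.ι (y * y)) with hrdef
  have h1 : r * r = y * y :=
    co.inj' h (sq_YY_mem hr) (sq_YY_mem hy) hr2
  have hzz : (y⁻¹ * r) * (y⁻¹ * r) = 1 := by
    rw [sq_mul_YY hYab ((YY P).inv_mem hy) hr, h1]
    group
  have hz : y⁻¹ * r ∈ Om P := h.mem_Om_iff.mpr hzz
  have hry : r = y * (y⁻¹ * r) := by group
  show co.ι (cm r x) = co.ι (cm y x)
  rw [hry, cm_mul_left' (Om_comm hz (cm y x)).symm, cm_central_left (mem_Om.mp hz).1 x, mul_one]

/-- (E2) -/
theorem Ef_add (x : P) (a b : F) : Ef co x (a + b) = Ef co x a + Ef co x b := by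
  obtain ⟨hra, hra2⟩ := rt_spec co h hYab hYne a
  obtain ⟨hrb, hrb2⟩ := rt_spec co h hYab hYne b
  have h1 : co.ι ((rt co a * rt co b) * (rt co a * rt co b)) = a + b := by
    rw [sq_mul_YY hYab hra hrb,
      co.add _ (sq_YY_mem hra) _ (sq_YY_mem hrb), hra2, hrb2]
  rw [← h1, Ef_sq co h hYab hYne ((YY P).mul_mem hra hrb) x]
  rw [cm_mul_left' (Om_comm (cm_YY_mem hra x) (rt co b)),
    co.add _ (cm_YY_mem hra x) _ (cm_YY_mem hrb x)]
  rfl

theorem Ef_zero (x : P) : Ef co x 0 = 0 := by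
  have h1 := Ef_add co h hYab hYne x 0 0
  rw [add_zero] at h1
  have h3 : Ef co x 0 + Ef co x 0 = Ef co x 0 + 0 := by rw [add_zero]; exact h1.symm
  exact add_left_cancel h3

/-- (E3) -/
theorem Ef_mul (x x' : P) (a : F) : Ef co (x * x') a = Ef co x a + Ef co x' a := by
  obtain ⟨hra, hra2⟩ := rt_spec co h hYab hYne a
  show co.ι (cm (rt co a) (x * x')) = co.ι (cm (rt co a) x) + co.ι (cm (rt co a) x')
  rw [cm_mul_right' (Om_comm (cm_YY_mem hra x) x'),
    co.add _ (cm_YY_mem hra x') _ (cm_YY_mem hra x), add_comm]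

/-- (E4) -/
theorem Ef_eq_zero_iff (x : P) : (∀ a, Ef co x a = 0) ↔ x ∈ CC P := by
  constructor
  · intro h0
    rw [mem_CC]
    intro y hy
    have h1 := h0 (co.ι (y * y))
    rw [Ef_sq co h hYab hYne hy x] at h1
    have h2 := co.inj _ (cm_YY_mem hy x) h1
    exact cm_eq_one_iff.mp h2
  · intro hx a
    obtain ⟨hra, _⟩ := rt_spec co h hYab hYne a
    have h1 : cm (rt co a) x = 1 := cm_eq_one_iff.mpr ((mem_CC.mp hx) _ hra)
    show co.ι (cm (rt co a) x) = 0
    rw [h1, co.map_one]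

/-- (E5) -/
theorem Ef_map {k : MulAut P} (hk : k ∈ K) (x : P) (a : F) :
    Ef co (k x) (co.κ k * a) = co.κ k * Ef co x a := by
  obtain ⟨hra, hra2⟩ := rt_spec co h hYab hYne a
  have hky : k (rt co a) ∈ YY P := inv_YY K k hk _ hra
  have h1 : co.ι (k (rt co a) * k (rt co a)) = co.κ k * a := by
    rw [← map_mul, co.act k hk _ (sq_YY_mem hra), hra2]
  rw [← h1, Ef_sq co h hYab hYne hky (k x), ← map_cm,
    co.act k hk _ (cm_YY_mem hra x)]
  rfl

end roots

section coef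

variable [Fintype (F ≃+* F)] (co : Coo P K F)

open Classical in
/-- the coefficients of `Ef co x` -/
noncomputable def cf (x : P) : (F ≃+* F) → F :=
  if hex : ∃ c : (F ≃+* F) → F, ∀ a, Ef co x a = ∑ σ, c σ * σ a then Classical.choose hex
  else fun _ => 0

variable (h : SD P K) (hYab : ∀ a ∈ YY P, ∀ b ∈ YY P, a * b = b * a)
  (hYne : ∃ y ∈ YY P, y ∉ Om P)

include h hYab hYne

theorem cf_spec (x : P) (a : F) : Ef co x a = ∑ σ, cf co x σ * σ a := by
  have hex : ∃ c : (F ≃+* F) → F, ∀ a, Ef co x a = ∑ σ, c σ * σ a := by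
    let f : F →+ F := AddMonoidHom.mk' (Ef co x) (Ef_add co h hYab hYne x)
    obtain ⟨c, hc⟩ := expand f
    exact ⟨c, fun a => hc a⟩
  unfold cf
  rw [dif_pos hex]
  exact Classical.choose_spec hex a

theorem cf_mul (x x' : P) (ρ : F ≃+* F) : cf co (x * x') ρ = cf co x ρ + cf co x' ρ := by
  apply coef_unique (cf co (x * x')) (fun σ => cf co x σ + cf co x' σ)
  intro a
  rw [← cf_spec co h hYab hYne, Ef_mul co h hYab hYne, cf_spec co h hYab hYne x,
    cf_spec co h hYab hYne x', ← Finset.sum_add_distrib]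
  apply Finset.sum_congr rfl
  intro σ _
  ring

theorem cf_map {k : MulAut P} (hk : k ∈ K) (x : P) (ρ : F ≃+* F) :
    cf co (k x) ρ * ρ (co.κ k) = co.κ k * cf co x ρ := by
  apply coef_unique (fun σ => cf co (k x) σ * σ (co.κ k)) (fun σ => co.κ k * cf co x σ)
  intro a
  have h1 := Ef_map co h hYab hYne hk x a
  rw [cf_spec co h hYab hYne, cf_spec co h hYab hYne, Finset.mul_sum] at h1
  calc ∑ σ, cf co (k x) σ * σ (co.κ k) * σ a
      = ∑ σ, cf co (k x) σ * σ (co.κ k * a) := by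
        apply Finset.sum_congr rfl
        intro σ _
        rw [map_mul]; ring
    _ = ∑ σ, co.κ k * (cf co x σ * σ a) := h1
    _ = ∑ σ, co.κ k * cf co x σ * σ a := by
        apply Finset.sum_congr rfl
        intro σ _
        ring

theorem cf_CC (x : P) : x ∈ CC P ↔ ∀ ρ, cf co x ρ = 0 := by
  rw [← Ef_eq_zero_iff co h hYab hYne]
  constructor
  · intro h0
    apply li1u
    intro a
    rw [← cf_spec co h hYab hYne]
    exact h0 a
  · intro h0 a
    rw [cf_spec co h hYab hYne]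
    apply Finset.sum_eq_zero
    intro σ _
    rw [h0, zero_mul]

theorem cf_one (ρ : F ≃+* F) : cf co (1 : P) ρ = 0 :=
  (cf_CC co h hYab hYne 1).mp (CC P).one_mem ρ

theorem cf_inv (x : P) (ρ : F ≃+* F) : cf co x⁻¹ ρ = cf co x ρ := by
  have h1 := cf_mul co h hYab hYne x x⁻¹ ρ
  rw [mul_inv_cancel, cf_one co h hYab hYne] at h1
  exact (CharTwo.add_eq_zero.mp h1.symm).symm

/-- the coefficient of the identity vanishes -/
theorem cf_id (x : P) : cf co x (1 : F ≃+* F) = 0 := by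
  obtain ⟨k, hk, hk1⟩ := co.exists_k h
  let B : Subgroup P :=
    { carrier := {x | cf co x (1 : F ≃+* F) = 0}
      one_mem' := cf_one co h hYab hYne 1
      mul_mem' := by
        intro a b ha hb
        show cf co (a * b) 1 = 0
        rw [cf_mul co h hYab hYne, ha, hb, add_zero]
      inv_mem' := by
        intro a ha
        show cf co a⁻¹ 1 = 0
        rw [cf_inv co h hYab hYne]
        exact ha }
  have hkx : ∀ x : P, cf co (k x) (1 : F ≃+* F) = cf co x 1 := by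
    intro x
    have h1 := cf_map co h hYab hYne hk x 1
    rw [RingAut.one_apply, mul_comm] at h1
    exact mul_left_cancel₀ (co.kne k hk) h1
  have hB : ∀ x ∈ B, k x ∈ B := by
    intro x hx
    show cf co (k x) 1 = 0
    rw [hkx]
    exact hx
  have ha : x⁻¹ * k x ∈ B := by
    show cf co (x⁻¹ * k x) 1 = 0
    rw [cf_mul co h hYab hYne, cf_inv co h hYab hYne, hkx]
    exact CharTwo.add_self_eq_zero _
  exact mem_of_inv_mul_map_mem h hk hk1 B hB ha

end coef

end coo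

end Cfsg.Agent.Lib.Helper1.Hg
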