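import Mathlib
import Cfsg.Agent.Lib.Helper1.Hg6

set_option autoImplicit false
set_option maxHeartbeats 4000000
set_option linter.unusedVariables false
set_option linter.unusedSectionVars false
set_option linter.style.longLine false

/-!
# Higman's theorem: the abelian case is impossible
-/

namespace Cfsg.Agent.Lib.Helper1.Hg

open Cfsg.Agent.Lib.Lead.Sz2D Cfsg.Agent.Lib.Lead

universe u v

variable {P : Type u} [Group P] {K : Subgroup (MulAut P)}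

/-- invariant subgroups properly containing `CC P` -/
def Over (K : Subgroup (MulAut P)) (H : Subgroup P) : Prop :=
  Inv K H ∧ CC P ≤ H ∧ ∃ x ∈ H, x ∉ CC P

theorem exists_min_over [Finite P] (hex : ∃ H : Subgroup P, Over K H) :
    ∃ H₁ : Subgroup P, Over K H₁ ∧ ∀ H' : Subgroup P, Over K H' → H' ≤ H₁ → H' = H₁ := by
  classical
  have hex' : ∃ m : ℕ, ∃ H : Subgroup P, Over K H ∧ Nat.card H = m := by
    obtain ⟨H, hH⟩ := hex
    exact ⟨_, H, hH, rfl⟩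
  obtain ⟨H₁, hH₁, hcard⟩ := Nat.find_spec hex'
  refine ⟨H₁, hH₁, ?_⟩
  intro H' hH' hle
  apply Subgroup.eq_of_le_of_card_ge hle
  rw [hcard]
  exact Nat.find_min' hex' ⟨H', hH', rfl⟩

section main

variable {F : Type v} [Field F] [Fintype F] [CharP F 2] [Fintype (F ≃+* F)] (co : Coo P K F)

/-- the data attached to a minimal invariant subgroup over `CC P` -/
structure MinDat (H₁ : Subgroup P) (ρ₀ : F ≃+* F) : Prop where
  inv : Inv K H₁
  le : CC P ≤ H₁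
  ker : ∀ x ∈ H₁, cf co x ρ₀ = 0 → x ∈ CC P
  surj : ∀ u : F, ∃ x ∈ H₁, cf co x ρ₀ = u

variable (h : SD P K) (hYab : ∀ a ∈ YY P, ∀ b ∈ YY P, a * b = b * a)
  (hYne : ∃ y ∈ YY P, y ∉ Om P)

include h hYab hYne

theorem exists_minDat (hna : ∃ x y : P, x * y ≠ y * x) :
    ∃ (H₁ : Subgroup P) (ρ₀ : F ≃+* F), MinDat co H₁ ρ₀ := by
  classical
  haveI := h.fin
  have hex : ∃ H : Subgroup P, Over K H := by
    obtain ⟨x, hx⟩ := CC_ne_top h hYab hYne hna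
    exact ⟨⊤, inv_top K, le_top, x, Subgroup.mem_top x, hx⟩
  obtain ⟨H₁, ⟨hinv, hle, x₀, hx₀H, hx₀C⟩, hmin⟩ := exists_min_over hex
  have hne : ¬ ∀ ρ, cf co x₀ ρ = 0 := fun h0 => hx₀C ((cf_CC co h hYab hYne x₀).mpr h0)
  push Not at hne
  obtain ⟨ρ₀, hρ₀⟩ := hne
  -- the kernel
  let Ker : Subgroup P :=
    { carrier := {x | x ∈ H₁ ∧ cf co x ρ₀ = 0}
      one_mem' := ⟨H₁.one_mem, cf_one co h hYab hYne ρ₀⟩
      mul_mem' := by
        rintro a b ⟨ha, ha0⟩ ⟨hb, hb0⟩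
        exact ⟨H₁.mul_mem ha hb, by rw [cf_mul co h hYab hYne, ha0, hb0, add_zero]⟩
      inv_mem' := by
        rintro a ⟨ha, ha0⟩
        exact ⟨H₁.inv_mem ha, by rw [cf_inv co h hYab hYne, ha0]⟩ }
  have hKerinv : Inv K Ker := by
    rintro k hk x ⟨hx, hx0⟩
    refine ⟨hinv k hk x hx, ?_⟩
    have h1 := cf_map co h hYab hYne hk x ρ₀
    rw [hx0, mul_zero] at h1
    rcases mul_eq_zero.mp h1 with h2 | h2
    · exact h2
    · exact absurd ((map_eq_zero ρ₀).mp h2) (co.kne k hk)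
  have hKerC : CC P ≤ Ker := fun c hc => ⟨hle hc, (cf_CC co h hYab hYne c).mp hc ρ₀⟩
  have hKerle : Ker ≤ H₁ := fun x hx => hx.1
  have hker : ∀ x ∈ H₁, cf co x ρ₀ = 0 → x ∈ CC P := by
    intro x hx hx0
    by_contra hxC
    have hover : Over K Ker := ⟨hKerinv, hKerC, x, ⟨hx, hx0⟩, hxC⟩
    have h1 := hmin Ker hover hKerle
    have h2 : x₀ ∈ Ker := by rw [h1]; exact hx₀H
    exact hρ₀ h2.2
  -- surjectivity by counting
  have hsurj : ∀ u : F, ∃ x ∈ H₁, cf co x ρ₀ = u := by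
    let t : H₁ →* Multiplicative F :=
      { toFun := fun x => Multiplicative.ofAdd (cf co (x : P) ρ₀)
        map_one' := by
          show Multiplicative.ofAdd (cf co (1 : P) ρ₀) = 1
          rw [cf_one co h hYab hYne]; rfl
        map_mul' := fun a b => by
          show Multiplicative.ofAdd (cf co ((a : P) * b) ρ₀) = _
          rw [cf_mul co h hYab hYne]; rfl }
    have hkert : t.ker = (CC P).subgroupOf H₁ := by
      ext x
      rw [MonoidHom.mem_ker, Subgroup.mem_subgroupOf]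
      constructor
      · intro h1
        have h2 : cf co (x : P) ρ₀ = 0 := h1
        exact hker x x.2 h2
      · intro h1
        show Multiplicative.ofAdd (cf co (x : P) ρ₀) = 1
        rw [(cf_CC co h hYab hYne x).mp h1 ρ₀]; rfl
    have h1 : Nat.card t.ker * t.ker.index = Nat.card H₁ := t.ker.card_mul_index
    have h2 : t.ker.index = Nat.card t.range := Subgroup.index_ker t
    have h3 : Nat.card t.ker = Nat.card (CC P) := by
      rw [hkert]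
      exact Nat.card_congr (Subgroup.subgroupOfEquivOfLe hle).toEquiv
    have h4 : Nat.card (CC P) * Nat.card (Om P) ≤ Nat.card H₁ :=
      card_mul_le h hinv (inv_CC K) hle ⟨x₀, hx₀H, hx₀C⟩
    rw [h3, h2] at h1
    have h5 : Nat.card (Om P) ≤ Nat.card t.range := by
      have hpos : 0 < Nat.card (CC P) := Nat.card_pos
      rw [← h1] at h4
      exact Nat.le_of_mul_le_mul_left h4 hpos
    have h6 : t.range = ⊤ := by
      apply Subgroup.eq_top_of_le_card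
      have : Nat.card (Multiplicative F) = Nat.card F := rfl
      rw [this, ← co.card]
      exact h5
    intro u
    have h7 : Multiplicative.ofAdd u ∈ t.range := by rw [h6]; exact Subgroup.mem_top _
    obtain ⟨x, hx⟩ := h7
    exact ⟨x, x.2, hx⟩
  exact ⟨H₁, ρ₀, hinv, hle, hker, hsurj⟩

variable {H₁ : Subgroup P} {ρ₀ : F ≃+* F} (hm : MinDat co H₁ ρ₀)

include hm

theorem rho0_ne_one : ρ₀ ≠ 1 := by
  rintro rfl
  obtain ⟨x, hx, hx1⟩ := hm.surj 1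
  rw [cf_id co h hYab hYne] at hx1
  exact zero_ne_one hx1

theorem cf_dep {x x' : P} (hx : x ∈ H₁) (hx' : x' ∈ H₁) (he : cf co x ρ₀ = cf co x' ρ₀)
    (ρ : F ≃+* F) : cf co x ρ = cf co x' ρ := by
  have h1 : cf co (x⁻¹ * x') ρ₀ = 0 := by
    rw [cf_mul co h hYab hYne, cf_inv co h hYab hYne, he]
    exact CharTwo.add_self_eq_zero _
  have h2 := hm.ker _ (H₁.mul_mem (H₁.inv_mem hx) hx') h1
  have h3 := (cf_CC co h hYab hYne _).mp h2 ρ
  rw [cf_mul co h hYab hYne, cf_inv co h hYab hYne] at h3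
  exact CharTwo.add_eq_zero.mp h3

theorem not_CC_of_coef {x : P} (hx0 : cf co x ρ₀ ≠ 0) : x ∉ CC P :=
  fun hxC => hx0 ((cf_CC co h hYab hYne x).mp hxC ρ₀)

/-- (B) -/
theorem cf_H1 : ∀ x ∈ H₁, ∀ ρ : F ≃+* F, ρ ≠ ρ₀ → cf co x ρ = 0 := by
  classical
  obtain ⟨sec, hsec⟩ : ∃ sec : F → P, ∀ u, sec u ∈ H₁ ∧ cf co (sec u) ρ₀ = u :=
    ⟨fun u => Classical.choose (hm.surj u), fun u => Classical.choose_spec (hm.surj u)⟩
  intro x hx ρ hρ
  let c : F →+ F := AddMonoidHom.mk' (fun u => cf co (sec u) ρ) (by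
    intro u u'
    have h1 : cf co (sec (u + u')) ρ₀ = cf co (sec u * sec u') ρ₀ := by
      rw [cf_mul co h hYab hYne, (hsec u).2, (hsec u').2, (hsec (u + u')).2]
    rw [cf_dep co h hYab hYne hm (hsec (u + u')).1 (H₁.mul_mem (hsec u).1 (hsec u').1) h1 ρ,
      cf_mul co h hYab hYne])
  have hcdef : ∀ u, c u = cf co (sec u) ρ := fun _ => rfl
  have hc : ∀ l u : F, l ≠ 0 → c (l / ρ₀ l * u) = l / ρ l * c u := by
    intro l u hl
    obtain ⟨k, hk, hkl⟩ := co.ksurj l hl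
    have hρ₀l : ρ₀ l ≠ 0 := (map_ne_zero ρ₀).mpr hl
    have hρl : ρ l ≠ 0 := (map_ne_zero ρ).mpr hl
    have hkx : k (sec u) ∈ H₁ := hm.inv k hk _ (hsec u).1
    have h1 := cf_map co h hYab hYne hk (sec u) ρ₀
    rw [hkl, (hsec u).2] at h1
    have h2 : cf co (k (sec u)) ρ₀ = l / ρ₀ l * u := by
      field_simp
      exact h1
    have h3 : cf co (sec (l / ρ₀ l * u)) ρ₀ = cf co (k (sec u)) ρ₀ := by
      rw [h2, (hsec _).2]
    rw [hcdef, hcdef, cf_dep co h hYab hYne hm (hsec _).1 hkx h3 ρ]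
    have h4 := cf_map co h hYab hYne hk (sec u) ρ
    rw [hkl] at h4
    field_simp
    exact h4
  have h0 := coef_vanish ρ₀ ρ (rho0_ne_one co h hYab hYne hm) hρ c hc (cf co x ρ₀)
  rw [hcdef] at h0
  rw [← h0]
  exact cf_dep co h hYab hYne hm hx (hsec _).1 (hsec _).2.symm ρ

theorem Ef_H1 : ∀ x ∈ H₁, ∀ a : F, Ef co x a = cf co x ρ₀ * ρ₀ a := by
  intro x hx a
  rw [cf_spec co h hYab hYne]
  apply Finset.sum_eq_single ρ₀
  · intro ρ _ hρ
    rw [cf_H1 co h hYab hYne hm x hx ρ hρ, zero_mul]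
  · intro h0
    exact absurd (Finset.mem_univ _) h0

/-- (C') -/
theorem sq_H1 : ∀ x ∈ H₁, x ∉ CC P → x * x ∈ Om P := by
  intro x hx hxC
  have hu : cf co x ρ₀ ≠ 0 := fun h0 => hxC (hm.ker x hx h0)
  have hinj : ∀ a : F, Ef co x a = 0 → a = 0 := by
    intro a ha
    rw [Ef_H1 co h hYab hYne hm x hx] at ha
    rcases mul_eq_zero.mp ha with h1 | h1
    · exact absurd h1 hu
    · exact (map_eq_zero ρ₀).mp h1
  have hind : ∀ j : ℕ, ∀ c : P, c ∈ CC P → c * x = x * c → c ^ (2 ^ j) ∈ Om P → c ∈ Om P := by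
    intro j
    induction j with
    | zero =>
      intro c _ _ hc
      simpa using hc
    | succ j ih =>
      intro c hcC hcx hc
      have e : c ^ (2 ^ (j + 1)) = (c * c) ^ (2 ^ j) := by
        rw [pow_succ, pow_mul', ← pow_two]
      rw [e] at hc
      have hccx : c * c * x = x * (c * c) := by
        rw [mul_assoc, hcx, ← mul_assoc, hcx, mul_assoc]
      have hcc : c * c ∈ Om P := ih (c * c) ((CC P).mul_mem hcC hcC) hccx hc
      have hcY : c ∈ YY P := Om2_CC h hYab hYne c hcC hcc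
      have h1 : cm c x = 1 := cm_eq_one_iff.mpr hcx
      have h2 := Ef_sq co h hYab hYne hcY x
      rw [h1, co.map_one] at h2
      have h3 := hinj _ h2
      exact h.mem_Om_iff.mpr (co.inj _ hcc h3)
  obtain ⟨m, hm2⟩ := h.pg (x * x)
  have hxx : (x * x) * x = x * (x * x) := by group
  apply hind m (x * x) (sq_mem_CC x) hxx
  rw [hm2]
  exact (Om P).one_mem

theorem invert_H1 {g c : P} (hg : g ∈ H₁) (hgC : g ∉ CC P) (hc : c ∈ CC P) :
    (g⁻¹ * c * g) * c ∈ Om P := by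
  have hgc : g * c ∈ H₁ := H₁.mul_mem hg (hm.le hc)
  have hgcC : g * c ∉ CC P := by
    intro h1
    apply hgC
    have : g = (g * c) * c⁻¹ := by group
    rw [this]
    exact (CC P).mul_mem h1 ((CC P).inv_mem hc)
  have h1 := sq_H1 co h hYab hYne hm g hg hgC
  have h2 := sq_H1 co h hYab hYne hm (g * c) hgc hgcC
  have e : (g⁻¹ * c * g) * c = (g * g)⁻¹ * ((g * c) * (g * c)) := by group
  rw [e]
  exact (Om P).mul_mem ((Om P).inv_mem h1) h2

/-- (C'') -/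
theorem CC_le_YY : CC P ≤ YY P := by
  obtain ⟨a₀, ha₀⟩ := co.exists_ne h
  have ha₀0 : a₀ ≠ 0 := by
    rintro rfl
    exact ha₀ (mul_zero 0)
  have ha₀1 : (1 : F) + a₀ ≠ 0 := by
    intro h1
    have : a₀ = 1 := (CharTwo.add_eq_zero.mp h1).symm
    apply ha₀
    rw [this, mul_one]
  obtain ⟨x, hx, hx1⟩ := hm.surj 1
  obtain ⟨x', hx', hx'1⟩ := hm.surj a₀
  have hxC : x ∉ CC P := not_CC_of_coef co h hYab hYne hm (by rw [hx1]; exact one_ne_zero)
  have hx'C : x' ∉ CC P := not_CC_of_coef co h hYab hYne hm (by rw [hx'1]; exact ha₀0)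
  have hxx'C : x * x' ∉ CC P :=
    not_CC_of_coef co h hYab hYne hm (by rw [cf_mul co h hYab hYne, hx1, hx'1]; exact ha₀1)
  intro c hc
  apply Om2_CC h hYab hYne c hc
  obtain ⟨z₁, hz₁def⟩ : ∃ z₁, z₁ = (x⁻¹ * c * x) * c := ⟨_, rfl⟩
  obtain ⟨z₂, hz₂def⟩ : ∃ z₂, z₂ = (x'⁻¹ * c * x') * c := ⟨_, rfl⟩
  obtain ⟨z₃, hz₃def⟩ : ∃ z₃, z₃ = ((x * x')⁻¹ * c * (x * x')) * c := ⟨_, rfl⟩
  have hz₁ : z₁ ∈ Om P := by rw [hz₁def]; exact invert_H1 co h hYab hYne hm hx hxC hc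
  have hz₂ : z₂ ∈ Om P := by rw [hz₂def]; exact invert_H1 co h hYab hYne hm hx' hx'C hc
  have hz₃ : z₃ ∈ Om P := by
    rw [hz₃def]; exact invert_H1 co h hYab hYne hm (H₁.mul_mem hx hx') hxx'C hc
  have e1 : x⁻¹ * c * x = z₁ * c⁻¹ := by rw [hz₁def]; group
  have e2 : x'⁻¹ * c⁻¹ * x' = c * z₂⁻¹ := by rw [hz₂def]; group
  have e3 : z₃ = x'⁻¹ * (x⁻¹ * c * x) * x' * c := by rw [hz₃def]; group
  rw [e1] at e3
  have e4 : x'⁻¹ * (z₁ * c⁻¹) * x' * c = z₁ * (x'⁻¹ * c⁻¹ * x') * c := by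
    have h1 : x'⁻¹ * z₁ = z₁ * x'⁻¹ := (Om_comm hz₁ _).symm
    calc x'⁻¹ * (z₁ * c⁻¹) * x' * c = (x'⁻¹ * z₁) * c⁻¹ * x' * c := by group
      _ = (z₁ * x'⁻¹) * c⁻¹ * x' * c := by rw [h1]
      _ = _ := by group
  rw [e4, e2] at e3
  have e5 : z₁ * (c * z₂⁻¹) * c = z₁ * z₂⁻¹ * (c * c) := by
    have h1 : c * z₂⁻¹ = z₂⁻¹ * c := (Om_comm ((Om P).inv_mem hz₂) _).symm
    rw [h1]; group
  rw [e5] at e3
  have e6 : c * c = z₂ * z₁⁻¹ * z₃ := by rw [e3]; group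
  rw [e6]
  exact (Om P).mul_mem ((Om P).mul_mem hz₂ ((Om P).inv_mem hz₁)) hz₃

omit hm in
/-- (R1) -/
theorem R1 (hCY : CC P ≤ YY P) (x x' : P) :
    Ef co x' (co.ι ((x * x) * (x * x))) =
      co.ι (cm x x' * cm x x') + Ef co x (co.ι (cm x x' * cm x x')) := by
  obtain ⟨w, hwdef⟩ : ∃ w, w = cm x x' := ⟨_, rfl⟩
  obtain ⟨ζ, hζdef⟩ : ∃ ζ, ζ = cm w x := ⟨_, rfl⟩
  have hwY : w ∈ YY P := by
    apply hCY
    have e : w = (x * x)⁻¹ * ((x * x'⁻¹) * (x * x'⁻¹)) * (x' * x') := by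
      rw [hwdef]; unfold cm; group
    rw [e]
    exact (CC P).mul_mem ((CC P).mul_mem ((CC P).inv_mem (sq_mem_CC x)) (sq_mem_CC _))
      (sq_mem_CC x')
  have hx2 : x * x ∈ YY P := hCY (sq_mem_CC x)
  have hζ : ζ ∈ Om P := by rw [hζdef]; exact cm_YY_mem hwY x
  have hww : w * w ∈ Om P := sq_YY_mem hwY
  rw [← hwdef, Ef_sq co h hYab hYne hx2 x', Ef_sq co h hYab hYne hwY x, ← hζdef,
    ← co.add _ hww _ hζ]
  congr 1
  have e1 : x'⁻¹ * x * x' = x * w := by rw [hwdef]; unfold cm; group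
  have e2 : x⁻¹ * w * x = w * ζ := by rw [hζdef]; unfold cm; group
  have e3 : cm (x * x) x' = (x * x)⁻¹ * ((x'⁻¹ * x * x') * (x'⁻¹ * x * x')) := by
    unfold cm; group
  rw [e3, e1]
  have e4 : (x * w) * (x * w) = x * x * ((x⁻¹ * w * x) * w) := by group
  rw [e4, e2]
  have e5 : w * ζ * w = w * w * ζ := by
    rw [mul_assoc, Om_comm hζ w, ← mul_assoc]
  rw [e5]
  group

/-- the contradiction -/
theorem caseB_false : False := by
  classical
  have hCY := CC_le_YY co h hYab hYne hm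
  have hYC := YY_le_CC h hYab hYne
  obtain ⟨x₁, hx₁, hx₁1⟩ := hm.surj 1
  have hx₁C : x₁ ∉ CC P := not_CC_of_coef co h hYab hYne hm (by rw [hx₁1]; exact one_ne_zero)
  have hx₁Y : x₁ ∉ YY P := fun h1 => hx₁C (hYC h1)
  have hx₁sq : x₁ * x₁ ∈ Om P := sq_H1 co h hYab hYne hm x₁ hx₁ hx₁C
  have hg : ∃ g, cm x₁ g ∉ Om P := by
    by_contra hcon
    push Not at hcon
    exact hx₁Y (mem_YY.mpr ⟨hx₁sq, hcon⟩)
  obtain ⟨g, hg⟩ := hg
  -- the function γ
  obtain ⟨γ, hγdef⟩ : ∃ γ : P → F, ∀ x, γ x = co.ι (cm x g * cm x g) := ⟨_, fun _ => rfl⟩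
  have hcmY : ∀ x x' : P, cm x x' ∈ YY P := by
    intro x x'
    apply hCY
    have e : cm x x' = (x * x)⁻¹ * ((x * x'⁻¹) * (x * x'⁻¹)) * (x' * x') := by
      unfold cm; group
    rw [e]
    exact (CC P).mul_mem ((CC P).mul_mem ((CC P).inv_mem (sq_mem_CC x)) (sq_mem_CC _))
      (sq_mem_CC x')
  have hγmul : ∀ x x'' : P, γ (x * x'') = γ x + γ x'' := by
    intro x x''
    obtain ⟨w₁, hw₁def⟩ : ∃ w₁, w₁ = cm x g := ⟨_, rfl⟩
    obtain ⟨w₂, hw₂def⟩ : ∃ w₂, w₂ = cm x'' g := ⟨_, rfl⟩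
    obtain ⟨ζ, hζdef⟩ : ∃ ζ, ζ = cm w₁ x'' := ⟨_, rfl⟩
    have hw₁ : w₁ ∈ YY P := by rw [hw₁def]; exact hcmY x g
    have hw₂ : w₂ ∈ YY P := by rw [hw₂def]; exact hcmY x'' g
    have hζ : ζ ∈ Om P := by rw [hζdef]; exact cm_YY_mem hw₁ x''
    have e1 : cm (x * x'') g = x''⁻¹ * w₁ * x'' * w₂ := by
      rw [hw₁def, hw₂def]; unfold cm; group
    have e2 : x''⁻¹ * w₁ * x'' = w₁ * ζ := by rw [hζdef]; unfold cm; group
    have e3 : w₁ * ζ * w₂ = (w₁ * w₂) * ζ := by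
      rw [mul_assoc, Om_comm hζ w₂, ← mul_assoc]
    have hζ2 : ζ * ζ = 1 := h.mem_Om_iff.mp hζ
    have e4 : ((w₁ * w₂) * ζ) * ((w₁ * w₂) * ζ) = (w₁ * w₂) * (w₁ * w₂) := by
      have h1 : ζ * (w₁ * w₂) = (w₁ * w₂) * ζ := Om_comm hζ _
      calc ((w₁ * w₂) * ζ) * ((w₁ * w₂) * ζ) = (w₁ * w₂) * (ζ * (w₁ * w₂)) * ζ := by group
        _ = (w₁ * w₂) * ((w₁ * w₂) * ζ) * ζ := by rw [h1]
        _ = (w₁ * w₂) * (w₁ * w₂) * (ζ * ζ) := by group
        _ = _ := by rw [hζ2, mul_one]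
    rw [hγdef, hγdef, hγdef, e1, e2, e3, e4, sq_mul_YY hYab hw₁ hw₂, ← hw₁def, ← hw₂def,
      co.add _ (sq_YY_mem hw₁) _ (sq_YY_mem hw₂)]
  have hγY : ∀ y ∈ YY P, γ y = 0 := by
    intro y hy
    have h1 : cm y g ∈ Om P := cm_YY_mem hy g
    rw [hγdef, h.mem_Om_iff.mp h1, co.map_one]
  have hγdep : ∀ x ∈ H₁, ∀ x' ∈ H₁, cf co x ρ₀ = cf co x' ρ₀ → γ x = γ x' := by
    intro x hx x' hx' he
    have h1 : cf co (x⁻¹ * x') ρ₀ = 0 := by
      rw [cf_mul co h hYab hYne, cf_inv co h hYab hYne, he]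
      exact CharTwo.add_self_eq_zero _
    have h2 := hCY (hm.ker _ (H₁.mul_mem (H₁.inv_mem hx) hx') h1)
    have e : x' = x * (x⁻¹ * x') := by group
    rw [e, hγmul, hγY _ h2, add_zero]
  obtain ⟨sec, hsec⟩ : ∃ sec : F → P, ∀ u, sec u ∈ H₁ ∧ cf co (sec u) ρ₀ = u :=
    ⟨fun u => Classical.choose (hm.surj u), fun u => Classical.choose_spec (hm.surj u)⟩
  let φ : F →+ F := AddMonoidHom.mk' (fun u => γ (sec u)) (by
    intro u u'
    have h1 : cf co (sec (u + u')) ρ₀ = cf co (sec u * sec u') ρ₀ := by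
      rw [cf_mul co h hYab hYne, (hsec u).2, (hsec u').2, (hsec (u + u')).2]
    rw [hγdep _ (hsec (u + u')).1 _ (H₁.mul_mem (hsec u).1 (hsec u').1) h1, hγmul])
  have hφdef : ∀ u, φ u = γ (sec u) := fun _ => rfl
  have hφeq : ∀ x ∈ H₁, φ (cf co x ρ₀) = γ x := by
    intro x hx
    rw [hφdef]
    exact hγdep _ (hsec _).1 _ hx (hsec _).2
  -- squares of elements of H₁ are in Om
  have hsqH₁ : ∀ x ∈ H₁, (x * x) * (x * x) = 1 := by
    intro x hx
    apply h.mem_Om_iff.mp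
    by_cases hxC : x ∈ CC P
    · exact sq_YY_mem (hCY hxC)
    · exact sq_H1 co h hYab hYne hm x hx hxC
  -- (a)
  have ha : ∀ u : F, u * ρ₀ (φ u) = φ u := by
    intro u
    obtain ⟨hxH, hxu⟩ := hsec u
    have h1 := R1 co h hYab hYne hCY (sec u) g
    rw [hsqH₁ _ hxH, co.map_one, Ef_zero co h hYab hYne, ← hγdef,
      Ef_H1 co h hYab hYne hm _ hxH, hxu, ← hφdef] at h1
    have h2 : u * ρ₀ (φ u) + φ u = 0 := by rw [add_comm]; exact h1.symm
    exact CharTwo.add_eq_zero.mp h2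
  have hφ1 : φ 1 ≠ 0 := by
    have h1 := hφeq x₁ hx₁
    rw [hx₁1] at h1
    rw [h1, hγdef]
    intro h0
    have hw : cm x₁ g ∈ YY P := hcmY x₁ g
    exact hg (h.mem_Om_iff.mpr (co.inj _ (sq_YY_mem hw) h0))
  obtain ⟨hρ₀, hφ⟩ := phi_frob ρ₀ φ ha hφ1
  -- (b')
  have hb : ∀ u : F, u * ρ₀ (co.ι ((g * g) * (g * g))) =
      φ 1 * (u * u) + ∑ ρ, cf co g ρ * ρ (φ 1 * (u * u)) := by
    intro u
    obtain ⟨hxH, hxu⟩ := hsec u
    have h1 := R1 co h hYab hYne hCY g (sec u)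
    have hw : cm (sec u) g ∈ YY P := hcmY _ g
    have e1 : cm g (sec u) * cm g (sec u) = cm (sec u) g * cm (sec u) g := by
      rw [cm_inv (sec u) g]
      have e2 : (cm (sec u) g)⁻¹ * (cm (sec u) g)⁻¹ = (cm (sec u) g * cm (sec u) g)⁻¹ := by
        group
      rw [e2, Om_inv_self h (sq_YY_mem hw)]
    rw [e1, ← hγdef, ← hφdef, Ef_H1 co h hYab hYne hm _ hxH, hxu, cf_spec co h hYab hYne g,
      hφ u] at h1
    exact h1
  exact final_contra (co.exists_ne h) (φ 1) _ hφ1 (cf co g) (cf_id co h hYab hYne g) hb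

end main

/-- **Higman**: in a nonabelian Suzuki 2-group all squares are central involutions. -/
theorem higman_sq (h : SD P K) (hna : ∃ x y : P, x * y ≠ y * x) : ∀ x : P, x * x ∈ Om P := by
  classical
  by_cases hYab : ∀ a ∈ YY P, ∀ b ∈ YY P, a * b = b * a
  · exfalso
    have hYne := exists_YY_not_Om h hna
    obtain ⟨n, ⟨co⟩⟩ := exists_coord h
    letI : Fintype (GaloisField 2 n) := Fintype.ofFinite _
    haveI := Sz2B.finite_aut (F := GaloisField 2 n)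
    letI : Fintype (GaloisField 2 n ≃+* GaloisField 2 n) := Fintype.ofFinite _
    obtain ⟨H₁, ρ₀, hm⟩ := exists_minDat co h hYab hYne hna
    exact caseB_false co h hYab hYne hm
  · push Not at hYab
    exact caseA h hYab

theorem higman_cm (h : SD P K) (hna : ∃ x y : P, x * y ≠ y * x) (x g : P) : cm x g ∈ Om P :=
  cm_mem_of_sq (higman_sq h hna) x g

end Cfsg.Agent.Lib.Helper1.Hg
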