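import Mathlib
import Cfsg.Agent.Lib.Helper1.Hg7

set_option autoImplicit false
set_option maxHeartbeats 4000000
set_option linter.unusedVariables false
set_option linter.unusedSectionVars false
set_option linter.style.longLine false

/-!
# Higman's theorem: order and exponent of a Suzuki 2-group
-/

namespace Cfsg.Agent.Lib.Helper1.Hg

open Cfsg.Agent.Lib.Lead.Sz2D Cfsg.Agent.Lib.Lead

universe u

variable {P : Type u} [Group P] {K : Subgroup (MulAut P)}

theorem finite_mulAut [Finite P] : Finite (MulAut P) :=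
  Finite.of_injective (fun f : MulAut P => (f : P → P)) (fun f g hfg => MulEquiv.ext (congrFun hfg))

theorem card_sub_ne_one {α : Type*} [Finite α] (a : α) :
    Nat.card {x : α // x ≠ a} = Nat.card α - 1 := by
  classical
  have h := Nat.card_congr (Equiv.sumCompl (fun x : α => x = a))
  rw [Nat.card_sum] at h
  have h1 : Nat.card {x : α // x = a} = 1 := by
    rw [Nat.card_eq_one_iff_unique]
    exact ⟨⟨fun x y => Subtype.ext (x.2.trans y.2.symm)⟩, ⟨⟨a, rfl⟩⟩⟩
  rw [h1] at h
  have : Nat.card {x : α // x ≠ a} = Nat.card {x : α // ¬ x = a} := rfl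
  omega

/-- `|K| = q - 1` -/
theorem card_K (h : SD P K) : Nat.card K = Nat.card (Om P) - 1 := by
  classical
  haveI := h.fin
  obtain ⟨z₀, hz₀1, hz₀2⟩ := exists_base h
  rw [← card_sub_ne_one (1 : Om P)]
  let f : K → {z : Om P // z ≠ 1} := fun k =>
    ⟨⟨k.1 z₀, map_Om k.1 (h.mem_Om_iff.mpr hz₀2)⟩, by
      intro h1
      have h2 : k.1 z₀ = 1 := congrArg Subtype.val h1
      apply hz₀1
      have h3 : k.1 z₀ = k.1 1 := by rw [h2, map_one]
      exact k.1.injective h3⟩
  apply Nat.card_congr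
  apply Equiv.ofBijective f
  constructor
  · intro k k' hkk
    have h1 : k.1 z₀ = k'.1 z₀ := congrArg (fun z : {z : Om P // z ≠ 1} => ((z : Om P) : P)) hkk
    have h2 : (k'.1⁻¹ * k.1) z₀ = z₀ := by
      rw [MulAut.mul_apply, h1, MulAut.inv_apply_self]
    have h3 := h.semi_gen (K.mul_mem (K.inv_mem k'.2) k.2) hz₀1 h2
    apply Subtype.ext
    have h4 : k'.1 * (k'.1⁻¹ * k.1) = k'.1 * 1 := by rw [h3]
    rw [mul_inv_cancel_left, mul_one] at h4
    exact h4
  · rintro ⟨z, hz⟩
    have hz1 : z.1 ≠ 1 := fun h1 => hz (Subtype.ext h1)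
    obtain ⟨k, hk, hkz⟩ := h.trans z₀ z.1 hz₀1 hz₀2 hz1 z.2.2
    exact ⟨⟨k, hk⟩, Subtype.ext (Subtype.ext hkz)⟩

/-- orbit counting: `|K|` divides `|P| - 1` -/
theorem card_K_dvd (h : SD P K) : Nat.card K ∣ Nat.card P - 1 := by
  classical
  haveI := h.fin
  haveI : Finite (MulAut P) := finite_mulAut
  letI : Fintype K := Fintype.ofFinite _
  letI : Fintype P := Fintype.ofFinite _
  have hB := MulAction.sum_card_fixedBy_eq_card_orbits_mul_card_group K P
  have hfix : ∀ k : K, Fintype.card (MulAction.fixedBy P k) =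
      1 + (if k = 1 then Fintype.card P - 1 else 0) := by
    intro k
    by_cases hk : k = 1
    · subst hk
      rw [if_pos rfl]
      have h1 : MulAction.fixedBy P (1 : K) = Set.univ := by
        ext x
        simp [MulAction.mem_fixedBy]
      have h2 : Fintype.card (MulAction.fixedBy P (1 : K)) = Fintype.card P := by
        rw [← Nat.card_eq_fintype_card, ← Nat.card_eq_fintype_card, h1]
        exact Nat.card_congr (Equiv.Set.univ P)
      rw [h2]
      have : 0 < Fintype.card P := Fintype.card_pos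
      omega
    · rw [if_neg hk, add_zero]
      have h1 : MulAction.fixedBy P k = {1} := by
        ext x
        rw [MulAction.mem_fixedBy, Set.mem_singleton_iff]
        constructor
        · intro hx
          by_contra hx1
          have hx' : k.1 x = x := hx
          exact hk (Subtype.ext (h.semi_gen k.2 hx1 hx'))
        · rintro rfl
          show k.1 1 = 1
          exact map_one _
      rw [← Nat.card_eq_fintype_card, h1]
      simp
  rw [Finset.sum_congr rfl (fun k _ => hfix k), Finset.sum_add_distrib, Finset.sum_const,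
    Finset.sum_ite_eq' Finset.univ (1 : K) (fun _ => Fintype.card P - 1), if_pos (Finset.mem_univ _),
    Finset.card_univ, smul_eq_mul, mul_one] at hB
  rw [Nat.card_eq_fintype_card, Nat.card_eq_fintype_card]
  exact (Nat.dvd_add_right (dvd_refl _)).mp ⟨_, by rw [hB, mul_comm]⟩

/-- the numerical lemma -/
theorem pow_two_cases {n M : ℕ} (hn : 1 ≤ n) (h1 : 2 * n ≤ M) (h2 : M ≤ 3 * n)
    (hdvd : 2 ^ n - 1 ∣ 2 ^ M - 1) : M = 2 * n ∨ M = 3 * n := by
  obtain ⟨r, rfl⟩ : ∃ r, M = 2 * n + r := ⟨M - 2 * n, by omega⟩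
  have hr : r ≤ n := by omega
  by_cases hrn : r = n
  · right; omega
  · left
    have hrlt : r < n := lt_of_le_of_ne hr hrn
    obtain ⟨m, hm⟩ : ∃ m, m = 2 ^ n - 1 := ⟨_, rfl⟩
    have hpos : 1 ≤ 2 ^ n := Nat.one_le_two_pow
    have h2n : 2 ^ n = m + 1 := by omega
    have hmod1 : 2 ^ n ≡ 1 [MOD m] := by
      rw [h2n]
      simp [Nat.ModEq]
    have hmod2 : 2 ^ (2 * n + r) ≡ 2 ^ r [MOD m] := by
      have e : 2 ^ (2 * n + r) = (2 ^ n) ^ 2 * 2 ^ r := by
        rw [pow_add, mul_comm 2 n, pow_mul]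
      rw [e]
      have := (hmod1.pow 2).mul_right (2 ^ r)
      simpa using this
    have hmod3 : 1 ≡ 2 ^ (2 * n + r) [MOD m] := by
      rw [Nat.modEq_iff_dvd' Nat.one_le_two_pow, hm]
      exact hdvd
    have hmod4 : 1 ≡ 2 ^ r [MOD m] := hmod3.trans hmod2
    have hd : m ∣ 2 ^ r - 1 := (Nat.modEq_iff_dvd' Nat.one_le_two_pow).mp hmod4
    have hlt : 2 ^ r < 2 ^ n := Nat.pow_lt_pow_right (by norm_num) hrlt
    have hr1 : 1 ≤ 2 ^ r := Nat.one_le_two_pow
    have h0 : 2 ^ r - 1 = 0 := Nat.eq_zero_of_dvd_of_lt hd (by omega)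
    have h3 : 2 ^ r = 1 := by omega
    have h4 : r = 0 := by
      by_contra hr0
      have : 2 ^ 1 ≤ 2 ^ r := Nat.pow_le_pow_right (by norm_num) (Nat.one_le_iff_ne_zero.mpr hr0)
      omega
    omega

/-- the order of a nonabelian Suzuki 2-group -/
theorem card_cases (h : SD P K) (hna : ∃ x y : P, x * y ≠ y * x) :
    Nat.card P = Nat.card (Om P) ^ 2 ∨ Nat.card P = Nat.card (Om P) ^ 3 := by
  haveI := h.fin
  haveI : Fact (Nat.Prime 2) := ⟨Nat.prime_two⟩
  obtain ⟨M, hM⟩ := (IsPGroup.iff_card (p := 2)).mp h.pg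
  obtain ⟨n, hn⟩ := (IsPGroup.iff_card (p := 2)).mp (h.pg.to_subgroup (Om P))
  have htop : Nat.card (⊤ : Subgroup P) = Nat.card P := Subgroup.card_top
  have hlow : Nat.card (Om P) * Nat.card (Om P) ≤ Nat.card P := by
    rw [← htop]
    exact card_mul_le h (inv_top K) (inv_Om K) le_top (exists_not_Om hna)
  have hup : Nat.card P ≤ Nat.card (Om P) ^ 3 := by
    rw [← htop]
    exact card_le_cube h le_top (fun x _ => higman_sq h hna x)
  have hdvd : Nat.card (Om P) - 1 ∣ Nat.card P - 1 := by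
    rw [← card_K h]
    exact card_K_dvd h
  rw [hM, hn] at hlow hup hdvd ⊢
  have hn1 : 1 ≤ n := by
    by_contra hn0
    have hn0' : n = 0 := by omega
    obtain ⟨x, hx, hx1⟩ := h.Om_ne_bot
    have h1 : Nat.card (Om P) = 1 := by rw [hn, hn0', pow_zero]
    have := (Nat.card_eq_one_iff_unique.mp h1).1
    exact hx1 (congrArg Subtype.val (Subsingleton.elim (⟨x, hx⟩ : Om P) 1))
  have h1 : 2 * n ≤ M := by
    rw [← pow_add] at hlow
    have := (Nat.pow_le_pow_iff_right (by norm_num : 1 < 2)).mp hlow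
    omega
  have h2 : M ≤ 3 * n := by
    rw [← pow_mul] at hup
    have := (Nat.pow_le_pow_iff_right (by norm_num : 1 < 2)).mp hup
    omega
  rcases pow_two_cases hn1 h1 h2 hdvd with h3 | h3
  · left
    rw [h3, ← pow_mul, mul_comm]
  · right
    rw [h3, ← pow_mul, mul_comm]

theorem Om_eq_center (hP : Cfsg.IsSuzukiTwoGroup P) : Om P = Subgroup.center P := by
  apply le_antisymm
  · intro x hx
    exact (mem_Om.mp hx).1
  · intro x hx
    exact mem_Om.mpr ⟨hx, (involutions_central hP).2 x hx⟩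

/-- the statement S1138 -/
theorem suzuki_central_quotient (hP : Cfsg.IsSuzukiTwoGroup P) :
    (∀ x : P, x * x ∈ Subgroup.center P) ∧
      (∀ x y : P, x⁻¹ * y⁻¹ * x * y ∈ Subgroup.center P) ∧
      (Nat.card P = Nat.card (Subgroup.center P) ^ 2 ∨
        Nat.card P = Nat.card (Subgroup.center P) ^ 3) ∧
      Monoid.exponent P = 4 := by
  obtain ⟨K, h⟩ := suzuki_SD hP
  have hna : ∃ x y : P, x * y ≠ y * x := hP.2.2.1
  have hOC := Om_eq_center hP
  have hsq := higman_sq h hna
  refine ⟨?_, ?_, ?_, ?_⟩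
  · intro x
    rw [← hOC]
    exact hsq x
  · intro x y
    rw [← hOC]
    have e : x⁻¹ * y⁻¹ * x * y = cm x y := by unfold cm; group
    rw [e]
    exact higman_cm h hna x y
  · rw [← hOC]
    exact card_cases h hna
  · have h4 : ∀ x : P, x ^ 4 = 1 := by
      intro x
      have h1 := h.mem_Om_iff.mp (hsq x)
      have e : x ^ 4 = (x * x) * (x * x) := by
        rw [show (4 : ℕ) = 2 * 2 from rfl, pow_mul, pow_two, pow_two]
      rw [e, h1]
    have hdvd : Monoid.exponent P ∣ 4 := Monoid.exponent_dvd_of_forall_pow_eq_one h4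
    have hex : ∃ x : P, x ^ 2 ≠ 1 := by
      by_contra hcon
      push Not at hcon
      obtain ⟨x, y, hxy⟩ := hna
      apply hxy
      have hxO : x ∈ Om P := h.mem_Om_iff.mpr (by rw [← pow_two]; exact hcon x)
      exact Om_comm hxO y
    obtain ⟨x, hx⟩ := hex
    have h22 : (4 : ℕ) = 2 ^ 2 := by norm_num
    rw [h22] at hdvd
    obtain ⟨j, hj, hje⟩ := (Nat.dvd_prime_pow Nat.prime_two).mp hdvd
    have hpow : x ^ Monoid.exponent P = 1 := Monoid.pow_exponent_eq_one x
    interval_cases j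
    · exfalso
      rw [hje, pow_zero, pow_one] at hpow
      apply hx
      rw [hpow, one_pow]
    · exfalso
      rw [hje, pow_one] at hpow
      exact hx hpow
    · rw [hje]; norm_num

end Cfsg.Agent.Lib.Helper1.Hg
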