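import Mathlib
import Cfsg.Agent.Lib.Helper1.Hg8
import Cfsg.Agent.Lib.Helper9.NormalSylowAut

set_option autoImplicit false
set_option maxHeartbeats 4000000
set_option linter.unusedVariables false
set_option linter.unusedSectionVars false
set_option linter.style.longLine false

/-!
# Suzuki 2-groups are resistant

If all involutions of `S` are central and all commutators of `S` have order at most two, then for
every subgroup `P ≤ S` the automorphisms induced by `S` on `P` lie in a normal 2-subgroup of `Aut P`;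
hence in a saturated fusion system on `S` every fully normalized subgroup has an automizer with a
normal Sylow 2-subgroup, and `S` is normal in the fusion system.
-/

namespace Cfsg.Agent.Lib.Helper1.Hg

open Cfsg Cfsg.FusionSystem

variable {Ω : Type*} [Group Ω] {S : Subgroup Ω}

section stab

variable (P : Subgroup Ω) (hPS : P ≤ S)
  (H1 : ∀ x ∈ S, x * x = 1 → ∀ y ∈ S, x * y = y * x)

/-- the elements of order at most two of `P` -/
def ZP (hPS : P ≤ S) (H1 : ∀ x ∈ S, x * x = 1 → ∀ y ∈ S, x * y = y * x) : Subgroup P where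
  carrier := {x | (x : Ω) * x = 1}
  one_mem' := by simp
  mul_mem' := by
    intro a b ha hb
    have ha' : (a : Ω) * a = 1 := ha
    have hb' : (b : Ω) * b = 1 := hb
    have hab : (a : Ω) * b = b * a := H1 a (hPS a.2) ha' b (hPS b.2)
    show ((a : Ω) * b) * (a * b) = 1
    calc ((a : Ω) * b) * (a * b) = a * (b * a) * b := by group
      _ = a * (a * b) * b := by rw [hab]
      _ = (a * a) * (b * b) := by group
      _ = 1 := by rw [ha', hb', one_mul]
  inv_mem' := by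
    intro a ha
    have ha' : (a : Ω) * a = 1 := ha
    show ((a⁻¹ : P) : Ω) * ((a⁻¹ : P) : Ω) = 1
    rw [Subgroup.coe_inv]
    have : (a : Ω)⁻¹ * (a : Ω)⁻¹ = ((a : Ω) * a)⁻¹ := by group
    rw [this, ha', inv_one]

theorem mem_ZP {x : P} : x ∈ ZP P hPS H1 ↔ (x : Ω) * x = 1 := Iff.rfl

theorem map_mem_ZP (β : MulAut P) {z : P} (hz : z ∈ ZP P hPS H1) : β z ∈ ZP P hPS H1 := by
  rw [mem_ZP] at hz ⊢
  have h1 : z * z = 1 := Subtype.ext hz
  have h2 : β z * β z = 1 := by rw [← map_mul, h1, map_one]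
  exact congrArg Subtype.val h2

/-- the stability group of `1 ≤ ZP ≤ P` -/
def NP (hPS : P ≤ S) (H1 : ∀ x ∈ S, x * x = 1 → ∀ y ∈ S, x * y = y * x) : Subgroup (MulAut P) where
  carrier := {α | (∀ z ∈ ZP P hPS H1, α z = z) ∧ ∀ x, α x * x⁻¹ ∈ ZP P hPS H1}
  one_mem' := ⟨fun z _ => rfl, fun x => by
    rw [MulAut.one_apply, mul_inv_cancel]; exact (ZP P hPS H1).one_mem⟩
  mul_mem' := by
    rintro α β ⟨hα1, hα2⟩ ⟨hβ1, hβ2⟩
    refine ⟨fun z hz => ?_, fun x => ?_⟩
    · rw [MulAut.mul_apply, hβ1 z hz, hα1 z hz]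
    · rw [MulAut.mul_apply]
      have e : α (β x) * x⁻¹ = (α (β x) * (β x)⁻¹) * (β x * x⁻¹) := by group
      rw [e]
      exact (ZP P hPS H1).mul_mem (hα2 (β x)) (hβ2 x)
  inv_mem' := by
    rintro α ⟨hα1, hα2⟩
    refine ⟨fun z hz => ?_, fun x => ?_⟩
    · have h1 := hα1 z hz
      have h2 : α⁻¹ (α z) = α⁻¹ z := by rw [h1]
      rw [MulAut.inv_apply_self] at h2
      exact h2.symm
    · have h1 := hα2 (α⁻¹ x)
      rw [MulAut.apply_inv_self] at h1
      have h2 := (ZP P hPS H1).inv_mem h1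
      have e : (x * (α⁻¹ x)⁻¹)⁻¹ = α⁻¹ x * x⁻¹ := by group
      rw [e] at h2
      exact h2

theorem NP_normal : (NP P hPS H1).Normal := by
  constructor
  rintro α ⟨hα1, hα2⟩ β
  refine ⟨fun z hz => ?_, fun x => ?_⟩
  · rw [MulAut.mul_apply, MulAut.mul_apply, hα1 _ (map_mem_ZP P hPS H1 β⁻¹ hz),
      MulAut.apply_inv_self]
  · rw [MulAut.mul_apply, MulAut.mul_apply]
    have h1 := map_mem_ZP P hPS H1 β (hα2 (β⁻¹ x))
    rw [map_mul, map_inv, MulAut.apply_inv_self] at h1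
    exact h1

theorem NP_sq {α : MulAut P} (hα : α ∈ NP P hPS H1) : α ^ 2 = 1 := by
  obtain ⟨hα1, hα2⟩ := hα
  apply MulEquiv.ext
  intro x
  rw [pow_two, MulAut.mul_apply, MulAut.one_apply]
  have hz := hα2 x
  have e : α x = (α x * x⁻¹) * x := by group
  have h1 : α (α x) = α (α x * x⁻¹) * α x := by
    conv_lhs => rw [e]
    rw [map_mul]
  rw [h1, hα1 _ hz]
  have h2 : (α x * x⁻¹) * (α x * x⁻¹) = 1 := Subtype.ext ((mem_ZP P hPS H1).mp hz)
  calc α x * x⁻¹ * α x = (α x * x⁻¹) * (α x * x⁻¹) * x := by group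
    _ = x := by rw [h2, one_mul]

theorem NP_isPGroup : IsPGroup 2 (NP P hPS H1) := by
  intro α
  refine ⟨1, ?_⟩
  apply Subtype.ext
  rw [pow_one, Subgroup.coe_pow]
  exact NP_sq P hPS H1 α.2

theorem autInducedBy_le_NP (H2 : ∀ x ∈ S, ∀ y ∈ S, (x * y * x⁻¹ * y⁻¹) * (x * y * x⁻¹ * y⁻¹) = 1) :
    autInducedBy S P ≤ NP P hPS H1 := by
  unfold autInducedBy
  rw [Subgroup.closure_le]
  rintro α ⟨g, hg, hα⟩
  refine ⟨fun z hz => ?_, fun x => ?_⟩
  · apply Subtype.ext
    rw [hα z]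
    have h1 : (z : Ω) * g = g * z := H1 z (hPS z.2) ((mem_ZP P hPS H1).mp hz) g hg
    calc g * (z : Ω) * g⁻¹ = (g * z) * g⁻¹ := by group
      _ = (z * g) * g⁻¹ := by rw [h1]
      _ = z := by group
  · rw [mem_ZP]
    have e : ((α x * x⁻¹ : P) : Ω) = g * x * g⁻¹ * (x : Ω)⁻¹ := by
      rw [Subgroup.coe_mul, Subgroup.coe_inv, hα x]
    rw [e]
    exact H2 g hg x (hPS x.2)

end stab

/-- the abstract resistance criterion -/
theorem normal_of_class_two [Finite S] (hS : IsPGroup 2 S) (F : FusionSystem S)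
    (hF : F.IsSaturated 2)
    (H1 : ∀ x ∈ S, x * x = 1 → ∀ y ∈ S, x * y = y * x)
    (H2 : ∀ x ∈ S, ∀ y ∈ S, (x * y * x⁻¹ * y⁻¹) * (x * y * x⁻¹ * y⁻¹) = 1) : F.IsNormal S := by
  haveI : Fact (Nat.Prime 2) := ⟨Nat.prime_two⟩
  apply Cfsg.Agent.Lib.Helper9.top_normal_of_normal_sylow_auts 2 hS F hF
  intro P hPn hPc hPr
  obtain ⟨hPS, R, hR⟩ := Cfsg.Agent.Lib.Helper9.fullyAutomized_of_fullyNormalized hS F hF hPn
  refine ⟨R, ?_⟩
  haveI hNn : (NP P hPS H1).Normal := NP_normal P hPS H1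
  obtain ⟨N', hN'def⟩ : ∃ N' : Subgroup (F.autGroup P), N' = (NP P hPS H1).subgroupOf (F.autGroup P) :=
    ⟨_, rfl⟩
  haveI hN'n : N'.Normal := by
    rw [hN'def]
    exact Subgroup.Normal.subgroupOf hNn _
  have hN'p : IsPGroup 2 N' := by
    intro α
    refine ⟨1, ?_⟩
    have hα : (α : F.autGroup P).1 ∈ NP P hPS H1 := by
      have h0 : (α : F.autGroup P) ∈ (NP P hPS H1).subgroupOf (F.autGroup P) := hN'def ▸ α.2
      exact Subgroup.mem_subgroupOf.mp h0
    apply Subtype.ext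
    apply Subtype.ext
    rw [pow_one, Subgroup.coe_pow, Subgroup.coe_pow]
    exact NP_sq P hPS H1 hα
  have hRN : (R : Subgroup (F.autGroup P)) ≤ N' := by
    rw [hR, hN'def]
    intro α hα
    rw [Subgroup.mem_subgroupOf] at hα ⊢
    exact autInducedBy_le_NP P hPS H1 H2 hα
  have hNR : N' ≤ (R : Subgroup (F.autGroup P)) := by
    have h1 : IsPGroup 2 ((R : Subgroup (F.autGroup P)) ⊔ N' : Subgroup (F.autGroup P)) :=
      R.isPGroup'.to_sup_of_normal_right hN'p
    have h2 := R.is_maximal' h1 le_sup_left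
    rw [← h2]
    exact le_sup_right
  have hEq : (R : Subgroup (F.autGroup P)) = N' := le_antisymm hRN hNR
  rw [hEq]
  exact hN'n

end Cfsg.Agent.Lib.Helper1.Hg
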