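import Mathlib
import Cfsg.Agent.Lib.Helper1.SupersolvablePrime
set_option autoImplicit false
open scoped Pointwise commutatorElement
open Cfsg
universe u
namespace Cfsg.Agent.Lib.Helper1.Huppert

/-- commutators and `(p-1)`-th powers of `p'`-order centralize normal `p`-subgroups -/
def ActsTrivially (X : Type u) [Group X] : Prop :=
  Finite X → ∀ (p : ℕ), p.Prime → ∀ (Y : Subgroup X), Y.Normal → IsPGroup p Y → ∀ d : X,
    (orderOf d).Coprime p → ((∃ k₁ k₂ : X, d = ⁅k₁, k₂⁆) ∨ (∃ k : X, d = k ^ (p - 1))) →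
    ∀ y ∈ Y, d * y = y * d

theorem conj_eq_of_prime_card {X : Type u} [Group X] [Finite X] {p : ℕ} [hp : Fact p.Prime]
    (N₀ : Subgroup X) [hN₀n : N₀.Normal] (hN₀ : Nat.card N₀ = p) (d : X)
    (hd : (∃ k₁ k₂ : X, d = ⁅k₁, k₂⁆) ∨ (∃ k : X, d = k ^ (p - 1))) :
    ∀ n ∈ N₀, d * n = n * d := by
  have : IsCyclic N₀ := isCyclic_of_prime_card hN₀
  let φ : X →* (ZMod (Nat.card N₀))ˣ :=
    (IsCyclic.mulAutMulEquiv N₀).toMonoidHom.comp MulAut.conjNormal
  have hφd : φ d = 1 := by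
    rcases hd with ⟨k₁, k₂, rfl⟩ | ⟨k, rfl⟩
    · rw [map_commutatorElement, commutatorElement_eq_one_iff_commute]
      exact Commute.all _ _
    · rw [map_pow]
      have h1 : Nat.totient (Nat.card N₀) = p - 1 := by rw [hN₀, Nat.totient_prime hp.out]
      rw [← h1]
      exact ZMod.pow_totient _
  have h2 : (MulAut.conjNormal d : MulAut N₀) = 1 := by
    have : (IsCyclic.mulAutMulEquiv N₀) (MulAut.conjNormal d) = 1 := hφd
    exact (MulEquiv.map_eq_one_iff _).mp this
  intro n hn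
  have h3 : (MulAut.conjNormal d : MulAut N₀) ⟨n, hn⟩ = ⟨n, hn⟩ := by rw [h2]; rfl
  have h4 := congrArg Subtype.val h3
  rw [MulAut.conjNormal_apply] at h4
  calc d * n = (d * n * d⁻¹) * d := by group
    _ = n * d := by rw [h4]

theorem pow_conj_of_comm {X : Type u} [Group X] {d c y : X} (hdc : d * c = c * d)
    (h : d * y * d⁻¹ = c * y) (m : ℕ) : d ^ m * y * (d ^ m)⁻¹ = c ^ m * y := by
  induction m with
  | zero => simp
  | succ m ih =>
    have hc : Commute d (c ^ m) := (show Commute d c from hdc).pow_right m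
    calc d ^ (m + 1) * y * (d ^ (m + 1))⁻¹ = d * (d ^ m * y * (d ^ m)⁻¹) * d⁻¹ := by
          rw [pow_succ']; group
      _ = d * (c ^ m * y) * d⁻¹ := by rw [ih]
      _ = (d * c ^ m) * (y * d⁻¹) := by group
      _ = (c ^ m * d) * (y * d⁻¹) := by rw [hc.eq]
      _ = c ^ m * (d * y * d⁻¹) := by group
      _ = c ^ m * (c * y) := by rw [h]
      _ = c ^ (m + 1) * y := by rw [pow_succ]; group

theorem actsTrivially_step (X : Type u) [Group X] [Finite X] (N₀ : Subgroup X) [hN₀n : N₀.Normal]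
    (hq : (Nat.card N₀).Prime) (h : ActsTrivially (X ⧸ N₀)) : ActsTrivially X := by
  intro _ p hp Y hYn hY d hdp hd y hy
  have : Fact p.Prime := ⟨hp⟩
  -- image in the quotient
  have hdbar : (orderOf (QuotientGroup.mk' N₀ d)).Coprime p :=
    Nat.Coprime.coprime_dvd_left (orderOf_map_dvd _ d) hdp
  have hdbar' : (∃ k₁ k₂ : X ⧸ N₀, QuotientGroup.mk' N₀ d = ⁅k₁, k₂⁆) ∨
      (∃ k : X ⧸ N₀, QuotientGroup.mk' N₀ d = k ^ (p - 1)) := by
    rcases hd with ⟨k₁, k₂, rfl⟩ | ⟨k, rfl⟩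
    · exact Or.inl ⟨_, _, map_commutatorElement _ k₁ k₂⟩
    · exact Or.inr ⟨_, map_pow _ k _⟩
  have hYbn : (Y.map (QuotientGroup.mk' N₀)).Normal :=
    hYn.map _ (QuotientGroup.mk'_surjective N₀)
  have h1 := h inferInstance p hp (Y.map (QuotientGroup.mk' N₀)) hYbn (hY.map _) _ hdbar hdbar'
    _ (Subgroup.mem_map_of_mem _ hy)
  obtain ⟨c, hc⟩ : ∃ c, c = d * y * d⁻¹ * y⁻¹ := ⟨_, rfl⟩
  have hcN : c ∈ N₀ := by
    rw [← QuotientGroup.eq_one_iff]
    change QuotientGroup.mk' N₀ c = 1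
    rw [hc, map_mul, map_mul, map_mul, map_inv, map_inv, h1]
    group
  have hcY : c ∈ Y := by
    rw [hc]
    exact Y.mul_mem (hYn.conj_mem y hy d) (Y.inv_mem hy)
  by_cases hc1 : c = 1
  · rw [hc, mul_inv_eq_one] at hc1
    calc d * y = (d * y * d⁻¹) * d := by group
      _ = y * d := by rw [hc1]
  exfalso
  -- order of c is p and N₀ has order p
  obtain ⟨j, hj⟩ := hY ⟨c, hcY⟩
  have hcpow : c ^ (p ^ j) = 1 := by
    have := congrArg Subtype.val hj
    simpa using this
  have hord1 : orderOf c ∣ p ^ j := orderOf_dvd_of_pow_eq_one hcpow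
  have hord2 : orderOf c ∣ Nat.card N₀ := by
    have := orderOf_dvd_natCard (⟨c, hcN⟩ : N₀)
    rwa [Subgroup.orderOf_mk] at this
  have hordne : orderOf c ≠ 1 := fun h' => hc1 (orderOf_eq_one_iff.mp h')
  have hordq : orderOf c = Nat.card N₀ := by
    rcases (Nat.dvd_prime hq).mp hord2 with h' | h'
    · exact absurd h' hordne
    · exact h'
  have hqp : Nat.card N₀ = p := by
    rw [hordq] at hord1
    exact (Nat.prime_dvd_prime_iff_eq hq hp).mp (hq.dvd_of_dvd_pow hord1)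
  have hdc := conj_eq_of_prime_card N₀ hqp d hd c hcN
  have hconj : d * y * d⁻¹ = c * y := by rw [hc]; group
  have h2 := pow_conj_of_comm hdc hconj (orderOf d)
  rw [pow_orderOf_eq_one, one_mul, inv_one, mul_one] at h2
  have h3 : c ^ orderOf d = 1 := by
    have : c ^ orderOf d * y = 1 * y := by rw [← h2, one_mul]
    exact mul_right_cancel this
  have h4 : p ∣ orderOf d := by
    rw [← hqp, ← hordq]; exact orderOf_dvd_of_pow_eq_one h3
  have h5 : p ∣ Nat.gcd (orderOf d) p := Nat.dvd_gcd h4 dvd_rfl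
  rw [hdp] at h5
  exact hp.one_lt.ne' (Nat.dvd_one.mp h5)

theorem actsTrivially_of_isSupersolvable (X : Type u) [Group X] [Finite X]
    (hX : IsSupersolvable X) : ActsTrivially X := by
  apply supersolvable_induction_prime ActsTrivially _ _ X hX
  · intro G _ _ _ p _ Y _ _ d _ _ y _
    exact Subsingleton.elim _ _
  · intro G _ _ N _ hq _ _ h
    exact actsTrivially_step G N hq h

end Cfsg.Agent.Lib.Helper1.Huppert
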