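import Mathlib
import Cfsg.Agent.Lib.Helper1.SubnormalSylow
import Cfsg.Agent.Lib.Helper1.FrattiniHall
set_option autoImplicit false
open Pointwise

namespace Cfsg.Agent.Lib.Helper1

universe u

variable {G : Type u} [Group G]

theorem normalizer_le_normalizer_centralizer' (A : Subgroup G) :
    Subgroup.normalizer (A : Set G) ≤ Subgroup.normalizer ((Subgroup.centralizer (A : Set G) : Subgroup G) : Set G) := by
  intro n hn
  rw [Subgroup.mem_normalizer_iff]
  have key : ∀ m ∈ Subgroup.normalizer (A : Set G), ∀ c ∈ Subgroup.centralizer (A : Set G),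
      m * c * m⁻¹ ∈ Subgroup.centralizer (A : Set G) := by
    intro m hm c hc
    rw [Subgroup.mem_centralizer_iff] at hc ⊢
    intro a ha
    have ha' : m⁻¹ * a * m ∈ A := by
      have := (Subgroup.mem_normalizer_iff.mp (Subgroup.inv_mem _ hm) a).mp ha
      simpa using this
    have := hc _ ha'
    calc a * (m * c * m⁻¹) = m * ((m⁻¹ * a * m) * c) * m⁻¹ := by group
      _ = m * (c * (m⁻¹ * a * m)) * m⁻¹ := by rw [this]
      _ = m * c * m⁻¹ * a := by group
  intro c
  constructor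
  · exact key n hn c
  · intro h
    have := key n⁻¹ (Subgroup.inv_mem _ hn) _ h
    simpa [mul_assoc] using this

theorem centralizer_scn_splits [Finite G] {p : ℕ} [hp : Fact p.Prime] (R : Sylow p G) (A : Subgroup G)
    (hAR : A ≤ (R : Subgroup G)) (hAn : (R : Subgroup G) ≤ Subgroup.normalizer (A : Set G))
    (hC : (R : Subgroup G) ⊓ Subgroup.centralizer (A : Set G) = A) :
    ∃ H : Subgroup G, H ≤ Subgroup.centralizer (A : Set G) ∧ Nat.Coprime (Nat.card H) p ∧
      Subgroup.centralizer (A : Set G) ≤ Subgroup.normalizer (H : Set G) ∧ H ⊓ A = ⊥ ∧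
      H ⊔ A = Subgroup.centralizer (A : Set G) := by
  set C := Subgroup.centralizer (A : Set G) with hCdef
  set N := Subgroup.normalizer (A : Set G) with hNdef
  have hAC : A ≤ C := by rw [← hC]; exact inf_le_right
  have hCN : C ≤ N := Subgroup.centralizer_le_normalizer _
  -- A is a Sylow p-subgroup of C
  have hrel : ¬ p ∣ A.relIndex C := by
    have hCn' : (C.subgroupOf N).Normal :=
      (Subgroup.normal_subgroupOf_iff_le_normalizer hCN).mpr (normalizer_le_normalizer_centralizer' A)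
    have h1 := not_dvd_relIndex_of_isSubnormal p (R.subtype hAn) (Subgroup.Normal.isSubnormal hCn')
    rw [Sylow.coe_subtype, Subgroup.relIndex_subgroupOf hCN] at h1
    rw [← hC, Subgroup.inf_relIndex_right]
    exact h1
  have hAp : IsPGroup p (A.subgroupOf C) :=
    (R.2.to_le hAR).of_equiv (Subgroup.subgroupOfEquivOfLe hAC).symm
  let S : Sylow p C := hAp.toSylow hrel
  have hS : (S : Subgroup C) = A.subgroupOf C := IsPGroup.toSylow_coe _ _
  have hcen : Subgroup.normalizer ((S : Subgroup C) : Set C) ≤ Subgroup.centralizer ((S : Subgroup C) : Set C) := by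
    intro c _
    rw [Subgroup.mem_centralizer_iff]
    intro a ha
    have ha' : a ∈ (S : Subgroup C) := ha
    rw [hS, Subgroup.mem_subgroupOf] at ha'
    apply Subtype.ext
    exact (Subgroup.mem_centralizer_iff.mp c.2 (a : G) ha')
  obtain ⟨K, hKn, hK⟩ : ∃ K : Subgroup C, K.Normal ∧ K.IsComplement' (S : Subgroup C) :=
    ⟨_, inferInstance, MonoidHom.ker_transferSylow_isComplement' S hcen⟩
  refine ⟨K.map C.subtype, Subgroup.map_subtype_le _, ?_, ?_, ?_, ?_⟩
  · rw [Subgroup.card_map_of_injective (Subgroup.subtype_injective C), ← hK.index_eq_card,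
      Nat.coprime_comm, hp.out.coprime_iff_not_dvd]
    exact S.not_dvd_index
  · intro c hc
    rw [Subgroup.mem_normalizer_iff]
    intro y
    constructor
    · rintro ⟨y₀, hy₀, rfl⟩
      exact ⟨⟨c, hc⟩ * y₀ * ⟨c, hc⟩⁻¹, hKn.conj_mem y₀ hy₀ ⟨c, hc⟩, rfl⟩
    · rintro ⟨z₀, hz₀, hz⟩
      have hyC : y ∈ C := by
        have : y = c⁻¹ * (c * y * c⁻¹) * c := by group
        rw [this, ← hz]
        exact C.mul_mem (C.mul_mem (C.inv_mem hc) z₀.2) hc
      refine ⟨⟨y, hyC⟩, ?_, rfl⟩
      have := hKn.conj_mem z₀ hz₀ ⟨c, hc⟩⁻¹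
      have e : (⟨y, hyC⟩ : C) = (⟨c, hc⟩ : C)⁻¹ * z₀ * (⟨c, hc⟩ : C)⁻¹⁻¹ := by
        apply Subtype.ext
        show y = (c⁻¹ : G) * (z₀ : G) * (c⁻¹ : G)⁻¹
        have hz' : (z₀ : G) = c * y * c⁻¹ := hz
        rw [hz']; group
      show (⟨y, hyC⟩ : C) ∈ K
      rw [e]; exact this
  · rw [eq_bot_iff]
    intro x hx
    obtain ⟨hxK, hxA⟩ := Subgroup.mem_inf.mp hx
    obtain ⟨k, hk, rfl⟩ := hxK
    have : k ∈ K ⊓ (S : Subgroup C) := Subgroup.mem_inf.mpr ⟨hk, by rw [hS]; exact Subgroup.mem_subgroupOf.mpr hxA⟩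
    rw [hK.disjoint.eq_bot, Subgroup.mem_bot] at this
    rw [this]; exact Subgroup.one_mem _
  · have h1 : A = (S : Subgroup C).map C.subtype := by
      rw [hS, Subgroup.subgroupOf_map_subtype, inf_eq_left.mpr hAC]
    conv_lhs => rw [h1]
    rw [← Subgroup.map_sup, hK.sup_eq_top, ← MonoidHom.range_eq_map, Subgroup.range_subtype]

end Cfsg.Agent.Lib.Helper1
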