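import Mathlib
import Cfsg.Agent.Lib.Helper1.Huppert6
import Cfsg.Agent.Lib.Helper1.Huppert1
import Cfsg.Agent.Lib.Helper1.SCN
import Cfsg.Agent.Lib.Helper1.Coprime
import Cfsg.Agent.Lib.Helper1.SupersolvableBasic
set_option autoImplicit false
open scoped Pointwise commutatorElement
universe u v
namespace Cfsg.Agent.Lib.Helper1.Huppert

variable {G : Type u} [Group G]

theorem le_normalizer_closure (K : Subgroup G) (S : Set G)
    (h : ∀ k ∈ K, ∀ s ∈ S, k * s * k⁻¹ ∈ S) :
    K ≤ Subgroup.normalizer ((Subgroup.closure S : Subgroup G) : Set G) := by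
  have key : ∀ k ∈ K, ∀ x ∈ Subgroup.closure S, k * x * k⁻¹ ∈ Subgroup.closure S := by
    intro k hk x hx
    have h1 : (Subgroup.closure S).map (MulAut.conj k).toMonoidHom ≤ Subgroup.closure S := by
      rw [MonoidHom.map_closure, Subgroup.closure_le]
      rintro _ ⟨s, hs, rfl⟩
      apply Subgroup.subset_closure
      exact h k hk s hs
    exact h1 (Subgroup.mem_map_of_mem _ hx)
  intro k hk
  rw [Subgroup.mem_normalizer_iff]
  intro x
  constructor
  · exact key k hk x
  · intro hx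
    have := key k⁻¹ (K.inv_mem hk) _ hx
    simpa [mul_assoc] using this

/-- Case B: the minimal normal subgroup lies in every maximal subgroup -/
theorem isCyclic_of_le_all_coatoms [Finite G] {p : ℕ} [hp : Fact p.Prime]
    (P : Sylow p G) [hPn : (P : Subgroup G).Normal]
    (N : Subgroup G) [hNn : N.Normal] (hN1 : N ≠ ⊥) (hNP : N ≤ P)
    (hNcomm : ∀ x ∈ N, ∀ y ∈ N, x * y = y * x) (hNexp : ∀ x ∈ N, x ^ p = 1)
    (hNcent : N ≤ Subgroup.centralizer ((P : Subgroup G) : Set G))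
    (hmin : ∀ M : Subgroup G, M.Normal → M ≠ ⊥ → M ≤ N → M = N)
    (hquot : IsSupersolvable (G ⧸ N))
    (hfrat : ∀ M : Subgroup G, IsCoatom M → N ≤ M) : IsCyclic N := by
  obtain ⟨K, hK⟩ := Subgroup.exists_right_complement'_of_coprime (N := (P : Subgroup G))
    P.card_coprime_index
  have hPK_sup : (P : Subgroup G) ⊔ K = ⊤ := hK.sup_eq_top
  have hPK_inf : (P : Subgroup G) ⊓ K = ⊥ := hK.disjoint.eq_bot
  have hcardK : Nat.card K = (P : Subgroup G).index := hK.symm.index_eq_card.symm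
  have hKcop : (Nat.card K).Coprime p := by
    rw [hcardK, Nat.coprime_comm]
    exact (Nat.Prime.coprime_iff_not_dvd hp.out).mpr P.not_dvd_index
  have hact := actsTrivially_of_isSupersolvable (G ⧸ N) hquot inferInstance p hp.out
      ((P : Subgroup G).map (QuotientGroup.mk' N))
      (hPn.map _ (QuotientGroup.mk'_surjective N)) (P.2.map _)
  obtain ⟨S, hS⟩ : ∃ S : Set G, S = {d | (∃ k₁ ∈ K, ∃ k₂ ∈ K, d = ⁅k₁, k₂⁆) ∨
      (∃ k ∈ K, d = k ^ (p - 1))} := ⟨_, rfl⟩
  have hSK : S ⊆ K := by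
    rw [hS]
    rintro d (⟨k₁, hk₁, k₂, hk₂, rfl⟩ | ⟨k, hk, rfl⟩)
    · rw [commutatorElement_def]
      exact K.mul_mem (K.mul_mem (K.mul_mem hk₁ hk₂) (K.inv_mem hk₁)) (K.inv_mem hk₂)
    · exact K.pow_mem hk _
  have hSconj : ∀ k ∈ K, ∀ s ∈ S, k * s * k⁻¹ ∈ S := by
    intro k hk s hs
    rw [hS] at hs ⊢
    rcases hs with ⟨k₁, hk₁, k₂, hk₂, rfl⟩ | ⟨k', hk', rfl⟩
    · left
      refine ⟨k * k₁ * k⁻¹, K.mul_mem (K.mul_mem hk hk₁) (K.inv_mem hk), k * k₂ * k⁻¹,
        K.mul_mem (K.mul_mem hk hk₂) (K.inv_mem hk), ?_⟩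
      rw [commutatorElement_def, commutatorElement_def]
      group
    · right
      refine ⟨k * k' * k⁻¹, K.mul_mem (K.mul_mem hk hk') (K.inv_mem hk), ?_⟩
      rw [conj_pow]
  -- S acts trivially on P/N
  have hSact : ∀ d ∈ S, ∀ y ∈ (P : Subgroup G), ⁅y, d⁆ ∈ N := by
    intro d hd y hy
    have hdK : d ∈ K := hSK hd
    have hdp : (orderOf (QuotientGroup.mk' N d)).Coprime p := by
      apply Nat.Coprime.coprime_dvd_left _ hKcop
      exact dvd_trans (orderOf_map_dvd _ d) (Subgroup.orderOf_dvd_natCard K hdK)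
    have hd' : (∃ k₁ k₂ : G ⧸ N, QuotientGroup.mk' N d = ⁅k₁, k₂⁆) ∨
        (∃ k : G ⧸ N, QuotientGroup.mk' N d = k ^ (p - 1)) := by
      rw [hS] at hd
      rcases hd with ⟨k₁, _, k₂, _, rfl⟩ | ⟨k, _, rfl⟩
      · exact Or.inl ⟨_, _, map_commutatorElement _ k₁ k₂⟩
      · exact Or.inr ⟨_, map_pow _ k _⟩
    have h1 := hact _ hdp hd' _ (Subgroup.mem_map_of_mem _ hy)
    rw [← QuotientGroup.eq_one_iff]
    change QuotientGroup.mk' N ⁅y, d⁆ = 1
    rw [map_commutatorElement, commutatorElement_eq_one_iff_commute]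
    exact h1.symm
  obtain ⟨D, hD⟩ : ∃ D : Subgroup G, D = Subgroup.closure S := ⟨_, rfl⟩
  have hDK : D ≤ K := by rw [hD, Subgroup.closure_le]; exact hSK
  have hKD : K ≤ Subgroup.normalizer (D : Set G) := by
    rw [hD]; exact le_normalizer_closure K S hSconj
  have hDact : ∀ d ∈ D, ∀ y ∈ (P : Subgroup G), ⁅y, d⁆ ∈ N := by
    intro d hd y hy
    -- D ≤ comap of centralizer
    have hle : D ≤ (Subgroup.centralizer
        (((P : Subgroup G).map (QuotientGroup.mk' N) : Subgroup (G ⧸ N)) : Set (G ⧸ N))).comap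
        (QuotientGroup.mk' N) := by
      rw [hD, Subgroup.closure_le]
      intro s hs
      change QuotientGroup.mk' N s ∈ Subgroup.centralizer _
      rw [Subgroup.mem_centralizer_iff]
      rintro _ ⟨y', hy', rfl⟩
      have h1 := hSact s hs y' hy'
      rw [← QuotientGroup.eq_one_iff] at h1
      change QuotientGroup.mk' N ⁅y', s⁆ = 1 at h1
      rw [map_commutatorElement, commutatorElement_eq_one_iff_commute] at h1
      exact h1.eq
    have h2 := hle hd
    change QuotientGroup.mk' N d ∈ Subgroup.centralizer _ at h2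
    rw [Subgroup.mem_centralizer_iff] at h2
    have h3 := h2 _ (Subgroup.mem_map_of_mem _ hy)
    rw [← QuotientGroup.eq_one_iff]
    change QuotientGroup.mk' N ⁅y, d⁆ = 1
    rw [map_commutatorElement, commutatorElement_eq_one_iff_commute]
    exact h3
  have hPDN : ⁅(P : Subgroup G), D⁆ ≤ N :=
    Subgroup.commutator_le.mpr (fun y hy d hd => hDact d hd y hy)
  have hDcop : (Nat.card D).Coprime (Nat.card (P : Subgroup G)) := by
    obtain ⟨n, hn⟩ := IsPGroup.iff_card.mp P.2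
    rw [hn]
    apply Nat.Coprime.pow_right
    exact Nat.Coprime.coprime_dvd_left (Subgroup.card_dvd_of_le hDK) hKcop
  haveI : Group.IsNilpotent (P : Subgroup G) := P.2.isNilpotent
  have hcop := coprime_commutator_sup_centralizer D (P : Subgroup G)
    (by rw [Subgroup.normalizer_eq_top_iff.mpr hPn]; exact le_top) hDcop (Or.inr inferInstance)
  obtain ⟨Cp, hCp⟩ : ∃ Cp : Subgroup G,
      Cp = (P : Subgroup G) ⊓ Subgroup.centralizer (D : Set G) := ⟨_, rfl⟩
  rw [← hCp] at hcop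
  have hCpP : Cp ≤ (P : Subgroup G) := by rw [hCp]; exact inf_le_left
  have hKCp : K ≤ Subgroup.normalizer (Cp : Set G) := by
    rw [hCp]
    refine le_trans (le_inf ?_ ?_) Subgroup.inf_normalizer_le_normalizer_inf
    · rw [Subgroup.normalizer_eq_top_iff.mpr hPn]; exact le_top
    · exact le_trans hKD (normalizer_le_normalizer_centralizer' D)
  have hNL : N ⊔ (Cp ⊔ K) = ⊤ := by
    rw [eq_top_iff, ← hPK_sup]
    apply sup_le
    · calc (P : Subgroup G) = ⁅(P : Subgroup G), D⁆ ⊔ Cp := hcop.symm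
        _ ≤ N ⊔ (Cp ⊔ K) := sup_le (le_trans hPDN le_sup_left)
            (le_trans le_sup_left le_sup_right)
    · exact le_trans le_sup_right le_sup_right
  have hL : Cp ⊔ K = ⊤ := by
    by_contra hne
    obtain ⟨M, hM, hle⟩ := (eq_top_or_exists_le_coatom _).resolve_left hne
    apply hM.1
    rw [eq_top_iff, ← hNL]
    exact sup_le (hfrat M hM) hle
  have hCpeq : Cp = (P : Subgroup G) := by
    have h1 := GlaubermanRepl.card_sup_mul_card_inf_of_le_normalizer K Cp hKCp
    have h2 : K ⊓ Cp = ⊥ := by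
      rw [eq_bot_iff, ← hPK_inf]
      exact le_inf (le_trans inf_le_right hCpP) inf_le_left
    rw [sup_comm, hL, h2, Subgroup.card_bot, mul_one, Subgroup.card_top, ← hK.card_mul_card,
      mul_comm] at h1
    have hpos : 0 < Nat.card K := Nat.card_pos
    have h3 := Nat.eq_of_mul_eq_mul_left hpos h1
    exact Subgroup.eq_of_le_of_card_ge hCpP h3.le
  have hDN : ∀ d ∈ D, ∀ n ∈ N, d * n = n * d := by
    intro d hd n hn
    have h1 : n ∈ Cp := by rw [hCpeq]; exact hNP hn
    rw [hCp] at h1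
    exact (Subgroup.mem_centralizer_iff.mp h1.2 d hd)
  obtain ⟨x, hxN, hx1, hx⟩ := exists_invariant_zpowers N hN1 hNcomm hNexp K
    (fun k₁ hk₁ k₂ hk₂ n hn => hDN _ (by
      rw [hD]; apply Subgroup.subset_closure; rw [hS]
      exact Or.inl ⟨k₁, hk₁, k₂, hk₂, rfl⟩) n hn)
    (fun k hk n hn => hDN _ (by
      rw [hD]; apply Subgroup.subset_closure; rw [hS]
      exact Or.inr ⟨k, hk, rfl⟩) n hn)
  have hxn : (Subgroup.zpowers x).Normal := by
    apply Cfsg.Agent.Lib.Helper1.zpowers_normal_of_conj_mem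
    intro g
    have hg : g ∈ (P : Subgroup G) ⊔ K := by rw [hPK_sup]; exact Subgroup.mem_top g
    obtain ⟨y, hy, k, hk, rfl⟩ := Subgroup.mem_sup_of_normal_left.mp hg
    have h1 : k * x * k⁻¹ ∈ N := hNn.conj_mem x hxN k
    have h2 := Subgroup.mem_centralizer_iff.mp (hNcent h1) y hy
    have h3 : y * k * x * (y * k)⁻¹ = k * x * k⁻¹ := by
      calc y * k * x * (y * k)⁻¹ = (y * (k * x * k⁻¹)) * y⁻¹ := by group
        _ = ((k * x * k⁻¹) * y) * y⁻¹ := by rw [h2]
        _ = k * x * k⁻¹ := by group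
    rw [h3]
    exact hx k hk
  have hxle : Subgroup.zpowers x ≤ N := by
    rw [Subgroup.zpowers_le]; exact hxN
  have hxne : Subgroup.zpowers x ≠ ⊥ := by
    intro h
    rw [Subgroup.zpowers_eq_bot] at h
    exact hx1 h
  have h4 := hmin _ hxn hxne hxle
  rw [← h4]
  infer_instance

end Cfsg.Agent.Lib.Helper1.Huppert
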