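import Mathlib
import Cfsg.Agent.Lib.Helper1.Huppert7
import Cfsg.Agent.Lib.Helper1.Supersolvable
set_option autoImplicit false
open scoped Pointwise commutatorElement
universe u v
namespace Cfsg.Agent.Lib.Helper1.Huppert

theorem huppert_aux : ∀ (n : ℕ) (G : Type u) [Group G] [Finite G], Nat.card G = n →
    (∀ M : Subgroup G, IsCoatom M → M.index.Prime) → IsSupersolvable G := by
  intro n
  induction n using Nat.strong_induction_on with
  | _ n ih =>
    intro G _ _ hcard h
    by_cases hsub : Subsingleton G
    · exact isSupersolvable_of_subsingleton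
    rw [not_subsingleton_iff_nontrivial] at hsub
    have hcard1 : 1 < Nat.card G := Finite.one_lt_card
    obtain ⟨p, hp, hpd, hmax⟩ : ∃ p, p.Prime ∧ p ∣ Nat.card G ∧
        ∀ q, q.Prime → q ∣ Nat.card G → q ≤ p := by
      have hne : (Nat.card G).primeFactors.Nonempty := Nat.nonempty_primeFactors.mpr hcard1
      have hmem := Finset.max'_mem _ hne
      rw [Nat.mem_primeFactors] at hmem
      refine ⟨(Nat.card G).primeFactors.max' hne, hmem.1, hmem.2.1, ?_⟩
      intro q hq hqd
      apply Finset.le_max'
      rw [Nat.mem_primeFactors]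
      exact ⟨hq, hqd, hmem.2.2⟩
    haveI : Fact p.Prime := ⟨hp⟩
    obtain ⟨P⟩ : Nonempty (Sylow p G) := inferInstance
    haveI hPn := sylow_normal_of_prime_index h hmax P
    have hP1 : (P : Subgroup G) ≠ ⊥ := P.ne_bot_of_dvd_card hpd
    -- minimal normal subgroup inside P
    let T : Set (Subgroup G) := {N | N.Normal ∧ N ≠ ⊥ ∧ N ≤ P}
    have hT : T.Finite := Set.toFinite T
    have hPT : (P : Subgroup G) ∈ T := ⟨hPn, hP1, le_rfl⟩
    obtain ⟨N, hNP', hNmin⟩ := hT.exists_le_minimal hPT
    obtain ⟨hNn, hN1, hNP⟩ := hNmin.prop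
    have hmin : ∀ M : Subgroup G, M.Normal → M ≠ ⊥ → M ≤ N → M = N := by
      intro M hMn hM1 hMN
      exact le_antisymm hMN (hNmin.le_of_le ⟨hMn, hM1, le_trans hMN hNP⟩ hMN)
    have hlt : Nat.card (G ⧸ N) < n := by
      rw [← hcard, ← Subgroup.index_eq_card, ← Subgroup.card_mul_index N]
      have h1 : 1 < Nat.card N := by
        have : Nontrivial N := (Subgroup.nontrivial_iff_ne_bot N).mpr hN1
        exact Finite.one_lt_card
      have h2 : 0 < N.index := Nat.pos_of_ne_zero Subgroup.index_ne_zero_of_finite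
      nlinarith
    have hquot : IsSupersolvable (G ⧸ N) :=
      ih _ hlt (G ⧸ N) rfl (prime_index_quotient N h)
    have hNcent := minimal_normal_le_centralizer (P : Subgroup G) P.2 N hN1 hNP hmin
    have hNcomm : ∀ x ∈ N, ∀ y ∈ N, x * y = y * x := by
      intro x hx y hy
      exact (Subgroup.mem_centralizer_iff.mp (hNcent hx) y (hNP hy)).symm
    have hNp : IsPGroup p N := P.2.to_le hNP
    have hNexp := minimal_normal_exponent N hN1 hNp hNcomm hmin
    have hcyc : IsCyclic N := by
      by_cases hfrat : ∀ M : Subgroup G, IsCoatom M → N ≤ M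
      · exact isCyclic_of_le_all_coatoms P N hN1 hNP hNcomm hNexp hNcent hmin hquot hfrat
      · push Not at hfrat
        obtain ⟨M, hM, hNM⟩ := hfrat
        have h1 := card_eq_index_of_not_le N hNcomm hmin M hM hNM
        have h2 : (Nat.card N).Prime := by rw [h1]; exact h M hM
        haveI : Fact (Nat.card N).Prime := ⟨h2⟩
        exact isCyclic_of_prime_card rfl
    exact isSupersolvable_of_quotient_cyclic N hquot

theorem huppert (G : Type u) [Group G] [Finite G]
    (h : ∀ M : Subgroup G, IsCoatom M → M.index.Prime) : IsSupersolvable G :=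
  huppert_aux _ G rfl h

end Cfsg.Agent.Lib.Helper1.Huppert
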