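import Mathlib
set_option autoImplicit false
universe u v
namespace Cfsg.Agent.Lib.Helper1
variable {G : Type u} [Group G]

theorem inner_le_frattini_aut [Finite G] (H : Subgroup G) [hHn : H.Normal] (hH : H ≤ frattini G) :
    (MulAut.conj : ↥H →* MulAut ↥H).range ≤ frattini (MulAut ↥H) := by
  have hfin : Finite (MulAut ↥H) := by
    apply Finite.of_injective (fun e : MulAut ↥H => (e : ↥H → ↥H))
    intro a b hab
    exact MulEquiv.ext (fun x => congrFun hab x)
  unfold frattini Order.radical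
  apply le_iInf
  intro M
  apply le_iInf
  intro hM
  by_contra hnot
  obtain ⟨φ, hφ⟩ : ∃ φ : G →* MulAut ↥H, φ = MulAut.conjNormal := ⟨_, rfl⟩
  have hφH : ∀ h : H, φ (h : G) = MulAut.conj h := by
    intro h; rw [hφ]; exact MulAut.conjNormal_val
  have hInnN : (MulAut.conj : ↥H →* MulAut ↥H).range.Normal := by
    constructor
    rintro _ ⟨h, rfl⟩ σ
    refine ⟨σ h, ?_⟩
    ext x
    simp [MulAut.conj_apply]
  have hsup : (MulAut.conj : ↥H →* MulAut ↥H).range ⊔ M = ⊤ := by
    apply hM.2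
    apply lt_of_le_of_ne le_sup_right
    intro h
    apply hnot
    rw [h]; exact le_sup_left
  obtain ⟨L, hL⟩ : ∃ L : Subgroup G, L = M.comap φ := ⟨_, rfl⟩
  have hHL : L ⊔ frattini G = ⊤ := by
    rw [eq_top_iff]
    intro g _
    have hg : φ g ∈ (MulAut.conj : ↥H →* MulAut ↥H).range ⊔ M := by rw [hsup]; exact Subgroup.mem_top _
    rw [Subgroup.mem_sup_of_normal_left] at hg
    obtain ⟨i, ⟨h, rfl⟩, m, hm, him⟩ := hg
    have h1 : (h : G)⁻¹ * g ∈ L := by
      rw [hL, Subgroup.mem_comap, map_mul, map_inv, hφH, ← him, inv_mul_cancel_left]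
      exact hm
    have e : g = ((h : G)⁻¹ * g) * ((h : G)⁻¹ * g)⁻¹ * (h : G) * ((h : G)⁻¹ * g) := by group
    rw [e]
    apply Subgroup.mul_mem
    · apply Subgroup.mul_mem
      · apply Subgroup.mul_mem
        · exact Subgroup.mem_sup_left h1
        · exact Subgroup.mem_sup_left (L.inv_mem h1)
      · exact Subgroup.mem_sup_right (hH h.2)
    · exact Subgroup.mem_sup_left h1
  have hLtop := frattini_nongenerating hHL
  apply hnot
  rintro _ ⟨h, rfl⟩
  rw [← hφH]
  have : (h : G) ∈ L := by rw [hLtop]; exact Subgroup.mem_top _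
  rw [hL] at this
  exact this

end Cfsg.Agent.Lib.Helper1
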