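import Mathlib
import Cfsg.Agent.Lib.Helper1.InvPPrime
import Cfsg.Agent.Lib.Helper1.PConstrainedQuotient
import Cfsg.Agent.Lib.Helper8.AxB
import Cfsg.Agent.Lib.Lead.LiftPSub

set_option autoImplicit false
open scoped commutatorElement
universe u

namespace Cfsg.Agent.Lib.Helper1

/-- Base case for odd `p` with `C_X(O_p(X)) ≤ O_p(X)` in place of solvability. -/
theorem invariant_p'_eq_bot_odd {X : Type u} [Group X] [Finite X] {p : ℕ}
    [hp : Fact p.Prime] (hp2 : p ≠ 2)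
    (hCT : Subgroup.centralizer (Cfsg.pCore p X : Set X) ≤ Cfsg.pCore p X)
    (A Y : Subgroup X) (hA : IsPGroup p A)
    (hAΩ : ∀ x ∈ Subgroup.centralizer (A : Set X), x ^ p = 1 → x ∈ A)
    (hY : (Nat.card Y).Coprime p) (hAY : A ≤ Subgroup.normalizer (Y : Set X)) : Y = ⊥ := by
  obtain ⟨T, hT⟩ : ∃ T : Subgroup X, T = Cfsg.pCore p X := ⟨_, rfl⟩
  have hTn : T.Normal := by rw [hT]; exact pCore_normal p
  have hTp : IsPGroup p T := by rw [hT]; exact pCore_isPGroup p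
  rw [← hT] at hCT
  have hYT : Y ⊓ T = ⊥ := by
    apply (Subgroup.disjoint_of_coprime_natCard ?_).eq_bot
    obtain ⟨k, hk⟩ := IsPGroup.iff_card.mp hTp
    rw [hk]; exact Nat.Coprime.pow_right k hY
  have h1 : ∀ b ∈ A, b ∈ T → ∀ y ∈ Y, y * b = b * y := by
    intro b hbA hbT y hy
    have hc : y * b * y⁻¹ * b⁻¹ ∈ Y ⊓ T := by
      refine Subgroup.mem_inf.mpr ⟨?_, ?_⟩
      · have h2 : b * y⁻¹ * b⁻¹ ∈ Y :=
          (Subgroup.mem_normalizer_iff.mp (hAY hbA) y⁻¹).mp (Y.inv_mem hy)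
        have e : y * b * y⁻¹ * b⁻¹ = y * (b * y⁻¹ * b⁻¹) := by group
        rw [e]; exact Y.mul_mem hy h2
      · exact T.mul_mem (hTn.conj_mem b hbT y) (T.inv_mem hbT)
    rw [hYT, Subgroup.mem_bot] at hc
    have h3 := congrArg (fun t => t * (b * y)) hc
    beta_reduce at h3
    rw [one_mul] at h3
    rw [← h3]; group
  obtain ⟨Dc, hchar, hΦ, hcomm, hcent⟩ := exists_critical_subgroup (P := ↥T) hTp
  have hDp : IsPGroup p ↥Dc := hTp.to_subgroup Dc
  have hcc : CommCentral ↥Dc := by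
    intro x y z
    have h2 : ⁅x, y⁆ ∈ commutator ↥Dc := by
      rw [commutator_def]
      exact Subgroup.commutator_mem_commutator (Subgroup.mem_top x) (Subgroup.mem_top y)
    have h3 : ⁅x, y⁆ ∈ frattini ↥Dc := commutator_le_frattini_of_isPGroup p hDp h2
    have h4 : ((⁅x, y⁆ : ↥Dc) : ↥T) ∈ Subgroup.centralizer (Dc : Set ↥T) := hΦ ⟨_, h3, rfl⟩
    have h5 := Subgroup.mem_centralizer_iff.mp h4 (z : ↥T) z.2
    apply Subtype.ext
    rw [Subgroup.coe_mul, Subgroup.coe_mul]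
    exact h5.symm
  obtain ⟨φ, hφ⟩ : ∃ φ : X →* MulAut ↥Dc, ∀ (g : X) (d : ↥Dc),
      (((φ g) d : ↥Dc) : ↥T) = MulAut.conjNormal g (d : ↥T) :=
    ⟨(TF.resAut Dc).comp (MulAut.conjNormal (H := T)), fun g d => rfl⟩
  have hφ' : ∀ (g : X) (d : ↥Dc), ((((φ g) d : ↥Dc) : ↥T) : X) = g * ((d : ↥T) : X) * g⁻¹ := by
    intro g d
    rw [hφ, MulAut.conjNormal_apply]
  have hfixD := baer_core_lemma hp2 hDp hcc φ Y A hY hA hAY (by
    intro x hxp hxA y hy
    have hx' : (((x : ↥T) : X)) ∈ Subgroup.centralizer (A : Set X) := by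
      rw [Subgroup.mem_centralizer_iff]
      intro a ha
      have h2 := congrArg (fun d : ↥Dc => ((d : ↥T) : X)) (hxA a ha)
      beta_reduce at h2
      rw [hφ'] at h2
      have h3 := congrArg (fun t => t * a) h2
      beta_reduce at h3
      rw [inv_mul_cancel_right] at h3
      exact h3
    have hxpX : (((x : ↥T) : X)) ^ p = 1 := by
      have h2 := congrArg (fun d : ↥Dc => ((d : ↥T) : X)) hxp
      simpa using h2
    have hxA' := hAΩ _ hx' hxpX
    have hcomm' := h1 _ hxA' (x : ↥T).2 y hy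
    apply Subtype.ext; apply Subtype.ext
    rw [hφ', hcomm']; group)
  rw [eq_bot_iff]
  intro y hy
  rw [Subgroup.mem_bot]
  obtain ⟨α, hα⟩ : ∃ α : MulAut ↥T, α = MulAut.conjNormal y := ⟨_, rfl⟩
  have hαfix : ∀ d ∈ Dc, α d = d := by
    intro d hd
    have h2 := congrArg Subtype.val (hfixD y hy ⟨d, hd⟩)
    rw [hφ] at h2
    rw [hα]; exact h2
  have hαord : Nat.Coprime (orderOf α) p := by
    have h2 : orderOf α ∣ orderOf y := by
      rw [hα]; exact orderOf_map_dvd (MulAut.conjNormal (H := T)) y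
    have h3 : orderOf y ∣ Nat.card Y := by
      have : orderOf (⟨y, hy⟩ : ↥Y) = orderOf y := Subgroup.orderOf_mk y hy
      rw [← this]; exact orderOf_dvd_natCard _
    exact Nat.Coprime.coprime_dvd_left (h2.trans h3) hY
  have hα1 : α = 1 :=
    coprime_aut_trivial_of_fix_self_centralizing hTp Dc hchar hcent α hαord hαfix
  have hyC : y ∈ Subgroup.centralizer (T : Set X) := by
    rw [Subgroup.mem_centralizer_iff]
    intro t ht
    have h2 : α ⟨t, ht⟩ = ⟨t, ht⟩ := by rw [hα1, MulAut.one_apply]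
    rw [hα] at h2
    have h3 := congrArg Subtype.val h2
    rw [MulAut.conjNormal_apply] at h3
    have h4 := congrArg (fun s => s * y) h3
    beta_reduce at h4
    rw [inv_mul_cancel_right] at h4
    exact h4.symm
  have hyT : y ∈ Y ⊓ T := Subgroup.mem_inf.mpr ⟨hy, hCT hyC⟩
  rw [hYT, Subgroup.mem_bot] at hyT
  exact hyT

theorem conj_mul_of_comm {X : Type u} [Group X] {g c x : X} (h : g * c = c * g) :
    g * (c * x) * g⁻¹ = c * (g * x * g⁻¹) := by
  calc g * (c * x) * g⁻¹ = (g * c) * x * g⁻¹ := by group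
    _ = (c * g) * x * g⁻¹ := by rw [h]
    _ = c * (g * x * g⁻¹) := by group

/-- Base case when all `p`-subgroups have class at most two. -/
theorem invariant_p'_eq_bot_class_two {X : Type u} [Group X] [Finite X] {p : ℕ}
    [hp : Fact p.Prime]
    (hCT : Subgroup.centralizer (Cfsg.pCore p X : Set X) ≤ Cfsg.pCore p X)
    (A Y : Subgroup X) (hA : IsPGroup p A)
    (hAfull : ∀ x ∈ Subgroup.centralizer (A : Set X), (∃ k : ℕ, x ^ p ^ k = 1) → x ∈ A)
    (hY : (Nat.card Y).Coprime p) (hAY : A ≤ Subgroup.normalizer (Y : Set X))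
    (hcl : ∀ P : Subgroup X, IsPGroup p P → ∀ x ∈ P, ∀ y ∈ P, ∀ z ∈ P, ⁅⁅x, y⁆, z⁆ = 1) :
    Y = ⊥ := by
  obtain ⟨T, hT⟩ : ∃ T : Subgroup X, T = Cfsg.pCore p X := ⟨_, rfl⟩
  have hTn : T.Normal := by rw [hT]; exact pCore_normal p
  have hTp : IsPGroup p T := by rw [hT]; exact pCore_isPGroup p
  rw [← hT] at hCT
  have hYT : Y ⊓ T = ⊥ := by
    apply (Subgroup.disjoint_of_coprime_natCard ?_).eq_bot
    obtain ⟨k, hk⟩ := IsPGroup.iff_card.mp hTp
    rw [hk]; exact Nat.Coprime.pow_right k hY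
  have hTpow : ∀ t ∈ T, ∃ k : ℕ, t ^ p ^ k = 1 := by
    intro t ht
    obtain ⟨k, hk⟩ := hTp ⟨t, ht⟩
    exact ⟨k, by simpa using congrArg Subtype.val hk⟩
  have h1 : ∀ b ∈ A, b ∈ T → ∀ y ∈ Y, y * b = b * y := by
    intro b hbA hbT y hy
    have hc : y * b * y⁻¹ * b⁻¹ ∈ Y ⊓ T := by
      refine Subgroup.mem_inf.mpr ⟨?_, ?_⟩
      · have h2 : b * y⁻¹ * b⁻¹ ∈ Y :=
          (Subgroup.mem_normalizer_iff.mp (hAY hbA) y⁻¹).mp (Y.inv_mem hy)
        have e : y * b * y⁻¹ * b⁻¹ = y * (b * y⁻¹ * b⁻¹) := by group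
        rw [e]; exact Y.mul_mem hy h2
      · exact T.mul_mem (hTn.conj_mem b hbT y) (T.inv_mem hbT)
    rw [hYT, Subgroup.mem_bot] at hc
    have h3 := congrArg (fun t => t * (b * y)) hc
    beta_reduce at h3
    rw [one_mul] at h3
    rw [← h3]; group
  have hS : IsPGroup p (T ⊔ A : Subgroup X) := hTp.to_sup_of_normal_left hA
  have hTS : T ≤ T ⊔ A := le_sup_left
  have hAS : A ≤ T ⊔ A := le_sup_right
  -- the central commutators
  have hC0 : ∀ a ∈ A, ∀ t ∈ T, a * t * a⁻¹ * t⁻¹ ∈ T ∧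
      (∀ t' ∈ T, (a * t * a⁻¹ * t⁻¹) * t' = t' * (a * t * a⁻¹ * t⁻¹)) ∧
      (∀ y ∈ Y, y * (a * t * a⁻¹ * t⁻¹) = (a * t * a⁻¹ * t⁻¹) * y) := by
    intro a ha t ht
    have hcT : a * t * a⁻¹ * t⁻¹ ∈ T := T.mul_mem (hTn.conj_mem t ht a) (T.inv_mem ht)
    have hcS : ∀ s ∈ (T ⊔ A : Subgroup X), (a * t * a⁻¹ * t⁻¹) * s = s * (a * t * a⁻¹ * t⁻¹) := by
      intro s hs
      have h2 := hcl _ hS a (hAS ha) t (hTS ht) s hs
      rw [commutatorElement_eq_one_iff_mul_comm, commutatorElement_def] at h2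
      exact h2
    refine ⟨hcT, fun t' ht' => hcS t' (hTS ht'), ?_⟩
    intro y hy
    have hcC : a * t * a⁻¹ * t⁻¹ ∈ Subgroup.centralizer (A : Set X) := by
      rw [Subgroup.mem_centralizer_iff]
      intro a' ha'
      exact (hcS a' (hAS ha')).symm
    have hcA := hAfull _ hcC (hTpow _ hcT)
    exact h1 _ hcA hcT y hy
  -- A centralizes Y
  have hYA : ∀ y ∈ Y, ∀ a ∈ A, y * a = a * y := by
    intro y hy a ha
    obtain ⟨u, hu⟩ : ∃ u, u = y * a * y⁻¹ * a⁻¹ := ⟨_, rfl⟩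
    have huY : u ∈ Y := by
      have h2 : a * y⁻¹ * a⁻¹ ∈ Y :=
        (Subgroup.mem_normalizer_iff.mp (hAY ha) y⁻¹).mp (Y.inv_mem hy)
      have e : u = y * (a * y⁻¹ * a⁻¹) := by rw [hu]; group
      rw [e]; exact Y.mul_mem hy h2
    have hkey : ∀ t ∈ T, u * t * u⁻¹ = t := by
      intro t ht
      obtain ⟨c₁, hc₁⟩ : ∃ c₁, c₁ = a⁻¹ * t * a⁻¹⁻¹ * t⁻¹ := ⟨_, rfl⟩
      obtain ⟨hc₁T, hc₁c, hc₁Y⟩ := hC0 a⁻¹ (A.inv_mem ha) t ht
      rw [← hc₁] at hc₁T hc₁c hc₁Y
      obtain ⟨t', ht'⟩ : ∃ t', t' = y⁻¹ * t * y := ⟨_, rfl⟩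
      have ht'T : t' ∈ T := by
        rw [ht']
        have := hTn.conj_mem t ht y⁻¹
        rwa [inv_inv] at this
      obtain ⟨c₂, hc₂⟩ : ∃ c₂, c₂ = a * t' * a⁻¹ * t'⁻¹ := ⟨_, rfl⟩
      obtain ⟨hc₂T, hc₂c, hc₂Y⟩ := hC0 a ha t' ht'T
      rw [← hc₂] at hc₂T hc₂c hc₂Y
      -- a commutes with c₁
      have hac₁ : a * c₁ = c₁ * a := by
        have h2 := hcl _ hS a⁻¹ (hAS (A.inv_mem ha)) t (hTS ht) a (hAS ha)
        rw [commutatorElement_eq_one_iff_mul_comm, commutatorElement_def, ← hc₁] at h2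
        exact h2.symm
      -- u t u⁻¹ = c₁ c₂ t
      have e1 : a⁻¹ * t * a = c₁ * t := by rw [hc₁]; group
      have e2 : y⁻¹ * (c₁ * t) * y = c₁ * t' := by
        have h2 : y⁻¹ * c₁ = c₁ * y⁻¹ := by
          have := hc₁Y y⁻¹ (Y.inv_mem hy)
          exact this
        have h3 := conj_mul_of_comm (x := t) h2
        rw [inv_inv] at h3
        rw [h3, ht']
      have e3 : a * (c₁ * t') * a⁻¹ = c₁ * (c₂ * t') := by
        rw [conj_mul_of_comm hac₁, hc₂]; group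
      have e4 : y * (c₁ * (c₂ * t')) * y⁻¹ = c₁ * (c₂ * t) := by
        rw [conj_mul_of_comm (hc₁Y y hy), conj_mul_of_comm (hc₂Y y hy), ht']; group
      have e5 : u * t * u⁻¹ = (c₁ * c₂) * t := by
        calc u * t * u⁻¹ = y * (a * (y⁻¹ * (a⁻¹ * t * a) * y) * a⁻¹) * y⁻¹ := by rw [hu]; group
          _ = c₁ * (c₂ * t) := by rw [e1, e2, e3, e4]
          _ = (c₁ * c₂) * t := by group
      obtain ⟨c, hc⟩ : ∃ c, c = c₁ * c₂ := ⟨_, rfl⟩
      rw [← hc] at e5
      have hcT : c ∈ T := by rw [hc]; exact T.mul_mem hc₁T hc₂T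
      have hct : c * t = t * c := by
        rw [hc, mul_assoc, hc₂c t ht, ← mul_assoc, hc₁c t ht, mul_assoc]
      have huc : u * c = c * u := by
        rw [hc, ← mul_assoc, hc₁Y u huY, mul_assoc, hc₂Y u huY, ← mul_assoc]
      -- iterate
      have hg : (MulAut.conj u) t = t * c := by rw [MulAut.conj_apply, e5, hct]
      have hcfix : (MulAut.conj u) c = c := by
        rw [MulAut.conj_apply, huc, mul_inv_cancel_right]
      have h5 := aut_pow_apply_of_fixed (MulAut.conj u) t c hg hcfix (orderOf u)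
      rw [← map_pow, pow_orderOf_eq_one, map_one, MulAut.one_apply] at h5
      have h6 : c ^ orderOf u = 1 := by
        have := congrArg (fun s => t⁻¹ * s) h5
        beta_reduce at this
        rw [inv_mul_cancel, inv_mul_cancel_left] at this
        exact this.symm
      obtain ⟨k, hk⟩ := hTpow c hcT
      have h7 : orderOf c ∣ Nat.gcd (orderOf u) (p ^ k) :=
        Nat.dvd_gcd (orderOf_dvd_of_pow_eq_one h6) (orderOf_dvd_of_pow_eq_one hk)
      have h8 : orderOf u ∣ Nat.card Y := by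
        have : orderOf (⟨u, huY⟩ : ↥Y) = orderOf u := Subgroup.orderOf_mk u huY
        rw [← this]; exact orderOf_dvd_natCard _
      have h9 : Nat.gcd (orderOf u) (p ^ k) = 1 :=
        Nat.Coprime.pow_right k (Nat.Coprime.coprime_dvd_left h8 hY)
      rw [h9, Nat.dvd_one, orderOf_eq_one_iff] at h7
      rw [e5, h7, one_mul]
    have huC : u ∈ Subgroup.centralizer (T : Set X) := by
      rw [Subgroup.mem_centralizer_iff]
      intro t ht
      have h2 := hkey t ht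
      have h3 := congrArg (fun s => s * u) h2
      beta_reduce at h3
      rw [inv_mul_cancel_right] at h3
      exact h3.symm
    have huT : u ∈ Y ⊓ T := Subgroup.mem_inf.mpr ⟨huY, hCT huC⟩
    rw [hYT, Subgroup.mem_bot] at huT
    rw [hu] at huT
    have h3 := congrArg (fun s => s * (a * y)) huT
    beta_reduce at h3
    rw [one_mul] at h3
    rw [← h3]; group
  have hcomm : ⁅Y, A⁆ = ⊥ := by
    rw [Subgroup.commutator_eq_bot_iff_le_centralizer]
    intro y hy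
    rw [Subgroup.mem_centralizer_iff]
    intro a ha
    exact (hYA y hy a ha).symm
  have hTY : ⁅T, Y⁆ = ⊥ := by
    apply Helper8.thompson_AxB p Y A hA hY hcomm _ T rfl hTp
    · exact fun y _ => by
        rw [Subgroup.normalizer_eq_top_iff.mpr hTn]; exact Subgroup.mem_top y
    · exact fun a _ => by
        rw [Subgroup.normalizer_eq_top_iff.mpr hTn]; exact Subgroup.mem_top a
    · intro x hx
      obtain ⟨hxT, hxC⟩ := Subgroup.mem_inf.mp hx
      have hxA := hAfull x hxC (hTpow x hxT)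
      rw [Subgroup.mem_centralizer_iff]
      intro y hy
      exact h1 x hxA hxT y hy
  rw [Subgroup.commutator_eq_bot_iff_le_centralizer] at hTY
  rw [eq_bot_iff]
  intro y hy
  have hyC : y ∈ Subgroup.centralizer (T : Set X) := by
    rw [Subgroup.mem_centralizer_iff]
    intro t ht
    exact Subgroup.mem_centralizer_iff.mp (hTY ht) y hy |>.symm
  have hyT : y ∈ Y ⊓ T := Subgroup.mem_inf.mpr ⟨hy, hCT hyC⟩
  rw [hYT] at hyT
  exact hyT

/-- **General form.** In a `p`-constrained group `X`, a `p'`-subgroup `Y` normalised by a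
`p`-subgroup `A` that contains every `p`-element of its centralizer lies in `O_{p'}(X)`, provided
`p` is odd or all `p`-subgroups of `X` have class at most two. -/
theorem invariant_p'_le_pPrimeCore_of_constrained {X : Type u} [Group X] [Finite X] {p : ℕ}
    [hp : Fact p.Prime] (hcon : Cfsg.IsPConstrained p X) (A Y : Subgroup X) (hA : IsPGroup p A)
    (hAfull : ∀ x ∈ Subgroup.centralizer (A : Set X), (∃ k : ℕ, x ^ p ^ k = 1) → x ∈ A)
    (hY : (Nat.card Y).Coprime p) (hAY : A ≤ Subgroup.normalizer (Y : Set X))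
    (hcase : p ≠ 2 ∨
      ∀ P : Subgroup X, IsPGroup p P → ∀ x ∈ P, ∀ y ∈ P, ∀ z ∈ P, ⁅⁅x, y⁆, z⁆ = 1) :
    Y ≤ Cfsg.pPrimeCore p X := by
  obtain ⟨R, hR⟩ : ∃ R : Subgroup X, R = Cfsg.pPrimeCore p X := ⟨_, rfl⟩
  have hRn : R.Normal := by rw [hR]; exact pPrimeCore_normal p
  have hRp : (Nat.card R).Coprime p := by rw [hR]; exact pPrimeCore_card_coprime p
  have hbot : Cfsg.pPrimeCore p (X ⧸ R) = ⊥ := by subst hR; exact pPrimeCore_quotient_eq_bot p
  have hconq : Cfsg.IsPConstrained p (X ⧸ R) := by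
    subst hR; exact isPConstrained_iff_quotient.mp hcon
  have hCT := (isPConstrained_iff_of_pPrimeCore_eq_bot hbot).mp hconq
  rw [← hR]
  obtain ⟨π, hπ⟩ : ∃ π : X →* X ⧸ R, π = QuotientGroup.mk' R := ⟨_, rfl⟩
  have hπker : ∀ g, π g = 1 ↔ g ∈ R := by
    intro g; rw [hπ]; exact QuotientGroup.eq_one_iff g
  have hπsurj : Function.Surjective π := by rw [hπ]; exact QuotientGroup.mk'_surjective R
  have hfull' : ∀ xbar ∈ Subgroup.centralizer ((A.map π : Subgroup (X ⧸ R)) : Set (X ⧸ R)),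
      (∃ k : ℕ, xbar ^ p ^ k = 1) → xbar ∈ A.map π := by
    rintro xbar hxbar ⟨k, hxp⟩
    obtain ⟨g, rfl⟩ := hπsurj xbar
    have hg : ∀ a ∈ A, g * a * g⁻¹ * a⁻¹ ∈ R := by
      intro a ha
      rw [← hπker, map_mul, map_mul, map_mul, map_inv, map_inv]
      have h2 := Subgroup.mem_centralizer_iff.mp hxbar (π a) ⟨a, ha, rfl⟩
      rw [← h2]; group
    obtain ⟨r, hr, c, hc, rfl⟩ := exists_mul_mem_centralizer_of_comm_mem R hRp A hA g hg
    have hπc : π (r * c) = π c := by rw [map_mul, (hπker r).mpr hr, one_mul]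
    rw [hπc] at hxp ⊢
    obtain ⟨e, he⟩ : ∃ e, e = Nat.card R ^ Nat.totient (p ^ k) := ⟨_, rfl⟩
    have he1 : e ≡ 1 [MOD p ^ k] := by
      rw [he]; exact Nat.ModEq.pow_totient (Nat.Coprime.pow_right k hRp)
    have he2 : Nat.card R ∣ e := by
      rw [he]; exact dvd_pow_self _ (Nat.totient_pos.mpr (pow_pos hp.out.pos k)).ne'
    have hcp : (c ^ e) ^ p ^ k = 1 := by
      have h1 : c ^ p ^ k ∈ R := by rw [← hπker, map_pow]; exact hxp
      obtain ⟨j, hj⟩ := he2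
      have h2 : (c ^ p ^ k) ^ Nat.card R = 1 := by
        have h3 := pow_card_eq_one' (G := ↥R) (x := ⟨c ^ p ^ k, h1⟩)
        exact congrArg Subtype.val h3
      rw [← pow_mul, mul_comm, pow_mul, hj, pow_mul, h2, one_pow]
    have hcC : c ^ e ∈ Subgroup.centralizer (A : Set X) := Subgroup.pow_mem _ hc e
    have hcA : c ^ e ∈ A := hAfull _ hcC ⟨k, hcp⟩
    have hπe : π (c ^ e) = π c := by
      rw [map_pow]
      have h3 : orderOf (π c) ∣ p ^ k := orderOf_dvd_of_pow_eq_one hxp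
      have h4 : e ≡ 1 [MOD orderOf (π c)] := he1.of_dvd h3
      have h5 := pow_eq_pow_iff_modEq.mpr h4
      rw [h5, pow_one]
    rw [← hπe]
    exact ⟨_, hcA, rfl⟩
  have hYq : (Nat.card (Y.map π)).Coprime p :=
    Nat.Coprime.coprime_dvd_left (Subgroup.card_map_dvd Y π) hY
  have hAYq : A.map π ≤ Subgroup.normalizer ((Y.map π : Subgroup (X ⧸ R)) : Set (X ⧸ R)) := by
    apply le_normalizer_of_conj_mem
    rintro _ ⟨a, ha, rfl⟩ _ ⟨y, hy, rfl⟩
    exact ⟨a * y * a⁻¹, (Subgroup.mem_normalizer_iff.mp (hAY ha) y).mp hy, by simp⟩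
  have key : Y.map π = ⊥ := by
    rcases hcase with hp2 | hcl
    · exact invariant_p'_eq_bot_odd hp2 hCT (A.map π) (Y.map π) (hA.map π)
        (fun x hx hxp => hfull' x hx ⟨1, by rw [pow_one]; exact hxp⟩) hYq hAYq
    · apply invariant_p'_eq_bot_class_two hCT (A.map π) (Y.map π) (hA.map π) hfull' hYq hAYq
      intro P hP x hx y hy z hz
      obtain ⟨T, -, hTp, hTmap, -⟩ := Lead.LiftPSub.exists_lift p R hRp ⊥ IsPGroup.of_bot P hP
        (by rw [Subgroup.map_bot]; exact bot_le)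
      rw [← hπ] at hTmap
      rw [← hTmap] at hx hy hz
      obtain ⟨x', hx', rfl⟩ := hx
      obtain ⟨y', hy', rfl⟩ := hy
      obtain ⟨z', hz', rfl⟩ := hz
      rw [← map_commutatorElement, ← map_commutatorElement, hcl T hTp x' hx' y' hy' z' hz',
        map_one]
  intro y hy
  have h2 : π y ∈ Y.map π := ⟨y, hy, rfl⟩
  rw [key, Subgroup.mem_bot] at h2
  exact (hπker y).mp h2

end Cfsg.Agent.Lib.Helper1
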