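import Mathlib
import Cfsg.Agent.Lib.Helper1.InvPPrime2
import Cfsg.Agent.Lib.Helper1.PConstrainedOfPSolvable
import Cfsg.Agent.Lib.Helper1.PSolvSub
import Cfsg.Agent.Lib.Helper9.SylowConj

set_option autoImplicit false
open scoped commutatorElement
universe u

namespace Cfsg.Agent.Lib.Helper1

/-- Odd `p`, `p`-constrained `X`, with the `Ω₁`-form of the hypothesis on `A`. -/
theorem invariant_p'_le_pPrimeCore_of_constrained_odd {X : Type u} [Group X] [Finite X] {p : ℕ}
    [hp : Fact p.Prime] (hp2 : p ≠ 2) (hcon : Cfsg.IsPConstrained p X) (A Y : Subgroup X)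
    (hA : IsPGroup p A)
    (hAΩ : ∀ x ∈ Subgroup.centralizer (A : Set X), x ^ p = 1 → x ∈ A)
    (hY : (Nat.card Y).Coprime p) (hAY : A ≤ Subgroup.normalizer (Y : Set X)) :
    Y ≤ Cfsg.pPrimeCore p X := by
  obtain ⟨R, hR⟩ : ∃ R : Subgroup X, R = Cfsg.pPrimeCore p X := ⟨_, rfl⟩
  have hRn : R.Normal := by rw [hR]; exact pPrimeCore_normal p
  have hRp : (Nat.card R).Coprime p := by rw [hR]; exact pPrimeCore_card_coprime p
  have hbot : Cfsg.pPrimeCore p (X ⧸ R) = ⊥ := by subst hR; exact pPrimeCore_quotient_eq_bot p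
  have hconq : Cfsg.IsPConstrained p (X ⧸ R) := by
    subst hR; exact isPConstrained_iff_quotient.mp hcon
  have hCT := (isPConstrained_iff_of_pPrimeCore_eq_bot hbot).mp hconq
  rw [← hR]
  obtain ⟨π, hπ⟩ : ∃ π : X →* X ⧸ R, π = QuotientGroup.mk' R := ⟨_, rfl⟩
  have hπker : ∀ g, π g = 1 ↔ g ∈ R := by
    intro g; rw [hπ]; exact QuotientGroup.eq_one_iff g
  have hπsurj : Function.Surjective π := by rw [hπ]; exact QuotientGroup.mk'_surjective R
  have hfull' : ∀ xbar ∈ Subgroup.centralizer ((A.map π : Subgroup (X ⧸ R)) : Set (X ⧸ R)),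
      xbar ^ p = 1 → xbar ∈ A.map π := by
    rintro xbar hxbar hxp
    obtain ⟨g, rfl⟩ := hπsurj xbar
    have hg : ∀ a ∈ A, g * a * g⁻¹ * a⁻¹ ∈ R := by
      intro a ha
      rw [← hπker, map_mul, map_mul, map_mul, map_inv, map_inv]
      have h2 := Subgroup.mem_centralizer_iff.mp hxbar (π a) ⟨a, ha, rfl⟩
      rw [← h2]; group
    obtain ⟨r, hr, c, hc, rfl⟩ := exists_mul_mem_centralizer_of_comm_mem R hRp A hA g hg
    have hπc : π (r * c) = π c := by rw [map_mul, (hπker r).mpr hr, one_mul]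
    rw [hπc] at hxp ⊢
    obtain ⟨e, he⟩ : ∃ e, e = Nat.card R ^ Nat.totient p := ⟨_, rfl⟩
    have he1 : e ≡ 1 [MOD p] := by
      rw [he]; exact Nat.ModEq.pow_totient hRp
    have he2 : Nat.card R ∣ e := by
      rw [he]; exact dvd_pow_self _ (Nat.totient_pos.mpr hp.out.pos).ne'
    have hcp : (c ^ e) ^ p = 1 := by
      have h1 : c ^ p ∈ R := by rw [← hπker, map_pow]; exact hxp
      obtain ⟨j, hj⟩ := he2
      have h2 : (c ^ p) ^ Nat.card R = 1 := by
        have h3 := pow_card_eq_one' (G := ↥R) (x := ⟨c ^ p, h1⟩)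
        exact congrArg Subtype.val h3
      rw [← pow_mul, mul_comm, pow_mul, hj, pow_mul, h2, one_pow]
    have hcC : c ^ e ∈ Subgroup.centralizer (A : Set X) := Subgroup.pow_mem _ hc e
    have hcA : c ^ e ∈ A := hAΩ _ hcC hcp
    have hπe : π (c ^ e) = π c := by
      rw [map_pow]
      have h3 : orderOf (π c) ∣ p := orderOf_dvd_of_pow_eq_one hxp
      have h4 : e ≡ 1 [MOD orderOf (π c)] := he1.of_dvd h3
      have h5 := pow_eq_pow_iff_modEq.mpr h4
      rw [h5, pow_one]
    rw [← hπe]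
    exact ⟨_, hcA, rfl⟩
  have hYq : (Nat.card (Y.map π)).Coprime p :=
    Nat.Coprime.coprime_dvd_left (Subgroup.card_map_dvd Y π) hY
  have hAYq : A.map π ≤ Subgroup.normalizer ((Y.map π : Subgroup (X ⧸ R)) : Set (X ⧸ R)) := by
    apply le_normalizer_of_conj_mem
    rintro _ ⟨a, ha, rfl⟩ _ ⟨y, hy, rfl⟩
    exact ⟨a * y * a⁻¹, (Subgroup.mem_normalizer_iff.mp (hAY ha) y).mp hy, by simp⟩
  have key : Y.map π = ⊥ :=
    invariant_p'_eq_bot_odd hp2 hCT (A.map π) (Y.map π) (hA.map π) hfull' hYq hAYq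
  intro y hy
  have h2 : π y ∈ Y.map π := ⟨y, hy, rfl⟩
  rw [key, Subgroup.mem_bot] at h2
  exact (hπker y).mp h2

/-- `p`-solvable groups are `p`-constrained. -/
theorem isPConstrained_of_isPSolvable {G : Type u} [Group G] [Finite G] {p : ℕ}
    [hp : Fact p.Prime] (hG : Cfsg.IsPSolvable p G) : Cfsg.IsPConstrained p G := by
  obtain ⟨P⟩ : Nonempty (Sylow p ↥(Cfsg.pPrimePCore p G)) := inferInstance
  exact isPConstrained_of_isPSolvable_centralizer P (PSolvSub.isPSolvable_subgroup hG _)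

/-- Core of S1902. -/
theorem s1902_core {G : Type u} [Group G] [Finite G] {p : ℕ} [hp : Fact p.Prime] (hp2 : p ≠ 2)
    (hG : Cfsg.IsPSolvable p G) (B : Subgroup G) (hB : Cfsg.IsElementaryAbelian p B)
    (b₀ : G) (hb₀ : b₀ ∈ B) (P : Sylow p ↥(Subgroup.centralizer ({b₀} : Set G)))
    (hBP : B = Subgroup.closure {x : G | x ∈ ((P : Subgroup ↥(Subgroup.centralizer ({b₀} : Set G))).map
      (Subgroup.centralizer ({b₀} : Set G)).subtype : Subgroup G) ∧ orderOf x = p})
    (Q : Subgroup G) (hQ : ¬ p ∣ Nat.card Q) (hinv : ∀ b ∈ B, ∀ x ∈ Q, b * x * b⁻¹ ∈ Q) :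
    Q ≤ Cfsg.pPrimeCore p G := by
  have hBp : IsPGroup p B := by
    intro b
    refine ⟨1, ?_⟩
    apply Subtype.ext
    rw [pow_one, Subgroup.coe_pow, Subgroup.coe_one]
    exact hB.2 b b.2
  have hBcomm : ∀ x ∈ B, ∀ y ∈ B, x * y = y * x := by
    intro x hx y hy
    have h := hB.1.is_comm.comm (⟨x, hx⟩ : B) ⟨y, hy⟩
    exact congrArg Subtype.val h
  obtain ⟨C, hC⟩ : ∃ C : Subgroup G, C = Subgroup.centralizer ({b₀} : Set G) := ⟨_, rfl⟩
  have hmemC : ∀ y : G, y * b₀ = b₀ * y → y ∈ C := by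
    intro y hy
    rw [hC, Subgroup.mem_centralizer_iff]
    intro z hz
    rw [Set.mem_singleton_iff] at hz
    rw [hz]; exact hy.symm
  subst hC
  apply invariant_p'_le_pPrimeCore_of_constrained_odd hp2 (isPConstrained_of_isPSolvable hG) B Q hBp
  · -- Ω₁ hypothesis
    intro x hx hxp
    by_cases hx1 : x = 1
    · rw [hx1]; exact B.one_mem
    have hxo : orderOf x = p := orderOf_eq_prime hxp hx1
    have hBC : B ≤ Subgroup.centralizer ({b₀} : Set G) := by
      intro b hb
      exact hmemC b (hBcomm _ hb _ hb₀)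
    have hxC : x ∈ Subgroup.centralizer ({b₀} : Set G) :=
      hmemC x (Subgroup.mem_centralizer_iff.mp hx b₀ hb₀).symm
    obtain ⟨D, hD⟩ : ∃ D : Subgroup G, D = Subgroup.zpowers x ⊔ B := ⟨_, rfl⟩
    have hZp : IsPGroup p (Subgroup.zpowers x) := by
      rw [IsPGroup.iff_card, Nat.card_zpowers, hxo]
      exact ⟨1, (pow_one p).symm⟩
    have hZB : Subgroup.zpowers x ≤ Subgroup.normalizer (B : Set G) := by
      rw [Subgroup.zpowers_le]
      exact Subgroup.centralizer_le_normalizer (B : Set G) hx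
    have hDp : IsPGroup p D := by
      rw [hD]; exact IsPGroup.to_sup_of_normal_right' hZp hBp hZB
    have hDC : D ≤ Subgroup.centralizer ({b₀} : Set G) := by
      rw [hD]
      exact sup_le (by rw [Subgroup.zpowers_le]; exact hxC) hBC
    have hxD : x ∈ D := by
      rw [hD]; exact Subgroup.mem_sup_left (Subgroup.mem_zpowers x)
    have hBD : B ≤ D := by rw [hD]; exact le_sup_right
    have hD'p : IsPGroup p (D.subgroupOf (Subgroup.centralizer ({b₀} : Set G))) :=
      hDp.comap_of_injective _ (Subgroup.subtype_injective _)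
    obtain ⟨g, hg⟩ := Helper9.exists_cj_le_sylow P hD'p
    have key : ∀ y ∈ D, orderOf y = p → (g : G) * y * (g : G)⁻¹ ∈ B := by
      intro y hy hyo
      have h1 : (⟨y, hDC hy⟩ : ↥(Subgroup.centralizer ({b₀} : Set G))) ∈
          D.subgroupOf (Subgroup.centralizer ({b₀} : Set G)) := by
        rw [Subgroup.mem_subgroupOf]; exact hy
      have h2 := hg (Helper9.cj_mem_cj (g := g) h1)
      rw [hBP]
      apply Subgroup.subset_closure
      refine ⟨⟨_, h2, ?_⟩, ?_⟩
      · simp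
      · rw [← hyo]
        have := orderOf_injective (MulAut.conj (g : G)).toMonoidHom (MulAut.conj (g : G)).injective y
        simpa using this
    have hBB : ∀ b ∈ B, (g : G) * b * (g : G)⁻¹ ∈ B := by
      intro b hb
      by_cases hb1 : b = 1
      · rw [hb1]; simp [B.one_mem]
      · exact key b (hBD hb) (orderOf_eq_prime (hB.2 b hb) hb1)
    have hmap : B.map (MulAut.conj (g : G)).toMonoidHom = B := by
      apply Subgroup.eq_of_le_of_card_ge
      · rintro _ ⟨b, hb, rfl⟩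
        exact hBB b hb
      · rw [Helper9.card_cj]
    have hxB := key x hxD hxo
    rw [← hmap] at hxB
    obtain ⟨b, hb, hbx⟩ := hxB
    have : b = x := by
      have h3 : (g : G) * b * (g : G)⁻¹ = (g : G) * x * (g : G)⁻¹ := hbx
      have h4 := mul_right_cancel h3
      exact mul_left_cancel h4
    rw [← this]; exact hb
  · exact ((Nat.Prime.coprime_iff_not_dvd hp.out).mpr hQ).symm
  · apply le_normalizer_of_conj_mem
    intro b hb y hy
    exact hinv b hb y hy

end Cfsg.Agent.Lib.Helper1
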