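import Mathlib
import Cfsg.Agent.Lib.Helper1.PNilpotentLocal
import Cfsg.Agent.Lib.Helper1.HallComplement
set_option autoImplicit false
open Pointwise
open scoped commutatorElement

namespace Cfsg.Agent.Lib.Helper1

universe u

variable {G : Type u} [Group G]

theorem isNilpotent_sup_of_commute (A L : Subgroup G) (hA : Group.IsNilpotent A)
    (hL : Group.IsNilpotent L) (hcomm : ∀ a ∈ A, ∀ b ∈ L, a * b = b * a) :
    Group.IsNilpotent (A ⊔ L : Subgroup G) := by
  have hc : ∀ (m : A) (n : L), Commute (A.subtype m) (L.subtype n) := fun a b => hcomm a a.2 b b.2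
  let φ : A × L →* G := MonoidHom.noncommCoprod A.subtype L.subtype hc
  have hr : φ.range = A ⊔ L := by
    rw [MonoidHom.noncommCoprod_range, Subgroup.range_subtype, Subgroup.range_subtype]
  have h1 : Group.IsNilpotent φ.range :=
    Group.nilpotent_of_surjective φ.rangeRestrict φ.rangeRestrict_surjective
  rw [hr] at h1
  exact h1

theorem frobeniusCondition_of_isNilpotent [Finite G] {p : ℕ} [hp : Fact p.Prime]
    (hG : Group.IsNilpotent G) : FrobeniusCondition p G := by
  intro Q hQ g hg hgo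
  have htop : Group.IsNilpotent (⊤ : Subgroup G) := Group.isNilpotent_top.mpr hG
  have hcop : (Nat.card (Subgroup.zpowers g)).Coprime (Nat.card Q) := by
    rw [Nat.card_zpowers]
    obtain ⟨k, hk⟩ := IsPGroup.iff_card.mp hQ
    rw [hk]
    exact hgo.pow_right k
  have h := commutator_eq_bot_of_nilpotent_of_coprime ⊤ Q (Subgroup.zpowers g) htop le_top le_top
    (Subgroup.zpowers_le.mpr hg) hcop
  rw [Subgroup.commutator_eq_bot_iff_le_centralizer] at h
  rw [Subgroup.mem_centralizer_iff]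
  intro y hy
  exact (h hy g (Subgroup.mem_zpowers g)).symm

theorem ito_minimal_non_p_nilpotent [Finite G] {p : ℕ} [hp : Fact p.Prime]
    (h1 : ¬ Cfsg.HasNormalPComplement p G)
    (h2 : ∀ H : Subgroup G, H ≠ ⊤ → Cfsg.HasNormalPComplement p H) :
    (∀ H : Subgroup G, H ≠ ⊤ → Group.IsNilpotent H) ∧ ¬ Group.IsNilpotent G ∧
      ∀ P : Sylow p G, (P : Subgroup G).Normal := by
  have hnF : ¬ FrobeniusCondition p G :=
    fun h => h1 (hasNormalPComplement_iff_frobeniusCondition.mpr h)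
  have hnF0 := hnF
  unfold FrobeniusCondition at hnF
  push Not at hnF
  obtain ⟨Q, hQ, g, hg, hgo, hgc⟩ := hnF
  set K := Q ⊔ Subgroup.zpowers g with hK
  have hQK : Q ≤ K := le_sup_left
  have hgK : g ∈ K := (le_sup_right : Subgroup.zpowers g ≤ K) (Subgroup.mem_zpowers g)
  have hKtop : K = ⊤ := by
    by_contra hKne
    have hF := h2 K hKne
    rw [hasNormalPComplement_iff_frobeniusCondition] at hF
    have hQ' : IsPGroup p (Q.subgroupOf K) := hQ.of_equiv (Subgroup.subgroupOfEquivOfLe hQK).symm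
    have hg' : (⟨g, hgK⟩ : K) ∈ Subgroup.normalizer ((Q.subgroupOf K : Subgroup K) : Set K) := by
      rw [Subgroup.mem_normalizer_iff]
      intro y
      rw [Subgroup.mem_subgroupOf, Subgroup.mem_subgroupOf]
      exact Subgroup.mem_normalizer_iff.mp hg (y : G)
    have hgo' : Nat.Coprime (orderOf (⟨g, hgK⟩ : K)) p := by
      rw [← Subgroup.orderOf_coe]; exact hgo
    have hc := hF _ hQ' _ hg' hgo'
    apply hgc
    rw [Subgroup.mem_centralizer_iff] at hc ⊢
    intro y hy
    have := hc ⟨y, hQK hy⟩ (Subgroup.mem_subgroupOf.mpr hy)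
    exact congrArg Subtype.val this
  have hQn : Q.Normal := by
    rw [← Subgroup.normalizer_eq_top_iff, eq_top_iff, ← hKtop]
    exact sup_le Subgroup.le_normalizer (Subgroup.zpowers_le.mpr hg)
  -- every element is q * g^k
  have hdecomp : ∀ x : G, ∃ k : ℤ, (x : G ⧸ Q) = ((g : G ⧸ Q)) ^ k := by
    intro x
    have hx : x ∈ Q ⊔ Subgroup.zpowers g := by rw [← hK, hKtop]; trivial
    rw [Subgroup.mem_sup_of_normal_left] at hx
    obtain ⟨q, hq, z, hz, rfl⟩ := hx
    obtain ⟨k, rfl⟩ := Subgroup.mem_zpowers_iff.mp hz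
    refine ⟨k, ?_⟩
    rw [QuotientGroup.mk_mul, (QuotientGroup.eq_one_iff q).mpr hq, one_mul, QuotientGroup.mk_zpow]
  have hquot_comm : ∀ a b : G ⧸ Q, a * b = b * a := by
    intro a b
    obtain ⟨a, rfl⟩ := QuotientGroup.mk_surjective a
    obtain ⟨b, rfl⟩ := QuotientGroup.mk_surjective b
    obtain ⟨k, hk⟩ := hdecomp a
    obtain ⟨l, hl⟩ := hdecomp b
    rw [hk, hl, ← zpow_add, ← zpow_add, add_comm]
  have hidx : ¬ p ∣ Q.index := by
    have htop : (⊤ : Subgroup (G ⧸ Q)) = Subgroup.zpowers (g : G ⧸ Q) := by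
      rw [eq_comm, eq_top_iff]
      intro x _
      obtain ⟨x, rfl⟩ := QuotientGroup.mk_surjective x
      obtain ⟨k, hk⟩ := hdecomp x
      rw [hk]
      exact Subgroup.zpow_mem_zpowers _ k
    have hcard : Q.index = orderOf (g : G ⧸ Q) := by
      rw [Subgroup.index, ← Nat.card_zpowers, ← htop, Subgroup.card_top]
    have hdvd : orderOf (g : G ⧸ Q) ∣ orderOf g := orderOf_dvd_of_pow_eq_one (by
      rw [← QuotientGroup.mk_pow, pow_orderOf_eq_one]; rfl)
    intro hp'
    rw [hcard] at hp'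
    exact (Nat.Prime.coprime_iff_not_dvd hp.out).mp hgo.symm (hp'.trans hdvd)
  let P₀ : Sylow p G := hQ.toSylow hidx
  have hP₀ : (P₀ : Subgroup G) = Q := IsPGroup.toSylow_coe _ _
  have hall : ∀ P : Sylow p G, (P : Subgroup G) = Q := by
    intro P
    obtain ⟨u, hu⟩ := MulAction.exists_smul_eq G P₀ P
    have hP₀n : (P₀ : Subgroup G).Normal := hP₀ ▸ hQn
    rw [← hu, Sylow.smul_eq_of_normal, hP₀]
  have hpelem : ∀ A : Subgroup G, IsPGroup p A → A ≤ Q := by
    intro A hA
    obtain ⟨R, hR⟩ := hA.exists_le_sylow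
    rw [hall R] at hR
    exact hR
  refine ⟨?_, ?_, ?_⟩
  · intro H hH
    obtain ⟨PH, L₀, hL₀n, hL₀c⟩ := h2 H hH
    set A := Q ⊓ H with hA
    set L := L₀.map H.subtype with hL
    have hLH : L ≤ H := Subgroup.map_subtype_le _
    have hPHQ : (PH : Subgroup H).map H.subtype ≤ Q := hpelem _ (PH.2.map _)
    have hAL : A ⊔ L = H := by
      apply le_antisymm (sup_le inf_le_right hLH)
      intro x hx
      have hx' : (⟨x, hx⟩ : H) ∈ L₀ ⊔ (PH : Subgroup H) := by rw [hL₀c.sup_eq_top]; trivial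
      rw [Subgroup.mem_sup_of_normal_left] at hx'
      obtain ⟨l, hl, s, hs, hls⟩ := hx'
      have hxe : x = (l : G) * (s : G) := (congrArg Subtype.val hls).symm
      rw [hxe]
      exact Subgroup.mul_mem _ (Subgroup.mem_sup_right ⟨l, hl, rfl⟩)
        (Subgroup.mem_sup_left (Subgroup.mem_inf.mpr ⟨hPHQ ⟨s, hs, rfl⟩, s.2⟩))
    have hcardL : (Nat.card L).Coprime p := by
      rw [hL, Subgroup.card_map_of_injective (Subgroup.subtype_injective H), ← hL₀c.index_eq_card,
        Nat.coprime_comm, hp.out.coprime_iff_not_dvd]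
      exact PH.not_dvd_index
    have hdisj : ∀ x, x ∈ Q → x ∈ L → x = 1 := by
      intro x hxQ hxL
      rw [← orderOf_eq_one_iff]
      obtain ⟨k, hk⟩ := IsPGroup.iff_card.mp hQ
      have h3 : orderOf x ∣ p ^ k := by
        have := orderOf_dvd_natCard (⟨x, hxQ⟩ : Q)
        rwa [← Subgroup.orderOf_coe, hk] at this
      have h4 : orderOf x ∣ Nat.card L := by
        have := orderOf_dvd_natCard (⟨x, hxL⟩ : L)
        rwa [← Subgroup.orderOf_coe] at this
      exact Nat.eq_one_of_dvd_coprimes (hcardL.pow_right k) h4 h3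
    have hLnorm : ∀ a ∈ H, ∀ b ∈ L, a * b * a⁻¹ ∈ L := by
      rintro a ha b ⟨b₀, hb₀, rfl⟩
      exact ⟨⟨a, ha⟩ * b₀ * ⟨a, ha⟩⁻¹, hL₀n.conj_mem b₀ hb₀ ⟨a, ha⟩, rfl⟩
    have hcomm : ∀ a ∈ A, ∀ b ∈ L, a * b = b * a := by
      intro a ha b hb
      obtain ⟨haQ, haH⟩ := Subgroup.mem_inf.mp ha
      have hc1 : a * b * a⁻¹ * b⁻¹ ∈ Q := by
        have := Q.mul_mem haQ (hQn.conj_mem a⁻¹ (Q.inv_mem haQ) b)
        have e : a * (b * a⁻¹ * b⁻¹) = a * b * a⁻¹ * b⁻¹ := by group
        rwa [e] at this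
      have hc2 : a * b * a⁻¹ * b⁻¹ ∈ L := L.mul_mem (hLnorm a haH b hb) (L.inv_mem hb)
      have := hdisj _ hc1 hc2
      have h5 := congrArg (fun t => t * b * a) this
      simpa [mul_assoc] using h5
    have hLcomm : ∀ b ∈ L, ∀ b' ∈ L, b * b' = b' * b := by
      intro b hb b' hb'
      have hc1 : b * b' * b⁻¹ * b'⁻¹ ∈ Q := by
        rw [← QuotientGroup.eq_one_iff]
        simp only [QuotientGroup.mk_mul, QuotientGroup.mk_inv]
        rw [hquot_comm (b : G ⧸ Q) (b' : G ⧸ Q)]
        group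
      have hc2 : b * b' * b⁻¹ * b'⁻¹ ∈ L :=
        L.mul_mem (L.mul_mem (L.mul_mem hb hb') (L.inv_mem hb)) (L.inv_mem hb')
      have := hdisj _ hc1 hc2
      have h5 := congrArg (fun t => t * b' * b) this
      simpa [mul_assoc] using h5
    have hAnil : Group.IsNilpotent A := (hQ.to_le inf_le_left).isNilpotent
    have hLnil : Group.IsNilpotent L := by
      let _ : CommGroup L :=
        { (inferInstance : Group L) with mul_comm := fun a b => Subtype.ext (hLcomm a a.2 b b.2) }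
      infer_instance
    have := isNilpotent_sup_of_commute A L hAnil hLnil hcomm
    rw [hAL] at this
    exact this
  · intro hnil
    exact hnF0 (frobeniusCondition_of_isNilpotent hnil)
  · intro P
    rw [hall P]; exact hQn

end Cfsg.Agent.Lib.Helper1
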