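import Mathlib
import Cfsg.Agent.Lib.Helper7.JMDefs

/-!
# Jordan–Marggraf, piece E, part 1 (helper1): elementary lemmas on an equivariant quotient map

`π : Ω → Ωb` is a `G`-equivariant surjection, `Γ ⊆ Ω` is a Jordan set.
-/

set_option autoImplicit false

open MulAction
open scoped Pointwise
open Cfsg.Agent.Lib.Helper7.JM Cfsg.Agent.Lib.Helper7.JS

namespace Cfsg.Agent.Lib.Helper1.JM

variable {G : Type*} {Ω : Type*} {Ωb : Type*} [Group G] [MulAction G Ω] [MulAction G Ωb]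

/-- An element fixing the complement of `Γ` pointwise maps `Γ` into itself. -/
theorem smul_mem_of_fix {Γ : Set Ω} {y : G} (hy : ∀ z ∉ Γ, y • z = z) {x : Ω} (hx : x ∈ Γ) :
    y • x ∈ Γ := by
  by_contra h
  have h1 : y • (y • x) = y • x := hy _ h
  have h2 : y • x = x := MulAction.injective y h1
  exact h (h2.symm ▸ hx)

/-- `y` fixes the complement of `S` pointwise, `y'` fixes `S` pointwise: they commute pointwise. -/
theorem smul_comm_of_fix {S : Set Ωb} {y y' : G} (hy : ∀ β ∉ S, y • β = β)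
    (hy' : ∀ β ∈ S, y' • β = β) (β : Ωb) : y • y' • β = y' • y • β := by
  by_cases hβ : β ∈ S
  · rw [hy' β hβ, hy' _ (smul_mem_of_fix hy hβ)]
  · have h1 : y' • β ∉ S := by
      intro h
      have h2 : y' • (y' • β) = y' • β := hy' _ h
      have h3 : y' • β = β := MulAction.injective y' h2
      exact hβ (h3 ▸ h)
    rw [hy β hβ, hy _ h1]

/-- If `Γ` lies in one fibre of `π`, every element of the Jordan group acts trivially on `Ωb`. -/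
theorem smul_eq_of_fibre {π : Ω → Ωb} (hπ : ∀ (g : G) x, π (g • x) = g • π x)
    (hsurj : Function.Surjective π) {Γ : Set Ω}
    (hfib : ∀ γ ∈ Γ, ∀ γ' ∈ Γ, π γ = π γ') {y : G} (hy : ∀ z ∉ Γ, y • z = z) (β : Ωb) :
    y • β = β := by
  obtain ⟨ω, rfl⟩ := hsurj β
  by_cases hω : ω ∈ Γ
  · rw [← hπ]
    exact hfib _ (smul_mem_of_fix hy hω) _ hω
  · rw [← hπ, hy ω hω]

/-- A Jordan set of size `> 1` does not lie in one fibre, if `G` is faithful on `Ωb`. -/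
theorem false_of_fibre {π : Ω → Ωb} (hπ : ∀ (g : G) x, π (g • x) = g • π x)
    (hsurj : Function.Surjective π) (hfaith : ∀ g : G, (∀ β : Ωb, g • β = β) → g = 1)
    {Γ : Set Ω} (h1 : 1 < Γ.ncard) (hJ : Jor G Γ)
    (hfib : ∀ γ ∈ Γ, ∀ γ' ∈ Γ, π γ = π γ') : False := by
  obtain ⟨γ₀, γ₁, hγ₀, hγ₁, hne⟩ :=
    (Set.one_lt_ncard_iff (Set.finite_of_ncard_pos (by omega))).mp h1
  obtain ⟨g₀, hg₀fix, hg₀⟩ := hJ γ₀ hγ₀ γ₁ hγ₁
  have : g₀ = 1 := hfaith g₀ (smul_eq_of_fibre hπ hsurj hfib hg₀fix)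
  rw [this, one_smul] at hg₀
  exact hne hg₀

/-- The Jordan set is saturated: `Γ = π ⁻¹' (π '' Γ)`. -/
theorem mem_of_map_mem {π : Ω → Ωb} (hπ : ∀ (g : G) x, π (g • x) = g • π x)
    (hsurj : Function.Surjective π) (hfaith : ∀ g : G, (∀ β : Ωb, g • β = β) → g = 1)
    {Γ : Set Ω} (h1 : 1 < Γ.ncard) (hJ : Jor G Γ) {x : Ω} (hx : π x ∈ π '' Γ) : x ∈ Γ := by
  by_contra hxΓ
  obtain ⟨γ, hγ, hγx⟩ := hx
  apply false_of_fibre hπ hsurj hfaith h1 hJ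
  have key : ∀ γ' ∈ Γ, π γ' = π γ := by
    intro γ' hγ'
    obtain ⟨y, hy, hyγ⟩ := hJ γ hγ γ' hγ'
    rw [← hyγ, hπ, hγx, ← hπ, hy x hxΓ]
  intro a ha b hb
  rw [key a ha, key b hb]

/-- The image of a saturated Jordan set is a Jordan set. -/
theorem jor_image {π : Ω → Ωb} (hπ : ∀ (g : G) x, π (g • x) = g • π x)
    (hsurj : Function.Surjective π) {Γ : Set Ω} (hsat : ∀ x, π x ∈ π '' Γ → x ∈ Γ)
    (hJ : Jor G Γ) : Jor G (π '' Γ) := by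
  rintro _ ⟨γ, hγ, rfl⟩ _ ⟨γ', hγ', rfl⟩
  obtain ⟨y, hy, hyγ⟩ := hJ γ hγ γ' hγ'
  refine ⟨y, ?_, by rw [← hπ, hyγ]⟩
  intro z hz
  obtain ⟨ω, rfl⟩ := hsurj z
  have : ω ∉ Γ := fun h => hz ⟨ω, h, rfl⟩
  rw [← hπ, hy ω this]

/-- The final contradiction. -/
theorem false_of_inter {π : Ω → Ωb} (hπ : ∀ (g : G) x, π (g • x) = g • π x)
    (hsurj : Function.Surjective π)
    (hfaith : ∀ g : G, (∀ β : Ωb, g • β = β) → g = 1)
    {Γ : Set Ω} (hJ : Jor G Γ) {S : Set Ωb} (hΓS : ∀ x, x ∈ Γ ↔ π x ∈ S)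
    (g : G) {β₁ : Ωb} (hβ₁ : β₁ ∈ S) (hβ₁g : β₁ ∈ g • S)
    (hint : ∀ β ∈ S, β ∈ g • S → β = β₁)
    {ω ω' : Ω} (hωω' : ω ≠ ω') (hω : π ω = β₁) (hω' : π ω' = β₁)
    {ω₂ : Ω} (hω₂ : π ω₂ ∈ S) (hω₂ne : π ω₂ ≠ β₁) : False := by
  have hgΓ : ∀ x, x ∈ g • Γ ↔ π x ∈ g • S := by
    intro x
    rw [Set.mem_smul_set_iff_inv_smul_mem, Set.mem_smul_set_iff_inv_smul_mem, hΓS, hπ]
  have hJ' : Jor G (g • Γ) := hJ.smul g
  have hωΓ : ω ∈ Γ := (hΓS ω).mpr (hω ▸ hβ₁)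
  have hω₂Γ : ω₂ ∈ Γ := (hΓS ω₂).mpr hω₂
  have hωg : ω ∈ g • Γ := (hgΓ ω).mpr (hω ▸ hβ₁g)
  have hω'g : ω' ∈ g • Γ := (hgΓ ω').mpr (hω' ▸ hβ₁g)
  obtain ⟨y', hy', hy'ω⟩ := hJ' ω hωg ω' hω'g
  obtain ⟨y, hy, hyω⟩ := hJ ω hωΓ ω₂ hω₂Γ
  -- `y` fixes the complement of `S`, `y'` fixes `S` pointwise
  have hyS : ∀ β ∉ S, y • β = β := by
    intro β hβ
    obtain ⟨x, rfl⟩ := hsurj β
    have : x ∉ Γ := fun h => hβ ((hΓS x).mp h)
    rw [← hπ, hy x this]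
  have hy'S : ∀ β ∈ S, y' • β = β := by
    intro β hβ
    by_cases hβg : β ∈ g • S
    · have : β = β₁ := hint β hβ hβg
      rw [this]
      calc y' • β₁ = y' • π ω := by rw [hω]
        _ = π (y' • ω) := (hπ _ _).symm
        _ = π ω' := by rw [hy'ω]
        _ = β₁ := hω'
    · obtain ⟨x, rfl⟩ := hsurj β
      have : x ∉ g • Γ := fun h => hβg ((hgΓ x).mp h)
      rw [← hπ, hy' x this]
  have hcomm : y * y' = y' * y := by
    have h1 : (y' * y)⁻¹ * (y * y') = 1 := by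
      apply hfaith
      intro β
      rw [mul_smul, mul_smul, smul_comm_of_fix hyS hy'S β, ← mul_smul y' y, inv_smul_smul]
    exact (inv_mul_eq_one.mp h1).symm
  -- `y'` fixes `ω₂`
  have hω₂g : ω₂ ∉ g • Γ := by
    intro h
    exact hω₂ne (hint _ hω₂ ((hgΓ ω₂).mp h))
  have h1 : y' • ω₂ = ω₂ := hy' ω₂ hω₂g
  have h2 : y' • ω₂ = y • ω' := by
    rw [← hyω, ← mul_smul, ← hcomm, mul_smul, hy'ω]
  have h3 : y • ω' = y • ω := by rw [← h2, h1, hyω]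
  exact hωω' (MulAction.injective y h3).symm

end Cfsg.Agent.Lib.Helper1.JM
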