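import Mathlib
import Cfsg.Agent.Lib.Helper1.JME1

/-!
# Jordan–Marggraf, piece E, part 2 (helper1): counting fibres, set-transitivity, the core
-/

set_option autoImplicit false

open MulAction
open scoped Pointwise
open Cfsg.Agent.Lib.Helper7.JM Cfsg.Agent.Lib.Helper7.JS

namespace Cfsg.Agent.Lib.Helper1.JM

universe u v

section
variable {G : Type*} {Ω : Type*} {Ωb : Type*} [Group G] [MulAction G Ω] [MulAction G Ωb]

/-- All fibres of an equivariant map to a transitive `G`-set have the same size. -/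
theorem ncard_preimage_eq [Finite Ω] [IsPretransitive G Ωb] {π : Ω → Ωb}
    (hπ : ∀ (g : G) x, π (g • x) = g • π x) (β₀ : Ωb) (S : Set Ωb) :
    (π ⁻¹' S).ncard = S.ncard * (π ⁻¹' {β₀}).ncard := by
  classical
  choose k hk using fun β => exists_smul_eq G β₀ β
  let φ : Ωb × Ω → Ω := fun p => k p.1 • p.2
  have hφπ : ∀ p ∈ S ×ˢ (π ⁻¹' {β₀}), π (φ p) = p.1 := by
    rintro ⟨β, x⟩ ⟨-, hx⟩
    have hx' : π x = β₀ := hx
    show π (k β • x) = β
    rw [hπ, hx', hk]
  have himg : π ⁻¹' S = φ '' (S ×ˢ (π ⁻¹' {β₀})) := by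
    ext x
    constructor
    · intro hx
      refine ⟨(π x, (k (π x))⁻¹ • x), ⟨hx, ?_⟩, ?_⟩
      · show π ((k (π x))⁻¹ • x) = β₀
        rw [hπ, inv_smul_eq_iff, hk]
      · show k (π x) • (k (π x))⁻¹ • x = x
        rw [smul_inv_smul]
    · rintro ⟨p, hp, rfl⟩
      show π (φ p) ∈ S
      rw [hφπ p hp]
      exact hp.1
  have hinj : Set.InjOn φ (S ×ˢ (π ⁻¹' {β₀})) := by
    rintro ⟨β, x⟩ hp ⟨β', x'⟩ hq h
    have h1 : β = β' := by
      have := congrArg π h
      rw [hφπ _ hp, hφπ _ hq] at this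
      exact this
    subst h1
    have h2 : x = x' := MulAction.injective (k β) h
    rw [h2]
  rw [himg, Set.ncard_image_of_injOn hinj, Set.ncard_prod]

/-- An `s`-transitive group is transitive on `s`-subsets. -/
theorem exists_smul_set_eq [Finite Ωb] {s : ℕ} (h : IsMultiplyPretransitive G Ωb s)
    (S S' : Set Ωb) (hS : S.ncard = s) (hS' : S'.ncard = s) : ∃ g : G, g • S = S' := by
  classical
  haveI := Fintype.ofFinite Ωb
  haveI := Set.powersetCard.isPretransitive_of_isMultiplyPretransitive G h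
  let A : Set.powersetCard Ωb s := ⟨S.toFinset, by
    show S.toFinset.card = s
    rw [← Set.ncard_eq_toFinset_card', hS]⟩
  let A' : Set.powersetCard Ωb s := ⟨S'.toFinset, by
    show S'.toFinset.card = s
    rw [← Set.ncard_eq_toFinset_card', hS']⟩
  obtain ⟨g, hg⟩ := exists_smul_eq G A A'
  refine ⟨g, ?_⟩
  have h1 := congrArg (fun X : Set.powersetCard Ωb s => ((X : Finset Ωb) : Set Ωb)) hg
  simpa [Set.powersetCard.coe_smul, Finset.coe_smul_finset, A, A'] using h1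

end

/-- The core: there is no Jordan set with `1 < |Γ| < n/2` when there is a faithful primitive
quotient with non-trivial fibres. -/
theorem core_false {G : Type u} {Ω : Type v} {Ωb : Type u} [Group G] [MulAction G Ω]
    [MulAction G Ωb] [Finite Ω] [Finite Ωb]
    (hM : ∀ n, MargAt.{u, u} n)
    (hL : Has3 G Ωb → IsMultiplyPretransitive G Ωb (Nat.card Ωb - 2))
    (hprim : IsPreprimitive G Ωb)
    {π : Ω → Ωb} (hπ : ∀ (g : G) x, π (g • x) = g • π x) (hsurj : Function.Surjective π)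
    (hfaith : ∀ g : G, (∀ β : Ωb, g • β = β) → g = 1)
    {a a' : Ω} (haa' : a ≠ a') (hpa : π a = π a')
    (Γ : Set Ω) (h1 : 1 < Γ.ncard) (h2 : 2 * Γ.ncard < Nat.card Ω) (hJ : Jor G Γ) : False := by
  classical
  haveI : IsPretransitive G Ωb := hprim.toIsPretransitive
  obtain ⟨S, hS⟩ : ∃ S : Set Ωb, S = π '' Γ := ⟨_, rfl⟩
  have hsat : ∀ x, π x ∈ S → x ∈ Γ := fun x hx =>
    mem_of_map_mem hπ hsurj hfaith h1 hJ (hS ▸ hx)
  have hΓS : ∀ x, x ∈ Γ ↔ π x ∈ S := fun x => ⟨fun hx => hS ▸ ⟨x, hx, rfl⟩, hsat x⟩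
  have hΓpre : Γ = π ⁻¹' S := by ext x; exact hΓS x
  -- `s ≥ 2`
  have hs2 : 1 < S.ncard := by
    by_contra hle
    have hsub : S.Subsingleton := (Set.ncard_le_one_iff_subsingleton).mp (by omega)
    exact false_of_fibre hπ hsurj hfaith h1 hJ
      (fun γ hγ γ' hγ' => hsub ((hΓS γ).mp hγ) ((hΓS γ').mp hγ'))
  obtain ⟨β₁, hβ₁⟩ : S.Nonempty := by
    rw [← Set.ncard_pos]; omega
  -- counting
  have hc1 : Γ.ncard = S.ncard * (π ⁻¹' {β₁}).ncard :=
    (congrArg Set.ncard hΓpre).trans (ncard_preimage_eq hπ β₁ S)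
  have hc2 : Nat.card Ω = Nat.card Ωb * (π ⁻¹' {β₁}).ncard := by
    have := ncard_preimage_eq hπ β₁ (Set.univ)
    rwa [Set.preimage_univ, Set.ncard_univ, Set.ncard_univ] at this
  have h2s : 2 * S.ncard < Nat.card Ωb := by
    rw [hc1, hc2] at h2
    by_contra hle
    push_neg at hle
    have := Nat.mul_le_mul_right (π ⁻¹' {β₁}).ncard hle
    nlinarith
  have hJS : Jor G S := by
    rw [hS]
    exact jor_image hπ hsurj (fun x hx => hsat x (hS ▸ hx)) hJ
  have h3 : Has3 G Ωb := hM (Nat.card Ωb) G Ωb rfl hprim S hs2 h2s hJS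
  have hmt := hL h3
  have hs_le : S.ncard ≤ Nat.card Ωb - 2 := by omega
  have hmtS : IsMultiplyPretransitive G Ωb S.ncard := by
    haveI := hmt
    exact isMultiplyPretransitive_of_le hs_le (by omega)
  -- the set `S' = {β₁} ∪ T` with `T` outside `S`
  have hcompl : S.ncard - 1 ≤ (Sᶜ).ncard := by
    have := Set.ncard_add_ncard_compl S
    omega
  obtain ⟨T, hTsub, hTcard⟩ := Set.exists_subset_card_eq hcompl
  have hβ₁T : β₁ ∉ T := fun h => hTsub h hβ₁
  have hS'card : (insert β₁ T).ncard = S.ncard := by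
    rw [Set.ncard_insert_of_notMem hβ₁T, hTcard]; omega
  obtain ⟨g, hg⟩ := exists_smul_set_eq hmtS S (insert β₁ T) rfl hS'card
  obtain ⟨β₂, hβ₂, hβ₂ne⟩ : ∃ β₂ ∈ S, β₂ ≠ β₁ := Set.exists_ne_of_one_lt_ncard hs2 β₁
  obtain ⟨ω₂, hω₂⟩ := hsurj β₂
  obtain ⟨k, hk⟩ := exists_smul_eq G (π a) β₁
  refine false_of_inter hπ hsurj hfaith hJ hΓS g hβ₁ (hg ▸ Set.mem_insert _ _) ?_
    (ω := k • a) (ω' := k • a') ?_ ?_ ?_ (ω₂ := ω₂) ?_ ?_
  · intro β hβS hβg
    rw [hg] at hβg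
    rcases hβg with h | h
    · exact h
    · exact absurd hβS (hTsub h)
  · exact fun h => haa' (MulAction.injective k h)
  · rw [hπ, hk]
  · rw [hπ, ← hpa, hk]
  · rw [hω₂]; exact hβ₂
  · rw [hω₂]; exact hβ₂ne

end Cfsg.Agent.Lib.Helper1.JM
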