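import Mathlib
import Cfsg.Agent.Lib.Helper1.JME2
import Cfsg.Agent.Lib.Helper9.JML

/-!
# Jordan–Marggraf, piece E (helper1): quasiprimitive + small Jordan set ⇒ primitive

Assuming Marggraf's theorem `MargAt n` for primitive actions of all degrees (on `Type u`),
a faithful quasiprimitive group with a Jordan set `Γ`, `1 < |Γ|`, `2 |Γ| < n`, is primitive.
-/

set_option autoImplicit false

open MulAction
open scoped Pointwise
open Cfsg.Agent.Lib.Helper7.JM Cfsg.Agent.Lib.Helper7.JS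

namespace Cfsg.Agent.Lib.Helper1.JM

universe u v

theorem isPreprimitive_of_quasi_jordan {G : Type u} {Ω : Type v} [Group G] [MulAction G Ω]
    [FaithfulSMul G Ω] [Finite Ω] (hM : ∀ n, MargAt.{u, u} n)
    (hqp : ∀ N : Subgroup G, N.Normal → N ≠ ⊥ → IsPretransitive ↥N Ω)
    (Γ : Set Ω) (h1 : 1 < Γ.ncard) (h2 : 2 * Γ.ncard < Nat.card Ω) (hJ : Jor G Γ) :
    IsPreprimitive G Ω := by
  classical
  haveI : Finite G :=
    Finite.of_injective (fun g : G => (MulAction.toPerm g : Equiv.Perm Ω))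
      MulAction.toPerm_injective
  obtain ⟨γ₀, γ₁, hγ₀, hγ₁, hne⟩ := (Set.one_lt_ncard_iff).mp h1
  obtain ⟨g₀, hg₀fix, hg₀⟩ := hJ γ₀ hγ₀ γ₁ hγ₁
  have hg₀ne : g₀ ≠ 1 := by
    rintro rfl; rw [one_smul] at hg₀; exact hne hg₀
  have htop : IsPretransitive (⊤ : Subgroup G) Ω :=
    hqp ⊤ inferInstance (by
      intro h
      have : g₀ ∈ (⊥ : Subgroup G) := h ▸ Subgroup.mem_top g₀
      exact hg₀ne (Subgroup.mem_bot.mp this))
  haveI htrans : IsPretransitive G Ω := by
    constructor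
    intro x y
    obtain ⟨g, hg⟩ := htop.exists_smul_eq x y
    exact ⟨g.1, hg⟩
  haveI : Nontrivial Ω := ⟨⟨γ₀, γ₁, hne⟩⟩
  by_contra hnp
  have hnc : ¬ IsCoatom (stabilizer G γ₀) := fun h =>
    hnp ((isCoatom_stabilizer_iff_preprimitive G γ₀).mp h)
  have hne_top : stabilizer G γ₀ ≠ ⊤ := by
    intro h
    have : g₀ ∈ stabilizer G γ₀ := h ▸ Subgroup.mem_top g₀
    rw [mem_stabilizer_iff] at this
    exact hne (this.symm.trans hg₀)
  obtain ⟨H, hH, hle⟩ := (eq_top_or_exists_le_coatom (stabilizer G γ₀)).resolve_left hne_top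
  have hneH : stabilizer G γ₀ ≠ H := fun h => hnc (h ▸ hH)
  have hHtop : H ≠ ⊤ := hH.1
  -- an element of `G` outside `H`
  obtain ⟨x₀, hx₀⟩ : ∃ x₀ : G, x₀ ∉ H := by
    by_contra hall
    push_neg at hall
    exact hHtop (eq_top_iff.mpr fun x _ => hall x)
  -- an element of `H` moving `γ₀`
  obtain ⟨h₀, hh₀H, hh₀⟩ : ∃ h₀ ∈ H, h₀ • γ₀ ≠ γ₀ := by
    by_contra hall
    push_neg at hall
    exact hneH (le_antisymm hle fun x hx => mem_stabilizer_iff.mpr (hall x hx))
  haveI : Nontrivial (G ⧸ H) := by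
    refine ⟨⟨((x₀ : G) : G ⧸ H), ((1 : G) : G ⧸ H), ?_⟩⟩
    intro h
    rw [QuotientGroup.eq] at h
    have : x₀⁻¹ ∈ H := by simpa using h
    exact hx₀ (by simpa using H.inv_mem this)
  have hprimb : IsPreprimitive G (G ⧸ H) := by
    rw [← isCoatom_stabilizer_iff_preprimitive G (((1 : G) : G ⧸ H)), stabilizer_quotient]
    exact hH
  -- the map `π`
  choose k hk using fun x : Ω => exists_smul_eq G γ₀ x
  let π : Ω → G ⧸ H := fun x => ((k x : G) : G ⧸ H)
  have hπ0 : ∀ g : G, π (g • γ₀) = ((g : G) : G ⧸ H) := by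
    intro g
    show ((k (g • γ₀) : G) : G ⧸ H) = ((g : G) : G ⧸ H)
    rw [QuotientGroup.eq]
    apply hle
    rw [mem_stabilizer_iff, mul_smul, inv_smul_eq_iff, hk]
  have hπ : ∀ (g : G) x, π (g • x) = g • π x := by
    intro g x
    obtain ⟨c, rfl⟩ := exists_smul_eq G γ₀ x
    rw [← mul_smul, hπ0, hπ0]
    rfl
  have hsurj : Function.Surjective π := by
    intro q
    obtain ⟨g, rfl⟩ := QuotientGroup.mk_surjective q
    exact ⟨g • γ₀, hπ0 g⟩
  -- the kernel on the quotient is trivial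
  have hfaith : ∀ g : G, (∀ β : G ⧸ H, g • β = β) → g = 1 := by
    let K : Subgroup G := (MulAction.toPermHom G (G ⧸ H)).ker
    have hKmem : ∀ g : G, g ∈ K ↔ ∀ β : G ⧸ H, g • β = β := by
      intro g
      rw [MonoidHom.mem_ker]
      constructor
      · intro h β
        have := congrArg (fun σ : Equiv.Perm (G ⧸ H) => σ β) h
        simpa using this
      · intro h
        ext β
        simpa using h β
    have hKbot : K = ⊥ := by
      by_contra hKne
      have hKtr := hqp K inferInstance hKne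
      obtain ⟨c, hc⟩ := hKtr.exists_smul_eq γ₀ (x₀ • γ₀)
      have h1' : π ((c : G) • γ₀) = π γ₀ := by
        rw [hπ, (hKmem c.1).mp c.2]
      have h2' : π ((c : G) • γ₀) = ((x₀ : G) : G ⧸ H) := by
        have : (c : G) • γ₀ = x₀ • γ₀ := hc
        rw [this, hπ0]
      have h3' : π γ₀ = ((1 : G) : G ⧸ H) := by
        have := hπ0 1
        rwa [one_smul] at this
      have h4' : ((x₀ : G) : G ⧸ H) = ((1 : G) : G ⧸ H) := by rw [← h2', h1', h3']
      rw [QuotientGroup.eq] at h4'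
      have : x₀⁻¹ ∈ H := by simpa using h4'
      exact hx₀ (by simpa using H.inv_mem this)
    intro g hg
    have : g ∈ K := (hKmem g).mpr hg
    rw [hKbot] at this
    exact Subgroup.mem_bot.mp this
  -- two points in a fibre
  have hpa : π γ₀ = π (h₀ • γ₀) := by
    have h3' : π γ₀ = ((1 : G) : G ⧸ H) := by
      have := hπ0 1
      rwa [one_smul] at this
    rw [h3', hπ0, eq_comm, QuotientGroup.eq]
    simpa using hh₀H
  exact core_false hM (Cfsg.Agent.Lib.Helper9.JM.pretransitive_of_has3 hprimb) hprimb hπ hsurj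
    hfaith (Ne.symm hh₀) hpa Γ h1 h2 hJ

end Cfsg.Agent.Lib.Helper1.JM
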