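import Mathlib
import Cfsg.Agent.Lib.Helper9.JRDefs
import Cfsg.Agent.Lib.Helper1.AbelianSylow

/-!
# Farm JR (S3206), unit G2: in a perfect group with abelian Sylow 2-subgroup `S` of order 8, the
normalizer of `S` is transitive on `S \ {1}`.
-/

set_option autoImplicit false

namespace Cfsg.Agent.Lib.Helper1.JRG2

open Cfsg

/-- UNIT G2. -/
theorem G2 {G : Type*} [Group G] [Finite G] (hperf : commutator G = ⊤) (S : Sylow 2 G)
    (hc : ∀ a ∈ S, ∀ b ∈ S, a * b = b * a) (h8 : Nat.card S = 8) :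
    ∀ x ∈ S, ∀ y ∈ S, x ≠ 1 → y ≠ 1 →
      ∃ n ∈ Subgroup.normalizer ((S : Subgroup G) : Set G), n * x * n⁻¹ = y := by
  classical
  have h2p : Fact (Nat.Prime 2) := ⟨Nat.prime_two⟩
  set N := Subgroup.normalizer ((S : Subgroup G) : Set G) with hN
  -- no fixed points
  have hTc : IsMulCommutative (S : Subgroup G) :=
    ⟨⟨fun a b => Subtype.ext (hc a.1 a.2 b.1 b.2)⟩⟩
  obtain ⟨hinf, -⟩ := Cfsg.Agent.Lib.Helper1.abelian_sylow_decomposition S hTc
  have hnofix : ∀ x ∈ S, x ≠ 1 → ∃ n ∈ N, n * x * n⁻¹ ≠ x := by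
    intro x hx hx1
    by_contra hcon
    push Not at hcon
    have hxC : x ∈ Subgroup.centralizer (Subgroup.normalizer (S : Set G) : Set G) := by
      rw [Subgroup.mem_centralizer_iff]
      intro n hn
      have := hcon n hn
      calc n * x = (n * x * n⁻¹) * n := by group
        _ = x * n := by rw [this]
    have hxmem : x ∈ ((S : Subgroup G) ⊓
        Subgroup.centralizer (Subgroup.normalizer (S : Set G) : Set G)) ⊓
        (commutator G ⊓ (S : Subgroup G)) := by
      refine ⟨⟨hx, hxC⟩, ?_, hx⟩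
      rw [hperf]; exact Subgroup.mem_top x
    rw [hinf, Subgroup.mem_bot] at hxmem
    exact hx1 hxmem
  -- the action of `N` on `G` by conjugation
  let act : MulAction ↥N G := MulAction.compHom G ((MulAut.conj : G →* MulAut G).comp N.subtype)
  have hsmul : ∀ (n : ↥N) (g : G), n • g = (n : G) * g * (n : G)⁻¹ := fun n g => rfl
  have hmemorb : ∀ x z : G, z ∈ MulAction.orbit ↥N x ↔ ∃ n ∈ N, n * x * n⁻¹ = z := by
    intro x z
    rw [MulAction.mem_orbit_iff]
    constructor
    · rintro ⟨n, hn⟩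
      exact ⟨n.1, n.2, by rw [← hsmul]; exact hn⟩
    · rintro ⟨n, hn, h⟩
      exact ⟨⟨n, hn⟩, by rw [hsmul]; exact h⟩
  set X : Set G := ((S : Subgroup G) : Set G) \ {1} with hX
  have hXfin : X.Finite := Set.toFinite X
  have hXcard : X.ncard = 7 := by
    rw [hX, Set.ncard_sdiff_singleton_of_mem (Subgroup.one_mem _)]
    have : ((S : Subgroup G) : Set G).ncard = 8 := by
      rw [← Nat.card_coe_set_eq]; exact h8
    rw [this]
  have horbX : ∀ x ∈ X, MulAction.orbit ↥N x ⊆ X := by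
    intro x hx z hz
    obtain ⟨n, hn, rfl⟩ := (hmemorb x z).mp hz
    refine ⟨(Subgroup.mem_normalizer_iff.mp hn x).mp hx.1, ?_⟩
    intro h
    apply hx.2
    have h' : n * x * n⁻¹ = 1 := h
    have : x = n⁻¹ * (n * x * n⁻¹) * n := by group
    show x = 1
    rw [this, h']; group
  have hodd : ∀ x ∈ X, Odd (MulAction.orbit ↥N x).ncard := by
    intro x hx
    rw [← MulAction.index_stabilizer]
    have hle : (S : Subgroup G).subgroupOf N ≤ MulAction.stabilizer ↥N x := by
      intro s hs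
      rw [MulAction.mem_stabilizer_iff, hsmul]
      have hs' : (s : G) ∈ (S : Subgroup G) := Subgroup.mem_subgroupOf.mp hs
      rw [hc _ hs' _ hx.1]; group
    have h1 : (MulAction.stabilizer ↥N x).index ∣ ((S : Subgroup G).subgroupOf N).index :=
      Subgroup.index_dvd_of_le hle
    have h2 : ((S : Subgroup G).subgroupOf N).index ∣ (S : Subgroup G).index :=
      Subgroup.relIndex_dvd_index_of_le Subgroup.le_normalizer
    have h3 : ¬ 2 ∣ (S : Subgroup G).index := S.not_dvd_index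
    rw [← Nat.not_even_iff_odd, even_iff_two_dvd]
    intro h
    exact h3 (dvd_trans (dvd_trans h h1) h2)
  have hne1 : ∀ x ∈ X, (MulAction.orbit ↥N x).ncard ≠ 1 := by
    intro x hx h1
    obtain ⟨a, ha⟩ := Set.ncard_eq_one.mp h1
    obtain ⟨n, hn, hnx⟩ := hnofix x hx.1 hx.2
    have hx_mem : x ∈ MulAction.orbit ↥N x := MulAction.mem_orbit_self x
    have hnx_mem : n * x * n⁻¹ ∈ MulAction.orbit ↥N x := (hmemorb x _).mpr ⟨n, hn, rfl⟩
    rw [ha, Set.mem_singleton_iff] at hx_mem hnx_mem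
    exact hnx (hnx_mem.trans hx_mem.symm)
  have hge3 : ∀ x ∈ X, 3 ≤ (MulAction.orbit ↥N x).ncard := by
    intro x hx
    obtain ⟨k, hk⟩ := hodd x hx
    have := hne1 x hx
    omega
  have hdisj : ∀ x y : G, x ∉ MulAction.orbit ↥N y →
      Disjoint (MulAction.orbit ↥N x) (MulAction.orbit ↥N y) := by
    intro x y hxy
    rw [Set.disjoint_left]
    intro w hwx hwy
    apply hxy
    have e1 : MulAction.orbit ↥N w = MulAction.orbit ↥N x := MulAction.orbit_eq_iff.mpr hwx
    have e2 : MulAction.orbit ↥N w = MulAction.orbit ↥N y := MulAction.orbit_eq_iff.mpr hwy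
    have : x ∈ MulAction.orbit ↥N x := MulAction.mem_orbit_self x
    rw [← e1, e2] at this
    exact this
  intro x hx y hy hx1 hy1
  by_contra hcon
  have hxX : x ∈ X := ⟨hx, hx1⟩
  have hyX : y ∈ X := ⟨hy, hy1⟩
  have hyx : y ∉ MulAction.orbit ↥N x := fun h => hcon ((hmemorb x y).mp h)
  have hd1 := hdisj y x hyx
  set U := MulAction.orbit ↥N y ∪ MulAction.orbit ↥N x with hU
  have hUcard : U.ncard = (MulAction.orbit ↥N y).ncard + (MulAction.orbit ↥N x).ncard :=
    Set.ncard_union_eq hd1 (Set.toFinite _) (Set.toFinite _)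
  have hUX : U ⊆ X := Set.union_subset (horbX y hyX) (horbX x hxX)
  have hUle : U.ncard ≤ 7 := hXcard ▸ Set.ncard_le_ncard hUX hXfin
  have hUne : U.ncard ≠ 7 := by
    obtain ⟨k1, hk1⟩ := hodd x hxX
    obtain ⟨k2, hk2⟩ := hodd y hyX
    omega
  have hlt : U.ncard < X.ncard := by rw [hXcard]; omega
  obtain ⟨z, hzX, hzU⟩ := Set.exists_mem_notMem_of_ncard_lt_ncard hlt (Set.toFinite _)
  have hzx : z ∉ MulAction.orbit ↥N x := fun h => hzU (Or.inr h)
  have hzy : z ∉ MulAction.orbit ↥N y := fun h => hzU (Or.inl h)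
  have hd2 : Disjoint (MulAction.orbit ↥N z) U := by
    rw [hU, Set.disjoint_union_right]
    exact ⟨hdisj z y hzy, hdisj z x hzx⟩
  have hVcard : (MulAction.orbit ↥N z ∪ U).ncard = (MulAction.orbit ↥N z).ncard + U.ncard :=
    Set.ncard_union_eq hd2 (Set.toFinite _) (Set.toFinite _)
  have hVX : MulAction.orbit ↥N z ∪ U ⊆ X := Set.union_subset (horbX z hzX) hUX
  have hVle : (MulAction.orbit ↥N z ∪ U).ncard ≤ 7 := hXcard ▸ Set.ncard_le_ncard hVX hXfin
  have g1 := hge3 x hxX
  have g2 := hge3 y hyX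
  have g3 := hge3 z hzX
  omega

end Cfsg.Agent.Lib.Helper1.JRG2
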