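import Mathlib
import Cfsg.Agent.Lib.Helper9.JRDefs
import Cfsg.Agent.Lib.Helper1.AbelianSylow
import Cfsg.Agent.Lib.Helper4.TICharBasis

/-!
# Farm JR (S3206), unit Kabs: abelian Sylow 2-subgroup `T` of `H`: decomposition of the elements of `T`
and a Frattini argument in `C_H(T ∩ H')`.
-/

set_option autoImplicit false

namespace Cfsg.Agent.Lib.Helper1.JRKabs

open Cfsg

/-- UNIT Kabs. -/
theorem Kabs {H : Type*} [Group H] [Finite H] (G0 : Subgroup H) (hcomm : commutator H = G0)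
    (T : Sylow 2 H) (hT : ∀ a ∈ T, ∀ b ∈ T, a * b = b * a) :
    (∀ f ∈ T, ∃ b ∈ T, ∃ s ∈ T, s ∈ G0 ∧ f = b * s ∧
      ∀ m ∈ Subgroup.normalizer ((T : Subgroup H) : Set H), m * b = b * m) ∧
    (∀ n ∈ Subgroup.normalizer (((T : Subgroup H) ⊓ G0 : Subgroup H) : Set H),
      ∃ d : H, (∀ s ∈ T, s ∈ G0 → d * s = s * d) ∧
        d * n ∈ Subgroup.normalizer ((T : Subgroup H) : Set H)) := by
  have h2p : Fact (Nat.Prime 2) := ⟨Nat.prime_two⟩
  constructor
  · intro f hf
    have hTc : IsMulCommutative (T : Subgroup H) :=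
      ⟨⟨fun a b => Subtype.ext (hT a.1 a.2 b.1 b.2)⟩⟩
    obtain ⟨-, hsup⟩ := Cfsg.Agent.Lib.Helper1.abelian_sylow_decomposition T hTc
    have hf' : f ∈ (T : Subgroup H) := hf
    rw [← hsup] at hf'
    have hAB : ∀ a ∈ (T : Subgroup H) ⊓
        Subgroup.centralizer (Subgroup.normalizer (T : Set H) : Set H),
        ∀ c ∈ commutator H ⊓ (T : Subgroup H), a * c = c * a :=
      fun a ha c hc => hT a ha.1 c hc.2
    obtain ⟨b, hb, s, hs, hfbs⟩ :=
      Cfsg.Agent.Lib.Helper4.TICharBasis.exists_mul_of_mem_sup _ _ hAB f hf'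
    refine ⟨b, hb.1, s, hs.2, ?_, hfbs, ?_⟩
    · rw [← hcomm]; exact hs.1
    · intro m hm
      exact Subgroup.mem_centralizer_iff.mp hb.2 m hm
  · intro n hn
    have h1 : (T : Subgroup H) ≤
        Subgroup.centralizer ((((T : Subgroup H) ⊓ G0 : Subgroup H)) : Set H) := by
      intro x hx
      rw [Subgroup.mem_centralizer_iff]
      intro s hs
      exact hT s hs.1 x hx
    have h2 : ((n • T : Sylow 2 H) : Subgroup H) ≤
        Subgroup.centralizer ((((T : Subgroup H) ⊓ G0 : Subgroup H)) : Set H) := by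
      rintro - ⟨z, hz, rfl⟩
      rw [Subgroup.mem_centralizer_iff]
      intro s hs
      have hs' : n⁻¹ * s * n ∈ (T : Subgroup H) ⊓ G0 := by
        rw [Subgroup.mem_normalizer_iff.mp hn (n⁻¹ * s * n)]
        have : n * (n⁻¹ * s * n) * n⁻¹ = s := by group
        rw [this]; exact hs
      have hc := hT _ hs'.1 z hz
      show s * (n * z * n⁻¹) = (n * z * n⁻¹) * s
      calc s * (n * z * n⁻¹) = n * ((n⁻¹ * s * n) * z) * n⁻¹ := by group
        _ = n * (z * (n⁻¹ * s * n)) * n⁻¹ := by rw [hc]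
        _ = (n * z * n⁻¹) * s := by group
    obtain ⟨h, hh⟩ := MulAction.exists_smul_eq
      (Subgroup.centralizer ((((T : Subgroup H) ⊓ G0 : Subgroup H)) : Set H))
      ((n • T).subtype h2) (T.subtype h1)
    simp_rw [Sylow.smul_subtype, Subgroup.smul_def, smul_smul] at hh
    refine ⟨(h : H), ?_, Sylow.smul_eq_iff_mem_normalizer.mp (Sylow.subtype_injective hh)⟩
    intro s hs hsG
    exact (Subgroup.mem_centralizer_iff.mp h.2 s ⟨hs, hsG⟩).symm

end Cfsg.Agent.Lib.Helper1.JRKabs
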