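/-
Farm RV (S3175), units B4a and B4: the core of the weak closure argument.
-/
import Mathlib
import Cfsg.Agent.Lib.Lead.RVDefs
import Cfsg.Agent.Lib.Helper1.Nilpotent

set_option autoImplicit false

namespace Cfsg.Agent.Lib.Helper1.RVB4

open Cfsg.Agent.Lib.Lead.RVD

variable {P : Type*} [Group P]

theorem card_mul_relIndex' [Finite P] {H K : Subgroup P} (h : H ≤ K) :
    Nat.card H * H.relIndex K = Nat.card K := by
  have := Subgroup.card_mul_index (H.subgroupOf K)
  rw [Nat.card_congr (Subgroup.subgroupOfEquivOfLe h).toEquiv] at this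
  exact this

/-- `U ∪ U y⁻¹` as a subgroup, for `y` normalising `U` with `y² ∈ U` -/
def adjoin (U : Subgroup P) (y : P) (hn : ∀ u ∈ U, y * u * y⁻¹ ∈ U) (hn' : ∀ u ∈ U, y⁻¹ * u * y ∈ U)
    (hy2 : y * y ∈ U) : Subgroup P where
  carrier := {g | g ∈ U ∨ g * y ∈ U}
  one_mem' := Or.inl U.one_mem
  mul_mem' := by
    rintro a b (ha | ha) (hb | hb)
    · exact Or.inl (U.mul_mem ha hb)
    · right
      have : a * b * y = a * (b * y) := by group
      rw [this]; exact U.mul_mem ha hb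
    · right
      have : a * b * y = (a * y) * (y⁻¹ * b * y) := by group
      rw [this]; exact U.mul_mem ha (hn' b hb)
    · left
      have : a * b = (a * y) * (y⁻¹ * (b * y) * y) * (y * y)⁻¹ := by group
      rw [this]
      exact U.mul_mem (U.mul_mem ha (hn' _ hb)) (U.inv_mem hy2)
  inv_mem' := by
    rintro a (ha | ha)
    · exact Or.inl (U.inv_mem ha)
    · right
      have : a⁻¹ * y = y * (a * y)⁻¹ * y⁻¹ * (y * y) := by group
      rw [this]
      exact U.mul_mem (hn _ (U.inv_mem ha)) hy2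

/-- UNIT B4a -/
theorem exists_compl_mod [Finite P] (Y Z D : Subgroup P) (hDZ : D ≤ Z)
    (hZY : Z ≤ Y) (hsq : ∀ y ∈ Y, y ^ 2 ∈ D) (hcomm : ∀ a ∈ Y, ∀ b ∈ Y, a * b * a⁻¹ * b⁻¹ ∈ D) :
    ∃ U : Subgroup P, D ≤ U ∧ U ≤ Y ∧ U ⊓ Z = D ∧ U.relIndex Y = D.relIndex Z := by
  classical
  let S : Set (Subgroup P) := {U | D ≤ U ∧ U ≤ Y ∧ U ⊓ Z = D}
  have hS : S.Finite := Set.toFinite S
  have hD : D ∈ S := ⟨le_rfl, hDZ.trans hZY, inf_eq_left.mpr hDZ⟩
  obtain ⟨U, hDU', hUmax⟩ := hS.exists_le_maximal hD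
  obtain ⟨⟨hDU, hUY, hUZ⟩, hmax⟩ := hUmax
  -- normalisation
  have hnorm : ∀ y ∈ Y, ∀ u ∈ U, y * u * y⁻¹ ∈ U := by
    intro y hy u hu
    have : y * u * y⁻¹ = (y * u * y⁻¹ * u⁻¹) * u := by group
    rw [this]
    exact U.mul_mem (hDU (hcomm y hy u (hUY hu))) hu
  -- `Y = Z U`
  have hcover : ∀ y ∈ Y, y ∈ U ⊔ Z := by
    intro y hy
    by_contra hyn
    have hn' : ∀ u ∈ U, y⁻¹ * u * y ∈ U := by
      intro u hu
      have := hnorm y⁻¹ (Y.inv_mem hy) u hu
      rwa [inv_inv] at this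
    have hy2 : y * y ∈ U := by rw [← pow_two]; exact hDU (hsq y hy)
    let U₁ := adjoin U y (hnorm y hy) hn' hy2
    have hUU₁ : U ≤ U₁ := fun u hu => Or.inl hu
    have hU₁S : U₁ ∈ S := by
      refine ⟨hDU.trans hUU₁, ?_, ?_⟩
      · rintro g (hg | hg)
        · exact hUY hg
        · have : g = (g * y) * y⁻¹ := by group
          rw [this]; exact Y.mul_mem (hUY hg) (Y.inv_mem hy)
      · apply le_antisymm
        · rintro g ⟨(hg | hg), hgZ⟩
          · rw [← hUZ]; exact ⟨hg, hgZ⟩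
          · exfalso
            apply hyn
            have : y = g⁻¹ * (g * y) := by group
            rw [this]
            exact (U ⊔ Z).mul_mem ((U ⊔ Z).inv_mem (Subgroup.mem_sup_right hgZ)) (Subgroup.mem_sup_left hg)
        · rw [← hUZ]
          exact inf_le_inf_right Z hUU₁
    have hle : U₁ ≤ U := hmax hU₁S hUU₁
    apply hyn
    have hyinv : y⁻¹ ∈ U₁ := Or.inr (by rw [inv_mul_cancel]; exact U.one_mem)
    have := hle hyinv
    have hyU : y ∈ U := by rwa [inv_mem_iff] at this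
    exact Subgroup.mem_sup_left hyU
  refine ⟨U, hDU, hUY, hUZ, ?_⟩
  -- index computation inside `Y`
  have : (U.subgroupOf Y).Normal := by
    constructor
    intro u hu y
    rw [Subgroup.mem_subgroupOf] at hu ⊢
    exact hnorm y y.2 u hu
  have htop : U.subgroupOf Y ⊔ Z.subgroupOf Y = ⊤ := by
    rw [eq_top_iff]
    intro y _
    have hy := hcover y y.2
    -- y ∈ U ⊔ Z, all inside Y
    have : U ⊔ Z ≤ Y := sup_le hUY hZY
    rw [← Subgroup.subgroupOf_sup hUY hZY]
    exact Subgroup.mem_subgroupOf.mpr hy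
  have h1 : (U.subgroupOf Y).relIndex (U.subgroupOf Y ⊔ Z.subgroupOf Y) =
      (U.subgroupOf Y).relIndex (Z.subgroupOf Y) := Subgroup.relIndex_sup_left _ _
  rw [htop, Subgroup.relIndex_top_right] at h1
  have h2 : (U.subgroupOf Y).relIndex (Z.subgroupOf Y) = U.relIndex Z :=
    Subgroup.relIndex_subgroupOf hZY
  have h3 : U.relIndex Z = (U ⊓ Z).relIndex Z := (Subgroup.inf_relIndex_right U Z).symm
  rw [Subgroup.relIndex, h1, h2, h3, hUZ]

/-- UNIT B4 -/
theorem wc_core [Finite P] (W Z X C : Subgroup P) (hW : Shape W Z)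
    (hX : Shape X C) [W.Normal] [Z.Normal]
    (hcent : ∀ x : P, (∀ z ∈ Z, x * z = z * x) → x ∈ W) (hidx : W.index = 8)
    (hnonab : ∃ a b : P, a * b * a⁻¹ * b⁻¹ ∉ W) : X = W := by
  by_contra hne
  have hYX : X ⊓ W ≤ X := inf_le_left
  have hYW : X ⊓ W ≤ W := inf_le_right
  have hdiv : W.relIndex X ∣ 8 := by
    rw [← hidx]; exact Subgroup.relIndex_dvd_index_of_normal W X
  have hYXi : (X ⊓ W).relIndex X = W.relIndex X := Subgroup.inf_relIndex_left X W
  have cX := card_mul_relIndex' hYX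
  have cW := card_mul_relIndex' hYW
  rw [hX.cardV] at cX
  rw [hW.cardV] at cW
  have hYpos : 0 < Nat.card ↥(X ⊓ W) := Nat.card_pos
  have hYWi : (X ⊓ W).relIndex W = W.relIndex X := by
    rw [← hYXi]
    exact Nat.eq_of_mul_eq_mul_left hYpos (cW.trans cX.symm)
  have he8 : W.relIndex X ≤ 8 := Nat.le_of_dvd (by norm_num) hdiv
  have hZY : Z ≤ X ⊓ W := hW.hd _ hYW (by rw [hYWi]; omega)
  have hCY : C ≤ X ⊓ W := hX.hd _ hYX (by rw [hYXi]; omega)
  -- `D = C ⊓ Z` is nontrivial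
  have hDne : C ⊓ Z ≠ ⊥ := by
    have hXp : IsPGroup 2 ↥X := IsPGroup.of_card (n := 11) hX.cardV
    have : Group.IsNilpotent ↥X := hXp.isNilpotent
    have hZX : Z ≤ X := hZY.trans hYX
    have hNne : Z.subgroupOf X ≠ ⊥ := by
      intro h
      rw [Subgroup.subgroupOf_eq_bot] at h
      have hZb : Z = ⊥ := by
        rw [← inf_eq_left.mpr hZX]; exact disjoint_iff.mp h
      have := hW.cardC
      rw [hZb, Subgroup.card_bot] at this
      omega
    have h := Cfsg.Agent.Lib.Helper1.normal_inf_center_ne_bot (Z.subgroupOf X) hNne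
    obtain ⟨⟨x, hxmem⟩, hx1⟩ := (Subgroup.ne_bot_iff_exists_ne_one).mp h
    have hxZ : (x : P) ∈ Z := Subgroup.mem_subgroupOf.mp hxmem.1
    have hxc : ∀ v ∈ X, (x : P) * v = v * x := by
      intro v hv
      have := Subgroup.mem_center_iff.mp hxmem.2 ⟨v, hv⟩
      have h2 := congrArg Subtype.val this
      simpa using h2.symm
    have hxC : (x : P) ∈ C := hX.center _ x.2 hxc
    intro hbot
    have : (x : P) ∈ C ⊓ Z := ⟨hxC, hxZ⟩
    rw [hbot, Subgroup.mem_bot] at this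
    apply hx1
    apply Subtype.ext
    apply Subtype.ext
    exact this
  by_cases hZC : Z ≤ C
  · -- then `Z = C` and `X` centralises `Z`
    have hXW : X ≤ W := by
      intro x hx
      apply hcent
      intro z hz
      exact (hX.central z (hZC hz) x hx).symm
    apply hne
    apply Subgroup.eq_of_le_of_card_ge hXW
    rw [hX.cardV, hW.cardV]
  · -- the complement
    have hsqY : ∀ y ∈ X ⊓ W, y ^ 2 ∈ C ⊓ Z := fun y hy => ⟨hX.sq y hy.1, hW.sq y hy.2⟩
    have hcommY : ∀ a ∈ X ⊓ W, ∀ b ∈ X ⊓ W, a * b * a⁻¹ * b⁻¹ ∈ C ⊓ Z :=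
      fun a ha b hb => ⟨hX.comm a ha.1 b hb.1, hW.comm a ha.2 b hb.2⟩
    obtain ⟨U, hDU, hUY, hUZ, hUi⟩ :=
      exists_compl_mod (X ⊓ W) Z (C ⊓ Z) inf_le_right hZY hsqY hcommY
    have hnZU : ¬ Z ≤ U := by
      intro h
      apply hZC
      have : Z = C ⊓ Z := by rw [← hUZ]; exact (inf_eq_right.mpr h).symm
      rw [this]
      exact inf_le_left
    have hUW : U.relIndex W = (C ⊓ Z).relIndex Z * W.relIndex X := by
      rw [← Subgroup.relIndex_mul_relIndex U (X ⊓ W) W hUY hYW, hUi, hYWi]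
    have cD := card_mul_relIndex' (inf_le_right : C ⊓ Z ≤ Z)
    rw [hW.cardC] at cD
    have hD2 : 2 ≤ Nat.card ↥(C ⊓ Z) := (C ⊓ Z).one_lt_card_iff_ne_bot.mpr hDne
    have hr4 : (C ⊓ Z).relIndex Z ≤ 4 := by
      by_contra hcon
      push Not at hcon
      nlinarith
    have hbig : 16 < (C ⊓ Z).relIndex Z * W.relIndex X := by
      by_contra hcon
      push Not at hcon
      exact hnZU (hW.hd U (hUY.trans hYW) (by rw [hUW]; exact hcon))
    have he : W.relIndex X = 8 := by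
      have h8 : (8 : ℕ) = 2 ^ 3 := by norm_num
      rw [h8] at hdiv
      obtain ⟨k, hk, hk2⟩ := (Nat.dvd_prime_pow Nat.prime_two).mp hdiv
      rw [hk2] at hbig ⊢
      interval_cases k
      · omega
      · omega
      · omega
      · norm_num
    -- `X W = P`
    have htop : X ⊔ W = ⊤ := by
      have h1 : W.relIndex (X ⊔ W) = W.relIndex X := Subgroup.relIndex_sup_right X W
      have h2 := Subgroup.relIndex_mul_index (le_sup_right : W ≤ X ⊔ W)
      rw [h1, he, hidx] at h2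
      have : (X ⊔ W).index = 1 := by omega
      exact Subgroup.index_eq_one.mp this
    obtain ⟨a, b, hab⟩ := hnonab
    apply hab
    have hdecomp : ∀ g : P, ∃ x ∈ X, ∃ w ∈ W, g = x * w := by
      intro g
      have hg : g ∈ ((X ⊔ W : Subgroup P) : Set P) := by rw [htop]; trivial
      rw [Subgroup.mul_normal] at hg
      obtain ⟨x, hx, w, hw, rfl⟩ := Set.mem_mul.mp hg
      exact ⟨x, hx, w, hw, rfl⟩
    obtain ⟨x, hx, w, hw, rfl⟩ := hdecomp a
    obtain ⟨x', hx', w', hw', rfl⟩ := hdecomp b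
    have hπ : ∀ w ∈ W, (QuotientGroup.mk' W) w = 1 := fun w hw =>
      (QuotientGroup.eq_one_iff w).mpr hw
    have hcW : x * x' * x⁻¹ * x'⁻¹ ∈ W := hYW (hCY (hX.comm x hx x' hx'))
    have : (QuotientGroup.mk' W) (x * w * (x' * w') * (x * w)⁻¹ * (x' * w')⁻¹) = 1 := by
      have e : (QuotientGroup.mk' W) (x * w * (x' * w') * (x * w)⁻¹ * (x' * w')⁻¹) =
          (QuotientGroup.mk' W) (x * x' * x⁻¹ * x'⁻¹) := by
        simp only [map_mul, map_inv, hπ w hw, hπ w' hw', mul_one]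
      rw [e]
      exact hπ _ hcW
    exact (QuotientGroup.eq_one_iff _).mp this

end Cfsg.Agent.Lib.Helper1.RVB4
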