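import Mathlib
import Cfsg.Prelude.Def_Transfer
import Cfsg.Agent.Lib.Helper8.L34Defs
import Cfsg.Agent.Lib.Helper1.Gaschutz2
import Cfsg.Agent.Lib.Helper1.RVB4

/-!
# Farm L34 (S3154), unit UJ: the complement `C'` of `H` in `N_X(H)` (Gaschütz).
-/

set_option autoImplicit false

namespace Cfsg.Agent.Lib.Helper1.L34UJ

open Cfsg.Agent.Lib.Helper9.JRDefs (IsSylowIn)

/-- A subgroup meeting a normal subgroup trivially and of the right relative index is a complement. -/
theorem sup_eq_of_relIndex {Γ : Type*} [Group Γ] [Finite Γ] (N A U : Subgroup Γ) [N.Normal]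
    (hNU : N ≤ U) (hAU : A ≤ U) (hAN : A ⊓ N = ⊥) (hidx : A.relIndex U = Nat.card N) :
    N ⊔ A = U := by
  apply Subgroup.eq_of_le_of_card_ge (sup_le hNU hAU)
  have h1 : Nat.card U = Nat.card A * Nat.card N := by
    have := Subgroup.relIndex_mul_relIndex ⊥ A U bot_le hAU
    rw [Subgroup.relIndex_bot_left, Subgroup.relIndex_bot_left, hidx] at this
    exact this.symm
  have h2 : Nat.card ↥(N ⊔ A) = Nat.card N * Nat.card A := by
    have := Subgroup.relIndex_mul_relIndex ⊥ N (N ⊔ A) bot_le le_sup_left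
    rw [Subgroup.relIndex_bot_left, Subgroup.relIndex_bot_left, Subgroup.relIndex_sup_left] at this
    rw [← this]
    congr 1
    rw [← Subgroup.inf_relIndex_right, inf_comm, hAN, Subgroup.relIndex_bot_left]
  rw [h1, h2, mul_comm]

/-- UNIT UJ. -/
theorem UJ_exists_complement {X : Type*} [Group X] [Finite X]
    (hZ : Cfsg.IsElementaryAbelian 2 (Subgroup.center X)) {F : Type*} [Field F]
    (H K : Subgroup X) (hZH : Subgroup.center X ≤ H) (hZK : Subgroup.center X ≤ K)
    (hK : Cfsg.IsElementaryAbelian 2 K)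
    (C D : Subgroup (X ⧸ Subgroup.center X))
    (hCN : C ≤ Subgroup.normalizer (H.map (QuotientGroup.mk' (Subgroup.center X)) : Set (X ⧸ Subgroup.center X)))
    (hCH : C ⊓ H.map (QuotientGroup.mk' (Subgroup.center X)) = ⊥)
    (hsup : H.map (QuotientGroup.mk' (Subgroup.center X)) ⊔ C =
      Subgroup.normalizer (H.map (QuotientGroup.mk' (Subgroup.center X)) : Set (X ⧸ Subgroup.center X)))
    (hiso : Nonempty (↥C ≃* Matrix.ProjectiveSpecialLinearGroup (Fin 2) F))
    (hDK : D ≤ K.map (QuotientGroup.mk' (Subgroup.center X))) (hD : IsSylowIn 2 D C) :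
    ∃ C' : Subgroup X, C' ≤ Subgroup.normalizer (H : Set X) ∧ C' ⊓ H = ⊥ ∧
      H ⊔ C' = Subgroup.normalizer (H : Set X) ∧
      Nonempty (↥C' ≃* Matrix.ProjectiveSpecialLinearGroup (Fin 2) F) := by
  classical
  set Z := Subgroup.center X with hZdef
  set π := QuotientGroup.mk' Z with hπdef
  have hπs : Function.Surjective π := QuotientGroup.mk'_surjective Z
  have hker : π.ker = Z := QuotientGroup.ker_mk' Z
  set Ch := C.comap π with hCh
  set Uh := D.comap π with hUh
  have hZCh : Z ≤ Ch := by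
    intro z hz
    rw [hCh, Subgroup.mem_comap]
    have : π z = 1 := by rw [← MonoidHom.mem_ker, hker]; exact hz
    rw [this]; exact C.one_mem
  have hZUh : Z ≤ Uh := by
    intro z hz
    rw [hUh, Subgroup.mem_comap]
    have : π z = 1 := by rw [← MonoidHom.mem_ker, hker]; exact hz
    rw [this]; exact D.one_mem
  have hUhCh : Uh ≤ Ch := Subgroup.comap_mono hD.1
  have hUhK : Uh ≤ K := by
    intro x hx
    have h1 : π x ∈ K.map π := hDK (Subgroup.mem_comap.mp hx)
    obtain ⟨k, hk, hkx⟩ := Subgroup.mem_map.mp h1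
    have h2 : k⁻¹ * x ∈ Z := by
      rw [← hker, MonoidHom.mem_ker, map_mul, map_inv, hkx, inv_mul_cancel]
    have : x = k * (k⁻¹ * x) := by group
    rw [this]
    exact K.mul_mem hk (hZK h2)
  -- the group `Γ = Ch`
  let Zc : Subgroup ↥Ch := Z.subgroupOf Ch
  have hZcN : Zc.Normal := by
    have : Z.Normal := by rw [hZdef]; infer_instance
    exact this.subgroupOf Ch
  have hZcC : IsMulCommutative ↥Zc := by
    refine ⟨⟨fun a b => ?_⟩⟩
    apply Subtype.ext
    apply Subtype.ext
    have ha : ((a : ↥Ch) : X) ∈ Subgroup.center X := Subgroup.mem_subgroupOf.mp a.2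
    exact (Subgroup.mem_center_iff.mp ha ((b : ↥Ch) : X)).symm
  let U : Subgroup ↥Ch := Uh.subgroupOf Ch
  have hZcU : Zc ≤ U := by
    intro x hx
    exact Subgroup.mem_subgroupOf.mpr (hZUh (Subgroup.mem_subgroupOf.mp hx))
  -- a complement of `Zc` in `U`
  obtain ⟨A, -, hAU, hAZ, hAidx⟩ :=
    Cfsg.Agent.Lib.Helper1.RVB4.exists_compl_mod U Zc ⊥ bot_le hZcU
      (by
        intro y hy
        rw [Subgroup.mem_bot]
        have hyK : ((y : ↥Ch) : X) ∈ K := hUhK (Subgroup.mem_subgroupOf.mp hy)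
        apply Subtype.ext
        rw [Subgroup.coe_pow]
        exact hK.2 _ hyK)
      (by
        intro a ha b hb
        rw [Subgroup.mem_bot]
        have haK : ((a : ↥Ch) : X) ∈ K := hUhK (Subgroup.mem_subgroupOf.mp ha)
        have hbK : ((b : ↥Ch) : X) ∈ K := hUhK (Subgroup.mem_subgroupOf.mp hb)
        have hcomm : ((a : ↥Ch) : X) * (b : X) = (b : X) * (a : X) := by
          have := hK.1.is_comm.comm ⟨_, haK⟩ ⟨_, hbK⟩
          exact congrArg Subtype.val this
        apply Subtype.ext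
        simp only [Subgroup.coe_mul, Subgroup.coe_inv, Subgroup.coe_one]
        rw [hcomm]; group)
  rw [Subgroup.relIndex_bot_left] at hAidx
  have hsupU : Zc ⊔ A = U := sup_eq_of_relIndex Zc A U hZcU hAU hAZ hAidx
  -- coprimality
  have hcop : (Nat.card Zc).Coprime U.index := by
    have hcard : Nat.card Zc = Nat.card Z :=
      Nat.card_congr (Subgroup.subgroupOfEquivOfLe hZCh).toEquiv
    have hZp : IsPGroup 2 ↥Z := by
      intro g
      refine ⟨1, ?_⟩
      apply Subtype.ext
      rw [Subgroup.coe_pow, pow_one]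
      exact hZ.2 _ g.2
    have h2p : Fact (Nat.Prime 2) := ⟨Nat.prime_two⟩
    obtain ⟨n, hn⟩ := hZp.exists_card_eq
    rw [hcard, hn]
    apply Nat.Coprime.pow_left
    rw [Nat.coprime_two_left, ← Nat.not_even_iff_odd, even_iff_two_dvd]
    have hidx : U.index = D.relIndex C := by
      show Uh.relIndex Ch = D.relIndex C
      rw [hUh, Subgroup.relIndex_comap, hCh, Subgroup.map_comap_eq_self_of_surjective hπs]
    rw [hidx]
    exact hD.2.2
  -- Gaschutz
  obtain ⟨Hc, hHc⟩ := Cfsg.Agent.Lib.Helper1.Gaschutz.gaschutz_exists (K := Zc) (A := A) U hcop hAZ hsupU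
  set C' : Subgroup X := Hc.map Ch.subtype with hC'
  have hC'Ch : C' ≤ Ch := by
    rintro _ ⟨h, -, rfl⟩
    exact h.2
  have hC'Z : C' ⊓ Z = ⊥ := by
    rw [Subgroup.eq_bot_iff_forall]
    rintro x ⟨⟨h, hh, rfl⟩, hxZ⟩
    have h1 : h ∈ Zc ⊓ Hc := ⟨Subgroup.mem_subgroupOf.mpr hxZ, hh⟩
    rw [hHc.disjoint.eq_bot, Subgroup.mem_bot] at h1
    rw [h1]; rfl
  have hZC' : Z ⊔ C' = Ch := by
    have h1 : (Zc ⊔ Hc).map Ch.subtype = Ch := by
      rw [hHc.sup_eq_top, ← MonoidHom.range_eq_map, Subgroup.range_subtype]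
    rw [Subgroup.map_sup] at h1
    have h2 : Zc.map Ch.subtype = Z := by
      rw [Subgroup.subgroupOf_map_subtype, inf_eq_left.mpr hZCh]
    rw [h2] at h1
    exact h1
  have hmapZ : Z.map π = ⊥ := QuotientGroup.map_mk'_self Z
  have hmapC' : C'.map π = C := by
    have h1 : (Z ⊔ C').map π = C := by
      rw [hZC', hCh, Subgroup.map_comap_eq_self_of_surjective hπs]
    rw [Subgroup.map_sup, hmapZ, bot_sup_eq] at h1
    exact h1
  have hcomapH : (H.map π).comap π = H := by
    rw [Subgroup.comap_map_eq, hker, sup_eq_left.mpr hZH]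
  have hnorm : Subgroup.normalizer (H : Set X) = (Subgroup.normalizer (H.map π : Set (X ⧸ Z))).comap π := by
    rw [Subgroup.comap_normalizer_eq_of_surjective _ hπs, hcomapH]
  refine ⟨C', ?_, ?_, ?_, ?_⟩
  · rw [hnorm]
    exact hC'Ch.trans (Subgroup.comap_mono hCN)
  · rw [Subgroup.eq_bot_iff_forall]
    rintro x ⟨hxC', hxH⟩
    have h1 : π x ∈ C ⊓ H.map π := by
      refine ⟨?_, Subgroup.mem_map_of_mem π hxH⟩
      rw [← hmapC']
      exact Subgroup.mem_map_of_mem π hxC'
    rw [hCH, Subgroup.mem_bot] at h1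
    have h2 : x ∈ Z := by rw [← hker, MonoidHom.mem_ker]; exact h1
    have h3 : x ∈ C' ⊓ Z := ⟨hxC', h2⟩
    rw [hC'Z, Subgroup.mem_bot] at h3
    exact h3
  · rw [hnorm, ← hsup, ← hmapC', ← Subgroup.map_sup, Subgroup.comap_map_eq, hker]
    exact (sup_eq_left.mpr (hZH.trans le_sup_left)).symm
  · obtain ⟨e⟩ := hiso
    let f : ↥C' →* X ⧸ Z := π.comp C'.subtype
    have hfinj : Function.Injective f := by
      rw [injective_iff_map_eq_one]
      intro x hx
      have h2 : (x : X) ∈ Z := by rw [← hker, MonoidHom.mem_ker]; exact hx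
      have h3 : (x : X) ∈ C' ⊓ Z := ⟨x.2, h2⟩
      rw [hC'Z, Subgroup.mem_bot] at h3
      exact Subtype.ext h3
    have hfrange : f.range = C := by
      rw [MonoidHom.range_eq_map, ← Subgroup.map_map, ← MonoidHom.range_eq_map, Subgroup.range_subtype]
      exact hmapC'
    exact ⟨(MonoidHom.ofInjective hfinj).trans ((MulEquiv.subgroupCongr hfrange).trans e)⟩

end Cfsg.Agent.Lib.Helper1.L34UJ
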