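import Mathlib
import Cfsg.Prelude.Def_Solvable
import Cfsg.Prelude.Def_CaseTheorems

/-! Farm LBAL (S1301): restriction of an action by automorphisms to an invariant subgroup and
to the quotient by an invariant normal subgroup; the statement `TStmt` of Theorem T. -/

set_option autoImplicit false

namespace Cfsg.Agent.Lib.Helper1.LBAL

variable {D H : Type*} [Group D] [Group H]

/-- the action of `D` on an invariant subgroup `N` of `H`. -/
def resAct (φ : D →* MulAut H) (N : Subgroup H) (hN : ∀ d : D, ∀ n ∈ N, φ d n ∈ N) :
    D →* MulAut ↥N where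
  toFun d :=
    { toFun := fun n => ⟨φ d n, hN d n n.2⟩
      invFun := fun n => ⟨φ d⁻¹ n, hN d⁻¹ n n.2⟩
      left_inv := by
        intro n
        apply Subtype.ext
        show φ d⁻¹ (φ d n) = n
        rw [map_inv]
        exact (φ d).symm_apply_apply _
      right_inv := by
        intro n
        apply Subtype.ext
        show φ d (φ d⁻¹ n) = n
        rw [map_inv]
        exact (φ d).apply_symm_apply _
      map_mul' := by
        intro x y
        apply Subtype.ext
        show φ d ((x : H) * (y : H)) = φ d x * φ d y
        exact map_mul _ _ _ }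
  map_one' := by
    ext n
    show φ 1 (n : H) = n
    rw [map_one]; rfl
  map_mul' := by
    intro d e
    ext n
    show φ (d * e) (n : H) = φ d (φ e n)
    rw [map_mul]; rfl

@[simp] theorem resAct_coe (φ : D →* MulAut H) (N : Subgroup H)
    (hN : ∀ d : D, ∀ n ∈ N, φ d n ∈ N) (d : D) (n : ↥N) :
    ((resAct φ N hN d n : ↥N) : H) = φ d n := rfl

/-- the action of `D` on the quotient by an invariant normal subgroup `N` of `H`. -/
def quotAct (φ : D →* MulAut H) (N : Subgroup H) [N.Normal]
    (hN : ∀ d : D, ∀ n ∈ N, φ d n ∈ N) : D →* MulAut (H ⧸ N) where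
  toFun d :=
    { toFun := QuotientGroup.map N N (φ d).toMonoidHom (fun n hn => hN d n hn)
      invFun := QuotientGroup.map N N (φ d⁻¹).toMonoidHom (fun n hn => hN d⁻¹ n hn)
      left_inv := by
        intro x
        induction x using QuotientGroup.induction_on with
        | H h =>
          show ((φ d⁻¹ (φ d h) : H) : H ⧸ N) = h
          rw [map_inv, MulAut.inv_apply_self]
      right_inv := by
        intro x
        induction x using QuotientGroup.induction_on with
        | H h =>
          show ((φ d (φ d⁻¹ h) : H) : H ⧸ N) = h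
          rw [map_inv, MulAut.apply_inv_self]
      map_mul' := fun x y => map_mul _ x y }
  map_one' := by
    ext x
    induction x using QuotientGroup.induction_on with
    | H h =>
      show ((φ 1 h : H) : H ⧸ N) = h
      rw [map_one]; rfl
  map_mul' := by
    intro d e
    ext x
    induction x using QuotientGroup.induction_on with
    | H h =>
      show ((φ (d * e) h : H) : H ⧸ N) = ((φ d (φ e h) : H) : H ⧸ N)
      rw [map_mul]; rfl

@[simp] theorem quotAct_mk (φ : D →* MulAut H) (N : Subgroup H) [N.Normal]
    (hN : ∀ d : D, ∀ n ∈ N, φ d n ∈ N) (d : D) (h : H) :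
    quotAct φ N hN d (h : H ⧸ N) = ((φ d h : H) : H ⧸ N) := rfl

/-- The conclusion of Theorem T: the subgroup `Q` of `D` acts trivially on `H / O(H)`. -/
def TStmt (φ : D →* MulAut H) (Q : Subgroup D) : Prop :=
  ∀ q ∈ Q, ∀ h : H, h⁻¹ * φ q h ∈ Cfsg.oddCore H

universe u v

/-- The induction hypothesis of Theorem T: the theorem for all groups of order `< n`
(in the universe `u`). -/
def TIH (D : Type v) [Group D] (Q : Subgroup D) (n : ℕ) : Prop :=
  ∀ (H : Type u) [Group H] [Finite H] (φ : D →* MulAut H) (S : Sylow 2 H),
    Nat.card H < n → (∀ d : D, ∀ s ∈ S, φ d s = s) → TStmt φ Q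

end Cfsg.Agent.Lib.Helper1.LBAL
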