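import Mathlib
import Cfsg.Agent.Lib.Helper1.SubnormalSylow
import Cfsg.Agent.Lib.Helper1.CoprimeSylow

/-!
# Farm LBAL, unit K4: Sylow bookkeeping.
-/

set_option autoImplicit false

namespace Cfsg.Agent.Lib.Helper1.LBAL

universe u

/-- modular law with a normal subgroup: `(R ⊔ E) ⊓ Y = R ⊔ (E ⊓ Y)` if `R ≤ Y`, `E` normal. -/
theorem sup_normal_inf_eq {G : Type u} [Group G] (R E Y : Subgroup G) [E.Normal] (hRY : R ≤ Y) :
    (R ⊔ E) ⊓ Y = R ⊔ (E ⊓ Y) := by
  apply le_antisymm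
  · intro x hx
    obtain ⟨hx1, hx2⟩ := Subgroup.mem_inf.mp hx
    obtain ⟨r, hr, e, he, rfl⟩ := Subgroup.mem_sup_of_normal_right.mp hx1
    have he2 : e ∈ Y := by
      have := Y.mul_mem (Y.inv_mem (hRY hr)) hx2
      simpa using this
    exact Subgroup.mul_mem _ (Subgroup.mem_sup_left hr)
      (Subgroup.mem_sup_right (Subgroup.mem_inf.mpr ⟨he, he2⟩))
  · exact le_inf (sup_le_sup le_rfl inf_le_left) (sup_le hRY inf_le_right)

/-- K4: Sylow bookkeeping: if a Sylow 2-subgroup `T` of `N_E(R)` (`E` normal in `G`) lies in the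
2-group `R`, then `R` contains a Sylow 2-subgroup of `E`. -/
theorem K4 {G : Type u} [Group G] [Finite G] {E R T : Subgroup G} [E.Normal]
    (hR : IsPGroup 2 ↥R) (hT2 : IsPGroup 2 ↥T)
    (hTE : T ≤ E ⊓ Subgroup.normalizer (R : Set G))
    (hTs : ¬ 2 ∣ T.relIndex (E ⊓ Subgroup.normalizer (R : Set G))) (hTR : T ≤ R) :
    ∃ S' : Subgroup G, S' ≤ E ∧ S' ≤ R ∧ IsPGroup 2 ↥S' ∧ ¬ 2 ∣ S'.relIndex E := by
  have : Fact (Nat.Prime 2) := ⟨Nat.prime_two⟩
  set Y : Subgroup G := Subgroup.normalizer (R : Set G) with hY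
  have hRY : R ≤ Y := Subgroup.le_normalizer
  set M : Subgroup G := E ⊓ Y with hM
  -- (1)
  have h1 : ¬ 2 ∣ R.relIndex M := by
    intro hd
    apply hTs
    have h := Subgroup.relIndex_mul_relIndex T (R ⊓ M) M (le_inf hTR hTE) inf_le_right
    rw [Subgroup.inf_relIndex_right] at h
    rw [← h]
    exact dvd_mul_of_dvd_right hd _
  -- (2)
  have h2 : R.relIndex M = R.relIndex (R ⊔ M) := by
    have hMY : M ≤ Y := inf_le_right
    have : (M.subgroupOf Y).Normal := by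
      rw [hM, Subgroup.inf_subgroupOf_right]
      infer_instance
    have h := relIndex_eq_relIndex_sup_of_normal (R.subgroupOf Y) (M.subgroupOf Y)
    rw [← Subgroup.subgroupOf_sup hRY hMY, Subgroup.relIndex_subgroupOf hMY,
      Subgroup.relIndex_subgroupOf (sup_le hRY hMY)] at h
    exact h
  -- (3), (4)
  have h4 : ¬ 2 ∣ R.relIndex (R ⊔ E) := by
    apply not_dvd_relIndex_of_not_dvd_relIndex_normalizer 2 (R ⊔ E) R le_sup_left hR
    rw [sup_normal_inf_eq R E Y hRY, ← h2]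
    exact h1
  refine ⟨R ⊓ E, inf_le_right, inf_le_left, hR.to_le inf_le_left, ?_⟩
  rw [Subgroup.inf_relIndex_right, relIndex_eq_relIndex_sup_of_normal R E]
  exact h4

end Cfsg.Agent.Lib.Helper1.LBAL
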