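import Mathlib
import Cfsg.Prelude.Def_CaseTheorems
import Cfsg.Agent.Lib.Helper3.InnerAbelSylow
import Cfsg.Agent.Lib.Helper3.ZStarTwo

/-!
# Farm LBAL, unit TC3: the `Z*`-theorem in `H ⋊ ⟨α⟩`.
-/

set_option autoImplicit false
set_option linter.style.haveILetI false

namespace Cfsg.Agent.Lib.Helper1.LBAL

open Cfsg.Agent.Lib.Helper3.InnerAbelSylow

universe u

/-- `O(H ⋊ A) = 1` when `O(H) = 1` and `A` is a 2-group. -/
theorem pPrimeCore_gam_eq_bot {H : Type u} [Group H] [Finite H] (hcore : Cfsg.pPrimeCore 2 H = ⊥)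
    (A : Subgroup (MulAut H)) (j : ℕ) (hAcard : Nat.card A = 2 ^ j) :
    Cfsg.pPrimeCore 2 (Gam A) = ⊥ := by
  haveI hfin : Finite (Gam A) := finite_gam A
  haveI hOn : (Cfsg.pPrimeCore 2 (Gam A)).Normal := Cfsg.Agent.Lib.Helper1.pPrimeCore_normal 2
  have hcop : (Nat.card (Cfsg.pPrimeCore 2 (Gam A))).Coprime 2 :=
    Cfsg.Agent.Lib.Helper1.pPrimeCore_card_coprime 2
  have hright : ∀ γ ∈ Cfsg.pPrimeCore 2 (Gam A), γ.right = 1 := by
    intro γ hγ
    have h1 : orderOf (SemidirectProduct.rightHom (φ := A.subtype) γ) ∣ orderOf γ :=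
      orderOf_map_dvd _ γ
    have h2 : orderOf γ ∣ Nat.card (Cfsg.pPrimeCore 2 (Gam A)) :=
      Subgroup.orderOf_dvd_natCard _ hγ
    have h3 : orderOf (SemidirectProduct.rightHom (φ := A.subtype) γ) ∣ 2 ^ j := by
      rw [← hAcard]; exact orderOf_dvd_natCard _
    have h4 : orderOf (SemidirectProduct.rightHom (φ := A.subtype) γ) = 1 :=
      Nat.eq_one_of_dvd_coprimes (hcop.pow_right j) (dvd_trans h1 h2) h3
    exact orderOf_eq_one_iff.mp h4
  have hK₀ : (Cfsg.pPrimeCore 2 (Gam A)).comap (SemidirectProduct.inl (φ := A.subtype))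
      ≤ Cfsg.pPrimeCore 2 H := by
    apply Cfsg.Agent.Lib.Helper1.le_pPrimeCore (hOn.comap _)
    have h1 : Nat.card ((Cfsg.pPrimeCore 2 (Gam A)).comap
        (SemidirectProduct.inl (φ := A.subtype))) ∣ Nat.card (Cfsg.pPrimeCore 2 (Gam A)) := by
      rw [← Subgroup.card_map_of_injective
        (SemidirectProduct.inl_injective (φ := A.subtype))]
      exact Subgroup.card_dvd_of_le (Subgroup.map_comap_le _ _)
    exact Nat.Coprime.coprime_dvd_left h1 hcop
  rw [hcore] at hK₀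
  rw [eq_bot_iff]
  intro γ hγ
  rw [Subgroup.mem_bot]
  have hr := hright γ hγ
  have hγeq : γ = SemidirectProduct.inl γ.left := by
    apply SemidirectProduct.ext
    · rw [SemidirectProduct.left_inl]
    · rw [SemidirectProduct.right_inl, hr]
  have hl : γ.left ∈ (Cfsg.pPrimeCore 2 (Gam A)).comap
      (SemidirectProduct.inl (φ := A.subtype)) := by
    rw [Subgroup.mem_comap, ← hγeq]; exact hγ
  have h0 := hK₀ hl
  rw [Subgroup.mem_bot] at h0
  rw [hγeq, h0, map_one]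

/-- TC3: the `Z*`-theorem in `H ⋊ ⟨α⟩`: a nontrivial involutory automorphism of a core-free group
fixing a Sylow 2-subgroup pointwise is not isolated. -/
theorem TC3 {H : Type u} [Group H] [Finite H] (hO : Cfsg.oddCore H = ⊥) (S : Sylow 2 H)
    (α : MulAut H) (hα : α ≠ 1) (hα2 : ∀ h : H, α (α h) = h) (hfix : ∀ s ∈ S, α s = s) :
    ∃ g : H, ∃ s ∈ S, s ≠ 1 ∧ g⁻¹ * α g = s := by
  classical
  haveI : Fact (Nat.Prime 2) := ⟨Nat.prime_two⟩
  by_contra hcon
  have hiso0 : ∀ g : H, g⁻¹ * α g ∈ S → g⁻¹ * α g = 1 := by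
    intro g hg
    by_contra h1
    exact hcon ⟨g, _, hg, h1, rfl⟩
  obtain ⟨A, hA⟩ : ∃ A : Subgroup (MulAut H), A = Subgroup.zpowers α := ⟨_, rfl⟩
  have hαA : α ∈ A := hA ▸ Subgroup.mem_zpowers α
  have hαα : α * α = 1 := by
    ext h
    rw [MulAut.mul_apply, MulAut.one_apply]
    exact hα2 h
  have hord : orderOf α = 2 := orderOf_eq_prime (by rw [pow_two]; exact hαα) hα
  have hAcard : Nat.card A = 2 ^ 1 := by
    rw [hA, Nat.card_zpowers, hord, pow_one]
  have hAc : ∀ β γ : ↥A, β * γ = γ * β := by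
    intro β γ
    have hβ' : (β : MulAut H) ∈ Subgroup.zpowers α := by rw [← hA]; exact β.2
    have hγ' : (γ : MulAut H) ∈ Subgroup.zpowers α := by rw [← hA]; exact γ.2
    obtain ⟨i, hi⟩ := Subgroup.mem_zpowers_iff.mp hβ'
    obtain ⟨k, hk⟩ := Subgroup.mem_zpowers_iff.mp hγ'
    apply Subtype.ext
    rw [Subgroup.coe_mul, Subgroup.coe_mul, ← hi, ← hk]
    exact ((Commute.refl α).zpow_zpow i k).eq
  have hfixA : ∀ β ∈ A, ∀ x ∈ (S : Subgroup H), β x = x := by
    intro β hβ x hx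
    have hβ' : β ∈ Subgroup.zpowers α := by rw [← hA]; exact hβ
    obtain ⟨i, hi⟩ := Subgroup.mem_zpowers_iff.mp hβ'
    have hfixα : α x = x := hfix x hx
    have hfix' : ∀ n : ℕ, (α ^ n) x = x := by
      intro n
      induction n with
      | zero => simp
      | succ n ih => rw [pow_succ, MulAut.mul_apply, hfixα, ih]
    have h2 : ∀ i : ℤ, (α ^ i) x = x := by
      intro i
      cases i with
      | ofNat n => simpa using hfix' n
      | negSucc n =>
        rw [zpow_negSucc]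
        have := hfix' (n + 1)
        calc (α ^ (n + 1))⁻¹ x = (α ^ (n + 1))⁻¹ ((α ^ (n + 1)) x) := by rw [this]
          _ = x := MulAut.inv_apply_self _ _ _
    rw [← hi]; exact h2 i
  haveI hfin : Finite (Gam A) := finite_gam A
  obtain ⟨v, hv⟩ := IsPGroup.iff_card.mp S.2
  obtain ⟨S₀, hS₀⟩ : ∃ S₀ : Subgroup (Gam A), S₀ = sylSub A (S : Subgroup H) hfixA := ⟨_, rfl⟩
  have hS₀mem : ∀ γ : Gam A, γ ∈ S₀ ↔ γ.left ∈ (S : Subgroup H) := by
    intro γ; rw [hS₀]; rfl
  have hS₀card : Nat.card S₀ = 2 ^ (v + 1) := by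
    rw [hS₀, card_sylSub, hv, hAcard, pow_add]
  have hS₀pg : IsPGroup 2 S₀ := IsPGroup.of_card hS₀card
  have hS₀idx : ¬ 2 ∣ S₀.index := by
    have h1 := S₀.card_mul_index
    rw [hS₀card, SemidirectProduct.card, hAcard, ← (S : Subgroup H).card_mul_index, hv] at h1
    have h2 : S₀.index = (S : Subgroup H).index := by
      have h3 : 2 ^ (v + 1) * S₀.index = 2 ^ (v + 1) * (S : Subgroup H).index := by
        rw [h1, pow_add]; ring
      exact Nat.eq_of_mul_eq_mul_left (by positivity) h3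
    rw [h2]; exact S.not_dvd_index
  obtain ⟨S₁, hS₁⟩ : ∃ S₁ : Sylow 2 (Gam A), S₁ = hS₀pg.toSylow hS₀idx := ⟨_, rfl⟩
  have hScoe : (S₁ : Subgroup (Gam A)) = S₀ := by rw [hS₁]; exact IsPGroup.toSylow_coe _ _
  have hSmem : ∀ γ : Gam A, γ ∈ (S₁ : Subgroup (Gam A)) ↔ γ.left ∈ (S : Subgroup H) := by
    intro γ; rw [hScoe]; exact hS₀mem γ
  obtain ⟨a, ha⟩ : ∃ a : ↥A, a = ⟨α, hαA⟩ := ⟨_, rfl⟩
  have haval : (A.subtype a) = α := by rw [ha]; rfl
  obtain ⟨b, hb⟩ : ∃ b : Gam A, b = SemidirectProduct.inr a := ⟨_, rfl⟩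
  have hbl : b.left = 1 := by rw [hb, SemidirectProduct.left_inr]
  have hbr : b.right = a := by rw [hb, SemidirectProduct.right_inr]
  have hbS : b ∈ (S₁ : Subgroup (Gam A)) := by
    rw [hSmem, hbl]; exact Subgroup.one_mem _
  -- conjugates of `b`
  have hconj_left : ∀ γ : Gam A, (γ * b * γ⁻¹).left = γ.left * α (γ.left⁻¹) := by
    intro γ
    rw [SemidirectProduct.mul_left, SemidirectProduct.mul_left, SemidirectProduct.mul_right,
      SemidirectProduct.inv_left, hbl, hbr, map_one, mul_one]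
    congr 1
    have h1 : γ.right * a = a * γ.right := hAc _ _
    have h3 : (A.subtype γ.right) ((A.subtype γ.right⁻¹) γ.left⁻¹) = γ.left⁻¹ := by
      rw [map_inv A.subtype γ.right]; exact MulAut.apply_inv_self H _ _
    rw [h1, map_mul, MulAut.mul_apply, h3, haval]
  have hconj_right : ∀ γ : Gam A, (γ * b * γ⁻¹).right = a := by
    intro γ
    rw [SemidirectProduct.mul_right, SemidirectProduct.mul_right, SemidirectProduct.inv_right,
      hbr, hAc γ.right a, mul_inv_cancel_right]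
  have hiso : ∀ γ : Gam A, γ * b * γ⁻¹ ∈ (S₁ : Subgroup (Gam A)) → γ * b * γ⁻¹ = b := by
    intro γ hγ
    rw [hSmem, hconj_left] at hγ
    have h1 := hiso0 (γ.left⁻¹) (by rw [inv_inv]; exact hγ)
    rw [inv_inv] at h1
    apply SemidirectProduct.ext
    · rw [hconj_left, h1, hbl]
    · rw [hconj_right, hbr]
  have hOΓ : Cfsg.pPrimeCore 2 (Gam A) = ⊥ := pPrimeCore_gam_eq_bot hO A 1 hAcard
  have hbcen : ∀ γ : Gam A, b * γ = γ * b := by
    intro γ
    have h1 := Cfsg.Agent.Lib.Helper3.ZStarTwo.zstar_two S₁ b hbS hiso γ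
    rw [hOΓ, Subgroup.mem_bot] at h1
    calc b * γ = (b * γ * b⁻¹ * γ⁻¹) * (γ * b) := by group
      _ = γ * b := by rw [h1, one_mul]
  apply hα
  ext x
  have h1 := hbcen (SemidirectProduct.inl x)
  have h2 := congrArg SemidirectProduct.left h1
  rw [SemidirectProduct.mul_left, SemidirectProduct.mul_left, SemidirectProduct.left_inl,
    SemidirectProduct.right_inl, map_one, MulAut.one_apply, hbl, hbr, haval, one_mul, mul_one] at h2
  rw [MulAut.one_apply]
  exact h2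

end Cfsg.Agent.Lib.Helper1.LBAL
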