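import Mathlib
import Cfsg.Prelude.Def_Solvable
import Cfsg.Prelude.Def_CaseTheorems
import Cfsg.Agent.Lib.Helper1.LBALAct
import Cfsg.Agent.Lib.Helper1.LBALTC3
import Cfsg.Agent.Lib.Helper4.LBALTC1
import Cfsg.Agent.Lib.Helper4.LBALTC5
import Cfsg.Agent.Lib.Helper2.LBALTCres
import Cfsg.Agent.Lib.Helper9.LBALTC2

/-!
# Farm LBAL, unit TCmain: case `O(H) = 1 = O_2(H)` of Theorem T (assembly).
-/

set_option autoImplicit false

namespace Cfsg.Agent.Lib.Helper1.LBAL

universe u v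

/-- a subgroup normalized by everything and a 2-group is trivial when `O_2(H) = 1`. -/
theorem eq_bot_of_pCore_eq_bot {H : Type u} [Group H] (hW : Cfsg.pCore 2 H = ⊥)
    (E : Subgroup H) (hE2 : IsPGroup 2 ↥E) (hEn : Subgroup.normalizer (E : Set H) = ⊤) :
    E = ⊥ := by
  have hn : E.Normal := Subgroup.normalizer_eq_top_iff.mp hEn
  have hle : E ≤ Cfsg.pCore 2 H := le_sSup ⟨hn, hE2⟩
  rw [hW] at hle
  exact le_bot_iff.mp hle

/-- automorphisms fixing `E` pointwise preserve `N_H(E)`. -/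
theorem map_mem_normalizer_of_fix {H : Type u} [Group H] (β : MulAut H) (E : Subgroup H)
    (hfix : ∀ e ∈ E, β e = e) {n : H} (hn : n ∈ Subgroup.normalizer (E : Set H)) :
    β n ∈ Subgroup.normalizer (E : Set H) := by
  have hfix' : ∀ e ∈ E, β⁻¹ e = e := by
    intro e he
    calc β⁻¹ e = β⁻¹ (β e) := by rw [hfix e he]
      _ = e := MulAut.inv_apply_self H β e
  rw [Subgroup.mem_normalizer_iff]
  intro e
  constructor
  · intro he
    have h1 : n * e * n⁻¹ ∈ E := (Subgroup.mem_normalizer_iff.mp hn e).mp he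
    have h2 : β (n * e * n⁻¹) = β n * e * (β n)⁻¹ := by
      rw [map_mul, map_mul, map_inv, hfix e he]
    rw [← h2, hfix _ h1]; exact h1
  · intro he
    -- β⁻¹ (β n * e * (β n)⁻¹) = n * β⁻¹ e * n⁻¹
    have h1 : β⁻¹ (β n * e * (β n)⁻¹) = n * β⁻¹ e * n⁻¹ := by
      rw [map_mul, map_mul, map_inv, MulAut.inv_apply_self]
    have h2 : n * β⁻¹ e * n⁻¹ ∈ E := by
      rw [← h1, hfix' _ he]; exact he
    have h3 : β⁻¹ e ∈ E := (Subgroup.mem_normalizer_iff.mp hn _).mpr h2
    have h4 : β (β⁻¹ e) = e := MulAut.apply_inv_self H β e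
    rw [← h4, hfix _ h3]; exact h3

/-- TCmain (case `O(H) = 1 = O_2(H)`). -/
theorem TCmain {D : Type v} [Group D] (Q : Subgroup D) (hQ : IsPGroup 2 ↥Q)
    {H : Type u} [Group H] [Finite H]
    (φ : D →* MulAut H) (S : Sylow 2 H) (hfix : ∀ d : D, ∀ s ∈ S, φ d s = s)
    (hIH : TIH.{u, v} D Q (Nat.card H)) (hO : Cfsg.oddCore H = ⊥) (hW : Cfsg.pCore 2 H = ⊥) :
    TStmt φ Q := by
  classical
  intro q hq h
  rw [hO, Subgroup.mem_bot]
  by_contra hne
  have hφq : φ q ≠ 1 := by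
    intro h1
    apply hne
    rw [h1, MulAut.one_apply, inv_mul_cancel]
  -- an involution in `φ(Q)`
  obtain ⟨a, haQ, hα1, hα2⟩ : ∃ a ∈ Q, φ a ≠ 1 ∧ ∀ x : H, φ a (φ a x) = x := by
    obtain ⟨k, hk⟩ := hQ ⟨q, hq⟩
    have hk' : q ^ (2 ^ k) = 1 := by
      have := congrArg Subtype.val hk
      simpa using this
    have hex : ∃ m : ℕ, (φ q) ^ (2 ^ m) = 1 := ⟨k, by rw [← map_pow, hk', map_one]⟩
    obtain ⟨hm1, hm2⟩ : (φ q) ^ (2 ^ Nat.find hex) = 1 ∧
        ∀ m < Nat.find hex, ¬ (φ q) ^ (2 ^ m) = 1 :=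
      ⟨Nat.find_spec hex, fun m hm => Nat.find_min hex hm⟩
    have hne0 : Nat.find hex ≠ 0 := by
      intro h0
      rw [h0, pow_zero, pow_one] at hm1
      exact hφq hm1
    obtain ⟨m, hm⟩ : ∃ m, Nat.find hex = m + 1 := Nat.exists_eq_succ_of_ne_zero hne0
    refine ⟨q ^ (2 ^ m), Q.pow_mem hq _, ?_, ?_⟩
    · rw [map_pow]
      exact hm2 m (by omega)
    · intro x
      rw [map_pow, ← MulAut.mul_apply, ← pow_two, ← pow_mul, ← pow_succ, ← hm, hm1,
        MulAut.one_apply]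
  obtain ⟨α, hα⟩ : ∃ α : MulAut H, α = φ a := ⟨_, rfl⟩
  rw [← hα] at hα1 hα2
  have hfixα : ∀ s ∈ S, α s = s := fun s hs => hα ▸ hfix a s hs
  -- local statement
  have hloc : ∀ E : Subgroup H, E ≤ (S : Subgroup H) → E ≠ ⊥ →
      ¬ 2 ∣ ((S : Subgroup H) ⊓ Subgroup.normalizer (E : Set H)).relIndex
        (Subgroup.normalizer (E : Set H)) →
      ∀ n ∈ Subgroup.normalizer (E : Set H), ∃ o k : H, n = o * k ∧ α k = k ∧
        k ∈ Subgroup.normalizer (E : Set H) ∧ o ∈ Subgroup.centralizer (E : Set H) := by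
    intro E hES hE1 hEs
    have hE2 : IsPGroup 2 ↥E := S.2.to_le hES
    have hN : Subgroup.normalizer (E : Set H) ≠ ⊤ := fun h => hE1 (eq_bot_of_pCore_eq_bot hW E hE2 h)
    have hDN : ∀ d : D, ∀ n ∈ Subgroup.normalizer (E : Set H),
        φ d n ∈ Subgroup.normalizer (E : Set H) := fun d n hn =>
      map_mem_normalizer_of_fix (φ d) E (fun e he => hfix d e (hES he)) hn
    have hres := Cfsg.Agent.Lib.Helper2.LBAL.TCres Q φ S hfix hIH _ hN hDN hEs
    have hαN : ∀ n ∈ Subgroup.normalizer (E : Set H), α n ∈ Subgroup.normalizer (E : Set H) :=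
      fun n hn => hα ▸ hDN a n hn
    have htriv : ∀ n ∈ Subgroup.normalizer (E : Set H), n⁻¹ * α n ∈
        (Cfsg.oddCore ↥(Subgroup.normalizer (E : Set H))).map
          (Subgroup.normalizer (E : Set H)).subtype := fun n hn => hα ▸ hres a haQ n hn
    exact Cfsg.Agent.Lib.Helper4.LBAL.TC1 α hα2 _ hαN htriv E Subgroup.le_normalizer le_rfl hE2
  have hCF := Cfsg.Agent.Lib.Helper9.LBAL.TC2 S α hloc
  have hcen : ∀ s ∈ S, s ≠ 1 →
      ¬ 2 ∣ ((S : Subgroup H) ⊓ Subgroup.centralizer ({s} : Set H)).relIndex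
        (Subgroup.centralizer ({s} : Set H)) →
      ∀ c ∈ Subgroup.centralizer ({s} : Set H), c⁻¹ * α c ∈
        (Cfsg.oddCore ↥(Subgroup.centralizer ({s} : Set H))).map
          (Subgroup.centralizer ({s} : Set H)).subtype := by
    intro s hs hs1 hss
    have hN : Subgroup.centralizer ({s} : Set H) ≠ ⊤ := by
      intro htop
      apply hs1
      have hsc : ∀ x : H, x * s = s * x := fun x =>
        Subgroup.mem_centralizer_singleton_iff.mp (htop ▸ Subgroup.mem_top x)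
      have hE2 : IsPGroup 2 ↥(Subgroup.zpowers s) := S.2.to_le (by
        rw [Subgroup.zpowers_le]; exact hs)
      have hn : Subgroup.normalizer ((Subgroup.zpowers s : Subgroup H) : Set H) = ⊤ := by
        rw [eq_top_iff]
        intro x _
        rw [Subgroup.mem_normalizer_iff]
        intro y
        have hxy : y ∈ Subgroup.zpowers s → x * y * x⁻¹ = y := by
          intro hy
          obtain ⟨i, rfl⟩ := Subgroup.mem_zpowers_iff.mp hy
          have : Commute x (s ^ i) := (show Commute x s from hsc x).zpow_right i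
          rw [this.eq, mul_inv_cancel_right]
        constructor
        · intro hy; rw [hxy hy]; exact hy
        · intro hy
          have h1 : x⁻¹ * (x * y * x⁻¹) * x⁻¹⁻¹ = x * y * x⁻¹ := by
            obtain ⟨i, hi⟩ := Subgroup.mem_zpowers_iff.mp hy
            have : Commute x⁻¹ (s ^ i) := ((show Commute x s from hsc x).inv_left).zpow_right i
            rw [← hi, this.eq, mul_inv_cancel_right]
          have h2 : x⁻¹ * (x * y * x⁻¹) * x⁻¹⁻¹ = y := by group
          rw [← h2, h1]; exact hy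
      have := eq_bot_of_pCore_eq_bot hW _ hE2 hn
      have hs' : s ∈ Subgroup.zpowers s := Subgroup.mem_zpowers s
      rw [this, Subgroup.mem_bot] at hs'
      exact hs'
    have hDN : ∀ d : D, ∀ n ∈ Subgroup.centralizer ({s} : Set H),
        φ d n ∈ Subgroup.centralizer ({s} : Set H) := by
      intro d n hn
      rw [Subgroup.mem_centralizer_singleton_iff] at hn ⊢
      have := congrArg (φ d) hn
      rw [map_mul, map_mul, hfix d s hs] at this
      exact this
    have hres := Cfsg.Agent.Lib.Helper2.LBAL.TCres Q φ S hfix hIH _ hN hDN hss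
    intro c hc
    exact hα ▸ hres a haQ c hc
  obtain ⟨g, s, hs, hs1, hgs⟩ := TC3 hO S α hα1 hα2 hfixα
  exact Cfsg.Agent.Lib.Helper4.LBAL.TC5 S α hα2 hfixα hCF hcen g s hs hs1 hgs

end Cfsg.Agent.Lib.Helper1.LBAL
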