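import Mathlib
import Cfsg.Prelude.Def_Solvable
import Cfsg.Prelude.Def_CaseTheorems
import Cfsg.Agent.Lib.Helper1.LBALAct
import Cfsg.Agent.Lib.Helper1.LBALTCmain
import Cfsg.Agent.Lib.Helper2.LBALTA
import Cfsg.Agent.Lib.Helper2.LBALTB2
import Cfsg.Agent.Lib.Helper4.LBALTB1

/-!
# Farm LBAL, unit Tmain: Theorem T (strong induction on `Nat.card H`).
-/

set_option autoImplicit false

namespace Cfsg.Agent.Lib.Helper1.LBAL

universe u v

theorem Tmain_aux {D : Type v} [Group D] (Q : Subgroup D) (hQ : IsPGroup 2 ↥Q)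
    (hQD : Q ≤ ⁅Q, (⊤ : Subgroup D)⁆) :
    ∀ n : ℕ, ∀ (H : Type u) [Group H] [Finite H] (φ : D →* MulAut H) (S : Sylow 2 H),
      Nat.card H = n → (∀ d : D, ∀ s ∈ S, φ d s = s) → TStmt φ Q := by
  intro n
  induction n using Nat.strong_induction_on with
  | _ n ih =>
    intro H _ _ φ S hn hfix
    have hIH : TIH.{u, v} D Q (Nat.card H) := by
      intro H' _ _ φ' S' hlt hfix'
      exact ih (Nat.card H') (hn ▸ hlt) H' φ' S' rfl hfix'
    by_cases hO : Cfsg.oddCore H = ⊥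
    · by_cases hW : Cfsg.pCore 2 H = ⊥
      · exact TCmain Q hQ φ S hfix hIH hO hW
      · have h1 := Cfsg.Agent.Lib.Helper4.LBAL.TB1 Q φ S hfix hIH hO hW
        have h2 := Cfsg.Agent.Lib.Helper2.LBAL.TB2 Q hQD φ S hfix h1
        intro q hq h
        rw [h2 q hq h, inv_mul_cancel]
        exact Subgroup.one_mem _
    · exact Cfsg.Agent.Lib.Helper2.LBAL.TA Q φ S hfix hIH hO

/-- Tmain: Theorem T. -/
theorem Tmain {D : Type v} [Group D] (Q : Subgroup D) (hQ : IsPGroup 2 ↥Q)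
    (hQD : Q ≤ ⁅Q, (⊤ : Subgroup D)⁆) {H : Type u} [Group H] [Finite H]
    (φ : D →* MulAut H) (S : Sylow 2 H) (hfix : ∀ d : D, ∀ s ∈ S, φ d s = s) : TStmt φ Q :=
  Tmain_aux Q hQ hQD _ H φ S rfl hfix

end Cfsg.Agent.Lib.Helper1.LBAL
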