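import Mathlib
import Cfsg.Prelude.Def_Local
import Cfsg.Prelude.Def_ClassificationStages
import Cfsg.Agent.Lib.Helper1.LBALTmain
import Cfsg.Agent.Lib.Helper9.LBALT10pre

/-!
# Farm LBAL, unit T10 (assembly: `Helper9.LBAL.T10_of_Tmain` applied to `Tmain`).
-/

set_option autoImplicit false

namespace Cfsg.Agent.Lib.Helper1.LBAL

open Cfsg Cfsg.Agent.Lib.Helper8.PComp

universe u

/-- T10: a perfect subgroup `J` generated by its 2-elements, normalizing the quasisimple `K` (with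
`K/Z(K)` of even order) and centralizing a Sylow 2-subgroup `SK` of `K`, centralizes `K`. -/
theorem T10 {G : Type u} [Group G] [Finite G] (K J SK : Subgroup G)
    (hKq : Cfsg.IsQuasisimple ↥K) (hKeven : 2 ∣ Nat.card (↥K ⧸ Subgroup.center ↥K))
    (hSK : SK ≤ K) (hSK2 : IsPGroup 2 ↥SK) (hSKs : ¬ 2 ∣ SK.relIndex K)
    (hJK : J ≤ Subgroup.normalizer (K : Set G)) (hJS : J ≤ Subgroup.centralizer (SK : Set G))
    (hJperf : ⁅J, J⁆ = J) (hJgen : J = pGen 2 J) : J ≤ Subgroup.centralizer (K : Set G) :=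
  Cfsg.Agent.Lib.Helper9.LBAL.T10_of_Tmain
    (fun Q hQ hQD _ _ _ φ S hfix => Tmain Q hQ hQD φ S hfix)
    K J SK hKq hKeven hSK hSK2 hSKs hJK hJS hJperf hJgen

end Cfsg.Agent.Lib.Helper1.LBAL
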