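import Mathlib
import Cfsg.Prelude.Def_Local
import Cfsg.Prelude.Def_ClassificationStages
import Cfsg.Agent.Lib.Helper1.LBALT10
import Cfsg.Agent.Lib.Helper7.LBALK1
import Cfsg.Agent.Lib.Helper8.LBALK5pre

/-!
# Farm LBAL, unit K5 (assembly: `Helper8.LBAL.K5pre` with `Helper7.LBAL.K1` and `T10`).
-/

set_option autoImplicit false

namespace Cfsg.Agent.Lib.Helper1.LBAL

universe u

/-- K5: endgame: if `R` contains a Sylow 2-subgroup of `E(G)`, `O(G) = 1`, then `N_G(R)` has no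
2-component. -/
theorem K5 {G : Type u} [Group G] [Finite G] (hO : Cfsg.oddCore G = ⊥) {R J S' : Subgroup G}
    (hR : IsPGroup 2 ↥R) (hJ : Cfsg.IsPComponentOf 2 J (Subgroup.normalizer (R : Set G)))
    (hS'E : S' ≤ Cfsg.layer G) (hS'R : S' ≤ R) (hS'2 : IsPGroup 2 ↥S')
    (hS's : ¬ 2 ∣ S'.relIndex (Cfsg.layer G)) : False := by
  have hK1 := Cfsg.Agent.Lib.Helper7.LBAL.K1 hO hR hJ
  exact Cfsg.Agent.Lib.Helper8.LBAL.K5pre hO hJ hS'E hS'R hS'2 hS's hK1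
    (fun K SK hKq hKe hSK hSK2 hSKs hJK hJS =>
      T10 K J SK hKq hKe hSK hSK2 hSKs hJK hJS hK1.2.2.2.1 hK1.2.2.2.2)

end Cfsg.Agent.Lib.Helper1.LBAL
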