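import Mathlib
import Cfsg.Prelude.Def_Local
import Cfsg.Prelude.Def_ClassificationStages
import Cfsg.Agent.Lib.Helper7.BB1
import Cfsg.Agent.Lib.Helper7.LB4
import Cfsg.Agent.Lib.Helper8.PComp2

/-!
# Farm LBAL, unit K3b: recognizing a 2-component `pGen 2 M'` from a `PLike` group `J` with
`M' ≤ J O₁ ≤ M' O₁`, `O₁` of odd order.
-/

set_option autoImplicit false

namespace Cfsg.Agent.Lib.Helper1.LBAL

open Cfsg Cfsg.Agent.Lib.Helper8.PComp Cfsg.Agent.Lib.Helper7.BB

universe u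

/-- a surjection with `p'`-kernel induces `A / O_{p'}(A) ≃* B / O_{p'}(B)`. -/
noncomputable def coreQuotEquiv {A B : Type*} [Group A] [Group B] [Finite A] [Finite B]
    {p : ℕ} [hp : Fact p.Prime] (f : A →* B) (hf : Function.Surjective f)
    (hker : (Nat.card f.ker).Coprime p) : A ⧸ pPrimeCore p A ≃* B ⧸ pPrimeCore p B :=
  have hgk : pPrimeCore p A = ((QuotientGroup.mk' (pPrimeCore p B)).comp f).ker := by
    rw [← MonoidHom.comap_ker, QuotientGroup.ker_mk',
      Cfsg.Agent.Lib.Helper7.LB.pPrimeCore_comap_of_surjective f hf hker]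
  (QuotientGroup.quotientMulEquivOfEq hgk).trans
    (QuotientGroup.quotientKerEquivOfSurjective ((QuotientGroup.mk' (pPrimeCore p B)).comp f)
      ((QuotientGroup.mk'_surjective _).comp hf))

theorem plike_of_surjective {A B : Type*} [Group A] [Group B] [Finite A] [Finite B]
    {p : ℕ} [hp : Fact p.Prime] (f : A →* B) (hf : Function.Surjective f)
    (hker : (Nat.card f.ker).Coprime p) (h : PLike p A) : PLike p B :=
  ⟨Cfsg.Agent.Lib.Helper2.isQuasisimple_of_mulEquiv (coreQuotEquiv f hf hker).symm h.1,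
    min_of_surjective f hf h.2⟩

theorem plike_lift {A B : Type*} [Group A] [Group B] [Finite A] [Finite B]
    {p : ℕ} [hp : Fact p.Prime] (f : A →* B) (hf : Function.Surjective f)
    (hker : (Nat.card f.ker).Coprime p) (h : PLike p B)
    (hmin : ∀ N : Subgroup A, N.Normal → N.index.Coprime p → N = ⊤) : PLike p A :=
  ⟨Cfsg.Agent.Lib.Helper2.isQuasisimple_of_mulEquiv (coreQuotEquiv f hf hker) h.1, hmin⟩

/-- the natural map `L → A / O₁` for `L ≤ A ≤ L O₁`, `O₁` odd and normal in `A`. -/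
theorem quot_hom_props {G : Type u} [Group G] [Finite G] {A O₁ L : Subgroup G} (hOA : O₁ ≤ A)
    [hOn : (O₁.subgroupOf A).Normal] (hLA : L ≤ A) (hcov : A ≤ L ⊔ O₁)
    (hodd : Odd (Nat.card ↥O₁)) :
    Function.Surjective ((QuotientGroup.mk' (O₁.subgroupOf A)).comp (Subgroup.inclusion hLA)) ∧
      (Nat.card ((QuotientGroup.mk' (O₁.subgroupOf A)).comp
        (Subgroup.inclusion hLA)).ker).Coprime 2 := by
  constructor
  · intro q
    obtain ⟨a, rfl⟩ := QuotientGroup.mk'_surjective _ q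
    have ha : a ∈ L.subgroupOf A ⊔ O₁.subgroupOf A := by
      rw [← Subgroup.subgroupOf_sup hLA hOA]
      exact Subgroup.mem_subgroupOf.2 (hcov a.2)
    obtain ⟨l, hl, o, ho, rfl⟩ := Subgroup.mem_sup_of_normal_right.mp ha
    refine ⟨⟨l.1, Subgroup.mem_subgroupOf.1 hl⟩, ?_⟩
    have h1 : Subgroup.inclusion hLA ⟨l.1, Subgroup.mem_subgroupOf.1 hl⟩ = l := Subtype.ext rfl
    have h2 : QuotientGroup.mk' (O₁.subgroupOf A) o = 1 :=
      (QuotientGroup.eq_one_iff o).2 ho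
    rw [MonoidHom.comp_apply, h1, map_mul, h2, mul_one]
  · have hle : (((QuotientGroup.mk' (O₁.subgroupOf A)).comp (Subgroup.inclusion hLA)).ker).map
        L.subtype ≤ O₁ := by
      rintro _ ⟨x, hx, rfl⟩
      have h1 : QuotientGroup.mk' (O₁.subgroupOf A) (Subgroup.inclusion hLA x) = 1 := hx
      have h2 := (QuotientGroup.eq_one_iff _).1 h1
      exact Subgroup.mem_subgroupOf.1 h2
    have hcard := Subgroup.card_dvd_of_le hle
    rw [Subgroup.card_map_of_injective L.subtype_injective] at hcard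
    exact Nat.coprime_two_right.mpr (Odd.of_dvd_nat hodd hcard)

/-- K3b (second half of K3): if `J` looks like a 2-component (`PLike`), `O₁` is an odd-order subgroup
normalized by `J`, and `M'` is subnormal in `Y'` with `M' ≤ J O₁ ≤ M' O₁`, then `pGen 2 M'` is a
2-component of `Y'` and `J ≤ (pGen 2 M') O₁`. -/
theorem K3b {G : Type u} [Group G] [Finite G] {J M' O₁ Y' : Subgroup G}
    (hJ : Cfsg.Agent.Lib.Helper7.BB.PLike 2 ↥J) (hO₁ : Odd (Nat.card ↥O₁))
    (hJO : J ≤ Subgroup.normalizer (O₁ : Set G)) (hM'Y : M' ≤ Y')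
    (hM'sn : (M'.subgroupOf Y').IsSubnormal) (h1 : M' ≤ J ⊔ O₁) (h2 : J ⊔ O₁ ≤ M' ⊔ O₁) :
    Cfsg.IsPComponentOf 2 (pGen 2 M') Y' ∧ J ≤ pGen 2 M' ⊔ O₁ := by
  have hp2 : Fact (Nat.Prime 2) := ⟨Nat.prime_two⟩
  obtain ⟨A, hA⟩ : ∃ A : Subgroup G, A = J ⊔ O₁ := ⟨_, rfl⟩
  rw [← hA] at h1 h2
  have hJA : J ≤ A := hA ▸ le_sup_left
  have hOA : O₁ ≤ A := hA ▸ le_sup_right
  have hAN : A ≤ Subgroup.normalizer (O₁ : Set G) := hA ▸ sup_le hJO Subgroup.le_normalizer
  have hOn : (O₁.subgroupOf A).Normal :=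
    (Subgroup.normal_subgroupOf_iff_le_normalizer hOA).2 hAN
  -- Step 1: `Q = A / O₁` is `PLike`
  obtain ⟨hJs, hJk⟩ := quot_hom_props hOA hJA (le_of_eq hA) hO₁
  have hQ : PLike 2 (↥A ⧸ O₁.subgroupOf A) := plike_of_surjective _ hJs hJk hJ
  -- Step 2
  obtain ⟨hMs, -⟩ := quot_hom_props hOA h1 h2 hO₁
  -- Step 3
  obtain ⟨M'', hM''⟩ : ∃ M'' : Subgroup G, M'' = pGen 2 M' := ⟨_, rfl⟩
  have hM''M' : M'' ≤ M' := hM'' ▸ pGen_le 2 M'
  have hcov : A ≤ M'' ⊔ O₁ := by
    have hKn : (M''.subgroupOf M').Normal := hM'' ▸ pGen_subgroupOf_normal 2 M'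
    have hKi : (M''.subgroupOf M').index.Coprime 2 := hM'' ▸ relIndex_pGen_coprime 2 M'
    have hKmn : ((M''.subgroupOf M').map ((QuotientGroup.mk' (O₁.subgroupOf A)).comp
        (Subgroup.inclusion h1))).Normal := hKn.map _ hMs
    have hKmi : ((M''.subgroupOf M').map ((QuotientGroup.mk' (O₁.subgroupOf A)).comp
        (Subgroup.inclusion h1))).index.Coprime 2 :=
      Nat.Coprime.coprime_dvd_left (Subgroup.index_map_dvd _ hMs) hKi
    have htop := hQ.2 _ hKmn hKmi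
    intro a ha
    have hmem : QuotientGroup.mk' (O₁.subgroupOf A) ⟨a, ha⟩ ∈
        (M''.subgroupOf M').map ((QuotientGroup.mk' (O₁.subgroupOf A)).comp
          (Subgroup.inclusion h1)) := by
      rw [htop]; exact Subgroup.mem_top _
    obtain ⟨k, hk, hka⟩ := hmem
    have hk' : (k : G) ∈ M'' := Subgroup.mem_subgroupOf.1 hk
    rw [MonoidHom.comp_apply, QuotientGroup.mk'_apply, QuotientGroup.mk'_apply,
      QuotientGroup.eq] at hka
    have hko : (k : G)⁻¹ * a ∈ O₁ := Subgroup.mem_subgroupOf.1 hka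
    have : a = (k : G) * ((k : G)⁻¹ * a) := by rw [mul_inv_cancel_left]
    rw [this]
    exact Subgroup.mul_mem _ (Subgroup.mem_sup_left hk') (Subgroup.mem_sup_right hko)
  -- Step 4
  have hM''A : M'' ≤ A := hM''M'.trans h1
  obtain ⟨hM''s, hM''k⟩ := quot_hom_props hOA hM''A hcov hO₁
  -- Step 5
  have hmin : ∀ N : Subgroup ↥M'', N.Normal → N.index.Coprime 2 → N = ⊤ := by
    intro N hN hidx
    have hle : M'' ≤ N.map M''.subtype := by
      have h3 : pGen 2 M' ≤ N.map M''.subtype := by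
        unfold pGen
        rw [Subgroup.closure_le]
        rintro x ⟨hx, k, hk⟩
        have hxM'' : x ∈ M'' := hM'' ▸ mem_pGen hx hk
        have hxN : (⟨x, hxM''⟩ : ↥M'') ∈ N :=
          mem_of_normal_of_index_coprime N hidx (k := k) (Subtype.ext (by simpa using hk))
        exact ⟨⟨x, hxM''⟩, hxN, rfl⟩
      exact (le_of_eq hM'').trans h3
    rw [eq_top_iff]
    intro y _
    obtain ⟨n, hn, hny⟩ := hle y.2
    have : n = y := Subtype.ext hny
    rw [← this]; exact hn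
  -- Step 6
  have hlike : PLike 2 ↥M'' := plike_lift _ hM''s hM''k hQ hmin
  -- Steps 7, 8
  rw [← hM'']
  refine ⟨?_, hJA.trans hcov⟩
  rw [isPComponentOf_iff]
  refine ⟨hM''M'.trans hM'Y, subn_trans hM''M' hM'Y ?_ hM'sn, hlike⟩
  have : (M''.subgroupOf M').Normal := hM'' ▸ pGen_subgroupOf_normal 2 M'
  exact this.isSubnormal

end Cfsg.Agent.Lib.Helper1.LBAL
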