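import Mathlib
import Cfsg.Prelude.Def_Local
import Cfsg.Prelude.Def_ClassificationStages
import Cfsg.Agent.Lib.Helper2.Components3
import Cfsg.Agent.Lib.Helper1.LBALK4
import Cfsg.Agent.Lib.Helper7.LBALK1
import Cfsg.Agent.Lib.Helper7.LBALK2
import Cfsg.Agent.Lib.Helper8.LBALK3
import Cfsg.Agent.Lib.Helper1.LBALK5

/-!
# Farm LBAL, unit K6: `O(G) = 1` implies every 2-component of `N_G(R)` lies in `E(G)`.
-/

set_option autoImplicit false

namespace Cfsg.Agent.Lib.Helper1.LBAL

open Cfsg Cfsg.Agent.Lib.Helper8.CoreIn Cfsg.Agent.Lib.Helper8.PComp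

universe u

theorem K6_aux {G : Type u} [Group G] [Finite G] (hO : Cfsg.oddCore G = ⊥) :
    ∀ n : ℕ, ∀ R : Subgroup G, IsPGroup 2 ↥R → Nat.card G - Nat.card ↥R = n →
      ∀ J : Subgroup G, Cfsg.IsPComponentOf 2 J (Subgroup.normalizer (R : Set G)) →
        J ≤ Cfsg.layer G := by
  intro n
  induction n using Nat.strong_induction_on with
  | _ n ih =>
    intro R hR hn J hJ
    have hp2 : Fact (Nat.Prime 2) := ⟨Nat.prime_two⟩
    have hEn : (Cfsg.layer G).Normal := Cfsg.Agent.Lib.Helper2.layer_normal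
    set Y : Subgroup G := Subgroup.normalizer (R : Set G) with hY
    set N : Subgroup G := Cfsg.layer G ⊓ Y with hN
    have hNY : N ≤ Y := inf_le_right
    have hYN : Y ≤ Subgroup.normalizer (N : Set G) := by
      intro y hy
      rw [Subgroup.mem_normalizer_iff]
      intro x
      constructor
      · intro hx
        obtain ⟨hx1, hx2⟩ := Subgroup.mem_inf.mp hx
        exact Subgroup.mem_inf.mpr ⟨hEn.conj_mem x hx1 y, Y.mul_mem (Y.mul_mem hy hx2) (Y.inv_mem hy)⟩
      · intro hx
        obtain ⟨hx1, hx2⟩ := Subgroup.mem_inf.mp hx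
        refine Subgroup.mem_inf.mpr ⟨?_, ?_⟩
        · have := hEn.conj_mem _ hx1 y⁻¹
          simpa [mul_assoc] using this
        · have := Y.mul_mem (Y.mul_mem (Y.inv_mem hy) hx2) hy
          simpa [mul_assoc] using this
    obtain ⟨hJR, -, -, -, -⟩ := Cfsg.Agent.Lib.Helper7.LBAL.K1 hO hR hJ
    rcases Cfsg.Agent.Lib.Helper7.LBAL.K2 hJ hNY hYN with hJN | hNJ
    · exact hJN.trans inf_le_left
    · -- Sylow 2-subgroup of `N`
      obtain ⟨P⟩ : Nonempty (Sylow 2 ↥N) := inferInstance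
      set T : Subgroup G := (P : Subgroup ↥N).map N.subtype with hT
      have hTN : T ≤ N := Subgroup.map_subtype_le _
      have hT2 : IsPGroup 2 ↥T := P.2.map _
      have hTs : ¬ 2 ∣ T.relIndex N := by
        have h1 : T.subgroupOf N = (P : Subgroup ↥N) :=
          Subgroup.comap_map_eq_self_of_injective (Subgroup.subtype_injective N) _
        unfold Subgroup.relIndex
        rw [h1]
        exact P.not_dvd_index
      by_cases hTR : T ≤ R
      · exfalso
        obtain ⟨S', hS'E, hS'R, hS'2, hS's⟩ := K4 (E := Cfsg.layer G) hR hT2 hTN hTs hTR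
        exact K5 hO hR hJ hS'E hS'R hS'2 hS's
      · obtain ⟨J', hJ', hJJ'⟩ :=
          Cfsg.Agent.Lib.Helper8.LBAL.K3 hR hJ hJR hNY hYN hNJ hTN hT2
        have hR'2 : IsPGroup 2 ↥(R ⊔ T : Subgroup G) := by
          rw [sup_comm]
          exact IsPGroup.to_sup_of_normal_right' hT2 hR (hTN.trans hNY)
        have hlt : Nat.card ↥R < Nat.card ↥(R ⊔ T : Subgroup G) := by
          by_contra hle
          have := Subgroup.eq_of_le_of_card_ge (le_sup_left : R ≤ R ⊔ T) (not_lt.mp hle)
          apply hTR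
          rw [this]
          exact le_sup_right
        have hle : Nat.card ↥(R ⊔ T : Subgroup G) ≤ Nat.card G := Subgroup.card_le_card_group _
        have hJ'E : J' ≤ Cfsg.layer G :=
          ih (Nat.card G - Nat.card ↥(R ⊔ T : Subgroup G)) (by omega) (R ⊔ T) hR'2 rfl J' hJ'
        exact hJJ'.trans (sup_le hJ'E (inf_le_left.trans inf_le_left))

/-- K6: `O(G) = 1`: every 2-component of `N_G(R)`, `R` a 2-subgroup, lies in `E(G)`. -/
theorem K6 {G : Type u} [Group G] [Finite G] (hO : Cfsg.oddCore G = ⊥) {R : Subgroup G}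
    (hR : IsPGroup 2 ↥R) {J : Subgroup G}
    (hJ : Cfsg.IsPComponentOf 2 J (Subgroup.normalizer (R : Set G))) : J ≤ Cfsg.layer G :=
  K6_aux hO _ R hR rfl J hJ

end Cfsg.Agent.Lib.Helper1.LBAL
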