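import Mathlib
import Cfsg.Prelude.Def_Local
import Cfsg.Prelude.Def_ClassificationStages
import Cfsg.Agent.Lib.Helper1.LBALK6
import Cfsg.Agent.Lib.Helper7.LBALG1pre

/-!
# Farm LBAL, unit G1 (assembly: `Helper7.LBAL.G1_of_K6` applied to `K6`).
-/

set_option autoImplicit false

namespace Cfsg.Agent.Lib.Helper1.LBAL

universe u

/-- G1: `L_{2'}`-balance, normalizer form. -/
theorem G1 {X : Type u} [Group X] [Finite X] (R : Subgroup X) (hR : IsPGroup 2 ↥R) :
    (Cfsg.pLayer 2 ↥(Subgroup.normalizer (R : Set X))).map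
      (Subgroup.normalizer (R : Set X)).subtype ≤ Cfsg.pLayer 2 X :=
  Cfsg.Agent.Lib.Helper7.LBAL.G1_of_K6 (fun hO _ hR' _ hJ => K6 hO hR' hJ) R hR

end Cfsg.Agent.Lib.Helper1.LBAL
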