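import Mathlib
import Cfsg.Prelude.Def_FusionSystem

/-! Leary–Stancu realization of an arbitrary fusion system: core definitions (for S5286).
`GS F = FreeGroup (X F) ⋊ Perm S`, where `X F` is the disjoint union over all maps `i` of the system of the coset
spaces `Perm S ⧸ Lam i`; `GG F ≤ GS F` is generated by the left regular copy of `S` and the stable letters `tt F i`. -/

set_option autoImplicit false

namespace Cfsg.Agent.Lib.Helper1.LS

universe u

open Cfsg SemidirectProduct

variable {Ω : Type u} [Group Ω] {S : Subgroup Ω}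

/-- left regular representation of `S`. -/
def lam (S : Subgroup Ω) : ↥S →* Equiv.Perm ↥S := MulAction.toPermHom ↥S ↥S

@[simp] theorem lam_apply (s y : ↥S) : lam S s y = s * y := rfl

theorem lam_injective : Function.Injective (lam S) := by
  intro a b h
  have := congrArg (fun e : Equiv.Perm ↥S => e 1) h
  simpa using this

/-- the index type: all maps of the system. -/
def Idx (F : FusionSystem S) : Type u := Σ P : Subgroup Ω, {φ : P →* Ω // φ ∈ F.Hom P}

/-- `Lam F i = lam (P_i)` as a subgroup of `Perm S`. -/
def Lam (F : FusionSystem S) (i : Idx F) : Subgroup (Equiv.Perm ↥S) := ((i.1).subgroupOf S).map (lam S)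

/-- the free generators. -/
abbrev X (F : FusionSystem S) : Type u := Σ i : Idx F, (Equiv.Perm ↥S ⧸ Lam F i)

instance (F : FusionSystem S) : MulAction (Equiv.Perm ↥S) (X F) :=
  inferInstanceAs (MulAction (Equiv.Perm ↥S) (Σ i : Idx F, (Equiv.Perm ↥S ⧸ Lam F i)))

noncomputable instance (F : FusionSystem S) : DecidableEq (X F) := Classical.decEq _

theorem smul_X (F : FusionSystem S) (τ : Equiv.Perm ↥S) (i : Idx F) (c : Equiv.Perm ↥S ⧸ Lam F i) :
    τ • (⟨i, c⟩ : X F) = ⟨i, τ • c⟩ := rfl

/-- `Perm S` acts on the free group by permuting the generators. -/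
def psi (F : FusionSystem S) : Equiv.Perm ↥S →* MulAut (FreeGroup (X F)) where
  toFun τ := FreeGroup.freeGroupCongr (MulAction.toPerm τ)
  map_one' := by
    apply MulEquiv.toMonoidHom_injective
    ext x
    simp [FreeGroup.freeGroupCongr]
  map_mul' τ₁ τ₂ := by
    apply MulEquiv.toMonoidHom_injective
    ext x
    simp [FreeGroup.freeGroupCongr, mul_smul]

@[simp] theorem psi_of (F : FusionSystem S) (τ : Equiv.Perm ↥S) (x : X F) :
    psi F τ (FreeGroup.of x) = FreeGroup.of (τ • x) := by
  simp [psi, FreeGroup.freeGroupCongr]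

/-- the big group `FreeGroup (X F) ⋊ Perm S`. -/
abbrev GS (F : FusionSystem S) : Type u := FreeGroup (X F) ⋊[psi F] Equiv.Perm ↥S

open Classical in
/-- `sig F i` realizes the map `i` by conjugation inside `Perm S` (see `sig_spec`, piece P1). -/
noncomputable def sig (F : FusionSystem S) (i : Idx F) : Equiv.Perm ↥S :=
  if h : ∃ σ : Equiv.Perm ↥S, ∀ (x : i.1) (hx : (x : Ω) ∈ S) (hφ : i.2.1 x ∈ S),
      σ * lam S ⟨x, hx⟩ * σ⁻¹ = lam S ⟨i.2.1 x, hφ⟩ then h.choose else 1

/-- the free generator attached to the trivial coset. -/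
def x0 (F : FusionSystem S) (i : Idx F) : X F := ⟨i, QuotientGroup.mk 1⟩

/-- the stable letter `t_i = σ_i u_i`. -/
noncomputable def tt (F : FusionSystem S) (i : Idx F) : GS F :=
  (inr (sig F i) : GS F) * inl (FreeGroup.of (x0 F i))

/-- `t_i` or its inverse. -/
noncomputable def tpow (F : FusionSystem S) (i : Idx F) (b : Bool) : GS F :=
  if b then tt F i else (tt F i)⁻¹

/-- the copy of `S` in `GS F`. -/
def emb (F : FusionSystem S) : ↥S →* GS F := (inr : Equiv.Perm ↥S →* GS F).comp (lam S)

theorem emb_injective (F : FusionSystem S) : Function.Injective (emb F) :=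
  fun _ _ h => lam_injective (inr_injective h)

/-- the realizing group. -/
noncomputable def GG (F : FusionSystem S) : Subgroup (GS F) :=
  Subgroup.closure (Set.range (emb F) ∪ Set.range (tt F))

theorem emb_mem (F : FusionSystem S) (s : ↥S) : emb F s ∈ GG F :=
  Subgroup.subset_closure (Or.inl ⟨s, rfl⟩)

theorem tt_mem (F : FusionSystem S) (i : Idx F) : tt F i ∈ GG F :=
  Subgroup.subset_closure (Or.inr ⟨i, rfl⟩)

theorem tpow_mem (F : FusionSystem S) (i : Idx F) (b : Bool) : tpow F i b ∈ GG F := by
  unfold tpow; split
  · exact tt_mem F i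
  · exact (GG F).inv_mem (tt_mem F i)

/-- the embedding of `S` into the realizing group. -/
noncomputable def iota (F : FusionSystem S) : ↥S →* ↥(GG F) := (emb F).codRestrict (GG F) (emb_mem F)

theorem iota_injective (F : FusionSystem S) : Function.Injective (iota F) := by
  intro a b h
  exact emb_injective F (congrArg Subtype.val h)

@[simp] theorem coe_iota (F : FusionSystem S) (s : ↥S) : ((iota F s : ↥(GG F)) : GS F) = emb F s := rfl

/-- pinch-free expressions. -/
inductive NF (F : FusionSystem S) : GS F → Prop
  | base (s : ↥S) : NF F (emb F s)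
  | step (g : GS F) (i : Idx F) (b : Bool) (s : ↥S) : NF F g →
      FreeGroup.norm (g * tpow F i b).left = FreeGroup.norm g.left + 1 →
      NF F (g * tpow F i b * emb F s)

/-- the letter added by multiplying `g` on the right by `tpow F i b`. -/
noncomputable def letter (F : FusionSystem S) (ρ : Equiv.Perm ↥S) (i : Idx F) (b : Bool) : X F :=
  if b then ⟨i, QuotientGroup.mk (ρ * sig F i)⟩ else ⟨i, QuotientGroup.mk ρ⟩

/-- the action of `GS F` on the vertices `FreeGroup (X F)` of the tree. -/
def act (F : FusionSystem S) (g : GS F) (v : FreeGroup (X F)) : FreeGroup (X F) := g.left * psi F g.right v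

/-- the tree distance. -/
noncomputable def dist (F : FusionSystem S) (u v : FreeGroup (X F)) : ℕ := FreeGroup.norm (u⁻¹ * v)

/-! ### basic computations -/

theorem emb_left (F : FusionSystem S) (s : ↥S) : (emb F s).left = 1 := rfl

theorem emb_right (F : FusionSystem S) (s : ↥S) : (emb F s).right = lam S s := rfl

theorem mul_emb_left (F : FusionSystem S) (g : GS F) (s : ↥S) : (g * emb F s).left = g.left := by
  simp [emb]

theorem mul_emb_right (F : FusionSystem S) (g : GS F) (s : ↥S) : (g * emb F s).right = g.right * lam S s := by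
  simp [emb]

theorem tt_left (F : FusionSystem S) (i : Idx F) :
    (tt F i).left = FreeGroup.of (⟨i, QuotientGroup.mk (sig F i)⟩ : X F) := by
  simp [tt, x0]

theorem tt_right (F : FusionSystem S) (i : Idx F) : (tt F i).right = sig F i := by
  simp [tt]

theorem mul_tpow_true_left (F : FusionSystem S) (g : GS F) (i : Idx F) :
    (g * tpow F i true).left = g.left * FreeGroup.of (letter F g.right i true) := by
  simp only [tpow, if_true, mul_left, tt_left, psi_of, letter, smul_X]
  rfl

theorem mul_tpow_true_right (F : FusionSystem S) (g : GS F) (i : Idx F) :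
    (g * tpow F i true).right = g.right * sig F i := by
  simp [tpow, tt_right]

theorem mul_tpow_false_left (F : FusionSystem S) (g : GS F) (i : Idx F) :
    (g * tpow F i false).left = g.left * (FreeGroup.of (letter F g.right i false))⁻¹ := by
  have h1 : ((tt F i)⁻¹).left = (FreeGroup.of (⟨i, QuotientGroup.mk 1⟩ : X F))⁻¹ := by
    rw [inv_left, tt_left, tt_right]
    have h2 : psi F (sig F i)⁻¹ (FreeGroup.of (⟨i, QuotientGroup.mk (sig F i)⟩ : X F)) =
        FreeGroup.of (⟨i, QuotientGroup.mk 1⟩ : X F) := by
      rw [psi_of, smul_X]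
      congr 2
      show QuotientGroup.mk ((sig F i)⁻¹ * sig F i) = _
      rw [inv_mul_cancel]
    rw [map_inv, h2]
  have h3 : psi F g.right (FreeGroup.of (⟨i, QuotientGroup.mk 1⟩ : X F)) =
      FreeGroup.of (⟨i, QuotientGroup.mk g.right⟩ : X F) := by
    rw [psi_of, smul_X]
    congr 2
  simp only [tpow, Bool.false_eq_true, if_false, mul_left, h1, map_inv, h3, letter]

theorem mul_tpow_false_right (F : FusionSystem S) (g : GS F) (i : Idx F) :
    (g * tpow F i false).right = g.right * (sig F i)⁻¹ := by
  simp [tpow, tt_right]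

/-- a single letter of the free group. -/
def lt {α : Type*} (y : α) (b : Bool) : FreeGroup α := FreeGroup.mk [(y, b)]

theorem lt_true {α : Type*} (y : α) : lt y true = FreeGroup.of y := rfl

theorem lt_false {α : Type*} (y : α) : lt y false = (FreeGroup.of y)⁻¹ := rfl

theorem mul_tpow_left (F : FusionSystem S) (g : GS F) (i : Idx F) (b : Bool) :
    (g * tpow F i b).left = g.left * lt (letter F g.right i b) b := by
  cases b
  · rw [mul_tpow_false_left, lt_false]
  · rw [mul_tpow_true_left, lt_true]

theorem mul_tpow_right (F : FusionSystem S) (g : GS F) (i : Idx F) (b : Bool) :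
    (g * tpow F i b).right = g.right * (if b then sig F i else (sig F i)⁻¹) := by
  cases b
  · rw [mul_tpow_false_right]; simp
  · rw [mul_tpow_true_right]; simp

theorem act_one (F : FusionSystem S) (v : FreeGroup (X F)) : act F 1 v = v := by
  simp [act]

theorem act_mul (F : FusionSystem S) (g h : GS F) (v : FreeGroup (X F)) :
    act F (g * h) v = act F g (act F h v) := by
  simp [act, mul_assoc]

theorem act_apply_one (F : FusionSystem S) (g : GS F) : act F g 1 = g.left := by
  simp [act]

end Cfsg.Agent.Lib.Helper1.LS
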