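import Cfsg.Agent.Lib.Helper2.LS1
import Cfsg.Agent.Lib.Helper7.LS2

/-! S5286 piece P3: pinch-free normal forms in `GG F`. -/

set_option autoImplicit false

namespace Cfsg.Agent.Lib.Helper1.LS

universe u
open Cfsg SemidirectProduct

variable {Ω : Type u} [Group Ω] {S : Subgroup Ω}

theorem mem_of_nf (F : FusionSystem S) (g : GS F) (h : NF F g) : g ∈ GG F := by
  induction h with
  | base s => exact emb_mem F s
  | step g i b s _ _ ih => exact mul_mem (mul_mem ih (tpow_mem F i b)) (emb_mem F s)

/-- the word of a step. -/
theorem step_toWord (F : FusionSystem S) (g : GS F) (i : Idx F) (b : Bool) (s : ↥S)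
    (hn : FreeGroup.norm (g * tpow F i b).left = FreeGroup.norm g.left + 1) :
    (g * tpow F i b * emb F s).left.toWord = g.left.toWord ++ [(letter F g.right i b, b)] := by
  rw [mul_emb_left, mul_tpow_left]
  apply (norm_mul_lt_iff _ _ _).mp
  rw [← mul_tpow_left]
  exact hn

theorem nf_left_eq_one (F : FusionSystem S) (g : GS F) (h : NF F g) (h1 : g.left = 1) : ∃ s : ↥S, g = emb F s := by
  cases h with
  | base s => exact ⟨s, rfl⟩
  | step g i b s hg hn =>
    exfalso
    have := step_toWord F g i b s hn
    rw [h1] at this
    simp at this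

theorem nf_prefix (F : FusionSystem S) (g : GS F) (h : NF F g) (k : ℕ) :
    ∃ g' : GS F, NF F g' ∧ g'.left.toWord = g.left.toWord.take k := by
  induction h with
  | base s => exact ⟨emb F s, NF.base s, by simp [emb_left]⟩
  | step g i b s hg hn ih =>
    have hw := step_toWord F g i b s hn
    by_cases hk : k ≤ g.left.toWord.length
    · obtain ⟨g', hg', e⟩ := ih
      refine ⟨g', hg', ?_⟩
      rw [e, hw, List.take_append_of_le_length hk]
    · refine ⟨_, NF.step g i b s hg hn, ?_⟩
      rw [List.take_of_length_le]
      rw [hw]
      simp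
      omega

theorem nf_mul_emb (F : FusionSystem S) (g : GS F) (h : NF F g) (s : ↥S) : NF F (g * emb F s) := by
  cases h with
  | base s₀ => rw [← map_mul]; exact NF.base _
  | step g₀ i b s₀ hg hn => rw [mul_assoc, ← map_mul]; exact NF.step g₀ i b _ hg hn

theorem nf_mul_tpow (F : FusionSystem S) [Finite ↥S] (g : GS F) (h : NF F g) (i : Idx F) (b : Bool) :
    NF F (g * tpow F i b) := by
  rcases toWord_mul_lt g.left (letter F g.right i b) b with hgrow | hcancel
  · have : NF F (g * tpow F i b * emb F 1) := NF.step g i b 1 h (by
      rw [mul_tpow_left]; exact (norm_mul_lt_iff _ _ _).mpr hgrow)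
    simpa using this
  · cases h with
    | base s =>
      exfalso
      rw [emb_left] at hcancel
      simp at hcancel
    | step g₀ j b' s' hg₀ hn =>
      have hw := step_toWord F g₀ j b' s' hn
      rw [hw] at hcancel
      have hlast := List.append_inj_right' hcancel rfl
      simp only [List.cons.injEq, and_true, Prod.mk.injEq] at hlast
      obtain ⟨hlet, hb⟩ := hlast
      have hr : (g₀ * tpow F j b' * emb F s').right =
          g₀.right * (if b' then sig F j else (sig F j)⁻¹) * lam S s' := by
        rw [mul_emb_right, mul_tpow_right]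
      rw [hr] at hlet
      have hjS := F.le_of_mem j.2.2
      cases b with
      | true =>
        have hb' : b' = false := by simpa using hb
        subst hb'
        simp only [letter, Bool.false_eq_true, if_false, if_true] at hlet
        obtain ⟨rfl, hc⟩ := Sigma.mk.inj_iff.mp hlet
        have hc := eq_of_heq hc
        rw [QuotientGroup.eq] at hc
        have hmem : (sig F j)⁻¹ * lam S s' * sig F j ∈ Lam F j := by
          have e : g₀.right⁻¹ * (g₀.right * (sig F j)⁻¹ * lam S s' * sig F j) =
              (sig F j)⁻¹ * lam S s' * sig F j := by group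
          rwa [e] at hc
        obtain ⟨z, hz⟩ := (sig_conj_mem_Lam_iff F j s').mp hmem
        have hzS : (z : Ω) ∈ S := hjS.1 z.2
        have hconj := tt_conj F j z hzS (hjS.2 z)
        have hs' : (⟨j.2.1 z, hjS.2 z⟩ : ↥S) = s' := Subtype.ext hz
        rw [hs'] at hconj
        have : g₀ * tpow F j false * emb F s' * tpow F j true = g₀ * emb F ⟨z, hzS⟩ := by
          simp only [tpow, Bool.false_eq_true, if_false, if_true]
          rw [← hconj]
          group
        rw [this]
        exact nf_mul_emb F g₀ hg₀ _
      | false =>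
        have hb' : b' = true := by simpa using hb
        subst hb'
        simp only [letter, Bool.false_eq_true, if_false, if_true] at hlet
        obtain ⟨rfl, hc⟩ := Sigma.mk.inj_iff.mp hlet
        have hc := eq_of_heq hc
        rw [QuotientGroup.eq] at hc
        have hmem : lam S s' ∈ Lam F j := by
          have e : (g₀.right * sig F j)⁻¹ * (g₀.right * sig F j * lam S s') = lam S s' := by group
          rwa [e] at hc
        have hs'P : (s' : Ω) ∈ j.1 := (lam_mem_Lam_iff F j s').mp hmem
        have hconj := tt_conj F j ⟨s', hs'P⟩ s'.2 (hjS.2 ⟨s', hs'P⟩)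
        have : g₀ * tpow F j true * emb F s' * tpow F j false =
            g₀ * emb F ⟨j.2.1 ⟨s', hs'P⟩, hjS.2 ⟨s', hs'P⟩⟩ := by
          simp only [tpow, Bool.false_eq_true, if_false, if_true]
          rw [← hconj]
          group
        rw [this]
        exact nf_mul_emb F g₀ hg₀ _

theorem nf_of_mem (F : FusionSystem S) [Finite ↥S] (g : GS F) (h : g ∈ GG F) : NF F g := by
  unfold GG at h
  induction h using Subgroup.closure_induction_right with
  | one => simpa using NF.base (F := F) 1
  | mul_right x hx y hy ih =>
    rcases hy with ⟨s, rfl⟩ | ⟨i, rfl⟩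
    · exact nf_mul_emb F x ih s
    · exact nf_mul_tpow F x ih i true
  | mul_inv_cancel x hx y hy ih =>
    rcases hy with ⟨s, rfl⟩ | ⟨i, rfl⟩
    · rw [← map_inv]; exact nf_mul_emb F x ih s⁻¹
    · exact nf_mul_tpow F x ih i false

end Cfsg.Agent.Lib.Helper1.LS
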