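import Cfsg.Agent.Lib.Helper7.LS2
import Cfsg.Agent.Lib.Helper1.LS3

/-! S5286 piece P6: finite subgroups of `GG F` are conjugate into the copy of `S` (tree argument). -/

set_option autoImplicit false

namespace Cfsg.Agent.Lib.Helper1.LS

universe u
open Cfsg SemidirectProduct

variable {Ω : Type u} [Group Ω] {S : Subgroup Ω}

theorem act_left (F : FusionSystem S) (g h : GS F) : act F g h.left = (g * h).left := by
  rw [← act_apply_one F h, ← act_mul, act_apply_one]

theorem dist_one_left (F : FusionSystem S) (w : FreeGroup (X F)) : dist F 1 w = FreeGroup.norm w := by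
  simp [dist]

theorem dist_eq_zero (F : FusionSystem S) (u v : FreeGroup (X F)) : dist F u v = 0 ↔ u = v := by
  unfold dist
  rw [FreeGroup.norm_eq_zero, inv_mul_eq_one]

theorem act_mul_vertex (F : FusionSystem S) (g : GS F) (u v : FreeGroup (X F)) :
    act F g (u * v) = act F g u * psi F g.right v := by
  simp [act, mul_assoc]

theorem act_injective (F : FusionSystem S) (g : GS F) : Function.Injective (act F g) := by
  intro u v h
  have := congrArg (act F g⁻¹) h
  simpa [← act_mul, act_one] using this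

theorem midpoint (F : FusionSystem S) [Finite ↥S] (g₁ g₂ : GS F) (h₁ : g₁ ∈ GG F) (h₂ : g₂ ∈ GG F)
    (hd : 2 ≤ dist F g₁.left g₂.left) :
    ∃ g₃ ∈ GG F, ∀ o : FreeGroup (X F), dist F g₃.left o + 1 ≤ max (dist F g₁.left o) (dist F g₂.left o) := by
  obtain ⟨g, rfl⟩ : ∃ g, g₂ = g₁ * g := ⟨g₁⁻¹ * g₂, by rw [mul_inv_cancel_left]⟩
  have hgm : g ∈ GG F := by
    have := mul_mem (inv_mem h₁) h₂
    rwa [inv_mul_cancel_left] at this
  have hw : dist F 1 g.left = dist F g₁.left (g₁ * g).left := by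
    rw [← dist_act F g₁ 1 g.left, act_apply_one, act_left]
  have hn : 2 ≤ FreeGroup.norm g.left := by rw [← dist_one_left, hw]; exact hd
  obtain ⟨a, L, hL⟩ : ∃ a L, g.left.toWord = a :: L := by
    cases h : g.left.toWord with
    | nil => simp [FreeGroup.norm, h] at hn
    | cons a L => exact ⟨a, L, rfl⟩
  have hLne : L ≠ [] := by
    rintro rfl
    simp [FreeGroup.norm, hL] at hn
  obtain ⟨g', hg', hpre⟩ := nf_prefix F g (nf_of_mem F g hgm) 1
  have hg'l : g'.left = lt a.1 a.2 := by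
    apply FreeGroup.toWord_injective
    rw [hpre, hL]
    simp [lt, FreeGroup.toWord_mk]
  refine ⟨g₁ * g', mul_mem h₁ (mem_of_nf F g' hg'), fun o => ?_⟩
  obtain ⟨o', rfl⟩ : ∃ o', o = act F g₁ o' := ⟨act F g₁⁻¹ o, by rw [← act_mul, mul_inv_cancel, act_one]⟩
  have e1 : dist F (g₁ * g').left (act F g₁ o') = FreeGroup.norm ((lt a.1 a.2)⁻¹ * o') := by
    rw [← act_left, dist_act, hg'l]; rfl
  have e2 : dist F g₁.left (act F g₁ o') = FreeGroup.norm o' := by
    rw [← act_apply_one F g₁, dist_act, dist_one_left]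
  have e3 : dist F (g₁ * g).left (act F g₁ o') = FreeGroup.norm (g.left⁻¹ * o') := by
    rw [← act_left, dist_act]; rfl
  rw [e1, e2, e3]
  exact first_letter_closer g.left a L hL hLne o'

/-- an element of norm one is never inverted by a permutation of the generators. -/
theorem psi_ne_inv_of_norm_one (F : FusionSystem S) (τ : Equiv.Perm ↥S) (l : FreeGroup (X F))
    (hl : FreeGroup.norm l = 1) : psi F τ l ≠ l⁻¹ := by
  intro h
  have h1 : (psi F τ l).toWord = l.toWord.map (Prod.map (MulAction.toPerm τ) id) :=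
    toWord_congr (MulAction.toPerm τ) l
  rw [h, FreeGroup.toWord_inv] at h1
  obtain ⟨a, ha⟩ : ∃ a, l.toWord = [a] := by
    unfold FreeGroup.norm at hl
    exact List.length_eq_one_iff.mp hl
  rw [ha] at h1
  simp only [FreeGroup.invRev, List.map_cons, List.map_nil, List.reverse_cons, List.reverse_nil,
    List.nil_append, List.cons.injEq, and_true, Prod.map_apply, id_eq, Prod.mk.injEq] at h1
  have := congrArg Prod.snd h1
  simp at this

section fixed

variable (F : FusionSystem S) (H : Subgroup ↥(GG F)) [Fintype ↥H]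

/-- the radius function of the orbit of the base vertex under `H`. -/
noncomputable def rad (v : FreeGroup (X F)) : ℕ :=
  (Finset.univ : Finset ↥H).sup (fun h => dist F v ((h : ↥(GG F)) : GS F).left)

theorem le_rad (v : FreeGroup (X F)) (h : ↥H) : dist F v ((h : ↥(GG F)) : GS F).left ≤ rad F H v :=
  Finset.le_sup (f := fun h : ↥H => dist F v ((h : ↥(GG F)) : GS F).left) (Finset.mem_univ h)

theorem rad_act_le (v : FreeGroup (X F)) (k : ↥H) :
    rad F H (act F ((k : ↥(GG F)) : GS F) v) ≤ rad F H v := by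
  unfold rad
  apply Finset.sup_le
  intro h _
  have e : ((h : ↥(GG F)) : GS F).left = act F ((k : ↥(GG F)) : GS F) (((k⁻¹ * h : ↥H) : ↥(GG F)) : GS F).left := by
    rw [act_left]
    congr 1
    simp
  rw [e, dist_act]
  exact le_rad F H v (k⁻¹ * h)

theorem rad_act (v : FreeGroup (X F)) (k : ↥H) :
    rad F H (act F ((k : ↥(GG F)) : GS F) v) = rad F H v := by
  apply le_antisymm (rad_act_le F H v k)
  have := rad_act_le F H (act F ((k : ↥(GG F)) : GS F) v) k⁻¹
  rw [← act_mul] at this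
  simpa [act_one] using this

theorem exists_rad_eq (v : FreeGroup (X F)) : ∃ h : ↥H, rad F H v = dist F v ((h : ↥(GG F)) : GS F).left := by
  obtain ⟨h, _, hh⟩ := Finset.exists_mem_eq_sup (Finset.univ : Finset ↥H) ⟨1, Finset.mem_univ _⟩
    (fun h => dist F v ((h : ↥(GG F)) : GS F).left)
  exact ⟨h, hh⟩

end fixed

theorem exists_fixed (F : FusionSystem S) [Finite ↥S] (H : Subgroup ↥(GG F)) (hH : Finite ↥H) :
    ∃ g ∈ GG F, ∀ h ∈ H, act F (h : GS F) g.left = g.left := by
  classical
  haveI : Fintype ↥H := Fintype.ofFinite _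
  -- a minimizer of the radius
  have hex : ∃ n, ∃ g ∈ GG F, rad F H g.left = n := ⟨_, 1, one_mem _, rfl⟩
  obtain ⟨g₀, hg₀, hr₀⟩ := Nat.find_spec hex
  have hmin : ∀ g ∈ GG F, Nat.find hex ≤ rad F H g.left := fun g hg => Nat.find_min' hex ⟨g, hg, rfl⟩
  -- two minimizers are at distance at most one
  have hclose : ∀ g₁ ∈ GG F, ∀ g₂ ∈ GG F, rad F H g₁.left = Nat.find hex → rad F H g₂.left = Nat.find hex →
      dist F g₁.left g₂.left ≤ 1 := by
    intro g₁ h₁ g₂ h₂ e₁ e₂
    by_contra hcon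
    push Not at hcon
    obtain ⟨g₃, h₃, hg₃⟩ := midpoint F g₁ g₂ h₁ h₂ hcon
    obtain ⟨h, hh⟩ := exists_rad_eq F H g₃.left
    have h4 := hg₃ ((h : ↥(GG F)) : GS F).left
    have h5 := le_rad F H g₁.left h
    have h6 := le_rad F H g₂.left h
    have h7 := hmin g₃ h₃
    rw [e₁] at h5
    rw [e₂] at h6
    have : max (dist F g₁.left ((h : ↥(GG F)) : GS F).left) (dist F g₂.left ((h : ↥(GG F)) : GS F).left)
        ≤ Nat.find hex := max_le h5 h6
    omega
  set u := g₀.left with hu
  -- orbit points are minimizers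
  have horb : ∀ k : ↥H, ∃ g ∈ GG F, g.left = act F ((k : ↥(GG F)) : GS F) u ∧ rad F H g.left = Nat.find hex := by
    intro k
    refine ⟨((k : ↥(GG F)) : GS F) * g₀, mul_mem (k : ↥(GG F)).2 hg₀, (act_left F _ _).symm, ?_⟩
    rw [← act_left, rad_act, hr₀]
  have hd1 : ∀ k k' : ↥H, dist F (act F ((k : ↥(GG F)) : GS F) u) (act F ((k' : ↥(GG F)) : GS F) u) ≤ 1 := by
    intro k k'
    obtain ⟨g, hg, e, hr⟩ := horb k
    obtain ⟨g', hg', e', hr'⟩ := horb k'
    rw [← e, ← e']
    exact hclose g hg g' hg' hr hr'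
  refine ⟨g₀, hg₀, ?_⟩
  by_contra hne
  push Not at hne
  obtain ⟨k₀, hk₀, hmove⟩ := hne
  set κ : GS F := ((k₀ : ↥(GG F)) : GS F) with hκ
  set w := act F κ u with hw
  have hk1 : dist F u w ≤ 1 := by
    have := hd1 1 ⟨k₀, hk₀⟩
    simpa [act_one] using this
  have hk2 : dist F u w = 1 := by
    have : dist F u w ≠ 0 := by
      rw [Ne, dist_eq_zero]
      exact fun h => hmove h.symm
    omega
  have hk3 : dist F w (act F κ w) = 1 := by
    rw [hw, dist_act, ← hw]; exact hk2
  have hk4 : dist F u (act F κ w) ≤ 1 := by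
    have := hd1 1 (⟨k₀, hk₀⟩ * ⟨k₀, hk₀⟩)
    simpa [act_one, act_mul] using this
  -- parity
  have hpar : dist F u (act F κ w) % 2 = 0 := by
    have := norm_mul_parity (u⁻¹ * w) (w⁻¹ * act F κ w)
    have e : u⁻¹ * w * (w⁻¹ * act F κ w) = u⁻¹ * act F κ w := by group
    rw [e] at this
    unfold dist at hk2 hk3 ⊢
    rw [this, hk2, hk3]
  have hk5 : act F κ w = u := by
    have : dist F u (act F κ w) = 0 := by omega
    exact ((dist_eq_zero F _ _).mp this).symm
  -- inversion is impossible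
  set l := u⁻¹ * w with hl
  have hl1 : FreeGroup.norm l = 1 := hk2
  have hwl : w = u * l := by rw [hl, mul_inv_cancel_left]
  have : act F κ w = u * l * psi F κ.right l := by
    rw [hwl, act_mul_vertex, ← hw, hwl]
  rw [hk5] at this
  have h9 : psi F κ.right l = l⁻¹ := by
    have h10 : l * psi F κ.right l = 1 := by
      have := congrArg (fun z => u⁻¹ * z) this
      simpa [mul_assoc] using this.symm
    exact eq_inv_of_mul_eq_one_right h10
  exact psi_ne_inv_of_norm_one F κ.right l hl1 h9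

theorem finite_conj (F : FusionSystem S) [Finite ↥S] (H : Subgroup ↥(GG F)) (hH : Finite ↥H) :
    ∃ g : ↥(GG F), ∀ h ∈ H, g * h * g⁻¹ ∈ (iota F).range := by
  obtain ⟨g, hg, hfix⟩ := exists_fixed F H hH
  refine ⟨⟨g, hg⟩⁻¹, fun h hh => ?_⟩
  have hk : (g⁻¹ * (h : GS F) * g) ∈ GG F := mul_mem (mul_mem (inv_mem hg) h.2) hg
  have hl : (g⁻¹ * (h : GS F) * g).left = 1 := by
    rw [← act_apply_one, act_mul, act_mul, act_apply_one, hfix h hh, ← act_apply_one F g, ← act_mul,
      inv_mul_cancel, act_one]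
  obtain ⟨s, hs⟩ := nf_left_eq_one F _ (nf_of_mem F _ hk) hl
  refine ⟨s, ?_⟩
  apply Subtype.ext
  rw [coe_iota, ← hs]
  simp

end Cfsg.Agent.Lib.Helper1.LS
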