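import Mathlib
import Cfsg.Agent.Lib.Helper2.LevDefs

/-! S2522 piece P3: determinant and dimension of the Schur complement (helper1). -/

set_option autoImplicit false
set_option linter.unusedVariables false
set_option linter.unusedSectionVars false
set_option linter.style.longLine false

namespace Cfsg.Agent.Lib.Helper2.Lev

open Module

universe u v

variable {K : Type v} [Field K] {V : Type u} [AddCommGroup V] [Module K V]

namespace StepData

variable {g : Module.End K V} (sd : StepData g)

theorem h1d_phi_coe (y : sd.H) : sd.φ (y : V) = 0 := LinearMap.mem_ker.1 y.2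

theorem h1d_phi_De : sd.φ ((g - 1) sd.e) = 0 := by
  simp [sd.hφe, sd.hφge]

/-- the splitting `H × K ≃ V` -/
def h1Split : (sd.H × K) ≃ₗ[K] V :=
  LinearEquiv.ofLinearMap
    (LinearMap.coprod sd.H.subtype (LinearMap.toSpanSingleton K V sd.e))
    (LinearMap.prod sd.proj sd.φ)
    (by
      ext v
      simp)
    (by
      apply LinearMap.ext
      rintro ⟨h, t⟩
      apply Prod.ext
      · apply Subtype.ext
        simp [sd.h1d_phi_coe, sd.hφe]
      · simp [sd.h1d_phi_coe, sd.hφe])

theorem h1Split_apply (h : sd.H) (t : K) : sd.h1Split (h, t) = (h : V) + t • sd.e := by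
  simp [h1Split]

theorem h1Split_symm_apply (v : V) : sd.h1Split.symm v = (sd.proj v, sd.φ v) := by
  simp [h1Split]

/-- the middle factor -/
def h1Gt : Module.End K V :=
  (sd.h1Split : (sd.H × K) →ₗ[K] V) ∘ₗ (LinearMap.prodMap sd.gP (LinearMap.id : K →ₗ[K] K)) ∘ₗ
    (sd.h1Split.symm : V →ₗ[K] (sd.H × K))

theorem h1Gt_apply (v : V) : sd.h1Gt v = ((sd.gP (sd.proj v) : sd.H) : V) + sd.φ v • sd.e := by
  simp [h1Gt, h1Split_symm_apply, h1Split_apply]

theorem h1Gt_det [FiniteDimensional K V] : LinearMap.det sd.h1Gt = LinearMap.det sd.gP := by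
  rw [h1Gt, LinearMap.det_conj, LinearMap.det_prodMap]
  simp

theorem h1_factor :
    g = LinearMap.transvection sd.φ ((g - 1) sd.e) * sd.h1Gt *
      LinearMap.transvection (sd.φ ∘ₗ (g - 1)) sd.e := by
  ext v
  simp only [Module.End.mul_apply, LinearMap.transvection.apply, h1Gt_apply]
  set w : V := v + (sd.φ ∘ₗ (g - 1)) v • sd.e with hw
  have hφw : sd.φ w = sd.φ (g v) := by
    simp [hw, sd.hφe]
  have hpw : ((sd.proj w : sd.H) : V) = v - sd.φ v • sd.e := by
    rw [proj_coe, hφw, hw]
    simp only [LinearMap.comp_apply, LinearMap.sub_apply, Module.End.one_apply, map_sub, sub_smul]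
    abel
  have hgp : ((sd.gP (sd.proj w) : sd.H) : V) = g v - sd.φ (g v) • g sd.e := by
    rw [gP_coe, hpw]
    simp only [map_sub, map_smul, sd.hφge, smul_eq_mul, mul_one, sub_smul]
    abel
  rw [hgp, hφw]
  have hφ2 : sd.φ (g v - sd.φ (g v) • g sd.e + sd.φ (g v) • sd.e) = sd.φ (g v) := by
    simp [sd.hφe, sd.hφge]
  rw [hφ2]
  simp only [LinearMap.sub_apply, Module.End.one_apply, smul_sub]
  abel

theorem det_gP [FiniteDimensional K V] {g : Module.End K V} (sd : StepData g) :
    LinearMap.det sd.gP = LinearMap.det g := by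
  conv_rhs => rw [sd.h1_factor]
  rw [map_mul, map_mul, LinearMap.transvection.det, LinearMap.transvection.det, sd.h1Gt_det]
  have h1 : sd.φ ((g - 1) sd.e) = 0 := sd.h1d_phi_De
  have h2 : (sd.φ ∘ₗ (g - 1)) sd.e = 0 := sd.h1d_phi_De
  rw [h1, h2]
  simp

theorem finrank_H [FiniteDimensional K V] {g : Module.End K V} (sd : StepData g) :
    Module.finrank K sd.H + 1 = Module.finrank K V := by
  apply Module.Dual.finrank_ker_add_one_of_ne_zero
  intro h0
  have := sd.hφe
  rw [h0] at this
  simp at this

end StepData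

end Cfsg.Agent.Lib.Helper2.Lev
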