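import Mathlib
import Cfsg.Agent.Lib.Helper2.LevDefs

/-! S2522 piece P2: a factorization of the Schur complement lifts (helper1). -/

set_option autoImplicit false
set_option linter.unusedVariables false
set_option linter.unusedSectionVars false
set_option linter.style.longLine false

namespace Cfsg.Agent.Lib.Helper2.Lev

open Module

universe u v

variable {K : Type v} [Field K] {V : Type u} [AddCommGroup V] [Module K V]

namespace StepData

variable {g : Module.End K V} (sd : StepData g)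

/-- the lifted left factor -/
def h1LiftL (L' : Module.End K sd.H) : Module.End K V :=
  LinearMap.smulRight sd.φ (g sd.e) + sd.H.subtype ∘ₗ L' ∘ₗ sd.proj

/-- the lifted right factor -/
def h1LiftU (U' : Module.End K sd.H) : Module.End K V :=
  LinearMap.smulRight (sd.φ ∘ₗ g) sd.e + sd.H.subtype ∘ₗ U' ∘ₗ sd.proj

theorem h1LiftL_apply (L' : Module.End K sd.H) (v : V) :
    sd.h1LiftL L' v = sd.φ v • g sd.e + (L' (sd.proj v) : V) := by
  simp [h1LiftL]

theorem h1LiftU_apply (U' : Module.End K sd.H) (v : V) :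
    sd.h1LiftU U' v = sd.φ (g v) • sd.e + (U' (sd.proj v) : V) := by
  simp [h1LiftU]

theorem h1_phi_coe (y : sd.H) : sd.φ (y : V) = 0 := LinearMap.mem_ker.1 y.2

theorem h1_proj_coe_H (y : sd.H) : sd.proj (y : V) = y := by
  apply Subtype.ext
  simp [sd.h1_phi_coe]

theorem h1_proj_e : sd.proj sd.e = 0 := by
  apply Subtype.ext
  simp [sd.hφe]

theorem h1LiftL_sub_one_apply (L' : Module.End K sd.H) (v : V) :
    (sd.h1LiftL L' - 1) v = sd.φ v • (sd.b1 : V) + (((L' - 1) (sd.proj v) : sd.H) : V) := by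
  simp only [LinearMap.sub_apply, h1LiftL_apply, Module.End.one_apply, b1_coe, smul_sub,
    Submodule.coe_sub, proj_coe]
  abel

theorem h1LiftU_sub_one_apply (U' : Module.End K sd.H) (v : V) :
    (sd.h1LiftU U' - 1) v = (sd.φ (g v) - sd.φ v) • sd.e + (((U' - 1) (sd.proj v) : sd.H) : V) := by
  simp only [LinearMap.sub_apply, h1LiftU_apply, Module.End.one_apply, sub_smul,
    Submodule.coe_sub, proj_coe]
  abel

theorem h1LiftL_sub_one_coe (L' : Module.End K sd.H) (h : sd.H) :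
    (sd.h1LiftL L' - 1) (h : V) = (((L' - 1) h : sd.H) : V) := by
  rw [h1LiftL_sub_one_apply, sd.h1_phi_coe, zero_smul, zero_add, h1_proj_coe_H]

theorem h1LiftL_sub_one_pow_coe (L' : Module.End K sd.H) (k : ℕ) (h : sd.H) :
    ((sd.h1LiftL L' - 1) ^ k) (h : V) = ((((L' - 1) ^ k) h : sd.H) : V) := by
  induction k generalizing h with
  | zero => simp
  | succ k ih =>
    rw [pow_succ, Module.End.mul_apply, h1LiftL_sub_one_coe, ih, pow_succ, Module.End.mul_apply]

/-- `(L - 1) v` as an element of `H` -/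
def h1M (L' : Module.End K sd.H) (v : V) : sd.H := sd.φ v • sd.b1 + (L' - 1) (sd.proj v)

theorem h1M_coe (L' : Module.End K sd.H) (v : V) :
    (sd.h1LiftL L' - 1) v = ((sd.h1M L' v : sd.H) : V) := by
  rw [h1LiftL_sub_one_apply]; simp [h1M]

theorem h1LiftL_nilpotent (L' : Module.End K sd.H) (hL' : IsNilpotent (L' - 1)) :
    IsNilpotent (sd.h1LiftL L' - 1) := by
  obtain ⟨m, hm⟩ := hL'
  refine ⟨m + 1, ?_⟩
  ext v
  rw [pow_succ, Module.End.mul_apply, h1M_coe, h1LiftL_sub_one_pow_coe, hm]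
  simp

theorem h1LiftL_ker (L' : Module.End K sd.H) (hb1 : sd.b1 ∉ LinearMap.range (L' - 1)) :
    LinearMap.ker (sd.h1LiftL L' - 1) = (LinearMap.ker (L' - 1)).map sd.H.subtype := by
  ext v
  constructor
  · intro hv
    rw [LinearMap.mem_ker, h1M_coe] at hv
    have hv' : sd.h1M L' v = 0 := by
      apply Subtype.ext; simpa using hv
    have hφ : sd.φ v = 0 := by
      by_contra hne
      apply hb1
      refine ⟨-((sd.φ v)⁻¹ • sd.proj v), ?_⟩
      have : sd.φ v • sd.b1 = -((L' - 1) (sd.proj v)) := by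
        rw [h1M] at hv'
        exact eq_neg_of_add_eq_zero_left hv'
      show (L' - 1) (-((sd.φ v)⁻¹ • sd.proj v)) = sd.b1
      rw [map_neg, map_smul, ← smul_neg, ← this, smul_smul, inv_mul_cancel₀ hne, one_smul]
    rw [h1M, hφ, zero_smul, zero_add] at hv'
    have hpv : (sd.proj v : V) = v := by simp [hφ]
    exact ⟨sd.proj v, LinearMap.mem_ker.2 hv', hpv⟩
  · rintro ⟨h, hh, rfl⟩
    rw [LinearMap.mem_ker]
    show (sd.h1LiftL L' - 1) (h : V) = 0
    rw [h1LiftL_sub_one_coe, LinearMap.mem_ker.1 hh]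
    simp

theorem h1LiftL_regUnip (L' : Module.End K sd.H) (hL' : RegUnip L')
    (hb1 : sd.b1 ∉ LinearMap.range (L' - 1)) : RegUnip (sd.h1LiftL L') := by
  refine ⟨sd.h1LiftL_nilpotent L' hL'.1, ?_⟩
  rw [sd.h1LiftL_ker L' hb1, ← hL'.2]
  exact (LinearEquiv.finrank_eq (Submodule.equivMapOfInjective sd.H.subtype
    sd.H.injective_subtype (LinearMap.ker (L' - 1)))).symm

theorem h1LiftL_not_mem_range (L' : Module.End K sd.H) (b : V) (hb : sd.φ b ≠ 0) :
    b ∉ LinearMap.range (sd.h1LiftL L' - 1) := by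
  rintro ⟨v, rfl⟩
  apply hb
  rw [h1M_coe, sd.h1_phi_coe]

theorem h1LiftU_sub_one_e (U' : Module.End K sd.H) : (sd.h1LiftU U' - 1) sd.e = 0 := by
  rw [h1LiftU_sub_one_apply, sd.hφe, sd.hφge, sub_self, zero_smul, zero_add, h1_proj_e, map_zero]
  rfl

theorem h1LiftU_sub_one_pow_coe (U' : Module.End K sd.H) (k : ℕ) (h : sd.H) :
    ∃ t : K, ((sd.h1LiftU U' - 1) ^ k) (h : V) = t • sd.e + ((((U' - 1) ^ k) h : sd.H) : V) := by
  induction k with
  | zero => exact ⟨0, by simp⟩
  | succ k ih =>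
    obtain ⟨t, ht⟩ := ih
    rw [pow_succ', Module.End.mul_apply, ht, map_add, map_smul, h1LiftU_sub_one_e, smul_zero, zero_add,
      h1LiftU_sub_one_apply, h1_proj_coe_H, pow_succ', Module.End.mul_apply]
    exact ⟨_, rfl⟩

theorem h1LiftU_nilpotent (U' : Module.End K sd.H) (hU' : IsNilpotent (U' - 1)) :
    IsNilpotent (sd.h1LiftU U' - 1) := by
  obtain ⟨m, hm⟩ := hU'
  refine ⟨m + 1, ?_⟩
  ext v
  have hv : v = sd.φ v • sd.e + (sd.proj v : V) := by simp
  have he : ((sd.h1LiftU U' - 1) ^ (m + 1)) sd.e = 0 := by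
    rw [pow_succ, Module.End.mul_apply, h1LiftU_sub_one_e, map_zero]
  have hh : ((sd.h1LiftU U' - 1) ^ (m + 1)) (sd.proj v : V) = 0 := by
    obtain ⟨t, ht⟩ := sd.h1LiftU_sub_one_pow_coe U' m (sd.proj v)
    rw [pow_succ', Module.End.mul_apply, ht, hm, map_add, map_smul, h1LiftU_sub_one_e]
    simp
  rw [hv, map_add, map_smul, he, hh]
  simp

theorem h1LiftU_ker (U' : Module.End K sd.H) (hU' : Module.finrank K (LinearMap.ker (U' - 1)) = 1)
    (hc1 : ∃ u ∈ LinearMap.ker (U' - 1), sd.c1 u ≠ 0) :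
    LinearMap.ker (sd.h1LiftU U' - 1) = Submodule.span K {sd.e} := by
  obtain ⟨u0, hu0, hcu0⟩ := hc1
  apply le_antisymm
  · intro v hv
    rw [LinearMap.mem_ker, h1LiftU_sub_one_apply] at hv
    have h1 : sd.φ (g v) - sd.φ v = 0 := by
      have := congrArg sd.φ hv
      rw [map_add, map_smul, sd.hφe, sd.h1_phi_coe, map_zero] at this
      simpa using this
    rw [h1, zero_smul, zero_add] at hv
    have h2 : (U' - 1) (sd.proj v) = 0 := by
      apply Subtype.ext; simpa using hv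
    have hu0ne : (⟨u0, hu0⟩ : LinearMap.ker (U' - 1)) ≠ 0 := by
      intro h0
      apply hcu0
      have : u0 = 0 := by simpa using congrArg Subtype.val h0
      rw [this, map_zero]
    obtain ⟨t, ht⟩ := (finrank_eq_one_iff_of_nonzero' _ hu0ne).1 hU' ⟨sd.proj v, LinearMap.mem_ker.2 h2⟩
    have ht' : t • u0 = sd.proj v := by simpa using congrArg Subtype.val ht
    have ht'' : t • (u0 : V) = v - sd.φ v • sd.e := by
      have := congrArg Subtype.val ht'
      simpa using this
    have hv' : v = sd.φ v • sd.e + t • (u0 : V) := by rw [ht'']; abel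
    have h3 : t * sd.c1 u0 = 0 := by
      rw [c1_apply, mul_sub]
      have e1 : sd.φ (g v) = sd.φ v + t * sd.φ (g (u0 : V)) := by
        conv_lhs => rw [hv']
        simp [sd.hφge]
      have e2 : sd.φ ((u0 : sd.H) : V) = 0 := sd.h1_phi_coe u0
      rw [e2, mul_zero, sub_zero]
      rw [e1] at h1
      simpa using h1
    have ht0 : t = 0 := by
      rcases mul_eq_zero.1 h3 with h | h
      · exact h
      · exact absurd h hcu0
    rw [hv', ht0, zero_smul, add_zero]
    exact Submodule.smul_mem _ _ (Submodule.mem_span_singleton_self _)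
  · rw [Submodule.span_singleton_le_iff_mem, LinearMap.mem_ker]
    exact sd.h1LiftU_sub_one_e U'

theorem h1LiftU_regUnip (U' : Module.End K sd.H) (hU' : RegUnip U')
    (hc1 : ∃ u ∈ LinearMap.ker (U' - 1), sd.c1 u ≠ 0) : RegUnip (sd.h1LiftU U') := by
  refine ⟨sd.h1LiftU_nilpotent U' hU'.1, ?_⟩
  rw [sd.h1LiftU_ker U' hU'.2 hc1]
  apply finrank_span_singleton
  intro h0
  have := sd.hφe
  rw [h0, map_zero] at this
  exact zero_ne_one this

theorem h1Lift_mul (L' U' : Module.End K sd.H) (hLU : L' * U' = sd.gP) :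
    sd.h1LiftL L' * sd.h1LiftU U' = g := by
  ext v
  rw [Module.End.mul_apply, h1LiftL_apply]
  have h1 : sd.φ (sd.h1LiftU U' v) = sd.φ (g v) := by
    rw [h1LiftU_apply, map_add, map_smul, sd.hφe, sd.h1_phi_coe]; simp
  have h2 : sd.proj (sd.h1LiftU U' v) = U' (sd.proj v) := by
    apply Subtype.ext
    rw [proj_coe, h1, h1LiftU_apply]; abel
  rw [h1, h2, ← Module.End.mul_apply, hLU, gP_coe, proj_coe]
  simp only [map_sub, map_smul, sd.hφge, smul_eq_mul, mul_one, sub_smul]
  abel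

theorem step {g : Module.End K V} (sd : StepData g) (L' U' : Module.End K sd.H)
    (hL' : RegUnip L') (hU' : RegUnip U') (hLU : L' * U' = sd.gP)
    (hb1 : sd.b1 ∉ LinearMap.range (L' - 1)) (hc1 : ∃ u ∈ LinearMap.ker (U' - 1), sd.c1 u ≠ 0)
    (b : V) (hb : sd.φ b ≠ 0) (c : Module.Dual K V) (hc : c sd.e ≠ 0) : QQ g b c := by
  refine ⟨sd.h1LiftL L', sd.h1LiftU U', sd.h1LiftL_regUnip L' hL' hb1, sd.h1LiftU_regUnip U' hU' hc1,
    sd.h1Lift_mul L' U' hLU, sd.h1LiftL_not_mem_range L' b hb, sd.e, ?_, hc⟩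
  rw [LinearMap.mem_ker]
  exact sd.h1LiftU_sub_one_e U'

end StepData

end Cfsg.Agent.Lib.Helper2.Lev
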