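import Mathlib
import Cfsg.Prelude
import Cfsg.Agent.Lib.Helper1.Lw3

set_option autoImplicit false
set_option maxHeartbeats 4000000
set_option linter.unusedVariables false
set_option linter.unusedSectionVars false
set_option linter.style.longLine false
set_option linter.unusedSimpArgs false

/-! The Levi subgroups `GL_m` of the symplectic and orthogonal groups, and order bounds. -/

namespace Cfsg.Agent.Lib.Helper1.Lw

open Matrix Cfsg

section families

variable {F : Type*} [Field F] {m : ℕ} {w : FreeGroup ℕ}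

/-- `GL_m → Sp_2m` -/
def leviSp (m : ℕ) (F : Type*) [Field F] :
    Matrix.GeneralLinearGroup (Fin m) F →* ↥(Matrix.symplecticGroup (Fin m) F) :=
  MonoidHom.codRestrict ((Units.coeHom _).comp (dgHom (Fin m) F)) (Matrix.symplecticGroup (Fin m) F)
    (by
      intro g
      show (dgHom (Fin m) F g).1 ∈ Matrix.symplecticGroup (Fin m) F
      rw [dgHom_val, SymplecticGroup.fromBlocks_mem_iff]
      refine ⟨by simp, by simp, ?_⟩
      rw [Matrix.transpose_zero, Matrix.zero_mul, sub_zero, ← Matrix.transpose_mul,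
        ← Units.val_mul, inv_mul_cancel]
      simp)

theorem leviSp_injective : Function.Injective (leviSp m F) := by
  intro g h hgh
  apply dgHom_injective (κ := Fin m) (F := F)
  apply Units.ext
  exact congrArg Subtype.val hgh

theorem lawPQ_gl_of_sp (h : LawPQ w ↥(Matrix.symplecticGroup (Fin m) F)) :
    LawPQ w (Matrix.GeneralLinearGroup (Fin m) F) :=
  h.of_injective (leviSp m F) leviSp_injective

/-- `GL_m → O⁺_2m` -/
def leviPlus (m : ℕ) (F : Type*) [Field F] :
    Matrix.GeneralLinearGroup (Fin m) F →* ↥(isometryGroup F (quadFormPlus m F)) :=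
  MonoidHom.codRestrict (dgHom (Fin m) F) (isometryGroup F (quadFormPlus m F))
    (by
      intro g u v
      show quadFormPlus m F ((dgHom (Fin m) F g).1 *ᵥ u) = quadFormPlus m F u
      unfold quadFormPlus
      exact dgHom_pairing g u)

theorem leviPlus_injective : Function.Injective (leviPlus m F) := by
  intro g h hgh
  apply dgHom_injective (κ := Fin m) (F := F)
  exact congrArg Subtype.val hgh

theorem lawPQ_gl_of_plus (h : LawPQ w ↥(isometryGroup F (quadFormPlus m F))) :
    LawPQ w (Matrix.GeneralLinearGroup (Fin m) F) :=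
  h.of_injective (leviPlus m F) leviPlus_injective

/-- `GL_m → O_(2m+1)` -/
def leviOdd (m : ℕ) (F : Type*) [Field F] :
    Matrix.GeneralLinearGroup (Fin m) F →* ↥(isometryGroup F (quadFormOdd m F)) :=
  MonoidHom.codRestrict
    ((extGLJ (Sum.inr : Fin m ⊕ Fin m → Unit ⊕ (Fin m ⊕ Fin m)) Sum.inr_injective).comp
      (dgHom (Fin m) F))
    (isometryGroup F (quadFormOdd m F))
    (by
      intro g u v
      show quadFormOdd m F (extJ Sum.inr (dgHom (Fin m) F g).1 *ᵥ u) = quadFormOdd m F u
      unfold quadFormOdd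
      have h1 := extJ_mulVec_comp (Sum.inr : Fin m ⊕ Fin m → Unit ⊕ (Fin m ⊕ Fin m))
        Sum.inr_injective (dgHom (Fin m) F g).1 u
      have h2 : ∀ x, (extJ Sum.inr (dgHom (Fin m) F g).1 *ᵥ u) (Sum.inr x) =
          ((dgHom (Fin m) F g).1 *ᵥ (u ∘ Sum.inr)) x := fun x => congrFun h1 x
      have h3 : (extJ (Sum.inr : Fin m ⊕ Fin m → Unit ⊕ (Fin m ⊕ Fin m))
          (dgHom (Fin m) F g).1 *ᵥ u) (Sum.inl ()) = u (Sum.inl ()) :=
        extJ_mulVec_of_notMem _ _ _ _ (fun a => by simp)
      rw [h3]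
      simp only [h2]
      congr 1
      exact dgHom_pairing g (u ∘ Sum.inr))

theorem leviOdd_injective : Function.Injective (leviOdd m F) := by
  intro g h hgh
  apply dgHom_injective (κ := Fin m) (F := F)
  apply extGLJ_injective (F := F) (Sum.inr : Fin m ⊕ Fin m → Unit ⊕ (Fin m ⊕ Fin m))
    Sum.inr_injective
  exact congrArg Subtype.val hgh

theorem lawPQ_gl_of_odd (h : LawPQ w ↥(isometryGroup F (quadFormOdd m F))) :
    LawPQ w (Matrix.GeneralLinearGroup (Fin m) F) :=
  h.of_injective (leviOdd m F) leviOdd_injective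

/-- `GL_m → O⁻_(2m+2)` -/
def leviMinus (m : ℕ) (F : Type*) [Field F] (a b : F) :
    Matrix.GeneralLinearGroup (Fin m) F →* ↥(isometryGroup F (quadFormMinus m F a b)) :=
  MonoidHom.codRestrict
    ((extGLJ (Sum.inl : Fin m ⊕ Fin m → (Fin m ⊕ Fin m) ⊕ Fin 2) Sum.inl_injective).comp
      (dgHom (Fin m) F))
    (isometryGroup F (quadFormMinus m F a b))
    (by
      intro g u v
      show quadFormMinus m F a b (extJ Sum.inl (dgHom (Fin m) F g).1 *ᵥ u) =
        quadFormMinus m F a b u
      unfold quadFormMinus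
      have h1 := extJ_mulVec_comp (Sum.inl : Fin m ⊕ Fin m → (Fin m ⊕ Fin m) ⊕ Fin 2)
        Sum.inl_injective (dgHom (Fin m) F g).1 u
      have h2 : ∀ x, (extJ Sum.inl (dgHom (Fin m) F g).1 *ᵥ u) (Sum.inl x) =
          ((dgHom (Fin m) F g).1 *ᵥ (u ∘ Sum.inl)) x := fun x => congrFun h1 x
      have h3 : ∀ k : Fin 2, (extJ (Sum.inl : Fin m ⊕ Fin m → (Fin m ⊕ Fin m) ⊕ Fin 2)
          (dgHom (Fin m) F g).1 *ᵥ u) (Sum.inr k) = u (Sum.inr k) :=
        fun k => extJ_mulVec_of_notMem _ _ _ _ (fun a => by simp)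
      rw [h3, h3]
      simp only [h2]
      congr 1
      exact dgHom_pairing g (u ∘ Sum.inl))

theorem leviMinus_injective (a b : F) : Function.Injective (leviMinus m F a b) := by
  intro g h hgh
  apply dgHom_injective (κ := Fin m) (F := F)
  apply extGLJ_injective (F := F) (Sum.inl : Fin m ⊕ Fin m → (Fin m ⊕ Fin m) ⊕ Fin 2)
    Sum.inl_injective
  exact congrArg Subtype.val hgh

theorem lawPQ_gl_of_minus (a b : F) (h : LawPQ w ↥(isometryGroup F (quadFormMinus m F a b))) :
    LawPQ w (Matrix.GeneralLinearGroup (Fin m) F) :=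
  h.of_injective (leviMinus m F a b) (leviMinus_injective a b)

end families

section card

variable {ι : Type*} [Fintype ι] [DecidableEq ι] {F : Type*} [Field F] [Finite F]

theorem card_matrix : Nat.card (Matrix ι ι F) = Nat.card F ^ (Fintype.card ι * Fintype.card ι) := by
  show Nat.card (ι → ι → F) = _
  rw [Nat.card_fun, Nat.card_fun, Nat.card_eq_fintype_card (α := ι), ← pow_mul]

theorem card_gl_le :
    Nat.card (Matrix.GeneralLinearGroup ι F) ≤ Nat.card F ^ (Fintype.card ι * Fintype.card ι) := by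
  rw [← card_matrix]
  exact Nat.card_le_card_of_injective Units.val Units.val_injective

theorem card_sl_le :
    Nat.card (Matrix.SpecialLinearGroup ι F) ≤ Nat.card F ^ (Fintype.card ι * Fintype.card ι) := by
  rw [← card_matrix]
  exact Nat.card_le_card_of_injective Subtype.val Subtype.val_injective

theorem card_subgroup_le {X : Type*} [Group X] [Finite X] (H : Subgroup X) :
    Nat.card H ≤ Nat.card X :=
  Nat.card_le_card_of_injective Subtype.val Subtype.val_injective

theorem card_quot_le {X : Type*} [Group X] [Finite X] (N : Subgroup X) [N.Normal] :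
    Nat.card (X ⧸ N) ≤ Nat.card X :=
  Nat.card_le_card_of_surjective (QuotientGroup.mk' N) (QuotientGroup.mk'_surjective N)

/-- `|PΩ(Q)| ≤ |F|^(d²)` -/
theorem card_pomega_le {ι : Type} [Fintype ι] [DecidableEq ι] (Q : (ι → F) → F) :
    Nat.card (POmega F Q) ≤ Nat.card F ^ (Fintype.card ι * Fintype.card ι) :=
  (card_quot_le _).trans ((card_subgroup_le _).trans ((card_subgroup_le _).trans card_gl_le))

/-- a uniform numerical bound -/
theorem pow_bound {c d B K : ℕ} (hc : c ≤ B) (hd : d ≤ K) (hB : 1 ≤ B) :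
    c ^ (d * d) ≤ B ^ (K * K) :=
  (Nat.pow_le_pow_left hc _).trans (Nat.pow_le_pow_right hB (Nat.mul_le_mul hd hd))

end card

end Cfsg.Agent.Lib.Helper1.Lw
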