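import Mathlib
import Cfsg.Prelude
import Cfsg.Agent.Lib.Helper1.Lw4
import Cfsg.Agent.Lib.Helper5.HermTv

set_option autoImplicit false
set_option maxHeartbeats 4000000
set_option linter.unusedVariables false
set_option linter.unusedSectionVars false
set_option linter.style.longLine false
set_option linter.unusedSimpArgs false

/-! Unitary groups: `SU_n(q)` contains `Alt_n` (permutation matrices) and `SL_2(q)` (acting on a
hyperbolic plane). -/

namespace Cfsg.Agent.Lib.Helper1.Lw

open Matrix Cfsg Cfsg.Agent.Lib.Helper5.Herm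

section unitary

variable {F : Type*} [Field F] [Fintype F] {q : ℕ} (hF : Fintype.card F = q ^ 2) (n : ℕ)

/-- the fixed field of `x ↦ x ^ q` -/
def fixF : Subfield F where
  carrier := {x | x ^ q = x}
  mul_mem' := fun {a b} ha hb => by
    show (a * b) ^ q = a * b
    rw [mul_pow, show a ^ q = a from ha, show b ^ q = b from hb]
  one_mem' := one_pow q
  add_mem' := fun {a b} ha hb => by
    show (a + b) ^ q = a + b
    rw [pow_q_add hF, show a ^ q = a from ha, show b ^ q = b from hb]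
  zero_mem' := zero_pow (q_ne_zero hF)
  neg_mem' := fun {a} ha => by
    show (-a) ^ q = -a
    rw [pow_q_neg hF, show a ^ q = a from ha]
  inv_mem' := fun a ha => by
    show (a⁻¹) ^ q = a⁻¹
    rw [inv_pow, show a ^ q = a from ha]

theorem mem_fixF (x : F) : x ∈ fixF hF ↔ x ^ q = x := Iff.rfl

theorem q_le_card_fixF : q ≤ Nat.card ↥(fixF hF) := by
  classical
  have h1 := Cfsg.Agent.Lib.Helper5.HermCount.card_fixed hF
  have h2 := two_le_q hF
  let g : Option {c : F // c ≠ 0 ∧ c ^ q = c} → ↥(fixF hF) := fun o =>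
    match o with
    | none => 0
    | some c => ⟨c.1, c.2.2⟩
  have hg : Function.Injective g := by
    intro a b hab
    cases a with
    | none =>
      cases b with
      | none => rfl
      | some c =>
        exfalso
        have h3 : (g none).1 = (g (some c)).1 := congrArg Subtype.val hab
        have h4 : (0 : F) = c.1 := h3
        exact c.2.1 h4.symm
    | some c =>
      cases b with
      | none =>
        exfalso
        have h3 : (g (some c)).1 = (g none).1 := congrArg Subtype.val hab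
        have h4 : c.1 = (0 : F) := h3
        exact c.2.1 h4
      | some d =>
        have h3 : (g (some c)).1 = (g (some d)).1 := congrArg Subtype.val hab
        have h4 : c.1 = d.1 := h3
        rw [Subtype.ext h4]
  have h3 := Nat.card_le_card_of_injective g hg
  rw [Nat.card_eq_fintype_card, Fintype.card_option, ← Nat.card_eq_fintype_card, h1] at h3
  omega

omit [Fintype F] in
theorem slToMat_apply (A : Matrix.SpecialLinearGroup (Fin n) F) : slToMat n F A = A.1 := rfl

omit [Fintype F] in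
theorem mem_SU_iff (A : Matrix.SpecialLinearGroup (Fin n) F) :
    A ∈ SU n F q ↔ ∀ u v, hermForm n F q (A.1 *ᵥ u) (A.1 *ᵥ v) = hermForm n F q u v := Iff.rfl

/-- permutation matrices of even permutations in `SU` -/
def permSU (n : ℕ) (F : Type*) [Field F] (q : ℕ) : alternatingGroup (Fin n) →* ↥(SU n F q) :=
  MonoidHom.codRestrict (permSL (Fin n) F) (SU n F q) (by
    intro σ
    rw [mem_SU_iff]
    intro u v
    rw [permSL_val, Matrix.permMatrix_mulVec, Matrix.permMatrix_mulVec]
    unfold hermForm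
    exact Equiv.sum_comp (σ.1⁻¹ : Equiv.Perm (Fin n)) (fun i => u i * v i ^ q))

omit [Fintype F] in
theorem permSU_injective : Function.Injective (permSU n F q) := by
  intro σ τ h
  apply permSL_injective (ι := Fin n) (F := F)
  exact congrArg Subtype.val h

omit [Fintype F] in
theorem lawPQ_alt_of_su {w : FreeGroup ℕ} (h : LawPQ w ↥(SU n F q)) :
    LawPQ w (alternatingGroup (Fin n)) :=
  h.of_injective (permSU n F q) (permSU_injective n)

include hF in
/-- the key computation: the transformation acting as `[[p, q'], [r, s]] ∈ SL_2(F_q)` on a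
hyperbolic pair with skew-hermitian Gram matrix preserves the hermitian form -/
theorem herm_T_core (u v e₁ e₂ : Fin n → F) (κ A0 A1 B0 B1 p q' r s : F)
    (h11 : hermForm n F q e₁ e₁ = 0) (h22 : hermForm n F q e₂ e₂ = 0)
    (h12 : hermForm n F q e₁ e₂ = κ) (h21 : hermForm n F q e₂ e₁ = -κ)
    (hu1 : hermForm n F q u e₁ = -κ * A1) (hu2 : hermForm n F q u e₂ = κ * A0)
    (hv1 : hermForm n F q v e₁ = -κ * B1) (hv2 : hermForm n F q v e₂ = κ * B0)
    (hκ : κ ^ q = -κ) (hp : p ^ q = p) (hq' : q' ^ q = q') (hr : r ^ q = r) (hs : s ^ q = s)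
    (hdet : p * s - q' * r = 1) :
    hermForm n F q (u + ((p - 1) * A0 + q' * A1) • e₁ + (r * A0 + (s - 1) * A1) • e₂)
      (v + ((p - 1) * B0 + q' * B1) • e₁ + (r * B0 + (s - 1) * B1) • e₂) = hermForm n F q u v := by
  have he1v : hermForm n F q e₁ v = κ * B1 ^ q := by
    rw [← hermForm_conj hF n v e₁, hv1, mul_pow, pow_q_neg hF, hκ]
    ring
  have he2v : hermForm n F q e₂ v = -κ * B0 ^ q := by
    rw [← hermForm_conj hF n v e₂, hv2, mul_pow, hκ]
  have hy0 : ((p - 1) * B0 + q' * B1) ^ q = (p - 1) * B0 ^ q + q' * B1 ^ q := by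
    rw [pow_q_add hF, mul_pow, mul_pow, pow_q_sub hF, hp, hq', one_pow]
  have hy1 : (r * B0 + (s - 1) * B1) ^ q = r * B0 ^ q + (s - 1) * B1 ^ q := by
    rw [pow_q_add hF, mul_pow, mul_pow, pow_q_sub hF, hr, hs, one_pow]
  simp only [hermForm_add_left, hermForm_add_right hF, hermForm_smul_left, hermForm_smul_right,
    h11, h22, h12, h21, hu1, hu2, he1v, he2v, hy0, hy1]
  linear_combination (κ * (A0 * B1 ^ q - A1 * B0 ^ q)) * hdet

variable {n}

/-- the column matrix of a pair of vectors -/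
def colE (e₁ e₂ : Fin n → F) : Matrix (Fin n) (Fin 2) F := Matrix.of fun i a => ![e₁ i, e₂ i] a

/-- the dual rows -/
def rowE (q : ℕ) (κ : F) (e₁ e₂ : Fin n → F) : Matrix (Fin 2) (Fin n) F :=
  Matrix.of fun a i => ![κ⁻¹ * (e₂ i) ^ q, -κ⁻¹ * (e₁ i) ^ q] a

theorem rowE_mulVec (κ : F) (e₁ e₂ u : Fin n → F) :
    rowE q κ e₁ e₂ *ᵥ u = ![κ⁻¹ * hermForm n F q u e₂, -κ⁻¹ * hermForm n F q u e₁] := by
  funext a
  fin_cases a
  · simp only [rowE, Matrix.mulVec, dotProduct, Matrix.of_apply, hermForm, Finset.mul_sum]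
    apply Finset.sum_congr rfl
    intro i _
    simp
    ring
  · simp only [rowE, Matrix.mulVec, dotProduct, Matrix.of_apply, hermForm, Finset.mul_sum]
    apply Finset.sum_congr rfl
    intro i _
    simp
    ring

theorem colE_mulVec (e₁ e₂ : Fin n → F) (x : Fin 2 → F) :
    colE e₁ e₂ *ᵥ x = x 0 • e₁ + x 1 • e₂ := by
  funext i
  simp [colE, Matrix.mulVec, dotProduct, Fin.sum_univ_two]
  ring

theorem rowE_mul_colE (κ : F) (hκ0 : κ ≠ 0) (e₁ e₂ : Fin n → F)
    (h11 : hermForm n F q e₁ e₁ = 0) (h22 : hermForm n F q e₂ e₂ = 0)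
    (h12 : hermForm n F q e₁ e₂ = κ) (h21 : hermForm n F q e₂ e₁ = -κ) :
    rowE q κ e₁ e₂ * colE e₁ e₂ = (1 : Matrix (Fin 2) (Fin 2) F) := by
  have hc : ∀ (b : Fin 2), (colE e₁ e₂ : Matrix (Fin n) (Fin 2) F) *ᵥ (Pi.single b 1) =
      ![e₁, e₂] b := by
    intro b
    rw [colE_mulVec]
    fin_cases b <;> simp
  ext a b
  have h1 : (rowE q κ e₁ e₂ * colE e₁ e₂) a b =
      (rowE q κ e₁ e₂ *ᵥ (colE e₁ e₂ *ᵥ Pi.single b 1)) a := by
    rw [Matrix.mulVec_mulVec, Matrix.mulVec_single_one]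
    rfl
  rw [h1, hc, rowE_mulVec]
  fin_cases a <;> fin_cases b <;> simp [h11, h22, h12, h21, hκ0]

theorem sub_one_mulVec (B : Matrix (Fin 2) (Fin 2) F) (a : Fin 2 → F) :
    (B - 1) *ᵥ a = ![(B 0 0 - 1) * a 0 + B 0 1 * a 1, B 1 0 * a 0 + (B 1 1 - 1) * a 1] := by
  funext i
  fin_cases i <;> simp [Matrix.mulVec, dotProduct, Fin.sum_univ_two, Matrix.sub_apply]

include hF in
/-- the extension of a matrix over the fixed field preserves the hermitian form -/
theorem herm_extM (κ : F) (hκ0 : κ ≠ 0) (hκ : κ ^ q = -κ) (e₁ e₂ : Fin n → F)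
    (h11 : hermForm n F q e₁ e₁ = 0) (h22 : hermForm n F q e₂ e₂ = 0)
    (h12 : hermForm n F q e₁ e₂ = κ) (h21 : hermForm n F q e₂ e₁ = -κ)
    (B : Matrix (Fin 2) (Fin 2) F) (hB : ∀ i j, B i j ^ q = B i j) (hdet : B.det = 1)
    (u v : Fin n → F) :
    hermForm n F q (extM (colE e₁ e₂) (rowE q κ e₁ e₂) B *ᵥ u)
      (extM (colE e₁ e₂) (rowE q κ e₁ e₂) B *ᵥ v) = hermForm n F q u v := by
  rw [extM_mulVec, extM_mulVec, rowE_mulVec, rowE_mulVec, sub_one_mulVec, sub_one_mulVec,
    colE_mulVec, colE_mulVec]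
  simp only [Matrix.cons_val_zero, Matrix.cons_val_one, ← add_assoc]
  rw [Matrix.det_fin_two] at hdet
  apply herm_T_core hF n u v e₁ e₂ κ _ _ _ _ (B 0 0) (B 0 1) (B 1 0) (B 1 1) h11 h22 h12 h21
    _ _ _ _ hκ (hB 0 0) (hB 0 1) (hB 1 0) (hB 1 1) hdet
  · field_simp
  · field_simp
  · field_simp
  · field_simp

include hF in
/-- `SL_2(F_q) → SU_n(q)` for `n ≥ 2` -/
theorem exists_sl2_to_su (hn : 2 ≤ n) :
    ∃ φ : Matrix.SpecialLinearGroup (Fin 2) ↥(fixF hF) →* ↥(SU n F q), Function.Injective φ := by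
  obtain ⟨e, f, he, hf, hef⟩ := Cfsg.Agent.Lib.Helper5.HermTv.exists_hyp_pair hF n hn
  obtain ⟨κ, hκ0, hκ⟩ := Cfsg.Agent.Lib.Helper5.HermTv.exists_trace_zero hF
  have hfe : hermForm n F q f e = 1 := by
    rw [← hermForm_conj hF n e f, hef, one_pow]
  have h11 : hermForm n F q (κ • e) (κ • e) = 0 := by
    rw [hermForm_smul_left, hermForm_smul_right, he]; ring
  have h12 : hermForm n F q (κ • e) f = κ := by
    rw [hermForm_smul_left, hef, mul_one]
  have h21 : hermForm n F q f (κ • e) = -κ := by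
    rw [hermForm_smul_right, hfe, hκ, mul_one]
  have hE := rowE_mul_colE κ hκ0 (κ • e) f h11 hf h12 h21
  let ψ : Matrix.SpecialLinearGroup (Fin 2) ↥(fixF hF) →* Matrix.SpecialLinearGroup (Fin n) F :=
    (extSL (colE (κ • e) f) (rowE q κ (κ • e) f) hE).comp
      (Matrix.SpecialLinearGroup.map (fixF hF).subtype)
  have hψ : Function.Injective ψ := by
    apply (extSL_injective _ _ hE).comp
    intro A B hAB
    apply Subtype.ext
    ext i j
    have h1 := congrArg (fun M : Matrix.SpecialLinearGroup (Fin 2) F => M.1 i j) hAB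
    simp only [Matrix.SpecialLinearGroup.map_apply_coe, RingHom.mapMatrix_apply,
      Matrix.map_apply] at h1
    exact h1
  have hmem : ∀ g, ψ g ∈ SU n F q := by
    intro g
    rw [mem_SU_iff]
    intro u v
    show hermForm n F q (extM _ _ (Matrix.SpecialLinearGroup.map (fixF hF).subtype g).1 *ᵥ u)
      (extM _ _ (Matrix.SpecialLinearGroup.map (fixF hF).subtype g).1 *ᵥ v) = _
    apply herm_extM hF κ hκ0 hκ (κ • e) f h11 hf h12 h21
    · intro i j
      simp only [Matrix.SpecialLinearGroup.map_apply_coe, RingHom.mapMatrix_apply,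
        Matrix.map_apply]
      exact (g.1 i j).2
    · exact (Matrix.SpecialLinearGroup.map (fixF hF).subtype g).2
  refine ⟨MonoidHom.codRestrict ψ (SU n F q) hmem, ?_⟩
  intro a b hab
  apply hψ
  exact congrArg Subtype.val hab

include hF in
theorem lawPQ_sl2_of_su {w : FreeGroup ℕ} (hn : 2 ≤ n) (h : LawPQ w ↥(SU n F q)) :
    LawPQ w (Matrix.SpecialLinearGroup (Fin 2) ↥(fixF hF)) := by
  obtain ⟨φ, hφ⟩ := exists_sl2_to_su hF hn
  exact h.of_injective φ hφ

end unitary

end Cfsg.Agent.Lib.Helper1.Lw
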