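import Mathlib
import Cfsg.Agent.S5604
import Cfsg.Agent.Lib.Helper7.M22S1

/-!
# S5006 unit C3: elements of order `7` in `M₂₄`

From S5604 (`|N(S)| = 126`, `|C(S)| = 42` for `|S| = 7`): every element of order `7` has a
centraliser of even order (`42`), and there are exactly `11658240` elements of order `7`.
-/

set_option autoImplicit false
set_option linter.style.haveILetI false

namespace Cfsg.Agent.Lib.Helper1.M24C3

open Cfsg

/-- the centraliser of a cyclic subgroup is the centraliser of its generator -/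
theorem h1_centralizer_zpowers {G : Type*} [Group G] (g : G) :
    Subgroup.centralizer ((Subgroup.zpowers g : Subgroup G) : Set G) =
      Subgroup.centralizer ({g} : Set G) := by
  ext x
  constructor
  · intro hx
    rw [Subgroup.mem_centralizer_iff] at hx ⊢
    intro y hy
    rw [Set.mem_singleton_iff] at hy
    subst hy
    exact hx y (Subgroup.mem_zpowers y)
  · intro hx
    rw [Subgroup.mem_centralizer_iff] at hx ⊢
    intro y hy
    obtain ⟨k, rfl⟩ := Subgroup.mem_zpowers_iff.mp hy
    have h1 : Commute g x := hx g (Set.mem_singleton g)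
    exact (h1.zpow_left k).eq

/-- the centraliser of an element of order `7` of `M₂₄` has order `42` -/
theorem card_centralizer_seven (g : ↥Cfsg.M24) (hg : orderOf g = 7) :
    Nat.card (Subgroup.centralizer ({g} : Set ↥Cfsg.M24)) = 42 := by
  have hS : Nat.card (Subgroup.zpowers g) = 7 := by
    rw [Nat.card_zpowers, hg]
  have h := (Cfsg.Agent.S5604.result (Subgroup.zpowers g) hS).2.1
  rw [h1_centralizer_zpowers] at h
  exact h

/-- **C3 (i)**: the centraliser of an element of order `7` of `M₂₄` has even order -/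
theorem two_dvd_centralizer_seven (g : ↥Cfsg.M24) (hg : orderOf g = 7) :
    2 ∣ Nat.card (Subgroup.centralizer ({g} : Set ↥Cfsg.M24)) := by
  rw [card_centralizer_seven g hg]
  norm_num

/-- **C3 (ii)**: `M₂₄` has exactly `11658240` elements of order `7` -/
theorem card_orderOf_seven :
    Nat.card {x : ↥Cfsg.M24 // orderOf x = 7} = 11658240 := by
  have : Fact (Nat.Prime 7) := ⟨by norm_num⟩
  have hG : Nat.card ↥Cfsg.M24 = 244823040 := Cfsg.Agent.Lib.Helper9.M24T4.card_M24
  have hc : ∀ Q : Sylow 7 ↥Cfsg.M24, Nat.card Q = 7 := fun Q =>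
    Cfsg.Agent.Lib.Helper7.M22S1.h7_card_sylow 7 34974720 (by rw [hG]) (by norm_num) Q
  obtain ⟨P⟩ : Nonempty (Sylow 7 ↥Cfsg.M24) := inferInstance
  have hN : Nat.card (Subgroup.normalizer (P : Set ↥Cfsg.M24)) = 126 :=
    (Cfsg.Agent.S5604.result (P : Subgroup ↥Cfsg.M24) (hc P)).1
  have hprod := Cfsg.Agent.Lib.Lead.SylowCount.card_sylow_mul_card_normalizer 7 P
  rw [hN, hG] at hprod
  have hn : Nat.card (Sylow 7 ↥Cfsg.M24) = 1943040 := by omega
  rw [Cfsg.Agent.Lib.Helper7.M22S1.h7_card_orderOf_eq 7 hc, hn]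

/-- stub shape `c3_K7` -/
theorem c3_K7 (g : ↥Cfsg.M24) (hg : orderOf g = 7) :
    2 ^ 1 ∣ Nat.card (Subgroup.centralizer ({g} : Set ↥Cfsg.M24)) := by
  rw [pow_one]
  exact two_dvd_centralizer_seven g hg

/-- stub shape `c3_N7` -/
theorem c3_N7 : 11658240 ≤ Nat.card {x : ↥Cfsg.M24 // orderOf x = 7} :=
  le_of_eq card_orderOf_seven.symm

end Cfsg.Agent.Lib.Helper1.M24C3
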