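import Mathlib
import Cfsg.Agent.Lib.Helper4.M22S2

/-!
# S5006 unit A4: the degree sieve for `|G| = 244823040` (the order of `M₂₄`)

If a Sylow `23`-subgroup is self-centralising, then `e = 11`, there are `21288960` elements of
order `23`, and an irreducible character whose degree is divisible by `1024` has degree exactly
`1024`.
-/

set_option autoImplicit false
set_option linter.style.haveILetI false

namespace Cfsg.Agent.Lib.Helper1.M24S

open Cfsg Cfsg.Agent.Lib.Helper6 Cfsg.Agent.Lib.Helper5.BrauerSmall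

variable {G : Type*} [Group G] [Fintype G]

/-- `p = 23`: `e = 11`, `967680` Sylow subgroups, `21288960` elements of order `23`. -/
theorem h1_data23 (hG : Nat.card G = 244823040) [Fact (Nat.Prime 23)] (P : Sylow 23 G)
    (hC : Subgroup.centralizer ((P : Subgroup G) : Set G) = (P : Subgroup G)) :
    (Subgroup.centralizer ((P : Subgroup G) : Set G)).relIndex
        (Subgroup.normalizer ((P : Subgroup G) : Set G)) = 11 ∧
      Nat.card (Sylow 23 G) = 967680 ∧ Nat.card {x : G // orderOf x = 23} = 21288960 := by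
  have hc : ∀ Q : Sylow 23 G, Nat.card Q = 23 := fun Q =>
    Cfsg.Agent.Lib.Helper7.M22S1.h7_card_sylow 23 10644480 (by rw [hG]) (by norm_num) Q
  obtain ⟨e, he, hdvd, hprod, hmod⟩ :=
    Cfsg.Agent.Lib.Helper7.M22S1.h7_sylow_data 23 P (hc P) hC
  rw [hG] at hprod
  have he11 : e = 11 := by
    have hle : e ≤ 22 := Nat.le_of_dvd (by norm_num) hdvd
    interval_cases e <;> first | rfl | omega
  subst he11
  have hn : Nat.card (Sylow 23 G) = 967680 := by omega
  refine ⟨he, hn, ?_⟩
  rw [Cfsg.Agent.Lib.Helper7.M22S1.h7_card_orderOf_eq 23 hc, hn]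

theorem h1_sieve_arith (d : ℕ) (h1024 : 1024 ∣ d) (hdvd : d ∣ 244823040)
    (hsq : d * d ≤ 244823040)
    (h23 : d % 23 = 0 ∨ d % 23 = 1 ∨ d % 23 = 22 ∨ d % 23 = 11 ∨ d % 23 = 12) :
    d = 1024 := by
  obtain ⟨k, rfl⟩ := h1024
  have hk : k ≤ 15 := by
    by_contra h
    push Not at h
    have : 16 ≤ k := h
    nlinarith
  interval_cases k <;> omega

/-- **A4 (sieve).** If `|G| = 244823040` and the Sylow `23`-subgroups are self-centralising, an
irreducible character of degree divisible by `1024` has degree `1024`. -/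
theorem h1_sieve (hG : Nat.card G = 244823040)
    (H23 : ∀ P : Sylow 23 G, Subgroup.centralizer ((P : Subgroup G) : Set G) = (P : Subgroup G))
    (χ : Cfsg.IrrCharacter G) (h1024 : 1024 ∣ Cfsg.charDegree (χ : G → ℂ)) :
    Cfsg.charDegree (χ : G → ℂ) = 1024 := by
  classical
  have : Fact (Nat.Prime 23) := ⟨by norm_num⟩
  have : Fintype (Cfsg.IrrCharacter G) := Fintype.ofFinite _
  obtain ⟨d, hd⟩ : ∃ d, Cfsg.charDegree (χ : G → ℂ) = d := ⟨_, rfl⟩
  rw [hd] at h1024 ⊢
  have hdvd : d ∣ 244823040 := by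
    rw [← hG, ← hd]
    exact IsIrrCharacter.charDegree_dvd_card χ.2
  have hone : ∀ ψ : Cfsg.IrrCharacter G,
      (ψ : G → ℂ) 1 = (Cfsg.charDegree (ψ : G → ℂ) : ℂ) := fun ψ =>
    IsCharacter.apply_one_eq_charDegree (IsIrrCharacter.isCharacter ψ.2)
  have hsqN : ∑ ψ : Cfsg.IrrCharacter G, Cfsg.charDegree (ψ : G → ℂ) ^ 2 = 244823040 := by
    have h1 := sum_sq_degree (G := G)
    rw [hG] at h1
    have : ((∑ ψ : Cfsg.IrrCharacter G, Cfsg.charDegree (ψ : G → ℂ) ^ 2 : ℕ) : ℂ) =
        ((244823040 : ℕ) : ℂ) := by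
      push_cast
      push_cast at h1
      rw [← h1]
      apply Finset.sum_congr rfl
      intro ψ _
      rw [hone]
    exact_mod_cast this
  have hsq : d * d ≤ 244823040 := by
    have h3 := Finset.single_le_sum
      (f := fun ψ : Cfsg.IrrCharacter G => Cfsg.charDegree (ψ : G → ℂ) ^ 2)
      (fun _ _ => Nat.zero_le _) (Finset.mem_univ χ)
    rw [hsqN, pow_two] at h3
    rw [← hd]
    exact h3
  obtain ⟨P23⟩ : Nonempty (Sylow 23 G) := inferInstance
  have hP23 : Nat.card P23 = 23 :=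
    Cfsg.Agent.Lib.Helper7.M22S1.h7_card_sylow 23 10644480 (by rw [hG]) (by norm_num) P23
  have he23 := (h1_data23 hG P23 (H23 P23)).1
  have c23 := Cfsg.Agent.Lib.Helper4.M22S2.h4_deg_mod_cases 23 (by norm_num) P23 hP23
    (H23 P23) 11 he23 χ
  rw [hd] at c23
  apply h1_sieve_arith d h1024 hdvd hsq
  rcases c23 with h | h | h | h | h
  · left; omega
  all_goals (unfold Int.ModEq at h; push_cast at h; omega)

/-- stub shape `a4_sieve` -/
theorem a4_sieve (hG : Nat.card G = 244823040)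
    (H23 : ∀ P : Sylow 23 G, Subgroup.centralizer ((P : Subgroup G) : Set G) = (P : Subgroup G))
    (χ : Cfsg.IrrCharacter G) (h : 1024 ∣ Cfsg.charDegree (χ : G → ℂ)) :
    Cfsg.charDegree (χ : G → ℂ) = 1024 :=
  h1_sieve hG H23 χ h

end Cfsg.Agent.Lib.Helper1.M24S
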