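import Mathlib
import Cfsg.Agent.Lib.Helper1.M24S
import Cfsg.Agent.S4441
import Cfsg.Agent.Lib.Helper2.M22S4
import Cfsg.Agent.Lib.Helper6.SecondOrth

/-!
# S5006 unit A5 (core): no irreducible character of degree `1024` when `|G| = 244823040`

Hypotheses: self-centralising Sylow `23`-subgroups, and the three lower bounds (from unit A3c)
for the sums of `|ψ g|²` over the elements of order `5`, `7`, `11`, for every irreducible `ψ` of
degree `1024`.
-/

set_option autoImplicit false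
set_option linter.style.haveILetI false
set_option linter.unusedSectionVars false
set_option linter.unusedDecidableInType false
set_option linter.style.longLine false

namespace Cfsg.Agent.Lib.Helper1.M24K

open Cfsg Cfsg.Agent.Lib.Helper6 Cfsg.Agent.Lib.Helper5.BrauerSmall
open Cfsg.Agent.Lib.Helper7.CountTools Cfsg.Agent.Lib.Helper7.M22S1

open scoped ComplexConjugate

variable {G : Type*} [Group G] [Fintype G]

/-- the centraliser of a cyclic subgroup is the centraliser of its generator -/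
theorem h1_centralizer_zpowers' (g : G) :
    Subgroup.centralizer ((Subgroup.zpowers g : Subgroup G) : Set G) =
      Subgroup.centralizer ({g} : Set G) := by
  ext x
  constructor
  · intro hx
    rw [Subgroup.mem_centralizer_iff] at hx ⊢
    intro y hy
    rw [Set.mem_singleton_iff] at hy
    subst hy
    exact hx y (Subgroup.mem_zpowers y)
  · intro hx
    rw [Subgroup.mem_centralizer_iff] at hx ⊢
    intro y hy
    obtain ⟨k, rfl⟩ := Subgroup.mem_zpowers_iff.mp hy
    have h1 : Commute g x := hx g (Set.mem_singleton g)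
    exact (h1.zpow_left k).eq

open Classical in
/-- splitting a sum over `G` according to the orders `1, 5, 7, 11, 23` and the rest -/
theorem h1_sum_split {A : Type*} [AddCommMonoid A] (F : G → A) :
    ∑ g, F g = F 1 + ∑ g ∈ Finset.univ.filter (fun g : G => orderOf g = 5), F g
      + ∑ g ∈ Finset.univ.filter (fun g : G => orderOf g = 7), F g
      + ∑ g ∈ Finset.univ.filter (fun g : G => orderOf g = 11), F g
      + ∑ g ∈ Finset.univ.filter (fun g : G => orderOf g = 23), F g
      + ∑ g ∈ Finset.univ.filter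
          (fun g : G => g ≠ 1 ∧ orderOf g ≠ 5 ∧ orderOf g ≠ 7 ∧ orderOf g ≠ 11 ∧
            orderOf g ≠ 23), F g := by
  rw [Finset.sum_filter, Finset.sum_filter, Finset.sum_filter, Finset.sum_filter,
    Finset.sum_filter]
  have h1 : F 1 = ∑ g, if g = 1 then F g else 0 := by simp
  rw [h1, ← Finset.sum_add_distrib, ← Finset.sum_add_distrib, ← Finset.sum_add_distrib,
    ← Finset.sum_add_distrib, ← Finset.sum_add_distrib]
  apply Finset.sum_congr rfl
  intro g _
  by_cases hg : g = 1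
  · subst hg; simp
  · by_cases h5 : orderOf g = 5
    · simp [hg, h5]
    · by_cases h7 : orderOf g = 7
      · simp [hg, h7]
      · by_cases h11 : orderOf g = 11
        · simp [hg, h11]
        · by_cases h23 : orderOf g = 23 <;> simp [hg, h5, h7, h11, h23]

theorem h1_mul_conj (z : ℂ) : z * conj z = ((‖z‖ ^ 2 : ℝ) : ℂ) := by
  rw [Complex.mul_conj, Complex.normSq_eq_norm_sq]

open Classical in
/-- **A5 (core).** -/
theorem h1_kill_1024 (hG : Nat.card G = 244823040)
    (H23 : ∀ P : Sylow 23 G, Subgroup.centralizer ((P : Subgroup G) : Set G) = (P : Subgroup G))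
    (B5 : ∀ ψ : Cfsg.IrrCharacter G, Cfsg.charDegree (ψ : G → ℂ) = 1024 →
      (65286144 : ℝ) ≤ ∑ g ∈ Finset.univ.filter (fun g : G => orderOf g = 5),
        ‖(ψ : G → ℂ) g‖ ^ 2)
    (B7 : ∀ ψ : Cfsg.IrrCharacter G, Cfsg.charDegree (ψ : G → ℂ) = 1024 →
      (46632960 : ℝ) ≤ ∑ g ∈ Finset.univ.filter (fun g : G => orderOf g = 7),
        ‖(ψ : G → ℂ) g‖ ^ 2)
    (B11 : ∀ ψ : Cfsg.IrrCharacter G, Cfsg.charDegree (ψ : G → ℂ) = 1024 →
      (11128320 : ℝ) ≤ ∑ g ∈ Finset.univ.filter (fun g : G => orderOf g = 11),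
        ‖(ψ : G → ℂ) g‖ ^ 2)
    (χ : Cfsg.IrrCharacter G) : Cfsg.charDegree (χ : G → ℂ) ≠ 1024 := by
  intro hχ
  have : Fact (Nat.Prime 23) := ⟨by norm_num⟩
  have : Fintype (Cfsg.IrrCharacter G) := Fintype.ofFinite _
  have hc23 : ∀ Q : Sylow 23 G, Nat.card Q = 23 := fun Q =>
    h7_card_sylow 23 10644480 (by rw [hG]) (by norm_num) Q
  obtain ⟨P23⟩ : Nonempty (Sylow 23 G) := inferInstance
  obtain ⟨he23, -, n23⟩ := Cfsg.Agent.Lib.Helper1.M24S.h1_data23 hG P23 (H23 P23)
  -- the principal `23`-block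
  obtain ⟨M, hM⟩ := exists_isPModular 23
  obtain ⟨X, Y, hXY, hdisj, hX, hY, εX, ε, hXprop, hε, hYdeg, hYagree, hYrel⟩ :=
    Cfsg.Agent.S4441.result 23 M hM (by norm_num) P23 (hc23 P23) 11 he23
  have hχB : χ ∈ Cfsg.principalBlock M G :=
    mem_principalBlock_of_not_dvd P23 (hc23 P23) (H23 P23) hM χ (by rw [hχ]; norm_num)
  have hχB' := hχB
  rw [hXY] at hχB'
  have hχY : χ ∈ Y := by
    rcases hχB' with h | h
    · exfalso
      obtain ⟨hs, hmod, -⟩ := hXprop χ h
      rw [hχ] at hmod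
      rcases hs with hs | hs <;> rw [hs] at hmod <;> exact absurd hmod (by decide)
    · exact h
  have hY2 : Y.ncard = 2 := by
    rw [← Nat.card_coe_set_eq, hY]
  obtain ⟨a, b, hab, hYab⟩ := Set.ncard_eq_two.mp hY2
  obtain ⟨θ', hθ'ne, hYeq⟩ : ∃ θ' : Cfsg.IrrCharacter G, θ' ≠ χ ∧ Y = {χ, θ'} := by
    have hmem : χ ∈ ({a, b} : Set (Cfsg.IrrCharacter G)) := hYab ▸ hχY
    rcases hmem with h | h
    · exact ⟨b, by rw [h]; exact hab.symm, by rw [hYab, h]⟩
    · rw [Set.mem_singleton_iff] at h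
      exact ⟨a, by rw [h]; exact hab, by rw [hYab, h, Set.pair_comm]⟩
  have hθ'Y : θ' ∈ Y := by rw [hYeq]; simp
  have hθ'B : θ' ∈ Cfsg.principalBlock M G := by rw [hXY]; exact Or.inr hθ'Y
  have hone : ¬ 23 ∣ orderOf (1 : G) := by rw [orderOf_one]; norm_num
  have hθ'1 : (θ' : G → ℂ) 1 = (χ : G → ℂ) 1 := hYagree θ' hθ'Y χ hχY 1 hone
  have hχ1 : (χ : G → ℂ) 1 = 1024 := by
    rw [IsCharacter.apply_one_eq_charDegree (IsIrrCharacter.isCharacter χ.2), hχ]; norm_num
  have hθ' : Cfsg.charDegree (θ' : G → ℂ) = 1024 := by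
    rw [← hχ]; unfold Cfsg.charDegree; rw [hθ'1]
  -- the class function `|χ|² + |θ'|²`
  obtain ⟨Fc, hFc⟩ : ∃ Fc : G → ℂ, Fc = fun g =>
      (χ : G → ℂ) g * conj ((χ : G → ℂ) g) + (θ' : G → ℂ) g * conj ((θ' : G → ℂ) g) := ⟨_, rfl⟩
  have hFcf : Cfsg.IsClassFunction G Fc := by
    intro g h
    rw [hFc]
    show (χ : G → ℂ) (h * g * h⁻¹) * conj ((χ : G → ℂ) (h * g * h⁻¹)) +
      (θ' : G → ℂ) (h * g * h⁻¹) * conj ((θ' : G → ℂ) (h * g * h⁻¹)) = _
    rw [IsIrrCharacter.isClassFunction χ.2 g h, IsIrrCharacter.isClassFunction θ'.2 g h]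
  -- values at elements of order 23
  have hv23P : ∀ x ∈ (P23 : Subgroup G), x ≠ 1 → Fc x = 12 := by
    intro x hx hx1
    have hox : orderOf x = 23 := PB.orderOf_eq_of_mem P23 (hc23 P23) hx hx1
    have hzp : Subgroup.zpowers x = (P23 : Subgroup G) := by
      apply Subgroup.eq_of_le_of_card_ge
      · rw [Subgroup.zpowers_le]; exact hx
      · rw [Nat.card_zpowers, hox]
        exact le_of_eq (hc23 P23)
    have hcx : Nat.card (Subgroup.centralizer ({x} : Set G)) = 23 := by
      rw [← h1_centralizer_zpowers', hzp, H23 P23]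
      exact hc23 P23
    have hcol := (sum_irr_mul_conj x x).1 (IsConj.refl x)
    rw [hcx] at hcol
    have hpt : ∀ ζ : Cfsg.IrrCharacter G, (ζ : G → ℂ) x * conj ((ζ : G → ℂ) x) =
        (if ζ ∈ X then (1 : ℂ) else 0) +
          (if ζ = χ then (χ : G → ℂ) x * conj ((χ : G → ℂ) x) else 0) +
          (if ζ = θ' then (θ' : G → ℂ) x * conj ((θ' : G → ℂ) x) else 0) := by
      intro ζ
      by_cases hζB : ζ ∈ Cfsg.principalBlock M G
      · have hζB' := hζB
        rw [hXY] at hζB'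
        rcases hζB' with hζX | hζY
        · have hζχ : ζ ≠ χ := by
            rintro rfl
            exact (Set.disjoint_left.mp hdisj hζX) hχY
          have hζθ : ζ ≠ θ' := by
            rintro rfl
            exact (Set.disjoint_left.mp hdisj hζX) hθ'Y
          have h1 := (hXprop ζ hζX).2.2 x hx hx1 1 (Subgroup.one_mem _) hone
          rw [mul_one] at h1
          rw [if_pos hζX, if_neg hζχ, if_neg hζθ, h1]
          rcases (hXprop ζ hζX).1 with h2 | h2 <;> rw [h2] <;> simp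
        · have hζX : ζ ∉ X := fun h => (Set.disjoint_left.mp hdisj h) hζY
          rw [hYeq] at hζY
          rcases hζY with h | h
          · rw [h, if_neg (by rw [← h]; exact hζX), if_pos rfl, if_neg hθ'ne.symm]
            simp
          · rw [Set.mem_singleton_iff] at h
            rw [h, if_neg (by rw [← h]; exact hζX), if_neg hθ'ne, if_pos rfl]
            simp
      · have hζX : ζ ∉ X := fun h => hζB (by rw [hXY]; exact Or.inl h)
        have hζχ : ζ ≠ χ := by
          rintro rfl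
          exact hζB hχB
        have hζθ : ζ ≠ θ' := by
          rintro rfl
          exact hζB hθ'B
        rw [if_neg hζX, if_neg hζχ, if_neg hζθ,
          apply_eq_zero_of_not_mem P23 (hc23 P23) (H23 P23) hM ζ hζB hx hx1]
        simp
    rw [Finset.sum_congr rfl (fun ζ _ => hpt ζ), Finset.sum_add_distrib, Finset.sum_add_distrib,
      Finset.sum_ite_eq' Finset.univ χ, Finset.sum_ite_eq' Finset.univ θ',
      if_pos (Finset.mem_univ _), if_pos (Finset.mem_univ _), Finset.sum_boole] at hcol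
    have hcardX : (Finset.univ.filter (fun ζ : Cfsg.IrrCharacter G => ζ ∈ X)).card = 11 := by
      rw [← hX, Nat.card_eq_fintype_card, Fintype.card_subtype]
    rw [hcardX] at hcol
    rw [hFc]
    show (χ : G → ℂ) x * conj ((χ : G → ℂ) x) + (θ' : G → ℂ) x * conj ((θ' : G → ℂ) x) = 12
    push_cast at hcol
    linear_combination hcol
  have hv23 : ∀ x : G, orderOf x = 23 → Fc x = 12 :=
    Cfsg.Agent.Lib.Helper2.M22S4.val_of_orderOf hc23 P23 Fc hFcf 12 hv23P
  -- the real function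
  obtain ⟨F, hF⟩ : ∃ F : G → ℝ, F = fun g =>
      ‖(χ : G → ℂ) g‖ ^ 2 + ‖(θ' : G → ℂ) g‖ ^ 2 := ⟨_, rfl⟩
  have hFFc : ∀ g, ((F g : ℝ) : ℂ) = Fc g := by
    intro g
    rw [hF, hFc]
    show ((‖(χ : G → ℂ) g‖ ^ 2 + ‖(θ' : G → ℂ) g‖ ^ 2 : ℝ) : ℂ) =
      (χ : G → ℂ) g * conj ((χ : G → ℂ) g) + (θ' : G → ℂ) g * conj ((θ' : G → ℂ) g)
    rw [h1_mul_conj, h1_mul_conj]
    push_cast
    ring
  have hF23 : ∀ x : G, orderOf x = 23 → F x = 12 := by
    intro x hx
    have h := hv23 x hx
    rw [← hFFc x] at h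
    exact_mod_cast h
  have hFnn : ∀ g, 0 ≤ F g := by
    intro g
    rw [hF]
    positivity
  -- orthogonality
  have hcard : (Nat.card G : ℂ) ≠ 0 := by rw [hG]; norm_num
  have hin : ∀ a : Cfsg.IrrCharacter G, ∑ g : G, (a : G → ℂ) g * conj ((a : G → ℂ) g)
      = (244823040 : ℂ) := by
    intro a
    have h := classInner_irrCharacter a a
    unfold Cfsg.classInner at h
    have h2 : ∑ g : G, (a : G → ℂ) g * conj ((a : G → ℂ) g)
        = (Nat.card G : ℂ) * ((Nat.card G : ℂ)⁻¹ * ∑ g : G, (a : G → ℂ) g * conj ((a : G → ℂ) g)) := by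
      field_simp
    rw [h2, h, hG]
    simp
  have hsumF : ∑ g : G, F g = 489646080 := by
    have h : ((∑ g : G, F g : ℝ) : ℂ) = 489646080 := by
      push_cast
      rw [Finset.sum_congr rfl (fun g _ => hFFc g), hFc]
      show ∑ g : G, ((χ : G → ℂ) g * conj ((χ : G → ℂ) g) +
        (θ' : G → ℂ) g * conj ((θ' : G → ℂ) g)) = 489646080
      rw [Finset.sum_add_distrib, hin χ, hin θ']
      norm_num
    exact_mod_cast h
  -- the pieces
  have hsplit := h1_sum_split F
  have hF1 : F 1 = 2097152 := by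
    rw [hF]
    show ‖(χ : G → ℂ) 1‖ ^ 2 + ‖(θ' : G → ℂ) 1‖ ^ 2 = 2097152
    rw [hθ'1, hχ1]
    norm_num
  have hdist : ∀ n : ℕ, ∑ g ∈ Finset.univ.filter (fun g : G => orderOf g = n), F g =
      ∑ g ∈ Finset.univ.filter (fun g : G => orderOf g = n), ‖(χ : G → ℂ) g‖ ^ 2 +
      ∑ g ∈ Finset.univ.filter (fun g : G => orderOf g = n), ‖(θ' : G → ℂ) g‖ ^ 2 := by
    intro n
    rw [hF, ← Finset.sum_add_distrib]
  have h5 := hdist 5
  have h7 := hdist 7
  have h11 := hdist 11
  have hs23 : ∑ g ∈ Finset.univ.filter (fun g : G => orderOf g = 23), F g = 255467520 := by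
    rw [Finset.sum_congr rfl (fun g hg => hF23 g (Finset.mem_filter.mp hg).2),
      Finset.sum_const, nsmul_eq_mul]
    have hcard23 : (Finset.univ.filter (fun g : G => orderOf g = 23)).card = 21288960 := by
      rw [← n23, Nat.card_eq_fintype_card, Fintype.card_subtype]
    rw [hcard23]
    norm_num
  have hrest : 0 ≤ ∑ g ∈ Finset.univ.filter
      (fun g : G => g ≠ 1 ∧ orderOf g ≠ 5 ∧ orderOf g ≠ 7 ∧ orderOf g ≠ 11 ∧
        orderOf g ≠ 23), F g := Finset.sum_nonneg (fun g _ => hFnn g)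
  have a5 := B5 χ hχ
  have b5 := B5 θ' hθ'
  have a7 := B7 χ hχ
  have b7 := B7 θ' hθ'
  have a11 := B11 χ hχ
  have b11 := B11 θ' hθ'
  rw [hsumF, hF1, h5, h7, h11, hs23] at hsplit
  linarith

end Cfsg.Agent.Lib.Helper1.M24K
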