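import Mathlib
import Cfsg.Agent.Lib.Helper6.Mult

/-!
# S5006 unit A3a-(R): the Fourier coefficients of a character along a cyclic subgroup are
natural numbers

For a character `χ` of `G`, `g ^ q = 1`, `ζ ^ q = 1` and `r : ℕ`:
`q⁻¹ ∑_{j<q} χ(g^j) (ζ^(r j))⁻¹` is a natural number (the multiplicity of `j ↦ ζ^(r j)` in the
pull-back of `χ` to the cyclic group `Multiplicative (ZMod q)`).
-/

set_option autoImplicit false
set_option linter.style.longLine false

namespace Cfsg.Agent.Lib.Helper1.M24R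

open Cfsg Cfsg.Agent.Lib.Helper6

open scoped ComplexConjugate

/-- the homomorphism `C_q → A`, `j ↦ a ^ j`, for `a ^ q = 1` -/
noncomputable def cycHom (q : ℕ) {A : Type*} [Group A] (a : A) (ha : a ^ q = 1) :
    Multiplicative (ZMod q) →* A :=
  AddMonoidHom.toMultiplicativeLeft
    (ZMod.lift q ⟨zmultiplesHom (Additive A) (Additive.ofMul a), by
      show (q : ℤ) • Additive.ofMul a = 0
      rw [natCast_zsmul, ← ofMul_pow, ha, ofMul_one]⟩)

theorem cycHom_apply (q : ℕ) {A : Type*} [Group A] (a : A) (ha : a ^ q = 1) (n : ℕ) :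
    cycHom q a ha (Multiplicative.ofAdd (n : ZMod q)) = a ^ n := by
  unfold cycHom
  have h : (n : ZMod q) = ((n : ℤ) : ZMod q) := by simp
  rw [h]
  simp only [AddMonoidHom.toMultiplicativeLeft_apply_apply, toAdd_ofAdd, ZMod.lift_coe,
    zmultiplesHom_apply, natCast_zsmul]
  rfl

/-- a sum over `ZMod q` as a sum over `range q` -/
theorem sum_zmod_eq_sum_range {M : Type*} [AddCommMonoid M] (q : ℕ) [NeZero q]
    (H : ZMod q → M) : ∑ x : ZMod q, H x = ∑ j ∈ Finset.range q, H (j : ZMod q) := by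
  obtain ⟨n, rfl⟩ : ∃ n, q = n + 1 := Nat.exists_eq_succ_of_ne_zero (NeZero.ne q)
  rw [← Fin.sum_univ_eq_sum_range (fun j => H (j : ZMod (n + 1))) (n + 1)]
  show ∑ x : Fin (n + 1), H x = _
  apply Finset.sum_congr rfl
  intro i _
  congr 1
  exact (ZMod.natCast_zmod_val (n := n + 1) i).symm

variable {G : Type*} [Group G]

/-- **A3a-(R)**: the Fourier coefficients of a character along `⟨g⟩` are natural numbers. -/
theorem mult_nat (q : ℕ) [NeZero q] {χ : G → ℂ} (hχ : Cfsg.IsCharacter G χ) (g : G)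
    (hg : g ^ q = 1) (ζ : ℂ) (hζ : ζ ^ q = 1) (r : ℕ) :
    ∃ n : ℕ, (q : ℂ)⁻¹ * ∑ j ∈ Finset.range q, χ (g ^ j) * (ζ ^ (r * j))⁻¹ = (n : ℂ) := by
  have hq : q ≠ 0 := NeZero.ne q
  have hζ0 : ζ ≠ 0 := by
    rintro rfl
    rw [zero_pow hq] at hζ
    exact zero_ne_one hζ
  have hnorm : ‖ζ‖ = 1 := Complex.norm_eq_one_of_pow_eq_one hζ hq
  obtain ⟨u, hu⟩ : ∃ u : ℂˣ, (u : ℂ) = ζ ^ r := ⟨Units.mk0 (ζ ^ r) (pow_ne_zero r hζ0), rfl⟩
  have huq : u ^ q = 1 := by
    apply Units.ext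
    rw [Units.val_pow_eq_pow_val, hu, ← pow_mul, mul_comm, pow_mul, hζ, one_pow, Units.val_one]
  have hψ : Cfsg.IsCharacter (Multiplicative (ZMod q)) (fun c => χ (cycHom q g hg c)) :=
    IsCharacter.comp (cycHom q g hg) hχ
  have hlam : Cfsg.IsIrrCharacter (Multiplicative (ZMod q))
      (fun c => ((cycHom q u huq c : ℂˣ) : ℂ)) := isIrrCharacter_of_hom (cycHom q u huq)
  obtain ⟨n, hn⟩ := IsCharacter.classInner_irr_nat hψ hlam
  refine ⟨n, ?_⟩
  rw [← hn]
  unfold Cfsg.classInner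
  have hcard : Nat.card (Multiplicative (ZMod q)) = q := by
    rw [Nat.card_eq_fintype_card, Fintype.card_multiplicative, ZMod.card]
  rw [hcard]
  congr 1
  rw [← Equiv.sum_comp Multiplicative.ofAdd, sum_zmod_eq_sum_range]
  apply Finset.sum_congr rfl
  intro j _
  symm
  show χ (cycHom q g hg (Multiplicative.ofAdd (j : ZMod q))) *
    conj ((cycHom q u huq (Multiplicative.ofAdd (j : ZMod q)) : ℂˣ) : ℂ) = _
  rw [cycHom_apply, cycHom_apply, Units.val_pow_eq_pow_val, hu, ← pow_mul]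
  congr 1
  rw [Complex.inv_eq_conj]
  rw [norm_pow, hnorm, one_pow]

end Cfsg.Agent.Lib.Helper1.M24R
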