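import Mathlib
import Cfsg.Agent.Lib.Helper1.MC1

set_option autoImplicit false
universe u
open scoped commutatorElement

namespace Cfsg.Agent.Lib.Helper1.MC

variable {X : Type u} [Group X]

theorem exists_zmod_hom {H : Type*} [Group H] (m : ℕ) (z : H) (hz : z ^ m = 1) :
    ∃ π : Multiplicative (ZMod m) →* H,
      ∀ k : ℤ, π (Multiplicative.ofAdd (k : ZMod m)) = z ^ k := by
  let f : ℤ →+ Additive H := zmultiplesHom (Additive H) (Additive.ofMul z)
  have hf : f m = 0 := by
    show (m : ℤ) • Additive.ofMul z = 0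
    rw [natCast_zsmul, ← ofMul_pow, hz]
    rfl
  let g : ZMod m →+ Additive H := ZMod.lift m ⟨f, hf⟩
  refine ⟨AddMonoidHom.toMultiplicativeLeft g, ?_⟩
  intro k
  show (g ((k : ℤ) : ZMod m)).toMul = z ^ k
  rw [ZMod.lift_coe]
  show (k • Additive.ofMul z).toMul = z ^ k
  rfl

theorem index_two_of_cover (K : Subgroup X) (c : X) (hc : c ∉ K)
    (hall : ∀ x, x ∈ K ∨ x * c ∈ K) : K.index = 2 := by
  rw [Subgroup.index_eq_two_iff]
  refine ⟨c, fun x => ?_⟩
  by_cases hx : x ∈ K
  · right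
    refine ⟨hx, fun h => hc ?_⟩
    have := K.mul_mem (K.inv_mem hx) h
    rwa [inv_mul_cancel_left] at this
  · left
    refine ⟨(hall x).resolve_left hx, hx⟩

theorem gen_swap (hab : ∀ x y : X, x * y = y * x) (a b : X) (h : Gen a b) : Gen b a := by
  intro x
  obtain ⟨i, j, rfl⟩ := h x
  exact ⟨j, i, hab _ _⟩

theorem gen_mul (hab : ∀ x y : X, x * y = y * x) (a b : X) (h : Gen a b) : Gen (a * b) b := by
  intro x
  obtain ⟨i, j, rfl⟩ := h x
  refine ⟨i, j - i, ?_⟩
  have hc : Commute a b := hab a b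
  rw [hc.mul_zpow, zpow_sub, mul_assoc, ← mul_assoc (b ^ i), hab (b ^ i) (b ^ j)]
  group

theorem unique_involution (a : X) (n : ℕ) (hn : 1 ≤ n) (ha : orderOf a = 2 ^ n) (v : X)
    (hv : v ∈ Subgroup.zpowers a) (hv2 : v * v = 1) (hv1 : v ≠ 1) : v = a ^ (2 ^ (n - 1)) := by
  obtain ⟨i, rfl⟩ := Subgroup.mem_zpowers_iff.mp hv
  have h1 : a ^ (2 * i) = 1 := by rw [two_mul, zpow_add]; exact hv2
  have h2 : ((orderOf a : ℕ) : ℤ) ∣ 2 * i := orderOf_dvd_iff_zpow_eq_one.mpr h1
  rw [ha] at h2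
  obtain ⟨n', rfl⟩ : ∃ n', n = n' + 1 := ⟨n - 1, by omega⟩
  rw [Nat.add_sub_cancel]
  have h3 : ((2 ^ n' : ℕ) : ℤ) ∣ i := by
    rw [pow_succ, Nat.cast_mul, mul_comm] at h2
    exact Int.dvd_of_mul_dvd_mul_left (by norm_num) h2
  obtain ⟨t, rfl⟩ := h3
  have hz2 : (a ^ (2 ^ n')) ^ 2 = 1 := by
    rw [← pow_mul, ← pow_succ, ← ha, pow_orderOf_eq_one]
  have h4 : a ^ (((2 ^ n' : ℕ) : ℤ) * t) = (a ^ (2 ^ n')) ^ t := by
    rw [zpow_mul, zpow_natCast]
  rw [h4] at hv1 ⊢
  rcases Int.even_or_odd' t with ⟨s, rfl | rfl⟩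
  · exfalso; apply hv1
    rw [zpow_mul, zpow_ofNat, hz2, one_zpow]
  · rw [zpow_add, zpow_mul, zpow_ofNat, hz2, one_zpow, one_mul, zpow_one]

theorem abelian_case [Finite X] (hX : IsPGroup 2 X) (hab : ∀ x y : X, x * y = y * x) (a b : X)
    (hgen : Gen a b) (α : MulAut X) (hα : NoInv α) :
    ∃ n : ℕ, Nonempty (X ≃* Multiplicative (ZMod (2 ^ n)) × Multiplicative (ZMod (2 ^ n))) := by
  obtain ⟨k, hk⟩ := (IsPGroup.iff_orderOf.mp hX) a
  obtain ⟨l, hl⟩ := (IsPGroup.iff_orderOf.mp hX) b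
  obtain ⟨n, hn⟩ : ∃ n, n = max k l := ⟨_, rfl⟩
  have hkn : k ≤ n := hn ▸ le_max_left k l
  have hln : l ≤ n := hn ▸ le_max_right k l
  have han : a ^ (2 ^ n) = 1 := by
    apply orderOf_dvd_iff_pow_eq_one.mp; rw [hk]; exact pow_dvd_pow 2 hkn
  have hbn : b ^ (2 ^ n) = 1 := by
    apply orderOf_dvd_iff_pow_eq_one.mp; rw [hl]; exact pow_dvd_pow 2 hln
  have hxn : ∀ x : X, x ^ (2 ^ n) = 1 := by
    intro x
    obtain ⟨i, j, rfl⟩ := hgen x
    have hc : Commute (a ^ i) (b ^ j) := hab _ _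
    rw [hc.mul_pow, ← zpow_natCast, ← zpow_mul, mul_comm i, zpow_mul, zpow_natCast, han, one_zpow,
      ← zpow_natCast (b ^ j), ← zpow_mul, mul_comm j, zpow_mul, zpow_natCast, hbn, one_zpow, one_mul]
  refine ⟨n, ?_⟩
  -- key facts
  have key : orderOf a = 2 ^ n ∧ orderOf b = 2 ^ n ∧
      Subgroup.zpowers a ⊓ Subgroup.zpowers b = ⊥ := by
    rcases Nat.eq_zero_or_pos n with h0 | hpos
    · have ha1 : a = 1 := by rw [h0] at han; simpa using han
      have hb1 : b = 1 := by rw [h0] at hbn; simpa using hbn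
      rw [h0, ha1, hb1]
      simp
    · obtain ⟨n', rfl⟩ : ∃ n', n = n' + 1 := ⟨n - 1, by omega⟩
      -- the subgroup K
      let K : Subgroup X :=
        { carrier := {x | x ^ (2 ^ n') = 1}
          one_mem' := one_pow _
          mul_mem' := by
            intro x y hx hy
            have hc : Commute x y := hab _ _
            show (x * y) ^ (2 ^ n') = 1
            rw [hc.mul_pow, hx, hy, one_mul]
          inv_mem' := by
            intro x hx
            show x⁻¹ ^ (2 ^ n') = 1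
            rw [inv_pow, hx, inv_one] }
      have hKmem : ∀ x, x ∈ K ↔ x ^ (2 ^ n') = 1 := fun x => Iff.rfl
      have hKsq : ∀ x : X, x * x ∈ K := by
        intro x
        rw [hKmem, ← pow_two, ← pow_mul, ← pow_succ']
        exact hxn x
      have hKα : ∀ x ∈ K, α x ∈ K := by
        intro x hx
        rw [hKmem] at hx ⊢
        rw [← map_pow, hx, map_one]
      have hKne : K ≠ ⊤ := by
        intro h
        have ha' : a ^ (2 ^ n') = 1 := (hKmem a).mp (h ▸ Subgroup.mem_top a)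
        have hb' : b ^ (2 ^ n') = 1 := (hKmem b).mp (h ▸ Subgroup.mem_top b)
        have h1 := orderOf_dvd_of_pow_eq_one ha'
        have h2 := orderOf_dvd_of_pow_eq_one hb'
        rw [hk] at h1; rw [hl] at h2
        have h3 : k ≤ n' := (Nat.pow_dvd_pow_iff_le_right (by norm_num)).mp h1
        have h4 : l ≤ n' := (Nat.pow_dvd_pow_iff_le_right (by norm_num)).mp h2
        have : max k l ≤ n' := max_le h3 h4
        omega
      have noK : ∀ a' b' : X, Gen a' b' → a' ∈ K → False := by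
        intro a' b' hg ha'
        have hb' : b' ∉ K := by
          intro hb'
          apply hKne
          rw [eq_top_iff]; intro x _
          obtain ⟨i, j, rfl⟩ := hg x
          exact K.mul_mem (K.zpow_mem ha' i) (K.zpow_mem hb' j)
        have hidx : K.index = 2 := by
          apply index_two_of_cover K b' hb'
          intro x
          obtain ⟨i, j, rfl⟩ := hg x
          rcases Int.even_or_odd' j with ⟨t, rfl | rfl⟩
          · left
            apply K.mul_mem (K.zpow_mem ha' i)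
            rw [zpow_mul, zpow_ofNat, pow_two]
            exact K.zpow_mem (hKsq b') t
          · right
            rw [mul_assoc]
            apply K.mul_mem (K.zpow_mem ha' i)
            have : b' ^ (2 * t + 1) * b' = (b' * b') ^ (t + 1) := by
              have hbb : b' * b' = b' ^ (2 : ℤ) := by rw [zpow_ofNat, pow_two]
              rw [hbb, ← zpow_mul, ← zpow_add_one]
              congr 1
              ring
            rw [this]
            exact K.zpow_mem (hKsq b') _
        exact hα K hidx hKα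
      have h1 : a ∉ K := fun h => noK a b hgen h
      have h2 : b ∉ K := fun h => noK b a (gen_swap hab a b hgen) h
      have h3 : a * b ∉ K := fun h => noK (a * b) b (gen_mul hab a b hgen) h
      rw [hKmem] at h1 h2 h3
      have hoa : orderOf a = 2 ^ (n' + 1) := orderOf_eq_prime_pow h1 han
      have hob : orderOf b = 2 ^ (n' + 1) := orderOf_eq_prime_pow h2 hbn
      refine ⟨hoa, hob, ?_⟩
      rw [eq_bot_iff]
      intro w hw
      rw [Subgroup.mem_bot]
      by_contra hw1
      obtain ⟨s, hs⟩ := (IsPGroup.iff_orderOf.mp hX) w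
      have hs1 : 1 ≤ s := by
        rcases Nat.eq_zero_or_pos s with h | h
        · rw [h, pow_zero, orderOf_eq_one_iff] at hs; exact absurd hs hw1
        · exact h
      obtain ⟨s', rfl⟩ : ∃ s', s = s' + 1 := ⟨s - 1, by omega⟩
      set v := w ^ (2 ^ s') with hv
      have hv2 : v * v = 1 := by
        rw [hv, ← pow_two, ← pow_mul, ← pow_succ, ← hs, pow_orderOf_eq_one]
      have hv1 : v ≠ 1 := by
        intro h
        have := orderOf_dvd_of_pow_eq_one h
        rw [hs] at this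
        have := (Nat.pow_dvd_pow_iff_le_right (by norm_num)).mp this
        omega
      have hva : v ∈ Subgroup.zpowers a := Subgroup.pow_mem _ hw.1 _
      have hvb : v ∈ Subgroup.zpowers b := Subgroup.pow_mem _ hw.2 _
      have e1 := unique_involution a (n' + 1) (by omega) hoa v hva hv2 hv1
      have e2 := unique_involution b (n' + 1) (by omega) hob v hvb hv2 hv1
      rw [Nat.add_sub_cancel] at e1 e2
      apply h3
      have hc : Commute a b := hab a b
      rw [hc.mul_pow, ← e1, ← e2, hv2]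
  obtain ⟨hoa, hob, hint⟩ := key
  obtain ⟨πa, hπa⟩ := exists_zmod_hom (2 ^ n) a han
  obtain ⟨πb, hπb⟩ := exists_zmod_hom (2 ^ n) b hbn
  let f : Multiplicative (ZMod (2 ^ n)) × Multiplicative (ZMod (2 ^ n)) →* X :=
    πa.noncommCoprod πb (fun u v => hab _ _)
  have hf : ∀ i j : ℤ, f (Multiplicative.ofAdd (i : ZMod (2 ^ n)), Multiplicative.ofAdd (j : ZMod (2 ^ n)))
      = a ^ i * b ^ j := by
    intro i j
    show πa _ * πb _ = _
    rw [hπa, hπb]
  have hinj : Function.Injective f := by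
    rw [injective_iff_map_eq_one]
    rintro ⟨u, v⟩ huv
    obtain ⟨i, hi⟩ := ZMod.intCast_surjective (Multiplicative.toAdd u)
    obtain ⟨j, hj⟩ := ZMod.intCast_surjective (Multiplicative.toAdd v)
    have hu : u = Multiplicative.ofAdd (i : ZMod (2 ^ n)) := by rw [hi]; rfl
    have hv : v = Multiplicative.ofAdd (j : ZMod (2 ^ n)) := by rw [hj]; rfl
    rw [hu, hv, hf] at huv
    have h1 : a ^ i = (b ^ j)⁻¹ := eq_inv_of_mul_eq_one_left huv
    have h2 : a ^ i ∈ Subgroup.zpowers a ⊓ Subgroup.zpowers b := by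
      refine ⟨Subgroup.zpow_mem_zpowers a i, ?_⟩
      rw [h1]; exact Subgroup.inv_mem _ (Subgroup.zpow_mem_zpowers b j)
    rw [hint, Subgroup.mem_bot] at h2
    have h3 : b ^ j = 1 := by rw [h2, one_mul] at huv; exact huv
    have h4 : ((orderOf a : ℕ) : ℤ) ∣ i := orderOf_dvd_iff_zpow_eq_one.mpr h2
    have h5 : ((orderOf b : ℕ) : ℤ) ∣ j := orderOf_dvd_iff_zpow_eq_one.mpr h3
    rw [hoa] at h4; rw [hob] at h5
    have h6 : (i : ZMod (2 ^ n)) = 0 := (ZMod.intCast_zmod_eq_zero_iff_dvd i (2 ^ n)).mpr h4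
    have h7 : (j : ZMod (2 ^ n)) = 0 := (ZMod.intCast_zmod_eq_zero_iff_dvd j (2 ^ n)).mpr h5
    rw [hu, hv, h6, h7]; rfl
  have hsurj : Function.Surjective f := by
    intro x
    obtain ⟨i, j, rfl⟩ := hgen x
    exact ⟨_, hf i j⟩
  exact ⟨(MulEquiv.ofBijective f ⟨hinj, hsurj⟩).symm⟩

end Cfsg.Agent.Lib.Helper1.MC
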