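import Mathlib
set_option autoImplicit false
universe u
namespace Cfsg.Agent.Lib.Helper1.QS

variable {G : Type u} [Group G]

/-- An element of odd order normalizing a cyclic `2`-subgroup centralizes it. -/
theorem centralizes_cyclic_two (Q : Subgroup G) [Finite Q] (hc : IsCyclic Q) (h2 : IsPGroup 2 Q)
    (g : G) (hg : g ∈ Subgroup.normalizer (Q : Set G)) (hodd : (orderOf g).Coprime 2) :
    ∀ q ∈ Q, g * q * g⁻¹ = q := by
  have : Fact (Nat.Prime 2) := ⟨Nat.prime_two⟩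
  obtain ⟨ψ, hψ⟩ : ∃ ψ : MulAut Q, ψ = Q.normalizerMonoidHom ⟨g, hg⟩ := ⟨_, rfl⟩
  have h1 : orderOf ψ ∣ orderOf g := by
    have : orderOf (⟨g, hg⟩ : Subgroup.normalizer (Q : Set G)) = orderOf g :=
      Subgroup.orderOf_mk g hg
    rw [hψ, ← this]
    exact orderOf_map_dvd _ _
  have h2' : ∃ t : ℕ, Nat.card (MulAut Q) = 2 ^ t := by
    obtain ⟨k, hk⟩ := IsPGroup.iff_card.mp h2
    rw [hc.card_mulAut, hk]
    rcases Nat.eq_zero_or_pos k with h0 | h0
    · exact ⟨0, by rw [h0, pow_zero, Nat.totient_one]⟩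
    · exact ⟨k - 1, by rw [Nat.totient_prime_pow Nat.prime_two h0]; simp⟩
  obtain ⟨t, ht⟩ := h2'
  have : Finite (MulAut Q) := Nat.finite_of_card_ne_zero (by rw [ht]; positivity)
  have h3 : orderOf ψ ∣ 2 ^ t := by rw [← ht]; exact orderOf_dvd_natCard ψ
  have h4 : orderOf ψ = 1 := by
    have hcop : (orderOf ψ).Coprime (2 ^ t) :=
      Nat.Coprime.pow_right t (Nat.Coprime.coprime_dvd_left h1 hodd)
    exact Nat.Coprime.eq_one_of_dvd hcop h3
  have h5 : ψ = 1 := orderOf_eq_one_iff.mp h4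
  intro q hq
  have h6 : ψ ⟨q, hq⟩ = ⟨q, hq⟩ := by rw [h5]; rfl
  have h7 := congrArg Subtype.val h6
  rw [hψ] at h7
  exact h7

/-- If `g` (of odd order) normalizes `Q` and a subgroup `B` it centralizes, and `Q / B` has order at
most `2` (elementwise), with `Q` a `2`-group, then `g` centralizes `Q`. -/
theorem centralizes_of_index_two [Finite G] (Q B : Subgroup G) (hBQ : B ≤ Q) (h2 : IsPGroup 2 Q)
    (hidx : ∀ q ∈ Q, ∀ q' ∈ Q, q ∉ B → q' ∉ B → q⁻¹ * q' ∈ B)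
    (g : G) (hg : g ∈ Subgroup.normalizer (Q : Set G)) (hgB : g ∈ Subgroup.normalizer (B : Set G))
    (hcB : ∀ b ∈ B, g * b * g⁻¹ = b) (hodd : (orderOf g).Coprime 2) :
    ∀ q ∈ Q, g * q * g⁻¹ = q := by
  intro q hq
  by_cases hqB : q ∈ B
  · exact hcB q hqB
  have hq' : g * q * g⁻¹ ∈ Q := (Subgroup.mem_normalizer_iff.mp hg q).mp hq
  have hq'B : g * q * g⁻¹ ∉ B := fun h => hqB ((Subgroup.mem_normalizer_iff.mp hgB q).mpr h)
  obtain ⟨β, hβ⟩ : ∃ β : G, β = q⁻¹ * (g * q * g⁻¹) := ⟨_, rfl⟩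
  have hβB : β ∈ B := by rw [hβ]; exact hidx q hq _ hq' hqB hq'B
  have hgq : g * q * g⁻¹ = q * β := by rw [hβ]; group
  have hgβ : g * β * g⁻¹ = β := hcB β hβB
  have hpow : ∀ k : ℕ, g ^ k * q * (g ^ k)⁻¹ = q * β ^ k := by
    intro k
    induction k with
    | zero => simp
    | succ k ih =>
      have e1 : g ^ (k + 1) * q * (g ^ (k + 1))⁻¹ = g * (g ^ k * q * (g ^ k)⁻¹) * g⁻¹ := by
        rw [pow_succ']; group
      have e2 : g * (q * β ^ k) * g⁻¹ = (g * q * g⁻¹) * (g * β * g⁻¹) ^ k := by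
        rw [conj_pow]; group
      rw [e1, ih, e2, hgq, hgβ, mul_assoc, ← pow_succ']
  have h1 := hpow (orderOf g)
  rw [pow_orderOf_eq_one, one_mul, inv_one, mul_one] at h1
  have h3 : β ^ orderOf g = 1 := by
    have := mul_left_cancel (a := q) (b := 1) (c := β ^ orderOf g) (by rw [mul_one]; exact h1)
    exact this.symm
  -- β is a 2-element
  obtain ⟨k, hk⟩ := h2 ⟨β, hBQ hβB⟩
  have hk' : β ^ 2 ^ k = 1 := by
    have := congrArg Subtype.val hk
    simpa using this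
  have h4 : orderOf β ∣ Nat.gcd (orderOf g) (2 ^ k) :=
    Nat.dvd_gcd (orderOf_dvd_of_pow_eq_one h3) (orderOf_dvd_of_pow_eq_one hk')
  have h5 : Nat.gcd (orderOf g) (2 ^ k) = 1 := Nat.Coprime.pow_right k hodd
  rw [h5] at h4
  have h6 : β = 1 := orderOf_eq_one_iff.mp (Nat.dvd_one.mp h4)
  rw [hgq, h6, mul_one]

end Cfsg.Agent.Lib.Helper1.QS
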