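import Mathlib
import Cfsg.Prelude.Def_LocalEven
import Cfsg.Agent.Lib.Helper1.Rk4
import Cfsg.Agent.Lib.Helper1.FrattiniAction
import Cfsg.Agent.Lib.Helper1.FrattiniP
import Cfsg.Agent.Lib.Helper1.FF13
import Cfsg.Agent.Lib.Helper2.Involves
import Cfsg.Agent.Lib.Helper5.S4Rec

/-! A group with a normal `2`-subgroup `Q`, `C(Q) ≤ Q`, and quotient `S_3` involves `S_4`. -/
set_option autoImplicit false
universe u

namespace Cfsg.Agent.Lib.Helper1.ThA

open Cfsg Cfsg.Agent.Lib.Helper1 Subgroup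
open scoped commutatorElement

section aux
variable {G : Type*} [Group G]

theorem mem_normalizer_of_conj_mem [Finite G] {M : Subgroup G} {g : G}
    (h : ∀ m ∈ M, g * m * g⁻¹ ∈ M) : g ∈ normalizer (M : Set G) := by
  have hpow : ∀ k : ℕ, ∀ m ∈ M, g ^ k * m * (g ^ k)⁻¹ ∈ M := by
    intro k
    induction k with
    | zero => intro m hm; simpa using hm
    | succ k ih =>
      intro m hm
      have := h _ (ih m hm)
      have e : g ^ (k + 1) * m * (g ^ (k + 1))⁻¹ = g * (g ^ k * m * (g ^ k)⁻¹) * g⁻¹ := by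
        rw [pow_succ']; group
      rw [e]; exact this
  have hle : zpowers g ≤ normalizer (M : Set G) := by
    apply le_normalizer_of_conj_mem
    intro s hs m hm
    rw [← mem_powers_iff_mem_zpowers] at hs
    obtain ⟨k, rfl⟩ := hs
    exact hpow k m hm
  exact hle (mem_zpowers g)

theorem card_closure_pair_le (v w : G) (hv : v ^ 2 = 1) (hw : w ^ 2 = 1) (hvw : v * w = w * v) :
    Nat.card (closure ({v, w} : Set G)) ≤ 4 := by
  have hc : Commute v w := hvw
  have hmem : ∀ g ∈ closure ({v, w} : Set G), ∃ i j : ℕ, g = v ^ i * w ^ j := by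
    intro g hg
    induction hg using closure_induction with
    | mem x hx =>
      rcases hx with rfl | hx
      · exact ⟨1, 0, by simp⟩
      · rw [Set.mem_singleton_iff] at hx
        subst hx
        exact ⟨0, 1, by simp⟩
    | one => exact ⟨0, 0, by simp⟩
    | mul x y _ _ hx hy =>
      obtain ⟨i, j, rfl⟩ := hx
      obtain ⟨k, l, rfl⟩ := hy
      refine ⟨i + k, j + l, ?_⟩
      have h1 : w ^ j * v ^ k = v ^ k * w ^ j := ((hc.pow_pow k j).eq).symm
      calc v ^ i * w ^ j * (v ^ k * w ^ l) = v ^ i * (w ^ j * v ^ k) * w ^ l := by group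
        _ = v ^ i * (v ^ k * w ^ j) * w ^ l := by rw [h1]
        _ = v ^ (i + k) * w ^ (j + l) := by rw [pow_add, pow_add]; group
    | inv x _ hx =>
      obtain ⟨i, j, rfl⟩ := hx
      refine ⟨i, j, ?_⟩
      have h1 : (v ^ i)⁻¹ = v ^ i := by
        rw [inv_eq_iff_mul_eq_one, ← pow_add, ← two_mul, pow_mul, hv, one_pow]
      have h2 : (w ^ j)⁻¹ = w ^ j := by
        rw [inv_eq_iff_mul_eq_one, ← pow_add, ← two_mul, pow_mul, hw, one_pow]
      rw [mul_inv_rev, h1, h2]
      exact ((hc.pow_pow i j).eq).symm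
  have hv' : v ∈ closure ({v, w} : Set G) := subset_closure (by simp)
  have hw' : w ∈ closure ({v, w} : Set G) := subset_closure (by simp)
  let f : Fin 2 × Fin 2 → closure ({v, w} : Set G) := fun ij =>
    ⟨v ^ (ij.1 : ℕ) * w ^ (ij.2 : ℕ), mul_mem (pow_mem hv' _) (pow_mem hw' _)⟩
  have hf : Function.Surjective f := by
    rintro ⟨g, hg⟩
    obtain ⟨i, j, rfl⟩ := hmem g hg
    refine ⟨(⟨i % 2, Nat.mod_lt _ (by norm_num)⟩, ⟨j % 2, Nat.mod_lt _ (by norm_num)⟩), ?_⟩
    apply Subtype.ext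
    show v ^ (i % 2) * w ^ (j % 2) = v ^ i * w ^ j
    rw [← pow_eq_pow_mod i hv, ← pow_eq_pow_mod j hw]
  have := Nat.card_le_card_of_surjective f hf
  simpa using this

end aux

section lemmaB
variable {Y : Type*} [Group Y] [Finite Y]

theorem s4_of_min (R : Subgroup Y) [hRn : R.Normal]
    (hR2 : IsPGroup 2 R) (hidx : R.index = 6) (x : Y) (hx3 : x ^ 3 = 1) (hxR : x ∉ R)
    (h2 : ∀ g : Y, g ^ 2 ∈ R ∨ g * x⁻¹ ∈ R ∨ g * x ∈ R)
    (h3 : ∀ b : Y, b ∉ R → b ^ 2 ∈ R → b * x * b⁻¹ * x ∈ R)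
    (hnc : ∃ r ∈ R, x * r ≠ r * x)
    (hmin : ∀ M : Subgroup Y, M.Normal → M ≤ R → M ≠ ⊥ → ∀ r ∈ R, x * r * x⁻¹ * r⁻¹ ∈ M) :
    Nonempty (Y ≃* Equiv.Perm (Fin 4)) := by
  haveI : Fact (Nat.Prime 2) := ⟨Nat.prime_two⟩
  haveI : Fact (Nat.Prime 3) := ⟨Nat.prime_three⟩
  have hx1 : x ≠ 1 := fun h => hxR (h ▸ R.one_mem)
  have hxo : orderOf x = 3 := orderOf_eq_prime hx3 hx1
  have hxinv : x⁻¹ = x ^ 2 := by
    rw [inv_eq_iff_mul_eq_one, ← pow_succ', hx3]
  -- (a) `R` is elementary abelian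
  obtain ⟨F, hF⟩ : ∃ F : Subgroup Y, F = (frattini R).map R.subtype := ⟨_, rfl⟩
  have hFn : F.Normal := by
    rw [← Subgroup.normalizer_eq_top_iff]
    have := normalizer_le_normalizer_map_characteristic R (frattini R)
    rw [Subgroup.normalizer_eq_top_iff.mpr hRn, ← hF] at this
    exact top_le_iff.mp this
  have hFR : F ≤ R := by rw [hF]; exact Subgroup.map_subtype_le _
  have hFbot : F = ⊥ := by
    by_contra hne
    have hm := hmin F hFn hFR hne
    obtain ⟨r, hr, hxr⟩ := hnc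
    have hcen : zpowers x ≤ centralizer (R : Set Y) := by
      apply centralizes_of_trivial_on_frattini_quotient (zpowers x) R
      · rw [Subgroup.normalizer_eq_top_iff.mpr hRn]; exact le_top
      · rw [Nat.card_zpowers, hxo]
        obtain ⟨k, hk⟩ := IsPGroup.iff_card.mp (hR2.to_subgroup (frattini R))
        rw [hk]
        exact Nat.Coprime.pow_right k (by norm_num)
      · -- the kernel of the action on `R/F` is a subgroup containing `x`
        have hker : ∀ k : ℕ, ∀ t ∈ R, x ^ k * t * (x ^ k)⁻¹ * t⁻¹ ∈ F := by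
          intro k
          induction k with
          | zero => intro t _; simp
          | succ k ih =>
            intro t ht
            have h1 := ih t ht
            have ht' : x ^ k * t * (x ^ k)⁻¹ ∈ R := hRn.conj_mem t ht _
            have h2' := hm _ ht'
            have e : x ^ (k + 1) * t * (x ^ (k + 1))⁻¹ * t⁻¹ =
                (x * (x ^ k * t * (x ^ k)⁻¹) * x⁻¹ * (x ^ k * t * (x ^ k)⁻¹)⁻¹) *
                  (x ^ k * t * (x ^ k)⁻¹ * t⁻¹) := by
              rw [pow_succ']; group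
            rw [e]
            exact F.mul_mem h2' h1
        intro a ha t ht
        rw [← mem_powers_iff_mem_zpowers] at ha
        obtain ⟨k, rfl⟩ := ha
        rw [← hF]
        exact hker k t ht
    exact hxr (mem_centralizer_iff.mp (hcen (mem_zpowers x)) r hr).symm
  have hfrat : frattini R = ⊥ := by
    rw [hF, Subgroup.map_eq_bot_iff_of_injective _ R.subtype_injective] at hFbot
    exact hFbot
  have hRcomm : ∀ a ∈ R, ∀ b ∈ R, a * b = b * a := by
    intro a ha b hb
    have h1 := commutator_le_frattini_of_isPGroup 2 hR2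
    rw [hfrat, le_bot_iff] at h1
    have h4 : ⁅(⟨a, ha⟩ : R), ⟨b, hb⟩⁆ ∈ commutator R :=
      Subgroup.commutator_mem_commutator (mem_top _) (mem_top _)
    rw [h1, mem_bot, commutatorElement_eq_one_iff_mul_comm] at h4
    exact congrArg Subtype.val h4
  have hRsq : ∀ a ∈ R, a ^ 2 = 1 := by
    intro a ha
    have h1 := pow_prime_mem_frattini_of_isPGroup 2 hR2 (⟨a, ha⟩ : R)
    rw [hfrat, mem_bot] at h1
    exact congrArg Subtype.val h1
  -- conjugates of `x`
  have hconj : ∀ g : Y, g * x * g⁻¹ * x⁻¹ ∈ R ∨ g * x * g⁻¹ * x ∈ R := by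
    intro g
    rcases h2 g with h | h | h
    · by_cases hg : g ∈ R
      · left
        have h1 : x * g⁻¹ * x⁻¹ ∈ R := hRn.conj_mem _ (R.inv_mem hg) x
        have e : g * x * g⁻¹ * x⁻¹ = g * (x * g⁻¹ * x⁻¹) := by group
        rw [e]; exact R.mul_mem hg h1
      · right
        exact h3 g hg h
    · left
      -- g = r x
      have h1 : x * (g * x⁻¹)⁻¹ * x⁻¹ ∈ R := hRn.conj_mem _ (R.inv_mem h) x
      have e : g * x * g⁻¹ * x⁻¹ = (g * x⁻¹) * (x * (g * x⁻¹)⁻¹ * x⁻¹) := by group
      rw [e]; exact R.mul_mem h h1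
    · left
      have h1 : x * (g * x)⁻¹ * x⁻¹ ∈ R := hRn.conj_mem _ (R.inv_mem h) x
      have e : g * x * g⁻¹ * x⁻¹ = (g * x) * (x * (g * x)⁻¹ * x⁻¹) := by group
      rw [e]; exact R.mul_mem h h1
  -- (b) `C_R(x) = 1`
  obtain ⟨C₀, hC₀⟩ : ∃ C₀ : Subgroup Y, C₀ = R ⊓ centralizer ({x} : Set Y) := ⟨_, rfl⟩
  have hC₀mem : ∀ c, c ∈ C₀ ↔ c ∈ R ∧ x * c = c * x := by
    intro c
    rw [hC₀, mem_inf, mem_centralizer_iff]
    constructor
    · rintro ⟨h1, h⟩
      exact ⟨h1, (h x rfl)⟩
    · rintro ⟨h1, h⟩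
      refine ⟨h1, ?_⟩
      intro y hy
      rw [Set.mem_singleton_iff] at hy
      rw [hy]; exact h
  have hC₀n : C₀.Normal := by
    constructor
    intro c hc g
    obtain ⟨hcR, hcx⟩ := (hC₀mem c).mp hc
    rw [hC₀mem]
    refine ⟨hRn.conj_mem c hcR g, ?_⟩
    -- y = g⁻¹ x g commutes with c
    have hy : (g⁻¹ * x * g) * c = c * (g⁻¹ * x * g) := by
      rcases hconj g⁻¹ with h | h
      · rw [inv_inv] at h
        -- g⁻¹ x g = r x
        have e : g⁻¹ * x * g = (g⁻¹ * x * g * x⁻¹) * x := by group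
        rw [e, mul_assoc, hcx, ← mul_assoc, hRcomm _ h c hcR, mul_assoc]
      · rw [inv_inv] at h
        have hcx' : x⁻¹ * c = c * x⁻¹ := (Commute.inv_left (show Commute x c from hcx)).eq
        have e : g⁻¹ * x * g = (g⁻¹ * x * g * x) * x⁻¹ := by group
        rw [e, mul_assoc, hcx', ← mul_assoc, hRcomm _ h c hcR, mul_assoc]
    calc x * (g * c * g⁻¹) = g * ((g⁻¹ * x * g) * c) * g⁻¹ := by group
      _ = g * (c * (g⁻¹ * x * g)) * g⁻¹ := by rw [hy]
      _ = g * c * g⁻¹ * x := by group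
  have hC₀bot : C₀ = ⊥ := by
    by_contra hne
    have hm := hmin C₀ hC₀n (by rw [hC₀]; exact inf_le_left) hne
    obtain ⟨r, hr, hxr⟩ := hnc
    apply hxr
    have hc := hm r hr
    obtain ⟨hcR, hcx⟩ := (hC₀mem _).mp hc
    set c := x * r * x⁻¹ * r⁻¹ with hcdef
    have h1 : x * r * x⁻¹ = c * r := by rw [hcdef]; group
    have h4 := Cfsg.Agent.Lib.Helper1.FF.conj_pow_of_conj h1 hcx 3
    rw [hx3, one_mul, inv_one, mul_one] at h4
    have hc3 : c ^ 3 = 1 := by
      have := mul_right_cancel (b := r) (a := 1) (c := c ^ 3) (by rw [one_mul]; exact h4)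
      exact this.symm
    have hc2 : c ^ 2 = 1 := hRsq c hcR
    have hc1 : c = 1 := by
      have : c ^ 3 = c ^ 2 * c := pow_succ c 2
      rw [hc3, hc2, one_mul] at this
      exact this.symm
    rw [hc1, one_mul] at h1
    calc x * r = x * r * x⁻¹ * x := by group
      _ = r * x := by rw [h1]
  have hfpf : ∀ c ∈ R, x * c = c * x → c = 1 := by
    intro c hc hcx
    have : c ∈ C₀ := (hC₀mem c).mpr ⟨hc, hcx⟩
    rw [hC₀bot, mem_bot] at this
    exact this
  -- `R ≤ M` for every nontrivial normal `M ≤ R`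
  have hRM : ∀ M : Subgroup Y, M.Normal → M ≤ R → M ≠ ⊥ → M = R := by
    intro M hMn hMR hMne
    apply le_antisymm hMR
    have hm := hmin M hMn hMR hMne
    -- the map r ↦ [x, r] is injective on R
    let φ : R → R := fun r => ⟨x * r * x⁻¹ * r⁻¹,
      R.mul_mem (hRn.conj_mem r r.2 x) (R.inv_mem r.2)⟩
    have hφinj : Function.Injective φ := by
      intro r s hrs
      have h1 : x * (r : Y) * x⁻¹ * (r : Y)⁻¹ = x * (s : Y) * x⁻¹ * (s : Y)⁻¹ :=
        congrArg Subtype.val hrs
      -- s⁻¹ r is fixed by x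
      have hfix : x * ((s : Y)⁻¹ * (r : Y)) = ((s : Y)⁻¹ * (r : Y)) * x := by
        have hxr : x * (r : Y) * x⁻¹ ∈ R := hRn.conj_mem r r.2 x
        have hxs : x * (s : Y) * x⁻¹ ∈ R := hRn.conj_mem s s.2 x
        -- from h1: (x r x⁻¹) r⁻¹ = (x s x⁻¹) s⁻¹
        have h5 : x * ((s : Y)⁻¹ * (r : Y)) * x⁻¹ = (s : Y)⁻¹ * (r : Y) := by
          have e1 : x * ((s : Y)⁻¹ * (r : Y)) * x⁻¹ = (x * (s : Y) * x⁻¹)⁻¹ * (x * (r : Y) * x⁻¹) := by
            group
          rw [e1]
          have h6 : x * (r : Y) * x⁻¹ = x * (s : Y) * x⁻¹ * (s : Y)⁻¹ * (r : Y) := by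
            rw [← h1]; group
          rw [h6]
          group
        exact mul_inv_eq_iff_eq_mul.mp h5
      have := hfpf _ (R.mul_mem (R.inv_mem s.2) r.2) hfix
      apply Subtype.ext
      have h8 : (r : Y) = (s : Y) * ((s : Y)⁻¹ * (r : Y)) := by group
      rw [h8, this, mul_one]
    have hφsurj : Function.Surjective φ := Finite.injective_iff_surjective.mp hφinj
    intro r hr
    obtain ⟨s, hs⟩ := hφsurj ⟨r, hr⟩
    have : x * (s : Y) * x⁻¹ * (s : Y)⁻¹ = r := congrArg Subtype.val hs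
    rw [← this]
    exact hm s s.2
  -- (c) an involution `b` modulo `R` and a fixed vector
  have hcardq : Nat.card (Y ⧸ R) = 6 := by rw [← Subgroup.index_eq_card]; exact hidx
  obtain ⟨bq, hbq⟩ := exists_prime_orderOf_dvd_card' (G := Y ⧸ R) 2 (by rw [hcardq]; norm_num)
  obtain ⟨b, rfl⟩ := QuotientGroup.mk_surjective bq
  have hbR : b ∉ R := by
    intro h
    have : (b : Y ⧸ R) = 1 := (QuotientGroup.eq_one_iff b).mpr h
    rw [this, orderOf_one] at hbq
    omega
  have hb2 : b ^ 2 ∈ R := by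
    rw [← QuotientGroup.eq_one_iff]
    have : (b : Y ⧸ R) ^ 2 = 1 := by rw [← hbq]; exact pow_orderOf_eq_one _
    exact this
  have hRne : R ≠ ⊥ := by
    obtain ⟨r, hr, hxr⟩ := hnc
    intro h
    rw [h, mem_bot] at hr
    apply hxr
    rw [hr, mul_one, one_mul]
  obtain ⟨v, hvR, hv1, hbv⟩ : ∃ v ∈ R, v ≠ 1 ∧ b * v * b⁻¹ = v := by
    let c : MulAut R := MulAut.conjNormal b
    have hc2 : c ^ 2 = 1 := by
      ext r
      rw [← map_pow]
      show ((MulAut.conjNormal (b ^ 2) r : R) : Y) = r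
      rw [MulAut.conjNormal_apply]
      have := hRcomm _ hb2 r r.2
      rw [this]; group
    have hmod := Rk.card_modEq_card_fixedSub c hc2
    obtain ⟨k, hk⟩ := IsPGroup.iff_card.mp hR2
    have hk0 : k ≠ 0 := by
      rintro rfl
      rw [pow_zero] at hk
      have := Subgroup.card_eq_one.mp hk
      exact hRne this
    have heven : 2 ∣ Nat.card (Rk.fixedSub c) := by
      have h1 : 2 ∣ Nat.card R := by rw [hk]; exact dvd_pow_self 2 hk0
      exact (Nat.modEq_zero_iff_dvd.mp ((hmod.symm).trans (Nat.modEq_zero_iff_dvd.mpr h1)))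
    have hne : Rk.fixedSub c ≠ ⊥ := by
      intro h
      rw [h, Subgroup.card_bot] at heven
      omega
    obtain ⟨⟨v, hv⟩, hv1⟩ := (Subgroup.ne_bot_iff_exists_ne_one).mp hne
    have hv1' : (v : R) ≠ 1 := fun h => hv1 (Subtype.ext h)
    refine ⟨(v : Y), v.2, fun h => hv1' (Subtype.ext h), ?_⟩
    have := Rk.mem_fixedSub.mp hv
    have h5 := congrArg Subtype.val this
    rwa [MulAut.conjNormal_apply] at h5
  -- the subgroup `M`
  obtain ⟨w₁, hw₁⟩ : ∃ w₁ : Y, w₁ = x * v * x⁻¹ := ⟨_, rfl⟩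
  obtain ⟨w₂, hw₂⟩ : ∃ w₂ : Y, w₂ = x⁻¹ * v * x := ⟨_, rfl⟩
  have hw₁R : w₁ ∈ R := by rw [hw₁]; exact hRn.conj_mem v hvR x
  have hw₂R : w₂ ∈ R := by
    rw [hw₂]
    have := hRn.conj_mem v hvR x⁻¹
    rwa [inv_inv] at this
  have hprod : v * w₁ * w₂ = 1 := by
    apply hfpf _ (R.mul_mem (R.mul_mem hvR hw₁R) hw₂R)
    have hxw₁ : x * w₁ * x⁻¹ = w₂ := by
      rw [hw₁, hw₂]
      have : x * (x * v * x⁻¹) * x⁻¹ = x ^ 2 * v * (x ^ 2)⁻¹ := by rw [pow_two]; group
      rw [this, ← hxinv, inv_inv]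
    have hxw₂ : x * w₂ * x⁻¹ = v := by rw [hw₂]; group
    have e : x * (v * w₁ * w₂) = (x * v * x⁻¹) * (x * w₁ * x⁻¹) * (x * w₂ * x⁻¹) * x := by group
    rw [e, ← hw₁, hxw₁, hxw₂, hRcomm _ (R.mul_mem hw₁R hw₂R) v hvR, ← mul_assoc v]
  obtain ⟨M, hM⟩ : ∃ M : Subgroup Y, M = closure ({v, w₁} : Set Y) := ⟨_, rfl⟩
  have hvM : v ∈ M := by rw [hM]; exact subset_closure (by simp)
  have hw₁M : w₁ ∈ M := by rw [hM]; exact subset_closure (by simp)
  have hw₂M : w₂ ∈ M := by
    have : w₂ = (v * w₁)⁻¹ := by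
      rw [eq_inv_iff_mul_eq_one, hRcomm w₂ hw₂R _ (R.mul_mem hvR hw₁R)]
      exact hprod
    rw [this]
    exact M.inv_mem (M.mul_mem hvM hw₁M)
  have hMR : M ≤ R := by
    rw [hM, closure_le]
    intro y hy
    rcases hy with rfl | hy
    · exact hvR
    · rw [Set.mem_singleton_iff] at hy
      rw [hy]; exact hw₁R
  have hMcard : Nat.card M ≤ 4 := by
    rw [hM]
    exact card_closure_pair_le v w₁ (hRsq v hvR) (hRsq w₁ hw₁R) (hRcomm v hvR w₁ hw₁R)
  -- `M` is normal
  have hconjM : ∀ g : Y, g * v * g⁻¹ ∈ M → g * w₁ * g⁻¹ ∈ M → ∀ m ∈ M, g * m * g⁻¹ ∈ M := by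
    intro g hg1 hg2 m hm
    have hle : M ≤ M.comap (MulAut.conj g).toMonoidHom := by
      rw [hM, closure_le]
      intro y hy
      rw [← hM]
      rcases hy with rfl | hy
      · show MulAut.conj g y ∈ M
        rw [MulAut.conj_apply]; exact hg1
      · rw [Set.mem_singleton_iff] at hy
        rw [hy]
        show MulAut.conj g w₁ ∈ M
        rw [MulAut.conj_apply]; exact hg2
    have := hle hm
    rw [mem_comap] at this
    simpa [MulAut.conj_apply] using this
  have hNR : R ≤ normalizer (M : Set Y) := by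
    intro r hr
    apply mem_normalizer_of_conj_mem
    apply hconjM
    · rw [hRcomm r hr v hvR]
      have : v * r * r⁻¹ = v := by group
      rw [this]; exact hvM
    · rw [hRcomm r hr w₁ hw₁R]
      have : w₁ * r * r⁻¹ = w₁ := by group
      rw [this]; exact hw₁M
  have hNx : x ∈ normalizer (M : Set Y) := by
    apply mem_normalizer_of_conj_mem
    apply hconjM
    · rw [← hw₁]; exact hw₁M
    · have : x * w₁ * x⁻¹ = w₂ := by
        rw [hw₁, hw₂]
        have : x * (x * v * x⁻¹) * x⁻¹ = x ^ 2 * v * (x ^ 2)⁻¹ := by rw [pow_two]; group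
        rw [this, ← hxinv, inv_inv]
      rw [this]; exact hw₂M
  have hNb : b ∈ normalizer (M : Set Y) := by
    apply mem_normalizer_of_conj_mem
    apply hconjM
    · rw [hbv]; exact hvM
    · have hr := h3 b hbR hb2
      set r := b * x * b⁻¹ * x with hrdef
      have e : b * w₁ * b⁻¹ = r * (x⁻¹ * (b * v * b⁻¹) * x) * r⁻¹ := by
        rw [hw₁, hrdef]; group
      rw [e, hbv, ← hw₂, hRcomm r hr w₂ hw₂R]
      have : w₂ * r * r⁻¹ = w₂ := by group
      rw [this]; exact hw₂M
  have hNtop : normalizer (M : Set Y) = ⊤ := by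
    obtain ⟨Nb, hNbdef⟩ : ∃ Nb : Subgroup (Y ⧸ R), Nb = (normalizer (M : Set Y)).map (QuotientGroup.mk' R) :=
      ⟨_, rfl⟩
    have hxq : orderOf (x : Y ⧸ R) = 3 := by
      apply orderOf_eq_prime
      · rw [← QuotientGroup.mk_pow, hx3]; rfl
      · intro h
        exact hxR ((QuotientGroup.eq_one_iff x).mp h)
    have h3d : 3 ∣ Nat.card Nb := by
      have hmem : (x : Y ⧸ R) ∈ Nb := by rw [hNbdef]; exact ⟨x, hNx, rfl⟩
      have := orderOf_dvd_natCard (⟨(x : Y ⧸ R), hmem⟩ : Nb)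
      rwa [Subgroup.orderOf_mk, hxq] at this
    have h2d : 2 ∣ Nat.card Nb := by
      have hmem : (b : Y ⧸ R) ∈ Nb := by rw [hNbdef]; exact ⟨b, hNb, rfl⟩
      have := orderOf_dvd_natCard (⟨(b : Y ⧸ R), hmem⟩ : Nb)
      rwa [Subgroup.orderOf_mk, hbq] at this
    have h6d : 6 ∣ Nat.card Nb :=
      Nat.Coprime.mul_dvd_of_dvd_of_dvd (by norm_num : Nat.Coprime 2 3) h2d h3d
    have hNbtop : Nb = ⊤ := by
      apply Subgroup.eq_top_of_le_card
      rw [hcardq]
      exact Nat.le_of_dvd Nat.card_pos h6d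
    rw [eq_top_iff]
    intro g _
    have : (g : Y ⧸ R) ∈ Nb := by rw [hNbtop]; exact mem_top _
    rw [hNbdef] at this
    obtain ⟨n, hn, hng⟩ := this
    have h1 : n⁻¹ * g ∈ R := by
      rw [← QuotientGroup.eq_one_iff]
      show ((n⁻¹ * g : Y) : Y ⧸ R) = 1
      rw [QuotientGroup.mk_mul, QuotientGroup.mk_inv]
      have : (n : Y ⧸ R) = (g : Y ⧸ R) := hng
      rw [this, inv_mul_cancel]
    have : g = n * (n⁻¹ * g) := by group
    rw [this]
    exact (normalizer (M : Set Y)).mul_mem hn (hNR h1)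
  have hMn : M.Normal := Subgroup.normalizer_eq_top_iff.mp hNtop
  have hMne : M ≠ ⊥ := by
    intro h
    rw [h, mem_bot] at hvM
    exact hv1 hvM
  have hMeq := hRM M hMn hMR hMne
  -- `|R| = 4`
  have hRcard : Nat.card R = 4 := by
    have hle : Nat.card R ≤ 4 := by rw [← hMeq]; exact hMcard
    obtain ⟨k, hk⟩ := IsPGroup.iff_card.mp hR2
    rw [hk] at hle ⊢
    have hk2 : k ≤ 2 := by
      by_contra hcon
      push Not at hcon
      have : 2 ^ 3 ≤ 2 ^ k := Nat.pow_le_pow_right (by norm_num) hcon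
      omega
    have hk0 : k ≠ 0 := by
      rintro rfl
      rw [pow_zero] at hk
      exact hRne (Subgroup.card_eq_one.mp hk)
    have hk1 : k ≠ 1 := by
      rintro rfl
      rw [pow_one] at hk
      -- R = {1, v}; x fixes v
      have hxv : x * v * x⁻¹ = v := by
        have hw : x * v * x⁻¹ ∈ R := hRn.conj_mem v hvR x
        by_contra hne
        -- three distinct elements 1, v, xvx⁻¹ in R
        have hne1 : x * v * x⁻¹ ≠ 1 := by
          intro h
          apply hv1
          have : v = x⁻¹ * (x * v * x⁻¹) * x := by group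
          rw [this, h]; group
        have hsub : ({(1 : Y), v, x * v * x⁻¹} : Set Y) ⊆ (R : Set Y) := by
          intro y hy
          rcases hy with rfl | rfl | hy
          · exact R.one_mem
          · exact hvR
          · rw [Set.mem_singleton_iff] at hy
            rw [hy]; exact hw
        have h3c : ({(1 : Y), v, x * v * x⁻¹} : Set Y).ncard = 3 := by
          rw [Set.ncard_eq_three]
          exact ⟨1, v, x * v * x⁻¹, fun h => hv1 h.symm, fun h => hne1 h.symm,
            fun h => hne h.symm, rfl⟩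
        have := Set.ncard_le_ncard hsub (Set.toFinite _)
        rw [h3c, ← Nat.card_coe_set_eq] at this
        have h4 : Nat.card (R : Set Y) = Nat.card R := rfl
        omega
      apply hv1
      apply hfpf v hvR
      calc x * v = x * v * x⁻¹ * x := by group
        _ = v * x := by rw [hxv]
    have hk2' : k = 2 := by omega
    rw [hk2']
    norm_num
  -- (d) Klein four, self-centralizing
  have hKlein : IsKleinFour R := by
    refine ⟨hRcard, ?_⟩
    have hdvd : Monoid.exponent R ∣ 2 := by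
      apply Monoid.exponent_dvd_of_forall_pow_eq_one
      intro g
      apply Subtype.ext
      rw [Subgroup.coe_pow, hRsq g g.2]; rfl
    rcases (Nat.dvd_prime Nat.prime_two).mp hdvd with h | h
    · exfalso
      rw [Monoid.exp_eq_one_iff] at h
      have : Nat.card R = 1 := Nat.card_unique
      omega
    · exact h
  have hC : ∀ g : Y, (∀ t ∈ R, g * t = t * g) → g ∈ R := by
    intro g hg
    obtain ⟨r, hr, hxr⟩ := hnc
    by_contra hgR
    apply hxr
    -- `x` is in the centralizer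
    have hxc : ∀ t ∈ R, x * t = t * x := by
      rcases h2 g with h | h | h
      · have h4 := h3 g hgR h
        set s := g * x * g⁻¹ * x with hsdef
        intro t ht
        -- (g x g⁻¹) t (g x g⁻¹)⁻¹ = x t x⁻¹ and = x⁻¹ t x
        have hxt : x * t * x⁻¹ ∈ R := hRn.conj_mem t ht x
        have hxt' : x⁻¹ * t * x ∈ R := by
          have := hRn.conj_mem t ht x⁻¹
          rwa [inv_inv] at this
        have e1 : (g * x * g⁻¹) * t * (g * x * g⁻¹)⁻¹ = x * t * x⁻¹ := by
          have hgt : g⁻¹ * t * g = t := by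
            have := hg t ht
            calc g⁻¹ * t * g = g⁻¹ * (t * g) := by group
              _ = g⁻¹ * (g * t) := by rw [this]
              _ = t := by group
          calc (g * x * g⁻¹) * t * (g * x * g⁻¹)⁻¹ = g * (x * (g⁻¹ * t * g) * x⁻¹) * g⁻¹ := by group
            _ = g * (x * t * x⁻¹) * g⁻¹ := by rw [hgt]
            _ = (x * t * x⁻¹) * g * g⁻¹ := by rw [hg _ hxt]
            _ = x * t * x⁻¹ := by group
        have e2 : (g * x * g⁻¹) * t * (g * x * g⁻¹)⁻¹ = x⁻¹ * t * x := by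
          have : g * x * g⁻¹ = s * x⁻¹ := by rw [hsdef]; group
          rw [this]
          calc s * x⁻¹ * t * (s * x⁻¹)⁻¹ = s * (x⁻¹ * t * x) * s⁻¹ := by group
            _ = (x⁻¹ * t * x) * s * s⁻¹ := by rw [hRcomm s h4 _ hxt']
            _ = x⁻¹ * t * x := by group
        have e3 : x * t * x⁻¹ = x⁻¹ * t * x := e1.symm.trans e2
        -- x² t x⁻² = t
        have e4 : x ^ 2 * t * (x ^ 2)⁻¹ = t := by
          have : x ^ 2 * t * (x ^ 2)⁻¹ = x * (x * t * x⁻¹) * x⁻¹ := by rw [pow_two]; group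
          rw [this, e3]; group
        rw [← hxinv, inv_inv] at e4
        calc x * t = x * (x⁻¹ * t * x) := by rw [e4]
          _ = t * x := by group
      · intro t ht
        -- g = s x
        have hs := h
        have hgt := hg t ht
        have hxt : x * t * x⁻¹ ∈ R := hRn.conj_mem t ht x
        have e : g = (g * x⁻¹) * x := by group
        rw [e] at hgt
        have h5 : (g * x⁻¹) * (x * t * x⁻¹) = (x * t * x⁻¹) * (g * x⁻¹) := hRcomm _ hs _ hxt
        have h6 : g * x⁻¹ * x * t = (x * t * x⁻¹) * (g * x⁻¹) * x := by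
          rw [← h5]; group
        rw [h6] at hgt
        have h7 : (x * t * x⁻¹) * (g * x⁻¹) * x = t * (g * x⁻¹) * x := by
          rw [hgt]; group
        have h8 : x * t * x⁻¹ = t := by
          have := mul_right_cancel (mul_right_cancel h7)
          exact this
        calc x * t = x * t * x⁻¹ * x := by group
          _ = t * x := by rw [h8]
      · intro t ht
        have hs := h
        have hgt := hg t ht
        have hxt : x⁻¹ * t * x ∈ R := by
          have := hRn.conj_mem t ht x⁻¹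
          rwa [inv_inv] at this
        have e : g = (g * x) * x⁻¹ := by group
        rw [e] at hgt
        have h5 : (g * x) * (x⁻¹ * t * x) = (x⁻¹ * t * x) * (g * x) := hRcomm _ hs _ hxt
        have h6 : g * x * x⁻¹ * t = (x⁻¹ * t * x) * (g * x) * x⁻¹ := by
          rw [← h5]; group
        rw [h6] at hgt
        have h7 : (x⁻¹ * t * x) * (g * x) * x⁻¹ = t * (g * x) * x⁻¹ := by
          rw [hgt]; group
        have h8 : x⁻¹ * t * x = t := by
          have := mul_right_cancel (mul_right_cancel h7)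
          exact this
        calc x * t = x * (x⁻¹ * t * x) := by rw [h8]
          _ = t * x := by group
    exact hxc r hr
  have hYcard : Nat.card Y = 24 := by
    rw [← Subgroup.card_mul_index R, hRcard, hidx]
  exact Cfsg.Agent.Lib.Helper5.S4Rec.nonempty_mulEquiv_perm hYcard R hKlein hC

end lemmaB

end Cfsg.Agent.Lib.Helper1.ThA
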