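import Mathlib
import Cfsg.Prelude.Def_Transfer
import Cfsg.Agent.Lib.Helper1.QS1
import Cfsg.Agent.Lib.Helper1.FrobeniusPComplement
import Cfsg.Agent.Lib.Helper1.ThA2
import Cfsg.Agent.Lib.Helper7.UniqueOrderP
import Cfsg.Agent.Lib.Lead.UniqueP
set_option autoImplicit false
universe u
namespace Cfsg.Agent.Lib.Helper1.QS

open QuaternionGroup

variable {G : Type u} [Group G]

/-- Subgroups of a group with `UOP` inherit it (for subgroups of the ambient group). -/
theorem uop_of_le {T Q : Subgroup G} (hT : Cfsg.Agent.Lib.Lead.UniqueP.UOP 2 T) (hQT : Q ≤ T) :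
    Cfsg.Agent.Lib.Lead.UniqueP.UOP 2 Q := by
  intro x y hx hy hx1
  have h1 := hT ⟨x, hQT x.2⟩ ⟨y, hQT y.2⟩
    (Subtype.ext (by rw [Subgroup.coe_pow]; exact congrArg Subtype.val hx))
    (Subtype.ext (by rw [Subgroup.coe_pow]; exact congrArg Subtype.val hy))
    (fun e => hx1 (Subtype.ext (by have := congrArg Subtype.val e; exact this)))
  obtain ⟨k, hk⟩ := Subgroup.mem_zpowers_iff.mp h1
  rw [Subgroup.mem_zpowers_iff]
  refine ⟨k, Subtype.ext ?_⟩
  have := congrArg Subtype.val hk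
  rw [Subgroup.coe_zpow] at this ⊢
  exact this

/-- An element of odd order normalizing a generalized quaternion subgroup of order `≥ 16`
centralizes it. -/
theorem centralizes_big_quaternion [Finite G] (Q : Subgroup G) (k : ℕ) (hk : 2 ≤ k)
    (φ : Q ≃* QuaternionGroup (2 ^ k)) (g : G) (hg : g ∈ Subgroup.normalizer (Q : Set G))
    (hodd : (orderOf g).Coprime 2) : ∀ q ∈ Q, g * q * g⁻¹ = q := by
  have : NeZero (2 ^ k) := ⟨by positivity⟩
  have h2 : IsPGroup 2 Q := by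
    apply IsPGroup.of_card (n := k + 2)
    rw [Nat.card_congr φ.toEquiv, Nat.card_eq_fintype_card, QuaternionGroup.card]
    ring
  obtain ⟨b₀, hb₀⟩ : ∃ b₀ : G, b₀ = (φ.symm (a 1) : G) := ⟨_, rfl⟩
  have hb₀Q : b₀ ∈ Q := by rw [hb₀]; exact (φ.symm (a 1)).2
  -- elements with nontrivial fourth power are powers of b₀
  have hpow4 : ∀ q ∈ Q, q ^ 4 ≠ 1 → q ∈ Subgroup.zpowers b₀ := by
    intro q hq hq4
    rcases hφ : φ ⟨q, hq⟩ with i | i
    · have h1 : (⟨q, hq⟩ : Q) = φ.symm (a i) := by rw [← hφ, MulEquiv.symm_apply_apply]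
      have h2 : (a i : QuaternionGroup (2 ^ k)) = (a 1) ^ i.val := by
        rw [a_one_pow, ZMod.natCast_zmod_val]
      rw [h2, map_pow] at h1
      have h3 := congrArg Subtype.val h1
      rw [Subgroup.coe_pow, ← hb₀] at h3
      rw [show q = b₀ ^ i.val from h3]
      exact Subgroup.pow_mem _ (Subgroup.mem_zpowers b₀) _
    · exfalso
      apply hq4
      have h1 : (φ ⟨q, hq⟩) ^ 4 = 1 := by rw [hφ, xa_pow_four]
      rw [← map_pow, MulEquiv.map_eq_one_iff] at h1
      have := congrArg Subtype.val h1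
      simpa using this
  have hb₀4 : b₀ ^ 4 ≠ 1 := by
    intro h
    have h1 : (φ.symm (a 1)) ^ 4 = 1 := Subtype.ext (by rw [Subgroup.coe_pow, ← hb₀]; exact h)
    rw [← map_pow, MulEquiv.map_eq_one_iff] at h1
    have h2 : orderOf (a 1 : QuaternionGroup (2 ^ k)) ∣ 4 := orderOf_dvd_of_pow_eq_one h1
    rw [orderOf_a_one] at h2
    have h3 : 2 * 2 ^ k ≤ 4 := Nat.le_of_dvd (by norm_num) h2
    have h4 : 2 ^ 2 ≤ 2 ^ k := Nat.pow_le_pow_right (by norm_num) hk
    omega
  obtain ⟨B, hB⟩ : ∃ B : Subgroup G, B = Subgroup.zpowers b₀ := ⟨_, rfl⟩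
  have hBQ : B ≤ Q := by rw [hB, Subgroup.zpowers_le]; exact hb₀Q
  -- g normalizes B
  have hgB : g ∈ Subgroup.normalizer (B : Set G) := by
    apply Cfsg.Agent.Lib.Helper1.ThA.mem_normalizer_of_conj_mem
    intro m hm
    rw [hB] at hm ⊢
    obtain ⟨j, rfl⟩ := Subgroup.mem_zpowers_iff.mp hm
    have e1 : g * b₀ ^ j * g⁻¹ = (g * b₀ * g⁻¹) ^ j := by rw [conj_zpow]
    rw [e1]
    apply Subgroup.zpow_mem
    apply hpow4
    · exact (Subgroup.mem_normalizer_iff.mp hg b₀).mp hb₀Q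
    · rw [conj_pow]
      intro h
      apply hb₀4
      have : b₀ ^ 4 = g⁻¹ * (g * b₀ ^ 4 * g⁻¹) * g := by group
      rw [this, h]; group
  have : Finite B := inferInstance
  have hcB : ∀ b ∈ B, g * b * g⁻¹ = b := by
    apply centralizes_cyclic_two B _ (h2.to_le hBQ) g hgB hodd
    rw [hB]; infer_instance
  apply centralizes_of_index_two Q B hBQ h2 _ g hg hgB hcB hodd
  intro q hq q' hq' hqB hq'B
  have hxa : ∀ r (hr : r ∈ Q), r ∉ B → ∃ i, φ ⟨r, hr⟩ = xa i := by
    intro r hr hrB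
    rcases hφ : φ ⟨r, hr⟩ with i | i
    · exfalso
      apply hrB
      have h1 : (⟨r, hr⟩ : Q) = φ.symm (a i) := by rw [← hφ, MulEquiv.symm_apply_apply]
      have h2 : (a i : QuaternionGroup (2 ^ k)) = (a 1) ^ i.val := by
        rw [a_one_pow, ZMod.natCast_zmod_val]
      rw [h2, map_pow] at h1
      have h3 := congrArg Subtype.val h1
      rw [Subgroup.coe_pow, ← hb₀] at h3
      rw [hB, show r = b₀ ^ i.val from h3]
      exact Subgroup.pow_mem _ (Subgroup.mem_zpowers b₀) _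
    · exact ⟨i, rfl⟩
  obtain ⟨i, hi⟩ := hxa q hq hqB
  obtain ⟨j, hj⟩ := hxa q' hq' hq'B
  have h1 : φ (⟨q, hq⟩⁻¹ * ⟨q', hq'⟩) = a (j - i) := by
    rw [map_mul, map_inv, hi, hj, inv_mul_eq_iff_eq_mul, xa_mul_a]
    congr 1
    ring
  have h2 : (⟨q, hq⟩⁻¹ * ⟨q', hq'⟩ : Q) = φ.symm (a (j - i)) := by
    rw [← h1, MulEquiv.symm_apply_apply]
  have h3 : (a (j - i) : QuaternionGroup (2 ^ k)) = (a 1) ^ (j - i).val := by
    rw [a_one_pow, ZMod.natCast_zmod_val]
  rw [h3, map_pow] at h2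
  have h4 := congrArg Subtype.val h2
  rw [Subgroup.coe_pow, ← hb₀] at h4
  have h5 : q⁻¹ * q' = b₀ ^ (j - i).val := h4
  rw [h5, hB]
  exact Subgroup.pow_mem _ (Subgroup.mem_zpowers b₀) _

/-- If there is no normal `2`-complement and the Sylow `2`-subgroup is generalized quaternion, some
`Q₈`-subgroup is normalized but not centralized by an element of odd order. -/
theorem exists_q8_config [Finite G] (T : Sylow 2 G) (n : ℕ)
    (e : (T : Subgroup G) ≃* QuaternionGroup (2 ^ n))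
    (hno : ¬ Cfsg.HasNormalPComplement 2 G) :
    ∃ (Q : Subgroup G) (g : G), Nonempty (Q ≃* QuaternionGroup 2) ∧
      g ∈ Subgroup.normalizer (Q : Set G) ∧ (orderOf g).Coprime 2 ∧
      ¬ (∀ q ∈ Q, g * q * g⁻¹ = q) := by
  have : Fact (Nat.Prime 2) := ⟨Nat.prime_two⟩
  by_contra hcon
  apply hno
  refine ⟨T, ?_⟩
  rw [Cfsg.Agent.Lib.Helper1.frobenius_normal_p_complement T]
  intro Q hQT g hg hgo
  have hUT : Cfsg.Agent.Lib.Lead.UniqueP.UOP 2 (T : Subgroup G) :=
    Cfsg.Agent.Lib.Helper7.uniqueOrderP_of_equiv_quaternion T.2 e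
  have hUQ : Cfsg.Agent.Lib.Lead.UniqueP.UOP 2 Q := uop_of_le hUT hQT
  have h2Q : IsPGroup 2 Q := T.2.to_le hQT
  have hcent : ∀ q ∈ Q, g * q * g⁻¹ = q := by
    rcases Cfsg.Agent.Lib.Lead.UniqueP.cyclic_or_quaternion 2 h2Q hUQ with hc | ⟨-, k, ⟨φ⟩⟩
    · exact centralizes_cyclic_two Q hc h2Q g hg hgo
    · rcases Nat.lt_or_ge k 2 with hk | hk
      · interval_cases k
        · -- `QuaternionGroup 1` is cyclic
          have hc : IsCyclic Q := by
            have := quaternionGroup_one_isCyclic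
            exact isCyclic_of_surjective φ.symm φ.symm.surjective
          exact centralizes_cyclic_two Q hc h2Q g hg hgo
        · by_contra hnc
          exact hcon ⟨Q, g, ⟨φ⟩, hg, hgo, hnc⟩
      · exact centralizes_big_quaternion Q k hk φ g hg hgo
  rw [Subgroup.mem_centralizer_iff]
  intro h hh
  have := hcent h hh
  calc h * g = (g * h * g⁻¹) * g := by rw [this]
    _ = g * h := by group

end Cfsg.Agent.Lib.Helper1.QS
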