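import Mathlib
import Cfsg.Agent.Lib.Helper1.QS2
set_option autoImplicit false
universe u
namespace Cfsg.Agent.Lib.Helper1.QS

open QuaternionGroup

theorem d1a : ∀ u v : QuaternionGroup 2, u^2 ≠ 1 → v^2 ≠ 1 → v ≠ u → v ≠ u⁻¹ → v * v = u^2 := by
  decide
theorem d1b : ∀ u v : QuaternionGroup 2, u^2 ≠ 1 → v^2 ≠ 1 → v ≠ u → v ≠ u⁻¹ →
    v * u * v⁻¹ = u⁻¹ := by decide
theorem d1c : ∀ u v : QuaternionGroup 2, u^2 ≠ 1 → v^2 ≠ 1 → v ≠ u → v ≠ u⁻¹ →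
    (u⁻¹*v)⁻¹ = u⁻¹ * v⁻¹ := by decide
set_option maxRecDepth 100000 in
theorem d5 : ∀ u v w : QuaternionGroup 2, u^2 ≠ 1 → v^2 ≠ 1 → w^2 ≠ 1 →
    v ≠ u → v ≠ u⁻¹ → w ≠ u → w ≠ u⁻¹ → w ≠ v → w ≠ v⁻¹ → (w = u * v ∨ w = u⁻¹ * v) := by
  decide
theorem d4 : ∀ u q q' : QuaternionGroup 2, u^2 ≠ 1 →
    (q ≠ 1 ∧ q ≠ u ∧ q ≠ u^2 ∧ q ≠ u^3) → (q' ≠ 1 ∧ q' ≠ u ∧ q' ≠ u^2 ∧ q' ≠ u^3) →
    (q⁻¹ * q' = 1 ∨ q⁻¹ * q' = u ∨ q⁻¹ * q' = u^2 ∨ q⁻¹ * q' = u^3) := by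
  decide
theorem d7 : ∀ u v q : QuaternionGroup 2, u^2 ≠ 1 → v^2 ≠ 1 → v ≠ u → v ≠ u⁻¹ →
    (q = 1 ∨ q = u ∨ q = u^2 ∨ q = u^3 ∨ q = v ∨ q = v * u ∨ q = v * u^2 ∨ q = v * u^3) := by
  decide
theorem d8 : ∀ u : QuaternionGroup 2, u ^ 4 = 1 := by decide
theorem d9 : (a 1 : QuaternionGroup 2) ^ 2 ≠ 1 := by decide

section transport
variable {Q' : Type*} [Group Q'] (φ : Q' ≃* QuaternionGroup 2)
include φ

theorem t_ne {x y : Q'} (h : x ≠ y) : φ x ≠ φ y := fun e => h (φ.injective e)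

theorem t_sq {x : Q'} (h : x ^ 2 ≠ 1) : (φ x) ^ 2 ≠ 1 := by
  rw [← map_pow]; intro e; exact h ((MulEquiv.map_eq_one_iff φ).mp e)

theorem t1a (u v : Q') (hu : u^2 ≠ 1) (hv : v^2 ≠ 1) (h1 : v ≠ u) (h2 : v ≠ u⁻¹) :
    v * v = u^2 := by
  apply φ.injective
  rw [map_mul, map_pow]
  exact d1a _ _ (t_sq φ hu) (t_sq φ hv) (t_ne φ h1) (by rw [← map_inv]; exact t_ne φ h2)

theorem t1b (u v : Q') (hu : u^2 ≠ 1) (hv : v^2 ≠ 1) (h1 : v ≠ u) (h2 : v ≠ u⁻¹) :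
    v * u * v⁻¹ = u⁻¹ := by
  apply φ.injective
  rw [map_mul, map_mul, map_inv, map_inv]
  exact d1b _ _ (t_sq φ hu) (t_sq φ hv) (t_ne φ h1) (by rw [← map_inv]; exact t_ne φ h2)

theorem t1c (u v : Q') (hu : u^2 ≠ 1) (hv : v^2 ≠ 1) (h1 : v ≠ u) (h2 : v ≠ u⁻¹) :
    (u⁻¹ * v)⁻¹ = u⁻¹ * v⁻¹ := by
  apply φ.injective
  rw [map_inv, map_mul, map_mul, map_inv, map_inv]
  exact d1c _ _ (t_sq φ hu) (t_sq φ hv) (t_ne φ h1) (by rw [← map_inv]; exact t_ne φ h2)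

theorem t5 (u v w : Q') (hu : u^2 ≠ 1) (hv : v^2 ≠ 1) (hw : w^2 ≠ 1)
    (h1 : v ≠ u) (h2 : v ≠ u⁻¹) (h3 : w ≠ u) (h4 : w ≠ u⁻¹) (h5 : w ≠ v) (h6 : w ≠ v⁻¹) :
    w = u * v ∨ w = u⁻¹ * v := by
  rcases d5 (φ u) (φ v) (φ w) (t_sq φ hu) (t_sq φ hv) (t_sq φ hw) (t_ne φ h1)
    (by rw [← map_inv]; exact t_ne φ h2) (t_ne φ h3) (by rw [← map_inv]; exact t_ne φ h4)
    (t_ne φ h5) (by rw [← map_inv]; exact t_ne φ h6) with h | h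
  · left; apply φ.injective; rw [h, map_mul]
  · right; apply φ.injective; rw [h, map_mul, map_inv]

theorem t4 (u q q' : Q') (hu : u^2 ≠ 1) (hq : ∀ i : ℕ, q ≠ u ^ i) (hq' : ∀ i : ℕ, q' ≠ u ^ i) :
    ∃ i : ℕ, q⁻¹ * q' = u ^ i := by
  have hφq : φ q ≠ 1 ∧ φ q ≠ φ u ∧ φ q ≠ (φ u)^2 ∧ φ q ≠ (φ u)^3 := by
    refine ⟨?_, ?_, ?_, ?_⟩
    · have := t_ne φ (hq 0); rwa [pow_zero, map_one] at this
    · have := t_ne φ (hq 1); rwa [pow_one] at this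
    · have := t_ne φ (hq 2); rwa [map_pow] at this
    · have := t_ne φ (hq 3); rwa [map_pow] at this
  have hφq' : φ q' ≠ 1 ∧ φ q' ≠ φ u ∧ φ q' ≠ (φ u)^2 ∧ φ q' ≠ (φ u)^3 := by
    refine ⟨?_, ?_, ?_, ?_⟩
    · have := t_ne φ (hq' 0); rwa [pow_zero, map_one] at this
    · have := t_ne φ (hq' 1); rwa [pow_one] at this
    · have := t_ne φ (hq' 2); rwa [map_pow] at this
    · have := t_ne φ (hq' 3); rwa [map_pow] at this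
  rcases d4 (φ u) (φ q) (φ q') (t_sq φ hu) hφq hφq' with h | h | h | h
  · exact ⟨0, φ.injective (by rw [map_mul, map_inv, h, pow_zero, map_one])⟩
  · exact ⟨1, φ.injective (by rw [map_mul, map_inv, h, pow_one])⟩
  · exact ⟨2, φ.injective (by rw [map_mul, map_inv, h, map_pow])⟩
  · exact ⟨3, φ.injective (by rw [map_mul, map_inv, h, map_pow])⟩

theorem t7 (u v q : Q') (hu : u^2 ≠ 1) (hv : v^2 ≠ 1) (h1 : v ≠ u) (h2 : v ≠ u⁻¹) :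
    ∃ i : ℕ, q = u ^ i ∨ q = v * u ^ i := by
  rcases d7 (φ u) (φ v) (φ q) (t_sq φ hu) (t_sq φ hv) (t_ne φ h1)
    (by rw [← map_inv]; exact t_ne φ h2) with h | h | h | h | h | h | h | h
  · exact ⟨0, Or.inl (φ.injective (by rw [h, pow_zero, map_one]))⟩
  · exact ⟨1, Or.inl (φ.injective (by rw [h, pow_one]))⟩
  · exact ⟨2, Or.inl (φ.injective (by rw [h, map_pow]))⟩
  · exact ⟨3, Or.inl (φ.injective (by rw [h, map_pow]))⟩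
  · exact ⟨0, Or.inr (φ.injective (by rw [h, pow_zero, mul_one]))⟩
  · exact ⟨1, Or.inr (φ.injective (by rw [h, pow_one, map_mul]))⟩
  · exact ⟨2, Or.inr (φ.injective (by rw [h, map_mul, map_pow]))⟩
  · exact ⟨3, Or.inr (φ.injective (by rw [h, map_mul, map_pow]))⟩

theorem t8 (u : Q') : u ^ 4 = 1 := by
  apply φ.injective
  rw [map_pow, map_one]; exact d8 _

theorem t9 : ∃ u : Q', u ^ 2 ≠ 1 := by
  refine ⟨φ.symm (a 1), ?_⟩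
  intro h
  apply d9
  have := congrArg φ h
  rwa [map_pow, MulEquiv.apply_symm_apply, map_one] at this

end transport

end Cfsg.Agent.Lib.Helper1.QS
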