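import Mathlib
import Cfsg.Agent.Lib.Helper1.QS3
set_option autoImplicit false
universe u
namespace Cfsg.Agent.Lib.Helper1.QS

open QuaternionGroup

variable {G : Type u} [Group G]

/-- An odd-order element acting nontrivially on `Q ≅ Q₈` moves every cyclic subgroup of order 4. -/
theorem step1 [Finite G] (Q : Subgroup G) (φ : Q ≃* QuaternionGroup 2) (h : G)
    (hh : h ∈ Subgroup.normalizer (Q : Set G)) (hodd : (orderOf h).Coprime 2)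
    (hnc : ¬ ∀ q ∈ Q, h * q * h⁻¹ = q) (u : G) (hu : u ∈ Q) (hu2 : u ^ 2 ≠ 1) :
    h * u * h⁻¹ ≠ u ∧ h * u * h⁻¹ ≠ u⁻¹ := by
  have h2 : IsPGroup 2 Q := by
    apply IsPGroup.of_card (n := 3)
    rw [Nat.card_congr φ.toEquiv, Nat.card_eq_fintype_card, QuaternionGroup.card]
    norm_num
  by_contra hcon
  apply hnc
  have hmemB : h * u * h⁻¹ ∈ Subgroup.zpowers u := by
    by_cases h1 : h * u * h⁻¹ = u
    · rw [h1]; exact Subgroup.mem_zpowers u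
    · have h3 : h * u * h⁻¹ = u⁻¹ := by
        by_contra h3; exact hcon ⟨h1, h3⟩
      rw [h3]; exact Subgroup.inv_mem _ (Subgroup.mem_zpowers u)
  obtain ⟨B, hB⟩ : ∃ B : Subgroup G, B = Subgroup.zpowers u := ⟨_, rfl⟩
  have hBQ : B ≤ Q := by rw [hB, Subgroup.zpowers_le]; exact hu
  have hhB : h ∈ Subgroup.normalizer (B : Set G) := by
    apply Cfsg.Agent.Lib.Helper1.ThA.mem_normalizer_of_conj_mem
    intro m hm
    rw [hB] at hm ⊢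
    obtain ⟨j, rfl⟩ := Subgroup.mem_zpowers_iff.mp hm
    have e1 : h * u ^ j * h⁻¹ = (h * u * h⁻¹) ^ j := by rw [conj_zpow]
    rw [e1]
    exact Subgroup.zpow_mem _ hmemB _
  have hcB : ∀ b ∈ B, h * b * h⁻¹ = b := by
    apply centralizes_cyclic_two B _ (h2.to_le hBQ) h hhB hodd
    rw [hB]; infer_instance
  apply centralizes_of_index_two Q B hBQ h2 _ h hh hhB hcB hodd
  intro q hq q' hq' hqB hq'B
  have hu2' : (⟨u, hu⟩ : Q) ^ 2 ≠ 1 := by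
    intro e; apply hu2
    have := congrArg Subtype.val e
    simpa using this
  have hnp : ∀ (r : G) (hr : r ∈ Q), r ∉ B → ∀ i : ℕ, (⟨r, hr⟩ : Q) ≠ ⟨u, hu⟩ ^ i := by
    intro r hr hrB i e
    apply hrB
    have := congrArg Subtype.val e
    rw [Subgroup.coe_pow] at this
    rw [hB, show r = u ^ i from this]
    exact Subgroup.pow_mem _ (Subgroup.mem_zpowers u) _
  obtain ⟨i, hi⟩ := t4 φ ⟨u, hu⟩ ⟨q, hq⟩ ⟨q', hq'⟩ hu2' (hnp q hq hqB) (hnp q' hq' hq'B)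
  have := congrArg Subtype.val hi
  rw [Subgroup.coe_pow] at this
  rw [hB, show q⁻¹ * q' = u ^ i from this]
  exact Subgroup.pow_mem _ (Subgroup.mem_zpowers u) _

theorem conj_pow_fix {h q : G} (hq : h * q * h⁻¹ = q) (k : ℕ) : h ^ k * q * (h ^ k)⁻¹ = q := by
  induction k with
  | zero => simp
  | succ k ih =>
    have e1 : h ^ (k + 1) * q * (h ^ (k + 1))⁻¹ = h * (h ^ k * q * (h ^ k)⁻¹) * h⁻¹ := by
      rw [pow_succ']; group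
    rw [e1, ih, hq]

/-- The square of an odd-order element acting nontrivially acts nontrivially. -/
theorem sq_not_centralizes [Finite G] (Q : Subgroup G) (g : G) (hodd : (orderOf g).Coprime 2)
    (hnc : ¬ ∀ q ∈ Q, g * q * g⁻¹ = q) : ¬ ∀ q ∈ Q, g ^ 2 * q * (g ^ 2)⁻¹ = q := by
  intro hc
  apply hnc
  intro q hq
  have hoddg : Odd (orderOf g) := Nat.Coprime.odd_of_right hodd
  obtain ⟨k, hk⟩ := hoddg
  have h1 : (g ^ 2) ^ (k + 1) = g := by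
    rw [← pow_mul]
    have : 2 * (k + 1) = orderOf g + 1 := by omega
    rw [this, pow_succ, pow_orderOf_eq_one, one_mul]
  have := conj_pow_fix (hc q hq) (k + 1)
  rwa [h1] at this

/-- Adapted generators of `Q ≅ Q₈` for an odd-order element acting nontrivially. -/
theorem exists_adapted [Finite G] (Q : Subgroup G) (φ : Q ≃* QuaternionGroup 2) (g : G)
    (hg : g ∈ Subgroup.normalizer (Q : Set G)) (hodd : (orderOf g).Coprime 2)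
    (hnc : ¬ ∀ q ∈ Q, g * q * g⁻¹ = q) :
    ∃ b c : G, b ∈ Q ∧ c ∈ Q ∧ b ^ 4 = 1 ∧ b ^ 2 ≠ 1 ∧ c * c = b ^ 2 ∧ c * b * c⁻¹ = b⁻¹ ∧
      g * b * g⁻¹ = c ∧ g * c * g⁻¹ = b * c ∧ ∀ q ∈ Q, ∃ i : ℕ, q = b ^ i ∨ q = c * b ^ i := by
  have hconjQ : ∀ q ∈ Q, g * q * g⁻¹ ∈ Q := fun q hq => (Subgroup.mem_normalizer_iff.mp hg q).mp hq
  have hsqne : ∀ r : G, r ^ 2 ≠ 1 → (g * r * g⁻¹) ^ 2 ≠ 1 := by
    intro r hr e
    apply hr
    rw [conj_pow] at e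
    have : r ^ 2 = g⁻¹ * (g * r ^ 2 * g⁻¹) * g := by group
    rw [this, e]; group
  have hg2 : g ^ 2 ∈ Subgroup.normalizer (Q : Set G) := Subgroup.pow_mem _ hg 2
  have hodd2 : (orderOf (g ^ 2)).Coprime 2 :=
    Nat.Coprime.coprime_dvd_left (orderOf_pow_dvd 2) hodd
  have hnc2 := sq_not_centralizes Q g hodd hnc
  -- the key reduction: a pair with `σ c = b c`
  have key : ∃ b c : G, b ∈ Q ∧ c ∈ Q ∧ b ^ 2 ≠ 1 ∧ c ^ 2 ≠ 1 ∧ c ≠ b ∧ c ≠ b⁻¹ ∧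
      g * b * g⁻¹ = c ∧ g * c * g⁻¹ = b * c := by
    obtain ⟨u₀, hu₀⟩ := t9 φ
    obtain ⟨u, hu⟩ : ∃ u : G, u = (u₀ : G) := ⟨_, rfl⟩
    have huQ : u ∈ Q := by rw [hu]; exact u₀.2
    have hu2 : u ^ 2 ≠ 1 := by
      intro e; apply hu₀
      apply Subtype.ext
      rw [Subgroup.coe_pow, ← hu, e]; rfl
    obtain ⟨v, hv⟩ : ∃ v : G, v = g * u * g⁻¹ := ⟨_, rfl⟩
    have hvQ : v ∈ Q := by rw [hv]; exact hconjQ u huQ
    have hv2 : v ^ 2 ≠ 1 := by rw [hv]; exact hsqne u hu2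
    obtain ⟨hvu, hvu'⟩ := step1 Q φ g hg hodd hnc u huQ hu2
    rw [← hv] at hvu hvu'
    obtain ⟨w, hw⟩ : ∃ w : G, w = g * v * g⁻¹ := ⟨_, rfl⟩
    have hwQ : w ∈ Q := by rw [hw]; exact hconjQ v hvQ
    have hw2 : w ^ 2 ≠ 1 := by rw [hw]; exact hsqne v hv2
    obtain ⟨hwv, hwv'⟩ := step1 Q φ g hg hodd hnc v hvQ hv2
    rw [← hw] at hwv hwv'
    have hwg2 : w = g ^ 2 * u * (g ^ 2)⁻¹ := by rw [hw, hv, pow_two]; group
    obtain ⟨hwu, hwu'⟩ := step1 Q φ (g ^ 2) hg2 hodd2 hnc2 u huQ hu2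
    rw [← hwg2] at hwu hwu'
    have hne : ∀ {x y : G} (hx : x ∈ Q) (hy : y ∈ Q), x ≠ y → (⟨x, hx⟩ : Q) ≠ ⟨y, hy⟩ :=
      fun hx hy hxy e => hxy (congrArg Subtype.val e)
    have hsq : ∀ {x : G} (hx : x ∈ Q), x ^ 2 ≠ 1 → (⟨x, hx⟩ : Q) ^ 2 ≠ 1 := by
      intro x hx hx2 e
      apply hx2
      have := congrArg Subtype.val e
      simpa using this
    rcases t5 φ ⟨u, huQ⟩ ⟨v, hvQ⟩ ⟨w, hwQ⟩ (hsq huQ hu2) (hsq hvQ hv2) (hsq hwQ hw2)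
      (hne hvQ huQ hvu) (hne hvQ (Q.inv_mem huQ) hvu') (hne hwQ huQ hwu)
      (hne hwQ (Q.inv_mem huQ) hwu') (hne hwQ hvQ hwv) (hne hwQ (Q.inv_mem hvQ) hwv') with h | h
    · have h' : w = u * v := congrArg Subtype.val h
      exact ⟨u, v, huQ, hvQ, hu2, hv2, hvu, hvu', hv.symm, by rw [← hw, h']⟩
    · have h' : w = u⁻¹ * v := congrArg Subtype.val h
      have hc := t1c φ ⟨u, huQ⟩ ⟨v, hvQ⟩ (hsq huQ hu2) (hsq hvQ hv2) (hne hvQ huQ hvu)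
        (hne hvQ (Q.inv_mem huQ) hvu')
      have hc' : (u⁻¹ * v)⁻¹ = u⁻¹ * v⁻¹ := congrArg Subtype.val hc
      refine ⟨u⁻¹, v⁻¹, Q.inv_mem huQ, Q.inv_mem hvQ, ?_, ?_, ?_, ?_, ?_, ?_⟩
      · rw [inv_pow]; exact inv_ne_one.mpr hu2
      · rw [inv_pow]; exact inv_ne_one.mpr hv2
      · exact fun e => hvu (inv_injective e)
      · rw [inv_inv]; exact fun e => hvu' (by rw [← e, inv_inv])
      · rw [hv]; group
      · have : g * v⁻¹ * g⁻¹ = w⁻¹ := by rw [hw]; group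
        rw [this, h', hc']
  obtain ⟨b, c, hbQ, hcQ, hb2, hc2, hcb, hcb', hgb, hgc⟩ := key
  have hsq : ∀ {x : G} (hx : x ∈ Q), x ^ 2 ≠ 1 → (⟨x, hx⟩ : Q) ^ 2 ≠ 1 := by
    intro x hx hx2 e
    apply hx2
    have := congrArg Subtype.val e
    simpa using this
  have hne : ∀ {x y : G} (hx : x ∈ Q) (hy : y ∈ Q), x ≠ y → (⟨x, hx⟩ : Q) ≠ ⟨y, hy⟩ :=
    fun hx hy hxy e => hxy (congrArg Subtype.val e)
  refine ⟨b, c, hbQ, hcQ, ?_, hb2, ?_, ?_, hgb, hgc, ?_⟩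
  · have := congrArg Subtype.val (t8 φ ⟨b, hbQ⟩)
    simpa using this
  · exact congrArg Subtype.val (t1a φ ⟨b, hbQ⟩ ⟨c, hcQ⟩ (hsq hbQ hb2) (hsq hcQ hc2)
      (hne hcQ hbQ hcb) (hne hcQ (Q.inv_mem hbQ) hcb'))
  · exact congrArg Subtype.val (t1b φ ⟨b, hbQ⟩ ⟨c, hcQ⟩ (hsq hbQ hb2) (hsq hcQ hc2)
      (hne hcQ hbQ hcb) (hne hcQ (Q.inv_mem hbQ) hcb'))
  · intro q hq
    obtain ⟨i, hi⟩ := t7 φ ⟨b, hbQ⟩ ⟨c, hcQ⟩ ⟨q, hq⟩ (hsq hbQ hb2) (hsq hcQ hc2)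
      (hne hcQ hbQ hcb) (hne hcQ (Q.inv_mem hbQ) hcb')
    refine ⟨i, ?_⟩
    rcases hi with hi | hi
    · left
      have := congrArg Subtype.val hi
      simpa using this
    · right
      have := congrArg Subtype.val hi
      simpa using this

end Cfsg.Agent.Lib.Helper1.QS
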