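import Mathlib
import Cfsg.Agent.Lib.Helper1.QS4
import Cfsg.Agent.Lib.Helper1.SL2Q8d
import Cfsg.Agent.Lib.Helper1.SectionPull
import Cfsg.Agent.Lib.Helper3.QuatLift
set_option autoImplicit false
universe u
namespace Cfsg.Agent.Lib.Helper1.QS

open QuaternionGroup Matrix Cfsg.Agent.Lib.Helper1.SL2Three Cfsg.Agent.Lib.Helper3

/-- The element `[[1,1],[1,-1]]` of `SL(2,3)`. -/
def Xm : Matrix.SpecialLinearGroup (Fin 2) (ZMod 3) := ⟨!![1, 1; 1, -1], by decide⟩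

theorem sl_r1 : (wmat (ZMod 3)) ^ (2 * 2) = 1 := by decide
theorem sl_r2 : Xm * Xm = (wmat (ZMod 3)) ^ 2 := by decide
theorem sl_r3 : Xm * wmat (ZMod 3) * Xm⁻¹ = (wmat (ZMod 3))⁻¹ := by decide
theorem sl_r4 : xmat (ZMod 3) 1 * wmat (ZMod 3) * (xmat (ZMod 3) 1)⁻¹ = Xm := by decide
theorem sl_r5 : xmat (ZMod 3) 1 * Xm * (xmat (ZMod 3) 1)⁻¹ = wmat (ZMod 3) * Xm := by decide
theorem sl_r6 : (xmat (ZMod 3) 1) ^ 3 = 1 := by decide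
theorem sl_r7 : (xmat (ZMod 3) 1) ≠ 1 := by decide

theorem quat2_sq : ∀ w : QuaternionGroup 2, w ≠ 1 → w = a 2 ∨ w * w = a 2 := by decide

variable {G : Type u} [Group G]

/-- The isomorphism `QuaternionGroup 2 ≃* Q` determined by quaternion generators `b, c`. -/
theorem exists_quat_equiv (Q : Subgroup G) (b c : G) (hbQ : b ∈ Q) (hcQ : c ∈ Q)
    (hb4 : b ^ 4 = 1) (hb2 : b ^ 2 ≠ 1) (hcc : c * c = b ^ 2) (hcb : c * b * c⁻¹ = b⁻¹)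
    (hgen : ∀ q ∈ Q, ∃ i : ℕ, q = b ^ i ∨ q = c * b ^ i) :
    ∃ e : QuaternionGroup 2 ≃* Q, e (a 1) = ⟨b, hbQ⟩ ∧ e (xa 0) = ⟨c, hcQ⟩ := by
  have r1 : (⟨b, hbQ⟩ : Q) ^ (2 * 2) = 1 := Subtype.ext (by rw [Subgroup.coe_pow]; exact hb4)
  have r2 : (⟨c, hcQ⟩ : Q) * ⟨c, hcQ⟩ = ⟨b, hbQ⟩ ^ 2 :=
    Subtype.ext (by rw [Subgroup.coe_mul, Subgroup.coe_pow]; exact hcc)
  have r3 : (⟨c, hcQ⟩ : Q) * ⟨b, hbQ⟩ * (⟨c, hcQ⟩ : Q)⁻¹ = (⟨b, hbQ⟩ : Q)⁻¹ :=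
    Subtype.ext (by
      rw [Subgroup.coe_mul, Subgroup.coe_mul, Subgroup.coe_inv, Subgroup.coe_inv]; exact hcb)
  obtain ⟨f, hf⟩ : ∃ f : QuaternionGroup 2 →* Q, f = quatLift 2 ⟨b, hbQ⟩ ⟨c, hcQ⟩ r1 r2 r3 :=
    ⟨_, rfl⟩
  have hfa : ∀ k : ℕ, f (a (k : ZMod (2 * 2))) = ⟨b, hbQ⟩ ^ k := by
    intro k; rw [hf]; exact quatLift_a_natCast 2 _ _ r1 r2 r3 k
  have hfxa : ∀ k : ℕ, f (xa (k : ZMod (2 * 2))) = ⟨c, hcQ⟩ * ⟨b, hbQ⟩ ^ k := by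
    intro k; rw [hf, quatLift_xa, zmodPw_natCast r1]
  have hinj : Function.Injective f := by
    rw [injective_iff_map_eq_one]
    intro w hw
    by_contra hw1
    have h2 : f (a 2) = 1 := by
      rcases quat2_sq w hw1 with h | h
      · rw [← h]; exact hw
      · rw [← h, map_mul, hw, mul_one]
    have h3 := hfa 2
    have : ((2 : ℕ) : ZMod (2 * 2)) = 2 := by norm_num
    rw [this, h2] at h3
    apply hb2
    have := congrArg Subtype.val h3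
    rw [Subgroup.coe_pow] at this
    exact this.symm
  have hsurj : Function.Surjective f := by
    intro q
    obtain ⟨i, hi | hi⟩ := hgen q q.2
    · exact ⟨a (i : ZMod (2 * 2)), by rw [hfa]; exact Subtype.ext (by rw [Subgroup.coe_pow]; exact hi.symm)⟩
    · exact ⟨xa (i : ZMod (2 * 2)), by
        rw [hfxa]; exact Subtype.ext (by rw [Subgroup.coe_mul, Subgroup.coe_pow]; exact hi.symm)⟩
  refine ⟨MulEquiv.ofBijective f ⟨hinj, hsurj⟩, ?_, ?_⟩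
  · show f (a 1) = _
    have := hfa 1
    rwa [Nat.cast_one, pow_one] at this
  · show f (xa 0) = _
    have := hfxa 0
    rwa [Nat.cast_zero, pow_zero, mul_one] at this

end Cfsg.Agent.Lib.Helper1.QS
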