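import Mathlib
import Cfsg.Agent.Lib.Helper1.MC2
import Cfsg.Agent.Lib.Helper1.QS5

set_option autoImplicit false
universe u
open scoped commutatorElement

namespace Cfsg.Agent.Lib.Helper1.MC

variable {X : Type u} [Group X]

theorem mem_zpowers_four (x w : X) (hx : orderOf x = 4) (hw : w ∈ Subgroup.zpowers x) :
    w = 1 ∨ w = x ∨ w = x ^ 2 ∨ w = x ^ 3 := by
  obtain ⟨k, rfl⟩ := Subgroup.mem_zpowers_iff.mp hw
  have h1 := zpow_mod_orderOf x k
  rw [hx] at h1
  have h2 : 0 ≤ k % 4 := Int.emod_nonneg k (by norm_num)
  have h3 : k % 4 < 4 := Int.emod_lt_of_pos k (by norm_num)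
  rw [← h1]
  push_cast
  obtain ⟨r, hr⟩ : ∃ r, r = k % 4 := ⟨_, rfl⟩
  rw [← hr] at h2 h3 ⊢
  interval_cases r
  · left; simp
  · right; left; simp
  · right; right; left; exact zpow_ofNat x 2
  · right; right; right; exact zpow_ofNat x 3

theorem order_eight_case [Finite X] (hcard : Nat.card X = 8) (hna : ¬ ∀ x y : X, x * y = y * x)
    (α : MulAut X) (hα : NoInv α) : Nonempty (X ≃* QuaternionGroup 2) := by
  -- an element with nontrivial square
  obtain ⟨x, hx2⟩ : ∃ x : X, x * x ≠ 1 := by
    by_contra h
    push Not at h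
    apply hna
    intro u v
    have h1 := h (u * v)
    have hu : u⁻¹ = u := inv_eq_of_mul_eq_one_left (h u)
    have hv : v⁻¹ = v := inv_eq_of_mul_eq_one_left (h v)
    have h2 : u * v = (u * v)⁻¹ := (inv_eq_of_mul_eq_one_left h1).symm
    rw [mul_inv_rev, hu, hv] at h2
    exact h2
  have hx8 : x ^ 8 = 1 := by rw [← hcard]; exact pow_card_eq_one'
  have hx4 : x ^ 4 = 1 := by
    by_contra h4
    apply hna
    have hd : orderOf x ∣ 2 ^ 3 := orderOf_dvd_of_pow_eq_one (by norm_num; exact hx8)
    obtain ⟨k, hk3, hk⟩ := (Nat.dvd_prime_pow Nat.prime_two).mp hd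
    have ho : orderOf x = 8 := by
      interval_cases k
      · exfalso; rw [pow_zero, orderOf_eq_one_iff] at hk; apply hx2; rw [hk, one_mul]
      · exfalso; apply hx2; rw [← pow_two]
        have := pow_orderOf_eq_one x; rwa [hk] at this
      · exfalso; apply h4
        have := pow_orderOf_eq_one x; rwa [hk] at this
      · rw [hk]; norm_num
    have hcyc : IsCyclic X := isCyclic_of_orderOf_eq_card x (by rw [ho, hcard])
    intro u v
    exact Std.Commutative.comm u v
  have hx2' : ¬ x ^ (2 ^ 1) = 1 := by rw [pow_one, pow_two]; exact hx2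
  have hox : orderOf x = 4 := by
    have := orderOf_eq_prime_pow (p := 2) (n := 1) hx2' (by norm_num; exact hx4)
    rw [this]; norm_num
  set A := Subgroup.zpowers x with hA
  have hAcard : Nat.card A = 4 := by rw [hA, Nat.card_zpowers, hox]
  have hAidx : A.index = 2 := by
    have := A.card_mul_index
    rw [hAcard, hcard] at this
    omega
  have hAn : A.Normal := Subgroup.normal_of_index_eq_two hAidx
  set y := α x with hy
  have hyA : y ∉ A := by
    intro h
    apply hα A hAidx
    intro w hw
    obtain ⟨k, rfl⟩ := Subgroup.mem_zpowers_iff.mp hw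
    rw [map_zpow]
    exact A.zpow_mem h k
  have hy4 : y ^ 4 = 1 := by rw [hy, ← map_pow, hx4, map_one]
  have hy2 : y * y ≠ 1 := by
    intro h
    apply hx2
    apply α.injective
    rw [map_mul, map_one]; exact h
  have hxA : x ∈ A := Subgroup.mem_zpowers x
  -- conjugation
  have hconj : y * x * y⁻¹ = x⁻¹ := by
    have h1 : y * x * y⁻¹ ∈ A := hAn.conj_mem x hxA y
    have hx3 : x ^ 3 = x⁻¹ := by
      apply eq_inv_of_mul_eq_one_left
      rw [← pow_succ]; exact hx4
    rcases mem_zpowers_four x _ hox h1 with h | h | h | h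
    · exfalso
      have : x = 1 := by
        have := congrArg (fun t => y⁻¹ * t * y) h
        beta_reduce at this
        rw [mul_one, inv_mul_cancel] at this
        rw [← this]; group
      apply hx2; rw [this, one_mul]
    · exfalso
      -- x and y commute, so X is abelian
      apply hna
      have hcomm : y * x = x * y := by
        have := congrArg (fun t => t * y) h
        beta_reduce at this
        rwa [inv_mul_cancel_right] at this
      have hall : ∀ q : X, ∃ i : ℤ, q = x ^ i ∨ q = y * x ^ i := by
        intro q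
        by_cases hq : q ∈ A
        · obtain ⟨i, rfl⟩ := Subgroup.mem_zpowers_iff.mp hq
          exact ⟨i, Or.inl rfl⟩
        · have h2 : y⁻¹ * q ∈ A := by
            apply (Subgroup.mul_mem_iff_of_index_two hAidx).mpr
            constructor
            · intro h'; exact absurd (inv_mem_iff.mp h') hyA
            · intro h'; exact absurd h' hq
          obtain ⟨i, hi⟩ := Subgroup.mem_zpowers_iff.mp h2
          refine ⟨i, Or.inr ?_⟩
          rw [hi]; group
      have hcxy : Commute y x := hcomm
      intro u v
      obtain ⟨i, hu | hu⟩ := hall u <;> obtain ⟨j, hv | hv⟩ := hall v <;> rw [hu, hv]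
      · exact ((Commute.refl x).zpow_zpow i j).eq
      · have h3 : Commute (x ^ i) (y * x ^ j) :=
          Commute.mul_right (hcxy.symm.zpow_left i) ((Commute.refl x).zpow_zpow i j)
        exact h3.eq
      · have h3 : Commute (y * x ^ i) (x ^ j) :=
          Commute.mul_left (hcxy.zpow_right j) ((Commute.refl x).zpow_zpow i j)
        exact h3.eq
      · have h3 : Commute (y * x ^ i) (y * x ^ j) := by
          apply Commute.mul_left
          · exact Commute.mul_right (Commute.refl y) (hcxy.zpow_right j)
          · exact Commute.mul_right (hcxy.symm.zpow_left i) ((Commute.refl x).zpow_zpow i j)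
        exact h3.eq
    · exfalso
      have h2 : (y * x * y⁻¹) ^ 2 = 1 := by rw [h, ← pow_mul]; exact hx4
      rw [conj_pow] at h2
      apply hx2
      have : x ^ 2 = 1 := by
        have := congrArg (fun t => y⁻¹ * t * y) h2
        beta_reduce at this
        rw [mul_one, inv_mul_cancel] at this
        rw [← this]; group
      rw [← pow_two]; exact this
    · rw [h, hx3]
  have hyy : y * y = x ^ 2 := by
    have h1 : y * y ∈ A := by
      apply (Subgroup.mul_mem_iff_of_index_two hAidx).mpr
      exact Iff.rfl
    have hyy2 : (y * y) * (y * y) = 1 := by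
      rw [← pow_two, ← pow_two, ← pow_mul]; exact hy4
    rcases mem_zpowers_four x _ hox h1 with h | h | h | h
    · exact absurd h hy2
    · exfalso; rw [h] at hyy2; exact hx2 hyy2
    · exact h
    · exfalso; rw [h] at hyy2
      apply hx2
      have h6 : x ^ 6 = 1 := by rw [← hyy2, ← pow_add]
      have : x ^ 6 = x ^ 4 * (x * x) := by rw [← pow_two, ← pow_add]
      rw [this, hx4, one_mul] at h6; exact h6
  have hgen : ∀ q ∈ (⊤ : Subgroup X), ∃ i : ℕ, q = x ^ i ∨ q = y * x ^ i := by
    intro q _
    have hnat : ∀ w ∈ A, ∃ i : ℕ, w = x ^ i := by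
      intro w hw
      rcases mem_zpowers_four x w hox hw with h | h | h | h
      · exact ⟨0, by rw [h, pow_zero]⟩
      · exact ⟨1, by rw [pow_one]; exact h⟩
      · exact ⟨2, h⟩
      · exact ⟨3, h⟩
    by_cases hq : q ∈ A
    · obtain ⟨i, hi⟩ := hnat q hq
      exact ⟨i, Or.inl hi⟩
    · have h2 : y⁻¹ * q ∈ A := by
        apply (Subgroup.mul_mem_iff_of_index_two hAidx).mpr
        constructor
        · intro h'; exact absurd (inv_mem_iff.mp h') hyA
        · intro h'; exact absurd h' hq
      obtain ⟨i, hi⟩ := hnat _ h2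
      refine ⟨i, Or.inr ?_⟩
      rw [← hi]; group
  obtain ⟨e, -, -⟩ := Cfsg.Agent.Lib.Helper1.QS.exists_quat_equiv (⊤ : Subgroup X) x y (Subgroup.mem_top x) (Subgroup.mem_top y)
    hx4 (by rw [pow_two]; exact hx2) hyy hconj hgen
  exact ⟨(e.trans Subgroup.topEquiv).symm⟩

end Cfsg.Agent.Lib.Helper1.MC
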