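import Mathlib
import Cfsg.Agent.Lib.Helper1.MC3
import Cfsg.Agent.Lib.Helper1.ClassTwo

set_option autoImplicit false
universe u
open scoped commutatorElement

namespace Cfsg.Agent.Lib.Helper1.MC

variable {X : Type u} [Group X]

theorem map_eq_of_iff (Z : Subgroup X) (α : MulAut X) (hZ : ∀ x, α x ∈ Z ↔ x ∈ Z) :
    Subgroup.map ((α : X ≃* X) : X →* X) Z = Z := by
  ext y
  constructor
  · rintro ⟨w, hw, rfl⟩
    exact (hZ w).mpr hw
  · intro hy
    refine ⟨α⁻¹ y, ?_, ?_⟩
    · apply (hZ _).mp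
      show α (α⁻¹ y) ∈ Z
      rw [MulAut.apply_inv_self]; exact hy
    · show α (α⁻¹ y) = y
      rw [MulAut.apply_inv_self]

theorem quotient_transfer (Z : Subgroup X) [Z.Normal] (α : MulAut X)
    (hZ : ∀ x, α x ∈ Z ↔ x ∈ Z) (a b : X) (hgen : Gen a b)
    (hn : (Subgroup.zpowers a).Normal) (hα : NoInv α) :
    Gen (a : X ⧸ Z) (b : X ⧸ Z) ∧ (Subgroup.zpowers (a : X ⧸ Z)).Normal ∧
      ∃ β : MulAut (X ⧸ Z), NoInv β := by
  refine ⟨?_, ?_, ?_⟩
  · intro y
    obtain ⟨x, rfl⟩ := QuotientGroup.mk_surjective y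
    obtain ⟨i, j, rfl⟩ := hgen x
    exact ⟨i, j, by rw [QuotientGroup.mk_mul, QuotientGroup.mk_zpow, QuotientGroup.mk_zpow]⟩
  · have h1 : Subgroup.zpowers (a : X ⧸ Z) = (Subgroup.zpowers a).map (QuotientGroup.mk' Z) := by
      rw [MonoidHom.map_zpowers]; rfl
    rw [h1]
    exact Subgroup.Normal.map hn _ (QuotientGroup.mk'_surjective Z)
  · refine ⟨QuotientGroup.congr Z Z α (map_eq_of_iff Z α hZ), ?_⟩
    intro M hM hinv
    apply hα (M.comap (QuotientGroup.mk' Z))
    · rw [Subgroup.index_comap_of_surjective _ (QuotientGroup.mk'_surjective Z)]; exact hM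
    · intro x hx
      rw [Subgroup.mem_comap] at hx ⊢
      have := hinv _ hx
      rw [QuotientGroup.mk'_apply, QuotientGroup.congr_mk] at this
      exact this

theorem commutator_aut_mem (γ : MulAut X) (x : X) : γ x ∈ commutator X ↔ x ∈ commutator X := by
  have hchar : (commutator X).Characteristic := by
    rw [commutator_def]; infer_instance
  have h := hchar.fixed γ
  constructor
  · intro hx
    rw [← h]; exact Subgroup.mem_comap.mpr hx
  · intro hx
    rw [← h] at hx; exact Subgroup.mem_comap.mp hx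

theorem comm_mem (x y : X) : ⁅x, y⁆ ∈ commutator X := by
  rw [commutator_def]
  exact Subgroup.commutator_mem_commutator (Subgroup.mem_top x) (Subgroup.mem_top y)

theorem commutator_le_zpowers (a b : X) (hgen : Gen a b) (hn : (Subgroup.zpowers a).Normal) :
    commutator X ≤ Subgroup.zpowers a := by
  have := hn
  rw [← Subgroup.Normal.quotient_commutative_iff_commutator_le]
  have hall : ∀ u : X ⧸ Subgroup.zpowers a, ∃ j : ℤ, u = (b : X ⧸ Subgroup.zpowers a) ^ j := by
    intro u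
    obtain ⟨x, rfl⟩ := QuotientGroup.mk_surjective u
    obtain ⟨i, j, rfl⟩ := hgen x
    refine ⟨j, ?_⟩
    rw [QuotientGroup.mk_mul, QuotientGroup.mk_zpow, QuotientGroup.mk_zpow]
    have : (a : X ⧸ Subgroup.zpowers a) = 1 :=
      (QuotientGroup.eq_one_iff a).mpr (Subgroup.mem_zpowers a)
    rw [this, one_zpow, one_mul]
  constructor
  constructor
  intro u v
  obtain ⟨i, rfl⟩ := hall u
  obtain ⟨j, rfl⟩ := hall v
  rw [← zpow_add, ← zpow_add, add_comm]

theorem even_choose_two (m : ℕ) (hm : 2 ≤ m) : Even ((2 ^ m).choose 2) := by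
  obtain ⟨t, rfl⟩ : ∃ t, m = t + 2 := ⟨m - 2, by omega⟩
  rw [Nat.choose_two_right]
  have h1 : 2 ^ (t + 2) = 4 * 2 ^ t := by ring
  have h2 : 1 ≤ 2 ^ t := Nat.one_le_two_pow
  rw [h1]
  have h3 : 4 * 2 ^ t * (4 * 2 ^ t - 1) = 2 * (2 * (2 ^ t * (4 * 2 ^ t - 1))) := by ring
  rw [h3, Nat.mul_div_cancel_left _ (by norm_num : 0 < 2)]
  exact even_two_mul _

theorem prod_zmod_pow (k : ℕ) (w : Multiplicative (ZMod k) × Multiplicative (ZMod k)) :
    w ^ k = 1 := by
  obtain ⟨u, v⟩ := w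
  have h : ∀ s : Multiplicative (ZMod k), s ^ k = 1 := by
    intro s
    show Multiplicative.ofAdd (k • Multiplicative.toAdd s) = 1
    rw [nsmul_eq_mul, ZMod.natCast_self, zero_mul]; rfl
  rw [Prod.pow_mk, h, h]; rfl

end Cfsg.Agent.Lib.Helper1.MC
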