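import Mathlib
import Cfsg.Agent.Lib.Helper1.MC4

set_option autoImplicit false
universe u
open scoped commutatorElement

namespace Cfsg.Agent.Lib.Helper1.MC

variable {X : Type u} [Group X]

theorem quot_zpowers_gen (a b : X) (hgen : Gen a b) [hn : (Subgroup.zpowers a).Normal] :
    ∀ u : X ⧸ Subgroup.zpowers a, ∃ j : ℤ, u = (b : X ⧸ Subgroup.zpowers a) ^ j := by
  intro u
  obtain ⟨x, rfl⟩ := QuotientGroup.mk_surjective u
  obtain ⟨i, j, rfl⟩ := hgen x
  refine ⟨j, ?_⟩
  rw [QuotientGroup.mk_mul, QuotientGroup.mk_zpow, QuotientGroup.mk_zpow]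
  have : (a : X ⧸ Subgroup.zpowers a) = 1 :=
    (QuotientGroup.eq_one_iff a).mpr (Subgroup.mem_zpowers a)
  rw [this, one_zpow, one_mul]

/-- The counting step: `a ^ 2 ^ m ≠ 1`. -/
theorem counting [Finite X] (a b : X) (hgen : Gen a b) (hn : (Subgroup.zpowers a).Normal) (m : ℕ)
    (hcard : Nat.card X = 2 ^ (2 * m + 1)) (hb : b ^ (2 ^ m) ∈ Subgroup.zpowers a) :
    a ^ (2 ^ m) ≠ 1 := by
  intro ha
  have h1 : orderOf a ∣ 2 ^ m := orderOf_dvd_of_pow_eq_one ha
  have h2 : Nat.card (Subgroup.zpowers a) ∣ 2 ^ m := by rw [Nat.card_zpowers]; exact h1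
  have hb' : (b : X ⧸ Subgroup.zpowers a) ^ (2 ^ m) = 1 := by
    rw [← QuotientGroup.mk_pow]; exact (QuotientGroup.eq_one_iff _).mpr hb
  have h3 : Subgroup.zpowers (b : X ⧸ Subgroup.zpowers a) = ⊤ := by
    rw [eq_top_iff]; intro u _
    obtain ⟨j, rfl⟩ := quot_zpowers_gen a b hgen u
    exact Subgroup.zpow_mem_zpowers _ j
  have h4 : Nat.card (X ⧸ Subgroup.zpowers a) ∣ 2 ^ m := by
    rw [← Subgroup.card_top (G := X ⧸ Subgroup.zpowers a), ← h3, Nat.card_zpowers]
    exact orderOf_dvd_of_pow_eq_one hb'
  have h5 := Subgroup.card_eq_card_quotient_mul_card_subgroup (Subgroup.zpowers a)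
  have h6 : Nat.card X ∣ 2 ^ m * 2 ^ m := by rw [h5]; exact Nat.mul_dvd_mul h4 h2
  rw [hcard, ← pow_add] at h6
  have := (Nat.pow_dvd_pow_iff_le_right (by norm_num)).mp h6
  omega

end Cfsg.Agent.Lib.Helper1.MC

namespace Cfsg.Agent.Lib.Helper1.MC

variable {X : Type u} [Group X]

theorem caseQ8 [Finite X] (hX : IsPGroup 2 X) (hab : ¬ ∀ x y : X, x * y = y * x)
    (a b : X) (hgen : Gen a b) (hn : (Subgroup.zpowers a).Normal) (α : MulAut X) (hα : NoInv α)
    (z : X) (huniq : ∀ w ∈ Subgroup.zpowers a, w * w = 1 → w = 1 ∨ w = z)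
    (hcard : Nat.card X = 16) (hDZ : ¬ commutator X ≤ Subgroup.zpowers z) : False := by
  have hDN : commutator X ≤ Subgroup.zpowers a := commutator_le_zpowers a b hgen hn
  have hDn : (commutator X).Normal := by rw [commutator_def]; infer_instance
  -- an element of D with nontrivial square
  obtain ⟨c, hcD, hc2⟩ : ∃ c ∈ commutator X, c * c ≠ 1 := by
    by_contra h
    push Not at h
    apply hDZ
    intro w hw
    rcases huniq w (hDN hw) (h w hw) with h1 | h1
    · rw [h1]; exact Subgroup.one_mem _
    · rw [h1]; exact Subgroup.mem_zpowers z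
  -- the index of D
  have hidx1 : (commutator X).index ≠ 1 := by
    intro h
    apply hab
    have htop : Subgroup.zpowers a = ⊤ := by
      rw [eq_top_iff]; rw [Subgroup.index_eq_one] at h; rw [← h]; exact hDN
    intro x y
    have hx : x ∈ Subgroup.zpowers a := htop ▸ Subgroup.mem_top x
    have hy : y ∈ Subgroup.zpowers a := htop ▸ Subgroup.mem_top y
    obtain ⟨i, rfl⟩ := Subgroup.mem_zpowers_iff.mp hx
    obtain ⟨j, rfl⟩ := Subgroup.mem_zpowers_iff.mp hy
    exact ((Commute.refl a).zpow_zpow i j).eq
  have hidx2 : (commutator X).index ≠ 2 := fun h =>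
    hα _ h (fun x hx => (commutator_aut_mem α x).mpr hx)
  have hmul := (commutator X).card_mul_index
  rw [hcard] at hmul
  have hc1 : c ≠ 1 := by intro h; apply hc2; rw [h, one_mul]
  obtain ⟨s, hs⟩ := (IsPGroup.iff_orderOf.mp hX) c
  have hs2 : 2 ≤ s := by
    by_contra h
    have : s = 0 ∨ s = 1 := by omega
    rcases this with h | h
    · rw [h, pow_zero, orderOf_eq_one_iff] at hs; exact hc1 hs
    · rw [h, pow_one] at hs
      apply hc2; rw [← pow_two, ← hs, pow_orderOf_eq_one]
  have h4D : 4 ∣ Nat.card (commutator X) := by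
    have h1 : orderOf c ∣ Nat.card (commutator X) := Subgroup.orderOf_dvd_natCard _ hcD
    have h2 : 4 ∣ orderOf c := by
      rw [hs]; exact pow_dvd_pow 2 hs2
    exact h2.trans h1
  have hDcard : Nat.card (commutator X) = 4 := by
    obtain ⟨e, he, hie⟩ := (Nat.dvd_prime_pow Nat.prime_two).mp
      (show (commutator X).index ∣ 2 ^ 4 from Dvd.intro_left _ (by rw [hmul]; norm_num))
    obtain ⟨t, ht⟩ := h4D
    rw [hie, ht] at hmul
    rw [hie] at hidx1 hidx2
    interval_cases e
    · exact absurd rfl hidx1
    · exact absurd rfl hidx2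
    · omega
    · omega
    · omega
  have hc4 : c ^ 4 = 1 := by
    have := pow_card_eq_one' (G := commutator X) (x := ⟨c, hcD⟩)
    rw [hDcard] at this
    have := congrArg Subtype.val this
    rwa [Subgroup.coe_pow] at this
  have hoc : orderOf c = 4 := by
    have h1 : ¬ c ^ (2 ^ 1) = 1 := by rw [pow_one, pow_two]; exact hc2
    have := orderOf_eq_prime_pow (p := 2) (n := 1) h1 (by norm_num; exact hc4)
    rw [this]; norm_num
  have hDc : Subgroup.zpowers c = commutator X := by
    apply Subgroup.eq_of_le_of_card_ge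
    · rw [Subgroup.zpowers_le]; exact hcD
    · rw [Nat.card_zpowers, hoc, hDcard]
  have hc3 : c ^ 3 = c⁻¹ := by
    apply eq_inv_of_mul_eq_one_left
    rw [← pow_succ]; exact hc4
  -- conjugation on c
  have hconj : ∀ x : X, x * c * x⁻¹ = c ∨ x * c * x⁻¹ = c⁻¹ := by
    intro x
    have h1 : x * c * x⁻¹ ∈ Subgroup.zpowers c := by rw [hDc]; exact hDn.conj_mem c hcD x
    rcases mem_zpowers_four c _ hoc h1 with h | h | h | h
    · exfalso; apply hc1
      have := congrArg (fun t => x⁻¹ * t * x) h
      beta_reduce at this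
      rw [mul_one, inv_mul_cancel] at this
      rw [← this]; group
    · left; exact h
    · exfalso
      have h2 : (x * c * x⁻¹) ^ 2 = 1 := by rw [h, ← pow_mul]; exact hc4
      rw [conj_pow] at h2
      apply hc2
      have : c ^ 2 = 1 := by
        have := congrArg (fun t => x⁻¹ * t * x) h2
        beta_reduce at this
        rw [mul_one, inv_mul_cancel] at this
        rw [← this]; group
      rw [← pow_two]; exact this
    · right; rw [h, hc3]
  have hinC : ∀ x : X, x ∈ Subgroup.centralizer ((commutator X : Subgroup X) : Set X) ↔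
      x * c * x⁻¹ = c := by
    intro x
    rw [Subgroup.mem_centralizer_iff]
    constructor
    · intro h
      have := h c hcD
      rw [← this]; group
    · intro h w hw
      rw [← hDc] at hw
      obtain ⟨i, rfl⟩ := Subgroup.mem_zpowers_iff.mp hw
      have hcx : Commute x c := by
        show x * c = c * x
        have := congrArg (fun t => t * x) h
        beta_reduce at this
        rwa [inv_mul_cancel_right] at this
      exact ((hcx.zpow_right i).eq).symm
  have hcinv : c⁻¹ ≠ c := by
    intro h
    apply hc2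
    have : c * c = c * c⁻¹ := by rw [h]
    rw [this, mul_inv_cancel]
  have hCtop : Subgroup.centralizer ((commutator X : Subgroup X) : Set X) = ⊤ := by
    by_contra hne
    obtain ⟨u, hu⟩ : ∃ u, u ∉ Subgroup.centralizer ((commutator X : Subgroup X) : Set X) := by
      by_contra h
      push Not at h
      exact hne (eq_top_iff.mpr fun x _ => h x)
    have hu' : u * c * u⁻¹ = c⁻¹ := by
      rcases hconj u with h | h
      · exact absurd ((hinC u).mpr h) hu
      · exact h
    have hidx : (Subgroup.centralizer ((commutator X : Subgroup X) : Set X)).index = 2 := by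
      apply index_two_of_cover _ u hu
      intro x
      by_cases hx : x ∈ Subgroup.centralizer ((commutator X : Subgroup X) : Set X)
      · left; exact hx
      · right
        have hx' : x * c * x⁻¹ = c⁻¹ := by
          rcases hconj x with h | h
          · exact absurd ((hinC x).mpr h) hx
          · exact h
        rw [hinC]
        have : x * u * c * (x * u)⁻¹ = x * (u * c * u⁻¹) * x⁻¹ := by group
        rw [this, hu']
        have : x * c⁻¹ * x⁻¹ = (x * c * x⁻¹)⁻¹ := by group
        rw [this, hx', inv_inv]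
    apply hα _ hidx
    intro x hx
    rw [Subgroup.mem_centralizer_iff] at hx ⊢
    intro w hw
    have hw' : α⁻¹ w ∈ commutator X := by
      apply (commutator_aut_mem α _).mp
      rw [MulAut.apply_inv_self]; exact hw
    have := hx _ hw'
    have := congrArg α this
    rwa [map_mul, map_mul, MulAut.apply_inv_self] at this
  have hDZc : commutator X ≤ Subgroup.center X := by
    intro w hw
    rw [Subgroup.mem_center_iff]
    intro g
    have hg : g ∈ Subgroup.centralizer ((commutator X : Subgroup X) : Set X) := hCtop ▸ Subgroup.mem_top g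
    rw [Subgroup.mem_centralizer_iff] at hg
    exact (hg w hw).symm
  have hcc : CommCentral X := commCentral_of_commutator_le_center hDZc
  -- squares lie in D
  have hsq : ∀ x : X, x * x ∈ commutator X := by
    obtain ⟨hgenQ, -, β, hβ⟩ := quotient_transfer (commutator X) α (commutator_aut_mem α) a b hgen hn hα
    have hQp : IsPGroup 2 (X ⧸ commutator X) := hX.to_quotient _
    have hQc : ∀ u v : X ⧸ commutator X, u * v = v * u := by
      have h : IsMulCommutative (X ⧸ commutator X) :=
        (Subgroup.Normal.quotient_commutative_iff_commutator_le).mpr le_rfl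
      intro u v
      exact h.is_comm.comm u v
    obtain ⟨m, ⟨e⟩⟩ := abelian_case hQp hQc _ _ hgenQ β hβ
    have hQcard : Nat.card (X ⧸ commutator X) = 4 := by
      have := Subgroup.card_eq_card_quotient_mul_card_subgroup (commutator X)
      rw [hcard, hDcard] at this
      omega
    have hm : m = 1 := by
      have h1 := Nat.card_congr e.toEquiv
      rw [hQcard, Nat.card_prod] at h1
      have h2 : Nat.card (Multiplicative (ZMod (2 ^ m))) = 2 ^ m := Nat.card_zmod _
      rw [h2, ← pow_add] at h1
      have : 2 ^ 2 = 2 ^ (m + m) := by rw [← h1]; norm_num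
      have := Nat.pow_right_injective (le_refl 2) this
      omega
    subst hm
    have hdec : ∀ w : Multiplicative (ZMod (2 ^ 1)) × Multiplicative (ZMod (2 ^ 1)), w * w = 1 := by
      decide
    intro x
    rw [← QuotientGroup.eq_one_iff, QuotientGroup.mk_mul]
    apply e.injective
    rw [map_mul, map_one]
    exact hdec _
  -- all commutators square to one
  have hS : commutator X ≤
      ({ carrier := {w | w ∈ Subgroup.center X ∧ w * w = 1}
         one_mem' := ⟨Subgroup.one_mem _, by rw [one_mul]⟩
         mul_mem' := by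
           rintro u v ⟨hu, hu2⟩ ⟨hv, hv2⟩
           refine ⟨Subgroup.mul_mem _ hu hv, ?_⟩
           have : Commute u v := (Subgroup.mem_center_iff.mp hu v).symm
           calc u * v * (u * v) = (u * u) * (v * v) := by
                  rw [mul_assoc, ← mul_assoc v, ← this.eq]; group
             _ = 1 := by rw [hu2, hv2, one_mul]
         inv_mem' := by
           rintro u ⟨hu, hu2⟩
           refine ⟨Subgroup.inv_mem _ hu, ?_⟩
           rw [← mul_inv_rev, hu2, inv_one] } : Subgroup X) := by
    rw [commutator_eq_closure, Subgroup.closure_le]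
    rintro w ⟨x, y, rfl⟩
    refine ⟨hDZc (comm_mem x y), ?_⟩
    rw [← pow_two, ← hcc.comm_pow_left, pow_two]
    have hxx : x * x ∈ Subgroup.center X := hDZc (hsq x)
    rw [commutatorElement_eq_one_iff_mul_comm]
    exact (Subgroup.mem_center_iff.mp hxx y).symm
  exact hc2 (hS hcD).2

end Cfsg.Agent.Lib.Helper1.MC
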