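import Mathlib
import Cfsg.Agent.Lib.Helper1.MC5

set_option autoImplicit false
universe u
open scoped commutatorElement

namespace Cfsg.Agent.Lib.Helper1.MC

variable {X : Type u} [Group X]

theorem caseHom [Finite X] (a b : X) (hgen : Gen a b) (hn : (Subgroup.zpowers a).Normal)
    (α : MulAut X) (hα : NoInv α)
    (z : X) (hz2 : z * z = 1) (hza : z ∈ Subgroup.zpowers a)
    (hzc : z ∈ Subgroup.center X)
    (m : ℕ) (hm : 2 ≤ m) (hcard : Nat.card X = 2 ^ (2 * m + 1))
    (hDZ : commutator X ≤ Subgroup.zpowers z)
    (hpow : ∀ x : X, x ^ (2 ^ m) ∈ Subgroup.zpowers z) : False := by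
  have hZ : ∀ w ∈ Subgroup.zpowers z, w = 1 ∨ w = z := by
    intro w hw
    obtain ⟨i, rfl⟩ := Subgroup.mem_zpowers_iff.mp hw
    have hzz : z ^ (2 : ℤ) = 1 := by rw [zpow_ofNat, pow_two]; exact hz2
    rcases Int.even_or_odd' i with ⟨t, rfl | rfl⟩
    · left; rw [zpow_mul, hzz, one_zpow]
    · right; rw [zpow_add, zpow_mul, hzz, one_zpow, one_mul, zpow_one]
  have hZsq : ∀ w ∈ Subgroup.zpowers z, w * w = 1 := by
    intro w hw
    rcases hZ w hw with h | h
    · rw [h, one_mul]
    · rw [h]; exact hz2
  have hZc : Subgroup.zpowers z ≤ Subgroup.center X := by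
    rw [Subgroup.zpowers_le]; exact hzc
  have hcc : CommCentral X := commCentral_of_commutator_le_center (hDZ.trans hZc)
  have hmulpow : ∀ x y : X, (x * y) ^ (2 ^ m) = x ^ (2 ^ m) * y ^ (2 ^ m) := by
    intro x y
    rw [hcc.mul_pow_eq]
    obtain ⟨t, ht⟩ := even_choose_two m hm
    rw [ht, ← two_mul, pow_mul, pow_two, hZsq _ (hDZ (comm_mem y x)), one_pow, mul_one]
  let S : Subgroup X :=
    { carrier := {x | x ^ (2 ^ m) = 1}
      one_mem' := one_pow _
      mul_mem' := by
        intro x y hx hy
        show (x * y) ^ (2 ^ m) = 1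
        rw [hmulpow, hx, hy, one_mul]
      inv_mem' := by
        intro x hx
        show x⁻¹ ^ (2 ^ m) = 1
        rw [inv_pow, hx, inv_one] }
  have hSmem : ∀ x, x ∈ S ↔ x ^ (2 ^ m) = 1 := fun x => Iff.rfl
  have hb : b ^ (2 ^ m) ∈ Subgroup.zpowers a := by
    have h1 : Subgroup.zpowers z ≤ Subgroup.zpowers a := by
      rw [Subgroup.zpowers_le]; exact hza
    exact h1 (hpow b)
  have haS : a ∉ S := counting a b hgen hn m hcard hb
  have haz : a ^ (2 ^ m) = z := by
    rcases hZ _ (hpow a) with h | h
    · exact absurd h haS
    · exact h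
  have hidx : S.index = 2 := by
    apply index_two_of_cover S a haS
    intro x
    rcases hZ _ (hpow x) with h | h
    · left; exact h
    · right
      rw [hSmem, hmulpow, h, haz, hz2]
  apply hα S hidx
  intro x hx
  rw [hSmem] at hx ⊢
  rw [← map_pow, hx, map_one]

theorem main_aux : ∀ (n : ℕ) (X : Type u) [Group X] [Finite X], Nat.card X = 2 ^ n →
    ∀ a b : X, Gen a b → (Subgroup.zpowers a).Normal → ∀ α : MulAut X, NoInv α →
    Nonempty (X ≃* QuaternionGroup 2) ∨
      ∃ m : ℕ, Nonempty (X ≃* Multiplicative (ZMod (2 ^ m)) × Multiplicative (ZMod (2 ^ m))) := by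
  intro n
  induction n with
  | zero =>
    intro X _ _ hcard a b hgen hn α hα
    right
    have hX : IsPGroup 2 X := IsPGroup.of_card (n := 0) hcard
    have hab : ∀ x y : X, x * y = y * x := by
      rw [pow_zero] at hcard
      have : Subsingleton X := (Nat.card_eq_one_iff_unique.mp hcard).1
      intro x y; rw [Subsingleton.elim x 1, Subsingleton.elim y 1]
    exact abelian_case hX hab a b hgen α hα
  | succ n ih =>
    intro X _ _ hcard a b hgen hn α hα
    have hX : IsPGroup 2 X := IsPGroup.of_card hcard
    by_cases hab : ∀ x y : X, x * y = y * x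
    · right; exact abelian_case hX hab a b hgen α hα
    have hDN : commutator X ≤ Subgroup.zpowers a := commutator_le_zpowers a b hgen hn
    have hDn : (commutator X).Normal := by rw [commutator_def]; infer_instance
    have hDne : commutator X ≠ ⊥ := by
      intro h
      apply hab
      intro x y
      have := comm_mem x y
      rw [h, Subgroup.mem_bot, commutatorElement_eq_one_iff_mul_comm] at this
      exact this
    obtain ⟨k, hk⟩ := (IsPGroup.iff_orderOf.mp hX) a
    have hk1 : 1 ≤ k := by
      by_contra h
      have : k = 0 := by omega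
      rw [this, pow_zero, orderOf_eq_one_iff] at hk
      apply hDne
      rw [eq_bot_iff]
      intro w hw
      have := hDN hw
      rw [hk, Subgroup.zpowers_one_eq_bot] at this
      exact this
    obtain ⟨z, hz⟩ : ∃ z, z = a ^ (2 ^ (k - 1)) := ⟨_, rfl⟩
    have hza : z ∈ Subgroup.zpowers a := hz ▸ Subgroup.pow_mem _ (Subgroup.mem_zpowers a) _
    have hz2 : z * z = 1 := by
      rw [hz, ← pow_two, ← pow_mul, ← pow_succ, Nat.sub_add_cancel hk1, ← hk, pow_orderOf_eq_one]
    have hz1 : z ≠ 1 := by
      rw [hz]
      apply pow_ne_one_of_lt_orderOf (by positivity)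
      rw [hk]
      exact Nat.pow_lt_pow_right (by norm_num) (by omega)
    have huniq : ∀ w ∈ Subgroup.zpowers a, w * w = 1 → w = 1 ∨ w = z := by
      intro w hw hw2
      by_cases h1 : w = 1
      · left; exact h1
      · right; rw [hz]; exact unique_involution a k hk1 hk w hw hw2 h1
    have hzD : z ∈ commutator X := by
      have hDp : IsPGroup 2 (commutator X) := hX.to_subgroup _
      obtain ⟨d, hd⟩ := IsPGroup.iff_card.mp hDp
      have hd0 : d ≠ 0 := by
        intro h0
        rw [h0, pow_zero] at hd
        exact hDne (Subgroup.eq_bot_of_card_eq _ hd)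
      have hd1 : 2 ∣ Nat.card (commutator X) := by rw [hd]; exact dvd_pow_self 2 hd0
      have : Fact (Nat.Prime 2) := ⟨Nat.prime_two⟩
      obtain ⟨v, hv⟩ := exists_prime_orderOf_dvd_card' (G := commutator X) 2 hd1
      have hv' : orderOf (v : X) = 2 := by rw [Subgroup.orderOf_coe]; exact hv
      have h1 : (v : X) * v = 1 := by rw [← pow_two, ← hv', pow_orderOf_eq_one]
      have h2 : (v : X) ≠ 1 := by
        intro h; rw [h, orderOf_one] at hv'; omega
      rcases huniq v (hDN v.2) h1 with h | h
      · exact absurd h h2
      · rw [← h]; exact v.2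
    have hzα : α z = z := by
      have h1 : α z ∈ commutator X := (commutator_aut_mem α z).mpr hzD
      have h2 : α z * α z = 1 := by rw [← map_mul, hz2, map_one]
      rcases huniq _ (hDN h1) h2 with h | h
      · exfalso; apply hz1; apply α.injective; rw [h, map_one]
      · exact h
    have hzconj : ∀ x : X, x * z * x⁻¹ = z := by
      intro x
      have h1 : x * z * x⁻¹ ∈ commutator X := hDn.conj_mem z hzD x
      have h2 : x * z * x⁻¹ * (x * z * x⁻¹) = 1 := by
        have : x * z * x⁻¹ * (x * z * x⁻¹) = x * (z * z) * x⁻¹ := by group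
        rw [this, hz2]; group
      rcases huniq _ (hDN h1) h2 with h | h
      · exfalso; apply hz1
        have := congrArg (fun t => x⁻¹ * t * x) h
        beta_reduce at this
        rw [mul_one, inv_mul_cancel] at this
        rw [← this]; group
      · exact h
    have hzc : z ∈ Subgroup.center X := by
      rw [Subgroup.mem_center_iff]
      intro g
      have := hzconj g
      have := congrArg (fun t => t * g) this
      beta_reduce at this
      rwa [inv_mul_cancel_right] at this
    have hZ : ∀ w, w ∈ Subgroup.zpowers z ↔ (w = 1 ∨ w = z) := by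
      intro w
      constructor
      · intro hw
        obtain ⟨i, rfl⟩ := Subgroup.mem_zpowers_iff.mp hw
        have hzz : z ^ (2 : ℤ) = 1 := by rw [zpow_ofNat, pow_two]; exact hz2
        rcases Int.even_or_odd' i with ⟨t, rfl | rfl⟩
        · left; rw [zpow_mul, hzz, one_zpow]
        · right; rw [zpow_add, zpow_mul, hzz, one_zpow, one_mul, zpow_one]
      · rintro (h | h)
        · rw [h]; exact Subgroup.one_mem _
        · rw [h]; exact Subgroup.mem_zpowers z
    have hZn : (Subgroup.zpowers z).Normal := by
      constructor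
      intro w hw x
      rcases (hZ w).mp hw with h | h
      · rw [h]; simp
      · rw [h, hzconj]; exact Subgroup.mem_zpowers z
    have hZα : ∀ x, α x ∈ Subgroup.zpowers z ↔ x ∈ Subgroup.zpowers z := by
      intro x
      rw [hZ, hZ]
      constructor
      · rintro (h | h)
        · left; apply α.injective; rw [h, map_one]
        · right; apply α.injective; rw [h, hzα]
      · rintro (h | h)
        · left; rw [h, map_one]
        · right; rw [h, hzα]
    have hZcard : Nat.card (Subgroup.zpowers z) = 2 := by
      rw [Nat.card_zpowers]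
      apply orderOf_eq_prime
      · rw [pow_two]; exact hz2
      · exact hz1
    have hYcard : Nat.card (X ⧸ Subgroup.zpowers z) = 2 ^ n := by
      have := Subgroup.card_eq_card_quotient_mul_card_subgroup (Subgroup.zpowers z)
      rw [hcard, hZcard, pow_succ] at this
      omega
    obtain ⟨hgenY, hnY, β, hβ⟩ := quotient_transfer (Subgroup.zpowers z) α hZα a b hgen hn hα
    rcases ih (X ⧸ Subgroup.zpowers z) hYcard _ _ hgenY hnY β hβ with ⟨⟨e⟩⟩ | ⟨m, ⟨e⟩⟩
    · -- quaternion quotient: impossible
      exfalso
      have h8 : Nat.card (X ⧸ Subgroup.zpowers z) = 8 := by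
        rw [Nat.card_congr e.toEquiv, Nat.card_eq_fintype_card, QuaternionGroup.card]
      have hn3 : n = 3 := by
        rw [hYcard] at h8
        have : 2 ^ n = 2 ^ 3 := by rw [h8]; norm_num
        exact Nat.pow_right_injective (le_refl 2) this
      subst hn3
      apply caseQ8 hX hab a b hgen hn α hα z huniq (by rw [hcard]; norm_num)
      intro hDZ
      have hne : (QuaternionGroup.a 1 : QuaternionGroup 2) * QuaternionGroup.xa 0 ≠
          QuaternionGroup.xa 0 * QuaternionGroup.a 1 := by decide
      apply hne
      have hYc : ∀ u v : X ⧸ Subgroup.zpowers z, u * v = v * u := by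
        intro u v
        obtain ⟨x, rfl⟩ := QuotientGroup.mk_surjective u
        obtain ⟨y, rfl⟩ := QuotientGroup.mk_surjective v
        rw [← QuotientGroup.mk_mul, ← QuotientGroup.mk_mul, QuotientGroup.eq]
        have : (x * y)⁻¹ * (y * x) = ⁅y⁻¹, x⁻¹⁆ := by
          rw [commutatorElement_def]; group
        rw [this]
        exact hDZ (comm_mem _ _)
      have := hYc (e.symm (QuaternionGroup.a 1)) (e.symm (QuaternionGroup.xa 0))
      have := congrArg e this
      rwa [map_mul, map_mul, MulEquiv.apply_symm_apply, MulEquiv.apply_symm_apply] at this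
    · -- homocyclic quotient
      have hYc : ∀ u v : X ⧸ Subgroup.zpowers z, u * v = v * u := by
        intro u v
        apply e.injective
        rw [map_mul, map_mul, mul_comm]
      have hDZ : commutator X ≤ Subgroup.zpowers z := by
        rw [commutator_eq_closure, Subgroup.closure_le]
        rintro w ⟨x, y, rfl⟩
        rw [SetLike.mem_coe, ← QuotientGroup.eq_one_iff]
        have : ((⁅x, y⁆ : X) : X ⧸ Subgroup.zpowers z) =
            ⁅(x : X ⧸ Subgroup.zpowers z), (y : X ⧸ Subgroup.zpowers z)⁆ := by
          rw [commutatorElement_def, commutatorElement_def]; rfl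
        rw [this, commutatorElement_eq_one_iff_mul_comm]
        exact hYc _ _
      have hncard : n = 2 * m := by
        have h1 := Nat.card_congr e.toEquiv
        rw [hYcard, Nat.card_prod] at h1
        have h2 : Nat.card (Multiplicative (ZMod (2 ^ m))) = 2 ^ m := Nat.card_zmod _
        rw [h2, ← pow_add] at h1
        have := Nat.pow_right_injective (le_refl 2) h1
        omega
      have hpow : ∀ x : X, x ^ (2 ^ m) ∈ Subgroup.zpowers z := by
        intro x
        rw [← QuotientGroup.eq_one_iff, QuotientGroup.mk_pow]
        apply e.injective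
        rw [map_pow, map_one]
        exact prod_zmod_pow _ _
      subst hncard
      rcases Nat.lt_or_ge m 2 with hm | hm
      · have hm01 : m = 0 ∨ m = 1 := by omega
        rcases hm01 with rfl | rfl
        · exfalso
          apply hab
          have h2 : Nat.card X = 2 := by rw [hcard]; norm_num
          have : Fact (Nat.Prime 2) := ⟨Nat.prime_two⟩
          have hcyc : IsCyclic X := isCyclic_of_prime_card h2
          intro u v
          exact Std.Commutative.comm u v
        · left
          exact order_eight_case (by rw [hcard]; norm_num) hab α hα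
      · exfalso
        exact caseHom a b hgen hn α hα z hz2 hza hzc m hm hcard hDZ hpow

end Cfsg.Agent.Lib.Helper1.MC
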