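import Mathlib
import Cfsg.Agent.Lib.Helper1.BG8b
import Cfsg.Agent.Lib.Helper1.CoprimeSylow
import Cfsg.Agent.Lib.Helper8.SigFun
import Cfsg.Agent.S1442

set_option autoImplicit false
set_option linter.style.haveILetI false
set_option linter.unusedSectionVars false
set_option linter.unusedVariables false
universe u
open scoped commutatorElement Pointwise

namespace Cfsg.Agent.Lib.Helper1.ML

open Cfsg Subgroup Cfsg.Agent.Lib.Helper1 Cfsg.Agent.Lib.Helper1.BG7 Cfsg.Agent.Lib.Helper1.BG8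

variable {G : Type u} [Group G] [Finite G]

/-- hypotheses on a maximal local subgroup `H` and `M ≤ F(H)` with `C_{F(H)}(M) ≤ M` -/
structure MLData (H M : Subgroup G) : Prop where
  loc : IsLocalSubgroup H
  max : ∀ L : Subgroup G, IsLocalSubgroup L → H ≤ L → L = H
  le : M ≤ fittingOf H
  cent : fittingOf H ⊓ Subgroup.centralizer (M : Set G) ≤ M

variable {H M : Subgroup G}

theorem normalizer_Zq_eq (d : MLData H M) {r : ℕ} [hr : Fact r.Prime]
    (hrd : r ∣ Nat.card (fittingOf H)) : Subgroup.normalizer (Zq r H : Set G) = H :=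
  d.max _ ⟨r, Zq r H, hr.out, Zq_isPGroup r H, Zq_ne_bot (Oq_ne_bot_of_dvd hrd), rfl⟩
    (le_normalizer_Zq r H)

theorem Zq_le_M (d : MLData H M) (r : ℕ) : Zq r H ≤ M :=
  (Zq_le_center r H).trans
    ((inf_le_inf_left _ (Subgroup.centralizer_le (fun _ hx => d.le hx))).trans d.cent)

theorem centralizer_inf_Oq_le (d : MLData H M) {r : ℕ} [hr : Fact r.Prime]
    (hrd : r ∣ Nat.card (fittingOf H)) :
    Subgroup.centralizer ((M ⊓ piCoreOf {r} H : Subgroup G) : Set G) ≤ H := by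
  have h1 : Zq r H ≤ M ⊓ piCoreOf {r} H := le_inf (Zq_le_M d r) (Zq_le_Oq r H)
  have h2 : Subgroup.centralizer ((M ⊓ piCoreOf {r} H : Subgroup G) : Set G) ≤
      Subgroup.centralizer (Zq r H : Set G) := Subgroup.centralizer_le (fun _ hx => h1 hx)
  have h3 : Subgroup.centralizer ((M ⊓ piCoreOf {r} H : Subgroup G) : Set G) ≤
      Subgroup.normalizer (Zq r H : Set G) := h2.trans (Subgroup.centralizer_le_normalizer _)
  rwa [normalizer_Zq_eq d hrd] at h3

/-- Claim A -/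
theorem le_centralizer_fittingOf (d : MLData H M) {Y : Subgroup G} (hYH : Y ≤ H)
    (hMY : M ≤ Subgroup.normalizer (Y : Set G))
    (hcop : (Nat.card Y).Coprime (Nat.card (fittingOf H))) :
    Y ≤ Subgroup.centralizer (fittingOf H : Set G) := by
  have hHF := le_normalizer_fittingOf H
  have hdisj : Y ⊓ fittingOf H = ⊥ := (Subgroup.disjoint_of_coprime_natCard hcop).eq_bot
  have hYM : Y ≤ Subgroup.centralizer (M : Set G) := by
    intro y hy
    rw [Subgroup.mem_centralizer_iff]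
    intro m hm
    have hm' : m ∈ M := hm
    have h1 : y * m * y⁻¹ * m⁻¹ ∈ fittingOf H :=
      (fittingOf H).mul_mem ((Subgroup.mem_normalizer_iff.mp (hHF (hYH hy)) m).mp (d.le hm'))
        ((fittingOf H).inv_mem (d.le hm'))
    have h2 : y * m * y⁻¹ * m⁻¹ ∈ Y := by
      have h3 : m * y⁻¹ * m⁻¹ ∈ Y :=
        (Subgroup.mem_normalizer_iff.mp (hMY hm') y⁻¹).mp (Y.inv_mem hy)
      have e : y * m * y⁻¹ * m⁻¹ = y * (m * y⁻¹ * m⁻¹) := by group
      rw [e]; exact Y.mul_mem hy h3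
    have h3 : y * m * y⁻¹ * m⁻¹ ∈ Y ⊓ fittingOf H := Subgroup.mem_inf.mpr ⟨h2, h1⟩
    rw [hdisj, Subgroup.mem_bot] at h3
    have e : y * m = (y * m * y⁻¹ * m⁻¹) * (m * y) := by group
    rw [e, h3, one_mul]
  have hMY' : M ≤ Subgroup.centralizer (Y : Set G) := Subgroup.le_centralizer_iff.mp hYM
  have hM1 : M ≤ fittingOf H ⊓ Subgroup.centralizer (Y : Set G) := le_inf d.le hMY'
  apply Cfsg.Agent.S1442.result (fittingOf H) Y (isNilpotent_fittingOf H) (hYH.trans hHF) hcop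
  have h4 : Subgroup.centralizer ((fittingOf H ⊓ Subgroup.centralizer (Y : Set G) : Subgroup G) : Set G)
      ≤ Subgroup.centralizer (M : Set G) := Subgroup.centralizer_le (fun _ hx => hM1 hx)
  exact ((inf_le_inf_left _ h4).trans d.cent).trans hM1

/-- `X ∩ R ≤ F(H)` where `X = C_H(F(H))` normalizes the solvable group `R` -/
theorem cent_inf_le_fittingOf (H R : Subgroup G) [hR : Group.IsSolvable R]
    (hXR : H ⊓ Subgroup.centralizer (fittingOf H : Set G) ≤ Subgroup.normalizer (R : Set G)) :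
    (H ⊓ Subgroup.centralizer (fittingOf H : Set G)) ⊓ R ≤ fittingOf H := by
  obtain ⟨X, hX⟩ : ∃ X : Subgroup G, X = H ⊓ Subgroup.centralizer (fittingOf H : Set G) := ⟨_, rfl⟩
  rw [← hX] at hXR ⊢
  obtain ⟨N, hN⟩ : ∃ N : Subgroup G, N = X ⊓ R := ⟨_, rfl⟩
  rw [← hN]
  have hNX : N ≤ X := by rw [hN]; exact inf_le_left
  have hNR : N ≤ R := by rw [hN]; exact inf_le_right
  have hXN : X ≤ Subgroup.normalizer (N : Set G) := by
    rw [hN]; exact le_normalizer_inf Subgroup.le_normalizer hXR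
  have hXH : X ≤ H := by rw [hX]; exact inf_le_left
  have hXC : X ≤ Subgroup.centralizer (fittingOf H : Set G) := by rw [hX]; exact inf_le_right
  have hHX : H ≤ Subgroup.normalizer (X : Set G) := by
    rw [hX]
    exact le_normalizer_inf Subgroup.le_normalizer
      ((le_normalizer_fittingOf H).trans (normalizer_le_normalizer_centralizer_self _))
  haveI : Group.IsSolvable N := isSolvable_of_le hNR
  have h1 : ∀ (s : ℕ) [Fact s.Prime], piCoreOf {s} N ≤ fittingOf H := fun s _ =>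
    (piCoreOf_le_of_normal {s} hNX hXN).trans
      ((piCoreOf_le_of_normal {s} hXH hHX).trans (Oq_le_fittingOf s H))
  have h2 : fittingOf N ≤ fittingOf H :=
    le_of_forall_inf_Oq_le (M := N) (A := fittingOf N) le_rfl (fun s _ => inf_le_right.trans (h1 s))
  have h3 : N ≤ Subgroup.centralizer (fittingOf N : Set G) :=
    (hNX.trans hXC).trans (Subgroup.centralizer_le (fun _ hx => h2 hx))
  have h4 : N ≤ fittingOf N := fun n hn =>
    centralizer_fittingOf_le N (Subgroup.mem_inf.mpr ⟨hn, h3 hn⟩)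
  exact h4.trans h2

theorem isSolvable_M (d : MLData H M) : Group.IsSolvable M := by
  haveI := isNilpotent_fittingOf H
  exact isSolvable_of_le d.le

theorem le_normalizer_inf_Oq (d : MLData H M) (p : ℕ) :
    M ≤ Subgroup.normalizer ((M ⊓ piCoreOf {p} H : Subgroup G) : Set G) :=
  le_normalizer_inf Subgroup.le_normalizer
    ((d.le.trans (fittingOf_le H)).trans (le_normalizer_piCoreOf _ _))

/-- Corollary B -/
theorem inf_centralizer_eq_bot (d : MLData H M) {R : Subgroup G} [hR : Group.IsSolvable R]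
    (hXR : H ⊓ Subgroup.centralizer (fittingOf H : Set G) ≤ Subgroup.normalizer (R : Set G))
    {Y : Subgroup G} (hYR : Y ≤ R) (hMY : M ≤ Subgroup.normalizer (Y : Set G))
    (hcop : (Nat.card Y).Coprime (Nat.card (fittingOf H)))
    {p : ℕ} [hp : Fact p.Prime] (hpd : p ∣ Nat.card (fittingOf H)) :
    Y ⊓ Subgroup.centralizer ((M ⊓ piCoreOf {p} H : Subgroup G) : Set G) = ⊥ := by
  obtain ⟨Y0, hY0⟩ : ∃ Y0 : Subgroup G,
    Y0 = Y ⊓ Subgroup.centralizer ((M ⊓ piCoreOf {p} H : Subgroup G) : Set G) := ⟨_, rfl⟩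
  rw [← hY0]
  have hY0Y : Y0 ≤ Y := by rw [hY0]; exact inf_le_left
  have hY0H : Y0 ≤ H := by rw [hY0]; exact inf_le_right.trans (centralizer_inf_Oq_le d hpd)
  have hMY0 : M ≤ Subgroup.normalizer (Y0 : Set G) := by
    rw [hY0]
    exact le_normalizer_inf hMY
      ((le_normalizer_inf_Oq d p).trans (normalizer_le_normalizer_centralizer_self _))
  have hcop0 : (Nat.card Y0).Coprime (Nat.card (fittingOf H)) :=
    Nat.Coprime.coprime_dvd_left (Subgroup.card_dvd_of_le hY0Y) hcop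
  have hA := le_centralizer_fittingOf d hY0H hMY0 hcop0
  have hY0F : Y0 ≤ fittingOf H := fun y hy =>
    cent_inf_le_fittingOf H R hXR
      (Subgroup.mem_inf.mpr ⟨Subgroup.mem_inf.mpr ⟨hY0H hy, hA hy⟩, hYR (hY0Y hy)⟩)
  exact Subgroup.card_eq_one.mp (Nat.Coprime.eq_one_of_dvd hcop0 (Subgroup.card_dvd_of_le hY0F))

/-- Step 4 -/
theorem inf_Oq_le_Opprime (d : MLData H M) {R : Subgroup G} (hR : Group.IsSolvable R)
    (hMR : M ≤ Subgroup.normalizer (R : Set G))
    {p r : ℕ} [hp : Fact p.Prime] [hr : Fact r.Prime] (hpd : p ∣ Nat.card (fittingOf H))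
    (hrp : r ≠ p) :
    M ⊓ piCoreOf {r} H ≤ piCoreOf (ne p) (R ⊔ M) := by
  haveI : Group.IsSolvable (R ⊔ M : Subgroup G) :=
    Cfsg.Agent.Lib.Helper8.SigFun.isSolvable_sup_of_le_normalizer hMR hR (isSolvable_M d)
  have hZ : Zq p H ≤ R ⊔ M := (Zq_le_M d p).trans le_sup_right
  have h1 := piCoreOf_ne_normalizer_le p (R ⊔ M) (Zq p H) hZ (Zq_isPGroup p H)
  rw [normalizer_Zq_eq d hpd] at h1
  have h2 : piCoreOf {r} H ⊓ (R ⊔ M) ≤ piCoreOf (ne p) ((R ⊔ M) ⊓ H) := by
    apply le_piCoreOf'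
    · exact le_inf inf_le_right (inf_le_left.trans (piCoreOf_le _ _))
    · exact le_normalizer_inf (inf_le_right.trans (le_normalizer_piCoreOf _ _))
        (inf_le_left.trans Subgroup.le_normalizer)
    · apply ((piCoreOf_piGrp {r} H).mono inf_le_left).mono_left
      intro t ht
      rw [Set.mem_singleton_iff] at ht
      rw [ht]
      exact hrp
  exact (le_inf inf_le_right (inf_le_left.trans le_sup_right)).trans (h2.trans h1)

/-- Step 5 -/
theorem inv_le_Opprime (d : MLData H M)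
    (hF2 : 2 ≤ (Nat.card (fittingOf H)).primeFactors.card)
    {R : Subgroup G} (hR : Group.IsSolvable R)
    (hMR : M ≤ Subgroup.normalizer (R : Set G))
    (hXR : H ⊓ Subgroup.centralizer (fittingOf H : Set G) ≤ Subgroup.normalizer (R : Set G))
    {Y : Subgroup G} (hYR : Y ≤ R) (hMY : M ≤ Subgroup.normalizer (Y : Set G))
    (hcop : (Nat.card Y).Coprime (Nat.card (fittingOf H)))
    {p : ℕ} [hp : Fact p.Prime] (hpd : p ∣ Nat.card (fittingOf H)) :
    Y ≤ piCoreOf (ne p) (R ⊔ M) := by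
  obtain ⟨r, hr, hrp⟩ := Finset.exists_mem_ne (Nat.lt_of_lt_of_le Nat.one_lt_two hF2) p
  haveI : Fact r.Prime := ⟨Nat.prime_of_mem_primeFactors hr⟩
  have hrd : r ∣ Nat.card (fittingOf H) := Nat.dvd_of_mem_primeFactors hr
  haveI := isNilpotent_fittingOf H
  have hAF : M ⊓ piCoreOf {r} H ≤ fittingOf H := inf_le_left.trans d.le
  have hAY : M ⊓ piCoreOf {r} H ≤ Subgroup.normalizer (Y : Set G) := inf_le_left.trans hMY
  have hcopA : (Nat.card (M ⊓ piCoreOf {r} H : Subgroup G)).Coprime (Nat.card Y) :=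
    Nat.Coprime.coprime_dvd_left (Subgroup.card_dvd_of_le hAF) hcop.symm
  have hsolv : Group.IsSolvable (M ⊓ piCoreOf {r} H : Subgroup G) := isSolvable_of_le hAF
  have h := coprime_commutator_sup_centralizer (M ⊓ piCoreOf {r} H) Y hAY hcopA (Or.inl hsolv)
  haveI := hR
  rw [inf_centralizer_eq_bot d hXR hYR hMY hcop hrd, sup_bot_eq] at h
  rw [← h]
  have h1 : ⁅Y, M ⊓ piCoreOf {r} H⁆ ≤ ⁅R ⊔ M, piCoreOf (ne p) (R ⊔ M)⁆ :=
    Subgroup.commutator_mono (hYR.trans le_sup_left) (inf_Oq_le_Opprime d hR hMR hpd hrp)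
  apply h1.trans
  rw [Subgroup.commutator_comm]
  exact Subgroup.le_normalizer_iff_commutator_le_left.mp (le_normalizer_piCoreOf _ _)

/-- Step 5b -/
theorem inv_le_core (d : MLData H M)
    (hF2 : 2 ≤ (Nat.card (fittingOf H)).primeFactors.card)
    {R : Subgroup G} (hR : Group.IsSolvable R)
    (hMR : M ≤ Subgroup.normalizer (R : Set G))
    (hXR : H ⊓ Subgroup.centralizer (fittingOf H : Set G) ≤ Subgroup.normalizer (R : Set G))
    {Y : Subgroup G} (hYR : Y ≤ R) (hMY : M ≤ Subgroup.normalizer (Y : Set G))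
    (hcop : (Nat.card Y).Coprime (Nat.card (fittingOf H))) :
    Y ≤ piCoreOf (primesNotDvd (Nat.card (fittingOf H))) R := by
  obtain ⟨D, hD⟩ : ∃ D : Subgroup G,
    D = ⨅ p : {p : ℕ // p.Prime ∧ p ∣ Nat.card (fittingOf H)}, piCoreOf (ne p.1) (R ⊔ M) := ⟨_, rfl⟩
  have hYD : Y ≤ D := by
    rw [hD]
    apply le_iInf
    intro p
    haveI : Fact p.1.Prime := ⟨p.2.1⟩
    exact inv_le_Opprime d hF2 hR hMR hXR hYR hMY hcop p.2.2
  have hD_le : ∀ p : ℕ, p.Prime → p ∣ Nat.card (fittingOf H) → D ≤ piCoreOf (ne p) (R ⊔ M) := by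
    intro p hp hpd
    rw [hD]
    exact iInf_le (fun p : {p : ℕ // p.Prime ∧ p ∣ Nat.card (fittingOf H)} =>
      piCoreOf (ne p.1) (R ⊔ M)) ⟨p, hp, hpd⟩
  have hRsD : R ⊔ M ≤ Subgroup.normalizer (D : Set G) := by
    apply le_normalizer_of_conj_mem
    intro g hg x hx
    rw [hD] at hx ⊢
    rw [Subgroup.mem_iInf] at hx ⊢
    intro i
    exact (Subgroup.mem_normalizer_iff.mp (le_normalizer_piCoreOf _ _ hg) x).mp (hx i)
  have hDpi : PiGrp (primesNotDvd (Nat.card (fittingOf H))) (D ⊓ R) := by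
    intro s hs hsd
    refine ⟨hs, fun hsF => ?_⟩
    haveI : Fact s.Prime := ⟨hs⟩
    have h1 : (Nat.card (piCoreOf (ne s) (R ⊔ M))).Coprime s := piCoreOf_ne_coprime s (R ⊔ M)
    have h2 : s ∣ Nat.card (piCoreOf (ne s) (R ⊔ M)) :=
      hsd.trans (Subgroup.card_dvd_of_le (inf_le_left.trans (hD_le s hs hsF)))
    exact hs.one_lt.ne' (Nat.Coprime.eq_one_of_dvd h1.symm h2)
  have hle : D ⊓ R ≤ piCoreOf (primesNotDvd (Nat.card (fittingOf H))) R :=
    le_piCoreOf' inf_le_right (le_normalizer_inf (le_sup_left.trans hRsD) Subgroup.le_normalizer) hDpi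
  exact (le_inf hYD hYR).trans hle

/-- Step 6 -/
theorem exists_unique_invariant_sylow (d : MLData H M)
    (hF2 : 2 ≤ (Nat.card (fittingOf H)).primeFactors.card)
    {R : Subgroup G} (hR : Group.IsSolvable R)
    (hMR : M ≤ Subgroup.normalizer (R : Set G))
    (hXR : H ⊓ Subgroup.centralizer (fittingOf H : Set G) ≤ Subgroup.normalizer (R : Set G))
    (q : ℕ) [hq : Fact q.Prime] :
    ∃ P : Sylow q (piCoreOf (primesNotDvd (Nat.card (fittingOf H))) R),
      M ≤ Subgroup.normalizer (((P : Subgroup _).map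
        (piCoreOf (primesNotDvd (Nat.card (fittingOf H))) R).subtype : Subgroup G) : Set G) ∧
      ∀ U : Subgroup G, U ≤ piCoreOf (primesNotDvd (Nat.card (fittingOf H))) R → IsPGroup q U →
        M ≤ Subgroup.normalizer (U : Set G) →
        U ≤ (P : Subgroup _).map (piCoreOf (primesNotDvd (Nat.card (fittingOf H))) R).subtype := by
  obtain ⟨K, hK⟩ : ∃ K : Subgroup G, K = piCoreOf (primesNotDvd (Nat.card (fittingOf H))) R :=
    ⟨_, rfl⟩
  rw [← hK]
  have hKR : K ≤ R := by rw [hK]; exact piCoreOf_le _ _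
  have hMK : M ≤ Subgroup.normalizer (K : Set G) := by
    rw [hK]; exact hMR.trans (normalizer_le_normalizer_piCoreOf _ R)
  have hcopKF : (Nat.card K).Coprime (Nat.card (fittingOf H)) := by
    rw [hK]
    exact Nat.coprime_of_dvd (fun k hk h1 => (piCoreOf_pi _ R k hk h1).2)
  have hcopMK : (Nat.card M).Coprime (Nat.card K) :=
    Nat.Coprime.coprime_dvd_left (Subgroup.card_dvd_of_le d.le) hcopKF.symm
  have hMsolv := isSolvable_M d
  have hCK : K ⊓ Subgroup.centralizer (M : Set G) = ⊥ := by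
    have hpos : 0 < (Nat.card (fittingOf H)).primeFactors.card :=
      Nat.lt_of_lt_of_le Nat.zero_lt_two hF2
    obtain ⟨p, hp⟩ := Finset.card_pos.mp hpos
    haveI : Fact p.Prime := ⟨Nat.prime_of_mem_primeFactors hp⟩
    haveI := hR
    have h1 := inf_centralizer_eq_bot d hXR hKR hMK hcopKF (Nat.dvd_of_mem_primeFactors hp)
    apply le_bot_iff.mp
    rw [← h1]
    exact inf_le_inf_left _ (Subgroup.centralizer_le (fun _ hx => (Subgroup.mem_inf.mp hx).1))
  obtain ⟨P, hP⟩ := coprime_exists_invariant_sylow M K hMK hcopMK (Or.inl hMsolv) q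
  refine ⟨P, hP, fun U hUK hU hMU => ?_⟩
  obtain ⟨P', hUP', hP'⟩ :=
    coprime_invariant_le_sylow M K hMK hcopMK (Or.inl hMsolv) q U hUK hU hMU
  obtain ⟨c, hc, hcP⟩ := coprime_invariant_sylow_conj M K hMK hcopMK (Or.inl hMsolv) q P P' hP hP'
  have hc1 : c = 1 := by
    have h1 : (c : G) ∈ K ⊓ Subgroup.centralizer (M : Set G) := Subgroup.mem_inf.mpr ⟨c.2, hc⟩
    rw [hCK, Subgroup.mem_bot] at h1
    exact Subtype.ext h1
  rw [hc1, map_one, one_smul] at hcP
  rw [hcP]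
  exact hUP'

/-- BG Lemma-type statement: unique maximal `M`-invariant `q`-subgroup of `R` -/
theorem main (d : MLData H M)
    (hF2 : 2 ≤ (Nat.card (fittingOf H)).primeFactors.card)
    {R : Subgroup G} (hR : Group.IsSolvable R)
    (hMR : M ≤ Subgroup.normalizer (R : Set G))
    (hXR : H ⊓ Subgroup.centralizer (fittingOf H : Set G) ≤ Subgroup.normalizer (R : Set G))
    (q : ℕ) [hq : Fact q.Prime] (hqF : ¬ q ∣ Nat.card (fittingOf H)) :
    ∃! Q : Subgroup G, Q ∈ maxInvSubgroups R M {q} ∧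
      (∀ Q' : Subgroup G, Q' ∈ maxInvSubgroups R M {q} →
        Q' ≤ piCoreOf (primesNotDvd (Nat.card (fittingOf H))) R ∧
        ¬ q ∣ Q'.relIndex (piCoreOf (primesNotDvd (Nat.card (fittingOf H))) R)) := by
  obtain ⟨P, hP, hPmax⟩ := exists_unique_invariant_sylow d hF2 hR hMR hXR q
  obtain ⟨K, hK⟩ : ∃ K : Subgroup G, K = piCoreOf (primesNotDvd (Nat.card (fittingOf H))) R :=
    ⟨_, rfl⟩
  obtain ⟨Q, hQ⟩ : ∃ Q : Subgroup G, Q = (P : Subgroup _).map
    (piCoreOf (primesNotDvd (Nat.card (fittingOf H))) R).subtype := ⟨_, rfl⟩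
  rw [← hQ] at hP hPmax
  have hQK : Q ≤ piCoreOf (primesNotDvd (Nat.card (fittingOf H))) R := by
    rw [hQ]; exact Subgroup.map_subtype_le _
  have hQq : IsPGroup q Q := by rw [hQ]; exact P.2.map _
  have hQinv : Q ∈ invSubgroups R M {q} :=
    ⟨hQK.trans (piCoreOf_le _ _), piGrp_singleton_iff.mpr hQq, hP⟩
  have hall : ∀ Y ∈ invSubgroups R M {q}, Y ≤ Q := by
    rintro Y ⟨hYR, hYpi, hMY⟩
    have hYq : IsPGroup q Y := piGrp_singleton_iff.mp hYpi
    have hcop : (Nat.card Y).Coprime (Nat.card (fittingOf H)) := by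
      obtain ⟨k, hk⟩ := IsPGroup.iff_card.mp hYq
      rw [hk]
      exact Nat.Coprime.pow_left k ((Nat.Prime.coprime_iff_not_dvd hq.out).mpr hqF)
    exact hPmax Y (inv_le_core d hF2 hR hMR hXR hYR hMY hcop) hYq hMY
  have hQmax : Q ∈ maxInvSubgroups R M {q} :=
    ⟨hQinv, fun R' hR' hQR' => le_antisymm (hall R' hR') hQR'⟩
  have huniq : ∀ Q' ∈ maxInvSubgroups R M {q}, Q' = Q := fun Q' hQ' =>
    (hQ'.2 Q hQinv (hall Q' hQ'.1)).symm
  have hidx : ¬ q ∣ Q.relIndex (piCoreOf (primesNotDvd (Nat.card (fittingOf H))) R) := by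
    have h1 : Q.subgroupOf (piCoreOf (primesNotDvd (Nat.card (fittingOf H))) R) = (P : Subgroup _) := by
      rw [hQ]
      exact Subgroup.comap_map_eq_self_of_injective (Subgroup.subtype_injective _) _
    unfold Subgroup.relIndex
    rw [h1]
    exact P.not_dvd_index
  refine ⟨Q, ⟨hQmax, fun Q' hQ' => ?_⟩, fun Q2 hQ2 => huniq Q2 hQ2.1⟩
  rw [huniq Q' hQ']
  exact ⟨hQK, hidx⟩

end Cfsg.Agent.Lib.Helper1.ML
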