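import Mathlib
import Cfsg.Prelude.Def_Characters
import Cfsg.Agent.Lib.Lead.LS2

set_option autoImplicit false
set_option linter.unusedSectionVars false
set_option linter.unusedVariables false

/-!
Farm MND (statement S2332): the smallest degree of a nontrivial irreducible complex representation
of `SL_n(q)`, `n ≥ 3`, is `(q^n - q)/(q - 1)`.  Common definitions.

We work with `GG m F = SL (Unit ⊕ Fin m) F` (so `n = m + 1`), the row group `xm v` and the Levi part
`gm A` (`A ∈ SL_m`) of `Cfsg.Agent.Lib.Lead.LS1`.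
-/

namespace Cfsg.Agent.Lib.Helper1.MND

open Matrix Cfsg Cfsg.Agent.Lib.Lead.LS1

/-- `SL_(m+1)(F)`, indexed by `Unit ⊕ Fin m` -/
abbrev GG (m : ℕ) (F : Type*) [Field F] := Matrix.SpecialLinearGroup (Unit ⊕ Fin m) F

/-- `SL_m(F)` -/
abbrev SS (m : ℕ) (F : Type*) [Field F] := Matrix.SpecialLinearGroup (Fin m) F

/-- `s = (q^m - 1)/(q - 1)`, the number of points of `PG(m-1, q)` -/
def sNum (q m : ℕ) : ℕ := (q ^ m - 1) / (q - 1)

/-- the bound `τ = (q^(m+1) - q)/(q - 1) = q s` for `SL_(m+1)(q)` -/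
def tauNum (q m : ℕ) : ℕ := (q ^ (m + 1) - q) / (q - 1)

/-- the number of transvections of `SL_(m+1)(q)` -/
def tvNum (q m : ℕ) : ℕ := (q ^ (m + 1) - 1) * (q ^ m - 1) / (q - 1)

/-- the exceptional pairs `(m, q)` (`m = n - 1`): `(n, q) = (3,2), (3,4), (4,2), (4,3)` -/
def Exc (m q : ℕ) : Prop := (m = 2 ∧ q = 2) ∨ (m = 2 ∧ q = 4) ∨ (m = 3 ∧ q = 2) ∨ (m = 3 ∧ q = 3)

variable {F : Type*} [Field F] [Fintype F] {m : ℕ}

/-- multiplicity of the character `v ↦ ψ (c ⬝ᵥ v)` of the row group `xm` in the function `χ` -/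
noncomputable def mV (ψ : AddChar F ℂ) (χ : GG m F → ℂ) (c : Fin m → F) : ℂ :=
  ((Fintype.card F : ℂ) ^ m)⁻¹ * ∑ v : Fin m → F, ψ (-(c ⬝ᵥ v)) * χ (xm v)

/-- the character of the fixed points of the row group, as a function on `SL_m` -/
noncomputable def res0 (χ : GG m F → ℂ) (A : SS m F) : ℂ :=
  ((Fintype.card F : ℂ) ^ m)⁻¹ * ∑ v : Fin m → F, χ (xm v * gm A)

/-- all nontrivial characters of the row group have multiplicity one in `χ` -/
def BOne (ψ : AddChar F ℂ) (χ : GG m F → ℂ) : Prop := ∀ c : Fin m → F, c ≠ 0 → mV ψ χ c = 1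

/-- the transvection `1 + t E₀₁` of `SL_(m+2)` -/
def tvS (t : F) : SS (m + 2) F :=
  ⟨Matrix.transvection (0 : Fin (m + 2)) 1 t,
    Matrix.det_transvection_of_ne 0 1 (by simp) t⟩

/-- the root element `X_β(t) = diag(1, 1 + t E₀₁)` of `SL_(m+3)` -/
def hb (t : F) : GG (m + 2) F := gm (tvS t)

/-- the average of a function on `SL_(m+2)` over the root subgroup `tvS` -/
noncomputable def avgB (φ : SS (m + 2) F → ℂ) : ℂ :=
  (Fintype.card F : ℂ)⁻¹ * ∑ t : F, φ (tvS t)

/-- the stabiliser in `G` of the character `λ_c` of the row group: the elements normalising the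
row group through maps preserving `c ⬝ᵥ ·` -/
def StabC (c : Fin m → F) : Subgroup (GG m F) where
  carrier := {y | ∃ L L' : (Fin m → F) → (Fin m → F),
    (∀ u, y * xm u * y⁻¹ = xm (L u)) ∧ (∀ u, y⁻¹ * xm u * y = xm (L' u)) ∧
    (∀ u, c ⬝ᵥ L u = c ⬝ᵥ u) ∧ (∀ u, c ⬝ᵥ L' u = c ⬝ᵥ u)}
  one_mem' := ⟨id, id, fun u => by simp, fun u => by simp, fun _ => rfl, fun _ => rfl⟩
  mul_mem' := by
    rintro y z ⟨L, L', h1, h2, h3, h4⟩ ⟨K, K', k1, k2, k3, k4⟩
    refine ⟨fun u => L (K u), fun u => K' (L' u), fun u => ?_, fun u => ?_, fun u => ?_,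
      fun u => ?_⟩
    · rw [← h1, ← k1]; group
    · rw [← k2, ← h2]; group
    · rw [h3, k3]
    · rw [k4, h4]
  inv_mem' := by
    rintro y ⟨L, L', h1, h2, h3, h4⟩
    exact ⟨L', L, fun u => by rw [inv_inv]; exact h2 u, fun u => by rw [inv_inv]; exact h1 u,
      h4, h3⟩

theorem gm_mem_StabC (A : SS m F) (c : Fin m → F) (hA : A.1 *ᵥ c = c) : gm A ∈ StabC c := by
  have hA' : (A⁻¹).1 *ᵥ c = c := by
    have h1 : (A⁻¹).1 *ᵥ (A.1 *ᵥ c) = c := by
      rw [mulVec_mulVec, ← Matrix.SpecialLinearGroup.coe_mul, inv_mul_cancel,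
        Matrix.SpecialLinearGroup.coe_one, one_mulVec]
    rw [hA] at h1
    exact h1
  refine ⟨fun u => u ᵥ* (A⁻¹).1, fun u => u ᵥ* A.1, fun u => ?_, fun u => ?_, fun u => ?_,
    fun u => ?_⟩
  · have := xm_mul_gm (u ᵥ* (A⁻¹).1) A
    rw [vecMul_vecMul, ← Matrix.SpecialLinearGroup.coe_mul, inv_mul_cancel,
      Matrix.SpecialLinearGroup.coe_one, vecMul_one] at this
    rw [← this]; group
  · rw [mul_assoc, xm_mul_gm]; group
  · rw [dotProduct_comm, ← dotProduct_mulVec, hA', dotProduct_comm]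
  · rw [dotProduct_comm, ← dotProduct_mulVec, hA, dotProduct_comm]

/-- the stabiliser `P` of the line spanned by the first (column) basis vector: the matrices whose
first column is a multiple of `e₀` -/
def PP (m : ℕ) (F : Type*) [Field F] : Subgroup (GG m F) where
  carrier := {g | (∀ i, g.1 (Sum.inr i) (Sum.inl ()) = 0) ∧
    (∀ i, (g⁻¹).1 (Sum.inr i) (Sum.inl ()) = 0)}
  one_mem' := by
    refine ⟨fun i => ?_, fun i => ?_⟩
    · simp
    · simp
  mul_mem' := by
    rintro g h ⟨hg, hg'⟩ ⟨hh, hh'⟩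
    refine ⟨fun i => ?_, fun i => ?_⟩
    · rw [Matrix.SpecialLinearGroup.coe_mul, Matrix.mul_apply, Fintype.sum_sum_type]
      simp [hg, hh]
    · rw [_root_.mul_inv_rev, Matrix.SpecialLinearGroup.coe_mul, Matrix.mul_apply,
        Fintype.sum_sum_type]
      simp [hg', hh']
  inv_mem' := by
    rintro g ⟨hg, hg'⟩
    exact ⟨hg', by rw [inv_inv]; exact hg⟩

open Classical in
/-- the linear character `p ↦ θ (p₀₀)` of `P` -/
noncomputable def thetaP (θ : AddChar (Additive Fˣ) ℂ) (p : PP m F) : ℂ :=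
  if h : p.1.1 (Sum.inl ()) (Sum.inl ()) = 0 then 0 else θ (Additive.ofMul (Units.mk0 _ h))

/-- the theorem for `SL_(m+1)(F)` -/
def Good (m : ℕ) (F : Type*) [Field F] [Fintype F] : Prop :=
  ∀ (k : ℕ) (ρ : Representation ℂ (GG m F) (Fin k → ℂ)), ρ.IsIrreducible → 2 ≤ k →
    tauNum (Fintype.card F) m ≤ k

/-- the refined statement: if all nontrivial multiplicities are one, the multiplicity of the
trivial character of the row group is at least `s` -/
def GoodOne (m : ℕ) (F : Type*) [Field F] [Fintype F] (ψ : AddChar F ℂ) : Prop :=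
  ∀ (k : ℕ) (ρ : Representation ℂ (GG m F) (Fin k → ℂ)), ρ.IsIrreducible → 2 ≤ k →
    BOne ψ ρ.character → ∃ a : ℕ, mV ψ ρ.character 0 = a ∧ sNum (Fintype.card F) m ≤ a

end Cfsg.Agent.Lib.Helper1.MND
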