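import Mathlib
import Cfsg.Prelude.Def_Characters
import Cfsg.Agent.Lib.Helper1.MNDDefs

set_option autoImplicit false
set_option linter.unusedSectionVars false
set_option linter.unusedVariables false

/-!
Farm MND (statement S2332), unit B1: finite Fourier analysis on the row group.
-/

namespace Cfsg.Agent.Lib.Helper1.MND

open Matrix Cfsg Cfsg.Agent.Lib.Lead.LS1

variable {F : Type*} [Field F] [Fintype F] [DecidableEq F] {m k : ℕ}

theorem gm_one : (gm (1 : SS m F) : GG m F) = 1 := by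
  apply Subtype.ext
  show fromBlocks 1 0 0 ((1 : SS m F).1) = 1
  rw [Matrix.SpecialLinearGroup.coe_one, fromBlocks_one]

theorem card_vec : (Fintype.card (Fin m → F) : ℂ) = (Fintype.card F : ℂ) ^ m := by
  rw [Fintype.card_fun, Fintype.card_fin]; push_cast; rfl

theorem card_pow_ne_zero : ((Fintype.card F : ℂ) ^ m) ≠ 0 := by
  apply pow_ne_zero
  exact_mod_cast Fintype.card_ne_zero

/-- orthogonality on `F^m` -/
theorem orth_ite (ψ : AddChar F ℂ) (hψ : ∃ a, ψ a ≠ 1) (w : Fin m → F) :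
    ∑ c : Fin m → F, ψ (c ⬝ᵥ w) = if w = 0 then (Fintype.card F : ℂ) ^ m else 0 := by
  split_ifs with h
  · subst h
    simp only [dotProduct_zero, AddChar.map_zero_eq_one, Finset.sum_const, Finset.card_univ,
      nsmul_eq_mul, mul_one]
    exact card_vec
  · have := orth ψ hψ w h
    rw [← this]
    refine Finset.sum_congr rfl fun c _ => ?_
    rw [dotProduct_comm]

/-- orthogonality on `F` -/
theorem orth_one (ψ : AddChar F ℂ) (hψ : ∃ a, ψ a ≠ 1) (a : F) :
    ∑ t : F, ψ (t * a) = if a = 0 then (Fintype.card F : ℂ) else 0 := by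
  split_ifs with h
  · subst h
    simp
  · have hne : ψ ≠ 1 := by
      obtain ⟨b, hb⟩ := hψ
      intro h1
      apply hb
      rw [h1]; rfl
    rw [← AddChar.sum_eq_zero_of_ne_one hne]
    exact Fintype.sum_equiv (Equiv.mulRight₀ a h) _ _ (fun t => rfl)

theorem res0_one (ψ : AddChar F ℂ) (χ : GG m F → ℂ) : res0 χ 1 = mV ψ χ 0 := by
  unfold res0 mV
  congr 1
  refine Finset.sum_congr rfl fun v _ => ?_
  rw [gm_one, mul_one, zero_dotProduct, neg_zero, AddChar.map_zero_eq_one, one_mul]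

theorem fourier (ψ : AddChar F ℂ) (hψ : ∃ a, ψ a ≠ 1) (χ : GG m F → ℂ) (u : Fin m → F) :
    χ (xm u) = ∑ c : Fin m → F, ψ (c ⬝ᵥ u) * mV ψ χ c := by
  symm
  calc ∑ c : Fin m → F, ψ (c ⬝ᵥ u) * mV ψ χ c
      = ∑ c : Fin m → F, ∑ v : Fin m → F,
          ((Fintype.card F : ℂ) ^ m)⁻¹ * (ψ (c ⬝ᵥ (u - v)) * χ (xm v)) := by
        refine Finset.sum_congr rfl fun c _ => ?_
        unfold mV
        rw [Finset.mul_sum, Finset.mul_sum]
        refine Finset.sum_congr rfl fun v _ => ?_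
        rw [dotProduct_sub, sub_eq_add_neg, AddChar.map_add_eq_mul]
        ring
    _ = ∑ v : Fin m → F, ((Fintype.card F : ℂ) ^ m)⁻¹ *
          ((∑ c : Fin m → F, ψ (c ⬝ᵥ (u - v))) * χ (xm v)) := by
        rw [Finset.sum_comm]
        refine Finset.sum_congr rfl fun v _ => ?_
        rw [Finset.sum_mul, Finset.mul_sum]
    _ = ((Fintype.card F : ℂ) ^ m)⁻¹ * (((Fintype.card F : ℂ) ^ m) * χ (xm u)) := by
        rw [Finset.sum_eq_single u]
        · rw [orth_ite ψ hψ, if_pos (sub_self u)]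
        · intro v _ hv
          rw [orth_ite ψ hψ, if_neg (sub_ne_zero.mpr (Ne.symm hv))]
          simp
        · intro h; exact absurd (Finset.mem_univ u) h
    _ = χ (xm u) := by
        rw [← mul_assoc, inv_mul_cancel₀ card_pow_ne_zero, one_mul]

/-- right multiplication by a matrix of determinant one, as a permutation of `F^m` -/
def vecMulEquiv (A : SS m F) : (Fin m → F) ≃ (Fin m → F) where
  toFun v := v ᵥ* A.1
  invFun v := v ᵥ* (A⁻¹).1
  left_inv v := by
    show (v ᵥ* A.1) ᵥ* (A⁻¹).1 = v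
    rw [vecMul_vecMul, ← Matrix.SpecialLinearGroup.coe_mul, mul_inv_cancel,
      Matrix.SpecialLinearGroup.coe_one, vecMul_one]
  right_inv v := by
    show (v ᵥ* (A⁻¹).1) ᵥ* A.1 = v
    rw [vecMul_vecMul, ← Matrix.SpecialLinearGroup.coe_mul, inv_mul_cancel,
      Matrix.SpecialLinearGroup.coe_one, vecMul_one]

theorem xm_vecMul (u : Fin m → F) (A : SS m F) :
    xm (u ᵥ* A.1) = (gm A)⁻¹ * xm u * gm A := by
  rw [mul_assoc, xm_mul_gm]; group

theorem mV_conj (ψ : AddChar F ℂ) (χ : GG m F → ℂ) (hχ : IsClassFunction (GG m F) χ)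
    (A : SS m F) (c : Fin m → F) : mV ψ χ (A.1 *ᵥ c) = mV ψ χ c := by
  unfold mV
  congr 1
  apply Fintype.sum_equiv (vecMulEquiv A)
  intro v
  show ψ (-(A.1 *ᵥ c ⬝ᵥ v)) * χ (xm v) = ψ (-(c ⬝ᵥ (v ᵥ* A.1))) * χ (xm (v ᵥ* A.1))
  have h1 : A.1 *ᵥ c ⬝ᵥ v = c ⬝ᵥ (v ᵥ* A.1) := by
    rw [dotProduct_comm, dotProduct_mulVec, dotProduct_comm]
  have h2 : χ (xm (v ᵥ* A.1)) = χ (xm v) := by
    rw [xm_vecMul]
    have := hχ (xm v) (gm A)⁻¹
    rw [inv_inv] at this
    exact this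
  rw [h1, h2]

/-- the average over `X_α = xm (F e_j)` -/
theorem avgA (ψ : AddChar F ℂ) (hψ : ∃ a, ψ a ≠ 1) (χ : GG m F → ℂ) (j : Fin m) :
    (Fintype.card F : ℂ)⁻¹ * ∑ t : F, χ (xm (t • Pi.single j 1)) =
      ∑ c ∈ (Finset.univ : Finset (Fin m → F)).filter (fun c => c j = 0), mV ψ χ c := by
  have hq : (Fintype.card F : ℂ) ≠ 0 := by exact_mod_cast Fintype.card_ne_zero
  calc (Fintype.card F : ℂ)⁻¹ * ∑ t : F, χ (xm (t • Pi.single j 1))
      = (Fintype.card F : ℂ)⁻¹ * ∑ t : F, ∑ c : Fin m → F, ψ (t * c j) * mV ψ χ c := by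
        congr 1
        refine Finset.sum_congr rfl fun t _ => ?_
        rw [fourier ψ hψ χ]
        refine Finset.sum_congr rfl fun c _ => ?_
        rw [dotProduct_smul, dotProduct_single, mul_one, smul_eq_mul]
    _ = (Fintype.card F : ℂ)⁻¹ * ∑ c : Fin m → F, (∑ t : F, ψ (t * c j)) * mV ψ χ c := by
        rw [Finset.sum_comm]
        congr 1
        refine Finset.sum_congr rfl fun c _ => ?_
        rw [Finset.sum_mul]
    _ = (Fintype.card F : ℂ)⁻¹ * ∑ c : Fin m → F,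
          (if c j = 0 then (Fintype.card F : ℂ) * mV ψ χ c else 0) := by
        congr 1
        refine Finset.sum_congr rfl fun c _ => ?_
        rw [orth_one ψ hψ]
        split_ifs <;> simp
    _ = ∑ c ∈ (Finset.univ : Finset (Fin m → F)).filter (fun c => c j = 0), mV ψ χ c := by
        rw [← Finset.sum_filter, ← Finset.mul_sum, ← mul_assoc, inv_mul_cancel₀ hq, one_mul]

end Cfsg.Agent.Lib.Helper1.MND
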