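import Mathlib
import Cfsg.Prelude.Def_Characters
import Cfsg.Agent.Lib.Helper1.MNDDefs
import Cfsg.Agent.Lib.Helper1.MNDB1
import Cfsg.Agent.Lib.Helper6.CharOps
import Cfsg.Agent.Lib.Helper6.CharBasic
import Cfsg.Agent.Lib.Helper6.Mult

set_option autoImplicit false
set_option linter.unusedSectionVars false
set_option linter.unusedVariables false

/-!
Farm MND (statement S2332), unit B2: the restriction of a character to the row group.
-/

namespace Cfsg.Agent.Lib.Helper1.MND

open Matrix Cfsg Cfsg.Agent.Lib.Lead.LS1 Cfsg.Agent.Lib.Helper6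
open scoped ComplexConjugate

variable {F : Type*} [Field F] [Fintype F] [DecidableEq F] {m k : ℕ}

/-- the row group as a homomorphism from the (multiplicative copy of the) additive group `F^m` -/
def xmHom (m : ℕ) (F : Type*) [Field F] : Multiplicative (Fin m → F) →* GG m F where
  toFun v := xm (Multiplicative.toAdd v)
  map_one' := xm_zero
  map_mul' v w := xm_add _ _

/-- the linear character `λ_c` of the row group -/
noncomputable def lamHom (ψ : AddChar F ℂ) (c : Fin m → F) : Multiplicative (Fin m → F) →* ℂˣ :=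
  MonoidHom.toHomUnits
    { toFun := fun v => ψ (c ⬝ᵥ Multiplicative.toAdd v)
      map_one' := by simp
      map_mul' := fun v w => by
        simp [dotProduct_add, AddChar.map_add_eq_mul] }

theorem lamHom_apply (ψ : AddChar F ℂ) (c : Fin m → F) (v : Multiplicative (Fin m → F)) :
    ((lamHom ψ c v : ℂˣ) : ℂ) = ψ (c ⬝ᵥ Multiplicative.toAdd v) := rfl

theorem mV_eq_classInner (ψ : AddChar F ℂ) (χ : GG m F → ℂ) (c : Fin m → F) :
    mV ψ χ c = classInner (fun v : Multiplicative (Fin m → F) => χ (xmHom m F v))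
      (fun v => ((lamHom ψ c v : ℂˣ) : ℂ)) := by
  unfold mV classInner
  congr 1
  · rw [Nat.card_eq_fintype_card]
    have : Fintype.card (Multiplicative (Fin m → F)) = Fintype.card (Fin m → F) :=
      Fintype.card_congr Multiplicative.toAdd
    rw [this, card_vec]
  · apply Fintype.sum_equiv Multiplicative.ofAdd
    intro v
    show ψ (-(c ⬝ᵥ v)) * χ (xm v) = χ (xmHom m F (Multiplicative.ofAdd v)) *
      conj ((lamHom ψ c (Multiplicative.ofAdd v) : ℂˣ) : ℂ)
    rw [lamHom_apply, ← AddChar.map_neg_eq_conj, mul_comm]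
    rfl

theorem mV_nat (ψ : AddChar F ℂ) (hψ : ∃ a, ψ a ≠ 1)
    (ρ : Representation ℂ (GG m F) (Fin k → ℂ)) (c : Fin m → F) :
    ∃ n : ℕ, mV ψ ρ.character c = n := by
  rw [mV_eq_classInner]
  apply IsCharacter.classInner_nat
  · exact IsCharacter.comp (xmHom m F) ⟨k, ρ, rfl⟩
  · exact IsIrrCharacter.isCharacter (isIrrCharacter_of_hom (lamHom ψ c))

theorem character_one (ρ : Representation ℂ (GG m F) (Fin k → ℂ)) : ρ.character 1 = k := by
  rw [Representation.char_one, Module.finrank_fin_fun]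

theorem sum_mV (ψ : AddChar F ℂ) (hψ : ∃ a, ψ a ≠ 1)
    (ρ : Representation ℂ (GG m F) (Fin k → ℂ)) :
    ∑ c : Fin m → F, mV ψ ρ.character c = k := by
  have h := fourier ψ hψ ρ.character 0
  rw [xm_zero, character_one] at h
  rw [h]
  refine Finset.sum_congr rfl fun c _ => ?_
  rw [dotProduct_zero, AddChar.map_zero_eq_one, one_mul]

theorem exists_ab (hm : 2 ≤ m) (ψ : AddChar F ℂ) (hψ : ∃ a, ψ a ≠ 1)
    (ρ : Representation ℂ (GG m F) (Fin k → ℂ)) :
    ∃ a b : ℕ, mV ψ ρ.character 0 = a ∧ (∀ c : Fin m → F, c ≠ 0 → mV ψ ρ.character c = b) ∧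
      k = a + (Fintype.card F ^ m - 1) * b := by
  obtain ⟨a, ha⟩ := mV_nat ψ hψ ρ 0
  have hc0 : (Pi.single ⟨0, by omega⟩ 1 : Fin m → F) ≠ 0 := by
    intro h
    have := congrFun h ⟨0, by omega⟩
    simp at this
  obtain ⟨b, hb⟩ := mV_nat ψ hψ ρ (Pi.single ⟨0, by omega⟩ 1)
  have hall : ∀ c : Fin m → F, c ≠ 0 → mV ψ ρ.character c = b := by
    intro c hc
    obtain ⟨A, hA⟩ := trans_vec hm _ c hc0 hc
    rw [← hA, mV_conj ψ _ (IsCharacter.isClassFunction ⟨k, ρ, rfl⟩), hb]
  refine ⟨a, b, ha, hall, ?_⟩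
  have hsum := sum_mV ψ hψ ρ
  rw [← Finset.add_sum_erase _ _ (Finset.mem_univ (0 : Fin m → F)), ha] at hsum
  rw [Finset.sum_congr rfl (fun c hc => hall c (Finset.ne_of_mem_erase hc)), Finset.sum_const,
    Finset.card_erase_of_mem (Finset.mem_univ _), Finset.card_univ, Fintype.card_fun,
    Fintype.card_fin, nsmul_eq_mul] at hsum
  have : ((a + (Fintype.card F ^ m - 1) * b : ℕ) : ℂ) = (k : ℂ) := by
    rw [← hsum]; push_cast; ring
  exact_mod_cast this.symm

/-- a representation in which every group element acts trivially is irreducible only in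
dimension one -/
theorem finrank_eq_one_of_trivial {G V : Type*} [Group G] [AddCommGroup V] [Module ℂ V]
    (ρ : Representation ℂ G V) (hρ : ρ.IsIrreducible) (h : ∀ g, ρ g = LinearMap.id) :
    Module.finrank ℂ V = 1 := by
  have e : Subrepresentation ρ ≃o Submodule ℂ V :=
    { toFun := fun W => W.toSubmodule
      invFun := fun U => ⟨U, fun g v hv => by rw [h g]; exact hv⟩
      left_inv := fun W => rfl
      right_inv := fun U => rfl
      map_rel_iff' := Iff.rfl }
  have h1 : IsSimpleOrder (Submodule ℂ V) := e.isSimpleOrder_iff.mp hρ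
  have h2 : IsSimpleModule ℂ V := (isSimpleModule_iff ..).mpr h1
  exact isSimpleModule_iff_finrank_eq_one.mp h2

end Cfsg.Agent.Lib.Helper1.MND
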