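import Mathlib
import Cfsg.Prelude.Def_Characters
import Cfsg.Agent.Lib.Helper1.MNDB2
import Cfsg.Agent.Lib.Helper5.MNDA3

set_option autoImplicit false
set_option linter.unusedSectionVars false
set_option linter.unusedVariables false

/-!
Farm MND (statement S2332), unit B2 (second half): `b_pos`.
-/

namespace Cfsg.Agent.Lib.Helper1.MND

open Matrix Cfsg Cfsg.Agent.Lib.Lead.LS1 Cfsg.Agent.Lib.Helper6
open scoped ComplexConjugate

variable {F : Type*} [Field F] [Fintype F] [DecidableEq F] {m k : ℕ}

/-- a nontrivial irreducible representation does not contain the row group in its kernel -/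
theorem b_pos (hm : 2 ≤ m) (ψ : AddChar F ℂ) (hψ : ∃ a, ψ a ≠ 1)
    (ρ : Representation ℂ (GG m F) (Fin k → ℂ)) (hρ : ρ.IsIrreducible) (hk : 2 ≤ k)
    (c : Fin m → F) (hc : c ≠ 0) : mV ψ ρ.character c ≠ 0 := by
  intro h0
  obtain ⟨a, b, ha, hb, hkab⟩ := exists_ab hm ψ hψ ρ
  have hb0 : b = 0 := by
    have := hb c hc
    rw [h0] at this
    exact_mod_cast this.symm
  have hak : k = a := by rw [hkab, hb0]; simp
  -- every element of the row group acts trivially
  have hx : ∀ u : Fin m → F, ρ (xm u) = LinearMap.id := by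
    intro u
    rw [← character_eq_finrank_iff, Module.finrank_fin_fun, fourier ψ hψ ρ.character u,
      ← Finset.add_sum_erase _ _ (Finset.mem_univ (0 : Fin m → F)), ha,
      Finset.sum_eq_zero, zero_dotProduct, AddChar.map_zero_eq_one, hak]
    · simp
    · intro c' hc'
      rw [hb c' (Finset.ne_of_mem_erase hc'), hb0]
      simp
  have hker : (MonoidHom.ker ρ) = ⊤ := by
    apply Cfsg.Agent.Lib.Helper5.MND.normal_eq_top hm (MonoidHom.ker ρ) c hc
    rw [MonoidHom.mem_ker]
    exact hx c
  have hall : ∀ g, ρ g = LinearMap.id := by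
    intro g
    have : g ∈ MonoidHom.ker ρ := by rw [hker]; trivial
    exact MonoidHom.mem_ker.mp this
  have := finrank_eq_one_of_trivial ρ hρ hall
  rw [Module.finrank_fin_fun] at this
  omega

end Cfsg.Agent.Lib.Helper1.MND
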