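import Mathlib
import Cfsg.Agent.Lib.Helper1.MNDDefs

set_option autoImplicit false
set_option linter.unusedSectionVars false
set_option linter.unusedVariables false

/-!
Farm MND (statement S2332), unit E: arithmetic.
-/

namespace Cfsg.Agent.Lib.Helper1.MND

theorem sNum_mul (q m : ℕ) (hq : 2 ≤ q) : sNum q m * (q - 1) = q ^ m - 1 := by
  unfold sNum
  apply Nat.div_mul_cancel
  exact Nat.sub_one_dvd_pow_sub_one q m

theorem pow_eq_sNum (q m : ℕ) (hq : 2 ≤ q) : q ^ m = (q - 1) * sNum q m + 1 := by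
  have h := sNum_mul q m hq
  have h1 : 1 ≤ q ^ m := Nat.one_le_pow _ _ (by omega)
  rw [mul_comm, h]; omega

theorem sNum_succ (q m : ℕ) (hq : 2 ≤ q) : sNum q (m + 1) = q * sNum q m + 1 := by
  have h1 := pow_eq_sNum q m hq
  have h2 := pow_eq_sNum q (m + 1) hq
  obtain ⟨d, rfl⟩ : ∃ d, q = d + 2 := ⟨q - 2, by omega⟩
  have h3 : (d + 2 - 1) = d + 1 := by omega
  rw [h3] at h1 h2
  rw [pow_succ, h1] at h2
  have : (d + 1) * sNum (d + 2) (m + 1) = (d + 1) * ((d + 2) * sNum (d + 2) m + 1) := by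
    nlinarith
  exact Nat.eq_of_mul_eq_mul_left (by omega) this

theorem sNum_zero (q : ℕ) : sNum q 0 = 0 := by simp [sNum]

theorem sNum_one (q : ℕ) (hq : 2 ≤ q) : sNum q 1 = 1 := by
  rw [sNum_succ q 0 hq, sNum_zero]; omega

theorem sNum_two (q : ℕ) (hq : 2 ≤ q) : sNum q 2 = q + 1 := by
  rw [sNum_succ q 1 hq, sNum_one q hq]; ring

theorem sNum_three (q : ℕ) (hq : 2 ≤ q) : sNum q 3 = q ^ 2 + q + 1 := by
  rw [sNum_succ q 2 hq, sNum_two q hq]; ring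

theorem sNum_mono (q : ℕ) (hq : 2 ≤ q) {m m' : ℕ} (h : m ≤ m') : sNum q m ≤ sNum q m' := by
  induction h with
  | refl => exact le_rfl
  | step _ ih =>
    rw [sNum_succ q _ hq]
    nlinarith

theorem tauNum_eq (q m : ℕ) (hq : 2 ≤ q) : tauNum q m = q * sNum q m := by
  unfold tauNum
  have h1 := pow_eq_sNum q m hq
  have h2 : q ^ (m + 1) - q = (q * sNum q m) * (q - 1) := by
    rw [pow_succ, h1]
    obtain ⟨d, rfl⟩ : ∃ d, q = d + 2 := ⟨q - 2, by omega⟩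
    have h3 : (d + 2 - 1) = d + 1 := by omega
    rw [h3]
    have : ((d + 1) * sNum (d + 2) m + 1) * (d + 2) =
        (d + 2) * sNum (d + 2) m * (d + 1) + (d + 2) := by ring
    rw [this]; omega
  rw [h2, Nat.mul_div_cancel _ (by omega)]

theorem tauNum_succ (q m : ℕ) (hq : 2 ≤ q) : tauNum q m + 1 = sNum q (m + 1) := by
  rw [tauNum_eq q m hq, sNum_succ q m hq]

theorem arith_tau (q m : ℕ) (hq : 2 ≤ q) : tauNum q m = sNum q m + (q ^ m - 1) := by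
  rw [tauNum_eq q m hq, pow_eq_sNum q m hq]
  obtain ⟨d, rfl⟩ : ∃ d, q = d + 2 := ⟨q - 2, by omega⟩
  have h3 : (d + 2 - 1) = d + 1 := by omega
  rw [h3, Nat.add_sub_cancel]; ring

theorem tvNum_eq (q m : ℕ) (hq : 2 ≤ q) : tvNum q m = (q ^ (m + 1) - 1) * sNum q m := by
  unfold tvNum
  rw [← sNum_mul q m hq, ← mul_assoc, Nat.mul_div_cancel _ (by omega)]

theorem arith_b_two (q m a b : ℕ) (hq : 2 ≤ q) (hm : 1 ≤ m) (hb : 2 ≤ b) :
    tauNum q m ≤ a + (q ^ m - 1) * b := by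
  rw [tauNum_eq q m hq, pow_eq_sNum q m hq, Nat.add_sub_cancel]
  obtain ⟨d, rfl⟩ : ∃ d, q = d + 2 := ⟨q - 2, by omega⟩
  have h3 : (d + 2 - 1) = d + 1 := by omega
  rw [h3]
  have : (d + 1) * sNum (d + 2) m * 2 ≤ (d + 1) * sNum (d + 2) m * b :=
    Nat.mul_le_mul_left _ hb
  nlinarith

/-- the integer core of `arith_step` -/
theorem step_core (Q S : ℤ) (hQ : 2 ≤ Q) (hS : Q ^ 2 + Q + 1 ≤ S)
    (h : (Q * S - 1) ∣ (Q - 1) * (Q * S + 1) * S * (S - 2)) : False := by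
  obtain ⟨c, hc⟩ := h
  have h1 : (Q * S - 1) ∣ 2 * (Q - 1) * (2 * Q - 1) := by
    refine ⟨(Q - 1) * ((Q * S - 1) ^ 2 + (4 - 2 * Q) * (Q * S - 1) + 5 - 6 * Q) - Q ^ 2 * c, ?_⟩
    linear_combination (-(Q ^ 2)) * hc
  have h2 : 0 < 2 * (Q - 1) * (2 * Q - 1) := by
    have h2a : 0 < Q - 1 := by linarith
    have h2b : 0 < 2 * Q - 1 := by linarith
    positivity
  have h3 := Int.le_of_dvd h2 h1
  nlinarith [mul_le_mul_of_nonneg_left hS (by linarith : (0 : ℤ) ≤ Q), sq_nonneg (Q - 2)]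

/-- the generic step: `a ≥ s - 1`, integrality, `m ≥ 3` (`n ≥ 4`) give `a ≥ s` -/
theorem arith_step (q m a : ℕ) (hq : 2 ≤ q) (hm : 3 ≤ m) (ha : sNum q m - 1 ≤ a)
    (hdvd : ((a + (q ^ m - 1) : ℕ) : ℤ) ∣ (tvNum q m : ℤ) * ((a : ℤ) - 1)) : sNum q m ≤ a := by
  by_contra hlt
  have hs3 : q ^ 2 + q + 1 ≤ sNum q m := by
    rw [← sNum_three q hq]; exact sNum_mono q hq hm
  have hs1 : 1 ≤ sNum q m := by nlinarith
  have haeq : a = sNum q m - 1 := by omega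
  have hpow := pow_eq_sNum q m hq
  have hpow1 := pow_eq_sNum q (m + 1) hq
  rw [sNum_succ q m hq] at hpow1
  rw [tvNum_eq q m hq, hpow1, hpow, Nat.add_sub_cancel, Nat.add_sub_cancel, haeq] at hdvd
  obtain ⟨d, rfl⟩ : ∃ d, q = d + 2 := ⟨q - 2, by omega⟩
  have h3 : (d + 2 - 1) = d + 1 := by omega
  rw [h3] at hdvd
  obtain ⟨s, hs⟩ : ∃ s, sNum (d + 2) m = s + 1 := ⟨sNum (d + 2) m - 1, by omega⟩
  rw [hs] at hdvd hs3
  have h4 : s + 1 - 1 = s := by omega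
  rw [h4] at hdvd
  apply step_core ((d : ℤ) + 2) ((s : ℤ) + 1) (by linarith [Int.natCast_nonneg d])
    (by exact_mod_cast hs3)
  convert hdvd using 1
  · push_cast; ring
  · push_cast; ring

/-- integer core of `arith_base`, case `a = q - 1` -/
theorem base_core1 (Q : ℤ) (hQ : 2 ≤ Q)
    (h : (Q - 1 + (Q ^ 2 - 1)) ∣ (Q ^ 3 - 1) * (Q + 1) * (Q - 2)) : Q + 2 ∣ 12 := by
  obtain ⟨c, hc⟩ := h
  have h1 : (Q - 1) * ((Q ^ 2 + Q + 1) * (Q + 1) * (Q - 2)) = (Q - 1) * ((Q + 2) * c) := by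
    linear_combination hc
  have h2 := mul_left_cancel₀ (by linarith : Q - 1 ≠ 0) h1
  refine ⟨c - (Q ^ 3 - 2 * Q ^ 2 + 2 * Q - 7), ?_⟩
  linear_combination h2

/-- integer core of `arith_base`, case `a = q` -/
theorem base_core2 (Q : ℤ) (hQ : 3 ≤ Q)
    (h : (Q + (Q ^ 2 - 1)) ∣ (Q ^ 3 - 1) * (Q + 1) * (Q - 1)) : False := by
  obtain ⟨c, hc⟩ := h
  have h1 : (Q ^ 2 + Q - 1) ∣ 4 * Q - 2 := by
    refine ⟨c - (Q ^ 3 - Q ^ 2 + Q - 3), ?_⟩
    linear_combination hc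
  have h3 := Int.le_of_dvd (by linarith) h1
  nlinarith

theorem not_isPrimePow_ten : ¬ IsPrimePow 10 := by
  rw [isPrimePow_nat_iff_bounded]
  decide

/-- the base `n = 3`: `a ≥ q - 1`, integrality, `q ∉ {2, 4}` a prime power give `a ≥ q + 1` -/
theorem arith_base (q a : ℕ) (hq : IsPrimePow q) (h2 : q ≠ 2) (h4 : q ≠ 4) (ha : q - 1 ≤ a)
    (hdvd : ((a + (q ^ 2 - 1) : ℕ) : ℤ) ∣ (tvNum q 2 : ℤ) * ((a : ℤ) - 1)) : sNum q 2 ≤ a := by
  have hq2 : 2 ≤ q := by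
    have := hq.two_le
    exact this
  rw [sNum_two q hq2]
  by_contra hlt
  have hq1 : 1 ≤ q ^ 2 := Nat.one_le_pow _ _ (by omega)
  have hq3 : 1 ≤ q ^ 3 := Nat.one_le_pow _ _ (by omega)
  rw [tvNum_eq q 2 hq2, sNum_two q hq2] at hdvd
  have hcases : a = q - 1 ∨ a = q := by omega
  rcases hcases with h | h
  · rw [h] at hdvd
    have h12 := base_core1 (q : ℤ) (by exact_mod_cast hq2) (by
      convert hdvd using 1
      · push_cast [Nat.cast_sub (by omega : 1 ≤ q), Nat.cast_sub hq1]; ring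
      · push_cast [Nat.cast_sub (by omega : 1 ≤ q), Nat.cast_sub hq3]; ring)
    have h5 : (q + 2 : ℕ) ∣ 12 := by exact_mod_cast h12
    have h6 : q + 2 ≤ 12 := Nat.le_of_dvd (by norm_num) h5
    have h6' : q ≤ 10 := by omega
    have h7 : q = 10 := by
      interval_cases q <;> first | rfl | omega
    rw [h7] at hq
    exact not_isPrimePow_ten hq
  · rw [h] at hdvd
    apply base_core2 (q : ℤ) (by exact_mod_cast (by omega : 3 ≤ q))
    convert hdvd using 1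
    · push_cast [Nat.cast_sub hq1]; ring
    · push_cast [Nat.cast_sub hq3]; ring

end Cfsg.Agent.Lib.Helper1.MND
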