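import Mathlib
import Cfsg.Prelude.Def_Characters
import Cfsg.Agent.Lib.Helper1.MNDE
import Cfsg.Agent.Lib.Helper1.MNDB2
import Cfsg.Agent.Lib.Helper6.Clifford
import Cfsg.Agent.Lib.Helper6.BlkKer
import Cfsg.Agent.Lib.Helper1.MNDB2b

set_option autoImplicit false
set_option linter.unusedSectionVars false
set_option linter.unusedVariables false

/-!
Farm MND (statement S2332), unit F3: a nontrivial irreducible constituent of `Ind_P^G θ` has degree
at least `τ`.
-/

namespace Cfsg.Agent.Lib.Helper1.MND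

open Matrix Cfsg Cfsg.Agent.Lib.Lead.LS1 Cfsg.Agent.Lib.Helper6
open scoped ComplexConjugate

variable {F : Type*} [Field F] [Fintype F] [DecidableEq F] {m k : ℕ}

theorem mV_add (ψ : AddChar F ℂ) (χ χ' : GG m F → ℂ) (c : Fin m → F) :
    mV ψ (χ + χ') c = mV ψ χ c + mV ψ χ' c := by
  unfold mV
  rw [← mul_add, ← Finset.sum_add_distrib]
  congr 1
  refine Finset.sum_congr rfl fun v _ => ?_
  rw [Pi.add_apply, mul_add]

/-- the multiplicity of a nontrivial `λ_c` in a function with two values on the row group -/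
theorem mV_of_values (ψ : AddChar F ℂ) (hψ : ∃ a, ψ a ≠ 1) (Θ : GG m F → ℂ) (T₁ T₂ : ℂ)
    (h1 : Θ 1 = T₁) (h2 : ∀ u : Fin m → F, u ≠ 0 → Θ (xm u) = T₂) (c : Fin m → F) (hc : c ≠ 0) :
    mV ψ Θ c = ((Fintype.card F : ℂ) ^ m)⁻¹ * (T₁ - T₂) := by
  unfold mV
  congr 1
  have h3 : ∀ v : Fin m → F, ψ (-(c ⬝ᵥ v)) * Θ (xm v) =
      T₂ * ψ ((-c) ⬝ᵥ v) + (if v = 0 then T₁ - T₂ else 0) := by
    intro v
    rw [neg_dotProduct]
    split_ifs with h
    · subst h
      rw [xm_zero, h1, dotProduct_zero, neg_zero, AddChar.map_zero_eq_one]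
      ring
    · rw [h2 v h]
      ring
  rw [Finset.sum_congr rfl (fun v _ => h3 v), Finset.sum_add_distrib, ← Finset.mul_sum,
    orth ψ hψ (-c) (neg_ne_zero.mpr hc), mul_zero, zero_add, Finset.sum_ite_eq']
  simp

theorem sNum_succ_sub (q m : ℕ) (hq : 2 ≤ q) :
    ((sNum q (m + 1) : ℕ) : ℂ) - (sNum q m : ℂ) = (q : ℂ) ^ m := by
  have h1 := sNum_succ q m hq
  have h2 := pow_eq_sNum q m hq
  have h3 : ((q ^ m : ℕ) : ℂ) = (((q - 1) * sNum q m + 1 : ℕ) : ℂ) := by rw [← h2]
  rw [h1]
  push_cast [Nat.cast_sub (by omega : 1 ≤ q)] at h3 ⊢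
  rw [h3]; ring

/-- F3. a nontrivial irreducible constituent of such a `Θ` is `Θ` or `Θ - 1` -/
theorem tprime_of_theta (hm : 2 ≤ m) (ρ : Representation ℂ (GG m F) (Fin k → ℂ))
    (hρ : ρ.IsIrreducible) (hk : 2 ≤ k) (Θ : GG m F → ℂ) (hΘ : IsCharacter (GG m F) Θ)
    (h1 : Θ 1 = sNum (Fintype.card F) (m + 1))
    (hu : ∀ u : Fin m → F, u ≠ 0 → Θ (xm u) = sNum (Fintype.card F) m)
    (h01 : classInner Θ (fun _ => 1) = 0 ∨ classInner Θ (fun _ => 1) = 1)
    (hne : classInner ρ.character Θ ≠ 0) : tauNum (Fintype.card F) m ≤ k := by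
  have hq : 2 ≤ Fintype.card F := Fintype.one_lt_card
  obtain ⟨ψ, hψ1⟩ := (AddChar.exists_apply_ne_zero (α := F) (a := 1)).mpr one_ne_zero
  have hψ : ∃ a, ψ a ≠ 1 := ⟨1, hψ1⟩
  have hχ : IsIrrCharacter (GG m F) ρ.character := ⟨k, ρ, hρ, rfl⟩
  have hne' : classInner Θ ρ.character ≠ 0 := by
    rw [← classInner_conj_symm]
    intro h
    apply hne
    have := congrArg conj h
    rwa [Complex.conj_conj, map_zero] at this
  obtain ⟨B, hB, hΘB⟩ := IsCharacter.exists_eq_add_of_constituent hΘ hχ hne'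
  obtain ⟨kB, ρB, rfl⟩ := hB
  obtain ⟨c, hc⟩ : ∃ c : Fin m → F, c ≠ 0 := by
    refine ⟨Pi.single ⟨0, by omega⟩ 1, fun h => ?_⟩
    have := congrFun h ⟨0, by omega⟩
    simp at this
  -- multiplicities
  obtain ⟨a, b, ha, hb, hkab⟩ := exists_ab hm ψ hψ ρ
  obtain ⟨a', b', ha', hb', hkab'⟩ := exists_ab hm ψ hψ ρB
  have hbpos : b ≠ 0 := by
    intro h
    have := b_pos hm ψ hψ ρ hρ hk c hc
    rw [hb c hc, h] at this
    simp at this
  have hsum : (b : ℂ) + b' = 1 := by
    have h3 := mV_of_values ψ hψ Θ _ _ h1 hu c hc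
    rw [sNum_succ_sub _ _ hq, inv_mul_cancel₀ card_pow_ne_zero, hΘB, mV_add, hb c hc,
      hb' c hc] at h3
    exact h3
  have hsum' : b + b' = 1 := by exact_mod_cast hsum
  have hb'0 : b' = 0 := by omega
  have hk' : kB = a' := by rw [hkab', hb'0]; simp
  -- `B` is constant
  have hBx : ∀ u : Fin m → F, ρB.character (xm u) = ρB.character 1 := by
    intro u
    rw [character_one, fourier ψ hψ ρB.character u,
      ← Finset.add_sum_erase _ _ (Finset.mem_univ (0 : Fin m → F)), ha',
      Finset.sum_eq_zero, zero_dotProduct, AddChar.map_zero_eq_one, hk']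
    · simp
    · intro c' hc'
      rw [hb' c' (Finset.ne_of_mem_erase hc'), hb'0]
      simp
  have hBchar : IsCharacter (GG m F) ρB.character := ⟨kB, ρB, rfl⟩
  have hker : charKer hBchar = ⊤ := by
    have := charKer_normal hBchar
    apply Cfsg.Agent.Lib.Helper5.MND.normal_eq_top hm (charKer hBchar) c hc
    rw [mem_charKer]
    exact hBx c
  have hBconst : ∀ g, ρB.character g = kB := by
    intro g
    have : g ∈ charKer hBchar := by rw [hker]; trivial
    rw [mem_charKer, character_one] at this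
    exact this
  -- the trivial character is contained at most once
  have hin : classInner Θ (fun _ => 1) =
      classInner ρ.character (fun _ => 1) + (kB : ℂ) := by
    rw [hΘB, classInner_add_left]
    congr 1
    unfold classInner
    rw [Finset.sum_congr rfl (fun g _ => by rw [hBconst g, map_one, mul_one]), Finset.sum_const,
      Finset.card_univ, nsmul_eq_mul, Nat.card_eq_fintype_card, ← mul_assoc, inv_mul_cancel₀,
      one_mul]
    exact_mod_cast Fintype.card_ne_zero
  obtain ⟨n₁, hn₁⟩ := IsCharacter.classInner_nat (IsIrrCharacter.isCharacter hχ)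
    (isCharacter_one (G := GG m F))
  rw [hn₁] at hin
  have hkB : kB ≤ 1 := by
    rcases h01 with h | h
    · rw [h] at hin
      have : n₁ + kB = 0 := by exact_mod_cast hin.symm
      omega
    · rw [h] at hin
      have : n₁ + kB = 1 := by exact_mod_cast hin.symm
      omega
  -- degrees
  have hdeg : sNum (Fintype.card F) (m + 1) = k + kB := by
    have h4 := congrFun hΘB 1
    rw [Pi.add_apply, h1, character_one, character_one] at h4
    exact_mod_cast h4
  have := tauNum_succ (Fintype.card F) m hq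
  omega

end Cfsg.Agent.Lib.Helper1.MND
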