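import Mathlib
import Cfsg.Prelude.Def_Characters
import Cfsg.Agent.Lib.Helper1.MNDDefs
import Cfsg.Agent.Lib.Helper1.MNDE
import Cfsg.Agent.Lib.Helper1.MNDB2b
import Cfsg.Agent.Lib.Helper1.MNDF3
import Cfsg.Agent.Lib.Helper9.MNDA2
import Cfsg.Agent.Lib.Helper8.MNDD1
import Cfsg.Agent.Lib.Helper2.MNDD2
import Cfsg.Agent.Lib.Helper2.MNDC
import Cfsg.Agent.Lib.Helper8.MNDD3
import Cfsg.Agent.Lib.Helper2.MNDF1
import Cfsg.Agent.Lib.Helper9.MNDF2
import Cfsg.Agent.Lib.Helper7.MNDG2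

set_option autoImplicit false
set_option linter.unusedSectionVars false
set_option linter.unusedVariables false

/-!
Farm MND (statement S2332), unit Z: induction and special cases.
-/

namespace Cfsg.Agent.Lib.Helper1.MND

open Matrix Cfsg Cfsg.Agent.Lib.Lead.LS1
open Cfsg.Agent.Lib.Helper9.MND (hb_mem_commutator)
open Cfsg.Agent.Lib.Helper8.MND (isCharacter_res0 res0_decomp res0_small)
open Cfsg.Agent.Lib.Helper2.MND (avgB_nat star exists_theta)
open Cfsg.Agent.Lib.Helper9.MND (theta_values)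
open Cfsg.Agent.Lib.Helper7.MND (int_dvd)

variable {F : Type*} [Field F] [Fintype F] [DecidableEq F] {m k : ℕ}

theorem card_two_le : 2 ≤ Fintype.card F := Fintype.one_lt_card

theorem exists_vec_ne_zero (hm : 1 ≤ m) : ∃ c : Fin m → F, c ≠ 0 := by
  refine ⟨Pi.single ⟨0, by omega⟩ 1, fun h => ?_⟩
  have := congrFun h ⟨0, by omega⟩
  simp at this

/-- Lemma T': an irreducible representation with a nonzero vector fixed by `xm` and `gm` is a
constituent of some `Ind_P^G θ`, hence has degree at least `τ` -/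
theorem tprime (hm : 2 ≤ m) (ρ : Representation ℂ (GG m F) (Fin k → ℂ)) (hρ : ρ.IsIrreducible)
    (hk : 2 ≤ k) (h : classInner (res0 ρ.character) (fun _ => 1) ≠ 0) :
    tauNum (Fintype.card F) m ≤ k := by
  obtain ⟨θ, hθ⟩ := exists_theta ρ h
  obtain ⟨h1, h2, h3, h4⟩ := theta_values (m := m) (by omega) θ
  exact tprime_of_theta hm ρ hρ hk _ h1 h2 h3 h4 hθ

/-- the data of a representation all of whose nontrivial multiplicities are one -/
theorem bone_data (hm : 2 ≤ m) (ψ : AddChar F ℂ) (hψ : ∃ a, ψ a ≠ 1)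
    (ρ : Representation ℂ (GG m F) (Fin k → ℂ)) (hB : BOne ψ ρ.character) :
    ∃ a : ℕ, mV ψ ρ.character 0 = a ∧ k = a + (Fintype.card F ^ m - 1) := by
  obtain ⟨a, b, ha, hb, hk⟩ := exists_ab hm ψ hψ ρ
  obtain ⟨c, hc⟩ := exists_vec_ne_zero (F := F) (m := m) (by omega)
  have h1 := hb c hc
  rw [hB c hc] at h1
  have h2 : b = 1 := by exact_mod_cast h1.symm
  refine ⟨a, ha, ?_⟩
  rw [hk, h2, mul_one]

/-- `star` in natural numbers -/
theorem star_nat (hex : ¬ Exc (m + 2) (Fintype.card F)) (ψ : AddChar F ℂ) (hψ : ∃ a, ψ a ≠ 1)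
    (ρ : Representation ℂ (GG (m + 2) F) (Fin k → ℂ)) (hB : BOne ψ ρ.character) (a : ℕ)
    (ha : mV ψ ρ.character 0 = a) :
    ∃ n : ℕ, a = n + (Fintype.card F ^ (m + 1) - Fintype.card F ^ m) := by
  have h := star ψ hψ ρ hB (fun c hc hc1 t => hb_mem_commutator hex c hc hc1 t)
  obtain ⟨n, hn⟩ := avgB_nat _ (isCharacter_res0 ρ)
  rw [ha, hn] at h
  refine ⟨n, ?_⟩
  have hle : Fintype.card F ^ m ≤ Fintype.card F ^ (m + 1) :=
    Nat.pow_le_pow_right (by have := card_two_le (F := F); omega) (by omega)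
  have h2 : (a : ℂ) = ((n + (Fintype.card F ^ (m + 1) - Fintype.card F ^ m) : ℕ) : ℂ) := by
    push_cast [Nat.cast_sub hle]
    linear_combination h
  exact_mod_cast h2

/-- the reduction of level `m + 3` to level `m + 2` -/
theorem special_reduce (hex : ¬ Exc (m + 3) (Fintype.card F)) (ψ : AddChar F ℂ)
    (hψ : ∃ a, ψ a ≠ 1) (ρ : Representation ℂ (GG (m + 3) F) (Fin k → ℂ))
    (hρ : ρ.IsIrreducible) (hk : 2 ≤ k) (hB : BOne ψ ρ.character) :
    ∃ a : ℕ, mV ψ ρ.character 0 = a ∧ k = a + (Fintype.card F ^ (m + 3) - 1) ∧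
      ((k : ℤ) ∣ (tvNum (Fintype.card F) (m + 3) : ℤ) * ((a : ℤ) - 1)) ∧
      (sNum (Fintype.card F) (m + 3) ≤ a ∨
        ∃ (k' : ℕ) (σ : Representation ℂ (GG (m + 2) F) (Fin k' → ℂ)) (a' : ℕ),
          σ.IsIrreducible ∧ 2 ≤ k' ∧ BOne ψ σ.character ∧ mV ψ σ.character 0 = a' ∧
          k' = a' + (Fintype.card F ^ (m + 2) - 1) ∧ a = k' ∧
          ((k' : ℤ) ∣ (tvNum (Fintype.card F) (m + 2) : ℤ) * ((a' : ℤ) - 1))) := by
  have hq := card_two_le (F := F)
  obtain ⟨a, ha, hka⟩ := bone_data (by omega) ψ hψ ρ hB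
  have hdvd := int_dvd (by omega) ψ hψ ρ hρ hB a ha
  refine ⟨a, ha, hka, hdvd, ?_⟩
  have hstar := star (m := m + 1) ψ hψ ρ hB
    (fun c hc hc1 t => hb_mem_commutator (m := m + 1) hex c hc hc1 t)
  obtain ⟨c, k', σ, hσ, hk', hBσ, hck, hcc⟩ := res0_decomp ψ hψ ρ hstar
  rw [ha] at hck
  have hck' : a = c + k' := by exact_mod_cast hck
  by_cases hc0 : c = 0
  · right
    obtain ⟨a', ha', hka'⟩ := bone_data (by omega) ψ hψ σ hBσ
    refine ⟨k', σ, a', hσ, hk', hBσ, ha', hka', by omega, ?_⟩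
    exact int_dvd (by omega) ψ hψ σ hσ hBσ a' ha'
  · left
    have h1 : classInner (res0 ρ.character) (fun _ => 1) ≠ 0 := by
      rw [hcc]; exact_mod_cast hc0
    have h2 := tprime (by omega) ρ hρ hk h1
    rw [arith_tau _ _ hq] at h2
    omega

/-- the base of the induction: `SL_3(q)`, `q ∉ {2, 4}` -/
theorem goodOne_base (h2 : Fintype.card F ≠ 2) (h4 : Fintype.card F ≠ 4) (ψ : AddChar F ℂ)
    (hψ : ∃ a, ψ a ≠ 1) : GoodOne 2 F ψ := by
  intro k ρ hρ hk hB
  have hq := card_two_le (F := F)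
  obtain ⟨a, ha, hka⟩ := bone_data (le_refl 2) ψ hψ ρ hB
  refine ⟨a, ha, ?_⟩
  have hex : ¬ Exc (0 + 2) (Fintype.card F) := by
    unfold Exc; omega
  obtain ⟨n, hn⟩ := star_nat (m := 0) hex ψ hψ ρ hB a ha
  have hdvd := int_dvd (le_refl 2) ψ hψ ρ hρ hB a ha
  rw [hka] at hdvd
  apply arith_base _ a (FiniteField.isPrimePow_card F) h2 h4 _ hdvd
  rw [hn]; simp

/-- the generic step of the induction -/
theorem goodOne_step (hex : ¬ Exc (m + 3) (Fintype.card F)) (ψ : AddChar F ℂ)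
    (hψ : ∃ a, ψ a ≠ 1) (ih : GoodOne (m + 2) F ψ) : GoodOne (m + 3) F ψ := by
  intro k ρ hρ hk hB
  have hq := card_two_le (F := F)
  obtain ⟨a, ha, hka, hdvd, h⟩ := special_reduce hex ψ hψ ρ hρ hk hB
  refine ⟨a, ha, ?_⟩
  rcases h with h | ⟨k', σ, a', hσ, hk', hBσ, ha', hka', hak, _⟩
  · exact h
  · obtain ⟨a'', ha'', hs⟩ := ih k' σ hσ hk' hBσ
    rw [ha'] at ha''
    have h1 : a' = a'' := by exact_mod_cast ha''
    rw [hka] at hdvd
    apply arith_step _ _ a hq (by omega) _ hdvd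
    rw [← tauNum_succ _ _ hq, arith_tau _ _ hq]
    omega

/-- the special case `SL_4(4)` -/
theorem goodOne_44 (hq4 : Fintype.card F = 4) (ψ : AddChar F ℂ) (hψ : ∃ a, ψ a ≠ 1) :
    GoodOne 3 F ψ := by
  intro k ρ hρ hk hB
  have hex : ¬ Exc (0 + 3) (Fintype.card F) := by
    unfold Exc; omega
  obtain ⟨a, ha, hka, hdvd, h⟩ := special_reduce (m := 0) hex ψ hψ ρ hρ hk hB
  refine ⟨a, ha, ?_⟩
  rcases h with h | ⟨k', σ, a', hσ, hk', hBσ, ha', hka', hak, hdvd'⟩
  · exact h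
  · rw [hq4] at hka hdvd hka' hdvd' ⊢
    have hs : sNum 4 3 = 21 := by decide
    have ht3 : tvNum 4 (0 + 3) = 5355 := by decide
    have ht2 : tvNum 4 (0 + 2) = 315 := by decide
    rw [hs]
    rw [ht3, hka] at hdvd
    rw [ht2] at hdvd'
    by_contra hlt
    norm_num at hka hka'
    have h5 : a' ≤ 5 := by omega
    subst hak
    subst hka'
    interval_cases a' <;> first | (norm_num at hdvd; done) | (norm_num at hdvd'; done)

/-- the special case `SL_5(2)` -/
theorem goodOne_52 (hq2 : Fintype.card F = 2) (ψ : AddChar F ℂ) (hψ : ∃ a, ψ a ≠ 1) :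
    GoodOne 4 F ψ := by
  intro k ρ hρ hk hB
  have hex : ¬ Exc (1 + 3) (Fintype.card F) := by
    unfold Exc; omega
  obtain ⟨a, ha, hka, hdvd, h⟩ := special_reduce (m := 1) hex ψ hψ ρ hρ hk hB
  refine ⟨a, ha, ?_⟩
  rcases h with h | ⟨k', σ, a', hσ, hk', hBσ, ha', hka', hak, hdvd'⟩
  · exact h
  · rw [hq2] at hka hdvd hka' hdvd' ⊢
    have hs : sNum 2 4 = 15 := by decide
    have ht3 : tvNum 2 (1 + 3) = 465 := by decide
    have ht2 : tvNum 2 (1 + 2) = 105 := by decide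
    rw [hs]
    rw [ht3, hka] at hdvd
    rw [ht2] at hdvd'
    by_contra hlt
    norm_num at hka hka'
    have h5 : a' ≤ 7 := by omega
    subst hak
    subst hka'
    interval_cases a' <;> first | (norm_num at hdvd; done) | (norm_num at hdvd'; done)

/-- the special case `SL_5(3)` -/
theorem goodOne_53 (hq3 : Fintype.card F = 3) (ψ : AddChar F ℂ) (hψ : ∃ a, ψ a ≠ 1) :
    GoodOne 4 F ψ := by
  intro k ρ hρ hk hB
  have hex : ¬ Exc (1 + 3) (Fintype.card F) := by
    unfold Exc; omega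
  obtain ⟨a, ha, hka, hdvd, h⟩ := special_reduce (m := 1) hex ψ hψ ρ hρ hk hB
  refine ⟨a, ha, ?_⟩
  rcases h with h | ⟨k', σ, a', hσ, hk', hBσ, ha', hka', hak, hdvd'⟩
  · exact h
  · have hsm := res0_small (m := 0) ψ hψ σ a' ha'
    have htp := fun h => tprime (m := 3) (by omega) σ hσ hk' h
    rw [hq3] at hka hdvd hka' hdvd' hsm htp ⊢
    have hs : sNum 3 4 = 40 := by decide
    have ht3 : tvNum 3 (1 + 3) = 9680 := by decide
    have ht2 : tvNum 3 (1 + 2) = 1040 := by decide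
    have htau : tauNum 3 3 = 39 := by decide
    rw [hs]
    rw [ht3, hka] at hdvd
    rw [ht2] at hdvd'
    rw [htau] at htp
    by_contra hlt
    norm_num at hka hka' hsm
    have h5 : a' ≤ 13 := by omega
    subst hak
    subst hka'
    interval_cases a' <;> try (first | (norm_num at hdvd; done) | (norm_num at hdvd'; done))
    -- the survivor `a' = 4`
    have h6 := hsm (by norm_num)
    have h7 := htp (by rw [h6]; norm_num)
    omega

theorem goodOne_all (hm : 2 ≤ m) (hex : ¬ Exc m (Fintype.card F)) (ψ : AddChar F ℂ)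
    (hψ : ∃ a, ψ a ≠ 1) : GoodOne m F ψ := by
  induction m, hm using Nat.le_induction with
  | base =>
    apply goodOne_base _ _ ψ hψ
    · intro h; exact hex (Or.inl ⟨rfl, h⟩)
    · intro h; exact hex (Or.inr (Or.inl ⟨rfl, h⟩))
  | succ m hm ih =>
    obtain ⟨m', rfl⟩ : ∃ m', m = m' + 2 := ⟨m - 2, by omega⟩
    by_cases hex' : Exc (m' + 2) (Fintype.card F)
    · rcases hex' with ⟨h1, h2⟩ | ⟨h1, h2⟩ | ⟨h1, h2⟩ | ⟨h1, h2⟩
      · exfalso
        apply hex
        right; right; left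
        exact ⟨by omega, h2⟩
      · have : m' = 0 := by omega
        subst this
        exact goodOne_44 h2 ψ hψ
      · have : m' = 1 := by omega
        subst this
        exact goodOne_52 h2 ψ hψ
      · have : m' = 1 := by omega
        subst this
        exact goodOne_53 h2 ψ hψ
    · exact goodOne_step hex ψ hψ (ih hex')

theorem good_all (hm : 2 ≤ m) (hex : ¬ Exc m (Fintype.card F)) : Good m F := by
  intro k ρ hρ hk
  have hq := card_two_le (F := F)
  obtain ⟨ψ, hψ1⟩ := (AddChar.exists_apply_ne_zero (α := F) (a := 1)).mpr one_ne_zero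
  have hψ : ∃ a, ψ a ≠ 1 := ⟨1, hψ1⟩
  obtain ⟨a, b, ha, hb, hkab⟩ := exists_ab hm ψ hψ ρ
  obtain ⟨c, hc⟩ := exists_vec_ne_zero (F := F) (m := m) (by omega)
  have hb0 : b ≠ 0 := by
    intro h
    have := b_pos hm ψ hψ ρ hρ hk c hc
    rw [hb c hc, h] at this
    simp at this
  by_cases hb2 : 2 ≤ b
  · rw [hkab]
    exact arith_b_two _ _ a b hq (by omega) hb2
  · have hb1 : b = 1 := by omega
    have hB : BOne ψ ρ.character := by
      intro c hc
      rw [hb c hc, hb1]; simp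
    obtain ⟨a', ha', hs⟩ := goodOne_all hm hex ψ hψ k ρ hρ hk hB
    rw [ha] at ha'
    have : a = a' := by exact_mod_cast ha'
    rw [hkab, hb1, mul_one, arith_tau _ _ hq]
    omega

end Cfsg.Agent.Lib.Helper1.MND
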