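import Mathlib
import Cfsg.Agent.Lib.Helper1.MNDZ

set_option autoImplicit false
open Cfsg

namespace Cfsg.Agent.Lib.Helper1.MND

open Cfsg.Agent.Lib.Lead.LS1

/-- invariant subspaces do not change along a surjective homomorphism -/
def subrepEquiv {G G' V : Type*} [Group G] [Group G'] [AddCommGroup V] [Module ℂ V]
    (ρ : Representation ℂ G V) (f : G' →* G) (hf : Function.Surjective f) :
    Subrepresentation (MonoidHom.comp ρ f : Representation ℂ G' V) ≃o Subrepresentation ρ where
  toFun W := ⟨W.toSubmodule, fun g v hv => by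
    obtain ⟨g', rfl⟩ := hf g
    exact W.apply_mem_toSubmodule g' hv⟩
  invFun W := ⟨W.toSubmodule, fun g' v hv => W.apply_mem_toSubmodule (f g') hv⟩
  left_inv W := rfl
  right_inv W := rfl
  map_rel_iff' := Iff.rfl

theorem isIrreducible_comp {G G' V : Type*} [Group G] [Group G'] [AddCommGroup V] [Module ℂ V]
    (ρ : Representation ℂ G V) (f : G' →* G) (hf : Function.Surjective f)
    (h : ρ.IsIrreducible) :
    Representation.IsIrreducible (MonoidHom.comp ρ f : Representation ℂ G' V) :=
  (subrepEquiv ρ f hf).isSimpleOrder_iff.mpr h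

theorem reindexHom_surjective {ι κ : Type*} [Fintype ι] [DecidableEq ι] [Fintype κ]
    [DecidableEq κ] (F : Type*) [Field F] (e : κ ≃ ι) : Function.Surjective (reindexHom F e) := by
  intro B
  refine ⟨reindexHom F e.symm B, ?_⟩
  apply Subtype.ext
  show (B.1.submatrix e.symm e.symm).submatrix e e = B.1
  ext i j
  simp

end Cfsg.Agent.Lib.Helper1.MND

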