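import Mathlib
import Cfsg.Agent.Lib.Helper3.MNUDefs
import Cfsg.Agent.Lib.Helper3.MNUA
import Cfsg.Agent.Lib.Helper6.WlB
import Cfsg.Agent.Lib.Lead.LS1

set_option autoImplicit false
set_option linter.unusedSectionVars false
set_option linter.unusedVariables false

/-!
Farm MNU (statements S2334, S2335), unit O: the congruence orbit of a nonzero hermitian matrix over
the field with `q ^ 2` elements has at least `(q ^ (2 m) - 1) / (q + 1)` elements
(hermitian port of helper6's `WlB.orbit_bound`).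
-/

namespace Cfsg.Agent.Lib.Helper1.MNU

open Matrix Cfsg.Agent.Lib.Helper6.GUC Cfsg.Agent.Lib.Helper5 Cfsg.Agent.Lib.Helper3.MNU
open Cfsg.Agent.Lib.Helper6.Wl (shearMat shearMat_det shearMat_mulVec_e exists_gl_mulVec)

section abstract
variable {K : Type*} [Field K] (σ : K →+* K) {m : ℕ}

theorem hs_smul_left (B : Matrix (Fin m) (Fin m) K) (d : K) (x y : Fin m → K) :
    hs σ B (d • x) y = σ d * hs σ B x y := by
  unfold hs
  have : (fun i => σ ((d • x) i)) = σ d • (fun i => σ (x i)) := by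
    ext i; simp
  rw [this, smul_dotProduct, smul_eq_mul]

theorem hs_smul_right (B : Matrix (Fin m) (Fin m) K) (d : K) (x y : Fin m → K) :
    hs σ B x (d • y) = d * hs σ B x y := by
  unfold hs
  rw [mulVec_smul, dotProduct_smul, smul_eq_mul]

theorem hq_add_smul (B : Matrix (Fin m) (Fin m) K) (y e : Fin m → K) (d : K) :
    hq σ B (y + d • e) =
      hq σ B y + σ d * hs σ B e y + d * hs σ B y e + σ d * d * hq σ B e := by
  rw [hq_eq_hs, hq_eq_hs, hq_eq_hs, hs_add_left, hs_add_right, hs_add_right, hs_smul_left,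
    hs_smul_left, hs_smul_right, hs_smul_right]
  ring

theorem hq_single [DecidableEq K] (B : Matrix (Fin m) (Fin m) K) (i : Fin m) :
    hq σ B (Pi.single i 1) = B i i := by
  rw [hq_eq_hs, hs_single, map_one, one_mul, mul_one]

theorem hq_mulVec (B : Matrix (Fin m) (Fin m) K) (X : Matrix (Fin m) (Fin m) K)
    (x : Fin m → K) : hq σ X x = (fun i => σ (x i)) ⬝ᵥ (X *ᵥ x) := rfl

end abstract

section roots
variable {K : Type*} [Field K] [Fintype K] [DecidableEq K]

open Polynomial in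
theorem card_roots_le (q : ℕ) (hq1 : 1 ≤ q) (c₀ β β' γ : K) (hc : c₀ ≠ 0) :
    (Finset.univ.filter
      (fun d : K => c₀ * d ^ (q + 1) + β * d ^ q + β' * d + γ = 0)).card ≤ q + 1 := by
  set p : K[X] := C c₀ * X ^ (q + 1) + C β * X ^ q + C β' * X + C γ with hp
  have hcoeff : p.coeff (q + 1) = c₀ := by
    rw [hp]
    simp only [coeff_add, coeff_C_mul, coeff_X_pow, coeff_X, coeff_C]
    have h1 : q + 1 ≠ q := by omega
    have h2 : (1 : ℕ) ≠ q + 1 := by omega
    have h3 : q + 1 ≠ 0 := by omega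
    have h4 : q ≠ 0 := by omega
    simp [h1, h2, h3, h4]
  have hp0 : p ≠ 0 := by
    intro h
    rw [h, coeff_zero] at hcoeff
    exact hc hcoeff.symm
  have hdeg : p.natDegree ≤ q + 1 := by
    rw [hp]
    compute_degree
  have hsub : Finset.univ.filter
      (fun d : K => c₀ * d ^ (q + 1) + β * d ^ q + β' * d + γ = 0) ⊆ p.roots.toFinset := by
    intro d hd
    rw [Finset.mem_filter] at hd
    rw [Multiset.mem_toFinset, mem_roots hp0, IsRoot.def, hp]
    simp only [eval_add, eval_mul, eval_C, eval_pow, eval_X]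
    exact hd.2
  calc _ ≤ p.roots.toFinset.card := Finset.card_le_card hsub
    _ ≤ Multiset.card p.roots := Multiset.toFinset_card_le _
    _ ≤ p.natDegree := card_roots' p
    _ ≤ q + 1 := hdeg

end roots

section count
variable {K : Type*} [Field K] [Fintype K] [DecidableEq K] (σ : K →+* K) {m q : ℕ}

theorem card_herm_le (hσq : ∀ a, σ a = a ^ q) (hq1 : 1 ≤ q)
    (B : Matrix (Fin (m + 1)) (Fin (m + 1)) K) (hc : B 0 0 ≠ 0) (c : K) :
    (Finset.univ.filter (fun y : Fin (m + 1) → K => hq σ B y = c)).card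
      ≤ (q + 1) * Fintype.card K ^ m := by
  set e : Fin (m + 1) → K := Pi.single 0 1 with he
  have hqe : hq σ B e = B 0 0 := hq_single σ B 0
  set s := Finset.univ.filter (fun y : Fin (m + 1) → K => hq σ B y = c) with hs'
  have h1 := Finset.card_le_mul_card_image (f := fun y : Fin (m + 1) → K => Fin.tail y) s
    (q + 1) ?_
  · calc s.card ≤ (q + 1) * (s.image fun y => Fin.tail y).card := h1
      _ ≤ (q + 1) * Fintype.card (Fin m → K) := Nat.mul_le_mul_left _ (Finset.card_le_univ _)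
      _ = (q + 1) * Fintype.card K ^ m := by rw [Fintype.card_fun, Fintype.card_fin]
  · intro z hz
    set y₀ : Fin (m + 1) → K := Fin.cons 0 z with hy₀
    refine le_trans (Finset.card_le_card_of_injOn (fun a : Fin (m + 1) → K => a 0) ?_ ?_)
      (card_roots_le q hq1 (B 0 0) (hs σ B e y₀) (hs σ B y₀ e) (hq σ B y₀ - c) hc)
    · intro a ha
      have ha' := Finset.mem_coe.mp ha
      obtain ⟨has, haz⟩ := Finset.mem_filter.1 ha'
      have hac : hq σ B a = c := (Finset.mem_filter.1 has).2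
      have hay : a = y₀ + (a 0) • e := by
        ext j
        refine Fin.cases ?_ (fun k => ?_) j
        · simp [hy₀, he]
        · have h1 : a k.succ = z k := by
            have := congrFun haz k
            simpa [Fin.tail] using this
          simp [hy₀, he, h1]
      have hq' := hq_add_smul σ B y₀ e (a 0)
      rw [← hay, hac, hqe, hσq] at hq'
      simp only [Finset.coe_filter, Finset.mem_univ, true_and, Set.mem_ofPred_eq]
      show B 0 0 * (a 0) ^ (q + 1) + hs σ B e y₀ * (a 0) ^ q + hs σ B y₀ e * (a 0)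
        + (hq σ B y₀ - c) = 0
      rw [pow_succ]
      linear_combination (-1 : K) * hq'
    · intro a ha a' ha' haa
      have h := Finset.mem_coe.mp ha
      have h' := Finset.mem_coe.mp ha'
      have haz := (Finset.mem_filter.1 h).2
      have haz' := (Finset.mem_filter.1 h').2
      ext j
      refine Fin.cases ?_ (fun k => ?_) j
      · exact haa
      · have := congrFun (haz.trans haz'.symm) k
        simpa [Fin.tail] using this

theorem card_herm_orbit_le (hσq : ∀ a, σ a = a ^ q) (hq1 : 1 ≤ q)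
    (B : Matrix (Fin (m + 1)) (Fin (m + 1)) K) (hc : B 0 0 ≠ 0) (c : K)
    (g ginv : Matrix (Fin (m + 1)) (Fin (m + 1)) K) (hg : ginv * g = 1) :
    (Finset.univ.filter (fun x : Fin (m + 1) → K => hq σ (ct σ g * B * g) x = c)).card
      ≤ (q + 1) * Fintype.card K ^ m := by
  refine le_trans (Finset.card_le_card_of_injOn (fun x => g *ᵥ x) ?_ ?_)
    (card_herm_le σ hσq hq1 B hc c)
  · intro x hx
    simp only [Finset.coe_filter, Finset.mem_univ, true_and, Set.mem_ofPred_eq] at hx ⊢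
    rw [← hq_cong']
    exact hx
  · intro x _ x' _ hxx
    have hxx' : g *ᵥ x = g *ᵥ x' := hxx
    have := congrArg (fun v => ginv *ᵥ v) hxx'
    simpa [mulVec_mulVec, hg] using this

theorem ct_shearMat_mulVec (u : Fin m → K) (y : Fin (m + 1) → K) :
    ct σ (shearMat u) *ᵥ y = y + (y 0) • (fun i => σ ((Fin.cons 0 u : Fin (m + 1) → K) i)) := by
  ext i
  have h1 : ∀ j, ct σ (shearMat u) i j = (if i = j then 1 else 0) +
      σ ((Fin.cons 0 u : Fin (m + 1) → K) i) * (if j = 0 then 1 else 0) := by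
    intro j
    rw [ct_apply]
    unfold shearMat
    rw [Matrix.add_apply, vecMulVec_apply, map_add, map_mul, Matrix.one_apply, Pi.single_apply]
    by_cases h : j = i
    · subst h
      by_cases h0 : j = 0
      · simp [h0, mul_comm]
      · simp [h0]
    · have h' : ¬ i = j := fun e => h e.symm
      by_cases h0 : j = 0
      · subst h0
        simp [h, h', mul_comm]
      · simp [h, h', h0]
  simp only [mulVec, dotProduct, h1, add_mul, Finset.sum_add_distrib, Pi.add_apply, Pi.smul_apply,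
    smul_eq_mul]
  congr 1
  · simp
  · simp [mul_comm]

theorem card_orbit_ge (B : Matrix (Fin (m + 1)) (Fin (m + 1)) K) (hc : B 0 0 ≠ 0)
    (O : Finset (Matrix (Fin (m + 1)) (Fin (m + 1)) K)) (x : Fin (m + 1) → K)
    (h hinv : Matrix (Fin (m + 1)) (Fin (m + 1)) K) (hh : hinv * h = 1)
    (hx : h *ᵥ Pi.single 0 1 = x)
    (hO : ∀ u : Fin m → K, ct σ (shearMat u * hinv) * B * (shearMat u * hinv) ∈ O) :
    Fintype.card K ^ m ≤ (O.filter (fun X => hq σ X x = B 0 0)).card := by
  set e : Fin (m + 1) → K := Pi.single 0 1 with he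
  have hqe : hq σ B e = B 0 0 := hq_single σ B 0
  have hBe0 : (B *ᵥ e) 0 = B 0 0 := by
    rw [he, mulVec_single_one]
    rfl
  have hinvx : hinv *ᵥ x = e := by
    rw [← hx, mulVec_mulVec, hh, one_mulVec]
  have hBx : ∀ u, (shearMat u * hinv) *ᵥ x = e := by
    intro u
    rw [← mulVec_mulVec, hinvx, he, shearMat_mulVec_e]
  let Φ : (Fin m → K) → Matrix (Fin (m + 1)) (Fin (m + 1)) K := fun u =>
    ct σ (shearMat u * hinv) * B * (shearMat u * hinv)
  have hΦx : ∀ u, Φ u *ᵥ x = ct σ hinv *ᵥ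
      (B *ᵥ e + (B 0 0) • (fun i => σ ((Fin.cons 0 u : Fin (m + 1) → K) i))) := by
    intro u
    show (ct σ (shearMat u * hinv) * B * (shearMat u * hinv)) *ᵥ x = _
    rw [← mulVec_mulVec, ← mulVec_mulVec, hBx, ct_mul, ← mulVec_mulVec, ct_shearMat_mulVec, hBe0]
  have hcancel : ∀ z : Fin (m + 1) → K, ct σ h *ᵥ (ct σ hinv *ᵥ z) = z := by
    intro z
    rw [mulVec_mulVec, ← ct_mul, hh, ct_one, one_mulVec]
  calc Fintype.card K ^ m = (Finset.univ : Finset (Fin m → K)).card := by
        rw [Finset.card_univ, Fintype.card_fun, Fintype.card_fin]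
    _ ≤ _ := Finset.card_le_card_of_injOn Φ ?_ ?_
  · intro u _
    simp only [Finset.coe_filter, Set.mem_ofPred_eq]
    refine ⟨hO u, ?_⟩
    show hq σ (ct σ (shearMat u * hinv) * B * (shearMat u * hinv)) x = B 0 0
    rw [hq_cong', hBx]
    exact hqe
  · intro u _ u' _ huu
    have h1 : Φ u *ᵥ x = Φ u' *ᵥ x := by rw [show Φ u = Φ u' from huu]
    rw [hΦx, hΦx] at h1
    have h2 := congrArg (fun v => ct σ h *ᵥ v) h1
    simp only [hcancel] at h2
    have h3 := add_left_cancel h2
    have h4 : (fun i => σ ((Fin.cons 0 u : Fin (m + 1) → K) i)) =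
        (fun i => σ ((Fin.cons 0 u' : Fin (m + 1) → K) i)) := by
      have := congrArg (fun v => (B 0 0)⁻¹ • v) h3
      simpa [smul_smul, inv_mul_cancel₀ hc] using this
    ext k
    have := congrFun h4 k.succ
    simp only [Fin.cons_succ] at this
    exact σ.injective this

/-- the abstract double count -/
theorem orbit_core (hσq : ∀ a, σ a = a ^ q) (hq1 : 1 ≤ q)
    (B : Matrix (Fin (m + 1)) (Fin (m + 1)) K) (hc : B 0 0 ≠ 0)
    (O : Finset (Matrix (Fin (m + 1)) (Fin (m + 1)) K))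
    (H1 : ∀ X ∈ O, ∃ g ginv : Matrix (Fin (m + 1)) (Fin (m + 1)) K,
      ginv * g = 1 ∧ X = ct σ g * B * g)
    (H2 : ∀ x : Fin (m + 1) → K, x ≠ 0 → ∃ h hinv : Matrix (Fin (m + 1)) (Fin (m + 1)) K,
      hinv * h = 1 ∧ h *ᵥ Pi.single 0 1 = x ∧
      ∀ u : Fin m → K, ct σ (shearMat u * hinv) * B * (shearMat u * hinv) ∈ O) :
    Fintype.card K ^ (m + 1) - 1 ≤ (q + 1) * O.card := by
  have hqpos : 0 < Fintype.card K ^ m := pow_pos Fintype.card_pos m
  have hswap := Finset.sum_card_bipartiteAbove_eq_sum_card_bipartiteBelow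
    (fun (X : Matrix (Fin (m + 1)) (Fin (m + 1)) K) (x : Fin (m + 1) → K) => hq σ X x = B 0 0)
    (s := O) (t := Finset.univ)
  have hup : ∑ X ∈ O, (Finset.bipartiteAbove
      (fun (X : Matrix (Fin (m + 1)) (Fin (m + 1)) K) (x : Fin (m + 1) → K) =>
        hq σ X x = B 0 0) Finset.univ X).card ≤ O.card * ((q + 1) * Fintype.card K ^ m) := by
    rw [← smul_eq_mul]
    apply Finset.sum_le_card_nsmul
    intro X hX
    obtain ⟨g, ginv, hg, rfl⟩ := H1 X hX
    exact card_herm_orbit_le σ hσq hq1 B hc (B 0 0) g ginv hg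
  have hlow : (Fintype.card K ^ (m + 1) - 1) * Fintype.card K ^ m ≤
      ∑ x ∈ (Finset.univ : Finset (Fin (m + 1) → K)), (Finset.bipartiteBelow
      (fun (X : Matrix (Fin (m + 1)) (Fin (m + 1)) K) (x : Fin (m + 1) → K) =>
        hq σ X x = B 0 0) O x).card := by
    calc (Fintype.card K ^ (m + 1) - 1) * Fintype.card K ^ m
        = ((Finset.univ : Finset (Fin (m + 1) → K)).erase 0).card • Fintype.card K ^ m := by
          rw [Finset.card_erase_of_mem (Finset.mem_univ _), Finset.card_univ, Fintype.card_fun,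
            Fintype.card_fin, smul_eq_mul]
      _ ≤ ∑ x ∈ ((Finset.univ : Finset (Fin (m + 1) → K)).erase 0), (Finset.bipartiteBelow
          (fun (X : Matrix (Fin (m + 1)) (Fin (m + 1)) K) (x : Fin (m + 1) → K) =>
            hq σ X x = B 0 0) O x).card :=
          Finset.card_nsmul_le_sum _ _ _ (fun x hx => by
            obtain ⟨h, hinv, hh, hhx, hO⟩ := H2 x (Finset.ne_of_mem_erase hx)
            exact card_orbit_ge σ B hc O x h hinv hh hhx hO)
      _ ≤ _ := Finset.sum_le_sum_of_subset (Finset.erase_subset _ _)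
  have hfin : (Fintype.card K ^ (m + 1) - 1) * Fintype.card K ^ m ≤
      ((q + 1) * O.card) * Fintype.card K ^ m := by
    calc _ ≤ _ := hlow
      _ = _ := hswap.symm
      _ ≤ _ := hup
      _ = _ := by ring
  exact Nat.le_of_mul_le_mul_right hfin hqpos

end count

section final
variable {K : Type*} [Field K] [Fintype K] [DecidableEq K] {q : ℕ} (hK : Fintype.card K = q ^ 2)

include hK in
theorem q_pos : 1 ≤ q := by
  rcases Nat.eq_zero_or_pos q with h | h
  · subst h
    have : 0 < Fintype.card K := Fintype.card_pos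
    rw [hK] at this
    simp at this
  · exact h

/-- (O) the orbit bound for `GL_m`, `m ≥ 1` -/
theorem orbit_bound_GL {m : ℕ} (hm : 1 ≤ m) (B : Matrix (Fin m) (Fin m) K)
    (hB : IsHerm (HermBridge.sigma hK) B) (hB0 : B ≠ 0) :
    q ^ (2 * m) - 1 ≤ (q + 1) * (orbGL (HermBridge.sigma hK) B).card := by
  obtain ⟨w, hw⟩ := exists_hq_ne_zero hK B hB hB0
  have hw0 : w ≠ 0 := by
    rintro rfl
    apply hw
    simp [hq]
  obtain ⟨m, rfl⟩ : ∃ m', m = m' + 1 := ⟨m - 1, by omega⟩
  obtain ⟨g, hg⟩ := exists_gl_mulVec w hw0 0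
  set σ := HermBridge.sigma hK with hσ
  set B' : Matrix (Fin (m + 1)) (Fin (m + 1)) K :=
    ct σ (g : Matrix (Fin (m + 1)) (Fin (m + 1)) K) * B * (g : Matrix (Fin (m + 1)) (Fin (m + 1)) K)
    with hB'
  have hc : B' 0 0 ≠ 0 := by
    rw [← hq_single σ B' 0, hB', hq_cong', hg]
    exact hw
  have hsub : orbGL σ B' ⊆ orbGL σ B := by
    intro X hX
    obtain ⟨b, -, rfl⟩ := Finset.mem_image.1 hX
    refine Finset.mem_image.2 ⟨g * b, Finset.mem_univ _, ?_⟩
    rw [Units.val_mul, ct_mul, hB']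
    simp only [Matrix.mul_assoc]
  have hcore := orbit_core σ (q := q) (fun a => rfl) (q_pos hK) B' hc (orbGL σ B') ?_ ?_
  · calc q ^ (2 * (m + 1)) - 1 = Fintype.card K ^ (m + 1) - 1 := by rw [hK, ← pow_mul]
      _ ≤ (q + 1) * (orbGL σ B').card := hcore
      _ ≤ _ := Nat.mul_le_mul_left _ (Finset.card_le_card hsub)
  · intro X hX
    obtain ⟨b, -, rfl⟩ := Finset.mem_image.1 hX
    exact ⟨b, ((b⁻¹ : GL (Fin (m + 1)) K) : Matrix (Fin (m + 1)) (Fin (m + 1)) K), by
      rw [← Units.val_mul, inv_mul_cancel, Units.val_one], rfl⟩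
  · intro x hx
    obtain ⟨h, hh⟩ := exists_gl_mulVec x hx 0
    refine ⟨h, ((h⁻¹ : GL (Fin (m + 1)) K) : Matrix (Fin (m + 1)) (Fin (m + 1)) K), by
      rw [← Units.val_mul, inv_mul_cancel, Units.val_one], hh, fun u => ?_⟩
    refine Finset.mem_image.2 ⟨Matrix.GeneralLinearGroup.mkOfDetNeZero (shearMat u)
      (by rw [shearMat_det]; exact one_ne_zero) * h⁻¹, Finset.mem_univ _, rfl⟩

/-- (O) the orbit bound for `SL_m`, `m ≥ 2` -/
theorem orbit_bound_SL {m : ℕ} (hm : 2 ≤ m) (B : Matrix (Fin m) (Fin m) K)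
    (hB : IsHerm (HermBridge.sigma hK) B) (hB0 : B ≠ 0) :
    q ^ (2 * m) - 1 ≤ (q + 1) * (orbSL (HermBridge.sigma hK) B).card := by
  obtain ⟨w, hw⟩ := exists_hq_ne_zero hK B hB hB0
  have hw0 : w ≠ 0 := by
    rintro rfl
    apply hw
    simp [hq]
  obtain ⟨m, rfl⟩ : ∃ m', m = m' + 1 := ⟨m - 1, by omega⟩
  have he0 : (Pi.single 0 1 : Fin (m + 1) → K) ≠ 0 := by
    intro h
    have := congrFun h 0
    simp at this
  obtain ⟨g, hg⟩ := Cfsg.Agent.Lib.Lead.LS1.trans_vec hm _ w he0 hw0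
  set σ := HermBridge.sigma hK with hσ
  set B' : Matrix (Fin (m + 1)) (Fin (m + 1)) K :=
    ct σ (g : Matrix (Fin (m + 1)) (Fin (m + 1)) K) * B * (g : Matrix (Fin (m + 1)) (Fin (m + 1)) K)
    with hB'
  have hc : B' 0 0 ≠ 0 := by
    rw [← hq_single σ B' 0, hB', hq_cong', hg]
    exact hw
  have hsub : orbSL σ B' ⊆ orbSL σ B := by
    intro X hX
    obtain ⟨b, -, rfl⟩ := Finset.mem_image.1 hX
    refine Finset.mem_image.2 ⟨g * b, Finset.mem_univ _, ?_⟩
    rw [Matrix.SpecialLinearGroup.coe_mul, ct_mul, hB']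
    simp only [Matrix.mul_assoc]
  have hcore := orbit_core σ (q := q) (fun a => rfl) (q_pos hK) B' hc (orbSL σ B') ?_ ?_
  · calc q ^ (2 * (m + 1)) - 1 = Fintype.card K ^ (m + 1) - 1 := by rw [hK, ← pow_mul]
      _ ≤ (q + 1) * (orbSL σ B').card := hcore
      _ ≤ _ := Nat.mul_le_mul_left _ (Finset.card_le_card hsub)
  · intro X hX
    obtain ⟨b, -, rfl⟩ := Finset.mem_image.1 hX
    exact ⟨b, ((b⁻¹ : Matrix.SpecialLinearGroup (Fin (m + 1)) K) :
      Matrix (Fin (m + 1)) (Fin (m + 1)) K), by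
      rw [← Matrix.SpecialLinearGroup.coe_mul, inv_mul_cancel,
        Matrix.SpecialLinearGroup.coe_one], rfl⟩
  · intro x hx
    obtain ⟨h, hh⟩ := Cfsg.Agent.Lib.Lead.LS1.trans_vec hm _ x he0 hx
    refine ⟨h, ((h⁻¹ : Matrix.SpecialLinearGroup (Fin (m + 1)) K) :
      Matrix (Fin (m + 1)) (Fin (m + 1)) K), by
      rw [← Matrix.SpecialLinearGroup.coe_mul, inv_mul_cancel,
        Matrix.SpecialLinearGroup.coe_one], hh, fun u => ?_⟩
    let su : Matrix.SpecialLinearGroup (Fin (m + 1)) K := ⟨shearMat u, shearMat_det u⟩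
    exact Finset.mem_image.2 ⟨su * h⁻¹, Finset.mem_univ _, rfl⟩

end final

end Cfsg.Agent.Lib.Helper1.MNU
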