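import Cfsg.Agent.Lib.Helper3.MSDefs
import Cfsg.Agent.Lib.Lead.UniqueP
import Cfsg.Agent.S0519

/-! S4125 MS pieces C1a, C1b, C1c, C1d, C1: classification of the Sylow subgroup. -/

set_option autoImplicit false

namespace Cfsg.Agent.Lib.Helper3.MS

open Cfsg

theorem h1_ms_two_pow_of_dvd {n t : ℕ} (h : n ∣ 2 ^ t) : ∃ m : ℕ, m ≤ t ∧ n = 2 ^ m :=
  (Nat.dvd_prime_pow Nat.prime_two).1 h

theorem h1_ms_card_two_pow {P : Type*} [Group P] [Finite P] (hP : IsPGroup 2 P) :
    ∃ t : ℕ, Nat.card P = 2 ^ t := by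
  have : Fact (Nat.Prime 2) := ⟨Nat.prime_two⟩
  exact IsPGroup.iff_card.1 hP

-- C1a
theorem maxClass_of_quaternion {P : Type*} [Group P] [Finite P] (hP : IsPGroup 2 P) (n : ℕ)
    (e : P ≃* QuaternionGroup n) : IsCyclic P ∨ ∃ (a b : P) (k j : ℕ), MaxClassData a b k j := by
  obtain ⟨t, ht⟩ := h1_ms_card_two_pow hP
  have hn0 : n ≠ 0 := by
    intro h0
    have h1 : orderOf (e.symm (QuaternionGroup.a 1)) = 2 * n := by
      rw [MulEquiv.orderOf_eq]
      exact QuaternionGroup.orderOf_a_one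
    have h2 := orderOf_pos (e.symm (QuaternionGroup.a 1))
    rw [h1, h0] at h2
    exact absurd h2 (by norm_num)
  have : NeZero n := ⟨hn0⟩
  have hcard : Nat.card P = 4 * n := by
    rw [Nat.card_congr e.toEquiv, Nat.card_eq_fintype_card, QuaternionGroup.card]
  have hdvd : n ∣ 2 ^ t := by
    rw [← ht, hcard]
    exact Dvd.intro_left 4 rfl
  obtain ⟨m, -, hm⟩ := h1_ms_two_pow_of_dvd hdvd
  rcases Nat.eq_zero_or_pos m with hm0 | hmpos
  · left
    subst hm0
    have hn1 : n = 1 := by simpa using hm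
    subst hn1
    have := QuaternionGroup.quaternionGroup_one_isCyclic
    exact isCyclic_of_surjective e.symm.toMonoidHom e.symm.surjective
  · right
    have h2n : 2 * n = 2 ^ (m + 1) := by rw [hm, pow_succ]; ring
    refine ⟨e.symm (QuaternionGroup.a 1), e.symm (QuaternionGroup.xa 0), m + 1, 2 ^ (m + 1) - 1, ?_, ?_, ?_, ?_, ?_⟩
    · rw [← h2n]
      rw [MulEquiv.orderOf_eq]
      exact QuaternionGroup.orderOf_a_one
    · rw [hcard, hm, pow_succ, pow_succ]; ring
    · intro hmem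
      obtain ⟨z, hz⟩ := Subgroup.mem_zpowers_iff.1 hmem
      have h3 : (QuaternionGroup.a 1 : QuaternionGroup n) ^ z = QuaternionGroup.xa 0 := by
        apply e.symm.injective
        rw [map_zpow]
        exact hz
      obtain ⟨i, hi⟩ : ∃ i : ZMod (2 * n), (QuaternionGroup.a 1 : QuaternionGroup n) ^ z = QuaternionGroup.a i := by
        have hmem2 : (QuaternionGroup.a 1 : QuaternionGroup n) ^ z ∈ Subgroup.zpowers (QuaternionGroup.a 1 : QuaternionGroup n) :=
          Subgroup.zpow_mem_zpowers _ _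
        obtain ⟨k, hk⟩ := Cfsg.Agent.Lib.Lead.UniqueP.exists_nat_pow_of_mem_zpowers hmem2
        exact ⟨k, by rw [← hk, QuaternionGroup.a_one_pow]⟩
      rw [hi] at h3
      cases h3
    · rw [← map_inv, ← map_mul, ← map_mul, ← map_pow]
      congr 1
      rw [QuaternionGroup.a_one_pow]
      have hinv : (QuaternionGroup.xa 0 : QuaternionGroup n)⁻¹ = QuaternionGroup.xa (n : ZMod (2 * n)) := by
        rw [inv_eq_iff_mul_eq_one, QuaternionGroup.xa_mul_xa, QuaternionGroup.one_def]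
        congr 1
        have h0 : ((2 * n : ℕ) : ZMod (2 * n)) = 0 := ZMod.natCast_self _
        push_cast at h0
        linear_combination h0
      rw [hinv, QuaternionGroup.xa_mul_a, QuaternionGroup.xa_mul_xa]
      congr 1
      have hc : ((2 ^ (m + 1) - 1 : ℕ) : ZMod (2 * n)) = -1 := by
        rw [Nat.cast_sub Nat.one_le_two_pow, ← h2n]
        simp
      rw [hc]
      have h2 : ((n : ZMod (2 * n)) + n) = 0 := by
        have h0 : ((2 * n : ℕ) : ZMod (2 * n)) = 0 := ZMod.natCast_self _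
        push_cast at h0
        linear_combination h0
      linear_combination h2
    · left
      exact ⟨by omega, rfl⟩

-- C1b
theorem maxClass_of_dihedral {P : Type*} [Group P] [Finite P] (hP : IsPGroup 2 P) (n : ℕ) (hn : 8 ≤ n)
    (e : P ≃* DihedralGroup n) : ∃ (a b : P) (k j : ℕ), MaxClassData a b k j := by
  obtain ⟨t, ht⟩ := h1_ms_card_two_pow hP
  have hcard : Nat.card P = 2 * n := by
    rw [Nat.card_congr e.toEquiv, DihedralGroup.nat_card]
  have hdvd : n ∣ 2 ^ t := by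
    rw [← ht, hcard]
    exact Dvd.intro_left 2 rfl
  obtain ⟨k, -, hk⟩ := h1_ms_two_pow_of_dvd hdvd
  have hk3 : 3 ≤ k := by
    by_contra hlt
    push Not at hlt
    have : 2 ^ k ≤ 2 ^ 2 := Nat.pow_le_pow_right (by norm_num) (by omega)
    omega
  have : NeZero n := ⟨by omega⟩
  refine ⟨e.symm (DihedralGroup.r 1), e.symm (DihedralGroup.sr 0), k, 2 ^ k - 1, ?_, ?_, ?_, ?_, ?_⟩
  · rw [MulEquiv.orderOf_eq, DihedralGroup.orderOf_r_one, hk]
  · rw [hcard, hk, pow_succ]; ring
  · intro hmem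
    obtain ⟨z, hz⟩ := Subgroup.mem_zpowers_iff.1 hmem
    have h3 : (DihedralGroup.r 1 : DihedralGroup n) ^ z = DihedralGroup.sr 0 := by
      apply e.symm.injective
      rw [map_zpow]
      exact hz
    rw [DihedralGroup.r_one_zpow] at h3
    cases h3
  · rw [← map_inv, ← map_mul, ← map_mul, ← map_pow]
    congr 1
    rw [DihedralGroup.r_one_pow, DihedralGroup.inv_sr, DihedralGroup.sr_mul_r, DihedralGroup.sr_mul_sr]
    congr 1
    have hc : ((2 ^ k - 1 : ℕ) : ZMod n) = -1 := by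
      rw [Nat.cast_sub Nat.one_le_two_pow, ← hk]
      simp
    rw [hc]
    ring
  · left
    exact ⟨by omega, rfl⟩

-- C1c
theorem maxClass_of_quasiDihedral {P : Type*} [Group P] [Finite P] (hP : Cfsg.IsQuasiDihedral P) :
    ∃ (a b : P) (k j : ℕ), MaxClassData a b k j := by
  obtain ⟨n, hn3, hcard, x, y, hx, hy, hxy⟩ := hP
  refine ⟨x, y, n, 2 ^ (n - 1) - 1, hx, hcard, ?_, hxy, Or.inr ⟨hn3, rfl⟩⟩
  intro hmem
  obtain ⟨i, hi⟩ := Cfsg.Agent.Lib.Lead.UniqueP.exists_nat_pow_of_mem_zpowers hmem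
  have hcomm : y * x = x * y := by
    rw [← hi, ← pow_succ, ← pow_succ']
  have h1 : x ^ (2 ^ (n - 1) - 1) = x := by
    rw [← hxy, hcomm, mul_inv_cancel_right]
  have h2 : x ^ (2 ^ (n - 1) - 2) = 1 := by
    have h4 : 2 ≤ 2 ^ (n - 1) := by
      calc 2 = 2 ^ 1 := by norm_num
        _ ≤ 2 ^ (n - 1) := Nat.pow_le_pow_right (by norm_num) (by omega)
    have h3 : x ^ (2 ^ (n - 1) - 2) * x = 1 * x := by
      rw [← pow_succ, one_mul]
      have : 2 ^ (n - 1) - 2 + 1 = 2 ^ (n - 1) - 1 := by omega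
      rw [this, h1]
    exact mul_right_cancel h3
  have h5 := orderOf_dvd_of_pow_eq_one h2
  rw [hx] at h5
  have h6 : 2 ^ n = 2 * 2 ^ (n - 1) := by
    rw [← pow_succ']
    congr 1
    omega
  have h7 : 4 ≤ 2 ^ (n - 1) := by
    calc 4 = 2 ^ 2 := by norm_num
      _ ≤ 2 ^ (n - 1) := Nat.pow_le_pow_right (by norm_num) (by omega)
  have h8 := Nat.le_of_dvd (by omega) h5
  omega

theorem h1_ms_mem_zpowers_of_cyclic {C : Type*} [Group C] [Finite C] [IsCyclic C] (p : ℕ) [hp : Fact p.Prime]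
    (x y : C) (hx : x ^ p = 1) (hx1 : x ≠ 1) (hy : y ^ p = 1) : y ∈ Subgroup.zpowers x := by
  classical
  have : Fintype C := Fintype.ofFinite C
  have hle := IsCyclic.card_pow_eq_one_le (α := C) hp.out.pos
  have hox : orderOf x = p := orderOf_eq_prime hx hx1
  have hsub : (Finset.univ.filter (fun a : C => a ∈ Subgroup.zpowers x)) ⊆
      (Finset.univ.filter (fun a : C => a ^ p = 1)) := by
    intro a ha
    rw [Finset.mem_filter] at ha ⊢
    refine ⟨ha.1, ?_⟩
    obtain ⟨k, hk⟩ := Subgroup.mem_zpowers_iff.1 ha.2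
    rw [← hk, ← zpow_natCast, ← zpow_mul, mul_comm, zpow_mul, zpow_natCast, hx, one_zpow]
  have hcard : (Finset.univ.filter (fun a : C => a ∈ Subgroup.zpowers x)).card = p := by
    rw [← hox, ← Nat.card_zpowers, Nat.card_eq_fintype_card, Fintype.card_subtype]
  have heq := Finset.eq_of_subset_of_card_le hsub (by rw [hcard]; exact hle)
  have hy' : y ∈ Finset.univ.filter (fun a : C => a ^ p = 1) := by
    rw [Finset.mem_filter]; exact ⟨Finset.mem_univ _, hy⟩
  rw [← heq, Finset.mem_filter] at hy'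
  exact hy'.2

theorem h1_ms_mem_zpowers_of_commute {P : Type*} [Group P] [Finite P] (p : ℕ) [hp : Fact p.Prime]
    (hab : ∀ B : Subgroup P, IsMulCommutative B → IsCyclic B)
    (x y : P) (hxy : x * y = y * x) (hx : x ^ p = 1) (hx1 : x ≠ 1) (hy : y ^ p = 1) :
    y ∈ Subgroup.zpowers x := by
  let B : Subgroup P := Subgroup.closure {x, y}
  have hBc : IsMulCommutative B := by
    refine ⟨⟨?_⟩⟩
    rintro ⟨a, ha⟩ ⟨b, hb⟩
    apply Subtype.ext
    show a * b = b * a
    have hcomm : ∀ u ∈ ({x, y} : Set P), ∀ v ∈ ({x, y} : Set P), u * v = v * u := by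
      intro u hu v hv
      rcases hu with rfl | rfl <;> rcases hv with rfl | rfl
      · rfl
      · exact hxy
      · exact hxy.symm
      · rfl
    exact Subgroup.closure_induction₂ (p := fun a b _ _ => a * b = b * a)
      (fun u v hu hv => hcomm u hu v hv) (fun _ _ => by simp) (fun _ _ => by simp)
      (fun _ _ _ _ _ _ h1 h2 => (Commute.mul_left h1 h2 : Commute _ _).eq)
      (fun _ _ _ _ _ _ h1 h2 => (Commute.mul_right h1 h2 : Commute _ _).eq)
      (fun _ _ _ _ h => (Commute.inv_left (show Commute _ _ from h)).eq)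
      (fun _ _ _ _ h => (Commute.inv_right (show Commute _ _ from h)).eq) ha hb
  have hcyc : IsCyclic B := hab B hBc
  have hxB : x ∈ B := Subgroup.subset_closure (by simp)
  have hyB : y ∈ B := Subgroup.subset_closure (by simp)
  have h := h1_ms_mem_zpowers_of_cyclic (C := B) p ⟨x, hxB⟩ ⟨y, hyB⟩ (Subtype.ext hx)
    (fun h => hx1 (congrArg Subtype.val h)) (Subtype.ext hy)
  obtain ⟨k, hk⟩ := Subgroup.mem_zpowers_iff.1 h
  exact Subgroup.mem_zpowers_iff.2 ⟨k, by simpa using congrArg Subtype.val hk⟩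

-- C1d
theorem uop_of_abelian_cyclic {P : Type*} [Group P] [Finite P] (p : ℕ) [Fact p.Prime] (hP : IsPGroup p P)
    (hab : ∀ B : Subgroup P, IsMulCommutative B → IsCyclic B) : Cfsg.Agent.Lib.Lead.UniqueP.UOP p P := by
  intro x y hx hy hx1
  have : Nontrivial P := ⟨⟨x, 1, hx1⟩⟩
  have hZ : Nontrivial (Subgroup.center P) := hP.center_nontrivial
  have hdvd : p ∣ Nat.card (Subgroup.center P) := by
    obtain ⟨n, hn⟩ := IsPGroup.iff_card.1 (hP.to_subgroup (Subgroup.center P))
    have hn0 : n ≠ 0 := by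
      rintro rfl
      rw [pow_zero] at hn
      have := (Nat.card_eq_one_iff_unique.1 hn).1
      exact not_subsingleton _ this
    rw [hn]
    exact dvd_pow_self p hn0
  obtain ⟨z, hz⟩ := exists_prime_orderOf_dvd_card' p hdvd
  have hzc : ∀ g : P, g * (z : P) = (z : P) * g := fun g => (Subgroup.mem_center_iff.1 z.2 g)
  have hzo : orderOf (z : P) = p := by rw [Subgroup.orderOf_coe]; exact hz
  have hzp : (z : P) ^ p = 1 := by rw [← hzo]; exact pow_orderOf_eq_one _
  have hz1 : (z : P) ≠ 1 := by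
    intro h
    rw [h, orderOf_one] at hzo
    exact (Fact.out : p.Prime).one_lt.ne hzo
  have h1 : (z : P) ∈ Subgroup.zpowers x :=
    h1_ms_mem_zpowers_of_commute p hab x z (hzc x) hx hx1 hzp
  have h2 : y ∈ Subgroup.zpowers (z : P) :=
    h1_ms_mem_zpowers_of_commute p hab z y (hzc y).symm hzp hz1 hy
  exact (Subgroup.zpowers_le.2 h1) h2

-- C1
theorem pgroup_cls {P : Type*} [Group P] [Finite P] (p : ℕ) [Fact p.Prime] (hP : IsPGroup p P)
    (hn : ∀ A : Subgroup P, A.Normal → IsMulCommutative A → IsCyclic A) :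
    IsCyclic P ∨ (p = 2 ∧ ∃ (a b : P) (k j : ℕ), MaxClassData a b k j) := by
  by_cases hm : ∃ B : Subgroup P, IsMulCommutative B ∧ ¬ IsCyclic B
  · obtain ⟨hp2, h⟩ := Cfsg.Agent.S0519.result p hP hn hm
    subst hp2
    rcases h with ⟨n, ⟨e⟩⟩ | ⟨n, hn8, ⟨e⟩⟩ | hqd
    · rcases maxClass_of_quaternion hP n e with h | h
      · exact Or.inl h
      · exact Or.inr ⟨rfl, h⟩
    · exact Or.inr ⟨rfl, maxClass_of_dihedral hP n hn8 e⟩
    · exact Or.inr ⟨rfl, maxClass_of_quasiDihedral hqd⟩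
  · push Not at hm
    have hu := uop_of_abelian_cyclic p hP hm
    rcases Cfsg.Agent.Lib.Lead.UniqueP.cyclic_or_quaternion p hP hu with h | ⟨hp2, n, ⟨e⟩⟩
    · exact Or.inl h
    · subst hp2
      rcases maxClass_of_quaternion hP _ e with h | h
      · exact Or.inl h
      · exact Or.inr ⟨rfl, h⟩

end Cfsg.Agent.Lib.Helper3.MS
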