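import Mathlib
import Cfsg.Agent.Lib.Helper3.MSDefs
import Cfsg.Agent.S3824

/-! S4125 MS pieces F3a (stability_elem) and F3 (small_false). -/

set_option autoImplicit false
set_option linter.unusedVariables false
set_option linter.unusedSectionVars false
set_option linter.style.longLine false

namespace Cfsg.Agent.Lib.Helper3.MS

universe u v

variable {p q : ℕ} {H : Type u} [Group H] {V : Type v} [AddCommGroup V] [DistribMulAction H V]

theorem h1_ms_pow_smul_eq (x : H) (v d : V) (hd : x • v = v + d) (hxd : x • d = d) (m : ℕ) :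
    x ^ m • v = v + m • d := by
  induction m with
  | zero => simp
  | succ m ih =>
    have hxmd : ∀ n : ℕ, x ^ n • d = d := by
      intro n
      induction n with
      | zero => simp
      | succ n ihn => rw [pow_succ, mul_smul, hxd, ihn]
    rw [pow_succ, mul_smul, hd, smul_add, ih, hxmd, succ_nsmul]
    abel

-- F3a
theorem stability_elem [Finite H] [Finite V] (q : ℕ) (hcop : (Nat.card H).Coprime q)
    (hV : ∃ n : ℕ, Nat.card V = q ^ n) (x : H) (W : AddSubgroup V) (h1 : ∀ w ∈ W, x • w = w)
    (h2 : ∀ v : V, x • v - v ∈ W) (v : V) : x • v = v := by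
  obtain ⟨n, hn⟩ := hV
  have hpow : x ^ (Nat.card V) • v = v := by
    rw [h1_ms_pow_smul_eq x v (x • v - v) (by abel) (h1 _ (h2 v)) (Nat.card V), card_nsmul_eq_zero', add_zero]
  have hcop2 : (Nat.card V).Coprime (orderOf x) := by
    rw [hn]
    exact (Nat.Coprime.pow_left n (Nat.Coprime.symm (Nat.Coprime.coprime_dvd_left (orderOf_dvd_natCard x) hcop)))
  obtain ⟨k, hk⟩ := exists_pow_eq_self_of_coprime hcop2
  have hmem : x ^ (Nat.card V) ∈ MulAction.stabilizer H v := hpow
  have hx : x ∈ MulAction.stabilizer H v := by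
    rw [← hk]
    exact Subgroup.pow_mem _ hmem k
  exact hx

-- F3
theorem MinCE.small_false (h : MinCE p q H V) (hp2 : p = 2) (hcard : Nat.card V ∣ q ^ 2) : False := by
  have := h.finH
  have := h.finV
  have hq := h.hq
  have : Fact q.Prime := ⟨hq⟩
  -- V is nontrivial
  have hnt : ∃ v : V, v ≠ 0 := by
    by_contra hcon
    push Not at hcon
    apply h.notSolv
    have : Subsingleton H := by
      refine ⟨fun a b => ?_⟩
      have ha : a = 1 := h.faithful a (fun v => by rw [hcon v, smul_zero])
      have hb : b = 1 := h.faithful b (fun v => by rw [hcon v, smul_zero])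
      rw [ha, hb]
    infer_instance
  obtain ⟨v, hv⟩ := hnt
  set S : Subgroup H := MulAction.stabilizer H v with hS
  set W : AddSubgroup V := AddSubgroup.zmultiples v with hW
  have hSW : ∀ c ∈ S, ∀ w ∈ W, c • w = w := by
    intro c hc w hw
    obtain ⟨n, rfl⟩ := AddSubgroup.mem_zmultiples_iff.1 hw
    rw [smul_comm]
    congr 1
  -- the quotient V ⧸ W is cyclic
  have hcyc : IsAddCyclic (V ⧸ W) := by
    have hmul : W.index * Nat.card W = Nat.card V := AddSubgroup.index_mul_card W
    have hWq : q ∣ Nat.card W := by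
      obtain ⟨n, hn⟩ := h.cardV
      have hWdvd : Nat.card W ∣ q ^ n := by rw [← hn]; exact AddSubgroup.card_addSubgroup_dvd_card W
      obtain ⟨i, -, hi⟩ := (Nat.dvd_prime_pow hq).1 hWdvd
      have hi0 : i ≠ 0 := by
        rintro rfl
        rw [pow_zero] at hi
        have hWbot : W = ⊥ := AddSubgroup.card_eq_one.1 hi
        have : v ∈ W := AddSubgroup.mem_zmultiples v
        rw [hWbot, AddSubgroup.mem_bot] at this
        exact hv this
      rw [hi]
      exact dvd_pow_self q hi0
    have hidx : W.index ∣ q := by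
      obtain ⟨t, ht⟩ := hWq
      have h3 : W.index * (q * t) ∣ q ^ 2 := by rw [← ht, hmul]; exact hcard
      have h4 : q * W.index ∣ q * q := by
        rw [← sq]
        exact Dvd.dvd.trans ⟨t, by ring⟩ h3
      exact Nat.dvd_of_mul_dvd_mul_left hq.pos h4
    rcases (Nat.dvd_prime hq).1 hidx with h1 | h1
    · have : Subsingleton (V ⧸ W) := by
        exact (Nat.card_eq_one_iff_unique.1 (h1 : Nat.card (V ⧸ W) = 1)).1
      exact isAddCyclic_of_subsingleton
    · exact isAddCyclic_of_prime_card (p := q) (by rw [← h1]; rfl)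
  obtain ⟨g, hg⟩ := hcyc.exists_generator
  obtain ⟨u, rfl⟩ := QuotientAddGroup.mk_surjective g
  have hrep : ∀ v' : V, ∃ n : ℤ, v' - n • u ∈ W := by
    intro v'
    obtain ⟨n, hn⟩ := AddSubgroup.mem_zmultiples_iff.1 (hg (QuotientAddGroup.mk v'))
    refine ⟨n, ?_⟩
    have : (QuotientAddGroup.mk (v' - n • u) : V ⧸ W) = 0 := by
      rw [QuotientAddGroup.mk_sub, QuotientAddGroup.mk_zsmul]
      rw [← hn]; simp
    exact (QuotientAddGroup.eq_zero_iff _).1 this
  -- each element of S acts as a scalar modulo W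
  have hscal : ∀ c ∈ S, ∃ m : ℤ, ∀ v' : V, c • v' - m • v' ∈ W := by
    intro c hc
    obtain ⟨m, hm⟩ := hrep (c • u)
    refine ⟨m, fun v' => ?_⟩
    obtain ⟨n, hn⟩ := hrep v'
    have e1 : c • v' - m • v' = n • (c • u - m • u) + ((v' - n • u) - m • (v' - n • u)) := by
      have : c • v' = c • (v' - n • u) + n • (c • u) := by
        rw [smul_comm n c u, ← smul_add, sub_add_cancel]
      rw [this, hSW c hc _ hn]
      simp only [smul_sub, smul_comm m n u]
      abel
    rw [e1]
    exact W.add_mem (W.zsmul_mem hm n) (W.sub_mem hn (W.zsmul_mem hn m))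
  have hcomm : ∀ c ∈ S, ∀ d ∈ S, c * d = d * c := by
    intro c hc d hd
    obtain ⟨mc, hmc⟩ := hscal c hc
    obtain ⟨md, hmd⟩ := hscal d hd
    have hdiff : ∀ v' : V, (c * d) • v' - (d * c) • v' ∈ W := by
      intro v'
      have e : (c * d) • v' - (d * c) • v' =
          (c • (d • v') - mc • (d • v')) + mc • (d • v' - md • v')
            - ((d • (c • v') - md • (c • v')) + md • (c • v' - mc • v')) := by
        rw [mul_smul, mul_smul]
        simp only [smul_sub, smul_comm mc md v']
        abel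
      rw [e]
      exact W.sub_mem (W.add_mem (hmc _) (W.zsmul_mem (hmd _) mc))
        (W.add_mem (hmd _) (W.zsmul_mem (hmc _) md))
    have hk : (d * c)⁻¹ * (c * d) = 1 := by
      apply h.faithful
      have hkS : (d * c)⁻¹ * (c * d) ∈ S := S.mul_mem (S.inv_mem (S.mul_mem hd hc)) (S.mul_mem hc hd)
      have hinvS : (d * c)⁻¹ ∈ S := S.inv_mem (S.mul_mem hd hc)
      refine stability_elem q h.cop h.cardV _ W (hSW _ hkS) ?_
      intro v'
      have e : ((d * c)⁻¹ * (c * d)) • v' - v' = (d * c)⁻¹ • ((c * d) • v' - (d * c) • v') := by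
        rw [smul_sub, ← mul_smul, ← mul_smul, inv_mul_cancel, one_smul]
      rw [e, hSW _ hinvS _ (hdiff v')]
      exact hdiff v'
    exact (inv_mul_eq_one.1 hk).symm
  apply h.notSolv
  refine Cfsg.Agent.S3824.result S ⟨⟨fun a b => Subtype.ext (hcomm a.1 a.2 b.1 b.2)⟩⟩ ?_
  obtain ⟨a, ha⟩ := h.orb v
  exact ⟨a, by rw [ha, hp2]⟩

end Cfsg.Agent.Lib.Helper3.MS
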