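import Mathlib
import Cfsg.Agent.Lib.Helper3.MSDefs
import Cfsg.Agent.Lib.Lead.UniqueP
import Cfsg.Agent.Lib.Helper1.MSF3
import Cfsg.Agent.Lib.Helper8.MSB3
import Cfsg.Agent.Lib.Helper3.MSF2c
import Cfsg.Agent.Lib.Helper5.MSD2

/-! S4125 MS pieces F1 (a_irred) and F4 (maxclass_false). -/

set_option autoImplicit false
set_option linter.unusedVariables false
set_option linter.unusedSectionVars false
set_option linter.style.longLine false

namespace Cfsg.Agent.Lib.Helper3.MS

universe u v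

variable {p q : ℕ} {H : Type u} [Group H] {V : Type v} [AddCommGroup V] [DistribMulAction H V]

-- F1
theorem MinCE.a_irred (h : MinCE p q H V) (hp2 : p = 2) [Fact p.Prime] (P : Sylow p H)
    (a b : ↥(P : Subgroup H)) (k j : ℕ) (hd : MaxClassData a b k j)
    (W : AddSubgroup V) (hW : ∀ w ∈ W, (a : H) • w ∈ W) : W = ⊥ ∨ W = ⊤ := by
  have := h.finH
  have := h.finV
  obtain ⟨hoa, hcP, hbA, hconj, hj⟩ := hd
  by_cases hWbot : W = ⊥
  · exact Or.inl hWbot
  right
  set A : Subgroup ↥(P : Subgroup H) := Subgroup.zpowers a with hA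
  have hA2 : A.index = 2 := by
    have h1 : A.index * Nat.card A = Nat.card ↥(P : Subgroup H) := Subgroup.index_mul_card A
    rw [hcP, Nat.card_zpowers, hoa, pow_succ] at h1
    have h2 : (0 : ℕ) < 2 ^ k := by positivity
    nlinarith [Nat.eq_of_mul_eq_mul_right h2 (by rw [h1, mul_comm] : A.index * 2 ^ k = 2 * 2 ^ k)]
  have hAn : A.Normal := Subgroup.normal_of_index_eq_two hA2
  -- W is invariant under the powers of a
  have hWA : ∀ z ∈ A, ∀ w ∈ W, ((z : ↥(P : Subgroup H)) : H) • w ∈ W := by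
    intro z hz w hw
    obtain ⟨n, rfl⟩ := Cfsg.Agent.Lib.Lead.UniqueP.exists_nat_pow_of_mem_zpowers hz
    induction n with
    | zero => simpa using hw
    | succ n ih =>
      have : (((a ^ (n + 1) : ↥(P : Subgroup H)) : ↥(P : Subgroup H)) : H) • w = (a : H) • (((a ^ n : ↥(P : Subgroup H)) : H) • w) := by
        rw [pow_succ', Subgroup.coe_mul, mul_smul]
      rw [this]
      exact hW _ (ih (Subgroup.pow_mem _ (Subgroup.mem_zpowers a) n))
  set W2 : AddSubgroup V := W.map (DistribSMul.toAddMonoidHom V ((b : ↥(P : Subgroup H)) : H)) with hW2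
  have hmemW2 : ∀ v : V, v ∈ W2 ↔ ∃ w ∈ W, ((b : ↥(P : Subgroup H)) : H) • w = v := by
    intro v
    rw [hW2, AddSubgroup.mem_map]
    rfl
  have hW2A : ∀ z ∈ A, ∀ w ∈ W2, ((z : ↥(P : Subgroup H)) : H) • w ∈ W2 := by
    intro z hz w hw
    obtain ⟨w0, hw0, rfl⟩ := (hmemW2 w).1 hw
    refine (hmemW2 _).2 ⟨((b⁻¹ * z * b⁻¹⁻¹ : ↥(P : Subgroup H)) : H) • w0, hWA _ (hAn.conj_mem z hz b⁻¹) w0 hw0, ?_⟩
    rw [← mul_smul, ← mul_smul, ← Subgroup.coe_mul, ← Subgroup.coe_mul]
    congr 2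
    group
  have hbb : b * b ∈ A := Subgroup.mul_self_mem_of_index_two hA2 b
  have hbW2 : ∀ w ∈ W2, ((b : ↥(P : Subgroup H)) : H) • w ∈ W := by
    intro w hw
    obtain ⟨w0, hw0, rfl⟩ := (hmemW2 w).1 hw
    rw [← mul_smul, ← Subgroup.coe_mul]
    exact hWA _ hbb w0 hw0
  have hbW : ∀ w ∈ W, ((b : ↥(P : Subgroup H)) : H) • w ∈ W2 := fun w hw => (hmemW2 _).2 ⟨w, hw, rfl⟩
  have hsplit : ∀ g : ↥(P : Subgroup H), g ∈ A ∨ ∃ z ∈ A, g = b * z := by
    intro g
    by_cases hg : g ∈ A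
    · exact Or.inl hg
    · right
      refine ⟨b⁻¹ * g, ?_, by group⟩
      rw [Subgroup.mul_mem_iff_of_index_two hA2]
      rw [Subgroup.inv_mem_iff]
      exact ⟨fun hb' => absurd hb' hbA, fun hg' => absurd hg' hg⟩
  -- the sum and the intersection are P-invariant
  have hU : ∀ g ∈ P, ∀ w ∈ W ⊔ W2, g • w ∈ W ⊔ W2 := by
    intro g hg w hw
    obtain ⟨y, hy, z, hz, rfl⟩ := AddSubgroup.mem_sup.1 hw
    rcases hsplit ⟨g, hg⟩ with hgA | ⟨c, hc, hgc⟩
    · rw [smul_add]
      exact AddSubgroup.mem_sup.2 ⟨_, hWA _ hgA y hy, _, hW2A _ hgA z hz, rfl⟩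
    · have hgH : g = (b : H) * (c : H) := by
        have := congrArg (fun t : ↥(P : Subgroup H) => (t : H)) hgc
        simpa using this
      rw [hgH, smul_add, mul_smul, mul_smul, add_comm]
      exact AddSubgroup.mem_sup.2 ⟨_, hbW2 _ (hW2A _ hc z hz), _, hbW _ (hWA _ hc y hy), rfl⟩
  have hI : ∀ g ∈ P, ∀ w ∈ W ⊓ W2, g • w ∈ W ⊓ W2 := by
    intro g hg w hw
    obtain ⟨hw1, hw2⟩ := AddSubgroup.mem_inf.1 hw
    rcases hsplit ⟨g, hg⟩ with hgA | ⟨c, hc, hgc⟩
    · exact AddSubgroup.mem_inf.2 ⟨hWA _ hgA w hw1, hW2A _ hgA w hw2⟩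
    · have hgH : g = (b : H) * (c : H) := by
        have := congrArg (fun t : ↥(P : Subgroup H) => (t : H)) hgc
        simpa using this
      rw [hgH, mul_smul]
      exact AddSubgroup.mem_inf.2 ⟨hbW2 _ (hW2A _ hc w hw2), hbW _ (hWA _ hc w hw1)⟩
  have hUtop : W ⊔ W2 = ⊤ := by
    rcases h.sylow_irred P _ hU with h1 | h1
    · exact absurd (le_bot_iff.1 (h1 ▸ (le_sup_left : W ≤ W ⊔ W2))) hWbot
    · exact h1
  rcases h.sylow_irred P _ hI with hIbot | hItop
  · exfalso
    obtain ⟨w0, hw0, hw00⟩ : ∃ w0 ∈ W, w0 ≠ 0 := by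
      by_contra hcon
      push Not at hcon
      exact hWbot ((AddSubgroup.eq_bot_iff_forall W).2 hcon)
    have hW2bot : W2 ≠ ⊥ := by
      intro hbot
      have h1 : ((b : ↥(P : Subgroup H)) : H) • w0 ∈ W2 := hbW w0 hw0
      rw [hbot, AddSubgroup.mem_bot, smul_eq_zero_iff_eq] at h1
      exact hw00 h1
    let Wf : Fin 2 → AddSubgroup V := ![W, W2]
    have hdec : IsDecomp Wf := by
      constructor
      · intro v
        have hv : v ∈ W ⊔ W2 := by rw [hUtop]; exact AddSubgroup.mem_top v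
        obtain ⟨y, hy, z, hz, rfl⟩ := AddSubgroup.mem_sup.1 hv
        refine ⟨![y, z], ?_, by simp [Fin.sum_univ_two]⟩
        intro i
        fin_cases i
        · exact hy
        · exact hz
      · intro f hf hsum
        rw [Fin.sum_univ_two] at hsum
        have h0 : f 0 ∈ W := hf 0
        have h1 : f 1 ∈ W2 := hf 1
        have h01 : f 0 = - f 1 := eq_neg_of_add_eq_zero_left hsum
        have h0' : f 0 ∈ W ⊓ W2 := AddSubgroup.mem_inf.2 ⟨h0, by rw [h01]; exact W2.neg_mem h1⟩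
        rw [hIbot, AddSubgroup.mem_bot] at h0'
        have h1' : f 1 = 0 := by rw [h0', zero_add] at hsum; exact hsum
        intro i
        fin_cases i
        · exact h0'
        · exact h1'
    have hne : ∀ i, Wf i ≠ ⊥ := by
      intro i
      fin_cases i
      · exact hWbot
      · exact hW2bot
    have hperm : ∀ g ∈ P, ∀ i, ∃ j, ∀ w ∈ Wf i, g • w ∈ Wf j := by
      intro g hg i
      rcases hsplit ⟨g, hg⟩ with hgA | ⟨c, hc, hgc⟩
      · refine ⟨i, ?_⟩
        fin_cases i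
        · exact fun w hw => hWA _ hgA w hw
        · exact fun w hw => hW2A _ hgA w hw
      · have hgH : g = (b : H) * (c : H) := by
          have := congrArg (fun t : ↥(P : Subgroup H) => (t : H)) hgc
          simpa using this
        fin_cases i
        · refine ⟨1, fun w hw => ?_⟩
          rw [hgH, mul_smul]
          exact hbW _ (hWA _ hc w hw)
        · refine ⟨0, fun w hw => ?_⟩
          rw [hgH, mul_smul]
          exact hbW2 _ (hW2A _ hc w hw)
    have htrans : ∀ i j, ∃ g ∈ P, ∀ w ∈ Wf i, g • w ∈ Wf j := by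
      intro i j
      fin_cases i <;> fin_cases j
      · exact ⟨1, Subgroup.one_mem _, fun w hw => by simpa using hw⟩
      · exact ⟨(b : H), b.2, fun w hw => hbW w hw⟩
      · exact ⟨(b : H), b.2, fun w hw => hbW2 w hw⟩
      · exact ⟨1, Subgroup.one_mem _, fun w hw => by simpa using hw⟩
    exact h.no_transitive_decomp (by rw [Fintype.card_fin, hp2]) Wf hdec hne P hperm htrans
  · exact top_le_iff.1 (hItop ▸ (inf_le_left : W ⊓ W2 ≤ W))

-- F4
theorem MinCE.maxclass_false (h : MinCE p q H V) (hp2 : p = 2) [Fact p.Prime] (P : Sylow p H)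
    (a b : ↥(P : Subgroup H)) (k j : ℕ) (hd : MaxClassData a b k j) : False := by
  have := h.finH
  have := h.finV
  have : Fact q.Prime := ⟨h.hq⟩
  have hd' := hd
  obtain ⟨hoa, hcP, hbA, hconj, hj⟩ := hd'
  let α : V ≃+ V := DistribMulAction.toAddEquiv V ((a : ↥(P : Subgroup H)) : H)
  let β : V ≃+ V := DistribMulAction.toAddEquiv V ((b : ↥(P : Subgroup H)) : H)
  have hiter : ∀ (n : ℕ) (v : V), (α^[n]) v = ((a : ↥(P : Subgroup H)) : H) ^ n • v := by
    intro n v
    induction n with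
    | zero => simp
    | succ n ih =>
      rw [Function.iterate_succ_apply', ih, pow_succ', mul_smul]
      rfl
  have hord : ∀ n : ℕ, (∀ v, (α^[n]) v = v) ↔ 2 ^ k ∣ n := by
    intro n
    rw [← hoa, ← Subgroup.orderOf_coe, orderOf_dvd_iff_pow_eq_one]
    constructor
    · intro hv
      exact h.faithful _ (fun v => by rw [← hiter]; exact hv v)
    · intro h1 v
      rw [hiter, h1, one_smul]
  have hconj' : ∀ v, β (α v) = (α^[j]) (β v) := by
    intro v
    rw [hiter]
    show (b : H) • ((a : H) • v) = (a : H) ^ j • ((b : H) • v)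
    have hc : ((b : ↥(P : Subgroup H)) : H) * (a : H) * ((b : ↥(P : Subgroup H)) : H)⁻¹ = (a : H) ^ j := by
      have := congrArg (fun t : ↥(P : Subgroup H) => (t : H)) hconj
      simpa using this
    rw [← hc, ← mul_smul, ← mul_smul, inv_mul_cancel_right]
  have hirr : ∀ W : AddSubgroup V, (∀ w ∈ W, α w ∈ W) → W = ⊥ ∨ W = ⊤ :=
    fun W hW => h.a_irred hp2 P a b k j hd W hW
  have hcard := lemmaF q h.nsmul_q α β k j hj hord hconj' hirr
  exact h.small_false hp2 hcard

end Cfsg.Agent.Lib.Helper3.MS
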