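import Mathlib
import Cfsg.Agent.Lib.Helper1.MC5
import Cfsg.Agent.Lib.Helper2.CycSelf3

set_option autoImplicit false
set_option maxHeartbeats 4000000
set_option linter.unusedVariables false
set_option linter.unusedSectionVars false
set_option linter.style.haveILetI false

universe u
open scoped commutatorElement

/-! Metacyclic 2-groups containing a nonabelian subgroup of order 8 are dihedral, quaternion or
quasidihedral. -/

namespace Cfsg.Agent.Lib.Helper1.MT

open Cfsg Subgroup Cfsg.Agent.Lib.Helper2.CycSelf Cfsg.Agent.Lib.Helper1.MC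

/-- The dihedral / quaternion / quasidihedral trichotomy. -/
def Tri (X : Type u) [Group X] : Prop :=
  (∃ m : ℕ, Nonempty (X ≃* DihedralGroup m)) ∨ (∃ m : ℕ, Nonempty (X ≃* QuaternionGroup m)) ∨
    Cfsg.IsQuasiDihedral X

variable {X : Type u} [Group X]

theorem pow_four_mod {w : X} (hw4 : w ^ 4 = 1) (a : ℕ) : w ^ a = w ^ (a % 4) := by
  conv_lhs => rw [← Nat.div_add_mod a 4]
  rw [pow_add, pow_mul, hw4, one_pow, one_mul]

theorem exists_orderOf_two_pow (hX : IsPGroup 2 X) (u : X) : ∃ n, orderOf u = 2 ^ n := by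
  obtain ⟨k, hk⟩ := hX u
  obtain ⟨n, -, hn⟩ := (Nat.dvd_prime_pow Nat.prime_two).mp (orderOf_dvd_of_pow_eq_one hk)
  exact ⟨n, hn⟩

/-- conjugation acts on an element of order four of a normal cyclic subgroup by `±1` -/
theorem conj_w [Finite X] (hX : IsPGroup 2 X) {u : X} (hN : (zpowers u).Normal) {w : X}
    (hwN : w ∈ zpowers u) (hw4 : w ^ 4 = 1) (hw2 : w ^ 2 ≠ 1) (g : X) :
    g * w * g⁻¹ = w ∨ g * w * g⁻¹ = w⁻¹ := by
  obtain ⟨a, ha0, ha⟩ := exists_act hN g
  obtain ⟨s, hs⟩ := exists_nat_pow hwN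
  have h1 : g * w * g⁻¹ = w ^ a := by
    rw [hs, conj_pow_of_act ha, ← pow_mul, mul_comm]
  have h2 : g * w * g⁻¹ = w ^ (a % 4) := by rw [h1, pow_four_mod hw4 a]
  have h4 : a % 4 < 4 := Nat.mod_lt _ (by norm_num)
  have hinj : ∀ {v : X}, g * v * g⁻¹ = 1 → v = 1 := by
    intro v hv
    have : v = g⁻¹ * (g * v * g⁻¹) * g := by group
    rw [this, hv]; group
  obtain ⟨r, hr⟩ : ∃ r, a % 4 = r := ⟨_, rfl⟩
  rw [hr] at h2 h4
  interval_cases r
  · exfalso
    rw [pow_zero] at h2
    have := hinj h2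
    exact hw2 (by rw [this, one_pow])
  · left; rw [h2, pow_one]
  · exfalso
    have h3 : g * w ^ 2 * g⁻¹ = 1 := by
      rw [← conj_pow, h2, ← pow_mul]; exact hw4
    exact hw2 (hinj h3)
  · right
    rw [h2]
    apply eq_inv_of_mul_eq_one_left
    rw [← pow_succ]; exact hw4

/-- Lemma (U): a normal cyclic subgroup containing an element of order four inverted by an
element whose square lies in the subgroup. -/
theorem tri_of_inverting [Finite X] (hX : IsPGroup 2 X) {u b : X} (hgen : Gen u b)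
    (hN : (zpowers u).Normal) {w y : X} (hwN : w ∈ zpowers u) (hw4 : w ^ 4 = 1) (hw2 : w ^ 2 ≠ 1)
    (hy2 : y ^ 2 ∈ zpowers u) (hyw : y * w * y⁻¹ = w⁻¹) : Tri X := by
  haveI := hN
  have hwne : w⁻¹ ≠ w := by
    intro h
    apply hw2
    calc w ^ 2 = w * w := pow_two w
      _ = w⁻¹ * w := by rw [h]
      _ = 1 := inv_mul_cancel w
  obtain ⟨n, hu⟩ := exists_orderOf_two_pow hX u
  have how : orderOf w = 4 := by
    have := orderOf_eq_prime_pow (x := w) (p := 2) (n := 1) (by simpa using hw2) (by simpa using hw4)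
    simpa using this
  have hn2 : 2 ≤ n := by
    have h1 : orderOf w ∣ orderOf u := orderOf_dvd_of_mem_zpowers hwN
    rw [how, hu] at h1
    exact (Nat.pow_dvd_pow_iff_le_right (by norm_num : 1 < 2)).mp (by simpa using h1)
  obtain ⟨s, hs⟩ := exists_nat_pow hwN
  -- the element `y`
  obtain ⟨i, j, hyij⟩ := hgen y
  have hbj : b ^ j * w * (b ^ j)⁻¹ = w⁻¹ := by
    have hm : b ^ j * w * (b ^ j)⁻¹ ∈ zpowers u := hN.conj_mem _ hwN _
    have hc := comm_of_mem (zpow_mem (mem_zpowers u) i) hm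
    have h1 : y * w * y⁻¹ = u ^ i * (b ^ j * w * (b ^ j)⁻¹) * (u ^ i)⁻¹ := by rw [hyij]; group
    rw [h1, hc, mul_inv_cancel_right] at hyw
    exact hyw
  have hbw : b * w * b⁻¹ = w⁻¹ := by
    rcases conj_w hX hN hwN hw4 hw2 b with h | h
    · exfalso
      have hc : Commute b w := comm_of_conj_eq h
      have hc2 : Commute (b ^ j) w := hc.zpow_left j
      have h1 : b ^ j * w * (b ^ j)⁻¹ = w := by rw [hc2.eq]; group
      rw [h1] at hbj
      exact hwne hbj.symm
    · exact h
  have hbbw : (b * b) * w * (b * b)⁻¹ = w := by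
    have h1 : (b * b) * w * (b * b)⁻¹ = b * (b * w * b⁻¹) * b⁻¹ := by group
    rw [h1, hbw]
    have h2 : b * w⁻¹ * b⁻¹ = (b * w * b⁻¹)⁻¹ := by group
    rw [h2, hbw, inv_inv]
  obtain ⟨k, hk | hk⟩ := Int.even_or_odd' j
  · exfalso
    have hcb : Commute (b * b) w := comm_of_conj_eq hbbw
    have h1 : b ^ j = (b * b) ^ k := by rw [hk, zpow_mul, zpow_two]
    have hc2 : Commute (b ^ j) w := by rw [h1]; exact hcb.zpow_left k
    have h2 : b ^ j * w * (b ^ j)⁻¹ = w := by rw [hc2.eq]; group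
    rw [h2] at hbj
    exact hwne hbj.symm
  -- `b * b ∈ N`
  have hbb : b * b ∈ zpowers u := by
    obtain ⟨π, hπ⟩ : ∃ π : X →* X ⧸ zpowers u, π = QuotientGroup.mk' (zpowers u) := ⟨_, rfl⟩
    have hker : ∀ g, π g = 1 ↔ g ∈ zpowers u := by
      intro g; rw [hπ]; exact QuotientGroup.eq_one_iff g
    have h1 : π y = π b ^ j := by
      rw [hyij, map_mul, (hker _).mpr (zpow_mem (mem_zpowers u) i), one_mul, map_zpow]
    have h2 : π y ^ 2 = 1 := by rw [← map_pow]; exact (hker _).mpr hy2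
    have h3 : (π b * π b) ^ j = 1 := by
      rw [(Commute.refl (π b)).mul_zpow, ← h1, ← pow_two]; exact h2
    obtain ⟨t, ht⟩ := (hX.to_quotient (zpowers u)) (π b * π b)
    obtain ⟨s', -, hs'⟩ := (Nat.dvd_prime_pow Nat.prime_two).mp (orderOf_dvd_of_pow_eq_one ht)
    have hdvd : ((orderOf (π b * π b) : ℕ) : ℤ) ∣ j := orderOf_dvd_iff_zpow_eq_one.mpr h3
    have hs0 : s' = 0 := by
      by_contra hne
      have h2s : (2 : ℤ) ∣ j := by
        have h5 : (2 : ℕ) ∣ orderOf (π b * π b) := by rw [hs']; exact dvd_pow_self 2 hne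
        have h6 : ((2 : ℕ) : ℤ) ∣ ((orderOf (π b * π b) : ℕ) : ℤ) := Int.natCast_dvd_natCast.mpr h5
        exact_mod_cast h6.trans hdvd
      omega
    rw [hs0, pow_zero, orderOf_eq_one_iff] at hs'
    have h7 : π (b * b) = 1 := by rw [map_mul]; exact hs'
    exact (hker _).mp h7
  -- dichotomy
  have hdich : ∀ g : X, g ∈ zpowers u ∨ g * w * g⁻¹ = w⁻¹ := by
    intro g
    obtain ⟨i', j', hg⟩ := hgen g
    obtain ⟨k', hk' | hk'⟩ := Int.even_or_odd' j'
    · left
      rw [hg, hk', zpow_mul, zpow_two]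
      exact mul_mem (zpow_mem (mem_zpowers u) _) (zpow_mem hbb _)
    · right
      have hν : u ^ i' * (b * b) ^ k' ∈ zpowers u :=
        mul_mem (zpow_mem (mem_zpowers u) _) (zpow_mem hbb _)
      have hg' : g = (u ^ i' * (b * b) ^ k') * b := by
        rw [hg, hk', zpow_add, zpow_one, zpow_mul, zpow_two, mul_assoc]
      have hwi : w⁻¹ ∈ zpowers u := inv_mem hwN
      have hc := comm_of_mem hν hwi
      calc g * w * g⁻¹
          = (u ^ i' * (b * b) ^ k') * (b * w * b⁻¹) * (u ^ i' * (b * b) ^ k')⁻¹ := by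
            rw [hg']; group
        _ = w⁻¹ := by rw [hbw, hc, mul_inv_cancel_right]
  have hcentw : ∀ g : X, g * w = w * g → g ∈ zpowers u := by
    intro g hg
    rcases hdich g with h | h
    · exact h
    · exfalso
      have h1 : g * w * g⁻¹ = w := by rw [hg]; group
      rw [h1] at h
      exact hwne h.symm
  have hC : ∀ g : X, g * u = u * g → g ∈ zpowers u := by
    intro g hg
    apply hcentw
    have hc : Commute g u := hg
    rw [hs]
    exact (hc.pow_right s).eq
  have hM : 3 ≤ n → ∀ m, m * u ^ 2 = u ^ 2 * m → m ∈ zpowers u := by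
    intro hn3 m hm
    apply hcentw
    have h1 : u ^ (s * 4) = 1 := by rw [pow_mul, ← hs]; exact hw4
    have hd : 2 ^ n ∣ s * 4 := by rw [← hu]; exact orderOf_dvd_of_pow_eq_one h1
    have h8 : 2 ^ 3 ∣ s * 4 := (pow_dvd_pow 2 hn3).trans hd
    have h2 : 2 ∣ s := by
      norm_num at h8
      omega
    obtain ⟨s', hs'⟩ := h2
    have hc : Commute m (u ^ 2) := hm
    rw [hs, hs', pow_mul]
    exact (hc.pow_right s').eq
  have hyN : y ∉ zpowers u := by
    intro h
    have h1 := comm_of_mem h hwN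
    have h2 : y * w * y⁻¹ = w := by rw [h1]; group
    rw [h2] at hyw
    exact hwne hyw.symm
  obtain ⟨g₁, hg₁U, hsq, hidx, hact⟩ := two_data hX hu hn2 hN hC hM ⟨y, hyN⟩
  have hna : ¬ IsMulCommutative X := by
    intro h
    have h1 : y * w = w * y := h.is_comm.comm y w
    have h2 : y * w * y⁻¹ = w := by rw [h1]; group
    rw [h2] at hyw
    exact hwne hyw.symm
  exact (alt_one hX hna hu hn2 hN hg₁U hsq hidx hact).2

/-- in a finite cyclic group, two elements of exponent two are trivial or have trivial product -/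
theorem cyclic_sq_one {C : Type*} [Group C] [Finite C] [IsCyclic C] {α β : C} (hα : α ^ 2 = 1)
    (hβ : β ^ 2 = 1) : α = 1 ∨ β = 1 ∨ α * β = 1 := by
  classical
  by_contra hcon
  push Not at hcon
  obtain ⟨h1, h2, h3⟩ := hcon
  haveI : Fintype C := Fintype.ofFinite C
  have hle := IsCyclic.card_pow_eq_one_le (α := C) (n := 2) (by norm_num)
  have hαβ : α ≠ β := by
    intro h; apply h3; rw [h, ← pow_two]; exact hβ
  have hsub : ({1, α, β} : Finset C) ⊆ Finset.univ.filter (fun a => a ^ 2 = 1) := by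
    intro x hx
    simp only [Finset.mem_insert, Finset.mem_singleton] at hx
    rw [Finset.mem_filter]
    refine ⟨Finset.mem_univ _, ?_⟩
    rcases hx with rfl | rfl | rfl
    · exact one_pow 2
    · exact hα
    · exact hβ
  have hcard : ({1, α, β} : Finset C).card = 3 := by
    rw [Finset.card_insert_of_notMem, Finset.card_insert_of_notMem, Finset.card_singleton]
    · simpa using hαβ
    · simp only [Finset.mem_insert, Finset.mem_singleton]
      push Not
      exact ⟨h1.symm, h2.symm⟩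
  have := Finset.card_le_card hsub
  omega

/-- Lemma (U'): a metacyclic 2-group containing a dihedral or quaternion subgroup of order 8. -/
theorem tri_of_d8_q8 [Finite X] (hX : IsPGroup 2 X) (hm : IsMetacyclic X) {w y : X}
    (hw4 : w ^ 4 = 1) (hw2 : w ^ 2 ≠ 1) (hyw : y * w * y⁻¹ = w⁻¹)
    (hy : y ^ 2 = 1 ∨ y ^ 2 = w ^ 2) : Tri X := by
  obtain ⟨u, b, hgen, hN⟩ := exists_gen hm
  haveI := hN
  have hcomm := commutator_le_zpowers u b hgen hN
  have hwne : w⁻¹ ≠ w := by
    intro h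
    apply hw2
    calc w ^ 2 = w * w := pow_two w
      _ = w⁻¹ * w := by rw [h]
      _ = 1 := inv_mul_cancel w
  have hncomm : ¬ (y * w = w * y) := by
    intro h1
    have h2 : y * w * y⁻¹ = w := by rw [h1]; group
    rw [h2] at hyw
    exact hwne hyw.symm
  have hw2N : w ^ 2 ∈ zpowers u := by
    have h1 : ⁅y, w⁆ ∈ zpowers u := hcomm (comm_mem y w)
    rw [commutatorElement_def, hyw] at h1
    have h2 : w ^ 2 = (w⁻¹ * w⁻¹)⁻¹ := by rw [mul_inv_rev, inv_inv, pow_two]
    rw [h2]; exact inv_mem h1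
  have hy2N : y ^ 2 ∈ zpowers u := by
    rcases hy with h | h
    · rw [h]; exact one_mem _
    · rw [h]; exact hw2N
  -- the quotient is cyclic
  haveI hcyc : IsCyclic (X ⧸ zpowers u) :=
    ⟨⟨(b : X ⧸ zpowers u), fun q => by
      obtain ⟨j, hj⟩ := quot_zpowers_gen u b hgen q
      exact ⟨j, hj.symm⟩⟩⟩
  have hker : ∀ g : X, ((g : X ⧸ zpowers u) = 1) ↔ g ∈ zpowers u :=
    fun g => QuotientGroup.eq_one_iff g
  have h3 : y ∈ zpowers u ∨ w ∈ zpowers u ∨ y * w ∈ zpowers u := by
    have ha : ((y : X ⧸ zpowers u)) ^ 2 = 1 := by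
      rw [← QuotientGroup.mk_pow]; exact (hker _).mpr hy2N
    have hb : ((w : X ⧸ zpowers u)) ^ 2 = 1 := by
      rw [← QuotientGroup.mk_pow]; exact (hker _).mpr hw2N
    rcases cyclic_sq_one ha hb with h | h | h
    · exact Or.inl ((hker _).mp h)
    · exact Or.inr (Or.inl ((hker _).mp h))
    · refine Or.inr (Or.inr ((hker _).mp ?_))
      rw [QuotientGroup.mk_mul]; exact h
  -- basic identities
  have ha : y * w⁻¹ * y⁻¹ = w := by
    calc y * w⁻¹ * y⁻¹ = (y * w * y⁻¹)⁻¹ := by group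
      _ = w := by rw [hyw, inv_inv]
  have hb' : w * y = y * w⁻¹ := by
    calc w * y = (y * w⁻¹ * y⁻¹) * y := by rw [ha]
      _ = y * w⁻¹ := by group
  have hc : w * y * w⁻¹ = y * (w ^ 2)⁻¹ := by rw [hb']; group
  have hyw2 : (y * w) ^ 2 = w⁻¹ * y ^ 2 * w := by
    calc (y * w) ^ 2 = (y * w * y⁻¹) * y ^ 2 * w := by rw [pow_two, pow_two]; group
      _ = w⁻¹ * y ^ 2 * w := by rw [hyw]
  have hw22 : (w ^ 2) ^ 2 = 1 := by rw [← pow_mul]; exact hw4
  -- involutions of `N`
  obtain ⟨n, hu⟩ := exists_orderOf_two_pow hX u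
  have hn1 : 1 ≤ n := by
    by_contra hn
    have hn0 : n = 0 := by omega
    rw [hn0, pow_zero, orderOf_eq_one_iff] at hu
    rw [hu, zpowers_one_eq_bot, mem_bot] at hw2N
    exact hw2 hw2N
  have hzz := z_sq hu hn1
  have hinvol : ∀ t ∈ zpowers u, t ^ 2 = 1 → t = 1 ∨ t = w ^ 2 := by
    intro t ht ht2
    obtain ⟨k, hk⟩ := mem_zpowers_z (p := 2) hu hn1 ht ht2
    obtain ⟨k', hk'⟩ := mem_zpowers_z (p := 2) hu hn1 hw2N hw22
    have hwz : w ^ 2 = u ^ (2 ^ (n - 1)) := by
      rcases pow_of_sq_one hzz k' with h | h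
      · exact absurd (hk'.trans h) hw2
      · exact hk'.trans h
    rcases pow_of_sq_one hzz k with h | h
    · left; exact hk.trans h
    · right; rw [hwz]; exact hk.trans h
  rcases hy with hy1 | hyq
  · -- dihedral case
    rcases h3 with hyN | hwN | hywN
    · exfalso
      rcases hinvol y hyN hy1 with h | h
      · apply hncomm; rw [h, one_mul, mul_one]
      · apply hncomm; rw [h, pow_two]; group
    · exact tri_of_inverting hX hgen hN hwN hw4 hw2 hy2N hyw
    · exfalso
      have h5 : (y * w) ^ 2 = 1 := by rw [hyw2, hy1]; group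
      rcases hinvol _ hywN h5 with h | h
      · apply hncomm
        have h6 : y = w⁻¹ := eq_inv_of_mul_eq_one_left h
        rw [h6]; group
      · apply hncomm
        have h6 : y = w := by
          have h7 : y * w = w * w := by rw [h, pow_two]
          exact mul_right_cancel h7
        rw [h6]
  · -- quaternion case
    have hy4 : y ^ 4 = 1 := by
      have h5 : y ^ 4 = (y ^ 2) ^ 2 := by rw [← pow_mul]
      rw [h5, hyq]; exact hw22
    have hy2ne : y ^ 2 ≠ 1 := by rw [hyq]; exact hw2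
    have hwy : w * y * w⁻¹ = y⁻¹ := by
      rw [hc, ← hyq]; group
    rcases h3 with hyN | hwN | hywN
    · exact tri_of_inverting hX hgen hN hyN hy4 hy2ne hw2N hwy
    · exact tri_of_inverting hX hgen hN hwN hw4 hw2 hy2N hyw
    · have h5 : (y * w) ^ 2 = w ^ 2 := by rw [hyw2, hyq]; group
      have h6 : (y * w) ^ 4 = 1 := by
        have h7 : (y * w) ^ 4 = ((y * w) ^ 2) ^ 2 := by rw [← pow_mul]
        rw [h7, h5]; exact hw22
      have h8 : (y * w) ^ 2 ≠ 1 := by rw [h5]; exact hw2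
      have h9 : w * (y * w) * w⁻¹ = (y * w)⁻¹ := by
        calc w * (y * w) * w⁻¹ = (w * y * w⁻¹) * w := by group
          _ = y⁻¹ * w := by rw [hwy]
          _ = y⁻¹ * (y * w⁻¹ * y⁻¹) := by rw [ha]
          _ = (y * w)⁻¹ := by group
      exact tri_of_inverting hX hgen hN hywN h6 h8 hw2N h9

end Cfsg.Agent.Lib.Helper1.MT
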