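import Mathlib
import Cfsg.Agent.Lib.Helper1.MT1
import Cfsg.Agent.Lib.Helper2.MetaOdd6

set_option autoImplicit false
set_option maxHeartbeats 4000000
set_option linter.unusedVariables false
set_option linter.unusedSectionVars false
set_option linter.style.haveILetI false

universe u
open scoped commutatorElement

/-! Metacyclic 2-groups: a subgroup `Q₈` or `C_{2^n} × C_{2^n}` with an element acting
nontrivially modulo squares forces maximal class. -/

namespace Cfsg.Agent.Lib.Helper1.MT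

open Cfsg Subgroup Cfsg.Agent.Lib.Helper2.CycSelf Cfsg.Agent.Lib.Helper1.MC

variable {X : Type u} [Group X]

/-- for an automorphism of a cyclic 2-group induced by conjugation, `σ(ν) ν⁻¹` is a square -/
theorem conj_ratio_sq [Finite X] (hX : IsPGroup 2 X) {u : X} (hN : (zpowers u).Normal) (g : X)
    {ν : X} (hν : ν ∈ zpowers u) : ∃ ν' ∈ zpowers u, (g * ν * g⁻¹) * ν⁻¹ = ν' ^ 2 := by
  obtain ⟨n, hu⟩ := exists_orderOf_two_pow hX u
  obtain ⟨r, hr0, hr⟩ := exists_act hN g
  obtain ⟨k, rfl⟩ := exists_nat_pow hν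
  rcases Nat.eq_zero_or_pos n with hn | hn
  · have hu1 : u = 1 := by
      rw [hn, pow_zero] at hu; exact orderOf_eq_one_iff.mp hu
    refine ⟨1, one_mem _, ?_⟩
    rw [hu1]; simp
  · have hodd := act_modEq_one hX hu hn hr
    unfold Nat.ModEq at hodd
    obtain ⟨q, hq⟩ : ∃ q, r = 2 * q + 1 := ⟨r / 2, by omega⟩
    refine ⟨u ^ (q * k), pow_mem (mem_zpowers u) _, ?_⟩
    have h1 : (2 * q + 1) * k = q * k * 2 + k := by ring
    rw [conj_pow_of_act hr, hq, h1, pow_add, mul_inv_cancel_right]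
    exact pow_mul u (q * k) 2

/-- Lemma C: the homocyclic case is impossible. -/
theorem homocyclic_false [Finite X] (hX : IsPGroup 2 X) (hm : IsMetacyclic X) (M : Subgroup X)
    (x : X) (hcov : ∀ g : X, g ∈ M ∨ g * x⁻¹ ∈ M)
    (hab : ∀ m ∈ M, ∀ m' ∈ M, m * m' = m' * m)
    (hnorm : ∀ m ∈ M, x * m * x⁻¹ ∈ M)
    (hx2 : x * x ∈ M)
    (hKP : ∀ m ∈ M, m ^ 2 = 1 → ∃ m' ∈ M, m = m' ^ 2)
    (a : X) (ha : a ∈ M) (hns : ∀ m ∈ M, x * a * x⁻¹ * a⁻¹ ≠ m ^ 2) : False := by
  obtain ⟨u, b, hgen, hN⟩ := exists_gen hm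
  have hcomm := commutator_le_zpowers u b hgen hN
  have hxM : x ∉ M := by
    intro hx
    apply hns 1 (one_mem _)
    rw [hab x hx a ha]; group
  obtain ⟨c, hc⟩ : ∃ c, c = x * a * x⁻¹ * a⁻¹ := ⟨_, rfl⟩
  rw [← hc] at hns
  have hcM : c ∈ M := by rw [hc]; exact mul_mem (hnorm a ha) (inv_mem ha)
  have hcN : c ∈ zpowers u := by
    rw [hc, ← commutatorElement_def]; exact hcomm (comm_mem x a)
  have hxc : x * c * x⁻¹ = c⁻¹ := by
    have h1 : (x * x) * a * (x * x)⁻¹ = a := by
      rw [hab (x * x) hx2 a ha]; group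
    calc x * c * x⁻¹ = ((x * x) * a * (x * x)⁻¹) * (x * a * x⁻¹)⁻¹ := by rw [hc]; group
      _ = a * (x * a * x⁻¹)⁻¹ := by rw [h1]
      _ = c⁻¹ := by rw [hc]; group
  by_cases huM : u ∈ M
  · -- Case B
    have hNM : ∀ ν ∈ zpowers u, ν ∈ M := by
      intro ν hν
      obtain ⟨k, rfl⟩ := mem_zpowers_iff.mp hν
      exact zpow_mem huM k
    have hbM : b ∉ M := by
      intro hb
      obtain ⟨i, j, hx⟩ := hgen x
      apply hxM
      rw [hx]
      exact mul_mem (zpow_mem huM i) (zpow_mem hb j)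
    have hm₀ : b * x⁻¹ ∈ M := (hcov b).resolve_left hbM
    have hbx : ∀ m ∈ M, b * m * b⁻¹ = x * m * x⁻¹ := by
      intro m hm
      have h1 : b * m * b⁻¹ = (b * x⁻¹) * (x * m * x⁻¹) * (b * x⁻¹)⁻¹ := by group
      rw [h1, hab _ hm₀ _ (hnorm m hm)]; group
    obtain ⟨i, j, haij⟩ := hgen a
    have hcb : Commute b (b ^ j) := (Commute.refl b).zpow_right j
    have hc' : c = (b * (u ^ i) * b⁻¹) * (u ^ i)⁻¹ := by
      rw [hc, ← hbx a ha]
      have h2 : b * a * b⁻¹ = (b * u ^ i * b⁻¹) * b ^ j := by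
        calc b * a * b⁻¹ = (b * u ^ i * b⁻¹) * (b * b ^ j * b⁻¹) := by rw [haij]; group
          _ = _ := by rw [hcb.eq]; group
      rw [h2, haij]
      group
    obtain ⟨ν', hν', hsq⟩ := conj_ratio_sq hX hN b (zpow_mem (mem_zpowers u) i)
    exact hns ν' (hNM ν' hν') (hc'.trans hsq)
  · -- Case A
    have hm' : u * x⁻¹ ∈ M := (hcov u).resolve_left huM
    have huu : u * u ∈ M := by
      have h1 : u * u = (u * x⁻¹) * (x * (u * x⁻¹) * x⁻¹) * (x * x) := by group
      rw [h1]; exact mul_mem (mul_mem hm' (hnorm _ hm')) hx2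
    have hxuu : x * (u * u) * x⁻¹ = u * u := by
      have h1 : x * (u * u) * x⁻¹ = (u * x⁻¹)⁻¹ * (u * u) * (u * x⁻¹) := by group
      rw [h1, mul_assoc, hab _ huu _ hm', inv_mul_cancel_left]
    obtain ⟨t, ht⟩ := mem_zpowers_iff.mp hcN
    obtain ⟨s, hs | hs⟩ := Int.even_or_odd' t
    · have hcs : c = (u * u) ^ s := by rw [← ht, hs, zpow_mul, zpow_two]
      have hcomm2 : x * c * x⁻¹ = c := by
        rw [hcs, ← conj_zpow, hxuu]
      have h3 : c⁻¹ = c := hxc.symm.trans hcomm2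
      have hc2 : c ^ 2 = 1 := by
        calc c ^ 2 = c * c := pow_two c
          _ = c⁻¹ * c := by rw [h3]
          _ = 1 := inv_mul_cancel c
      obtain ⟨m', hm'', hcm'⟩ := hKP c hcM hc2
      exact hns m' hm'' hcm'
    · have h4 : u = ((u * u) ^ s)⁻¹ * c := by
        rw [← ht, hs, zpow_add, zpow_one, zpow_mul, zpow_two]; group
      apply huM
      rw [h4]
      exact mul_mem (inv_mem (zpow_mem huu s)) hcM

theorem zmod_half (n : ℕ) (hn : 2 ≤ n) (z : ZMod (2 ^ n)) (hz : z + z = 0) :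
    ∃ r : ZMod (2 ^ n), z = r + r := by
  haveI : NeZero (2 ^ n) := ⟨pow_ne_zero n two_ne_zero⟩
  have h1 : ((z.val + z.val : ℕ) : ZMod (2 ^ n)) = 0 := by
    rw [Nat.cast_add, ZMod.natCast_zmod_val]; exact hz
  rw [ZMod.natCast_eq_zero_iff] at h1
  have h4 : 4 ∣ z.val + z.val := by
    refine Dvd.dvd.trans ?_ h1
    obtain ⟨k, rfl⟩ : ∃ k, n = k + 2 := ⟨n - 2, by omega⟩
    exact ⟨2 ^ k, by ring⟩
  obtain ⟨v, hv⟩ : 2 ∣ z.val := by omega
  refine ⟨(v : ZMod (2 ^ n)), ?_⟩
  calc z = ((z.val : ℕ) : ZMod (2 ^ n)) := (ZMod.natCast_zmod_val z).symm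
    _ = ((2 * v : ℕ) : ZMod (2 ^ n)) := by rw [hv]
    _ = v + v := by push_cast; ring

theorem mult_half (n : ℕ) (hn : 2 ≤ n) (s : Multiplicative (ZMod (2 ^ n))) (hs : s * s = 1) :
    ∃ r : Multiplicative (ZMod (2 ^ n)), s = r * r := by
  obtain ⟨r, hr⟩ := zmod_half n hn (Multiplicative.toAdd s) hs
  exact ⟨Multiplicative.ofAdd r, congrArg Multiplicative.ofAdd hr⟩

/-- The subgroup `M ∪ Mx`. -/
def coverSubgroup (M : Subgroup X) (x : X) (hnorm : ∀ m ∈ M, x * m * x⁻¹ ∈ M)
    (hx2 : x * x ∈ M) : Subgroup X where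
  carrier := {g | g ∈ M ∨ g * x⁻¹ ∈ M}
  one_mem' := Or.inl (one_mem _)
  mul_mem' := by
    rintro g h (hg | hg) (hh | hh)
    · exact Or.inl (mul_mem hg hh)
    · right
      have h1 : g * h * x⁻¹ = g * (h * x⁻¹) := by group
      rw [h1]; exact mul_mem hg hh
    · right
      have h1 : g * h * x⁻¹ = (g * x⁻¹) * (x * h * x⁻¹) := by group
      rw [h1]; exact mul_mem hg (hnorm h hh)
    · left
      have h1 : g * h = (g * x⁻¹) * (x * (h * x⁻¹) * x⁻¹) * (x * x) := by group
      rw [h1]; exact mul_mem (mul_mem hg (hnorm _ hh)) hx2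
  inv_mem' := by
    rintro g (hg | hg)
    · exact Or.inl (inv_mem hg)
    · right
      have h1 : g⁻¹ * x⁻¹ = (x * x)⁻¹ * (x * (g * x⁻¹)⁻¹ * x⁻¹) := by group
      rw [h1]; exact mul_mem (inv_mem hx2) (hnorm _ (inv_mem hg))

theorem mem_coverSubgroup (M : Subgroup X) (x : X) (hnorm : ∀ m ∈ M, x * m * x⁻¹ ∈ M)
    (hx2 : x * x ∈ M) (g : X) :
    g ∈ coverSubgroup M x hnorm hx2 ↔ g ∈ M ∨ g * x⁻¹ ∈ M := Iff.rfl

theorem v4_exp : ∀ g : Multiplicative (ZMod 2) × Multiplicative (ZMod 2), g ^ 2 = 1 := by decide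

theorem v4_four : ∀ p q r : Multiplicative (ZMod 2) × Multiplicative (ZMod 2),
    p = 1 ∨ q = 1 ∨ p = q ∨ r = 1 ∨ r = p ∨ r = q ∨ r = p * q := by decide

/-- Theorem A. -/
theorem tri_of_special [Finite X] (hX : IsPGroup 2 X) (hm : IsMetacyclic X) (M : Subgroup X)
    (x : X) (hnorm : ∀ m ∈ M, x * m * x⁻¹ ∈ M) (hx2 : x * x ∈ M) (a : X) (ha : a ∈ M)
    (hns : ∀ m ∈ M, x * a * x⁻¹ * a⁻¹ ≠ m ^ 2)
    (hiso : Nonempty (↥M ≃* QuaternionGroup 2) ∨
      ∃ n : ℕ, Nonempty (↥M ≃* Multiplicative (ZMod (2 ^ n)) × Multiplicative (ZMod (2 ^ n)))) :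
    Tri X := by
  rcases hiso with ⟨⟨e⟩⟩ | ⟨n, ⟨e⟩⟩
  · have h1 : (QuaternionGroup.a 1 : QuaternionGroup 2) ^ 4 = 1 := by decide
    have h2 : (QuaternionGroup.a 1 : QuaternionGroup 2) ^ 2 ≠ 1 := by decide
    have h3 : (QuaternionGroup.xa 0 : QuaternionGroup 2) * QuaternionGroup.a 1 *
        (QuaternionGroup.xa 0)⁻¹ = (QuaternionGroup.a 1)⁻¹ := by decide
    have h4 : (QuaternionGroup.xa 0 : QuaternionGroup 2) ^ 2 = (QuaternionGroup.a 1) ^ 2 := by
      decide
    obtain ⟨f, hf⟩ : ∃ f : QuaternionGroup 2 →* X, Function.Injective f :=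
      ⟨M.subtype.comp e.symm.toMonoidHom, M.subtype_injective.comp e.symm.injective⟩
    apply tri_of_d8_q8 hX hm (w := f (QuaternionGroup.a 1)) (y := f (QuaternionGroup.xa 0))
    · rw [← map_pow, h1, map_one]
    · intro h; apply h2; apply hf; rw [map_pow, h, map_one]
    · have := congrArg f h3
      simpa only [map_mul, map_inv] using this
    · right; rw [← map_pow, ← map_pow, h4]
  · have habM : ∀ m ∈ M, ∀ m' ∈ M, m * m' = m' * m := by
      intro m hm m' hm'
      have h1 : (⟨m, hm⟩ : ↥M) * ⟨m', hm'⟩ = ⟨m', hm'⟩ * ⟨m, hm⟩ := by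
        apply e.injective
        rw [map_mul, map_mul, mul_comm]
      exact congrArg Subtype.val h1
    have hexp : ∀ m ∈ M, m ^ (2 ^ n) = 1 := by
      intro m hm
      have h1 : (⟨m, hm⟩ : ↥M) ^ (2 ^ n) = 1 := by
        apply e.injective
        rw [map_pow, map_one]
        exact prod_zmod_pow (2 ^ n) _
      exact congrArg Subtype.val h1
    obtain rfl | rfl | hn2 : n = 0 ∨ n = 1 ∨ 2 ≤ n := by omega
    · exfalso
      have h1 : a = 1 := by simpa using hexp a ha
      apply hns 1 (one_mem _)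
      rw [h1]; group
    · -- Klein four group
      have hexp2 : ∀ m ∈ M, m ^ 2 = 1 := by
        intro m hm; simpa using hexp m hm
      have hinv : ∀ m ∈ M, m⁻¹ = m := by
        intro m hm
        apply inv_eq_of_mul_eq_one_left
        rw [← pow_two]; exact hexp2 m hm
      have e' : ↥M ≃* Multiplicative (ZMod 2) × Multiplicative (ZMod 2) := by
        rw [pow_one] at e; exact e
      obtain ⟨b', hb'⟩ : ∃ b', b' = x * a * x⁻¹ := ⟨_, rfl⟩
      have hb'M : b' ∈ M := by rw [hb']; exact hnorm a ha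
      have hne : b' ≠ a := by
        intro h
        apply hns 1 (one_mem _)
        rw [← hb', h]; group
      have ha1 : a ≠ 1 := by
        intro h
        apply hns 1 (one_mem _)
        rw [h]; group
      have hb1 : b' ≠ 1 := by
        intro h
        apply ha1
        rw [hb'] at h
        have h5 : a = x⁻¹ * (x * a * x⁻¹) * x := by group
        rw [h5, h]; group
      have hfour := v4_four (e' ⟨a, ha⟩) (e' ⟨b', hb'M⟩) (e' ⟨x * x, hx2⟩)
      have hone : ∀ m (hm : m ∈ M), e' ⟨m, hm⟩ = 1 → m = 1 := by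
        intro m hm h
        have h5 : (⟨m, hm⟩ : ↥M) = 1 := by
          apply e'.injective; rw [h, map_one]
        exact congrArg Subtype.val h5
      have heq : ∀ m (hm : m ∈ M) m' (hm' : m' ∈ M), e' ⟨m, hm⟩ = e' ⟨m', hm'⟩ → m = m' := by
        intro m hm m' hm' h
        exact congrArg Subtype.val (e'.injective h)
      have hxa : x * a⁻¹ * x⁻¹ = b' := by
        rw [hinv a ha]; exact hb'.symm
      have hab2 : (a * b') ^ 2 = 1 := hexp2 _ (mul_mem ha hb'M)
      have hba2 : (b' * a) ^ 2 = 1 := hexp2 _ (mul_mem hb'M ha)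
      have hab1 : a * b' ≠ 1 := by
        intro h
        apply hne
        have h5 : b' = a⁻¹ := eq_inv_of_mul_eq_one_right h
        rw [h5, hinv a ha]
      have hba1 : b' * a ≠ 1 := by
        intro h
        apply hne
        have h5 : b' = a⁻¹ := eq_inv_of_mul_eq_one_left h
        rw [h5, hinv a ha]
      have hxxa : x * x ≠ a := by
        intro h
        apply hne
        rw [hb', ← h]; group
      have hxxb : x * x ≠ b' := by
        intro h
        apply hxxa
        rw [hb'] at h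
        have h5 : x * x = x * (a * x⁻¹) := by rw [h]; group
        have h6 : x = a * x⁻¹ := mul_left_cancel h5
        calc x * x = (a * x⁻¹) * x := by rw [← h6]
          _ = a := by group
      rcases hfour with h | h | h | h | h | h | h
      · exact absurd (hone _ _ h) ha1
      · exact absurd (hone _ _ h) hb1
      · exact absurd (heq _ _ _ _ h).symm hne
      · -- x * x = 1
        have hxx : x * x = 1 := hone _ _ h
        have hxinv : x⁻¹ = x := inv_eq_of_mul_eq_one_left hxx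
        have hw2 : (x * a) ^ 2 = b' * a := by
          calc (x * a) ^ 2 = (x * a * x⁻¹) * (x * x) * a := by rw [pow_two]; group
            _ = b' * a := by rw [← hb', hxx, mul_one]
        apply tri_of_d8_q8 hX hm (w := x * a) (y := a)
        · have h5 : (x * a) ^ 4 = ((x * a) ^ 2) ^ 2 := by rw [← pow_mul]
          rw [h5, hw2]; exact hba2
        · rw [hw2]; exact hba1
        · calc a * (x * a) * a⁻¹ = a * x := by group
            _ = a⁻¹ * x⁻¹ := by rw [hinv a ha, hxinv]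
            _ = (x * a)⁻¹ := by group
        · left; exact hexp2 a ha
      · exact absurd (heq _ _ _ _ h) hxxa
      · exact absurd (heq _ _ _ _ h) hxxb
      · -- x * x = a * b'
        have hxx : x * x = a * b' := by
          have h5 : e' ⟨x * x, hx2⟩ = e' ⟨a * b', mul_mem ha hb'M⟩ := by
            rw [h, ← map_mul]; rfl
          exact heq _ _ _ _ h5
        apply tri_of_d8_q8 hX hm (w := x) (y := a)
        · have h5 : x ^ 4 = (x * x) ^ 2 := by
            calc x ^ 4 = x ^ (2 * 2) := by norm_num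
              _ = (x ^ 2) ^ 2 := pow_mul x 2 2
              _ = (x * x) ^ 2 := by rw [pow_two x]
          rw [h5, hxx]; exact hab2
        · rw [pow_two, hxx]; exact hab1
        · apply eq_inv_of_mul_eq_one_left
          calc a * x * a⁻¹ * x = a * (x * a⁻¹ * x⁻¹) * (x * x) := by group
            _ = a * b' * (a * b') := by rw [hxa, hxx]
            _ = (a * b') ^ 2 := (pow_two _).symm
            _ = 1 := hab2
        · left; exact hexp2 a ha
    · -- n ≥ 2
      exfalso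
      have hKP : ∀ m ∈ M, m ^ 2 = 1 → ∃ m' ∈ M, m = m' ^ 2 := by
        intro m hm hm2
        have h1 : e ⟨m, hm⟩ * e ⟨m, hm⟩ = 1 := by
          rw [← map_mul, ← map_one e]
          congr 1
          apply Subtype.ext
          show m * m = 1
          rw [← pow_two]; exact hm2
        obtain ⟨r₁, hr₁⟩ := mult_half n hn2 (e ⟨m, hm⟩).1 (congrArg Prod.fst h1)
        obtain ⟨r₂, hr₂⟩ := mult_half n hn2 (e ⟨m, hm⟩).2 (congrArg Prod.snd h1)
        refine ⟨(e.symm (r₁, r₂) : ↥M), (e.symm (r₁, r₂)).2, ?_⟩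
        have h2 : e ⟨m, hm⟩ = (r₁, r₂) * (r₁, r₂) := Prod.ext hr₁ hr₂
        have h3 : (⟨m, hm⟩ : ↥M) = e.symm (r₁, r₂) * e.symm (r₁, r₂) := by
          rw [← map_mul, ← h2, MulEquiv.symm_apply_apply]
        rw [pow_two]
        exact congrArg Subtype.val h3
      have hHm : IsMetacyclic ↥(coverSubgroup M x hnorm hx2) :=
        Cfsg.Agent.Lib.Helper2.MetaOdd.isMetacyclic_subgroup hm _
      have hHp : IsPGroup 2 ↥(coverSubgroup M x hnorm hx2) := hX.to_subgroup _
      have hxH : x ∈ coverSubgroup M x hnorm hx2 :=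
        Or.inr (by rw [mul_inv_cancel]; exact one_mem M)
      have hMH : ∀ m ∈ M, m ∈ coverSubgroup M x hnorm hx2 := fun m hm => Or.inl hm
      refine homocyclic_false hHp hHm (M.subgroupOf (coverSubgroup M x hnorm hx2)) ⟨x, hxH⟩
        ?_ ?_ ?_ ?_ ?_ ⟨a, hMH a ha⟩ ?_ ?_
      · rintro ⟨g, hg⟩
        rcases hg with h | h
        · exact Or.inl h
        · exact Or.inr h
      · rintro ⟨m, hmH⟩ hm ⟨m', hm'H⟩ hm'
        exact Subtype.ext (habM m hm m' hm')
      · rintro ⟨m, hmH⟩ hm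
        exact hnorm m hm
      · exact hx2
      · rintro ⟨m, hmH⟩ hm hm2
        have h1 : m ^ 2 = 1 := congrArg Subtype.val hm2
        obtain ⟨m', hm', hmm'⟩ := hKP m hm h1
        exact ⟨⟨m', hMH m' hm'⟩, hm', Subtype.ext hmm'⟩
      · exact ha
      · rintro ⟨m, hmH⟩ hm heq
        exact hns m hm (congrArg Subtype.val heq)

end Cfsg.Agent.Lib.Helper1.MT
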