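import Mathlib
import Cfsg.Agent.Lib.Helper1.RT1
import Cfsg.Agent.Lib.Helper1.FrattiniP
import Cfsg.Agent.Lib.Helper9.StabChain
import Cfsg.Prelude.Def_KGroupFacts

set_option autoImplicit false
set_option maxHeartbeats 4000000
set_option linter.unusedVariables false
set_option linter.unusedSectionVars false
set_option linter.style.haveILetI false

universe u

/-! A group of automorphisms `A` of a `p`-group `R` with `O_p(A) = Inn(R)`, an `A`-invariant
subgroup `M`, and a non-inner element of `A` acting trivially on `R / M`. -/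

namespace Cfsg.Agent.Lib.Helper1.MT

open Cfsg Subgroup Cfsg.Agent.Lib.Helper9

variable {R : Type u} [Group R]

/-- restriction of an automorphism to an invariant subgroup -/
def resAut (M : Subgroup R) (α : MulAut R) (h : ∀ x, α x ∈ M ↔ x ∈ M) : MulAut ↥M where
  toFun x := ⟨α x, (h x).mpr x.2⟩
  invFun x := ⟨α⁻¹ x, (h _).mp (by rw [MulAut.apply_inv_self]; exact x.2)⟩
  left_inv x := Subtype.ext (MulAut.inv_apply_self R α x)
  right_inv x := Subtype.ext (MulAut.apply_inv_self R α x)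
  map_mul' x y := Subtype.ext (map_mul α (x : R) (y : R))

theorem resAut_apply (M : Subgroup R) (α : MulAut R) (h : ∀ x, α x ∈ M ↔ x ∈ M) (x : ↥M) :
    ((resAut M α h x : ↥M) : R) = α x := rfl

theorem resAut_pow (M : Subgroup R) (α : MulAut R) (h : ∀ x, α x ∈ M ↔ x ∈ M) (n : ℕ) (x : ↥M) :
    (((resAut M α h) ^ n) x : R) = (α ^ n) (x : R) := by
  induction n generalizing x with
  | zero => simp
  | succ n ih =>
    rw [pow_succ, pow_succ, MulAut.mul_apply, MulAut.mul_apply, ih]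
    rfl

/-- the chain `N, M, ⊤, ⊤, …` -/
def chainA (N M : Subgroup R) : ℕ → Subgroup R
  | 0 => N
  | 1 => M
  | _ + 2 => ⊤

theorem chainA_inv {A : Subgroup (MulAut R)} {N M : Subgroup R}
    (hN : ∀ α ∈ A, ∀ x ∈ N, α x ∈ N) (hM : ∀ α ∈ A, ∀ x ∈ M, α x ∈ M) :
    ∀ α ∈ A, ∀ j, ∀ x ∈ chainA N M j, α x ∈ chainA N M j := by
  intro α hα j x hx
  match j, hx with
  | 0, hx => exact hN α hα x hx
  | 1, hx => exact hM α hα x hx
  | _ + 2, _ => exact Subgroup.mem_top _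

variable [Finite R] {p : ℕ} [Fact p.Prime]

theorem trivModFrattini_isPGroup {P : Type u} [Group P] [Finite P] (hP : IsPGroup p P) :
    IsPGroup p (MC.trivModFrattini P) := by
  have hp : p.Prime := Fact.out
  obtain ⟨n, hn⟩ := IsPGroup.iff_card.mp hP
  obtain ⟨r, hr⟩ : ∃ r, (frattini P).index = p ^ r := by
    have h1 : (frattini P).index ∣ p ^ n := hn ▸ Subgroup.index_dvd_card _
    obtain ⟨r, -, hr⟩ := (Nat.dvd_prime_pow hp).mp h1
    exact ⟨r, hr⟩
  have hdvd := Cfsg.Agent.S4207.result (P := P) (p := p) (n := n) (r := r) hn hr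
    (MC.trivModFrattini P) (fun γ hγ x => hγ x)
  obtain ⟨k, -, hk⟩ := (Nat.dvd_prime_pow hp).mp hdvd
  exact IsPGroup.of_card hk

theorem isPGroup_of_trivial_on (hR : IsPGroup p R) (A : Subgroup (MulAut R)) (M : Subgroup R)
    (hM : ∀ α ∈ A, ∀ x ∈ M, α x ∈ M) (K : Subgroup (MulAut R)) (hKA : K ≤ A)
    (hKM : ∀ α ∈ K, ∀ x : R, x⁻¹ * α x ∈ M)
    (hKp : ∀ α ∈ K, ∃ k : ℕ, ∀ x ∈ M, (α ^ (p ^ k)) x = x) : IsPGroup p K := by
  have hbot : ∀ α ∈ A, ∀ x ∈ (⊥ : Subgroup R), α x ∈ (⊥ : Subgroup R) := by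
    intro α _ x hx
    rw [Subgroup.mem_bot] at hx ⊢
    rw [hx, map_one]
  have hC := stabChain_isPGroup hR A (chainA ⊥ M) (chainA_inv hbot hM) rfl 2 rfl
  intro α
  obtain ⟨k, hk⟩ := hKp α α.2
  have hmem : (α : MulAut R) ^ (p ^ k) ∈ stabChain A (chainA ⊥ M) (chainA_inv hbot hM) := by
    refine ⟨A.pow_mem (hKA α.2) _, fun j x hx => ?_⟩
    match j, hx with
    | 0, hx =>
      show x⁻¹ * _ ∈ (⊥ : Subgroup R)
      rw [Subgroup.mem_bot, hk x hx, inv_mul_cancel]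
    | 1, _ => exact hKM _ (K.pow_mem α.2 _) x
    | _ + 2, _ => exact Subgroup.mem_top _
  obtain ⟨l, hl⟩ := hC ⟨_, hmem⟩
  refine ⟨k + l, ?_⟩
  apply Subtype.ext
  have h1 := congrArg Subtype.val hl
  rw [Subgroup.coe_pow, Subgroup.coe_one] at h1
  rw [Subgroup.coe_pow, Subgroup.coe_one, pow_add, pow_mul]
  exact h1

/-- The key abstract statement. -/
theorem aut_normal_key (hR : IsPGroup p R) (A : Subgroup (MulAut R))
    (hrad : (pCore p A).map A.subtype = Cfsg.Inn R)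
    (M : Subgroup R) (hM : ∀ α ∈ A, ∀ x ∈ M, α x ∈ M)
    (γ : MulAut R) (hγA : γ ∈ A) (hγM : ∀ r : R, r⁻¹ * γ r ∈ M) (hγ : γ ∉ Cfsg.Inn R) :
    (∃ a ∈ M, ∀ m ∈ M, γ a * a⁻¹ ≠ m ^ p) ∧ ¬ IsPGroup p (MulAut ↥M) := by
  obtain ⟨Φ, hΦ⟩ : ∃ Φ : Subgroup R, Φ = (frattini ↥M).map M.subtype := ⟨_, rfl⟩
  have hiff : ∀ α ∈ A, ∀ x, α x ∈ M ↔ x ∈ M := by
    intro α hα x
    constructor
    · intro h
      have h1 := hM α⁻¹ (A.inv_mem hα) _ h
      rwa [MulAut.inv_apply_self] at h1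
    · exact hM α hα x
  have hΦinv : ∀ α ∈ A, ∀ x ∈ Φ, α x ∈ Φ := by
    intro α hα x hx
    rw [hΦ] at hx ⊢
    obtain ⟨f, hf, rfl⟩ := hx
    refine ⟨resAut M α (hiff α hα) f, ?_, rfl⟩
    exact (MC.frattini_aut_mem (resAut M α (hiff α hα)) f).mpr hf
  have hMp : IsPGroup p ↥M := hR.to_subgroup M
  have hinv₁ := chainA_inv (A := A) hΦinv hM
  have hB₁p : IsPGroup p (stabChain A (chainA Φ M) hinv₁) := by
    apply isPGroup_of_trivial_on hR A M hM _ (stabChain_le _ _ _)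
    · intro α hα x
      exact hα.2 1 x (Subgroup.mem_top x)
    · intro α hα
      have hρ : resAut M α (hiff α hα.1) ∈ MC.trivModFrattini ↥M := by
        intro x
        have h1 : (x : R)⁻¹ * α x ∈ Φ := hα.2 0 x x.2
        rw [hΦ] at h1
        obtain ⟨f, hf, hfe⟩ := h1
        have hfx : f = x⁻¹ * (resAut M α (hiff α hα.1)) x := Subtype.ext hfe
        have h2 : (resAut M α (hiff α hα.1)) x * x⁻¹ = x * f * x⁻¹ := by rw [hfx]; group
        rw [h2]
        exact (inferInstance : (frattini ↥M).Normal).conj_mem f hf x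
      obtain ⟨k, hk⟩ := (trivModFrattini_isPGroup hMp) ⟨_, hρ⟩
      have hk' : (resAut M α (hiff α hα.1)) ^ (p ^ k) = 1 := by
        have h3 := congrArg Subtype.val hk
        rw [Subgroup.coe_pow, Subgroup.coe_one] at h3
        exact h3
      refine ⟨k, fun x hx => ?_⟩
      have h4 := resAut_pow M α (hiff α hα.1) (p ^ k) ⟨x, hx⟩
      rw [hk'] at h4
      exact h4.symm
  have hB₁le : ∀ α ∈ stabChain A (chainA Φ M) hinv₁, α ∈ Cfsg.Inn R := by
    intro α hα
    rw [← hrad]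
    have h1 : (stabChain A (chainA Φ M) hinv₁).subgroupOf A ≤ pCore p A :=
      le_pCore' (stabChain_normal A _ hinv₁) hB₁p.comap_subtype
    exact ⟨⟨α, hα.1⟩, h1 hα, rfl⟩
  constructor
  · by_contra hcon
    push Not at hcon
    apply hγ
    apply hB₁le
    refine ⟨hγA, fun j x hx => ?_⟩
    match j, hx with
    | 0, hx =>
      obtain ⟨m, hm, hme⟩ := hcon x hx
      have hcm : x⁻¹ * m * x ∈ M := mul_mem (mul_mem (inv_mem hx) hm) hx
      have h1 : x⁻¹ * γ x = (x⁻¹ * m * x) ^ p := by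
        have h2 := conj_pow (a := x⁻¹) (b := m) (i := p)
        rw [inv_inv] at h2
        rw [h2, ← hme]; group
      show x⁻¹ * γ x ∈ Φ
      rw [h1, hΦ]
      refine ⟨(⟨x⁻¹ * m * x, hcm⟩ : ↥M) ^ p, ?_, rfl⟩
      exact Cfsg.Agent.Lib.Helper1.pow_prime_mem_frattini_of_isPGroup p hMp _
    | 1, _ => exact hγM x
    | _ + 2, _ => exact Subgroup.mem_top _
  · intro hAutM
    apply hγ
    have htop : ∀ α ∈ A, ∀ x ∈ (⊤ : Subgroup R), α x ∈ (⊤ : Subgroup R) :=
      fun _ _ _ _ => Subgroup.mem_top _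
    have hinv₀ := chainA_inv (A := A) hM htop
    have hBp : IsPGroup p (stabChain A (chainA M ⊤) hinv₀) := by
      apply isPGroup_of_trivial_on hR A M hM _ (stabChain_le _ _ _)
      · intro α hα x
        exact hα.2 0 x (Subgroup.mem_top x)
      · intro α hα
        obtain ⟨k, hk⟩ := hAutM (resAut M α (hiff α hα.1))
        refine ⟨k, fun x hx => ?_⟩
        have h4 := resAut_pow M α (hiff α hα.1) (p ^ k) ⟨x, hx⟩
        rw [hk] at h4
        exact h4.symm
    have h1 : (stabChain A (chainA M ⊤) hinv₀).subgroupOf A ≤ pCore p A :=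
      le_pCore' (stabChain_normal A _ hinv₀) hBp.comap_subtype
    rw [← hrad]
    refine ⟨⟨γ, hγA⟩, h1 ?_, rfl⟩
    show γ ∈ stabChain A (chainA M ⊤) hinv₀
    refine ⟨hγA, fun j x hx => ?_⟩
    match j, hx with
    | 0, _ => exact hγM x
    | 1, _ => exact Subgroup.mem_top _
    | _ + 2, _ => exact Subgroup.mem_top _

end Cfsg.Agent.Lib.Helper1.MT
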