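import Mathlib
import Cfsg.Agent.Lib.Helper1.MT2
import Cfsg.Agent.Lib.Helper1.MT3
import Cfsg.Agent.Lib.Helper9.ExtMod1
import Cfsg.Agent.S1896

set_option autoImplicit false
set_option maxHeartbeats 4000000
set_option linter.unusedVariables false
set_option linter.unusedSectionVars false
set_option linter.style.haveILetI false

universe u

/-! Strongly closed metacyclic 2-subgroups of saturated fusion systems. -/

namespace Cfsg.Agent.Lib.Helper1.MT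

open Cfsg Cfsg.FusionSystem Subgroup Cfsg.Agent.Lib.Helper9

variable {Ω : Type u} [Group Ω]

/-- the two incarnations of `P ⊓ R` -/
def swapEquiv (P R : Subgroup Ω) : ↥(R.subgroupOf P) ≃* ↥(P.subgroupOf R) where
  toFun y := ⟨⟨y.1.1, y.2⟩, y.1.2⟩
  invFun y := ⟨⟨y.1.1, y.2⟩, y.1.2⟩
  left_inv _ := rfl
  right_inv _ := rfl
  map_mul' _ _ := rfl

variable {S : Subgroup Ω}

theorem le_centric_radical_of_metacyclic [Finite S] (hS : IsPGroup 2 S) (F : FusionSystem S)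
    (hF : F.IsSaturated 2) (P : Subgroup Ω) (hP : F.StronglyClosed P) (hm : IsMetacyclic ↥P)
    (hnt : ¬ Tri ↥P) (R : Subgroup Ω) (hRc : F.IsCentric R) (hRr : F.IsRadical 2 R) : P ≤ R := by
  have hRS := hRc.1
  have hPS := hP.1
  have hC : centralizerIn S R ≤ R := hRc.2 R (isConj_refl F hRS)
  by_contra hPR
  have hle : R ⊔ P ≤ S := sup_le hRS hPS
  have hlt : R < R ⊔ P := lt_of_le_of_ne le_sup_left (fun h => hPR (h ▸ le_sup_right))
  haveI : Finite (R ⊔ P : Subgroup Ω) := finite_of_le hle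
  haveI : Finite ↥R := finite_of_le hRS
  haveI : Finite ↥P := finite_of_le hPS
  obtain ⟨g, hgN, hgR⟩ :=
    exists_mem_normalizerIn_not_mem (S := R ⊔ P) (isPGroup_of_le hS hle) hlt
  obtain ⟨r, hr, x₀, hx₀, hg⟩ := exists_mul_of_mem_sup_stronglyClosed F hP hRS hgN.1
  have hx₀N : x₀ ∈ normalizer (R : Set Ω) := by
    have h1 : x₀ = r⁻¹ * g := by rw [hg]; group
    rw [h1]; exact mul_mem (inv_mem (le_normalizer hr)) hgN.2
  have hx₀R : x₀ ∉ R := by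
    intro h; apply hgR; rw [hg]; exact mul_mem hr h
  -- pass to a power with square in `R`
  have hKS : P ⊓ normalizerIn S R ≤ S := inf_le_left.trans hPS
  have hKp : IsPGroup 2 ↥(P ⊓ normalizerIn S R) := isPGroup_of_le hS hKS
  have hx₀K : x₀ ∈ P ⊓ normalizerIn S R := ⟨hx₀, hPS hx₀, hx₀N⟩
  obtain ⟨x', hx'U, hx'2⟩ := Cfsg.Agent.Lib.Helper2.CycSelf.exists_pow_mem hKp
    (R.subgroupOf (P ⊓ normalizerIn S R)) (h := ⟨x₀, hx₀K⟩) hx₀R
  obtain ⟨x, hx⟩ : ∃ x : Ω, x = (x' : Ω) := ⟨_, rfl⟩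
  have hxP : x ∈ P := hx ▸ x'.2.1
  have hxS : x ∈ S := hx ▸ x'.2.2.1
  have hxN : x ∈ normalizer (R : Set Ω) := hx ▸ x'.2.2.2
  have hxR : x ∉ R := hx ▸ hx'U
  have hxx : x * x ∈ R := by
    have h1 : ((x' ^ 2 : ↥(P ⊓ normalizerIn S R)) : Ω) ∈ R := hx'2
    rw [Subgroup.coe_pow, pow_two, ← hx] at h1
    exact h1
  -- the automorphism induced by `x`
  obtain ⟨γ, hγdef⟩ : ∃ γ : MulAut ↥R, γ = conjAut R ⟨x, hxN⟩ := ⟨_, rfl⟩
  have hγx : ∀ y : ↥R, ((γ y : ↥R) : Ω) = x * y * x⁻¹ := fun y => by rw [hγdef]; rfl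
  have hγA : γ ∈ F.autGroup R :=
    autInducedBy_le_autGroup F hRS ((mem_autInducedBy_iff S R γ).mpr ⟨x, hxS, hγx⟩)
  have hγI : γ ∉ Cfsg.Inn ↥R := not_mem_inn_of_not_mem hC hxS hxR hRS hγx
  have hMinv : ∀ α ∈ F.autGroup R, ∀ y ∈ P.subgroupOf R, α y ∈ P.subgroupOf R := by
    intro α hα y hy
    exact map_le_of_stronglyClosed F hP hRS hα ⟨y, hy, rfl⟩
  have hγM : ∀ r : ↥R, r⁻¹ * γ r ∈ P.subgroupOf R := by
    intro r
    show ((r⁻¹ * γ r : ↥R) : Ω) ∈ P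
    have h1 : ((r⁻¹ * γ r : ↥R) : Ω) = ((r : Ω)⁻¹ * x * ((r : Ω)⁻¹)⁻¹) * x⁻¹ := by
      rw [Subgroup.coe_mul, Subgroup.coe_inv, hγx]; group
    rw [h1]
    exact mul_mem (conj_mem_of_stronglyClosed F hP (S.inv_mem (hRS r.2)) hxP) (inv_mem hxP)
  obtain ⟨⟨a, haM, hns⟩, hAut⟩ := aut_normal_key (isPGroup_of_le hS hRS) (F.autGroup R) hRr.2
    (P.subgroupOf R) hMinv γ hγA hγM hγI
  -- structure of `P ⊓ R`
  have hPp : IsPGroup 2 ↥P := isPGroup_of_le hS hPS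
  have hMm : IsMetacyclic ↥(R.subgroupOf P) :=
    Cfsg.Agent.Lib.Helper2.MetaOdd.isMetacyclic_subgroup hm _
  have hAut' : ¬ IsPGroup 2 (MulAut ↥(R.subgroupOf P)) := by
    intro h
    exact hAut (h.of_equiv (MulAut.congr (swapEquiv P R)))
  have hiso := Cfsg.Agent.S1896.result (hPp.to_subgroup (R.subgroupOf P)) hMm hAut'
  apply hnt
  refine tri_of_special hPp hm (R.subgroupOf P) ⟨x, hxP⟩ ?_ ?_ ⟨(a : Ω), haM⟩ a.2 ?_ hiso
  · rintro ⟨m, hmP⟩ hm'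
    show x * m * x⁻¹ ∈ R
    have h1 : m ∈ R := hm'
    exact ((mem_normalizer_iff.mp hxN) m).mp h1
  · exact hxx
  · rintro ⟨m, hmP⟩ hm' heq
    apply hns ⟨m, hm'⟩ hmP
    apply Subtype.ext
    have h1 := congrArg (fun z : ↥P => (z : Ω)) heq
    simp only [Subgroup.coe_mul, Subgroup.coe_inv, Subgroup.coe_pow] at h1
    rw [Subgroup.coe_mul, Subgroup.coe_inv, hγx, Subgroup.coe_pow]
    exact h1

end Cfsg.Agent.Lib.Helper1.MT
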