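import Mathlib
import Cfsg.Agent.Lib.Helper1.MT4

set_option autoImplicit false
set_option maxHeartbeats 4000000
set_option linter.unusedVariables false
set_option linter.unusedSectionVars false
set_option linter.style.haveILetI false

universe u

/-! Saturated fusion systems on metacyclic 2-groups that are not homocyclic or of maximal class
are inner. -/

namespace Cfsg.Agent.Lib.Helper1.MT

open Cfsg Cfsg.FusionSystem Subgroup Cfsg.Agent.Lib.Helper9

/-- `A × A ≃* (Fin 2 → A)` in multiplicative form -/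
def prodFinTwoEquiv (A : Type*) [AddGroup A] :
    Multiplicative A × Multiplicative A ≃* Multiplicative (Fin 2 → A) where
  toFun g := Multiplicative.ofAdd ![Multiplicative.toAdd g.1, Multiplicative.toAdd g.2]
  invFun f := (Multiplicative.ofAdd (Multiplicative.toAdd f 0),
    Multiplicative.ofAdd (Multiplicative.toAdd f 1))
  left_inv g := rfl
  right_inv f := by
    apply Multiplicative.toAdd.injective
    funext i
    fin_cases i <;> rfl
  map_mul' g h := by
    apply Multiplicative.toAdd.injective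
    funext i
    fin_cases i <;> rfl

variable {Ω : Type u} [Group Ω] {S : Subgroup Ω}

theorem inner_of_metacyclic [Finite S] (hS : IsPGroup 2 S) (F : FusionSystem S)
    (hF : F.IsSaturated 2) (hm : IsMetacyclic ↥S)
    (hh : ¬ ∃ n k : ℕ, Nonempty (↥S ≃* Multiplicative (Fin k → ZMod (2 ^ n))))
    (hq : ¬ ∃ m : ℕ, Nonempty (↥S ≃* QuaternionGroup m)) (hnt : ¬ Tri ↥S) :
    ∀ P : Subgroup Ω, F.Hom P = (innerFusionSystem S).Hom P := by
  have hSc : F.StronglyClosed S := stronglyClosed_top F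
  have hN : F.IsNormal S := by
    rw [normal_iff_stronglyClosed_le_centric_radical 2 hS F hF S]
    exact ⟨hSc, fun R hRc hRr => le_centric_radical_of_metacyclic hS F hF S hSc hm hnt R hRc hRr⟩
  have hAut : IsPGroup 2 (MulAut ↥S) := by
    by_contra hA
    rcases Cfsg.Agent.S1896.result hS hm hA with ⟨⟨e⟩⟩ | ⟨n, ⟨e⟩⟩
    · exact hq ⟨2, ⟨e⟩⟩
    · exact hh ⟨n, 2, ⟨e.trans (prodFinTwoEquiv (ZMod (2 ^ n)))⟩⟩
  obtain ⟨-, Sy, hSy⟩ := fullyAutomized_of_fullyNormalized hS F hF (fullyNormalized_top F)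
  have htop : (⊤ : Subgroup (F.autGroup S)) = (Sy : Subgroup (F.autGroup S)) := by
    have hpg : IsPGroup 2 ↥(⊤ : Subgroup (F.autGroup S)) :=
      (hAut.to_subgroup (F.autGroup S)).to_subgroup ⊤
    exact Sy.is_maximal' hpg le_top
  intro P
  ext φ
  constructor
  · intro hφ
    have hPS := hom_le F hφ
    obtain ⟨ψ, hψ, hψφ, hψS⟩ := hN.2 P φ hφ
    have hψ' := restrict_mem F hψ (le_sup_right : S ≤ P ⊔ S)
    have hrange : (ψ.comp (Subgroup.inclusion (le_sup_right : S ≤ P ⊔ S))).range = S := by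
      apply le_antisymm
      · rintro _ ⟨s, rfl⟩
        exact hψS.le ⟨Subgroup.inclusion le_sup_right s, s.2, rfl⟩
      · intro z hz
        obtain ⟨w, hw, rfl⟩ := hψS.ge hz
        exact ⟨⟨(w : Ω), hw⟩, rfl⟩
    obtain ⟨α, hαA, hα⟩ := exists_aut_of_hom F hψ' hrange
    have hαI : α ∈ autInducedBy S S := by
      have h1 : (⟨α, hαA⟩ : F.autGroup S) ∈ (Sy : Subgroup (F.autGroup S)) := by
        rw [← htop]; exact Subgroup.mem_top _
      rw [hSy] at h1
      exact h1
    obtain ⟨g, hgS, hg⟩ := (mem_autInducedBy_iff S S α).mp hαI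
    refine ⟨hPS, g, hgS, fun y => ?_⟩
    rw [← hψφ y]
    have h2 : ψ (Subgroup.inclusion le_sup_left y) =
        (ψ.comp (Subgroup.inclusion (le_sup_right : S ≤ P ⊔ S))) ⟨(y : Ω), hPS y.2⟩ := rfl
    rw [h2, ← hα, hg]
  · rintro ⟨hPS, g, hgS, hg⟩
    have h1 := F.conj_mem hPS hgS
    have h2 : conjHom P g = φ := by
      ext y
      exact (hg y).symm
    rw [← h2]
    exact h1

end Cfsg.Agent.Lib.Helper1.MT
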