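import Cfsg.Agent.Lib.Helper1.MTSplit2
import Cfsg.Agent.Lib.Helper9.MTh

set_option autoImplicit false

/-! Monster type: the image in the first Conway group of the centralizer of an element of `Q` lying
over a vector of squared length 64 is the stabilizer of the class of that vector; it is split. -/

namespace Cfsg.Agent.Lib.Helper1.MTMono

open Cfsg Cfsg.Agent.Lib.Helper9.MTc Cfsg.Agent.Lib.Helper9.LeechM2
open Cfsg.Agent.Lib.Helper9.LeechC8 (mk mk_eq_iff)

variable {G : Type*} [Group G] {z : G}
  {Q : Subgroup (Subgroup.centralizer ({z} : Set G))} [Q.Normal]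
  {e : (Subgroup.centralizer ({z} : Set G)) ⧸ Q ≃* Spor.Co1}
  {ψ : leechLattice → Q ⧸ Subgroup.center Q}

theorem pi1_apply (g : ↥Co0) : pi1 g = (QuotientGroup.mk g : Spor.Co1) := rfl

variable [Finite G]

/-- the image of the centralizer of an element over a vector of norm 64 -/
theorem map_centralizer64 (h : MT z Q e ψ) (v : leechLattice) (x : Q)
    (hx : ψ v = QuotientGroup.mk x) (hv : sqNorm (v : GolayPt → ℤ) = 64) :
    (Subgroup.centralizer ({(x : Subgroup.centralizer ({z} : Set G))} :
      Set (Subgroup.centralizer ({z} : Set G)))).map (Phi e) = (cst v).map pi1 := by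
  ext y
  constructor
  · rintro ⟨c, hc, rfl⟩
    obtain ⟨g, hg⟩ := QuotientGroup.mk_surjective (Phi e c)
    have hcx : c * (x : Subgroup.centralizer ({z} : Set G)) * c⁻¹ = x := by
      have := Subgroup.mem_centralizer_singleton_iff.mp hc
      rw [this]; group
    have h1 := h.equivariant c g hg v x hx
    have h2 : (⟨c * x * c⁻¹, (inferInstance : Q.Normal).conj_mem
        (x : Subgroup.centralizer ({z} : Set G)) x.2 c⟩ : Q) = x := Subtype.ext hcx
    rw [h2, ← hx] at h1
    obtain ⟨u, hu, huv⟩ := h.congr_of_psi_eq _ _ h1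
    refine ⟨g, ?_, hg⟩
    rw [SetLike.mem_coe, mem_cst, mk_eq_iff]
    exact ⟨u, hu, huv⟩
  · rintro ⟨g, hg, rfl⟩
    obtain ⟨c, hc⟩ := Phi_surjective (e := e) (pi1 g)
    have hg' : (QuotientGroup.mk g : Spor.Co1) = Phi e c := hc.symm
    have h1 := h.equivariant c g hg' v x hx
    have h2 : ψ (g • v) = ψ v := by
      apply h.psi_congr
      rw [SetLike.mem_coe, mem_cst, mk_eq_iff] at hg
      exact hg
    rw [h2, hx] at h1
    -- `c x c⁻¹` and `x` agree modulo the centre
    have h3 : (QuotientGroup.mk ((⟨c * x * c⁻¹, (inferInstance : Q.Normal).conj_mem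
        (x : Subgroup.centralizer ({z} : Set G)) x.2 c⟩ : Q) * x⁻¹) : Q ⧸ Subgroup.center Q) = 1 := by
      rw [QuotientGroup.mk_mul, ← h1, QuotientGroup.mk_inv, mul_inv_cancel]
    obtain ⟨hx1, hxz⟩ := h.noncentral v x hx (by omega) (by omega)
    rcases (h.mk_eq_one_iff _).mp h3 with h4 | h4
    · refine ⟨c, ?_, hc⟩
      rw [SetLike.mem_coe, Subgroup.mem_centralizer_singleton_iff]
      have h5 := congrArg (fun t : Q => (t : Subgroup.centralizer ({z} : Set G))) h4
      simp only [Subgroup.coe_mul, Subgroup.coe_inv, Subgroup.coe_one] at h5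
      have h6 : c * (x : Subgroup.centralizer ({z} : Set G)) * c⁻¹ = x := by
        rw [mul_inv_eq_one] at h5
        exact h5
      calc c * (x : Subgroup.centralizer ({z} : Set G))
          = (c * x * c⁻¹) * c := by group
        _ = x * c := by rw [h6]
    · obtain ⟨q, hq, hqx⟩ := h.swap x.2 hx1 hxz
      simp only [Subgroup.coe_mul, Subgroup.coe_inv] at h4
      have h6 : c * (x : Subgroup.centralizer ({z} : Set G)) * c⁻¹ = zC z * x := by
        rw [← h4]; group
      refine ⟨q * c, ?_, ?_⟩
      · rw [SetLike.mem_coe, Subgroup.mem_centralizer_singleton_iff]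
        have h7 : q * (zC z * x) * q⁻¹ = x := by
          have : q * (zC z * (x : Subgroup.centralizer ({z} : Set G))) * q⁻¹ =
              zC z * (q * x * q⁻¹) := by
            rw [← mul_assoc, zC_comm q, mul_assoc, mul_assoc, mul_assoc]
          rw [this, hqx, zC_comm, ← mul_assoc, zC_sq h.hz, one_mul]
        calc q * c * (x : Subgroup.centralizer ({z} : Set G))
            = q * (c * x * c⁻¹) * q⁻¹ * (q * c) := by group
          _ = x * (q * c) := by rw [h6, h7]
      · rw [map_mul, hc]
        have : Phi e q = 1 := by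
          rw [← MonoidHom.mem_ker, Phi_ker]
          exact hq
        rw [this, one_mul]

/-- the image of such a centralizer is split -/
theorem split_centralizer64 (h : MT z Q e ψ) (v : leechLattice) (x : Q)
    (hx : ψ v = QuotientGroup.mk x) (hv : sqNorm (v : GolayPt → ℤ) = 64) :
    Split ((Subgroup.centralizer ({(x : Subgroup.centralizer ({z} : Set G))} :
      Set (Subgroup.centralizer ({z} : Set G)))).map (Phi e)) := by
  rw [map_centralizer64 h v x hx hv]
  exact split64 v hv

end Cfsg.Agent.Lib.Helper1.MTMono
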