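import Cfsg.Agent.Lib.Helper9.MTf
import Cfsg.Agent.Lib.Helper9.LeechX12
import Cfsg.Agent.Lib.Helper9.M24Q4
import Cfsg.Agent.Lib.Helper9.M24T4

set_option autoImplicit false

/-! Monster type, the side of the lattice: the stabilizer in the automorphism group of the rank-24
lattice of a congruence class (modulo twice the lattice) of vectors of squared length 64 is the
monomial group; sign changes and coordinate permutations inside it. -/

namespace Cfsg.Agent.Lib.Helper1.MTMono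

open scoped symmDiff Pointwise
open Cfsg Finset Cfsg.Agent.Lib.Helper9.LeechM1 Cfsg.Agent.Lib.Helper9.LeechM2
  Cfsg.Agent.Lib.Helper9.LeechM4 Cfsg.Agent.Lib.Helper9.LeechX12
open Cfsg.Agent.Lib.Helper9.LeechC8 (mk mk_eq_iff)
open Cfsg.Agent.Lib.Helper9.LeechX6 (mem_Code_iff symmDiff_mem_Code)

/-! ### the stabilizer of a congruence class -/

/-- the stabilizer of the class of `v` modulo twice the lattice -/
def cst (v : leechLattice) : Subgroup ↥Co0 where
  carrier := {g | mk (g.1 v).1 = mk v.1}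
  one_mem' := rfl
  mul_mem' := by
    intro a b ha hb
    have h1 := cong_pres a.1 a.2 (b.1 v) v hb
    exact h1.trans ha
  inv_mem' := by
    intro a ha
    have h1 := cong_pres a⁻¹.1 a⁻¹.2 (a.1 v) v ha
    have h2 : a⁻¹.1 (a.1 v) = v := by
      show (a⁻¹ * a).1 v = v
      rw [inv_mul_cancel]
      rfl
    rw [h2] at h1
    exact h1.symm

theorem mem_cst {v : leechLattice} {g : ↥Co0} : g ∈ cst v ↔ mk (g.1 v).1 = mk v.1 := Iff.rfl

theorem cst_congr {v w : leechLattice} (h : mk v.1 = mk w.1) : cst v = cst w := by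
  ext g
  rw [mem_cst, mem_cst]
  have h1 := cong_pres g.1 g.2 v w h
  constructor
  · intro h2
    exact h1.symm.trans (h2.trans h)
  · intro h2
    exact h1.trans (h2.trans h.symm)

theorem conj_mem_cst {v : leechLattice} (h g : ↥Co0) (hg : g ∈ cst v) :
    h * g * h⁻¹ ∈ cst (h.1 v) := by
  rw [mem_cst] at hg ⊢
  have h1 : (h * g * h⁻¹).1 (h.1 v) = h.1 (g.1 v) := by
    have h2 : h⁻¹.1 (h.1 v) = v := by
      show (h⁻¹ * h).1 v = v
      rw [inv_mul_cancel]
      rfl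
    show h.1 (g.1 (h⁻¹.1 (h.1 v))) = h.1 (g.1 v)
    rw [h2]
  rw [h1]
  exact cong_pres h.1 h.2 (g.1 v) v hg

theorem mem_cst_E {g : ↥Co0} : g ∈ cst (E none) ↔ P g := by
  constructor
  · intro hg
    have h1 : mk (g.1 (E none)).1 = mk ((1 : ↥Co0).1 (E none)).1 := hg
    have h2 := P_of_cong g 1 h1
    rwa [inv_one, one_mul] at h2
  · intro hg
    exact cong_of_P g hg

/-! ### sign changes -/

theorem empty_code' : (∅ : Finset GolayPt) ∈ Code := by
  rw [mem_Code_iff, Cfsg.Agent.Lib.Helper4.Leech.ind_empty]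
  exact golayCode.zero_mem

theorem univ_code' : (univ : Finset GolayPt) ∈ Code := by
  rw [mem_Code_iff, Cfsg.Agent.Lib.Helper4.Leech.ind_univ]
  exact Cfsg.Agent.Lib.Helper4.Leech.one_mem_golay

theorem eps_mul' (c c' : Finset GolayPt) (hc : c ∈ Code) (hc' : c' ∈ Code) :
    eps c hc * eps c' hc' = eps (c ∆ c') (symmDiff_mem_Code hc hc') := by
  apply Equiv.ext
  intro v
  apply Subtype.ext
  funext i
  show (if i ∈ c then -(if i ∈ c' then -v.1 i else v.1 i) else (if i ∈ c' then -v.1 i else v.1 i))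
    = if i ∈ c ∆ c' then -v.1 i else v.1 i
  by_cases h1 : i ∈ c <;> by_cases h2 : i ∈ c' <;> simp [Finset.mem_symmDiff, h1, h2]

theorem eps_sq' (c : Finset GolayPt) (hc : c ∈ Code) : eps c hc * eps c hc = 1 := by
  apply Equiv.ext
  intro v
  apply Subtype.ext
  funext i
  show (if i ∈ c then -(if i ∈ c then -v.1 i else v.1 i) else (if i ∈ c then -v.1 i else v.1 i))
    = v.1 i
  by_cases h1 : i ∈ c <;> simp [h1]

theorem eps_empty' : eps ∅ empty_code' = 1 := by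
  apply Equiv.ext
  intro v
  apply Subtype.ext
  funext i
  show (if i ∈ (∅ : Finset GolayPt) then -v.1 i else v.1 i) = v.1 i
  simp

theorem eps_univ' : eps univ univ_code' = neg1 := by
  apply Equiv.ext
  intro v
  apply Subtype.ext
  funext i
  show (if i ∈ (univ : Finset GolayPt) then -v.1 i else v.1 i) = -v.1 i
  simp

theorem smul_mem_Code' {σ : Equiv.Perm GolayPt} (hσ : σ ∈ M24) {c : Finset GolayPt}
    (hc : c ∈ Code) : σ • c ∈ Code := by
  have ht' : σ • Code = Code := MulAction.mem_stabilizer_iff.mp hσ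
  rw [← ht']
  exact Set.smul_mem_smul_set hc

theorem prm_eps' (σ : Equiv.Perm GolayPt) (hσ : σ ∈ M24) (c : Finset GolayPt) (hc : c ∈ Code) :
    prm σ hσ * eps c hc = eps (σ • c) (smul_mem_Code' hσ hc) * prm σ hσ := by
  apply Equiv.ext
  intro v
  apply Subtype.ext
  funext i
  show (if σ.symm i ∈ c then -v.1 (σ.symm i) else v.1 (σ.symm i))
    = if i ∈ σ • c then -v.1 (σ.symm i) else v.1 (σ.symm i)
  have hi : i ∈ σ • c ↔ σ.symm i ∈ c := by
    have := Cfsg.Agent.Lib.Helper9.M24X1.smul_mem_iff σ (σ.symm i) c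
    rw [Equiv.apply_symm_apply] at this
    exact this
  by_cases h1 : σ.symm i ∈ c
  · rw [if_pos h1, if_pos (hi.mpr h1)]
  · rw [if_neg h1, if_neg (fun h2 => h1 (hi.mp h2))]

theorem prm_mul' (σ τ : Equiv.Perm GolayPt) (hσ : σ ∈ M24) (hτ : τ ∈ M24) :
    prm σ hσ * prm τ hτ = prm (σ * τ) (M24.mul_mem hσ hτ) := by
  apply Equiv.ext
  intro v
  apply Subtype.ext
  funext i
  rfl

theorem prm_one' : prm 1 M24.one_mem = 1 := by
  apply Equiv.ext
  intro v
  apply Subtype.ext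
  funext i
  rfl

/-- a sign change as an element of the automorphism group -/
def epsC (c : ↥Code) : ↥Co0 := ⟨eps c.1 c.2, eps_mem c.1 c.2⟩

theorem epsC_mul (c c' : ↥Code) :
    epsC c * epsC c' = epsC ⟨c.1 ∆ c'.1, symmDiff_mem_Code c.2 c'.2⟩ :=
  Subtype.ext (eps_mul' c.1 c'.1 c.2 c'.2)

theorem epsC_sq (c : ↥Code) : epsC c * epsC c = 1 := Subtype.ext (eps_sq' c.1 c.2)

theorem epsC_inv (c : ↥Code) : (epsC c)⁻¹ = epsC c := inv_eq_of_mul_eq_one_left (epsC_sq c)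

theorem epsC_empty : epsC ⟨∅, empty_code'⟩ = 1 := Subtype.ext eps_empty'

theorem epsC_univ : epsC ⟨univ, univ_code'⟩ = negOne := Subtype.ext eps_univ'

theorem epsC_comm (c c' : ↥Code) : epsC c * epsC c' = epsC c' * epsC c := by
  rw [epsC_mul, epsC_mul]
  congr 2
  exact symmDiff_comm _ _

/-- coordinate permutations as a homomorphism -/
def permHom : ↥M24 →* ↥Co0 where
  toFun σ := ⟨prm σ.1 σ.2, prm_mem σ.1 σ.2⟩
  map_one' := Subtype.ext prm_one'
  map_mul' σ τ := Subtype.ext (prm_mul' σ.1 τ.1 σ.2 τ.2).symm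

theorem permHom_val (σ : ↥M24) : (permHom σ).1 = prm σ.1 σ.2 := rfl

theorem mono_eq (σ : ↥M24) (c : ↥Code) :
    (⟨mono σ.1 σ.2 c.1 c.2, mono_mem σ.1 σ.2 c.1 c.2⟩ : ↥Co0) = epsC c * permHom σ := rfl

theorem eq_of_mono_eq {σ σ' : ↥M24} {c c' : ↥Code}
    (h : epsC c * permHom σ = epsC c' * permHom σ') : σ = σ' ∧ c = c' := by
  have h1 : mono σ.1 σ.2 c.1 c.2 = mono σ'.1 σ'.2 c'.1 c'.2 :=
    congrArg (fun x : ↥Co0 => x.1) h
  obtain ⟨h2, h3⟩ := mono_inj h1
  exact ⟨Subtype.ext h2, Subtype.ext h3⟩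

theorem epsC_injective : Function.Injective epsC := by
  intro c c' h
  have h1 : epsC c * permHom 1 = epsC c' * permHom 1 := by rw [h]
  exact (eq_of_mono_eq h1).2

theorem permHom_injective : Function.Injective permHom := by
  intro σ σ' h
  have h1 : epsC ⟨∅, empty_code'⟩ * permHom σ = epsC ⟨∅, empty_code'⟩ * permHom σ' := by rw [h]
  exact (eq_of_mono_eq h1).1

theorem perm_conj_eps (σ : ↥M24) (c : ↥Code) :
    permHom σ * epsC c * (permHom σ)⁻¹ = epsC ⟨σ.1 • c.1, smul_mem_Code' σ.2 c.2⟩ := by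
  have h1 : permHom σ * epsC c = epsC ⟨σ.1 • c.1, smul_mem_Code' σ.2 c.2⟩ * permHom σ :=
    Subtype.ext (prm_eps' σ.1 σ.2 c.1 c.2)
  rw [h1, mul_assoc, mul_inv_cancel, mul_one]

/-- the group of sign changes -/
def D0 : Subgroup ↥Co0 where
  carrier := Set.range epsC
  one_mem' := ⟨⟨∅, empty_code'⟩, epsC_empty⟩
  mul_mem' := by
    rintro _ _ ⟨c, rfl⟩ ⟨c', rfl⟩
    exact ⟨_, (epsC_mul c c').symm⟩
  inv_mem' := by
    rintro _ ⟨c, rfl⟩
    exact ⟨c, (epsC_inv c).symm⟩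

theorem mem_D0 {g : ↥Co0} : g ∈ D0 ↔ ∃ c : ↥Code, epsC c = g := Iff.rfl

theorem epsC_mem (c : ↥Code) : epsC c ∈ D0 := ⟨c, rfl⟩

theorem negOne_mem_D0 : negOne ∈ D0 := ⟨_, epsC_univ⟩

theorem card_D0 : Nat.card ↥D0 = 4096 := by
  rw [← card_Code]
  refine (Nat.card_congr (Equiv.ofBijective (fun c : ↥Code => (⟨epsC c, epsC_mem c⟩ : ↥D0))
    ⟨?_, ?_⟩)).symm
  · intro c c' h
    exact epsC_injective (congrArg Subtype.val h)
  · rintro ⟨g, c, rfl⟩
    exact ⟨c, rfl⟩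

theorem D0_comm (a b : ↥Co0) (ha : a ∈ D0) (hb : b ∈ D0) : a * b = b * a := by
  obtain ⟨c, rfl⟩ := ha
  obtain ⟨c', rfl⟩ := hb
  exact epsC_comm c c'

theorem D0_sq (a : ↥Co0) (ha : a ∈ D0) : a * a = 1 := by
  obtain ⟨c, rfl⟩ := ha
  exact epsC_sq c

/-! ### the monomial group -/

theorem P_eps_perm (c : ↥Code) (σ : ↥M24) : P (epsC c * permHom σ) := mono_P σ.1 σ.2 c.1 c.2

theorem exists_of_P (g : ↥Co0) (hg : P g) : ∃ (c : ↥Code) (σ : ↥M24), g = epsC c * permHom σ := by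
  obtain ⟨σ, hσ, c, hc, h⟩ := mono_of_P g hg
  exact ⟨⟨c, hc⟩, ⟨σ, hσ⟩, Subtype.ext h⟩

theorem D0_le : D0 ≤ cst (E none) := by
  rintro _ ⟨c, rfl⟩
  rw [mem_cst_E]
  have := P_eps_perm c 1
  rwa [map_one, mul_one] at this

theorem perm_mem_cst (σ : ↥M24) : permHom σ ∈ cst (E none) := by
  rw [mem_cst_E]
  have := P_eps_perm ⟨∅, empty_code'⟩ σ
  rwa [epsC_empty, one_mul] at this

theorem conj_mem_D0 (g d : ↥Co0) (hg : g ∈ cst (E none)) (hd : d ∈ D0) : g * d * g⁻¹ ∈ D0 := by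
  obtain ⟨c, σ, rfl⟩ := exists_of_P g (mem_cst_E.mp hg)
  obtain ⟨c', rfl⟩ := hd
  have h1 : epsC c * permHom σ * epsC c' * (epsC c * permHom σ)⁻¹ =
      epsC c * (permHom σ * epsC c' * (permHom σ)⁻¹) * (epsC c)⁻¹ := by group
  rw [h1, perm_conj_eps]
  exact D0.mul_mem (D0.mul_mem (epsC_mem _) (epsC_mem _)) (D0.inv_mem (epsC_mem _))

end Cfsg.Agent.Lib.Helper1.MTMono
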