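import Cfsg.Agent.Lib.Helper1.MTMono

set_option autoImplicit false

/-! Monster type, the side of the lattice, continued: modulo the centre, the stabilizer of a class of
vectors of squared length 64 is a split extension of an elementary abelian group of order `2 ^ 11`
by `M24`, and the former contains every normal 2-subgroup. -/

namespace Cfsg.Agent.Lib.Helper1.MTMono

open scoped symmDiff Pointwise
open Cfsg Finset Cfsg.Agent.Lib.Helper9.LeechM1 Cfsg.Agent.Lib.Helper9.LeechM2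
  Cfsg.Agent.Lib.Helper9.LeechM4 Cfsg.Agent.Lib.Helper9.LeechX12
open Cfsg.Agent.Lib.Helper9.LeechC8 (mk mk_eq_iff)

/-! ### an abstract lemma on normal 2-subgroups of a split extension by a simple group -/

theorem le_of_normal_two {H : Type*} [Group H] (X D K E : Subgroup H)
    (hKX : K ≤ X) (hEX : E ≤ X)
    (hdec : ∀ x ∈ X, ∃ d ∈ D, ∃ k ∈ K, x = d * k)
    (hDK : D ⊓ K = ⊥)
    (hDn : ∀ x ∈ X, ∀ y ∈ D, x * y * x⁻¹ ∈ D)
    (hEn : ∀ x ∈ X, ∀ y ∈ E, x * y * x⁻¹ ∈ E)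
    (hE2 : IsPGroup 2 E) (hK : IsSimpleGroup K) (hKn2 : ¬ IsPGroup 2 K) : E ≤ D := by
  have hD'n : (D.subgroupOf X).Normal := ⟨fun y hy x => by
    rw [Subgroup.mem_subgroupOf] at hy ⊢
    exact hDn x.1 x.2 y.1 hy⟩
  have hE'n : (E.subgroupOf X).Normal := ⟨fun y hy x => by
    rw [Subgroup.mem_subgroupOf] at hy ⊢
    exact hEn x.1 x.2 y.1 hy⟩
  let f : K →* X ⧸ D.subgroupOf X := (QuotientGroup.mk' (D.subgroupOf X)).comp (Subgroup.inclusion hKX)
  have hf_inj : Function.Injective f := by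
    rw [injective_iff_map_eq_one]
    intro k hk
    have h1 : Subgroup.inclusion hKX k ∈ D.subgroupOf X := (QuotientGroup.eq_one_iff _).mp hk
    have h2 : (k : H) ∈ D ⊓ K := ⟨Subgroup.mem_subgroupOf.mp h1, k.2⟩
    rw [hDK, Subgroup.mem_bot] at h2
    exact Subtype.ext h2
  have hf_surj : Function.Surjective f := by
    intro y
    obtain ⟨x, rfl⟩ := QuotientGroup.mk_surjective y
    obtain ⟨d, hd, k, hk, hx⟩ := hdec x.1 x.2
    refine ⟨⟨k, hk⟩, ?_⟩
    show (QuotientGroup.mk (Subgroup.inclusion hKX ⟨k, hk⟩) : X ⧸ D.subgroupOf X) = QuotientGroup.mk x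
    rw [QuotientGroup.eq, Subgroup.mem_subgroupOf]
    have h3 : (((Subgroup.inclusion hKX ⟨k, hk⟩)⁻¹ * x : X) : H) = k⁻¹ * d * (k⁻¹)⁻¹ := by
      show k⁻¹ * (x : H) = k⁻¹ * d * (k⁻¹)⁻¹
      rw [hx]
      group
    rw [h3]
    exact hDn k⁻¹ (X.inv_mem (hKX hk)) d hd
  have : Nontrivial K := hK.toNontrivial
  have : Nontrivial (X ⧸ D.subgroupOf X) := hf_inj.nontrivial
  have : IsSimpleGroup (X ⧸ D.subgroupOf X) := IsSimpleGroup.isSimpleGroup_of_surjective f hf_surj
  have hMn : ((E.subgroupOf X).map (QuotientGroup.mk' (D.subgroupOf X))).Normal :=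
    hE'n.map _ (QuotientGroup.mk'_surjective _)
  rcases hMn.eq_bot_or_eq_top with hM | hM
  · intro x hx
    have h1 : (QuotientGroup.mk' (D.subgroupOf X)) ⟨x, hEX hx⟩ ∈
        (E.subgroupOf X).map (QuotientGroup.mk' (D.subgroupOf X)) :=
      Subgroup.mem_map_of_mem _ (Subgroup.mem_subgroupOf.mpr hx)
    rw [hM, Subgroup.mem_bot] at h1
    have h2 : (⟨x, hEX hx⟩ : X) ∈ D.subgroupOf X := (QuotientGroup.eq_one_iff _).mp h1
    exact Subgroup.mem_subgroupOf.mp h2
  · exfalso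
    apply hKn2
    intro k
    have h1 : f k ∈ (E.subgroupOf X).map (QuotientGroup.mk' (D.subgroupOf X)) := by
      rw [hM]
      exact Subgroup.mem_top _
    obtain ⟨y, hy, hyk⟩ := h1
    obtain ⟨n, hn⟩ := hE2 ⟨y.1, Subgroup.mem_subgroupOf.mp hy⟩
    refine ⟨n, ?_⟩
    apply hf_inj
    rw [map_pow, map_one, ← hyk, ← map_pow]
    have h2 : y ^ 2 ^ n = 1 := by
      apply Subtype.ext
      have := congrArg Subtype.val hn
      simpa using this
    rw [h2, map_one]

/-! ### the structure predicate and its transport -/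

/-- `X` is the split extension of the elementary abelian group `D` of order `2 ^ 11`, containing
every 2-subgroup normalized by `X`, by the copy `K` of `M24` -/
def SplitBy {H : Type*} [Group H] (X D K : Subgroup H) : Prop :=
  D ≤ X ∧ K ≤ X ∧ (∀ x ∈ X, ∀ y ∈ D, x * y * x⁻¹ ∈ D) ∧
    IsElementaryAbelian 2 D ∧ Nat.card D = 2 ^ 11 ∧ D ⊓ K = ⊥ ∧ D ⊔ K = X ∧
    Nonempty (K ≃* M24) ∧
    ∀ E : Subgroup H, E ≤ X → IsPGroup 2 E → (∀ x ∈ X, ∀ y ∈ E, x * y * x⁻¹ ∈ E) → E ≤ D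

/-- `X` is a split extension of an elementary abelian group of order `2 ^ 11`, containing every
2-subgroup normalized by `X`, by a copy of `M24` -/
def Split {H : Type*} [Group H] (X : Subgroup H) : Prop := ∃ D K : Subgroup H, SplitBy X D K

theorem SplitBy.map {H H' : Type*} [Group H] [Group H'] (α : H ≃* H') {X D K : Subgroup H}
    (h : SplitBy X D K) :
    SplitBy (X.map α.toMonoidHom) (D.map α.toMonoidHom) (K.map α.toMonoidHom) := by
  obtain ⟨hDX, hKX, hDn, ⟨hDc, hDsq⟩, hDcard, hDK, hsup, ⟨κ⟩, hE⟩ := h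
  have hinj : Function.Injective α.toMonoidHom := α.injective
  refine ⟨Subgroup.map_mono hDX, Subgroup.map_mono hKX,
    ?_, ⟨?_, ?_⟩, ?_, ?_, ?_, ⟨?_⟩, ?_⟩
  · rintro _ ⟨x, hx, rfl⟩ _ ⟨y, hy, rfl⟩
    refine ⟨x * y * x⁻¹, hDn x hx y hy, ?_⟩
    simp
  · refine ⟨⟨fun a b => ?_⟩⟩
    obtain ⟨a, x, hx, rfl⟩ := a
    obtain ⟨b, y, hy, rfl⟩ := b
    apply Subtype.ext
    show α.toMonoidHom x * α.toMonoidHom y = α.toMonoidHom y * α.toMonoidHom x
    have h1 : (⟨x, hx⟩ : D) * ⟨y, hy⟩ = ⟨y, hy⟩ * ⟨x, hx⟩ := hDc.is_comm.comm _ _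
    have h2 : x * y = y * x := congrArg Subtype.val h1
    rw [← map_mul, h2, map_mul]
  · rintro _ ⟨x, hx, rfl⟩
    rw [← map_pow, hDsq x hx, map_one]
  · rw [← hDcard]
    exact (Nat.card_congr (D.equivMapOfInjective α.toMonoidHom hinj).toEquiv).symm
  · rw [← Subgroup.map_inf _ _ _ hinj, hDK, Subgroup.map_bot]
  · rw [← Subgroup.map_sup, hsup]
  · exact (K.equivMapOfInjective α.toMonoidHom hinj).symm.trans κ
  · intro E hEX hE2 hEn
    have h1 : E.comap α.toMonoidHom ≤ D := by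
      apply hE
      · intro x hx
        obtain ⟨y, hy, hyx⟩ := hEX (Subgroup.mem_comap.mp hx)
        rw [← hinj hyx]
        exact hy
      · exact hE2.comap_of_injective _ hinj
      · intro x hx y hy
        rw [Subgroup.mem_comap] at hy ⊢
        rw [map_mul, map_mul, map_inv]
        exact hEn _ (Subgroup.mem_map_of_mem _ hx) _ hy
    intro y hy
    obtain ⟨x, rfl⟩ := α.surjective y
    exact Subgroup.mem_map_of_mem _ (h1 (Subgroup.mem_comap.mpr hy))

theorem Split.map {H H' : Type*} [Group H] [Group H'] (α : H ≃* H') {X : Subgroup H}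
    (h : Split X) : Split (X.map α.toMonoidHom) := by
  obtain ⟨D, K, h⟩ := h
  exact ⟨_, _, h.map α⟩

end Cfsg.Agent.Lib.Helper1.MTMono
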