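import Cfsg.Agent.Lib.Helper1.MTSplit

set_option autoImplicit false

/-! Monster type, the side of the lattice, the structure theorem: for a lattice vector `v` of squared
length 64 the image in the first Conway group of the stabilizer of the class of `v` is split. -/

namespace Cfsg.Agent.Lib.Helper1.MTMono

open scoped symmDiff Pointwise
open Cfsg Finset Cfsg.Agent.Lib.Helper9.LeechM1 Cfsg.Agent.Lib.Helper9.LeechM2
  Cfsg.Agent.Lib.Helper9.LeechM4 Cfsg.Agent.Lib.Helper9.LeechX12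
open Cfsg.Agent.Lib.Helper9.LeechC8 (mk mk_eq_iff)
open Cfsg.Agent.Lib.Helper9.LeechX6 (mem_Code_iff symmDiff_mem_Code)

/-- the quotient map onto the first Conway group -/
def pi1 : ↥Co0 →* Spor.Co1 := QuotientGroup.mk' (Subgroup.center ↥Co0)

theorem pi1_ker : pi1.ker = Subgroup.center ↥Co0 := QuotientGroup.ker_mk' _

theorem pi1_eq_one_iff (g : ↥Co0) : pi1 g = 1 ↔ g = 1 ∨ g = negOne := by
  rw [← MonoidHom.mem_ker, pi1_ker]
  constructor
  · exact central_eq g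
  · rintro (rfl | rfl)
    · exact Subgroup.one_mem _
    · exact negOne_mem_center

theorem pi1_eq_iff (a b : ↥Co0) : pi1 a = pi1 b ↔ a = b ∨ a = negOne * b := by
  have h1 : pi1 a = pi1 b ↔ pi1 (a * b⁻¹) = 1 := by
    rw [map_mul, map_inv, mul_inv_eq_one]
  rw [h1, pi1_eq_one_iff, mul_inv_eq_one, mul_inv_eq_iff_eq_mul]

theorem card_D4 : Nat.card ↥(D0.map pi1) = 2 ^ 11 := by
  have : Finite ↥Co0 := Cfsg.Agent.Lib.Helper9.MTc.finite_Co0
  have h1 := Cfsg.Agent.Lib.Helper9.MTc.card_eq_inf_ker_mul_map pi1 D0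
  have h2 : D0 ⊓ pi1.ker = Subgroup.center ↥Co0 := by
    rw [pi1_ker]
    apply inf_eq_right.mpr
    intro g hg
    rcases central_eq g hg with rfl | rfl
    · exact D0.one_mem
    · exact negOne_mem_D0
  rw [h2, card_center, card_D0] at h1
  omega

theorem pi1_perm_injective : Function.Injective (pi1.comp permHom) := by
  rw [injective_iff_map_eq_one]
  intro σ hσ
  have h1 : pi1 (permHom σ) = 1 := hσ
  rcases (pi1_eq_one_iff _).mp h1 with h | h
  · exact permHom_injective (h.trans (map_one permHom).symm)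
  · exfalso
    have h2 : epsC ⟨∅, empty_code'⟩ * permHom σ = epsC ⟨univ, univ_code'⟩ * permHom 1 := by
      rw [epsC_empty, one_mul, h, epsC_univ, map_one, mul_one]
    have h3 := (eq_of_mono_eq h2).2
    have h4 : (∅ : Finset GolayPt) = univ := congrArg Subtype.val h3
    exact (Finset.univ_nonempty (α := GolayPt)).ne_empty h4.symm

theorem D4_inf_K4 : D0.map pi1 ⊓ (pi1.comp permHom).range = ⊥ := by
  rw [eq_bot_iff]
  rintro y ⟨⟨d, hd, rfl⟩, ⟨σ, hσ⟩⟩
  rw [Subgroup.mem_bot]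
  obtain ⟨c, rfl⟩ := hd
  have h1 : pi1 (permHom σ) = pi1 (epsC c) := hσ
  rcases (pi1_eq_iff _ _).mp h1 with h | h
  · have h2 : epsC ⟨∅, empty_code'⟩ * permHom σ = epsC c * permHom 1 := by
      rw [epsC_empty, one_mul, h, map_one, mul_one]
    have h3 := (eq_of_mono_eq h2).1
    rw [← h1, h3, map_one, map_one]
  · have h2 : epsC ⟨∅, empty_code'⟩ * permHom σ =
        epsC ⟨univ ∆ c.1, symmDiff_mem_Code univ_code' c.2⟩ * permHom 1 := by
      rw [epsC_empty, one_mul, h, ← epsC_univ, epsC_mul, map_one, mul_one]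
    have h3 := (eq_of_mono_eq h2).1
    rw [← h1, h3, map_one, map_one]

theorem K4_le : (pi1.comp permHom).range ≤ (cst (E none)).map pi1 := by
  rintro _ ⟨σ, rfl⟩
  exact Subgroup.mem_map_of_mem _ (perm_mem_cst σ)

theorem X4_dec : ∀ x ∈ (cst (E none)).map pi1, ∃ d ∈ D0.map pi1,
    ∃ k ∈ (pi1.comp permHom).range, x = d * k := by
  rintro _ ⟨g, hg, rfl⟩
  obtain ⟨c, σ, rfl⟩ := exists_of_P g (mem_cst_E.mp hg)
  exact ⟨pi1 (epsC c), Subgroup.mem_map_of_mem _ (epsC_mem c), pi1 (permHom σ), ⟨σ, rfl⟩,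
    map_mul _ _ _⟩

theorem D4_normal : ∀ x ∈ (cst (E none)).map pi1, ∀ y ∈ D0.map pi1, x * y * x⁻¹ ∈ D0.map pi1 := by
  rintro _ ⟨g, hg, rfl⟩ _ ⟨d, hd, rfl⟩
  refine ⟨g * d * g⁻¹, conj_mem_D0 g d hg hd, ?_⟩
  rw [map_mul, map_mul, map_inv]

theorem not_two_M24 : ¬ IsPGroup 2 ↥M24 := by
  intro h
  obtain ⟨n, hn⟩ := (IsPGroup.iff_card).mp h
  rw [Cfsg.Agent.Lib.Helper9.M24T4.card_M24] at hn
  have h3 : 3 ∣ 2 ^ n := ⟨81607680, by rw [← hn]⟩
  have := Nat.Prime.dvd_of_dvd_pow Nat.prime_three h3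
  omega

/-- the structure of the stabilizer of the standard class -/
theorem splitBy_E : SplitBy ((cst (E none)).map pi1) (D0.map pi1) (pi1.comp permHom).range := by
  have hKiso : ↥M24 ≃* (pi1.comp permHom).range := MonoidHom.ofInjective pi1_perm_injective
  refine ⟨Subgroup.map_mono D0_le, K4_le, D4_normal,
    ⟨?_, ?_⟩, card_D4, D4_inf_K4, ?_, ⟨hKiso.symm⟩, ?_⟩
  · refine ⟨⟨fun a b => ?_⟩⟩
    obtain ⟨a, x, hx, rfl⟩ := a
    obtain ⟨b, y, hy, rfl⟩ := b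
    apply Subtype.ext
    show pi1 x * pi1 y = pi1 y * pi1 x
    rw [← map_mul, D0_comm x y hx hy, map_mul]
  · rintro _ ⟨x, hx, rfl⟩
    rw [← map_pow, pow_two, D0_sq x hx, map_one]
  · apply le_antisymm
    · exact sup_le (Subgroup.map_mono D0_le) K4_le
    · intro x hx
      obtain ⟨d, hd, k, hk, rfl⟩ := X4_dec x hx
      exact Subgroup.mul_mem_sup hd hk
  · intro E hEX hE2 hEn
    have hK : IsSimpleGroup (pi1.comp permHom).range := by
      have := Cfsg.Agent.Lib.Helper9.M24Q4.m24_simple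
      exact hKiso.symm.isSimpleGroup
    have hKn2 : ¬ IsPGroup 2 (pi1.comp permHom).range := fun h =>
      not_two_M24 (h.of_equiv hKiso.symm)
    exact le_of_normal_two _ _ _ E K4_le hEX X4_dec D4_inf_K4 D4_normal hEn hE2 hK hKn2

/-- the structure of the stabilizer of the class of any vector of squared length 64 -/
theorem split64 (v : leechLattice) (hv : sqNorm v.1 = 64) : Split ((cst v).map pi1) := by
  obtain ⟨h, hh, hhv⟩ := Cfsg.Agent.Lib.Helper9.LeechX11.trans64 (E none) v (sqNorm_E none) hv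
  have key : (cst v).map pi1 =
      ((cst (E none)).map pi1).map (MulAut.conj (pi1 ⟨h, hh⟩)).toMonoidHom := by
    ext y
    constructor
    · rintro ⟨g, hg, rfl⟩
      refine ⟨pi1 ((⟨h, hh⟩ : ↥Co0)⁻¹ * g * ⟨h, hh⟩), Subgroup.mem_map_of_mem _ ?_, ?_⟩
      · have h1 := conj_mem_cst (⟨h, hh⟩ : ↥Co0)⁻¹ g hg
        have h2 : ((⟨h, hh⟩ : ↥Co0)⁻¹).1 v = E none := by
          rw [← hhv]
          show ((⟨h, hh⟩ : ↥Co0)⁻¹ * ⟨h, hh⟩).1 (E none) = E none
          rw [inv_mul_cancel]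
          rfl
        rw [h2, inv_inv] at h1
        exact h1
      · show pi1 ⟨h, hh⟩ * pi1 ((⟨h, hh⟩ : ↥Co0)⁻¹ * g * ⟨h, hh⟩) * (pi1 ⟨h, hh⟩)⁻¹ = pi1 g
        rw [map_mul, map_mul, map_inv]
        group
    · rintro ⟨_, ⟨g, hg, rfl⟩, rfl⟩
      refine ⟨⟨h, hh⟩ * g * (⟨h, hh⟩ : ↥Co0)⁻¹, ?_, ?_⟩
      · have h1 := conj_mem_cst (⟨h, hh⟩ : ↥Co0) g hg
        have h2 : (⟨h, hh⟩ : ↥Co0).1 (E none) = v := hhv
        rwa [h2] at h1
      · show pi1 (⟨h, hh⟩ * g * (⟨h, hh⟩ : ↥Co0)⁻¹) = pi1 ⟨h, hh⟩ * pi1 g * (pi1 ⟨h, hh⟩)⁻¹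
        rw [map_mul, map_mul, map_inv]
  rw [key]
  exact Split.map _ ⟨_, _, splitBy_E⟩

end Cfsg.Agent.Lib.Helper1.MTMono
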