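import Mathlib
import Cfsg.Agent.Lib.Helper1.MaxInter
import Cfsg.Agent.Lib.Helper1.SupersolvableHall
set_option autoImplicit false
universe u v
open scoped Pointwise
namespace Cfsg.Agent.Lib.Helper1
variable {G : Type u} [Group G]

/-- weak closure of `Z` in `T` with respect to `G`. -/
def weakClosureIn (Z T : Subgroup G) : Subgroup G :=
  ⨆ g ∈ {g : G | MulAut.conj g • Z ≤ T}, MulAut.conj g • Z

theorem weakClosureIn_le (Z T : Subgroup G) : weakClosureIn Z T ≤ T := iSup₂_le (fun _ hg => hg)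

theorem le_weakClosureIn {Z T : Subgroup G} {g : G} (h : MulAut.conj g • Z ≤ T) :
    MulAut.conj g • Z ≤ weakClosureIn Z T :=
  le_iSup₂_of_le (f := fun (g : G) (_ : g ∈ {g : G | MulAut.conj g • Z ≤ T}) => MulAut.conj g • Z)
    g h le_rfl

theorem weakClosureIn_mono (Z : Subgroup G) {T T' : Subgroup G} (h : T ≤ T') :
    weakClosureIn Z T ≤ weakClosureIn Z T' := by
  apply iSup₂_le
  intro g hg
  exact le_weakClosureIn (le_trans hg h)

theorem conj_smul_weakClosureIn_le (Z T : Subgroup G) (a : G) :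
    MulAut.conj a • weakClosureIn Z T ≤ weakClosureIn Z (MulAut.conj a • T) := by
  unfold weakClosureIn
  rw [conj_smul_eq_map, Subgroup.map_iSup]
  apply iSup_le
  intro g
  rw [Subgroup.map_iSup]
  apply iSup_le
  intro hg
  rw [← conj_smul_eq_map, smul_smul, ← map_mul]
  apply le_weakClosureIn
  rw [map_mul, mul_smul]
  exact Subgroup.pointwise_smul_le_pointwise_smul_iff.mpr hg


theorem matsuyama_weak_closure [Finite G] (p : ℕ) [Fact p.Prime] (Z Y : Subgroup G)
    (h : ∀ g : G, IsPGroup p ↥(⨆ y ∈ Y, MulAut.conj (y * g) • Z)) :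
    ∃ P : Sylow p G, Y ≤ Subgroup.normalizer ((weakClosureIn Z (P : Subgroup G) : Subgroup G) : Set G) := by
  classical
  obtain ⟨TT, hTT⟩ : ∃ TT : Set (Subgroup G), TT = {T : Subgroup G | IsPGroup p T ∧
      Y ≤ Subgroup.normalizer (T : Set G) ∧ weakClosureIn Z T = T} := ⟨_, rfl⟩
  have hbot : (⊥ : Subgroup G) ∈ TT := by
    rw [hTT]
    refine ⟨IsPGroup.of_bot, ?_, le_bot_iff.mp (weakClosureIn_le Z ⊥)⟩
    rw [Subgroup.normalizer_eq_top]
    exact le_top
  obtain ⟨T, -, hTmax⟩ := (Set.toFinite TT).exists_le_maximal hbot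
  have hTprop := hTmax.prop
  rw [hTT] at hTprop
  obtain ⟨hTp, hTY, hTw⟩ := hTprop
  obtain ⟨P, hTP⟩ := hTp.exists_le_sylow
  refine ⟨P, ?_⟩
  suffices hW : weakClosureIn Z P = T by
    rw [hW]; exact hTY
  by_contra hne
  obtain ⟨W, hW⟩ : ∃ W, W = weakClosureIn Z (P : Subgroup G) := ⟨_, rfl⟩
  have hTW : T ≤ W := by rw [hW, ← hTw]; exact weakClosureIn_mono Z hTP
  have hWP : W ≤ P := hW ▸ weakClosureIn_le Z P
  have hWW : weakClosureIn Z W = W := by
    apply le_antisymm (weakClosureIn_le Z W)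
    have : weakClosureIn Z (P : Subgroup G) ≤ weakClosureIn Z W := by
      apply iSup₂_le
      intro g hg
      apply le_weakClosureIn
      rw [hW]
      exact le_weakClosureIn hg
    rw [← hW] at this
    exact this
  obtain ⟨SS, hSS⟩ : ∃ SS : Set (Subgroup G), SS = {S : Subgroup G | T ≤ S ∧ S ≤ W ∧ weakClosureIn Z S ≤ T} :=
    ⟨_, rfl⟩
  have hTSS : T ∈ SS := by rw [hSS]; exact ⟨le_rfl, hTW, hTw.le⟩
  obtain ⟨T₁, hTT₁, hT₁max⟩ := (Set.toFinite SS).exists_le_maximal hTSS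
  have hT₁prop := hT₁max.prop
  rw [hSS] at hT₁prop
  obtain ⟨-, hT₁W, hT₁w⟩ := hT₁prop
  have hT₁ne : T₁ ≠ W := by
    intro h
    rw [h, hWW] at hT₁w
    exact hne (by rw [← hW]; exact le_antisymm hT₁w hTW)
  have hlt : T₁ < W := lt_of_le_of_ne hT₁W hT₁ne
  have hWnil : Group.IsNilpotent W := (P.2.to_le hWP).isNilpotent
  obtain ⟨x, hxW, hxN, hxT₁⟩ := exists_mem_normalizer_not_mem_of_lt hWnil hlt
  obtain ⟨S, hS⟩ : ∃ S, S = Subgroup.normalizer (T₁ : Set G) ⊓ W := ⟨_, rfl⟩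
  have hT₁S : T₁ ≤ S := by rw [hS]; exact le_inf Subgroup.le_normalizer hT₁W
  have hSnot : S ∉ SS := by
    intro hmem
    have := hT₁max.le_of_ge hmem hT₁S
    exact hxT₁ (this (by rw [hS]; exact ⟨hxN, hxW⟩))
  have hSw : ¬ weakClosureIn Z S ≤ T := by
    intro hle
    apply hSnot
    rw [hSS]
    exact ⟨hTT₁.trans hT₁S, by rw [hS]; exact inf_le_right, hle⟩
  have hex : ∃ g : G, MulAut.conj g • Z ≤ S ∧ ¬ MulAut.conj g • Z ≤ T := by
    by_contra hcon
    push Not at hcon
    exact hSw (iSup₂_le (fun g hg => hcon g hg))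
  obtain ⟨g, hgS, hgT⟩ := hex
  obtain ⟨X, hX⟩ : ∃ X, X = MulAut.conj g • Z := ⟨_, rfl⟩
  have hXN : X ≤ Subgroup.normalizer (T : Set G) := by
    intro z hz
    have hzS : z ∈ S := hgS (hX ▸ hz)
    have hzN : z ∈ Subgroup.normalizer (T₁ : Set G) := by
      rw [hS] at hzS; exact hzS.1
    have hzT₁ : MulAut.conj z • T₁ = T₁ := conj_smul_eq_of_mem_normalizer hzN
    have h1 : MulAut.conj z • T ≤ T := by
      calc MulAut.conj z • T = MulAut.conj z • weakClosureIn Z T := by rw [hTw]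
        _ ≤ weakClosureIn Z (MulAut.conj z • T) := conj_smul_weakClosureIn_le Z T z
        _ ≤ weakClosureIn Z (MulAut.conj z • T₁) :=
          weakClosureIn_mono Z (Subgroup.pointwise_smul_le_pointwise_smul_iff.mpr hTT₁)
        _ = weakClosureIn Z T₁ := by rw [hzT₁]
        _ ≤ T := hT₁w
    apply mem_normalizer_of_conj_smul_eq
    exact Subgroup.eq_of_le_of_card_ge h1 (by rw [card_conj_smul])
  obtain ⟨U, hU⟩ : ∃ U, U = ⨆ y ∈ Y, MulAut.conj (y * g) • Z := ⟨_, rfl⟩
  have hUp : IsPGroup p U := hU ▸ h g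
  have hUN : U ≤ Subgroup.normalizer (T : Set G) := by
    rw [hU]
    apply iSup₂_le
    intro y hy
    have h1 := conj_smul_le_normalizer_conj_smul y hXN
    rw [conj_smul_eq_of_mem_normalizer (hTY hy), hX, smul_smul, ← map_mul] at h1
    exact h1
  have hT'p : IsPGroup p (T ⊔ U : Subgroup G) := hTp.to_sup_of_normal_left' hUp hUN
  have hUY : ∀ y' ∈ Y, MulAut.conj y' • U ≤ U := by
    intro y' hy'
    have : MulAut.conj y' • (⨆ y ∈ Y, MulAut.conj (y * g) • Z) ≤ U := by
      rw [conj_smul_eq_map, Subgroup.map_iSup]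
      apply iSup_le
      intro y
      rw [Subgroup.map_iSup]
      apply iSup_le
      intro hy
      rw [← conj_smul_eq_map, smul_smul, ← map_mul, ← mul_assoc, hU]
      exact le_iSup₂_of_le (f := fun (y : G) (_ : y ∈ Y) => MulAut.conj (y * g) • Z) (y' * y)
        (Y.mul_mem hy' hy) le_rfl
    rw [← hU] at this
    exact this
  have hT'Y : Y ≤ Subgroup.normalizer ((T ⊔ U : Subgroup G) : Set G) := by
    intro y' hy'
    apply mem_normalizer_of_conj_smul_eq
    apply Subgroup.eq_of_le_of_card_ge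
    · rw [Subgroup.smul_sup]
      exact sup_le_sup (conj_smul_eq_of_mem_normalizer (hTY hy')).le (hUY y' hy')
    · rw [card_conj_smul]
  have hXU : ∀ y ∈ Y, MulAut.conj (y * g) • Z ≤ U := by
    intro y hy
    rw [hU]
    exact le_iSup₂_of_le (f := fun (y : G) (_ : y ∈ Y) => MulAut.conj (y * g) • Z) y hy le_rfl
  have hT'w : weakClosureIn Z (T ⊔ U) = T ⊔ U := by
    apply le_antisymm (weakClosureIn_le _ _)
    apply sup_le
    · calc T = weakClosureIn Z T := hTw.symm
        _ ≤ _ := weakClosureIn_mono Z le_sup_left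
    · have : (⨆ y ∈ Y, MulAut.conj (y * g) • Z) ≤ weakClosureIn Z (T ⊔ U) := by
        apply iSup₂_le
        intro y hy
        exact le_weakClosureIn (le_trans (hXU y hy) le_sup_right)
      rw [← hU] at this
      exact this
  have hT'mem : T ⊔ U ∈ TT := by rw [hTT]; exact ⟨hT'p, hT'Y, hT'w⟩
  have hle := hTmax.le_of_ge hT'mem le_sup_left
  apply hgT
  have := hXU 1 Y.one_mem
  rw [one_mul] at this
  exact le_trans this (le_trans le_sup_right hle)

end Cfsg.Agent.Lib.Helper1
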