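import Mathlib
import Cfsg.Agent.Lib.Helper1.Hall
import Cfsg.Agent.Lib.Helper1.Nilpotent
import Cfsg.Agent.Lib.Helper1.MaxAbelianNormal
import Cfsg.Agent.Lib.Helper2.PGroupNormal

set_option autoImplicit false
open scoped commutatorElement
universe u
namespace Cfsg.Agent.Lib.Helper1
variable {G : Type u} [Group G]

theorem commutator_mem_of_index_p [Finite G] {p : ℕ} [hp : Fact p.Prime] (hG : IsPGroup p G)
    (A A₁ : Subgroup G) [hAn : A.Normal] [hA₁n : A₁.Normal] (hA₁A : A₁ ≤ A)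
    (hcard : Nat.card A = Nat.card A₁ * p) (g x : G) (hx : x ∈ A) : ⁅g, x⁆ ∈ A₁ := by
  obtain ⟨N, hN⟩ : ∃ N, N = A.map (QuotientGroup.mk' A₁) := ⟨_, rfl⟩
  have hNn : N.Normal := by rw [hN]; exact hAn.map _ (QuotientGroup.mk'_surjective A₁)
  have hNcard : Nat.card N = p := by
    have h1 : Nat.card (N.comap (QuotientGroup.mk' A₁)) = Nat.card A₁ * Nat.card N :=
      card_comap_mk' A₁ N
    have h0 : N.comap (QuotientGroup.mk' A₁) = A := by
      rw [hN, QuotientGroup.comap_map_mk', sup_of_le_right hA₁A]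
    rw [h0, hcard] at h1
    exact (Nat.eq_of_mul_eq_mul_left Nat.card_pos h1).symm
  have hnil : Group.IsNilpotent (G ⧸ A₁) := (hG.to_quotient A₁).isNilpotent
  have hNne : N ≠ ⊥ := by
    intro h
    rw [h, Subgroup.card_bot] at hNcard
    exact hp.out.one_lt.ne hNcard
  have hmeet := normal_inf_center_ne_bot N hNne
  have hle : N ≤ Subgroup.center (G ⧸ A₁) := by
    have h1 : Nat.card (N ⊓ Subgroup.center (G ⧸ A₁) : Subgroup (G ⧸ A₁)) ∣ p :=
      hNcard ▸ Subgroup.card_dvd_of_le inf_le_left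
    rcases (Nat.dvd_prime hp.out).mp h1 with h2 | h2
    · exact absurd (Subgroup.card_eq_one.mp h2) hmeet
    · have h3 : N ⊓ Subgroup.center (G ⧸ A₁) = N :=
        Subgroup.eq_of_le_of_card_ge inf_le_left (by rw [h2, hNcard])
      rw [← h3]; exact inf_le_right
  have hxN : (QuotientGroup.mk' A₁ x) ∈ N := by rw [hN]; exact Subgroup.mem_map_of_mem _ hx
  have hc := Subgroup.mem_center_iff.mp (hle hxN) (QuotientGroup.mk' A₁ g)
  rw [← QuotientGroup.eq_one_iff]
  have h1 : ((⁅g, x⁆ : G) : G ⧸ A₁) = ⁅(g : G ⧸ A₁), (x : G ⧸ A₁)⁆ := by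
    simp [commutatorElement_def]
  rw [h1, commutatorElement_eq_one_iff_mul_comm]
  exact hc

theorem relIndex_centralizer_step [Finite G] {p : ℕ} [hp : Fact p.Prime] (hG : IsPGroup p G)
    (A A₁ : Subgroup G) [hAn : A.Normal] [hA₁n : A₁.Normal] (hAc : IsMulCommutative A)
    (hA₁A : A₁ ≤ A) (a : ℕ) (hA : Nat.card A = p ^ (a + 1)) (hA₁ : Nat.card A₁ = p ^ a) :
    (Subgroup.centralizer (A : Set G)).relIndex (Subgroup.centralizer (A₁ : Set G)) ∣ p ^ a := by
  have hcard : Nat.card A = Nat.card A₁ * p := by rw [hA, hA₁, pow_succ]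
  have hcomm := commutator_mem_of_index_p hG A A₁ hA₁A hcard
  have hne : ¬ A ≤ A₁ := by
    intro h
    have h1 := Subgroup.card_le_of_le h
    rw [hA, hA₁, pow_succ] at h1
    have h2 : 0 < p ^ a := pow_pos hp.out.pos a
    have h3 := hp.out.one_lt
    nlinarith
  obtain ⟨a₀, ha₀A, ha₀⟩ := SetLike.not_le_iff_exists.mp hne
  obtain ⟨C, hC⟩ : ∃ C, C = Subgroup.centralizer (A₁ : Set G) := ⟨_, rfl⟩
  rw [← hC]
  have hAcomm : ∀ x ∈ A, ∀ y ∈ A, x * y = y * x := fun x hx y hy =>
    congrArg Subtype.val (mul_comm' (⟨x, hx⟩ : A) ⟨y, hy⟩)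
  let φ : C →* A₁ :=
    { toFun := fun g => ⟨⁅(g : G), a₀⁆, hcomm g a₀ ha₀A⟩
      map_one' := by
        apply Subtype.ext
        simp
      map_mul' := fun x y => by
        apply Subtype.ext
        have e : ⁅(x : G) * y, a₀⁆ = x * ⁅(y : G), a₀⁆ * (x : G)⁻¹ * ⁅(x : G), a₀⁆ := by
          simp only [commutatorElement_def]; group
        have hy1 : ⁅(y : G), a₀⁆ ∈ A₁ := hcomm y a₀ ha₀A
        have hx1 : ⁅(x : G), a₀⁆ ∈ A₁ := hcomm x a₀ ha₀A
        have hxC : (x : G) ∈ Subgroup.centralizer (A₁ : Set G) := hC ▸ x.2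
        have hc : ⁅(y : G), a₀⁆ * x = x * ⁅(y : G), a₀⁆ :=
          Subgroup.mem_centralizer_iff.mp hxC _ hy1
        show ⁅((x * y : C) : G), a₀⁆ = ⁅(x : G), a₀⁆ * ⁅(y : G), a₀⁆
        rw [Subgroup.coe_mul, e, ← hc, mul_inv_cancel_right]
        exact hAcomm _ (hA₁A hy1) _ (hA₁A hx1) }
  have hker : φ.ker = (Subgroup.centralizer (A : Set G)).subgroupOf C := by
    ext x
    rw [MonoidHom.mem_ker, Subgroup.mem_subgroupOf]
    constructor
    · intro hx
      have h1 : ⁅(x : G), a₀⁆ = 1 := congrArg Subtype.val hx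
      have h2 : (x : G) * a₀ = a₀ * x := commutatorElement_eq_one_iff_mul_comm.mp h1
      have hxC : (x : G) ∈ Subgroup.centralizer (A₁ : Set G) := hC ▸ x.2
      have hsup : Subgroup.zpowers a₀ ⊔ A₁ = A := by
        have hle : Subgroup.zpowers a₀ ⊔ A₁ ≤ A :=
          sup_le (Subgroup.zpowers_le.mpr ha₀A) hA₁A
        apply Subgroup.eq_of_le_of_card_ge hle
        have h3 : Nat.card (Subgroup.zpowers a₀ ⊔ A₁ : Subgroup G) ∣ p ^ (a + 1) :=
          hA ▸ Subgroup.card_dvd_of_le hle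
        obtain ⟨j, hj, hj'⟩ := (Nat.dvd_prime_pow hp.out).mp h3
        have hj2 : j = a + 1 := by
          by_contra hne'
          have : j ≤ a := by omega
          have h5 : p ^ j ≤ p ^ a := Nat.pow_le_pow_right hp.out.pos this
          have h6 : A₁ = Subgroup.zpowers a₀ ⊔ A₁ :=
            Subgroup.eq_of_le_of_card_ge le_sup_right (by rw [hj', hA₁]; exact h5)
          apply ha₀
          rw [h6]
          exact le_sup_left (a := Subgroup.zpowers a₀) (Subgroup.mem_zpowers a₀)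
        rw [hA, hj', hj2]
      have hle : Subgroup.zpowers a₀ ⊔ A₁ ≤ Subgroup.centralizer {(x : G)} := by
        apply sup_le
        · rw [Subgroup.zpowers_le, Subgroup.mem_centralizer_singleton_iff]
          exact h2.symm
        · intro y hy
          rw [Subgroup.mem_centralizer_singleton_iff]
          exact (Subgroup.mem_centralizer_iff.mp hxC y hy)
      rw [Subgroup.mem_centralizer_iff]
      intro y hy
      rw [← hsup] at hy
      exact (Subgroup.mem_centralizer_singleton_iff.mp (hle hy))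
    · intro hx
      apply Subtype.ext
      show ⁅(x : G), a₀⁆ = 1
      rw [commutatorElement_eq_one_iff_mul_comm]
      exact (Subgroup.mem_centralizer_iff.mp hx a₀ ha₀A).symm
  rw [Subgroup.relIndex, ← hker, Subgroup.index_ker]
  exact hA₁ ▸ Subgroup.card_subgroup_dvd_card φ.range

theorem index_centralizer_dvd [Finite G] {p : ℕ} [hp : Fact p.Prime] (hG : IsPGroup p G) :
    ∀ (a : ℕ) (A : Subgroup G), A.Normal → IsMulCommutative A → Nat.card A = p ^ a →
      (Subgroup.centralizer (A : Set G)).index ∣ p ^ (∑ i ∈ Finset.range a, i) := by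
  intro a
  induction a with
  | zero =>
    intro A _ _ hA
    rw [pow_zero] at hA
    have : A = ⊥ := Subgroup.card_eq_one.mp hA
    rw [this, Subgroup.coe_bot, Subgroup.centralizer_eq_top_iff_subset.mpr, Subgroup.index_top]
    · exact one_dvd _
    · intro x hx
      rw [Set.mem_singleton_iff.mp hx]
      exact Subgroup.one_mem _
  | succ a ih =>
    intro A hAn hAc hA
    have hdvd : p ^ a ∣ Nat.card A := by rw [hA]; exact pow_dvd_pow p (Nat.le_succ a)
    obtain ⟨A₁, hA₁A, hA₁n, hA₁⟩ := Cfsg.Agent.Lib.Helper2.exists_normal_le_card_eq_pow hG A hdvd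
    have hA₁c : IsMulCommutative A₁ :=
      ⟨⟨fun x y => by
        apply Subtype.ext
        have h := congrArg Subtype.val (mul_comm' (⟨x.1, hA₁A x.2⟩ : A) ⟨y.1, hA₁A y.2⟩)
        exact h⟩⟩
    have h1 := ih A₁ hA₁n hA₁c hA₁
    have h2 := relIndex_centralizer_step hG A A₁ hAc hA₁A a hA hA₁
    have hle : Subgroup.centralizer (A : Set G) ≤ Subgroup.centralizer (A₁ : Set G) :=
      Subgroup.centralizer_le hA₁A
    rw [← Subgroup.relIndex_mul_index hle, Finset.sum_range_succ, pow_add, mul_comm]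
    exact mul_dvd_mul h1 h2

theorem card_le_of_maximal_abelian_normal [Finite G] {p : ℕ} [hp : Fact p.Prime]
    (hG : IsPGroup p G) (A : Subgroup G) [hAn : A.Normal] (hA : IsMulCommutative A)
    (hmax : ∀ B : Subgroup G, B.Normal → IsMulCommutative B → A ≤ B → B = A)
    (a : ℕ) (ha : Nat.card A = p ^ a) : Nat.card G ≤ p ^ (a * (a + 1) / 2) := by
  have hnil : Group.IsNilpotent G := hG.isNilpotent
  have hC := centralizer_eq_of_maximal_abelian_normal A hmax
  have h1 := index_centralizer_dvd hG a A hAn hA ha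
  rw [hC] at h1
  have h2 : A.index ≤ p ^ (∑ i ∈ Finset.range a, i) :=
    Nat.le_of_dvd (pow_pos hp.out.pos _) h1
  have h3 : a * (a + 1) / 2 = a + ∑ i ∈ Finset.range a, i := by
    have h4 := Finset.sum_range_succ (fun i => i) a
    have h5 := Finset.sum_range_id (a + 1)
    rw [Nat.add_sub_cancel] at h5
    calc a * (a + 1) / 2 = (a + 1) * a / 2 := by rw [mul_comm]
      _ = ∑ i ∈ Finset.range (a + 1), i := h5.symm
      _ = a + ∑ i ∈ Finset.range a, i := by rw [h4, add_comm]
  rw [← Subgroup.card_mul_index A, ha, h3, pow_add]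
  exact Nat.mul_le_mul_left _ h2

end Cfsg.Agent.Lib.Helper1
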