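import Mathlib

set_option autoImplicit false
open scoped commutatorElement
universe u
namespace Cfsg.Agent.Lib.Helper1

/-- Lemma I2: for an abelian subgroup `H` of index 2 in a nonabelian group `X`,
`|X'| · |Z(X)| = |H|`. -/
theorem card_commutator_mul_card_center_of_abelian_index_two {X : Type u} [Group X] [Finite X]
    (H : Subgroup X) (hidx : H.index = 2) (hHc : ∀ a ∈ H, ∀ b ∈ H, a * b = b * a)
    (hnc : ¬ ∀ a b : X, a * b = b * a) :
    Nat.card (commutator X) * Nat.card (Subgroup.center X) = Nat.card H := by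
  have hHn : H.Normal := Subgroup.normal_of_index_eq_two hidx
  have hHtop : H ≠ ⊤ := by
    intro h
    rw [h, Subgroup.index_top] at hidx
    omega
  obtain ⟨x, hx⟩ : ∃ x, x ∉ H := by
    by_contra hno
    push Not at hno
    exact hHtop (eq_top_iff.mpr fun g _ => hno g)
  have hxinv : x⁻¹ ∉ H := fun h => hx (by simpa using H.inv_mem h)
  have hdecomp : ∀ g : X, g ∈ H ∨ g * x⁻¹ ∈ H := by
    intro g
    by_cases hg : g ∈ H
    · exact Or.inl hg
    · right
      rw [Subgroup.mul_mem_iff_of_index_two hidx]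
      exact ⟨fun h => absurd h hg, fun h => absurd h hxinv⟩
  have hcx : ∀ y ∈ H, ⁅y, x⁆ ∈ H := by
    intro y hy
    rw [commutatorElement_def]
    have : y * x * y⁻¹ * x⁻¹ = y * (x * y⁻¹ * x⁻¹) := by group
    rw [this]
    exact H.mul_mem hy (hHn.conj_mem _ (H.inv_mem hy) x)
  let φ : H →* H :=
    { toFun := fun y => ⟨⁅(y : X), x⁆, hcx y y.2⟩
      map_one' := by
        apply Subtype.ext
        simp
      map_mul' := fun a b => by
        apply Subtype.ext
        have e : ⁅(a : X) * b, x⁆ = a * ⁅(b : X), x⁆ * (a : X)⁻¹ * ⁅(a : X), x⁆ := by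
          simp only [commutatorElement_def]; group
        show ⁅((a * b : H) : X), x⁆ = ⁅(a : X), x⁆ * ⁅(b : X), x⁆
        rw [Subgroup.coe_mul, e, hHc _ a.2 _ (hcx b b.2), mul_inv_cancel_right]
        exact hHc _ (hcx b b.2) _ (hcx a a.2) }
  -- center ≤ H
  have hZH : Subgroup.center X ≤ H := by
    intro z hz
    by_contra hzH
    apply hnc
    have hzinv : z⁻¹ ∉ H := fun h => hzH (by simpa using H.inv_mem h)
    have hd : ∀ g : X, g ∈ H ∨ g * z⁻¹ ∈ H := by
      intro g
      by_cases hg : g ∈ H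
      · exact Or.inl hg
      · right
        rw [Subgroup.mul_mem_iff_of_index_two hidx]
        exact ⟨fun h => absurd h hg, fun h => absurd h hzinv⟩
    have hzc : ∀ g : X, g * z = z * g := fun g => Subgroup.mem_center_iff.mp hz g
    have hzc' : ∀ g : X, g * z⁻¹ = z⁻¹ * g := fun g => by
      have := hzc g
      calc g * z⁻¹ = z⁻¹ * (z * g) * z⁻¹ := by group
        _ = z⁻¹ * (g * z) * z⁻¹ := by rw [this]
        _ = z⁻¹ * g := by group
    intro a b
    rcases hd a with ha | ha <;> rcases hd b with hb | hb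
    · exact hHc a ha b hb
    · have h1 := hHc a ha _ hb
      calc a * b = a * (b * z⁻¹) * z := by group
        _ = (b * z⁻¹) * a * z := by rw [h1]
        _ = b * (z⁻¹ * a) * z := by group
        _ = b * (a * z⁻¹) * z := by rw [hzc' a]
        _ = b * a := by group
    · have h1 := hHc _ ha b hb
      calc a * b = z * (z⁻¹ * a) * b := by group
        _ = z * (a * z⁻¹) * b := by rw [hzc' a]
        _ = z * (a * z⁻¹ * b) := by group
        _ = z * (b * (a * z⁻¹)) := by rw [h1]
        _ = (z * b) * a * z⁻¹ := by group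
        _ = (b * z) * a * z⁻¹ := by rw [hzc b]
        _ = b * (z * a) * z⁻¹ := by group
        _ = b * (a * z) * z⁻¹ := by rw [hzc a]
        _ = b * a := by group
    · have h1 := hHc _ ha _ hb
      calc a * b = (a * z⁻¹) * z * (b * z⁻¹) * z := by group
        _ = (a * z⁻¹) * ((b * z⁻¹) * z) * z := by rw [mul_assoc (a * z⁻¹), hzc (b * z⁻¹)]
        _ = ((a * z⁻¹) * (b * z⁻¹)) * z * z := by group
        _ = ((b * z⁻¹) * (a * z⁻¹)) * z * z := by rw [h1]
        _ = (b * z⁻¹) * ((a * z⁻¹) * z) * z := by group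
        _ = (b * z⁻¹) * (z * (a * z⁻¹)) * z := by rw [hzc (a * z⁻¹)]
        _ = b * a := by group
  have hker : φ.ker = (Subgroup.center X).subgroupOf H := by
    ext y
    rw [MonoidHom.mem_ker, Subgroup.mem_subgroupOf, Subgroup.mem_center_iff]
    constructor
    · intro hy
      have h1 : ⁅(y : X), x⁆ = 1 := congrArg Subtype.val hy
      have h2 : (y : X) * x = x * y := commutatorElement_eq_one_iff_mul_comm.mp h1
      have h2' : (y : X) * x⁻¹ = x⁻¹ * y := by
        calc (y : X) * x⁻¹ = x⁻¹ * (x * y) * x⁻¹ := by group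
          _ = x⁻¹ * (y * x) * x⁻¹ := by rw [h2]
          _ = x⁻¹ * y := by group
      intro g
      rcases hdecomp g with hg | hg
      · exact hHc g hg y y.2
      · have h3 := hHc _ hg y y.2
        calc g * y = (g * x⁻¹) * (x * y) := by group
          _ = (g * x⁻¹) * (y * x) := by rw [h2]
          _ = ((g * x⁻¹) * y) * x := by group
          _ = (y * (g * x⁻¹)) * x := by rw [h3]
          _ = y * g := by group
    · intro hy
      apply Subtype.ext
      show ⁅(y : X), x⁆ = 1
      rw [commutatorElement_eq_one_iff_mul_comm]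
      exact (hy x).symm
  -- commutator ≤ H
  have hcommH : commutator X ≤ H := by
    rw [← Subgroup.Normal.quotient_commutative_iff_commutator_le]
    have hcard : Nat.card (X ⧸ H) = 2 := hidx
    have : Fact (Nat.Prime 2) := ⟨Nat.prime_two⟩
    have hcyc : IsCyclic (X ⧸ H) := isCyclic_of_prime_card hcard
    exact ⟨⟨fun a b => by
      obtain ⟨g, hg⟩ := hcyc.exists_generator
      obtain ⟨i, rfl⟩ := Subgroup.mem_zpowers_iff.mp (hg a)
      obtain ⟨k, rfl⟩ := Subgroup.mem_zpowers_iff.mp (hg b)
      rw [← zpow_add, ← zpow_add, add_comm]⟩⟩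
  have hrange : φ.range = (commutator X).subgroupOf H := by
    apply le_antisymm
    · rintro _ ⟨y, rfl⟩
      rw [Subgroup.mem_subgroupOf, commutator_def]
      exact Subgroup.commutator_mem_commutator (Subgroup.mem_top _) (Subgroup.mem_top _)
    · -- all commutators lie in the range
      have hI : ∀ a b : X, ∃ y : H, ⁅a, b⁆ = ((φ y : H) : X) := by
        have hφ : ∀ y : H, ((φ y : H) : X) = ⁅(y : X), x⁆ := fun y => rfl
        intro a b
        rcases hdecomp a with ha | ha <;> rcases hdecomp b with hb | hb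
        · refine ⟨1, ?_⟩
          rw [map_one, Subgroup.coe_one, commutatorElement_eq_one_iff_mul_comm]
          exact hHc a ha b hb
        · -- a ∈ H, b = k x
          refine ⟨⟨a, ha⟩, ?_⟩
          rw [hφ]
          obtain ⟨k, hk⟩ : ∃ k, k = b * x⁻¹ := ⟨_, rfl⟩
          have hb' : b = k * x := by rw [hk]; group
          rw [← hk] at hb
          have hc := hcx a ha
          show ⁅a, b⁆ = ⁅a, x⁆
          rw [hb']
          calc ⁅a, k * x⁆ = (a * k) * x * a⁻¹ * x⁻¹ * k⁻¹ := by
                rw [commutatorElement_def]; group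
            _ = (k * a) * x * a⁻¹ * x⁻¹ * k⁻¹ := by rw [hHc a ha k hb]
            _ = k * ⁅a, x⁆ * k⁻¹ := by rw [commutatorElement_def]; group
            _ = ⁅a, x⁆ * k * k⁻¹ := by rw [hHc k hb _ hc]
            _ = ⁅a, x⁆ := by group
        · -- a = h x, b ∈ H
          refine ⟨(⟨b, hb⟩ : H)⁻¹, ?_⟩
          rw [map_inv, Subgroup.coe_inv, hφ]
          obtain ⟨k, hk⟩ : ∃ k, k = a * x⁻¹ := ⟨_, rfl⟩
          have ha' : a = k * x := by rw [hk]; group
          rw [← hk] at ha
          have hc := hcx b hb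
          show ⁅a, b⁆ = (⁅b, x⁆)⁻¹
          rw [← commutatorElement_inv, inv_inj, ha']
          calc ⁅b, k * x⁆ = (b * k) * x * b⁻¹ * x⁻¹ * k⁻¹ := by
                rw [commutatorElement_def]; group
            _ = (k * b) * x * b⁻¹ * x⁻¹ * k⁻¹ := by rw [hHc b hb k ha]
            _ = k * ⁅b, x⁆ * k⁻¹ := by rw [commutatorElement_def]; group
            _ = ⁅b, x⁆ * k * k⁻¹ := by rw [hHc k ha _ hc]
            _ = ⁅b, x⁆ := by group
        · -- a = h x, b = k x
          obtain ⟨h, hh⟩ : ∃ h, h = a * x⁻¹ := ⟨_, rfl⟩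
          obtain ⟨k, hk⟩ : ∃ k, k = b * x⁻¹ := ⟨_, rfl⟩
          have ha' : a = h * x := by rw [hh]; group
          have hb' : b = k * x := by rw [hk]; group
          rw [← hh] at ha
          rw [← hk] at hb
          have hu : k * h⁻¹ ∈ H := H.mul_mem hb (H.inv_mem ha)
          refine ⟨(⟨k * h⁻¹, hu⟩ : H)⁻¹, ?_⟩
          rw [map_inv, Subgroup.coe_inv, hφ]
          show ⁅a, b⁆ = (⁅k * h⁻¹, x⁆)⁻¹
          have hu' : x * (k * h⁻¹) * x⁻¹ ∈ H := hHn.conj_mem _ hu x
          rw [ha', hb']
          calc ⁅h * x, k * x⁆ = h * (x * (k * h⁻¹) * x⁻¹) * k⁻¹ := by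
                rw [commutatorElement_def]; group
            _ = (x * (k * h⁻¹) * x⁻¹) * h * k⁻¹ := by rw [hHc h ha _ hu']
            _ = (⁅k * h⁻¹, x⁆)⁻¹ := by rw [commutatorElement_def]; group
      intro z hz
      rw [Subgroup.mem_subgroupOf, commutator_def] at hz
      -- closure induction
      have hle : ⁅(⊤ : Subgroup X), ⊤⁆ ≤ φ.range.map H.subtype := by
        rw [Subgroup.commutator_le]
        intro a _ b _
        obtain ⟨y, hy⟩ := hI a b
        exact ⟨φ y, ⟨y, rfl⟩, hy.symm⟩
      obtain ⟨w, hw, hwz⟩ := hle hz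
      have : w = z := Subtype.ext hwz
      rw [← this]; exact hw
  have h1 : Nat.card φ.range = Nat.card (commutator X) := by
    rw [hrange]
    exact Nat.card_congr (Subgroup.subgroupOfEquivOfLe hcommH).toEquiv
  have h2 : Nat.card φ.ker = Nat.card (Subgroup.center X) := by
    rw [hker]
    exact Nat.card_congr (Subgroup.subgroupOfEquivOfLe hZH).toEquiv
  have h3 := Subgroup.card_mul_index φ.ker
  rw [Subgroup.index_ker, h1, h2] at h3
  rw [mul_comm]; exact h3

end Cfsg.Agent.Lib.Helper1
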