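import Mathlib
import Cfsg.Agent.Lib.Helper1.MaxClassTwoC
import Cfsg.Agent.Lib.Helper1.MaxClassTwoD
import Cfsg.Agent.Lib.Helper1.FrattiniP
import Cfsg.Agent.Lib.Helper1.Nilpotent

set_option autoImplicit false
open scoped commutatorElement
universe u
namespace Cfsg.Agent.Lib.Helper1

theorem commutator_eq_bot_of_comm {X : Type u} [Group X] (h : ∀ a b : X, a * b = b * a) :
    commutator X = ⊥ := by
  rw [eq_bot_iff, commutator_def, Subgroup.commutator_le]
  intro a _ b _
  rw [Subgroup.mem_bot, commutatorElement_eq_one_iff_mul_comm]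
  exact h a b

theorem comm_of_commutator_eq_bot {X : Type u} [Group X] (h : commutator X = ⊥) :
    ∀ a b : X, a * b = b * a := by
  intro a b
  have : ⁅a, b⁆ ∈ commutator X := by
    rw [commutator_def]
    exact Subgroup.commutator_mem_commutator (Subgroup.mem_top _) (Subgroup.mem_top _)
  rw [h, Subgroup.mem_bot] at this
  exact commutatorElement_eq_one_iff_mul_comm.mp this

theorem commutator_quotient_eq_map {X : Type u} [Group X] (N : Subgroup X) [N.Normal] :
    commutator (X ⧸ N) = (commutator X).map (QuotientGroup.mk' N) := by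
  rw [commutator_def, commutator_def, Subgroup.map_commutator,
    Subgroup.map_top_of_surjective _ (QuotientGroup.mk'_surjective N)]

theorem index_commutator_quotient {X : Type u} [Group X] (N : Subgroup X) [N.Normal]
    (hN : N ≤ commutator X) : (commutator (X ⧸ N)).index = (commutator X).index := by
  rw [commutator_quotient_eq_map]
  apply Subgroup.index_map_eq _ (QuotientGroup.mk'_surjective N)
  rw [QuotientGroup.ker_mk']; exact hN

/-- a 2-group of maximal class has abelianization of order 4. -/
theorem index_commutator_of_max_class_aux : ∀ (n : ℕ), 2 ≤ n →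
    ∀ (X : Type u) [Group X] [Finite X], Nat.card X = 2 ^ n → Group.nilpotencyClass X = n - 1 →
      (commutator X).index = 4 := by
  intro n hn
  induction n, hn using Nat.le_induction with
  | base =>
    intro X _ _ hX _
    have : Fact (Nat.Prime 2) := ⟨Nat.prime_two⟩
    have hc' := IsPGroup.isMulCommutative_of_card_eq_prime_sq hX
    have hc : ∀ a b : X, a * b = b * a := fun a b => mul_comm' a b
    rw [commutator_eq_bot_of_comm hc, Subgroup.index_bot, hX]
    norm_num
  | succ n hn ih =>
    intro X _ _ hX hc
    have : Fact (Nat.Prime 2) := ⟨Nat.prime_two⟩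
    have hXp : IsPGroup 2 X := IsPGroup.of_card hX
    have hnil : Group.IsNilpotent X := hXp.isNilpotent
    obtain ⟨hZ2, hq, hcq⟩ := max_class_center_card (p := 2) (n + 1) (by omega) hX hc
    rw [Nat.add_sub_cancel] at hq
    have hcq' : Group.nilpotencyClass (X ⧸ Subgroup.center X) = n - 1 := by
      rw [hcq]; omega
    have h4 := ih (X ⧸ Subgroup.center X) hq hcq'
    have hne : commutator X ≠ ⊥ := by
      intro h
      have := nilpotencyClass_le_one_of_comm (comm_of_commutator_eq_bot h)
      omega
    have hmeet := normal_inf_center_ne_bot (commutator X) hne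
    have hZle : Subgroup.center X ≤ commutator X := by
      have h1 : Nat.card (commutator X ⊓ Subgroup.center X : Subgroup X) ∣ 2 :=
        hZ2 ▸ Subgroup.card_dvd_of_le inf_le_right
      rcases (Nat.dvd_prime Nat.prime_two).mp h1 with h2 | h2
      · exact absurd (Subgroup.card_eq_one.mp h2) hmeet
      · have h3 : commutator X ⊓ Subgroup.center X = Subgroup.center X :=
          Subgroup.eq_of_le_of_card_ge inf_le_right (by rw [h2, hZ2])
        rw [← h3]; exact inf_le_left
    rw [← index_commutator_quotient _ hZle]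
    exact h4

theorem exponent_abelianization_of_max_class {X : Type u} [Group X] [Finite X] (n : ℕ) (hn : 3 ≤ n)
    (hX : Nat.card X = 2 ^ n) (hc : Group.nilpotencyClass X = n - 1)
    (h4 : (commutator X).index = 4) : Monoid.exponent (X ⧸ commutator X) = 2 := by
  have : Fact (Nat.Prime 2) := ⟨Nat.prime_two⟩
  have hXp : IsPGroup 2 X := IsPGroup.of_card hX
  have hnil : Group.IsNilpotent X := hXp.isNilpotent
  have hnc : ¬ ∀ a b : X, a * b = b * a := by
    intro h
    have := nilpotencyClass_le_one_of_comm h
    omega
  have hcard : Nat.card (X ⧸ commutator X) = 4 := h4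
  have hsq : ∀ q : X ⧸ commutator X, q ^ 2 = 1 := by
    intro q
    by_contra hq
    obtain ⟨x, rfl⟩ := QuotientGroup.mk_surjective q
    have hox : orderOf (x : X ⧸ commutator X) ∣ 2 ^ 2 := by
      have := orderOf_dvd_natCard (x : X ⧸ commutator X)
      rwa [hcard] at this
    obtain ⟨j, hj, hj'⟩ := (Nat.dvd_prime_pow Nat.prime_two).mp hox
    have hj2 : j = 2 := by
      by_contra hne
      have : j ≤ 1 := by omega
      apply hq
      have h1 : orderOf (x : X ⧸ commutator X) ∣ 2 := by
        rw [hj']
        calc 2 ^ j ∣ 2 ^ 1 := pow_dvd_pow 2 this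
          _ = 2 := pow_one 2
      exact orderOf_dvd_iff_pow_eq_one.mp h1
    -- x̄ generates the quotient
    have hgen : Subgroup.zpowers (x : X ⧸ commutator X) = ⊤ := by
      apply Subgroup.eq_top_of_card_eq
      rw [Nat.card_zpowers, hj', hj2, hcard]; norm_num
    have hsup : Subgroup.zpowers x ⊔ commutator X = ⊤ := by
      have h1 : (Subgroup.zpowers x).map (QuotientGroup.mk' (commutator X)) = ⊤ := by
        rw [MonoidHom.map_zpowers]; exact hgen
      have h2 := congrArg (Subgroup.comap (QuotientGroup.mk' (commutator X))) h1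
      rw [QuotientGroup.comap_map_mk', Subgroup.comap_top, sup_comm] at h2
      exact h2
    have hfr : Subgroup.zpowers x ⊔ frattini X = ⊤ := by
      rw [eq_top_iff, ← hsup]
      exact sup_le_sup le_rfl (commutator_le_frattini_of_isPGroup 2 hXp)
    have htop : Subgroup.zpowers x = ⊤ := frattini_nongenerating hfr
    apply hnc
    intro a b
    have ha : a ∈ Subgroup.zpowers x := htop ▸ Subgroup.mem_top a
    have hb : b ∈ Subgroup.zpowers x := htop ▸ Subgroup.mem_top b
    obtain ⟨i, rfl⟩ := Subgroup.mem_zpowers_iff.mp ha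
    obtain ⟨k, rfl⟩ := Subgroup.mem_zpowers_iff.mp hb
    rw [← zpow_add, ← zpow_add, add_comm]
  have hdvd : Monoid.exponent (X ⧸ commutator X) ∣ 2 := Monoid.exponent_dvd_of_forall_pow_eq_one hsq
  rcases (Nat.dvd_prime Nat.prime_two).mp hdvd with h1 | h1
  · exfalso
    rw [Monoid.exp_eq_one_iff] at h1
    have := Nat.card_eq_one_iff_unique.mpr ⟨h1, ⟨1⟩⟩
    omega
  · exact h1

end Cfsg.Agent.Lib.Helper1
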