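import Mathlib
import Cfsg.Agent.Lib.Helper1.MaxClassTwoE
import Cfsg.Agent.Lib.Helper1.PGroupClass
set_option autoImplicit false
open scoped commutatorElement
universe u
namespace Cfsg.Agent.Lib.Helper1

/-- A `p`-group of maximal class has abelianization of order `p²`. -/
theorem index_commutator_of_max_class_p (p : ℕ) [hp : Fact p.Prime] : ∀ (n : ℕ), 2 ≤ n →
    ∀ (X : Type u) [Group X] [Finite X], Nat.card X = p ^ n → Group.nilpotencyClass X = n - 1 →
      (commutator X).index = p ^ 2 := by
  intro n hn
  induction n, hn using Nat.le_induction with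
  | base =>
    intro X _ _ hX _
    have hc' := IsPGroup.isMulCommutative_of_card_eq_prime_sq hX
    have hc : ∀ a b : X, a * b = b * a := fun a b => mul_comm' a b
    rw [commutator_eq_bot_of_comm hc, Subgroup.index_bot, hX]
  | succ n hn ih =>
    intro X _ _ hX hc
    have hXp : IsPGroup p X := IsPGroup.of_card hX
    have hnil : Group.IsNilpotent X := hXp.isNilpotent
    obtain ⟨hZ2, hq, hcq⟩ := max_class_center_card (p := p) (n + 1) (by omega) hX hc
    rw [Nat.add_sub_cancel] at hq
    have hcq' : Group.nilpotencyClass (X ⧸ Subgroup.center X) = n - 1 := by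
      rw [hcq]; omega
    have h4 := ih (X ⧸ Subgroup.center X) hq hcq'
    have hne : commutator X ≠ ⊥ := by
      intro h
      have := nilpotencyClass_le_one_of_comm (comm_of_commutator_eq_bot h)
      omega
    have hmeet := normal_inf_center_ne_bot (commutator X) hne
    have hZle : Subgroup.center X ≤ commutator X := by
      have h1 : Nat.card (commutator X ⊓ Subgroup.center X : Subgroup X) ∣ p :=
        hZ2 ▸ Subgroup.card_dvd_of_le inf_le_right
      rcases (Nat.dvd_prime hp.out).mp h1 with h2 | h2
      · exact absurd (Subgroup.card_eq_one.mp h2) hmeet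
      · have h3 : commutator X ⊓ Subgroup.center X = Subgroup.center X :=
          Subgroup.eq_of_le_of_card_ge inf_le_right (by rw [h2, hZ2])
        rw [← h3]; exact inf_le_left
    rw [← index_commutator_quotient _ hZle]
    exact h4

/-- The abelianization of a `p`-group of maximal class (order at least `p³`) has exponent `p`. -/
theorem pow_eq_one_abelianization_of_max_class {X : Type u} [Group X] [Finite X] {p : ℕ}
    [hp : Fact p.Prime] (n : ℕ) (hn : 3 ≤ n)
    (hX : Nat.card X = p ^ n) (hc : Group.nilpotencyClass X = n - 1) :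
    ∀ q : X ⧸ commutator X, q ^ p = 1 := by
  have h4 := index_commutator_of_max_class_p p n (by omega) X hX hc
  have hXp : IsPGroup p X := IsPGroup.of_card hX
  have hnil : Group.IsNilpotent X := hXp.isNilpotent
  have hnc : ¬ ∀ a b : X, a * b = b * a := by
    intro h
    have := nilpotencyClass_le_one_of_comm h
    omega
  have hcard : Nat.card (X ⧸ commutator X) = p ^ 2 := h4
  intro q
  by_contra hq
  obtain ⟨x, rfl⟩ := QuotientGroup.mk_surjective q
  have hox : orderOf (x : X ⧸ commutator X) ∣ p ^ 2 := by
    have := orderOf_dvd_natCard (x : X ⧸ commutator X)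
    rwa [hcard] at this
  obtain ⟨j, hj, hj'⟩ := (Nat.dvd_prime_pow hp.out).mp hox
  have hj2 : j = 2 := by
    by_contra hne
    have : j ≤ 1 := by omega
    apply hq
    have h1 : orderOf (x : X ⧸ commutator X) ∣ p := by
      rw [hj']
      calc p ^ j ∣ p ^ 1 := pow_dvd_pow p this
        _ = p := pow_one p
    exact orderOf_dvd_iff_pow_eq_one.mp h1
  have hgen : Subgroup.zpowers (x : X ⧸ commutator X) = ⊤ := by
    apply Subgroup.eq_top_of_card_eq
    rw [Nat.card_zpowers, hj', hj2, hcard]
  have hsup : Subgroup.zpowers x ⊔ commutator X = ⊤ := by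
    have h1 : (Subgroup.zpowers x).map (QuotientGroup.mk' (commutator X)) = ⊤ := by
      rw [MonoidHom.map_zpowers]; exact hgen
    have h2 := congrArg (Subgroup.comap (QuotientGroup.mk' (commutator X))) h1
    rw [QuotientGroup.comap_map_mk', Subgroup.comap_top, sup_comm] at h2
    exact h2
  have hfr : Subgroup.zpowers x ⊔ frattini X = ⊤ := by
    rw [eq_top_iff, ← hsup]
    exact sup_le_sup le_rfl (commutator_le_frattini_of_isPGroup p hXp)
  have htop : Subgroup.zpowers x = ⊤ := frattini_nongenerating hfr
  apply hnc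
  intro a b
  have ha : a ∈ Subgroup.zpowers x := htop ▸ Subgroup.mem_top a
  have hb : b ∈ Subgroup.zpowers x := htop ▸ Subgroup.mem_top b
  obtain ⟨i, rfl⟩ := Subgroup.mem_zpowers_iff.mp ha
  obtain ⟨k, rfl⟩ := Subgroup.mem_zpowers_iff.mp hb
  rw [← zpow_add, ← zpow_add, add_comm]

/-- Strict descent of the lower central series of a nilpotent group. -/
theorem lowerCentralSeries_lt_of_ne_bot {X : Type u} [Group X] [hnil : Group.IsNilpotent X] (i : ℕ)
    (h : (⊤ : Subgroup X).lowerCentralSeries i ≠ ⊥) :
    (⊤ : Subgroup X).lowerCentralSeries (i + 1) < (⊤ : Subgroup X).lowerCentralSeries i := by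
  apply lt_of_le_of_ne (Subgroup.lowerCentralSeries_antitone _ (Nat.le_succ i))
  intro heq
  apply h
  have key : ∀ k, (⊤ : Subgroup X).lowerCentralSeries (i + k) = (⊤ : Subgroup X).lowerCentralSeries i := by
    intro k
    induction k with
    | zero => rfl
    | succ k ih =>
      rw [← add_assoc, Subgroup.lowerCentralSeries_succ, ih, ← Subgroup.lowerCentralSeries_succ, heq]
  rw [← key (Group.nilpotencyClass X), eq_bot_iff, ← Subgroup.lowerCentralSeries_nilpotencyClass (G := X)]
  exact Subgroup.lowerCentralSeries_antitone _ (Nat.le_add_left _ _)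

/-- Lower bound for the orders of the terms of the lower central series of a `p`-group. -/
theorem card_lowerCentralSeries_ge {X : Type u} [Group X] [Finite X] {p : ℕ} [hp : Fact p.Prime]
    (hXp : IsPGroup p X) (c : ℕ) (hc : Group.nilpotencyClass X = c) :
    ∀ j : ℕ, j + 1 ≤ c → p ^ (j + 1) ∣ Nat.card ((⊤ : Subgroup X).lowerCentralSeries (c - 1 - j)) := by
  have hnil : Group.IsNilpotent X := hXp.isNilpotent
  have hne : ∀ i, i + 1 ≤ c → (⊤ : Subgroup X).lowerCentralSeries i ≠ ⊥ := by
    intro i hi h
    rw [Subgroup.lowerCentralSeries_eq_bot_iff_nilpotencyClass_le] at h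
    omega
  intro j
  induction j with
  | zero =>
    intro hj
    have h1 := hne (c - 1) (by omega)
    obtain ⟨k, hk⟩ := IsPGroup.iff_card.mp (hXp.to_subgroup ((⊤ : Subgroup X).lowerCentralSeries (c - 1)))
    rw [Nat.sub_zero, hk]
    apply pow_dvd_pow
    rcases Nat.eq_zero_or_pos k with rfl | hk0
    · rw [pow_zero] at hk
      exact absurd (Subgroup.card_eq_one.mp hk) h1
    · omega
  | succ j ih =>
    intro hj
    have h1 := ih (by omega)
    have h2 := lowerCentralSeries_lt_of_ne_bot (X := X) (c - 1 - (j + 1)) (hne _ (by omega))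
    have e : c - 1 - (j + 1) + 1 = c - 1 - j := by omega
    rw [e] at h2
    obtain ⟨k, hk⟩ := IsPGroup.iff_card.mp
      (hXp.to_subgroup ((⊤ : Subgroup X).lowerCentralSeries (c - 1 - (j + 1))))
    obtain ⟨k', hk'⟩ := IsPGroup.iff_card.mp
      (hXp.to_subgroup ((⊤ : Subgroup X).lowerCentralSeries (c - 1 - j)))
    rw [hk'] at h1
    have h3 : j + 1 ≤ k' := (Nat.pow_dvd_pow_iff_le_right hp.out.one_lt).mp h1
    have h4 : Nat.card ((⊤ : Subgroup X).lowerCentralSeries (c - 1 - j)) <
        Nat.card ((⊤ : Subgroup X).lowerCentralSeries (c - 1 - (j + 1))) := by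
      by_contra hle
      push Not at hle
      exact absurd (Subgroup.eq_of_le_of_card_ge h2.le hle) h2.ne
    rw [hk, hk'] at h4
    have h5 : k' < k := (Nat.pow_lt_pow_iff_right hp.out.one_lt).mp h4
    rw [hk]
    exact pow_dvd_pow p (by omega)

end Cfsg.Agent.Lib.Helper1
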