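import Mathlib
import Cfsg.Agent.Lib.Helper1.MaxClassNormal1
set_option autoImplicit false
open scoped commutatorElement
universe u
namespace Cfsg.Agent.Lib.Helper1

/-- In a `p`-group of maximal class, normal subgroups of index `p^r`, `r ≥ 2`, are terms of the lower
central series. -/
theorem normal_eq_lowerCentralSeries_of_max_class {G : Type u} [Group G] [Finite G] {p : ℕ}
    [hp : Fact p.Prime] (n : ℕ) (hG : Nat.card G = p ^ n) (hcl : Group.nilpotencyClass G = n - 1)
    (hn : 3 ≤ n) (N : Subgroup G) [hN : N.Normal] (r : ℕ) (hr : 2 ≤ r) (hidx : N.index = p ^ r) :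
    N = (⊤ : Subgroup G).lowerCentralSeries (r - 1) := by
  have hGp : IsPGroup p G := IsPGroup.of_card hG
  have hnil : Group.IsNilpotent G := hGp.isNilpotent
  have hrn : r ≤ n := by
    have h1 : N.index ∣ Nat.card G := Subgroup.index_dvd_card N
    rw [hidx, hG] at h1
    exact (Nat.pow_dvd_pow_iff_le_right hp.out.one_lt).mp h1
  have hcardN : Nat.card N = p ^ (n - r) := by
    have h1 := N.card_mul_index
    rw [hidx, hG] at h1
    have h2 : p ^ n = p ^ (n - r) * p ^ r := by rw [← pow_add, Nat.sub_add_cancel hrn]
    rw [h2] at h1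
    exact Nat.eq_of_mul_eq_mul_right (pow_pos hp.out.pos r) h1
  have hLN : (⊤ : Subgroup G).lowerCentralSeries (r - 1) ≤ N := by
    have hq : Nat.card (G ⧸ N) = p ^ r := by rw [← hidx]; rfl
    have hcq := nilpotencyClass_le_of_card_pow p r hq (by omega)
    have h1 : (⊤ : Subgroup (G ⧸ N)).lowerCentralSeries (r - 1) = ⊥ :=
      Subgroup.lowerCentralSeries_eq_bot_iff_nilpotencyClass_le.mpr hcq
    have h2 := Subgroup.lowerCentralSeries.map (QuotientGroup.mk' N) (r - 1)
    rw [h1, le_bot_iff, Subgroup.map_eq_bot_iff, QuotientGroup.ker_mk'] at h2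
    exact h2
  have hdvd : p ^ (n - r) ∣ Nat.card ((⊤ : Subgroup G).lowerCentralSeries (r - 1)) := by
    rcases Nat.eq_or_lt_of_le hrn with rfl | hlt
    · simp
    · have := card_lowerCentralSeries_ge hGp (n - 1) hcl (n - 1 - r) (by omega)
      have e1 : n - 1 - r + 1 = n - r := by omega
      have e2 : n - 1 - 1 - (n - 1 - r) = r - 1 := by omega
      rw [e1, e2] at this
      exact this
  symm
  apply Subgroup.eq_of_le_of_card_ge hLN
  rw [hcardN]
  exact Nat.le_of_dvd Nat.card_pos hdvd

theorem card_ne_one_add_one (B : Type*) [Group B] [Finite B] :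
    Nat.card {x : B // x ≠ 1} + 1 = Nat.card B := by
  classical
  have e2 : {x : B // x ≠ 1} ⊕ Unit ≃ B :=
    { toFun := fun s => Sum.elim (fun h => h.1) (fun _ => 1) s
      invFun := fun h => if hh : h = 1 then Sum.inr () else Sum.inl ⟨h, hh⟩
      left_inv := by
        rintro (h | u)
        · simp [h.2]
        · simp
      right_inv := by
        intro h
        by_cases hh : h = 1
        · simp [hh]
        · simp [hh] }
  have hu : Nat.card Unit = 1 := Nat.card_unique
  rw [← Nat.card_congr e2, Nat.card_sum, hu]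

/-- A non-cyclic group of order `p²` has exactly `p + 1` subgroups of order `p`. -/
theorem card_subgroups_prime_of_sq {A : Type u} [Group A] [Finite A] {p : ℕ} [hp : Fact p.Prime]
    (hA : Nat.card A = p ^ 2) (hexp : ∀ a : A, a ^ p = 1) :
    Nat.card {H : Subgroup A // Nat.card H = p} = p + 1 := by
  classical
  have hord : ∀ x : A, x ≠ 1 → orderOf x = p := by
    intro x hx
    have h1 : orderOf x ∣ p := orderOf_dvd_of_pow_eq_one (hexp x)
    rcases (Nat.dvd_prime hp.out).mp h1 with h | h
    · exact absurd (orderOf_eq_one_iff.mp h) hx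
    · exact h
  let f : {x : A // x ≠ 1} → {H : Subgroup A // Nat.card H = p} :=
    fun x => ⟨Subgroup.zpowers (x : A), by rw [Nat.card_zpowers]; exact hord x x.2⟩
  have hfib : ∀ H : {H : Subgroup A // Nat.card H = p},
      Nat.card {x : {x : A // x ≠ 1} // f x = H} = p - 1 := by
    intro H
    have hHfin : Finite (H : Subgroup A) := inferInstance
    have e : {x : {x : A // x ≠ 1} // f x = H} ≃ {h : (H : Subgroup A) // h ≠ 1} :=
      { toFun := fun x => ⟨⟨(x.1 : A), by
            have := x.2
            have h2 : Subgroup.zpowers (x.1 : A) = (H : Subgroup A) := congrArg Subtype.val this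
            rw [← h2]; exact Subgroup.mem_zpowers _⟩, by
            intro h
            exact x.1.2 (congrArg Subtype.val h)⟩
        invFun := fun h => ⟨⟨(h.1 : A), by
            intro h1
            exact h.2 (Subtype.ext h1)⟩, by
            apply Subtype.ext
            show Subgroup.zpowers ((h.1 : A)) = (H : Subgroup A)
            have hle : Subgroup.zpowers ((h.1 : A)) ≤ (H : Subgroup A) := by
              rw [Subgroup.zpowers_le]; exact h.1.2
            apply Subgroup.eq_of_le_of_card_ge hle
            rw [H.2, Nat.card_zpowers, hord]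
            intro h1
            exact h.2 (Subtype.ext h1)⟩
        left_inv := fun x => rfl
        right_inv := fun h => rfl }
    rw [Nat.card_congr e]
    have h1 : Nat.card {h : (H : Subgroup A) // h ≠ 1} = Nat.card (H : Subgroup A) - 1 := by
      have h2 := card_ne_one_add_one (H : Subgroup A)
      omega
    rw [h1, H.2]
  let _ : Fintype {H : Subgroup A // Nat.card H = p} := Fintype.ofFinite _
  have h1 : Nat.card {x : A // x ≠ 1} = ∑ H : {H : Subgroup A // Nat.card H = p},
      Nat.card {x : {x : A // x ≠ 1} // f x = H} := by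
    rw [← Nat.card_sigma]
    exact Nat.card_congr (Equiv.sigmaFiberEquiv f).symm
  simp only [hfib, Finset.sum_const, Finset.card_univ, smul_eq_mul] at h1
  rw [← Nat.card_eq_fintype_card] at h1
  have h2 := card_ne_one_add_one A
  rw [hA] at h2
  have hp2 := hp.out.two_le
  have h3 : Nat.card {x : A // x ≠ 1} = (p + 1) * (p - 1) := by
    have : (p + 1) * (p - 1) + 1 = p ^ 2 := by
      obtain ⟨q, rfl⟩ : ∃ q, p = q + 1 := ⟨p - 1, by omega⟩
      simp only [Nat.add_sub_cancel]
      ring
    omega
  rw [h3] at h1
  exact (Nat.eq_of_mul_eq_mul_right (by omega) h1).symm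

end Cfsg.Agent.Lib.Helper1
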