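import Mathlib
import Cfsg.Agent.Lib.Helper1.MaxClassNormal2
set_option autoImplicit false
open scoped commutatorElement
universe u
namespace Cfsg.Agent.Lib.Helper1

theorem card_normal_index_p_of_max_class {G : Type u} [Group G] [Finite G] {p : ℕ}
    [hp : Fact p.Prime] (n : ℕ) (hG : Nat.card G = p ^ n) (hcl : Group.nilpotencyClass G = n - 1)
    (hn : 3 ≤ n) : Nat.card {N : Subgroup G // N.Normal ∧ N.index = p} = p + 1 := by
  have hidx := index_commutator_of_max_class_p p n (by omega) G hG hcl
  have hexp := pow_eq_one_abelianization_of_max_class n hn hG hcl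
  have hA : Nat.card (G ⧸ commutator G) = p ^ 2 := hidx
  rw [← card_subgroups_prime_of_sq hA hexp]
  have hsurj := QuotientGroup.mk'_surjective (commutator G)
  have hle : ∀ N : Subgroup G, N.Normal → N.index = p → commutator G ≤ N := by
    intro N hN hNi
    rw [← Subgroup.Normal.quotient_commutative_iff_commutator_le]
    have hc : Nat.card (G ⧸ N) = p := hNi
    have : IsCyclic (G ⧸ N) := isCyclic_of_prime_card hc
    exact IsCyclic.isMulCommutative
  have hci : ∀ H : Subgroup (G ⧸ commutator G), Nat.card H = p ↔ H.index = p := by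
    intro H
    have h1 := H.card_mul_index
    rw [hA, sq] at h1
    constructor
    · intro h
      rw [h] at h1
      exact Nat.eq_of_mul_eq_mul_left hp.out.pos h1
    · intro h
      rw [h] at h1
      exact Nat.eq_of_mul_eq_mul_right hp.out.pos h1
  apply Nat.card_congr
  refine
    { toFun := fun N => ⟨N.1.map (QuotientGroup.mk' (commutator G)), ?_⟩
      invFun := fun H => ⟨H.1.comap (QuotientGroup.mk' (commutator G)), ?_, ?_⟩
      left_inv := ?_
      right_inv := ?_ }
  · rw [hci, Subgroup.index_map_eq _ hsurj (by rw [QuotientGroup.ker_mk']; exact hle N.1 N.2.1 N.2.2)]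
    exact N.2.2
  · apply normal_of_commutator_le
    exact QuotientGroup.le_comap_mk' _ _
  · rw [Subgroup.index_comap_of_surjective _ hsurj]
    exact (hci H.1).mp H.2
  · intro N
    apply Subtype.ext
    show (N.1.map (QuotientGroup.mk' (commutator G))).comap (QuotientGroup.mk' (commutator G)) = N.1
    rw [QuotientGroup.comap_map_mk', sup_eq_right]
    exact hle N.1 N.2.1 N.2.2
  · intro H
    apply Subtype.ext
    show (H.1.comap (QuotientGroup.mk' (commutator G))).map (QuotientGroup.mk' (commutator G)) = H.1
    exact Subgroup.map_comap_eq_self_of_surjective hsurj _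

theorem max_class_normal_subgroups {G : Type u} [Group G] [Finite G] {p : ℕ} [Fact p.Prime] (n : ℕ)
    (hG : Nat.card G = p ^ n) (hcl : Group.nilpotencyClass G = n - 1) (hn : 3 ≤ n) :
    (∀ (N : Subgroup G) [N.Normal] (r : ℕ), 2 ≤ r → N.index = p ^ r →
      N = (⊤ : Subgroup G).lowerCentralSeries (r - 1)) ∧
    Nat.card {N : Subgroup G // N.Normal ∧ N.index = p} = p + 1 :=
  ⟨fun N _ r hr hidx => normal_eq_lowerCentralSeries_of_max_class n hG hcl hn N r hr hidx,
    card_normal_index_p_of_max_class n hG hcl hn⟩

end Cfsg.Agent.Lib.Helper1
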