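import Mathlib
import Cfsg.Agent.Lib.Helper1.MaxClassTwoE

set_option autoImplicit false
open scoped commutatorElement
universe u
namespace Cfsg.Agent.Lib.Helper1

theorem comap_cyclic_comm {X : Type u} [Group X] (N : Subgroup X) [hNn : N.Normal]
    (hNZ : N ≤ Subgroup.center X) (Cb : Subgroup (X ⧸ N)) (hCb : IsCyclic Cb) :
    ∀ a ∈ Cb.comap (QuotientGroup.mk' N), ∀ b ∈ Cb.comap (QuotientGroup.mk' N), a * b = b * a := by
  obtain ⟨cb, hcb⟩ := (Subgroup.isCyclic_iff_exists_zpowers_eq_top Cb).mp hCb
  obtain ⟨h, rfl⟩ := QuotientGroup.mk_surjective cb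
  have hdecomp : ∀ y ∈ Cb.comap (QuotientGroup.mk' N), ∃ i : ℤ, ∃ ν ∈ N, y = h ^ i * ν := by
    intro y hy
    rw [Subgroup.mem_comap, ← hcb] at hy
    obtain ⟨i, hi⟩ := Subgroup.mem_zpowers_iff.mp hy
    refine ⟨i, (h ^ i)⁻¹ * y, ?_, by group⟩
    have h1 : ((h ^ i : X) : X ⧸ N) = (QuotientGroup.mk' N) y := by
      rw [← hi]; simp
    exact QuotientGroup.eq.mp h1
  intro a ha b hb
  obtain ⟨i, ν, hν, rfl⟩ := hdecomp a ha
  obtain ⟨k, μ, hμ, rfl⟩ := hdecomp b hb
  have hνc : ∀ y : X, ν * y = y * ν := fun y => (Subgroup.mem_center_iff.mp (hNZ hν) y).symm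
  have hμc : ∀ y : X, μ * y = y * μ := fun y => (Subgroup.mem_center_iff.mp (hNZ hμ) y).symm
  calc h ^ i * ν * (h ^ k * μ) = h ^ i * (ν * h ^ k) * μ := by group
    _ = h ^ i * (h ^ k * ν) * μ := by rw [hνc]
    _ = (h ^ i * h ^ k) * (ν * μ) := by group
    _ = (h ^ k * h ^ i) * (μ * ν) := by rw [← zpow_add, ← zpow_add, add_comm, hμc ν]
    _ = h ^ k * (h ^ i * μ) * ν := by group
    _ = h ^ k * (μ * h ^ i) * ν := by rw [hμc]
    _ = h ^ k * μ * (h ^ i * ν) := by group

theorem nilpotencyClass_congr {A B : Type u} [Group A] [Group B] [Group.IsNilpotent A]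
    (e : A ≃* B) : Group.nilpotencyClass A = Group.nilpotencyClass B := by
  have hB : Group.IsNilpotent B := Group.nilpotent_of_surjective e.toMonoidHom e.surjective
  apply le_antisymm
  · exact Group.nilpotencyClass_le_of_surjective e.symm.toMonoidHom e.symm.surjective
  · exact Group.nilpotencyClass_le_of_surjective e.toMonoidHom e.surjective

theorem max_class_of_index_commutator_aux : ∀ (n : ℕ), 3 ≤ n →
    ∀ (X : Type u) [Group X] [Finite X], Nat.card X = 2 ^ n → (commutator X).index = 4 →
      Group.nilpotencyClass X = n - 1 := by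
  intro n hn
  induction n, hn using Nat.le_induction with
  | base =>
    intro X _ _ hX h4
    have : Fact (Nat.Prime 2) := ⟨Nat.prime_two⟩
    have hXp : IsPGroup 2 X := IsPGroup.of_card hX
    have hnil : Group.IsNilpotent X := hXp.isNilpotent
    have h1 := nilpotencyClass_le_of_card_pow 2 3 hX (by norm_num)
    have hXnt : Nontrivial X := by
      rw [← Finite.one_lt_card_iff_nontrivial, hX]; norm_num
    have h2 := Group.nilpotencyClass_eq_quotient_center_plus_one (G := X)
    by_contra hne
    have hc1 : Group.nilpotencyClass X = 1 := by omega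
    have h0 : Group.nilpotencyClass (X ⧸ Subgroup.center X) = 0 := by omega
    rw [Group.nilpotencyClass_zero_iff_subsingleton] at h0
    have hcomm : ∀ a b : X, a * b = b * a := by
      intro a b
      have : ((b : X) : X ⧸ Subgroup.center X) = 1 := Subsingleton.elim _ _
      rw [QuotientGroup.eq_one_iff, Subgroup.mem_center_iff] at this
      exact this a
    rw [commutator_eq_bot_of_comm hcomm, Subgroup.index_bot, hX] at h4
    omega
  | succ n hn ih =>
    intro X _ _ hX h4
    have : Fact (Nat.Prime 2) := ⟨Nat.prime_two⟩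
    have hXp : IsPGroup 2 X := IsPGroup.of_card hX
    have hnil : Group.IsNilpotent X := hXp.isNilpotent
    have hXnt : Nontrivial X := by
      rw [← Finite.one_lt_card_iff_nontrivial, hX]
      exact Nat.one_lt_pow (by omega) (by norm_num)
    have hX'card : Nat.card (commutator X) = 2 ^ (n - 1) := by
      have h1 := Subgroup.card_mul_index (commutator X)
      rw [h4, hX] at h1
      have h2 : 2 ^ (n + 1) = 2 ^ (n - 1) * 4 := by
        have : n + 1 = (n - 1) + 2 := by omega
        rw [this, pow_add]; norm_num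
      rw [h2] at h1
      exact Nat.eq_of_mul_eq_mul_right (by norm_num) h1
    have hne : commutator X ≠ ⊥ := by
      intro h
      rw [h, Subgroup.card_bot] at hX'card
      have : 2 ≤ 2 ^ (n - 1) := by
        calc 2 = 2 ^ 1 := (pow_one 2).symm
          _ ≤ 2 ^ (n - 1) := Nat.pow_le_pow_right (by norm_num) (by omega)
      omega
    have hnc : ¬ ∀ a b : X, a * b = b * a := fun h => hne (commutator_eq_bot_of_comm h)
    have hmeet := normal_inf_center_ne_bot (commutator X) hne
    -- element of order 2 in X' ∩ Z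
    have hdvd : 2 ∣ Nat.card (commutator X ⊓ Subgroup.center X : Subgroup X) := by
      obtain ⟨k, hk⟩ := IsPGroup.iff_card.mp (hXp.to_subgroup (commutator X ⊓ Subgroup.center X))
      rw [hk]
      apply dvd_pow_self
      rintro rfl
      rw [pow_zero] at hk
      exact hmeet (Subgroup.card_eq_one.mp hk)
    obtain ⟨ν, hν⟩ := exists_prime_orderOf_dvd_card' 2 hdvd
    have hνo : orderOf (ν : X) = 2 := by rw [Subgroup.orderOf_coe]; exact hν
    obtain ⟨N, hN⟩ : ∃ N, N = Subgroup.zpowers (ν : X) := ⟨_, rfl⟩
    have hN2 : Nat.card N = 2 := by rw [hN, Nat.card_zpowers, hνo]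
    have hNZ : N ≤ Subgroup.center X := by
      rw [hN, Subgroup.zpowers_le]; exact ν.2.2
    have hNX' : N ≤ commutator X := by
      rw [hN, Subgroup.zpowers_le]; exact ν.2.1
    have hNn : N.Normal := by
      constructor
      intro y hy g
      have := Subgroup.mem_center_iff.mp (hNZ hy) g
      have e : g * y * g⁻¹ = y := by rw [this]; group
      rw [e]; exact hy
    have hqcard : Nat.card (X ⧸ N) = 2 ^ n := by
      have := Subgroup.card_eq_card_quotient_mul_card_subgroup N
      rw [hX, hN2, pow_succ] at this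
      exact (Nat.eq_of_mul_eq_mul_right (by norm_num) this).symm
    have hq4 : (commutator (X ⧸ N)).index = 4 := by
      rw [index_commutator_quotient N hNX']; exact h4
    have hqc := ih (X ⧸ N) hqcard hq4
    obtain ⟨Cb, hCb, hCbi⟩ := exists_cyclic_index_two_of_max_class n hn hqcard hqc
    obtain ⟨H, hH⟩ : ∃ H, H = Cb.comap (QuotientGroup.mk' N) := ⟨_, rfl⟩
    have hHi : H.index = 2 := by
      rw [hH, Subgroup.index_comap_of_surjective _ (QuotientGroup.mk'_surjective _)]
      exact hCbi
    have hHc : ∀ a ∈ H, ∀ b ∈ H, a * b = b * a := by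
      rw [hH]; exact comap_cyclic_comm N hNZ Cb hCb
    have hI2 := card_commutator_mul_card_center_of_abelian_index_two H hHi hHc hnc
    have hHcard : Nat.card H = 2 ^ n := by
      have h1 := Subgroup.card_mul_index H
      rw [hHi, hX, pow_succ] at h1
      exact Nat.eq_of_mul_eq_mul_right (by norm_num) h1
    have hZ2 : Nat.card (Subgroup.center X) = 2 := by
      rw [hX'card, hHcard] at hI2
      have h2 : 2 ^ n = 2 ^ (n - 1) * 2 := by
        rw [← pow_succ, Nat.sub_add_cancel (by omega)]
      rw [h2] at hI2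
      exact Nat.eq_of_mul_eq_mul_left (pow_pos (by norm_num) _) hI2
    have hNeq : N = Subgroup.center X :=
      Subgroup.eq_of_le_of_card_ge hNZ (by rw [hZ2, hN2])
    have e : X ⧸ N ≃* X ⧸ Subgroup.center X := QuotientGroup.quotientMulEquivOfEq hNeq
    have hnilq : Group.IsNilpotent (X ⧸ N) := (hXp.to_quotient N).isNilpotent
    rw [Group.nilpotencyClass_eq_quotient_center_plus_one, ← nilpotencyClass_congr e, hqc]
    omega

theorem max_class_iff_kleinFour {X : Type u} [Group X] [Finite X] (n : ℕ) (hn : 3 ≤ n)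
    (hX : Nat.card X = 2 ^ n) :
    Group.nilpotencyClass X = n - 1 ↔ IsKleinFour (X ⧸ commutator X) := by
  constructor
  · intro hc
    have h4 := index_commutator_of_max_class_aux n (by omega) X hX hc
    exact ⟨h4, exponent_abelianization_of_max_class n hn hX hc h4⟩
  · intro hK
    exact max_class_of_index_commutator_aux n hn X hX hK.card_four

end Cfsg.Agent.Lib.Helper1
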