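import Mathlib
import Cfsg.Agent.Lib.Helper1.MaxClassTwoC
import Cfsg.Agent.Lib.Helper1.CyclicMaxTwo
import Cfsg.Agent.Lib.Helper1.DihedralRecognition

set_option autoImplicit false
open scoped commutatorElement
universe u
namespace Cfsg.Agent.Lib.Helper1

theorem max_class_center_quotient_dihedral {X : Type u} [Group X] [Finite X] (n : ℕ) (hn : 3 ≤ n)
    (hX : Nat.card X = 2 ^ n) (hc : Group.nilpotencyClass X = n - 1) :
    Nonempty (X ⧸ Subgroup.center X ≃* DihedralGroup (2 ^ (n - 2))) := by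
  have : Fact (Nat.Prime 2) := ⟨Nat.prime_two⟩
  have hXp : IsPGroup 2 X := IsPGroup.of_card hX
  have hnil : Group.IsNilpotent X := hXp.isNilpotent
  obtain ⟨hZ2, hq, -⟩ := max_class_center_card (p := 2) n hn hX hc
  obtain ⟨C, hC, hCi⟩ := exists_cyclic_index_two_of_max_class n hn hX hc
  have hna : ∃ x y : X, x * y ≠ y * x := by
    by_contra hno
    push Not at hno
    have := nilpotencyClass_le_one_of_comm hno
    omega
  obtain ⟨a, b, hord, hb, hcases⟩ := two_group_cyclic_index_two_nonabelian n hn hX C hC hCi hna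
  -- index of ⟨a⟩
  have hAi : (Subgroup.zpowers a).index = 2 := by
    have h1 := Subgroup.card_mul_index (Subgroup.zpowers a)
    rw [Nat.card_zpowers, hord, hX] at h1
    have h2 : 2 ^ n = 2 ^ (n - 1) * 2 := by rw [← pow_succ, Nat.sub_add_cancel (by omega)]
    rw [h2] at h1
    exact Nat.eq_of_mul_eq_mul_left (pow_pos (by norm_num) _) h1
  have hbinv : b⁻¹ ∉ Subgroup.zpowers a := fun h => hb (by simpa using Subgroup.inv_mem _ h)
  have hdecomp : ∀ g : X, g ∈ Subgroup.zpowers a ∨ g * b⁻¹ ∈ Subgroup.zpowers a := by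
    intro g
    by_cases hg : g ∈ Subgroup.zpowers a
    · exact Or.inl hg
    · right
      rw [Subgroup.mul_mem_iff_of_index_two hAi]
      exact ⟨fun h => absurd h hg, fun h => absurd h hbinv⟩
  obtain ⟨z, hz⟩ : ∃ z, z = a ^ (2 ^ (n - 2)) := ⟨_, rfl⟩
  have hz2 : z ^ 2 = 1 := by
    rw [hz, ← pow_mul, ← pow_succ, show n - 2 + 1 = n - 1 by omega, ← hord, pow_orderOf_eq_one]
  have hz1 : z ≠ 1 := by
    intro h1
    rw [hz] at h1
    have h2 := orderOf_dvd_of_pow_eq_one h1
    rw [hord] at h2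
    have := (Nat.pow_dvd_pow_iff_le_right (by norm_num : 1 < 2)).mp h2
    omega
  have hzinv : z⁻¹ = z := by
    rw [inv_eq_iff_mul_eq_one, ← pow_two]; exact hz2
  have hza : z ∈ Subgroup.zpowers a := by rw [hz]; exact Subgroup.pow_mem _ (Subgroup.mem_zpowers a) _
  -- commutation of z with b
  have hzb_of : ∀ y : X, b * a * b⁻¹ = y → y ^ (2 ^ (n - 2)) = z → b * z = z * b := by
    intro y hconj hy
    have h1 : b * z * b⁻¹ = z := by
      have : b * z * b⁻¹ = (b * a * b⁻¹) ^ (2 ^ (n - 2)) := by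
        rw [hz, conj_pow]
      rw [this, hconj, hy]
    calc b * z = (b * z * b⁻¹) * b := by group
      _ = z * b := by rw [h1]
  have hzb_of_odd : ∀ k : ℕ, Odd k → b * a * b⁻¹ = a ^ k → b * z = z * b := by
    intro k hk hconj
    apply hzb_of _ hconj
    rw [← pow_mul, mul_comm, pow_mul, ← hz]
    obtain ⟨l, hl⟩ := hk
    rw [hl, pow_add, pow_mul, hz2, one_pow, one_mul, pow_one]
  have hzb_of_inv : b * a * b⁻¹ = a⁻¹ → b * z = z * b := by
    intro hconj
    apply hzb_of _ hconj
    rw [inv_pow, ← hz, hzinv]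
  have hzcenter_of : b * z = z * b → z ∈ Subgroup.center X := by
    intro hzb
    rw [Subgroup.mem_center_iff]
    intro g
    have hzpow : ∀ y ∈ Subgroup.zpowers a, y * z = z * y := by
      intro y hy
      obtain ⟨i, rfl⟩ := Subgroup.mem_zpowers_iff.mp hy
      rw [hz, ← zpow_natCast a, ← zpow_add, ← zpow_add, add_comm]
    rcases hdecomp g with hg | hg
    · exact hzpow g hg
    · have h1 := hzpow _ hg
      calc g * z = (g * b⁻¹) * (b * z) := by group
        _ = (g * b⁻¹) * (z * b) := by rw [hzb]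
        _ = ((g * b⁻¹) * z) * b := by group
        _ = (z * (g * b⁻¹)) * b := by rw [h1]
        _ = z * g := by group
  -- the main data: z central, b² ∈ {1,z}, b a b⁻¹ ∈ {a⁻¹, z a⁻¹}
  have hmain : z ∈ Subgroup.center X ∧ (b ^ 2 = 1 ∨ b ^ 2 = z) ∧
      (b * a * b⁻¹ = a⁻¹ ∨ b * a * b⁻¹ = z * a⁻¹) := by
    rcases hcases with ⟨h1, h2⟩ | ⟨h1, h2⟩ | ⟨hn4, h1, h2⟩ | ⟨hn4, h1, h2⟩
    · exact ⟨hzcenter_of (hzb_of_inv h2), Or.inl h1, Or.inl h2⟩
    · refine ⟨hzcenter_of (hzb_of_inv h2), Or.inr ?_, Or.inl h2⟩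
      rw [h1, hz]
    · -- modular case: impossible
      exfalso
      have hk : Odd (1 + 2 ^ (n - 2)) := by
        have : 2 ^ (n - 2) = 2 * 2 ^ (n - 3) := by
          rw [← pow_succ', show n - 3 + 1 = n - 2 by omega]
        rw [this]
        exact ⟨2 ^ (n - 3), by ring⟩
      have hzc := hzcenter_of (hzb_of_odd _ hk h2)
      -- a² central
      have ha2b : b * a ^ 2 = a ^ 2 * b := by
        have h3 : b * a ^ 2 * b⁻¹ = a ^ 2 := by
          have : b * a ^ 2 * b⁻¹ = (b * a * b⁻¹) ^ 2 := by rw [conj_pow]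
          rw [this, h2, ← pow_mul]
          have e : (1 + 2 ^ (n - 2)) * 2 = 2 + 2 ^ (n - 1) := by
            have : 2 ^ (n - 1) = 2 ^ (n - 2) * 2 := by
              rw [← pow_succ, show n - 2 + 1 = n - 1 by omega]
            rw [this]; ring
          rw [e, pow_add, ← hord, pow_orderOf_eq_one, mul_one]
        calc b * a ^ 2 = (b * a ^ 2 * b⁻¹) * b := by group
          _ = a ^ 2 * b := by rw [h3]
      have ha2c : a ^ 2 ∈ Subgroup.center X := by
        rw [Subgroup.mem_center_iff]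
        intro g
        have hpow : ∀ y ∈ Subgroup.zpowers a, y * a ^ 2 = a ^ 2 * y := by
          intro y hy
          obtain ⟨i, rfl⟩ := Subgroup.mem_zpowers_iff.mp hy
          rw [← zpow_natCast a 2, ← zpow_add, ← zpow_add, add_comm]
        rcases hdecomp g with hg | hg
        · exact hpow g hg
        · have h5 := hpow _ hg
          calc g * a ^ 2 = (g * b⁻¹) * (b * a ^ 2) := by group
            _ = (g * b⁻¹) * (a ^ 2 * b) := by rw [ha2b]
            _ = ((g * b⁻¹) * a ^ 2) * b := by group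
            _ = (a ^ 2 * (g * b⁻¹)) * b := by rw [h5]
            _ = a ^ 2 * g := by group
      -- center has order 2 but contains ⟨a²⟩ of order ≥ 4
      have hle : Subgroup.zpowers (a ^ 2) ≤ Subgroup.center X := by
        rw [Subgroup.zpowers_le]; exact ha2c
      have hcard := Subgroup.card_le_of_le hle
      rw [hZ2, Nat.card_zpowers] at hcard
      have ho : orderOf (a ^ 2) = 2 ^ (n - 2) := by
        have h6 := orderOf_pow' a (show (2 : ℕ) ≠ 0 by norm_num)
        rw [h6, hord]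
        have : Nat.gcd (2 ^ (n - 1)) 2 = 2 := by
          apply Nat.gcd_eq_right
          exact dvd_pow_self 2 (by omega)
        rw [this]
        have : 2 ^ (n - 1) = 2 ^ (n - 2) * 2 := by
          rw [← pow_succ, show n - 2 + 1 = n - 1 by omega]
        rw [this, Nat.mul_div_cancel _ (by norm_num)]
      rw [ho] at hcard
      have : 2 ^ 2 ≤ 2 ^ (n - 2) := Nat.pow_le_pow_right (by norm_num) (by omega)
      omega
    · -- semidihedral
      have hpos : 1 ≤ 2 ^ (n - 3) := Nat.one_le_two_pow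
      have hk : Odd (2 ^ (n - 2) - 1) := by
        have : 2 ^ (n - 2) = 2 * 2 ^ (n - 3) := by
          rw [← pow_succ', show n - 3 + 1 = n - 2 by omega]
        rw [this]
        exact ⟨2 ^ (n - 3) - 1, by omega⟩
      refine ⟨hzcenter_of (hzb_of_odd _ hk h2), Or.inl h1, Or.inr ?_⟩
      rw [h2]
      apply eq_mul_inv_of_mul_eq
      rw [← pow_succ, Nat.sub_add_cancel Nat.one_le_two_pow, hz]
  obtain ⟨hzc, hb2, hconj⟩ := hmain
  have hZeq : Subgroup.center X = Subgroup.zpowers z := by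
    symm
    apply Subgroup.eq_of_le_of_card_ge (Subgroup.zpowers_le.mpr hzc)
    rw [hZ2, Nat.card_zpowers, orderOf_eq_prime (by rw [hz2]) hz1]
  have hZmem : ∀ x ∈ Subgroup.center X, x = 1 ∨ x = z := by
    intro x hx
    rw [hZeq] at hx
    obtain ⟨i, rfl⟩ := Subgroup.mem_zpowers_iff.mp hx
    rcases Int.even_or_odd i with ⟨k, hk⟩ | ⟨k, hk⟩
    · left; rw [hk, ← two_mul, zpow_mul, zpow_ofNat, hz2, one_zpow]
    · right; rw [hk, zpow_add, zpow_mul, zpow_ofNat, hz2, one_zpow, one_mul, zpow_one]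
  have hZa : Subgroup.center X ≤ Subgroup.zpowers a := by
    rw [hZeq, Subgroup.zpowers_le]; exact hza
  -- now the quotient
  have hm : NeZero (2 ^ (n - 2)) := ⟨by positivity⟩
  apply nonempty_mulEquiv_dihedralGroup (2 ^ (n - 2)) (a : X ⧸ Subgroup.center X)
    (b : X ⧸ Subgroup.center X)
  · -- order of ā
    have e : n - 2 = (n - 3) + 1 := by omega
    rw [e]
    apply orderOf_eq_prime_pow
    · intro h1
      rw [← QuotientGroup.mk_pow, QuotientGroup.eq_one_iff] at h1
      have hne : a ^ 2 ^ (n - 3) ≠ 1 := by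
        intro h2
        have h3 := orderOf_dvd_of_pow_eq_one h2
        rw [hord] at h3
        have := (Nat.pow_dvd_pow_iff_le_right (by norm_num : 1 < 2)).mp h3
        omega
      rcases hZmem _ h1 with h2 | h2
      · exact hne h2
      · -- a^(2^(n-3)) = z = a^(2^(n-2)) = (a^(2^(n-3)))^2
        apply hne
        have h3 : z = (a ^ 2 ^ (n - 3)) ^ 2 := by
          rw [hz, ← pow_mul, ← pow_succ, ← e]
        rw [h3, pow_two] at h2
        exact (mul_eq_left.mp h2.symm)
    · rw [← e, ← QuotientGroup.mk_pow, QuotientGroup.eq_one_iff, ← hz]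
      exact hzc
  · -- b̄ ∉ ⟨ā⟩
    intro h1
    obtain ⟨i, hi⟩ := Subgroup.mem_zpowers_iff.mp h1
    have h2 : ((a ^ i : X) : X ⧸ Subgroup.center X) = (b : X ⧸ Subgroup.center X) := by
      rw [← hi]; simp
    have h3 := QuotientGroup.eq.mp h2
    apply hb
    have h4 : b = a ^ i * ((a ^ i)⁻¹ * b) := by group
    rw [h4]
    exact Subgroup.mul_mem _ (Subgroup.zpow_mem_zpowers a i) (hZa h3)
  · -- b̄² = 1
    rw [← QuotientGroup.mk_mul, QuotientGroup.eq_one_iff, ← pow_two]
    rcases hb2 with h1 | h1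
    · rw [h1]; exact Subgroup.one_mem _
    · rw [h1]; exact hzc
  · -- conjugation
    rcases hconj with h1 | h1
    · rw [← QuotientGroup.mk_inv, ← QuotientGroup.mk_mul, ← QuotientGroup.mk_inv,
        ← QuotientGroup.mk_mul, h1]
    · rw [← QuotientGroup.mk_inv, ← QuotientGroup.mk_mul, ← QuotientGroup.mk_inv,
        ← QuotientGroup.mk_mul, h1, QuotientGroup.mk_mul,
        (QuotientGroup.eq_one_iff z).mpr hzc, one_mul]
  · rw [hq, ← pow_succ', show n - 2 + 1 = n - 1 by omega]

end Cfsg.Agent.Lib.Helper1
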