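import Mathlib
import Cfsg.Prelude.Def_SolvableStructure
import Cfsg.Agent.Lib.Helper1.SZHelpers
set_option autoImplicit false
universe u v
open Cfsg
namespace Cfsg.Agent.Lib.Helper1
variable {G : Type u} [Group G]

theorem index_modEq_one_of_normalizer_le [Finite G] (p : ℕ) [hp : Fact p.Prime] (P : Sylow p G)
    (M : Subgroup G) (h : Subgroup.normalizer ((P : Subgroup G) : Set G) ≤ M) :
    M.index ≡ 1 [MOD p] := by
  have hPM : (P : Subgroup G) ≤ M := le_trans Subgroup.le_normalizer h
  have h1 : Nat.card (Sylow p G) ≡ 1 [MOD p] := card_sylow_modEq_one p G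
  have h2 : Nat.card (Sylow p M) ≡ 1 [MOD p] := card_sylow_modEq_one p M
  rw [Sylow.card_eq_index_normalizer P] at h1
  replace h1 : (Subgroup.normalizer ((P : Subgroup G) : Set G)).index ≡ 1 [MOD p] := h1
  rw [Sylow.card_eq_index_normalizer (P.subtype hPM)] at h2
  have h2' : (Subgroup.normalizer (((P : Subgroup G).subgroupOf M : Subgroup M) : Set M)).index
      ≡ 1 [MOD p] := h2
  rw [← Subgroup.subgroupOf_normalizer_eq hPM] at h2'
  replace h2 : (Subgroup.normalizer ((P : Subgroup G) : Set G)).relIndex M ≡ 1 [MOD p] := h2'
  have h3 : (Subgroup.normalizer ((P : Subgroup G) : Set G)).relIndex M * M.index =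
      (Subgroup.normalizer ((P : Subgroup G) : Set G)).index := Subgroup.relIndex_mul_index h
  rw [← h3] at h1
  have h4 : (Subgroup.normalizer ((P : Subgroup G) : Set G)).relIndex M * M.index ≡ 1 * M.index [MOD p] :=
    Nat.ModEq.mul_right _ h2
  rw [one_mul] at h4
  exact h4.symm.trans h1

theorem isCoatom_comap_of_surjective {G' : Type v} [Group G'] (f : G →* G')
    (hf : Function.Surjective f) (M : Subgroup G') (hM : IsCoatom M) : IsCoatom (M.comap f) := by
  constructor
  · intro h
    apply hM.1
    rw [← Subgroup.map_comap_eq_self_of_surjective hf M, h, Subgroup.map_top_of_surjective f hf]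
  · intro K hK
    have h1 : M ≤ K.map f := by
      rw [← Subgroup.map_comap_eq_self_of_surjective hf M]
      exact Subgroup.map_mono hK.le
    have hker : f.ker ≤ K := le_trans (by
      intro x hx
      rw [Subgroup.mem_comap, MonoidHom.mem_ker.mp hx]; exact M.one_mem) hK.le
    have h2 : M ≠ K.map f := by
      intro h
      apply hK.ne
      rw [h, Subgroup.comap_map_eq, sup_of_le_left hker]
    have h3 := hM.2 _ (lt_of_le_of_ne h1 h2)
    have h4 : (K.map f).comap f = K := by rw [Subgroup.comap_map_eq, sup_of_le_left hker]
    rw [← h4, h3, Subgroup.comap_top]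

theorem isSolvable_of_maximal_prime_index_aux (n : ℕ) :
    ∀ (G : Type u) [Group G] [Finite G], Nat.card G = n →
      (∀ M : Subgroup G, IsCoatom M → M.index.Prime) → Group.IsSolvable G := by
  induction n using Nat.strong_induction_on with
  | _ n ih =>
    intro G _ _ hcard h
    rcases subsingleton_or_nontrivial G with hs | hnt
    · infer_instance
    · have hG1 : Nat.card G ≠ 1 := by
        intro h1
        have := (Nat.card_eq_one_iff_unique.mp h1).1
        exact not_subsingleton G this
      have hne : (Nat.card G).primeFactors.Nonempty := by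
        rw [Nat.nonempty_primeFactors]
        have := Nat.card_pos (α := G)
        omega
      obtain ⟨p, hp⟩ : ∃ p, p = (Nat.card G).primeFactors.max' hne := ⟨_, rfl⟩
      have hpmem : p ∈ (Nat.card G).primeFactors := by rw [hp]; exact Finset.max'_mem _ _
      have hpp : p.Prime := Nat.prime_of_mem_primeFactors hpmem
      have hpd : p ∣ Nat.card G := Nat.dvd_of_mem_primeFactors hpmem
      have hmax : ∀ q : ℕ, q.Prime → q ∣ Nat.card G → q ≤ p := by
        intro q hq hqd
        rw [hp]
        apply Finset.le_max'
        exact Nat.mem_primeFactors.mpr ⟨hq, hqd, Nat.card_pos.ne'⟩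
      have : Fact p.Prime := ⟨hpp⟩
      let P : Sylow p G := default
      have hPn : (P : Subgroup G).Normal := by
        rw [← Subgroup.normalizer_eq_top_iff]
        by_contra hne
        obtain ⟨M, hM, hNM⟩ := (eq_top_or_exists_le_coatom _).resolve_left hne
        have hq := h M hM
        have hmod := index_modEq_one_of_normalizer_le p P M hNM
        have hle := hmax _ hq (Subgroup.index_dvd_card M)
        -- M.index ≡ 1 mod p, M.index ≤ p, prime
        have h1 : M.index % p = 1 % p := hmod
        rw [Nat.mod_eq_of_lt hpp.one_lt] at h1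
        rcases lt_or_eq_of_le hle with hlt | heq
        · rw [Nat.mod_eq_of_lt hlt] at h1
          rw [h1] at hq
          exact Nat.not_prime_one hq
        · rw [heq, Nat.mod_self] at h1
          omega
      have hPne : (P : Subgroup G) ≠ ⊥ := by
        intro hbot
        have h1 := P.card_eq_multiplicity
        rw [hbot, Subgroup.card_bot] at h1
        have h2 : 0 < (Nat.card G).factorization p :=
          hpp.factorization_pos_of_dvd Nat.card_pos.ne' hpd
        have h3 := Nat.one_lt_pow h2.ne' hpp.one_lt
        omega
      have hquot : Group.IsSolvable (G ⧸ (P : Subgroup G)) := by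
        apply ih (Nat.card (G ⧸ (P : Subgroup G))) _ (G ⧸ (P : Subgroup G)) rfl
        · intro M' hM'
          have h1 := isCoatom_comap_of_surjective (QuotientGroup.mk' (P : Subgroup G))
            (QuotientGroup.mk'_surjective _) M' hM'
          have h2 := h _ h1
          rwa [Subgroup.index_comap_of_surjective _ (QuotientGroup.mk'_surjective _)] at h2
        · rw [← hcard]
          exact card_quotient_lt_of_ne_bot _ hPne
      have hPs : Group.IsSolvable (P : Subgroup G) := by
        have : Group.IsNilpotent (P : Subgroup G) := P.2.isNilpotent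
        infer_instance
      exact Group.isSolvable_of_ker_le_range (P : Subgroup G).subtype (QuotientGroup.mk' (P : Subgroup G))
        (by rw [QuotientGroup.ker_mk', Subgroup.range_subtype])

theorem isSolvable_of_maximal_prime_index [Finite G]
    (h : ∀ M : Subgroup G, IsCoatom M → M.index.Prime) : Group.IsSolvable G :=
  isSolvable_of_maximal_prime_index_aux _ G rfl h

end Cfsg.Agent.Lib.Helper1
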