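import Mathlib
import Cfsg.Prelude.Def_SolvableStructure
import Cfsg.Agent.Lib.Helper1.MaximalPrimeIndex
import Cfsg.Agent.Lib.Helper1.MaxSubgroupSolvable
import Cfsg.Agent.Lib.Helper1.Hall
set_option autoImplicit false
universe u v
open Cfsg
open scoped Pointwise
namespace Cfsg.Agent.Lib.Helper1
variable {G : Type u} [Group G]

theorem exists_normal_sylow_of_maximal_hall_aux (n : ℕ) :
    ∀ (G : Type u) [Group G] [Finite G] [Group.IsSolvable G] [Nontrivial G], Nat.card G = n →
      (∀ M : Subgroup G, IsCoatom M → (Nat.card M).Coprime M.index) →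
      ∃ p : ℕ, p.Prime ∧ p ∣ Nat.card G ∧ ∀ P : Sylow p G, (P : Subgroup G).Normal := by
  induction n using Nat.strong_induction_on with
  | _ n ih =>
    intro G _ _ _ _ hcard h
    obtain ⟨N, hNn, hNbot, hNmin⟩ := exists_minimal_normal (G := G)
    obtain ⟨hNab, p, hp, hNexp⟩ := minimal_normal_of_solvable N hNbot hNmin
    have hpF : Fact p.Prime := ⟨hp⟩
    have hNpg : IsPGroup p N := by
      intro x
      refine ⟨1, ?_⟩
      rw [pow_one]
      apply Subtype.ext
      simpa using hNexp x x.2
    have hpN : p ∣ Nat.card N := by
      obtain ⟨k, hk⟩ := hNpg.exists_card_eq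
      have hk0 : k ≠ 0 := by
        rintro rfl
        rw [pow_zero] at hk
        exact hNbot (Subgroup.card_eq_one.mp hk)
      rw [hk]; exact dvd_pow_self p hk0
    have hpG : p ∣ Nat.card G := dvd_trans hpN (Subgroup.card_subgroup_dvd_card N)
    have hfinish : ∀ S : Subgroup G, S.Normal → IsPGroup p S → ¬ p ∣ S.index →
        ∃ p : ℕ, p.Prime ∧ p ∣ Nat.card G ∧ ∀ P : Sylow p G, (P : Subgroup G).Normal := by
      intro S hSn hSpg hSidx
      refine ⟨p, hp, hpG, ?_⟩
      intro P
      let S' : Sylow p G := hSpg.toSylow hSidx
      have hS'n : (S' : Subgroup G).Normal := hSn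
      have := Sylow.unique_of_normal S' hS'n
      have : P = S' := Subsingleton.elim _ _
      rw [this]; exact hS'n
    by_cases hcase : ∃ M : Subgroup G, IsCoatom M ∧ ¬ N ≤ M
    · obtain ⟨M, hM, hNM⟩ := hcase
      have hsup : N ⊔ M = ⊤ := by
        apply hM.2
        apply lt_of_le_of_ne le_sup_right
        intro heq
        apply hNM
        rw [heq]; exact le_sup_left
      have hinfn : (N ⊓ M).Normal := inf_normal_of_abelian_normal_sup_eq_top N M
        (fun a ha b hb => by
          have := mul_comm' (⟨a, ha⟩ : N) ⟨b, hb⟩
          exact congrArg Subtype.val this) hsup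
      have hinf : N ⊓ M = ⊥ := by
        rcases hNmin _ hinfn inf_le_left with h1 | h1
        · exact h1
        · exfalso; apply hNM; rw [← h1]; exact inf_le_right
      have hcompl : Subgroup.IsComplement' N M :=
        Subgroup.isComplement'_of_disjoint_and_mul_eq_univ (disjoint_iff.mpr hinf) (by
          rw [← Subgroup.normal_mul, hsup, Subgroup.coe_top])
      apply hfinish N hNn hNpg
      rw [← hcompl.card_mul_card] at *
      have h1 : N.index = Nat.card M := by
        have a1 := N.card_mul_index
        rw [← hcompl.card_mul_card] at a1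
        exact Nat.eq_of_mul_eq_mul_left Nat.card_pos a1
      have h2 : M.index = Nat.card N := by
        have a1 := M.card_mul_index
        rw [← hcompl.card_mul_card, mul_comm (Nat.card N)] at a1
        exact Nat.eq_of_mul_eq_mul_left Nat.card_pos a1
      rw [h1]
      intro hpM
      have h3 := h M hM
      rw [h2] at h3
      exact hp.one_lt.ne' (Nat.eq_one_of_dvd_coprimes h3 hpM hpN)
    · push Not at hcase
      by_cases hNtop : N = ⊤
      · apply hfinish N hNn hNpg
        rw [hNtop, Subgroup.index_top]
        exact hp.one_lt.ne' ∘ Nat.dvd_one.mp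
      · have hnt : Nontrivial (G ⧸ N) := by
          rw [← not_subsingleton_iff_nontrivial]
          intro hs
          apply hNtop
          rw [← Subgroup.index_eq_one, Subgroup.index_eq_card]
          exact Nat.card_eq_one_iff_unique.mpr ⟨hs, ⟨1⟩⟩
        have hsurj := QuotientGroup.mk'_surjective N
        have hq := ih (Nat.card (G ⧸ N))
          (by rw [← hcard]; exact card_quotient_lt_of_ne_bot N hNbot) (G ⧸ N) rfl (by
            intro M' hM'
            have h1 := isCoatom_comap_of_surjective (QuotientGroup.mk' N) hsurj M' hM'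
            have h2 := h _ h1
            rw [Subgroup.index_comap_of_surjective _ hsurj, card_comap_mk'] at h2
            exact Nat.Coprime.coprime_dvd_left (Dvd.intro_left _ rfl) h2)
        obtain ⟨q, hq, hqd, hqn⟩ := hq
        have hqF : Fact q.Prime := ⟨hq⟩
        by_cases hqp : q = p
        · subst hqp
          let S' : Sylow q (G ⧸ N) := default
          have hS'n := hqn S'
          apply hfinish ((S' : Subgroup (G ⧸ N)).comap (QuotientGroup.mk' N)) (hS'n.comap _)
          · apply IsPGroup.comap_of_ker_isPGroup S'.2
            rw [QuotientGroup.ker_mk']; exact hNpg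
          · rw [Subgroup.index_comap_of_surjective _ hsurj]; exact S'.not_dvd_index
        · refine ⟨q, hq, ?_, ?_⟩
          · apply dvd_trans hqd
            rw [← Subgroup.index_eq_card]
            exact Subgroup.index_dvd_card N
          · intro Q
            let Q' : Sylow q (G ⧸ N) := Q.mapSurjective hsurj
            have hQ'n := hqn Q'
            have hSn : ((Q : Subgroup G) ⊔ N).Normal := by
              have := hQ'n.comap (QuotientGroup.mk' N)
              rwa [Sylow.coe_mapSurjective, Subgroup.comap_map_eq, QuotientGroup.ker_mk'] at this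
            have h1 := Sylow.normalizer_sup_eq_top' Q (le_sup_left : (Q : Subgroup G) ≤ (Q : Subgroup G) ⊔ N)
            rw [← Subgroup.normalizer_eq_top_iff]
            by_contra hne
            obtain ⟨M, hM, hNM⟩ := (eq_top_or_exists_le_coatom _).resolve_left hne
            apply hM.1
            rw [eq_top_iff, ← h1]
            exact sup_le hNM (sup_le (le_trans Subgroup.le_normalizer hNM) (hcase M hM))

theorem exists_normal_sylow_of_maximal_hall [Finite G] [Group.IsSolvable G] [Nontrivial G]
    (h : ∀ M : Subgroup G, IsCoatom M → (Nat.card M).Coprime M.index) :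
    ∃ p : ℕ, p.Prime ∧ p ∣ Nat.card G ∧ ∀ P : Sylow p G, (P : Subgroup G).Normal :=
  exists_normal_sylow_of_maximal_hall_aux _ G rfl h

end Cfsg.Agent.Lib.Helper1
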