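import Mathlib
import Cfsg.Agent.Lib.Helper1.Blk18
import Cfsg.Agent.Lib.Helper1.MaxClassNormal3
import Cfsg.Agent.Lib.Helper4.HP3
import Cfsg.Agent.Lib.Helper3.Breadth

/-! # p-groups of maximal class: basic facts (Mathlib indexing of the lower central series) -/

set_option autoImplicit false
set_option maxHeartbeats 4000000
set_option linter.unusedVariables false
set_option linter.unusedSectionVars false
set_option linter.style.longLine false
set_option linter.unusedSimpArgs false

open scoped commutatorElement Pointwise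
universe u

namespace Cfsg.Agent.Lib.Helper1.Mcl

open Cfsg.Agent.Lib.Helper3.Breadth (twoStep mem_twoStep cstep mem_cstep twoStep_ne_top mul_card_le_of_lt)

/-- lower central series of the whole group, Mathlib indexing (`L 0 = ⊤`, `L 1 = G'`). -/
abbrev L (G : Type u) [Group G] (i : ℕ) : Subgroup G := (⊤ : Subgroup G).lowerCentralSeries i

/-- `G` has order `p ^ m` and nilpotency class `m - 1`, `m ≥ 3`. -/
structure MaxCl (p m : ℕ) (G : Type u) [Group G] : Prop where
  card : Nat.card G = p ^ m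
  hm : 3 ≤ m
  top : (⊤ : Subgroup G).lowerCentralSeries (m - 2) ≠ ⊥

variable {G : Type u} [Group G] [Finite G] {p m : ℕ} [hp : Fact p.Prime]

theorem L_anti {i j : ℕ} (h : i ≤ j) : L G j ≤ L G i :=
  Subgroup.lowerCentralSeries_antitone _ h

theorem comm_mem_L {i : ℕ} {x : G} (hx : x ∈ L G i) (g : G) : ⁅x, g⁆ ∈ L G (i + 1) := by
  show ⁅x, g⁆ ∈ (⊤ : Subgroup G).lowerCentralSeries (i + 1)
  rw [Subgroup.lowerCentralSeries_succ]
  exact Subgroup.commutator_mem_commutator hx (Subgroup.mem_top g)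

theorem comm_mem_L' {i : ℕ} {x : G} (hx : x ∈ L G i) (g : G) : ⁅g, x⁆ ∈ L G (i + 1) := by
  have h := comm_mem_L hx g
  have h2 : ⁅g, x⁆ = ⁅x, g⁆⁻¹ := (commutatorElement_inv x g).symm
  rw [h2]; exact Subgroup.inv_mem _ h

theorem comm_mem_LL {i j : ℕ} {x y : G} (hx : x ∈ L G i) (hy : y ∈ L G j) :
    ⁅x, y⁆ ∈ L G (i + j + 1) :=
  Cfsg.Agent.Lib.Helper4.HP.lcs_comm_top G j i (Subgroup.commutator_mem_commutator hx hy)

namespace MaxCl

variable (h : MaxCl p m G)
include h

theorem isPGroup : IsPGroup p G := IsPGroup.of_card h.card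

theorem bot : L G (m - 1) = ⊥ :=
  Cfsg.Agent.Lib.Helper1.Blk.lcs_eq_bot_of_card_pow m (by have := h.hm; omega) G h.card

theorem bot' {i : ℕ} (hi : m - 1 ≤ i) : L G i = ⊥ :=
  le_bot_iff.mp (h.bot ▸ L_anti hi)

theorem ne_bot {i : ℕ} (hi : i ≤ m - 2) : L G i ≠ ⊥ := by
  intro h0
  apply h.top
  have h1 : L G (m - 2) ≤ L G i := L_anti hi
  rw [h0] at h1
  exact le_bot_iff.mp h1

theorem lt_succ {i : ℕ} (hi : i ≤ m - 2) : L G (i + 1) < L G i := by
  haveI : Group.IsNilpotent G := h.isPGroup.isNilpotent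
  exact Cfsg.Agent.Lib.Helper1.lowerCentralSeries_lt_of_ne_bot i (h.ne_bot hi)

theorem card_step {i : ℕ} (hi : i ≤ m - 2) : p * Nat.card (L G (i + 1)) ≤ Nat.card (L G i) :=
  mul_card_le_of_lt h.isPGroup (h.lt_succ hi)

theorem card_chain : ∀ (j i : ℕ), i + j ≤ m - 1 →
    p ^ j * Nat.card (L G (i + j)) ≤ Nat.card (L G i) := by
  intro j
  induction j with
  | zero => intro i _; simp
  | succ j ih =>
    intro i hij
    have h1 := ih i (by omega)
    have h2 := h.card_step (i := i + j) (by omega)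
    calc p ^ (j + 1) * Nat.card (L G (i + (j + 1)))
        = p ^ j * (p * Nat.card (L G (i + j + 1))) := by rw [pow_succ, mul_assoc, add_assoc]
      _ ≤ p ^ j * Nat.card (L G (i + j)) := Nat.mul_le_mul_left _ h2
      _ ≤ _ := h1

theorem card_L_one : Nat.card (L G 1) = p ^ (m - 2) := by
  have h1 : (commutator G).index = p ^ 2 :=
    Cfsg.Agent.Lib.Helper1.Blk.index_commutator_of_maxclass m (by have := h.hm; omega) G h.card h.top
  have h2 : Nat.card (commutator G) * (commutator G).index = Nat.card G :=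
    Subgroup.card_mul_index _
  rw [h1, h.card] at h2
  have h3 : p ^ m = p ^ (m - 2) * p ^ 2 := by
    rw [← pow_add]; congr 1; have := h.hm; omega
  rw [h3] at h2
  have hp0 : 0 < p ^ 2 := pow_pos hp.out.pos 2
  exact Nat.eq_of_mul_eq_mul_right hp0 h2

theorem card_L {i : ℕ} (hi1 : 1 ≤ i) (hi : i ≤ m - 1) : Nat.card (L G i) = p ^ (m - 1 - i) := by
  have hm := h.hm
  apply le_antisymm
  · have h1 := h.card_chain (i - 1) 1 (by omega)
    rw [h.card_L_one, show 1 + (i - 1) = i by omega] at h1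
    have h2 : p ^ (m - 2) = p ^ (i - 1) * p ^ (m - 1 - i) := by
      rw [← pow_add]; congr 1; omega
    rw [h2] at h1
    exact Nat.le_of_mul_le_mul_left h1 (pow_pos hp.out.pos _)
  · have h1 := h.card_chain (m - 1 - i) i (by omega)
    rw [show i + (m - 1 - i) = m - 1 by omega, h.bot, Subgroup.card_bot, mul_one] at h1
    exact h1

theorem card_L_succ {i : ℕ} (hi1 : 1 ≤ i) (hi : i ≤ m - 2) :
    Nat.card (L G i) = p * Nat.card (L G (i + 1)) := by
  rw [h.card_L hi1 (by omega), h.card_L (by omega) (by omega), ← pow_succ']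
  congr 1; omega

theorem index_L_one : (L G 1).index = p ^ 2 :=
  Cfsg.Agent.Lib.Helper1.Blk.index_commutator_of_maxclass m (by have := h.hm; omega) G h.card h.top

/-- an element of `L i` outside `L (i+1)` generates `L i` modulo `L (i+1)`. -/
theorem gen {i : ℕ} (hi1 : 1 ≤ i) (hi : i ≤ m - 2) {x : G} (hx : x ∈ L G i)
    (hx' : x ∉ L G (i + 1)) : Subgroup.zpowers x ⊔ L G (i + 1) = L G i := by
  have hle : Subgroup.zpowers x ⊔ L G (i + 1) ≤ L G i :=
    sup_le ((Subgroup.zpowers_le).mpr hx) (L_anti (Nat.le_succ i))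
  have hlt : L G (i + 1) < Subgroup.zpowers x ⊔ L G (i + 1) := by
    refine lt_of_le_of_ne le_sup_right ?_
    intro he
    apply hx'
    rw [he]
    exact le_sup_left (a := Subgroup.zpowers x) (Subgroup.mem_zpowers x)
  have h1 := mul_card_le_of_lt h.isPGroup hlt
  rw [← h.card_L_succ hi1 hi] at h1
  exact Subgroup.eq_of_le_of_card_ge hle h1

/-- elements of the last nontrivial term are central. -/
theorem central {z : G} (hz : z ∈ L G (m - 2)) (g : G) : z * g = g * z := by
  have h1 : ⁅z, g⁆ ∈ L G (m - 2 + 1) := comm_mem_L hz g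
  rw [h.bot' (by omega), Subgroup.mem_bot] at h1
  exact (commutatorElement_eq_one_iff_mul_comm).mp h1

end MaxCl

end Cfsg.Agent.Lib.Helper1.Mcl
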