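import Mathlib
import Cfsg.Agent.Lib.Helper1.Mcl1

/-! # two-step centralizers in p-groups of maximal class -/

set_option autoImplicit false
set_option maxHeartbeats 4000000
set_option linter.unusedVariables false
set_option linter.unusedSectionVars false
set_option linter.style.longLine false
set_option linter.unusedSimpArgs false

open scoped commutatorElement Pointwise
universe u

namespace Cfsg.Agent.Lib.Helper1.Mcl

open Cfsg.Agent.Lib.Helper3.Breadth (twoStep mem_twoStep cstep mem_cstep twoStep_ne_top mul_card_le_of_lt)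

variable {G : Type u} [Group G] [Finite G] {p m : ℕ} [hp : Fact p.Prime]

theorem comm_mul_right (x g k : G) : ⁅x, g * k⁆ = ⁅x, g⁆ * (g * ⁅x, k⁆ * g⁻¹) := by
  simp only [commutatorElement_def]; group

theorem L_one_le_twoStep (i : ℕ) : L G 1 ≤ twoStep G i := by
  intro g hg
  rw [mem_twoStep]
  intro x hx
  have := comm_mem_LL hx hg
  exact this

theorem twoStep_normal (i : ℕ) : (twoStep G i).Normal := by
  constructor
  intro n hn g
  have h1 : g * n * g⁻¹ = ⁅g, n⁆ * n := by simp only [commutatorElement_def]; group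
  rw [h1]
  refine Subgroup.mul_mem _ (L_one_le_twoStep i ?_) hn
  show ⁅g, n⁆ ∈ (⊤ : Subgroup G).lowerCentralSeries 1
  rw [Subgroup.top_lowerCentralSeries_one]
  exact Subgroup.commutator_mem_commutator (Subgroup.mem_top g) (Subgroup.mem_top n)

namespace MaxCl

variable (h : MaxCl p m G)
include h

/-- membership in the two-step centralizer can be tested on a generator. -/
theorem mem_twoStep_iff {i : ℕ} (hi1 : 1 ≤ i) (hi : i ≤ m - 2) {x : G} (hx : x ∈ L G i)
    (hx' : x ∉ L G (i + 1)) (k : G) : k ∈ twoStep G i ↔ ⁅x, k⁆ ∈ L G (i + 2) := by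
  constructor
  · intro hk; exact hk x hx
  · intro hk
    rw [mem_twoStep]
    intro y hy
    have h1 : L G i ≤ cstep (i + 2) k := by
      rw [← h.gen hi1 hi hx hx']
      refine sup_le ((Subgroup.zpowers_le).mpr ?_) ?_
      · exact hk
      · intro z hz
        rw [mem_cstep]
        exact comm_mem_L hz k
    exact h1 hy

theorem twoStep_ne_top' {i : ℕ} (hi : i ≤ m - 3) : twoStep G i ≠ ⊤ := by
  have hm := h.hm
  refine twoStep_ne_top (c := m - 1) h.bot ?_ (by omega)
  intro k hk
  exact h.ne_bot (by omega)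

theorem relIndex_L {i : ℕ} (hi1 : 1 ≤ i) (hi : i ≤ m - 2) : (L G (i + 1)).relIndex (L G i) = p := by
  have h3 := Cfsg.Agent.Lib.Helper2.card_mul_relIndex (L_anti (G := G) (Nat.le_succ i))
  rw [h.card_L_succ hi1 hi] at h3
  have hpos : 0 < Nat.card (L G (i + 1)) := Nat.card_pos
  have : Nat.card (L G (i + 1)) * (L G (i + 1)).relIndex (L G i) =
      Nat.card (L G (i + 1)) * p := by rw [h3]; ring
  exact Nat.eq_of_mul_eq_mul_left hpos this

theorem index_twoStep_le {i : ℕ} (hi1 : 1 ≤ i) (hi : i ≤ m - 3) : (twoStep G i).index ≤ p := by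
  have hm := h.hm
  obtain ⟨x, hx, hx'⟩ := SetLike.exists_of_lt (h.lt_succ (i := i) (by omega))
  let Q := ↥(L G (i + 1)) ⧸ (L G (i + 2)).subgroupOf (L G (i + 1))
  have hQ : Nat.card Q = p := by
    have := h.relIndex_L (i := i + 1) (by omega) (by omega)
    rw [Subgroup.relIndex, Subgroup.index_eq_card] at this
    exact this
  let f : G → Q := fun g => QuotientGroup.mk ⟨⁅x, g⁆, comm_mem_L hx g⟩
  have hf : ∀ g k : G, f g = f k → g⁻¹ * k ∈ twoStep G i := by
    intro g k hgk
    have h1 : (⟨⁅x, g⁆, comm_mem_L hx g⟩ : ↥(L G (i + 1)))⁻¹ * ⟨⁅x, k⁆, comm_mem_L hx k⟩ ∈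
        (L G (i + 2)).subgroupOf (L G (i + 1)) := QuotientGroup.eq.mp hgk
    rw [Subgroup.mem_subgroupOf] at h1
    have h2 : ⁅x, g⁆⁻¹ * ⁅x, k⁆ ∈ L G (i + 2) := h1
    rw [h.mem_twoStep_iff hi1 (by omega) hx hx']
    have h3 : ⁅x, g⁻¹ * k⁆ = g⁻¹ * (⁅x, g⁆⁻¹ * ⁅x, k⁆) * g⁻¹⁻¹ := by
      simp only [commutatorElement_def]; group
    rw [h3]
    haveI : (L G (i + 2)).Normal := inferInstance
    exact Subgroup.Normal.conj_mem inferInstance _ h2 _
  have hinj : Function.Injective (fun a : G ⧸ twoStep G i => f (Quotient.out a)) := by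
    intro a b hab
    have h1 := hf _ _ hab
    have h2 : ((Quotient.out a : G) : G ⧸ twoStep G i) = (Quotient.out b : G) :=
      QuotientGroup.eq.mpr h1
    have ha : ((Quotient.out a : G) : G ⧸ twoStep G i) = a := Quotient.out_eq' a
    have hb : ((Quotient.out b : G) : G ⧸ twoStep G i) = b := Quotient.out_eq' b
    rw [ha, hb] at h2
    exact h2
  haveI : Finite Q := Nat.finite_of_card_ne_zero (by rw [hQ]; exact hp.out.ne_zero)
  have := Nat.card_le_card_of_injective _ hinj
  rw [hQ, ← Subgroup.index_eq_card] at this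
  exact this

theorem index_twoStep {i : ℕ} (hi1 : 1 ≤ i) (hi : i ≤ m - 3) : (twoStep G i).index = p := by
  have h1 := h.index_twoStep_le hi1 hi
  have h2 : (twoStep G i).index ∣ Nat.card G := Subgroup.index_dvd_card _
  rw [h.card] at h2
  obtain ⟨k, hk, hk2⟩ := (Nat.dvd_prime_pow hp.out).mp h2
  have hk0 : k ≠ 0 := by
    intro h0
    rw [h0, pow_zero] at hk2
    exact h.twoStep_ne_top' hi (Subgroup.index_eq_one.mp hk2)
  have hk1 : k ≤ 1 := by
    by_contra hcon
    push_neg at hcon
    have : p ^ 2 ≤ p ^ k := Nat.pow_le_pow_right hp.out.pos hcon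
    rw [← hk2] at this
    have hp2 : p < p ^ 2 := by
      have := hp.out.one_lt
      nlinarith
    omega
  have : k = 1 := by omega
  rw [hk2, this, pow_one]

theorem card_twoStep {i : ℕ} (hi1 : 1 ≤ i) (hi : i ≤ m - 3) :
    Nat.card (twoStep G i) = p ^ (m - 1) := by
  have h1 := Subgroup.card_mul_index (twoStep G i)
  rw [h.index_twoStep hi1 hi, h.card] at h1
  have h2 : p ^ m = p ^ (m - 1) * p := by
    rw [← pow_succ]; congr 1; have := h.hm; omega
  rw [h2] at h1
  exact Nat.eq_of_mul_eq_mul_right hp.out.pos h1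

/-- if `a, b` together with `L 1` generate `G`, then `⁅a, b⁆ ∉ L 2`. -/
theorem comm_not_mem (a b : G) (hgen : Subgroup.closure ({a, b} : Set G) ⊔ L G 1 = ⊤) :
    ⁅a, b⁆ ∉ L G 2 := by
  intro hab
  have hm := h.hm
  apply h.twoStep_ne_top' (i := 0) (by omega)
  rw [eq_top_iff, ← hgen]
  have hba : ⁅b, a⁆ ∈ L G 2 := by
    have : ⁅b, a⁆ = ⁅a, b⁆⁻¹ := (commutatorElement_inv a b).symm
    rw [this]; exact Subgroup.inv_mem _ hab
  have key : ∀ c d : G, Subgroup.closure ({c, d} : Set G) ⊔ L G 1 = ⊤ → ⁅d, c⁆ ∈ L G 2 →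
      c ∈ twoStep G 0 := by
    intro c d hg hdc
    rw [mem_twoStep]
    intro g _
    have h1 : (⊤ : Subgroup G) ≤ cstep (0 + 2) c := by
      rw [← hg]
      refine sup_le ((Subgroup.closure_le _).mpr ?_) ?_
      · intro y hy
        rcases hy with rfl | hy
        · show y ∈ cstep (0 + 2) y
          rw [mem_cstep, commutatorElement_self]; exact Subgroup.one_mem _
        · rw [Set.mem_singleton_iff] at hy
          subst hy
          exact hdc
      · intro z hz
        rw [mem_cstep]
        exact comm_mem_L hz c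
    exact h1 (Subgroup.mem_top g)
  refine sup_le ((Subgroup.closure_le _).mpr ?_) (L_one_le_twoStep 0)
  intro y hy
  rcases hy with rfl | hy
  · exact key y b hgen hba
  · rw [Set.mem_singleton_iff] at hy
    subst hy
    refine key y a ?_ hab
    rw [← hgen, Set.pair_comm]

/-- a maximal subgroup over `L 1`, an element outside it and an element of it outside `L 1`
generate `G` modulo `L 1`. -/
theorem closure_sup_eq_top (M : Subgroup G) (hM1 : L G 1 ≤ M) (hMi : M.index = p) {s c : G}
    (hs : s ∉ M) (hc : c ∈ M) (hc' : c ∉ L G 1) :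
    Subgroup.closure ({s, c} : Set G) ⊔ L G 1 = ⊤ := by
  have hm := h.hm
  -- first `zpowers c ⊔ L 1 = M`
  have hcardM : Nat.card M = p ^ (m - 1) := by
    have h1 := Subgroup.card_mul_index M
    rw [hMi, h.card] at h1
    have h2 : p ^ m = p ^ (m - 1) * p := by rw [← pow_succ]; congr 1; omega
    rw [h2] at h1
    exact Nat.eq_of_mul_eq_mul_right hp.out.pos h1
  have hM : Subgroup.zpowers c ⊔ L G 1 = M := by
    have hle : Subgroup.zpowers c ⊔ L G 1 ≤ M := sup_le ((Subgroup.zpowers_le).mpr hc) hM1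
    have hlt : L G 1 < Subgroup.zpowers c ⊔ L G 1 := by
      refine lt_of_le_of_ne le_sup_right ?_
      intro he
      apply hc'
      rw [he]
      exact le_sup_left (a := Subgroup.zpowers c) (Subgroup.mem_zpowers c)
    have h1 := mul_card_le_of_lt h.isPGroup hlt
    rw [h.card_L_one] at h1
    apply Subgroup.eq_of_le_of_card_ge hle
    rw [hcardM]
    calc p ^ (m - 1) = p * p ^ (m - 2) := by rw [← pow_succ']; congr 1; omega
      _ ≤ _ := h1
  have hle2 : M ≤ Subgroup.closure ({s, c} : Set G) ⊔ L G 1 := by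
    rw [← hM]
    refine sup_le ?_ le_sup_right
    refine le_trans ?_ le_sup_left
    rw [Subgroup.zpowers_le]
    exact Subgroup.subset_closure (by simp)
  have hlt2 : M < Subgroup.closure ({s, c} : Set G) ⊔ L G 1 := by
    refine lt_of_le_of_ne hle2 ?_
    intro he
    apply hs
    rw [he]
    exact le_sup_left (a := Subgroup.closure ({s, c} : Set G)) (Subgroup.subset_closure (by simp))
  have h1 := mul_card_le_of_lt h.isPGroup hlt2
  rw [hcardM] at h1
  rw [eq_top_iff]
  intro g _
  have h2 : Nat.card G ≤ Nat.card ↥(Subgroup.closure ({s, c} : Set G) ⊔ L G 1) := by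
    rw [h.card]
    calc p ^ m = p * p ^ (m - 1) := by rw [← pow_succ']; congr 1; omega
      _ ≤ _ := h1
  have h3 : Subgroup.closure ({s, c} : Set G) ⊔ L G 1 = ⊤ := by
    apply Subgroup.eq_top_of_card_eq
    exact le_antisymm (Subgroup.card_le_card_group _) h2
  rw [h3]; exact Subgroup.mem_top g

end MaxCl

end Cfsg.Agent.Lib.Helper1.Mcl
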