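import Mathlib
import Cfsg.Agent.Lib.Helper1.Mcl2

/-! # uniform elements in p-groups of maximal class; quotients -/

set_option autoImplicit false
set_option maxHeartbeats 4000000
set_option linter.unusedVariables false
set_option linter.unusedSectionVars false
set_option linter.style.longLine false
set_option linter.unusedSimpArgs false

open scoped commutatorElement Pointwise
universe u

namespace Cfsg.Agent.Lib.Helper1.Mcl

open Cfsg.Agent.Lib.Helper3.Breadth (twoStep mem_twoStep cstep mem_cstep twoStep_ne_top mul_card_le_of_lt)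

variable {G : Type u} [Group G] [Finite G] {p m : ℕ} [hp : Fact p.Prime]

/-- uniform elements: outside every two-step centralizer. -/
def IsUniform (m : ℕ) (s : G) : Prop := ∀ i, 1 ≤ i → i ≤ m - 3 → s ∉ twoStep G i

namespace MaxCl

variable (h : MaxCl p m G)
include h

theorem uniform_centralizer (hm4 : 4 ≤ m) {s : G} (hs : IsUniform m s) {c : G}
    (hcs : c * s = s * c) (hcM : c ∈ twoStep G 1) : c ∈ L G (m - 2) := by
  by_contra hc
  have hex : ∃ j, c ∉ L G j := ⟨m - 2, hc⟩
  classical
  set j₀ := Nat.find hex with hj₀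
  have hj₀spec : c ∉ L G j₀ := Nat.find_spec hex
  have hj₀le : j₀ ≤ m - 2 := Nat.find_min' hex hc
  have hj₀pos : j₀ ≠ 0 := by
    intro h0
    rw [h0] at hj₀spec
    exact hj₀spec (Subgroup.mem_top c)
  obtain ⟨i, hi⟩ : ∃ i, j₀ = i + 1 := Nat.exists_eq_succ_of_ne_zero hj₀pos
  have hci : c ∈ L G i := by
    by_contra hcon
    have := Nat.find_min' hex hcon
    omega
  rw [hi] at hj₀spec
  have hcomm : ⁅c, s⁆ = 1 := commutatorElement_eq_one_iff_mul_comm.mpr hcs
  rcases Nat.eq_zero_or_pos i with h0 | hpos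
  · subst h0
    have hsM : s ∉ twoStep G 1 := hs 1 le_rfl (by omega)
    have hgen := h.closure_sup_eq_top (twoStep G 1) (L_one_le_twoStep 1)
      (h.index_twoStep le_rfl (by omega)) hsM hcM hj₀spec
    apply h.comm_not_mem s c hgen
    have : ⁅s, c⁆ = 1 := commutatorElement_eq_one_iff_mul_comm.mpr hcs.symm
    rw [this]; exact Subgroup.one_mem _
  · have h1 : s ∈ twoStep G i := by
      rw [h.mem_twoStep_iff hpos (by omega) hci hj₀spec, hcomm]
      exact Subgroup.one_mem _
    exact hs i hpos (by omega) h1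

theorem card_centralizer_le (hm4 : 4 ≤ m) {s : G} (hs : IsUniform m s) :
    Nat.card (Subgroup.centralizer ({s} : Set G)) ≤ p ^ 2 := by
  set C := Subgroup.centralizer ({s} : Set G) with hC
  set M := twoStep G 1 with hM
  have h1 : M ⊓ C ≤ L G (m - 2) := by
    intro c hc
    have hc2 : c ∈ C := hc.2
    rw [hC, Subgroup.mem_centralizer_singleton_iff] at hc2
    exact h.uniform_centralizer hm4 hs hc2 hc.1
  have h2 : Nat.card ↥(M ⊓ C) ≤ p := by
    have := Subgroup.card_le_of_le h1
    rw [h.card_L (by omega) (by omega)] at this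
    have h3 : m - 1 - (m - 2) = 1 := by omega
    rw [h3, pow_one] at this
    exact this
  have h3 := Cfsg.Agent.Lib.Helper2.card_mul_relIndex (inf_le_right : M ⊓ C ≤ C)
  rw [Subgroup.inf_relIndex_right] at h3
  haveI : M.Normal := twoStep_normal 1
  have h4 : M.relIndex C ∣ M.index := Subgroup.relIndex_dvd_index_of_normal M C
  rw [hM, h.index_twoStep le_rfl (by omega)] at h4
  have h5 : (twoStep G 1).relIndex C ≤ p := Nat.le_of_dvd hp.out.pos h4
  rw [← h3, pow_two]
  exact Nat.mul_le_mul h2 h5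

/-- the conjugacy class of a uniform element `s` is the coset `s * L 1`. -/
theorem exists_conj_eq (hm4 : 4 ≤ m) {s : G} (hs : IsUniform m s) {x : G} (hx : x ∈ L G 1) :
    ∃ g : G, g * s * g⁻¹ = s * x := by
  set C := Subgroup.centralizer ({s} : Set G) with hC
  have hmem : ∀ g : G, s⁻¹ * (g * s * g⁻¹) ∈ L G 1 := by
    intro g
    have : s⁻¹ * (g * s * g⁻¹) = ⁅s⁻¹, g⁆ := by simp only [commutatorElement_def]; group
    rw [this]
    show ⁅s⁻¹, g⁆ ∈ (⊤ : Subgroup G).lowerCentralSeries 1
    rw [Subgroup.top_lowerCentralSeries_one]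
    exact Subgroup.commutator_mem_commutator (Subgroup.mem_top _) (Subgroup.mem_top _)
  let f : G ⧸ C → ↥(L G 1) := fun a => ⟨s⁻¹ * (Quotient.out a * s * (Quotient.out a)⁻¹), hmem _⟩
  have hinj : Function.Injective f := by
    intro a b hab
    have h1 : s⁻¹ * (Quotient.out a * s * (Quotient.out a)⁻¹) =
        s⁻¹ * (Quotient.out b * s * (Quotient.out b)⁻¹) := congrArg Subtype.val hab
    have h2 : Quotient.out a * s * (Quotient.out a)⁻¹ = Quotient.out b * s * (Quotient.out b)⁻¹ :=
      mul_left_cancel h1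
    have h3 : (Quotient.out a)⁻¹ * Quotient.out b ∈ C := by
      show (Quotient.out a)⁻¹ * Quotient.out b ∈ Subgroup.centralizer ({s} : Set G)
      rw [Subgroup.mem_centralizer_singleton_iff]
      have : (Quotient.out a)⁻¹ * (Quotient.out a * s * (Quotient.out a)⁻¹) * Quotient.out b =
          (Quotient.out a)⁻¹ * (Quotient.out b * s * (Quotient.out b)⁻¹) * Quotient.out b := by
        rw [h2]
      have e1 : (Quotient.out a)⁻¹ * (Quotient.out a * s * (Quotient.out a)⁻¹) * Quotient.out b =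
          s * ((Quotient.out a)⁻¹ * Quotient.out b) := by group
      have e2 : (Quotient.out a)⁻¹ * (Quotient.out b * s * (Quotient.out b)⁻¹) * Quotient.out b =
          (Quotient.out a)⁻¹ * Quotient.out b * s := by group
      rw [e1, e2] at this
      exact this.symm
    have h4 : ((Quotient.out a : G) : G ⧸ C) = (Quotient.out b : G) := QuotientGroup.eq.mpr h3
    have ha : ((Quotient.out a : G) : G ⧸ C) = a := Quotient.out_eq' a
    have hb : ((Quotient.out b : G) : G ⧸ C) = b := Quotient.out_eq' b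
    rw [ha, hb] at h4
    exact h4
  have hcard : Nat.card ↥(L G 1) ≤ Nat.card (G ⧸ C) := by
    rw [← Subgroup.index_eq_card, h.card_L_one]
    have h1 := Subgroup.card_mul_index C
    rw [h.card] at h1
    have h2 := h.card_centralizer_le hm4 hs
    have h3 : p ^ m = p ^ 2 * p ^ (m - 2) := by rw [← pow_add]; congr 1; omega
    have h4 : p ^ 2 * p ^ (m - 2) ≤ p ^ 2 * C.index := by
      rw [← h3, ← h1]
      exact Nat.mul_le_mul_right _ h2
    exact Nat.le_of_mul_le_mul_left h4 (pow_pos hp.out.pos 2)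
  have hbij := hinj.bijective_of_nat_card_le hcard
  obtain ⟨a, ha⟩ := hbij.2 ⟨x, hx⟩
  refine ⟨Quotient.out a, ?_⟩
  have h1 : s⁻¹ * (Quotient.out a * s * (Quotient.out a)⁻¹) = x := congrArg Subtype.val ha
  rw [← h1]; group

theorem pow_mem_twoStep {i : ℕ} (hi1 : 1 ≤ i) (hi : i ≤ m - 3) (s : G) : s ^ p ∈ twoStep G i := by
  haveI : (twoStep G i).Normal := twoStep_normal i
  have h1 : Nat.card (G ⧸ twoStep G i) = p := by
    rw [← Subgroup.index_eq_card]; exact h.index_twoStep hi1 hi
  have h2 : ((s : G ⧸ twoStep G i)) ^ p = 1 := by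
    rw [← h1]; exact pow_card_eq_one'
  rw [← QuotientGroup.mk_pow] at h2
  exact (QuotientGroup.eq_one_iff _).mp h2

theorem uniform_pow_mem (hm4 : 4 ≤ m) {s : G} (hs : IsUniform m s) : s ^ p ∈ L G (m - 2) := by
  apply h.uniform_centralizer hm4 hs
  · exact (Commute.pow_self s p)
  · exact h.pow_mem_twoStep le_rfl (by omega) s

/-- the quotient by the last nontrivial term is again of maximal class. -/
theorem quot (hm4 : 4 ≤ m) : MaxCl p (m - 1) (G ⧸ L G (m - 2)) := by
  have hm := h.hm
  refine ⟨?_, by omega, ?_⟩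
  · rw [← Subgroup.index_eq_card]
    have h1 := Subgroup.card_mul_index (L G (m - 2))
    rw [h.card_L (by omega) (by omega), h.card, show m - 1 - (m - 2) = 1 by omega, pow_one] at h1
    have h2 : p ^ m = p * p ^ (m - 1) := by rw [← pow_succ']; congr 1; omega
    rw [h2] at h1
    exact Nat.eq_of_mul_eq_mul_left hp.out.pos h1
  · rw [← Cfsg.Agent.Lib.Helper1.Blk.lcs_map (QuotientGroup.mk' (L G (m - 2)))
      (QuotientGroup.mk'_surjective _) (m - 1 - 2)]
    intro h0
    rw [Subgroup.map_eq_bot_iff, QuotientGroup.ker_mk'] at h0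
    have h1 := h.lt_succ (i := m - 3) (by omega)
    rw [show m - 3 + 1 = m - 2 by omega] at h1
    rw [show m - 1 - 2 = m - 3 by omega] at h0
    exact absurd h0 (not_le_of_gt h1)

/-- two-step centralizers of the quotient pull back to those of `G`. -/
theorem mem_twoStep_quot_iff (hm4 : 4 ≤ m) {i : ℕ} (hi : i ≤ m - 4) (g : G) :
    (QuotientGroup.mk' (L G (m - 2)) g) ∈ twoStep (G ⧸ L G (m - 2)) i ↔ g ∈ twoStep G i := by
  set π := QuotientGroup.mk' (L G (m - 2)) with hπ
  have hsurj : Function.Surjective π := QuotientGroup.mk'_surjective _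
  have hmap : ∀ k, (L G k).map π = L (G ⧸ L G (m - 2)) k := fun k =>
    Cfsg.Agent.Lib.Helper1.Blk.lcs_map π hsurj k
  constructor
  · intro hg
    rw [mem_twoStep]
    intro y hy
    have h1 : π y ∈ L (G ⧸ L G (m - 2)) i := by
      rw [← hmap]; exact Subgroup.mem_map_of_mem _ hy
    have h2 := hg (π y) h1
    have h3 : ⁅π y, π g⁆ = π ⁅y, g⁆ := (map_commutatorElement π y g).symm
    rw [h3] at h2
    have h2' : π ⁅y, g⁆ ∈ (L G (i + 2)).map π := by rw [hmap]; exact h2
    obtain ⟨t, ht, hte⟩ := h2'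
    have h4 : t⁻¹ * ⁅y, g⁆ ∈ L G (m - 2) := by
      have : π (t⁻¹ * ⁅y, g⁆) = 1 := by rw [map_mul, map_inv, hte, inv_mul_cancel]
      rw [← QuotientGroup.ker_mk' (L G (m - 2))]
      exact this
    have h5 : t⁻¹ * ⁅y, g⁆ ∈ L G (i + 2) := L_anti (by omega) h4
    have : ⁅y, g⁆ = t * (t⁻¹ * ⁅y, g⁆) := by group
    rw [this]
    exact Subgroup.mul_mem _ ht h5
  · intro hg
    rw [mem_twoStep]
    intro y hy
    have hy' : y ∈ (L G i).map π := by rw [hmap]; exact hy
    obtain ⟨y0, hy0, rfl⟩ := hy'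
    have h3 : ⁅π y0, π g⁆ = π ⁅y0, g⁆ := (map_commutatorElement π y0 g).symm
    rw [h3]
    have : π ⁅y0, g⁆ ∈ (L G (i + 2)).map π := Subgroup.mem_map_of_mem _ (hg y0 hy0)
    rw [hmap] at this
    exact this

end MaxCl

end Cfsg.Agent.Lib.Helper1.Mcl
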