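import Mathlib
import Cfsg.Agent.Lib.Helper1.Mcl3

/-! # 3-groups of maximal class: the basic relation and cubes -/

set_option autoImplicit false
set_option maxHeartbeats 4000000
set_option linter.unusedVariables false
set_option linter.unusedSectionVars false
set_option linter.style.longLine false
set_option linter.unusedSimpArgs false

open scoped commutatorElement Pointwise
universe u

namespace Cfsg.Agent.Lib.Helper1.Mcl

open Cfsg.Agent.Lib.Helper3.Breadth (twoStep mem_twoStep cstep mem_cstep twoStep_ne_top mul_card_le_of_lt)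

variable {G : Type u} [Group G] [Finite G] {m : ℕ}

/-- two proper subgroups do not cover a group. -/
theorem exists_not_mem_of_ne_top {M Q : Subgroup G} (hM : M ≠ ⊤) (hQ : Q ≠ ⊤) :
    ∃ s : G, s ∉ M ∧ s ∉ Q := by
  by_contra hcon
  push_neg at hcon
  obtain ⟨a, ha⟩ : ∃ a, a ∉ M := by
    by_contra h1; push_neg at h1
    exact hM (eq_top_iff.mpr fun x _ => h1 x)
  obtain ⟨b, hb⟩ : ∃ b, b ∉ Q := by
    by_contra h1; push_neg at h1
    exact hQ (eq_top_iff.mpr fun x _ => h1 x)
  have haQ : a ∈ Q := by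
    by_contra h1
    exact h1 (hcon a ha)
  have hbM : b ∈ M := by
    by_contra h1
    exact hb (hcon b h1)
  by_cases hab : a * b ∈ M
  · apply ha
    have : a = a * b * b⁻¹ := by group
    rw [this]; exact Subgroup.mul_mem _ hab (Subgroup.inv_mem _ hbM)
  · have h2 := hcon _ hab
    apply hb
    have : b = a⁻¹ * (a * b) := by group
    rw [this]; exact Subgroup.mul_mem _ (Subgroup.inv_mem _ haQ) h2

namespace MaxCl

variable (h : MaxCl 3 m G)
include h

/-- the basic relation: for a uniform element `s` and `x ∈ L 1`, with `x' = ⁅s, x⁆` and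
`x'' = ⁅s, x'⁆`:  `x' x · x'' x' x' x · x = 1`. -/
theorem rel (hm4 : 4 ≤ m) {s : G} (hs : IsUniform m s) {x : G} (hx : x ∈ L G 1) :
    ⁅s, x⁆ * x * (⁅s, ⁅s, x⁆⁆ * ⁅s, x⁆ * ⁅s, x⁆ * x) * x = 1 := by
  obtain ⟨g, hg⟩ := h.exists_conj_eq hm4 hs hx
  have hs3 : s ^ 3 ∈ L G (m - 2) := h.uniform_pow_mem hm4 hs
  have hc := h.central hs3
  have h1 : (s * x) ^ 3 = s ^ 3 := by
    rw [← hg, conj_pow]
    have := hc g
    calc g * s ^ 3 * g⁻¹ = s ^ 3 * g * g⁻¹ := by rw [← this]
      _ = s ^ 3 := by group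
  have h2 : (s * x) ^ 3 = (⁅s, x⁆ * x * (⁅s, ⁅s, x⁆⁆ * ⁅s, x⁆ * ⁅s, x⁆ * x)) * (s ^ 3 * x * (s ^ 3)⁻¹) * s ^ 3 := by
    have e3 : (s * x) ^ 3 = (s * x) * (s * x) * (s * x) := by rw [pow_succ, pow_two]
    rw [e3]
    simp only [commutatorElement_def]; group
  have h3 : s ^ 3 * x * (s ^ 3)⁻¹ = x := by
    rw [hc x]; group
  rw [h3, h1] at h2
  have h4 : (⁅s, x⁆ * x * (⁅s, ⁅s, x⁆⁆ * ⁅s, x⁆ * ⁅s, x⁆ * x) * x) * s ^ 3 = 1 * s ^ 3 := by
    rw [one_mul]; exact h2.symm
  exact mul_right_cancel h4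

/-- cubes drop two steps in the lower central series. -/
theorem cube_mem (hm4 : 4 ≤ m) {s : G} (hs : IsUniform m s) :
    ∀ (k i : ℕ), 1 ≤ i → m - 1 ≤ i + k → ∀ x ∈ L G i, x ^ 3 ∈ L G (i + 2) := by
  intro k
  induction k with
  | zero =>
    intro i hi1 hik x hx
    rw [h.bot' (by omega), Subgroup.mem_bot] at hx
    rw [hx, one_pow]; exact Subgroup.one_mem _
  | succ k ih =>
    intro i hi1 hik x hx
    have hx1 : x ∈ L G 1 := L_anti hi1 hx
    have hrel := h.rel hm4 hs hx1
    set x' := ⁅s, x⁆ with hx'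
    set x'' := ⁅s, x'⁆ with hx''
    have hx'm : x' ∈ L G (i + 1) := comm_mem_L' hx s
    have hx''m : x'' ∈ L G (i + 2) := comm_mem_L' hx'm s
    have hx'3 : x' ^ 3 ∈ L G (i + 2) := L_anti (by omega) (ih (i + 1) (by omega) (by omega) x' hx'm)
    set π := QuotientGroup.mk' (L G (i + 2)) with hπ
    have hker : ∀ y : G, y ∈ L G (i + 2) → π y = 1 := fun y hy =>
      (QuotientGroup.eq_one_iff y).mpr hy
    have hcomm : π x * π x' = π x' * π x := by
      have h1 : ⁅x, x'⁆ ∈ L G (i + 2) := L_anti (by omega) (comm_mem_LL hx hx'm)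
      have h2 := hker _ h1
      rw [map_commutatorElement] at h2
      exact commutatorElement_eq_one_iff_mul_comm.mp h2
    have h1 := congrArg π hrel
    simp only [map_mul, map_one] at h1
    rw [hker x'' hx''m, one_mul] at h1
    set a := π x with ha
    set b := π x' with hb
    have h2 : b * a * (b * b * a) * a = b ^ 3 * a ^ 3 := by
      calc b * a * (b * b * a) * a = b * (a * b) * (b * a) * a := by group
        _ = b * (b * a) * (b * a) * a := by rw [hcomm]
        _ = b * b * (a * b) * a * a := by group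
        _ = b * b * (b * a) * a * a := by rw [hcomm]
        _ = b ^ 3 * a ^ 3 := by
          rw [pow_succ b 2, pow_two, pow_succ a 2, pow_two]; group
    rw [h2] at h1
    have h3 : b ^ 3 = 1 := by
      rw [hb, ← map_pow]; exact hker _ hx'3
    rw [h3, one_mul, ha, ← map_pow] at h1
    exact (QuotientGroup.eq_one_iff _).mp h1

theorem cube_mem' (hm4 : 4 ≤ m) {s : G} (hs : IsUniform m s) {i : ℕ} (hi1 : 1 ≤ i) {x : G}
    (hx : x ∈ L G i) : x ^ 3 ∈ L G (i + 2) :=
  h.cube_mem hm4 hs m i hi1 (by omega) x hx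

end MaxCl

end Cfsg.Agent.Lib.Helper1.Mcl
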