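import Mathlib
import Cfsg.Agent.Lib.Helper1.Mcl4

/-! # 3-groups of maximal class of order at least 3^5: all two-step centralizers coincide -/

set_option autoImplicit false
set_option maxHeartbeats 4000000
set_option linter.unusedVariables false
set_option linter.unusedSectionVars false
set_option linter.style.longLine false
set_option linter.unusedSimpArgs false

open scoped commutatorElement Pointwise
universe u

namespace Cfsg.Agent.Lib.Helper1.Mcl

open Cfsg.Agent.Lib.Helper3.Breadth (twoStep mem_twoStep cstep mem_cstep twoStep_ne_top mul_card_le_of_lt)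

variable {G : Type u} [Group G] [Finite G] {p m : ℕ} [hp : Fact p.Prime]

theorem comm_swap_not_mem {N : Subgroup G} {a b : G} (hab : ⁅a, b⁆ ∉ N) : ⁅b, a⁆ ∉ N := by
  intro hc
  apply hab
  have : ⁅a, b⁆ = ⁅b, a⁆⁻¹ := (commutatorElement_inv b a).symm
  rw [this]; exact Subgroup.inv_mem _ hc

theorem comm3 {H : Type*} [Group H] (a b c : H) (hab : a * b = b * a) (hac : a * c = c * a)
    (hbc : b * c = c * b) : b * a * (c * b * b * a) * a = b ^ 3 * a ^ 3 * c := by
  have hcb : c * b = b * c := hbc.symm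
  have hca : c * a = a * c := hac.symm
  calc b * a * (c * b * b * a) * a = b * a * (c * b) * b * a * a := by group
    _ = b * a * (b * c) * b * a * a := by rw [hcb]
    _ = b * (a * b) * (c * b) * a * a := by group
    _ = b * (b * a) * (b * c) * a * a := by rw [hab, hcb]
    _ = b * b * (a * b) * (c * a) * a := by group
    _ = b * b * (b * a) * (a * c) * a := by rw [hab, hca]
    _ = b * b * b * a * a * (c * a) := by group
    _ = b * b * b * a * a * (a * c) := by rw [hca]
    _ = b ^ 3 * a ^ 3 * c := by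
      rw [pow_succ b 2, pow_two, pow_succ a 2, pow_two]; group

namespace MaxCl

theorem central' (h : MaxCl p m G) {j : ℕ} (hj : m - 2 ≤ j) {z : G} (hz : z ∈ L G j) (g : G) :
    z * g = g * z := h.central (L_anti hj hz) g

theorem comm_not_mem_of_not_mem_twoStep (h : MaxCl p m G) {i : ℕ} (hi1 : 1 ≤ i) (hi : i ≤ m - 2)
    {x : G} (hx : x ∈ L G i) (hx' : x ∉ L G (i + 1)) {s : G} (hs : s ∉ twoStep G i) :
    ⁅s, x⁆ ∉ L G (i + 2) := by
  apply comm_swap_not_mem
  intro hc
  exact hs ((h.mem_twoStep_iff hi1 hi hx hx' s).mpr hc)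

theorem mem_twoStep_of_comm (h : MaxCl p m G) {i : ℕ} (hi1 : 1 ≤ i) (hi : i ≤ m - 2)
    {x : G} (hx : x ∈ L G i) (hx' : x ∉ L G (i + 1)) {k : G} (hk : x * k = k * x) :
    k ∈ twoStep G i := by
  rw [h.mem_twoStep_iff hi1 hi hx hx' k, commutatorElement_eq_one_iff_mul_comm.mpr hk]
  exact Subgroup.one_mem _

variable (h : MaxCl 3 m G)
include h

theorem key (hm5 : 5 ≤ m) (hM : ∀ i, 1 ≤ i → i ≤ m - 4 → twoStep G i = twoStep G 1) :
    twoStep G (m - 3) = twoStep G 1 := by
  by_contra hne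
  have hm4 : 4 ≤ m := by omega
  have hMtop : twoStep G 1 ≠ ⊤ := h.twoStep_ne_top' (by omega)
  have hQtop : twoStep G (m - 3) ≠ ⊤ := h.twoStep_ne_top' (by omega)
  obtain ⟨s, hsM, hsQ⟩ := exists_not_mem_of_ne_top hMtop hQtop
  have hs : IsUniform m s := by
    intro i hi1 hi
    rcases Nat.lt_or_ge i (m - 3) with hlt | hge
    · rw [hM i hi1 (by omega)]; exact hsM
    · have : i = m - 3 := by omega
      rw [this]; exact hsQ
  obtain ⟨s₁, hs₁M, hs₁Q⟩ : ∃ s₁, s₁ ∈ twoStep G 1 ∧ s₁ ∉ twoStep G (m - 3) := by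
    by_contra hcon
    push_neg at hcon
    have hle : twoStep G 1 ≤ twoStep G (m - 3) := hcon
    have hcard : Nat.card (twoStep G (m - 3)) ≤ Nat.card (twoStep G 1) := by
      rw [h.card_twoStep (by omega) (by omega), h.card_twoStep le_rfl (by omega)]
    exact hne (Subgroup.eq_of_le_of_card_ge hle hcard).symm
  have hs₁L : s₁ ∉ L G 1 := fun hc => hs₁Q (L_one_le_twoStep _ hc)
  rcases Nat.eq_or_lt_of_le hm5 with h5 | h6
  · -- `m = 5`
    have hgen := h.closure_sup_eq_top (twoStep G 1) (L_one_le_twoStep 1)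
      (h.index_twoStep le_rfl (by omega)) hsM hs₁M hs₁L
    have hx2 : ⁅s, s₁⁆ ∉ L G 2 := h.comm_not_mem s s₁ hgen
    have hx1 : ⁅s, s₁⁆ ∈ L G 1 := by
      show ⁅s, s₁⁆ ∈ (⊤ : Subgroup G).lowerCentralSeries 1
      rw [Subgroup.top_lowerCentralSeries_one]
      exact Subgroup.commutator_mem_commutator (Subgroup.mem_top _) (Subgroup.mem_top _)
    obtain ⟨x, hxdef⟩ : ∃ x, x = ⁅s, s₁⁆ := ⟨_, rfl⟩
    rw [← hxdef] at hx1 hx2
    obtain ⟨v, hvdef⟩ : ∃ v, v = ⁅s, x⁆ := ⟨_, rfl⟩
    have hv2 : v ∈ L G 2 := by rw [hvdef]; exact comm_mem_L' hx1 s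
    have hv3 : v ∉ L G 3 := by
      rw [hvdef]
      exact h.comm_not_mem_of_not_mem_twoStep le_rfl (by omega) hx1 hx2 hsM
    obtain ⟨z₁, hzdef⟩ : ∃ z₁, z₁ = ⁅s₁, x⁆ := ⟨_, rfl⟩
    have hz3 : z₁ ∈ L G 3 := by
      rw [hzdef]
      have h1 : ⁅x, s₁⁆ ∈ L G (1 + 2) := hs₁M x hx1
      have h2 : ⁅s₁, x⁆ = ⁅x, s₁⁆⁻¹ := (commutatorElement_inv x s₁).symm
      rw [h2]; exact Subgroup.inv_mem _ h1
    obtain ⟨w, hwdef⟩ : ∃ w, w = ⁅s₁, v⁆ := ⟨_, rfl⟩
    have hw3 : w ∈ L G 3 := by rw [hwdef]; exact comm_mem_L' hv2 s₁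
    have hz : ∀ g, z₁ * g = g * z₁ := h.central' (by omega) hz3
    have hw : ∀ g, w * g = g * w := h.central' (by omega) hw3
    have hxv : x * v = v * x := by
      have h1 : ⁅x, v⁆ ∈ L G (1 + 2 + 1) := comm_mem_LL hx1 hv2
      rw [h.bot' (by omega), Subgroup.mem_bot] at h1
      exact commutatorElement_eq_one_iff_mul_comm.mp h1
    have hA : s₁ * x = z₁ * x * s₁ := by rw [hzdef]; simp only [commutatorElement_def]; group
    have hB : s * x = v * x * s := by rw [hvdef]; simp only [commutatorElement_def]; group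
    have hC : s₁ * v = w * v * s₁ := by rw [hwdef]; simp only [commutatorElement_def]; group
    have hD : s * s₁ = x * s₁ * s := by rw [hxdef]; simp only [commutatorElement_def]; group
    have e1 : s * s₁ * x = z₁ * v * x * (s * s₁) := by
      calc s * s₁ * x = s * (s₁ * x) := by group
        _ = s * (z₁ * x * s₁) := by rw [hA]
        _ = (s * z₁) * x * s₁ := by group
        _ = (z₁ * s) * x * s₁ := by rw [hz s]
        _ = z₁ * (s * x) * s₁ := by group
        _ = z₁ * (v * x * s) * s₁ := by rw [hB]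
        _ = z₁ * v * x * (s * s₁) := by group
    have e2 : x * s₁ * s * x = w * z₁ * v * x * (x * s₁ * s) := by
      calc x * s₁ * s * x = x * s₁ * (s * x) := by group
        _ = x * s₁ * (v * x * s) := by rw [hB]
        _ = x * (s₁ * v) * x * s := by group
        _ = x * (w * v * s₁) * x * s := by rw [hC]
        _ = (x * w) * v * (s₁ * x) * s := by group
        _ = (w * x) * v * (z₁ * x * s₁) * s := by rw [hA, hw x]
        _ = w * (x * v) * z₁ * x * s₁ * s := by group
        _ = w * (v * x) * z₁ * x * s₁ * s := by rw [hxv]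
        _ = w * v * (x * z₁) * x * s₁ * s := by group
        _ = w * v * (z₁ * x) * x * s₁ * s := by rw [hz x]
        _ = w * (v * z₁) * x * (x * s₁ * s) := by group
        _ = w * (z₁ * v) * x * (x * s₁ * s) := by rw [hz v]
        _ = w * z₁ * v * x * (x * s₁ * s) := by group
    rw [← hD] at e2
    rw [e1] at e2
    have e3 : 1 * (z₁ * v * x * (s * s₁)) = w * (z₁ * v * x * (s * s₁)) := by
      rw [one_mul]; exact e2.trans (by group)
    have hw1 : w = 1 := (mul_right_cancel e3).symm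
    have hcomm : v * s₁ = s₁ * v := by rw [hC, hw1, one_mul]
    have : s₁ ∈ twoStep G 2 := h.mem_twoStep_of_comm (by omega) (by omega) hv2 hv3 hcomm
    apply hs₁Q
    rw [show m - 3 = 2 by omega]
    exact this
  · -- `m ≥ 6`
    obtain ⟨k, rfl⟩ : ∃ k, m = k + 6 := ⟨m - 6, by omega⟩
    have hM1 : twoStep G (k + 1) = twoStep G 1 := hM (k + 1) (by omega) (by omega)
    have hM2 : twoStep G (k + 2) = twoStep G 1 := hM (k + 2) (by omega) (by omega)
    obtain ⟨u, hu, hu'⟩ := SetLike.exists_of_lt (h.lt_succ (i := k + 1) (by omega))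
    obtain ⟨u₁, hu₁def⟩ : ∃ u₁, u₁ = ⁅s, u⁆ := ⟨_, rfl⟩
    have hu₁m : u₁ ∈ L G (k + 2) := by rw [hu₁def]; exact comm_mem_L' hu s
    have hu₁n : u₁ ∉ L G (k + 3) := by
      rw [hu₁def]
      exact h.comm_not_mem_of_not_mem_twoStep (by omega) (by omega) hu hu' (by rw [hM1]; exact hsM)
    obtain ⟨v, hvdef⟩ : ∃ v, v = ⁅s, u₁⁆ := ⟨_, rfl⟩
    have hvm : v ∈ L G (k + 3) := by rw [hvdef]; exact comm_mem_L' hu₁m s
    have hvn : v ∉ L G (k + 4) := by
      rw [hvdef]
      exact h.comm_not_mem_of_not_mem_twoStep (by omega) (by omega) hu₁m hu₁n (by rw [hM2]; exact hsM)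
    have hrel := h.rel hm4 hs (L_anti (by omega) hu : u ∈ L G 1)
    rw [← hu₁def, ← hvdef] at hrel
    -- work modulo `L (k+4)`
    set π := QuotientGroup.mk' (L G (k + 4)) with hπ
    have hker : ∀ y : G, y ∈ L G (k + 4) → π y = 1 := fun y hy =>
      (QuotientGroup.eq_one_iff y).mpr hy
    have hcomm_of : ∀ a b : G, ⁅a, b⁆ ∈ L G (k + 4) → π a * π b = π b * π a := by
      intro a b hab
      have h2 := hker _ hab
      rw [map_commutatorElement] at h2
      exact commutatorElement_eq_one_iff_mul_comm.mp h2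
    have hab : π u * π u₁ = π u₁ * π u :=
      hcomm_of _ _ (L_anti (by omega) (comm_mem_LL hu hu₁m))
    have hac : π u * π v = π v * π u :=
      hcomm_of _ _ (L_anti (by omega) (comm_mem_LL hu hvm))
    have hbc : π u₁ * π v = π v * π u₁ :=
      hcomm_of _ _ (L_anti (by omega) (comm_mem_LL hu₁m hvm))
    have h1 := congrArg π hrel
    simp only [map_mul, map_one] at h1
    rw [comm3 _ _ _ hab hac hbc] at h1
    have hu₁3 : u₁ ^ 3 ∈ L G (k + 4) := h.cube_mem' hm4 hs (by omega) hu₁m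
    have h3 : π u₁ ^ 3 = 1 := by rw [← map_pow]; exact hker _ hu₁3
    rw [h3, one_mul, ← map_pow, ← map_mul] at h1
    have hz : u ^ 3 * v ∈ L G (k + 4) := (QuotientGroup.eq_one_iff _).mp h1
    have hzc : ∀ g, (u ^ 3 * v) * g = g * (u ^ 3 * v) := h.central' (by omega) hz
    -- `s₁` commutes with `u ^ 3`
    obtain ⟨w, hwdef⟩ : ∃ w, w = ⁅u, s₁⁆ := ⟨_, rfl⟩
    have hwm : w ∈ L G (k + 3) := by
      rw [hwdef]
      have : s₁ ∈ twoStep G (k + 1) := by rw [hM1]; exact hs₁M
      exact this u hu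
    have hw3 : w ^ 3 = 1 := by
      have := h.cube_mem' hm4 hs (by omega) hwm
      rw [h.bot' (by omega), Subgroup.mem_bot] at this
      exact this
    have hwu : w * u = u * w := by
      have h1 : ⁅w, u⁆ ∈ L G (k + 3 + (k + 1) + 1) := comm_mem_LL hwm hu
      rw [h.bot' (by omega), Subgroup.mem_bot] at h1
      exact commutatorElement_eq_one_iff_mul_comm.mp h1
    have hE : u * s₁ = w * s₁ * u := by rw [hwdef]; simp only [commutatorElement_def]; group
    have hus : u ^ 3 * s₁ = s₁ * u ^ 3 := by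
      calc u ^ 3 * s₁ = u * u * (u * s₁) := by rw [pow_succ u 2, pow_two]; group
        _ = u * u * (w * s₁ * u) := by rw [hE]
        _ = u * (u * w) * s₁ * u := by group
        _ = u * (w * u) * s₁ * u := by rw [hwu]
        _ = (u * w) * (u * s₁) * u := by group
        _ = (w * u) * (w * s₁ * u) * u := by rw [hwu, hE]
        _ = w * (u * w) * s₁ * u * u := by group
        _ = w * (w * u) * s₁ * u * u := by rw [hwu]
        _ = w * w * (u * s₁) * u * u := by group
        _ = w * w * (w * s₁ * u) * u * u := by rw [hE]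
        _ = w ^ 3 * s₁ * u ^ 3 := by rw [pow_succ w 2, pow_two, pow_succ u 2, pow_two]; group
        _ = s₁ * u ^ 3 := by rw [hw3, one_mul]
    have hvs : v * s₁ = s₁ * v := by
      have e1 : v = (u ^ 3)⁻¹ * (u ^ 3 * v) := by group
      have hus' : (u ^ 3)⁻¹ * s₁ = s₁ * (u ^ 3)⁻¹ := by
        have : s₁ = (u ^ 3)⁻¹ * (u ^ 3 * s₁) := by group
        calc (u ^ 3)⁻¹ * s₁ = (u ^ 3)⁻¹ * s₁ * u ^ 3 * (u ^ 3)⁻¹ := by group
          _ = (u ^ 3)⁻¹ * (s₁ * u ^ 3) * (u ^ 3)⁻¹ := by group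
          _ = (u ^ 3)⁻¹ * (u ^ 3 * s₁) * (u ^ 3)⁻¹ := by rw [hus]
          _ = s₁ * (u ^ 3)⁻¹ := by group
      calc v * s₁ = (u ^ 3)⁻¹ * ((u ^ 3 * v) * s₁) := by group
        _ = (u ^ 3)⁻¹ * (s₁ * (u ^ 3 * v)) := by rw [hzc s₁]
        _ = ((u ^ 3)⁻¹ * s₁) * (u ^ 3 * v) := by group
        _ = (s₁ * (u ^ 3)⁻¹) * (u ^ 3 * v) := by rw [hus']
        _ = s₁ * v := by group
    have : s₁ ∈ twoStep G (k + 3) := h.mem_twoStep_of_comm (by omega) (by omega) hvm hvn hvs
    apply hs₁Q
    rw [show k + 6 - 3 = k + 3 by omega]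
    exact this

end MaxCl

/-- In a 3-group of maximal class of order at least `3 ^ 5` all two-step centralizers coincide. -/
theorem twoStep_eq : ∀ (m : ℕ), 5 ≤ m → ∀ (G : Type u) [Group G] [Finite G], MaxCl 3 m G →
    ∀ i, 1 ≤ i → i ≤ m - 3 → twoStep G i = twoStep G 1 := by
  intro m hm
  induction m, hm using Nat.le_induction with
  | base =>
    intro G _ _ h i hi1 hi
    have hk := h.key le_rfl (by
      intro j hj1 hj
      have : j = 1 := by omega
      rw [this])
    rcases Nat.lt_or_ge i 2 with hlt | hge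
    · have : i = 1 := by omega
      rw [this]
    · have : i = 5 - 3 := by omega
      rw [this]; exact hk
  | succ m hm ih =>
    intro G _ _ h i hi1 hi
    have hm4 : 4 ≤ m + 1 := by omega
    have hq := h.quot hm4
    have ihq := ih (G ⧸ L G (m + 1 - 2)) (by simpa using hq)
    have hM : ∀ j, 1 ≤ j → j ≤ m + 1 - 4 → twoStep G j = twoStep G 1 := by
      intro j hj1 hj
      ext g
      rw [← h.mem_twoStep_quot_iff hm4 hj g, ← h.mem_twoStep_quot_iff hm4 (by omega) g,
        ihq j hj1 (by omega)]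
    rcases Nat.lt_or_ge i (m + 1 - 3) with hlt | hge
    · exact hM i hi1 (by omega)
    · have : i = m + 1 - 3 := by omega
      rw [this]
      exact h.key (by omega) hM

end Cfsg.Agent.Lib.Helper1.Mcl
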