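import Mathlib
import Cfsg.Agent.Lib.Helper1.Mcl5
import Cfsg.Agent.Lib.Helper1.GE1
import Cfsg.Agent.Lib.Helper1.QR2
import Cfsg.Agent.Lib.Helper4.Metacyc3
import Cfsg.Agent.Lib.Helper1.BurnsideBasis
import Cfsg.Agent.Lib.Helper1.FrattiniP
import Cfsg.Agent.Lib.Helper1.MC1

/-! # 3-groups of maximal class of order at least 3^5 have all subgroups 2-generated -/

set_option autoImplicit false
set_option maxHeartbeats 4000000
set_option linter.unusedVariables false
set_option linter.unusedSectionVars false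
set_option linter.style.longLine false
set_option linter.unusedSimpArgs false

open scoped commutatorElement Pointwise
universe u

namespace Cfsg.Agent.Lib.Helper1.Mcl

open Cfsg.Agent.Lib.Helper3.Breadth (twoStep mem_twoStep cstep mem_cstep twoStep_ne_top mul_card_le_of_lt)

section gen

variable {X : Type u} [Group X] [Finite X] {p : ℕ} [hp : Fact p.Prime]

/-- a `p`-group whose Frattini quotient has order at most `p ^ 2` is generated by two elements. -/
theorem two_gen_of_frattini (hX : IsPGroup p X) (hidx : (frattini X).index ≤ p ^ 2) :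
    ∃ T : Finset X, T.card ≤ 2 ∧ Subgroup.closure (T : Set X) = ⊤ := by
  classical
  haveI : Fintype X := Fintype.ofFinite X
  have h1 : (frattini X).index ∣ Nat.card X := Subgroup.index_dvd_card _
  obtain ⟨k, hk⟩ := IsPGroup.iff_card.mp hX
  rw [hk] at h1
  obtain ⟨n, hn, hn2⟩ := (Nat.dvd_prime_pow hp.out).mp h1
  have hn2' : n ≤ 2 := by
    by_contra hcon
    push_neg at hcon
    have : p ^ 3 ≤ p ^ n := Nat.pow_le_pow_right hp.out.pos hcon
    rw [← hn2] at this
    have h3 : p ^ 2 < p ^ 3 := Nat.pow_lt_pow_right hp.out.one_lt (by norm_num)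
    omega
  obtain ⟨T, -, hT, hT2⟩ := (burnside_basis p n hX hn2).1 Finset.univ (by
    rw [Finset.coe_univ, Subgroup.closure_univ])
  exact ⟨T, by omega, hT2⟩

/-- transfer of two-generation from a subgroup (as a type) to the ambient group. -/
theorem two_gen_subgroup {G : Type u} [Group G] (H : Subgroup G)
    (hH : ∃ T : Finset ↥H, T.card ≤ 2 ∧ Subgroup.closure (T : Set ↥H) = ⊤) :
    ∃ T : Finset G, T.card ≤ 2 ∧ Subgroup.closure (T : Set G) = H := by
  classical
  obtain ⟨T, hT, hT2⟩ := hH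
  refine ⟨T.image H.subtype, le_trans Finset.card_image_le hT, ?_⟩
  rw [Finset.coe_image, ← MonoidHom.map_closure, hT2, ← MonoidHom.range_eq_map, Subgroup.range_subtype]

theorem two_gen_of_metacyclic (hX : Cfsg.IsMetacyclic X) :
    ∃ T : Finset X, T.card ≤ 2 ∧ Subgroup.closure (T : Set X) = ⊤ := by
  classical
  obtain ⟨a, b, hgen, -⟩ := Cfsg.Agent.Lib.Helper1.MC.exists_gen hX
  refine ⟨{a, b}, Finset.card_le_two, ?_⟩
  rw [eq_top_iff]
  intro x _
  obtain ⟨i, j, rfl⟩ := hgen x
  have ha : a ∈ Subgroup.closure ((({a, b} : Finset X) : Set X)) :=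
    Subgroup.subset_closure (by simp)
  have hb : b ∈ Subgroup.closure ((({a, b} : Finset X) : Set X)) :=
    Subgroup.subset_closure (by simp)
  exact Subgroup.mul_mem _ (Subgroup.zpow_mem _ ha i) (Subgroup.zpow_mem _ hb j)

/-- a `p`-group containing an element with centralizer of order at most `p ^ 2` is 2-generated. -/
theorem two_gen_of_small_centralizer (hX : IsPGroup p X) (x : X)
    (hx : Nat.card (Subgroup.centralizer ({x} : Set X)) ≤ p ^ 2) :
    ∃ T : Finset X, T.card ≤ 2 ∧ Subgroup.closure (T : Set X) = ⊤ := by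
  apply two_gen_of_frattini hX
  obtain ⟨k, hk⟩ := IsPGroup.iff_card.mp hX
  rcases Nat.lt_or_ge k 3 with hlt | hge
  · have h1 : (frattini X).index ≤ Nat.card X := Nat.le_of_dvd Nat.card_pos (Subgroup.index_dvd_card _)
    rw [hk] at h1
    exact le_trans h1 (Nat.pow_le_pow_right hp.out.pos (by omega))
  · have h1 := Cfsg.Agent.Lib.Helper1.Blk.lcs_ne_bot_of_card_centralizer_le k (by omega) X hk ⟨x, hx⟩
    have h2 := Cfsg.Agent.Lib.Helper1.Blk.index_commutator_of_maxclass k (by omega) X hk h1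
    have h3 : commutator X ≤ frattini X := commutator_le_frattini_of_isPGroup p hX
    have h4 := Subgroup.index_dvd_of_le h3
    rw [h2] at h4
    exact Nat.le_of_dvd (pow_pos hp.out.pos 2) h4

end gen

variable {G : Type u} [Group G] [Finite G] {m : ℕ}

namespace MaxCl

variable (h : MaxCl 3 m G)
include h

theorem nilpotencyClass_eq : Group.nilpotencyClass G = m - 1 := by
  haveI : Group.IsNilpotent G := h.isPGroup.isNilpotent
  have h1 : Group.nilpotencyClass G ≤ m - 1 :=
    Subgroup.lowerCentralSeries_eq_bot_iff_nilpotencyClass_le.mp h.bot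
  have h2 : ¬ Group.nilpotencyClass G ≤ m - 2 := fun hc =>
    h.top (Subgroup.lowerCentralSeries_eq_bot_iff_nilpotencyClass_le.mpr hc)
  have := h.hm
  omega

theorem uniform_of_not_mem (hm5 : 5 ≤ m) {s : G} (hs : s ∉ twoStep G 1) : IsUniform m s := by
  intro i hi1 hi
  rw [twoStep_eq m hm5 G h i hi1 hi]
  exact hs

/-- the common two-step centralizer is metacyclic. -/
theorem metacyclic_twoStep (hm5 : 5 ≤ m) : Cfsg.IsMetacyclic ↥(twoStep G 1) := by
  have hm4 : 4 ≤ m := by omega
  set M := twoStep G 1 with hM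
  haveI hMn : M.Normal := twoStep_normal 1
  have hMtop : M ≠ ⊤ := h.twoStep_ne_top' (by omega)
  obtain ⟨s, hsM⟩ : ∃ s, s ∉ M := by
    by_contra h1; push_neg at h1
    exact hMtop (eq_top_iff.mpr fun x _ => h1 x)
  have hs : IsUniform m s := h.uniform_of_not_mem hm5 hsM
  have hcardM : Nat.card M = 3 ^ (m - 1) := h.card_twoStep le_rfl (by omega)
  obtain ⟨s₁, hs₁M, hs₁L⟩ : ∃ s₁, s₁ ∈ M ∧ s₁ ∉ L G 1 := by
    by_contra hcon
    push_neg at hcon
    have hle : M ≤ L G 1 := hcon
    have := Subgroup.card_le_of_le hle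
    rw [hcardM, h.card_L_one] at this
    have h3 : 3 ^ (m - 2) < 3 ^ (m - 1) := Nat.pow_lt_pow_right (by norm_num) (by omega)
    omega
  have hgen := h.closure_sup_eq_top M (L_one_le_twoStep 1) (h.index_twoStep le_rfl (by omega))
    hsM hs₁M hs₁L
  obtain ⟨x, hxdef⟩ : ∃ x, x = ⁅s, s₁⁆ := ⟨_, rfl⟩
  have hx1 : x ∈ L G 1 := by
    rw [hxdef]
    show ⁅s, s₁⁆ ∈ (⊤ : Subgroup G).lowerCentralSeries 1
    rw [Subgroup.top_lowerCentralSeries_one]
    exact Subgroup.commutator_mem_commutator (Subgroup.mem_top _) (Subgroup.mem_top _)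
  have hx2 : x ∉ L G 2 := by rw [hxdef]; exact h.comm_not_mem s s₁ hgen
  obtain ⟨y, hydef⟩ : ∃ y, y = ⁅s, x⁆ := ⟨_, rfl⟩
  have hy2 : y ∈ L G 2 := by rw [hydef]; exact comm_mem_L' hx1 s
  have hy3 : y ∉ L G 3 := by
    rw [hydef]
    exact h.comm_not_mem_of_not_mem_twoStep le_rfl (by omega) hx1 hx2 hsM
  -- the cube of `s * s₁`
  have hst : s * s₁ ∉ M := by
    intro hc
    apply hsM
    have : s = s * s₁ * s₁⁻¹ := by group
    rw [this]; exact Subgroup.mul_mem _ hc (Subgroup.inv_mem _ hs₁M)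
  have ht3 : (s * s₁) ^ 3 ∈ L G (m - 2) := h.uniform_pow_mem hm4 (h.uniform_of_not_mem hm5 hst)
  have hs3 : s ^ 3 ∈ L G (m - 2) := h.uniform_pow_mem hm4 hs
  have hc := h.central hs3
  have e2 : (s * s₁) ^ 3 = (x * s₁ * (y * x * x * s₁)) * (s ^ 3 * s₁ * (s ^ 3)⁻¹) * s ^ 3 := by
    have e3 : (s * s₁) ^ 3 = (s * s₁) * (s * s₁) * (s * s₁) := by rw [pow_succ, pow_two]
    rw [e3, hydef, hxdef]
    simp only [commutatorElement_def]; group
  have e4 : s ^ 3 * s₁ * (s ^ 3)⁻¹ = s₁ := by rw [hc s₁]; group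
  rw [e4] at e2
  have hP : x * s₁ * (y * x * x * s₁) * s₁ ∈ L G 3 := by
    have : x * s₁ * (y * x * x * s₁) * s₁ = (s * s₁) ^ 3 * (s ^ 3)⁻¹ := by rw [e2]; group
    rw [this]
    exact L_anti (by omega) (Subgroup.mul_mem _ ht3 (Subgroup.inv_mem _ hs3))
  set π := QuotientGroup.mk' (L G 3) with hπ
  have hker : ∀ z : G, z ∈ L G 3 → π z = 1 := fun z hz => (QuotientGroup.eq_one_iff z).mpr hz
  have hcomm_of : ∀ a b : G, ⁅a, b⁆ ∈ L G 3 → π a * π b = π b * π a := by
    intro a b hab
    have h2 := hker _ hab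
    rw [map_commutatorElement] at h2
    exact commutatorElement_eq_one_iff_mul_comm.mp h2
  have hab : π s₁ * π x = π x * π s₁ := by
    apply hcomm_of
    have h1 : ⁅x, s₁⁆ ∈ L G (1 + 2) := hs₁M x hx1
    have h2 : ⁅s₁, x⁆ = ⁅x, s₁⁆⁻¹ := (commutatorElement_inv x s₁).symm
    rw [h2]; exact Subgroup.inv_mem _ h1
  have hac : π s₁ * π y = π y * π s₁ := hcomm_of _ _ (comm_mem_L' hy2 s₁)
  have hbc : π x * π y = π y * π x := hcomm_of _ _ (L_anti (by omega) (comm_mem_LL hx1 hy2))
  have h1 := hker _ hP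
  simp only [map_mul] at h1
  rw [comm3 _ _ _ hab hac hbc] at h1
  have hx3 : x ^ 3 ∈ L G 3 := h.cube_mem' hm4 hs le_rfl hx1
  have h3 : π x ^ 3 = 1 := by rw [← map_pow]; exact hker _ hx3
  rw [h3, one_mul, ← map_pow, ← map_mul] at h1
  have hz : s₁ ^ 3 * y ∈ L G 3 := (QuotientGroup.eq_one_iff _).mp h1
  have hz2 : s₁ ^ 3 ∈ L G 2 := by
    have : s₁ ^ 3 = (s₁ ^ 3 * y) * y⁻¹ := by group
    rw [this]
    exact Subgroup.mul_mem _ (L_anti (by omega) hz) (Subgroup.inv_mem _ hy2)
  have hz3 : s₁ ^ 3 ∉ L G 3 := by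
    intro hc3
    apply hy3
    have : y = (s₁ ^ 3)⁻¹ * (s₁ ^ 3 * y) := by group
    rw [this]
    exact Subgroup.mul_mem _ (Subgroup.inv_mem _ hc3) hz
  -- the subgroup generated by the cubes of elements of `M`
  set P := Cfsg.powerClosure 3 1 M with hP'
  haveI hPn : P.Normal := Cfsg.Agent.Lib.Helper1.Reg.powerClosure_normal 3 1 M
  have hzP : s₁ ^ 3 ∈ P := by
    have := Cfsg.Agent.Lib.Helper1.QR.pow_mem_powerClosure (p := 3) 1 hs₁M
    rwa [pow_one] at this
  have hPM : P ≤ M := Cfsg.Agent.Lib.Helper1.QR.powerClosure_le_of (p := 3) 1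
    (fun x hx => Subgroup.pow_mem _ hx _)
  have hL2P : L G 2 ≤ P := by
    have h1 : P.index ∣ Nat.card G := Subgroup.index_dvd_card _
    rw [h.card] at h1
    obtain ⟨r, hr, hr2⟩ := (Nat.dvd_prime_pow Nat.prime_three).mp h1
    rcases Nat.lt_or_ge r 2 with hlt | hge
    · -- index at most 3: `P = M`
      have hidx : M.index ∣ P.index := Subgroup.index_dvd_of_le hPM
      rw [h.index_twoStep le_rfl (by omega), hr2] at hidx
      have hr1 : r = 1 := by
        rcases Nat.eq_zero_or_pos r with h0 | hpos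
        · rw [h0, pow_zero] at hidx
          have := Nat.le_of_dvd one_pos hidx
          omega
        · omega
      have hcardP : Nat.card P = Nat.card M := by
        have e1 := Subgroup.card_mul_index P
        have e2 := Subgroup.card_mul_index M
        rw [hr2, hr1, pow_one] at e1
        rw [h.index_twoStep le_rfl (by omega)] at e2
        have : Nat.card P * 3 = Nat.card M * 3 := by rw [e1, e2]
        exact Nat.eq_of_mul_eq_mul_right (by norm_num) this
      have hPeq : P = M := Subgroup.eq_of_le_of_card_ge hPM hcardP.ge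
      rw [hPeq]
      exact le_trans (L_anti (by omega)) (L_one_le_twoStep 1)
    · have hPeq := normal_eq_lowerCentralSeries_of_max_class m h.card h.nilpotencyClass_eq h.hm P r hge hr2
      have hr3 : r - 1 ≤ 2 := by
        by_contra hcon
        push_neg at hcon
        apply hz3
        have : s₁ ^ 3 ∈ L G (r - 1) := by
          show s₁ ^ 3 ∈ (⊤ : Subgroup G).lowerCentralSeries (r - 1)
          rw [← hPeq]; exact hzP
        exact L_anti (by omega) this
      rw [hPeq]
      exact L_anti hr3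
  -- index computation inside `M`
  have hcardP : 3 ^ (m - 3) ≤ Nat.card P := by
    have := Subgroup.card_le_of_le hL2P
    rwa [h.card_L (by omega) (by omega), show m - 1 - 2 = m - 3 by omega] at this
  apply Cfsg.Agent.Lib.Helper4.Metacyc.huppert (p := 3) (by norm_num) (h.isPGroup.to_subgroup M)
  have hmap : (Cfsg.powerClosure 3 1 (⊤ : Subgroup ↥M)).map M.subtype = P := by
    rw [Cfsg.Agent.Lib.Helper1.QR.powerClosure_map, ← MonoidHom.range_eq_map, Subgroup.range_subtype]
  have hcard0 : Nat.card (Cfsg.powerClosure 3 1 (⊤ : Subgroup ↥M)) = Nat.card P := by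
    rw [← hmap]
    exact (Subgroup.card_map_of_injective (Subgroup.subtype_injective M)).symm
  have e1 := Subgroup.card_mul_index (Cfsg.powerClosure 3 1 (⊤ : Subgroup ↥M))
  rw [hcard0, hcardM] at e1
  have e5 : 3 ^ (m - 1) = 3 ^ (m - 3) * 3 ^ 2 := by rw [← pow_add]; congr 1; omega
  have e6 : 3 ^ (m - 3) * (Cfsg.powerClosure 3 1 (⊤ : Subgroup ↥M)).index ≤ 3 ^ (m - 3) * 3 ^ 2 := by
    rw [← e5, ← e1]
    exact Nat.mul_le_mul_right _ hcardP
  exact Nat.le_of_mul_le_mul_left e6 (pow_pos (by norm_num) _)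

/-- **Main theorem**: every subgroup of a 3-group of maximal class of order `≥ 3 ^ 5` is generated
by two elements. -/
theorem two_gen (hm5 : 5 ≤ m) (H : Subgroup G) :
    ∃ T : Finset G, T.card ≤ 2 ∧ Subgroup.closure (T : Set G) = H := by
  have hm4 : 4 ≤ m := by omega
  apply two_gen_subgroup
  by_cases hHM : H ≤ twoStep G 1
  · exact two_gen_of_metacyclic
      (Cfsg.Agent.Lib.Helper1.GE.isMetacyclic_of_le hHM (h.metacyclic_twoStep hm5))
  · obtain ⟨s, hsH, hsM⟩ := SetLike.not_le_iff_exists.mp hHM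
    have hs := h.uniform_of_not_mem hm5 hsM
    have hc := h.card_centralizer_le hm4 hs
    apply two_gen_of_small_centralizer (p := 3) (h.isPGroup.to_subgroup H) ⟨s, hsH⟩
    refine le_trans ?_ hc
    have hle : (Subgroup.centralizer ({(⟨s, hsH⟩ : ↥H)} : Set ↥H)).map H.subtype ≤
        Subgroup.centralizer ({s} : Set G) := by
      rintro _ ⟨c, hc, rfl⟩
      have hc' : c ∈ Subgroup.centralizer ({(⟨s, hsH⟩ : ↥H)} : Set ↥H) := hc
      rw [Subgroup.mem_centralizer_singleton_iff] at hc' ⊢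
      have := congrArg Subtype.val hc'
      simpa using this
    calc Nat.card (Subgroup.centralizer ({(⟨s, hsH⟩ : ↥H)} : Set ↥H))
        = Nat.card ((Subgroup.centralizer ({(⟨s, hsH⟩ : ↥H)} : Set ↥H)).map H.subtype) :=
          (Subgroup.card_map_of_injective (Subgroup.subtype_injective H)).symm
      _ ≤ _ := Subgroup.card_le_of_le hle

end MaxCl

end Cfsg.Agent.Lib.Helper1.Mcl
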