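import Mathlib
import Cfsg.Agent.Lib.Helper1.Mcl6
import Cfsg.Agent.Lib.Helper1.MaxClassSelfCentralizing
import Cfsg.Agent.Lib.Helper1.Nilpotent
import Cfsg.Agent.Lib.Helper1.ET14
import Cfsg.Agent.Lib.Lead.Fus13

/-! # Self-centralizing small subgroups force maximal class; groups of order 81 of maximal class -/

set_option autoImplicit false
set_option maxHeartbeats 4000000
set_option linter.unusedVariables false
set_option linter.unusedSectionVars false
set_option linter.style.longLine false
set_option linter.unusedSimpArgs false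

open scoped commutatorElement Pointwise
universe u

namespace Cfsg.Agent.Lib.Helper1.Mcl

open Cfsg.Agent.Lib.Helper3.Breadth (twoStep mem_twoStep cstep mem_cstep twoStep_ne_top mul_card_le_of_lt)

section pearl

variable {G : Type u} [Group G] [Finite G] {p : ℕ} [hp : Fact p.Prime]

theorem maxCl_of_class (n : ℕ) (hn : 3 ≤ n) (hcard : Nat.card G = p ^ n)
    (hcl : Group.nilpotencyClass G = n - 1) : MaxCl p n G := by
  haveI : Group.IsNilpotent G := (IsPGroup.of_card hcard).isNilpotent
  refine ⟨hcard, hn, fun hbot => ?_⟩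
  have := Subgroup.lowerCentralSeries_eq_bot_iff_nilpotencyClass_le.mp hbot
  omega

theorem comm_of_card_dvd_sq {K : Type*} [Group K] [Finite K] (hK : Nat.card K ∣ p ^ 2) (a b : K) :
    a * b = b * a := by
  obtain ⟨j, hj, hcard⟩ := (Nat.dvd_prime_pow hp.out).mp hK
  interval_cases j
  · rw [pow_zero] at hcard
    haveI : Subsingleton K := (Nat.card_eq_one_iff_unique.mp hcard).1
    exact Subsingleton.elim _ _
  · rw [pow_one] at hcard
    haveI : IsCyclic K := isCyclic_of_prime_card hcard
    obtain ⟨g, hg⟩ := IsCyclic.exists_generator (α := K)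
    obtain ⟨i, rfl⟩ := Subgroup.mem_zpowers_iff.mp (hg a)
    obtain ⟨j, rfl⟩ := Subgroup.mem_zpowers_iff.mp (hg b)
    rw [← zpow_add, ← zpow_add, add_comm]
  · exact IsPGroup.commutative_of_card_eq_prime_sq hcard a b

/-- a self-centralizing abelian subgroup of order `p ^ 2` forces maximal class. -/
theorem maxCl_of_sc_sq (hG : IsPGroup p G) (E : Subgroup G) (hE : Nat.card E = p ^ 2)
    (hab : ∀ a ∈ E, ∀ b ∈ E, a * b = b * a)
    (hC : Subgroup.centralizer (E : Set G) ≤ E) (hne : E ≠ ⊤) : ∃ n, MaxCl p n G := by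
  obtain ⟨n, hn⟩ := IsPGroup.iff_card.mp hG
  have hC' : Subgroup.centralizer (E : Set G) = E :=
    le_antisymm hC (fun a ha => Subgroup.mem_centralizer_iff.mpr (fun b hb => hab b hb a ha))
  have h3 : 3 ≤ n := by
    by_contra hcon
    have h2 : n ≤ 2 := by omega
    apply hne
    apply Subgroup.eq_top_of_le_card
    rw [hE, hn]
    exact Nat.pow_le_pow_right hp.out.pos h2
  exact ⟨n, maxCl_of_class n h3 hn
    (Cfsg.Agent.Lib.Helper1.max_class_of_self_centralizing n hn E hE hC')⟩

/-- a nonabelian subgroup of order `p ^ 3` containing its centralizer forces maximal class. -/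
theorem maxCl_of_sc_cube (hG : IsPGroup p G) (E : Subgroup G) (hE : Nat.card E = p ^ 3)
    (hna : ∃ a ∈ E, ∃ b ∈ E, a * b ≠ b * a)
    (hC : Subgroup.centralizer (E : Set G) ≤ E) : ∃ n, MaxCl p n G := by
  classical
  obtain ⟨n, hn⟩ := IsPGroup.iff_card.mp hG
  obtain ⟨a, haE, b, hbE, hab⟩ := hna
  haveI : Nontrivial G := ⟨⟨a * b, b * a, hab⟩⟩
  have hnaE : ¬ ∀ x y : ↥E, x * y = y * x :=
    fun h => hab (congrArg Subtype.val (h ⟨a, haE⟩ ⟨b, hbE⟩))
  obtain ⟨hZE, hcommE, -, -⟩ := Cfsg.Agent.Lib.Lead.Fus.extraspecial_of_card_cube hE hnaE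
  have hcen : (Subgroup.center ↥E).map E.subtype = Subgroup.centralizer (E : Set G) := by
    rw [Cfsg.Agent.Lib.Helper1.ET.center_map_subtype]
    exact inf_eq_right.mpr hC
  have hcardC : Nat.card (Subgroup.centralizer (E : Set G)) = p := by
    rw [← hcen, Subgroup.card_map_of_injective E.subtype_injective]
    exact hZE
  have hZ : Subgroup.center G = Subgroup.centralizer (E : Set G) := by
    apply Subgroup.eq_of_le_of_card_ge (Subgroup.center_le_centralizer _)
    rw [hcardC]
    have h1 : Subgroup.center G ≠ ⊥ := (hG.bot_lt_center).ne'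
    obtain ⟨k, hk⟩ := IsPGroup.iff_card.mp (hG.to_subgroup (Subgroup.center G))
    rw [hk]
    rcases k with _ | k
    · exfalso; apply h1; rw [pow_zero] at hk; exact Subgroup.card_eq_one.mp hk
    · calc p = p ^ 1 := (pow_one p).symm
        _ ≤ p ^ (k + 1) := Nat.pow_le_pow_right hp.out.pos (by omega)
  have hZcard : Nat.card (Subgroup.center G) = p := by rw [hZ]; exact hcardC
  have hZE' : Subgroup.center G ≤ E := by rw [hZ]; exact hC
  have hcomm : ∀ x ∈ E, ∀ y ∈ E, x * y * x⁻¹ * y⁻¹ ∈ Subgroup.center G := by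
    intro x hx y hy
    have h1 : ⁅(⟨x, hx⟩ : ↥E), ⟨y, hy⟩⁆ ∈ commutator ↥E :=
      Subgroup.commutator_mem_commutator (Subgroup.mem_top _) (Subgroup.mem_top _)
    rw [hcommE] at h1
    have h2 : ((⁅(⟨x, hx⟩ : ↥E), ⟨y, hy⟩⁆ : ↥E) : G) ∈ (Subgroup.center ↥E).map E.subtype :=
      ⟨_, h1, rfl⟩
    rw [hcen, ← hZ] at h2
    exact h2
  by_cases hEtop : E = ⊤
  · have hn3 : n = 3 := by
      have h1 : Nat.card E = Nat.card G := by rw [hEtop]; exact Subgroup.card_top
      rw [hE, hn] at h1
      exact (Nat.pow_right_injective hp.out.two_le h1).symm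
    subst hn3
    refine ⟨3, hn, le_rfl, ?_⟩
    intro hbot
    have h0 : a ∈ L G 0 := by
      show a ∈ (⊤ : Subgroup G).lowerCentralSeries 0
      rw [Subgroup.lowerCentralSeries_zero]; exact Subgroup.mem_top a
    have h1 : ⁅a, b⁆ ∈ L G (0 + 1) := comm_mem_L h0 b
    have h2 : L G (0 + 1) = ⊥ := hbot
    rw [h2, Subgroup.mem_bot] at h1
    exact hab (commutatorElement_eq_one_iff_mul_comm.mp h1)
  · have hn4 : 4 ≤ n := by
      have hlt : Nat.card E < Nat.card G := by
        by_contra hcon
        push_neg at hcon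
        exact hEtop (Subgroup.eq_top_of_le_card E hcon)
      rw [hE, hn] at hlt
      have := (Nat.pow_lt_pow_iff_right hp.out.one_lt).mp hlt
      omega
    obtain ⟨π, hπ⟩ : ∃ π : G →* G ⧸ Subgroup.center G, π = QuotientGroup.mk' (Subgroup.center G) :=
      ⟨_, rfl⟩
    have hπs : Function.Surjective π := by rw [hπ]; exact QuotientGroup.mk'_surjective _
    have hπ1 : ∀ g : G, π g = 1 ↔ g ∈ Subgroup.center G := by
      intro g; rw [hπ]; exact QuotientGroup.eq_one_iff g
    have hπker : π.ker = Subgroup.center G := by rw [hπ]; exact QuotientGroup.ker_mk' _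
    have hQcard : Nat.card (G ⧸ Subgroup.center G) = p ^ (n - 1) := by
      have h1 := Subgroup.card_eq_card_quotient_mul_card_subgroup (Subgroup.center G)
      rw [hn, hZcard] at h1
      have h2 : p ^ n = p ^ (n - 1) * p := by rw [← pow_succ]; congr 1; omega
      rw [h2] at h1
      exact (Nat.eq_of_mul_eq_mul_right hp.out.pos h1).symm
    obtain ⟨A, hA⟩ : ∃ A : Subgroup (G ⧸ Subgroup.center G), A = E.map π := ⟨_, rfl⟩
    have hAcard : Nat.card A = p ^ 2 := by
      have h1 : (E.map π).index = E.index :=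
        Subgroup.index_map_eq _ hπs (by rw [hπker]; exact hZE')
      have h2 := Subgroup.card_mul_index (E.map π)
      have h3 := Subgroup.card_mul_index E
      rw [h1, hQcard] at h2
      rw [hE, hn] at h3
      have hidx : 0 < E.index := Nat.pos_of_ne_zero Subgroup.index_ne_zero_of_finite
      rw [hA]
      apply Nat.eq_of_mul_eq_mul_right hidx
      apply Nat.eq_of_mul_eq_mul_right hp.out.pos
      calc Nat.card (E.map π) * E.index * p = p ^ (n - 1) * p := by rw [h2]
        _ = p ^ n := by rw [← pow_succ]; congr 1; omega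
        _ = p ^ 3 * E.index := h3.symm
        _ = p ^ 2 * E.index * p := by ring
    have hAab : A ≤ Subgroup.centralizer (A : Set (G ⧸ Subgroup.center G)) := by
      intro q hq
      rw [hA] at hq
      obtain ⟨x, hx, rfl⟩ := hq
      rw [Subgroup.mem_centralizer_iff]
      intro q' hq'
      rw [hA] at hq'
      obtain ⟨y, hy, rfl⟩ := hq'
      rw [← map_mul, ← map_mul]
      have h1 := hcomm y hy x hx
      have h2 : π (y * x * y⁻¹ * x⁻¹) = 1 := (hπ1 _).mpr h1
      have h3 : y * x = (y * x * y⁻¹ * x⁻¹) * (x * y) := by group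
      rw [h3, map_mul, h2, one_mul]
    obtain ⟨Cs, hCs⟩ : ∃ Cs : Subgroup G,
        Cs = (Subgroup.centralizer (A : Set (G ⧸ Subgroup.center G))).comap π := ⟨_, rfl⟩
    have hCs_comm : ∀ s ∈ Cs, ∀ e ∈ E, s * e * s⁻¹ * e⁻¹ ∈ Subgroup.center G := by
      intro s hs e he
      rw [hCs, Subgroup.mem_comap, Subgroup.mem_centralizer_iff] at hs
      have h1 := hs (π e) (by rw [hA]; exact ⟨e, he, rfl⟩)
      rw [← hπ1, map_mul, map_mul, map_mul, map_inv, map_inv, ← h1]
      group
    have hECs : E ≤ Cs := by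
      intro e he
      rw [hCs, Subgroup.mem_comap]
      exact hAab (by rw [hA]; exact ⟨e, he, rfl⟩)
    have hK : Subgroup.closure ({a, b} : Set G) = E := by
      have hKE : Subgroup.closure ({a, b} : Set G) ≤ E := by
        rw [Subgroup.closure_le]
        intro x hx
        rcases hx with rfl | rfl
        · exact haE
        · exact hbE
      apply Subgroup.eq_of_le_of_card_ge hKE
      by_contra hcon
      push_neg at hcon
      have hdvd : Nat.card (Subgroup.closure ({a, b} : Set G)) ∣ p ^ 3 := by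
        rw [← hE]; exact Subgroup.card_dvd_of_le hKE
      obtain ⟨j, hj, hcard⟩ := (Nat.dvd_prime_pow hp.out).mp hdvd
      have hj2 : j ≤ 2 := by
        by_contra h3
        have : j = 3 := by omega
        rw [this, ← hE] at hcard
        omega
      have hdvd2 : Nat.card (Subgroup.closure ({a, b} : Set G)) ∣ p ^ 2 := by
        rw [hcard]; exact pow_dvd_pow p hj2
      have := comm_of_card_dvd_sq (p := p) hdvd2
        (⟨a, Subgroup.subset_closure (by simp)⟩ : ↥(Subgroup.closure ({a, b} : Set G)))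
        ⟨b, Subgroup.subset_closure (by simp)⟩
      exact hab (congrArg Subtype.val this)
    have hCsE : Cs ≤ E := by
      intro s hs
      have hbCs := hECs hbE
      have haCs := hECs haE
      have hcc : ∀ z ∈ Subgroup.center G, ∀ s ∈ Cs, s * z = z * s :=
        fun z hz s _ => Subgroup.mem_center_iff.mp hz s
      obtain ⟨k, u, hu, hua, rfl⟩ := Cfsg.Agent.Lib.Helper1.ET.comm_decomp_elt Cs
        (Subgroup.center G) hZcard hcc haCs (fun s hs => hCs_comm s hs a haE) hbCs
        (fun h => hab h.symm) s hs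
      obtain ⟨l, v, hv, hvb, rfl⟩ := Cfsg.Agent.Lib.Helper1.ET.comm_decomp_elt Cs
        (Subgroup.center G) hZcard hcc hbCs (fun s hs => hCs_comm s hs b hbE) haCs
        hab u hu
      have hva : v * a = a * v := by
        have h1 : a ^ l * v * a = a * (a ^ l * v) := hua
        have h2 : a * (a ^ l * v) = a ^ l * (a * v) := by
          rw [← mul_assoc, ← mul_assoc]
          congr 1
          exact ((Commute.refl a).zpow_right l).eq
        rw [h2, mul_assoc] at h1
        exact mul_left_cancel h1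
      have hvC : v ∈ Subgroup.centralizer (E : Set G) := by
        have h1 : Subgroup.closure ({a, b} : Set G) ≤ Subgroup.centralizer ({v} : Set G) := by
          rw [Subgroup.closure_le]
          intro x hx
          rcases hx with rfl | rfl
          · exact Subgroup.mem_centralizer_iff.mpr (fun h hh => by
              rw [Set.mem_singleton_iff.mp hh]; exact hva)
          · exact Subgroup.mem_centralizer_iff.mpr (fun h hh => by
              rw [Set.mem_singleton_iff.mp hh]; exact hvb)
        rw [hK] at h1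
        rw [Subgroup.mem_centralizer_iff]
        intro e he
        have := Subgroup.mem_centralizer_iff.mp (h1 he) v (Set.mem_singleton v)
        exact this.symm
      exact E.mul_mem (E.zpow_mem hbE k) (E.mul_mem (E.zpow_mem haE l) (hC hvC))
    have hAC : Subgroup.centralizer (A : Set (G ⧸ Subgroup.center G)) = A := by
      apply le_antisymm _ hAab
      intro q hq
      obtain ⟨g, rfl⟩ := hπs q
      have hg : g ∈ Cs := by rw [hCs, Subgroup.mem_comap]; exact hq
      rw [hA]
      exact ⟨g, hCsE hg, rfl⟩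
    have hclQ : Group.nilpotencyClass (G ⧸ Subgroup.center G) = (n - 1) - 1 :=
      Cfsg.Agent.Lib.Helper1.max_class_of_self_centralizing (p := p) (n - 1) hQcard A hAcard hAC
    haveI : Group.IsNilpotent (G ⧸ Subgroup.center G) := (IsPGroup.of_card hQcard).isNilpotent
    have hQtop : (⊤ : Subgroup (G ⧸ Subgroup.center G)).lowerCentralSeries (n - 3) ≠ ⊥ := by
      intro hbot
      have := Subgroup.lowerCentralSeries_eq_bot_iff_nilpotencyClass_le.mp hbot
      omega
    refine ⟨n, hn, by omega, ?_⟩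
    intro hbot
    apply hQtop
    rw [← Cfsg.Agent.Lib.Helper1.Blk.lcs_map π hπs (n - 3), eq_bot_iff]
    rintro _ ⟨x, hx, rfl⟩
    rw [Subgroup.mem_bot, hπ1, Subgroup.mem_center_iff]
    intro g
    have h1 : ⁅x, g⁆ ∈ L G (n - 3 + 1) := comm_mem_L hx g
    rw [show n - 3 + 1 = n - 2 by omega] at h1
    have h2 : L G (n - 2) = ⊥ := hbot
    rw [h2, Subgroup.mem_bot] at h1
    exact (commutatorElement_eq_one_iff_mul_comm.mp h1).symm

end pearl

section small

variable {X : Type u} [Group X] [Finite X] {p : ℕ} [hp : Fact p.Prime]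

theorem two_gen_of_card_le_sq (hX : IsPGroup p X) (hc : Nat.card X ≤ p ^ 2) :
    ∃ T : Finset X, T.card ≤ 2 ∧ Subgroup.closure (T : Set X) = ⊤ :=
  two_gen_of_frattini hX
    (le_trans (Nat.le_of_dvd Nat.card_pos (Subgroup.index_dvd_card _)) hc)

theorem two_gen_of_card_cube (hc : Nat.card X = p ^ 3) (hfr : frattini X ≠ ⊥) :
    ∃ T : Finset X, T.card ≤ 2 ∧ Subgroup.closure (T : Set X) = ⊤ := by
  have hX : IsPGroup p X := IsPGroup.of_card hc
  apply two_gen_of_frattini hX
  have h1 := Subgroup.card_mul_index (frattini X)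
  rw [hc] at h1
  obtain ⟨k, hk⟩ := IsPGroup.iff_card.mp (hX.to_subgroup (frattini X))
  have hk0 : k ≠ 0 := by
    rintro rfl
    rw [pow_zero] at hk
    exact hfr (Subgroup.card_eq_one.mp hk)
  rw [hk] at h1
  have hk3 : k ≤ 3 := by
    have : p ^ k ∣ p ^ 3 := ⟨_, h1.symm⟩
    exact (Nat.pow_dvd_pow_iff_le_right hp.out.one_lt).mp this
  have h2 : p ^ 3 = p ^ k * p ^ (3 - k) := by rw [← pow_add]; congr 1; omega
  rw [h2] at h1
  have h3 : (frattini X).index = p ^ (3 - k) :=
    Nat.eq_of_mul_eq_mul_left (pow_pos hp.out.pos k) h1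
  rw [h3]
  exact Nat.pow_le_pow_right hp.out.pos (by omega)

theorem elem_of_frattini_bot (hX : IsPGroup p X) (hfr : frattini X = ⊥) :
    (∀ a b : X, a * b = b * a) ∧ ∀ x : X, x ^ p = 1 := by
  constructor
  · intro a b
    have h1 : ⁅a, b⁆ ∈ commutator X :=
      Subgroup.commutator_mem_commutator (Subgroup.mem_top _) (Subgroup.mem_top _)
    have h2 := Cfsg.Agent.Lib.Helper1.commutator_le_frattini_of_isPGroup p hX h1
    rw [hfr, Subgroup.mem_bot] at h2
    exact commutatorElement_eq_one_iff_mul_comm.mp h2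
  · intro x
    have h2 := Cfsg.Agent.Lib.Helper1.pow_prime_mem_frattini_of_isPGroup p hX x
    rw [hfr, Subgroup.mem_bot] at h2
    exact h2

theorem exists_sq_not_mem {A : Type u} [Group A] [Finite A] (hcomm : ∀ a b : A, a * b = b * a)
    (hcard : Nat.card A = p ^ 3) (hexp : ∀ a : A, a ^ p = 1) (z : A) (hz : z ≠ 1) :
    ∃ B : Subgroup A, Nat.card B = p ^ 2 ∧ z ∉ B := by
  have hnorm : ∀ N : Subgroup A, N.Normal := fun N =>
    ⟨fun n hn g => by rw [hcomm g n, mul_inv_cancel_right]; exact hn⟩
  have hcm : ∀ {H K : Subgroup A}, H ≤ K → Nat.card H * H.relIndex K = Nat.card K := by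
    intro H K h
    have := Subgroup.relIndex_mul_relIndex ⊥ H K bot_le h
    rwa [Subgroup.relIndex_bot_left, Subgroup.relIndex_bot_left] at this
  have step : ∀ (N : Subgroup A) (c : A), c ∉ N →
      Nat.card (Subgroup.zpowers c ⊔ N : Subgroup A) = Nat.card N * p := by
    intro N c hc
    haveI := hnorm N
    have h1 := Cfsg.Agent.Lib.Helper1.relIndex_zpowers_sup_eq_prime p N c hc
      (by rw [hexp c]; exact N.one_mem)
    have h2 := hcm (le_sup_right : N ≤ Subgroup.zpowers c ⊔ N)
    rw [h1] at h2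
    exact h2.symm
  have hbot : Nat.card (⊥ : Subgroup A) = 1 := Subgroup.card_bot
  have hz1 : Nat.card (Subgroup.zpowers z) = p := by
    have := step ⊥ z (by rw [Subgroup.mem_bot]; exact hz)
    rwa [sup_bot_eq, hbot, one_mul] at this
  obtain ⟨a, ha⟩ : ∃ a, a ∉ Subgroup.zpowers z := by
    by_contra hcon; push_neg at hcon
    have h1 : Subgroup.zpowers z = ⊤ := eq_top_iff.mpr fun x _ => hcon x
    rw [h1, Subgroup.card_top, hcard] at hz1
    have h2 : p ^ 3 = p ^ 1 := by rw [hz1, pow_one]
    have := Nat.pow_right_injective hp.out.two_le h2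
    omega
  have ha1 : a ≠ 1 := fun h => ha (h ▸ Subgroup.one_mem _)
  have hM : Nat.card (Subgroup.zpowers a ⊔ Subgroup.zpowers z : Subgroup A) = p * p := by
    rw [step _ a ha, hz1]
  obtain ⟨b, hb⟩ : ∃ b, b ∉ Subgroup.zpowers a ⊔ Subgroup.zpowers z := by
    by_contra hcon; push_neg at hcon
    have h1 : Subgroup.zpowers a ⊔ Subgroup.zpowers z = ⊤ := eq_top_iff.mpr fun x _ => hcon x
    rw [h1, Subgroup.card_top, hcard] at hM
    have h2 : p ^ 3 = p ^ 2 := by rw [hM, sq]
    have := Nat.pow_right_injective hp.out.two_le h2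
    omega
  have ha2 : Nat.card (Subgroup.zpowers a) = p := by
    have := step ⊥ a (by rw [Subgroup.mem_bot]; exact ha1)
    rwa [sup_bot_eq, hbot, one_mul] at this
  have hbA : b ∉ Subgroup.zpowers a :=
    fun h => hb ((le_sup_left : Subgroup.zpowers a ≤ Subgroup.zpowers a ⊔ Subgroup.zpowers z) h)
  refine ⟨Subgroup.zpowers b ⊔ Subgroup.zpowers a, ?_, ?_⟩
  · rw [step _ b hbA, ha2, sq]
  · intro hzB
    have hMB : Subgroup.zpowers a ⊔ Subgroup.zpowers z ≤ Subgroup.zpowers b ⊔ Subgroup.zpowers a :=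
      sup_le le_sup_right (by rw [Subgroup.zpowers_le]; exact hzB)
    have hle : Subgroup.zpowers b ⊔ (Subgroup.zpowers a ⊔ Subgroup.zpowers z) ≤
        Subgroup.zpowers b ⊔ Subgroup.zpowers a := sup_le le_sup_left hMB
    have h1 := Subgroup.card_le_of_le hle
    rw [step _ b hb, hM, step _ b hbA, ha2] at h1
    have hp2 := hp.out.two_le
    nlinarith

end small

end Cfsg.Agent.Lib.Helper1.Mcl
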