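import Mathlib
import Cfsg.Agent.Lib.Helper1.Mcl7

/-! # 3-groups of maximal class of order 81; all 3-groups of maximal class of order at least 81 -/

set_option autoImplicit false
set_option maxHeartbeats 4000000
set_option linter.unusedVariables false
set_option linter.unusedSectionVars false
set_option linter.style.longLine false
set_option linter.unusedSimpArgs false

open scoped commutatorElement Pointwise
universe u

namespace Cfsg.Agent.Lib.Helper1.Mcl

open Cfsg.Agent.Lib.Helper3.Breadth (twoStep mem_twoStep cstep mem_cstep twoStep_ne_top mul_card_le_of_lt)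

variable {G : Type u} [Group G] [Finite G]

theorem card_perm_fin9 : Nat.card (Equiv.Perm (Fin 9)) = 362880 := by
  rw [Nat.card_eq_fintype_card, Fintype.card_perm, Fintype.card_fin]
  rfl

/-- a group of order 81 acting faithfully on 9 points is a Sylow 3-subgroup of `S_9`. -/
theorem sylow_of_injective (hcard : Nat.card G = 81) (ψ : G →* Equiv.Perm (Fin 9))
    (hψ : Function.Injective ψ) :
    ∃ W : Sylow 3 (Equiv.Perm (Fin 9)),
      Nonempty (G ≃* ↥(W : Subgroup (Equiv.Perm (Fin 9)))) := by
  have hK : Nat.card ψ.range = 3 ^ 4 := by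
    rw [← Nat.card_congr (MonoidHom.ofInjective hψ).toEquiv, hcard]; norm_num
  have hKp : IsPGroup 3 ψ.range := IsPGroup.of_card hK
  have hidx : ¬ 3 ∣ ψ.range.index := by
    have h1 := Subgroup.card_mul_index ψ.range
    rw [hK, card_perm_fin9] at h1
    have h2 : ψ.range.index = 4480 := by omega
    rw [h2]; norm_num
  refine ⟨hKp.toSylow hidx, ⟨?_⟩⟩
  exact (MonoidHom.ofInjective hψ).trans
    (MulEquiv.subgroupCongr (IsPGroup.toSylow_coe hKp hidx).symm)

theorem MaxCl.center_le_of_normal {m : ℕ} (h : MaxCl 3 m G) (hm : 4 ≤ m) (N : Subgroup G)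
    [N.Normal] (hN : N ≠ ⊥) : Subgroup.center G ≤ N := by
  haveI : Group.IsNilpotent G := h.isPGroup.isNilpotent
  have hZ : Nat.card (Subgroup.center G) = 3 :=
    (Cfsg.Agent.Lib.Helper1.ET.max_class_Z2 m hm h.card h.nilpotencyClass_eq).1
  have h1 := Cfsg.Agent.Lib.Helper1.normal_inf_center_ne_bot N hN
  have h2 : N ⊓ Subgroup.center G = Subgroup.center G := by
    apply Subgroup.eq_of_le_of_card_ge inf_le_right
    rw [hZ]
    have h3 : Nat.card (N ⊓ Subgroup.center G : Subgroup G) ∣ 3 := by
      rw [← hZ]; exact Subgroup.card_dvd_of_le inf_le_right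
    rcases (Nat.dvd_prime Nat.prime_three).mp h3 with h4 | h4
    · exact absurd (Subgroup.card_eq_one.mp h4) h1
    · exact h4.ge
  rw [← h2]
  exact inf_le_left

theorem MaxCl.sylow_perm (h : MaxCl 3 4 G) (A : Subgroup G) (hA : Nat.card A = 27)
    (hAc : ∀ a b : ↥A, a * b = b * a) (hAe : ∀ a : ↥A, a ^ 3 = 1) :
    ∃ W : Sylow 3 (Equiv.Perm (Fin 9)),
      Nonempty (G ≃* ↥(W : Subgroup (Equiv.Perm (Fin 9)))) := by
  classical
  have hcard : Nat.card G = 81 := by rw [h.card]; norm_num
  have hZ : Nat.card (Subgroup.center G) = 3 :=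
    (Cfsg.Agent.Lib.Helper1.ET.max_class_Z2 4 le_rfl h.card h.nilpotencyClass_eq).1
  obtain ⟨z, hzZ, hz1⟩ : ∃ z ∈ Subgroup.center G, z ≠ 1 := by
    by_contra hcon
    push_neg at hcon
    have : Subgroup.center G = ⊥ := (Subgroup.eq_bot_iff_forall _).mpr hcon
    rw [this, Subgroup.card_bot] at hZ
    omega
  have hA3 : Nat.card ↥A = 3 ^ 3 := by rw [hA]; norm_num
  -- the point stabilizer
  obtain ⟨B, hBcard, hzB⟩ : ∃ B : Subgroup G, Nat.card B = 9 ∧ z ∉ B := by
    by_cases hzA : z ∈ A
    · obtain ⟨B₀, hB₀, hzB₀⟩ := exists_sq_not_mem (p := 3) hAc hA3 hAe ⟨z, hzA⟩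
        (fun h => hz1 (congrArg Subtype.val h))
      refine ⟨B₀.map A.subtype, ?_, ?_⟩
      · rw [Subgroup.card_map_of_injective A.subtype_injective, hB₀]; norm_num
      · rintro ⟨y, hy, hyz⟩
        apply hzB₀
        have : y = ⟨z, hzA⟩ := Subtype.ext hyz
        rw [← this]; exact hy
    · obtain ⟨a, ha⟩ : ∃ a : ↥A, a ≠ 1 := by
        by_contra hcon
        push_neg at hcon
        haveI : Subsingleton ↥A := ⟨fun x y => by rw [hcon x, hcon y]⟩
        have := Nat.card_of_subsingleton (1 : ↥A)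
        omega
      obtain ⟨B₀, hB₀, -⟩ := exists_sq_not_mem (p := 3) hAc hA3 hAe a ha
      refine ⟨B₀.map A.subtype, ?_, ?_⟩
      · rw [Subgroup.card_map_of_injective A.subtype_injective, hB₀]; norm_num
      · rintro ⟨y, hy, hyz⟩
        apply hzA
        rw [← hyz]; exact y.2
  -- core-free
  have hcore : B.normalCore = ⊥ := by
    by_contra hne
    have h1 := h.center_le_of_normal le_rfl B.normalCore hne
    exact hzB (Subgroup.normalCore_le B (h1 hzZ))
  have hinj : Function.Injective (MulAction.toPermHom G (G ⧸ B)) := by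
    rw [← MonoidHom.ker_eq_bot_iff, ← Subgroup.normalCore_eq_ker]
    exact hcore
  have h9 : Nat.card (G ⧸ B) = 9 := by
    have h1 := Subgroup.card_mul_index B
    rw [hBcard, hcard, Subgroup.index_eq_card] at h1
    omega
  haveI : Finite (G ⧸ B) := Nat.finite_of_card_ne_zero (by rw [h9]; norm_num)
  have e : (G ⧸ B) ≃ Fin 9 := Finite.equivFinOfCardEq h9
  exact sylow_of_injective hcard
    ((e.permCongrHom.toMonoidHom).comp (MulAction.toPermHom G (G ⧸ B)))
    (e.permCongrHom.injective.comp hinj)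

/-- in a 3-group of maximal class of order 81, either all subgroups are 2-generated or the
group is a Sylow 3-subgroup of `S_9`. -/
theorem MaxCl.cases81 (h : MaxCl 3 4 G) :
    (∀ H : Subgroup G, ∃ T : Finset G, T.card ≤ 2 ∧ Subgroup.closure (T : Set G) = H) ∨
    ∃ W : Sylow 3 (Equiv.Perm (Fin 9)),
      Nonempty (G ≃* ↥(W : Subgroup (Equiv.Perm (Fin 9)))) := by
  classical
  have hcard : Nat.card G = 3 ^ 4 := h.card
  have hG : IsPGroup 3 G := h.isPGroup
  by_cases hex : ∃ A : Subgroup G, Nat.card A = 27 ∧ frattini ↥A = ⊥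
  · right
    obtain ⟨A, hA, hfr⟩ := hex
    obtain ⟨h1, h2⟩ := elem_of_frattini_bot (p := 3) (hG.to_subgroup A) hfr
    exact h.sylow_perm A hA h1 h2
  · left
    push_neg at hex
    intro H
    have hdvd : Nat.card H ∣ 3 ^ 4 := by rw [← hcard]; exact Subgroup.card_subgroup_dvd_card H
    obtain ⟨k, hk, hHk⟩ := (Nat.dvd_prime_pow Nat.prime_three).mp hdvd
    by_cases hk4 : k = 4
    · have hHtop : H = ⊤ := by
        apply Subgroup.eq_top_of_card_eq
        rw [hHk, hk4, hcard]
      have hfi : (frattini G).index ≤ 3 ^ 2 := by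
        have h1 : commutator G ≤ frattini G :=
          Cfsg.Agent.Lib.Helper1.commutator_le_frattini_of_isPGroup 3 hG
        have h2 : (commutator G).index = 3 ^ 2 := by
          rw [← Subgroup.top_lowerCentralSeries_one]; exact h.index_L_one
        rw [← h2]
        exact Nat.le_of_dvd (Nat.pos_of_ne_zero Subgroup.index_ne_zero_of_finite)
          (Subgroup.index_dvd_of_le h1)
      obtain ⟨T, hT, hcl⟩ := two_gen_of_frattini hG hfi
      exact ⟨T, hT, by rw [hcl, hHtop]⟩
    · apply two_gen_subgroup H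
      have hHp : IsPGroup 3 ↥H := hG.to_subgroup H
      by_cases hk3 : k = 3
      · have hH27 : Nat.card H = 27 := by rw [hHk, hk3]; norm_num
        apply two_gen_of_card_cube (p := 3) (by rw [hHk, hk3])
        exact hex H hH27
      · apply two_gen_of_card_le_sq (p := 3) hHp
        rw [hHk]
        exact Nat.pow_le_pow_right (by norm_num) (by omega)

/-- a 3-group of maximal class of order at least 81: all subgroups 2-generated, or the group is a
Sylow 3-subgroup of `S_9`. -/
theorem MaxCl.cases {m : ℕ} (h : MaxCl 3 m G) (hm : 4 ≤ m) :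
    (∀ H : Subgroup G, ∃ T : Finset G, T.card ≤ 2 ∧ Subgroup.closure (T : Set G) = H) ∨
    ∃ W : Sylow 3 (Equiv.Perm (Fin 9)),
      Nonempty (G ≃* ↥(W : Subgroup (Equiv.Perm (Fin 9)))) := by
  by_cases h4 : m = 4
  · subst h4
    exact h.cases81
  · left
    intro H
    exact h.two_gen (by omega) H

end Cfsg.Agent.Lib.Helper1.Mcl
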