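import Mathlib
import Cfsg.Agent.Lib.Helper1.Mcl8
import Cfsg.Agent.Lib.Helper1.ET9

/-! # An abelian pearl in a group of order 27 forces exponent 3 -/

set_option autoImplicit false
set_option maxHeartbeats 4000000
set_option linter.unusedVariables false
set_option linter.unusedSectionVars false
set_option linter.style.longLine false
set_option linter.unusedSimpArgs false
set_option linter.style.haveILetI false

universe u
open scoped commutatorElement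

namespace Cfsg.Agent.Lib.Helper1.Mcl

open Cfsg Cfsg.FusionSystem Cfsg.Agent.Lib.Helper9 Cfsg.Agent.Lib.Helper7 Cfsg.Agent.Lib.Helper1
  Cfsg.Agent.Lib.Helper2.EssGen Cfsg.Agent.Lib.Helper1.ET

variable {Ω : Type*} [Group Ω] {S : Subgroup Ω}

theorem map_mem_of_forall {V : Type*} [Group V] [Finite V] (L : Subgroup V) (δ : MulAut V)
    (h : ∀ u ∈ L, δ u ∈ L) : ∀ u ∈ L, δ⁻¹ u ∈ L := by
  have hmap : L.map δ.toMonoidHom = L := by
    apply Subgroup.eq_of_le_of_card_ge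
    · rintro _ ⟨y, hy, rfl⟩
      exact h y hy
    · rw [Subgroup.card_map_of_injective δ.injective]
  intro u hu
  rw [← hmap] at hu
  obtain ⟨w, hw, rfl⟩ := hu
  show δ⁻¹ (δ w) ∈ L
  rw [MulAut.inv_apply_self]
  exact hw

theorem pearl27_cube [Finite S] (hS : IsPGroup 3 S) (F : FusionSystem S)
    (hF : F.IsSaturated 3) (E : Subgroup Ω) (hE : F.IsEssential 3 E)
    (hEcard : Nat.card E = 9) (hEexp : ∀ x ∈ E, x ^ 3 = 1)
    (hEab : ∀ a ∈ E, ∀ b ∈ E, a * b = b * a) (hScard : Nat.card S = 27) :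
    ∀ x ∈ S, x ^ 3 = 1 := by
  classical
  have hPc := hE.1
  have hES : E ≤ S := hPc.1
  have hCE : centralizerIn S E ≤ E := hPc.2 E (isConj_refl F hES)
  have hPfn := hE.2.1
  haveI hfinE : Finite E := finite_of_le hES
  have hEp : IsPGroup 3 ↥E := isPGroup_of_le hS hES
  have hlt := essential_lt hS F hF hE
  have hna : ¬ IsMulCommutative ↥S := by
    intro hc
    apply not_le_of_gt hlt
    intro s hs
    apply hCE
    have h1 : s ∈ Subgroup.centralizer (E : Set Ω) := by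
      rw [Subgroup.mem_centralizer_iff]
      intro e he
      exact congrArg Subtype.val (hc.is_comm.comm ⟨e, hES he⟩ ⟨s, hs⟩)
    exact Subgroup.mem_inf.mpr ⟨hs, h1⟩
  have hidx : (E.subgroupOf S).index = 3 := by
    have h1 := Subgroup.card_mul_index (E.subgroupOf S)
    rw [hScard] at h1
    have h2 : Nat.card (E.subgroupOf S) = 9 := by
      rw [← hEcard]; exact Nat.card_congr (Subgroup.subgroupOfEquivOfLe hES).toEquiv
    rw [h2] at h1; omega
  have hEc : IsMulCommutative ↥E := ⟨⟨fun a b => Subtype.ext (hEab a a.2 b b.2)⟩⟩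
  have hEcomm : ∀ a b : ↥E, a * b = b * a := fun a b => Subtype.ext (hEab a a.2 b b.2)
  have hab := abSetup_of hS hna E ⟨hES, hEc, hidx⟩
  have hSN : S ≤ Subgroup.normalizer (E : Set Ω) := hab.le_normalizer
  -- structure of S
  have hnaS : ¬ ∀ a b : ↥S, a * b = b * a := fun h => hna ⟨⟨h⟩⟩
  have hS27 : Nat.card ↥S = 3 ^ 3 := by rw [hScard]; norm_num
  obtain ⟨hZcard, hcommS, -, hcubeS⟩ := Cfsg.Agent.Lib.Lead.Fus.extraspecial_of_card_cube hS27 hnaS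
  obtain ⟨ZΩ, hZΩ⟩ : ∃ ZΩ : Subgroup Ω, ZΩ = (Subgroup.center ↥S).map S.subtype := ⟨_, rfl⟩
  have hZΩ' : ZΩ = S ⊓ Subgroup.centralizer (S : Set Ω) := by
    rw [hZΩ, center_map_subtype]
  have hZΩcard : Nat.card ZΩ = 3 := by
    rw [hZΩ, Subgroup.card_map_of_injective S.subtype_injective]; exact hZcard
  have hZE : ZΩ ≤ E := by
    intro z hz
    rw [hZΩ'] at hz
    exact hCE ⟨hz.1, Subgroup.centralizer_le (SetLike.coe_subset_coe.mpr hES) hz.2⟩
  have hZcen : ∀ z ∈ ZΩ, ∀ s ∈ S, s * z = z * s := by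
    intro z hz s hs
    rw [hZΩ'] at hz
    exact Subgroup.mem_centralizer_iff.mp hz.2 s hs
  have hcommZ : ∀ s ∈ S, ∀ t ∈ S, s * t * s⁻¹ * t⁻¹ ∈ ZΩ := by
    intro s hs t ht
    have h1 : ⁅(⟨s, hs⟩ : ↥S), ⟨t, ht⟩⁆ ∈ commutator ↥S :=
      Subgroup.commutator_mem_commutator (Subgroup.mem_top _) (Subgroup.mem_top _)
    rw [hcommS] at h1
    rw [hZΩ]
    exact ⟨_, h1, rfl⟩
  have hcubeZ : ∀ s ∈ S, s ^ 3 ∈ ZΩ := by
    intro s hs
    rw [hZΩ]
    exact ⟨_, hcubeS ⟨s, hs⟩, rfl⟩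
  intro x hxS
  by_cases hxE : x ∈ E
  · exact hEexp x hxE
  have hxN : x ∈ Subgroup.normalizer (E : Set Ω) := hSN hxS
  obtain ⟨t, ht⟩ : ∃ t : MulAut ↥E, t = conjAut E ⟨x, hxN⟩ := ⟨_, rfl⟩
  have htv : ∀ v : ↥E, ((t v : ↥E) : Ω) = x * v * x⁻¹ := by
    intro v; rw [ht]; rfl
  obtain ⟨L, hL⟩ : ∃ L : Subgroup ↥E, L = ZΩ.subgroupOf E := ⟨_, rfl⟩
  have hLcard : Nat.card L = 3 := by
    rw [hL, ← hZΩcard]
    exact Nat.card_congr (Subgroup.subgroupOfEquivOfLe hZE).toEquiv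
  have hLmem : ∀ v : ↥E, v ∈ L ↔ (v : Ω) ∈ ZΩ := by
    intro v; rw [hL]; exact Subgroup.mem_subgroupOf
  have H1 : ∀ v : ↥E, t v * v⁻¹ ∈ L := by
    intro v
    rw [hLmem]
    show ((t v : ↥E) : Ω) * (v : Ω)⁻¹ ∈ ZΩ
    rw [htv]
    exact hcommZ x hxS v (hES v.2)
  have H2 : ∀ u ∈ L, t u = u := by
    intro u hu
    rw [hLmem] at hu
    apply Subtype.ext
    rw [htv, hZcen u hu x hxS, mul_inv_cancel_right]
  have hfix : ∀ v : ↥E, t v = v → v ∈ L := by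
    intro v hv
    rw [hLmem, hZΩ']
    refine Subgroup.mem_inf.mpr ⟨hES v.2, ?_⟩
    rw [Subgroup.mem_centralizer_iff]
    intro s hs
    obtain ⟨k, a, ha, rfl⟩ := hab.decomp hxS hxE s hs
    have h1 : x * (v : Ω) * x⁻¹ = v := by rw [← htv, hv]
    have h2 : x * (v : Ω) = v * x := by
      calc x * (v : Ω) = x * v * x⁻¹ * x := by group
        _ = v * x := by rw [h1]
    have h3 : x ^ k * (v : Ω) = v * x ^ k := ((Commute.zpow_left (show Commute x (v : Ω) from h2) k)).eq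
    rw [mul_assoc, hEab a ha v v.2, ← mul_assoc, h3, mul_assoc]
  obtain ⟨γ, hγA, hbridge⟩ := essential_bridge hS F hF hE
  have hmono : ∀ j, chain3 L ⊤ j ≤ chain3 L ⊤ (j + 1) := by
    intro j
    match j with
    | 0 => exact bot_le
    | 1 => exact le_top
    | 2 => exact le_top
    | (j + 3) => exact le_top
  have hmain : (∀ u ∈ L, γ u ∈ L) → (∀ u ∈ L, γ⁻¹ u ∈ L) → False := by
    intro hγL hγL'
    have hRp := isPGroup_stab_chainPres hEp (chain3 L ⊤) rfl 2 rfl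
    have htR : conjAut E ⟨x, hxN⟩ ∈ stabChain (chainPres (chain3 L ⊤)) (chain3 L ⊤)
        (fun α hα j x hx => (hα j x).mp hx) := by
      rw [← ht]
      apply mem_stab_chainPres (chain3 L ⊤) rfl hmono
      intro j v hv
      match j with
      | 0 =>
        show v⁻¹ * t v ∈ (⊥ : Subgroup ↥E)
        have hv' : v ∈ L := hv
        rw [H2 v hv', inv_mul_cancel]
        exact Subgroup.one_mem _
      | 1 =>
        show v⁻¹ * t v ∈ L
        rw [hEcomm]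
        exact H1 v
      | 2 => exact Subgroup.mem_top _
      | (j + 3) => exact Subgroup.mem_top _
    have hγtR : γ * conjAut E ⟨x, hxN⟩ * γ⁻¹ ∈ stabChain (chainPres (chain3 L ⊤)) (chain3 L ⊤)
        (fun α hα j x hx => (hα j x).mp hx) := by
      rw [← ht]
      apply mem_stab_chainPres (chain3 L ⊤) rfl hmono
      intro j v hv
      have e1 : (γ * t * γ⁻¹) v = γ (t (γ⁻¹ v)) := rfl
      match j with
      | 0 =>
        show v⁻¹ * (γ * t * γ⁻¹) v ∈ (⊥ : Subgroup ↥E)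
        have hv' : v ∈ L := hv
        rw [e1, H2 _ (hγL' v hv'), MulAut.apply_inv_self, inv_mul_cancel]
        exact Subgroup.one_mem _
      | 1 =>
        show v⁻¹ * (γ * t * γ⁻¹) v ∈ L
        have e2 : v⁻¹ * (γ * t * γ⁻¹) v = γ (t (γ⁻¹ v) * (γ⁻¹ v)⁻¹) := by
          rw [e1, map_mul, map_inv, MulAut.apply_inv_self, hEcomm]
        rw [e2]
        exact hγL _ (H1 _)
      | 2 => exact Subgroup.mem_top _
      | (j + 3) => exact Subgroup.mem_top _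
    exact hbridge _ hRp x hxS hxN hxE x hxS hxN hxE htR hγtR
  have H4 : ∃ u ∈ L, t (γ u) ≠ γ u := by
    by_contra hcon
    push_neg at hcon
    have h1 : ∀ u ∈ L, γ u ∈ L := fun u hu => hfix _ (hcon u hu)
    exact hmain h1 (map_mem_of_forall L γ h1)
  have H5 : ∃ u ∈ L, t (γ⁻¹ u) ≠ γ⁻¹ u := by
    by_contra hcon
    push_neg at hcon
    have h1 : ∀ u ∈ L, γ⁻¹ u ∈ L := fun u hu => hfix _ (hcon u hu)
    have h2 := map_mem_of_forall L γ⁻¹ h1
    rw [inv_inv] at h2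
    exact hmain h2 h1
  obtain ⟨h, hh, hht, -, hhL, -⟩ := exists_inverting_aut hEcomm 3 (by norm_num) t γ L hLcard
    H1 H2 H4 H5
  have htA : t ∈ F.autGroup E := by rw [ht]; exact conjAut_mem_autGroup F hES hxS hxN
  have hhA : h ∈ F.autGroup E := by
    have hle : Subgroup.closure ({t, γ * t * γ⁻¹} : Set (MulAut ↥E)) ≤ F.autGroup E := by
      rw [Subgroup.closure_le]
      intro y hy
      rcases hy with rfl | rfl
      · exact htA
      · exact Subgroup.mul_mem _ (Subgroup.mul_mem _ hγA htA) (Subgroup.inv_mem _ hγA)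
    exact hle hh
  have hht' : ∀ v : ↥E, h (t v) = t (h v) := by
    intro v
    have := congrArg (fun f : MulAut ↥E => f v) hht
    exact this
  obtain ⟨N, ψ, hψ, hEN, hYN, hψE⟩ := exists_extension hS F hF hPfn hhA ({x} : Set Ω) (by
    intro g hg
    rw [Set.mem_singleton_iff] at hg
    subst hg
    refine ⟨hxS, hxN, g, hxS, ?_⟩
    intro v hv
    have e1 : (⟨g * (v : Ω) * g⁻¹, hv⟩ : ↥E) = t v := Subtype.ext (htv v).symm
    rw [e1, hht', htv])
  have hxNn : x ∈ N := hYN (Set.mem_singleton x)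
  have hψS : ∀ y : N, ψ y ∈ S := (F.le_of_mem hψ).2
  obtain ⟨y, hy⟩ : ∃ y : Ω, y = ψ ⟨x, hxNn⟩ := ⟨_, rfl⟩
  have hyS : y ∈ S := by rw [hy]; exact hψS _
  -- y acts on E as x does
  have hyw : ∀ w : ↥E, y * (w : Ω) * y⁻¹ = x * w * x⁻¹ := by
    intro w
    obtain ⟨v, hv⟩ : ∃ v : ↥E, v = h⁻¹ w := ⟨_, rfl⟩
    have hhv : h v = w := by rw [hv, MulAut.apply_inv_self]
    have htvE : x * (v : Ω) * x⁻¹ ∈ E := by rw [← htv]; exact (t v).2
    have e1 : ψ ⟨x * (v : Ω) * x⁻¹, hEN htvE⟩ = ((h (t v) : ↥E) : Ω) := by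
      have := hψE (t v) (hEN (t v).2)
      rw [← this]
      congr 1
      exact Subtype.ext (htv v).symm
    have e2 : ψ ⟨x * (v : Ω) * x⁻¹, hEN htvE⟩ = y * ((h v : ↥E) : Ω) * y⁻¹ := by
      have e3 : (⟨x * (v : Ω) * x⁻¹, hEN htvE⟩ : ↥N) =
          ⟨x, hxNn⟩ * ⟨(v : Ω), hEN v.2⟩ * (⟨x, hxNn⟩ : ↥N)⁻¹ := rfl
      rw [e3, map_mul, map_mul, map_inv, ← hy, hψE v (hEN v.2)]
    rw [← hhv, ← e2, e1, hht', htv]
  obtain ⟨a, ha⟩ : ∃ a : Ω, a = x⁻¹ * y := ⟨_, rfl⟩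
  have haE : a ∈ E := by
    apply hCE
    refine Subgroup.mem_inf.mpr ⟨by rw [ha]; exact S.mul_mem (S.inv_mem hxS) hyS, ?_⟩
    rw [Subgroup.mem_centralizer_iff]
    intro w hw
    have h1 := hyw ⟨w, hw⟩
    have h2 : y * w = x * w * x⁻¹ * y := by
      calc y * w = y * w * y⁻¹ * y := by group
        _ = x * w * x⁻¹ * y := by rw [h1]
    rw [ha]
    calc w * (x⁻¹ * y) = x⁻¹ * (x * w * x⁻¹ * y) := by group
      _ = x⁻¹ * (y * w) := by rw [h2]
      _ = x⁻¹ * y * w := by group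
  have hyxa : y = x * a := by rw [ha]; group
  -- cube of x
  have hx3Z : x ^ 3 ∈ ZΩ := hcubeZ x hxS
  have hx3E : x ^ 3 ∈ E := hZE hx3Z
  have hx3L : (⟨x ^ 3, hx3E⟩ : ↥E) ∈ L := (hLmem _).mpr hx3Z
  have e4 : ψ ⟨x ^ 3, hEN hx3E⟩ = (x ^ 3)⁻¹ := by
    rw [hψE ⟨x ^ 3, hx3E⟩ (hEN hx3E), hhL _ hx3L]
    rfl
  have e5 : ψ ⟨x ^ 3, hEN hx3E⟩ = y ^ 3 := by
    have e6 : (⟨x ^ 3, hEN hx3E⟩ : ↥N) = (⟨x, hxNn⟩ : ↥N) ^ 3 := rfl
    rw [e6, map_pow, ← hy]
  -- y ^ 3 = x ^ 3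
  have hy3 : y ^ 3 = x ^ 3 := by
    obtain ⟨xs, hxs⟩ : ∃ xs : ↥S, xs = ⟨x, hxS⟩ := ⟨_, rfl⟩
    obtain ⟨as, has⟩ : ∃ as : ↥S, as = ⟨a, hES haE⟩ := ⟨_, rfl⟩
    have hc : as⁻¹ * xs⁻¹ * as * xs ∈ Subgroup.center ↥S := by
      have h1 : ⁅as⁻¹, xs⁻¹⁆ ∈ commutator ↥S :=
        Subgroup.commutator_mem_commutator (Subgroup.mem_top _) (Subgroup.mem_top _)
      rw [hcommS, commutatorElement_def, inv_inv, inv_inv] at h1
      exact h1
    have hc3 : (as⁻¹ * xs⁻¹ * as * xs) ^ 3 = 1 := by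
      have := pow_card_eq_one' (G := ↥(Subgroup.center ↥S)) (x := ⟨_, hc⟩)
      rw [hZcard] at this
      exact congrArg Subtype.val this
    have h2 := Cfsg.Agent.Lib.Lead.Fus.mul_pow_class_two xs as
      (fun g => (Subgroup.mem_center_iff.mp hc g)) 3
    have h3 : (3 : ℕ).choose 2 = 3 := by decide
    rw [h3, hc3, mul_one] at h2
    have has3 : as ^ 3 = 1 := by
      rw [has]; apply Subtype.ext
      show a ^ 3 = 1
      exact hEexp a haE
    rw [has3, mul_one] at h2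
    have h4 := congrArg Subtype.val h2
    rw [hxs, has] at h4
    rw [hyxa]
    exact h4
  have h6 : x ^ 3 = (x ^ 3)⁻¹ := hy3.symm.trans (e5.symm.trans e4)
  have h7 : (x ^ 3) ^ 3 = 1 := hEexp _ hx3E
  have h8 : (x ^ 3) * (x ^ 3) = 1 := by
    nth_rewrite 2 [h6]
    exact mul_inv_cancel _
  calc x ^ 3 = (x ^ 3) ^ 3 * ((x ^ 3) * (x ^ 3))⁻¹ := by group
    _ = 1 := by rw [h7, h8]; group

end Cfsg.Agent.Lib.Helper1.Mcl
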