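import Mathlib
import Cfsg.Agent.Lib.Helper1.Mcl9

/-! # Fusion systems on 3-groups containing a pearl -/

set_option autoImplicit false
set_option maxHeartbeats 4000000
set_option linter.unusedVariables false
set_option linter.unusedSectionVars false
set_option linter.style.longLine false
set_option linter.unusedSimpArgs false
set_option linter.style.haveILetI false

universe u
open scoped commutatorElement

namespace Cfsg.Agent.Lib.Helper1.Mcl

open Cfsg Cfsg.FusionSystem Cfsg.Agent.Lib.Helper9 Cfsg.Agent.Lib.Helper7 Cfsg.Agent.Lib.Helper1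
  Cfsg.Agent.Lib.Helper2.EssGen Cfsg.Agent.Lib.Helper1.ET

variable {Ω : Type*} [Group Ω] {S : Subgroup Ω}

/-- transfer of the two-generator property from `↥S` to subgroups of `Ω` contained in `S`. -/
theorem two_gen_transfer
    (h : ∀ H : Subgroup ↥S, ∃ T : Finset ↥S, T.card ≤ 2 ∧ Subgroup.closure (T : Set ↥S) = H) :
    ∀ H : Subgroup Ω, H ≤ S → ∃ T : Finset Ω, T.card ≤ 2 ∧ Subgroup.closure (T : Set Ω) = H := by
  classical
  intro H hHS
  obtain ⟨T, hT, hcl⟩ := h (H.subgroupOf S)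
  refine ⟨T.image S.subtype, le_trans Finset.card_image_le hT, ?_⟩
  rw [Finset.coe_image, ← MonoidHom.map_closure, hcl]
  exact Subgroup.map_subgroupOf_eq_of_le hHS

theorem pearl_main [Finite S] (hS : IsPGroup 3 S) (F : FusionSystem S)
    (hF : F.IsSaturated 3) (E : Subgroup Ω) (hE : F.IsEssential 3 E)
    (hpearl : (Nat.card E = 9 ∧ ∀ x ∈ E, x ^ 3 = 1 ∧ IsMulCommutative ↥E) ∨
      (Nat.card E = 27 ∧ ¬ IsMulCommutative ↥E)) :
    (Cfsg.IsExtraspecial 3 ↥S ∧ Nat.card S = 27 ∧ Monoid.exponent ↥S = 3) ∨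
    (81 ≤ Nat.card S ∧ ∀ H : Subgroup Ω, H ≤ S →
      ∃ T : Finset Ω, T.card ≤ 2 ∧ Subgroup.closure (T : Set Ω) = H) ∨
    (∃ W : Sylow 3 (Equiv.Perm (Fin 9)),
      Nonempty (↥S ≃* ↥(W : Subgroup (Equiv.Perm (Fin 9))))) := by
  classical
  have hPc := hE.1
  have hES : E ≤ S := hPc.1
  have hCE : centralizerIn S E ≤ E := hPc.2 E (isConj_refl F hES)
  have hlt := essential_lt hS F hF hE
  obtain ⟨E₁, hE₁⟩ : ∃ E₁ : Subgroup ↥S, E₁ = E.subgroupOf S := ⟨_, rfl⟩
  have hE₁card : Nat.card E₁ = Nat.card E := by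
    rw [hE₁]; exact Nat.card_congr (Subgroup.subgroupOfEquivOfLe hES).toEquiv
  have hE₁mem : ∀ s : ↥S, s ∈ E₁ ↔ (s : Ω) ∈ E := by
    intro s; rw [hE₁]; exact Subgroup.mem_subgroupOf
  have hC₁ : Subgroup.centralizer (E₁ : Set ↥S) ≤ E₁ := by
    intro s hs
    rw [hE₁mem]
    apply hCE
    have h1 : (s : Ω) ∈ Subgroup.centralizer (E : Set Ω) := by
      rw [Subgroup.mem_centralizer_iff]
      intro e he
      have h2 := Subgroup.mem_centralizer_iff.mp hs ⟨e, hES he⟩ ((hE₁mem _).mpr he)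
      exact congrArg Subtype.val h2
    exact Subgroup.mem_inf.mpr ⟨s.2, h1⟩
  have hE₁ne : E₁ ≠ ⊤ := by
    rw [hE₁]
    intro h
    rw [Subgroup.subgroupOf_eq_top] at h
    exact not_le_of_gt hlt h
  -- maximal class
  have hmax : ∃ n, MaxCl 3 n ↥S ∧ (n = 3 → Nat.card E = 9 ∧ (∀ x ∈ E, x ^ 3 = 1) ∧
      ∀ a ∈ E, ∀ b ∈ E, a * b = b * a) := by
    rcases hpearl with ⟨hc, hx⟩ | ⟨hc, hna⟩
    · have hcomm : IsMulCommutative ↥E := (hx 1 E.one_mem).2
      have hab : ∀ a ∈ E, ∀ b ∈ E, a * b = b * a := fun a ha b hb =>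
        congrArg Subtype.val (hcomm.is_comm.comm ⟨a, ha⟩ ⟨b, hb⟩)
      obtain ⟨n, hn⟩ := maxCl_of_sc_sq (p := 3) hS E₁ (by rw [hE₁card, hc]; norm_num)
        (fun a ha b hb => Subtype.ext (hab a ((hE₁mem a).mp ha) b ((hE₁mem b).mp hb))) hC₁ hE₁ne
      exact ⟨n, hn, fun _ => ⟨hc, fun x hx' => (hx x hx').1, hab⟩⟩
    · have hna' : ∃ a ∈ E₁, ∃ b ∈ E₁, a * b ≠ b * a := by
        by_contra hcon
        push_neg at hcon
        apply hna
        refine ⟨⟨fun a b => ?_⟩⟩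
        have := hcon ⟨a, hES a.2⟩ ((hE₁mem _).mpr a.2) ⟨b, hES b.2⟩ ((hE₁mem _).mpr b.2)
        exact Subtype.ext (congrArg (fun s : ↥S => (s : Ω)) this)
      obtain ⟨n, hn⟩ := maxCl_of_sc_cube (p := 3) hS E₁ (by rw [hE₁card, hc]; norm_num) hna' hC₁
      refine ⟨n, hn, fun h3 => ?_⟩
      exfalso
      apply hE₁ne
      apply Subgroup.eq_top_of_card_eq
      rw [hE₁card, hc, hn.card, h3]; norm_num
  obtain ⟨n, hn, hn3⟩ := hmax
  have hn3' := hn.hm
  by_cases h3 : n = 3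
  · left
    obtain ⟨hc, hexp, hab⟩ := hn3 h3
    have hScard : Nat.card S = 27 := by rw [hn.card, h3]; norm_num
    have hcube := pearl27_cube hS F hF E hE hc hexp hab hScard
    have hnaS : ¬ ∀ a b : ↥S, a * b = b * a := by
      intro h
      apply not_le_of_gt hlt
      intro s hs
      apply hCE
      have h1 : s ∈ Subgroup.centralizer (E : Set Ω) := by
        rw [Subgroup.mem_centralizer_iff]
        intro e he
        exact congrArg Subtype.val (h ⟨e, hES he⟩ ⟨s, hs⟩)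
      exact Subgroup.mem_inf.mpr ⟨hs, h1⟩
    have hS27 : Nat.card ↥S = 3 ^ 3 := by rw [hScard]; norm_num
    obtain ⟨hZcard, hcommS, hfrS, -⟩ :=
      Cfsg.Agent.Lib.Lead.Fus.extraspecial_of_card_cube hS27 hnaS
    refine ⟨⟨⟨hS, hfrS, hcommS⟩, hZcard⟩, hScard, ?_⟩
    have hdvd : Monoid.exponent ↥S ∣ 3 := by
      apply Monoid.exponent_dvd_of_forall_pow_eq_one
      intro s
      apply Subtype.ext
      exact hcube s s.2
    rcases (Nat.dvd_prime Nat.prime_three).mp hdvd with h1 | h1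
    · exfalso
      have hsub : Subsingleton ↥S := Monoid.exp_eq_one_iff.mp h1
      have := Nat.card_of_subsingleton (1 : ↥S)
      omega
    · exact h1
  · right
    have hn4 : 4 ≤ n := by omega
    rcases hn.cases hn4 with h2 | hW
    · left
      refine ⟨?_, two_gen_transfer h2⟩
      rw [hn.card]
      calc 81 = 3 ^ 4 := by norm_num
        _ ≤ 3 ^ n := Nat.pow_le_pow_right (by norm_num) hn4
    · right
      exact hW

end Cfsg.Agent.Lib.Helper1.Mcl
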