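import Mathlib
import Cfsg.Agent.Lib.Helper4.HP4

/-! # Taylor coefficients versus iterated derivatives of polynomial sequences

In the framework of `Helper4.HP` (polynomial sequences in a filtered group): if the filtration `Δ`
is such that the sequence is polynomial with respect to the shifted filtration `j ↦ Δ (j+1)`, then the
`k`-th Taylor coefficient agrees with the `k`-th iterated derivative at `0` modulo `Δ (k+2)`. -/

set_option autoImplicit false
set_option maxHeartbeats 4000000
set_option linter.unusedVariables false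
set_option linter.unusedSectionVars false
set_option linter.style.longLine false
set_option linter.unusedSimpArgs false

open scoped commutatorElement
universe u

namespace Cfsg.Agent.Lib.Helper1.Mcl

open Cfsg.Agent.Lib.Helper4.HP

variable {G : Type u} [Group G] {Δ : ℕ → Subgroup G}

theorem polyT_iterD {i : ℕ} : ∀ (k : ℕ) {j : ℕ} {u : ℕ → G}, PolyT Δ (i + k) j u →
    PolyT Δ i (j + k) (D^[k] u) := by
  intro k
  induction k with
  | zero => intro j u h; simpa using h
  | succ k ih =>
    intro j u h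
    rw [Function.iterate_succ_apply]
    have h1 : PolyT Δ (i + k + 1) j u := by rwa [show i + (k + 1) = i + k + 1 by omega] at h
    have h2 := ih h1.2
    rwa [show j + 1 + k = j + (k + 1) by omega] at h2

theorem iterD_one : ∀ k : ℕ, D^[k] (1 : ℕ → G) = 1 := by
  intro k
  induction k with
  | zero => rfl
  | succ k ih => rw [Function.iterate_succ_apply, D_one, ih]

theorem D_binom_zero (x : G) : D (fun n : ℕ => x ^ (n.choose 0)) = 1 := by
  funext n; simp [D]

theorem D_binom_succ (x : G) (j : ℕ) :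
    D (fun n : ℕ => x ^ (n.choose (j + 1))) = fun n => x ^ (n.choose j) := by
  funext n
  simp only [D]
  rw [Nat.choose_succ_succ, pow_add, mul_inv_cancel_right]

theorem iterD_binom (x : G) : ∀ (k j : ℕ), D^[k] (fun n : ℕ => x ^ (n.choose j)) =
    if k ≤ j then (fun n : ℕ => x ^ (n.choose (j - k))) else 1 := by
  intro k
  induction k with
  | zero => intro j; simp
  | succ k ih =>
    intro j
    rw [Function.iterate_succ_apply]
    cases j with
    | zero =>
      rw [D_binom_zero, iterD_one]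
      simp
    | succ j =>
      rw [D_binom_succ, ih j]
      by_cases h : k ≤ j
      · rw [if_pos h, if_pos (by omega : k + 1 ≤ j + 1)]
        have : j + 1 - (k + 1) = j - k := by omega
        rw [this]
      · rw [if_neg h, if_neg (by omega : ¬ k + 1 ≤ j + 1)]

/-- the product principle: iterated derivatives are multiplicative modulo deeper terms. -/
theorem prod_principle (hF : Filt Δ) : ∀ (k : ℕ) (u v : ℕ → G), (∀ i, PolyT Δ i 1 u) →
    (∀ i, PolyT Δ i 1 v) →
    ∃ e : ℕ → G, (∀ i, PolyT Δ i (k + 2) e) ∧ D^[k] (u * v) = e * D^[k] u * D^[k] v := by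
  intro k
  induction k with
  | zero =>
    intro u v hu hv
    exact ⟨1, fun i => polyT_one, by simp⟩
  | succ k ih =>
    intro u v hu hv
    obtain ⟨e, he, heq⟩ := ih u v hu hv
    have hA : ∀ i, PolyT Δ i (k + 1) (D^[k] u) := fun i => by
      have := polyT_iterD (i := i) k (hu (i + k))
      rwa [show 1 + k = k + 1 by omega] at this
    have hB : ∀ i, PolyT Δ i (k + 1) (D^[k] v) := fun i => by
      have := polyT_iterD (i := i) k (hv (i + k))
      rwa [show 1 + k = k + 1 by omega] at this
    set A := D^[k] u with hAdef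
    set B := D^[k] v with hBdef
    refine ⟨⁅S e, D (A * B)⁆ * ⁅S A, D B⁆ * ⁅D B, D A⁆ * ⁅D A * D B, D e⁆ * D e, ?_, ?_⟩
    · intro i
      obtain ⟨hmul, hinv, hcomm⟩ := good hF i
      have hc : ∀ (a b m : ℕ) (x y : ℕ → G), PolyT Δ i a x → PolyT Δ i b y → m ≤ a + b →
          PolyT Δ i m ⁅x, y⁆ := fun a b m x y hx hy hm => (hcomm a b x y hx hy).mono_j hF.anti hm
      have hDe : PolyT Δ i (k + 3) (D e) := (he (i + 1)).2
      have hSe : PolyT Δ i (k + 2) (S e) := (he (i + 1)).pred.shift
      have hDA : PolyT Δ i (k + 2) (D A) := (hA (i + 1)).2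
      have hDB : PolyT Δ i (k + 2) (D B) := (hB (i + 1)).2
      have hSA : PolyT Δ i (k + 1) (S A) := (hA (i + 1)).pred.shift
      have hAB : PolyT Δ (i + 1) (k + 1) (A * B) :=
        (good hF (i + 1)).1 _ _ _ (hA (i + 1)) (hB (i + 1))
      have hDAB : PolyT Δ i (k + 2) (D (A * B)) := hAB.2
      have h1 : PolyT Δ i (k + 3) ⁅S e, D (A * B)⁆ := hc _ _ _ _ _ hSe hDAB (by omega)
      have h2 : PolyT Δ i (k + 3) ⁅S A, D B⁆ := hc _ _ _ _ _ hSA hDB (by omega)
      have h3 : PolyT Δ i (k + 3) ⁅D B, D A⁆ := hc _ _ _ _ _ hDB hDA (by omega)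
      have h4 : PolyT Δ i (k + 3) ⁅D A * D B, D e⁆ :=
        hc _ _ _ _ _ (hmul _ _ _ hDA hDB) hDe (by omega)
      rw [show k + 1 + 2 = k + 3 by omega]
      exact hmul _ _ _ (hmul _ _ _ (hmul _ _ _ (hmul _ _ _ h1 h2) h3) h4) hDe
    · rw [Function.iterate_succ_apply', Function.iterate_succ_apply', Function.iterate_succ_apply',
        heq, ← hAdef, ← hBdef]
      have h1 : e * A * B = e * (A * B) := mul_assoc _ _ _
      rw [h1, D_mul e (A * B), D_mul A B]
      funext n
      simp only [Pi.mul_apply, commutatorElement_def, Pi.inv_apply]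
      group

theorem tay_fun_succ (a : ℕ → G) (K : ℕ) :
    (fun n => tay a (K + 1) n) = (fun n => tay a K n) * (fun n : ℕ => (a K) ^ (n.choose K)) := by
  funext n; rfl

theorem tay_polyT (hF : Filt Δ) (a : ℕ → G) (ha : ∀ j, a j ∈ Δ (j + 1)) :
    ∀ (K i : ℕ), PolyT Δ i 1 (fun n => tay a K n) := by
  intro K
  induction K with
  | zero =>
    intro i
    have : (fun n => tay a 0 n) = (1 : ℕ → G) := by funext n; rfl
    rw [this]; exact polyT_one
  | succ K ih =>
    intro i
    rw [tay_fun_succ]
    exact (good hF i).1 _ _ _ (ih i) (polyT_binom hF.anti i K 1 (a K) (ha K))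

/-- Taylor coefficients agree with iterated derivatives at `0` modulo `Δ (k+2)`. -/
theorem taylor_coeff (hF : Filt Δ) (a : ℕ → G) (ha : ∀ j, a j ∈ Δ (j + 1)) :
    ∀ (K k : ℕ), ∃ c ∈ Δ (k + 2),
      (D^[k] (fun n => tay a K n)) 0 = c * (if k < K then a k else 1) := by
  intro K
  induction K with
  | zero =>
    intro k
    have : (fun n => tay a 0 n) = (1 : ℕ → G) := by funext n; rfl
    rw [this, iterD_one]
    exact ⟨1, one_mem _, by simp⟩
  | succ K ih =>
    intro k
    obtain ⟨c, hc, hceq⟩ := ih k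
    obtain ⟨e, he, heq⟩ := prod_principle hF k (fun n => tay a K n)
      (fun n : ℕ => (a K) ^ (n.choose K)) (fun i => tay_polyT hF a ha K i)
      (fun i => polyT_binom hF.anti i K 1 (a K) (ha K))
    have he0 : e 0 ∈ Δ (k + 2) := (he 0) 0
    rw [tay_fun_succ, heq]
    simp only [Pi.mul_apply]
    rw [hceq, iterD_binom]
    rcases Nat.lt_trichotomy k K with hlt | heq' | hgt
    · refine ⟨e 0 * c, mul_mem he0 hc, ?_⟩
      rw [if_pos hlt, if_pos (by omega : k ≤ K), if_pos (by omega : k < K + 1)]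
      have h0 : Nat.choose 0 (K - k) = 0 := by
        obtain ⟨d, hd⟩ : ∃ d, K - k = d + 1 := ⟨K - k - 1, by omega⟩
        rw [hd]; rfl
      simp only [h0, pow_zero, mul_one, mul_assoc]
    · subst heq'
      refine ⟨e 0 * c, mul_mem he0 hc, ?_⟩
      rw [if_neg (lt_irrefl k), if_pos (le_refl k), if_pos (by omega : k < k + 1)]
      simp [mul_assoc]
    · refine ⟨e 0 * c, mul_mem he0 hc, ?_⟩
      rw [if_neg (by omega : ¬ k < K), if_neg (by omega : ¬ k ≤ K), if_neg (by omega : ¬ k < K + 1)]
      simp [mul_assoc]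

/-- shifted filtration. -/
theorem filt_shift (hF : Filt Δ) : Filt (fun j => Δ (j + 1)) where
  anti := fun a b hab => hF.anti (by omega)
  comm := fun i j => (hF.comm (i + 1) (j + 1)).trans (hF.anti (by omega))

theorem polyT_shift_iff : ∀ (i j : ℕ) (u : ℕ → G),
    PolyT (fun j => Δ (j + 1)) i j u ↔ PolyT Δ i (j + 1) u := by
  intro i
  induction i with
  | zero => intro j u; exact Iff.rfl
  | succ i ih =>
    intro j u
    constructor
    · intro h; exact ⟨h.1, (ih (j + 1) (D u)).mp h.2⟩
    · intro h; exact ⟨h.1, (ih (j + 1) (D u)).mpr h.2⟩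

/-- Taylor expansion with control of the coefficients by the iterated derivatives at `0`. -/
theorem taylor_refined (hF : Filt Δ) (K : ℕ) (hK : Δ (K + 1) = ⊥) (u : ℕ → G)
    (hu : ∀ i, PolyT Δ i 1 u) :
    ∃ a : ℕ → G, (∀ j, a j ∈ Δ (j + 1)) ∧ (∀ n, u n = tay a K n) ∧
      ∀ k, k < K → ∃ c ∈ Δ (k + 2), (D^[k] u) 0 = c * a k := by
  obtain ⟨a, ha, hua⟩ := taylor (filt_shift hF) K hK u
    (fun i => (polyT_shift_iff i 0 u).mpr (hu i))
  refine ⟨a, ha, hua, fun k hk => ?_⟩
  obtain ⟨c, hc, hceq⟩ := taylor_coeff hF a ha K k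
  refine ⟨c, hc, ?_⟩
  have : u = fun n => tay a K n := funext hua
  rw [this, hceq, if_pos hk]

end Cfsg.Agent.Lib.Helper1.Mcl
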