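import Mathlib
import Cfsg.Agent.Lib.Helper1.Mcl11

/-! # The norm sequence `n ↦ s⁻ⁿ (s y)ⁿ` as a polynomial sequence, and its Taylor expansion -/

set_option autoImplicit false
set_option maxHeartbeats 4000000
set_option linter.unusedVariables false
set_option linter.unusedSectionVars false
set_option linter.style.longLine false
set_option linter.unusedSimpArgs false

open scoped commutatorElement
universe u

namespace Cfsg.Agent.Lib.Helper1.Mcl

open Cfsg.Agent.Lib.Helper4.HP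

variable {G : Type u} [Group G]

/-- iterated commutator with `t`: `ic t y 0 = y`, `ic t y (k+1) = ⁅t, ic t y k⁆`. -/
def ic (t y : G) : ℕ → G
  | 0 => y
  | k + 1 => ⁅t, ic t y k⁆

@[simp] theorem ic_zero (t y : G) : ic t y 0 = y := rfl
theorem ic_succ (t y : G) (k : ℕ) : ic t y (k + 1) = ⁅t, ic t y k⁆ := rfl

theorem ic_one (t : G) : ∀ k, ic t 1 k = 1 := by
  intro k
  induction k with
  | zero => rfl
  | succ k ih => rw [ic_succ, ih, commutatorElement_one_right]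

theorem ic_succ' (t y : G) : ∀ k, ic t y (k + 1) = ic t ⁅t, y⁆ k := by
  intro k
  induction k with
  | zero => rfl
  | succ k ih => rw [ic_succ, ih, ic_succ]

/-- conjugate sequences. -/
def Wseq (t y : G) (k : ℕ) : ℕ → G := fun n => t ^ n * ic t y k * (t ^ n)⁻¹

theorem D_Wseq (t y : G) (k : ℕ) : D (Wseq t y k) = Wseq t y (k + 1) := by
  funext n
  simp only [D, Wseq, ic_succ, commutatorElement_def, pow_succ]
  group

/-- norm sequence. -/
def nseq (t y : G) : ℕ → G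
  | 0 => 1
  | n + 1 => (t ^ n * y * (t ^ n)⁻¹) * nseq t y n

@[simp] theorem nseq_zero (t y : G) : nseq t y 0 = 1 := rfl
theorem nseq_succ (t y : G) (n : ℕ) : nseq t y (n + 1) = (t ^ n * y * (t ^ n)⁻¹) * nseq t y n := rfl

theorem nseq_one_right (t y : G) : nseq t y 1 = y := by
  rw [nseq_succ]; simp

theorem D_nseq (t y : G) : D (nseq t y) = Wseq t y 0 := by
  funext n
  simp only [D, nseq_succ, Wseq, ic_zero]
  group

theorem iterD_nseq (t y : G) : ∀ k, D^[k + 1] (nseq t y) = Wseq t y k := by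
  intro k
  induction k with
  | zero => simp [D_nseq]
  | succ k ih => rw [Function.iterate_succ_apply', ih, D_Wseq]

theorem iterD_nseq_zero (t y : G) (k : ℕ) : (D^[k + 1] (nseq t y)) 0 = ic t y k := by
  rw [iterD_nseq]; simp [Wseq]

/-- `(s y)^n = s^n · nseq s⁻¹ y n`. -/
theorem mul_pow_eq (s y : G) : ∀ n : ℕ, (s * y) ^ n = s ^ n * nseq s⁻¹ y n := by
  intro n
  induction n with
  | zero => simp
  | succ n ih =>
    rw [pow_succ', ih, nseq_succ, pow_succ]
    simp only [inv_pow, inv_inv]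
    group

section filt

variable {Δ : ℕ → Subgroup G}

theorem ic_mem_filt (hF : Filt Δ) (t y : G) (hy : y ∈ Δ 2)
    (ht : ∀ j, 2 ≤ j → ∀ x ∈ Δ j, ⁅t, x⁆ ∈ Δ (j + 1)) : ∀ k, ic t y k ∈ Δ (k + 2) := by
  intro k
  induction k with
  | zero => simpa using hy
  | succ k ih => rw [ic_succ]; exact ht (k + 2) (by omega) _ ih

theorem Wseq_polyT (hF : Filt Δ) (hN : ∀ j, (Δ j).Normal) (t y : G) (hy : y ∈ Δ 2)
    (ht : ∀ j, 2 ≤ j → ∀ x ∈ Δ j, ⁅t, x⁆ ∈ Δ (j + 1)) :
    ∀ (i k : ℕ), PolyT Δ i (k + 2) (Wseq t y k) := by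
  have hmem : ∀ k n, Wseq t y k n ∈ Δ (k + 2) := fun k n =>
    (hN (k + 2)).conj_mem _ (ic_mem_filt hF t y hy ht k) (t ^ n)
  intro i
  induction i with
  | zero => intro k n; exact hmem k n
  | succ i ih =>
    intro k
    refine ⟨fun n => hmem k n, ?_⟩
    rw [D_Wseq]
    exact ih (k + 1)

theorem nseq_mem (t y : G) (H : Subgroup G) (hH : H.Normal) (hy : y ∈ H) : ∀ n, nseq t y n ∈ H := by
  intro n
  induction n with
  | zero => exact one_mem _
  | succ n ih => rw [nseq_succ]; exact mul_mem (hH.conj_mem _ hy _) ih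

theorem nseq_polyT (hF : Filt Δ) (hN : ∀ j, (Δ j).Normal) (t y : G) (hy : y ∈ Δ 2)
    (ht : ∀ j, 2 ≤ j → ∀ x ∈ Δ j, ⁅t, x⁆ ∈ Δ (j + 1)) :
    ∀ i, PolyT Δ i 1 (nseq t y) := by
  have hmem : ∀ n, nseq t y n ∈ Δ 1 := fun n =>
    hF.anti (by omega : 1 ≤ 2) (nseq_mem t y (Δ 2) (hN 2) hy n)
  intro i
  cases i with
  | zero => intro n; exact hmem n
  | succ i =>
    refine ⟨hmem, ?_⟩
    rw [D_nseq]
    exact Wseq_polyT hF hN t y hy ht i 0

/-- Taylor expansion of the norm sequence, with coefficients controlled by iterated commutators. -/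
theorem norm_taylor (hF : Filt Δ) (hN : ∀ j, (Δ j).Normal) (t y : G) (hy : y ∈ Δ 2)
    (ht : ∀ j, 2 ≤ j → ∀ x ∈ Δ j, ⁅t, x⁆ ∈ Δ (j + 1)) (K : ℕ) (hK : Δ (K + 1) = ⊥) :
    ∃ a : ℕ → G, (∀ j, a j ∈ Δ (j + 1)) ∧ (∀ n, nseq t y n = tay a K n) ∧
      ∀ k, k + 1 < K → ∃ c ∈ Δ (k + 3), ic t y k = c * a (k + 1) := by
  obtain ⟨a, ha, hua, hcoef⟩ := taylor_refined hF K hK (nseq t y) (nseq_polyT hF hN t y hy ht)
  refine ⟨a, ha, hua, fun k hk => ?_⟩
  obtain ⟨c, hc, hceq⟩ := hcoef (k + 1) hk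
  rw [iterD_nseq_zero] at hceq
  exact ⟨c, hc, hceq⟩

end filt

/-! ### evaluating Taylor products -/

theorem map_tay {H : Type*} [Group H] (f : G →* H) (a : ℕ → G) : ∀ (K n : ℕ),
    f (tay a K n) = tay (fun j => f (a j)) K n := by
  intro K
  induction K with
  | zero => intro n; simp [tay]
  | succ K ih => intro n; simp only [tay, map_mul, map_pow, ih]

theorem tay_eval_lt (b : ℕ → G) (q : ℕ) (h0 : b 0 = 1)
    (hb : ∀ j, 2 ≤ j → j < q → b j ^ (q.choose j) = 1) :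
    ∀ K, 2 ≤ K → K ≤ q → tay b K q = b 1 ^ q := by
  intro K hK
  induction K, hK using Nat.le_induction with
  | base =>
    intro _
    simp [tay, h0]
  | succ K hK2 ih =>
    intro hKq
    have h1 : tay b (K + 1) q = tay b K q * b K ^ (q.choose K) := rfl
    rw [h1, ih (by omega), hb K hK2 (by omega), mul_one]

theorem tay_eval (b : ℕ → G) (q : ℕ) (hq : 2 ≤ q) (h0 : b 0 = 1)
    (hb : ∀ j, 2 ≤ j → j < q → b j ^ (q.choose j) = 1) :
    ∀ K, q + 1 ≤ K → tay b K q = b 1 ^ q * b q := by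
  intro K hK
  induction K, hK using Nat.le_induction with
  | base =>
    have h1 : tay b (q + 1) q = tay b q q * b q ^ (q.choose q) := rfl
    rw [h1, tay_eval_lt b q h0 hb q hq le_rfl, Nat.choose_self, pow_one]
  | succ K hKq ih =>
    have h1 : tay b (K + 1) q = tay b K q * b K ^ (q.choose K) := rfl
    rw [h1, ih, Nat.choose_eq_zero_of_lt (by omega : q < K), pow_zero, mul_one]

theorem tay_coeff_zero (a : ℕ → G) (K : ℕ) (hK : 1 ≤ K) : tay a K 0 = a 0 := by
  obtain ⟨k, rfl⟩ : ∃ k, K = k + 1 := ⟨K - 1, by omega⟩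
  exact tay_zero_right a k

theorem tay_coeff_one (a : ℕ → G) (K : ℕ) (hK : 2 ≤ K) : tay a K 1 = a 0 * a 1 := by
  obtain ⟨k, rfl⟩ : ∃ k, K = k + 2 := ⟨K - 2, by omega⟩
  exact tay_one_right a k

end Cfsg.Agent.Lib.Helper1.Mcl
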