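import Mathlib
import Cfsg.Agent.Lib.Helper1.Mcl12
import Cfsg.Agent.Lib.Helper1.Mcl10

/-! # Power structure of `p`-groups of maximal class possessing a uniform element (general `p`) -/

set_option autoImplicit false
set_option maxHeartbeats 4000000
set_option linter.unusedVariables false
set_option linter.unusedSectionVars false
set_option linter.style.longLine false
set_option linter.unusedSimpArgs false

open scoped commutatorElement Pointwise
universe u

namespace Cfsg.Agent.Lib.Helper1.Mcl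

open Cfsg.Agent.Lib.Helper4.HP
open Cfsg.Agent.Lib.Helper3.Breadth (twoStep mem_twoStep lcs_normal)

variable {G : Type u} [Group G] [Finite G]

/-- the filtration `j ↦ L (i + (j - 2))`. -/
def lvlF (G : Type u) [Group G] (i : ℕ) : ℕ → Subgroup G := fun j => L G (i + (j - 2))

theorem lvlF_filt (i : ℕ) (hi : 1 ≤ i) : Filt (lvlF G i) where
  anti := fun a b hab => L_anti (by omega)
  comm := fun a b => by
    rw [Subgroup.commutator_le]
    intro x hx z hz
    exact L_anti (by omega) (comm_mem_LL hx hz)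

theorem lvlF_normal (i j : ℕ) : (lvlF G i j).Normal := lcs_normal _

theorem ic_mem_L {i : ℕ} (t : G) {y : G} (hy : y ∈ L G i) : ∀ k, ic t y k ∈ L G (i + k) := by
  intro k
  induction k with
  | zero => simpa using hy
  | succ k ih => rw [ic_succ]; exact comm_mem_L' ih t

variable {p m : ℕ} [hp : Fact p.Prime]

namespace MaxCl

variable (h : MaxCl p m G)
include h

omit [Finite G] hp h in
theorem uniform_inv {s : G} (hs : IsUniform m s) : IsUniform m s⁻¹ := by
  intro i hi1 hi hmem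
  exact hs i hi1 hi (by simpa using (twoStep G i).inv_mem hmem)

theorem ic_not_mem {t : G} (ht : IsUniform m t) {i : ℕ} (hi1 : 1 ≤ i) {y : G} (hy : y ∈ L G i)
    (hy' : y ∉ L G (i + 1)) : ∀ k, i + k ≤ m - 2 → ic t y k ∉ L G (i + k + 1) := by
  intro k
  induction k with
  | zero => intro _; simpa using hy'
  | succ k ih =>
    intro hk
    have h1 := ih (by omega)
    have h2 : ic t y k ∈ L G (i + k) := ic_mem_L t hy k
    have h3 : t ∉ twoStep G (i + k) := ht (i + k) (by omega) (by omega)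
    have h4 := comm_not_mem_of_not_mem_twoStep h (by omega : 1 ≤ i + k) (by omega) h2 h1 h3
    rw [ic_succ]
    rwa [show i + (k + 1) + 1 = i + k + 2 by omega]

theorem uniform_mul_pow (hm4 : 4 ≤ m) {s : G} (hs : IsUniform m s) {y : G} (hy : y ∈ L G 1) :
    (s * y) ^ p = s ^ p := by
  obtain ⟨g, hg⟩ := h.exists_conj_eq hm4 hs hy
  rw [← hg, conj_pow]
  have hc := h.central (h.uniform_pow_mem hm4 hs) g
  rw [← hc, mul_inv_cancel_right]

theorem nseq_eq_one (hm4 : 4 ≤ m) {s : G} (hs : IsUniform m s) {y : G} (hy : y ∈ L G 1) :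
    nseq s⁻¹ y p = 1 := by
  have h1 := mul_pow_eq s y p
  rw [h.uniform_mul_pow hm4 hs hy] at h1
  exact (mul_eq_left.mp h1.symm)

/-- the norm congruence: `nseq t y p ≡ y^p · [t,…,t,y]` modulo `L (i+p)` for `y ∈ L i`. -/
theorem nseq_congr {i : ℕ} (hi1 : 1 ≤ i)
    (hP1 : ∀ i', i < i' → ∀ z ∈ L G i', z ^ p ∈ L G (i' + p - 1)) (t : G) {y : G}
    (hy : y ∈ L G i) :
    (nseq t y p)⁻¹ * (y ^ p * ic t y (p - 1)) ∈ L G (i + p) := by
  have hp2 : 2 ≤ p := hp.out.two_le
  have hm := h.hm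
  have hF := lvlF_filt (G := G) i hi1
  have hy2 : y ∈ lvlF G i 2 := by simpa [lvlF] using hy
  have ht : ∀ j, 2 ≤ j → ∀ x ∈ lvlF G i j, ⁅t, x⁆ ∈ lvlF G i (j + 1) := by
    intro j hj x hx
    have h1 := comm_mem_L' (show x ∈ L G (i + (j - 2)) from hx) t
    show ⁅t, x⁆ ∈ L G (i + (j + 1 - 2))
    rwa [show i + (j + 1 - 2) = i + (j - 2) + 1 by omega]
  have hK : lvlF G i (m + p + 1) = ⊥ := h.bot' (by omega)
  obtain ⟨a, ha, hua, hco⟩ := norm_taylor hF (lvlF_normal i) t y hy2 ht (m + p) hK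
  have ha0 : a 0 = 1 := by
    have h1 := hua 0
    rw [tay_coeff_zero a (m + p) (by omega), nseq_zero] at h1
    exact h1.symm
  have ha1 : a 1 = y := by
    have h1 := hua 1
    rw [tay_coeff_one a (m + p) (by omega), nseq_one_right, ha0, one_mul] at h1
    exact h1.symm
  obtain ⟨c, hc, hceq⟩ := hco (p - 1) (by omega)
  have hcN : c ∈ L G (i + p) := by
    have h1 : lvlF G i (p - 1 + 3) = L G (i + p) := by
      show L G (i + (p - 1 + 3 - 2)) = L G (i + p)
      rw [show i + (p - 1 + 3 - 2) = i + p by omega]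
    rw [← h1]; exact hc
  rw [show p - 1 + 1 = p by omega] at hceq
  haveI : (L G (i + p)).Normal := lcs_normal _
  obtain ⟨π, hπ⟩ : ∃ π : G →* G ⧸ L G (i + p), π = QuotientGroup.mk' (L G (i + p)) := ⟨_, rfl⟩
  have hπ1 : ∀ g : G, π g = 1 ↔ g ∈ L G (i + p) := by
    intro g; rw [hπ]; exact QuotientGroup.eq_one_iff g
  have hb : ∀ j, 2 ≤ j → j < p → (fun j => π (a j)) j ^ (p.choose j) = 1 := by
    intro j hj2 hjp
    have h1 : a j ∈ L G (i + (j - 1)) := by
      have := ha j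
      have h2 : lvlF G i (j + 1) = L G (i + (j - 1)) := by
        show L G (i + (j + 1 - 2)) = L G (i + (j - 1))
        rw [show i + (j + 1 - 2) = i + (j - 1) by omega]
      rwa [h2] at this
    have h2 := hP1 (i + (j - 1)) (by omega) (a j) h1
    have h3 : a j ^ p ∈ L G (i + p) := L_anti (by omega) h2
    obtain ⟨e, he⟩ := hp.out.dvd_choose_self (by omega : j ≠ 0) hjp
    show π (a j) ^ (p.choose j) = 1
    rw [← map_pow, hπ1, he, pow_mul]
    exact pow_mem h3 e
  have h0 : (fun j => π (a j)) 0 = 1 := by show π (a 0) = 1; rw [ha0, map_one]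
  have heval := tay_eval (fun j => π (a j)) p hp2 h0 hb (m + p) (by omega)
  have h1 : π (nseq t y p) = π y ^ p * π (a p) := by
    rw [hua p, map_tay π a, heval]
    show π (a 1) ^ p * π (a p) = _
    rw [ha1]
  have h2 : π (ic t y (p - 1)) = π (a p) := by
    rw [hceq, map_mul, (hπ1 c).mpr hcN, one_mul]
  rw [← hπ1, map_mul, map_inv, map_mul, map_pow, h1, h2, inv_mul_cancel]

/-- the basic congruence for uniform elements: `y^p · [s⁻¹,…,s⁻¹,y] ∈ L (i+p)` for `y ∈ L i`. -/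
theorem pow_mul_ic (hm4 : 4 ≤ m) {s : G} (hs : IsUniform m s) :
    ∀ (d i : ℕ), 1 ≤ i → m - 1 ≤ i + d → ∀ y ∈ L G i,
      y ^ p * ic s⁻¹ y (p - 1) ∈ L G (i + p) := by
  intro d
  induction d with
  | zero =>
    intro i hi1 hid y hy
    have h1 : L G i = ⊥ := h.bot' (by omega)
    rw [h1, Subgroup.mem_bot] at hy
    subst hy
    rw [ic_one, one_pow, one_mul]
    exact one_mem _
  | succ d ih =>
    intro i hi1 hid y hy
    have hP1 : ∀ i', i < i' → ∀ z ∈ L G i', z ^ p ∈ L G (i' + p - 1) := by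
      intro i' hi' z hz
      have h1 := ih i' (by omega) (by omega) z hz
      have h2 : ic s⁻¹ z (p - 1) ∈ L G (i' + (p - 1)) := ic_mem_L s⁻¹ hz (p - 1)
      have hp1 : 1 ≤ p := hp.out.one_le
      have h3 : L G (i' + p) ≤ L G (i' + p - 1) := L_anti (by omega)
      have h4 : i' + (p - 1) = i' + p - 1 := by omega
      rw [h4] at h2
      have h5 : z ^ p = (z ^ p * ic s⁻¹ z (p - 1)) * (ic s⁻¹ z (p - 1))⁻¹ := by group
      rw [h5]
      exact mul_mem (h3 h1) (inv_mem h2)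
    have h1 := h.nseq_congr hi1 hP1 s⁻¹ hy
    rw [h.nseq_eq_one hm4 hs (L_anti hi1 hy), inv_one, one_mul] at h1
    exact h1

theorem pow_mem_L (hm4 : 4 ≤ m) {s : G} (hs : IsUniform m s) {i : ℕ} (hi1 : 1 ≤ i) {y : G}
    (hy : y ∈ L G i) : y ^ p ∈ L G (i + p - 1) := by
  have h1 := h.pow_mul_ic hm4 hs m i hi1 (by omega) y hy
  have h2 : ic s⁻¹ y (p - 1) ∈ L G (i + (p - 1)) := ic_mem_L s⁻¹ hy (p - 1)
  have hp1 : 1 ≤ p := hp.out.one_le
  have h3 : L G (i + p) ≤ L G (i + p - 1) := L_anti (by omega)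
  have h4 : i + (p - 1) = i + p - 1 := by omega
  rw [h4] at h2
  have h5 : y ^ p = (y ^ p * ic s⁻¹ y (p - 1)) * (ic s⁻¹ y (p - 1))⁻¹ := by group
  rw [h5]
  exact mul_mem (h3 h1) (inv_mem h2)

theorem pow_not_mem_L (hm4 : 4 ≤ m) {s : G} (hs : IsUniform m s) {i : ℕ} (hi1 : 1 ≤ i)
    (hi : i + p ≤ m - 1) {y : G} (hy : y ∈ L G i) (hy' : y ∉ L G (i + 1)) :
    y ^ p ∉ L G (i + p) := by
  intro hmem
  have hp1 : 1 ≤ p := hp.out.one_le
  have h1 := h.pow_mul_ic hm4 hs m i hi1 (by omega) y hy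
  have h2 := h.ic_not_mem (uniform_inv hs) hi1 hy hy' (p - 1) (by omega)
  apply h2
  rw [show i + (p - 1) + 1 = i + p by omega]
  have h5 : ic s⁻¹ y (p - 1) = (y ^ p)⁻¹ * (y ^ p * ic s⁻¹ y (p - 1)) := by group
  rw [h5]
  exact mul_mem (inv_mem hmem) h1

/-- general norm congruence (all levels now available). -/
theorem nseq_congr' (hm4 : 4 ≤ m) {s : G} (hs : IsUniform m s) {i : ℕ} (hi1 : 1 ≤ i) (t : G)
    {y : G} (hy : y ∈ L G i) :
    (nseq t y p)⁻¹ * (y ^ p * ic t y (p - 1)) ∈ L G (i + p) :=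
  h.nseq_congr hi1 (fun i' hi' z hz => h.pow_mem_L hm4 hs (by omega) hz) t hy

end MaxCl

end Cfsg.Agent.Lib.Helper1.Mcl
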