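import Mathlib
import Cfsg.Agent.Lib.Helper1.Mcl13

/-! # Maximal class: `p`-th powers on the first two-step centralizer; uniform elements from small
centralizers -/

set_option autoImplicit false
set_option maxHeartbeats 4000000
set_option linter.unusedVariables false
set_option linter.unusedSectionVars false
set_option linter.style.longLine false
set_option linter.unusedSimpArgs false

open scoped commutatorElement Pointwise
universe u

namespace Cfsg.Agent.Lib.Helper1.Mcl

open Cfsg.Agent.Lib.Helper4.HP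
open Cfsg.Agent.Lib.Helper3.Breadth (twoStep mem_twoStep lcs_normal mul_card_le_of_lt)

variable {G : Type u} [Group G] [Finite G]

/-- counting fibres of `a ↦ ⁅a, x⁆`. -/
theorem card_le_mul_centralizer (A B : Subgroup G) (x : G) (hAB : ∀ a ∈ A, ⁅a, x⁆ ∈ B) :
    Nat.card A ≤ Nat.card (A ⊓ Subgroup.centralizer ({x} : Set G) : Subgroup G) * Nat.card B := by
  classical
  haveI : Fintype ↥A := Fintype.ofFinite _
  haveI : Fintype ↥B := Fintype.ofFinite _
  haveI : Fintype ↥(A ⊓ Subgroup.centralizer ({x} : Set G) : Subgroup G) := Fintype.ofFinite _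
  let f : ↥A → ↥B := fun a => ⟨⁅(a : G), x⁆, hAB a a.2⟩
  have h1 := Finset.card_le_mul_card_image (f := f) (Finset.univ : Finset ↥A)
    (Fintype.card ↥(A ⊓ Subgroup.centralizer ({x} : Set G) : Subgroup G)) ?_
  · rw [Nat.card_eq_fintype_card, Nat.card_eq_fintype_card, Nat.card_eq_fintype_card]
    calc Fintype.card ↥A = (Finset.univ : Finset ↥A).card := rfl
      _ ≤ _ := h1
      _ ≤ _ := Nat.mul_le_mul_left _ (Finset.card_le_univ _)
  · intro b hb
    obtain ⟨a₀, -, ha₀⟩ := Finset.mem_image.mp hb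
    let g : ↥A → ↥(A ⊓ Subgroup.centralizer ({x} : Set G) : Subgroup G) := fun a =>
      if ha : f a = b then ⟨(a₀ : G)⁻¹ * a, by
        refine Subgroup.mem_inf.mpr ⟨A.mul_mem (A.inv_mem a₀.2) a.2, ?_⟩
        rw [Subgroup.mem_centralizer_iff]
        intro y hy
        rw [Set.mem_singleton_iff.mp hy]
        have h2 : ⁅(a : G), x⁆ = ⁅(a₀ : G), x⁆ := by
          have := ha.trans ha₀.symm
          exact congrArg Subtype.val this
        have h3 : (a : G) * x * (a : G)⁻¹ = (a₀ : G) * x * (a₀ : G)⁻¹ := by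
          have h4 : (a : G) * x * (a : G)⁻¹ = ⁅(a : G), x⁆ * x := by
            simp only [commutatorElement_def]; group
          have h5 : (a₀ : G) * x * (a₀ : G)⁻¹ = ⁅(a₀ : G), x⁆ * x := by
            simp only [commutatorElement_def]; group
          rw [h4, h5, h2]
        calc x * ((a₀ : G)⁻¹ * a) = (a₀ : G)⁻¹ * ((a₀ : G) * x * (a₀ : G)⁻¹) * a := by group
          _ = (a₀ : G)⁻¹ * ((a : G) * x * (a : G)⁻¹) * a := by rw [h3]
          _ = (a₀ : G)⁻¹ * a * x := by group⟩ else 1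
    calc (Finset.filter (fun a => f a = b) (Finset.univ : Finset ↥A)).card
        ≤ (Finset.univ : Finset ↥(A ⊓ Subgroup.centralizer ({x} : Set G) : Subgroup G)).card := by
          apply Finset.card_le_card_of_injOn g (fun a _ => Finset.mem_univ _)
          intro a ha a' ha'
          have ha1 : f a = b := (Finset.mem_filter.mp ha).2
          have ha2 : f a' = b := (Finset.mem_filter.mp ha').2
          intro hg
          simp only [g, dif_pos ha1, dif_pos ha2] at hg
          have := congrArg Subtype.val hg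
          simp only at this
          exact Subtype.ext (mul_left_cancel this)
      _ = _ := rfl

variable {p m : ℕ} [hp : Fact p.Prime]

namespace MaxCl

variable (h : MaxCl p m G)
include h

/-- an element with centralizer of order at most `p²` is uniform. -/
theorem uniform_of_card_centralizer (hm4 : 4 ≤ m) {x : G}
    (hx : Nat.card (Subgroup.centralizer ({x} : Set G)) ≤ p ^ 2) : IsUniform m x := by
  have hpos : 0 < p := hp.out.pos
  have hp2 : 2 ≤ p := hp.out.two_le
  -- `x ∉ L 1`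
  have hx1 : x ∉ L G 1 := by
    intro hx1
    have h1 := card_le_mul_centralizer (⊤ : Subgroup G) (L G 2) x
      (fun a _ => comm_mem_L' hx1 a)
    rw [top_inf_eq, Subgroup.card_top, h.card, h.card_L (by omega) (by omega)] at h1
    have h2 : p ^ m ≤ p ^ 2 * p ^ (m - 1 - 2) := h1.trans (Nat.mul_le_mul_right _ hx)
    rw [← pow_add] at h2
    have := (Nat.pow_le_pow_iff_right hp.out.one_lt).mp h2
    omega
  intro i hi1 hi hmem
  have h1 := card_le_mul_centralizer (L G i) (L G (i + 2)) x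
    (fun a ha => (mem_twoStep.mp hmem) a ha)
  rw [h.card_L hi1 (by omega), h.card_L (by omega) (by omega)] at h1
  -- the centralizer in `L i` is a proper subgroup of the centralizer
  have hlt : (L G i ⊓ Subgroup.centralizer ({x} : Set G) : Subgroup G) <
      Subgroup.centralizer ({x} : Set G) := by
    refine lt_of_le_of_ne inf_le_right ?_
    intro heq
    have hxC : x ∈ Subgroup.centralizer ({x} : Set G) := by
      rw [Subgroup.mem_centralizer_iff]
      intro y hy; rw [Set.mem_singleton_iff.mp hy]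
    rw [← heq] at hxC
    exact hx1 (L_anti hi1 (Subgroup.mem_inf.mp hxC).1)
  have h2 := mul_card_le_of_lt h.isPGroup hlt
  have h3 : p ^ (m - 1 - i) * p ≤ p ^ 2 * p ^ (m - 1 - (i + 2)) := by
    calc p ^ (m - 1 - i) * p
        ≤ Nat.card (L G i ⊓ Subgroup.centralizer ({x} : Set G) : Subgroup G) *
            p ^ (m - 1 - (i + 2)) * p := Nat.mul_le_mul_right _ h1
      _ = p * Nat.card (L G i ⊓ Subgroup.centralizer ({x} : Set G) : Subgroup G) *
            p ^ (m - 1 - (i + 2)) := by ring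
      _ ≤ Nat.card (Subgroup.centralizer ({x} : Set G)) * p ^ (m - 1 - (i + 2)) :=
          Nat.mul_le_mul_right _ h2
      _ ≤ p ^ 2 * p ^ (m - 1 - (i + 2)) := Nat.mul_le_mul_right _ hx
  rw [← pow_succ, ← pow_add] at h3
  have := (Nat.pow_le_pow_iff_right hp.out.one_lt).mp h3
  omega

omit hp h in
theorem ic_mem_of_twoStep {t : G} (ht : t ∈ twoStep G 1) {y : G} (hy : y ∈ L G 1) :
    ∀ k, 1 ≤ k → ic t y k ∈ L G (k + 2) := by
  intro k hk
  induction k, hk using Nat.le_induction with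
  | base =>
    rw [ic_succ, ic_zero]
    have h1 := (mem_twoStep.mp ht) y hy
    have h2 : ⁅t, y⁆ = ⁅y, t⁆⁻¹ := (commutatorElement_inv y t).symm
    rw [h2]
    exact inv_mem h1
  | succ k hk ih =>
    rw [ic_succ]
    exact comm_mem_L' ih t

theorem not_mem_twoStep_one (hm4 : 4 ≤ m) {s : G} (hs : IsUniform m s) : s ∉ twoStep G 1 :=
  hs 1 le_rfl (by omega)

/-- the commutator of a uniform element with an element of `twoStep 1 \ L 1` has level exactly `1`. -/
theorem comm_not_mem_two (hm4 : 4 ≤ m) {s : G} (hs : IsUniform m s) {x : G}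
    (hx : x ∈ twoStep G 1) (hx1 : x ∉ L G 1) : ⁅s, x⁆ ∉ L G 2 := by
  apply h.comm_not_mem s x
  exact h.closure_sup_eq_top (twoStep G 1) (L_one_le_twoStep 1) (h.index_twoStep le_rfl (by omega))
    (h.not_mem_twoStep_one hm4 hs) hx hx1

/-- key identity at level `0`: `x⁻ᵖ s xᵖ s⁻¹` is a norm of a conjugate of `⁅s, x⁆`. -/
theorem level_zero_key (hm4 : 4 ≤ m) {s : G} (hs : IsUniform m s) {x : G}
    (hx : x ∈ twoStep G 1) :
    ∃ b N : G, b ∈ L G 1 ∧ (⁅s, x⁆ ∈ L G 2 ↔ b ∈ L G 2) ∧ ⁅s, x ^ p⁆ = x ^ p * N * (x ^ p)⁻¹ ∧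
      N⁻¹ * b ^ p ∈ L G (p + 1) := by
  have hp2 : 2 ≤ p := hp.out.two_le
  have hb1 : ⁅s, x⁆ ∈ L G 1 := by
    have : s ∈ L G 0 := by
      show s ∈ (⊤ : Subgroup G).lowerCentralSeries 0
      rw [Subgroup.lowerCentralSeries_zero]; exact Subgroup.mem_top s
    exact comm_mem_L this x
  refine ⟨x⁻¹ * ⁅s, x⁆ * x, nseq x⁻¹ (x⁻¹ * ⁅s, x⁆ * x) p, ?_, ?_, ?_, ?_⟩
  · have := (lcs_normal (G := G) 1).conj_mem _ hb1 x⁻¹
    simpa using this
  · constructor
    · intro hmem
      have := (lcs_normal (G := G) 2).conj_mem _ hmem x⁻¹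
      simpa using this
    · intro hmem
      have := (lcs_normal (G := G) 2).conj_mem _ hmem x
      have h2 : x * (x⁻¹ * ⁅s, x⁆ * x) * x⁻¹ = ⁅s, x⁆ := by group
      rwa [h2] at this
  · have h1 := mul_pow_eq x (x⁻¹ * ⁅s, x⁆ * x) p
    have h2 : x * (x⁻¹ * ⁅s, x⁆ * x) = s * x * s⁻¹ := by
      simp only [commutatorElement_def]; group
    rw [h2, conj_pow] at h1
    have h3 : ⁅s, x ^ p⁆ = s * x ^ p * s⁻¹ * (x ^ p)⁻¹ := rfl
    rw [h3, h1]
  · have hbL : x⁻¹ * ⁅s, x⁆ * x ∈ L G 1 := by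
      have := (lcs_normal (G := G) 1).conj_mem _ hb1 x⁻¹
      simpa using this
    have h1 := h.nseq_congr' hm4 hs le_rfl x⁻¹ hbL
    have h2 : ic x⁻¹ (x⁻¹ * ⁅s, x⁆ * x) (p - 1) ∈ L G (p - 1 + 2) :=
      ic_mem_of_twoStep ((twoStep G 1).inv_mem hx) hbL (p - 1) (by omega)
    rw [show p - 1 + 2 = p + 1 by omega] at h2
    rw [show 1 + p = p + 1 by omega] at h1
    set N := nseq x⁻¹ (x⁻¹ * ⁅s, x⁆ * x) p with hN
    set b := x⁻¹ * ⁅s, x⁆ * x with hb
    have h3 : N⁻¹ * b ^ p = (N⁻¹ * (b ^ p * ic x⁻¹ b (p - 1))) * (ic x⁻¹ b (p - 1))⁻¹ := by group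
    rw [h3]
    exact mul_mem h1 (inv_mem h2)

/-- `p`-th powers of elements of the first two-step centralizer lie in `L (p-1)`. -/
theorem pow_mem_of_twoStep (hm4 : 4 ≤ m) (hmp : p + 1 ≤ m) {s : G} (hs : IsUniform m s) {x : G}
    (hx : x ∈ twoStep G 1) : x ^ p ∈ L G (p - 1) := by
  have hp2 : 2 ≤ p := hp.out.two_le
  obtain ⟨b, N, hb1, -, hcomm, hN⟩ := h.level_zero_key hm4 hs hx
  have hbp : b ^ p ∈ L G p := by
    have := h.pow_mem_L hm4 hs le_rfl hb1
    rwa [show 1 + p - 1 = p by omega] at this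
  have hNp : N ∈ L G p := by
    have h1 : N = b ^ p * (N⁻¹ * b ^ p)⁻¹ := by group
    rw [h1]
    exact mul_mem hbp (inv_mem (L_anti (by omega) hN))
  have hc : ⁅s, x ^ p⁆ ∈ L G p := by
    rw [hcomm]
    exact (lcs_normal (G := G) p).conj_mem _ hNp _
  have hz : x ^ p ∈ twoStep G 1 := (twoStep G 1).pow_mem hx p
  -- climb the levels
  have key : ∀ j, j ≤ p - 1 → x ^ p ∈ L G j := by
    intro j
    induction j with
    | zero =>
      intro _
      show x ^ p ∈ (⊤ : Subgroup G).lowerCentralSeries 0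
      rw [Subgroup.lowerCentralSeries_zero]; exact Subgroup.mem_top _
    | succ j ih =>
      intro hj
      have hzj := ih (by omega)
      by_contra hnot
      rcases Nat.eq_zero_or_pos j with rfl | hjpos
      · have h1 := h.comm_not_mem_two hm4 hs hz hnot
        exact h1 (L_anti (by omega) hc)
      · have h3 : s ∉ twoStep G j := hs j hjpos (by omega)
        have h4 := comm_not_mem_of_not_mem_twoStep h hjpos (by omega) hzj hnot h3
        exact h4 (L_anti (by omega) hc)
  exact key (p - 1) le_rfl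

/-- nonvanishing at level `0`. -/
theorem pow_not_mem_of_twoStep (hm4 : 4 ≤ m) (hmp : p + 2 ≤ m) {s : G} (hs : IsUniform m s)
    {x : G} (hx : x ∈ twoStep G 1) (hx1 : x ∉ L G 1) : x ^ p ∉ L G p := by
  have hp2 : 2 ≤ p := hp.out.two_le
  intro hmem
  obtain ⟨b, N, hb1, hb2, hcomm, hN⟩ := h.level_zero_key hm4 hs hx
  have hb2' : b ∉ L G 2 := fun hb => h.comm_not_mem_two hm4 hs hx hx1 (hb2.mpr hb)
  have hbp := h.pow_not_mem_L hm4 hs le_rfl (by omega) hb1 hb2'
  apply hbp
  rw [show 1 + p = p + 1 by omega]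
  have hc : ⁅s, x ^ p⁆ ∈ L G (p + 1) := comm_mem_L' hmem s
  have hNp : N ∈ L G (p + 1) := by
    have h1 : N = (x ^ p)⁻¹ * ⁅s, x ^ p⁆ * ((x ^ p)⁻¹)⁻¹ := by rw [hcomm]; group
    rw [h1]
    exact (lcs_normal (G := G) (p + 1)).conj_mem _ hc _
  have h1 : b ^ p = N * (N⁻¹ * b ^ p) := by group
  rw [h1]
  exact mul_mem hNp hN

end MaxCl

end Cfsg.Agent.Lib.Helper1.Mcl
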