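import Mathlib
import Cfsg.Agent.Lib.Helper1.Mcl14

/-! # Maximal class: level counting, ranks of subgroups of the first two-step centralizer -/

set_option autoImplicit false
set_option maxHeartbeats 4000000
set_option linter.unusedVariables false
set_option linter.unusedSectionVars false
set_option linter.style.longLine false
set_option linter.unusedSimpArgs false

open scoped commutatorElement Pointwise
universe u

namespace Cfsg.Agent.Lib.Helper1.Mcl

open Cfsg.Agent.Lib.Helper3.Breadth (twoStep mem_twoStep lcs_normal mul_card_le_of_lt)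

variable {G : Type u} [Group G] [Finite G]

/-- the chain `twoStep 1 ≥ L 1 ≥ L 2 ≥ …`. -/
def Qs (G : Type u) [Group G] (i : ℕ) : Subgroup G := if i = 0 then twoStep G 1 else L G i

omit [Finite G] in
theorem Qs_zero : Qs G 0 = twoStep G 1 := by simp [Qs]

omit [Finite G] in
theorem Qs_pos {i : ℕ} (hi : 1 ≤ i) : Qs G i = L G i := by
  have : i ≠ 0 := by omega
  simp [Qs, this]

theorem Qs_anti_succ (i : ℕ) : Qs G (i + 1) ≤ Qs G i := by
  rcases Nat.eq_zero_or_pos i with rfl | hi
  · rw [Qs_zero, Qs_pos (by omega)]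
    exact L_one_le_twoStep 1
  · rw [Qs_pos (by omega), Qs_pos hi]
    exact L_anti (Nat.le_succ i)

theorem Qs_anti {i j : ℕ} (hij : i ≤ j) : Qs G j ≤ Qs G i := by
  induction j, hij using Nat.le_induction with
  | base => exact le_rfl
  | succ j _ ih => exact (Qs_anti_succ j).trans ih

variable {p m : ℕ} [hp : Fact p.Prime]

/-- a `p`-group with Frattini quotient of order at most `p ^ k` is generated by `k` elements. -/
theorem gen_of_frattini {X : Type u} [Group X] [Finite X] (hX : IsPGroup p X) (k : ℕ)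
    (hidx : (frattini X).index ≤ p ^ k) :
    ∃ T : Finset X, T.card ≤ k ∧ Subgroup.closure (T : Set X) = ⊤ := by
  classical
  haveI : Fintype X := Fintype.ofFinite X
  have h1 : (frattini X).index ∣ Nat.card X := Subgroup.index_dvd_card _
  obtain ⟨a, ha⟩ := IsPGroup.iff_card.mp hX
  rw [ha] at h1
  obtain ⟨n, hn, hn2⟩ := (Nat.dvd_prime_pow hp.out).mp h1
  have hnk : n ≤ k := by
    by_contra hcon
    push_neg at hcon
    have : p ^ k < p ^ n := Nat.pow_lt_pow_right hp.out.one_lt hcon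
    rw [← hn2] at this
    omega
  obtain ⟨T, -, hT, hT2⟩ := (burnside_basis p n hX hn2).1 Finset.univ (by
    rw [Finset.coe_univ, Subgroup.closure_univ])
  exact ⟨T, by omega, hT2⟩

/-- transfer of generation from a subgroup (as a type) to the ambient group. -/
theorem gen_subgroup {G : Type u} [Group G] (H : Subgroup G) (k : ℕ)
    (hH : ∃ T : Finset ↥H, T.card ≤ k ∧ Subgroup.closure (T : Set ↥H) = ⊤) :
    ∃ T : Finset G, T.card ≤ k ∧ Subgroup.closure (T : Set G) = H := by
  classical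
  obtain ⟨T, hT, hT2⟩ := hH
  refine ⟨T.image H.subtype, le_trans Finset.card_image_le hT, ?_⟩
  rw [Finset.coe_image, ← MonoidHom.map_closure, hT2, ← MonoidHom.range_eq_map, Subgroup.range_subtype]

namespace MaxCl

variable (h : MaxCl p m G)
include h

theorem relIndex_Qs (hm4 : 4 ≤ m) {i : ℕ} (hi : i ≤ m - 2) :
    (Qs G (i + 1)).relIndex (Qs G i) = p := by
  rcases Nat.eq_zero_or_pos i with rfl | hi0
  · rw [Qs_zero, Qs_pos (by omega)]
    have h3 := Cfsg.Agent.Lib.Helper2.card_mul_relIndex (L_one_le_twoStep (G := G) 1)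
    rw [h.card_twoStep le_rfl (by omega), h.card_L le_rfl (by omega)] at h3
    have hpos : 0 < p ^ (m - 1 - 1) := Nat.pos_of_ne_zero (pow_ne_zero _ hp.out.ne_zero)
    have : p ^ (m - 1 - 1) * (L G 1).relIndex (twoStep G 1) = p ^ (m - 1 - 1) * p := by
      rw [h3, ← pow_succ]; congr 1; omega
    exact Nat.eq_of_mul_eq_mul_left hpos this
  · rw [Qs_pos (by omega), Qs_pos hi0]
    exact h.relIndex_L hi0 hi

theorem pow_mem_Qs (hm4 : 4 ≤ m) (hmp : p + 1 ≤ m) {s : G} (hs : IsUniform m s) {i : ℕ} {x : G}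
    (hx : x ∈ Qs G i) : x ^ p ∈ Qs G (i + p - 1) := by
  have hp2 : 2 ≤ p := hp.out.two_le
  rcases Nat.eq_zero_or_pos i with rfl | hi0
  · rw [Qs_zero] at hx
    rw [Qs_pos (by omega), show 0 + p - 1 = p - 1 by omega]
    exact h.pow_mem_of_twoStep hm4 hmp hs hx
  · rw [Qs_pos hi0] at hx
    rw [Qs_pos (by omega)]
    exact h.pow_mem_L hm4 hs hi0 hx

theorem pow_not_mem_Qs (hm4 : 4 ≤ m) (hmp : p + 2 ≤ m) {s : G} (hs : IsUniform m s) {i : ℕ}
    (hi : i + p ≤ m - 1) {x : G} (hx : x ∈ Qs G i) (hx' : x ∉ Qs G (i + 1)) :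
    x ^ p ∉ Qs G (i + p) := by
  have hp2 : 2 ≤ p := hp.out.two_le
  rcases Nat.eq_zero_or_pos i with rfl | hi0
  · rw [Qs_zero] at hx
    rw [Qs_pos (by omega)] at hx'
    rw [Qs_pos (by omega), show 0 + p = p by omega]
    exact h.pow_not_mem_of_twoStep hm4 hmp hs hx hx'
  · rw [Qs_pos hi0] at hx
    rw [Qs_pos (by omega)] at hx'
    rw [Qs_pos (by omega)]
    exact h.pow_not_mem_L hm4 hs hi0 hi hx hx'

/-- level counting. -/
theorem relIndex_le_card (hm4 : 4 ≤ m) (hmp : p + 2 ≤ m) {s : G} (hs : IsUniform m s)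
    (H K : Subgroup G) (hHK : ∀ x ∈ H, x ^ p ∈ K) :
    ∀ j, j ≤ m - p → (H ⊓ Qs G (m - p)).relIndex (H ⊓ Qs G (m - p - j)) ≤
      Nat.card (K ⊓ Qs G (m - p - j + p - 1) : Subgroup G) := by
  have hp2 : 2 ≤ p := hp.out.two_le
  intro j
  induction j with
  | zero =>
    intro _
    rw [Nat.sub_zero, Subgroup.relIndex_self]
    exact Nat.card_pos
  | succ j ih =>
    intro hj
    have ih' := ih (by omega)
    obtain ⟨i', hi'⟩ : ∃ i', m - p - (j + 1) = i' := ⟨_, rfl⟩
    have hi : m - p - j = i' + 1 := by omega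
    rw [hi'] 
    rw [hi] at ih'
    have hle1 : H ⊓ Qs G (m - p) ≤ H ⊓ Qs G (i' + 1) :=
      inf_le_inf_left _ (Qs_anti (by omega))
    have hle2 : H ⊓ Qs G (i' + 1) ≤ H ⊓ Qs G i' := inf_le_inf_left _ (Qs_anti_succ i')
    have hmul := Subgroup.relIndex_mul_relIndex _ _ _ hle1 hle2
    have hKle : (K ⊓ Qs G (i' + 1 + p - 1) : Subgroup G) ≤ K ⊓ Qs G (i' + p - 1) :=
      inf_le_inf_left _ (Qs_anti (by omega))
    by_cases heq : H ⊓ Qs G i' ≤ H ⊓ Qs G (i' + 1)
    · have h1 : (H ⊓ Qs G (i' + 1)).relIndex (H ⊓ Qs G i') = 1 :=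
        Subgroup.relIndex_eq_one.mpr heq
      rw [h1, mul_one] at hmul
      rw [← hmul]
      exact ih'.trans (Subgroup.card_le_of_le hKle)
    · obtain ⟨x, hx, hxn⟩ := SetLike.not_le_iff_exists.mp heq
      have hxH : x ∈ H := (Subgroup.mem_inf.mp hx).1
      have hxQ : x ∈ Qs G i' := (Subgroup.mem_inf.mp hx).2
      have hxQ' : x ∉ Qs G (i' + 1) := fun hc => hxn (Subgroup.mem_inf.mpr ⟨hxH, hc⟩)
      -- relative index at most p
      have hrel : (H ⊓ Qs G (i' + 1)).relIndex (H ⊓ Qs G i') ≤ p := by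
        have h1 : (H ⊓ Qs G (i' + 1)).relIndex (H ⊓ Qs G i') =
            (Qs G (i' + 1)).relIndex (H ⊓ Qs G i') := by
          have h2 : H ⊓ Qs G (i' + 1) ⊓ (H ⊓ Qs G i') = Qs G (i' + 1) ⊓ (H ⊓ Qs G i') := by
            apply le_antisymm
            · exact le_inf (inf_le_left.trans inf_le_right) inf_le_right
            · exact le_inf (le_inf (inf_le_right.trans inf_le_left) inf_le_left) inf_le_right
          rw [← Subgroup.inf_relIndex_right, h2, Subgroup.inf_relIndex_right]
        rw [h1]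
        have h3 := h.relIndex_Qs hm4 (i := i') (by omega)
        have h4 := Subgroup.relIndex_le_of_le_right (H := Qs G (i' + 1))
          (K := H ⊓ Qs G i') (L := Qs G i') inf_le_right (by rw [h3]; exact hp.out.ne_zero)
        rwa [h3] at h4
      -- the power of x separates the levels of K
      have hxp : x ^ p ∈ K ⊓ Qs G (i' + p - 1) :=
        Subgroup.mem_inf.mpr ⟨hHK x hxH, h.pow_mem_Qs hm4 (by omega) hs hxQ⟩
      have hxp' : x ^ p ∉ (K ⊓ Qs G (i' + 1 + p - 1) : Subgroup G) := by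
        intro hc
        have h1 := (Subgroup.mem_inf.mp hc).2
        rw [show i' + 1 + p - 1 = i' + p by omega] at h1
        exact h.pow_not_mem_Qs hm4 hmp hs (by omega) hxQ hxQ' h1
      have hlt : (K ⊓ Qs G (i' + 1 + p - 1) : Subgroup G) < K ⊓ Qs G (i' + p - 1) :=
        lt_of_le_of_ne hKle (fun he => hxp' (he ▸ hxp))
      have hcard := mul_card_le_of_lt h.isPGroup hlt
      rw [← hmul]
      calc (H ⊓ Qs G (m - p)).relIndex (H ⊓ Qs G (i' + 1)) *
            (H ⊓ Qs G (i' + 1)).relIndex (H ⊓ Qs G i')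
          ≤ Nat.card (K ⊓ Qs G (i' + 1 + p - 1) : Subgroup G) * p :=
            Nat.mul_le_mul ih' hrel
        _ = p * Nat.card (K ⊓ Qs G (i' + 1 + p - 1) : Subgroup G) := Nat.mul_comm _ _
        _ ≤ _ := hcard

theorem card_le_of_pow_mem (hm4 : 4 ≤ m) (hmp : p + 2 ≤ m) {s : G} (hs : IsUniform m s)
    (H K : Subgroup G) (hH : H ≤ twoStep G 1) (hHK : ∀ x ∈ H, x ^ p ∈ K) :
    Nat.card H ≤ p ^ (p - 1) * Nat.card K := by
  have hp2 : 2 ≤ p := hp.out.two_le
  have h1 := h.relIndex_le_card hm4 hmp hs H K hHK (m - p) le_rfl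
  rw [Nat.sub_self, Qs_zero, inf_eq_left.mpr hH] at h1
  have h2 : Nat.card (K ⊓ Qs G (0 + p - 1) : Subgroup G) ≤ Nat.card K :=
    Subgroup.card_le_of_le inf_le_left
  have h3 := Cfsg.Agent.Lib.Helper2.card_mul_relIndex (inf_le_left : H ⊓ Qs G (m - p) ≤ H)
  have h4 : Nat.card (H ⊓ Qs G (m - p) : Subgroup G) ≤ p ^ (p - 1) := by
    rw [Qs_pos (by omega : 1 ≤ m - p)]
    have h5 : Nat.card (H ⊓ L G (m - p) : Subgroup G) ≤ Nat.card (L G (m - p)) :=
      Subgroup.card_le_of_le inf_le_right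
    rw [h.card_L (by omega) (by omega), show m - 1 - (m - p) = p - 1 by omega] at h5
    exact h5
  rw [← h3]
  exact Nat.mul_le_mul h4 (h1.trans h2)

/-- every subgroup of the first two-step centralizer is generated by `p - 1` elements. -/
theorem gen_of_le_twoStep (hm4 : 4 ≤ m) (hmp : p + 2 ≤ m) {s : G} (hs : IsUniform m s)
    (H : Subgroup G) (hH : H ≤ twoStep G 1) :
    ∃ T : Finset G, T.card ≤ p - 1 ∧ Subgroup.closure (T : Set G) = H := by
  apply gen_subgroup H (p - 1)
  have hHp : IsPGroup p ↥H := h.isPGroup.to_subgroup H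
  apply gen_of_frattini hHp (p - 1)
  have h1 := h.card_le_of_pow_mem hm4 hmp hs H ((frattini ↥H).map H.subtype) hH (by
    intro x hx
    refine ⟨⟨x, hx⟩ ^ p, ?_, rfl⟩
    exact pow_prime_mem_frattini_of_isPGroup p hHp ⟨x, hx⟩)
  rw [Subgroup.card_map_of_injective H.subtype_injective] at h1
  have h2 := Subgroup.card_mul_index (frattini ↥H)
  have hpos : 0 < Nat.card (frattini ↥H) := Nat.card_pos
  rw [← h2] at h1
  rw [Nat.mul_comm (p ^ (p - 1))] at h1
  exact Nat.le_of_mul_le_mul_left h1 hpos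

/-- every subgroup is generated by `p` elements (order at least `p ^ (p+2)`). -/
theorem gen_of_uniform (hm4 : 4 ≤ m) (hmp : p + 2 ≤ m) {s : G} (hs : IsUniform m s)
    (H : Subgroup G) :
    ∃ T : Finset G, T.card ≤ p ∧ Subgroup.closure (T : Set G) = H := by
  classical
  have hp2 : 2 ≤ p := hp.out.two_le
  by_cases hH : H ≤ twoStep G 1
  · obtain ⟨T, hT, hT2⟩ := h.gen_of_le_twoStep hm4 hmp hs H hH
    exact ⟨T, by omega, hT2⟩
  · obtain ⟨x, hxH, hxn⟩ := SetLike.not_le_iff_exists.mp hH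
    obtain ⟨T, hT, hT2⟩ := h.gen_of_le_twoStep hm4 hmp hs (H ⊓ twoStep G 1) inf_le_right
    refine ⟨insert x T, ?_, ?_⟩
    · exact (Finset.card_insert_le x T).trans (by omega)
    · rw [Finset.coe_insert]
      apply le_antisymm
      · rw [Subgroup.closure_le]
        intro y hy
        rcases hy with rfl | hy
        · exact hxH
        · have : y ∈ Subgroup.closure (T : Set G) := Subgroup.subset_closure hy
          rw [hT2] at this
          exact (Subgroup.mem_inf.mp this).1
      · -- `H = ⟨x⟩ (H ⊓ twoStep 1)` since the index is `p`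
        intro y hy
        have hidx : (twoStep G 1).index = p := h.index_twoStep le_rfl (by omega)
        haveI : (twoStep G 1).Normal := twoStep_normal 1
        -- work in the quotient of order p
        have hcardQ : Nat.card (G ⧸ twoStep G 1) = p := hidx
        have hx1 : (QuotientGroup.mk x : G ⧸ twoStep G 1) ≠ 1 := by
          intro hc; exact hxn ((QuotientGroup.eq_one_iff x).mp hc)
        have hmem : (QuotientGroup.mk y : G ⧸ twoStep G 1) ∈
            Subgroup.zpowers (QuotientGroup.mk x : G ⧸ twoStep G 1) := by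
          rw [zpowers_eq_top_of_prime_card hcardQ hx1]
          exact Subgroup.mem_top _
        obtain ⟨k, hk⟩ := Subgroup.mem_zpowers_iff.mp hmem
        have h3 : (x ^ k)⁻¹ * y ∈ twoStep G 1 := by
          rw [← QuotientGroup.eq_one_iff, QuotientGroup.mk_mul, QuotientGroup.mk_inv,
            QuotientGroup.mk_zpow, hk, inv_mul_cancel]
        have h4 : (x ^ k)⁻¹ * y ∈ H ⊓ twoStep G 1 :=
          Subgroup.mem_inf.mpr ⟨H.mul_mem (H.inv_mem (H.zpow_mem hxH k)) hy, h3⟩
        rw [← hT2] at h4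
        have h5 : x ∈ Subgroup.closure (insert x (T : Set G)) :=
          Subgroup.subset_closure (Set.mem_insert x _)
        have h6 : Subgroup.closure (T : Set G) ≤ Subgroup.closure (insert x (T : Set G)) :=
          Subgroup.closure_mono (Set.subset_insert x _)
        have h7 : y = x ^ k * ((x ^ k)⁻¹ * y) := by group
        rw [h7]
        exact mul_mem (Subgroup.zpow_mem _ h5 k) (h6 h4)

end MaxCl

end Cfsg.Agent.Lib.Helper1.Mcl
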