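import Mathlib
import Cfsg.Agent.Lib.Helper1.Mcl15

/-! # Pearls force maximal class and sectional rank at most `p` -/

set_option autoImplicit false
set_option maxHeartbeats 4000000
set_option linter.unusedVariables false
set_option linter.unusedSectionVars false
set_option linter.style.longLine false
set_option linter.unusedSimpArgs false
set_option linter.style.haveILetI false

universe u
open scoped commutatorElement

namespace Cfsg.Agent.Lib.Helper1.Mcl

open Cfsg.Agent.Lib.Helper3.Breadth (twoStep mem_twoStep mul_card_le_of_lt)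

section sc

variable {G : Type u} [Group G] [Finite G] {p : ℕ} [hp : Fact p.Prime]

/-- a proper subgroup of order `p ^ 2` containing its centralizer contains a noncentral element
whose centralizer lies in it. -/
theorem small_centralizer_sq (hG : IsPGroup p G) (E : Subgroup G) (hE : Nat.card E = p ^ 2)
    (hC : Subgroup.centralizer (E : Set G) ≤ E) (hne : E ≠ ⊤) :
    ∃ x ∈ E, x ∉ Subgroup.center G ∧ Subgroup.centralizer ({x} : Set G) ≤ E := by
  classical
  have hZE : Subgroup.center G ≤ E := le_trans (Subgroup.center_le_centralizer _) hC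
  haveI : Nontrivial G := by
    by_contra h
    rw [not_nontrivial_iff_subsingleton] at h
    have h1 : Nat.card E = 1 := Nat.card_eq_one_iff_unique.mpr ⟨inferInstance, ⟨1⟩⟩
    rw [hE] at h1
    have : 1 < p ^ 2 := Nat.one_lt_pow (by norm_num) hp.out.one_lt
    omega
  have hZne : Subgroup.center G ≠ ⊥ := (hG.bot_lt_center).ne'
  have hEZ : ¬ E ≤ Subgroup.center G := by
    intro h
    apply hne
    rw [eq_top_iff]
    intro g _
    apply hC
    rw [Subgroup.mem_centralizer_iff]
    intro e he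
    exact (Subgroup.mem_center_iff.mp (h he) g).symm
  obtain ⟨x, hxE, hxZ⟩ := SetLike.not_le_iff_exists.mp hEZ
  refine ⟨x, hxE, hxZ, ?_⟩
  intro c hc
  apply hC
  have hD : Subgroup.centralizer ({c} : Set G) ⊓ E = E := by
    apply Subgroup.eq_of_le_of_card_ge inf_le_right
    have hlt : Subgroup.center G < Subgroup.centralizer ({c} : Set G) ⊓ E := by
      refine lt_of_le_of_ne (le_inf (Subgroup.center_le_centralizer _) hZE) ?_
      intro h
      apply hxZ
      rw [h]
      refine Subgroup.mem_inf.mpr ⟨?_, hxE⟩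
      rw [Subgroup.mem_centralizer_iff]
      intro y hy
      rw [Set.mem_singleton_iff.mp hy]
      have := Subgroup.mem_centralizer_iff.mp hc x (Set.mem_singleton x)
      exact this.symm
    have h1 := mul_card_le_of_lt hG hlt
    have h2 : p ≤ Nat.card (Subgroup.center G) := by
      have hlt2 : (⊥ : Subgroup G) < Subgroup.center G := bot_lt_iff_ne_bot.mpr hZne
      have := mul_card_le_of_lt hG hlt2
      rw [Subgroup.card_bot] at this
      omega
    rw [hE]
    calc p ^ 2 = p * p := sq p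
      _ ≤ p * Nat.card (Subgroup.center G) := Nat.mul_le_mul_left _ h2
      _ ≤ _ := h1
  rw [Subgroup.mem_centralizer_iff]
  intro e he
  have h3 : e ∈ Subgroup.centralizer ({c} : Set G) ⊓ E := by rw [hD]; exact he
  have h4 := Subgroup.mem_centralizer_iff.mp (Subgroup.mem_inf.mp h3).1 c (Set.mem_singleton c)
  exact h4.symm

/-- a proper nonabelian subgroup of order `p ^ 3` containing its centralizer contains an element
with centralizer of order at most `p ^ 2`. -/
theorem small_centralizer_cube (hG : IsPGroup p G) (E : Subgroup G) (hE : Nat.card E = p ^ 3)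
    (hna : ∃ a ∈ E, ∃ b ∈ E, a * b ≠ b * a)
    (hC : Subgroup.centralizer (E : Set G) ≤ E) (hEtop : E ≠ ⊤) :
    ∃ x : G, Nat.card (Subgroup.centralizer ({x} : Set G)) ≤ p ^ 2 := by
  classical
  obtain ⟨n, hn⟩ := IsPGroup.iff_card.mp hG
  obtain ⟨a, haE, b, hbE, hab⟩ := hna
  haveI : Nontrivial G := ⟨⟨a * b, b * a, hab⟩⟩
  have hnaE : ¬ ∀ x y : ↥E, x * y = y * x :=
    fun h => hab (congrArg Subtype.val (h ⟨a, haE⟩ ⟨b, hbE⟩))
  obtain ⟨hZE, hcommE, -, -⟩ := Cfsg.Agent.Lib.Lead.Fus.extraspecial_of_card_cube hE hnaE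
  have hcen : (Subgroup.center ↥E).map E.subtype = Subgroup.centralizer (E : Set G) := by
    rw [Cfsg.Agent.Lib.Helper1.ET.center_map_subtype]
    exact inf_eq_right.mpr hC
  have hcardC : Nat.card (Subgroup.centralizer (E : Set G)) = p := by
    rw [← hcen, Subgroup.card_map_of_injective E.subtype_injective]
    exact hZE
  have hZ : Subgroup.center G = Subgroup.centralizer (E : Set G) := by
    apply Subgroup.eq_of_le_of_card_ge (Subgroup.center_le_centralizer _)
    rw [hcardC]
    have h1 : Subgroup.center G ≠ ⊥ := (hG.bot_lt_center).ne'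
    obtain ⟨k, hk⟩ := IsPGroup.iff_card.mp (hG.to_subgroup (Subgroup.center G))
    rw [hk]
    rcases k with _ | k
    · exfalso; apply h1; rw [pow_zero] at hk; exact Subgroup.card_eq_one.mp hk
    · calc p = p ^ 1 := (pow_one p).symm
        _ ≤ p ^ (k + 1) := Nat.pow_le_pow_right hp.out.pos (by omega)
  have hZcard : Nat.card (Subgroup.center G) = p := by rw [hZ]; exact hcardC
  have hZE' : Subgroup.center G ≤ E := by rw [hZ]; exact hC
  have hcomm : ∀ x ∈ E, ∀ y ∈ E, x * y * x⁻¹ * y⁻¹ ∈ Subgroup.center G := by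
    intro x hx y hy
    have h1 : ⁅(⟨x, hx⟩ : ↥E), ⟨y, hy⟩⁆ ∈ commutator ↥E :=
      Subgroup.commutator_mem_commutator (Subgroup.mem_top _) (Subgroup.mem_top _)
    rw [hcommE] at h1
    have h2 : ((⁅(⟨x, hx⟩ : ↥E), ⟨y, hy⟩⁆ : ↥E) : G) ∈ (Subgroup.center ↥E).map E.subtype :=
      ⟨_, h1, rfl⟩
    rw [hcen, ← hZ] at h2
    exact h2
  have hn4 : 4 ≤ n := by
    have hlt : Nat.card E < Nat.card G := by
      by_contra hcon
      push_neg at hcon
      exact hEtop (Subgroup.eq_top_of_le_card E hcon)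
    rw [hE, hn] at hlt
    have := (Nat.pow_lt_pow_iff_right hp.out.one_lt).mp hlt
    omega
  obtain ⟨π, hπ⟩ : ∃ π : G →* G ⧸ Subgroup.center G, π = QuotientGroup.mk' (Subgroup.center G) :=
    ⟨_, rfl⟩
  have hπs : Function.Surjective π := by rw [hπ]; exact QuotientGroup.mk'_surjective _
  have hπ1 : ∀ g : G, π g = 1 ↔ g ∈ Subgroup.center G := by
    intro g; rw [hπ]; exact QuotientGroup.eq_one_iff g
  have hπker : π.ker = Subgroup.center G := by rw [hπ]; exact QuotientGroup.ker_mk' _
  have hQcard : Nat.card (G ⧸ Subgroup.center G) = p ^ (n - 1) := by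
    have h1 := Subgroup.card_eq_card_quotient_mul_card_subgroup (Subgroup.center G)
    rw [hn, hZcard] at h1
    have h2 : p ^ n = p ^ (n - 1) * p := by rw [← pow_succ]; congr 1; omega
    rw [h2] at h1
    exact (Nat.eq_of_mul_eq_mul_right hp.out.pos h1).symm
  obtain ⟨A, hA⟩ : ∃ A : Subgroup (G ⧸ Subgroup.center G), A = E.map π := ⟨_, rfl⟩
  have hAcard : Nat.card A = p ^ 2 := by
    have h1 : (E.map π).index = E.index :=
      Subgroup.index_map_eq _ hπs (by rw [hπker]; exact hZE')
    have h2 := Subgroup.card_mul_index (E.map π)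
    have h3 := Subgroup.card_mul_index E
    rw [h1, hQcard] at h2
    rw [hE, hn] at h3
    have hidx : 0 < E.index := Nat.pos_of_ne_zero Subgroup.index_ne_zero_of_finite
    rw [hA]
    apply Nat.eq_of_mul_eq_mul_right hidx
    apply Nat.eq_of_mul_eq_mul_right hp.out.pos
    calc Nat.card (E.map π) * E.index * p = p ^ (n - 1) * p := by rw [h2]
      _ = p ^ n := by rw [← pow_succ]; congr 1; omega
      _ = p ^ 3 * E.index := h3.symm
      _ = p ^ 2 * E.index * p := by ring
  have hAab : A ≤ Subgroup.centralizer (A : Set (G ⧸ Subgroup.center G)) := by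
    intro q hq
    rw [hA] at hq
    obtain ⟨x, hx, rfl⟩ := hq
    rw [Subgroup.mem_centralizer_iff]
    intro q' hq'
    rw [hA] at hq'
    obtain ⟨y, hy, rfl⟩ := hq'
    rw [← map_mul, ← map_mul]
    have h1 := hcomm y hy x hx
    have h2 : π (y * x * y⁻¹ * x⁻¹) = 1 := (hπ1 _).mpr h1
    have h3 : y * x = (y * x * y⁻¹ * x⁻¹) * (x * y) := by group
    rw [h3, map_mul, h2, one_mul]
  obtain ⟨Cs, hCs⟩ : ∃ Cs : Subgroup G,
      Cs = (Subgroup.centralizer (A : Set (G ⧸ Subgroup.center G))).comap π := ⟨_, rfl⟩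
  have hCs_comm : ∀ s ∈ Cs, ∀ e ∈ E, s * e * s⁻¹ * e⁻¹ ∈ Subgroup.center G := by
    intro s hs e he
    rw [hCs, Subgroup.mem_comap, Subgroup.mem_centralizer_iff] at hs
    have h1 := hs (π e) (by rw [hA]; exact ⟨e, he, rfl⟩)
    rw [← hπ1, map_mul, map_mul, map_mul, map_inv, map_inv, ← h1]
    group
  have hECs : E ≤ Cs := by
    intro e he
    rw [hCs, Subgroup.mem_comap]
    exact hAab (by rw [hA]; exact ⟨e, he, rfl⟩)
  have hK : Subgroup.closure ({a, b} : Set G) = E := by
    have hKE : Subgroup.closure ({a, b} : Set G) ≤ E := by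
      rw [Subgroup.closure_le]
      intro x hx
      rcases hx with rfl | rfl
      · exact haE
      · exact hbE
    apply Subgroup.eq_of_le_of_card_ge hKE
    by_contra hcon
    push_neg at hcon
    have hdvd : Nat.card (Subgroup.closure ({a, b} : Set G)) ∣ p ^ 3 := by
      rw [← hE]; exact Subgroup.card_dvd_of_le hKE
    obtain ⟨j, hj, hcard⟩ := (Nat.dvd_prime_pow hp.out).mp hdvd
    have hj2 : j ≤ 2 := by
      by_contra h3
      have : j = 3 := by omega
      rw [this, ← hE] at hcard
      omega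
    have hdvd2 : Nat.card (Subgroup.closure ({a, b} : Set G)) ∣ p ^ 2 := by
      rw [hcard]; exact pow_dvd_pow p hj2
    have := comm_of_card_dvd_sq (p := p) hdvd2
      (⟨a, Subgroup.subset_closure (by simp)⟩ : ↥(Subgroup.closure ({a, b} : Set G)))
      ⟨b, Subgroup.subset_closure (by simp)⟩
    exact hab (congrArg Subtype.val this)
  have hCsE : Cs ≤ E := by
    intro s hs
    have hbCs := hECs hbE
    have haCs := hECs haE
    have hcc : ∀ z ∈ Subgroup.center G, ∀ s ∈ Cs, s * z = z * s :=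
      fun z hz s _ => Subgroup.mem_center_iff.mp hz s
    obtain ⟨k, u, hu, hua, rfl⟩ := Cfsg.Agent.Lib.Helper1.ET.comm_decomp_elt Cs
      (Subgroup.center G) hZcard hcc haCs (fun s hs => hCs_comm s hs a haE) hbCs
      (fun h => hab h.symm) s hs
    obtain ⟨l, v, hv, hvb, rfl⟩ := Cfsg.Agent.Lib.Helper1.ET.comm_decomp_elt Cs
      (Subgroup.center G) hZcard hcc hbCs (fun s hs => hCs_comm s hs b hbE) haCs
      hab u hu
    have hva : v * a = a * v := by
      have h1 : a ^ l * v * a = a * (a ^ l * v) := hua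
      have h2 : a * (a ^ l * v) = a ^ l * (a * v) := by
        rw [← mul_assoc, ← mul_assoc]
        congr 1
        exact ((Commute.refl a).zpow_right l).eq
      rw [h2, mul_assoc] at h1
      exact mul_left_cancel h1
    have hvC : v ∈ Subgroup.centralizer (E : Set G) := by
      have h1 : Subgroup.closure ({a, b} : Set G) ≤ Subgroup.centralizer ({v} : Set G) := by
        rw [Subgroup.closure_le]
        intro x hx
        rcases hx with rfl | rfl
        · exact Subgroup.mem_centralizer_iff.mpr (fun h hh => by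
            rw [Set.mem_singleton_iff.mp hh]; exact hva)
        · exact Subgroup.mem_centralizer_iff.mpr (fun h hh => by
            rw [Set.mem_singleton_iff.mp hh]; exact hvb)
      rw [hK] at h1
      rw [Subgroup.mem_centralizer_iff]
      intro e he
      have := Subgroup.mem_centralizer_iff.mp (h1 he) v (Set.mem_singleton v)
      exact this.symm
    exact E.mul_mem (E.zpow_mem hbE k) (E.mul_mem (E.zpow_mem haE l) (hC hvC))
  have hAC : Subgroup.centralizer (A : Set (G ⧸ Subgroup.center G)) ≤ A := by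
    intro q hq
    obtain ⟨g, rfl⟩ := hπs q
    have hg : g ∈ Cs := by rw [hCs, Subgroup.mem_comap]; exact hq
    rw [hA]
    exact ⟨g, hCsE hg, rfl⟩
  have hQp : IsPGroup p (G ⧸ Subgroup.center G) := IsPGroup.of_card hQcard
  have hAne : A ≠ ⊤ := by
    intro h
    have h1 : Nat.card A = Nat.card (G ⧸ Subgroup.center G) := by rw [h]; exact Subgroup.card_top
    rw [hAcard, hQcard] at h1
    have := Nat.pow_right_injective hp.out.two_le h1
    omega
  obtain ⟨q, hqA, hqZ, hqC⟩ := small_centralizer_sq hQp A hAcard hAC hAne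
  rw [hA] at hqA
  obtain ⟨x, hxE, rfl⟩ := hqA
  refine ⟨x, ?_⟩
  have hle : Subgroup.centralizer ({x} : Set G) ≤ E := by
    intro c hc
    have h1 : π c ∈ Subgroup.centralizer ({π x} : Set (G ⧸ Subgroup.center G)) := by
      rw [Subgroup.mem_centralizer_iff]
      intro y hy
      rw [Set.mem_singleton_iff.mp hy, ← map_mul, ← map_mul]
      congr 1
      exact Subgroup.mem_centralizer_iff.mp hc x (Set.mem_singleton x)
    have h2 := hqC h1
    rw [hA] at h2
    obtain ⟨e, he, hec⟩ := h2
    have h3 : e⁻¹ * c ∈ Subgroup.center G := by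
      rw [← hπ1, map_mul, map_inv, hec, inv_mul_cancel]
    have h4 : c = e * (e⁻¹ * c) := by group
    rw [h4]
    exact E.mul_mem he (hZE' h3)
  have hlt : Subgroup.centralizer ({x} : Set G) < E := by
    refine lt_of_le_of_ne hle ?_
    intro h
    apply hqZ
    have h1 : x ∈ Subgroup.center G := by
      rw [hZ, Subgroup.mem_centralizer_iff]
      intro e he
      rw [← h] at he
      exact (Subgroup.mem_centralizer_iff.mp he x (Set.mem_singleton x)).symm
    rw [(hπ1 x).mpr h1]
    exact Subgroup.one_mem _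
  have h5 := mul_card_le_of_lt hG hlt
  rw [hE] at h5
  have h6 : p * Nat.card (Subgroup.centralizer ({x} : Set G)) ≤ p * p ^ 2 := by
    calc _ ≤ p ^ 3 := h5
      _ = p * p ^ 2 := by ring
  exact Nat.le_of_mul_le_mul_left h6 hp.out.pos

end sc

section fusion

open Cfsg Cfsg.FusionSystem Cfsg.Agent.Lib.Helper9 Cfsg.Agent.Lib.Helper7 Cfsg.Agent.Lib.Helper1
  Cfsg.Agent.Lib.Helper2.EssGen Cfsg.Agent.Lib.Helper1.ET

variable {Ω : Type*} [Group Ω] {S : Subgroup Ω}

/-- transfer of the `k`-generator property from `↥S` to subgroups of `Ω` contained in `S`. -/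
theorem k_gen_transfer (k : ℕ)
    (h : ∀ H : Subgroup ↥S, ∃ T : Finset ↥S, T.card ≤ k ∧ Subgroup.closure (T : Set ↥S) = H) :
    ∀ H : Subgroup Ω, H ≤ S → ∃ T : Finset Ω, T.card ≤ k ∧ Subgroup.closure (T : Set Ω) = H := by
  classical
  intro H hHS
  obtain ⟨T, hT, hcl⟩ := h (H.subgroupOf S)
  refine ⟨T.image S.subtype, le_trans Finset.card_image_le hT, ?_⟩
  rw [Finset.coe_image, ← MonoidHom.map_closure, hcl]
  exact Subgroup.map_subgroupOf_eq_of_le hHS

theorem pearl_rank_main [Finite S] (p : ℕ) [hp : Fact p.Prime] (hS : IsPGroup p S)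
    (F : FusionSystem S) (hF : F.IsSaturated p) (E : Subgroup Ω) (hE : F.IsEssential p E)
    (hpearl : (Nat.card E = p ^ 2 ∧ ∀ x ∈ E, x ^ p = 1 ∧ IsMulCommutative ↥E) ∨
      (Nat.card E = p ^ 3 ∧ ¬ IsMulCommutative ↥E)) :
    (∀ n : ℕ, Nat.card S = p ^ n → 3 ≤ n → Subgroup.lowerCentralSeries S (n - 2) ≠ ⊥) ∧
    ∀ H : Subgroup Ω, H ≤ S →
      ∃ T : Finset Ω, T.card ≤ p ∧ Subgroup.closure (T : Set Ω) = H := by
  classical
  have hPc := hE.1
  have hES : E ≤ S := hPc.1
  have hCE : centralizerIn S E ≤ E := hPc.2 E (isConj_refl F hES)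
  have hlt := essential_lt hS F hF hE
  obtain ⟨E₁, hE₁⟩ : ∃ E₁ : Subgroup ↥S, E₁ = E.subgroupOf S := ⟨_, rfl⟩
  have hE₁card : Nat.card E₁ = Nat.card E := by
    rw [hE₁]; exact Nat.card_congr (Subgroup.subgroupOfEquivOfLe hES).toEquiv
  have hE₁mem : ∀ s : ↥S, s ∈ E₁ ↔ (s : Ω) ∈ E := by
    intro s; rw [hE₁]; exact Subgroup.mem_subgroupOf
  have hC₁ : Subgroup.centralizer (E₁ : Set ↥S) ≤ E₁ := by
    intro s hs
    rw [hE₁mem]
    apply hCE
    have h1 : (s : Ω) ∈ Subgroup.centralizer (E : Set Ω) := by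
      rw [Subgroup.mem_centralizer_iff]
      intro e he
      have h2 := Subgroup.mem_centralizer_iff.mp hs ⟨e, hES he⟩ ((hE₁mem _).mpr he)
      exact congrArg Subtype.val h2
    exact Subgroup.mem_inf.mpr ⟨s.2, h1⟩
  have hE₁ne : E₁ ≠ ⊤ := by
    rw [hE₁]
    intro h
    rw [Subgroup.subgroupOf_eq_top] at h
    exact not_le_of_gt hlt h
  have hmax : ∃ n, MaxCl p n ↥S ∧
      ∃ x : ↥S, Nat.card (Subgroup.centralizer ({x} : Set ↥S)) ≤ p ^ 2 := by
    rcases hpearl with ⟨hc, hx⟩ | ⟨hc, hna⟩
    · have hcomm : IsMulCommutative ↥E := (hx 1 E.one_mem).2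
      have hab : ∀ a ∈ E, ∀ b ∈ E, a * b = b * a := fun a ha b hb =>
        congrArg Subtype.val (hcomm.is_comm.comm ⟨a, ha⟩ ⟨b, hb⟩)
      obtain ⟨n, hn⟩ := maxCl_of_sc_sq (p := p) hS E₁ (by rw [hE₁card, hc])
        (fun a ha b hb => Subtype.ext (hab a ((hE₁mem a).mp ha) b ((hE₁mem b).mp hb))) hC₁ hE₁ne
      obtain ⟨x, hxE, -, hCx⟩ := small_centralizer_sq (p := p) hS E₁ (by rw [hE₁card, hc]) hC₁ hE₁ne
      refine ⟨n, hn, x, ?_⟩
      rw [← hc, ← hE₁card]
      exact Subgroup.card_le_of_le hCx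
    · have hna' : ∃ a ∈ E₁, ∃ b ∈ E₁, a * b ≠ b * a := by
        by_contra hcon
        push_neg at hcon
        apply hna
        refine ⟨⟨fun a b => ?_⟩⟩
        have := hcon ⟨a, hES a.2⟩ ((hE₁mem _).mpr a.2) ⟨b, hES b.2⟩ ((hE₁mem _).mpr b.2)
        exact Subtype.ext (congrArg (fun s : ↥S => (s : Ω)) this)
      obtain ⟨n, hn⟩ := maxCl_of_sc_cube (p := p) hS E₁ (by rw [hE₁card, hc]) hna' hC₁
      obtain ⟨x, hx⟩ := small_centralizer_cube (p := p) hS E₁ (by rw [hE₁card, hc]) hna' hC₁ hE₁ne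
      exact ⟨n, hn, x, hx⟩
  obtain ⟨n, hn, x, hx⟩ := hmax
  constructor
  · intro n' hn' _ hbot
    have hnn : n' = n := by
      have h1 : p ^ n' = p ^ n := by rw [← hn', ← hn.card]
      exact Nat.pow_right_injective hp.out.two_le h1
    subst hnn
    apply hn.top
    have h1 := Subgroup.top_subtype_lowerCentralSeries S (n' - 2)
    rw [hbot] at h1
    exact (Subgroup.map_eq_bot_iff_of_injective _ S.subtype_injective).mp h1
  · apply k_gen_transfer p
    intro H
    by_cases hnp : p + 2 ≤ n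
    · have hn4 : 4 ≤ n := by have := hp.out.two_le; omega
      exact hn.gen_of_uniform hn4 hnp (hn.uniform_of_card_centralizer hn4 hx) H
    · push_neg at hnp
      by_cases hH : H = ⊤
      · obtain ⟨T, hT, hcl⟩ := two_gen_of_small_centralizer hS x hx
        exact ⟨T, le_trans hT hp.out.two_le, by rw [hcl, hH]⟩
      · apply gen_subgroup H p
        apply gen_of_frattini (hS.to_subgroup H) p
        have h1 : (frattini ↥H).index ≤ Nat.card H :=
          Nat.le_of_dvd Nat.card_pos (Subgroup.index_dvd_card _)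
        have h2 := mul_card_le_of_lt hS (lt_top_iff_ne_top.mpr hH)
        rw [Subgroup.card_top, hn.card] at h2
        have h3 : p * Nat.card H ≤ p * p ^ p := by
          calc _ ≤ p ^ n := h2
            _ ≤ p ^ (p + 1) := Nat.pow_le_pow_right hp.out.pos (by omega)
            _ = p * p ^ p := by ring
        exact le_trans h1 (Nat.le_of_mul_le_mul_left h3 hp.out.pos)

end fusion

end Cfsg.Agent.Lib.Helper1.Mcl
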