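import Mathlib
import Cfsg.Agent.Lib.Helper1.Mcl15

/-! # Maximal class: periodicity of two-step centralizers and existence of uniform elements -/

set_option autoImplicit false
set_option maxHeartbeats 4000000
set_option linter.unusedVariables false
set_option linter.unusedSectionVars false
set_option linter.style.longLine false
set_option linter.unusedSimpArgs false

open scoped commutatorElement Pointwise
universe u

namespace Cfsg.Agent.Lib.Helper1.Mcl

open Cfsg.Agent.Lib.Helper3.Breadth (twoStep mem_twoStep lcs_normal mul_card_le_of_lt)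

variable {G : Type u} [Group G] [Finite G]
variable {p m : ℕ} [hp : Fact p.Prime]

namespace MaxCl

variable (h : MaxCl p m G)
include h

/-- the norm of a deep element is deep. -/
theorem nseq_mem_L (hm4 : 4 ≤ m) {s : G} (hs : IsUniform m s) {i : ℕ} (hi1 : 1 ≤ i) (t : G)
    {z : G} (hz : z ∈ L G i) : nseq t z p ∈ L G (i + p - 1) := by
  have hp1 : 1 ≤ p := hp.out.one_le
  have h1 := h.nseq_congr' hm4 hs hi1 t hz
  have h2 : z ^ p ∈ L G (i + p - 1) := h.pow_mem_L hm4 hs hi1 hz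
  have h3 : ic t z (p - 1) ∈ L G (i + (p - 1)) := ic_mem_L t hz (p - 1)
  rw [show i + (p - 1) = i + p - 1 by omega] at h3
  have h4 : L G (i + p) ≤ L G (i + p - 1) := L_anti (by omega)
  have h5 : nseq t z p = (z ^ p * ic t z (p - 1)) * ((nseq t z p)⁻¹ * (z ^ p * ic t z (p - 1)))⁻¹ := by
    group
  rw [h5]
  exact mul_mem (mul_mem h2 h3) (inv_mem (h4 h1))

/-- periodicity of two-step centralizers, one inclusion. -/
theorem twoStep_le_add (hm4 : 4 ≤ m) {s : G} (hs : IsUniform m s) {i : ℕ} (hi1 : 1 ≤ i)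
    (hi : i + p - 1 ≤ m - 3) : twoStep G i ≤ twoStep G (i + p - 1) := by
  have hp2 : 2 ≤ p := hp.out.two_le
  intro g hg
  obtain ⟨y, hy, hy'⟩ := SetLike.exists_of_lt (h.lt_succ (show i ≤ m - 2 by omega))
  have hw : y ^ p ∈ L G (i + p - 1) := h.pow_mem_L hm4 hs hi1 hy
  have hw' : y ^ p ∉ L G (i + p - 1 + 1) := by
    rw [show i + p - 1 + 1 = i + p by omega]
    exact h.pow_not_mem_L hm4 hs hi1 (by omega) hy hy'
  have hg' : g⁻¹ ∈ twoStep G i := (twoStep G i).inv_mem hg
  rw [← (twoStep G (i + p - 1)).inv_mem_iff,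
    h.mem_twoStep_iff (show 1 ≤ i + p - 1 by omega) (by omega) hw hw']
  -- z' = y⁻¹ g⁻¹ y g
  have hz : ⁅y⁻¹, g⁻¹⁆ ∈ L G (i + 2) := (mem_twoStep.mp hg') y⁻¹ (inv_mem hy)
  have hconj : g⁻¹ * y * g = y * ⁅y⁻¹, g⁻¹⁆ := by
    rw [commutatorElement_def]; group
  have hpow : g⁻¹ * y ^ p * g = y ^ p * nseq y⁻¹ ⁅y⁻¹, g⁻¹⁆ p := by
    have h1 : g⁻¹ * y ^ p * g = (g⁻¹ * y * g) ^ p := by
      have := conj_pow (a := g⁻¹) (b := y) (i := p)
      simpa using this.symm
    rw [h1, hconj, mul_pow_eq]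
  have hn : nseq y⁻¹ ⁅y⁻¹, g⁻¹⁆ p ∈ L G (i + 2 + p - 1) :=
    h.nseq_mem_L hm4 hs (by omega) y⁻¹ hz
  have hcomm : ⁅y ^ p, g⁻¹⁆ = y ^ p * (nseq y⁻¹ ⁅y⁻¹, g⁻¹⁆ p)⁻¹ * (y ^ p)⁻¹ := by
    have h2 : ⁅y ^ p, g⁻¹⁆ = y ^ p * (g⁻¹ * y ^ p * g)⁻¹ := by
      rw [commutatorElement_def]; group
    rw [h2, hpow]; group
  rw [hcomm, show i + p - 1 + 2 = i + 2 + p - 1 by omega]
  exact (lcs_normal _).conj_mem _ (inv_mem hn) _

theorem twoStep_add_eq (hm4 : 4 ≤ m) {s : G} (hs : IsUniform m s) {i : ℕ} (hi1 : 1 ≤ i)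
    (hi : i + p - 1 ≤ m - 3) : twoStep G (i + p - 1) = twoStep G i := by
  have hp2 : 2 ≤ p := hp.out.two_le
  symm
  apply Subgroup.eq_of_le_of_card_ge (h.twoStep_le_add hm4 hs hi1 hi)
  rw [h.card_twoStep (show 1 ≤ i + p - 1 by omega) hi, h.card_twoStep hi1 (by omega)]

/-- every two-step centralizer equals one of the first `p - 1`. -/
theorem twoStep_eq_small (hm4 : 4 ≤ m) {s : G} (hs : IsUniform m s) :
    ∀ j, 1 ≤ j → j ≤ m - 3 → ∃ r, 1 ≤ r ∧ r ≤ p - 1 ∧ r ≤ j ∧ twoStep G j = twoStep G r := by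
  have hp2 : 2 ≤ p := hp.out.two_le
  intro j
  induction j using Nat.strong_induction_on with
  | _ j ih =>
    intro hj1 hj
    by_cases hjp : j ≤ p - 1
    · exact ⟨j, hj1, hjp, le_rfl, rfl⟩
    · push_neg at hjp
      obtain ⟨r, hr1, hrp, hrj, hr⟩ := ih (j - (p - 1)) (by omega) (by omega) (by omega)
      refine ⟨r, hr1, hrp, by omega, ?_⟩
      rw [← hr]
      have := h.twoStep_add_eq hm4 hs (show 1 ≤ j - (p - 1) by omega)
        (show j - (p - 1) + p - 1 ≤ m - 3 by omega)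
      rw [show j - (p - 1) + p - 1 = j by omega] at this
      exact this

end MaxCl

/-- a finite group is not covered by at most `p` subgroups of index `p` containing a common
subgroup of index `p ^ 2`. -/
theorem exists_not_mem_of_card_le (N : Subgroup G) (hN : N.index = p ^ 2)
    (𝒯 : Finset (Subgroup G)) (hc : 𝒯.card ≤ p) (hT : ∀ T ∈ 𝒯, N ≤ T ∧ T.index = p) :
    ∃ s : G, ∀ T ∈ 𝒯, s ∉ T := by
  classical
  haveI : Fintype G := Fintype.ofFinite G
  by_contra hcon
  push_neg at hcon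
  obtain ⟨a, ha⟩ : ∃ a, a = Nat.card N := ⟨_, rfl⟩
  have ha0 : 0 < a := by rw [ha]; exact Nat.card_pos
  have hp2 : 2 ≤ p := hp.out.two_le
  have hG : Nat.card G = a * p ^ 2 := by rw [← hN, ha]; exact (Subgroup.card_mul_index N).symm
  have hTc : ∀ T ∈ 𝒯, Nat.card T = a * p := by
    intro T hT'
    obtain ⟨hNT, hTi⟩ := hT T hT'
    have h1 := Subgroup.card_mul_index T
    rw [hTi, hG] at h1
    have h2 : Nat.card T * p = (a * p) * p := by rw [h1]; ring
    exact Nat.eq_of_mul_eq_mul_right hp.out.pos h2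
  obtain ⟨f, hfdef⟩ : ∃ f : Subgroup G → Finset G,
      f = fun T => Finset.univ.filter (fun g => g ∈ T ∧ g ∉ N) := ⟨_, rfl⟩
  have hNc : (Finset.univ.filter (fun g => g ∈ N)).card = a := by
    rw [ha, Nat.card_eq_fintype_card, Fintype.card_subtype]
  have hf : ∀ T ∈ 𝒯, (f T).card + a = a * p := by
    intro T hT'
    have h1 : (Finset.univ.filter (fun g => g ∈ T)).card = Nat.card T := by
      rw [Nat.card_eq_fintype_card, Fintype.card_subtype]
    have h3 : (Finset.univ.filter (fun g => g ∈ T)).card =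
        (f T).card + (Finset.univ.filter (fun g => g ∈ N)).card := by
      rw [← Finset.card_union_of_disjoint]
      · congr 1
        ext g
        simp only [hfdef, Finset.mem_filter, Finset.mem_univ, true_and, Finset.mem_union]
        constructor
        · intro hg
          by_cases hgN : g ∈ N
          · exact Or.inr hgN
          · exact Or.inl ⟨hg, hgN⟩
        · rintro (⟨hg, _⟩ | hg)
          · exact hg
          · exact (hT T hT').1 hg
      · rw [hfdef, Finset.disjoint_filter]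
        intro g _ hg hgN
        exact hg.2 hgN
    rw [h1, hNc, hTc T hT'] at h3
    exact h3.symm
  have hcov : (Finset.univ : Finset G) ⊆ (Finset.univ.filter (fun g => g ∈ N)) ∪ 𝒯.biUnion f := by
    intro g _
    by_cases hgN : g ∈ N
    · exact Finset.mem_union_left _ (by simp [hgN])
    · obtain ⟨T, hT', hgT⟩ := hcon g
      refine Finset.mem_union_right _ (Finset.mem_biUnion.mpr ⟨T, hT', ?_⟩)
      rw [hfdef]
      simp [hgT, hgN]
  have h4 := Finset.card_le_card hcov
  obtain ⟨d, hd⟩ : ∃ d, d + a = a * p := ⟨a * p - a, by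
    have : a ≤ a * p := Nat.le_mul_of_pos_right a hp.out.pos
    omega⟩
  have hf' : ∀ T ∈ 𝒯, (f T).card = d := by
    intro T hT'
    have := hf T hT'
    omega
  have h5 : (𝒯.biUnion f).card ≤ 𝒯.card * d := by
    calc _ ≤ ∑ T ∈ 𝒯, (f T).card := Finset.card_biUnion_le
      _ = ∑ T ∈ 𝒯, d := Finset.sum_congr rfl hf'
      _ = _ := by rw [Finset.sum_const, smul_eq_mul]
  have h6 : (Finset.univ : Finset G).card = a * p ^ 2 := by
    rw [Finset.card_univ, ← Nat.card_eq_fintype_card]; exact hG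
  have h7 := (Finset.card_union_le (Finset.univ.filter (fun g => g ∈ N)) (𝒯.biUnion f))
  rw [hNc] at h7
  have h8 : a * p ^ 2 ≤ a + p * d := by
    calc a * p ^ 2 = (Finset.univ : Finset G).card := h6.symm
      _ ≤ _ := h4
      _ ≤ a + (𝒯.biUnion f).card := h7
      _ ≤ a + 𝒯.card * d := Nat.add_le_add_left h5 _
      _ ≤ a + p * d := Nat.add_le_add_left (Nat.mul_le_mul_right _ hc) _
  have h9 : p * d + p * a = a * p ^ 2 := by
    calc p * d + p * a = p * (d + a) := by ring
      _ = p * (a * p) := by rw [hd]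
      _ = a * p ^ 2 := by ring
  nlinarith

/-- **Uniform elements exist** in every `p`-group of maximal class of order at least `p ^ 4`. -/
theorem exists_uniform : ∀ (m : ℕ), 4 ≤ m → ∀ (G : Type u) [Group G] [Finite G],
    MaxCl p m G → ∃ s : G, IsUniform m s := by
  intro m hm4
  induction m, hm4 using Nat.le_induction with
  | base =>
    intro G _ _ h
    have hne : twoStep G 1 ≠ ⊤ := h.twoStep_ne_top' (by omega)
    obtain ⟨s, -, hs⟩ := SetLike.exists_of_lt (lt_top_iff_ne_top.mpr hne)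
    refine ⟨s, fun i hi1 hi => ?_⟩
    have : i = 1 := by omega
    subst this
    exact hs
  | succ m hm4 ih =>
    intro G _ _ h
    classical
    have hp2 : 2 ≤ p := hp.out.two_le
    have hm5 : 4 ≤ m + 1 := by omega
    have hq := h.quot hm5
    rw [show m + 1 - 1 = m by omega] at hq
    obtain ⟨sb, hsb⟩ := ih (G ⧸ L G (m + 1 - 2)) hq
    -- pull back periodicity
    have hper : ∀ j, 1 ≤ j → j ≤ m - 3 → ∃ r, 1 ≤ r ∧ r ≤ p - 1 ∧ r ≤ j ∧
        twoStep G j = twoStep G r := by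
      intro j hj1 hj
      obtain ⟨r, hr1, hrp, hrj, hr⟩ := hq.twoStep_eq_small hm4 hsb j hj1 hj
      refine ⟨r, hr1, hrp, hrj, ?_⟩
      ext g
      rw [← h.mem_twoStep_quot_iff hm5 (show j ≤ m + 1 - 4 by omega) g,
        ← h.mem_twoStep_quot_iff hm5 (show r ≤ m + 1 - 4 by omega) g, hr]
    obtain ⟨𝒯, h𝒯⟩ : ∃ 𝒯 : Finset (Subgroup G),
        𝒯 = (Finset.Icc 1 (min (p - 1) (m - 2))).image (twoStep G) ∪ {twoStep G (m - 2)} :=
      ⟨_, rfl⟩
    have hcard : 𝒯.card ≤ p := by
      rw [h𝒯]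
      calc _ ≤ ((Finset.Icc 1 (min (p - 1) (m - 2))).image (twoStep G)).card +
            ({twoStep G (m - 2)} : Finset (Subgroup G)).card := Finset.card_union_le _ _
        _ ≤ (Finset.Icc 1 (min (p - 1) (m - 2))).card + 1 := by
            apply Nat.add_le_add Finset.card_image_le
            rw [Finset.card_singleton]
        _ ≤ p := by
            rw [Nat.card_Icc]
            have : min (p - 1) (m - 2) ≤ p - 1 := min_le_left _ _
            omega
    have hmem : ∀ T ∈ 𝒯, L G 1 ≤ T ∧ T.index = p := by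
      intro T hT
      rw [h𝒯, Finset.mem_union, Finset.mem_image, Finset.mem_singleton] at hT
      rcases hT with ⟨r, hr, rfl⟩ | rfl
      · rw [Finset.mem_Icc] at hr
        have : r ≤ m - 2 := le_trans hr.2 (min_le_right _ _)
        exact ⟨L_one_le_twoStep r, h.index_twoStep hr.1 (by omega)⟩
      · exact ⟨L_one_le_twoStep _, h.index_twoStep (by omega) (by omega)⟩
    obtain ⟨s, hs⟩ := exists_not_mem_of_card_le (L G 1) h.index_L_one 𝒯 hcard hmem
    refine ⟨s, fun j hj1 hj hmemj => ?_⟩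
    by_cases hjm : j = m - 2
    · subst hjm
      apply hs (twoStep G (m - 2)) _ hmemj
      rw [h𝒯]
      exact Finset.mem_union_right _ (Finset.mem_singleton_self _)
    · obtain ⟨r, hr1, hrp, hrj, hr⟩ := hper j hj1 (by omega)
      apply hs (twoStep G r) _ (hr ▸ hmemj)
      rw [h𝒯]
      refine Finset.mem_union_left _ (Finset.mem_image.mpr ⟨r, ?_, rfl⟩)
      rw [Finset.mem_Icc]
      refine ⟨hr1, le_min hrp ?_⟩
      omega

end Cfsg.Agent.Lib.Helper1.Mcl
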