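import Mathlib
import Cfsg.Agent.Lib.Helper1.Mcl17
import Cfsg.Prelude.Def_CaseTheorems

/-! # Maximal class: unconditional power structure, abelian sections, order bound by sectional rank -/

set_option autoImplicit false
set_option maxHeartbeats 4000000
set_option linter.unusedVariables false
set_option linter.unusedSectionVars false
set_option linter.style.longLine false
set_option linter.unusedSimpArgs false
set_option linter.style.haveILetI false

open scoped commutatorElement Pointwise
universe u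

namespace Cfsg.Agent.Lib.Helper1.Mcl

open Cfsg.Agent.Lib.Helper3.Breadth (twoStep mem_twoStep lcs_normal mul_card_le_of_lt)

variable {G : Type u} [Group G] [Finite G]
variable {p m : ℕ} [hp : Fact p.Prime]

namespace MaxCl

variable (h : MaxCl p m G)
include h

/-- unconditional power structure: `y ∈ L i` implies `y ^ p ∈ L (i + p - 1)`. -/
theorem pow_mem_L' (hm4 : 4 ≤ m) {i : ℕ} (hi1 : 1 ≤ i) {y : G} (hy : y ∈ L G i) :
    y ^ p ∈ L G (i + p - 1) := by
  obtain ⟨s, hs⟩ := exists_uniform m hm4 G h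
  exact h.pow_mem_L hm4 hs hi1 hy

theorem pow_not_mem_L' (hm4 : 4 ≤ m) {i : ℕ} (hi1 : 1 ≤ i) (hi : i + p ≤ m - 1) {y : G}
    (hy : y ∈ L G i) (hy' : y ∉ L G (i + 1)) : y ^ p ∉ L G (i + p) := by
  obtain ⟨s, hs⟩ := exists_uniform m hm4 G h
  exact h.pow_not_mem_L hm4 hs hi1 hi hy hy'

/-- every subgroup of a group of maximal class of order at least `p ^ (p + 2)` is generated by
`p` elements. -/
theorem gen_le_p (hm4 : 4 ≤ m) (hmp : p + 2 ≤ m) (H : Subgroup G) :
    ∃ T : Finset G, T.card ≤ p ∧ Subgroup.closure (T : Set G) = H := by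
  obtain ⟨s, hs⟩ := exists_uniform m hm4 G h
  exact h.gen_of_uniform hm4 hmp hs H

/-- `[L i, L i] ≤ L (2 i + 2)`. -/
theorem comm_L_self {i : ℕ} (hi1 : 1 ≤ i) {a b : G} (ha : a ∈ L G i) (hb : b ∈ L G i) :
    ⁅a, b⁆ ∈ L G (2 * i + 2) := by
  by_cases hi : i ≤ m - 2
  · obtain ⟨y, hy, hy'⟩ := SetLike.exists_of_lt (h.lt_succ hi)
    have hgen := h.gen hi1 hi hy hy'
    haveI : (L G (i + 1)).Normal := lcs_normal _
    haveI : (L G (2 * i + 2)).Normal := lcs_normal _
    rw [← hgen] at ha hb
    obtain ⟨a1, ha1, u, hu, rfl⟩ := Subgroup.mem_sup_of_normal_right.mp ha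
    obtain ⟨b1, hb1, v, hv, rfl⟩ := Subgroup.mem_sup_of_normal_right.mp hb
    obtain ⟨ka, rfl⟩ := Subgroup.mem_zpowers_iff.mp ha1
    obtain ⟨kb, rfl⟩ := Subgroup.mem_zpowers_iff.mp hb1
    obtain ⟨π, hπ⟩ : ∃ π : G →* G ⧸ L G (2 * i + 2), π = QuotientGroup.mk' (L G (2 * i + 2)) :=
      ⟨_, rfl⟩
    have hπ1 : ∀ g : G, π g = 1 ↔ g ∈ L G (2 * i + 2) := by
      intro g; rw [hπ]; exact QuotientGroup.eq_one_iff g
    have hcomm : ∀ c ∈ L G (i + 1), ∀ d ∈ L G i, Commute (π c) (π d) := by
      intro c hc d hd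
      have h1 : ⁅c, d⁆ ∈ L G (2 * i + 2) := by
        have := comm_mem_LL hc hd
        rwa [show i + 1 + i + 1 = 2 * i + 2 by omega] at this
      have h2 : π ⁅c, d⁆ = 1 := (hπ1 _).mpr h1
      rw [map_commutatorElement] at h2
      exact commutatorElement_eq_one_iff_commute.mp h2
    have hyk : ∀ k : ℤ, y ^ k ∈ L G i := fun k => (L G i).zpow_mem hy k
    have hvi : v ∈ L G i := L_anti (Nat.le_succ i) hv
    have hui : u ∈ L G i := L_anti (Nat.le_succ i) hu
    have c1 : Commute (π (y ^ ka)) (π (y ^ kb)) := by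
      rw [map_zpow, map_zpow]
      exact ((Commute.refl (π y)).zpow_zpow ka kb)
    have c2 : Commute (π (y ^ ka)) (π v) := (hcomm v hv _ (hyk ka)).symm
    have c3 : Commute (π u) (π (y ^ kb)) := hcomm u hu _ (hyk kb)
    have c4 : Commute (π u) (π v) := hcomm u hu v hvi
    have c5 : Commute (π (y ^ ka * u)) (π (y ^ kb * v)) := by
      rw [map_mul, map_mul]
      exact Commute.mul_left (Commute.mul_right c1 c2) (Commute.mul_right c3 c4)
    rw [← hπ1, map_commutatorElement]
    exact commutatorElement_eq_one_iff_commute.mpr c5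
  · push_neg at hi
    have h1 : L G i = ⊥ := h.bot' (by omega)
    rw [h1, Subgroup.mem_bot] at ha
    rw [ha, commutatorElement_one_left]
    exact one_mem _

end MaxCl

/-- in a nonabelian group of order `p ^ 3`, `p`-th powers lie in the derived subgroup. -/
theorem pow_mem_L_one_of_three (h : MaxCl p 3 G) (x : G) : x ^ p ∈ L G 1 := by
  by_contra hx
  haveI : (L G 1).Normal := lcs_normal _
  have hcardQ : Nat.card (G ⧸ L G 1) = p ^ 2 := by
    rw [← Subgroup.index_eq_card]; exact h.index_L_one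
  have hne : ((x : G ⧸ L G 1)) ^ p ≠ 1 := by
    rw [← QuotientGroup.mk_pow]
    intro h1
    exact hx ((QuotientGroup.eq_one_iff _).mp h1)
  have hord : orderOf (x : G ⧸ L G 1) = p ^ 2 := by
    have hdvd : orderOf (x : G ⧸ L G 1) ∣ p ^ 2 := by
      rw [← hcardQ]; exact orderOf_dvd_natCard _
    obtain ⟨j, hj, hjeq⟩ := (Nat.dvd_prime_pow hp.out).mp hdvd
    interval_cases j
    · exfalso; apply hne
      rw [pow_zero, orderOf_eq_one_iff] at hjeq
      rw [hjeq, one_pow]
    · exfalso; apply hne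
      rw [pow_one] at hjeq
      rw [← hjeq]; exact pow_orderOf_eq_one _
    · exact hjeq
  haveI : IsCyclic (G ⧸ L G 1) := isCyclic_of_orderOf_eq_card _ (by rw [hord, hcardQ])
  have hker : (QuotientGroup.mk' (L G 1)).ker ≤ Subgroup.center G := by
    rw [QuotientGroup.ker_mk']
    intro z hz
    rw [Subgroup.mem_center_iff]
    intro g
    exact (h.central (show z ∈ L G (3 - 2) from hz) g).symm
  have hcomm := commutative_of_cyclic_center_quotient (QuotientGroup.mk' (L G 1)) hker
  apply h.top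
  show L G 1 = ⊥
  rw [eq_bot_iff]
  show (⊤ : Subgroup G).lowerCentralSeries (0 + 1) ≤ ⊥
  rw [Subgroup.lowerCentralSeries_succ, Subgroup.commutator_le]
  intro a _ b _
  rw [Subgroup.mem_bot]
  exact commutatorElement_eq_one_iff_mul_comm.mpr (hcomm a b)

/-- a group of maximal class of order `p ^ n`, `n ≥ 2 k + 1`, `p ≥ k + 2`, has an elementary
abelian subgroup of order `p ^ (k + 1)` (for `n ≥ 4`, `n ≥ k + 3`). -/
theorem exists_elem_abelian (h : MaxCl p m G) (hm4 : 4 ≤ m) (k : ℕ) (hk : 1 ≤ k)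
    (hmk : 2 * k + 1 ≤ m) (hmk' : k + 3 ≤ m) (hpk : k + 2 ≤ p) :
    ∃ A : Subgroup G, Nat.card A = p ^ (k + 1) ∧ (∀ a ∈ A, ∀ b ∈ A, a * b = b * a) ∧
      ∀ a ∈ A, a ^ p = 1 := by
  refine ⟨L G (m - k - 2), ?_, ?_, ?_⟩
  · rw [h.card_L (by omega) (by omega)]
    congr 1
    omega
  · intro a ha b hb
    have h1 := h.comm_L_self (show 1 ≤ m - k - 2 by omega) ha hb
    rw [h.bot' (by omega), Subgroup.mem_bot] at h1
    exact commutatorElement_eq_one_iff_mul_comm.mp h1
  · intro a ha
    have h1 := h.pow_mem_L' hm4 (show 1 ≤ m - k - 2 by omega) ha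
    rw [h.bot' (by omega), Subgroup.mem_bot] at h1
    exact h1

/-- **Order bound by sectional rank**: a `p`-group of maximal class with sectional `p`-rank at
most `k`, `p ≥ k + 2`, has order at most `p ^ (2 k)`. -/
theorem card_le_of_sectionalPRank {S : Type u} [Group S] [Finite S] (p : ℕ) [hp : Fact p.Prime]
    [Group.IsNilpotent S] (n : ℕ) (hn : 2 ≤ n) (hcard : Nat.card S = p ^ n)
    (hmax : Group.nilpotencyClass S = n - 1) (k : ℕ) (hk : 1 ≤ k)
    (hsr : Cfsg.SectionalPRankLE p k S) (hpk : k + 2 ≤ p) : Nat.card S ≤ p ^ (2 * k) := by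
  rw [hcard]
  apply Nat.pow_le_pow_right hp.out.pos
  by_contra hcon
  push_neg at hcon
  have hn3 : 3 ≤ n := by omega
  have h : MaxCl p n S := maxCl_of_class n hn3 hcard hmax
  -- a subgroup `A` that is elementary abelian of order `p ^ (k+1)` contradicts the rank bound
  have key : ∀ A : Subgroup S, Nat.card A = p ^ (k + 1) → (∀ a ∈ A, ∀ b ∈ A, a * b = b * a) →
      (∀ a ∈ A, a ^ p = 1) → False := by
    intro A hAc hAab hAexp
    have h1 := hsr A ⊥ (⊤ : Subgroup (↥A ⧸ (⊥ : Subgroup ↥A))) ?_ ?_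
    · rw [Subgroup.card_top, Nat.card_congr (QuotientGroup.quotientBot (G := ↥A)).toEquiv, hAc] at h1
      have := Nat.pow_lt_pow_right hp.out.one_lt (show k < k + 1 by omega)
      omega
    · refine ⟨⟨fun a b => ?_⟩⟩
      obtain ⟨a, _⟩ := a
      obtain ⟨b, _⟩ := b
      apply Subtype.ext
      show a * b = b * a
      induction a using QuotientGroup.induction_on with
      | H a =>
        induction b using QuotientGroup.induction_on with
        | H b =>
          rw [← QuotientGroup.mk_mul, ← QuotientGroup.mk_mul]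
          congr 1
          exact Subtype.ext (hAab a a.2 b b.2)
    · intro a _
      induction a using QuotientGroup.induction_on with
      | H a =>
        rw [← QuotientGroup.mk_pow]
        have : a ^ p = 1 := Subtype.ext (by simpa using hAexp a a.2)
        rw [this]
        rfl
  by_cases hk1 : k = 1 ∧ n = 3
  · -- order `p ^ 3`: the central quotient is elementary abelian of order `p ^ 2`
    obtain ⟨rfl, rfl⟩ := hk1
    haveI : (L S 1).Normal := lcs_normal _
    have h1 := hsr ⊤ ((L S 1).subgroupOf ⊤)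
      (⊤ : Subgroup (↥(⊤ : Subgroup S) ⧸ (L S 1).subgroupOf ⊤)) ?_ ?_
    · rw [Subgroup.card_top, ← Subgroup.index_eq_card] at h1
      have h2 : ((L S 1).subgroupOf ⊤).index = p ^ 2 := by
        show (L S 1).relIndex ⊤ = p ^ 2
        rw [Subgroup.relIndex_top_right]; exact h.index_L_one
      rw [h2] at h1
      have := Nat.pow_lt_pow_right hp.out.one_lt (show 1 < 2 by omega)
      omega
    · refine ⟨⟨fun a b => ?_⟩⟩
      obtain ⟨a, _⟩ := a
      obtain ⟨b, _⟩ := b
      apply Subtype.ext
      show a * b = b * a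
      induction a using QuotientGroup.induction_on with
      | H a =>
        induction b using QuotientGroup.induction_on with
        | H b =>
          rw [← QuotientGroup.mk_mul, ← QuotientGroup.mk_mul, QuotientGroup.eq]
          rw [Subgroup.mem_subgroupOf]
          have h3 : ⁅(a : S)⁻¹, (b : S)⁻¹⁆ ∈ L S (0 + 1) :=
            comm_mem_L (show (a : S)⁻¹ ∈ L S 0 from Subgroup.mem_top _) _
          have h4 : (((a * b)⁻¹ * (b * a) : ↥(⊤ : Subgroup S)) : S) = ⁅(b : S)⁻¹, (a : S)⁻¹⁆ := by
            rw [commutatorElement_def]; push_cast; group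
          rw [h4]
          exact comm_mem_L (show (b : S)⁻¹ ∈ L S 0 from Subgroup.mem_top _) _
    · intro a _
      induction a using QuotientGroup.induction_on with
      | H a =>
        rw [← QuotientGroup.mk_pow, QuotientGroup.eq_one_iff, Subgroup.mem_subgroupOf]
        have := pow_mem_L_one_of_three h (a : S)
        simpa using this
  · have hm4 : 4 ≤ n := by omega
    obtain ⟨A, hAc, hAab, hAexp⟩ := exists_elem_abelian h hm4 k hk (by omega) (by omega) hpk
    exact key A hAc hAab hAexp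

end Cfsg.Agent.Lib.Helper1.Mcl
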