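import Mathlib
import Cfsg.Agent.Lib.Helper3.MinDegDefs

set_option autoImplicit false

/-! S2140 unit E0a: transfer of `main_block` from `Unit ⊕ Fin k` to `Fin n`. -/

open Matrix

namespace Cfsg.Agent.Lib.Helper1.MinDeg

open Cfsg.Agent.Lib.Helper3.MinDeg

variable {F : Type*} [Field F]

/-- reindexing of `SL` along an equivalence of the index types -/
def slReindex {m n : Type*} [DecidableEq m] [Fintype m] [DecidableEq n] [Fintype n] (e : m ≃ n) :
    Matrix.SpecialLinearGroup m F ≃* Matrix.SpecialLinearGroup n F where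
  toFun A := ⟨Matrix.reindex e e (A : Matrix m m F), by rw [Matrix.det_reindex_self]; exact A.2⟩
  invFun A := ⟨Matrix.reindex e.symm e.symm (A : Matrix n n F), by
    rw [Matrix.det_reindex_self]; exact A.2⟩
  left_inv A := by
    apply Subtype.ext
    simp
  right_inv A := by
    apply Subtype.ext
    simp
  map_mul' A B := by
    apply Subtype.ext
    show Matrix.reindex e e ((A * B : Matrix.SpecialLinearGroup m F) : Matrix m m F)
      = Matrix.reindex e e (A : Matrix m m F) * Matrix.reindex e e (B : Matrix m m F)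
    rw [Matrix.SpecialLinearGroup.coe_mul, Matrix.reindex_apply, Matrix.reindex_apply,
      Matrix.reindex_apply, Matrix.submatrix_mul_equiv]

/-- unit E0a, with `main_block` as a hypothesis -/
theorem min_index_SL_of [Fintype F]
    (hmain : ∀ {k : ℕ}, 2 ≤ k → ¬ (k = 3 ∧ Fintype.card F = 2) →
      ∀ H : Subgroup (Matrix.SpecialLinearGroup (Idx k) F), H ≠ ⊤ →
        (Fintype.card F ^ (k + 1) - 1) / (Fintype.card F - 1) ≤ H.index)
    (n : ℕ) (hn : 3 ≤ n) (hexc : ¬ (n = 4 ∧ Fintype.card F = 2))
    (H : Subgroup (Matrix.SpecialLinearGroup (Fin n) F)) (hH : H ≠ ⊤) :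
    (Fintype.card F ^ n - 1) / (Fintype.card F - 1) ≤ H.index := by
  obtain ⟨k, rfl⟩ : ∃ k, n = k + 1 := ⟨n - 1, by omega⟩
  have e : Fin (k + 1) ≃ Idx k := Fintype.equivOfCardEq (by simp [Idx]; omega)
  set φ := slReindex (F := F) e with hφ
  set H' := H.map (φ.toMonoidHom) with hH'
  have hidx : H'.index = H.index := Subgroup.index_map_equiv H φ
  have hne : H' ≠ ⊤ := by
    intro h
    apply hH
    rw [eq_top_iff]
    intro x _
    have : φ x ∈ H' := by rw [h]; exact Subgroup.mem_top _
    obtain ⟨y, hy, hxy⟩ := this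
    have : y = x := φ.injective hxy
    rw [← this]; exact hy
  have := hmain (k := k) (by omega) (fun h => hexc ⟨by omega, h.2⟩) H' hne
  rw [hidx] at this
  exact this

end Cfsg.Agent.Lib.Helper1.MinDeg
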