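import Mathlib
set_option autoImplicit false

/-! S2140 unit U2: an arithmetic lemma. -/

namespace Cfsg.Agent.Lib.Helper1.MinDeg

theorem no_pow_eq (p : ℕ) (hp : p.Prime) (e b c k : ℕ) (hb : 0 < b) (hbe : b < e) (hk : 2 ≤ k)
    (h : p ^ c - 1 = (p ^ b - 1) * ∑ i ∈ Finset.range k, (p ^ e) ^ i) : False := by
  obtain ⟨k', rfl⟩ : ∃ k', k = k' + 1 := ⟨k - 1, by omega⟩
  have hk' : 1 ≤ k' := by omega
  set q := p ^ e with hq
  set S' := ∑ i ∈ Finset.range k', q ^ i with hS'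
  have hS : ∑ i ∈ Finset.range (k' + 1), q ^ i = q * S' + 1 := by
    rw [Finset.sum_range_succ', pow_zero, hS', Finset.mul_sum]
    congr 1
    apply Finset.sum_congr rfl
    intro i _
    rw [pow_succ, mul_comm]
  rw [hS] at h
  have hp2 : 2 ≤ p := hp.two_le
  have hpc : 1 ≤ p ^ c := Nat.one_le_pow _ _ (by omega)
  have hpb : 1 ≤ p ^ b := Nat.one_le_pow _ _ (by omega)
  have hS'pos : 1 ≤ S' := by
    obtain ⟨k'', rfl⟩ : ∃ k'', k' = k'' + 1 := ⟨k' - 1, by omega⟩
    rw [hS', Finset.sum_range_succ', pow_zero]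
    omega
  -- `q = p^b * p^(e-b)`
  have hqe : q = p ^ b * p ^ (e - b) := by
    rw [hq, ← pow_add]; congr 1; omega
  have hlt : p ^ (e - b) < q := by
    rw [hqe]
    have : 2 ≤ p ^ b := by
      calc 2 ≤ p := hp2
        _ = p ^ 1 := (pow_one p).symm
        _ ≤ p ^ b := Nat.pow_le_pow_right (by omega) hb
    have h1 : 1 ≤ p ^ (e - b) := Nat.one_le_pow _ _ (by omega)
    nlinarith
  -- the key identity `p^c = p^b * m`
  set m := 1 + (q - p ^ (e - b)) * S' with hm
  have key : p ^ c = p ^ b * m := by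
    have h1 : p ^ c = (p ^ b - 1) * (q * S' + 1) + 1 := by omega
    zify [hpb, hlt.le] at h1 ⊢
    rw [hm]
    push_cast [hlt.le]
    rw [h1]
    have : (q : ℤ) = (p : ℤ) ^ b * (p : ℤ) ^ (e - b) := by exact_mod_cast hqe
    rw [this]
    ring
  -- `m` is a power of `p` congruent to `1` mod `p`
  have hmdvd : m ∣ p ^ c := ⟨p ^ b, by rw [key, mul_comm]⟩
  obtain ⟨j, -, hj⟩ := (Nat.dvd_prime_pow hp).1 hmdvd
  have hpd : p ∣ q - p ^ (e - b) := by
    have h1 : p ∣ q := by rw [hq]; exact dvd_pow_self p (by omega)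
    have h2 : p ∣ p ^ (e - b) := dvd_pow_self p (by omega)
    exact Nat.dvd_sub h1 h2
  have hj0 : j = 0 := by
    by_contra hj0
    have h1 : p ∣ m := by rw [hj]; exact dvd_pow_self p hj0
    have h2 : p ∣ (q - p ^ (e - b)) * S' := Dvd.dvd.mul_right hpd _
    have h3 : p ∣ 1 := by
      have := (Nat.dvd_add_right h2).1 (by rw [add_comm]; exact h1)
      exact this
    have := Nat.le_of_dvd (by omega) h3
    omega
  rw [hj0, pow_zero] at hj
  have : (q - p ^ (e - b)) * S' = 0 := by omega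
  rcases Nat.mul_eq_zero.1 this with h1 | h1
  · omega
  · omega

end Cfsg.Agent.Lib.Helper1.MinDeg
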