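import Mathlib
import Cfsg.Agent.Lib.Helper3.MinDegDefs
import Cfsg.Agent.Lib.Helper7.MinDegU1
import Cfsg.Agent.Lib.Helper1.MinDegU2

set_option autoImplicit false
set_option maxHeartbeats 1000000

/-! S2140 unit U6: a block stabiliser of small index forces `K_g = ⊥` or `⊤`. -/

open Matrix
open scoped LinearAlgebra.Projectivization

namespace Cfsg.Agent.Lib.Helper1.MinDeg

open Cfsg.Agent.Lib.Helper3.MinDeg

variable {F : Type*} [Field F] {k : ℕ}

/-- `levS A * qel r * (levS A)⁻¹ = qel (r A⁻¹)` -/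
theorem levS_conj_qel' (A : Matrix.SpecialLinearGroup (Fin k) F) (r : Fin k → F) :
    levS A * qel r * (levS A)⁻¹
      = qel (r ᵥ* ((A⁻¹ : Matrix.SpecialLinearGroup (Fin k) F) : Matrix (Fin k) (Fin k) F)) := by
  rw [mul_inv_eq_iff_eq_mul]
  apply sl_ext
  rw [Matrix.SpecialLinearGroup.coe_mul, Matrix.SpecialLinearGroup.coe_mul, qel_coe, qel_coe,
    levS_coe, fromBlocks_multiply, fromBlocks_multiply]
  have hA : ((A⁻¹ : Matrix.SpecialLinearGroup (Fin k) F) : Matrix (Fin k) (Fin k) F)
      * (A : Matrix (Fin k) (Fin k) F) = 1 := by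
    rw [← Matrix.SpecialLinearGroup.coe_mul, inv_mul_cancel, Matrix.SpecialLinearGroup.coe_one]
  congr 1
  · simp
  · rw [← Matrix.replicateRow_vecMul, Matrix.vecMul_vecMul, hA, Matrix.vecMul_one]
    simp
  · simp
  · simp

/-- the inverse transpose automorphism of `SL` -/
def tinv {n : Type*} [DecidableEq n] [Fintype n] :
    Matrix.SpecialLinearGroup n F →* Matrix.SpecialLinearGroup n F where
  toFun A := (A⁻¹).transpose
  map_one' := by
    apply sl_ext
    simp [Matrix.SpecialLinearGroup.coe_transpose]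
  map_mul' A B := by
    apply sl_ext
    rw [Matrix.SpecialLinearGroup.coe_transpose, _root_.mul_inv_rev, Matrix.SpecialLinearGroup.coe_mul,
      Matrix.transpose_mul, Matrix.SpecialLinearGroup.coe_mul,
      Matrix.SpecialLinearGroup.coe_transpose, Matrix.SpecialLinearGroup.coe_transpose]

theorem tinv_tinv {n : Type*} [DecidableEq n] [Fintype n] (A : Matrix.SpecialLinearGroup n F) :
    tinv (tinv A) = A := by
  apply sl_ext
  show (((((A⁻¹).transpose)⁻¹).transpose : Matrix.SpecialLinearGroup n F) : Matrix n n F) = A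
  rw [Matrix.SpecialLinearGroup.coe_transpose]
  have h1 : (((A⁻¹).transpose)⁻¹ : Matrix.SpecialLinearGroup n F) = A.transpose := by
    rw [inv_eq_iff_mul_eq_one]
    apply sl_ext
    rw [Matrix.SpecialLinearGroup.coe_mul, Matrix.SpecialLinearGroup.coe_transpose,
      Matrix.SpecialLinearGroup.coe_transpose, ← Matrix.transpose_mul,
      ← Matrix.SpecialLinearGroup.coe_mul, mul_inv_cancel, Matrix.SpecialLinearGroup.coe_one,
      Matrix.transpose_one]
  rw [h1, Matrix.SpecialLinearGroup.coe_transpose, Matrix.transpose_transpose]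

theorem tinv_surjective {n : Type*} [DecidableEq n] [Fintype n] :
    Function.Surjective (tinv : Matrix.SpecialLinearGroup n F →* Matrix.SpecialLinearGroup n F) :=
  fun A => ⟨tinv A, tinv_tinv A⟩

/-- a subgroup of `SL_k` of index `< (q^k-1)/(q-1)` is transitive on the lines of row vectors,
acting by `r ↦ r A⁻¹` -/
theorem trans_lines [Fintype F] (S : Subgroup (Matrix.SpecialLinearGroup (Fin k) F))
    (hidx : S.index < (Fintype.card F ^ k - 1) / (Fintype.card F - 1))
    (r r' : Fin k → F) (hr : r ≠ 0) (hr' : r' ≠ 0) :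
    ∃ A ∈ S, ∃ a : F, a ≠ 0 ∧
      r ᵥ* ((A⁻¹ : Matrix.SpecialLinearGroup (Fin k) F) : Matrix (Fin k) (Fin k) F) = a • r' := by
  set S' := S.comap (tinv : Matrix.SpecialLinearGroup (Fin k) F →* _) with hS'
  have hidx' : S'.index = S.index := Subgroup.index_comap_of_surjective S tinv_surjective
  have hcard : Nat.card (ℙ F (Fin k → F)) = (Fintype.card F ^ k - 1) / (Fintype.card F - 1) := by
    rw [Projectivization.card'', Nat.card_eq_fintype_card, Nat.card_eq_fintype_card,
      Fintype.card_fun, Fintype.card_fin]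
  have htr : MulAction.IsPretransitive S' (ℙ F (Fin k → F)) := by
    by_contra hnot
    have := Cfsg.Agent.Lib.Helper7.MinDeg.card_le_index_of_not_pretransitive
      (G := Matrix.SpecialLinearGroup (Fin k) F) (X := ℙ F (Fin k → F)) inferInstance S' hnot
    rw [hcard, hidx'] at this
    omega
  obtain ⟨⟨B, hB⟩, hBp⟩ := htr.exists_smul_eq (Projectivization.mk F r hr)
    (Projectivization.mk F r' hr')
  have hBp' : B • Projectivization.mk F r hr = Projectivization.mk F r' hr' := hBp
  rw [Projectivization.smul_mk, Projectivization.mk_eq_mk_iff] at hBp'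
  obtain ⟨a, ha⟩ := hBp'
  refine ⟨tinv B, hB, (a : F), a.ne_zero, ?_⟩
  have h1 : ((tinv B)⁻¹ : Matrix.SpecialLinearGroup (Fin k) F) = B.transpose := by
    show (((B⁻¹).transpose)⁻¹ : Matrix.SpecialLinearGroup (Fin k) F) = B.transpose
    rw [inv_eq_iff_mul_eq_one]
    apply sl_ext
    rw [Matrix.SpecialLinearGroup.coe_mul, Matrix.SpecialLinearGroup.coe_transpose,
      Matrix.SpecialLinearGroup.coe_transpose, ← Matrix.transpose_mul,
      ← Matrix.SpecialLinearGroup.coe_mul, mul_inv_cancel, Matrix.SpecialLinearGroup.coe_one,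
      Matrix.transpose_one]
  rw [h1, Matrix.SpecialLinearGroup.coe_transpose, Matrix.vecMul_transpose]
  have h2 : B • r = (B : Matrix (Fin k) (Fin k) F) *ᵥ r := rfl
  rw [← h2, ← ha]
  rfl


/-- the scalars `c` with `c • r ∈ K` -/
def lam (K : AddSubgroup (Fin k → F)) (r : Fin k → F) : AddSubgroup F where
  carrier := {c | c • r ∈ K}
  zero_mem' := by simp
  add_mem' {a b} ha hb := by
    simp only [Set.mem_ofPred_eq] at ha hb ⊢
    rw [add_smul]; exact K.add_mem ha hb
  neg_mem' {a} ha := by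
    simp only [Set.mem_ofPred_eq] at ha ⊢
    rw [neg_smul]; exact K.neg_mem ha

theorem mem_lam {K : AddSubgroup (Fin k → F)} {r : Fin k → F} {c : F} :
    c ∈ lam K r ↔ c • r ∈ K := Iff.rfl

/-- the double count `(q - 1)(|K| - 1) = ∑_{r ≠ 0} (|Λ_r| - 1)` -/
theorem double_count [Fintype F] [DecidableEq F] (K : AddSubgroup (Fin k → F))
    [DecidablePred (· ∈ K)] :
    (Fintype.card F - 1) * ((Finset.univ.filter (· ∈ K)).card - 1)
      = ∑ r ∈ (Finset.univ : Finset (Fin k → F)).filter (· ≠ 0),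
          ((Finset.univ.filter fun c : F => c • r ∈ K).card - 1) := by
  classical
  -- both sides count the pairs `(c, r)`, `c ≠ 0`, `r ≠ 0`, `c • r ∈ K`
  have h1 : ∀ r : Fin k → F, r ≠ 0 →
      (∑ c : F, if (c ≠ 0 ∧ c • r ∈ K) then 1 else 0)
        = (Finset.univ.filter fun c : F => c • r ∈ K).card - 1 := by
    intro r _
    rw [← Finset.card_filter]
    have : (Finset.univ.filter fun c : F => c ≠ 0 ∧ c • r ∈ K)
        = (Finset.univ.filter fun c : F => c • r ∈ K).erase 0 := by
      ext c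
      simp only [Finset.mem_filter, Finset.mem_univ, true_and, Finset.mem_erase]
    rw [this, Finset.card_erase_of_mem]
    simp
  have h2 : ∀ c : F, c ≠ 0 →
      (∑ r : Fin k → F, if (r ≠ 0 ∧ c • r ∈ K) then 1 else 0)
        = (Finset.univ.filter (· ∈ K)).card - 1 := by
    intro c hc
    rw [← Finset.card_filter]
    have : ((Finset.univ.filter fun r : Fin k → F => r ≠ 0 ∧ c • r ∈ K).image (fun r => c • r))
        = (Finset.univ.filter (· ∈ K)).erase 0 := by
      ext x
      simp only [Finset.mem_image, Finset.mem_filter, Finset.mem_univ, true_and, Finset.mem_erase]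
      constructor
      · rintro ⟨r, ⟨hr0, hrK⟩, rfl⟩
        exact ⟨smul_ne_zero hc hr0, hrK⟩
      · rintro ⟨hx0, hxK⟩
        refine ⟨c⁻¹ • x, ⟨smul_ne_zero (inv_ne_zero hc) hx0, ?_⟩, ?_⟩
        · rw [smul_smul, mul_inv_cancel₀ hc, one_smul]; exact hxK
        · rw [smul_smul, mul_inv_cancel₀ hc, one_smul]
    rw [← Finset.card_image_of_injective _ (smul_right_injective (Fin k → F) hc), this,
      Finset.card_erase_of_mem]
    simp
  have h3 : (∑ r : Fin k → F, ∑ c : F, if (c ≠ 0 ∧ r ≠ 0 ∧ c • r ∈ K) then 1 else 0)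
      = ∑ r ∈ (Finset.univ : Finset (Fin k → F)).filter (· ≠ 0),
          ((Finset.univ.filter fun c : F => c • r ∈ K).card - 1) := by
    rw [Finset.sum_filter]
    apply Finset.sum_congr rfl
    intro r _
    by_cases hr : r = 0
    · simp [hr]
    · rw [if_pos hr, ← h1 r hr]
      apply Finset.sum_congr rfl
      intro c _
      simp [hr]
  have h4 : (∑ c : F, ∑ r : Fin k → F, if (c ≠ 0 ∧ r ≠ 0 ∧ c • r ∈ K) then 1 else 0)
      = (Fintype.card F - 1) * ((Finset.univ.filter (· ∈ K)).card - 1) := by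
    have : ∀ c : F, (∑ r : Fin k → F, if (c ≠ 0 ∧ r ≠ 0 ∧ c • r ∈ K) then 1 else 0)
        = if c ≠ 0 then ((Finset.univ.filter (· ∈ K)).card - 1) else 0 := by
      intro c
      by_cases hc : c = 0
      · simp [hc]
      · rw [if_pos hc, ← h2 c hc]
        apply Finset.sum_congr rfl
        intro r _
        simp [hc]
    rw [Finset.sum_congr rfl (fun c _ => this c), ← Finset.sum_filter, Finset.sum_const,
      smul_eq_mul]
    congr 1
    rw [Finset.filter_ne' Finset.univ (0 : F), Finset.card_erase_of_mem (Finset.mem_univ _),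
      Finset.card_univ]
  rw [← h4, ← h3, Finset.sum_comm]


/-- unit U6 -/
theorem Kof_eq_bot_or_top [Fintype F] (hk : 2 ≤ k)
    (H : Subgroup (Matrix.SpecialLinearGroup (Idx k) F))
    (g : Matrix.SpecialLinearGroup (Idx k) F) (S : Subgroup (Matrix.SpecialLinearGroup (Fin k) F))
    (hS : ∀ A ∈ S, ∃ r : Fin k → F, g⁻¹ * (qel r * levS A) * g ∈ H)
    (hidx : S.index < (Fintype.card F ^ k - 1) / (Fintype.card F - 1)) :
    Kof H g = ⊥ ∨ Kof H g = ⊤ := by
  classical
  set K := Kof H g with hK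
  -- invariance
  have hinv : ∀ A ∈ S, ∀ r ∈ K,
      r ᵥ* ((A⁻¹ : Matrix.SpecialLinearGroup (Fin k) F) : Matrix (Fin k) (Fin k) F) ∈ K := by
    intro A hA r hr
    obtain ⟨s, hs⟩ := hS A hA
    rw [hK, mem_Kof] at hr ⊢
    have hcomm : qel s * qel (r ᵥ* ((A⁻¹ : Matrix.SpecialLinearGroup (Fin k) F) :
        Matrix (Fin k) (Fin k) F)) = qel (r ᵥ* ((A⁻¹ : Matrix.SpecialLinearGroup (Fin k) F) :
        Matrix (Fin k) (Fin k) F)) * qel s := by
      rw [← qel_add, ← qel_add, add_comm]
    have e : g⁻¹ * qel (r ᵥ* ((A⁻¹ : Matrix.SpecialLinearGroup (Fin k) F) :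
        Matrix (Fin k) (Fin k) F)) * g
        = (g⁻¹ * (qel s * levS A) * g) * (g⁻¹ * qel r * g) * (g⁻¹ * (qel s * levS A) * g)⁻¹ := by
      have e1 : (qel s * levS A) * qel r * (qel s * levS A)⁻¹
          = qel (r ᵥ* ((A⁻¹ : Matrix.SpecialLinearGroup (Fin k) F) :
            Matrix (Fin k) (Fin k) F)) := by
        calc (qel s * levS A) * qel r * (qel s * levS A)⁻¹
            = qel s * (levS A * qel r * (levS A)⁻¹) * (qel s)⁻¹ := by group
          _ = _ := by rw [levS_conj_qel', hcomm, mul_inv_cancel_right]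
      rw [← e1]; group
    rw [e]
    exact H.mul_mem (H.mul_mem hs hr) (H.inv_mem hs)
  -- the field
  obtain ⟨p, hpF⟩ := CharP.exists F
  obtain ⟨e, hp, hq⟩ := FiniteField.card F p
  haveI := Fact.mk hp
  set q := Fintype.card F with hqdef
  have hq2 : 2 ≤ q := by
    rw [hq]
    calc 2 ≤ p := hp.two_le
      _ = p ^ 1 := (pow_one p).symm
      _ ≤ p ^ (e : ℕ) := Nat.pow_le_pow_right hp.pos e.pos
  -- the cardinalities `λ_r`
  set L : (Fin k → F) → ℕ := fun r => (Finset.univ.filter fun c : F => c • r ∈ K).card with hL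
  have hLle : ∀ r r' : Fin k → F, r ≠ 0 → r' ≠ 0 → L r ≤ L r' := by
    intro r r' hr hr'
    obtain ⟨A, hA, a, ha, hra⟩ := trans_lines S hidx r r' hr hr'
    apply Finset.card_le_card_of_injOn (fun c => c * a)
    · intro c hc
      simp only [Finset.coe_filter, Finset.mem_univ, true_and, Set.mem_ofPred_eq] at hc ⊢
      have := hinv A hA _ hc
      rwa [Matrix.smul_vecMul, hra, smul_smul] at this
    · intro c _ c' _ h
      exact mul_right_cancel₀ ha h
  have hLeq : ∀ r r' : Fin k → F, r ≠ 0 → r' ≠ 0 → L r = L r' := fun r r' hr hr' =>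
    le_antisymm (hLle r r' hr hr') (hLle r' r hr' hr)
  -- a nonzero vector
  set r₀ : Fin k → F := fun _ => 1 with hr₀
  have hr₀0 : r₀ ≠ 0 := by
    intro h
    have := congrFun h ⟨0, by omega⟩
    simp [hr₀] at this
  -- the count
  have hcount := double_count (F := F) (k := k) K
  have hsum : ∑ r ∈ (Finset.univ : Finset (Fin k → F)).filter (· ≠ 0),
      ((Finset.univ.filter fun c : F => c • r ∈ K).card - 1) = (q ^ k - 1) * (L r₀ - 1) := by
    have : ∀ r ∈ (Finset.univ : Finset (Fin k → F)).filter (· ≠ 0),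
        ((Finset.univ.filter fun c : F => c • r ∈ K).card - 1) = L r₀ - 1 := by
      intro r hr
      rw [Finset.mem_filter] at hr
      show L r - 1 = L r₀ - 1
      rw [hLeq r r₀ hr.2 hr₀0]
    rw [Finset.sum_congr rfl this, Finset.sum_const, smul_eq_mul]
    congr 1
    rw [Finset.filter_ne' Finset.univ (0 : Fin k → F),
      Finset.card_erase_of_mem (Finset.mem_univ _), Finset.card_univ, Fintype.card_fun,
      Fintype.card_fin]
  rw [hsum] at hcount
  -- `|K|` and `λ` are powers of `p`
  have hKcard : (Finset.univ.filter (· ∈ K)).card = Nat.card K := by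
    rw [Nat.card_eq_fintype_card, Fintype.card_subtype]
  have hKdvd : Nat.card K ∣ p ^ ((e : ℕ) * k) := by
    have := AddSubgroup.card_addSubgroup_dvd_card K
    rwa [Nat.card_eq_fintype_card (α := Fin k → F), Fintype.card_fun, Fintype.card_fin, ← hqdef,
      hq, ← pow_mul] at this
  obtain ⟨c, -, hc⟩ := (Nat.dvd_prime_pow hp).1 hKdvd
  have hLcard : L r₀ = Nat.card (lam K r₀) := by
    rw [Nat.card_eq_fintype_card, Fintype.card_subtype]
    rfl
  have hLdvd : L r₀ ∣ p ^ (e : ℕ) := by
    have := AddSubgroup.card_addSubgroup_dvd_card (lam K r₀)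
    rwa [Nat.card_eq_fintype_card (α := F), ← hqdef, hq, ← hLcard] at this
  obtain ⟨b, hbe, hb⟩ := (Nat.dvd_prime_pow hp).1 hLdvd
  -- the geometric sum
  have hgeo : (q - 1) * ∑ i ∈ Finset.range k, q ^ i = q ^ k - 1 := by
    have h1 : 1 ≤ q := by omega
    have h2 : 1 ≤ q ^ k := Nat.one_le_pow _ _ (by omega)
    zify [h1, h2]
    rw [mul_comm]
    exact geom_sum_mul (q : ℤ) k
  rw [hKcard, hc, hb, ← hgeo, mul_assoc] at hcount
  have hmain : p ^ c - 1 = (p ^ b - 1) * ∑ i ∈ Finset.range k, (p ^ (e : ℕ)) ^ i := by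
    have := Nat.eq_of_mul_eq_mul_left (by omega : 0 < q - 1) hcount
    rw [this, mul_comm, hq]
  -- cases
  rcases Nat.eq_zero_or_pos b with hb0 | hbpos
  · left
    rw [hb0, pow_zero, Nat.sub_self, zero_mul] at hmain
    have hc1 : Nat.card K = 1 := by
      have : 1 ≤ p ^ c := Nat.one_le_pow _ _ hp.pos
      rw [hc]; omega
    exact (AddSubgroup.card_eq_one).1 hc1
  · rcases lt_or_eq_of_le hbe with hlt | heq
    · exact (no_pow_eq p hp e b c k hbpos hlt hk hmain).elim
    · right
      rw [eq_top_iff]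
      intro r _
      by_cases hr : r = 0
      · rw [hr]; exact K.zero_mem
      · have h1 : L r = q := by rw [hLeq r r₀ hr hr₀0, hb, heq, hq]
        have h2 : (Finset.univ.filter fun c : F => c • r ∈ K) = Finset.univ := by
          apply Finset.eq_univ_of_card
          rw [← hqdef]; exact h1
        have h3 : (1 : F) ∈ (Finset.univ.filter fun c : F => c • r ∈ K) := by
          rw [h2]; exact Finset.mem_univ _
        simpa using h3

end Cfsg.Agent.Lib.Helper1.MinDeg
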