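import Mathlib
import Cfsg.Agent.S0199

set_option autoImplicit false
set_option linter.unusedVariables false
set_option linter.unusedSectionVars false
set_option linter.style.longLine false
set_option linter.style.haveILetI false

/-!
# S3921, general tools: in a group where every noncyclic subgroup contains its centralizer,
all involutions of the centralizer `C` of an involution `t` lie in `O₂(C)` (Baer–Suzuki)
-/

namespace Cfsg.Agent.Lib.Helper1.NCyc

open scoped Pointwise

theorem comm_of_isCyclic' {X : Type*} [Group X] [IsCyclic X] (a b : X) : a * b = b * a := by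
  obtain ⟨g, hg⟩ := IsCyclic.exists_generator (α := X)
  obtain ⟨i, rfl⟩ := hg a
  obtain ⟨j, rfl⟩ := hg b
  rw [← zpow_add, ← zpow_add, add_comm]

theorem isPGroup_zpowers_of_pow_eq_one {Γ : Type*} [Group Γ] {p : ℕ} [hp : Fact p.Prime] {g : Γ}
    {k : ℕ} (h : g ^ (p ^ k) = 1) : IsPGroup p (Subgroup.zpowers g) := by
  rw [IsPGroup.iff_orderOf]
  intro x
  have h1 : orderOf (x : Γ) ∣ p ^ k :=
    (orderOf_dvd_of_mem_zpowers x.2).trans (orderOf_dvd_of_pow_eq_one h)
  rw [Subgroup.orderOf_coe] at h1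
  obtain ⟨j, -, hj⟩ := (Nat.dvd_prime_pow hp.out).mp h1
  exact ⟨j, hj⟩

theorem mem_zpowers_invol {Γ : Type*} [Group Γ] {s b : Γ} (hs : s * s = 1)
    (hb : b ∈ Subgroup.zpowers s) : b = 1 ∨ b = s := by
  obtain ⟨k, rfl⟩ := Subgroup.mem_zpowers_iff.mp hb
  have hs2 : s ^ (2 : ℤ) = 1 := by
    rw [zpow_ofNat, pow_two]; exact hs
  rcases Int.emod_two_eq_zero_or_one k with h0 | h1
  · left
    have : k = 2 * (k / 2) := by omega
    rw [this, zpow_mul, hs2, one_zpow]
  · right
    have : k = 2 * (k / 2) + 1 := by omega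
    rw [this, zpow_add, zpow_mul, hs2, one_zpow, one_mul, zpow_one]

/-- the normalizer statement: an element inverting `y` normalizes `zpowers y` -/
theorem zpowers_le_normalizer_of_inverts {Γ : Type*} [Group Γ] {s y : Γ} (hs : s * s = 1)
    (hinv : s * y * s⁻¹ = y⁻¹) :
    Subgroup.zpowers s ≤ Subgroup.normalizer ((Subgroup.zpowers y : Subgroup Γ) : Set Γ) := by
  have hsinv : s⁻¹ = s := inv_eq_of_mul_eq_one_left hs
  rw [Subgroup.zpowers_le]
  rw [Subgroup.mem_normalizer_iff]
  intro x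
  constructor
  · intro hx
    obtain ⟨k, rfl⟩ := Subgroup.mem_zpowers_iff.mp hx
    rw [← conj_zpow, hinv]
    exact Subgroup.zpow_mem _ (Subgroup.inv_mem _ (Subgroup.mem_zpowers y)) k
  · intro hx
    obtain ⟨k, hk⟩ := Subgroup.mem_zpowers_iff.mp hx
    have h1 : x = s⁻¹ * (y ^ k) * s := by rw [hk]; group
    have h2 : s⁻¹ * y * s⁻¹⁻¹ = y⁻¹ := by
      rw [inv_inv, hsinv, ← hinv, hsinv]
    rw [h1]
    have h3 : s⁻¹ * y ^ k * s = (s⁻¹ * y * s⁻¹⁻¹) ^ k := by rw [conj_zpow, inv_inv]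
    rw [h3, h2]
    exact Subgroup.zpow_mem _ (Subgroup.inv_mem _ (Subgroup.mem_zpowers y)) k

/-- two involutions whose product has order a power of two generate a 2-group -/
theorem isPGroup_two_zpowers_sup {Γ : Type*} [Group Γ] {w w' : Γ} (hw : w * w = 1)
    (hw' : w' * w' = 1) (e : ℕ) (h : (w * w') ^ (2 ^ e) = 1) :
    IsPGroup 2 ↥(Subgroup.zpowers w ⊔ Subgroup.zpowers w') := by
  haveI : Fact (Nat.Prime 2) := ⟨Nat.prime_two⟩
  have hwinv : w⁻¹ = w := inv_eq_of_mul_eq_one_left hw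
  have hw'inv : w'⁻¹ = w' := inv_eq_of_mul_eq_one_left hw'
  have hPw : IsPGroup 2 (Subgroup.zpowers w) :=
    isPGroup_zpowers_of_pow_eq_one (k := 1) (by rw [pow_one, pow_two]; exact hw)
  have hPr : IsPGroup 2 (Subgroup.zpowers (w * w')) := isPGroup_zpowers_of_pow_eq_one h
  have hconj : w * (w * w') * w⁻¹ = (w * w')⁻¹ := by
    rw [mul_inv_rev, hwinv, hw'inv]
    calc w * (w * w') * w = (w * w) * w' * w := by group
      _ = w' * w := by rw [hw, one_mul]
  have hnorm := zpowers_le_normalizer_of_inverts hw hconj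
  have hsup := IsPGroup.to_sup_of_normal_right' hPw hPr hnorm
  refine hsup.to_le ?_
  apply sup_le le_sup_left
  rw [Subgroup.zpowers_le]
  have h1 : w⁻¹ * (w * w') = w' := by group
  have hmem : w⁻¹ * (w * w') ∈ Subgroup.zpowers w ⊔ Subgroup.zpowers (w * w') :=
    Subgroup.mul_mem _ (Subgroup.inv_mem _ (le_sup_left (a := Subgroup.zpowers w)
      (Subgroup.mem_zpowers w))) (le_sup_right (b := Subgroup.zpowers (w * w'))
        (Subgroup.mem_zpowers (w * w')))
  rwa [h1] at hmem

theorem eq_one_of_pow_two_of_pow_odd {Γ : Type*} [Group Γ] {g : Γ} (h2 : g * g = 1) {m : ℕ}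
    (hm : Odd m) (hgm : g ^ m = 1) : g = 1 := by
  have h2' : g ^ 2 = 1 := by rw [pow_two]; exact h2
  have := (pow_gcd_eq_one (a := g) (m := 2) (n := m)).mpr ⟨h2', hgm⟩
  have hg : Nat.gcd 2 m = 1 := by
    rw [← Nat.coprime_iff_gcd_eq_one, Nat.Prime.coprime_iff_not_dvd Nat.prime_two]
    intro hd
    obtain ⟨k, hk⟩ := hm
    omega
  rwa [hg, pow_one] at this

/-- Step a: in a group with (*), two involutions of `C_G(t)` have a product of 2-power order -/
theorem exists_two_pow_of_star {G : Type*} [Group G] [Finite G]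
    (h : ∀ H : Subgroup G, ¬ IsCyclic ↥H → Subgroup.centralizer (H : Set G) ≤ H)
    {t : G} (ht : orderOf t = 2) {s s' : G} (hs : s * s = 1) (hs' : s' * s' = 1)
    (hst : s * t = t * s) (hs't : s' * t = t * s') : ∃ e : ℕ, (s * s') ^ (2 ^ e) = 1 := by
  have hsinv : s⁻¹ = s := inv_eq_of_mul_eq_one_left hs
  have hs'inv : s'⁻¹ = s' := inv_eq_of_mul_eq_one_left hs'
  have ht1 : t ≠ 1 := by
    intro h1
    rw [h1, orderOf_one] at ht
    omega
  have htt : t * t = 1 := by
    have := pow_orderOf_eq_one t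
    rwa [ht, pow_two] at this
  obtain ⟨w, hwdef⟩ : ∃ w, w = s * s' := ⟨_, rfl⟩
  rw [← hwdef]
  have ho : orderOf w ≠ 0 := (orderOf_pos w).ne'
  obtain ⟨e, m, hm, hom⟩ := Nat.exists_eq_two_pow_mul_odd ho
  by_cases hm1 : m = 1
  · refine ⟨e, ?_⟩
    rw [hm1, mul_one] at hom
    rw [← hom]
    exact pow_orderOf_eq_one w
  exfalso
  obtain ⟨y, hydef⟩ : ∃ y, y = w ^ (2 ^ e) := ⟨_, rfl⟩
  have hym : y ^ m = 1 := by
    rw [hydef, ← pow_mul, ← hom]
    exact pow_orderOf_eq_one w
  have hy1 : y ≠ 1 := by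
    intro hy
    rw [hydef] at hy
    have hd := orderOf_dvd_of_pow_eq_one hy
    rw [hom] at hd
    have hd' : 2 ^ e * m ∣ 2 ^ e * 1 := by rwa [mul_one]
    have := Nat.dvd_of_mul_dvd_mul_left (by positivity) hd'
    exact hm1 (Nat.dvd_one.mp this)
  have hwinv : s * w * s⁻¹ = w⁻¹ := by
    rw [hwdef, mul_inv_rev, hsinv, hs'inv]
    calc s * (s * s') * s = (s * s) * s' * s := by group
      _ = s' * s := by rw [hs, one_mul]
  have hyinv : s * y * s⁻¹ = y⁻¹ := by
    rw [hydef, ← conj_pow, hwinv, inv_pow]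
  have hkey : ¬ (s * y = y * s) := by
    intro hc
    have h1 : s * y * s⁻¹ = y := by rw [hc, mul_inv_cancel_right]
    rw [h1] at hyinv
    have h2 : y * y = 1 := by
      nth_rewrite 1 [hyinv]
      exact inv_mul_cancel y
    exact hy1 (eq_one_of_pow_two_of_pow_odd h2 hm hym)
  -- the subgroup `L`
  have hnorm := zpowers_le_normalizer_of_inverts hs hyinv
  have hwt : w * t = t * w := by
    rw [hwdef, mul_assoc, hs't, ← mul_assoc, hst, mul_assoc]
  have hyt : y * t = t * y := by
    rw [hydef]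
    exact ((Commute.pow_left (show Commute w t from hwt)) _).eq
  have hLC : Subgroup.zpowers y ⊔ Subgroup.zpowers s ≤ Subgroup.centralizer ({t} : Set G) := by
    apply sup_le
    · rw [Subgroup.zpowers_le, Subgroup.mem_centralizer_iff]
      intro x hx
      rw [Set.mem_singleton_iff] at hx
      rw [hx]; exact hyt.symm
    · rw [Subgroup.zpowers_le, Subgroup.mem_centralizer_iff]
      intro x hx
      rw [Set.mem_singleton_iff] at hx
      rw [hx]; exact hst.symm
  have hLnc : ¬ IsCyclic ↥(Subgroup.zpowers y ⊔ Subgroup.zpowers s) := by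
    intro hc
    have hyL : y ∈ Subgroup.zpowers y ⊔ Subgroup.zpowers s :=
      le_sup_left (a := Subgroup.zpowers y) (Subgroup.mem_zpowers y)
    have hsL : s ∈ Subgroup.zpowers y ⊔ Subgroup.zpowers s :=
      le_sup_right (b := Subgroup.zpowers s) (Subgroup.mem_zpowers s)
    have := comm_of_isCyclic' (⟨s, hsL⟩ : ↥(Subgroup.zpowers y ⊔ Subgroup.zpowers s)) ⟨y, hyL⟩
    exact hkey (congrArg Subtype.val this)
  have htL : t ∈ Subgroup.zpowers y ⊔ Subgroup.zpowers s := by
    apply h _ hLnc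
    rw [Subgroup.mem_centralizer_iff]
    intro l hl
    have := hLC hl
    rw [Subgroup.mem_centralizer_iff] at this
    exact (this t (Set.mem_singleton t)).symm
  have hcoe := Subgroup.coe_mul_of_right_le_normalizer_left (Subgroup.zpowers y)
    (Subgroup.zpowers s) hnorm
  have htL' : t ∈ ((Subgroup.zpowers y ⊔ Subgroup.zpowers s : Subgroup G) : Set G) := htL
  rw [hcoe] at htL'
  obtain ⟨a, ha, b, hb, hab⟩ := Set.mem_mul.mp htL'
  have ha' : a ∈ Subgroup.zpowers y := ha
  have hb' : b ∈ Subgroup.zpowers s := hb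
  obtain ⟨k, hk⟩ := Subgroup.mem_zpowers_iff.mp ha'
  have hay : a * y = y * a := by
    rw [← hk]
    exact ((Commute.refl y).zpow_left k).eq
  rcases mem_zpowers_invol hs hb' with hb1 | hbs
  · rw [hb1, mul_one] at hab
    -- `t = a` is a power of `y`
    have htm : t ^ m = 1 := by
      rw [← hab, ← hk, ← zpow_natCast, ← zpow_mul, mul_comm, zpow_mul, zpow_natCast, hym, one_zpow]
    exact ht1 (eq_one_of_pow_two_of_pow_odd htt hm htm)
  · apply hkey
    have hb2 : s = a⁻¹ * t := by rw [← hab, hbs]; group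
    rw [hb2]
    have hainv : a⁻¹ * y = y * a⁻¹ := by
      have := (Commute.inv_left (show Commute a y from hay)).eq
      exact this
    calc a⁻¹ * t * y = a⁻¹ * (t * y) := by group
      _ = a⁻¹ * (y * t) := by rw [hyt]
      _ = (a⁻¹ * y) * t := by group
      _ = y * a⁻¹ * t := by rw [hainv]
      _ = y * (a⁻¹ * t) := by group

/-- Step a + b: in a group with (*), every involution centralizing the involution `t` lies in
every Sylow 2-subgroup contained in `C_G(t)` -/
theorem invol_mem_sylow_of_star {G : Type*} [Group G] [Finite G]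
    (h : ∀ H : Subgroup G, ¬ IsCyclic ↥H → Subgroup.centralizer (H : Set G) ≤ H)
    {t : G} (ht : orderOf t = 2) (S : Sylow 2 G)
    (hS : (S : Subgroup G) ≤ Subgroup.centralizer ({t} : Set G))
    {s : G} (hs : s * s = 1) (hst : s * t = t * s) : s ∈ (S : Subgroup G) := by
  haveI : Fact (Nat.Prime 2) := ⟨Nat.prime_two⟩
  have hsC : s ∈ Subgroup.centralizer ({t} : Set G) := by
    rw [Subgroup.mem_centralizer_iff]
    intro x hx
    rw [Set.mem_singleton_iff] at hx
    rw [hx]; exact hst.symm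
  obtain ⟨sC, hsCdef⟩ : ∃ sC : ↥(Subgroup.centralizer ({t} : Set G)), sC = ⟨s, hsC⟩ := ⟨_, rfl⟩
  have hsC2 : sC * sC = 1 := by
    rw [hsCdef]; exact Subtype.ext hs
  have hX : IsPGroup 2 (Subgroup.zpowers sC) :=
    isPGroup_zpowers_of_pow_eq_one (k := 1) (by rw [pow_one, pow_two]; exact hsC2)
  have hpair : ∀ g : ↥(Subgroup.centralizer ({t} : Set G)),
      IsPGroup 2 ↥(Subgroup.zpowers sC ⊔ (Subgroup.zpowers sC).map (MulAut.conj g).toMonoidHom) := by
    intro g
    rw [MonoidHom.map_zpowers]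
    have h1 : (MulAut.conj g).toMonoidHom sC = g * sC * g⁻¹ := rfl
    rw [h1]
    have hs'2 : (g * sC * g⁻¹) * (g * sC * g⁻¹) = 1 := by
      calc (g * sC * g⁻¹) * (g * sC * g⁻¹) = g * (sC * sC) * g⁻¹ := by group
        _ = 1 := by rw [hsC2, mul_one, mul_inv_cancel]
    have hgt : (g : G) * t = t * (g : G) := by
      have := g.2
      rw [Subgroup.mem_centralizer_iff] at this
      exact (this t (Set.mem_singleton t)).symm
    have hs't : ((g : G) * s * (g : G)⁻¹) * t = t * ((g : G) * s * (g : G)⁻¹) := by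
      have hginv : (g : G)⁻¹ * t = t * (g : G)⁻¹ :=
        (Commute.inv_left (show Commute (g : G) t from hgt)).eq
      calc (g : G) * s * (g : G)⁻¹ * t = (g : G) * s * ((g : G)⁻¹ * t) := by group
        _ = (g : G) * s * (t * (g : G)⁻¹) := by rw [hginv]
        _ = (g : G) * (s * t) * (g : G)⁻¹ := by group
        _ = (g : G) * (t * s) * (g : G)⁻¹ := by rw [hst]
        _ = ((g : G) * t) * s * (g : G)⁻¹ := by group
        _ = (t * (g : G)) * s * (g : G)⁻¹ := by rw [hgt]
        _ = t * ((g : G) * s * (g : G)⁻¹) := by group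
    have hs'2G : ((g : G) * s * (g : G)⁻¹) * ((g : G) * s * (g : G)⁻¹) = 1 := by
      calc ((g : G) * s * (g : G)⁻¹) * ((g : G) * s * (g : G)⁻¹)
          = (g : G) * (s * s) * (g : G)⁻¹ := by group
        _ = 1 := by rw [hs, mul_one, mul_inv_cancel]
    obtain ⟨e, he⟩ := exists_two_pow_of_star h ht hs hs'2G hst hs't
    apply isPGroup_two_zpowers_sup hsC2 hs'2 e
    apply Subtype.ext
    rw [hsCdef]
    simpa using he
  obtain ⟨N, hNn, hNp, hXN⟩ := Cfsg.Agent.S0199.result (Subgroup.zpowers sC) hX hpair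
  haveI := hNn
  have hNS : N ≤ (S.subtype hS : Sylow 2 ↥(Subgroup.centralizer ({t} : Set G))) :=
    hNp.le_sylow_of_normal _
  have h1 : sC ∈ (S.subtype hS : Sylow 2 ↥(Subgroup.centralizer ({t} : Set G))) :=
    hNS (hXN (Subgroup.mem_zpowers sC))
  have h2 : sC ∈ ((S.subtype hS : Sylow 2 ↥(Subgroup.centralizer ({t} : Set G))) :
      Subgroup ↥(Subgroup.centralizer ({t} : Set G))) := h1
  rw [Sylow.coe_subtype, Subgroup.mem_subgroupOf, hsCdef] at h2
  exact h2

end Cfsg.Agent.Lib.Helper1.NCyc
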