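import Mathlib
import Cfsg.Agent.Lib.Helper1.NCycSD1
import Cfsg.Agent.S0508

set_option autoImplicit false
set_option linter.unusedVariables false
set_option linter.unusedSectionVars false
set_option linter.style.longLine false
set_option linter.style.haveILetI false

/-!
# S3921, part (DIH): a simple group in which every noncyclic subgroup contains its centralizer
and whose Sylow 2-subgroups are dihedral is `PSL₂(F)` with `F` of odd order
-/

namespace Cfsg.Agent.Lib.Helper1.NCyc

/-- a group with two distinct involutions is not cyclic -/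
theorem not_isCyclic_of_two_invol {W : Type*} [Group W] [Finite W] {a b : W} (haa : a * a = 1)
    (hbb : b * b = 1) (ha1 : a ≠ 1) (hb1 : b ≠ 1) (hab : a ≠ b) : ¬ IsCyclic W := by
  classical
  intro hc
  letI : Fintype W := Fintype.ofFinite W
  have h := IsCyclic.card_pow_eq_one_le (α := W) (n := 2) (by norm_num)
  have hsub : ({1, a, b} : Finset W) ⊆ Finset.univ.filter (fun x => x ^ 2 = 1) := by
    intro x hx
    simp only [Finset.mem_insert, Finset.mem_singleton] at hx
    rw [Finset.mem_filter]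
    refine ⟨Finset.mem_univ _, ?_⟩
    rcases hx with rfl | rfl | rfl
    · exact one_pow 2
    · rw [pow_two]; exact haa
    · rw [pow_two]; exact hbb
  have hcard : ({1, a, b} : Finset W).card = 3 := by
    rw [Finset.card_insert_of_notMem, Finset.card_insert_of_notMem, Finset.card_singleton]
    · simp [hab]
    · simp [ha1.symm, hb1.symm]
  have h2 := Finset.card_le_card hsub
  have h3 : (Finset.univ.filter (fun x : W => x ^ 2 = 1)).card ≤ 2 := by
    convert h
  omega

/-- DIH-core: the odd core of the centralizer of the involution `t` is trivial -/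
theorem oddCore_eq_bot_of_star {G : Type*} [Group G] [Finite G]
    (h : ∀ H : Subgroup G, ¬ IsCyclic ↥H → Subgroup.centralizer (H : Set G) ≤ H)
    (S : Sylow 2 G) {t : G} (ht : orderOf t = 2)
    (hSC : (S : Subgroup G) ≤ Subgroup.centralizer ({t} : Set G))
    {a b : G} (haS : a ∈ (S : Subgroup G)) (hbS : b ∈ (S : Subgroup G)) (haa : a * a = 1)
    (hbb : b * b = 1) (ha1 : a ≠ 1) (hb1 : b ≠ 1) (hab : a ≠ b) (hat : a ≠ t) (hbt : b ≠ t) :
    Cfsg.oddCore ↥(Subgroup.centralizer ({t} : Set G)) = ⊥ := by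
  classical
  have ht1 : t ≠ 1 := by
    intro h1
    rw [h1, orderOf_one] at ht
    omega
  have htt : t * t = 1 := by
    have := pow_orderOf_eq_one t
    rwa [ht, pow_two] at this
  have hmemC : ∀ g : G, g ∈ Subgroup.centralizer ({t} : Set G) ↔ g * t = t * g := by
    intro g
    rw [Subgroup.mem_centralizer_iff]
    constructor
    · intro hg; exact (hg t (Set.mem_singleton t)).symm
    · intro hg z hz
      rw [Set.mem_singleton_iff] at hz
      rw [hz]; exact hg.symm
  rw [eq_bot_iff]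
  show Cfsg.pPrimeCore 2 ↥(Subgroup.centralizer ({t} : Set G)) ≤ ⊥
  unfold Cfsg.pPrimeCore
  apply sSup_le
  rintro N ⟨hNn, hNc⟩
  -- the image of `N` in `G`
  obtain ⟨N', hN'def⟩ : ∃ N' : Subgroup G, N' = N.map (Subgroup.centralizer ({t} : Set G)).subtype :=
    ⟨_, rfl⟩
  have hN'C : N' ≤ Subgroup.centralizer ({t} : Set G) := by
    rw [hN'def]; exact Subgroup.map_subtype_le _
  have hcardN' : Nat.card N' = Nat.card N := by
    rw [hN'def]
    exact Subgroup.card_map_of_injective (Subgroup.subtype_injective _)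
  have hodd : Odd (Nat.card N') := by
    rw [hcardN']
    rw [Nat.coprime_comm, Nat.Prime.coprime_iff_not_dvd Nat.prime_two] at hNc
    rcases Nat.even_or_odd (Nat.card N) with he | ho
    · exact absurd (even_iff_two_dvd.mp he) hNc
    · exact ho
  have hpowN' : ∀ x ∈ N', x ^ Nat.card N' = 1 := by
    intro x hx
    have h1 : ((⟨x, hx⟩ : ↥N') ^ Nat.card N' : ↥N') = 1 := pow_card_eq_one'
    have h2 := congrArg Subtype.val h1
    rw [Subgroup.coe_pow, Subgroup.coe_one] at h2
    exact h2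
  have hinvN' : ∀ x ∈ N', x * x = 1 → x = 1 := by
    intro x hx hxx
    exact eq_one_of_pow_two_of_pow_odd hxx hodd (hpowN' x hx)
  have hnormN' : ∀ c ∈ Subgroup.centralizer ({t} : Set G), ∀ x ∈ N', c * x * c⁻¹ ∈ N' := by
    intro c hc x hx
    rw [hN'def] at hx ⊢
    obtain ⟨x₀, hx₀, rfl⟩ := hx
    have := hNn.conj_mem x₀ hx₀ ⟨c, hc⟩
    exact ⟨_, this, by simp⟩
  -- Step 1
  have hstep1 : ∀ s : G, s * t = t * s → s * s = 1 → s ≠ t → ∀ x ∈ N', s * x = x * s := by
    intro s hst hss hsne x hx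
    have hsinv : s⁻¹ = s := inv_eq_of_mul_eq_one_left hss
    have hsC : s ∈ Subgroup.centralizer ({t} : Set G) := (hmemC s).mpr hst
    have hnorm : Subgroup.zpowers s ≤ Subgroup.normalizer (N' : Set G) := by
      rw [Subgroup.zpowers_le, Subgroup.mem_normalizer_iff]
      intro z
      constructor
      · intro hz; exact hnormN' s hsC z hz
      · intro hz
        have := hnormN' s⁻¹ (Subgroup.inv_mem _ hsC) _ hz
        have h2 : s⁻¹ * (s * z * s⁻¹) * s⁻¹⁻¹ = z := by group
        rwa [h2] at this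
    have hcoe := Subgroup.coe_mul_of_right_le_normalizer_left N' (Subgroup.zpowers s) hnorm
    have htL : t ∉ N' ⊔ Subgroup.zpowers s := by
      intro htL
      have htL' : t ∈ ((N' ⊔ Subgroup.zpowers s : Subgroup G) : Set G) := htL
      rw [hcoe] at htL'
      obtain ⟨x', hx', b', hb', hxb⟩ := Set.mem_mul.mp htL'
      have hx'' : x' ∈ N' := hx'
      have hb'' : b' ∈ Subgroup.zpowers s := hb'
      rcases mem_zpowers_invol hss hb'' with hb1' | hbs
      · rw [hb1', mul_one] at hxb
        rw [hxb] at hx''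
        exact ht1 (hinvN' t hx'' htt)
      · rw [hbs] at hxb
        have hx't : x' = t * s := by
          rw [← hxb, mul_assoc, hss, mul_one]
        have hxx : x' * x' = 1 := by
          rw [hx't]
          calc t * s * (t * s) = t * (s * t) * s := by group
            _ = t * (t * s) * s := by rw [hst]
            _ = (t * t) * (s * s) := by group
            _ = 1 := by rw [htt, hss, one_mul]
        have hx1 := hinvN' x' hx'' hxx
        rw [hx't] at hx1
        apply hsne
        have hst1 : s * t = 1 := by rw [hst]; exact hx1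
        have : s = t⁻¹ := eq_inv_of_mul_eq_one_left hst1
        rw [this, inv_eq_of_mul_eq_one_left htt]
    have hLC : N' ⊔ Subgroup.zpowers s ≤ Subgroup.centralizer ({t} : Set G) := by
      apply sup_le hN'C
      rw [Subgroup.zpowers_le]; exact hsC
    have hLcyc : IsCyclic ↥(N' ⊔ Subgroup.zpowers s) := by
      by_contra hnc
      apply htL
      apply h _ hnc
      rw [Subgroup.mem_centralizer_iff]
      intro l hl
      exact ((hmemC l).mp (hLC hl))
    have hxL : x ∈ N' ⊔ Subgroup.zpowers s := le_sup_left (a := N') hx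
    have hsL : s ∈ N' ⊔ Subgroup.zpowers s :=
      le_sup_right (b := Subgroup.zpowers s) (Subgroup.mem_zpowers s)
    have := comm_of_isCyclic' (⟨s, hsL⟩ : ↥(N' ⊔ Subgroup.zpowers s)) ⟨x, hxL⟩
    exact congrArg Subtype.val this
  -- Step 2
  have hat' : a * t = t * a := (hmemC a).mp (hSC haS)
  have hbt' : b * t = t * b := (hmemC b).mp (hSC hbS)
  have hW : ¬ IsCyclic ↥(Subgroup.zpowers a ⊔ Subgroup.zpowers b) := by
    have haW : a ∈ Subgroup.zpowers a ⊔ Subgroup.zpowers b :=
      le_sup_left (a := Subgroup.zpowers a) (Subgroup.mem_zpowers a)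
    have hbW : b ∈ Subgroup.zpowers a ⊔ Subgroup.zpowers b :=
      le_sup_right (b := Subgroup.zpowers b) (Subgroup.mem_zpowers b)
    apply not_isCyclic_of_two_invol (a := (⟨a, haW⟩ : ↥(Subgroup.zpowers a ⊔ Subgroup.zpowers b)))
      (b := ⟨b, hbW⟩)
    · exact Subtype.ext haa
    · exact Subtype.ext hbb
    · intro h1; exact ha1 (congrArg Subtype.val h1)
    · intro h1; exact hb1 (congrArg Subtype.val h1)
    · intro h1; exact hab (congrArg Subtype.val h1)
  have hWS : Subgroup.zpowers a ⊔ Subgroup.zpowers b ≤ (S : Subgroup G) := by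
    apply sup_le
    · rw [Subgroup.zpowers_le]; exact haS
    · rw [Subgroup.zpowers_le]; exact hbS
  have hN'S : N' ≤ (S : Subgroup G) := by
    intro x hx
    apply hWS
    apply h _ hW
    have hWx : Subgroup.zpowers a ⊔ Subgroup.zpowers b ≤ Subgroup.centralizer ({x} : Set G) := by
      apply sup_le
      · rw [Subgroup.zpowers_le, Subgroup.mem_centralizer_iff]
        intro z hz
        rw [Set.mem_singleton_iff] at hz
        rw [hz]; exact (hstep1 a hat' haa hat x hx).symm
      · rw [Subgroup.zpowers_le, Subgroup.mem_centralizer_iff]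
        intro z hz
        rw [Set.mem_singleton_iff] at hz
        rw [hz]; exact (hstep1 b hbt' hbb hbt x hx).symm
    rw [Subgroup.mem_centralizer_iff]
    intro w hw
    have := hWx hw
    rw [Subgroup.mem_centralizer_iff] at this
    exact (this x (Set.mem_singleton x)).symm
  -- `N'` is trivial
  intro y hy
  rw [Subgroup.mem_bot]
  have hyN' : (y : G) ∈ N' := by
    rw [hN'def]; exact ⟨y, hy, rfl⟩
  obtain ⟨k, hk⟩ := S.isPGroup' ⟨(y : G), hN'S hyN'⟩
  have hk' : (y : G) ^ (2 ^ k) = 1 := by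
    have := congrArg Subtype.val hk
    simpa using this
  have h2 := (pow_gcd_eq_one (a := (y : G)) (m := 2 ^ k) (n := Nat.card N')).mpr
    ⟨hk', hpowN' _ hyN'⟩
  have hg1 : Nat.gcd (2 ^ k) (Nat.card N') = 1 := by
    rw [← Nat.coprime_iff_gcd_eq_one]
    apply Nat.Coprime.pow_left
    rw [Nat.Prime.coprime_iff_not_dvd Nat.prime_two]
    intro hd
    obtain ⟨j, hj⟩ := hodd
    omega
  rw [hg1, pow_one] at h2
  exact Subtype.ext h2

/-- a dihedral group of degree at least two has three distinct involutions -/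
theorem dihedral_three_invol (n : ℕ) (hn : 2 ≤ n) :
    ∃ d₁ d₂ d₃ : DihedralGroup n, d₁ * d₁ = 1 ∧ d₂ * d₂ = 1 ∧ d₃ * d₃ = 1 ∧ d₁ ≠ 1 ∧ d₂ ≠ 1 ∧
      d₃ ≠ 1 ∧ d₁ ≠ d₂ ∧ d₁ ≠ d₃ ∧ d₂ ≠ d₃ := by
  haveI : NeZero n := ⟨by omega⟩
  have h01 : (0 : ZMod n) ≠ 1 := by
    intro h
    have h1 : ((1 : ℕ) : ZMod n) = 0 := by rw [Nat.cast_one]; exact h.symm
    rw [ZMod.natCast_eq_zero_iff] at h1
    have := Nat.le_of_dvd (by norm_num) h1
    omega
  by_cases h2 : n = 2
  · subst h2
    refine ⟨DihedralGroup.sr 0, DihedralGroup.sr 1, DihedralGroup.r 1, ?_, ?_, ?_, ?_, ?_, ?_, ?_, ?_, ?_⟩ <;>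
      decide
  · have h02 : (0 : ZMod n) ≠ 2 := by
      intro h
      have h1 : ((2 : ℕ) : ZMod n) = 0 := by rw [Nat.cast_ofNat]; exact h.symm
      rw [ZMod.natCast_eq_zero_iff] at h1
      have := Nat.le_of_dvd (by norm_num) h1
      omega
    have h12 : (1 : ZMod n) ≠ 2 := by
      intro h
      apply h01
      have : (1 : ZMod n) + 0 = 1 + 1 := by rw [add_zero, one_add_one_eq_two]; exact h
      exact add_left_cancel this
    refine ⟨DihedralGroup.sr 0, DihedralGroup.sr 1, DihedralGroup.sr 2,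
      DihedralGroup.sr_mul_self 0, DihedralGroup.sr_mul_self 1, DihedralGroup.sr_mul_self 2,
      ?_, ?_, ?_, ?_, ?_, ?_⟩
    · rw [DihedralGroup.one_def]; intro h; cases h
    · rw [DihedralGroup.one_def]; intro h; cases h
    · rw [DihedralGroup.one_def]; intro h; cases h
    · intro h; exact h01 (DihedralGroup.sr.inj h)
    · intro h; exact h02 (DihedralGroup.sr.inj h)
    · intro h; exact h12 (DihedralGroup.sr.inj h)

/-- PIECE (DIH) -/
theorem psl_of_dihedral {G : Type*} [Group G] [Finite G] [IsSimpleGroup G]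
    (hna : ¬ IsMulCommutative G)
    (h : ∀ H : Subgroup G, ¬ IsCyclic ↥H → Subgroup.centralizer (H : Set G) ≤ H)
    (S : Sylow 2 G) (n : ℕ) (hn : 2 ≤ n)
    (hS : Nonempty (↥(S : Subgroup G) ≃* DihedralGroup n)) :
    ∃ (F : Type) (_ : Field F) (_ : Fintype F), Odd (Fintype.card F) ∧
      Nonempty (G ≃* Matrix.ProjectiveSpecialLinearGroup (Fin 2) F) := by
  classical
  haveI : Fact (Nat.Prime 2) := ⟨Nat.prime_two⟩
  obtain ⟨ψ⟩ := hS
  obtain ⟨d₁, d₂, d₃, h11, h22, h33, h1, h2, h3, h12, h13, h23⟩ := dihedral_three_invol n hn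
  -- a central involution of `S`
  haveI : Nontrivial ↥(S : Subgroup G) := by
    refine ⟨⟨ψ.symm d₁, 1, ?_⟩⟩
    intro hc
    apply h1
    have := congrArg ψ hc
    simpa using this
  have hSp : IsPGroup 2 ↥(S : Subgroup G) := S.isPGroup'
  haveI : Nontrivial (Subgroup.center ↥(S : Subgroup G)) := hSp.center_nontrivial
  have h2dvd : 2 ∣ Nat.card (Subgroup.center ↥(S : Subgroup G)) := by
    obtain ⟨k, hk⟩ := IsPGroup.iff_card.mp (hSp.to_subgroup (Subgroup.center ↥(S : Subgroup G)))
    have hk0 : k ≠ 0 := by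
      rintro rfl
      rw [pow_zero] at hk
      have := Finite.one_lt_card (α := Subgroup.center ↥(S : Subgroup G))
      omega
    rw [hk]
    exact dvd_pow_self 2 hk0
  obtain ⟨z, hz⟩ := exists_prime_orderOf_dvd_card' 2 h2dvd
  obtain ⟨t, htdef⟩ : ∃ t : G, t = ((z : ↥(S : Subgroup G)) : G) := ⟨_, rfl⟩
  have hto : orderOf t = 2 := by
    rw [htdef, Subgroup.orderOf_coe, Subgroup.orderOf_coe]; exact hz
  have htS : t ∈ (S : Subgroup G) := by rw [htdef]; exact (z : ↥(S : Subgroup G)).2
  have htZ : ∀ s ∈ (S : Subgroup G), s * t = t * s := by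
    intro s hs
    have := (Subgroup.mem_center_iff.mp z.2) ⟨s, hs⟩
    have h2' := congrArg Subtype.val this
    rw [htdef]
    simpa using h2'
  have hSC : (S : Subgroup G) ≤ Subgroup.centralizer ({t} : Set G) := by
    intro s hs
    rw [Subgroup.mem_centralizer_iff]
    intro x hx
    rw [Set.mem_singleton_iff] at hx
    rw [hx]; exact (htZ s hs).symm
  -- two involutions of `S` different from `t`
  have hex : ∃ a b : G, a ∈ (S : Subgroup G) ∧ b ∈ (S : Subgroup G) ∧ a * a = 1 ∧ b * b = 1 ∧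
      a ≠ 1 ∧ b ≠ 1 ∧ a ≠ b ∧ a ≠ t ∧ b ≠ t := by
    have hinv : ∀ d : DihedralGroup n, d * d = 1 →
        ((ψ.symm d : ↥(S : Subgroup G)) : G) * ((ψ.symm d : ↥(S : Subgroup G)) : G) = 1 := by
      intro d hd
      rw [← Subgroup.coe_mul, ← map_mul, hd, map_one, Subgroup.coe_one]
    have hne1 : ∀ d : DihedralGroup n, d ≠ 1 → ((ψ.symm d : ↥(S : Subgroup G)) : G) ≠ 1 := by
      intro d hd hc
      apply hd
      have h' : ψ.symm d = 1 := Subtype.ext hc
      have := congrArg ψ h'
      simpa using this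
    have hne : ∀ d d' : DihedralGroup n, d ≠ d' →
        ((ψ.symm d : ↥(S : Subgroup G)) : G) ≠ ((ψ.symm d' : ↥(S : Subgroup G)) : G) := by
      intro d d' hd hc
      apply hd
      have h' : ψ.symm d = ψ.symm d' := Subtype.ext hc
      exact ψ.symm.injective h'
    by_cases e1 : ((ψ.symm d₁ : ↥(S : Subgroup G)) : G) = t
    · refine ⟨_, _, (ψ.symm d₂).2, (ψ.symm d₃).2, hinv d₂ h22, hinv d₃ h33, hne1 d₂ h2,
        hne1 d₃ h3, hne d₂ d₃ h23, ?_, ?_⟩
      · rw [← e1]; exact (hne d₁ d₂ h12).symm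
      · rw [← e1]; exact (hne d₁ d₃ h13).symm
    · by_cases e2 : ((ψ.symm d₂ : ↥(S : Subgroup G)) : G) = t
      · refine ⟨_, _, (ψ.symm d₁).2, (ψ.symm d₃).2, hinv d₁ h11, hinv d₃ h33, hne1 d₁ h1,
          hne1 d₃ h3, hne d₁ d₃ h13, e1, ?_⟩
        rw [← e2]; exact (hne d₂ d₃ h23).symm
      · exact ⟨_, _, (ψ.symm d₁).2, (ψ.symm d₂).2, hinv d₁ h11, hinv d₂ h22, hne1 d₁ h1,
          hne1 d₂ h2, hne d₁ d₂ h12, e1, e2⟩
  obtain ⟨a, b, haS, hbS, haa, hbb, ha1, hb1, hab, hat, hbt⟩ := hex
  have hO := oddCore_eq_bot_of_star h S hto hSC haS hbS haa hbb ha1 hb1 hab hat hbt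
  refine Cfsg.Agent.S0508.result S n hn ⟨ψ⟩ t hto htS htZ ⊥ ?_ ?_ ?_ ?_
  · rw [hO, Subgroup.map_bot]
  · intro hne; exact absurd rfl hne
  · intro s hs hsc
    exfalso
    apply hsc
    rw [Subgroup.mem_centralizer_iff]
    intro x hx
    have hx1 : x = 1 := by simpa using hx
    rw [hx1, one_mul, mul_one]
  · intro Y hY hYne
    exact absurd (le_bot_iff.mp hY) hYne

end Cfsg.Agent.Lib.Helper1.NCyc
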