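import Mathlib
import Cfsg.Agent.Lib.Helper1.NCycSD1
import Cfsg.Agent.Lib.Lead.QDSub
import Cfsg.Agent.S3116
import Cfsg.Agent.S3225

set_option autoImplicit false
set_option linter.unusedVariables false
set_option linter.unusedSectionVars false
set_option linter.style.longLine false
set_option linter.style.haveILetI false

/-!
# S3921, part (SD): a simple group in which every noncyclic subgroup contains its centralizer
has no quasi-dihedral Sylow 2-subgroup
-/

namespace Cfsg.Agent.Lib.Helper1.NCyc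

open Cfsg.Agent.Lib.Lead.QDCore Cfsg.Agent.Lib.Lead.QDArith

section QDfacts

variable {S : Type*} [Group S] {n : ℕ} {x y : S}

/-- elements commuting with `x y` have order dividing four -/
theorem qd_pow_four_of_comm [Finite S] (hq : QD S n x y) (z : S)
    (hz : z * s n x y 1 = s n x y 1 * z) : z ^ 4 = 1 := by
  have hn1 : 1 ≤ n := by have := hq.hn; omega
  rcases hq.exists_rep z with ⟨i, rfl⟩ | ⟨i, rfl⟩
  · have h1 := hq.r_conj_s i 1
    rw [hz, mul_inv_cancel_right] at h1
    have h2 := hq.s_inj h1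
    have h3 : (1 - mm n) * i = 0 := by linear_combination -h2
    have h4 : (4 : ZMod (2 ^ n)) * i = 0 := by
      have h5 := two_hh (n := n) hn1
      rw [mm_eq] at h3
      linear_combination 2 * h3 + i * h5
    rw [hq.r_pow i 4]
    have : ((4 : ℕ) : ZMod (2 ^ n)) * i = 0 := by
      rw [Nat.cast_ofNat]; exact h4
    rw [this, hq.r_zero]
  · have h1 : s n x y i ^ 4 = (s n x y i * s n x y i) * (s n x y i * s n x y i) := by
      rw [pow_succ, pow_succ, pow_succ, pow_one]; group
    rw [h1, hq.s_sq, ← hq.r_add]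
    have h5 := two_hh (n := n) hn1
    have : hh n * i + hh n * i = 0 := by linear_combination i * h5
    rw [this, hq.r_zero]

/-- the dihedral maximal subgroup is not commutative -/
theorem qd_D_not_comm [Finite S] (hq : QD S n x y) :
    y * r n x 2 ≠ r n x 2 * y := by
  intro hc
  have h1 := hq.conj_r 2
  rw [hc, mul_inv_cancel_right, hq.mm_two] at h1
  have h2 := hq.r_inj h1
  have h3 : (4 : ZMod (2 ^ n)) = 0 := by linear_combination h2
  have h4 : ((4 : ℕ) : ZMod (2 ^ n)) = 0 := by rw [Nat.cast_ofNat]; exact h3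
  rw [ZMod.natCast_eq_zero_iff] at h4
  have h5 : 2 ^ 3 ≤ 2 ^ n := Nat.pow_le_pow_right (by norm_num) hq.hn
  have := Nat.le_of_dvd (by norm_num) h4
  omega

end QDfacts

/-- an element of odd order acts trivially on a normal subgroup whose automorphism group
is a 2-group -/
theorem centralizes_of_odd_of_aut_two {Γ : Type*} [Group Γ] (D₀ : Subgroup Γ) [D₀.Normal]
    (hAut : IsPGroup 2 (MulAut ↥D₀)) (g : Γ) {m : ℕ} (hm : Odd m) (hg : g ^ m = 1) :
    ∀ d ∈ D₀, g * d * g⁻¹ = d := by
  have h1 : (MulAut.conjNormal g : MulAut ↥D₀) ^ m = 1 := by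
    rw [← map_pow, hg, map_one]
  obtain ⟨k, hk⟩ := hAut (MulAut.conjNormal g : MulAut ↥D₀)
  have h2 := (pow_gcd_eq_one (a := (MulAut.conjNormal g : MulAut ↥D₀)) (m := 2 ^ k) (n := m)).mpr
    ⟨hk, h1⟩
  have hg1 : Nat.gcd (2 ^ k) m = 1 := by
    rw [← Nat.coprime_iff_gcd_eq_one]
    apply Nat.Coprime.pow_left
    rw [Nat.Prime.coprime_iff_not_dvd Nat.prime_two]
    intro hd
    obtain ⟨j, hj⟩ := hm
    omega
  rw [hg1, pow_one] at h2
  intro d hd
  have h3 := MulAut.conjNormal_apply (H := D₀) g ⟨d, hd⟩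
  rw [h2] at h3
  exact h3.symm

/-- a finite simple nonabelian group has no subgroup of index two -/
theorem index_ne_two_of_simple {G : Type*} [Group G] [Finite G] [IsSimpleGroup G]
    (hna : ¬ IsMulCommutative G) (H : Subgroup G) : H.index ≠ 2 := by
  intro hH
  haveI : H.Normal := Subgroup.normal_of_index_eq_two hH
  rcases Subgroup.Normal.eq_bot_or_eq_top (H := H) inferInstance with h | h
  · rw [h, Subgroup.index_bot] at hH
    haveI : Fact (Nat.Prime 2) := ⟨Nat.prime_two⟩
    haveI : IsCyclic G := isCyclic_of_prime_card hH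
    exact hna ⟨⟨fun a b => comm_of_isCyclic' a b⟩⟩
  · rw [h, Subgroup.index_top] at hH
    omega

theorem not_quasiDihedral {G : Type*} [Group G] [Finite G] [IsSimpleGroup G]
    (hna : ¬ IsMulCommutative G)
    (h : ∀ H : Subgroup G, ¬ IsCyclic ↥H → Subgroup.centralizer (H : Set G) ≤ H)
    (S : Sylow 2 G) (hS : Cfsg.IsQuasiDihedral ↥(S : Subgroup G)) : False := by
  classical
  haveI : Fact (Nat.Prime 2) := ⟨Nat.prime_two⟩
  obtain ⟨n, x, y, hq⟩ := exists_QD hS
  have hn3 : 3 ≤ n := hq.hn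
  have hn1 : 1 ≤ n := by omega
  -- the central involution
  obtain ⟨tS, htSdef⟩ : ∃ tS : ↥(S : Subgroup G), tS = r n x (hh n) := ⟨_, rfl⟩
  have htSo : orderOf tS = 2 := by rw [htSdef]; exact hq.orderOf_rh
  have htSc : tS ∈ Subgroup.center ↥(S : Subgroup G) := by rw [htSdef]; exact hq.rh_mem_center
  obtain ⟨t, htdef⟩ : ∃ t : G, t = (tS : G) := ⟨_, rfl⟩
  have hto : orderOf t = 2 := by rw [htdef, Subgroup.orderOf_coe]; exact htSo
  have htt : t * t = 1 := by
    have := pow_orderOf_eq_one t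
    rwa [hto, pow_two] at this
  have hSC : (S : Subgroup G) ≤ Subgroup.centralizer ({t} : Set G) := by
    intro g hg
    rw [Subgroup.mem_centralizer_iff]
    intro z hz
    rw [Set.mem_singleton_iff] at hz
    rw [hz, htdef]
    have := (Subgroup.mem_center_iff.mp htSc) ⟨g, hg⟩
    have h2 := congrArg Subtype.val this
    simpa using h2.symm
  have hmemC : ∀ g : G, g ∈ Subgroup.centralizer ({t} : Set G) ↔ g * t = t * g := by
    intro g
    rw [Subgroup.mem_centralizer_iff]
    constructor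
    · intro hg; exact (hg t (Set.mem_singleton t)).symm
    · intro hg z hz
      rw [Set.mem_singleton_iff] at hz
      rw [hz]; exact hg.symm
  -- the subgroup `D'`
  obtain ⟨D', hD'def⟩ : ∃ D' : Subgroup G, D' = hq.D.map (S : Subgroup G).subtype := ⟨_, rfl⟩
  have hD'S : D' ≤ (S : Subgroup G) := by
    rw [hD'def]; exact Subgroup.map_subtype_le _
  have hmemD' : ∀ g : G, g ∈ D' ↔ ∃ hg : g ∈ (S : Subgroup G), (⟨g, hg⟩ : ↥(S : Subgroup G)) ∈ hq.D := by
    intro g
    rw [hD'def]
    constructor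
    · rintro ⟨d, hd, rfl⟩
      exact ⟨d.2, hd⟩
    · rintro ⟨hg, hd⟩
      exact ⟨⟨g, hg⟩, hd, rfl⟩
  -- involutions of `S` lie in `D'`
  have hinvS : ∀ g : G, g ∈ (S : Subgroup G) → g * g = 1 → g ∈ D' := by
    intro g hg hgg
    rw [hmemD']
    refine ⟨hg, ?_⟩
    by_cases hg1 : g = 1
    · have : (⟨g, hg⟩ : ↥(S : Subgroup G)) = 1 := Subtype.ext hg1
      rw [this]; exact Subgroup.one_mem _
    · rw [← hq.closure_invol_eq]
      apply Subgroup.subset_closure
      show orderOf (⟨g, hg⟩ : ↥(S : Subgroup G)) = 2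
      apply orderOf_eq_prime
      · rw [pow_two]; exact Subtype.ext hgg
      · intro h1; exact hg1 (congrArg Subtype.val h1)
  -- (c1) involutions of `C` lie in `D'`
  have hinvC : ∀ g : G, g * t = t * g → g * g = 1 → g ∈ D' := by
    intro g hgt hgg
    exact hinvS g (invol_mem_sylow_of_star h hto S hSC hgg hgt) hgg
  -- (c2) `C` normalizes `D'`
  have hnormD' : ∀ c : G, c * t = t * c → ∀ d ∈ D', c * d * c⁻¹ ∈ D' := by
    intro c hct d hd
    obtain ⟨hdS, hdD⟩ := (hmemD' d).mp hd
    rw [← hq.closure_invol_eq] at hdD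
    have hcinv : c⁻¹ * t = t * c⁻¹ := (Commute.inv_left (show Commute c t from hct)).eq
    have key : ∀ d₀ : ↥(S : Subgroup G), d₀ ∈ Subgroup.closure {u : ↥(S : Subgroup G) | orderOf u = 2} →
        c * (d₀ : G) * c⁻¹ ∈ D' := by
      intro d₀ hd₀
      induction hd₀ using Subgroup.closure_induction with
      | mem u hu =>
        have hu2 : orderOf (u : G) = 2 := by rw [Subgroup.orderOf_coe]; exact hu
        have huu : (u : G) * (u : G) = 1 := by
          have := pow_orderOf_eq_one (u : G)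
          rwa [hu2, pow_two] at this
        have hut : (u : G) * t = t * (u : G) := (hmemC _).mp (hSC u.2)
        apply hinvC
        · calc c * (u : G) * c⁻¹ * t = c * (u : G) * (c⁻¹ * t) := by group
            _ = c * (u : G) * (t * c⁻¹) := by rw [hcinv]
            _ = c * ((u : G) * t) * c⁻¹ := by group
            _ = c * (t * (u : G)) * c⁻¹ := by rw [hut]
            _ = (c * t) * (u : G) * c⁻¹ := by group
            _ = (t * c) * (u : G) * c⁻¹ := by rw [hct]
            _ = t * (c * (u : G) * c⁻¹) := by group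
        · calc c * (u : G) * c⁻¹ * (c * (u : G) * c⁻¹) = c * ((u : G) * (u : G)) * c⁻¹ := by group
            _ = 1 := by rw [huu, mul_one, mul_inv_cancel]
      | one =>
        rw [Subgroup.coe_one, mul_one, mul_inv_cancel]
        exact Subgroup.one_mem _
      | mul a b _ _ iha ihb =>
        have : c * ((a * b : ↥(S : Subgroup G)) : G) * c⁻¹ =
            (c * (a : G) * c⁻¹) * (c * (b : G) * c⁻¹) := by
          rw [Subgroup.coe_mul]; group
        rw [this]
        exact Subgroup.mul_mem _ iha ihb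
      | inv a _ iha =>
        have : c * ((a⁻¹ : ↥(S : Subgroup G)) : G) * c⁻¹ = (c * (a : G) * c⁻¹)⁻¹ := by
          rw [Subgroup.coe_inv]; group
        rw [this]
        exact Subgroup.inv_mem _ iha
    exact key ⟨d, hdS⟩ hdD
  -- (c3) `D'` is not cyclic
  have hD'nc : ¬ IsCyclic ↥D' := by
    intro hc
    have hyD : ((y : ↥(S : Subgroup G)) : G) ∈ D' := (hmemD' _).mpr ⟨y.2, hq.y_mem_D⟩
    have hrD : ((r n x 2 : ↥(S : Subgroup G)) : G) ∈ D' := (hmemD' _).mpr ⟨(r n x 2).2, hq.r_two_mem_D⟩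
    have := comm_of_isCyclic' (⟨_, hyD⟩ : ↥D') ⟨_, hrD⟩
    have h2 := congrArg Subtype.val this
    apply qd_D_not_comm hq
    apply Subtype.ext
    simpa using h2
  have hcentD' : Subgroup.centralizer (D' : Set G) ≤ D' := h D' hD'nc
  -- (c4) odd order elements of `C` are trivial
  have hD'C : D' ≤ Subgroup.centralizer ({t} : Set G) := hD'S.trans hSC
  haveI hD₀n : (D'.subgroupOf (Subgroup.centralizer ({t} : Set G))).Normal := by
    constructor
    intro d hd c
    rw [Subgroup.mem_subgroupOf] at hd ⊢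
    have := hnormD' (c : G) ((hmemC _).mp c.2) (d : G) hd
    simpa using this
  obtain ⟨ψD⟩ := hq.D_iso
  have hD₀iso : Nonempty (↥(D'.subgroupOf (Subgroup.centralizer ({t} : Set G))) ≃*
      DihedralGroup (2 ^ (n - 1))) := by
    have e1 : ↥(D'.subgroupOf (Subgroup.centralizer ({t} : Set G))) ≃* ↥D' :=
      Subgroup.subgroupOfEquivOfLe hD'C
    have e2 : ↥hq.D ≃* ↥(hq.D.map (S : Subgroup G).subtype) :=
      Subgroup.equivMapOfInjective hq.D (S : Subgroup G).subtype
        (Subgroup.subtype_injective _)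
    have e3 : ↥D' ≃* ↥(hq.D.map (S : Subgroup G).subtype) := MulEquiv.subgroupCongr hD'def
    exact ⟨e1.trans (e3.trans (e2.symm.trans ψD))⟩
  obtain ⟨ψ⟩ := hD₀iso
  have hD₀p : IsPGroup 2 ↥(D'.subgroupOf (Subgroup.centralizer ({t} : Set G))) := by
    apply IsPGroup.of_card (n := n - 1 + 1)
    rw [Nat.card_congr ψ.toEquiv, DihedralGroup.nat_card, pow_succ']
  have h4le : 4 ≤ 2 ^ (n - 1) := by
    calc 4 = 2 ^ 2 := by norm_num
      _ ≤ 2 ^ (n - 1) := Nat.pow_le_pow_right (by norm_num) (by omega)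
  have hAut : IsPGroup 2 (MulAut ↥(D'.subgroupOf (Subgroup.centralizer ({t} : Set G)))) :=
    Cfsg.Agent.S3116.result hD₀p (Or.inl ⟨2 ^ (n - 1), h4le, ⟨ψ⟩⟩)
  have hodd_triv : ∀ g : G, g * t = t * g → ∀ m : ℕ, Odd m → g ^ m = 1 → g = 1 := by
    intro g hgt m hm hgm
    have hgC : g ∈ Subgroup.centralizer ({t} : Set G) := (hmemC g).mpr hgt
    have hgm' : (⟨g, hgC⟩ : ↥(Subgroup.centralizer ({t} : Set G))) ^ m = 1 := by
      apply Subtype.ext
      simpa using hgm
    have hact := centralizes_of_odd_of_aut_two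
      (D'.subgroupOf (Subgroup.centralizer ({t} : Set G))) hAut ⟨g, hgC⟩ hm hgm'
    have hgD' : g ∈ D' := by
      apply hcentD'
      rw [Subgroup.mem_centralizer_iff]
      intro d hd
      have hd' : (⟨d, hD'C hd⟩ : ↥(Subgroup.centralizer ({t} : Set G))) ∈
          D'.subgroupOf (Subgroup.centralizer ({t} : Set G)) := by
        rw [Subgroup.mem_subgroupOf]; exact hd
      have h1 := hact _ hd'
      have h2 := congrArg Subtype.val h1
      have h3 : g * d * g⁻¹ = d := by simpa using h2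
      calc d * g = (g * d * g⁻¹) * g := by rw [h3]
        _ = g * d := by group
    -- `g` is a 2-element of odd order
    obtain ⟨k, hk⟩ := S.isPGroup' ⟨g, hD'S hgD'⟩
    have hk' : g ^ (2 ^ k) = 1 := by
      have := congrArg Subtype.val hk
      simpa using this
    have h2 := (pow_gcd_eq_one (a := g) (m := 2 ^ k) (n := m)).mpr ⟨hk', hgm⟩
    have hg1 : Nat.gcd (2 ^ k) m = 1 := by
      rw [← Nat.coprime_iff_gcd_eq_one]
      apply Nat.Coprime.pow_left
      rw [Nat.Prime.coprime_iff_not_dvd Nat.prime_two]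
      intro hd
      obtain ⟨j, hj⟩ := hm
      omega
    rwa [hg1, pow_one] at h2
  -- (c6) `C = S`
  have hCp : IsPGroup 2 ↥(Subgroup.centralizer ({t} : Set G)) := by
    intro g
    have ho : orderOf (g : G) ≠ 0 := (orderOf_pos (g : G)).ne'
    obtain ⟨e, m, hm, hom⟩ := Nat.exists_eq_two_pow_mul_odd ho
    refine ⟨e, ?_⟩
    apply Subtype.ext
    rw [Subgroup.coe_pow, Subgroup.coe_one]
    have hgt : (g : G) * t = t * (g : G) := (hmemC _).mp g.2
    apply hodd_triv ((g : G) ^ (2 ^ e)) _ m hm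
    · rw [← pow_mul, ← hom]; exact pow_orderOf_eq_one _
    · exact ((Commute.pow_left (show Commute (g : G) t from hgt)) _).eq
  have hCS : Subgroup.centralizer ({t} : Set G) = (S : Subgroup G) := S.is_maximal' hCp hSC
  -- Step d
  obtain ⟨u, hudef⟩ : ∃ u : ↥(S : Subgroup G), u = s n x y 1 := ⟨_, rfl⟩
  have huo : orderOf u = 4 := by rw [hudef]; exact hq.orderOf_s_odd odd_one
  have huu : u * u = tS := by rw [hudef, htSdef]; exact hq.s_sq_odd odd_one
  have huoG : orderOf (u : G) = 2 ^ 2 := by rw [Subgroup.orderOf_coe, huo]; norm_num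
  have hev : Even (Nat.card G) := by
    rw [even_iff_two_dvd, ← hto]
    exact orderOf_dvd_natCard t
  have hrel : D'.relIndex (S : Subgroup G) = 2 := by
    have h1 : D'.subgroupOf (S : Subgroup G) = hq.D := by
      rw [hD'def]
      exact Subgroup.comap_map_eq_self_of_injective (Subgroup.subtype_injective _) _
    show (D'.subgroupOf (S : Subgroup G)).index = 2
    rw [h1]; exact hq.index_D
  have hord : ∀ g ∈ (S : Subgroup G), g ∉ D' → 2 ^ (2 - 1) < orderOf g := by
    intro g hg hgD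
    by_contra hlt
    push_neg at hlt
    have hpos : 0 < orderOf g := orderOf_pos g
    apply hgD
    apply hinvS g hg
    have h2 : orderOf g ∣ 2 := by
      have hle : orderOf g ≤ 2 := by simpa using hlt
      interval_cases hh' : orderOf g
      · exact one_dvd 2
      · exact dvd_refl 2
    have := orderOf_dvd_iff_pow_eq_one.mp h2
    rwa [pow_two] at this
  obtain ⟨g, hg⟩ := Cfsg.Agent.S3225.result hev (index_ne_two_of_simple hna) S D' hD'S hrel 2
    (by norm_num) hord (u : G) u.2 huoG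
  obtain ⟨hvS, hvD⟩ := (hmemD' _).mp hg
  -- the conjugate has order four and lies in `D`, so it is a power of `x`
  have hvo : orderOf (⟨g * (u : G) * g⁻¹, hvS⟩ : ↥(S : Subgroup G)) = 4 := by
    rw [← Subgroup.orderOf_coe]
    show orderOf (g * (u : G) * g⁻¹) = 4
    have := (MulAut.conj g).orderOf_eq (u : G)
    rw [MulAut.conj_apply] at this
    rw [this, huoG]; norm_num
  have hvr : ∃ k, (⟨g * (u : G) * g⁻¹, hvS⟩ : ↥(S : Subgroup G)) = r n x k := by
    rcases hq.order4_cases hvo with h1 | h1 | ⟨i, hi, h1⟩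
    · exact ⟨_, h1⟩
    · exact ⟨_, h1⟩
    · exfalso
      rw [h1, hq.mem_D_s] at hvD
      exact not_even_and_odd hn1 i ⟨hvD, hi⟩
  obtain ⟨k, hk⟩ := hvr
  have hxv : x * r n x k = r n x k * x := by
    have := hq.r_conj_r 1 k
    rw [hq.r_one] at this
    calc x * r n x k = (x * r n x k * x⁻¹) * x := by group
      _ = r n x k * x := by rw [this]
  rw [← hk] at hxv
  have hxvG : (x : G) * (g * (u : G) * g⁻¹) = (g * (u : G) * g⁻¹) * (x : G) := by
    have := congrArg Subtype.val hxv
    simpa using this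
  obtain ⟨x₁, hx₁def⟩ : ∃ x₁ : G, x₁ = g⁻¹ * (x : G) * g := ⟨_, rfl⟩
  have hx₁u : x₁ * (u : G) = (u : G) * x₁ := by
    rw [hx₁def]
    calc g⁻¹ * (x : G) * g * (u : G) = g⁻¹ * ((x : G) * (g * (u : G) * g⁻¹)) * g := by group
      _ = g⁻¹ * ((g * (u : G) * g⁻¹) * (x : G)) * g := by rw [hxvG]
      _ = (u : G) * (g⁻¹ * (x : G) * g) := by group
  have huuG : (u : G) * (u : G) = t := by
    rw [htdef, ← huu]; rfl
  have hx₁t : x₁ * t = t * x₁ := by
    rw [← huuG]
    calc x₁ * ((u : G) * (u : G)) = (x₁ * (u : G)) * (u : G) := by group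
      _ = ((u : G) * x₁) * (u : G) := by rw [hx₁u]
      _ = (u : G) * (x₁ * (u : G)) := by group
      _ = (u : G) * ((u : G) * x₁) := by rw [hx₁u]
      _ = (u : G) * (u : G) * x₁ := by group
  have hx₁S : x₁ ∈ (S : Subgroup G) := by
    rw [← hCS]; exact (hmemC _).mpr hx₁t
  have h4 := qd_pow_four_of_comm hq ⟨x₁, hx₁S⟩ (by rw [← hudef]; exact Subtype.ext hx₁u)
  have h4G : x₁ ^ 4 = 1 := by
    have := congrArg Subtype.val h4
    simpa using this
  have hx4 : (x : G) ^ 4 = 1 := by
    have hx : (x : G) = g * x₁ * g⁻¹ := by rw [hx₁def]; group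
    rw [hx, conj_pow, h4G, mul_one, mul_inv_cancel]
  have hx4' : x ^ 4 = 1 := Subtype.ext (by simpa using hx4)
  have hdvd := orderOf_dvd_of_pow_eq_one hx4'
  rw [hq.ox] at hdvd
  have h5 : 2 ^ 3 ≤ 2 ^ n := Nat.pow_le_pow_right (by norm_num) hn3
  have := Nat.le_of_dvd (by norm_num) hdvd
  omega

end Cfsg.Agent.Lib.Helper1.NCyc
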