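import Mathlib
import Cfsg.Agent.Lib.Helper8.NG5Defs
import Cfsg.Agent.Lib.Helper6.NG5U10
import Cfsg.Agent.Lib.Helper6.NG5U21
import Cfsg.Agent.Lib.Helper6.NG5U22

set_option autoImplicit false
open scoped commutatorElement

namespace Cfsg.Agent.Lib.Helper1.NG5U25

open Cfsg.Agent.Lib.Helper8.NG5

section general

variable {X : Type*} [Group X]

/-- The elements of an abelian subgroup killed by `m`. -/
def omegaSub (N : Subgroup X) (hN : ∀ v ∈ N, ∀ v' ∈ N, v * v' = v' * v) (m : ℕ) : Subgroup X where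
  carrier := {v | v ∈ N ∧ v ^ m = 1}
  mul_mem' := by
    rintro v v' ⟨hv, h1⟩ ⟨hv', h1'⟩
    refine ⟨N.mul_mem hv hv', ?_⟩
    have hc : Commute v v' := hN v hv v' hv'
    rw [hc.mul_pow, h1, h1', one_mul]
  one_mem' := ⟨N.one_mem, one_pow m⟩
  inv_mem' := by
    rintro v ⟨hv, h1⟩
    exact ⟨N.inv_mem hv, by rw [inv_pow, h1, inv_one]⟩

theorem mem_omegaSub {N : Subgroup X} {hN : ∀ v ∈ N, ∀ v' ∈ N, v * v' = v' * v} {m : ℕ} {v : X} :
    v ∈ omegaSub N hN m ↔ v ∈ N ∧ v ^ m = 1 := Iff.rfl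

theorem omegaSub_normal {N : Subgroup X} (hN : ∀ v ∈ N, ∀ v' ∈ N, v * v' = v' * v) (m : ℕ)
    (hNn : N.Normal) : (omegaSub N hN m).Normal := by
  constructor
  rintro v ⟨hv, h1⟩ g
  exact ⟨hNn.conj_mem v hv g, by rw [conj_pow, h1]; group⟩

/-- The squaring homomorphism of an abelian subgroup. -/
def sqHom (B : Subgroup X) (hB : ∀ v ∈ B, ∀ v' ∈ B, v * v' = v' * v) : B →* X where
  toFun u := (u : X) ^ 2
  map_one' := by simp
  map_mul' u u' := by
    have hc : Commute (u : X) (u' : X) := hB u u.2 u' u'.2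
    simp [hc.mul_pow]

theorem card_eq_card_mul_card_sq [Finite X] {B E : Subgroup X}
    (hB : ∀ v ∈ B, ∀ v' ∈ B, v * v' = v' * v) (hEB : E ≤ B)
    (hE : ∀ u ∈ B, u ^ 2 = 1 ↔ u ∈ E) :
    ∃ Q : Subgroup X, (∀ v, v ∈ Q ↔ ∃ u ∈ B, u ^ 2 = v) ∧ Nat.card B = Nat.card E * Nat.card Q := by
  refine ⟨(sqHom B hB).range, fun v => ?_, ?_⟩
  · rw [MonoidHom.mem_range]
    constructor
    · rintro ⟨u, hu⟩
      exact ⟨u, u.2, hu⟩
    · rintro ⟨u, hu, huv⟩
      exact ⟨⟨u, hu⟩, huv⟩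
  · have h1 := Subgroup.card_mul_index (sqHom B hB).ker
    rw [Subgroup.index_ker] at h1
    have h2 : (sqHom B hB).ker = E.subgroupOf B := by
      ext u
      rw [MonoidHom.mem_ker, Subgroup.mem_subgroupOf]
      exact hE u u.2
    have h3 : Nat.card (E.subgroupOf B) = Nat.card E :=
      Nat.card_congr (Subgroup.subgroupOfEquivOfLe hEB).toEquiv
    rw [h2, h3] at h1
    exact h1.symm

end general

variable {X : Type*} [Group X] [Finite X] {A : Subgroup (MulAut X)}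

/-- U25. -/
theorem exists_N (h : Hyp X A) {W Y : Subgroup X} (w : B2 X A W) (hY : IsY W Y)
    (h16 : Nat.card Y = 16) : ∃ N : Subgroup X, B2N0 X A W Y N := by
  obtain ⟨hYG, hWY, hYinv, -⟩ := Cfsg.Agent.Lib.Helper6.NG5U21.Y_facts h w hY
  have hWcomm : ∀ z ∈ W, ∀ g : X, z * g = g * z := fun z hz g =>
    (Subgroup.mem_center_iff.mp (w.central hz) g).symm
  -- Y is abelian
  have hYab : ∀ k ∈ Y, ∀ k' ∈ Y, k * k' = k' * k := by
    obtain ⟨c, hc⟩ := Cfsg.Agent.Lib.Helper6.NG5U10.comm_idx4 Y W hWY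
      (fun z hz k _ => hWcomm z hz k)
      (fun k hk k' _ k'' _ => hWcomm _ (((hY k).mp hk).2 k') k'')
      (by rw [h16, w.card])
    exact Cfsg.Agent.Lib.Helper6.NG5U22.comm_fixed h w Y hYG.2
      (fun k hk k' _ => ((hY k).mp hk).2 k') c hc
  -- sqW
  have hsqW : ∀ t ∈ W, ∃ y ∈ Y, y ^ 2 = t := by
    obtain ⟨Q, hQ, hcard⟩ := card_eq_card_mul_card_sq hYab hWY
      (fun u hu => ⟨fun h2 => hYinv u hu h2, fun hu' => w.exp u hu'⟩)
    rw [h16, w.card] at hcard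
    have hQW : Q ≤ W := by
      intro v hv
      obtain ⟨u, hu, rfl⟩ := (hQ v).mp hv
      exact ((hY u).mp hu).1
    have hQeq : Q = W := by
      apply Subgroup.eq_of_le_of_card_ge hQW
      rw [w.card]; omega
    intro t ht
    rw [← hQeq] at ht
    exact (hQ t).mp ht
  -- the maximal N
  obtain ⟨N, hYN, hNmax⟩ := Finite.exists_le_maximal
    (p := fun N' : Subgroup X => GNormal A N' ∧ (∀ v ∈ N', ∀ v' ∈ N', v * v' = v' * v) ∧ Y ≤ N')
    (a := Y) ⟨hYG, hYab, le_refl Y⟩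
  obtain ⟨⟨hNG, hNab, -⟩, hmax⟩ := hNmax
  have hWN : W ≤ N := hWY.trans hYN
  -- om1
  have hE : omegaSub N hNab 2 = W := by
    symm
    apply Subgroup.eq_of_le_of_card_ge
    · intro t ht
      exact ⟨hWN ht, w.exp t ht⟩
    · rw [w.card]
      exact h.ne _ (omegaSub_normal hNab 2 hNG.1) (fun e he => he.2)
  have hom1 : ∀ v ∈ N, v ^ 2 = 1 → v ∈ W := by
    intro v hv h2
    rw [← hE]; exact ⟨hv, h2⟩
  -- om2
  have hF : omegaSub N hNab 4 = Y := by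
    symm
    have hYF : Y ≤ omegaSub N hNab 4 := by
      intro y hy
      refine ⟨hYN hy, ?_⟩
      have := w.exp _ ((hY y).mp hy).1
      rw [← pow_mul] at this
      exact this
    apply Subgroup.eq_of_le_of_card_ge hYF
    have hFab : ∀ v ∈ omegaSub N hNab 4, ∀ v' ∈ omegaSub N hNab 4, v * v' = v' * v :=
      fun v hv v' hv' => hNab v hv.1 v' hv'.1
    have hWF : W ≤ omegaSub N hNab 4 := hWY.trans hYF
    obtain ⟨Q, hQ, hcard⟩ := card_eq_card_mul_card_sq hFab hWF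
      (fun u hu => ⟨fun h2 => hom1 u hu.1 h2, fun hu' => w.exp u hu'⟩)
    have hQW : Q ≤ W := by
      intro v hv
      obtain ⟨u, hu, rfl⟩ := (hQ v).mp hv
      apply hom1 _ (N.pow_mem hu.1 2)
      rw [← pow_mul]; exact hu.2
    have hQle : Nat.card Q ≤ 4 := by
      rw [← w.card]; exact Subgroup.card_le_of_le hQW
    rw [hcard, w.card, h16]
    omega
  have hom2 : ∀ v ∈ N, v ^ 4 = 1 → v ∈ Y := by
    intro v hv h4
    rw [← hF]; exact ⟨hv, h4⟩
  -- exQ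
  have hexQ : ∃ Q : Subgroup X, (∀ v : X, v ∈ Q ↔ ∃ u ∈ N, u ^ 2 = v) ∧
      Nat.card N = 4 * Nat.card Q := by
    obtain ⟨Q, hQ, hcard⟩ := card_eq_card_mul_card_sq hNab hWN
      (fun u hu => ⟨fun h2 => hom1 u hu h2, fun hu' => w.exp u hu'⟩)
    rw [w.card] at hcard
    exact ⟨Q, hQ, hcard⟩
  refine ⟨N, ⟨hNG, hNab, hYN, ?_, hom1, hom2, hsqW, hexQ⟩⟩
  intro N' hN'G hN'ab hNN'
  exact hmax ⟨hN'G, hN'ab, hYN.trans hNN'⟩ hNN'

end Cfsg.Agent.Lib.Helper1.NG5U25
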