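import Mathlib
import Cfsg.Agent.Lib.Helper8.NG5Defs
import Cfsg.Agent.Lib.Helper9.NG5U06

set_option autoImplicit false
open scoped commutatorElement

namespace Cfsg.Agent.Lib.Helper1.NG5U28

open Cfsg.Agent.Lib.Helper8.NG5

section general

variable {X : Type*} [Group X]

/-- `nu x v = v⁻¹ * (x⁻¹ v x)`. -/
def nu (x v : X) : X := v⁻¹ * (x⁻¹ * v * x)

theorem conj_eq_mul_nu (x v : X) : x⁻¹ * v * x = v * nu x v := by
  unfold nu; group

theorem nu_mem {N : Subgroup X} (hN : N.Normal) (x : X) {v : X} (hv : v ∈ N) : nu x v ∈ N := by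
  unfold nu
  refine N.mul_mem (N.inv_mem hv) ?_
  have := hN.conj_mem v hv x⁻¹
  simpa using this

theorem nu_one (x : X) : nu x 1 = 1 := by
  unfold nu; group

theorem nu_eq_one_of_comm {x v : X} (h : x * v = v * x) : nu x v = 1 := by
  unfold nu
  have : x⁻¹ * v * x = v := by
    rw [mul_assoc, ← h]; group
  rw [this]; group

theorem comm_of_nu_eq_one {x v : X} (h : nu x v = 1) : x * v = v * x := by
  unfold nu at h
  have h2 : x⁻¹ * v * x = v := by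
    have := congrArg (fun t => v * t) h
    simpa using this
  calc x * v = x * (x⁻¹ * v * x) := by rw [h2]
    _ = v * x := by group

theorem nu_map (φ : MulAut X) (x v : X) : nu (φ x) (φ v) = φ (nu x v) := by
  unfold nu; simp

theorem nu_comp {z₁ z₂ v : X} (hc : nu z₁ v ∈ Subgroup.center X) :
    nu (z₁ * z₂) v = nu z₁ v * nu z₂ v := by
  have h1 : z₁⁻¹ * v * z₁ = v * nu z₁ v := conj_eq_mul_nu z₁ v
  have hcomm : ∀ g : X, g * nu z₁ v = nu z₁ v * g := fun g => Subgroup.mem_center_iff.mp hc g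
  calc nu (z₁ * z₂) v = v⁻¹ * (z₂⁻¹ * (z₁⁻¹ * v * z₁) * z₂) := by unfold nu; group
    _ = v⁻¹ * (z₂⁻¹ * (v * nu z₁ v) * z₂) := by rw [h1]
    _ = v⁻¹ * (z₂⁻¹ * v * (nu z₁ v * z₂)) := by group
    _ = v⁻¹ * (z₂⁻¹ * v * (z₂ * nu z₁ v)) := by rw [hcomm z₂]
    _ = (v⁻¹ * (z₂⁻¹ * v * z₂)) * nu z₁ v := by group
    _ = nu z₂ v * nu z₁ v := rfl
    _ = nu z₁ v * nu z₂ v := hcomm _

theorem sq_mul_eq {x u : X} (hc : nu x u ∈ Subgroup.center X) :
    (x * u) ^ 2 = x ^ 2 * u ^ 2 * nu x u := by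
  have h1 : x⁻¹ * u * x = u * nu x u := conj_eq_mul_nu x u
  have hcomm : ∀ g : X, g * nu x u = nu x u * g := fun g => Subgroup.mem_center_iff.mp hc g
  calc (x * u) ^ 2 = x * x * ((x⁻¹ * u * x) * u) := by rw [pow_two]; group
    _ = x * x * ((u * nu x u) * u) := by rw [h1]
    _ = x * x * (u * (nu x u * u)) := by group
    _ = x * x * (u * (u * nu x u)) := by rw [← hcomm u]
    _ = x ^ 2 * u ^ 2 * nu x u := by rw [pow_two, pow_two]; group

theorem conj_pow_inv (x c : X) (m : ℕ) : x⁻¹ * c ^ m * x = (x⁻¹ * c * x) ^ m := by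
  have := conj_pow (a := x⁻¹) (b := c) (i := m)
  simpa using this.symm

/-- The ambient data. -/
structure Ctx (W Y N : Subgroup X) : Prop where
  pg : IsPGroup 2 X
  Nn : N.Normal
  comm : ∀ v ∈ N, ∀ v' ∈ N, v * v' = v' * v
  Wc : W ≤ Subgroup.center X
  Wexp : ∀ w ∈ W, w ^ 2 = 1
  hY : IsY W Y
  YN : Y ≤ N
  om1 : ∀ v ∈ N, v ^ 2 = 1 → v ∈ W
  om2 : ∀ v ∈ N, v ^ 4 = 1 → v ∈ Y
  sqW : ∀ w ∈ W, ∃ y ∈ Y, y ^ 2 = w

/-- Membership in the subgroup `M`. -/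
def InM (Y N : Subgroup X) (x : X) : Prop :=
  (∀ y ∈ Y, x * y = y * x) ∧ x ^ 2 ∈ N ∧ ∀ g : X, ⁅x, g⁆ ∈ N

variable {W Y N : Subgroup X}

theorem Ctx.WY (c : Ctx W Y N) : W ≤ Y := by
  intro t ht
  rw [c.hY t]
  refine ⟨?_, fun g => ?_⟩
  · rw [c.Wexp t ht]; exact W.one_mem
  · have hcomm := Subgroup.mem_center_iff.mp (c.Wc ht) g
    have : ⁅t, g⁆ = 1 := by
      rw [commutatorElement_def, ← hcomm]; group
    rw [this]; exact W.one_mem

theorem Ctx.WN (c : Ctx W Y N) : W ≤ N := c.WY.trans c.YN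

theorem InM.mul (hN : N.Normal) {x x' : X} (hx : InM Y N x) (hx' : InM Y N x') :
    InM Y N (x * x') := by
  refine ⟨fun y hy => ?_, ?_, fun g => ?_⟩
  · rw [mul_assoc, hx'.1 y hy, ← mul_assoc, hx.1 y hy, mul_assoc]
  · have h1 : (x * x') ^ 2 = (x * ⁅x', x⁆ * x⁻¹) * (x ^ 2 * x' ^ 2) := by
      rw [commutatorElement_def, pow_two, pow_two, pow_two]; group
    rw [h1]
    exact N.mul_mem (hN.conj_mem _ (hx'.2.2 x) x) (N.mul_mem hx.2.1 hx'.2.1)
  · have h1 : ⁅x * x', g⁆ = (x * ⁅x', g⁆ * x⁻¹) * ⁅x, g⁆ := by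
      rw [commutatorElement_def, commutatorElement_def, commutatorElement_def]; group
    rw [h1]
    exact N.mul_mem (hN.conj_mem _ (hx'.2.2 g) x) (hx.2.2 g)

theorem InM.of_mem (c : Ctx W Y N) {v : X} (hv : v ∈ N) : InM Y N v := by
  refine ⟨fun y hy => c.comm v hv y (c.YN hy), N.pow_mem hv 2, fun g => ?_⟩
  have h1 : ⁅v, g⁆ = v * (g * v⁻¹ * g⁻¹) := by
    rw [commutatorElement_def]; group
  rw [h1]
  exact N.mul_mem hv (c.Nn.conj_mem _ (N.inv_mem hv) g)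

theorem InM.map (φ : MulAut X) (hφY : ∀ y ∈ Y, φ.symm y ∈ Y) (hφN : ∀ v ∈ N, φ v ∈ N)
    {x : X} (hx : InM Y N x) : InM Y N (φ x) := by
  refine ⟨fun y hy => ?_, ?_, fun g => ?_⟩
  · have h1 := hx.1 _ (hφY y hy)
    have h2 := congrArg φ h1
    simpa using h2
  · rw [← map_pow]; exact hφN _ hx.2.1
  · have h1 : ⁅φ x, g⁆ = φ ⁅x, φ.symm g⁆ := by
      rw [map_commutatorElement]; simp
    rw [h1]; exact hφN _ (hx.2.2 _)

theorem InM.not_mem_mul {x u : X} (hx : x ∉ N) (hu : u ∈ N) : x * u ∉ N := by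
  intro h
  apply hx
  have := N.mul_mem h (N.inv_mem hu)
  simpa using this

theorem nu_conj_inv (c : Ctx W Y N) {x v : X} (hx2 : x ^ 2 ∈ N) (hv : v ∈ N) :
    x⁻¹ * nu x v * x = (nu x v)⁻¹ := by
  have hcm : v * (x * x) = (x * x) * v := by
    rw [pow_two] at hx2
    exact c.comm v hv _ hx2
  have h1 : x⁻¹ * nu x v * x = (x⁻¹ * v * x)⁻¹ * ((x * x)⁻¹ * (v * (x * x))) := by
    unfold nu; group
  rw [h1, hcm]
  unfold nu; group

theorem sq_one_of_inverted (c : Ctx W Y N) {x : X} (hxY : ∀ y ∈ Y, x * y = y * x) {d : X}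
    (hd : d ∈ N) (hinv : x⁻¹ * d * x = d⁻¹) : ∀ k : ℕ, d ^ (2 ^ (k + 1)) = 1 → d ^ 2 = 1 := by
  intro k
  induction k with
  | zero => intro h; simpa using h
  | succ k ih =>
    intro h
    apply ih
    -- d' = d^(2^k) has d'^4 = 1
    have h4 : (d ^ (2 ^ k)) ^ 4 = 1 := by
      rw [← pow_mul]
      have : 2 ^ k * 4 = 2 ^ (k + 1 + 1) := by ring
      rw [this]; exact h
    have hdY : d ^ (2 ^ k) ∈ Y := c.om2 _ (N.pow_mem hd _) h4
    have hcomm := hxY _ hdY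
    have h5 : x⁻¹ * d ^ (2 ^ k) * x = d ^ (2 ^ k) := by
      rw [mul_assoc, ← hcomm]; group
    have h6 : x⁻¹ * d ^ (2 ^ k) * x = (d ^ (2 ^ k))⁻¹ := by
      rw [conj_pow_inv, hinv, inv_pow]
    have h7 : d ^ (2 ^ k) = (d ^ (2 ^ k))⁻¹ := h5.symm.trans h6
    have h8 : d ^ (2 ^ k) * d ^ (2 ^ k) = 1 := by
      nth_rewrite 2 [h7]; group
    rw [← pow_add] at h8
    have : 2 ^ k + 2 ^ k = 2 ^ (k + 1) := by ring
    rw [this] at h8; exact h8

theorem nu_mem_W (c : Ctx W Y N) {x : X} (hx : InM Y N x) {v : X} (hv : v ∈ N) :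
    nu x v ∈ W := by
  have hdN : nu x v ∈ N := nu_mem c.Nn x hv
  have hinv := nu_conj_inv c hx.2.1 hv
  obtain ⟨k, hk⟩ := c.pg (nu x v)
  have hk' : nu x v ^ (2 ^ (k + 1)) = 1 := by
    rw [pow_succ, pow_mul, hk, one_pow]
  exact c.om1 _ hdN (sq_one_of_inverted c hx.1 hdN hinv k hk')

theorem nu_mem_center (c : Ctx W Y N) {x : X} (hx : InM Y N x) {v : X} (hv : v ∈ N) :
    nu x v ∈ Subgroup.center X := c.Wc (nu_mem_W c hx hv)

theorem nu_mul (c : Ctx W Y N) {x : X} (hx : InM Y N x) {v v' : X} (hv : v ∈ N)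
    (_hv' : v' ∈ N) : nu x (v * v') = nu x v * nu x v' := by
  have hcomm : ∀ g : X, g * nu x v = nu x v * g :=
    fun g => Subgroup.mem_center_iff.mp (nu_mem_center c hx hv) g
  calc nu x (v * v') = v'⁻¹ * (v⁻¹ * (x⁻¹ * v * x)) * (x⁻¹ * v' * x) := by unfold nu; group
    _ = v'⁻¹ * nu x v * (x⁻¹ * v' * x) := rfl
    _ = nu x v * v'⁻¹ * (x⁻¹ * v' * x) := by rw [hcomm]
    _ = nu x v * nu x v' := by unfold nu; group

theorem nu_sq (c : Ctx W Y N) {x : X} (hx : InM Y N x) {v : X} (hv : v ∈ N) :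
    nu x v * nu x v = 1 := by
  have := c.Wexp _ (nu_mem_W c hx hv)
  rwa [pow_two] at this

theorem nu_inv (c : Ctx W Y N) {x : X} (hx : InM Y N x) {v : X} (hv : v ∈ N) :
    nu x v⁻¹ = nu x v := by
  have h1 : nu x (v * v⁻¹) = nu x v * nu x v⁻¹ := nu_mul c hx hv (N.inv_mem hv)
  rw [mul_inv_cancel, nu_one] at h1
  have h2 := nu_sq c hx hv
  have : nu x v * nu x v⁻¹ = nu x v * nu x v := by rw [← h1, h2]
  exact mul_left_cancel this

/-- Step D: no involution in `M \ N`. -/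
theorem no_invol (c : Ctx W Y N) {g : X} (hgN : g ∉ N) (hg2 : g ^ 2 = 1) (hg : InM Y N g) :
    False := by
  apply hgN
  apply c.YN
  rw [c.hY g]
  refine ⟨by rw [hg2]; exact W.one_mem, fun k => ?_⟩
  have hginv : g⁻¹ = g := by
    rw [pow_two] at hg2
    exact inv_eq_of_mul_eq_one_left hg2
  have hgg : g * g = 1 := by rwa [pow_two] at hg2
  have hdN : ⁅g, k⁆ ∈ N := hg.2.2 k
  have h1 : k * g * k⁻¹ = g * ⁅g, k⁆ := by
    rw [commutatorElement_def]
    calc k * g * k⁻¹ = (g * g) * k * g * k⁻¹ := by rw [hgg, one_mul]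
      _ = g * (g * k * g⁻¹ * k⁻¹) := by rw [hginv]; group
  have h2 : (g * ⁅g, k⁆) * (g * ⁅g, k⁆) = 1 := by
    rw [← h1]
    calc k * g * k⁻¹ * (k * g * k⁻¹) = k * (g * g) * k⁻¹ := by group
      _ = 1 := by rw [hgg]; group
  have h3 : g * ⁅g, k⁆ * g = (⁅g, k⁆)⁻¹ := eq_inv_of_mul_eq_one_left (by rw [← h2]; group)
  have hinv : g⁻¹ * ⁅g, k⁆ * g = (⁅g, k⁆)⁻¹ := by rw [hginv]; exact h3
  obtain ⟨j, hj⟩ := c.pg ⁅g, k⁆
  have hj' : ⁅g, k⁆ ^ (2 ^ (j + 1)) = 1 := by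
    rw [pow_succ, pow_mul, hj, one_pow]
  exact c.om1 _ hdN (sq_one_of_inverted c hg.1 hdN hinv j hj')

/-- Surjectivity of `u ↦ a u * u⁻¹` on a finite `a`-invariant subgroup without fixed points. -/
theorem exists_delta [Finite X] (a : MulAut X) {K : Subgroup X} (haK : ∀ v ∈ K, a v ∈ K)
    (fpf : ∀ v ∈ K, a v = v → v = 1) {t : X} (ht : t ∈ K) : ∃ u ∈ K, a u * u⁻¹ = t := by
  let f : K → K := fun u => ⟨a u * (u : X)⁻¹, K.mul_mem (haK _ u.2) (K.inv_mem u.2)⟩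
  have hinj : Function.Injective f := by
    intro u u' huu
    have h1 : a u * (u : X)⁻¹ = a u' * (u' : X)⁻¹ := congrArg Subtype.val huu
    have h2 : a ((u' : X)⁻¹ * u) = (u' : X)⁻¹ * u := by
      rw [map_mul, map_inv]
      calc (a (u' : X))⁻¹ * a u = (a (u' : X))⁻¹ * (a u * (u : X)⁻¹) * u := by group
        _ = (a (u' : X))⁻¹ * (a u' * (u' : X)⁻¹) * u := by rw [h1]
        _ = (u' : X)⁻¹ * u := by group
    have h3 := fpf _ (K.mul_mem (K.inv_mem u'.2) u.2) h2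
    apply Subtype.ext
    have : (u' : X) = u := by
      have := inv_mul_eq_one.mp h3
      exact this
    exact this.symm
  have hsurj : Function.Surjective f := Finite.injective_iff_surjective.mp hinj
  obtain ⟨u, hu⟩ := hsurj ⟨t, ht⟩
  exact ⟨u, u.2, congrArg Subtype.val hu⟩

/-- Irreducibility of the action on `N / Q`. -/
theorem irr [Finite X] (a : MulAut X) (ha3 : ∀ t : X, a (a (a t)) = t) {Q K N : Subgroup X}
    (hQK : Q ≤ K) (hKN : K ≤ N) (hcard : Nat.card N = 4 * Nat.card Q)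
    (haQ : ∀ v ∈ Q, a v ∈ Q) (fpf : ∀ v ∈ N, a v = v → v = 1)
    {v₁ : X} (hv₁K : v₁ ∈ K) (hav₁K : a v₁ ∈ K) (hv₁Q : v₁ ∉ Q) : N ≤ K := by
  by_contra hNK
  have h1 : Q.relIndex K * K.relIndex N = Q.relIndex N :=
    Subgroup.relIndex_mul_relIndex Q K N hQK hKN
  have h2 : Q.relIndex N = 4 := by
    have h3 := Subgroup.relIndex_mul_relIndex (⊥ : Subgroup X) Q N bot_le (hQK.trans hKN)
    rw [Subgroup.relIndex_bot_left, Subgroup.relIndex_bot_left] at h3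
    have hpos : 0 < Nat.card Q := Nat.card_pos
    rw [hcard, mul_comm] at h3
    exact Nat.eq_of_mul_eq_mul_right hpos h3
  have h4 : Q.relIndex K ≠ 1 := by
    intro h
    exact hv₁Q (Subgroup.relIndex_eq_one.mp h hv₁K)
  have h5 : K.relIndex N ≠ 1 := by
    intro h
    exact hNK (Subgroup.relIndex_eq_one.mp h)
  have h6 : Q.relIndex K = 2 := by
    rw [h2] at h1
    have hle : Q.relIndex K ≤ 4 := Nat.le_of_dvd (by norm_num) ⟨_, h1.symm⟩
    have hle' : K.relIndex N ≤ 4 := Nat.le_of_dvd (by norm_num) ⟨_, by rw [mul_comm]; exact h1.symm⟩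
    generalize Q.relIndex K = A at h1 h4 hle ⊢
    generalize K.relIndex N = B at h1 h5 hle'
    interval_cases A <;> interval_cases B <;> simp_all
  have hav₁Q : a v₁ ∉ Q := by
    intro h
    apply hv₁Q
    have := haQ _ (haQ _ h)
    rwa [ha3] at this
  have h7 : v₁⁻¹ * a v₁ ∈ Q := by
    have hidx : (Q.subgroupOf K).index = 2 := h6
    have := Subgroup.mul_mem_iff_of_index_two hidx (a := ⟨v₁⁻¹, K.inv_mem hv₁K⟩)
      (b := ⟨a v₁, hav₁K⟩)
    rw [Subgroup.mem_subgroupOf, Subgroup.mem_subgroupOf, Subgroup.mem_subgroupOf] at this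
    apply this.mpr
    constructor
    · intro h
      exact absurd (by simpa using Q.inv_mem h) hv₁Q
    · intro h
      exact absurd h hav₁Q
  obtain ⟨u, huQ, hu⟩ := exists_delta a haQ (fun v hv => fpf v (hKN (hQK hv)))
    (Q.inv_mem h7)
  have h8 : a (v₁ * u) = v₁ * u := by
    rw [map_mul]
    calc a v₁ * a u = v₁ * (v₁⁻¹ * a v₁) * ((a u * u⁻¹) * u) := by group
      _ = v₁ * (v₁⁻¹ * a v₁) * ((v₁⁻¹ * a v₁)⁻¹ * u) := by rw [hu]
      _ = v₁ * u := by group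
  have h9 := fpf _ (N.mul_mem (hKN hv₁K) (hKN (hQK huQ))) h8
  apply hv₁Q
  have : v₁ = u⁻¹ := eq_inv_of_mul_eq_one_left h9
  rw [this]; exact Q.inv_mem huQ

end general

variable {X : Type*} [Group X] [Finite X] {A : Subgroup (MulAut X)}

/-- Case 2 of step E, after the relation: an involution in `x N` or `x` centralizes `N`. -/
theorem case2 {W Y N : Subgroup X} (c : Ctx W Y N) (n : B2N0 X A W Y N)
    (hself : ∀ x : X, (∀ v ∈ N, x * v = v * x) → x ∈ N) (a : MulAut X)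
    (haN : ∀ v ∈ N, a v ∈ N) (ha3 : ∀ t : X, a (a (a t)) = t)
    (fpf : ∀ v ∈ N, a v = v → v = 1) {x : X} (hxN : x ∉ N) (hx : InM Y N x)
    (hR : ∀ v ∈ N, nu x v * a (nu x (a (a v))) * a (a (nu x (a v))) = 1) : False := by
  have hx2N : x ^ 2 ∈ N := hx.2.1
  have hax2N : a (x ^ 2) ∈ N := haN _ hx2N
  have haax2N : a (a (x ^ 2)) ∈ N := haN _ hax2N
  -- nu x (x^2) = 1
  have hν1 : nu x (x ^ 2) = 1 := nu_eq_one_of_comm (by rw [pow_two]; group)
  -- s = v₁ * a v₁ * a² v₁ = 1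
  have hs : x ^ 2 * a (x ^ 2) * a (a (x ^ 2)) = 1 := by
    apply fpf _ (N.mul_mem (N.mul_mem hx2N hax2N) haax2N)
    rw [map_mul, map_mul, ha3]
    calc a (x ^ 2) * a (a (x ^ 2)) * x ^ 2 = x ^ 2 * (a (x ^ 2) * a (a (x ^ 2))) :=
          (n.comm _ hx2N _ (N.mul_mem hax2N haax2N)).symm
      _ = x ^ 2 * a (x ^ 2) * a (a (x ^ 2)) := (mul_assoc _ _ _).symm
  have hpq : nu x (a (x ^ 2)) * nu x (a (a (x ^ 2))) = 1 := by
    have h1 := congrArg (nu x) hs
    rw [nu_one, nu_mul c hx (N.mul_mem hx2N hax2N) haax2N, nu_mul c hx hx2N hax2N, hν1,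
      one_mul] at h1
    exact h1
  have hpp := nu_sq c hx hax2N
  have hqp : nu x (a (a (x ^ 2))) = nu x (a (x ^ 2)) := by
    have : nu x (a (x ^ 2)) * nu x (a (a (x ^ 2))) = nu x (a (x ^ 2)) * nu x (a (x ^ 2)) := by
      rw [hpq, hpp]
    exact mul_left_cancel this
  have hp1 : nu x (a (x ^ 2)) = 1 := by
    have hr := hR _ hx2N
    rw [hν1, one_mul, hqp, ← map_mul, ← map_one a] at hr
    have hr2 := a.injective hr
    -- p * a p = 1, p * p = 1 ⇒ a p = p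
    have : nu x (a (x ^ 2)) * a (nu x (a (x ^ 2))) = nu x (a (x ^ 2)) * nu x (a (x ^ 2)) := by
      rw [hr2, hpp]
    have hfix := mul_left_cancel this
    exact fpf _ (c.WN (nu_mem_W c hx hax2N)) hfix
  have hq1 : nu x (a (a (x ^ 2))) = 1 := hqp.trans hp1
  obtain ⟨Q, hQ, hcard⟩ := n.exQ
  by_cases hv₁Q : x ^ 2 ∈ Q
  · -- an involution in x N
    obtain ⟨u₀, hu₀N, hu₀⟩ := (hQ _).mp hv₁Q
    obtain ⟨y₀, hy₀Y, hy₀⟩ := c.sqW _ (nu_mem_W c hx hu₀N)
    have hy₀N : y₀ ∈ N := c.YN hy₀Y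
    have huN : u₀⁻¹ * y₀ ∈ N := N.mul_mem (N.inv_mem hu₀N) hy₀N
    apply no_invol c (InM.not_mem_mul hxN huN) ?_ (InM.mul c.Nn hx (InM.of_mem c huN))
    rw [sq_mul_eq (nu_mem_center c hx huN), nu_mul c hx (N.inv_mem hu₀N) hy₀N,
      nu_inv c hx hu₀N, nu_eq_one_of_comm (hx.1 _ hy₀Y), mul_one]
    have h1 : (u₀⁻¹ * y₀) ^ 2 = (u₀ ^ 2)⁻¹ * y₀ ^ 2 := by
      rw [pow_two, pow_two, pow_two]
      have := n.comm _ hy₀N _ (N.inv_mem hu₀N)
      calc u₀⁻¹ * y₀ * (u₀⁻¹ * y₀) = u₀⁻¹ * (y₀ * u₀⁻¹) * y₀ := by group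
        _ = u₀⁻¹ * (u₀⁻¹ * y₀) * y₀ := by rw [this]
        _ = (u₀ * u₀)⁻¹ * (y₀ * y₀) := by group
    rw [h1, hu₀, hy₀, mul_assoc, mul_assoc ((x ^ 2)⁻¹), nu_sq c hx hu₀N, mul_one, mul_inv_cancel]
  · -- x centralizes N
    apply hxN
    apply hself
    let K : Subgroup X :=
      { carrier := {v | v ∈ N ∧ nu x v = 1 ∧ nu x (a v) = 1 ∧ nu x (a (a v)) = 1}
        mul_mem' := by
          rintro v v' ⟨hv, h1, h2, h3⟩ ⟨hv', h1', h2', h3'⟩
          refine ⟨N.mul_mem hv hv', ?_, ?_, ?_⟩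
          · rw [nu_mul c hx hv hv', h1, h1', one_mul]
          · rw [map_mul, nu_mul c hx (haN _ hv) (haN _ hv'), h2, h2', one_mul]
          · rw [map_mul, map_mul, nu_mul c hx (haN _ (haN _ hv)) (haN _ (haN _ hv')), h3, h3',
              one_mul]
        one_mem' := by
          refine ⟨N.one_mem, nu_one x, ?_, ?_⟩
          · rw [map_one]; exact nu_one x
          · rw [map_one, map_one]; exact nu_one x
        inv_mem' := by
          rintro v ⟨hv, h1, h2, h3⟩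
          refine ⟨N.inv_mem hv, ?_, ?_, ?_⟩
          · rw [nu_inv c hx hv, h1]
          · rw [map_inv, nu_inv c hx (haN _ hv), h2]
          · rw [map_inv, map_inv, nu_inv c hx (haN _ (haN _ hv)), h3] }
    have hKN : K ≤ N := fun v hv => hv.1
    have hQK : Q ≤ K := by
      intro v hv
      obtain ⟨u, huN, hu⟩ := (hQ v).mp hv
      subst hu
      refine ⟨N.pow_mem huN 2, ?_, ?_, ?_⟩
      · rw [pow_two, nu_mul c hx huN huN, nu_sq c hx huN]
      · rw [map_pow, pow_two, nu_mul c hx (haN _ huN) (haN _ huN), nu_sq c hx (haN _ huN)]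
      · rw [map_pow, map_pow, pow_two, nu_mul c hx (haN _ (haN _ huN)) (haN _ (haN _ huN)),
          nu_sq c hx (haN _ (haN _ huN))]
    have haQ : ∀ v ∈ Q, a v ∈ Q := by
      intro v hv
      obtain ⟨u, huN, hu⟩ := (hQ v).mp hv
      rw [hQ]
      exact ⟨a u, haN _ huN, by rw [← map_pow, hu]⟩
    have hv₁K : x ^ 2 ∈ K := ⟨hx2N, hν1, hp1, hq1⟩
    have hav₁K : a (x ^ 2) ∈ K := ⟨hax2N, hp1, hq1, by rw [ha3]; exact hν1⟩
    have hNK : N ≤ K := irr a ha3 hQK hKN hcard haQ fpf hv₁K hav₁K hv₁Q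
    intro v hv
    exact comm_of_nu_eq_one (hNK hv).2.1

/-- U28. -/
theorem case_T_big (h : Hyp X A) {W Y N : Subgroup X} (w : B2 X A W) (hY : IsY W Y)
    (h16 : Nat.card Y = 16) (n : B2N0 X A W Y N)
    (hself : ∀ x : X, (∀ v ∈ N, x * v = v * x) → x ∈ N) (a : MulAut X) (ha : B2A X A N a)
    (hT : ∃ x : X, x ∉ N ∧ ∀ y ∈ Y, x * y = y * x) : False := by
  have c : Ctx W Y N :=
    ⟨h.pg, n.gn.1, n.comm, w.central, w.exp, hY, n.YN, n.om1, n.om2, n.sqW⟩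
  -- Y is A-invariant
  have hYA : ∀ φ ∈ A, ∀ y ∈ Y, φ y ∈ Y := by
    intro φ hφ y hy
    rw [hY] at hy ⊢
    refine ⟨?_, fun g => ?_⟩
    · rw [← map_pow]; exact w.inv φ hφ _ hy.1
    · have h1 : ⁅φ y, g⁆ = φ ⁅y, φ.symm g⁆ := by rw [map_commutatorElement]; simp
      rw [h1]; exact w.inv φ hφ _ (hy.2 _)
  have hYn : Y.Normal := by
    constructor
    intro y hy g
    have h1 : g * y * g⁻¹ = (⁅y, g⁆)⁻¹ * y := by
      rw [commutatorElement_def]; group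
    rw [h1]
    exact Y.mul_mem (Y.inv_mem (c.WY (((hY y).mp hy).2 g))) hy
  have hKn : (Subgroup.centralizer (Y : Set X)).Normal := by
    have := hYn
    exact Subgroup.normal_centralizer
  have hNK : N ≤ Subgroup.centralizer (Y : Set X) := by
    intro v hv
    rw [Subgroup.mem_centralizer_iff]
    intro y hy
    exact n.comm y (n.YN hy) v hv
  have hne : ¬ Subgroup.centralizer (Y : Set X) ≤ N := by
    obtain ⟨x, hxN, hxY⟩ := hT
    intro hle
    apply hxN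
    apply hle
    rw [Subgroup.mem_centralizer_iff]
    intro y hy
    exact (hxY y hy).symm
  obtain ⟨x, hxK, hxN, hx2, hxc⟩ :=
    Cfsg.Agent.Lib.Helper9.NG5U06.socle h.pg N _ n.gn.1 hKn hNK hne
  have hx : InM Y N x := by
    refine ⟨fun y hy => ?_, hx2, hxc⟩
    rw [Subgroup.mem_centralizer_iff] at hxK
    exact (hxK y hy).symm
  have haN : ∀ v ∈ N, a v ∈ N := n.gn.2 a ha.mem
  have haY : ∀ y ∈ Y, a.symm y ∈ Y := by
    intro y hy
    exact hYA a⁻¹ (A.inv_mem ha.mem) y hy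
  have ha3 : ∀ t : X, a (a (a t)) = t := by
    intro t
    have := DFunLike.congr_fun ha.cube t
    simpa [pow_succ, MulAut.mul_apply] using this
  have hx1 : InM Y N (a x) := InM.map a haY haN hx
  have hx2' : InM Y N (a (a x)) := InM.map a haY haN hx1
  have hp : InM Y N (a x * a (a x)) := InM.mul c.Nn hx1 hx2'
  have hy : InM Y N (x * (a x * a (a x))) := InM.mul c.Nn hx hp
  have hay : a (x * (a x * a (a x))) = ⁅a x * a (a x), x⁆ * (x * (a x * a (a x))) := by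
    rw [map_mul, map_mul, ha3, commutatorElement_def]; group
  by_cases hyN : x * (a x * a (a x)) ∈ N
  · -- Case 2
    apply case2 c n hself a haN ha3 ha.fpf hxN hx
    intro v hv
    have h1 : nu (x * (a x * a (a x))) v = 1 := nu_eq_one_of_comm (n.comm _ hyN _ hv)
    rw [nu_comp (nu_mem_center c hx hv), nu_comp (nu_mem_center c hx1 hv)] at h1
    have h2 : nu (a x) v = a (nu x (a (a v))) := by
      rw [← nu_map, ha3]
    have h3 : nu (a (a x)) v = a (a (nu x (a v))) := by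
      rw [← nu_map, ← nu_map, ha3]
    rw [h2, h3, ← mul_assoc] at h1
    exact h1
  · -- Case 1
    set y := x * (a x * a (a x)) with hydef
    have hcN : ⁅a x * a (a x), x⁆ ∈ N := hp.2.2 x
    have htN : y⁻¹ * (⁅a x * a (a x), x⁆)⁻¹ * y ∈ N := by
      have := c.Nn.conj_mem _ (N.inv_mem hcN) y⁻¹
      simpa using this
    obtain ⟨u, huN, hu⟩ := exists_delta a haN ha.fpf htN
    have hgfix : a (y * u) = y * u := by
      rw [map_mul, hay]
      calc ⁅a x * a (a x), x⁆ * y * a u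
          = ⁅a x * a (a x), x⁆ * y * ((a u * u⁻¹) * u) := by group
        _ = ⁅a x * a (a x), x⁆ * y * ((y⁻¹ * (⁅a x * a (a x), x⁆)⁻¹ * y) * u) := by rw [hu]
        _ = y * u := by group
    have hg : InM Y N (y * u) := InM.mul c.Nn hy (InM.of_mem c huN)
    apply no_invol c (InM.not_mem_mul hyN huN) ?_ hg
    apply ha.fpf _ hg.2.1
    rw [map_pow, hgfix]

end Cfsg.Agent.Lib.Helper1.NG5U28
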