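import Mathlib
import Cfsg.Agent.Lib.Helper1.Dickson16
import Cfsg.Agent.Lib.Helper1.SL2Three6
import Cfsg.Agent.Lib.Helper4.SLCard
set_option autoImplicit false
universe u
namespace Cfsg.Agent.Lib.Helper1.NatMod

open Cfsg.Agent.Lib.Helper1.SL2Three Cfsg.Agent.Lib.Helper1.Dickson

variable {F : Type u} [Field F]

local notation "SL2" => Matrix.SpecialLinearGroup (Fin 2) F
local notation "M2" => Matrix (Fin 2) (Fin 2) F

theorem mulVec_zero_eq (g : SL2) (v : Fin 2 → F) :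
    ((g : M2).mulVec v) 0 = ea g * v 0 + eb g * v 1 := by
  simp [ea, eb, Matrix.mulVec, dotProduct, Fin.sum_univ_two]

theorem mulVec_one_eq (g : SL2) (v : Fin 2 → F) :
    ((g : M2).mulVec v) 1 = ec g * v 0 + ed g * v 1 := by
  simp [ec, ed, Matrix.mulVec, dotProduct, Fin.sum_univ_two]

theorem vec_ext {v w : Fin 2 → F} (h0 : v 0 = w 0) (h1 : v 1 = w 1) : v = w := by
  ext i; fin_cases i
  · exact h0
  · exact h1

theorem mem_Usub_iff (g : SL2) : g ∈ Usub F ↔ ea g = 1 ∧ ec g = 0 ∧ ed g = 1 := by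
  constructor
  · rintro ⟨s, rfl⟩
    exact ⟨ea_xmat s, ec_xmat s, ed_xmat s⟩
  · rintro ⟨h1, h2, h3⟩
    refine ⟨eb g, ?_⟩
    apply ext_entries
    · rw [h1, ea_xmat]
    · rw [eb_xmat]
    · rw [h2, ec_xmat]
    · rw [h3, ed_xmat]

theorem xmat_mem_Usub (s : F) : xmat F s ∈ Usub F := ⟨s, rfl⟩

theorem card_Usub [Fintype F] : Nat.card (Usub F) = Fintype.card F := by
  rw [← Nat.card_eq_fintype_card]
  symm
  apply Nat.card_congr
  refine Equiv.ofBijective (fun s => ⟨xmat F s, xmat_mem_Usub s⟩) ⟨?_, ?_⟩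
  · intro s t h
    exact xmat_injective (congrArg Subtype.val h)
  · rintro ⟨_, s, rfl⟩
    exact ⟨s, rfl⟩

theorem conj_mem_Usub_of_ec (g : SL2) (hc : ec g = 0) {u : SL2} (hu : u ∈ Usub F) :
    g * u * g⁻¹ ∈ Usub F := by
  obtain ⟨s, rfl⟩ := hu
  rw [mem_Usub_iff, ea_conj, ec_conj, ed_conj, hc]
  refine ⟨by ring, by ring, by ring⟩

theorem ec_eq_zero_of_conj_mem (g : SL2) (h : g * xmat F 1 * g⁻¹ ∈ Usub F) : ec g = 0 := by
  rw [mem_Usub_iff, ec_conj] at h
  have h2 : ec g * ec g = 0 := by linear_combination -h.2.1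
  exact mul_self_eq_zero.mp h2

/-- the diagonal element -/
def dmat (a : Fˣ) : SL2 :=
  ⟨!![(a : F), 0; 0, ((a⁻¹ : Fˣ) : F)], by simp [Matrix.det_fin_two]⟩

@[simp] theorem ea_dmat (a : Fˣ) : ea (dmat a) = (a : F) := by simp [ea, dmat]
@[simp] theorem eb_dmat (a : Fˣ) : eb (dmat a) = 0 := by simp [eb, dmat]
@[simp] theorem ec_dmat (a : Fˣ) : ec (dmat a) = 0 := by simp [ec, dmat]
@[simp] theorem ed_dmat (a : Fˣ) : ed (dmat a) = ((a⁻¹ : Fˣ) : F) := by simp [ed, dmat]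

section Finite
variable [Fintype F] {p : ℕ} [hp : Fact p.Prime] [CharP F p]

theorem card_SL2_factorization (n : ℕ) (hF : Fintype.card F = p ^ n) :
    (Nat.card SL2).factorization p = n := by
  rw [Cfsg.Agent.Lib.Helper4.card_SL2, hF]
  have hn : n ≠ 0 := by
    rintro rfl
    have : 1 < Fintype.card F := Fintype.one_lt_card
    rw [hF, pow_zero] at this
    exact lt_irrefl _ this
  have hpos : 0 < (p ^ n) ^ 2 - 1 := by
    have : 1 < (p ^ n) ^ 2 := by
      apply Nat.one_lt_pow (by norm_num)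
      exact Nat.one_lt_pow hn hp.out.one_lt
    omega
  have hnd : ¬ p ∣ (p ^ n) ^ 2 - 1 := by
    intro hd
    have h1 : p ∣ (p ^ n) ^ 2 := by
      rw [← pow_mul]
      exact dvd_pow_self p (by omega)
    have h2 : p ∣ (p ^ n) ^ 2 - ((p ^ n) ^ 2 - 1) := Nat.dvd_sub h1 hd
    have h3 : (p ^ n) ^ 2 - ((p ^ n) ^ 2 - 1) = 1 := by omega
    rw [h3] at h2
    exact hp.out.one_lt.ne' (Nat.dvd_one.mp h2)
  rw [Nat.factorization_mul (pow_pos hp.out.pos n).ne' hpos.ne']
  rw [Finsupp.add_apply, hp.out.factorization_pow, Finsupp.single_eq_same,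
    Nat.factorization_eq_zero_of_not_dvd hnd, add_zero]

/-- a `p`-subgroup of order `q` is conjugate to the unitriangular subgroup -/
theorem exists_conj_eq_Usub (n : ℕ) (hF : Fintype.card F = p ^ n) (P : Subgroup SL2)
    (hP : IsPGroup p P) (hcard : Nat.card P = Fintype.card F) :
    ∃ g : SL2, P = (Usub F).map (MulAut.conj g).toMonoidHom := by
  have hU : Nat.card (Usub F) = p ^ (Nat.card SL2).factorization p := by
    rw [card_SL2_factorization n hF, card_Usub, hF]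
  let U₀ : Sylow p SL2 := Sylow.ofCard (Usub F) hU
  obtain ⟨Q, hQ⟩ := hP.exists_le_sylow
  obtain ⟨g, hg⟩ := MulAction.exists_smul_eq SL2 U₀ Q
  refine ⟨g, ?_⟩
  have hQ' : (Q : Subgroup SL2) = (Usub F).map (MulAut.conj g).toMonoidHom := by
    rw [← hg, Sylow.coe_subgroup_smul]
    rfl
  rw [← hQ']
  apply Subgroup.eq_of_le_of_card_ge hQ
  rw [hQ', hcard]
  rw [Nat.card_congr ((Usub F).equivMapOfInjective _ (MulAut.conj g).injective).symm.toEquiv,
    card_Usub]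

end Finite

end Cfsg.Agent.Lib.Helper1.NatMod
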