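import Mathlib
import Cfsg.Prelude.Def_LocalEven
import Cfsg.Agent.Lib.Helper1.NM1
set_option autoImplicit false
universe u v
namespace Cfsg.Agent.Lib.Helper1.NatMod

open Cfsg.Agent.Lib.Helper1.SL2Three Cfsg.Agent.Lib.Helper1.Dickson

variable {G : Type v} [Group G] {F : Type u} [Field F]

local notation "SL2" => Matrix.SpecialLinearGroup (Fin 2) F
local notation "M2" => Matrix (Fin 2) (Fin 2) F

/-- coordinates for a faithful natural `SL₂(F)`-module -/
structure NatData (F : Type u) [Field F] (V L : Subgroup G) where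
  ρ : L →* Matrix.SpecialLinearGroup (Fin 2) F
  φ : V → (Fin 2 → F)
  ρ_bij : Function.Bijective ρ
  φ_bij : Function.Bijective φ
  φ_mul : ∀ v w : V, φ (v * w) = φ v + φ w
  act : ∀ (l : L) (v : V), ∃ w : V, (w : G) = (l : G) * (v : G) * (l : G)⁻¹ ∧
    φ w = ((ρ l : Matrix.SpecialLinearGroup (Fin 2) F) : Matrix (Fin 2) (Fin 2) F).mulVec (φ v)

theorem exists_natData (V L : Subgroup G) (hnat : Cfsg.IsNaturalSL2Module F V L)
    (hf : L ⊓ Subgroup.centralizer (V : Set G) = ⊥) : Nonempty (NatData F V L) := by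
  obtain ⟨-, ρ, ψ, hsurj, hker, hact⟩ := hnat
  have hinj : Function.Injective ρ := by
    rw [← MonoidHom.ker_eq_bot_iff, hker, Subgroup.subgroupOf_eq_bot, disjoint_iff, inf_comm]
    exact hf
  refine ⟨⟨ρ, fun v => ψ (Additive.ofMul v), ⟨hinj, hsurj⟩, ?_, ?_, ?_⟩⟩
  · exact ψ.bijective.comp Additive.ofMul.bijective
  · intro v w; rw [ofMul_mul, map_add]
  · exact hact

theorem coe_inv_mul_coe (g : SL2) : ((g⁻¹ : SL2) : M2) * (g : M2) = 1 := by
  rw [← Matrix.SpecialLinearGroup.coe_mul, inv_mul_cancel, Matrix.SpecialLinearGroup.coe_one]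

theorem coe_mul_coe_inv (g : SL2) : (g : M2) * ((g⁻¹ : SL2) : M2) = 1 := by
  rw [← Matrix.SpecialLinearGroup.coe_mul, mul_inv_cancel, Matrix.SpecialLinearGroup.coe_one]

/-- change of coordinates -/
def NatData.twist {V L : Subgroup G} (D : NatData F V L) (g : SL2) : NatData F V L where
  ρ := (MulAut.conj g⁻¹).toMonoidHom.comp D.ρ
  φ := fun v => ((g⁻¹ : SL2) : M2).mulVec (D.φ v)
  ρ_bij := (MulAut.conj g⁻¹).bijective.comp D.ρ_bij
  φ_bij := by
    have hb : Function.Bijective (fun w : Fin 2 → F => ((g⁻¹ : SL2) : M2).mulVec w) := by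
      refine Function.bijective_iff_has_inverse.mpr ⟨fun w => (g : M2).mulVec w, ?_, ?_⟩
      · intro w
        show (g : M2).mulVec (((g⁻¹ : SL2) : M2).mulVec w) = w
        rw [Matrix.mulVec_mulVec, coe_mul_coe_inv, Matrix.one_mulVec]
      · intro w
        show ((g⁻¹ : SL2) : M2).mulVec ((g : M2).mulVec w) = w
        rw [Matrix.mulVec_mulVec, coe_inv_mul_coe, Matrix.one_mulVec]
    exact hb.comp D.φ_bij
  φ_mul := by
    intro v w
    show ((g⁻¹ : SL2) : M2).mulVec (D.φ (v * w)) = _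
    rw [D.φ_mul, Matrix.mulVec_add]
  act := by
    intro l v
    obtain ⟨w, hw, hφ⟩ := D.act l v
    refine ⟨w, hw, ?_⟩
    show ((g⁻¹ : SL2) : M2).mulVec (D.φ w) =
      (((MulAut.conj g⁻¹) (D.ρ l) : SL2) : M2).mulVec (((g⁻¹ : SL2) : M2).mulVec (D.φ v))
    rw [hφ, MulAut.conj_apply, inv_inv, Matrix.mulVec_mulVec, Matrix.mulVec_mulVec,
      Matrix.SpecialLinearGroup.coe_mul, Matrix.SpecialLinearGroup.coe_mul, mul_assoc,
      coe_mul_coe_inv, mul_one]

theorem NatData.twist_ρ {V L : Subgroup G} (D : NatData F V L) (g : SL2) (l : L) :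
    (D.twist g).ρ l = g⁻¹ * D.ρ l * g := by
  show (MulAut.conj g⁻¹) (D.ρ l) = _
  rw [MulAut.conj_apply, inv_inv]

theorem charP_of_card [Fintype F] {p : ℕ} [hp : Fact p.Prime] (n : ℕ)
    (hF : Fintype.card F = p ^ n) : CharP F p := by
  obtain ⟨c, hc⟩ := CharP.exists F
  obtain ⟨m, hcp, hm⟩ := FiniteField.card F c
  have h1 : p ∣ c ^ (m : ℕ) := by
    rw [← hm, hF]
    have hn : n ≠ 0 := by
      rintro rfl
      have : 1 < Fintype.card F := Fintype.one_lt_card
      rw [hF, pow_zero] at this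
      exact lt_irrefl _ this
    exact dvd_pow_self p hn
  have h2 : p ∣ c := hp.out.dvd_of_dvd_pow h1
  have h3 : p = c := (Nat.prime_dvd_prime_iff_eq hp.out hcp).mp h2
  rw [h3]; exact hc

/-- coordinates adapted to a Sylow `p`-subgroup -/
theorem exists_natData_sylow [Fintype F] [Finite G] {p : ℕ} [hp : Fact p.Prime] (n : ℕ)
    (hF : Fintype.card F = p ^ n) (V L : Subgroup G) (hnat : Cfsg.IsNaturalSL2Module F V L)
    (hf : L ⊓ Subgroup.centralizer (V : Set G) = ⊥) (S : Sylow p L) :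
    ∃ D : NatData F V L, ∀ l : L, l ∈ S ↔ D.ρ l ∈ Usub F := by
  haveI : CharP F p := charP_of_card n hF
  obtain ⟨D⟩ := exists_natData V L hnat hf
  have hcardL : Nat.card L = Nat.card SL2 := Nat.card_congr (Equiv.ofBijective D.ρ D.ρ_bij)
  obtain ⟨P, hP⟩ : ∃ P : Subgroup SL2, P = (S : Subgroup L).map D.ρ := ⟨_, rfl⟩
  have hPp : IsPGroup p P := by rw [hP]; exact S.2.map _
  have hPc : Nat.card P = Fintype.card F := by
    rw [hP, Nat.card_congr ((S : Subgroup L).equivMapOfInjective D.ρ D.ρ_bij.1).symm.toEquiv,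
      S.card_eq_multiplicity, hcardL, card_SL2_factorization n hF, hF]
  obtain ⟨g, hg⟩ := exists_conj_eq_Usub n hF P hPp hPc
  refine ⟨D.twist g, ?_⟩
  intro l
  rw [D.twist_ρ]
  constructor
  · intro hl
    have h1 : D.ρ l ∈ P := by rw [hP]; exact ⟨l, hl, rfl⟩
    rw [hg] at h1
    obtain ⟨u, hu, hul⟩ := h1
    have : D.ρ l = g * u * g⁻¹ := by rw [← hul]; rfl
    rw [this]
    have e : g⁻¹ * (g * u * g⁻¹) * g = u := by group
    rw [e]; exact hu
  · intro hl
    have h1 : D.ρ l ∈ P := by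
      rw [hg]
      refine ⟨g⁻¹ * D.ρ l * g, hl, ?_⟩
      show g * (g⁻¹ * D.ρ l * g) * g⁻¹ = D.ρ l
      group
    rw [hP] at h1
    obtain ⟨l', hl', hll⟩ := h1
    have : l' = l := D.ρ_bij.1 hll
    rw [← this]; exact hl'

end Cfsg.Agent.Lib.Helper1.NatMod
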