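import Mathlib
import Cfsg.Agent.Lib.Helper1.NM2
set_option autoImplicit false
open scoped commutatorElement
universe u v
namespace Cfsg.Agent.Lib.Helper1.NatMod

open Cfsg.Agent.Lib.Helper1.SL2Three Cfsg.Agent.Lib.Helper1.Dickson

variable {G : Type v} [Group G] {F : Type u} [Field F]

local notation "SL2" => Matrix.SpecialLinearGroup (Fin 2) F
local notation "M2" => Matrix (Fin 2) (Fin 2) F

variable {V L : Subgroup G}

theorem NatData.φ_one (D : NatData F V L) : D.φ 1 = 0 := by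
  have h := D.φ_mul 1 1
  rw [mul_one] at h
  exact left_eq_add.mp h

theorem NatData.φ_inv (D : NatData F V L) (v : V) : D.φ v⁻¹ = - D.φ v := by
  have h := D.φ_mul v v⁻¹
  rw [mul_inv_cancel, D.φ_one] at h
  exact (neg_eq_of_add_eq_zero_right h.symm).symm

theorem NatData.φ_eq_zero (D : NatData F V L) {v : V} : D.φ v = 0 ↔ v = 1 := by
  constructor
  · intro h
    apply D.φ_bij.1
    rw [h, D.φ_one]
  · rintro rfl; exact D.φ_one

theorem NatData.comm (D : NatData F V L) (v w : V) : v * w = w * v := by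
  apply D.φ_bij.1
  rw [D.φ_mul, D.φ_mul, add_comm]

theorem NatData.conj_mem (D : NatData F V L) {l : G} (hl : l ∈ L) {v : G} (hv : v ∈ V) : l * v * l⁻¹ ∈ V := by
  obtain ⟨w, hw, -⟩ := D.act ⟨l, hl⟩ ⟨v, hv⟩
  rw [← hw]; exact w.2

theorem NatData.φ_conj (D : NatData F V L) {l : G} (hl : l ∈ L) {v : G} (hv : v ∈ V) :
    D.φ ⟨l * v * l⁻¹, D.conj_mem hl hv⟩ = ((D.ρ ⟨l, hl⟩ : SL2) : M2).mulVec (D.φ ⟨v, hv⟩) := by
  obtain ⟨w, hw, hφ⟩ := D.act ⟨l, hl⟩ ⟨v, hv⟩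
  rw [← hφ]
  congr 1
  exact Subtype.ext hw.symm

theorem NatData.comm_mem (D : NatData F V L) {l : G} (hl : l ∈ L) {v : G} (hv : v ∈ V) : ⁅v, l⁆ ∈ V := by
  rw [commutatorElement_def]
  have h1 : l * v⁻¹ * l⁻¹ ∈ V := D.conj_mem hl (V.inv_mem hv)
  have : v * l * v⁻¹ * l⁻¹ = v * (l * v⁻¹ * l⁻¹) := by group
  rw [this]; exact V.mul_mem hv h1

theorem NatData.φ_comm (D : NatData F V L) {l : G} (hl : l ∈ L) {v : G} (hv : v ∈ V) :
    D.φ ⟨⁅v, l⁆, D.comm_mem hl hv⟩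
      = D.φ ⟨v, hv⟩ - ((D.ρ ⟨l, hl⟩ : SL2) : M2).mulVec (D.φ ⟨v, hv⟩) := by
  have h1 : l * v⁻¹ * l⁻¹ ∈ V := D.conj_mem hl (V.inv_mem hv)
  have e : (⟨⁅v, l⁆, D.comm_mem hl hv⟩ : V) = ⟨v, hv⟩ * ⟨l * v⁻¹ * l⁻¹, h1⟩ := by
    apply Subtype.ext
    show ⁅v, l⁆ = v * (l * v⁻¹ * l⁻¹)
    rw [commutatorElement_def]; group
  rw [e, D.φ_mul, D.φ_conj hl (V.inv_mem hv)]
  have e2 : (⟨v⁻¹, V.inv_mem hv⟩ : V) = (⟨v, hv⟩ : V)⁻¹ := rfl
  rw [e2, D.φ_inv, Matrix.mulVec_neg, sub_eq_add_neg]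

/-- the subgroup of `V` corresponding to an additive subgroup of `F²` -/
def NatData.pre (D : NatData F V L) (W : AddSubgroup (Fin 2 → F)) : Subgroup G where
  carrier := {x | ∃ h : x ∈ V, D.φ ⟨x, h⟩ ∈ W}
  one_mem' := ⟨V.one_mem, by
    have : (⟨1, V.one_mem⟩ : V) = 1 := rfl
    rw [this, D.φ_one]; exact W.zero_mem⟩
  mul_mem' := by
    rintro x y ⟨hx, hxW⟩ ⟨hy, hyW⟩
    refine ⟨V.mul_mem hx hy, ?_⟩
    have : (⟨x * y, V.mul_mem hx hy⟩ : V) = ⟨x, hx⟩ * ⟨y, hy⟩ := rfl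
    rw [this, D.φ_mul]; exact W.add_mem hxW hyW
  inv_mem' := by
    rintro x ⟨hx, hxW⟩
    refine ⟨V.inv_mem hx, ?_⟩
    have : (⟨x⁻¹, V.inv_mem hx⟩ : V) = (⟨x, hx⟩ : V)⁻¹ := rfl
    rw [this, D.φ_inv]; exact W.neg_mem hxW

theorem NatData.mem_pre (D : NatData F V L) {W : AddSubgroup (Fin 2 → F)} {x : G} :
    x ∈ D.pre W ↔ ∃ h : x ∈ V, D.φ ⟨x, h⟩ ∈ W := Iff.rfl

theorem NatData.pre_le (D : NatData F V L) (W : AddSubgroup (Fin 2 → F)) : D.pre W ≤ V := fun _ h => h.1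

theorem NatData.card_pre (D : NatData F V L) (W : AddSubgroup (Fin 2 → F)) : Nat.card (D.pre W) = Nat.card W := by
  apply Nat.card_congr
  refine Equiv.ofBijective (fun x => ⟨D.φ ⟨x.1, x.2.1⟩, x.2.2⟩) ⟨?_, ?_⟩
  · intro x y h
    have h1 : D.φ ⟨x.1, x.2.1⟩ = D.φ ⟨y.1, y.2.1⟩ := congrArg Subtype.val h
    have h2 := D.φ_bij.1 h1
    exact Subtype.ext (congrArg (fun z : V => (z : G)) h2)
  · rintro ⟨w, hw⟩
    obtain ⟨v, hv⟩ := D.φ_bij.2 w
    refine ⟨⟨v.1, v.2, ?_⟩, ?_⟩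
    · show D.φ ⟨v.1, v.2⟩ ∈ W
      rw [hv]; exact hw
    · apply Subtype.ext
      exact hv

theorem NatData.card_V (D : NatData F V L) [Fintype F] : Nat.card V = Fintype.card F ^ 2 := by
  rw [Nat.card_congr (Equiv.ofBijective D.φ D.φ_bij), Nat.card_eq_fintype_card, Fintype.card_fun,
    Fintype.card_fin]

/-- the line `y = 0` -/
def line0 (F : Type u) [Field F] : AddSubgroup (Fin 2 → F) where
  carrier := {w | w 1 = 0}
  zero_mem' := rfl
  add_mem' := by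
    intro a b ha hb
    show a 1 + b 1 = 0
    rw [ha, hb, add_zero]
  neg_mem' := by
    intro a ha
    show - a 1 = 0
    rw [ha, neg_zero]

theorem mem_line0 {w : Fin 2 → F} : w ∈ line0 F ↔ w 1 = 0 := Iff.rfl

theorem card_line0 [Fintype F] : Nat.card (line0 F) = Fintype.card F := by
  rw [← Nat.card_eq_fintype_card]
  apply Nat.card_congr
  refine Equiv.ofBijective (fun w => w.1 0) ⟨?_, ?_⟩
  · intro a b h
    apply Subtype.ext
    exact vec_ext h (a.2.trans b.2.symm)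
  · intro c
    exact ⟨⟨![c, 0], rfl⟩, rfl⟩

theorem xmat_mulVec (s : F) (w : Fin 2 → F) :
    ((xmat F s : SL2) : M2).mulVec w = ![w 0 + s * w 1, w 1] := by
  apply vec_ext
  · rw [mulVec_zero_eq, ea_xmat, eb_xmat]; simp
  · rw [mulVec_one_eq, ec_xmat, ed_xmat]; simp

/-- the hypothesis that `T` corresponds to the unitriangular group -/
def IsUni (D : NatData F V L) (T : Subgroup G) : Prop := ∀ x : G, x ∈ T ↔ ∃ h : x ∈ L, D.ρ ⟨x, h⟩ ∈ Usub F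

variable {D : NatData F V L} {T : Subgroup G}

theorem IsUni.le (hT : IsUni D T) : T ≤ L := fun x hx => ((hT x).mp hx).1

theorem IsUni.exists_xmat (hT : IsUni D T) (s : F) :
    ∃ t, ∃ _ : t ∈ T, ∃ h : t ∈ L, D.ρ ⟨t, h⟩ = xmat F s := by
  obtain ⟨l, hl⟩ := D.ρ_bij.2 (xmat F s)
  refine ⟨l.1, (hT l.1).mpr ⟨l.2, ?_⟩, l.2, hl⟩
  show D.ρ l ∈ Usub F
  rw [hl]; exact xmat_mem_Usub s

theorem IsUni.ρ_eq (hT : IsUni D T) {t : G} (ht : t ∈ T) :
    ∃ s : F, D.ρ ⟨t, hT.le ht⟩ = xmat F s := by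
  obtain ⟨h, s, hs⟩ := (hT t).mp ht
  exact ⟨s, hs⟩

/-- commutator of `v` with an element acting as `xmat s` -/
theorem φ_comm_xmat {t : G} (ht : t ∈ L) {s : F} (hs : D.ρ ⟨t, ht⟩ = xmat F s) {v : G}
    (hv : v ∈ V) : D.φ ⟨⁅v, t⁆, D.comm_mem ht hv⟩ = ![- s * (D.φ ⟨v, hv⟩) 1, 0] := by
  rw [D.φ_comm ht hv, hs, xmat_mulVec]
  apply vec_ext <;> simp

theorem comm_mem_pre {t : G} (ht : t ∈ L) {s : F} (hs : D.ρ ⟨t, ht⟩ = xmat F s) {v : G}
    (hv : v ∈ V) : ⁅v, t⁆ ∈ D.pre (line0 F) := by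
  refine ⟨D.comm_mem ht hv, ?_⟩
  rw [φ_comm_xmat ht hs hv, mem_line0]; rfl

theorem NatData.eq_of_φ_eq (D : NatData F V L) {x y : G} (hx : x ∈ V) (hy : y ∈ V) (h : D.φ ⟨x, hx⟩ = D.φ ⟨y, hy⟩) :
    x = y := congrArg Subtype.val (D.φ_bij.1 h)

/-- fixed points of an element acting as `xmat s`, `s ≠ 0` -/
theorem mem_pre_iff_comm {t : G} (ht : t ∈ L) {s : F} (hs : D.ρ ⟨t, ht⟩ = xmat F s) (hs0 : s ≠ 0)
    {x : G} (hx : x ∈ V) : x ∈ D.pre (line0 F) ↔ t * x = x * t := by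
  have key := D.φ_conj ht hx
  rw [hs, xmat_mulVec] at key
  constructor
  · rintro ⟨_, h1⟩
    rw [mem_line0] at h1
    have h2 : t * x * t⁻¹ = x := by
      apply D.eq_of_φ_eq (D.conj_mem ht hx) hx
      rw [key, h1]
      apply vec_ext <;> simp [h1]
    have e : t * x = t * x * t⁻¹ * t := by group
    rw [e, h2]
  · intro h
    refine ⟨hx, ?_⟩
    rw [mem_line0]
    have h2 : t * x * t⁻¹ = x := by rw [h]; group
    have h3 : D.φ ⟨t * x * t⁻¹, D.conj_mem ht hx⟩ = D.φ ⟨x, hx⟩ := by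
      congr 1; exact Subtype.ext h2
    rw [key] at h3
    have h4 := congrFun h3 0
    simp at h4
    rcases h4 with h4 | h4
    · exact absurd h4 hs0
    · exact h4

theorem mem_pre_imp_comm {t : G} (ht : t ∈ L) {s : F} (hs : D.ρ ⟨t, ht⟩ = xmat F s)
    {x : G} (hx : x ∈ D.pre (line0 F)) : t * x = x * t := by
  obtain ⟨hxV, h1⟩ := hx
  rw [mem_line0] at h1
  have key := D.φ_conj ht hxV
  rw [hs, xmat_mulVec] at key
  have h2 : t * x * t⁻¹ = x := by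
    apply D.eq_of_φ_eq (D.conj_mem ht hxV) hxV
    rw [key]
    apply vec_ext <;> simp [h1]
  have : t * x = t * x * t⁻¹ * t := by group
  rw [this, h2]

/-- `C_V(T)` is the line -/
theorem inf_centralizer_eq (hT : IsUni D T) :
    V ⊓ Subgroup.centralizer (T : Set G) = D.pre (line0 F) := by
  ext x
  rw [Subgroup.mem_inf, Subgroup.mem_centralizer_iff]
  constructor
  · rintro ⟨hx, hc⟩
    obtain ⟨t, htT, htL, hρ⟩ := hT.exists_xmat 1
    exact (mem_pre_iff_comm htL hρ one_ne_zero hx).mpr (hc t htT)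
  · intro hx
    refine ⟨hx.1, ?_⟩
    intro t ht
    obtain ⟨s, hs⟩ := hT.ρ_eq ht
    exact mem_pre_imp_comm (hT.le ht) hs hx

theorem IsUni.ρ_ne (hT : IsUni D T) {t : G} (ht : t ∈ T) (ht1 : t ≠ 1) :
    ∃ s : F, s ≠ 0 ∧ D.ρ ⟨t, hT.le ht⟩ = xmat F s := by
  obtain ⟨s, hs⟩ := hT.ρ_eq ht
  refine ⟨s, ?_, hs⟩
  rintro rfl
  rw [xmat_zero] at hs
  apply ht1
  have : (⟨t, hT.le ht⟩ : L) = 1 := D.ρ_bij.1 (hs.trans (map_one D.ρ).symm)
  exact congrArg Subtype.val this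

theorem inf_centralizer_singleton_eq (hT : IsUni D T) {t : G} (ht : t ∈ T) (ht1 : t ≠ 1) :
    V ⊓ Subgroup.centralizer ({t} : Set G) = D.pre (line0 F) := by
  obtain ⟨s, hs0, hs⟩ := hT.ρ_ne ht ht1
  ext x
  rw [Subgroup.mem_inf, Subgroup.mem_centralizer_singleton_iff]
  constructor
  · rintro ⟨hx, hc⟩
    exact (mem_pre_iff_comm (hT.le ht) hs hs0 hx).mpr hc.symm
  · intro hx
    exact ⟨hx.1, (mem_pre_imp_comm (hT.le ht) hs hx).symm⟩

theorem commutator_eq (hT : IsUni D T) : ⁅V, T⁆ = D.pre (line0 F) := by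
  apply le_antisymm
  · rw [Subgroup.commutator_le]
    intro v hv t ht
    obtain ⟨s, hs⟩ := hT.ρ_eq ht
    exact comm_mem_pre (hT.le ht) hs hv
  · rintro x ⟨hxV, hx⟩
    rw [mem_line0] at hx
    obtain ⟨v, hv⟩ := D.φ_bij.2 ![0, 1]
    obtain ⟨t, htT, htL, hρ⟩ := hT.exists_xmat (-(D.φ ⟨x, hxV⟩ 0))
    have h1 : x = ⁅(v : G), t⁆ := by
      apply D.eq_of_φ_eq hxV (D.comm_mem htL v.2)
      rw [φ_comm_xmat htL hρ v.2]
      have : (⟨(v : G), v.2⟩ : V) = v := rfl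
      rw [this, hv]
      apply vec_ext
      · simp
      · simpa using hx
    rw [h1]
    exact Subgroup.commutator_mem_commutator v.2 htT

theorem commutator_zpowers_eq (hT : IsUni D T) {t : G} (ht : t ∈ T) (ht1 : t ≠ 1) :
    ⁅V, Subgroup.zpowers t⁆ = D.pre (line0 F) := by
  apply le_antisymm
  · rw [← commutator_eq hT]
    exact Subgroup.commutator_mono le_rfl (by rw [Subgroup.zpowers_le]; exact ht)
  · rintro x ⟨hxV, hx⟩
    rw [mem_line0] at hx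
    obtain ⟨s, hs0, hs⟩ := hT.ρ_ne ht ht1
    obtain ⟨v, hv⟩ := D.φ_bij.2 ![0, -(D.φ ⟨x, hxV⟩ 0) / s]
    have h1 : x = ⁅(v : G), t⁆ := by
      apply D.eq_of_φ_eq hxV (D.comm_mem (hT.le ht) v.2)
      rw [φ_comm_xmat (hT.le ht) hs v.2]
      have : (⟨(v : G), v.2⟩ : V) = v := rfl
      rw [this, hv]
      apply vec_ext
      · simp; field_simp
      · simpa using hx
    rw [h1]
    exact Subgroup.commutator_mem_commutator v.2 (Subgroup.mem_zpowers t)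

theorem closure_comm_eq (hT : IsUni D T) {v : G} (hv : v ∈ V)
    (hvT : v ∉ Subgroup.centralizer (T : Set G)) :
    Subgroup.closure {x : G | ∃ t ∈ T, x = v * t * v⁻¹ * t⁻¹} = D.pre (line0 F) := by
  have hv1 : (D.φ ⟨v, hv⟩) 1 ≠ 0 := by
    intro h
    apply hvT
    have : v ∈ V ⊓ Subgroup.centralizer (T : Set G) := by
      rw [inf_centralizer_eq hT]; exact ⟨hv, h⟩
    exact this.2
  apply le_antisymm
  · rw [Subgroup.closure_le]
    rintro x ⟨t, ht, rfl⟩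
    obtain ⟨s, hs⟩ := hT.ρ_eq ht
    have := comm_mem_pre (hT.le ht) hs hv
    rwa [commutatorElement_def] at this
  · rintro x ⟨hxV, hx⟩
    rw [mem_line0] at hx
    obtain ⟨t, htT, htL, hρ⟩ := hT.exists_xmat (-(D.φ ⟨x, hxV⟩ 0) / (D.φ ⟨v, hv⟩) 1)
    apply Subgroup.subset_closure
    refine ⟨t, htT, ?_⟩
    rw [← commutatorElement_def]
    apply D.eq_of_φ_eq hxV (D.comm_mem htL hv)
    rw [φ_comm_xmat htL hρ hv]
    apply vec_ext
    · simp; field_simp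
    · simpa using hx

theorem commutator_commutator_eq_bot (hT : IsUni D T) : ⁅⁅V, T⁆, T⁆ = ⊥ := by
  rw [Subgroup.commutator_eq_bot_iff_le_centralizer, commutator_eq hT, ← inf_centralizer_eq hT]
  exact inf_le_right

end Cfsg.Agent.Lib.Helper1.NatMod
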