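import Mathlib
import Cfsg.Prelude.Def_TwoFusion
import Cfsg.Agent.Lib.Helper1.NM3
set_option autoImplicit false
open scoped commutatorElement
universe u v
namespace Cfsg.Agent.Lib.Helper1.NatMod

open Cfsg.Agent.Lib.Helper1.SL2Three Cfsg.Agent.Lib.Helper1.Dickson

variable {G : Type v} [Group G] {F : Type u} [Field F]

local notation "SL2" => Matrix.SpecialLinearGroup (Fin 2) F
local notation "M2" => Matrix (Fin 2) (Fin 2) F

variable {V L : Subgroup G} {D : NatData F V L} {T : Subgroup G}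

theorem dmat_mulVec (a : Fˣ) (w : Fin 2 → F) :
    ((dmat a : SL2) : M2).mulVec w = ![(a : F) * w 0, ((a⁻¹ : Fˣ) : F) * w 1] := by
  apply vec_ext
  · rw [mulVec_zero_eq, ea_dmat, eb_dmat]; simp
  · rw [mulVec_one_eq, ec_dmat, ed_dmat]; simp

theorem ρ_conj (D : NatData F V L) {g h : G} (hg : g ∈ L) (hh : h ∈ L) :
    D.ρ ⟨g * h * g⁻¹, L.mul_mem (L.mul_mem hg hh) (L.inv_mem hg)⟩
      = D.ρ ⟨g, hg⟩ * D.ρ ⟨h, hh⟩ * (D.ρ ⟨g, hg⟩)⁻¹ := by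
  have : (⟨g * h * g⁻¹, L.mul_mem (L.mul_mem hg hh) (L.inv_mem hg)⟩ : L)
      = ⟨g, hg⟩ * ⟨h, hh⟩ * (⟨g, hg⟩ : L)⁻¹ := rfl
  rw [this, map_mul, map_mul, map_inv]

theorem conj_mem_T_of_ec (hT : IsUni D T) {g : G} (hg : g ∈ L)
    (hc : ec (D.ρ ⟨g, hg⟩) = 0) {h : G} (hh : h ∈ T) : g * h * g⁻¹ ∈ T := by
  rw [hT]
  refine ⟨L.mul_mem (L.mul_mem hg (hT.le hh)) (L.inv_mem hg), ?_⟩
  rw [ρ_conj D hg (hT.le hh)]
  obtain ⟨_, hu⟩ := (hT h).mp hh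
  exact conj_mem_Usub_of_ec _ hc hu

theorem mem_normalizer_of_ec (hT : IsUni D T) {g : G} (hg : g ∈ L)
    (hc : ec (D.ρ ⟨g, hg⟩) = 0) : g ∈ Subgroup.normalizer (T : Set G) := by
  rw [Subgroup.mem_normalizer_iff]
  intro h
  constructor
  · exact conj_mem_T_of_ec hT hg hc
  · intro hh
    have hc' : ec (D.ρ ⟨g⁻¹, L.inv_mem hg⟩) = 0 := by
      have : (⟨g⁻¹, L.inv_mem hg⟩ : L) = (⟨g, hg⟩ : L)⁻¹ := rfl
      rw [this, map_inv, ec_inv, hc, neg_zero]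
    have := conj_mem_T_of_ec hT (L.inv_mem hg) hc' hh
    have e : g⁻¹ * (g * h * g⁻¹) * g⁻¹⁻¹ = h := by group
    rwa [e] at this

/-- membership in `C_V(gTg⁻¹)` in coordinates -/
theorem mem_centralizer_conj_iff (hT : IsUni D T) {g : G} (hg : g ∈ L) {x : G} (hx : x ∈ V) :
    x ∈ Subgroup.centralizer ((T.map (MulAut.conj g).toMonoidHom : Subgroup G) : Set G) ↔
      - ec (D.ρ ⟨g, hg⟩) * (D.φ ⟨x, hx⟩) 0 + ea (D.ρ ⟨g, hg⟩) * (D.φ ⟨x, hx⟩) 1 = 0 := by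
  have hgi : g⁻¹ ∈ L := L.inv_mem hg
  have hxg : g⁻¹ * x * g⁻¹⁻¹ ∈ V := D.conj_mem hgi hx
  have key := D.φ_conj hgi hx
  have hρi : D.ρ ⟨g⁻¹, hgi⟩ = (D.ρ ⟨g, hg⟩)⁻¹ := by
    have : (⟨g⁻¹, hgi⟩ : L) = (⟨g, hg⟩ : L)⁻¹ := rfl
    rw [this, map_inv]
  have h1 : (g⁻¹ * x * g⁻¹⁻¹ ∈ D.pre (line0 F)) ↔
      - ec (D.ρ ⟨g, hg⟩) * (D.φ ⟨x, hx⟩) 0 + ea (D.ρ ⟨g, hg⟩) * (D.φ ⟨x, hx⟩) 1 = 0 := by
    constructor
    · rintro ⟨_, h⟩
      rw [mem_line0, key, mulVec_one_eq, hρi, ec_inv, ed_inv] at h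
      exact h
    · intro h
      refine ⟨hxg, ?_⟩
      rw [mem_line0, key, mulVec_one_eq, hρi, ec_inv, ed_inv]
      exact h
  rw [← h1, ← inf_centralizer_eq hT, Subgroup.mem_inf, Subgroup.mem_centralizer_iff,
    Subgroup.mem_centralizer_iff]
  constructor
  · intro h
    refine ⟨hxg, ?_⟩
    intro t ht
    have h2 := h (g * t * g⁻¹) ⟨t, ht, rfl⟩
    have e1 : t * (g⁻¹ * x * g⁻¹⁻¹) = g⁻¹ * ((g * t * g⁻¹) * x) * g := by group
    rw [e1, h2]; group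
  · rintro ⟨_, h⟩ y ⟨t, ht, rfl⟩
    have h2 := h t ht
    show g * t * g⁻¹ * x = x * (g * t * g⁻¹)
    have e1 : g * t * g⁻¹ * x = g * (t * (g⁻¹ * x * g⁻¹⁻¹)) * g⁻¹ := by group
    rw [e1, h2]; group

theorem internal_direct (hT : IsUni D T) {g : G} (hg : g ∈ L)
    (hgN : g ∉ Subgroup.normalizer (T : Set G)) :
    Cfsg.IsInternalDirectProduct (V ⊓ Subgroup.centralizer ((T : Subgroup G) : Set G))
      (V ⊓ Subgroup.centralizer ((T.map (MulAut.conj g).toMonoidHom : Subgroup G) : Set G)) V := by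
  have hc : ec (D.ρ ⟨g, hg⟩) ≠ 0 := fun h => hgN (mem_normalizer_of_ec hT hg h)
  refine ⟨inf_le_left, inf_le_left, ?_, ?_, ?_⟩
  · rintro a ⟨ha, -⟩ b ⟨hb, -⟩
    exact congrArg Subtype.val (D.comm ⟨a, ha⟩ ⟨b, hb⟩)
  · rw [eq_bot_iff]
    rintro x ⟨hx1, hx2, hx3⟩
    rw [inf_centralizer_eq hT] at hx1
    obtain ⟨hxV, h1⟩ := hx1
    rw [mem_line0] at h1
    have h2 := (mem_centralizer_conj_iff hT hg hxV).mp hx3
    rw [h1, mul_zero, add_zero] at h2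
    have h3 : (D.φ ⟨x, hxV⟩) 0 = 0 := by
      rcases mul_eq_zero.mp h2 with h | h
      · exact absurd (neg_eq_zero.mp h) hc
      · exact h
    have h4 : D.φ ⟨x, hxV⟩ = 0 := vec_ext h3 h1
    have h5 := (D.φ_eq_zero).mp h4
    rw [Subgroup.mem_bot]
    exact congrArg Subtype.val h5
  · apply le_antisymm
    · exact sup_le inf_le_left inf_le_left
    · intro x hx
      obtain ⟨a, c, ha, hcdef⟩ : ∃ a c : F, a = ea (D.ρ ⟨g, hg⟩) ∧ c = ec (D.ρ ⟨g, hg⟩) :=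
        ⟨_, _, rfl, rfl⟩
      have hc' : c ≠ 0 := by rw [hcdef]; exact hc
      obtain ⟨x2, hx2⟩ := D.φ_bij.2 ![a * (D.φ ⟨x, hx⟩) 1 / c, (D.φ ⟨x, hx⟩) 1]
      have hx2C : (x2 : G) ∈ Subgroup.centralizer
          ((T.map (MulAut.conj g).toMonoidHom : Subgroup G) : Set G) := by
        rw [mem_centralizer_conj_iff hT hg x2.2]
        have : (⟨(x2 : G), x2.2⟩ : V) = x2 := rfl
        rw [this, hx2, ← ha, ← hcdef]
        simp
        field_simp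
        ring
      have hx1 : x * (x2 : G)⁻¹ ∈ D.pre (line0 F) := by
        refine ⟨V.mul_mem hx (V.inv_mem x2.2), ?_⟩
        have : (⟨x * (x2 : G)⁻¹, V.mul_mem hx (V.inv_mem x2.2)⟩ : V) = ⟨x, hx⟩ * x2⁻¹ := rfl
        rw [this, D.φ_mul, D.φ_inv, hx2, mem_line0]
        simp
      have e : x = x * (x2 : G)⁻¹ * x2 := by group
      rw [e]
      apply Subgroup.mul_mem_sup
      · rw [inf_centralizer_eq hT]; exact hx1
      · exact ⟨x2.2, hx2C⟩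

theorem fixed_point_free [Fintype F] {p : ℕ} [hp : Fact p.Prime] [CharP F p]
    (D : NatData F V L) {x : G} (hx : x ∈ L) (hx1 : x ≠ 1)
    (hcop : (orderOf x).Coprime p) : V ⊓ Subgroup.centralizer ({x} : Set G) = ⊥ := by
  rw [eq_bot_iff]
  intro v hvv
  obtain ⟨hv, hvx⟩ := Subgroup.mem_inf.mp hvv
  rw [Subgroup.mem_bot]
  by_contra hv1
  rw [Subgroup.mem_centralizer_singleton_iff] at hvx
  have h1 : x * v * x⁻¹ = v := by rw [← hvx]; group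
  have h2 : D.φ ⟨x * v * x⁻¹, D.conj_mem hx hv⟩ = D.φ ⟨v, hv⟩ := by
    congr 1; exact Subtype.ext h1
  rw [D.φ_conj hx hv] at h2
  have h3 : D.φ ⟨v, hv⟩ ≠ 0 := by
    intro h
    apply hv1
    exact congrArg Subtype.val ((D.φ_eq_zero).mp h)
  have h4 : (D.ρ ⟨x, hx⟩) ^ p = 1 :=
    pow_char_eq_one_of_fix (D.ρ ⟨x, hx⟩) (D.φ ⟨v, hv⟩) h3 h2
  rw [← map_pow] at h4
  have h5 : (⟨x, hx⟩ : L) ^ p = 1 := D.ρ_bij.1 (h4.trans (map_one D.ρ).symm)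
  have h6 : x ^ p = 1 := congrArg Subtype.val h5
  have h7 : orderOf x ∣ p := orderOf_dvd_of_pow_eq_one h6
  have h8 : orderOf x = 1 := Nat.Coprime.eq_one_of_dvd hcop h7
  exact hx1 (orderOf_eq_one_iff.mp h8)

theorem exists_dmat (D : NatData F V L) (a : Fˣ) : ∃ l, ∃ h : l ∈ L, D.ρ ⟨l, h⟩ = dmat a := by
  obtain ⟨l, hl⟩ := D.ρ_bij.2 (dmat a)
  exact ⟨l.1, l.2, hl⟩

theorem irred_bottom (hT : IsUni D T) (U : Subgroup G)
    (hU : U ≤ V ⊓ Subgroup.centralizer ((T : Subgroup G) : Set G))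
    (hN : L ⊓ Subgroup.normalizer (T : Set G) ≤ Subgroup.normalizer (U : Set G)) :
    U = ⊥ ∨ U = V ⊓ Subgroup.centralizer ((T : Subgroup G) : Set G) := by
  by_cases hU1 : U = ⊥
  · left; exact hU1
  right
  apply le_antisymm hU
  obtain ⟨⟨u, huU⟩, hu1'⟩ := (Subgroup.ne_bot_iff_exists_ne_one).mp hU1
  have hu1 : u ≠ 1 := fun h => hu1' (Subtype.ext h)
  rw [inf_centralizer_eq hT] at hU ⊢
  obtain ⟨huV, hu0⟩ := hU huU
  rw [mem_line0] at hu0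
  rintro y ⟨hyV, hy0⟩
  rw [mem_line0] at hy0
  have hc0 : (D.φ ⟨u, huV⟩) 0 ≠ 0 := by
    intro h
    apply hu1
    have h4 : D.φ ⟨u, huV⟩ = 0 := vec_ext h hu0
    exact congrArg Subtype.val ((D.φ_eq_zero).mp h4)
  by_cases hc1 : (D.φ ⟨y, hyV⟩) 0 = 0
  · have h4 : D.φ ⟨y, hyV⟩ = 0 := vec_ext hc1 hy0
    have : y = 1 := congrArg Subtype.val ((D.φ_eq_zero).mp h4)
    rw [this]; exact U.one_mem
  · obtain ⟨l, hl, hρ⟩ := exists_dmat D (Units.mk0 _ (div_ne_zero hc1 hc0))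
    have hlN : l ∈ Subgroup.normalizer (T : Set G) :=
      mem_normalizer_of_ec hT hl (by rw [hρ, ec_dmat])
    have hlU : l ∈ Subgroup.normalizer (U : Set G) := hN ⟨hl, hlN⟩
    have h5 : l * u * l⁻¹ ∈ U := (Subgroup.mem_normalizer_iff.mp hlU u).mp huU
    have h6 : y = l * u * l⁻¹ := by
      apply D.eq_of_φ_eq hyV (D.conj_mem hl huV)
      rw [D.φ_conj hl huV, hρ, dmat_mulVec]
      apply vec_ext
      · simp; field_simp
      · simp [hu0, hy0]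
    rw [h6]; exact h5

theorem irred_top (hT : IsUni D T) (U : Subgroup G)
    (hU1 : V ⊓ Subgroup.centralizer ((T : Subgroup G) : Set G) ≤ U) (hU2 : U ≤ V)
    (hN : L ⊓ Subgroup.normalizer (T : Set G) ≤ Subgroup.normalizer (U : Set G)) :
    U = V ⊓ Subgroup.centralizer ((T : Subgroup G) : Set G) ∨ U = V := by
  by_cases hU : U ≤ V ⊓ Subgroup.centralizer ((T : Subgroup G) : Set G)
  · left; exact le_antisymm hU hU1
  right
  apply le_antisymm hU2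
  obtain ⟨u, huU, huC⟩ := SetLike.not_le_iff_exists.mp hU
  rw [inf_centralizer_eq hT] at hU1 huC
  have huV : u ∈ V := hU2 huU
  have hy0 : (D.φ ⟨u, huV⟩) 1 ≠ 0 := fun h => huC ⟨huV, h⟩
  intro w hwV
  by_cases hw1 : (D.φ ⟨w, hwV⟩) 1 = 0
  · exact hU1 ⟨hwV, hw1⟩
  · obtain ⟨l, hl, hρ⟩ := exists_dmat D (Units.mk0 _ (div_ne_zero hy0 hw1))
    have hlN : l ∈ Subgroup.normalizer (T : Set G) :=
      mem_normalizer_of_ec hT hl (by rw [hρ, ec_dmat])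
    have hlU : l ∈ Subgroup.normalizer (U : Set G) := hN ⟨hl, hlN⟩
    have h5 : l * u * l⁻¹ ∈ U := (Subgroup.mem_normalizer_iff.mp hlU u).mp huU
    have h5V : l * u * l⁻¹ ∈ V := D.conj_mem hl huV
    have h6 : w * (l * u * l⁻¹)⁻¹ ∈ D.pre (line0 F) := by
      refine ⟨V.mul_mem hwV (V.inv_mem h5V), ?_⟩
      have : (⟨w * (l * u * l⁻¹)⁻¹, V.mul_mem hwV (V.inv_mem h5V)⟩ : V)
          = ⟨w, hwV⟩ * (⟨l * u * l⁻¹, h5V⟩ : V)⁻¹ := rfl
      rw [this, D.φ_mul, D.φ_inv, D.φ_conj hl huV, hρ, dmat_mulVec, mem_line0]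
      simp
      field_simp
      ring
    have e : w = w * (l * u * l⁻¹)⁻¹ * (l * u * l⁻¹) := by group
    rw [e]
    exact U.mul_mem (hU1 h6) h5

end Cfsg.Agent.Lib.Helper1.NatMod
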