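import Mathlib
import Cfsg.Agent.Lib.Helper8.CSGDefs

/-! S4321 (prime graph on class sizes of `p`-singular elements has diameter at most 3): definitions.
`idx g` (class size) is from `Cfsg.Agent.Lib.Helper8.CSG`. -/

set_option autoImplicit false

namespace Cfsg.Agent.Lib.Helper1.PSG

open Cfsg.Agent.Lib.Helper8.CSG

variable (G : Type*) [Group G]

/-- `p` is an isolated vertex: a `p`-singular class size divisible by `p` is a power of `p`. -/
def Iso (p : ℕ) : Prop :=
  ∀ g : G, p ∣ orderOf g → p ∣ idx g → ∀ t : ℕ, t.Prime → t ∣ idx g → t = p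

/-- `r` and `s` are far apart: no `p`-singular class size shares a prime with a class size on the
`r`-side and a prime with a class size on the `s`-side. -/
def Far (p r s : ℕ) : Prop :=
  ∀ x : G, p ∣ orderOf x → r ∣ idx x → ∀ y : G, p ∣ orderOf y → s ∣ idx y →
    ∀ w : G, p ∣ orderOf w → ∀ t t' : ℕ, t.Prime → t'.Prime →
      t ∣ idx x → t ∣ idx w → t' ∣ idx y → t' ∣ idx w → False

variable {G}

/-- `g` is a `p`-element -/
def PElt (p : ℕ) (g : G) : Prop := ∃ k : ℕ, g ^ p ^ k = 1

end Cfsg.Agent.Lib.Helper1.PSG
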