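import Mathlib
import Cfsg.Agent.Lib.Helper1.PSGDefs
import Cfsg.Agent.Lib.Helper8.CSGAsym

/-! S4321 piece P0a: basic facts on class sizes (helper1). -/

set_option autoImplicit false
set_option linter.unusedVariables false
set_option linter.unusedSectionVars false
set_option linter.style.longLine false

namespace Cfsg.Agent.Lib.Helper1.PSG

open Cfsg.Agent.Lib.Helper8.CSG

variable {G : Type*} [Group G] [Finite G]

omit [Finite G] in
theorem idx_conj (g x : G) : idx (g * x * g⁻¹) = idx x := by
  have h : Subgroup.centralizer ({g * x * g⁻¹} : Set G) =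
      (Subgroup.centralizer ({x} : Set G)).map (MulAut.conj g).toMonoidHom := by
    ext y
    simp only [Subgroup.mem_centralizer_iff, Set.mem_singleton_iff, forall_eq, Subgroup.mem_map,
      MulEquiv.coe_toMonoidHom, MulAut.conj_apply]
    constructor
    · intro hy
      refine ⟨g⁻¹ * y * g, ?_, by group⟩
      have : x = g⁻¹ * (g * x * g⁻¹) * g := by group
      calc x * (g⁻¹ * y * g) = g⁻¹ * ((g * x * g⁻¹) * y) * g := by group
        _ = g⁻¹ * (y * (g * x * g⁻¹)) * g := by rw [hy]
        _ = g⁻¹ * y * g * x := by group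
    · rintro ⟨z, hz, rfl⟩
      calc g * x * g⁻¹ * (g * z * g⁻¹) = g * (x * z) * g⁻¹ := by group
        _ = g * (z * x) * g⁻¹ := by rw [hz]
        _ = g * z * g⁻¹ * (g * x * g⁻¹) := by group
  unfold idx
  rw [h]
  exact Subgroup.index_map_of_bijective (MulAut.conj g).bijective _

omit [Finite G] in
theorem idx_inv (x : G) : idx x⁻¹ = idx x := by
  have h : Subgroup.centralizer ({x⁻¹} : Set G) = Subgroup.centralizer ({x} : Set G) := by
    ext y
    simp only [Subgroup.mem_centralizer_iff, Set.mem_singleton_iff, forall_eq]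
    constructor
    · intro hy
      calc x * y = x * (y * x⁻¹) * x := by group
        _ = x * (x⁻¹ * y) * x := by rw [hy]
        _ = y * x := by group
    · intro hy
      calc x⁻¹ * y = x⁻¹ * (y * x) * x⁻¹ := by group
        _ = x⁻¹ * (x * y) * x⁻¹ := by rw [hy]
        _ = y * x⁻¹ := by group
  unfold idx
  rw [h]

omit [Finite G] in
theorem idx_dvd_of_mem_zpowers {h g : G} (hh : h ∈ Subgroup.zpowers g) : idx h ∣ idx g := by
  apply Subgroup.index_dvd_of_le
  intro y hy
  rw [Subgroup.mem_centralizer_iff] at hy ⊢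
  intro z hz
  rw [Set.mem_singleton_iff] at hz
  subst hz
  have hy' : Commute g y := (hy g rfl)
  obtain ⟨k, rfl⟩ := Subgroup.mem_zpowers_iff.1 hh
  exact (hy'.zpow_left k).eq

omit [Finite G] in
theorem idx_mul_central {u z : G} (hz : z ∈ Subgroup.center G) : idx (u * z) = idx u := by
  have h : Subgroup.centralizer ({u * z} : Set G) = Subgroup.centralizer ({u} : Set G) := by
    ext y
    simp only [Subgroup.mem_centralizer_iff, Set.mem_singleton_iff, forall_eq]
    have hzy : z * y = y * z := (Subgroup.mem_center_iff.1 hz y).symm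
    constructor
    · intro hy
      have : u * y * z = y * u * z := by
        calc u * y * z = u * (y * z) := by group
          _ = u * (z * y) := by rw [hzy]
          _ = u * z * y := by group
          _ = y * (u * z) := hy
          _ = y * u * z := by group
      exact mul_right_cancel this
    · intro hy
      calc u * z * y = u * (z * y) := by group
        _ = u * (y * z) := by rw [hzy]
        _ = (u * y) * z := by group
        _ = (y * u) * z := by rw [hy]
        _ = y * (u * z) := by group
  unfold idx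
  rw [h]

theorem pelt_eq_one_of_mem_center {p : ℕ} [Fact p.Prime] (hZ : ¬ p ∣ Nat.card ↥(Subgroup.center G))
    {g : G} (hg : PElt p g) (hc : g ∈ Subgroup.center G) : g = 1 := by
  obtain ⟨k, hk⟩ := hg
  have h1 : orderOf g ∣ p ^ k := orderOf_dvd_of_pow_eq_one hk
  obtain ⟨j, -, hj⟩ := (Nat.dvd_prime_pow Fact.out).1 h1
  have h2 : orderOf (⟨g, hc⟩ : Subgroup.center G) = orderOf g := Subgroup.orderOf_mk g hc
  have h3 : orderOf g ∣ Nat.card ↥(Subgroup.center G) := by
    rw [← h2]; exact orderOf_dvd_natCard _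
  rcases Nat.eq_zero_or_pos j with h0 | h0
  · rw [h0, pow_zero] at hj
    exact orderOf_eq_one_iff.1 hj
  · exfalso
    apply hZ
    refine dvd_trans ?_ h3
    rw [hj]
    exact dvd_pow_self p h0.ne'

theorem idx_ne_one_of_pelt {p : ℕ} [Fact p.Prime] (hZ : ¬ p ∣ Nat.card ↥(Subgroup.center G))
    {g : G} (hg : PElt p g) (h1 : g ≠ 1) : idx g ≠ 1 := by
  intro h
  exact h1 (pelt_eq_one_of_mem_center hZ hg (h8_mem_center_of_idx_eq_one h))

theorem dvd_or_dvd_of_no_common {n a b : ℕ} (hn : n ∣ a * b)
    (h : ∀ t t' : ℕ, t.Prime → t'.Prime → t ∣ a → t ∣ n → t' ∣ b → t' ∣ n → False) :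
    n ∣ a ∨ n ∣ b := by
  by_cases h1 : Nat.Coprime n a
  · right
    exact h1.dvd_of_dvd_mul_left hn
  · by_cases h2 : Nat.Coprime n b
    · left
      exact h2.dvd_of_dvd_mul_right hn
    · exfalso
      obtain ⟨t, ht, htn, hta⟩ := Nat.Prime.not_coprime_iff_dvd.1 h1
      obtain ⟨t', ht', htn', htb⟩ := Nat.Prime.not_coprime_iff_dvd.1 h2
      exact h t t' ht ht' hta htn htb htn'

end Cfsg.Agent.Lib.Helper1.PSG
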