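import Mathlib
import Cfsg.Agent.Lib.Helper3.NMDefs
import Cfsg.Agent.Lib.Helper9.NMBasic
import Cfsg.Agent.Lib.Helper4.CSGConj
import Cfsg.Agent.Lib.Helper7.IT1
import Cfsg.Agent.Lib.Helper8.CSGAsym
import Cfsg.Agent.Lib.Helper4.NMCaseB

/-! S4146 piece P12: the non-commuting case is impossible. -/

set_option autoImplicit false
set_option maxHeartbeats 4000000
set_option linter.unusedVariables false
set_option linter.unusedSectionVars false
set_option linter.style.longLine false
set_option linter.style.haveILetI false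
set_option linter.deprecated false

namespace Cfsg.Agent.Lib.Helper3.NM

open Cfsg.Agent.Lib.Helper8.CSG Cfsg.Agent.Lib.Helper1.PSG

variable {G : Type*} [Group G] [Finite G]

/-- card of a subgroup containing the center -/
theorem h1_card_eq_center_mul_relIndex (K : Subgroup G) (hK : Subgroup.center G ≤ K) :
    Nat.card K = Nat.card (Subgroup.center G) * (Subgroup.center G).relIndex K := by
  have h1 := Subgroup.relIndex_mul_index hK
  have h2 := (Subgroup.center G).card_mul_index
  have h3 := K.card_mul_index
  have hpos : 0 < K.index := Nat.pos_of_ne_zero Subgroup.index_ne_zero_of_finite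
  have h4 : Nat.card K * K.index =
      Nat.card (Subgroup.center G) * (Subgroup.center G).relIndex K * K.index := by
    rw [h3, mul_assoc, h1, h2]
  exact Nat.eq_of_mul_eq_mul_right hpos h4

theorem caseB_false {n m : ℕ} (h : Hyp G n m) (hlt : n < m) (hc : CC G n m)
    (L : Subgroup G) [L.Normal] (hL : IsL L n) {r : ℕ} (hr : r.Prime) {y : G} (hy : PElt r y)
    (hym : idx y = m) {w : G} (hw : idx w = n) (hnc : w * y ≠ y * w) : False := by
  classical
  set Z := Subgroup.center G with hZdef
  set Cy := Subgroup.centralizer ({y} : Set G) with hCy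
  set Cw := Subgroup.centralizer ({w} : Set G) with hCw
  have hCyi : Cy.index = m := hym
  have hCwi : Cw.index = n := hw
  have hco : Cy.index.Coprime Cw.index := by
    rw [hCyi, hCwi]; exact h.cop.symm
  set S := Cw ⊓ Cy with hS
  have hSi : S.index = m * n := by
    have := csg_index_inf hco
    rw [hCyi, hCwi] at this
    exact this
  have hZS : Z ≤ S := by
    intro z hz
    refine ⟨?_, ?_⟩
    · exact Subgroup.center_le_centralizer _ hz
    · exact Subgroup.center_le_centralizer _ hz
  have hZL : Z ≤ L := by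
    intro z hz
    exact (hL z).mpr (Or.inl (h8_idx_eq_one_of_mem_center hz))
  have hwL : w ∈ L := (hL w).mpr (Or.inr hw)
  have hwZ : w ∉ Z := by
    intro hz
    have := h8_idx_eq_one_of_mem_center hz
    rw [hw] at this
    have := h.hn
    omega
  have hmemS : ∀ g : G, g ∈ S ↔ (g * w = w * g ∧ g * y = y * g) := by
    intro g
    rw [hS, Subgroup.mem_inf, hCw, hCy, Subgroup.mem_centralizer_singleton_iff,
      Subgroup.mem_centralizer_singleton_iff]
  -- main claim
  have hSZ : S ≤ Z := by
    intro g hgS
    by_contra hgZ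
    obtain ⟨s, d, hs, hd, hdz, hdZ⟩ := exists_primary_noncentral hgZ
    have hdS : d ∈ S := by
      obtain ⟨j, rfl⟩ := hdz
      exact Subgroup.zpow_mem _ hgS j
    have hdw : Commute d w := ((hmemS d).mp hdS).1
    have hdy : Commute d y := ((hmemS d).mp hdS).2
    obtain ⟨hdm, hdL⟩ := caseB_elts h hlt hc L hL hr hy hym hw hnc hs hd hdy hdw hdZ
    set Cd := Subgroup.centralizer ({d} : Set G) with hCd
    have hLCd : L ≤ Cd := by
      intro x hx
      rw [hCd, Subgroup.mem_centralizer_singleton_iff]
      exact hdL x hx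
    have hcardL : Nat.card L ∣ Nat.card Cd := Subgroup.card_dvd_of_le hLCd
    have hCdi : Cd.index = m := hdm
    have h1 := Cd.card_mul_index
    have h2 := S.card_mul_index
    rw [hCdi] at h1
    rw [hSi] at h2
    have hmpos : 0 < m := by have := h.hm; omega
    have hcardCd : Nat.card Cd = Nat.card S * n := by
      have : Nat.card Cd * m = Nat.card S * n * m := by
        rw [h1, ← h2]; ring
      exact Nat.eq_of_mul_eq_mul_right hmpos this
    have hLeq := h1_card_eq_center_mul_relIndex L hZL
    have hSeq := h1_card_eq_center_mul_relIndex S hZS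
    have hZpos : 0 < Nat.card Z := Nat.card_pos
    have hdvd : Z.relIndex L ∣ n * Z.relIndex S := by
      rw [hcardCd, hLeq, hSeq] at hcardL
      have : Nat.card Z * Z.relIndex L ∣ Nat.card Z * (n * Z.relIndex S) := by
        have e : Nat.card Z * Z.relIndex S * n = Nat.card Z * (n * Z.relIndex S) := by ring
        rw [← e]; exact hcardL
      exact Nat.dvd_of_mul_dvd_mul_left hZpos this
    have hrL : Z.relIndex L ≠ 1 := by
      intro h1
      have := Subgroup.relIndex_eq_one.mp h1
      exact hwZ (this hwL)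
    obtain ⟨t, ht, htd⟩ := Nat.exists_prime_and_dvd hrL
    obtain ⟨x1, hx1L, hx1Z, k1, hk1⟩ := Cfsg.Agent.Lib.Helper7.IT.exists_q_elt ht htd
    have hx1n : idx x1 = n := by
      rcases (hL x1).mp hx1L with h1 | h1
      · exact absurd (h8_mem_center_of_idx_eq_one h1) hx1Z
      · exact h1
    have hx1p : PElt t x1 := ⟨k1, by rw [← hk1]; exact pow_orderOf_eq_one x1⟩
    have htn : ¬ t ∣ n := hc.c1 t x1 ht hx1p hx1n
    have htS : t ∣ Z.relIndex S := by
      have := dvd_trans htd hdvd
      rcases (Nat.Prime.dvd_mul ht).mp this with h1 | h1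
      · exact absurd h1 htn
      · exact h1
    obtain ⟨v, hvS, hvZ, k2, hk2⟩ := Cfsg.Agent.Lib.Helper7.IT.exists_q_elt ht htS
    have hvp : PElt t v := ⟨k2, by rw [← hk2]; exact pow_orderOf_eq_one v⟩
    have hvw : Commute v w := ((hmemS v).mp hvS).1
    have hvy : Commute v y := ((hmemS v).mp hvS).2
    obtain ⟨hvm, _⟩ := caseB_elts h hlt hc L hL hr hy hym hw hnc ht hvp hvy hvw hvZ
    have htm : ¬ t ∣ m := hc.c2 t v ht hvp hvm
    exact hvZ (mem_center_of_pelt h ht htn htm hvp)
  -- conclusion
  obtain ⟨g3, hg3⟩ := h.ex3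
  set C3 := Subgroup.centralizer ({g3} : Set G) with hC3
  have hSC3 : S ≤ C3 := fun g hg => Subgroup.center_le_centralizer _ (hSZ hg)
  have hC3i : C3.index = n * m := hg3
  have hrel : S.relIndex C3 = 1 := by
    have := Subgroup.relIndex_mul_index hSC3
    rw [hSi, hC3i] at this
    have hpos : 0 < n * m := by
      have := h.hn; have := h.hm; positivity
    have h2 : S.relIndex C3 * (n * m) = 1 * (n * m) := by rw [this]; ring
    exact Nat.eq_of_mul_eq_mul_right hpos h2
  have hC3S : C3 ≤ S := Subgroup.relIndex_eq_one.mp hrel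
  have hg3C : g3 ∈ C3 := by
    rw [hC3, Subgroup.mem_centralizer_singleton_iff]
  have hg3Z : g3 ∈ Z := hSZ (hC3S hg3C)
  have := h8_idx_eq_one_of_mem_center hg3Z
  rw [hg3] at this
  have h1 := h.hn
  have h2 := h.hm
  nlinarith
end Cfsg.Agent.Lib.Helper3.NM
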