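import Mathlib
import Cfsg.Agent.Lib.Helper3.NMDefs
import Cfsg.Agent.Lib.Helper9.NMBasic
import Cfsg.Agent.Lib.Helper8.K6b

/-! S4146 piece P6: both sides straight implies nilpotent. -/

set_option autoImplicit false
set_option maxHeartbeats 4000000
set_option linter.unusedVariables false
set_option linter.unusedSectionVars false
set_option linter.style.longLine false
set_option linter.style.haveILetI false
set_option linter.deprecated false

namespace Cfsg.Agent.Lib.Helper3.NM

open Cfsg.Agent.Lib.Helper8.CSG Cfsg.Agent.Lib.Helper1.PSG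

variable {G : Type*} [Group G] [Finite G]

/-- normal `p`-complement from a straight `p`-element when `n = p ^ a`, `m = q ^ b`. -/
theorem h1_npc_of_straight {n m : ℕ} (h : Hyp G n m) {p q a b : ℕ} (hp : p.Prime)
    (hq : q.Prime) (hna : n = p ^ a) (hmb : m = q ^ b) {x : G} (hx : PElt p x) (hxn : idx x = n) :
    Cfsg.HasNormalPComplement p G := by
  haveI : Fact p.Prime := ⟨hp⟩
  have hpq : p ≠ q := by
    intro hpq
    subst hpq
    have ha : a ≠ 0 := by
      rintro rfl
      have := h.hn
      rw [hna] at this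
      simp at this
    have hb : b ≠ 0 := by
      rintro rfl
      have := h.hm
      rw [hmb] at this
      simp at this
    have hc := h.cop
    rw [hna, hmb] at hc
    have h1 : p ∣ Nat.gcd (p ^ a) (p ^ b) :=
      Nat.dvd_gcd (dvd_pow_self p ha) (dvd_pow_self p hb)
    rw [Nat.Coprime] at hc
    rw [hc] at h1
    exact hp.one_lt.ne' (Nat.dvd_one.mp h1)
  have hpqb : ¬ p ∣ q ^ b := by
    intro hd
    have := hp.dvd_of_dvd_pow hd
    exact hpq ((Nat.prime_dvd_prime_iff_eq hp hq).mp this)
  have hmax : ∀ g : G, ¬ p ^ (a + 1) ∣ (Subgroup.centralizer ({g} : Set G)).index := by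
    intro g hd
    have hg := h.mem g
    change idx g = 1 ∨ idx g = n ∨ idx g = m ∨ idx g = n * m at hg
    change p ^ (a + 1) ∣ idx g at hd
    rcases hg with hg | hg | hg | hg
    · rw [hg] at hd
      have := Nat.dvd_one.mp hd
      have h2 : 1 < p ^ (a + 1) := Nat.one_lt_pow (by omega) hp.one_lt
      omega
    · rw [hg, hna] at hd
      have := (Nat.pow_dvd_pow_iff_le_right hp.one_lt).mp hd
      omega
    · rw [hg, hmb] at hd
      exact hpqb (dvd_trans (dvd_pow_self p (by omega)) hd)
    · rw [hg, hna, hmb, pow_succ] at hd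
      have h3 : p ∣ q ^ b := by
        have h4 : p ^ a * p ∣ p ^ a * q ^ b := hd
        exact Nat.dvd_of_mul_dvd_mul_left (pow_pos hp.pos a) h4
      exact hpqb h3
  obtain ⟨k, hk⟩ := hx
  have hord : orderOf x ∣ p ^ k := orderOf_dvd_of_pow_eq_one hk
  obtain ⟨j, _, hj⟩ := (Nat.dvd_prime_pow hp).mp hord
  exact Cfsg.Agent.Lib.Helper8.K6.npc_of_max_ppart p a hmax x j hj (by
    change idx x = p ^ a
    rw [hxn, hna])

/-- a `p`-element of a subgroup of order prime to `p` is trivial -/
theorem h1_pelt_eq_one_of_coprime {p : ℕ} (hp : p.Prime) (N : Subgroup G)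
    (hN : (Nat.card N).Coprime p) {d : G} (hd : PElt p d) (hdN : d ∈ N) : d = 1 := by
  obtain ⟨k, hk⟩ := hd
  have h1 : orderOf d ∣ p ^ k := orderOf_dvd_of_pow_eq_one hk
  have h2 : orderOf d ∣ Nat.card N := by
    have : orderOf (⟨d, hdN⟩ : N) = orderOf d := Subgroup.orderOf_mk d hdN
    rw [← this]
    exact orderOf_dvd_natCard _
  have h3 : orderOf d ∣ Nat.gcd (Nat.card N) (p ^ k) := Nat.dvd_gcd h2 h1
  have h4 : Nat.gcd (Nat.card N) (p ^ k) = 1 := Nat.Coprime.pow_right k hN
  rw [h4] at h3
  exact orderOf_eq_one_iff.mp (Nat.dvd_one.mp h3)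

theorem nilpotent_of_straight_both {n m : ℕ} (h : Hyp G n m) {p q a b : ℕ} (hp : p.Prime)
    (hq : q.Prime) (hna : n = p ^ a) (hmb : m = q ^ b) {x y : G} (hx : PElt p x) (hxn : idx x = n)
    (hy : PElt q y) (hym : idx y = m) : Group.IsNilpotent G := by
  haveI : Fact p.Prime := ⟨hp⟩
  haveI : Fact q.Prime := ⟨hq⟩
  obtain ⟨P, Np, hNp, hcp⟩ := h1_npc_of_straight h hp hq hna hmb hx hxn
  obtain ⟨Q, Nq, hNq, hcq⟩ := h1_npc_of_straight h.symm hq hp hmb hna hy hym
  haveI := hNp
  haveI := hNq
  -- orders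
  have hcardp : Nat.card Np * Nat.card (P : Subgroup G) = Nat.card G := hcp.card_mul
  have hcardq : Nat.card Nq * Nat.card (Q : Subgroup G) = Nat.card G := hcq.card_mul
  have hidxp : Np.index = Nat.card (P : Subgroup G) := by
    have := Np.card_mul_index
    have hpos : 0 < Nat.card Np := Nat.card_pos
    nlinarith [Nat.eq_of_mul_eq_mul_left hpos (this.trans hcardp.symm)]
  have hidxq : Nq.index = Nat.card (Q : Subgroup G) := by
    have := Nq.card_mul_index
    have hpos : 0 < Nat.card Nq := Nat.card_pos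
    nlinarith [Nat.eq_of_mul_eq_mul_left hpos (this.trans hcardq.symm)]
  obtain ⟨kp, hkp⟩ := (P.isPGroup').exists_card_eq
  obtain ⟨kq, hkq⟩ := (Q.isPGroup').exists_card_eq
  -- coprimality of the complements
  have hNpcop : (Nat.card Np).Coprime p := by
    have h1 : ¬ p ∣ (P : Subgroup G).index := P.not_dvd_index
    have h2 : (P : Subgroup G).index = Nat.card Np := by
      have := (P : Subgroup G).card_mul_index
      have hpos : 0 < Nat.card (P : Subgroup G) := Nat.card_pos
      have h3 : Nat.card (P : Subgroup G) * (P : Subgroup G).index =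
          Nat.card (P : Subgroup G) * Nat.card Np := by rw [this, ← hcardp, Nat.mul_comm]
      exact Nat.eq_of_mul_eq_mul_left hpos h3
    rw [h2] at h1
    exact ((Nat.Prime.coprime_iff_not_dvd hp).mpr h1).symm
  have hNqcop : (Nat.card Nq).Coprime q := by
    have h1 : ¬ q ∣ (Q : Subgroup G).index := Q.not_dvd_index
    have h2 : (Q : Subgroup G).index = Nat.card Nq := by
      have := (Q : Subgroup G).card_mul_index
      have hpos : 0 < Nat.card (Q : Subgroup G) := Nat.card_pos
      have h3 : Nat.card (Q : Subgroup G) * (Q : Subgroup G).index =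
          Nat.card (Q : Subgroup G) * Nat.card Nq := by rw [this, ← hcardq, Nat.mul_comm]
      exact Nat.eq_of_mul_eq_mul_left hpos h3
    rw [h2] at h1
    exact ((Nat.Prime.coprime_iff_not_dvd hq).mpr h1).symm
  -- the quotients are nilpotent
  have hqp : Group.IsNilpotent (G ⧸ Np) := by
    have : IsPGroup p (G ⧸ Np) := by
      apply IsPGroup.of_card (n := kp)
      rw [← hkp, ← hidxp]
      rfl
    exact this.isNilpotent
  have hqq : Group.IsNilpotent (G ⧸ Nq) := by
    have : IsPGroup q (G ⧸ Nq) := by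
      apply IsPGroup.of_card (n := kq)
      rw [← hkq, ← hidxq]
      rfl
    exact this.isNilpotent
  haveI := hqp
  haveI := hqq
  let φ : G →* (G ⧸ Np) × (G ⧸ Nq) := (QuotientGroup.mk' Np).prod (QuotientGroup.mk' Nq)
  refine isNilpotent_of_ker_le_center φ ?_
  intro g hg
  have hgp : g ∈ Np := by
    have : φ g = 1 := hg
    have h1 : (QuotientGroup.mk' Np) g = 1 := congrArg Prod.fst this
    exact (QuotientGroup.eq_one_iff g).mp h1
  have hgq : g ∈ Nq := by
    have : φ g = 1 := hg
    have h1 : (QuotientGroup.mk' Nq) g = 1 := congrArg Prod.snd this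
    exact (QuotientGroup.eq_one_iff g).mp h1
  apply mem_of_primary (Subgroup.center G) g
  intro s d hs hd hdz
  have hdp : d ∈ Np := by
    obtain ⟨j, rfl⟩ := hdz
    exact Subgroup.zpow_mem _ hgp j
  have hdq : d ∈ Nq := by
    obtain ⟨j, rfl⟩ := hdz
    exact Subgroup.zpow_mem _ hgq j
  by_cases hsp : s = p
  · subst hsp
    rw [h1_pelt_eq_one_of_coprime hp Np hNpcop hd hdp]
    exact Subgroup.one_mem _
  by_cases hsq : s = q
  · subst hsq
    rw [h1_pelt_eq_one_of_coprime hq Nq hNqcop hd hdq]
    exact Subgroup.one_mem _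
  have hsn : ¬ s ∣ n := by
    rw [hna]
    intro hd2
    exact hsp ((Nat.prime_dvd_prime_iff_eq hs hp).mp (hs.dvd_of_dvd_pow hd2))
  have hsm : ¬ s ∣ m := by
    rw [hmb]
    intro hd2
    exact hsq ((Nat.prime_dvd_prime_iff_eq hs hq).mp (hs.dvd_of_dvd_pow hd2))
  exact mem_center_of_pelt h hs hsn hsm hd

end Cfsg.Agent.Lib.Helper3.NM
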