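import Mathlib
import Cfsg.Agent.Lib.Helper3.NMDefs
import Cfsg.Agent.Lib.Helper9.NMBasic
import Cfsg.Agent.Lib.Helper4.CSGConj
import Cfsg.Agent.Lib.Helper8.NMP1
import Cfsg.Agent.Lib.Helper8.NMP3

/-! S4146 piece P4: the Hall `p'`-subgroup of `C(x)` for a straight `p`-element `x`. -/

set_option autoImplicit false
set_option maxHeartbeats 4000000
set_option linter.unusedVariables false
set_option linter.unusedSectionVars false
set_option linter.style.longLine false
set_option linter.style.haveILetI false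
set_option linter.deprecated false

namespace Cfsg.Agent.Lib.Helper3.NM

open Cfsg.Agent.Lib.Helper8.CSG Cfsg.Agent.Lib.Helper1.PSG

variable {G : Type*} [Group G] [Finite G]

/-- centralizer of a product of commuting elements of coprime orders -/
theorem h1_centralizer_mul_of_coprime {u w : G} (hc : Commute u w)
    (ho : (orderOf u).Coprime (orderOf w)) :
    Subgroup.centralizer ({u * w} : Set G) =
      Subgroup.centralizer ({u} : Set G) ⊓ Subgroup.centralizer ({w} : Set G) := by
  obtain ⟨a, ha⟩ := exists_pow_eq_self_of_coprime (x := u) ho.symm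
  obtain ⟨b, hb⟩ := exists_pow_eq_self_of_coprime (x := w) ho
  have hu' : (u * w) ^ (orderOf w * a) = u := by
    rw [pow_mul, hc.mul_pow, pow_orderOf_eq_one, mul_one, ha]
  have hw' : (u * w) ^ (orderOf u * b) = w := by
    rw [pow_mul, hc.mul_pow, pow_orderOf_eq_one, one_mul, hb]
  apply le_antisymm
  · intro c hcz
    rw [Subgroup.mem_centralizer_singleton_iff] at hcz
    have hcom : Commute c (u * w) := hcz
    refine Subgroup.mem_inf.mpr ⟨?_, ?_⟩
    · rw [Subgroup.mem_centralizer_singleton_iff]
      have := hcom.pow_right (orderOf w * a)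
      rw [hu'] at this
      exact this
    · rw [Subgroup.mem_centralizer_singleton_iff]
      have := hcom.pow_right (orderOf u * b)
      rw [hw'] at this
      exact this
  · intro c hc'
    obtain ⟨h1, h2⟩ := Subgroup.mem_inf.mp hc'
    rw [Subgroup.mem_centralizer_singleton_iff] at h1 h2 ⊢
    have h1' : Commute c u := h1
    have h2' : Commute c w := h2
    exact h1'.mul_right h2'

theorem h1_coprime_order_of_pelt {p : ℕ} (hp : p.Prime) {x u : G} (hx : PElt p x)
    (hup : (orderOf u).Coprime p) : (orderOf x).Coprime (orderOf u) := by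
  obtain ⟨k, hk⟩ := hx
  have hord : orderOf x ∣ p ^ k := orderOf_dvd_of_pow_eq_one hk
  obtain ⟨j, _, hj⟩ := (Nat.dvd_prime_pow hp).mp hord
  rw [hj]
  exact (Nat.Coprime.pow_right j hup).symm

theorem relIndex_of_straight {n m : ℕ} (h : Hyp G n m) {p : ℕ} (hp : p.Prime) {x : G}
    (hx : PElt p x) (hxn : idx x = n) {u : G} (hu : Commute x u) (hup : (orderOf u).Coprime p) :
    ((Subgroup.centralizer ({u} : Set G)).relIndex (Subgroup.centralizer ({x} : Set G)) = 1 ∧
        idx (x * u) = n) ∨
    ((Subgroup.centralizer ({u} : Set G)).relIndex (Subgroup.centralizer ({x} : Set G)) = m ∧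
        idx (x * u) = n * m) := by
  have ho := h1_coprime_order_of_pelt hp hx hup
  have hcent := h1_centralizer_mul_of_coprime hu ho
  set Cx := Subgroup.centralizer ({x} : Set G) with hCx
  set Cu := Subgroup.centralizer ({u} : Set G) with hCu
  have hidx : idx (x * u) = Cu.relIndex Cx * n := by
    change (Subgroup.centralizer ({x * u} : Set G)).index = _
    rw [hcent]
    have h1 := Subgroup.relIndex_mul_index (inf_le_left : Cx ⊓ Cu ≤ Cx)
    rw [Subgroup.inf_relIndex_left] at h1
    have h2 : Cx.index = n := hxn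
    rw [h2] at h1
    exact h1.symm
  have hn := h.hn
  have hm := h.hm
  have hnpos : 0 < n := by omega
  rcases h.mem (x * u) with h1 | h1 | h1 | h1
  · exfalso
    rw [hidx] at h1
    have : n ∣ 1 := ⟨Cu.relIndex Cx, by rw [Nat.mul_comm]; exact h1.symm⟩
    have := Nat.dvd_one.mp this
    omega
  · left
    refine ⟨?_, h1⟩
    rw [hidx] at h1
    have : Cu.relIndex Cx * n = 1 * n := by rw [h1]; ring
    exact Nat.eq_of_mul_eq_mul_right hnpos this
  · exfalso
    rw [hidx] at h1
    have hd : n ∣ m := ⟨Cu.relIndex Cx, by rw [Nat.mul_comm]; exact h1.symm⟩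
    have := Nat.Coprime.eq_one_of_dvd h.cop hd
    omega
  · right
    refine ⟨?_, h1⟩
    rw [hidx] at h1
    have : Cu.relIndex Cx * n = m * n := by rw [h1]; ring
    exact Nat.eq_of_mul_eq_mul_right hnpos this

theorem straight_hall {n m : ℕ} (h : Hyp G n m) {p : ℕ} (hp : p.Prime) (hpn : p ∣ n) {x : G}
    (hx : PElt p x) (hxn : idx x = n) :
    ∃ H : Subgroup G, H ≤ Subgroup.centralizer ({x} : Set G) ∧ (Nat.card H).Coprime p ∧
      (∃ k : ℕ, H.relIndex (Subgroup.centralizer ({x} : Set G)) = p ^ k) ∧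
      (∀ u ∈ Subgroup.centralizer ({x} : Set G), (orderOf u).Coprime p → u ∈ H) ∧
      (∀ h ∈ H, ∀ t ∈ Subgroup.centralizer ({x} : Set G), PElt p t → h * t = t * h) ∧
      (∀ h ∈ H, ((Subgroup.centralizer ({h} : Set G)).relIndex H = 1 ∧ idx (x * h) = n) ∨
        ((Subgroup.centralizer ({h} : Set G)).relIndex H = m ∧ idx (x * h) = n * m)) := by
  haveI : Fact p.Prime := ⟨hp⟩
  have hpm : ¬ p ∣ m := by
    intro hd
    have := Nat.dvd_gcd hpn hd
    rw [h.cop] at this
    exact hp.one_lt.ne' (Nat.dvd_one.mp this)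
  have hcomm_of_mem : ∀ u ∈ Subgroup.centralizer ({x} : Set G), Commute x u := by
    intro u hu
    rw [Subgroup.mem_centralizer_singleton_iff] at hu
    exact hu.symm
  have hC : ∀ u ∈ Subgroup.centralizer ({x} : Set G), (orderOf u).Coprime p →
      ¬ p ∣ (Subgroup.centralizer ({u} : Set G)).relIndex (Subgroup.centralizer ({x} : Set G)) := by
    intro u hu hup hd
    rcases relIndex_of_straight h hp hx hxn (hcomm_of_mem u hu) hup with ⟨h1, _⟩ | ⟨h1, _⟩
    · rw [h1] at hd
      exact hp.one_lt.ne' (Nat.dvd_one.mp hd)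
    · rw [h1] at hd
      exact hpm hd
  obtain ⟨H, hHC, hcop, hk, hall, hcomm⟩ := hall_of_subgroup (Subgroup.centralizer ({x} : Set G)) hC
  refine ⟨H, hHC, hcop, hk, hall, hcomm, ?_⟩
  intro g hg
  have hgp : (orderOf g).Coprime p := by
    have h2 : orderOf g ∣ Nat.card H := by
      have : orderOf (⟨g, hg⟩ : H) = orderOf g := Subgroup.orderOf_mk g hg
      rw [← this]
      exact orderOf_dvd_natCard _
    exact Nat.Coprime.coprime_dvd_left h2 hcop
  rw [relIndex_hall_eq (Subgroup.centralizer ({x} : Set G)) H hHC hall hcomm hg]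
  exact relIndex_of_straight h hp hx hxn (hcomm_of_mem g (hHC hg)) hgp

end Cfsg.Agent.Lib.Helper3.NM
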