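import Mathlib
import Cfsg.Agent.Lib.Helper3.NMDefs
import Cfsg.Agent.Lib.Helper9.NMBasic
import Cfsg.Agent.Lib.Helper4.CSGConj
import Cfsg.Agent.Lib.Helper9.PSGBasicB
import Cfsg.Agent.Lib.Helper1.PSGBasicA
import Cfsg.Agent.Lib.Helper8.CSGAsym
import Cfsg.Agent.Lib.Helper8.NMP2
import Cfsg.Agent.Lib.Helper1.NMStraightHall

/-! S4146 piece P5: a straight element on the `n`-side forces `m = q ^ b` and a straight element on
the `m`-side. -/

set_option autoImplicit false
set_option maxHeartbeats 4000000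
set_option linter.unusedVariables false
set_option linter.unusedSectionVars false
set_option linter.style.longLine false
set_option linter.style.haveILetI false
set_option linter.deprecated false

namespace Cfsg.Agent.Lib.Helper3.NM

open Cfsg.Agent.Lib.Helper8.CSG Cfsg.Agent.Lib.Helper1.PSG

variable {G : Type*} [Group G] [Finite G]

theorem h1_cent_le_of_mem_zpowers {a b : G} (hb : b ∈ Subgroup.zpowers a) :
    Subgroup.centralizer ({a} : Set G) ≤ Subgroup.centralizer ({b} : Set G) := by
  intro c hc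
  rw [Subgroup.mem_centralizer_singleton_iff] at hc ⊢
  obtain ⟨i, hi⟩ := Subgroup.mem_zpowers_iff.mp hb
  have h1 : Commute c a := hc
  have h2 : Commute c (a ^ i) := h1.zpow_right i
  rw [hi] at h2
  exact h2

theorem h1_idx_dvd_of_mem_zpowers {a b : G} (hb : b ∈ Subgroup.zpowers a) : idx b ∣ idx a :=
  Subgroup.index_dvd_of_le (h1_cent_le_of_mem_zpowers hb)

theorem h1_coprime_of_not_dvd {p : ℕ} (hp : p.Prime) {k : ℕ} (h : ¬ p ∣ k) : k.Coprime p :=
  ((Nat.Prime.coprime_iff_not_dvd hp).mpr h).symm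

theorem straight_step {n m : ℕ} (h : Hyp G n m) {p : ℕ} (hp : p.Prime) (hpn : p ∣ n) {x : G}
    (hx : PElt p x) (hxn : idx x = n) :
    ∃ (q b : ℕ) (y : G), q.Prime ∧ m = q ^ b ∧ PElt q y ∧ idx y = m := by
  haveI : Fact p.Prime := ⟨hp⟩
  have hn := h.hn
  have hm := h.hm
  have hpm : ¬ p ∣ m := by
    intro hd
    have := Nat.dvd_gcd hpn hd
    rw [h.cop] at this
    exact hp.one_lt.ne' (Nat.dvd_one.mp this)
  obtain ⟨y0, hy0⟩ := h.ex2
  obtain ⟨g, hg⟩ := exists_conj_commute (p := p) (u := y0) (v := x) (by rw [hy0]; exact hpm) hx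
  set x' := g * x * g⁻¹ with hx'def
  have hx' : PElt p x' := pelt_conj hx g
  have hx'n : idx x' = n := by rw [hx'def, idx_conj]; exact hxn
  obtain ⟨H, hHC, hHcop, ⟨k, hk⟩, hall, hcomm, hcls⟩ := straight_hall h hp hpn hx' hx'n
  set C := Subgroup.centralizer ({x'} : Set G) with hCdef
  have hy0C : y0 ∈ C := by
    rw [hCdef, Subgroup.mem_centralizer_singleton_iff]
    exact hg.eq
  have hzC : Subgroup.zpowers y0 ≤ C := by
    rw [Subgroup.zpowers_le]; exact hy0C
  obtain ⟨u, w, hy0uw, hcuw, hpu, hpw, huz, hwz, _⟩ := exists_decomp p y0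
  have huC : u ∈ C := hzC huz
  have hwC : w ∈ C := hzC hwz
  have hwH : w ∈ H := hall w hwC (h1_coprime_of_not_dvd hp hpw)
  -- `u` is central
  have hu1 : idx u = 1 := by
    have hd : idx u ∣ m := by rw [← hy0]; exact h1_idx_dvd_of_mem_zpowers huz
    rcases idx_of_dvd_right h hd with h1 | h1
    · exact h1
    · exfalso
      -- `H ≤ C(u) ⊓ C`
      set Cu := Subgroup.centralizer ({u} : Set G) with hCudef
      have hHle : H ≤ Cu ⊓ C := by
        intro c hc
        refine Subgroup.mem_inf.mpr ⟨?_, hHC hc⟩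
        rw [hCudef, Subgroup.mem_centralizer_singleton_iff]
        exact hcomm c hc u huC hpu
      have hco : C.index.Coprime Cu.index := by
        have e1 : C.index = n := hx'n
        have e2 : Cu.index = m := h1
        rw [e1, e2]; exact h.cop
      have hinf : (Cu ⊓ C).index = C.index * Cu.index := csg_index_inf hco
      have hrel : (Cu ⊓ C).relIndex C * C.index = (Cu ⊓ C).index :=
        Subgroup.relIndex_mul_index inf_le_right
      have e1 : C.index = n := hx'n
      have e2 : Cu.index = m := h1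
      have hrelm : (Cu ⊓ C).relIndex C = m := by
        rw [hinf, e1, e2] at hrel
        have hnpos : 0 < n := by omega
        have : (Cu ⊓ C).relIndex C * n = m * n := by rw [hrel]; ring
        exact Nat.eq_of_mul_eq_mul_right hnpos this
      have hdvd : (Cu ⊓ C).relIndex C ∣ H.relIndex C :=
        Subgroup.relIndex_dvd_of_le_left C hHle
      rw [hrelm, hk] at hdvd
      obtain ⟨j, _, hj⟩ := (Nat.dvd_prime_pow hp).mp hdvd
      rcases Nat.eq_zero_or_pos j with h0 | h0
      · rw [h0, pow_zero] at hj; omega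
      · exact hpm (hj ▸ dvd_pow_self p (by omega))
  have huZ : u ∈ Subgroup.center G := h8_mem_center_of_idx_eq_one hu1
  -- `idx w = m`
  have hwm : idx w = m := by
    have hd : idx w ∣ m := by rw [← hy0]; exact h1_idx_dvd_of_mem_zpowers hwz
    rcases idx_of_dvd_right h hd with h1 | h1
    · exfalso
      have hwZ : w ∈ Subgroup.center G := h8_mem_center_of_idx_eq_one h1
      have hyZ : y0 ∈ Subgroup.center G := by
        rw [hy0uw]; exact Subgroup.mul_mem _ huZ hwZ
      have := h8_idx_eq_one_of_mem_center hyZ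
      omega
    · exact h1
  -- the class of `w` in `H` has size `m`
  have hcx'w : Commute x' w := by
    have := hwC
    rw [hCdef, Subgroup.mem_centralizer_singleton_iff] at this
    exact Commute.symm this
  have hrelw : (Subgroup.centralizer ({w} : Set G)).relIndex H = m := by
    rcases hcls w hwH with ⟨_, h2⟩ | ⟨h1, _⟩
    · exfalso
      have ho : (orderOf x').Coprime (orderOf w) :=
        h1_coprime_order_of_pelt hp hx' (h1_coprime_of_not_dvd hp hpw)
      have hd := (idx_dvd_idx_mul_of_coprime_order hcx'w ho).2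
      rw [h2, hwm] at hd
      have := Nat.Coprime.eq_one_of_dvd h.cop.symm hd
      omega
    · exact h1
  have hH : ∀ c ∈ H, (Subgroup.centralizer ({c} : Set G)).relIndex H = 1 ∨
      (Subgroup.centralizer ({c} : Set G)).relIndex H = m := by
    intro c hc
    rcases hcls c hc with ⟨h1, _⟩ | ⟨h1, _⟩
    · exact Or.inl h1
    · exact Or.inr h1
  obtain ⟨q, b, hq, hmb, hqc⟩ := ito_subgroup H hm hH ⟨w, hwH, hrelw⟩
  haveI : Fact q.Prime := ⟨hq⟩
  obtain ⟨wq, wr, hwdec, hcqr, hpwq, hpwr, hwqz, hwrz, _⟩ := exists_decomp q w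
  have hzH : Subgroup.zpowers w ≤ H := by
    rw [Subgroup.zpowers_le]; exact hwH
  have hwrH : wr ∈ H := hzH hwrz
  -- `C ≤ C(wr)`
  have hCle : C ≤ Subgroup.centralizer ({wr} : Set G) := by
    intro c hc
    rw [Subgroup.mem_centralizer_singleton_iff]
    obtain ⟨c1, c2, hcdec, _, hpc1, hpc2, hc1z, hc2z, _⟩ := exists_decomp p c
    have hzc : Subgroup.zpowers c ≤ C := by
      rw [Subgroup.zpowers_le]; exact hc
    have hc1C : c1 ∈ C := hzc hc1z
    have hc2C : c2 ∈ C := hzc hc2z
    have hc2H : c2 ∈ H := hall c2 hc2C (h1_coprime_of_not_dvd hp hpc2)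
    have e1 : wr * c1 = c1 * wr := hcomm wr hwrH c1 hc1C hpc1
    have e2 : wr * c2 = c2 * wr := hqc wr hwrH hpwr c2 hc2H
    rw [hcdec]
    calc c1 * c2 * wr = c1 * (c2 * wr) := by rw [mul_assoc]
      _ = c1 * (wr * c2) := by rw [e2]
      _ = (c1 * wr) * c2 := by rw [mul_assoc]
      _ = (wr * c1) * c2 := by rw [e1]
      _ = wr * (c1 * c2) := by rw [mul_assoc]
  have hwr1 : idx wr = 1 := by
    have hd1 : idx wr ∣ n := by
      have := Subgroup.index_dvd_of_le hCle
      have e1 : C.index = n := hx'n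
      rw [e1] at this
      exact this
    have hd2 : idx wr ∣ m := by rw [← hwm]; exact h1_idx_dvd_of_mem_zpowers hwrz
    have := Nat.dvd_gcd hd1 hd2
    rw [h.cop] at this
    exact Nat.dvd_one.mp this
  have hwrZ : wr ∈ Subgroup.center G := h8_mem_center_of_idx_eq_one hwr1
  have hwqm : idx wq = m := by
    have hd : idx wq ∣ m := by rw [← hwm]; exact h1_idx_dvd_of_mem_zpowers hwqz
    rcases idx_of_dvd_right h hd with h1 | h1
    · exfalso
      have hwqZ : wq ∈ Subgroup.center G := h8_mem_center_of_idx_eq_one h1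
      have hwZ : w ∈ Subgroup.center G := by
        rw [hwdec]; exact Subgroup.mul_mem _ hwqZ hwrZ
      have := h8_idx_eq_one_of_mem_center hwZ
      omega
    · exact h1
  exact ⟨q, b, wq, hq, hmb, hpwq, hwqm⟩

end Cfsg.Agent.Lib.Helper3.NM
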