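import Mathlib
import Cfsg.Agent.Lib.Helper5.SL2Quat
set_option autoImplicit false
set_option maxHeartbeats 4000000
set_option linter.unusedVariables false
set_option linter.unusedSectionVars false
set_option linter.style.longLine false
universe u v w
namespace Cfsg.Agent.Lib.Helper1.NQ

/-- a group with a commutative subgroup outside of which every element squares to one -/
def Pdih (T : Type*) [Group T] : Prop :=
  ∃ A : Subgroup T, (∀ x ∈ A, ∀ y ∈ A, x * y = y * x) ∧ ∀ x, x ∉ A → x * x = 1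

theorem Pdih.of_surjective {T : Type*} [Group T] {R : Type*} [Group R] (h : Pdih T)
    (φ : T →* R) (hφ : Function.Surjective φ) : Pdih R := by
  obtain ⟨A, hA1, hA2⟩ := h
  refine ⟨A.map φ, ?_, ?_⟩
  · rintro _ ⟨x, hx, rfl⟩ _ ⟨y, hy, rfl⟩
    rw [← map_mul, ← map_mul, hA1 x hx y hy]
  · intro r hr
    obtain ⟨x, rfl⟩ := hφ r
    have hx : x ∉ A := fun hx => hr ⟨x, hx, rfl⟩
    rw [← map_mul, hA2 x hx, map_one]

theorem Pdih.of_comm {T : Type*} [Group T] (h : ∀ x y : T, x * y = y * x) : Pdih T :=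
  ⟨⊤, fun x _ y _ => h x y, fun x hx => absurd (Subgroup.mem_top x) hx⟩

theorem Pdih.not_quaternion {R : Type*} [Group R] (h : Pdih R) (m : ℕ) (hm : 2 ≤ m)
    (e : R ≃* QuaternionGroup m) : False := by
  have h' : Pdih (QuaternionGroup m) := h.of_surjective e.toMonoidHom e.surjective
  obtain ⟨A, hA1, hA2⟩ := h'
  haveI : NeZero (2 * m) := ⟨by omega⟩
  have h2 : (2 : ZMod (2 * m)) ≠ 0 := by
    intro h0
    have h1 : ((2 : ℕ) : ZMod (2 * m)) = 0 := by exact_mod_cast h0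
    rw [ZMod.natCast_eq_zero_iff] at h1
    have := Nat.le_of_dvd (by norm_num) h1
    omega
  have hmz : ((m : ℕ) : ZMod (2 * m)) ≠ 0 := by
    intro h0
    rw [ZMod.natCast_eq_zero_iff] at h0
    have := Nat.le_of_dvd (by omega) h0
    omega
  have ha : QuaternionGroup.a (1 : ZMod (2 * m)) ∈ A := by
    by_contra hna
    have h1 := hA2 _ hna
    rw [QuaternionGroup.a_mul_a, QuaternionGroup.one_def] at h1
    have h3 := QuaternionGroup.a.inj h1
    apply h2
    rw [← h3]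
    norm_num
  have hx : QuaternionGroup.xa (0 : ZMod (2 * m)) ∈ A := by
    by_contra hna
    have h1 := hA2 _ hna
    rw [QuaternionGroup.xa_mul_xa, QuaternionGroup.one_def] at h1
    have h3 := QuaternionGroup.a.inj h1
    apply hmz
    simpa using h3
  have h1 := hA1 _ ha _ hx
  rw [QuaternionGroup.a_mul_xa, QuaternionGroup.xa_mul_a] at h1
  have h3 := QuaternionGroup.xa.inj h1
  apply h2
  linear_combination -h3

open Matrix in
/-- `2`-subgroups of `PSL₂(q)`, `q` odd, are "dihedral-like" -/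
theorem pdih_of_psl2 {F : Type*} [Field F] [Fintype F] (hF : Odd (Fintype.card F))
    (T : Subgroup (Matrix.ProjectiveSpecialLinearGroup (Fin 2) F)) (hT : IsPGroup 2 T) :
    Pdih T := by
  classical
  haveI : Fact (Nat.Prime 2) := ⟨Nat.prime_two⟩
  have hchar : ringChar F ≠ 2 := by
    intro h
    have := FiniteField.even_card_of_char_two h
    rcases hF with ⟨k, hk⟩
    omega
  have h2 : (2 : F) ≠ 0 := Ring.two_ne_zero hchar
  obtain ⟨π, hπdef⟩ : ∃ π : Matrix.SpecialLinearGroup (Fin 2) F →*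
      Matrix.ProjectiveSpecialLinearGroup (Fin 2) F,
      π = QuotientGroup.mk' (Subgroup.center (Matrix.SpecialLinearGroup (Fin 2) F)) := ⟨_, rfl⟩
  have hπ : Function.Surjective π := by
    rw [hπdef]; exact QuotientGroup.mk'_surjective _
  have hπ1 : ∀ z : Matrix.SpecialLinearGroup (Fin 2) F, π z = 1 ↔
      z ∈ Subgroup.center (Matrix.SpecialLinearGroup (Fin 2) F) := by
    intro z
    rw [hπdef]
    exact QuotientGroup.eq_one_iff z
  have hker : ∀ z : Matrix.SpecialLinearGroup (Fin 2) F, π z = 1 → z * z = 1 := by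
    intro z hz
    have hz' := (hπ1 z).mp hz
    rw [Matrix.SpecialLinearGroup.mem_center_iff] at hz'
    obtain ⟨r, hr, hrz⟩ := hz'
    apply Subtype.ext
    rw [Matrix.SpecialLinearGroup.coe_mul, ← hrz, ← map_mul, Matrix.SpecialLinearGroup.coe_one]
    rw [Fintype.card_fin] at hr
    rw [← sq, hr, map_one]
  have hcen : ∀ w : Matrix.SpecialLinearGroup (Fin 2) F, w ^ 2 = 1 → π w = 1 := by
    intro w hw
    apply (hπ1 w).mpr
    rw [Matrix.SpecialLinearGroup.mem_center_iff]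
    rcases Cfsg.Agent.Lib.Helper5.SL2Quat.eq_one_or_neg_one h2 w hw with h | h
    · exact ⟨1, one_pow _, by rw [map_one, h]⟩
    · refine ⟨-1, ?_, by rw [map_neg, map_one, h]⟩
      rw [Fintype.card_fin]; norm_num
  have hThat : IsPGroup 2 (T.comap π) := by
    rintro ⟨x, hx⟩
    obtain ⟨k, hk⟩ := hT ⟨π x, hx⟩
    refine ⟨k + 1, ?_⟩
    have h1 : π (x ^ 2 ^ k) = 1 := by
      have := congrArg Subtype.val hk
      simpa using this
    have h2' := hker _ h1
    apply Subtype.ext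
    rw [Subgroup.coe_pow, Subgroup.coe_one]
    show x ^ 2 ^ (k + 1) = 1
    rw [pow_succ, pow_mul, sq]
    exact h2'
  obtain ⟨P, hP⟩ := hThat.exists_le_sylow
  obtain ⟨k, hk, ⟨e⟩⟩ := Cfsg.Agent.Lib.Helper5.SL2Quat.sylow_two_quaternion hF P
  let A : Subgroup T :=
    { carrier := {t | ∃ (x : Matrix.SpecialLinearGroup (Fin 2) F) (hx : x ∈ P),
        π x = (t : Matrix.ProjectiveSpecialLinearGroup (Fin 2) F) ∧
        ∃ i, e ⟨x, hx⟩ = QuaternionGroup.a i}
      one_mem' := by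
        refine ⟨1, one_mem _, by simp, 0, ?_⟩
        have : (⟨1, one_mem _⟩ : P) = 1 := rfl
        rw [this, map_one, QuaternionGroup.one_def]
      mul_mem' := by
        rintro t₁ t₂ ⟨x₁, hx₁, h₁, i₁, hi₁⟩ ⟨x₂, hx₂, h₂, i₂, hi₂⟩
        refine ⟨x₁ * x₂, mul_mem hx₁ hx₂, by rw [map_mul, h₁, h₂]; rfl, i₁ + i₂, ?_⟩
        have : (⟨x₁ * x₂, mul_mem hx₁ hx₂⟩ : P) = ⟨x₁, hx₁⟩ * ⟨x₂, hx₂⟩ := rfl
        rw [this, map_mul, hi₁, hi₂, QuaternionGroup.a_mul_a]
      inv_mem' := by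
        rintro t ⟨x, hx, h, i, hi⟩
        refine ⟨x⁻¹, inv_mem hx, by rw [map_inv, h]; rfl, -i, ?_⟩
        have : (⟨x⁻¹, inv_mem hx⟩ : P) = ⟨x, hx⟩⁻¹ := rfl
        rw [this, map_inv, hi]
        exact (eq_inv_of_mul_eq_one_left (by
          rw [QuaternionGroup.a_mul_a, neg_add_cancel, QuaternionGroup.one_def])).symm }
  refine ⟨A, ?_, ?_⟩
  · rintro t₁ ⟨x₁, hx₁, h₁, i₁, hi₁⟩ t₂ ⟨x₂, hx₂, h₂, i₂, hi₂⟩
    apply Subtype.ext
    rw [Subgroup.coe_mul, Subgroup.coe_mul, ← h₁, ← h₂, ← map_mul, ← map_mul]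
    congr 1
    have : (⟨x₁, hx₁⟩ : P) * ⟨x₂, hx₂⟩ = ⟨x₂, hx₂⟩ * ⟨x₁, hx₁⟩ := by
      apply e.injective
      rw [map_mul, map_mul, hi₁, hi₂, QuaternionGroup.a_mul_a, QuaternionGroup.a_mul_a, add_comm]
    exact congrArg Subtype.val this
  · intro t ht
    obtain ⟨x, hx⟩ := hπ (t : Matrix.ProjectiveSpecialLinearGroup (Fin 2) F)
    have hxT : x ∈ T.comap π := by rw [Subgroup.mem_comap, hx]; exact t.2
    have hxP : x ∈ P := hP hxT
    rcases hq : e ⟨x, hxP⟩ with i | i
    · exact absurd ⟨x, hxP, hx, i, hq⟩ ht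
    · have h4 : (x ^ 2) ^ 2 = 1 := by
        have h5 : ((⟨x, hxP⟩ : P) ^ 2) ^ 2 = 1 := by
          apply e.injective
          rw [map_pow, map_pow, hq, QuaternionGroup.xa_sq, map_one, sq, QuaternionGroup.a_mul_a,
            QuaternionGroup.one_def]
          congr 1
          have h6 : ((2 ^ k : ℕ) : ZMod (2 * 2 ^ k)) + ((2 ^ k : ℕ) : ZMod (2 * 2 ^ k))
              = ((2 * 2 ^ k : ℕ) : ZMod (2 * 2 ^ k)) := by push_cast; ring
          rw [h6]
          exact ZMod.natCast_self _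
        have := congrArg Subtype.val h5
        simpa using this
      have h7 := hcen (x ^ 2) h4
      apply Subtype.ext
      rw [Subgroup.coe_mul, ← hx, ← map_mul, ← sq, h7]
      rfl

/-- a finite group all of whose `2`-subgroups are "dihedral-like" has no section `SL₂(p)`, `p` odd -/
theorem no_sl2_section {X : Type*} [Group X] [Finite X]
    (hX : ∀ T : Subgroup X, IsPGroup 2 T → Pdih T)
    {p : ℕ} [hp : Fact p.Prime] (hp2 : p ≠ 2) (K L : Subgroup X) [hn : (L.subgroupOf K).Normal]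
    (f : (K ⧸ L.subgroupOf K) ≃* Matrix.SpecialLinearGroup (Fin 2) (ZMod p)) : False := by
  classical
  haveI : Fact (Nat.Prime 2) := ⟨Nat.prime_two⟩
  obtain ⟨φ, hφdef⟩ : ∃ φ : K →* Matrix.SpecialLinearGroup (Fin 2) (ZMod p),
      φ = f.toMonoidHom.comp (QuotientGroup.mk' _) := ⟨_, rfl⟩
  have hφ : Function.Surjective φ := by
    rw [hφdef]
    exact f.surjective.comp (QuotientGroup.mk'_surjective _)
  obtain ⟨S⟩ : Nonempty (Sylow 2 K) := inferInstance
  have hodd : Odd (Fintype.card (ZMod p)) := by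
    rw [ZMod.card]
    exact hp.out.odd_of_ne_two hp2
  obtain ⟨k, hk, ⟨e⟩⟩ := Cfsg.Agent.Lib.Helper5.SL2Quat.sylow_two_quaternion hodd
    (S.mapSurjective hφ)
  have hS : Pdih (S : Subgroup K) := by
    have h1 : Pdih ((S : Subgroup K).map K.subtype) := hX _ (S.isPGroup'.map _)
    let ι := (S : Subgroup K).equivMapOfInjective K.subtype K.subtype_injective
    exact h1.of_surjective ι.symm.toMonoidHom ι.symm.surjective
  have hR : Pdih ↥((S : Subgroup K).map φ) :=
    Pdih.of_surjective hS (φ.subgroupMap (S : Subgroup K))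
      (φ.subgroupMap_surjective (S : Subgroup K))
  have hk2 : 2 ≤ 2 ^ k := by
    calc 2 = 2 ^ 1 := rfl
      _ ≤ 2 ^ k := Nat.pow_le_pow_right (by norm_num) hk
  exact hR.not_quaternion (2 ^ k) hk2 e

end Cfsg.Agent.Lib.Helper1.NQ
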