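import Mathlib
import Cfsg.Agent.Lib.Helper1.NQ1
import Cfsg.Agent.Lib.Helper1.Dickson17
import Cfsg.Agent.Lib.Helper1.QuadDual4
import Cfsg.Agent.Lib.Helper1.PCore
import Cfsg.Agent.Lib.Helper5.ReeCent.CentE2
import Cfsg.Prelude.Def_LieTwisted
import Cfsg.Prelude.Def_Transfer
set_option autoImplicit false
set_option maxHeartbeats 4000000
set_option linter.unusedVariables false
set_option linter.unusedSectionVars false
set_option linter.style.longLine false
open scoped commutatorElement IsMulCommutative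
universe u v w
namespace Cfsg.Agent.Lib.Helper1.NQ

open Cfsg.Agent.Lib.Helper1.QuadSL2

/-- faithful irreducible action in characteristic `p` forces `O_p = 1` -/
theorem pCore_eq_bot_of_irr {V : Type u} [CommGroup V] [Finite V] {Γ : Type v} [Group Γ] [Finite Γ]
    {p : ℕ} [hp : Fact p.Prime] (hVp : p ∣ Nat.card V)
    (ψ : Γ →* MulAut V) (hψ : Function.Injective ψ)
    (hirr : ∀ U : Subgroup V, (∀ g : Γ, ∀ u ∈ U, ψ g u ∈ U) → U = ⊥ ∨ U = ⊤) :
    Cfsg.pCore p Γ = ⊥ := by
  classical
  set N := Cfsg.pCore p Γ with hN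
  have hNn : N.Normal := Cfsg.Agent.Lib.Helper1.pCore_normal p
  have hNp : IsPGroup p N := Cfsg.Agent.Lib.Helper1.pCore_isPGroup p
  let U : Subgroup V :=
    { carrier := {u | ∀ g ∈ N, ψ g u = u}
      one_mem' := fun g _ => map_one _
      mul_mem' := by
        intro a b ha hb g hg
        rw [map_mul, ha g hg, hb g hg]
      inv_mem' := by
        intro a ha g hg
        rw [map_inv, ha g hg] }
  have hUinv : ∀ g : Γ, ∀ u ∈ U, ψ g u ∈ U := by
    intro g u hu n hn
    have h1 : g⁻¹ * n * g ∈ N := by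
      have := hNn.conj_mem n hn g⁻¹
      simpa using this
    have h2 := hu _ h1
    have h3 : ψ n (ψ g u) = ψ g (ψ (g⁻¹ * n * g) u) := by
      rw [← MulAut.mul_apply, ← MulAut.mul_apply, ← map_mul, ← map_mul]
      congr 2
      group
    rw [h3, h2]
  have hUne : U ≠ ⊥ := by
    letI : MulAction N V := MulAction.compHom V (ψ.comp N.subtype)
    have hsm : ∀ (g : N) (v : V), g • v = ψ (g : Γ) v := fun g v => rfl
    have h1 : (1 : V) ∈ MulAction.fixedPoints N V := by
      intro g
      rw [hsm, map_one]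
    obtain ⟨b, hb, hb1⟩ := hNp.exists_fixed_point_of_prime_dvd_card_of_fixed_point V hVp h1
    intro hbot
    have hbU : b ∈ U := by
      intro g hg
      have := hb ⟨g, hg⟩
      rwa [hsm] at this
    rw [hbot, Subgroup.mem_bot] at hbU
    exact hb1 hbU.symm
  rcases hirr U hUinv with h | h
  · exact absurd h hUne
  · rw [eq_bot_iff]
    intro g hg
    rw [Subgroup.mem_bot]
    apply hψ
    rw [map_one]
    ext v
    have : v ∈ U := by rw [h]; exact Subgroup.mem_top v
    rw [MulAut.one_apply]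
    exact this g hg

/-- the main statement -/
theorem no_quadratic {G : Type*} [Group G] [Finite G] {p : ℕ} [Fact p.Prime] (V H : Subgroup G)
    (hV : Cfsg.IsElementaryAbelian p V) (hHV : H ≤ Subgroup.normalizer (V : Set G))
    (hirr : ∀ U : Subgroup G, U ≤ V → H ≤ Subgroup.normalizer (U : Set G) → U = ⊥ ∨ U = V)
    (hnt : ¬ H ≤ Subgroup.centralizer (V : Set G))
    [hn : ((Subgroup.centralizer (V : Set G)).subgroupOf H).Normal]
    (hq : (∃ (F : Type) (_ : Field F) (_ : Fintype F) (n : ℕ), Fintype.card F = p ^ n ∧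
        Odd (Fintype.card F) ∧
        Nonempty (↥H ⧸ (Subgroup.centralizer (V : Set G)).subgroupOf H ≃*
          Matrix.ProjectiveSpecialLinearGroup (Fin 2) F)) ∨
      (p = 3 ∧ Cfsg.Lie.IsoRee (↥H ⧸ (Subgroup.centralizer (V : Set G)).subgroupOf H)))
    (A : Subgroup G) (hA : A ≤ H) (hquad : ⁅⁅V, A⁆, A⁆ = ⊥) : ⁅V, A⁆ = ⊥ := by
  classical
  by_contra hne
  have hp2 : p ≠ 2 := by
    rcases hq with ⟨F, _, _, n, hcard, hodd, _⟩ | ⟨h3, _⟩
    · rintro rfl
      rcases n with _ | n
      · have := Fintype.one_lt_card (α := F)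
        rw [hcard] at this
        simp at this
      · rw [hcard] at hodd
        have : Even (2 ^ (n + 1)) := Nat.even_pow.mpr ⟨even_two, Nat.succ_ne_zero n⟩
        exact (Nat.not_odd_iff_even.mpr this) hodd
    · omega
  haveI : IsMulCommutative V := hV.1
  obtain ⟨a, haA, haV⟩ : ∃ a ∈ A, a ∉ Subgroup.centralizer (V : Set G) := by
    by_contra hcon
    push_neg at hcon
    apply hne
    rw [eq_bot_iff, Subgroup.commutator_le]
    intro v hv a ha
    rw [Subgroup.mem_bot, commutatorElement_eq_one_iff_commute]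
    exact (Subgroup.mem_centralizer_iff.mp (hcon a ha)) v hv
  have haH : a ∈ H := hA haA
  have hquad_a : ⁅⁅V, Subgroup.zpowers a⁆, Subgroup.zpowers a⁆ = ⊥ := by
    rw [eq_bot_iff, ← hquad]
    have hz : Subgroup.zpowers a ≤ A := (Subgroup.zpowers_le).mpr haA
    exact Subgroup.commutator_mono (Subgroup.commutator_mono le_rfl hz) hz
  have hker : ∀ h : H, conjOn V H hHV h = 1 ↔
      h ∈ (Subgroup.centralizer (V : Set G)).subgroupOf H := by
    intro h
    constructor
    · intro h1
      rw [Subgroup.mem_subgroupOf, Subgroup.mem_centralizer_iff]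
      intro v hv
      have h2 := congrArg (fun α : MulAut V => ((α ⟨v, hv⟩ : V) : G)) h1
      simp only [conjOn_apply, MulAut.one_apply] at h2
      exact (mul_inv_eq_iff_eq_mul.mp h2).symm
    · intro hc
      ext v
      rw [conjOn_apply, MulAut.one_apply]
      have h2 := Subgroup.mem_centralizer_iff.mp (Subgroup.mem_subgroupOf.mp hc) v v.2
      rw [← h2, mul_inv_cancel_right]
  obtain ⟨ψ, hψdef⟩ : ∃ ψ : (↥H ⧸ (Subgroup.centralizer (V : Set G)).subgroupOf H) →* MulAut V,
      ψ = QuotientGroup.lift _ (conjOn V H hHV)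
        (fun h hh => MonoidHom.mem_ker.mpr ((hker h).mpr hh)) := ⟨_, rfl⟩
  have hψmk : ∀ h : H, ψ (QuotientGroup.mk h) = conjOn V H hHV h := by
    intro h
    rw [hψdef]
    rfl
  have hψ : Function.Injective ψ := by
    rw [injective_iff_map_eq_one]
    intro g hg
    obtain ⟨h, rfl⟩ := QuotientGroup.mk_surjective g
    rw [hψmk] at hg
    exact (QuotientGroup.eq_one_iff h).mpr ((hker h).mp hg)
  have hquadψ : ∀ u : V, ψ (QuotientGroup.mk ⟨a, haH⟩) (ψ (QuotientGroup.mk ⟨a, haH⟩) u) * u
      = ψ (QuotientGroup.mk ⟨a, haH⟩) u * ψ (QuotientGroup.mk ⟨a, haH⟩) u := by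
    intro u
    rw [hψmk]
    exact conjOn_quad V H hHV ⟨a, haH⟩ hquad_a u
  have hexp : ∀ u : V, u ^ p = 1 := fun u => Subtype.ext (hV.2 u u.2)
  -- V nontrivial
  have hVne : V ≠ ⊥ := by
    intro hbot
    apply hnt
    intro h hh
    rw [Subgroup.mem_centralizer_iff]
    intro v hv
    have : v = 1 := by
      have : v ∈ (⊥ : Subgroup G) := by rw [← hbot]; exact hv
      exact Subgroup.mem_bot.mp this
    rw [this, one_mul, mul_one]
  have hVp : p ∣ Nat.card V := by
    have hVpg : IsPGroup p V := by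
      intro u
      exact ⟨1, by rw [pow_one]; exact hexp u⟩
    obtain ⟨k, hk⟩ := hVpg.exists_card_eq
    rcases k with _ | k
    · exfalso
      apply hVne
      rw [pow_zero] at hk
      exact (Subgroup.card_eq_one).mp hk
    · rw [hk, pow_succ]
      exact dvd_mul_left _ _
  have hcore : Cfsg.pCore p (↥H ⧸ (Subgroup.centralizer (V : Set G)).subgroupOf H) = ⊥ := by
    apply pCore_eq_bot_of_irr hVp ψ hψ
    intro U hU
    have hnorm : H ≤ Subgroup.normalizer ((U.map V.subtype : Subgroup G) : Set G) := by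
      intro h hh
      rw [Subgroup.mem_normalizer_iff]
      have key : ∀ (k : H) (x : G), x ∈ U.map V.subtype → (k : G) * x * (k : G)⁻¹ ∈ U.map V.subtype := by
        rintro k _ ⟨u, hu, rfl⟩
        refine ⟨ψ (QuotientGroup.mk k) u, hU _ u hu, ?_⟩
        rw [hψmk]
        exact conjOn_apply V H hHV k u
      intro x
      constructor
      · intro hx
        exact key ⟨h, hh⟩ x hx
      · intro hx
        have := key ⟨h, hh⟩⁻¹ _ hx
        simpa [mul_assoc] using this
    rcases hirr (U.map V.subtype) (Subgroup.map_subtype_le U) hnorm with h | h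
    · left
      exact (Subgroup.map_eq_bot_iff_of_injective U V.subtype_injective).mp h
    · right
      rw [eq_top_iff]
      intro v _
      have : (v : G) ∈ U.map V.subtype := by rw [h]; exact v.2
      obtain ⟨u, hu, huv⟩ := this
      have : u = v := Subtype.ext huv
      rwa [← this]
  have hna : (QuotientGroup.mk ⟨a, haH⟩ : ↥H ⧸ (Subgroup.centralizer (V : Set G)).subgroupOf H)
      ∉ Cfsg.pCore p (↥H ⧸ (Subgroup.centralizer (V : Set G)).subgroupOf H) := by
    rw [hcore, Subgroup.mem_bot]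
    intro h1
    have := (QuotientGroup.eq_one_iff _).mp h1
    exact haV (Subgroup.mem_subgroupOf.mp this)
  obtain ⟨K, L, hn', -, ⟨f⟩⟩ := Cfsg.Agent.Lib.Helper1.QuadSL2.exists_sl2_section_of_quad hp2 hexp ψ hψ _
    hquadψ hna (MonoidHom.id _) (fun _ _ h => h)
  haveI := hn'
  refine no_sl2_section ?_ hp2 K L f
  intro T hT
  rcases hq with ⟨F, _, _, n, hcard, hodd, ⟨e⟩⟩ | ⟨h3, hRee⟩
  · have h1 : Pdih (T.map e.toMonoidHom) := pdih_of_psl2 hodd _ (hT.map _)
    let ι := T.equivMapOfInjective e.toMonoidHom e.injective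
    exact h1.of_surjective ι.symm.toMonoidHom ι.symm.surjective
  · obtain ⟨K', _, _, m, hm, hK', ⟨e⟩⟩ := hRee
    apply Pdih.of_comm
    haveI : Fact (Nat.Prime 2) := ⟨Nat.prime_two⟩
    obtain ⟨_, -, -, -, hSyl⟩ := Cfsg.Agent.Lib.Helper5.ReeTori.exists_psi_data hm hK'
    have hT' : IsPGroup 2 (T.map e.toMonoidHom) := hT.map _
    obtain ⟨S, hS⟩ := hT'.exists_le_sylow
    have hsq : ∀ z : T, z * z = 1 := by
      intro z
      have h1 : e (z : _) ∈ T.map e.toMonoidHom := ⟨z, z.2, rfl⟩
      have h2 := (hSyl S).2.1 _ (hS h1)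
      apply Subtype.ext
      apply e.injective
      rw [Subgroup.coe_mul, map_mul, h2, Subgroup.coe_one, map_one]
    have hinv : ∀ z : T, z⁻¹ = z := fun z => (eq_inv_of_mul_eq_one_left (hsq z)).symm
    intro x y
    calc x * y = (x * y)⁻¹ := (hinv _).symm
      _ = y⁻¹ * x⁻¹ := mul_inv_rev _ _
      _ = y * x := by rw [hinv, hinv]

end Cfsg.Agent.Lib.Helper1.NQ
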