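import Mathlib
import Cfsg.Agent.Lib.Helper1.NM3
set_option autoImplicit false
set_option maxHeartbeats 4000000
set_option linter.unusedVariables false
set_option linter.unusedSectionVars false
set_option linter.style.longLine false
set_option linter.unusedSimpArgs false
open Matrix
universe u v
namespace Cfsg.Agent.Lib.Helper1.NatRec

open Cfsg.Agent.Lib.Helper1.SL2Three Cfsg.Agent.Lib.Helper1.Dickson Cfsg.Agent.Lib.Helper1.NatMod

variable {F : Type u} [Field F]

local notation "SL2" => Matrix.SpecialLinearGroup (Fin 2) F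
local notation "M2" => Matrix (Fin 2) (Fin 2) F

/-! ### matrix facts -/

theorem ymat_add' (a b : F) : ymat F (a + b) = ymat F a * ymat F b := by
  apply ext_entries <;> simp [ea_mul, eb_mul, ec_mul, ed_mul]

theorem ymat_zero' : ymat F (0 : F) = 1 := by
  apply ext_entries <;> simp

theorem ymat_neg' (a : F) : ymat F (-a) = (ymat F a)⁻¹ := by
  rw [eq_inv_iff_mul_eq_one, ← ymat_add', neg_add_cancel, ymat_zero']

theorem ymat_mulVec (s : F) (w : Fin 2 → F) :
    ((ymat F s : SL2) : M2).mulVec w = ![w 0, s * w 0 + w 1] := by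
  apply vec_ext
  · rw [mulVec_zero_eq, ea_ymat, eb_ymat]; simp
  · rw [mulVec_one_eq, ec_ymat, ed_ymat]; simp

/-- Weyl element with a parameter -/
def Wm (t : F) : SL2 := xmat F t * ymat F (-t⁻¹) * xmat F t

theorem Wm_entries {t : F} (ht : t ≠ 0) :
    ea (Wm t) = 0 ∧ eb (Wm t) = t ∧ ec (Wm t) = -t⁻¹ ∧ ed (Wm t) = 0 := by
  refine ⟨?_, ?_, ?_, ?_⟩
  · simp only [Wm, ea_mul, eb_mul, ec_mul, ed_mul, ea_xmat, eb_xmat, ec_xmat, ed_xmat, ea_ymat,
      eb_ymat, ec_ymat, ed_ymat]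
    field_simp; ring
  · simp only [Wm, ea_mul, eb_mul, ec_mul, ed_mul, ea_xmat, eb_xmat, ec_xmat, ed_xmat, ea_ymat,
      eb_ymat, ec_ymat, ed_ymat]
    field_simp; ring
  · simp only [Wm, ea_mul, eb_mul, ec_mul, ed_mul, ea_xmat, eb_xmat, ec_xmat, ed_xmat, ea_ymat,
      eb_ymat, ec_ymat, ed_ymat]
    ring
  · simp only [Wm, ea_mul, eb_mul, ec_mul, ed_mul, ea_xmat, eb_xmat, ec_xmat, ed_xmat, ea_ymat,
      eb_ymat, ec_ymat, ed_ymat]
    field_simp; ring

theorem W1 {t : F} (ht : t ≠ 0) (s : F) :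
    ymat F s * Wm t = Wm t * xmat F (-(s * t ^ 2)) := by
  obtain ⟨h1, h2, h3, h4⟩ := Wm_entries ht
  apply ext_entries
  · simp only [ea_mul, eb_mul, ec_mul, ed_mul, h1, h2, h3, h4, ea_xmat, eb_xmat, ec_xmat, ed_xmat,
      ea_ymat, eb_ymat, ec_ymat, ed_ymat]; ring
  · simp only [ea_mul, eb_mul, ec_mul, ed_mul, h1, h2, h3, h4, ea_xmat, eb_xmat, ec_xmat, ed_xmat,
      ea_ymat, eb_ymat, ec_ymat, ed_ymat]; ring
  · simp only [ea_mul, eb_mul, ec_mul, ed_mul, h1, h2, h3, h4, ea_xmat, eb_xmat, ec_xmat, ed_xmat,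
      ea_ymat, eb_ymat, ec_ymat, ed_ymat]; ring
  · simp only [ea_mul, eb_mul, ec_mul, ed_mul, h1, h2, h3, h4, ea_xmat, eb_xmat, ec_xmat, ed_xmat,
      ea_ymat, eb_ymat, ec_ymat, ed_ymat]
    field_simp

theorem W2 {t : F} (ht : t ≠ 0) (s : F) :
    xmat F s * Wm t = Wm t * ymat F (-(s * (t⁻¹) ^ 2)) := by
  obtain ⟨h1, h2, h3, h4⟩ := Wm_entries ht
  apply ext_entries
  · simp only [ea_mul, eb_mul, ec_mul, ed_mul, h1, h2, h3, h4, ea_xmat, eb_xmat, ec_xmat, ed_xmat,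
      ea_ymat, eb_ymat, ec_ymat, ed_ymat]
    field_simp
  · simp only [ea_mul, eb_mul, ec_mul, ed_mul, h1, h2, h3, h4, ea_xmat, eb_xmat, ec_xmat, ed_xmat,
      ea_ymat, eb_ymat, ec_ymat, ed_ymat]; ring
  · simp only [ea_mul, eb_mul, ec_mul, ed_mul, h1, h2, h3, h4, ea_xmat, eb_xmat, ec_xmat, ed_xmat,
      ea_ymat, eb_ymat, ec_ymat, ed_ymat]; ring
  · simp only [ea_mul, eb_mul, ec_mul, ed_mul, h1, h2, h3, h4, ea_xmat, eb_xmat, ec_xmat, ed_xmat,
      ea_ymat, eb_ymat, ec_ymat, ed_ymat]; ring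

theorem torus_entries {t : F} (ht : t ≠ 0) :
    ea (Wm t * Wm (-1)) = t ∧ eb (Wm t * Wm (-1)) = 0 ∧ ec (Wm t * Wm (-1)) = 0 ∧
      ed (Wm t * Wm (-1)) = t⁻¹ := by
  obtain ⟨h1, h2, h3, h4⟩ := Wm_entries ht
  obtain ⟨k1, k2, k3, k4⟩ := Wm_entries (neg_ne_zero.mpr (one_ne_zero (α := F)))
  have e : -(-1 : F)⁻¹ = 1 := by rw [inv_neg, inv_one, neg_neg]
  rw [e] at k3
  refine ⟨?_, ?_, ?_, ?_⟩
  · simp only [ea_mul, eb_mul, ec_mul, ed_mul, h1, h2, h3, h4, k1, k2, k3, k4]; ring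
  · simp only [ea_mul, eb_mul, ec_mul, ed_mul, h1, h2, h3, h4, k1, k2, k3, k4]; ring
  · simp only [ea_mul, eb_mul, ec_mul, ed_mul, h1, h2, h3, h4, k1, k2, k3, k4]; ring
  · simp only [ea_mul, eb_mul, ec_mul, ed_mul, h1, h2, h3, h4, k1, k2, k3, k4]; ring

theorem W3 {t s : F} (ht : t ≠ 0) (hs : s ≠ 0) :
    Wm (t * s) * Wm (-1) = (Wm t * Wm (-1)) * (Wm s * Wm (-1)) := by
  obtain ⟨h1, h2, h3, h4⟩ := torus_entries ht
  obtain ⟨k1, k2, k3, k4⟩ := torus_entries hs
  obtain ⟨l1, l2, l3, l4⟩ := torus_entries (mul_ne_zero ht hs)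
  apply ext_entries
  · rw [l1, ea_mul, h1, h2, k1, k3]; ring
  · rw [l2, eb_mul, h1, h2, k2, k4]; ring
  · rw [l3, ec_mul, h3, h4, k1, k3]; ring
  · rw [l4, ed_mul, h3, h4, k2, k4, mul_inv]; ring

theorem W4 : Wm (1 : F) * Wm (-1) = 1 := by
  obtain ⟨h1, h2, h3, h4⟩ := torus_entries (one_ne_zero (α := F))
  apply ext_entries
  · rw [h1, ea_one]
  · rw [h2, eb_one]
  · rw [h3]; simp [ec]
  · rw [h4]; simp [ed]

/-! ### the abstract module -/

variable {V : Type v} [AddCommGroup V] (r : Matrix.SpecialLinearGroup (Fin 2) F →* AddMonoid.End V)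

theorem r_mul (g h : SL2) (v : V) : r (g * h) v = r g (r h v) := by
  rw [map_mul]; rfl

theorem r_one (v : V) : r 1 v = v := by
  rw [map_one]; rfl

theorem r_inv_apply (g : SL2) (v : V) : r g⁻¹ (r g v) = v := by
  rw [← r_mul, inv_mul_cancel, r_one]

theorem r_apply_inv (g : SL2) (v : V) : r g (r g⁻¹ v) = v := by
  rw [← r_mul, mul_inv_cancel, r_one]

/-- fixed points of the upper unitriangular group -/
def fixU : AddSubgroup V where
  carrier := {v | ∀ t : F, r (xmat F t) v = v}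
  zero_mem' := fun t => map_zero (r (xmat F t))
  add_mem' := by
    intro a b ha hb t
    rw [map_add, ha t, hb t]
  neg_mem' := by
    intro a ha t
    rw [map_neg, ha t]

/-- fixed points of the lower unitriangular group -/
def fixL : AddSubgroup V where
  carrier := {v | ∀ t : F, r (ymat F t) v = v}
  zero_mem' := fun t => map_zero (r (ymat F t))
  add_mem' := by
    intro a b ha hb t
    rw [map_add, ha t, hb t]
  neg_mem' := by
    intro a ha t
    rw [map_neg, ha t]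

theorem fixU_apply {v : V} (hv : v ∈ fixU r) (t : F) : r (xmat F t) v = v := hv t
theorem fixL_apply {v : V} (hv : v ∈ fixL r) (t : F) : r (ymat F t) v = v := hv t

def Aop (t : F) (v : V) : V := r (xmat F t) v - v
def Bop (t : F) (v : V) : V := r (ymat F t) v - v

theorem x_apply (t : F) (v : V) : r (xmat F t) v = v + Aop r t v := by unfold Aop; abel
theorem y_apply (t : F) (v : V) : r (ymat F t) v = v + Bop r t v := by unfold Bop; abel

theorem Aop_add (t : F) (v w : V) : Aop r t (v + w) = Aop r t v + Aop r t w := by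
  unfold Aop; rw [map_add]; abel
theorem Bop_add (t : F) (v w : V) : Bop r t (v + w) = Bop r t v + Bop r t w := by
  unfold Bop; rw [map_add]; abel
theorem Aop_zero (t : F) : Aop r t (0 : V) = 0 := by unfold Aop; rw [map_zero, sub_zero]
theorem Bop_zero (t : F) : Bop r t (0 : V) = 0 := by unfold Bop; rw [map_zero, sub_zero]
theorem Aop_neg (t : F) (v : V) : Aop r t (-v) = -Aop r t v := by
  unfold Aop; rw [map_neg]; abel
theorem Bop_neg (t : F) (v : V) : Bop r t (-v) = -Bop r t v := by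
  unfold Bop; rw [map_neg]; abel
theorem Aop_of_mem {v : V} (hv : v ∈ fixU r) (t : F) : Aop r t v = 0 := by
  unfold Aop; rw [fixU_apply r hv t, sub_self]
theorem Bop_of_mem {v : V} (hv : v ∈ fixL r) (t : F) : Bop r t v = 0 := by
  unfold Bop; rw [fixL_apply r hv t, sub_self]
theorem Aop_param_zero (v : V) : Aop r 0 v = 0 := by
  unfold Aop; rw [xmat_zero, r_one, sub_self]
theorem Bop_param_zero (v : V) : Bop r 0 v = 0 := by
  unfold Bop; rw [ymat_zero', r_one, sub_self]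

/-- irreducible and nontrivial -/
structure IsIrr : Prop where
  irr : ∀ U : AddSubgroup V, (∀ g : SL2, ∀ v ∈ U, r g v ∈ U) → U = ⊥ ∨ U = ⊤
  nt : ∃ (g : SL2) (v : V), r g v ≠ v

/-- the upper unitriangular group acts quadratically -/
def IsQuad : Prop := ∀ (t : F) (v : V), Aop r t v ∈ fixU r

theorem invariant_of_gens (W : AddSubgroup V) (hx : ∀ t : F, ∀ v ∈ W, r (xmat F t) v ∈ W)
    (hy : ∀ t : F, ∀ v ∈ W, r (ymat F t) v ∈ W) : ∀ g : SL2, ∀ v ∈ W, r g v ∈ W := by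
  let H : Subgroup SL2 :=
    { carrier := {g | (∀ v ∈ W, r g v ∈ W) ∧ (∀ v ∈ W, r g⁻¹ v ∈ W)}
      one_mem' := by
        constructor
        · intro v hv; rw [r_one]; exact hv
        · intro v hv; rw [inv_one, r_one]; exact hv
      mul_mem' := by
        rintro a b ⟨ha1, ha2⟩ ⟨hb1, hb2⟩
        constructor
        · intro v hv; rw [r_mul]; exact ha1 _ (hb1 _ hv)
        · intro v hv; rw [_root_.mul_inv_rev, r_mul]; exact hb2 _ (ha2 _ hv)
      inv_mem' := by
        rintro a ⟨ha1, ha2⟩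
        refine ⟨ha2, ?_⟩
        intro v hv; rw [inv_inv]; exact ha1 v hv }
  have hH : H = ⊤ := by
    apply eq_top_of_xmat_ymat_mem
    · intro a
      refine ⟨hx a, ?_⟩
      intro v hv; rw [← xmat_neg]; exact hx _ v hv
    · intro b
      refine ⟨hy b, ?_⟩
      intro v hv; rw [← ymat_neg']; exact hy _ v hv
  intro g
  have hg : g ∈ H := by rw [hH]; trivial
  exact hg.1

theorem fixed_of_gens {v : V} (hx : v ∈ fixU r) (hy : v ∈ fixL r) : ∀ g : SL2, r g v = v := by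
  let H : Subgroup SL2 :=
    { carrier := {g | r g v = v}
      one_mem' := r_one r v
      mul_mem' := by
        intro a b ha hb
        have ha' : r a v = v := ha
        have hb' : r b v = v := hb
        show r (a * b) v = v
        rw [r_mul, hb', ha']
      inv_mem' := by
        intro a ha
        have ha' : r a v = v := ha
        show r a⁻¹ v = v
        calc r a⁻¹ v = r a⁻¹ (r a v) := by rw [ha']
          _ = v := r_inv_apply r a v }
  have hH : H = ⊤ := eq_top_of_xmat_ymat_mem F H (fun a => hx a) (fun b => hy b)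
  intro g
  have hg : g ∈ H := by rw [hH]; trivial
  exact hg

variable {r}

theorem fix_inf_eq_bot (h : IsIrr r) : fixU r ⊓ fixL r = ⊥ := by
  have hinv : ∀ g : SL2, ∀ v ∈ fixU r ⊓ fixL r, r g v ∈ fixU r ⊓ fixL r := by
    intro g v hv
    rw [fixed_of_gens r hv.1 hv.2 g]; exact hv
  rcases h.irr _ hinv with h1 | h1
  · exact h1
  · exfalso
    obtain ⟨g, v, hgv⟩ := h.nt
    have hv : v ∈ fixU r ⊓ fixL r := by rw [h1]; trivial
    exact hgv (fixed_of_gens r hv.1 hv.2 g)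

theorem Wm_fixU {t : F} (ht : t ≠ 0) {v : V} (hv : v ∈ fixU r) : r (Wm t) v ∈ fixL r := by
  intro s
  show r (ymat F s) (r (Wm t) v) = r (Wm t) v
  rw [← r_mul, W1 ht s, r_mul, fixU_apply r hv]

theorem Wm_fixL {t : F} (ht : t ≠ 0) {v : V} (hv : v ∈ fixL r) : r (Wm t) v ∈ fixU r := by
  intro s
  show r (xmat F s) (r (Wm t) v) = r (Wm t) v
  rw [← r_mul, W2 ht s, r_mul, fixL_apply r hv]

theorem Bop_mem (hq : IsQuad r) (s : F) (v : V) : Bop r s v ∈ fixL r := by
  have h1 : (1 : F) ≠ 0 := one_ne_zero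
  have hv : r (Wm 1) (r (Wm (1 : F))⁻¹ v) = v := r_apply_inv r _ v
  have : Bop r s v = r (Wm 1) (Aop r (-(s * 1 ^ 2)) (r (Wm (1 : F))⁻¹ v)) := by
    unfold Bop Aop
    rw [map_sub, ← r_mul r (Wm 1), ← W1 h1 s, r_mul, hv]
  rw [this]
  exact Wm_fixU h1 (hq _ _)

theorem Aop_add_param (hq : IsQuad r) (s t : F) (v : V) :
    Aop r (s + t) v = Aop r s v + Aop r t v := by
  have h1 : r (xmat F (s + t)) v = v + Aop r s v + Aop r t v := by
    rw [xmat_add, r_mul, x_apply r t v, map_add, x_apply r s v, fixU_apply r (hq t v)]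
  have h2 : Aop r (s + t) v = r (xmat F (s + t)) v - v := rfl
  rw [h2, h1]; abel

theorem Bop_add_param (hq : IsQuad r) (s t : F) (v : V) :
    Bop r (s + t) v = Bop r s v + Bop r t v := by
  have h1 : r (ymat F (s + t)) v = v + Bop r s v + Bop r t v := by
    rw [ymat_add', r_mul, y_apply r t v, map_add, y_apply r s v, fixL_apply r (Bop_mem hq t v)]
  have h2 : Bop r (s + t) v = r (ymat F (s + t)) v - v := rfl
  rw [h2, h1]; abel

theorem Bop_neg_param (hq : IsQuad r) (t : F) (v : V) : Bop r (-t) v = -Bop r t v := by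
  have h1 := Bop_add_param hq (-t) t v
  rw [neg_add_cancel, Bop_param_zero] at h1
  exact eq_neg_of_add_eq_zero_left h1.symm

theorem Aop_neg_param (hq : IsQuad r) (t : F) (v : V) : Aop r (-t) v = -Aop r t v := by
  have h1 := Aop_add_param hq (-t) t v
  rw [neg_add_cancel, Aop_param_zero] at h1
  exact eq_neg_of_add_eq_zero_left h1.symm

theorem f_rel (h : IsIrr r) (hq : IsQuad r) {t : F} (ht : t ≠ 0) {v : V} (hv : v ∈ fixU r) :
    r (Wm t) v = Bop r (-t⁻¹) v ∧ v + Aop r t (Bop r (-t⁻¹) v) = 0 := by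
  obtain ⟨b, hb⟩ : ∃ b, b = Bop r (-t⁻¹) v := ⟨_, rfl⟩
  rw [← hb]
  have hbL : b ∈ fixL r := hb ▸ Bop_mem hq _ _
  have hc : r (Wm t) v ∈ fixL r := Wm_fixU ht hv
  have hexp : r (Wm t) v = (v + Aop r t b) + b := by
    unfold Wm
    rw [r_mul, r_mul, fixU_apply r hv t, y_apply, ← hb, map_add, fixU_apply r hv t, x_apply r t b]
    abel
  have hx : v + Aop r t b ∈ fixU r ⊓ fixL r := by
    refine ⟨(fixU r).add_mem hv (hq _ _), ?_⟩
    have : v + Aop r t b = r (Wm t) v - b := by rw [hexp]; abel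
    rw [this]
    exact (fixL r).sub_mem hc hbL
  rw [fix_inf_eq_bot h, AddSubgroup.mem_bot] at hx
  refine ⟨?_, hx⟩
  rw [hexp, hx, zero_add]

theorem g_rel (h : IsIrr r) (hq : IsQuad r) {t : F} (ht : t ≠ 0) {v : V} (hv : v ∈ fixL r) :
    r (Wm t) v = Aop r t v ∧ v + Bop r (-t⁻¹) (Aop r t v) = 0 := by
  obtain ⟨a, ha⟩ : ∃ a, a = Aop r t v := ⟨_, rfl⟩
  rw [← ha]
  have haU : a ∈ fixU r := ha ▸ hq _ _
  have hf := (f_rel h hq ht haU).2
  obtain ⟨b, hb⟩ : ∃ b, b = Bop r (-t⁻¹) a := ⟨_, rfl⟩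
  rw [← hb] at hf ⊢
  have hbL : b ∈ fixL r := hb ▸ Bop_mem hq _ _
  have hc : r (Wm t) v ∈ fixU r := Wm_fixL ht hv
  have hAb : Aop r t b = -a := eq_neg_of_add_eq_zero_right hf
  have hexp : r (Wm t) v = (v + b) + a := by
    unfold Wm
    rw [r_mul, r_mul, x_apply r t v, ← ha, map_add, fixL_apply r hv, y_apply r _ a, ← hb, map_add,
      map_add, x_apply r t v, ← ha, fixU_apply r haU, x_apply r t b, hAb]
    abel
  have hx : v + b ∈ fixU r ⊓ fixL r := by
    refine ⟨?_, (fixL r).add_mem hv hbL⟩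
    have : v + b = r (Wm t) v - a := by rw [hexp]; abel
    rw [this]
    exact (fixU r).sub_mem hc haU
  rw [fix_inf_eq_bot h, AddSubgroup.mem_bot] at hx
  refine ⟨?_, hx⟩
  rw [hexp, hx, zero_add]

variable (r) in
/-- the field action on `fixU` -/
def phi (t : F) (v : V) : V := Aop r t (Bop r 1 v)

theorem phi_mem (hq : IsQuad r) (t : F) (v : V) : phi r t v ∈ fixU r := hq _ _

theorem phi_eq_torus (h : IsIrr r) (hq : IsQuad r) {t : F} (ht : t ≠ 0) {v : V}
    (hv : v ∈ fixU r) : r (Wm t * Wm (-1)) v = phi r t v := by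
  rw [r_mul, (f_rel h hq (neg_ne_zero.mpr one_ne_zero) hv).1]
  have e : -(-1 : F)⁻¹ = 1 := by rw [inv_neg, inv_one, neg_neg]
  rw [e, (g_rel h hq ht (Bop_mem hq 1 v)).1]
  rfl

theorem phi_mul (h : IsIrr r) (hq : IsQuad r) (t s : F) {v : V} (hv : v ∈ fixU r) :
    phi r (t * s) v = phi r t (phi r s v) := by
  by_cases ht : t = 0
  · subst ht; rw [zero_mul]; simp only [phi, Aop_param_zero]
  by_cases hs : s = 0
  · subst hs; rw [mul_zero]; simp only [phi, Aop_param_zero, Bop_zero, Aop_zero]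
  have hsv : phi r s v ∈ fixU r := hq _ _
  rw [← phi_eq_torus h hq (mul_ne_zero ht hs) hv, W3 ht hs, r_mul, phi_eq_torus h hq hs hv,
    phi_eq_torus h hq ht hsv]

theorem phi_one (h : IsIrr r) (hq : IsQuad r) {v : V} (hv : v ∈ fixU r) : phi r 1 v = v := by
  rw [← phi_eq_torus h hq one_ne_zero hv, W4, r_one]

theorem phi_add_param (hq : IsQuad r) (s t : F) (v : V) :
    phi r (s + t) v = phi r s v + phi r t v := Aop_add_param hq s t _

theorem phi_neg_param (hq : IsQuad r) (t : F) (v : V) : phi r (-t) v = -phi r t v :=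
  Aop_neg_param hq t _

theorem phi_zero_param (v : V) : phi r 0 v = 0 := Aop_param_zero r _

theorem BA_one (h : IsIrr r) (hq : IsQuad r) {b : V} (hb : b ∈ fixL r) :
    Bop r 1 (Aop r 1 b) = b := by
  have h1 := (g_rel h hq one_ne_zero hb).2
  rw [inv_one, Bop_neg_param hq, add_neg_eq_zero] at h1
  exact h1.symm

theorem Bop_eq (h : IsIrr r) (hq : IsQuad r) (t : F) {x : V} (hx : x ∈ fixU r) :
    Bop r t x = Bop r 1 (phi r t x) := by
  by_cases ht : t = 0
  · subst ht; simp only [phi, Aop_param_zero, Bop_param_zero, Bop_zero]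
  obtain ⟨y, hy⟩ : ∃ y, y = Bop r t x := ⟨_, rfl⟩
  have hyL : y ∈ fixL r := hy ▸ Bop_mem hq t x
  obtain ⟨z, hz⟩ : ∃ z, z = Aop r 1 y := ⟨_, rfl⟩
  have hzU : z ∈ fixU r := hz ▸ hq 1 y
  have h1 : Bop r 1 z = y := by rw [hz]; exact BA_one h hq hyL
  have h2 : Aop r t⁻¹ y = x := by
    have h3 := (f_rel h hq (inv_ne_zero ht) hx).2
    rw [inv_inv, Bop_neg_param hq, ← hy, Aop_neg, add_neg_eq_zero] at h3
    exact h3.symm
  have h3 : phi r t⁻¹ z = x := by unfold phi; rw [h1, h2]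
  have h4 : phi r t x = z := by
    rw [← h3, ← phi_mul h hq t t⁻¹ hzU, mul_inv_cancel₀ ht, phi_one h hq hzU]
  rw [h4, h1, hy]

theorem eq_fixU_of_stable (h : IsIrr r) (hq : IsQuad r) (X : AddSubgroup V) (hXU : X ≤ fixU r)
    (hst : ∀ t : F, ∀ x ∈ X, phi r t x ∈ X) (hX : X ≠ ⊥) : X = fixU r := by
  let W : AddSubgroup V :=
    { carrier := {v | ∃ x ∈ X, ∃ y ∈ X, v = x + Bop r 1 y}
      zero_mem' := ⟨0, X.zero_mem, 0, X.zero_mem, by rw [Bop_zero, add_zero]⟩
      add_mem' := by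
        rintro _ _ ⟨x, hx, y, hy, rfl⟩ ⟨x', hx', y', hy', rfl⟩
        exact ⟨x + x', X.add_mem hx hx', y + y', X.add_mem hy hy', by rw [Bop_add]; abel⟩
      neg_mem' := by
        rintro _ ⟨x, hx, y, hy, rfl⟩
        exact ⟨-x, X.neg_mem hx, -y, X.neg_mem hy, by rw [Bop_neg]; abel⟩ }
  have hWx : ∀ t : F, ∀ v ∈ W, r (xmat F t) v ∈ W := by
    rintro t _ ⟨x, hx, y, hy, rfl⟩
    refine ⟨x + phi r t y, X.add_mem hx (hst t y hy), y, hy, ?_⟩
    rw [map_add, fixU_apply r (hXU hx), x_apply r t (Bop r 1 y)]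
    unfold phi; abel
  have hWy : ∀ t : F, ∀ v ∈ W, r (ymat F t) v ∈ W := by
    rintro t _ ⟨x, hx, y, hy, rfl⟩
    refine ⟨x, hx, phi r t x + y, X.add_mem (hst t x hx) hy, ?_⟩
    rw [map_add, fixL_apply r (Bop_mem hq 1 y), y_apply r t x, Bop_eq h hq t (hXU hx), Bop_add]
    abel
  have hW := invariant_of_gens r W hWx hWy
  have hXW : X ≤ W := fun x hx => ⟨x, hx, 0, X.zero_mem, by rw [Bop_zero, add_zero]⟩
  rcases h.irr W hW with h0 | h0
  · exfalso; apply hX; rw [eq_bot_iff, ← h0]; exact hXW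
  · apply le_antisymm hXU
    intro v hv
    have hvW : v ∈ W := by rw [h0]; trivial
    obtain ⟨x, hx, y, hy, rfl⟩ := hvW
    have hb : Bop r 1 y ∈ fixU r ⊓ fixL r := by
      refine ⟨?_, Bop_mem hq 1 y⟩
      have : Bop r 1 y = (x + Bop r 1 y) - x := by abel
      rw [this]; exact (fixU r).sub_mem hv (hXU hx)
    rw [fix_inf_eq_bot h, AddSubgroup.mem_bot] at hb
    rw [hb, add_zero]; exact hx

theorem fixU_ne_bot (h : IsIrr r) (hq : IsQuad r) : fixU r ≠ ⊥ := by
  intro h0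
  obtain ⟨g, v, hgv⟩ := h.nt
  have hall : ∀ v : V, v ∈ fixU r := by
    intro v t
    have h1 := hq t v
    rw [h0, AddSubgroup.mem_bot] at h1
    have h2 : r (xmat F t) v - v = 0 := h1
    exact sub_eq_zero.mp h2
  have hz : ∀ v : V, v = 0 := by
    intro v; have h1 := hall v; rw [h0, AddSubgroup.mem_bot] at h1; exact h1
  apply hgv
  rw [hz v, map_zero]

theorem exists_decomp (h : IsIrr r) (hq : IsQuad r) (v : V) :
    ∃ a ∈ fixU r, ∃ b ∈ fixL r, v = a + b := by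
  have hWx : ∀ t : F, ∀ v ∈ fixU r ⊔ fixL r, r (xmat F t) v ∈ fixU r ⊔ fixL r := by
    intro t v hv
    obtain ⟨a, ha, b, hb, rfl⟩ := AddSubgroup.mem_sup.mp hv
    refine AddSubgroup.mem_sup.mpr ⟨a + Aop r t b, (fixU r).add_mem ha (hq t b), b, hb, ?_⟩
    rw [map_add, fixU_apply r ha, x_apply r t b]; abel
  have hWy : ∀ t : F, ∀ v ∈ fixU r ⊔ fixL r, r (ymat F t) v ∈ fixU r ⊔ fixL r := by
    intro t v hv
    obtain ⟨a, ha, b, hb, rfl⟩ := AddSubgroup.mem_sup.mp hv
    refine AddSubgroup.mem_sup.mpr ⟨a, ha, Bop r t a + b, (fixL r).add_mem (Bop_mem hq t a) hb, ?_⟩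
    rw [map_add, fixL_apply r hb, y_apply r t a]; abel
  have hW := invariant_of_gens r _ hWx hWy
  rcases h.irr _ hW with h0 | h0
  · exfalso
    apply fixU_ne_bot h hq
    rw [eq_bot_iff, ← h0]; exact le_sup_left
  · have hv : v ∈ fixU r ⊔ fixL r := by rw [h0]; trivial
    obtain ⟨a, ha, b, hb, e⟩ := AddSubgroup.mem_sup.mp hv
    exact ⟨a, ha, b, hb, e.symm⟩

/-- the recognition theorem: an irreducible nontrivial module on which the unitriangular group acts
quadratically is the natural module -/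
theorem exists_equiv (h : IsIrr r) (hq : IsQuad r) :
    ∃ ψ : (Fin 2 → F) ≃+ V, ∀ (g : SL2) (f : Fin 2 → F), ψ ((g : M2).mulVec f) = r g (ψ f) := by
  obtain ⟨v₀, hv₀, hv₀0⟩ : ∃ v₀ ∈ fixU r, v₀ ≠ 0 := by
    by_contra hcon
    push Not at hcon
    exact fixU_ne_bot h hq ((AddSubgroup.eq_bot_iff_forall _).mpr hcon)
  let X : AddSubgroup V :=
    { carrier := {x | ∃ t : F, x = phi r t v₀}
      zero_mem' := ⟨0, (phi_zero_param v₀).symm⟩
      add_mem' := by
        rintro _ _ ⟨s, rfl⟩ ⟨t, rfl⟩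
        exact ⟨s + t, (phi_add_param hq s t v₀).symm⟩
      neg_mem' := by
        rintro _ ⟨s, rfl⟩
        exact ⟨-s, (phi_neg_param hq s v₀).symm⟩ }
  have hXeq : X = fixU r := by
    apply eq_fixU_of_stable h hq X
    · rintro _ ⟨t, rfl⟩; exact hq _ _
    · rintro s _ ⟨t, rfl⟩; exact ⟨s * t, (phi_mul h hq s t hv₀).symm⟩
    · intro hbot
      have h1 : v₀ ∈ X := ⟨1, (phi_one h hq hv₀).symm⟩
      rw [hbot, AddSubgroup.mem_bot] at h1
      exact hv₀0 h1
  have hspan : ∀ x ∈ fixU r, ∃ t : F, x = phi r t v₀ := by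
    intro x hx; rw [← hXeq] at hx; exact hx
  have hinj0 : ∀ t : F, phi r t v₀ = 0 → t = 0 := by
    intro t ht
    by_contra ht0
    apply hv₀0
    rw [← phi_one h hq hv₀, ← inv_mul_cancel₀ ht0, phi_mul h hq t⁻¹ t hv₀, ht]
    unfold phi; rw [Bop_zero, Aop_zero]
  let Ψ : (Fin 2 → F) →+ V :=
    { toFun := fun f => phi r (f 0) v₀ + Bop r 1 (phi r (f 1) v₀)
      map_zero' := by
        simp only [Pi.zero_apply, phi_zero_param, Bop_zero, add_zero]
      map_add' := by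
        intro f f'
        simp only [Pi.add_apply]
        rw [phi_add_param hq, phi_add_param hq, Bop_add]
        abel }
  have hΨ : ∀ f, Ψ f = phi r (f 0) v₀ + Bop r 1 (phi r (f 1) v₀) := fun f => rfl
  have hinj : Function.Injective Ψ := by
    rw [injective_iff_map_eq_zero]
    intro f hf
    rw [hΨ] at hf
    have h1 : phi r (f 0) v₀ ∈ fixU r ⊓ fixL r := by
      refine ⟨hq _ _, ?_⟩
      have h2 : phi r (f 0) v₀ = -Bop r 1 (phi r (f 1) v₀) := eq_neg_of_add_eq_zero_left hf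
      rw [h2]; exact (fixL r).neg_mem (Bop_mem hq _ _)
    rw [fix_inf_eq_bot h, AddSubgroup.mem_bot] at h1
    rw [h1, zero_add] at hf
    have h2 : phi r (f 1) v₀ = 0 := by
      have hw : phi r (f 1) v₀ ∈ fixU r := hq _ _
      have e := phi_one h hq hw
      have e' : phi r 1 (phi r (f 1) v₀) = Aop r 1 (Bop r 1 (phi r (f 1) v₀)) := rfl
      rw [e', hf, Aop_zero] at e
      exact e.symm
    apply vec_ext
    · exact hinj0 _ h1
    · exact hinj0 _ h2
  have hsurj : Function.Surjective Ψ := by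
    intro v
    obtain ⟨a, ha, b, hb, rfl⟩ := exists_decomp h hq v
    obtain ⟨s, hs⟩ := hspan a ha
    obtain ⟨t, ht⟩ := hspan (Aop r 1 b) (hq 1 b)
    refine ⟨![s, t], ?_⟩
    rw [hΨ]
    simp only [Matrix.cons_val_zero, Matrix.cons_val_one]
    rw [← hs, ← ht, BA_one h hq hb]
  have hx : ∀ (t : F) (f : Fin 2 → F),
      Ψ (((xmat F t : SL2) : M2).mulVec f) = r (xmat F t) (Ψ f) := by
    intro t f
    rw [xmat_mulVec, hΨ, hΨ]
    simp only [Matrix.cons_val_zero, Matrix.cons_val_one]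
    rw [map_add, fixU_apply r (phi_mem hq (f 0) v₀), x_apply r t (Bop r 1 (phi r (f 1) v₀)),
      phi_add_param hq, phi_mul h hq t (f 1) hv₀]
    unfold phi
    abel
  have hy : ∀ (t : F) (f : Fin 2 → F),
      Ψ (((ymat F t : SL2) : M2).mulVec f) = r (ymat F t) (Ψ f) := by
    intro t f
    rw [ymat_mulVec, hΨ, hΨ]
    simp only [Matrix.cons_val_zero, Matrix.cons_val_one]
    rw [map_add, fixL_apply r (Bop_mem hq 1 (phi r (f 1) v₀)), y_apply r t (phi r (f 0) v₀),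
      Bop_eq h hq t (phi_mem hq (f 0) v₀), phi_add_param hq, phi_mul h hq t (f 0) hv₀, Bop_add]
    abel
  let H : Subgroup SL2 :=
    { carrier := {g | ∀ f : Fin 2 → F, Ψ ((g : M2).mulVec f) = r g (Ψ f)}
      one_mem' := by
        intro f
        rw [Matrix.SpecialLinearGroup.coe_one, Matrix.one_mulVec, r_one]
      mul_mem' := by
        intro a b ha hb f
        have ha' : ∀ f : Fin 2 → F, Ψ ((a : M2).mulVec f) = r a (Ψ f) := ha
        have hb' : ∀ f : Fin 2 → F, Ψ ((b : M2).mulVec f) = r b (Ψ f) := hb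
        rw [Matrix.SpecialLinearGroup.coe_mul, ← Matrix.mulVec_mulVec, ha', hb', r_mul]
      inv_mem' := by
        intro a ha f
        have ha' : ∀ f : Fin 2 → F, Ψ ((a : M2).mulVec f) = r a (Ψ f) := ha
        have h1 := ha' (((a⁻¹ : SL2) : M2).mulVec f)
        rw [Matrix.mulVec_mulVec, coe_mul_coe_inv, Matrix.one_mulVec] at h1
        rw [h1, r_inv_apply] }
  have hH : H = ⊤ := eq_top_of_xmat_ymat_mem F H (fun a => hx a) (fun b => hy b)
  refine ⟨AddEquiv.ofBijective Ψ ⟨hinj, hsurj⟩, ?_⟩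
  intro g f
  have hg : g ∈ H := by rw [hH]; trivial
  exact hg f

end Cfsg.Agent.Lib.Helper1.NatRec
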