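import Mathlib
import Cfsg.Agent.Lib.Helper1.NR1
set_option autoImplicit false
set_option maxHeartbeats 4000000
set_option linter.unusedVariables false
set_option linter.unusedSectionVars false
set_option linter.style.longLine false
set_option linter.unusedSimpArgs false
open Matrix
universe u v
namespace Cfsg.Agent.Lib.Helper1.NatRec

open Cfsg.Agent.Lib.Helper1.SL2Three Cfsg.Agent.Lib.Helper1.Dickson Cfsg.Agent.Lib.Helper1.NatMod

variable {F : Type u} [Field F]

local notation "SL2" => Matrix.SpecialLinearGroup (Fin 2) F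
local notation "M2" => Matrix (Fin 2) (Fin 2) F

/-- Bruhat decomposition with respect to the lower triangular group -/
theorem bruhat_lower (g : SL2) :
    (∃ c a : F, a ≠ 0 ∧ g = ymat F c * (Wm a * Wm (-1))) ∨
      (∃ c b c' : F, b ≠ 0 ∧ g = ymat F c * Wm b * ymat F c') := by
  have hdet := det_eq g
  by_cases hb : eb g = 0
  · left
    have ha : ea g ≠ 0 := by
      intro h0
      rw [h0, hb] at hdet
      simp at hdet
    refine ⟨ec g / ea g, ea g, ha, ?_⟩
    obtain ⟨h1, h2, h3, h4⟩ := torus_entries ha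
    apply ext_entries
    · rw [ea_mul, h1, h3, ea_ymat, eb_ymat]; ring
    · rw [eb_mul, h2, h4, ea_ymat, eb_ymat, hb]; ring
    · rw [ec_mul, h1, h3, ec_ymat, ed_ymat]; field_simp; ring
    · rw [ed_mul, h2, h4, ec_ymat, ed_ymat]
      field_simp
      linear_combination hdet + ec g * hb
  · right
    refine ⟨ed g / eb g, eb g, ea g / eb g, hb, ?_⟩
    obtain ⟨h1, h2, h3, h4⟩ := Wm_entries hb
    apply ext_entries
    · simp only [ea_mul, eb_mul, ec_mul, ed_mul, h1, h2, h3, h4, ea_ymat, eb_ymat, ec_ymat, ed_ymat]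
      field_simp; ring
    · simp only [ea_mul, eb_mul, ec_mul, ed_mul, h1, h2, h3, h4, ea_ymat, eb_ymat, ec_ymat, ed_ymat]
      ring
    · simp only [ea_mul, eb_mul, ec_mul, ed_mul, h1, h2, h3, h4, ea_ymat, eb_ymat, ec_ymat, ed_ymat]
      field_simp
      linear_combination (-1 : F) * hdet
    · simp only [ea_mul, eb_mul, ec_mul, ed_mul, h1, h2, h3, h4, ea_ymat, eb_ymat, ec_ymat, ed_ymat]
      field_simp; ring

variable {V : Type v} [AddCommGroup V] (r : Matrix.SpecialLinearGroup (Fin 2) F →* AddMonoid.End V)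

/-- an endomorphism as an additive homomorphism -/
def toHom (f : AddMonoid.End V) : V →+ V := f

theorem toHom_apply (f : AddMonoid.End V) (x : V) : toHom f x = f x := rfl

/-- the induced map on a quotient -/
def qmap (N : AddSubgroup V) (f : AddMonoid.End V) (hf : ∀ v ∈ N, f v ∈ N) : V ⧸ N →+ V ⧸ N :=
  QuotientAddGroup.map N N (toHom f) (by
    intro v hv
    rw [AddSubgroup.mem_comap, toHom_apply]
    exact hf v hv)

theorem qmap_mk (N : AddSubgroup V) (f : AddMonoid.End V) (hf : ∀ v ∈ N, f v ∈ N) (v : V) :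
    qmap N f hf (QuotientAddGroup.mk v) = QuotientAddGroup.mk (f v) := by
  unfold qmap
  rw [QuotientAddGroup.map_mk, toHom_apply]

/-- a `p`-group acting on a finite `p`-group has a fixed point on every nontrivial quotient -/
theorem exists_fixed_mod {p : ℕ} [hp : Fact p.Prime] [Finite V] (hV : ∃ k, Nat.card V = p ^ k)
    (S : Subgroup SL2) (hS : IsPGroup p S) (N : AddSubgroup V)
    (hN : ∀ s ∈ S, ∀ v ∈ N, r s v ∈ N) (hNtop : N ≠ ⊤) :
    ∃ v, v ∉ N ∧ ∀ s ∈ S, r s v - v ∈ N := by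
  classical
  let act : MulAction S (V ⧸ N) :=
    { smul := fun s x => qmap N (r (s : SL2)) (hN s s.2) x
      one_smul := by
        intro x
        obtain ⟨v, rfl⟩ := QuotientAddGroup.mk_surjective x
        show qmap N (r ((1 : S) : SL2)) _ (QuotientAddGroup.mk v) = QuotientAddGroup.mk v
        rw [qmap_mk]
        have h1 : r ((1 : S) : SL2) v = v := by rw [Subgroup.coe_one]; exact r_one r v
        rw [h1]
      mul_smul := by
        intro s t x
        obtain ⟨v, rfl⟩ := QuotientAddGroup.mk_surjective x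
        show qmap N (r ((s * t : S) : SL2)) _ (QuotientAddGroup.mk v) =
          qmap N (r (s : SL2)) _ (qmap N (r (t : SL2)) _ (QuotientAddGroup.mk v))
        rw [qmap_mk, qmap_mk, qmap_mk]
        have h1 : r ((s * t : S) : SL2) v = r (s : SL2) (r (t : SL2) v) := by
          rw [Subgroup.coe_mul]; exact r_mul r _ _ v
        rw [h1] }
  have hsmul : ∀ (s : S) (v : V), s • (QuotientAddGroup.mk v : V ⧸ N) =
      QuotientAddGroup.mk (r (s : SL2) v) := by
    intro s v
    show qmap N (r (s : SL2)) _ (QuotientAddGroup.mk v) = _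
    rw [qmap_mk]
  obtain ⟨k, hk⟩ := hV
  have hdvd : p ∣ Nat.card (V ⧸ N) := by
    have h1 : Nat.card V = Nat.card (V ⧸ N) * Nat.card N :=
      AddSubgroup.card_eq_card_quotient_mul_card_addSubgroup N
    have h2 : Nat.card (V ⧸ N) ∣ p ^ k := by rw [← hk, h1]; exact dvd_mul_right _ _
    obtain ⟨j, -, hj⟩ := (Nat.dvd_prime_pow hp.out).mp h2
    rcases Nat.eq_zero_or_pos j with h0 | h0
    · exfalso
      rw [h0, pow_zero] at hj
      obtain ⟨hsub, -⟩ := Nat.card_eq_one_iff_unique.mp hj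
      apply hNtop
      rw [eq_top_iff]
      intro v _
      have h3 : (QuotientAddGroup.mk v : V ⧸ N) = 0 := Subsingleton.elim _ _
      exact (QuotientAddGroup.eq_zero_iff v).mp h3
    · rw [hj]; exact dvd_pow_self p (Nat.pos_iff_ne_zero.mp h0)
  have h0fix : (0 : V ⧸ N) ∈ MulAction.fixedPoints S (V ⧸ N) := by
    intro s
    have h1 : (0 : V ⧸ N) = QuotientAddGroup.mk (0 : V) := rfl
    rw [h1, hsmul, map_zero]
  obtain ⟨b, hbfix, hb0⟩ := hS.exists_fixed_point_of_prime_dvd_card_of_fixed_point (V ⧸ N) hdvd h0fix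
  obtain ⟨v, rfl⟩ := QuotientAddGroup.mk_surjective b
  refine ⟨v, ?_, ?_⟩
  · intro hv
    apply hb0
    exact ((QuotientAddGroup.eq_zero_iff v).mpr hv).symm
  · intro s hs
    have h1 := hbfix ⟨s, hs⟩
    rw [hsmul] at h1
    have h2 := QuotientAddGroup.eq.mp h1
    have h3 : r s v - v = -(-(r s v) + v) := by abel
    rw [h3]
    exact N.neg_mem h2

variable {r}

/-- the order hypothesis implies quadratic action -/
theorem isQuad_of_card {p : ℕ} [hp : Fact p.Prime] [CharP F p] [Finite V]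
    (hV : ∃ k, Nat.card V = p ^ k) (h : IsIrr r)
    (hcard : Nat.card V ≤ Nat.card (fixU r) ^ 2) : IsQuad r := by
  have hdisj := fix_inf_eq_bot h
  have h1F : (1 : F) ≠ 0 := one_ne_zero
  have hUL : Nat.card (fixU r) ≤ Nat.card (fixL r) := by
    apply Nat.card_le_card_of_injective
      (fun a : fixU r => (⟨r (Wm 1) a, Wm_fixU h1F a.2⟩ : fixL r))
    intro a a' haa
    have h1 : r (Wm (1 : F)) a = r (Wm 1) a' := congrArg Subtype.val haa
    apply Subtype.ext
    calc (a : V) = r (Wm (1 : F))⁻¹ (r (Wm 1) a) := (r_inv_apply r _ _).symm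
      _ = r (Wm (1 : F))⁻¹ (r (Wm 1) a') := by rw [h1]
      _ = a' := r_inv_apply r _ _
  have hdec : ∀ v : V, ∃ a ∈ fixU r, ∃ b ∈ fixL r, v = a + b := by
    let f : fixU r × fixL r → V := fun x => (x.1 : V) + (x.2 : V)
    have hf : Function.Injective f := by
      rintro ⟨a, b⟩ ⟨a', b'⟩ hab
      have hab' : (a : V) + b = a' + b' := hab
      have h1 : (a : V) - a' ∈ fixU r ⊓ fixL r := by
        refine ⟨(fixU r).sub_mem a.2 a'.2, ?_⟩
        have h2 : (a : V) - a' = b' - b := by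
          rw [sub_eq_sub_iff_add_eq_add, hab', add_comm]
        rw [h2]
        exact (fixL r).sub_mem b'.2 b.2
      rw [hdisj, AddSubgroup.mem_bot, sub_eq_zero] at h1
      have h2 : (b : V) = b' := by rw [h1] at hab'; exact add_left_cancel hab'
      exact Prod.ext (Subtype.ext h1) (Subtype.ext h2)
    have hbij : Function.Bijective f := by
      apply hf.bijective_of_nat_card_le
      rw [Nat.card_prod]
      calc Nat.card V ≤ Nat.card (fixU r) ^ 2 := hcard
        _ = Nat.card (fixU r) * Nat.card (fixU r) := sq _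
        _ ≤ Nat.card (fixU r) * Nat.card (fixL r) := Nat.mul_le_mul_left _ hUL
    intro v
    obtain ⟨⟨a, b⟩, hab⟩ := hbij.2 v
    exact ⟨a, a.2, b, b.2, hab.symm⟩
  have hUtop : fixU r ≠ ⊤ := by
    intro htop
    obtain ⟨g, v, hgv⟩ := h.nt
    have hz : ∀ v : V, v = 0 := by
      intro v
      have h1 : r (Wm (1 : F))⁻¹ v ∈ fixU r := by rw [htop]; trivial
      have h2 : v ∈ fixL r := by
        have h3 := Wm_fixU h1F h1
        rwa [r_apply_inv] at h3
      have h3 : v ∈ fixU r ⊓ fixL r := ⟨by rw [htop]; trivial, h2⟩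
      rwa [hdisj, AddSubgroup.mem_bot] at h3
    apply hgv
    rw [hz v, map_zero]
  -- a vector in the second layer
  obtain ⟨v, hvU, hvfix⟩ := exists_fixed_mod r hV (Usub F) isPGroup_Usub (fixU r)
    (by
      rintro s ⟨t, rfl⟩ v hv
      rw [fixU_apply r hv]; exact hv) hUtop
  obtain ⟨a, ha, b, hb, rfl⟩ := hdec v
  have hb0 : b ≠ 0 := by
    intro h0
    apply hvU
    rw [h0, add_zero]; exact ha
  have hbY : ∀ t : F, Aop r t b ∈ fixU r := by
    intro t
    have h1 := hvfix (xmat F t) (xmat_mem_Usub t)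
    have h2 : r (xmat F t) (a + b) - (a + b) = Aop r t b := by
      rw [map_add, fixU_apply r ha]
      unfold Aop; abel
    rwa [h2] at h1
  -- the second layer of the lower group inside `fixU`
  let Z : AddSubgroup V :=
    { carrier := {a | a ∈ fixU r ∧ ∀ s : F, Bop r s a ∈ fixL r}
      zero_mem' := ⟨(fixU r).zero_mem, fun s => by rw [Bop_zero]; exact (fixL r).zero_mem⟩
      add_mem' := by
        rintro x y ⟨hx1, hx2⟩ ⟨hy1, hy2⟩
        exact ⟨(fixU r).add_mem hx1 hy1, fun s => by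
          rw [Bop_add]; exact (fixL r).add_mem (hx2 s) (hy2 s)⟩
      neg_mem' := by
        rintro x ⟨hx1, hx2⟩
        exact ⟨(fixU r).neg_mem hx1, fun s => by
          rw [Bop_neg]; exact (fixL r).neg_mem (hx2 s)⟩ }
  have hZ : ∀ x : V, x ∈ Z ↔ x ∈ fixU r ∧ ∀ s : F, Bop r s x ∈ fixL r := fun x => Iff.rfl
  have hyN : ∀ (c : F) (x : V), x ∈ Z ⊔ fixL r → r (ymat F c) x ∈ Z ⊔ fixL r := by
    intro c x hx
    obtain ⟨z, hz, b', hb', rfl⟩ := AddSubgroup.mem_sup.mp hx
    refine AddSubgroup.mem_sup.mpr ⟨z, hz, Bop r c z + b', (fixL r).add_mem (((hZ z).mp hz).2 c) hb', ?_⟩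
    rw [map_add, fixL_apply r hb', y_apply r c z]; abel
  -- every translate of `b` lies in `Z ⊔ fixL`
  have hgb : ∀ g : SL2, r g b ∈ Z ⊔ fixL r := by
    intro g
    rcases bruhat_lower g with ⟨c, a', ha', rfl⟩ | ⟨c, b', c', hb', rfl⟩
    · rw [r_mul, r_mul]
      apply hyN
      apply AddSubgroup.mem_sup_right
      exact Wm_fixU ha' (Wm_fixL (neg_ne_zero.mpr h1F) hb)
    · rw [r_mul, r_mul, fixL_apply r hb]
      apply hyN
      apply AddSubgroup.mem_sup_left
      rw [hZ]
      refine ⟨Wm_fixL hb' hb, ?_⟩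
      intro s
      have h1 : Bop r s (r (Wm b') b) = r (Wm b') (Aop r (-(s * b' ^ 2)) b) := by
        unfold Bop Aop
        rw [map_sub, ← r_mul r (Wm b'), ← W1 hb' s, r_mul]
      rw [h1]
      exact Wm_fixU hb' (hbY _)
  let M' : AddSubgroup V :=
    { carrier := {x | ∀ g : SL2, r g x ∈ Z ⊔ fixL r}
      zero_mem' := fun g => by rw [map_zero]; exact (Z ⊔ fixL r).zero_mem
      add_mem' := by
        intro x y hx hy g
        rw [map_add]; exact (Z ⊔ fixL r).add_mem (hx g) (hy g)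
      neg_mem' := by
        intro x hx g
        rw [map_neg]; exact (Z ⊔ fixL r).neg_mem (hx g) }
  have hM'inv : ∀ g : SL2, ∀ x ∈ M', r g x ∈ M' := by
    intro g x hx g'
    rw [← r_mul]; exact hx _
  have hM'top : M' = ⊤ := by
    rcases h.irr M' hM'inv with h0 | h0
    · exfalso
      have h1 : b ∈ M' := hgb
      rw [h0, AddSubgroup.mem_bot] at h1
      exact hb0 h1
    · exact h0
  have hUZ : ∀ x ∈ fixU r, ∀ s : F, Bop r s x ∈ fixL r := by
    intro x hx s
    have h1 : x ∈ M' := by rw [hM'top]; trivial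
    have h2 := h1 1
    rw [r_one] at h2
    obtain ⟨z, hz, b', hb', e⟩ := AddSubgroup.mem_sup.mp h2
    have h3 : b' ∈ fixU r ⊓ fixL r := by
      refine ⟨?_, hb'⟩
      have h4 : b' = x - z := by rw [← e]; abel
      rw [h4]; exact (fixU r).sub_mem hx ((hZ z).mp hz).1
    rw [hdisj, AddSubgroup.mem_bot] at h3
    rw [h3, add_zero] at e
    rw [← e]; exact ((hZ z).mp hz).2 s
  have hLquad : ∀ (s : F) (x : V), Bop r s x ∈ fixL r := by
    intro s x
    obtain ⟨a', ha', b', hb', rfl⟩ := hdec x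
    rw [Bop_add, Bop_of_mem r hb', add_zero]
    exact hUZ a' ha' s
  intro t x
  have hx : r (Wm 1) (r (Wm (1 : F))⁻¹ x) = x := r_apply_inv r _ x
  have h1 : Aop r t x = r (Wm 1) (Bop r (-(t * (1 : F)⁻¹ ^ 2)) (r (Wm (1 : F))⁻¹ x)) := by
    unfold Bop Aop
    rw [map_sub, ← r_mul r (Wm 1), ← W2 h1F t, r_mul, hx]
  rw [h1]
  exact Wm_fixL h1F (hLquad _ _)

end Cfsg.Agent.Lib.Helper1.NatRec
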