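import Mathlib
import Cfsg.Prelude.Def_Transfer
import Cfsg.Prelude.Def_BaumannBlocks
import Cfsg.Agent.Lib.Helper1.NR2
import Cfsg.Agent.Lib.Helper1.NM2
import Cfsg.Agent.Lib.Helper1.CoprimeSylow
set_option autoImplicit false
set_option maxHeartbeats 4000000
set_option linter.unusedVariables false
set_option linter.unusedSectionVars false
set_option linter.style.longLine false
set_option linter.unusedSimpArgs false
open Matrix
open scoped commutatorElement
universe u w
namespace Cfsg.Agent.Lib.Helper1.NatRec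

open Cfsg.Agent.Lib.Helper1.SL2Three Cfsg.Agent.Lib.Helper1.Dickson Cfsg.Agent.Lib.Helper1.NatMod
open Cfsg.Agent.Lib.Helper1

variable {X : Type w} [Group X] {F : Type u} [Field F]

local notation "SL2" => Matrix.SpecialLinearGroup (Fin 2) F
local notation "M2" => Matrix (Fin 2) (Fin 2) F

/-- conjugation by a normalizing element, as an additive endomorphism -/
def conjEnd (V : Subgroup X) (g : X) (hg : g ∈ Subgroup.normalizer (V : Set X)) :
    AddMonoid.End (Additive V) :=
  AddMonoidHom.mk' (fun v => Additive.ofMul (⟨g * ((Additive.toMul v : V) : X) * g⁻¹,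
      (Subgroup.mem_normalizer_iff.mp hg _).mp (Additive.toMul v : V).2⟩ : V))
    (by
      intro a b
      rw [← ofMul_mul]
      apply congrArg Additive.ofMul
      apply Subtype.ext
      show g * (((Additive.toMul (a + b) : V)) : X) * g⁻¹ =
        (g * ((Additive.toMul a : V) : X) * g⁻¹) * (g * ((Additive.toMul b : V) : X) * g⁻¹)
      rw [toMul_add, Subgroup.coe_mul]
      group)

theorem conjEnd_val (V : Subgroup X) (g : X) (hg : g ∈ Subgroup.normalizer (V : Set X))
    (v : Additive V) :
    ((Additive.toMul (conjEnd V g hg v) : V) : X) = g * ((Additive.toMul v : V) : X) * g⁻¹ := rfl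

/-- the representation of `SL₂(F)` on `V` through an isomorphism -/
def conjRep (G V : Subgroup X) (hGV : G ≤ Subgroup.normalizer (V : Set X))
    (e : G ≃* Matrix.SpecialLinearGroup (Fin 2) F) :
    Matrix.SpecialLinearGroup (Fin 2) F →* AddMonoid.End (Additive V) where
  toFun m := conjEnd V ((e.symm m : G) : X) (hGV (e.symm m).2)
  map_one' := by
    refine DFunLike.ext _ _ (fun v => ?_)
    apply Additive.toMul.injective
    apply Subtype.ext
    rw [conjEnd_val]
    simp only [map_one, Subgroup.coe_one, one_mul, inv_one, mul_one]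
    rfl
  map_mul' := by
    intro a b
    refine DFunLike.ext _ _ (fun v => ?_)
    apply Additive.toMul.injective
    apply Subtype.ext
    show _ = ((Additive.toMul (conjEnd V ((e.symm a : G) : X) (hGV (e.symm a).2)
      (conjEnd V ((e.symm b : G) : X) (hGV (e.symm b).2) v)) : V) : X)
    rw [conjEnd_val, conjEnd_val, conjEnd_val, map_mul, Subgroup.coe_mul]
    group

theorem conjRep_val (G V : Subgroup X) (hGV : G ≤ Subgroup.normalizer (V : Set X))
    (e : G ≃* Matrix.SpecialLinearGroup (Fin 2) F) (m : SL2) (v : Additive V) :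
    ((Additive.toMul (conjRep G V hGV e m v) : V) : X) =
      ((e.symm m : G) : X) * ((Additive.toMul v : V) : X) * ((e.symm m : G) : X)⁻¹ := rfl

open scoped IsMulCommutative in
/-- an irreducible nontrivial module for `SL₂(F)` on which a Sylow `p`-subgroup acts quadratically,
or whose order is at most the square of the order of the fixed points, is natural -/
theorem sl2_natural [Finite X] {p : ℕ} [hp : Fact p.Prime] (G V : Subgroup X)
    (hV : Cfsg.IsElementaryAbelian p V) (hGV : G ≤ Subgroup.normalizer (V : Set X))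
    (F : Type u) [Field F] [Fintype F] (n : ℕ) (hF : Fintype.card F = p ^ n)
    (hG : Nonempty (↥G ≃* Matrix.SpecialLinearGroup (Fin 2) F))
    (hirr : ∀ U : Subgroup X, U ≤ V → G ≤ Subgroup.normalizer (U : Set X) → U = ⊥ ∨ U = V)
    (hnt : ⁅V, G⁆ ≠ ⊥) (S : Sylow p ↥G)
    (hyp : ⁅⁅V, (S : Subgroup ↥G).map G.subtype⁆, (S : Subgroup ↥G).map G.subtype⁆ = ⊥ ∨
      Nat.card ↥V ≤ Nat.card ↥(V ⊓ Subgroup.centralizer
        (((S : Subgroup ↥G).map G.subtype : Subgroup X) : Set X)) ^ 2) :
    Cfsg.ActsAsSL2OnSection F ⊤ G V ⊥ := by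
  classical
  haveI : CharP F p := charP_of_card n hF
  haveI : IsMulCommutative ↥V := hV.1
  obtain ⟨e₀⟩ := hG
  -- normalize the Sylow subgroup
  obtain ⟨e, he⟩ : ∃ e : ↥G ≃* Matrix.SpecialLinearGroup (Fin 2) F,
      ∀ x : G, x ∈ S ↔ e x ∈ Usub F := by
    obtain ⟨P, hP⟩ : ∃ P : Subgroup (Matrix.SpecialLinearGroup (Fin 2) F),
        P = (S : Subgroup G).map e₀.toMonoidHom := ⟨_, rfl⟩
    have hPp : IsPGroup p P := by rw [hP]; exact S.2.map _
    have hcardG : Nat.card G = Nat.card (Matrix.SpecialLinearGroup (Fin 2) F) :=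
      Nat.card_congr e₀.toEquiv
    have hPc : Nat.card P = Fintype.card F := by
      rw [hP, Nat.card_congr ((S : Subgroup G).equivMapOfInjective e₀.toMonoidHom
        e₀.injective).symm.toEquiv, S.card_eq_multiplicity, hcardG, card_SL2_factorization n hF, hF]
    obtain ⟨g, hg⟩ := exists_conj_eq_Usub n hF P hPp hPc
    refine ⟨e₀.trans (MulAut.conj g⁻¹), ?_⟩
    intro x
    have hx : (e₀.trans (MulAut.conj g⁻¹)) x = g⁻¹ * e₀ x * g := by
      simp [MulAut.conj_apply]
    rw [hx]
    constructor
    · intro hxS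
      have h1 : e₀ x ∈ P := by rw [hP]; exact ⟨x, hxS, rfl⟩
      rw [hg] at h1
      obtain ⟨u, hu, hul⟩ := h1
      have h2 : e₀ x = g * u * g⁻¹ := by rw [← hul]; rfl
      rw [h2]
      have e1 : g⁻¹ * (g * u * g⁻¹) * g = u := by group
      rw [e1]; exact hu
    · intro hl
      have h1 : e₀ x ∈ P := by
        rw [hg]
        refine ⟨g⁻¹ * e₀ x * g, hl, ?_⟩
        show g * (g⁻¹ * e₀ x * g) * g⁻¹ = e₀ x
        group
      rw [hP] at h1
      obtain ⟨l', hl', hll⟩ := h1
      have h2 : l' = x := e₀.injective hll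
      rw [← h2]; exact hl'
  obtain ⟨r, hr⟩ : ∃ r : Matrix.SpecialLinearGroup (Fin 2) F →* AddMonoid.End (Additive V),
      ∀ (m : Matrix.SpecialLinearGroup (Fin 2) F) (v : Additive V),
        ((Additive.toMul (r m v) : V) : X) =
          ((e.symm m : G) : X) * ((Additive.toMul v : V) : X) * ((e.symm m : G) : X)⁻¹ :=
    ⟨conjRep G V hGV e, conjRep_val G V hGV e⟩
  have hxS : ∀ t : F, ((e.symm (xmat F t) : G) : X) ∈ (S : Subgroup G).map G.subtype := by
    intro t
    refine ⟨e.symm (xmat F t), ?_, rfl⟩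
    show e.symm (xmat F t) ∈ S
    rw [he, e.apply_symm_apply]; exact xmat_mem_Usub t
  have hIrr : IsIrr r := by
    constructor
    · intro U' hU'
      let UX : Subgroup X :=
        { carrier := {x | ∃ h : x ∈ V, Additive.ofMul (⟨x, h⟩ : V) ∈ U'}
          one_mem' := ⟨V.one_mem, U'.zero_mem⟩
          mul_mem' := by
            rintro a b ⟨ha, ha'⟩ ⟨hb, hb'⟩
            exact ⟨V.mul_mem ha hb, U'.add_mem ha' hb'⟩
          inv_mem' := by
            rintro a ⟨ha, ha'⟩
            exact ⟨V.inv_mem ha, U'.neg_mem ha'⟩ }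
      have hUXV : UX ≤ V := fun x hx => hx.1
      have hUXn : G ≤ Subgroup.normalizer (UX : Set X) := by
        apply le_normalizer_of_conj_mem
        rintro g hg x ⟨hxV, hxU⟩
        have hgx : g * x * g⁻¹ ∈ V := (Subgroup.mem_normalizer_iff.mp (hGV hg) x).mp hxV
        refine ⟨hgx, ?_⟩
        have h1 := hU' (e ⟨g, hg⟩) _ hxU
        have h2 : r (e ⟨g, hg⟩) (Additive.ofMul (⟨x, hxV⟩ : V)) =
            Additive.ofMul (⟨g * x * g⁻¹, hgx⟩ : V) := by
          apply Additive.toMul.injective
          apply Subtype.ext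
          rw [hr, e.symm_apply_apply]
          rfl
        rwa [h2] at h1
      rcases hirr UX hUXV hUXn with h0 | h0
      · left
        rw [eq_bot_iff]
        intro v hv
        have h1 : ((Additive.toMul v : V) : X) ∈ UX := ⟨(Additive.toMul v).2, hv⟩
        rw [h0, Subgroup.mem_bot] at h1
        rw [AddSubgroup.mem_bot]
        apply Additive.toMul.injective
        apply Subtype.ext
        exact h1
      · right
        rw [eq_top_iff]
        intro v _
        have h1 : ((Additive.toMul v : V) : X) ∈ UX := by rw [h0]; exact (Additive.toMul v).2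
        obtain ⟨h2, h3⟩ := h1
        exact h3
    · by_contra hcon
      push Not at hcon
      apply hnt
      rw [eq_bot_iff, Subgroup.commutator_le]
      intro v hv g hg
      rw [Subgroup.mem_bot]
      have h1 := hcon (e ⟨g, hg⟩) (Additive.ofMul (⟨v, hv⟩ : V))
      have h2 : g * v * g⁻¹ = v := by
        have h3 := hr (e ⟨g, hg⟩) (Additive.ofMul (⟨v, hv⟩ : V))
        rw [h1, e.symm_apply_apply] at h3
        exact h3.symm
      rw [commutatorElement_def]
      calc v * g * v⁻¹ * g⁻¹ = v * (g * v * g⁻¹)⁻¹ := by group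
        _ = 1 := by rw [h2, mul_inv_cancel]
  have hAop : ∀ (t : F) (v : Additive V), ((Additive.toMul (Aop r t v) : V) : X) =
      ((e.symm (xmat F t) : G) : X) * ((Additive.toMul v : V) : X) *
        ((e.symm (xmat F t) : G) : X)⁻¹ * ((Additive.toMul v : V) : X)⁻¹ := by
    intro t v
    unfold Aop
    rw [toMul_sub, div_eq_mul_inv, Subgroup.coe_mul, Subgroup.coe_inv, hr]
  have hquad : IsQuad r := by
    rcases hyp with hA | hB
    · intro t w s
      show r (xmat F s) (Aop r t w) = Aop r t w
      obtain ⟨a, ha⟩ : ∃ a : X, a = ((e.symm (xmat F t) : G) : X) := ⟨_, rfl⟩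
      obtain ⟨b, hb⟩ : ∃ b : X, b = ((e.symm (xmat F s) : G) : X) := ⟨_, rfl⟩
      obtain ⟨v, hv⟩ : ∃ v : X, v = ((Additive.toMul w : V) : X) := ⟨_, rfl⟩
      have hvV : v ∈ V := hv ▸ (Additive.toMul w : V).2
      have haS : a ∈ (S : Subgroup G).map G.subtype := ha ▸ hxS t
      have hbS : b ∈ (S : Subgroup G).map G.subtype := hb ▸ hxS s
      have hc : a * v * a⁻¹ * v⁻¹ ∈ ⁅V, (S : Subgroup G).map G.subtype⁆ := by
        have h1 : a * v * a⁻¹ * v⁻¹ = ⁅a, v⁆ := (commutatorElement_def a v).symm
        rw [h1, Subgroup.commutator_comm]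
        exact Subgroup.commutator_mem_commutator haS hvV
      have hcb : b * (a * v * a⁻¹ * v⁻¹) * b⁻¹ = a * v * a⁻¹ * v⁻¹ := by
        have h1 : ⁅a * v * a⁻¹ * v⁻¹, b⁆ ∈
            ⁅⁅V, (S : Subgroup G).map G.subtype⁆, (S : Subgroup G).map G.subtype⁆ :=
          Subgroup.commutator_mem_commutator hc hbS
        rw [hA, Subgroup.mem_bot, commutatorElement_def] at h1
        obtain ⟨c, hcc⟩ : ∃ c : X, c = a * v * a⁻¹ * v⁻¹ := ⟨_, rfl⟩
        rw [← hcc] at h1 ⊢
        calc b * c * b⁻¹ = (c * b * c⁻¹ * b⁻¹)⁻¹ * c := by group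
          _ = c := by rw [h1, inv_one, one_mul]
      apply Additive.toMul.injective
      apply Subtype.ext
      rw [hr, hAop, ← ha, ← hb, ← hv]
      exact hcb
    · haveI : Finite (Additive V) := Finite.of_equiv V Additive.ofMul
      have hVp : IsPGroup p V := by
        intro v
        refine ⟨1, ?_⟩
        rw [pow_one]
        apply Subtype.ext
        rw [Subgroup.coe_pow, Subgroup.coe_one]
        exact hV.2 v v.2
      have hle : Nat.card ↥(V ⊓ Subgroup.centralizer
          (((S : Subgroup ↥G).map G.subtype : Subgroup X) : Set X)) ≤ Nat.card (fixU r) := by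
        have hmem : ∀ x : ↥(V ⊓ Subgroup.centralizer
            (((S : Subgroup ↥G).map G.subtype : Subgroup X) : Set X)),
            Additive.ofMul (⟨x.1, x.2.1⟩ : V) ∈ fixU r := by
          intro x t
          apply Additive.toMul.injective
          apply Subtype.ext
          rw [hr]
          have h1 := Subgroup.mem_centralizer_iff.mp x.2.2 _ (hxS t)
          show ((e.symm (xmat F t) : G) : X) * (x : X) * ((e.symm (xmat F t) : G) : X)⁻¹ = (x : X)
          rw [h1]; group
        apply Nat.card_le_card_of_injective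
          (fun x => (⟨Additive.ofMul (⟨x.1, x.2.1⟩ : V), hmem x⟩ : fixU r))
        intro x y hxy
        apply Subtype.ext
        have h1 := congrArg (fun z : fixU r => ((Additive.toMul (z : Additive V) : V) : X)) hxy
        exact h1
      apply isQuad_of_card (p := p) ?_ hIrr ?_
      · obtain ⟨k, hk⟩ := hVp.exists_card_eq
        exact ⟨k, hk⟩
      · calc Nat.card (Additive V) = Nat.card V := rfl
          _ ≤ Nat.card ↥(V ⊓ Subgroup.centralizer
              (((S : Subgroup ↥G).map G.subtype : Subgroup X) : Set X)) ^ 2 := hB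
          _ ≤ Nat.card (fixU r) ^ 2 := Nat.pow_le_pow_left hle 2
  obtain ⟨ψ, hψ⟩ := exists_equiv hIrr hquad
  let ψ' : ↥V →* Multiplicative (Fin 2 → F) :=
    MonoidHom.mk' (fun v => Multiplicative.ofAdd (ψ.symm (Additive.ofMul v)))
      (by intro a b; rw [ofMul_mul, map_add, ofAdd_add])
  have hψ' : ∀ v : V, ψ' v = Multiplicative.ofAdd (ψ.symm (Additive.ofMul v)) := fun v => rfl
  refine ⟨hGV, bot_le, e.toMonoidHom, ψ', ?_, ?_, ?_, ?_⟩
  · exact MonoidHom.range_eq_top.mpr e.surjective
  · intro m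
    refine ⟨Additive.toMul (ψ (Multiplicative.toAdd m)), ?_⟩
    rw [hψ', ofMul_toMul, ψ.symm_apply_apply, ofAdd_toAdd]
  · intro u
    rw [hψ', ofAdd_eq_one, AddEquiv.map_eq_zero_iff, ofMul_eq_zero, Subgroup.mem_bot]
    constructor
    · intro h; rw [h]; rfl
    · intro h; exact Subtype.ext h
  · intro g u
    have hw : (g : X) * (u : X) * (g : X)⁻¹ ∈ V :=
      (Subgroup.mem_normalizer_iff.mp (hGV g.2) u).mp u.2
    refine ⟨⟨_, hw⟩, rfl, ?_⟩
    show ψ.symm (Additive.ofMul (⟨_, hw⟩ : V)) =
      ((e g : Matrix.SpecialLinearGroup (Fin 2) F) : Matrix (Fin 2) (Fin 2) F).mulVec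
        (ψ.symm (Additive.ofMul u))
    apply ψ.injective
    rw [ψ.apply_symm_apply, hψ, ψ.apply_symm_apply]
    apply Additive.toMul.injective
    apply Subtype.ext
    rw [hr, e.symm_apply_apply]
    rfl

end Cfsg.Agent.Lib.Helper1.NatRec
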