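import Mathlib
import Cfsg.Agent.Lib.Helper1.MaxAbelianNormal
import Cfsg.Agent.Lib.Helper1.SZHelpers
open Pointwise

set_option autoImplicit false

namespace Cfsg.Agent.Lib.Helper1

universe u

theorem abelian_of_normalizer_eq_centralizer_aux : ∀ (n : ℕ) (G : Type u) [Group G] [Finite G],
    Nat.card G = n →
    (∀ A : Subgroup G, (∀ a ∈ A, ∀ b ∈ A, a * b = b * a) →
      Subgroup.normalizer (A : Set G) = Subgroup.centralizer (A : Set G)) →
    ∀ a b : G, a * b = b * a := by
  intro n
  induction n using Nat.strong_induction_on with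
  | _ n ih =>
    intro G _ _ hn h
    -- the hypothesis passes to subgroups
    have hsub : ∀ H : Subgroup G, ∀ A : Subgroup H, (∀ a ∈ A, ∀ b ∈ A, a * b = b * a) →
        Subgroup.normalizer (A : Set H) = Subgroup.centralizer (A : Set H) := by
      intro H A hA
      apply le_antisymm _ (Subgroup.centralizer_le_normalizer _)
      intro x hx
      have hA' : ∀ a ∈ A.map H.subtype, ∀ b ∈ A.map H.subtype, a * b = b * a := by
        rintro _ ⟨a, ha, rfl⟩ _ ⟨b, hb, rfl⟩
        exact congrArg Subtype.val (hA a ha b hb)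
      have h1 : (x : G) ∈ Subgroup.normalizer ((A.map H.subtype : Subgroup G) : Set G) :=
        Subgroup.le_normalizer_map H.subtype ⟨x, hx, rfl⟩
      rw [h _ hA', Subgroup.mem_centralizer_iff] at h1
      rw [Subgroup.mem_centralizer_iff]
      intro a ha
      exact Subtype.ext (h1 a ⟨a, ha, rfl⟩)
    by_cases htriv : Nat.card G = 1
    · have : Subsingleton G := (Nat.card_eq_one_iff_unique.mp htriv).1
      intro a b
      exact Subsingleton.elim _ _
    obtain ⟨p, hp, hpd⟩ := Nat.exists_prime_and_dvd htriv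
    have : Fact p.Prime := ⟨hp⟩
    obtain ⟨P⟩ : Nonempty (Sylow p G) := inferInstance
    -- P is abelian
    have hPab : ∀ a ∈ (P : Subgroup G), ∀ b ∈ (P : Subgroup G), a * b = b * a := by
      by_cases hPtop : (P : Subgroup G) = ⊤
      · -- G is a p-group
        have hGp : IsPGroup p G := by
          have := P.2
          rw [hPtop] at this
          exact this.of_equiv Subgroup.topEquiv
        have hnil : Group.IsNilpotent G := hGp.isNilpotent
        let α := {A : Subgroup G // A.Normal ∧ ∀ a ∈ A, ∀ b ∈ A, a * b = b * a}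
        have : Nonempty α := ⟨⟨⊥, Subgroup.normal_bot, by
          intro a ha b hb
          rw [Subgroup.mem_bot.mp ha, Subgroup.mem_bot.mp hb]⟩⟩
        obtain ⟨⟨A, hAn, hAc⟩, hmax⟩ := Finite.exists_max (fun A : α => Nat.card (A.1 : Subgroup G))
        have hAcomm : IsMulCommutative A := ⟨⟨fun a b => Subtype.ext (hAc a a.2 b b.2)⟩⟩
        have hcent := centralizer_eq_of_maximal_abelian_normal A (by
          intro M hMn hMc hAM
          have hMc' : ∀ a ∈ M, ∀ b ∈ M, a * b = b * a := fun a ha b hb =>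
            congrArg Subtype.val (hMc.is_comm.comm ⟨a, ha⟩ ⟨b, hb⟩)
          have := hmax ⟨M, hMn, hMc'⟩
          simp only at this
          exact (Subgroup.eq_of_le_of_card_ge hAM this).symm)
        have h2 := h A hAc
        rw [hcent, Subgroup.normalizer_eq_top_iff.mpr hAn] at h2
        intro a _ b _
        exact hAc a (h2 ▸ Subgroup.mem_top a) b (h2 ▸ Subgroup.mem_top b)
      · have hlt : Nat.card (P : Subgroup G) < n := hn ▸ card_lt_of_ne_top _ hPtop
        have := ih _ hlt (P : Subgroup G) rfl (hsub _)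
        intro a ha b hb
        exact congrArg Subtype.val (this ⟨a, ha⟩ ⟨b, hb⟩)
    have hNC : Subgroup.normalizer ((P : Subgroup G) : Set G) ≤
        Subgroup.centralizer ((P : Subgroup G) : Set G) := (h _ hPab).le
    have hc := MonoidHom.ker_transferSylow_isComplement' P hNC
    set K := (MonoidHom.transferSylow P hNC).ker with hK
    have hKn : K.Normal := MonoidHom.normal_ker _
    have hPcard : 1 < Nat.card (P : Subgroup G) := by
      rw [P.card_eq_multiplicity]
      apply Nat.one_lt_pow _ hp.one_lt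
      have : 0 < (Nat.card G).factorization p :=
        hp.factorization_pos_of_dvd Nat.card_pos.ne' hpd
      omega
    have hKlt : Nat.card K < n := by
      have h1 := hc.card_mul_card
      have hKpos : 0 < Nat.card K := Nat.card_pos
      rw [← hn, ← h1]
      nlinarith
    have hKab' := ih _ hKlt K rfl (hsub K)
    have hKab : ∀ a ∈ K, ∀ b ∈ K, a * b = b * a := fun a ha b hb =>
      congrArg Subtype.val (hKab' ⟨a, ha⟩ ⟨b, hb⟩)
    have hKcent : Subgroup.centralizer (K : Set G) = ⊤ := by
      rw [← h K hKab]; exact Subgroup.normalizer_eq_top_iff.mpr hKn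
    have hKc : ∀ k ∈ K, ∀ g : G, g * k = k * g := by
      intro k hk g
      have : g ∈ Subgroup.centralizer (K : Set G) := by rw [hKcent]; trivial
      exact (Subgroup.mem_centralizer_iff.mp this k hk).symm
    intro a b
    obtain ⟨k₁, hk₁, x₁, hx₁, rfl⟩ := isComplement'_mul_eq hc a
    obtain ⟨k₂, hk₂, x₂, hx₂, rfl⟩ := isComplement'_mul_eq hc b
    have e1 := hKc k₂ hk₂ x₁
    have e2 := hKc k₁ hk₁ x₂
    have e3 := hKab k₁ hk₁ k₂ hk₂
    have e4 := hPab x₁ hx₁ x₂ hx₂
    calc k₁ * x₁ * (k₂ * x₂) = k₁ * (x₁ * k₂) * x₂ := by group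
      _ = k₁ * (k₂ * x₁) * x₂ := by rw [e1]
      _ = (k₁ * k₂) * (x₁ * x₂) := by group
      _ = (k₂ * k₁) * (x₂ * x₁) := by rw [e3, e4]
      _ = k₂ * (k₁ * x₂) * x₁ := by group
      _ = k₂ * (x₂ * k₁) * x₁ := by rw [e2]
      _ = k₂ * x₂ * (k₁ * x₁) := by group

end Cfsg.Agent.Lib.Helper1
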