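import Mathlib
set_option autoImplicit false
open Pointwise

namespace Cfsg.Agent.Lib.Helper1

universe u

variable {G : Type u} [Group G]

/-- If the normalizer of an abelian Sylow `p`-subgroup `P` does not centralize it, then some prime
`q ≠ p` dividing `|G|` and some proper subgroup `F` of `P` satisfy `|P| ≡ |F| mod q`. -/
theorem exists_prime_modEq_of_not_normalizer_le_centralizer [Finite G] {p : ℕ} [hp : Fact p.Prime]
    (P : Sylow p G)
    (hc : IsMulCommutative (P : Subgroup G))
    (h : ¬ Subgroup.normalizer (P : Set G) ≤ Subgroup.centralizer (P : Set G)) :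
    ∃ q : ℕ, q.Prime ∧ q ≠ p ∧ q ∣ Nat.card G ∧ ∃ F : Subgroup (P : Subgroup G), F ≠ ⊤ ∧
      Nat.card (P : Subgroup G) ≡ Nat.card F [MOD q] := by
  classical
  let f := (P : Subgroup G).normalizerMonoidHom
  have hker : f.ker = (Subgroup.centralizer ((P : Subgroup G) : Set G)).subgroupOf
      (Subgroup.normalizer ((P : Subgroup G) : Set G)) := Subgroup.normalizerMonoidHom_ker _
  have hR : f.range ≠ ⊥ := by
    intro hbot
    apply h
    have : f.ker = ⊤ := by
      rw [eq_top_iff]
      intro x _
      rw [MonoidHom.mem_ker]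
      have : f x ∈ f.range := ⟨x, rfl⟩
      rw [hbot, Subgroup.mem_bot] at this
      exact this
    rw [hker, Subgroup.subgroupOf_eq_top] at this
    exact this
  have hcardR : Nat.card f.range ≠ 1 := fun h1 => hR (Subgroup.card_eq_one.mp h1)
  obtain ⟨q, hq, hqdvd⟩ := Nat.exists_prime_and_dvd hcardR
  have := Fact.mk hq
  -- |range| * |ker| = |N|
  have h1 : Nat.card f.range * Nat.card f.ker = Nat.card (Subgroup.normalizer ((P : Subgroup G) : Set G)) := by
    rw [← Subgroup.index_ker, mul_comm]
    exact Subgroup.card_mul_index f.ker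
  have hPle : (P : Subgroup G) ≤ Subgroup.centralizer ((P : Subgroup G) : Set G) := by
    intro x hx
    rw [Subgroup.mem_centralizer_iff]
    intro y hy
    exact congrArg Subtype.val (hc.is_comm.comm ⟨y, hy⟩ ⟨x, hx⟩)
  have h2 : Nat.card (P : Subgroup G) ∣ Nat.card f.ker := by
    have hle : (P : Subgroup G).subgroupOf (Subgroup.normalizer ((P : Subgroup G) : Set G)) ≤ f.ker := by
      rw [hker]
      exact Subgroup.subgroupOf_mono _ hPle
    have := Subgroup.card_dvd_of_le hle
    rwa [Nat.card_congr (Subgroup.subgroupOfEquivOfLe Subgroup.le_normalizer).toEquiv] at this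
  have h3 : Nat.card f.range * Nat.card (P : Subgroup G) ∣ Nat.card G := by
    refine dvd_trans ?_ (Subgroup.card_subgroup_dvd_card (Subgroup.normalizer ((P : Subgroup G) : Set G)))
    rw [← h1]
    exact Nat.mul_dvd_mul_left _ h2
  have h4 : Nat.card f.range ∣ (P : Subgroup G).index := by
    rw [← (P : Subgroup G).card_mul_index, mul_comm] at h3
    exact Nat.dvd_of_mul_dvd_mul_left Nat.card_pos h3
  have hqp : q ≠ p := by
    rintro rfl
    exact P.not_dvd_index (hqdvd.trans h4)
  have hqG : q ∣ Nat.card G := hqdvd.trans (h4.trans (Subgroup.index_dvd_card _))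
  obtain ⟨α, hα⟩ := exists_prime_orderOf_dvd_card' q hqdvd
  rw [← Subgroup.orderOf_coe] at hα
  set a : MulAut (P : Subgroup G) := (α : MulAut (P : Subgroup G)) with hadef
  have hZ : IsPGroup q (Subgroup.zpowers a) := by
    rw [IsPGroup.iff_card]
    exact ⟨1, by rw [Nat.card_zpowers, hα, pow_one]⟩
  have hmod := hZ.card_modEq_card_fixedPoints (P : Subgroup G)
  let F : Subgroup (P : Subgroup G) := (a.toMonoidHom).eqLocus (MonoidHom.id _)
  have hFix : (MulAction.fixedPoints (Subgroup.zpowers a) (P : Subgroup G)) = (F : Set (P : Subgroup G)) := by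
    ext x
    simp only [MulAction.mem_fixedPoints, SetLike.mem_coe]
    constructor
    · intro hx
      exact hx ⟨a, Subgroup.mem_zpowers a⟩
    · intro hx g
      obtain ⟨g, hg⟩ := g
      obtain ⟨k, rfl⟩ := Subgroup.mem_zpowers_iff.mp hg
      have hx' : a x = x := hx
      show (a ^ k) x = x
      have : ∀ n : ℕ, (a ^ n) x = x := by
        intro n
        induction n with
        | zero => simp
        | succ n ih => rw [pow_succ, MulAut.mul_apply, hx', ih]
      rcases Int.eq_nat_or_neg k with ⟨n, rfl | rfl⟩
      · rw [zpow_natCast]; exact this n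
      · rw [zpow_neg, zpow_natCast]
        have h5 := this n
        rw [MulAut.inv_apply, MulEquiv.symm_apply_eq]
        exact h5.symm
  refine ⟨q, hq, hqp, hqG, F, ?_, ?_⟩
  · intro htop
    have : a = 1 := by
      ext x
      have : x ∈ F := by rw [htop]; trivial
      exact congrArg Subtype.val this
    rw [this, orderOf_one] at hα
    exact hq.one_lt.ne hα
  · rw [hFix] at hmod
    exact hmod

end Cfsg.Agent.Lib.Helper1
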