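import Mathlib

set_option autoImplicit false
set_option linter.unusedSectionVars false
set_option linter.unusedVariables false
set_option linter.unusedSimpArgs false
set_option linter.style.haveILetI false

/-!
Farm OMM (statement S2346): a GENERIC Fourier / idempotent layer.

`FData G A I`: an abelian subgroup `a ↦ u a` of a group `G`, parametrised by a finite additive group
`A`, together with a complete orthogonal family `lam : I → AddChar A ℂ` of characters of `A`.
For a representation `ρ` of `G` on `V` we get the isotypic idempotents `eI D ρ i`, their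
multiplicities `mult D χ i`, the Fourier expansion of the character on `u a`, the behaviour under
conjugation by the normaliser, and the fixed point formula for the components of rank one.
(Generalisation of helper2's `OMPP1` / `OMPS1` of the farm OMP.)
-/

namespace Cfsg.Agent.Lib.Helper1.OMMG

/-- an abelian subgroup `u : A → G` together with a complete orthogonal family of characters -/
structure FData (G A I : Type*) [Group G] [AddCommGroup A] [Fintype A] [Fintype I]
    [DecidableEq I] where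
  /-- the parametrisation of the abelian subgroup -/
  u : A → G
  u_add : ∀ a b, u (a + b) = u a * u b
  /-- the characters -/
  lam : I → AddChar A ℂ
  orth_ne : ∀ i j, i ≠ j → ∑ a, lam i a * lam j (-a) = 0
  comp_ne : ∀ a, a ≠ 0 → ∑ i, lam i a = 0
  card_eq : Fintype.card I = Fintype.card A

variable {G : Type*} [Group G]
variable {A : Type*} [AddCommGroup A] [Fintype A]
variable {I : Type*} [Fintype I] [DecidableEq I]
variable {V : Type*} [AddCommGroup V] [Module ℂ V]

theorem cardA_ne_zero : (Fintype.card A : ℂ) ≠ 0 := by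
  exact_mod_cast Fintype.card_ne_zero

namespace FData

variable (D : FData G A I)

theorem u_zero : D.u 0 = 1 := by
  have h := D.u_add 0 0
  rw [add_zero] at h
  exact (mul_eq_left (a := D.u 0) (b := D.u 0)).mp h.symm

theorem lam_neg_mul (i : I) (a : A) : D.lam i (-a) * D.lam i a = 1 := by
  rw [← AddChar.map_add_eq_mul, neg_add_cancel, AddChar.map_zero_eq_one]

theorem orth_self (i : I) : ∑ a, D.lam i a * D.lam i (-a) = (Fintype.card A : ℂ) := by
  rw [Finset.sum_congr rfl (fun a _ => (mul_comm _ _).trans (D.lam_neg_mul i a)), Finset.sum_const,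
    Finset.card_univ, nsmul_eq_mul, mul_one]

theorem comp_zero : ∑ i, D.lam i 0 = (Fintype.card A : ℂ) := by
  rw [Finset.sum_congr rfl (fun i _ => AddChar.map_zero_eq_one (D.lam i)), Finset.sum_const,
    Finset.card_univ, nsmul_eq_mul, mul_one, D.card_eq]

/-- the isotypic idempotent of the character `lam i` -/
noncomputable def eI (ρ : Representation ℂ G V) (i : I) : Module.End ℂ V :=
  (Fintype.card A : ℂ)⁻¹ • ∑ a : A, D.lam i (-a) • ρ (D.u a)

/-- the multiplicity of the character `lam i` in a function `χ` on `G` -/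
noncomputable def mult (χ : G → ℂ) (i : I) : ℂ :=
  (Fintype.card A : ℂ)⁻¹ * ∑ a : A, D.lam i (-a) * χ (D.u a)

theorem rho_u_mul_sum (ρ : Representation ℂ G V) (i : I) (a₀ : A) :
    ρ (D.u a₀) * ∑ a : A, D.lam i (-a) • ρ (D.u a) =
      D.lam i a₀ • ∑ a : A, D.lam i (-a) • ρ (D.u a) := by
  calc ρ (D.u a₀) * ∑ a : A, D.lam i (-a) • ρ (D.u a)
      = ∑ a : A, (D.lam i a₀ * D.lam i (-(a₀ + a))) • ρ (D.u (a₀ + a)) := by
        rw [Finset.mul_sum]
        refine Finset.sum_congr rfl fun a _ => ?_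
        rw [mul_smul_comm, ← map_mul, ← D.u_add, ← AddChar.map_add_eq_mul]
        congr 2
        abel
    _ = ∑ b : A, (D.lam i a₀ * D.lam i (-b)) • ρ (D.u b) :=
        Equiv.sum_comp (Equiv.addLeft a₀) (fun b => (D.lam i a₀ * D.lam i (-b)) • ρ (D.u b))
    _ = D.lam i a₀ • ∑ b : A, D.lam i (-b) • ρ (D.u b) := by
        rw [Finset.smul_sum]
        refine Finset.sum_congr rfl fun b _ => ?_
        rw [mul_smul]

theorem rho_u_mul_eI (ρ : Representation ℂ G V) (i : I) (a₀ : A) :
    ρ (D.u a₀) * D.eI ρ i = D.lam i a₀ • D.eI ρ i := by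
  unfold eI
  rw [mul_smul_comm, rho_u_mul_sum, smul_comm]

theorem eI_mul_eI (ρ : Representation ℂ G V) (i j : I) :
    D.eI ρ i * D.eI ρ j = if i = j then D.eI ρ j else 0 := by
  have h1 : D.eI ρ i * D.eI ρ j =
      ((Fintype.card A : ℂ)⁻¹ * ∑ a : A, D.lam j a * D.lam i (-a)) • D.eI ρ j := by
    have h0 : D.eI ρ i = (Fintype.card A : ℂ)⁻¹ • ∑ a : A, D.lam i (-a) • ρ (D.u a) := rfl
    rw [h0, smul_mul_assoc, Finset.sum_mul, mul_smul, Finset.sum_smul]
    congr 1
    refine Finset.sum_congr rfl fun a _ => ?_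
    rw [smul_mul_assoc, rho_u_mul_eI, smul_smul, mul_comm]
  rw [h1]
  by_cases hij : i = j
  · subst hij
    rw [if_pos rfl, D.orth_self, inv_mul_cancel₀ cardA_ne_zero, one_smul]
  · rw [if_neg hij, D.orth_ne j i (fun h => hij h.symm), mul_zero, zero_smul]

theorem eI_idem (ρ : Representation ℂ G V) (i : I) : IsIdempotentElem (D.eI ρ i) := by
  unfold IsIdempotentElem
  rw [eI_mul_eI, if_pos rfl]

theorem sum_eI (ρ : Representation ℂ G V) : ∑ i : I, D.eI ρ i = 1 := by
  unfold eI
  rw [← Finset.smul_sum, Finset.sum_comm]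
  have h : ∀ a : A, ∑ i : I, D.lam i (-a) • ρ (D.u a) = (∑ i : I, D.lam i (-a)) • ρ (D.u a) := by
    intro a
    rw [Finset.sum_smul]
  rw [Finset.sum_congr rfl (fun a _ => h a),
    Finset.sum_eq_single_of_mem (0 : A) (Finset.mem_univ _)]
  · rw [neg_zero, D.comp_zero, D.u_zero, map_one, smul_smul, inv_mul_cancel₀ cardA_ne_zero,
      one_smul]
  · intro a _ ha
    rw [D.comp_ne (-a) (neg_ne_zero.mpr ha), zero_smul]

theorem trace_eI (ρ : Representation ℂ G V) (i : I) :
    LinearMap.trace ℂ V (D.eI ρ i) = D.mult ρ.character i := by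
  unfold eI mult
  rw [map_smul, map_sum, smul_eq_mul]
  congr 1
  refine Finset.sum_congr rfl fun a _ => ?_
  rw [map_smul, smul_eq_mul]
  rfl

theorem trace_rho_mul_eI (ρ : Representation ℂ G V) (g : G) (i : I) :
    LinearMap.trace ℂ V (ρ g * D.eI ρ i) =
      (Fintype.card A : ℂ)⁻¹ * ∑ a : A, D.lam i (-a) * ρ.character (g * D.u a) := by
  unfold eI
  rw [mul_smul_comm, map_smul, Finset.mul_sum, map_sum, smul_eq_mul]
  congr 1
  refine Finset.sum_congr rfl fun a _ => ?_
  rw [mul_smul_comm, map_smul, smul_eq_mul, ← map_mul]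
  rfl

theorem character_eq_sum_eI (ρ : Representation ℂ G V) (g : G) :
    ρ.character g = ∑ i : I, LinearMap.trace ℂ V (ρ g * D.eI ρ i) := by
  rw [← map_sum, ← Finset.mul_sum, D.sum_eI, mul_one]
  rfl

theorem trace_rho_u_mul_eI (ρ : Representation ℂ G V) (a : A) (i : I) :
    LinearMap.trace ℂ V (ρ (D.u a) * D.eI ρ i) = D.lam i a * D.mult ρ.character i := by
  rw [rho_u_mul_eI, map_smul, smul_eq_mul, trace_eI]

/-- Fourier expansion of the character on the abelian subgroup -/
theorem fourier (ρ : Representation ℂ G V) (a : A) :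
    ρ.character (D.u a) = ∑ i : I, D.lam i a * D.mult ρ.character i := by
  rw [D.character_eq_sum_eI ρ (D.u a)]
  exact Finset.sum_congr rfl fun i _ => D.trace_rho_u_mul_eI ρ a i

theorem sum_mult (ρ : Representation ℂ G V) :
    ∑ i : I, D.mult ρ.character i = ρ.character 1 := by
  have h := D.fourier ρ 0
  rw [D.u_zero] at h
  rw [h]
  refine Finset.sum_congr rfl fun i _ => ?_
  rw [AddChar.map_zero_eq_one, one_mul]

/-- conjugation of the idempotents by an element normalising the abelian subgroup -/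
theorem conj_eI (ρ : Representation ℂ G V) (y : G) (L : A → A)
    (hL : ∀ a, y * D.u a * y⁻¹ = D.u (L a)) (hbij : Function.Bijective L) (i j : I)
    (hp : ∀ a, D.lam j (L a) = D.lam i a) :
    ρ y * D.eI ρ i = D.eI ρ j * ρ y := by
  have hp' : ∀ a, D.lam j (-(L a)) = D.lam i (-a) := by
    intro a
    have h1 := D.lam_neg_mul j (L a)
    have h2 := D.lam_neg_mul i a
    rw [hp a] at h1
    have hne : D.lam i a ≠ 0 := by
      intro h0
      rw [h0, mul_zero] at h2
      exact zero_ne_one h2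
    exact mul_right_cancel₀ hne (h1.trans h2.symm)
  unfold eI
  rw [mul_smul_comm, smul_mul_assoc, Finset.mul_sum, Finset.sum_mul]
  congr 1
  calc ∑ a : A, ρ y * (D.lam i (-a) • ρ (D.u a))
      = ∑ a : A, D.lam j (-(L a)) • ρ (D.u (L a)) * ρ y := by
        refine Finset.sum_congr rfl fun a _ => ?_
        have e2 : ρ y * ρ (D.u a) = ρ (D.u (L a)) * ρ y := by
          rw [← map_mul, ← map_mul, ← hL]
          congr 1; group
        rw [mul_smul_comm, e2, hp' a, smul_mul_assoc]
    _ = ∑ a : A, D.lam j (-a) • ρ (D.u a) * ρ y :=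
        Equiv.sum_comp (Equiv.ofBijective L hbij) (fun a => D.lam j (-a) • ρ (D.u a) * ρ y)

theorem bijective_of_conj (hinj : Function.Injective D.u) (y : G) (L : A → A)
    (hL : ∀ a, y * D.u a * y⁻¹ = D.u (L a)) : Function.Bijective L := by
  have hLinj : Function.Injective L := by
    intro a a' h
    apply hinj
    have h1 : y * D.u a * y⁻¹ = y * D.u a' * y⁻¹ := by rw [hL, hL, h]
    exact mul_left_cancel (mul_right_cancel h1)
  exact Finite.injective_iff_bijective.mp hLinj

/-- the multiplicities are constant on the orbits of the normaliser -/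
theorem mult_conj (ρ : Representation ℂ G V) (y : G) (L : A → A)
    (hL : ∀ a, y * D.u a * y⁻¹ = D.u (L a)) (hbij : Function.Bijective L) (i j : I)
    (hp : ∀ a, D.lam j (L a) = D.lam i a) :
    D.mult ρ.character i = D.mult ρ.character j := by
  rw [← trace_eI, ← trace_eI]
  have h := D.conj_eI ρ y L hL hbij i j hp
  have h1 : D.eI ρ i = ρ y⁻¹ * (D.eI ρ j * ρ y) := by
    rw [← h, ← mul_assoc, ← map_mul, inv_mul_cancel, map_one, one_mul]
  rw [h1, LinearMap.trace_mul_comm, mul_assoc, ← map_mul, mul_inv_cancel, map_one, mul_one]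

/-- the components moved by `y` do not contribute to the character at `y` -/
theorem trace_mul_eI_of_ne (ρ : Representation ℂ G V) (y : G) (i j : I) (hij : i ≠ j)
    (h : ρ y * D.eI ρ i = D.eI ρ j * ρ y) :
    LinearMap.trace ℂ V (ρ y * D.eI ρ i) = 0 := by
  have he := D.eI_idem ρ i
  have h1 : ρ y * D.eI ρ i = (ρ y * D.eI ρ i) * D.eI ρ i := by
    rw [mul_assoc, he.eq]
  rw [h1, LinearMap.trace_mul_comm, h, ← mul_assoc, eI_mul_eI, if_neg hij, zero_mul, map_zero]

variable [FiniteDimensional ℂ V]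

theorem trace_eI_nat (ρ : Representation ℂ G V) (i : I) :
    ∃ r : ℕ, LinearMap.trace ℂ V (D.eI ρ i) = r := by
  have he := D.eI_idem ρ i
  have hproj := LinearMap.IsIdempotentElem.isProj_range (D.eI ρ i) he
  exact ⟨_, hproj.trace⟩

theorem mult_nat (ρ : Representation ℂ G V) (i : I) :
    ∃ r : ℕ, D.mult ρ.character i = r := by
  rw [← trace_eI]
  exact D.trace_eI_nat ρ i

/-- an idempotent of trace zero vanishes -/
theorem eI_eq_zero (ρ : Representation ℂ G V) (i : I) (h0 : D.mult ρ.character i = 0) :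
    D.eI ρ i = 0 := by
  have he := D.eI_idem ρ i
  have hproj := LinearMap.IsIdempotentElem.isProj_range (D.eI ρ i) he
  have htr := hproj.trace
  rw [trace_eI, h0] at htr
  have hfr : Module.finrank ℂ (LinearMap.range (D.eI ρ i)) = 0 := by
    exact_mod_cast htr.symm
  have hbot : LinearMap.range (D.eI ρ i) = ⊥ := Submodule.finrank_eq_zero.mp hfr
  exact LinearMap.range_eq_bot.mp hbot

/-- an idempotent of trace one has a one-dimensional range -/
theorem eI_rank_one (ρ : Representation ℂ G V) (i : I) (h1 : D.mult ρ.character i = 1) :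
    ∃ x₀ : V, x₀ ≠ 0 ∧ D.eI ρ i x₀ = x₀ ∧ ∀ z, ∃ a : ℂ, D.eI ρ i z = a • x₀ := by
  have he := D.eI_idem ρ i
  have hproj := LinearMap.IsIdempotentElem.isProj_range (D.eI ρ i) he
  have htr := hproj.trace
  rw [trace_eI, h1] at htr
  have hfr : Module.finrank ℂ (LinearMap.range (D.eI ρ i)) = 1 := by
    exact_mod_cast htr.symm
  obtain ⟨v, hv0, hv⟩ := finrank_eq_one_iff'.mp hfr
  refine ⟨v.1, ?_, ?_, ?_⟩
  · intro h
    apply hv0
    exact Subtype.ext h
  · exact hproj.map_id v.1 v.2
  · intro z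
    obtain ⟨a, ha⟩ := hv ⟨D.eI ρ i z, LinearMap.mem_range_self _ z⟩
    refine ⟨a, ?_⟩
    have := congrArg Subtype.val ha
    simpa using this.symm

/-- commutators of a subgroup commuting with a rank one idempotent act trivially on its range -/
theorem comm_fix (ρ : Representation ℂ G V) (i : I) (h1 : D.mult ρ.character i = 1)
    (S : Subgroup G) (hS : ∀ g ∈ S, ρ g * D.eI ρ i = D.eI ρ i * ρ g)
    (y : G) (hy : y ∈ ⁅S, S⁆) :
    ρ y * D.eI ρ i = D.eI ρ i := by
  obtain ⟨x₀, hx0, hfix, hspan⟩ := D.eI_rank_one ρ i h1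
  have hsc : ∀ g ∈ S, ∃ μ : ℂ, ρ g x₀ = μ • x₀ := by
    intro g hg
    obtain ⟨a, ha⟩ := hspan (ρ g x₀)
    refine ⟨a, ?_⟩
    have h2 : (ρ g * D.eI ρ i) x₀ = (D.eI ρ i * ρ g) x₀ := by rw [hS g hg]
    rw [Module.End.mul_apply, Module.End.mul_apply, hfix] at h2
    rw [h2, ha]
  let Sx : Subgroup G :=
    { carrier := {g | ρ g x₀ = x₀}
      one_mem' := by show ρ 1 x₀ = x₀; rw [map_one]; rfl
      mul_mem' := by
        intro a b ha hb
        show ρ (a * b) x₀ = x₀
        rw [map_mul, Module.End.mul_apply, hb, ha]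
      inv_mem' := by
        intro a ha
        show ρ a⁻¹ x₀ = x₀
        have h3 : ρ a⁻¹ (ρ a x₀) = x₀ := by
          rw [← Module.End.mul_apply, ← map_mul, inv_mul_cancel, map_one]; rfl
        rw [ha] at h3
        exact h3 }
  have hle : ⁅S, S⁆ ≤ Sx := by
    rw [Subgroup.commutator_le]
    intro g₁ hg₁ g₂ hg₂
    obtain ⟨μ₁, hμ₁⟩ := hsc g₁ hg₁
    obtain ⟨μ₂, hμ₂⟩ := hsc g₂ hg₂
    obtain ⟨ν₁, hν₁⟩ := hsc g₁⁻¹ (inv_mem hg₁)
    obtain ⟨ν₂, hν₂⟩ := hsc g₂⁻¹ (inv_mem hg₂)
    have e1 : μ₁ * ν₁ = 1 := by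
      have h3 : ρ g₁ (ρ g₁⁻¹ x₀) = x₀ := by
        rw [← Module.End.mul_apply, ← map_mul, mul_inv_cancel, map_one]; rfl
      rw [hν₁, map_smul, hμ₁, smul_smul] at h3
      have h4 : (ν₁ * μ₁ - 1) • x₀ = 0 := by rw [sub_smul, h3, one_smul, sub_self]
      rcases smul_eq_zero.mp h4 with h5 | h5
      · rw [mul_comm]; exact sub_eq_zero.mp h5
      · exact absurd h5 hx0
    have e2 : μ₂ * ν₂ = 1 := by
      have h3 : ρ g₂ (ρ g₂⁻¹ x₀) = x₀ := by
        rw [← Module.End.mul_apply, ← map_mul, mul_inv_cancel, map_one]; rfl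
      rw [hν₂, map_smul, hμ₂, smul_smul] at h3
      have h4 : (ν₂ * μ₂ - 1) • x₀ = 0 := by rw [sub_smul, h3, one_smul, sub_self]
      rcases smul_eq_zero.mp h4 with h5 | h5
      · rw [mul_comm]; exact sub_eq_zero.mp h5
      · exact absurd h5 hx0
    show ρ (g₁ * g₂ * g₁⁻¹ * g₂⁻¹) x₀ = x₀
    simp only [map_mul, Module.End.mul_apply, hν₂, map_smul, hν₁, hμ₂, hμ₁, smul_smul]
    convert one_smul ℂ x₀ using 2
    linear_combination (μ₂ * ν₂) * e1 + e2
  have hyS : ρ y x₀ = x₀ := hle hy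
  apply LinearMap.ext
  intro z
  obtain ⟨a, ha⟩ := hspan z
  rw [Module.End.mul_apply, ha, map_smul, hyS]

/-- the trace of a commutator of the stabiliser on a component of rank one is `1` -/
theorem trace_comm_fix (ρ : Representation ℂ G V) (i : I) (h1 : D.mult ρ.character i = 1)
    (S : Subgroup G) (hS : ∀ g ∈ S, ρ g * D.eI ρ i = D.eI ρ i * ρ g)
    (y : G) (hy : y ∈ ⁅S, S⁆) :
    LinearMap.trace ℂ V (ρ y * D.eI ρ i) = 1 := by
  rw [D.comm_fix ρ i h1 S hS y hy, trace_eI, h1]

/-- **Fixed point formula.** Let `y` normalise the abelian subgroup, permuting the characters by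
`π`. Suppose that every character `i ≠ i₀` fixed by `y` has multiplicity `0`, or multiplicity `1` with
`y` a commutator of a subgroup commuting with `eI i`. Then
`χ(y) = tr(ρ y ∘ eI i₀) + #{i ≠ i₀ fixed by y with multiplicity 1}`. -/
theorem fixed_point_formula (ρ : Representation ℂ G V) (y : G) (L : A → A)
    (hL : ∀ a, y * D.u a * y⁻¹ = D.u (L a)) (hbij : Function.Bijective L) (π : I → I)
    (hp : ∀ i a, D.lam (π i) (L a) = D.lam i a) (i₀ : I) (P : I → Prop) [DecidablePred P]
    (h0 : ∀ i, i ≠ i₀ → π i = i → ¬ P i → D.mult ρ.character i = 0)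
    (h1 : ∀ i, i ≠ i₀ → π i = i → P i → D.mult ρ.character i = 1 ∧
      ∃ S : Subgroup G, (∀ g ∈ S, ρ g * D.eI ρ i = D.eI ρ i * ρ g) ∧ y ∈ ⁅S, S⁆) :
    ρ.character y = LinearMap.trace ℂ V (ρ y * D.eI ρ i₀) +
      ((Finset.univ.filter fun i => i ≠ i₀ ∧ π i = i ∧ P i).card : ℂ) := by
  rw [D.character_eq_sum_eI ρ y, ← Finset.add_sum_erase _ _ (Finset.mem_univ i₀)]
  congr 1
  have hterm : ∀ i ∈ Finset.univ.erase i₀, LinearMap.trace ℂ V (ρ y * D.eI ρ i) =
      if (i ≠ i₀ ∧ π i = i ∧ P i) then 1 else 0 := by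
    intro i hi
    have hi0 : i ≠ i₀ := Finset.ne_of_mem_erase hi
    by_cases hfix : π i = i
    · by_cases hP : P i
      · rw [if_pos ⟨hi0, hfix, hP⟩]
        obtain ⟨hm, S, hS, hyS⟩ := h1 i hi0 hfix hP
        exact D.trace_comm_fix ρ i hm S hS y hyS
      · rw [if_neg (fun h => hP h.2.2), D.eI_eq_zero ρ i (h0 i hi0 hfix hP), mul_zero, map_zero]
    · rw [if_neg (fun h => hfix h.2.1)]
      exact D.trace_mul_eI_of_ne ρ y i (π i) (fun h => hfix h.symm)
        (D.conj_eI ρ y L hL hbij i (π i) (hp i))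
  rw [Finset.sum_congr rfl hterm, Finset.sum_ite, Finset.sum_const_zero, add_zero,
    Finset.sum_const, nsmul_eq_mul, mul_one]
  congr 2
  ext i
  simp only [Finset.mem_filter, Finset.mem_erase, Finset.mem_univ, and_true, true_and]
  constructor
  · rintro ⟨_, h⟩; exact h
  · intro h; exact ⟨h.1, h⟩

/-- the multiplicities as natural numbers; they add up to the degree -/
theorem exists_nat_mult (ρ : Representation ℂ G V) :
    ∃ r : I → ℕ, (∀ i, D.mult ρ.character i = r i) ∧ ∑ i, r i = Module.finrank ℂ V := by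
  choose r hr using fun i => D.mult_nat ρ i
  refine ⟨r, hr, ?_⟩
  have h := D.sum_mult ρ
  rw [Representation.char_one, Finset.sum_congr rfl (fun i _ => hr i)] at h
  exact_mod_cast h

/-- if only the trivial character `lam i₀` occurs, the abelian subgroup acts trivially -/
theorem rho_u_eq_one (ρ : Representation ℂ G V) (i₀ : I) (htriv : ∀ a, D.lam i₀ a = 1)
    (h0 : ∀ i, i ≠ i₀ → D.mult ρ.character i = 0) (a : A) : ρ (D.u a) = 1 := by
  have h1 : D.eI ρ i₀ = 1 := by
    rw [← D.sum_eI ρ, Finset.sum_eq_single_of_mem i₀ (Finset.mem_univ _)]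
    intro i _ hi
    exact D.eI_eq_zero ρ i (h0 i hi)
  have h2 := D.rho_u_mul_eI ρ i₀ a
  rw [h1, mul_one, htriv a, one_smul] at h2
  exact h2

/-- the partial trace at the trivial character is the average over the abelian subgroup -/
theorem trace_rho_mul_eI_triv (ρ : Representation ℂ G V) (i₀ : I) (htriv : ∀ a, D.lam i₀ a = 1)
    (g : G) :
    LinearMap.trace ℂ V (ρ g * D.eI ρ i₀) =
      (Fintype.card A : ℂ)⁻¹ * ∑ a : A, ρ.character (g * D.u a) := by
  rw [trace_rho_mul_eI]
  congr 1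
  refine Finset.sum_congr rfl fun a _ => ?_
  rw [htriv (-a), one_mul]

end FData

end Cfsg.Agent.Lib.Helper1.OMMG

namespace Cfsg.Agent.Lib.Helper1.OMMG

/-! ### Construction of the data from a non-degenerate pairing over a finite field -/

section pairing

variable {F : Type*} [Field F] [Fintype F]
variable {W : Type*} [AddCommGroup W] [Module F W] [Fintype W]

/-- the sum of a non-trivial additive character of `F` over a non-zero additive, homogeneous map
vanishes -/
theorem sum_psi_eq_zero (ψ : AddChar F ℂ) (hψ : ∃ c, ψ c ≠ 1) (φ : W → F)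
    (hadd : ∀ a b, φ (a + b) = φ a + φ b) (hsmul : ∀ (c : F) a, φ (c • a) = c * φ a)
    (hne : ∃ x, φ x ≠ 0) : ∑ w : W, ψ (φ w) = 0 := by
  obtain ⟨c, hc⟩ := hψ
  obtain ⟨x₀, hx₀⟩ := hne
  set z : W := (c / φ x₀) • x₀ with hz
  have hφz : φ z = c := by rw [hz, hsmul, div_mul_cancel₀ c hx₀]
  have h1 : ∑ w : W, ψ (φ w) = ψ c * ∑ w : W, ψ (φ w) := by
    calc ∑ w : W, ψ (φ w) = ∑ w : W, ψ (φ (w + z)) :=
          (Equiv.sum_comp (Equiv.addRight z) (fun w => ψ (φ w))).symm
      _ = ψ c * ∑ w : W, ψ (φ w) := by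
          rw [Finset.mul_sum]
          refine Finset.sum_congr rfl fun w _ => ?_
          rw [hadd, hφz, AddChar.map_add_eq_mul, mul_comm]
  have h2 : (1 - ψ c) * ∑ w : W, ψ (φ w) = 0 := by
    rw [sub_mul, one_mul, ← h1, sub_self]
  rcases mul_eq_zero.mp h2 with h3 | h3
  · exact absurd (sub_eq_zero.mp h3).symm hc
  · exact h3

variable {G : Type*} [Group G] [DecidableEq W]

/-- the data attached to a non-degenerate pairing `B` on `W` and a non-trivial character `ψ` of `F`:
the characters of `W` are `lam w = ψ (B w ·)` -/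
noncomputable def FData.ofPairing (ψ : AddChar F ℂ) (hψ : ∃ c, ψ c ≠ 1) (u : W → G)
    (u_add : ∀ a b, u (a + b) = u a * u b) (B : W → W → F)
    (hr_add : ∀ w a b, B w (a + b) = B w a + B w b)
    (hr_smul : ∀ w (c : F) a, B w (c • a) = c * B w a)
    (hl_add : ∀ w w' a, B (w + w') a = B w a + B w' a)
    (hl_smul : ∀ (c : F) w a, B (c • w) a = c * B w a)
    (nd_l : ∀ w, w ≠ 0 → ∃ a, B w a ≠ 0) (nd_r : ∀ a, a ≠ 0 → ∃ w, B w a ≠ 0) :
    FData G W W where
  u := u
  u_add := u_add
  lam w := ψ.compAddMonoidHom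
    { toFun := fun a => B w a
      map_zero' := by
        have h := hr_add w 0 0
        rw [add_zero] at h
        exact left_eq_add.mp h
      map_add' := hr_add w }
  orth_ne := by
    intro i j hij
    have hneg : ∀ a, B j (-a) = -B j a := by
      intro a
      have h := hr_smul j (-1) a
      rw [neg_one_smul, neg_one_mul] at h
      exact h
    have hsub : ∀ a, B (i - j) a = B i a - B j a := by
      intro a
      have h := hl_add (i - j) j a
      rw [sub_add_cancel] at h
      rw [h, add_sub_cancel_right]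
    have h1 := sum_psi_eq_zero ψ hψ (fun a => B (i - j) a) (hr_add _) (hr_smul _)
      (nd_l _ (sub_ne_zero.mpr hij))
    rw [← h1]
    refine Finset.sum_congr rfl fun a _ => ?_
    show ψ (B i a) * ψ (B j (-a)) = ψ (B (i - j) a)
    rw [hneg, hsub, sub_eq_add_neg, AddChar.map_add_eq_mul]
  comp_ne := by
    intro a ha
    exact sum_psi_eq_zero ψ hψ (fun w => B w a) (fun w w' => hl_add w w' a)
      (fun c w => hl_smul c w a) (nd_r a ha)
  card_eq := rfl

theorem FData.ofPairing_lam (ψ : AddChar F ℂ) (hψ : ∃ c, ψ c ≠ 1) (u : W → G)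
    (u_add : ∀ a b, u (a + b) = u a * u b) (B : W → W → F)
    (hr_add : ∀ w a b, B w (a + b) = B w a + B w b)
    (hr_smul : ∀ w (c : F) a, B w (c • a) = c * B w a)
    (hl_add : ∀ w w' a, B (w + w') a = B w a + B w' a)
    (hl_smul : ∀ (c : F) w a, B (c • w) a = c * B w a)
    (nd_l : ∀ w, w ≠ 0 → ∃ a, B w a ≠ 0) (nd_r : ∀ a, a ≠ 0 → ∃ w, B w a ≠ 0) (w a : W) :
    (FData.ofPairing ψ hψ u u_add B hr_add hr_smul hl_add hl_smul nd_l nd_r).lam w a =
      ψ (B w a) := rfl

theorem FData.ofPairing_u (ψ : AddChar F ℂ) (hψ : ∃ c, ψ c ≠ 1) (u : W → G)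
    (u_add : ∀ a b, u (a + b) = u a * u b) (B : W → W → F)
    (hr_add : ∀ w a b, B w (a + b) = B w a + B w b)
    (hr_smul : ∀ w (c : F) a, B w (c • a) = c * B w a)
    (hl_add : ∀ w w' a, B (w + w') a = B w a + B w' a)
    (hl_smul : ∀ (c : F) w a, B (c • w) a = c * B w a)
    (nd_l : ∀ w, w ≠ 0 → ∃ a, B w a ≠ 0) (nd_r : ∀ a, a ≠ 0 → ∃ w, B w a ≠ 0) (a : W) :
    (FData.ofPairing ψ hψ u u_add B hr_add hr_smul hl_add hl_smul nd_l nd_r).u a = u a := rfl

end pairing

end Cfsg.Agent.Lib.Helper1.OMMG
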