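import Mathlib
import Cfsg.Prelude
import Cfsg.Agent.Lib.Helper5.OmegaSimple
import Cfsg.Agent.Lib.Helper1.OMMGen

set_option autoImplicit false
set_option linter.unusedSectionVars false
set_option linter.unusedVariables false
set_option linter.unusedSimpArgs false
open Cfsg

/-!
Farm OMM (statement S2346): the Fourier data of the unipotent radical `U = {eich e (ext0 w)}` of the
stabiliser of the singular point `⟨e⟩` in `Ω(hypExt Qκ)`, and the action of that stabiliser on `U` and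
on the characters of `U`.
-/

namespace Cfsg.Agent.Lib.Helper1.OMMI

open Matrix QuadraticMap Cfsg.Agent.Lib.Helper5.CartanDieudonne Cfsg.Agent.Lib.Helper5.Refl
  Cfsg.Agent.Lib.Helper5.OrthCard Cfsg.Agent.Lib.Helper5.Siegel Cfsg.Agent.Lib.Helper5.QuadIsom
  Cfsg.Agent.Lib.Helper5.ReflGen Cfsg.Agent.Lib.Helper5.Eichler Cfsg.Agent.Lib.Helper5.SingGeom
  Cfsg.Agent.Lib.Helper5.OmegaGen Cfsg.Agent.Lib.Helper5.OmegaSimple Cfsg.Agent.Lib.Helper1.OMMG

variable {κ : Type} [Fintype κ] [DecidableEq κ] {F : Type*} [Field F] [Fintype F] [DecidableEq F]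
  (Qκ : QuadraticForm F (κ → F))

theorem polar_eH_ext0 (w : κ → F) : polar (hypExt Qκ) (eH F κ) (ext0 w) = 0 := by
  rw [polar_eH]
  rfl

theorem ext0_add (a b : κ → F) : (ext0 (a + b) : Fin 2 ⊕ κ → F) = ext0 a + ext0 b := by
  funext x
  rcases x with x | x <;> simp [ext0]

theorem ext0_smul (c : F) (a : κ → F) : (ext0 (c • a) : Fin 2 ⊕ κ → F) = c • ext0 a := by
  funext x
  rcases x with x | x <;> simp [ext0]

/-- the `κ`-part of a vector -/
def kp (v : Fin 2 ⊕ κ → F) : κ → F := fun k => v (Sum.inr k)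

theorem kp_ext0 (w : κ → F) : kp (ext0 w : Fin 2 ⊕ κ → F) = w := rfl

theorem kp_add (v v' : Fin 2 ⊕ κ → F) : kp (v + v') = kp v + kp v' := rfl

theorem kp_smul (c : F) (v : Fin 2 ⊕ κ → F) : kp (c • v) = c • kp v := rfl

/-- a vector orthogonal to `eH` is `ext0` of its `κ`-part plus a multiple of `eH` -/
theorem eq_ext0_add (v : Fin 2 ⊕ κ → F) (hv : polar (hypExt Qκ) (eH F κ) v = 0) :
    v = ext0 (kp v) + v (Sum.inl 0) • eH F κ := by
  rw [polar_eH] at hv
  funext x
  rcases x with x | x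
  · fin_cases x
    · simp [ext0, eH]
    · simp [ext0, eH, hv]
  · simp [ext0, eH, kp]

variable {Qκ}

/-- the elements of the unipotent radical -/
noncomputable def uE (H : Hyp (hypExt Qκ)) (w : κ → F) : ↥(Omega F ⇑(hypExt Qκ)) :=
  ⟨eich (hypExt Qκ) (eH F κ) (ext0 w) (hypExt_eH Qκ) (polar_eH_ext0 Qκ w),
    eich_mem_Omega H _ _ _ _⟩

theorem uE_coe (H : Hyp (hypExt Qκ)) (w : κ → F) :
    (uE H w).1 = eich (hypExt Qκ) (eH F κ) (ext0 w) (hypExt_eH Qκ) (polar_eH_ext0 Qκ w) := rfl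

theorem uE_add (H : Hyp (hypExt Qκ)) (a b : κ → F) : uE H (a + b) = uE H a * uE H b := by
  apply Subtype.ext
  rw [Subgroup.coe_mul, uE_coe, uE_coe, uE_coe, eich_mul]
  exact eich_congr (hypExt Qκ) rfl (ext0_add a b) _ _ _ _

/-- `eich e (z + a e) = eich e z` -/
theorem eich_add_smul_self (Q : QuadraticForm F (Fin 2 ⊕ κ → F)) (u z : Fin 2 ⊕ κ → F)
    (hu : Q u = 0) (huz : polar ⇑Q u z = 0) (a : F)
    (huz' : polar ⇑Q u (z + a • u) = 0) :
    eich Q u (z + a • u) hu huz' = eich Q u z hu huz := by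
  apply ext_act
  intro x
  have hQ : Q (z + a • u) = Q z := by
    have h := quad_add_smul_sing Q u z hu huz a
    exact h
  rw [act_eich, act_eich, eichlerMap_apply, eichlerMap_apply, hQ, polar_add_left, polar_smul_left,
    smul_add, smul_smul]
  simp only [smul_eq_mul]
  module

theorem act_uE_fH (H : Hyp (hypExt Qκ)) (w : κ → F) :
    kp (act (hypExt Qκ) (uE H w).1 (fH F κ)) = w := by
  rw [uE_coe, act_eich, eichlerMap_apply, polar_eH]
  funext k
  simp [kp, ext0, eH, fH]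

theorem uE_injective (H : Hyp (hypExt Qκ)) : Function.Injective (uE (Qκ := Qκ) H) := by
  intro a b h
  rw [← act_uE_fH H a, ← act_uE_fH H b, h]

/-- conjugation of the unipotent radical by an isometry stabilising the point `⟨eH⟩` -/
theorem conj_uE (H : Hyp (hypExt Qκ)) (g : ↥(Omega F ⇑(hypExt Qκ))) (c : F)
    (hg : act (hypExt Qκ) g.1 (eH F κ) = c • eH F κ) (w : κ → F) :
    g * uE H w * g⁻¹ = uE H (c • kp (act (hypExt Qκ) g.1 (ext0 w))) := by
  apply Subtype.ext
  rw [Subgroup.coe_mul, Subgroup.coe_mul, Subgroup.coe_inv, uE_coe, uE_coe, conj_eich]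
  set z := act (hypExt Qκ) g.1 (ext0 w) with hz
  have hpz : polar (hypExt Qκ) (eH F κ) z = 0 ∨ c = 0 := by
    have h1 : polar (hypExt Qκ) (act (hypExt Qκ) g.1 (eH F κ)) z = 0 := by
      rw [hz, polar_act, polar_eH_ext0]
    rw [hg, polar_smul_left, smul_eq_mul] at h1
    rcases mul_eq_zero.mp h1 with h2 | h2
    · exact Or.inr h2
    · exact Or.inl h2
  have hc : c ≠ 0 := by
    intro h0
    rw [h0, zero_smul] at hg
    have h3 : act (hypExt Qκ) g.1⁻¹ (act (hypExt Qκ) g.1 (eH F κ)) = eH F κ := by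
      have := act_inv_act (hypExt Qκ) g.1⁻¹ (eH F κ)
      rwa [inv_inv] at this
    rw [hg] at h3
    have h4 : act (hypExt Qκ) g.1⁻¹ (0 : Fin 2 ⊕ κ → F) = 0 := Matrix.mulVec_zero _
    rw [h4] at h3
    have h5 := congrFun h3 (Sum.inl 0)
    simp [eH] at h5
  have hpz' : polar (hypExt Qκ) (eH F κ) z = 0 := hpz.resolve_right hc
  have hzdec := eq_ext0_add Qκ z hpz'
  have h6 : eich (hypExt Qκ) (c • eH F κ) z
      (by rw [QuadraticMap.map_smul, hypExt_eH, smul_zero])
      (by rw [polar_smul_left, hpz', smul_zero]) =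
      eich (hypExt Qκ) (eH F κ) (c • z) (hypExt_eH Qκ)
        (by rw [polar_smul_right, hpz', smul_zero]) :=
    eich_smul_left (hypExt Qκ) (eH F κ) z (hypExt_eH Qκ) hpz' c
  have h7 : c • z = ext0 (c • kp z) + (c * z (Sum.inl 0)) • eH F κ := by
    conv_lhs => rw [hzdec]
    rw [smul_add, ext0_smul, smul_smul]
  calc eich (hypExt Qκ) (act (hypExt Qκ) g.1 (eH F κ)) z _ _
      = eich (hypExt Qκ) (c • eH F κ) z
          (by rw [QuadraticMap.map_smul, hypExt_eH, smul_zero])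
          (by rw [polar_smul_left, hpz', smul_zero]) := eich_congr (hypExt Qκ) hg rfl _ _ _ _
    _ = eich (hypExt Qκ) (eH F κ) (c • z) (hypExt_eH Qκ)
          (by rw [polar_smul_right, hpz', smul_zero]) := h6
    _ = eich (hypExt Qκ) (eH F κ) (ext0 (c • kp z) + (c * z (Sum.inl 0)) • eH F κ) (hypExt_eH Qκ)
          (by rw [← h7, polar_smul_right, hpz', smul_zero]) := eich_congr (hypExt Qκ) rfl h7 _ _ _ _
    _ = eich (hypExt Qκ) (eH F κ) (ext0 (c • kp z)) (hypExt_eH Qκ) (polar_eH_ext0 Qκ _) :=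
        eich_add_smul_self (hypExt Qκ) (eH F κ) (ext0 (c • kp z)) (hypExt_eH Qκ)
          (polar_eH_ext0 Qκ _) _ _

/-- the induced map on `W = e^⊥/⟨e⟩` preserves the polar form -/
theorem polar_kp_act (g : ↥(isometryGroup F ⇑(hypExt Qκ))) (c : F) (hc : c ≠ 0)
    (hg : act (hypExt Qκ) g (eH F κ) = c • eH F κ) (w a : κ → F) :
    polar Qκ (kp (act (hypExt Qκ) g (ext0 w))) (kp (act (hypExt Qκ) g (ext0 a))) = polar Qκ w a := by
  have hperp : ∀ x : κ → F, polar (hypExt Qκ) (eH F κ) (act (hypExt Qκ) g (ext0 x)) = 0 := by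
    intro x
    have h1 : polar (hypExt Qκ) (act (hypExt Qκ) g (eH F κ)) (act (hypExt Qκ) g (ext0 x)) = 0 := by
      rw [polar_act, polar_eH_ext0]
    rw [hg, polar_smul_left, smul_eq_mul] at h1
    exact (mul_eq_zero.mp h1).resolve_left hc
  have h2 : polar (hypExt Qκ) (act (hypExt Qκ) g (ext0 w)) (act (hypExt Qκ) g (ext0 a)) =
      polar Qκ w a := by
    rw [polar_act, polar_ext0]
    rfl
  rw [← h2, polar_hypExt]
  have hw1 := hperp w
  have ha1 := hperp a
  rw [polar_eH] at hw1 ha1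
  rw [hw1, ha1, mul_zero, zero_mul, add_zero, zero_add]
  rfl

section data

variable (ψ : AddChar F ℂ) (hψ : ∃ c, ψ c ≠ 1) (hnd : (polarBilin Qκ).Nondegenerate)
  (H : Hyp (hypExt Qκ))

/-- the Fourier data of the unipotent radical -/
noncomputable def DD : FData ↥(Omega F ⇑(hypExt Qκ)) (κ → F) (κ → F) :=
  FData.ofPairing ψ hψ (uE H) (uE_add H) (fun w a => polar Qκ w a)
    (fun w a b => polar_add_right _ _ _ _)
    (fun w c a => by rw [polar_smul_right, smul_eq_mul])
    (fun w w' a => polar_add_left _ _ _ _)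
    (fun c w a => by rw [polar_smul_left, smul_eq_mul])
    (fun w hw => by
      by_contra hcon
      push Not at hcon
      apply hw
      have h1 := hnd.1
      exact h1 w (fun a => by rw [polarBilin_apply_apply]; exact hcon a))
    (fun a ha => by
      by_contra hcon
      push Not at hcon
      apply ha
      have h1 := hnd.1
      exact h1 a (fun w => by rw [polarBilin_apply_apply, polar_comm]; exact hcon w))

theorem DD_lam (w a : κ → F) : (DD ψ hψ hnd H).lam w a = ψ (polar Qκ w a) := rfl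

theorem DD_u (a : κ → F) : (DD ψ hψ hnd H).u a = uE H a := rfl

/-- the multiplicities are constant along the action of the stabiliser of `⟨eH⟩` -/
theorem mult_act {V : Type*} [AddCommGroup V] [Module ℂ V]
    (ρ : Representation ℂ ↥(Omega F ⇑(hypExt Qκ)) V) (g : ↥(Omega F ⇑(hypExt Qκ))) (c : F)
    (hc : c ≠ 0) (hg : act (hypExt Qκ) g.1 (eH F κ) = c • eH F κ) (w : κ → F) :
    (DD ψ hψ hnd H).mult ρ.character w =
      (DD ψ hψ hnd H).mult ρ.character (c⁻¹ • kp (act (hypExt Qκ) g.1 (ext0 w))) := by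
  have hL : ∀ a, g * (DD ψ hψ hnd H).u a * g⁻¹ =
      (DD ψ hψ hnd H).u (c • kp (act (hypExt Qκ) g.1 (ext0 a))) := fun a => conj_uE H g c hg a
  apply (DD ψ hψ hnd H).mult_conj ρ g _ hL
    ((DD ψ hψ hnd H).bijective_of_conj (uE_injective H) g _ hL)
  intro a
  rw [DD_lam, DD_lam, polar_smul_left, polar_smul_right, smul_eq_mul, smul_eq_mul, ← mul_assoc,
    inv_mul_cancel₀ hc, one_mul, polar_kp_act g.1 c hc hg]

/-- the Levi factor: the multiplicities are constant on the orbits of the block embedded isometries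
of `Qκ` lying in `Ω` -/
theorem mult_blk {V : Type*} [AddCommGroup V] [Module ℂ V]
    (ρ : Representation ℂ ↥(Omega F ⇑(hypExt Qκ)) V) (T : ↥(isometryGroup F ⇑Qκ))
    (hT : blkIsom Qκ T ∈ Omega F ⇑(hypExt Qκ)) (w : κ → F) :
    (DD ψ hψ hnd H).mult ρ.character w = (DD ψ hψ hnd H).mult ρ.character (act Qκ T w) := by
  have hact : ∀ v : Fin 2 ⊕ κ → F, act (hypExt Qκ) (blkIsom Qκ T) v =
      Sum.elim (fun i => v (Sum.inl i)) ((T.1 : Matrix κ κ F) *ᵥ fun k => v (Sum.inr k)) := by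
    intro v
    show (((blkIsom Qκ T : ↥(isometryGroup F ⇑(hypExt Qκ))) :
      Matrix.GeneralLinearGroup (Fin 2 ⊕ κ) F) : Matrix (Fin 2 ⊕ κ) (Fin 2 ⊕ κ) F) *ᵥ v = _
    rw [blkIsom_coe, blk_mulVec]
  have hg : act (hypExt Qκ) (⟨blkIsom Qκ T, hT⟩ : ↥(Omega F ⇑(hypExt Qκ))).1 (eH F κ) =
      (1 : F) • eH F κ := by
    rw [one_smul]
    show act (hypExt Qκ) (blkIsom Qκ T) (eH F κ) = eH F κ
    rw [hact]
    funext x
    rcases x with x | x
    · rfl
    · show ((T.1 : Matrix κ κ F) *ᵥ fun k => eH F κ (Sum.inr k)) x = eH F κ (Sum.inr x)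
      have : (fun k => eH F κ (Sum.inr k)) = (0 : κ → F) := by
        funext k; simp [eH]
      rw [this, Matrix.mulVec_zero]
      simp [eH]
  rw [mult_act ψ hψ hnd H ρ ⟨blkIsom Qκ T, hT⟩ 1 one_ne_zero hg w, inv_one, one_smul]
  congr 1
  show kp (act (hypExt Qκ) (blkIsom Qκ T) (ext0 w)) = act Qκ T w
  rw [hact]
  rfl

/-- if no non-zero character of the unipotent radical occurs, the radical acts trivially -/
theorem rho_uE_eq_one {V : Type*} [AddCommGroup V] [Module ℂ V] [FiniteDimensional ℂ V]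
    (ρ : Representation ℂ ↥(Omega F ⇑(hypExt Qκ)) V)
    (h0 : ∀ w : κ → F, w ≠ 0 → (DD ψ hψ hnd H).mult ρ.character w = 0) (a : κ → F) :
    ρ (uE H a) = 1 := by
  refine (DD ψ hψ hnd H).rho_u_eq_one ρ 0 (fun a => ?_) h0 a
  rw [DD_lam]
  have : polar Qκ (0 : κ → F) a = 0 := by simp [polar]
  rw [this, AddChar.map_zero_eq_one]

/-- the value of the character on the unipotent radical -/
theorem character_uE {V : Type*} [AddCommGroup V] [Module ℂ V]
    (ρ : Representation ℂ ↥(Omega F ⇑(hypExt Qκ)) V) (a : κ → F) :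
    ρ.character (uE H a) =
      ∑ w : κ → F, ψ (polar Qκ w a) * (DD ψ hψ hnd H).mult ρ.character w :=
  (DD ψ hψ hnd H).fourier ρ a

end data

end Cfsg.Agent.Lib.Helper1.OMMI
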