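import Mathlib
import Cfsg.Prelude
import Cfsg.Agent.Lib.Helper5.OmegaSimple
import Cfsg.Agent.Lib.Helper1.OMMGen
import Cfsg.Agent.Lib.Helper1.OMMInst

set_option autoImplicit false
set_option linter.unusedSectionVars false
set_option linter.unusedVariables false
set_option linter.unusedSimpArgs false
open Cfsg

/-!
Farm OMM (statement S2346): the opposite unipotent radical `U⁻ = {eich f (ext0 w)}` (stabiliser of the
singular point `⟨fH⟩`), its Fourier data, and the joint action of the Levi factor on `U` and `U⁻`.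
-/

namespace Cfsg.Agent.Lib.Helper1.OMMI

open Matrix QuadraticMap Cfsg.Agent.Lib.Helper5.CartanDieudonne Cfsg.Agent.Lib.Helper5.Refl
  Cfsg.Agent.Lib.Helper5.OrthCard Cfsg.Agent.Lib.Helper5.Siegel Cfsg.Agent.Lib.Helper5.QuadIsom
  Cfsg.Agent.Lib.Helper5.ReflGen Cfsg.Agent.Lib.Helper5.Eichler Cfsg.Agent.Lib.Helper5.SingGeom
  Cfsg.Agent.Lib.Helper5.OmegaGen Cfsg.Agent.Lib.Helper5.OmegaSimple Cfsg.Agent.Lib.Helper1.OMMG

variable {κ : Type} [Fintype κ] [DecidableEq κ] {F : Type*} [Field F] [Fintype F] [DecidableEq F]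
  (Qκ : QuadraticForm F (κ → F))

theorem polar_fH_ext0 (w : κ → F) : polar (hypExt Qκ) (fH F κ) (ext0 w) = 0 := by
  rw [polar_fH]
  rfl

/-- a vector orthogonal to `fH` is `ext0` of its `κ`-part plus a multiple of `fH` -/
theorem eq_ext0_add_fH (v : Fin 2 ⊕ κ → F) (hv : polar (hypExt Qκ) (fH F κ) v = 0) :
    v = ext0 (kp v) + v (Sum.inl 1) • fH F κ := by
  rw [polar_fH] at hv
  funext x
  rcases x with x | x
  · fin_cases x
    · simp [ext0, fH, hv]
    · simp [ext0, fH]
  · simp [ext0, fH, kp]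

variable {Qκ}

/-- the elements of the opposite unipotent radical -/
noncomputable def uF (H : Hyp (hypExt Qκ)) (w : κ → F) : ↥(Omega F ⇑(hypExt Qκ)) :=
  ⟨eich (hypExt Qκ) (fH F κ) (ext0 w) (hypExt_fH Qκ) (polar_fH_ext0 Qκ w),
    eich_mem_Omega H _ _ _ _⟩

theorem uF_coe (H : Hyp (hypExt Qκ)) (w : κ → F) :
    (uF H w).1 = eich (hypExt Qκ) (fH F κ) (ext0 w) (hypExt_fH Qκ) (polar_fH_ext0 Qκ w) := rfl

theorem uF_add (H : Hyp (hypExt Qκ)) (a b : κ → F) : uF H (a + b) = uF H a * uF H b := by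
  apply Subtype.ext
  rw [Subgroup.coe_mul, uF_coe, uF_coe, uF_coe, eich_mul]
  exact eich_congr (hypExt Qκ) rfl (ext0_add a b) _ _ _ _

theorem act_uF_eH (H : Hyp (hypExt Qκ)) (w : κ → F) :
    kp (act (hypExt Qκ) (uF H w).1 (eH F κ)) = w := by
  rw [uF_coe, act_eich, eichlerMap_apply, polar_fH]
  funext k
  simp [kp, ext0, eH, fH]

theorem uF_injective (H : Hyp (hypExt Qκ)) : Function.Injective (uF (Qκ := Qκ) H) := by
  intro a b h
  rw [← act_uF_eH H a, ← act_uF_eH H b, h]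

/-- conjugation of the opposite unipotent radical by an isometry stabilising the point `⟨fH⟩` -/
theorem conj_uF (H : Hyp (hypExt Qκ)) (g : ↥(Omega F ⇑(hypExt Qκ))) (c : F)
    (hg : act (hypExt Qκ) g.1 (fH F κ) = c • fH F κ) (w : κ → F) :
    g * uF H w * g⁻¹ = uF H (c • kp (act (hypExt Qκ) g.1 (ext0 w))) := by
  apply Subtype.ext
  rw [Subgroup.coe_mul, Subgroup.coe_mul, Subgroup.coe_inv, uF_coe, uF_coe, conj_eich]
  set z := act (hypExt Qκ) g.1 (ext0 w) with hz
  have hpz : polar (hypExt Qκ) (fH F κ) z = 0 ∨ c = 0 := by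
    have h1 : polar (hypExt Qκ) (act (hypExt Qκ) g.1 (fH F κ)) z = 0 := by
      rw [hz, polar_act, polar_fH_ext0]
    rw [hg, polar_smul_left, smul_eq_mul] at h1
    rcases mul_eq_zero.mp h1 with h2 | h2
    · exact Or.inr h2
    · exact Or.inl h2
  have hc : c ≠ 0 := by
    intro h0
    rw [h0, zero_smul] at hg
    have h3 : act (hypExt Qκ) g.1⁻¹ (act (hypExt Qκ) g.1 (fH F κ)) = fH F κ := by
      have := act_inv_act (hypExt Qκ) g.1⁻¹ (fH F κ)
      rwa [inv_inv] at this
    rw [hg] at h3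
    have h4 : act (hypExt Qκ) g.1⁻¹ (0 : Fin 2 ⊕ κ → F) = 0 := Matrix.mulVec_zero _
    rw [h4] at h3
    have h5 := congrFun h3 (Sum.inl 1)
    simp [fH] at h5
  have hpz' : polar (hypExt Qκ) (fH F κ) z = 0 := hpz.resolve_right hc
  have hzdec := eq_ext0_add_fH Qκ z hpz'
  have h6 : eich (hypExt Qκ) (c • fH F κ) z
      (by rw [QuadraticMap.map_smul, hypExt_fH, smul_zero])
      (by rw [polar_smul_left, hpz', smul_zero]) =
      eich (hypExt Qκ) (fH F κ) (c • z) (hypExt_fH Qκ)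
        (by rw [polar_smul_right, hpz', smul_zero]) :=
    eich_smul_left (hypExt Qκ) (fH F κ) z (hypExt_fH Qκ) hpz' c
  have h7 : c • z = ext0 (c • kp z) + (c * z (Sum.inl 1)) • fH F κ := by
    conv_lhs => rw [hzdec]
    rw [smul_add, ext0_smul, smul_smul]
  calc eich (hypExt Qκ) (act (hypExt Qκ) g.1 (fH F κ)) z _ _
      = eich (hypExt Qκ) (c • fH F κ) z
          (by rw [QuadraticMap.map_smul, hypExt_fH, smul_zero])
          (by rw [polar_smul_left, hpz', smul_zero]) := eich_congr (hypExt Qκ) hg rfl _ _ _ _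
    _ = eich (hypExt Qκ) (fH F κ) (c • z) (hypExt_fH Qκ)
          (by rw [polar_smul_right, hpz', smul_zero]) := h6
    _ = eich (hypExt Qκ) (fH F κ) (ext0 (c • kp z) + (c * z (Sum.inl 1)) • fH F κ) (hypExt_fH Qκ)
          (by rw [← h7, polar_smul_right, hpz', smul_zero]) := eich_congr (hypExt Qκ) rfl h7 _ _ _ _
    _ = eich (hypExt Qκ) (fH F κ) (ext0 (c • kp z)) (hypExt_fH Qκ) (polar_fH_ext0 Qκ _) :=
        eich_add_smul_self (hypExt Qκ) (fH F κ) (ext0 (c • kp z)) (hypExt_fH Qκ)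
          (polar_fH_ext0 Qκ _) _ _

/-- the induced map on `W = f^⊥/⟨f⟩` preserves the polar form -/
theorem polar_kp_act_fH (g : ↥(isometryGroup F ⇑(hypExt Qκ))) (c : F) (hc : c ≠ 0)
    (hg : act (hypExt Qκ) g (fH F κ) = c • fH F κ) (w a : κ → F) :
    polar Qκ (kp (act (hypExt Qκ) g (ext0 w))) (kp (act (hypExt Qκ) g (ext0 a))) = polar Qκ w a := by
  have hperp : ∀ x : κ → F, polar (hypExt Qκ) (fH F κ) (act (hypExt Qκ) g (ext0 x)) = 0 := by
    intro x
    have h1 : polar (hypExt Qκ) (act (hypExt Qκ) g (fH F κ)) (act (hypExt Qκ) g (ext0 x)) = 0 := by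
      rw [polar_act, polar_fH_ext0]
    rw [hg, polar_smul_left, smul_eq_mul] at h1
    exact (mul_eq_zero.mp h1).resolve_left hc
  have h2 : polar (hypExt Qκ) (act (hypExt Qκ) g (ext0 w)) (act (hypExt Qκ) g (ext0 a)) =
      polar Qκ w a := by
    rw [polar_act, polar_ext0]
    rfl
  rw [← h2, polar_hypExt]
  have hw1 := hperp w
  have ha1 := hperp a
  rw [polar_fH] at hw1 ha1
  rw [hw1, ha1, mul_zero, zero_mul, add_zero, zero_add]
  rfl

section data

variable (ψ : AddChar F ℂ) (hψ : ∃ c, ψ c ≠ 1) (hnd : (polarBilin Qκ).Nondegenerate)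
  (H : Hyp (hypExt Qκ))

/-- the Fourier data of the opposite unipotent radical -/
noncomputable def DDm : FData ↥(Omega F ⇑(hypExt Qκ)) (κ → F) (κ → F) :=
  FData.ofPairing ψ hψ (uF H) (uF_add H) (fun w a => polar Qκ w a)
    (fun w a b => polar_add_right _ _ _ _)
    (fun w c a => by rw [polar_smul_right, smul_eq_mul])
    (fun w w' a => polar_add_left _ _ _ _)
    (fun c w a => by rw [polar_smul_left, smul_eq_mul])
    (fun w hw => by
      by_contra hcon
      push Not at hcon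
      apply hw
      have h1 := hnd.1
      exact h1 w (fun a => by rw [polarBilin_apply_apply]; exact hcon a))
    (fun a ha => by
      by_contra hcon
      push Not at hcon
      apply ha
      have h1 := hnd.1
      exact h1 a (fun w => by rw [polarBilin_apply_apply, polar_comm]; exact hcon w))

theorem DDm_lam (w a : κ → F) : (DDm ψ hψ hnd H).lam w a = ψ (polar Qκ w a) := rfl

theorem DDm_u (a : κ → F) : (DDm ψ hψ hnd H).u a = uF H a := rfl

end data

end Cfsg.Agent.Lib.Helper1.OMMI
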