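import Mathlib
import Cfsg.Prelude
import Cfsg.Agent.Lib.Helper2.OMMDefs
import Cfsg.Agent.Lib.Helper1.OMMInst2

set_option autoImplicit false
set_option linter.unusedSectionVars false
set_option linter.unusedVariables false
set_option linter.unusedSimpArgs false
open Cfsg

/-!
Farm OMM (statement S2346), unit LEVELS (part 1): the block embedded isometries of `W` lying in `Ω(V)` normalise
`U` and `U⁻`; they permute the idempotents of both groups through their action on `W`.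
-/

namespace Cfsg.Agent.Lib.Helper1.OMML

open Matrix QuadraticMap Cfsg.Agent.Lib.Helper5.CartanDieudonne Cfsg.Agent.Lib.Helper5.Refl
  Cfsg.Agent.Lib.Helper5.OrthCard Cfsg.Agent.Lib.Helper5.Siegel Cfsg.Agent.Lib.Helper5.QuadIsom
  Cfsg.Agent.Lib.Helper5.ReflGen Cfsg.Agent.Lib.Helper5.Eichler Cfsg.Agent.Lib.Helper5.SingGeom
  Cfsg.Agent.Lib.Helper5.OmegaGen Cfsg.Agent.Lib.Helper5.OmegaSimple Cfsg.Agent.Lib.Helper1.OMMG
  Cfsg.Agent.Lib.Helper1.OMMI Cfsg.Agent.Lib.Helper2.OMM Cfsg.Agent.Lib.Helper5.OMMLevi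

variable {F : Type*} [Field F] [Fintype F] [DecidableEq F]

section general

variable {κ : Type} [Fintype κ] [DecidableEq κ] {Qκ : QuadraticForm F (κ → F)}

/-- conjugation of `U` by a block embedded isometry -/
theorem conj_uE_blk (H : Hyp (hypExt Qκ)) (T : ↥(isometryGroup F ⇑Qκ))
    (hT : blkIsom Qκ T ∈ Omega F ⇑(hypExt Qκ)) (x : κ → F) :
    (⟨blkIsom Qκ T, hT⟩ : ↥(Omega F ⇑(hypExt Qκ))) * uE H x * (⟨blkIsom Qκ T, hT⟩)⁻¹ =
      uE H (act Qκ T x) := by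
  have hg : act (hypExt Qκ) (⟨blkIsom Qκ T, hT⟩ : ↥(Omega F ⇑(hypExt Qκ))).1 (eH F κ) =
      (1 : F) • eH F κ := by
    rw [one_smul]
    exact act_blkHom_eH Qκ T
  rw [conj_uE H _ 1 hg x, one_smul]
  congr 1
  show kp (act (hypExt Qκ) (blkHom Qκ T) (ext0 x)) = act Qκ T x
  rw [act_blkHom_ext0]
  rfl

/-- conjugation of `U⁻` by a block embedded isometry -/
theorem conj_uF_blk (H : Hyp (hypExt Qκ)) (T : ↥(isometryGroup F ⇑Qκ))
    (hT : blkIsom Qκ T ∈ Omega F ⇑(hypExt Qκ)) (x : κ → F) :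
    (⟨blkIsom Qκ T, hT⟩ : ↥(Omega F ⇑(hypExt Qκ))) * uF H x * (⟨blkIsom Qκ T, hT⟩)⁻¹ =
      uF H (act Qκ T x) := by
  have hg : act (hypExt Qκ) (⟨blkIsom Qκ T, hT⟩ : ↥(Omega F ⇑(hypExt Qκ))).1 (fH F κ) =
      (1 : F) • fH F κ := by
    rw [one_smul]
    exact act_blkHom_fH Qκ T
  rw [conj_uF H _ 1 hg x, one_smul]
  congr 1
  show kp (act (hypExt Qκ) (blkHom Qκ T) (ext0 x)) = act Qκ T x
  rw [act_blkHom_ext0]
  rfl

theorem act_bijective (T : ↥(isometryGroup F ⇑Qκ)) : Function.Bijective (act Qκ T) := by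
  refine ⟨fun a b h => ?_, fun b => ⟨act Qκ T⁻¹ b, act_inv_act Qκ T b⟩⟩
  have h1 := act_inv_act Qκ T⁻¹ a
  have h2 := act_inv_act Qκ T⁻¹ b
  rw [inv_inv] at h1 h2
  rw [← h1, ← h2, h]

end general

variable {κ : Type} [Fintype κ] [DecidableEq κ] {Qc : QuadraticForm F (κ → F)}
variable (ψ : AddChar F ℂ) (hψ : ∃ c, ψ c ≠ 1) (hnd : (polarBilin Qc).Nondegenerate)
  (H : Hyp (Q3 Qc))

theorem uM_eq_uF (x : K2 κ → F) : uM H x = uF (Qκ := Q2 Qc) H x := rfl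

variable {V : Type*} [AddCommGroup V] [Module ℂ V]

/-- a block embedded isometry of `W` in `Ω(V)` permutes the idempotents of `U` -/
theorem eI_blk (ρ : Representation ℂ (GG Qc) V) (T : ↥(isometryGroup F ⇑(Q2 Qc)))
    (hT : blkIsom (Q2 Qc) T ∈ Omega F ⇑(Q3 Qc)) (w : K2 κ → F) :
    ρ ⟨blkIsom (Q2 Qc) T, hT⟩ * (DU ψ hψ hnd H).eI ρ w =
      (DU ψ hψ hnd H).eI ρ (act (Q2 Qc) T w) * ρ ⟨blkIsom (Q2 Qc) T, hT⟩ := by
  refine (DU ψ hψ hnd H).conj_eI ρ ⟨blkIsom (Q2 Qc) T, hT⟩ (act (Q2 Qc) T) ?_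
    (act_bijective T) w _ ?_
  · intro a
    exact conj_uE_blk H T hT a
  · intro a
    rw [DU_lam, DU_lam, polar_act]

/-- a block embedded isometry of `W` in `Ω(V)` permutes the idempotents of `U⁻` -/
theorem eIm_blk (ρ : Representation ℂ (GG Qc) V) (T : ↥(isometryGroup F ⇑(Q2 Qc)))
    (hT : blkIsom (Q2 Qc) T ∈ Omega F ⇑(Q3 Qc)) (w : K2 κ → F) :
    ρ ⟨blkIsom (Q2 Qc) T, hT⟩ * (DM ψ hψ hnd H).eI ρ w =
      (DM ψ hψ hnd H).eI ρ (act (Q2 Qc) T w) * ρ ⟨blkIsom (Q2 Qc) T, hT⟩ := by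
  refine (DM ψ hψ hnd H).conj_eI ρ ⟨blkIsom (Q2 Qc) T, hT⟩ (act (Q2 Qc) T) ?_
    (act_bijective T) w _ ?_
  · intro a
    exact conj_uF_blk (Qκ := Q2 Qc) H T hT a
  · intro a
    rw [DM_lam, DM_lam, polar_act]

end Cfsg.Agent.Lib.Helper1.OMML
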