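import Mathlib
import Cfsg.Prelude
import Cfsg.Agent.Lib.Helper2.OMMDefs

set_option autoImplicit false
set_option linter.unusedSectionVars false
set_option linter.unusedVariables false
set_option linter.unusedSimpArgs false
open Cfsg

/-!
Farm OMM (statement S2346), unit DICH: if the multiplicities of the characters of the unipotent
radical are constant on the level sets of `W`, then either the degree is at least twice the size of
the smallest level set, or the representation is in a multiplicity-one configuration `LevelOne ρ c`.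
-/

namespace Cfsg.Agent.Lib.Helper1.OMMD

open Matrix QuadraticMap Cfsg.Agent.Lib.Helper5.OrthCard
  Cfsg.Agent.Lib.Helper5.OmegaSimple Cfsg.Agent.Lib.Helper1.OMMG
  Cfsg.Agent.Lib.Helper1.OMMI Cfsg.Agent.Lib.Helper2.OMM

variable {F : Type*} [Field F] [Fintype F] [DecidableEq F]
variable {κ : Type} [Fintype κ] [DecidableEq κ] {Qc : QuadraticForm F (κ → F)}
variable (ψ : AddChar F ℂ) (hψ : ∃ c, ψ c ≠ 1) (hnd : (polarBilin Qc).Nondegenerate)
  (H : Hyp (Q3 Qc))

/-- the degree is the sum of the multiplicities -/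
theorem sum_mU {k : ℕ} (ρ : Representation ℂ (GG Qc) (Fin k → ℂ)) :
    ∑ w : K2 κ → F, mU ψ hψ hnd H ρ w = (k : ℂ) := by
  unfold mU
  rw [(DU ψ hψ hnd H).sum_mult ρ, Representation.char_one, Module.finrank_fin_fun]

theorem mU_nat {k : ℕ} (ρ : Representation ℂ (GG Qc) (Fin k → ℂ)) (w : K2 κ → F) :
    ∃ r : ℕ, mU ψ hψ hnd H ρ w = r :=
  (DU ψ hψ hnd H).mult_nat ρ w

/-- the dichotomy, from the constancy of the multiplicities on the level sets -/
theorem dich_of_level {k : ℕ} (ρ : Representation ℂ (GG Qc) (Fin k → ℂ))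
    (hlev : ∀ w w' : K2 κ → F, w ≠ 0 → w' ≠ 0 → Q2 Qc w = Q2 Qc w' →
      mU ψ hψ hnd H ρ w = mU ψ hψ hnd H ρ w')
    (N D : ℕ) (hN0 : N ≤ Nat.card {w : K2 κ → F // w ≠ 0 ∧ Q2 Qc w = 0})
    (hNc : ∀ c : F, c ≠ 0 → N ≤ Nat.card {w : K2 κ → F // Q2 Qc w = c})
    (hD : D ≤ 2 * N)
    (hnt : ∃ w : K2 κ → F, w ≠ 0 ∧ mU ψ hψ hnd H ρ w ≠ 0) :
    D ≤ k ∨ ∃ c, LevelOne ψ hψ hnd H ρ c := by
  classical
  choose m hm using fun w => mU_nat ψ hψ hnd H ρ w
  have hsum : ∑ w : K2 κ → F, m w = k := by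
    have h := sum_mU ψ hψ hnd H ρ
    simp only [hm] at h
    exact_mod_cast h
  have hlev' : ∀ w w' : K2 κ → F, w ≠ 0 → w' ≠ 0 → Q2 Qc w = Q2 Qc w' → m w = m w' := by
    intro w w' hw hw' h
    have := hlev w w' hw hw' h
    rw [hm, hm] at this
    exact_mod_cast this
  -- the level sets
  set L : F → Finset (K2 κ → F) := fun c => Finset.univ.filter (fun w => w ≠ 0 ∧ Q2 Qc w = c) with hL
  have hLcard : ∀ c, N ≤ (L c).card := by
    intro c
    by_cases hc : c = 0
    · subst hc
      have h1 : Nat.card {w : K2 κ → F // w ≠ 0 ∧ Q2 Qc w = 0} = (L 0).card := by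
        rw [Nat.card_eq_fintype_card, Fintype.card_subtype]
      rw [← h1]
      exact hN0
    · have h1 : Nat.card {w : K2 κ → F // Q2 Qc w = c} = (L c).card := by
        rw [Nat.card_eq_fintype_card, Fintype.card_subtype]
        congr 1
        ext w
        simp only [hL, Finset.mem_filter, Finset.mem_univ, true_and]
        constructor
        · intro h
          refine ⟨?_, h⟩
          rintro rfl
          apply hc
          rw [← h, map_zero]
        · exact fun h => h.2
      rw [← h1]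
      exact hNc c hc
  obtain ⟨w₀, hw₀, hmw₀⟩ := hnt
  have hm0 : 1 ≤ m w₀ := by
    rw [hm] at hmw₀
    have : m w₀ ≠ 0 := by
      intro h
      apply hmw₀
      rw [h, Nat.cast_zero]
    omega
  set c₀ := Q2 Qc w₀ with hc₀
  have hconst : ∀ w ∈ L c₀, m w = m w₀ := by
    intro w hw
    simp only [hL, Finset.mem_filter, Finset.mem_univ, true_and] at hw
    exact hlev' w w₀ hw.1 hw₀ hw.2
  by_cases hB : ∃ w₁ : K2 κ → F, w₁ ≠ 0 ∧ Q2 Qc w₁ ≠ c₀ ∧ 1 ≤ m w₁
  · -- two level sets in the support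
    left
    obtain ⟨w₁, hw₁, hc₁, hm1⟩ := hB
    have hdisj : Disjoint (L c₀) (L (Q2 Qc w₁)) := by
      rw [Finset.disjoint_left]
      intro w h1 h2
      simp only [hL, Finset.mem_filter, Finset.mem_univ, true_and] at h1 h2
      apply hc₁
      rw [← h2.2, h1.2]
    have hconst1 : ∀ w ∈ L (Q2 Qc w₁), m w = m w₁ := by
      intro w hw
      simp only [hL, Finset.mem_filter, Finset.mem_univ, true_and] at hw
      exact hlev' w w₁ hw.1 hw₁ hw.2
    have h1 : ∑ w ∈ L c₀ ∪ L (Q2 Qc w₁), m w ≤ ∑ w : K2 κ → F, m w :=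
      Finset.sum_le_sum_of_subset (Finset.subset_univ _)
    rw [Finset.sum_union hdisj, Finset.sum_congr rfl hconst, Finset.sum_congr rfl hconst1,
      Finset.sum_const, Finset.sum_const, smul_eq_mul, smul_eq_mul, hsum] at h1
    have h2 := hLcard c₀
    have h3 := hLcard (Q2 Qc w₁)
    have h4 : (L c₀).card ≤ (L c₀).card * m w₀ := Nat.le_mul_of_pos_right _ hm0
    have h5 : (L (Q2 Qc w₁)).card ≤ (L (Q2 Qc w₁)).card * m w₁ := Nat.le_mul_of_pos_right _ hm1
    omega
  · push Not at hB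
    by_cases h2 : 2 ≤ m w₀
    · left
      have h1 : ∑ w ∈ L c₀, m w ≤ ∑ w : K2 κ → F, m w :=
        Finset.sum_le_sum_of_subset (Finset.subset_univ _)
      rw [Finset.sum_congr rfl hconst, Finset.sum_const, smul_eq_mul, hsum] at h1
      have h3 := hLcard c₀
      have h4 : (L c₀).card * 2 ≤ (L c₀).card * m w₀ := Nat.mul_le_mul_left _ h2
      omega
    · right
      have h1 : m w₀ = 1 := by omega
      refine ⟨c₀, ?_, ?_⟩
      · intro w hw hc
        rw [hm, hlev' w w₀ hw hw₀ hc, h1, Nat.cast_one]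
      · intro w hw hc
        have := hB w hw hc
        have h0 : m w = 0 := by omega
        rw [hm, h0, Nat.cast_zero]

end Cfsg.Agent.Lib.Helper1.OMMD
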