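import Mathlib
import Cfsg.Prelude
import Cfsg.Agent.Lib.Helper1.MNDT
import Cfsg.Agent.Lib.Helper5.OMMLevi
import Cfsg.Agent.Lib.Helper6.OMMArith

set_option autoImplicit false
set_option linter.unusedSectionVars false
set_option linter.unusedVariables false
open Cfsg

/-!
Farm OMM (statement S2346), unit FINAL-TRANSPORT: transport of a lower bound for the degrees of the
irreducible representations along an isomorphism of groups, the induction over the Witt index, and the
reduction of the statement S2346 to the induction step.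
-/

namespace Cfsg.Agent.Lib.Helper1.OMMF

open Cfsg.Agent.Lib.Helper5.OrthCard Cfsg.Agent.Lib.Helper5.OrthPlane
  Cfsg.Agent.Lib.Helper6.OMMArith

/-- a lower bound for the degrees of the irreducible representations of degree at least `2` is
transported along an isomorphism -/
theorem minDeg_transport {G G' : Type*} [Group G] [Group G'] (e : G ≃* G') (D : ℕ)
    (h : ∀ (k : ℕ) (ρ : Representation ℂ G' (Fin k → ℂ)), ρ.IsIrreducible → 2 ≤ k → D ≤ k) :
    ∀ (k : ℕ) (ρ : Representation ℂ G (Fin k → ℂ)), ρ.IsIrreducible → 2 ≤ k → D ≤ k := by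
  intro k ρ hirr hk
  have hs : Function.Surjective (e.symm.toMonoidHom : G' →* G) := e.symm.surjective
  exact h k (MonoidHom.comp ρ e.symm.toMonoidHom)
    (Cfsg.Agent.Lib.Helper1.MND.isIrreducible_comp ρ e.symm.toMonoidHom hs hirr) hk

variable {F : Type*} [Field F] [Fintype F]

/-- the statement for the minus type form with Witt index `m` (dimension `2 m + 2`) -/
def P (a b : F) (m : ℕ) : Prop :=
  ∀ (k : ℕ) (ρ : Representation ℂ ↥(Omega F ⇑(genForm (binForm a b) m)) (Fin k → ℂ)),
    ρ.IsIrreducible → 2 ≤ k → dn (Fintype.card F) (m + 1) ≤ k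

/-- the induction over the Witt index -/
theorem final_of_step (a b : F)
    (hstep : ∀ i : ℕ, (1 ≤ i → P a b (i + 2)) → P a b (i + 3)) :
    ∀ m : ℕ, 3 ≤ m → P a b m := by
  intro m
  induction m using Nat.strong_induction_on with
  | _ m ih =>
    intro hm
    obtain ⟨i, rfl⟩ : ∃ i, m = i + 3 := ⟨m - 3, by omega⟩
    exact hstep i (fun hi => ih (i + 2) (by omega) (by omega))

/-- the anisotropy hypothesis of S2346 in the shape used for `binForm` -/
theorem han_of_hab (a b : F)
    (hab : ∀ z₁ z₂ : F, z₁ ^ 2 + a * z₁ * z₂ + b * z₂ ^ 2 = 0 → z₁ = 0 ∧ z₂ = 0) :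
    ∀ v : Fin 2 → F, binForm a b v = 0 → v = 0 := by
  intro v hv
  rw [binForm_apply] at hv
  have h := hab (v 0) (v 1) (by rw [← hv]; ring)
  funext i
  fin_cases i
  · exact h.1
  · exact h.2

/-- S2346 from the induction step -/
theorem result_of_step (n : ℕ) (hn : 4 ≤ n) (a b : F)
    (hstep : ∀ i : ℕ, (1 ≤ i → P a b (i + 2)) → P a b (i + 3)) :
    ∀ (k : ℕ) (ρ : Representation ℂ (Cfsg.Omega F (Cfsg.quadFormMinus (n - 1) F a b)) (Fin k → ℂ)),
      ρ.IsIrreducible → 2 ≤ k →
        (Fintype.card F ^ n + 1) * (Fintype.card F ^ (n - 1) - Fintype.card F) /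
          (Fintype.card F ^ 2 - 1) ≤ k := by
  have hP := final_of_step a b hstep (n - 1) (by omega)
  have hn1 : n - 1 + 1 = n := by omega
  rw [bound_eq_dn]
  refine minDeg_transport (Cfsg.Agent.Lib.Helper5.OMMLevi.omegaMinus (n - 1) a b) _ ?_
  intro k ρ hirr hk
  have := hP k ρ hirr hk
  rwa [hn1] at this

end Cfsg.Agent.Lib.Helper1.OMMF
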