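import Mathlib
import Cfsg.Prelude
import Cfsg.Agent.Lib.Helper2.OMMDefs
import Cfsg.Agent.Lib.Helper5.OMMOrbit
import Cfsg.Agent.Lib.Helper1.OMMBlk
import Cfsg.Agent.Lib.Helper1.OMMDich

set_option autoImplicit false
set_option linter.unusedSectionVars false
set_option linter.unusedVariables false
set_option linter.unusedSimpArgs false
open Cfsg

/-!
Farm OMM (statement S2346), unit LEVELS: the multiplicities of the characters of the unipotent radical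
`U` are constant on the level sets `{w ≠ 0 | Q w = c}` of `W`; the orbit form for the idempotents of
`U` and `U⁻`; the dichotomy DICH.
-/

namespace Cfsg.Agent.Lib.Helper1.OMML

open Matrix QuadraticMap Cfsg.Agent.Lib.Helper5.CartanDieudonne Cfsg.Agent.Lib.Helper5.Refl
  Cfsg.Agent.Lib.Helper5.OrthCard Cfsg.Agent.Lib.Helper5.Siegel Cfsg.Agent.Lib.Helper5.QuadIsom
  Cfsg.Agent.Lib.Helper5.ReflGen Cfsg.Agent.Lib.Helper5.Eichler Cfsg.Agent.Lib.Helper5.SingGeom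
  Cfsg.Agent.Lib.Helper5.OmegaGen Cfsg.Agent.Lib.Helper5.OmegaSimple Cfsg.Agent.Lib.Helper1.OMMG
  Cfsg.Agent.Lib.Helper1.OMMI Cfsg.Agent.Lib.Helper2.OMM Cfsg.Agent.Lib.Helper5.OMMLevi

variable {F : Type*} [Field F] [Fintype F] [DecidableEq F]
variable {κ : Type} [Fintype κ] [DecidableEq κ] {Qc : QuadraticForm F (κ → F)}
variable (ψ : AddChar F ℂ) (hψ : ∃ c, ψ c ≠ 1) (hnd : (polarBilin Qc).Nondegenerate)
  (H : Hyp (Q3 Qc))

theorem card_K2 (hk : 1 ≤ Fintype.card κ) : 5 ≤ Fintype.card (K2 κ) := by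
  show 5 ≤ Fintype.card (Fin 2 ⊕ (Fin 2 ⊕ κ))
  rw [Fintype.card_sum, Fintype.card_sum, Fintype.card_fin]
  omega

variable {V : Type*} [AddCommGroup V] [Module ℂ V]

/-- the orbit lemma: two nonzero vectors of `W` of the same value are exchanged by an element of
`Ω(V)` normalising `U` and `U⁻` and acting on both through the same isometry of `W` -/
theorem exists_level_move (hk : 1 ≤ Fintype.card κ) (ρ : Representation ℂ (GG Qc) V)
    (w w' : K2 κ → F) (hw : w ≠ 0) (hw' : w' ≠ 0) (h : Q2 Qc w = Q2 Qc w') :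
    ∃ (g : GG Qc) (T : ↥(isometryGroup F ⇑(Q2 Qc))), act (Q2 Qc) T w = w' ∧
      (∀ x, g * uE H x * g⁻¹ = uE H (act (Q2 Qc) T x)) ∧
      (∀ x, g * uM H x * g⁻¹ = uM H (act (Q2 Qc) T x)) ∧
      (∀ a, ρ g * (DU ψ hψ hnd H).eI ρ a = (DU ψ hψ hnd H).eI ρ (act (Q2 Qc) T a) * ρ g) ∧
      (∀ a, ρ g * (DM ψ hψ hnd H).eI ρ a = (DM ψ hψ hnd H).eI ρ (act (Q2 Qc) T a) * ρ g) := by
  obtain ⟨T, hT, hTw⟩ := Cfsg.Agent.Lib.Helper5.OMMOrbit.orbit_blk (Q2 Qc) H (nd2 Qc hnd)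
    (card_K2 hk) w w' hw hw' h
  exact ⟨⟨blkIsom (Q2 Qc) T, hT⟩, T, hTw, fun x => conj_uE_blk H T hT x,
    fun x => conj_uF_blk (Qκ := Q2 Qc) H T hT x, fun a => eI_blk ψ hψ hnd H ρ T hT a,
    fun a => eIm_blk ψ hψ hnd H ρ T hT a⟩

/-- LEVELS: the multiplicities are constant on the level sets of `W` -/
theorem mU_level (hk : 1 ≤ Fintype.card κ) (ρ : Representation ℂ (GG Qc) V)
    (w w' : K2 κ → F) (hw : w ≠ 0) (hw' : w' ≠ 0) (h : Q2 Qc w = Q2 Qc w') :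
    mU ψ hψ hnd H ρ w = mU ψ hψ hnd H ρ w' := by
  obtain ⟨T, hT, hTw⟩ := Cfsg.Agent.Lib.Helper5.OMMOrbit.orbit_blk (Q2 Qc) H (nd2 Qc hnd)
    (card_K2 hk) w w' hw hw' h
  unfold mU DU
  rw [mult_blk ψ hψ (nd2 Qc hnd) H ρ T hT w, hTw]

/-- if a product `e_w * X` vanishes for one `w` and `X` commutes with the Levi elements, then it
vanishes on the whole level set of `w` (orbit lemma for Case C, step (f)) -/
theorem eI_mul_eIm_zero_of_level (hk : 1 ≤ Fintype.card κ) (ρ : Representation ℂ (GG Qc) V)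
    (w w' : K2 κ → F) (hw : w ≠ 0) (hw' : w' ≠ 0) (h : Q2 Qc w = Q2 Qc w')
    (h0 : (DU ψ hψ hnd H).eI ρ w * (DM ψ hψ hnd H).eI ρ 0 = 0) :
    (DU ψ hψ hnd H).eI ρ w' * (DM ψ hψ hnd H).eI ρ 0 = 0 := by
  obtain ⟨g, T, hTw, -, -, hU, hM⟩ := exists_level_move ψ hψ hnd H hk ρ w w' hw hw' h
  have hT0 : act (Q2 Qc) T 0 = 0 := Matrix.mulVec_zero _
  have h1 := hU w
  have h2 := hM 0
  rw [hTw] at h1
  rw [hT0] at h2
  have hinv : ρ g * ρ g⁻¹ = 1 := by rw [← map_mul, mul_inv_cancel, map_one]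
  have e1 : (DU ψ hψ hnd H).eI ρ w' = ρ g * (DU ψ hψ hnd H).eI ρ w * ρ g⁻¹ := by
    rw [h1, mul_assoc, hinv, mul_one]
  have e2 : ρ g⁻¹ * (DM ψ hψ hnd H).eI ρ 0 = (DM ψ hψ hnd H).eI ρ 0 * ρ g⁻¹ := by
    have hinv' : ρ g⁻¹ * ρ g = 1 := by rw [← map_mul, inv_mul_cancel, map_one]
    calc ρ g⁻¹ * (DM ψ hψ hnd H).eI ρ 0
        = ρ g⁻¹ * ((DM ψ hψ hnd H).eI ρ 0 * ρ g) * ρ g⁻¹ := by
          rw [mul_assoc, mul_assoc, hinv, mul_one]
      _ = ρ g⁻¹ * (ρ g * (DM ψ hψ hnd H).eI ρ 0) * ρ g⁻¹ := by rw [h2]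
      _ = (DM ψ hψ hnd H).eI ρ 0 * ρ g⁻¹ := by rw [← mul_assoc, hinv', one_mul]
  rw [e1, mul_assoc, e2, ← mul_assoc, mul_assoc (ρ g), h0, mul_zero, zero_mul]

end Cfsg.Agent.Lib.Helper1.OMML

namespace Cfsg.Agent.Lib.Helper1.OMMD

open Matrix QuadraticMap Cfsg.Agent.Lib.Helper5.OrthCard
  Cfsg.Agent.Lib.Helper5.OmegaSimple Cfsg.Agent.Lib.Helper1.OMMG
  Cfsg.Agent.Lib.Helper1.OMMI Cfsg.Agent.Lib.Helper2.OMM

variable {F : Type*} [Field F] [Fintype F] [DecidableEq F]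
variable {κ : Type} [Fintype κ] [DecidableEq κ] {Qc : QuadraticForm F (κ → F)}
variable (ψ : AddChar F ℂ) (hψ : ∃ c, ψ c ≠ 1) (hnd : (polarBilin Qc).Nondegenerate)
  (H : Hyp (Q3 Qc))

/-- DICH: either the degree is at least `D ≤ 2 N` (`N` a lower bound for the sizes of the level sets),
or the representation is in a multiplicity-one configuration -/
theorem dich (hk : 1 ≤ Fintype.card κ) {k : ℕ} (ρ : Representation ℂ (GG Qc) (Fin k → ℂ))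
    (N D : ℕ) (hN0 : N ≤ Nat.card {w : K2 κ → F // w ≠ 0 ∧ Q2 Qc w = 0})
    (hNc : ∀ c : F, c ≠ 0 → N ≤ Nat.card {w : K2 κ → F // Q2 Qc w = c})
    (hD : D ≤ 2 * N)
    (hnt : ∃ w : K2 κ → F, w ≠ 0 ∧ mU ψ hψ hnd H ρ w ≠ 0) :
    D ≤ k ∨ ∃ c, LevelOne ψ hψ hnd H ρ c :=
  dich_of_level ψ hψ hnd H ρ
    (fun w w' hw hw' h => Cfsg.Agent.Lib.Helper1.OMML.mU_level ψ hψ hnd H hk ρ w w' hw hw' h)
    N D hN0 hNc hD hnt

end Cfsg.Agent.Lib.Helper1.OMMD
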