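import Mathlib
import Cfsg.Prelude
import Cfsg.Agent.Lib.Helper2.OMMDefs
import Cfsg.Agent.Lib.Helper3.OMMEichComm
import Cfsg.Agent.Lib.Helper1.OMMBlk

set_option autoImplicit false
set_option linter.unusedSectionVars false
set_option linter.unusedVariables false
set_option linter.unusedSimpArgs false
open Cfsg
open scoped commutatorElement

/-!
Farm OMM (statement S2346), unit TTRACE: the value of the character at the long root element
`t = eich V e₂ e₃` of the Levi factor, in a multiplicity-one configuration, by the fixed point formula.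
-/

namespace Cfsg.Agent.Lib.Helper1.OMMT

open Matrix QuadraticMap Cfsg.Agent.Lib.Helper5.CartanDieudonne Cfsg.Agent.Lib.Helper5.Refl
  Cfsg.Agent.Lib.Helper5.OrthCard Cfsg.Agent.Lib.Helper5.Siegel Cfsg.Agent.Lib.Helper5.QuadIsom
  Cfsg.Agent.Lib.Helper5.ReflGen Cfsg.Agent.Lib.Helper5.Eichler Cfsg.Agent.Lib.Helper5.SingGeom
  Cfsg.Agent.Lib.Helper5.OmegaGen Cfsg.Agent.Lib.Helper5.OmegaSimple Cfsg.Agent.Lib.Helper1.OMMG
  Cfsg.Agent.Lib.Helper1.OMMI Cfsg.Agent.Lib.Helper2.OMM Cfsg.Agent.Lib.Helper5.OMMLevi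
  Cfsg.Agent.Lib.Helper1.OMML

variable {F : Type*} [Field F] [Fintype F] [DecidableEq F]

section general

variable {κ : Type} [Fintype κ] [DecidableEq κ] {Qκ : QuadraticForm F (κ → F)}

theorem blk_eich_mem (H : Hyp (hypExt Qκ)) (p y : κ → F) (hp : Qκ p = 0)
    (hpy : polar ⇑Qκ p y = 0) :
    blkIsom Qκ (eich Qκ p y hp hpy) ∈ Omega F ⇑(hypExt Qκ) := by
  have h := blkHom_eich Qκ p y hp hpy
  rw [blkHom_apply] at h
  rw [h]
  exact eich_mem_Omega H _ _ _ _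

/-- an Eichler element of the Levi factor as a block embedded isometry -/
theorem eO_eq_blk (H : Hyp (hypExt Qκ)) (p y : κ → F) (hp : Qκ p = 0) (hpy : polar ⇑Qκ p y = 0)
    (h1 : hypExt Qκ (ext0 p) = 0) (h2 : polar ⇑(hypExt Qκ) (ext0 p) (ext0 y) = 0) :
    eO H (ext0 p) (ext0 y) h1 h2 =
      ⟨blkIsom Qκ (eich Qκ p y hp hpy), blk_eich_mem H p y hp hpy⟩ := by
  apply Subtype.ext
  rw [eO_coe]
  exact (blkHom_eich Qκ p y hp hpy).symm

/-- conjugation of `U` by an Eichler element of the Levi factor -/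
theorem conj_uE_eO (H : Hyp (hypExt Qκ)) (p y : κ → F) (hp : Qκ p = 0) (hpy : polar ⇑Qκ p y = 0)
    (h1 : hypExt Qκ (ext0 p) = 0) (h2 : polar ⇑(hypExt Qκ) (ext0 p) (ext0 y) = 0) (x : κ → F) :
    eO H (ext0 p) (ext0 y) h1 h2 * uE H x * (eO H (ext0 p) (ext0 y) h1 h2)⁻¹ =
      uE H (eichlerMap Qκ p y x) := by
  rw [eO_eq_blk H p y hp hpy h1 h2, conj_uE_blk, act_eich]

theorem eichlerMap_bijective (p y : κ → F) (hp : Qκ p = 0) (hpy : polar ⇑Qκ p y = 0) :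
    Function.Bijective (eichlerMap Qκ p y) := by
  have h := act_bijective (eich Qκ p y hp hpy)
  have e : act Qκ (eich Qκ p y hp hpy) = eichlerMap Qκ p y := by
    funext x
    rw [act_eich]
  rwa [e] at h

theorem polar_eichlerMap (p y : κ → F) (hp : Qκ p = 0) (hpy : polar ⇑Qκ p y = 0) (a b : κ → F) :
    polar ⇑Qκ (eichlerMap Qκ p y a) (eichlerMap Qκ p y b) = polar ⇑Qκ a b := by
  rw [← act_eich Qκ p y hp hpy, ← act_eich Qκ p y hp hpy, polar_act]

end general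

/-- the subgroup of the elements whose image commutes with a given endomorphism -/
def commSub {G : Type*} [Group G] {V : Type*} [AddCommGroup V] [Module ℂ V]
    (ρ : Representation ℂ G V) (X : Module.End ℂ V) : Subgroup G where
  carrier := {g | ρ g * X = X * ρ g}
  mul_mem' := by
    intro a b ha hb
    simp only [Set.mem_ofPred_eq] at ha hb ⊢
    rw [map_mul, mul_assoc, hb, ← mul_assoc, ha, mul_assoc]
  one_mem' := by
    simp only [Set.mem_ofPred_eq]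
    rw [map_one, one_mul, mul_one]
  inv_mem' := by
    intro a ha
    simp only [Set.mem_ofPred_eq] at ha ⊢
    have h1 : ρ a⁻¹ * ρ a = 1 := by rw [← map_mul, inv_mul_cancel, map_one]
    have h2 : ρ a * ρ a⁻¹ = 1 := by rw [← map_mul, mul_inv_cancel, map_one]
    calc ρ a⁻¹ * X = ρ a⁻¹ * (X * ρ a) * ρ a⁻¹ := by rw [mul_assoc, mul_assoc, h2, mul_one]
      _ = ρ a⁻¹ * (ρ a * X) * ρ a⁻¹ := by rw [ha]
      _ = X * ρ a⁻¹ := by rw [← mul_assoc, h1, one_mul]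

theorem mem_commSub {G : Type*} [Group G] {V : Type*} [AddCommGroup V] [Module ℂ V]
    (ρ : Representation ℂ G V) (X : Module.End ℂ V) (g : G) :
    g ∈ commSub ρ X ↔ ρ g * X = X * ρ g := Iff.rfl

variable {κ : Type} [Fintype κ] [DecidableEq κ] {Qc : QuadraticForm F (κ → F)}
variable (ψ : AddChar F ℂ) (hψ : ∃ c, ψ c ≠ 1) (hnd : (polarBilin Qc).Nondegenerate)
  (H : Hyp (Q3 Qc))

/-- `e₂` as a vector of `W` -/
abbrev e2W (F : Type*) [Field F] (κ : Type) [DecidableEq κ] : K2 κ → F := eH F (K1 κ)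
/-- `e₃` as a vector of `W` -/
abbrev e3W (F : Type*) [Field F] (κ : Type) [DecidableEq κ] : K2 κ → F := ext0 (eH F κ)
/-- the embedding of the core in `W` -/
abbrev zW (z : κ → F) : K2 κ → F := ext0 (ext0 z)

theorem Q2_e2W : Q2 Qc (e2W F κ) = 0 := hypExt_eH _

theorem Q2_e3W : Q2 Qc (e3W F κ) = 0 := by
  show hypExt (hypExt Qc) (ext0 (eH F κ)) = 0
  rw [hypExt_ext0, hypExt_eH]

theorem Q2_zW (z : κ → F) : Q2 Qc (zW z) = Qc z := by
  show hypExt (hypExt Qc) (ext0 (ext0 z)) = Qc z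
  rw [hypExt_ext0, hypExt_ext0]

theorem polar_e2W (v : K2 κ → F) : polar ⇑(Q2 Qc) (e2W F κ) v = v (Sum.inl 1) := polar_eH _ v

theorem polar_e3W (v : K2 κ → F) :
    polar ⇑(Q2 Qc) (e3W F κ) v = v (Sum.inr (Sum.inl 1)) := by
  show polar ⇑(hypExt (hypExt Qc)) (ext0 (eH F κ)) v = _
  rw [polar_comm, polar_ext0, polar_comm, polar_eH]

theorem polar_zW (z : κ → F) (v : K2 κ → F) :
    polar ⇑(Q2 Qc) (zW z) v = polar ⇑Qc z (fun k => v (Sum.inr (Sum.inr k))) := by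
  show polar ⇑(hypExt (hypExt Qc)) (ext0 (ext0 z)) v = _
  rw [polar_comm, polar_ext0, polar_ext0, polar_comm]

theorem polar_e2W_e3W : polar ⇑(Q2 Qc) (e2W F κ) (e3W F κ) = 0 := by
  rw [polar_e2W]
  rfl

theorem polar_e2W_zW (z : κ → F) : polar ⇑(Q2 Qc) (e2W F κ) (zW z) = 0 := by
  rw [polar_e2W]
  rfl

theorem polar_e3W_zW (z : κ → F) : polar ⇑(Q2 Qc) (e3W F κ) (zW z) = 0 := by
  rw [polar_e3W]
  rfl

/-- the fixed vectors of the long root element of the Levi factor -/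
theorem fix_iff (w : K2 κ → F) :
    eichlerMap (Q2 Qc) (e2W F κ) (e3W F κ) w = w ↔
      w (Sum.inl 1) = 0 ∧ w (Sum.inr (Sum.inl 1)) = 0 := by
  rw [eichlerMap_apply, polar_e2W, polar_e3W, Q2_e3W, zero_mul, add_zero]
  constructor
  · intro h
    have h1 := congrFun h (Sum.inr (Sum.inl 0))
    have h2 := congrFun h (Sum.inl 0)
    simp [e2W, e3W, eH, ext0] at h1 h2
    exact ⟨h1, h2⟩
  · rintro ⟨h1, h2⟩
    rw [h1, h2, neg_zero, zero_smul, zero_smul, add_zero, add_zero]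

variable {V : Type*} [AddCommGroup V] [Module ℂ V]

/-- an Eichler element of the Levi factor permutes the idempotents of `U` -/
theorem eI_eO (ρ : Representation ℂ (GG Qc) V) (p y : K2 κ → F) (hp : Q2 Qc p = 0)
    (hpy : polar ⇑(Q2 Qc) p y = 0) (h1 : Q3 Qc (ext0 p) = 0)
    (h2 : polar ⇑(Q3 Qc) (ext0 p) (ext0 y) = 0) (w : K2 κ → F) :
    ρ (eO H (ext0 p) (ext0 y) h1 h2) * (DU ψ hψ hnd H).eI ρ w =
      (DU ψ hψ hnd H).eI ρ (eichlerMap (Q2 Qc) p y w) * ρ (eO H (ext0 p) (ext0 y) h1 h2) := by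
  rw [eO_eq_blk (Qκ := Q2 Qc) H p y hp hpy h1 h2, eI_blk, act_eich]

theorem tE_eq : tE H = eO H (ext0 (e2W F κ)) (ext0 (e3W F κ)) (Q3_e2 Qc)
    (polar_e2_em2 Qc (eH F κ)) := rfl

/-- TTRACE: the character at the long root element of the Levi factor in a multiplicity-one
configuration -/
theorem character_tE [FiniteDimensional ℂ V] (ρ : Representation ℂ (GG Qc) V) (c : F)
    (hL : LevelOne ψ hψ hnd H ρ c)
    (hpair : ∀ b : κ → F, Qc b = c → ∃ z z' : κ → F,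
      polar ⇑Qc z b = 0 ∧ polar ⇑Qc z' b = 0 ∧ polar ⇑Qc z z' = 1) :
    ρ.character (tE H) = LinearMap.trace ℂ V (ρ (tE H) * (DU ψ hψ hnd H).eI ρ 0) +
      ∑ w : K2 κ → F, (if w ≠ 0 ∧ Q2 Qc w = c ∧ w (Sum.inl 1) = 0 ∧
        w (Sum.inr (Sum.inl 1)) = 0 then (1 : ℂ) else 0) := by
  classical
  have hpE : polar ⇑(Q2 Qc) (e2W F κ) (e3W F κ) = 0 := polar_e2W_e3W
  have hform := (DU ψ hψ hnd H).fixed_point_formula ρ (tE H)
    (eichlerMap (Q2 Qc) (e2W F κ) (e3W F κ))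
    (fun a => by
      rw [DU_u, DU_u, tE_eq]
      exact conj_uE_eO (Qκ := Q2 Qc) H (e2W F κ) (e3W F κ) Q2_e2W hpE _ _ a)
    (eichlerMap_bijective _ _ Q2_e2W hpE)
    (eichlerMap (Q2 Qc) (e2W F κ) (e3W F κ))
    (fun i a => by
      rw [DU_lam, DU_lam, polar_eichlerMap _ _ Q2_e2W hpE])
    0 (fun w => Q2 Qc w = c)
    (fun w hw hfix hP => hL.2 w hw hP)
    (fun w hw hfix hP => by
      refine ⟨hL.1 w hw hP, commSub ρ ((DU ψ hψ hnd H).eI ρ w), fun g hg => hg, ?_⟩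
      rw [fix_iff] at hfix
      obtain ⟨hw1, hw2⟩ := hfix
      -- the core part of `w`
      set b : κ → F := fun k => w (Sum.inr (Sum.inr k)) with hb
      have hQb : Qc b = c := by
        rw [← hP]
        show Qc b = hypExt (hypExt Qc) w
        rw [hypExt_apply, hw1, mul_zero, zero_add, hypExt_apply, hw2, mul_zero, zero_add]
      obtain ⟨z, z', hz, hz', hzz⟩ := hpair b hQb
      -- the two factors
      have hA1 : polar ⇑(Q2 Qc) (e2W F κ) (zW z) = 0 := polar_e2W_zW z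
      have hB1 : polar ⇑(Q2 Qc) (e3W F κ) (zW z') = 0 := polar_e3W_zW z'
      have hA3 : Q3 Qc (ext0 (e2W F κ)) = 0 := Q3_e2 Qc
      have hB3 : Q3 Qc (ext0 (e3W F κ)) = 0 := by
        show hypExt (Q2 Qc) (ext0 (e3W F κ)) = 0
        rw [hypExt_ext0, Q2_e3W]
      have hA4 : polar ⇑(Q3 Qc) (ext0 (e2W F κ)) (ext0 (zW z)) = 0 := by
        show polar ⇑(hypExt (Q2 Qc)) (ext0 (e2W F κ)) (ext0 (zW z)) = 0
        rw [polar_ext0_ext0, hA1]
      have hB4 : polar ⇑(Q3 Qc) (ext0 (e3W F κ)) (ext0 (zW z')) = 0 := by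
        show polar ⇑(hypExt (Q2 Qc)) (ext0 (e3W F κ)) (ext0 (zW z')) = 0
        rw [polar_ext0_ext0, hB1]
      set gA : GG Qc := eO H (ext0 (e2W F κ)) (ext0 (zW z)) hA3 hA4 with hgA
      set gB : GG Qc := eO H (ext0 (e3W F κ)) (ext0 (zW z')) hB3 hB4 with hgB
      have hAmem : gA ∈ commSub ρ ((DU ψ hψ hnd H).eI ρ w) := by
        rw [mem_commSub, hgA, eI_eO ψ hψ hnd H ρ (e2W F κ) (zW z) Q2_e2W hA1 hA3 hA4 w]
        congr 2
        rw [eichlerMap_apply, polar_e2W, hw1, polar_zW, hz]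
        simp
      have hBmem : gB ∈ commSub ρ ((DU ψ hψ hnd H).eI ρ w) := by
        rw [mem_commSub, hgB, eI_eO ψ hψ hnd H ρ (e3W F κ) (zW z') Q2_e3W hB1 hB3 hB4 w]
        congr 2
        rw [eichlerMap_apply, polar_e3W, hw2, polar_zW, hz']
        simp
      have hcomm : tE H = ⁅gA, gB⁆ := by
        rw [commutatorElement_def]
        apply Subtype.ext
        rw [Subgroup.coe_mul, Subgroup.coe_mul, Subgroup.coe_mul, Subgroup.coe_inv,
          Subgroup.coe_inv, hgA, hgB, eO_coe, eO_coe, tE_eq, eO_coe]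
        have hpol : polar ⇑(Q3 Qc) (ext0 (e2W F κ)) (ext0 (e3W F κ)) = 0 := by
          show polar ⇑(hypExt (Q2 Qc)) (ext0 (e2W F κ)) (ext0 (e3W F κ)) = 0
          rw [polar_ext0_ext0, hpE]
        have h31 : polar ⇑(Q3 Qc) (ext0 (e3W F κ)) (ext0 (zW z)) = 0 := by
          show polar ⇑(hypExt (Q2 Qc)) (ext0 (e3W F κ)) (ext0 (zW z)) = 0
          rw [polar_ext0_ext0, polar_e3W_zW]
        have h21 : polar ⇑(Q3 Qc) (ext0 (e2W F κ)) (ext0 (zW z')) = 0 := by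
          show polar ⇑(hypExt (Q2 Qc)) (ext0 (e2W F κ)) (ext0 (zW z')) = 0
          rw [polar_ext0_ext0, polar_e2W_zW]
        rw [Cfsg.Agent.Lib.Helper3.OMMEichComm.eich_commutator (Q3 Qc) (ext0 (e2W F κ))
          (ext0 (e3W F κ)) (ext0 (zW z)) (ext0 (zW z')) hA3 hB3 hpol hA4 h31 h21 hB4]
        apply Cfsg.Agent.Lib.Helper3.OMMEichComm.eich_congr (Q3 Qc) _ _ _ _ rfl
        have h5 : polar ⇑(Q3 Qc) (ext0 (zW z)) (ext0 (zW z')) = 1 := by
          show polar ⇑(hypExt (Q2 Qc)) (ext0 (zW z)) (ext0 (zW z')) = 1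
          rw [polar_ext0_ext0, polar_zW]
          exact hzz
        rw [h5, one_smul]
      rw [hcomm]
      exact Subgroup.commutator_mem_commutator hAmem hBmem)
  rw [hform]
  congr 1
  rw [Finset.card_filter, Nat.cast_sum]
  refine Finset.sum_congr rfl fun w _ => ?_
  have hiff : (w ≠ 0 ∧ eichlerMap (Q2 Qc) (e2W F κ) (e3W F κ) w = w ∧ Q2 Qc w = c) ↔
      (w ≠ 0 ∧ Q2 Qc w = c ∧ w (Sum.inl 1) = 0 ∧ w (Sum.inr (Sum.inl 1)) = 0) := by
    rw [fix_iff]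
    tauto
  by_cases hc : w ≠ 0 ∧ Q2 Qc w = c ∧ w (Sum.inl 1) = 0 ∧ w (Sum.inr (Sum.inl 1)) = 0
  · rw [if_pos hc, if_pos (hiff.mpr hc), Nat.cast_one]
  · rw [if_neg hc, if_neg (fun h => hc (hiff.mp h)), Nat.cast_zero]

end Cfsg.Agent.Lib.Helper1.OMMT
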