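import Mathlib
import Cfsg.Prelude
import Cfsg.Agent.Lib.Helper2.OMMDefs
import Cfsg.Agent.Lib.Helper1.OMMTTrace

set_option autoImplicit false
set_option linter.unusedSectionVars false
set_option linter.unusedVariables false
set_option linter.unusedSimpArgs false
open Cfsg

/-!
Farm OMM (statement S2346), unit NONTRIV: in an irreducible representation of degree at least `2`
some nonzero character of the unipotent radical `U` occurs.
-/

namespace Cfsg.Agent.Lib.Helper1.OMMN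

open Matrix QuadraticMap Cfsg.Agent.Lib.Helper5.CartanDieudonne Cfsg.Agent.Lib.Helper5.Refl
  Cfsg.Agent.Lib.Helper5.OrthCard Cfsg.Agent.Lib.Helper5.Siegel Cfsg.Agent.Lib.Helper5.QuadIsom
  Cfsg.Agent.Lib.Helper5.ReflGen Cfsg.Agent.Lib.Helper5.Eichler Cfsg.Agent.Lib.Helper5.SingGeom
  Cfsg.Agent.Lib.Helper5.OmegaGen Cfsg.Agent.Lib.Helper5.OmegaSimple Cfsg.Agent.Lib.Helper1.OMMG
  Cfsg.Agent.Lib.Helper1.OMMI Cfsg.Agent.Lib.Helper2.OMM Cfsg.Agent.Lib.Helper5.OMMLevi
  Cfsg.Agent.Lib.Helper1.OMML Cfsg.Agent.Lib.Helper1.OMMT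

variable {F : Type*} [Field F] [Fintype F] [DecidableEq F]
variable {κ : Type} [Fintype κ] [DecidableEq κ] {Qc : QuadraticForm F (κ → F)}
variable (ψ : AddChar F ℂ) (hψ : ∃ c, ψ c ≠ 1) (hnd : (polarBilin Qc).Nondegenerate)
  (H : Hyp (Q3 Qc))

/-- `f₂` as a vector of `W` -/
abbrev f2W (F : Type*) [Field F] (κ : Type) [DecidableEq κ] : K2 κ → F := fH F (K1 κ)

theorem Q2_f2W : Q2 Qc (f2W F κ) = 0 := hypExt_fH _

theorem polar_f2W (v : K2 κ → F) : polar ⇑(Q2 Qc) (f2W F κ) v = v (Sum.inl 0) := polar_fH _ v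

/-- the root element `uE H e₂` is not central in `Ω(V)` -/
theorem uE_e2W_not_central : uE H (e2W F κ) ∉ Subgroup.center (GG Qc) := by
  intro hc
  have hp : polar ⇑(Q2 Qc) (f2W F κ) (e3W F κ) = 0 := by
    rw [polar_f2W]
    rfl
  have h1 : Q3 Qc (ext0 (f2W F κ)) = 0 := by
    show hypExt (Q2 Qc) (ext0 (f2W F κ)) = 0
    rw [hypExt_ext0, Q2_f2W]
  have h2 : polar ⇑(Q3 Qc) (ext0 (f2W F κ)) (ext0 (e3W F κ)) = 0 := by
    show polar ⇑(hypExt (Q2 Qc)) (ext0 (f2W F κ)) (ext0 (e3W F κ)) = 0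
    rw [polar_ext0_ext0, hp]
  have hconj := conj_uE_eO (Qκ := Q2 Qc) H (f2W F κ) (e3W F κ) Q2_f2W hp h1 h2 (e2W F κ)
  have hcomm : eO H (ext0 (f2W F κ)) (ext0 (e3W F κ)) h1 h2 * uE H (e2W F κ) =
      uE H (e2W F κ) * eO H (ext0 (f2W F κ)) (ext0 (e3W F κ)) h1 h2 :=
    (Subgroup.mem_center_iff.mp hc _)
  rw [hcomm, mul_inv_cancel_right] at hconj
  have h3 := uE_injective H hconj
  rw [eichlerMap_apply, polar_f2W] at h3
  have h4 := congrFun h3 (Sum.inr (Sum.inl 0))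
  simp [e2W, e3W, f2W, eH, fH, ext0] at h4

variable {V : Type*} [AddCommGroup V] [Module ℂ V]

/-- a representation in which every element acts trivially is irreducible only in dimension one -/
theorem finrank_eq_one_of_triv {G : Type*} [Group G]
    (ρ : Representation ℂ G V) (hρ : ρ.IsIrreducible) (h : ∀ g, ρ g = 1) :
    Module.finrank ℂ V = 1 := by
  have e : Subrepresentation ρ ≃o Submodule ℂ V :=
    { toFun := fun W => W.toSubmodule
      invFun := fun U => ⟨U, fun g v hv => by rw [h g]; exact hv⟩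
      left_inv := fun W => rfl
      right_inv := fun U => rfl
      map_rel_iff' := Iff.rfl }
  have h1 : IsSimpleOrder (Submodule ℂ V) := e.isSimpleOrder_iff.mp hρ
  have h2 : IsSimpleModule ℂ V := (isSimpleModule_iff ..).mpr h1
  exact isSimpleModule_iff_finrank_eq_one.mp h2

/-- NONTRIV: some nonzero character of `U` occurs -/
theorem nontriv [FiniteDimensional ℂ V] (ρ : Representation ℂ (GG Qc) V)
    (hirr : ρ.IsIrreducible) (h2 : 2 ≤ Module.finrank ℂ V) :
    ∃ w : K2 κ → F, w ≠ 0 ∧ mU ψ hψ hnd H ρ w ≠ 0 := by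
  by_contra hcon
  push Not at hcon
  have hU : ∀ a : K2 κ → F, ρ (uE H a) = 1 := fun a =>
    rho_uE_eq_one (Qκ := Q2 Qc) ψ hψ (nd2 Qc hnd) H ρ hcon a
  let N : Subgroup (GG Qc) := MonoidHom.ker (ρ : GG Qc →* Module.End ℂ V)
  have hmem : uE H (e2W F κ) ∈ N := MonoidHom.mem_ker.mpr (hU _)
  rcases normal_le_center_or_eq_top H N with hN | hN
  · exact uE_e2W_not_central H (hN hmem)
  · have htriv : ∀ g, ρ g = 1 := by
      intro g
      have : g ∈ N := by rw [hN]; exact Subgroup.mem_top g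
      exact MonoidHom.mem_ker.mp this
    have := finrank_eq_one_of_triv ρ hirr htriv
    omega

end Cfsg.Agent.Lib.Helper1.OMMN
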