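import Mathlib
import Cfsg.Agent.Lib.Helper5.OS.Defs
import Cfsg.Agent.Lib.Helper9.OSP1
import Cfsg.Agent.Lib.Helper1.FrobeniusTheorem
import Cfsg.Agent.Lib.Helper1.FrobeniusKernelNilpotent

set_option autoImplicit false
set_option linter.unusedSectionVars false
set_option linter.unusedVariables false
set_option linter.unusedSimpArgs false
set_option linter.style.haveILetI false
set_option linter.style.longLine false
set_option maxHeartbeats 1000000

/-! # S3421 piece P3 (helper1): no subgroup of index 2 -/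

open Cfsg.Agent.Lib.Helper5.OS

namespace Cfsg.Agent.Lib.Helper1.OS

variable {G : Type*} [Group G] [Finite G] {p q n m : ℕ}

/-- If a nontrivial element of `M` is conjugated into `M` by `g`, then `g` normalizes `M`. -/
theorem mem_normalizer_of_conj_mem {M : Subgroup G} {z : G} (hM : MData G m M z)
    {g y : G} (hy : y ∈ M) (hy1 : y ≠ 1) (hg : g * y * g⁻¹ ∈ M) :
    g ∈ Subgroup.normalizer (M : Set G) := by
  rw [Subgroup.mem_normalizer_iff]
  intro x
  have h1 := hM.cent y hy hy1
  have hy' : g * y * g⁻¹ ≠ 1 := by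
    intro h0
    apply hy1
    have : y = g⁻¹ * (g * y * g⁻¹) * g := by group
    rw [this, h0]; group
  have h2 := hM.cent _ hg hy'
  constructor
  · intro hx
    have hx' : x ∈ Subgroup.centralizer ({y} : Set G) := by rw [h1]; exact hx
    rw [Subgroup.mem_centralizer_singleton_iff] at hx'
    have : g * x * g⁻¹ ∈ Subgroup.centralizer ({g * y * g⁻¹} : Set G) := by
      rw [Subgroup.mem_centralizer_singleton_iff]
      calc g * x * g⁻¹ * (g * y * g⁻¹) = g * (x * y) * g⁻¹ := by group
        _ = g * (y * x) * g⁻¹ := by rw [hx']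
        _ = g * y * g⁻¹ * (g * x * g⁻¹) := by group
    rw [h2] at this
    exact this
  · intro hx
    have hx' : g * x * g⁻¹ ∈ Subgroup.centralizer ({g * y * g⁻¹} : Set G) := by
      rw [h2]; exact hx
    rw [Subgroup.mem_centralizer_singleton_iff] at hx'
    have : x ∈ Subgroup.centralizer ({y} : Set G) := by
      rw [Subgroup.mem_centralizer_singleton_iff]
      have e1 : x * y = g⁻¹ * (g * x * g⁻¹ * (g * y * g⁻¹)) * g := by group
      have e2 : y * x = g⁻¹ * (g * y * g⁻¹ * (g * x * g⁻¹)) * g := by group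
      rw [e1, e2, hx']
    rw [h1] at this
    exact this

/-- `M` lies in every subgroup of index 2. -/
theorem le_of_index_two (h : Hyp G p q n m) {M : Subgroup G} {z : G} (hM : MData G m M z)
    {G0 : Subgroup G} (hG0 : G0.index = 2) : M ≤ G0 := by
  intro y hy
  have hyo : orderOf y ∣ m := by
    rw [← hM.card]; exact Subgroup.orderOf_dvd_natCard M hy
  have hodd : Odd (orderOf y) := h.m_odd.of_dvd_nat hyo
  obtain ⟨k, hk⟩ := hodd
  have e : y = (y ^ 2) ^ (k + 1) := by
    rw [← pow_mul]
    have : 2 * (k + 1) = orderOf y + 1 := by omega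
    rw [this, pow_succ, pow_orderOf_eq_one, one_mul]
  rw [e]
  exact G0.pow_mem (Subgroup.sq_mem_of_index_two hG0 y) _

/-- the case `N(M) ≤ G0` is impossible -/
theorem false_of_normalizer_le (h : Hyp G p q n m) {M : Subgroup G} {z : G} (hM : MData G m M z)
    {G0 : Subgroup G} (hG0 : G0.index = 2)
    (hB : Subgroup.normalizer (M : Set G) ≤ G0) : False := by
  classical
  have hMG0 : M ≤ G0 := le_of_index_two h hM hG0
  have hm3 := h.m_ge
  have hcardG0 : Nat.card G0 = q * n * m := by
    have h1 := Subgroup.card_mul_index G0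
    rw [hG0, h.card] at h1
    have : Nat.card G0 * 2 = (q * n * m) * 2 := by rw [h1]; ring
    exact Nat.eq_of_mul_eq_mul_right (by norm_num) this
  let S := {g : G // g ∉ G0}
  have hcardS : Nat.card S = q * n * m := by
    have e := Equiv.sumCompl (fun g : G => g ∈ G0)
    have h1 : Nat.card ↥G0 + Nat.card S = Nat.card G := by
      rw [← Nat.card_sum]; exact Nat.card_congr e
    rw [hcardG0, h.card] at h1
    have : q * (2 * n) * m = q * n * m + q * n * m := by ring
    omega
  letI : MulAction (↥M × ↥M) S :=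
    { smul := fun a g => ⟨(a.1 : G) * g.1 * (a.2 : G)⁻¹, by
        intro hmem
        apply g.2
        have h1 : (a.1 : G) ∈ G0 := hMG0 a.1.2
        have h2 : (a.2 : G) ∈ G0 := hMG0 a.2.2
        have : g.1 = (a.1 : G)⁻¹ * ((a.1 : G) * g.1 * (a.2 : G)⁻¹) * (a.2 : G) := by group
        rw [this]
        exact G0.mul_mem (G0.mul_mem (G0.inv_mem h1) hmem) h2⟩
      one_smul := by
        intro g
        apply Subtype.ext
        show (((1 : ↥M × ↥M).1 : ↥M) : G) * g.1 * (((1 : ↥M × ↥M).2 : ↥M) : G)⁻¹ = g.1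
        simp
      mul_smul := by
        intro a b g
        apply Subtype.ext
        show (((a * b).1 : ↥M) : G) * g.1 * (((a * b).2 : ↥M) : G)⁻¹
          = (a.1 : G) * ((b.1 : G) * g.1 * (b.2 : G)⁻¹) * (a.2 : G)⁻¹
        simp only [Prod.fst_mul, Prod.snd_mul, Subgroup.coe_mul]
        group }
  have hsm : ∀ (a : ↥M × ↥M) (g : S), ((a • g : S) : G) = (a.1 : G) * g.1 * (a.2 : G)⁻¹ :=
    fun _ _ => rfl
  have hstab : ∀ g : S, Nat.card (MulAction.stabilizer (↥M × ↥M) g) = 1 := by
    intro g
    rw [Nat.card_eq_one_iff_unique]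
    have key : ∀ a : MulAction.stabilizer (↥M × ↥M) g, a = 1 := by
      intro a
      have ha := a.2
      rw [MulAction.mem_stabilizer_iff] at ha
      have ha' : ((a.1).1 : G) * g.1 * ((a.1).2 : G)⁻¹ = g.1 := by
        rw [← hsm, ha]
      have h3 : g.1 * ((a.1).2 : G) * g.1⁻¹ = ((a.1).1 : G) := by
        have : ((a.1).1 : G)
            = (((a.1).1 : G) * g.1 * ((a.1).2 : G)⁻¹) * ((a.1).2 : G) * g.1⁻¹ := by group
        rw [this, ha']
      by_cases hy1 : ((a.1).2 : G) = 1
      · have h11 : ((a.1).1 : G) = 1 := by rw [← h3, hy1]; group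
        apply Subtype.ext
        apply Prod.ext
        · apply Subtype.ext; exact h11
        · apply Subtype.ext; exact hy1
      · exfalso
        have hgN : g.1 ∈ Subgroup.normalizer (M : Set G) :=
          mem_normalizer_of_conj_mem hM (a.1).2.2 hy1 (by rw [h3]; exact (a.1).1.2)
        exact g.2 (hB hgN)
    exact ⟨⟨fun a b => by rw [key a, key b]⟩, ⟨1⟩⟩
  have hd := Cfsg.Agent.Lib.Helper9.OS.dvd_card_of_card_stabilizer (N := ↥M × ↥M) (X := S) 1 hstab
  rw [Nat.div_one, Nat.card_prod, hM.card, hcardS] at hd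
  have hmpos : 0 < m := by omega
  have hd2 : m ∣ q * n := Nat.dvd_of_mul_dvd_mul_right hmpos hd
  have hcop : Nat.Coprime m (q * n) := Nat.Coprime.mul_right h.cop_qm.symm h.cop_nm.symm
  have h1 : m ∣ 1 := by
    have := Nat.dvd_gcd dvd_rfl hd2
    rwa [hcop] at this
  have := Nat.le_of_dvd one_pos h1
  omega

/-- the case `N(M) ≰ G0` is impossible -/
theorem false_of_not_normalizer_le (h : Hyp G p q n m) {M : Subgroup G} {z : G}
    (hM : MData G m M z)
    (hnil : ∀ N : Subgroup G, N.Normal → Group.IsNilpotent N → N = ⊥)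
    {G0 : Subgroup G} (hG0 : G0.index = 2)
    (hA : ¬ Subgroup.normalizer (M : Set G) ≤ G0) : False := by
  classical
  haveI hG0n : G0.Normal := Subgroup.normal_of_index_eq_two hG0
  have hMG0 : M ≤ G0 := le_of_index_two h hM hG0
  have hm3 := h.m_ge
  have hn2 := h.n_ge
  have hq5 := h.q5
  have hmpos : 0 < m := by omega
  have hcardG0 : Nat.card G0 = q * n * m := by
    have h1 := Subgroup.card_mul_index G0
    rw [hG0, h.card] at h1
    have : Nat.card G0 * 2 = (q * n * m) * 2 := by rw [h1]; ring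
    exact Nat.eq_of_mul_eq_mul_right (by norm_num) this
  obtain ⟨g0, hg0N, hg0⟩ := SetLike.not_le_iff_exists.mp hA
  -- `N(M) ∩ G0 = M`
  have hK : Subgroup.normalizer (M : Set G) ⊓ G0 = M := by
    symm
    have hMK : M ≤ Subgroup.normalizer (M : Set G) ⊓ G0 := le_inf Subgroup.le_normalizer hMG0
    apply Subgroup.eq_of_le_of_card_ge hMK
    have h1 : Nat.card ↥(Subgroup.normalizer (M : Set G) ⊓ G0) ∣ 2 * m := by
      rw [← hM.cardN]; exact Subgroup.card_dvd_of_le inf_le_left
    have h2 : m ∣ Nat.card ↥(Subgroup.normalizer (M : Set G) ⊓ G0) := by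
      rw [← hM.card]; exact Subgroup.card_dvd_of_le hMK
    obtain ⟨c, hc⟩ := h2
    rw [hc] at h1 ⊢
    have hc2 : c ∣ 2 := by
      have : m * c ∣ m * 2 := by rwa [mul_comm m 2]
      exact Nat.dvd_of_mul_dvd_mul_left hmpos this
    have hcle : c ≤ 2 := Nat.le_of_dvd (by norm_num) hc2
    have hcpos : 0 < c := Nat.pos_of_dvd_of_pos hc2 (by norm_num)
    rw [hM.card]
    rcases (by omega : c = 1 ∨ c = 2) with rfl | rfl
    · omega
    · exfalso
      have heq : Subgroup.normalizer (M : Set G) ⊓ G0 = Subgroup.normalizer (M : Set G) := by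
        apply Subgroup.eq_of_le_of_card_ge inf_le_left
        rw [hM.cardN, hc]; omega
      have : g0 ∈ Subgroup.normalizer (M : Set G) ⊓ G0 := by rw [heq]; exact hg0N
      exact hg0 this.2
  -- Frobenius complement in `G0`
  set M0 : Subgroup ↥G0 := M.subgroupOf G0 with hM0
  have hcardM0 : Nat.card M0 = m := by
    rw [hM0, Nat.card_congr (Subgroup.subgroupOfEquivOfLe hMG0).toEquiv, hM.card]
  have hfrob : Cfsg.IsFrobeniusComplement M0 := by
    refine ⟨?_, ?_, ?_⟩
    · intro hbot
      rw [hbot, Subgroup.card_bot] at hcardM0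
      omega
    · intro htop
      rw [htop, Subgroup.card_top, hcardG0] at hcardM0
      have h1 : q * n * m = 1 * m := by rw [hcardM0, one_mul]
      have h2 : q * n = 1 := Nat.eq_of_mul_eq_mul_right hmpos h1
      have : q * n ≥ 5 * 2 := Nat.mul_le_mul hq5 hn2
      omega
    · intro g hg
      rw [eq_bot_iff]
      intro x hx
      obtain ⟨hx1, hx2⟩ := hx
      rw [Subgroup.mem_bot]
      by_contra hxne
      obtain ⟨y, hy, hyx⟩ := (Subgroup.mem_smul_pointwise_iff_exists _ _ _).mp hx2
      rw [MulAut.smul_def, MulAut.conj_apply] at hyx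
      have hyM : (y : G) ∈ M := Subgroup.mem_subgroupOf.mp hy
      have hxM : (x : G) ∈ M := Subgroup.mem_subgroupOf.mp hx1
      have hxG : (g : G) * (y : G) * (g : G)⁻¹ = (x : G) := by
        rw [← hyx]; simp
      have hy1 : (y : G) ≠ 1 := by
        intro h0
        apply hxne
        apply Subtype.ext
        rw [← hxG, h0]; simp
      have hgN : (g : G) ∈ Subgroup.normalizer (M : Set G) :=
        mem_normalizer_of_conj_mem hM hyM hy1 (by rw [hxG]; exact hxM)
      have hgM : (g : G) ∈ M := by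
        rw [← hK]; exact ⟨hgN, g.2⟩
      exact hg (Subgroup.mem_subgroupOf.mpr hgM)
  obtain ⟨N1, hN1set, hN1n, hN1nil⟩ := Cfsg.Agent.Lib.Helper1.ThompsonFPF.frobenius_kernel_nilpotent M0 hfrob
  obtain ⟨N2, hN2set, hN2n, hN2c⟩ := Cfsg.Agent.Lib.Helper1.frobenius_theorem M0 hfrob
  have hN12 : N1 = N2 := SetLike.coe_injective (hN1set.trans hN2set.symm)
  subst hN12
  -- the image of the kernel in `G`
  set N : Subgroup G := N1.map G0.subtype with hN
  have hNnormal : N.Normal := by
    constructor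
    intro x hx g
    obtain ⟨x0, hx0, rfl⟩ := Subgroup.mem_map.mp hx
    have hmemG0 : g * (G0.subtype x0) * g⁻¹ ∈ G0 := hG0n.conj_mem _ x0.2 g
    refine Subgroup.mem_map.mpr ⟨⟨g * (G0.subtype x0) * g⁻¹, hmemG0⟩, ?_, rfl⟩
    have hx0k : x0 ∈ Cfsg.frobeniusKernel M0 := by rw [← hN1set]; exact hx0
    have hgoal : (⟨g * (G0.subtype x0) * g⁻¹, hmemG0⟩ : ↥G0) ∈ Cfsg.frobeniusKernel M0 := by
      rcases hx0k with h1 | h1
      · left
        apply Subtype.ext
        show g * (x0 : G) * g⁻¹ = 1
        rw [h1]; simp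
      · right
        intro g' hmem
        obtain ⟨y, hy, hyx⟩ := (Subgroup.mem_smul_pointwise_iff_exists _ _ _).mp hmem
        rw [MulAut.smul_def, MulAut.conj_apply] at hyx
        have hyM : (y : G) ∈ M := Subgroup.mem_subgroupOf.mp hy
        have hyxG : (g' : G) * (y : G) * (g' : G)⁻¹ = g * (x0 : G) * g⁻¹ := by
          have := congrArg Subtype.val hyx
          simpa using this
        -- `x0 = k y k⁻¹` with `k = g⁻¹ g'`
        have hx0eq : (x0 : G) = (g⁻¹ * (g' : G)) * (y : G) * (g⁻¹ * (g' : G))⁻¹ := by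
          have : (x0 : G) = g⁻¹ * (g * (x0 : G) * g⁻¹) * g := by group
          rw [this, ← hyxG]; group
        by_cases hk : g⁻¹ * (g' : G) ∈ G0
        · apply h1 ⟨g⁻¹ * (g' : G), hk⟩
          refine (Subgroup.mem_smul_pointwise_iff_exists _ _ _).mpr ⟨y, hy, ?_⟩
          rw [MulAut.smul_def, MulAut.conj_apply]
          apply Subtype.ext
          rw [hx0eq]; simp
        · -- `k g0 ∈ G0`
          have hkg0 : g⁻¹ * (g' : G) * g0 ∈ G0 := by
            rw [Subgroup.mul_mem_iff_of_index_two hG0]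
            exact ⟨fun h' => absurd h' hk, fun h' => absurd h' hg0⟩
          have hy' : g0⁻¹ * (y : G) * g0 ∈ M := by
            have hinv : g0⁻¹ ∈ Subgroup.normalizer (M : Set G) := Subgroup.inv_mem _ hg0N
            have := (Subgroup.mem_normalizer_iff.mp hinv (y : G)).mp hyM
            simpa using this
          have hy'G0 : g0⁻¹ * (y : G) * g0 ∈ G0 := hMG0 hy'
          apply h1 ⟨g⁻¹ * (g' : G) * g0, hkg0⟩
          refine (Subgroup.mem_smul_pointwise_iff_exists _ _ _).mpr
            ⟨⟨g0⁻¹ * (y : G) * g0, hy'G0⟩, Subgroup.mem_subgroupOf.mpr hy', ?_⟩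
          rw [MulAut.smul_def, MulAut.conj_apply]
          apply Subtype.ext
          rw [hx0eq]
          simp only [Subgroup.coe_mul, Subgroup.coe_inv]
          group
    rw [← hN1set] at hgoal
    exact hgoal
  have hNnil : Group.IsNilpotent N := by
    haveI := hN1nil
    exact Group.nilpotent_of_mulEquiv (N1.equivMapOfInjective G0.subtype G0.subtype_injective)
  have hNbot : N = ⊥ := hnil N hNnormal hNnil
  have hN1bot : N1 = ⊥ := by
    rw [hN] at hNbot
    exact (Subgroup.map_eq_bot_iff_of_injective N1 G0.subtype_injective).mp hNbot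
  -- then `M0 = ⊤`
  rw [hN1bot] at hN2c
  have htop : M0 = ⊤ := Subgroup.isComplement'_bot_left.mp hN2c
  exact hfrob.2.1 htop

theorem no_index_two (h : Hyp G p q n m) {M : Subgroup G} {z : G} (hM : MData G m M z)
    (hnil : ∀ N : Subgroup G, N.Normal → Group.IsNilpotent N → N = ⊥) :
    ∀ H : Subgroup G, H.index ≠ 2 := by
  intro G0 hG0
  by_cases hB : Subgroup.normalizer (M : Set G) ≤ G0
  · exact false_of_normalizer_le h hM hG0 hB
  · exact false_of_not_normalizer_le h hM hnil hG0 hB

end Cfsg.Agent.Lib.Helper1.OS
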