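import Mathlib
import Cfsg.Agent.Lib.Helper5.OS.Defs

set_option autoImplicit false
set_option linter.unusedSectionVars false
set_option linter.unusedVariables false
set_option linter.style.longLine false
set_option maxHeartbeats 1000000

/-! # S3421 piece P7c, sub-piece Q1 (helper1): `n = 2 n'` with `n'` odd when `|T ∩ A0| = 2` -/

open Cfsg.Agent.Lib.Helper5.OS

namespace Cfsg.Agent.Lib.Helper1.OS

variable {G : Type*} [Group G] [Finite G] {p q n m : ℕ}

theorem n_eq_two_mul_odd (h : Hyp G p q n m)
    {t a0 : G} {T : Sylow 2 G} (hC : CData G n t a0 T)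
    (hT2 : Nat.card ↥((T : Subgroup G) ⊓ Subgroup.zpowers a0) = 2) :
    ∃ n' : ℕ, n = 2 * n' ∧ Odd n' := by
  haveI : Fact (Nat.Prime 2) := ⟨Nat.prime_two⟩
  have hT4 : Nat.card (T : Subgroup G) = 4 := by
    have := hC.TA
    rw [hT2] at this
    omega
  have hcard := T.card_eq_multiplicity
  rw [hT4] at hcard
  -- the exponent is 2
  have hk : (Nat.card G).factorization 2 = 2 := by
    have h4 : (4 : ℕ) = 2 ^ 2 := by norm_num
    rw [h4] at hcard
    exact (Nat.pow_right_injective (le_refl 2) hcard).symm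
  have hnot8 : ¬ 8 ∣ Nat.card G := by
    have := Nat.pow_succ_factorization_not_dvd (n := Nat.card G) (Nat.card_pos.ne') Nat.prime_two
    rw [hk] at this
    simpa using this
  obtain ⟨n', hn'⟩ := h.neven
  refine ⟨n', by omega, ?_⟩
  rcases Nat.even_or_odd n' with he | ho
  · exfalso
    obtain ⟨k, hk'⟩ := he
    apply hnot8
    rw [h.card]
    refine ⟨q * k * m, ?_⟩
    rw [hn', hk']
    ring
  · exact ho

end Cfsg.Agent.Lib.Helper1.OS
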