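import Mathlib
import Cfsg.Agent.Lib.Helper5.OS.Basic
import Cfsg.Agent.Lib.Helper6.OSP8b

set_option autoImplicit false
set_option linter.unusedSectionVars false
set_option linter.unusedVariables false
set_option linter.style.longLine false
set_option maxHeartbeats 1000000

/-! # S3421 piece P7c, sub-piece Q4 (helper1): the TI property of `A1 = ⟨a0²⟩` w.r.t. `N(C(t))` -/

open Cfsg.Agent.Lib.Helper5.OS

namespace Cfsg.Agent.Lib.Helper1.OS.Q4

variable {G : Type*} [Group G] [Finite G] {p q n m : ℕ}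

theorem mem_normalizer_of_conj_mem (h : Hyp G p q n m)
    {t a0 : G} {T : Sylow 2 G} (hC : CData G n t a0 T) {u : G}
    (huA : u ∉ Subgroup.zpowers a0)
    (hall : ∀ y ∈ Subgroup.zpowers a0, Odd (orderOf y) → u * y * u⁻¹ = y)
    (hcomm : ∀ x ∈ Subgroup.centralizer ({t} : Set G), ∀ y ∈ Subgroup.centralizer ({t} : Set G), x * y = y * x)
    (hN : Nat.card ↥(Subgroup.normalizer ((Subgroup.centralizer ({t} : Set G) : Subgroup G) : Set G)) = 6 * n)
    {n' : ℕ} (hn : n = 2 * n') (hn' : Odd n') :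
    ∀ g : G, ∀ y ∈ Subgroup.zpowers (a0 ^ 2), y ≠ 1 →
      g⁻¹ * y * g ∈ Subgroup.normalizer ((Subgroup.centralizer ({t} : Set G) : Subgroup G) : Set G) →
      g ∈ Subgroup.normalizer ((Subgroup.centralizer ({t} : Set G) : Subgroup G) : Set G) := by
  intro g y hy hy1 hy'N
  have hn2 := h.n_ge
  have hnpos : 0 < n := by omega
  -- `y ∈ A0`, odd order dividing `n'`
  have hyA : y ∈ Subgroup.zpowers a0 :=
    (Subgroup.zpowers_le.mpr (Subgroup.pow_mem _ (Subgroup.mem_zpowers a0) 2)) hy
  have hord2 : orderOf (a0 ^ 2) = n' := by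
    rw [orderOf_pow_of_dvd (by norm_num) (by rw [hC.ha0, hn]; exact dvd_mul_right 2 n'), hC.ha0, hn]
    simp
  have hyo : orderOf y ∣ n' := by
    rw [← hord2]; exact orderOf_dvd_of_mem_zpowers hy
  have hyodd : Odd (orderOf y) := hn'.of_dvd_nat hyo
  -- `3 ∤ n`
  have h3n : ¬ 3 ∣ n := by
    intro h3
    have hdvd : 6 * n ∣ q * (2 * n) * m := by
      rw [← hN, ← h.card]; exact Subgroup.card_subgroup_dvd_card _
    have h3qm : 3 ∣ q * m := by
      have e1 : 6 * n = (2 * n) * 3 := by ring
      have e2 : q * (2 * n) * m = (2 * n) * (q * m) := by ring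
      rw [e1, e2] at hdvd
      exact Nat.dvd_of_mul_dvd_mul_left (by omega) hdvd
    have hcop : Nat.Coprime n (q * m) := Nat.Coprime.mul_right h.cop_qn.symm h.cop_nm
    have : 3 ∣ Nat.gcd n (q * m) := Nat.dvd_gcd h3 h3qm
    rw [hcop] at this
    omega
  have h3y : Nat.Coprime 3 (orderOf y) := by
    rw [Nat.Prime.coprime_iff_not_dvd Nat.prime_three]
    intro h3
    exact h3n ((h3.trans hyo).trans (by rw [hn]; exact dvd_mul_left n' 2))
  -- the conjugate
  obtain ⟨y', hy'def⟩ : ∃ y' : G, y' = g⁻¹ * y * g := ⟨_, rfl⟩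
  rw [← hy'def] at hy'N
  have hy'o : orderOf y' = orderOf y := by
    have := orderOf_conj_eq g⁻¹ y
    rw [inv_inv] at this
    rw [hy'def, this]
  have hy'1 : y' ≠ 1 := by
    intro h1
    apply hy1
    have : y = g * y' * g⁻¹ := by rw [hy'def]; group
    rw [this, h1]; group
  -- `y'^3 ∈ C`
  set C : Subgroup G := Subgroup.centralizer ({t} : Set G) with hCdef
  set NC : Subgroup G := Subgroup.normalizer (C : Set G) with hNCdef
  have hCNC : C ≤ NC := Subgroup.le_normalizer
  haveI : (C.subgroupOf NC).Normal := Subgroup.normal_in_normalizer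
  have hidx : (C.subgroupOf NC).index = 3 := by
    have h1 := Subgroup.card_mul_index (C.subgroupOf NC)
    rw [Nat.card_congr (Subgroup.subgroupOfEquivOfLe hCNC).toEquiv, hC.cardC, hN] at h1
    have : 2 * n * (C.subgroupOf NC).index = 2 * n * 3 := by rw [h1]; ring
    exact Nat.eq_of_mul_eq_mul_left (by omega) this
  have hy'3 : y' ^ 3 ∈ C := by
    have := Subgroup.pow_index_mem (C.subgroupOf NC) (⟨y', hy'N⟩ : ↥NC)
    rw [hidx, Subgroup.mem_subgroupOf] at this
    simpa using this
  have hy'C : y' ∈ C := by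
    obtain ⟨k, hk⟩ := exists_pow_eq_self_of_coprime (x := y') (n := 3) (by rw [hy'o]; exact h3y)
    rw [← hk]
    exact C.pow_mem hy'3 k
  have hy'A : y' ∈ Subgroup.zpowers a0 :=
    Cfsg.Agent.Lib.Helper6.OS.mem_zpowers_of_odd h hC hy'C (by rw [hy'o]; exact hyodd)
  -- centralizers
  have hcent : ∀ w ∈ Subgroup.zpowers a0, w ≠ 1 → Odd (orderOf w) →
      Subgroup.centralizer ({w} : Set G) = C := by
    intro w hw hw1 hwo
    rcases hC.cent w hw hw1 with h1 | h1
    · exfalso
      apply huA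
      rw [← h1, Subgroup.mem_centralizer_singleton_iff]
      have := hall w hw hwo
      calc u * w = (u * w * u⁻¹) * u := by group
        _ = w * u := by rw [this]
    · exact h1
  have hcy := hcent y hyA hy1 hyodd
  have hcy' := hcent y' hy'A hy'1 (by rw [hy'o]; exact hyodd)
  rw [Subgroup.mem_normalizer_iff]
  intro x
  have hyy' : y = g * y' * g⁻¹ := by rw [hy'def]; group
  constructor
  · intro hx
    have hx' : x ∈ Subgroup.centralizer ({y'} : Set G) := by rw [hcy']; exact hx
    rw [Subgroup.mem_centralizer_singleton_iff] at hx'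
    have : g * x * g⁻¹ ∈ Subgroup.centralizer ({y} : Set G) := by
      rw [Subgroup.mem_centralizer_singleton_iff, hyy']
      calc g * x * g⁻¹ * (g * y' * g⁻¹) = g * (x * y') * g⁻¹ := by group
        _ = g * (y' * x) * g⁻¹ := by rw [hx']
        _ = g * y' * g⁻¹ * (g * x * g⁻¹) := by group
    rw [hcy] at this
    exact this
  · intro hx
    have hx' : g * x * g⁻¹ ∈ Subgroup.centralizer ({y} : Set G) := by rw [hcy]; exact hx
    rw [Subgroup.mem_centralizer_singleton_iff, hyy'] at hx'
    have : x ∈ Subgroup.centralizer ({y'} : Set G) := by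
      rw [Subgroup.mem_centralizer_singleton_iff]
      have e1 : x * y' = g⁻¹ * (g * x * g⁻¹ * (g * y' * g⁻¹)) * g := by group
      have e2 : y' * x = g⁻¹ * (g * y' * g⁻¹ * (g * x * g⁻¹)) * g := by group
      rw [e1, e2, hx']
    rw [hcy'] at this
    exact this

end Cfsg.Agent.Lib.Helper1.OS.Q4
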