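import Mathlib
import Cfsg.Prelude
import Cfsg.Agent.Lib.Helper1.Og5
import Cfsg.Agent.Lib.Helper5.SpinorHyp2
import Cfsg.Agent.Lib.Helper5.OrthBridge

set_option autoImplicit false
set_option maxHeartbeats 1000000
set_option linter.unusedSectionVars false
set_option linter.unusedVariables false
set_option linter.style.longLine false
set_option linter.unusedSimpArgs false

/-! Two generators of `Ω_{2m+1}(q)`, `q` odd, `m ≥ 2`: a torus element times a short root element,
and a Coxeter element. -/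

namespace Cfsg.Agent.Lib.Helper1.Og

open Matrix QuadraticMap Cfsg Cfsg.Agent.Lib.Helper5.CartanDieudonne Cfsg.Agent.Lib.Helper5.Refl
  Cfsg.Agent.Lib.Helper5.OrthCard Cfsg.Agent.Lib.Helper5.Siegel Cfsg.Agent.Lib.Helper5.QuadIsom
  Cfsg.Agent.Lib.Helper5.ReflGen Cfsg.Agent.Lib.Helper5.Eichler Cfsg.Agent.Lib.Helper5.SingGeom
  Cfsg.Agent.Lib.Helper5.OmegaGen Cfsg.Agent.Lib.Helper5.OmegaSimple
  Cfsg.Agent.Lib.Helper5.SpinorHyp Cfsg.Agent.Lib.Helper5.SpinorHyp2
  Cfsg.Agent.Lib.Helper5.OrthBridge Cfsg.Agent.Lib.Helper5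
open scoped commutatorElement

section abstract
variable {ι : Type} [Fintype ι] [DecidableEq ι] {F : Type*} [Field F] [Fintype F]
  {Q : QuadraticForm F (ι → F)}

/-- the standing hypotheses of `OmegaSimple` from two orthogonal singular vectors and an
anisotropic vector orthogonal to both, in odd characteristic -/
theorem hyp_of_aniso (h2 : (2 : F) ≠ 0) (hQ : (polarBilin Q).Nondegenerate)
    (h5 : 5 ≤ Fintype.card ι) (e0 e2 w : ι → F) (h0 : Q e0 = 0) (h2' : Q e2 = 0)
    (h02 : polar ⇑Q e0 e2 = 0) (h0w : polar ⇑Q e0 w = 0) (h2w : polar ⇑Q e2 w = 0)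
    (hw : Q w ≠ 0) (hli : LinearIndependent F ![e0, e2]) : Hyp Q := by
  have hS1 : ∀ (u v : ι → F) (hu : Q u = 0) (hv : Q v = 0) (huv' : polar ⇑Q u v = 0) (c : F),
      siegel Q u v hu hv huv' c ∈ commutator ↥(isometryGroup F ⇑Q) := by
    intro u v hu hv huv' c
    rw [commutator_eq_closure]
    exact Subgroup.subset_closure
      (siegel_mem_commutatorSet h2 Q hQ u v hu hv huv' c _ (siegel_coe Q u v hu hv huv' c))
  have hT : T Q ≤ commutator ↥(isometryGroup F ⇑Q) := T_le_commutator Q hS1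
  have hS2 : ∀ (u v : ι → F) (hu : Q u = 0) (hv : Q v = 0) (huv' : polar ⇑Q u v = 0) (c : F),
      siegel Q u v hu hv huv' c ∈ ⁅Omega F ⇑Q, Omega F ⇑Q⁆ := by
    apply siegel_mem_of_std hQ _ e0 e2 h0 h2' h02 hli
    intro c
    have hww : polar ⇑Q w w = 2 * Q w := by
      have := QuadraticMap.polar_self Q w
      simpa using this
    have h2Q : 2 * Q w ≠ 0 := mul_ne_zero h2 hw
    set t : F := -c / (2 * Q w) with ht
    have h0tw : polar ⇑Q e0 (t • w) = 0 := by rw [polar_smul_right, h0w, smul_zero]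
    set A := eich Q e2 w h2' h2w with hA
    set B := eich Q e0 (t • w) h0 h0tw with hB
    have h20 : polar ⇑Q e2 e0 = 0 := by rw [polar_comm]; exact h02
    have hw0 : polar ⇑Q w e0 = 0 := by rw [polar_comm]; exact h0w
    have hA0 : act Q A e0 = e0 := by
      rw [hA, act_eich, eichlerMap_apply, h20, hw0]
      simp
    have hAw : act Q A (t • w) = t • w + c • e2 := by
      rw [hA, act_smul, act_eich, eichlerMap_apply, h2w, hww]
      rw [ht]
      simp only [zero_smul, add_zero, mul_zero, smul_add, smul_smul]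
      congr 1
      congr 1
      field_simp
    have key : siegel Q e0 e2 h0 h2' h02 c = ⁅A, B⁆ := by
      have h0s : polar ⇑Q e0 (t • w + c • e2) = 0 := by
        rw [polar_add_right, h0tw, polar_smul_right, h02, smul_zero, add_zero]
      have hconj : A * B * A⁻¹ = eich Q e0 (t • w + c • e2) h0 h0s := by
        rw [hB, conj_eich]
        exact eich_congr Q hA0 hAw _ _ _ _
      rw [commutatorElement_def, hconj, hB, eich_inv, eich_mul, siegel_eq_eich]
      apply eich_congr Q rfl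
      abel
    rw [key]
    exact Subgroup.commutator_mem_commutator (hT (eich_mem_T Q hQ h5 _ _ _ _))
      (hT (eich_mem_T Q hQ h5 _ _ _ _))
  exact ⟨hQ, h5, hS1, hS2⟩

section more
variable {r : ℕ} {α β : Fin r → ι}

/-- the Levi image lies in `Ω`, for every rank at least two -/
theorem levi_mem_Omega' (hyp : Hyp Q) (fam : IsHypFamily Q α β) (hr : 2 ≤ r)
    (A : Matrix.SpecialLinearGroup (Fin r) F) : levi fam hr A ∈ Omega F ⇑Q := by
  haveI : Nontrivial (Fin r) := Fin.nontrivial_iff_two_le.mpr hr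
  refine Cfsg.Agent.Lib.Helper4.transvection_induction_gen
    (fun A => levi fam hr A ∈ Omega F ⇑Q) ?_ ?_ A
  · intro i j hij c
    show levi fam hr (Matrix.SpecialLinearGroup.transvection hij c) ∈ Omega F ⇑Q
    rw [levi_transvection]
    exact X_mem_Omega hyp fam i j hij (-c)
  · intro A B hA hB
    show levi fam hr (A * B) ∈ Omega F ⇑Q
    rw [map_mul]
    exact Subgroup.mul_mem _ hA hB

variable (K : Subgroup ↥(isometryGroup F ⇑Q))

/-- transport of admissible Eichler parameters along an element of `K` -/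
theorem Z0_act' (u : ι → F) (hu : Q u = 0) (g : ↥(isometryGroup F ⇑Q)) (hg : g ∈ K)
    (hgu : Q (act Q g u) = 0) (z : ι → F) (hz : z ∈ Z0 K u hu) :
    act Q g z ∈ Z0 K (act Q g u) hgu := by
  obtain ⟨hz, hzK⟩ := hz
  have hp : polar ⇑Q (act Q g u) (act Q g z) = 0 := by rw [polar_act, hz]
  refine ⟨hp, ?_⟩
  intro t h
  have h1 : polar ⇑Q u (t • z) = 0 := by rw [polar_smul_right, hz, smul_zero]
  have := K.mul_mem (K.mul_mem hg (hzK t h1)) (K.inv_mem hg)
  rw [conj_eich] at this
  rw [eich_congr Q rfl (act_smul Q g t z).symm hgu h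
    (by rw [quad_act]; exact hu) (by rw [polar_act]; exact h1)]
  exact this

/-- admissible Eichler parameters for a multiple of `u` -/
theorem Z0_smul (u : ι → F) (hu : Q u = 0) (c : F) (hcu : Q (c • u) = 0) (z : ι → F)
    (hz : z ∈ Z0 K u hu) : z ∈ Z0 K (c • u) hcu := by
  obtain ⟨hz, hzK⟩ := hz
  refine ⟨by rw [polar_smul_left, hz, smul_zero], ?_⟩
  intro t h
  have h1 : polar ⇑Q u (t • z) = 0 := by rw [polar_smul_right, hz, smul_zero]
  have h2 : polar ⇑Q u (c • t • z) = 0 := by rw [polar_smul_right, h1, smul_zero]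
  have h3 : polar ⇑Q u ((c * t) • z) = 0 := by rw [polar_smul_right, hz, smul_zero]
  have e1 : eich Q (c • u) (t • z) hcu h = eich Q u (c • t • z) hu h2 :=
    eich_smul_left Q u (t • z) hu h1 c
  rw [e1, eich_congr Q rfl (smul_smul c t z) hu h2 hu h3]
  exact hzK (c * t) h3

/-- `g` acts as the diagonal element scaling `e_j` by `c` and `f_j` by `c⁻¹` -/
def IsTor (α β : Fin r → ι) (j : Fin r) (c : F) (g : ↥(isometryGroup F ⇑Q)) : Prop :=
  ∀ v : ι → F, act Q g v = v + ((c - 1) * v (α j)) • ev α j + ((c⁻¹ - 1) * v (β j)) • fv β j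

theorem isTor_one (j : Fin r) : IsTor α β j (1 : F) (1 : ↥(isometryGroup F ⇑Q)) := by
  intro v
  show (1 : Matrix ι ι F) *ᵥ v = _
  rw [one_mulVec]
  simp

theorem isTor_mul (fam : IsHypFamily Q α β) (j : Fin r) (c c' : F) (hc : c ≠ 0) (hc' : c' ≠ 0)
    (g g' : ↥(isometryGroup F ⇑Q)) (hg : IsTor α β j c g) (hg' : IsTor α β j c' g') :
    IsTor α β j (c * c') (g * g') := by
  intro v
  rw [act_mul, hg' v, hg]
  simp only [Pi.add_apply, Pi.smul_apply, smul_eq_mul, ev_α fam, ev_β fam, fv_α fam, fv_β fam,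
    if_pos, mul_one, mul_zero, add_zero]
  rw [mul_inv]
  module

theorem isTor_pow (fam : IsHypFamily Q α β) (j : Fin r) (c : F) (hc : c ≠ 0)
    (g : ↥(isometryGroup F ⇑Q)) (hg : IsTor α β j c g) (k : ℕ) :
    IsTor α β j (c ^ k) (g ^ k) := by
  induction k with
  | zero => rw [pow_zero, pow_zero]; exact isTor_one j
  | succ k ih =>
    rw [pow_succ, pow_succ]
    exact isTor_mul fam j _ _ (pow_ne_zero _ hc) hc _ _ ih hg

theorem isTor_pow_card (fam : IsHypFamily Q α β) (j : Fin r) (c : F) (hc : c ≠ 0)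
    (g : ↥(isometryGroup F ⇑Q)) (hg : IsTor α β j c g) : g ^ Fintype.card F = g := by
  apply ext_act
  intro v
  have := isTor_pow fam j c hc g hg (Fintype.card F) v
  rw [FiniteField.pow_card] at this
  rw [this, hg v]

theorem quad_ev_add_fv (fam : IsHypFamily Q α β) (j : Fin r) (a b : F) :
    Q (a • ev α j + b • fv β j) = a * b := by
  rw [QuadraticMap.map_add Q, QuadraticMap.map_smul, QuadraticMap.map_smul, quad_ev fam,
    quad_fv fam, polar_smul_left, polar_smul_right, polar_ev fam, fv_β fam, if_pos rfl]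
  simp

/-- the torus element scaling `e_j` by `d²` -/
noncomputable def tor (fam : IsHypFamily Q α β) (j : Fin r) (d : F) (hd : d ≠ 0) :
    ↥(isometryGroup F ⇑Q) :=
  reflection Q ((1 : F) • ev α j + (1 : F) • fv β j)
      (by rw [quad_ev_add_fv fam]; simp) *
    reflection Q (d⁻¹ • ev α j + d • fv β j)
      (by rw [quad_ev_add_fv fam, inv_mul_cancel₀ hd]; exact one_ne_zero)

theorem tor_mem_Omega (hyp : Hyp Q) (fam : IsHypFamily Q α β) (j : Fin r) (d : F) (hd : d ≠ 0) :
    tor fam j d hd ∈ Omega F ⇑Q := by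
  unfold tor
  apply rr_mem_Omega hyp
  rw [quad_ev_add_fv fam, quad_ev_add_fv fam, inv_mul_cancel₀ hd, mul_one]

theorem isTor_tor (fam : IsHypFamily Q α β) (j : Fin r) (d : F) (hd : d ≠ 0) :
    IsTor α β j (d ^ 2) (tor fam j d hd) := by
  intro v
  unfold tor
  rw [act_rr _ _ (by rw [quad_ev_add_fv fam, mul_one])
    (by rw [quad_ev_add_fv fam, inv_mul_cancel₀ hd])]
  simp only [polar_add_left, polar_add_right, polar_smul_left, polar_smul_right, polar_ev fam,
    polar_fv fam, smul_eq_mul, Pi.add_apply, Pi.smul_apply, ev_α fam, ev_β fam, fv_α fam,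
    fv_β fam, if_pos, mul_one, mul_zero, add_zero, zero_add, one_mul]
  have h1 : d⁻¹ * d = 1 := inv_mul_cancel₀ hd
  have h2 : (d ^ 2)⁻¹ = d⁻¹ * d⁻¹ := by rw [pow_two, mul_inv]
  rw [h2]
  match_scalars
  · rfl
  · linear_combination (v (β j)) * h1
  · linear_combination (v (α j)) * h1

end more

section weyl
open Cfsg.Agent.Lib.Helper6.SLTwoGen

variable {n : ℕ}

theorem sgn_mul_self (j : Fin (n + 1)) : sgn n F j * sgn n F j = 1 := by
  unfold sgn
  split_ifs
  · rw [← mul_pow]; simp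
  · simp

theorem sgn_ne_zero (j : Fin (n + 1)) : sgn n F j ≠ 0 := by
  intro h
  have := sgn_mul_self (F := F) j
  rw [h, mul_zero] at this
  exact zero_ne_one this

theorem sgn_of_ne (j : Fin (n + 1)) (hj : j ≠ 0) : sgn n F j = 1 := by
  unfold sgn
  rw [if_neg hj]

theorem wMat_mulVec (x : Fin (n + 1) → F) (i : Fin (n + 1)) :
    (wMat n F *ᵥ x) i = sgn n F (i + 1) * x (i + 1) := by
  rw [Matrix.mulVec, dotProduct, Finset.sum_eq_single (i + 1)]
  · rw [wMat_apply, if_pos rfl]
  · intro j _ hj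
    rw [wMat_apply, if_neg hj, zero_mul]
  · intro h
    exact absurd (Finset.mem_univ _) h

theorem wMat_mul_transpose : wMat n F * (wMat n F)ᵀ = 1 := by
  ext i k
  rw [Matrix.mul_apply, Matrix.one_apply]
  simp only [Matrix.transpose_apply, wMat_apply]
  rw [Finset.sum_eq_single (i + 1)]
  · rw [if_pos rfl]
    by_cases hik : i = k
    · rw [if_pos hik, if_pos (by rw [hik]), sgn_mul_self]
    · rw [if_neg hik, if_neg (fun h => hik (add_right_cancel h)), mul_zero]
  · intro j _ hj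
    rw [if_neg hj, zero_mul]
  · intro h
    exact absurd (Finset.mem_univ _) h

theorem wEl_inv_transpose : ((((wEl n F)⁻¹ : Matrix.SpecialLinearGroup (Fin (n + 1)) F)).1)ᵀ
    = wMat n F := by
  set B : Matrix.SpecialLinearGroup (Fin (n + 1)) F :=
    ⟨(wMat n F)ᵀ, by rw [Matrix.det_transpose]; exact det_wMat n⟩ with hB
  have h1 : wEl n F * B = 1 := by
    apply Subtype.ext
    rw [Matrix.SpecialLinearGroup.coe_mul]
    exact wMat_mul_transpose
  have h2 : B = (wEl n F)⁻¹ := eq_inv_of_mul_eq_one_right h1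
  rw [← h2]
  exact Matrix.transpose_transpose _

variable {α β : Fin (n + 1) → ι}

theorem act_levi_wEl_α (fam : IsHypFamily Q α β) (hn : 1 ≤ n) (v : ι → F) (t : Fin (n + 1)) :
    act Q (levi fam (by omega) (wEl n F)) v (α t) = sgn n F (t + 1) * v (α (t + 1)) := by
  show ((levi0 fam (wEl n F)).1 *ᵥ v) (α t) = _
  rw [levi0_mulVec_α]
  show (wMat n F *ᵥ (v ∘ α)) t = _
  rw [wMat_mulVec]
  rfl

theorem act_levi_wEl_β (fam : IsHypFamily Q α β) (hn : 1 ≤ n) (v : ι → F) (t : Fin (n + 1)) :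
    act Q (levi fam (by omega) (wEl n F)) v (β t) = sgn n F (t + 1) * v (β (t + 1)) := by
  show ((levi0 fam (wEl n F)).1 *ᵥ v) (β t) = _
  rw [levi0_mulVec_β, wEl_inv_transpose, wMat_mulVec]
  rfl

theorem act_levi_wEl_rest (fam : IsHypFamily Q α β) (hn : 1 ≤ n) (v : ι → F) (k : ι)
    (hα : ∀ t, k ≠ α t) (hβ : ∀ t, k ≠ β t) :
    act Q (levi fam (by omega) (wEl n F)) v k = v k := by
  show ((levi0 fam (wEl n F)).1 *ᵥ v) k = _
  rw [levi0_mulVec_rest fam _ v k hα hβ]

end weyl

end abstract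

section odd
open Cfsg.Agent.Lib.Helper6.SLTwoGen

variable {F : Type*} [Field F] [Fintype F] {n : ℕ}

/-- the index type of the odd-dimensional form -/
abbrev Io (n : ℕ) : Type := Unit ⊕ (Fin (n + 1) ⊕ Fin (n + 1))

/-- the `e`-indices -/
def αo (n : ℕ) : Fin (n + 1) → Io n := fun t => Sum.inr (Sum.inl t)

/-- the `f`-indices -/
def βo (n : ℕ) : Fin (n + 1) → Io n := fun t => Sum.inr (Sum.inr t)

omit [Fintype F] in
theorem famO (n : ℕ) : IsHypFamily (oddForm (n + 1) F) (αo n) (βo n) where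
  inj_α := fun _ _ hst => Sum.inl_injective (Sum.inr_injective hst)
  inj_β := fun _ _ hst => Sum.inr_injective (Sum.inr_injective hst)
  disj := fun _ _ hst => Sum.inl_ne_inr (Sum.inr_injective hst)
  polar_α := fun t v => by
    rw [polar_oddForm]
    simp [Pi.single_apply, αo, βo]
  polar_β := fun t v => by
    rw [polar_oddForm]
    simp [Pi.single_apply, αo, βo]
  sing_α := fun t => by
    rw [oddForm_apply]
    simp [Cfsg.quadFormOdd, αo]
  sing_β := fun t => by
    rw [oddForm_apply]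
    simp [Cfsg.quadFormOdd, βo]

/-- the anisotropic basis vector -/
def omv (n : ℕ) : Io n → F := Pi.single (Sum.inl ()) 1

omit [Fintype F] in
theorem omv_α (t : Fin (n + 1)) : omv (F := F) n (αo n t) = 0 := by simp [omv, αo]

omit [Fintype F] in
theorem omv_β (t : Fin (n + 1)) : omv (F := F) n (βo n t) = 0 := by simp [omv, βo]

omit [Fintype F] in
theorem omv_0 : omv (F := F) n (Sum.inl ()) = 1 := by simp [omv]

omit [Fintype F] in
theorem ev_0 (t : Fin (n + 1)) : ev (F := F) (αo n) t (Sum.inl ()) = 0 := by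
  simp [ev, αo]

omit [Fintype F] in
theorem fv_0 (t : Fin (n + 1)) : fv (F := F) (βo n) t (Sum.inl ()) = 0 := by
  simp [fv, βo]

omit [Fintype F] in
theorem polar_omv (v : Io n → F) :
    polar ⇑(oddForm (n + 1) F) (omv n) v = 2 * v (Sum.inl ()) := by
  rw [polar_oddForm]
  simp [omv]

omit [Fintype F] in
theorem polar_omv' (v : Io n → F) :
    polar ⇑(oddForm (n + 1) F) v (omv n) = 2 * v (Sum.inl ()) := by
  rw [polar_comm, polar_omv]

omit [Fintype F] in
theorem quad_omv : oddForm (n + 1) F (omv n) = 1 := by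
  rw [oddForm_apply]
  simp [Cfsg.quadFormOdd, omv]

theorem hypO (hn : 1 ≤ n) (h2 : (2 : F) ≠ 0) : Hyp (oddForm (n + 1) F) := by
  have fam := famO (F := F) n
  have h01 : (0 : Fin (n + 1)) ≠ 1 := fin01 hn
  refine hyp_of_aniso h2 (oddForm_nondegenerate h2 (n + 1))
    (by simp only [Fintype.card_sum, Fintype.card_fin, Fintype.card_unit]; omega)
    (ev (αo n) 0) (ev (αo n) 1) (omv n) (quad_ev fam 0) (quad_ev fam 1)
    (by rw [polar_ev fam, ev_β fam]) (by rw [polar_ev fam, omv_β]) (by rw [polar_ev fam, omv_β])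
    (by rw [quad_omv]; exact one_ne_zero) ?_
  rw [LinearIndependent.pair_iff]
  intro s t hst
  have e0 := congrFun hst (αo n 0)
  have e1 := congrFun hst (αo n 1)
  simp only [Pi.add_apply, Pi.smul_apply, smul_eq_mul, ev_α fam, Pi.zero_apply, if_pos,
    if_neg h01, if_neg h01.symm, mul_one, mul_zero, add_zero, zero_add] at e0 e1
  exact ⟨e0, e1⟩

/-- the Levi image of the cyclic monomial matrix -/
noncomputable def cEl (hn : 1 ≤ n) : ↥(isometryGroup F ⇑(oddForm (n + 1) F)) :=
  levi (famO n) (by omega) (wEl n F)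

theorem act_cEl_ev (hn : 1 ≤ n) (t : Fin (n + 1)) :
    act (oddForm (n + 1) F) (cEl hn) (ev (αo n) (t + 1)) = sgn n F (t + 1) • ev (αo n) t := by
  have fam := famO (F := F) n
  funext k
  rcases k with ⟨⟩ | t' | t'
  · unfold cEl
    rw [act_levi_wEl_rest (famO n) hn _ _ (by intro t; simp [αo]) (by intro t; simp [βo])]
    rw [Pi.smul_apply, ev_0, ev_0, smul_zero]
  · show act (oddForm (n + 1) F) (cEl hn) (ev (αo n) (t + 1)) (αo n t') =
      (sgn n F (t + 1) • ev (αo n) t) (αo n t')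
    unfold cEl
    rw [act_levi_wEl_α (famO n) hn, Pi.smul_apply, ev_α fam, ev_α fam, smul_eq_mul]
    by_cases h : t = t'
    · rw [if_pos h, if_pos (by rw [h]), h]
    · rw [if_neg h, if_neg (fun h' => h (add_right_cancel h')), mul_zero, mul_zero]
  · show act (oddForm (n + 1) F) (cEl hn) (ev (αo n) (t + 1)) (βo n t') =
      (sgn n F (t + 1) • ev (αo n) t) (βo n t')
    unfold cEl
    rw [act_levi_wEl_β (famO n) hn, Pi.smul_apply, ev_β fam, ev_β fam, smul_zero, mul_zero]

theorem act_cEl_fv (hn : 1 ≤ n) (t : Fin (n + 1)) :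
    act (oddForm (n + 1) F) (cEl hn) (fv (βo n) (t + 1)) = sgn n F (t + 1) • fv (βo n) t := by
  have fam := famO (F := F) n
  funext k
  rcases k with ⟨⟩ | t' | t'
  · unfold cEl
    rw [act_levi_wEl_rest (famO n) hn _ _ (by intro t; simp [αo]) (by intro t; simp [βo])]
    rw [Pi.smul_apply, fv_0, fv_0, smul_zero]
  · show act (oddForm (n + 1) F) (cEl hn) (fv (βo n) (t + 1)) (αo n t') =
      (sgn n F (t + 1) • fv (βo n) t) (αo n t')
    unfold cEl
    rw [act_levi_wEl_α (famO n) hn, Pi.smul_apply, fv_α fam, fv_α fam, smul_zero, mul_zero]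
  · show act (oddForm (n + 1) F) (cEl hn) (fv (βo n) (t + 1)) (βo n t') =
      (sgn n F (t + 1) • fv (βo n) t) (βo n t')
    unfold cEl
    rw [act_levi_wEl_β (famO n) hn, Pi.smul_apply, fv_β fam, fv_β fam, smul_eq_mul]
    by_cases h : t = t'
    · rw [if_pos h, if_pos (by rw [h]), h]
    · rw [if_neg h, if_neg (fun h' => h (add_right_cancel h')), mul_zero, mul_zero]

theorem act_cEl_om (hn : 1 ≤ n) :
    act (oddForm (n + 1) F) (cEl hn) (omv n) = omv n := by
  funext k
  rcases k with ⟨⟩ | t' | t'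
  · unfold cEl
    rw [act_levi_wEl_rest (famO n) hn _ _ (by intro t; simp [αo]) (by intro t; simp [βo])]
  · show act (oddForm (n + 1) F) (cEl hn) (omv n) (αo n t') = omv n (αo n t')
    unfold cEl
    rw [act_levi_wEl_α (famO n) hn, omv_α, omv_α, mul_zero]
  · show act (oddForm (n + 1) F) (cEl hn) (omv n) (βo n t') = omv n (βo n t')
    unfold cEl
    rw [act_levi_wEl_β (famO n) hn, omv_β, omv_β, mul_zero]

/-- the short-root Weyl element -/
noncomputable def wS (n : ℕ) (F : Type*) [Field F] [Fintype F] :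
    ↥(isometryGroup F ⇑(oddForm (n + 1) F)) :=
  reflection (oddForm (n + 1) F) (omv n) (by rw [quad_omv]; exact one_ne_zero) *
    reflection (oddForm (n + 1) F) ((1 : F) • ev (αo n) 0 + (1 : F) • fv (βo n) 0)
      (by rw [quad_ev_add_fv (famO n)]; simp)

theorem act_wS (v : Io n → F) :
    act (oddForm (n + 1) F) (wS n F) v =
      v - (v (βo n 0) + v (αo n 0)) • (ev (αo n) 0 + fv (βo n) 0) -
        (2 * v (Sum.inl ())) • omv n := by
  have fam := famO (F := F) n
  unfold wS
  rw [act_rr _ _ quad_omv (by rw [quad_ev_add_fv (famO n)]; simp)]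
  simp only [polar_add_left, polar_smul_left, polar_ev fam, polar_fv fam, polar_omv, smul_eq_mul,
    Pi.add_apply, Pi.smul_apply, ev_0, fv_0, one_mul, mul_zero, add_zero, one_smul, sub_zero]

theorem wS_mem_Omega (hyp : Hyp (oddForm (n + 1) F)) : wS n F ∈ Omega F ⇑(oddForm (n + 1) F) := by
  unfold wS
  apply rr_mem_Omega hyp
  rw [quad_ev_add_fv (famO n), quad_omv, mul_one]

/-- the Coxeter element -/
noncomputable def cox (hn : 1 ≤ n) : ↥(isometryGroup F ⇑(oddForm (n + 1) F)) :=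
  wS n F * cEl hn

theorem cox_mem_Omega (hyp : Hyp (oddForm (n + 1) F)) (hn : 1 ≤ n) :
    cox (F := F) hn ∈ Omega F ⇑(oddForm (n + 1) F) :=
  Subgroup.mul_mem _ (wS_mem_Omega hyp) (levi_mem_Omega' hyp (famO n) (by omega) _)

theorem act_cox_ev (hn : 1 ≤ n) (t : Fin (n + 1)) (ht : t ≠ 0) :
    act (oddForm (n + 1) F) (cox hn) (ev (αo n) (t + 1)) = sgn n F (t + 1) • ev (αo n) t := by
  have fam := famO (F := F) n
  unfold cox
  rw [act_mul, act_cEl_ev, act_smul, act_wS, ev_β fam, ev_α fam, if_neg ht, ev_0]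
  simp

theorem act_cox_ev1 (hn : 1 ≤ n) :
    act (oddForm (n + 1) F) (cox hn) (ev (αo n) 1) = -fv (βo n) 0 := by
  have fam := famO (F := F) n
  have h1 : (1 : Fin (n + 1)) = 0 + 1 := (zero_add 1).symm
  have h01 : (0 : Fin (n + 1)) + 1 ≠ 0 := by rw [zero_add]; exact (fin01 hn).symm
  unfold cox
  rw [h1, act_mul, act_cEl_ev, act_smul, act_wS, ev_β fam, ev_α fam, if_pos rfl, ev_0,
    sgn_of_ne _ h01]
  module

theorem act_cox_fv (hn : 1 ≤ n) (t : Fin (n + 1)) (ht : t ≠ 0) :
    act (oddForm (n + 1) F) (cox hn) (fv (βo n) (t + 1)) = sgn n F (t + 1) • fv (βo n) t := by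
  have fam := famO (F := F) n
  unfold cox
  rw [act_mul, act_cEl_fv, act_smul, act_wS, fv_β fam, fv_α fam, if_neg ht, fv_0]
  simp

theorem act_cox_fv1 (hn : 1 ≤ n) :
    act (oddForm (n + 1) F) (cox hn) (fv (βo n) 1) = -ev (αo n) 0 := by
  have fam := famO (F := F) n
  have h1 : (1 : Fin (n + 1)) = 0 + 1 := (zero_add 1).symm
  have h01 : (0 : Fin (n + 1)) + 1 ≠ 0 := by rw [zero_add]; exact (fin01 hn).symm
  unfold cox
  rw [h1, act_mul, act_cEl_fv, act_smul, act_wS, fv_β fam, fv_α fam, if_pos rfl, fv_0,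
    sgn_of_ne _ h01]
  module

theorem act_cox_om (hn : 1 ≤ n) :
    act (oddForm (n + 1) F) (cox hn) (omv n) = -omv n := by
  unfold cox
  rw [act_mul, act_cEl_om, act_wS, omv_α, omv_β, omv_0]
  module

/-- the short root subgroup at `u` lies in `K` -/
def PO (K : Subgroup ↥(isometryGroup F ⇑(oddForm (n + 1) F))) (u : Io n → F) : Prop :=
  ∃ hu : oddForm (n + 1) F u = 0, omv n ∈ Z0 K u hu

theorem PO_cox (hn : 1 ≤ n) (K : Subgroup ↥(isometryGroup F ⇑(oddForm (n + 1) F)))
    (hb : cox hn ∈ K) (u : Io n → F) (h : PO K u) :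
    PO K (act (oddForm (n + 1) F) (cox hn) u) := by
  obtain ⟨hu, hω⟩ := h
  have hgu : oddForm (n + 1) F (act (oddForm (n + 1) F) (cox hn) u) = 0 := by
    rw [quad_act]; exact hu
  refine ⟨hgu, ?_⟩
  have h1 := Z0_act' K u hu (cox hn) hb hgu (omv n) hω
  rw [act_cox_om] at h1
  have h2 := (Z0 K _ hgu).neg_mem h1
  rwa [neg_neg] at h2

theorem PO_of_smul (K : Subgroup ↥(isometryGroup F ⇑(oddForm (n + 1) F)))
    (u : Io n → F) (c : F) (hc : c ≠ 0) (h : PO K (c • u)) : PO K u := by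
  obtain ⟨hcu, hω⟩ := h
  have hu : oddForm (n + 1) F u = 0 := by
    rw [QuadraticMap.map_smul, smul_eq_mul] at hcu
    exact (mul_eq_zero.mp hcu).resolve_left (mul_ne_zero hc hc)
  have e : c⁻¹ • c • u = u := by rw [smul_smul, inv_mul_cancel₀ hc, one_smul]
  have hu' : oddForm (n + 1) F (c⁻¹ • c • u) = 0 := by rw [e]; exact hu
  have h1 := Z0_smul K (c • u) hcu c⁻¹ hu' (omv n) hω
  refine ⟨hu, ?_⟩
  have key : ∀ (u' : Io n → F) (hu'' : oddForm (n + 1) F u' = 0), u' = u →
      omv n ∈ Z0 K u' hu'' → omv n ∈ Z0 K u hu := by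
    intro u' hu'' he hm
    subst he
    exact hm
  exact key _ hu' e h1

theorem cycle_ind (hn : 1 ≤ n) (P : (Io n → F) → Prop) (u : Fin (n + 1) → (Io n → F))
    (hstep : ∀ t : Fin (n + 1), t ≠ 0 → P (u (t + 1)) → P (u t)) (h0 : P (u 0)) :
    ∀ t, P (u t) := by
  have key : ∀ d : ℕ, ∀ t : Fin (n + 1), t.val + d = n → t ≠ 0 → P (u t) := by
    intro d
    induction d with
    | zero =>
      intro t ht ht0
      apply hstep t ht0
      have hlast : t = Fin.last n := Fin.ext (by rw [Fin.val_last]; omega)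
      have : t + 1 = 0 := by
        apply Fin.ext
        rw [Fin.val_add_one, if_pos hlast]
        rfl
      rw [this]
      exact h0
    | succ d ih =>
      intro t ht ht0
      apply hstep t ht0
      have hlast : t ≠ Fin.last n := by
        intro h
        rw [h, Fin.val_last] at ht
        omega
      have hv : (t + 1).val = t.val + 1 := by rw [Fin.val_add_one, if_neg hlast]
      apply ih (t + 1) (by rw [hv]; omega)
      intro h
      rw [h] at hv
      simp at hv
  intro t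
  by_cases ht : t = 0
  · rw [ht]; exact h0
  · exact key (n - t.val) t (by have := t.2; omega) ht

/-- every element of a finite field of odd characteristic is a sum of two squares -/
theorem sum_two_sq_odd (h2 : (2 : F) ≠ 0) (x : F) : ∃ a b : F, a * a + b * b = x := by
  classical
  have hc : ringChar F ≠ 2 := by
    intro hc
    apply h2
    have := ringChar.Nat.cast_ringChar (R := F)
    rw [hc] at this
    exact_mod_cast this
  have hodd := FiniteField.odd_card_of_char_ne_two hc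
  obtain ⟨a, b, hab⟩ := FiniteField.exists_root_sum_quadratic (R := F)
    (f := Polynomial.X ^ 2) (g := Polynomial.X ^ 2 - Polynomial.C x)
    (Polynomial.degree_X_pow 2) (Polynomial.degree_X_pow_sub_C (by decide) _) hodd
  refine ⟨a, b, ?_⟩
  simp only [Polynomial.eval_pow, Polynomial.eval_X, Polynomial.eval_sub, Polynomial.eval_C] at hab
  linear_combination hab

/-- `Ω_{2m+1}(q)`, `q` odd, `m ≥ 2`, is generated by two elements -/
theorem two_gen_odd (hn : 1 ≤ n) (h2 : (2 : F) ≠ 0) :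
    ∃ a b : ↥(Omega F ⇑(oddForm (n + 1) F)),
      Subgroup.closure ({a, b} : Set ↥(Omega F ⇑(oddForm (n + 1) F))) = ⊤ := by
  set Q := oddForm (n + 1) F with hQ
  have fam := famO (F := F) n
  have hyp : Hyp Q := hypO hn h2
  have h01 : (0 : Fin (n + 1)) ≠ 1 := fin01 hn
  obtain ⟨k, hk⟩ := IsCyclic.exists_generator (α := Fˣ)
  have hk0 : (k : F) ≠ 0 := k.ne_zero
  have hki : ((k : F))⁻¹ ≠ 0 := inv_ne_zero hk0
  have hu0 : Q (ev (αo n) 0) = 0 := quad_ev fam 0
  have h0ω : ∀ t : F, polar ⇑Q (ev (αo n) 0) (t • omv n) = 0 := by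
    intro t
    rw [polar_smul_right, polar_ev fam, omv_β, smul_zero]
  set E : F → ↥(isometryGroup F ⇑Q) :=
    fun t => eich Q (ev (αo n) 0) (t • omv n) hu0 (h0ω t) with hE
  set y := E 1 with hy
  set s := tor fam 1 (k : F)⁻¹ hki with hs
  set b := cox (F := F) hn with hb
  set μ : F := (k : F) ^ 2 with hμ
  have hsT : IsTor (αo n) (βo n) 1 (((k : F)⁻¹) ^ 2) s := isTor_tor fam 1 _ hki
  have hc0 : ((k : F)⁻¹) ^ 2 ≠ 0 := pow_ne_zero _ hki
  have hcμ : ((((k : F))⁻¹) ^ 2)⁻¹ = μ := by rw [inv_pow, inv_inv]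
  have hs_e0 : act Q s (ev (αo n) 0) = ev (αo n) 0 := by
    rw [hsT, ev_α fam, ev_β fam, if_neg h01]
    simp
  have hs_om : act Q s (omv n) = omv n := by
    rw [hsT, omv_α, omv_β]
    simp
  have hs_f1 : act Q s (fv (βo n) 1) = μ • fv (βo n) 1 := by
    rw [hsT, fv_α fam, fv_β fam, if_pos rfl, hcμ]
    module
  have hcomm : Commute y s := by
    apply commute_eich_of_fix s _ _ hu0 (h0ω 1) hs_e0
    rw [act_smul, hs_om]
  have hyq : y ^ Fintype.card F = 1 := eich_pow_card _ _ hu0 (h0ω 1)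
  have hsq : s ^ Fintype.card F = s := isTor_pow_card fam 1 _ hc0 s hsT
  have hyΩ : y ∈ Omega F ⇑Q := eich_mem_Omega hyp _ _ _ _
  have hsΩ : s ∈ Omega F ⇑Q := tor_mem_Omega hyp fam 1 _ hki
  have hbΩ : b ∈ Omega F ⇑Q := cox_mem_Omega hyp hn
  have haΩ : s * y ∈ Omega F ⇑Q := Subgroup.mul_mem _ hsΩ hyΩ
  refine ⟨⟨s * y, haΩ⟩, ⟨b, hbΩ⟩, ?_⟩
  set H : Subgroup ↥(Omega F ⇑Q) :=
    Subgroup.closure ({⟨s * y, haΩ⟩, ⟨b, hbΩ⟩} : Set ↥(Omega F ⇑Q)) with hH
  set K := Kof H with hK
  have haK : s * y ∈ K := by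
    rw [hK, mem_Kof]
    exact ⟨haΩ, Subgroup.subset_closure (by simp)⟩
  have hbK : b ∈ K := by
    rw [hK, mem_Kof]
    exact ⟨hbΩ, Subgroup.subset_closure (by simp)⟩
  have hsK : s ∈ K := by
    have := K.pow_mem haK (Fintype.card F)
    rw [hcomm.symm.mul_pow, hyq, mul_one, hsq] at this
    exact this
  have hyK : y ∈ K := by
    have := K.mul_mem (K.inv_mem hsK) haK
    rwa [inv_mul_cancel_left] at this
  -- the conjugate torus element
  have hbi_e0 : act Q b⁻¹ (ev (αo n) 0) = -fv (βo n) 1 := by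
    have := act_inv_act Q b⁻¹ (fv (βo n) 1)
    rw [inv_inv, hb, act_cox_fv1, act_neg] at this
    rw [hb]
    exact neg_eq_iff_eq_neg.mp this
  have hbi_om : act Q b⁻¹ (omv n) = -omv n := by
    have := act_inv_act Q b⁻¹ (omv n)
    rw [inv_inv, hb, act_cox_om, act_neg] at this
    rw [hb]
    exact neg_eq_iff_eq_neg.mp this
  set g' := b * s * b⁻¹ with hg'
  have hg'K : g' ∈ K := K.mul_mem (K.mul_mem hbK hsK) (K.inv_mem hbK)
  have hg'e0 : act Q g' (ev (αo n) 0) = μ • ev (αo n) 0 := by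
    rw [hg', act_mul, act_mul, hbi_e0, act_neg, hs_f1, act_neg, act_smul, hb, act_cox_fv1]
    module
  have hg'om : act Q g' (omv n) = omv n := by
    rw [hg', act_mul, act_mul, hbi_om, act_neg, hs_om, act_neg, hb, act_cox_om, neg_neg]
  have hstep : ∀ t, E t ∈ K → E (μ * t) ∈ K := by
    intro t ht
    have h1 := K.mul_mem (K.mul_mem hg'K ht) (K.inv_mem hg'K)
    rw [hE] at h1
    simp only at h1
    rw [conj_eich] at h1
    have hμu : Q (μ • ev (αo n) 0) = 0 := by
      rw [QuadraticMap.map_smul, hu0, smul_zero]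
    have hμz : polar ⇑Q (μ • ev (αo n) 0) (t • omv n) = 0 := by
      rw [polar_smul_left, h0ω, smul_zero]
    have h2' : polar ⇑Q (ev (αo n) 0) (μ • t • omv n) = 0 := by
      rw [polar_smul_right, h0ω, smul_zero]
    have e1 : eich Q (μ • ev (αo n) 0) (t • omv n) hμu hμz =
        eich Q (ev (αo n) 0) (μ • t • omv n) hu0 h2' :=
      eich_smul_left Q (ev (αo n) 0) (t • omv n) hu0 (h0ω t) μ
    rw [eich_congr Q hg'e0 (by rw [act_smul, hg'om]) _ _ hμu hμz, e1,
      eich_congr Q rfl (smul_smul μ t (omv n)) hu0 h2' hu0 (h0ω (μ * t))] at h1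
    exact h1
  have hadd : ∀ t t', E t ∈ K → E t' ∈ K → E (t + t') ∈ K := by
    intro t t' ht ht'
    have h1 := K.mul_mem ht ht'
    rw [hE] at h1
    simp only at h1
    rw [eich_mul, eich_congr Q rfl (add_smul t t' (omv n)).symm hu0 _ hu0 (h0ω (t + t'))] at h1
    exact h1
  have hzero : E 0 ∈ K := by
    have : E 0 = 1 := by
      rw [hE]
      simp only
      rw [eich_congr Q rfl (zero_smul F (omv n)) hu0 _ hu0 (by simp [polar]), eich_zero]
    rw [this]
    exact K.one_mem
  have hpow : ∀ j : ℕ, E (μ ^ j) ∈ K := by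
    intro j
    induction j with
    | zero => rw [pow_zero]; exact hyK
    | succ j ih => rw [pow_succ']; exact hstep _ ih
  have hsq' : ∀ a : F, E (a * a) ∈ K := by
    intro a
    by_cases ha : a = 0
    · rw [ha, mul_zero]; exact hzero
    · have hmem := hk (Units.mk0 a ha)
      rw [← mem_powers_iff_mem_zpowers, Submonoid.mem_powers_iff] at hmem
      obtain ⟨j, hj⟩ := hmem
      have hja : (k : F) ^ j = a := by
        have := congrArg (fun x : Fˣ => (x : F)) hj
        simpa using this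
      have : a * a = μ ^ j := by
        rw [hμ, ← hja]; ring
      rw [this]
      exact hpow j
  have hall : ∀ x : F, E x ∈ K := by
    intro x
    obtain ⟨a, b', hab⟩ := sum_two_sq_odd h2 x
    rw [← hab]
    exact hadd _ _ (hsq' a) (hsq' b')
  -- the short root subgroups
  have hP0 : PO K (ev (αo n) 0) := by
    refine ⟨hu0, ?_⟩
    rw [mem_Z0]
    exact ⟨by rw [polar_ev fam, omv_β], fun t h => hall t⟩
  have hPe : ∀ t, PO K (ev (αo n) t) := by
    apply cycle_ind hn (PO K) (ev (αo n)) _ hP0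
    intro t ht hP
    have h1 := PO_cox hn K hbK _ hP
    rw [act_cox_ev hn t ht] at h1
    exact PO_of_smul K _ _ (sgn_ne_zero _) h1
  have hPf0 : PO K (fv (βo n) 0) := by
    have h1 := PO_cox hn K hbK _ (hPe 1)
    rw [act_cox_ev1] at h1
    have e : -fv (F := F) (βo n) 0 = (-1 : F) • fv (βo n) 0 := by rw [neg_smul, one_smul]
    rw [e] at h1
    exact PO_of_smul K _ _ (by simp) h1
  have hPf : ∀ t, PO K (fv (βo n) t) := by
    apply cycle_ind hn (PO K) (fv (βo n)) _ hPf0
    intro t ht hP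
    have h1 := PO_cox hn K hbK _ hP
    rw [act_cox_fv hn t ht] at h1
    exact PO_of_smul K _ _ (sgn_ne_zero _) h1
  have hω0 : omv n ∈ Z0 K (ev (αo n) 0) hu0 := hP0.2
  have h2inv : (-2 : F) ≠ 0 := neg_ne_zero.mpr h2
  -- the full Eichler subgroup at `e₀`
  have hGood : Good H (ev (αo n) 0) := by
    apply good_of_Z0 H _ hu0
    apply Z0_top K fam 0
    intro k' hk'
    rcases k' with ⟨⟩ | t | t
    · exact hω0
    · show ev (αo n) t ∈ Z0 K (ev (αo n) 0) hu0
      by_cases ht : t = 0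
      · rw [ht]; exact Z0_self K _ _
      · obtain ⟨hut, hωt⟩ := hPe t
        have hp : polar ⇑Q (ev (αo n) t) (omv n) = 0 := by rw [polar_ev fam, omv_β]
        have hg := eich_mem_of_Z0 K _ hut _ hωt hp
        have hfix : act Q (eich Q (ev (αo n) t) (omv n) hut hp) (ev (αo n) 0) = ev (αo n) 0 :=
          act_eich_of_perp _ _ hut hp _ (by rw [polar_ev fam, ev_β fam])
            (by rw [polar_omv, ev_0, mul_zero])
        have h1 := Z0_act K (ev (αo n) 0) hu0 _ hg hfix (omv n) hω0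
        have h3 := (Z0 K _ hu0).sub_mem h1 hω0
        have e : act Q (eich Q (ev (αo n) t) (omv n) hut hp) (omv n) - omv n =
            (-2 : F) • ev (αo n) t := by
          rw [act_eich, eichlerMap_apply, polar_ev fam, omv_β, polar_omv, omv_0, quad_omv]
          module
        rw [e] at h3
        have h4 := (Z0 K _ hu0).smul_mem ((-2 : F)⁻¹) h3
        rwa [inv_smul_smul₀ h2inv] at h4
    · show fv (βo n) t ∈ Z0 K (ev (αo n) 0) hu0
      have ht : t ≠ 0 := by
        intro h
        apply hk'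
        rw [h]
        rfl
      obtain ⟨hut, hωt⟩ := hPf t
      have hp : polar ⇑Q (fv (βo n) t) (omv n) = 0 := by rw [polar_fv fam, omv_α]
      have hg := eich_mem_of_Z0 K _ hut _ hωt hp
      have hfix : act Q (eich Q (fv (βo n) t) (omv n) hut hp) (ev (αo n) 0) = ev (αo n) 0 :=
        act_eich_of_perp _ _ hut hp _ (by rw [polar_fv fam, ev_α fam, if_neg (Ne.symm ht)])
          (by rw [polar_omv, ev_0, mul_zero])
      have h1 := Z0_act K (ev (αo n) 0) hu0 _ hg hfix (omv n) hω0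
      have h3 := (Z0 K _ hu0).sub_mem h1 hω0
      have e : act Q (eich Q (fv (βo n) t) (omv n) hut hp) (omv n) - omv n =
          (-2 : F) • fv (βo n) t := by
        rw [act_eich, eichlerMap_apply, polar_fv fam, omv_α, polar_omv, omv_0, quad_omv]
        module
      rw [e] at h3
      have h4 := (Z0 K _ hu0).smul_mem ((-2 : F)⁻¹) h3
      rwa [inv_smul_smul₀ h2inv] at h4
  -- a second point
  obtain ⟨huf, hωf⟩ := hPf 0
  have hpf : polar ⇑Q (fv (βo n) 0) (omv n) = 0 := by rw [polar_fv fam, omv_α]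
  have hg₀ := eich_mem_of_Z0 K _ huf _ hωf hpf
  have hGood2 := good_act_K H _ hg₀ _ hGood
  refine top_of_two hyp H _ _ hGood hGood2 ?_
  rw [polar_ev fam, act_eich, eichlerMap_apply, polar_fv fam, ev_α fam, if_pos rfl, polar_omv,
    ev_0, quad_omv]
  simp only [Pi.add_apply, Pi.smul_apply, smul_eq_mul, ev_β fam, fv_β fam, if_pos, omv_β]
  norm_num

end odd

end Cfsg.Agent.Lib.Helper1.Og
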