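import Cfsg.Agent.Lib.Helper9.Co1g

set_option autoImplicit false
set_option linter.unusedVariables false

/-!
Farm OUTCO1 (statement S2069, `Out(Co₁) = 1`): unit CZ. The extraspecial normal subgroup `Q1` of the
involution centraliser `Cz` of `Co₁` is normalised by `Cz`, its centraliser in `Cz` is `{1, z}`, and a
subgroup of `Cz` containing `Q1` of index at most two is all of `Cz`.
-/

namespace Cfsg.Agent.Lib.Helper1.OutCo1CZ

open Cfsg Cfsg.Agent.Lib.Helper9.Co1g Cfsg.Agent.Lib.Helper9.Co1a Cfsg.Agent.Lib.Helper9.Co1c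
  Cfsg.Agent.Lib.Helper9.Co1f

/-- the extraspecial normal subgroup of the involution centraliser, inside `Co₁` -/
def Q1 : Subgroup Cfsg.Spor.Co1 := Q.map (Cz).subtype

theorem mem_Q1_iff (x : Cfsg.Spor.Co1) : x ∈ Q1 ↔ ∃ hx : x ∈ Cz, (⟨x, hx⟩ : ↥Cz) ∈ Q := by
  unfold Q1
  rw [Subgroup.mem_map]
  constructor
  · rintro ⟨y, hy, rfl⟩
    exact ⟨y.2, hy⟩
  · rintro ⟨hx, h⟩
    exact ⟨⟨x, hx⟩, h, rfl⟩

/-- a subgroup whose complement multiplies into it is normal -/
theorem normal_of_index_two {G : Type*} [Group G] (K : Subgroup G)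
    (h : ∀ g h : G, g ∉ K → h ∉ K → g * h ∈ K) : K.Normal := by
  constructor
  intro n hn g
  by_cases hg : g ∈ K
  · exact K.mul_mem (K.mul_mem hg hn) (K.inv_mem hg)
  · by_contra hcon
    have h1 := h _ _ hcon hg
    rw [inv_mul_cancel_right] at h1
    apply hg
    have h2 := K.mul_mem h1 (K.inv_mem hn)
    rwa [mul_inv_cancel_right] at h2

/-- in a simple group with more than two elements, a normal subgroup containing `Q` whose complement
multiplies into it is everything -/
theorem eq_top_of_index_two {C : Type*} [Group C] (Q : Subgroup C) [Q.Normal]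
    (hs : IsSimpleGroup (C ⧸ Q)) (hcard : 2 < Nat.card (C ⧸ Q)) (K : Subgroup C) (hQK : Q ≤ K)
    (h : ∀ g h : C, g ∉ K → h ∉ K → g * h ∈ K) : K = ⊤ := by
  have hKn : K.Normal := normal_of_index_two K h
  have hn : (K.map (QuotientGroup.mk' Q)).Normal :=
    Subgroup.Normal.map hKn _ (QuotientGroup.mk'_surjective Q)
  rcases hs.eq_bot_or_eq_top_of_normal _ hn with hb | ht
  · -- `K = Q`: the quotient has at most two elements
    exfalso
    have hKQ : K ≤ Q := by
      intro k hk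
      have h1 : QuotientGroup.mk' Q k ∈ K.map (QuotientGroup.mk' Q) := Subgroup.mem_map_of_mem _ hk
      rw [hb, Subgroup.mem_bot] at h1
      exact (QuotientGroup.eq_one_iff k).mp h1
    have hfin : Finite (C ⧸ Q) := Nat.finite_of_card_ne_zero (by omega)
    let _ : Fintype (C ⧸ Q) := Fintype.ofFinite _
    rw [Nat.card_eq_fintype_card] at hcard
    obtain ⟨a, b, c, hab, hac, hbc⟩ := Fintype.two_lt_card_iff.mp hcard
    -- two distinct nonidentity elements
    have key : ∀ x y : C ⧸ Q, x ≠ 1 → y ≠ 1 → x = y := by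
      intro x y hx hy
      induction x using QuotientGroup.induction_on with
      | H x =>
        induction y using QuotientGroup.induction_on with
        | H y =>
          have hxK : x ∉ K := fun hk => hx ((QuotientGroup.eq_one_iff x).mpr (hKQ hk))
          have hyK : y ∉ K := fun hk => hy ((QuotientGroup.eq_one_iff y).mpr (hKQ hk))
          have h1 := hKQ (h x x hxK hxK)
          have h2 := hKQ (h x y hxK hyK)
          have e1 : ((x : C ⧸ Q)) * (x : C ⧸ Q) = 1 := by
            rw [← QuotientGroup.mk_mul]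
            exact (QuotientGroup.eq_one_iff _).mpr h1
          have e2 : ((x : C ⧸ Q)) * (y : C ⧸ Q) = 1 := by
            rw [← QuotientGroup.mk_mul]
            exact (QuotientGroup.eq_one_iff _).mpr h2
          exact mul_left_cancel (e1.trans e2.symm)
    by_cases ha : a = 1
    · have hb1 : b ≠ 1 := fun hb1 => hab (ha.trans hb1.symm)
      have hc1 : c ≠ 1 := fun hc1 => hac (ha.trans hc1.symm)
      exact hbc (key b c hb1 hc1)
    · by_cases hb1 : b = 1
      · have hc1 : c ≠ 1 := fun hc1 => hbc (hb1.trans hc1.symm)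
        exact hac (key a c ha hc1)
      · exact hab (key a b ha hb1)
  · rw [eq_top_iff]
    intro g _
    have h1 : QuotientGroup.mk' Q g ∈ K.map (QuotientGroup.mk' Q) := by
      rw [ht]; exact Subgroup.mem_top _
    obtain ⟨k, hk, hkg⟩ := Subgroup.mem_map.mp h1
    have h2 : k⁻¹ * g ∈ Q := by
      have h3 : (QuotientGroup.mk' Q) (k⁻¹ * g) = 1 := by
        rw [map_mul, map_inv, hkg, inv_mul_cancel]
      exact (QuotientGroup.eq_one_iff _).mp h3
    have h4 := K.mul_mem hk (hQK h2)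
    rwa [mul_inv_cancel_left] at h4

theorem eC_mem : eC ∈ Qt := by
  have h : eC = nC⁻¹ * dC := by
    rw [← nC_mul_eC, inv_mul_cancel_left]
  rw [h]
  exact Qt.mul_mem (Qt.inv_mem nC_mem) dC_mem

theorem z_mem_Cz : z ∈ Cz := by
  rw [Subgroup.mem_centralizer_iff]
  intro h hh
  rw [Set.mem_singleton_iff] at hh
  rw [hh]

theorem z_mem_Q : (⟨z, z_mem_Cz⟩ : ↥Cz) ∈ Q := by
  refine ⟨eC, eC_mem, ?_⟩
  apply Subtype.ext
  rw [f_val]
  rfl

theorem z_ne_one : z ≠ 1 := by
  intro h
  have := z_order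
  rw [h, orderOf_one] at this
  omega

theorem centralizer_Q_le : Subgroup.centralizer (Q : Set ↥Cz) ≤ Q := by
  have : Fact (Nat.Prime 2) := ⟨Nat.prime_two⟩
  have hcore := Cfsg.Agent.Lib.Helper2.UFUnit.pCore_eq_of_simple_quot Q Q_isPGroup quot_simple
    quot_not_pGroup
  have h := (Cfsg.Agent.Lib.Helper7.gfs_eq_pCore_iff (H := ↥Cz) 2).mp (by rw [hcore]; exact gfs_eq)
  rwa [hcore] at h

/-- Unit CZ: `Q1` is normalised by `Cz`, its centraliser in `Cz` is `{1, z}`, and a subgroup of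
`Cz` containing `Q1` whose complement is closed under "product lands inside" (index at most 2) is
all of `Cz` (because `Cz / Q` is simple of order `174182400`). -/
theorem cz :
    (∀ g ∈ Cz, ∀ q ∈ Q1, g * q * g⁻¹ ∈ Q1) ∧
    (∀ g ∈ Cz, (∀ q ∈ Q1, g * q = q * g) → g = 1 ∨ g = z) ∧
    (∀ K : Subgroup Cfsg.Spor.Co1, K ≤ Cz → Q1 ≤ K →
      (∀ g ∈ Cz, ∀ h ∈ Cz, g ∉ K → h ∉ K → g * h ∈ K) → K = Cz) := by
  refine ⟨?_, ?_, ?_⟩
  · intro g hg q hq
    obtain ⟨hq1, hq2⟩ := (mem_Q1_iff q).mp hq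
    rw [mem_Q1_iff]
    refine ⟨Cz.mul_mem (Cz.mul_mem hg hq1) (Cz.inv_mem hg), ?_⟩
    exact Q_normal.conj_mem ⟨q, hq1⟩ hq2 ⟨g, hg⟩
  · intro g hg hcomm
    have hcent : (⟨g, hg⟩ : ↥Cz) ∈ Subgroup.centralizer (Q : Set ↥Cz) := by
      rw [Subgroup.mem_centralizer_iff]
      intro q hq
      apply Subtype.ext
      have h1 := hcomm q.1 ((mem_Q1_iff q.1).mpr ⟨q.2, hq⟩)
      exact h1.symm
    have hgQ : (⟨g, hg⟩ : ↥Cz) ∈ Q := centralizer_Q_le hcent
    -- both `g` and `z` lie in the centre of `Q`, which has two elements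
    have hcard : Nat.card (Subgroup.center ↥Q) = 2 := Q_extraspecial.2
    have hgc : (⟨⟨g, hg⟩, hgQ⟩ : ↥Q) ∈ Subgroup.center ↥Q := by
      rw [Subgroup.mem_center_iff]
      intro q
      apply Subtype.ext
      have h1 := (Subgroup.mem_centralizer_iff.mp hcent) q.1 q.2
      exact h1
    have hzc : (⟨⟨z, z_mem_Cz⟩, z_mem_Q⟩ : ↥Q) ∈ Subgroup.center ↥Q := by
      rw [Subgroup.mem_center_iff]
      intro q
      apply Subtype.ext
      apply Subtype.ext
      have h1 := (Subgroup.mem_centralizer_iff.mp q.1.2) z (Set.mem_singleton z)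
      exact h1.symm
    obtain ⟨a, b, hab, huniv⟩ := Nat.card_eq_two_iff.mp hcard
    have hone : (1 : ↥(Subgroup.center ↥Q)) ∈ ({a, b} : Set ↥(Subgroup.center ↥Q)) := by
      rw [huniv]; exact Set.mem_univ _
    have hz' : (⟨_, hzc⟩ : ↥(Subgroup.center ↥Q)) ∈ ({a, b} : Set ↥(Subgroup.center ↥Q)) := by
      rw [huniv]; exact Set.mem_univ _
    have hg' : (⟨_, hgc⟩ : ↥(Subgroup.center ↥Q)) ∈ ({a, b} : Set ↥(Subgroup.center ↥Q)) := by
      rw [huniv]; exact Set.mem_univ _
    have hz1 : (⟨_, hzc⟩ : ↥(Subgroup.center ↥Q)) ≠ 1 := by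
      intro h
      apply z_ne_one
      have h2 := congrArg (fun x : ↥(Subgroup.center ↥Q) => (x.1.1.1 : Cfsg.Spor.Co1)) h
      exact h2
    have hcases : (⟨_, hgc⟩ : ↥(Subgroup.center ↥Q)) = 1 ∨
        (⟨_, hgc⟩ : ↥(Subgroup.center ↥Q)) = ⟨_, hzc⟩ := by
      simp only [Set.mem_insert_iff, Set.mem_singleton_iff] at hone hz' hg'
      rcases hone with h1 | h1 <;> rcases hz' with h2 | h2 <;> rcases hg' with h3 | h3
      · exact absurd (h2.trans h1.symm) hz1
      · exact absurd (h2.trans h1.symm) hz1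
      · left; rw [h3, ← h1]
      · right; rw [h3, ← h2]
      · right; rw [h3, ← h2]
      · left; rw [h3, ← h1]
      · exact absurd (h2.trans h1.symm) hz1
      · exact absurd (h2.trans h1.symm) hz1
    rcases hcases with h | h
    · left
      have h2 := congrArg (fun x : ↥(Subgroup.center ↥Q) => (x.1.1.1 : Cfsg.Spor.Co1)) h
      exact h2
    · right
      have h2 := congrArg (fun x : ↥(Subgroup.center ↥Q) => (x.1.1.1 : Cfsg.Spor.Co1)) h
      exact h2
  · intro K hK hQK hprod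
    have hcardq : 2 < Nat.card (↥Cz ⧸ Q) := by
      rw [card_quot_Cz]; norm_num
    have htop := eq_top_of_index_two Q quot_simple hcardq (K.subgroupOf Cz)
      (by
        intro q hq
        rw [Subgroup.mem_subgroupOf]
        exact hQK ((mem_Q1_iff q.1).mpr ⟨q.2, hq⟩))
      (by
        intro g h hg hh
        rw [Subgroup.mem_subgroupOf] at hg hh ⊢
        exact hprod g.1 g.2 h.1 h.2 hg hh)
    apply le_antisymm hK
    intro g hg
    have h1 : (⟨g, hg⟩ : ↥Cz) ∈ K.subgroupOf Cz := by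
      rw [htop]; exact Subgroup.mem_top _
    exact Subgroup.mem_subgroupOf.mp h1

end Cfsg.Agent.Lib.Helper1.OutCo1CZ
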