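import Mathlib
import Cfsg.Agent.Lib.Helper1.PConstrainedLocal3
import Cfsg.Agent.Lib.Helper1.SubnormalPCore
import Cfsg.Agent.Lib.Helper1.OddStable4

/-! `p`-constraint of `p`-local subgroups from `p`-constraint of maximal `p`-locals or of
centralizers of elements of order `p`. -/
set_option autoImplicit false
open Cfsg
namespace Cfsg.Agent.Lib.Helper1.PCL

/-- `p`-constraint descends along surjections with `p'`-kernel. -/
theorem isPConstrained_push {H H' : Type*} [Group H] [Group H'] [Finite H]
    {p : ℕ} [hp : Fact p.Prime] (f : H →* H') (hf : Function.Surjective f)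
    (hker : (Nat.card f.ker).Coprime p) (h : IsPConstrained p H) : IsPConstrained p H' := by
  have : Finite H' := Finite.of_surjective f hf
  rw [isPConstrained_iff_quotient,
    isPConstrained_iff_of_pPrimeCore_eq_bot (pPrimeCore_quotient_eq_bot p)] at h ⊢
  obtain ⟨g, hg⟩ : ∃ g : H →* H' ⧸ pPrimeCore p H', g = (QuotientGroup.mk' (pPrimeCore p H')).comp f :=
    ⟨_, rfl⟩
  have hgs : Function.Surjective g := by
    rw [hg]; exact (QuotientGroup.mk'_surjective _).comp hf
  have hgk : pPrimeCore p H = g.ker := by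
    rw [pPrimeCore_eq_comap_of_coprime_ker f hf hker, hg]
    ext x
    rw [Subgroup.mem_comap, MonoidHom.mem_ker, MonoidHom.comp_apply, QuotientGroup.mk'_apply,
      QuotientGroup.eq_one_iff]
  have e : H ⧸ pPrimeCore p H ≃* H' ⧸ pPrimeCore p H' :=
    (QuotientGroup.quotientMulEquivOfEq hgk).trans (QuotientGroup.quotientKerEquivOfSurjective g hgs)
  exact centralizer_pCore_le_of_equiv p e h

theorem isPConstrained_of_equiv {A B : Type*} [Group A] [Group B] [Finite A] {p : ℕ}
    [hp : Fact p.Prime] (e : A ≃* B) (h : IsPConstrained p A) : IsPConstrained p B := by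
  apply isPConstrained_push e.toMonoidHom e.surjective _ h
  have : e.toMonoidHom.ker = ⊥ := (MonoidHom.ker_eq_bot_iff _).mpr e.injective
  rw [this, Subgroup.card_bot]
  exact Nat.coprime_one_left p

theorem isPConstrained_of_eq {G : Type*} [Group G] [Finite G] {p : ℕ} [hp : Fact p.Prime]
    {A B : Subgroup G} (h : A = B) (hA : IsPConstrained p ↥A) : IsPConstrained p ↥B := by
  subst h; exact hA

/-- A group with a normal `p`-subgroup whose centralizer is `p`-constrained is `p`-constrained. -/
theorem isPConstrained_of_centralizer {N : Type*} [Group N] [Finite N] {p : ℕ} [hp : Fact p.Prime]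
    (T : Subgroup N) [hTn : T.Normal] (hT : IsPGroup p T)
    (hC : IsPConstrained p ↥(Subgroup.centralizer (T : Set N))) : IsPConstrained p N := by
  rw [isPConstrained_iff_quotient,
    isPConstrained_iff_of_pPrimeCore_eq_bot (pPrimeCore_quotient_eq_bot p)]
  have hNc : (Nat.card (pPrimeCore p N)).Coprime p := pPrimeCore_card_coprime p
  obtain ⟨Tb, hTb⟩ : ∃ Tb, Tb = T.map (QuotientGroup.mk' (pPrimeCore p N)) := ⟨_, rfl⟩
  have hTbn : Tb.Normal := by
    rw [hTb]; exact hTn.map _ (QuotientGroup.mk'_surjective _)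
  have hTbp : IsPGroup p Tb := by rw [hTb]; exact hT.map _
  obtain ⟨D, hD⟩ : ∃ D, D = Subgroup.centralizer (Tb : Set (N ⧸ pPrimeCore p N)) := ⟨_, rfl⟩
  have hDn : D.Normal := by rw [hD]; infer_instance
  -- `D` is `p`-constrained
  have hDc : IsPConstrained p ↥D := by
    have h1 : D = (Subgroup.centralizer (T : Set N)).map (QuotientGroup.mk' (pPrimeCore p N)) := by
      rw [hD, hTb]; exact centralizer_map_mk_eq _ hNc T hT
    apply isPConstrained_of_eq h1.symm
    apply isPConstrained_push ((QuotientGroup.mk' (pPrimeCore p N)).subgroupMap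
      (Subgroup.centralizer (T : Set N)))
      ((QuotientGroup.mk' (pPrimeCore p N)).subgroupMap_surjective _) ?_ hC
    have hmem : ∀ k : ((QuotientGroup.mk' (pPrimeCore p N)).subgroupMap
        (Subgroup.centralizer (T : Set N))).ker,
        ((k : ↥(Subgroup.centralizer (T : Set N))) : N) ∈ pPrimeCore p N := by
      rintro ⟨k, hk⟩
      rw [MonoidHom.mem_ker] at hk
      have h1 := congrArg Subtype.val hk
      have h2 : (QuotientGroup.mk' (pPrimeCore p N)) (k : N) = 1 := h1
      rw [QuotientGroup.mk'_apply, QuotientGroup.eq_one_iff] at h2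
      exact h2
    let φ : ((QuotientGroup.mk' (pPrimeCore p N)).subgroupMap
        (Subgroup.centralizer (T : Set N))).ker →* pPrimeCore p N :=
      { toFun := fun k => ⟨((k : ↥(Subgroup.centralizer (T : Set N))) : N), hmem k⟩
        map_one' := rfl
        map_mul' := fun a b => rfl }
    have hφ : Function.Injective φ := by
      intro a b hab
      have := congrArg Subtype.val hab
      exact Subtype.ext (Subtype.ext this)
    exact Nat.Coprime.coprime_dvd_left (Subgroup.card_dvd_of_injective φ hφ) hNc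
  have hDbot : pPrimeCore p ↥D = ⊥ :=
    Cfsg.Agent.Lib.Helper1.OddStable.pPrimeCore_eq_bot_of_normal D (pPrimeCore_quotient_eq_bot p)
  have hDcc := (isPConstrained_iff_of_pPrimeCore_eq_bot hDbot).mp hDc
  have hle : (pCore p ↥D).map D.subtype ≤ pCore p (N ⧸ pPrimeCore p N) :=
    pCore_map_le_of_isSubnormal hDn.isSubnormal
  have hTble : Tb ≤ pCore p (N ⧸ pPrimeCore p N) := le_pCore hTbn hTbp
  intro y hy
  have hyD : y ∈ D := by
    rw [hD]
    exact Subgroup.centralizer_le (SetLike.coe_subset_coe.mpr hTble) hy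
  have h2 : (⟨y, hyD⟩ : ↥D) ∈ Subgroup.centralizer (pCore p ↥D : Set ↥D) := by
    rw [Subgroup.mem_centralizer_iff]
    intro z hz
    apply Subtype.ext
    have hz' : (z : N ⧸ pPrimeCore p N) ∈ pCore p (N ⧸ pPrimeCore p N) := hle ⟨z, hz, rfl⟩
    exact Subgroup.mem_centralizer_iff.mp hy _ hz'
  have h3 := hDcc h2
  exact hle ⟨⟨y, hyD⟩, h3, rfl⟩

end Cfsg.Agent.Lib.Helper1.PCL

namespace Cfsg.Agent.Lib.Helper1.PCL

theorem centralizer_subgroupOf_eq {G : Type*} [Group G] {T K : Subgroup G} (hTK : T ≤ K) :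
    Subgroup.centralizer ((T.subgroupOf K : Subgroup ↥K) : Set ↥K) =
      (Subgroup.centralizer (T : Set G)).subgroupOf K := by
  ext x
  rw [Subgroup.mem_subgroupOf, Subgroup.mem_centralizer_iff, Subgroup.mem_centralizer_iff]
  constructor
  · intro h y hy
    have := h ⟨y, hTK hy⟩ (by
      show (⟨y, hTK hy⟩ : ↥K) ∈ T.subgroupOf K
      rw [Subgroup.mem_subgroupOf]; exact hy)
    exact congrArg Subtype.val this
  · intro h y hy
    have hy' : (y : G) ∈ T := by
      have : y ∈ T.subgroupOf K := hy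
      rwa [Subgroup.mem_subgroupOf] at this
    exact Subtype.ext (h y hy')

/-- transfer of `p`-constraint from the centralizer computed in an overgroup -/
theorem isPConstrained_centralizer_of_subgroupOf {G : Type*} [Group G] [Finite G] {p : ℕ}
    [hp : Fact p.Prime] {T K : Subgroup G} (hTK : T ≤ K)
    (hCK : Subgroup.centralizer (T : Set G) ≤ K)
    (h : IsPConstrained p ↥(Subgroup.centralizer ((T.subgroupOf K : Subgroup ↥K) : Set ↥K))) :
    IsPConstrained p ↥(Subgroup.centralizer (T : Set G)) := by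
  have h1 := isPConstrained_of_eq (centralizer_subgroupOf_eq hTK) h
  exact isPConstrained_of_equiv (Subgroup.subgroupOfEquivOfLe hCK) h1

theorem isPConstrained_subgroupOf_centralizer {G : Type*} [Group G] [Finite G] {p : ℕ}
    [hp : Fact p.Prime] {T K : Subgroup G} (hTK : T ≤ K)
    (hCK : Subgroup.centralizer (T : Set G) ≤ K)
    (h : IsPConstrained p ↥(Subgroup.centralizer (T : Set G))) :
    IsPConstrained p ↥(Subgroup.centralizer ((T.subgroupOf K : Subgroup ↥K) : Set ↥K)) := by
  have h1 := isPConstrained_of_equiv (Subgroup.subgroupOfEquivOfLe hCK).symm h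
  exact isPConstrained_of_eq (centralizer_subgroupOf_eq hTK).symm h1

theorem isPConstrained_normalizer_of_subgroupOf {G : Type*} [Group G] [Finite G] {p : ℕ}
    [hp : Fact p.Prime] {T K : Subgroup G} (hTK : T ≤ K)
    (hNK : Subgroup.normalizer (T : Set G) ≤ K)
    (h : IsPConstrained p ↥(Subgroup.normalizer ((T.subgroupOf K : Subgroup ↥K) : Set ↥K))) :
    IsPConstrained p ↥(Subgroup.normalizer (T : Set G)) := by
  have h1 := isPConstrained_of_eq (Subgroup.subgroupOf_normalizer_eq hTK).symm h
  exact isPConstrained_of_equiv (Subgroup.subgroupOfEquivOfLe hNK) h1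

theorem s3247 {G : Type*} [Group G] [Finite G] (p : ℕ) [hp : Fact p.Prime]
    (h : (∀ M : Subgroup G, (∃ T : Subgroup G, IsPGroup p ↥T ∧ T ≠ ⊥ ∧ M = Subgroup.normalizer (T : Set G)) → M ≠ ⊤ →
        (∀ M' : Subgroup G, (∃ T' : Subgroup G, IsPGroup p ↥T' ∧ T' ≠ ⊥ ∧ M' = Subgroup.normalizer (T' : Set G)) → M' ≠ ⊤ → M ≤ M' → M = M') →
        Cfsg.IsPConstrained p ↥M) ∨
      (∀ x : G, orderOf x = p → Cfsg.IsPConstrained p ↥(Subgroup.centralizer ({x} : Set G))))
    (T : Subgroup G) (hT : IsPGroup p ↥T) (hT1 : T ≠ ⊥) (hTG : Subgroup.normalizer (T : Set G) ≠ ⊤) :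
    Cfsg.IsPConstrained p ↥(Subgroup.normalizer (T : Set G)) := by
  rcases h with h | h
  · -- a maximal `p`-local above `N_G(T)`
    obtain ⟨M, ⟨hMloc, hMtop, hNM⟩, hmax⟩ := Set.exists_max_image
      {M : Subgroup G | (∃ T' : Subgroup G, IsPGroup p ↥T' ∧ T' ≠ ⊥ ∧
        M = Subgroup.normalizer (T' : Set G)) ∧ M ≠ ⊤ ∧ Subgroup.normalizer (T : Set G) ≤ M}
      (fun M => Nat.card M) (Set.toFinite _) ⟨_, ⟨T, hT, hT1, rfl⟩, hTG, le_rfl⟩
    have hMc : IsPConstrained p ↥M := by
      apply h M hMloc hMtop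
      intro M' hM'loc hM'top hMM'
      have h1 := hmax M' ⟨hM'loc, hM'top, hNM.trans hMM'⟩
      exact Subgroup.eq_of_le_of_card_ge hMM' h1
    have hTM : T ≤ M := Subgroup.le_normalizer.trans hNM
    have h2 := (isPConstrained_local hMc (T.subgroupOf M) hT.comap_subtype).1
    exact isPConstrained_normalizer_of_subgroupOf hTM hNM h2
  · -- an element of order `p` in `Z(T)`
    have hTnt : Nontrivial ↥T := (Subgroup.nontrivial_iff_ne_bot T).mpr hT1
    have hZnt : Nontrivial (Subgroup.center ↥T) := hT.center_nontrivial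
    have hZp : IsPGroup p (Subgroup.center ↥T) := hT.to_subgroup _
    obtain ⟨k, hk⟩ := IsPGroup.iff_card.mp hZp
    have hk0 : k ≠ 0 := by
      rintro rfl
      rw [pow_zero] at hk
      have := (Nat.card_eq_one_iff_unique.mp hk).1
      exact not_nontrivial _ hZnt
    have hdvd : p ∣ Nat.card (Subgroup.center ↥T) := by
      rw [hk]; exact dvd_pow_self p hk0
    obtain ⟨z, hz⟩ := exists_prime_orderOf_dvd_card' p hdvd
    obtain ⟨x, hx⟩ : ∃ x : G, x = ((z : ↥T) : G) := ⟨_, rfl⟩
    have hxo : orderOf x = p := by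
      rw [hx, Subgroup.orderOf_coe, Subgroup.orderOf_coe]; exact hz
    have hxT : x ∈ T := by rw [hx]; exact (z : ↥T).2
    have hxc : ∀ t ∈ T, t * x = x * t := by
      intro t ht
      have := Subgroup.mem_center_iff.mp z.2 ⟨t, ht⟩
      have h1 := congrArg Subtype.val this
      rw [hx]; exact h1
    obtain ⟨X₀, hX₀⟩ : ∃ X₀, X₀ = Subgroup.centralizer ({x} : Set G) := ⟨_, rfl⟩
    have hX₀c : IsPConstrained p ↥X₀ := by rw [hX₀]; exact h x hxo
    have hTX : T ≤ X₀ := by
      intro t ht
      rw [hX₀, Subgroup.mem_centralizer_iff]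
      intro y hy
      rw [Set.mem_singleton_iff] at hy
      rw [hy]; exact (hxc t ht).symm
    have hCX : Subgroup.centralizer (T : Set G) ≤ X₀ := by
      rw [hX₀]
      exact Subgroup.centralizer_le (Set.singleton_subset_iff.mpr hxT)
    have h2 := (isPConstrained_local hX₀c (T.subgroupOf X₀) hT.comap_subtype).2
    have h3 : IsPConstrained p ↥(Subgroup.centralizer (T : Set G)) :=
      isPConstrained_centralizer_of_subgroupOf hTX hCX h2
    obtain ⟨N, hN⟩ : ∃ N, N = Subgroup.normalizer (T : Set G) := ⟨_, rfl⟩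
    rw [← hN]
    have hTN : T ≤ N := hN ▸ Subgroup.le_normalizer
    have hCN : Subgroup.centralizer (T : Set G) ≤ N := hN ▸ Subgroup.centralizer_le_normalizer _
    have hTn : (T.subgroupOf N).Normal := by rw [hN]; exact Subgroup.normal_in_normalizer
    exact isPConstrained_of_centralizer (T.subgroupOf N) hT.comap_subtype
      (isPConstrained_subgroupOf_centralizer hTN hCN h3)

end Cfsg.Agent.Lib.Helper1.PCL
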