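import Mathlib
import Cfsg.Prelude.Def_Local
import Cfsg.Agent.Lib.Helper1.PConstrainedLocal3
set_option autoImplicit false
open Cfsg
open scoped Pointwise
namespace Cfsg.Agent.Lib.Helper1

theorem pPrimeCore_normalizer_of_constrained {G : Type*} [Group G] [Finite G] {p : ℕ}
    [hp : Fact p.Prime]
    (hc : Subgroup.centralizer (pCore p (G ⧸ pPrimeCore p G) : Set (G ⧸ pPrimeCore p G)) ≤
      pCore p (G ⧸ pPrimeCore p G)) (P : Subgroup G) (hP : IsPGroup p P) :
    (pPrimeCore p ↥(Subgroup.normalizer (P : Set G))).map (Subgroup.normalizer (P : Set G)).subtype =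
      pPrimeCore p G ⊓ Subgroup.normalizer (P : Set G) := by
  have hNc : (Nat.card (pPrimeCore p G)).Coprime p := pPrimeCore_card_coprime p
  obtain ⟨Pbar, hPbar⟩ : ∃ Pbar, Pbar = P.map (QuotientGroup.mk' (pPrimeCore p G)) := ⟨_, rfl⟩
  have hPbarp : IsPGroup p Pbar := by rw [hPbar]; exact hP.map _
  have hQ : IsPGroup p (pCore p (G ⧸ pPrimeCore p G)) := pCore_isPGroup p
  have h1 := (local_constrained_aux (pCore p (G ⧸ pPrimeCore p G)) hQ hc Pbar
      (Subgroup.normalizer (Pbar : Set (G ⧸ pPrimeCore p G))) hPbarp le_rfl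
      (Subgroup.centralizer_le_normalizer _) (Or.inl Subgroup.le_normalizer)).1
  rw [hPbar, normalizer_map_mk_eq _ hNc P hP] at h1
  obtain ⟨H, hH⟩ : ∃ H, H = Subgroup.normalizer (P : Set G) := ⟨_, rfl⟩
  rw [← hH] at h1 ⊢
  obtain ⟨f, hf⟩ : ∃ f : ↥H →* ↥(H.map (QuotientGroup.mk' (pPrimeCore p G))),
      f = (QuotientGroup.mk' (pPrimeCore p G)).subgroupMap H := ⟨_, rfl⟩
  have hfs : Function.Surjective f := by
    rw [hf]; exact (QuotientGroup.mk' (pPrimeCore p G)).subgroupMap_surjective H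
  have hker : ∀ k : ↥H, k ∈ f.ker ↔ (k : G) ∈ pPrimeCore p G := by
    intro k
    rw [MonoidHom.mem_ker, ← QuotientGroup.eq_one_iff, ← QuotientGroup.mk'_apply, hf]
    constructor
    · intro hk
      exact congrArg Subtype.val hk
    · intro hk
      exact Subtype.ext hk
  have hkc : (Nat.card f.ker).Coprime p := by
    have hmem : ∀ k : f.ker, ((k : ↥H) : G) ∈ pPrimeCore p G := fun k => (hker k.1).mp k.2
    let φ : f.ker →* pPrimeCore p G :=
      { toFun := fun k => ⟨((k : ↥H) : G), hmem k⟩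
        map_one' := rfl
        map_mul' := fun a b => rfl }
    have hφ : Function.Injective φ := by
      intro a b hab
      have := congrArg Subtype.val hab
      exact Subtype.ext (Subtype.ext this)
    exact Nat.Coprime.coprime_dvd_left (Subgroup.card_dvd_of_injective φ hφ) hNc
  rw [pPrimeCore_eq_comap_of_coprime_ker f hfs hkc, h1]
  ext x
  constructor
  · rintro ⟨k, hk, rfl⟩
    have hk' : k ∈ f.ker := hk
    exact ⟨(hker k).mp hk', k.2⟩
  · rintro ⟨hxN, hxH⟩
    refine ⟨⟨x, hxH⟩, ?_, rfl⟩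
    have : (⟨x, hxH⟩ : ↥H) ∈ f.ker := (hker _).mpr hxN
    exact this

end Cfsg.Agent.Lib.Helper1
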