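import Mathlib
import Cfsg.Agent.Lib.Helper1.PSGDefs
import Cfsg.Agent.Lib.Helper4.CSGConj
import Cfsg.Agent.Lib.Helper9.CSGSylow
import Cfsg.Agent.Lib.Helper8.CSGAsym

/-! S4321 piece P8b: classes of noncentral elements of a normal Sylow subgroup (helper1). -/

set_option autoImplicit false
set_option linter.unusedVariables false
set_option linter.unusedSectionVars false
set_option linter.style.longLine false

namespace Cfsg.Agent.Lib.Helper1.PSG

open Cfsg.Agent.Lib.Helper8.CSG

variable {G : Type*} [Group G] [Finite G]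

theorem class_eq_of_iso {p : ℕ} [Fact p.Prime] (hiso : Iso G p) (P : Sylow p G)
    (hPn : (P : Subgroup G).Normal) {g : G} (hgP : g ∈ (P : Subgroup G))
    (hgn : ¬ ∀ h ∈ (P : Subgroup G), Commute g h) (a : G) :
    ∃ h ∈ (P : Subgroup G), a * g * a⁻¹ = h * g * h⁻¹ := by
  have hp : p.Prime := Fact.out
  have hg1 : g ≠ 1 := by
    rintro rfl
    exact hgn (fun h _ => Commute.one_left h)
  have hpo : p ∣ orderOf g := by
    obtain ⟨k, hk⟩ := P.isPGroup' ⟨g, hgP⟩
    have hk' : g ^ p ^ k = 1 := by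
      have := congrArg Subtype.val hk
      simpa using this
    have h1 : orderOf g ∣ p ^ k := orderOf_dvd_of_pow_eq_one hk'
    obtain ⟨j, -, hj⟩ := (Nat.dvd_prime_pow hp).1 h1
    rcases Nat.eq_zero_or_pos j with h0 | h0
    · rw [h0, pow_zero] at hj
      exact absurd (orderOf_eq_one_iff.1 hj) hg1
    · rw [hj]; exact dvd_pow_self p h0.ne'
  have hpi : p ∣ idx g := by
    by_contra hnd
    obtain ⟨c, hc⟩ := Cfsg.Agent.Lib.Helper8.CSG.h9_csg_sylow_conj_le
      (Subgroup.centralizer ({g} : Set G)) P hnd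
    apply hgn
    intro h hh
    have h1 : c * h * c⁻¹ ∈ (P : Subgroup G) := hPn.conj_mem h hh c
    have h2 := hc _ h1
    have h3 : c⁻¹ * (c * h * c⁻¹) * c = h := by group
    rw [h3, Subgroup.mem_centralizer_iff] at h2
    exact (h2 g rfl)
  have hpow : idx g = p ^ (idx g).primeFactorsList.length :=
    Nat.eq_prime_pow_of_unique_prime_dvd (h8_idx_pos g).ne'
      (fun {d} hd hdn => hiso g hpo hpi d hd hdn)
  have hco : ((P : Subgroup G).index).Coprime (Subgroup.centralizer ({g} : Set G)).index := by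
    have : (Subgroup.centralizer ({g} : Set G)).index = p ^ (idx g).primeFactorsList.length := hpow
    rw [this]
    apply Nat.Coprime.pow_right
    exact Nat.coprime_comm.1 ((Nat.Prime.coprime_iff_not_dvd hp).2 P.not_dvd_index)
  obtain ⟨h, hh, hc⟩ := csg_prod_eq_top hco a
  refine ⟨h, hh, ?_⟩
  rw [Subgroup.mem_centralizer_iff] at hc
  have e : g * (h⁻¹ * a) = h⁻¹ * a * g := hc g rfl
  calc a * g * a⁻¹ = h * ((h⁻¹ * a) * g) * (h⁻¹ * a)⁻¹ * h⁻¹ := by group
    _ = h * (g * (h⁻¹ * a)) * (h⁻¹ * a)⁻¹ * h⁻¹ := by rw [e]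
    _ = h * g * h⁻¹ := by group

end Cfsg.Agent.Lib.Helper1.PSG
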