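import Mathlib
import Cfsg.Agent.Lib.Helper1.PSGDefs

/-! S4321 piece P8c: the final computation (helper1). -/

set_option autoImplicit false
set_option linter.unusedVariables false
set_option linter.unusedSectionVars false
set_option linter.style.longLine false

namespace Cfsg.Agent.Lib.Helper1.PSG

open Cfsg.Agent.Lib.Helper8.CSG

variable {G : Type*} [Group G] [Finite G]

/-- the centre of `P`, as a subgroup of `G` -/
def zP (P : Subgroup G) : Subgroup G where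
  carrier := {z | z ∈ P ∧ ∀ h ∈ P, Commute z h}
  one_mem' := ⟨P.one_mem, fun h _ => Commute.one_left h⟩
  mul_mem' := fun ha hb => ⟨P.mul_mem ha.1 hb.1, fun h hh => (ha.2 h hh).mul_left (hb.2 h hh)⟩
  inv_mem' := fun ha => ⟨P.inv_mem ha.1, fun h hh => (ha.2 h hh).inv_left⟩

omit [Finite G] in
theorem mem_zP {P : Subgroup G} {z : G} : z ∈ zP P ↔ z ∈ P ∧ ∀ h ∈ P, Commute z h := Iff.rfl

omit [Finite G] in
theorem zP_conj {P : Subgroup G} (hPn : P.Normal) {z : G} (hz : z ∈ zP P) (a : G) :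
    a * z * a⁻¹ ∈ zP P := by
  refine ⟨hPn.conj_mem z hz.1 a, fun h hh => ?_⟩
  have h1 : a⁻¹ * h * a ∈ P := by
    have := hPn.conj_mem h hh a⁻¹
    simpa using this
  have h2 : Commute z (a⁻¹ * h * a) := hz.2 _ h1
  show a * z * a⁻¹ * h = h * (a * z * a⁻¹)
  calc a * z * a⁻¹ * h = a * (z * (a⁻¹ * h * a)) * a⁻¹ := by group
    _ = a * ((a⁻¹ * h * a) * z) * a⁻¹ := by rw [h2.eq]
    _ = h * (a * z * a⁻¹) := by group

/-- the commutator map `h ↦ h g h⁻¹ g⁻¹` -/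
def cm (g h : G) : G := h * g * h⁻¹ * g⁻¹

omit [Finite G] in
theorem cm_mul {P : Subgroup G} {g : G} (hgP : g ∈ P)
    (hg2 : ∀ h ∈ P, ∀ k ∈ P, Commute (h * g * h⁻¹ * g⁻¹) k) {h h' : G} (hh : h ∈ P)
    (hh' : h' ∈ P) : cm g (h * h') = cm g h' * cm g h := by
  have hc : Commute (cm g h') h := hg2 h' hh' h hh
  unfold cm at hc ⊢
  calc h * h' * g * (h * h')⁻¹ * g⁻¹ = h * (h' * g * h'⁻¹ * g⁻¹) * g * h⁻¹ * g⁻¹ := by group
    _ = (h' * g * h'⁻¹ * g⁻¹) * h * g * h⁻¹ * g⁻¹ := by rw [← hc.eq]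
    _ = h' * g * h'⁻¹ * g⁻¹ * (h * g * h⁻¹ * g⁻¹) := by group

omit [Finite G] in
theorem cm_mem_zP {P : Subgroup G} {g : G} (hgP : g ∈ P)
    (hg2 : ∀ h ∈ P, ∀ k ∈ P, Commute (h * g * h⁻¹ * g⁻¹) k) {h : G} (hh : h ∈ P) :
    cm g h ∈ zP P :=
  ⟨P.mul_mem (P.mul_mem (P.mul_mem hh hgP) (P.inv_mem hh)) (P.inv_mem hgP), hg2 h hh⟩

omit [Finite G] in
theorem cm_of_mem_zP {P : Subgroup G} {g : G} (hgP : g ∈ P) {h : G} (hh : h ∈ zP P) :
    cm g h = 1 := by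
  have := (hh.2 g hgP).eq
  unfold cm
  calc h * g * h⁻¹ * g⁻¹ = (h * g) * h⁻¹ * g⁻¹ := by group
    _ = (g * h) * h⁻¹ * g⁻¹ := by rw [this]
    _ = 1 := by group

theorem final_comp {p : ℕ} [Fact p.Prime] (P : Sylow p G) (hPn : (P : Subgroup G).Normal)
    {g : G} (hgP : g ∈ (P : Subgroup G)) (hgn : ¬ ∀ h ∈ (P : Subgroup G), Commute g h)
    (hg2 : ∀ h ∈ (P : Subgroup G), ∀ k ∈ (P : Subgroup G), Commute (h * g * h⁻¹ * g⁻¹) k)
    (hcls : ∀ g' ∈ (P : Subgroup G), (¬ ∀ h ∈ (P : Subgroup G), Commute g' h) → ∀ a : G,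
      ∃ h ∈ (P : Subgroup G), a * g' * a⁻¹ = h * g' * h⁻¹)
    {c₀ : G} (hc₀P : c₀ ∈ (P : Subgroup G)) (hc₀1 : c₀ ≠ 1)
    (hc₀c : ∀ h ∈ (P : Subgroup G), Commute c₀ h) {a : G}
    (haZ : ∀ c ∈ (P : Subgroup G), c ≠ 1 → (∀ h ∈ (P : Subgroup G), Commute c h) →
      ¬ Commute c a) : False := by
  set Q : Subgroup G := (P : Subgroup G) with hQ
  obtain ⟨h1, hh1, e1⟩ := hcls g hgP hgn a
  have e1' : a * g * a⁻¹ = cm g h1 * g := by rw [e1]; unfold cm; group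
  have hc1 : cm g h1 ∈ zP Q := cm_mem_zP hgP hg2 hh1
  -- `a` fixes every `cm g h`
  have hfix : ∀ h ∈ Q, a * cm g h * a⁻¹ = cm g h := by
    intro h hh
    have hh' : a * h * a⁻¹ ∈ Q := hPn.conj_mem h hh a
    have s1 : a * cm g h * a⁻¹ = cm g (a * h * a⁻¹) := by
      have e0 : a * cm g h * a⁻¹ =
          (a * h * a⁻¹) * (a * g * a⁻¹) * (a * h * a⁻¹)⁻¹ * (a * g * a⁻¹)⁻¹ := by
        unfold cm; group
      rw [e0, e1']
      have k1 : Commute (cm g h1) (a * h * a⁻¹) := hc1.2 _ hh'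
      have k2 : Commute (cm g h1) (cm g (a * h * a⁻¹)) :=
        hc1.2 _ (cm_mem_zP hgP hg2 hh').1
      generalize cm g h1 = c1 at k1 k2
      generalize a * h * a⁻¹ = h' at k1 k2
      calc h' * (c1 * g) * h'⁻¹ * (c1 * g)⁻¹ = (h' * c1) * g * h'⁻¹ * g⁻¹ * c1⁻¹ := by group
        _ = (c1 * h') * g * h'⁻¹ * g⁻¹ * c1⁻¹ := by rw [k1.eq]
        _ = c1 * cm g h' * c1⁻¹ := by unfold cm; group
        _ = cm g h' * c1 * c1⁻¹ := by rw [k2.eq]
        _ = cm g h' := by group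
    rw [s1]
    by_cases hz : ∀ k ∈ Q, Commute h k
    · have hzP : h ∈ zP Q := ⟨hh, hz⟩
      rw [cm_of_mem_zP hgP hzP, cm_of_mem_zP hgP (zP_conj hPn hzP a)]
    · obtain ⟨k, hk, ek⟩ := hcls h hh hz a
      rw [ek]
      have m1 : cm g (k * h * k⁻¹) = cm g k⁻¹ * cm g h * cm g k := by
        rw [mul_assoc, cm_mul hgP hg2 hk (Q.mul_mem hh (Q.inv_mem hk)),
          cm_mul hgP hg2 hh (Q.inv_mem hk)]
      have m2 : cm g k⁻¹ * cm g k = 1 := by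
        rw [← cm_mul hgP hg2 hk (Q.inv_mem hk), mul_inv_cancel]; unfold cm; group
      have m3 : Commute (cm g k⁻¹) (cm g h) :=
        (cm_mem_zP hgP hg2 (Q.inv_mem hk)).2 _ (cm_mem_zP hgP hg2 hh).1
      rw [m1, m3.eq, mul_assoc, m2, mul_one]
  -- `a` fixes `a z a⁻¹ z⁻¹` for `z` in the centre of `P`
  have hfix2 : ∀ z ∈ zP Q, a * (a * z * a⁻¹ * z⁻¹) * a⁻¹ = a * z * a⁻¹ * z⁻¹ := by
    intro z hz
    have hgz : g * z ∈ Q := Q.mul_mem hgP hz.1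
    have hgzn : ¬ ∀ h ∈ Q, Commute (g * z) h := by
      intro hall
      apply hgn
      intro h hh
      have c1 : Commute (g * z) h := hall h hh
      have c2 : Commute z⁻¹ h := (hz.2 h hh).inv_left
      have := c1.mul_left c2
      simpa [mul_assoc] using this
    obtain ⟨h2, hh2, e2⟩ := hcls (g * z) hgz hgzn a
    have hza : a * z * a⁻¹ ∈ zP Q := zP_conj hPn hz a
    have l1 : a * (g * z) * a⁻¹ = cm g h1 * (a * z * a⁻¹) * g := by
      have c5 : (a * z * a⁻¹) * g = g * (a * z * a⁻¹) := (hza.2 g hgP).eq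
      calc a * (g * z) * a⁻¹ = (a * g * a⁻¹) * (a * z * a⁻¹) := by group
        _ = cm g h1 * g * (a * z * a⁻¹) := by rw [e1']
        _ = cm g h1 * (g * (a * z * a⁻¹)) := by group
        _ = cm g h1 * ((a * z * a⁻¹) * g) := by rw [c5]
        _ = cm g h1 * (a * z * a⁻¹) * g := by group
    have l2 : h2 * (g * z) * h2⁻¹ = cm g h2 * z * g := by
      have c3 : z * h2⁻¹ = h2⁻¹ * z := (hz.2 _ (Q.inv_mem hh2)).eq
      have c4 : z * g = g * z := (hz.2 g hgP).eq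
      calc h2 * (g * z) * h2⁻¹ = h2 * g * (z * h2⁻¹) := by group
        _ = h2 * g * (h2⁻¹ * z) := by rw [c3]
        _ = (h2 * g * h2⁻¹ * g⁻¹) * (g * z) := by group
        _ = (h2 * g * h2⁻¹ * g⁻¹) * (z * g) := by rw [c4]
        _ = cm g h2 * z * g := by unfold cm; group
    have l3 : cm g h1 * (a * z * a⁻¹) = cm g h2 * z := by
      have : cm g h1 * (a * z * a⁻¹) * g = cm g h2 * z * g := by rw [← l1, ← l2, e2]
      exact mul_right_cancel this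
    have l4 : a * z * a⁻¹ * z⁻¹ = (cm g h1)⁻¹ * cm g h2 := by
      calc a * z * a⁻¹ * z⁻¹ = (cm g h1)⁻¹ * (cm g h1 * (a * z * a⁻¹)) * z⁻¹ := by group
        _ = (cm g h1)⁻¹ * (cm g h2 * z) * z⁻¹ := by rw [l3]
        _ = (cm g h1)⁻¹ * cm g h2 := by group
    rw [l4]
    calc a * ((cm g h1)⁻¹ * cm g h2) * a⁻¹ = (a * cm g h1 * a⁻¹)⁻¹ * (a * cm g h2 * a⁻¹) := by group
      _ = (cm g h1)⁻¹ * cm g h2 := by rw [hfix h1 hh1, hfix h2 hh2]
  -- the map `z ↦ a z a⁻¹ z⁻¹` is a bijection of the centre of `P`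
  let φ : zP Q → zP Q := fun z =>
    ⟨a * (z : G) * a⁻¹ * (z : G)⁻¹, (zP Q).mul_mem (zP_conj hPn z.2 a) ((zP Q).inv_mem z.2)⟩
  have hinj : Function.Injective φ := by
    intro z z' hzz
    have e : a * (z : G) * a⁻¹ * (z : G)⁻¹ = a * (z' : G) * a⁻¹ * (z' : G)⁻¹ :=
      congrArg Subtype.val hzz
    have hc : (z' : G)⁻¹ * (z : G) ∈ zP Q := (zP Q).mul_mem ((zP Q).inv_mem z'.2) z.2
    have hfixc : a * ((z' : G)⁻¹ * (z : G)) * a⁻¹ = (z' : G)⁻¹ * (z : G) := by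
      have e' : a * (z : G) * a⁻¹ = a * (z' : G) * a⁻¹ * (z' : G)⁻¹ * (z : G) := by
        rw [← e]; group
      calc a * ((z' : G)⁻¹ * (z : G)) * a⁻¹ = (a * (z' : G) * a⁻¹)⁻¹ * (a * (z : G) * a⁻¹) := by
            group
        _ = (a * (z' : G) * a⁻¹)⁻¹ * (a * (z' : G) * a⁻¹ * (z' : G)⁻¹ * (z : G)) := by rw [← e']
        _ = (z' : G)⁻¹ * (z : G) := by group
    have hcomm : Commute ((z' : G)⁻¹ * (z : G)) a := by
      show (z' : G)⁻¹ * (z : G) * a = a * ((z' : G)⁻¹ * (z : G))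
      calc (z' : G)⁻¹ * (z : G) * a = (a * ((z' : G)⁻¹ * (z : G)) * a⁻¹) * a := by rw [hfixc]
        _ = a * ((z' : G)⁻¹ * (z : G)) := by group
    have h1c : (z' : G)⁻¹ * (z : G) = 1 := by
      by_contra hne
      exact haZ _ hc.1 hne hc.2 hcomm
    apply Subtype.ext
    have : (z : G) = (z' : G) * ((z' : G)⁻¹ * (z : G)) := by group
    rw [this, h1c, mul_one]
  have hsurj : Function.Surjective φ := Finite.surjective_of_injective hinj
  obtain ⟨z1, hz1⟩ := hsurj ⟨c₀, hc₀P, hc₀c⟩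
  have ez : a * (z1 : G) * a⁻¹ * (z1 : G)⁻¹ = c₀ := congrArg Subtype.val hz1
  have hfc : a * c₀ * a⁻¹ = c₀ := by
    rw [← ez]; exact hfix2 _ z1.2
  apply haZ c₀ hc₀P hc₀1 hc₀c
  show c₀ * a = a * c₀
  calc c₀ * a = (a * c₀ * a⁻¹) * a := by rw [hfc]
    _ = a * c₀ := by group

end Cfsg.Agent.Lib.Helper1.PSG
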