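import Mathlib
import Cfsg.Agent.Lib.Helper1.PSGDefs
import Cfsg.Agent.Lib.Helper1.PSGBasicA
import Cfsg.Agent.Lib.Helper9.PSGBasicB
import Cfsg.Agent.Lib.Helper7.PSGAsym
import Cfsg.Agent.Lib.Helper9.PSGWielandt
import Cfsg.Agent.Lib.Helper4.PSGFar
import Cfsg.Agent.Lib.Helper8.PSGStepA
import Cfsg.Agent.Lib.Helper8.PSGStepB
import Cfsg.Agent.Lib.Helper4.PSGStepC
import Cfsg.Agent.Lib.Helper7.PSGNormal
import Cfsg.Agent.Lib.Helper8.PSGCentral
import Cfsg.Agent.Lib.Helper1.PSGZ2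
import Cfsg.Agent.Lib.Helper1.PSGClass
import Cfsg.Agent.Lib.Helper1.PSGFinal
import Cfsg.Agent.Lib.Helper4.CSGConj
import Cfsg.Agent.Lib.Helper8.CSGAsym

/-! S4321: main assembly (helper1). -/

set_option autoImplicit false
set_option linter.unusedVariables false
set_option linter.unusedSectionVars false
set_option linter.style.longLine false

namespace Cfsg.Agent.Lib.Helper1.PSG

open Cfsg.Agent.Lib.Helper8.CSG

variable {G : Type*} [Group G] [Finite G]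

theorem core {p : ℕ} [Fact p.Prime] (hZ : ¬ p ∣ Nat.card ↥(Subgroup.center G))
    {r s : ℕ} (hs : s.Prime) (hfar : Far G p r s) {x y : G} (hx : p ∣ orderOf x) (hrx : r ∣ idx x)
    (hy : p ∣ orderOf y) (hsy : s ∣ idx y) {u x' : G} (hxu : x = u * x') (hcux : Commute u x')
    (hu : PElt p u) (hu1 : u ≠ 1) (hx' : ¬ p ∣ orderOf x') (hux : idx u ∣ idx x)
    (hpu : ¬ p ∣ idx u) : False := by
  obtain ⟨v, hv, hpv, hvy⟩ := exists_pelt_dvd hZ hfar hx hrx hy hsy hu hu1 hux hpu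
  have hpy : p ∣ idx y := hpv.trans hvy
  have hx'c : x' ∈ Subgroup.center G :=
    central_of_far hZ hfar hy hsy hpy hu hu1 hx' hcux (hxu ▸ hrx)
  have hru : r ∣ idx u := by
    have := idx_mul_central (u := u) hx'c
    rw [← hxu] at this
    rw [← this]; exact hrx
  have hpou : p ∣ orderOf u := dvd_orderOf_of_pelt hu hu1
  have hcent : ∀ b : G, ¬ p ∣ orderOf b → Commute u b → b ∈ Subgroup.center G := by
    intro b hb hcb
    have h1 := sing_mul hu hu1 hb hcb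
    have h2 := idx_dvd_idx_mul_of_coprime_order hcb h1.2
    exact central_of_far hZ hfar hy hsy hpy hu hu1 hb hcb (hru.trans h2.1)
  obtain ⟨hsp, hiso⟩ := iso_of_central hfar hpou hru hpu hcent hy hsy hs
  obtain ⟨P, hPn⟩ := normal_sylow_of_iso hZ hiso hv hpv
  have hvP : v ∈ (P : Subgroup G) := mem_normal_sylow P hPn hv
  have hv1 : v ≠ 1 := by
    rintro rfl
    have : idx (1 : G) = 1 := h8_idx_eq_one_of_mem_center (Subgroup.one_mem _)
    rw [this] at hpv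
    exact (Fact.out : p.Prime).one_lt.ne' (Nat.dvd_one.1 hpv)
  have hvn : ¬ ∀ h ∈ (P : Subgroup G), Commute v h := by
    intro hall
    have hle : (P : Subgroup G) ≤ Subgroup.centralizer ({v} : Set G) := by
      intro h hh
      rw [Subgroup.mem_centralizer_iff]
      intro z hz
      rw [Set.mem_singleton_iff] at hz
      rw [hz]
      exact (hall h hh).eq
    exact P.not_dvd_index (hpv.trans (Subgroup.index_dvd_of_le hle))
  obtain ⟨a, ha, hac⟩ := exists_noncentral_preg (idx_ne_one_of_pelt hZ hu hu1) hpu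
  obtain ⟨g, hgP, hgn, hg2⟩ := exists_second_center P hvP hvn
  obtain ⟨c₀, hc₀P, hc₀1, hc₀c⟩ := exists_center_ne_one P hvP hv1
  refine final_comp P hPn hgP hgn hg2 (fun g' hg' hn a' => class_eq_of_iso hiso P hPn hg' hn a')
    hc₀P hc₀1 hc₀c (a := a) ?_
  intro c hcP hc1 hcc hca
  exact hac (central_of_zP hZ hiso P hv hpv hc1 hcP hcc ha hca)

theorem main {p : ℕ} [Fact p.Prime] (hZ : ¬ p ∣ Nat.card ↥(Subgroup.center G)) (r s : ℕ)
    (hr : (r.Prime ∧ ∃ x : G, p ∣ orderOf x ∧ r ∣ idx x))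
    (hs : (s.Prime ∧ ∃ x : G, p ∣ orderOf x ∧ s ∣ idx x)) (hrs : r ≠ s) :
    (∃ x : G, p ∣ orderOf x ∧ r * s ∣ idx x) ∨
      (∃ t : ℕ, (t.Prime ∧ ∃ x : G, p ∣ orderOf x ∧ t ∣ idx x) ∧ t ≠ r ∧ t ≠ s ∧
        (∃ x : G, p ∣ orderOf x ∧ r * t ∣ idx x) ∧ (∃ x : G, p ∣ orderOf x ∧ t * s ∣ idx x)) ∨
      (∃ t u : ℕ, (t.Prime ∧ ∃ x : G, p ∣ orderOf x ∧ t ∣ idx x) ∧
        (u.Prime ∧ ∃ x : G, p ∣ orderOf x ∧ u ∣ idx x) ∧ t ≠ r ∧ u ≠ s ∧ t ≠ u ∧
        (∃ x : G, p ∣ orderOf x ∧ r * t ∣ idx x) ∧ (∃ x : G, p ∣ orderOf x ∧ t * u ∣ idx x) ∧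
        (∃ x : G, p ∣ orderOf x ∧ u * s ∣ idx x)) := by
  by_contra hcon
  have hfar : Far G p r s := far_of_not p r s hr.1 hs.1 hrs hcon
  obtain ⟨hrp, x, hx, hrx⟩ := hr
  obtain ⟨hsp, y, hy, hsy⟩ := hs
  obtain ⟨u, x', hxu, hcux, hu, hx', hux, -, hu1⟩ := exists_decomp p x
  obtain ⟨v, y', hyv, hcvy, hv, hy', hvy, -, hv1⟩ := exists_decomp p y
  have hux' : idx u ∣ idx x := idx_dvd_of_mem_zpowers hux
  have hvy' : idx v ∣ idx y := idx_dvd_of_mem_zpowers hvy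
  by_cases hpu : p ∣ idx u
  · by_cases hpv : p ∣ idx v
    · exact hfar x hx hrx y hy hsy x hx p p Fact.out Fact.out (hpu.trans hux') (hpu.trans hux')
        (hpv.trans hvy') (hpu.trans hux')
    · exact core hZ hrp (far_symm hfar) hy hsy hx hrx hyv hcvy hv (hv1 hy) hy' hvy' hpv
  · exact core hZ hsp hfar hx hrx hy hsy hxu hcux hu (hu1 hx) hx' hux' hpu

end Cfsg.Agent.Lib.Helper1.PSG
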