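import Mathlib
import Cfsg.Agent.Lib.Helper1.PSGDefs

/-! S4321 piece P8a: an element of the second centre of a Sylow subgroup (helper1). -/

set_option autoImplicit false
set_option linter.unusedVariables false
set_option linter.unusedSectionVars false
set_option linter.style.longLine false
set_option linter.style.haveILetI false

namespace Cfsg.Agent.Lib.Helper1.PSG

variable {G : Type*} [Group G] [Finite G]

theorem exists_center_ne_one {p : ℕ} [Fact p.Prime] (P : Sylow p G) {v : G}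
    (hvP : v ∈ (P : Subgroup G)) (hv1 : v ≠ 1) :
    ∃ c ∈ (P : Subgroup G), c ≠ 1 ∧ ∀ h ∈ (P : Subgroup G), Commute c h := by
  haveI : Nontrivial (↥(P : Subgroup G)) :=
    ⟨⟨⟨v, hvP⟩, 1, fun h => hv1 (congrArg Subtype.val h)⟩⟩
  have hP : IsPGroup p (↥(P : Subgroup G)) := P.isPGroup'
  haveI := hP.center_nontrivial
  obtain ⟨c, hc⟩ := exists_ne (1 : Subgroup.center (↥(P : Subgroup G)))
  refine ⟨((c : ↥(P : Subgroup G)) : G), (c : ↥(P : Subgroup G)).2, ?_, ?_⟩
  · intro h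
    apply hc
    apply Subtype.ext
    apply Subtype.ext
    exact h
  · intro h hh
    have := Subgroup.mem_center_iff.1 c.2 ⟨h, hh⟩
    have := congrArg Subtype.val this
    exact this.symm

theorem exists_second_center {p : ℕ} [Fact p.Prime] (P : Sylow p G) {v : G}
    (hvP : v ∈ (P : Subgroup G)) (hv : ¬ ∀ h ∈ (P : Subgroup G), Commute v h) :
    ∃ g ∈ (P : Subgroup G), (¬ ∀ h ∈ (P : Subgroup G), Commute g h) ∧
      ∀ h ∈ (P : Subgroup G), ∀ k ∈ (P : Subgroup G), Commute (h * g * h⁻¹ * g⁻¹) k := by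
  set Q : Subgroup G := (P : Subgroup G) with hQ
  have hP : IsPGroup p (↥Q) := P.isPGroup'
  set Z : Subgroup ↥Q := Subgroup.center ↥Q with hZ
  have hvZ : (⟨v, hvP⟩ : ↥Q) ∉ Z := by
    intro hz
    apply hv
    intro h hh
    have := Subgroup.mem_center_iff.1 hz ⟨h, hh⟩
    exact (congrArg Subtype.val this).symm
  haveI : Nontrivial (↥Q ⧸ Z) := by
    refine ⟨⟨QuotientGroup.mk ⟨v, hvP⟩, 1, ?_⟩⟩
    intro h
    exact hvZ ((QuotientGroup.eq_one_iff _).1 h)
  have hPq : IsPGroup p (↥Q ⧸ Z) := hP.to_quotient Z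
  haveI := hPq.center_nontrivial
  obtain ⟨c, hc⟩ := exists_ne (1 : Subgroup.center (↥Q ⧸ Z))
  obtain ⟨g, hg⟩ := QuotientGroup.mk_surjective (c : ↥Q ⧸ Z)
  refine ⟨(g : G), g.2, ?_, ?_⟩
  · intro hall
    apply hc
    apply Subtype.ext
    rw [← hg]
    show (QuotientGroup.mk g : ↥Q ⧸ Z) = 1
    rw [QuotientGroup.eq_one_iff, hZ, Subgroup.mem_center_iff]
    intro h
    apply Subtype.ext
    exact (hall h h.2).eq.symm
  · intro h hh k hk
    have hcen : ∀ y : ↥Q ⧸ Z, y * (c : ↥Q ⧸ Z) = (c : ↥Q ⧸ Z) * y :=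
      fun y => Subgroup.mem_center_iff.1 c.2 y
    have h1 : ((⟨h, hh⟩ : ↥Q) * g * (⟨h, hh⟩ : ↥Q)⁻¹ * g⁻¹) ∈ Z := by
      rw [← QuotientGroup.eq_one_iff]
      simp only [QuotientGroup.mk_mul, QuotientGroup.mk_inv, hg]
      rw [hcen]
      group
    have h2 := Subgroup.mem_center_iff.1 h1 ⟨k, hk⟩
    have h3 := congrArg Subtype.val h2
    exact h3.symm

end Cfsg.Agent.Lib.Helper1.PSG
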