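import Mathlib
import Cfsg.Prelude.Def_Local
import Cfsg.Prelude.Def_FusionSystem
import Cfsg.Agent.Lib.Helper1.PSolvSub
import Cfsg.Agent.Lib.Helper1.PConstrainedOfPSolvable
import Cfsg.Agent.Lib.Helper9.FusionAut

set_option autoImplicit false
set_option linter.style.haveILetI false
set_option linter.unusedSectionVars false
set_option linter.unusedVariables false

namespace Cfsg.Agent.Lib.Helper1.PSolvExt

open Cfsg Cfsg.FusionSystem

/-- an extension of a `p`-solvable group by a `p`-group kernel is `p`-solvable -/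
theorem isPSolvable_of_ker {G H : Type*} [Group G] [Group H] [Finite G] (p : ℕ)
    [hp : Fact p.Prime] (f : G →* H) (hf : Function.Surjective f) (hH : IsPSolvable p H)
    (hk : IsPGroup p f.ker) : IsPSolvable p G := by
  obtain ⟨n, K, h0, hlast, hmono, hnorm, hfac⟩ := hH
  let L : Fin (n + 1 + 1) → Subgroup G := Fin.cases ⊥ (fun i => (K i).comap f)
  have hL0 : L 0 = ⊥ := rfl
  have hLs : ∀ i : Fin (n + 1), L i.succ = (K i).comap f := fun i => by simp [L]
  refine ⟨n + 1, L, hL0, ?_, ?_, ?_, ?_⟩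
  · rw [← Fin.succ_last, hLs, hlast, Subgroup.comap_top]
  · intro i j hij
    induction i using Fin.cases with
    | zero => rw [hL0]; exact bot_le
    | succ i =>
      induction j using Fin.cases with
      | zero => exact absurd (Fin.le_zero_iff.mp hij) (Fin.succ_ne_zero i)
      | succ j =>
        rw [hLs, hLs]
        exact Subgroup.comap_mono (hmono (Fin.succ_le_succ_iff.mp hij))
  · intro i
    induction i using Fin.cases with
    | zero => rw [hL0]; infer_instance
    | succ i =>
      rw [hLs]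
      haveI := hnorm i
      infer_instance
  · intro i
    induction i using Fin.cases with
    | zero =>
      left
      rw [Fin.castSucc_zero, hL0, hLs, h0, Subgroup.relIndex_bot_left, MonoidHom.comap_bot]
      exact (IsPGroup.iff_card).mp hk
    | succ i =>
      rw [← Fin.succ_castSucc, hLs, hLs, Subgroup.relIndex_comap,
        Subgroup.map_comap_eq_self_of_surjective hf]
      exact hfac i

/-- the automizers of a fusion system realized by a `p`-solvable group are `p`-solvable -/
theorem isPSolvable_autGroup_of_realized {Ω : Type*} [Group Ω] {S : Subgroup Ω}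
    (F : FusionSystem S) {G : Type*} [Group G] [Finite G] (p : ℕ) [Fact p.Prime] (ι : S →* G)
    (hreal : F.IsRealizedBy ι) (hsol : IsPSolvable p G) {Q : Subgroup Ω} (hQS : Q ≤ S) :
    IsPSolvable p ↥(F.autGroup Q) := by
  have hinj := hreal.1
  -- the graph relation
  let R : Subgroup (G × ↥(F.autGroup Q)) :=
    { carrier := {w | ∀ x : Q, ι ⟨((w.2 : MulAut Q) x : Q), hQS ((w.2 : MulAut Q) x).2⟩
        = w.1 * ι ⟨x, hQS x.2⟩ * w.1⁻¹}
      one_mem' := by
        intro x
        simp
      mul_mem' := by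
        intro a b ha hb x
        have h1 := ha ((b.2 : MulAut Q) x)
        have h2 := hb x
        show ι ⟨(((a.2 : MulAut Q) * (b.2 : MulAut Q)) x : Q), _⟩ = (a.1 * b.1) * _ * (a.1 * b.1)⁻¹
        rw [mul_inv_rev]
        have h3 : ((a.2 : MulAut Q) * (b.2 : MulAut Q)) x = (a.2 : MulAut Q) ((b.2 : MulAut Q) x) := rfl
        calc ι ⟨(((a.2 : MulAut Q) * (b.2 : MulAut Q)) x : Q), _⟩
            = a.1 * (b.1 * ι ⟨x, hQS x.2⟩ * b.1⁻¹) * a.1⁻¹ := by rw [← h2, ← h1]; rfl
          _ = _ := by group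
      inv_mem' := by
        intro a ha x
        have h1 := ha ((a.2 : MulAut Q)⁻¹ x)
        have h2 : (a.2 : MulAut Q) ((a.2 : MulAut Q)⁻¹ x) = x := MulAut.apply_inv_self _ _ _
        show ι ⟨(((a.2 : MulAut Q)⁻¹) x : Q), _⟩ = a.1⁻¹ * _ * a.1⁻¹⁻¹
        have h3 : ι ⟨x, hQS x.2⟩ = a.1 * ι ⟨(((a.2 : MulAut Q)⁻¹) x : Q),
            hQS (((a.2 : MulAut Q)⁻¹) x).2⟩ * a.1⁻¹ := by
          rw [← h1]
          congr 1
          apply Subtype.ext
          rw [h2]
        rw [h3]
        group }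
  have hRmem : ∀ w : G × ↥(F.autGroup Q), w ∈ R ↔
      ∀ x : Q, ι ⟨((w.2 : MulAut Q) x : Q), hQS ((w.2 : MulAut Q) x).2⟩
        = w.1 * ι ⟨x, hQS x.2⟩ * w.1⁻¹ := fun w => Iff.rfl
  let π₁ : ↥R →* G := (MonoidHom.fst G ↥(F.autGroup Q)).comp R.subtype
  let π₂ : ↥R →* ↥(F.autGroup Q) := (MonoidHom.snd G ↥(F.autGroup Q)).comp R.subtype
  have hπ₁ : Function.Injective π₁ := by
    rw [injective_iff_map_eq_one]
    rintro ⟨⟨g, α⟩, hw⟩ h1
    have hg : g = 1 := h1
    subst hg
    have hα : α = 1 := by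
      apply Subtype.ext
      apply MulEquiv.ext
      intro x
      have h2 := (hRmem _).mp hw x
      simp only [one_mul, inv_one, mul_one] at h2
      have h3 := hinj h2
      apply Subtype.ext
      exact congrArg (fun s : S => (s : Ω)) h3
    subst hα
    rfl
  have hπ₂ : Function.Surjective π₂ := by
    intro α
    have h1 := (Cfsg.Agent.Lib.Helper9.mem_autGroup_iff F hQS (α : MulAut Q)).mp α.2
    obtain ⟨g, hg⟩ := (hreal.2 Q hQS _ (fun x => hQS ((α : MulAut Q) x).2)).mp h1
    refine ⟨⟨⟨g, α⟩, ?_⟩, rfl⟩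
    rw [hRmem]
    intro x
    exact hg x
  haveI : Finite ↥R := Finite.of_injective π₁ hπ₁
  have h1 : IsPSolvable p ↥π₁.range := PSolvSub.isPSolvable_subgroup hsol _
  have h2 : IsPSolvable p ↥R :=
    isPSolvable_of_surjective p (MonoidHom.ofInjective hπ₁).symm.toMonoidHom
      (MonoidHom.ofInjective hπ₁).symm.surjective h1
  exact isPSolvable_of_surjective p π₂ hπ₂ h2

end Cfsg.Agent.Lib.Helper1.PSolvExt
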