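import Mathlib
import Cfsg.Agent.Lib.Helper1.PSolvStable2
import Cfsg.Agent.Lib.Helper1.StableQuad7
import Cfsg.Agent.Lib.Helper1.NPC4
import Cfsg.Agent.Lib.Helper1.PLengthOne
set_option autoImplicit false
open scoped commutatorElement Pointwise
universe u v w
namespace Cfsg.Agent.Lib.Helper1.PSolvW

open Cfsg Cfsg.Agent.Lib.Helper1.StableQuad Cfsg.Agent.Lib.Helper1.QuadSL2
  Cfsg.Agent.Lib.Helper1.NPC Cfsg.Agent.Lib.Helper2

variable {G : Type u} [Group G]

theorem sup_normalizer_WOf_eq_top [Finite G] {p : ℕ} [hp : Fact p.Prime] (hp5 : 5 ≤ p)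
    (hsep : IsPSolvable p G) (S : Sylow p G) :
    pPrimeCore p G ⊔ Subgroup.normalizer
      (((stableNormalClosure p ↥(S : Subgroup G)).map (S : Subgroup G).subtype) : Set G) = ⊤ := by
  have hp2 : p ≠ 2 := by omega
  have hp3 : p ≠ 3 := by omega
  obtain ⟨N, hN⟩ : ∃ N : Subgroup G, N = pPrimeCore p G := ⟨_, rfl⟩
  haveI hNn : N.Normal := by
    rw [hN]
    haveI : (pPrimeCore p G).Characteristic := pPrimeCore_characteristic p
    infer_instance
  have hNcop : (Nat.card N).Coprime p := by rw [hN]; exact pPrimeCore_card_coprime p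
  rw [← hN]
  obtain ⟨W, hW⟩ : ∃ W : Subgroup G, W = WOf p (S : Subgroup G) := ⟨_, rfl⟩
  change N ⊔ Subgroup.normalizer ((WOf p (S : Subgroup G) : Subgroup G) : Set G) = ⊤
  rw [← hW]
  have hWS : W ≤ S := by rw [hW]; exact WOf_le p _
  -- the quotient
  have hsolq : IsPSolvable p (G ⧸ N) :=
    isPSolvable_of_surjective p (QuotientGroup.mk' N) (QuotientGroup.mk'_surjective N) hsep
  have hst : IsActionPStable p (G ⧸ N) := isActionPStable_of_pSolvable hp2 hp3 hsolq
  have hbot : pPrimeCore p (G ⧸ N) = ⊥ := by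
    subst hN; exact pPrimeCore_quotient_eq_bot p
  have hc : Subgroup.centralizer (pCore p (G ⧸ N) : Set (G ⧸ N)) ≤ pCore p (G ⧸ N) :=
    centralizer_pCore_le_of_isPSolvable hbot (PSolvSub.isPSolvable_subgroup hsolq _)
  obtain ⟨Sb, hSb⟩ : ∃ Sb : Sylow p (G ⧸ N),
      (Sb : Subgroup (G ⧸ N)) = (S : Subgroup G).map (QuotientGroup.mk' N) :=
    ⟨S.mapSurjective (QuotientGroup.mk'_surjective N), Sylow.coe_mapSurjective _ _⟩
  have hWbn := WOf_normal hst hc Sb
  -- S ∩ N = 1
  have hSN : ∀ a ∈ (S : Subgroup G), a ∈ N → a = 1 := by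
    intro a haS haN
    obtain ⟨k, hk⟩ := S.2 ⟨a, haS⟩
    have d1 : orderOf a ∣ p ^ k := by
      apply orderOf_dvd_of_pow_eq_one
      have := congrArg Subtype.val hk
      simpa using this
    have d2 : orderOf a ∣ Nat.card N := by
      have : orderOf (⟨a, haN⟩ : N) ∣ Nat.card N := orderOf_dvd_natCard _
      rwa [Subgroup.orderOf_mk] at this
    have hcop : Nat.Coprime (p ^ k) (Nat.card N) := Nat.Coprime.pow_left k hNcop.symm
    exact orderOf_eq_one_iff.mp (Nat.eq_one_of_dvd_coprimes hcop d1 d2)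
  have hWmap : (WOf p (S : Subgroup G)).map (QuotientGroup.mk' N) =
      WOf p (Sb : Subgroup (G ⧸ N)) := by
    have := Cfsg.Agent.Lib.Helper7.inducedFunctor_map_of_injOn
      (isCharPFunctor_stableNormalClosure.{u} p) (QuotientGroup.mk' N) (S : Subgroup G) S.2
      (fun a ha h1 => hSN a ha (by
        rwa [QuotientGroup.mk'_apply, QuotientGroup.eq_one_iff] at h1))
    rw [hSb]
    exact this
  -- M = W ⊔ N is normal
  obtain ⟨M, hM⟩ : ∃ M : Subgroup G, M = W ⊔ N := ⟨_, rfl⟩
  haveI hMn : M.Normal := by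
    have h1 : M = (W.map (QuotientGroup.mk' N)).comap (QuotientGroup.mk' N) := by
      rw [Subgroup.comap_map_eq, QuotientGroup.ker_mk', hM]
    rw [h1, hW, hWmap]
    exact hWbn.comap _
  obtain ⟨Q, hQ⟩ := subnormal_inf_sylow p M hMn.isSubnormal S
  have hfr := Sylow.normalizer_sup_eq_top Q
  have hQmap : (Q : Subgroup M).map M.subtype = W := by
    rw [hQ, Subgroup.subgroupOf_map_subtype]
    apply le_antisymm
    · rintro s ⟨hsS, hsM⟩
      rw [hM] at hsM
      have hsM' : s ∈ W ⊔ N := hsM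
      rw [Subgroup.mem_sup_of_normal_right] at hsM'
      obtain ⟨w, hw, n, hn, rfl⟩ := hsM'
      have hnS : n ∈ (S : Subgroup G) := by
        have : n = w⁻¹ * (w * n) := by group
        rw [this]
        exact Subgroup.mul_mem _ (Subgroup.inv_mem _ (hWS hw)) hsS
      rw [hSN n hnS hn, mul_one]
      exact hw
    · intro w hw
      exact ⟨hWS hw, by rw [hM]; exact (le_sup_left : W ≤ W ⊔ N) hw⟩
  rw [hQmap] at hfr
  rw [eq_top_iff, ← hfr]
  apply sup_le
  · exact le_sup_right
  · rw [hM]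
    apply sup_le
    · exact le_trans Subgroup.le_normalizer le_sup_right
    · exact le_sup_left

end Cfsg.Agent.Lib.Helper1.PSolvW
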