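import Mathlib
import Cfsg.Agent.Lib.Helper9.PU2770A

/-!
# S2769 / S2768 rider units (helper1): (N5) `Ŵ = ZJ ⊔ W` abelian and normal, (S1) `S ⊓ C_G(Ŵ)` normal
-/

set_option autoImplicit false
set_option linter.unusedVariables false
set_option linter.unusedSectionVars false
set_option linter.style.longLine false
set_option linter.style.haveILetI false

namespace Cfsg.Agent.Lib.Helper1.PU2769H

open scoped commutatorElement

variable {G : Type*} [Group G]

/-- (N5a) a join of two subgroups of a commutative subgroup is commutative -/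
theorem sup_comm_of_le (Z W B : Subgroup G) (hZ : Z ≤ B) (hW : W ≤ B)
    (hB : ∀ a ∈ B, ∀ b ∈ B, a * b = b * a) :
    ∀ a ∈ Z ⊔ W, ∀ b ∈ Z ⊔ W, a * b = b * a := by
  have hle : Z ⊔ W ≤ B := sup_le hZ hW
  intro a ha b hb
  exact hB a (hle ha) b (hle hb)

/-- (N5b) `Z ⊔ W` is normal if `W` is normal, `[Z, B] ≤ W` for all `B` in a family `F`, `S` normalises
`Z`, and `⟨F⟩ S = G`. -/
theorem sup_normal_of_commutator_le (Z W S : Subgroup G) [hWn : W.Normal] (F : Set (Subgroup G))
    (hF : ∀ B ∈ F, ⁅Z, B⁆ ≤ W) (hS : S ≤ Subgroup.normalizer (Z : Set G))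
    (hgen : sSup F ⊔ S = ⊤) : (Z ⊔ W).Normal := by
  -- the normaliser of `Z ⊔ W` is everything
  have hconj : ∀ g : G, (∀ z ∈ Z, g * z * g⁻¹ ∈ Z ⊔ W) → (∀ z ∈ Z, g⁻¹ * z * g⁻¹⁻¹ ∈ Z ⊔ W) →
      g ∈ Subgroup.normalizer ((Z ⊔ W : Subgroup G) : Set G) := by
    intro g h1 h2
    have hmap : ∀ k : G, (∀ z ∈ Z, k * z * k⁻¹ ∈ Z ⊔ W) → ∀ x ∈ Z ⊔ W, k * x * k⁻¹ ∈ Z ⊔ W := by
      intro k hk x hx
      have hx' : x ∈ ((Z ⊔ W : Subgroup G) : Set G) := hx
      rw [Subgroup.mul_normal, Set.mem_mul] at hx'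
      obtain ⟨z, hz, w, hw, rfl⟩ := hx'
      have e : k * (z * w) * k⁻¹ = (k * z * k⁻¹) * (k * w * k⁻¹) := by group
      rw [e]
      exact Subgroup.mul_mem _ (hk z hz) (Subgroup.mem_sup_right (hWn.conj_mem w hw k))
    rw [Subgroup.mem_normalizer_iff]
    intro x
    constructor
    · exact hmap g h1 x
    · intro hx
      have := hmap g⁻¹ h2 _ hx
      have e : g⁻¹ * (g * x * g⁻¹) * g⁻¹⁻¹ = x := by group
      rwa [e] at this
  have hSle : S ≤ Subgroup.normalizer ((Z ⊔ W : Subgroup G) : Set G) := by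
    intro s hs
    have hsN := hS hs
    apply hconj
    · intro z hz
      exact Subgroup.mem_sup_left ((Subgroup.mem_normalizer_iff.1 hsN z).1 hz)
    · intro z hz
      have hsN' : s⁻¹ ∈ Subgroup.normalizer (Z : Set G) := Subgroup.inv_mem _ hsN
      exact Subgroup.mem_sup_left ((Subgroup.mem_normalizer_iff.1 hsN' z).1 hz)
  have hFle : sSup F ≤ Subgroup.normalizer ((Z ⊔ W : Subgroup G) : Set G) := by
    apply sSup_le
    intro B hB b hb
    have hcomm : ∀ c ∈ B, ∀ z ∈ Z, c * z * c⁻¹ ∈ Z ⊔ W := by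
      intro c hc z hz
      -- `c z c⁻¹ = (⁅z, c⁆)⁻¹ z`
      have h1 : ⁅z, c⁆ ∈ W := hF B hB (Subgroup.commutator_mem_commutator hz hc)
      have e : c * z * c⁻¹ = z * (z⁻¹ * (⁅z, c⁆)⁻¹ * z) := by
        rw [commutatorElement_def]; group
      rw [e]
      refine Subgroup.mul_mem _ (Subgroup.mem_sup_left hz) (Subgroup.mem_sup_right ?_)
      have := hWn.conj_mem _ (W.inv_mem h1) z⁻¹
      simpa using this
    apply hconj
    · exact hcomm b hb
    · exact hcomm b⁻¹ (B.inv_mem hb)
  have htop : Subgroup.normalizer ((Z ⊔ W : Subgroup G) : Set G) = ⊤ := by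
    apply top_le_iff.1
    rw [← hgen]
    exact sup_le hFle hSle
  exact Subgroup.normalizer_eq_top_iff.1 htop

/-- (S1a) the centraliser of a join -/
theorem centralizer_sup_eq (Z W : Subgroup G) :
    Subgroup.centralizer ((Z ⊔ W : Subgroup G) : Set G)
      = Subgroup.centralizer (Z : Set G) ⊓ Subgroup.centralizer (W : Set G) := by
  apply le_antisymm
  · exact le_inf (Subgroup.centralizer_le (by intro x hx; exact Subgroup.mem_sup_left hx))
      (Subgroup.centralizer_le (by intro x hx; exact Subgroup.mem_sup_right hx))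
  · intro g hg
    obtain ⟨hgZ, hgW⟩ := hg
    have hle : Z ⊔ W ≤ Subgroup.centralizer ({g} : Set G) := by
      apply sup_le
      · intro z hz
        rw [Subgroup.mem_centralizer_iff]
        intro h hh
        rw [Set.mem_singleton_iff] at hh
        rw [hh]
        exact (Subgroup.mem_centralizer_iff.1 hgZ z hz).symm
      · intro w hw
        rw [Subgroup.mem_centralizer_iff]
        intro h hh
        rw [Set.mem_singleton_iff] at hh
        rw [hh]
        exact (Subgroup.mem_centralizer_iff.1 hgW w hw).symm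
    rw [Subgroup.mem_centralizer_iff]
    intro x hx
    have := Subgroup.mem_centralizer_iff.1 (hle hx) g (Set.mem_singleton g)
    exact this.symm

/-- (S1b) `S ⊓ C_G(Ŵ)` is normal in `G` when `Ŵ ≥ W` is normal and `C_G(W) S ≠ G`. -/
theorem inf_centralizer_normal_of_dich [Finite G] {p : ℕ} [Fact p.Prime] (S : Sylow p G)
    (M : Subgroup G) (hM : IsCoatom M) (hSM : (S : Subgroup G) ≤ M)
    (huniq : ∀ M' : Subgroup G, IsCoatom M' → (S : Subgroup G) ≤ M' → M' = M)
    (What W : Subgroup G) [What.Normal] (hW : W ≤ What)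
    (hne : Subgroup.centralizer (W : Set G) ⊔ (S : Subgroup G) ≠ ⊤) :
    ((S : Subgroup G) ⊓ Subgroup.centralizer (What : Set G)).Normal := by
  haveI : (Subgroup.centralizer (What : Set G)).Normal := Subgroup.normal_centralizer
  rcases Cfsg.Agent.Lib.Helper9.PU2770A.dich S M hM hSM huniq
    (Subgroup.centralizer (What : Set G)) with h | h
  · exfalso
    apply hne
    apply top_le_iff.1
    rw [← h]
    exact sup_le_sup_right (Subgroup.centralizer_le (by intro x hx; exact hW hx)) _
  · rw [inf_comm]; exact h.2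

end Cfsg.Agent.Lib.Helper1.PU2769H
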