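import Mathlib
import Cfsg.Prelude
import Cfsg.Agent.Lib.Helper1.PgJ

/-!
# Case B, hyperbolic situation: `-1_W ⊕ 1_C ∈ Ω` forces `(-1)^n` to be a square
-/

set_option autoImplicit false
set_option maxHeartbeats 4000000
set_option linter.unusedSimpArgs false
set_option linter.unusedVariables false
set_option linter.unusedSectionVars false
set_option linter.style.haveILetI false

namespace Cfsg.Agent.Lib.Helper1.Pg

open Module Matrix QuadraticMap
open Cfsg
open Cfsg.Agent.Lib.Helper1.Bc Cfsg.Agent.Lib.Helper5.SpinorNorm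
  Cfsg.Agent.Lib.Helper5.CartanDieudonne Cfsg.Agent.Lib.Helper7.PsB

variable {ι : Type} [Fintype ι] [DecidableEq ι] {F : Type*} [Field F] [Fintype F]

theorem isSquare_of_hyp (Q : QuadraticForm F (ι → F)) (h2 : (2 : F) ≠ 0)
    (hQ : (polarBilin Q).Nondegenerate) (hι : 2 ≤ Fintype.card ι)
    (V₁ V₂ : Submodule F (ι → F)) (hcompl : IsCompl V₁ V₂)
    (horth : ∀ v ∈ V₁, ∀ w ∈ V₂, polar ⇑Q v w = 0)
    (gz : ↥(isometryGroup F ⇑Q)) (hgz : gz ∈ commutator ↥(isometryGroup F ⇑Q))
    (hz1 : ∀ v ∈ V₁, ((gz : Matrix.GeneralLinearGroup ι F) : Matrix ι ι F) *ᵥ v = -v)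
    (hz2 : ∀ w ∈ V₂, ((gz : Matrix.GeneralLinearGroup ι F) : Matrix ι ι F) *ᵥ w = w)
    (n : ℕ) (E Fv : Fin n → (ι → F)) (hE : ∀ i, E i ∈ V₁) (hF : ∀ i, Fv i ∈ V₁)
    (hEE : ∀ i j, polar ⇑Q (E i) (E j) = 0) (hFF : ∀ i j, polar ⇑Q (Fv i) (Fv j) = 0)
    (hEF : ∀ i j, polar ⇑Q (E i) (Fv j) = if i = j then 1 else 0)
    (hspan : ∀ v ∈ V₁, v ∈ Submodule.span F (Set.range E) ⊔ Submodule.span F (Set.range Fv)) :
    IsSquare ((-1 : F) ^ n) := by
  classical
  obtain ⟨bfam, hbl, hbr⟩ : ∃ bfam : Fin n ⊕ Fin n → (ι → F),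
      (∀ i, bfam (Sum.inl i) = E i + Fv i) ∧ (∀ i, bfam (Sum.inr i) = E i - Fv i) :=
    ⟨Sum.elim (fun i => E i + Fv i) (fun i => E i - Fv i), fun i => rfl, fun i => rfl⟩
  have hQ0 : ∀ x : ι → F, polar ⇑Q x x = 0 → Q x = 0 := by
    intro x hx
    rw [QuadraticMap.polar_self] at hx
    simp only [nsmul_eq_mul, Nat.cast_ofNat] at hx
    exact (mul_eq_zero.mp hx).resolve_left h2
  have hQE : ∀ i, Q (E i) = 0 := fun i => hQ0 _ (hEE i i)
  have hQF : ∀ i, Q (Fv i) = 0 := fun i => hQ0 _ (hFF i i)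
  have hFE : ∀ i j, polar ⇑Q (Fv i) (E j) = if i = j then 1 else 0 := by
    intro i j
    rw [polar_comm, hEF]
    simp only [eq_comm]
  have hQl : ∀ i, Q (bfam (Sum.inl i)) = 1 := by
    intro i
    rw [hbl, QuadraticMap.map_add (⇑Q), hQE, hQF, hEF, if_pos rfl, zero_add, zero_add]
  have hQr : ∀ i, Q (bfam (Sum.inr i)) = -1 := by
    intro i
    rw [hbr, sub_eq_add_neg, QuadraticMap.map_add (⇑Q), QuadraticMap.map_neg, hQE, hQF,
      polar_neg_right, hEF, if_pos rfl, zero_add, zero_add]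
  have hQne : ∀ a, Q (bfam a) ≠ 0 := by
    rintro (i | i)
    · rw [hQl]; exact one_ne_zero
    · rw [hQr]; exact neg_ne_zero.mpr one_ne_zero
  have horth' : ∀ a a', a ≠ a' → polar ⇑Q (bfam a) (bfam a') = 0 := by
    rintro (i | i) (j | j) hne
    · have hij : i ≠ j := fun h => hne (by rw [h])
      have hji : j ≠ i := fun h => hij h.symm
      rw [hbl, hbl, polar_add_left, polar_add_right, polar_add_right, hEE, hFF, hEF, hFE,
        if_neg hij]
      ring
    · rw [hbl, hbr, polar_add_left, polar_sub_right, polar_sub_right, hEE, hFF, hEF, hFE]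
      split_ifs <;> ring
    · rw [hbr, hbl, polar_sub_left, polar_add_right, polar_add_right, hEE, hFF, hEF, hFE]
      split_ifs <;> ring
    · have hij : i ≠ j := fun h => hne (by rw [h])
      rw [hbr, hbr, polar_sub_left, polar_sub_right, polar_sub_right, hEE, hFF, hEF, hFE,
        if_neg hij]
      ring
  have hbV₁ : ∀ a, bfam a ∈ V₁ := by
    rintro (i | i)
    · rw [hbl]; exact V₁.add_mem (hE i) (hF i)
    · rw [hbr]; exact V₁.sub_mem (hE i) (hF i)
  have hEs : ∀ i, E i ∈ Submodule.span F (Set.range bfam) := by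
    intro i
    have : E i = (2 : F)⁻¹ • (bfam (Sum.inl i) + bfam (Sum.inr i)) := by
      rw [hbl, hbr]
      have : E i + Fv i + (E i - Fv i) = (2 : F) • E i := by rw [two_smul]; abel
      rw [this, smul_smul, inv_mul_cancel₀ h2, one_smul]
    rw [this]
    exact Submodule.smul_mem _ _ (Submodule.add_mem _ (Submodule.subset_span ⟨_, rfl⟩)
      (Submodule.subset_span ⟨_, rfl⟩))
  have hFs : ∀ i, Fv i ∈ Submodule.span F (Set.range bfam) := by
    intro i
    have : Fv i = (2 : F)⁻¹ • (bfam (Sum.inl i) - bfam (Sum.inr i)) := by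
      rw [hbl, hbr]
      have : E i + Fv i - (E i - Fv i) = (2 : F) • Fv i := by rw [two_smul]; abel
      rw [this, smul_smul, inv_mul_cancel₀ h2, one_smul]
    rw [this]
    exact Submodule.smul_mem _ _ (Submodule.sub_mem _ (Submodule.subset_span ⟨_, rfl⟩)
      (Submodule.subset_span ⟨_, rfl⟩))
  have hspan' : ∀ v ∈ V₁, v ∈ Submodule.span F (Set.range bfam) := by
    intro v hv
    have h3 : Submodule.span F (Set.range E) ⊔ Submodule.span F (Set.range Fv) ≤
        Submodule.span F (Set.range bfam) := by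
      apply sup_le
      · rw [Submodule.span_le]
        rintro _ ⟨i, rfl⟩
        exact hEs i
      · rw [Submodule.span_le]
        rintro _ ⟨i, rfl⟩
        exact hFs i
    exact h3 (hspan v hv)
  have hrep : IsRep Q gz (famList bfam) := by
    refine ⟨?_, ?_⟩
    · intro v hv
      obtain ⟨a, rfl⟩ := (mem_famList _ v).mp hv
      exact hQne a
    · apply matrix_eq_of_isCompl V₁ V₂ hcompl
      intro v₁ hv₁ w hw
      rw [Matrix.mulVec_add, Matrix.mulVec_add, hz1 v₁ hv₁, hz2 w hw,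
        rprod_neg Q bfam hQne horth' v₁ (hspan' v₁ hv₁),
        rprod_fix' Q bfam w (fun a => horth _ (hbV₁ a) w hw)]
  have h4 := ((mem_commutator_iff Q h2 hQ hι gz _ hrep).mp hgz).2
  rw [famList_prod, Fintype.prod_sum_type, Finset.prod_congr rfl (fun i _ => hQl i),
    Finset.prod_congr rfl (fun i _ => hQr i), Finset.prod_const_one, one_mul, Finset.prod_const,
    Finset.card_univ, Fintype.card_fin] at h4
  exact h4

end Cfsg.Agent.Lib.Helper1.Pg
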