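import Mathlib
import Cfsg.Prelude
import Cfsg.Agent.Lib.Helper1.PgK

/-!
# From `Ω_{2n+1}(q)` to `PSp_{2n}(q)`: set-up and the odd cases
-/

set_option autoImplicit false
set_option maxHeartbeats 4000000
set_option linter.unusedSimpArgs false
set_option linter.unusedVariables false
set_option linter.unusedSectionVars false
set_option linter.style.haveILetI false

namespace Cfsg.Agent.Lib.Helper1.Pg

open Module Matrix QuadraticMap
open Cfsg
open Cfsg.Agent.Lib.Helper1.Bc Cfsg.Agent.Lib.Helper5.SpinorNorm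
  Cfsg.Agent.Lib.Helper5.CartanDieudonne

variable {ι : Type} [Fintype ι] [DecidableEq ι] {F : Type*} [Field F]

/-- the linear map of an isometry, with its order -/
theorem setup (Q : QuadraticForm F (ι → F)) (g : ↥(isometryGroup F ⇑Q)) (N : ℕ)
    (hord : orderOf g = N) :
    ∃ X : End F (ι → F),
      (∀ (k : ℕ) (v : ι → F), (X ^ k) v =
        (((g ^ k : ↥(isometryGroup F ⇑Q)) : Matrix.GeneralLinearGroup ι F) : Matrix ι ι F) *ᵥ v) ∧
      X ^ N = 1 ∧ (∀ k : ℕ, X ^ k = 1 → N ∣ k) ∧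
      (∀ x y, polarBilin Q (X x) (X y) = polarBilin Q x y) := by
  obtain ⟨Mx, hMx⟩ : ∃ Mx : Matrix ι ι F,
      Mx = ((g : Matrix.GeneralLinearGroup ι F) : Matrix ι ι F) := ⟨_, rfl⟩
  have hMpow : ∀ k : ℕ,
      (((g ^ k : ↥(isometryGroup F ⇑Q)) : Matrix.GeneralLinearGroup ι F) : Matrix ι ι F) =
        Mx ^ k := by
    intro k
    rw [hMx, Subgroup.coe_pow, Units.val_pow_eq_pow_val]
  obtain ⟨X, hX⟩ : ∃ X : End F (ι → F), X = Matrix.toLin' Mx := ⟨_, rfl⟩
  have hXpow : ∀ k : ℕ, X ^ k = Matrix.toLin' (Mx ^ k) := by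
    intro k
    rw [hX, Matrix.toLin'_pow]
  have hXone : ∀ k : ℕ, X ^ k = 1 → g ^ k = 1 := by
    intro k h
    rw [hXpow] at h
    have h1 : Mx ^ k = 1 := by
      apply Matrix.toLin'.injective
      rw [h, Matrix.toLin'_one]
      rfl
    apply Subtype.ext
    apply Units.ext
    rw [hMpow, h1]
    rfl
  refine ⟨X, ?_, ?_, ?_, ?_⟩
  · intro k v
    rw [hXpow, Matrix.toLin'_apply, hMpow]
  · rw [hXpow, ← hMpow, ← hord, pow_orderOf_eq_one]
    exact Matrix.toLin'_one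
  · intro k h
    rw [← hord]
    exact orderOf_dvd_of_pow_eq_one (hXone k h)
  · intro x y
    rw [hX, Matrix.toLin'_apply, Matrix.toLin'_apply, hMx]
    exact polar_act Q g x y

variable [Fintype F]

/-- Case A1 -/
theorem caseA1 (Q : QuadraticForm F (ι → F)) (h2 : (2 : F) ≠ 0)
    (hQ : (polarBilin Q).Nondegenerate) (n : ℕ) (hcard : Fintype.card ι = 2 * n + 1)
    (g : ↥(isometryGroup F ⇑Q)) (N : ℕ) (hord : orderOf g = N) (hN1 : 1 < N) (hNodd : Odd N)
    (hNF : (N : F) ≠ 0) : N ∈ Set.range (orderOf : Cfsg.PSp n F → ℕ) := by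
  obtain ⟨X, -, hXN, hordX, hiso⟩ := setup Q g N hord
  have hdim : finrank F (ι → F) = 2 * n + 1 := by
    rw [Module.finrank_fintype_fun_eq_card, hcard]
  obtain ⟨b, hb1, hbn, G, hG⟩ := sp_of_odd_semisimple (polarBilin Q)
    (fun x y => polar_comm _ _ _) hQ.1 h2 X hiso n hdim N hN1 hNodd hNF hXN hordX
  obtain ⟨c, rfl⟩ : ∃ c, n = b + c := ⟨n - b, by omega⟩
  exact psp_odd_of_sp b c hb1 G N hG hNodd

/-- Case A2 -/
theorem caseA2 (Q : QuadraticForm F (ι → F)) (h2 : (2 : F) ≠ 0)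
    (hQ : (polarBilin Q).Nondegenerate) (n : ℕ) (hcard : Fintype.card ι = 2 * n + 1)
    (p : ℕ) [Fact p.Prime] [CharP F p] (s : ℕ) (hs : s.Prime) (hs2 : s ≠ 2) (hsp : s ≠ p)
    (g : ↥(isometryGroup F ⇑Q)) (hord : orderOf g = p * s) :
    p * s ∈ Set.range (orderOf : Cfsg.PSp n F → ℕ) := by
  have hp : p.Prime := Fact.out
  have hp2 : p ≠ 2 := by
    rintro rfl
    apply h2
    have := CharP.cast_eq_zero F 2
    exact_mod_cast this
  obtain ⟨X, -, hXN, hordX, hiso⟩ := setup Q g _ hord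
  have hdim : finrank F (ι → F) = 2 * n + 1 := by
    rw [Module.finrank_fintype_fun_eq_card, hcard]
  have hoddps : Odd (p * s) := (hp.odd_of_ne_two hp2).mul (hs.odd_of_ne_two hs2)
  rcases sp_of_p_mul (polarBilin Q) (fun x y => polar_comm _ _ _) hQ.1 h2 X hiso n hdim p s hs hs2
    hsp hXN hordX with ⟨b, hb1, hbn, G, hG⟩ | ⟨b, hb1, hbn, G, hG⟩
  · obtain ⟨c, rfl⟩ : ∃ c, n = b + c := ⟨n - b, by omega⟩
    exact psp_odd_of_sp b c hb1 G _ hG hoddps
  · obtain ⟨u, hu⟩ := exists_sp_one_order_p (F := F) p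
    have hcop : Nat.Coprime s p := (Nat.coprime_primes hs hp).mpr hsp
    obtain ⟨G', hG'⟩ := sp_block_order b 1 G u s p hG hu hcop hs.pos hp.pos
    obtain ⟨c, rfl⟩ : ∃ c, n = b + 1 + c := ⟨n - (b + 1), by omega⟩
    rw [mul_comm]
    exact psp_odd_of_sp (b + 1) c (by omega) G' _ hG' (by rw [mul_comm]; exact hoddps)

end Cfsg.Agent.Lib.Helper1.Pg
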