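import Mathlib
import Cfsg.Prelude
import Cfsg.Agent.Lib.Helper1.PgL

/-!
# From `Ω_{2n+1}(q)` to `PSp_{2n}(q)`: the case of order `2 s`
-/

set_option autoImplicit false
set_option maxHeartbeats 4000000
set_option linter.unusedSimpArgs false
set_option linter.unusedVariables false
set_option linter.unusedSectionVars false
set_option linter.style.haveILetI false

namespace Cfsg.Agent.Lib.Helper1.Pg

open Module Matrix QuadraticMap
open Cfsg
open Cfsg.Agent.Lib.Helper1.Bc Cfsg.Agent.Lib.Helper5.SpinorNorm
  Cfsg.Agent.Lib.Helper5.CartanDieudonne Cfsg.Agent.Lib.Helper5.SpecSL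
  Cfsg.Agent.Lib.Helper5.HalfTorus

section line

variable {F : Type*} [Field F] {V : Type*} [AddCommGroup V] [Module F V]

theorem line_scalar (C : Submodule F V) (hC1 : finrank F C = 1) (Z : End F V)
    (hZC : ∀ w ∈ C, Z w ∈ C) (hZ2 : ∀ w ∈ C, Z (Z w) = w) :
    (∀ w ∈ C, Z w = w) ∨ (∀ w ∈ C, Z w = -w) := by
  obtain ⟨⟨e, heC⟩, he0, he⟩ := finrank_eq_one_iff'.mp hC1
  have he0' : e ≠ 0 := fun h => he0 (Subtype.ext h)
  have hCe : ∀ w ∈ C, ∃ c : F, w = c • e := by
    intro w hw
    obtain ⟨c, hc⟩ := he ⟨w, hw⟩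
    exact ⟨c, (congrArg Subtype.val hc).symm⟩
  obtain ⟨c, hc⟩ := hCe (Z e) (hZC e heC)
  have h3 := hZ2 e heC
  rw [hc, map_smul, hc, smul_smul] at h3
  have h4 : (c * c - 1) • e = 0 := by rw [sub_smul, one_smul, h3, sub_self]
  have h5 : c * c = 1 := sub_eq_zero.mp ((smul_eq_zero.mp h4).resolve_right he0')
  rcases mul_self_eq_one_iff.mp h5 with rfl | rfl
  · left
    intro w hw
    obtain ⟨c', rfl⟩ := hCe w hw
    rw [map_smul, hc, one_smul]
  · right
    intro w hw
    obtain ⟨c', rfl⟩ := hCe w hw
    rw [map_smul, hc, neg_smul, one_smul, smul_neg]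

end line

variable {ι : Type} [Fintype ι] [DecidableEq ι] {F : Type*} [Field F] [Fintype F]

/-- Case B -/
theorem caseB (Q : QuadraticForm F (ι → F)) (h2 : (2 : F) ≠ 0)
    (hQ : (polarBilin Q).Nondegenerate) (n : ℕ) (hn : 1 ≤ n)
    (hcard : Fintype.card ι = 2 * n + 1)
    (p : ℕ) [Fact p.Prime] [CharP F p] (s : ℕ) (hs : s.Prime) (hs2 : s ≠ 2) (hsp : s ≠ p)
    (g : ↥(isometryGroup F ⇑Q)) (hg : g ∈ commutator ↥(isometryGroup F ⇑Q))
    (hord : orderOf g = 2 * s) :
    2 * s ∈ Set.range (orderOf : Cfsg.PSp n F → ℕ) := by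
  classical
  have hp : p.Prime := Fact.out
  haveI := Fact.mk hs
  have hq1 : 1 ≤ Fintype.card F := Fintype.card_pos
  have hsq : ¬ s ∣ Fintype.card F := not_dvd_card_of_ne p s hs hsp
  have hsF : (s : F) ≠ 0 := natCast_ne_zero_of_prime_ne p s hs hsp
  obtain ⟨k, hk⟩ : ∃ k, k = orderOf ((Fintype.card F : ℕ) : ZMod s) := ⟨_, rfl⟩
  have hkpos : 0 < k := by
    have h3 : s ∣ Fintype.card F ^ (s - 1) - 1 := by
      have hcop : Nat.Coprime (Fintype.card F) s :=
        ((Nat.Prime.coprime_iff_not_dvd hs).mpr hsq).symm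
      have h4 := Nat.ModEq.pow_totient hcop
      rw [Nat.totient_prime hs] at h4
      exact (Nat.modEq_iff_dvd' (Nat.one_le_pow _ _ hq1)).mp h4.symm
    rw [dvd_pow_sub_one_iff _ _ _ hq1, ← hk] at h3
    exact Nat.pos_of_dvd_of_pos h3 (by have := hs.two_le; omega)
  -- the direct constructions
  have hkcase : (Even k ∧ 2 * n ≤ k) ∨ (Odd k ∧ n ≤ k) ∨
      2 * s ∈ Set.range (orderOf : Cfsg.PSp n F → ℕ) := by
    rcases Nat.even_or_odd k with he | ho
    · obtain ⟨η, hη⟩ := he
      by_cases hηn : η + 1 ≤ n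
      · right; right
        have h3 : s ∣ Fintype.card F ^ η + 1 :=
          Cfsg.Agent.Lib.Helper5.SpAdj.dvd_pow_add_one_of_order s hs _ hq1 η (by omega)
            (by rw [← hk, hη]; ring)
        exact psp_two_mul_direct p h2 s hs hs2 n η (by omega) hηn (Or.inr h3)
      · left
        exact ⟨⟨η, hη⟩, by omega⟩
    · by_cases hkn : k + 1 ≤ n
      · right; right
        have h3 : s ∣ Fintype.card F ^ k - 1 := by
          rw [dvd_pow_sub_one_iff _ _ _ hq1, ← hk]
        exact psp_two_mul_direct p h2 s hs hs2 n k hkpos hkn (Or.inl h3)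
      · right; left
        exact ⟨ho, by omega⟩
  rcases hkcase with hkc | hkc | hdone
  rotate_left 2
  · exact hdone
  all_goals
    obtain ⟨X, hXmat, hXN, hordX, hiso⟩ := setup Q g _ hord
    have hdim : finrank F (ι → F) = 2 * n + 1 := by
      rw [Module.finrank_fintype_fun_eq_card, hcard]
    have hsym : ∀ x y, polarBilin Q x y = polarBilin Q y x := fun x y => polar_comm _ _ _
    obtain ⟨W, C, hW, Φ, hcompl, horth, hC, hinv, hfrW, hfrC, hΦ, hkk⟩ :=
      two_mul_full (polarBilin Q) hsym hQ.1 h2 X hiso n hn hdim s hs hs2 hsq hsF hXN hordX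
        (by rw [← hk]; first | exact Or.inl hkc | exact Or.inr hkc)
    rw [← hk] at hkk
    haveI hnt : Nontrivial W := by
      apply Module.nontrivial_of_finrank_pos (R := F)
      omega
    have hcs : Commute (X ^ 2) (X ^ s) := (Commute.refl X).pow_pow 2 s
    obtain ⟨hXsW, hXsC⟩ := hinv (X ^ s) hcs
    have hyWs : ((X ^ 2).restrict hW) ^ s = 1 := by
      apply restrict_pow_eq_one
      intro v _
      rw [← pow_mul, hXN, Module.End.one_apply]
    have hY1 : X ^ 2 ≠ 1 := by
      intro h
      have h1 := hordX 2 h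
      have h3 : 2 * s ∣ 2 * 1 := by rw [mul_one]; exact h1
      have h4 := Nat.dvd_of_mul_dvd_mul_left (by norm_num) h3
      exact hs.one_lt.ne' (Nat.dvd_one.mp h4)
    have hyW1 : (X ^ 2).restrict hW ≠ 1 := by
      intro h
      apply hY1
      have := (model_pow_iff W C hcompl (X ^ 2) hW (fun w hw => (hC w).mp hw) 1).mp
        (by rw [pow_one, h])
      rwa [pow_one] at this
    have hyΦ := hΦ ((X ^ 2).restrict hW) rfl (fun x y => iso_pow (polarBilin Q) X hiso 2 _ _)
    have hxx : (X ^ s).restrict hXsW * (X ^ s).restrict hXsW = 1 := by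
      rw [← pow_two]
      apply restrict_pow_eq_one
      intro v _
      rw [← pow_mul, mul_comm, hXN, Module.End.one_apply]
    have hxc := restrict_comm W (X ^ 2) (X ^ s) hcs hW hXsW
    have hxi : ∀ x y : W, polarBilin Q (((X ^ s).restrict hXsW x : W) : ι → F)
        (((X ^ s).restrict hXsW y : W) : ι → F) = polarBilin Q (x : ι → F) (y : ι → F) :=
      fun x y => iso_pow (polarBilin Q) X hiso s _ _
    have hXs1 : X ^ s ≠ 1 := by
      intro h
      have h1 := hordX s h
      have h3 : s * 2 ∣ s * 1 := by rw [mul_one, mul_comm]; exact h1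
      have h4 := Nat.dvd_of_mul_dvd_mul_left hs.pos h3
      have := Nat.le_of_dvd one_pos h4
      omega
    have hline := line_scalar C hfrC (X ^ s) hXsC (fun w _ => by
      rw [← Module.End.mul_apply, ← pow_add, ← two_mul, hXN, Module.End.one_apply])
    have hgs : g ^ s ∈ commutator ↥(isometryGroup F ⇑Q) := Subgroup.pow_mem _ hg s
    have hι : 2 ≤ Fintype.card ι := by omega
    have hιodd : Odd (Fintype.card ι) := ⟨n, hcard⟩
    by_cases hx1 : (X ^ s).restrict hXsW = 1
    · -- `X ^ s` would be a reflection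
      exfalso
      have hWfix : ∀ v ∈ W, (X ^ s) v = v := by
        intro v hv
        have := congrArg (fun f : End F W => ((f ⟨v, hv⟩ : W) : ι → F)) hx1
        exact this
      rcases hline with hl | hl
      · exact hXs1 (eq_one_of_isCompl W C hcompl _ hWfix hl)
      · exact sign_lemma Q h2 hQ hι hιodd W C hcompl horth (g ^ s) hgs hfrC 1 (Or.inl rfl)
          (fun v hv => by rw [← hXmat, hWfix v hv, one_smul])
          (fun w hw => by rw [← hXmat, hl w hw])
    by_cases hxm : (X ^ s).restrict hXsW = -1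
    · -- the involution is `-1` on `W`
      have hWneg : ∀ v ∈ W, (X ^ s) v = -v := by
        intro v hv
        have := congrArg (fun f : End F W => ((f ⟨v, hv⟩ : W) : ι → F)) hxm
        exact this
      have hCfix : ∀ w ∈ C, (X ^ s) w = w := by
        rcases hline with hl | hl
        · exact hl
        · exfalso
          exact sign_lemma Q h2 hQ hι hιodd W C hcompl horth (g ^ s) hgs hfrC (-1) (Or.inr rfl)
            (fun v hv => by rw [← hXmat, hWneg v hv, neg_smul, one_smul])
            (fun w hw => by rw [← hXmat, hl w hw])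
      have hz1 : ∀ v ∈ W, (((g ^ s : ↥(isometryGroup F ⇑Q)) : Matrix.GeneralLinearGroup ι F) :
          Matrix ι ι F) *ᵥ v = -v := fun v hv => by rw [← hXmat, hWneg v hv]
      have hz2 : ∀ w ∈ C, (((g ^ s : ↥(isometryGroup F ⇑Q)) : Matrix.GeneralLinearGroup ι F) :
          Matrix ι ι F) *ᵥ w = w := fun w hw => by rw [← hXmat, hCfix w hw]
      have hy2 : (X ^ 2).restrict hW * (X ^ 2).restrict hW ≠ 1 := by
        intro h
        have h3 : orderOf ((X ^ 2).restrict hW) ∣ 2 :=
          orderOf_dvd_of_pow_eq_one (by rw [pow_two, h])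
        rw [orderOf_eq_prime hyWs hyW1] at h3
        have := Nat.le_of_dvd (by norm_num) h3
        have := hs.two_le
        omega
      obtain ⟨z, hzc, hzi, hzz⟩ : ∃ z : End F W, z * (X ^ 2).restrict hW = (X ^ 2).restrict hW * z ∧
          (∀ x x' : W, polar ⇑Q ((z x : W) : ι → F) ((z x' : W) : ι → F) =
            polar ⇑Q (x : ι → F) (x' : ι → F)) ∧ z * z = -1 := by
        rcases hkk with hk2n | ⟨hkn, hnodd⟩
        · have hirr : ∀ U : Submodule F W, (∀ w ∈ U, ((X ^ 2).restrict hW) w ∈ U) → U = ⊥ ∨ U = ⊤ := by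
            have := irreducible_of_pow ((X ^ 2).restrict hW) 1 s (by rw [pow_one]; exact hyWs)
              (by rw [pow_one]; exact hyW1) hsq (by rw [← hk, hk2n, hfrW])
            simpa using this
          exact exists_sqrt_neg_one_irr Q h2 hQ hι W C hcompl horth (g ^ s) hgs hz1 hz2
            ((X ^ 2).restrict hW) (fun x x' => iso_pow (polarBilin Q) X hiso 2 _ _) hirr hy2
        · obtain ⟨B₁, hB₁⟩ : ∃ B₁ : LinearMap.BilinForm F W,
              ∀ x x' : W, B₁ x x' = polar ⇑Q (x : ι → F) (x' : ι → F) :=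
            ⟨LinearMap.BilinForm.restrict (polarBilin Q) W, fun x x' => rfl⟩
          have hsym₁ : ∀ x x', B₁ x x' = B₁ x' x := by
            intro x x'
            rw [hB₁, hB₁, polar_comm]
          have hnd₁ : ∀ x, (∀ x', B₁ x x' = 0) → x = 0 := by
            intro x hx
            apply Subtype.ext
            apply nd_left (polarBilin Q) hQ.1 W C hcompl horth x x.2
            intro x' hx'
            have := hx ⟨x', hx'⟩
            rw [hB₁] at this
            exact this
          obtain ⟨U, U', hUU', hyU, hyU', hUti, hU'ti, hUn, hU'n⟩ :=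
            exists_hyp_decomp B₁ hsym₁ hnd₁ h2 ((X ^ 2).restrict hW)
              (fun x x' => by
                rw [hB₁, hB₁]
                exact iso_pow (polarBilin Q) X hiso 2 _ _) s hs hs2 hsq hsF hyWs
              (fun x hx => by
                apply Subtype.ext
                have h3 : (X ^ 2) (x : ι → F) = x := congrArg Subtype.val hx
                exact Submodule.disjoint_def.mp hcompl.disjoint x x.2 ((hC x).mpr h3))
              n hn hnodd (by rw [← hk, hkn]) hfrW
          obtain ⟨E, Fv, hEE, hFF, hEF, hspan⟩ :=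
            exists_dual_family B₁ hsym₁ hnd₁ U U' hUU' hUti hU'ti n hUn hU'n
          have hsq1 := isSquare_of_hyp Q h2 hQ hι W C hcompl horth (g ^ s) hgs hz1 hz2 n
            (fun i => ((E i : W) : ι → F)) (fun i => ((Fv i : W) : ι → F))
            (fun i => (E i).2) (fun i => (Fv i).2)
            (fun i j => by rw [← hB₁]; exact hEE i j)
            (fun i j => by rw [← hB₁]; exact hFF i j)
            (fun i j => by rw [← hB₁]; exact hEF i j)
            (fun v hv => by
              have h3 := hspan ⟨v, hv⟩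
              have h4 := Submodule.mem_map_of_mem (f := W.subtype) h3
              rw [Submodule.map_sup, Submodule.map_span, Submodule.map_span,
                ← Set.range_comp, ← Set.range_comp] at h4
              exact h4)
          rw [hnodd.neg_one_pow] at hsq1
          obtain ⟨μ₀, hμ₀⟩ := hsq1
          obtain ⟨z, hzc, hzi, hzz⟩ := exists_sqrt_neg_one_hyp B₁ U U' hUU' hUti hU'ti
            ((X ^ 2).restrict hW) hyU hyU' μ₀ hμ₀.symm
          exact ⟨z, hzc, fun x x' => by rw [← hB₁, ← hB₁]; exact hzi x x', hzz⟩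
      have hne : (1 : End F W) ≠ -1 := by
        intro h
        obtain ⟨x, hx⟩ := exists_ne (0 : W)
        have h3 := LinearMap.congr_fun h x
        rw [Module.End.one_apply, LinearMap.neg_apply, Module.End.one_apply] at h3
        have h4 : (2 : F) • x = 0 := by
          rw [two_smul]
          nth_rewrite 1 [h3]
          exact neg_add_cancel x
        exact hx ((smul_eq_zero.mp h4).resolve_left h2)
      exact pair_from_model h2 n hn Φ z _ (hΦ z hzc hzi) hyΦ hzc s hs hs2 hyWs hyW1 (Or.inr hzz)
        (fun h => by rw [h, one_mul] at hzz; exact hne hzz)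
        (fun h => by
          rw [h] at hzz
          have h3 : (-1 : End F W) * -1 = 1 := by
            apply LinearMap.ext
            intro x
            rw [Module.End.mul_apply, LinearMap.neg_apply, LinearMap.neg_apply,
              Module.End.one_apply, Module.End.one_apply, neg_neg]
          rw [h3] at hzz
          exact hne hzz)
    · exact pair_from_model h2 n hn Φ _ _ (hΦ _ hxc hxi) hyΦ hxc s hs hs2 hyWs hyW1 (Or.inl hxx)
        hx1 hxm

end Cfsg.Agent.Lib.Helper1.Pg
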