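import Mathlib
import Cfsg.Prelude
import Cfsg.Agent.Lib.Helper1.PgM
import Cfsg.Agent.S0292

/-!
# `r s ∈ ω(PΩ_{2n+1}(q))` implies `r s ∈ ω(PSp_{2n}(q))` for distinct primes `r`, `s`
-/

set_option autoImplicit false
set_option maxHeartbeats 4000000
set_option linter.unusedSimpArgs false
set_option linter.unusedVariables false
set_option linter.unusedSectionVars false
set_option linter.style.haveILetI false

namespace Cfsg.Agent.Lib.Helper1.Pg

open Cfsg
open Cfsg.Agent.Lib.Helper5.SpinorHyp2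

theorem omega_to_psp_core {F : Type*} [Field F] [Fintype F] (hodd : Odd (Fintype.card F)) (n : ℕ)
    (hn : 3 ≤ n) (r s : ℕ) (hr : r.Prime) (hs : s.Prime) (hrs : r ≠ s)
    (h : r * s ∈ Set.range (orderOf : Cfsg.POmega F ⇑(oddForm n F) → ℕ)) :
    r * s ∈ Set.range (orderOf : Cfsg.PSp n F → ℕ) := by
  classical
  have h2 : (2 : F) ≠ 0 := Cfsg.Agent.Lib.Helper5.two_ne_zero_of_odd_card hodd
  obtain ⟨p, hp⟩ := CharP.exists F
  haveI := hp
  haveI : Fact p.Prime := ⟨CharP.char_is_prime F p⟩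
  have hpp : p.Prime := Fact.out
  obtain ⟨y, hy⟩ := h
  obtain ⟨x, rfl⟩ := QuotientGroup.mk_surjective y
  have hc := Cfsg.Agent.S0292.center_eq_bot (F := F) h2 n (by omega)
  have hinj : Function.Injective
      (QuotientGroup.mk' (Subgroup.center ↥(Cfsg.Omega F ⇑(oddForm n F)))) := by
    rw [← MonoidHom.ker_eq_bot_iff, QuotientGroup.ker_mk', hc]
  have hx : orderOf x = r * s := by
    rw [← hy]
    exact (orderOf_injective _ hinj x).symm
  have hcard : Fintype.card (Unit ⊕ (Fin n ⊕ Fin n)) = 2 * n + 1 := by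
    simp
    ring
  have hord : orderOf (x : ↥(Cfsg.isometryGroup F ⇑(oddForm n F))) = r * s := by
    rw [Subgroup.orderOf_coe, hx]
  have hQ := oddForm_nondegenerate (F := F) h2 n
  by_cases hr2 : r = 2
  · subst hr2
    by_cases hsp : s = p
    · subst hsp
      exact psp_two_mul_p s h2 n (by omega)
    · exact caseB (oddForm n F) h2 hQ n (by omega) hcard p s hs (Ne.symm hrs) hsp _ x.2 hord
  by_cases hs2 : s = 2
  · subst hs2
    rw [mul_comm] at hord ⊢
    by_cases hrp : r = p
    · subst hrp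
      exact psp_two_mul_p r h2 n (by omega)
    · exact caseB (oddForm n F) h2 hQ n (by omega) hcard p r hr hr2 hrp _ x.2 hord
  by_cases hrp : r = p
  · subst hrp
    exact caseA2 (oddForm n F) h2 hQ n hcard r s hs hs2 (Ne.symm hrs) _ hord
  by_cases hsp : s = p
  · subst hsp
    rw [mul_comm] at hord ⊢
    exact caseA2 (oddForm n F) h2 hQ n hcard s r hr hr2 hrp _ hord
  · apply caseA1 (oddForm n F) h2 hQ n hcard _ (r * s) hord
    · have := hr.two_le
      have := hs.two_le
      nlinarith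
    · exact (hr.odd_of_ne_two hr2).mul (hs.odd_of_ne_two hs2)
    · rw [Nat.cast_mul]
      exact mul_ne_zero (natCast_ne_zero_of_prime_ne p r hr hrp)
        (natCast_ne_zero_of_prime_ne p s hs hsp)

theorem omega_to_psp {F : Type*} [Field F] [Fintype F] (hodd : Odd (Fintype.card F)) (n : ℕ)
    (hn : 3 ≤ n) (r s : ℕ) (hr : r.Prime) (hs : s.Prime) (hrs : r ≠ s)
    (h : r * s ∈ Set.range (orderOf : Cfsg.POmega F (Cfsg.quadFormOdd n F) → ℕ)) :
    r * s ∈ Set.range (orderOf : Cfsg.PSp n F → ℕ) := by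
  rw [← coe_oddForm] at h
  exact omega_to_psp_core hodd n hn r s hr hs hrs h

end Cfsg.Agent.Lib.Helper1.Pg
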