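import Mathlib
import Cfsg.Agent.Lib.Helper1.HallConverse
set_option autoImplicit false
universe u v
open scoped Pointwise
namespace Cfsg.Agent.Lib.Helper1
variable {G : Type u} [Group G]

/-- every nontrivial subgroup has, for each prime dividing its order, a proper subgroup of
prime-power index. -/
def HPP (G : Type u) [Group G] : Prop :=
  ∀ H : Subgroup G, H ≠ ⊥ → ∀ p : ℕ, p.Prime → p ∣ Nat.card H →
    ∃ K : Subgroup G, K < H ∧ ∃ k : ℕ, K.relIndex H = p ^ k

theorem HPP.subgroup (hG : HPP G) (L : Subgroup G) : HPP L := by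
  intro H hH p hp hpd
  obtain ⟨H', hH'⟩ : ∃ H' : Subgroup G, H' = H.map L.subtype := ⟨_, rfl⟩
  have hH'L : H' ≤ L := by rw [hH']; exact Subgroup.map_subtype_le H
  have hH'bot : H' ≠ ⊥ := by
    rw [hH']
    intro h
    exact hH ((Subgroup.map_eq_bot_iff_of_injective _ L.subtype_injective).mp h)
  have hcard : Nat.card H' = Nat.card H := by
    rw [hH']; exact Subgroup.card_map_of_injective L.subtype_injective
  have hsub : H'.subgroupOf L = H := by
    rw [hH']
    exact Subgroup.comap_map_eq_self_of_injective L.subtype_injective H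
  obtain ⟨K', hK'lt, k, hk⟩ := hG H' hH'bot p hp (hcard ▸ hpd)
  refine ⟨K'.subgroupOf L, ?_, k, ?_⟩
  · rw [← hsub]
    constructor
    · exact Subgroup.comap_mono hK'lt.le
    · intro hle
      apply hK'lt.not_ge
      intro x hx
      have hxL : x ∈ L := hH'L hx
      have : (⟨x, hxL⟩ : L) ∈ H'.subgroupOf L := Subgroup.mem_subgroupOf.mpr hx
      exact Subgroup.mem_subgroupOf.mp (hle this)
  · rw [← hsub, Subgroup.relIndex_subgroupOf hH'L]
    exact hk


theorem HPP.quotient [Finite G] (hG : HPP G)
    (hprop : ∀ L : Subgroup G, L ≠ ⊤ → Group.IsSolvable L)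
    (M : Subgroup G) [M.Normal] (hns : ¬ Group.IsSolvable (G ⧸ M)) : HPP (G ⧸ M) := by
  intro Hb hHb p hp hpd
  have hsurj := QuotientGroup.mk'_surjective M
  obtain ⟨H, hH⟩ : ∃ H : Subgroup G, H = Hb.comap (QuotientGroup.mk' M) := ⟨_, rfl⟩
  have hmap : H.map (QuotientGroup.mk' M) = Hb := by
    rw [hH]; exact Subgroup.map_comap_eq_self_of_surjective hsurj Hb
  by_cases hHtop : H = ⊤
  · have hHbtop : Hb = ⊤ := by
      rw [← hmap, hHtop, ← MonoidHom.range_eq_map, MonoidHom.range_eq_top]
      exact hsurj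
    subst hHbtop
    rw [Subgroup.card_top] at hpd
    have hpG : p ∣ Nat.card G := dvd_trans hpd (Subgroup.card_quotient_dvd_card M)
    have hnt : Nontrivial G := by
      rw [← Finite.one_lt_card_iff_nontrivial]
      exact lt_of_lt_of_le hp.one_lt (Nat.le_of_dvd Nat.card_pos hpG)
    obtain ⟨K, hKlt, k, hk⟩ := hG ⊤ top_ne_bot p hp (by rw [Subgroup.card_top]; exact hpG)
    rw [Subgroup.relIndex_top_right] at hk
    by_cases hKM : K ⊔ M = ⊤
    · exfalso
      apply hns
      have hKs := hprop K hKlt.ne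
      have hsurj2 : Function.Surjective ((QuotientGroup.mk' M).comp K.subtype) := by
        intro y
        obtain ⟨g, rfl⟩ := hsurj y
        have hg : g ∈ ((K ⊔ M : Subgroup G) : Set G) := by rw [hKM]; trivial
        rw [Subgroup.mul_normal] at hg
        obtain ⟨a, ha, b, hb, rfl⟩ := Set.mem_mul.mp hg
        refine ⟨⟨a, ha⟩, ?_⟩
        simp only [MonoidHom.coe_comp, Function.comp_apply, Subgroup.subtype_apply, map_mul]
        have : QuotientGroup.mk' M b = 1 := (QuotientGroup.eq_one_iff b).mpr hb
        rw [this, mul_one]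
      exact Group.isSolvable_of_surjective hsurj2
    · refine ⟨K.map (QuotientGroup.mk' M), ?_, ?_⟩
      · rw [lt_top_iff_ne_top]
        intro h
        apply hKM
        have := congrArg (Subgroup.comap (QuotientGroup.mk' M)) h
        rw [Subgroup.comap_map_eq, QuotientGroup.ker_mk', Subgroup.comap_top] at this
        exact this
      · rw [Subgroup.relIndex_top_right]
        have h1 : (K.map (QuotientGroup.mk' M)).index ∣ K.index := Subgroup.index_map_dvd K hsurj
        rw [hk] at h1
        obtain ⟨j, -, hj⟩ := (Nat.dvd_prime_pow hp).mp h1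
        exact ⟨j, hj⟩
  · have hHs := hprop H hHtop
    have hHbs : Group.IsSolvable Hb := by
      subst hmap
      exact Group.isSolvable_of_surjective ((QuotientGroup.mk' M).subgroupMap_surjective H)
    have hpos : Nat.card Hb ≠ 0 := Nat.card_pos.ne'
    obtain ⟨L, hL⟩ := hall_exists (G := Hb) (Nat.card Hb / p ^ (Nat.card Hb).factorization p)
      (p ^ (Nat.card Hb).factorization p) (by rw [mul_comm]; exact (Nat.ordProj_mul_ordCompl_eq_self _ p).symm)
      (Nat.Coprime.pow_left _ (Nat.coprime_ordCompl hp hpos)).symm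
    have hv : (Nat.card Hb).factorization p ≠ 0 := by
      intro h0
      rcases (Nat.factorization_eq_zero_iff _ _).mp h0 with h | h | h
      · exact h hp
      · exact h hpd
      · exact hpos h
    have hle : L.map Hb.subtype ≤ Hb := Subgroup.map_subtype_le L
    have hcardL : Nat.card (L.map Hb.subtype : Subgroup (G ⧸ M)) =
        Nat.card Hb / p ^ (Nat.card Hb).factorization p := by
      rw [Subgroup.card_map_of_injective Hb.subtype_injective, hL]
    have hrel := relIndex_mul_card_inf (L.map Hb.subtype) Hb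
    rw [inf_of_le_left hle] at hrel
    have hsplit := Nat.ordProj_mul_ordCompl_eq_self (Nat.card Hb) p
    have hmpos : 0 < Nat.card Hb / p ^ (Nat.card Hb).factorization p := by
      rw [← hL]; exact Nat.card_pos
    have hrel2 : (L.map Hb.subtype).relIndex Hb = p ^ (Nat.card Hb).factorization p := by
      rw [hcardL] at hrel
      have : (L.map Hb.subtype).relIndex Hb * (Nat.card Hb / p ^ (Nat.card Hb).factorization p) =
          p ^ (Nat.card Hb).factorization p * (Nat.card Hb / p ^ (Nat.card Hb).factorization p) := by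
        rw [hrel]; exact hsplit.symm
      exact Nat.eq_of_mul_eq_mul_right hmpos this
    refine ⟨L.map Hb.subtype, lt_of_le_of_ne hle ?_, _, hrel2⟩
    intro h
    rw [h, Subgroup.relIndex_self] at hrel2
    have : 2 ≤ p ^ (Nat.card Hb).factorization p :=
      le_trans hp.two_le (Nat.le_of_dvd (pow_pos hp.pos _) (dvd_pow_self p hv))
    omega


theorem card_lt_card_of_ne_top [Finite G] {L : Subgroup G} (hL : L ≠ ⊤) :
    Nat.card L < Nat.card G := by
  by_contra hle
  push Not at hle
  apply hL
  apply Subgroup.eq_of_le_of_card_ge le_top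
  rw [Subgroup.card_top]
  exact hle

theorem hpp_solvable_aux : ∀ (n : ℕ) (G : Type u) [Group G] [Finite G], Nat.card G = n →
    HPP G → Group.IsSolvable G := by
  intro n
  induction n using Nat.strong_induction_on with
  | _ n ih =>
    intro G _ _ hn hG
    have hprop : ∀ L : Subgroup G, L ≠ ⊤ → Group.IsSolvable L := by
      intro L hL
      have hlt : Nat.card L < n := by rw [← hn]; exact card_lt_card_of_ne_top hL
      exact ih _ hlt L rfl (hG.subgroup L)
    rcases subsingleton_or_nontrivial G with hsub | hnt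
    · infer_instance
    have hcard1 : Nat.card G ≠ 1 := by
      intro h
      rw [Nat.card_eq_one_iff_unique] at h
      exact not_subsingleton G h.1
    obtain ⟨p, hp, hpd⟩ := Nat.exists_prime_and_dvd hcard1
    obtain ⟨K, hKlt, k, hk⟩ := hG ⊤ top_ne_bot p hp (by rw [Subgroup.card_top]; exact hpd)
    rw [Subgroup.relIndex_top_right] at hk
    have hKs := hprop K hKlt.ne
    rcases subsingleton_or_nontrivial K with hKsub | hKnt
    · have : Nat.card G = p ^ k := by
        rw [← K.card_mul_index, hk, Nat.card_unique, one_mul]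
      exact isSolvable_of_card_prime_pow hp this
    obtain ⟨N, hNn, hNbot, hNmin⟩ := exists_minimal_normal (G := K)
    obtain ⟨-, s, hs, hNs⟩ := minimal_normal_of_solvable N hNbot hNmin
    have : Fact s.Prime := ⟨hs⟩
    have hNp : IsPGroup s N := by
      intro x
      refine ⟨1, ?_⟩
      rw [pow_one]
      apply Subtype.ext
      rw [Subgroup.coe_pow]
      exact hNs x x.2
    obtain ⟨N', hN'⟩ : ∃ N' : Subgroup G, N' = N.map K.subtype := ⟨_, rfl⟩
    have hN'p : IsPGroup s N' := by rw [hN']; exact hNp.map K.subtype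
    have hN'bot : N' ≠ ⊥ := by
      rw [hN']
      intro h
      exact hNbot ((Subgroup.map_eq_bot_iff_of_injective _ K.subtype_injective).mp h)
    have hN'norm : ∀ h ∈ K, ∀ x ∈ N', h * x * h⁻¹ ∈ N' := by
      intro h hh x hx
      rw [hN'] at hx ⊢
      obtain ⟨y, hy, rfl⟩ := hx
      exact ⟨⟨h, hh⟩ * y * ⟨h, hh⟩⁻¹, hNn.conj_mem y hy ⟨h, hh⟩, rfl⟩
    by_cases h3 : ∃ q : ℕ, q.Prime ∧ q ∣ Nat.card G ∧ q ≠ p ∧ q ≠ s
    · obtain ⟨q, hq, hqd, hqp, hqs⟩ := h3
      obtain ⟨K₀, hK₀lt, j, hj⟩ := hG ⊤ top_ne_bot q hq (by rw [Subgroup.card_top]; exact hqd)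
      rw [Subgroup.relIndex_top_right] at hj
      have hK₀s : ¬ s ∣ K₀.index := by
        rw [hj]
        intro h
        exact hqs ((Nat.prime_dvd_prime_iff_eq hs hq).mp (hs.dvd_of_dvd_pow h)).symm
      obtain ⟨g, hg⟩ := exists_conj_le_of_isPGroup_of_not_dvd_index N' K₀ hN'p hK₀s
      obtain ⟨K₁, hK₁⟩ : ∃ K₁, K₁ = MulAut.conj g • K₀ := ⟨_, rfl⟩
      rw [← hK₁] at hg
      have hK₁idx : K₁.index = q ^ j := by rw [hK₁, index_conj_smul]; exact hj
      have hK₁top : K₁ ≠ ⊤ := by
        intro h
        rw [h, Subgroup.index_top] at hK₁idx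
        have : K₀.index = 1 := by rw [hj]; exact hK₁idx.symm
        exact hK₀lt.ne (Subgroup.index_eq_one.mp this)
      have hcop : K₁.index.Coprime K.index := by
        rw [hK₁idx, hk]
        exact Nat.Coprime.pow _ _ ((Nat.coprime_primes hq hp).mpr hqp)
      have hKH := mul_eq_of_coprime_index K₁ K hcop
      obtain ⟨M, hM⟩ : ∃ M, M = Subgroup.normalClosure (N' : Set G) := ⟨_, rfl⟩
      have hMn : M.Normal := by rw [hM]; exact Subgroup.normalClosure_normal
      have hMK : M ≤ K₁ := by
        rw [hM]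
        unfold Subgroup.normalClosure
        rw [Subgroup.closure_le]
        intro y hy
        rw [Group.mem_conjugatesOfSet_iff] at hy
        obtain ⟨x, hx, hconj⟩ := hy
        rw [isConj_iff] at hconj
        obtain ⟨c, rfl⟩ := hconj
        obtain ⟨a, ha, h, hh, rfl⟩ := hKH c
        have e : a * h * x * (a * h)⁻¹ = a * (h * x * h⁻¹) * a⁻¹ := by group
        rw [e]
        exact K₁.mul_mem (K₁.mul_mem ha (hg (hN'norm h hh x hx))) (K₁.inv_mem ha)
      have hK₁s := hprop K₁ hK₁top
      have hMsolv : Group.IsSolvable M :=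
        Group.isSolvable_of_isSolvable_injective (Subgroup.inclusion_injective hMK)
      have hMbot : M ≠ ⊥ := by
        intro h
        apply hN'bot
        rw [eq_bot_iff, ← h, hM]
        exact Subgroup.le_normalClosure
      have hQlt : Nat.card (G ⧸ M) < n := by
        rw [← hn, ← M.card_mul_index, ← Subgroup.index_eq_card]
        have h1 : 0 < M.index := Nat.pos_of_ne_zero Subgroup.index_ne_zero_of_finite
        have h2 : 2 ≤ Nat.card M := by
          have : 0 < Nat.card M := Nat.card_pos
          have : Nat.card M ≠ 1 := fun h => hMbot (Subgroup.card_eq_one.mp h)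
          omega
        nlinarith
      by_cases hQs : Group.IsSolvable (G ⧸ M)
      · exact isSolvable_of_normal_of_quotient M hMsolv hQs
      · exfalso
        apply hQs
        exact ih _ hQlt (G ⧸ M) rfl (hG.quotient hprop M hQs)
    · push Not at h3
      have hsplit := Nat.ordProj_mul_ordCompl_eq_self (Nat.card G) p
      have hpos : Nat.card G ≠ 0 := Nat.card_pos.ne'
      have hm0 : Nat.card G / p ^ (Nat.card G).factorization p ≠ 0 := by
        intro h0
        rw [h0, mul_zero] at hsplit
        exact hpos hsplit.symm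
      have hms : ∃ b, Nat.card G / p ^ (Nat.card G).factorization p = s ^ b := by
        refine ⟨_, Nat.eq_prime_pow_of_unique_prime_dvd hm0 ?_⟩
        intro d hd hdm
        have hdG : d ∣ Nat.card G := dvd_trans hdm (Nat.div_dvd_of_dvd (Nat.ordProj_dvd _ p))
        have hdp : d ≠ p := by
          rintro rfl
          exact (Nat.Prime.coprime_iff_not_dvd hd).mp (Nat.coprime_ordCompl hd hpos) hdm
        exact h3 d hd hdG hdp
      obtain ⟨b, hb⟩ := hms
      exact Cfsg.Agent.S0144.result p s _ b hp hs (by rw [← hb]; exact hsplit.symm)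


theorem hpp_of_forall (h : ∀ H : Subgroup G, H ≠ ⊥ → ∀ p : ℕ, p.Prime → p ∣ Nat.card H →
    ∃ K : Subgroup H, K ≠ ⊤ ∧ ∃ k : ℕ, K.index = p ^ k) : HPP G := by
  intro H hH p hp hpd
  obtain ⟨K, hK, k, hk⟩ := h H hH p hp hpd
  have hsub : (K.map H.subtype).subgroupOf H = K :=
    Subgroup.comap_map_eq_self_of_injective H.subtype_injective K
  refine ⟨K.map H.subtype, lt_of_le_of_ne (Subgroup.map_subtype_le K) ?_, k, ?_⟩
  · intro heq
    apply hK
    rw [← hsub, heq]
    exact Subgroup.subgroupOf_self H
  · show ((K.map H.subtype).subgroupOf H).index = p ^ k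
    rw [hsub]
    exact hk

theorem solvable_of_hereditary_prime_power_index [Finite G]
    (h : ∀ H : Subgroup G, H ≠ ⊥ → ∀ p : ℕ, p.Prime → p ∣ Nat.card H →
      ∃ K : Subgroup H, K ≠ ⊤ ∧ ∃ k : ℕ, K.index = p ^ k) : Group.IsSolvable G :=
  hpp_solvable_aux _ G rfl (hpp_of_forall h)

end Cfsg.Agent.Lib.Helper1
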