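import Mathlib
import Cfsg.Prelude.Def_SolvableStructure
import Cfsg.Agent.Lib.Helper1.MinimalNormal
set_option autoImplicit false
universe u v
open Cfsg
open scoped Pointwise
namespace Cfsg.Agent.Lib.Helper1
variable {G : Type u} [Group G]

/-- common core for primitive solvable groups -/
theorem primitive_solvable_core [Finite G] [Group.IsSolvable G] {Ω : Type v}
    [MulAction G Ω] [FaithfulSMul G Ω] (hprim : MulAction.IsPreprimitive G Ω) (M : Subgroup G)
    [hMn : M.Normal] (hM : M ≠ ⊥)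
    (hmin : ∀ K : Subgroup G, K.Normal → K ≤ M → K = ⊥ ∨ K = M) :
    MulAction.IsPretransitive M Ω ∧ (∀ a ∈ M, ∀ b ∈ M, a * b = b * a) ∧
      (∀ g : G, g ∈ M → ∀ ω : Ω, g • ω = ω → g = 1) := by
  obtain ⟨hMab, p, hp, hMexp⟩ := minimal_normal_of_solvable M hM hmin
  have hcomm : ∀ a ∈ M, ∀ b ∈ M, a * b = b * a := by
    intro a ha b hb
    have := mul_comm' (⟨a, ha⟩ : M) ⟨b, hb⟩
    exact congrArg Subtype.val this
  have htrans : MulAction.IsPretransitive M Ω := by
    apply MulAction.IsQuasiPreprimitive.isPretransitive_of_normal (G := G)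
    intro hfix
    apply hM
    rw [eq_bot_iff]
    intro m hm
    rw [Subgroup.mem_bot]
    apply FaithfulSMul.eq_of_smul_eq_smul (α := Ω)
    intro ω
    rw [one_smul]
    have : ω ∈ MulAction.fixedPoints M Ω := by rw [hfix]; exact Set.mem_univ ω
    exact this ⟨m, hm⟩
  refine ⟨htrans, hcomm, ?_⟩
  intro g hg ω hgω
  apply FaithfulSMul.eq_of_smul_eq_smul (α := Ω)
  intro ω'
  rw [one_smul]
  obtain ⟨n, hn⟩ := htrans.exists_smul_eq ω ω'
  have hn' : (n : G) • ω = ω' := hn
  rw [← hn', smul_smul, hcomm g hg n n.2, ← smul_smul, hgω]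


theorem primitive_solvable_minimal_normal_regular [Finite G] [Group.IsSolvable G] {Ω : Type v}
    [hne : Nonempty Ω] [MulAction G Ω] [FaithfulSMul G Ω] (hprim : MulAction.IsPreprimitive G Ω)
    (M : Subgroup G) [hMn : M.Normal] (hM : M ≠ ⊥)
    (hmin : ∀ K : Subgroup G, K.Normal → K ≤ M → K = ⊥ ∨ K = M) :
    MulAction.IsPretransitive M Ω ∧ (∀ ω : Ω, MulAction.stabilizer M ω = ⊥) ∧
      ∃ p d : ℕ, p.Prime ∧ 0 < d ∧ Nat.card Ω = p ^ d ∧ Nat.card M = p ^ d := by
  obtain ⟨htrans, hcomm, hfree⟩ := primitive_solvable_core hprim M hM hmin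
  obtain ⟨hMab, p, hp, hMexp⟩ := minimal_normal_of_solvable M hM hmin
  have hstab : ∀ ω : Ω, MulAction.stabilizer M ω = ⊥ := by
    intro ω
    rw [eq_bot_iff]
    intro m hm
    rw [Subgroup.mem_bot]
    apply Subtype.ext
    exact hfree m m.2 ω (MulAction.mem_stabilizer_iff.mp hm)
  refine ⟨htrans, hstab, ?_⟩
  have hpF : Fact p.Prime := ⟨hp⟩
  have hMpg : IsPGroup p M := by
    intro x
    refine ⟨1, ?_⟩
    rw [pow_one]
    apply Subtype.ext
    simpa using hMexp x x.2
  obtain ⟨d, hd⟩ := hMpg.exists_card_eq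
  have hd0 : 0 < d := by
    rcases Nat.eq_zero_or_pos d with h0 | h0
    · rw [h0, pow_zero] at hd
      exact absurd (Subgroup.card_eq_one.mp hd) hM
    · exact h0
  refine ⟨p, d, hp, hd0, ?_, hd⟩
  rw [← hd]
  obtain ⟨ω⟩ := hne
  symm
  apply Nat.card_congr
  apply Equiv.ofBijective (fun m : M => m • ω)
  constructor
  · intro m₁ m₂ h
    have h1 : (m₂⁻¹ * m₁) • ω = ω := by
      rw [mul_smul]
      show m₂⁻¹ • (m₁ • ω) = ω
      have : m₁ • ω = m₂ • ω := h
      rw [this, smul_smul, inv_mul_cancel, one_smul]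
    have h2 : m₂⁻¹ * m₁ ∈ MulAction.stabilizer M ω := MulAction.mem_stabilizer_iff.mpr h1
    rw [hstab ω, Subgroup.mem_bot] at h2
    have : m₁ = m₂ * (m₂⁻¹ * m₁) := by group
    rw [this, h2, mul_one]
  · intro ω'
    exact htrans.exists_smul_eq ω ω'

theorem primitive_solvable_stabilizer_complement [Finite G] [Group.IsSolvable G] {Ω : Type v}
    [MulAction G Ω] [FaithfulSMul G Ω] (hprim : MulAction.IsPreprimitive G Ω)
    (M : Subgroup G) [hMn : M.Normal] (hM : M ≠ ⊥)
    (hmin : ∀ K : Subgroup G, K.Normal → K ≤ M → K = ⊥ ∨ K = M) (ω : Ω) :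
    Subgroup.IsComplement' M (MulAction.stabilizer G ω) ∧
      MulAction.stabilizer G ω ⊓ Subgroup.centralizer (M : Set G) = ⊥ ∧
      ∀ K : Subgroup G, K ≤ M → MulAction.stabilizer G ω ≤ Subgroup.normalizer (K : Set G) →
        K = ⊥ ∨ K = M := by
  obtain ⟨htrans, hcomm, hfree⟩ := primitive_solvable_core hprim M hM hmin
  have hinf : M ⊓ MulAction.stabilizer G ω = ⊥ := by
    rw [eq_bot_iff]
    intro g hg
    rw [Subgroup.mem_bot]
    exact hfree g (Subgroup.mem_inf.mp hg).1 ω (MulAction.mem_stabilizer_iff.mp (Subgroup.mem_inf.mp hg).2)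
  have hsup : M ⊔ MulAction.stabilizer G ω = ⊤ := by
    rw [eq_top_iff]
    intro g _
    obtain ⟨m, hm⟩ := htrans.exists_smul_eq ω (g • ω)
    have hm' : (m : G) • ω = g • ω := hm
    have h1 : (m : G)⁻¹ * g ∈ MulAction.stabilizer G ω := by
      rw [MulAction.mem_stabilizer_iff, mul_smul, ← hm', smul_smul, inv_mul_cancel, one_smul]
    have : g = (m : G) * ((m : G)⁻¹ * g) := by group
    rw [this]
    exact Subgroup.mul_mem _ (Subgroup.mem_sup_left m.2) (Subgroup.mem_sup_right h1)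
  refine ⟨?_, ?_, ?_⟩
  · apply Subgroup.isComplement'_of_disjoint_and_mul_eq_univ (disjoint_iff.mpr hinf)
    rw [← Subgroup.normal_mul, hsup, Subgroup.coe_top]
  · rw [eq_bot_iff]
    intro h hh
    rw [Subgroup.mem_bot]
    obtain ⟨hh1, hh2⟩ := Subgroup.mem_inf.mp hh
    apply FaithfulSMul.eq_of_smul_eq_smul (α := Ω)
    intro ω'
    rw [one_smul]
    obtain ⟨m, hm⟩ := htrans.exists_smul_eq ω ω'
    have hm' : (m : G) • ω = ω' := hm
    have hc := (Subgroup.mem_centralizer_iff.mp hh2) m m.2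
    rw [← hm', smul_smul, ← hc, ← smul_smul, MulAction.mem_stabilizer_iff.mp hh1]
  · intro K hKM hHK
    have hKn : K.Normal := by
      rw [← Subgroup.normalizer_eq_top_iff, eq_top_iff, ← hsup]
      apply sup_le _ hHK
      intro m hm
      rw [Subgroup.mem_normalizer_iff]
      intro k
      constructor
      · intro hk
        rw [hcomm m hm k (hKM hk), mul_inv_cancel_right]; exact hk
      · intro hk
        have hkM : k ∈ M := by
          have := hMn.conj_mem _ (hKM hk) m⁻¹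
          have e : m⁻¹ * (m * k * m⁻¹) * m⁻¹⁻¹ = k := by group
          rwa [e] at this
        rw [hcomm m hm k hkM, mul_inv_cancel_right] at hk; exact hk
    exact hmin K hKn hKM

end Cfsg.Agent.Lib.Helper1
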