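import Mathlib
import Cfsg.Prelude.Def_OddOrderLocal
set_option autoImplicit false
open scoped commutatorElement Pointwise
universe u v
namespace Cfsg.Agent.Lib.Helper1.Puig

variable {G : Type u} [Group G]

/-- abelian subgroups of `X` normalized by `K` -/
def gens (X K : Subgroup G) : Set (Subgroup G) :=
  {A | A ≤ X ∧ (∀ x ∈ A, ∀ y ∈ A, x * y = y * x) ∧ K ≤ Subgroup.normalizer (A : Set G)}

/-- `L_X(K)` inside the ambient group -/
def LIn (X K : Subgroup G) : Subgroup G := sSup (gens X K)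

/-- the Puig series of `X` inside the ambient group -/
def seqIn (X : Subgroup G) : ℕ → Subgroup G
  | 0 => ⊥
  | n + 1 => LIn X (seqIn X n)

def lowerIn (X : Subgroup G) : Subgroup G := ⨆ n : ℕ, seqIn X (2 * n)

def upperIn (X : Subgroup G) : Subgroup G := ⨅ n : ℕ, seqIn X (2 * n + 1)

theorem LIn_le (X K : Subgroup G) : LIn X K ≤ X := sSup_le (fun _ hA => hA.1)

theorem LIn_anti (X : Subgroup G) {K H : Subgroup G} (h : K ≤ H) : LIn X H ≤ LIn X K :=
  sSup_le_sSup (fun _ hA => ⟨hA.1, hA.2.1, h.trans hA.2.2⟩)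

theorem LIn_mono_left {X Y : Subgroup G} (K : Subgroup G) (h : X ≤ Y) : LIn X K ≤ LIn Y K :=
  sSup_le_sSup (fun _ hA => ⟨hA.1.trans h, hA.2.1, hA.2.2⟩)

theorem le_LIn {X K A : Subgroup G} (hAX : A ≤ X) (hAc : ∀ x ∈ A, ∀ y ∈ A, x * y = y * x)
    (hK : K ≤ Subgroup.normalizer (A : Set G)) : A ≤ LIn X K :=
  le_sSup ⟨hAX, hAc, hK⟩

theorem seqIn_zero (X : Subgroup G) : seqIn X 0 = ⊥ := rfl

theorem seqIn_succ (X : Subgroup G) (n : ℕ) : seqIn X (n + 1) = LIn X (seqIn X n) := rfl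

theorem seqIn_le (X : Subgroup G) (n : ℕ) : seqIn X n ≤ X := by
  cases n with
  | zero => exact bot_le
  | succ n => exact LIn_le X _

theorem seqIn_even_le_succ (X : Subgroup G) (n : ℕ) :
    seqIn X (2 * n) ≤ seqIn X (2 * n + 2) := by
  induction n with
  | zero => exact bot_le
  | succ n ih =>
    have h1 : seqIn X (2 * n + 3) ≤ seqIn X (2 * n + 1) := LIn_anti X ih
    exact LIn_anti X h1

theorem seqIn_odd_succ_le (X : Subgroup G) (n : ℕ) :
    seqIn X (2 * n + 3) ≤ seqIn X (2 * n + 1) :=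
  LIn_anti X (seqIn_even_le_succ X n)

theorem seqIn_even_mono (X : Subgroup G) : Monotone (fun n => seqIn X (2 * n)) :=
  monotone_nat_of_le_succ (fun n => seqIn_even_le_succ X n)

theorem seqIn_odd_anti (X : Subgroup G) : Antitone (fun n => seqIn X (2 * n + 1)) :=
  antitone_nat_of_succ_le (fun n => seqIn_odd_succ_le X n)

theorem seqIn_even_le_odd_same (X : Subgroup G) (n : ℕ) :
    seqIn X (2 * n) ≤ seqIn X (2 * n + 1) := by
  induction n with
  | zero => exact bot_le
  | succ n ih =>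
    have h1 : seqIn X (2 * n + 2) ≤ seqIn X (2 * n + 1) := LIn_anti X ih
    exact LIn_anti X h1

theorem seqIn_even_le_odd (X : Subgroup G) (n m : ℕ) :
    seqIn X (2 * n) ≤ seqIn X (2 * m + 1) :=
  calc seqIn X (2 * n) ≤ seqIn X (2 * (max n m)) := seqIn_even_mono X (le_max_left n m)
    _ ≤ seqIn X (2 * (max n m) + 1) := seqIn_even_le_odd_same X _
    _ ≤ seqIn X (2 * m + 1) := seqIn_odd_anti X (le_max_right n m)

theorem lowerIn_le_upperIn (X : Subgroup G) : lowerIn X ≤ upperIn X :=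
  iSup_le (fun n => le_iInf (fun m => seqIn_even_le_odd X n m))

theorem lowerIn_le (X : Subgroup G) : lowerIn X ≤ X := iSup_le (fun n => seqIn_le X _)

theorem upperIn_le (X : Subgroup G) : upperIn X ≤ X := (iInf_le _ 0).trans (seqIn_le X _)

theorem seqIn_even_le_lowerIn (X : Subgroup G) (n : ℕ) : seqIn X (2 * n) ≤ lowerIn X :=
  le_iSup (fun n => seqIn X (2 * n)) n

theorem upperIn_le_seqIn_odd (X : Subgroup G) (n : ℕ) : upperIn X ≤ seqIn X (2 * n + 1) :=
  iInf_le (fun n => seqIn X (2 * n + 1)) n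

/-- stabilization -/
theorem exists_stable [Finite G] (X : Subgroup G) :
    ∃ N : ℕ, lowerIn X = seqIn X (2 * N) ∧ upperIn X = seqIn X (2 * N + 1) := by
  obtain ⟨N₁, h₁⟩ := WellFoundedGT.monotone_chain_condition
    (⟨fun n => seqIn X (2 * n), seqIn_even_mono X⟩ : ℕ →o Subgroup G)
  obtain ⟨N₂, h₂⟩ := WellFoundedLT.antitone_chain_condition (seqIn_odd_anti X)
  refine ⟨max N₁ N₂, ?_, ?_⟩
  · apply le_antisymm
    · apply iSup_le
      intro n
      by_cases hn : n ≤ max N₁ N₂
      · exact seqIn_even_mono X hn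
      · have e1 := h₁ n ((le_max_left _ _).trans (le_of_not_ge hn))
        have e2 := h₁ (max N₁ N₂) (le_max_left _ _)
        simp only [OrderHom.coe_mk] at e1 e2
        rw [← e1, e2]
    · exact seqIn_even_le_lowerIn X _
  · apply le_antisymm
    · exact upperIn_le_seqIn_odd X _
    · apply le_iInf
      intro n
      by_cases hn : n ≤ max N₁ N₂
      · exact seqIn_odd_anti X hn
      · have e1 : seqIn X (2 * N₂ + 1) = seqIn X (2 * n + 1) :=
          h₂ n ((le_max_right _ _).trans (le_of_not_ge hn))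
        have e2 : seqIn X (2 * N₂ + 1) = seqIn X (2 * (max N₁ N₂) + 1) :=
          h₂ (max N₁ N₂) (le_max_right _ _)
        rw [← e1, e2]

theorem LIn_lowerIn [Finite G] (X : Subgroup G) : LIn X (lowerIn X) = upperIn X := by
  obtain ⟨N, h1, h2⟩ := exists_stable X
  rw [h1, h2]; rfl

theorem LIn_upperIn [Finite G] (X : Subgroup G) : LIn X (upperIn X) = lowerIn X := by
  obtain ⟨N, h1, h2⟩ := exists_stable X
  apply le_antisymm
  · rw [h2]
    exact seqIn_even_le_lowerIn X (N + 1)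
  · rw [h1]
    have : seqIn X (2 * N) ≤ seqIn X (2 * (N + 1)) := seqIn_even_mono X (Nat.le_succ N)
    refine this.trans ?_
    show LIn X (seqIn X (2 * N + 1)) ≤ _
    rw [← h2]

end Cfsg.Agent.Lib.Helper1.Puig
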