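import Mathlib
import Cfsg.Prelude.Def_OddOrderLocal
import Cfsg.Agent.Lib.Helper1.Puig1
set_option autoImplicit false
open scoped commutatorElement Pointwise
universe u v
namespace Cfsg.Agent.Lib.Helper1.Puig

variable {G : Type u} [Group G] {G' : Type v} [Group G']

theorem LIn_map (f : G →* G') (hf : Function.Injective f) (X K : Subgroup G) :
    (LIn X K).map f = LIn (X.map f) (K.map f) := by
  apply le_antisymm
  · rw [Subgroup.map_le_iff_le_comap]
    apply sSup_le
    rintro A ⟨hAX, hAc, hK⟩
    rw [← Subgroup.map_le_iff_le_comap]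
    apply le_LIn (Subgroup.map_mono hAX)
    · rintro _ ⟨x, hx, rfl⟩ _ ⟨y, hy, rfl⟩
      rw [← map_mul, ← map_mul, hAc x hx y hy]
    · exact (Subgroup.map_mono hK).trans (Subgroup.le_normalizer_map f)
  · apply sSup_le
    rintro A' ⟨hAX, hAc, hK⟩
    have hr : A' ≤ f.range := hAX.trans (Subgroup.map_le_range f X)
    have e : (A'.comap f).map f = A' := Subgroup.map_comap_eq_self hr
    rw [← e]
    apply Subgroup.map_mono
    apply le_LIn
    · rw [← Subgroup.map_le_map_iff_of_injective hf, e]; exact hAX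
    · intro x hx y hy
      apply hf
      rw [map_mul, map_mul]
      exact hAc _ hx _ hy
    · intro k hk
      rw [Subgroup.mem_normalizer_iff]
      intro a
      have h1 := Subgroup.mem_normalizer_iff.mp (hK (Subgroup.mem_map_of_mem f hk)) (f a)
      rw [Subgroup.mem_comap, Subgroup.mem_comap, map_mul, map_mul, map_inv]
      exact h1

theorem seqIn_map (f : G →* G') (hf : Function.Injective f) (X : Subgroup G) (n : ℕ) :
    (seqIn X n).map f = seqIn (X.map f) n := by
  induction n with
  | zero => rw [seqIn_zero, seqIn_zero, Subgroup.map_bot]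
  | succ n ih => rw [seqIn_succ, seqIn_succ, LIn_map f hf, ih]

theorem lowerIn_map (f : G →* G') (hf : Function.Injective f) (X : Subgroup G) :
    (lowerIn X).map f = lowerIn (X.map f) := by
  unfold lowerIn
  rw [Subgroup.map_iSup]
  congr 1
  funext n
  exact seqIn_map f hf X _

theorem upperIn_map (f : G →* G') (hf : Function.Injective f) (X : Subgroup G) :
    (upperIn X).map f = upperIn (X.map f) := by
  unfold upperIn
  rw [Subgroup.map_iInf _ hf]
  congr 1
  funext n
  exact seqIn_map f hf X _

theorem isMulCommutative_iff (A : Subgroup G) :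
    IsMulCommutative A ↔ ∀ x ∈ A, ∀ y ∈ A, x * y = y * x := by
  constructor
  · intro h x hx y hy
    exact congrArg Subtype.val (h.is_comm.comm ⟨x, hx⟩ ⟨y, hy⟩)
  · intro h
    exact ⟨⟨fun a b => Subtype.ext (h a a.2 b b.2)⟩⟩

theorem puigStep_eq (K : Subgroup G) : Cfsg.puigStep K = LIn ⊤ K := by
  unfold Cfsg.puigStep LIn gens
  congr 1
  ext A
  simp only [Set.mem_setOf_eq, le_top, true_and]
  rw [isMulCommutative_iff]

theorem puigSeq_eq (n : ℕ) : Cfsg.puigSeq G n = seqIn ⊤ n := by
  induction n with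
  | zero => rfl
  | succ n ih =>
    show Cfsg.puigStep (Cfsg.puigSeq G n) = LIn ⊤ (seqIn ⊤ n)
    rw [puigStep_eq, ih]

theorem puigLower_eq : Cfsg.puigLower G = lowerIn ⊤ := by
  unfold Cfsg.puigLower lowerIn
  congr 1
  funext n
  exact puigSeq_eq _

theorem puigSubgroup_eq : Cfsg.puigSubgroup G = upperIn ⊤ := by
  unfold Cfsg.puigSubgroup upperIn
  congr 1
  funext n
  exact puigSeq_eq _

theorem map_subtype_top (X : Subgroup G) : (⊤ : Subgroup ↥X).map X.subtype = X := by
  rw [← MonoidHom.range_eq_map, Subgroup.range_subtype]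

theorem puigLower_map_subtype (X : Subgroup G) :
    (Cfsg.puigLower ↥X).map X.subtype = lowerIn X := by
  rw [puigLower_eq, lowerIn_map _ X.subtype_injective, map_subtype_top]

theorem puigSubgroup_map_subtype (X : Subgroup G) :
    (Cfsg.puigSubgroup ↥X).map X.subtype = upperIn X := by
  rw [puigSubgroup_eq, upperIn_map _ X.subtype_injective, map_subtype_top]

/-- `Z(L(X))` inside the ambient group -/
def ZL (X : Subgroup G) : Subgroup G := upperIn X ⊓ Subgroup.centralizer (upperIn X : Set G)

theorem map_inf_centralizer (f : G →* G') (hf : Function.Injective f) (A : Subgroup G) :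
    (A ⊓ Subgroup.centralizer (A : Set G)).map f =
      A.map f ⊓ Subgroup.centralizer ((A.map f : Subgroup G') : Set G') := by
  ext y
  constructor
  · rintro ⟨x, ⟨hxA, hxc⟩, rfl⟩
    refine ⟨Subgroup.mem_map_of_mem f hxA, ?_⟩
    refine Subgroup.mem_centralizer_iff.mpr ?_
    rintro _ ⟨a, ha, rfl⟩
    rw [← map_mul, ← map_mul, Subgroup.mem_centralizer_iff.mp (show x ∈ Subgroup.centralizer (A : Set G) from hxc) a ha]
  · rintro ⟨⟨x, hxA, rfl⟩, hyc⟩
    refine ⟨x, ⟨hxA, ?_⟩, rfl⟩
    refine Subgroup.mem_centralizer_iff.mpr ?_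
    intro a ha
    apply hf
    rw [map_mul, map_mul]
    exact Subgroup.mem_centralizer_iff.mp (show f x ∈ Subgroup.centralizer ((A.map f : Subgroup G') : Set G') from hyc) _ (Subgroup.mem_map_of_mem f ha)

theorem ZL_map (f : G →* G') (hf : Function.Injective f) (X : Subgroup G) :
    (ZL X).map f = ZL (X.map f) := by
  unfold ZL
  rw [map_inf_centralizer f hf, upperIn_map f hf]

theorem center_map_subtype (L : Subgroup G) :
    (Subgroup.center ↥L).map L.subtype = L ⊓ Subgroup.centralizer (L : Set G) := by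
  ext y
  constructor
  · rintro ⟨x, hx, rfl⟩
    refine ⟨x.2, ?_⟩
    refine Subgroup.mem_centralizer_iff.mpr ?_
    intro a ha
    have := (Subgroup.mem_center_iff.mp (show x ∈ Subgroup.center ↥L from hx)) ⟨a, ha⟩
    exact congrArg Subtype.val this
  · rintro ⟨hyL, hyc⟩
    refine ⟨⟨y, hyL⟩, ?_, rfl⟩
    refine Subgroup.mem_center_iff.mpr ?_
    intro a
    apply Subtype.ext
    exact Subgroup.mem_centralizer_iff.mp (show y ∈ Subgroup.centralizer (L : Set G) from hyc) a a.2

/-- the Prelude's `Z(L(S))` viewed in `G` is `ZL S` -/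
theorem center_puig_map (X : Subgroup G) :
    ((Subgroup.center ↥(Cfsg.puigSubgroup ↥X)).map (Cfsg.puigSubgroup ↥X).subtype).map X.subtype =
      ZL X := by
  rw [center_map_subtype, map_inf_centralizer _ X.subtype_injective, puigSubgroup_map_subtype]
  rfl

end Cfsg.Agent.Lib.Helper1.Puig
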