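import Mathlib
import Cfsg.Agent.Lib.Helper1.Puig2
import Cfsg.Agent.Lib.Helper1.MaxAbelianNormal
set_option autoImplicit false
open scoped commutatorElement Pointwise
universe u v
namespace Cfsg.Agent.Lib.Helper1.Puig

variable {G : Type u} [Group G]

/-- B&G Lemma B.1(e): if `L(X) ≤ H ≤ X` then `L_*(H) = L_*(X)` and `L(H) = L(X)` -/
theorem lowerIn_upperIn_eq_of_le [Finite G] {X H : Subgroup G} (hHX : H ≤ X)
    (hLH : upperIn X ≤ H) : lowerIn H = lowerIn X ∧ upperIn H = upperIn X := by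
  have hab : lowerIn X ≤ upperIn X := lowerIn_le_upperIn X
  -- first chain
  have h1 : ∀ n : ℕ, seqIn X (2 * n) ≤ seqIn H (2 * n) ∧
      seqIn H (2 * n + 1) ≤ seqIn X (2 * n + 1) := by
    intro n
    induction n with
    | zero =>
      exact ⟨bot_le, LIn_mono_left _ hHX⟩
    | succ n ih =>
      have e1 : seqIn X (2 * (n + 1)) ≤ seqIn H (2 * (n + 1)) := by
        show LIn X (seqIn X (2 * n + 1)) ≤ LIn H (seqIn H (2 * n + 1))
        apply sSup_le
        rintro A ⟨hAX, hAc, hK⟩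
        have hA1 : A ≤ seqIn X (2 * (n + 1)) := le_LIn hAX hAc hK
        apply le_LIn _ hAc (ih.2.trans hK)
        exact ((hA1.trans (seqIn_even_le_lowerIn X (n + 1))).trans hab).trans hLH
      refine ⟨e1, ?_⟩
      show LIn H (seqIn H (2 * (n + 1))) ≤ LIn X (seqIn X (2 * (n + 1)))
      exact (LIn_mono_left _ hHX).trans (LIn_anti X e1)
  -- second chain
  have h2 : ∀ n : ℕ, seqIn H (2 * n) ≤ lowerIn X ∧ upperIn X ≤ seqIn H (2 * n + 1) := by
    intro n
    induction n with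
    | zero =>
      refine ⟨bot_le, ?_⟩
      rw [← LIn_lowerIn X]
      apply sSup_le
      rintro A ⟨hAX, hAc, hK⟩
      have hA1 : A ≤ upperIn X := by
        rw [← LIn_lowerIn X]; exact le_LIn hAX hAc hK
      exact le_LIn (hA1.trans hLH) hAc bot_le
    | succ n ih =>
      have e1 : seqIn H (2 * (n + 1)) ≤ lowerIn X := by
        show LIn H (seqIn H (2 * n + 1)) ≤ _
        rw [← LIn_upperIn X]
        exact (LIn_anti H ih.2).trans (LIn_mono_left _ hHX)
      refine ⟨e1, ?_⟩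
      show upperIn X ≤ LIn H (seqIn H (2 * (n + 1)))
      conv_lhs => rw [← LIn_lowerIn X]
      apply sSup_le
      rintro A ⟨hAX, hAc, hK⟩
      have hA1 : A ≤ upperIn X := by
        rw [← LIn_lowerIn X]; exact le_LIn hAX hAc hK
      exact le_LIn (hA1.trans hLH) hAc (e1.trans hK)
  constructor
  · apply le_antisymm
    · exact iSup_le (fun n => (h2 n).1)
    · exact iSup_le (fun n => ((h1 n).1).trans (seqIn_even_le_lowerIn H n))
  · apply le_antisymm
    · exact le_iInf (fun n => (upperIn_le_seqIn_odd H n).trans (h1 n).2)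
    · exact le_iInf (fun n => (h2 n).2)

/-- a finite `p`-group has a self-centralizing abelian normal subgroup (relative form) -/
theorem exists_self_centralizing [Finite G] {p : ℕ} [hp : Fact p.Prime] (T : Subgroup G)
    (hT : IsPGroup p T) :
    ∃ A₀ : Subgroup G, A₀ ≤ T ∧ (∀ x ∈ A₀, ∀ y ∈ A₀, x * y = y * x) ∧
      T ≤ Subgroup.normalizer (A₀ : Set G) ∧ T ⊓ Subgroup.centralizer (A₀ : Set G) ≤ A₀ := by
  haveI : Group.IsNilpotent ↥T := hT.isNilpotent
  obtain ⟨N, ⟨hNn, hNc⟩, hmax⟩ := Set.exists_max_image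
    {N : Subgroup ↥T | N.Normal ∧ IsMulCommutative N} (fun N => Nat.card N) (Set.toFinite _)
    ⟨⊥, inferInstance, inferInstance⟩
  haveI := hNn
  haveI := hNc
  have hC := centralizer_eq_of_maximal_abelian_normal N (by
    intro M hMn hMc hNM
    have := hmax M ⟨hMn, hMc⟩
    exact (Subgroup.eq_of_le_of_card_ge hNM this).symm)
  refine ⟨N.map T.subtype, Subgroup.map_subtype_le N, ?_, ?_, ?_⟩
  · rintro _ ⟨x, hx, rfl⟩ _ ⟨y, hy, rfl⟩
    rw [← map_mul, ← map_mul]
    congr 1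
    exact congrArg Subtype.val (hNc.is_comm.comm ⟨x, hx⟩ ⟨y, hy⟩)
  · intro t ht
    rw [Subgroup.mem_normalizer_iff]
    intro a
    constructor
    · rintro ⟨x, hx, rfl⟩
      exact ⟨⟨t, ht⟩ * x * ⟨t, ht⟩⁻¹, hNn.conj_mem x hx _, rfl⟩
    · rintro ⟨y, hy, hya⟩
      have h1 : a = t⁻¹ * (y : G) * t := by
        rw [show ((T.subtype y : G)) = (y : G) from rfl] at hya
        rw [hya]; group
      refine ⟨⟨t, ht⟩⁻¹ * y * ⟨t, ht⟩, ?_, ?_⟩
      · have := hNn.conj_mem y hy ⟨t, ht⟩⁻¹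
        rwa [inv_inv] at this
      · rw [h1]; rfl
  · rintro x ⟨hxT, hxc⟩
    have hx' : (⟨x, hxT⟩ : ↥T) ∈ Subgroup.centralizer (N : Set ↥T) := by
      rw [Subgroup.mem_centralizer_iff]
      intro n hn
      apply Subtype.ext
      exact Subgroup.mem_centralizer_iff.mp hxc n (Subgroup.mem_map_of_mem _ hn)
    rw [hC] at hx'
    exact ⟨⟨x, hxT⟩, hx', rfl⟩

/-- terms of the Puig series of a `p`-group from `L_2` on (and all odd ones, `L_*`, `L`) are
self-centralizing -/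
theorem exists_self_centralizing_le [Finite G] {p : ℕ} [hp : Fact p.Prime] (T : Subgroup G)
    (hT : IsPGroup p T) :
    ∃ A₀ : Subgroup G, A₀ ≤ lowerIn T ∧ (∀ m, A₀ ≤ seqIn T (2 * m + 1)) ∧
      T ⊓ Subgroup.centralizer (A₀ : Set G) ≤ A₀ := by
  obtain ⟨A₀, hA₀T, hA₀c, hA₀n, hA₀C⟩ := exists_self_centralizing T hT
  have h2 : A₀ ≤ seqIn T (2 * 1) := by
    show A₀ ≤ LIn T (seqIn T 1)
    exact le_LIn hA₀T hA₀c ((seqIn_le T 1).trans hA₀n)
  exact ⟨A₀, h2.trans (seqIn_even_le_lowerIn T 1), fun m => h2.trans (seqIn_even_le_odd T 1 m),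
    hA₀C⟩

theorem inf_centralizer_le_of_le [Finite G] {p : ℕ} [hp : Fact p.Prime] (T : Subgroup G)
    (hT : IsPGroup p T) {K : Subgroup G}
    (hK : ∀ A₀ : Subgroup G, (A₀ ≤ lowerIn T ∧ ∀ m, A₀ ≤ seqIn T (2 * m + 1)) → A₀ ≤ K) :
    T ⊓ Subgroup.centralizer (K : Set G) ≤ K := by
  obtain ⟨A₀, h1, h2, h3⟩ := exists_self_centralizing_le T hT
  have hA₀K := hK A₀ ⟨h1, h2⟩
  exact (inf_le_inf_left T (Subgroup.centralizer_le hA₀K)).trans (h3.trans hA₀K)

theorem inf_centralizer_seqIn_odd_le [Finite G] {p : ℕ} [hp : Fact p.Prime] (T : Subgroup G)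
    (hT : IsPGroup p T) (m : ℕ) :
    T ⊓ Subgroup.centralizer (seqIn T (2 * m + 1) : Set G) ≤ seqIn T (2 * m + 1) :=
  inf_centralizer_le_of_le T hT (fun _ h => h.2 m)

theorem inf_centralizer_upperIn_le [Finite G] {p : ℕ} [hp : Fact p.Prime] (T : Subgroup G)
    (hT : IsPGroup p T) :
    T ⊓ Subgroup.centralizer (upperIn T : Set G) ≤ upperIn T :=
  inf_centralizer_le_of_le T hT (fun _ h => le_iInf h.2)

theorem inf_centralizer_lowerIn_le [Finite G] {p : ℕ} [hp : Fact p.Prime] (T : Subgroup G)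
    (hT : IsPGroup p T) :
    T ⊓ Subgroup.centralizer (lowerIn T : Set G) ≤ lowerIn T :=
  inf_centralizer_le_of_le T hT (fun _ h => h.1)

end Cfsg.Agent.Lib.Helper1.Puig
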