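import Mathlib
import Cfsg.Agent.Lib.Helper1.Puig3
import Cfsg.Agent.Lib.Helper1.OddStable4
set_option autoImplicit false
open scoped commutatorElement Pointwise
open Cfsg
universe u v
namespace Cfsg.Agent.Lib.Helper1.Puig

open Cfsg.Agent.Lib.Helper1.OddStable

variable {G : Type u} [Group G]

theorem seqIn_normal_of_normal (T : Subgroup G) [hT : T.Normal] (n : ℕ) : (seqIn T n).Normal := by
  constructor
  intro x hx g
  have h1 := seqIn_map (MulAut.conj g).toMonoidHom (MulAut.conj g).injective T n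
  have h2 : T.map (MulAut.conj g).toMonoidHom = T := by
    have := (Subgroup.characteristic_iff_map_eq.mp
      (inferInstance : (⊤ : Subgroup G).Characteristic))
    apply le_antisymm
    · rintro _ ⟨t, ht, rfl⟩
      exact hT.conj_mem t ht g
    · intro t ht
      refine ⟨g⁻¹ * t * g, ?_, ?_⟩
      · have := hT.conj_mem t ht g⁻¹
        rwa [inv_inv] at this
      · simp [MulAut.conj_apply, mul_assoc]
  rw [h2] at h1
  rw [← h1]
  exact ⟨x, hx, by simp [MulAut.conj_apply]⟩

theorem upperIn_normal_of_normal (T : Subgroup G) [hT : T.Normal] : (upperIn T).Normal := by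
  unfold upperIn
  haveI : ∀ n, (seqIn T (2 * n + 1)).Normal := fun n => seqIn_normal_of_normal T _
  exact Subgroup.normal_iInf_normal (fun n => this n)

theorem lowerIn_normal_of_normal (T : Subgroup G) [hT : T.Normal] : (lowerIn T).Normal := by
  unfold lowerIn
  haveI : ∀ n, (seqIn T (2 * n)).Normal := fun n => seqIn_normal_of_normal T _
  exact Subgroup.iSup_normal _

/-- abelian subgroups of a Sylow normalized by a self-centralizing normal `p`-subgroup lie in
`O_p` (odd order, `O_{p'} = 1`) -/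
theorem le_pCore_of_normalized [Finite G] [Group.IsSolvable G] (hodd : Odd (Nat.card G)) {p : ℕ}
    [hp : Fact p.Prime] (hp2 : p ≠ 2) (hO : pPrimeCore p G = ⊥) (P : Subgroup G) [hPn : P.Normal]
    (hP : IsPGroup p P) (hPc : pCore p G ⊓ Subgroup.centralizer (P : Set G) ≤ P)
    (A : Subgroup G) (hAp : IsPGroup p A) (hAc : ∀ x ∈ A, ∀ y ∈ A, x * y = y * x)
    (hPA : P ≤ Subgroup.normalizer (A : Set G)) : A ≤ pCore p G := by
  have h := (s1465 hodd p hp2 P hP {A} (by
    intro B hB
    rw [Set.mem_singleton_iff] at hB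
    subst hB
    exact ⟨(isMulCommutative_iff B).mpr hAc, hAp, hPA⟩)).2 hO hPc
  rwa [sSup_singleton] at h

/-- B&G Theorem B.3 (Puig), relative form -/
theorem puig_chain [Finite G] [Group.IsSolvable G] (hodd : Odd (Nat.card G)) {p : ℕ}
    [hp : Fact p.Prime] (hp2 : p ≠ 2) (hO : pPrimeCore p G = ⊥) (S : Sylow p G) :
    lowerIn (S : Subgroup G) ≤ lowerIn (pCore p G) ∧ lowerIn (pCore p G) ≤ upperIn (pCore p G) ∧
      upperIn (pCore p G) ≤ upperIn (S : Subgroup G) := by
  obtain ⟨T, hTdef⟩ : ∃ T : Subgroup G, T = pCore p G := ⟨_, rfl⟩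
  have hTn : T.Normal := hTdef ▸ pCore_normal p
  have hTp : IsPGroup p T := hTdef ▸ pCore_isPGroup p
  have hTS : T ≤ S := hTdef ▸ pCore_le_sylow p S
  rw [← hTdef]
  have hmain : ∀ n : ℕ, seqIn (S : Subgroup G) (2 * n) ≤ seqIn T (2 * n) ∧
      seqIn T (2 * n + 1) ≤ seqIn (S : Subgroup G) (2 * n + 1) := by
    intro n
    induction n with
    | zero => exact ⟨bot_le, LIn_mono_left _ hTS⟩
    | succ n ih =>
      have e1 : seqIn (S : Subgroup G) (2 * (n + 1)) ≤ seqIn T (2 * (n + 1)) := by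
        show LIn (S : Subgroup G) (seqIn (S : Subgroup G) (2 * n + 1)) ≤
          LIn T (seqIn T (2 * n + 1))
        apply sSup_le
        rintro A ⟨hAS, hAc, hK⟩
        haveI := seqIn_normal_of_normal T (2 * n + 1)
        have hAT : A ≤ T := by
          rw [hTdef]
          apply le_pCore_of_normalized hodd hp2 hO (seqIn T (2 * n + 1))
            (hTp.to_le (seqIn_le T _)) _ A (S.2.to_le hAS) hAc (ih.2.trans hK)
          rw [← hTdef]
          exact inf_centralizer_seqIn_odd_le T hTp n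
        exact le_LIn hAT hAc (ih.2.trans hK)
      refine ⟨e1, ?_⟩
      show LIn T (seqIn T (2 * (n + 1))) ≤ LIn (S : Subgroup G) (seqIn (S : Subgroup G) (2 * (n + 1)))
      exact (LIn_mono_left _ hTS).trans (LIn_anti _ e1)
  refine ⟨?_, lowerIn_le_upperIn T, ?_⟩
  · exact iSup_le (fun n => ((hmain n).1).trans (seqIn_even_le_lowerIn T n))
  · exact le_iInf (fun n => (upperIn_le_seqIn_odd T n).trans (hmain n).2)

theorem s1468 [Finite G] [Group.IsSolvable G] (hodd : Odd (Nat.card G)) (p : ℕ)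
    [hp : Fact p.Prime] (hp2 : p ≠ 2) (hO : Cfsg.pPrimeCore p G = ⊥) (S : Sylow p G) :
    (Cfsg.puigLower ↥(S : Subgroup G)).map (S : Subgroup G).subtype ≤
        (Cfsg.puigLower ↥(Cfsg.pCore p G)).map (Cfsg.pCore p G).subtype ∧
      (Cfsg.puigLower ↥(Cfsg.pCore p G)).map (Cfsg.pCore p G).subtype ≤
        (Cfsg.puigSubgroup ↥(Cfsg.pCore p G)).map (Cfsg.pCore p G).subtype ∧
      (Cfsg.puigSubgroup ↥(Cfsg.pCore p G)).map (Cfsg.pCore p G).subtype ≤
        (Cfsg.puigSubgroup ↥(S : Subgroup G)).map (S : Subgroup G).subtype := by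
  rw [puigLower_map_subtype, puigLower_map_subtype, puigSubgroup_map_subtype,
    puigSubgroup_map_subtype]
  exact puig_chain hodd hp2 hO S

end Cfsg.Agent.Lib.Helper1.Puig
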