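import Mathlib
import Cfsg.Agent.Lib.Helper1.Puig4
import Cfsg.Agent.Lib.Helper1.PConstrainedLocal1
import Cfsg.Agent.Lib.Helper1.ZJ10
import Cfsg.Agent.Lib.Helper1.CoprimeSylow
set_option autoImplicit false
open scoped commutatorElement Pointwise
open Cfsg
universe u v
namespace Cfsg.Agent.Lib.Helper1.Puig

open Cfsg.Agent.Lib.Helper1.OddStable

variable {G : Type u} [Group G]

/-- a subgroup containing a normal self-centralizing `p`-subgroup has trivial `O_{p'}` -/
theorem pPrimeCore_eq_bot_of_le [Finite G] {p : ℕ} [hp : Fact p.Prime] (Q : Subgroup G)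
    [hQn : Q.Normal] (hQ : IsPGroup p Q) (hc : Subgroup.centralizer (Q : Set G) ≤ Q)
    (H : Subgroup G) (hQH : Q ≤ H) : pPrimeCore p ↥H = ⊥ := by
  rw [eq_bot_iff]
  intro y hy
  rw [Subgroup.mem_bot]
  have hWn : (Q.subgroupOf H).Normal := inferInstance
  have hWp : IsPGroup p (Q.subgroupOf H) := hQ.comap_subtype
  have hcomm := Cfsg.Agent.Lib.Helper1.commute_of_mem_pPrimeCore_or_centralizer (Q.subgroupOf H) hWp y
    (Or.inl hy)
  have hyQ : (y : G) ∈ Q := by
    apply hc
    rw [Subgroup.mem_centralizer_iff]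
    intro q hq
    have := hcomm ⟨q, hQH hq⟩ (by rw [Subgroup.mem_subgroupOf]; exact hq)
    exact congrArg Subtype.val this
  obtain ⟨k, hk⟩ := hQ ⟨(y : G), hyQ⟩
  have hk' : y ^ p ^ k = 1 := by
    apply Subtype.ext
    have := congrArg Subtype.val hk
    simpa using this
  have h1 : orderOf y ∣ p ^ k := orderOf_dvd_of_pow_eq_one hk'
  have h2 : orderOf y ∣ Nat.card (pPrimeCore p ↥H) := by
    have := orderOf_dvd_natCard (⟨y, hy⟩ : pPrimeCore p ↥H)
    rwa [Subgroup.orderOf_mk] at this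
  have h3 : (orderOf y).Coprime (p ^ k) :=
    Nat.Coprime.pow_right k
      (Nat.Coprime.coprime_dvd_left h2 (Cfsg.Agent.Lib.Helper1.pPrimeCore_card_coprime p))
  have h4 : orderOf y = 1 := Nat.eq_one_of_dvd_coprimes h3 dvd_rfl h1
  exact orderOf_eq_one_iff.mp h4

theorem ZL_le (X : Subgroup G) : ZL X ≤ X := inf_le_left.trans (upperIn_le X)

theorem ZL_comm (X : Subgroup G) : ∀ x ∈ ZL X, ∀ y ∈ ZL X, x * y = y * x := by
  intro x hx y hy
  exact (Subgroup.mem_centralizer_iff.mp hy.2 x hx.1)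

theorem ZL_normal_of_normal (T : Subgroup G) [hT : T.Normal] : (ZL T).Normal := by
  haveI := upperIn_normal_of_normal T
  unfold ZL
  infer_instance

/-- B&G Theorem B.4 (Puig), core case, by induction on the order -/
theorem ZL_normal_aux {p : ℕ} [hp : Fact p.Prime] (hp2 : p ≠ 2) : ∀ (n : ℕ) (G : Type u) [Group G]
    [Finite G] [Group.IsSolvable G], Nat.card G = n → Odd (Nat.card G) → pPrimeCore p G = ⊥ →
    ∀ S : Sylow p G, (ZL (S : Subgroup G)).Normal := by
  intro n
  induction n using Nat.strong_induction_on with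
  | _ n IH =>
  intro G _ _ _ hn hodd hO S
  obtain ⟨T, hTdef⟩ : ∃ T : Subgroup G, T = pCore p G := ⟨_, rfl⟩
  have hTn : T.Normal := hTdef ▸ pCore_normal p
  have hTp : IsPGroup p T := hTdef ▸ pCore_isPGroup p
  have hTS : T ≤ S := hTdef ▸ pCore_le_sylow p S
  have hTc : Subgroup.centralizer (T : Set G) ≤ T :=
    hTdef ▸ Cfsg.Agent.Lib.Helper1.centralizer_pCore_le p hO
  obtain ⟨hch1, hch2, hch3⟩ := puig_chain hodd hp2 hO S
  rw [← hTdef] at hch1 hch2 hch3
  haveI hbTn : (upperIn T).Normal := upperIn_normal_of_normal T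
  obtain ⟨W, hWdef⟩ : ∃ W : Subgroup G, W = ZL T := ⟨_, rfl⟩
  haveI hWn : W.Normal := hWdef ▸ ZL_normal_of_normal T
  have hWT : W ≤ T := hWdef ▸ ZL_le T
  have hWc : ∀ x ∈ W, ∀ y ∈ W, x * y = y * x := hWdef ▸ ZL_comm T
  have hWp : IsPGroup p W := hTp.to_le hWT
  obtain ⟨Z, hZdef⟩ : ∃ Z : Subgroup G, Z = ZL (S : Subgroup G) := ⟨_, rfl⟩
  rw [← hZdef]
  -- (i) Z ≤ W
  have hCp : IsPGroup p (Subgroup.centralizer (upperIn T : Set G)) := by
    apply isPGroup_of_pCore_inf_central _ hO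
    rintro z ⟨hzT, hzC⟩ c hc
    rw [← hTdef] at hzT
    have hz : z ∈ upperIn T := inf_centralizer_upperIn_le T hTp ⟨hzT, hzC⟩
    exact Subgroup.mem_centralizer_iff.mp hc z hz |>.symm
  have hCT : Subgroup.centralizer (upperIn T : Set G) ≤ T := by
    have : Subgroup.centralizer (upperIn T : Set G) ≤ pCore p G := le_pCore inferInstance hCp
    rwa [← hTdef] at this
  have hZW : Z ≤ W := by
    intro z hz
    rw [hZdef] at hz
    have h1 : z ∈ Subgroup.centralizer (upperIn T : Set G) :=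
      Subgroup.centralizer_le hch3 hz.2
    rw [hWdef]
    exact ⟨inf_centralizer_upperIn_le T hTp ⟨hCT h1, h1⟩, h1⟩
  -- (ii) W ≤ L_*(S)
  have hWa : W ≤ lowerIn (S : Subgroup G) := by
    rw [← LIn_upperIn]
    apply le_LIn (hWT.trans hTS) hWc
    rw [Subgroup.normalizer_eq_top_iff.mpr hWn]; exact le_top
  -- (iii) L(S) ≤ D
  obtain ⟨D, hDdef⟩ : ∃ D : Subgroup G, D = (pCore p (G ⧸ Subgroup.centralizer (W : Set G))).comap
      (QuotientGroup.mk' (Subgroup.centralizer (W : Set G))) := ⟨_, rfl⟩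
  have hbD : upperIn (S : Subgroup G) ≤ D := by
    have h := (s1465 hodd p hp2 W hWp (gens (S : Subgroup G) (lowerIn (S : Subgroup G))) (by
      rintro B ⟨hBS, hBc, hK⟩
      exact ⟨(isMulCommutative_iff B).mpr hBc, S.2.to_le hBS, hWa.trans hK⟩)).1
    rw [Subgroup.map_le_iff_le_comap] at h
    rw [hDdef, ← LIn_lowerIn]
    exact h
  -- (iv) Frattini
  have hfr := Cfsg.Agent.Lib.Helper1.ZJ.normalizer_inf_sup_eq_top S (Subgroup.centralizer (W : Set G))
  rw [← hDdef] at hfr
  obtain ⟨R, hRdef⟩ : ∃ R : Subgroup G, R = (S : Subgroup G) ⊓ D := ⟨_, rfl⟩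
  rw [← hRdef] at hfr
  -- (v) C_G(W) ≤ N(Z)
  have hCN : Subgroup.centralizer (W : Set G) ≤ Subgroup.normalizer (Z : Set G) := by
    apply Cfsg.Agent.Lib.Helper1.le_normalizer_of_conj_mem
    intro c hc z hz
    have := Subgroup.mem_centralizer_iff.mp hc z (hZW hz)
    rw [← this, mul_inv_cancel_right]
    exact hz
  -- (vi) N_G(R) ≤ N(Z)
  have hRN : Subgroup.normalizer (R : Set G) ≤ Subgroup.normalizer (Z : Set G) := by
    by_cases htop : Subgroup.normalizer (R : Set G) = ⊤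
    · have hRn : R.Normal := Subgroup.normalizer_eq_top_iff.mp htop
      have hRp : IsPGroup p R := S.2.to_le (hRdef ▸ inf_le_left)
      have hRT : R ≤ T := hTdef ▸ le_pCore hRn hRp
      have hbT : upperIn (S : Subgroup G) ≤ T :=
        (hRdef ▸ le_inf (upperIn_le _) hbD : upperIn (S : Subgroup G) ≤ R).trans hRT
      have heq := (lowerIn_upperIn_eq_of_le hTS hbT).2
      have : Z = W := by rw [hZdef, hWdef]; unfold ZL; rw [heq]
      rw [this, Subgroup.normalizer_eq_top_iff.mpr hWn]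
      exact le_top
    · obtain ⟨N, hNdef⟩ : ∃ N : Subgroup G, N = Subgroup.normalizer (R : Set G) := ⟨_, rfl⟩
      rw [← hNdef] at htop ⊢
      have hDn : D.Normal := by
        haveI := pCore_normal (G := G ⧸ Subgroup.centralizer (W : Set G)) p
        rw [hDdef]; exact Subgroup.Normal.comap inferInstance _
      have hSN : (S : Subgroup G) ≤ N := by
        rw [hNdef]
        apply Cfsg.Agent.Lib.Helper1.le_normalizer_of_conj_mem
        intro s hs x hx
        rw [hRdef] at hx ⊢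
        exact ⟨(S : Subgroup G).mul_mem ((S : Subgroup G).mul_mem hs hx.1)
            ((S : Subgroup G).inv_mem hs), hDn.conj_mem x hx.2 s⟩
      have hlt : Nat.card ↥N < n := by
        rw [← hn]
        apply lt_of_le_of_ne (Subgroup.card_le_card_group N)
        intro h
        exact htop (Subgroup.card_eq_iff_eq_top N |>.mp h)
      have hON : pPrimeCore p ↥N = ⊥ :=
        pPrimeCore_eq_bot_of_le T hTp hTc N (hTS.trans hSN)
      have hnorm := IH (Nat.card ↥N) hlt ↥N rfl (odd_card_subgroup hodd N) hON (S.subtype hSN)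
      rw [Sylow.coe_subtype] at hnorm
      have hmap : (ZL ((S : Subgroup G).subgroupOf N)).map N.subtype = Z := by
        rw [ZL_map _ N.subtype_injective, Subgroup.subgroupOf_map_subtype,
          inf_eq_left.mpr hSN, hZdef]
      apply Cfsg.Agent.Lib.Helper1.le_normalizer_of_conj_mem
      intro g hg z hz
      rw [← hmap] at hz ⊢
      obtain ⟨z₁, hz₁, rfl⟩ := hz
      exact ⟨⟨g, hg⟩ * z₁ * ⟨g, hg⟩⁻¹, hnorm.conj_mem z₁ hz₁ ⟨g, hg⟩, rfl⟩
  rw [← Subgroup.normalizer_eq_top_iff, eq_top_iff, ← hfr]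
  exact sup_le hRN hCN

end Cfsg.Agent.Lib.Helper1.Puig
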