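import Mathlib
import Cfsg.Agent.Lib.Helper1.Puig5
set_option autoImplicit false
open scoped commutatorElement Pointwise
open Cfsg
universe u v
namespace Cfsg.Agent.Lib.Helper1.Puig

open Cfsg.Agent.Lib.Helper1.OddStable

variable {G : Type u} [Group G] {G' : Type v} [Group G']

theorem ZL_map_of_injOn (f : G →* G') (X : Subgroup G) (hinj : Set.InjOn f X) :
    ZL (X.map f) = (ZL X).map f := by
  have hinj' : Function.Injective (f.comp X.subtype) := by
    intro a b hab
    exact Subtype.ext (hinj a.2 b.2 hab)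
  have h1 := ZL_map (f.comp X.subtype) hinj' ⊤
  have h2 := ZL_map X.subtype X.subtype_injective ⊤
  rw [map_subtype_top] at h2
  rw [← Subgroup.map_map, ← Subgroup.map_map, map_subtype_top, h2] at h1
  exact h1.symm

theorem s1469 [Finite G] [Group.IsSolvable G] (hodd : Odd (Nat.card G)) (p : ℕ)
    [hp : Fact p.Prime] (hp2 : p ≠ 2) (S : Sylow p G) :
    Cfsg.pPrimeCore p G ⊔ Subgroup.normalizer ((((Subgroup.center
      ↥(Cfsg.puigSubgroup ↥(S : Subgroup G))).map
        (Cfsg.puigSubgroup ↥(S : Subgroup G)).subtype).map (S : Subgroup G).subtype :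
          Subgroup G) : Set G) = ⊤ ∧
      (Cfsg.pPrimeCore p G = ⊥ → (((Subgroup.center ↥(Cfsg.puigSubgroup ↥(S : Subgroup G))).map
        (Cfsg.puigSubgroup ↥(S : Subgroup G)).subtype).map (S : Subgroup G).subtype).Normal) := by
  rw [center_puig_map]
  refine ⟨?_, fun hO => ZL_normal_aux hp2 _ G rfl hodd hO S⟩
  have hOq : pPrimeCore p (G ⧸ pPrimeCore p G) = ⊥ := pPrimeCore_quotient_eq_bot p
  have hsurj : Function.Surjective (QuotientGroup.mk' (pPrimeCore p G)) :=
    QuotientGroup.mk'_surjective _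
  have hnorm := ZL_normal_aux hp2 _ (G ⧸ pPrimeCore p G) rfl (odd_card_quotient hodd _) hOq
    (S.mapSurjective hsurj)
  rw [Sylow.coe_mapSurjective] at hnorm
  have hNc : (Nat.card (Cfsg.pPrimeCore p G)).Coprime p :=
    Cfsg.Agent.Lib.Helper1.pPrimeCore_card_coprime p
  have hdisj : (S : Subgroup G) ⊓ Cfsg.pPrimeCore p G = ⊥ := by
    apply Disjoint.eq_bot
    apply Subgroup.disjoint_of_coprime_natCard
    obtain ⟨k, hk⟩ := S.2.exists_card_eq
    rw [hk]
    exact Nat.Coprime.pow_left _ hNc.symm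
  have hinj : Set.InjOn (QuotientGroup.mk' (Cfsg.pPrimeCore p G)) (S : Subgroup G) := by
    intro x hx y hy hxy
    have h1 : x⁻¹ * y ∈ Cfsg.pPrimeCore p G := by
      rw [← QuotientGroup.eq]; exact hxy
    have h2 : x⁻¹ * y ∈ (S : Subgroup G) ⊓ Cfsg.pPrimeCore p G :=
      ⟨(S : Subgroup G).mul_mem ((S : Subgroup G).inv_mem hx) hy, h1⟩
    rw [hdisj, Subgroup.mem_bot] at h2
    exact inv_mul_eq_one.mp h2
  rw [ZL_map_of_injOn _ _ hinj] at hnorm
  have hK : (ZL (S : Subgroup G) ⊔ pPrimeCore p G).Normal := by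
    have := Subgroup.Normal.comap hnorm (QuotientGroup.mk' (pPrimeCore p G))
    rwa [Subgroup.comap_map_eq, QuotientGroup.ker_mk'] at this
  exact Cfsg.Agent.Lib.Helper1.ZJ.sup_normalizer_eq_top_of_sup_normal (pPrimeCore p G) hNc
    (ZL (S : Subgroup G)) (S.2.to_le (ZL_le _)) hK

end Cfsg.Agent.Lib.Helper1.Puig
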