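import Cfsg.Agent.Lib.Helper1.QBDefs

/-! S4125 GT piece A1: basics on `q`-elements and class sizes. -/

set_option autoImplicit false

namespace Cfsg.Agent.Lib.Helper1.QB

open Cfsg

variable {G : Type*} [Group G] [Finite G]

omit [Finite G] in
theorem qelt_conj {q : ℕ} {x : G} (hx : QElt q x) (g : G) : QElt q (g * x * g⁻¹) := by
  obtain ⟨k, hk⟩ := hx
  refine ⟨k, ?_⟩
  have : g * x * g⁻¹ = MulAut.conj g x := by simp [MulAut.conj_apply]
  rw [this, MulEquiv.orderOf_eq]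
  exact hk

omit [Finite G] in
theorem qelt_inv {q : ℕ} {x : G} (hx : QElt q x) : QElt q x⁻¹ := by
  obtain ⟨k, hk⟩ := hx
  exact ⟨k, by rw [orderOf_inv]; exact hk⟩

omit [Finite G] in
theorem ind_conj (x g : G) : ind (g * x * g⁻¹) = ind x := by
  unfold ind
  have h : Subgroup.centralizer ({g * x * g⁻¹} : Set G) =
      (Subgroup.centralizer ({x} : Set G)).map (MulAut.conj g).toMonoidHom := by
    ext y
    simp only [Subgroup.mem_centralizer_iff, Set.mem_singleton_iff, forall_eq, Subgroup.mem_map,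
      MulEquiv.coe_toMonoidHom, MulAut.conj_apply]
    constructor
    · intro hy
      refine ⟨g⁻¹ * y * g, ?_, by group⟩
      have : g⁻¹ * (g * x * g⁻¹ * y) * g = g⁻¹ * (y * (g * x * g⁻¹)) * g := by rw [hy]
      calc x * (g⁻¹ * y * g) = g⁻¹ * (g * x * g⁻¹ * y) * g := by group
        _ = g⁻¹ * (y * (g * x * g⁻¹)) * g := this
        _ = g⁻¹ * y * g * x := by group
    · rintro ⟨z, hz, rfl⟩
      calc g * x * g⁻¹ * (g * z * g⁻¹) = g * (x * z) * g⁻¹ := by group
        _ = g * (z * x) * g⁻¹ := by rw [hz]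
        _ = g * z * g⁻¹ * (g * x * g⁻¹) := by group
  rw [h]
  exact Subgroup.index_map_equiv _ (MulAut.conj g)

omit [Finite G] in
theorem ind_eq_one_iff (x : G) : ind x = 1 ↔ ∀ g : G, g * x * g⁻¹ = x := by
  unfold ind
  rw [Subgroup.index_eq_one]
  constructor
  · intro h g
    have hg : g ∈ Subgroup.centralizer ({x} : Set G) := by rw [h]; trivial
    have := (Subgroup.mem_centralizer_iff.mp hg) x rfl
    rw [← this]; group
  · intro h
    rw [eq_top_iff]
    intro g _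
    rw [Subgroup.mem_centralizer_iff]
    intro y hy
    rw [Set.mem_singleton_iff] at hy
    subst hy
    have := h g
    calc y * g = (g * y * g⁻¹) * g := by rw [this]
      _ = g * y := by group

theorem qelt_mem_sylow {q : ℕ} [Fact q.Prime] {x : G} (hx : QElt q x) : ∃ Q : Sylow q G, x ∈ Q := by
  obtain ⟨k, hk⟩ := hx
  have hp : IsPGroup q (Subgroup.zpowers x) := by
    rw [IsPGroup.iff_card]
    exact ⟨k, by rw [Nat.card_zpowers]; exact hk⟩
  obtain ⟨Q, hQ⟩ := hp.exists_le_sylow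
  exact ⟨Q, hQ (Subgroup.mem_zpowers x)⟩

omit [Finite G] in
theorem qelt_of_mem_pgroup {q : ℕ} [Fact q.Prime] (P : Subgroup G) (hP : IsPGroup q P) {x : G}
    (hx : x ∈ P) : QElt q x := by
  obtain ⟨k, hk⟩ := hP ⟨x, hx⟩
  have h1 : x ^ q ^ k = 1 := by
    have := congrArg Subtype.val hk
    simpa using this
  have hq : q.Prime := Fact.out
  obtain ⟨j, -, hj⟩ := (Nat.dvd_prime_pow hq).mp (orderOf_dvd_of_pow_eq_one h1)
  exact ⟨j, hj⟩

omit [Finite G] in
theorem qelt_mul {q : ℕ} [Fact q.Prime] {x y : G} (hc : Commute x y) (hx : QElt q x) (hy : QElt q y) :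
    QElt q (x * y) := by
  obtain ⟨k, hk⟩ := hx
  obtain ⟨l, hl⟩ := hy
  have hq : q.Prime := Fact.out
  have h1 : (x * y) ^ q ^ (k + l) = 1 := by
    rw [hc.mul_pow, pow_add]
    have hx1 : x ^ (q ^ k * q ^ l) = 1 := by rw [pow_mul, ← hk, pow_orderOf_eq_one, one_pow]
    have hy1 : y ^ (q ^ k * q ^ l) = 1 := by rw [mul_comm, pow_mul, ← hl, pow_orderOf_eq_one, one_pow]
    rw [hx1, hy1, one_mul]
  obtain ⟨j, -, hj⟩ := (Nat.dvd_prime_pow hq).mp (orderOf_dvd_of_pow_eq_one h1)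
  exact ⟨j, hj⟩

omit [Finite G] in
theorem qelt_map {q : ℕ} [Fact q.Prime] {H : Type*} [Group H] (f : G →* H) {x : G} (hx : QElt q x) :
    QElt q (f x) := by
  obtain ⟨k, hk⟩ := hx
  have hq : q.Prime := Fact.out
  have h1 : orderOf (f x) ∣ q ^ k := by rw [← hk]; exact orderOf_map_dvd f x
  obtain ⟨j, -, hj⟩ := (Nat.dvd_prime_pow hq).mp h1
  exact ⟨j, hj⟩

omit [Finite G] in
theorem qelt_eq_one_of_coprime {q : ℕ} [Fact q.Prime] {x : G} (hx : QElt q x) {n : ℕ}
    (hn : n.Coprime q) (h : x ^ n = 1) : x = 1 := by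
  obtain ⟨k, hk⟩ := hx
  have h1 : orderOf x ∣ n := orderOf_dvd_of_pow_eq_one h
  have h2 : orderOf x ∣ q ^ k := by rw [hk]
  have h3 : (n).Coprime (q ^ k) := Nat.Coprime.pow_right k hn
  have h4 : orderOf x = 1 := Nat.eq_one_of_dvd_coprimes h3 h1 h2
  exact orderOf_eq_one_iff.mp h4

theorem qelt_eq_one_of_mem_coprime {q : ℕ} [Fact q.Prime] {x : G} (hx : QElt q x) (N : Subgroup G)
    (hN : (Nat.card N).Coprime q) (h : x ∈ N) : x = 1 := by
  apply qelt_eq_one_of_coprime hx hN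
  exact orderOf_dvd_iff_pow_eq_one.mp (Subgroup.orderOf_dvd_natCard N h)

end Cfsg.Agent.Lib.Helper1.QB
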