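import Cfsg.Agent.Lib.Helper1.QBA1
import Cfsg.Agent.Lib.Helper1.FittingCentralizer
import Cfsg.Agent.Lib.Helper2.Cores
import Cfsg.Agent.S4364

/-! S4125 GT piece A3 (L2'): a `q`-element of `r`-power class size maps into `O_q(G/N)` whenever
`O_r(G) ≤ N`. -/

set_option autoImplicit false

namespace Cfsg.Agent.Lib.Helper1.QB

open Cfsg

variable {G : Type*} [Group G] [Finite G]

omit [Finite G] in
/-- a subgroup generated by pairwise commuting elements is commutative -/
theorem h1_qb_closure_comm (S : Set G) (hS : ∀ a ∈ S, ∀ b ∈ S, a * b = b * a) :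
    ∀ a ∈ Subgroup.closure S, ∀ b ∈ Subgroup.closure S, a * b = b * a := by
  have h1 : Subgroup.closure S ≤ Subgroup.centralizer S := by
    rw [Subgroup.closure_le]
    intro a ha
    rw [SetLike.mem_coe, Subgroup.mem_centralizer_iff]
    intro b hb
    exact hS b hb a ha
  have h2 : Subgroup.closure S ≤ Subgroup.centralizer (Subgroup.closure S : Set G) := by
    rw [Subgroup.closure_le]
    intro a ha
    rw [SetLike.mem_coe, Subgroup.mem_centralizer_iff]
    intro b hb
    have := (Subgroup.mem_centralizer_iff.mp (h1 hb)) a ha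
    exact this.symm
  intro a ha b hb
  exact ((Subgroup.mem_centralizer_iff.mp (h2 ha)) b hb).symm

omit [Finite G] in
/-- a subgroup generated by pairwise commuting `q`-elements is a `q`-group -/
theorem h1_qb_closure_pgroup {q : ℕ} [Fact q.Prime] (S : Set G)
    (hS : ∀ a ∈ S, ∀ b ∈ S, a * b = b * a) (hq : ∀ a ∈ S, ∃ k : ℕ, a ^ q ^ k = 1) :
    IsPGroup q (Subgroup.closure S) := by
  have hcomm := h1_qb_closure_comm S hS
  have key : ∀ y (hy : y ∈ Subgroup.closure S), ∃ k : ℕ, y ^ q ^ k = 1 := by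
    intro y hy
    induction hy using Subgroup.closure_induction with
    | mem a ha => exact hq a ha
    | one => exact ⟨0, by simp⟩
    | mul a b ha hb iha ihb =>
      obtain ⟨k, hk⟩ := iha
      obtain ⟨l, hl⟩ := ihb
      refine ⟨k + l, ?_⟩
      have hc : Commute a b := hcomm a ha b hb
      rw [hc.mul_pow, pow_add]
      have h1 : a ^ (q ^ k * q ^ l) = 1 := by rw [pow_mul, hk, one_pow]
      have h2 : b ^ (q ^ k * q ^ l) = 1 := by rw [mul_comm, pow_mul, hl, one_pow]
      rw [h1, h2, one_mul]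
    | inv a ha iha =>
      obtain ⟨k, hk⟩ := iha
      exact ⟨k, by rw [inv_pow, hk, inv_one]⟩
  intro y
  obtain ⟨k, hk⟩ := key y.1 y.2
  exact ⟨k, Subtype.ext (by simpa using hk)⟩

theorem map_mem_pCore_quot {q r : ℕ} [Fact q.Prime] [Fact r.Prime] (N : Subgroup G) [N.Normal]
    (hN : pCore r G ≤ N) {x : G} (hx : QElt q x) {a : ℕ} (hi : ind x = r ^ a) :
    QuotientGroup.mk' N x ∈ pCore q (G ⧸ N) := by
  set π := QuotientGroup.mk' N with hπ
  set S : Set (G ⧸ N) := {z | ∃ g : G, z = π (g * x * g⁻¹)} with hSdef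
  have hScomm : ∀ a ∈ S, ∀ b ∈ S, a * b = b * a := by
    rintro _ ⟨g, rfl⟩ _ ⟨h, rfl⟩
    have h1 := Cfsg.Agent.S4364.result r x ⟨a, hi⟩ g h
    have h2 : (g * x * g⁻¹) * (h * x * h⁻¹) * (g * x * g⁻¹)⁻¹ * (h * x * h⁻¹)⁻¹ ∈ N := hN h1
    have h3 : π ((g * x * g⁻¹) * (h * x * h⁻¹) * (g * x * g⁻¹)⁻¹ * (h * x * h⁻¹)⁻¹) = 1 :=
      (QuotientGroup.eq_one_iff _).mpr h2
    simp only [map_mul, map_inv] at h3 ⊢
    have h4 := congrArg (fun t => t * (π h * π x * (π h)⁻¹) * (π g * π x * (π g)⁻¹)) h3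
    simp only [one_mul] at h4
    rw [← h4]
    group
  have hSq : ∀ a ∈ S, ∃ k : ℕ, a ^ q ^ k = 1 := by
    rintro _ ⟨g, rfl⟩
    obtain ⟨k, hk⟩ := qelt_map π (qelt_conj hx g)
    exact ⟨k, by rw [← hk]; exact pow_orderOf_eq_one _⟩
  have hP : IsPGroup q (Subgroup.closure S) := h1_qb_closure_pgroup S hScomm hSq
  have hnorm : (Subgroup.closure S).Normal := by
    refine ⟨fun n hn z => ?_⟩
    induction hn using Subgroup.closure_induction with
    | mem a ha =>
      obtain ⟨g, rfl⟩ := ha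
      obtain ⟨g', rfl⟩ := QuotientGroup.mk'_surjective N z
      apply Subgroup.subset_closure
      refine ⟨g' * g, ?_⟩
      simp only [hπ, map_mul, map_inv]
      group
    | one => simp
    | mul a b _ _ iha ihb =>
      have : z * (a * b) * z⁻¹ = (z * a * z⁻¹) * (z * b * z⁻¹) := by group
      rw [this]; exact Subgroup.mul_mem _ iha ihb
    | inv a _ iha =>
      have : z * a⁻¹ * z⁻¹ = (z * a * z⁻¹)⁻¹ := by group
      rw [this]; exact Subgroup.inv_mem _ iha
  have hle : Subgroup.closure S ≤ pCore q (G ⧸ N) := Cfsg.Agent.Lib.Helper2.le_pCore hP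
  apply hle
  apply Subgroup.subset_closure
  exact ⟨1, by simp⟩

theorem mem_Lq_of_ind_r {q r : ℕ} [Fact q.Prime] [Fact r.Prime] (hrq : r ≠ q) {x : G} (hx : QElt q x)
    {a : ℕ} (hi : ind x = r ^ a) : x ∈ Lq q G := by
  unfold Lq
  rw [Subgroup.mem_comap]
  exact map_mem_pCore_quot (pPrimeCore q G) (Cfsg.Agent.Lib.Helper1.pCore_le_pPrimeCore hrq) hx hi

theorem mem_Mpq {p q : ℕ} [Fact p.Prime] [Fact q.Prime] {x : G} (hx : QElt q x)
    {a : ℕ} (hi : ind x = p ^ a) : x ∈ Mpq p q G := by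
  unfold Mpq
  rw [Subgroup.mem_comap]
  exact map_mem_pCore_quot (pCore p G) le_rfl hx hi

end Cfsg.Agent.Lib.Helper1.QB
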