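import Cfsg.Agent.Lib.Helper1.QBA1
import Cfsg.Agent.Lib.Helper2.QBB1
import Cfsg.Agent.Lib.Helper2.QBB2
import Cfsg.Agent.Lib.Helper7.QBB3
import Cfsg.Agent.Lib.Helper7.QBB5
import Cfsg.Agent.Lib.Helper4.QBB6

/-! S4125 GT piece B7: one prime serves all `q`-elements. -/

set_option autoImplicit false

namespace Cfsg.Agent.Lib.Helper1.QB

open Cfsg

variable {G : Type*} [Group G] [Finite G]

theorem two_primes_contra {q p1 p2 : ℕ} [Fact q.Prime] [Fact p1.Prime] [Fact p2.Prime] (hB : Baer q G)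
    (h12 : p1 ≠ p2) {x y : G} (hx : QElt q x) (hy : QElt q y) {a b : ℕ}
    (hix : ind x = p1 ^ a) (hiy : ind y = p2 ^ b) (ha : ind x ≠ 1) (hb : ind y ≠ 1) : False := by
  obtain ⟨g, hg⟩ := exists_conj_commute hB h12 hx hy hix hiy
  -- replace x by its conjugate
  set x' := g * x * g⁻¹ with hx'def
  have hx' : QElt q x' := qelt_conj hx g
  have hix' : ind x' = p1 ^ a := by rw [hx'def, ind_conj]; exact hix
  have ha' : ind x' ≠ 1 := by rw [hix', ← hix]; exact ha
  have hall := conj_commute_all h12 hg hix' hiy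
  have hp1 : p1.Prime := Fact.out
  have hp2 : p2.Prime := Fact.out
  have hcop : (ind x').Coprime (ind y) := by
    rw [hix', hiy]
    exact Nat.Coprime.pow _ _ ((Nat.coprime_primes hp1 hp2).mpr h12)
  rcases class_mul_cases hB h12 hx' hy hg hix' hiy ha' hb with hI | hII
  · have h1q : p1 = q := caseI_p1_eq_q hy hg hcop hix' hall hI hb
    subst h1q
    have h2q : p2 ≠ p1 := fun h => h12 h.symm
    exact hb (caseI_q_contra hB h2q hx' hy hg hix' hiy hall hI)
  · -- swap the roles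
    have hg' : Commute y x' := hg.symm
    have hall' : ∀ g h : G, Commute (g * y * g⁻¹) (h * x' * h⁻¹) := fun g h => (hall h g).symm
    have hI' : ∀ h : G, ∃ g : G, h * (y * x') * h⁻¹ = (g * y * g⁻¹) * x' := by
      intro h
      obtain ⟨g1, hg1⟩ := hII h
      refine ⟨g1, ?_⟩
      rw [← hg.eq, hg1]
      have := hall 1 g1
      simp only [one_mul, inv_one, mul_one] at this
      exact this.eq
    have h2q : p2 = q := caseI_p1_eq_q hx' hg' hcop.symm hiy hall' hI' ha'
    subst h2q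
    exact ha' (caseI_q_contra hB h12 hy hx' hg' hiy hix' hall' hI')

theorem unique_prime {q : ℕ} [Fact q.Prime] (hB : Baer q G) :
    ∃ p : ℕ, p.Prime ∧ ∀ x : G, QElt q x → ∃ a : ℕ, ind x = p ^ a := by
  have hq : q.Prime := Fact.out
  by_cases hall : ∀ x : G, QElt q x → ind x = 1
  · exact ⟨q, hq, fun x hx => ⟨0, by rw [hall x hx, pow_zero]⟩⟩
  · obtain ⟨x0, hx0'⟩ := not_forall.mp hall
    obtain ⟨hx0, h0⟩ := Classical.not_imp.mp hx0'
    obtain ⟨p, a0, hp, ha0⟩ := hB x0 hx0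
    refine ⟨p, hp, ?_⟩
    intro y hy
    by_cases hy1 : ind y = 1
    · exact ⟨0, by rw [hy1, pow_zero]⟩
    · obtain ⟨r, b, hr, hb⟩ := hB y hy
      by_cases hrp : p = r
      · subst hrp; exact ⟨b, hb⟩
      · exfalso
        have : Fact p.Prime := ⟨hp⟩
        have : Fact r.Prime := ⟨hr⟩
        exact two_primes_contra hB hrp hx0 hy ha0 hb h0 hy1

end Cfsg.Agent.Lib.Helper1.QB
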