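import Cfsg.Agent.Lib.Helper1.QBA1
import Cfsg.Agent.Lib.Helper4.QBA2
import Cfsg.Agent.Lib.Helper9.QBC0
import Cfsg.Agent.Lib.Helper2.Cores

/-! S4125 GT piece C1 (Part III): if every `q`-element has `q`-power class size then a Sylow
`q`-subgroup is a direct factor. -/

set_option autoImplicit false

namespace Cfsg.Agent.Lib.Helper1.QB

open Cfsg

variable {G : Type*} [Group G] [Finite G]

theorem partIII {q : ℕ} [Fact q.Prime] (hall : ∀ x : G, QElt q x → ∃ a : ℕ, ind x = q ^ a) (Q : Sylow q G) :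
    (Q : Subgroup G).Normal ∧ ∃ N : Subgroup G, N.Normal ∧ N.IsComplement' (Q : Subgroup G) := by
  -- Q = pCore q G
  have hle : (Q : Subgroup G) ≤ pCore q G := by
    intro x hx
    have hxq : QElt q x := qelt_of_mem_pgroup (Q : Subgroup G) Q.isPGroup' hx
    obtain ⟨a, ha⟩ := hall x hxq
    exact mem_pCore_of_ind_q hxq ha
  have heq : (Q : Subgroup G) = pCore q G :=
    (Q.is_maximal' (Cfsg.Agent.Lib.Helper2.pCore_isPGroup q) hle).symm
  have hQn : (Q : Subgroup G).Normal := by rw [heq]; infer_instance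
  refine ⟨hQn, ?_⟩
  have := hQn
  have hcopi : (Nat.card (Q : Subgroup G)).Coprime (Q : Subgroup G).index := Q.card_coprime_index
  obtain ⟨H, hc⟩ := Subgroup.exists_right_complement'_of_coprime hcopi
  have hHcard : Nat.card H = (Q : Subgroup G).index := hc.symm.index_eq_card.symm
  have hcop : (Nat.card (Q : Subgroup G)).Coprime (Nat.card H) := by rw [hHcard]; exact hcopi
  have hT : (Q : Subgroup G) ⊓ Subgroup.centralizer (H : Set G) = (Q : Subgroup G) := by
    apply cover_lemma (Q : Subgroup G) H _ Q.isPGroup' hc hcop inf_le_left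
    · intro c hcQ hch
      refine ⟨hcQ, ?_⟩
      show c ∈ Subgroup.centralizer (H : Set G)
      rw [Subgroup.mem_centralizer_iff]
      intro h hh
      exact hch h hh
    · intro z hz
      left
      exact hall z (qelt_of_mem_pgroup (Q : Subgroup G) Q.isPGroup' hz)
  have hcent : ∀ a ∈ (Q : Subgroup G), ∀ h ∈ H, h * a = a * h := by
    intro a ha h hh
    have : a ∈ (Q : Subgroup G) ⊓ Subgroup.centralizer (H : Set G) := by rw [hT]; exact ha
    exact (Subgroup.mem_centralizer_iff.mp this.2) h hh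
  have hHn : H.Normal := by
    refine ⟨fun n hn g => ?_⟩
    obtain ⟨⟨⟨a, ha⟩, ⟨h', hh'⟩⟩, hah⟩ := hc.2 g
    simp only at hah
    have hg : g = a * h' := hah.symm
    have hn' : h' * n * h'⁻¹ ∈ H := H.mul_mem (H.mul_mem hh' hn) (H.inv_mem hh')
    have h1 := hcent a ha (h' * n * h'⁻¹) hn'
    have : g * n * g⁻¹ = h' * n * h'⁻¹ := by
      rw [hg]
      calc a * h' * n * (a * h')⁻¹ = a * (h' * n * h'⁻¹) * a⁻¹ := by group
        _ = (h' * n * h'⁻¹) * a * a⁻¹ := by rw [← h1]
        _ = h' * n * h'⁻¹ := by group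
    rw [this]; exact hn'
  exact ⟨H, hHn, hc.symm⟩

end Cfsg.Agent.Lib.Helper1.QB
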