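import Mathlib
import Cfsg.Prelude.Def_Solvable
import Cfsg.Prelude.Def_CaseTheorems

/-! S4125 (q-Baer groups), group-theory half (GT): shared definitions.
`ind x` = index of the centralizer (class size), `QElt q x` = `x` has `q`-power order,
`Baer q G` = the hypothesis of S4125, `Lq q G` = preimage of `O_q(G/O_{q'}(G))`. -/

set_option autoImplicit false

namespace Cfsg.Agent.Lib.Helper1.QB

open Cfsg

/-- class size of `x` (index of its centralizer) -/
noncomputable abbrev ind {G : Type*} [Group G] (x : G) : ℕ :=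
  (Subgroup.centralizer ({x} : Set G)).index

/-- `x` has `q`-power order -/
def QElt {G : Type*} [Group G] (q : ℕ) (x : G) : Prop := ∃ k : ℕ, orderOf x = q ^ k

/-- the `q`-Baer hypothesis: every `q`-element has prime-power class size -/
def Baer (q : ℕ) (G : Type*) [Group G] : Prop :=
  ∀ x : G, QElt q x → ∃ (r : ℕ) (a : ℕ), r.Prime ∧ ind x = r ^ a

/-- the preimage in `G` of `O_q(G/O_{q'}(G))` -/
noncomputable def Lq (q : ℕ) (G : Type*) [Group G] : Subgroup G :=
  (pCore q (G ⧸ pPrimeCore q G)).comap (QuotientGroup.mk' (pPrimeCore q G))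

/-- the preimage in `G` of `O_q(G/O_p(G))` -/
noncomputable def Mpq (p q : ℕ) (G : Type*) [Group G] : Subgroup G :=
  (pCore q (G ⧸ pCore p G)).comap (QuotientGroup.mk' (pCore p G))

end Cfsg.Agent.Lib.Helper1.QB
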