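import Cfsg.Agent.Lib.Helper2.QBA4
import Cfsg.Agent.Lib.Helper1.QBB7
import Cfsg.Agent.Lib.Helper1.QBC1
import Cfsg.Agent.Lib.Helper8.QBD1
import Cfsg.Agent.Lib.Helper4.QBE3

set_option autoImplicit false
universe u

namespace Cfsg.Agent.Lib.Helper1.QB

open Cfsg

/-- S4125, group-theory half: the full conclusion of the template, assuming the linear theorem MS
(a `q'`-group acting faithfully on a finite abelian `q`-group with all orbits of `p`-power size is solvable). -/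
theorem gt_main {G : Type u} [Group G] [Finite G] (q : ℕ) [Fact q.Prime]
    (hBaer : ∀ x : G, (∃ k : ℕ, orderOf x = q ^ k) → ∃ (r : ℕ) (a : ℕ), r.Prime ∧
      (Subgroup.centralizer ({x} : Set G)).index = r ^ a) (Q : Sylow q G)
    (hMS : ∀ (p : ℕ), p.Prime → ∀ (H' : Type u) [Group H'] [Finite H'] (V : Type u) [AddCommGroup V] [Finite V]
      [DistribMulAction H' V],
      (∃ n : ℕ, Nat.card V = q ^ n) → (Nat.card H').Coprime q →
      (∀ h : H', (∀ v : V, h • v = v) → h = 1) →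
      (∀ v : V, ∃ a : ℕ, (MulAction.stabilizer H' v).index = p ^ a) → Group.IsSolvable H') :
    (∃ K L : Subgroup G, K.Normal ∧ L.Normal ∧ K ≤ L ∧ (Nat.card K).Coprime q ∧
      (∃ m : ℕ, K.relIndex L = q ^ m) ∧ L.index.Coprime q) ∧
    ∃ p : ℕ, p.Prime ∧ (∀ x : G, (∃ k : ℕ, orderOf x = q ^ k) → ∃ a : ℕ,
        (Subgroup.centralizer ({x} : Set G)).index = p ^ a) ∧
      (p = q → (Q : Subgroup G).Normal ∧ ∃ N : Subgroup G, N.Normal ∧ N.IsComplement' (Q : Subgroup G)) ∧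
      (p ≠ q → IsMulCommutative (Q : Subgroup G) ∧ (Cfsg.pCore p G ⊔ (Q : Subgroup G)).Normal ∧
        ∀ _h : (Cfsg.pPrimeCore q G).Normal, Group.IsSolvable (G ⧸ Cfsg.pPrimeCore q G)) := by
  have hB : Baer q G := hBaer
  obtain ⟨h1, h2, h3, h4, h5⟩ := partI hB
  refine ⟨⟨pPrimeCore q G, Lq q G, inferInstance, h1, h2, h3, h4, h5⟩, ?_⟩
  obtain ⟨p, hp, hall⟩ := unique_prime hB
  have : Fact p.Prime := ⟨hp⟩
  refine ⟨p, hp, hall, ?_, ?_⟩
  · intro hpq
    subst hpq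
    exact partIII hall Q
  · intro hpq
    refine ⟨⟨⟨fun a b => Subtype.ext (partIV_abelian hpq hall Q a.1 a.2 b.1 b.2)⟩⟩,
      partIV_normal hpq hall Q, ?_⟩
    intro _h
    exact partV hpq hall (hMS p hp)

end Cfsg.Agent.Lib.Helper1.QB
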