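import Mathlib
import Cfsg.Agent.Lib.Helper1.QF1
universe u
set_option autoImplicit false
open Matrix
namespace Cfsg.Agent.Lib.Helper1.QdF

variable {F : Type u} [Field F]

/-- the affine matrix with linear part `A` and translation part `v` -/
def affMat (A : Matrix (Fin 2) (Fin 2) F) (v : Fin 2 → F) :
    Matrix (Fin 3) (Fin 3) F :=
  !![A 0 0, A 0 1, v 0; A 1 0, A 1 1, v 1; 0, 0, 1]

theorem det_affMat (A : Matrix (Fin 2) (Fin 2) F) (v : Fin 2 → F) :
    (affMat A v).det = A.det := by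
  rw [Matrix.det_fin_three, Matrix.det_fin_two]
  simp [affMat]

theorem affMat_mul (A B : Matrix (Fin 2) (Fin 2) F) (v u : Fin 2 → F) :
    affMat A v * affMat B u = affMat (A * B) (v + A *ᵥ u) := by
  ext i j
  fin_cases i <;> fin_cases j <;>
    simp [affMat, Matrix.mul_apply, Fin.sum_univ_three, Fin.sum_univ_two] <;> ring

theorem affMat_one : affMat (1 : Matrix (Fin 2) (Fin 2) F) 0 = 1 := by
  ext i j
  fin_cases i <;> fin_cases j <;> simp [affMat]

theorem affMat_injective {A B : Matrix (Fin 2) (Fin 2) F} {v u : Fin 2 → F}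
    (h : affMat A v = affMat B u) : A = B ∧ v = u := by
  constructor
  · ext i j
    fin_cases i <;> fin_cases j
    · simpa [affMat] using congrFun (congrFun h 0) 0
    · simpa [affMat] using congrFun (congrFun h 0) 1
    · simpa [affMat] using congrFun (congrFun h 1) 0
    · simpa [affMat] using congrFun (congrFun h 1) 1
  · ext i
    fin_cases i
    · simpa [affMat] using congrFun (congrFun h 0) 2
    · simpa [affMat] using congrFun (congrFun h 1) 2

/-- elements of `Qd(p)` from a linear part and a translation part -/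
def qdMk (A : Matrix.SpecialLinearGroup (Fin 2) F) (v : Fin 2 → F) : ↥(Cfsg.qdOver F) :=
  ⟨(⟨affMat (A : Matrix (Fin 2) (Fin 2) F) v, by rw [det_affMat]; exact A.2⟩ :
      Matrix.SpecialLinearGroup (Fin 3) F),
    (mem_qd_iff _).mpr (by refine ⟨?_, ?_, ?_⟩ <;> simp [affMat])⟩

theorem qdMk_coe (A : Matrix.SpecialLinearGroup (Fin 2) F) (v : Fin 2 → F) :
    (((qdMk A v : ↥(Cfsg.qdOver F)) : Matrix.SpecialLinearGroup (Fin 3) F) :
      Matrix (Fin 3) (Fin 3) F) = affMat (A : Matrix (Fin 2) (Fin 2) F) v := rfl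

theorem qdMk_mul (A B : Matrix.SpecialLinearGroup (Fin 2) F) (v u : Fin 2 → F) :
    qdMk A v * qdMk B u = qdMk (A * B) (v + (A : Matrix (Fin 2) (Fin 2) F) *ᵥ u) := by
  apply Subtype.ext
  apply Subtype.ext
  rw [Subgroup.coe_mul, Matrix.SpecialLinearGroup.coe_mul, qdMk_coe, qdMk_coe, qdMk_coe,
    affMat_mul, Matrix.SpecialLinearGroup.coe_mul]

theorem qdMk_one : qdMk (1 : Matrix.SpecialLinearGroup (Fin 2) F) 0 = 1 := by
  apply Subtype.ext
  apply Subtype.ext
  rw [qdMk_coe, Matrix.SpecialLinearGroup.coe_one, affMat_one]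
  rfl

theorem qdMk_injective {A B : Matrix.SpecialLinearGroup (Fin 2) F} {v u : Fin 2 → F}
    (h : qdMk A v = qdMk B u) : A = B ∧ v = u := by
  have h1 := congrArg (fun M : ↥(Cfsg.qdOver F) =>
    ((M : Matrix.SpecialLinearGroup (Fin 3) F) : Matrix (Fin 3) (Fin 3) F)) h
  simp only [qdMk_coe] at h1
  obtain ⟨h2, h3⟩ := affMat_injective h1
  exact ⟨Subtype.ext h2, h3⟩

theorem exists_eq_qdMk (M : ↥(Cfsg.qdOver F)) :
    ∃ (A : Matrix.SpecialLinearGroup (Fin 2) F) (v : Fin 2 → F), M = qdMk A v := by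
  obtain ⟨⟨M, hdet⟩, hM⟩ := M
  obtain ⟨h0, h1, h2⟩ := (mem_qd_iff (⟨M, hdet⟩ : Matrix.SpecialLinearGroup (Fin 3) F)).mp hM
  change M 2 0 = 0 at h0
  change M 2 1 = 0 at h1
  change M 2 2 = 1 at h2
  have hM' : M = affMat !![M 0 0, M 0 1; M 1 0, M 1 1] ![M 0 2, M 1 2] := by
    ext i j
    fin_cases i <;> fin_cases j <;> simp [affMat, h0, h1, h2]
  have hdet' : (!![M 0 0, M 0 1; M 1 0, M 1 1] : Matrix (Fin 2) (Fin 2) F).det = 1 := by
    rw [← det_affMat _ ![M 0 2, M 1 2], ← hM']; exact hdet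
  refine ⟨⟨_, hdet'⟩, ![M 0 2, M 1 2], ?_⟩
  apply Subtype.ext
  apply Subtype.ext
  exact hM'

end Cfsg.Agent.Lib.Helper1.QdF
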