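import Mathlib
import Cfsg.Agent.Lib.Helper1.QF3
import Cfsg.Agent.Lib.Helper1.QdB1
set_option autoImplicit false
open Matrix
open scoped commutatorElement
universe u
namespace Cfsg.Agent.Lib.Helper1.QdF

variable {F : Type u} [Field F]

theorem act_injective : Function.Injective (act (F := F)) := by
  intro A B h
  apply Subtype.ext
  ext i j
  have h1 := congrArg (fun f : MulAut (Pl F) =>
    Multiplicative.toAdd (f (Multiplicative.ofAdd (Pi.single j 1))) i) h
  simpa [act_apply] using h1

theorem linPart_aux (M : ↥(Cfsg.qdOver F)) (A : Matrix.SpecialLinearGroup (Fin 2) F)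
    (v : Fin 2 → F) (h : M = qdMk A v) : Classical.choose (exists_eq_qdMk M) = A := by
  obtain ⟨u, hu⟩ := Classical.choose_spec (exists_eq_qdMk M)
  have h1 : qdMk A v = qdMk (Classical.choose (exists_eq_qdMk M)) u := h.symm.trans hu
  exact (qdMk_injective h1).1.symm

/-- the linear part of an element of `Qd(F)` -/
noncomputable def linPart : ↥(Cfsg.qdOver F) →* Matrix.SpecialLinearGroup (Fin 2) F where
  toFun M := Classical.choose (exists_eq_qdMk M)
  map_one' := linPart_aux 1 1 0 qdMk_one.symm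
  map_mul' := by
    intro M N
    obtain ⟨A, v, rfl⟩ := exists_eq_qdMk M
    obtain ⟨B, u, rfl⟩ := exists_eq_qdMk N
    rw [linPart_aux _ A v rfl, linPart_aux _ B u rfl]
    exact linPart_aux _ (A * B) _ (qdMk_mul A B v u)

theorem linPart_qdMk (A : Matrix.SpecialLinearGroup (Fin 2) F) (v : Fin 2 → F) :
    linPart (qdMk A v) = A := linPart_aux _ A v rfl

theorem linPart_trans (v : Pl F) : linPart (trans v) = 1 := linPart_qdMk 1 _

theorem linPart_lin (A : Matrix.SpecialLinearGroup (Fin 2) F) : linPart (lin A) = A :=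
  linPart_qdMk A 0

theorem linPart_surjective : Function.Surjective (linPart (F := F)) :=
  fun A => ⟨lin A, linPart_lin A⟩

theorem linPart_eq_one_iff (M : ↥(Cfsg.qdOver F)) : linPart M = 1 ↔ M ∈ (trans (F := F)).range := by
  constructor
  · intro h
    obtain ⟨A, v, rfl⟩ := exists_eq_qdMk M
    rw [linPart_qdMk] at h
    subst h
    exact ⟨Multiplicative.ofAdd v, rfl⟩
  · rintro ⟨v, rfl⟩
    exact linPart_trans v

theorem ker_linPart : (linPart (F := F)).ker = (trans (F := F)).range := by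
  ext M
  rw [MonoidHom.mem_ker, linPart_eq_one_iff]

instance trans_range_normal : ((trans (F := F)).range).Normal := by
  rw [← ker_linPart]; infer_instance

theorem pl_pow_p {p : ℕ} [CharP F p] (v : Pl F) : v ^ p = 1 := by
  apply Multiplicative.toAdd.injective
  rw [toAdd_pow, toAdd_one]
  ext i
  simp

theorem isPGroup_trans_range {p : ℕ} [CharP F p] : IsPGroup p (trans (F := F)).range := by
  rintro ⟨_, v, rfl⟩
  refine ⟨1, ?_⟩
  apply Subtype.ext
  rw [pow_one, Subgroup.coe_pow, Subgroup.coe_one, ← map_pow, pl_pow_p, map_one]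

theorem normal_pgroup_le_trans_range {p : ℕ} [hp : Fact p.Prime] [CharP F p]
    (N : Subgroup ↥(Cfsg.qdOver F)) [hN : N.Normal]
    (hNp : IsPGroup p N) : N ≤ (trans (F := F)).range := by
  have : (N.map (linPart (F := F))).Normal := hN.map _ linPart_surjective
  have h1 : N.map (linPart (F := F)) = ⊥ :=
    Cfsg.Agent.Lib.Helper1.QdB.normal_pgroup_SL2_eq_bot (p := p) _ (hNp.map _)
  intro g hg
  rw [← linPart_eq_one_iff]
  have : linPart g ∈ N.map (linPart (F := F)) := ⟨g, hg, rfl⟩
  rw [h1, Subgroup.mem_bot] at this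
  exact this

theorem pCore_eq {p : ℕ} [hp : Fact p.Prime] [CharP F p] :
    Cfsg.pCore p ↥(Cfsg.qdOver F) = (trans (F := F)).range := by
  apply le_antisymm
  · apply sSup_le
    rintro N ⟨hN, hNp⟩
    exact normal_pgroup_le_trans_range N hNp
  · apply le_sSup
    exact ⟨trans_range_normal, isPGroup_trans_range⟩

theorem mem_trans_range_iff (M : ↥(Cfsg.qdOver F)) : M ∈ (trans (F := F)).range ↔
    ((M : Matrix.SpecialLinearGroup (Fin 3) F) : Matrix (Fin 3) (Fin 3) F) 0 0 = 1 ∧
    ((M : Matrix.SpecialLinearGroup (Fin 3) F) : Matrix (Fin 3) (Fin 3) F) 0 1 = 0 ∧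
    ((M : Matrix.SpecialLinearGroup (Fin 3) F) : Matrix (Fin 3) (Fin 3) F) 1 0 = 0 ∧
    ((M : Matrix.SpecialLinearGroup (Fin 3) F) : Matrix (Fin 3) (Fin 3) F) 1 1 = 1 := by
  constructor
  · rintro ⟨v, rfl⟩
    have e : (((trans v : ↥(Cfsg.qdOver F)) : Matrix.SpecialLinearGroup (Fin 3) F) :
        Matrix (Fin 3) (Fin 3) F) = affMat ((1 : Matrix.SpecialLinearGroup (Fin 2) F) :
          Matrix (Fin 2) (Fin 2) F) (Multiplicative.toAdd v) := rfl
    rw [e]
    simp [affMat]
  · obtain ⟨A, v, rfl⟩ := exists_eq_qdMk M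
    rw [qdMk_coe]
    intro h
    simp only [affMat, Matrix.of_apply, Matrix.cons_val', Matrix.cons_val_zero, Matrix.cons_val_one,
      Matrix.cons_val_fin_one] at h
    have hA : A = 1 := by
      apply Subtype.ext
      ext i j
      fin_cases i <;> fin_cases j
      · simpa using h.1
      · simpa using h.2.1
      · simpa using h.2.2.1
      · simpa using h.2.2.2
    subst hA
    exact ⟨Multiplicative.ofAdd v, rfl⟩

theorem mem_lin_range_iff (M : ↥(Cfsg.qdOver F)) : M ∈ (lin (F := F)).range ↔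
    ((M : Matrix.SpecialLinearGroup (Fin 3) F) : Matrix (Fin 3) (Fin 3) F) 0 2 = 0 ∧
    ((M : Matrix.SpecialLinearGroup (Fin 3) F) : Matrix (Fin 3) (Fin 3) F) 1 2 = 0 := by
  constructor
  · rintro ⟨A, rfl⟩
    have e : (((lin A : ↥(Cfsg.qdOver F)) : Matrix.SpecialLinearGroup (Fin 3) F) :
        Matrix (Fin 3) (Fin 3) F) = affMat (A : Matrix (Fin 2) (Fin 2) F) 0 := rfl
    rw [e]
    simp [affMat]
  · obtain ⟨A, v, rfl⟩ := exists_eq_qdMk M
    rw [qdMk_coe]
    intro h
    simp only [affMat, Matrix.of_apply, Matrix.cons_val', Matrix.cons_val_zero, Matrix.cons_val_one,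
      Matrix.cons_val_fin_one] at h
    have hv : v = 0 := by
      ext i
      fin_cases i
      · simpa using h.1
      · simpa using h.2
    subst hv
    exact ⟨A, rfl⟩

end Cfsg.Agent.Lib.Helper1.QdF
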