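import Mathlib
import Cfsg.Agent.Lib.Helper1.QF4
set_option autoImplicit false
open Matrix
universe u
namespace Cfsg.Agent.Lib.Helper1.QdF

variable {F : Type u} [Field F]

/-- the plane as the translation subgroup -/
noncomputable def transEquiv : Pl F ≃* (trans (F := F)).range :=
  MonoidHom.ofInjective trans_injective

theorem transEquiv_apply (v : Pl F) : ((transEquiv v : (trans (F := F)).range) : ↥(Cfsg.qdOver F)) = trans v :=
  rfl

/-- coordinates on the translation subgroup -/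
noncomputable def psi : Additive ↥((trans (F := F)).range) ≃+ (Fin 2 → F) :=
  (MulEquiv.toAdditive (transEquiv (F := F)).symm).trans (AddEquiv.additiveMultiplicative _)

theorem psi_apply (v : Pl F) :
    psi (Additive.ofMul (⟨trans v, ⟨v, rfl⟩⟩ : (trans (F := F)).range)) = Multiplicative.toAdd v := by
  have : (⟨trans v, ⟨v, rfl⟩⟩ : (trans (F := F)).range) = transEquiv v := rfl
  rw [this]
  show Multiplicative.toAdd ((transEquiv (F := F)).symm (transEquiv v)) = _
  rw [MulEquiv.symm_apply_apply]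

theorem lin_mem_centralizer_iff (A : Matrix.SpecialLinearGroup (Fin 2) F) :
    lin A ∈ Subgroup.centralizer (((trans (F := F)).range : Subgroup ↥(Cfsg.qdOver F)) : Set ↥(Cfsg.qdOver F))
      ↔ A = 1 := by
  constructor
  · intro h
    apply act_injective
    apply MulEquiv.ext
    intro v
    have h1 := h (trans v) ⟨v, rfl⟩
    rw [lin_mul_trans] at h1
    have h2 := trans_injective (mul_right_cancel h1)
    rw [map_one, MulAut.one_apply]
    exact h2.symm
  · rintro rfl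
    rw [map_one]
    exact Subgroup.one_mem _

theorem natural_module :
    Cfsg.IsNaturalSL2Module F ((trans (F := F)).range) ((lin (F := F)).range) := by
  refine ⟨?_, linPart.comp ((lin (F := F)).range).subtype, psi, ?_, ?_, ?_⟩
  · intro x _
    rw [Subgroup.mem_normalizer_iff]
    intro h
    constructor
    · intro hh
      exact trans_range_normal.conj_mem h hh x
    · intro hh
      have := trans_range_normal.conj_mem _ hh x⁻¹
      have e : x⁻¹ * (x * h * x⁻¹) * x⁻¹⁻¹ = h := by group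
      rwa [e] at this
  · intro A
    exact ⟨⟨lin A, ⟨A, rfl⟩⟩, linPart_lin A⟩
  · ext x
    obtain ⟨_, A, rfl⟩ := x
    rw [MonoidHom.mem_ker, Subgroup.mem_subgroupOf]
    show linPart (lin A) = 1 ↔ lin A ∈ _
    rw [linPart_lin, lin_mem_centralizer_iff]
  · rintro ⟨_, A, rfl⟩ ⟨_, u, rfl⟩
    refine ⟨⟨trans (act A u), ⟨_, rfl⟩⟩, ?_, ?_⟩
    · show trans (act A u) = lin A * trans u * (lin A)⁻¹
      rw [lin_trans_conj]
    · rw [psi_apply, psi_apply]
      show _ = ((linPart (lin A) : Matrix.SpecialLinearGroup (Fin 2) F) : Matrix (Fin 2) (Fin 2) F).mulVec _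
      rw [linPart_lin, act_apply, toAdd_ofAdd]

theorem s2762 [Fintype F] {p : ℕ} [Fact p.Prime] [CharP F p] :
    (∀ M : ↥(Cfsg.qdOver F), M ∈ Cfsg.pCore p ↥(Cfsg.qdOver F) ↔
      ((M : Matrix.SpecialLinearGroup (Fin 3) F) : Matrix (Fin 3) (Fin 3) F) 0 0 = 1 ∧
      ((M : Matrix.SpecialLinearGroup (Fin 3) F) : Matrix (Fin 3) (Fin 3) F) 0 1 = 0 ∧
      ((M : Matrix.SpecialLinearGroup (Fin 3) F) : Matrix (Fin 3) (Fin 3) F) 1 0 = 0 ∧
      ((M : Matrix.SpecialLinearGroup (Fin 3) F) : Matrix (Fin 3) (Fin 3) F) 1 1 = 1) ∧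
    ∃ K : Subgroup ↥(Cfsg.qdOver F),
      (∀ M : ↥(Cfsg.qdOver F), M ∈ K ↔
        ((M : Matrix.SpecialLinearGroup (Fin 3) F) : Matrix (Fin 3) (Fin 3) F) 0 2 = 0 ∧
        ((M : Matrix.SpecialLinearGroup (Fin 3) F) : Matrix (Fin 3) (Fin 3) F) 1 2 = 0) ∧
      K ⊓ Cfsg.pCore p ↥(Cfsg.qdOver F) = ⊥ ∧ K ⊔ Cfsg.pCore p ↥(Cfsg.qdOver F) = ⊤ ∧
      Nonempty (↥K ≃* Matrix.SpecialLinearGroup (Fin 2) F) ∧
      Cfsg.IsNaturalSL2Module F (Cfsg.pCore p ↥(Cfsg.qdOver F)) K := by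
  rw [pCore_eq (p := p)]
  refine ⟨mem_trans_range_iff, (lin (F := F)).range, mem_lin_range_iff, ?_, ?_, ?_, natural_module⟩
  · rw [eq_bot_iff]
    rintro M ⟨⟨A, rfl⟩, ⟨v, hv⟩⟩
    have h1 := (linPart_eq_one_iff (lin A)).mpr ⟨v, hv⟩
    rw [linPart_lin] at h1
    rw [h1, map_one]
    exact Subgroup.mem_bot.mpr rfl
  · rw [eq_top_iff]
    intro M _
    obtain ⟨v, A, rfl⟩ := exists_eq_trans_mul_lin M
    rw [sup_comm]
    exact Subgroup.mul_mem_sup ⟨v, rfl⟩ ⟨A, rfl⟩
  · exact ⟨(MonoidHom.ofInjective lin_injective).symm⟩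

end Cfsg.Agent.Lib.Helper1.QdF
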