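import Mathlib
import Cfsg.Agent.Lib.Helper1.QuadSL2g
set_option autoImplicit false
open Polynomial
universe u v w w'
namespace Cfsg.Agent.Lib.Helper1.QuadSL2

variable {K : Type u} [Field K] {W : Type v} [AddCommGroup W] [Module K W]

theorem exists_sl2_of_finrank_two_ker {p : ℕ} [hp : Fact p.Prime] [CharP K p] {Γ : Type w}
    [Group Γ]
    (x y : Γ) (hgen : Subgroup.closure {x, y} = ⊤) [FiniteDimensional K W]
    (hd : Module.finrank K W = 2) (ρ : Γ →* (W ≃ₗ[K] W)) (hx : Quad (ρ x)) (hy : Quad (ρ y)) :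
    ∃ φ : Γ →* Matrix.SpecialLinearGroup (Fin 2) K, ∀ g : Γ, φ g = 1 → ρ g = 1 := by
  let B : Module.Basis (Fin 2) K W := Module.finBasisOfFinrankEq K W hd
  let D : Γ →* Kˣ := LinearEquiv.det.comp ρ
  have hDx : D x = 1 := by
    apply units_eq_one_of_pow_char (p := p)
    rw [← map_pow]
    change LinearEquiv.det (ρ (x ^ p)) = 1
    rw [map_pow, hx.pow_char p, map_one]
  have hDy : D y = 1 := by
    apply units_eq_one_of_pow_char (p := p)
    rw [← map_pow]
    change LinearEquiv.det (ρ (y ^ p)) = 1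
    rw [map_pow, hy.pow_char p, map_one]
  have hD : ∀ g : Γ, D g = 1 := by
    intro g
    have hle : Subgroup.closure {x, y} ≤ D.ker := by
      rw [Subgroup.closure_le]
      rintro z (rfl | rfl)
      · exact hDx
      · exact hDy
    rw [hgen] at hle
    exact hle (Subgroup.mem_top g)
  have hdet : ∀ g : Γ, (LinearMap.toMatrix B B ((ρ g : W ≃ₗ[K] W) : W →ₗ[K] W)).det = 1 := by
    intro g
    rw [LinearMap.det_toMatrix, ← LinearEquiv.coe_det]
    have := hD g
    change LinearEquiv.det (ρ g) = 1 at this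
    rw [this]; rfl
  let φ : Γ →* Matrix.SpecialLinearGroup (Fin 2) K :=
    { toFun := fun g => ⟨LinearMap.toMatrix B B ((ρ g : W ≃ₗ[K] W) : W →ₗ[K] W), hdet g⟩
      map_one' := by
        apply Subtype.ext
        change LinearMap.toMatrix B B ((ρ 1 : W ≃ₗ[K] W) : W →ₗ[K] W) = 1
        rw [map_one]
        exact LinearMap.toMatrix_id B
      map_mul' := by
        intro g₁ g₂
        apply Subtype.ext
        change LinearMap.toMatrix B B ((ρ (g₁ * g₂) : W ≃ₗ[K] W) : W →ₗ[K] W) =
          LinearMap.toMatrix B B ((ρ g₁ : W ≃ₗ[K] W) : W →ₗ[K] W) *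
          LinearMap.toMatrix B B ((ρ g₂ : W ≃ₗ[K] W) : W →ₗ[K] W)
        rw [map_mul, ← LinearMap.toMatrix_mul]
        rfl }
  refine ⟨φ, ?_⟩
  intro g h1
  have h2 : LinearMap.toMatrix B B ((ρ g : W ≃ₗ[K] W) : W →ₗ[K] W) = 1 :=
    congrArg Subtype.val h1
  rw [← LinearMap.toMatrix_id B] at h2
  have h3 := (LinearMap.toMatrix B B).injective h2
  ext w
  have := congrArg (fun f : W →ₗ[K] W => f w) h3
  simpa using this

/-- transfer of "not a `p`-group" along a kernel inclusion -/
theorem not_isPGroup_range_of_ker {p : ℕ} {Γ : Type w} [Group Γ] {Δ : Type w'} [Group Δ]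
    {T₁ : Type*} [Group T₁] {T₂ : Type*} [Group T₂] (ρ : Γ →* T₁) (φ : Γ →* T₂)
    (h : ∀ g, φ g = 1 → ρ g = 1) (δ : Δ →* Γ) (hnp : ¬ IsPGroup p (ρ.comp δ).range) :
    ¬ IsPGroup p (φ.comp δ).range := by
  intro hφ
  apply hnp
  rintro ⟨_, ⟨d, rfl⟩⟩
  obtain ⟨k, hk⟩ := hφ ⟨_, ⟨d, rfl⟩⟩
  refine ⟨k, ?_⟩
  apply Subtype.ext
  have h1 : φ (δ d ^ p ^ k) = 1 := by
    have := congrArg Subtype.val hk
    simpa using this
  have h2 := h _ h1
  simpa using h2

theorem exists_hom_sl2_aux_track {K : Type u} [Field K] [Fintype K] {p : ℕ} [hp : Fact p.Prime]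
    [CharP K p] {Γ : Type w} [Group Γ] {Δ : Type w'} [Group Δ] (δ : Δ →* Γ)
    (x y : Γ) (hgen : Subgroup.closure {x, y} = ⊤) :
    ∀ (n : ℕ) (W : Type v) [AddCommGroup W] [Module K W] [FiniteDimensional K W],
      Module.finrank K W = n → ∀ ρ : Γ →* (W ≃ₗ[K] W), Quad (ρ x) → Quad (ρ y) →
      (∃ j, ρ ((x * y) ^ (p ^ j * (Fintype.card K - 1))) = 1) →
      ¬ IsPGroup p (ρ.comp δ).range →
      ∃ φ : Γ →* Matrix.SpecialLinearGroup (Fin 2) K, ¬ IsPGroup p (φ.comp δ).range := by
  intro n
  induction n using Nat.strong_induction_on with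
  | _ n ih =>
    intro W _ _ _ hn ρ hx hy hj hnp
    obtain ⟨j, hj⟩ := hj
    have hW : Nontrivial W := by
      by_contra hW
      rw [not_nontrivial_iff_subsingleton] at hW
      apply hnp
      rintro ⟨g, hg⟩
      refine ⟨0, ?_⟩
      apply Subtype.ext
      ext w
      exact Subsingleton.elim _ _
    obtain ⟨μ, v, hv0, hv⟩ := exists_eigenvector_of_pow (p := p)
      ((ρ (x * y) : W ≃ₗ[K] W) : Module.End K W) j (by
        rw [← toEnd_pow, ← map_pow, hj]; rfl)
    have hv' : (ρ x * ρ y) v = μ • v := by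
      rw [← map_mul]; exact hv
    obtain ⟨hxs, hys⟩ := plane_invariant hx hy hv0 hv'
    obtain ⟨U, hU⟩ : ∃ U : Submodule K W, U = Submodule.span K {v, ρ x v} := ⟨_, rfl⟩
    rw [← hU] at hxs hys
    have hvU : v ∈ U := by rw [hU]; exact Submodule.subset_span (by simp)
    have hall : ∀ g : Γ, ρ g ∈ stab U := by
      intro g
      have hle : Subgroup.closure {x, y} ≤ (stab U).comap ρ := by
        rw [Subgroup.closure_le]
        rintro z (rfl | rfl)
        · exact hxs
        · exact hys
      rw [hgen] at hle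
      exact hle (Subgroup.mem_top g)
    let ρ' : Γ →* stab U := ρ.codRestrict (stab U) hall
    have hρ' : ∀ g, (ρ' g : W ≃ₗ[K] W) = ρ g := fun g => rfl
    have hnp' : ¬ IsPGroup p (ρ'.comp δ).range := by
      intro h
      apply hnp
      rintro ⟨_, ⟨g, rfl⟩⟩
      obtain ⟨k, hk⟩ := h ⟨_, ⟨g, rfl⟩⟩
      refine ⟨k, ?_⟩
      apply Subtype.ext
      have := congrArg (fun t : (ρ'.comp δ).range => ((t : stab U) : W ≃ₗ[K] W)) hk
      simpa [hρ'] using this
    have hcases : ¬ IsPGroup p (((resHom U).comp ρ').comp δ).range ∨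
        ¬ IsPGroup p (((quotHom U).comp ρ').comp δ).range := by
      by_contra hcon
      push Not at hcon
      exact hnp' (isPGroup_range_of_res_quot U (ρ'.comp δ) hcon.1 hcon.2)
    have hquadres : ∀ g : Γ, Quad (ρ g) → Quad ((resHom U).comp ρ' g) := by
      intro g hg u
      apply Subtype.ext
      have := hg (u : W)
      simpa [hρ'] using this
    have hquadquot : ∀ g : Γ, Quad (ρ g) → Quad ((quotHom U).comp ρ' g) := by
      intro g hg w
      induction w using Submodule.Quotient.induction_on with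
      | _ w =>
        have := hg w
        change (quotHom U (ρ' g)) ((quotHom U (ρ' g)) (Submodule.Quotient.mk w) -
          Submodule.Quotient.mk w) = (quotHom U (ρ' g)) (Submodule.Quotient.mk w) -
          Submodule.Quotient.mk w
        rw [quotHom_apply_mk, ← Submodule.Quotient.mk_sub, quotHom_apply_mk, hρ', this]
    rcases hcases with hres | hquot
    · -- the plane
      have hUle : Module.finrank K U ≤ 2 := by
        classical
        have hset : ({v, ρ x v} : Set W) = (({v, ρ x v} : Finset W) : Set W) := by simp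
        rw [hU, hset]
        exact le_trans (finrank_span_finset_le_card _) Finset.card_le_two
      by_cases hU2 : Module.finrank K U = 2
      · obtain ⟨φ, hφ⟩ := exists_sl2_of_finrank_two_ker (p := p) x y hgen hU2
          ((resHom U).comp ρ') (hquadres x hx) (hquadres y hy)
        exact ⟨φ, not_isPGroup_range_of_ker _ φ hφ δ hres⟩
      · exfalso
        have hU1 : Module.finrank K U ≤ 1 := by omega
        have h1 := (hquadres x hx).eq_one_of_finrank_le_one hU1
        have h2 := (hquadres y hy).eq_one_of_finrank_le_one hU1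
        apply hres
        have hker : ((resHom U).comp ρ').ker = ⊤ := by
          rw [eq_top_iff, ← hgen, Subgroup.closure_le]
          rintro z (rfl | rfl)
          · exact h1
          · exact h2
        rintro ⟨_, ⟨g, rfl⟩⟩
        refine ⟨0, ?_⟩
        apply Subtype.ext
        have : δ g ∈ ((resHom U).comp ρ').ker := by rw [hker]; exact Subgroup.mem_top _
        simpa using this
    · -- the quotient
      have hlt : Module.finrank K (W ⧸ U) < n := by
        have h1 := Submodule.finrank_quotient_add_finrank U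
        have h2 : 0 < Module.finrank K U := by
          rw [Module.finrank_pos_iff]
          exact ⟨⟨⟨v, hvU⟩, 0, fun h => hv0 (congrArg Subtype.val h)⟩⟩
        omega
      refine ih _ hlt (W ⧸ U) rfl ((quotHom U).comp ρ') (hquadquot x hx) (hquadquot y hy)
        ⟨j, ?_⟩ hquot
      have h1 : ρ' ((x * y) ^ (p ^ j * (Fintype.card K - 1))) = 1 := Subtype.ext hj
      rw [MonoidHom.comp_apply, h1, map_one]

end Cfsg.Agent.Lib.Helper1.QuadSL2
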