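import Mathlib
import Cfsg.Agent.Lib.Helper1.QuadSL2h
set_option autoImplicit false
open Polynomial
universe u v w w'
namespace Cfsg.Agent.Lib.Helper1.QuadSL2

variable {K : Type u} [Field K] {W : Type v} [AddCommGroup W] [Module K W]
  {Γ : Type w} [Group Γ]

/-- `(ρ g₁ - 1)(ρ g₂ - 1) - c` as an endomorphism -/
def opE (ρ : Γ →* (W ≃ₗ[K] W)) (g₁ g₂ : Γ) (c : K) : Module.End K W :=
  ((ρ (g₁ * g₂) : W ≃ₗ[K] W) : W →ₗ[K] W) - ((ρ g₁ : W ≃ₗ[K] W) : W →ₗ[K] W) -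
    ((ρ g₂ : W ≃ₗ[K] W) : W →ₗ[K] W) + (1 - c) • (1 : Module.End K W)

theorem opE_apply (ρ : Γ →* (W ≃ₗ[K] W)) (g₁ g₂ : Γ) (c : K) (w : W) :
    opE ρ g₁ g₂ c w = ρ (g₁ * g₂) w - ρ g₁ w - ρ g₂ w + (1 - c) • w := by
  simp [opE]

/-- the same for matrices -/
def opM (φ : Γ →* Matrix.SpecialLinearGroup (Fin 2) K) (g₁ g₂ : Γ) (c : K) :
    Matrix (Fin 2) (Fin 2) K :=
  (φ (g₁ * g₂) : Matrix (Fin 2) (Fin 2) K) - (φ g₁ : Matrix (Fin 2) (Fin 2) K) -
    (φ g₂ : Matrix (Fin 2) (Fin 2) K) + (1 - c) • (1 : Matrix (Fin 2) (Fin 2) K)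

/-- `φ` behaves like a constituent of `ρ` -/
def Cst (ρ : Γ →* (W ≃ₗ[K] W)) (φ : Γ →* Matrix.SpecialLinearGroup (Fin 2) K) : Prop :=
  ∀ (g₁ g₂ : Γ) (c : K), (opM φ g₁ g₂ c).det = 0 → ¬ Function.Injective (opE ρ g₁ g₂ c)

theorem cst_of_res (U : Submodule K W) (ρ' : Γ →* stab U)
    (φ : Γ →* Matrix.SpecialLinearGroup (Fin 2) K)
    (h : Cst ((resHom U).comp ρ') φ) : Cst ((stab U).subtype.comp ρ') φ := by
  intro g₁ g₂ c hdet hinj
  apply h g₁ g₂ c hdet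
  intro u u' huu'
  apply Subtype.ext
  apply hinj
  have := congrArg (fun t : U => (t : W)) huu'
  simp only [opE_apply, MonoidHom.comp_apply] at this ⊢
  simpa using this

theorem cst_of_quot [FiniteDimensional K W] (U : Submodule K W) (ρ' : Γ →* stab U)
    (φ : Γ →* Matrix.SpecialLinearGroup (Fin 2) K)
    (h : Cst ((quotHom U).comp ρ') φ) : Cst ((stab U).subtype.comp ρ') φ := by
  intro g₁ g₂ c hdet hinj
  apply h g₁ g₂ c hdet
  obtain ⟨T, hT⟩ : ∃ T : Module.End K W, T = opE ((stab U).subtype.comp ρ') g₁ g₂ c := ⟨_, rfl⟩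
  rw [← hT] at hinj
  have hTU : ∀ u ∈ U, T u ∈ U := by
    intro u hu
    rw [hT, opE_apply]
    refine U.add_mem (U.sub_mem (U.sub_mem ?_ ?_) ?_) (U.smul_mem _ hu)
    · exact apply_mem_of_mem_stab (ρ' (g₁ * g₂)).2 hu
    · exact apply_mem_of_mem_stab (ρ' g₁).2 hu
    · exact apply_mem_of_mem_stab (ρ' g₂).2 hu
  have hTq : ∀ w : W, opE ((quotHom U).comp ρ') g₁ g₂ c (Submodule.Quotient.mk w) =
      Submodule.Quotient.mk (T w) := by
    intro w
    rw [hT, opE_apply, opE_apply]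
    simp only [MonoidHom.comp_apply, quotHom_apply_mk, Subgroup.subtype_apply]
    rw [← Submodule.Quotient.mk_sub, ← Submodule.Quotient.mk_sub, ← Submodule.Quotient.mk_smul,
      ← Submodule.Quotient.mk_add]
  have hsurjU : Function.Surjective (T.restrict hTU) := by
    apply LinearMap.injective_iff_surjective.mp
    intro u u' huu'
    apply Subtype.ext
    apply hinj
    exact congrArg Subtype.val huu'
  rw [injective_iff_map_eq_zero]
  intro x hx
  induction x using Submodule.Quotient.induction_on with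
  | _ w =>
    rw [hTq, Submodule.Quotient.mk_eq_zero] at hx
    obtain ⟨u, hu⟩ := hsurjU ⟨T w, hx⟩
    have h1 : T (u : W) = T w := congrArg Subtype.val hu
    have h2 : (u : W) = w := hinj h1
    rw [Submodule.Quotient.mk_eq_zero, ← h2]
    exact u.2

end Cfsg.Agent.Lib.Helper1.QuadSL2
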