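import Mathlib
import Cfsg.Agent.Lib.Helper1.QuadQd1
set_option autoImplicit false
open Polynomial
universe u v w w'
namespace Cfsg.Agent.Lib.Helper1.QuadSL2

variable {K : Type u} [Field K] {W : Type v} [AddCommGroup W] [Module K W]

theorem exists_sl2_of_finrank_two_cst {p : ℕ} [hp : Fact p.Prime] [CharP K p] {Γ : Type w}
    [Group Γ]
    (x y : Γ) (hgen : Subgroup.closure {x, y} = ⊤) [FiniteDimensional K W]
    (hd : Module.finrank K W = 2) (ρ : Γ →* (W ≃ₗ[K] W)) (hx : Quad (ρ x)) (hy : Quad (ρ y)) :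
    ∃ φ : Γ →* Matrix.SpecialLinearGroup (Fin 2) K, (∀ g : Γ, φ g = 1 → ρ g = 1) ∧ Cst ρ φ := by
  let B : Module.Basis (Fin 2) K W := Module.finBasisOfFinrankEq K W hd
  let D : Γ →* Kˣ := LinearEquiv.det.comp ρ
  have hDx : D x = 1 := by
    apply units_eq_one_of_pow_char (p := p)
    rw [← map_pow]
    change LinearEquiv.det (ρ (x ^ p)) = 1
    rw [map_pow, hx.pow_char p, map_one]
  have hDy : D y = 1 := by
    apply units_eq_one_of_pow_char (p := p)
    rw [← map_pow]
    change LinearEquiv.det (ρ (y ^ p)) = 1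
    rw [map_pow, hy.pow_char p, map_one]
  have hD : ∀ g : Γ, D g = 1 := by
    intro g
    have hle : Subgroup.closure {x, y} ≤ D.ker := by
      rw [Subgroup.closure_le]
      rintro z (rfl | rfl)
      · exact hDx
      · exact hDy
    rw [hgen] at hle
    exact hle (Subgroup.mem_top g)
  have hdet : ∀ g : Γ, (LinearMap.toMatrix B B ((ρ g : W ≃ₗ[K] W) : W →ₗ[K] W)).det = 1 := by
    intro g
    rw [LinearMap.det_toMatrix, ← LinearEquiv.coe_det]
    have := hD g
    change LinearEquiv.det (ρ g) = 1 at this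
    rw [this]; rfl
  let φ : Γ →* Matrix.SpecialLinearGroup (Fin 2) K :=
    { toFun := fun g => ⟨LinearMap.toMatrix B B ((ρ g : W ≃ₗ[K] W) : W →ₗ[K] W), hdet g⟩
      map_one' := by
        apply Subtype.ext
        change LinearMap.toMatrix B B ((ρ 1 : W ≃ₗ[K] W) : W →ₗ[K] W) = 1
        rw [map_one]
        exact LinearMap.toMatrix_id B
      map_mul' := by
        intro g₁ g₂
        apply Subtype.ext
        change LinearMap.toMatrix B B ((ρ (g₁ * g₂) : W ≃ₗ[K] W) : W →ₗ[K] W) =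
          LinearMap.toMatrix B B ((ρ g₁ : W ≃ₗ[K] W) : W →ₗ[K] W) *
          LinearMap.toMatrix B B ((ρ g₂ : W ≃ₗ[K] W) : W →ₗ[K] W)
        rw [map_mul, ← LinearMap.toMatrix_mul]
        rfl }
  have hφ : ∀ g : Γ, ((φ g : Matrix.SpecialLinearGroup (Fin 2) K) : Matrix (Fin 2) (Fin 2) K) =
      LinearMap.toMatrix B B ((ρ g : W ≃ₗ[K] W) : W →ₗ[K] W) := fun g => rfl
  refine ⟨φ, ?_, ?_⟩
  · intro g h1
    have h2 : LinearMap.toMatrix B B ((ρ g : W ≃ₗ[K] W) : W →ₗ[K] W) = 1 :=
      congrArg Subtype.val h1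
    rw [← LinearMap.toMatrix_id B] at h2
    have h3 := (LinearMap.toMatrix B B).injective h2
    ext w
    have := congrArg (fun f : W →ₗ[K] W => f w) h3
    simpa using this
  · intro g₁ g₂ c hdet0 hinj
    have h1 : opM φ g₁ g₂ c = LinearMap.toMatrix B B (opE ρ g₁ g₂ c) := by
      unfold opM opE
      rw [hφ, hφ, hφ, map_add, map_sub, map_sub, map_smul]
      congr 1
      congr 1
      exact (LinearMap.toMatrix_one B).symm
    rw [h1, LinearMap.det_toMatrix] at hdet0
    have h2 := LinearMap.bot_lt_ker_of_det_eq_zero hdet0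
    have h3 : LinearMap.ker (opE ρ g₁ g₂ c) = ⊥ := LinearMap.ker_eq_bot.mpr hinj
    rw [h3] at h2
    exact lt_irrefl _ h2

end Cfsg.Agent.Lib.Helper1.QuadSL2
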