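import Mathlib
import Cfsg.Agent.Lib.Helper1.QuadQd3
import Cfsg.Agent.Lib.Helper1.QuadSL2i
set_option autoImplicit false
open scoped commutatorElement Pointwise IsMulCommutative
universe u v w w'
namespace Cfsg.Agent.Lib.Helper1.QuadSL2

variable {A : Type v} [CommGroup A] {Γ : Type w} [Group Γ]

theorem exists_sl2_hom_of_quadratic_pair_cst [Finite A] {p : ℕ} [hp : Fact p.Prime]
    (hexp : ∀ u : A, u ^ p = 1) [Finite Γ] (ψ : Γ →* MulAut A) (hψ : Function.Injective ψ)
    (x y : Γ) (hgen : Subgroup.closure {x, y} = ⊤)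
    (hx : ∀ u : A, ψ x (ψ x u) * u = ψ x u * ψ x u)
    (hy : ∀ u : A, ψ y (ψ y u) * u = ψ y u * ψ y u)
    (hnp : ¬ IsPGroup p Γ) :
    ∃ (n : ℕ) (φ : Γ →* Matrix.SpecialLinearGroup (Fin 2) (GaloisField p n)),
      ¬ IsPGroup p φ.range ∧ φ.range = Subgroup.closure {φ x, φ y} ∧
      (∀ s ∈ ({φ x, φ y} : Set (Matrix.SpecialLinearGroup (Fin 2) (GaloisField p n))),
        s ^ p = 1) ∧ Cst (dualRep (GaloisField p n) ψ) φ := by
  obtain ⟨e, n, hn0, hdvd⟩ := exists_field_data (p := p) (orderOf (x * y))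
    (orderOf_pos (x * y)).ne'
  letI : Fintype (GaloisField p n) := Fintype.ofFinite _
  have hcard : Fintype.card (GaloisField p n) = p ^ n := by
    rw [← Nat.card_eq_fintype_card]; exact GaloisField.card p n hn0
  haveI : Finite (Additive A →+ GaloisField p n) :=
    Finite.of_injective (fun f => (f : Additive A → GaloisField p n)) DFunLike.coe_injective
  have hxp : x ^ p = 1 := by
    apply hψ
    rw [map_pow, map_one]
    exact pow_eq_one_of_quad hexp _ hx
  have hyp : y ^ p = 1 := by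
    apply hψ
    rw [map_pow, map_one]
    exact pow_eq_one_of_quad hexp _ hy
  have hinj := dualRep_injective (K := GaloisField p n) hexp ψ hψ
  obtain ⟨φ, hφ, hcst⟩ := exists_hom_sl2_aux_cst (K := GaloisField p n) (p := p)
    (MonoidHom.id Γ) x y hgen _
    (Additive A →+ GaloisField p n) rfl (dualRep (GaloisField p n) ψ)
    (dualRep_quad ψ x hx) (dualRep_quad ψ y hy)
    ⟨e, by
      have h1 : (x * y) ^ (p ^ e * (Fintype.card (GaloisField p n) - 1)) = 1 := by
        rw [hcard]
        exact orderOf_dvd_iff_pow_eq_one.mp (hdvd _ dvd_rfl)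
      rw [h1, map_one]⟩
    (by
      intro h
      apply hnp
      intro d
      obtain ⟨k, hk⟩ := h ⟨_, ⟨d, rfl⟩⟩
      refine ⟨k, ?_⟩
      apply hinj
      have := congrArg Subtype.val hk
      simpa using this)
  rw [MonoidHom.comp_id] at hφ
  refine ⟨n, φ, hφ, ?_, ?_, hcst⟩
  · rw [MonoidHom.range_eq_map, ← hgen, MonoidHom.map_closure, Set.image_pair]
  · rintro s (rfl | rfl)
    · rw [← map_pow, hxp, map_one]
    · rw [← map_pow, hyp, map_one]

end Cfsg.Agent.Lib.Helper1.QuadSL2
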