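import Mathlib
import Cfsg.Agent.Lib.Helper1.QuadQd4
import Cfsg.Agent.Lib.Helper1.Dickson17
set_option autoImplicit false
open scoped commutatorElement Pointwise IsMulCommutative
open Matrix
universe u v w w'
namespace Cfsg.Agent.Lib.Helper1.QuadSL2

open Cfsg.Agent.Lib.Helper1.Dickson Cfsg.Agent.Lib.Helper1.SL2Three Cfsg.Agent.Lib.Helper1.SL2Odd

theorem det_opM_eq_zero {K : Type u} [Field K] (A₁ A₂ : Matrix.SpecialLinearGroup (Fin 2) K)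
    (m : K) (t1 : (A₁ : Matrix (Fin 2) (Fin 2) K).trace = 2)
    (t2 : (A₂ : Matrix (Fin 2) (Fin 2) K).trace = 2)
    (hm : ((A₁ * A₂ : Matrix.SpecialLinearGroup (Fin 2) K) : Matrix (Fin 2) (Fin 2) K).trace =
      2 + m) :
    (((A₁ * A₂ : Matrix.SpecialLinearGroup (Fin 2) K) : Matrix (Fin 2) (Fin 2) K) -
      (A₁ : Matrix (Fin 2) (Fin 2) K) - (A₂ : Matrix (Fin 2) (Fin 2) K) +
      (1 - m) • (1 : Matrix (Fin 2) (Fin 2) K)).det = 0 := by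
  have H1 := det_eq A₁
  have H2 := det_eq A₂
  rw [trace_eq] at t1 t2 hm
  rw [ea_mul, ed_mul] at hm
  rw [Matrix.det_fin_two]
  simp only [Matrix.add_apply, Matrix.sub_apply, Matrix.smul_apply, Matrix.one_apply_eq,
    smul_eq_mul, ne_eq, zero_ne_one, one_ne_zero, not_false_eq_true, Matrix.one_apply_ne, mul_zero]
  change (ea (A₁ * A₂) - ea A₁ - ea A₂ + (1 - m) * 1) * (ed (A₁ * A₂) - ed A₁ - ed A₂ + (1 - m) * 1) -
    (eb (A₁ * A₂) - eb A₁ - eb A₂ + 0) * (ec (A₁ * A₂) - ec A₁ - ec A₂ + 0) = 0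
  rw [ea_mul, eb_mul, ec_mul, ed_mul]
  linear_combination (ea A₂ * ed A₂ - eb A₂ * ec A₂ - 1 - (ea A₂ + ed A₂ - 2)) * H1 +
    (m - (ea A₂ * ed A₂ - eb A₂ * ec A₂ - 1 - (ea A₂ + ed A₂ - 2))) * t1 + m * t2 - m * hm

end Cfsg.Agent.Lib.Helper1.QuadSL2

namespace Cfsg.Agent.Lib.Helper1.QuadSL2

open Cfsg.Agent.Lib.Helper1.Dickson Cfsg.Agent.Lib.Helper1.SL2Three Cfsg.Agent.Lib.Helper1.SL2Odd

variable {A : Type v} [CommGroup A] {Γ : Type w} [Group Γ]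

theorem quad_inv_aut (α : MulAut A) (h : ∀ u : A, α (α u) * u = α u * α u) (u : A) :
    α⁻¹ (α⁻¹ u) * u = α⁻¹ u * α⁻¹ u := by
  have h1 := h (α⁻¹ (α⁻¹ u))
  simp only [MulAut.inv_apply, MulEquiv.apply_symm_apply] at h1 ⊢
  rw [mul_comm, ← h1]

/-- a pair of group elements and a scalar `m = ±1` such that `(x - 1)(x₂ - 1) - m` is singular
on the dual -/
theorem exists_not_injective_of_quad [Finite A] {p : ℕ} [hp : Fact p.Prime]
    (hp2 : p ≠ 2) (hexp : ∀ u : A, u ^ p = 1) [Finite Γ] (ψ : Γ →* MulAut A)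
    (hψ : Function.Injective ψ)
    (a : Γ) (ha : ∀ u : A, ψ a (ψ a u) * u = ψ a u * ψ a u)
    (hna : a ∉ Cfsg.pCore p Γ) :
    ∃ (n : ℕ) (x x₂ : Γ) (m : ℤ), (m = 1 ∨ m = -1) ∧
      (∀ u : A, ψ x (ψ x u) * u = ψ x u * ψ x u) ∧
      (∀ u : A, ψ x₂ (ψ x₂ u) * u = ψ x₂ u * ψ x₂ u) ∧
      ¬ Function.Injective (opE (dualRep (GaloisField p n) ψ) x x₂ (m : GaloisField p n)) := by
  have hap : a ^ p = 1 := by
    apply hψ
    rw [map_pow, map_one]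
    exact pow_eq_one_of_quad hexp _ ha
  obtain ⟨g, hnp⟩ := exists_conj_not_isPGroup' a hap hna
  obtain ⟨Γ₀, hΓ₀⟩ : ∃ Γ₀ : Subgroup Γ, Γ₀ = Subgroup.closure {a, g * a * g⁻¹} := ⟨_, rfl⟩
  rw [← hΓ₀] at hnp
  have haΓ : a ∈ Γ₀ := by rw [hΓ₀]; exact Subgroup.subset_closure (by simp)
  have hbΓ : g * a * g⁻¹ ∈ Γ₀ := by rw [hΓ₀]; exact Subgroup.subset_closure (by simp)
  have hconj : ∀ h : Γ, ∀ u : A, ψ (h * a * h⁻¹) (ψ (h * a * h⁻¹) u) * u =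
      ψ (h * a * h⁻¹) u * ψ (h * a * h⁻¹) u := by
    intro h u
    rw [map_mul, map_mul, map_inv]
    exact quad_conj_aut (ψ a) (ψ h) ha u
  obtain ⟨n, φ, hφ, hrange, hS, hcst⟩ := exists_sl2_hom_of_quadratic_pair_cst (A := A) (Γ := Γ₀)
    hexp (ψ.comp Γ₀.subtype) (hψ.comp Γ₀.subtype_injective) ⟨a, haΓ⟩ ⟨g * a * g⁻¹, hbΓ⟩
    (closure_pair_eq_top Γ₀ a (g * a * g⁻¹) hΓ₀ haΓ hbΓ) ha (hconj g) hnp
  have h2 : (2 : GaloisField p n) ≠ 0 := two_ne_zero_of_charP hp2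
  obtain ⟨X, hX⟩ : ∃ X : Matrix.SpecialLinearGroup (Fin 2) (GaloisField p n),
    X = φ ⟨a, haΓ⟩ := ⟨_, rfl⟩
  have hXp : X ^ p = 1 := by rw [hX]; exact hS _ (by simp)
  have hXL : X ∈ φ.range := by rw [hX]; exact ⟨_, rfl⟩
  rw [← hX] at hrange
  obtain ⟨hX1, y', hy'L, hy'⟩ := exists_noncommuting_conj φ.range X _ hrange hXp
    (hS _ (by simp)) hφ
  have hXu := sub_one_sq_eq_zero_of_pow_char X hXp
  have hXt : (X : Matrix (Fin 2) (Fin 2) (GaloisField p n)).trace = 2 := by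
    have := trace_sub_one_of_pow_char X hXp
    rw [Matrix.trace_sub, Matrix.trace_one, Fintype.card_fin] at this
    have h3 : ((2 : ℕ) : GaloisField p n) = 2 := by norm_num
    rw [h3] at this
    linear_combination this
  obtain ⟨g', hg', htr⟩ := dickson_trace h2 φ.range X hXL hX1 hXu y' hy'L hy'
  obtain ⟨h, rfl⟩ := hg'
  obtain ⟨x₂, hx₂⟩ : ∃ x₂ : ↥Γ₀, x₂ = h * ⟨a, haΓ⟩ * h⁻¹ := ⟨_, rfl⟩
  have hφx₂ : φ x₂ = φ h * X * (φ h)⁻¹ := by rw [hx₂, map_mul, map_mul, map_inv, hX]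
  rw [← hφx₂] at htr
  have hx₂t : ((φ x₂ : Matrix.SpecialLinearGroup (Fin 2) (GaloisField p n)) :
      Matrix (Fin 2) (Fin 2) (GaloisField p n)).trace = 2 := by
    rw [hφx₂, Matrix.SpecialLinearGroup.coe_mul, Matrix.trace_mul_comm,
      ← Matrix.SpecialLinearGroup.coe_mul, ← mul_assoc, inv_mul_cancel, one_mul]
    exact hXt
  obtain ⟨m, hm, htrm⟩ : ∃ m : ℤ, (m = 1 ∨ m = -1) ∧
      ((X * φ x₂ : Matrix.SpecialLinearGroup (Fin 2) (GaloisField p n)) :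
        Matrix (Fin 2) (Fin 2) (GaloisField p n)).trace = 2 + (m : GaloisField p n) := by
    rcases htr with h1 | h3
    · refine ⟨-1, Or.inr rfl, ?_⟩
      rw [h1]; push_cast; ring
    · refine ⟨1, Or.inl rfl, ?_⟩
      rw [h3]; push_cast; ring
  have hdet := det_opM_eq_zero X (φ x₂) (m : GaloisField p n) hXt hx₂t htrm
  have hni := hcst ⟨a, haΓ⟩ x₂ (m : GaloisField p n) (by
    unfold opM
    rw [map_mul, ← hX]
    exact hdet)
  refine ⟨n, a, (x₂ : Γ), m, hm, ha, ?_, ?_⟩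
  · have : (x₂ : Γ) = (h : Γ) * a * (h : Γ)⁻¹ := by rw [hx₂]; rfl
    rw [this]
    exact hconj _
  · intro hinj
    apply hni
    intro f f' hff'
    apply hinj
    have := hff'
    simp only [opE_apply] at this ⊢
    exact this

end Cfsg.Agent.Lib.Helper1.QuadSL2
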