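import Mathlib
import Cfsg.Agent.Lib.Helper1.QuadQd5
set_option autoImplicit false
open scoped commutatorElement Pointwise IsMulCommutative

universe u v w w'
namespace Cfsg.Agent.Lib.Helper1.QuadSL2

variable {A : Type v} [CommGroup A] {Γ : Type w} [Group Γ]

/-- a nontrivial `w` in the module with `(a' - 1)(b' - 1) w = m w`, `m = ±1` -/
theorem exists_eigen_of_quad [Finite A] {p : ℕ} [hp : Fact p.Prime]
    (hp2 : p ≠ 2) (hexp : ∀ u : A, u ^ p = 1) [Finite Γ] (ψ : Γ →* MulAut A)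
    (hψ : Function.Injective ψ)
    (a : Γ) (ha : ∀ u : A, ψ a (ψ a u) * u = ψ a u * ψ a u)
    (hna : a ∉ Cfsg.pCore p Γ) :
    ∃ (a' b' : Γ) (w : A) (m : ℤ), (m = 1 ∨ m = -1) ∧ w ≠ 1 ∧
      (∀ u : A, ψ a' (ψ a' u) * u = ψ a' u * ψ a' u) ∧
      (∀ u : A, ψ b' (ψ b' u) * u = ψ b' u * ψ b' u) ∧
      ψ (a' * b') w * (ψ b' w)⁻¹ * (ψ a' w)⁻¹ * w = w ^ m := by
  obtain ⟨n, x, x₂, m, hm, hx, hx₂, hni⟩ := exists_not_injective_of_quad hp2 hexp ψ hψ a ha hna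
  obtain ⟨K, hK⟩ : ∃ K : Type, K = GaloisField p n := ⟨_, rfl⟩
  -- a nonzero functional killed by the operator
  rw [injective_iff_map_eq_zero] at hni
  push Not at hni
  obtain ⟨f, hTf, hf0⟩ := hni
  let T' : A →* A := (ψ (x * x₂)⁻¹).toMonoidHom * ((ψ x⁻¹).toMonoidHom)⁻¹ *
    ((ψ x₂⁻¹).toMonoidHom)⁻¹ * zpowGroupHom (1 - m)
  have hT' : ∀ u : A, T' u = ψ (x * x₂)⁻¹ u * (ψ x⁻¹ u)⁻¹ * (ψ x₂⁻¹ u)⁻¹ * u ^ (1 - m) := by
    intro u; rfl
  have hfz : ∀ (u : A) (k : ℤ), f (Additive.ofMul (u ^ k)) =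
      (k : GaloisField p n) * f (Additive.ofMul u) := by
    intro u k
    rw [ofMul_zpow, map_zsmul, zsmul_eq_mul]
  have hfT' : ∀ u : A, f (Additive.ofMul (T' u)) = 0 := by
    intro u
    have h1 := congrArg (fun F : Additive A →+ GaloisField p n => F (Additive.ofMul u)) hTf
    simp only [opE_apply, AddMonoidHom.add_apply, AddMonoidHom.sub_apply, AddMonoidHom.zero_apply,
      AddMonoidHom.smul_apply, dualRep_apply, smul_eq_mul] at h1
    rw [hT', ofMul_mul, ofMul_mul, ofMul_mul, ofMul_inv, ofMul_inv, map_add, map_add, map_add,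
      map_neg, map_neg, hfz]
    push_cast
    linear_combination h1
  have hnsurj : ¬ Function.Surjective T' := by
    intro hs
    apply hf0
    ext u
    obtain ⟨u', hu'⟩ := hs (Additive.toMul u)
    have := hfT' u'
    rw [hu'] at this
    exact this
  have hninj : ¬ Function.Injective T' := fun hi => hnsurj (Finite.injective_iff_surjective.mp hi)
  rw [injective_iff_map_eq_one] at hninj
  push Not at hninj
  obtain ⟨w, hTw, hw1⟩ := hninj
  refine ⟨x₂⁻¹, x⁻¹, w, m, hm, hw1, ?_, ?_, ?_⟩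
  · intro u
    rw [map_inv]
    exact quad_inv_aut _ hx₂ u
  · intro u
    rw [map_inv]
    exact quad_inv_aut _ hx u
  · rw [hT', _root_.mul_inv_rev] at hTw
    have h1 : ψ (x₂⁻¹ * x⁻¹) w * (ψ x⁻¹ w)⁻¹ * (ψ x₂⁻¹ w)⁻¹ = (w ^ (1 - m))⁻¹ :=
      eq_inv_of_mul_eq_one_left hTw
    rw [h1, ← zpow_neg, ← zpow_add_one]
    congr 1
    ring

end Cfsg.Agent.Lib.Helper1.QuadSL2
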