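import Mathlib
import Cfsg.Agent.Lib.Helper1.QuadQd6
import Cfsg.Agent.Lib.Helper1.QdA6
set_option autoImplicit false
open scoped commutatorElement Pointwise IsMulCommutative
universe u v w w'
namespace Cfsg.Agent.Lib.Helper1.QuadSL2

open Cfsg.Agent.Lib.Helper1.QdA

variable {A : Type v} [CommGroup A]

theorem zp_eq_one_iff {Y : Type u} [Group Y] {p : ℕ} [hp : Fact p.Prime] {w : Y} (hw : w ^ p = 1)
    (hw1 : w ≠ 1) (c : ZMod p) : zp w c = 1 ↔ c = 0 := by
  constructor
  · intro h
    have ho : orderOf w = p := orderOf_eq_prime hw hw1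
    unfold zp at h
    have h1 := orderOf_dvd_of_pow_eq_one h
    rw [ho] at h1
    have h2 : c.val < p := ZMod.val_lt c
    have h3 : c.val = 0 := Nat.eq_zero_of_dvd_of_lt h1 h2
    exact (ZMod.val_eq_zero c).mp h3
  · rintro rfl
    exact zp_zero w

/-- the plane relations from the eigenvector relation -/
theorem plane_relations (α β : MulAut A) (hα : ∀ u : A, α (α u) * u = α u * α u)
    (hβ : ∀ u : A, β (β u) * u = β u * β u) (w : A) (m : ℤ) (hm : m = 1 ∨ m = -1)
    (heig : (α * β) w * (β w)⁻¹ * (α w)⁻¹ * w = w ^ m) :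
    β (β w * w⁻¹) = β w * w⁻¹ ∧ α (β w * w⁻¹) = β w * w⁻¹ * w ^ m ∧ α w = w := by
  have key : ∀ x y : A, Additive.ofMul x = Additive.ofMul y → x = y :=
    fun x y h => Additive.ofMul.injective h
  have h1 : β (β w * w⁻¹) = β w * w⁻¹ := by
    apply key
    have := congrArg Additive.ofMul (hβ w)
    simp only [ofMul_mul, ofMul_inv, map_mul, map_inv] at this ⊢
    linear_combination (norm := abel) this
  have h3 : α (β w * w⁻¹) = β w * w⁻¹ * w ^ m := by
    apply key
    have := congrArg Additive.ofMul heig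
    simp only [ofMul_mul, ofMul_inv, map_mul, map_inv, MulAut.mul_apply, ofMul_zpow] at this ⊢
    linear_combination (norm := abel) this
  refine ⟨h1, h3, ?_⟩
  have h4 := hα (β w * w⁻¹)
  rw [h3, map_mul, map_zpow, h3] at h4
  apply key
  have h5 := congrArg Additive.ofMul h4
  simp only [ofMul_mul, ofMul_inv, ofMul_zpow] at h5
  rcases hm with rfl | rfl
  · simp only [one_smul] at h5
    linear_combination (norm := abel) h5
  · simp only [neg_smul, one_smul] at h5
    linear_combination (norm := abel) (-1 : ℤ) • h5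

end Cfsg.Agent.Lib.Helper1.QuadSL2
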