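import Mathlib
import Cfsg.Agent.Lib.Helper1.QuadQd7
set_option autoImplicit false
open scoped commutatorElement Pointwise IsMulCommutative
universe u v w w'
namespace Cfsg.Agent.Lib.Helper1.QuadSL2

open Cfsg.Agent.Lib.Helper1.QdA

theorem zpow_eq_zp {Y : Type u} [Group Y] {p : ℕ} [hp : Fact p.Prime] {w : Y} (hw : w ^ p = 1)
    (k : ℤ) : w ^ k = zp w (k : ZMod p) := by
  have hp0 : (p : ℤ) ≠ 0 := by exact_mod_cast hp.out.ne_zero
  have h1 : w ^ k = w ^ (k % (p : ℤ)) := by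
    conv_lhs => rw [← Int.emod_add_mul_ediv k p, zpow_add, zpow_mul, zpow_natCast, hw, one_zpow,
      mul_one]
  have h2 : 0 ≤ k % (p : ℤ) := Int.emod_nonneg k hp0
  obtain ⟨r, hr⟩ := Int.eq_ofNat_of_zero_le h2
  rw [h1, hr, zpow_natCast, pow_eq_zp hw]
  congr 1
  have : ((r : ℤ) : ZMod p) = ((k % (p : ℤ) : ℤ) : ZMod p) := by rw [hr]
  rw [Int.cast_natCast] at this
  rw [this]
  exact (ZMod.intCast_mod k p)

variable {U : Type v} [CommGroup U]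

/-- group-level version: a normal elementary abelian subgroup (given as an injection `ι` with a
compatible action `θ`) on which a quadratic element is not in `O_p` of the automizer forces
`Qd(p)` -/
theorem involves_qd_of_quad {X : Type u} [Group X] [Finite X] [Finite U] {p : ℕ}
    [hp : Fact p.Prime] (hp2 : p ≠ 2) (hexp : ∀ u : U, u ^ p = 1)
    (ι : U →* X) (hι : Function.Injective ι) (θ : X →* MulAut U)
    (hθ : ∀ (x : X) (u : U), ι (θ x u) = x * ι u * x⁻¹) (a : X)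
    (ha : ∀ u : U, θ a (θ a u) * u = θ a u * θ a u)
    (hna : (QuotientGroup.mk a : X ⧸ θ.ker) ∉ Cfsg.pCore p (X ⧸ θ.ker)) :
    Cfsg.Involves ↥(Cfsg.qd p) X := by
  obtain ⟨a', b', w, m, hm, hw1, ha', hb', heig⟩ := exists_eigen_of_quad hp2 hexp
    (QuotientGroup.kerLift θ) (QuotientGroup.kerLift_injective θ) (QuotientGroup.mk a)
    (by intro u; rw [QuotientGroup.kerLift_mk]; exact ha u) hna
  obtain ⟨α', rfl⟩ := QuotientGroup.mk_surjective a'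
  obtain ⟨β', rfl⟩ := QuotientGroup.mk_surjective b'
  rw [map_mul] at heig
  simp only [QuotientGroup.kerLift_mk] at ha' hb' heig
  obtain ⟨hr1, hr2, hr3⟩ := plane_relations (θ α') (θ β') ha' hb' w m hm heig
  obtain ⟨w₂, hw₂⟩ : ∃ w₂ : U, w₂ = θ β' w * w⁻¹ := ⟨_, rfl⟩
  rw [← hw₂] at hr1 hr2
  have hβw : θ β' w = w₂ * w := by rw [hw₂, inv_mul_cancel_right]
  obtain ⟨u₀, hu₀⟩ : ∃ u₀ : X, u₀ = ι w₂ := ⟨_, rfl⟩
  obtain ⟨u₁, hu₁⟩ : ∃ u₁ : X, u₁ = ι w := ⟨_, rfl⟩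
  have h₀ : u₀ ^ p = 1 := by rw [hu₀, ← map_pow, hexp, map_one]
  have h₁ : u₁ ^ p = 1 := by rw [hu₁, ← map_pow, hexp, map_one]
  have hu₁1 : u₁ ≠ 1 := by
    rw [hu₁]; intro h; apply hw1; apply hι; rw [h, map_one]
  have hcomm : u₀ * u₁ = u₁ * u₀ := by rw [hu₀, hu₁, ← map_mul, ← map_mul, mul_comm]
  have e1 : β' * u₀ * β'⁻¹ = u₀ := by rw [hu₀, ← hθ, hr1]
  have e2 : β' * u₁ * β'⁻¹ = u₀ * u₁ := by rw [hu₁, ← hθ, hβw, map_mul, hu₀]
  have e3 : α' * u₀ * α'⁻¹ = u₀ * zp u₁ (m : ZMod p) := by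
    rw [hu₀, ← hθ, hr2, map_mul, map_zpow, ← hu₁, zpow_eq_zp h₁]
  have e4 : α' * u₁ * α'⁻¹ = u₁ := by rw [hu₁, ← hθ, hr3]
  have hm' : ((m : ZMod p) = 1 ∨ (m : ZMod p) = -1) := by
    rcases hm with rfl | rfl
    · left; simp
    · right; simp
  have hm0 : (m : ZMod p) ≠ 0 := by
    rcases hm' with h | h <;> rw [h]
    · exact one_ne_zero
    · exact neg_ne_zero.mpr one_ne_zero
  apply involves_qd_of_generators hp2 u₀ u₁ β' α' (m : ZMod p) hm' hcomm h₀ h₁ ?_ e1 e2 e3 e4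
  intro s t hst
  have h5 : α' * (zp u₀ s * zp u₁ t) * α'⁻¹ = 1 := by rw [hst]; group
  have h6 : α' * (zp u₀ s * zp u₁ t) * α'⁻¹ =
      (α' * zp u₀ s * α'⁻¹) * (α' * zp u₁ t * α'⁻¹) := by group
  rw [h6, conj_zp, conj_zp, e3, e4] at h5
  have hc : Commute u₀ (zp u₁ (m : ZMod p)) := by
    unfold zp
    exact (show Commute u₀ u₁ from hcomm).pow_right _
  have h7 : zp (u₀ * zp u₁ (m : ZMod p)) s = zp u₀ s * zp u₁ ((m : ZMod p) * s) := by
    have : zp (u₀ * zp u₁ (m : ZMod p)) s = zp u₀ s * (zp u₁ (m : ZMod p)) ^ s.val := by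
      unfold zp
      exact hc.mul_pow _
    rw [this, zp_pow h₁, ZMod.natCast_zmod_val, mul_comm s]
  rw [h7] at h5
  have h8 : zp u₁ ((m : ZMod p) * s) = 1 := by
    have hc2 : zp u₀ s * zp u₁ ((m : ZMod p) * s) = zp u₁ ((m : ZMod p) * s) * zp u₀ s :=
      zp_comm hcomm _ _
    have : zp u₁ ((m : ZMod p) * s) * (zp u₀ s * zp u₁ t) = 1 := by
      rw [← mul_assoc, ← hc2]; exact h5
    rw [hst, mul_one] at this
    exact this
  have h9 : (m : ZMod p) * s = 0 := (zp_eq_one_iff h₁ hu₁1 _).mp h8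
  have hs : s = 0 := by
    rcases mul_eq_zero.mp h9 with h | h
    · exact absurd h hm0
    · exact h
  rw [hs, zp_zero, one_mul] at hst
  exact ⟨hs, (zp_eq_one_iff h₁ hu₁1 _).mp hst⟩

end Cfsg.Agent.Lib.Helper1.QuadSL2
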