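import Mathlib
import Cfsg.Agent.Lib.Helper1.QuadQd8
import Cfsg.Agent.Lib.Helper1.FreeStable2
set_option autoImplicit false
open scoped commutatorElement Pointwise IsMulCommutative
open Cfsg
universe u v w
namespace Cfsg.Agent.Lib.Helper1.QdStable

open Cfsg.Agent.Lib.Helper1.QuadSL2 Cfsg.Agent.Lib.Helper1.StableQuad Cfsg.Agent.Lib.Helper1.NPC
  Cfsg.Agent.Lib.Helper1.NPStable Cfsg.Agent.Lib.Helper2.Inv

/-- `Qd(p)` is not involved -/
def QdFree (p : ℕ) (Γ : Type*) [Group Γ] : Prop :=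
  ¬ Cfsg.Involves ↥(Cfsg.qd p) Γ

theorem QdFree.subgroup {p : ℕ} {Γ : Type*} [Group Γ] (h : QdFree p Γ) (H : Subgroup Γ) :
    QdFree p H := fun h' => h (involves_of_subgroup H h')

theorem QdFree.quotient {p : ℕ} {Γ : Type*} [Group Γ] (h : QdFree p Γ) (N : Subgroup Γ)
    [N.Normal] : QdFree p (Γ ⧸ N) := fun h' => h (involves_of_quotient N h')

variable {G : Type u} [Group G]

theorem isPStableOn_of_qdfree [Finite G] {p : ℕ} [Fact p.Prime] (hp2 : p ≠ 2)
    (V : Subgroup G) [hVn : V.Normal] (hV : Cfsg.IsElementaryAbelian p V)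
    (hfree : QdFree p G) : Cfsg.IsPStableOn p V := by
  intro a ha
  haveI : IsMulCommutative V := hV.1
  by_contra hna
  apply hfree
  have hker := conjNormal_ker V
  obtain ⟨C, hC⟩ : ∃ C : Subgroup G, C = Subgroup.centralizer (V : Set G) := ⟨_, rfl⟩
  have hCn : C.Normal := by rw [hC]; infer_instance
  have hna' : (QuotientGroup.mk a : G ⧸ C) ∉ pCore p (G ⧸ C) := by
    intro h
    exact hna (mem_pCore_quot_congr p C _ hC a h)
  rw [← hC] at hker
  obtain ⟨θ, hθ⟩ : ∃ θ : G →* MulAut V, θ = MulAut.conjNormal (H := V) := ⟨_, rfl⟩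
  rw [← hθ] at hker
  subst hker
  apply involves_qd_of_quad (U := V) hp2 (fun u => Subtype.ext (hV.2 u u.2)) V.subtype
    V.subtype_injective θ ?_ a ?_ hna'
  · intro x u
    rw [hθ]
    exact MulAut.conjNormal_apply x u
  · rw [hθ]
    exact quad_of_conj V a _ (fun v => MulAut.conjNormal_apply a v) ha

theorem isPStableOnSection_of_qdfree [Finite G] {p : ℕ} [hp : Fact p.Prime] (hp2 : p ≠ 2)
    (K N : Subgroup G) [hKn : K.Normal] [hNn : N.Normal]
    (hel : Cfsg.IsElementaryAbelian p (K.map (QuotientGroup.mk' N)))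
    (hfree : QdFree p G) : Cfsg.IsPStableOnSection p K N := by
  intro a ha
  obtain ⟨Kb, hKb⟩ : ∃ Kb : Subgroup (G ⧸ N), Kb = K.map (QuotientGroup.mk' N) := ⟨_, rfl⟩
  haveI hKbn : Kb.Normal := by
    rw [hKb]; exact hKn.map _ (QuotientGroup.mk'_surjective N)
  rw [← hKb] at hel
  have hst : Cfsg.IsPStableOn p Kb := isPStableOn_of_qdfree hp2 Kb hel (hfree.quotient N)
  have hquadb : ⁅⁅Kb, Subgroup.zpowers (QuotientGroup.mk' N a)⁆,
      Subgroup.zpowers (QuotientGroup.mk' N a)⁆ = ⊥ := by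
    rw [eq_bot_iff, hKb, ← MonoidHom.map_zpowers, ← Subgroup.map_commutator,
      ← Subgroup.map_commutator]
    calc Subgroup.map (QuotientGroup.mk' N) ⁅⁅K, Subgroup.zpowers a⁆, Subgroup.zpowers a⁆
        ≤ Subgroup.map (QuotientGroup.mk' N) N := Subgroup.map_mono ha
      _ = ⊥ := QuotientGroup.map_mk'_self N
  have hmem := hst (QuotientGroup.mk' N a) hquadb
  obtain ⟨Cb, hCb⟩ : ∃ Cb : Subgroup (G ⧸ N), Cb = Subgroup.centralizer (Kb : Set (G ⧸ N)) :=
    ⟨_, rfl⟩
  haveI hCbn : Cb.Normal := by rw [hCb]; infer_instance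
  have hmem' : (QuotientGroup.mk (QuotientGroup.mk' N a) : (G ⧸ N) ⧸ Cb) ∈
      pCore p ((G ⧸ N) ⧸ Cb) := mem_pCore_quot_congr p _ Cb hCb.symm _ hmem
  obtain ⟨C, hC⟩ : ∃ C : Subgroup G, C = Cfsg.sectionKernel K N := ⟨_, rfl⟩
  rw [← hC]
  have hCeq : C = Cb.comap (QuotientGroup.mk' N) := by
    rw [hC, hCb, hKb]; rfl
  let π : G →* (G ⧸ N) ⧸ Cb := (QuotientGroup.mk' Cb).comp (QuotientGroup.mk' N)
  have hπ : Function.Surjective π :=
    (QuotientGroup.mk'_surjective Cb).comp (QuotientGroup.mk'_surjective N)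
  have hker : π.ker = C := by
    rw [hCeq, ← MonoidHom.comap_ker, QuotientGroup.ker_mk']
  obtain ⟨Q, hQ⟩ : ∃ Q : Subgroup ((G ⧸ N) ⧸ Cb), Q = Cfsg.pCore p ((G ⧸ N) ⧸ Cb) := ⟨_, rfl⟩
  rw [← hQ] at hmem'
  have hQn : Q.Normal := by rw [hQ]; exact pCore_normal p
  have hQp : IsPGroup p Q := by rw [hQ]; exact pCore_isPGroup p
  have hCD : C ≤ Q.comap π := by
    rw [← hker]
    exact Subgroup.ker_le_comap _ _
  refine ⟨Q.comap π, hQn.comap _, hCD, ?_, hmem'⟩
  obtain ⟨k, hk⟩ := IsPGroup.iff_card.mp hQp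
  refine ⟨k, ?_⟩
  have h1 := Subgroup.relIndex_mul_index hCD
  rw [Subgroup.index_comap_of_surjective Q hπ] at h1
  have h2 : C.index = Nat.card Q * Q.index := by
    rw [Subgroup.card_mul_index, ← hker, Subgroup.index_ker, MonoidHom.range_eq_top.mpr hπ,
      Subgroup.card_top]
  rw [h2, hk] at h1
  have hpos : 0 < Q.index := Nat.pos_of_ne_zero Subgroup.index_ne_zero_of_finite
  exact Nat.eq_of_mul_eq_mul_right hpos h1

theorem isPStableOn_of_qdfree_of_isPGroup [Finite G] {p : ℕ} [hp : Fact p.Prime] (hp2 : p ≠ 2)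
    (P : Subgroup G) [hPn : P.Normal] (hP : IsPGroup p P)
    (hfree : QdFree p G) : IsPStableOn p P := by
  have hel : IsElementaryAbelian p (P.map (QuotientGroup.mk' ((frattini ↥P).map P.subtype))) :=
    isElementaryAbelian_map_mk_of_frattini P hP _ le_rfl
  have hsec := isPStableOnSection_of_qdfree hp2 P ((frattini ↥P).map P.subtype) hel hfree
  intro a ha
  obtain ⟨D, hDn, hKD, ⟨k, hk⟩, haD⟩ := hsec a (by rw [ha]; exact bot_le)
  obtain ⟨K, hKdef⟩ : ∃ K : Subgroup G, K = sectionKernel P ((frattini ↥P).map P.subtype) :=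
    ⟨_, rfl⟩
  rw [← hKdef] at hKD hk
  have hKn : K.Normal := by
    rw [hKdef]; unfold sectionKernel
    exact Subgroup.Normal.comap inferInstance _
  have hDp : IsPGroup p (D.map (QuotientGroup.mk' (Subgroup.centralizer (P : Set G)))) := by
    rintro ⟨_, ⟨d, hd, rfl⟩⟩
    have h1 : d ^ (p ^ k) ∈ K := by
      haveI : (K.subgroupOf D).Normal := hKn.subgroupOf D
      have := Subgroup.pow_index_mem (K.subgroupOf D) (⟨d, hd⟩ : D)
      change (⟨d, hd⟩ : D) ^ K.relIndex D ∈ K.subgroupOf D at this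
      rw [hk, Subgroup.mem_subgroupOf] at this
      exact this
    rw [hKdef] at h1
    obtain ⟨e, he⟩ := exists_pow_mem_centralizer_of_mem_sectionKernel P hP _ h1
    refine ⟨k + e, ?_⟩
    apply Subtype.ext
    simp only [Subgroup.coe_pow, Subgroup.coe_one]
    rw [← map_pow, pow_add, pow_mul]
    exact (QuotientGroup.eq_one_iff _).mpr he
  have hDn' : (D.map (QuotientGroup.mk' (Subgroup.centralizer (P : Set G)))).Normal :=
    hDn.map _ (QuotientGroup.mk'_surjective _)
  exact le_pCore hDn' hDp (Subgroup.mem_map_of_mem _ haD)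

theorem isNormalizerPStable_of_qdfree [Finite G] {p : ℕ} [hp : Fact p.Prime] (hp2 : p ≠ 2)
    (hfree : QdFree p G) : IsNormalizerPStable p G := by
  intro P hP g hg hquad
  have hPN : P ≤ Subgroup.normalizer (P : Set G) := Subgroup.le_normalizer
  haveI hP'n : (P.subgroupOf (Subgroup.normalizer (P : Set G))).Normal :=
    Subgroup.normal_in_normalizer
  have hP' : IsPGroup p (P.subgroupOf (Subgroup.normalizer (P : Set G))) := hP.comap_subtype
  have hst := isPStableOn_of_qdfree_of_isPGroup hp2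
    (P.subgroupOf (Subgroup.normalizer (P : Set G))) hP'
    (hfree.subgroup _)
  have hq : ⁅⁅P.subgroupOf (Subgroup.normalizer (P : Set G)),
      Subgroup.zpowers (⟨g, hg⟩ : ↥(Subgroup.normalizer (P : Set G)))⁆,
      Subgroup.zpowers (⟨g, hg⟩ : ↥(Subgroup.normalizer (P : Set G)))⁆ = ⊥ := by
    rw [quadE_iff]
    apply quadE_of_map (Subgroup.normalizer (P : Set G)).subtype (Subgroup.subtype_injective _)
    rw [Subgroup.subgroupOf_map_subtype, inf_eq_left.mpr hPN]
    exact (quadE_iff P g).mp hquad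
  have h1 := hst ⟨g, hg⟩ hq
  have hC : Subgroup.centralizer
      ((P.subgroupOf (Subgroup.normalizer (P : Set G)) :
        Subgroup ↥(Subgroup.normalizer (P : Set G))) : Set ↥(Subgroup.normalizer (P : Set G))) =
      (Subgroup.centralizer (P : Set G)).subgroupOf (Subgroup.normalizer (P : Set G)) := by
    ext x
    rw [Subgroup.mem_subgroupOf, Subgroup.mem_centralizer_iff, Subgroup.mem_centralizer_iff]
    constructor
    · intro h y hy
      have := h ⟨y, hPN hy⟩ (by
        show (⟨y, hPN hy⟩ : ↥(Subgroup.normalizer (P : Set G))) ∈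
          P.subgroupOf (Subgroup.normalizer (P : Set G))
        rw [Subgroup.mem_subgroupOf]; exact hy)
      exact congrArg Subtype.val this
    · intro h y hy
      have hy' : (y : G) ∈ P := by
        have : y ∈ P.subgroupOf (Subgroup.normalizer (P : Set G)) := hy
        rwa [Subgroup.mem_subgroupOf] at this
      exact Subtype.ext (h y hy')
  exact mem_pCore_quot_congr p _ _ hC _ h1

/-- every section of a `Qd(p)`-free group is `p`-stable in the normalizer form -/
theorem isNormalizerPStable_section_of_qdfree [Finite G] {p : ℕ} [hp : Fact p.Prime] (hp2 : p ≠ 2)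
    (hfree : QdFree p G) (K R : Subgroup G) [hR : (R.subgroupOf K).Normal] :
    IsNormalizerPStable p (↥K ⧸ R.subgroupOf K) :=
  isNormalizerPStable_of_qdfree hp2 ((hfree.subgroup K).quotient _)

end Cfsg.Agent.Lib.Helper1.QdStable
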