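import Mathlib
import Cfsg.Agent.Lib.Helper1.QdStable1
import Cfsg.Agent.Lib.Helper1.ZJ6
set_option autoImplicit false
open scoped commutatorElement Pointwise IsMulCommutative
open Cfsg
universe u v w
namespace Cfsg.Agent.Lib.Helper1.QdStable

open Cfsg.Agent.Lib.Helper1.ZJ

variable {G : Type u} [Group G]

theorem s0664 [Finite G] {p : ℕ} [Fact p.Prime] (hp : p ≠ 2)
    (hfree : ¬ ∃ (K R : Subgroup G) (hR : (R.subgroupOf K).Normal),
      Nonempty ((K ⧸ R.subgroupOf K) ≃* ↥(Cfsg.qd p)))
    (hc : Subgroup.centralizer (Cfsg.pCore p G : Set G) ≤ Cfsg.pCore p G) (S : Sylow p G) :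
    (Cfsg.centerThompsonAOf ((S : Subgroup G))).Normal := by
  have hfree' : QdFree p G := hfree
  haveI := zj_theorem_A hp hc
    (fun P hPn hP => isPStableOn_of_qdfree_of_isPGroup hp P hP hfree') S
  exact Subgroup.normal_of_characteristic _

end Cfsg.Agent.Lib.Helper1.QdStable
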