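import Mathlib
import Cfsg.Agent.Lib.Helper1.QI10
import Cfsg.Agent.Lib.Helper9.GroupFusionSat
import Cfsg.Agent.S0664

set_option autoImplicit false
set_option linter.style.haveILetI false
set_option linter.unusedSectionVars false
set_option linter.unusedVariables false
set_option maxHeartbeats 1000000

/-! The normalizer of a fully normalized subgroup in a realizing group realizes the normalizer
system; the fusion system of a `H`-free group is `H`-free; solvability of the fusion system of a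
`Qd(p)`-free group. -/

namespace Cfsg.Agent.Lib.Helper1.QF

open Cfsg Cfsg.FusionSystem Cfsg.Agent.Lib.Helper9 Cfsg.Agent.Lib.Helper1.KN
  Cfsg.Agent.Lib.Helper1.KL

variable {Ω : Type*} [Group Ω]

section realized

variable {T : Subgroup Ω} {L : Type*} [Group L]

/-- **The normalizer of a fully normalized subgroup in a realizing group realizes the normalizer
system on a Sylow subgroup.** -/
theorem normalizer_realized [Finite T] [Finite L] (p : ℕ) [Fact p.Prime] (hT : IsPGroup p T)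
    (E : FusionSystem T) (ι : ↥T →* L) (hrl : E.IsRealizedBy ι)
    (hsyl : ∃ Sy : Sylow p L, (Sy : Subgroup L) = ι.range) {A : Subgroup Ω}
    (hA : E.IsFullyNormalized A) (EA : FusionSystem (normalizerIn T A))
    (hEA : E.IsNormalizerSystem A EA) :
    EA.IsRealizedBy (iotaN ι A) ∧
      ∃ Sy₁ : Sylow p ↥(Subgroup.normalizer (((A.subgroupOf T).map ι : Subgroup L) : Set L)),
        (Sy₁ : Subgroup ↥(Subgroup.normalizer (((A.subgroupOf T).map ι : Subgroup L) : Set L))) =
          (iotaN ι A).range := by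
  obtain ⟨hinj, hreal⟩ := hrl
  obtain ⟨Sy, hSy⟩ := hsyl
  have hAT : A ≤ T := hA.1
  have hTA : normalizerIn T A ≤ T := normalizerIn_le T A
  have hAN : A ≤ normalizerIn T A := self_le_normalizerIn' hAT
  haveI : Finite ↥A := finite_of_le hAT
  have hmemA' : ∀ (a : Ω) (ha : a ∈ A), ι ⟨a, hAT ha⟩ ∈ (A.subgroupOf T).map ι :=
    fun a ha => ⟨⟨a, hAT ha⟩, ha, rfl⟩
  have hA'mem : ∀ y ∈ (A.subgroupOf T).map ι, ∃ (a : Ω) (ha : a ∈ A), ι ⟨a, hAT ha⟩ = y := by
    rintro _ ⟨a, ha, rfl⟩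
    exact ⟨a, ha, rfl⟩
  have hinjN : Function.Injective (iotaN ι A) := by
    intro x y hxy
    have h1 : ι ⟨x, hTA x.2⟩ = ι ⟨y, hTA y.2⟩ := congrArg Subtype.val hxy
    have h2 := hinj h1
    have h3 : (x : Ω) = y := Subtype.mk.inj h2
    exact Subtype.ext h3
  refine ⟨⟨hinjN, ?_⟩, ?_⟩
  · -- realization
    intro P hP φ hφ
    rw [hEA P]
    constructor
    · rintro ⟨hφE, -, -, ψ, hψ, hψP, hψA⟩
      have hPA : P ⊔ A ≤ T := sup_le (hP.trans hTA) hAT
      have hψT : ∀ z, ψ z ∈ T := fun z => hom_mem E hψ z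
      obtain ⟨g, hg⟩ := (hreal _ hPA ψ hψT).mp hψ
      have hgM : g ∈ Subgroup.normalizer (((A.subgroupOf T).map ι : Subgroup L) : Set L) := by
        apply Cfsg.Agent.Lib.Helper1.KN.mem_normalizer_of_forall_conj_mem
        intro y hy
        obtain ⟨a, ha, rfl⟩ := hA'mem y hy
        have h1 := hg ⟨a, (le_sup_right : A ≤ P ⊔ A) ha⟩
        have h2 : ψ ⟨a, (le_sup_right : A ≤ P ⊔ A) ha⟩ ∈ A :=
          hψA.le ⟨⟨a, (le_sup_right : A ≤ P ⊔ A) ha⟩, ha, rfl⟩
        have h3 := hmemA' _ h2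
        rw [h1] at h3
        exact h3
      refine ⟨⟨g, hgM⟩, fun x => ?_⟩
      apply Subtype.ext
      show ι ⟨φ x, hTA (hφ x)⟩ = g * ι ⟨x, hTA (hP x.2)⟩ * g⁻¹
      have h1 := hg (Subgroup.inclusion le_sup_left x)
      have h2 : (⟨ψ (Subgroup.inclusion le_sup_left x), hψT _⟩ : ↥T) = ⟨φ x, hTA (hφ x)⟩ :=
        Subtype.ext (hψP x)
      rw [h2] at h1
      exact h1
    · rintro ⟨m, hm⟩
      have hm' : ∀ x : P, ι ⟨φ x, hTA (hφ x)⟩ = (m : L) * ι ⟨x, hTA (hP x.2)⟩ * (m : L)⁻¹ :=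
        fun x => congrArg Subtype.val (hm x)
      have hPT : P ≤ T := hP.trans hTA
      have hφT : ∀ x, φ x ∈ T := fun x => hTA (hφ x)
      have hφE : φ ∈ E.Hom P := (hreal P hPT φ hφT).mpr ⟨m, hm'⟩
      have hPA : P ⊔ A ≤ T := sup_le hPT hAT
      have hmN : (m : L) ∈ Subgroup.normalizer (((A.subgroupOf T).map ι : Subgroup L) : Set L) :=
        m.2
      have hmem : ∀ z : ↥(P ⊔ A), (m : L) * ι ⟨z, hPA z.2⟩ * (m : L)⁻¹ ∈ ι.range := by
        let f : ↥(P ⊔ A) →* L :=
          (MulAut.conj (m : L)).toMonoidHom.comp (ι.comp (Subgroup.inclusion hPA))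
        have hf : ∀ z, f z = (m : L) * ι ⟨z, hPA z.2⟩ * (m : L)⁻¹ := fun z => rfl
        intro z
        rw [← hf]
        show z ∈ ι.range.comap f
        apply mem_of_sup_induction (ι.range.comap f)
        · intro x
          show f _ ∈ ι.range
          rw [hf]
          exact ⟨⟨φ x, hφT x⟩, hm' x⟩
        · intro a
          show f _ ∈ ι.range
          rw [hf]
          have h1 := conj_mem_of_mem_normalizer hmN (hmemA' a a.2)
          obtain ⟨y, -, hy⟩ := h1
          exact ⟨y, hy⟩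
      obtain ⟨ψ, hψT, hψι⟩ := exists_pull_conj ι hinj hPA (m : L) hmem
      have hψE : ψ ∈ E.Hom (P ⊔ A) := (hreal _ hPA ψ hψT).mpr ⟨m, hψι⟩
      refine ⟨hφE, hP, hφ, ψ, hψE, ?_, ?_⟩
      · intro x
        have h1 := hψι (Subgroup.inclusion le_sup_left x)
        have h2 := hm' x
        have h3 : (⟨ψ (Subgroup.inclusion le_sup_left x), hψT _⟩ : ↥T) = ⟨φ x, hφT x⟩ :=
          hinj (by rw [h1, h2]; rfl)
        exact congrArg Subtype.val h3
      · apply map_eq_of_le_inj le_sup_right ψ (E.injective_of_mem hψE)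
        rintro _ ⟨z, hz, rfl⟩
        have hzA : (z : Ω) ∈ A := hz
        have h1 := hψι z
        have h2 := conj_mem_of_mem_normalizer hmN (hmemA' z hzA)
        obtain ⟨a, ha, hay⟩ := hA'mem _ h2
        have h3 : (⟨ψ z, hψT z⟩ : ↥T) = ⟨a, hAT ha⟩ := hinj (by rw [h1, hay])
        have h4 : ψ z = a := congrArg Subtype.val h3
        rw [h4]
        exact ha
  · -- Sylow
    have hNp : IsPGroup p ↥(normalizerIn T A) := isPGroup_of_le hT hTA
    have hrp : IsPGroup p ↥(iotaN ι A).range :=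
      hNp.of_surjective (iotaN ι A).rangeRestrict (iotaN ι A).rangeRestrict_surjective
    obtain ⟨Sy₁, hSy₁⟩ := hrp.exists_le_sylow
    refine ⟨Sy₁, ?_⟩
    symm
    apply Subgroup.eq_of_le_of_card_ge hSy₁
    have hP₁p : IsPGroup p ↥((Sy₁ : Subgroup ↥(Subgroup.normalizer
        (((A.subgroupOf T).map ι : Subgroup L) : Set L))).map (Subgroup.subtype _)) :=
      Sy₁.isPGroup'.map _
    obtain ⟨g, hg⟩ := exists_cj_le_sylow Sy hP₁p
    rw [hSy] at hg
    have hgy : ∀ y : ↥(Subgroup.normalizer (((A.subgroupOf T).map ι : Subgroup L) : Set L)),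
        y ∈ (Sy₁ : Subgroup _) → g * (y : L) * g⁻¹ ∈ ι.range := by
      intro y hy
      apply hg
      exact ⟨(y : L), ⟨y, hy, rfl⟩, rfl⟩
    have hconjA : ∀ x : ↥A, g * ι ⟨x, hAT x.2⟩ * g⁻¹ ∈ ι.range :=
      fun x => hgy (iotaN ι A ⟨x, hAN x.2⟩) (hSy₁ ⟨_, rfl⟩)
    obtain ⟨φg, hφgT, hφgι⟩ := exists_pull_conj ι hinj hAT g hconjA
    have hφgE : φg ∈ E.Hom A := (hreal A hAT φg hφgT).mpr ⟨g, hφgι⟩
    have hfn := hA.2 φg.range ⟨φg, hφgE, rfl⟩
    have hex : ∀ y : ↥(Sy₁ : Subgroup ↥(Subgroup.normalizer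
        (((A.subgroupOf T).map ι : Subgroup L) : Set L))),
        ∃ t : ↥T, ι t = g * ((y : ↥(Subgroup.normalizer
          (((A.subgroupOf T).map ι : Subgroup L) : Set L))) : L) * g⁻¹ := fun y => hgy y y.2
    choose tf htf using hex
    haveI : Finite ↥φg.range := finite_of_le (by
      rintro _ ⟨a, rfl⟩
      exact hφgT a)
    have htN : ∀ y, (tf y : Ω) ∈ normalizerIn T φg.range := by
      intro y
      refine ⟨(tf y).2, ?_⟩
      apply Cfsg.Agent.Lib.Helper1.KN.mem_normalizer_of_forall_conj_mem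
      rintro _ ⟨a, rfl⟩
      have hyN : ((y : ↥(Subgroup.normalizer (((A.subgroupOf T).map ι : Subgroup L) : Set L))) : L)
          ∈ Subgroup.normalizer (((A.subgroupOf T).map ι : Subgroup L) : Set L) :=
        (y : ↥(Subgroup.normalizer (((A.subgroupOf T).map ι : Subgroup L) : Set L))).2
      have h1 := conj_mem_of_mem_normalizer hyN (hmemA' a a.2)
      obtain ⟨a₂, ha₂, ha₂y⟩ := hA'mem _ h1
      refine ⟨⟨a₂, ha₂⟩, ?_⟩
      have h2 : (⟨φg ⟨a₂, ha₂⟩, hφgT _⟩ : ↥T) = tf y * ⟨φg a, hφgT a⟩ * (tf y)⁻¹ := by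
        apply hinj
        rw [hφgι, map_mul, map_mul, map_inv, htf, hφgι, ha₂y]
        group
      exact congrArg Subtype.val h2
    have hinjf : Function.Injective (fun y : ↥(Sy₁ : Subgroup ↥(Subgroup.normalizer
        (((A.subgroupOf T).map ι : Subgroup L) : Set L))) =>
        (⟨tf y, htN y⟩ : ↥(normalizerIn T φg.range))) := by
      intro y y' hyy'
      have hyy'' : (⟨tf y, htN y⟩ : ↥(normalizerIn T φg.range)) = ⟨tf y', htN y'⟩ := hyy'
      have h1 : (tf y : Ω) = tf y' := Subtype.mk.inj hyy''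
      have h2 : tf y = tf y' := Subtype.ext h1
      have h3 := htf y
      rw [h2, htf y'] at h3
      have h5 := congrArg (fun z => g⁻¹ * z * g) h3
      have h6 : ∀ z : L, g⁻¹ * (g * z * g⁻¹) * g = z := fun z => by group
      simp only [h6] at h5
      exact Subtype.ext (Subtype.ext h5.symm)
    haveI : Finite ↥(normalizerIn T φg.range) := finite_normalizerIn _
    have hc1 := Nat.card_le_card_of_injective _ hinjf
    have hc2 : Nat.card ↥(iotaN ι A).range = Nat.card ↥(normalizerIn T A) :=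
      (Nat.card_congr (MonoidHom.ofInjective hinjN).toEquiv).symm
    rw [hc2]
    exact hc1.trans hfn

/-- the image of `A` is normal in the normalizer of its image -/
theorem map_iotaN_normal (ι : ↥T →* L) {A : Subgroup Ω} (hAT : A ≤ T) :
    ((A.subgroupOf (normalizerIn T A)).map (iotaN ι A)).Normal := by
  constructor
  rintro _ ⟨a, ha, rfl⟩ n
  have haA : (a : Ω) ∈ A := ha
  have hnN : (n : L) ∈ Subgroup.normalizer (((A.subgroupOf T).map ι : Subgroup L) : Set L) := n.2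
  have h0 : ι ⟨a, normalizerIn_le T A a.2⟩ ∈ (A.subgroupOf T).map ι :=
    ⟨⟨a, normalizerIn_le T A a.2⟩, haA, rfl⟩
  have h1 : (n : L) * ι ⟨a, normalizerIn_le T A a.2⟩ * (n : L)⁻¹ ∈ (A.subgroupOf T).map ι :=
    (Subgroup.mem_normalizer_iff.mp hnN _).mp h0
  obtain ⟨a', ha', ha'n⟩ := h1
  have ha'A : (a' : Ω) ∈ A := ha'
  refine ⟨⟨a', self_le_normalizerIn' hAT ha'A⟩, ha'A, ?_⟩
  apply Subtype.ext
  show ι ⟨(a' : Ω), _⟩ = (n : L) * ι ⟨a, normalizerIn_le T A a.2⟩ * (n : L)⁻¹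
  exact ha'n

end realized

universe u v

/-- **The fusion system of an `H`-free finite group on a Sylow subgroup is `H`-free.** -/
theorem group_sectionFree {G : Type u} [Group G] [Finite G] {p : ℕ} [Fact p.Prime]
    (P : Sylow p G) {H : Type v} [Group H] (hfree : ¬ Involves H G) :
    (groupFusionSystem (P : Subgroup G)).IsSectionFree p H := by
  intro Q hQfn hQc N hN L _ ι' hL hinv
  have hS : IsPGroup p ↥(P : Subgroup G) := P.isPGroup'
  have hreal : (groupFusionSystem (P : Subgroup G)).IsRealizedBy (P : Subgroup G).subtype := by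
    refine ⟨Subgroup.subtype_injective _, fun R hR φ hφ => ?_⟩
    constructor
    · rintro ⟨-, -, g, hg⟩
      exact ⟨g, fun x => hg x⟩
    · rintro ⟨g, hg⟩
      exact ⟨hR, hφ, g, fun x => hg x⟩
  have hsyl : ∃ Sy : Sylow p G, (Sy : Subgroup G) = (P : Subgroup G).subtype.range :=
    ⟨P, (Subgroup.range_subtype _).symm⟩
  obtain ⟨hreal₁, hsyl₁⟩ := normalizer_realized p hS (groupFusionSystem (P : Subgroup G))
    (P : Subgroup G).subtype hreal hsyl hQfn N hN
  haveI : Finite ↥(normalizerIn (P : Subgroup G) Q) := finite_of_le (normalizerIn_le _ Q)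
  have hTp : IsPGroup p ↥(normalizerIn (P : Subgroup G) Q) :=
    isPGroup_of_le hS (normalizerIn_le _ Q)
  have hQn : N.IsNormal Q := normal_self_of_isNormalizerSystem _ hQfn.1 N hN
  have hQcN : N.IsCentric Q := centric_self_of_isNormalizerSystem _ hQc N hN
  have hn₁ := map_iotaN_normal (P : Subgroup G).subtype hQfn.1
  obtain ⟨f, hfsurj, -⟩ := MU.exists_surjective_hom_to_model p hTp N hQn hQcN
    (iotaN (P : Subgroup G).subtype Q) ι' hreal₁ hsyl₁ hn₁ hL
  exact hfree (Cfsg.Agent.Lib.Helper2.Inv.involves_of_surjective_hom _ f hfsurj hinv)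

end Cfsg.Agent.Lib.Helper1.QF

namespace Cfsg.Agent.Lib.Helper1.GF

open Cfsg Cfsg.FusionSystem Cfsg.Agent.Lib.Helper9 Cfsg.Agent.Lib.Helper1.KN
  Cfsg.Agent.Lib.Helper1.KL Cfsg.Agent.Lib.Helper1.QF

universe u

section zj

variable {p : ℕ} [Fact p.Prime]

theorem cT_ne_bot (Q : Type u) [Group Q] [Finite Q] (hQ : IsPGroup p Q) (hnt : Nontrivial Q) :
    cT Q ≠ ⊥ := by
  intro h
  have h1 : centerThompsonAOf (⊤ : Subgroup Q) ≠ ⊥ :=
    Cfsg.Agent.Lib.Helper1.ZJ.centerThompsonAOf_ne_bot (hQ.to_subgroup ⊤) top_ne_bot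
  apply h1
  rw [centerThompsonAOf_eq_map]
  have h2 : cT Q = (cT ↥(⊤ : Subgroup Q)).map
      (Subgroup.topEquiv : ↥(⊤ : Subgroup Q) ≃* Q).toMonoidHom := cT_map _
  rw [h] at h2
  have h3 : cT ↥(⊤ : Subgroup Q) = ⊥ :=
    (Subgroup.map_eq_bot_iff_of_injective _
      (Subgroup.topEquiv : ↥(⊤ : Subgroup Q) ≃* Q).injective).mp h2.symm
  rw [h3, Subgroup.map_bot]

theorem cT_normal_of_free (hp : p ≠ 2) (L : Type u) [Group L] [Finite L] (P : Sylow p L)
    (hceq : Subgroup.centralizer ((pCore p L : Subgroup L) : Set L) =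
      pCore p L ⊓ Subgroup.centralizer ((pCore p L : Subgroup L) : Set L))
    (hfree : ¬ Involves ↥(qd p) L) :
    (((cT ↥(P : Subgroup L)).map (P : Subgroup L).subtype : Subgroup L)).Normal := by
  rw [← centerThompsonAOf_eq_map]
  exact Cfsg.Agent.S0664.result hp hfree (hceq.le.trans inf_le_left) P

/-- for odd `p`, a `Qd(p)`-free saturated fusion system is solvable and `Z(J(S))` is normal in
it -/
theorem zj_normal_of_free (hp : p ≠ 2) {Ω : Type u} [Group Ω] {S : Subgroup Ω} [Finite S]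
    (hS : IsPGroup p S) (F : FusionSystem S) (hF : F.IsSaturated p)
    (hfree : F.IsSectionFree p ↥(qd p)) :
    F.IsSolvableSystem ∧ F.IsNormal (centerThompsonAOf S) := by
  have h := functor_normal (p := p) (fun Q _ => cT Q)
    (fun Q _ _ hQ hnt => cT_ne_bot Q hQ hnt)
    (fun Q R _ _ _ hQ φ => (cT_map φ).symm)
    (fun L _ _ P hceq hfr => cT_normal_of_free hp L P hceq hfr) hS F hF hfree
  rw [centerThompsonAOf_eq_map]
  exact h

end zj

end Cfsg.Agent.Lib.Helper1.GF
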