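import Mathlib
import Cfsg.Agent.Lib.Helper1.QI11
import Cfsg.Agent.Lib.Helper1.QdB1

set_option autoImplicit false
set_option linter.style.haveILetI false
set_option linter.unusedSectionVars false
set_option linter.unusedVariables false
set_option maxHeartbeats 1000000

/-! Involvement of `Qd(p)` is visible in the fusion system: configurations of generators, their
transfer between groups realizing the same fusion system. -/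

namespace Cfsg.Agent.Lib.Helper1.QG

open Cfsg Cfsg.FusionSystem Cfsg.Agent.Lib.Helper9 Cfsg.Agent.Lib.Helper1.QdA
  Cfsg.Agent.Lib.Helper1.SL2Three

universe u v

/-- a configuration of elements forcing a section `Qd(p)` -/
structure GrpQd (p : ℕ) {Γ : Type*} [Group Γ] (Q Y : Subgroup Γ) (q₀ q₁ a b : Γ) : Prop where
  hYQ : Y ≤ Q
  hq₀ : q₀ ∈ Q
  hq₁ : q₁ ∈ Q
  hQY : ∀ q ∈ Q, ∀ y ∈ Y, q * y * q⁻¹ ∈ Y
  haQ : ∀ x ∈ Q, a * x * a⁻¹ ∈ Q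
  haY : ∀ y ∈ Y, a * y * a⁻¹ ∈ Y
  hbQ : ∀ x ∈ Q, b * x * b⁻¹ ∈ Q
  hbY : ∀ y ∈ Y, b * y * b⁻¹ ∈ Y
  hcomm : (q₀ * q₁)⁻¹ * (q₁ * q₀) ∈ Y
  hp₀ : q₀ ^ p ∈ Y
  hp₁ : q₁ ^ p ∈ Y
  hind : ∀ i j : ℕ, q₀ ^ i * q₁ ^ j ∈ Y → p ∣ i ∧ p ∣ j
  ha₀ : (a * q₀ * a⁻¹)⁻¹ * q₀ ∈ Y
  ha₁ : (a * q₁ * a⁻¹)⁻¹ * (q₀ * q₁) ∈ Y
  hb₀ : (b * q₀ * b⁻¹)⁻¹ * (q₀ * q₁) ∈ Y
  hb₁ : (b * q₁ * b⁻¹)⁻¹ * q₁ ∈ Y

theorem involves_of_grpQd {p : ℕ} [Fact p.Prime] (hp2 : p ≠ 2) {Γ : Type u} [Group Γ] [Finite Γ]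
    {Q Y : Subgroup Γ} {q₀ q₁ a b : Γ} (h : GrpQd p Q Y q₀ q₁ a b) : Involves ↥(qd p) Γ := by
  obtain ⟨M, hM⟩ : ∃ M : Subgroup Γ,
    M = Subgroup.normalizer (Q : Set Γ) ⊓ Subgroup.normalizer (Y : Set Γ) := ⟨_, rfl⟩
  have hQM : Q ≤ M := by
    rw [hM]
    refine le_inf Subgroup.le_normalizer ?_
    intro q hq
    exact KN.mem_normalizer_of_forall_conj_mem (fun y hy => h.hQY q hq y hy)
  have haM : a ∈ M := by
    rw [hM]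
    exact ⟨KN.mem_normalizer_of_forall_conj_mem h.haQ, KN.mem_normalizer_of_forall_conj_mem h.haY⟩
  have hbM : b ∈ M := by
    rw [hM]
    exact ⟨KN.mem_normalizer_of_forall_conj_mem h.hbQ, KN.mem_normalizer_of_forall_conj_mem h.hbY⟩
  have hMY : M ≤ Subgroup.normalizer (Y : Set Γ) := by
    rw [hM]
    exact inf_le_right
  haveI hYn : (Y.subgroupOf M).Normal := Subgroup.normal_subgroupOf_of_le_normalizer hMY
  obtain ⟨π, hπ⟩ : ∃ π : ↥M →* ↥M ⧸ Y.subgroupOf M, π = QuotientGroup.mk' (Y.subgroupOf M) :=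
    ⟨_, rfl⟩
  have key : ∀ x y : ↥M, ((x : Γ))⁻¹ * (y : Γ) ∈ Y → π x = π y := by
    intro x y hxy
    rw [hπ]
    show (QuotientGroup.mk x : ↥M ⧸ Y.subgroupOf M) = QuotientGroup.mk y
    rw [QuotientGroup.eq]
    show ((x⁻¹ * y : ↥M) : Γ) ∈ Y
    exact hxy
  have key1 : ∀ x : ↥M, π x = 1 → (x : Γ) ∈ Y := by
    intro x hx
    rw [hπ] at hx
    have : x ∈ Y.subgroupOf M := (QuotientGroup.eq_one_iff x).mp hx
    exact this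
  have key2 : ∀ x : ↥M, (x : Γ) ∈ Y → π x = 1 := by
    intro x hx
    rw [hπ]
    exact (QuotientGroup.eq_one_iff x).mpr hx
  obtain ⟨U₀, hU₀⟩ : ∃ U₀ : ↥M, (U₀ : Γ) = q₀ := ⟨⟨q₀, hQM h.hq₀⟩, rfl⟩
  obtain ⟨U₁, hU₁⟩ : ∃ U₁ : ↥M, (U₁ : Γ) = q₁ := ⟨⟨q₁, hQM h.hq₁⟩, rfl⟩
  obtain ⟨A, hA⟩ : ∃ A : ↥M, (A : Γ) = a := ⟨⟨a, haM⟩, rfl⟩
  obtain ⟨B, hB⟩ : ∃ B : ↥M, (B : Γ) = b := ⟨⟨b, hbM⟩, rfl⟩
  have h₁ : (π U₁) ^ p = 1 := by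
    rw [← map_pow]
    apply key2
    rw [Subgroup.coe_pow, hU₁]
    exact h.hp₁
  apply Cfsg.Agent.Lib.Helper2.Inv.involves_of_subgroup M
  apply Cfsg.Agent.Lib.Helper2.Inv.involves_of_quotient (Y.subgroupOf M)
  refine involves_qd_of_generators hp2 (π U₀) (π U₁) (π A) (π B) 1 (Or.inl rfl) ?_ ?_ h₁ ?_ ?_ ?_
    ?_ ?_
  · rw [← map_mul, ← map_mul]
    apply key
    rw [Subgroup.coe_mul, Subgroup.coe_mul, hU₀, hU₁]
    exact h.hcomm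
  · rw [← map_pow]
    apply key2
    rw [Subgroup.coe_pow, hU₀]
    exact h.hp₀
  · intro x y hxy
    have hxy' : (π U₀) ^ x.val * (π U₁) ^ y.val = 1 := hxy
    rw [← map_pow, ← map_pow, ← map_mul] at hxy'
    have h2 := key1 _ hxy'
    rw [Subgroup.coe_mul, Subgroup.coe_pow, Subgroup.coe_pow, hU₀, hU₁] at h2
    obtain ⟨h3, h4⟩ := h.hind _ _ h2
    exact ⟨(ZMod.val_eq_zero x).mp (Nat.eq_zero_of_dvd_of_lt h3 (ZMod.val_lt x)),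
      (ZMod.val_eq_zero y).mp (Nat.eq_zero_of_dvd_of_lt h4 (ZMod.val_lt y))⟩
  · have e : π A * π U₀ * (π A)⁻¹ = π (A * U₀ * A⁻¹) := by
      simp only [map_mul, map_inv]
    rw [e]
    apply key
    rw [Subgroup.coe_mul, Subgroup.coe_mul, Subgroup.coe_inv, hU₀, hA]
    exact h.ha₀
  · have e : π A * π U₁ * (π A)⁻¹ = π (A * U₁ * A⁻¹) := by
      simp only [map_mul, map_inv]
    rw [e, ← map_mul]
    apply key
    rw [Subgroup.coe_mul, Subgroup.coe_mul, Subgroup.coe_mul, Subgroup.coe_inv, hU₀, hU₁, hA]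
    exact h.ha₁
  · have e : π B * π U₀ * (π B)⁻¹ = π (B * U₀ * B⁻¹) := by
      simp only [map_mul, map_inv]
    rw [e, zp_one h₁, ← map_mul]
    apply key
    rw [Subgroup.coe_mul, Subgroup.coe_mul, Subgroup.coe_mul, Subgroup.coe_inv, hU₀, hU₁, hB]
    exact h.hb₀
  · have e : π B * π U₁ * (π B)⁻¹ = π (B * U₁ * B⁻¹) := by
      simp only [map_mul, map_inv]
    rw [e]
    apply key
    rw [Subgroup.coe_mul, Subgroup.coe_mul, Subgroup.coe_inv, hU₁, hB]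
    exact h.hb₁

theorem GrpQd.map {p : ℕ} {Γ : Type*} [Group Γ] {Γ' : Type*} [Group Γ'] (f : Γ →* Γ')
    (hf : Function.Injective f) {Q Y : Subgroup Γ} {q₀ q₁ a b : Γ} (h : GrpQd p Q Y q₀ q₁ a b) :
    GrpQd p (Q.map f) (Y.map f) (f q₀) (f q₁) (f a) (f b) where
  hYQ := Subgroup.map_mono h.hYQ
  hq₀ := Subgroup.mem_map_of_mem f h.hq₀
  hq₁ := Subgroup.mem_map_of_mem f h.hq₁
  hQY := by
    rintro _ ⟨q, hq, rfl⟩ _ ⟨y, hy, rfl⟩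
    exact ⟨q * y * q⁻¹, h.hQY q hq y hy, by simp only [map_mul, map_inv]⟩
  haQ := by
    rintro _ ⟨x, hx, rfl⟩
    exact ⟨a * x * a⁻¹, h.haQ x hx, by simp only [map_mul, map_inv]⟩
  haY := by
    rintro _ ⟨x, hx, rfl⟩
    exact ⟨a * x * a⁻¹, h.haY x hx, by simp only [map_mul, map_inv]⟩
  hbQ := by
    rintro _ ⟨x, hx, rfl⟩
    exact ⟨b * x * b⁻¹, h.hbQ x hx, by simp only [map_mul, map_inv]⟩
  hbY := by
    rintro _ ⟨x, hx, rfl⟩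
    exact ⟨b * x * b⁻¹, h.hbY x hx, by simp only [map_mul, map_inv]⟩
  hcomm := ⟨_, h.hcomm, by simp only [map_mul, map_inv]⟩
  hp₀ := ⟨_, h.hp₀, by simp only [map_pow]⟩
  hp₁ := ⟨_, h.hp₁, by simp only [map_pow]⟩
  hind := by
    intro i j hij
    obtain ⟨y, hy, hyf⟩ := hij
    have h1 : y = q₀ ^ i * q₁ ^ j := hf (by rw [hyf]; simp only [map_mul, map_pow])
    rw [h1] at hy
    exact h.hind i j hy
  ha₀ := ⟨_, h.ha₀, by simp only [map_mul, map_inv]⟩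
  ha₁ := ⟨_, h.ha₁, by simp only [map_mul, map_inv]⟩
  hb₀ := ⟨_, h.hb₀, by simp only [map_mul, map_inv]⟩
  hb₁ := ⟨_, h.hb₁, by simp only [map_mul, map_inv]⟩

/-- transfer of a configuration to another group realizing the same fusion system -/
theorem GrpQd.transfer {p : ℕ} {G : Type*} [Group G] {P : Subgroup G} {L : Type*} [Group L]
    (ι : ↥P →* L) (hreal : (groupFusionSystem P).IsRealizedBy ι) {Q Y : Subgroup G}
    {q₀ q₁ a b : G} (h : GrpQd p Q Y q₀ q₁ a b) (hQP : Q ≤ P) :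
    ∃ a' b' : L, GrpQd p ((Q.subgroupOf P).map ι) ((Y.subgroupOf P).map ι)
      (ι ⟨q₀, hQP h.hq₀⟩) (ι ⟨q₁, hQP h.hq₁⟩) a' b' := by
  obtain ⟨hinj, hrl⟩ := hreal
  have hex : ∀ c : G, (∀ x ∈ Q, c * x * c⁻¹ ∈ Q) → ∃ c' : L, ∀ (x : G) (hx : x ∈ Q)
      (hx' : c * x * c⁻¹ ∈ Q), c' * ι ⟨x, hQP hx⟩ * c'⁻¹ = ι ⟨c * x * c⁻¹, hQP hx'⟩ := by
    intro c hc
    have hval : ∀ x : ↥Q, conjHom Q c x ∈ P := fun x => hQP (hc x x.2)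
    have hmem : conjHom Q c ∈ (groupFusionSystem P).Hom Q := ⟨hQP, hval, c, fun x => rfl⟩
    obtain ⟨c', hc'⟩ := (hrl Q hQP (conjHom Q c) hval).mp hmem
    exact ⟨c', fun x hx hx' => (hc' ⟨x, hx⟩).symm⟩
  obtain ⟨a', ha'⟩ := hex a h.haQ
  obtain ⟨b', hb'⟩ := hex b h.hbQ
  have memQ : ∀ (x : G) (hx : x ∈ Q), ι ⟨x, hQP hx⟩ ∈ (Q.subgroupOf P).map ι :=
    fun x hx => ⟨⟨x, hQP hx⟩, hx, rfl⟩
  have memY : ∀ (x : G) (hx : x ∈ Y), ι ⟨x, hQP (h.hYQ hx)⟩ ∈ (Y.subgroupOf P).map ι :=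
    fun x hx => ⟨⟨x, hQP (h.hYQ hx)⟩, hx, rfl⟩
  obtain ⟨Q₀, hQ₀⟩ : ∃ Q₀ : ↥P, Q₀ = ⟨q₀, hQP h.hq₀⟩ := ⟨_, rfl⟩
  obtain ⟨Q₁, hQ₁⟩ : ∃ Q₁ : ↥P, Q₁ = ⟨q₁, hQP h.hq₁⟩ := ⟨_, rfl⟩
  have hQ₀c : (Q₀ : G) = q₀ := by rw [hQ₀]
  have hQ₁c : (Q₁ : G) = q₁ := by rw [hQ₁]
  refine ⟨a', b', ?_⟩
  rw [← hQ₀, ← hQ₁]
  have memY' : ∀ z : ↥P, (z : G) ∈ Y → ι z ∈ (Y.subgroupOf P).map ι := fun z hz => ⟨z, hz, rfl⟩
  have memQ' : ∀ z : ↥P, (z : G) ∈ Q → ι z ∈ (Q.subgroupOf P).map ι := fun z hz => ⟨z, hz, rfl⟩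
  have haz : ∀ z : ↥P, ∀ hz : (z : G) ∈ Q,
      a' * ι z * a'⁻¹ = ι ⟨a * z * a⁻¹, hQP (h.haQ z hz)⟩ := fun z hz => ha' z hz (h.haQ z hz)
  have hbz : ∀ z : ↥P, ∀ hz : (z : G) ∈ Q,
      b' * ι z * b'⁻¹ = ι ⟨b * z * b⁻¹, hQP (h.hbQ z hz)⟩ := fun z hz => hb' z hz (h.hbQ z hz)
  have hQ₀Q : (Q₀ : G) ∈ Q := by rw [hQ₀c]; exact h.hq₀
  have hQ₁Q : (Q₁ : G) ∈ Q := by rw [hQ₁c]; exact h.hq₁
  constructor
  · exact Subgroup.map_mono (fun x hx => h.hYQ hx)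
  · exact memQ' Q₀ hQ₀Q
  · exact memQ' Q₁ hQ₁Q
  · rintro _ ⟨q, hq, rfl⟩ _ ⟨y, hy, rfl⟩
    refine ⟨q * y * q⁻¹, ?_, by simp only [map_mul, map_inv]⟩
    exact h.hQY q hq y hy
  · rintro _ ⟨x, hx, rfl⟩
    rw [haz x hx]
    exact memQ' _ (h.haQ x hx)
  · rintro _ ⟨x, hx, rfl⟩
    rw [haz x (h.hYQ hx)]
    exact memY' _ (h.haY x hx)
  · rintro _ ⟨x, hx, rfl⟩
    rw [hbz x hx]
    exact memQ' _ (h.hbQ x hx)
  · rintro _ ⟨x, hx, rfl⟩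
    rw [hbz x (h.hYQ hx)]
    exact memY' _ (h.hbY x hx)
  · refine ⟨(Q₀ * Q₁)⁻¹ * (Q₁ * Q₀), ?_, by simp only [map_mul, map_inv]⟩
    show (((Q₀ * Q₁)⁻¹ * (Q₁ * Q₀) : ↥P) : G) ∈ Y
    simp only [Subgroup.coe_mul, Subgroup.coe_inv, hQ₀c, hQ₁c]
    exact h.hcomm
  · refine ⟨Q₀ ^ p, ?_, map_pow ι Q₀ p⟩
    show ((Q₀ ^ p : ↥P) : G) ∈ Y
    rw [Subgroup.coe_pow, hQ₀c]
    exact h.hp₀
  · refine ⟨Q₁ ^ p, ?_, map_pow ι Q₁ p⟩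
    show ((Q₁ ^ p : ↥P) : G) ∈ Y
    rw [Subgroup.coe_pow, hQ₁c]
    exact h.hp₁
  · intro i j hij
    obtain ⟨y, hy, hyf⟩ := hij
    have h1 : y = Q₀ ^ i * Q₁ ^ j := hinj (by rw [hyf]; simp only [map_mul, map_pow])
    have hy' : (y : G) ∈ Y := hy
    rw [h1, Subgroup.coe_mul, Subgroup.coe_pow, Subgroup.coe_pow, hQ₀c, hQ₁c] at hy'
    exact h.hind i j hy'
  · rw [haz Q₀ hQ₀Q]
    refine ⟨(⟨a * Q₀ * a⁻¹, hQP (h.haQ Q₀ hQ₀Q)⟩ : ↥P)⁻¹ * Q₀, ?_, by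
      simp only [map_mul, map_inv]⟩
    show (a * (Q₀ : G) * a⁻¹)⁻¹ * (Q₀ : G) ∈ Y
    rw [hQ₀c]
    exact h.ha₀
  · rw [haz Q₁ hQ₁Q]
    refine ⟨(⟨a * Q₁ * a⁻¹, hQP (h.haQ Q₁ hQ₁Q)⟩ : ↥P)⁻¹ * (Q₀ * Q₁), ?_, by
      simp only [map_mul, map_inv]⟩
    show (a * (Q₁ : G) * a⁻¹)⁻¹ * ((Q₀ : G) * (Q₁ : G)) ∈ Y
    rw [hQ₀c, hQ₁c]
    exact h.ha₁
  · rw [hbz Q₀ hQ₀Q]
    refine ⟨(⟨b * Q₀ * b⁻¹, hQP (h.hbQ Q₀ hQ₀Q)⟩ : ↥P)⁻¹ * (Q₀ * Q₁), ?_, by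
      simp only [map_mul, map_inv]⟩
    show (b * (Q₀ : G) * b⁻¹)⁻¹ * ((Q₀ : G) * (Q₁ : G)) ∈ Y
    rw [hQ₀c, hQ₁c]
    exact h.hb₀
  · rw [hbz Q₁ hQ₁Q]
    refine ⟨(⟨b * Q₁ * b⁻¹, hQP (h.hbQ Q₁ hQ₁Q)⟩ : ↥P)⁻¹ * Q₁, ?_, by
      simp only [map_mul, map_inv]⟩
    show (b * (Q₁ : G) * b⁻¹)⁻¹ * (Q₁ : G) ∈ Y
    rw [hQ₁c]
    exact h.hb₁

section construct

variable {p : ℕ} [hp : Fact p.Prime]

theorem act_x0 : act (xmat (ZMod p) 1) (Multiplicative.ofAdd ![1, 0]) =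
    Multiplicative.ofAdd ![1, 0] := by
  apply Multiplicative.toAdd.injective
  rw [act_apply, toAdd_ofAdd, toAdd_ofAdd]
  ext i
  fin_cases i <;> simp [xmat, Matrix.mulVec, dotProduct, Fin.sum_univ_two]

theorem act_x1 : act (xmat (ZMod p) 1) (Multiplicative.ofAdd ![0, 1]) =
    Multiplicative.ofAdd ![1, 0] * Multiplicative.ofAdd ![0, 1] := by
  apply Multiplicative.toAdd.injective
  rw [act_apply, toAdd_ofAdd, toAdd_mul, toAdd_ofAdd, toAdd_ofAdd]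
  ext i
  fin_cases i <;> simp [xmat, Matrix.mulVec, dotProduct, Fin.sum_univ_two]

theorem act_y0 : act (ymat (ZMod p) 1) (Multiplicative.ofAdd ![1, 0]) =
    Multiplicative.ofAdd ![1, 0] * Multiplicative.ofAdd ![0, 1] := by
  apply Multiplicative.toAdd.injective
  rw [act_apply, toAdd_ofAdd, toAdd_mul, toAdd_ofAdd, toAdd_ofAdd]
  ext i
  fin_cases i <;> simp [ymat, Matrix.mulVec, dotProduct, Fin.sum_univ_two]

theorem act_y1 : act (ymat (ZMod p) 1) (Multiplicative.ofAdd ![0, 1]) =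
    Multiplicative.ofAdd ![0, 1] := by
  apply Multiplicative.toAdd.injective
  rw [act_apply, toAdd_ofAdd, toAdd_ofAdd]
  ext i
  fin_cases i <;> simp [ymat, Matrix.mulVec, dotProduct, Fin.sum_univ_two]

/-- a group mapping onto `Qd(p)` contains a configuration -/
theorem exists_grpQd_of_surjective {K : Type u} [Group K] [Finite K] (φ : K →* ↥(qd p))
    (hφ : Function.Surjective φ) :
    ∃ (Q Y : Subgroup K) (q₀ q₁ a b : K), GrpQd p Q Y q₀ q₁ a b ∧ IsPGroup p Q := by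
  obtain ⟨X, hX⟩ : ∃ X : Subgroup K, X = (trans (p := p)).range.comap φ := ⟨_, rfl⟩
  haveI hXn : X.Normal := by
    rw [hX]
    exact Subgroup.Normal.comap inferInstance φ
  have hXmem : ∀ k : K, k ∈ X ↔ φ k ∈ (trans (p := p)).range := by
    intro k
    rw [hX]
    exact Subgroup.mem_comap
  obtain ⟨PX⟩ : Nonempty (Sylow p ↥X) := inferInstance
  obtain ⟨Q, hQ⟩ : ∃ Q : Subgroup K, Q = (PX : Subgroup ↥X).map X.subtype := ⟨_, rfl⟩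
  have hfrat : Subgroup.normalizer (Q : Set K) ⊔ X = ⊤ := by
    rw [hQ]
    exact Sylow.normalizer_sup_eq_top PX
  have hQX : Q ≤ X := by
    rw [hQ]
    exact Subgroup.map_subtype_le _
  have hQp : IsPGroup p Q := by
    rw [hQ]
    exact PX.isPGroup'.map _
  have hVcomm : ∀ x y : ↥(qd p), x ∈ (trans (p := p)).range → y ∈ (trans (p := p)).range →
      x * y = y * x := by
    rintro _ _ ⟨v, rfl⟩ ⟨w, rfl⟩
    rw [← map_mul, ← map_mul, mul_comm]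
  have hφQ : ∀ v : Pl p, ∃ q ∈ Q, φ q = trans v := by
    intro v
    obtain ⟨φX, hφX'⟩ : ∃ φX : ↥X →* ↥(trans (p := p)).range,
        ∀ x : ↥X, ((φX x : ↥(trans (p := p)).range) : ↥(qd p)) = φ x :=
      ⟨(φ.comp X.subtype).codRestrict _ (fun x => (hXmem x).mp x.2), fun x => rfl⟩
    have hφX : Function.Surjective φX := by
      rintro ⟨w, hw⟩
      obtain ⟨k, hk⟩ := hφ w
      have hkX : k ∈ X := by
        rw [hXmem, hk]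
        exact hw
      exact ⟨⟨k, hkX⟩, Subtype.ext ((hφX' _).trans hk)⟩
    have h1 : (⊤ : Subgroup ↥(trans (p := p)).range) =
        ((PX.mapSurjective hφX : Sylow p ↥(trans (p := p)).range) : Subgroup _) :=
      (PX.mapSurjective hφX).is_maximal' ((QdB.isPGroup_trans_range (p := p)).to_subgroup ⊤) le_top
    have h2 : (⟨trans v, ⟨v, rfl⟩⟩ : ↥(trans (p := p)).range) ∈
        ((PX.mapSurjective hφX : Sylow p ↥(trans (p := p)).range) : Subgroup _) := by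
      rw [← h1]
      exact Subgroup.mem_top _
    rw [Sylow.coe_mapSurjective] at h2
    obtain ⟨x, hx, hxv⟩ := h2
    refine ⟨(x : K), ?_, ?_⟩
    · rw [hQ]
      exact ⟨x, hx, rfl⟩
    · rw [← hφX' x, hxv]
  obtain ⟨v₀, hv₀⟩ : ∃ v₀ : Pl p, v₀ = Multiplicative.ofAdd ![1, 0] := ⟨_, rfl⟩
  obtain ⟨v₁, hv₁⟩ : ∃ v₁ : Pl p, v₁ = Multiplicative.ofAdd ![0, 1] := ⟨_, rfl⟩
  obtain ⟨q₀, hq₀Q, hq₀⟩ := hφQ v₀
  obtain ⟨q₁, hq₁Q, hq₁⟩ := hφQ v₁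
  have hnorm : ∀ C : ↥(qd p), ∃ n : K, n ∈ Subgroup.normalizer (Q : Set K) ∧
      ∃ w ∈ (trans (p := p)).range, φ n = C * w := by
    intro C
    obtain ⟨k, hk⟩ := hφ C
    have hk' : k ∈ Subgroup.normalizer (Q : Set K) ⊔ X := by
      rw [hfrat]
      exact Subgroup.mem_top k
    obtain ⟨n, hn, x, hx, hnx⟩ := Subgroup.mem_sup_of_normal_right.mp hk'
    refine ⟨n, hn, (φ x)⁻¹, Subgroup.inv_mem _ ((hXmem x).mp hx), ?_⟩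
    rw [← hk, ← hnx, map_mul, mul_inv_cancel_right]
  obtain ⟨a, haN, wa, hwa, hφa⟩ := hnorm (lin (xmat (ZMod p) 1))
  obtain ⟨b, hbN, wb, hwb, hφb⟩ := hnorm (lin (ymat (ZMod p) 1))
  have hconj : ∀ (n : K) (C w : ↥(qd p)), w ∈ (trans (p := p)).range → φ n = C * w →
      ∀ (q : K) (v : Pl p), φ q = trans v → φ (n * q * n⁻¹) = C * trans v * C⁻¹ := by
    intro n C w hw hn q v hq
    rw [map_mul, map_mul, map_inv, hn, hq, mul_inv_rev]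
    have h1 := hVcomm w (trans v) hw ⟨v, rfl⟩
    calc C * w * trans v * (w⁻¹ * C⁻¹) = C * (w * trans v * w⁻¹) * C⁻¹ := by group
      _ = C * trans v * C⁻¹ := by rw [h1, mul_inv_cancel_right]
  have hker : ∀ (k y : K), y ∈ φ.ker → k * y * k⁻¹ ∈ φ.ker := fun k y hy =>
    (MonoidHom.normal_ker φ).conj_mem y hy k
  have haQ : ∀ x ∈ Q, a * x * a⁻¹ ∈ Q := fun x hx => (Subgroup.mem_normalizer_iff.mp haN x).mp hx
  have hbQ : ∀ x ∈ Q, b * x * b⁻¹ ∈ Q := fun x hx => (Subgroup.mem_normalizer_iff.mp hbN x).mp hx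
  have hmk : ∀ x : K, φ x = 1 → x ∈ φ.ker := fun x hx => MonoidHom.mem_ker.mpr hx
  refine ⟨Q, Q ⊓ φ.ker, q₀, q₁, a, b, ?_, hQp⟩
  constructor
  · exact inf_le_left
  · exact hq₀Q
  · exact hq₁Q
  · intro q hq y hy
    exact ⟨Q.mul_mem (Q.mul_mem hq hy.1) (Q.inv_mem hq), hker q y hy.2⟩
  · exact haQ
  · intro y hy
    exact ⟨haQ y hy.1, hker a y hy.2⟩
  · exact hbQ
  · intro y hy
    exact ⟨hbQ y hy.1, hker b y hy.2⟩
  · refine ⟨Q.mul_mem (Q.inv_mem (Q.mul_mem hq₀Q hq₁Q)) (Q.mul_mem hq₁Q hq₀Q), hmk _ ?_⟩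
    rw [map_mul, map_inv, map_mul, map_mul, hq₀, hq₁,
      hVcomm (trans v₁) (trans v₀) ⟨_, rfl⟩ ⟨_, rfl⟩, inv_mul_cancel]
  · refine ⟨Q.pow_mem hq₀Q p, hmk _ ?_⟩
    rw [map_pow, hq₀, ← map_pow, pl_pow_p, map_one]
  · refine ⟨Q.pow_mem hq₁Q p, hmk _ ?_⟩
    rw [map_pow, hq₁, ← map_pow, pl_pow_p, map_one]
  · intro i j hij
    have h1 : trans (v₀ ^ i * v₁ ^ j) = 1 := by
      rw [map_mul, map_pow, map_pow, ← hq₀, ← hq₁, ← map_pow, ← map_pow, ← map_mul]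
      exact hij.2
    have h2 : v₀ ^ i * v₁ ^ j = 1 := trans_injective (h1.trans (map_one _).symm)
    have h3 := congrArg Multiplicative.toAdd h2
    rw [toAdd_mul, toAdd_pow, toAdd_pow, toAdd_one, hv₀, hv₁, toAdd_ofAdd, toAdd_ofAdd] at h3
    have h30 := congrFun h3 0
    have h31 := congrFun h3 1
    simp at h30 h31
    exact ⟨(ZMod.natCast_eq_zero_iff i p).mp h30, (ZMod.natCast_eq_zero_iff j p).mp h31⟩
  · refine ⟨Q.mul_mem (Q.inv_mem (haQ q₀ hq₀Q)) hq₀Q, hmk _ ?_⟩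
    rw [map_mul, map_inv, hconj a _ wa hwa hφa q₀ v₀ hq₀, lin_trans_conj, hv₀,
      act_x0, ← hv₀, hq₀, inv_mul_cancel]
  · refine ⟨Q.mul_mem (Q.inv_mem (haQ q₁ hq₁Q)) (Q.mul_mem hq₀Q hq₁Q), hmk _ ?_⟩
    rw [map_mul, map_inv, hconj a _ wa hwa hφa q₁ v₁ hq₁, lin_trans_conj, hv₁,
      act_x1, ← hv₀, ← hv₁, map_mul, map_mul, hq₀, hq₁, inv_mul_cancel]
  · refine ⟨Q.mul_mem (Q.inv_mem (hbQ q₀ hq₀Q)) (Q.mul_mem hq₀Q hq₁Q), hmk _ ?_⟩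
    rw [map_mul, map_inv, hconj b _ wb hwb hφb q₀ v₀ hq₀, lin_trans_conj, hv₀,
      act_y0, ← hv₀, ← hv₁, map_mul, map_mul, hq₀, hq₁, inv_mul_cancel]
  · refine ⟨Q.mul_mem (Q.inv_mem (hbQ q₁ hq₁Q)) hq₁Q, hmk _ ?_⟩
    rw [map_mul, map_inv, hconj b _ wb hwb hφb q₁ v₁ hq₁, lin_trans_conj, hv₁,
      act_y1, ← hv₁, hq₁, inv_mul_cancel]

/-- a finite group involving `Qd(p)` has a configuration inside a given Sylow subgroup -/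
theorem exists_grpQd_of_involves {G : Type u} [Group G] [Finite G] (P : Sylow p G)
    (h : Involves ↥(qd p) G) :
    ∃ (Q Y : Subgroup G) (q₀ q₁ a b : G), GrpQd p Q Y q₀ q₁ a b ∧ Q ≤ (P : Subgroup G) := by
  obtain ⟨K, φ, hφ⟩ := Cfsg.Agent.Lib.Helper2.Inv.exists_surjective_of_involves h
  obtain ⟨Q, Y, q₀, q₁, a, b, hc, hQp⟩ := exists_grpQd_of_surjective φ hφ
  have hc1 := hc.map K.subtype K.subtype_injective
  have hQp1 : IsPGroup p (Q.map K.subtype) := hQp.map _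
  obtain ⟨g, hg⟩ := exists_cj_le_sylow P hQp1
  have hc2 := hc1.map (MulAut.conj g).toMonoidHom (MulAut.conj g).injective
  exact ⟨_, _, _, _, _, _, hc2, hg⟩

end construct

open Cfsg.Agent.Lib.Helper1.KN Cfsg.Agent.Lib.Helper1.KL Cfsg.Agent.Lib.Helper1.QF

/-- **For odd `p`, a finite group whose fusion system is `Qd(p)`-free does not involve
`Qd(p)`.** -/
theorem not_involves_of_sectionFree {p : ℕ} [Fact p.Prime] (hp : p ≠ 2) {G : Type u} [Group G]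
    [Finite G] (P : Sylow p G)
    (hfree : (groupFusionSystem (P : Subgroup G)).IsSectionFree p ↥(qd p)) :
    ¬ Involves ↥(qd p) G := by
  intro hinv
  obtain ⟨Q, Y, q₀, q₁, a, b, hc, hQP⟩ := exists_grpQd_of_involves P hinv
  have hS : IsPGroup p ↥(P : Subgroup G) := P.isPGroup'
  have hF := groupFusion_saturated P
  obtain ⟨hsolv, -⟩ := GF.zj_normal_of_free hp hS _ hF hfree
  have hcon := Cfsg.Agent.S5158.result p hS _ hF hsolv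
  obtain ⟨-, Q₀, hQ₀n, hQ₀c⟩ := id hcon
  have hQ₀S : Q₀ ≤ (P : Subgroup G) := hQ₀n.1
  haveI : Finite Q₀ := finite_of_le hQ₀S
  have hNQ : normalizerIn (P : Subgroup G) Q₀ = (P : Subgroup G) :=
    normalizerIn_eq_of_forall (fun s hs x hx => conj_mem_of_isNormal _ hQ₀n hs hx)
  have hQ₀fn : (groupFusionSystem (P : Subgroup G)).IsFullyNormalized Q₀ :=
    fullyNormalized_of_normalizerIn_eq _ hQ₀S hNQ
  obtain ⟨N₀, hN₀⟩ := Cfsg.Agent.S5096.result (groupFusionSystem (P : Subgroup G)) Q₀ hQ₀S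
  obtain ⟨L, _, ι, hL⟩ := Cfsg.Agent.S5090.result p hS _ hcon
  have hL₀ := model_congr hNQ.symm p (groupFusionSystem (P : Subgroup G)) N₀
    (fun P' => (hN₀ P').trans (normalizerHom_eq_of_isNormal _ hQ₀n hNQ P')) ι hL
  have hfreeL := hfree Q₀ hQ₀fn hQ₀c N₀ hN₀ L _ hL₀
  haveI : Finite L := hL.1
  obtain ⟨a', b', hc'⟩ := hc.transfer ι hL.2.1 hQP
  exact hfreeL (involves_of_grpQd hp hc')

end Cfsg.Agent.Lib.Helper1.QG
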