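import Mathlib
import Cfsg.Agent.Lib.Helper1.QR5
import Cfsg.Agent.Lib.Helper1.GE1
import Cfsg.Agent.Lib.Helper3.RegularP
import Cfsg.Agent.Lib.Helper1.PCore
set_option autoImplicit false
set_option maxHeartbeats 4000000
set_option linter.unusedVariables false
set_option linter.unusedSectionVars false
set_option linter.style.longLine false
set_option linter.unusedSimpArgs false
set_option linter.deprecated false
set_option linter.style.haveILetI false
open scoped commutatorElement Pointwise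
universe u v
namespace Cfsg.Agent.Lib.Helper1.QR

open Cfsg

variable {G : Type u} [Group G] {p : ℕ} [hp : Fact p.Prime]

theorem conj_pow_mul_eq {g q c : G} (hc : g * c * g⁻¹ = c) (hq : g * q * g⁻¹ = c * q) (k : ℕ) :
    g ^ k * q * (g ^ k)⁻¹ = c ^ k * q := by
  induction k with
  | zero => simp
  | succ k ih =>
    have h1 : g ^ (k + 1) * q * (g ^ (k + 1))⁻¹ = g * (g ^ k * q * (g ^ k)⁻¹) * g⁻¹ := by
      rw [pow_succ']; group
    rw [h1, ih]
    have h2 : g * (c ^ k * q) * g⁻¹ = (g * c * g⁻¹) ^ k * (g * q * g⁻¹) := by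
      rw [conj_pow]; group
    rw [h2, hc, hq, pow_succ, mul_assoc]

theorem eq_one_of_pow_eq_one_of_coprime {c : G} {m n : ℕ} (hm : c ^ m = 1) (hn : c ^ n = 1)
    (hcop : m.Coprime n) : c = 1 := by
  have h1 : orderOf c ∣ m := orderOf_dvd_of_pow_eq_one hm
  have h2 : orderOf c ∣ n := orderOf_dvd_of_pow_eq_one hn
  have h3 : orderOf c ∣ 1 := by
    have := Nat.dvd_gcd h1 h2
    rwa [hcop] at this
  exact orderOf_eq_one_iff.mp (Nat.dvd_one.mp h3)

theorem one_lt_card_omegaOne [Finite G] {Q : Subgroup G} (hQ : IsPGroup p Q) (hQ1 : Q ≠ ⊥) :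
    1 < Nat.card (omegaOne p Q) := by
  have hQnt : Nontrivial ↥Q := (Subgroup.nontrivial_iff_ne_bot Q).mpr hQ1
  obtain ⟨k, hk⟩ := (IsPGroup.iff_card).mp hQ
  have hk0 : k ≠ 0 := by
    rintro rfl
    have h1 : Nat.card ↥Q = 1 := by simpa using hk
    have := Finite.one_lt_card (α := ↥Q)
    omega
  have hdvd : p ∣ Nat.card ↥Q := by rw [hk]; exact dvd_pow_self p hk0
  obtain ⟨x, hx⟩ := exists_prime_orderOf_dvd_card' p hdvd
  have hxp : (x : G) ^ p = 1 := by
    have := pow_orderOf_eq_one x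
    rw [hx] at this
    have h2 := congrArg (Subtype.val) this
    simpa using h2
  have hxmem : (x : G) ∈ omegaOne p Q := Subgroup.subset_closure ⟨x.2, hxp⟩
  have hx1 : (x : G) ≠ 1 := by
    intro h
    have : x = 1 := Subtype.ext h
    rw [this, orderOf_one] at hx
    exact hp.out.one_lt.ne hx
  rw [Finite.one_lt_card_iff_nontrivial]
  exact ⟨⟨⟨x, hxmem⟩, 1, fun h => hx1 (congrArg Subtype.val h)⟩⟩

/-- **Lemma F**: in a `p`-group all of whose subgroups are regular, an element of order prime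
to `p` normalizing `Q` and centralizing all elements of order dividing `p` centralizes `Q`. -/
theorem centralizes_of_centralizes_omega [Finite G]
    (hregs : ∀ Q : Subgroup G, IsPGroup p Q → IsRegularPGroup p ↥Q) {g : G}
    (hg : (orderOf g).Coprime p) :
    ∀ (n : ℕ) (Q : Subgroup G), Nat.card Q ≤ n → IsPGroup p Q → (∀ q ∈ Q, g * q * g⁻¹ ∈ Q) →
      (∀ q ∈ Q, q ^ p = 1 → g * q * g⁻¹ = q) → ∀ q ∈ Q, g * q * g⁻¹ = q := by
  intro n
  induction n with
  | zero =>
    intro Q hcard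
    have := Nat.card_pos (α := ↥Q)
    omega
  | succ n ih =>
    intro Q hcard hQ hnorm hcent q hq
    by_cases hQ1 : Q = ⊥
    · rw [hQ1, Subgroup.mem_bot] at hq
      rw [hq]; group
    have hreg := hregs Q hQ
    obtain ⟨Q₁, hQ₁⟩ : ∃ Q₁, Q₁ = powerClosure p 1 Q := ⟨_, rfl⟩
    have hQ₁Q : Q₁ ≤ Q := by
      rw [hQ₁]
      exact powerClosure_le_of 1 (fun x hx => Q.pow_mem hx _)
    have hcardeq := Cfsg.Agent.Lib.Helper4.RegOmega.card_eq Q hreg
    have hom := one_lt_card_omegaOne hQ hQ1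
    have hQ₁pos : 0 < Nat.card ↥Q₁ := Nat.card_pos
    have hlt : Nat.card ↥Q₁ < Nat.card ↥Q := by
      rw [hcardeq, ← hQ₁]
      calc Nat.card ↥Q₁ = Nat.card ↥Q₁ * 1 := (mul_one _).symm
        _ < Nat.card ↥Q₁ * Nat.card ↥(omegaOne p Q) := Nat.mul_lt_mul_of_pos_left hom hQ₁pos
    have hnorm₁ : ∀ y ∈ Q₁, g * y * g⁻¹ ∈ Q₁ := by
      intro y hy
      have h1 : (Q₁.map (MulAut.conj g).toMonoidHom) ≤ Q₁ := by
        rw [hQ₁, powerClosure_map]
        apply powerClosure_mono
        rintro _ ⟨x, hx, rfl⟩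
        exact hnorm x hx
      exact h1 ⟨y, hy, rfl⟩
    have hc₁ := ih Q₁ (by omega) (hQ.to_le hQ₁Q) hnorm₁ (fun y hy hyp => hcent y (hQ₁Q hy) hyp)
    -- the element a = g q g⁻¹
    have haQ : g * q * g⁻¹ ∈ Q := hnorm q hq
    have hqp : q ^ p ∈ Q₁ := by
      rw [hQ₁]
      have := pow_mem_powerClosure (p := p) 1 hq
      simpa using this
    have hap : (g * q * g⁻¹) ^ p = q ^ p := by
      rw [conj_pow]
      exact hc₁ _ hqp
    have h1 := (Cfsg.Agent.Lib.Helper3.regular_pow_eq_iff hreg ⟨g * q * g⁻¹, haQ⟩ ⟨q, hq⟩ 1).mp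
      (by apply Subtype.ext; simpa using hap)
    have hcp : (g * q * g⁻¹ * q⁻¹) ^ p = 1 := by
      have := congrArg Subtype.val h1
      simpa using this
    have hcQ : g * q * g⁻¹ * q⁻¹ ∈ Q := Q.mul_mem haQ (Q.inv_mem hq)
    have hcc := hcent _ hcQ hcp
    have hqc : g * q * g⁻¹ = (g * q * g⁻¹ * q⁻¹) * q := by group
    have hk := conj_pow_mul_eq hcc hqc (orderOf g)
    rw [pow_orderOf_eq_one] at hk
    have hcm : (g * q * g⁻¹ * q⁻¹) ^ orderOf g = 1 := by
      have : (1 : G) * q * (1 : G)⁻¹ = q := by group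
      rw [this] at hk
      exact mul_right_cancel (b := q) (by rw [one_mul]; exact hk.symm)
    have hc1 := eq_one_of_pow_eq_one_of_coprime hcm hcp hg
    rw [hqc, hc1, one_mul]

/-- elements of `C_G(Ω₁(P))` of order prime to `p` are trivial, for `P ⊴ G` a `p`-group
containing its centralizer (all `p`-subgroups regular) -/
theorem eq_one_of_mem_centralizer_omega [Finite G]
    (hregs : ∀ Q : Subgroup G, IsPGroup p Q → IsRegularPGroup p ↥Q) (P : Subgroup G)
    [hPn : P.Normal] (hP : IsPGroup p P) (hcent : Subgroup.centralizer (P : Set G) ≤ P) {g : G}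
    (hgC : g ∈ Subgroup.centralizer ((omegaOne p P : Subgroup G) : Set G))
    (hg : (orderOf g).Coprime p) : g = 1 := by
  have h1 := centralizes_of_centralizes_omega hregs hg (Nat.card P) P le_rfl hP
    (fun q hq => hPn.conj_mem q hq g)
    (fun q hq hqp => by
      have hmem : q ∈ omegaOne p P := Subgroup.subset_closure ⟨hq, hqp⟩
      have := hgC q hmem
      rw [← this]; group)
  have h2 : g ∈ Subgroup.centralizer (P : Set G) := by
    intro q hq
    have := h1 q hq
    calc q * g = (g * q * g⁻¹) * g := by rw [this]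
      _ = g * q := by group
  have h3 : g ∈ P := hcent h2
  obtain ⟨k, hk⟩ := hP ⟨g, h3⟩
  have hk' : g ^ (p ^ k) = 1 := by
    have := congrArg Subtype.val hk
    simpa using this
  exact eq_one_of_pow_eq_one_of_coprime (pow_orderOf_eq_one g) hk' (Nat.Coprime.pow_right k hg)

theorem isPGroup_of_coprime_trivial {C : Subgroup G} [Finite G]
    (h : ∀ g ∈ C, (orderOf g).Coprime p → g = 1) : IsPGroup p C := by
  rintro ⟨g, hgC⟩
  have ho : orderOf g ≠ 0 := (orderOf_pos g).ne'
  obtain ⟨e, m, hm, hem⟩ := Nat.exists_eq_pow_mul_and_not_dvd ho p hp.out.ne_one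
  refine ⟨e, ?_⟩
  apply Subtype.ext
  have h1 : (g ^ (p ^ e)) ^ m = 1 := by
    rw [← pow_mul, ← hem, pow_orderOf_eq_one]
  have h2 : orderOf (g ^ (p ^ e)) ∣ m := orderOf_dvd_of_pow_eq_one h1
  have h3 : (orderOf (g ^ (p ^ e))).Coprime p :=
    Nat.Coprime.coprime_dvd_left h2 ((Nat.Prime.coprime_iff_not_dvd hp.out).mpr hm).symm
  have := h (g ^ (p ^ e)) (C.pow_mem hgC _) h3
  simpa using this

/-- `C_G(Ω₁(P))` is a normal `p`-subgroup, hence lies in `P` when `P = O_p(G)` -/
theorem centralizer_omega_le_pCore [Finite G]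
    (hregs : ∀ Q : Subgroup G, IsPGroup p Q → IsRegularPGroup p ↥Q)
    (hcent : Subgroup.centralizer ((pCore p G : Subgroup G) : Set G) ≤ pCore p G) :
    Subgroup.centralizer ((omegaOne p (pCore p G) : Subgroup G) : Set G) ≤ pCore p G := by
  haveI := Cfsg.Agent.Lib.Helper1.pCore_normal (G := G) p
  haveI : (omegaOne p (pCore p G)).Normal := Cfsg.Agent.Lib.Helper1.GE.omegaOne_normal p _
  apply Cfsg.Agent.Lib.Helper1.le_pCore Subgroup.normal_centralizer
  apply isPGroup_of_coprime_trivial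
  intro g hg hgo
  exact eq_one_of_mem_centralizer_omega hregs (pCore p G)
    (Cfsg.Agent.Lib.Helper1.pCore_isPGroup p) hcent hg hgo

end Cfsg.Agent.Lib.Helper1.QR
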