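import Mathlib
import Cfsg.Agent.Lib.Helper1.QR6
import Cfsg.Agent.Lib.Helper1.QuadQd8
import Cfsg.Agent.Lib.Helper6.QdSection
import Cfsg.Agent.Lib.Lead.Fus11
import Cfsg.Agent.Lib.Helper1.BK4
set_option autoImplicit false
set_option maxHeartbeats 4000000
set_option linter.unusedVariables false
set_option linter.unusedSectionVars false
set_option linter.style.longLine false
set_option linter.unusedSimpArgs false
set_option linter.deprecated false
set_option linter.style.haveILetI false
open scoped commutatorElement Pointwise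
universe u v
namespace Cfsg.Agent.Lib.Helper1.QR

open Cfsg

variable {p : ℕ} [hp : Fact p.Prime]

/-- a `p`-element acts quadratically on a normal abelian subgroup of order at most `p²` -/
theorem comm_comm_of_card_sq {X : Type u} [Group X] [Finite X] (W : Subgroup X) [hWn : W.Normal]
    (hWc : ∀ a ∈ W, ∀ b ∈ W, a * b = b * a) (hWcard : Nat.card W ≤ p ^ 2) (hWp : IsPGroup p W)
    (a : X) (hap : IsPGroup p ↥(Subgroup.zpowers a)) {u : X} (hu : u ∈ W) :
    a * (a * u * a⁻¹ * u⁻¹) = (a * u * a⁻¹ * u⁻¹) * a := by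
  by_cases hnc : ∃ v ∈ W, a * v ≠ v * a
  · have h := (Cfsg.Agent.Lib.Helper1.GE.lin_facts W hWc hWcard hWp a hap hnc).2.2 u hu
    exact (Cfsg.Agent.Lib.Helper1.GE.mem_centralizer_zpowers_iff a _).mp h.2
  · push Not at hnc
    have h1 : a * u * a⁻¹ * u⁻¹ = 1 := by
      rw [hnc u hu]; group
    rw [h1, mul_one, one_mul]

/-- **Lemma Q**: a normal elementary abelian subgroup of order `p²` with `p`-group centralizer,
and a `p`-element outside `O_p(X)`, force `Qd(p)` to be involved. -/
theorem involves_of_normal_sq {X : Type u} [Group X] [Finite X] (hp2 : p ≠ 2) (W : Subgroup X)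
    [hWn : W.Normal] (hWcard : Nat.card W = p ^ 2) (hWexp : ∀ w ∈ W, w ^ p = 1)
    (hC : IsPGroup p (Subgroup.centralizer (W : Set X))) (a : X)
    (hap : IsPGroup p ↥(Subgroup.zpowers a)) (ha : a ∉ pCore p X) :
    Involves ↥(Cfsg.qd p) X := by
  have hcomm : ∀ a b : ↥W, a * b = b * a := IsPGroup.commutative_of_card_eq_prime_sq hWcard
  have hWc : ∀ a ∈ W, ∀ b ∈ W, a * b = b * a := by
    intro a ha b hb
    exact congrArg Subtype.val (hcomm ⟨a, ha⟩ ⟨b, hb⟩)
  have hWp : IsPGroup p W := IsPGroup.of_card hWcard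
  letI : CommGroup ↥W := { (inferInstance : Group ↥W) with mul_comm := hcomm }
  have hker : (MulAut.conjNormal (H := W)).ker = Subgroup.centralizer (W : Set X) := by
    ext g
    rw [MonoidHom.mem_ker, Subgroup.mem_centralizer_iff]
    constructor
    · intro h w hw
      have h1 := congrArg (fun f : MulAut ↥W => ((f ⟨w, hw⟩ : ↥W) : X)) h
      simp only [MulAut.conjNormal_apply, MulAut.one_apply] at h1
      calc w * g = (g * w * g⁻¹) * g := by rw [h1]
        _ = g * w := by group
    · intro h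
      ext w
      rw [MulAut.conjNormal_apply, MulAut.one_apply]
      have := h w w.2
      rw [← this]; group
  apply Cfsg.Agent.Lib.Helper1.QuadSL2.involves_qd_of_quad (U := ↥W) hp2
    (fun u => Subtype.ext (by simpa using hWexp u u.2)) W.subtype W.subtype_injective
    (MulAut.conjNormal (H := W))
    (fun x u => by rw [Subgroup.coe_subtype, MulAut.conjNormal_apply]) a
  · intro u
    apply Subtype.ext
    have hq := comm_comm_of_card_sq W hWc hWcard.le hWp a hap u.2
    have huw : (u : X) * (a * u * a⁻¹ * (u : X)⁻¹) = (a * u * a⁻¹ * (u : X)⁻¹) * u := by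
      have hmem : a * u * a⁻¹ * (u : X)⁻¹ ∈ W := W.mul_mem (hWn.conj_mem _ u.2 a) (W.inv_mem u.2)
      exact hWc _ u.2 _ hmem
    rw [Subgroup.coe_mul, Subgroup.coe_mul, MulAut.conjNormal_apply, MulAut.conjNormal_apply]
    obtain ⟨w, hw⟩ : ∃ w, w = a * u * a⁻¹ * (u : X)⁻¹ := ⟨_, rfl⟩
    rw [← hw] at hq huw
    have h1 : a * (u : X) * a⁻¹ = w * u := by rw [hw]; group
    have h2 : a * w * a⁻¹ = w := by
      calc a * w * a⁻¹ = (w * a) * a⁻¹ := by rw [hq]
        _ = w := by group
    rw [h1]
    have h3 : a * (w * (u : X)) * a⁻¹ = (a * w * a⁻¹) * (a * u * a⁻¹) := by group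
    rw [h3, h2, h1]
    calc w * (w * (u : X)) * u = w * w * (u * u) := by group
      _ = w * (u * w) * u := by rw [huw]; group
      _ = w * u * (w * u) := by group
  · intro hmem
    apply ha
    have hn : ((pCore p (X ⧸ (MulAut.conjNormal (H := W)).ker)).comap
        (QuotientGroup.mk' (MulAut.conjNormal (H := W)).ker)).Normal :=
      (Cfsg.Agent.Lib.Helper1.pCore_normal p).comap _
    have hpg : IsPGroup p ((pCore p (X ⧸ (MulAut.conjNormal (H := W)).ker)).comap
        (QuotientGroup.mk' (MulAut.conjNormal (H := W)).ker)) := by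
      apply IsPGroup.comap_of_ker_isPGroup (Cfsg.Agent.Lib.Helper1.pCore_isPGroup p)
      rw [QuotientGroup.ker_mk', hker]
      exact hC
    exact Cfsg.Agent.Lib.Helper1.le_pCore hn hpg hmem

theorem involves_of_quotient {L : Type u} [Group L] (Z : Subgroup L) [Z.Normal]
    (h : Involves ↥(Cfsg.qd p) (L ⧸ Z)) : Involves ↥(Cfsg.qd p) L := by
  obtain ⟨H, f, hf⟩ := Cfsg.Agent.Lib.Helper6.QdSection.exists_of_involves Z h
  exact Cfsg.Agent.Lib.Lead.Fus.involves_of_injective_hom H.subtype H.subtype_injective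
    (Cfsg.Agent.Lib.Lead.Fus.involves_of_surj_hom f hf)

theorem card_eq_pow_le_three {n k : ℕ} (hk : n = p ^ k) (hle : n ≤ p ^ 3) : k ≤ 3 := by
  by_contra h
  push Not at h
  have : p ^ 4 ≤ p ^ k := Nat.pow_le_pow_right hp.out.pos h
  have h2 : p ^ 3 < p ^ 4 := Nat.pow_lt_pow_right hp.out.one_lt (by norm_num)
  omega

end Cfsg.Agent.Lib.Helper1.QR
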