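import Mathlib
import Cfsg.Agent.Lib.Helper1.QR7
set_option autoImplicit false
set_option maxHeartbeats 4000000
set_option linter.unusedVariables false
set_option linter.unusedSectionVars false
set_option linter.style.longLine false
set_option linter.unusedSimpArgs false
set_option linter.deprecated false
set_option linter.style.haveILetI false
open scoped commutatorElement Pointwise
universe u v
namespace Cfsg.Agent.Lib.Helper1.QR

open Cfsg

variable {p : ℕ} [hp : Fact p.Prime]

theorem ker_conjNormal {X : Type u} [Group X] (W : Subgroup X) [hWn : W.Normal] :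
    (MulAut.conjNormal (H := W)).ker = Subgroup.centralizer (W : Set X) := by
  ext g
  rw [MonoidHom.mem_ker, Subgroup.mem_centralizer_iff]
  constructor
  · intro h w hw
    have h1 := congrArg (fun f : MulAut ↥W => ((f ⟨w, hw⟩ : ↥W) : X)) h
    simp only [MulAut.conjNormal_apply, MulAut.one_apply] at h1
    calc w * g = (g * w * g⁻¹) * g := by rw [h1]
      _ = g * w := by group
  · intro h
    ext w
    rw [MulAut.conjNormal_apply, MulAut.one_apply]
    have := h w w.2
    rw [← this]; group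

/-- commutators act trivially on a normal cyclic subgroup -/
theorem comm_mem_centralizer_of_cyclic {X : Type u} [Group X] (W : Subgroup X) [hWn : W.Normal]
    [hc : IsCyclic ↥W] (g h : X) : g * h * g⁻¹ * h⁻¹ ∈ Subgroup.centralizer (W : Set X) := by
  rw [← ker_conjNormal, MonoidHom.mem_ker]
  have hcomm : ∀ x y : MulAut ↥W, x * y = y * x := by
    intro x y
    apply (IsCyclic.mulAutMulEquiv ↥W).injective
    rw [map_mul, map_mul, mul_comm]
  rw [map_mul, map_mul, map_mul, map_inv, map_inv, hcomm (MulAut.conjNormal g) (MulAut.conjNormal h)]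
  group

theorem comm_eq_of_central {X : Type u} [Group X] {u v c d : X} (hcv : c * v = v * c)
    (hdu : d * u = u * d) (hcd : c * d = d * c) :
    (u * c) * (v * d) * (u * c)⁻¹ * (v * d)⁻¹ = u * v * u⁻¹ * v⁻¹ := by
  have hAB : (u * c) * (v * d) = (u * v) * (c * d) := by
    calc (u * c) * (v * d) = u * (c * v) * d := by group
      _ = u * (v * c) * d := by rw [hcv]
      _ = (u * v) * (c * d) := by group
  have hBA : (v * d) * (u * c) = (v * u) * (c * d) := by
    calc (v * d) * (u * c) = v * (d * u) * c := by group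
      _ = v * (u * d) * c := by rw [hdu]
      _ = (v * u) * (d * c) := by group
      _ = (v * u) * (c * d) := by rw [hcd]
  calc (u * c) * (v * d) * (u * c)⁻¹ * (v * d)⁻¹ = ((u * c) * (v * d)) * ((v * d) * (u * c))⁻¹ := by
        group
    _ = (u * v) * (c * d) * ((v * u) * (c * d))⁻¹ := by rw [hAB, hBA]
    _ = u * v * u⁻¹ * v⁻¹ := by group

/-- **Involvement**: if `C_L(O_p(L)) ≤ O_p(L)`, the `p`-rank is at most `2`, `p > 3` and `L` is
not `p`-closed, then `L` involves `Qd(p)` and `|Ω₁(O_p(L))| ≥ p²`. -/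
theorem involves_qd_of_not_pclosed {L : Type u} [Group L] [Finite L] (hp3 : 3 < p)
    (hrk : PRankLE p 2 L)
    (hcent : Subgroup.centralizer ((pCore p L : Subgroup L) : Set L) ≤ pCore p L)
    (T : Sylow p L) (hT : (T : Subgroup L) ≠ pCore p L) :
    Involves ↥(Cfsg.qd p) L ∧ p ^ 2 ≤ Nat.card (omegaOne p (pCore p L)) := by
  classical
  have hp2 : p ≠ 2 := by omega
  have hregs : ∀ Q : Subgroup L, IsPGroup p Q → IsRegularPGroup p ↥Q :=
    fun Q hQ => regular_of_rank_sub hp3 hrk Q hQ
  have hCV0 := centralizer_omega_le_pCore hregs hcent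
  obtain ⟨P, hPdef⟩ : ∃ P, P = pCore p L := ⟨_, rfl⟩
  rw [← hPdef] at hcent hT hCV0 ⊢
  haveI hPn : P.Normal := by rw [hPdef]; exact Cfsg.Agent.Lib.Helper1.pCore_normal p
  have hP : IsPGroup p P := by rw [hPdef]; exact Cfsg.Agent.Lib.Helper1.pCore_isPGroup p
  have hPT : P ≤ T := by rw [hPdef]; exact Cfsg.Agent.Lib.Helper1.pCore_le_sylow p T
  have hlePC : ∀ N : Subgroup L, N.Normal → IsPGroup p N → N ≤ P := by
    intro N hN hNp; rw [hPdef]; exact Cfsg.Agent.Lib.Helper1.le_pCore hN hNp
  have hVmem0 : ∀ x, x ∈ omegaOne p P ↔ x ∈ P ∧ x ^ p = 1 :=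
    fun x => mem_omegaOne_iff (hregs P hP) x
  have hVcard30 : Nat.card (omegaOne p P) ≤ p ^ 3 :=
    card_omegaOne_le_cube hp2 hrk hP (hregs P hP)
  haveI hVn0 : (omegaOne p P).Normal := Cfsg.Agent.Lib.Helper1.GE.omegaOne_normal p P
  have hVone : P ≠ ⊥ → 1 < Nat.card (omegaOne p P) := fun h => one_lt_card_omegaOne hP h
  have hgone : ∀ g ∈ Subgroup.centralizer ((omegaOne p P : Subgroup L) : Set L),
      (orderOf g).Coprime p → g = 1 :=
    fun g hg hgo => eq_one_of_mem_centralizer_omega hregs P hP hcent hg hgo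
  obtain ⟨V, hVdef⟩ : ∃ V, V = omegaOne p P := ⟨_, rfl⟩
  rw [← hVdef] at hCV0 hVmem0 hVcard30 hVn0 hVone hgone ⊢
  have hVP : V ≤ P := fun x hx => ((hVmem0 x).mp hx).1
  have hVp : IsPGroup p V := hP.to_le hVP
  have hVexp : ∀ w ∈ V, w ^ p = 1 := fun w hw => ((hVmem0 w).mp hw).2
  obtain ⟨a, haT, haP⟩ : ∃ a ∈ (T : Subgroup L), a ∉ P := by
    by_contra h
    push Not at h
    exact hT (le_antisymm h hPT)
  have hap : IsPGroup p ↥(Subgroup.zpowers a) :=
    T.isPGroup'.to_le (Subgroup.zpowers_le.mpr haT)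
  obtain ⟨k, hk⟩ := (IsPGroup.iff_card).mp hVp
  have hk3 : k ≤ 3 := card_eq_pow_le_three hk hVcard30
  have hpk : p ^ 2 ≤ p ^ k → p ^ 2 ≤ Nat.card V := fun h => by rw [hk]; exact h
  interval_cases k
  · -- V trivial
    exfalso
    have hP1 : P = ⊥ := by
      by_contra hne
      have := hVone hne
      rw [hk] at this
      simp at this
    apply haP
    apply hcent
    rw [hP1]
    intro x hx
    rw [Subgroup.coe_bot, Set.mem_singleton_iff] at hx
    rw [hx, one_mul, mul_one]
  · -- V of order p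
    exfalso
    rw [pow_one] at hk
    haveI : IsCyclic ↥V := isCyclic_of_prime_card hk
    have hcomm : ∀ g h : L, g * h * g⁻¹ * h⁻¹ ∈ P :=
      fun g h => hCV0 (comm_mem_centralizer_of_cyclic V g h)
    have hTn : (T : Subgroup L).Normal := by
      constructor
      intro n hn g
      have h1 : g * n * g⁻¹ = (g * n * g⁻¹ * n⁻¹) * n := by group
      rw [h1]
      exact (T : Subgroup L).mul_mem (hPT (hcomm g n)) hn
    exact haP (hlePC _ hTn T.isPGroup' haT)
  · -- V of order p²
    refine ⟨?_, hpk le_rfl⟩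
    have haP' : a ∉ pCore p L := by rw [← hPdef]; exact haP
    exact involves_of_normal_sq hp2 V hk hVexp (hP.to_le hCV0) a hap haP'
  · -- V of order p³
    refine ⟨?_, hpk (Nat.pow_le_pow_right hp.out.pos (by norm_num))⟩
    have hVnc : ¬ ∀ a b : ↥V, a * b = b * a := by
      intro hc
      have hle := hrk V ⟨⟨fun a b => hc a b⟩⟩ hVexp
      rw [hk] at hle
      have : p ^ 2 < p ^ 3 := Nat.pow_lt_pow_right hp.out.one_lt (by norm_num)
      omega
    obtain ⟨Z, hZdef⟩ : ∃ Z, Z = V ⊓ Subgroup.centralizer (V : Set L) := ⟨_, rfl⟩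
    haveI hZn : Z.Normal := by
      rw [hZdef]
      exact Subgroup.normal_inf_normal _ _
    have hZV : Z ≤ V := by rw [hZdef]; exact inf_le_left
    have hZc : ∀ z ∈ Z, ∀ v ∈ V, z * v = v * z := by
      intro z hz v hv
      rw [hZdef] at hz
      exact (hz.2 v hv).symm
    have hZmap : Z = (Subgroup.center ↥V).map V.subtype := by
      ext x
      rw [hZdef]
      constructor
      · rintro ⟨hxV, hxC⟩
        refine ⟨⟨x, hxV⟩, ?_, rfl⟩
        rw [SetLike.mem_coe, Subgroup.mem_center_iff]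
        intro y
        apply Subtype.ext
        exact hxC y y.2
      · rintro ⟨y, hy, rfl⟩
        refine ⟨y.2, ?_⟩
        intro v hv
        rw [SetLike.mem_coe, Subgroup.mem_center_iff] at hy
        exact congrArg Subtype.val (hy ⟨v, hv⟩)
    have hZcard : Nat.card Z = p := by
      rw [hZmap, Subgroup.card_map_of_injective V.subtype_injective]
      exact Cfsg.Agent.Lib.Helper1.BK.card_center_of_card_cube hk hVnc
    have hZp : IsPGroup p Z := hVp.to_le hZV
    -- a nontrivial commutator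
    obtain ⟨u, v, huv⟩ : ∃ u v : ↥V, u * v ≠ v * u := by
      by_contra h
      push Not at h
      exact hVnc h
    obtain ⟨z₀, hz₀⟩ : ∃ z₀ : L, z₀ = (u : L) * v * (u : L)⁻¹ * (v : L)⁻¹ := ⟨_, rfl⟩
    have hz₀Z : z₀ ∈ Z := by
      have h1 := Cfsg.Agent.Lib.Helper1.BK.comm_mem_center_of_card_cube hk u v
      rw [hZmap]
      refine ⟨⁅u, v⁆, h1, ?_⟩
      rw [hz₀, commutatorElement_def]
      simp
    have hz₀1 : z₀ ≠ 1 := by
      intro h
      apply huv
      apply Subtype.ext
      rw [hz₀] at h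
      have := Cfsg.Agent.Lib.Helper1.GE.comm_of_commutator_eq_one h
      simpa using this
    have hZz : Subgroup.zpowers z₀ = Z :=
      Cfsg.Agent.Lib.Helper1.BK.zpowers_eq_of_card_prime hZcard hz₀Z hz₀1
    -- the quotient
    obtain ⟨f, hf⟩ : ∃ f : L →* L ⧸ Z, f = QuotientGroup.mk' Z := ⟨_, rfl⟩
    have hfsurj : Function.Surjective f := by rw [hf]; exact QuotientGroup.mk'_surjective Z
    have hfker : f.ker = Z := by rw [hf]; exact QuotientGroup.ker_mk' Z
    have hf1 : ∀ x : L, f x = 1 ↔ x ∈ Z := by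
      intro x
      rw [← MonoidHom.mem_ker, hfker]
    obtain ⟨W, hWdef⟩ : ∃ W, W = V.map f := ⟨_, rfl⟩
    haveI hWn : W.Normal := by rw [hWdef]; exact hVn0.map f hfsurj
    have hWcard : Nat.card W = p ^ 2 := by
      have h1 := card_eq_card_map_mul f V
      rw [hfker, inf_eq_right.mpr hZV, hZcard, hk, ← hWdef] at h1
      have h2 : p ^ 3 = p ^ 2 * p := by ring
      rw [h2] at h1
      exact (Nat.eq_of_mul_eq_mul_right hp.out.pos h1).symm
    have hWexp : ∀ w ∈ W, w ^ p = 1 := by
      intro w hw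
      rw [hWdef] at hw
      obtain ⟨x, hx, rfl⟩ := hw
      rw [← map_pow, hVexp x hx, map_one]
    -- the centralizer of W is a p-group
    have hCt : ∀ g : L, f g ∈ Subgroup.centralizer (W : Set (L ⧸ Z)) →
        (orderOf g).Coprime p → g = 1 := by
      intro g hg hgo
      have hgv : ∀ x ∈ V, g * x * g⁻¹ * x⁻¹ ∈ Z := by
        intro x hx
        rw [← hf1]
        have h1 := hg (f x) (by rw [hWdef]; exact ⟨x, hx, rfl⟩)
        rw [map_mul, map_mul, map_mul, map_inv, map_inv]
        calc f g * f x * (f g)⁻¹ * (f x)⁻¹ = (f x * f g) * (f g)⁻¹ * (f x)⁻¹ := by rw [h1]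
          _ = 1 := by group
      -- c_x := x⁻¹ g x g⁻¹ ∈ Z
      have hgv' : ∀ x ∈ V, x⁻¹ * (g * x * g⁻¹) ∈ Z := by
        intro x hx
        have h1 := hZn.conj_mem _ (hgv x hx) x⁻¹
        have h2 : x⁻¹ * (g * x * g⁻¹ * x⁻¹) * x⁻¹⁻¹ = x⁻¹ * (g * x * g⁻¹) := by group
        rw [h2] at h1
        exact h1
      have hgz₀ : g * z₀ * g⁻¹ = z₀ := by
        obtain ⟨c, hc⟩ : ∃ c, c = (u : L)⁻¹ * (g * u * g⁻¹) := ⟨_, rfl⟩
        obtain ⟨d, hd⟩ : ∃ d, d = (v : L)⁻¹ * (g * v * g⁻¹) := ⟨_, rfl⟩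
        have hcZ : c ∈ Z := hc ▸ hgv' u u.2
        have hdZ : d ∈ Z := hd ▸ hgv' v v.2
        have hu' : g * u * g⁻¹ = u * c := by rw [hc]; group
        have hv' : g * v * g⁻¹ = v * d := by rw [hd]; group
        have h1 : g * z₀ * g⁻¹ = (g * u * g⁻¹) * (g * v * g⁻¹) * (g * u * g⁻¹)⁻¹ * (g * v * g⁻¹)⁻¹ := by
          rw [hz₀]; group
        rw [h1, hu', hv', comm_eq_of_central (hZc c hcZ v v.2) (hZc d hdZ u u.2)
          (hZc c hcZ d (hZV hdZ)), hz₀]
      have hgZ : ∀ z ∈ Z, g * z * g⁻¹ = z := by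
        intro z hz
        rw [← hZz] at hz
        obtain ⟨i, rfl⟩ := Subgroup.mem_zpowers_iff.mp hz
        rw [← conj_zpow, hgz₀]
      have hgV : ∀ x ∈ V, g * x * g⁻¹ = x := by
        intro x hx
        obtain ⟨c, hc⟩ : ∃ c, c = g * x * g⁻¹ * x⁻¹ := ⟨_, rfl⟩
        have hcZ : c ∈ Z := hc ▸ hgv x hx
        have hcc : g * c * g⁻¹ = c := hgZ c hcZ
        have hxc : g * x * g⁻¹ = c * x := by rw [hc]; group
        have hk' := conj_pow_mul_eq hcc hxc (orderOf g)
        rw [pow_orderOf_eq_one] at hk'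
        have hcm : c ^ orderOf g = 1 := by
          have : (1 : L) * x * (1 : L)⁻¹ = x := by group
          rw [this] at hk'
          exact mul_right_cancel (b := x) (by rw [one_mul]; exact hk'.symm)
        have hc1 := eq_one_of_pow_eq_one_of_coprime hcm (hVexp c (hZV hcZ)) hgo
        rw [hxc, hc1, one_mul]
      apply hgone g _ hgo
      intro x hx
      have := hgV x hx
      calc x * g = (g * x * g⁻¹) * g := by rw [this]
        _ = g * x := by group
    have hCW : IsPGroup p (Subgroup.centralizer (W : Set (L ⧸ Z))) := by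
      have h1 : IsPGroup p ((Subgroup.centralizer (W : Set (L ⧸ Z))).comap f) := by
        apply isPGroup_of_coprime_trivial
        intro g hg hgo
        exact hCt g hg hgo
      have h2 := h1.map f
      rwa [Subgroup.map_comap_eq_self_of_surjective hfsurj] at h2
    have hfa : f a ∉ pCore p (L ⧸ Z) := by
      intro hmem
      apply haP
      have hn : ((pCore p (L ⧸ Z)).comap f).Normal :=
        (Cfsg.Agent.Lib.Helper1.pCore_normal p).comap _
      have hpg : IsPGroup p ((pCore p (L ⧸ Z)).comap f) := by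
        apply IsPGroup.comap_of_ker_isPGroup (Cfsg.Agent.Lib.Helper1.pCore_isPGroup p)
        rw [hfker]
        exact hZp
      exact hlePC _ hn hpg hmem
    have hfap : IsPGroup p ↥(Subgroup.zpowers (f a)) := by
      rw [← MonoidHom.map_zpowers]
      exact hap.map f
    exact involves_of_quotient Z (involves_of_normal_sq hp2 W hWcard hWexp hCW (f a) hfap hfa)

end Cfsg.Agent.Lib.Helper1.QR
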