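import Mathlib
import Cfsg.Agent.Lib.Helper1.QR8
set_option autoImplicit false
set_option maxHeartbeats 4000000
set_option linter.unusedVariables false
set_option linter.unusedSectionVars false
set_option linter.style.longLine false
set_option linter.unusedSimpArgs false
set_option linter.deprecated false
set_option linter.style.haveILetI false
open Matrix
open scoped commutatorElement Pointwise
universe u v
namespace Cfsg.Agent.Lib.Helper1.QR

open Cfsg
open Cfsg.Agent.Lib.Helper1.QdA Cfsg.Agent.Lib.Helper1.QdB Cfsg.Agent.Lib.Helper1.QdC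
open Cfsg.Agent.Lib.Helper1.SL2Three

variable {p : ℕ} [hp : Fact p.Prime]

/-- the torus element `diag(1/2, 2)` -/
noncomputable def tmat (p : ℕ) [Fact p.Prime] (hp2 : p ≠ 2) :
    Matrix.SpecialLinearGroup (Fin 2) (ZMod p) :=
  ⟨Matrix.diagonal ![2⁻¹, 2], by
    rw [Matrix.det_diagonal, Fin.prod_univ_two]
    simp [inv_mul_cancel₀ (two_ne_zero_zmod hp2)]⟩

theorem act_tmat (hp2 : p ≠ 2) (w : Pl p) :
    act (tmat p hp2) w = w ^ 2 *
      lineHom (Multiplicative.ofAdd ((2⁻¹ - 2) * (Multiplicative.toAdd w) 0)) := by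
  rw [act_apply]
  apply Multiplicative.toAdd.injective
  ext i
  fin_cases i
  · simp [tmat, lineHom, Matrix.mulVec, dotProduct, Fin.sum_univ_two, Matrix.diagonal]
    ring
  · simp [tmat, lineHom, Matrix.mulVec, dotProduct, Fin.sum_univ_two, Matrix.diagonal]
    try ring

theorem lineHom_eq_pow (c : ZMod p) :
    lineHom (Multiplicative.ofAdd c) = (lineHom (Multiplicative.ofAdd (1 : ZMod p))) ^ c.val := by
  rw [← map_pow]
  congr 1
  rw [← ofAdd_nsmul, nsmul_eq_mul, mul_one, ZMod.natCast_zmod_val]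

/-- the torus data inside `Qd(p)` -/
theorem qd_torus (hp2 : p ≠ 2) : ∃ d zq : ↥(Cfsg.qd p),
    d ∈ Subgroup.normalizer ((UT p : Subgroup ↥(Cfsg.qd p)) : Set ↥(Cfsg.qd p)) ∧
    zq ∈ (trans (p := p)).range ∧ zq ≠ 1 ∧ (∀ u ∈ UT p, u * zq = zq * u) ∧
    ∀ w : Pl p, ∃ k : ℕ, d * trans w * d⁻¹ = (trans w) ^ 2 * zq ^ k := by
  refine ⟨lin (tmat p hp2), trans (lineHom (Multiplicative.ofAdd (1 : ZMod p))), ?_, ⟨_, rfl⟩,
    ?_, ?_, ?_⟩
  · apply borel_le_normalizer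
    show linPart (lin (tmat p hp2)) ∈ borelSL p
    rw [linPart_lin, mem_borelSL]
    simp [tmat, Matrix.diagonal]
  · intro h
    have h1 : trans (lineHom (Multiplicative.ofAdd (1 : ZMod p))) = trans (p := p) 1 := by
      rw [h, map_one]
    have h2 := lineHom_injective (trans_injective h1 |>.trans (map_one lineHom).symm)
    have h3 : (1 : ZMod p) = 0 := by
      have := congrArg Multiplicative.toAdd h2
      simpa using this
    exact one_ne_zero h3
  · intro u hu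
    obtain ⟨v, A, rfl⟩ := exists_eq_trans_mul_lin u
    obtain ⟨s, hs⟩ := (mem_UT_iff _).mp hu
    rw [map_mul, linPart_trans, one_mul, linPart_lin] at hs
    subst hs
    have hact : act (xmat (ZMod p) s) (lineHom (Multiplicative.ofAdd (1 : ZMod p))) =
        lineHom (Multiplicative.ofAdd (1 : ZMod p)) :=
      act_xhom_lineHom (Multiplicative.ofAdd s) (Multiplicative.ofAdd (1 : ZMod p))
    rw [mul_assoc, lin_mul_trans, hact, ← mul_assoc, ← mul_assoc, ← map_mul, ← map_mul, mul_comm]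
  · intro w
    refine ⟨((2⁻¹ - 2) * (Multiplicative.toAdd w) 0 : ZMod p).val, ?_⟩
    rw [lin_trans_conj, act_tmat, map_mul, map_pow, lineHom_eq_pow, map_pow]

/-- lifting an element of order dividing `p` to a `p`-element -/
theorem exists_pElement_lift {H : Type u} {Q : Type v} [Group H] [Finite H] [Group Q]
    (f : H →* Q) (hf : Function.Surjective f) (y : Q) (hy : y ^ p = 1) :
    ∃ x : H, f x = y ∧ ∃ n : ℕ, x ^ p ^ n = 1 := by
  obtain ⟨x₀, hx₀⟩ := hf y
  have hpos : orderOf x₀ ≠ 0 := (orderOf_pos x₀).ne'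
  obtain ⟨e, m, hm, hom⟩ := Nat.exists_eq_pow_mul_and_not_dvd hpos p hp.out.ne_one
  have hcop : Nat.Coprime m p := ((Nat.Prime.coprime_iff_not_dvd hp.out).mpr hm).symm
  obtain ⟨c, -, hc⟩ := Nat.exists_mul_mod_eq_one_of_coprime hcop hp.out.one_lt
  refine ⟨x₀ ^ (m * c), ?_, e, ?_⟩
  · rw [map_pow, hx₀, pow_eq_pow_mod (m * c) hy, hc, pow_one]
  · rw [← pow_mul]
    have : m * c * p ^ e = (p ^ e * m) * c := by ring
    rw [this, ← hom, pow_mul, pow_orderOf_eq_one, one_pow]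

/-- lifting an involution to an element of order prime to `p` -/
theorem exists_pprime_lift_of_sq {H : Type u} {Q : Type v} [Group H] [Finite H] [Group Q]
    (hp2 : p ≠ 2) (f : H →* Q) (hf : Function.Surjective f) (y : Q) (hy : y ^ 2 = 1) :
    ∃ x : H, f x = y ∧ (orderOf x).Coprime p := by
  obtain ⟨x₀, hx₀⟩ := hf y
  have hpos : orderOf x₀ ≠ 0 := (orderOf_pos x₀).ne'
  obtain ⟨e, m, hm, hom⟩ := Nat.exists_eq_pow_mul_and_not_dvd hpos p hp.out.ne_one
  have hcop : Nat.Coprime m p := ((Nat.Prime.coprime_iff_not_dvd hp.out).mpr hm).symm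
  have hodd : Odd (p ^ e) := (hp.out.odd_of_ne_two hp2).pow
  refine ⟨x₀ ^ (p ^ e), ?_, ?_⟩
  · rw [map_pow, hx₀, pow_eq_pow_mod (p ^ e) hy, Nat.odd_iff.mp hodd, pow_one]
  · have h1 : (x₀ ^ p ^ e) ^ m = 1 := by rw [← pow_mul, ← hom, pow_orderOf_eq_one]
    exact Nat.Coprime.coprime_dvd_left (orderOf_dvd_of_pow_eq_one h1) hcop

/-- Sylow subgroups from orders -/
theorem exists_sylow_of_card {G : Type u} [Group G] [Finite G] (Q : Subgroup G) (k m : ℕ)
    (hQ : Nat.card Q = p ^ k) (hG : Nat.card G = p ^ k * m) (hm : ¬ p ∣ m) :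
    ∃ S : Sylow p G, (S : Subgroup G) = Q := by
  have hQp : IsPGroup p Q := IsPGroup.of_card hQ
  obtain ⟨S, hS⟩ := hQp.exists_le_sylow
  refine ⟨S, ?_⟩
  obtain ⟨n, hn⟩ := IsPGroup.iff_card.mp S.isPGroup'
  have hdvd : p ^ n ∣ p ^ k * m := by rw [← hn, ← hG]; exact Subgroup.card_subgroup_dvd_card _
  have hcop : Nat.Coprime (p ^ n) m :=
    Nat.Coprime.pow_left n ((Nat.Prime.coprime_iff_not_dvd hp.out).mpr hm)
  have h2 : p ^ n ∣ p ^ k := hcop.dvd_of_dvd_mul_right hdvd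
  have h3 : Nat.card (S : Subgroup G) ≤ Nat.card Q := by
    rw [hn, hQ]; exact Nat.le_of_dvd (pow_pos hp.out.pos k) h2
  exact (Subgroup.eq_of_le_of_card_ge hS h3).symm

theorem exists_conj_of_card {G : Type u} [Group G] [Finite G] (Q₁ Q₂ : Subgroup G) (k m : ℕ)
    (hQ₁ : Nat.card Q₁ = p ^ k) (hQ₂ : Nat.card Q₂ = p ^ k) (hG : Nat.card G = p ^ k * m)
    (hm : ¬ p ∣ m) : ∃ x : G, ∀ q ∈ Q₂, x * q * x⁻¹ ∈ Q₁ := by
  obtain ⟨S₁, hS₁⟩ := exists_sylow_of_card Q₁ k m hQ₁ hG hm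
  obtain ⟨S₂, hS₂⟩ := exists_sylow_of_card Q₂ k m hQ₂ hG hm
  obtain ⟨x, hx⟩ := MulAction.exists_smul_eq G S₂ S₁
  refine ⟨x, fun q hq => ?_⟩
  have h1 : q ∈ (S₂ : Subgroup G) := hS₂ ▸ hq
  have h2 : x * q * x⁻¹ ∈ ((x • S₂ : Sylow p G) : Subgroup G) := by
    rw [Sylow.coe_subgroup_smul]
    exact ⟨q, h1, rfl⟩
  rw [hx, hS₁] at h2
  exact h2

end Cfsg.Agent.Lib.Helper1.QR
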