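import Mathlib
import Cfsg.Agent.Lib.Helper1.QR9
set_option autoImplicit false
set_option maxHeartbeats 4000000
set_option linter.unusedVariables false
set_option linter.unusedSectionVars false
set_option linter.style.longLine false
set_option linter.unusedSimpArgs false
set_option linter.deprecated false
set_option linter.style.haveILetI false
open Matrix
open scoped commutatorElement Pointwise
universe u v
namespace Cfsg.Agent.Lib.Helper1.QR

open Cfsg
open Cfsg.Agent.Lib.Helper1.QdA Cfsg.Agent.Lib.Helper1.QdB Cfsg.Agent.Lib.Helper1.QdC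
open Cfsg.Agent.Lib.Helper1.SL2Three

variable {p : ℕ} [hp : Fact p.Prime]

section cover
variable {Hh : Type u} [Group Hh] [Finite Hh] (πf : Hh →* ↥(Cfsg.qd p))

theorem cover_eq_one (hcop : (Nat.card πf.ker).Coprime p) {x : Hh} {n : ℕ}
    (hx : x ^ p ^ n = 1) (h1 : πf x = 1) : x = 1 := by
  have hk : x ^ Nat.card πf.ker = 1 := by
    have h2 : (⟨x, h1⟩ : πf.ker) ^ Nat.card πf.ker = 1 := pow_card_eq_one'
    exact congrArg Subtype.val h2
  exact eq_one_of_pow_eq_one_of_coprime hk hx (hcop.pow_right n)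

theorem cover_pow_p (hp2 : p ≠ 2) (hcop : (Nat.card πf.ker).Coprime p) {x : Hh} {n : ℕ}
    (hx : x ^ p ^ n = 1) : x ^ p = 1 := by
  have hy : (πf x) ^ p ^ n = 1 := by rw [← map_pow, hx, map_one]
  have hZ : IsPGroup p (Subgroup.zpowers (πf x)) := by
    rintro ⟨g, hg⟩
    obtain ⟨i, rfl⟩ := Subgroup.mem_zpowers_iff.mp hg
    refine ⟨n, Subtype.ext ?_⟩
    rw [Subgroup.coe_pow, Subgroup.coe_one]
    show ((πf x) ^ i) ^ p ^ n = 1
    rw [← zpow_natCast, ← _root_.zpow_mul, mul_comm, _root_.zpow_mul, zpow_natCast, hy, _root_.one_zpow]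
  obtain ⟨Q, hQ⟩ := hZ.exists_le_sylow
  have hexp := (s3074 hp2 Q).2.2
  have hyQ : πf x ∈ (Q : Subgroup _) := hQ (Subgroup.mem_zpowers _)
  have hyp : (πf x) ^ p = 1 := by
    have h3 := Monoid.pow_exponent_eq_one (G := ↥Q) ⟨πf x, hyQ⟩
    rw [hexp] at h3
    exact congrArg Subtype.val h3
  have h1 : πf (x ^ p) = 1 := by rw [map_pow, hyp]
  have h2 : (x ^ p) ^ p ^ n = 1 := by rw [← pow_mul, mul_comm, pow_mul, hx, one_pow]
  exact cover_eq_one πf hcop h2 h1

theorem cover_inj (hcop : (Nat.card πf.ker).Coprime p) (D : Subgroup Hh) (hD : IsPGroup p D)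
    {x y : Hh} (hx : x ∈ D) (hy : y ∈ D) (h : πf x = πf y) : x = y := by
  have hxy : x * y⁻¹ ∈ D := D.mul_mem hx (D.inv_mem hy)
  obtain ⟨n, hn⟩ := hD ⟨x * y⁻¹, hxy⟩
  have h1 : (x * y⁻¹) ^ p ^ n = 1 := congrArg Subtype.val hn
  have h2 : πf (x * y⁻¹) = 1 := by rw [map_mul, map_inv, h, mul_inv_cancel]
  have := cover_eq_one πf hcop h1 h2
  exact mul_inv_eq_one.mp this

theorem cover_card_map (hcop : (Nat.card πf.ker).Coprime p) (D : Subgroup Hh)
    (hD : IsPGroup p D) : Nat.card (D.map πf) = Nat.card D := by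
  have h1 := card_eq_card_map_mul πf D
  have h2 : (D ⊓ πf.ker : Subgroup Hh) = ⊥ := by
    rw [eq_bot_iff]
    intro x hx
    rw [Subgroup.mem_bot]
    exact cover_inj πf hcop D hD hx.1 D.one_mem (by rw [MonoidHom.mem_ker.mp hx.2, map_one])
  rw [h2, Subgroup.card_bot, mul_one] at h1
  exact h1.symm

theorem cover_exists_T (hsurj : Function.Surjective πf) (hcop : (Nat.card πf.ker).Coprime p) :
    ∃ T : Subgroup Hh, Nat.card T = p ^ 3 ∧ T.map πf = UT p := by
  obtain ⟨X, hX⟩ : ∃ X : Subgroup Hh, X = (UT p).comap πf := ⟨_, rfl⟩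
  have hXcard : Nat.card X = p ^ 3 * Nat.card πf.ker := by
    rw [hX, card_comap_surj πf hsurj (UT p), card_UT]
  have hdvd : p ^ 3 ∣ Nat.card ↥X := by rw [hXcard]; exact dvd_mul_right _ _
  obtain ⟨K, hK⟩ := Sylow.exists_subgroup_card_pow_prime p hdvd
  refine ⟨K.map X.subtype, ?_, ?_⟩
  · rw [Subgroup.card_map_of_injective X.subtype_injective]; exact hK
  · have hKp : IsPGroup p (K.map X.subtype) := by
      apply IsPGroup.of_card (n := 3)
      rw [Subgroup.card_map_of_injective X.subtype_injective]; exact hK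
    apply Subgroup.eq_of_le_of_card_ge
    · rintro _ ⟨x, hx, rfl⟩
      obtain ⟨x', -, rfl⟩ := hx
      have : (x' : Hh) ∈ (UT p).comap πf := by rw [← hX]; exact x'.2
      exact this
    · rw [cover_card_map πf hcop _ hKp, Subgroup.card_map_of_injective X.subtype_injective, hK,
        card_UT]

theorem cover_normal_pgroup (hsurj : Function.Surjective πf)
    (hcop : (Nat.card πf.ker).Coprime p) (D : Subgroup Hh) [hDn : D.Normal] (hD : IsPGroup p D)
    (hne : D ≠ ⊥) : D.map πf = (trans (p := p)).range ∧ Nat.card D = p ^ 2 := by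
  haveI hmn : (D.map πf).Normal := hDn.map πf hsurj
  have hmp : IsPGroup p (D.map πf) := hD.map πf
  have hle := normal_pgroup_le_trans_range (D.map πf) hmp
  have hmne : D.map πf ≠ ⊥ := by
    intro h
    apply hne
    rw [eq_bot_iff]
    intro x hx
    rw [Subgroup.mem_bot]
    have h1 : πf x ∈ D.map πf := ⟨x, hx, rfl⟩
    rw [h, Subgroup.mem_bot] at h1
    exact cover_inj πf hcop D hD hx D.one_mem (by rw [h1, map_one])
  have heq := eq_trans_range_of_normal (D.map πf) hle hmne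
  refine ⟨heq, ?_⟩
  rw [← cover_card_map πf hcop D hD, heq, card_trans_range]

theorem cover_exists_torus (hsurj : Function.Surjective πf)
    (hcop : (Nat.card πf.ker).Coprime p) (T : Subgroup Hh) (hT : Nat.card T = p ^ 3)
    (hTU : T.map πf = UT p) (d : ↥(Cfsg.qd p))
    (hd : d ∈ Subgroup.normalizer ((UT p : Subgroup ↥(Cfsg.qd p)) : Set ↥(Cfsg.qd p))) :
    ∃ g : Hh, (∀ t ∈ T, g * t * g⁻¹ ∈ T) ∧ πf g = d := by
  obtain ⟨g₀, hg₀⟩ := hsurj d
  obtain ⟨X, hX⟩ : ∃ X : Subgroup Hh, X = (UT p).comap πf := ⟨_, rfl⟩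
  have hXcard : Nat.card X = p ^ 3 * Nat.card πf.ker := by
    rw [hX, card_comap_surj πf hsurj (UT p), card_UT]
  have hTX : T ≤ X := by
    intro t ht
    rw [hX, Subgroup.mem_comap, ← hTU]
    exact ⟨t, ht, rfl⟩
  obtain ⟨T₅, hT₅⟩ : ∃ T₅ : Subgroup Hh, T₅ = T.map (MulAut.conj g₀).toMonoidHom := ⟨_, rfl⟩
  have hT₅card : Nat.card T₅ = p ^ 3 := by
    rw [hT₅, Subgroup.card_map_of_injective (MulAut.conj g₀).injective]; exact hT
  have hT₅X : T₅ ≤ X := by
    rw [hT₅]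
    rintro _ ⟨t, ht, rfl⟩
    rw [hX, Subgroup.mem_comap]
    show πf (g₀ * t * g₀⁻¹) ∈ UT p
    rw [map_mul, map_mul, map_inv, hg₀]
    have h1 : πf t ∈ UT p := by rw [← hTU]; exact ⟨t, ht, rfl⟩
    exact (Subgroup.mem_normalizer_iff.mp hd (πf t)).mp h1
  have hm : ¬ p ∣ Nat.card πf.ker := by
    intro h
    have := Nat.Coprime.eq_one_of_dvd hcop.symm h
    exact hp.out.one_lt.ne' this
  have hc1 : Nat.card (T.subgroupOf X) = p ^ 3 := by
    rw [Nat.card_congr (Subgroup.subgroupOfEquivOfLe hTX).toEquiv]; exact hT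
  have hc2 : Nat.card (T₅.subgroupOf X) = p ^ 3 := by
    rw [Nat.card_congr (Subgroup.subgroupOfEquivOfLe hT₅X).toEquiv]; exact hT₅card
  obtain ⟨x, hx⟩ := exists_conj_of_card (T.subgroupOf X) (T₅.subgroupOf X) 3
    (Nat.card πf.ker) hc1 hc2 hXcard hm
  have hxU : πf (x : Hh) ∈ UT p := by
    have : (x : Hh) ∈ (UT p).comap πf := by rw [← hX]; exact x.2
    exact this
  rw [← hTU] at hxU
  obtain ⟨t₀, ht₀, ht₀x⟩ := hxU
  refine ⟨t₀⁻¹ * (x : Hh) * g₀, ?_, ?_⟩
  · intro t ht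
    have h5 : g₀ * t * g₀⁻¹ ∈ T₅ := by rw [hT₅]; exact ⟨t, ht, rfl⟩
    have h6 := hx ⟨g₀ * t * g₀⁻¹, hT₅X h5⟩ (Subgroup.mem_subgroupOf.mpr h5)
    rw [Subgroup.mem_subgroupOf] at h6
    have h7 : (x : Hh) * (g₀ * t * g₀⁻¹) * (x : Hh)⁻¹ ∈ T := by
      simpa using h6
    have h8 : t₀⁻¹ * (x : Hh) * g₀ * t * (t₀⁻¹ * (x : Hh) * g₀)⁻¹ =
        t₀⁻¹ * ((x : Hh) * (g₀ * t * g₀⁻¹) * (x : Hh)⁻¹) * t₀ := by group
    rw [h8]
    exact T.mul_mem (T.mul_mem (T.inv_mem ht₀) h7) ht₀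
  · rw [map_mul, map_mul, map_inv, ht₀x, inv_mul_cancel, one_mul, hg₀]

end cover

end Cfsg.Agent.Lib.Helper1.QR
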