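import Mathlib
import Cfsg.Agent.Lib.Helper1.QR10
import Cfsg.Agent.Lib.Helper1.BG9d
set_option autoImplicit false
set_option maxHeartbeats 4000000
set_option linter.unusedVariables false
set_option linter.unusedSectionVars false
set_option linter.style.longLine false
set_option linter.unusedSimpArgs false
set_option linter.deprecated false
set_option linter.style.haveILetI false
open Matrix
open scoped commutatorElement Pointwise
universe u v
namespace Cfsg.Agent.Lib.Helper1.QR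

open Cfsg
open Cfsg.Agent.Lib.Helper1.QdA Cfsg.Agent.Lib.Helper1.QdB Cfsg.Agent.Lib.Helper1.QdC
open Cfsg.Agent.Lib.Helper1.SL2Three

variable {p : ℕ} [hp : Fact p.Prime]

/-- a nontrivial `p`-element has a power of order `p` -/
theorem exists_pow_order_p {G : Type u} [Group G] {c : G} {n : ℕ} (hc : c ^ p ^ n = 1)
    (hc1 : c ≠ 1) : ∃ m : ℕ, c ^ p ^ m ≠ 1 ∧ (c ^ p ^ m) ^ p = 1 := by
  classical
  have hex : ∃ n, c ^ p ^ n = 1 := ⟨n, hc⟩
  have hfs := Nat.find_spec hex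
  have hmin := fun m (hm : m < Nat.find hex) => Nat.find_min hex hm
  have h0 : Nat.find hex ≠ 0 := by
    intro h
    rw [h, pow_zero, pow_one] at hfs
    exact hc1 hfs
  obtain ⟨m, hm⟩ := Nat.exists_eq_succ_of_ne_zero h0
  refine ⟨m, hmin m (by omega), ?_⟩
  rw [← pow_mul, ← pow_succ, ← Nat.succ_eq_add_one, ← hm]
  exact hfs

theorem structure_aux {L : Type u} [Group L] [Finite L] (hp3 : 3 < p) (hrk : PRankLE p 2 L)
    (hcent : Subgroup.centralizer ((pCore p L : Subgroup L) : Set L) ≤ pCore p L)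
    (T₀ : Sylow p L) (hT₀ : (T₀ : Subgroup L) ≠ pCore p L) :
    ∃ T : Sylow p L, Nat.card (pCore p L) = p ^ 2 ∧ Nat.card (T : Subgroup L) = p ^ 3 ∧
      (∀ t ∈ (T : Subgroup L), t ^ p = 1) ∧
      ∃ g ∈ Subgroup.normalizer (((T : Subgroup L)) : Set L), ∃ z ∈ pCore p L, z ≠ 1 ∧
        (∀ t ∈ (T : Subgroup L), t * z = z * t) ∧
        ∀ a ∈ pCore p L, ∃ k : ℕ, g * a * g⁻¹ = a ^ 2 * z ^ k := by
  classical
  have hp2 : p ≠ 2 := by omega
  have hp1 : 1 < p := hp.out.one_lt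
  have hregs : ∀ Q : Subgroup L, IsPGroup p Q → IsRegularPGroup p ↥Q :=
    fun Q hQ => regular_of_rank_sub hp3 hrk Q hQ
  obtain ⟨hinv, hVge⟩ := involves_qd_of_not_pclosed hp3 hrk hcent T₀ hT₀
  have hCV0 := centralizer_omega_le_pCore hregs hcent
  obtain ⟨H, K, hn, hKH, hcopK, ⟨e⟩⟩ := pprime_section_of_involves hp3 hrk hinv
  haveI := hn
  obtain ⟨πf, hπf⟩ : ∃ πf : ↥H →* ↥(Cfsg.qd p),
      πf = e.toMonoidHom.comp (QuotientGroup.mk' (K.subgroupOf H)) := ⟨_, rfl⟩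
  have hsurj : Function.Surjective πf := by
    intro q
    obtain ⟨y, rfl⟩ := e.surjective q
    obtain ⟨x, rfl⟩ := QuotientGroup.mk'_surjective _ y
    exact ⟨x, by rw [hπf]; rfl⟩
  have hker : πf.ker = K.subgroupOf H := by
    ext x
    rw [MonoidHom.mem_ker, hπf, MonoidHom.comp_apply]
    constructor
    · intro h
      have h1 : (QuotientGroup.mk' (K.subgroupOf H)) x = 1 := by
        apply e.injective
        rw [map_one]
        exact h
      exact (QuotientGroup.eq_one_iff x).mp h1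
    · intro h
      have h1 : (QuotientGroup.mk' (K.subgroupOf H)) x = 1 := (QuotientGroup.eq_one_iff x).mpr h
      rw [h1]
      exact map_one _
  have hcop : (Nat.card πf.ker).Coprime p := by
    rw [hker, Nat.card_congr (Subgroup.subgroupOfEquivOfLe hKH).toEquiv]; exact hcopK
  -- the Sylow subgroup inside H
  obtain ⟨T₄, hT₄card, hT₄U⟩ := cover_exists_T πf hsurj hcop
  have hT₄p : IsPGroup p T₄ := IsPGroup.of_card hT₄card
  have hT₄exp : ∀ t ∈ T₄, t ^ p = 1 := by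
    intro t ht
    obtain ⟨n, hn⟩ := hT₄p ⟨t, ht⟩
    have h1 : t ^ p ^ n = 1 := congrArg Subtype.val hn
    exact cover_pow_p πf hp2 hcop h1
  obtain ⟨T₃, hT₃⟩ : ∃ T₃ : Subgroup L, T₃ = T₄.map H.subtype := ⟨_, rfl⟩
  have hT₃card : Nat.card T₃ = p ^ 3 := by
    rw [hT₃, Subgroup.card_map_of_injective H.subtype_injective]; exact hT₄card
  have hT₃exp : ∀ t ∈ T₃, t ^ p = 1 := by
    intro t ht
    rw [hT₃] at ht
    obtain ⟨t', ht', rfl⟩ := ht
    have h1 := hT₄exp t' ht'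
    rw [← map_pow, h1, map_one]
  have hT₃H : T₃ ≤ H := by rw [hT₃]; exact Subgroup.map_subtype_le _
  have hT₃mem : ∀ (x : L) (hx : x ∈ T₃), (⟨x, hT₃H hx⟩ : ↥H) ∈ T₄ := by
    intro x hx
    have hx' := hx
    rw [hT₃] at hx'
    obtain ⟨t', ht', hte⟩ := hx'
    have : t' = ⟨x, hT₃H hx⟩ := Subtype.ext hte
    rw [← this]; exact ht'
  have hT₃p : IsPGroup p T₃ := IsPGroup.of_card hT₃card
  obtain ⟨T₁, hT₁⟩ := hT₃p.exists_le_sylow
  have hreg₁ := hregs T₁ T₁.isPGroup'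
  have hΩ : omegaOne p (T₁ : Subgroup L) = T₃ := by
    symm
    apply Subgroup.eq_of_le_of_card_ge
    · intro t ht; exact (mem_omegaOne_iff hreg₁ t).mpr ⟨hT₁ ht, hT₃exp t ht⟩
    · rw [hT₃card]; exact card_omegaOne_le_cube hp2 hrk T₁.isPGroup' hreg₁
  -- P and V
  obtain ⟨P, hPdef⟩ : ∃ P, P = pCore p L := ⟨_, rfl⟩
  rw [← hPdef] at hcent hT₀ hVge hCV0 ⊢
  haveI hPn : P.Normal := by rw [hPdef]; exact Cfsg.Agent.Lib.Helper1.pCore_normal p
  have hP : IsPGroup p P := by rw [hPdef]; exact Cfsg.Agent.Lib.Helper1.pCore_isPGroup p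
  have hPT₁ : P ≤ T₁ := by rw [hPdef]; exact Cfsg.Agent.Lib.Helper1.pCore_le_sylow p T₁
  have hregP := hregs P hP
  haveI hVn0 : (omegaOne p P).Normal := Cfsg.Agent.Lib.Helper1.GE.omegaOne_normal p P
  have hmemV0 : ∀ x, x ∈ omegaOne p P ↔ x ∈ P ∧ x ^ p = 1 := fun x => mem_omegaOne_iff hregP x
  obtain ⟨V, hVdef⟩ : ∃ V, V = omegaOne p P := ⟨_, rfl⟩
  rw [← hVdef] at hVge hCV0 hVn0 hmemV0
  haveI hVn : V.Normal := hVn0
  have hVP : V ≤ P := fun x hx => ((hmemV0 x).mp hx).1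
  have hVexp : ∀ v ∈ V, v ^ p = 1 := fun x hx => ((hmemV0 x).mp hx).2
  have hVT₃ : V ≤ T₃ := by
    intro x hx
    rw [← hΩ, mem_omegaOne_iff hreg₁]
    exact ⟨hPT₁ (hVP hx), hVexp x hx⟩
  have hVH : V ≤ H := hVT₃.trans hT₃H
  have hVp : IsPGroup p V := hP.to_le hVP
  have hVne : V ≠ ⊥ := by
    intro h
    rw [h, Subgroup.card_bot] at hVge
    have : 1 < p ^ 2 := Nat.one_lt_pow (by norm_num) hp1
    omega
  haveI hVHn : (V.subgroupOf H).Normal := inferInstance
  have hVHp : IsPGroup p (V.subgroupOf H) := hVp.comap_subtype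
  have hsub_ne : ∀ N : Subgroup L, N ≤ H → N ≠ ⊥ → N.subgroupOf H ≠ ⊥ := by
    intro N hNH hN h
    apply hN
    rw [Subgroup.subgroupOf_eq_bot] at h
    exact disjoint_self.mp (h.mono_right hNH)
  have hsub_card : ∀ N : Subgroup L, N ≤ H → Nat.card (N.subgroupOf H) = Nat.card N :=
    fun N hNH => Nat.card_congr (Subgroup.subgroupOfEquivOfLe hNH).toEquiv
  obtain ⟨hVHmap, hVHcard⟩ :=
    cover_normal_pgroup πf hsurj hcop (V.subgroupOf H) hVHp (hsub_ne V hVH hVne)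
  have hVcard : Nat.card V = p ^ 2 := by rw [← hVHcard]; exact (hsub_card V hVH).symm
  have hVcomm : ∀ a ∈ V, ∀ b ∈ V, a * b = b * a := by
    intro a ha b hb
    have := IsPGroup.commutative_of_card_eq_prime_sq (p := p) (G := ↥V) hVcard ⟨a, ha⟩ ⟨b, hb⟩
    exact congrArg Subtype.val this
  -- every normal p-subgroup of L inside V is trivial or V
  have hVmin : ∀ N : Subgroup L, N.Normal → N ≤ V → N ≠ ⊥ → N = V := by
    intro N hNn hNV hN
    haveI := hNn
    haveI : (N.subgroupOf H).Normal := inferInstance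
    have hNp : IsPGroup p (N.subgroupOf H) := (hVp.to_le hNV).comap_subtype
    obtain ⟨-, hc⟩ := cover_normal_pgroup πf hsurj hcop (N.subgroupOf H) hNp
      (hsub_ne N (hNV.trans hVH) hN)
    rw [hsub_card N (hNV.trans hVH)] at hc
    exact Subgroup.eq_of_le_of_card_ge hNV (by rw [hc, hVcard])
  have hVtr : ∀ v (hv : v ∈ V), πf ⟨v, hVH hv⟩ ∈ (trans (p := p)).range := by
    intro v hv
    rw [← hVHmap]
    exact ⟨⟨v, hVH hv⟩, Subgroup.mem_subgroupOf.mpr hv, rfl⟩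
  have hVinj : ∀ v (hv : v ∈ V) w (hw : w ∈ V), πf ⟨v, hVH hv⟩ = πf ⟨w, hVH hw⟩ → v = w := by
    intro v hv w hw h
    have := cover_inj πf hcop (V.subgroupOf H) hVHp
      (x := ⟨v, hVH hv⟩) (y := ⟨w, hVH hw⟩) (Subgroup.mem_subgroupOf.mpr hv)
      (Subgroup.mem_subgroupOf.mpr hw) h
    exact congrArg Subtype.val this
  have hconjπ : ∀ (h : ↥H) v (hv : v ∈ V),
      πf ⟨(h : L) * v * (h : L)⁻¹, hVH (hVn.conj_mem v hv h)⟩ =
        πf h * πf ⟨v, hVH hv⟩ * (πf h)⁻¹ := by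
    intro h v hv
    rw [← map_inv, ← map_mul, ← map_mul]
    congr 1
  -- the centralizer of V
  obtain ⟨C, hCdef⟩ : ∃ C, C = Subgroup.centralizer ((V : Subgroup L) : Set L) := ⟨_, rfl⟩
  rw [← hCdef] at hCV0
  haveI hCn : C.Normal := by rw [hCdef]; exact Subgroup.normal_centralizer
  have hmemC : ∀ x, x ∈ C ↔ ∀ v ∈ V, v * x = x * v := by
    intro x; rw [hCdef, Subgroup.mem_centralizer_iff]; exact Iff.rfl
  have hVC : V ≤ C := fun v hv => (hmemC v).mpr (fun w hw => hVcomm w hw v hv)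
  have hCp : IsPGroup p C := hP.to_le hCV0
  have hCpow : ∀ c ∈ C, ∃ n : ℕ, c ^ p ^ n = 1 := by
    intro c hc
    obtain ⟨n, hn⟩ := hCp ⟨c, hc⟩
    exact ⟨n, congrArg Subtype.val hn⟩
  have hCV : ∀ c ∈ C, c ^ p = 1 → c ∈ V := fun c hc h => (hmemV0 c).mpr ⟨hCV0 hc, h⟩
  -- the involution
  have hneg : (lin (-1 : Matrix.SpecialLinearGroup (Fin 2) (ZMod p))) ^ 2 = 1 := by
    rw [← map_pow, neg_one_sq, map_one]
  obtain ⟨t, htπ, htcop⟩ := exists_pprime_lift_of_sq hp2 πf hsurj _ hneg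
  obtain ⟨tt, htt⟩ : ∃ tt : L, tt = (t : L) := ⟨_, rfl⟩
  have httord : (orderOf tt).Coprime p := by rw [htt, Subgroup.orderOf_coe]; exact htcop
  have htinv : ∀ v ∈ V, tt * v * tt⁻¹ = v⁻¹ := by
    intro v hv
    have h1 : tt * v * tt⁻¹ ∈ V := hVn.conj_mem v hv tt
    apply hVinj _ h1 _ (V.inv_mem hv)
    obtain ⟨w, hw⟩ := hVtr v hv
    have h2 := hconjπ t v hv
    have h3 : πf ⟨v⁻¹, hVH (V.inv_mem hv)⟩ = (πf ⟨v, hVH hv⟩)⁻¹ := by
      rw [← map_inv]; congr 1
    rw [h3]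
    have h4 : (⟨tt * v * tt⁻¹, hVH h1⟩ : ↥H) = ⟨(t : L) * v * (t : L)⁻¹, hVH (hVn.conj_mem v hv t)⟩ := by
      apply Subtype.ext; simp only [htt]
    rw [h4, h2, htπ, ← hw, lin_trans_conj, act_neg_one, map_inv]
  have htt2 : tt ^ 2 = 1 := by
    have hmem : tt ^ 2 ∈ C := by
      rw [hmemC]
      intro v hv
      have h1 := htinv v hv
      have h2 := htinv v⁻¹ (V.inv_mem hv)
      rw [inv_inv] at h2
      have h3 : tt ^ 2 * v * (tt ^ 2)⁻¹ = v := by
        calc tt ^ 2 * v * (tt ^ 2)⁻¹ = tt * (tt * v * tt⁻¹) * tt⁻¹ := by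
              rw [pow_two, _root_.mul_inv_rev]; simp only [mul_assoc]
          _ = v := by rw [h1, h2]
      calc v * tt ^ 2 = (tt ^ 2 * v * (tt ^ 2)⁻¹) * tt ^ 2 := by rw [h3]
        _ = tt ^ 2 * v := by group
    obtain ⟨n, hn⟩ := hCpow _ hmem
    have h5 : (tt ^ 2) ^ orderOf tt = 1 := by
      rw [← pow_mul, mul_comm, pow_mul, pow_orderOf_eq_one, one_pow]
    exact eq_one_of_pow_eq_one_of_coprime h5 hn (httord.pow_right n)
  -- C is abelian
  have hCcomm : ∀ c ∈ C, ∀ c' ∈ C, c * c' = c' * c := by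
    obtain ⟨φ, hφ⟩ : ∃ φ : MulAut ↥C, φ = MulAut.conjNormal tt := ⟨_, rfl⟩
    have hφapp : ∀ c : ↥C, ((φ c : ↥C) : L) = tt * (c : L) * tt⁻¹ := by
      intro c; rw [hφ]; exact MulAut.conjNormal_apply tt c
    have hfpf : MonoidHom.FixedPointFree φ := by
      intro c hc
      by_contra hc1
      have hc1' : (c : L) ≠ 1 := fun h => hc1 (Subtype.ext h)
      obtain ⟨n, hn⟩ := hCpow (c : L) c.2
      obtain ⟨m, hm1, hm2⟩ := exists_pow_order_p hn hc1'
      have hfix : tt * (c : L) * tt⁻¹ = (c : L) := by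
        rw [← hφapp, hc]
      have hvV : (c : L) ^ p ^ m ∈ V := hCV _ (C.pow_mem c.2 _) hm2
      have h1 := htinv _ hvV
      rw [← conj_pow, hfix] at h1
      have h2 : ((c : L) ^ p ^ m) ^ 2 = 1 := by
        rw [pow_two]
        nth_rewrite 1 [h1]
        exact inv_mul_cancel _
      apply hm1
      exact eq_one_of_pow_eq_one_of_coprime h2 hm2
        ((Nat.coprime_primes Nat.prime_two hp.out).mpr (Ne.symm hp2))
    have hinvol : Function.Involutive φ := by
      intro c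
      apply Subtype.ext
      rw [hφapp, hφapp]
      calc tt * (tt * (c : L) * tt⁻¹) * tt⁻¹ = tt ^ 2 * (c : L) * (tt ^ 2)⁻¹ := by
            rw [pow_two, _root_.mul_inv_rev]; simp only [mul_assoc]
        _ = (c : L) := by rw [htt2, inv_one, mul_one, one_mul]
    intro c hc c' hc'
    have := hfpf.commute_all_of_involutive hinvol ⟨c, hc⟩ ⟨c', hc'⟩
    exact congrArg Subtype.val this.eq
  -- C = V
  have hCeqV : C = V := by
    apply le_antisymm _ hVC
    by_contra hCV'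
    obtain ⟨c₀, hc₀C, hc₀p⟩ : ∃ c₀ ∈ C, c₀ ^ p ≠ 1 := by
      by_contra hcon
      push Not at hcon
      exact hCV' (fun c hc => hCV c hc (hcon c hc))
    -- the subgroup of p-th powers inside V
    let W : Subgroup L :=
      { carrier := {v | v ∈ V ∧ ∃ c ∈ C, c ^ p = v}
        one_mem' := ⟨V.one_mem, 1, C.one_mem, one_pow p⟩
        mul_mem' := by
          rintro a b ⟨ha, c, hc, rfl⟩ ⟨hb, c', hc', rfl⟩
          refine ⟨V.mul_mem ha hb, c * c', C.mul_mem hc hc', ?_⟩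
          exact (show Commute c c' from hCcomm c hc c' hc').mul_pow p
        inv_mem' := by
          rintro a ⟨ha, c, hc, rfl⟩
          exact ⟨V.inv_mem ha, c⁻¹, C.inv_mem hc, inv_pow c p⟩ }
    have hWmem : ∀ v, v ∈ W ↔ v ∈ V ∧ ∃ c ∈ C, c ^ p = v := fun v => Iff.rfl
    have hWn : W.Normal := by
      constructor
      rintro v ⟨hv, c, hc, rfl⟩ g
      exact ⟨hVn.conj_mem _ hv g, g * c * g⁻¹, hCn.conj_mem c hc g, conj_pow⟩
    have hWV : W ≤ V := fun v hv => hv.1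
    have hWne : W ≠ ⊥ := by
      obtain ⟨n, hn⟩ := hCpow (c₀ ^ p) (C.pow_mem hc₀C p)
      obtain ⟨m, hm1, hm2⟩ := exists_pow_order_p hn hc₀p
      intro h
      apply hm1
      have h1 : (c₀ ^ p) ^ p ^ m ∈ W := by
        refine ⟨hCV _ (C.pow_mem (C.pow_mem hc₀C p) _) hm2, c₀ ^ p ^ m, C.pow_mem hc₀C _, ?_⟩
        rw [← pow_mul, ← pow_mul, mul_comm]
      rw [h, Subgroup.mem_bot] at h1
      exact h1
    have hWeq : W = V := hVmin W hWn hWV hWne
    -- the p-element x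
    have hxp : (lin (xmat (ZMod p) 1)) ^ p = (1 : ↥(Cfsg.qd p)) := by
      rw [← map_pow]
      have : (xmat (ZMod p) 1) ^ p = 1 := by
        have h := pow_orderOf_eq_one (xmat (ZMod p) 1)
        rw [orderOf_xmat_one] at h
        exact h
      rw [this, map_one]
    obtain ⟨x, hxπ, n, hxn⟩ := exists_pElement_lift πf hsurj _ hxp
    have hxp' : x ^ p = 1 := cover_pow_p πf hp2 hcop hxn
    obtain ⟨xx, hxx⟩ : ∃ xx : L, xx = (x : L) := ⟨_, rfl⟩
    have hxxp : xx ^ p = 1 := by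
      rw [hxx, ← Subgroup.coe_pow, hxp', Subgroup.coe_one]
    have hZx : IsPGroup p (Subgroup.zpowers xx) := by
      rintro ⟨g, hg⟩
      obtain ⟨i, rfl⟩ := Subgroup.mem_zpowers_iff.mp hg
      refine ⟨1, Subtype.ext ?_⟩
      rw [Subgroup.coe_pow, Subgroup.coe_one, pow_one]
      show (xx ^ i) ^ p = 1
      rw [← zpow_natCast, ← _root_.zpow_mul, mul_comm, _root_.zpow_mul, zpow_natCast, hxxp,
        _root_.one_zpow]
    have hY : IsPGroup p (C ⊔ Subgroup.zpowers xx : Subgroup L) :=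
      IsPGroup.to_sup_of_normal_left hCp hZx
    have hregY := hregs _ hY
    have hxcomm : ∀ v ∈ V, v * xx = xx * v := by
      intro v hv
      rw [← hWeq] at hv
      obtain ⟨-, c, hc, rfl⟩ := hv
      exact pow_comm_of_pow_eq_one' hregY (Subgroup.mem_sup_left hc)
        (Subgroup.mem_sup_right (Subgroup.mem_zpowers xx)) hxxp
    apply lin_xmat_not_mem_trans_range (p := p)
    apply centralizer_trans_range_le
    rw [Subgroup.mem_centralizer_iff]
    intro q hq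
    rw [SetLike.mem_coe, ← hVHmap] at hq
    obtain ⟨vH, hvH, rfl⟩ := hq
    rw [SetLike.mem_coe, Subgroup.mem_subgroupOf] at hvH
    rw [← hxπ, ← map_mul, ← map_mul]
    congr 1
    apply Subtype.ext
    rw [Subgroup.coe_mul, Subgroup.coe_mul, ← hxx]
    exact hxcomm _ hvH
  -- P = V
  have hPeqV : P = V := by
    apply le_antisymm _ hVP
    haveI : Group.IsNilpotent ↥P := hP.isNilpotent
    haveI : (V.subgroupOf P).Normal := inferInstance
    have hVPne : V.subgroupOf P ≠ ⊥ := by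
      intro h
      apply hVne
      rw [Subgroup.subgroupOf_eq_bot] at h
      exact disjoint_self.mp (h.mono_right hVP)
    have h1 := Cfsg.Agent.Lib.Helper1.normal_inf_center_ne_bot (V.subgroupOf P) hVPne
    obtain ⟨N, hNdef⟩ : ∃ N : Subgroup L, N = V ⊓ Subgroup.centralizer ((P : Subgroup L) : Set L) :=
      ⟨_, rfl⟩
    have hNn : N.Normal := by
      rw [hNdef]
      haveI : (Subgroup.centralizer ((P : Subgroup L) : Set L)).Normal := Subgroup.normal_centralizer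
      infer_instance
    have hNne : N ≠ ⊥ := by
      intro h
      apply h1
      rw [eq_bot_iff]
      intro y hy
      rw [Subgroup.mem_bot]
      have hyV : (y : L) ∈ V := Subgroup.mem_subgroupOf.mp hy.1
      have hyZ := Subgroup.mem_center_iff.mp hy.2
      have hyN : (y : L) ∈ N := by
        rw [hNdef, Subgroup.mem_inf]
        refine ⟨hyV, ?_⟩
        rw [Subgroup.mem_centralizer_iff]
        intro x hx
        have := hyZ ⟨x, hx⟩
        exact congrArg Subtype.val this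
      rw [h, Subgroup.mem_bot] at hyN
      exact Subtype.ext hyN
    have hNV : N = V := hVmin N hNn (by rw [hNdef]; exact inf_le_left) hNne
    intro x hx
    rw [← hCeqV, hmemC]
    intro v hv
    rw [← hNV, hNdef] at hv
    exact (Subgroup.mem_centralizer_iff.mp hv.2 x hx).symm
  -- the order of T₁
  have hT₁card : Nat.card (T₁ : Subgroup L) = p ^ 3 := by
    have hVT₁ : V ≤ T₁ := hVP.trans hPT₁
    haveI hBn : (V.subgroupOf (T₁ : Subgroup L)).Normal := inferInstance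
    have hBe : IsElementaryAbelian p (V.subgroupOf (T₁ : Subgroup L)) := by
      refine ⟨⟨⟨fun a b => ?_⟩⟩, fun a ha => ?_⟩
      · apply Subtype.ext
        apply Subtype.ext
        exact hVcomm _ (Subgroup.mem_subgroupOf.mp a.2) _ (Subgroup.mem_subgroupOf.mp b.2)
      · apply Subtype.ext
        rw [Subgroup.coe_pow, Subgroup.coe_one]
        exact hVexp _ (Subgroup.mem_subgroupOf.mp ha)
    have hBcard : Nat.card (V.subgroupOf (T₁ : Subgroup L)) = p ^ 2 := by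
      rw [Nat.card_congr (Subgroup.subgroupOfEquivOfLe hVT₁).toEquiv]; exact hVcard
    have h1 := Cfsg.Agent.Lib.Helper1.BG9.card_le_mul_card_centralizer_inf
      (P := ↥(T₁ : Subgroup L)) T₁.isPGroup' (V.subgroupOf (T₁ : Subgroup L)) hBe hBcard ⊤
    have h2 : (Subgroup.centralizer ((V.subgroupOf (T₁ : Subgroup L) : Subgroup ↥(T₁ : Subgroup L)) : Set ↥(T₁ : Subgroup L)) ⊓ ⊤ :
        Subgroup ↥(T₁ : Subgroup L)) ≤ V.subgroupOf (T₁ : Subgroup L) := by
      intro y hy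
      rw [Subgroup.mem_subgroupOf, ← hCeqV, hmemC]
      intro v hv
      have := Subgroup.mem_centralizer_iff.mp hy.1 ⟨v, hVT₁ hv⟩ (Subgroup.mem_subgroupOf.mpr hv)
      exact congrArg Subtype.val this
    have h3 := Subgroup.card_le_of_le h2
    rw [hBcard] at h3
    have h4 : Nat.card (⊤ : Subgroup ↥(T₁ : Subgroup L)) ≤ p * p ^ 2 :=
      h1.trans (Nat.mul_le_mul_left p h3)
    rw [Subgroup.card_top] at h4
    have h5 : p ^ 3 ≤ Nat.card (T₁ : Subgroup L) := by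
      rw [← hT₃card]; exact Subgroup.card_le_of_le hT₁
    have : p * p ^ 2 = p ^ 3 := by ring
    omega
  have hT₁eq : (T₁ : Subgroup L) = T₃ :=
    (Subgroup.eq_of_le_of_card_ge hT₁ (by rw [hT₁card, hT₃card])).symm
  -- the torus
  obtain ⟨d, zq, hdN, hzqT, hzq1, hzqU, hdconj⟩ := qd_torus (p := p) hp2
  obtain ⟨g, hgT, hgπ⟩ := cover_exists_torus πf hsurj hcop T₄ hT₄card hT₄U d hdN
  rw [← hVHmap] at hzqT
  obtain ⟨zH, hzH, hzHπ⟩ := hzqT
  rw [SetLike.mem_coe, Subgroup.mem_subgroupOf] at hzH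
  refine ⟨T₁, by rw [hPeqV]; exact hVcard, hT₁card, ?_, (g : L), ?_, (zH : L), ?_, ?_, ?_, ?_⟩
  · intro t ht
    rw [hT₁eq] at ht
    exact hT₃exp t ht
  · apply mem_normalizer_of_conj_mem
    intro a ha
    rw [hT₁eq] at ha ⊢
    have h1 := hgT _ (hT₃mem a ha)
    rw [hT₃]
    exact ⟨_, h1, rfl⟩
  · rw [hPeqV]; exact hzH
  · intro h
    apply hzq1
    have : zH = 1 := Subtype.ext h
    rw [← hzHπ, this, map_one]
  · intro t ht
    rw [hT₁eq] at ht
    have h1 := hT₃mem t ht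
    have h2 : (zH : ↥H) ∈ T₄ := by
      have := hT₃mem (zH : L) (hVT₃ hzH)
      exact this
    have h3 : πf ⟨t, hT₃H ht⟩ ∈ UT p := by rw [← hT₄U]; exact ⟨_, h1, rfl⟩
    have h4 := hzqU _ h3
    rw [← hzHπ, ← map_mul, ← map_mul] at h4
    have h5 := cover_inj πf hcop T₄ hT₄p (T₄.mul_mem h1 h2) (T₄.mul_mem h2 h1) h4
    exact congrArg Subtype.val h5
  · intro a ha
    rw [hPeqV] at ha
    obtain ⟨w, hw⟩ := hVtr a ha
    obtain ⟨k, hk⟩ := hdconj w
    refine ⟨k, ?_⟩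
    have h1 : (g : L) * a * (g : L)⁻¹ ∈ V := hVn.conj_mem a ha g
    have h2 : a ^ 2 * (zH : L) ^ k ∈ V := V.mul_mem (V.pow_mem ha 2) (V.pow_mem hzH k)
    apply hVinj _ h1 _ h2
    rw [hconjπ g a ha, hgπ, ← hw, hk, hw, ← hzHπ, ← map_pow, ← map_pow, ← map_mul]
    congr 1

end Cfsg.Agent.Lib.Helper1.QR
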