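import Mathlib
import Cfsg.Agent.Lib.Helper1.QR11
set_option autoImplicit false
set_option maxHeartbeats 4000000
set_option linter.unusedVariables false
set_option linter.unusedSectionVars false
set_option linter.style.longLine false
set_option linter.unusedSimpArgs false
set_option linter.deprecated false
set_option linter.style.haveILetI false
open scoped commutatorElement Pointwise
universe u v
namespace Cfsg.Agent.Lib.Helper1.QR

open Cfsg

variable {p : ℕ} [hp : Fact p.Prime]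

/-- **Structure theorem**: a finite group `L` of `p`-rank at most two (`p > 3`) with
`C_L(O_p(L)) ≤ O_p(L)` which is not `p`-closed has `|O_p(L)| = p²`, Sylow `p`-subgroups of order
`p³` and exponent `p`, and a torus element normalizing a given Sylow subgroup. -/
theorem structure_of_not_pclosed {L : Type u} [Group L] [Finite L] (hp3 : 3 < p)
    (hrk : PRankLE p 2 L)
    (hcent : Subgroup.centralizer ((pCore p L : Subgroup L) : Set L) ≤ pCore p L)
    (T : Sylow p L) (hT : (T : Subgroup L) ≠ pCore p L) :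
    Nat.card (pCore p L) = p ^ 2 ∧ Nat.card (T : Subgroup L) = p ^ 3 ∧
      (∀ t ∈ (T : Subgroup L), t ^ p = 1) ∧
      ∃ g ∈ Subgroup.normalizer (((T : Subgroup L)) : Set L), ∃ z ∈ pCore p L, z ≠ 1 ∧
        (∀ t ∈ (T : Subgroup L), t * z = z * t) ∧
        ∀ a ∈ pCore p L, ∃ k : ℕ, g * a * g⁻¹ = a ^ 2 * z ^ k := by
  obtain ⟨T₁, h1, h2, h3, g, hg, z, hz, hz1, hzc, hconj⟩ := structure_aux hp3 hrk hcent T hT
  obtain ⟨c, hc⟩ := MulAction.exists_smul_eq L T₁ T
  haveI hPn : (pCore p L).Normal := Cfsg.Agent.Lib.Helper1.pCore_normal p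
  have hmem : ∀ t, t ∈ (T : Subgroup L) ↔ c⁻¹ * t * c ∈ (T₁ : Subgroup L) := by
    intro t
    rw [← hc, Sylow.coe_subgroup_smul, Subgroup.mem_pointwise_smul_iff_inv_smul_mem]
    simp [MulAut.smul_def, MulAut.conj_apply]
  refine ⟨h1, ?_, ?_, c * g * c⁻¹, ?_, c * z * c⁻¹, hPn.conj_mem z hz c, ?_, ?_, ?_⟩
  · rw [← h2, T.card_eq_multiplicity, T₁.card_eq_multiplicity]
  · intro t ht
    have := h3 _ ((hmem t).mp ht)
    have h4 : (c⁻¹ * t * c) ^ p = c⁻¹ * t ^ p * c := by
      have := conj_pow (a := c⁻¹) (b := t) (i := p)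
      rwa [inv_inv] at this
    rw [h4] at this
    calc t ^ p = c * (c⁻¹ * t ^ p * c) * c⁻¹ := by group
      _ = 1 := by rw [this]; group
  · apply mem_normalizer_of_conj_mem
    intro a ha
    rw [hmem] at ha ⊢
    have h4 := (Subgroup.mem_normalizer_iff.mp hg _).mp ha
    have h5 : c⁻¹ * (c * g * c⁻¹ * a * (c * g * c⁻¹)⁻¹) * c = g * (c⁻¹ * a * c) * g⁻¹ := by group
    rw [h5]; exact h4
  · intro h
    apply hz1
    calc z = c⁻¹ * (c * z * c⁻¹) * c := by group
      _ = 1 := by rw [h]; group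
  · intro t ht
    have h4 := hzc _ ((hmem t).mp ht)
    calc t * (c * z * c⁻¹) = c * ((c⁻¹ * t * c) * z) * c⁻¹ := by group
      _ = c * (z * (c⁻¹ * t * c)) * c⁻¹ := by rw [h4]
      _ = c * z * c⁻¹ * t := by group
  · intro a ha
    have ha' : c⁻¹ * a * c ∈ pCore p L := by
      have := hPn.conj_mem a ha c⁻¹
      rwa [inv_inv] at this
    obtain ⟨k, hk⟩ := hconj _ ha'
    refine ⟨k, ?_⟩
    calc c * g * c⁻¹ * a * (c * g * c⁻¹)⁻¹ = c * (g * (c⁻¹ * a * c) * g⁻¹) * c⁻¹ := by group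
      _ = c * ((c⁻¹ * a * c) ^ 2 * z ^ k) * c⁻¹ := by rw [hk]
      _ = a ^ 2 * (c * z * c⁻¹) ^ k := by
        rw [conj_pow]
        have h6 : (c⁻¹ * a * c) ^ 2 = c⁻¹ * a ^ 2 * c := by
          have := conj_pow (a := c⁻¹) (b := a) (i := 2)
          rwa [inv_inv] at this
        rw [h6]; group

end Cfsg.Agent.Lib.Helper1.QR
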