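import Mathlib
import Cfsg.Agent.Lib.Helper1.BK3
import Cfsg.Agent.Lib.Helper1.QR12
set_option autoImplicit false
set_option maxHeartbeats 4000000
set_option linter.unusedVariables false
set_option linter.unusedSectionVars false
set_option linter.style.longLine false
set_option linter.unusedSimpArgs false
set_option linter.deprecated false
set_option linter.style.haveILetI false
universe u
open scoped commutatorElement Pointwise

namespace Cfsg.Agent.Lib.Helper1.QR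

open Cfsg.Agent.Lib.Helper4 Cfsg.Agent.Lib.Helper1.BK

section autsq
variable {P : Type u} [Group P] [Finite P] {p : ℕ} [hp : Fact p.Prime]

/-- weight computation: in a regular `p`-group of rank two with `|Ω₁(P)| = p³` in which a
generator of `C_P(Ω₁(P))` is a `p`-th power, every automorphism acts on `Ω₁(P)/D` by `±1`. -/
theorem aut_sq (hp2 : p ≠ 2) (hreg : Cfsg.IsRegularPGroup p P) (hrk : Cfsg.PRankLE p 2 P)
    (E : Subgroup P) (hE : ∀ x, x ∈ E ↔ x ^ p = 1) (hEcard : Nat.card E = p ^ 3)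
    (u c₀ : P) (hu : u ^ p = c₀) (hC : Subgroup.centralizer (E : Set P) = Subgroup.zpowers c₀)
    (D : Subgroup P) (hDn : D.Normal)
    (hZD' : E ⊓ Subgroup.centralizer (E : Set P) ≤ D) (hDE : D ≤ E)
    (hDcard2 : Nat.card D = p ^ 2) (e₀ : P) (he₀E : e₀ ∈ E) (he₀D : e₀ ∉ D)
    (α : MulAut P) (s : ℕ) (dd : P) (hdd : dd ∈ D) (hs : α e₀ = e₀ ^ s * dd) :
    s * s ≡ 1 [MOD p] := by
  classical
  have hP : IsPGroup p P := hreg.1
  haveI hnil : Group.IsNilpotent P := hP.isNilpotent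
  have hp1 : 1 < p := hp.out.one_lt
  obtain ⟨hnc, hZ, hCcyc, hpowC⟩ := structure_E hp2 hreg hrk E hE hEcard
  obtain ⟨C, hCdef⟩ : ∃ C, C = Subgroup.centralizer (E : Set P) := ⟨_, rfl⟩
  obtain ⟨Z, hZdef⟩ : ∃ Z, Z = E ⊓ C := ⟨_, rfl⟩
  rw [← hCdef] at hZ hpowC hC
  rw [← hZdef] at hZ
  haveI hEn : E.Normal :=
    ⟨fun x hx g => (hE _).mpr (by rw [conj_pow, (hE x).mp hx, mul_one, mul_inv_cancel])⟩
  haveI hCn : C.Normal := by rw [hCdef]; infer_instance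
  haveI hZn : Z.Normal := by rw [hZdef]; infer_instance
  have hZcen : Z ≤ Subgroup.center P := Rk.le_center_of_normal_card_prime Z hZ
  have hZc : ∀ z ∈ Z, ∀ k : P, z * k = k * z :=
    fun z hz k => ((Subgroup.mem_center_iff.mp (hZcen hz)) k).symm
  have hZE : Z ≤ E := by rw [hZdef]; exact inf_le_left
  have hZC : Z ≤ C := by rw [hZdef]; exact inf_le_right
  have hmemC : ∀ x, x ∈ C ↔ ∀ e ∈ E, e * x = x * e := by
    intro x; rw [hCdef, Subgroup.mem_centralizer_iff]; exact Iff.rfl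
  have hcenZ : ∀ x ∈ E, (∀ e ∈ E, e * x = x * e) → x ∈ Z := by
    intro x hx hk
    rw [hZdef]
    exact Subgroup.mem_inf.mpr ⟨hx, (hmemC x).mpr hk⟩
  -- the normal subgroup `D`
  have hZneE : Z ≠ E := by
    intro h
    rw [h, hEcard] at hZ
    have h3 : p ^ 3 = p ^ 1 := by rw [pow_one]; exact hZ
    have := Nat.pow_right_injective hp.out.two_le h3
    omega
  have hZD : Z ≤ D := by rw [hZdef, hCdef]; exact hZD'
  have hDcard : Nat.card D = p * p := by rw [hDcard2, sq]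
  haveI := hDn
  have hEDcard : Nat.card E = Nat.card D * p := by rw [hEcard, hDcard2]; ring
  have hDZcard : Nat.card D = Nat.card Z * p := by rw [hDcard, hZ]
  have hDcomm : ∀ d ∈ D, ∀ d' ∈ D, d * d' = d' * d := by
    intro d hd d' hd'
    have := IsPGroup.commutative_of_card_eq_prime_sq (p := p) (G := ↥D) hDcard2 ⟨d, hd⟩ ⟨d', hd'⟩
    exact congrArg Subtype.val this
  have hDucs : D ≤ Subgroup.upperCentralSeries P 2 := Rk.le_ucs2_of_normal_card_sq hP D hDcard2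
  have hDZ : ∀ d ∈ D, ∀ g : P, ⁅d, g⁆ ∈ Z ∧ ∀ k : P, ⁅d, g⁆ * k = k * ⁅d, g⁆ := by
    intro d hd g
    have h1 : ⁅d, g⁆ ∈ Subgroup.center P := Rk.mem_ucs2_iff.mp (hDucs hd) g
    have h2 : ∀ k : P, ⁅d, g⁆ * k = k * ⁅d, g⁆ :=
      fun k => ((Subgroup.mem_center_iff.mp h1) k).symm
    have h3 : ⁅d, g⁆ ∈ D := by
      rw [commutatorElement_def]
      have : d * g * d⁻¹ * g⁻¹ = d * (g * d⁻¹ * g⁻¹) := by group
      rw [this]
      exact D.mul_mem hd (hDn.conj_mem _ (D.inv_mem hd) g)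
    exact ⟨hcenZ _ (hDE h3) (fun e _ => (h2 e).symm), h2⟩
  have hED : ∀ e ∈ E, ∀ g : P, ⁅e, g⁆ ∈ D := by
    have hsub : ⁅E, (⊤ : Subgroup P)⁆ ≤ D := by
      have hcTE : ⁅E, (⊤ : Subgroup P)⁆ ≤ E := Subgroup.commutator_le_left E ⊤
      rcases eq_or_eq_of_card_mul_prime (le_sup_right : D ≤ ⁅E, (⊤ : Subgroup P)⁆ ⊔ D)
        (sup_le hcTE hDE) hEDcard with h | h
      · rw [← h]; exact le_sup_left
      · exfalso
        have h1 : E ≤ HallReg.cT E ⊔ D := le_of_eq h.symm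
        have h2 := HallReg.le_of_le_cT_sup E D h1
        have h3 := Subgroup.card_le_of_le h2
        rw [hEcard, hDcard2] at h3
        have := Nat.pow_lt_pow_right hp1 (show 2 < 3 by norm_num)
        omega
    intro e he g
    exact hsub (Subgroup.commutator_mem_commutator he (Subgroup.mem_top g))
  have hdecE := exists_pow_mul_of_card_mul hDE hEDcard he₀E he₀D
  have hz_ne : ∀ d ∈ D, d ∉ Z → ⁅d, e₀⁆ ≠ 1 := by
    intro d hd hdZ h1
    apply hdZ
    apply hcenZ d (hDE hd)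
    have hc : d * e₀ = e₀ * d := commutatorElement_eq_one_iff_mul_comm.mp h1
    intro e he
    obtain ⟨i, h, hh, rfl⟩ := hdecE e he
    have c1 : Commute d (e₀ ^ i) := (show Commute d e₀ from hc).pow_right i
    have c2 : Commute d h := hDcomm d hd h hh
    exact ((c1.mul_right c2).eq).symm
  -- inner automorphisms realise everything trivial modulo `Z`
  have hIM : ∀ g : P, ⁅e₀, g⁆ ∈ Z → g ∈ E ⊔ C := by
    intro g hg
    obtain ⟨d', hd'D, hd'Z⟩ : ∃ d', d' ∈ D ∧ d' ∉ Z := by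
      by_contra hcon
      push Not at hcon
      have h3 := Subgroup.card_le_of_le (show D ≤ Z from fun x hx => hcon x hx)
      rw [hDcard, hZ] at h3
      nlinarith
    obtain ⟨z₁, hz₁⟩ : ∃ z₁, z₁ = ⁅d', e₀⁆ := ⟨_, rfl⟩
    have hz₁Z : z₁ ∈ Z := by rw [hz₁]; exact (hDZ d' hd'D e₀).1
    have hz₁c : ∀ k : P, ⁅d', e₀⁆ * k = k * ⁅d', e₀⁆ := (hDZ d' hd'D e₀).2
    have hz₁c' : ∀ k : P, z₁ * k = k * z₁ := by rw [hz₁]; exact hz₁c
    have hz₁ne : z₁ ≠ 1 := by rw [hz₁]; exact hz_ne d' hd'D hd'Z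
    obtain ⟨j, hj⟩ := exists_pow_of_mem_card_prime hZ hz₁Z hz₁ne hg
    obtain ⟨i, hi⟩ := exists_pow_of_mem_card_prime hZ hz₁Z hz₁ne (hDZ d' hd'D g).1
    have hz₁p : z₁ ^ p = 1 := pow_prime_eq_one_of_mem_card_prime hZ hz₁Z
    obtain ⟨x, hx⟩ : ∃ x, x = e₀ ^ ((p - 1) * i) * d' ^ j := ⟨_, rfl⟩
    have hxE : x ∈ E := by
      rw [hx]; exact E.mul_mem (E.pow_mem he₀E _) (E.pow_mem (hDE hd'D) _)
    have hdd : ⁅d', d' ^ j⁆ = 1 := comm_eq_one_of_commute ((Commute.refl d').pow_right j).eq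
    have h1 : ⁅d', x⁆ = z₁ ^ ((p - 1) * i) := by
      rw [hx, comm_mul_right' d' (e₀ ^ ((p - 1) * i)) (d' ^ j) (central_of_eq_one hdd), hdd,
        mul_one, comm_pow_right' d' e₀ hz₁c, ← hz₁]
    have hcj : ⁅d' ^ j, e₀⁆ = z₁ ^ j := by rw [comm_pow_left' d' e₀ hz₁c j, ← hz₁]
    have hinv : ⁅e₀, d' ^ j⁆ = (z₁ ^ j)⁻¹ := by rw [← hcj, commutatorElement_inv]
    have hee : ⁅e₀, e₀ ^ ((p - 1) * i)⁆ = 1 :=
      comm_eq_one_of_commute ((Commute.refl e₀).pow_right _).eq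
    have h2 : ⁅e₀, x⁆ = (z₁ ^ j)⁻¹ := by
      rw [hx, comm_mul_right' e₀ (e₀ ^ ((p - 1) * i)) (d' ^ j)
        (by rw [hinv]; exact central_inv (central_pow hz₁c' j)), hee, one_mul, hinv]
    have h3 : ⁅d', g * x⁆ = 1 := by
      rw [comm_mul_right' d' g x (by rw [h1]; exact central_pow hz₁c' _), hi, h1, ← pow_add]
      have hp' : p - 1 + 1 = p := by omega
      have : i + (p - 1) * i = p * i := by
        calc i + (p - 1) * i = (p - 1 + 1) * i := by ring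
          _ = p * i := by rw [hp']
      rw [this, pow_mul, hz₁p, one_pow]
    have h4 : ⁅e₀, g * x⁆ = 1 := by
      rw [comm_mul_right' e₀ g x (by rw [h2]; exact central_inv (central_pow hz₁c' j)), hj, h2,
        mul_inv_cancel]
    have h3' : d' * (g * x) = (g * x) * d' := commutatorElement_eq_one_iff_mul_comm.mp h3
    have h4' : e₀ * (g * x) = (g * x) * e₀ := commutatorElement_eq_one_iff_mul_comm.mp h4
    have hgxC : g * x ∈ C := by
      rw [hmemC]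
      intro e he
      obtain ⟨a, h, hh, rfl⟩ := hdecE e he
      obtain ⟨b, z, hz, rfl⟩ := exists_pow_mul_of_card_mul hZD hDZcard hd'D hd'Z h hh
      have c1 : Commute (e₀ ^ a) (g * x) := (show Commute e₀ (g * x) from h4').pow_left a
      have c2 : Commute (d' ^ b) (g * x) := (show Commute d' (g * x) from h3').pow_left b
      have c3 : Commute z (g * x) := hZc z hz (g * x)
      exact (c1.mul_left (c2.mul_left c3)).eq
    have : g = (g * x) * x⁻¹ := by group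
    rw [this]
    exact (E ⊔ C).mul_mem (Subgroup.mem_sup_right hgxC)
      ((E ⊔ C).inv_mem (Subgroup.mem_sup_left hxE))
  -- `u` lies outside `E C`
  have huEC : u ∉ E ⊔ C := by
    intro hmem
    have hmem' : u ∈ ((E ⊔ C : Subgroup P) : Set P) := hmem
    rw [Subgroup.mul_normal] at hmem'
    obtain ⟨x, hx, c, hc, hxc⟩ := Set.mem_mul.mp hmem'
    have hcomm : Commute x c := (hmemC c).mp hc x hx
    have hxp : x ^ p = 1 := (hE x).mp hx
    have h1 : u ^ p = c ^ p := by rw [← hxc, hcomm.mul_pow, hxp, one_mul]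
    have hc' : c ∈ Subgroup.zpowers c₀ := by rw [← hC]; exact hc
    obtain ⟨k, hk⟩ : ∃ k : ℕ, c = c₀ ^ k := by
      have : c ∈ Submonoid.powers c₀ := mem_powers_iff_mem_zpowers.mpr hc'
      obtain ⟨k, hk⟩ := this
      exact ⟨k, hk.symm⟩
    rw [hu, hk, ← pow_mul] at h1
    have hord : p ∣ orderOf c₀ := by
      rw [← Nat.card_zpowers, ← hC, ← hZ]
      exact Subgroup.card_dvd_of_le hZC
    have h2 : k * p ≡ 1 [MOD orderOf c₀] := by
      rw [← pow_eq_pow_iff_modEq, pow_one]; exact h1.symm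
    have h3 : k * p ≡ 1 [MOD p] := h2.of_dvd hord
    have h4 : k * p ≡ 0 [MOD p] := (Nat.modEq_zero_iff_dvd).mpr (dvd_mul_left p k)
    have h5 : (1 : ℕ) ≡ 0 [MOD p] := h3.symm.trans h4
    have h6 := (Nat.modEq_zero_iff_dvd).mp h5
    have := Nat.le_of_dvd one_pos h6
    omega
  obtain ⟨d₀, hd₀⟩ : ∃ d₀, d₀ = ⁅e₀, u⁆ := ⟨_, rfl⟩
  have hd₀D : d₀ ∈ D := by rw [hd₀]; exact hED e₀ he₀E u
  have hd₀Z : d₀ ∉ Z := by
    intro h
    rw [hd₀] at h
    exact huEC (hIM u h)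
  obtain ⟨z₁, hz₁⟩ : ∃ z₁, z₁ = ⁅d₀, e₀⁆ := ⟨_, rfl⟩
  have hz₁Z : z₁ ∈ Z := by rw [hz₁]; exact (hDZ d₀ hd₀D e₀).1
  have hz₁c : ∀ k : P, ⁅d₀, e₀⁆ * k = k * ⁅d₀, e₀⁆ := (hDZ d₀ hd₀D e₀).2
  have hz₁ne : z₁ ≠ 1 := by rw [hz₁]; exact hz_ne d₀ hd₀D hd₀Z
  have hz₁p : z₁ ^ p = 1 := pow_prime_eq_one_of_mem_card_prime hZ hz₁Z
  have hz₁ord : orderOf z₁ = p := orderOf_eq_prime hz₁p hz₁ne
  have hdecD := exists_pow_mul_of_card_mul hZD hDZcard hd₀D hd₀Z
  -- uniqueness of `D`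
  have hDuniq : ∀ D' : Subgroup P, D'.Normal → Nat.card D' = p ^ 2 → D' ≤ E → D' = D := by
    intro D' hD'n hD'c hD'E
    by_contra hne
    haveI := hD'n
    have hD'ucs := Rk.le_ucs2_of_normal_card_sq hP D' hD'c
    have hsup : D ⊔ D' = E := by
      rcases eq_or_eq_of_card_mul_prime (le_sup_left : D ≤ D ⊔ D') (sup_le hDE hD'E) hEDcard
        with h | h
      · exfalso
        apply hne
        have hle : D' ≤ D := by rw [← h]; exact le_sup_right
        exact Subgroup.eq_of_le_of_card_ge hle (by rw [hDcard2, hD'c])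
      · exact h
    have he₀ : e₀ ∈ ((D ⊔ D' : Subgroup P) : Set P) := by rw [hsup]; exact he₀E
    rw [Subgroup.mul_normal] at he₀
    obtain ⟨d, hd, d'', hd'', hdd⟩ := Set.mem_mul.mp he₀
    apply hd₀Z
    rw [hd₀, ← hdd]
    have hc'' : ∀ k : P, ⁅d'', u⁆ * k = k * ⁅d'', u⁆ := by
      intro k
      have h1 : ⁅d'', u⁆ ∈ Subgroup.center P := Rk.mem_ucs2_iff.mp (hD'ucs hd'') u
      exact ((Subgroup.mem_center_iff.mp h1) k).symm
    rw [comm_mul_left' d d'' u hc'']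
    refine Z.mul_mem (hDZ d hd u).1 ?_
    apply hcenZ
    · have : ⁅d'', u⁆ ∈ D' := by
        rw [commutatorElement_def]
        have : d'' * u * d''⁻¹ * u⁻¹ = d'' * (u * d''⁻¹ * u⁻¹) := by group
        rw [this]
        exact D'.mul_mem hd'' (hD'n.conj_mem _ (D'.inv_mem hd'') u)
      exact hD'E this
    · intro e _; exact (hc'' e).symm
  have he₀p : e₀ ^ p = 1 := (hE e₀).mp he₀E
  have he₀ne : e₀ ≠ 1 := fun h => he₀D (h ▸ D.one_mem)
  -- the key: every operator acts trivially on `E / D`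
  have hαE : ∀ x ∈ E, α x ∈ E :=
    fun x hx => (hE _).mpr (by rw [← map_pow, (hE x).mp hx, map_one])
  have hαE' : ∀ x ∈ E, α.symm x ∈ E :=
    fun x hx => (hE _).mpr (by rw [← map_pow, (hE x).mp hx, map_one])
  have hαD : D.map α.toMonoidHom = D := by
    apply hDuniq
    · exact hDn.map α.toMonoidHom α.surjective
    · rw [Subgroup.card_map_of_injective α.injective]; exact hDcard2
    · rintro _ ⟨d, hd, rfl⟩
      exact hαE d (hDE hd)
  have hαD' : ∀ d ∈ D, α d ∈ D := by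
    intro d hd
    rw [← hαD]
    exact ⟨d, hd, rfl⟩
  have hαC : ∀ c ∈ C, α c ∈ C := by
    intro c hc
    rw [hmemC]
    intro e he
    have h1 := (hmemC c).mp hc (α.symm e) (hαE' e he)
    have h2 := congrArg α h1
    rw [map_mul, map_mul, MulEquiv.apply_symm_apply] at h2
    exact h2
  have hc₀C : c₀ ∈ C := by rw [hC]; exact Subgroup.mem_zpowers c₀
  obtain ⟨m, hm⟩ : ∃ m : ℕ, α c₀ = c₀ ^ m := by
    have h1 : α c₀ ∈ Subgroup.zpowers c₀ := by rw [← hC]; exact hαC c₀ hc₀C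
    have : α c₀ ∈ Submonoid.powers c₀ := mem_powers_iff_mem_zpowers.mpr h1
    obtain ⟨m, hm⟩ := this
    exact ⟨m, hm.symm⟩
  have hαz : ∀ z ∈ C, α z = z ^ m := by
    intro z hz
    rw [hC] at hz
    have : z ∈ Submonoid.powers c₀ := mem_powers_iff_mem_zpowers.mpr hz
    obtain ⟨t, rfl⟩ := this
    rw [map_pow, hm, ← pow_mul, ← pow_mul, mul_comm]
  have hαz₁ : α z₁ = z₁ ^ m := hαz z₁ (hZC hz₁Z)
  have hpm : ¬ p ∣ m := by
    rintro ⟨k, rfl⟩
    rw [pow_mul, hz₁p, one_pow] at hαz₁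
    apply hz₁ne
    have := congrArg α.symm hαz₁
    rwa [MulEquiv.symm_apply_apply, map_one] at this
  have hαu : (α u * (u ^ m)⁻¹) ^ p = 1 := by
    have h1 : (α u) ^ p ^ 1 = (u ^ m) ^ p ^ 1 := by
      rw [pow_one, ← map_pow, hu, hm, ← hu, ← pow_mul, ← pow_mul, mul_comm]
    have := (Cfsg.Agent.Lib.Helper3.regular_pow_eq_iff hreg (α u) (u ^ m) 1).mp h1
    rwa [pow_one] at this
  obtain ⟨g₀, hg₀⟩ : ∃ g₀, g₀ = α u * (u ^ m)⁻¹ := ⟨_, rfl⟩
  have hg₀E : g₀ ∈ E := by rw [hg₀]; exact (hE _).mpr hαu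
  have hαu' : α u = g₀ * u ^ m := by rw [hg₀]; group
  obtain ⟨r, zz, hzz, hr⟩ := hdecD (α d₀) (hαD' d₀ hd₀D)
  -- relation (1)
  have hrel1 : m ≡ r * s [MOD p] := by
    have h1 : α z₁ = ⁅α d₀, α e₀⁆ := by rw [hz₁, map_commutatorElement]
    rw [hαz₁, hr, hs] at h1
    have hzzc : ∀ Y : P, ⁅zz, Y⁆ = 1 := fun Y => comm_eq_one_of_commute (hZc zz hzz Y)
    have e1 : ⁅d₀ ^ r * zz, e₀ ^ s * dd⁆ = ⁅d₀ ^ r, e₀ ^ s * dd⁆ := by
      rw [comm_mul_left' (d₀ ^ r) zz _ (central_of_eq_one (hzzc _)), hzzc, mul_one]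
    have hdr : d₀ ^ r ∈ D := D.pow_mem hd₀D r
    have e2 : ⁅d₀ ^ r, e₀ ^ s * dd⁆ = ⁅d₀ ^ r, e₀ ^ s⁆ := by
      have h0 : ⁅d₀ ^ r, dd⁆ = 1 := comm_eq_one_of_commute (hDcomm _ hdr _ hdd)
      rw [comm_mul_right' (d₀ ^ r) (e₀ ^ s) dd (central_of_eq_one h0), h0, mul_one]
    have e3 : ⁅d₀ ^ r, e₀ ^ s⁆ = z₁ ^ (r * s) := by
      rw [comm_pow_right' (d₀ ^ r) e₀ (hDZ _ hdr e₀).2 s, comm_pow_left' d₀ e₀ hz₁c r, ← hz₁,
        ← pow_mul]
    rw [e1, e2, e3] at h1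
    rw [← hz₁ord]
    exact pow_eq_pow_iff_modEq.mp h1
  -- relation (2), computed in `P ⧸ Z`
  have hrel2 : r ≡ s * m [MOD p] := by
    obtain ⟨π, hπ⟩ : ∃ π : P →* P ⧸ Z, π = QuotientGroup.mk' Z := ⟨_, rfl⟩
    have hπZ : ∀ z ∈ Z, π z = 1 := fun z hz => by
      rw [hπ]; exact (QuotientGroup.eq_one_iff z).mpr hz
    have hπsurj : Function.Surjective π := by rw [hπ]; exact QuotientGroup.mk'_surjective Z
    have hQ1 : ∀ d ∈ D, ∀ q : P ⧸ Z, π d * q = q * π d := by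
      intro d hd q
      obtain ⟨g, rfl⟩ := hπsurj q
      have h1 : π ⁅d, g⁆ = 1 := hπZ _ (hDZ d hd g).1
      rw [map_commutatorElement] at h1
      exact commutatorElement_eq_one_iff_mul_comm.mp h1
    have hQ2 : ∀ e ∈ E, ∀ g : P, ∀ q : P ⧸ Z, ⁅π e, π g⁆ * q = q * ⁅π e, π g⁆ := by
      intro e he g q
      rw [← map_commutatorElement]
      exact hQ1 _ (hED e he g) q
    have hδc : ∀ q : P ⧸ Z, π dd * q = q * π dd := hQ1 dd hdd
    have hXeq : π (α e₀) = π e₀ ^ s * π dd := by rw [hs, map_mul, map_pow]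
    have hcomm1 : ⁅π (α e₀), π g₀⁆ = 1 := by
      obtain ⟨b, d₃, hd₃, hb⟩ := hdecE g₀ hg₀E
      rw [hXeq, hb, map_mul, map_pow]
      apply comm_eq_one_of_commute
      have c1 : Commute (π e₀ ^ s) (π e₀ ^ b) := (Commute.refl (π e₀)).pow_pow s b
      have c2 : Commute (π e₀ ^ s) (π d₃) := (hQ1 d₃ hd₃ _).symm
      have c3 : Commute (π dd) (π e₀ ^ b) := hδc _
      have c4 : Commute (π dd) (π d₃) := hδc _
      exact ((c1.mul_right c2).mul_left (c3.mul_right c4)).eq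
    have hstep1 : ⁅π (α e₀), π g₀ * π u ^ m⁆ = ⁅π (α e₀), π u⁆ ^ m := by
      have hc : ∀ q : P ⧸ Z, ⁅π (α e₀), π u ^ m⁆ * q = q * ⁅π (α e₀), π u ^ m⁆ := by
        intro q
        rw [← map_pow]
        exact hQ2 (α e₀) (hαE e₀ he₀E) (u ^ m) q
      rw [comm_mul_right' _ _ _ hc, hcomm1, one_mul,
        comm_pow_right' _ _ (hQ2 (α e₀) (hαE e₀ he₀E) u) m]
    have hstep2 : ⁅π (α e₀), π u⁆ = π d₀ ^ s := by
      rw [hXeq]
      have h0 : ⁅π dd, π u⁆ = 1 := comm_eq_one_of_commute (hδc _)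
      rw [comm_mul_left' _ _ _ (central_of_eq_one h0), h0, mul_one,
        comm_pow_left' _ _ (hQ2 e₀ he₀E u) s, ← map_commutatorElement, ← hd₀]
    have h1 : π (α d₀) = ⁅π (α e₀), π (α u)⁆ := by
      rw [hd₀, map_commutatorElement, map_commutatorElement]
    have h2 : π (α d₀) = π d₀ ^ r := by
      rw [hr, map_mul, map_pow, hπZ zz hzz, mul_one]
    rw [h2, hαu', map_mul, map_pow, hstep1, hstep2, ← pow_mul] at h1
    have hπd₀p : π d₀ ^ p = 1 := by rw [← map_pow, (hE d₀).mp (hDE hd₀D), map_one]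
    have hπd₀ne : π d₀ ≠ 1 := by
      intro h
      rw [hπ] at h
      exact hd₀Z ((QuotientGroup.eq_one_iff d₀).mp h)
    rw [← orderOf_eq_prime hπd₀p hπd₀ne]
    exact pow_eq_pow_iff_modEq.mp h1
  have hs2 : s * s ≡ 1 [MOD p] := by
    have h1 : m * 1 ≡ m * (s * s) [MOD p] := by
      calc m * 1 = m := mul_one m
        _ ≡ r * s [MOD p] := hrel1
        _ ≡ (s * m) * s [MOD p] := Nat.ModEq.mul_right s hrel2
        _ = m * (s * s) := by ring
    have hcop : Nat.gcd p m = 1 := (Nat.Prime.coprime_iff_not_dvd hp.out).mpr hpm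
    exact (Nat.ModEq.cancel_left_of_coprime hcop h1).symm
  exact hs2

end autsq

end Cfsg.Agent.Lib.Helper1.QR
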