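import Mathlib
import Cfsg.Agent.Lib.Helper1.QR13
import Cfsg.Agent.Lib.Helper4.HallRegApp
set_option autoImplicit false
set_option maxHeartbeats 4000000
set_option linter.unusedVariables false
set_option linter.unusedSectionVars false
set_option linter.style.longLine false
set_option linter.unusedSimpArgs false
set_option linter.deprecated false
set_option linter.style.haveILetI false
universe u
open scoped commutatorElement Pointwise

namespace Cfsg.Agent.Lib.Helper1.QR

open Cfsg Cfsg.Agent.Lib.Helper4 Cfsg.Agent.Lib.Helper1.BK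

section endgame
variable {P : Type u} [Group P] [Finite P] {p : ℕ} [hp : Fact p.Prime]

/-- **Endgame**: a `p`-group of rank two (`p > 3`) whose `Ω₁` has order `p³` and is a proper
subgroup admits no automorphism acting as squaring (modulo the centre of `Ω₁`) on a
self-centralizing subgroup `R` of order `p²` with `N(R) = Ω₁`. -/
theorem endgame (hp3 : 3 < p) (hPp : IsPGroup p P) (hrk : PRankLE p 2 P) (M R : Subgroup P)
    (hM : ∀ g, g ∈ M ↔ g ^ p = 1) (hMcard : Nat.card M = p ^ 3) (hRM : R ≤ M)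
    (hRcard : Nat.card R = p ^ 2)
    (hN : ∀ s : P, (∀ r ∈ R, s * r * s⁻¹ ∈ R) → s ∈ M)
    (hC : ∀ s : P, (∀ r ∈ R, s * r = r * s) → s ∈ R)
    (hMtop : ∃ s : P, s ∉ M)
    (ψ : MulAut P) (z : P) (hzR : z ∈ R) (hzM : ∀ m ∈ M, m * z = z * m)
    (hψ : ∀ a ∈ R, ∃ k : ℕ, ψ a = a ^ 2 * z ^ k) : False := by
  classical
  have hp2 : p ≠ 2 := by omega
  have hp1 : 1 < p := hp.out.one_lt
  have hreg : IsRegularPGroup p P :=
    HallReg.regular_of_rank hp3 hPp (fun E hE => hrk E hE.1 hE.2)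
  obtain ⟨hnc, hZcard, hCcyc, hpowC⟩ := structure_E hp2 hreg hrk M hM hMcard
  have hCM : Subgroup.centralizer (M : Set P) ≤ M := by
    intro x hx
    apply hRM
    apply hC
    intro r hr
    exact ((Subgroup.mem_centralizer_iff.mp hx) r (hRM hr)).symm
  rcases dichotomy hp2 hreg hrk M hM hMcard with htop | ⟨u, c₀, hu, hC₀⟩
  · obtain ⟨s, hs⟩ := hMtop
    apply hs
    have : M ⊔ Subgroup.centralizer (M : Set P) = M := sup_eq_left.mpr hCM
    rw [this] at htop
    rw [htop]; trivial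
  haveI hMn : M.Normal :=
    ⟨fun x hx g => (hM _).mpr (by rw [conj_pow, (hM x).mp hx, mul_one, mul_inv_cancel])⟩
  haveI hCn : (Subgroup.centralizer (M : Set P)).Normal := Subgroup.normal_centralizer
  obtain ⟨Z, hZdef⟩ : ∃ Z : Subgroup P, Z = M ⊓ Subgroup.centralizer (M : Set P) := ⟨_, rfl⟩
  rw [← hZdef] at hZcard
  haveI hZn : Z.Normal := by rw [hZdef]; infer_instance
  have hZM : Z ≤ M := by rw [hZdef]; exact inf_le_left
  have hZneM : Z ≠ M := by
    intro h
    rw [h, hMcard] at hZcard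
    have h3 : p ^ 3 = p ^ 1 := by rw [pow_one]; exact hZcard
    have := Nat.pow_right_injective hp.out.two_le h3
    omega
  obtain ⟨D, hDn, hZD, hDM, hDcard⟩ := Rk.exists_normal_step hPp Z M hZM hZneM
  rw [hZcard] at hDcard
  have hDcard2 : Nat.card D = p ^ 2 := by rw [hDcard, sq]
  have hRD : R ≠ D := by
    intro h
    obtain ⟨s, hs⟩ := hMtop
    apply hs
    apply hN
    intro r hr
    rw [h] at hr ⊢
    exact hDn.conj_mem r hr s
  obtain ⟨a, haR, haD⟩ : ∃ a ∈ R, a ∉ D := by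
    by_contra hcon
    push Not at hcon
    apply hRD
    exact Subgroup.eq_of_le_of_card_ge (fun x hx => hcon x hx) (by rw [hDcard2, hRcard])
  obtain ⟨k, hk⟩ := hψ a haR
  have hzZ : z ∈ Z := by
    rw [hZdef, Subgroup.mem_inf]
    refine ⟨hRM hzR, ?_⟩
    rw [Subgroup.mem_centralizer_iff]
    exact hzM
  have hzkD : z ^ k ∈ D := D.pow_mem (hZD hzZ) k
  have h4 := aut_sq hp2 hreg hrk M hM hMcard u c₀ hu hC₀ D hDn (by rw [← hZdef]; exact hZD) hDM
    hDcard2 a (hRM haR) haD ψ 2 (z ^ k) hzkD hk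
  have h5 : p ∣ 2 * 2 - 1 := (Nat.modEq_iff_dvd' (by norm_num)).mp h4.symm
  have h6 : p ≤ 3 := Nat.le_of_dvd (by norm_num) h5
  omega

end endgame

end Cfsg.Agent.Lib.Helper1.QR
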