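import Mathlib
import Cfsg.Agent.Lib.Helper1.QR14
import Cfsg.Agent.Lib.Helper1.GE3
import Cfsg.Agent.Lib.Helper2.EssGen2
import Cfsg.Agent.Lib.Helper9.NormalCrit
import Cfsg.Agent.Lib.Helper1.BG9a
import Cfsg.Agent.Lib.Helper1.RT6
set_option autoImplicit false
set_option maxHeartbeats 4000000
set_option linter.unusedVariables false
set_option linter.unusedSectionVars false
set_option linter.style.longLine false
set_option linter.unusedSimpArgs false
set_option linter.deprecated false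
set_option linter.style.haveILetI false
universe u v
open scoped commutatorElement Pointwise

namespace Cfsg.Agent.Lib.Helper1.QR

open Cfsg Cfsg.FusionSystem Cfsg.Agent.Lib.Helper9 Cfsg.Agent.Lib.Helper1.KN
  Cfsg.Agent.Lib.Helper1.KL

variable {Ω : Type u} [Group Ω] {S : Subgroup Ω}

theorem mem_normalizer_of_conj_mem_fin (A : Subgroup Ω) [Finite A] (g : Ω)
    (h : ∀ a ∈ A, g * a * g⁻¹ ∈ A) : g ∈ Subgroup.normalizer (A : Set Ω) := by
  rw [Subgroup.mem_normalizer_iff]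
  intro x
  refine ⟨h x, fun hx => ?_⟩
  let f : ↥A → ↥A := fun a => ⟨g * a * g⁻¹, h a a.2⟩
  have hfinj : Function.Injective f := by
    intro a b hab
    have h1 : g * (a : Ω) * g⁻¹ = g * (b : Ω) * g⁻¹ := congrArg Subtype.val hab
    apply Subtype.ext
    have h2 := mul_left_cancel (mul_right_cancel h1)
    exact h2
  obtain ⟨a, ha⟩ := Finite.surjective_of_injective hfinj ⟨g * x * g⁻¹, hx⟩
  have h1 : g * (a : Ω) * g⁻¹ = g * x * g⁻¹ := congrArg Subtype.val ha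
  have h2 : (a : Ω) = x := mul_left_cancel (mul_right_cancel h1)
  rw [← h2]; exact a.2

theorem pRankLE_sub {p : ℕ} {T : Subgroup Ω} (hTS : T ≤ S)
    (hrank3 : ∀ E : Subgroup Ω, E ≤ S → IsElementaryAbelian p E → Nat.card E ≤ p ^ 2) :
    PRankLE p 2 ↥T := by
  intro A hAc hAexp
  have h1 := hrank3 (A.map T.subtype) ((Subgroup.map_subtype_le A).trans hTS) ?_
  · rwa [Subgroup.card_map_of_injective T.subtype_injective] at h1
  · refine ⟨⟨⟨?_⟩⟩, ?_⟩
    · rintro ⟨_, a, ha, rfl⟩ ⟨_, b, hb, rfl⟩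
      apply Subtype.ext
      have := hAc.is_comm.comm ⟨a, ha⟩ ⟨b, hb⟩
      have h2 : a * b = b * a := congrArg Subtype.val this
      show T.subtype a * T.subtype b = T.subtype b * T.subtype a
      rw [← map_mul, ← map_mul, h2]
    · rintro _ ⟨a, ha, rfl⟩
      rw [← map_pow, hAexp a ha, map_one]

theorem pRankLE_model {p : ℕ} [Fact p.Prime] {T : Subgroup Ω} {L : Type v} [Group L] [Finite L]
    (ι : ↥T →* L) (hinj : Function.Injective ι) (Sy : Sylow p L)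
    (hSy : (Sy : Subgroup L) = ι.range) (hrkT : PRankLE p 2 ↥T) : PRankLE p 2 L := by
  apply Cfsg.Agent.Lib.Helper1.BG9.pRankLE_of_sylow Sy
  let f : ↥(Sy : Subgroup L) →* ↥T :=
    (MonoidHom.ofInjective hinj).symm.toMonoidHom.comp (Subgroup.inclusion (le_of_eq hSy))
  refine Cfsg.Agent.Lib.Helper1.RT.pRankLE_of_injective f ?_ hrkT
  intro a b hab
  have := (MonoidHom.ofInjective hinj).symm.injective hab
  exact Subgroup.inclusion_injective _ this

theorem exists_aut_of_normalizer {T : Subgroup Ω} [Finite T] {L : Type v} [Group L]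
    (E : FusionSystem T) (ι : ↥T →* L) (hreal : E.IsRealizedBy ι) (g : L)
    (hg : g ∈ Subgroup.normalizer ((ι.range : Subgroup L) : Set L)) :
    ∃ α ∈ E.autGroup T, ∀ x : ↥T, ι (α x) = g * ι x * g⁻¹ := by
  have hinj := hreal.1
  obtain ⟨φ, hφT, hφι⟩ := exists_pull_conj ι hinj (le_refl T) g
    (fun x => (Subgroup.mem_normalizer_iff.mp hg _).mp ⟨⟨x, le_refl T x.2⟩, rfl⟩)
  have hφE : φ ∈ E.Hom T := (hreal.2 T le_rfl φ hφT).mpr ⟨g, hφι⟩
  have hφinj := E.injective_of_mem hφE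
  have hrange : φ.range = T := by
    apply Subgroup.eq_of_le_of_card_ge
    · rintro _ ⟨x, rfl⟩; exact hφT x
    · exact le_of_eq (Nat.card_congr (MonoidHom.ofInjective hφinj).toEquiv)
  obtain ⟨α, hα, hαφ⟩ := exists_aut_of_hom E hφE hrange
  refine ⟨α, hα, fun x => ?_⟩
  have h1 : α x = ⟨φ x, hφT x⟩ := Subtype.ext (hαφ x)
  rw [h1, hφι x]

/-- the structure of an essential subgroup in rank two -/
theorem essential_structure [Finite S] (p : ℕ) [hp : Fact p.Prime] (hS : IsPGroup p S)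
    (F : FusionSystem S) (hF : F.IsSaturated p) (hp3 : 3 < p)
    (hrank3 : ∀ E : Subgroup Ω, E ≤ S → IsElementaryAbelian p E → Nat.card E ≤ p ^ 2)
    (R : Subgroup Ω) (hR : F.IsEssential p R) :
    Nat.card R = p ^ 2 ∧ Nat.card (normalizerIn S R) = p ^ 3 ∧
    (∀ x ∈ normalizerIn S R, x ^ p = 1) ∧
    ∃ α ∈ F.autGroup (normalizerIn S R), ∃ z ∈ R, (∀ m ∈ normalizerIn S R, m * z = z * m) ∧
      ∀ (a : Ω) (ha : a ∈ normalizerIn S R), a ∈ R →
        ∃ k : ℕ, ((α ⟨a, ha⟩ : ↥(normalizerIn S R)) : Ω) = a ^ 2 * z ^ k := by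
  have hRS : R ≤ S := hR.1.1
  have hRr := Cfsg.Agent.S5080.result p hS F hF R hR
  have hRc := hR.1
  have hRfn := hR.2.1
  obtain ⟨E, hE⟩ := Cfsg.Agent.S5096.result F R hRS
  have hEsat := Cfsg.Agent.S5098.result p hS F hF R hRfn E hE
  haveI : Finite ↥(normalizerIn S R) := finite_normalizerIn (S := S) R
  have hTS : normalizerIn S R ≤ S := normalizerIn_le S R
  have hTp : IsPGroup p ↥(normalizerIn S R) := isPGroup_of_le hS hTS
  have hRnE : E.IsNormal R := normal_self_of_isNormalizerSystem F hRS E hE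
  have hRcE : E.IsCentric R := centric_self_of_isNormalizerSystem F hRc E hE
  obtain ⟨L, _, ι, hmodel⟩ := Cfsg.Agent.S5090.result p hTp E ⟨hEsat, R, hRnE, hRcE⟩
  have hpc := (normalizer_centric_radical_constrained p hS F hF R hRfn hRc hRr E hE ι).2 hmodel
  obtain ⟨hfin, hreal, ⟨Sy, hSy⟩, hcent⟩ := id hmodel
  haveI := hfin
  have hinj := hreal.1
  have hRNS : R ≤ normalizerIn S R := fun x hx => ⟨hRS hx, Subgroup.le_normalizer hx⟩
  have hrkNS : PRankLE p 2 ↥(normalizerIn S R) := pRankLE_sub hTS hrank3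
  have hrkL : PRankLE p 2 L := pRankLE_model ι hinj Sy hSy hrkNS
  have hlt : R < S := Cfsg.Agent.Lib.Helper2.EssGen.essential_lt hS F hF hR
  have hSyne : (Sy : Subgroup L) ≠ pCore p L := by
    intro h
    obtain ⟨g, hgN, hgR⟩ := exists_mem_normalizerIn_not_mem hS hlt
    apply hgR
    have h1 : ι ⟨g, hgN⟩ ∈ (Sy : Subgroup L) := by rw [hSy]; exact ⟨_, rfl⟩
    rw [h, hpc] at h1
    obtain ⟨r, hr, hrg⟩ := Subgroup.mem_map.mp h1
    have h2 : r = ⟨g, hgN⟩ := hinj hrg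
    rw [h2] at hr
    exact Subgroup.mem_subgroupOf.mp hr
  obtain ⟨hPcard, hSycard, hSyexp, g, hgN, z, hzP, hz1, hzc, hconj⟩ :=
    structure_of_not_pclosed hp3 hrkL hcent Sy hSyne
  have hRcard : Nat.card R = p ^ 2 := by
    rw [← hPcard, hpc, Subgroup.card_map_of_injective hinj]
    exact (Nat.card_congr (Subgroup.subgroupOfEquivOfLe hRNS).toEquiv).symm
  have hNScard : Nat.card (normalizerIn S R) = p ^ 3 := by
    rw [← hSycard, hSy]
    exact Nat.card_congr (MonoidHom.ofInjective hinj).toEquiv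
  have hmemSy : ∀ x : ↥(normalizerIn S R), ι x ∈ (Sy : Subgroup L) := by
    intro x; rw [hSy]; exact ⟨x, rfl⟩
  have hNSexp : ∀ x ∈ normalizerIn S R, x ^ p = 1 := by
    intro x hx
    have h2 := hSyexp _ (hmemSy ⟨x, hx⟩)
    rw [← map_pow] at h2
    have h3 : (⟨x, hx⟩ : ↥(normalizerIn S R)) ^ p = 1 := hinj (by rw [h2, map_one])
    exact congrArg Subtype.val h3
  have hgN' : g ∈ Subgroup.normalizer ((ι.range : Subgroup L) : Set L) := by
    rw [← hSy]; exact hgN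
  obtain ⟨α, hαE, hαι⟩ := exists_aut_of_normalizer E ι hreal g hgN'
  have hαF : α ∈ F.autGroup (normalizerIn S R) := by
    rw [mem_autGroup_iff F hTS]
    exact hom_of_normalizerSystem F E hE ((mem_autGroup_iff E le_rfl α).mp hαE)
  rw [hpc] at hzP
  obtain ⟨zM, hzM, hzMι⟩ := Subgroup.mem_map.mp hzP
  refine ⟨hRcard, hNScard, hNSexp, α, hαF, (zM : Ω), Subgroup.mem_subgroupOf.mp hzM, ?_, ?_⟩
  · intro m hm
    have h2 := hzc _ (hmemSy ⟨m, hm⟩)
    rw [← hzMι, ← map_mul, ← map_mul] at h2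
    exact congrArg Subtype.val (hinj h2)
  · intro a ha haR
    have h1 : ι ⟨a, ha⟩ ∈ pCore p L := by
      rw [hpc]; exact ⟨⟨a, ha⟩, Subgroup.mem_subgroupOf.mpr haR, rfl⟩
    obtain ⟨k, hk⟩ := hconj _ h1
    refine ⟨k, ?_⟩
    have h2 : ι (α ⟨a, ha⟩) = ι ((⟨a, ha⟩ : ↥(normalizerIn S R)) ^ 2 * zM ^ k) := by
      rw [hαι, hk, map_mul, map_pow, map_pow, hzMι]
    exact congrArg Subtype.val (hinj h2)

/-- automorphisms of a large normal centric subgroup extend -/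
theorem extend_aut [Finite S] (p : ℕ) [hp : Fact p.Prime] (hS : IsPGroup p S)
    (F : FusionSystem S) (hF : F.IsSaturated p) (hp3 : 3 < p)
    (hrank3 : ∀ E : Subgroup Ω, E ≤ S → IsElementaryAbelian p E → Nat.card E ≤ p ^ 2)
    (M : Subgroup Ω) (hMS : M ≤ S) (hMfn : F.IsFullyNormalized M) (hMc : F.IsCentric M)
    (hMcard : p ^ 3 ≤ Nat.card M) (α : MulAut ↥M) (hα : α ∈ F.autGroup M) :
    ∃ ψ : MulAut ↥(normalizerIn S M), ∀ (x : ↥(normalizerIn S M)) (hx : (x : Ω) ∈ M),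
      ((ψ x : ↥(normalizerIn S M)) : Ω) = ((α ⟨x, hx⟩ : ↥M) : Ω) := by
  have hp1 : 1 < p := hp.out.one_lt
  obtain ⟨E₂, hE₂⟩ := Cfsg.Agent.S5096.result F M hMS
  have hE₂sat := Cfsg.Agent.S5098.result p hS F hF M hMfn E₂ hE₂
  haveI : Finite ↥(normalizerIn S M) := finite_normalizerIn (S := S) M
  have hTS : normalizerIn S M ≤ S := normalizerIn_le S M
  have hTp : IsPGroup p ↥(normalizerIn S M) := isPGroup_of_le hS hTS
  have hMnE₂ : E₂.IsNormal M := normal_self_of_isNormalizerSystem F hMS E₂ hE₂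
  have hMcE₂ : E₂.IsCentric M := centric_self_of_isNormalizerSystem F hMc E₂ hE₂
  obtain ⟨L₂, _, ι₂, hmodel₂⟩ := Cfsg.Agent.S5090.result p hTp E₂ ⟨hE₂sat, M, hMnE₂, hMcE₂⟩
  obtain ⟨hfin₂, hreal₂, ⟨Sy₂, hSy₂⟩, hcent₂⟩ := id hmodel₂
  haveI := hfin₂
  have hinj₂ := hreal₂.1
  have hMNS : M ≤ normalizerIn S M := fun x hx => ⟨hMS hx, Subgroup.le_normalizer hx⟩
  have hrkL₂ : PRankLE p 2 L₂ := pRankLE_model ι₂ hinj₂ Sy₂ hSy₂ (pRankLE_sub hTS hrank3)
  haveI hN₂n : ((M.subgroupOf (normalizerIn S M)).map ι₂).Normal :=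
    map_normal_of_isModel p E₂ ι₂ hmodel₂ hMnE₂
  have hN₂p : IsPGroup p ((M.subgroupOf (normalizerIn S M)).map ι₂ : Subgroup L₂) :=
    (hTp.to_subgroup _).map ι₂
  have hN₂le := Cfsg.Agent.Lib.Helper1.le_pCore hN₂n hN₂p
  have hN₂card : Nat.card ((M.subgroupOf (normalizerIn S M)).map ι₂ : Subgroup L₂) = Nat.card M := by
    rw [Subgroup.card_map_of_injective hinj₂]
    exact Nat.card_congr (Subgroup.subgroupOfEquivOfLe hMNS).toEquiv
  have hclosed : (Sy₂ : Subgroup L₂) = pCore p L₂ := by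
    by_contra hne
    obtain ⟨hPcard, -⟩ := structure_of_not_pclosed hp3 hrkL₂ hcent₂ Sy₂ hne
    have h1 := Subgroup.card_le_of_le hN₂le
    rw [hPcard, hN₂card] at h1
    have : p ^ 2 < p ^ 3 := Nat.pow_lt_pow_right hp1 (by norm_num)
    omega
  obtain ⟨ψ', hψ'⟩ : ∃ ψ' : ↥M →* Ω, ψ' = M.subtype.comp α.toMonoidHom := ⟨_, rfl⟩
  have hψ'N : ψ' ∈ F.normalizerHom M M := by
    rw [hψ']
    exact mem_normalizerHom_of_aut F (le_refl M) hMNS hα (fun y _ => (α y).2)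
  have hψ'E₂ : ψ' ∈ E₂.Hom M := by rw [hE₂ M]; exact hψ'N
  have hψ'vals : ∀ x : ↥M, ψ' x ∈ normalizerIn S M := by
    intro x; apply hMNS; rw [hψ']; exact (α x).2
  obtain ⟨h, hh⟩ := (hreal₂.2 M hMNS ψ' hψ'vals).mp hψ'E₂
  have hhN : h ∈ Subgroup.normalizer ((ι₂.range : Subgroup L₂) : Set L₂) := by
    rw [← hSy₂, hclosed]
    haveI : (pCore p L₂).Normal := Cfsg.Agent.Lib.Helper1.pCore_normal p
    rw [Subgroup.normalizer_eq_top]; trivial
  obtain ⟨ψ, -, hψι⟩ := exists_aut_of_normalizer E₂ ι₂ hreal₂ h hhN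
  refine ⟨ψ, fun x hx => ?_⟩
  have h1 : ι₂ (ψ x) = ι₂ ⟨ψ' ⟨x, hx⟩, hψ'vals _⟩ := by
    rw [hψι, hh ⟨x, hx⟩]
  have h2 := hinj₂ h1
  rw [h2]
  show ψ' ⟨x, hx⟩ = ((α ⟨x, hx⟩ : ↥M) : Ω)
  rw [hψ']
  rfl

end Cfsg.Agent.Lib.Helper1.QR
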