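import Mathlib
import Cfsg.Agent.Lib.Helper1.QR15
set_option autoImplicit false
set_option maxHeartbeats 4000000
set_option linter.unusedVariables false
set_option linter.unusedSectionVars false
set_option linter.style.longLine false
set_option linter.unusedSimpArgs false
set_option linter.deprecated false
set_option linter.style.haveILetI false
universe u v
open scoped commutatorElement Pointwise

namespace Cfsg.Agent.Lib.Helper1.QR

open Cfsg Cfsg.FusionSystem Cfsg.Agent.Lib.Helper9 Cfsg.Agent.Lib.Helper1.KN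
  Cfsg.Agent.Lib.Helper1.KL

variable {Ω : Type u} [Group Ω] {S : Subgroup Ω}

/-- **Resistance of rank two `p`-groups**, `p ≥ 5`. -/
theorem rank_two_resistant [Finite S] (p : ℕ) [hp : Fact p.Prime] (hS : IsPGroup p S)
    (F : FusionSystem S) (hF : F.IsSaturated p) (hp3 : 3 < p)
    (hrank3 : ∀ E : Subgroup Ω, E ≤ S → IsElementaryAbelian p E → Nat.card E ≤ p ^ 2)
    (hnotE : ¬ (Nat.card S = p ^ 3 ∧ Monoid.exponent ↥S = p)) : F.IsNormal S := by
  classical
  have hp2 : p ≠ 2 := by omega
  have hp1 : 1 < p := hp.out.one_lt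
  rw [normal_iff_essential_invariant p hS F hF]
  intro P hP
  rcases hP with rfl | hR
  · refine ⟨le_rfl, fun α _ => ?_⟩
    rw [Subgroup.subgroupOf_self]
    exact Subgroup.map_top_of_surjective _ α.surjective
  exfalso
  obtain ⟨hRcard, hMcard, hMexp, α, hαF, z, hzR, hzM, hαR⟩ :=
    essential_structure p hS F hF hp3 hrank3 P hR
  have hRS : P ≤ S := hR.1.1
  have hMS : normalizerIn S P ≤ S := normalizerIn_le S P
  have hPM : P ≤ normalizerIn S P := fun x hx => ⟨hRS hx, Subgroup.le_normalizer hx⟩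
  haveI hfinM : Finite ↥(normalizerIn S P) := finite_normalizerIn (S := S) P
  haveI hfinP : Finite ↥P := finite_of_le hRS
  by_cases hSM : S ≤ normalizerIn S P
  · -- `S` is extraspecial of exponent `p`
    apply hnotE
    have hSeq : normalizerIn S P = S := le_antisymm hMS hSM
    have hScard : Nat.card S = p ^ 3 := by rw [← hSeq]; exact hMcard
    refine ⟨hScard, ?_⟩
    have h1 : Monoid.exponent ↥S ∣ p := by
      apply Monoid.exponent_dvd_of_forall_pow_eq_one
      intro g
      apply Subtype.ext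
      rw [Subgroup.coe_pow, Subgroup.coe_one]
      exact hMexp g (hSM g.2)
    rcases (Nat.dvd_prime hp.out).mp h1 with h | h
    · exfalso
      haveI : Subsingleton ↥S := Monoid.exp_eq_one_iff.mp h
      have h2 : Nat.card ↥S = 1 := Nat.card_unique
      rw [hScard] at h2
      have : 1 < p ^ 3 := Nat.one_lt_pow (by norm_num) hp1
      omega
    · exact h
  -- the endgame
  obtain ⟨s₀, hs₀S, hs₀M⟩ : ∃ s₀ ∈ S, s₀ ∉ normalizerIn S P := by
    by_contra hcon
    push Not at hcon
    exact hSM hcon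
  have hrkS : PRankLE p 2 ↥S := pRankLE_sub le_rfl hrank3
  -- `M = Ω₁(S)`
  have hMchar : ∀ g ∈ S, g ∈ normalizerIn S P ↔ g ^ p = 1 := by
    intro g hg
    refine ⟨hMexp g, fun hgp => ?_⟩
    have hregtop : IsRegularPGroup p ↥(⊤ : Subgroup ↥S) :=
      regular_of_rank_sub hp3 hrkS ⊤ (hS.to_subgroup ⊤)
    have hΩcard := card_omegaOne_le_cube hp2 hrkS (hS.to_subgroup ⊤) hregtop
    have hle : (normalizerIn S P).subgroupOf S ≤ omegaOne p (⊤ : Subgroup ↥S) := by
      intro x hx
      rw [mem_omegaOne_iff hregtop]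
      refine ⟨Subgroup.mem_top x, ?_⟩
      apply Subtype.ext
      rw [Subgroup.coe_pow, Subgroup.coe_one]
      exact hMexp _ (Subgroup.mem_subgroupOf.mp hx)
    have hcard' : Nat.card ((normalizerIn S P).subgroupOf S) = p ^ 3 := by
      rw [Nat.card_congr (Subgroup.subgroupOfEquivOfLe hMS).toEquiv]; exact hMcard
    have heq := Subgroup.eq_of_le_of_card_ge hle (by rw [hcard']; exact hΩcard)
    have h1 : (⟨g, hg⟩ : ↥S) ∈ omegaOne p (⊤ : Subgroup ↥S) := by
      rw [mem_omegaOne_iff hregtop]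
      refine ⟨Subgroup.mem_top _, ?_⟩
      apply Subtype.ext
      rw [Subgroup.coe_pow, Subgroup.coe_one]
      exact hgp
    rw [← heq] at h1
    exact Subgroup.mem_subgroupOf.mp h1
  have hMnorm : normalizerIn S (normalizerIn S P) = S := by
    apply normalizerIn_eq_of_forall
    intro s hs x hx
    have hxS : x ∈ S := hMS hx
    have hcS : s * x * s⁻¹ ∈ S := S.mul_mem (S.mul_mem hs hxS) (S.inv_mem hs)
    rw [hMchar _ hcS, conj_pow, (hMchar x hxS).mp hx, mul_one, mul_inv_cancel]
  have hMfn : F.IsFullyNormalized (normalizerIn S P) :=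
    fullyNormalized_of_normalizerIn_eq F hMS hMnorm
  have hRc := hR.1
  have hCR : centralizerIn S P ≤ P := hRc.2 P (isConj_refl F hRS)
  have hMc : F.IsCentric (normalizerIn S P) := by
    refine ⟨hMS, fun Q hQ => ?_⟩
    obtain ⟨φ, hφ, hφr⟩ := hQ
    have hφinj := F.injective_of_mem hφ
    have hQM : Q = normalizerIn S P := by
      apply Subgroup.eq_of_le_of_card_ge
      · rw [← hφr]
        rintro _ ⟨x, rfl⟩
        rw [hMchar _ ((F.le_of_mem hφ).2 x), ← map_pow]
        have h1 : x ^ p = 1 := by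
          apply Subtype.ext
          rw [Subgroup.coe_pow, Subgroup.coe_one]
          exact hMexp x x.2
        rw [h1, map_one]
      · rw [← hφr]
        exact le_of_eq (Nat.card_congr (MonoidHom.ofInjective hφinj).toEquiv)
    rw [hQM]
    intro x hx
    apply hPM
    apply hCR
    have hxc : x ∈ Subgroup.centralizer ((P : Subgroup Ω) : Set Ω) := by
      rw [Subgroup.mem_centralizer_iff]
      intro r hr
      exact (Subgroup.mem_centralizer_iff.mp hx.2) r (hPM hr)
    exact ⟨hx.1, hxc⟩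
  obtain ⟨ψ, hψ⟩ := extend_aut p hS F hF hp3 hrank3 (normalizerIn S P) hMS hMfn hMc
    (le_of_eq hMcard.symm) α hαF
  -- apply the endgame inside `N_S(M)`
  have hTS : normalizerIn S (normalizerIn S P) ≤ S := normalizerIn_le S _
  have hMNS : normalizerIn S P ≤ normalizerIn S (normalizerIn S P) := by
    rw [hMnorm]; exact hMS
  have hPNS : P ≤ normalizerIn S (normalizerIn S P) := hPM.trans hMNS
  haveI : Finite ↥(normalizerIn S (normalizerIn S P)) := finite_normalizerIn (S := S) _
  have hzNS : z ∈ normalizerIn S (normalizerIn S P) := hPNS hzR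
  refine endgame (P := ↥(normalizerIn S (normalizerIn S P))) hp3 (isPGroup_of_le hS hTS)
    (pRankLE_sub hTS hrank3) ((normalizerIn S P).subgroupOf _) (P.subgroupOf _) ?_ ?_ ?_ ?_ ?_ ?_ ?_
    ψ ⟨z, hzNS⟩ ?_ ?_ ?_
  · intro g
    rw [Subgroup.mem_subgroupOf, hMchar _ (hTS g.2)]
    constructor
    · intro h
      apply Subtype.ext
      rw [Subgroup.coe_pow, Subgroup.coe_one]
      exact h
    · intro h
      have := congrArg Subtype.val h
      rwa [Subgroup.coe_pow, Subgroup.coe_one] at this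
  · rw [Nat.card_congr (Subgroup.subgroupOfEquivOfLe hMNS).toEquiv]; exact hMcard
  · intro x hx
    exact Subgroup.mem_subgroupOf.mpr (hPM (Subgroup.mem_subgroupOf.mp hx))
  · rw [Nat.card_congr (Subgroup.subgroupOfEquivOfLe hPNS).toEquiv]; exact hRcard
  · intro s h
    rw [Subgroup.mem_subgroupOf]
    refine ⟨hTS s.2, ?_⟩
    apply mem_normalizer_of_conj_mem_fin
    intro r hr
    have h1 := h ⟨r, hPNS hr⟩ (Subgroup.mem_subgroupOf.mpr hr)
    exact Subgroup.mem_subgroupOf.mp h1
  · intro s h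
    rw [Subgroup.mem_subgroupOf]
    apply hCR
    have hsc : (s : Ω) ∈ Subgroup.centralizer ((P : Subgroup Ω) : Set Ω) := by
      rw [Subgroup.mem_centralizer_iff]
      intro r hr
      have h1 := h ⟨r, hPNS hr⟩ (Subgroup.mem_subgroupOf.mpr hr)
      exact (congrArg Subtype.val h1).symm
    exact ⟨hTS s.2, hsc⟩
  · have hs₀NS : s₀ ∈ normalizerIn S (normalizerIn S P) := by rw [hMnorm]; exact hs₀S
    refine ⟨⟨s₀, hs₀NS⟩, ?_⟩
    rw [Subgroup.mem_subgroupOf]
    exact hs₀M
  · exact Subgroup.mem_subgroupOf.mpr hzR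
  · intro m hm
    apply Subtype.ext
    exact hzM _ (Subgroup.mem_subgroupOf.mp hm)
  · intro a ha
    have haP : (a : Ω) ∈ P := Subgroup.mem_subgroupOf.mp ha
    obtain ⟨k, hk⟩ := hαR (a : Ω) (hPM haP) haP
    refine ⟨k, Subtype.ext ?_⟩
    rw [hψ a (hPM haP), hk]
    rfl

end Cfsg.Agent.Lib.Helper1.QR
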