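import Mathlib
import Cfsg.Agent.Lib.Helper1.QS6
set_option autoImplicit false
universe u
namespace Cfsg.Agent.Lib.Helper1.QS

variable {G : Type u} [Group G]

/-- Quaternion Sylow `2`-subgroups: a normal `2`-complement or an `SL(2,3)` section. -/
theorem quaternion_sylow_dichotomy [Finite G] (T : Sylow 2 G) (n : ℕ)
    (hT : Nonempty ((T : Subgroup G) ≃* QuaternionGroup (2 ^ n))) :
    Cfsg.HasNormalPComplement 2 G ∨ ∃ (H K : Subgroup G) (_ : (K.subgroupOf H).Normal),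
      Nonempty ((H ⧸ K.subgroupOf H) ≃* Matrix.SpecialLinearGroup (Fin 2) (ZMod 3)) := by
  obtain ⟨e⟩ := hT
  by_cases hno : Cfsg.HasNormalPComplement 2 G
  · exact Or.inl hno
  · right
    obtain ⟨Q, g, ⟨φ⟩, hg, hodd, hnc⟩ := exists_q8_config T n e hno
    obtain ⟨b, c, hbQ, hcQ, hb4, hb2, hcc, hcb, hgb, hgc, hgen⟩ :=
      exists_adapted Q φ g hg hodd hnc
    exact exists_sl2_section Q b c g hbQ hcQ hb4 hb2 hcc hcb hgb hgc hgen hg hodd

end Cfsg.Agent.Lib.Helper1.QS
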