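import Mathlib
import Cfsg.Agent.Lib.Helper1.QdB2
import Cfsg.Agent.Lib.Helper1.QdStable1
set_option autoImplicit false
universe u
namespace Cfsg.Agent.Lib.Helper1.QdB

theorem s2795 {G : Type u} [Group G] [Finite G] {p : ℕ} [Fact p.Prime] (hp : p ≠ 2) :
    ¬ Cfsg.Involves ↥(Cfsg.qd p) G ↔ ∀ (K R : Subgroup G) [hR : (R.subgroupOf K).Normal],
      Cfsg.IsNormalizerPStable p (K ⧸ R.subgroupOf K) := by
  constructor
  · intro hfree K R hR
    exact Cfsg.Agent.Lib.Helper1.QdStable.isNormalizerPStable_section_of_qdfree hp hfree K R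
  · rintro h ⟨K, R, hR, ⟨e⟩⟩
    exact not_isNormalizerPStable_of_equiv e (h K R)

end Cfsg.Agent.Lib.Helper1.QdB
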