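import Mathlib
import Cfsg.Agent.Lib.Helper1.QdB5
import Cfsg.Agent.Lib.Helper1.QdStable2
import Cfsg.Agent.S1987
import Cfsg.Agent.S1969
set_option autoImplicit false
open Cfsg
universe u
namespace Cfsg.Agent.Lib.Helper1.QdB

open Cfsg.Agent.Lib.Helper1.QdStable Cfsg.Agent.Lib.Helper1.NPC

theorem s1989 {G : Type u} [Group G] [Finite G] {p : ℕ} [Fact p.Prime] (hp : p ≠ 2) :
    ¬ Cfsg.Involves ↥(Cfsg.qd p) G ↔ ∀ (K R : Subgroup G) [hR : (R.subgroupOf K).Normal],
      ∀ T : Sylow p (↥K ⧸ R.subgroupOf K), Cfsg.ControlsStrongFusion p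
        (Cfsg.inducedFunctor (G := (↥K ⧸ R.subgroupOf K)) Cfsg.kInfLower
          (T : Subgroup (↥K ⧸ R.subgroupOf K))) := by
  constructor
  · intro hfree K R hR T
    have hQ : QdFree p (↥K ⧸ R.subgroupOf K) := (QdFree.subgroup hfree K).quotient _
    exact Cfsg.Agent.S1987.result hp
      (fun K' R' hR' => isNormalizerPStable_section_of_qdfree hp hQ K' R') T
  · rintro h ⟨K, R, hR, ⟨e⟩⟩
    obtain ⟨V, B, hd⟩ := exists_isQdData e
    exact hd.not_controls_kInf (h K R)

theorem s2794 {G : Type u} [Group G] [Finite G] {p : ℕ} [Fact p.Prime] (hp : p ≠ 2) :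
    ¬ Cfsg.Involves ↥(Cfsg.qd p) G ↔ ∀ (K R : Subgroup G) [hR : (R.subgroupOf K).Normal],
      ∀ T : Sylow p (K ⧸ R.subgroupOf K), Cfsg.ControlsStrongFusion p
        (Cfsg.centerThompsonAOf (T : Subgroup (K ⧸ R.subgroupOf K))) := by
  constructor
  · intro hfree K R hR T
    have key := Cfsg.Agent.S1969.result (G := G) (p := p) (fun (Q : Type u) [Group Q] => ZJA Q)
      (isCharPFunctor_ZJA p) (by
        intro K' R' hR' hcent T'
        have hQ : QdFree p (↥K' ⧸ R'.subgroupOf K') := (QdFree.subgroup hfree K').quotient _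
        unfold inducedFunctor
        rw [map_subtype_ZJA]
        exact s0664 hp hQ hcent T') K R T
    unfold inducedFunctor at key
    rw [map_subtype_ZJA] at key
    exact key
  · rintro h ⟨K, R, hR, ⟨e⟩⟩
    obtain ⟨V, B, hd⟩ := exists_isQdData e
    exact hd.not_controls_ZJ (h K R)

end Cfsg.Agent.Lib.Helper1.QdB
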