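import Cfsg.Agent.Lib.Helper2.R4Defs
import Cfsg.Agent.Lib.Helper1.Fitting
import Cfsg.Agent.Lib.Helper1.FittingCentralizer

/-! S3814 farm, unit A10: cores `O_p(L)` inside a subgroup `L` and the Fitting subgroup. -/

set_option autoImplicit false
set_option linter.style.haveILetI false

namespace Cfsg.Agent.Lib.Helper2.R4

open scoped Pointwise

variable {G : Type*} [Group G]

/-- the image of `O_p(L)` in `G` is a core of `L` -/
theorem h1_r4_isCoreIn_map [Finite G] {p : ℕ} (hp : p.Prime) (L : Subgroup G) :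
    IsCoreIn p ((Cfsg.pCore p L).map L.subtype) L := by
  haveI : Fact p.Prime := ⟨hp⟩
  have hn : (Cfsg.pCore p L).Normal := Cfsg.Agent.Lib.Helper1.pCore_normal p
  refine ⟨Subgroup.map_subtype_le _, ?_, ?_, ?_⟩
  · intro g hg
    rw [Subgroup.mem_normalizer_iff]
    intro x
    constructor
    · rintro ⟨x', hx', rfl⟩
      refine ⟨⟨g, hg⟩ * x' * ⟨g, hg⟩⁻¹, hn.conj_mem x' hx' ⟨g, hg⟩, ?_⟩
      simp
    · rintro ⟨x', hx', hxx'⟩
      have h1 : x = g⁻¹ * (x' : G) * g := by
        have : (x' : G) = g * x * g⁻¹ := hxx'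
        rw [this]; group
      refine ⟨⟨g, hg⟩⁻¹ * x' * ⟨g, hg⟩, ?_, ?_⟩
      · have := hn.conj_mem x' hx' (⟨g, hg⟩⁻¹)
        simpa using this
      · rw [h1]; simp
  · exact (Cfsg.Agent.Lib.Helper1.pCore_isPGroup (G := L) p).map L.subtype
  · intro P' hP'L hLP' hP'
    have hn' : (P'.subgroupOf L).Normal := by
      constructor
      intro x hx g
      rw [Subgroup.mem_subgroupOf] at hx ⊢
      have := (Subgroup.mem_normalizer_iff.mp (hLP' g.2) x).mp hx
      simpa using this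
    have hp' : IsPGroup p (P'.subgroupOf L) := by
      apply IsPGroup.of_injective hP' (Subgroup.subgroupOfEquivOfLe hP'L).toMonoidHom
      exact (Subgroup.subgroupOfEquivOfLe hP'L).injective
    have hle := Cfsg.Agent.Lib.Helper1.le_pCore hn' hp'
    intro x hx
    exact ⟨⟨x, hP'L hx⟩, hle (by rw [Subgroup.mem_subgroupOf]; exact hx), rfl⟩

theorem exists_isCoreIn [Finite G] {p : ℕ} (hp : p.Prime) (L : Subgroup G) :
    ∃ P : Subgroup G, IsCoreIn p P L := ⟨_, h1_r4_isCoreIn_map hp L⟩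

/-- cores are unique -/
theorem h1_r4_isCoreIn_unique {p : ℕ} {P P' L : Subgroup G} (h : IsCoreIn p P L)
    (h' : IsCoreIn p P' L) : P = P' :=
  le_antisymm (h'.2.2.2 P h.1 h.2.1 h.2.2.1) (h.2.2.2 P' h'.1 h'.2.1 h'.2.2.1)

/-- the Fitting subgroup of a `{p,q}`-group is `O_p ⊔ O_q` -/
theorem h1_r4_fitting_le [Finite G] {L : Subgroup G} {p q : ℕ}
    (hL : ∀ r : ℕ, r.Prime → r ∣ Nat.card L → r = p ∨ r = q) :
    Cfsg.fittingSubgroup L ≤ Cfsg.pCore p L ⊔ Cfsg.pCore q L := by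
  rw [Cfsg.Agent.Lib.Helper1.fittingSubgroup_eq_iSup_pCore]
  apply iSup_le
  intro r
  by_cases hr : (r : ℕ) ∣ Nat.card L
  · rcases hL r r.2 hr with h | h
    · rw [h]; exact le_sup_left
    · rw [h]; exact le_sup_right
  · haveI : Fact (r : ℕ).Prime := ⟨r.2⟩
    rw [Cfsg.Agent.Lib.Helper1.pCore_eq_bot_of_not_dvd (r : ℕ) hr]
    exact bot_le

/-- `L` solvable whose order involves only `p, q`; `y ∈ L` of order `p` centralizing `O_p(L)` and
`O_q(L)` lies in `O_p(L)`. -/
theorem mem_core_of_centralizes [Finite G] {L : Subgroup G} (hs : Group.IsSolvable L) {p q : ℕ}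
    (hp : p.Prime) (hq : q.Prime) (hpq : p ≠ q)
    (hL : ∀ r : ℕ, r.Prime → r ∣ Nat.card L → r = p ∨ r = q) {P Pq : Subgroup G}
    (hP : IsCoreIn p P L) (hPq : IsCoreIn q Pq L) {y : G} (hy : y ∈ L) (hyo : orderOf y = p)
    (hc1 : ∀ x ∈ P, y * x = x * y) (hc2 : ∀ x ∈ Pq, y * x = x * y) : y ∈ P := by
  haveI : Fact p.Prime := ⟨hp⟩
  haveI : Fact q.Prime := ⟨hq⟩
  have hPe : P = (Cfsg.pCore p L).map L.subtype := h1_r4_isCoreIn_unique hP (h1_r4_isCoreIn_map hp L)
  have hPqe : Pq = (Cfsg.pCore q L).map L.subtype :=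
    h1_r4_isCoreIn_unique hPq (h1_r4_isCoreIn_map hq L)
  set Op := Cfsg.pCore p L with hOp
  set Oq := Cfsg.pCore q L with hOq
  have hOpn : Op.Normal := Cfsg.Agent.Lib.Helper1.pCore_normal p
  have hOqn : Oq.Normal := Cfsg.Agent.Lib.Helper1.pCore_normal q
  have hOpp : IsPGroup p Op := Cfsg.Agent.Lib.Helper1.pCore_isPGroup (G := L) p
  have hOqq : IsPGroup q Oq := Cfsg.Agent.Lib.Helper1.pCore_isPGroup (G := L) q
  -- y' centralizes Op and Oq
  set y' : L := ⟨y, hy⟩ with hy'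
  have hcp : ∀ x ∈ Op, y' * x = x * y' := by
    intro x hx
    apply Subtype.ext
    have : (x : G) ∈ P := by rw [hPe]; exact ⟨x, hx, rfl⟩
    simpa using hc1 _ this
  have hcq : ∀ x ∈ Oq, y' * x = x * y' := by
    intro x hx
    apply Subtype.ext
    have : (x : G) ∈ Pq := by rw [hPqe]; exact ⟨x, hx, rfl⟩
    simpa using hc2 _ this
  have hcen : y' ∈ Subgroup.centralizer (Cfsg.fittingSubgroup L : Set L) := by
    have hle : Op ⊔ Oq ≤ Subgroup.centralizer {y'} := by
      apply sup_le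
      · intro x hx
        rw [Subgroup.mem_centralizer_iff]
        intro z hz
        rw [Set.mem_singleton_iff] at hz
        rw [hz]; exact hcp x hx
      · intro x hx
        rw [Subgroup.mem_centralizer_iff]
        intro z hz
        rw [Set.mem_singleton_iff] at hz
        rw [hz]; exact hcq x hx
    rw [Subgroup.mem_centralizer_iff]
    intro z hz
    have := hle (h1_r4_fitting_le hL hz)
    rw [Subgroup.mem_centralizer_iff] at this
    exact (this y' rfl).symm
  have hyF : y' ∈ Op ⊔ Oq :=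
    h1_r4_fitting_le hL (Cfsg.Agent.Lib.Helper1.centralizer_fittingSubgroup_le hcen)
  -- decompose
  have hmem : y' ∈ ((Op ⊔ Oq : Subgroup L) : Set L) := hyF
  rw [Subgroup.mul_normal Op Oq] at hmem
  obtain ⟨a, ha, b, hb, hab⟩ := hmem
  replace hab : a * b = y' := hab
  have ha' : a ∈ Op := ha
  have hb' : b ∈ Oq := hb
  have hy'o : y' ^ p = 1 := by
    apply Subtype.ext
    simp only [hy', Subgroup.coe_pow, Subgroup.coe_one]
    rw [← hyo]; exact pow_orderOf_eq_one y
  -- b = a⁻¹ * y'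
  have hbe : b = a⁻¹ * y' := by rw [← hab]; group
  have hcomm : Commute a⁻¹ y' := by
    have := hcp a ha'
    exact (Commute.inv_left (show Commute a y' from this.symm))
  have hbp : b ^ p = (a⁻¹) ^ p := by
    rw [hbe, hcomm.mul_pow, hy'o, mul_one]
  have hdisj : Op ⊓ Oq = ⊥ := by
    have := IsPGroup.disjoint_of_ne p q hpq Op Oq hOpp hOqq
    exact disjoint_iff.mp this
  have hbp1 : b ^ p = 1 := by
    have h1 : b ^ p ∈ Op ⊓ Oq := by
      refine ⟨?_, Oq.pow_mem hb' p⟩
      rw [hbp]; exact Op.pow_mem (Op.inv_mem ha') p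
    rw [hdisj] at h1
    exact Subgroup.mem_bot.mp h1
  have hb1 : b = 1 := by
    obtain ⟨k, hk⟩ := hOqq ⟨b, hb'⟩
    have hk' : b ^ q ^ k = 1 := by
      have := congrArg Subtype.val hk
      simpa using this
    have h1 : orderOf b ∣ p := orderOf_dvd_of_pow_eq_one hbp1
    have h2 : orderOf b ∣ q ^ k := orderOf_dvd_of_pow_eq_one hk'
    have hcop : Nat.Coprime p (q ^ k) := Nat.Coprime.pow_right k ((Nat.coprime_primes hp hq).mpr hpq)
    have : orderOf b ∣ 1 := by
      have := Nat.dvd_gcd h1 h2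
      rwa [hcop] at this
    exact orderOf_eq_one_iff.mp (Nat.dvd_one.mp this)
  rw [hb1, mul_one] at hab
  rw [hPe]
  exact ⟨y', by rw [← hab]; exact ha', rfl⟩

/-- `L ≠ ⊥` solvable whose order involves only `p, q`: one of the two cores is nontrivial -/
theorem core_ne_bot_of_two_primes [Finite G] {L : Subgroup G} (hs : Group.IsSolvable L) (hL1 : L ≠ ⊥)
    {p q : ℕ} (hp : p.Prime) (hq : q.Prime) (hpq : p ≠ q)
    (hL : ∀ r : ℕ, r.Prime → r ∣ Nat.card L → r = p ∨ r = q) {P Pq : Subgroup G}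
    (hP : IsCoreIn p P L) (hPq : IsCoreIn q Pq L) : P ≠ ⊥ ∨ Pq ≠ ⊥ := by
  by_contra hcon
  have h1 : P = ⊥ := by
    by_contra h; exact hcon (Or.inl h)
  have h2 : Pq = ⊥ := by
    by_contra h; exact hcon (Or.inr h)
  have hPe : P = (Cfsg.pCore p L).map L.subtype := h1_r4_isCoreIn_unique hP (h1_r4_isCoreIn_map hp L)
  have hPqe : Pq = (Cfsg.pCore q L).map L.subtype :=
    h1_r4_isCoreIn_unique hPq (h1_r4_isCoreIn_map hq L)
  have hOp : Cfsg.pCore p L = ⊥ := by
    rw [h1] at hPe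
    exact ((Subgroup.map_eq_bot_iff_of_injective _ L.subtype_injective).mp hPe.symm)
  have hOq : Cfsg.pCore q L = ⊥ := by
    rw [h2] at hPqe
    exact ((Subgroup.map_eq_bot_iff_of_injective _ L.subtype_injective).mp hPqe.symm)
  have hF : Cfsg.fittingSubgroup L = ⊥ := by
    have := h1_r4_fitting_le hL
    rw [hOp, hOq, sup_bot_eq] at this
    exact le_bot_iff.mp this
  have hC : Subgroup.centralizer (Cfsg.fittingSubgroup L : Set L) ≤ Cfsg.fittingSubgroup L :=
    Cfsg.Agent.Lib.Helper1.centralizer_fittingSubgroup_le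
  rw [hF] at hC
  have htop : (⊤ : Subgroup L) = ⊥ := by
    apply le_bot_iff.mp
    refine le_trans ?_ hC
    intro x _
    rw [Subgroup.mem_centralizer_iff]
    intro z hz
    have : z = 1 := Subgroup.mem_bot.mp hz
    rw [this]; simp
  apply hL1
  rw [Subgroup.eq_bot_iff_forall]
  intro x hx
  have : (⟨x, hx⟩ : L) ∈ (⊤ : Subgroup L) := Subgroup.mem_top _
  rw [htop] at this
  have := Subgroup.mem_bot.mp this
  exact congrArg Subtype.val this

end Cfsg.Agent.Lib.Helper2.R4
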