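import Cfsg.Agent.Lib.Helper2.R4Defs
import Cfsg.Agent.Lib.Helper1.CoprimeSylow

/-! S3814 farm, unit A6: (Fr) Frobenius action on an abelian group. -/

set_option autoImplicit false
set_option linter.style.haveILetI false

namespace Cfsg.Agent.Lib.Helper2.R4

open scoped Pointwise

section abstract

variable {F V : Type*} [Group F] [CommGroup V] [MulDistribMulAction F V]

/-- the norm of `v` under `g` (`r` factors) -/
def h1_r4_nrm (r : ℕ) (g : F) (v : V) : V := ∏ i ∈ Finset.range r, (g ^ i) • v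

theorem h1_r4_nrm_fixed (r : ℕ) (g : F) (hg : g ^ r = 1) (v : V) :
    g • h1_r4_nrm r g v = h1_r4_nrm r g v := by
  unfold h1_r4_nrm
  have h1 : g • (∏ i ∈ Finset.range r, (g ^ i) • v) = ∏ i ∈ Finset.range r, (g ^ (i + 1)) • v := by
    rw [← MulDistribMulAction.toMonoidHom_apply, map_prod]
    refine Finset.prod_congr rfl (fun i _ => ?_)
    rw [MulDistribMulAction.toMonoidHom_apply, ← mul_smul, ← pow_succ']
  rw [h1]
  have h2 := Finset.prod_range_succ (fun i => (g ^ i) • v) r
  have h3 := Finset.prod_range_succ' (fun i => (g ^ i) • v) r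
  rw [h2] at h3
  simp only [hg, pow_zero] at h3
  exact (mul_right_cancel h3).symm

theorem h1_r4_smul_pow (k : F) (x : V) (s : ℕ) : k • (x ^ s) = (k • x) ^ s :=
  smul_pow' k x s

theorem h1_r4_frob_abstract [Finite V] (K : Subgroup F) [Finite K] (c : F) (r : ℕ) (hr : r.Prime)
    (hcr : orderOf c = r)
    (hcK : ∀ k ∈ K, c * k * c⁻¹ ∈ K)
    (hfK : ∀ k ∈ K, k * c = c * k → k = 1)
    (hfV : ∀ v : V, c • v = v → v = 1)
    (hcop : (Nat.card K).Coprime (Nat.card V)) :
    ∀ k ∈ K, ∀ v : V, k • v = v := by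
  classical
  have : Fintype K := Fintype.ofFinite K
  -- powers of `c` normalize `K`
  have hcKi : ∀ (i : ℕ), ∀ k ∈ K, c ^ i * k * (c ^ i)⁻¹ ∈ K := by
    intro i
    induction i with
    | zero => intro k hk; simpa using hk
    | succ i ih =>
      intro k hk
      have := hcK _ (ih k hk)
      have e : c ^ (i + 1) * k * (c ^ (i + 1))⁻¹ = c * (c ^ i * k * (c ^ i)⁻¹) * c⁻¹ := by
        rw [pow_succ']; group
      rw [e]; exact this
  -- (a) every element of the coset `K c` is a `K`-conjugate of `c`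
  have hconj : ∀ k₀ ∈ K, ∃ k ∈ K, k₀ * c = k⁻¹ * c * k := by
    intro k₀ hk₀
    let φ : K → K := fun k => ⟨(k : F)⁻¹ * (c * k * c⁻¹), K.mul_mem (K.inv_mem k.2) (hcK _ k.2)⟩
    have hinj : Function.Injective φ := by
      intro k k' h
      have h1 : (k : F)⁻¹ * (c * k * c⁻¹) = (k' : F)⁻¹ * (c * k' * c⁻¹) := congrArg Subtype.val h
      have h2 : ((k' : F) * (k : F)⁻¹) * c = c * ((k' : F) * (k : F)⁻¹) := by
        have h3 : (k : F)⁻¹ * c * k = (k' : F)⁻¹ * c * k' := by
          have := congrArg (fun x => x * c) h1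
          simpa [mul_assoc] using this
        calc ((k' : F) * (k : F)⁻¹) * c = (k' : F) * ((k : F)⁻¹ * c * k) * (k : F)⁻¹ := by group
          _ = (k' : F) * ((k' : F)⁻¹ * c * k') * (k : F)⁻¹ := by rw [h3]
          _ = c * ((k' : F) * (k : F)⁻¹) := by group
      have h4 := hfK _ (K.mul_mem k'.2 (K.inv_mem k.2)) h2
      apply Subtype.ext
      have h5 : (k' : F) = (k : F) := by
        have := congrArg (fun x => x * (k : F)) h4
        simpa using this
      exact h5.symm
    have hsurj : Function.Surjective φ := Finite.surjective_of_injective hinj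
    obtain ⟨k, hk⟩ := hsurj ⟨k₀, hk₀⟩
    refine ⟨k, k.2, ?_⟩
    have h1 : (k : F)⁻¹ * (c * k * c⁻¹) = k₀ := congrArg Subtype.val hk
    rw [← h1]; group
  have hcr1 : c ^ r = 1 := by rw [← hcr]; exact pow_orderOf_eq_one c
  -- (b) the norms of the elements of the coset are trivial
  have hnrm : ∀ k₀ ∈ K, ∀ v : V, h1_r4_nrm r (k₀ * c) v = 1 := by
    intro k₀ hk₀ v
    obtain ⟨k, hk, hkc⟩ := hconj k₀ hk₀
    have hgr : (k₀ * c) ^ r = 1 := by
      rw [hkc]
      have : (k⁻¹ * c * k) ^ r = k⁻¹ * c ^ r * k := by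
        have := conj_pow (a := k⁻¹) (b := c) (i := r)
        simpa using this
      rw [this, hcr1]; group
    have hfix := h1_r4_nrm_fixed r (k₀ * c) hgr v
    rw [hkc] at hfix
    set N := h1_r4_nrm r (k⁻¹ * c * k) v with hN
    have h2 : c • (k • N) = k • N := by
      have : (k⁻¹ * c * k) • N = N := hfix
      rw [mul_smul, mul_smul] at this
      have h3 := congrArg (fun x => k • x) this
      simpa [smul_smul] using h3
    have h4 := hfV _ h2
    have h5 : N = 1 := by
      have := congrArg (fun x => k⁻¹ • x) h4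
      simpa [smul_smul] using this
    rw [hkc]; exact h5
  -- the `K`-part of `(k c)^i`
  have hpart : ∀ (i : ℕ), ∀ k ∈ K, (k * c) ^ i * (c ^ i)⁻¹ ∈ K := by
    intro i
    induction i with
    | zero => intro k hk; simp
    | succ i ih =>
      intro k hk
      have e : (k * c) ^ (i + 1) * (c ^ (i + 1))⁻¹ =
          ((k * c) ^ i * (c ^ i)⁻¹) * (c ^ i * k * (c ^ i)⁻¹) := by
        rw [pow_succ, pow_succ]; group
      rw [e]
      exact K.mul_mem (ih k hk) (hcKi i k hk)
  -- trace
  let T : V → V := fun u => ∏ k : K, (k : F) • u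
  have hTfix : ∀ (k₁ : K) (u : V), (k₁ : F) • T u = T u := by
    intro k₁ u
    show (k₁ : F) • ∏ k : K, (k : F) • u = ∏ k : K, (k : F) • u
    rw [← MulDistribMulAction.toMonoidHom_apply, map_prod]
    simp only [MulDistribMulAction.toMonoidHom_apply, ← mul_smul]
    exact Fintype.prod_equiv (Equiv.mulLeft k₁) _ _ (fun k => rfl)
  -- (d) for 0 < i < r, the product over the coset of the i-th factors is a trace
  have hprod_i : ∀ (i : ℕ), 0 < i → i < r → ∀ v : V,
      ∏ k : K, (((k : F) * c) ^ i) • v = T ((c ^ i) • v) := by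
    intro i hi0 hir v
    let ψ : K → K := fun k => ⟨((k : F) * c) ^ i * (c ^ i)⁻¹, hpart i k k.2⟩
    have hψinj : Function.Injective ψ := by
      intro k k' h
      have h1 : ((k : F) * c) ^ i * (c ^ i)⁻¹ = ((k' : F) * c) ^ i * (c ^ i)⁻¹ := congrArg Subtype.val h
      have h2 : ((k : F) * c) ^ i = ((k' : F) * c) ^ i := mul_right_cancel h1
      have hcop_i : Nat.Coprime i r := by
        rw [Nat.coprime_comm]
        exact (Nat.Prime.coprime_iff_not_dvd hr).2 (fun hd => absurd (Nat.le_of_dvd hi0 hd) (by omega))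
      have ho : ∀ k₀ ∈ K, orderOf (k₀ * c) ∣ r := by
        intro k₀ hk₀
        obtain ⟨k₂, hk₂, hkc⟩ := hconj k₀ hk₀
        apply orderOf_dvd_of_pow_eq_one
        rw [hkc]
        have : (k₂⁻¹ * c * k₂) ^ r = k₂⁻¹ * c ^ r * k₂ := by
          have := conj_pow (a := k₂⁻¹) (b := c) (i := r)
          simpa using this
        rw [this, hcr1]; group
      -- recover `k c` from its `i`-th power
      obtain ⟨j, hj⟩ : ∃ j : ℕ, (i * j) % r = 1 % r := by
        obtain ⟨j, -, hj⟩ := Nat.exists_mul_mod_eq_one_of_coprime hcop_i hr.one_lt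
        exact ⟨j, by rw [hj, Nat.mod_eq_of_lt hr.one_lt]⟩
      have hrec : ∀ k₀ ∈ K, ((k₀ * c) ^ i) ^ j = k₀ * c := by
        intro k₀ hk₀
        rw [← pow_mul]
        have hr1 : (k₀ * c) ^ r = 1 := by
          obtain ⟨d, hd⟩ := ho k₀ hk₀
          rw [hd, pow_mul, pow_orderOf_eq_one, one_pow]
        rw [← Nat.mod_add_div (i * j) r, pow_add, pow_mul, hr1, one_pow, mul_one, hj,
          Nat.mod_eq_of_lt hr.one_lt, pow_one]
      have h3 : (k : F) * c = (k' : F) * c := by
        rw [← hrec k k.2, ← hrec k' k'.2, h2]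
      exact Subtype.ext (mul_right_cancel h3)
    have hψbij : Function.Bijective ψ := ⟨hψinj, Finite.surjective_of_injective hψinj⟩
    show ∏ k : K, (((k : F) * c) ^ i) • v = ∏ k : K, (k : F) • ((c ^ i) • v)
    refine Fintype.prod_bijective ψ hψbij _ _ (fun k => ?_)
    show (((k : F) * c) ^ i) • v = (((k : F) * c) ^ i * (c ^ i)⁻¹) • ((c ^ i) • v)
    rw [← mul_smul, inv_mul_cancel_right]
  -- assemble
  intro k₁ hk₁ v
  have htotal : ∏ k : K, h1_r4_nrm r ((k : F) * c) v = 1 := by
    apply Finset.prod_eq_one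
    intro k _
    exact hnrm k k.2 v
  unfold h1_r4_nrm at htotal
  rw [Finset.prod_comm] at htotal
  -- split off i = 0
  have hr0 : 0 < r := hr.pos
  obtain ⟨r', rfl⟩ : ∃ r', r = r' + 1 := ⟨r - 1, by omega⟩
  rw [Finset.prod_range_succ'] at htotal
  simp only [pow_zero, one_smul, Finset.prod_const, Finset.card_univ] at htotal
  have hrest : ∏ i ∈ Finset.range r', ∏ k : K, (((k : F) * c) ^ (i + 1)) • v =
      ∏ i ∈ Finset.range r', T ((c ^ (i + 1)) • v) := by
    refine Finset.prod_congr rfl (fun i hi => ?_)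
    exact hprod_i (i + 1) (by omega) (by have := Finset.mem_range.1 hi; omega) v
  rw [hrest] at htotal
  -- `v ^ |K|` is fixed by `K`
  have hfixpow : (k₁ : F) • (v ^ Fintype.card K) = v ^ Fintype.card K := by
    have e : v ^ Fintype.card K = (∏ i ∈ Finset.range r', T ((c ^ (i + 1)) • v))⁻¹ :=
      eq_inv_of_mul_eq_one_right htotal
    rw [e, smul_inv', ← MulDistribMulAction.toMonoidHom_apply, map_prod]
    congr 1
    refine Finset.prod_congr rfl (fun i _ => ?_)
    exact hTfix ⟨k₁, hk₁⟩ _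
  -- coprimality
  have hcop' : (Fintype.card K).Coprime (orderOf v) := by
    rw [← Nat.card_eq_fintype_card]
    exact Nat.Coprime.coprime_dvd_right (orderOf_dvd_natCard v) hcop
  obtain ⟨s, hs⟩ := exists_pow_eq_self_of_coprime hcop'
  rw [← hs, h1_r4_smul_pow, hfixpow]

end abstract

variable {G : Type*} [Group G]

/-- (Fr) -/
theorem frob_centralizes_abelian [Finite G] {K W : Subgroup G} {c : G} (hc : (orderOf c).Prime)
    (hcK : c ∈ Subgroup.normalizer (K : Set G)) (hfK : Fpf c K)
    (hWab : ∀ x ∈ W, ∀ y ∈ W, x * y = y * x)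
    (hKW : K ≤ Subgroup.normalizer (W : Set G)) (hcW : c ∈ Subgroup.normalizer (W : Set G))
    (hcop : (Nat.card K).Coprime (Nat.card W)) (hfW : Fpf c W) :
    ∀ k ∈ K, ∀ w ∈ W, k * w = w * k := by
  let Γ : Subgroup G := Subgroup.normalizer (W : Set G)
  let _ : CommGroup W :=
    { (inferInstance : Group W) with mul_comm := fun a b => Subtype.ext (hWab a a.2 b b.2) }
  let _ : MulDistribMulAction Γ W := Cfsg.Agent.Lib.Helper1.conjActOfLeNormalizer Γ W (le_refl _)
  have hsmul : ∀ (g : Γ) (w : W), ((g • w : W) : G) = (g : G) * w * (g : G)⁻¹ := fun g w => rfl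
  let K' : Subgroup Γ := K.subgroupOf Γ
  let c' : Γ := ⟨c, hcW⟩
  have hcard : Nat.card K' = Nat.card K := Nat.card_congr (Subgroup.subgroupOfEquivOfLe hKW).toEquiv
  have hord : orderOf c' = orderOf c := by
    rw [← Subgroup.orderOf_coe]
  have key := h1_r4_frob_abstract (F := Γ) (V := W) K' c' (orderOf c) hc hord
    (by
      intro k hk
      rw [Subgroup.mem_subgroupOf] at hk ⊢
      exact (Subgroup.mem_normalizer_iff.mp hcK _).mp hk)
    (by
      intro k hk hkc
      rw [Subgroup.mem_subgroupOf] at hk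
      have h1 : (k : G) * c = c * (k : G) := congrArg Subtype.val hkc
      exact Subtype.ext (hfK _ hk h1))
    (by
      intro v hv
      have h1 : c * (v : G) * c⁻¹ = v := by
        have := congrArg Subtype.val hv
        rwa [hsmul] at this
      have h2 : (v : G) * c = c * v := by
        have := congrArg (fun x => x * c) h1
        simpa using this.symm
      exact Subtype.ext (hfW _ v.2 h2))
    (by rw [hcard]; exact hcop)
  intro k hk w hw
  have h1 := key ⟨k, hKW hk⟩ (by rw [Subgroup.mem_subgroupOf]; exact hk) ⟨w, hw⟩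
  have h2 : k * w * k⁻¹ = w := by
    have := congrArg Subtype.val h1
    rwa [hsmul] at this
  have := congrArg (fun x => x * k) h2
  simpa using this

end Cfsg.Agent.Lib.Helper2.R4
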