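import Cfsg.Agent.Lib.Helper2.R4Defs
import Cfsg.Agent.Lib.Helper1.R4A6

/-! S3814 farm, unit A7: (Fr') Frobenius action on a `u`-group. -/

set_option autoImplicit false
set_option linter.style.haveILetI false

namespace Cfsg.Agent.Lib.Helper2.R4

open scoped Pointwise

section abstract

variable {F W₀ : Type*} [Group F] [Group W₀] [MulDistribMulAction F W₀]

/-- the action induced on the abelianization -/
@[reducible] def h1_r4_abAction : MulDistribMulAction F (Abelianization W₀) where
  smul g x := Abelianization.map (MulDistribMulAction.toMonoidHom W₀ g) x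
  one_smul x := by
    show Abelianization.map (MulDistribMulAction.toMonoidHom W₀ (1 : F)) x = x
    have h : MulDistribMulAction.toMonoidHom W₀ (1 : F) = MonoidHom.id W₀ := by
      ext w; simp
    rw [h, Abelianization.map_id]; rfl
  mul_smul g h x := by
    show Abelianization.map (MulDistribMulAction.toMonoidHom W₀ (g * h)) x =
      Abelianization.map (MulDistribMulAction.toMonoidHom W₀ g)
        (Abelianization.map (MulDistribMulAction.toMonoidHom W₀ h) x)
    have e : MulDistribMulAction.toMonoidHom W₀ (g * h) =
        (MulDistribMulAction.toMonoidHom W₀ g).comp (MulDistribMulAction.toMonoidHom W₀ h) := by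
      ext w; simp [mul_smul]
    rw [e, ← Abelianization.map_comp]; rfl
  smul_mul g x y := map_mul _ x y
  smul_one g := map_one _

theorem h1_r4_abAction_of (g : F) (w : W₀) :
    (@HSMul.hSMul F (Abelianization W₀) (Abelianization W₀)
      (@instHSMul F (Abelianization W₀) (h1_r4_abAction (F := F) (W₀ := W₀)).toSMul) g
      (Abelianization.of w)) = Abelianization.of (g • w) := by
  show Abelianization.map (MulDistribMulAction.toMonoidHom W₀ g) (Abelianization.of w) = _
  rw [Abelianization.map_of]; rfl

theorem h1_r4_of_surjective : Function.Surjective (Abelianization.of : W₀ → Abelianization W₀) :=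
  fun x => Quot.inductionOn x (fun w => ⟨w, rfl⟩)

/-- `K` acts trivially on `W₀ / W₀'` -/
theorem h1_r4_frob_ab_quot [Finite W₀] (K : Subgroup F) [Finite K] (c : F) (r : ℕ) (hr : r.Prime)
    (hcr : orderOf c = r)
    (hcK : ∀ k ∈ K, c * k * c⁻¹ ∈ K)
    (hfK : ∀ k ∈ K, k * c = c * k → k = 1)
    (hfW : ∀ w : W₀, c • w = w → w = 1)
    (hcop : (Nat.card K).Coprime (Nat.card W₀)) :
    ∀ k ∈ K, ∀ w : W₀, Abelianization.of (k • w) = Abelianization.of w := by
  letI : MulDistribMulAction F (Abelianization W₀) := h1_r4_abAction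
  have hof : ∀ (g : F) (w : W₀), g • (Abelianization.of w) = Abelianization.of (g • w) :=
    fun g w => h1_r4_abAction_of g w
  have : Finite (Abelianization W₀) := Finite.of_surjective _ h1_r4_of_surjective
  -- `w ↦ w⁻¹ (c • w)` is a bijection of `W₀`
  have hinj : Function.Injective (fun w : W₀ => w⁻¹ * c • w) := by
    intro w w' h
    have h1 : w⁻¹ * c • w = w'⁻¹ * c • w' := h
    have h2 : c • (w' * w⁻¹) = w' * w⁻¹ := by
      rw [smul_mul', smul_inv']
      have : c • w' = w' * (w⁻¹ * c • w) := by rw [h1]; group
      rw [this]; group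
    have h3 := hfW _ h2
    have : w' = w := by
      have := congrArg (fun x => x * w) h3
      simpa using this
    exact this.symm
  have hsurj : Function.Surjective (fun w : W₀ => w⁻¹ * c • w) := Finite.surjective_of_injective hinj
  -- `c` is fixed-point-free on the abelianization
  have hfV : ∀ v : Abelianization W₀, c • v = v → v = 1 := by
    let θ : Abelianization W₀ →* Abelianization W₀ :=
      { toFun := fun x => x⁻¹ * c • x
        map_one' := by simp
        map_mul' := fun x y => by
          rw [smul_mul', mul_inv_rev]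
          rw [mul_comm y⁻¹ x⁻¹, mul_mul_mul_comm] }
    have hθsurj : Function.Surjective θ := by
      intro y
      obtain ⟨y₀, rfl⟩ := h1_r4_of_surjective y
      obtain ⟨w, hw⟩ := hsurj y₀
      refine ⟨Abelianization.of w, ?_⟩
      show (Abelianization.of w)⁻¹ * c • (Abelianization.of w) = Abelianization.of y₀
      rw [hof, ← map_inv, ← map_mul]
      exact congrArg _ hw
    have hθinj : Function.Injective θ := Finite.injective_iff_surjective.2 hθsurj
    intro v hv
    apply hθinj
    show v⁻¹ * c • v = θ 1
    rw [hv, map_one, inv_mul_cancel]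
  have hcop' : (Nat.card K).Coprime (Nat.card (Abelianization W₀)) := by
    refine Nat.Coprime.coprime_dvd_right ?_ hcop
    exact Subgroup.card_quotient_dvd_card (commutator W₀)
  have key := h1_r4_frob_abstract (F := F) (V := Abelianization W₀) K c r hr hcr hcK hfK hfV hcop'
  intro k hk w
  rw [← hof]
  exact key k hk _

end abstract

variable {G : Type*} [Group G]

theorem h1_r4_normalizer_commutator {W : Subgroup G} {g : G}
    (hg : g ∈ Subgroup.normalizer (W : Set G)) : g ∈ Subgroup.normalizer ((⁅W, W⁆ : Subgroup G) : Set G) := by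
  have hmap : W.map (MulAut.conj g).toMonoidHom = W := by
    ext x
    constructor
    · rintro ⟨y, hy, rfl⟩
      exact (Subgroup.mem_normalizer_iff.mp hg y).mp hy
    · intro hx
      refine ⟨g⁻¹ * x * g, ?_, by simp [MulAut.conj_apply, mul_assoc]⟩
      have := (Subgroup.mem_normalizer_iff.mp (Subgroup.inv_mem _ hg) x).mp hx
      simpa using this
  have hmapc : (⁅W, W⁆ : Subgroup G).map (MulAut.conj g).toMonoidHom = ⁅W, W⁆ := by
    rw [Subgroup.map_commutator, hmap]
  rw [Subgroup.mem_normalizer_iff]
  intro x
  constructor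
  · intro hx
    rw [← hmapc]
    exact ⟨x, hx, rfl⟩
  · intro hx
    rw [← hmapc] at hx
    obtain ⟨y, hy, hyx⟩ := hx
    have : y = x := by
      have h1 : g * y * g⁻¹ = g * x * g⁻¹ := hyx
      have := congrArg (fun t => g⁻¹ * t * g) h1
      simpa [mul_assoc] using this
    rw [← this]; exact hy

/-- (Fr') -/
theorem frob_centralizes_pgroup [Finite G] {K W : Subgroup G} {c : G} {u : ℕ} (hu : u.Prime)
    (hc : (orderOf c).Prime)
    (hcK : c ∈ Subgroup.normalizer (K : Set G)) (hfK : Fpf c K) (hW : IsPGroup u W)
    (hKW : K ≤ Subgroup.normalizer (W : Set G)) (hcW : c ∈ Subgroup.normalizer (W : Set G))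
    (hcop : (Nat.card K).Coprime u) (hfW : Fpf c W) :
    ∀ k ∈ K, ∀ w ∈ W, k * w = w * k := by
  have : Fact u.Prime := ⟨hu⟩
  -- strong induction on the order of `W`
  suffices H : ∀ n : ℕ, ∀ W : Subgroup G, Nat.card W = n → IsPGroup u W →
      K ≤ Subgroup.normalizer (W : Set G) → c ∈ Subgroup.normalizer (W : Set G) → Fpf c W →
      ∀ k ∈ K, ∀ w ∈ W, k * w = w * k from H _ W rfl hW hKW hcW hfW
  intro n
  induction n using Nat.strong_induction_on with
  | _ n ih =>
    intro W hn hW hKW hcW hfW
    by_cases hbot : W = ⊥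
    · intro k _ w hw
      rw [hbot, Subgroup.mem_bot] at hw
      rw [hw, mul_one, one_mul]
    have hnt : Nontrivial W := (Subgroup.nontrivial_iff_ne_bot W).2 hbot
    set W' : Subgroup G := ⁅W, W⁆ with hW'
    have hW'le : W' ≤ W := by
      rw [hW', Subgroup.commutator_le]
      intro g₁ h₁ g₂ h₂
      rw [commutatorElement_def]
      exact W.mul_mem (W.mul_mem (W.mul_mem h₁ h₂) (W.inv_mem h₁)) (W.inv_mem h₂)
    have hnil : Group.IsNilpotent W := hW.isNilpotent
    have hsolv : Group.IsSolvable W := inferInstance
    have hlt : W' < W := by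
      refine lt_of_le_of_ne hW'le ?_
      intro heq
      have h1 : commutator W < ⊤ := Group.IsSolvable.commutator_lt_top_of_nontrivial W
      have h2 : (commutator W).map W.subtype = W' := Subgroup.map_subtype_commutator W
      rw [heq] at h2
      have h3 : commutator W = ⊤ := by
        rw [eq_top_iff]
        intro x _
        have hx : (x : G) ∈ (commutator W).map W.subtype := by rw [h2]; exact x.2
        obtain ⟨y, hy, hyx⟩ := hx
        have : y = x := Subtype.ext hyx
        rw [← this]; exact hy
      exact absurd h3 (ne_of_lt h1)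
    have hcardlt : Nat.card W' < n := by
      rw [← hn]
      by_contra hge
      push Not at hge
      exact absurd (Subgroup.eq_of_le_of_card_ge hW'le hge) (ne_of_lt hlt)
    -- `K` centralizes `W'`
    have hW'cent : ∀ k ∈ K, ∀ w ∈ W', k * w = w * k :=
      ih _ hcardlt W' rfl (hW.to_le hW'le) (fun k hk => h1_r4_normalizer_commutator (hKW hk))
        (h1_r4_normalizer_commutator hcW) (fun x hx h => hfW x (hW'le hx) h)
    -- `K` acts trivially on `W / W'`
    let Γ : Subgroup G := Subgroup.normalizer (W : Set G)
    let _ : MulDistribMulAction Γ W := Cfsg.Agent.Lib.Helper1.conjActOfLeNormalizer Γ W (le_refl _)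
    have hsmul : ∀ (g : Γ) (w : W), ((g • w : W) : G) = (g : G) * w * (g : G)⁻¹ := fun g w => rfl
    let K' : Subgroup Γ := K.subgroupOf Γ
    let c' : Γ := ⟨c, hcW⟩
    have hcard : Nat.card K' = Nat.card K := Nat.card_congr (Subgroup.subgroupOfEquivOfLe hKW).toEquiv
    have hord : orderOf c' = orderOf c := by rw [← Subgroup.orderOf_coe]
    have hcopW : (Nat.card K').Coprime (Nat.card W) := by
      rw [hcard]
      obtain ⟨m, hm⟩ := IsPGroup.iff_card.1 hW
      rw [hm]
      exact Nat.Coprime.pow_right m hcop
    have key := h1_r4_frob_ab_quot (F := Γ) (W₀ := W) K' c' (orderOf c) hc hord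
      (by
        intro k hk
        rw [Subgroup.mem_subgroupOf] at hk ⊢
        exact (Subgroup.mem_normalizer_iff.mp hcK _).mp hk)
      (by
        intro k hk hkc
        rw [Subgroup.mem_subgroupOf] at hk
        have h1 : (k : G) * c = c * (k : G) := congrArg Subtype.val hkc
        exact Subtype.ext (hfK _ hk h1))
      (by
        intro v hv
        have h1 : c * (v : G) * c⁻¹ = v := by
          have := congrArg Subtype.val hv
          rwa [hsmul] at this
        have h2 : (v : G) * c = c * v := by
          have := congrArg (fun x => x * c) h1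
          simpa using this.symm
        exact Subtype.ext (hfW _ v.2 h2))
      hcopW
    intro k hk w hw
    -- z' := k w k⁻¹ w⁻¹ ∈ W'
    have hz : k * w * k⁻¹ * w⁻¹ ∈ W' := by
      have h1 := key ⟨k, hKW hk⟩ (by rw [Subgroup.mem_subgroupOf]; exact hk) ⟨w, hw⟩
      have h2 : ((⟨k, hKW hk⟩ : Γ) • (⟨w, hw⟩ : W)) * (⟨w, hw⟩ : W)⁻¹ ∈ commutator W := by
        rw [← Abelianization.ker_of, MonoidHom.mem_ker, map_mul, map_inv, h1, mul_inv_cancel]
      have h3 : (((⟨k, hKW hk⟩ : Γ) • (⟨w, hw⟩ : W)) * (⟨w, hw⟩ : W)⁻¹ : W).1 ∈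
          (commutator W).map W.subtype := ⟨_, h2, rfl⟩
      rw [Subgroup.map_subtype_commutator] at h3
      exact h3
    set z : G := k * w * k⁻¹ * w⁻¹ with hzdef
    have hkz : k * z = z * k := hW'cent k hk z hz
    have hpow : ∀ m : ℕ, k ^ m * w * (k ^ m)⁻¹ = z ^ m * w := by
      intro m
      induction m with
      | zero => simp
      | succ m ihm =>
        have hkzm : k * z ^ m = z ^ m * k := by
          have : Commute k (z ^ m) := (show Commute k z from hkz).pow_right m
          exact this.eq
        calc k ^ (m + 1) * w * (k ^ (m + 1))⁻¹ = k * (k ^ m * w * (k ^ m)⁻¹) * k⁻¹ := by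
              rw [pow_succ']; group
          _ = k * (z ^ m * w) * k⁻¹ := by rw [ihm]
          _ = z ^ m * (k * w * k⁻¹) := by
              rw [← mul_assoc, hkzm]; group
          _ = z ^ m * (z * w) := by rw [hzdef]; group
          _ = z ^ (m + 1) * w := by rw [pow_succ]; group
    have h1 := hpow (orderOf k)
    rw [pow_orderOf_eq_one, one_mul, inv_one, mul_one] at h1
    have hzk : z ^ orderOf k = 1 := by
      have := congrArg (fun x => x * w⁻¹) h1
      simpa using this.symm
    have hzu : ∃ j : ℕ, orderOf z = u ^ j := by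
      obtain ⟨j, hj⟩ := hW ⟨z, hW'le hz⟩
      have h2 : z ^ u ^ j = 1 := by
        have := congrArg Subtype.val hj
        simpa using this
      obtain ⟨i, -, hi⟩ := (Nat.dvd_prime_pow hu).1 (orderOf_dvd_of_pow_eq_one h2)
      exact ⟨i, hi⟩
    obtain ⟨j, hj⟩ := hzu
    have hdvd : orderOf z ∣ orderOf k := orderOf_dvd_of_pow_eq_one hzk
    have hkK : orderOf k ∣ Nat.card K := by
      have := orderOf_dvd_natCard (⟨k, hk⟩ : K)
      rwa [Subgroup.orderOf_mk] at this
    have hcop2 : (orderOf z).Coprime (orderOf z) := by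
      have h3 : (orderOf k).Coprime (u ^ j) :=
        Nat.Coprime.pow_right j (Nat.Coprime.coprime_dvd_left hkK hcop)
      rw [← hj] at h3
      exact Nat.Coprime.coprime_dvd_left hdvd h3
    have hz1 : z = 1 := by
      rw [← orderOf_eq_one_iff]
      exact (Nat.coprime_self _).1 hcop2
    have : k * w * k⁻¹ * w⁻¹ = 1 := hz1
    have h4 := congrArg (fun x => x * w * k) this
    simpa [mul_assoc] using h4

end Cfsg.Agent.Lib.Helper2.R4
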