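import Cfsg.Agent.Lib.Helper2.R4A1
import Cfsg.Agent.Lib.Helper2.R4A2
import Cfsg.Agent.Lib.Helper1.GlaubermanRepl3
import Cfsg.Agent.Lib.Helper2.R4B1

/-! S3814 farm, units D1a, D1b: basics of Case II. -/

set_option autoImplicit false
set_option linter.style.haveILetI false

namespace Cfsg.Agent.Lib.Helper2.R4

open scoped Pointwise

variable {G : Type*} [Group G]

theorem CaseII.symm {σ : Finset ℕ} {a b : ℕ} {V V' L : Subgroup G} (h : CaseII σ a b V V' L) :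
    CaseII σ b a V' V L where
  mc := h.mc
  ha := h.hb
  hb := h.ha
  hab := h.hab.symm
  Vn := h.Vn'
  Vn' := h.Vn
  Va := h.Vb
  Vb := h.Va
  Vab := h.Vab'
  Vab' := h.Vab
  Vne := h.Vne'
  Vne' := h.Vne
  Vmin := h.Vmin'
  Vmin' := h.Vmin
  Lcop := h.Lcop'
  Lcop' := h.Lcop
  sup := by rw [sup_comm V' V]; exact h.sup
  faith := fun x hx h1 h2 => h.faith x hx h2 h1

theorem h1_r4_caseII_disjoint {σ : Finset ℕ} {a b : ℕ} {V V' L : Subgroup G}
    (h : CaseII σ a b V V' L) : V ⊓ V' = ⊥ := by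
  haveI : Fact a.Prime := ⟨h.mc.prime a h.ha⟩
  haveI : Fact b.Prime := ⟨h.mc.prime b h.hb⟩
  exact disjoint_iff.mp (IsPGroup.disjoint_of_ne a b h.hab V V' h.Va h.Vb)

theorem CaseII.commute_VV' [Finite G] {σ : Finset ℕ} {a b : ℕ} {V V' L : Subgroup G}
    (h : CaseII σ a b V V' L) : ∀ v ∈ V, ∀ w ∈ V', v * w = w * v := by
  intro v hv w hw
  have hd : Disjoint V V' := disjoint_iff.mpr (h1_r4_caseII_disjoint h)
  exact Subgroup.commute_of_normal_of_disjoint V V' h.Vn h.Vn' hd v w hv hw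

/-- `|V ⊔ V' ⊔ M| = |V| |V'| |M|` for `M ≤ L` -/
theorem h1_r4_caseII_card [Finite G] {σ : Finset ℕ} {a b : ℕ} {V V' L : Subgroup G}
    (h : CaseII σ a b V V' L) {M : Subgroup G} (hM : M ≤ L) :
    Nat.card (V ⊔ V' ⊔ M : Subgroup G) = Nat.card V * Nat.card V' * Nat.card M := by
  haveI : Fact a.Prime := ⟨h.mc.prime a h.ha⟩
  haveI : Fact b.Prime := ⟨h.mc.prime b h.hb⟩
  haveI := h.Vn
  haveI := h.Vn'
  have h1 : Nat.card (V ⊔ V' : Subgroup G) = Nat.card V * Nat.card V' := by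
    have := Cfsg.Agent.Lib.Helper1.GlaubermanRepl.card_sup_mul_card_inf_of_le_normalizer V V'
      (by rw [Subgroup.normalizer_eq_top]; exact le_top)
    rwa [h1_r4_caseII_disjoint h, Subgroup.card_bot, mul_one] at this
  obtain ⟨i, hi⟩ := IsPGroup.iff_card.mp h.Va
  obtain ⟨j, hj⟩ := IsPGroup.iff_card.mp h.Vb
  have hMd : Nat.card M ∣ Nat.card L := Subgroup.card_dvd_of_le hM
  have hcop : (Nat.card M).Coprime (Nat.card (V ⊔ V' : Subgroup G)) := by
    rw [h1, hi, hj]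
    apply Nat.Coprime.mul_right
    · exact Nat.Coprime.pow_right i (Nat.Coprime.coprime_dvd_left hMd h.Lcop)
    · exact Nat.Coprime.pow_right j (Nat.Coprime.coprime_dvd_left hMd h.Lcop')
  have h2 : M ⊓ (V ⊔ V') = ⊥ := disjoint_iff.mp (Subgroup.disjoint_of_coprime_natCard hcop)
  haveI : (V ⊔ V').Normal := Subgroup.sup_normal V V'
  have h3 := Cfsg.Agent.Lib.Helper1.GlaubermanRepl.card_sup_mul_card_inf_of_le_normalizer M (V ⊔ V')
      (by rw [Subgroup.normalizer_eq_top]; exact le_top)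
  rw [h2, Subgroup.card_bot, mul_one, h1, sup_comm] at h3
  rw [h3]; ring

/-- `|V| * |V'| * |L| = |G|` -/
theorem CaseII.card_mul [Finite G] {σ : Finset ℕ} {a b : ℕ} {V V' L : Subgroup G}
    (h : CaseII σ a b V V' L) : Nat.card V * Nat.card V' * Nat.card L = Nat.card G := by
  rw [← h1_r4_caseII_card h le_rfl, h.sup, Subgroup.card_top]

theorem CaseII.prime_mem [Finite G] {σ : Finset ℕ} {a b : ℕ} {V V' L : Subgroup G}
    (h : CaseII σ a b V V' L) {p : ℕ} (hp : p.Prime) (hpL : p ∣ Nat.card L) :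
    p ∈ σ ∧ p ≠ a ∧ p ≠ b := by
  refine ⟨h.mc.prime_mem hp (dvd_trans hpL (Subgroup.card_subgroup_dvd_card L)), ?_, ?_⟩
  · rintro rfl
    exact hp.one_lt.ne' (Nat.Coprime.eq_one_of_dvd h.Lcop.symm hpL)
  · rintro rfl
    exact hp.one_lt.ne' (Nat.Coprime.eq_one_of_dvd h.Lcop'.symm hpL)

theorem h1_r4_caseII_E2V [Finite G] {σ : Finset ℕ} {a b : ℕ} {V V' L : Subgroup G}
    (h : CaseII σ a b V V' L) : E2 a V := by
  have ha := h.mc.prime a h.ha
  have hb := h.mc.prime b h.hb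
  haveI : Fact a.Prime := ⟨ha⟩
  haveI : Fact b.Prime := ⟨hb⟩
  apply E2.of_not_dvd_index ha _ (h.mc.rank a h.ha)
  have h1 := h.card_mul
  have h2 := V.card_mul_index
  have hpos : 0 < Nat.card V := Nat.card_pos
  have h3 : V.index = Nat.card V' * Nat.card L := by
    have : Nat.card V * V.index = Nat.card V * (Nat.card V' * Nat.card L) := by
      rw [h2, ← h1]; ring
    exact Nat.eq_of_mul_eq_mul_left hpos this
  rw [h3]
  obtain ⟨j, hj⟩ := IsPGroup.iff_card.mp h.Vb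
  intro hdvd
  rcases (Nat.Prime.dvd_mul ha).mp hdvd with h4 | h4
  · rw [hj] at h4
    have := (Nat.prime_dvd_prime_iff_eq ha hb).mp (ha.dvd_of_dvd_pow h4)
    exact h.hab this
  · have := Nat.Coprime.eq_one_of_dvd h.Lcop.symm h4
    exact ha.one_lt.ne' this

theorem CaseII.E2L [Finite G] {σ : Finset ℕ} {a b : ℕ} {V V' L : Subgroup G}
    (h : CaseII σ a b V V' L) {p : ℕ} (hp : p ∈ σ) (hpa : p ≠ a) (hpb : p ≠ b) : E2 p L := by
  have ha := h.mc.prime a h.ha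
  have hb := h.mc.prime b h.hb
  have hpp := h.mc.prime p hp
  haveI : Fact a.Prime := ⟨ha⟩
  haveI : Fact b.Prime := ⟨hb⟩
  apply E2.of_not_dvd_index hpp _ (h.mc.rank p hp)
  have h1 := h.card_mul
  have h2 := L.card_mul_index
  have hpos : 0 < Nat.card L := Nat.card_pos
  have h3 : L.index = Nat.card V * Nat.card V' := by
    have : Nat.card L * L.index = Nat.card L * (Nat.card V * Nat.card V') := by
      rw [h2, ← h1]; ring
    exact Nat.eq_of_mul_eq_mul_left hpos this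
  rw [h3]
  obtain ⟨i, hi⟩ := IsPGroup.iff_card.mp h.Va
  obtain ⟨j, hj⟩ := IsPGroup.iff_card.mp h.Vb
  intro hdvd
  rcases (Nat.Prime.dvd_mul hpp).mp hdvd with h4 | h4
  · rw [hi] at h4
    exact hpa ((Nat.prime_dvd_prime_iff_eq hpp ha).mp (hpp.dvd_of_dvd_pow h4))
  · rw [hj] at h4
    exact hpb ((Nat.prime_dvd_prime_iff_eq hpp hb).mp (hpp.dvd_of_dvd_pow h4))

/-- (II.0) generation: `V ⊔ V' ⊔ M` has all `E2`. -/
theorem CaseII.gen [Finite G] {σ : Finset ℕ} {a b : ℕ} {V V' L : Subgroup G}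
    (h : CaseII σ a b V V' L) {M : Subgroup G} (hM : M ≤ L)
    (hE : ∀ p ∈ σ, p ≠ a → p ≠ b → E2 p M) : M = L := by
  have htop : V ⊔ V' ⊔ M = ⊤ := by
    by_contra hne
    obtain ⟨p, hp, hnE⟩ := h.mc.min _ hne
    apply hnE
    by_cases hpa : p = a
    · rw [hpa]
      exact (h1_r4_caseII_E2V h).mono (le_trans le_sup_left le_sup_left)
    · by_cases hpb : p = b
      · rw [hpb]
        exact (h1_r4_caseII_E2V h.symm).mono (le_trans le_sup_right le_sup_left)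
      · exact (hE p hp hpa hpb).mono le_sup_right
  have h1 := h1_r4_caseII_card h hM
  rw [htop, Subgroup.card_top, ← h.card_mul] at h1
  have hpos : 0 < Nat.card V * Nat.card V' := Nat.mul_pos Nat.card_pos Nat.card_pos
  have h2 : Nat.card L = Nat.card M := Nat.eq_of_mul_eq_mul_left hpos h1
  exact Subgroup.eq_of_le_of_card_ge hM h2.le

/-- an element `≠ 1` of a `p`-group has a power of order `p` -/
theorem h1_r4_exists_pow_orderOf [Finite G] {p : ℕ} (hp : p.Prime) {W : Subgroup G}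
    (hW : IsPGroup p W) {w : G} (hw : w ∈ W) (hw1 : w ≠ 1) :
    ∃ k : ℕ, orderOf (w ^ k) = p := by
  haveI : Fact p.Prime := ⟨hp⟩
  obtain ⟨k, hk⟩ := hW ⟨w, hw⟩
  have hk' : w ^ p ^ k = 1 := by
    have := congrArg Subtype.val hk
    simpa using this
  obtain ⟨m, hm, hmo⟩ := (Nat.dvd_prime_pow hp).mp (orderOf_dvd_of_pow_eq_one hk')
  have hm0 : m ≠ 0 := by
    rintro rfl
    rw [pow_zero] at hmo
    exact hw1 (orderOf_eq_one_iff.mp hmo)
  obtain ⟨m', rfl⟩ := Nat.exists_eq_succ_of_ne_zero hm0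
  refine ⟨p ^ m', ?_⟩
  have hdvd : p ^ m' ∣ orderOf w := by rw [hmo]; exact pow_dvd_pow p (Nat.le_succ m')
  rw [orderOf_pow_of_dvd (pow_ne_zero _ hp.ne_zero) hdvd, hmo, pow_succ,
    Nat.mul_div_cancel_left _ (pow_pos hp.pos m')]

/-- (II.1) an element of prime order of `L` is fpf on `V` or on `V'` (else a commuting triple) -/
theorem CaseII.fpf_or [Finite G] {σ : Finset ℕ} {a b : ℕ} {V V' L : Subgroup G}
    (h : CaseII σ a b V V' L) {t : G} (ht : t ∈ L) (hto : (orderOf t).Prime) :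
    Fpf t V ∨ Fpf t V' := by
  by_contra hcon
  have h1 : ¬ Fpf t V := fun hh => hcon (Or.inl hh)
  have h2 : ¬ Fpf t V' := fun hh => hcon (Or.inr hh)
  unfold Fpf at h1 h2
  simp only [not_forall] at h1 h2
  obtain ⟨v, hv, hvt, hv1⟩ := h1
  obtain ⟨w, hw, hwt, hw1⟩ := h2
  have ha := h.mc.prime a h.ha
  have hb := h.mc.prime b h.hb
  obtain ⟨k, hk⟩ := h1_r4_exists_pow_orderOf ha h.Va hv hv1
  obtain ⟨l, hl⟩ := h1_r4_exists_pow_orderOf hb h.Vb hw hw1
  have hpL : orderOf t ∣ Nat.card L := Subgroup.orderOf_dvd_natCard L ht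
  obtain ⟨hpσ, hpa, hpb⟩ := h.prime_mem hto hpL
  have hvt' : Commute v t := hvt
  have hwt' : Commute w t := hwt
  have hvw : Commute v w := h.commute_VV' v hv w hw
  exact h.mc.no_commute3 h.ha h.hb hpσ h.hab (Ne.symm hpa) (Ne.symm hpb) hk hl rfl
    (hvw.pow_pow k l) (hvt'.pow_left k) (hwt'.pow_left l)

theorem CaseII.fpf_mixed [Finite G] {σ : Finset ℕ} {a b : ℕ} {V V' L : Subgroup G}
    (h : CaseII σ a b V V' L) {p q : ℕ} (hp : p ∈ σ) (hq : q ∈ σ) (hpa : p ≠ a) (hpb : p ≠ b)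
    (hqa : q ≠ a) (hqb : q ≠ b) (hpq : p ≠ q) {g : G} (hg : p * q ∣ orderOf g) :
    Fpf g V := by
  intro v hv hvg
  by_contra hv1
  have ha := h.mc.prime a h.ha
  obtain ⟨k, hk⟩ := h1_r4_exists_pow_orderOf ha h.Va hv hv1
  have hvg' : Commute v g := hvg
  exact h.mc.no_commute_mixed h.ha hp hq (Ne.symm hpa) (Ne.symm hqa) hpq hk (hvg'.pow_left k) hg

end Cfsg.Agent.Lib.Helper2.R4
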