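import Cfsg.Agent.Lib.Helper1.R4D1
import Cfsg.Agent.Lib.Helper1.R4A6
import Cfsg.Agent.Lib.Helper1.MinimalNormal
import Cfsg.Agent.Lib.Helper2.R4A3
import Cfsg.Agent.Lib.Helper2.R4A5
import Cfsg.Agent.Lib.Helper2.R4A9
import Cfsg.Agent.Lib.Helper2.R4B3a

/-! S3814 farm, units D2a, D2b: `L` acts faithfully on `V`; no fixed-point-free prime elements. -/

set_option autoImplicit false
set_option linter.style.haveILetI false

namespace Cfsg.Agent.Lib.Helper2.R4

open scoped Pointwise

variable {G : Type*} [Group G]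

/-- the image in `G` of a normal subgroup of `L` is normalized by `L` -/
theorem h1_r4_le_normalizer_map (L : Subgroup G) (N' : Subgroup L) [hn : N'.Normal] :
    L ≤ Subgroup.normalizer ((N'.map L.subtype : Subgroup G) : Set G) := by
  intro g hg
  rw [Subgroup.mem_normalizer_iff]
  intro x
  constructor
  · rintro ⟨x', hx', rfl⟩
    refine ⟨⟨g, hg⟩ * x' * ⟨g, hg⟩⁻¹, hn.conj_mem x' hx' ⟨g, hg⟩, ?_⟩
    simp
  · rintro ⟨x', hx', hxx'⟩
    have h1 : x = g⁻¹ * (x' : G) * g := by
      have : (x' : G) = g * x * g⁻¹ := hxx'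
      rw [this]; group
    refine ⟨⟨g, hg⟩⁻¹ * x' * ⟨g, hg⟩, ?_, ?_⟩
    · have := hn.conj_mem x' hx' (⟨g, hg⟩⁻¹)
      simpa using this
    · rw [h1]; simp

/-- an element centralizing `V ≠ ⊥` is not fpf on `V` -/
theorem h1_r4_not_fpf_of_centralizes {x : G} {V : Subgroup G} (hV : V ≠ ⊥)
    (hc : ∀ v ∈ V, x * v = v * x) : ¬ Fpf x V := by
  intro hf
  apply hV
  rw [Subgroup.eq_bot_iff_forall]
  intro v hv
  exact hf v hv (hc v hv).symm

/-- the core of D2a: a subgroup `N ≠ ⊥` of `L`, normalized by `L`, of exponent `p`, cannot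
centralize `V`. -/
theorem h1_r4_caseII_faith_aux [Finite G] {σ : Finset ℕ} {a b : ℕ} {V V' L : Subgroup G}
    (h : CaseII σ a b V V' L) {p : ℕ} (hp : p.Prime) {N : Subgroup G} (hNL : N ≤ L)
    (hN1 : N ≠ ⊥) (hLN : L ≤ Subgroup.normalizer (N : Set G)) (hexp : ∀ x ∈ N, x ^ p = 1)
    (hcen : ∀ x ∈ N, ∀ v ∈ V, x * v = v * x) : False := by
  have ha := h.mc.prime a h.ha
  have hb := h.mc.prime b h.hb
  haveI := h.Vn
  haveI := h.Vn'
  have hVtop : Subgroup.normalizer (V : Set G) = ⊤ := Subgroup.normalizer_eq_top V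
  have hV'top : Subgroup.normalizer (V' : Set G) = ⊤ := Subgroup.normalizer_eq_top V'
  -- elements of N ∖ 1 have order p and are fpf on V'
  have hord : ∀ x ∈ N, x ≠ 1 → orderOf x = p := by
    intro x hx hx1
    haveI : Fact p.Prime := ⟨hp⟩
    exact orderOf_eq_prime (hexp x hx) hx1
  have hfpf : ∀ x ∈ N, x ≠ 1 → Fpf x V' := by
    intro x hx hx1
    have hxo : (orderOf x).Prime := by rw [hord x hx hx1]; exact hp
    rcases h.fpf_or (hNL hx) hxo with h1 | h1
    · exact absurd h1 (h1_r4_not_fpf_of_centralizes h.Vne (hcen x hx))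
    · exact h1
  -- p ∈ σ
  obtain ⟨n, hnN, hn1⟩ : ∃ n ∈ N, n ≠ 1 := by
    by_contra hcon
    apply hN1
    rw [Subgroup.eq_bot_iff_forall]
    intro x hx
    by_contra hx1
    exact hcon ⟨x, hx, hx1⟩
  have hno : orderOf n = p := hord n hnN hn1
  have hpL : p ∣ Nat.card L := by
    rw [← hno]; exact Subgroup.orderOf_dvd_natCard L (hNL hnN)
  obtain ⟨hpσ, hpa, hpb⟩ := h.prime_mem hp hpL
  by_cases hE : E2 p N
  · obtain ⟨A, hAN, hA⟩ := hE
    obtain ⟨x, hxA, hx1, w, hw, hw1, hxw⟩ := exists_commute_of_sq hp hA h.Vne'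
      (by rw [hV'top]; exact le_top)
    exact hw1 (hfpf x (hAN hxA) hx1 w hw hxw.symm)
  · have hcard : Nat.card N = p := card_eq_of_not_E2_of_exp hp hN1 hexp hE
    have hNz : Subgroup.zpowers n = N := by
      apply Subgroup.eq_of_le_of_card_ge
      · rw [Subgroup.zpowers_le]; exact hnN
      · rw [hcard, Nat.card_zpowers, hno]
    -- the other prime
    obtain ⟨c, hc, d, hd, hcd, hca, hcb, hda, hdb, hall⟩ := h.mc.exists_two_others h.ha h.hb h.hab
    obtain ⟨q, hq, hqa, hqb, hqp⟩ : ∃ q ∈ σ, q ≠ a ∧ q ≠ b ∧ q ≠ p := by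
      rcases hall p hpσ with h1 | h1 | h1 | h1
      · exact absurd h1 hpa
      · exact absurd h1 hpb
      · exact ⟨d, hd, hda, hdb, by rw [h1]; exact hcd.symm⟩
      · exact ⟨c, hc, hca, hcb, by rw [h1]; exact hcd⟩
    have hqq := h.mc.prime q hq
    obtain ⟨Aq, hAqL, hAq⟩ := h.E2L hq hqa hqb
    obtain ⟨e, heA, he1, v, hv, hv1, hev⟩ := exists_commute_of_sq hqq hAq h.Vne
      (by rw [hVtop]; exact le_top)
    have heo : orderOf e = q := hAq.orderOf_eq hqq heA he1
    have heL : e ∈ L := hAqL heA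
    have hfe : Fpf e V := by
      by_cases hen : e * n = n * e
      · have hmix : Fpf (e * n) V := by
          apply h.fpf_mixed hq hpσ hqa hqb hpa hpb hqp
          have hcomm : Commute e n := hen
          have hcop : (orderOf e).Coprime (orderOf n) := by
            rw [heo, hno]; exact (Nat.coprime_primes hqq hp).mpr hqp
          rw [hcomm.orderOf_mul_eq_mul_orderOf_of_coprime hcop, heo, hno]
        intro u hu hue
        apply hmix u hu
        have := hcen n hnN u hu
        calc u * (e * n) = (u * e) * n := by group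
          _ = (e * u) * n := by rw [hue]
          _ = e * (u * n) := by group
          _ = e * (n * u) := by rw [this]
          _ = e * n * u := by group
      · have hfz : Fpf e (Subgroup.zpowers n) :=
          fpf_zpowers_of_not_commute (by rw [hno]; exact hp) hen
        have hnf' : ¬ Fpf e V' := by
          intro hfV'
          have hcopK : (Nat.card (Subgroup.zpowers n)).Coprime (Nat.card V') := by
            haveI : Fact b.Prime := ⟨hb⟩
            obtain ⟨j, hj⟩ := IsPGroup.iff_card.mp h.Vb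
            rw [Nat.card_zpowers, hno, hj]
            exact Nat.Coprime.pow_right j ((Nat.coprime_primes hp hb).mpr hpb)
          have key := frob_centralizes_abelian (K := Subgroup.zpowers n) (W := V') (c := e)
            (by rw [heo]; exact hqq) (by rw [hNz]; exact hLN heL) hfz h.Vab'
            (by rw [hV'top]; exact le_top) (by rw [hV'top]; exact Subgroup.mem_top _) hcopK hfV'
          have hn1' : n = 1 := h.faith n (hNL hnN) (hcen n hnN)
            (fun w hw => key n (Subgroup.mem_zpowers n) w hw)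
          exact hn1 hn1'
        rcases h.fpf_or heL (by rw [heo]; exact hqq) with h1 | h1
        · exact h1
        · exact absurd h1 hnf'
    exact hv1 (hfe v hv hev.symm)

/-- (II.2) `L` acts faithfully on `V`. -/
theorem CaseII.faithV [Finite G] {σ : Finset ℕ} {a b : ℕ} {V V' L : Subgroup G}
    (h : CaseII σ a b V V' L) {x : G} (hx : x ∈ L) (hc : ∀ v ∈ V, x * v = v * x) : x = 1 := by
  by_contra hx1
  haveI := h.Vn
  haveI : Group.IsSolvable G := h.mc.solv
  haveI : Group.IsSolvable L := inferInstance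
  haveI : (Subgroup.centralizer (V : Set G)).Normal := Subgroup.normal_centralizer
  set N₀ : Subgroup L := (Subgroup.centralizer (V : Set G)).subgroupOf L with hN₀
  have hN₀n : N₀.Normal := by rw [hN₀]; infer_instance
  have hN₀1 : N₀ ≠ ⊥ := by
    intro hbot
    have : (⟨x, hx⟩ : L) ∈ N₀ := by
      rw [hN₀, Subgroup.mem_subgroupOf, Subgroup.mem_centralizer_iff]
      intro v hv
      exact (hc v hv).symm
    rw [hbot, Subgroup.mem_bot] at this
    exact hx1 (congrArg Subtype.val this)
  obtain ⟨N', hN'n, hN'1, hN'le, hN'min⟩ := exists_minNormal_le hN₀n hN₀1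
  haveI := hN'n
  obtain ⟨-, p, hp, hexp'⟩ := Cfsg.Agent.Lib.Helper1.minimal_normal_of_solvable N' hN'1 hN'min
  refine h1_r4_caseII_faith_aux h hp (N := N'.map L.subtype) (Subgroup.map_subtype_le _) ?_
    (h1_r4_le_normalizer_map L N') ?_ ?_
  · intro hbot
    exact hN'1 ((Subgroup.map_eq_bot_iff_of_injective _ L.subtype_injective).mp hbot)
  · rintro _ ⟨x', hx', rfl⟩
    have := hexp' x' hx'
    have h2 := congrArg Subtype.val this
    simpa using h2
  · rintro _ ⟨x', hx', rfl⟩ v hv
    have h1 : x' ∈ N₀ := hN'le hx'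
    rw [hN₀, Subgroup.mem_subgroupOf, Subgroup.mem_centralizer_iff] at h1
    exact (h1 v hv).symm

/-- (II.3) `t` is fpf on `V` or `V'` (II.1); Fr (A6) makes `K` centralize it; II.2. -/
theorem CaseII.no_fpf [Finite G] {σ : Finset ℕ} {a b : ℕ} {V V' L : Subgroup G}
    (h : CaseII σ a b V V' L) {t : G} (ht : t ∈ L) (hto : (orderOf t).Prime) {K : Subgroup G}
    (hK : K ≤ L) (hK1 : K ≠ ⊥) (htK : t ∈ Subgroup.normalizer (K : Set G)) : ¬ Fpf t K := by
  intro hfK
  -- a general step, for either of the two minimal normal subgroups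
  have step : ∀ {a' b' : ℕ} {W W' : Subgroup G}, CaseII σ a' b' W W' L → Fpf t W → False := by
    intro a' b' W W' h' hfW
    haveI := h'.Vn
    have hWtop : Subgroup.normalizer (W : Set G) = ⊤ := Subgroup.normalizer_eq_top W
    have ha' := h'.mc.prime a' h'.ha
    haveI : Fact a'.Prime := ⟨ha'⟩
    obtain ⟨i, hi⟩ := IsPGroup.iff_card.mp h'.Va
    have hcop : (Nat.card K).Coprime (Nat.card W) := by
      rw [hi]
      exact Nat.Coprime.pow_right i
        (Nat.Coprime.coprime_dvd_left (Subgroup.card_dvd_of_le hK) h'.Lcop)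
    have key := frob_centralizes_abelian (K := K) (W := W) (c := t) hto htK hfK h'.Vab
      (by rw [hWtop]; exact le_top) (by rw [hWtop]; exact Subgroup.mem_top _) hcop hfW
    apply hK1
    rw [Subgroup.eq_bot_iff_forall]
    intro k hk
    exact h'.faithV (hK hk) (fun v hv => key k hk v hv)
  rcases h.fpf_or ht hto with h1 | h1
  · exact step h h1
  · exact step h.symm h1

end Cfsg.Agent.Lib.Helper2.R4
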