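import Cfsg.Agent.Lib.Helper1.R4D2
import Cfsg.Agent.Lib.Helper9.G162

/-! S3814 farm, units D3a, D3b, D3c: a normal subgroup of prime order of `L` in Case II. -/

set_option autoImplicit false
set_option linter.style.haveILetI false

namespace Cfsg.Agent.Lib.Helper2.R4

open scoped Pointwise

variable {G : Type*} [Group G]

/-- subgroup normalizer membership from one-sided conjugation closure -/
theorem h1_r4_le_normalizer_of_conj {S C : Subgroup G}
    (h : ∀ g ∈ S, ∀ x ∈ C, g * x * g⁻¹ ∈ C) : S ≤ Subgroup.normalizer (C : Set G) := by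
  intro g hg
  rw [Subgroup.mem_normalizer_iff]
  intro x
  constructor
  · exact h g hg x
  · intro hx
    have := h g⁻¹ (S.inv_mem hg) _ hx
    simpa [mul_assoc] using this

/-- (II.5a) -/
theorem CaseII.fpf_of_normal_prime [Finite G] {σ : Finset ℕ} {a b : ℕ} {V V' L : Subgroup G}
    (h : CaseII σ a b V V' L) {n : G} (hn : n ∈ L) (hno : (orderOf n).Prime)
    (hLn : L ≤ Subgroup.normalizer ((Subgroup.zpowers n : Subgroup G) : Set G)) : Fpf n V := by
  haveI := h.Vn
  set C : Subgroup G := V ⊓ Subgroup.centralizer {n} with hC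
  have hmemC : ∀ x, x ∈ C ↔ x ∈ V ∧ n * x = x * n := by
    intro x
    rw [hC, Subgroup.mem_inf, Subgroup.mem_centralizer_iff]
    simp
  have hV : V ≤ Subgroup.normalizer (C : Set G) := by
    apply h1_r4_le_normalizer_of_conj
    intro g hg x hx
    have hxV := ((hmemC x).mp hx).1
    have : g * x * g⁻¹ = x := by rw [h.Vab g hg x hxV]; group
    rw [this]; exact hx
  have hV' : V' ≤ Subgroup.normalizer (C : Set G) := by
    apply h1_r4_le_normalizer_of_conj
    intro g hg x hx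
    have hxV := ((hmemC x).mp hx).1
    have : g * x * g⁻¹ = x := by rw [← h.commute_VV' x hxV g hg]; group
    rw [this]; exact hx
  have hL : L ≤ Subgroup.normalizer (C : Set G) := by
    apply h1_r4_le_normalizer_of_conj
    intro g hg x hx
    obtain ⟨hxV, hxn⟩ := (hmemC x).mp hx
    rw [hmemC]
    refine ⟨h.Vn.conj_mem x hxV g, ?_⟩
    have h1 : g⁻¹ * n * g⁻¹⁻¹ ∈ Subgroup.zpowers n :=
      (Subgroup.mem_normalizer_iff.mp (hLn (L.inv_mem hg)) n).mp (Subgroup.mem_zpowers n)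
    obtain ⟨i, hi⟩ := Subgroup.mem_zpowers_iff.mp h1
    have h2 : Commute (n ^ i) x := (show Commute n x from hxn).zpow_left i
    rw [hi] at h2
    have h3 : (g⁻¹ * n * g⁻¹⁻¹) * x = x * (g⁻¹ * n * g⁻¹⁻¹) := h2
    calc n * (g * x * g⁻¹) = g * ((g⁻¹ * n * g⁻¹⁻¹) * x) * g⁻¹ := by group
      _ = g * (x * (g⁻¹ * n * g⁻¹⁻¹)) * g⁻¹ := by rw [h3]
      _ = g * x * g⁻¹ * n := by group
  have hCn : C.Normal := by
    rw [← Subgroup.normalizer_eq_top_iff]
    apply top_le_iff.mp
    rw [← h.sup]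
    exact sup_le (sup_le hV hV') hL
  rcases h.Vmin C hCn inf_le_left with h0 | h0
  · exact (fpf_iff_inf n V).mpr h0
  · exfalso
    have : n = 1 := h.faithV hn (fun v hv => by
      have : v ∈ C := by rw [h0]; exact hv
      exact ((hmemC v).mp this).2)
    rw [this, orderOf_one] at hno
    exact Nat.not_prime_one hno

theorem h1_r4_zpowers_eq_of_mem [Finite G] {y x : G} (hy : (orderOf y).Prime)
    (hx : x ∈ Subgroup.zpowers y) (hx1 : x ≠ 1) : Subgroup.zpowers x = Subgroup.zpowers y := by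
  apply Subgroup.eq_of_le_of_card_ge (Subgroup.zpowers_le.mpr hx)
  rw [Nat.card_zpowers, Nat.card_zpowers]
  have h1 : orderOf x ∣ orderOf y := orderOf_dvd_of_mem_zpowers hx
  rcases (Nat.dvd_prime hy).mp h1 with h2 | h2
  · exact absurd (orderOf_eq_one_iff.mp h2) hx1
  · exact h2.ge

theorem h1_r4_fpf_of_mem_zpowers [Finite G] {y x : G} {W : Subgroup G} (hy : (orderOf y).Prime)
    (hf : Fpf y W) (hx : x ∈ Subgroup.zpowers y) (hx1 : x ≠ 1) : Fpf x W := by
  have : y ∈ Subgroup.zpowers x := by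
    rw [h1_r4_zpowers_eq_of_mem hy hx hx1]; exact Subgroup.mem_zpowers y
  obtain ⟨m, hm⟩ := Subgroup.mem_zpowers_iff.mp this
  intro w hw hwx
  apply hf w hw
  rw [← hm]
  exact ((show Commute w x from hwx).zpow_right m)

theorem h1_r4_no_shift_aux [Finite G] {σ : Finset ℕ} {a b : ℕ} {V V' L : Subgroup G}
    (h : CaseII σ a b V V' L) {p : ℕ} {n y g : G} (hn : n ∈ L) (hno : orderOf n = p) (hp : p.Prime)
    (hLn : L ≤ Subgroup.normalizer ((Subgroup.zpowers n : Subgroup G) : Set G))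
    (hyo : orderOf y = p) (hyn : y ∉ Subgroup.zpowers n) (hcomm : y * n = n * y)
    (hgn : g * n = n * g) {j : ℕ} (hj : g * y * g⁻¹ = y * n ^ j) (hj1 : n ^ j ≠ 1) :
    ¬ Fpf y V := by
  intro hfy
  haveI := h.Vn
  have hVtop := Subgroup.normalizer_eq_top V
  have hfn : Fpf n V := h.fpf_of_normal_prime hn (by rw [hno]; exact hp) hLn
  have hny : n * y = y * n := hcomm.symm
  have hA : IsSq p (Subgroup.closure {n, y}) := isSq_closure_pair hp hno hyo hny hyn
  obtain ⟨x, hxA, hx1, w, hw, hw1, hxw⟩ := exists_commute_of_sq hp hA h.Vne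
    (by rw [hVtop]; exact le_top)
  obtain ⟨i, k, hxe⟩ := (mem_closure_pair_iff hny x).mp hxA
  have hconj : ∀ s : ℕ, g ^ s * y * (g ^ s)⁻¹ = y * (n ^ j) ^ s := by
    intro s
    induction s with
    | zero => simp
    | succ s ih =>
      have hgnj : g * (n ^ j) ^ s * g⁻¹ = (n ^ j) ^ s := by
        have : Commute g ((n ^ j) ^ s) := ((show Commute g n from hgn).pow_right j).pow_right s
        rw [this.eq]; group
      calc g ^ (s + 1) * y * (g ^ (s + 1))⁻¹ = g * (g ^ s * y * (g ^ s)⁻¹) * g⁻¹ := by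
            rw [pow_succ']; group
        _ = g * (y * (n ^ j) ^ s) * g⁻¹ := by rw [ih]
        _ = (g * y * g⁻¹) * (g * (n ^ j) ^ s * g⁻¹) := by group
        _ = y * n ^ j * (n ^ j) ^ s := by rw [hj, hgnj]
        _ = y * (n ^ j) ^ (s + 1) := by rw [pow_succ', mul_assoc]
  by_cases hyk : y ^ k = 1
  · rw [hyk, mul_one] at hxe
    have hfx : Fpf x V := h1_r4_fpf_of_mem_zpowers (by rw [hno]; exact hp) hfn
      (by rw [hxe]; exact Subgroup.zpow_mem_zpowers n i) hx1
    exact hw1 (hfx w hw hxw.symm)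
  · have hyz : Subgroup.zpowers (y ^ k) = Subgroup.zpowers y :=
      h1_r4_zpowers_eq_of_mem (by rw [hyo]; exact hp) (Subgroup.zpow_mem_zpowers y k) hyk
    have hyin : y ∈ Subgroup.zpowers (y ^ k) := by rw [hyz]; exact Subgroup.mem_zpowers y
    obtain ⟨m, hm⟩ := Subgroup.mem_zpowers_iff.mp hyin
    have hcomm' : Commute (n ^ i) (y ^ k) := ((show Commute n y from hny).zpow_zpow i k)
    have hxm : x ^ m = (n ^ i) ^ m * y := by rw [hxe, hcomm'.mul_zpow, hm]
    have hzj : Subgroup.zpowers (n ^ j) = Subgroup.zpowers n :=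
      h1_r4_zpowers_eq_of_mem (by rw [hno]; exact hp)
        (Subgroup.pow_mem _ (Subgroup.mem_zpowers n) j) hj1
    have hz : (n ^ i) ^ m ∈ Subgroup.zpowers (n ^ j) := by
      rw [hzj]; exact Subgroup.zpow_mem _ (Subgroup.zpow_mem_zpowers n i) m
    rw [← mem_powers_iff_mem_zpowers] at hz
    obtain ⟨s, hs⟩ := (Submonoid.mem_powers_iff _ _).mp hz
    have hcz : Commute ((n ^ i) ^ m) y := ((show Commute n y from hny).zpow_left i).zpow_left m
    have hxm' : x ^ m = g ^ s * y * (g ^ s)⁻¹ := by rw [hconj s, hs, hxm, hcz.eq]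
    have hfx : Fpf (x ^ m) V := by
      rw [hxm']; exact hfy.conj (g ^ s) (by rw [hVtop]; exact Subgroup.mem_top _)
    have hwc : Commute w (x ^ m) := (show Commute w x from hxw.symm).zpow_right m
    exact hw1 (hfx w hw hwc)

/-- (II.5) -/
theorem CaseII.no_shift [Finite G] {σ : Finset ℕ} {a b : ℕ} {V V' L : Subgroup G}
    (h : CaseII σ a b V V' L) {p : ℕ} {n y g : G} (hn : n ∈ L) (hno : orderOf n = p) (hp : p.Prime)
    (hLn : L ≤ Subgroup.normalizer ((Subgroup.zpowers n : Subgroup G) : Set G))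
    (hy : y ∈ L) (hyo : orderOf y = p) (hyn : y ∉ Subgroup.zpowers n) (hcomm : y * n = n * y)
    (hg : g ∈ L) (hgn : g * n = n * g) {j : ℕ} (hj : g * y * g⁻¹ = y * n ^ j) (hj1 : n ^ j ≠ 1) :
    False := by
  have h1 : ¬ Fpf y V := h1_r4_no_shift_aux h hn hno hp hLn hyo hyn hcomm hgn hj hj1
  have h2 : ¬ Fpf y V' := h1_r4_no_shift_aux h.symm hn hno hp hLn hyo hyn hcomm hgn hj hj1
  rcases h.fpf_or hy (by rw [hyo]; exact hp) with h3 | h3
  · exact h1 h3
  · exact h2 h3

/-- the abstract `p`-group argument for (II.6) -/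
theorem h1_r4_exists_central {P : Type*} [Group P] [Finite P] {p : ℕ} (hp : p.Prime)
    (hP : IsPGroup p P) {n : P} (hnc : ∀ s : P, n * s = s * n)
    (H : ∀ y g : P, orderOf y = p → y ∉ Subgroup.zpowers n → ∀ j : ℕ,
      g * y * g⁻¹ = y * n ^ j → n ^ j = 1)
    (hY : ∃ y : P, orderOf y = p ∧ y ∉ Subgroup.zpowers n) :
    ∃ y : P, orderOf y = p ∧ y ∉ Subgroup.zpowers n ∧ ∀ s : P, y * s = s * y := by
  classical
  haveI : Fact p.Prime := ⟨hp⟩
  haveI : Group.IsNilpotent P := hP.isNilpotent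
  let 𝒴 : Set P := {y | orderOf y = p ∧ y ∉ Subgroup.zpowers n}
  obtain ⟨y, hy𝒴, hmax⟩ := Set.exists_max_image 𝒴
    (fun y => Nat.card (Subgroup.centralizer ({y} : Set P))) (Set.toFinite _) hY
  obtain ⟨hyo, hyn⟩ := hy𝒴
  refine ⟨y, hyo, hyn, ?_⟩
  by_contra hcon
  set C := Subgroup.centralizer ({y} : Set P) with hC
  have hCtop : C < ⊤ := by
    rw [lt_top_iff_ne_top]
    intro htop
    apply hcon
    intro s
    have : s ∈ C := by rw [htop]; exact Subgroup.mem_top s
    rw [hC, Subgroup.mem_centralizer_iff] at this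
    exact this y rfl
  have hnorm := Group.normalizerCondition_of_isNilpotent (G := P) C hCtop
  obtain ⟨g, hgN, hgC⟩ := SetLike.exists_of_lt hnorm
  let Z₁ : Subgroup P :=
    { carrier := {z | z ∈ C ∧ (∀ c ∈ C, z * c = c * z) ∧ z ^ p = 1}
      one_mem' := ⟨C.one_mem, by simp, one_pow p⟩
      mul_mem' := by
        rintro z z' ⟨hz, hzc, hzp⟩ ⟨hz', hzc', hzp'⟩
        refine ⟨C.mul_mem hz hz', ?_, ?_⟩
        · intro c hc
          rw [mul_assoc, hzc' c hc, ← mul_assoc, hzc c hc, mul_assoc]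
        · have : Commute z z' := hzc z' hz'
          rw [this.mul_pow, hzp, hzp', one_mul]
      inv_mem' := by
        rintro z ⟨hz, hzc, hzp⟩
        refine ⟨C.inv_mem hz, ?_, by rw [inv_pow, hzp, inv_one]⟩
        intro c hc
        have : Commute z c := hzc c hc
        exact this.inv_left.eq }
  have hZ₁mem : ∀ z, z ∈ Z₁ ↔ z ∈ C ∧ (∀ c ∈ C, z * c = c * z) ∧ z ^ p = 1 := fun z => Iff.rfl
  have hyZ : y ∈ Z₁ := by
    rw [hZ₁mem]
    refine ⟨?_, ?_, ?_⟩
    · rw [hC, Subgroup.mem_centralizer_iff]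
      intro h hh; rw [Set.mem_singleton_iff.mp hh]
    · intro c hc
      rw [hC, Subgroup.mem_centralizer_iff] at hc
      exact hc y rfl
    · rw [← hyo]; exact pow_orderOf_eq_one y
  have hgZ : ∀ z ∈ Z₁, g * z * g⁻¹ ∈ Z₁ := by
    intro z hz
    obtain ⟨hzC, hzc, hzp⟩ := (hZ₁mem z).mp hz
    rw [hZ₁mem]
    refine ⟨(Subgroup.mem_normalizer_iff.mp hgN z).mp hzC, ?_, ?_⟩
    · intro c hc
      have hc' : g⁻¹ * c * g ∈ C := by
        have := (Subgroup.mem_normalizer_iff.mp (Subgroup.inv_mem _ hgN) c).mp hc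
        simpa using this
      have := hzc _ hc'
      calc g * z * g⁻¹ * c = g * (z * (g⁻¹ * c * g)) * g⁻¹ := by group
        _ = g * ((g⁻¹ * c * g) * z) * g⁻¹ := by rw [this]
        _ = c * (g * z * g⁻¹) := by group
    · rw [conj_pow, hzp]; simp
  let u : ℕ → P := fun k => Nat.rec y (fun _ z => g * z * g⁻¹ * z⁻¹) k
  have hu0 : u 0 = y := rfl
  have hus : ∀ k, u (k + 1) = g * u k * g⁻¹ * (u k)⁻¹ := fun k => rfl
  have huZ : ∀ k, u k ∈ Z₁ := by
    intro k
    induction k with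
    | zero => exact hyZ
    | succ k ih => rw [hus]; exact Z₁.mul_mem (hgZ _ ih) (Z₁.inv_mem ih)
  have hulcs : ∀ k, u k ∈ (⊤ : Subgroup P).lowerCentralSeries k := by
    intro k
    induction k with
    | zero => exact Subgroup.mem_top _
    | succ k ih =>
      rw [hus, Subgroup.lowerCentralSeries_succ, Subgroup.commutator_comm]
      have := Subgroup.commutator_mem_commutator (Subgroup.mem_top g) ih
      rwa [commutatorElement_def] at this
  obtain ⟨K, hK⟩ := Subgroup.nilpotent_iff_lowerCentralSeries.mp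
    (inferInstance : Group.IsNilpotent P)
  have hex : ∃ k, u k ∈ Subgroup.zpowers n := ⟨K, by
    have := hulcs K
    rw [hK, Subgroup.mem_bot] at this
    rw [this]; exact Subgroup.one_mem _⟩
  obtain ⟨m, hm, hmin⟩ : ∃ m, u m ∈ Subgroup.zpowers n ∧ ∀ k < m, u k ∉ Subgroup.zpowers n := by
    haveI : DecidablePred (fun k => u k ∈ Subgroup.zpowers n) := Classical.decPred _
    exact ⟨Nat.find hex, Nat.find_spec hex, fun k hk => Nat.find_min hex hk⟩
  have hm0 : m ≠ 0 := by
    intro h0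
    rw [h0, hu0] at hm
    exact hyn hm
  obtain ⟨m', rfl⟩ := Nat.exists_eq_succ_of_ne_zero hm0
  have hy'n : u m' ∉ Subgroup.zpowers n := hmin m' (Nat.lt_succ_self m')
  obtain ⟨hy'C, hy'c, hy'p⟩ := (hZ₁mem _).mp (huZ m')
  have hy'1 : u m' ≠ 1 := by
    intro h1; apply hy'n; rw [h1]; exact Subgroup.one_mem _
  have hy'o : orderOf (u m') = p := orderOf_eq_prime hy'p hy'1
  have hnext : u (m' + 1) ∈ Subgroup.zpowers n := hm
  rw [← mem_powers_iff_mem_zpowers] at hnext
  obtain ⟨j, hj⟩ := (Submonoid.mem_powers_iff _ _).mp hnext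
  have hnj : n ^ j = g * u m' * g⁻¹ * (u m')⁻¹ := by rw [hj, hus]
  have hncj : n ^ j * u m' = u m' * n ^ j := ((show Commute n (u m') from hnc _).pow_left j).eq
  have hconj : g * u m' * g⁻¹ = u m' * n ^ j := by
    rw [← hncj, hnj]; group
  have hnj1 : n ^ j = 1 := H (u m') g hy'o hy'n j hconj
  have hgc : g ∈ Subgroup.centralizer ({u m'} : Set P) := by
    rw [Subgroup.mem_centralizer_iff]
    intro h hh
    rw [Set.mem_singleton_iff.mp hh]
    rw [hnj1, mul_one] at hconj
    calc u m' * g = (g * u m' * g⁻¹) * g := by rw [hconj]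
      _ = g * u m' := by group
  have hCle : C ≤ Subgroup.centralizer ({u m'} : Set P) := by
    intro c hc
    rw [Subgroup.mem_centralizer_iff]
    intro h hh
    rw [Set.mem_singleton_iff.mp hh]
    exact hy'c c hc
  have hle := hmax (u m') ⟨hy'o, hy'n⟩
  have heq : C = Subgroup.centralizer ({u m'} : Set P) := Subgroup.eq_of_le_of_card_ge hCle hle
  apply hgC
  rw [heq]; exact hgc

/-- (II.6) -/
theorem CaseII.exists_central_sq [Finite G] {σ : Finset ℕ} {a b : ℕ} {V V' L : Subgroup G}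
    (h : CaseII σ a b V V' L) {p : ℕ} (hp : p ∈ σ) (hpa : p ≠ a) (hpb : p ≠ b) {n : G}
    (hn : n ∈ L) (hno : orderOf n = p)
    (hLn : L ≤ Subgroup.normalizer ((Subgroup.zpowers n : Subgroup G) : Set G))
    {S : Subgroup G} (hSL : S ≤ L) (hS : IsPGroup p S) (hSyl : ¬ p ∣ S.relIndex L) :
    ∃ A : Subgroup G, A ≤ S ∧ IsSq p A ∧ n ∈ A ∧ ∀ x ∈ A, ∀ s ∈ S, x * s = s * x := by
  have hpp := h.mc.prime p hp
  haveI : Fact p.Prime := ⟨hpp⟩
  -- n ∈ S
  have hNp : IsPGroup p (Subgroup.zpowers n) := by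
    apply IsPGroup.of_card (n := 1)
    rw [Nat.card_zpowers, hno, pow_one]
  have hSN : S ≤ Subgroup.normalizer ((Subgroup.zpowers n : Subgroup G) : Set G) := hSL.trans hLn
  have hT : IsPGroup p (S ⊔ Subgroup.zpowers n : Subgroup G) :=
    IsPGroup.to_sup_of_normal_right' hS hNp hSN
  have hTL : S ⊔ Subgroup.zpowers n ≤ L := sup_le hSL (Subgroup.zpowers_le.mpr hn)
  have hnS : n ∈ S := by
    have h1 := Subgroup.relIndex_mul_relIndex S (S ⊔ Subgroup.zpowers n) L le_sup_left hTL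
    have h2 : ¬ p ∣ S.relIndex (S ⊔ Subgroup.zpowers n) := by
      intro hd; apply hSyl; rw [← h1]; exact Dvd.dvd.mul_right hd _
    obtain ⟨k, hk⟩ := IsPGroup.iff_card.mp hT
    have h3 : S.relIndex (S ⊔ Subgroup.zpowers n) ∣ p ^ k := by
      rw [← hk]; exact Subgroup.relIndex_dvd_card _ _
    obtain ⟨l, -, hl⟩ := (Nat.dvd_prime_pow hpp).mp h3
    have hl0 : l = 0 := by
      by_contra hl0
      apply h2; rw [hl]; exact dvd_pow_self p hl0
    rw [hl0, pow_zero] at hl
    have := Subgroup.relIndex_eq_one.mp hl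
    exact this (Subgroup.mem_sup_right (Subgroup.mem_zpowers n))
  -- n central in S
  have hnc : ∀ s ∈ S, n * s = s * n := by
    have hnorm : ∀ s ∈ S, ∀ x ∈ Subgroup.zpowers n, s * x * s⁻¹ ∈ Subgroup.zpowers n := by
      intro s hs x hx
      exact (Subgroup.mem_normalizer_iff.mp (hSN hs) x).mp hx
    have hN1 : Subgroup.zpowers n ≠ ⊥ := by
      intro hbot
      have : n = 1 := Subgroup.zpowers_eq_bot.mp hbot
      rw [this, orderOf_one] at hno
      exact hpp.one_lt.ne hno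
    obtain ⟨b', hb'N, hb'1, hb'c⟩ := Cfsg.Agent.Lib.Helper9.G162.exists_central_of_normal S hS
      (Subgroup.zpowers n) (Subgroup.zpowers_le.mpr hnS) hnorm hN1
    have hz := h1_r4_zpowers_eq_of_mem (by rw [hno]; exact hpp) hb'N hb'1
    have hnin : n ∈ Subgroup.zpowers b' := by rw [hz]; exact Subgroup.mem_zpowers n
    obtain ⟨k, hk⟩ := Subgroup.mem_zpowers_iff.mp hnin
    intro s hs
    rw [← hk]
    exact ((show Commute b' s from (hb'c s hs).symm).zpow_left k).eq
  -- E2 p S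
  have hE2S : E2 p S := E2.of_not_dvd_relIndex hpp hSL hSyl (h.E2L hp hpa hpb)
  obtain ⟨A₁, hA₁S, hA₁⟩ := hE2S
  obtain ⟨x, hxA₁, hxn⟩ := hA₁.exists_not_mem_zpowers hpp n
  have hx1 : x ≠ 1 := by
    intro h1; apply hxn; rw [h1]; exact Subgroup.one_mem _
  have hxo : orderOf x = p := hA₁.orderOf_eq hpp hxA₁ hx1
  -- pass to the type ↥S
  set n' : S := ⟨n, hnS⟩ with hn'
  have hcoe_zp : ∀ z : S, z ∈ Subgroup.zpowers n' ↔ (z : G) ∈ Subgroup.zpowers n := by
    intro z
    rw [Subgroup.mem_zpowers_iff, Subgroup.mem_zpowers_iff]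
    constructor
    · rintro ⟨k, hk⟩
      exact ⟨k, by rw [← hk]; simp [hn']⟩
    · rintro ⟨k, hk⟩
      exact ⟨k, Subtype.ext (by simp [hn', hk])⟩
  have hnc' : ∀ s : S, n' * s = s * n' := fun s => Subtype.ext (by simpa [hn'] using hnc s s.2)
  have hH : ∀ y g : S, orderOf y = p → y ∉ Subgroup.zpowers n' → ∀ j : ℕ,
      g * y * g⁻¹ = y * n' ^ j → n' ^ j = 1 := by
    intro y g hyo hyn j hj
    by_contra hj1
    have hj' : (g : G) * y * (g : G)⁻¹ = y * n ^ j := by
      have := congrArg Subtype.val hj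
      simpa [hn'] using this
    have hj1' : n ^ j ≠ 1 := by
      intro h1; apply hj1; apply Subtype.ext; simp [hn', h1]
    exact h.no_shift hn hno hpp hLn (hSL y.2) (by rw [Subgroup.orderOf_coe]; exact hyo)
      (fun hm => hyn ((hcoe_zp y).mpr hm)) (hnc y y.2).symm (hSL g.2) (hnc g g.2).symm hj' hj1'
  have hY : ∃ y : S, orderOf y = p ∧ y ∉ Subgroup.zpowers n' := by
    refine ⟨⟨x, hA₁S hxA₁⟩, ?_, ?_⟩
    · rw [← Subgroup.orderOf_coe]; exact hxo
    · intro hm; exact hxn ((hcoe_zp _).mp hm)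
  obtain ⟨y, hyo, hyn, hyc⟩ := h1_r4_exists_central hpp
    (show IsPGroup p S from hS) hnc' hH hY
  have hyo' : orderOf (y : G) = p := by rw [Subgroup.orderOf_coe]; exact hyo
  have hyn' : (y : G) ∉ Subgroup.zpowers n := fun hm => hyn ((hcoe_zp y).mpr hm)
  have hyc' : ∀ s ∈ S, (y : G) * s = s * y := by
    intro s hs
    have := congrArg Subtype.val (hyc ⟨s, hs⟩)
    simpa using this
  refine ⟨Subgroup.closure {n, (y : G)}, ?_, ?_, ?_, ?_⟩
  · rw [Subgroup.closure_le]
    intro z hz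
    rcases hz with rfl | hz
    · exact hnS
    · rw [Set.mem_singleton_iff.mp hz]; exact y.2
  · exact isSq_closure_pair hpp hno hyo' (hnc y y.2) hyn'
  · exact Subgroup.subset_closure (Set.mem_insert _ _)
  · have hle : Subgroup.closure {n, (y : G)} ≤ Subgroup.centralizer (S : Set G) := by
      rw [Subgroup.closure_le]
      intro z hz
      rw [SetLike.mem_coe, Subgroup.mem_centralizer_iff]
      rcases hz with rfl | hz
      · intro s hs; exact (hnc s hs).symm
      · rw [Set.mem_singleton_iff.mp hz]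
        intro s hs; exact (hyc' s hs).symm
    intro x hx s hs
    have := hle hx
    rw [Subgroup.mem_centralizer_iff] at this
    exact (this s hs).symm

end Cfsg.Agent.Lib.Helper2.R4
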