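import Mathlib
import Cfsg.Agent.Lib.Helper9.RK3HDefs
import Cfsg.Agent.Lib.Helper1.ThompsonBasic

/-! Farm RK3 (S4404), LEMMA HHc, unit `TR`: transfer to the holomorph `M ⋊ Aut M`,
where the action on `M` is faithful. -/

set_option autoImplicit false

open scoped commutatorElement

namespace Cfsg.Agent.Lib.Helper1.RK3TR

open SemidirectProduct Cfsg.Agent.Lib.Helper9.RK3

universe u

variable {S : Type u} [Group S]

/-- the holomorph of `M`. -/
abbrev Hol (M : Subgroup S) : Type u := ↥M ⋊[MonoidHom.id (MulAut ↥M)] MulAut ↥M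

/-- `S` acts on the normal subgroup `M`; this is the induced map to the holomorph. -/
noncomputable def rho (M : Subgroup S) [M.Normal] : S →* Hol M :=
  (inr : MulAut ↥M →* Hol M).comp (MulAut.conjNormal : S →* MulAut ↥M)

/-- the embedding of `M` in its holomorph. -/
abbrev iota (M : Subgroup S) : ↥M →* Hol M := inl

theorem rho_conj (M : Subgroup S) [M.Normal] (g : S) (m : ↥M) :
    rho M g * iota M m * (rho M g)⁻¹ = iota M (MulAut.conjNormal g m) := by
  have h := inl_aut (φ := MonoidHom.id (MulAut ↥M)) (MulAut.conjNormal g : MulAut ↥M) m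
  rw [MonoidHom.id_apply] at h
  rw [h]
  simp only [rho, MonoidHom.comp_apply, map_inv]

theorem coe_conjNormal (M : Subgroup S) [M.Normal] (g : S) (m : ↥M) :
    ((MulAut.conjNormal g m : ↥M) : S) = g * m * g⁻¹ := by
  simp [MulAut.conjNormal_apply]

theorem conjNormal_eq_one_of_mem_centralizer (M : Subgroup S) [M.Normal] {g : S}
    (hg : g ∈ Subgroup.centralizer (M : Set S)) : (MulAut.conjNormal g : MulAut ↥M) = 1 := by
  ext m
  rw [coe_conjNormal, MulAut.one_apply]
  have := hg m m.2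
  rw [← this, mul_inv_cancel_right]

/-- elements of `rho M S` centralizing `iota M M` are trivial. -/
theorem rho_faithful (M : Subgroup S) [M.Normal] {g : S}
    (hg : rho M g ∈ Subgroup.centralizer (((iota M).range : Subgroup (Hol M)) : Set (Hol M))) :
    rho M g = 1 := by
  have h1 : (MulAut.conjNormal g : MulAut ↥M) = 1 := by
    ext m
    rw [MulAut.one_apply]
    have h2 := hg (iota M m) ⟨m, rfl⟩
    have h3 := rho_conj M g m
    rw [← h2, mul_inv_cancel_right] at h3
    exact congrArg Subtype.val (inl_injective h3).symm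
  simp only [rho, MonoidHom.comp_apply, h1, map_one]

/-- the commutator `[ι m, ρ g]` is `ι` of the commutator `[m, g]`. -/
theorem comm_iota_rho (M : Subgroup S) [M.Normal] (g : S) (m : ↥M) :
    ⁅iota M m, rho M g⁆ = iota M (m * MulAut.conjNormal g m⁻¹) := by
  rw [commutatorElement_def, map_mul, ← rho_conj, map_inv]
  group

theorem rho_zpow_mem (M : Subgroup S) [M.Normal] {x q : S} (hq : q ∈ Subgroup.zpowers x) :
    rho M q ∈ Subgroup.zpowers (rho M x) := by
  obtain ⟨k, rfl⟩ := Subgroup.mem_zpowers_iff.mp hq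
  rw [map_zpow]
  exact Subgroup.zpow_mem_zpowers _ k

/-- the element `m * (g m⁻¹ g⁻¹)` of `M` is the commutator `[m, g]`. -/
theorem coe_mul_conjNormal_inv (M : Subgroup S) [M.Normal] (g : S) (m : ↥M) :
    ((m * MulAut.conjNormal g m⁻¹ : ↥M) : S) = ⁅(m : S), g⁆ := by
  rw [Subgroup.coe_mul, coe_conjNormal, commutatorElement_def, Subgroup.coe_inv]
  group

/-- LEMMA HHc of lead's proof of S4404, from its faithful version `hX`: apply `hX` in the
holomorph `M ⋊ Aut M` to `ι M`, `ρ P`, `ρ x` (`x` a generator of `Q`). -/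
theorem hhc_of_hhcX {S : Type u} [Group S] [Finite S]
    (hX : ∀ {G : Type u} [Group G] [Finite G] {M P : Subgroup G} {x : G} {r : ℕ},
      Cfg M P x r →
      (P ⊓ Subgroup.centralizer ((⁅M, Subgroup.zpowers x⁆ : Subgroup G) : Set G)).relIndex P
        ≤ r)
    (M : Subgroup S) [M.Normal] (hM : Cfsg.IsElementaryAbelian 2 M)
    (Q : Subgroup S) (hQc : IsCyclic Q) (hQ3 : IsPGroup 3 Q)
    (hQ1 : ∀ x ∈ Q, x ^ 3 ∈ Subgroup.centralizer (M : Set S))
    (hQM : Nat.card (⁅Q, M⁆ : Subgroup S) = 4)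
    (r : ℕ) (hr : r.Prime) (hr5 : 5 ≤ r) (P : Subgroup S) (hP : IsPGroup r P)
    (hQP : Q ≤ Subgroup.normalizer (P : Set S)) :
    (P ⊓ Subgroup.centralizer ((⁅Q, M⁆ : Subgroup S) : Set S)).relIndex P ≤ r := by
  classical
  obtain ⟨g, hg⟩ := hQc.exists_generator
  obtain ⟨x, hxdef⟩ : ∃ x : S, x = (g : S) := ⟨_, rfl⟩
  have hxQ : x ∈ Q := hxdef ▸ g.2
  have hQx : ∀ q ∈ Q, q ∈ Subgroup.zpowers x := by
    intro q hq
    obtain ⟨k, hk⟩ := Subgroup.mem_zpowers_iff.mp (hg ⟨q, hq⟩)
    refine Subgroup.mem_zpowers_iff.mpr ⟨k, ?_⟩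
    have := congrArg Subtype.val hk
    rw [hxdef]
    simpa using this
  have hfin : Finite (Hol M) := Finite.of_equiv _ SemidirectProduct.equivProd.symm
  obtain ⟨M', hM'⟩ : ∃ M' : Subgroup (Hol M), M' = (iota M).range := ⟨_, rfl⟩
  have hM'n : M'.Normal := by
    rw [hM', show (iota M).range = (rightHom : Hol M →* MulAut ↥M).ker from
      range_inl_eq_ker_rightHom]
    infer_instance
  obtain ⟨V', hV'⟩ : ∃ V' : Subgroup (Hol M), V' = ⁅M', Subgroup.zpowers (rho M x)⁆ := ⟨_, rfl⟩
  -- `[Q, M]` corresponds to `V'`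
  have hVle : V' ≤ ((⁅Q, M⁆ : Subgroup S).subgroupOf M).map (iota M) := by
    rw [hV', Subgroup.commutator_le]
    intro g₁ hg₁ g₂ hg₂
    rw [hM'] at hg₁
    obtain ⟨m, rfl⟩ := hg₁
    obtain ⟨k, rfl⟩ := Subgroup.mem_zpowers_iff.mp hg₂
    rw [← map_zpow, comm_iota_rho]
    refine Subgroup.mem_map_of_mem _ ?_
    rw [Subgroup.mem_subgroupOf, coe_mul_conjNormal_inv, Subgroup.commutator_comm]
    exact Subgroup.commutator_mem_commutator m.2 (Q.zpow_mem hxQ k)
  have hVge : (⁅Q, M⁆ : Subgroup S) ≤ (V'.comap (iota M)).map M.subtype := by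
    rw [Subgroup.commutator_le]
    intro q hq m hm
    have h1 : ⁅m, q⁆ ∈ (V'.comap (iota M)).map M.subtype := by
      refine ⟨⟨m, hm⟩ * MulAut.conjNormal q (⟨m, hm⟩ : ↥M)⁻¹, ?_, ?_⟩
      · show iota M _ ∈ V'
        rw [← comm_iota_rho, hV']
        exact Subgroup.commutator_mem_commutator (hM' ▸ ⟨⟨m, hm⟩, rfl⟩)
          (rho_zpow_mem M (hQx q hq))
      · rw [Subgroup.coe_subtype, coe_mul_conjNormal_inv]
    have h2 := Subgroup.inv_mem _ h1
    rwa [commutatorElement_inv] at h2
  have c : Cfg M' (P.map (rho M)) (rho M x) r :=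
    { hr := hr
      hr5 := hr5
      hM := by
        rw [Cfsg.Agent.Lib.Helper1.isElementaryAbelian_iff]
        constructor
        · intro a ha b hb
          rw [hM'] at ha hb
          obtain ⟨m, rfl⟩ := ha
          obtain ⟨m', rfl⟩ := hb
          rw [← map_mul, ← map_mul]
          congr 1
          exact Subtype.ext (Cfsg.Agent.Lib.Helper1.isElementaryAbelian_comm hM m.2 m'.2)
        · intro a ha
          rw [hM'] at ha
          obtain ⟨m, rfl⟩ := ha
          rw [← map_pow]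
          have : m ^ 2 = 1 := Subtype.ext (by rw [Subgroup.coe_pow]; exact hM.2 _ m.2)
          rw [this, map_one]
      hR := hP.map _
      hRM := by rw [Subgroup.normalizer_eq_top]; exact le_top
      hxM := by rw [Subgroup.normalizer_eq_top]; exact Subgroup.mem_top _
      hxR := Subgroup.le_normalizer_map _ (Subgroup.mem_map_of_mem _ (hQP hxQ))
      hx3 := by
        rw [← map_pow]
        simp only [rho, MonoidHom.comp_apply,
          conjNormal_eq_one_of_mem_centralizer M (hQ1 x hxQ), map_one]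
      hV := by
        rw [← hV']
        calc Nat.card V' ≤ Nat.card (((⁅Q, M⁆ : Subgroup S).subgroupOf M).map (iota M)) :=
              Subgroup.card_le_of_le hVle
          _ = Nat.card ((⁅Q, M⁆ : Subgroup S).subgroupOf M) :=
              Subgroup.card_map_of_injective inl_injective
          _ ≤ Nat.card (⁅Q, M⁆ : Subgroup S) :=
              Nat.card_le_card_of_injective
                (fun v => (⟨(v : ↥M), Subgroup.mem_subgroupOf.mp v.2⟩ : ↥(⁅Q, M⁆ : Subgroup S)))
                (fun a b h => Subtype.ext (Subtype.ext (Subtype.mk.inj h)))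
          _ = 4 := hQM
      faith := by
        rw [eq_bot_iff]
        rintro y ⟨hy1, hy2⟩
        obtain ⟨p, -, rfl⟩ := hy1
        rw [Subgroup.mem_bot]
        exact rho_faithful M (hM' ▸ hy2) }
  have h1 := hX c
  rw [← hV'] at h1
  obtain ⟨C', hC'⟩ : ∃ C' : Subgroup (Hol M),
      C' = P.map (rho M) ⊓ Subgroup.centralizer (V' : Set (Hol M)) := ⟨_, rfl⟩
  rw [← hC'] at h1
  have h2 : (C'.comap (rho M)).relIndex P = C'.relIndex (P.map (rho M)) :=
    Subgroup.relIndex_comap _ _ _
  have h3 : C'.comap (rho M) ⊓ P ≤ P ⊓ Subgroup.centralizer ((⁅Q, M⁆ : Subgroup S) : Set S) := by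
    rintro y ⟨hy1, hy2⟩
    refine ⟨hy2, ?_⟩
    show y ∈ Subgroup.centralizer ((⁅Q, M⁆ : Subgroup S) : Set S)
    rw [Subgroup.mem_centralizer_iff]
    intro v hv
    obtain ⟨v', hv'1, hv'2⟩ := hVge hv
    have hy1' : rho M y ∈ C' := hy1
    rw [hC'] at hy1'
    have h4 := (Subgroup.mem_centralizer_iff.mp hy1'.2) (iota M v') hv'1
    have h5 := rho_conj M y v'
    rw [← h4, mul_inv_cancel_right] at h5
    have h6 := congrArg Subtype.val (inl_injective h5)
    rw [coe_conjNormal] at h6
    rw [Subgroup.coe_subtype] at hv'2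
    rw [← hv'2]
    calc (v' : S) * y = (y * (v' : S) * y⁻¹) * y := by rw [← h6]
      _ = y * (v' : S) := by group
  have h4 : (P ⊓ Subgroup.centralizer ((⁅Q, M⁆ : Subgroup S) : Set S)).relIndex P ∣
      (C'.comap (rho M) ⊓ P).relIndex P := Subgroup.relIndex_dvd_of_le_left P h3
  rw [Subgroup.inf_relIndex_right, h2] at h4
  have h5 : C'.relIndex (P.map (rho M)) ≠ 0 := by
    rw [Subgroup.relIndex]
    exact Subgroup.index_ne_zero_of_finite
  exact (Nat.le_of_dvd (Nat.pos_of_ne_zero h5) h4).trans h1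

end Cfsg.Agent.Lib.Helper1.RK3TR
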