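import Mathlib

/-!
A family of groups `MM k` (affine groups `V^k ⋊ (2 × PSL₂(q))`, `V = M₂(K)` with the twisted
action `X ↦ ± g X (g^(3))ᵀ`) used for the unrecognisability of the cube of a Ree group.
Part 1: the action, the group, powers of affine maps.
-/

set_option autoImplicit false
set_option maxHeartbeats 4000000
set_option linter.unusedVariables false
set_option linter.unusedSectionVars false
set_option linter.style.longLine false
set_option linter.unusedSimpArgs false
set_option linter.deprecated false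

namespace Cfsg.Agent.Lib.Helper1.RU

universe u

variable {K : Type u} [Field K] [CharP K 3]

/-- entrywise cube, then transpose -/
def tw (A : Matrix (Fin 2) (Fin 2) K) : Matrix (Fin 2) (Fin 2) K :=
  Matrix.transpose (A.map (fun a => a ^ 3))

omit [CharP K 3] in
theorem tw_apply (A : Matrix (Fin 2) (Fin 2) K) (i j : Fin 2) : tw A i j = (A j i) ^ 3 := rfl

theorem three_eq_zero : (3 : K) = 0 := by
  have := CharP.cast_eq_zero K 3
  exact_mod_cast this

theorem cube_add (x y : K) : (x + y) ^ 3 = x ^ 3 + y ^ 3 := by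
  linear_combination (x ^ 2 * y + x * y ^ 2) * (three_eq_zero (K := K))

theorem tw_mul (A B : Matrix (Fin 2) (Fin 2) K) : tw (A * B) = tw B * tw A := by
  ext i j
  simp only [tw_apply, Matrix.mul_apply, Fin.sum_univ_two, cube_add, mul_pow]
  ring

omit [CharP K 3] in
theorem tw_one : tw (1 : Matrix (Fin 2) (Fin 2) K) = 1 := by
  ext i j
  fin_cases i <;> fin_cases j <;> simp [tw_apply]

omit [CharP K 3] in
theorem tw_neg (A : Matrix (Fin 2) (Fin 2) K) : tw (-A) = - tw A := by
  ext i j
  simp only [tw_apply, Matrix.neg_apply]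
  ring

theorem tw_pow (A : Matrix (Fin 2) (Fin 2) K) (n : ℕ) : tw (A ^ n) = tw A ^ n := by
  induction n with
  | zero => simp [tw_one]
  | succ n ih => rw [pow_succ, tw_mul, ih, pow_succ']

theorem tw_trace (A : Matrix (Fin 2) (Fin 2) K) : (tw A).trace = A.trace ^ 3 := by
  simp only [Matrix.trace_fin_two, tw_apply, cube_add]

theorem tw_det (A : Matrix (Fin 2) (Fin 2) K) : (tw A).det = A.det ^ 3 := by
  simp only [Matrix.det_fin_two, tw_apply]
  linear_combination ((A 0 0) ^ 2 * (A 1 1) ^ 2 * (A 0 1 * A 1 0) - (A 0 0) * (A 1 1) * (A 0 1 * A 1 0) ^ 2) * (three_eq_zero (K := K))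

variable (k : ℕ)

/-- `X ↦ A X B` on `k`-tuples of matrices -/
def act (A B : Matrix (Fin 2) (Fin 2) K) : AddMonoid.End (Fin k → Matrix (Fin 2) (Fin 2) K) :=
  AddMonoidHom.mk' (fun x i => A * x i * B) (by
    intro x y; ext i : 1; simp only [Pi.add_apply, mul_add, add_mul])

omit [CharP K 3] in
theorem act_apply (A B : Matrix (Fin 2) (Fin 2) K) (x : Fin k → Matrix (Fin 2) (Fin 2) K) (i : Fin k) :
    act k A B x i = A * x i * B := rfl

omit [CharP K 3] in
theorem act_mul (A B A' B' : Matrix (Fin 2) (Fin 2) K) :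
    act k A B * act k A' B' = act k (A * A') (B' * B) := by
  ext x i : 2
  simp only [AddMonoid.End.coe_mul, Function.comp_apply, act_apply, mul_assoc]

omit [CharP K 3] in
theorem act_one : act k (1 : Matrix (Fin 2) (Fin 2) K) 1 = 1 := by
  ext x i : 2
  simp only [act_apply, one_mul, mul_one, AddMonoid.End.coe_one, id_eq]

omit [CharP K 3] in
theorem act_pow (A B : Matrix (Fin 2) (Fin 2) K) (n : ℕ) :
    act k A B ^ n = act k (A ^ n) (B ^ n) := by
  induction n with
  | zero => simp only [pow_zero, act_one]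
  | succ n ih => rw [pow_succ, ih, act_mul, ← pow_succ, ← pow_succ']

/-- the linear part attached to a sign `s` and `g ∈ SL₂` -/
def lin (s : K) (g : Matrix.SpecialLinearGroup (Fin 2) K) :
    AddMonoid.End (Fin k → Matrix (Fin 2) (Fin 2) K) :=
  act k (s • g.1) (tw g.1)

theorem lin_mul (s s' : K) (g g' : Matrix.SpecialLinearGroup (Fin 2) K) :
    lin k s g * lin k s' g' = lin k (s * s') (g * g') := by
  unfold lin
  rw [act_mul, Matrix.SpecialLinearGroup.coe_mul, tw_mul]
  congr 1
  rw [smul_mul_smul_comm]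

omit [CharP K 3] in
theorem lin_one : lin k (1 : K) (1 : Matrix.SpecialLinearGroup (Fin 2) K) = 1 := by
  unfold lin
  rw [Matrix.SpecialLinearGroup.coe_one, one_smul, tw_one, act_one]

theorem lin_pow (s : K) (g : Matrix.SpecialLinearGroup (Fin 2) K) (n : ℕ) :
    lin k s g ^ n = lin k (s ^ n) (g ^ n) := by
  induction n with
  | zero => simp only [pow_zero, lin_one]
  | succ n ih => rw [pow_succ, ih, lin_mul, ← pow_succ, ← pow_succ]

omit [CharP K 3] in
/-- `lin` of a sign and `± 1` -/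
theorem lin_of_scalar (s : K) (g : Matrix.SpecialLinearGroup (Fin 2) K)
    (hg : g.1 = 1 ∨ g.1 = -1) (x : Fin k → Matrix (Fin 2) (Fin 2) K) :
    lin k s g x = s • x := by
  ext i : 1
  unfold lin
  rw [act_apply]
  rcases hg with h | h
  · rw [h, tw_one, mul_one, Matrix.smul_mul, one_mul, Pi.smul_apply]
  · rw [h, tw_neg, tw_one, Matrix.smul_mul, Pi.smul_apply]
    simp

/-- affine maps with linear part `γ` -/
def IsAff (f : Equiv.Perm (Fin k → Matrix (Fin 2) (Fin 2) K))
    (γ : AddMonoid.End (Fin k → Matrix (Fin 2) (Fin 2) K)) (v : Fin k → Matrix (Fin 2) (Fin 2) K) : Prop :=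
  ∀ x, f x = γ x + v

omit [CharP K 3] in
theorem IsAff.mul {f f' : Equiv.Perm (Fin k → Matrix (Fin 2) (Fin 2) K)}
    {γ γ' : AddMonoid.End (Fin k → Matrix (Fin 2) (Fin 2) K)} {v v' : Fin k → Matrix (Fin 2) (Fin 2) K}
    (h : IsAff k f γ v) (h' : IsAff k f' γ' v') : IsAff k (f * f') (γ * γ') (γ v' + v) := by
  intro x
  rw [Equiv.Perm.mul_apply, h' x, h, map_add, AddMonoid.End.coe_mul, Function.comp_apply, add_assoc]

omit [CharP K 3] in
theorem IsAff.one : IsAff k (1 : Equiv.Perm (Fin k → Matrix (Fin 2) (Fin 2) K)) 1 0 := by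
  intro x
  simp

omit [CharP K 3] in
theorem IsAff.pow {f : Equiv.Perm (Fin k → Matrix (Fin 2) (Fin 2) K)}
    {γ : AddMonoid.End (Fin k → Matrix (Fin 2) (Fin 2) K)} {v : Fin k → Matrix (Fin 2) (Fin 2) K}
    (h : IsAff k f γ v) (n : ℕ) :
    IsAff k (f ^ n) (γ ^ n) ((∑ i ∈ Finset.range n, γ ^ i) v) := by
  induction n with
  | zero =>
    intro x
    simp
  | succ n ih =>
    have := h.mul k ih
    rw [← pow_succ'] at this
    rw [← pow_succ'] at this
    intro x
    rw [this x]
    congr 1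
    have e : (∑ i ∈ Finset.range (n + 1), γ ^ i) = γ * (∑ i ∈ Finset.range n, γ ^ i) + 1 := by
      rw [Finset.sum_range_succ', pow_zero, Finset.mul_sum]
      congr 1
      apply Finset.sum_congr rfl
      intro i _
      rw [pow_succ']
    rw [e]
    rfl

omit [CharP K 3] in
theorem IsAff.eq_one {f : Equiv.Perm (Fin k → Matrix (Fin 2) (Fin 2) K)}
    (h : IsAff k f 1 0) : f = 1 := by
  ext x : 1
  rw [h x]
  simp

omit [CharP K 3] in
/-- if `γ ^ n = 1` and `γ` has no nonzero fixed points then `f ^ n = 1` -/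
theorem IsAff.pow_eq_one_of_fpf {f : Equiv.Perm (Fin k → Matrix (Fin 2) (Fin 2) K)}
    {γ : AddMonoid.End (Fin k → Matrix (Fin 2) (Fin 2) K)} {v : Fin k → Matrix (Fin 2) (Fin 2) K}
    (h : IsAff k f γ v) (n : ℕ) (hn : γ ^ n = 1) (hfix : ∀ x, γ x = x → x = 0) : f ^ n = 1 := by
  have h1 := h.pow k n
  rw [hn] at h1
  have h2 : (∑ i ∈ Finset.range n, γ ^ i) v = 0 := by
    apply hfix
    have h3 : γ * (∑ i ∈ Finset.range n, γ ^ i) = (∑ i ∈ Finset.range n, γ ^ i) := by
      have := mul_geom_sum γ n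
      rw [hn, sub_self] at this
      have h4 : (γ - 1) * (∑ i ∈ Finset.range n, γ ^ i) = γ * (∑ i ∈ Finset.range n, γ ^ i) - (∑ i ∈ Finset.range n, γ ^ i) := by
        rw [sub_mul, one_mul]
      rw [h4] at this
      exact sub_eq_zero.1 this
    calc γ ((∑ i ∈ Finset.range n, γ ^ i) v) = (γ * (∑ i ∈ Finset.range n, γ ^ i)) v := rfl
      _ = _ := by rw [h3]
  rw [h2] at h1
  exact h1.eq_one k

end Cfsg.Agent.Lib.Helper1.RU
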