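import Mathlib
import Cfsg.Agent.Lib.Helper1.RU1

/-!
Part 2: the group `MM k`, fixed points, faithfulness, orders.
-/

set_option autoImplicit false
set_option maxHeartbeats 4000000
set_option linter.unusedVariables false
set_option linter.unusedSectionVars false
set_option linter.style.longLine false
set_option linter.unusedSimpArgs false
set_option linter.deprecated false

namespace Cfsg.Agent.Lib.Helper1.RU

universe u

variable {K : Type u} [Field K] [CharP K 3]

omit [CharP K 3] in
theorem cayley2 (A : Matrix (Fin 2) (Fin 2) K) (hdet : A.det = 1) :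
    A * A = A.trace • A - 1 := by
  rw [Matrix.det_fin_two] at hdet
  ext i j
  fin_cases i <;> fin_cases j <;>
    simp [Matrix.mul_apply, Fin.sum_univ_two, Matrix.trace_fin_two] <;>
    first | linear_combination hdet | linear_combination (-1 : K) * hdet | ring

omit [CharP K 3] in
theorem sign_mul {s s' : K} (hs : s = 1 ∨ s = -1) (hs' : s' = 1 ∨ s' = -1) :
    s * s' = 1 ∨ s * s' = -1 := by
  rcases hs with rfl | rfl <;> rcases hs' with rfl | rfl <;> simp

omit [CharP K 3] in
theorem sign_sq {s : K} (hs : s = 1 ∨ s = -1) : s * s = 1 := by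
  rcases hs with rfl | rfl <;> simp

omit [CharP K 3] in
theorem sign_pow {s : K} (hs : s = 1 ∨ s = -1) (n : ℕ) : s ^ n = 1 ∨ s ^ n = -1 := by
  rcases hs with rfl | rfl
  · left; simp
  · rcases Nat.even_or_odd n with h | h
    · left; exact h.neg_one_pow
    · right; exact h.neg_one_pow

theorem two_ne_zero' : (2 : K) ≠ 0 := by
  intro h
  have h3 := three_eq_zero (K := K)
  have : (1 : K) = 0 := by linear_combination h3 - h
  exact one_ne_zero this

theorem neg_one_ne_one : (-1 : K) ≠ 1 := by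
  intro h
  apply two_ne_zero' (K := K)
  linear_combination -h

variable (k : ℕ)

/-- the group of affine maps -/
def MM : Subgroup (Equiv.Perm (Fin k → Matrix (Fin 2) (Fin 2) K)) where
  carrier := {f | ∃ (s : K) (g : Matrix.SpecialLinearGroup (Fin 2) K)
    (v : Fin k → Matrix (Fin 2) (Fin 2) K), (s = 1 ∨ s = -1) ∧ IsAff k f (lin k s g) v}
  mul_mem' := by
    rintro f f' ⟨s, g, v, hs, h⟩ ⟨s', g', v', hs', h'⟩
    refine ⟨s * s', g * g', lin k s g v' + v, sign_mul hs hs', ?_⟩
    have := h.mul k h'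
    rwa [lin_mul] at this
  one_mem' := ⟨1, 1, 0, Or.inl rfl, by rw [lin_one]; exact IsAff.one k⟩
  inv_mem' := by
    rintro f ⟨s, g, v, hs, h⟩
    refine ⟨s, g⁻¹, - lin k s g⁻¹ v, hs, ?_⟩
    intro y
    rw [Equiv.Perm.inv_eq_iff_eq, h]
    have e : lin k s g * lin k s g⁻¹ = 1 := by
      rw [lin_mul, mul_inv_cancel, sign_sq hs, lin_one]
    have e1 : ∀ z, lin k s g (lin k s g⁻¹ z) = z := by
      intro z
      calc lin k s g (lin k s g⁻¹ z) = (lin k s g * lin k s g⁻¹) z := rfl
        _ = z := by rw [e]; rfl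
    rw [map_add, map_neg, e1, e1]
    abel

theorem mem_MM_iff (f : Equiv.Perm (Fin k → Matrix (Fin 2) (Fin 2) K)) :
    f ∈ MM (K := K) k ↔ ∃ (s : K) (g : Matrix.SpecialLinearGroup (Fin 2) K)
    (v : Fin k → Matrix (Fin 2) (Fin 2) K), (s = 1 ∨ s = -1) ∧ IsAff k f (lin k s g) v := Iff.rfl

/-- the fixed point computation -/
theorem fix_zero (A : Matrix (Fin 2) (Fin 2) K) (hdet : A.det = 1) (s : K) (hs : s = 1 ∨ s = -1)
    (hτ : A.trace ≠ 0) (h1 : A.trace ^ 2 ≠ 1) (hns : ∀ a : K, a ^ 2 ≠ -1)
    (X : Matrix (Fin 2) (Fin 2) K) (h : (s • A) * X * tw A = X) : X = 0 := by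
  have hA := cayley2 A hdet
  have hB := cayley2 (tw A) (by rw [tw_det, hdet, one_pow])
  rw [tw_trace] at hB
  set B := tw A with hBdef
  set τ := A.trace with hτdef
  have hA' : (τ • (1 : Matrix (Fin 2) (Fin 2) K) - A) * A = 1 := by
    rw [sub_mul, hA, Matrix.smul_mul, one_mul]; abel
  have hB' : B * (τ ^ 3 • (1 : Matrix (Fin 2) (Fin 2) K) - B) = 1 := by
    rw [mul_sub, hB, Matrix.mul_smul, mul_one]; abel
  have hss := sign_sq hs
  have h' : s • (A * X * B) = X := by
    rw [Matrix.smul_mul, Matrix.smul_mul] at h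
    exact h
  -- (i)
  have hi : (τ • (1 : Matrix (Fin 2) (Fin 2) K) - A) * X = s • (X * B) := by
    calc (τ • (1 : Matrix (Fin 2) (Fin 2) K) - A) * X
        = (τ • (1 : Matrix (Fin 2) (Fin 2) K) - A) * (s • (A * X * B)) := by rw [h']
      _ = s • (((τ • (1 : Matrix (Fin 2) (Fin 2) K) - A) * A) * X * B) := by
          rw [Matrix.mul_smul]; simp only [mul_assoc]
      _ = s • (X * B) := by rw [hA', one_mul]
  have hii : X * (τ ^ 3 • (1 : Matrix (Fin 2) (Fin 2) K) - B) = s • (A * X) := by
    calc X * (τ ^ 3 • (1 : Matrix (Fin 2) (Fin 2) K) - B)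
        = (s • (A * X * B)) * (τ ^ 3 • (1 : Matrix (Fin 2) (Fin 2) K) - B) := by rw [h']
      _ = s • (A * X * (B * (τ ^ 3 • (1 : Matrix (Fin 2) (Fin 2) K) - B))) := by
          rw [Matrix.smul_mul]; simp only [mul_assoc]
      _ = s • (A * X) := by rw [hB', mul_one]
  have e1 : τ • X = A * X + s • (X * B) := by
    rw [← hi, sub_mul, Matrix.smul_mul, one_mul]; abel
  have e2 : τ ^ 3 • X = X * B + s • (A * X) := by
    rw [← hii, mul_sub, Matrix.mul_smul, mul_one]; abel
  have e3 : (τ - s * τ ^ 3) • X = 0 := by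
    rw [sub_smul, mul_smul, e1, e2, smul_add, smul_smul, hss, one_smul]
    abel
  rcases smul_eq_zero.1 e3 with h0 | h0
  · exfalso
    rcases hs with rfl | rfl
    · have : τ * (1 - τ ^ 2) = 0 := by linear_combination h0
      rcases mul_eq_zero.1 this with h2 | h2
      · exact hτ h2
      · exact h1 (by linear_combination -h2)
    · have : τ * (1 + τ ^ 2) = 0 := by linear_combination h0
      rcases mul_eq_zero.1 this with h2 | h2
      · exact hτ h2
      · exact hns τ (by linear_combination h2)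
  · exact h0

theorem lin_fix_zero (s : K) (hs : s = 1 ∨ s = -1) (g : Matrix.SpecialLinearGroup (Fin 2) K)
    (hτ : g.1.trace ≠ 0) (h1 : g.1.trace ^ 2 ≠ 1) (hns : ∀ a : K, a ^ 2 ≠ -1)
    (x : Fin k → Matrix (Fin 2) (Fin 2) K) (h : lin k s g x = x) : x = 0 := by
  ext i : 1
  have hi := congrFun h i
  unfold lin at hi
  rw [act_apply] at hi
  exact fix_zero g.1 g.2 s hs hτ h1 hns (x i) hi

omit [CharP K 3] in
/-- scalar powers: if `(g ^ a).1 = ± 1` -/
theorem pow_scalar_of_trace (g : Matrix.SpecialLinearGroup (Fin 2) K) :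
    (g.1.trace = 0 → (g ^ 2).1 = -1) := by
  intro h
  have hA := cayley2 g.1 g.2
  rw [h, zero_smul, zero_sub] at hA
  rw [pow_two, Matrix.SpecialLinearGroup.coe_mul, hA]

theorem pow_three_of_trace (g : Matrix.SpecialLinearGroup (Fin 2) K) (h : g.1.trace ^ 2 = 1) :
    (g ^ 3).1 = 1 ∨ (g ^ 3).1 = -1 := by
  have hA := cayley2 g.1 g.2
  have h3 := three_eq_zero (K := K)
  have e : (g ^ 3).1 = g.1 * g.1 * g.1 := by
    rw [pow_succ, pow_two, Matrix.SpecialLinearGroup.coe_mul, Matrix.SpecialLinearGroup.coe_mul]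
  have h' : (g.1.trace - 1) * (g.1.trace + 1) = 0 := by linear_combination h
  rcases mul_eq_zero.1 h' with h2 | h2
  · right
    have ht : g.1.trace = 1 := by linear_combination h2
    rw [ht, one_smul] at hA
    rw [e, hA, sub_mul, one_mul, hA]
    abel
  · left
    have ht : g.1.trace = -1 := by linear_combination h2
    rw [ht, neg_one_smul] at hA
    rw [e, hA, sub_mul, one_mul, neg_mul, hA]
    abel

omit [CharP K 3] in
/-- translation-type maps: third power -/
theorem pow_three_eq_one_of_transl (h3 : (3 : K) = 0) (f : Equiv.Perm (Fin k → Matrix (Fin 2) (Fin 2) K))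
    (w : Fin k → Matrix (Fin 2) (Fin 2) K) (h : ∀ x, f x = x + w) : f ^ 3 = 1 := by
  ext x : 1
  rw [pow_succ, pow_two, Equiv.Perm.mul_apply, Equiv.Perm.mul_apply, h, h, h, Equiv.Perm.one_apply]
  have : w + w + w = 0 := by
    have : w + w + w = (3 : K) • w := by
      rw [show (3 : K) = 1 + 1 + 1 by norm_num, add_smul, add_smul, one_smul]
    rw [this, h3, zero_smul]
  rw [add_assoc, add_assoc, ← add_assoc w, this, add_zero]

omit [CharP K 3] in
theorem pow_two_eq_one_of_neg (f : Equiv.Perm (Fin k → Matrix (Fin 2) (Fin 2) K))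
    (w : Fin k → Matrix (Fin 2) (Fin 2) K) (h : ∀ x, f x = -x + w) : f ^ 2 = 1 := by
  ext x : 1
  rw [pow_two, Equiv.Perm.mul_apply, h, h, Equiv.Perm.one_apply]
  abel

/-- the order analysis -/
theorem order_cases (hns : ∀ a : K, a ^ 2 ≠ -1) (f : Equiv.Perm (Fin k → Matrix (Fin 2) (Fin 2) K))
    (s : K) (g : Matrix.SpecialLinearGroup (Fin 2) K) (v : Fin k → Matrix (Fin 2) (Fin 2) K)
    (hs : s = 1 ∨ s = -1) (h : IsAff k f (lin k s g) v) :
    f ^ 9 = 1 ∨ f ^ 6 = 1 ∨ ∀ n, lin k s g ^ n = 1 → f ^ n = 1 := by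
  have h3 := three_eq_zero (K := K)
  by_cases ht0 : g.1.trace = 0
  · -- `g ^ 2 = -1`
    right; left
    have hg2 := pow_scalar_of_trace g ht0
    have h2 := h.pow k 2
    rw [lin_pow] at h2
    have h2' : ∀ x, (f ^ 2) x = x + (∑ i ∈ Finset.range 2, lin k s g ^ i) v := by
      intro x
      rw [h2 x, lin_of_scalar k _ _ (Or.inr hg2), pow_two, sign_sq hs, one_smul]
    have := pow_three_eq_one_of_transl k h3 _ _ h2'
    rw [← pow_mul] at this
    exact this
  · by_cases ht1 : g.1.trace ^ 2 = 1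
    · have hg3 := pow_three_of_trace g ht1
      have h2 := h.pow k 3
      rw [lin_pow] at h2
      rcases hs with rfl | rfl
      · left
        have h2' : ∀ x, (f ^ 3) x = x + (∑ i ∈ Finset.range 3, lin k 1 g ^ i) v := by
          intro x
          rw [h2 x, lin_of_scalar k _ _ hg3, one_pow, one_smul]
        have := pow_three_eq_one_of_transl k h3 _ _ h2'
        rw [← pow_mul] at this
        exact this
      · right; left
        have h2' : ∀ x, (f ^ 3) x = -x + (∑ i ∈ Finset.range 3, lin k (-1) g ^ i) v := by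
          intro x
          rw [h2 x, lin_of_scalar k _ _ hg3]
          congr 1
          rw [show ((-1 : K)) ^ 3 = -1 by ring, neg_one_smul]
        have := pow_two_eq_one_of_neg k _ _ h2'
        rw [← pow_mul] at this
        exact this
    · right; right
      intro n hn
      exact h.pow_eq_one_of_fpf k n hn (lin_fix_zero k s hs g ht0 ht1 hns)

/-- faithfulness -/
theorem lin_eq_one_iff (hk : 0 < k) (s : K) (hs : s = 1 ∨ s = -1)
    (g : Matrix.SpecialLinearGroup (Fin 2) K) :
    lin k s g = 1 ↔ s = 1 ∧ (g.1 = 1 ∨ g.1 = -1) := by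
  constructor
  · intro h
    have key : ∀ X : Matrix (Fin 2) (Fin 2) K, (s • g.1) * X * tw g.1 = X := by
      intro X
      have := congrFun (congrArg (fun φ => φ (fun _ => X)) h) ⟨0, hk⟩
      simpa [lin, act_apply] using this
    have hB := cayley2 (tw g.1) (by rw [tw_det, g.2, one_pow])
    set B := tw g.1 with hBdef
    set A := g.1 with hAdef
    have hB' : B * (B.trace • (1 : Matrix (Fin 2) (Fin 2) K) - B) = 1 := by
      rw [mul_sub, hB, Matrix.mul_smul, mul_one]; abel
    have hss := sign_sq hs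
    have key2 : ∀ X : Matrix (Fin 2) (Fin 2) K, A * X = s • (X * (B.trace • (1 : Matrix (Fin 2) (Fin 2) K) - B)) := by
      intro X
      have h1 := key X
      have h2 : s • (A * X) = X * (B.trace • (1 : Matrix (Fin 2) (Fin 2) K) - B) := by
        calc s • (A * X) = s • (A * X * (B * (B.trace • (1 : Matrix (Fin 2) (Fin 2) K) - B))) := by
              rw [hB', mul_one]
          _ = ((s • A) * X * B) * (B.trace • (1 : Matrix (Fin 2) (Fin 2) K) - B) := by
              rw [Matrix.smul_mul, Matrix.smul_mul, Matrix.smul_mul, mul_assoc (A * X)]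
          _ = _ := by rw [h1]
      rw [← h2, smul_smul, hss, one_smul]
    have hA1 : A = s • (B.trace • (1 : Matrix (Fin 2) (Fin 2) K) - B) := by
      have := key2 1
      rwa [mul_one, one_mul] at this
    have hcomm : ∀ X : Matrix (Fin 2) (Fin 2) K, A * X = X * A := by
      intro X
      rw [key2 X, hA1, Matrix.mul_smul]
    have hdet : A 0 0 * A 1 1 - A 0 1 * A 1 0 = 1 := by
      have := g.2
      rwa [Matrix.det_fin_two] at this
    have c1 := hcomm !![0, 1; 0, 0]
    have c2 := hcomm !![0, 0; 1, 0]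
    have e10 : A 1 0 = 0 := by
      have := congrFun (congrFun c1 1) 1
      simp [Matrix.mul_apply, Fin.sum_univ_two] at this
      exact this
    have e01 : A 0 1 = 0 := by
      have := congrFun (congrFun c2 0) 0
      simp [Matrix.mul_apply, Fin.sum_univ_two] at this
      exact this
    have e00 : A 0 0 = A 1 1 := by
      have := congrFun (congrFun c1 0) 1
      simp [Matrix.mul_apply, Fin.sum_univ_two] at this
      exact this
    have hsq : (A 1 1 - 1) * (A 1 1 + 1) = 0 := by
      rw [e10, e00] at hdet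
      linear_combination hdet
    have hA : A = 1 ∨ A = -1 := by
      rcases mul_eq_zero.1 hsq with h2 | h2
      · left
        have h11 : A 1 1 = 1 := by linear_combination h2
        ext i j
        fin_cases i <;> fin_cases j <;> simp [e10, e01, e00, h11]
      · right
        have h11 : A 1 1 = -1 := by linear_combination h2
        ext i j
        fin_cases i <;> fin_cases j <;> simp [e10, e01, e00, h11]
    refine ⟨?_, hA⟩
    have h5 := lin_of_scalar k s g hA (fun _ => (1 : Matrix (Fin 2) (Fin 2) K))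
    rw [h] at h5
    have h6 := congrFun (congrFun (congrFun h5 ⟨0, hk⟩) 0) 0
    simp at h6
    exact h6.symm
  · rintro ⟨rfl, hg⟩
    ext x : 1
    rw [lin_of_scalar k _ _ hg, one_smul]
    rfl

theorem lin_pow_eq_one_iff (hk : 0 < k) (s : K) (hs : s = 1 ∨ s = -1)
    (g : Matrix.SpecialLinearGroup (Fin 2) K) (n : ℕ) :
    lin k s g ^ n = 1 ↔ s ^ n = 1 ∧ ((g ^ n).1 = 1 ∨ (g ^ n).1 = -1) := by
  rw [lin_pow, lin_eq_one_iff k hk _ (sign_pow hs n)]

/-- the linear elements as permutations -/
def linPerm (s : K) (hs : s = 1 ∨ s = -1) (g : Matrix.SpecialLinearGroup (Fin 2) K) :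
    Equiv.Perm (Fin k → Matrix (Fin 2) (Fin 2) K) where
  toFun := lin k s g
  invFun := lin k s g⁻¹
  left_inv := by
    intro x
    have e : lin k s g⁻¹ * lin k s g = 1 := by
      rw [lin_mul, inv_mul_cancel, sign_sq hs, lin_one]
    calc lin k s g⁻¹ (lin k s g x) = (lin k s g⁻¹ * lin k s g) x := rfl
      _ = x := by rw [e]; rfl
  right_inv := by
    intro x
    have e : lin k s g * lin k s g⁻¹ = 1 := by
      rw [lin_mul, mul_inv_cancel, sign_sq hs, lin_one]
    calc lin k s g (lin k s g⁻¹ x) = (lin k s g * lin k s g⁻¹) x := rfl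
      _ = x := by rw [e]; rfl

theorem linPerm_isAff (s : K) (hs : s = 1 ∨ s = -1) (g : Matrix.SpecialLinearGroup (Fin 2) K) :
    IsAff k (linPerm k s hs g) (lin k s g) 0 := by
  intro x
  rw [add_zero]
  rfl

theorem linPerm_mem (s : K) (hs : s = 1 ∨ s = -1) (g : Matrix.SpecialLinearGroup (Fin 2) K) :
    linPerm k s hs g ∈ MM (K := K) k :=
  ⟨s, g, 0, hs, linPerm_isAff k s hs g⟩

theorem linPerm_pow_eq_one_iff (s : K) (hs : s = 1 ∨ s = -1)
    (g : Matrix.SpecialLinearGroup (Fin 2) K) (n : ℕ) :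
    linPerm k s hs g ^ n = 1 ↔ lin k s g ^ n = 1 := by
  have h := (linPerm_isAff k s hs g).pow k n
  have h0 : (∑ i ∈ Finset.range n, lin k s g ^ i) (0 : Fin k → Matrix (Fin 2) (Fin 2) K) = 0 := map_zero _
  rw [h0] at h
  constructor
  · intro h1
    ext x : 1
    have := h x
    rw [h1, add_zero] at this
    exact this.symm
  · intro h1
    rw [h1] at h
    exact h.eq_one k

end Cfsg.Agent.Lib.Helper1.RU
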