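import Mathlib
import Cfsg.Agent.Lib.Helper1.RU2

/-!
Part 3: elements of order 9, cardinality, link with `Z₂ × PSL₂(K)`.
-/

set_option autoImplicit false
set_option maxHeartbeats 4000000
set_option linter.unusedVariables false
set_option linter.unusedSectionVars false
set_option linter.style.longLine false
set_option linter.unusedSimpArgs false
set_option linter.deprecated false

namespace Cfsg.Agent.Lib.Helper1.RU

universe u

/-- divisors of element orders are element orders -/
theorem exists_orderOf_eq_of_dvd {G : Type*} [Group G] (x : G) (d : ℕ) (hx : 0 < orderOf x)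
    (hd : d ∣ orderOf x) : ∃ y : G, y ∈ Subgroup.zpowers x ∧ orderOf y = d := by
  obtain ⟨c, hc⟩ := hd
  have hc0 : c ≠ 0 := by
    rintro rfl
    rw [mul_zero] at hc
    omega
  have hd0 : 0 < d := by
    rcases Nat.eq_zero_or_pos d with h | h
    · rw [h, zero_mul] at hc; omega
    · exact h
  refine ⟨x ^ c, Subgroup.npow_mem_zpowers x c, ?_⟩
  rw [orderOf_pow_of_dvd hc0 ⟨d, by rw [hc, mul_comm]⟩, hc]
  exact Nat.mul_div_cancel d (Nat.pos_of_ne_zero hc0)

variable {K : Type u} [Field K] [CharP K 3]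

variable (k : ℕ)

/-- translations -/
theorem transl_mem (v : Fin k → Matrix (Fin 2) (Fin 2) K) :
    (Equiv.addRight v : Equiv.Perm (Fin k → Matrix (Fin 2) (Fin 2) K)) ∈ MM (K := K) k := by
  refine ⟨1, 1, v, Or.inl rfl, ?_⟩
  intro x
  rw [lin_one]
  rfl

theorem card_MM_gt [Finite K] : k < Nat.card (MM (K := K) k) := by
  have hinj : Function.Injective (fun v : Fin k → Matrix (Fin 2) (Fin 2) K =>
      (⟨Equiv.addRight v, transl_mem k v⟩ : MM (K := K) k)) := by
    intro v v' h
    have h1 : (Equiv.addRight v : Equiv.Perm (Fin k → Matrix (Fin 2) (Fin 2) K)) = Equiv.addRight v' :=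
      congrArg Subtype.val h
    have h2 := congrArg (fun f : Equiv.Perm (Fin k → Matrix (Fin 2) (Fin 2) K) => f 0) h1
    simpa using h2
  have h1 := Nat.card_le_card_of_injective _ hinj
  have h2 : Nat.card (Fin k → Matrix (Fin 2) (Fin 2) K) = Nat.card (Matrix (Fin 2) (Fin 2) K) ^ k := by
    rw [Nat.card_fun, Nat.card_eq_fintype_card (α := Fin k), Fintype.card_fin]
  have h3 : 2 ≤ Nat.card (Matrix (Fin 2) (Fin 2) K) := Finite.one_lt_card
  have h4 : 2 ^ k ≤ Nat.card (Matrix (Fin 2) (Fin 2) K) ^ k := Nat.pow_le_pow_left h3 k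
  have h5 : k < 2 ^ k := Nat.lt_two_pow_self
  omega

/-- the unipotent element -/
def uu : Matrix.SpecialLinearGroup (Fin 2) K := ⟨!![1, 1; 0, 1], by simp [Matrix.det_fin_two]⟩

theorem exists_order_nine (hk : 0 < k) : ∃ f ∈ MM (K := K) k, orderOf f = 9 := by
  have h3 := three_eq_zero (K := K)
  set v : Fin k → Matrix (Fin 2) (Fin 2) K := fun _ => !![0, 0; 0, 1] with hv
  set f : Equiv.Perm (Fin k → Matrix (Fin 2) (Fin 2) K) :=
    Equiv.addRight v * linPerm k 1 (Or.inl rfl) uu with hf
  have hfm : f ∈ MM (K := K) k := (MM k).mul_mem (transl_mem k v) (linPerm_mem k 1 _ uu)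
  have haff : IsAff k f (lin k 1 uu) v := by
    intro x
    rfl
  refine ⟨f, hfm, ?_⟩
  have hg3 : ((uu : Matrix.SpecialLinearGroup (Fin 2) K) ^ 3).1 = 1 := by
    rw [pow_succ, pow_two, Matrix.SpecialLinearGroup.coe_mul, Matrix.SpecialLinearGroup.coe_mul]
    ext i j
    fin_cases i <;> fin_cases j <;> simp [uu, Matrix.mul_apply, Fin.sum_univ_two]
    linear_combination h3
  have h2 := haff.pow k 3
  rw [lin_pow] at h2
  have h2' : ∀ x, (f ^ 3) x = x + (∑ i ∈ Finset.range 3, lin k (1 : K) uu ^ i) v := by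
    intro x
    rw [h2 x, lin_of_scalar k _ _ (Or.inl hg3), one_pow, one_smul]
  have h9 : f ^ 9 = 1 := by
    have := pow_three_eq_one_of_transl k h3 _ _ h2'
    rw [← pow_mul] at this
    exact this
  have hne : ¬ f ^ 3 = 1 := by
    intro h
    have h4 := h2' 0
    rw [h, zero_add, Equiv.Perm.one_apply] at h4
    have e : (∑ i ∈ Finset.range 3, lin k (1 : K) uu ^ i) v
        = v + lin k (1 : K) uu v + lin k (1 : K) uu (lin k (1 : K) uu v) := by
      simp only [Finset.sum_range_succ, Finset.sum_range_zero, zero_add, pow_zero, pow_one, pow_two,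
        AddMonoidHom.add_apply, AddMonoid.End.coe_one, id_eq, AddMonoid.End.coe_mul, Function.comp_apply]
      rfl
    rw [e] at h4
    have etw : tw (!![1, 1; 0, 1] : Matrix (Fin 2) (Fin 2) K) = !![1, 0; 1, 1] := by
      ext i j
      fin_cases i <;> fin_cases j <;> simp [tw_apply]
    have e1 : lin k (1 : K) uu v = fun _ => !![1, 1; 1, 1] := by
      ext i a b
      simp only [lin, act_apply, uu, hv, etw, one_smul]
      fin_cases a <;> fin_cases b <;> simp [Matrix.mul_apply, Fin.sum_univ_two]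
    have e2 : lin k (1 : K) uu (fun _ => !![1, 1; 1, 1]) = fun _ => !![4, 2; 2, 1] := by
      ext i a b
      simp only [lin, act_apply, uu, etw, one_smul]
      fin_cases a <;> fin_cases b <;> simp [Matrix.mul_apply, Fin.sum_univ_two] <;> norm_num
    rw [e1, e2] at h4
    have h5 := congrFun (congrFun (congrFun h4 ⟨0, hk⟩) 0) 0
    simp [hv] at h5
    apply two_ne_zero' (K := K)
    first | linear_combination -h5 - h3 | linear_combination h5 - h3
  haveI : Fact (Nat.Prime 3) := ⟨Nat.prime_three⟩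
  have := orderOf_eq_prime_pow (p := 3) (n := 1) (x := f) (by simpa using hne) (by simpa using h9)
  simpa using this

/-- the sign attached to an element of `Z₂` -/
noncomputable def sg (a : Multiplicative (ZMod 2)) : K := if a = 1 then 1 else -1

omit [CharP K 3] in
theorem sg_sign (a : Multiplicative (ZMod 2)) : sg (K := K) a = 1 ∨ sg (K := K) a = -1 := by
  unfold sg
  split_ifs
  · left; rfl
  · right; rfl

theorem z2_cases (a : Multiplicative (ZMod 2)) : a = 1 ∨ a = Multiplicative.ofAdd 1 := by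
  have : ∀ b : ZMod 2, b = 0 ∨ b = 1 := by decide
  rcases this (Multiplicative.toAdd a) with h | h
  · left
    exact Multiplicative.toAdd.injective h
  · right
    exact Multiplicative.toAdd.injective h

theorem z2_pow_eq_one_iff (n : ℕ) :
    (Multiplicative.ofAdd (1 : ZMod 2)) ^ n = 1 ↔ Even n := by
  rw [← ofAdd_nsmul, ← ofAdd_zero, Multiplicative.ofAdd.injective.eq_iff, nsmul_eq_mul, mul_one,
    ZMod.natCast_eq_zero_iff, even_iff_two_dvd]

theorem sg_pow_eq_one_iff (a : Multiplicative (ZMod 2)) (n : ℕ) :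
    a ^ n = 1 ↔ sg (K := K) a ^ n = 1 := by
  rcases z2_cases a with rfl | rfl
  · simp [sg]
  · have hne : (Multiplicative.ofAdd (1 : ZMod 2)) ≠ 1 := by decide
    rw [z2_pow_eq_one_iff]
    unfold sg
    rw [if_neg hne]
    exact (neg_one_pow_eq_one_iff_even (neg_one_ne_one (K := K))).symm

omit [CharP K 3] in
theorem diag_neg_one : (Matrix.diagonal fun _ : Fin 2 => (-1 : K)) = -1 := by
  ext i j
  fin_cases i <;> fin_cases j <;> simp

omit [CharP K 3] in
theorem mk_pow_eq_one_iff (g : Matrix.SpecialLinearGroup (Fin 2) K) (n : ℕ) :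
    (QuotientGroup.mk g : Matrix.ProjectiveSpecialLinearGroup (Fin 2) K) ^ n = 1 ↔
      ((g ^ n).1 = 1 ∨ (g ^ n).1 = -1) := by
  rw [← QuotientGroup.mk_pow, QuotientGroup.eq_one_iff, Matrix.SpecialLinearGroup.mem_center_iff]
  constructor
  · rintro ⟨r, hr, h⟩
    rw [Fintype.card_fin] at hr
    have : (r - 1) * (r + 1) = 0 := by linear_combination hr
    rcases mul_eq_zero.1 this with h1 | h1
    · left
      have : r = 1 := by linear_combination h1
      rw [← h, this]; simp
    · right
      have : r = -1 := by linear_combination h1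
      rw [← h, this]; simp [diag_neg_one]
  · rintro (h | h)
    · exact ⟨1, by simp, by rw [h]; simp⟩
    · exact ⟨-1, by simp, by rw [h]; simp [diag_neg_one]⟩

theorem pow_eq_one_iff_lin (hk : 0 < k) (a : Multiplicative (ZMod 2))
    (g : Matrix.SpecialLinearGroup (Fin 2) K) (n : ℕ) :
    ((a, (QuotientGroup.mk g : Matrix.ProjectiveSpecialLinearGroup (Fin 2) K)) :
      Multiplicative (ZMod 2) × Matrix.ProjectiveSpecialLinearGroup (Fin 2) K) ^ n = 1 ↔
      lin k (sg a) g ^ n = 1 := by
  rw [lin_pow_eq_one_iff k hk _ (sg_sign a), ← sg_pow_eq_one_iff, ← mk_pow_eq_one_iff, Prod.ext_iff]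
  rfl

/-- orders of elements of `MM k` -/
theorem orderOf_mem_MM (hk : 0 < k) (hns : ∀ a : K, a ^ 2 ≠ -1)
    (f : Equiv.Perm (Fin k → Matrix (Fin 2) (Fin 2) K)) (hf : f ∈ MM (K := K) k) :
    orderOf f ∣ 9 ∨ orderOf f ∣ 6 ∨
      ∃ y : Multiplicative (ZMod 2) × Matrix.ProjectiveSpecialLinearGroup (Fin 2) K,
        orderOf f ∣ orderOf y := by
  obtain ⟨s, g, v, hs, h⟩ := hf
  rcases order_cases k hns f s g v hs h with h9 | h6 | hn
  · left; exact orderOf_dvd_of_pow_eq_one h9
  · right; left; exact orderOf_dvd_of_pow_eq_one h6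
  · right; right
    obtain ⟨a, ha⟩ : ∃ a : Multiplicative (ZMod 2), sg (K := K) a = s := by
      rcases hs with rfl | rfl
      · exact ⟨1, by simp [sg]⟩
      · refine ⟨Multiplicative.ofAdd 1, ?_⟩
        have hne : (Multiplicative.ofAdd (1 : ZMod 2)) ≠ 1 := by decide
        unfold sg
        rw [if_neg hne]
    refine ⟨(a, QuotientGroup.mk g), ?_⟩
    apply orderOf_dvd_of_pow_eq_one
    apply hn
    rw [← ha, ← pow_eq_one_iff_lin k hk]
    exact pow_orderOf_eq_one _

/-- elements of `Z₂ × PSL₂` give elements of `MM k` of the same order -/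
theorem exists_orderOf_eq (hk : 0 < k)
    (y : Multiplicative (ZMod 2) × Matrix.ProjectiveSpecialLinearGroup (Fin 2) K) :
    ∃ f ∈ MM (K := K) k, orderOf f = orderOf y := by
  obtain ⟨a, gb⟩ := y
  obtain ⟨g, rfl⟩ := QuotientGroup.mk_surjective gb
  refine ⟨linPerm k (sg a) (sg_sign a) g, linPerm_mem k _ _ g, ?_⟩
  rw [orderOf_eq_orderOf_iff]
  intro n
  rw [linPerm_pow_eq_one_iff, pow_eq_one_iff_lin k hk]

end Cfsg.Agent.Lib.Helper1.RU
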