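import Mathlib

/-!
Ward's analysis of the Ree groups `²G₂(q)`, part 1: general counting lemmas.
-/

set_option autoImplicit false
set_option maxHeartbeats 4000000
set_option linter.unusedVariables false
set_option linter.unusedSectionVars false
set_option linter.style.longLine false
set_option linter.unusedSimpArgs false

namespace Cfsg.Agent.Lib.Helper1.RW

universe u

section general

variable {G : Type u} [Group G]

theorem mem_cent_iff (x g : G) : g ∈ Subgroup.centralizer ({x} : Set G) ↔ x * g = g * x := by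
  rw [Subgroup.mem_centralizer_iff]
  constructor
  · intro h; exact h x rfl
  · intro h y hy
    rw [Set.mem_singleton_iff] at hy
    rw [hy]; exact h

theorem self_mem_cent (x : G) : x ∈ Subgroup.centralizer ({x} : Set G) :=
  (mem_cent_iff x x).mpr rfl

theorem pow_mem_cent (x : G) (k : ℕ) : x ^ k ∈ Subgroup.centralizer ({x} : Set G) :=
  pow_mem (self_mem_cent x) k

theorem cent_conj (g x : G) :
    Subgroup.centralizer ({g * x * g⁻¹} : Set G) =
      (Subgroup.centralizer ({x} : Set G)).map (MulAut.conj g).toMonoidHom := by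
  ext y
  rw [mem_cent_iff, Subgroup.mem_map]
  constructor
  · intro h
    refine ⟨g⁻¹ * y * g, ?_, ?_⟩
    · rw [mem_cent_iff]
      have e1 : x * (g⁻¹ * y * g) = g⁻¹ * (g * x * g⁻¹ * y) * g := by group
      have e2 : g⁻¹ * y * g * x = g⁻¹ * (y * (g * x * g⁻¹)) * g := by group
      rw [e1, e2, h]
    · show g * (g⁻¹ * y * g) * g⁻¹ = y
      group
  · rintro ⟨z, hz, rfl⟩
    rw [mem_cent_iff] at hz
    show g * x * g⁻¹ * (g * z * g⁻¹) = g * z * g⁻¹ * (g * x * g⁻¹)
    have e1 : g * x * g⁻¹ * (g * z * g⁻¹) = g * (x * z) * g⁻¹ := by group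
    have e2 : g * z * g⁻¹ * (g * x * g⁻¹) = g * (z * x) * g⁻¹ := by group
    rw [e1, e2, hz]

theorem mem_cent_conj_iff (g x y : G) :
    y ∈ Subgroup.centralizer ({g * x * g⁻¹} : Set G) ↔
      g⁻¹ * y * g ∈ Subgroup.centralizer ({x} : Set G) := by
  rw [mem_cent_iff, mem_cent_iff]
  constructor
  · intro h
    have e1 : x * (g⁻¹ * y * g) = g⁻¹ * (g * x * g⁻¹ * y) * g := by group
    have e2 : g⁻¹ * y * g * x = g⁻¹ * (y * (g * x * g⁻¹)) * g := by group
    rw [e1, e2, h]
  · intro h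
    have e1 : g * x * g⁻¹ * y = g * (x * (g⁻¹ * y * g)) * g⁻¹ := by group
    have e2 : y * (g * x * g⁻¹) = g * (g⁻¹ * y * g * x) * g⁻¹ := by group
    rw [e1, e2, h]

theorem card_map_conj' (A : Subgroup G) (g : G) :
    Nat.card (A.map (MulAut.conj g).toMonoidHom) = Nat.card A :=
  (Nat.card_congr (Subgroup.equivMapOfInjective _ _ (MulAut.conj g).injective).toEquiv).symm

theorem orderOf_conj'' (c u : G) : orderOf (c * u * c⁻¹) = orderOf u := by
  have := orderOf_injective (MulAut.conj c).toMonoidHom (MulAut.conj c).injective u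
  simpa using this

/-- if `C(a) = A` and `C(g a g⁻¹) = A` then `g` normalises `A` -/
theorem mem_normalizer_of_cent (A : Subgroup G) (a g : G)
    (h1 : Subgroup.centralizer ({a} : Set G) = A)
    (h2 : Subgroup.centralizer ({g * a * g⁻¹} : Set G) = A) :
    g ∈ Subgroup.normalizer (A : Set G) := by
  rw [Subgroup.mem_normalizer_iff]
  intro x
  constructor
  · intro hx
    rw [← h2, mem_cent_conj_iff, h1]
    have : g⁻¹ * (g * x * g⁻¹) * g = x := by group
    rw [this]; exact hx
  · intro hx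
    rw [← h2, mem_cent_conj_iff, h1] at hx
    have : g⁻¹ * (g * x * g⁻¹) * g = x := by group
    rw [this] at hx; exact hx

/-- counting the union of the conjugates of a set `X` with `N`-invariance and the TI property -/
theorem card_conj_union [Finite G] (N : Subgroup G) (X : Set G)
    (hN : ∀ n ∈ N, ∀ x ∈ X, n⁻¹ * x * n ∈ X)
    (hTI : ∀ g : G, ∀ x ∈ X, g * x * g⁻¹ ∈ X → g ∈ N) :
    Nat.card {y : G // ∃ g : G, ∃ x ∈ X, y = g * x * g⁻¹} * Nat.card N =
      Nat.card G * Nat.card X := by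
  classical
  rw [← Nat.card_prod, ← Nat.card_prod]
  have hspec : ∀ y : {y : G // ∃ g : G, ∃ x ∈ X, y = g * x * g⁻¹},
      ∃ p : G × G, p.2 ∈ X ∧ (y : G) = p.1 * p.2 * p.1⁻¹ := by
    rintro ⟨y, g, x, hx, rfl⟩
    exact ⟨(g, x), hx, rfl⟩
  choose rep hrepX hrep using hspec
  let f : {y : G // ∃ g : G, ∃ x ∈ X, y = g * x * g⁻¹} × N → G × X := fun p =>
    ((rep p.1).1 * (p.2 : G),
      ⟨(p.2 : G)⁻¹ * (rep p.1).2 * (p.2 : G), hN _ p.2.2 _ (hrepX p.1)⟩)
  have hf : Function.Bijective f := by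
    constructor
    · rintro ⟨y, n⟩ ⟨y', n'⟩ h
      have h1 : (rep y).1 * (n : G) = (rep y').1 * (n' : G) := congrArg Prod.fst h
      have h2 : (n : G)⁻¹ * (rep y).2 * (n : G) = (n' : G)⁻¹ * (rep y').2 * (n' : G) :=
        congrArg (fun p : G × X => (p.2 : G)) h
      have hy : (y : G) = (y' : G) := by
        rw [hrep y, hrep y']
        have e1 : (rep y).1 * (rep y).2 * (rep y).1⁻¹ =
            ((rep y).1 * (n : G)) * ((n : G)⁻¹ * (rep y).2 * (n : G)) * ((rep y).1 * (n : G))⁻¹ := by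
          group
        have e2 : (rep y').1 * (rep y').2 * (rep y').1⁻¹ =
            ((rep y').1 * (n' : G)) * ((n' : G)⁻¹ * (rep y').2 * (n' : G)) *
              ((rep y').1 * (n' : G))⁻¹ := by
          group
        rw [e1, e2, h1, h2]
      have hy' : y = y' := Subtype.ext hy
      subst hy'
      have hn : (n : G) = (n' : G) := mul_left_cancel h1
      have hn' : n = n' := Subtype.ext hn
      rw [hn']
    · rintro ⟨g, x⟩
      have hyp : ∃ g' : G, ∃ x' ∈ X, g * (x : G) * g⁻¹ = g' * x' * g'⁻¹ := ⟨g, x, x.2, rfl⟩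
      let y : {y : G // ∃ g : G, ∃ x ∈ X, y = g * x * g⁻¹} := ⟨g * (x : G) * g⁻¹, hyp⟩
      have hy : g * (x : G) * g⁻¹ = (rep y).1 * (rep y).2 * (rep y).1⁻¹ := hrep y
      have hx : ((rep y).1⁻¹ * g) * (x : G) * ((rep y).1⁻¹ * g)⁻¹ = (rep y).2 := by
        have : ((rep y).1⁻¹ * g) * (x : G) * ((rep y).1⁻¹ * g)⁻¹ =
            (rep y).1⁻¹ * (g * (x : G) * g⁻¹) * (rep y).1 := by group
        rw [this, hy]; group
      have hn : (rep y).1⁻¹ * g ∈ N := hTI _ _ x.2 (by rw [hx]; exact hrepX y)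
      refine ⟨(y, ⟨(rep y).1⁻¹ * g, hn⟩), ?_⟩
      apply Prod.ext
      · show (rep y).1 * ((rep y).1⁻¹ * g) = g
        group
      · apply Subtype.ext
        show ((rep y).1⁻¹ * g)⁻¹ * (rep y).2 * ((rep y).1⁻¹ * g) = (x : G)
        rw [← hx]; group
  exact Nat.card_congr (Equiv.ofBijective f hf)

/-- an element of prime power order is conjugate into a subgroup of index prime to `p` -/
theorem exists_conj_mem_of_index' [Finite G] (R : Subgroup G) (p : ℕ) [Fact p.Prime]
    (hR : ¬ p ∣ R.index) (y : G) (k : ℕ) (hy : orderOf y = p ^ k) :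
    ∃ g : G, g * y * g⁻¹ ∈ R := by
  have PR : Sylow p ↥R := default
  have h1 : IsPGroup p ((PR : Subgroup ↥R).map R.subtype) := by
    have := PR.isPGroup'
    exact this.map R.subtype
  have h2 : ¬ p ∣ ((PR : Subgroup ↥R).map R.subtype).index := by
    rw [Subgroup.index_map_subtype]
    intro h
    rcases (Nat.Prime.dvd_mul (Fact.out : p.Prime)).1 h with h | h
    · exact PR.not_dvd_index h
    · exact hR h
  let P0 : Sylow p G := IsPGroup.toSylow h1 h2
  have hP0 : (P0 : Subgroup G) = (PR : Subgroup ↥R).map R.subtype := IsPGroup.toSylow_coe h1 h2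
  have hZ : IsPGroup p (Subgroup.zpowers y) := by
    apply IsPGroup.of_card (n := k)
    rw [Nat.card_zpowers, hy]
  obtain ⟨S, hS⟩ := hZ.exists_le_sylow
  obtain ⟨g, hg⟩ := MulAction.exists_smul_eq G P0 S
  have hyS : y ∈ (S : Subgroup G) := hS (Subgroup.mem_zpowers y)
  have hy' : y ∈ ((g • P0 : Sylow p G) : Subgroup G) := by
    rw [hg]; exact hyS
  rw [Sylow.coe_subgroup_smul, Subgroup.mem_pointwise_smul_iff_inv_smul_mem] at hy'
  have e : (MulAut.conj g)⁻¹ • y = g⁻¹ * y * g := by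
    rw [← map_inv, MulAut.smul_def, MulAut.conj_apply, inv_inv]
  rw [e, hP0] at hy'
  obtain ⟨x, -, hx⟩ := hy'
  refine ⟨g⁻¹, ?_⟩
  rw [inv_inv, ← hx]
  exact x.2

/-- a power of prime order -/
theorem orderOf_pow_div [Finite G] (g : G) (p : ℕ) (hp : p.Prime) (hd : p ∣ orderOf g) :
    orderOf (g ^ (orderOf g / p)) = p :=
  orderOf_pow_orderOf_div (orderOf_pos g).ne' hd

theorem ne_one_of_orderOf_prime (y : G) (p : ℕ) (hp : p.Prime) (hy : orderOf y = p) : y ≠ 1 := by
  rintro rfl
  rw [orderOf_one] at hy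
  exact hp.one_lt.ne hy

end general

end Cfsg.Agent.Lib.Helper1.RW
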