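import Mathlib
import Cfsg.Agent.Lib.Helper1.RW1

/-!
Ward's analysis of the Ree groups `²G₂(q)`, part 2: arithmetic of `q = 3^(2m+1)` and the abstract
hypotheses.
-/

set_option autoImplicit false
set_option maxHeartbeats 4000000
set_option linter.unusedVariables false
set_option linter.unusedSectionVars false
set_option linter.style.longLine false
set_option linter.unusedSimpArgs false

namespace Cfsg.Agent.Lib.Helper1.RW

universe u

/-- the arithmetic hypotheses on `q` and `r` -/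
structure QA (q r : ℕ) : Prop where
  hq27 : 27 ≤ q
  hq8 : q % 8 = 3
  hq3 : ∃ k, q = 3 ^ k
  hq5 : q % 5 = 2 ∨ q % 5 = 3
  hr : r * r = 3 * q

namespace QA

variable {q r : ℕ}

theorem three_dvd (h : QA q r) : 3 ∣ q := by
  obtain ⟨k, hk⟩ := h.hq3
  have h27 := h.hq27
  rcases k with _ | k
  · rw [hk] at h27; norm_num at h27
  · rw [hk, pow_succ]; exact Dvd.intro_left _ rfl

theorem nine_dvd (h : QA q r) : 9 ∣ q := by
  obtain ⟨k, hk⟩ := h.hq3
  have h27 := h.hq27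
  rcases k with _ | _ | k
  · rw [hk] at h27; norm_num at h27
  · rw [hk] at h27; norm_num at h27
  · rw [hk, pow_succ, pow_succ, mul_assoc]; exact Dvd.intro_left _ rfl

theorem cube_add_one' (h : QA q r) : q ^ 3 + 1 = (q + 1) * (q * (q - 1) + 1) := by
  have := h.hq27
  obtain ⟨a, rfl⟩ : ∃ a, q = a + 1 := ⟨q - 1, by omega⟩
  simp only [Nat.add_sub_cancel]
  ring

theorem n0_eq (h : QA q r) : q * (q - 1) + 1 = q ^ 2 - q + 1 := by
  have := h.hq27
  obtain ⟨a, rfl⟩ : ∃ a, q = a + 1 := ⟨q - 1, by omega⟩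
  simp only [Nat.add_sub_cancel]
  have : (a + 1) ^ 2 = (a + 1) * a + (a + 1) := by ring
  rw [this]; omega

theorem prime_dvd_q (h : QA q r) {p : ℕ} (hp : p.Prime) (hd : p ∣ q) : p = 3 := by
  obtain ⟨k, hk⟩ := h.hq3
  rw [hk] at hd
  exact (Nat.prime_dvd_prime_iff_eq hp Nat.prime_three).mp (hp.dvd_of_dvd_pow hd)

theorem not_three_dvd_pred (h : QA q r) : ¬ 3 ∣ q - 1 := by
  have := h.three_dvd
  have := h.hq27
  omega

theorem not_three_dvd_succ (h : QA q r) : ¬ 3 ∣ q + 1 := by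
  have := h.three_dvd
  omega

theorem not_three_dvd_n0 (h : QA q r) : ¬ 3 ∣ q * (q - 1) + 1 := by
  obtain ⟨a, ha⟩ := h.three_dvd
  intro hd
  have : 3 ∣ q * (q - 1) := by rw [ha, mul_assoc]; exact Dvd.intro _ rfl
  omega

theorem odd_n0 (h : QA q r) : ¬ 2 ∣ q * (q - 1) + 1 := by
  have h8 := h.hq8
  have h27 := h.hq27
  have : 2 ∣ q * (q - 1) := by
    have : 2 ∣ q - 1 := by omega
    exact Dvd.dvd.mul_left this q
  omega

theorem not_five_dvd_n0 (h : QA q r) : ¬ 5 ∣ q * (q - 1) + 1 := by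
  have h27 := h.hq27
  intro hd
  have h1 : (q * (q - 1) + 1) % 5 = 0 := Nat.mod_eq_zero_of_dvd hd
  rcases h.hq5 with h5 | h5
  · have hq1 : (q - 1) % 5 = 1 := by omega
    rw [Nat.add_mod, Nat.mul_mod, h5, hq1] at h1
    norm_num at h1
  · have hq1 : (q - 1) % 5 = 2 := by omega
    rw [Nat.add_mod, Nat.mul_mod, h5, hq1] at h1
    norm_num at h1

theorem not_five_dvd_card (h : QA q r) : ¬ 5 ∣ q ^ 3 * (q - 1) * (q ^ 3 + 1) := by
  have h27 := h.hq27
  intro hd
  have h5 : Nat.Prime 5 := by norm_num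
  rw [h.cube_add_one'] at hd
  rcases (h5.dvd_mul).mp hd with h1 | h1
  · rcases (h5.dvd_mul).mp h1 with h2 | h2
    · have := h5.dvd_of_dvd_pow h2
      rcases h.hq5 with h5' | h5' <;> omega
    · rcases h.hq5 with h5' | h5' <;> omega
  · rcases (h5.dvd_mul).mp h1 with h2 | h2
    · rcases h.hq5 with h5' | h5' <;> omega
    · exact h.not_five_dvd_n0 h2

/-- primes dividing `q² - q + 1` are at least `7` -/
theorem seven_le_of_dvd_n0 (h : QA q r) {s : ℕ} (hs : s.Prime) (hd : s ∣ q * (q - 1) + 1) :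
    7 ≤ s := by
  have h2 : s ≠ 2 := by rintro rfl; exact h.odd_n0 hd
  have h3 : s ≠ 3 := by rintro rfl; exact h.not_three_dvd_n0 hd
  have h5 : s ≠ 5 := by rintro rfl; exact h.not_five_dvd_n0 hd
  have h4 : s ≠ 4 := by rintro rfl; norm_num at hs
  have h6 : s ≠ 6 := by rintro rfl; norm_num at hs
  have := hs.two_le
  omega

theorem coprime_n0_q (h : QA q r) : Nat.Coprime (q * (q - 1) + 1) q := by
  rw [Nat.coprime_mul_left_add_left]
  · exact Nat.coprime_one_left q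

theorem coprime_n0_pred (h : QA q r) : Nat.Coprime (q * (q - 1) + 1) (q - 1) := by
  rw [Nat.coprime_mul_right_add_left]
  · exact Nat.coprime_one_left _

theorem coprime_n0_succ (h : QA q r) : Nat.Coprime (q * (q - 1) + 1) (q + 1) := by
  apply Nat.coprime_of_dvd
  intro p hp h1 h2
  have h27 := h.hq27
  -- `n₀ = (q + 1) (q - 2) + 3`
  have e : q * (q - 1) + 1 = (q + 1) * (q - 2) + 3 := by
    obtain ⟨a, rfl⟩ : ∃ a, q = a + 2 := ⟨q - 2, by omega⟩
    simp only [Nat.add_sub_cancel]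
    have : a + 2 - 1 = a + 1 := by omega
    rw [this]; ring
  rw [e] at h1
  have h3 : p ∣ 3 := (Nat.dvd_add_right (Dvd.dvd.mul_right h2 _)).mp h1
  have hp3 : p = 3 := (Nat.prime_dvd_prime_iff_eq hp Nat.prime_three).mp h3
  rw [hp3] at h2
  exact h.not_three_dvd_succ h2

theorem coprime_q_pred (h : QA q r) : Nat.Coprime q (q - 1) := by
  have h27 := h.hq27
  obtain ⟨a, rfl⟩ : ∃ a, q = a + 1 := ⟨q - 1, by omega⟩
  simp

theorem coprime_q_succ (h : QA q r) : Nat.Coprime q (q + 1) := by simp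

/-- an odd prime does not divide both `q - 1` and `q + 1` -/
theorem not_dvd_both (h : QA q r) {p : ℕ} (hp : p.Prime) (hp2 : p ≠ 2) (h1 : p ∣ q - 1)
    (h2 : p ∣ q + 1) : False := by
  have h27 := h.hq27
  have h3 : p ∣ (q + 1) - (q - 1) := Nat.dvd_sub h2 h1
  have e : (q + 1) - (q - 1) = 2 := by omega
  rw [e] at h3
  exact hp2 ((Nat.prime_dvd_prime_iff_eq hp Nat.prime_two).mp h3)

theorem card_factor (h : QA q r) :
    q ^ 3 * (q - 1) * (q ^ 3 + 1) = q ^ 3 * (q - 1) * (q + 1) * (q * (q - 1) + 1) := by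
  rw [h.cube_add_one']; ring

/-- the primes dividing the group order -/
theorem prime_cases (h : QA q r) {p : ℕ} (hp : p.Prime) (hd : p ∣ q ^ 3 * (q - 1) * (q ^ 3 + 1)) :
    p = 2 ∨ p = 3 ∨ (p ≠ 2 ∧ p ∣ q - 1) ∨ (p ≠ 2 ∧ p ∣ q + 1) ∨ p ∣ q * (q - 1) + 1 := by
  by_cases hp2 : p = 2
  · left; exact hp2
  right
  rw [h.card_factor] at hd
  rcases (hp.dvd_mul).mp hd with h1 | h1
  · rcases (hp.dvd_mul).mp h1 with h2 | h2
    · rcases (hp.dvd_mul).mp h2 with h3 | h3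
      · left; exact h.prime_dvd_q hp (hp.dvd_of_dvd_pow h3)
      · right; left; exact ⟨hp2, h3⟩
    · right; right; left; exact ⟨hp2, h2⟩
  · right; right; right; exact h1

theorem r_le (h : QA q r) : r ≤ q := by
  have h27 := h.hq27
  have hr := h.hr
  by_contra hlt
  push_neg at hlt
  have : q * q < r * r := Nat.mul_lt_mul'' hlt hlt
  nlinarith

theorem r_pos (h : QA q r) : 9 ≤ r := by
  have h27 := h.hq27
  have hr := h.hr
  by_contra hlt
  push_neg at hlt
  have : r * r ≤ 8 * 8 := Nat.mul_le_mul (by omega) (by omega)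
  omega

theorem prod_eq_n0 (h : QA q r) : (q + r + 1) * (q - r + 1) = q * (q - 1) + 1 := by
  have hrq := h.r_le
  have hr := h.hr
  have h27 := h.hq27
  obtain ⟨d, rfl⟩ : ∃ d, q = r + d := ⟨q - r, by omega⟩
  have e1 : r + d - r = d := by omega
  rw [e1]
  zify
  have e2 : ((r + d - 1 : ℕ) : ℤ) = (r : ℤ) + d - 1 := by
    rw [Nat.cast_sub (by omega)]; push_cast; ring
  rw [e2]
  have hr' : (r : ℤ) * r = 3 * ((r : ℤ) + d) := by exact_mod_cast hr
  ring_nf
  ring_nf at hr'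
  linarith

/-- `(q - 1) / 2` is odd -/
theorem half_pred (h : QA q r) : q - 1 = 2 * ((q - 1) / 2) ∧ ((q - 1) / 2) % 2 = 1 := by
  have := h.hq8
  have := h.hq27
  omega

/-- `(q + 1) / 4` is odd -/
theorem quarter_succ (h : QA q r) : q + 1 = 4 * ((q + 1) / 4) ∧ ((q + 1) / 4) % 2 = 1 := by
  have := h.hq8
  omega

theorem dvd_quarter (h : QA q r) {p : ℕ} (hp : p.Prime) (hp2 : p ≠ 2) (hd : p ∣ q + 1) :
    p ∣ (q + 1) / 4 := by
  have h4 := h.quarter_succ.1
  rw [h4] at hd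
  rcases (hp.dvd_mul).mp hd with h1 | h1
  · exfalso
    have : p ∣ 2 ^ 2 := by norm_num; exact h1
    exact hp2 ((Nat.prime_dvd_prime_iff_eq hp Nat.prime_two).mp (hp.dvd_of_dvd_pow this))
  · exact h1

theorem dvd_half (h : QA q r) {p : ℕ} (hp : p.Prime) (hp2 : p ≠ 2) (hd : p ∣ q - 1) :
    p ∣ (q - 1) / 2 := by
  have h4 := h.half_pred.1
  rw [h4] at hd
  rcases (hp.dvd_mul).mp hd with h1 | h1
  · exfalso
    exact hp2 ((Nat.prime_dvd_prime_iff_eq hp Nat.prime_two).mp h1)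
  · exact h1

end QA

/-- the abstract hypotheses, without the linear algebra input -/
structure Ward0 {G : Type u} [Group G] (q r : ℕ) (U H : Subgroup G) (t : G) : Prop where
  qa : QA q r
  card_G : Nat.card G = q ^ 3 * (q - 1) * (q ^ 3 + 1)
  card_U : Nat.card U = q ^ 3
  ti_U : ∀ g : G, ∀ u ∈ U, u ≠ 1 → g * u * g⁻¹ ∈ U → g ∈ Subgroup.normalizer (U : Set G)
  card_NU : Nat.card (Subgroup.normalizer (U : Set G)) = q ^ 3 * (q - 1)
  exp_U : ∀ u ∈ U, u ^ 9 = 1
  card_U3 : Nat.card {u : G // u ∈ U ∧ u ^ 3 = 1} = q ^ 2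
  H_le : H ≤ Subgroup.normalizer (U : Set G)
  cyc_H : IsCyclic H
  card_H : Nat.card H = q - 1
  cent_H : ∀ h ∈ H, h * h ≠ 1 → Subgroup.centralizer ({h} : Set G) = H
  t_mem : t ∈ H
  t_ne : t ≠ 1
  t_sq : t * t = 1
  card_CUt : Nat.card {u : G // u ∈ U ∧ u * t = t * u} = q
  exp_CUt : ∀ u ∈ U, u * t = t * u → u ^ 3 = 1
  card_NH : Nat.card (Subgroup.normalizer (H : Set G)) = 2 * (q - 1)
  invol_conj : ∀ x : G, x * x = 1 → x ≠ 1 → ∃ g, x = g * t * g⁻¹
  card_Ct : Nat.card (Subgroup.centralizer ({t} : Set G)) = q * (q ^ 2 - 1)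
  two_elt : ∀ x : G, x ^ 4 = 1 → x ^ 2 = 1
  cent_quarter : ∀ y : G, ∀ p : ℕ, p.Prime → orderOf y = p → p ∣ (q + 1) / 4 →
    Nat.card (Subgroup.centralizer ({y} : Set G)) = q + 1 ∧
      ∀ x ∈ Subgroup.centralizer ({y} : Set G), ∀ x' ∈ Subgroup.centralizer ({y} : Set G),
        x * x' = x' * x
  sylow_cyc : ∀ p : ℕ, ∀ [Fact p.Prime], 3 < p → ∀ P : Sylow p G, IsCyclic (P : Subgroup G)

/-- the abstract hypotheses -/
structure Ward {G : Type u} [Group G] (q r : ℕ) (U H : Subgroup G) (t : G) : Prop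
    extends Ward0 q r U H t where
  cent_pi : ∀ y : G, ∀ s : ℕ, s.Prime → orderOf y = s → s ∣ q * (q - 1) + 1 →
    IsCyclic (Subgroup.centralizer ({y} : Set G)) ∧
      Nat.card (Subgroup.normalizer ((Subgroup.centralizer ({y} : Set G) : Subgroup G) : Set G)) ≤
        6 * Nat.card (Subgroup.centralizer ({y} : Set G))

end Cfsg.Agent.Lib.Helper1.RW
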