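import Mathlib
import Cfsg.Agent.Lib.Helper1.RW2

/-!
Ward's analysis of the Ree groups `²G₂(q)`, part 3: the Borel subgroup `B = N(U)`.
-/

set_option autoImplicit false
set_option maxHeartbeats 4000000
set_option linter.unusedVariables false
set_option linter.unusedSectionVars false
set_option linter.style.longLine false
set_option linter.unusedSimpArgs false

namespace Cfsg.Agent.Lib.Helper1.RW

universe u

/-- counting with fibres that are cosets -/
theorem card_eq_of_fibers {N : Type*} {X : Type*} [Group N] (f : N → X)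
    (hf : Function.Surjective f) (C : Subgroup N)
    (hfib : ∀ n n', f n = f n' ↔ n⁻¹ * n' ∈ C) : Nat.card N = Nat.card X * Nat.card C := by
  have e : N ⧸ C ≃ X := by
    refine Equiv.ofBijective (Quotient.lift f (fun a b hab => ?_)) ⟨?_, ?_⟩
    · exact (hfib a b).mpr (QuotientGroup.leftRel_apply.mp hab)
    · intro a b
      induction a using Quotient.inductionOn' with
      | h a =>
        induction b using Quotient.inductionOn' with
        | h b =>
          intro h
          have h' : f a = f b := h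
          exact Quotient.sound' (QuotientGroup.leftRel_apply.mpr ((hfib a b).mp h'))
    · intro x
      obtain ⟨n, hn⟩ := hf x
      exact ⟨Quotient.mk'' n, hn⟩
  rw [Subgroup.card_eq_card_quotient_mul_card_subgroup C, Nat.card_congr e]

namespace Ward0

variable {G : Type u} [Group G] [Finite G] {q r : ℕ} {U H : Subgroup G} {t : G}

theorem isPGroup_U (W : Ward0 q r U H t) : IsPGroup 3 U := by
  obtain ⟨k, hk⟩ := W.qa.hq3
  apply IsPGroup.of_card (n := k * 3)
  rw [W.card_U, hk, ← pow_mul]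

theorem three_not_dvd_index (W : Ward0 q r U H t) : ¬ 3 ∣ (q - 1) * (q ^ 3 + 1) := by
  intro hd
  rw [W.qa.cube_add_one'] at hd
  have h3 : Nat.Prime 3 := Nat.prime_three
  rcases (h3.dvd_mul).mp hd with h1 | h1
  · exact W.qa.not_three_dvd_pred h1
  · rcases (h3.dvd_mul).mp h1 with h2 | h2
    · exact W.qa.not_three_dvd_succ h2
    · exact W.qa.not_three_dvd_n0 h2

/-- `3`-elements of `N(U)` lie in `U` -/
theorem mem_U_of_three_elt (W : Ward0 q r U H t) (x : G)
    (hx : x ∈ Subgroup.normalizer (U : Set G)) (k : ℕ) (hxk : x ^ 3 ^ k = 1) : x ∈ U := by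
  obtain ⟨j, -, hj⟩ := (Nat.dvd_prime_pow Nat.prime_three).mp (orderOf_dvd_of_pow_eq_one hxk)
  have hZ : IsPGroup 3 (Subgroup.zpowers x) := by
    apply IsPGroup.of_card (n := j)
    rw [Nat.card_zpowers, hj]
  have hle : Subgroup.zpowers x ≤ Subgroup.normalizer (U : Set G) :=
    (Subgroup.zpowers_le).mpr hx
  have hsup : IsPGroup 3 (Subgroup.zpowers x ⊔ U : Subgroup G) :=
    IsPGroup.to_sup_of_normal_right' hZ W.isPGroup_U hle
  obtain ⟨n, hn⟩ := IsPGroup.iff_card.mp hsup
  have hdvd : 3 ^ n ∣ q ^ 3 * ((q - 1) * (q ^ 3 + 1)) := by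
    rw [← hn, ← mul_assoc, ← W.card_G]
    exact Subgroup.card_subgroup_dvd_card _
  have hcop : Nat.Coprime (3 ^ n) ((q - 1) * (q ^ 3 + 1)) := by
    apply Nat.Coprime.pow_left
    rw [Nat.Prime.coprime_iff_not_dvd Nat.prime_three]
    exact W.three_not_dvd_index
  have h3 : 3 ^ n ∣ q ^ 3 := hcop.dvd_of_dvd_mul_right hdvd
  have hq0 : 0 < q ^ 3 := by
    have := W.qa.hq27
    positivity
  have hle2 : Nat.card (Subgroup.zpowers x ⊔ U : Subgroup G) ≤ Nat.card U := by
    rw [hn, W.card_U]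
    exact Nat.le_of_dvd hq0 h3
  have heq : U = Subgroup.zpowers x ⊔ U := Subgroup.eq_of_le_of_card_ge le_sup_right hle2
  rw [heq]
  exact Subgroup.mem_sup_left (Subgroup.mem_zpowers x)

theorem U_inf_H (W : Ward0 q r U H t) (x : G) (hxU : x ∈ U) (hxH : x ∈ H) : x = 1 := by
  have h1 : orderOf x ∣ q ^ 3 := by
    rw [← W.card_U]; exact Subgroup.orderOf_dvd_natCard U hxU
  have h2 : orderOf x ∣ q - 1 := by
    rw [← W.card_H]; exact Subgroup.orderOf_dvd_natCard H hxH
  have hcop : Nat.Coprime (q ^ 3) (q - 1) := Nat.Coprime.pow_left 3 W.qa.coprime_q_pred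
  have := Nat.dvd_gcd h1 h2
  rw [hcop.gcd_eq_one, Nat.dvd_one] at this
  exact orderOf_eq_one_iff.mp this

theorem U_le (W : Ward0 q r U H t) : U ≤ Subgroup.normalizer (U : Set G) := Subgroup.le_normalizer

theorem conj_mem_U (W : Ward0 q r U H t) (b : G) (hb : b ∈ Subgroup.normalizer (U : Set G))
    (u : G) (hu : u ∈ U) : b * u * b⁻¹ ∈ U :=
  (Subgroup.mem_normalizer_iff.mp hb u).mp hu

theorem conj_mem_U' (W : Ward0 q r U H t) (b : G) (hb : b ∈ Subgroup.normalizer (U : Set G))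
    (u : G) (hu : u ∈ U) : b⁻¹ * u * b ∈ U := by
  have := W.conj_mem_U b⁻¹ (inv_mem hb) u hu
  rwa [inv_inv] at this

/-- `N(U) = U H` -/
theorem B_decomp (W : Ward0 q r U H t) (b : G) (hb : b ∈ Subgroup.normalizer (U : Set G)) :
    ∃ u ∈ U, ∃ h ∈ H, b = u * h := by
  let f : U × H → Subgroup.normalizer (U : Set G) := fun p =>
    ⟨(p.1 : G) * (p.2 : G), mul_mem (W.U_le p.1.2) (W.H_le p.2.2)⟩
  have hf : Function.Injective f := by
    rintro ⟨u, h⟩ ⟨u', h'⟩ e
    have e1 : (u : G) * (h : G) = (u' : G) * (h' : G) := congrArg Subtype.val e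
    have e2 : (u' : G)⁻¹ * (u : G) = (h' : G) * (h : G)⁻¹ := by
      have : (u' : G)⁻¹ * ((u : G) * (h : G)) * (h : G)⁻¹ = (u' : G)⁻¹ * (u : G) := by group
      rw [← this, e1]; group
    have e3 : (u' : G)⁻¹ * (u : G) = 1 :=
      W.U_inf_H _ (mul_mem (inv_mem u'.2) u.2) (by rw [e2]; exact mul_mem h'.2 (inv_mem h.2))
    have hu : (u : G) = (u' : G) := by
      have h4 : (u' : G) * ((u' : G)⁻¹ * (u : G)) = (u' : G) * 1 := by rw [e3]
      rw [mul_one, mul_inv_cancel_left] at h4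
      exact h4
    have hh : (h : G) = (h' : G) := by
      rw [hu] at e1
      exact mul_left_cancel e1
    exact Prod.ext (Subtype.ext hu) (Subtype.ext hh)
  have hcard : Nat.card (Subgroup.normalizer (U : Set G)) ≤ Nat.card (U × H) := by
    rw [Nat.card_prod, W.card_U, W.card_H, W.card_NU]
  obtain ⟨⟨u, h⟩, hp⟩ := (hf.bijective_of_nat_card_le hcard).2 ⟨b, hb⟩
  refine ⟨u, u.2, h, h.2, ?_⟩
  exact (congrArg Subtype.val hp).symm

/-- the elements of a coset `U h`, `h² ≠ 1`, are conjugates of `h` -/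
theorem coset_conj (W : Ward0 q r U H t) (h : G) (hh : h ∈ H) (hh2 : h * h ≠ 1) (u : G)
    (hu : u ∈ U) : ∃ v ∈ U, u * h = v * h * v⁻¹ := by
  have hhN : h ∈ Subgroup.normalizer (U : Set G) := W.H_le hh
  let φ : U → U := fun v => ⟨(v : G) * h * (v : G)⁻¹ * h⁻¹, by
    have h1 : h * (v : G)⁻¹ * h⁻¹ ∈ U := W.conj_mem_U h hhN _ (inv_mem v.2)
    have : (v : G) * h * (v : G)⁻¹ * h⁻¹ = (v : G) * (h * (v : G)⁻¹ * h⁻¹) := by group
    rw [this]
    exact mul_mem v.2 h1⟩
  have hφ : Function.Injective φ := by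
    intro v v' e
    have e1 : (v : G) * h * (v : G)⁻¹ * h⁻¹ = (v' : G) * h * (v' : G)⁻¹ * h⁻¹ :=
      congrArg Subtype.val e
    have e2 : (v : G) * h * (v : G)⁻¹ = (v' : G) * h * (v' : G)⁻¹ := mul_right_cancel e1
    have e3 : h * ((v' : G)⁻¹ * (v : G)) = ((v' : G)⁻¹ * (v : G)) * h := by
      have : h * ((v' : G)⁻¹ * (v : G)) = (v' : G)⁻¹ * ((v' : G) * h * (v' : G)⁻¹) * (v : G) := by
        group
      rw [this, ← e2]; group
    have e4 : (v' : G)⁻¹ * (v : G) ∈ H := by
      rw [← W.cent_H h hh hh2, mem_cent_iff]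
      exact e3
    have e5 := W.U_inf_H _ (mul_mem (inv_mem v'.2) v.2) e4
    apply Subtype.ext
    have h4 : (v' : G) * ((v' : G)⁻¹ * (v : G)) = (v' : G) * 1 := by rw [e5]
    rw [mul_one, mul_inv_cancel_left] at h4
    exact h4
  obtain ⟨v, hv⟩ := (Finite.injective_iff_surjective.mp hφ) ⟨u, hu⟩
  refine ⟨v, v.2, ?_⟩
  have : (v : G) * h * (v : G)⁻¹ * h⁻¹ = u := congrArg Subtype.val hv
  rw [← this]; group

/-- the involution of `H` is unique -/
theorem eq_t_of_sq (W : Ward0 q r U H t) (h : G) (hh : h ∈ H) (hh2 : h * h = 1) (hh1 : h ≠ 1) :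
    h = t := by
  classical
  haveI := W.cyc_H
  letI : Fintype H := Fintype.ofFinite H
  have h27 := W.qa.hq27
  have h8 := W.qa.hq8
  have hd : 2 ∣ Fintype.card H := by
    rw [← Nat.card_eq_fintype_card, W.card_H]; omega
  have hcard := IsCyclic.card_orderOf_eq_totient (α := H) hd
  rw [Nat.totient_two] at hcard
  have ho : ∀ x : G, x ∈ H → x * x = 1 → x ≠ 1 → ∀ hx : x ∈ H,
      (⟨x, hx⟩ : H) ∈ Finset.univ.filter (fun a : H => orderOf a = 2) := by
    intro x _ hx2 hx1 hx
    rw [Finset.mem_filter]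
    refine ⟨Finset.mem_univ _, ?_⟩
    apply orderOf_eq_prime
    · apply Subtype.ext
      show x ^ 2 = 1
      rw [pow_two]; exact hx2
    · intro e
      exact hx1 (congrArg Subtype.val e)
  have := Finset.card_le_one.mp (le_of_eq hcard) _ (ho h hh hh2 hh1 hh) _
    (ho t W.t_mem W.t_sq W.t_ne W.t_mem)
  exact congrArg Subtype.val this

theorem t_inv (W : Ward0 q r U H t) : t⁻¹ = t := by
  have := W.t_sq
  exact inv_eq_of_mul_eq_one_left this

theorem t_mem_N (W : Ward0 q r U H t) : t ∈ Subgroup.normalizer (U : Set G) := W.H_le W.t_mem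

theorem t_not_mem_U (W : Ward0 q r U H t) : t ∉ U := fun h => W.t_ne (W.U_inf_H t h W.t_mem)

theorem odd_orderOf_U (W : Ward0 q r U H t) (u : G) (hu : u ∈ U) : orderOf u % 2 = 1 := by
  have h1 : orderOf u ∣ 9 := orderOf_dvd_of_pow_eq_one (W.exp_U u hu)
  have h2 : orderOf u ≤ 9 := Nat.le_of_dvd (by norm_num) h1
  have h3 := orderOf_pos u
  interval_cases (orderOf u) <;> simp_all

/-- involutions in the coset `U t` are conjugates of `t` -/
theorem invol_coset (W : Ward0 q r U H t) (u : G) (hu : u ∈ U) (h2 : (u * t) * (u * t) = 1) :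
    ∃ v ∈ U, u * t = v * t * v⁻¹ := by
  have htt := W.t_sq
  have e1 : t * u * t = u⁻¹ := by
    have : u * (t * u * t) = 1 := by
      rw [← h2]; group
    exact eq_inv_of_mul_eq_one_right this
  obtain ⟨n, hn⟩ : ∃ n, orderOf u = 2 * n + 1 := ⟨orderOf u / 2, by
    have := W.odd_orderOf_U u hu; omega⟩
  refine ⟨u ^ (n + 1), pow_mem hu _, ?_⟩
  have e2 : ∀ k : ℕ, t * u ^ k * t = (u⁻¹) ^ k := by
    intro k
    induction k with
    | zero => simp [htt]
    | succ k ih =>
      rw [pow_succ, pow_succ, ← ih, ← e1]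
      have : t * (u ^ k * u) * t = t * u ^ k * (t * t) * u * t := by rw [htt]; group
      rw [this]; group
  have e3 : u ^ (n + 1) * u ^ (n + 1) = u := by
    rw [← pow_add]
    have : n + 1 + (n + 1) = orderOf u + 1 := by omega
    rw [this, pow_succ, pow_orderOf_eq_one, one_mul]
  have e4 : t * (u ^ (n + 1))⁻¹ * t = u ^ (n + 1) := by
    have h5 : t * u ^ (n + 1) * t = (u ^ (n + 1))⁻¹ := by rw [e2, inv_pow]
    have h6 : (t * u ^ (n + 1) * t) * (t * (u ^ (n + 1))⁻¹ * t) = 1 := by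
      have : (t * u ^ (n + 1) * t) * (t * (u ^ (n + 1))⁻¹ * t) =
          t * u ^ (n + 1) * (t * t) * (u ^ (n + 1))⁻¹ * t := by group
      rw [this, htt]
      have : t * u ^ (n + 1) * 1 * (u ^ (n + 1))⁻¹ * t = t * t := by group
      rw [this, htt]
    rw [h5] at h6
    have := eq_inv_of_mul_eq_one_right h6
    rw [inv_inv] at this
    exact this
  have e5 : u ^ (n + 1) * t * (u ^ (n + 1))⁻¹ = u ^ (n + 1) * (t * (u ^ (n + 1))⁻¹ * t) * t := by
    have : u ^ (n + 1) * (t * (u ^ (n + 1))⁻¹ * t) * t =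
        u ^ (n + 1) * t * (u ^ (n + 1))⁻¹ * (t * t) := by group
    rw [this, htt, mul_one]
  rw [e5, e4, e3]

end Ward0

end Cfsg.Agent.Lib.Helper1.RW
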