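import Mathlib
import Cfsg.Agent.Lib.Helper1.RW3

/-!
Ward's analysis of the Ree groups `²G₂(q)`, part 4: the `3`-singular elements.
-/

set_option autoImplicit false
set_option maxHeartbeats 4000000
set_option linter.unusedVariables false
set_option linter.unusedSectionVars false
set_option linter.style.longLine false
set_option linter.unusedSimpArgs false

namespace Cfsg.Agent.Lib.Helper1.RW

universe u

namespace Ward0

variable {G : Type u} [Group G] [Finite G] {q r : ℕ} {U H : Subgroup G} {t : G}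

/-- the number of involutions in the coset `U t` -/
theorem card_invol_coset (W : Ward0 q r U H t) :
    Nat.card {u : G // u ∈ U ∧ (u * t) * (u * t) = 1} = q ^ 2 := by
  have htt := W.t_sq
  have htinv := W.t_inv
  let f : U → {u : G // u ∈ U ∧ (u * t) * (u * t) = 1} := fun v =>
    ⟨(v : G) * t * (v : G)⁻¹ * t, by
      constructor
      · have h1 : t * (v : G)⁻¹ * t⁻¹ ∈ U := W.conj_mem_U t W.t_mem_N _ (inv_mem v.2)
        rw [htinv] at h1
        have : (v : G) * t * (v : G)⁻¹ * t = (v : G) * (t * (v : G)⁻¹ * t) := by group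
        rw [this]
        exact mul_mem v.2 h1
      · have : ((v : G) * t * (v : G)⁻¹ * t * t) * ((v : G) * t * (v : G)⁻¹ * t * t) =
            (v : G) * t * (v : G)⁻¹ * (t * t) * (v : G) * t * (v : G)⁻¹ * (t * t) := by group
        rw [this, htt]
        have : (v : G) * t * (v : G)⁻¹ * 1 * (v : G) * t * (v : G)⁻¹ * 1 =
            (v : G) * (t * t) * (v : G)⁻¹ := by group
        rw [this, htt]; group⟩
  have hf : Function.Surjective f := by
    rintro ⟨u, hu, h2⟩
    obtain ⟨v, hv, e⟩ := W.invol_coset u hu h2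
    refine ⟨⟨v, hv⟩, ?_⟩
    apply Subtype.ext
    show v * t * v⁻¹ * t = u
    rw [← e]
    have : u * t * t = u * (t * t) := by group
    rw [this, htt, mul_one]
  let C : Subgroup U := (Subgroup.centralizer ({t} : Set G)).subgroupOf U
  have hfib : ∀ n n' : U, f n = f n' ↔ n⁻¹ * n' ∈ C := by
    intro n n'
    rw [Subgroup.mem_subgroupOf, mem_cent_iff]
    constructor
    · intro e
      have e1 : (n : G) * t * (n : G)⁻¹ * t = (n' : G) * t * (n' : G)⁻¹ * t :=
        congrArg Subtype.val e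
      have e2 : (n : G) * t * (n : G)⁻¹ = (n' : G) * t * (n' : G)⁻¹ := mul_right_cancel e1
      show t * ((n : G)⁻¹ * (n' : G)) = (n : G)⁻¹ * (n' : G) * t
      have : t * ((n : G)⁻¹ * (n' : G)) = (n : G)⁻¹ * ((n : G) * t * (n : G)⁻¹) * (n' : G) := by
        group
      rw [this, e2]; group
    · intro e
      have e' : t * ((n : G)⁻¹ * (n' : G)) = (n : G)⁻¹ * (n' : G) * t := e
      apply Subtype.ext
      show (n : G) * t * (n : G)⁻¹ * t = (n' : G) * t * (n' : G)⁻¹ * t
      have : (n : G) * t * (n : G)⁻¹ = (n' : G) * t * (n' : G)⁻¹ := by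
        have h1 : (n' : G) * t * (n' : G)⁻¹ =
            (n : G) * ((n : G)⁻¹ * (n' : G) * t) * (n' : G)⁻¹ := by group
        rw [h1, ← e']; group
      rw [this]
  have hcard := card_eq_of_fibers f hf C hfib
  have hC : Nat.card C = q := by
    rw [← W.card_CUt]
    apply Nat.card_congr
    refine ⟨fun c => ⟨((c : U) : G), (c : U).2, ?_⟩, fun c => ⟨⟨c.1, c.2.1⟩, ?_⟩, ?_, ?_⟩
    · have := c.2
      rw [Subgroup.mem_subgroupOf, mem_cent_iff] at this
      exact this.symm
    · rw [Subgroup.mem_subgroupOf, mem_cent_iff]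
      exact c.2.2.symm
    · intro c; rfl
    · intro c; rfl
  rw [W.card_U, hC] at hcard
  have h27 := W.qa.hq27
  have : q ^ 2 * q = Nat.card {u : G // u ∈ U ∧ (u * t) * (u * t) = 1} * q := by
    rw [← hcard]; ring
  exact (Nat.eq_of_mul_eq_mul_right (by omega) this).symm

/-- powers of an element of the coset `U t` -/
theorem pow_coset (W : Ward0 q r U H t) (u : G) (hu : u ∈ U) (k : ℕ) :
    ∃ w ∈ U, (u * t) ^ k = w * t ^ k := by
  induction k with
  | zero => exact ⟨1, one_mem _, by simp⟩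
  | succ k ih =>
    obtain ⟨w, hw, e⟩ := ih
    have htk : t ^ k ∈ Subgroup.normalizer (U : Set G) := pow_mem W.t_mem_N k
    refine ⟨w * (t ^ k * u * (t ^ k)⁻¹), mul_mem hw (W.conj_mem_U _ htk u hu), ?_⟩
    rw [pow_succ, e, pow_succ]
    group

theorem t_pow_odd (W : Ward0 q r U H t) (k : ℕ) : t ^ (2 * k + 1) = t := by
  rw [pow_succ, pow_mul, pow_two, W.t_sq, one_pow, one_mul]

/-- the other elements of the coset `U t` have order `6` -/
theorem order_six (W : Ward0 q r U H t) (u : G) (hu : u ∈ U) (h2 : (u * t) * (u * t) ≠ 1) :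
    orderOf (u * t) = 6 := by
  have htt := W.t_sq
  have htinv := W.t_inv
  obtain ⟨b, hb⟩ : ∃ b, b = u * t := ⟨_, rfl⟩
  rw [← hb] at h2 ⊢
  -- `b² ∈ U`
  have hb2 : b * b ∈ U := by
    have h1 : t * u * t⁻¹ ∈ U := W.conj_mem_U t W.t_mem_N u hu
    rw [htinv] at h1
    have : b * b = u * (t * u * t) := by rw [hb]; group
    rw [this]
    exact mul_mem hu h1
  -- `b⁹` is an involution in the coset
  obtain ⟨w, hw, e9⟩ := W.pow_coset u hu 9
  rw [← hb, W.t_pow_odd 4] at e9
  have h18 : (b * b) ^ 9 = 1 := W.exp_U _ hb2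
  have hc2 : (w * t) * (w * t) = 1 := by
    rw [← e9, ← pow_add]
    have : b ^ (9 + 9) = (b * b) ^ 9 := by rw [← pow_two, ← pow_mul]
    rw [this, h18]
  obtain ⟨v, hv, ev⟩ := W.invol_coset w hw hc2
  -- `z = v⁻¹ b² v` commutes with `t`
  have hcomm : (b * b) * b ^ 9 = b ^ 9 * (b * b) := by
    rw [← pow_two, ← pow_add, ← pow_add]
  have hz : v⁻¹ * (b * b) * v ∈ U := mul_mem (mul_mem (inv_mem hv) hb2) hv
  have hzt : (v⁻¹ * (b * b) * v) * t = t * (v⁻¹ * (b * b) * v) := by
    have h1 : (v⁻¹ * (b * b) * v) * t = v⁻¹ * ((b * b) * (v * t * v⁻¹)) * v := by group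
    have h2' : t * (v⁻¹ * (b * b) * v) = v⁻¹ * ((v * t * v⁻¹) * (b * b)) * v := by group
    rw [h1, h2', ← ev, ← e9, hcomm]
  have hz3 := W.exp_CUt _ hz hzt
  have hb6 : b ^ 6 = 1 := by
    have h1 : (v⁻¹ * (b * b) * v) ^ 3 = v⁻¹ * (b * b) ^ 3 * v := by
      have := map_pow (MulAut.conj v⁻¹).toMonoidHom (b * b) 3
      simp only [MulEquiv.toMonoidHom_eq_coe, MonoidHom.coe_coe, MulAut.conj_apply, inv_inv] at this
      exact this.symm
    rw [h1] at hz3
    have h3 : (b * b) ^ 3 = 1 := by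
      have : (b * b) ^ 3 = v * (v⁻¹ * (b * b) ^ 3 * v) * v⁻¹ := by group
      rw [this, hz3]; group
    rw [← h3, ← pow_two, ← pow_mul]
  -- `b ∉ U`, `b³ ∉ U`
  have hbU : ∀ k : ℕ, b ^ (2 * k + 1) ≠ 1 := by
    intro k hk
    obtain ⟨w', hw', e'⟩ := W.pow_coset u hu (2 * k + 1)
    rw [← hb, W.t_pow_odd k, hk] at e'
    apply W.t_not_mem_U
    have : t = w'⁻¹ := by
      have := eq_inv_of_mul_eq_one_right e'.symm
      exact this
    rw [this]
    exact inv_mem hw'
  have hdvd : orderOf b ∣ 6 := orderOf_dvd_of_pow_eq_one hb6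
  have hle : orderOf b ≤ 6 := Nat.le_of_dvd (by norm_num) hdvd
  have hpos := orderOf_pos b
  have h1 : orderOf b ≠ 1 := by
    intro h
    have := hbU 0
    rw [orderOf_eq_one_iff] at h
    rw [h] at this
    simp at this
  have h2'' : orderOf b ≠ 2 := by
    intro h
    apply h2
    rw [← pow_two, ← h, pow_orderOf_eq_one]
  have h3 : orderOf b ≠ 3 := by
    intro h
    have := hbU 1
    apply this
    show b ^ 3 = 1
    rw [← h, pow_orderOf_eq_one]
  interval_cases (orderOf b) <;> simp_all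

theorem orderOf_U_dvd (W : Ward0 q r U H t) (u : G) (hu : u ∈ U) : orderOf u ∣ 9 :=
  orderOf_dvd_of_pow_eq_one (W.exp_U u hu)

/-- the `3`-singular elements of `N(U)` -/
theorem order_cases_B (W : Ward0 q r U H t) (x : G) (hx : x ∈ Subgroup.normalizer (U : Set G))
    (h3 : 3 ∣ orderOf x) : x ∈ U ∨ ∃ u ∈ U, x = u * t ∧ (u * t) * (u * t) ≠ 1 := by
  obtain ⟨u, hu, h, hh, rfl⟩ := W.B_decomp x hx
  by_cases hh2 : h * h = 1
  · by_cases hh1 : h = 1
    · left
      rw [hh1, mul_one]; exact hu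
    · right
      have := W.eq_t_of_sq h hh hh2 hh1
      subst this
      refine ⟨u, hu, rfl, ?_⟩
      intro h2
      have : orderOf (u * h) ∣ 2 := by
        apply orderOf_dvd_of_pow_eq_one
        rw [pow_two]; exact h2
      have := dvd_trans h3 this
      norm_num at this
  · exfalso
    obtain ⟨v, hv, e⟩ := W.coset_conj h hh hh2 u hu
    rw [e, orderOf_conj''] at h3
    have h1 : orderOf h ∣ q - 1 := by
      rw [← W.card_H]; exact Subgroup.orderOf_dvd_natCard H hh
    exact W.qa.not_three_dvd_pred (dvd_trans h3 h1)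

theorem card_B3 (W : Ward0 q r U H t) :
    Nat.card {x : G // x ∈ Subgroup.normalizer (U : Set G) ∧ orderOf x = 3} = q ^ 2 - 1 := by
  have hset : {x : G | x ∈ Subgroup.normalizer (U : Set G) ∧ orderOf x = 3} =
      {u : G | u ∈ U ∧ u ^ 3 = 1} \ {1} := by
    ext x
    simp only [Set.mem_setOf_eq, Set.mem_diff, Set.mem_singleton_iff]
    constructor
    · rintro ⟨hx, ho⟩
      have h3 : x ^ 3 = 1 := by rw [← ho, pow_orderOf_eq_one]
      refine ⟨⟨W.mem_U_of_three_elt x hx 1 (by simpa using h3), h3⟩, ?_⟩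
      rintro rfl
      rw [orderOf_one] at ho
      norm_num at ho
    · rintro ⟨⟨hx, h3⟩, h1⟩
      exact ⟨W.U_le hx, orderOf_eq_prime h3 h1⟩
  have h1 : Nat.card {x : G // x ∈ Subgroup.normalizer (U : Set G) ∧ orderOf x = 3} =
      Set.ncard {x : G | x ∈ Subgroup.normalizer (U : Set G) ∧ orderOf x = 3} :=
    Nat.card_coe_set_eq _
  have h2 : Set.ncard {u : G | u ∈ U ∧ u ^ 3 = 1} = q ^ 2 := by
    rw [← W.card_U3]
    exact (Nat.card_coe_set_eq _).symm
  rw [h1, hset, Set.ncard_diff_singleton_of_mem, h2]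
  exact ⟨one_mem _, one_pow _⟩

theorem card_B9 (W : Ward0 q r U H t) :
    Nat.card {x : G // x ∈ Subgroup.normalizer (U : Set G) ∧ orderOf x = 9} = q ^ 3 - q ^ 2 := by
  have hset : {x : G | x ∈ Subgroup.normalizer (U : Set G) ∧ orderOf x = 9} =
      (U : Set G) \ {u : G | u ∈ U ∧ u ^ 3 = 1} := by
    ext x
    simp only [Set.mem_setOf_eq, Set.mem_diff, SetLike.mem_coe]
    constructor
    · rintro ⟨hx, ho⟩
      have h9 : x ^ 9 = 1 := by rw [← ho, pow_orderOf_eq_one]
      refine ⟨W.mem_U_of_three_elt x hx 2 (by simpa using h9), ?_⟩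
      rintro ⟨-, h3⟩
      have := orderOf_dvd_of_pow_eq_one h3
      rw [ho] at this
      norm_num at this
    · rintro ⟨hx, h3⟩
      refine ⟨W.U_le hx, ?_⟩
      have hd := W.orderOf_U_dvd x hx
      have hle : orderOf x ≤ 9 := Nat.le_of_dvd (by norm_num) hd
      have hpos := orderOf_pos x
      have hn3 : ¬ orderOf x ∣ 3 := by
        intro hd3
        apply h3
        refine ⟨hx, ?_⟩
        obtain ⟨c, hc⟩ := hd3
        rw [hc, pow_mul, pow_orderOf_eq_one, one_pow]
      interval_cases (orderOf x) <;> simp_all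
  have h1 : Nat.card {x : G // x ∈ Subgroup.normalizer (U : Set G) ∧ orderOf x = 9} =
      Set.ncard {x : G | x ∈ Subgroup.normalizer (U : Set G) ∧ orderOf x = 9} :=
    Nat.card_coe_set_eq _
  have h2 : Set.ncard {u : G | u ∈ U ∧ u ^ 3 = 1} = q ^ 2 := by
    rw [← W.card_U3]
    exact (Nat.card_coe_set_eq _).symm
  have h3 : Set.ncard (U : Set G) = q ^ 3 := by
    rw [← W.card_U]
    exact (Nat.card_coe_set_eq _).symm
  rw [h1, hset, Set.ncard_diff (fun x hx => hx.1) (Set.toFinite _), h2, h3]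

theorem card_B6 (W : Ward0 q r U H t) :
    Nat.card {x : G // x ∈ Subgroup.normalizer (U : Set G) ∧ orderOf x = 6} = q ^ 3 - q ^ 2 := by
  have hset : {x : G | x ∈ Subgroup.normalizer (U : Set G) ∧ orderOf x = 6} =
      (fun u => u * t) '' ((U : Set G) \ {u : G | u ∈ U ∧ (u * t) * (u * t) = 1}) := by
    ext x
    simp only [Set.mem_setOf_eq, Set.mem_image, Set.mem_diff, SetLike.mem_coe]
    constructor
    · rintro ⟨hx, ho⟩
      rcases W.order_cases_B x hx (by rw [ho]; norm_num) with h | ⟨u, hu, rfl, h2⟩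
      · exfalso
        have := W.orderOf_U_dvd x h
        rw [ho] at this
        norm_num at this
      · exact ⟨u, ⟨hu, fun h => h2 h.2⟩, rfl⟩
    · rintro ⟨u, ⟨hu, h2⟩, rfl⟩
      refine ⟨mul_mem (W.U_le hu) W.t_mem_N, W.order_six u hu (fun h => h2 ⟨hu, h⟩)⟩
  have h1 : Nat.card {x : G // x ∈ Subgroup.normalizer (U : Set G) ∧ orderOf x = 6} =
      Set.ncard {x : G | x ∈ Subgroup.normalizer (U : Set G) ∧ orderOf x = 6} :=
    Nat.card_coe_set_eq _
  have h2 : Set.ncard {u : G | u ∈ U ∧ (u * t) * (u * t) = 1} = q ^ 2 := by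
    rw [← W.card_invol_coset]
    exact (Nat.card_coe_set_eq _).symm
  have h3 : Set.ncard (U : Set G) = q ^ 3 := by
    rw [← W.card_U]
    exact (Nat.card_coe_set_eq _).symm
  rw [h1, hset, Set.ncard_image_of_injective _ (mul_left_injective t),
    Set.ncard_diff (fun x hx => hx.1) (Set.toFinite _), h2, h3]

/-- `3`-singular elements are conjugate into `N(U)` -/
theorem exists_conj_mem_NU (W : Ward0 q r U H t) (g : G) (h3 : 3 ∣ orderOf g) :
    ∃ c : G, c * g * c⁻¹ ∈ Subgroup.normalizer (U : Set G) := by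
  haveI : Fact (Nat.Prime 3) := ⟨Nat.prime_three⟩
  have hy := orderOf_pow_div g 3 Nat.prime_three h3
  have hidx : ¬ 3 ∣ U.index := by
    have h1 := U.card_mul_index
    rw [W.card_U, W.card_G, mul_assoc] at h1
    have h27 := W.qa.hq27
    have hq0 : 0 < q ^ 3 := by positivity
    have := Nat.eq_of_mul_eq_mul_left hq0 h1
    rw [this]
    exact W.three_not_dvd_index
  obtain ⟨c, hc⟩ := exists_conj_mem_of_index' U 3 hidx (g ^ (orderOf g / 3)) 1 (by simpa using hy)
  refine ⟨c, ?_⟩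
  apply W.ti_U _ _ hc
  · intro h1
    have : g ^ (orderOf g / 3) = 1 := by
      have : g ^ (orderOf g / 3) = c⁻¹ * (c * g ^ (orderOf g / 3) * c⁻¹) * c := by group
      rw [this, h1]; group
    rw [this, orderOf_one] at hy
    norm_num at hy
  · have : c * g * c⁻¹ * (c * g ^ (orderOf g / 3) * c⁻¹) * (c * g * c⁻¹)⁻¹ =
        c * (g * g ^ (orderOf g / 3) * g⁻¹) * c⁻¹ := by group
    rw [this]
    have : g * g ^ (orderOf g / 3) * g⁻¹ = g ^ (orderOf g / 3) := by
      rw [← pow_succ', pow_succ, mul_inv_cancel_right]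
    rw [this]
    exact hc

theorem three_singular_orders (W : Ward0 q r U H t) (g : G) (h3 : 3 ∣ orderOf g) :
    orderOf g = 3 ∨ orderOf g = 6 ∨ orderOf g = 9 := by
  obtain ⟨c, hc⟩ := W.exists_conj_mem_NU g h3
  rw [← orderOf_conj'' c g] at h3 ⊢
  rcases W.order_cases_B _ hc h3 with h | ⟨u, hu, e, h2⟩
  · have hd := W.orderOf_U_dvd _ h
    have hle : orderOf (c * g * c⁻¹) ≤ 9 := Nat.le_of_dvd (by norm_num) hd
    have hpos := orderOf_pos (c * g * c⁻¹)
    interval_cases (orderOf (c * g * c⁻¹)) <;> simp_all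
  · right; left
    rw [e]
    exact W.order_six u hu h2

/-- counting the `3`-singular elements of a given order -/
theorem card_three_singular (W : Ward0 q r U H t) (d : ℕ) (hd : 3 ∣ d) (hd0 : 0 < d) :
    Nat.card {g : G // orderOf g = d} * (q ^ 3 * (q - 1)) =
      (q ^ 3 * (q - 1) * (q ^ 3 + 1)) *
        Nat.card {x : G // x ∈ Subgroup.normalizer (U : Set G) ∧ orderOf x = d} := by
  have key := card_conj_union (Subgroup.normalizer (U : Set G))
    {x : G | x ∈ Subgroup.normalizer (U : Set G) ∧ orderOf x = d} ?_ ?_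
  · rw [W.card_NU, W.card_G] at key
    have key' : Nat.card {y : G // ∃ g : G, ∃ x ∈ {x : G | x ∈ Subgroup.normalizer (U : Set G) ∧
        orderOf x = d}, y = g * x * g⁻¹} * (q ^ 3 * (q - 1)) =
      (q ^ 3 * (q - 1) * (q ^ 3 + 1)) *
        Nat.card {x : G // x ∈ Subgroup.normalizer (U : Set G) ∧ orderOf x = d} := key
    rw [← key']
    congr 1
    apply Nat.card_congr
    apply Equiv.subtypeEquivRight
    intro y
    constructor
    · intro hy
      obtain ⟨c, hc⟩ := W.exists_conj_mem_NU y (by rw [hy]; exact hd)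
      refine ⟨c⁻¹, c * y * c⁻¹, ⟨hc, ?_⟩, ?_⟩
      · rw [orderOf_conj'', hy]
      · group
    · rintro ⟨g, x, ⟨-, hx⟩, rfl⟩
      rw [orderOf_conj'', hx]
  · rintro n hn x ⟨hx, ho⟩
    refine ⟨mul_mem (mul_mem (inv_mem hn) hx) hn, ?_⟩
    have := orderOf_conj'' n⁻¹ x
    rw [inv_inv] at this
    rw [this, ho]
  · rintro g x ⟨hx, ho⟩ ⟨hgx, -⟩
    obtain ⟨e, rfl⟩ := hd
    have hy3 : (x ^ e) ^ 3 = 1 := by rw [← pow_mul, mul_comm, ← ho, pow_orderOf_eq_one]
    have hyU : x ^ e ∈ U := W.mem_U_of_three_elt _ (pow_mem hx e) 1 (by simpa using hy3)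
    have hy1 : x ^ e ≠ 1 := by
      intro h1
      have := orderOf_dvd_of_pow_eq_one h1
      rw [ho] at this
      have := Nat.le_of_dvd (by omega) this
      omega
    have hgy : g * x ^ e * g⁻¹ = (g * x * g⁻¹) ^ e := by
      have := map_pow (MulAut.conj g).toMonoidHom x e
      simpa using this
    have hgyU : g * x ^ e * g⁻¹ ∈ U := by
      rw [hgy]
      apply W.mem_U_of_three_elt _ (pow_mem hgx e) 1
      rw [← hgy]
      have : (g * x ^ e * g⁻¹) ^ 3 ^ 1 = g * (x ^ e) ^ 3 * g⁻¹ := by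
        have := map_pow (MulAut.conj g).toMonoidHom (x ^ e) 3
        simpa using this.symm
      rw [this, hy3]; group
    exact W.ti_U g _ hyU hy1 hgyU

end Ward0

end Cfsg.Agent.Lib.Helper1.RW
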