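import Mathlib
import Cfsg.Agent.Lib.Helper1.RW4

/-!
Ward's analysis of the Ree groups `²G₂(q)`, part 5: involutions and the torus `H`.
-/

set_option autoImplicit false
set_option maxHeartbeats 4000000
set_option linter.unusedVariables false
set_option linter.unusedSectionVars false
set_option linter.style.longLine false
set_option linter.unusedSimpArgs false

namespace Cfsg.Agent.Lib.Helper1.RW

universe u

section general

variable {G : Type u} [Group G]

/-- elements of a given order in a cyclic subgroup -/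
theorem card_orderOf_cyclic [Finite G] (A : Subgroup G) (hA : IsCyclic A) (i : ℕ)
    (hi : i ∣ Nat.card A) : Nat.card {x : G // x ∈ A ∧ orderOf x = i} = Nat.totient i := by
  classical
  letI : Fintype A := Fintype.ofFinite A
  have h1 : Nat.card {x : G // x ∈ A ∧ orderOf x = i} = Nat.card {a : A // orderOf a = i} := by
    apply Nat.card_congr
    refine ⟨fun x => ⟨⟨x.1, x.2.1⟩, ?_⟩, fun a => ⟨a.1.1, a.1.2, ?_⟩, ?_, ?_⟩
    · rw [← Subgroup.orderOf_coe]; exact x.2.2
    · have := a.2
      rw [← Subgroup.orderOf_coe] at this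
      exact this
    · intro x; rfl
    · intro a; rfl
  rw [h1, Nat.card_eq_fintype_card, Fintype.card_subtype]
  apply IsCyclic.card_orderOf_eq_totient
  rw [← Nat.card_eq_fintype_card]; exact hi

/-- elements of a cyclic subgroup commute -/
theorem comm_of_cyclic (A : Subgroup G) (hA : IsCyclic A) (x y : G) (hx : x ∈ A) (hy : y ∈ A) :
    x * y = y * x := by
  letI := IsCyclic.commGroup (α := A)
  have := mul_comm (⟨x, hx⟩ : A) ⟨y, hy⟩
  exact congrArg Subtype.val this

/-- a number `> 2` dividing `2 * odd` has an odd prime factor -/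
theorem exists_odd_prime_dvd (i m : ℕ) (hi : 2 < i) (hd : i ∣ 2 * m) (hm : m % 2 = 1) :
    ∃ p : ℕ, p.Prime ∧ p ≠ 2 ∧ p ∣ i := by
  rcases Nat.eq_two_pow_or_exists_odd_prime_and_dvd i with ⟨k, hk⟩ | ⟨p, hp, hpd, hodd⟩
  · exfalso
    have hk2 : 2 ≤ k := by
      by_contra hlt
      push_neg at hlt
      interval_cases k <;> omega
    have h4 : 4 ∣ i := by
      rw [hk]
      have : (4 : ℕ) = 2 ^ 2 := by norm_num
      rw [this]
      exact pow_dvd_pow 2 hk2
    have := dvd_trans h4 hd
    omega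
  · refine ⟨p, hp, ?_, hpd⟩
    rintro rfl
    exact (by decide : ¬ Odd 2) hodd

end general

namespace Ward0

variable {G : Type u} [Group G] [Finite G] {q r : ℕ} {U H : Subgroup G} {t : G}

theorem orderOf_t (W : Ward0 q r U H t) : orderOf t = 2 :=
  orderOf_eq_prime (by rw [pow_two]; exact W.t_sq) W.t_ne

/-- the number of involutions -/
theorem card_invol (W : Ward0 q r U H t) :
    Nat.card {g : G // orderOf g = 2} * (q * (q ^ 2 - 1)) = q ^ 3 * (q - 1) * (q ^ 3 + 1) := by
  have key := card_conj_union (Subgroup.centralizer ({t} : Set G)) ({t} : Set G) ?_ ?_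
  · rw [W.card_Ct, W.card_G] at key
    have h1 : Nat.card ({t} : Set G) = 1 := by
      rw [Nat.card_coe_set_eq, Set.ncard_singleton]
    rw [h1, mul_one] at key
    rw [← key]
    congr 1
    apply Nat.card_congr
    apply Equiv.subtypeEquivRight
    intro y
    constructor
    · intro hy
      have hy2 : y * y = 1 := by rw [← pow_two, ← hy, pow_orderOf_eq_one]
      have hy1 : y ≠ 1 := by
        rintro rfl
        rw [orderOf_one] at hy
        norm_num at hy
      obtain ⟨g, hg⟩ := W.invol_conj y hy2 hy1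
      exact ⟨g, t, rfl, hg⟩
    · rintro ⟨g, x, hx, rfl⟩
      rw [Set.mem_singleton_iff] at hx
      rw [hx, orderOf_conj'', W.orderOf_t]
  · intro n hn x hx
    rw [Set.mem_singleton_iff] at hx ⊢
    rw [hx]
    rw [mem_cent_iff] at hn
    have : n⁻¹ * t * n = n⁻¹ * (t * n) := by group
    rw [this, hn]; group
  · intro g x hx hgx
    rw [Set.mem_singleton_iff] at hx hgx
    rw [hx] at hgx
    rw [mem_cent_iff]
    have : t * g = (g * t * g⁻¹) * g := by rw [hgx]
    rw [this]; group

theorem H_comm (W : Ward0 q r U H t) (x y : G) (hx : x ∈ H) (hy : y ∈ H) : x * y = y * x :=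
  comm_of_cyclic H W.cyc_H x y hx hy

theorem index_H (W : Ward0 q r U H t) : H.index = q ^ 3 * (q ^ 3 + 1) := by
  have h1 := H.card_mul_index
  rw [W.card_H, W.card_G] at h1
  have h27 := W.qa.hq27
  have : (q - 1) * H.index = (q - 1) * (q ^ 3 * (q ^ 3 + 1)) := by rw [h1]; ring
  exact Nat.eq_of_mul_eq_mul_left (by omega) this

/-- an element whose order is divisible by an odd prime divisor of `q - 1` is conjugate into `H` -/
theorem conj_into_H (W : Ward0 q r U H t) (g : G) (p : ℕ) (hp : p.Prime) (hp2 : p ≠ 2)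
    (hpq : p ∣ q - 1) (hpg : p ∣ orderOf g) : ∃ c : G, c * g * c⁻¹ ∈ H := by
  haveI : Fact p.Prime := ⟨hp⟩
  have hy := orderOf_pow_div g p hp hpg
  have hidx : ¬ p ∣ H.index := by
    rw [W.index_H, W.qa.cube_add_one']
    intro hd
    rcases (hp.dvd_mul).mp hd with h1 | h1
    · have h2 := hp.dvd_of_dvd_pow h1
      have := Nat.dvd_gcd h2 hpq
      rw [W.qa.coprime_q_pred.gcd_eq_one, Nat.dvd_one] at this
      exact hp.one_lt.ne' this
    · rcases (hp.dvd_mul).mp h1 with h2 | h2
      · exact W.qa.not_dvd_both hp hp2 hpq h2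
      · have := Nat.dvd_gcd h2 hpq
        rw [W.qa.coprime_n0_pred.gcd_eq_one, Nat.dvd_one] at this
        exact hp.one_lt.ne' this
  obtain ⟨c, hc⟩ := exists_conj_mem_of_index' H p hidx (g ^ (orderOf g / p)) 1 (by simpa using hy)
  refine ⟨c, ?_⟩
  have ho : orderOf (c * g ^ (orderOf g / p) * c⁻¹) = p := by rw [orderOf_conj'', hy]
  have hsq : (c * g ^ (orderOf g / p) * c⁻¹) * (c * g ^ (orderOf g / p) * c⁻¹) ≠ 1 := by
    intro h
    have : orderOf (c * g ^ (orderOf g / p) * c⁻¹) ∣ 2 := by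
      apply orderOf_dvd_of_pow_eq_one
      rw [pow_two]; exact h
    rw [ho] at this
    exact hp2 ((Nat.prime_dvd_prime_iff_eq hp Nat.prime_two).mp this)
  rw [← W.cent_H _ hc hsq, mem_cent_iff]
  have e1 : c * g ^ (orderOf g / p) * c⁻¹ * (c * g * c⁻¹) =
      c * (g ^ (orderOf g / p) * g) * c⁻¹ := by group
  have e2 : c * g * c⁻¹ * (c * g ^ (orderOf g / p) * c⁻¹) =
      c * (g * g ^ (orderOf g / p)) * c⁻¹ := by group
  rw [e1, e2, ← pow_succ, ← pow_succ']

theorem sq_conj_ne (g h : G) (hh2 : h * h ≠ 1) : (g * h * g⁻¹) * (g * h * g⁻¹) ≠ 1 := by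
  intro e
  apply hh2
  have : h * h = g⁻¹ * ((g * h * g⁻¹) * (g * h * g⁻¹)) * g := by group
  rw [this, e]; group

/-- the TI property of `H` -/
theorem H_ti (W : Ward0 q r U H t) (h : G) (hh : h ∈ H) (hh2 : h * h ≠ 1) (g : G)
    (hg : g * h * g⁻¹ ∈ H) : g ∈ Subgroup.normalizer (H : Set G) :=
  mem_normalizer_of_cent H h g (W.cent_H h hh hh2) (W.cent_H _ hg (sq_conj_ne g h hh2))

theorem sq_ne_of_order (x : G) (hx : 2 < orderOf x) : x * x ≠ 1 := by
  intro h
  have : orderOf x ∣ 2 := by
    apply orderOf_dvd_of_pow_eq_one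
    rw [pow_two]; exact h
  have := Nat.le_of_dvd (by norm_num) this
  omega

/-- the number of elements of order `i > 2`, `i ∣ q - 1` -/
theorem card_order_H (W : Ward0 q r U H t) (i : ℕ) (hi : 2 < i) (hd : i ∣ q - 1) :
    Nat.card {g : G // orderOf g = i} * (2 * (q - 1)) =
      q ^ 3 * (q - 1) * (q ^ 3 + 1) * Nat.totient i := by
  have key := card_conj_union (Subgroup.normalizer (H : Set G))
    {x : G | x ∈ H ∧ orderOf x = i} ?_ ?_
  · rw [W.card_NH, W.card_G] at key
    have h1 : Nat.card {x : G | x ∈ H ∧ orderOf x = i} = Nat.totient i :=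
      card_orderOf_cyclic H W.cyc_H i (by rw [W.card_H]; exact hd)
    rw [h1] at key
    rw [← key]
    congr 1
    apply Nat.card_congr
    apply Equiv.subtypeEquivRight
    intro y
    constructor
    · intro hy
      obtain ⟨p, hp, hp2, hpi⟩ := exists_odd_prime_dvd i ((q - 1) / 2) hi
        (by rw [← W.qa.half_pred.1]; exact hd) W.qa.half_pred.2
      obtain ⟨c, hc⟩ := W.conj_into_H y p hp hp2 (dvd_trans hpi hd) (by rw [hy]; exact hpi)
      refine ⟨c⁻¹, c * y * c⁻¹, ⟨hc, ?_⟩, ?_⟩
      · rw [orderOf_conj'', hy]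
      · group
    · rintro ⟨g, x, ⟨-, hx⟩, rfl⟩
      rw [orderOf_conj'', hx]
  · rintro n hn x ⟨hx, ho⟩
    refine ⟨?_, ?_⟩
    · have := (Subgroup.mem_normalizer_iff.mp (inv_mem hn) x).mp hx
      rwa [inv_inv] at this
    · have := orderOf_conj'' n⁻¹ x
      rw [inv_inv] at this
      rw [this, ho]
  · rintro g x ⟨hx, ho⟩ ⟨hgx, -⟩
    exact W.H_ti x hx (sq_ne_of_order x (by rw [ho]; exact hi)) g hgx

end Ward0

end Cfsg.Agent.Lib.Helper1.RW
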