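import Mathlib
import Cfsg.Agent.Lib.Helper1.RW5

/-!
Ward's analysis of the Ree groups `²G₂(q)`, part 6: general lemmas (orbits under conjugation,
commutative groups of order `4 * odd`).
-/

set_option autoImplicit false
set_option maxHeartbeats 4000000
set_option linter.unusedVariables false
set_option linter.unusedSectionVars false
set_option linter.style.longLine false
set_option linter.unusedSimpArgs false

namespace Cfsg.Agent.Lib.Helper1.RW

universe u

section orbits

variable {G : Type u} [Group G] [Finite G]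

/-- if all the centralisers in `Γ` of the elements of a `Γ`-invariant set `Ω` have index `c` in
`Γ`, then `c` divides `|Ω|` -/
theorem dvd_card_of_conj_action (Γ : Subgroup G) (Ω : Set G)
    (hΩ : ∀ n ∈ Γ, ∀ x ∈ Ω, n * x * n⁻¹ ∈ Ω) (c : ℕ)
    (hc : ∀ x ∈ Ω, Nat.card {n : G // n ∈ Γ ∧ n * x = x * n} * c = Nat.card Γ) :
    c ∣ Nat.card Ω := by
  classical
  letI : MulAction Γ Ω :=
    { smul := fun n x => ⟨(n : G) * (x : G) * (n : G)⁻¹, hΩ n n.2 x x.2⟩
      one_smul := fun x => Subtype.ext (by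
        show ((1 : Γ) : G) * (x : G) * ((1 : Γ) : G)⁻¹ = x
        rw [Subgroup.coe_one]; group)
      mul_smul := fun a b x => Subtype.ext (by
        show ((a * b : Γ) : G) * (x : G) * ((a * b : Γ) : G)⁻¹ =
          (a : G) * ((b : G) * (x : G) * (b : G)⁻¹) * (a : G)⁻¹
        rw [Subgroup.coe_mul]; group) }
  have hsm : ∀ (n : Γ) (x : Ω), ((n • x : Ω) : G) = (n : G) * (x : G) * (n : G)⁻¹ :=
    fun _ _ => rfl
  have horb : ∀ x : Ω, Nat.card (MulAction.orbit Γ x) = c := by
    intro x
    have h1 := (MulAction.stabilizer Γ x).card_mul_index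
    rw [MulAction.index_stabilizer, ← Nat.card_coe_set_eq] at h1
    have h2 : Nat.card (MulAction.stabilizer Γ x) =
        Nat.card {n : G // n ∈ Γ ∧ n * (x : G) = (x : G) * n} := by
      apply Nat.card_congr
      refine ⟨fun n => ⟨((n : Γ) : G), (n : Γ).2, ?_⟩, fun n => ⟨⟨n.1, n.2.1⟩, ?_⟩, ?_, ?_⟩
      · have := n.2
        rw [MulAction.mem_stabilizer_iff] at this
        have e : ((n : Γ) : G) * (x : G) * ((n : Γ) : G)⁻¹ = x := by
          rw [← hsm, this]
        have : ((n : Γ) : G) * (x : G) = ((n : Γ) : G) * (x : G) * ((n : Γ) : G)⁻¹ * ((n : Γ) : G) := by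
          group
        rw [this, e]
      · rw [MulAction.mem_stabilizer_iff]
        apply Subtype.ext
        rw [hsm]
        show n.1 * (x : G) * n.1⁻¹ = x
        rw [n.2.2]; group
      · intro n; rfl
      · intro n; rfl
    have h3 := hc x x.2
    rw [← h1, h2] at h3
    have hpos : 0 < Nat.card {n : G // n ∈ Γ ∧ n * (x : G) = (x : G) * n} := by
      haveI : Nonempty {n : G // n ∈ Γ ∧ n * (x : G) = (x : G) * n} :=
        ⟨⟨1, one_mem _, by simp⟩⟩
      exact Nat.card_pos
    exact (Nat.eq_of_mul_eq_mul_left hpos h3).symm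
  letI : Fintype (Quotient (MulAction.orbitRel Γ Ω)) := Fintype.ofFinite _
  rw [Nat.card_congr (MulAction.selfEquivSigmaOrbits Γ Ω), Nat.card_sigma]
  simp only [horb, Finset.sum_const, smul_eq_mul]
  exact Dvd.intro_left _ rfl

end orbits

section pgroups

variable {G : Type u} [Group G] [Finite G]

/-- if the Sylow `p`-subgroups are cyclic then so are all the `p`-subgroups -/
theorem isCyclic_of_isPGroup (p : ℕ) [Fact p.Prime]
    (hG : ∀ P : Sylow p G, IsCyclic (P : Subgroup G)) (Q : Subgroup G) (hQ : IsPGroup p Q) :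
    IsCyclic Q := by
  obtain ⟨P, hP⟩ := hQ.exists_le_sylow
  haveI := hG P
  have e := Subgroup.subgroupOfEquivOfLe hP
  exact isCyclic_of_surjective e.toMonoidHom e.surjective

/-- the same, inside a subgroup -/
theorem isCyclic_of_isPGroup_sub (p : ℕ) [Fact p.Prime]
    (hG : ∀ P : Sylow p G, IsCyclic (P : Subgroup G)) (M : Subgroup G) (Q : Subgroup M)
    (hQ : IsPGroup p Q) : IsCyclic Q := by
  haveI := isCyclic_of_isPGroup p hG (Q.map M.subtype) (hQ.map M.subtype)
  have e := Subgroup.equivMapOfInjective Q M.subtype M.subtype_injective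
  exact isCyclic_of_surjective e.symm.toMonoidHom e.symm.surjective

end pgroups

section comm

variable {A : Type u} [CommGroup A] [Finite A]

/-- the elements of order at most `2` -/
def sqKer (A : Type u) [CommGroup A] : Subgroup A := (powMonoidHom 2 : A →* A).ker

theorem mem_sqKer (x : A) : x ∈ sqKer A ↔ x ^ 2 = 1 := by
  rw [sqKer, MonoidHom.mem_ker, powMonoidHom_apply]

/-- the elements of order dividing `n` -/
def powKer (A : Type u) [CommGroup A] (n : ℕ) : Subgroup A := (powMonoidHom n : A →* A).ker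

theorem mem_powKer (n : ℕ) (x : A) : x ∈ powKer A n ↔ x ^ n = 1 := by
  rw [powKer, MonoidHom.mem_ker, powMonoidHom_apply]

theorem eq_one_of_pow_two_of_pow_odd (x : A) (n : ℕ) (hn : n % 2 = 1) (h2 : x ^ 2 = 1)
    (hx : x ^ n = 1) : x = 1 := by
  have h1 : orderOf x ∣ 2 := orderOf_dvd_of_pow_eq_one h2
  have h3 : orderOf x ∣ n := orderOf_dvd_of_pow_eq_one hx
  have h4 : Nat.Coprime 2 n := by
    rw [Nat.coprime_two_left]
    exact Nat.odd_iff.mpr hn
  have := Nat.dvd_gcd h1 h3
  rw [h4.gcd_eq_one, Nat.dvd_one] at this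
  exact orderOf_eq_one_iff.mp this

variable (o₁ : ℕ) (ho : o₁ % 2 = 1) (hcard : Nat.card A = 4 * o₁)
  (h4 : ∀ x : A, x ^ 4 = 1 → x ^ 2 = 1)

include ho hcard h4 in
theorem card_sqKer : Nat.card (sqKer A) = 4 := by
  haveI : Fact (Nat.Prime 2) := ⟨Nat.prime_two⟩
  have hp : IsPGroup 2 (sqKer A) := by
    intro x
    refine ⟨1, ?_⟩
    have := (mem_sqKer (x : A)).mp x.2
    apply Subtype.ext
    rw [pow_one]
    exact this
  obtain ⟨j, hj⟩ := IsPGroup.iff_card.mp hp
  have hd : 2 ^ j ∣ 4 * o₁ := by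
    rw [← hj, ← hcard]; exact Subgroup.card_subgroup_dvd_card _
  have hcop : Nat.Coprime (2 ^ j) o₁ := by
    apply Nat.Coprime.pow_left
    rw [Nat.coprime_two_left]
    exact Nat.odd_iff.mpr ho
  have hd4 : 2 ^ j ∣ 4 := hcop.dvd_of_dvd_mul_right hd
  obtain ⟨S, hS⟩ := Sylow.exists_subgroup_card_pow_prime (G := A) 2 (n := 2)
    (by rw [hcard]; exact Dvd.intro _ rfl)
  have hSE : S ≤ sqKer A := by
    intro x hx
    rw [mem_sqKer]
    apply h4
    have h5 : (⟨x, hx⟩ : S) ^ Nat.card S = 1 := pow_card_eq_one'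
    rw [hS] at h5
    have h6 := congrArg Subtype.val h5
    simpa using h6
  have h4d : 4 ∣ Nat.card (sqKer A) := by
    have := Subgroup.card_dvd_of_le hSE
    rw [hS] at this
    exact this
  rw [hj] at h4d ⊢
  exact Nat.dvd_antisymm hd4 h4d

include ho hcard h4 in
theorem card_powKer : Nat.card (powKer A o₁) = o₁ := by
  haveI : Fact (Nat.Prime 2) := ⟨Nat.prime_two⟩
  have ho0 : 0 < o₁ := by omega
  -- the order is odd
  have hodd : ¬ 2 ∣ Nat.card (powKer A o₁) := by
    intro h2
    obtain ⟨x, hx⟩ := exists_prime_orderOf_dvd_card' 2 h2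
    have hx2 : (x : A) ^ 2 = 1 := by
      rw [← Subgroup.orderOf_coe] at hx
      rw [← hx, pow_orderOf_eq_one]
    have hxo : (x : A) ^ o₁ = 1 := (mem_powKer o₁ (x : A)).mp x.2
    have := eq_one_of_pow_two_of_pow_odd (x : A) o₁ ho hx2 hxo
    rw [← Subgroup.orderOf_coe, this, orderOf_one] at hx
    norm_num at hx
  have hd : Nat.card (powKer A o₁) ∣ 4 * o₁ := by
    rw [← hcard]; exact Subgroup.card_subgroup_dvd_card _
  have hcop : Nat.Coprime (Nat.card (powKer A o₁)) 4 := by
    have : (4 : ℕ) = 2 ^ 2 := by norm_num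
    rw [this]
    apply Nat.Coprime.pow_right
    rw [Nat.coprime_comm, Nat.Prime.coprime_iff_not_dvd Nat.prime_two]
    exact hodd
  have hd1 : Nat.card (powKer A o₁) ∣ o₁ := hcop.dvd_of_dvd_mul_left hd
  -- the image of the fourth power map
  let f : A →* A := powMonoidHom 4
  have hker : Nat.card f.ker = 4 := by
    have : f.ker = sqKer A := by
      ext x
      rw [MonoidHom.mem_ker, mem_sqKer, powMonoidHom_apply]
      constructor
      · exact h4 x
      · intro h
        have : x ^ 4 = (x ^ 2) ^ 2 := by rw [← pow_mul]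
        rw [this, h, one_pow]
    rw [this]
    exact card_sqKer o₁ ho hcard h4
  have hrange : Nat.card f.range = o₁ := by
    have h1 := f.ker.card_mul_index
    rw [Subgroup.index_ker, hker, hcard] at h1
    exact Nat.eq_of_mul_eq_mul_left (by norm_num) h1
  have hle : f.range ≤ powKer A o₁ := by
    rintro y ⟨x, rfl⟩
    rw [mem_powKer, powMonoidHom_apply, ← pow_mul, ← hcard]
    exact pow_card_eq_one'
  have hd2 : o₁ ∣ Nat.card (powKer A o₁) := by
    have := Subgroup.card_dvd_of_le hle
    rw [hrange] at this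
    exact this
  exact Nat.dvd_antisymm hd1 hd2

include ho hcard h4 in
theorem isCyclic_powKer
    (hz : ∀ p : ℕ, ∀ [Fact p.Prime], p ≠ 2 → ∀ P : Subgroup A, IsPGroup p P → IsCyclic P) :
    IsCyclic (powKer A o₁) := by
  have hcardO := card_powKer o₁ ho hcard h4
  haveI : IsZGroup (powKer A o₁) := by
    constructor
    intro p hp P
    by_cases hp2 : p = 2
    · subst hp2
      have h1 := P.card_eq_multiplicity
      have h2 : (Nat.card (powKer A o₁)).factorization 2 = 0 := by
        apply Nat.factorization_eq_zero_of_not_dvd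
        rw [hcardO]; omega
      rw [h2, pow_zero] at h1
      haveI : Subsingleton (P : Subgroup (powKer A o₁)) :=
        (Nat.card_eq_one_iff_unique.mp h1).1
      exact isCyclic_of_subsingleton
    · have h1 : IsPGroup p ((P : Subgroup (powKer A o₁)).map (powKer A o₁).subtype) :=
        P.isPGroup'.map _
      haveI : Fact p.Prime := ⟨hp⟩
      haveI := hz p hp2 _ h1
      have e := Subgroup.equivMapOfInjective (P : Subgroup (powKer A o₁)) (powKer A o₁).subtype
        (powKer A o₁).subtype_injective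
      exact isCyclic_of_surjective e.symm.toMonoidHom e.symm.surjective
  infer_instance

include ho hcard h4 in
/-- elements of odd order `i ∣ o₁` -/
theorem card_orderOf_odd
    (hz : ∀ p : ℕ, ∀ [Fact p.Prime], p ≠ 2 → ∀ P : Subgroup A, IsPGroup p P → IsCyclic P)
    (i : ℕ) (hi : i ∣ o₁) : Nat.card {x : A // orderOf x = i} = Nat.totient i := by
  have hcyc := isCyclic_powKer o₁ ho hcard h4 hz
  have hcardO := card_powKer o₁ ho hcard h4
  rw [← card_orderOf_cyclic (powKer A o₁) hcyc i (by rw [hcardO]; exact hi)]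
  apply Nat.card_congr
  apply Equiv.subtypeEquivRight
  intro x
  constructor
  · intro hx
    refine ⟨?_, hx⟩
    rw [mem_powKer]
    obtain ⟨c, rfl⟩ := hi
    rw [← hx, pow_mul, pow_orderOf_eq_one, one_pow]
  · exact fun h => h.2

include ho hcard h4 in
theorem card_orderOf_two : Nat.card {x : A // orderOf x = 2} = 3 := by
  have h1 := card_sqKer o₁ ho hcard h4
  have hset : {x : A | orderOf x = 2} = (sqKer A : Set A) \ {1} := by
    ext x
    simp only [Set.mem_setOf_eq, Set.mem_diff, SetLike.mem_coe, Set.mem_singleton_iff, mem_sqKer]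
    constructor
    · intro hx
      refine ⟨by rw [← hx, pow_orderOf_eq_one], ?_⟩
      rintro rfl
      rw [orderOf_one] at hx
      norm_num at hx
    · rintro ⟨h2, h1⟩
      exact orderOf_eq_prime h2 h1
  have h2 : Nat.card {x : A // orderOf x = 2} = Set.ncard {x : A | orderOf x = 2} :=
    Nat.card_coe_set_eq _
  have h3 : Set.ncard (sqKer A : Set A) = 4 := by
    rw [← h1]; exact (Nat.card_coe_set_eq _).symm
  rw [h2, hset, Set.ncard_diff_singleton_of_mem (one_mem _), h3]

include ho hcard h4 in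
/-- elements of order `2 i`, `i ∣ o₁` -/
theorem card_orderOf_two_mul
    (hz : ∀ p : ℕ, ∀ [Fact p.Prime], p ≠ 2 → ∀ P : Subgroup A, IsPGroup p P → IsCyclic P)
    (i : ℕ) (hi : i ∣ o₁) : Nat.card {x : A // orderOf x = 2 * i} = 3 * Nat.totient i := by
  have ho0 : 0 < o₁ := by omega
  have hi0 : 0 < i := Nat.pos_of_dvd_of_pos hi ho0
  have hiodd : i % 2 = 1 := by
    obtain ⟨c, hc⟩ := hi
    by_contra h
    have : i % 2 = 0 := by omega
    have : o₁ % 2 = 0 := by
      rw [hc, Nat.mul_mod, this]; simp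
    omega
  have hcop : Nat.Coprime 2 i := by
    rw [Nat.coprime_two_left]
    exact Nat.odd_iff.mpr hiodd
  rw [← card_orderOf_two o₁ ho hcard h4, ← card_orderOf_odd o₁ ho hcard h4 hz i hi, ← Nat.card_prod]
  symm
  apply Nat.card_congr
  refine Equiv.ofBijective (fun p => ⟨(p.1 : A) * (p.2 : A), ?_⟩) ⟨?_, ?_⟩
  · have h1 : orderOf (p.1 : A) = 2 := p.1.2
    have h2 : orderOf (p.2 : A) = i := p.2.2
    rw [(Commute.all (p.1 : A) (p.2 : A)).orderOf_mul_eq_mul_orderOf_of_coprime (by rw [h1, h2]; exact hcop),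
      h1, h2]
  · rintro ⟨⟨e, he⟩, ⟨o, ho'⟩⟩ ⟨⟨e', he'⟩, ⟨o', ho''⟩⟩ h
    have h1 : e * o = e' * o' := congrArg Subtype.val h
    have hz1 : (e'⁻¹ * e) ^ 2 = 1 := by
      rw [mul_pow, inv_pow]
      have : e ^ 2 = 1 := by rw [← he, pow_orderOf_eq_one]
      have : e' ^ 2 = 1 := by rw [← he', pow_orderOf_eq_one]
      simp [*]
    have hz2 : (e'⁻¹ * e) ^ i = 1 := by
      have : e'⁻¹ * e = o' * o⁻¹ := by
        have : e'⁻¹ * e = e'⁻¹ * (e * o) * o⁻¹ := by group
        rw [this, h1]; group
      rw [this, mul_pow, inv_pow]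
      have : o ^ i = 1 := by rw [← ho', pow_orderOf_eq_one]
      have : o' ^ i = 1 := by rw [← ho'', pow_orderOf_eq_one]
      simp [*]
    have hz3 := eq_one_of_pow_two_of_pow_odd _ i hiodd hz1 hz2
    have hee : e = e' := by
      have : e = e' * (e'⁻¹ * e) := by group
      rw [this, hz3, mul_one]
    subst hee
    have hoo : o = o' := mul_left_cancel h1
    subst hoo
    rfl
  · rintro ⟨x, hx⟩
    have hx2i : x ^ (2 * i) = 1 := by rw [← hx, pow_orderOf_eq_one]
    have he2 : (x ^ i) ^ 2 = 1 := by rw [← pow_mul, mul_comm]; exact hx2i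
    have he1 : x ^ i ≠ 1 := by
      intro h
      have := orderOf_dvd_of_pow_eq_one h
      rw [hx] at this
      have := Nat.le_of_dvd hi0 this
      omega
    have heo : orderOf (x ^ i) = 2 := orderOf_eq_prime he2 he1
    have hoi : (x ^ (i + 1)) ^ i = 1 := by
      obtain ⟨c, hc⟩ : ∃ c, i + 1 = 2 * c := ⟨(i + 1) / 2, by omega⟩
      rw [← pow_mul, hc]
      have : 2 * c * i = 2 * i * c := by ring
      rw [this, pow_mul, hx2i, one_pow]
    have hmul : x ^ i * x ^ (i + 1) = x := by
      rw [← pow_add]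
      have : i + (i + 1) = 2 * i + 1 := by ring
      rw [this, pow_succ, hx2i, one_mul]
    have hoo : orderOf (x ^ (i + 1)) = i := by
      have hd : orderOf (x ^ (i + 1)) ∣ i := orderOf_dvd_of_pow_eq_one hoi
      have hc' : Nat.Coprime (orderOf (x ^ i)) (orderOf (x ^ (i + 1))) := by
        rw [heo]
        exact Nat.Coprime.coprime_dvd_right hd hcop
      have := (Commute.all (x ^ i) (x ^ (i + 1))).orderOf_mul_eq_mul_orderOf_of_coprime hc'
      rw [hmul, hx, heo] at this
      exact (Nat.eq_of_mul_eq_mul_left (by norm_num) this).symm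
    refine ⟨(⟨x ^ i, heo⟩, ⟨x ^ (i + 1), hoo⟩), ?_⟩
    exact Subtype.ext hmul

end comm

end Cfsg.Agent.Lib.Helper1.RW
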