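import Mathlib
import Cfsg.Agent.Lib.Helper1.RW6

/-!
Ward's analysis of the Ree groups `²G₂(q)`, part 7: the subgroups `M ≅ 2² × Z_{(q+1)/4}`.
-/

set_option autoImplicit false
set_option maxHeartbeats 4000000
set_option linter.unusedVariables false
set_option linter.unusedSectionVars false
set_option linter.style.longLine false
set_option linter.unusedSimpArgs false

namespace Cfsg.Agent.Lib.Helper1.RW

universe u

/-- centralisers of elements of odd prime order dividing `q + 1` -/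
def IsM {G : Type u} [Group G] (q : ℕ) (M : Subgroup G) : Prop :=
  ∃ (y : G) (p : ℕ), p.Prime ∧ p ∣ (q + 1) / 4 ∧ orderOf y = p ∧
    M = Subgroup.centralizer ({y} : Set G)

namespace Ward0

variable {G : Type u} [Group G] [Finite G] {q r : ℕ} {U H : Subgroup G} {t : G}

theorem card_cent_invol (W : Ward0 q r U H t) (x : G) (hx2 : x * x = 1) (hx1 : x ≠ 1) :
    Nat.card (Subgroup.centralizer ({x} : Set G)) = q * (q ^ 2 - 1) := by
  obtain ⟨g, rfl⟩ := W.invol_conj x hx2 hx1
  rw [cent_conj, card_map_conj', W.card_Ct]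

theorem card_pos' (W : Ward0 q r U H t) : 0 < q ^ 3 * (q - 1) * (q ^ 3 + 1) := by
  have := W.qa.hq27
  have h1 : 0 < q - 1 := by omega
  positivity

theorem quarter_ge (W : Ward0 q r U H t) : 7 ≤ (q + 1) / 4 := by
  have := W.qa.hq27
  omega

/-- an element of prime order `p ∣ (q + 1) / 4` exists -/
theorem exists_isM (W : Ward0 q r U H t) : ∃ M : Subgroup G, IsM q M := by
  have h7 := W.quarter_ge
  obtain ⟨p, hp, hpd⟩ := Nat.exists_prime_and_dvd (show (q + 1) / 4 ≠ 1 by omega)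
  haveI : Fact p.Prime := ⟨hp⟩
  have hpG : p ∣ Nat.card G := by
    rw [W.card_G, W.qa.cube_add_one']
    have h1 : p ∣ q + 1 := by
      rw [W.qa.quarter_succ.1]
      exact Dvd.dvd.mul_left hpd 4
    exact Dvd.dvd.mul_left (Dvd.dvd.mul_right h1 _) _
  obtain ⟨y, hy⟩ := exists_prime_orderOf_dvd_card' p hpG
  exact ⟨_, y, p, hp, hpd, hy, rfl⟩

end Ward0

namespace IsM

variable {G : Type u} [Group G] [Finite G] {q r : ℕ} {U H : Subgroup G} {t : G}
  {M : Subgroup G}

theorem card (hM : IsM q M) (W : Ward0 q r U H t) : Nat.card M = q + 1 := by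
  obtain ⟨y, p, hp, hpd, hy, rfl⟩ := hM
  exact (W.cent_quarter y p hp hy hpd).1

theorem comm (hM : IsM q M) (W : Ward0 q r U H t) (x x' : G) (hx : x ∈ M) (hx' : x' ∈ M) :
    x * x' = x' * x := by
  obtain ⟨y, p, hp, hpd, hy, rfl⟩ := hM
  exact (W.cent_quarter y p hp hy hpd).2 x hx x' hx'

theorem orderOf_dvd_card (hM : IsM q M) (W : Ward0 q r U H t) (x : G) (hx : x ∈ M) :
    orderOf x ∣ q + 1 := by
  rw [← hM.card W]
  exact Subgroup.orderOf_dvd_natCard M hx

/-- elements of `M` with `x² ≠ 1` have an odd prime factor in their order -/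
theorem exists_prime (hM : IsM q M) (W : Ward0 q r U H t) (x : G) (hx : x ∈ M)
    (hx2 : x * x ≠ 1) : ∃ p : ℕ, p.Prime ∧ p ≠ 2 ∧ p ∣ q + 1 ∧ p ∣ orderOf x := by
  have hd := hM.orderOf_dvd_card W x hx
  rcases Nat.eq_two_pow_or_exists_odd_prime_and_dvd (orderOf x) with ⟨k, hk⟩ | ⟨p, hp, hpd, hodd⟩
  · exfalso
    apply hx2
    have h4 : x ^ 4 = 1 := by
      have h1 : 2 ^ k ∣ 4 * ((q + 1) / 4) := by
        rw [← W.qa.quarter_succ.1, ← hk]; exact hd
      have hcop : Nat.Coprime (2 ^ k) ((q + 1) / 4) := by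
        apply Nat.Coprime.pow_left
        rw [Nat.coprime_two_left]
        exact Nat.odd_iff.mpr W.qa.quarter_succ.2
      have h2 : 2 ^ k ∣ 4 := hcop.dvd_of_dvd_mul_right h1
      obtain ⟨c, hc⟩ := h2
      rw [hc, ← hk, pow_mul, pow_orderOf_eq_one, one_pow]
    have := W.two_elt x h4
    rw [← pow_two]; exact this
  · refine ⟨p, hp, ?_, dvd_trans hpd hd, hpd⟩
    rintro rfl
    exact (by decide : ¬ Odd 2) hodd

/-- the centraliser of an element `x ∈ M`, `x² ≠ 1` -/
theorem cent_eq (hM : IsM q M) (W : Ward0 q r U H t) (x : G) (hx : x ∈ M) (hx2 : x * x ≠ 1) :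
    Subgroup.centralizer ({x} : Set G) = M := by
  obtain ⟨p, hp, hp2, hpq, hpx⟩ := hM.exists_prime W x hx hx2
  have hy := orderOf_pow_div x p hp hpx
  obtain ⟨h1, h2⟩ := W.cent_quarter _ p hp hy (W.qa.dvd_quarter hp hp2 hpq)
  have hyM : x ^ (orderOf x / p) ∈ M := pow_mem hx _
  have hle : M ≤ Subgroup.centralizer ({x ^ (orderOf x / p)} : Set G) := by
    intro z hz
    rw [mem_cent_iff]
    exact hM.comm W _ _ hyM hz
  have heq : M = Subgroup.centralizer ({x ^ (orderOf x / p)} : Set G) := by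
    apply Subgroup.eq_of_le_of_card_ge hle
    rw [h1, hM.card W]
  apply le_antisymm
  · intro z hz
    rw [heq, mem_cent_iff]
    rw [mem_cent_iff] at hz
    have : Commute x z := hz
    exact (this.pow_left _).eq
  · intro z hz
    rw [mem_cent_iff]
    exact hM.comm W _ _ hx hz

/-- the TI property of `M` -/
theorem ti (hM : IsM q M) (W : Ward0 q r U H t) (x : G) (hx : x ∈ M) (hx2 : x * x ≠ 1) (g : G)
    (hg : g * x * g⁻¹ ∈ M) : g ∈ Subgroup.normalizer (M : Set G) :=
  mem_normalizer_of_cent M x g (hM.cent_eq W x hx hx2)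
    (hM.cent_eq W _ hg (Ward0.sq_conj_ne g x hx2))

theorem index_eq (hM : IsM q M) (W : Ward0 q r U H t) :
    M.index = q ^ 3 * (q - 1) * (q * (q - 1) + 1) := by
  have h1 := M.card_mul_index
  rw [hM.card W, W.card_G, W.qa.card_factor] at h1
  have : (q + 1) * M.index = (q + 1) * (q ^ 3 * (q - 1) * (q * (q - 1) + 1)) := by
    rw [h1]; ring
  exact Nat.eq_of_mul_eq_mul_left (by omega) this

theorem sq_ne_of_odd_prime (x : G) (p : ℕ) (hp : p.Prime) (hp2 : p ≠ 2) (hx : orderOf x = p) :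
    x * x ≠ 1 := by
  intro h
  have : orderOf x ∣ 2 := by
    apply orderOf_dvd_of_pow_eq_one
    rw [pow_two]; exact h
  rw [hx] at this
  exact hp2 ((Nat.prime_dvd_prime_iff_eq hp Nat.prime_two).mp this)

/-- an element whose order is divisible by an odd prime divisor of `q + 1` is conjugate into `M` -/
theorem conj_into (hM : IsM q M) (W : Ward0 q r U H t) (g : G) (p : ℕ) (hp : p.Prime)
    (hp2 : p ≠ 2) (hpq : p ∣ q + 1) (hpg : p ∣ orderOf g) : ∃ c : G, c * g * c⁻¹ ∈ M := by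
  haveI : Fact p.Prime := ⟨hp⟩
  have hy := orderOf_pow_div g p hp hpg
  have hidx : ¬ p ∣ M.index := by
    rw [hM.index_eq W]
    intro hd
    rcases (hp.dvd_mul).mp hd with h1 | h1
    · rcases (hp.dvd_mul).mp h1 with h2 | h2
      · have h3 := hp.dvd_of_dvd_pow h2
        have := Nat.dvd_gcd h3 hpq
        rw [W.qa.coprime_q_succ.gcd_eq_one, Nat.dvd_one] at this
        exact hp.one_lt.ne' this
      · exact W.qa.not_dvd_both hp hp2 h2 hpq
    · have := Nat.dvd_gcd h1 hpq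
      rw [W.qa.coprime_n0_succ.gcd_eq_one, Nat.dvd_one] at this
      exact hp.one_lt.ne' this
  obtain ⟨c, hc⟩ := exists_conj_mem_of_index' M p hidx (g ^ (orderOf g / p)) 1 (by simpa using hy)
  refine ⟨c, ?_⟩
  have ho : orderOf (c * g ^ (orderOf g / p) * c⁻¹) = p := by rw [orderOf_conj'', hy]
  rw [← hM.cent_eq W _ hc (sq_ne_of_odd_prime _ p hp hp2 ho), mem_cent_iff]
  have e1 : c * g ^ (orderOf g / p) * c⁻¹ * (c * g * c⁻¹) =
      c * (g ^ (orderOf g / p) * g) * c⁻¹ := by group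
  have e2 : c * g * c⁻¹ * (c * g ^ (orderOf g / p) * c⁻¹) =
      c * (g * g ^ (orderOf g / p)) * c⁻¹ := by group
  rw [e1, e2, ← pow_succ, ← pow_succ']

/-- conjugates of `M` -/
theorem conj (hM : IsM q M) (g : G) : IsM q (M.map (MulAut.conj g).toMonoidHom) := by
  obtain ⟨y, p, hp, hpd, hy, rfl⟩ := hM
  exact ⟨g * y * g⁻¹, p, hp, hpd, by rw [orderOf_conj'', hy], by rw [cent_conj]⟩

/-- any two such subgroups are conjugate -/
theorem conj_of (hM : IsM q M) (W : Ward0 q r U H t) (M' : Subgroup G) (hM' : IsM q M') :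
    ∃ g : G, M = M'.map (MulAut.conj g).toMonoidHom := by
  obtain ⟨y, p, hp, hpd, hy, rfl⟩ := hM'
  have hp2 : p ≠ 2 := by
    rintro rfl
    have := W.qa.quarter_succ.2
    omega
  have hpq : p ∣ q + 1 := by
    rw [W.qa.quarter_succ.1]; exact Dvd.dvd.mul_left hpd 4
  obtain ⟨c, hc⟩ := hM.conj_into W y p hp hp2 hpq (by rw [hy])
  refine ⟨c, ?_⟩
  rw [← cent_conj]
  have ho : orderOf (c * y * c⁻¹) = p := by rw [orderOf_conj'', hy]
  exact (hM.cent_eq W _ hc (sq_ne_of_odd_prime _ p hp hp2 ho)).symm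

/-- the structure of `M`: the hypotheses of the census lemmas -/
theorem census_hyps (hM : IsM q M) (W : Ward0 q r U H t) :
    ((q + 1) / 4) % 2 = 1 ∧ Nat.card M = 4 * ((q + 1) / 4) ∧
      (∀ x : M, x ^ 4 = 1 → x ^ 2 = 1) ∧
      ∀ p : ℕ, ∀ [Fact p.Prime], p ≠ 2 → ∀ P : Subgroup M, IsPGroup p P → IsCyclic P := by
  refine ⟨W.qa.quarter_succ.2, by rw [hM.card W]; exact W.qa.quarter_succ.1, ?_, ?_⟩
  · intro x hx
    have h1 : (x : G) ^ 4 = 1 := by
      have := congrArg Subtype.val hx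
      simpa using this
    have h2 := W.two_elt _ h1
    apply Subtype.ext
    simpa using h2
  · intro p hp hp2 P hP
    by_cases hp3 : p = 3
    · subst hp3
      obtain ⟨j, hj⟩ := IsPGroup.iff_card.mp hP
      have h1 : 3 ^ j ∣ q + 1 := by
        rw [← hj, ← hM.card W]
        exact Subgroup.card_subgroup_dvd_card P
      rcases j with _ | j
      · rw [pow_zero] at hj
        haveI : Subsingleton P := (Nat.card_eq_one_iff_unique.mp hj).1
        exact isCyclic_of_subsingleton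
      · exfalso
        apply W.qa.not_three_dvd_succ
        exact dvd_trans (Dvd.intro_left _ (pow_succ 3 j).symm) h1
    · have h5 : 3 < p := by
        have := hp.out.two_le
        have h4 : p ≠ 4 := by
          rintro rfl
          exact (by norm_num : ¬ Nat.Prime 4) hp.out
        omega
      exact isCyclic_of_isPGroup_sub p (fun Q => W.sylow_cyc p h5 Q) M P hP

/-- elements of order `i ∣ (q + 1) / 4` in `M` -/
theorem card_orderOf (hM : IsM q M) (W : Ward0 q r U H t) (i : ℕ) (hi : i ∣ (q + 1) / 4) :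
    Nat.card {x : G // x ∈ M ∧ orderOf x = i} = Nat.totient i ∧
      Nat.card {x : G // x ∈ M ∧ orderOf x = 2 * i} = 3 * Nat.totient i := by
  obtain ⟨h1, h2, h3, h4⟩ := hM.census_hyps W
  letI : CommGroup M :=
    { (inferInstance : Group M) with
      mul_comm := fun a b => Subtype.ext (hM.comm W a b a.2 b.2) }
  have e : ∀ j : ℕ, Nat.card {x : G // x ∈ M ∧ orderOf x = j} =
      Nat.card {x : M // orderOf x = j} := by
    intro j
    apply Nat.card_congr
    refine ⟨fun x => ⟨⟨x.1, x.2.1⟩, ?_⟩, fun a => ⟨a.1.1, a.1.2, ?_⟩, ?_, ?_⟩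
    · rw [← Subgroup.orderOf_coe]; exact x.2.2
    · have := a.2
      rw [← Subgroup.orderOf_coe] at this
      exact this
    · intro x; rfl
    · intro a; rfl
  rw [e, e]
  exact ⟨card_orderOf_odd ((q + 1) / 4) h1 h2 h3 h4 i hi,
    card_orderOf_two_mul ((q + 1) / 4) h1 h2 h3 h4 i hi⟩

/-- the elements of `M` of order at most `2` -/
theorem card_sq_eq (hM : IsM q M) (W : Ward0 q r U H t) :
    Nat.card {x : G // x ∈ M ∧ x * x = 1} = 4 := by
  obtain ⟨h1, h2, h3, h4⟩ := hM.census_hyps W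
  letI : CommGroup M :=
    { (inferInstance : Group M) with
      mul_comm := fun a b => Subtype.ext (hM.comm W a b a.2 b.2) }
  rw [← card_sqKer ((q + 1) / 4) h1 h2 h3]
  apply Nat.card_congr
  refine ⟨fun x => ⟨⟨x.1, x.2.1⟩, ?_⟩, fun a => ⟨a.1.1, a.1.2, ?_⟩, ?_, ?_⟩
  · rw [mem_sqKer]
    apply Subtype.ext
    show x.1 ^ 2 = 1
    rw [pow_two]; exact x.2.2
  · have := (mem_sqKer a.1).mp a.2
    have := congrArg Subtype.val this
    rw [← pow_two]
    simpa using this
  · intro x; rfl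
  · intro a; rfl

theorem card_sq_ne (hM : IsM q M) (W : Ward0 q r U H t) :
    Nat.card {x : G // x ∈ M ∧ x * x ≠ 1} = q - 3 := by
  have hset : {x : G | x ∈ M ∧ x * x ≠ 1} = (M : Set G) \ {x : G | x ∈ M ∧ x * x = 1} := by
    ext x
    simp only [Set.mem_setOf_eq, Set.mem_diff, SetLike.mem_coe]
    constructor
    · rintro ⟨h1, h2⟩
      exact ⟨h1, fun h => h2 h.2⟩
    · rintro ⟨h1, h2⟩
      exact ⟨h1, fun h => h2 ⟨h1, h⟩⟩
  have h1 : Nat.card {x : G // x ∈ M ∧ x * x ≠ 1} = Set.ncard {x : G | x ∈ M ∧ x * x ≠ 1} :=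
    Nat.card_coe_set_eq _
  have h2 : Set.ncard {x : G | x ∈ M ∧ x * x = 1} = 4 := by
    rw [← hM.card_sq_eq W]; exact (Nat.card_coe_set_eq _).symm
  have h3 : Set.ncard (M : Set G) = q + 1 := by
    rw [← hM.card W]; exact (Nat.card_coe_set_eq _).symm
  rw [h1, hset, Set.ncard_diff (fun x hx => hx.1) (Set.toFinite _), h2, h3]
  omega

/-- the orders of the elements of `M` -/
theorem orderOf_dvd (hM : IsM q M) (W : Ward0 q r U H t) (x : G) (hx : x ∈ M) :
    orderOf x ∣ 2 * ((q + 1) / 4) := by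
  apply orderOf_dvd_of_pow_eq_one
  have h1 : (x ^ ((q + 1) / 4)) ^ 4 = 1 := by
    rw [← pow_mul, mul_comm, ← W.qa.quarter_succ.1]
    have := hM.orderOf_dvd_card W x hx
    obtain ⟨c, hc⟩ := this
    rw [hc, pow_mul, pow_orderOf_eq_one, one_pow]
  have := W.two_elt _ h1
  rw [mul_comm, pow_mul]
  exact this

end IsM

end Cfsg.Agent.Lib.Helper1.RW
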