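import Mathlib
import Cfsg.Agent.Lib.Helper1.RW7

/-!
Ward's analysis of the Ree groups `²G₂(q)`, part 8: the normaliser of `M`.
-/

set_option autoImplicit false
set_option maxHeartbeats 4000000
set_option linter.unusedVariables false
set_option linter.unusedSectionVars false
set_option linter.style.longLine false
set_option linter.unusedSimpArgs false
set_option linter.deprecated false

namespace Cfsg.Agent.Lib.Helper1.RW

universe u

theorem dvd_six_of (k : ℕ) (hk0 : k ≠ 0) (hp : ∀ p : ℕ, p.Prime → p ∣ k → p = 2 ∨ p = 3)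
    (h4 : ¬ 4 ∣ k) (h9 : ¬ 9 ∣ k) : k ∣ 6 := by
  rw [← Nat.factorization_prime_le_iff_dvd hk0 (by norm_num)]
  intro p hpp
  by_cases hpk : p ∣ k
  · rcases hp p hpp hpk with rfl | rfl
    · have h1 : ¬ 2 ≤ k.factorization 2 := by
        intro h
        apply h4
        have := (Nat.Prime.pow_dvd_iff_le_factorization Nat.prime_two hk0).mpr h
        simpa using this
      have h2 : 1 ≤ (6 : ℕ).factorization 2 :=
        (Nat.Prime.pow_dvd_iff_le_factorization Nat.prime_two (by norm_num)).mp (by norm_num)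
      omega
    · have h1 : ¬ 2 ≤ k.factorization 3 := by
        intro h
        apply h9
        have := (Nat.Prime.pow_dvd_iff_le_factorization Nat.prime_three hk0).mpr h
        simpa using this
      have h2 : 1 ≤ (6 : ℕ).factorization 3 :=
        (Nat.Prime.pow_dvd_iff_le_factorization Nat.prime_three (by norm_num)).mp (by norm_num)
      omega
  · rw [Nat.factorization_eq_zero_of_not_dvd hpk]
    exact Nat.zero_le _

namespace QA

variable {q r : ℕ}

/-- the `2`-part of the group order is `8` -/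
theorem not_sixteen_dvd (h : QA q r) : ¬ 16 ∣ q ^ 3 * (q - 1) * (q + 1) * (q * (q - 1) + 1) := by
  intro hd
  obtain ⟨h1, h2⟩ := h.half_pred
  obtain ⟨h3, h4⟩ := h.quarter_succ
  have h8 := h.hq8
  have e : q ^ 3 * (q - 1) * (q + 1) * (q * (q - 1) + 1) =
      8 * (q ^ 3 * ((q - 1) / 2) * ((q + 1) / 4) * (q * (q - 1) + 1)) := by
    conv_lhs => rw [h3]
    conv_lhs => enter [1, 1, 2]; rw [h1]
    ring
  rw [e] at hd
  have h16 : (16 : ℕ) = 8 * 2 := by norm_num
  rw [h16] at hd
  have hd2 : 2 ∣ q ^ 3 * ((q - 1) / 2) * ((q + 1) / 4) * (q * (q - 1) + 1) :=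
    Nat.dvd_of_mul_dvd_mul_left (by norm_num) hd
  have hp2 := Nat.prime_two
  rcases (hp2.dvd_mul).mp hd2 with h5 | h5
  · rcases (hp2.dvd_mul).mp h5 with h6 | h6
    · rcases (hp2.dvd_mul).mp h6 with h7 | h7
      · have := hp2.dvd_of_dvd_pow h7
        omega
      · omega
    · omega
  · exact h.odd_n0 h5

end QA

namespace IsM

variable {G : Type u} [Group G] [Finite G] {q r : ℕ} {U H : Subgroup G} {t : G}
  {M : Subgroup G}

theorem le_normalizer' (M : Subgroup G) : M ≤ Subgroup.normalizer (M : Set G) :=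
  Subgroup.le_normalizer

theorem exists_index (hM : IsM q M) (W : Ward0 q r U H t) :
    ∃ k : ℕ, Nat.card (Subgroup.normalizer (M : Set G)) = k * (q + 1) := by
  have := Subgroup.card_dvd_of_le (le_normalizer' M)
  rw [hM.card W] at this
  obtain ⟨k, hk⟩ := this
  exact ⟨k, by rw [hk, mul_comm]⟩

/-- the index of `M` in its normaliser divides `q - 3` -/
theorem index_dvd_sub (hM : IsM q M) (W : Ward0 q r U H t) (k : ℕ)
    (hk : Nat.card (Subgroup.normalizer (M : Set G)) = k * (q + 1)) : k ∣ q - 3 := by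
  rw [← hM.card_sq_ne W]
  apply dvd_card_of_conj_action (Subgroup.normalizer (M : Set G)) {x : G | x ∈ M ∧ x * x ≠ 1}
  · rintro n hn x ⟨hx, hx2⟩
    exact ⟨(Subgroup.mem_normalizer_iff.mp hn x).mp hx, Ward0.sq_conj_ne n x hx2⟩
  · rintro x ⟨hx, hx2⟩
    have h1 : Nat.card {n : G // n ∈ Subgroup.normalizer (M : Set G) ∧ n * x = x * n} =
        Nat.card M := by
      apply Nat.card_congr
      apply Equiv.subtypeEquivRight
      intro n
      constructor
      · rintro ⟨-, hc⟩
        rw [← hM.cent_eq W x hx hx2, mem_cent_iff]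
        exact hc.symm
      · intro hn
        refine ⟨le_normalizer' M hn, ?_⟩
        exact hM.comm W _ _ hn hx
    rw [h1, hM.card W, hk, mul_comm]

/-- no prime divisor of `q² - q + 1` divides the order of the normaliser of `M` -/
theorem not_dvd_card_normalizer (hM : IsM q M) (W : Ward0 q r U H t) (s : ℕ) (hs : s.Prime)
    (hsd : s ∣ q * (q - 1) + 1) : ¬ s ∣ Nat.card (Subgroup.normalizer (M : Set G)) := by
  intro hdvd
  haveI : Fact s.Prime := ⟨hs⟩
  obtain ⟨n', hn'⟩ := exists_prime_orderOf_dvd_card' s hdvd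
  obtain ⟨n, hn, rfl⟩ : ∃ n : G, ∃ hn : n ∈ Subgroup.normalizer (M : Set G), n' = ⟨n, hn⟩ :=
    ⟨n'.1, n'.2, rfl⟩
  have hno : orderOf n = s := by
    rw [← hn', ← Subgroup.orderOf_coe]
  have hcardZ : Nat.card (Subgroup.zpowers n) = s := by rw [Nat.card_zpowers, hno]
  have hsq : ¬ s ∣ q := by
    intro h
    have := Nat.dvd_gcd hsd h
    rw [W.qa.coprime_n0_q.gcd_eq_one, Nat.dvd_one] at this
    exact hs.one_lt.ne' this
  have hsq1 : ¬ s ∣ q - 1 := by
    intro h
    have := Nat.dvd_gcd hsd h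
    rw [W.qa.coprime_n0_pred.gcd_eq_one, Nat.dvd_one] at this
    exact hs.one_lt.ne' this
  have hsq2 : ¬ s ∣ q + 1 := by
    intro h
    have := Nat.dvd_gcd hsd h
    rw [W.qa.coprime_n0_succ.gcd_eq_one, Nat.dvd_one] at this
    exact hs.one_lt.ne' this
  have key : s ∣ Nat.card {x : G | x ∈ M ∧ x ≠ 1} := by
    apply dvd_card_of_conj_action (Subgroup.zpowers n) {x : G | x ∈ M ∧ x ≠ 1}
    · rintro γ hγ x ⟨hx, hx1⟩
      have hγN : γ ∈ Subgroup.normalizer (M : Set G) := (Subgroup.zpowers_le.mpr hn) hγ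
      refine ⟨(Subgroup.mem_normalizer_iff.mp hγN x).mp hx, ?_⟩
      intro h
      apply hx1
      have : x = γ⁻¹ * (γ * x * γ⁻¹) * γ := by group
      rw [this, h]; group
    · rintro x ⟨hx, hx1⟩
      rw [hcardZ]
      have h1 : Nat.card {γ : G // γ ∈ Subgroup.zpowers n ∧ γ * x = x * γ} = 1 := by
        rw [Nat.card_eq_one_iff_unique]
        refine ⟨⟨?_⟩, ⟨⟨1, one_mem _, by simp⟩⟩⟩
        have hone : ∀ γ : G, γ ∈ Subgroup.zpowers n → γ * x = x * γ → γ = 1 := by
          intro γ hγ hc
          by_contra hγ1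
          have hoγ : orderOf γ = s := by
            have h2 : orderOf γ ∣ s := by
              rw [← hcardZ]; exact Subgroup.orderOf_dvd_natCard _ hγ
            rcases (Nat.dvd_prime hs).mp h2 with h3 | h3
            · exact absurd (orderOf_eq_one_iff.mp h3) hγ1
            · exact h3
          have hle : Subgroup.zpowers γ ≤ Subgroup.zpowers n := Subgroup.zpowers_le.mpr hγ
          have heq : Subgroup.zpowers γ = Subgroup.zpowers n := by
            apply Subgroup.eq_of_le_of_card_ge hle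
            rw [hcardZ, Nat.card_zpowers, hoγ]
          have hnγ : n ∈ Subgroup.zpowers γ := by
            rw [heq]; exact Subgroup.mem_zpowers n
          obtain ⟨j, rfl⟩ := Subgroup.mem_zpowers_iff.mp hnγ
          have hcomm : (γ ^ j) * x = x * (γ ^ j) := by
            have : Commute γ x := hc
            exact (this.zpow_left j).eq
          by_cases hx2 : x * x = 1
          · have h5 := W.card_cent_invol x hx2 hx1
            have h6 : γ ^ j ∈ Subgroup.centralizer ({x} : Set G) := by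
              rw [mem_cent_iff]; exact hcomm.symm
            have h7 := Subgroup.orderOf_dvd_natCard _ h6
            rw [hno, h5] at h7
            have h27 := W.qa.hq27
            have e : q ^ 2 - 1 = (q - 1) * (q + 1) := by
              obtain ⟨a, rfl⟩ : ∃ a, q = a + 1 := ⟨q - 1, by omega⟩
              simp only [Nat.add_sub_cancel]
              have : (a + 1) ^ 2 = a * (a + 1 + 1) + 1 := by ring
              rw [this]; simp
            rw [e] at h7
            rcases (hs.dvd_mul).mp h7 with h8 | h8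
            · exact hsq h8
            · rcases (hs.dvd_mul).mp h8 with h9 | h9
              · exact hsq1 h9
              · exact hsq2 h9
          · have h6 : γ ^ j ∈ M := by
              rw [← hM.cent_eq W x hx hx2, mem_cent_iff]; exact hcomm.symm
            have h7 := hM.orderOf_dvd_card W _ h6
            rw [hno] at h7
            exact hsq2 h7
        rintro ⟨a, ha1, ha2⟩ ⟨b, hb1, hb2⟩
        apply Subtype.ext
        show a = b
        rw [hone a ha1 ha2, hone b hb1 hb2]
      rw [h1, one_mul]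
  have hcard : Nat.card {x : G | x ∈ M ∧ x ≠ 1} = q := by
    have hset : {x : G | x ∈ M ∧ x ≠ 1} = (M : Set G) \ {1} := by
      ext x
      simp only [Set.mem_setOf_eq, Set.mem_diff, SetLike.mem_coe, Set.mem_singleton_iff]
    rw [Nat.card_coe_set_eq, hset, Set.ncard_diff_singleton_of_mem (one_mem M),
      ← Nat.card_coe_set_eq]
    have : Nat.card (M : Set G) = Nat.card M := rfl
    rw [this, hM.card W]
    simp
  rw [hcard] at key
  exact hsq key

/-- the index of `M` in its normaliser divides `6` -/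
theorem index_dvd_six (hM : IsM q M) (W : Ward0 q r U H t) :
    ∃ k : ℕ, k ∣ 6 ∧ Nat.card (Subgroup.normalizer (M : Set G)) = k * (q + 1) := by
  obtain ⟨k, hk⟩ := hM.exists_index W
  refine ⟨k, ?_, hk⟩
  have h27 := W.qa.hq27
  have hk3 := hM.index_dvd_sub W k hk
  have hk0 : k ≠ 0 := by
    rintro rfl
    rw [zero_dvd_iff] at hk3
    omega
  have hkG : k * (q + 1) ∣ (q ^ 3 * (q - 1) * (q * (q - 1) + 1)) * (q + 1) := by
    rw [← hk]
    have := Subgroup.card_subgroup_dvd_card (Subgroup.normalizer (M : Set G))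
    rw [W.card_G, W.qa.card_factor] at this
    have e : q ^ 3 * (q - 1) * (q * (q - 1) + 1) * (q + 1) =
        q ^ 3 * (q - 1) * (q + 1) * (q * (q - 1) + 1) := by ring
    rw [e]; exact this
  have hkX : k ∣ q ^ 3 * (q - 1) * (q * (q - 1) + 1) :=
    Nat.dvd_of_mul_dvd_mul_right (by omega) hkG
  apply dvd_six_of k hk0
  · intro p hp hpk
    have hp3 : p ∣ q - 3 := dvd_trans hpk hk3
    have hpX := dvd_trans hpk hkX
    rcases (hp.dvd_mul).mp hpX with h1 | h1
    · rcases (hp.dvd_mul).mp h1 with h2 | h2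
      · right
        exact W.qa.prime_dvd_q hp (hp.dvd_of_dvd_pow h2)
      · left
        have h3 : p ∣ (q - 1) - (q - 3) := Nat.dvd_sub h2 hp3
        have e : (q - 1) - (q - 3) = 2 := by omega
        rw [e] at h3
        exact (Nat.prime_dvd_prime_iff_eq hp Nat.prime_two).mp h3
    · exfalso
      apply hM.not_dvd_card_normalizer W p hp h1
      rw [hk]
      exact Dvd.dvd.mul_right hpk _
  · intro h4
    apply W.qa.not_sixteen_dvd
    have h5 : 4 ∣ q + 1 := by
      rw [W.qa.quarter_succ.1]; exact Dvd.intro _ rfl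
    have h6 : 16 ∣ k * (q + 1) := by
      have : (16 : ℕ) = 4 * 4 := by norm_num
      rw [this]
      exact Nat.mul_dvd_mul h4 h5
    have h7 := dvd_trans h6 hkG
    have e : q ^ 3 * (q - 1) * (q * (q - 1) + 1) * (q + 1) =
        q ^ 3 * (q - 1) * (q + 1) * (q * (q - 1) + 1) := by ring
    rw [e] at h7
    exact h7
  · intro h9
    have h10 := dvd_trans h9 hk3
    obtain ⟨a, ha⟩ := W.qa.nine_dvd
    omega

/-- the union of the conjugates of `M`, without the elements of order at most `2` -/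
theorem card_TM (hM : IsM q M) (W : Ward0 q r U H t) (k : ℕ)
    (hk : Nat.card (Subgroup.normalizer (M : Set G)) = k * (q + 1)) :
    Nat.card {g : G // ∃ p : ℕ, p.Prime ∧ p ≠ 2 ∧ p ∣ q + 1 ∧ p ∣ orderOf g} * (k * (q + 1)) =
      q ^ 3 * (q - 1) * (q ^ 3 + 1) * (q - 3) := by
  have key := card_conj_union (Subgroup.normalizer (M : Set G))
    {x : G | x ∈ M ∧ x * x ≠ 1} ?_ ?_
  · rw [hk, W.card_G] at key
    have h1 : Nat.card {x : G | x ∈ M ∧ x * x ≠ 1} = q - 3 := hM.card_sq_ne W
    rw [h1] at key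
    rw [← key]
    congr 1
    apply Nat.card_congr
    apply Equiv.subtypeEquivRight
    intro y
    constructor
    · rintro ⟨p, hp, hp2, hpq, hpy⟩
      obtain ⟨c, hc⟩ := hM.conj_into W y p hp hp2 hpq hpy
      refine ⟨c⁻¹, c * y * c⁻¹, ⟨hc, ?_⟩, by group⟩
      intro h2
      have : orderOf (c * y * c⁻¹) ∣ 2 := by
        apply orderOf_dvd_of_pow_eq_one
        rw [pow_two]; exact h2
      rw [orderOf_conj''] at this
      exact hp2 ((Nat.prime_dvd_prime_iff_eq hp Nat.prime_two).mp (dvd_trans hpy this))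
    · rintro ⟨g, x, ⟨hx, hx2⟩, rfl⟩
      obtain ⟨p, hp, hp2, hpq, hpx⟩ := hM.exists_prime W x hx hx2
      exact ⟨p, hp, hp2, hpq, by rw [orderOf_conj'']; exact hpx⟩
  · rintro n hn x ⟨hx, hx2⟩
    refine ⟨?_, ?_⟩
    · have := (Subgroup.mem_normalizer_iff.mp (inv_mem hn) x).mp hx
      rwa [inv_inv] at this
    · have := Ward0.sq_conj_ne n⁻¹ x hx2
      rwa [inv_inv] at this
  · rintro g x ⟨hx, hx2⟩ ⟨hgx, -⟩
    exact hM.ti W x hx hx2 g hgx

/-- the number of elements of order `j` where `j = i` or `j = 2 i`, `1 < i ∣ (q + 1) / 4` -/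
theorem card_order_aux (hM : IsM q M) (W : Ward0 q r U H t) (k : ℕ)
    (hk : Nat.card (Subgroup.normalizer (M : Set G)) = k * (q + 1)) (i j : ℕ) (hi1 : 1 < i)
    (hi : i ∣ (q + 1) / 4) (hj : j = i ∨ j = 2 * i) :
    Nat.card {g : G // orderOf g = j} * (k * (q + 1)) =
      q ^ 3 * (q - 1) * (q ^ 3 + 1) * Nat.card {x : G // x ∈ M ∧ orderOf x = j} := by
  have hiodd : i % 2 = 1 := by
    have h2 := W.qa.quarter_succ.2
    obtain ⟨c, hc⟩ := hi
    by_contra h
    have h0 : i % 2 = 0 := by omega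
    have : ((q + 1) / 4) % 2 = 0 := by
      rw [hc, Nat.mul_mod, h0]; simp
    omega
  have hj2 : 2 < j := by rcases hj with rfl | rfl <;> omega
  have hij : i ∣ j := by
    rcases hj with rfl | rfl
    · exact dvd_rfl
    · exact Dvd.intro_left _ rfl
  have key := card_conj_union (Subgroup.normalizer (M : Set G))
    {x : G | x ∈ M ∧ orderOf x = j} ?_ ?_
  · rw [hk, W.card_G] at key
    have key' : Nat.card {y : G // ∃ g : G, ∃ x ∈ {x : G | x ∈ M ∧ orderOf x = j},
        y = g * x * g⁻¹} * (k * (q + 1)) =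
      q ^ 3 * (q - 1) * (q ^ 3 + 1) * Nat.card {x : G // x ∈ M ∧ orderOf x = j} := key
    rw [← key']
    congr 1
    apply Nat.card_congr
    apply Equiv.subtypeEquivRight
    intro y
    constructor
    · intro hy
      obtain ⟨p, hp, hpi⟩ := Nat.exists_prime_and_dvd (show i ≠ 1 by omega)
      have hp2 : p ≠ 2 := by
        rintro rfl
        omega
      have hpq : p ∣ q + 1 := by
        rw [W.qa.quarter_succ.1]
        exact Dvd.dvd.mul_left (dvd_trans hpi hi) 4
      obtain ⟨c, hc⟩ := hM.conj_into W y p hp hp2 hpq (by rw [hy]; exact dvd_trans hpi hij)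
      refine ⟨c⁻¹, c * y * c⁻¹, ⟨hc, ?_⟩, by group⟩
      rw [orderOf_conj'', hy]
    · rintro ⟨g, x, ⟨-, hx⟩, rfl⟩
      rw [orderOf_conj'', hx]
  · rintro n hn x ⟨hx, ho⟩
    refine ⟨?_, ?_⟩
    · have := (Subgroup.mem_normalizer_iff.mp (inv_mem hn) x).mp hx
      rwa [inv_inv] at this
    · have := orderOf_conj'' n⁻¹ x
      rw [inv_inv] at this
      rw [this, ho]
  · rintro g x ⟨hx, ho⟩ ⟨hgx, -⟩
    exact hM.ti W x hx (Ward0.sq_ne_of_order x (by rw [ho]; exact hj2)) g hgx

end IsM

end Cfsg.Agent.Lib.Helper1.RW
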