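import Mathlib
import Cfsg.Agent.Lib.Helper1.RW8

/-!
Ward's analysis of the Ree groups `²G₂(q)`, part 9: the centralisers of the elements of prime order
dividing `q² - q + 1`.
-/

set_option autoImplicit false
set_option maxHeartbeats 4000000
set_option linter.unusedVariables false
set_option linter.unusedSectionVars false
set_option linter.style.longLine false
set_option linter.unusedSimpArgs false
set_option linter.deprecated false

namespace Cfsg.Agent.Lib.Helper1.RW

universe u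

/-- centralisers of elements of prime order dividing `q² - q + 1` -/
def IsPi {G : Type u} [Group G] (q : ℕ) (A : Subgroup G) : Prop :=
  ∃ (x : G) (s : ℕ), s.Prime ∧ s ∣ q * (q - 1) + 1 ∧ orderOf x = s ∧
    A = Subgroup.centralizer ({x} : Set G)

namespace QA

variable {q r : ℕ}

theorem not_dvd_of_dvd_n0 (h : QA q r) {s : ℕ} (hs : s.Prime) (hsd : s ∣ q * (q - 1) + 1) :
    ¬ s ∣ q ∧ ¬ s ∣ q - 1 ∧ ¬ s ∣ q + 1 := by
  refine ⟨?_, ?_, ?_⟩
  · intro h'
    have := Nat.dvd_gcd hsd h'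
    rw [h.coprime_n0_q.gcd_eq_one, Nat.dvd_one] at this
    exact hs.one_lt.ne' this
  · intro h'
    have := Nat.dvd_gcd hsd h'
    rw [h.coprime_n0_pred.gcd_eq_one, Nat.dvd_one] at this
    exact hs.one_lt.ne' this
  · intro h'
    have := Nat.dvd_gcd hsd h'
    rw [h.coprime_n0_succ.gcd_eq_one, Nat.dvd_one] at this
    exact hs.one_lt.ne' this

theorem sq_sub_one (h : QA q r) : q ^ 2 - 1 = (q - 1) * (q + 1) := by
  have h27 := h.hq27
  obtain ⟨a, rfl⟩ : ∃ a, q = a + 1 := ⟨q - 1, by omega⟩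
  simp only [Nat.add_sub_cancel]
  have : (a + 1) ^ 2 = a * (a + 1 + 1) + 1 := by ring
  rw [this]; simp

theorem coprime_n0_rest (h : QA q r) :
    Nat.Coprime (q * (q - 1) + 1) (q ^ 3 * (q - 1) * (q + 1)) := by
  apply Nat.Coprime.mul_right
  · apply Nat.Coprime.mul_right
    · exact Nat.Coprime.pow_right 3 h.coprime_n0_q
    · exact h.coprime_n0_pred
  · exact h.coprime_n0_succ

end QA

namespace Ward0

variable {G : Type u} [Group G] [Finite G] {q r : ℕ} {U H : Subgroup G} {t : G}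

/-- an element commuting with an element of prime order `s ∣ q² - q + 1` has order divisible only
by primes dividing `q² - q + 1` -/
theorem no_commute (W : Ward0 q r U H t) (x : G) (s : ℕ) (hs : s.Prime)
    (hsd : s ∣ q * (q - 1) + 1) (hx : orderOf x = s) (c : G) (hcx : x * c = c * x) (p : ℕ)
    (hp : p.Prime) (hpc : p ∣ orderOf c) : p ∣ q * (q - 1) + 1 := by
  obtain ⟨hsq, hsq1, hsq2⟩ := W.qa.not_dvd_of_dvd_n0 hs hsd
  have hc' := orderOf_pow_div c p hp hpc
  have hcomm : x * c ^ (orderOf c / p) = c ^ (orderOf c / p) * x := by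
    have : Commute x c := hcx
    exact (this.pow_right _).eq
  have hpG : p ∣ q ^ 3 * (q - 1) * (q ^ 3 + 1) := by
    rw [← W.card_G]
    exact dvd_trans hpc (orderOf_dvd_natCard c)
  rcases W.qa.prime_cases hp hpG with rfl | rfl | ⟨hp2, hpq⟩ | ⟨hp2, hpq⟩ | h
  · exfalso
    have h2 : c ^ (orderOf c / 2) * c ^ (orderOf c / 2) = 1 := by
      have := pow_orderOf_eq_one (c ^ (orderOf c / 2))
      rw [hc'] at this
      rw [← pow_two]; exact this
    have h1 : c ^ (orderOf c / 2) ≠ 1 := ne_one_of_orderOf_prime _ 2 hp hc'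
    have h5 := W.card_cent_invol _ h2 h1
    have h6 : x ∈ Subgroup.centralizer ({c ^ (orderOf c / 2)} : Set G) := by
      rw [mem_cent_iff]; exact hcomm.symm
    have h7 := Subgroup.orderOf_dvd_natCard _ h6
    rw [hx, h5, W.qa.sq_sub_one] at h7
    rcases (hs.dvd_mul).mp h7 with h8 | h8
    · exact hsq h8
    · rcases (hs.dvd_mul).mp h8 with h9 | h9
      · exact hsq1 h9
      · exact hsq2 h9
  · exfalso
    haveI : Fact (Nat.Prime 3) := ⟨Nat.prime_three⟩
    have hidx : ¬ 3 ∣ U.index := by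
      have h1 := U.card_mul_index
      rw [W.card_U, W.card_G, mul_assoc] at h1
      have h27 := W.qa.hq27
      have hq0 : 0 < q ^ 3 := by positivity
      have := Nat.eq_of_mul_eq_mul_left hq0 h1
      rw [this]
      exact W.three_not_dvd_index
    obtain ⟨d, hd⟩ := exists_conj_mem_of_index' U 3 hidx (c ^ (orderOf c / 3)) 1
      (by simpa using hc')
    have h1 : d * c ^ (orderOf c / 3) * d⁻¹ ≠ 1 := by
      intro h1
      apply ne_one_of_orderOf_prime _ 3 hp hc'
      have : c ^ (orderOf c / 3) = d⁻¹ * (d * c ^ (orderOf c / 3) * d⁻¹) * d := by group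
      rw [this, h1]; group
    have h2 : d * x * d⁻¹ ∈ Subgroup.normalizer (U : Set G) := by
      apply W.ti_U _ _ hd h1
      have : d * x * d⁻¹ * (d * c ^ (orderOf c / 3) * d⁻¹) * (d * x * d⁻¹)⁻¹ =
          d * (x * c ^ (orderOf c / 3) * x⁻¹) * d⁻¹ := by group
      rw [this, hcomm]
      have : d * (c ^ (orderOf c / 3) * x * x⁻¹) * d⁻¹ = d * c ^ (orderOf c / 3) * d⁻¹ := by group
      rw [this]; exact hd
    have h3 := Subgroup.orderOf_dvd_natCard _ h2
    rw [orderOf_conj'', hx, W.card_NU] at h3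
    rcases (hs.dvd_mul).mp h3 with h8 | h8
    · exact hsq (hs.dvd_of_dvd_pow h8)
    · exact hsq1 h8
  · exfalso
    obtain ⟨d, hd⟩ := W.conj_into_H (c ^ (orderOf c / p)) p hp hp2 hpq (by rw [hc'])
    have ho : orderOf (d * c ^ (orderOf c / p) * d⁻¹) = p := by rw [orderOf_conj'', hc']
    have h2 : d * x * d⁻¹ ∈ H := by
      rw [← W.cent_H _ hd (IsM.sq_ne_of_odd_prime _ p hp hp2 ho), mem_cent_iff]
      have e1 : d * c ^ (orderOf c / p) * d⁻¹ * (d * x * d⁻¹) =
          d * (c ^ (orderOf c / p) * x) * d⁻¹ := by group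
      have e2 : d * x * d⁻¹ * (d * c ^ (orderOf c / p) * d⁻¹) =
          d * (x * c ^ (orderOf c / p)) * d⁻¹ := by group
      rw [e1, e2, hcomm]
    have h3 := Subgroup.orderOf_dvd_natCard _ h2
    rw [orderOf_conj'', hx, W.card_H] at h3
    exact hsq1 h3
  · exfalso
    obtain ⟨h1, -⟩ := W.cent_quarter _ p hp hc' (W.qa.dvd_quarter hp hp2 hpq)
    have h6 : x ∈ Subgroup.centralizer ({c ^ (orderOf c / p)} : Set G) := by
      rw [mem_cent_iff]; exact hcomm.symm
    have h7 := Subgroup.orderOf_dvd_natCard _ h6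
    rw [hx, h1] at h7
    exact hsq2 h7
  · exact h

end Ward0

namespace IsPi

variable {G : Type u} [Group G] [Finite G] {q r : ℕ} {U H : Subgroup G} {t : G}
  {A : Subgroup G}

theorem isCyclic (hA : IsPi q A) (W : Ward q r U H t) : IsCyclic A := by
  obtain ⟨x, s, hs, hsd, hx, rfl⟩ := hA
  exact (W.cent_pi x s hs hx hsd).1

theorem comm (hA : IsPi q A) (W : Ward q r U H t) (a b : G) (ha : a ∈ A) (hb : b ∈ A) :
    a * b = b * a :=
  comm_of_cyclic A (hA.isCyclic W) a b ha hb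

theorem card_dvd (hA : IsPi q A) (W : Ward q r U H t) : Nat.card A ∣ q * (q - 1) + 1 := by
  have hcyc := hA.isCyclic W
  obtain ⟨x, s, hs, hsd, hx, rfl⟩ := hA
  have hcop : Nat.Coprime (Nat.card (Subgroup.centralizer ({x} : Set G)))
      (q ^ 3 * (q - 1) * (q + 1)) := by
    apply Nat.coprime_of_dvd
    intro p hp h1 h2
    haveI : Fact p.Prime := ⟨hp⟩
    obtain ⟨y, hy⟩ := exists_prime_orderOf_dvd_card' p h1
    have hy' : orderOf (y : G) = p := by rw [Subgroup.orderOf_coe]; exact hy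
    have hc : x * (y : G) = (y : G) * x := (mem_cent_iff x _).mp y.2
    have h3 := W.toWard0.no_commute x s hs hsd hx (y : G) hc p hp (by rw [hy'])
    have := Nat.dvd_gcd h3 h2
    rw [W.qa.coprime_n0_rest.gcd_eq_one, Nat.dvd_one] at this
    exact hp.one_lt.ne' this
  have hdvd : Nat.card (Subgroup.centralizer ({x} : Set G)) ∣
      (q * (q - 1) + 1) * (q ^ 3 * (q - 1) * (q + 1)) := by
    have := Subgroup.card_subgroup_dvd_card (Subgroup.centralizer ({x} : Set G))
    rw [W.card_G, W.qa.card_factor] at this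
    convert this using 1
    ring
  exact hcop.dvd_of_dvd_mul_right hdvd

theorem one_lt_card (hA : IsPi q A) : 1 < Nat.card A := by
  obtain ⟨x, s, hs, hsd, hx, rfl⟩ := hA
  have hx1 : x ≠ 1 := ne_one_of_orderOf_prime x s hs hx
  haveI : Nontrivial (Subgroup.centralizer ({x} : Set G)) :=
    ⟨⟨⟨x, self_mem_cent x⟩, 1, fun h => hx1 (congrArg Subtype.val h)⟩⟩
  exact Finite.one_lt_card

theorem seven_le_card (hA : IsPi q A) (W : Ward q r U H t) : 7 ≤ Nat.card A := by
  have h1 := hA.one_lt_card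
  obtain ⟨p, hp, hpd⟩ := Nat.exists_prime_and_dvd (show Nat.card A ≠ 1 by omega)
  have h7 := W.qa.seven_le_of_dvd_n0 hp (dvd_trans hpd (hA.card_dvd W))
  exact le_trans h7 (Nat.le_of_dvd (by omega) hpd)

theorem orderOf_dvd (hA : IsPi q A) (W : Ward q r U H t) (a : G) (ha : a ∈ A) :
    orderOf a ∣ q * (q - 1) + 1 :=
  (Subgroup.orderOf_dvd_natCard A ha).trans (hA.card_dvd W)

/-- each non-identity element of `A` has centraliser `A` -/
theorem cent_eq (hA : IsPi q A) (W : Ward q r U H t) (a : G) (ha : a ∈ A) (ha1 : a ≠ 1) :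
    Subgroup.centralizer ({a} : Set G) = A := by
  have hAA := hA
  obtain ⟨x, s, hs, hsd, hx, hAx⟩ := hA
  apply le_antisymm
  · have hn : orderOf a ≠ 1 := by rwa [Ne, orderOf_eq_one_iff]
    obtain ⟨p', hp', hp'd⟩ := Nat.exists_prime_and_dvd hn
    have hp'N : p' ∣ q * (q - 1) + 1 := hp'd.trans (hAA.orderOf_dvd W a ha)
    have ho := orderOf_pow_div a p' hp' hp'd
    have hcyc := (W.cent_pi _ p' hp' ho hp'N).1
    have hxa : x * a = a * x := by
      rw [hAx] at ha
      exact (mem_cent_iff x a).mp ha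
    have hxa' : x ∈ Subgroup.centralizer ({a ^ (orderOf a / p')} : Set G) := by
      rw [mem_cent_iff]
      have : Commute a x := hxa.symm
      exact (this.pow_left _).eq
    intro g hg
    have hga : a * g = g * a := (mem_cent_iff a g).mp hg
    have hga' : g ∈ Subgroup.centralizer ({a ^ (orderOf a / p')} : Set G) := by
      rw [mem_cent_iff]
      have : Commute a g := hga
      exact (this.pow_left _).eq
    rw [hAx, mem_cent_iff]
    exact comm_of_cyclic _ hcyc x g hxa' hga'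
  · intro g hg
    rw [mem_cent_iff]
    exact hAA.comm W a g ha hg

/-- the TI property -/
theorem ti (hA : IsPi q A) (W : Ward q r U H t) (a : G) (ha : a ∈ A) (ha1 : a ≠ 1) (g : G)
    (hg : g * a * g⁻¹ ∈ A) : g ∈ Subgroup.normalizer (A : Set G) := by
  apply mem_normalizer_of_cent A a g (hA.cent_eq W a ha ha1) (hA.cent_eq W _ hg ?_)
  intro h
  apply ha1
  have : a = g⁻¹ * (g * a * g⁻¹) * g := by group
  rw [this, h]; group

theorem conj (hA : IsPi q A) (g : G) : IsPi q (A.map (MulAut.conj g).toMonoidHom) := by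
  obtain ⟨x, s, hs, hsd, hx, rfl⟩ := hA
  exact ⟨g * x * g⁻¹, s, hs, hsd, by rw [orderOf_conj'', hx], by rw [cent_conj]⟩

/-- elements whose order is divisible by a prime divisor of `q² - q + 1` -/
theorem of_prime_dvd (W : Ward q r U H t) (g : G) (s : ℕ) (hs : s.Prime)
    (hsd : s ∣ q * (q - 1) + 1) (hsg : s ∣ orderOf g) :
    IsPi q (Subgroup.centralizer ({g ^ (orderOf g / s)} : Set G)) ∧
      g ∈ Subgroup.centralizer ({g ^ (orderOf g / s)} : Set G) ∧
      s ∣ Nat.card (Subgroup.centralizer ({g ^ (orderOf g / s)} : Set G)) := by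
  have ho := orderOf_pow_div g s hs hsg
  refine ⟨⟨_, s, hs, hsd, ho, rfl⟩, ?_, ?_⟩
  · rw [mem_cent_iff, ← pow_succ, ← pow_succ']
  · have := Subgroup.orderOf_dvd_natCard _ (self_mem_cent (g ^ (orderOf g / s)))
    rw [ho] at this
    exact this

/-- two such subgroups whose orders share a prime are conjugate -/
theorem conj_of_common_prime (hA : IsPi q A) (W : Ward q r U H t) {A' : Subgroup G}
    (hA' : IsPi q A') {p : ℕ} (hp : p.Prime) (h1 : p ∣ Nat.card A) (h2 : p ∣ Nat.card A') :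
    ∃ g : G, A' = A.map (MulAut.conj g).toMonoidHom := by
  haveI : Fact p.Prime := ⟨hp⟩
  have hp7 := W.qa.seven_le_of_dvd_n0 hp (dvd_trans h1 (hA.card_dvd W))
  obtain ⟨a, ha⟩ := exists_prime_orderOf_dvd_card' p h1
  obtain ⟨a', ha'⟩ := exists_prime_orderOf_dvd_card' p h2
  have hao : orderOf (a : G) = p := by rw [Subgroup.orderOf_coe]; exact ha
  have hao' : orderOf (a' : G) = p := by rw [Subgroup.orderOf_coe]; exact ha'
  have ha1 : (a : G) ≠ 1 := ne_one_of_orderOf_prime _ p hp hao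
  have ha1' : (a' : G) ≠ 1 := ne_one_of_orderOf_prime _ p hp hao'
  -- Sylow subgroups containing `a` and `a'`
  have hZ : IsPGroup p (Subgroup.zpowers (a : G)) := by
    apply IsPGroup.of_card (n := 1)
    rw [Nat.card_zpowers, hao, pow_one]
  have hZ' : IsPGroup p (Subgroup.zpowers (a' : G)) := by
    apply IsPGroup.of_card (n := 1)
    rw [Nat.card_zpowers, hao', pow_one]
  obtain ⟨S, hS⟩ := hZ.exists_le_sylow
  obtain ⟨S', hS'⟩ := hZ'.exists_le_sylow
  obtain ⟨g, hg⟩ := MulAction.exists_smul_eq G S S'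
  have haS : (a : G) ∈ (S : Subgroup G) := hS (Subgroup.mem_zpowers _)
  have haS' : (a' : G) ∈ (S' : Subgroup G) := hS' (Subgroup.mem_zpowers _)
  have hgaS' : g * (a : G) * g⁻¹ ∈ (S' : Subgroup G) := by
    rw [← hg, Sylow.coe_subgroup_smul, Subgroup.mem_pointwise_smul_iff_inv_smul_mem]
    have e : (MulAut.conj g)⁻¹ • (g * (a : G) * g⁻¹) = (a : G) := by
      rw [← map_inv, MulAut.smul_def, MulAut.conj_apply]; group
    rw [e]; exact haS
  -- in the cyclic group `S'` the elements of order `p` generate the same subgroup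
  have hcyc : IsCyclic (S' : Subgroup G) := W.sylow_cyc p (by omega) S'
  have hcomm : (a' : G) * (g * (a : G) * g⁻¹) = (g * (a : G) * g⁻¹) * (a' : G) :=
    comm_of_cyclic _ hcyc _ _ haS' hgaS'
  -- hence `g a g⁻¹ ∈ C(a') = A'` and `A' = C(g a g⁻¹) = g A g⁻¹`
  have h3 : g * (a : G) * g⁻¹ ∈ A' := by
    rw [← hA'.cent_eq W _ a'.2 ha1', mem_cent_iff]
    exact hcomm
  have h4 : g * (a : G) * g⁻¹ ≠ 1 := by
    intro h
    apply ha1
    have : (a : G) = g⁻¹ * (g * (a : G) * g⁻¹) * g := by group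
    rw [this, h]; group
  refine ⟨g, ?_⟩
  rw [← hA'.cent_eq W _ h3 h4, cent_conj, hA.cent_eq W _ a.2 ha1]

/-- two such subgroups have coprime orders or are conjugate -/
theorem coprime_or_conj (hA : IsPi q A) (W : Ward q r U H t) {A' : Subgroup G}
    (hA' : IsPi q A') :
    Nat.Coprime (Nat.card A) (Nat.card A') ∨ ∃ g : G, A' = A.map (MulAut.conj g).toMonoidHom := by
  by_cases h : Nat.Coprime (Nat.card A) (Nat.card A')
  · left; exact h
  · right
    obtain ⟨p, hp, h1, h2⟩ := Nat.Prime.not_coprime_iff_dvd.mp h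
    exact hA.conj_of_common_prime W hA' hp h1 h2

/-- the index of `A` in its normaliser -/
theorem exists_index (hA : IsPi q A) (W : Ward q r U H t) :
    ∃ k : ℕ, (k = 1 ∨ k = 2 ∨ k = 3 ∨ k = 4 ∨ k = 6) ∧
      Nat.card (Subgroup.normalizer (A : Set G)) = k * Nat.card A := by
  have hle : A ≤ Subgroup.normalizer (A : Set G) := Subgroup.le_normalizer
  obtain ⟨k, hk⟩ := Subgroup.card_dvd_of_le hle
  have hApos : 0 < Nat.card A := Nat.card_pos
  have hNpos : 0 < Nat.card (Subgroup.normalizer (A : Set G)) := Nat.card_pos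
  have hk6 : k ≤ 6 := by
    obtain ⟨x, s, hs, hsd, hx, rfl⟩ := hA
    have := (W.cent_pi x s hs hx hsd).2
    rw [hk] at this
    have h2 : Nat.card (Subgroup.centralizer ({x} : Set G)) * k ≤
        Nat.card (Subgroup.centralizer ({x} : Set G)) * 6 := by
      rw [mul_comm _ 6]; exact this
    exact Nat.le_of_mul_le_mul_left h2 hApos
  have hk0 : k ≠ 0 := by
    rintro rfl
    rw [mul_zero] at hk
    omega
  have hk5 : k ≠ 5 := by
    rintro rfl
    apply W.qa.not_five_dvd_card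
    rw [← W.card_G]
    exact dvd_trans (Dvd.intro_left _ hk.symm) (Subgroup.card_subgroup_dvd_card _)
  refine ⟨k, by omega, by rw [hk, mul_comm]⟩

/-- the union of the conjugates of `A`, without the identity -/
def YSet (A : Subgroup G) : Set G := {y : G | ∃ g : G, ∃ a ∈ A, a ≠ 1 ∧ y = g * a * g⁻¹}

theorem card_YSet (hA : IsPi q A) (W : Ward q r U H t) :
    Nat.card (YSet A) * Nat.card (Subgroup.normalizer (A : Set G)) =
      q ^ 3 * (q - 1) * (q ^ 3 + 1) * (Nat.card A - 1) := by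
  have key := card_conj_union (Subgroup.normalizer (A : Set G)) {a : G | a ∈ A ∧ a ≠ 1} ?_ ?_
  · rw [W.card_G] at key
    have h1 : Nat.card {a : G | a ∈ A ∧ a ≠ 1} = Nat.card A - 1 := by
      have hset : {a : G | a ∈ A ∧ a ≠ 1} = (A : Set G) \ {1} := by
        ext x
        simp only [Set.mem_setOf_eq, Set.mem_diff, SetLike.mem_coe, Set.mem_singleton_iff]
      rw [Nat.card_coe_set_eq, hset, Set.ncard_diff_singleton_of_mem (one_mem A),
        ← Nat.card_coe_set_eq]
      rfl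
    rw [h1] at key
    rw [← key]
    congr 1
    apply Nat.card_congr
    apply Equiv.subtypeEquivRight
    intro y
    constructor
    · rintro ⟨g, a, ha, ha1, rfl⟩
      exact ⟨g, a, ⟨ha, ha1⟩, rfl⟩
    · rintro ⟨g, a, ⟨ha, ha1⟩, rfl⟩
      exact ⟨g, a, ha, ha1, rfl⟩
  · rintro n hn a ⟨ha, ha1⟩
    refine ⟨?_, ?_⟩
    · have := (Subgroup.mem_normalizer_iff.mp (inv_mem hn) a).mp ha
      rwa [inv_inv] at this
    · intro h
      apply ha1
      have : a = n * (n⁻¹ * a * n) * n⁻¹ := by group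
      rw [this, h]; group
  · rintro g a ⟨ha, ha1⟩ ⟨hga, -⟩
    exact hA.ti W a ha ha1 g hga

theorem orderOf_dvd_of_mem_YSet {y : G} (hy : y ∈ YSet A) : orderOf y ∣ Nat.card A := by
  obtain ⟨g, a, ha, -, rfl⟩ := hy
  rw [orderOf_conj'']
  exact Subgroup.orderOf_dvd_natCard A ha

theorem ne_one_of_mem_YSet {y : G} (hy : y ∈ YSet A) : y ≠ 1 := by
  obtain ⟨g, a, ha, ha1, rfl⟩ := hy
  intro h
  apply ha1
  have : a = g⁻¹ * (g * a * g⁻¹) * g := by group
  rw [this, h]; group

theorem YSet_disjoint {A A' : Subgroup G} (hcop : Nat.Coprime (Nat.card A) (Nat.card A')) :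
    Disjoint (YSet A) (YSet A') := by
  rw [Set.disjoint_left]
  intro y hy hy'
  have h1 := orderOf_dvd_of_mem_YSet hy
  have h2 := orderOf_dvd_of_mem_YSet hy'
  have := Nat.dvd_gcd h1 h2
  rw [hcop.gcd_eq_one, Nat.dvd_one, orderOf_eq_one_iff] at this
  exact ne_one_of_mem_YSet hy this

theorem YSet_conj (A : Subgroup G) (g : G) : YSet (A.map (MulAut.conj g).toMonoidHom) = YSet A := by
  ext y
  constructor
  · rintro ⟨c, a, ha, ha1, rfl⟩
    obtain ⟨b, hb, rfl⟩ := ha
    refine ⟨c * g, b, hb, ?_, ?_⟩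
    · rintro rfl
      apply ha1
      simp
    · show c * (g * b * g⁻¹) * c⁻¹ = c * g * b * (c * g)⁻¹
      group
  · rintro ⟨c, a, ha, ha1, rfl⟩
    refine ⟨c * g⁻¹, g * a * g⁻¹, ⟨a, ha, rfl⟩, ?_, by group⟩
    intro h
    apply ha1
    have : a = g⁻¹ * (g * a * g⁻¹) * g := by group
    rw [this, h]; group

/-- the elements whose order is divisible by a prime divisor of `q² - q + 1` -/
def TPi (G : Type u) [Group G] (q : ℕ) : Set G :=
  {g : G | ∃ s : ℕ, s.Prime ∧ s ∣ q * (q - 1) + 1 ∧ s ∣ orderOf g}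

theorem YSet_subset (hA : IsPi q A) (W : Ward q r U H t) : YSet A ⊆ TPi G q := by
  intro y hy
  have h1 := ne_one_of_mem_YSet hy
  have hn : orderOf y ≠ 1 := by rwa [Ne, orderOf_eq_one_iff]
  obtain ⟨s, hs, hsd⟩ := Nat.exists_prime_and_dvd hn
  exact ⟨s, hs, dvd_trans hsd (dvd_trans (orderOf_dvd_of_mem_YSet hy) (hA.card_dvd W)), hsd⟩

/-- an element of `TPi` with a prime in common with `|A|` lies in `YSet A` -/
theorem mem_YSet_of_prime (hA : IsPi q A) (W : Ward q r U H t) (g : G) (s : ℕ) (hs : s.Prime)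
    (hsg : s ∣ orderOf g) (hsA : s ∣ Nat.card A) : g ∈ YSet A := by
  have hsd : s ∣ q * (q - 1) + 1 := dvd_trans hsA (hA.card_dvd W)
  obtain ⟨h1, h2, h3⟩ := of_prime_dvd W g s hs hsd hsg
  obtain ⟨c, hc⟩ := hA.conj_of_common_prime W h1 hs hsA h3
  have hg1 : g ≠ 1 := by
    rintro rfl
    rw [orderOf_one] at hsg
    exact hs.one_lt.ne' (Nat.dvd_one.mp hsg)
  rw [← YSet_conj A c, ← hc]
  exact ⟨1, g, h2, hg1, by group⟩

theorem exists_isPi_of_mem_TPi (W : Ward q r U H t) (g : G) (hg : g ∈ TPi G q) :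
    ∃ A : Subgroup G, IsPi q A ∧ g ∈ YSet A := by
  obtain ⟨s, hs, hsd, hsg⟩ := hg
  obtain ⟨h1, h2, h3⟩ := of_prime_dvd W g s hs hsd hsg
  exact ⟨_, h1, h1.mem_YSet_of_prime W g s hs hsg h3⟩

/-- the number of elements of order `i`, `1 < i ∣ |A|` -/
theorem card_order (hA : IsPi q A) (W : Ward q r U H t) (i : ℕ) (hi1 : 1 < i)
    (hi : i ∣ Nat.card A) :
    Nat.card {g : G // orderOf g = i} * Nat.card (Subgroup.normalizer (A : Set G)) =
      q ^ 3 * (q - 1) * (q ^ 3 + 1) * Nat.totient i := by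
  have key := card_conj_union (Subgroup.normalizer (A : Set G))
    {x : G | x ∈ A ∧ orderOf x = i} ?_ ?_
  · rw [W.card_G] at key
    have h1 : Nat.card {x : G | x ∈ A ∧ orderOf x = i} = Nat.totient i :=
      card_orderOf_cyclic A (hA.isCyclic W) i hi
    rw [h1] at key
    rw [← key]
    congr 1
    apply Nat.card_congr
    apply Equiv.subtypeEquivRight
    intro y
    constructor
    · intro hy
      obtain ⟨s, hs, hsi⟩ := Nat.exists_prime_and_dvd (show i ≠ 1 by omega)
      obtain ⟨c, a, ha, ha1, rfl⟩ := hA.mem_YSet_of_prime W y s hs (by rw [hy]; exact hsi)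
        (dvd_trans hsi hi)
      refine ⟨c, a, ⟨ha, ?_⟩, rfl⟩
      rw [← hy, orderOf_conj'']
    · rintro ⟨g, x, ⟨-, hx⟩, rfl⟩
      rw [orderOf_conj'', hx]
  · rintro n hn x ⟨hx, ho⟩
    refine ⟨?_, ?_⟩
    · have := (Subgroup.mem_normalizer_iff.mp (inv_mem hn) x).mp hx
      rwa [inv_inv] at this
    · have := orderOf_conj'' n⁻¹ x
      rw [inv_inv] at this
      rw [this, ho]
  · rintro g x ⟨hx, ho⟩ ⟨hgx, -⟩
    apply hA.ti W x hx ?_ g hgx
    rintro rfl
    rw [orderOf_one] at ho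
    omega

end IsPi

end Cfsg.Agent.Lib.Helper1.RW
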