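import Mathlib
import Cfsg.Agent.Lib.Helper1.RW9

/-!
Ward's analysis of the Ree groups `²G₂(q)`, part 10: the partition of the group into types of
elements.
-/

set_option autoImplicit false
set_option maxHeartbeats 4000000
set_option linter.unusedVariables false
set_option linter.unusedSectionVars false
set_option linter.style.longLine false
set_option linter.unusedSimpArgs false
set_option linter.deprecated false

namespace Cfsg.Agent.Lib.Helper1.RW

universe u

/-- the `3`-singular elements -/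
def T3 (G : Type u) [Group G] : Set G := {g : G | 3 ∣ orderOf g}

/-- the involutions -/
def T2 (G : Type u) [Group G] : Set G := {g : G | orderOf g = 2}

/-- the elements of type `H` -/
def TH (G : Type u) [Group G] (q : ℕ) : Set G :=
  {g : G | ∃ p : ℕ, p.Prime ∧ p ≠ 2 ∧ p ∣ q - 1 ∧ p ∣ orderOf g}

/-- the elements of type `M` -/
def TM (G : Type u) [Group G] (q : ℕ) : Set G :=
  {g : G | ∃ p : ℕ, p.Prime ∧ p ≠ 2 ∧ p ∣ q + 1 ∧ p ∣ orderOf g}

theorem ncard_union6 {α : Type*} [Finite α] (A B C D E F : Set α)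
    (hAB : Disjoint A B) (hAC : Disjoint A C) (hAD : Disjoint A D) (hAE : Disjoint A E)
    (hAF : Disjoint A F) (hBC : Disjoint B C) (hBD : Disjoint B D) (hBE : Disjoint B E)
    (hBF : Disjoint B F) (hCD : Disjoint C D) (hCE : Disjoint C E) (hCF : Disjoint C F)
    (hDE : Disjoint D E) (hDF : Disjoint D F) (hEF : Disjoint E F)
    (hcover : ∀ x, x ∈ A ∨ x ∈ B ∨ x ∈ C ∨ x ∈ D ∨ x ∈ E ∨ x ∈ F) :
    Nat.card α = A.ncard + B.ncard + C.ncard + D.ncard + E.ncard + F.ncard := by
  have huniv : (Set.univ : Set α) = A ∪ (B ∪ (C ∪ (D ∪ (E ∪ F)))) := by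
    ext x
    simp only [Set.mem_univ, Set.mem_union, true_iff]
    exact hcover x
  rw [← Set.ncard_univ, huniv,
    Set.ncard_union_eq (by simp [Set.disjoint_union_right, *]) (Set.toFinite _) (Set.toFinite _),
    Set.ncard_union_eq (by simp [Set.disjoint_union_right, *]) (Set.toFinite _) (Set.toFinite _),
    Set.ncard_union_eq (by simp [Set.disjoint_union_right, *]) (Set.toFinite _) (Set.toFinite _),
    Set.ncard_union_eq (by simp [Set.disjoint_union_right, *]) (Set.toFinite _) (Set.toFinite _),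
    Set.ncard_union_eq hEF (Set.toFinite _) (Set.toFinite _)]
  ring

namespace Ward0

variable {G : Type u} [Group G] [Finite G] {q r : ℕ} {U H : Subgroup G} {t : G}

/-- elements of type `H` have order dividing `q - 1` -/
theorem orderOf_dvd_of_mem_TH (W : Ward0 q r U H t) (g : G) (hg : g ∈ TH G q) :
    orderOf g ∣ q - 1 := by
  obtain ⟨p, hp, hp2, hpq, hpg⟩ := hg
  obtain ⟨c, hc⟩ := W.conj_into_H g p hp hp2 hpq hpg
  rw [← orderOf_conj'' c g, ← W.card_H]
  exact Subgroup.orderOf_dvd_natCard H hc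

/-- elements of type `M` have order dividing `q + 1` -/
theorem orderOf_dvd_of_mem_TM (W : Ward0 q r U H t) (g : G) (hg : g ∈ TM G q) :
    orderOf g ∣ q + 1 := by
  obtain ⟨p, hp, hp2, hpq, hpg⟩ := hg
  obtain ⟨M, hM⟩ := W.exists_isM
  obtain ⟨c, hc⟩ := hM.conj_into W g p hp hp2 hpq hpg
  rw [← orderOf_conj'' c g]
  exact hM.orderOf_dvd_card W _ hc

/-- elements of `2`-power order have order at most `2` -/
theorem sq_eq_one_of_two_pow (W : Ward0 q r U H t) (g : G) (k : ℕ) (hg : orderOf g = 2 ^ k) :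
    g ^ 2 = 1 := by
  have h1 : 2 ^ k ∣ q ^ 3 * (q - 1) * (q + 1) * (q * (q - 1) + 1) := by
    rw [← W.qa.card_factor, ← W.card_G, ← hg]
    exact orderOf_dvd_natCard g
  have hk : k ≤ 3 := by
    by_contra hlt
    push_neg at hlt
    apply W.qa.not_sixteen_dvd
    refine dvd_trans ?_ h1
    have : (16 : ℕ) = 2 ^ 4 := by norm_num
    rw [this]
    exact pow_dvd_pow 2 hlt
  have h8 : g ^ 8 = 1 := by
    have : (8 : ℕ) = 2 ^ k * 2 ^ (3 - k) := by
      rw [← pow_add]
      have : k + (3 - k) = 3 := by omega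
      rw [this]; norm_num
    rw [this, pow_mul, ← hg, pow_orderOf_eq_one, one_pow]
  have h4 : g ^ 4 = 1 := by
    have h1 : (g ^ 2) ^ 4 = 1 := by rw [← pow_mul]; exact h8
    have h2 := W.two_elt _ h1
    rw [← pow_mul] at h2
    exact h2
  exact W.two_elt g h4

theorem T3_T2 (W : Ward0 q r U H t) : Disjoint (T3 G) (T2 G) := by
  rw [Set.disjoint_left]
  intro g h3 h2
  have h3' : 3 ∣ orderOf g := h3
  have h2' : orderOf g = 2 := h2
  rw [h2'] at h3'
  norm_num at h3'

theorem prime_of_mem_T3 (W : Ward0 q r U H t) (g : G) (h3 : g ∈ T3 G) (p : ℕ) (hp : p.Prime)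
    (hpg : p ∣ orderOf g) : p = 2 ∨ p = 3 := by
  rcases W.three_singular_orders g h3 with h | h | h <;> rw [h] at hpg
  · right; exact (Nat.prime_dvd_prime_iff_eq hp Nat.prime_three).mp hpg
  · have : (6 : ℕ) = 2 * 3 := by norm_num
    rw [this] at hpg
    rcases (hp.dvd_mul).mp hpg with h1 | h1
    · left; exact (Nat.prime_dvd_prime_iff_eq hp Nat.prime_two).mp h1
    · right; exact (Nat.prime_dvd_prime_iff_eq hp Nat.prime_three).mp h1
  · have : (9 : ℕ) = 3 ^ 2 := by norm_num
    rw [this] at hpg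
    right; exact (Nat.prime_dvd_prime_iff_eq hp Nat.prime_three).mp (hp.dvd_of_dvd_pow hpg)

theorem T3_TH (W : Ward0 q r U H t) : Disjoint (T3 G) (TH G q) := by
  rw [Set.disjoint_left]
  rintro g h3 ⟨p, hp, hp2, hpq, hpg⟩
  rcases W.prime_of_mem_T3 g h3 p hp hpg with rfl | rfl
  · exact hp2 rfl
  · exact W.qa.not_three_dvd_pred hpq

theorem T3_TM (W : Ward0 q r U H t) : Disjoint (T3 G) (TM G q) := by
  rw [Set.disjoint_left]
  rintro g h3 ⟨p, hp, hp2, hpq, hpg⟩
  rcases W.prime_of_mem_T3 g h3 p hp hpg with rfl | rfl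
  · exact hp2 rfl
  · exact W.qa.not_three_dvd_succ hpq

theorem T3_TPi (W : Ward0 q r U H t) : Disjoint (T3 G) (IsPi.TPi G q) := by
  rw [Set.disjoint_left]
  rintro g h3 ⟨p, hp, hpq, hpg⟩
  rcases W.prime_of_mem_T3 g h3 p hp hpg with rfl | rfl
  · exact W.qa.odd_n0 hpq
  · exact W.qa.not_three_dvd_n0 hpq

theorem T2_TH (W : Ward0 q r U H t) : Disjoint (T2 G) (TH G q) := by
  rw [Set.disjoint_left]
  rintro g h2 ⟨p, hp, hp2, hpq, hpg⟩
  have h2' : orderOf g = 2 := h2
  rw [h2'] at hpg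
  exact hp2 ((Nat.prime_dvd_prime_iff_eq hp Nat.prime_two).mp hpg)

theorem T2_TM (W : Ward0 q r U H t) : Disjoint (T2 G) (TM G q) := by
  rw [Set.disjoint_left]
  rintro g h2 ⟨p, hp, hp2, hpq, hpg⟩
  have h2' : orderOf g = 2 := h2
  rw [h2'] at hpg
  exact hp2 ((Nat.prime_dvd_prime_iff_eq hp Nat.prime_two).mp hpg)

theorem T2_TPi (W : Ward0 q r U H t) : Disjoint (T2 G) (IsPi.TPi G q) := by
  rw [Set.disjoint_left]
  rintro g h2 ⟨p, hp, hpq, hpg⟩
  have h2' : orderOf g = 2 := h2
  rw [h2'] at hpg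
  have := (Nat.prime_dvd_prime_iff_eq hp Nat.prime_two).mp hpg
  subst this
  exact W.qa.odd_n0 hpq

theorem TH_TM (W : Ward0 q r U H t) : Disjoint (TH G q) (TM G q) := by
  rw [Set.disjoint_left]
  rintro g hH ⟨p, hp, hp2, hpq, hpg⟩
  exact W.qa.not_dvd_both hp hp2 (dvd_trans hpg (W.orderOf_dvd_of_mem_TH g hH)) hpq

theorem TH_TPi (W : Ward0 q r U H t) : Disjoint (TH G q) (IsPi.TPi G q) := by
  rw [Set.disjoint_left]
  rintro g hH ⟨p, hp, hpq, hpg⟩
  exact (W.qa.not_dvd_of_dvd_n0 hp hpq).2.1 (dvd_trans hpg (W.orderOf_dvd_of_mem_TH g hH))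

theorem TM_TPi (W : Ward0 q r U H t) : Disjoint (TM G q) (IsPi.TPi G q) := by
  rw [Set.disjoint_left]
  rintro g hM ⟨p, hp, hpq, hpg⟩
  exact (W.qa.not_dvd_of_dvd_n0 hp hpq).2.2 (dvd_trans hpg (W.orderOf_dvd_of_mem_TM g hM))

/-- every element has one of the six types -/
theorem cover (W : Ward0 q r U H t) (g : G) :
    g ∈ ({1} : Set G) ∨ g ∈ T3 G ∨ g ∈ T2 G ∨ g ∈ TH G q ∨ g ∈ TM G q ∨ g ∈ IsPi.TPi G q := by
  by_cases hg1 : g = 1
  · left; exact hg1
  right
  by_cases hodd : ∃ p : ℕ, p.Prime ∧ p ≠ 2 ∧ p ∣ orderOf g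
  · obtain ⟨p, hp, hp2, hpg⟩ := hodd
    have hpG : p ∣ q ^ 3 * (q - 1) * (q ^ 3 + 1) := by
      rw [← W.card_G]
      exact dvd_trans hpg (orderOf_dvd_natCard g)
    rcases W.qa.prime_cases hp hpG with rfl | rfl | ⟨-, hpq⟩ | ⟨-, hpq⟩ | h
    · exact absurd rfl hp2
    · left; exact hpg
    · right; right; left; exact ⟨p, hp, hp2, hpq, hpg⟩
    · right; right; right; left; exact ⟨p, hp, hp2, hpq, hpg⟩
    · right; right; right; right; exact ⟨p, hp, h, hpg⟩
  · right; left
    push_neg at hodd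
    rcases Nat.eq_two_pow_or_exists_odd_prime_and_dvd (orderOf g) with ⟨k, hk⟩ | ⟨p, hp, hpd, hoddp⟩
    · have h2 := W.sq_eq_one_of_two_pow g k hk
      exact orderOf_eq_prime h2 hg1
    · exfalso
      have := hodd p hp
      by_cases hp2 : p = 2
      · subst hp2
        exact (by decide : ¬ Odd 2) hoddp
      · exact this hp2 hpd

theorem one_T3 : Disjoint ({1} : Set G) (T3 G) := by
  rw [Set.disjoint_left]
  intro g h1 h3
  rw [Set.mem_singleton_iff] at h1
  subst h1
  have : 3 ∣ orderOf (1 : G) := h3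
  rw [orderOf_one] at this
  norm_num at this

theorem one_T2 : Disjoint ({1} : Set G) (T2 G) := by
  rw [Set.disjoint_left]
  intro g h1 h2
  rw [Set.mem_singleton_iff] at h1
  subst h1
  have : orderOf (1 : G) = 2 := h2
  rw [orderOf_one] at this
  norm_num at this

theorem not_prime_dvd_one {p : ℕ} (hp : p.Prime) (h : p ∣ orderOf (1 : G)) : False := by
  rw [orderOf_one] at h
  exact hp.one_lt.ne' (Nat.dvd_one.mp h)

theorem one_TH : Disjoint ({1} : Set G) (TH G q) := by
  rw [Set.disjoint_left]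
  rintro g h1 ⟨p, hp, -, -, hpg⟩
  rw [Set.mem_singleton_iff] at h1
  subst h1
  exact not_prime_dvd_one hp hpg

theorem one_TM : Disjoint ({1} : Set G) (TM G q) := by
  rw [Set.disjoint_left]
  rintro g h1 ⟨p, hp, -, -, hpg⟩
  rw [Set.mem_singleton_iff] at h1
  subst h1
  exact not_prime_dvd_one hp hpg

theorem one_TPi : Disjoint ({1} : Set G) (IsPi.TPi G q) := by
  rw [Set.disjoint_left]
  rintro g h1 ⟨p, hp, -, hpg⟩
  rw [Set.mem_singleton_iff] at h1
  subst h1
  exact not_prime_dvd_one hp hpg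

/-- the partition of the group -/
theorem partition (W : Ward0 q r U H t) :
    q ^ 3 * (q - 1) * (q ^ 3 + 1) =
      1 + (T3 G).ncard + (T2 G).ncard + (TH G q).ncard + (TM G q).ncard +
        (IsPi.TPi G q).ncard := by
  rw [← W.card_G, ncard_union6 ({1} : Set G) (T3 G) (T2 G) (TH G q) (TM G q) (IsPi.TPi G q)
    one_T3 one_T2 one_TH one_TM one_TPi W.T3_T2 W.T3_TH W.T3_TM W.T3_TPi W.T2_TH W.T2_TM
    W.T2_TPi W.TH_TM W.TH_TPi W.TM_TPi W.cover, Set.ncard_singleton]

/-- the number of `3`-singular elements -/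
theorem card_T3 (W : Ward0 q r U H t) :
    (T3 G).ncard * (q ^ 3 * (q - 1)) =
      q ^ 3 * (q - 1) * (q ^ 3 + 1) * ((q ^ 2 - 1) + (q ^ 3 - q ^ 2) + (q ^ 3 - q ^ 2)) := by
  have hset : T3 G = {g : G | orderOf g = 3} ∪ ({g : G | orderOf g = 6} ∪ {g : G | orderOf g = 9}) := by
    ext g
    simp only [T3, Set.mem_setOf_eq, Set.mem_union]
    constructor
    · intro h
      rcases W.three_singular_orders g h with h | h | h
      · left; exact h
      · right; left; exact h
      · right; right; exact h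
    · rintro (h | h | h) <;> rw [h] <;> norm_num
  have hd1 : Disjoint {g : G | orderOf g = 3} ({g : G | orderOf g = 6} ∪ {g : G | orderOf g = 9}) := by
    rw [Set.disjoint_left]
    intro g h3 h
    simp only [Set.mem_setOf_eq, Set.mem_union] at h3 h
    omega
  have hd2 : Disjoint {g : G | orderOf g = 6} {g : G | orderOf g = 9} := by
    rw [Set.disjoint_left]
    intro g h3 h
    simp only [Set.mem_setOf_eq] at h3 h
    omega
  rw [hset, Set.ncard_union_eq hd1 (Set.toFinite _) (Set.toFinite _),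
    Set.ncard_union_eq hd2 (Set.toFinite _) (Set.toFinite _)]
  have h3 := W.card_three_singular 3 (by norm_num) (by norm_num)
  have h6 := W.card_three_singular 6 (by norm_num) (by norm_num)
  have h9 := W.card_three_singular 9 (by norm_num) (by norm_num)
  rw [W.card_B3] at h3
  rw [W.card_B6] at h6
  rw [W.card_B9] at h9
  have e3 : Nat.card {g : G // orderOf g = 3} = Set.ncard {g : G | orderOf g = 3} :=
    Nat.card_coe_set_eq _
  have e6 : Nat.card {g : G // orderOf g = 6} = Set.ncard {g : G | orderOf g = 6} :=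
    Nat.card_coe_set_eq _
  have e9 : Nat.card {g : G // orderOf g = 9} = Set.ncard {g : G | orderOf g = 9} :=
    Nat.card_coe_set_eq _
  rw [e3] at h3
  rw [e6] at h6
  rw [e9] at h9
  rw [add_mul, add_mul, h3, h6, h9]
  ring

theorem card_T2 (W : Ward0 q r U H t) :
    (T2 G).ncard * (q * (q ^ 2 - 1)) = q ^ 3 * (q - 1) * (q ^ 3 + 1) := by
  rw [← W.card_invol]
  rfl

/-- the elements of `H` of order at most `2` -/
theorem card_H_sq (W : Ward0 q r U H t) : Nat.card {h : G | h ∈ H ∧ h * h ≠ 1} = q - 3 := by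
  have hset : {h : G | h ∈ H ∧ h * h ≠ 1} = (H : Set G) \ {1, t} := by
    ext x
    simp only [Set.mem_setOf_eq, Set.mem_diff, SetLike.mem_coe, Set.mem_insert_iff,
      Set.mem_singleton_iff]
    constructor
    · rintro ⟨h1, h2⟩
      refine ⟨h1, ?_⟩
      rintro (rfl | rfl)
      · simp at h2
      · exact h2 W.t_sq
    · rintro ⟨h1, h2⟩
      refine ⟨h1, ?_⟩
      intro h3
      apply h2
      by_cases hx1 : x = 1
      · left; exact hx1
      · right; exact W.eq_t_of_sq x h1 h3 hx1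
  have h1 : Set.ncard (H : Set G) = q - 1 := by
    rw [← W.card_H]; exact (Nat.card_coe_set_eq _).symm
  have h2 : Set.ncard ({1, t} : Set G) = 2 := Set.ncard_pair (Ne.symm W.t_ne)
  rw [Nat.card_coe_set_eq, hset, Set.ncard_diff ?_ (Set.toFinite _), h1, h2]
  · omega
  · intro x hx
    simp only [Set.mem_insert_iff, Set.mem_singleton_iff] at hx
    rcases hx with rfl | rfl
    · exact one_mem H
    · exact W.t_mem

theorem card_TH (W : Ward0 q r U H t) :
    (TH G q).ncard * (2 * (q - 1)) = q ^ 3 * (q - 1) * (q ^ 3 + 1) * (q - 3) := by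
  have key := card_conj_union (Subgroup.normalizer (H : Set G)) {h : G | h ∈ H ∧ h * h ≠ 1} ?_ ?_
  · rw [W.card_NH, W.card_G, W.card_H_sq] at key
    rw [← key, ← Nat.card_coe_set_eq]
    congr 1
    apply Nat.card_congr
    apply Equiv.subtypeEquivRight
    intro y
    constructor
    · rintro ⟨p, hp, hp2, hpq, hpy⟩
      obtain ⟨c, hc⟩ := W.conj_into_H y p hp hp2 hpq hpy
      refine ⟨c⁻¹, c * y * c⁻¹, ⟨hc, ?_⟩, by group⟩
      intro h2
      have : orderOf (c * y * c⁻¹) ∣ 2 := by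
        apply orderOf_dvd_of_pow_eq_one
        rw [pow_two]; exact h2
      rw [orderOf_conj''] at this
      exact hp2 ((Nat.prime_dvd_prime_iff_eq hp Nat.prime_two).mp (dvd_trans hpy this))
    · rintro ⟨g, x, ⟨hx, hx2⟩, rfl⟩
      have hd : orderOf x ∣ q - 1 := by
        rw [← W.card_H]; exact Subgroup.orderOf_dvd_natCard H hx
      have h2 : 2 < orderOf x := by
        by_contra hle
        push_neg at hle
        have hpos := orderOf_pos x
        apply hx2
        rw [← pow_two]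
        have hd2 : orderOf x ∣ 2 := by
          have h12 : orderOf x = 1 ∨ orderOf x = 2 := by omega
          rcases h12 with h | h <;> rw [h] <;> norm_num
        exact orderOf_dvd_iff_pow_eq_one.mp hd2
      obtain ⟨p, hp, hp2, hpx⟩ := exists_odd_prime_dvd (orderOf x) ((q - 1) / 2) h2
        (by rw [← W.qa.half_pred.1]; exact hd) W.qa.half_pred.2
      exact ⟨p, hp, hp2, dvd_trans hpx hd, by rw [orderOf_conj'']; exact hpx⟩
  · rintro n hn x ⟨hx, hx2⟩
    refine ⟨?_, ?_⟩
    · have := (Subgroup.mem_normalizer_iff.mp (inv_mem hn) x).mp hx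
      rwa [inv_inv] at this
    · have := sq_conj_ne n⁻¹ x hx2
      rwa [inv_inv] at this
  · rintro g x ⟨hx, hx2⟩ ⟨hgx, -⟩
    exact W.H_ti x hx hx2 g hgx

end Ward0

end Cfsg.Agent.Lib.Helper1.RW
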