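import Mathlib
import Cfsg.Agent.Lib.Helper1.RW10

/-!
Ward's analysis of the Ree groups `²G₂(q)`, part 11: the arithmetic of the class equation.
-/

set_option autoImplicit false
set_option maxHeartbeats 4000000
set_option linter.unusedVariables false
set_option linter.unusedSectionVars false
set_option linter.style.longLine false
set_option linter.unusedSimpArgs false
set_option linter.deprecated false

namespace Cfsg.Agent.Lib.Helper1.RW

/-- bounds for the contribution of one class of cyclic Hall subgroups -/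
theorem class_bounds (g c k Y : ℕ) (hg : 0 < g) (hc : 7 ≤ c) (h : Y * (k * c) = g * (c - 1)) :
    6 * g ≤ 7 * (k * Y) ∧ k * Y < g := by
  have hc0 : 0 < c := by omega
  constructor
  · have h1 : 6 * g * c ≤ 7 * (k * Y) * c := by
      have : 7 * (k * Y) * c = 7 * (Y * (k * c)) := by ring
      rw [this, h]
      have : 6 * c ≤ 7 * (c - 1) := by omega
      calc 6 * g * c = g * (6 * c) := by ring
        _ ≤ g * (7 * (c - 1)) := Nat.mul_le_mul_left g this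
        _ = 7 * (g * (c - 1)) := by ring
    exact Nat.le_of_mul_le_mul_right h1 hc0
  · have h1 : k * Y * c < g * c := by
      have : k * Y * c = Y * (k * c) := by ring
      rw [this, h]
      exact Nat.mul_lt_mul_of_pos_left (by omega) hg
    exact Nat.lt_of_mul_lt_mul_right h1

/-- solving the class equation for the number of elements of type `π` -/
theorem master_solve (q t3 t2 tH tM P k : ℕ) (hq : 27 ≤ q)
    (hk : k = 1 ∨ k = 2 ∨ k = 3 ∨ k = 6)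
    (E0 : q ^ 3 * (q - 1) * (q ^ 3 + 1) = 1 + t3 + t2 + tH + tM + P)
    (E3 : t3 * (q ^ 3 * (q - 1)) =
      q ^ 3 * (q - 1) * (q ^ 3 + 1) * ((q ^ 2 - 1) + (q ^ 3 - q ^ 2) + (q ^ 3 - q ^ 2)))
    (E2 : t2 * (q * (q ^ 2 - 1)) = q ^ 3 * (q - 1) * (q ^ 3 + 1))
    (EH : tH * (2 * (q - 1)) = q ^ 3 * (q - 1) * (q ^ 3 + 1) * (q - 3))
    (EM : tM * (k * (q + 1)) = q ^ 3 * (q - 1) * (q ^ 3 + 1) * (q - 3)) :
    k ≠ 1 ∧ (k = 2 → 7 * P < q ^ 3 * (q - 1) * (q ^ 3 + 1)) ∧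
      (k = 3 → q ^ 3 * (q - 1) * (q ^ 3 + 1) < 6 * P ∧ 14 * P < 3 * (q ^ 3 * (q - 1) * (q ^ 3 + 1))) ∧
      (k = 6 → 3 * P = q ^ 4 * (q - 2) * (q ^ 2 - 1) ∧ q ^ 3 * (q - 1) * (q ^ 3 + 1) < 4 * P ∧
        3 * P < q ^ 3 * (q - 1) * (q ^ 3 + 1)) := by
  obtain ⟨x, rfl⟩ : ∃ x, q = 27 + x := ⟨q - 27, by omega⟩
  have h1 : 1 ≤ 27 + x := by omega
  have h2 : 1 ≤ (27 + x) ^ 2 := Nat.one_le_pow _ _ (by omega)
  have h3 : (27 + x) ^ 2 ≤ (27 + x) ^ 3 := Nat.pow_le_pow_right (by omega) (by norm_num)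
  have h4 : 3 ≤ 27 + x := by omega
  have h5 : 2 ≤ 27 + x := by omega
  zify [h1, h2, h3, h4, h5] at E0 E3 E2 EH EM ⊢
  obtain ⟨X, hX⟩ : ∃ X : ℤ, X = (x : ℤ) := ⟨_, rfl⟩
  have hX0 : 0 ≤ X := by rw [hX]; positivity
  rw [← hX] at E0 E3 E2 EH EM ⊢
  -- solve for the unknowns
  have hC : (0 : ℤ) < 27 + X - 1 := by linarith
  have hQ : (0 : ℤ) < 27 + X := by linarith
  have hA : (0 : ℤ) < (27 + X) ^ 3 * (27 + X - 1) := mul_pos (pow_pos hQ 3) hC
  have e3 : (t3 : ℤ) = ((27 + X) ^ 3 + 1) *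
      (((27 + X) ^ 2 - 1) + ((27 + X) ^ 3 - (27 + X) ^ 2) + ((27 + X) ^ 3 - (27 + X) ^ 2)) := by
    apply mul_right_cancel₀ hA.ne'
    rw [E3]; ring
  have hB : (0 : ℤ) < (27 + X) * ((27 + X) ^ 2 - 1) := by
    have : (0 : ℤ) < (27 + X) ^ 2 - 1 := by nlinarith
    exact mul_pos hQ this
  have e2 : (t2 : ℤ) = (27 + X) ^ 2 * ((27 + X) ^ 2 - (27 + X) + 1) := by
    apply mul_right_cancel₀ hB.ne'
    rw [E2]; ring
  have eH : 2 * (tH : ℤ) = (27 + X) ^ 3 * ((27 + X) ^ 3 + 1) * (27 + X - 3) := by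
    apply mul_right_cancel₀ hC.ne'
    have : 2 * (tH : ℤ) * (27 + X - 1) = (tH : ℤ) * (2 * (27 + X - 1)) := by ring
    rw [this, EH]; ring
  have hD : (0 : ℤ) < 27 + X + 1 := by linarith
  have eM : (k : ℤ) * (tM : ℤ) =
      (27 + X) ^ 3 * (27 + X - 1) * ((27 + X) ^ 2 - (27 + X) + 1) * (27 + X - 3) := by
    apply mul_right_cancel₀ hD.ne'
    have : (k : ℤ) * (tM : ℤ) * (27 + X + 1) = (tM : ℤ) * ((k : ℤ) * (27 + X + 1)) := by ring
    rw [this, EM]; ring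
  have hP0 : (0 : ℤ) ≤ (P : ℤ) := by positivity
  have htM0 : (0 : ℤ) ≤ (tM : ℤ) := by positivity
  rcases hk with rfl | rfl | rfl | rfl
  · -- `k = 1`
    exfalso
    simp only [Nat.cast_one, one_mul] at eM
    have hP : 2 * (P : ℤ) = 2 * ((27 + X) ^ 3 * (27 + X - 1) * ((27 + X) ^ 3 + 1)) - 2 -
        2 * (t3 : ℤ) - 2 * (t2 : ℤ) - 2 * (tH : ℤ) - 2 * (tM : ℤ) := by linarith
    rw [e3, e2, eH, eM] at hP
    have : 2 * (P : ℤ) < 0 := by
      rw [hP]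
      nlinarith [pow_nonneg hX0 2, pow_nonneg hX0 3, pow_nonneg hX0 4, pow_nonneg hX0 5,
        pow_nonneg hX0 6, pow_nonneg hX0 7]
    linarith
  · -- `k = 2`
    refine ⟨by norm_num, fun _ => ?_, fun h => by norm_num at h, fun h => by norm_num at h⟩
    have eM' : 2 * (tM : ℤ) =
        (27 + X) ^ 3 * (27 + X - 1) * ((27 + X) ^ 2 - (27 + X) + 1) * (27 + X - 3) := by
      exact_mod_cast eM
    have hP : 2 * (P : ℤ) = 2 * ((27 + X) ^ 3 * (27 + X - 1) * ((27 + X) ^ 3 + 1)) - 2 -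
        2 * (t3 : ℤ) - 2 * (t2 : ℤ) - 2 * (tH : ℤ) - 2 * (tM : ℤ) := by linarith
    rw [e3, e2, eH, eM'] at hP
    have hP' : (P : ℤ) = (27 + X) ^ 3 * (27 + X - 1) ^ 3 := by
      have : 2 * (P : ℤ) = 2 * ((27 + X) ^ 3 * (27 + X - 1) ^ 3) := by
        rw [hP]; ring
      linarith
    push_cast
    rw [hP']
    nlinarith [pow_nonneg hX0 2, pow_nonneg hX0 3, pow_nonneg hX0 4, pow_nonneg hX0 5,
      pow_nonneg hX0 6, pow_nonneg hX0 7]
  · -- `k = 3`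
    refine ⟨by norm_num, fun h => by norm_num at h, fun _ => ?_, fun h => by norm_num at h⟩
    have eM' : 3 * (tM : ℤ) =
        (27 + X) ^ 3 * (27 + X - 1) * ((27 + X) ^ 2 - (27 + X) + 1) * (27 + X - 3) := by
      exact_mod_cast eM
    have hP : 6 * (P : ℤ) = 6 * ((27 + X) ^ 3 * (27 + X - 1) * ((27 + X) ^ 3 + 1)) - 6 -
        6 * (t3 : ℤ) - 6 * (t2 : ℤ) - 3 * (2 * (tH : ℤ)) - 2 * (3 * (tM : ℤ)) := by linarith
    rw [e3, e2, eH, eM'] at hP
    have hP' : 6 * (P : ℤ) = (27 + X) ^ 3 * (27 + X - 1) * ((27 + X) ^ 3 + 1) +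
        2 * ((27 + X) ^ 3 * (27 + X - 1) * ((27 + X) ^ 2 - 4 * (27 + X) + 1)) := by
      rw [hP]; ring
    push_cast
    constructor
    · rw [hP']
      nlinarith [pow_nonneg hX0 2, pow_nonneg hX0 3, pow_nonneg hX0 4, pow_nonneg hX0 5,
        pow_nonneg hX0 6]
    · have : 3 * (14 * (P : ℤ)) < 3 * (3 * ((27 + X) ^ 3 * (27 + X - 1) * ((27 + X) ^ 3 + 1))) := by
        have : 3 * (14 * (P : ℤ)) = 7 * (6 * (P : ℤ)) := by ring
        rw [this, hP']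
        nlinarith [pow_nonneg hX0 2, pow_nonneg hX0 3, pow_nonneg hX0 4, pow_nonneg hX0 5,
          pow_nonneg hX0 6, pow_nonneg hX0 7]
      linarith
  · -- `k = 6`
    refine ⟨by norm_num, fun h => by norm_num at h, fun h => by norm_num at h, fun _ => ?_⟩
    have eM' : 6 * (tM : ℤ) =
        (27 + X) ^ 3 * (27 + X - 1) * ((27 + X) ^ 2 - (27 + X) + 1) * (27 + X - 3) := by
      exact_mod_cast eM
    have hP : 6 * (P : ℤ) = 6 * ((27 + X) ^ 3 * (27 + X - 1) * ((27 + X) ^ 3 + 1)) - 6 -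
        6 * (t3 : ℤ) - 6 * (t2 : ℤ) - 3 * (2 * (tH : ℤ)) - (6 * (tM : ℤ)) := by linarith
    rw [e3, e2, eH, eM'] at hP
    have hP' : 3 * (P : ℤ) = (27 + X) ^ 4 * (27 + X - 2) * ((27 + X) ^ 2 - 1) := by
      have : 2 * (3 * (P : ℤ)) = 2 * ((27 + X) ^ 4 * (27 + X - 2) * ((27 + X) ^ 2 - 1)) := by
        have : 2 * (3 * (P : ℤ)) = 6 * (P : ℤ) := by ring
        rw [this, hP]; ring
      linarith
    push_cast
    refine ⟨hP', ?_, ?_⟩
    · have : 3 * ((27 + X) ^ 3 * (27 + X - 1) * ((27 + X) ^ 3 + 1)) < 4 * (3 * (P : ℤ)) := by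
        rw [hP']
        nlinarith [pow_nonneg hX0 2, pow_nonneg hX0 3, pow_nonneg hX0 4, pow_nonneg hX0 5,
          pow_nonneg hX0 6, pow_nonneg hX0 7]
      linarith
    · rw [hP']
      nlinarith [pow_nonneg hX0 2, pow_nonneg hX0 3, pow_nonneg hX0 4, pow_nonneg hX0 5,
        pow_nonneg hX0 6, pow_nonneg hX0 7]

end Cfsg.Agent.Lib.Helper1.RW
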