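import Mathlib
import Cfsg.Agent.Lib.Helper1.RW11

/-!
Ward's analysis of the Ree groups `²G₂(q)`, part 12: two more arithmetic lemmas.
-/

set_option autoImplicit false
set_option maxHeartbeats 4000000
set_option linter.unusedVariables false
set_option linter.unusedSectionVars false
set_option linter.style.longLine false
set_option linter.unusedSimpArgs false
set_option linter.deprecated false

namespace Cfsg.Agent.Lib.Helper1.RW

/-- one class with index `3` is impossible -/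
theorem one_class_three (q r c Y : ℕ) (hqa : QA q r)
    (h : Y * (3 * c) = q ^ 3 * (q - 1) * (q ^ 3 + 1) * (c - 1))
    (hP : 3 * Y = q ^ 4 * (q - 2) * (q ^ 2 - 1)) (h7 : 7 ≤ c) : False := by
  have hq := hqa.hq27
  have key : q * (q - 1) + 1 = c * (q + 1) := by
    obtain ⟨x, rfl⟩ : ∃ x, q = 27 + x := ⟨q - 27, by omega⟩
    have h1 : 1 ≤ 27 + x := by omega
    have h2 : 1 ≤ (27 + x) ^ 2 := Nat.one_le_pow _ _ (by omega)
    have h5 : 2 ≤ 27 + x := by omega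
    have h6 : 1 ≤ c := by omega
    zify [h1, h2, h5, h6] at h hP ⊢
    obtain ⟨X, hX⟩ : ∃ X : ℤ, X = (x : ℤ) := ⟨_, rfl⟩
    have hX0 : 0 ≤ X := by rw [hX]; positivity
    rw [← hX] at h hP ⊢
    have hQ : (0 : ℤ) < 27 + X := by linarith
    have hQ2 : (0 : ℤ) < (27 + X) ^ 2 - 1 := by nlinarith
    have hne : (27 + X) ^ 3 * ((27 + X) ^ 2 - 1) ≠ 0 := (mul_pos (pow_pos hQ 3) hQ2).ne'
    apply mul_left_cancel₀ hne
    have e1 : (Y : ℤ) * (3 * (c : ℤ)) = (3 * (Y : ℤ)) * (c : ℤ) := by ring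
    rw [e1, hP] at h
    linear_combination (1 : ℤ) * h
  have hd : q + 1 ∣ q * (q - 1) + 1 := Dvd.intro_left _ key.symm
  have := Nat.dvd_gcd hd (dvd_refl (q + 1))
  rw [hqa.coprime_n0_succ.gcd_eq_one, Nat.dvd_one] at this
  omega

/-- two classes with index `6`: the orders are `q ± r + 1` -/
theorem two_classes (q r c₁ c₂ Y₁ Y₂ P : ℕ) (hqa : QA q r)
    (h1 : Y₁ * (6 * c₁) = q ^ 3 * (q - 1) * (q ^ 3 + 1) * (c₁ - 1))
    (h2 : Y₂ * (6 * c₂) = q ^ 3 * (q - 1) * (q ^ 3 + 1) * (c₂ - 1))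
    (hP : 3 * P = q ^ 4 * (q - 2) * (q ^ 2 - 1)) (hsum : Y₁ + Y₂ = P)
    (hc1 : c₁ ∣ q * (q - 1) + 1) (hc2 : c₂ ∣ q * (q - 1) + 1) (hcop : Nat.Coprime c₁ c₂)
    (h71 : 7 ≤ c₁) (h72 : 7 ≤ c₂) :
    (c₁ = q + r + 1 ∧ c₂ = q - r + 1) ∨ (c₁ = q - r + 1 ∧ c₂ = q + r + 1) := by
  have hq := hqa.hq27
  have hrq := hqa.r_le
  have hr := hqa.hr
  obtain ⟨e, he⟩ := hcop.mul_dvd_of_dvd_of_dvd hc1 hc2
  -- the key identity `e (c₁ + c₂) = 2 (q + 1)`
  have key : e * (c₁ + c₂) = 2 * (q + 1) := by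
    obtain ⟨x, rfl⟩ : ∃ x, q = 27 + x := ⟨q - 27, by omega⟩
    have g1 : 1 ≤ 27 + x := by omega
    have g2 : 1 ≤ (27 + x) ^ 2 := Nat.one_le_pow _ _ (by omega)
    have g5 : 2 ≤ 27 + x := by omega
    have g6 : 1 ≤ c₁ := by omega
    have g7 : 1 ≤ c₂ := by omega
    zify [g1, g2, g5, g6, g7] at h1 h2 hP hsum he ⊢
    obtain ⟨X, hX⟩ : ∃ X : ℤ, X = (x : ℤ) := ⟨_, rfl⟩
    have hX0 : 0 ≤ X := by rw [hX]; positivity
    rw [← hX] at h1 h2 hP he ⊢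
    have hQ : (0 : ℤ) < 27 + X := by linarith
    have hQ2 : (0 : ℤ) < (27 + X) ^ 2 - 1 := by nlinarith
    have hc10 : (0 : ℤ) < (c₁ : ℤ) := by exact_mod_cast (by omega : 0 < c₁)
    have hc20 : (0 : ℤ) < (c₂ : ℤ) := by exact_mod_cast (by omega : 0 < c₂)
    have hne : (27 + X) ^ 3 * ((27 + X) ^ 2 - 1) * ((c₁ : ℤ) * (c₂ : ℤ)) ≠ 0 :=
      (mul_pos (mul_pos (pow_pos hQ 3) hQ2) (mul_pos hc10 hc20)).ne'
    apply mul_left_cancel₀ hne
    have hP' : 6 * ((Y₁ : ℤ) + (Y₂ : ℤ)) = 2 * ((27 + X) ^ 4 * (27 + X - 2) * ((27 + X) ^ 2 - 1)) := by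
      rw [hsum]; linarith
    linear_combination (c₂ : ℤ) * h1 + (c₁ : ℤ) * h2 - ((c₁ : ℤ) * (c₂ : ℤ)) * hP' -
      ((27 + X) ^ 3 * ((27 + X) ^ 2 - 1) * ((c₁ : ℤ) + (c₂ : ℤ))) * he
  -- `e = 1`
  have he1 : e = 1 := by
    have hd1 : e ∣ q * (q - 1) + 1 := Dvd.intro_left _ he.symm
    have hd2 : e ∣ 2 * (q + 1) := Dvd.intro _ key
    have hcop2 : Nat.Coprime (q * (q - 1) + 1) (2 * (q + 1)) := by
      apply Nat.Coprime.mul_right
      · rw [Nat.coprime_comm, Nat.Prime.coprime_iff_not_dvd Nat.prime_two]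
        exact hqa.odd_n0
      · exact hqa.coprime_n0_succ
    have := Nat.dvd_gcd hd1 hd2
    rw [hcop2.gcd_eq_one, Nat.dvd_one] at this
    exact this
  subst he1
  rw [one_mul] at key
  rw [mul_one] at he
  -- solve the quadratic
  have hsq : ((c₁ : ℤ) - (c₂ : ℤ) - 2 * (r : ℤ)) * ((c₁ : ℤ) - (c₂ : ℤ) + 2 * (r : ℤ)) = 0 := by
    have g1 : 1 ≤ q := by omega
    zify [g1] at key he hr
    linear_combination ((c₁ : ℤ) + (c₂ : ℤ) + 2 * ((q : ℤ) + 1)) * key + 4 * he - 4 * hr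
  rcases mul_eq_zero.mp hsq with h | h
  · left
    have g1 : 1 ≤ q := by omega
    zify [g1] at key
    have e1 : (c₁ : ℤ) = (q : ℤ) + (r : ℤ) + 1 := by linarith
    have e2 : (c₂ : ℤ) = (q : ℤ) - (r : ℤ) + 1 := by linarith
    constructor
    · exact_mod_cast e1
    · zify [hrq]; exact e2
  · right
    have g1 : 1 ≤ q := by omega
    zify [g1] at key
    have e1 : (c₂ : ℤ) = (q : ℤ) + (r : ℤ) + 1 := by linarith
    have e2 : (c₁ : ℤ) = (q : ℤ) - (r : ℤ) + 1 := by linarith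
    constructor
    · zify [hrq]; exact e2
    · exact_mod_cast e1

end Cfsg.Agent.Lib.Helper1.RW
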