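import Mathlib
import Cfsg.Agent.Lib.Helper1.RW12

/-!
Ward's analysis of the Ree groups `²G₂(q)`, part 13: the cyclic Hall subgroups of orders
`q ± r + 1` and the normaliser of `M`.
-/

set_option autoImplicit false
set_option maxHeartbeats 4000000
set_option linter.unusedVariables false
set_option linter.unusedSectionVars false
set_option linter.style.longLine false
set_option linter.unusedSimpArgs false
set_option linter.deprecated false

namespace Cfsg.Agent.Lib.Helper1.RW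

universe u

namespace IsPi

variable {G : Type u} [Group G] [Finite G] {q r : ℕ} {U H : Subgroup G} {t : G}
  {A A₁ A₂ A₃ : Subgroup G}

theorem exists_first (W : Ward q r U H t) : ∃ A : Subgroup G, IsPi q A := by
  have h27 := W.qa.hq27
  have h1 : q * (q - 1) + 1 ≠ 1 := by
    have : 0 < q * (q - 1) := Nat.mul_pos (by omega) (by omega)
    omega
  obtain ⟨s, hs, hsd⟩ := Nat.exists_prime_and_dvd h1
  haveI : Fact s.Prime := ⟨hs⟩
  have hsG : s ∣ Nat.card G := by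
    rw [W.card_G, W.qa.card_factor]
    exact Dvd.dvd.mul_left hsd _
  obtain ⟨x, hx⟩ := exists_prime_orderOf_dvd_card' s hsG
  exact ⟨_, x, s, hs, hsd, hx, rfl⟩

theorem ncard_le (hA : IsPi q A) (W : Ward q r U H t) :
    (YSet A).ncard ≤ (TPi G q).ncard :=
  Set.ncard_le_ncard (hA.YSet_subset W) (Set.toFinite _)

theorem ncard_add_le (hA₁ : IsPi q A₁) (hA₂ : IsPi q A₂) (W : Ward q r U H t)
    (hcop : Nat.Coprime (Nat.card A₁) (Nat.card A₂)) :
    (YSet A₁).ncard + (YSet A₂).ncard ≤ (TPi G q).ncard := by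
  rw [← Set.ncard_union_eq (YSet_disjoint hcop) (Set.toFinite _) (Set.toFinite _)]
  exact Set.ncard_le_ncard (Set.union_subset (hA₁.YSet_subset W) (hA₂.YSet_subset W))
    (Set.toFinite _)

theorem ncard_add_add_le (hA₁ : IsPi q A₁) (hA₂ : IsPi q A₂) (hA₃ : IsPi q A₃)
    (W : Ward q r U H t) (h12 : Nat.Coprime (Nat.card A₁) (Nat.card A₂))
    (h13 : Nat.Coprime (Nat.card A₁) (Nat.card A₃)) (h23 : Nat.Coprime (Nat.card A₂) (Nat.card A₃)) :
    (YSet A₁).ncard + (YSet A₂).ncard + (YSet A₃).ncard ≤ (TPi G q).ncard := by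
  have hd : Disjoint (YSet A₁ ∪ YSet A₂) (YSet A₃) := by
    rw [Set.disjoint_union_left]
    exact ⟨YSet_disjoint h13, YSet_disjoint h23⟩
  rw [← Set.ncard_union_eq (YSet_disjoint h12) (Set.toFinite _) (Set.toFinite _),
    ← Set.ncard_union_eq hd (Set.toFinite _) (Set.toFinite _)]
  exact Set.ncard_le_ncard (Set.union_subset (Set.union_subset (hA₁.YSet_subset W)
    (hA₂.YSet_subset W)) (hA₃.YSet_subset W)) (Set.toFinite _)

theorem exists_second (hA₁ : IsPi q A₁) (W : Ward q r U H t)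
    (hlt : (YSet A₁).ncard < (TPi G q).ncard) :
    ∃ A₂ : Subgroup G, IsPi q A₂ ∧ Nat.Coprime (Nat.card A₁) (Nat.card A₂) := by
  have hex : ∃ x ∈ TPi G q, x ∉ YSet A₁ := by
    by_contra hcon
    push_neg at hcon
    have := Set.ncard_le_ncard (fun x hx => hcon x hx) (Set.toFinite (YSet A₁))
    omega
  obtain ⟨x, hx, hxn⟩ := hex
  obtain ⟨A₂, hA₂, hx₂⟩ := exists_isPi_of_mem_TPi W x hx
  rcases hA₁.coprime_or_conj W hA₂ with h | ⟨g, hg⟩
  · exact ⟨A₂, hA₂, h⟩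
  · exfalso
    rw [hg, YSet_conj] at hx₂
    exact hxn hx₂

theorem exists_third (hA₁ : IsPi q A₁) (hA₂ : IsPi q A₂) (W : Ward q r U H t)
    (hlt : (YSet A₁).ncard + (YSet A₂).ncard < (TPi G q).ncard) :
    ∃ A₃ : Subgroup G, IsPi q A₃ ∧ Nat.Coprime (Nat.card A₁) (Nat.card A₃) ∧
      Nat.Coprime (Nat.card A₂) (Nat.card A₃) := by
  have hex : ∃ x ∈ TPi G q, x ∉ YSet A₁ ∪ YSet A₂ := by
    by_contra hcon
    push_neg at hcon
    have h1 := Set.ncard_le_ncard (fun x hx => hcon x hx) (Set.toFinite (YSet A₁ ∪ YSet A₂))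
    have h2 := Set.ncard_union_le (YSet A₁) (YSet A₂)
    omega
  obtain ⟨x, hx, hxn⟩ := hex
  obtain ⟨A₃, hA₃, hx₃⟩ := exists_isPi_of_mem_TPi W x hx
  refine ⟨A₃, hA₃, ?_, ?_⟩
  · rcases hA₁.coprime_or_conj W hA₃ with h | ⟨g, hg⟩
    · exact h
    · exfalso
      rw [hg, YSet_conj] at hx₃
      exact hxn (Set.mem_union_left _ hx₃)
  · rcases hA₂.coprime_or_conj W hA₃ with h | ⟨g, hg⟩
    · exact h
    · exfalso
      rw [hg, YSet_conj] at hx₃
      exact hxn (Set.mem_union_right _ hx₃)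

theorem cover_of_eq (hA₁ : IsPi q A₁) (hA₂ : IsPi q A₂) (W : Ward q r U H t)
    (hcop : Nat.Coprime (Nat.card A₁) (Nat.card A₂))
    (heq : (YSet A₁).ncard + (YSet A₂).ncard = (TPi G q).ncard) :
    TPi G q ⊆ YSet A₁ ∪ YSet A₂ := by
  have hsub : YSet A₁ ∪ YSet A₂ ⊆ TPi G q :=
    Set.union_subset (hA₁.YSet_subset W) (hA₂.YSet_subset W)
  have hcard : (TPi G q).ncard ≤ (YSet A₁ ∪ YSet A₂).ncard := by
    rw [Set.ncard_union_eq (YSet_disjoint hcop) (Set.toFinite _) (Set.toFinite _), heq]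
  rw [Set.eq_of_subset_of_ncard_le hsub hcard (Set.toFinite _)]

/-- the numerical data of a class -/
theorem class_data (hA : IsPi q A) (W : Ward q r U H t) :
    ∃ kA : ℕ, (kA = 1 ∨ kA = 2 ∨ kA = 3 ∨ kA = 4 ∨ kA = 6) ∧
      Nat.card (Subgroup.normalizer (A : Set G)) = kA * Nat.card A ∧
      (YSet A).ncard * (kA * Nat.card A) = q ^ 3 * (q - 1) * (q ^ 3 + 1) * (Nat.card A - 1) ∧
      6 * (q ^ 3 * (q - 1) * (q ^ 3 + 1)) ≤ 7 * (kA * (YSet A).ncard) ∧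
      kA * (YSet A).ncard < q ^ 3 * (q - 1) * (q ^ 3 + 1) := by
  obtain ⟨kA, hkA, hN⟩ := hA.exists_index W
  have hY := hA.card_YSet W
  rw [hN, Nat.card_coe_set_eq] at hY
  obtain ⟨h1, h2⟩ := class_bounds _ _ _ _ W.toWard0.card_pos' (hA.seven_le_card W) hY
  exact ⟨kA, hkA, hN, hY, h1, h2⟩

end IsPi

namespace Ward

variable {G : Type u} [Group G] [Finite G] {q r : ℕ} {U H : Subgroup G} {t : G}

/-- the class equation, solved -/
theorem master (W : Ward q r U H t) {M : Subgroup G} (hM : IsM q M) (k : ℕ)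
    (hk : k = 1 ∨ k = 2 ∨ k = 3 ∨ k = 6)
    (hkN : Nat.card (Subgroup.normalizer (M : Set G)) = k * (q + 1)) :
    k ≠ 1 ∧ (k = 2 → 7 * (IsPi.TPi G q).ncard < q ^ 3 * (q - 1) * (q ^ 3 + 1)) ∧
      (k = 3 → q ^ 3 * (q - 1) * (q ^ 3 + 1) < 6 * (IsPi.TPi G q).ncard ∧
        14 * (IsPi.TPi G q).ncard < 3 * (q ^ 3 * (q - 1) * (q ^ 3 + 1))) ∧
      (k = 6 → 3 * (IsPi.TPi G q).ncard = q ^ 4 * (q - 2) * (q ^ 2 - 1) ∧
        q ^ 3 * (q - 1) * (q ^ 3 + 1) < 4 * (IsPi.TPi G q).ncard ∧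
        3 * (IsPi.TPi G q).ncard < q ^ 3 * (q - 1) * (q ^ 3 + 1)) := by
  have EM := hM.card_TM W.toWard0 k hkN
  have e : Nat.card {g : G // ∃ p : ℕ, p.Prime ∧ p ≠ 2 ∧ p ∣ q + 1 ∧ p ∣ orderOf g} =
      (TM G q).ncard := Nat.card_coe_set_eq _
  rw [e] at EM
  exact master_solve q _ _ _ _ _ k W.qa.hq27 hk W.toWard0.partition W.toWard0.card_T3
    W.toWard0.card_T2 W.toWard0.card_TH EM

theorem index_cases (k : ℕ) (hk : k ∣ 6) : k = 1 ∨ k = 2 ∨ k = 3 ∨ k = 6 := by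
  have := Nat.le_of_dvd (by norm_num) hk
  interval_cases k <;> simp_all

/-- the normaliser of `M` has order `6 (q + 1)` -/
theorem card_normalizer_M (W : Ward q r U H t) {M : Subgroup G} (hM : IsM q M) :
    Nat.card (Subgroup.normalizer (M : Set G)) = 6 * (q + 1) := by
  obtain ⟨k, hk6, hk⟩ := hM.index_dvd_six W.toWard0
  have hkc := index_cases k hk6
  obtain ⟨hk1, hk2, hk3, -⟩ := W.master hM k hkc hk
  suffices k = 6 by rw [hk, this]
  obtain ⟨A₁, hA₁⟩ := IsPi.exists_first W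
  obtain ⟨k₁, hk₁, hN₁, hY₁, hb₁, hb₁'⟩ := hA₁.class_data W
  have hle₁ := hA₁.ncard_le W
  obtain ⟨g, hg⟩ : ∃ g, g = q ^ 3 * (q - 1) * (q ^ 3 + 1) := ⟨_, rfl⟩
  rw [← hg] at hk2 hk3 hb₁ hb₁'
  rcases hkc with rfl | rfl | rfl | rfl
  · exact absurd rfl hk1
  · exfalso
    have := hk2 rfl
    rcases hk₁ with rfl | rfl | rfl | rfl | rfl <;> omega
  · exfalso
    obtain ⟨h3a, h3b⟩ := hk3 rfl
    rcases hk₁ with rfl | rfl | rfl | rfl | rfl
    · omega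
    · omega
    · omega
    · omega
    · have hlt : (IsPi.YSet A₁).ncard < (IsPi.TPi G q).ncard := by omega
      obtain ⟨A₂, hA₂, hcop⟩ := hA₁.exists_second W hlt
      obtain ⟨k₂, hk₂, hN₂, hY₂, hb₂, hb₂'⟩ := hA₂.class_data W
      have hle₂ := IsPi.ncard_add_le hA₁ hA₂ W hcop
      rw [← hg] at hb₂ hb₂'
      rcases hk₂ with rfl | rfl | rfl | rfl | rfl <;> omega
  · rfl

/-- the two classes of cyclic Hall subgroups of orders `q ± r + 1` -/
theorem exists_tori (W : Ward q r U H t) :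
    ∃ A₁ A₂ : Subgroup G, IsPi q A₁ ∧ IsPi q A₂ ∧ Nat.card A₁ = q + r + 1 ∧
      Nat.card A₂ = q - r + 1 ∧
      Nat.card (Subgroup.normalizer (A₁ : Set G)) = 6 * Nat.card A₁ ∧
      Nat.card (Subgroup.normalizer (A₂ : Set G)) = 6 * Nat.card A₂ ∧
      IsPi.TPi G q ⊆ IsPi.YSet A₁ ∪ IsPi.YSet A₂ := by
  obtain ⟨M, hM⟩ := W.toWard0.exists_isM
  have hkN := W.card_normalizer_M hM
  obtain ⟨-, -, -, hk6⟩ := W.master hM 6 (by norm_num) hkN
  obtain ⟨hP, h6a, h6b⟩ := hk6 rfl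
  obtain ⟨A₁, hA₁⟩ := IsPi.exists_first W
  obtain ⟨k₁, hk₁, hN₁, hY₁, hb₁, hb₁'⟩ := hA₁.class_data W
  have hle₁ := hA₁.ncard_le W
  obtain ⟨g, hg⟩ : ∃ g, g = q ^ 3 * (q - 1) * (q ^ 3 + 1) := ⟨_, rfl⟩
  -- the first class has index `6`
  have hk₁6 : k₁ = 6 := by
    rw [← hg] at h6a h6b hb₁ hb₁'
    rcases hk₁ with rfl | rfl | rfl | rfl | rfl
    · omega
    · omega
    · exfalso
      by_cases heq : (IsPi.YSet A₁).ncard = (IsPi.TPi G q).ncard
      · rw [← heq] at hP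
        exact one_class_three q r _ _ W.qa hY₁ hP (hA₁.seven_le_card W)
      · have hlt : (IsPi.YSet A₁).ncard < (IsPi.TPi G q).ncard := by omega
        obtain ⟨A₂, hA₂, hcop⟩ := hA₁.exists_second W hlt
        obtain ⟨k₂, hk₂, hN₂, hY₂, hb₂, hb₂'⟩ := hA₂.class_data W
        have hle₂ := IsPi.ncard_add_le hA₁ hA₂ W hcop
        rw [← hg] at hb₂ hb₂'
        rcases hk₂ with rfl | rfl | rfl | rfl | rfl <;> omega
    · exfalso
      have hlt : (IsPi.YSet A₁).ncard < (IsPi.TPi G q).ncard := by omega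
      obtain ⟨A₂, hA₂, hcop⟩ := hA₁.exists_second W hlt
      obtain ⟨k₂, hk₂, hN₂, hY₂, hb₂, hb₂'⟩ := hA₂.class_data W
      have hle₂ := IsPi.ncard_add_le hA₁ hA₂ W hcop
      rw [← hg] at hb₂ hb₂'
      rcases hk₂ with rfl | rfl | rfl | rfl | rfl <;> omega
    · rfl
  subst hk₁6
  -- the second class
  have hlt : (IsPi.YSet A₁).ncard < (IsPi.TPi G q).ncard := by
    rw [← hg] at h6a h6b hb₁ hb₁'
    omega
  obtain ⟨A₂, hA₂, hcop⟩ := hA₁.exists_second W hlt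
  obtain ⟨k₂, hk₂, hN₂, hY₂, hb₂, hb₂'⟩ := hA₂.class_data W
  have hle₂ := IsPi.ncard_add_le hA₁ hA₂ W hcop
  have hk₂6 : k₂ = 6 := by
    rw [← hg] at h6a h6b hb₁ hb₁' hb₂ hb₂'
    rcases hk₂ with rfl | rfl | rfl | rfl | rfl
    · omega
    · omega
    · omega
    · omega
    · rfl
  subst hk₂6
  -- there is no third class
  have heq : (IsPi.YSet A₁).ncard + (IsPi.YSet A₂).ncard = (IsPi.TPi G q).ncard := by
    by_contra hne
    have hlt2 : (IsPi.YSet A₁).ncard + (IsPi.YSet A₂).ncard < (IsPi.TPi G q).ncard := by omega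
    obtain ⟨A₃, hA₃, h13, h23⟩ := hA₁.exists_third hA₂ W hlt2
    obtain ⟨k₃, hk₃, hN₃, hY₃, hb₃, hb₃'⟩ := hA₃.class_data W
    have hle₃ := IsPi.ncard_add_add_le hA₁ hA₂ hA₃ W hcop h13 h23
    rw [← hg] at h6a h6b hb₁ hb₁' hb₂ hb₂' hb₃ hb₃'
    rcases hk₃ with rfl | rfl | rfl | rfl | rfl <;> omega
  have hcover := IsPi.cover_of_eq hA₁ hA₂ W hcop heq
  rcases two_classes q r _ _ _ _ _ W.qa hY₁ hY₂ hP heq (hA₁.card_dvd W) (hA₂.card_dvd W) hcop
    (hA₁.seven_le_card W) (hA₂.seven_le_card W) with ⟨h1, h2⟩ | ⟨h1, h2⟩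
  · exact ⟨A₁, A₂, hA₁, hA₂, h1, h2, hN₁, hN₂, hcover⟩
  · refine ⟨A₂, A₁, hA₂, hA₁, h2, h1, hN₂, hN₁, ?_⟩
    rw [Set.union_comm]; exact hcover

end Ward

end Cfsg.Agent.Lib.Helper1.RW
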