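import Mathlib
import Cfsg.Agent.Lib.Helper1.RW13
import Cfsg.Agent.Lib.Helper3.CyclicSub

/-!
Ward's analysis of the Ree groups `²G₂(q)`, part 14: the four abstract results (element counts,
element orders, conjugacy of cyclic subgroups of toral order, cyclic Hall subgroups).
-/

set_option autoImplicit false
set_option maxHeartbeats 4000000
set_option linter.unusedVariables false
set_option linter.unusedSectionVars false
set_option linter.style.longLine false
set_option linter.unusedSimpArgs false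
set_option linter.deprecated false

namespace Cfsg.Agent.Lib.Helper1.RW

universe u

theorem count_solve (N a g b c R : ℕ) (ha : 0 < a) (h : N * a = g * b)
    (hR : c * (g * b) = R * a) : c * N = R := by
  apply Nat.eq_of_mul_eq_mul_right ha
  rw [← hR, ← h]; ring

theorem exists_of_card_pos {α : Type*} {P : α → Prop} (h : 0 < Nat.card {x : α // P x}) :
    ∃ x, P x := by
  obtain ⟨⟨x, hx⟩⟩ := (Nat.card_pos_iff.mp h).1
  exact ⟨x, hx⟩

section general

variable {G : Type u} [Group G]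

theorem exists_zpowers_eq (A : Subgroup G) (hA : IsCyclic A) :
    ∃ a : G, a ∈ A ∧ A = Subgroup.zpowers a := by
  obtain ⟨g, hg⟩ := hA.exists_generator
  refine ⟨g, g.2, ?_⟩
  apply le_antisymm
  · intro x hx
    obtain ⟨k, hk⟩ := Subgroup.mem_zpowers_iff.mp (hg ⟨x, hx⟩)
    rw [Subgroup.mem_zpowers_iff]
    refine ⟨k, ?_⟩
    have := congrArg Subtype.val hk
    simpa using this
  · rw [Subgroup.zpowers_le]; exact g.2

theorem normalizer_eq_of_ti [Finite G] (X C A₀ : Subgroup G) (hC : IsCyclic C)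
    (hCX : C ≤ X) (hA₀ : A₀ ≤ C) (x : G) (hx : x ∈ A₀)
    (hti : ∀ g : G, g * x * g⁻¹ ∈ X → g ∈ Subgroup.normalizer (X : Set G))
    (hchar : ∀ g ∈ Subgroup.normalizer (X : Set G), ∀ y ∈ C, g * y * g⁻¹ ∈ C) :
    Subgroup.normalizer (A₀ : Set G) = Subgroup.normalizer (X : Set G) := by
  apply le_antisymm
  · intro g hg
    apply hti
    apply hCX; apply hA₀
    exact (Subgroup.mem_normalizer_iff.mp hg x).mp hx
  · intro g hg
    have h1 : A₀.map (MulAut.conj g).toMonoidHom = A₀ := by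
      haveI := hC
      apply Helper3.subgroup_eq_of_card_eq_of_le_isCyclic C _ _ ?_ hA₀ (card_map_conj' A₀ g)
      rintro _ ⟨y, hy, rfl⟩
      exact hchar g hg y (hA₀ hy)
    rw [Subgroup.mem_normalizer_iff]
    intro h
    constructor
    · intro hh
      rw [← h1]
      exact ⟨h, hh, by simp⟩
    · intro hh
      rw [← h1] at hh
      obtain ⟨y, hy, hyh⟩ := hh
      have : y = h := by
        have h2 : g * y * g⁻¹ = g * h * g⁻¹ := by simpa using hyh
        have h3 := mul_right_cancel h2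
        exact mul_left_cancel h3
      rwa [← this]

theorem conj_zpowers_of_into [Finite G] (C : Subgroup G) (hC : IsCyclic C) (a b : G)
    (hord : orderOf a = orderOf b) (c c' : G) (ha : c * a * c⁻¹ ∈ C) (hb : c' * b * c'⁻¹ ∈ C) :
    Subgroup.zpowers b = (Subgroup.zpowers a).map (MulAut.conj (c'⁻¹ * c)).toMonoidHom := by
  haveI := hC
  have h1 : Subgroup.zpowers (c * a * c⁻¹) = Subgroup.zpowers (c' * b * c'⁻¹) := by
    apply Helper3.subgroup_eq_of_card_eq_of_le_isCyclic C _ _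
      (by rw [Subgroup.zpowers_le]; exact ha) (by rw [Subgroup.zpowers_le]; exact hb)
    rw [Nat.card_zpowers, Nat.card_zpowers, orderOf_conj'', orderOf_conj'', hord]
  rw [MonoidHom.map_zpowers]
  have h2 : (MulAut.conj (c'⁻¹ * c)).toMonoidHom a = c'⁻¹ * (c * a * c⁻¹) * c' := by
    simp [mul_assoc]
  rw [h2]
  apply le_antisymm
  · rw [Subgroup.zpowers_le]
    have h3 : c' * b * c'⁻¹ ∈ Subgroup.zpowers (c * a * c⁻¹) := by
      rw [h1]; exact Subgroup.mem_zpowers _
    obtain ⟨k, hk⟩ := Subgroup.mem_zpowers_iff.mp h3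
    rw [Subgroup.mem_zpowers_iff]
    refine ⟨k, ?_⟩
    have h4 : (c'⁻¹ * (c * a * c⁻¹) * c') ^ k = c'⁻¹ * (c * a * c⁻¹) ^ k * c' := by
      have := (MulAut.conj c'⁻¹).toMonoidHom.map_zpow (c * a * c⁻¹) k
      simpa using this.symm
    rw [h4, hk]; group
  · rw [Subgroup.zpowers_le]
    have h3 : c * a * c⁻¹ ∈ Subgroup.zpowers (c' * b * c'⁻¹) := by
      rw [← h1]; exact Subgroup.mem_zpowers _
    obtain ⟨k, hk⟩ := Subgroup.mem_zpowers_iff.mp h3
    rw [Subgroup.mem_zpowers_iff]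
    refine ⟨k, ?_⟩
    have h4 : (c' * b * c'⁻¹) ^ k = c' * b ^ k * c'⁻¹ := by
      have := (MulAut.conj c').toMonoidHom.map_zpow b k
      simpa using this.symm
    rw [← hk, h4]; group

/-- if all elements of order `d` can be conjugated into a cyclic subgroup, then all cyclic
subgroups of order `d` are conjugate -/
theorem conj_of_cyclic_into [Finite G] (C : Subgroup G) (hC : IsCyclic C) (d : ℕ)
    (hinto : ∀ x : G, orderOf x = d → ∃ c : G, c * x * c⁻¹ ∈ C)
    (A B : Subgroup G) (hA : IsCyclic A) (hB : IsCyclic B)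
    (hAd : Nat.card A = d) (hBd : Nat.card B = d) :
    ∃ g : G, B = A.map (MulAut.conj g).toMonoidHom := by
  obtain ⟨a, -, rfl⟩ := exists_zpowers_eq A hA
  obtain ⟨b, -, rfl⟩ := exists_zpowers_eq B hB
  rw [Nat.card_zpowers] at hAd hBd
  obtain ⟨c, hc⟩ := hinto a hAd
  obtain ⟨c', hc'⟩ := hinto b hBd
  exact ⟨c'⁻¹ * c, conj_zpowers_of_into C hC a b (by rw [hAd, hBd]) c c' hc hc'⟩

end general

variable {G : Type u} [Group G] [Finite G] {q r : ℕ} {U H : Subgroup G} {t : G}

namespace IsM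

variable {M : Subgroup G}

/-- the odd part of `M` -/
theorem exists_odd_part (hM : IsM q M) (W : Ward0 q r U H t) :
    ∃ O : Subgroup G, O ≤ M ∧ IsCyclic O ∧ Nat.card O = (q + 1) / 4 ∧
      ∀ y ∈ M, orderOf y ∣ (q + 1) / 4 → y ∈ O := by
  have ho7 := W.quarter_ge
  have h1 := (hM.card_orderOf W ((q + 1) / 4) dvd_rfl).1
  have h2 : 0 < Nat.card {x : G // x ∈ M ∧ orderOf x = (q + 1) / 4} := by
    rw [h1]; exact Nat.totient_pos.mpr (by omega)
  obtain ⟨x, hxM, hxo⟩ := exists_of_card_pos h2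
  have hcyc : IsCyclic (Subgroup.zpowers x) := inferInstance
  have hcard : Nat.card (Subgroup.zpowers x) = (q + 1) / 4 := by rw [Nat.card_zpowers, hxo]
  have hle : Subgroup.zpowers x ≤ M := by rw [Subgroup.zpowers_le]; exact hxM
  refine ⟨Subgroup.zpowers x, hle, hcyc, hcard, ?_⟩
  intro y hy hyd
  obtain ⟨d, hd⟩ : ∃ d, d = orderOf y := ⟨_, rfl⟩
  rw [← hd] at hyd
  have c1 : Nat.card {z : G // z ∈ Subgroup.zpowers x ∧ orderOf z = d} = Nat.totient d :=
    card_orderOf_cyclic _ hcyc d (by rw [hcard]; exact hyd)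
  have c2 := (hM.card_orderOf W d hyd).1
  let f : {z : G // z ∈ Subgroup.zpowers x ∧ orderOf z = d} → {z : G // z ∈ M ∧ orderOf z = d} :=
    fun z => ⟨z.1, hle z.2.1, z.2.2⟩
  have hf : Function.Injective f := by
    intro z z' h
    apply Subtype.ext
    exact congrArg (fun w : {z : G // z ∈ M ∧ orderOf z = d} => w.1) h
  have hb := hf.bijective_of_nat_card_le (by rw [c1, c2])
  obtain ⟨z, hz⟩ := hb.2 ⟨y, hy, hd.symm⟩
  have : z.1 = y := congrArg (fun w : {z : G // z ∈ M ∧ orderOf z = d} => w.1) hz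
  rw [← this]; exact z.2.1

end IsM

namespace Ward

/-- the numbers of elements of each order -/
theorem counts (W : Ward q r U H t) :
    Nat.card {g : G // orderOf g = 2} = q ^ 2 * (q ^ 2 - q + 1) ∧
    Nat.card {g : G // orderOf g = 3} = (q ^ 2 - 1) * (q ^ 3 + 1) ∧
    Nat.card {g : G // orderOf g = 6} = q ^ 2 * (q - 1) * (q ^ 3 + 1) ∧
    Nat.card {g : G // orderOf g = 9} = q ^ 2 * (q - 1) * (q ^ 3 + 1) ∧
    (∀ i : ℕ, 2 < i → i ∣ q - 1 →
      2 * Nat.card {g : G // orderOf g = i} = Nat.totient i * q ^ 3 * (q ^ 3 + 1)) ∧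
    (∀ i : ℕ, 1 < i → i ∣ (q + 1) / 4 →
      6 * Nat.card {g : G // orderOf g = i} =
          Nat.totient i * q ^ 3 * (q - 1) * (q ^ 2 - q + 1) ∧
        2 * Nat.card {g : G // orderOf g = 2 * i} =
          Nat.totient i * q ^ 3 * (q - 1) * (q ^ 2 - q + 1)) ∧
    (∀ i : ℕ, 1 < i → i ∣ q - r + 1 →
      6 * Nat.card {g : G // orderOf g = i} =
        Nat.totient i * q ^ 3 * (q ^ 2 - 1) * (q + r + 1)) ∧
    (∀ i : ℕ, 1 < i → i ∣ q + r + 1 →
      6 * Nat.card {g : G // orderOf g = i} =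
        Nat.totient i * q ^ 3 * (q ^ 2 - 1) * (q - r + 1)) := by
  have W0 := W.toWard0
  have hq := W0.qa.hq27
  have h1 : 1 ≤ q := by omega
  have h2 : 1 ≤ q ^ 2 := Nat.one_le_pow _ _ (by omega)
  have h3 : q ≤ q ^ 2 := by nlinarith
  have h4 : q ^ 2 ≤ q ^ 3 := by
    rw [pow_succ q 2]; exact Nat.le_mul_of_pos_right _ (by omega)
  have h5 : r ≤ q := W0.qa.r_le
  have hr : (r : ℤ) * r = 3 * q := by exact_mod_cast W0.qa.hr
  have hq1 : 0 < q - 1 := by omega
  have hq3 : 0 < q ^ 3 := by positivity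
  have hq21 : 0 < q ^ 2 - 1 := by
    have : 27 ^ 2 ≤ q ^ 2 := Nat.pow_le_pow_left hq 2
    omega
  obtain ⟨A₁, A₂, hA₁, hA₂, hc₁, hc₂, hn₁, hn₂, hcov⟩ := W.exists_tori
  obtain ⟨M, hM⟩ := W0.exists_isM
  have hNM := W.card_normalizer_M hM
  refine ⟨?_, ?_, ?_, ?_, ?_, ?_, ?_, ?_⟩
  · have e := W0.card_invol
    have e' : Nat.card {g : G // orderOf g = 2} * (q * (q ^ 2 - 1)) =
        q ^ 3 * (q - 1) * (q ^ 3 + 1) * 1 := by rw [mul_one]; exact e
    have := count_solve _ _ _ _ 1 (q ^ 2 * (q ^ 2 - q + 1)) (by positivity) e' (by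
      zify [h1, h2, h3, h4, h5]; ring)
    rwa [one_mul] at this
  · have e := W0.card_three_singular 3 dvd_rfl (by norm_num)
    rw [W0.card_B3] at e
    have := count_solve _ _ _ _ 1 ((q ^ 2 - 1) * (q ^ 3 + 1)) (by positivity) e (by
      zify [h1, h2, h3, h4, h5]; ring)
    rwa [one_mul] at this
  · have e := W0.card_three_singular 6 (by norm_num) (by norm_num)
    rw [W0.card_B6] at e
    have := count_solve _ _ _ _ 1 (q ^ 2 * (q - 1) * (q ^ 3 + 1)) (by positivity) e (by
      zify [h1, h2, h3, h4, h5]; ring)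
    rwa [one_mul] at this
  · have e := W0.card_three_singular 9 (by norm_num) (by norm_num)
    rw [W0.card_B9] at e
    have := count_solve _ _ _ _ 1 (q ^ 2 * (q - 1) * (q ^ 3 + 1)) (by positivity) e (by
      zify [h1, h2, h3, h4, h5]; ring)
    rwa [one_mul] at this
  · intro i hi hd
    have e := W0.card_order_H i hi hd
    exact count_solve _ _ _ _ 2 (Nat.totient i * q ^ 3 * (q ^ 3 + 1)) (by positivity) e (by
      zify [h1, h2, h3, h4, h5]; ring)
  · intro i hi hd
    have e1 := hM.card_order_aux W0 6 hNM i i hi hd (Or.inl rfl)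
    have e2 := hM.card_order_aux W0 6 hNM i (2 * i) hi hd (Or.inr rfl)
    rw [(hM.card_orderOf W0 i hd).1] at e1
    rw [(hM.card_orderOf W0 i hd).2] at e2
    constructor
    · exact count_solve _ _ _ _ 6 (Nat.totient i * q ^ 3 * (q - 1) * (q ^ 2 - q + 1))
        (by positivity) e1 (by zify [h1, h2, h3, h4, h5]; ring)
    · exact count_solve _ _ _ _ 2 (Nat.totient i * q ^ 3 * (q - 1) * (q ^ 2 - q + 1))
        (by positivity) e2 (by zify [h1, h2, h3, h4, h5]; ring)
  · intro i hi hd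
    have e := hA₂.card_order W i hi (by rw [hc₂]; exact hd)
    rw [hn₂, hc₂] at e
    exact count_solve _ _ _ _ 6 (Nat.totient i * q ^ 3 * (q ^ 2 - 1) * (q + r + 1))
      (by positivity) e (by
        zify [h1, h2, h3, h4, h5]
        linear_combination (6 * (Nat.totient i : ℤ) * q ^ 3 * (q ^ 2 - 1)) * hr)
  · intro i hi hd
    have e := hA₁.card_order W i hi (by rw [hc₁]; exact hd)
    rw [hn₁, hc₁] at e
    exact count_solve _ _ _ _ 6 (Nat.totient i * q ^ 3 * (q ^ 2 - 1) * (q - r + 1))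
      (by positivity) e (by
        zify [h1, h2, h3, h4, h5]
        linear_combination (6 * (Nat.totient i : ℤ) * q ^ 3 * (q ^ 2 - 1)) * hr)

/-- the element orders -/
theorem orders (W : Ward q r U H t) (d : ℕ) :
    (∃ g : G, orderOf g = d) ↔
      (d ∣ 6 ∨ d ∣ 9 ∨ d ∣ q - 1 ∨ d ∣ (q + 1) / 2 ∨ d ∣ q - r + 1 ∨ d ∣ q + r + 1) := by
  have W0 := W.toWard0
  have hq := W0.qa.hq27
  obtain ⟨A₁, A₂, hA₁, hA₂, hc₁, hc₂, hn₁, hn₂, hcov⟩ := W.exists_tori
  obtain ⟨M, hM⟩ := W0.exists_isM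
  have hquart := W0.qa.quarter_succ
  have hhalf : (q + 1) / 2 = 2 * ((q + 1) / 4) := by omega
  have h5 : r ≤ q := W0.qa.r_le
  have hq2 : 27 ^ 2 ≤ q ^ 2 := Nat.pow_le_pow_left hq 2
  have hq23 : q ^ 2 < q ^ 3 := by
    rw [pow_succ q 2]
    have h0 : 0 < q ^ 2 := by positivity
    nlinarith
  have ex3 : ∃ g : G, orderOf g = 3 := by
    have : 0 < Nat.card {x : G // x ∈ Subgroup.normalizer (U : Set G) ∧ orderOf x = 3} := by
      rw [W0.card_B3]; omega
    obtain ⟨x, -, hx⟩ := exists_of_card_pos this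
    exact ⟨x, hx⟩
  have ex6 : ∃ g : G, orderOf g = 6 := by
    have : 0 < Nat.card {x : G // x ∈ Subgroup.normalizer (U : Set G) ∧ orderOf x = 6} := by
      rw [W0.card_B6]; omega
    obtain ⟨x, -, hx⟩ := exists_of_card_pos this
    exact ⟨x, hx⟩
  have ex9 : ∃ g : G, orderOf g = 9 := by
    have : 0 < Nat.card {x : G // x ∈ Subgroup.normalizer (U : Set G) ∧ orderOf x = 9} := by
      rw [W0.card_B9]; omega
    obtain ⟨x, -, hx⟩ := exists_of_card_pos this
    exact ⟨x, hx⟩
  have excyc : ∀ (A : Subgroup G), IsCyclic A → ∀ d : ℕ, 0 < Nat.card A → d ∣ Nat.card A →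
      ∃ g : G, orderOf g = d := by
    intro A hA d h0 hd
    have hd0 : 0 < d := Nat.pos_of_dvd_of_pos hd h0
    have : 0 < Nat.card {x : G // x ∈ A ∧ orderOf x = d} := by
      rw [card_orderOf_cyclic A hA d hd]; exact Nat.totient_pos.mpr hd0
    obtain ⟨x, -, hx⟩ := exists_of_card_pos this
    exact ⟨x, hx⟩
  constructor
  · rintro ⟨g, rfl⟩
    rcases W0.cover g with h | h | h | h | h | h
    · left
      rw [Set.mem_singleton_iff] at h
      rw [h, orderOf_one]; exact one_dvd _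
    · rcases W0.three_singular_orders g h with h' | h' | h'
      · left; rw [h']; norm_num
      · left; rw [h']
      · right; left; rw [h']
    · left
      have h' : orderOf g = 2 := h
      rw [h']; norm_num
    · right; right; left; exact W0.orderOf_dvd_of_mem_TH g h
    · right; right; right; left
      obtain ⟨p, hp, hp2, hpq, hpg⟩ := h
      obtain ⟨c, hc⟩ := hM.conj_into W0 g p hp hp2 hpq hpg
      rw [hhalf, ← orderOf_conj'' c g]
      exact hM.orderOf_dvd W0 _ hc
    · rcases hcov h with h' | h'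
      · right; right; right; right; right
        rw [← hc₁]; exact IsPi.orderOf_dvd_of_mem_YSet h'
      · right; right; right; right; left
        rw [← hc₂]; exact IsPi.orderOf_dvd_of_mem_YSet h'
  · rintro (h | h | h | h | h | h)
    · have hle : d ≤ 6 := Nat.le_of_dvd (by norm_num) h
      interval_cases d
      · simp at h
      · exact ⟨1, orderOf_one⟩
      · exact ⟨t, W0.orderOf_t⟩
      · exact ex3
      · norm_num at h
      · norm_num at h
      · exact ex6
    · have hle : d ≤ 9 := Nat.le_of_dvd (by norm_num) h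
      interval_cases d
      · simp at h
      · exact ⟨1, orderOf_one⟩
      · norm_num at h
      · exact ex3
      · norm_num at h
      · norm_num at h
      · norm_num at h
      · norm_num at h
      · norm_num at h
      · exact ex9
    · exact excyc H W0.cyc_H d (by rw [W0.card_H]; omega) (by rw [W0.card_H]; exact h)
    · rw [hhalf] at h
      have ho7 := W0.quarter_ge
      by_cases h2 : 2 ∣ d
      · obtain ⟨i, rfl⟩ := h2
        have hi : i ∣ (q + 1) / 4 := (Nat.mul_dvd_mul_iff_left (by norm_num)).mp h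
        have hi0 : 0 < i := Nat.pos_of_dvd_of_pos hi (by omega)
        have : 0 < Nat.card {x : G // x ∈ M ∧ orderOf x = 2 * i} := by
          rw [(hM.card_orderOf W0 i hi).2]
          have := Nat.totient_pos.mpr hi0
          omega
        obtain ⟨x, -, hx⟩ := exists_of_card_pos this
        exact ⟨x, hx⟩
      · have hcop : Nat.Coprime d 2 := by
          rw [Nat.coprime_comm, Nat.Prime.coprime_iff_not_dvd Nat.prime_two]; exact h2
        have hi : d ∣ (q + 1) / 4 := hcop.dvd_of_dvd_mul_left h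
        have hi0 : 0 < d := Nat.pos_of_dvd_of_pos hi (by omega)
        have : 0 < Nat.card {x : G // x ∈ M ∧ orderOf x = d} := by
          rw [(hM.card_orderOf W0 d hi).1]
          exact Nat.totient_pos.mpr hi0
        obtain ⟨x, -, hx⟩ := exists_of_card_pos this
        exact ⟨x, hx⟩
    · exact excyc A₂ (hA₂.isCyclic W) d (by rw [hc₂]; omega) (by rw [hc₂]; exact h)
    · exact excyc A₁ (hA₁.isCyclic W) d (by rw [hc₁]; omega) (by rw [hc₁]; exact h)

/-- cyclic subgroups of toral order are conjugate -/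
theorem conj_cyclic (W : Ward q r U H t) (d : ℕ)
    (hd : d ∣ (q - 1) / 2 ∨ d ∣ (q + 1) / 4 ∨ d ∣ q - r + 1 ∨ d ∣ q + r + 1)
    (A B : Subgroup G) (hA : IsCyclic A) (hB : IsCyclic B)
    (hAd : Nat.card A = d) (hBd : Nat.card B = d) :
    ∃ g : G, B = A.map (MulAut.conj g).toMonoidHom := by
  have W0 := W.toWard0
  have hq := W0.qa.hq27
  by_cases hd1 : d = 1
  · subst hd1
    have h1 := Subgroup.eq_bot_of_card_eq A hAd
    have h2 := Subgroup.eq_bot_of_card_eq B hBd
    refine ⟨1, ?_⟩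
    rw [h1, h2, Subgroup.map_bot]
  obtain ⟨p, hp, hpd⟩ := Nat.exists_prime_and_dvd hd1
  obtain ⟨A₁, A₂, hA₁, hA₂, hc₁, hc₂, hn₁, hn₂, hcov⟩ := W.exists_tori
  have key : ∃ C : Subgroup G, IsCyclic C ∧ ∀ x : G, orderOf x = d → ∃ c : G, c * x * c⁻¹ ∈ C := by
    rcases hd with h | h | h | h
    · refine ⟨H, W0.cyc_H, ?_⟩
      intro x hx
      have hhp := W0.qa.half_pred
      have hp2 : p ≠ 2 := by
        rintro rfl
        obtain ⟨k, hk⟩ := dvd_trans hpd h
        omega
      have hpq : p ∣ q - 1 := by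
        rw [hhp.1]
        exact dvd_mul_of_dvd_right (dvd_trans hpd h) 2
      exact W0.conj_into_H x p hp hp2 hpq (by rw [hx]; exact hpd)
    · obtain ⟨M, hM⟩ := W0.exists_isM
      obtain ⟨O, hOM, hOc, hOcard, hO⟩ := hM.exists_odd_part W0
      refine ⟨O, hOc, ?_⟩
      intro x hx
      have hhp := W0.qa.quarter_succ
      have hp2 : p ≠ 2 := by
        rintro rfl
        obtain ⟨k, hk⟩ := dvd_trans hpd h
        omega
      have hpq : p ∣ q + 1 := by
        rw [hhp.1]
        exact dvd_mul_of_dvd_right (dvd_trans hpd h) 4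
      obtain ⟨c, hc⟩ := hM.conj_into W0 x p hp hp2 hpq (by rw [hx]; exact hpd)
      refine ⟨c, hO _ hc ?_⟩
      rw [orderOf_conj'', hx]; exact h
    · refine ⟨A₂, hA₂.isCyclic W, ?_⟩
      intro x hx
      obtain ⟨g, a, ha, -, rfl⟩ := hA₂.mem_YSet_of_prime W x p hp (by rw [hx]; exact hpd)
        (by rw [hc₂]; exact dvd_trans hpd h)
      refine ⟨g⁻¹, ?_⟩
      have : g⁻¹ * (g * a * g⁻¹) * g⁻¹⁻¹ = a := by group
      rw [this]; exact ha
    · refine ⟨A₁, hA₁.isCyclic W, ?_⟩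
      intro x hx
      obtain ⟨g, a, ha, -, rfl⟩ := hA₁.mem_YSet_of_prime W x p hp (by rw [hx]; exact hpd)
        (by rw [hc₁]; exact dvd_trans hpd h)
      refine ⟨g⁻¹, ?_⟩
      have : g⁻¹ * (g * a * g⁻¹) * g⁻¹⁻¹ = a := by group
      rw [this]; exact ha
  obtain ⟨C, hC, hinto⟩ := key
  exact conj_of_cyclic_into C hC d hinto A B hA hB hAd hBd


end Ward

theorem hall_of (X C' C : Subgroup G) (hC' : IsCyclic C') (hC'X : C' ≤ X) (hCC' : C ≤ C')
    (hcard : 1 < Nat.card C)
    (hti : ∀ x ∈ C, x ≠ 1 → ∀ g : G, g * x * g⁻¹ ∈ X → g ∈ Subgroup.normalizer (X : Set G))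
    (hchar : ∀ g ∈ Subgroup.normalizer (X : Set G), ∀ y ∈ C', g * y * g⁻¹ ∈ C') :
    Nat.card (Subgroup.normalizer (C : Set G)) = Nat.card (Subgroup.normalizer (X : Set G)) ∧
      ∀ A₀ : Subgroup G, A₀ ≤ C → A₀ ≠ ⊥ →
        Subgroup.normalizer (A₀ : Set G) = Subgroup.normalizer (C : Set G) := by
  have key : ∀ A₀ : Subgroup G, A₀ ≤ C → A₀ ≠ ⊥ →
      Subgroup.normalizer (A₀ : Set G) = Subgroup.normalizer (X : Set G) := by
    intro A₀ hA₀ hne
    obtain ⟨⟨x, hx⟩, hx1⟩ := (Subgroup.ne_bot_iff_exists_ne_one).mp hne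
    have hx1' : x ≠ 1 := fun h => hx1 (Subtype.ext h)
    exact normalizer_eq_of_ti X C' A₀ hC' hC'X (hA₀.trans hCC') x hx (hti x (hA₀ hx) hx1') hchar
  have hCne : C ≠ ⊥ := by
    rintro rfl
    rw [Subgroup.card_bot] at hcard; omega
  have h1 := key C le_rfl hCne
  refine ⟨by rw [h1], fun A₀ hA₀ hne => by rw [key A₀ hA₀ hne, h1]⟩

theorem sq_ne_of_odd (x : G) (o : ℕ) (ho : o % 2 = 1) (hx : orderOf x ∣ o) (hx1 : x ≠ 1) :
    x * x ≠ 1 := by
  intro h
  apply hx1
  rw [← orderOf_eq_one_iff]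
  have h2 : orderOf x ∣ 2 := by
    apply orderOf_dvd_of_pow_eq_one; rw [pow_two]; exact h
  have h3 : Nat.gcd 2 o = 1 := Nat.coprime_two_left.mpr (Nat.odd_iff.mpr ho)
  have h4 := Nat.dvd_gcd h2 hx
  rw [h3] at h4
  exact Nat.dvd_one.mp h4

namespace Ward

/-- the cyclic Hall subgroups -/
theorem hall (W : Ward q r U H t) :
    ∀ kn ∈ ({((q - 1) / 2, 2 * (q - 1)), ((q + 1) / 4, 6 * (q + 1)),
        (q - r + 1, 6 * (q - r + 1)), (q + r + 1, 6 * (q + r + 1))} : Set (ℕ × ℕ)),
      ∃ A : Subgroup G, IsCyclic A ∧ Nat.card A = kn.1 ∧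
        Nat.card (Subgroup.normalizer (A : Set G)) = kn.2 ∧
        ∀ A₀ : Subgroup G, A₀ ≤ A → A₀ ≠ ⊥ →
          Subgroup.normalizer (A₀ : Set G) = Subgroup.normalizer (A : Set G) := by
  have W0 := W.toWard0
  have hq := W0.qa.hq27
  have h5 : r ≤ q := W0.qa.r_le
  have h5' : r < q := by
    rcases Nat.lt_or_ge r q with h | h
    · exact h
    · exfalso
      have e : r = q := le_antisymm h5 h
      have := W0.qa.hr
      rw [e] at this
      nlinarith
  obtain ⟨A₁, A₂, hA₁, hA₂, hc₁, hc₂, hn₁, hn₂, hcov⟩ := W.exists_tori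
  intro kn hkn
  simp only [Set.mem_insert_iff, Set.mem_singleton_iff] at hkn
  rcases hkn with rfl | rfl | rfl | rfl
  · -- the subgroup of index 2 in H
    obtain ⟨h₀, hh₀, hH⟩ := exists_zpowers_eq H W0.cyc_H
    have ho : orderOf h₀ = q - 1 := by rw [← Nat.card_zpowers, ← hH, W0.card_H]
    have hhp := W0.qa.half_pred
    obtain ⟨A, hA⟩ : ∃ A, A = Subgroup.zpowers (h₀ ^ 2) := ⟨_, rfl⟩
    have hAH : A ≤ H := by rw [hA, Subgroup.zpowers_le]; exact pow_mem hh₀ 2
    have hcard : Nat.card A = (q - 1) / 2 := by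
      rw [hA, Nat.card_zpowers, orderOf_pow, ho]
      have : Nat.gcd (q - 1) 2 = 2 := Nat.gcd_eq_right ⟨_, hhp.1⟩
      rw [this]
    have hcyc : IsCyclic A := by rw [hA]; infer_instance
    have hall := hall_of H H A W0.cyc_H le_rfl hAH (by rw [hcard]; omega) ?_ ?_
    · refine ⟨A, hcyc, hcard, ?_, hall.2⟩
      rw [hall.1, W0.card_NH]
    · intro x hx hx1 g hg
      have hxo : orderOf x ∣ (q - 1) / 2 := by
        rw [← hcard]; exact Subgroup.orderOf_dvd_natCard A hx
      exact W0.H_ti x (hAH hx) (sq_ne_of_odd x _ hhp.2 hxo hx1) g hg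
    · intro g hg y hy
      exact (Subgroup.mem_normalizer_iff.mp hg y).mp hy
  · -- the odd part of M
    obtain ⟨M, hM⟩ := W0.exists_isM
    obtain ⟨O, hOM, hOc, hOcard, hO⟩ := hM.exists_odd_part W0
    have ho7 := W0.quarter_ge
    have hqs := W0.qa.quarter_succ
    have hall := hall_of M O O hOc hOM le_rfl (by rw [hOcard]; omega) ?_ ?_
    · refine ⟨O, hOc, hOcard, ?_, hall.2⟩
      rw [hall.1, W.card_normalizer_M hM]
    · intro x hx hx1 g hg
      have hxo : orderOf x ∣ (q + 1) / 4 := by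
        rw [← hOcard]; exact Subgroup.orderOf_dvd_natCard O hx
      exact hM.ti W0 x (hOM hx) (sq_ne_of_odd x _ hqs.2 hxo hx1) g hg
    · intro g hg y hy
      apply hO
      · exact (Subgroup.mem_normalizer_iff.mp hg y).mp (hOM hy)
      · rw [orderOf_conj'', ← hOcard]; exact Subgroup.orderOf_dvd_natCard O hy
  · have hall := hall_of A₂ A₂ A₂ (hA₂.isCyclic W) le_rfl le_rfl (by rw [hc₂]; omega) ?_ ?_
    · refine ⟨A₂, hA₂.isCyclic W, hc₂, ?_, hall.2⟩
      rw [hn₂, hc₂]
    · intro x hx hx1 g hg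
      exact hA₂.ti W x hx hx1 g hg
    · intro g hg y hy
      exact (Subgroup.mem_normalizer_iff.mp hg y).mp hy
  · have hall := hall_of A₁ A₁ A₁ (hA₁.isCyclic W) le_rfl le_rfl (by rw [hc₁]; omega) ?_ ?_
    · refine ⟨A₁, hA₁.isCyclic W, hc₁, ?_, hall.2⟩
      rw [hn₁, hc₁]
    · intro x hx hx1 g hg
      exact hA₁.ti W x hx hx1 g hg
    · intro g hg y hy
      exact (Subgroup.mem_normalizer_iff.mp hg y).mp hy

end Ward

end Cfsg.Agent.Lib.Helper1.RW
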