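import Mathlib
import Cfsg.Agent.Lib.Helper1.RW14

/-!
Ward's analysis of the Ree groups `²G₂(q)`, part 15: the normalizer of the torus of a split
`BN`-pair of rank one, abstractly.
-/

set_option autoImplicit false
set_option maxHeartbeats 4000000
set_option linter.unusedVariables false
set_option linter.unusedSectionVars false
set_option linter.style.longLine false
set_option linter.unusedSimpArgs false
set_option linter.deprecated false

namespace Cfsg.Agent.Lib.Helper1.RW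

universe u

section bruhat

variable {G : Type u} [Group G] (U H B : Subgroup G) (n x₀ : G)

/-- uniqueness in the big cell -/
theorem big_cell_unique
    (hUB : U ≤ B) (hHB : H ≤ B)
    (hnH : ∀ x ∈ H, n⁻¹ * x * n ∈ H) (hn2 : n * n ∈ H)
    (hopp : ∀ b ∈ B, n * b * n⁻¹ ∈ B → b ∈ H)
    (hUH : ∀ x, x ∈ U → x ∈ H → x = 1)
    (u u' a a' v v' : G) (hu : u ∈ U) (hu' : u' ∈ U) (ha : a ∈ H) (ha' : a' ∈ H)
    (hv : v ∈ U) (hv' : v' ∈ U) (e : u * n * a * v = u' * n * a' * v') :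
    u = u' ∧ v = v' := by
  have hnH' : ∀ x ∈ H, n * x * n⁻¹ ∈ H := by
    intro x hx
    have e1 : n * x * n⁻¹ = (n * n) * (n⁻¹ * x * n) * (n * n)⁻¹ := by group
    rw [e1]
    exact H.mul_mem (H.mul_mem hn2 (hnH x hx)) (H.inv_mem hn2)
  have e1 : n⁻¹ * (u'⁻¹ * u) * n = a' * v' * v⁻¹ * a⁻¹ := by
    calc n⁻¹ * (u'⁻¹ * u) * n = n⁻¹ * u'⁻¹ * (u * n * a * v) * v⁻¹ * a⁻¹ := by group
      _ = n⁻¹ * u'⁻¹ * (u' * n * a' * v') * v⁻¹ * a⁻¹ := by rw [e]
      _ = a' * v' * v⁻¹ * a⁻¹ := by group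
  have hb : n⁻¹ * (u'⁻¹ * u) * n ∈ B := by
    rw [e1]
    exact B.mul_mem (B.mul_mem (B.mul_mem (hHB ha') (hUB hv')) (B.inv_mem (hUB hv)))
      (B.inv_mem (hHB ha))
  have hb2 : n * (n⁻¹ * (u'⁻¹ * u) * n) * n⁻¹ ∈ B := by
    have : n * (n⁻¹ * (u'⁻¹ * u) * n) * n⁻¹ = u'⁻¹ * u := by group
    rw [this]
    exact hUB (U.mul_mem (U.inv_mem hu') hu)
  have h3 := hopp _ hb hb2
  have h4 := hnH' _ h3
  have h5 : n * (n⁻¹ * (u'⁻¹ * u) * n) * n⁻¹ = u'⁻¹ * u := by group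
  rw [h5] at h4
  have h6 := hUH _ (U.mul_mem (U.inv_mem hu') hu) h4
  have huu : u = u' := by
    have : u = u' * (u'⁻¹ * u) := by group
    rw [this, h6, mul_one]
  refine ⟨huu, ?_⟩
  subst huu
  have e2 : a'⁻¹ * a = v' * v⁻¹ := by
    calc a'⁻¹ * a = a'⁻¹ * n⁻¹ * u⁻¹ * (u * n * a * v) * v⁻¹ := by group
      _ = a'⁻¹ * n⁻¹ * u⁻¹ * (u * n * a' * v') * v⁻¹ := by rw [e]
      _ = v' * v⁻¹ := by group
  have h7 : v' * v⁻¹ ∈ H := by rw [← e2]; exact H.mul_mem (H.inv_mem ha') ha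
  have h8 := hUH _ (U.mul_mem hv' (U.inv_mem hv)) h7
  have : v' = (v' * v⁻¹) * v := by group
  rw [this, h8, one_mul]

variable [Finite G]

theorem card_normalizer_torus
    (hbruhat : ∀ g : G, g ∈ B ∨ ∃ b ∈ B, ∃ v ∈ U, g = b * n * v)
    (hdecomp : ∀ b ∈ B, ∃ u ∈ U, ∃ h ∈ H, b = u * h)
    (hUB : U ≤ B) (hHB : H ≤ B)
    (hnorm : ∀ b ∈ B, ∀ x ∈ U, b * x * b⁻¹ ∈ U)
    (hnH : ∀ x ∈ H, n⁻¹ * x * n ∈ H) (hn2 : n * n ∈ H)
    (hopp : ∀ b ∈ B, n * b * n⁻¹ ∈ B → b ∈ H)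
    (hUH : ∀ x, x ∈ U → x ∈ H → x = 1)
    (hx₀ : x₀ ∈ H) (hcent : ∀ u ∈ U, u * x₀ = x₀ * u → u = 1)
    (hnB : n ∉ B) :
    Nat.card (Subgroup.normalizer (H : Set G)) = 2 * Nat.card H := by
  have hnH' : ∀ x ∈ H, n * x * n⁻¹ ∈ H := by
    intro x hx
    have e1 : n * x * n⁻¹ = (n * n) * (n⁻¹ * x * n) * (n * n)⁻¹ := by group
    rw [e1]
    exact H.mul_mem (H.mul_mem hn2 (hnH x hx)) (H.inv_mem hn2)
  have hnorm' : ∀ b ∈ B, ∀ x ∈ U, b⁻¹ * x * b ∈ U := by
    intro b hb x hx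
    have := hnorm b⁻¹ (B.inv_mem hb) x hx
    rwa [inv_inv] at this
  have hnN : n ∈ Subgroup.normalizer (H : Set G) := by
    rw [Subgroup.mem_normalizer_iff]
    intro h
    constructor
    · exact hnH' h
    · intro hh
      have := hnH _ hh
      have e1 : n⁻¹ * (n * h * n⁻¹) * n = h := by group
      rwa [e1] at this
  -- normalizing elements in `B`
  have inB : ∀ g ∈ Subgroup.normalizer (H : Set G), g ∈ B → g ∈ H := by
    intro g hgN hgB
    obtain ⟨u, hu, h, hh, rfl⟩ := hdecomp g hgB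
    have huN : u ∈ Subgroup.normalizer (H : Set G) := by
      have : u = (u * h) * h⁻¹ := by group
      rw [this]
      exact Subgroup.mul_mem _ hgN (Subgroup.inv_mem _ (Subgroup.le_normalizer hh))
    have h1 : u * x₀ * u⁻¹ ∈ H := (Subgroup.mem_normalizer_iff.mp huN x₀).mp hx₀
    have h2 : u * x₀ * u⁻¹ * x₀⁻¹ ∈ H := H.mul_mem h1 (H.inv_mem hx₀)
    have h3 : u * x₀ * u⁻¹ * x₀⁻¹ ∈ U := by
      have : u * x₀ * u⁻¹ * x₀⁻¹ = u * (x₀ * u⁻¹ * x₀⁻¹) := by group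
      rw [this]
      exact U.mul_mem hu (hnorm x₀ (hHB hx₀) _ (U.inv_mem hu))
    have h4 := hUH _ h3 h2
    have h5 : u * x₀ = x₀ * u := by
      calc u * x₀ = (u * x₀ * u⁻¹ * x₀⁻¹) * x₀ * u := by group
        _ = x₀ * u := by rw [h4, one_mul]
    rw [hcent u hu h5, one_mul]
    exact hh
  -- normalizing elements outside `B`
  have notB : ∀ g ∈ Subgroup.normalizer (H : Set G), g ∉ B → n⁻¹ * g ∈ H := by
    intro g hgN hgB
    rcases hbruhat g with h | ⟨b, hb, v, hv, rfl⟩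
    · exact absurd h hgB
    obtain ⟨u, hu, h, hh, rfl⟩ := hdecomp b hb
    obtain ⟨h', hh'def⟩ : ∃ h', h' = n⁻¹ * h * n := ⟨_, rfl⟩
    have hh' : h' ∈ H := by rw [hh'def]; exact hnH h hh
    have eg : u * h * n * v = u * n * h' * v := by rw [hh'def]; group
    rw [eg] at hgN ⊢
    have key : ∀ x ∈ H, ((u * n * h' * v) * x * (u * n * h' * v)⁻¹) * u *
        ((u * n * h' * v) * x * (u * n * h' * v)⁻¹)⁻¹ = u ∧ x⁻¹ * v * x = v := by
      intro x hx
      obtain ⟨y, hy⟩ : ∃ y, y = (u * n * h' * v) * x * (u * n * h' * v)⁻¹ := ⟨_, rfl⟩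
      have hyH : y ∈ H := by
        rw [hy]; exact (Subgroup.mem_normalizer_iff.mp hgN x).mp hx
      rw [← hy]
      have e1 : u * n * (h' * x) * (x⁻¹ * v * x) = (y * u * y⁻¹) * n * (n⁻¹ * y * n * h') * v := by
        calc u * n * (h' * x) * (x⁻¹ * v * x) = ((u * n * h' * v) * x * (u * n * h' * v)⁻¹) *
              (u * n * h' * v) := by group
          _ = y * (u * n * h' * v) := by rw [← hy]
          _ = (y * u * y⁻¹) * n * (n⁻¹ * y * n * h') * v := by group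
      have := big_cell_unique U H B n hUB hHB hnH hn2 hopp hUH u (y * u * y⁻¹) (h' * x)
        (n⁻¹ * y * n * h') (x⁻¹ * v * x) v hu (hnorm y (hHB hyH) u hu) (H.mul_mem hh' hx)
        (H.mul_mem (hnH y hyH) hh') (hnorm' x (hHB hx) v hv) hv e1
      exact ⟨this.1.symm, this.2⟩
    have hv1 : v = 1 := by
      apply hcent v hv
      have := (key x₀ hx₀).2
      calc v * x₀ = x₀ * (x₀⁻¹ * v * x₀) := by group
        _ = x₀ * v := by rw [this]
    have hu1 : u = 1 := by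
      apply hcent u hu
      have hx : (u * n * h' * v)⁻¹ * x₀ * (u * n * h' * v) ∈ H := by
        have := (Subgroup.mem_normalizer_iff.mp (Subgroup.inv_mem _ hgN) x₀).mp hx₀
        rwa [inv_inv] at this
      have := (key _ hx).1
      have e2 : (u * n * h' * v) * ((u * n * h' * v)⁻¹ * x₀ * (u * n * h' * v)) *
          (u * n * h' * v)⁻¹ = x₀ := by group
      rw [e2] at this
      calc u * x₀ = (x₀ * u * x₀⁻¹) * x₀ := by rw [this]
        _ = x₀ * u := by group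
    rw [hv1, hu1]
    have : n⁻¹ * (1 * n * h' * 1) = h' := by group
    rw [this]; exact hh'
  -- the count
  obtain ⟨N, hN⟩ : ∃ N, N = Subgroup.normalizer (H : Set G) := ⟨_, rfl⟩
  rw [← hN] at hnN inB notB ⊢
  have hHN : H ≤ N := by rw [hN]; exact Subgroup.le_normalizer
  have hidx : (H.subgroupOf N).index = 2 := by
    rw [Subgroup.index_eq_two_iff]
    refine ⟨⟨n, hnN⟩, ?_⟩
    rintro ⟨b, hbN⟩
    by_cases hbB : b ∈ B
    · right
      have hbH := inB b hbN hbB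
      refine ⟨Subgroup.mem_subgroupOf.mpr hbH, ?_⟩
      intro h
      have h1 : b * n ∈ H := Subgroup.mem_subgroupOf.mp h
      apply hnB
      have : n = b⁻¹ * (b * n) := by group
      rw [this]
      exact hHB (H.mul_mem (H.inv_mem hbH) h1)
    · left
      have h1 := notB b hbN hbB
      refine ⟨?_, ?_⟩
      · apply Subgroup.mem_subgroupOf.mpr
        show b * n ∈ H
        have : b * n = (n * (n⁻¹ * b) * n⁻¹) * (n * n) := by group
        rw [this]
        exact H.mul_mem (hnH' _ h1) hn2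
      · intro h
        exact hbB (hHB (Subgroup.mem_subgroupOf.mp h))
  have h1 := (H.subgroupOf N).card_mul_index
  rw [hidx, Nat.card_congr (Subgroup.subgroupOfEquivOfLe hHN).toEquiv] at h1
  omega

end bruhat

end Cfsg.Agent.Lib.Helper1.RW
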