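import Mathlib

/-!
Schur multiplier of `SL₂(q)`, part a: pure algebra.

A biadditive map `β : F × F → Z` (with `Z` a commutative group, written multiplicatively) that is
invariant under simultaneous multiplication by nonzero squares is trivial as soon as the field contains
`x, y ≠ 0` with `1 + x² = y²` and `x⁴ + x² + 1 ≠ 0`; such `x, y` exist in every finite field of even order
at least `8` and in every finite field of odd order at least `14`.
-/

set_option autoImplicit false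
set_option maxHeartbeats 4000000
set_option linter.unusedVariables false
set_option linter.unusedSectionVars false
set_option linter.style.longLine false
set_option linter.unusedSimpArgs false

namespace Cfsg.Agent.Lib.Helper1.SM2

open Polynomial

section biadd

variable {F : Type*} [Field F] {Z : Type*} [CommGroup Z]

/-- a biadditive map invariant under the nonzero squares is trivial, given a suitable pair `x, y` -/
theorem biadd_trivial (β : F → F → Z)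
    (hl : ∀ a a' b, β (a + a') b = β a b * β a' b)
    (hr : ∀ a b b', β a (b + b') = β a b * β a b')
    (hinv : ∀ s a b : F, s ≠ 0 → β (s ^ 2 * a) (s ^ 2 * b) = β a b)
    (x y : F) (hx : x ≠ 0) (hy : y ≠ 0) (hxy : 1 + x ^ 2 = y ^ 2)
    (hτ : (x ^ 2) ^ 2 + x ^ 2 + 1 ≠ 0) :
    ∀ a b, β a b = 1 := by
  have h0 : ∀ a, β a 0 = 1 := by
    intro a
    have h := hr a 0 0
    rw [add_zero] at h
    exact left_eq_mul.mp h
  have hneg : ∀ a b, β a (-b) = (β a b)⁻¹ := by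
    intro a b
    have h := hr a b (-b)
    rw [add_neg_cancel, h0] at h
    exact eq_inv_of_mul_eq_one_right h.symm
  have hadj : ∀ s a b, s ≠ 0 → β (s ^ 2 * a) b = β a ((s ^ 2)⁻¹ * b) := by
    intro s a b hs
    have h := hinv s a ((s ^ 2)⁻¹ * b) hs
    rw [← mul_assoc, mul_inv_cancel₀ (pow_ne_zero 2 hs), one_mul] at h
    exact h
  have hx2 : x ^ 2 ≠ 0 := pow_ne_zero 2 hx
  have hy2 : y ^ 2 ≠ 0 := pow_ne_zero 2 hy
  have key : ∀ a b, β a ((1 + (x ^ 2)⁻¹ - (y ^ 2)⁻¹) * b) = 1 := by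
    intro a b
    have e1 : β ((1 + x ^ 2) * a) b = β a (b + (x ^ 2)⁻¹ * b) := by
      rw [add_mul, one_mul, hl, hadj x a b hx, hr]
    have e2 : β ((1 + x ^ 2) * a) b = β a ((y ^ 2)⁻¹ * b) := by
      rw [hxy, hadj y a b hy]
    have e3 : (1 + (x ^ 2)⁻¹ - (y ^ 2)⁻¹) * b = (b + (x ^ 2)⁻¹ * b) + -((y ^ 2)⁻¹ * b) := by ring
    rw [e3, hr, hneg, ← e1, ← e2, mul_inv_cancel]
  have hw : (1 + (x ^ 2)⁻¹ - (y ^ 2)⁻¹) ≠ 0 := by
    intro h
    apply hτ
    have h1 : (1 + (x ^ 2)⁻¹ - (y ^ 2)⁻¹) * (x ^ 2 * y ^ 2) = (x ^ 2) ^ 2 + x ^ 2 + 1 := by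
      have : (1 + (x ^ 2)⁻¹ - (y ^ 2)⁻¹) * (x ^ 2 * y ^ 2)
          = x ^ 2 * y ^ 2 + ((x ^ 2)⁻¹ * x ^ 2) * y ^ 2 - ((y ^ 2)⁻¹ * y ^ 2) * x ^ 2 := by ring
      rw [this, inv_mul_cancel₀ hx2, inv_mul_cancel₀ hy2, ← hxy]
      ring
    rw [← h1, h, zero_mul]
  intro a b
  have h := key a ((1 + (x ^ 2)⁻¹ - (y ^ 2)⁻¹)⁻¹ * b)
  rw [← mul_assoc, mul_inv_cancel₀ hw, one_mul] at h
  exact h

end biadd

section exist

variable {F : Type*} [Field F] [Fintype F]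

/-- a nonzero polynomial of degree less than `|F|` has a non-root -/
theorem exists_eval_ne_zero (P : F[X]) (hP : P ≠ 0) (hdeg : P.natDegree < Fintype.card F) :
    ∃ s : F, P.eval s ≠ 0 := by
  by_contra h
  push_neg at h
  exact hP (Polynomial.eq_zero_of_natDegree_lt_card_of_eval_eq_zero P (f := id)
    Function.injective_id h hdeg)

/-- characteristic `2`, at least `8` elements -/
theorem exists_param_even (h2 : (2 : F) = 0) (hq : 8 ≤ Fintype.card F) :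
    ∃ x y : F, x ≠ 0 ∧ y ≠ 0 ∧ 1 + x ^ 2 = y ^ 2 ∧ (x ^ 2) ^ 2 + x ^ 2 + 1 ≠ 0 := by
  have hdeg : (X * (X + 1) * (X ^ 4 + X ^ 2 + 1) : F[X]).natDegree = 6 := by compute_degree!
  have hne : (X * (X + 1) * (X ^ 4 + X ^ 2 + 1) : F[X]) ≠ 0 := by
    intro h
    rw [h, natDegree_zero] at hdeg
    omega
  obtain ⟨s, hs⟩ := exists_eval_ne_zero _ hne (by rw [hdeg]; omega)
  simp only [eval_mul, eval_add, eval_pow, eval_X, eval_one] at hs
  refine ⟨s, s + 1, ?_, ?_, ?_, ?_⟩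
  · intro h; apply hs; rw [h]; ring
  · intro h; apply hs; rw [h]; ring
  · linear_combination (-s) * h2
  · intro h; apply hs
    have : s ^ 4 + s ^ 2 + 1 = (s ^ 2) ^ 2 + s ^ 2 + 1 := by ring
    rw [this, h, mul_zero]

/-- odd characteristic, at least `14` elements -/
theorem exists_param_odd (h2 : (2 : F) ≠ 0) (hq : 14 ≤ Fintype.card F) :
    ∃ x y : F, x ≠ 0 ∧ y ≠ 0 ∧ 1 + x ^ 2 = y ^ 2 ∧ (x ^ 2) ^ 2 + x ^ 2 + 1 ≠ 0 := by
  have hdeg : (X * (X ^ 2 - 1) * (X ^ 2 + 1) *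
      ((X ^ 2 - 1) ^ 4 + C 4 * X ^ 2 * (X ^ 2 - 1) ^ 2 + C 16 * X ^ 4) : F[X]).natDegree = 13 := by
    compute_degree!
  have hne : (X * (X ^ 2 - 1) * (X ^ 2 + 1) *
      ((X ^ 2 - 1) ^ 4 + C 4 * X ^ 2 * (X ^ 2 - 1) ^ 2 + C 16 * X ^ 4) : F[X]) ≠ 0 := by
    intro h
    rw [h, natDegree_zero] at hdeg
    omega
  obtain ⟨s, hs⟩ := exists_eval_ne_zero _ hne (by rw [hdeg]; omega)
  simp only [eval_mul, eval_add, eval_sub, eval_pow, eval_X, eval_one, eval_C] at hs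
  have hs0 : s ≠ 0 := by
    intro h; apply hs; rw [h]; ring
  have h2s : (2 * s) ≠ 0 := mul_ne_zero h2 hs0
  have hsm : s ^ 2 - 1 ≠ 0 := by
    intro h; apply hs; rw [h]; ring
  have hsp : s ^ 2 + 1 ≠ 0 := by
    intro h; apply hs; rw [h]; ring
  have hlast : (s ^ 2 - 1) ^ 4 + 4 * s ^ 2 * (s ^ 2 - 1) ^ 2 + 16 * s ^ 4 ≠ 0 := by
    intro h; apply hs; rw [h]; ring
  refine ⟨(s ^ 2 - 1) / (2 * s), (s ^ 2 + 1) / (2 * s), div_ne_zero hsm h2s, div_ne_zero hsp h2s,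
    ?_, ?_⟩
  · field_simp
    ring
  · intro h
    apply hlast
    have e : (((s ^ 2 - 1) / (2 * s)) ^ 2) ^ 2 + ((s ^ 2 - 1) / (2 * s)) ^ 2 + 1
        = ((s ^ 2 - 1) ^ 4 + 4 * s ^ 2 * (s ^ 2 - 1) ^ 2 + 16 * s ^ 4) / (2 * s) ^ 4 := by
      field_simp
      ring
    rw [e, div_eq_zero_iff] at h
    rcases h with h | h
    · exact h
    · exact absurd h (pow_ne_zero 4 h2s)

end exist

end Cfsg.Agent.Lib.Helper1.SM2
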