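import Mathlib
import Cfsg.Agent.Lib.Helper1.SM2a
import Cfsg.Agent.Lib.Helper4.SL2Sylow
import Cfsg.Agent.Lib.Helper4.StemLib7

/-!
Schur multiplier of `SL₂(q)`, part b: in a central extension of `SL₂(F)` the preimage of the upper
unitriangular subgroup is abelian (given the pair `x, y` of part a); hence no stem extension with kernel
of order `p = char F`.
-/

set_option autoImplicit false
set_option maxHeartbeats 4000000
set_option linter.unusedVariables false
set_option linter.unusedSectionVars false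
set_option linter.style.longLine false
set_option linter.unusedSimpArgs false

namespace Cfsg.Agent.Lib.Helper1.SM2

open Cfsg Cfsg.Agent.Lib.Helper4 Cfsg.Agent.Lib.Helper4.Stem
open scoped commutatorElement IsMulCommutative

universe u

section general

variable {Γ : Type*} [Group Γ]

/-- a commutator with a central value is multiplicative in the first variable -/
theorem comm_mul_left_of_central (x x' y : Γ) (hc : ∀ g : Γ, g * ⁅x', y⁆ = ⁅x', y⁆ * g) :
    ⁅x * x', y⁆ = ⁅x, y⁆ * ⁅x', y⁆ := by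
  have h1 : ⁅x * x', y⁆ = x * ⁅x', y⁆ * x⁻¹ * ⁅x, y⁆ := by
    simp only [commutatorElement_def]; group
  rw [h1, hc x, mul_inv_cancel_right]
  exact (hc ⁅x, y⁆).symm

/-- a commutator with a central value is multiplicative in the second variable -/
theorem comm_mul_right_of_central (x y y' : Γ) (hc : ∀ g : Γ, g * ⁅x, y'⁆ = ⁅x, y'⁆ * g) :
    ⁅x, y * y'⁆ = ⁅x, y⁆ * ⁅x, y'⁆ := by
  have h1 : ⁅x, y * y'⁆ = ⁅x, y⁆ * (y * ⁅x, y'⁆ * y⁻¹) := by
    simp only [commutatorElement_def]; group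
  rw [h1, hc y, mul_inv_cancel_right]

theorem comm_conj (t x y : Γ) : ⁅t * x * t⁻¹, t * y * t⁻¹⁆ = t * ⁅x, y⁆ * t⁻¹ := by
  simp only [commutatorElement_def]; group

end general

section sl2

variable {F : Type*} [Field F]

local notation "SL2" => Matrix.SpecialLinearGroup (Fin 2) F

/-- the diagonal element `diag(s, s⁻¹)` -/
def dg (s : F) (hs : s ≠ 0) : SL2 :=
  ⟨!![s, 0; 0, s⁻¹], by rw [Matrix.det_fin_two_of]; simp [hs]⟩

theorem dg_coe (s : F) (hs : s ≠ 0) : (dg s hs : Matrix (Fin 2) (Fin 2) F) = !![s, 0; 0, s⁻¹] := rfl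

theorem dg_mul_upperU (s : F) (hs : s ≠ 0) (a : F) :
    dg s hs * upperU a = upperU (s ^ 2 * a) * dg s hs := by
  rw [sl2_ext_iff]
  simp only [Matrix.SpecialLinearGroup.coe_mul, upperU_coe, dg_coe, Matrix.mul_apply,
    Fin.sum_univ_two, Matrix.of_apply, Matrix.cons_val', Matrix.cons_val_zero, Matrix.cons_val_one,
    Matrix.cons_val_fin_one]
  have e : s ^ 2 * a * s⁻¹ = s * a := by
    field_simp
  refine ⟨?_, ?_, ?_, ?_⟩
  · ring
  · rw [e]; ring
  · ring
  · ring

theorem dg_conj_upperU (s : F) (hs : s ≠ 0) (a : F) :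
    dg s hs * upperU a * (dg s hs)⁻¹ = upperU (s ^ 2 * a) := by
  rw [dg_mul_upperU, mul_inv_cancel_right]

theorem upperU_commute (a b : F) : upperU a * upperU b = upperU b * upperU a := by
  rw [← upperU_add, ← upperU_add, add_comm]

variable {Γ : Type*} [Group Γ]

theorem comm_eq_of_map_eq (σ : Γ →* Matrix.SpecialLinearGroup (Fin 2) F) (hc : σ.ker ≤ Subgroup.center Γ) {x x' y y' : Γ} (hx : σ x = σ x')
    (hy : σ y = σ y') : ⁅x, y⁆ = ⁅x', y'⁆ := by
  have hn : ∀ {u u' : Γ}, σ u = σ u' → ∀ g : Γ, g * (u'⁻¹ * u) = (u'⁻¹ * u) * g := by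
    intro u u' h g
    have hk : u'⁻¹ * u ∈ σ.ker := by
      rw [MonoidHom.mem_ker, map_mul, map_inv, h, inv_mul_cancel]
    exact Subgroup.mem_center_iff.mp (hc hk) g
  have e1 : x = x' * (x'⁻¹ * x) := by group
  have e2 : y = y' * (y'⁻¹ * y) := by group
  rw [e1, comm_mul_central_left _ _ _ (hn hx), e2, comm_mul_central_right _ _ _ (hn hy)]

theorem comm_mem_ker_of_unip (σ : Γ →* Matrix.SpecialLinearGroup (Fin 2) F) {g h : Γ} (hg : σ g ∈ unipSL F) (hh : σ h ∈ unipSL F) :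
    ⁅g, h⁆ ∈ σ.ker := by
  obtain ⟨a, ha⟩ := (mem_unipSL_iff _).mp hg
  obtain ⟨b, hb⟩ := (mem_unipSL_iff _).mp hh
  rw [MonoidHom.mem_ker, map_commutatorElement, ha, hb, commutatorElement_eq_one_iff_commute]
  exact upperU_commute a b

/-- the preimage of the unipotent subgroup is abelian -/
theorem comm_eq_one_of_unip (σ : Γ →* Matrix.SpecialLinearGroup (Fin 2) F) (hs : Function.Surjective σ) (hc : σ.ker ≤ Subgroup.center Γ)
    (x y : F) (hx : x ≠ 0) (hy : y ≠ 0) (hxy : 1 + x ^ 2 = y ^ 2)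
    (hτ : (x ^ 2) ^ 2 + x ^ 2 + 1 ≠ 0) {g h : Γ} (hg : σ g ∈ unipSL F) (hh : σ h ∈ unipSL F) :
    ⁅g, h⁆ = 1 := by
  choose f hf using fun a : F => hs (upperU a)
  have hfu : ∀ a, σ (f a) ∈ unipSL F := fun a => (mem_unipSL_iff _).mpr ⟨a, hf a⟩
  have hcen : ∀ a b, ⁅f a, f b⁆ ∈ Subgroup.center Γ := fun a b =>
    hc (comm_mem_ker_of_unip σ (hfu a) (hfu b))
  have hcen' : ∀ a b (u : Γ), u * ⁅f a, f b⁆ = ⁅f a, f b⁆ * u := fun a b u =>
    Subgroup.mem_center_iff.mp (hcen a b) u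
  let β : F → F → Subgroup.center Γ := fun a b => ⟨⁅f a, f b⁆, hcen a b⟩
  have hβ : ∀ a b, β a b = 1 := by
    apply biadd_trivial β _ _ _ x y hx hy hxy hτ
    · intro a a' b
      apply Subtype.ext
      show ⁅f (a + a'), f b⁆ = ⁅f a, f b⁆ * ⁅f a', f b⁆
      rw [← comm_mul_left_of_central _ _ _ (hcen' a' b)]
      apply comm_eq_of_map_eq σ hc _ rfl
      rw [map_mul, hf, hf, hf, upperU_add]
    · intro a b b'
      apply Subtype.ext
      show ⁅f a, f (b + b')⁆ = ⁅f a, f b⁆ * ⁅f a, f b'⁆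
      rw [← comm_mul_right_of_central _ _ _ (hcen' a b')]
      apply comm_eq_of_map_eq σ hc rfl
      rw [map_mul, hf, hf, hf, upperU_add]
    · intro s a b hs0
      apply Subtype.ext
      show ⁅f (s ^ 2 * a), f (s ^ 2 * b)⁆ = ⁅f a, f b⁆
      obtain ⟨t, ht⟩ := hs (dg s hs0)
      have e1 : ⁅f (s ^ 2 * a), f (s ^ 2 * b)⁆ = ⁅t * f a * t⁻¹, t * f b * t⁻¹⁆ := by
        apply comm_eq_of_map_eq σ hc
        · rw [map_mul, map_mul, map_inv, ht, hf, hf, dg_conj_upperU]
        · rw [map_mul, map_mul, map_inv, ht, hf, hf, dg_conj_upperU]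
      rw [e1, comm_conj, hcen' a b t, mul_inv_cancel_right]
  obtain ⟨a, ha⟩ := (mem_unipSL_iff _).mp hg
  obtain ⟨b, hb⟩ := (mem_unipSL_iff _).mp hh
  have e : ⁅g, h⁆ = ⁅f a, f b⁆ := comm_eq_of_map_eq σ hc (by rw [ha, hf]) (by rw [hb, hf])
  rw [e]
  exact congrArg Subtype.val (hβ a b)

end sl2

section final

variable {F : Type u} [Field F] [Fintype F]

local notation "SL2" => Matrix.SpecialLinearGroup (Fin 2) F

/-- no stem extension with kernel of order `p = char F`, given the pair `x, y` -/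
theorem noStemPrime_char (p : ℕ) [hp : Fact p.Prime] [CharP F p]
    (x y : F) (hx : x ≠ 0) (hy : y ≠ 0) (hxy : 1 + x ^ 2 = y ^ 2)
    (hτ : (x ^ 2) ^ 2 + x ^ 2 + 1 ≠ 0) : NoStemPrime SL2 p := by
  intro Γ _ _ σ hσ hcard
  obtain ⟨hs, hc, hd⟩ := hσ
  have hK : ∀ a b : (unipSL F).comap σ, a * b = b * a := by
    intro a b
    have h1 : ⁅(a : Γ), (b : Γ)⁆ = 1 :=
      comm_eq_one_of_unip σ hs hc x y hx hy hxy hτ a.2 b.2
    apply Subtype.ext
    rw [commutatorElement_eq_one_iff_commute] at h1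
    exact h1
  have hidx : ((unipSL F).comap σ).index = (unipSL F).index :=
    Subgroup.index_comap_of_surjective _ hs
  have hker : σ.ker = ⊥ := by
    rw [eq_bot_iff]
    intro z hz
    rw [Subgroup.mem_bot]
    have h1 : z ^ ((unipSL F).comap σ).index = 1 :=
      pow_index_eq_one_of_abelian_sylow _ hK z (hc hz) (hd hz)
    have h2 : z ^ p = 1 := by
      have := pow_card_eq_one' (G := σ.ker) (x := ⟨z, hz⟩)
      rw [hcard] at this
      exact congrArg Subtype.val this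
    rw [hidx] at h1
    have hcop : Nat.Coprime p (unipSL F).index :=
      (Nat.Prime.coprime_iff_not_dvd hp.out).mpr (not_dvd_index_unipSL p)
    have h3 : orderOf z ∣ 1 := by
      rw [← Nat.Coprime.gcd_eq_one hcop]
      exact Nat.dvd_gcd (orderOf_dvd_of_pow_eq_one h2) (orderOf_dvd_of_pow_eq_one h1)
    exact orderOf_eq_one_iff.mp (Nat.dvd_one.mp h3)
  rw [hker] at hcard
  have : Nat.card (⊥ : Subgroup Γ) = 1 := Subgroup.card_bot
  rw [this] at hcard
  exact hp.out.one_lt.ne hcard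

end final

end Cfsg.Agent.Lib.Helper1.SM2
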