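import Mathlib
import Cfsg.Agent.Lib.Helper1.SM2b
import Cfsg.Agent.Lib.Helper4.StemLib7
import Cfsg.Agent.Lib.Helper4.SLCard
import Cfsg.Agent.Lib.Helper5.SL2Cyclic
import Cfsg.Agent.Lib.Lead.UniqueP
import Cfsg.Agent.S3963

/-!
Schur multiplier of `SL₂(q)`, part c: primes different from the characteristic (cyclic or generalized
quaternion Sylow subgroups), and the final assembly.
-/

set_option autoImplicit false
set_option maxHeartbeats 4000000
set_option linter.unusedVariables false
set_option linter.unusedSectionVars false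
set_option linter.style.longLine false
set_option linter.unusedSimpArgs false

namespace Cfsg.Agent.Lib.Helper1.SM2

open Cfsg Cfsg.Agent.Lib.Helper4 Cfsg.Agent.Lib.Helper4.Stem Cfsg.Agent.Lib.Lead.UniqueP
open scoped commutatorElement

universe u

section cyc

/-- a cyclic group has no nontrivial stem extension -/
theorem ker_eq_bot_of_stem_isCyclic {Γ R : Type*} [Group Γ] [Group R] [IsCyclic R] (σ : Γ →* R)
    (hσ : IsStemExtension σ) : σ.ker = ⊥ := by
  obtain ⟨hs, hc, hd⟩ := hσ
  have hcomm : ∀ a b : Γ, a * b = b * a := commutative_of_cyclic_center_quotient σ hc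
  have h1 : commutator Γ = ⊥ := by
    rw [commutator_eq_bot_iff_center_eq_top, eq_top_iff]
    intro z _
    rw [Subgroup.mem_center_iff]
    intro g
    exact hcomm g z
  rw [eq_bot_iff, ← h1]
  exact hd

theorem noStemPrime_of_ker_eq_bot {R : Type u} [Group R]
    (h : ∀ (Γ : Type u) [Group Γ] [Finite Γ] (σ : Γ →* R), IsStemExtension σ → σ.ker = ⊥)
    (p : ℕ) (hp : p ≠ 1) : NoStemPrime R p := by
  intro Γ _ _ σ hσ hcard
  rw [h Γ σ hσ] at hcard
  have : Nat.card (⊥ : Subgroup Γ) = 1 := Subgroup.card_bot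
  rw [this] at hcard
  exact hp hcard.symm

theorem noStemPrime_of_isCyclic {R : Type u} [Group R] [IsCyclic R] (p : ℕ) (hp : p ≠ 1) :
    NoStemPrime R p :=
  noStemPrime_of_ker_eq_bot (fun Γ _ _ σ hσ => ker_eq_bot_of_stem_isCyclic σ hσ) p hp

end cyc

section quat

open QuaternionGroup Cfsg.Agent.Lib.Helper2 Cfsg.Agent.S3963

/-- a generalized quaternion (dicyclic) group has no nontrivial stem extension, in any universe -/
theorem ker_eq_bot_of_stem_quaternion {Γ : Type*} [Group Γ] (n : ℕ) [NeZero n]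
    (σ : Γ →* QuaternionGroup n) (hσ : IsStemExtension σ) : σ.ker = ⊥ := by
  rw [eq_bot_iff]
  intro k hk
  obtain ⟨t, ht⟩ := hσ.1 (xa 0)
  obtain ⟨b, hb, hkb⟩ := stem_cyclic_by_cyclic σ hσ (a 1) (xa 0) zpowers_sup t ht k hk
  obtain ⟨i, hi⟩ := (mem_zpowers_a_one _).1 hb
  have hii : i + i = 0 := by
    have h1 : σ k = 1 := MonoidHom.mem_ker.1 hk
    rw [hkb, map_mul, map_inv, map_mul, map_mul, map_inv, ht, hi, inv_xa, xa_mul_a, xa_mul_xa,
      inv_a, a_mul_a, one_def] at h1
    have h2 := QuaternionGroup.a.inj h1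
    have hnn : ((n : ZMod (2 * n)) + (n : ZMod (2 * n))) = 0 := by
      rw [← Nat.cast_add, ← two_mul, ZMod.natCast_self]
    have h3 : i + -((n : ZMod (2 * n)) + ((n : ZMod (2 * n)) + 0) - (0 + i)) =
        i + i - ((n : ZMod (2 * n)) + (n : ZMod (2 * n))) := by ring
    rw [h3, hnn, sub_zero] at h2
    exact h2
  rw [Subgroup.mem_bot]
  rcases eq_zero_or_of_add_self i hii with hi0 | hin
  · have hbker : b ∈ σ.ker := by
      rw [MonoidHom.mem_ker, hi, hi0]; rfl
    have hbc := Subgroup.mem_center_iff.1 (hσ.2.1 hbker)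
    have h1 : t * b * t⁻¹ = b := by rw [hbc t, mul_inv_cancel_right]
    rw [hkb, h1, mul_inv_cancel]
  · have ht2 : σ (t * t) = a ((n : ℕ) : ZMod (2 * n)) := by
      rw [map_mul, ht, xa_mul_xa]
      congr 1
      simp
    have hwker : b * (t * t)⁻¹ ∈ σ.ker := by
      rw [MonoidHom.mem_ker, map_mul, map_inv, hi, ht2, hin, mul_inv_cancel]
    have hwc := Subgroup.mem_center_iff.1 (hσ.2.1 hwker)
    set w := b * (t * t)⁻¹ with hw
    have hbw : b = w * (t * t) := by rw [hw]; group
    have h1 : t * (w * (t * t)) * t⁻¹ = w * (t * t) := by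
      rw [← mul_assoc, hwc t]; group
    rw [hkb, hbw, h1, mul_inv_cancel]

/-- transport along an isomorphism onto a quaternion group -/
theorem noStemPrime_of_equiv_quaternion {R : Type u} [Group R] (n : ℕ) [NeZero n]
    (e : R ≃* QuaternionGroup n) (p : ℕ) (hp : p ≠ 1) : NoStemPrime R p := by
  apply noStemPrime_of_ker_eq_bot _ p hp
  intro Γ _ _ σ hσ
  obtain ⟨hs, hc, hd⟩ := hσ
  have hker : (e.toMonoidHom.comp σ).ker = σ.ker := by
    ext z
    simp only [MonoidHom.mem_ker, MonoidHom.comp_apply, MulEquiv.coe_toMonoidHom]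
    exact e.map_eq_one_iff
  have h1 : IsStemExtension (e.toMonoidHom.comp σ) := by
    refine ⟨?_, ?_, ?_⟩
    · intro y
      obtain ⟨g, hg⟩ := hs (e.symm y)
      exact ⟨g, by simp [hg]⟩
    · rw [hker]; exact hc
    · rw [hker]; exact hd
  rw [← hker]
  exact ker_eq_bot_of_stem_quaternion n _ h1

end quat

section sl2

variable {F : Type u} [Field F]

local notation "SL2" => Matrix.SpecialLinearGroup (Fin 2) F

/-- in odd characteristic `SL₂(F)` has at most one involution -/
theorem invol_entries (h2 : (2 : F) ≠ 0) (z : SL2) (hz : z ^ 2 = 1) :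
    z 0 1 = 0 ∧ z 1 0 = 0 ∧ z 0 0 = z 1 1 ∧ (z 0 0 = 1 ∨ z 0 0 = -1) := by
  have hdet := sl2_det z
  rw [pow_two, sl2_ext_iff] at hz
  simp only [Matrix.SpecialLinearGroup.coe_mul, Matrix.SpecialLinearGroup.coe_one, Matrix.mul_apply,
    Fin.sum_univ_two, Matrix.one_apply_eq, Matrix.one_apply_ne, ne_eq, zero_ne_one, one_ne_zero,
    not_false_eq_true] at hz
  obtain ⟨h00, h01, h10, h11⟩ := hz
  have htr : z 0 0 + z 1 1 ≠ 0 := by
    intro h
    have hd : z 1 1 = -z 0 0 := by linear_combination h
    apply h2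
    rw [hd] at hdet
    linear_combination -hdet - h00
  have hb : z 0 1 = 0 := by
    have : z 0 1 * (z 0 0 + z 1 1) = 0 := by linear_combination h01
    rcases mul_eq_zero.mp this with h | h
    · exact h
    · exact absurd h htr
  have hcc : z 1 0 = 0 := by
    have : z 1 0 * (z 0 0 + z 1 1) = 0 := by linear_combination h10
    rcases mul_eq_zero.mp this with h | h
    · exact h
    · exact absurd h htr
  rw [hb, zero_mul, sub_zero] at hdet
  rw [hb, zero_mul, add_zero] at h00
  have had : z 0 0 = z 1 1 := by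
    have h0 : z 0 0 ≠ 0 := by
      intro h; rw [h, zero_mul] at hdet; exact zero_ne_one hdet
    have : z 0 0 * (z 0 0 - z 1 1) = 0 := by linear_combination h00 - hdet
    rcases mul_eq_zero.mp this with h | h
    · exact absurd h h0
    · exact sub_eq_zero.mp h
  refine ⟨hb, hcc, had, ?_⟩
  have : (z 0 0 - 1) * (z 0 0 + 1) = 0 := by linear_combination h00
  rcases mul_eq_zero.mp this with h | h
  · left; exact sub_eq_zero.mp h
  · right; exact eq_neg_of_add_eq_zero_left h

theorem uop_two_SL2 (h2 : (2 : F) ≠ 0) : UOP 2 SL2 := by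
  intro x y hx hy hx1
  obtain ⟨xb, xc, xad, xa⟩ := invol_entries h2 x hx
  obtain ⟨yb, yc, yad, ya⟩ := invol_entries h2 y hy
  have hxm : x 0 0 = -1 := by
    rcases xa with h | h
    · exfalso
      apply hx1
      rw [sl2_ext_iff]
      refine ⟨?_, ?_, ?_, ?_⟩
      · rw [h]; simp
      · rw [xb]; simp
      · rw [xc]; simp
      · rw [← xad, h]; simp
    · exact h
  rcases ya with h | h
  · have : y = 1 := by
      rw [sl2_ext_iff]
      refine ⟨?_, ?_, ?_, ?_⟩
      · rw [h]; simp
      · rw [yb]; simp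
      · rw [yc]; simp
      · rw [← yad, h]; simp
    rw [this]
    exact one_mem _
  · have : y = x := by
      rw [sl2_ext_iff]
      refine ⟨?_, ?_, ?_, ?_⟩
      · rw [h, hxm]
      · rw [yb, xb]
      · rw [yc, xc]
      · rw [← yad, ← xad, h, hxm]
    rw [this]
    exact Subgroup.mem_zpowers x

variable [Fintype F]

/-- the prime `2` in odd characteristic -/
theorem noStemPrime_two (h2 : (2 : F) ≠ 0) : NoStemPrime SL2 2 := by
  haveI : Fact (Nat.Prime 2) := ⟨Nat.prime_two⟩
  obtain ⟨P⟩ : Nonempty (Sylow 2 SL2) := inferInstance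
  have hu : UOP 2 (P : Subgroup SL2) := (uop_two_SL2 h2).subgroup _
  have hP : NoStemPrime (P : Subgroup SL2) 2 := by
    rcases cyclic_or_quaternion 2 P.isPGroup' hu with hc | ⟨_, n, ⟨e⟩⟩
    · haveI := hc
      exact noStemPrime_of_isCyclic 2 (by norm_num)
    · haveI : NeZero (2 ^ n) := ⟨pow_ne_zero n two_ne_zero⟩
      exact noStemPrime_of_equiv_quaternion (2 ^ n) e 2 (by norm_num)
  exact noStemPrime_of_subgroup SL2 (P : Subgroup SL2) 2 Nat.prime_two P.not_dvd_index hP

/-- odd primes different from the characteristic -/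
theorem noStemPrime_odd (r : ℕ) (hr : r.Prime) (hr2 : r ≠ 2) (hrF : (r : F) ≠ 0) :
    NoStemPrime SL2 r := by
  haveI : Fact r.Prime := ⟨hr⟩
  obtain ⟨P⟩ : Nonempty (Sylow r SL2) := inferInstance
  haveI : IsCyclic (P : Subgroup SL2) :=
    Cfsg.Agent.Lib.Helper5.SL2Cyclic.isCyclic_of_isPGroup r hr2 hrF (P : Subgroup SL2) P.isPGroup'
  have hP : NoStemPrime (P : Subgroup SL2) r := noStemPrime_of_isCyclic r hr.one_lt.ne'
  exact noStemPrime_of_subgroup SL2 (P : Subgroup SL2) r hr P.not_dvd_index hP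

/-- the characteristic -/
theorem noStemPrime_char_all (p : ℕ) [hp : Fact p.Prime] [CharP F p]
    (h4 : Fintype.card F ≠ 4) (h9 : Fintype.card F ≠ 9) : NoStemPrime SL2 p := by
  obtain ⟨n, hpr, hcard⟩ := FiniteField.card F p
  by_cases hn : (n : ℕ) = 1
  · -- prime field: `p²` does not divide the order
    apply noStemPrime_of_sq_not_dvd SL2 p hp.out
    rw [card_SL2, hcard, hn, pow_one]
    intro hdvd
    have h1 : p ∣ p ^ 2 - 1 := by
      have hd2 : p * p ∣ p * (p ^ 2 - 1) := by
        rw [← pow_two]; exact hdvd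
      exact (Nat.mul_dvd_mul_iff_left hp.out.pos).mp hd2
    have h3 : 1 ≤ p ^ 2 := Nat.one_le_pow _ _ hp.out.pos
    have h2' : p ∣ p ^ 2 - (p ^ 2 - 1) := Nat.dvd_sub (dvd_pow_self p two_ne_zero) h1
    have h4' : p ^ 2 - (p ^ 2 - 1) = 1 := by omega
    rw [h4'] at h2'
    exact hp.out.one_lt.ne' (Nat.dvd_one.mp h2')
  · have hn2 : 2 ≤ (n : ℕ) := by
      have := n.pos
      omega
    by_cases hp2 : p = 2
    · subst hp2
      have h2F : (2 : F) = 0 := by
        have := CharP.cast_eq_zero F 2
        exact_mod_cast this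
      have hn3 : 3 ≤ (n : ℕ) := by
        rcases Nat.lt_or_ge (n : ℕ) 3 with h | h
        · exfalso
          have : (n : ℕ) = 2 := by omega
          rw [this] at hcard
          exact h4 (by rw [hcard]; norm_num)
        · exact h
      have hq : 8 ≤ Fintype.card F := by
        rw [hcard]
        calc 8 = 2 ^ 3 := by norm_num
          _ ≤ 2 ^ (n : ℕ) := Nat.pow_le_pow_right (by norm_num) hn3
      obtain ⟨x, y, hx, hy, hxy, hτ⟩ := exists_param_even h2F hq
      exact noStemPrime_char 2 x y hx hy hxy hτ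
    · have h2F : (2 : F) ≠ 0 := by
        intro h
        have h' : ((2 : ℕ) : F) = 0 := by exact_mod_cast h
        rw [CharP.cast_eq_zero_iff F p 2] at h'
        exact hp2 ((Nat.prime_dvd_prime_iff_eq hp.out Nat.prime_two).mp h')
      have hp3 : 3 ≤ p := by
        have := hp.out.two_le
        omega
      have hq : 14 ≤ Fintype.card F := by
        rw [hcard]
        by_cases hp3' : p = 3
        · subst hp3'
          have hn3 : 3 ≤ (n : ℕ) := by
            rcases Nat.lt_or_ge (n : ℕ) 3 with h | h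
            · exfalso
              have : (n : ℕ) = 2 := by omega
              rw [this] at hcard
              exact h9 (by rw [hcard]; norm_num)
            · exact h
          calc 14 ≤ 3 ^ 3 := by norm_num
            _ ≤ 3 ^ (n : ℕ) := Nat.pow_le_pow_right (by norm_num) hn3
        · have hp5 : 5 ≤ p := by
            rcases Nat.lt_or_ge p 5 with h | h
            · exfalso
              have : p = 4 := by omega
              rw [this] at hpr
              exact absurd hpr (by norm_num)
            · exact h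
          calc 14 ≤ 5 ^ 2 := by norm_num
            _ ≤ p ^ 2 := Nat.pow_le_pow_left hp5 2
            _ ≤ p ^ (n : ℕ) := Nat.pow_le_pow_right hp.out.pos hn2
      obtain ⟨x, y, hx, hy, hxy, hτ⟩ := exists_param_odd h2F hq
      exact noStemPrime_char p x y hx hy hxy hτ

/-- the Schur multiplier of `SL₂(F)` is trivial for `|F| ≠ 4, 9` -/
theorem sl2_trivial_multiplier (h4 : Fintype.card F ≠ 4) (h9 : Fintype.card F ≠ 9) :
    HasCyclicSchurMultiplier SL2 1 := by
  obtain ⟨p, hchar⟩ := CharP.exists F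
  haveI := hchar
  haveI hp : Fact p.Prime := ⟨CharP.char_is_prime F p⟩
  apply trivialMultiplier_of_noStemPrime
  intro r hr
  by_cases hrp : r = p
  · subst hrp
    exact noStemPrime_char_all r h4 h9
  · have hrF : (r : F) ≠ 0 := by
      intro h
      rw [CharP.cast_eq_zero_iff F p r] at h
      exact hrp ((Nat.prime_dvd_prime_iff_eq hp.out hr).mp h).symm
    by_cases hr2 : r = 2
    · subst hr2
      exact noStemPrime_two (by exact_mod_cast hrF)
    · exact noStemPrime_odd r hr hr2 hrF

end sl2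

end Cfsg.Agent.Lib.Helper1.SM2
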