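import Mathlib
import Cfsg.Agent.Lib.Helper1.SM2a

/-!
Schur multiplier of the Suzuki groups, part a: pure algebra.

* `biadd_trivial_grp`: the square-invariant form lemma of `SM2a` with an arbitrary group as target;
* `biadd_trivial2`: a biadditive map `γ` with `γ (l a) (k b) = γ a b` for two pairs `(l₁, k₁)`, `(1 + l₁, k₂)`
  is trivial as soon as `1 + k₁⁻¹ - k₂⁻¹ ≠ 0`;
* `exists_param_suz`: in characteristic `2`, for `2 r + 6 < |F|`, some `z ≠ 0, 1` has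
  `1 + (z^r z^2)⁻¹ - ((1 + z^r)(1 + z)^2)⁻¹ ≠ 0`.
-/

set_option autoImplicit false
set_option maxHeartbeats 4000000
set_option linter.unusedVariables false
set_option linter.unusedSectionVars false
set_option linter.style.longLine false
set_option linter.unusedSimpArgs false

namespace Cfsg.Agent.Lib.Helper1.SM3

open Polynomial Cfsg.Agent.Lib.Helper1.SM2

section biadd

variable {F : Type*} [Field F] {Z : Type*} [Group Z]

theorem biadd_zero_right (β : F → F → Z) (hr : ∀ a b b', β a (b + b') = β a b * β a b') (a : F) :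
    β a 0 = 1 := by
  have h := hr a 0 0
  rw [add_zero] at h
  exact left_eq_mul.mp h

theorem biadd_neg_right (β : F → F → Z) (hr : ∀ a b b', β a (b + b') = β a b * β a b') (a b : F) :
    β a (-b) = (β a b)⁻¹ := by
  have h := hr a b (-b)
  rw [add_neg_cancel, biadd_zero_right β hr] at h
  exact eq_inv_of_mul_eq_one_right h.symm

/-- the square-invariant form lemma with an arbitrary group as target -/
theorem biadd_trivial_grp (β : F → F → Z)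
    (hl : ∀ a a' b, β (a + a') b = β a b * β a' b)
    (hr : ∀ a b b', β a (b + b') = β a b * β a b')
    (hinv : ∀ s a b : F, s ≠ 0 → β (s ^ 2 * a) (s ^ 2 * b) = β a b)
    (x y : F) (hx : x ≠ 0) (hy : y ≠ 0) (hxy : 1 + x ^ 2 = y ^ 2)
    (hτ : (x ^ 2) ^ 2 + x ^ 2 + 1 ≠ 0) :
    ∀ a b, β a b = 1 := by
  have hneg := biadd_neg_right β hr
  have hadj : ∀ s a b, s ≠ 0 → β (s ^ 2 * a) b = β a ((s ^ 2)⁻¹ * b) := by
    intro s a b hs
    have h := hinv s a ((s ^ 2)⁻¹ * b) hs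
    rw [← mul_assoc, mul_inv_cancel₀ (pow_ne_zero 2 hs), one_mul] at h
    exact h
  have hx2 : x ^ 2 ≠ 0 := pow_ne_zero 2 hx
  have hy2 : y ^ 2 ≠ 0 := pow_ne_zero 2 hy
  have key : ∀ a b, β a ((1 + (x ^ 2)⁻¹ - (y ^ 2)⁻¹) * b) = 1 := by
    intro a b
    have e1 : β ((1 + x ^ 2) * a) b = β a (b + (x ^ 2)⁻¹ * b) := by
      rw [add_mul, one_mul, hl, hadj x a b hx, hr]
    have e2 : β ((1 + x ^ 2) * a) b = β a ((y ^ 2)⁻¹ * b) := by
      rw [hxy, hadj y a b hy]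
    have e3 : (1 + (x ^ 2)⁻¹ - (y ^ 2)⁻¹) * b = (b + (x ^ 2)⁻¹ * b) + -((y ^ 2)⁻¹ * b) := by ring
    rw [e3, hr, hneg, ← e1, ← e2, mul_inv_cancel]
  have hw : (1 + (x ^ 2)⁻¹ - (y ^ 2)⁻¹) ≠ 0 := by
    intro h
    apply hτ
    have h1 : (1 + (x ^ 2)⁻¹ - (y ^ 2)⁻¹) * (x ^ 2 * y ^ 2) = (x ^ 2) ^ 2 + x ^ 2 + 1 := by
      have : (1 + (x ^ 2)⁻¹ - (y ^ 2)⁻¹) * (x ^ 2 * y ^ 2)
          = x ^ 2 * y ^ 2 + ((x ^ 2)⁻¹ * x ^ 2) * y ^ 2 - ((y ^ 2)⁻¹ * y ^ 2) * x ^ 2 := by ring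
      rw [this, inv_mul_cancel₀ hx2, inv_mul_cancel₀ hy2, ← hxy]
      ring
    rw [← h1, h, zero_mul]
  intro a b
  have h := key a ((1 + (x ^ 2)⁻¹ - (y ^ 2)⁻¹)⁻¹ * b)
  rw [← mul_assoc, mul_inv_cancel₀ hw, one_mul] at h
  exact h

/-- the twisted form lemma -/
theorem biadd_trivial2 (γ : F → F → Z)
    (hl : ∀ a a' b, γ (a + a') b = γ a b * γ a' b)
    (hr : ∀ a b b', γ a (b + b') = γ a b * γ a b')
    (l₁ k₁ k₂ : F) (hk₁ : k₁ ≠ 0) (hk₂ : k₂ ≠ 0)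
    (hinv1 : ∀ a b, γ (l₁ * a) (k₁ * b) = γ a b)
    (hinv2 : ∀ a b, γ ((1 + l₁) * a) (k₂ * b) = γ a b)
    (hw : 1 + k₁⁻¹ - k₂⁻¹ ≠ 0) :
    ∀ a b, γ a b = 1 := by
  have hneg := biadd_neg_right γ hr
  have hadj1 : ∀ a b, γ (l₁ * a) b = γ a (k₁⁻¹ * b) := by
    intro a b
    have h := hinv1 a (k₁⁻¹ * b)
    rw [← mul_assoc, mul_inv_cancel₀ hk₁, one_mul] at h
    exact h
  have hadj2 : ∀ a b, γ ((1 + l₁) * a) b = γ a (k₂⁻¹ * b) := by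
    intro a b
    have h := hinv2 a (k₂⁻¹ * b)
    rw [← mul_assoc, mul_inv_cancel₀ hk₂, one_mul] at h
    exact h
  have key : ∀ a b, γ a ((1 + k₁⁻¹ - k₂⁻¹) * b) = 1 := by
    intro a b
    have e1 : γ ((1 + l₁) * a) b = γ a (b + k₁⁻¹ * b) := by
      rw [add_mul, one_mul, hl, hadj1, hr]
    have e2 : γ ((1 + l₁) * a) b = γ a (k₂⁻¹ * b) := hadj2 a b
    have e3 : (1 + k₁⁻¹ - k₂⁻¹) * b = (b + k₁⁻¹ * b) + -(k₂⁻¹ * b) := by ring
    rw [e3, hr, hneg, ← e1, ← e2, mul_inv_cancel]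
  intro a b
  have h := key a ((1 + k₁⁻¹ - k₂⁻¹)⁻¹ * b)
  rw [← mul_assoc, mul_inv_cancel₀ hw, one_mul] at h
  exact h

end biadd

section exist

variable {F : Type*} [Field F] [Fintype F]

theorem exists_param_suz (h2 : (2 : F) = 0) (r : ℕ) (hr : 1 ≤ r) (hq : 2 * r + 6 < Fintype.card F)
    (hinj : ∀ z : F, z ^ r = 1 → z = 1) :
    ∃ z : F, z ≠ 0 ∧ 1 + z ≠ 0 ∧ z ^ r * z ^ 2 ≠ 0 ∧ (1 + z ^ r) * (1 + z) ^ 2 ≠ 0 ∧
      1 + (z ^ r * z ^ 2)⁻¹ - ((1 + z ^ r) * (1 + z) ^ 2)⁻¹ ≠ 0 := by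
  have hdeg : (X * (X + 1) * (X ^ (2 * r + 4) + X ^ (2 * r + 2) + X ^ (r + 4) + X ^ (r + 2) + X ^ r
      + X ^ 2 + 1) : F[X]).natDegree ≤ 2 * r + 6 := by
    compute_degree
    all_goals omega
  have hP : (X ^ (2 * r + 4) + X ^ (2 * r + 2) + X ^ (r + 4) + X ^ (r + 2) + X ^ r
      + X ^ 2 + 1 : F[X]) ≠ 0 := by
    intro h
    have hc : (X ^ (2 * r + 4) + X ^ (2 * r + 2) + X ^ (r + 4) + X ^ (r + 2) + X ^ r
      + X ^ 2 + 1 : F[X]).coeff (2 * r + 4) = 1 := by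
      simp only [coeff_add, coeff_X_pow, coeff_one]
      rw [if_pos trivial, if_neg (by omega), if_neg (by omega), if_neg (by omega),
        if_neg (by omega), if_neg (by omega), if_neg (by omega)]
      simp
    rw [h, coeff_zero] at hc
    exact zero_ne_one hc
  have hne : (X * (X + 1) * (X ^ (2 * r + 4) + X ^ (2 * r + 2) + X ^ (r + 4) + X ^ (r + 2) + X ^ r
      + X ^ 2 + 1) : F[X]) ≠ 0 := by
    apply mul_ne_zero (mul_ne_zero X_ne_zero _) hP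
    intro h
    have hc : (X + 1 : F[X]).coeff 1 = 1 := by
      simp [coeff_X, coeff_one]
    rw [h, coeff_zero] at hc
    exact zero_ne_one hc
  obtain ⟨z, hz⟩ := exists_eval_ne_zero _ hne (lt_of_le_of_lt hdeg hq)
  simp only [eval_mul, eval_add, eval_pow, eval_X, eval_one] at hz
  have hz0 : z ≠ 0 := by
    intro h; apply hz; rw [h]; ring
  have hz1 : 1 + z ≠ 0 := by
    intro h; apply hz
    have : z + 1 = 0 := by rw [add_comm]; exact h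
    rw [this]; ring
  have hP' : z ^ (2 * r + 4) + z ^ (2 * r + 2) + z ^ (r + 4) + z ^ (r + 2) + z ^ r + z ^ 2 + 1 ≠ 0 := by
    intro h; apply hz; rw [h]; ring
  have hk1 : z ^ r * z ^ 2 ≠ 0 := mul_ne_zero (pow_ne_zero r hz0) (pow_ne_zero 2 hz0)
  have hzr : 1 + z ^ r ≠ 0 := by
    intro h
    have hzr' : z ^ r = 1 := by linear_combination h - h2
    have hz' : z = 1 := hinj z hzr'
    apply hz1
    rw [hz']
    linear_combination h2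
  have hk2 : (1 + z ^ r) * (1 + z) ^ 2 ≠ 0 := mul_ne_zero hzr (pow_ne_zero 2 hz1)
  refine ⟨z, hz0, hz1, hk1, hk2, ?_⟩
  intro h
  apply hP'
  have h1 : (1 + (z ^ r * z ^ 2)⁻¹ - ((1 + z ^ r) * (1 + z) ^ 2)⁻¹) *
      ((z ^ r * z ^ 2) * ((1 + z ^ r) * (1 + z) ^ 2))
      = (z ^ r * z ^ 2) * ((1 + z ^ r) * (1 + z) ^ 2) + ((1 + z ^ r) * (1 + z) ^ 2)
        - (z ^ r * z ^ 2) := by
    have : (1 + (z ^ r * z ^ 2)⁻¹ - ((1 + z ^ r) * (1 + z) ^ 2)⁻¹) *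
        ((z ^ r * z ^ 2) * ((1 + z ^ r) * (1 + z) ^ 2))
        = (z ^ r * z ^ 2) * ((1 + z ^ r) * (1 + z) ^ 2)
          + ((z ^ r * z ^ 2)⁻¹ * (z ^ r * z ^ 2)) * ((1 + z ^ r) * (1 + z) ^ 2)
          - (((1 + z ^ r) * (1 + z) ^ 2)⁻¹ * ((1 + z ^ r) * (1 + z) ^ 2)) * (z ^ r * z ^ 2) := by ring
    rw [this, inv_mul_cancel₀ hk1, inv_mul_cancel₀ hk2]
    ring
  rw [h, zero_mul] at h1
  have h3 : z ^ (2 * r + 4) + z ^ (2 * r + 2) + z ^ (r + 4) + z ^ (r + 2) + z ^ r + z ^ 2 + 1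
      = (z ^ r * z ^ 2) * ((1 + z ^ r) * (1 + z) ^ 2) + ((1 + z ^ r) * (1 + z) ^ 2)
        - (z ^ r * z ^ 2) - 2 * (z * (1 + z ^ r) * (z ^ r * z ^ 2 + 1)) := by
    ring
  rw [h3, ← h1, h2]
  ring

end exist

end Cfsg.Agent.Lib.Helper1.SM3
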