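import Mathlib
import Cfsg.Agent.Lib.Helper1.SM3a
import Cfsg.Agent.Lib.Helper1.SM2b
import Cfsg.Agent.Lib.Helper1.CoprimeAbelian

/-!
Schur multiplier of the Suzuki groups, part b: the abstract core.

`G` contains a "Suzuki Borel subgroup": elements `u a b` (`a b : F`, `char F = 2`) with
`u a b * u c d = u (a + c) (b + d + θ a * c)` and a torus `h : Fˣ →* G` with
`h z * u a b * (h z)⁻¹ = u (θ z * a) (θ z * z ^ 2 * b)`, where `θ x = x ^ r`.  For a central extension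
`σ : Γ →* G` with kernel of exponent `2`, no nontrivial element of the kernel lies in the commutator
subgroup of the preimage of `U = {u a b}` (for `2 r + 6 < |F|`).
-/

set_option autoImplicit false
set_option maxHeartbeats 4000000
set_option linter.unusedVariables false
set_option linter.unusedSectionVars false
set_option linter.style.longLine false
set_option linter.unusedSimpArgs false

namespace Cfsg.Agent.Lib.Helper1.SM3

open Cfsg.Agent.Lib.Helper1.SM2 Cfsg.Agent.Lib.Helper4.Stem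
open scoped commutatorElement IsMulCommutative

section gen

variable {Γ G : Type*} [Group Γ] [Group G]

theorem comm_eq_of_map_eq_gen (σ : Γ →* G) (hc : σ.ker ≤ Subgroup.center Γ) {x x' y y' : Γ}
    (hx : σ x = σ x') (hy : σ y = σ y') : ⁅x, y⁆ = ⁅x', y'⁆ := by
  have hn : ∀ {u u' : Γ}, σ u = σ u' → ∀ g : Γ, g * (u'⁻¹ * u) = (u'⁻¹ * u) * g := by
    intro u u' h g
    have hk : u'⁻¹ * u ∈ σ.ker := by
      rw [MonoidHom.mem_ker, map_mul, map_inv, h, inv_mul_cancel]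
    exact Subgroup.mem_center_iff.mp (hc hk) g
  have e1 : x = x' * (x'⁻¹ * x) := by group
  have e2 : y = y' * (y'⁻¹ * y) := by group
  rw [e1, comm_mul_central_left _ _ _ (hn hx), e2, comm_mul_central_right _ _ _ (hn hy)]

theorem comm_symm_one {x y : Γ} (h : ⁅x, y⁆ = 1) : ⁅y, x⁆ = 1 := by
  rw [commutatorElement_eq_one_iff_commute] at h ⊢
  exact h.symm

/-- `⁅x * w, y⁆ = ⁅x, y⁆` when `w` commutes with `y` -/
theorem comm_mul_left_of_comm (x w y : Γ) (h : ⁅w, y⁆ = 1) : ⁅x * w, y⁆ = ⁅x, y⁆ := by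
  have h1 : ⁅x * w, y⁆ = x * ⁅w, y⁆ * x⁻¹ * ⁅x, y⁆ := by
    simp only [commutatorElement_def]; group
  rw [h1, h, mul_one, mul_inv_cancel, one_mul]

theorem comm_mul_right_of_comm (x y w : Γ) (h : ⁅x, w⁆ = 1) : ⁅x, y * w⁆ = ⁅x, y⁆ := by
  have h1 : ⁅x, y * w⁆ = ⁅x, y⁆ * (y * ⁅x, w⁆ * y⁻¹) := by
    simp only [commutatorElement_def]; group
  rw [h1, h, mul_one, mul_inv_cancel, mul_one]

end gen

section core

variable {Γ G : Type*} [Group Γ] [Group G] {F : Type*} [Field F]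

/-- the data of a Suzuki Borel subgroup in `G` and a central extension of `G` with chosen lifts -/
structure SuzSetup (σ : Γ →* G) (θ : F → F) (u : F → F → G) (h : Fˣ →* G) (f : F → F → Γ) : Prop where
  hc : σ.ker ≤ Subgroup.center Γ
  u_mul : ∀ a b c d, u a b * u c d = u (a + c) (b + d + θ a * c)
  h_conj : ∀ (z : Fˣ) (a b : F), h z * u a b * (h z)⁻¹ = u (θ z * a) (θ z * (z : F) ^ 2 * b)
  hf : ∀ a b, σ (f a b) = u a b
  lift_h : ∀ z, ∃ t, σ t = h z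
  θ_zero : θ 0 = 0

namespace SuzSetup

variable {σ : Γ →* G} {θ : F → F} {u : F → F → G} {h : Fˣ →* G} {f : F → F → Γ}

theorem u_zero_mul (S : SuzSetup σ θ u h f) (b b' : F) : u 0 b * u 0 b' = u 0 (b + b') := by
  rw [S.u_mul, S.θ_zero, zero_mul, add_zero, add_zero]

theorem u_zero_comm (S : SuzSetup σ θ u h f) (b c d : F) : u 0 b * u c d = u c d * u 0 b := by
  rw [S.u_mul, S.u_mul, S.θ_zero, zero_mul, mul_zero, add_zero, add_zero, zero_add, add_zero,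
    add_comm b d]

theorem u_split (S : SuzSetup σ θ u h f) (a d : F) : u a 0 * u 0 d = u a d := by
  rw [S.u_mul, mul_zero, add_zero, add_zero, zero_add]

theorem u_zero_zero (S : SuzSetup σ θ u h f) : u 0 0 = 1 := by
  have h1 := S.u_zero_mul 0 0
  rw [add_zero] at h1
  exact mul_eq_left.mp h1

theorem h_conj_zero (S : SuzSetup σ θ u h f) (z : Fˣ) (b : F) :
    h z * u 0 b * (h z)⁻¹ = u 0 (θ z * (z : F) ^ 2 * b) := by
  rw [S.h_conj, mul_zero]

theorem h_conj_first (S : SuzSetup σ θ u h f) (z : Fˣ) (a : F) :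
    h z * u a 0 * (h z)⁻¹ = u (θ z * a) 0 := by
  rw [S.h_conj, mul_zero]

theorem comm_eq (S : SuzSetup σ θ u h f) {x x' y y' : Γ} (hx : σ x = σ x') (hy : σ y = σ y') :
    ⁅x, y⁆ = ⁅x', y'⁆ :=
  comm_eq_of_map_eq_gen σ S.hc hx hy

/-- central: a commutator mapping to `1` -/
theorem central_of_map (S : SuzSetup σ θ u h f) {c : Γ} (hcm : σ c = 1) (g : Γ) : g * c = c * g :=
  Subgroup.mem_center_iff.mp (S.hc (MonoidHom.mem_ker.mpr hcm)) g

/-- Step 1: the preimage of the centre of `U` is abelian -/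
theorem step1 (S : SuzSetup σ θ u h f) [Fintype F] (h2 : (2 : F) = 0) (hq : 8 ≤ Fintype.card F)
    (hN : ∀ l : F, l ≠ 0 → ∃ z : Fˣ, θ z * (z : F) ^ 2 = l) :
    ∀ b b', ⁅f 0 b, f 0 b'⁆ = 1 := by
  have hmap : ∀ b b', σ ⁅f 0 b, f 0 b'⁆ = 1 := by
    intro b b'
    rw [map_commutatorElement, S.hf, S.hf, commutatorElement_eq_one_iff_commute]
    exact S.u_zero_comm b 0 b'
  have hcen : ∀ b b' (g : Γ), g * ⁅f 0 b, f 0 b'⁆ = ⁅f 0 b, f 0 b'⁆ * g :=
    fun b b' g => S.central_of_map (hmap b b') g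
  obtain ⟨x, y, hx, hy, hxy, hτ⟩ := exists_param_even h2 hq
  apply biadd_trivial_grp (fun b b' => ⁅f 0 b, f 0 b'⁆) _ _ _ x y hx hy hxy hτ
  · intro a a' b
    show ⁅f 0 (a + a'), f 0 b⁆ = ⁅f 0 a, f 0 b⁆ * ⁅f 0 a', f 0 b⁆
    rw [← comm_mul_left_of_central _ _ _ (hcen a' b)]
    apply S.comm_eq _ rfl
    rw [map_mul, S.hf, S.hf, S.hf, S.u_zero_mul]
  · intro a b b'
    show ⁅f 0 a, f 0 (b + b')⁆ = ⁅f 0 a, f 0 b⁆ * ⁅f 0 a, f 0 b'⁆
    rw [← comm_mul_right_of_central _ _ _ (hcen a b')]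
    apply S.comm_eq rfl
    rw [map_mul, S.hf, S.hf, S.hf, S.u_zero_mul]
  · intro s a b hs
    show ⁅f 0 (s ^ 2 * a), f 0 (s ^ 2 * b)⁆ = ⁅f 0 a, f 0 b⁆
    obtain ⟨z, hz⟩ := hN (s ^ 2) (pow_ne_zero 2 hs)
    obtain ⟨t, ht⟩ := S.lift_h z
    have e1 : ⁅f 0 (s ^ 2 * a), f 0 (s ^ 2 * b)⁆ = ⁅t * f 0 a * t⁻¹, t * f 0 b * t⁻¹⁆ := by
      apply S.comm_eq
      · rw [map_mul, map_mul, map_inv, ht, S.hf, S.hf, S.h_conj_zero, hz]
      · rw [map_mul, map_mul, map_inv, ht, S.hf, S.hf, S.h_conj_zero, hz]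
    rw [e1, comm_conj, hcen a b t, mul_inv_cancel_right]

/-- Step 2: the preimage of the centre of `U` is central in the preimage of `U` -/
theorem step2 (S : SuzSetup σ θ u h f) [Fintype F] (h2 : (2 : F) = 0) (r : ℕ) (hr : 1 ≤ r)
    (hθ : ∀ x, θ x = x ^ r) (hθadd : ∀ x y, θ (x + y) = θ x + θ y)
    (hq : 2 * r + 6 < Fintype.card F) (hinj : ∀ z : F, z ^ r = 1 → z = 1)
    (h1 : ∀ b b', ⁅f 0 b, f 0 b'⁆ = 1) :
    ∀ a d b, ⁅f a d, f 0 b⁆ = 1 := by
  -- reduction to `d = 0`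
  have red : ∀ a d b, ⁅f a d, f 0 b⁆ = ⁅f a 0, f 0 b⁆ := by
    intro a d b
    have e : ⁅f a d, f 0 b⁆ = ⁅f a 0 * f 0 d, f 0 b⁆ := by
      apply S.comm_eq _ rfl
      rw [map_mul, S.hf, S.hf, S.hf, S.u_split]
    rw [e, comm_mul_left_of_comm _ _ _ (h1 d b)]
  have hmap : ∀ a b, σ ⁅f a 0, f 0 b⁆ = 1 := by
    intro a b
    rw [map_commutatorElement, S.hf, S.hf, commutatorElement_eq_one_iff_commute]
    exact (S.u_zero_comm b a 0).symm
  have hcen : ∀ a b (g : Γ), g * ⁅f a 0, f 0 b⁆ = ⁅f a 0, f 0 b⁆ * g :=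
    fun a b g => S.central_of_map (hmap a b) g
  obtain ⟨z, hz0, hz1, hk1, hk2, hw⟩ := exists_param_suz h2 r hr hq hinj
  have key : ∀ a b, ⁅f a 0, f 0 b⁆ = 1 := by
    -- invariance under a torus element
    have hinvz : ∀ (z' : Fˣ) (a b : F),
        ⁅f (θ z' * a) 0, f 0 (θ z' * (z' : F) ^ 2 * b)⁆ = ⁅f a 0, f 0 b⁆ := by
      intro z' a b
      obtain ⟨t, ht⟩ := S.lift_h z'
      have e1 : ⁅f (θ z' * a) 0, f 0 (θ z' * (z' : F) ^ 2 * b)⁆
          = ⁅t * f a 0 * t⁻¹, t * f 0 b * t⁻¹⁆ := by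
        apply S.comm_eq
        · rw [map_mul, map_mul, map_inv, ht, S.hf, S.hf, S.h_conj_first]
        · rw [map_mul, map_mul, map_inv, ht, S.hf, S.hf, S.h_conj_zero]
      rw [e1, comm_conj, hcen a b t, mul_inv_cancel_right]
    apply biadd_trivial2 (fun a b => ⁅f a 0, f 0 b⁆) _ _ (z ^ r) (z ^ r * z ^ 2)
      ((1 + z ^ r) * (1 + z) ^ 2) hk1 hk2 _ _ hw
    · intro a a' b
      show ⁅f (a + a') 0, f 0 b⁆ = ⁅f a 0, f 0 b⁆ * ⁅f a' 0, f 0 b⁆
      rw [← comm_mul_left_of_central _ _ _ (hcen a' b), ← red (a + a') (θ a * a') b]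
      apply S.comm_eq _ rfl
      rw [map_mul, S.hf, S.hf, S.hf, S.u_mul, add_zero, zero_add]
    · intro a b b'
      show ⁅f a 0, f 0 (b + b')⁆ = ⁅f a 0, f 0 b⁆ * ⁅f a 0, f 0 b'⁆
      rw [← comm_mul_right_of_central _ _ _ (hcen a b')]
      apply S.comm_eq rfl
      rw [map_mul, S.hf, S.hf, S.hf, S.u_zero_mul]
    · intro a b
      have := hinvz (Units.mk0 z hz0) a b
      rw [Units.val_mk0, hθ] at this
      exact this
    · intro a b
      have := hinvz (Units.mk0 (1 + z) hz1) a b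
      rw [Units.val_mk0, hθadd, hθ 1, one_pow, hθ z] at this
      exact this
  intro a d b
  rw [red, key]

end SuzSetup

end core

end Cfsg.Agent.Lib.Helper1.SM3
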