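import Mathlib
import Cfsg.Agent.Lib.Helper1.SM3a

/-!
Schur multiplier of the Ree groups `²G₂(q)`, part a: pure algebra.

* `exists_param_ree`: for `2 r + 6 < |F|` and `(1 + z)^r = 1 + z^r`, some `z ≠ 0, -1` has
  `1 + (z^2 z^r)⁻¹ - ((1 + z)^2 (1 + z^r))⁻¹ ≠ 0`;
* `arith_ree`: `2 * 3^(m+1) + 6 < 3^(2m+1)` for `m ≥ 1`.
-/

set_option autoImplicit false
set_option maxHeartbeats 4000000
set_option linter.unusedVariables false
set_option linter.unusedSectionVars false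
set_option linter.style.longLine false
set_option linter.unusedSimpArgs false

namespace Cfsg.Agent.Lib.Helper1.SM4

open Polynomial Cfsg.Agent.Lib.Helper1.SM2 Cfsg.Agent.Lib.Helper1.SM3

section exist

variable {F : Type*} [Field F] [Fintype F]

theorem exists_param_ree (r : ℕ) (hr : 1 ≤ r) (hq : 2 * r + 6 < Fintype.card F)
    (hfrob : ∀ z : F, (1 + z) ^ r = 1 + z ^ r) :
    ∃ z : F, z ≠ 0 ∧ 1 + z ≠ 0 ∧ z ^ 2 * z ^ r ≠ 0 ∧ (1 + z) ^ 2 * (1 + z ^ r) ≠ 0 ∧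
      1 + (z ^ 2 * z ^ r)⁻¹ - ((1 + z) ^ 2 * (1 + z ^ r))⁻¹ ≠ 0 := by
  have hdeg : (X * (X + 1) * (X ^ (2 * r + 4) + 2 * X ^ (2 * r + 3) + X ^ (2 * r + 2) + X ^ (r + 4)
      + 2 * X ^ (r + 3) + X ^ (r + 2) + 2 * X ^ (r + 1) + X ^ r + X ^ 2 + 2 * X + 1) : F[X]).natDegree
      ≤ 2 * r + 6 := by
    compute_degree
    all_goals omega
  have hP : (X ^ (2 * r + 4) + 2 * X ^ (2 * r + 3) + X ^ (2 * r + 2) + X ^ (r + 4)
      + 2 * X ^ (r + 3) + X ^ (r + 2) + 2 * X ^ (r + 1) + X ^ r + X ^ 2 + 2 * X + 1 : F[X]) ≠ 0 := by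
    intro h
    have hc : (X ^ (2 * r + 4) + 2 * X ^ (2 * r + 3) + X ^ (2 * r + 2) + X ^ (r + 4)
      + 2 * X ^ (r + 3) + X ^ (r + 2) + 2 * X ^ (r + 1) + X ^ r + X ^ 2 + 2 * X + 1 : F[X]).coeff
        (2 * r + 4) = 1 := by
      have e2 : (2 : F[X]) = C (2 : F) := (map_ofNat C 2).symm
      rw [e2]
      simp only [coeff_add, coeff_X_pow, coeff_one, coeff_C_mul, coeff_X]
      rw [if_pos trivial, if_neg (by omega), if_neg (by omega), if_neg (by omega),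
        if_neg (by omega), if_neg (by omega), if_neg (by omega), if_neg (by omega),
        if_neg (by omega), if_neg (by omega), if_neg (by omega)]
      simp
    rw [h, coeff_zero] at hc
    exact zero_ne_one hc
  have hne : (X * (X + 1) * (X ^ (2 * r + 4) + 2 * X ^ (2 * r + 3) + X ^ (2 * r + 2) + X ^ (r + 4)
      + 2 * X ^ (r + 3) + X ^ (r + 2) + 2 * X ^ (r + 1) + X ^ r + X ^ 2 + 2 * X + 1) : F[X]) ≠ 0 := by
    apply mul_ne_zero (mul_ne_zero X_ne_zero _) hP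
    intro h
    have hc : (X + 1 : F[X]).coeff 1 = 1 := by
      simp [coeff_X, coeff_one]
    rw [h, coeff_zero] at hc
    exact zero_ne_one hc
  obtain ⟨z, hz⟩ := exists_eval_ne_zero _ hne (lt_of_le_of_lt hdeg hq)
  simp only [eval_mul, eval_add, eval_pow, eval_X, eval_one, eval_ofNat] at hz
  have hz0 : z ≠ 0 := by
    intro h; apply hz; rw [h]; ring
  have hz1 : 1 + z ≠ 0 := by
    intro h; apply hz
    have : z + 1 = 0 := by rw [add_comm]; exact h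
    rw [this]; ring
  have hP' : z ^ (2 * r + 4) + 2 * z ^ (2 * r + 3) + z ^ (2 * r + 2) + z ^ (r + 4)
      + 2 * z ^ (r + 3) + z ^ (r + 2) + 2 * z ^ (r + 1) + z ^ r + z ^ 2 + 2 * z + 1 ≠ 0 := by
    intro h; apply hz; rw [h]; ring
  have hk1 : z ^ 2 * z ^ r ≠ 0 := mul_ne_zero (pow_ne_zero 2 hz0) (pow_ne_zero r hz0)
  have hzr : 1 + z ^ r ≠ 0 := by
    rw [← hfrob]
    exact pow_ne_zero r hz1
  have hk2 : (1 + z) ^ 2 * (1 + z ^ r) ≠ 0 := mul_ne_zero (pow_ne_zero 2 hz1) hzr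
  refine ⟨z, hz0, hz1, hk1, hk2, ?_⟩
  intro h
  apply hP'
  have h1 : (1 + (z ^ 2 * z ^ r)⁻¹ - ((1 + z) ^ 2 * (1 + z ^ r))⁻¹) *
      ((z ^ 2 * z ^ r) * ((1 + z) ^ 2 * (1 + z ^ r)))
      = (z ^ 2 * z ^ r) * ((1 + z) ^ 2 * (1 + z ^ r)) + ((1 + z) ^ 2 * (1 + z ^ r))
        - (z ^ 2 * z ^ r) := by
    have : (1 + (z ^ 2 * z ^ r)⁻¹ - ((1 + z) ^ 2 * (1 + z ^ r))⁻¹) *
        ((z ^ 2 * z ^ r) * ((1 + z) ^ 2 * (1 + z ^ r)))
        = (z ^ 2 * z ^ r) * ((1 + z) ^ 2 * (1 + z ^ r))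
          + ((z ^ 2 * z ^ r)⁻¹ * (z ^ 2 * z ^ r)) * ((1 + z) ^ 2 * (1 + z ^ r))
          - (((1 + z) ^ 2 * (1 + z ^ r))⁻¹ * ((1 + z) ^ 2 * (1 + z ^ r))) * (z ^ 2 * z ^ r) := by ring
    rw [this, inv_mul_cancel₀ hk1, inv_mul_cancel₀ hk2]
    ring
  rw [h, zero_mul] at h1
  have h3 : z ^ (2 * r + 4) + 2 * z ^ (2 * r + 3) + z ^ (2 * r + 2) + z ^ (r + 4)
      + 2 * z ^ (r + 3) + z ^ (r + 2) + 2 * z ^ (r + 1) + z ^ r + z ^ 2 + 2 * z + 1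
      = (z ^ 2 * z ^ r) * ((1 + z) ^ 2 * (1 + z ^ r)) + ((1 + z) ^ 2 * (1 + z ^ r))
        - (z ^ 2 * z ^ r) := by
    ring
  rw [h3, ← h1]

end exist

theorem arith_ree (m : ℕ) (hm : 1 ≤ m) : 2 * 3 ^ (m + 1) + 6 < 3 ^ (2 * m + 1) := by
  obtain ⟨k, rfl⟩ : ∃ k, m = k + 1 := ⟨m - 1, by omega⟩
  have h1 : 3 ^ (2 * (k + 1) + 1) = 3 ^ (k + 1 + 1) * 3 ^ (k + 1) := by
    rw [← pow_add]; congr 1; omega
  have h2 : 3 ≤ 3 ^ (k + 1) := by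
    calc 3 = 3 ^ 1 := by norm_num
      _ ≤ 3 ^ (k + 1) := Nat.pow_le_pow_right (by norm_num) (by omega)
  have h3 : 9 ≤ 3 ^ (k + 1 + 1) := by
    calc 9 = 3 ^ 2 := by norm_num
      _ ≤ 3 ^ (k + 1 + 1) := Nat.pow_le_pow_right (by norm_num) (by omega)
  rw [h1]
  nlinarith

end Cfsg.Agent.Lib.Helper1.SM4
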