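import Mathlib
import Cfsg.Agent.Lib.Helper1.SM4a
import Cfsg.Agent.Lib.Helper1.SM3b

/-!
Schur multiplier of the Ree groups `²G₂(q)`, part b: the abstract core, steps 1-4.

`G` contains a "Ree Borel subgroup": elements `u t a v` (`t a v : F`) with
`u t a v * u t' a' v' = u (t + t') (a + a' - t θ t') (v + v' - a t' + t θ t' t' - t² θ t')` and a torus
`h : Fˣ →* G` with `h z * u t a v * (h z)⁻¹ = u (z t) (z θ z a) (z² θ z v)`.  For a central extension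
`σ : Γ →* G` the preimage of `{u 0 a v}` is abelian and the preimage of `{u 0 0 v}` is central in the
preimage of `{u t a v}`.
-/

set_option autoImplicit false
set_option maxHeartbeats 4000000
set_option linter.unusedVariables false
set_option linter.unusedSectionVars false
set_option linter.style.longLine false
set_option linter.unusedSimpArgs false

namespace Cfsg.Agent.Lib.Helper1.SM4

open Cfsg.Agent.Lib.Helper1.SM2 Cfsg.Agent.Lib.Helper1.SM3 Cfsg.Agent.Lib.Helper4.Stem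
open scoped commutatorElement IsMulCommutative

section core

variable {Γ G : Type*} [Group Γ] [Group G] {F : Type*} [Field F]

/-- the data of a Ree Borel subgroup in `G` and a central extension of `G` with chosen lifts -/
structure ReeSetup (σ : Γ →* G) (θ : F → F) (u : F → F → F → G) (h : Fˣ →* G)
    (f : F → F → F → Γ) : Prop where
  hc : σ.ker ≤ Subgroup.center Γ
  u_mul : ∀ t a v t' a' v', u t a v * u t' a' v'
    = u (t + t') (a + a' - t * θ t') (v + v' - a * t' + t * θ t' * t' - t ^ 2 * θ t')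
  h_conj : ∀ (z : Fˣ) (t a v : F), h z * u t a v * (h z)⁻¹
    = u ((z : F) * t) ((z : F) * θ z * a) ((z : F) ^ 2 * θ z * v)
  hf : ∀ t a v, σ (f t a v) = u t a v
  lift_h : ∀ z, ∃ τ, σ τ = h z
  θ_zero : θ 0 = 0

namespace ReeSetup

variable {σ : Γ →* G} {θ : F → F} {u : F → F → F → G} {h : Fˣ →* G} {f : F → F → F → Γ}

theorem u2_mul (S : ReeSetup σ θ u h f) (a v a' v' : F) :
    u 0 a v * u 0 a' v' = u 0 (a + a') (v + v') := by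
  rw [S.u_mul, S.θ_zero]; congr 1 <;> ring

theorem u3_mul_left (S : ReeSetup σ θ u h f) (w t a v : F) :
    u 0 0 w * u t a v = u t a (w + v) := by
  rw [S.u_mul]; congr 1 <;> ring

theorem u3_mul_right (S : ReeSetup σ θ u h f) (t a v w : F) :
    u t a v * u 0 0 w = u t a (v + w) := by
  rw [S.u_mul, S.θ_zero]; congr 1 <;> ring

theorem u_split (S : ReeSetup σ θ u h f) (t a v : F) : u t 0 0 * u 0 a v = u t a v := by
  rw [S.u_mul, S.θ_zero]; congr 1 <;> ring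

theorem u2_split (S : ReeSetup σ θ u h f) (a v : F) : u 0 a 0 * u 0 0 v = u 0 a v := by
  rw [S.u2_mul]; congr 1 <;> ring

theorem u_zero (S : ReeSetup σ θ u h f) : u 0 0 0 = 1 := by
  have h1 := S.u2_mul 0 0 0 0
  rw [add_zero] at h1
  exact mul_eq_left.mp h1

theorem u_mul_neg (S : ReeSetup σ θ u h f) (t a v a₁ v₁ : F) :
    ∃ A V, u t a v * u (-t) a₁ v₁ = u 0 A V :=
  ⟨_, _, by rw [S.u_mul, add_neg_cancel]⟩

theorem u_shift (S : ReeSetup σ θ u h f) (t a v a₁ v₁ : F) :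
    u t a v * u 0 (a₁ - a) (v₁ - v) = u t a₁ v₁ := by
  rw [S.u_mul, S.θ_zero]; congr 1 <;> ring

theorem u_add (S : ReeSetup σ θ u h f) (t t' : F) :
    u t 0 0 * u t' 0 0 = u (t + t') 0 0 * u 0 (-(t * θ t')) (t * θ t' * t' - t ^ 2 * θ t') := by
  rw [S.u_mul, S.u_mul, S.θ_zero]; congr 1 <;> ring

theorem u_comm (S : ReeSetup σ θ u h f) (t a v t' a' v' : F) :
    ⁅u t a v, u t' a' v'⁆ = u 0 (t' * θ t - t * θ t')
      (a' * t - a * t' - 2 * t ^ 2 * θ t' + 2 * t' ^ 2 * θ t) := by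
  have hxy : u t a v * u t' a' v' = u 0 (t' * θ t - t * θ t')
      (a' * t - a * t' - 2 * t ^ 2 * θ t' + 2 * t' ^ 2 * θ t) * (u t' a' v' * u t a v) := by
    rw [S.u_mul, S.u_mul, S.u_mul]
    congr 1 <;> ring
  rw [commutatorElement_def, hxy]
  group

theorem u2_comm (S : ReeSetup σ θ u h f) (a v a' v' : F) :
    u 0 a v * u 0 a' v' = u 0 a' v' * u 0 a v := by
  rw [S.u2_mul, S.u2_mul, add_comm a a', add_comm v v']

theorem u3_comm (S : ReeSetup σ θ u h f) (w t a v : F) :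
    u 0 0 w * u t a v = u t a v * u 0 0 w := by
  rw [S.u3_mul_left, S.u3_mul_right, add_comm]

theorem comm_eq (S : ReeSetup σ θ u h f) {x x' y y' : Γ} (hx : σ x = σ x') (hy : σ y = σ y') :
    ⁅x, y⁆ = ⁅x', y'⁆ :=
  comm_eq_of_map_eq_gen σ S.hc hx hy

theorem central_of_map (S : ReeSetup σ θ u h f) {c : Γ} (hcm : σ c = 1) (g : Γ) : g * c = c * g :=
  Subgroup.mem_center_iff.mp (S.hc (MonoidHom.mem_ker.mpr hcm)) g

theorem conj_map (S : ReeSetup σ θ u h f) {τ x : Γ} {z : Fˣ} {t a v : F} (hτ : σ τ = h z)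
    (hx : σ x = u t a v) :
    σ (τ * x * τ⁻¹) = u ((z : F) * t) ((z : F) * θ z * a) ((z : F) ^ 2 * θ z * v) := by
  rw [map_mul, map_mul, map_inv, hτ, hx, S.h_conj]

/-- Step 1: the preimage of `{u 0 0 v}` is abelian -/
theorem step1 (S : ReeSetup σ θ u h f) [Fintype F] (h2 : (2 : F) ≠ 0) (hq : 14 ≤ Fintype.card F)
    (hN : ∀ l : F, l ≠ 0 → ∃ z : Fˣ, (z : F) ^ 2 * θ z = l) :
    ∀ v v', ⁅f 0 0 v, f 0 0 v'⁆ = 1 := by
  have hmap : ∀ v v', σ ⁅f 0 0 v, f 0 0 v'⁆ = 1 := by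
    intro v v'
    rw [map_commutatorElement, S.hf, S.hf, commutatorElement_eq_one_iff_commute]
    exact S.u3_comm v 0 0 v'
  have hcen : ∀ v v' (g : Γ), g * ⁅f 0 0 v, f 0 0 v'⁆ = ⁅f 0 0 v, f 0 0 v'⁆ * g :=
    fun v v' g => S.central_of_map (hmap v v') g
  obtain ⟨x, y, hx, hy, hxy, hτ⟩ := exists_param_odd h2 hq
  apply biadd_trivial_grp (fun v v' => ⁅f 0 0 v, f 0 0 v'⁆) _ _ _ x y hx hy hxy hτ
  · intro a a' b
    show ⁅f 0 0 (a + a'), f 0 0 b⁆ = ⁅f 0 0 a, f 0 0 b⁆ * ⁅f 0 0 a', f 0 0 b⁆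
    rw [← comm_mul_left_of_central _ _ _ (hcen a' b)]
    apply S.comm_eq _ rfl
    rw [map_mul, S.hf, S.hf, S.hf, S.u3_mul_left]
  · intro a b b'
    show ⁅f 0 0 a, f 0 0 (b + b')⁆ = ⁅f 0 0 a, f 0 0 b⁆ * ⁅f 0 0 a, f 0 0 b'⁆
    rw [← comm_mul_right_of_central _ _ _ (hcen a b')]
    apply S.comm_eq rfl
    rw [map_mul, S.hf, S.hf, S.hf, S.u3_mul_left]
  · intro s a b hs
    show ⁅f 0 0 (s ^ 2 * a), f 0 0 (s ^ 2 * b)⁆ = ⁅f 0 0 a, f 0 0 b⁆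
    obtain ⟨z, hz⟩ := hN (s ^ 2) (pow_ne_zero 2 hs)
    obtain ⟨t, ht⟩ := S.lift_h z
    have e1 : ⁅f 0 0 (s ^ 2 * a), f 0 0 (s ^ 2 * b)⁆ = ⁅t * f 0 0 a * t⁻¹, t * f 0 0 b * t⁻¹⁆ := by
      apply S.comm_eq
      · rw [S.conj_map ht (S.hf 0 0 a), S.hf, mul_zero, mul_zero, hz]
      · rw [S.conj_map ht (S.hf 0 0 b), S.hf, mul_zero, mul_zero, hz]
    rw [e1, comm_conj, hcen a b t, mul_inv_cancel_right]

/-- Step 2: `{u 0 a 0}` against `{u 0 0 v}`, by the involution of the torus -/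
theorem step2 (S : ReeSetup σ θ u h f) (h3 : (3 : F) = 0) (hθm : θ (-1) = -1) :
    ∀ a v, ⁅f 0 a 0, f 0 0 v⁆ = 1 := by
  have hmap : ∀ a v, σ ⁅f 0 a 0, f 0 0 v⁆ = 1 := by
    intro a v
    rw [map_commutatorElement, S.hf, S.hf, commutatorElement_eq_one_iff_commute]
    exact (S.u3_comm v 0 a 0).symm
  have hcen : ∀ a v (g : Γ), g * ⁅f 0 a 0, f 0 0 v⁆ = ⁅f 0 a 0, f 0 0 v⁆ * g :=
    fun a v g => S.central_of_map (hmap a v) g
  have hr : ∀ a v v', ⁅f 0 a 0, f 0 0 (v + v')⁆ = ⁅f 0 a 0, f 0 0 v⁆ * ⁅f 0 a 0, f 0 0 v'⁆ := by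
    intro a v v'
    rw [← comm_mul_right_of_central _ _ _ (hcen a v')]
    apply S.comm_eq rfl
    rw [map_mul, S.hf, S.hf, S.hf, S.u3_mul_left]
  have hneg := biadd_neg_right (fun a v => ⁅f 0 a 0, f 0 0 v⁆) hr
  have hzero := biadd_zero_right (fun a v => ⁅f 0 a 0, f 0 0 v⁆) hr
  intro a v
  obtain ⟨τ, hτ⟩ := S.lift_h (-1)
  have hm1 : (((-1 : Fˣ) : Fˣ) : F) = -1 := by simp
  have e1 : ⁅f 0 a 0, f 0 0 (-v)⁆ = ⁅τ * f 0 a 0 * τ⁻¹, τ * f 0 0 v * τ⁻¹⁆ := by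
    apply S.comm_eq
    · rw [S.conj_map hτ (S.hf 0 a 0), S.hf, hm1, hθm]
      congr 1 <;> ring
    · rw [S.conj_map hτ (S.hf 0 0 v), S.hf, hm1, hθm]
      congr 1 <;> ring
  have e2 : ⁅f 0 a 0, f 0 0 (-v)⁆ = ⁅f 0 a 0, f 0 0 v⁆ := by
    rw [e1, comm_conj, hcen a v τ, mul_inv_cancel_right]
  have e3 : (⁅f 0 a 0, f 0 0 v⁆)⁻¹ = ⁅f 0 a 0, f 0 0 v⁆ := by
    exact (hneg a v).symm.trans e2
  have e4 : ⁅f 0 a 0, f 0 0 v⁆ * ⁅f 0 a 0, f 0 0 v⁆ = 1 := by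
    nth_rewrite 1 [← e3]
    exact inv_mul_cancel _
  have e5 : ⁅f 0 a 0, f 0 0 (v + (v + v))⁆ = 1 := by
    have : v + (v + v) = 0 := by linear_combination v * h3
    rw [this]
    exact hzero a
  rw [hr, hr, e4, mul_one] at e5
  exact e5

/-- `{u 0 a w}` against `{u 0 0 v}` -/
theorem cen23 (S : ReeSetup σ θ u h f) (h1 : ∀ v v', ⁅f 0 0 v, f 0 0 v'⁆ = 1)
    (h2 : ∀ a v, ⁅f 0 a 0, f 0 0 v⁆ = 1) : ∀ a w v, ⁅f 0 a w, f 0 0 v⁆ = 1 := by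
  intro a w v
  have e : ⁅f 0 a w, f 0 0 v⁆ = ⁅f 0 a 0 * f 0 0 w, f 0 0 v⁆ := by
    apply S.comm_eq _ rfl
    rw [map_mul, S.hf, S.hf, S.hf, S.u2_split]
  rw [e, comm_mul_left_of_comm _ _ _ (h1 w v), h2]

/-- Step 3: `{u t 0 0}` against `{u 0 0 v}`, by the twisted form lemma -/
theorem step3 (S : ReeSetup σ θ u h f) [Fintype F] (r : ℕ) (hr : 1 ≤ r)
    (hθ : ∀ x, θ x = x ^ r) (hθadd : ∀ x y, θ (x + y) = θ x + θ y)
    (hq : 2 * r + 6 < Fintype.card F)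
    (h1 : ∀ v v', ⁅f 0 0 v, f 0 0 v'⁆ = 1) (h2 : ∀ a v, ⁅f 0 a 0, f 0 0 v⁆ = 1) :
    ∀ t v, ⁅f t 0 0, f 0 0 v⁆ = 1 := by
  have hmap : ∀ t v, σ ⁅f t 0 0, f 0 0 v⁆ = 1 := by
    intro t v
    rw [map_commutatorElement, S.hf, S.hf, commutatorElement_eq_one_iff_commute]
    exact (S.u3_comm v t 0 0).symm
  have hcen : ∀ t v (g : Γ), g * ⁅f t 0 0, f 0 0 v⁆ = ⁅f t 0 0, f 0 0 v⁆ * g :=
    fun t v g => S.central_of_map (hmap t v) g
  have hfrob : ∀ z : F, (1 + z) ^ r = 1 + z ^ r := by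
    intro z
    rw [← hθ, hθadd, hθ 1, one_pow, hθ z]
  obtain ⟨z, hz0, hz1, hk1, hk2, hw⟩ := exists_param_ree r hr hq hfrob
  have hinvz : ∀ (z' : Fˣ) (t v : F),
      ⁅f ((z' : F) * t) 0 0, f 0 0 ((z' : F) ^ 2 * θ z' * v)⁆ = ⁅f t 0 0, f 0 0 v⁆ := by
    intro z' t v
    obtain ⟨τ, hτ⟩ := S.lift_h z'
    have e1 : ⁅f ((z' : F) * t) 0 0, f 0 0 ((z' : F) ^ 2 * θ z' * v)⁆
        = ⁅τ * f t 0 0 * τ⁻¹, τ * f 0 0 v * τ⁻¹⁆ := by
      apply S.comm_eq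
      · rw [S.conj_map hτ (S.hf t 0 0), S.hf, mul_zero, mul_zero]
      · rw [S.conj_map hτ (S.hf 0 0 v), S.hf, mul_zero, mul_zero]
    rw [e1, comm_conj, hcen t v τ, mul_inv_cancel_right]
  apply biadd_trivial2 (fun t v => ⁅f t 0 0, f 0 0 v⁆) _ _ z (z ^ 2 * z ^ r)
    ((1 + z) ^ 2 * (1 + z ^ r)) hk1 hk2 _ _ hw
  · intro t t' v
    show ⁅f (t + t') 0 0, f 0 0 v⁆ = ⁅f t 0 0, f 0 0 v⁆ * ⁅f t' 0 0, f 0 0 v⁆
    rw [← comm_mul_left_of_central _ _ _ (hcen t' v)]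
    have e : ⁅f t 0 0 * f t' 0 0, f 0 0 v⁆
        = ⁅f (t + t') 0 0 * f 0 (-(t * θ t')) (t * θ t' * t' - t ^ 2 * θ t'), f 0 0 v⁆ := by
      apply S.comm_eq _ rfl
      rw [map_mul, map_mul, S.hf, S.hf, S.hf, S.hf, S.u_add]
    rw [e, comm_mul_left_of_comm _ _ _ (S.cen23 h1 h2 _ _ v)]
  · intro t v v'
    show ⁅f t 0 0, f 0 0 (v + v')⁆ = ⁅f t 0 0, f 0 0 v⁆ * ⁅f t 0 0, f 0 0 v'⁆
    rw [← comm_mul_right_of_central _ _ _ (hcen t v')]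
    apply S.comm_eq rfl
    rw [map_mul, S.hf, S.hf, S.hf, S.u3_mul_left]
  · intro t v
    have := hinvz (Units.mk0 z hz0) t v
    rw [Units.val_mk0, hθ] at this
    exact this
  · intro t v
    have := hinvz (Units.mk0 (1 + z) hz1) t v
    rw [Units.val_mk0, hθadd, hθ 1, one_pow, hθ z] at this
    exact this

/-- Step 4: the preimage of `{u 0 a 0}` is abelian -/
theorem step4 (S : ReeSetup σ θ u h f) [Fintype F] (h2 : (2 : F) ≠ 0) (hq : 14 ≤ Fintype.card F)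
    (hN : ∀ s : F, s ≠ 0 → ∃ z : Fˣ, (z : F) * θ z = s ^ 2) :
    ∀ a a', ⁅f 0 a 0, f 0 a' 0⁆ = 1 := by
  have hmap : ∀ a a', σ ⁅f 0 a 0, f 0 a' 0⁆ = 1 := by
    intro a a'
    rw [map_commutatorElement, S.hf, S.hf, commutatorElement_eq_one_iff_commute]
    exact S.u2_comm a 0 a' 0
  have hcen : ∀ a a' (g : Γ), g * ⁅f 0 a 0, f 0 a' 0⁆ = ⁅f 0 a 0, f 0 a' 0⁆ * g :=
    fun a a' g => S.central_of_map (hmap a a') g
  obtain ⟨x, y, hx, hy, hxy, hτ⟩ := exists_param_odd h2 hq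
  have hsum : ∀ a a' : F, u 0 a 0 * u 0 a' 0 = u 0 (a + a') 0 := by
    intro a a'
    rw [S.u2_mul, add_zero]
  apply biadd_trivial_grp (fun a a' => ⁅f 0 a 0, f 0 a' 0⁆) _ _ _ x y hx hy hxy hτ
  · intro a a' b
    show ⁅f 0 (a + a') 0, f 0 b 0⁆ = ⁅f 0 a 0, f 0 b 0⁆ * ⁅f 0 a' 0, f 0 b 0⁆
    rw [← comm_mul_left_of_central _ _ _ (hcen a' b)]
    apply S.comm_eq _ rfl
    rw [map_mul, S.hf, S.hf, S.hf, hsum]
  · intro a b b'
    show ⁅f 0 a 0, f 0 (b + b') 0⁆ = ⁅f 0 a 0, f 0 b 0⁆ * ⁅f 0 a 0, f 0 b' 0⁆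
    rw [← comm_mul_right_of_central _ _ _ (hcen a b')]
    apply S.comm_eq rfl
    rw [map_mul, S.hf, S.hf, S.hf, hsum]
  · intro s a b hs
    show ⁅f 0 (s ^ 2 * a) 0, f 0 (s ^ 2 * b) 0⁆ = ⁅f 0 a 0, f 0 b 0⁆
    obtain ⟨z, hz⟩ := hN s hs
    obtain ⟨t, ht⟩ := S.lift_h z
    have e1 : ⁅f 0 (s ^ 2 * a) 0, f 0 (s ^ 2 * b) 0⁆ = ⁅t * f 0 a 0 * t⁻¹, t * f 0 b 0 * t⁻¹⁆ := by
      apply S.comm_eq
      · rw [S.conj_map ht (S.hf 0 a 0), S.hf, mul_zero, mul_zero, hz]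
      · rw [S.conj_map ht (S.hf 0 b 0), S.hf, mul_zero, mul_zero, hz]
    rw [e1, comm_conj, hcen a b t, mul_inv_cancel_right]

/-- the preimage of `{u 0 a v}` is abelian -/
theorem ab2 (S : ReeSetup σ θ u h f) (h1 : ∀ v v', ⁅f 0 0 v, f 0 0 v'⁆ = 1)
    (h2 : ∀ a v, ⁅f 0 a 0, f 0 0 v⁆ = 1) (h4 : ∀ a a', ⁅f 0 a 0, f 0 a' 0⁆ = 1)
    {x y : Γ} {a v a' v' : F} (hx : σ x = u 0 a v) (hy : σ y = u 0 a' v') : ⁅x, y⁆ = 1 := by
  have e : ⁅x, y⁆ = ⁅f 0 a 0 * f 0 0 v, f 0 a' 0 * f 0 0 v'⁆ := by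
    apply S.comm_eq
    · rw [hx, map_mul, S.hf, S.hf, S.u2_split]
    · rw [hy, map_mul, S.hf, S.hf, S.u2_split]
  rw [e, commutatorElement_eq_one_iff_commute]
  have c1 : Commute (f 0 a 0) (f 0 a' 0) := commutatorElement_eq_one_iff_commute.mp (h4 a a')
  have c2 : Commute (f 0 a 0) (f 0 0 v') := commutatorElement_eq_one_iff_commute.mp (h2 a v')
  have c3 : Commute (f 0 0 v) (f 0 a' 0) :=
    (commutatorElement_eq_one_iff_commute.mp (h2 a' v)).symm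
  have c4 : Commute (f 0 0 v) (f 0 0 v') := commutatorElement_eq_one_iff_commute.mp (h1 v v')
  exact (c1.mul_right c2).mul_left (c3.mul_right c4)

/-- the preimage of `{u 0 0 w}` is central in the preimage of `{u t a v}` -/
theorem cen3 (S : ReeSetup σ θ u h f) (h1 : ∀ v v', ⁅f 0 0 v, f 0 0 v'⁆ = 1)
    (h2 : ∀ a v, ⁅f 0 a 0, f 0 0 v⁆ = 1) (h3 : ∀ t v, ⁅f t 0 0, f 0 0 v⁆ = 1)
    {x y : Γ} {t a v w : F} (hx : σ x = u t a v) (hy : σ y = u 0 0 w) : ⁅x, y⁆ = 1 := by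
  have e : ⁅x, y⁆ = ⁅f t 0 0 * (f 0 a 0 * f 0 0 v), f 0 0 w⁆ := by
    apply S.comm_eq
    · rw [hx, map_mul, map_mul, S.hf, S.hf, S.hf, S.u2_split, S.u_split]
    · rw [hy, S.hf]
  rw [e, commutatorElement_eq_one_iff_commute]
  have c1 : Commute (f t 0 0) (f 0 0 w) := commutatorElement_eq_one_iff_commute.mp (h3 t w)
  have c2 : Commute (f 0 a 0) (f 0 0 w) := commutatorElement_eq_one_iff_commute.mp (h2 a w)
  have c3 : Commute (f 0 0 v) (f 0 0 w) := commutatorElement_eq_one_iff_commute.mp (h1 v w)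
  exact c1.mul_left (c2.mul_left c3)

end ReeSetup

end core

end Cfsg.Agent.Lib.Helper1.SM4
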