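import Mathlib
import Cfsg.Agent.Lib.Helper1.SM4b
import Cfsg.Agent.Lib.Helper1.CoprimeAbelian

/-!
Schur multiplier of the Ree groups `²G₂(q)`, part c: the preimage of `{u 0 a v}`, claims A and B.
-/

set_option autoImplicit false
set_option maxHeartbeats 4000000
set_option linter.unusedVariables false
set_option linter.unusedSectionVars false
set_option linter.style.longLine false
set_option linter.unusedSimpArgs false

namespace Cfsg.Agent.Lib.Helper1.SM4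

open Cfsg.Agent.Lib.Helper1 Cfsg.Agent.Lib.Helper1.SM2 Cfsg.Agent.Lib.Helper1.SM3
  Cfsg.Agent.Lib.Helper4.Stem
open scoped commutatorElement IsMulCommutative

section core

variable {Γ G : Type*} [Group Γ] [Group G] {F : Type*} [Field F]

namespace ReeSetup

variable {σ : Γ →* G} {θ : F → F} {u : F → F → F → G} {h : Fˣ →* G} {f : F → F → F → Γ}

/-- the preimage of `{u 0 0 v}` -/
def W3 (S : ReeSetup σ θ u h f) : Subgroup Γ where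
  carrier := {x | ∃ v, σ x = u 0 0 v}
  one_mem' := ⟨0, by rw [map_one, S.u_zero]⟩
  mul_mem' := by
    rintro x y ⟨v, hv⟩ ⟨v', hv'⟩
    exact ⟨v + v', by rw [map_mul, hv, hv', S.u3_mul_left]⟩
  inv_mem' := by
    rintro x ⟨v, hv⟩
    refine ⟨-v, ?_⟩
    rw [map_inv, hv]
    apply inv_eq_of_mul_eq_one_right
    rw [S.u3_mul_left, add_neg_cancel, S.u_zero]

/-- the preimage of `{u 0 a v}` -/
def W2 (S : ReeSetup σ θ u h f) : Subgroup Γ where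
  carrier := {x | ∃ a v, σ x = u 0 a v}
  one_mem' := ⟨0, 0, by rw [map_one, S.u_zero]⟩
  mul_mem' := by
    rintro x y ⟨a, v, hv⟩ ⟨a', v', hv'⟩
    exact ⟨a + a', v + v', by rw [map_mul, hv, hv', S.u2_mul]⟩
  inv_mem' := by
    rintro x ⟨a, v, hv⟩
    refine ⟨-a, -v, ?_⟩
    rw [map_inv, hv]
    apply inv_eq_of_mul_eq_one_right
    rw [S.u2_mul, add_neg_cancel, add_neg_cancel, S.u_zero]

theorem mem_W3 (S : ReeSetup σ θ u h f) {x : Γ} : x ∈ S.W3 ↔ ∃ v, σ x = u 0 0 v := Iff.rfl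

theorem mem_W2 (S : ReeSetup σ θ u h f) {x : Γ} : x ∈ S.W2 ↔ ∃ a v, σ x = u 0 a v := Iff.rfl

theorem W3_le_W2 (S : ReeSetup σ θ u h f) : S.W3 ≤ S.W2 := by
  rintro x ⟨v, hv⟩
  exact ⟨0, v, hv⟩

theorem isMulCommutative_W2 (S : ReeSetup σ θ u h f)
    (hab : ∀ {x y : Γ} {a v a' v' : F}, σ x = u 0 a v → σ y = u 0 a' v' → ⁅x, y⁆ = 1) :
    IsMulCommutative S.W2 := by
  refine ⟨⟨fun x y => ?_⟩⟩
  obtain ⟨a, v, hx⟩ := x.2
  obtain ⟨a', v', hy⟩ := y.2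
  have h1 : ⁅(x : Γ), (y : Γ)⁆ = 1 := hab hx hy
  rw [commutatorElement_eq_one_iff_commute] at h1
  exact Subtype.ext h1

theorem conj_mem_W2 (S : ReeSetup σ θ u h f) {τ w : Γ} {z : Fˣ} (hτ : σ τ = h z) (hw : w ∈ S.W2) :
    τ * w * τ⁻¹ ∈ S.W2 := by
  obtain ⟨a, v, hw⟩ := hw
  exact ⟨_, _, by rw [S.conj_map hτ hw, mul_zero]⟩

theorem comm_W2_le (S : ReeSetup σ θ u h f) (A : Subgroup Γ)
    (hAn : ∀ τ ∈ A, ∃ z : Fˣ, σ τ = h z) : ⁅S.W2, A⁆ ≤ S.W2 := by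
  rw [Subgroup.commutator_le]
  intro w hw τ hτ
  obtain ⟨z, hz⟩ := hAn τ hτ
  have : ⁅w, τ⁆ = w * (τ * w⁻¹ * τ⁻¹) := by simp only [commutatorElement_def]; group
  rw [this]
  exact mul_mem hw (S.conj_mem_W2 hz (inv_mem hw))

theorem comm_mem_W2 (S : ReeSetup σ θ u h f) {x y : Γ} {t a v t' a' v' : F} (hx : σ x = u t a v)
    (hy : σ y = u t' a' v') : ⁅x, y⁆ ∈ S.W2 :=
  ⟨_, _, by rw [map_commutatorElement, hx, hy, S.u_comm]⟩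

theorem comm_W3_right (S : ReeSetup σ θ u h f) {x w : Γ} {t a v b c : F} (hx : σ x = u t a v)
    (hw : σ w = u 0 b c) : ∃ w', σ ⁅x, w⁆ = u 0 0 w' := by
  refine ⟨b * t, ?_⟩
  rw [map_commutatorElement, hx, hw, S.u_comm, S.θ_zero]
  congr 1 <;> ring

theorem comm_W3_left (S : ReeSetup σ θ u h f) {x w : Γ} {t a v b c : F} (hw : σ w = u 0 b c)
    (hx : σ x = u t a v) : ∃ w', σ ⁅w, x⁆ = u 0 0 w' := by
  refine ⟨-(b * t), ?_⟩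
  rw [map_commutatorElement, hx, hw, S.u_comm, S.θ_zero]
  congr 1 <;> ring

section claims

/-- commutators of the preimage of `U` with the preimage of `{u 0 a v}` only depend on two coordinates -/
theorem comm12_indep (S : ReeSetup σ θ u h f)
    (hab : ∀ {x y : Γ} {a v a' v' : F}, σ x = u 0 a v → σ y = u 0 a' v' → ⁅x, y⁆ = 1)
    (hcen : ∀ {x y : Γ} {t a v w : F}, σ x = u t a v → σ y = u 0 0 w → ⁅x, y⁆ = 1)
    {x x' y y' : Γ} {t a v a₁ v₁ b w w' : F} (hx : σ x = u t a v)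
    (hx' : σ x' = u t a₁ v₁) (hy : σ y = u 0 b w) (hy' : σ y' = u 0 b w') : ⁅x', y'⁆ = ⁅x, y⁆ := by
  have hyy : σ (y * f 0 0 (w' - w)) = u 0 b w' := by
    rw [map_mul, hy, S.hf, S.u3_mul_right]
    congr 1; ring
  have e1 : ⁅x', y'⁆ = ⁅x * f 0 (a₁ - a) (v₁ - v), y * f 0 0 (w' - w)⁆ := by
    apply S.comm_eq
    · rw [hx', map_mul, hx, S.hf, S.u_shift]
    · rw [hy', hyy]
  rw [e1, comm_mul_left_of_comm _ _ _ (hab (S.hf 0 _ _) hyy),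
    comm_mul_right_of_comm _ _ _ (hcen hx (S.hf 0 0 _))]

/-- Claim A -/
theorem claimA (S : ReeSetup σ θ u h f)
    (hab : ∀ {x y : Γ} {a v a' v' : F}, σ x = u 0 a v → σ y = u 0 a' v' → ⁅x, y⁆ = 1)
    (hcen : ∀ {x y : Γ} {t a v w : F}, σ x = u t a v → σ y = u 0 0 w → ⁅x, y⁆ = 1)
    (h3 : (3 : F) = 0) (hθm : θ (-1) = -1)
    (A : Subgroup Γ) (hA : ∀ z : Fˣ, ∃ τ ∈ A, σ τ = h z)
    {x y : Γ} {t a v a' v' : F} (hx : σ x = u t a v) (hy : σ y = u 0 a' v') :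
    ⁅x, y⁆ ∈ ⁅S.W3, A⁆ := by
  obtain ⟨wc, hwc⟩ := S.comm_W3_right hx hy
  -- multiplicativity in the second variable
  have hmulR : ∀ {y₁ y₂ : Γ} {b₁ c₁ b₂ c₂ : F}, σ y₁ = u 0 b₁ c₁ → σ y₂ = u 0 b₂ c₂ →
      ⁅x, y₁ * y₂⁆ = ⁅x, y₁⁆ * ⁅x, y₂⁆ := by
    intro y₁ y₂ b₁ c₁ b₂ c₂ h1 h2
    have i : ⁅x, y₁ * y₂⁆ = ⁅x, y₁⁆ * (y₁ * ⁅x, y₂⁆ * y₁⁻¹) := by
      simp only [commutatorElement_def]; group
    obtain ⟨w₂, hw₂⟩ := S.comm_W3_right hx h2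
    have c := commutatorElement_eq_one_iff_commute.mp (hcen h1 hw₂)
    rw [i, c.eq, mul_inv_cancel_right]
  -- the cube
  have hy2 : σ (y * y) = u 0 (a' + a') (v' + v') := by rw [map_mul, hy, S.u2_mul]
  have hy3 : σ (y * (y * y)) = 1 := by
    rw [map_mul, hy2, hy, S.u2_mul]
    have e1 : a' + (a' + a') = 0 := by linear_combination a' * h3
    have e2 : v' + (v' + v') = 0 := by linear_combination v' * h3
    rw [e1, e2, S.u_zero]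
  have hc3 : ⁅x, y⁆ * (⁅x, y⁆ * ⁅x, y⁆) = 1 := by
    rw [← hmulR hy hy, ← hmulR hy hy2, commutatorElement_eq_one_iff_commute]
    exact (fun g => (S.central_of_map hy3 g)) x
  -- the involution
  obtain ⟨τ, hτA, hτ⟩ := hA (-1)
  have hm1 : (((-1 : Fˣ) : Fˣ) : F) = -1 := by simp
  have hx' : σ (τ * x * τ⁻¹) = u (-t) a (-v) := by
    rw [S.conj_map hτ hx, hm1, hθm]
    congr 1 <;> ring
  have hy' : σ (τ * y * τ⁻¹) = u 0 a' (-v') := by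
    rw [S.conj_map hτ hy, hm1, hθm]
    congr 1 <;> ring
  have e1 : τ * ⁅x, y⁆ * τ⁻¹ = ⁅τ * x * τ⁻¹, y⁆ := by
    rw [← comm_conj]
    exact S.comm12_indep hab hcen hx' hx' hy hy'
  obtain ⟨A₀, V₀, hxx⟩ := S.u_mul_neg t a v a (-v)
  have e3 : ⁅x * (τ * x * τ⁻¹), y⁆ = 1 := by
    apply hab (a := A₀) (v := V₀) _ hy
    rw [map_mul, hx, hx', hxx]
  obtain ⟨w', hw'⟩ := S.comm_W3_right hx' hy
  have e4 : ⁅x * (τ * x * τ⁻¹), y⁆ = ⁅τ * x * τ⁻¹, y⁆ * ⁅x, y⁆ := by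
    have i : ⁅x * (τ * x * τ⁻¹), y⁆ = x * ⁅τ * x * τ⁻¹, y⁆ * x⁻¹ * ⁅x, y⁆ := by
      simp only [commutatorElement_def]; group
    have c := commutatorElement_eq_one_iff_commute.mp (hcen hx hw')
    rw [i, c.eq, mul_inv_cancel_right]
  have e5 : τ * ⁅x, y⁆ * τ⁻¹ = (⁅x, y⁆)⁻¹ := by
    rw [e1]
    rw [e4] at e3
    exact eq_inv_of_mul_eq_one_left e3
  have e6 : ⁅τ, ⁅x, y⁆⁆ = (⁅x, y⁆)⁻¹ * (⁅x, y⁆)⁻¹ := by
    rw [commutatorElement_def, e5]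
  have e7 : ⁅x, y⁆ = (⁅x, y⁆)⁻¹ * (⁅x, y⁆)⁻¹ := by
    calc ⁅x, y⁆ = (⁅x, y⁆)⁻¹ * (⁅x, y⁆)⁻¹ * (⁅x, y⁆ * (⁅x, y⁆ * ⁅x, y⁆)) := by group
      _ = (⁅x, y⁆)⁻¹ * (⁅x, y⁆)⁻¹ := by rw [hc3, mul_one]
  rw [e7, ← e6, Subgroup.commutator_comm]
  exact Subgroup.commutator_mem_commutator hτA ⟨wc, hwc⟩

end claims

end ReeSetup

end core

end Cfsg.Agent.Lib.Helper1.SM4
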