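import Mathlib
import Cfsg.Agent.Lib.Helper1.SM4c

/-!
Schur multiplier of the Ree groups `²G₂(q)`, part d: claim B and the core theorem.
-/

set_option autoImplicit false
set_option maxHeartbeats 4000000
set_option linter.unusedVariables false
set_option linter.unusedSectionVars false
set_option linter.style.longLine false
set_option linter.unusedSimpArgs false

namespace Cfsg.Agent.Lib.Helper1.SM4

open Cfsg.Agent.Lib.Helper1 Cfsg.Agent.Lib.Helper1.SM2 Cfsg.Agent.Lib.Helper1.SM3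
  Cfsg.Agent.Lib.Helper4.Stem
open scoped commutatorElement IsMulCommutative

section core

variable {Γ G : Type*} [Group Γ] [Group G] {F : Type*} [Field F]

namespace ReeSetup

variable {σ : Γ →* G} {θ : F → F} {u : F → F → F → G} {h : Fˣ →* G} {f : F → F → F → Γ}

open Classical in
/-- the class of an element of `W2` modulo `⁅W2, A⁆` (and `1` outside `W2`) -/
noncomputable def cl (S : ReeSetup σ θ u h f) (A : Subgroup Γ)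
    [((⁅S.W2, A⁆).subgroupOf S.W2).Normal] (g : Γ) : S.W2 ⧸ (⁅S.W2, A⁆).subgroupOf S.W2 :=
  if hg : g ∈ S.W2 then QuotientGroup.mk ⟨g, hg⟩ else 1

theorem cl_of_mem (S : ReeSetup σ θ u h f) (A : Subgroup Γ)
    [((⁅S.W2, A⁆).subgroupOf S.W2).Normal] {g : Γ} (hg : g ∈ S.W2) :
    S.cl A g = QuotientGroup.mk ⟨g, hg⟩ := dif_pos hg

theorem cl_mul (S : ReeSetup σ θ u h f) (A : Subgroup Γ)
    [((⁅S.W2, A⁆).subgroupOf S.W2).Normal] {g g' : Γ} (hg : g ∈ S.W2) (hg' : g' ∈ S.W2) :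
    S.cl A (g * g') = S.cl A g * S.cl A g' := by
  rw [S.cl_of_mem A (mul_mem hg hg'), S.cl_of_mem A hg, S.cl_of_mem A hg', ← QuotientGroup.mk_mul]
  rfl

theorem cl_inv (S : ReeSetup σ θ u h f) (A : Subgroup Γ)
    [((⁅S.W2, A⁆).subgroupOf S.W2).Normal] {g : Γ} (hg : g ∈ S.W2) :
    S.cl A g⁻¹ = (S.cl A g)⁻¹ := by
  rw [S.cl_of_mem A (inv_mem hg), S.cl_of_mem A hg, ← QuotientGroup.mk_inv]
  rfl

theorem cl_eq_one_iff (S : ReeSetup σ θ u h f) (A : Subgroup Γ)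
    [((⁅S.W2, A⁆).subgroupOf S.W2).Normal] {g : Γ} (hg : g ∈ S.W2) :
    S.cl A g = 1 ↔ g ∈ ⁅S.W2, A⁆ := by
  rw [S.cl_of_mem A hg, QuotientGroup.eq_one_iff, Subgroup.mem_subgroupOf]

/-- Claim B -/
theorem claimB (S : ReeSetup σ θ u h f) [Fintype F]
    (hab : ∀ {x y : Γ} {a v a' v' : F}, σ x = u 0 a v → σ y = u 0 a' v' → ⁅x, y⁆ = 1)
    (hcen : ∀ {x y : Γ} {t a v w : F}, σ x = u t a v → σ y = u 0 0 w → ⁅x, y⁆ = 1)
    (h2 : (2 : F) ≠ 0) (hq : 14 ≤ Fintype.card F) (h3 : (3 : F) = 0) (hθm : θ (-1) = -1)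
    (A : Subgroup Γ) (hA : ∀ z : Fˣ, ∃ τ ∈ A, σ τ = h z) (hAn : ∀ τ ∈ A, ∃ z : Fˣ, σ τ = h z)
    {x y : Γ} {t a v t' a' v' : F} (hx : σ x = u t a v) (hy : σ y = u t' a' v') :
    ⁅x, y⁆ ∈ ⁅S.W2, A⁆ := by
  haveI hWc : IsMulCommutative S.W2 := S.isMulCommutative_W2 hab
  haveI hn : ((⁅S.W2, A⁆).subgroupOf S.W2).Normal := inferInstance
  have hNM : ⁅S.W3, A⁆ ≤ ⁅S.W2, A⁆ := Subgroup.commutator_mono S.W3_le_W2 le_rfl
  have hMW : ⁅S.W2, A⁆ ≤ S.W2 := S.comm_W2_le A hAn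
  have F1 : ∀ {x w : Γ} {t a v b c : F}, σ x = u t a v → σ w = u 0 b c → ⁅x, w⁆ ∈ ⁅S.W2, A⁆ :=
    fun hx hw => hNM (S.claimA hab hcen h3 hθm A hA hx hw)
  have F1' : ∀ {x w : Γ} {t a v b c : F}, σ x = u t a v → σ w = u 0 b c → ⁅w, x⁆ ∈ ⁅S.W2, A⁆ := by
    intro x w t a v b c hx hw
    rw [← commutatorElement_inv]
    exact inv_mem (F1 hx hw)
  have F2 : ∀ {x n : Γ} {t a v w : F}, σ x = u t a v → σ n = u 0 0 w → x * n * x⁻¹ = n := by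
    intro x n t a v w hx hn
    have c := commutatorElement_eq_one_iff_commute.mp (hcen hx hn)
    rw [c.eq, mul_inv_cancel_right]
  have hcomm2 : ∀ {g g' : Γ}, g ∈ S.W2 → g' ∈ S.W2 → g * g' = g' * g := by
    intro g g' hg hg'
    obtain ⟨a, v, h1⟩ := hg
    obtain ⟨a', v', h2⟩ := hg'
    exact (commutatorElement_eq_one_iff_commute.mp (hab h1 h2)).eq
  have hd : ∀ t t', ⁅f t 0 0, f t' 0 0⁆ ∈ S.W2 := fun t t' =>
    S.comm_mem_W2 (S.hf t 0 0) (S.hf t' 0 0)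
  -- left additivity
  have hl : ∀ t₁ t₂ t', S.cl A ⁅f (t₁ + t₂) 0 0, f t' 0 0⁆
      = S.cl A ⁅f t₁ 0 0, f t' 0 0⁆ * S.cl A ⁅f t₂ 0 0, f t' 0 0⁆ := by
    intro t₁ t₂ t'
    obtain ⟨w, hwdef⟩ : ∃ w, w = f 0 (-(t₁ * θ t₂)) (t₁ * θ t₂ * t₂ - t₁ ^ 2 * θ t₂) := ⟨_, rfl⟩
    have hw : σ w = u 0 (-(t₁ * θ t₂)) (t₁ * θ t₂ * t₂ - t₁ ^ 2 * θ t₂) := by rw [hwdef, S.hf]
    have E1 : ⁅f t₁ 0 0 * f t₂ 0 0, f t' 0 0⁆ = ⁅f (t₁ + t₂) 0 0 * w, f t' 0 0⁆ := by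
      apply S.comm_eq _ rfl
      rw [map_mul, map_mul, S.hf, S.hf, S.hf, hw, S.u_add]
    obtain ⟨w', hw'⟩ := S.comm_W3_left hw (S.hf t' 0 0)
    have E2 : ⁅f (t₁ + t₂) 0 0 * w, f t' 0 0⁆ = ⁅w, f t' 0 0⁆ * ⁅f (t₁ + t₂) 0 0, f t' 0 0⁆ := by
      have i : ⁅f (t₁ + t₂) 0 0 * w, f t' 0 0⁆
          = f (t₁ + t₂) 0 0 * ⁅w, f t' 0 0⁆ * (f (t₁ + t₂) 0 0)⁻¹ * ⁅f (t₁ + t₂) 0 0, f t' 0 0⁆ := by
        simp only [commutatorElement_def]; group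
      rw [i, F2 (S.hf _ 0 0) hw']
    have E3 : ⁅f t₁ 0 0 * f t₂ 0 0, f t' 0 0⁆
        = ⁅f t₁ 0 0, ⁅f t₂ 0 0, f t' 0 0⁆⁆ * ⁅f t₂ 0 0, f t' 0 0⁆ * ⁅f t₁ 0 0, f t' 0 0⁆ := by
      simp only [commutatorElement_def]; group
    have key : ⁅w, f t' 0 0⁆ * ⁅f (t₁ + t₂) 0 0, f t' 0 0⁆
        = ⁅f t₁ 0 0, ⁅f t₂ 0 0, f t' 0 0⁆⁆ * ⁅f t₂ 0 0, f t' 0 0⁆ * ⁅f t₁ 0 0, f t' 0 0⁆ := by
      rw [← E2, ← E1, E3]
    have m1 : ⁅w, f t' 0 0⁆ ∈ ⁅S.W2, A⁆ := F1' (S.hf t' 0 0) hw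
    obtain ⟨b₂, c₂, hd₂⟩ := hd t₂ t'
    have m2 : ⁅f t₁ 0 0, ⁅f t₂ 0 0, f t' 0 0⁆⁆ ∈ ⁅S.W2, A⁆ := F1 (S.hf t₁ 0 0) hd₂
    have k := congrArg (S.cl A) key
    rw [S.cl_mul A (hMW m1) (hd _ _), S.cl_mul A (mul_mem (hMW m2) (hd _ _)) (hd _ _),
      S.cl_mul A (hMW m2) (hd _ _), (S.cl_eq_one_iff A (hMW m1)).mpr m1,
      (S.cl_eq_one_iff A (hMW m2)).mpr m2, one_mul, one_mul] at k
    rw [k, ← S.cl_mul A (hd _ _) (hd _ _), ← S.cl_mul A (hd _ _) (hd _ _),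
      hcomm2 (hd t₂ t') (hd t₁ t')]
  -- right additivity
  have hr : ∀ t t₁ t₂, S.cl A ⁅f t 0 0, f (t₁ + t₂) 0 0⁆
      = S.cl A ⁅f t 0 0, f t₁ 0 0⁆ * S.cl A ⁅f t 0 0, f t₂ 0 0⁆ := by
    intro t t₁ t₂
    have hanti : ∀ s s', ⁅f s 0 0, f s' 0 0⁆ = (⁅f s' 0 0, f s 0 0⁆)⁻¹ := fun s s' =>
      (commutatorElement_inv _ _).symm
    rw [hanti t (t₁ + t₂), S.cl_inv A (hd _ _), hl, mul_inv_rev, ← S.cl_inv A (hd _ _),
      ← S.cl_inv A (hd _ _), ← hanti, ← hanti, ← S.cl_mul A (hd _ _) (hd _ _),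
      ← S.cl_mul A (hd _ _) (hd _ _), hcomm2 (hd t t₂) (hd t t₁)]
  -- invariance
  have hinv : ∀ s t t' : F, s ≠ 0 → S.cl A ⁅f (s ^ 2 * t) 0 0, f (s ^ 2 * t') 0 0⁆
      = S.cl A ⁅f t 0 0, f t' 0 0⁆ := by
    intro s t t' hs
    obtain ⟨τ, hτA, hτ⟩ := hA (Units.mk0 (s ^ 2) (pow_ne_zero 2 hs))
    have e1 : ⁅f (s ^ 2 * t) 0 0, f (s ^ 2 * t') 0 0⁆ = τ * ⁅f t 0 0, f t' 0 0⁆ * τ⁻¹ := by
      rw [← comm_conj]
      apply S.comm_eq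
      · rw [S.conj_map hτ (S.hf t 0 0), S.hf, mul_zero, mul_zero, Units.val_mk0]
      · rw [S.conj_map hτ (S.hf t' 0 0), S.hf, mul_zero, mul_zero, Units.val_mk0]
    have e2 : τ * ⁅f t 0 0, f t' 0 0⁆ * τ⁻¹ = ⁅τ, ⁅f t 0 0, f t' 0 0⁆⁆ * ⁅f t 0 0, f t' 0 0⁆ := by
      simp only [commutatorElement_def]; group
    have m : ⁅τ, ⁅f t 0 0, f t' 0 0⁆⁆ ∈ ⁅S.W2, A⁆ := by
      rw [Subgroup.commutator_comm]
      exact Subgroup.commutator_mem_commutator hτA (hd t t')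
    rw [e1, e2, S.cl_mul A (hMW m) (hd _ _), (S.cl_eq_one_iff A (hMW m)).mpr m, one_mul]
  obtain ⟨x₀, y₀, hx₀, hy₀, hxy₀, hτ₀⟩ := exists_param_odd h2 hq
  have hform : ∀ t t', S.cl A ⁅f t 0 0, f t' 0 0⁆ = 1 :=
    biadd_trivial_grp (fun t t' => S.cl A ⁅f t 0 0, f t' 0 0⁆) hl hr hinv x₀ y₀ hx₀ hy₀ hxy₀ hτ₀
  have hdM : ∀ t t', ⁅f t 0 0, f t' 0 0⁆ ∈ ⁅S.W2, A⁆ := fun t t' =>
    (S.cl_eq_one_iff A (hd t t')).mp (hform t t')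
  -- the general case
  have hZ : σ (f t' 0 0 * f 0 a' v') = u t' a' v' := by rw [map_mul, S.hf, S.hf, S.u_split]
  have E : ⁅x, y⁆ = ⁅f t 0 0 * f 0 a v, f t' 0 0 * f 0 a' v'⁆ := by
    apply S.comm_eq
    · rw [hx, map_mul, S.hf, S.hf, S.u_split]
    · rw [hy, hZ]
  obtain ⟨w₁, hw₁⟩ := S.comm_W3_left (S.hf 0 a v) hZ
  obtain ⟨w₂, hw₂⟩ := S.comm_W3_right (S.hf t 0 0) (S.hf 0 a' v')
  have i1 : ⁅f t 0 0 * f 0 a v, f t' 0 0 * f 0 a' v'⁆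
      = f t 0 0 * ⁅f 0 a v, f t' 0 0 * f 0 a' v'⁆ * (f t 0 0)⁻¹
        * ⁅f t 0 0, f t' 0 0 * f 0 a' v'⁆ := by
    simp only [commutatorElement_def]; group
  have i2 : ⁅f t 0 0, f t' 0 0 * f 0 a' v'⁆
      = ⁅f t 0 0, f t' 0 0⁆ * (f t' 0 0 * ⁅f t 0 0, f 0 a' v'⁆ * (f t' 0 0)⁻¹) := by
    simp only [commutatorElement_def]; group
  rw [E, i1, i2, F2 (S.hf t 0 0) hw₁, F2 (S.hf t' 0 0) hw₂]
  exact mul_mem (F1' hZ (S.hf 0 a v)) (mul_mem (hdM t t') (F1 (S.hf t 0 0) (S.hf 0 a' v')))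

/-- the core theorem: no nontrivial element of the kernel lies in the derived subgroup of the preimage of
`U` -/
theorem core (S : ReeSetup σ θ u h f) [Fintype F] [Finite Γ] (h3 : (3 : F) = 0) (r : ℕ) (hr : 1 ≤ r)
    (hθ : ∀ x, θ x = x ^ r) (hθadd : ∀ x y, θ (x + y) = θ x + θ y)
    (hθθ : ∀ x, θ (θ x) = x ^ 3)
    (hq : 2 * r + 6 < Fintype.card F) (hq14 : 14 ≤ Fintype.card F)
    (h3n : 3 ∣ Nat.card Fˣ + 1) (hk3 : ∀ z ∈ σ.ker, z ^ 3 = 1)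
    (U : Subgroup G) (hU : ∀ g ∈ U, ∃ t a v, g = u t a v)
    (z₀ : Γ) (hz₀ : z₀ ∈ σ.ker) (hzU : z₀ ∈ U.comap σ)
    (hcomm : (⟨z₀, hzU⟩ : U.comap σ) ∈ commutator (U.comap σ)) : z₀ = 1 := by
  have h2 : (2 : F) ≠ 0 := by
    intro h
    have : (1 : F) = 0 := by linear_combination h3 - h
    exact one_ne_zero this
  have hθ0 : θ 0 = 0 := S.θ_zero
  have hθ1 : θ 1 = 1 := by rw [hθ, one_pow]
  have hθm : θ (-1) = -1 := by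
    have := hθadd (-1) 1
    rw [neg_add_cancel, hθ0, hθ1] at this
    linear_combination -this
  have hθmul : ∀ x y, θ (x * y) = θ x * θ y := by
    intro x y; rw [hθ, hθ, hθ, mul_pow]
  have hθinv : ∀ x, θ x⁻¹ = (θ x)⁻¹ := by
    intro x; rw [hθ, hθ, inv_pow]
  have hθpow : ∀ x (k : ℕ), θ (x ^ k) = (θ x) ^ k := by
    intro x k; rw [hθ, hθ, ← pow_mul, ← pow_mul, mul_comm]
  have hθne : ∀ x, x ≠ 0 → θ x ≠ 0 := by
    intro x hx; rw [hθ]; exact pow_ne_zero _ hx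
  have hN3 : ∀ l : F, l ≠ 0 → ∃ z : Fˣ, (z : F) ^ 2 * θ z = l := by
    intro l hl
    have hT := hθne l hl
    refine ⟨Units.mk0 (l ^ 2 * (θ l)⁻¹) (mul_ne_zero (pow_ne_zero 2 hl) (inv_ne_zero hT)), ?_⟩
    rw [Units.val_mk0, hθmul, hθpow, hθinv, hθθ]
    field_simp
  have hN2 : ∀ s : F, s ≠ 0 → ∃ z : Fˣ, (z : F) * θ z = s ^ 2 := by
    intro s hs
    have hT := hθne s hs
    refine ⟨Units.mk0 (θ s * s⁻¹) (mul_ne_zero hT (inv_ne_zero hs)), ?_⟩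
    rw [Units.val_mk0, hθmul, hθinv, hθθ]
    field_simp
  have h1 := S.step1 h2 hq14 hN3
  have h2' := S.step2 h3 hθm
  have h3' := S.step3 r hr hθ hθadd hq h1 h2'
  have h4 := S.step4 h2 hq14 hN2
  have hab : ∀ {x y : Γ} {a v a' v' : F}, σ x = u 0 a v → σ y = u 0 a' v' → ⁅x, y⁆ = 1 :=
    fun hx hy => S.ab2 h1 h2' h4 hx hy
  have hcen : ∀ {x y : Γ} {t a v w : F}, σ x = u t a v → σ y = u 0 0 w → ⁅x, y⁆ = 1 :=
    fun hx hy => S.cen3 h1 h2' h3' hx hy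
  haveI hWc : IsMulCommutative S.W2 := S.isMulCommutative_W2 hab
  -- the torus lift of order prime to `3`
  obtain ⟨z₁, hz₁⟩ := IsCyclic.exists_generator (α := Fˣ)
  obtain ⟨t₁, ht₁⟩ := S.lift_h z₁
  obtain ⟨n, hn⟩ : ∃ n, n = Nat.card Fˣ := ⟨_, rfl⟩
  have hz₁n : z₁ ^ n = 1 := by rw [hn]; exact pow_card_eq_one'
  obtain ⟨t, htdef⟩ : ∃ t, t = t₁ ^ (n + 1) := ⟨_, rfl⟩
  have ht : σ t = h z₁ := by
    rw [htdef, map_pow, ht₁, ← map_pow, pow_succ, hz₁n, one_mul]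
  have htn : t ^ n = 1 := by
    have hk : t₁ ^ n ∈ σ.ker := by
      rw [MonoidHom.mem_ker, map_pow, ht₁, ← map_pow, hz₁n, map_one]
    have hk' := hk3 _ hk
    obtain ⟨k, hk''⟩ : ∃ k, n + 1 = 3 * k := by
      rw [← hn] at h3n
      exact h3n
    calc t ^ n = (t₁ ^ n) ^ (n + 1) := by rw [htdef, ← pow_mul, ← pow_mul, mul_comm]
      _ = ((t₁ ^ n) ^ 3) ^ k := by rw [hk'', pow_mul]
      _ = 1 := by rw [hk', one_pow]
  have hpow : ∀ k : ℤ, σ (t ^ k) = h (z₁ ^ k) := by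
    intro k
    rw [map_zpow, ht, map_zpow]
  have hA : ∀ z : Fˣ, ∃ τ ∈ Subgroup.zpowers t, σ τ = h z := by
    intro z
    obtain ⟨k, hk⟩ := Subgroup.mem_zpowers_iff.mp (hz₁ z)
    exact ⟨t ^ k, Subgroup.zpow_mem_zpowers t k, by rw [hpow, hk]⟩
  have hAn : ∀ τ ∈ Subgroup.zpowers t, ∃ z : Fˣ, σ τ = h z := by
    intro τ hτ
    obtain ⟨k, rfl⟩ := Subgroup.mem_zpowers_iff.mp hτ
    exact ⟨_, hpow k⟩
  -- `z₀ ∈ ⁅W2, A⁆`
  have hzM : z₀ ∈ ⁅S.W2, Subgroup.zpowers t⁆ := by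
    have hle : commutator (U.comap σ) ≤ (⁅S.W2, Subgroup.zpowers t⁆).subgroupOf (U.comap σ) := by
      rw [commutator_def, Subgroup.commutator_le]
      intro g₁ _ g₂ _
      rw [Subgroup.mem_subgroupOf]
      show ⁅(g₁ : Γ), (g₂ : Γ)⁆ ∈ ⁅S.W2, Subgroup.zpowers t⁆
      obtain ⟨t₁, a₁, v₁, hg₁⟩ := hU _ g₁.2
      obtain ⟨t₂, a₂, v₂, hg₂⟩ := hU _ g₂.2
      exact S.claimB hab hcen h2 hq14 h3 hθm (Subgroup.zpowers t) hA hAn hg₁ hg₂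
    have := hle hcomm
    rw [Subgroup.mem_subgroupOf] at this
    exact this
  -- `z₀ ∈ W2 ⊓ C(A)`
  have hzW : z₀ ∈ S.W2 ⊓ Subgroup.centralizer (Subgroup.zpowers t : Set Γ) := by
    refine Subgroup.mem_inf.mpr ⟨⟨0, 0, by rw [MonoidHom.mem_ker.mp hz₀, S.u_zero]⟩, ?_⟩
    rw [Subgroup.mem_centralizer_iff]
    intro g _
    exact Subgroup.mem_center_iff.mp (S.hc hz₀) g
  -- `A` normalizes `W2`
  have hAV : Subgroup.zpowers t ≤ Subgroup.normalizer (S.W2 : Set Γ) := by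
    intro τ hτ
    obtain ⟨z, hz⟩ := hAn τ hτ
    obtain ⟨z', hz'⟩ := hAn τ⁻¹ (inv_mem hτ)
    rw [Subgroup.mem_normalizer_iff]
    intro x
    constructor
    · intro hx
      exact S.conj_mem_W2 hz hx
    · intro hx
      have := S.conj_mem_W2 hz' hx
      have e : τ⁻¹ * (τ * x * τ⁻¹) * τ⁻¹⁻¹ = x := by group
      rw [e] at this
      exact this
  -- coprimality
  have hcop : (Nat.card (Subgroup.zpowers t)).Coprime (Nat.card S.W2) := by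
    haveI : Fact (Nat.Prime 3) := ⟨Nat.prime_three⟩
    have hp : IsPGroup 3 S.W2 := by
      intro x
      refine ⟨2, ?_⟩
      obtain ⟨a, v, hx⟩ := x.2
      have hx2 : σ ((x : Γ) * (x : Γ)) = u 0 (a + a) (v + v) := by rw [map_mul, hx, S.u2_mul]
      have hx3 : (x : Γ) ^ 3 ∈ σ.ker := by
        have e : (x : Γ) ^ 3 = (x : Γ) * ((x : Γ) * (x : Γ)) := by
          rw [pow_succ, pow_two, mul_assoc]
        rw [MonoidHom.mem_ker, e, map_mul, hx2, hx, S.u2_mul]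
        have e1 : a + (a + a) = 0 := by linear_combination a * h3
        have e2 : v + (v + v) = 0 := by linear_combination v * h3
        rw [e1, e2, S.u_zero]
      have := hk3 _ hx3
      apply Subtype.ext
      rw [Subgroup.coe_pow, Subgroup.coe_one]
      calc (x : Γ) ^ 3 ^ 2 = ((x : Γ) ^ 3) ^ 3 := by rw [← pow_mul]; norm_num
        _ = 1 := this
    obtain ⟨k, hk⟩ := IsPGroup.iff_card.mp hp
    rw [hk]
    apply Nat.Coprime.pow_right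
    rw [Nat.card_zpowers]
    have hdvd : orderOf t ∣ n := orderOf_dvd_of_pow_eq_one htn
    have hn3 : ¬ 3 ∣ n := by
      intro h
      rw [← hn] at h3n
      have := (Nat.dvd_add_right h).mp h3n
      omega
    have hodd' : ¬ 3 ∣ orderOf t := fun h => hn3 (dvd_trans h hdvd)
    exact ((Nat.Prime.coprime_iff_not_dvd Nat.prime_three).mpr hodd').symm
  have hbot := coprime_abelian_centralizer_inf_commutator (Subgroup.zpowers t) S.W2 hAV hcop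
  have : z₀ ∈ (S.W2 ⊓ Subgroup.centralizer (Subgroup.zpowers t : Set Γ)) ⊓
      ⁅S.W2, Subgroup.zpowers t⁆ := Subgroup.mem_inf.mpr ⟨hzW, hzM⟩
  rw [hbot] at this
  exact Subgroup.mem_bot.mp this

end ReeSetup

end core

end Cfsg.Agent.Lib.Helper1.SM4
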