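import Mathlib
import Cfsg.Agent.Lib.Helper1.SM4d
import Cfsg.Agent.Lib.Helper4.StemLib7
import Cfsg.Agent.Lib.Helper5.ReeCent.CentMain
import Cfsg.Agent.Lib.Helper5.Ree.TwoGen

/-!
Schur multiplier of the Ree groups `²G₂(q)`, part e: the prime `3`.
-/

set_option autoImplicit false
set_option maxHeartbeats 4000000
set_option linter.unusedVariables false
set_option linter.unusedSectionVars false
set_option linter.style.longLine false
set_option linter.unusedSimpArgs false

namespace Cfsg.Agent.Lib.Helper1.SM4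

open Cfsg Cfsg.Lie Cfsg.Agent.Lib.Helper1.SM2 Cfsg.Agent.Lib.Helper1.SM3 Cfsg.Agent.Lib.Helper4.Stem
  Cfsg.Agent.Lib.Helper5.ChevSym Cfsg.Agent.Lib.Helper5.ChevSymP Cfsg.Agent.Lib.Helper5.ChevStruct
  Cfsg.Agent.Lib.Helper5.Ree Cfsg.Agent.Lib.Helper5.ReeCent Cfsg.Agent.Lib.Helper5.ReeTori
open scoped commutatorElement

universe u

section ree

variable {K : Type u} [Field K] [Fintype K] [CharP K 3] (m : ℕ)

/-- the unipotent elements, in the Ree group -/
noncomputable def uG (t a v : K) : ↥(twistedG2 K (3 ^ m)) := ⟨al m t a v, reeU_mem_twisted m t a v⟩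

/-- the torus, reparametrized, in the Ree group -/
noncomputable def hG (hq : ∀ x : K, x ^ 3 ^ (2 * m + 1) = x) : Kˣ →* ↥(twistedG2 K (3 ^ m)) :=
  ((hz m).comp (powMonoidHom (2 + 3 ^ (m + 1)))).codRestrict (twistedG2 K (3 ^ m))
    (fun z => hz_mem_twisted m hq _)

theorem hG_coe (hq : ∀ x : K, x ^ 3 ^ (2 * m + 1) = x) (z : Kˣ) :
    ((hG m hq z : ↥(twistedG2 K (3 ^ m))) : GL chevG2.Idx K) = hz m (z ^ (2 + 3 ^ (m + 1))) := rfl

/-- the unipotent subgroup of the Ree group -/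
noncomputable def UG : Subgroup ↥(twistedG2 K (3 ^ m)) :=
  (chevG2.posUnipotent K ⊓ fixG m).subgroupOf (twistedG2 K (3 ^ m))

theorem mem_UG (hq : ∀ x : K, x ^ 3 ^ (2 * m + 1) = x) (g : ↥(twistedG2 K (3 ^ m)))
    (hg : g ∈ UG (K := K) m) : ∃ t a v, g = uG m t a v := by
  have h1 : (g : GL chevG2.Idx K) ∈ chevG2.posUnipotent K ⊓ fixG m := hg
  rw [pos_fix_iff m hq] at h1
  obtain ⟨t, a, v, h⟩ := h1
  exact ⟨t, a, v, Subtype.ext h⟩

theorem card_UG (hq : ∀ x : K, x ^ 3 ^ (2 * m + 1) = x) :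
    Nat.card (UG (K := K) m) = Fintype.card K ^ 3 := by
  have hle : chevG2.posUnipotent K ⊓ fixG m ≤ twistedG2 K (3 ^ m) := by
    rw [twisted_eq_fixG m hq]
    exact inf_le_right
  rw [UG, Nat.card_congr (Subgroup.subgroupOfEquivOfLe hle).toEquiv, card_pos_fix m hq]

theorem not_dvd_index_UG (hK : Fintype.card K = 3 ^ (2 * m + 1)) :
    ¬ 3 ∣ (UG (K := K) m).index := by
  have hq := pow_card_eq hK
  have h1 := (UG (K := K) m).card_mul_index
  rw [card_UG m hq, card_twistedG2_eq m hK, hK] at h1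
  obtain ⟨Q, hQ⟩ : ∃ Q, Q = 3 ^ (2 * m + 1) := ⟨_, rfl⟩
  rw [← hQ] at h1
  have hQ3 : 3 ∣ Q := by
    rw [hQ, pow_succ]
    exact Dvd.intro_left _ rfl
  have hQpos : 0 < Q := by rw [hQ]; positivity
  have h2 : (UG (K := K) m).index = (Q - 1) * (Q ^ 3 + 1) := by
    have hpos : 0 < Q ^ 3 := by positivity
    apply Nat.eq_of_mul_eq_mul_left hpos
    rw [h1]; ring
  rw [h2]
  obtain ⟨k, hk⟩ := hQ3
  intro h
  have hp3 : Nat.Prime 3 := Nat.prime_three
  rcases (Nat.Prime.dvd_mul hp3).mp h with h | h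
  · omega
  · have : 3 ∣ Q ^ 3 := dvd_pow ⟨k, hk⟩ (by norm_num)
    have := (Nat.dvd_add_right this).mp h
    omega

/-- the prime `3` -/
theorem noStemPrime_three_ree (hm : 1 ≤ m) (hK : Fintype.card K = 3 ^ (2 * m + 1)) :
    NoStemPrime ↥(twistedG2 K (3 ^ m)) 3 := by
  have hq := pow_card_eq hK
  intro Γ _ _ σ hσ hcard
  obtain ⟨hs, hc, hd⟩ := hσ
  choose f hf using fun t a v : K => hs (uG m t a v)
  have h3 : (3 : K) = 0 := three_zero'
  have S : ReeSetup σ (fun x : K => x ^ 3 ^ (m + 1)) (uG m) (hG m hq) f := by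
    refine ⟨hc, ?_, ?_, hf, fun z => hs _, ?_⟩
    · intro t a v t' a' v'
      apply Subtype.ext
      show al m t a v * al m t' a' v' = al m _ _ _
      rw [al_mul m hq, ← ps_eq, ps_apply]
    · intro z t a v
      apply Subtype.ext
      show hz m (z ^ (2 + 3 ^ (m + 1))) * al m t a v * (hz m (z ^ (2 + 3 ^ (m + 1))))⁻¹ = al m _ _ _
      rw [hz_conj_al m hq, chi6_pow m hq z, chi10_eq]
      have hz0 : (z : K) ≠ 0 := z.ne_zero
      have hp0 : ps m (z : K) ≠ 0 := by rw [ps_apply]; exact pow_ne_zero _ hz0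
      have e1 : ((z ^ (2 + 3 ^ (m + 1)) : Kˣ) : K) = (z : K) ^ 2 * ps m (z : K) := by
        rw [Units.val_pow_eq_pow_val, pow_add, ps_apply]
      have e2 : ps m ((z : K) ^ 2 * ps m (z : K)) = (ps m (z : K)) ^ 2 * (z : K) ^ 3 := by
        rw [map_mul, map_pow, ps_ps m hq]
      rw [e1, e2]
      show al m _ _ _ = al m ((z : K) * t) ((z : K) * (z : K) ^ 3 ^ (m + 1) * a)
        ((z : K) ^ 2 * (z : K) ^ 3 ^ (m + 1) * v)
      rw [← ps_apply]
      congr 1
      field_simp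
    · show (0 : K) ^ 3 ^ (m + 1) = 0
      exact zero_pow (pow_ne_zero _ (by norm_num))
  have hk3 : ∀ z ∈ σ.ker, z ^ 3 = 1 := by
    intro z hz
    have := pow_card_eq_one' (G := σ.ker) (x := ⟨z, hz⟩)
    rw [hcard] at this
    exact congrArg Subtype.val this
  have hidx : ¬ 3 ∣ ((UG (K := K) m).comap σ).index := by
    rw [Subgroup.index_comap_of_surjective _ hs]
    exact not_dvd_index_UG m hK
  have hker : σ.ker = ⊥ := by
    rw [eq_bot_iff]
    intro z hz
    rw [Subgroup.mem_bot]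
    have hzK : z ∈ (UG (K := K) m).comap σ := by
      show σ z ∈ UG m
      rw [MonoidHom.mem_ker.mp hz]
      exact (UG m).one_mem
    have h1 := pow_index_mem_commutator ((UG (K := K) m).comap σ) z (hc hz) (hd hz)
      (((UG (K := K) m).comap σ).pow_mem hzK _)
    have h0 : z ^ ((UG (K := K) m).comap σ).index = 1 := by
      refine S.core h3 (3 ^ (m + 1)) (Nat.one_le_pow _ _ (by norm_num)) (fun x => rfl) ?_ ?_ ?_ ?_ ?_ hk3
        (UG m) (mem_UG m hq) _ (σ.ker.pow_mem hz _) (((UG (K := K) m).comap σ).pow_mem hzK _) h1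
      · intro x y
        show (x + y) ^ 3 ^ (m + 1) = x ^ 3 ^ (m + 1) + y ^ 3 ^ (m + 1)
        rw [← ps_apply, ← ps_apply, ← ps_apply, map_add]
      · intro x
        show (x ^ 3 ^ (m + 1)) ^ 3 ^ (m + 1) = x ^ 3
        rw [← ps_apply, ← ps_apply, ps_ps m hq]
      · rw [hK]; exact arith_ree m hm
      · rw [hK]
        have := pow_ge_twenty_seven hm
        omega
      · rw [Nat.card_units, Nat.card_eq_fintype_card, hK]
        have h27 := pow_ge_twenty_seven hm
        have : 3 ^ (2 * m + 1) - 1 + 1 = 3 ^ (2 * m + 1) := by omega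
        rw [this, pow_succ]
        exact Dvd.intro_left _ rfl
    have ho1 : orderOf z ∣ 3 := orderOf_dvd_of_pow_eq_one (hk3 z hz)
    have ho2 : orderOf z ∣ ((UG (K := K) m).comap σ).index := orderOf_dvd_of_pow_eq_one h0
    have ho3 : orderOf z = 1 := by
      rcases (Nat.dvd_prime Nat.prime_three).mp ho1 with h | h
      · exact h
      · rw [h] at ho2
        exact absurd ho2 hidx
    exact orderOf_eq_one_iff.mp ho3
  rw [hker] at hcard
  have : Nat.card (⊥ : Subgroup Γ) = 1 := Subgroup.card_bot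
  rw [this] at hcard
  exact absurd hcard (by norm_num)

end ree

end Cfsg.Agent.Lib.Helper1.SM4
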