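import Mathlib
import Cfsg.Agent.Lib.Helper4.StemLib7
import Cfsg.Agent.Lib.Helper4.StemLib2

/-!
Schur multiplier of the Ree groups `²G₂(q)`, part f: the prime `2`.

A finite group with elementary abelian Sylow `2`-subgroups of order `8` and a single class of involutions
has no stem extension with kernel of order `2`.
-/

set_option autoImplicit false
set_option maxHeartbeats 4000000
set_option linter.unusedVariables false
set_option linter.unusedSectionVars false
set_option linter.style.longLine false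
set_option linter.unusedSimpArgs false

namespace Cfsg.Agent.Lib.Helper1.SM4

open Cfsg Cfsg.Agent.Lib.Helper4.Stem
open scoped commutatorElement

universe u

theorem exists_not_mem_of_card {α : Type*} [Finite α] (L : List α) (h : L.length < Nat.card α) :
    ∃ x : α, x ∉ L := by
  classical
  haveI := Fintype.ofFinite α
  by_contra hcon
  push_neg at hcon
  have h1 : Fintype.card α ≤ L.toFinset.card := by
    rw [← Finset.card_univ]
    apply Finset.card_le_card
    intro x _
    exact List.mem_toFinset.mpr (hcon x)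
  have h2 := List.toFinset_card_le L
  rw [Nat.card_eq_fintype_card] at h
  omega

theorem noStemPrime_two_of_elem8 {G : Type u} [Group G] [Finite G] (S : Sylow 2 G)
    (hS8 : Nat.card S = 8) (hS2 : ∀ x ∈ S, x * x = 1)
    (a₀ : G) (hconj : ∀ x : G, x * x = 1 → x ≠ 1 → ∃ g, x = g * a₀ * g⁻¹) :
    NoStemPrime G 2 := by
  haveI : Fact (Nat.Prime 2) := ⟨Nat.prime_two⟩
  intro Γ _ _ σ hσ hcard
  obtain ⟨hs, hc, hd⟩ := hσ
  have hk2 : ∀ z ∈ σ.ker, z * z = 1 := by
    intro z hz
    have h1 := pow_card_eq_one' (G := σ.ker) (x := ⟨z, hz⟩)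
    rw [hcard] at h1
    have h2 := congrArg Subtype.val h1
    rw [Subgroup.coe_pow, Subgroup.coe_one, pow_two] at h2
    exact h2
  have hcen : ∀ z ∈ σ.ker, ∀ g : Γ, g * z = z * g :=
    fun z hz g => Subgroup.mem_center_iff.mp (hc hz) g
  -- three independent elements of `S`
  obtain ⟨s, hs1⟩ := exists_not_mem_of_card ([1] : List S) (by rw [hS8]; simp)
  obtain ⟨t, ht⟩ := exists_not_mem_of_card ([1, s] : List S) (by rw [hS8]; simp)
  obtain ⟨w, hw⟩ := exists_not_mem_of_card ([1, s, t, s * t] : List S) (by rw [hS8]; simp)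
  simp only [List.mem_cons, List.mem_singleton, List.not_mem_nil, or_false, not_or] at hs1 ht hw
  obtain ⟨ht1, hts⟩ := ht
  obtain ⟨hw1, hws, hwt, hwst⟩ := hw
  have hne : ∀ x : S, x ≠ 1 → (x : G) ≠ 1 := fun x hx h => hx (Subtype.ext h)
  have hsq : ∀ x : S, (x : G) * (x : G) = 1 := fun x => hS2 _ x.2
  have hinvS : ∀ x : S, x⁻¹ = x := by
    intro x
    apply inv_eq_of_mul_eq_one_right
    exact Subtype.ext (hsq x)
  -- `a₀` is an involution
  have ha₀ : a₀ * a₀ = 1 := by
    obtain ⟨g, hg⟩ := hconj (s : G) (hsq s) (hne s hs1)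
    have e : a₀ = g⁻¹ * (s : G) * g := by rw [hg]; group
    calc a₀ * a₀ = g⁻¹ * ((s : G) * (s : G)) * g := by rw [e]; group
      _ = 1 := by rw [hsq s]; group
  obtain ⟨A0, hA0⟩ := hs a₀
  have hw₀ : A0 * A0 ∈ σ.ker := by
    rw [MonoidHom.mem_ker, map_mul, hA0, ha₀]
  -- all squares over nontrivial elements of `S` are equal
  have hsqΓ : ∀ a : Γ, σ a ∈ S → σ a ≠ 1 → a * a = A0 * A0 := by
    intro a haS ha1
    obtain ⟨g, hg⟩ := hconj (σ a) (hS2 _ haS) ha1
    obtain ⟨g', hg'⟩ := hs g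
    have hk : (g' * A0 * g'⁻¹)⁻¹ * a ∈ σ.ker := by
      rw [MonoidHom.mem_ker, map_mul, map_inv, map_mul, map_mul, map_inv, hg', hA0, ← hg,
        inv_mul_cancel]
    have e : a = g' * A0 * g'⁻¹ * ((g' * A0 * g'⁻¹)⁻¹ * a) := by group
    have c1 := hcen _ hk (g' * A0 * g'⁻¹)
    have c2 := hcen _ hw₀ g'
    have hmul_sq : ∀ c k : Γ, c * k = k * c → (c * k) * (c * k) = (c * c) * (k * k) := by
      intro c k h
      calc (c * k) * (c * k) = c * (k * c) * k := by group
        _ = c * (c * k) * k := by rw [h]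
        _ = (c * c) * (k * k) := by group
    calc a * a = (g' * A0 * g'⁻¹ * ((g' * A0 * g'⁻¹)⁻¹ * a))
          * (g' * A0 * g'⁻¹ * ((g' * A0 * g'⁻¹)⁻¹ * a)) := by rw [← e]
      _ = (g' * A0 * g'⁻¹) * (g' * A0 * g'⁻¹) * (((g' * A0 * g'⁻¹)⁻¹ * a)
          * ((g' * A0 * g'⁻¹)⁻¹ * a)) := hmul_sq _ _ c1
      _ = g' * A0 * g'⁻¹ * (g' * A0 * g'⁻¹) := by rw [hk2 _ hk, mul_one]
      _ = g' * (A0 * A0) * g'⁻¹ := by group
      _ = A0 * A0 := by rw [c2, mul_inv_cancel_right]
  -- the preimage of `S` is abelian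
  have hab : ∀ a b : (S : Subgroup G).comap σ, a * b = b * a := by
    by_cases hw1' : A0 * A0 = 1
    · have hexp : ∀ a : Γ, σ a ∈ S → a * a = 1 := by
        intro a ha
        by_cases h1 : σ a = 1
        · exact hk2 a (MonoidHom.mem_ker.mpr h1)
        · rw [hsqΓ a ha h1, hw1']
      intro a b
      apply Subtype.ext
      show (a : Γ) * (b : Γ) = (b : Γ) * (a : Γ)
      have ha : (a : Γ)⁻¹ = a := inv_eq_of_mul_eq_one_right (hexp _ a.2)
      have hb : (b : Γ)⁻¹ = b := inv_eq_of_mul_eq_one_right (hexp _ b.2)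
      have habm : σ ((a : Γ) * (b : Γ)) ∈ S := (a * b).2
      have hab' : ((a : Γ) * (b : Γ))⁻¹ = (a : Γ) * (b : Γ) :=
        inv_eq_of_mul_eq_one_right (hexp _ habm)
      calc (a : Γ) * (b : Γ) = ((a : Γ) * (b : Γ))⁻¹ := hab'.symm
        _ = (b : Γ)⁻¹ * (a : Γ)⁻¹ := mul_inv_rev _ _
        _ = (b : Γ) * (a : Γ) := by rw [ha, hb]
    · exfalso
      obtain ⟨z, hzdef⟩ : ∃ z, z = A0 * A0 := ⟨_, rfl⟩
      rw [← hzdef] at hw1' hw₀ hsqΓ
      have hzz : z * z = 1 := hk2 z hw₀
      have hzc := hcen z hw₀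
      -- commutators of independent elements
      have hcomm : ∀ p q : Γ, σ p ∈ S → σ q ∈ S → σ p ≠ 1 → σ q ≠ 1 → σ (p * q) ≠ 1 →
          ⁅p, q⁆ = z := by
        intro p q hp hq hp1 hq1 hpq1
        have hpq : σ (p * q) ∈ S := by rw [map_mul]; exact mul_mem hp hq
        have e1 := hsqΓ p hp hp1
        have e2 := hsqΓ q hq hq1
        have e3 := hsqΓ (p * q) hpq hpq1
        have ip : p⁻¹ = p * z := by
          apply inv_eq_of_mul_eq_one_right
          rw [← mul_assoc, e1, hzz]
        have iq : q⁻¹ = q * z := by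
          apply inv_eq_of_mul_eq_one_right
          rw [← mul_assoc, e2, hzz]
        calc ⁅p, q⁆ = p * q * (p * z) * (q * z) := by rw [commutatorElement_def, ip, iq]
          _ = p * q * p * (z * q) * z := by group
          _ = p * q * p * (q * z) * z := by rw [hzc q]
          _ = (p * q) * (p * q) * (z * z) := by group
          _ = z := by rw [e3, hzz, mul_one]
      obtain ⟨a, ha⟩ := hs (s : G)
      obtain ⟨b, hb⟩ := hs (t : G)
      obtain ⟨c, hc'⟩ := hs (w : G)
      have haS : σ a ∈ S := by rw [ha]; exact s.2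
      have hbS : σ b ∈ S := by rw [hb]; exact t.2
      have hcS : σ c ∈ S := by rw [hc']; exact w.2
      have ha1 : σ a ≠ 1 := by rw [ha]; exact hne s hs1
      have hb1 : σ b ≠ 1 := by rw [hb]; exact hne t ht1
      have hc1 : σ c ≠ 1 := by rw [hc']; exact hne w hw1
      have hmulne : ∀ x y : S, y ≠ x → (x : G) * (y : G) ≠ 1 := by
        intro x y hxy h
        apply hxy
        have : x * y = 1 := Subtype.ext h
        have h2 : y = x⁻¹ := eq_inv_of_mul_eq_one_right this
        rw [h2, hinvS]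
      have hac : σ (a * c) ≠ 1 := by rw [map_mul, ha, hc']; exact hmulne s w hws
      have hbc : σ (b * c) ≠ 1 := by rw [map_mul, hb, hc']; exact hmulne t w hwt
      have hab1 : σ (a * b) ≠ 1 := by rw [map_mul, ha, hb]; exact hmulne s t hts
      have habc : σ (a * b * c) ≠ 1 := by
        rw [map_mul, map_mul, ha, hb, hc']
        exact hmulne (s * t) w hwst
      have habS : σ (a * b) ∈ S := by rw [map_mul]; exact mul_mem haS hbS
      have k1 := hcomm a c haS hcS ha1 hc1 hac
      have k2 := hcomm b c hbS hcS hb1 hc1 hbc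
      have k3 := hcomm (a * b) c habS hcS hab1 hc1 habc
      have i : ⁅a * b, c⁆ = a * ⁅b, c⁆ * a⁻¹ * ⁅a, c⁆ := by
        simp only [commutatorElement_def]; group
      rw [i, k1, k2, hzc a, mul_inv_cancel_right, hzz] at k3
      exact hw1' k3.symm
  -- conclusion
  have hker : σ.ker = ⊥ := by
    rw [eq_bot_iff]
    intro z hz
    rw [Subgroup.mem_bot]
    have h1 := pow_index_eq_one_of_abelian_sylow ((S : Subgroup G).comap σ) hab z (hc hz) (hd hz)
    rw [Subgroup.index_comap_of_surjective _ hs] at h1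
    have hodd : ¬ 2 ∣ (S : Subgroup G).index := S.not_dvd_index
    obtain ⟨k, hk⟩ : ∃ k, (S : Subgroup G).index = 2 * k + 1 :=
      ⟨(S : Subgroup G).index / 2, by omega⟩
    have hz2 : z ^ 2 = 1 := by rw [pow_two]; exact hk2 z hz
    rw [hk, pow_succ, pow_mul, hz2, one_pow, one_mul] at h1
    exact h1
  rw [hker] at hcard
  have : Nat.card (⊥ : Subgroup Γ) = 1 := Subgroup.card_bot
  rw [this] at hcard
  exact absurd hcard (by norm_num)

end Cfsg.Agent.Lib.Helper1.SM4
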