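import Mathlib
import Cfsg.Agent.Lib.Helper4.Suz11

/-!
Schur multiplier of the Ree groups `²G₂(q)`, part g: linear algebra.

A `p`-group of linear maps on a `7`-dimensional space over `𝔽_q`, `p ∣ q² - q + 1`, `p ≠ 2, 3`, with a
central element of order `p`, is cyclic.
-/

set_option autoImplicit false
set_option maxHeartbeats 4000000
set_option linter.unusedVariables false
set_option linter.unusedSectionVars false
set_option linter.style.longLine false
set_option linter.unusedSimpArgs false

namespace Cfsg.Agent.Lib.Helper1.SM4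

open Cfsg.Agent.Lib.Helper4.Suz

theorem exp_cases6 {p q : ℕ} [Fact p.Prime] (hp2 : p ≠ 2) (hp3 : p ≠ 3)
    (hq : ((q : ZMod p)) ^ 2 - q + 1 = 0) {a b : ℕ}
    (hb : b ≤ a) (ha : a ≤ 7) (h : q ^ a ≡ q ^ b [MOD p]) : a = b ∨ a = b + 6 := by
  have h2 : (2 : ZMod p) ≠ 0 := by
    intro h2
    have : ((2 : ℕ) : ZMod p) = 0 := by exact_mod_cast h2
    rw [ZMod.natCast_eq_zero_iff] at this
    exact hp2 ((Nat.prime_dvd_prime_iff_eq Fact.out Nat.prime_two).mp this)
  have h3 : (3 : ZMod p) ≠ 0 := by
    intro h3
    have : ((3 : ℕ) : ZMod p) = 0 := by exact_mod_cast h3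
    rw [ZMod.natCast_eq_zero_iff] at this
    exact hp3 ((Nat.prime_dvd_prime_iff_eq Fact.out Nat.prime_three).mp this)
  obtain ⟨x, hxdef⟩ : ∃ x : ZMod p, x = (q : ZMod p) := ⟨_, rfl⟩
  rw [← hxdef] at hq
  have hx0 : x ≠ 0 := by
    intro h0
    rw [h0] at hq
    exact one_ne_zero (by linear_combination hq)
  have hx3 : x ^ 3 = -1 := by linear_combination (x + 1) * hq
  have hx1 : x ≠ 1 := by
    intro hk
    exact one_ne_zero (by linear_combination hq - x * hk)
  have h' : x ^ a = x ^ b := by
    have := (ZMod.natCast_eq_natCast_iff _ _ _).mpr h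
    rw [hxdef]
    exact_mod_cast this
  obtain ⟨k, rfl⟩ := Nat.exists_eq_add_of_le hb
  rw [pow_add] at h'
  have hk : x ^ k = 1 := by
    have hb0 : x ^ b ≠ 0 := pow_ne_zero _ hx0
    exact mul_left_cancel₀ hb0 (by rw [h', mul_one])
  have hk7 : k ≤ 7 := by omega
  interval_cases k
  · left; rfl
  · exfalso
    rw [pow_one] at hk
    exact hx1 hk
  · exfalso
    have hx2 : x = 2 := by linear_combination hk - hq
    rw [hx2] at hk
    exact h3 (by linear_combination hk)
  · exfalso
    exact h2 (by linear_combination hx3 - hk)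
  · exfalso
    have hm : x = -1 := by linear_combination -hk + x * hx3
    rw [hm] at hq
    exact h3 (by linear_combination hq)
  · exfalso
    have hm : x ^ 2 = -1 := by linear_combination -hk + x ^ 2 * hx3
    exact hx0 (by linear_combination hm - hq)
  · right; rfl
  · exfalso
    exact hx1 (by linear_combination hk - x * (x ^ 3 - 1) * hx3)

section dim7

variable {K V : Type*} [Field K] [Finite K] [AddCommGroup V] [Module K V] [Module.Finite K V]

theorem isCyclic_of_dim7 {p : ℕ} [Fact p.Prime] (hp2 : p ≠ 2) (hp3 : p ≠ 3)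
    (hq : ((Nat.card K : ℕ) : ZMod p) ^ 2 - ((Nat.card K : ℕ) : ZMod p) + 1 = 0)
    (hV : Module.finrank K V = 7)
    {C : Type*} [Group C] (hC : IsPGroup p C) (φ : C →* Module.End K V)
    (hφ : Function.Injective φ)
    (c₀ : C) (hc₀ : c₀ ≠ 1) (hc₀p : c₀ ^ p = 1) (hcomm : ∀ c, c₀ * c = c * c₀) : IsCyclic C := by
  obtain ⟨T, hTdef⟩ : ∃ T, T = φ c₀ := ⟨_, rfl⟩
  have hT : T ^ p = 1 := by rw [hTdef, ← map_pow, hc₀p, map_one]
  have hT1 : T ≠ 1 := by
    intro h
    apply hc₀
    apply hφ
    rw [← hTdef, h, map_one]
  have hTc : ∀ c, T * φ c = φ c * T := by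
    intro c
    rw [hTdef, ← map_mul, ← map_mul, hcomm]
  -- the fixed space of `T` is a line
  have hker1 : Module.finrank K (LinearMap.ker (T - 1)) = 1 := by
    have h1 := card_modEq_fixed (p := p) (n := 1) T (by simpa using hT)
    rw [hV] at h1
    have hle : Module.finrank K (LinearMap.ker (T - 1)) ≤ 7 := by
      rw [← hV]; exact Submodule.finrank_le _
    rcases exp_cases6 hp2 hp3 hq hle le_rfl h1 with h | h
    · exfalso
      apply hT1
      have htop : LinearMap.ker (T - 1) = ⊤ := by
        apply Submodule.eq_top_of_finrank_eq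
        rw [← h, hV]
      have : T - 1 = 0 := LinearMap.ker_eq_top.mp htop
      exact sub_eq_zero.mp this
    · omega
  -- the space `W`
  obtain ⟨W, hWdef⟩ : ∃ W : Submodule K V, W = LinearMap.range (T - 1) := ⟨_, rfl⟩
  have hW6 : Module.finrank K W = 6 := by
    have := LinearMap.finrank_range_add_finrank_ker (T - 1)
    rw [hV, hker1, ← hWdef] at this
    omega
  have hWT : ∀ v ∈ W, T v ∈ W := by
    intro v hv
    rw [hWdef] at hv ⊢
    obtain ⟨w, rfl⟩ := hv
    refine ⟨T w, ?_⟩
    simp [LinearMap.sub_apply]
  have hWc : ∀ c, ∀ v ∈ W, φ c v ∈ W := by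
    intro c v hv
    rw [hWdef] at hv ⊢
    obtain ⟨w, rfl⟩ := hv
    refine ⟨φ c w, ?_⟩
    have := congrArg (fun f : Module.End K V => f w) (hTc c)
    simp only [Module.End.mul_apply] at this
    simp [LinearMap.sub_apply, this]
  -- `T` restricted to `W` has no fixed points
  have hT' : (T.restrict hWT) ^ p ^ 1 = 1 := by
    rw [pow_one, Module.End.pow_restrict p hWT]
    ext x
    simp [hT]
  have hker' : LinearMap.ker (T.restrict hWT - 1) = ⊥ := by
    have h1 := card_modEq_fixed (p := p) (n := 1) (T.restrict hWT) hT'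
    rw [hW6] at h1
    have hle : Module.finrank K (LinearMap.ker (T.restrict hWT - 1)) ≤ 6 := by
      rw [← hW6]; exact Submodule.finrank_le _
    rcases exp_cases6 hp2 hp3 hq hle (by norm_num) h1 with h | h
    · exfalso
      have htop : LinearMap.ker (T.restrict hWT - 1) = ⊤ := by
        apply Submodule.eq_top_of_finrank_eq
        rw [← h, hW6]
      have hle2 : W ≤ LinearMap.ker (T - 1) := by
        intro v hv
        have hmem : (⟨v, hv⟩ : W) ∈ LinearMap.ker (T.restrict hWT - 1) := by
          rw [htop]; trivial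
        rw [LinearMap.mem_ker, LinearMap.sub_apply, sub_eq_zero] at hmem
        have h2 : T v = v := by
          have := congrArg Subtype.val hmem
          simpa using this
        rw [LinearMap.mem_ker, LinearMap.sub_apply, h2]
        simp
      have := Submodule.finrank_mono hle2
      rw [hW6, hker1] at this
      omega
    · apply Submodule.finrank_eq_zero.mp
      omega
  -- irreducibility
  have hirr : ∀ W' : Submodule K W, (∀ v ∈ W', (T.restrict hWT) v ∈ W') → W' = ⊥ ∨ W' = ⊤ := by
    intro W' hW'
    have hT'' : ((T.restrict hWT).restrict hW') ^ p ^ 1 = 1 := by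
      rw [pow_one, Module.End.pow_restrict p hW']
      have e : (T.restrict hWT) ^ p = 1 := by simpa using hT'
      ext x
      simp [e]
    have h1 := card_modEq_fixed (p := p) (n := 1) ((T.restrict hWT).restrict hW') hT''
    have hker'' : LinearMap.ker ((T.restrict hWT).restrict hW' - 1) = ⊥ := by
      rw [Submodule.eq_bot_iff]
      intro w hw
      rw [LinearMap.mem_ker, LinearMap.sub_apply, sub_eq_zero] at hw
      have h2 : (T.restrict hWT) (w : W) = w := by
        have := congrArg Subtype.val hw
        simpa using this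
      have h3 : (w : W) ∈ LinearMap.ker (T.restrict hWT - 1) := by
        rw [LinearMap.mem_ker, LinearMap.sub_apply, h2]; simp
      rw [hker', Submodule.mem_bot] at h3
      exact Subtype.ext h3
    rw [hker'', finrank_bot] at h1
    have hle : Module.finrank K W' ≤ 6 := by
      rw [← hW6]; exact Submodule.finrank_le _
    rcases exp_cases6 hp2 hp3 hq (Nat.zero_le _) (by omega) h1 with h | h
    · left; exact Submodule.finrank_eq_zero.mp h
    · right
      apply Submodule.eq_top_of_finrank_eq
      rw [h, hW6]
  -- the action on `W`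
  let ψ : C →* Module.End K W :=
    { toFun := fun c => (φ c).restrict (hWc c)
      map_one' := by
        ext x
        simp
      map_mul' := fun a b => by
        ext x
        simp [Module.End.mul_apply] }
  have hψ : Function.Injective ψ := by
    rw [injective_iff_map_eq_one]
    intro c hc
    apply hφ
    rw [map_one]
    obtain ⟨n, hn⟩ := hC c
    have hX : (φ c) ^ p ^ n = 1 := by rw [← map_pow, hn, map_one]
    have hfix : ∀ v ∈ W, φ c v = v := by
      intro v hv
      have := congrArg (fun f : Module.End K W => ((f ⟨v, hv⟩ : W) : V)) hc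
      simpa [ψ] using this
    have hle2 : W ≤ LinearMap.ker (φ c - 1) := by
      intro v hv
      rw [LinearMap.mem_ker, LinearMap.sub_apply, hfix v hv]
      simp
    have h6 := Submodule.finrank_mono hle2
    rw [hW6] at h6
    have h1 := card_modEq_fixed (p := p) (n := n) (φ c) hX
    rw [hV] at h1
    have hle : Module.finrank K (LinearMap.ker (φ c - 1)) ≤ 7 := by
      rw [← hV]; exact Submodule.finrank_le _
    rcases exp_cases6 hp2 hp3 hq hle le_rfl h1 with h | h
    · have htop : LinearMap.ker (φ c - 1) = ⊤ := by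
        apply Submodule.eq_top_of_finrank_eq
        rw [← h, hV]
      have : φ c - 1 = 0 := LinearMap.ker_eq_top.mp htop
      exact sub_eq_zero.mp this
    · omega
  have hcomm' : ∀ c, T.restrict hWT * ψ c = ψ c * T.restrict hWT := by
    intro c
    ext x
    have := congrArg (fun f : Module.End K V => f (x : V)) (hTc c)
    simp only [Module.End.mul_apply] at this
    simp [ψ, Module.End.mul_apply, this]
  haveI : Nontrivial W := Module.nontrivial_of_finrank_pos (R := K) (by rw [hW6]; norm_num)
  exact isCyclic_of_irreducible (T.restrict hWT) hirr ψ hψ hcomm'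

end dim7

end Cfsg.Agent.Lib.Helper1.SM4
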