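import Mathlib
import Cfsg.Agent.Lib.Helper1.SM4e
import Cfsg.Agent.Lib.Helper1.SM4f
import Cfsg.Agent.Lib.Helper1.SM4g
import Cfsg.Agent.Lib.Helper1.SM2c
import Cfsg.Agent.Lib.Helper4.SLCard
import Cfsg.Agent.Lib.Helper5.SL2Cyclic
import Cfsg.Agent.Lib.Helper5.ReeCent.CentE2
import Cfsg.Agent.Lib.Helper5.ReeCent.CentE1

/-!
Schur multiplier of the Ree groups `²G₂(q)`, part h: the odd primes different from `3`, the prime `2`, and
the final theorem.
-/

set_option autoImplicit false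
set_option maxHeartbeats 4000000
set_option linter.unusedVariables false
set_option linter.unusedSectionVars false
set_option linter.style.longLine false
set_option linter.unusedSimpArgs false

namespace Cfsg.Agent.Lib.Helper1.SM4

open Cfsg Cfsg.Lie Cfsg.Agent.Lib.Helper1.SM2 Cfsg.Agent.Lib.Helper1.SM3 Cfsg.Agent.Lib.Helper4.Stem
  Cfsg.Agent.Lib.Helper5.ChevSym Cfsg.Agent.Lib.Helper5.ChevSymP Cfsg.Agent.Lib.Helper5.ChevStruct
  Cfsg.Agent.Lib.Helper5.Ree Cfsg.Agent.Lib.Helper5.ReeCent Cfsg.Agent.Lib.Helper5.ReeTori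
open scoped commutatorElement

universe u

section arith

theorem cube_add_one (Q : ℕ) (hQ : 1 ≤ Q) : Q ^ 3 + 1 = (Q + 1) * (Q * (Q - 1) + 1) := by
  obtain ⟨k, rfl⟩ : ∃ k, Q = k + 1 := ⟨Q - 1, by omega⟩
  have : k + 1 - 1 = k := by omega
  rw [this]
  ring

theorem order_split (Q : ℕ) (hQ : 1 ≤ Q) :
    Q ^ 3 * (Q - 1) * (Q ^ 3 + 1) = Q * (Q ^ 2 - 1) * (Q ^ 2 * (Q * (Q - 1) + 1)) := by
  rw [cube_add_one Q hQ]
  obtain ⟨k, rfl⟩ : ∃ k, Q = k + 1 := ⟨Q - 1, by omega⟩
  have h1 : k + 1 - 1 = k := by omega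
  have h2 : (k + 1) ^ 2 - 1 = k * (k + 2) := by
    have : (k + 1) ^ 2 = k * (k + 2) + 1 := by ring
    rw [this]; omega
  rw [h1, h2]
  ring

theorem not_dvd_of_dvd_succ (Q p : ℕ) (hp : p.Prime) (hp3 : p ≠ 3) (hQ : 2 ≤ Q) (hpQ : ¬ p ∣ Q)
    (hd : p ∣ Q + 1) : ¬ p ∣ Q ^ 2 * (Q * (Q - 1) + 1) := by
  intro h
  rcases (Nat.Prime.dvd_mul hp).mp h with h | h
  · exact hpQ (hp.dvd_of_dvd_pow h)
  · obtain ⟨k, rfl⟩ : ∃ k, Q = k + 2 := ⟨Q - 2, by omega⟩
    have h1 : k + 2 - 1 = k + 1 := by omega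
    rw [h1] at h
    have e : (k + 2) * (k + 1) + 1 = (k + 2 + 1) * k + 3 := by ring
    rw [e] at h
    have h3 : p ∣ 3 := (Nat.dvd_add_right (Dvd.dvd.mul_right hd k)).mp h
    exact hp3 ((Nat.prime_dvd_prime_iff_eq hp Nat.prime_three).mp h3)

end arith

section gen

/-- if a cyclic subgroup has index prime to `p`, all Sylow `p`-subgroups are cyclic -/
theorem sylow_isCyclic_of_cyclic_subgroup {G : Type*} [Group G] [Finite G] (p : ℕ) [Fact p.Prime]
    (H : Subgroup G) [IsCyclic H] (hidx : ¬ p ∣ H.index) (P : Sylow p G) :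
    IsCyclic (P : Subgroup G) := by
  have hPg : IsPGroup p (P : Subgroup G) := P.isPGroup'
  have hcard : ¬ p ∣ Nat.card (G ⧸ H) := hidx
  obtain ⟨a, ha⟩ := hPg.nonempty_fixed_point_of_prime_not_dvd_card (G ⧸ H) hcard
  obtain ⟨g, rfl⟩ := QuotientGroup.mk_surjective a
  have hmem : ∀ x : (P : Subgroup G), g⁻¹ * (x : G) * g ∈ H := by
    intro x
    have h1 : x⁻¹ • (g : G ⧸ H) = (g : G ⧸ H) := ha x⁻¹
    have h2 : ((((x⁻¹ : (P : Subgroup G)) : G) * g : G) : G ⧸ H) = (g : G ⧸ H) := h1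
    rw [QuotientGroup.eq] at h2
    have e : ((((x⁻¹ : (P : Subgroup G)) : G) * g)⁻¹ * g) = g⁻¹ * (x : G) * g := by
      rw [Subgroup.coe_inv]; group
    rw [e] at h2
    exact h2
  let f : (P : Subgroup G) →* H :=
    { toFun := fun x => ⟨g⁻¹ * (x : G) * g, hmem x⟩
      map_one' := by
        apply Subtype.ext
        show g⁻¹ * ((1 : (P : Subgroup G)) : G) * g = 1
        rw [Subgroup.coe_one]; group
      map_mul' := fun x y => by
        apply Subtype.ext
        show g⁻¹ * ((x * y : (P : Subgroup G)) : G) * g = (g⁻¹ * (x : G) * g) * (g⁻¹ * (y : G) * g)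
        rw [Subgroup.coe_mul]; group }
  have hf : Function.Injective f := by
    intro x y hxy
    have h1 : g⁻¹ * (x : G) * g = g⁻¹ * (y : G) * g := congrArg Subtype.val hxy
    apply Subtype.ext
    have h2 : (x : G) = g * (g⁻¹ * (x : G) * g) * g⁻¹ := by group
    rw [h2, h1]; group
  exact isCyclic_of_injective f hf

end gen

section ree

variable {K : Type u} [Field K] [Fintype K] [CharP K 3] (m : ℕ)

theorem card_I7 : Fintype.card {i : chevG2.Idx // ¬ isQ i} = 7 := by decide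

theorem twisted_le_group (hq : ∀ x : K, x ^ 3 ^ (2 * m + 1) = x) :
    twistedG2 K (3 ^ m) ≤ chevG2.group K :=
  fun g hg => ((mem_fixG m g).mp (twisted_le_fixG m hq hg)).1

/-- the `7`-dimensional representation of the Ree group -/
noncomputable def linRep (hq : ∀ x : K, x ^ 3 ^ (2 * m + 1) = x) :
    ↥(twistedG2 K (3 ^ m)) →* Module.End K ({i : chevG2.Idx // ¬ isQ i} → K) :=
  (MonoidHomClass.toMonoidHom
    (Matrix.toLinAlgEquiv' (R := K) (n := {i : chevG2.Idx // ¬ isQ i}))).comp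
    ((iRep (K := K)).comp (Subgroup.inclusion (twisted_le_group m hq)))

theorem linRep_injective (hq : ∀ x : K, x ^ 3 ^ (2 * m + 1) = x) :
    Function.Injective (linRep (K := K) m hq) := by
  intro a b hab
  have h1 : (Matrix.toLinAlgEquiv' (R := K) (n := {i : chevG2.Idx // ¬ isQ i}))
      (iRep (Subgroup.inclusion (twisted_le_group m hq) a))
      = (Matrix.toLinAlgEquiv' (R := K) (n := {i : chevG2.Idx // ¬ isQ i}))
      (iRep (Subgroup.inclusion (twisted_le_group m hq) b)) := hab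
  have h2 := iRep_injective ((Matrix.toLinAlgEquiv' (R := K)
    (n := {i : chevG2.Idx // ¬ isQ i})).injective h1)
  exact Subgroup.inclusion_injective _ h2

/-- Sylow subgroups for primes dividing `q² - q + 1` are cyclic -/
theorem isCyclic_sylow_of_dvd (hK : Fintype.card K = 3 ^ (2 * m + 1)) (r : ℕ) [hr : Fact r.Prime]
    (hr3 : r ≠ 3) (hrd : r ∣ 3 ^ (2 * m + 1) * (3 ^ (2 * m + 1) - 1) + 1)
    (P : Sylow r ↥(twistedG2 K (3 ^ m))) : IsCyclic P := by
  have hq := pow_card_eq hK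
  obtain ⟨Q, hQ⟩ : ∃ Q, Q = 3 ^ (2 * m + 1) := ⟨_, rfl⟩
  rw [← hQ] at hrd
  have hQ1 : 1 ≤ Q := by rw [hQ]; exact Nat.one_le_pow _ _ (by norm_num)
  have hr2 : r ≠ 2 := by
    intro h
    rw [h] at hrd
    obtain ⟨k, hk⟩ := Nat.even_mul_pred_self Q
    rw [hk] at hrd
    omega
  by_cases htriv : Nat.card P = 1
  · haveI : Subsingleton P := (Nat.card_eq_one_iff_unique.mp htriv).1
    exact isCyclic_of_subsingleton
  · have hPg : IsPGroup r P := P.isPGroup'
    haveI : Nontrivial P := by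
      rw [← Finite.one_lt_card_iff_nontrivial]
      have : Nat.card P ≠ 0 := Nat.card_pos.ne'
      omega
    haveI hcn : Nontrivial (Subgroup.center P) := hPg.center_nontrivial
    have hrc : r ∣ Nat.card (Subgroup.center P) := by
      obtain ⟨k, hk⟩ := IsPGroup.iff_card.mp (hPg.to_subgroup (Subgroup.center P))
      have h1 : 1 < Nat.card (Subgroup.center P) := Finite.one_lt_card_iff_nontrivial.mpr hcn
      rw [hk] at h1 ⊢
      have hk0 : k ≠ 0 := by
        rintro rfl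
        simp at h1
      exact dvd_pow_self r hk0
    obtain ⟨x, hx⟩ := exists_prime_orderOf_dvd_card' r hrc
    have hx1 : (x : P) ≠ 1 := by
      intro h
      have : x = 1 := Subtype.ext h
      rw [this, orderOf_one] at hx
      exact hr.out.one_lt.ne hx
    have hxr : (x : P) ^ r = 1 := by
      have := pow_orderOf_eq_one x
      rw [hx] at this
      exact congrArg Subtype.val this
    have hxc : ∀ c : P, (x : P) * c = c * (x : P) := fun c =>
      (Subgroup.mem_center_iff.mp x.2 c).symm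
    have hq' : ((Nat.card K : ℕ) : ZMod r) ^ 2 - ((Nat.card K : ℕ) : ZMod r) + 1 = 0 := by
      rw [Nat.card_eq_fintype_card, hK, ← hQ]
      have h0 : ((Q * (Q - 1) + 1 : ℕ) : ZMod r) = 0 := (ZMod.natCast_eq_zero_iff _ _).mpr hrd
      rw [Nat.cast_add, Nat.cast_mul, Nat.cast_sub hQ1, Nat.cast_one] at h0
      linear_combination h0
    have hV : Module.finrank K ({i : chevG2.Idx // ¬ isQ i} → K) = 7 := by
      rw [Module.finrank_fintype_fun_eq_card, card_I7]
    let φ : ↥(P : Subgroup ↥(twistedG2 K (3 ^ m))) →* Module.End K ({i : chevG2.Idx // ¬ isQ i} → K) :=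
      (linRep m hq).comp (P : Subgroup ↥(twistedG2 K (3 ^ m))).subtype
    have hφ : Function.Injective φ := fun a b hab => Subtype.ext (linRep_injective m hq hab)
    exact isCyclic_of_dim7 hr2 hr3 hq' hV hPg φ hφ (x : P) hx1 hxr hxc

/-- primes dividing `q + 1`: a cyclic subgroup of index prime to `p` -/
theorem exists_cyclic_of_dvd_succ (hm : 1 ≤ m) (hK : Fintype.card K = 3 ^ (2 * m + 1)) (p : ℕ)
    (hp : p.Prime) (hp2 : p ≠ 2) (hp3 : p ≠ 3) (hd : p ∣ 3 ^ (2 * m + 1) + 1) :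
    ∃ H : Subgroup ↥(twistedG2 K (3 ^ m)), IsCyclic H ∧ ¬ p ∣ H.index := by
  have hq := pow_card_eq hK
  haveI : Fact p.Prime := ⟨hp⟩
  obtain ⟨Q, hQ⟩ : ∃ Q, Q = 3 ^ (2 * m + 1) := ⟨_, rfl⟩
  have hQ27 : 27 ≤ Q := by rw [hQ]; exact pow_ge_twenty_seven hm
  have hpQ : ¬ p ∣ Q := by
    intro h
    rw [hQ] at h
    exact hp3 ((Nat.prime_dvd_prime_iff_eq hp Nat.prime_three).mp (hp.dvd_of_dvd_pow h))
  obtain ⟨Φ, hu, hl⟩ := exists_hom (K := K) m hq
  have hker := hom_ker_le m hq Φ hu hl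
  obtain ⟨Qs⟩ : Nonempty (Sylow p (Matrix.SpecialLinearGroup (Fin 2) K)) := inferInstance
  have hpK : (p : K) ≠ 0 := by
    intro h
    rw [CharP.cast_eq_zero_iff K 3] at h
    exact hp3 ((Nat.prime_dvd_prime_iff_eq Nat.prime_three hp).mp h).symm
  haveI hcyc : IsCyclic (Qs : Subgroup (Matrix.SpecialLinearGroup (Fin 2) K)) :=
    Cfsg.Agent.Lib.Helper5.SL2Cyclic.isCyclic_of_isPGroup p hp2 hpK
      (Qs : Subgroup (Matrix.SpecialLinearGroup (Fin 2) K)) Qs.isPGroup'
  -- the image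
  have hsurj : Function.Surjective (Φ.subgroupMap (Qs : Subgroup (Matrix.SpecialLinearGroup (Fin 2) K))) :=
    Φ.subgroupMap_surjective _
  have hcycH : IsCyclic ((Qs : Subgroup (Matrix.SpecialLinearGroup (Fin 2) K)).map Φ) :=
    isCyclic_of_surjective _ hsurj
  have hinj : Function.Injective (Φ.subgroupMap (Qs : Subgroup (Matrix.SpecialLinearGroup (Fin 2) K))) := by
    rw [injective_iff_map_eq_one]
    intro x hx
    have hx1 : Φ (x : Matrix.SpecialLinearGroup (Fin 2) K) = 1 := by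
      have := congrArg Subtype.val hx
      exact this
    have hxc := hker (MonoidHom.mem_ker.mpr hx1)
    obtain ⟨l, hl2, hlx⟩ := Matrix.SpecialLinearGroup.mem_center_iff.mp hxc
    have hx2 : (x : Matrix.SpecialLinearGroup (Fin 2) K) ^ 2 = 1 := by
      apply Subtype.ext
      rw [Matrix.SpecialLinearGroup.coe_pow, ← hlx, ← map_pow]
      have : Fintype.card (Fin 2) = 2 := by simp
      rw [this] at hl2
      rw [hl2, map_one]
      rfl
    obtain ⟨k, hk⟩ := Qs.isPGroup' x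
    have hk' : (x : Matrix.SpecialLinearGroup (Fin 2) K) ^ p ^ k = 1 := by
      have := congrArg Subtype.val hk
      exact this
    have hcop : Nat.Coprime (p ^ k) 2 :=
      Nat.Coprime.pow_left k ((Nat.coprime_primes hp Nat.prime_two).mpr hp2)
    have := pow_gcd_eq_one.mpr ⟨hk', hx2⟩
    rw [hcop, pow_one] at this
    exact Subtype.ext this
  have hcardH : Nat.card ((Qs : Subgroup (Matrix.SpecialLinearGroup (Fin 2) K)).map Φ)
      = p ^ (Q * (Q ^ 2 - 1)).factorization p := by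
    rw [← Nat.card_congr (Equiv.ofBijective _ ⟨hinj, hsurj⟩), Sylow.card_eq_multiplicity,
      Cfsg.Agent.Lib.Helper4.card_SL2, hK, ← hQ]
  refine ⟨(Qs : Subgroup (Matrix.SpecialLinearGroup (Fin 2) K)).map Φ, hcycH, ?_⟩
  have h1 := ((Qs : Subgroup (Matrix.SpecialLinearGroup (Fin 2) K)).map Φ).card_mul_index
  rw [hcardH, card_twistedG2_eq m hK, ← hQ, order_split Q (by omega)] at h1
  have hQ2 : Q ^ 2 - 1 ≠ 0 := by
    have : 27 ^ 2 ≤ Q ^ 2 := Nat.pow_le_pow_left hQ27 2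
    omega
  have hA : Q * (Q ^ 2 - 1) ≠ 0 := mul_ne_zero (by omega) hQ2
  have hB : Q ^ 2 * (Q * (Q - 1) + 1) ≠ 0 := mul_ne_zero (pow_ne_zero 2 (by omega)) (by omega)
  have hidx0 : ((Qs : Subgroup (Matrix.SpecialLinearGroup (Fin 2) K)).map Φ).index ≠ 0 :=
    Subgroup.index_ne_zero_of_finite
  have hfac := congrArg (fun n => n.factorization p) h1
  beta_reduce at hfac
  rw [Nat.factorization_mul (pow_ne_zero _ hp.ne_zero) hidx0, Nat.factorization_mul hA hB,
    Finsupp.add_apply, Finsupp.add_apply, Nat.Prime.factorization_pow hp, Finsupp.single_eq_same,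
    Nat.factorization_eq_zero_of_not_dvd (not_dvd_of_dvd_succ Q p hp hp3 (by omega) hpQ
      (by rw [hQ]; exact hd))] at hfac
  have hz : ((Qs : Subgroup (Matrix.SpecialLinearGroup (Fin 2) K)).map Φ).index.factorization p = 0 := by
    omega
  rcases (Nat.factorization_eq_zero_iff _ _).mp hz with h | h | h
  · exact absurd hp h
  · exact h
  · exact absurd h hidx0

/-- for every prime `p > 3` there is a cyclic subgroup of index prime to `p` -/
theorem exists_cyclic_ree (hm : 1 ≤ m) (hK : Fintype.card K = 3 ^ (2 * m + 1)) (p : ℕ)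
    (hp : p.Prime) (hp2 : p ≠ 2) (hp3 : p ≠ 3) :
    ∃ H : Subgroup ↥(twistedG2 K (3 ^ m)), IsCyclic H ∧ ¬ p ∣ H.index := by
  have hq := pow_card_eq hK
  by_cases hdvd : p ∣ Nat.card ↥(twistedG2 K (3 ^ m))
  · rw [card_twistedG2_eq m hK] at hdvd
    have hQ1 : 1 ≤ 3 ^ (2 * m + 1) := Nat.one_le_pow _ _ (by norm_num)
    rcases (Nat.Prime.dvd_mul hp).mp hdvd with h | h
    · rcases (Nat.Prime.dvd_mul hp).mp h with h | h
      · exfalso
        exact hp3 ((Nat.prime_dvd_prime_iff_eq hp Nat.prime_three).mp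
          (hp.dvd_of_dvd_pow (hp.dvd_of_dvd_pow h)))
      · refine ⟨H0 (K := K) m, isCyclic_H0 m hq, ?_⟩
        rw [index_H0 m hK]
        exact not_dvd_of_dvd_pred _ p hp hp2 hQ1 h
    · rw [cube_add_one _ hQ1] at h
      rcases (Nat.Prime.dvd_mul hp).mp h with h | h
      · exact exists_cyclic_of_dvd_succ m hm hK p hp hp2 hp3 h
      · haveI : Fact p.Prime := ⟨hp⟩
        obtain ⟨P⟩ : Nonempty (Sylow p ↥(twistedG2 K (3 ^ m))) := inferInstance
        exact ⟨(P : Subgroup ↥(twistedG2 K (3 ^ m))), isCyclic_sylow_of_dvd m hK p hp3 h P,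
          P.not_dvd_index⟩
  · refine ⟨⊥, inferInstance, ?_⟩
    rw [Subgroup.index_bot]
    exact hdvd

/-- Sylow `p`-subgroups of the Ree groups are cyclic for `p > 3` -/
theorem sylow_isCyclic_ree (hm : 1 ≤ m) (hK : Fintype.card K = 3 ^ (2 * m + 1)) (p : ℕ)
    [hp : Fact p.Prime] (hp3 : 3 < p) (P : Sylow p ↥(twistedG2 K (3 ^ m))) :
    IsCyclic (P : Subgroup ↥(twistedG2 K (3 ^ m))) := by
  obtain ⟨H, hH, hidx⟩ := exists_cyclic_ree m hm hK p hp.out (by omega) (by omega)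
  haveI := hH
  exact sylow_isCyclic_of_cyclic_subgroup p H hidx P

/-- the prime `2` -/
theorem noStemPrime_two_ree (hm : 1 ≤ m) (hK : Fintype.card K = 3 ^ (2 * m + 1)) :
    NoStemPrime ↥(twistedG2 K (3 ^ m)) 2 := by
  obtain ⟨ψ, -, -, hconj, hSyl⟩ := exists_psi_data hm hK
  haveI : Fact (Nat.Prime 2) := ⟨Nat.prime_two⟩
  obtain ⟨S⟩ : Nonempty (Sylow 2 ↥(twistedG2 K (3 ^ m))) := inferInstance
  obtain ⟨h8, h2, -⟩ := hSyl S
  exact noStemPrime_two_of_elem8 S h8 h2 _ hconj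

/-- all primes -/
theorem noStemPrime_ree (hm : 1 ≤ m) (hK : Fintype.card K = 3 ^ (2 * m + 1)) (p : ℕ)
    (hp : p.Prime) : NoStemPrime ↥(twistedG2 K (3 ^ m)) p := by
  by_cases hp3 : p = 3
  · subst hp3
    exact noStemPrime_three_ree m hm hK
  by_cases hp2 : p = 2
  · subst hp2
    exact noStemPrime_two_ree m hm hK
  obtain ⟨H, hH, hidx⟩ := exists_cyclic_ree m hm hK p hp hp2 hp3
  haveI := hH
  exact noStemPrime_of_subgroup _ H p hp hidx (noStemPrime_of_isCyclic p hp.one_lt.ne')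

/-- `²G₂(q)`, `q ≥ 27`, has trivial Schur multiplier -/
theorem ree_trivial_multiplier (hm : 1 ≤ m) (hK : Fintype.card K = 3 ^ (2 * m + 1)) :
    HasCyclicSchurMultiplier ↥(twistedG2 K (3 ^ m)) 1 :=
  trivialMultiplier_of_noStemPrime _ (noStemPrime_ree m hm hK)

end ree

end Cfsg.Agent.Lib.Helper1.SM4
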