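import Mathlib
import Cfsg.Agent.Lib.Helper1.RW15
import Cfsg.Agent.Lib.Helper1.SM4h
import Cfsg.Agent.Lib.Helper5.ReeOut.Normalize2
import Cfsg.Agent.Lib.Helper5.ReeCent.CentE2
import Cfsg.Agent.Lib.Helper5.ReeCent.Main
import Cfsg.Agent.Lib.Helper5.PSL2MaxOdd.LocalMax

/-!
Ward's analysis of the Ree groups `²G₂(q)`, part 16: the concrete Ree group satisfies the first
set of hypotheses.
-/

set_option autoImplicit false
set_option maxHeartbeats 4000000
set_option linter.unusedVariables false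
set_option linter.unusedSectionVars false
set_option linter.style.longLine false
set_option linter.unusedSimpArgs false
set_option linter.deprecated false

namespace Cfsg.Agent.Lib.Helper1.RW

open Cfsg Cfsg.Lie Cfsg.Agent.Lib.Helper5.ChevSym Cfsg.Agent.Lib.Helper5.ChevSymP
  Cfsg.Agent.Lib.Helper5.ChevStruct Cfsg.Agent.Lib.Helper5.Ree Cfsg.Agent.Lib.Helper5.ReeCent
  Cfsg.Agent.Lib.Helper5.ReeTori Cfsg.Agent.Lib.Helper5.ReeOut

universe u

theorem pow_mod_five (m : ℕ) : 3 ^ (2 * m + 1) % 5 = 2 ∨ 3 ^ (2 * m + 1) % 5 = 3 := by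
  induction m with
  | zero => right; norm_num
  | succ k ih =>
    have : 3 ^ (2 * (k + 1) + 1) = 3 ^ (2 * k + 1) * 9 := by ring
    rw [this]
    omega

theorem qa_ree (m : ℕ) (hm : 1 ≤ m) : QA (3 ^ (2 * m + 1)) (3 ^ (m + 1)) where
  hq27 := pow_ge_twenty_seven hm
  hq8 := pow_mod_eight m
  hq3 := ⟨_, rfl⟩
  hq5 := pow_mod_five m
  hr := by ring

section concrete

variable {K : Type u} [Field K] [CharP K 3] (m : ℕ) [Fintype K]
  (hq : ∀ x : K, x ^ 3 ^ (2 * m + 1) = x)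

include hq in
theorem card_BB : Nat.card (BB (K := K) m) = Fintype.card K ^ 3 * (Fintype.card K - 1) := by
  unfold BB
  rw [← Subgroup.inf_subgroupOf_right,
    Nat.card_congr (Subgroup.subgroupOfEquivOfLe inf_le_right).toEquiv, twisted_eq_fixG m hq]
  exact card_borel_fix m hq

include hq in
theorem exp_UU (x : ↥(twistedG2 K (3 ^ m))) (hx : x ∈ UU m) : x ^ 9 = 1 := by
  obtain ⟨t, u, v, rfl⟩ := (mem_UU_iff m hq x).1 hx
  apply Subtype.ext
  show (al m t u v) ^ 9 = 1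
  rw [show (9 : ℕ) = 3 * 3 from rfl, pow_mul, al_cube, w6_cube]
  simp [w6_zero]

include hq in
theorem card_UU_cube :
    Nat.card {x : ↥(twistedG2 K (3 ^ m)) // x ∈ UU m ∧ x ^ 3 = 1} = Fintype.card K ^ 2 := by
  let f : K × K → {x : ↥(twistedG2 K (3 ^ m)) // x ∈ UU m ∧ x ^ 3 = 1} := fun p =>
    ⟨aU m 0 p.1 p.2, aU_mem m _ _ _, by
      apply Subtype.ext
      show (al m 0 p.1 p.2) ^ 3 = 1
      rw [al_cube_eq_one_iff]⟩
  have hbij : Function.Bijective f := by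
    constructor
    · rintro ⟨u, v⟩ ⟨u', v'⟩ h
      have h' : aU m 0 u v = aU m 0 u' v' := congrArg Subtype.val h
      obtain ⟨-, h2, h3⟩ := aU_injective m _ _ _ _ _ _ h'
      exact Prod.ext h2 h3
    · rintro ⟨x, hx, hx3⟩
      obtain ⟨t, u, v, rfl⟩ := (mem_UU_iff m hq x).1 hx
      have ht : t = 0 := by
        have : (al m t u v) ^ 3 = 1 := congrArg Subtype.val hx3
        rwa [al_cube_eq_one_iff] at this
      subst ht
      exact ⟨(u, v), rfl⟩
  rw [← Nat.card_congr (Equiv.ofBijective f hbij), Nat.card_eq_fintype_card, Fintype.card_prod,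
    pow_two]

include hq in
theorem card_UU_cent :
    Nat.card {x : ↥(twistedG2 K (3 ^ m)) //
      x ∈ UU m ∧ x * hT m hq (-1) = hT m hq (-1) * x} = Fintype.card K := by
  have hmem : ∀ u : K, xT m u ∈ UU m ∧ xT m u * hT m hq (-1) = hT m hq (-1) * xT m u := by
    intro u
    have h1 := (mem_UU_cent_iff m hq (xT m u)).2 ⟨u, rfl⟩
    rw [Subgroup.mem_inf, Subgroup.mem_centralizer_singleton_iff] at h1
    exact h1
  let f : K → {x : ↥(twistedG2 K (3 ^ m)) //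
      x ∈ UU m ∧ x * hT m hq (-1) = hT m hq (-1) * x} := fun u => ⟨xT m u, hmem u⟩
  have hbij : Function.Bijective f := by
    constructor
    · intro u u' h
      have h' : xT m u = xT m u' := congrArg Subtype.val h
      rw [xT_eq_aU, xT_eq_aU] at h'
      exact (aU_injective m _ _ _ _ _ _ h').2.1
    · rintro ⟨x, hx, hxc⟩
      have h1 : x ∈ UU m ⊓ Subgroup.centralizer {hT m hq (-1)} := by
        rw [Subgroup.mem_inf, Subgroup.mem_centralizer_singleton_iff]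
        exact ⟨hx, hxc⟩
      obtain ⟨u, rfl⟩ := (mem_UU_cent_iff m hq x).1 h1
      exact ⟨u, rfl⟩
  rw [← Nat.card_congr (Equiv.ofBijective f hbij), Nat.card_eq_fintype_card]

include hq in
theorem exp_UU_cent (x : ↥(twistedG2 K (3 ^ m))) (hx : x ∈ UU m)
    (hxc : x * hT m hq (-1) = hT m hq (-1) * x) : x ^ 3 = 1 := by
  have h1 : x ∈ UU m ⊓ Subgroup.centralizer {hT m hq (-1)} := by
    rw [Subgroup.mem_inf, Subgroup.mem_centralizer_singleton_iff]
    exact ⟨hx, hxc⟩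
  obtain ⟨u, rfl⟩ := (mem_UU_cent_iff m hq x).1 h1
  rw [xT_eq_aU]
  apply Subtype.ext
  show (al m 0 u 0) ^ 3 = 1
  rw [al_cube_eq_one_iff]


variable (hK : Fintype.card K = 3 ^ (2 * m + 1))

include hq hK in
theorem UU_inf_H0 (hm : 1 ≤ m) (x : ↥(twistedG2 K (3 ^ m))) (hxU : x ∈ UU m) (hxH : x ∈ H0 m) :
    x = 1 := by
  have h1 : orderOf x ∣ (3 ^ (2 * m + 1)) ^ 3 := by
    rw [← hK, ← card_UU m hq]; exact Subgroup.orderOf_dvd_natCard _ hxU
  have h2 : orderOf x ∣ 3 ^ (2 * m + 1) - 1 := by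
    rw [← hK, ← card_H0 m hq]; exact Subgroup.orderOf_dvd_natCard _ hxH
  have hcop : Nat.Coprime ((3 ^ (2 * m + 1)) ^ 3) (3 ^ (2 * m + 1) - 1) :=
    Nat.Coprime.pow_left 3 (qa_ree m hm).coprime_q_pred
  have h3 := Nat.dvd_gcd h1 h2
  rw [hcop] at h3
  exact orderOf_eq_one_iff.mp (Nat.dvd_one.mp h3)

include hq hK in
theorem exists_x0 (hm : 1 ≤ m) : ∃ z : Kˣ, (z : K) ^ 2 ≠ 1 := by
  obtain ⟨h₀, hh₀, hH⟩ := exists_zpowers_eq (H0 (K := K) m) (isCyclic_H0 m hq)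
  have ho : orderOf h₀ = 3 ^ (2 * m + 1) - 1 := by
    rw [← Nat.card_zpowers, ← hH, card_H0 m hq, hK]
  have h27 := pow_ge_twenty_seven hm
  have hne : h₀ * h₀ ≠ 1 := Ward0.sq_ne_of_order h₀ (by rw [ho]; omega)
  obtain ⟨z, rfl⟩ := (mem_H0_iff m hq h₀).1 hh₀
  refine ⟨z, ?_⟩
  intro h
  apply hne
  rw [← hT_mul]
  have : z * z = 1 := Units.ext (by rw [Units.val_mul, ← pow_two, h, Units.val_one])
  rw [this, hT_one]

include hq hK in
theorem card_normalizer_H0 (hm : 1 ≤ m) :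
    Nat.card (Subgroup.normalizer ((H0 (K := K) m : Subgroup ↥(twistedG2 K (3 ^ m))) :
      Set ↥(twistedG2 K (3 ^ m)))) = 2 * (3 ^ (2 * m + 1) - 1) := by
  obtain ⟨z, hz2⟩ := exists_x0 m hq hK hm
  have key := card_normalizer_torus (UU (K := K) m) (H0 m) (BB m) (nW m) (hT m hq z)
    (bruhat m hq) (BB_decomp m hq) (UU_le_BB m) (H0_le_BB m)
    (fun b hb x hx => (BB_normalizes m b hb x).1 hx)
    (nW_inv_conj_mem_H0 m hq) (nW_sq_mem m hq) (mem_H0_of_conj m hq)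
    (UU_inf_H0 m hq hK hm) (hT_mem m hq z) ?_ (nW_not_mem m)
  · rw [key, card_H0 m hq, hK]
  · intro u hu hc
    apply Subtype.ext
    apply cent_pos_torus m hq z hz2 (u : GL chevG2.Idx K)
      (Subgroup.mem_inf.2 ⟨(mem_UU m u).1 hu, coe_mem_fixG m hq u⟩)
    show hz m z * (u : GL chevG2.Idx K) = (u : GL chevG2.Idx K) * hz m z
    exact (congrArg Subtype.val hc).symm

include hK in
theorem card_cent_t :
    Nat.card (Subgroup.centralizer ({hT m hq (-1)} : Set ↥(twistedG2 K (3 ^ m)))) =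
      3 ^ (2 * m + 1) * ((3 ^ (2 * m + 1)) ^ 2 - 1) := by
  have haH : ((hT m hq (-1) : ↥(twistedG2 K (3 ^ m))) : GL chevG2.Idx K) ∈
      chevG2.diagonalSubgroup K :=
    (Subgroup.mem_inf.1 ((mem_H0 m _).1 (hT_mem m hq (-1)))).1
  obtain ⟨⟨e⟩, -⟩ := ree_involution_centralizer hK (hT m hq (-1)) haH (hT_neg_one_ne m hq)
    (hT_neg_one_sq m hq)
  rw [Nat.card_congr e.toEquiv, Nat.card_prod, Nat.card_congr Multiplicative.toAdd, Nat.card_zmod]
  have hodd : Fintype.card K % 2 = 1 := by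
    have := pow_mod_eight m
    rw [hK]; omega
  have h1 := Cfsg.Agent.Lib.Helper5.PSL2MaxOdd.two_mul_card_PSL2 (F := K) hodd
  rw [h1, hK]
  have h3 : 1 ≤ 3 ^ (2 * m + 1) := Nat.one_le_pow _ _ (by norm_num)
  obtain ⟨a, ha⟩ : ∃ a, 3 ^ (2 * m + 1) = a + 1 := ⟨3 ^ (2 * m + 1) - 1, by omega⟩
  rw [ha]
  have : (a + 1) ^ 2 - 1 = (a + 1 - 1) * (a + 1 + 1) := by
    have : (a + 1) ^ 2 = a * (a + 2) + 1 := by ring
    rw [this]; simp
  rw [this]

include hq hK in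
theorem two_elt_ree (x : ↥(twistedG2 K (3 ^ m))) (hx : x ^ 4 = 1) : x ^ 2 = 1 := by
  have haH : ((hT m hq (-1) : ↥(twistedG2 K (3 ^ m))) : GL chevG2.Idx K) ∈
      chevG2.diagonalSubgroup K :=
    (Subgroup.mem_inf.1 ((mem_H0 m _).1 (hT_mem m hq (-1)))).1
  obtain ⟨-, hsyl⟩ := ree_involution_centralizer hK (hT m hq (-1)) haH (hT_neg_one_ne m hq)
    (hT_neg_one_sq m hq)
  haveI : Fact (Nat.Prime 2) := ⟨Nat.prime_two⟩
  have ho : orderOf x ∣ 2 ^ 2 := orderOf_dvd_of_pow_eq_one (by norm_num; exact hx)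
  obtain ⟨k, -, hk⟩ := (Nat.dvd_prime_pow Nat.prime_two).mp ho
  have hp : IsPGroup 2 (Subgroup.zpowers x) := by
    apply IsPGroup.of_card (n := k)
    rw [Nat.card_zpowers, hk]
  obtain ⟨S, hS⟩ := hp.exists_le_sylow
  have := (hsyl S).2 x (hS (Subgroup.mem_zpowers x))
  rw [pow_two]; exact this

include hK in
theorem invol_conj_ree (hm : 1 ≤ m) (x : ↥(twistedG2 K (3 ^ m))) (hx2 : x * x = 1) (hx1 : x ≠ 1) :
    ∃ g, x = g * hT m hq (-1) * g⁻¹ := by
  obtain ⟨ψ, hinj, hrange, hinv, hsyl⟩ := exists_psi_data hm hK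
  obtain ⟨g, hg⟩ := hinv x hx2 hx1
  obtain ⟨g', hg'⟩ := hinv (hT m hq (-1)) (hT_neg_one_sq m hq) (hT_neg_one_ne m hq)
  refine ⟨g * g'⁻¹, ?_⟩
  rw [hg, hg']
  group

include hq hK in
/-- the first set of hypotheses holds in the Ree groups -/
theorem ward0_ree (hm : 1 ≤ m) :
    Ward0 (3 ^ (2 * m + 1)) (3 ^ (m + 1)) (UU (K := K) m) (H0 m) (hT m hq (-1)) where
  qa := qa_ree m hm
  card_G := card_twistedG2_eq m hK
  card_U := by rw [card_UU m hq, hK]
  ti_U := by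
    intro g u hu hu1 hc
    rw [← BB_eq_normalizer m hq]
    exact mem_BB_of_conj m hq g u hu hu1 hc
  card_NU := by
    rw [← BB_eq_normalizer m hq, card_BB m hq, hK]
  exp_U := exp_UU m hq
  card_U3 := by rw [card_UU_cube m hq, hK]
  H_le := by
    rw [← BB_eq_normalizer m hq]; exact H0_le_BB m
  cyc_H := isCyclic_H0 m hq
  card_H := by rw [card_H0 m hq, hK]
  cent_H := fun h hh hh2 => centralizer_of_mem_H0 m hq h hh hh2
  t_mem := hT_mem m hq (-1)
  t_ne := hT_neg_one_ne m hq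
  t_sq := hT_neg_one_sq m hq
  card_CUt := by rw [card_UU_cent m hq, hK]
  exp_CUt := exp_UU_cent m hq
  card_NH := card_normalizer_H0 m hq hK hm
  invol_conj := invol_conj_ree m hq hK hm
  card_Ct := card_cent_t m hq hK
  two_elt := two_elt_ree m hq hK
  cent_quarter := fun y p hp hpo hpd => centralizer_quarter_prime hm hK y p hp hpo hpd
  sylow_cyc := fun p _ hp3 P => Cfsg.Agent.Lib.Helper1.SM4.sylow_isCyclic_ree m hm hK p hp3 P

end concrete

end Cfsg.Agent.Lib.Helper1.RW
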