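import Mathlib
import Cfsg.Agent.Lib.Helper1.RW16

/-!
Part 4: the Ree group side: elements of `Z₂ × PSL₂(K)` versus elements of the Ree group.
-/

set_option autoImplicit false
set_option maxHeartbeats 4000000
set_option linter.unusedVariables false
set_option linter.unusedSectionVars false
set_option linter.style.longLine false
set_option linter.unusedSimpArgs false
set_option linter.deprecated false

namespace Cfsg.Agent.Lib.Helper1.RU

open Cfsg Cfsg.Lie Cfsg.Agent.Lib.Helper5.ChevSym Cfsg.Agent.Lib.Helper5.ChevSymP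
  Cfsg.Agent.Lib.Helper5.ChevStruct Cfsg.Agent.Lib.Helper5.Ree Cfsg.Agent.Lib.Helper5.ReeCent
  Cfsg.Agent.Lib.Helper5.ReeTori Cfsg.Agent.Lib.Helper5.ReeOut Cfsg.Agent.Lib.Helper1.RW

universe u

section concrete

variable {K : Type u} [Field K] [CharP K 3] (m : ℕ) [Fintype K]
  (hq : ∀ x : K, x ^ 3 ^ (2 * m + 1) = x) (hK : Fintype.card K = 3 ^ (2 * m + 1))

include hK in
theorem exists_centIso :
    Nonempty (↥(Subgroup.centralizer ({hT m hq (-1)} : Set ↥(twistedG2 K (3 ^ m)))) ≃*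
      Multiplicative (ZMod 2) × Matrix.ProjectiveSpecialLinearGroup (Fin 2) K) := by
  have haH : ((hT m hq (-1) : ↥(twistedG2 K (3 ^ m))) : GL chevG2.Idx K) ∈
      chevG2.diagonalSubgroup K :=
    (Subgroup.mem_inf.1 ((mem_H0 m _).1 (hT_mem m hq (-1)))).1
  exact (ree_involution_centralizer hK (hT m hq (-1)) haH (hT_neg_one_ne m hq)
    (hT_neg_one_sq m hq)).1

include hq hK in
theorem exists_ree_of_prodPSL
    (y : Multiplicative (ZMod 2) × Matrix.ProjectiveSpecialLinearGroup (Fin 2) K) :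
    ∃ c : ↥(twistedG2 K (3 ^ m)), orderOf c = orderOf y := by
  obtain ⟨e⟩ := exists_centIso m hq hK
  refine ⟨((e.symm y : ↥(Subgroup.centralizer ({hT m hq (-1)} : Set ↥(twistedG2 K (3 ^ m))))) :
    ↥(twistedG2 K (3 ^ m))), ?_⟩
  rw [Subgroup.orderOf_coe, MulEquiv.orderOf_eq]

include hq hK in
theorem exists_prodPSL_of_even (hm : 1 ≤ m) (g : ↥(twistedG2 K (3 ^ m))) (n : ℕ)
    (hn : orderOf g = 2 * n) (hn0 : 0 < n) :
    ∃ y : Multiplicative (ZMod 2) × Matrix.ProjectiveSpecialLinearGroup (Fin 2) K,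
      orderOf y = 2 * n := by
  obtain ⟨e⟩ := exists_centIso m hq hK
  have hj2 : g ^ n * g ^ n = 1 := by
    rw [← pow_add, ← two_mul, ← hn]
    exact pow_orderOf_eq_one g
  have hj1 : g ^ n ≠ 1 := by
    apply pow_ne_one_of_lt_orderOf (by omega)
    rw [hn]; omega
  obtain ⟨h, hh⟩ := invol_conj_ree m hq hK hm (g ^ n) hj2 hj1
  have hcomm : (h⁻¹ * g * h) * hT m hq (-1) = hT m hq (-1) * (h⁻¹ * g * h) := by
    have ht : hT m hq (-1) = h⁻¹ * g ^ n * h := by
      rw [hh]; group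
    have hc : g * g ^ n = g ^ n * g := by
      rw [← pow_succ', ← pow_succ]
    calc (h⁻¹ * g * h) * hT m hq (-1) = h⁻¹ * (g * g ^ n) * h := by rw [ht]; group
      _ = h⁻¹ * (g ^ n * g) * h := by rw [hc]
      _ = hT m hq (-1) * (h⁻¹ * g * h) := by rw [ht]; group
  have hmem : h⁻¹ * g * h ∈ Subgroup.centralizer ({hT m hq (-1)} : Set ↥(twistedG2 K (3 ^ m))) := by
    rw [Subgroup.mem_centralizer_iff]
    intro z hz
    rw [Set.mem_singleton_iff] at hz
    rw [hz]
    exact hcomm.symm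
  refine ⟨e ⟨h⁻¹ * g * h, hmem⟩, ?_⟩
  rw [MulEquiv.orderOf_eq, ← Subgroup.orderOf_coe, ← hn]
  have : h⁻¹ * g * h = MulAut.conj h⁻¹ g := by
    rw [MulAut.conj_apply, inv_inv]
  show orderOf (h⁻¹ * g * h) = orderOf g
  rw [this, MulEquiv.orderOf_eq]

end concrete

/-- the spectrum argument -/
theorem range_orderOf_eq {R : Type u} [Group R] {M : Type u} [Group M]
    (a b c e : ℕ)
    (hR : ∀ d : ℕ, (∃ g : R, orderOf g = d) ↔
      (d ∣ 6 ∨ d ∣ 9 ∨ d ∣ a ∨ d ∣ b ∨ d ∣ c ∨ d ∣ e))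
    (hM1 : ∀ f : M, ∃ g : R, orderOf g = orderOf f)
    (hM2 : ∀ d : ℕ, (d ∣ 6 ∨ d ∣ 9 ∨ d ∣ a ∨ d ∣ b) → ∃ f : M, orderOf f = d) :
    Set.range (orderOf : R × R × M → ℕ) = Set.range (orderOf : R × R × R → ℕ) := by
  have hM3 : ∀ x : R, (orderOf x ∣ 6 ∨ orderOf x ∣ 9 ∨ orderOf x ∣ a ∨ orderOf x ∣ b) ∨
      (orderOf x ∣ c ∨ orderOf x ∣ e) := by
    intro x
    rcases (hR (orderOf x)).1 ⟨x, rfl⟩ with h | h | h | h | h | h
    · left; left; exact h
    · left; right; left; exact h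
    · left; right; right; left; exact h
    · left; right; right; right; exact h
    · right; left; exact h
    · right; right; exact h
  have hlcm : ∀ x y : R, ((orderOf x ∣ c ∧ orderOf y ∣ c) ∨ (orderOf x ∣ e ∧ orderOf y ∣ e)) →
      ∃ z : R, orderOf z = Nat.lcm (orderOf x) (orderOf y) := by
    intro x y h
    apply (hR _).2
    rcases h with ⟨h1, h2⟩ | ⟨h1, h2⟩
    · right; right; right; right; left; exact Nat.lcm_dvd h1 h2
    · right; right; right; right; right; exact Nat.lcm_dvd h1 h2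
  ext d
  simp only [Set.mem_range, Prod.exists]
  constructor
  · rintro ⟨x, y, f, rfl⟩
    obtain ⟨z, hz⟩ := hM1 f
    refine ⟨x, y, z, ?_⟩
    rw [Prod.orderOf, Prod.orderOf, Prod.orderOf, Prod.orderOf, hz]
  · rintro ⟨x, y, z, rfl⟩
    rw [Prod.orderOf, Prod.orderOf]
    simp only
    rcases hM3 z with hz | hz
    · obtain ⟨f, hf⟩ := hM2 _ hz
      refine ⟨x, y, f, ?_⟩
      rw [Prod.orderOf, Prod.orderOf, hf]
    rcases hM3 y with hy | hy
    · obtain ⟨f, hf⟩ := hM2 _ hy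
      refine ⟨x, z, f, ?_⟩
      rw [Prod.orderOf, Prod.orderOf, hf]
      simp only
      ac_rfl
    rcases hM3 x with hx | hx
    · obtain ⟨f, hf⟩ := hM2 _ hx
      refine ⟨z, y, f, ?_⟩
      rw [Prod.orderOf, Prod.orderOf, hf]
      simp only
      ac_rfl
    -- all three divide `c` or `e`
    have h1 : ∃ f : M, orderOf f = 1 := ⟨1, orderOf_one⟩
    obtain ⟨f1, hf1⟩ := h1
    have hpair : (∃ w : R, orderOf w = Nat.lcm (orderOf x) (orderOf y)) ∨
        (∃ w : R, orderOf w = Nat.lcm (orderOf x) (orderOf z)) ∨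
        (∃ w : R, orderOf w = Nat.lcm (orderOf y) (orderOf z)) := by
      rcases hx with hx | hx
      · rcases hy with hy | hy
        · left; exact hlcm x y (Or.inl ⟨hx, hy⟩)
        · rcases hz with hz | hz
          · right; left; exact hlcm x z (Or.inl ⟨hx, hz⟩)
          · right; right; exact hlcm y z (Or.inr ⟨hy, hz⟩)
      · rcases hy with hy | hy
        · rcases hz with hz | hz
          · right; right; exact hlcm y z (Or.inl ⟨hy, hz⟩)
          · right; left; exact hlcm x z (Or.inr ⟨hx, hz⟩)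
        · left; exact hlcm x y (Or.inr ⟨hx, hy⟩)
    rcases hpair with ⟨w, hw⟩ | ⟨w, hw⟩ | ⟨w, hw⟩
    · refine ⟨w, z, f1, ?_⟩
      rw [Prod.orderOf, Prod.orderOf, hf1, hw]
      simp only
      rw [Nat.lcm_one_right]
      ac_rfl
    · refine ⟨w, y, f1, ?_⟩
      rw [Prod.orderOf, Prod.orderOf, hf1, hw]
      simp only
      rw [Nat.lcm_one_right]
      ac_rfl
    · refine ⟨x, w, f1, ?_⟩
      rw [Prod.orderOf, Prod.orderOf, hf1, hw]
      simp only
      rw [Nat.lcm_one_right]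

end Cfsg.Agent.Lib.Helper1.RU
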