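import Mathlib
import Cfsg.Agent.Lib.Helper1.RW1
import Cfsg.Agent.Lib.Helper1.SM4g
import Cfsg.Agent.Lib.Helper4.Suz19

/-!
Ward's analysis of the Ree groups `²G₂(q)`, part 17: linear algebra in dimension `7`; the
centralizer of an element of prime order dividing `q² - q + 1` is cyclic, of index at most `6` in
its normalizer.
-/

set_option autoImplicit false
set_option maxHeartbeats 4000000
set_option linter.unusedVariables false
set_option linter.unusedSectionVars false
set_option linter.style.longLine false
set_option linter.unusedSimpArgs false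
set_option linter.deprecated false

namespace Cfsg.Agent.Lib.Helper1.RW

open Cfsg.Agent.Lib.Helper4.Suz Cfsg.Agent.Lib.Helper1.SM4

section dim7

open Polynomial

variable {K V : Type*} [Field K] [Finite K] [AddCommGroup V] [Module K V] [Module.Finite K V]

theorem range_sub_one_invariant (T X : Module.End K V) (h : T * X = X * T) :
    ∀ v ∈ LinearMap.range (T - 1), X v ∈ LinearMap.range (T - 1) := by
  rintro v ⟨w, rfl⟩
  refine ⟨X w, ?_⟩
  have := congrArg (fun f : Module.End K V => f w) h
  simp only [Module.End.mul_apply] at this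
  simp [LinearMap.sub_apply, this]

theorem aeval_restrict_apply (Y : Module.End K V) (W : Submodule K V) (hY : ∀ v ∈ W, Y v ∈ W)
    (P : K[X]) (w : W) :
    ((Polynomial.aeval (Y.restrict hY) P) w : V) = (Polynomial.aeval Y P) (w : V) := by
  induction P using Polynomial.induction_on' with
  | add p q hp hq => simp [map_add, LinearMap.add_apply, hp, hq]
  | monomial n a =>
    rw [Polynomial.aeval_monomial, Polynomial.aeval_monomial, Module.End.pow_restrict n hY]
    simp [Module.End.mul_apply, Module.algebraMap_end_apply]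

theorem dim7_structure {s : ℕ} [Fact s.Prime] (hs2 : s ≠ 2) (hs3 : s ≠ 3)
    (hq : ((Nat.card K : ℕ) : ZMod s) ^ 2 - ((Nat.card K : ℕ) : ZMod s) + 1 = 0)
    (hV : Module.finrank K V = 7) (T : Module.End K V) (hT : T ^ s = 1) (hT1 : T ≠ 1) :
    Module.finrank K (LinearMap.ker (T - 1)) = 1 ∧
      Module.finrank K (LinearMap.range (T - 1)) = 6 ∧
      LinearMap.ker (T.restrict (range_sub_one_invariant T T rfl) - 1) = ⊥ ∧
      ∀ W' : Submodule K (LinearMap.range (T - 1)),
        (∀ v ∈ W', (T.restrict (range_sub_one_invariant T T rfl)) v ∈ W') → W' = ⊥ ∨ W' = ⊤ := by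
  have hker1 : Module.finrank K (LinearMap.ker (T - 1)) = 1 := by
    have h1 := card_modEq_fixed (p := s) (n := 1) T (by simpa using hT)
    rw [hV] at h1
    have hle : Module.finrank K (LinearMap.ker (T - 1)) ≤ 7 := by
      rw [← hV]; exact Submodule.finrank_le _
    rcases exp_cases6 hs2 hs3 hq hle le_rfl h1 with h | h
    · exfalso
      apply hT1
      have htop : LinearMap.ker (T - 1) = ⊤ := by
        apply Submodule.eq_top_of_finrank_eq
        rw [← h, hV]
      have : T - 1 = 0 := LinearMap.ker_eq_top.mp htop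
      exact sub_eq_zero.mp this
    · omega
  obtain ⟨hWT, hWTdef⟩ : ∃ h : ∀ v ∈ LinearMap.range (T - 1), T v ∈ LinearMap.range (T - 1),
      h = range_sub_one_invariant T T rfl := ⟨_, rfl⟩
  rw [← hWTdef]
  have hW6 : Module.finrank K (LinearMap.range (T - 1)) = 6 := by
    have := LinearMap.finrank_range_add_finrank_ker (T - 1)
    rw [hV, hker1] at this
    omega
  have hT' : (T.restrict hWT) ^ s ^ 1 = 1 := by
    rw [pow_one, Module.End.pow_restrict s hWT]
    ext x
    simp [hT]
  have hker' : LinearMap.ker (T.restrict hWT - 1) = ⊥ := by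
    have h1 := card_modEq_fixed (p := s) (n := 1) (T.restrict hWT) hT'
    rw [hW6] at h1
    have hle : Module.finrank K (LinearMap.ker (T.restrict hWT - 1)) ≤ 6 := by
      rw [← hW6]; exact Submodule.finrank_le _
    rcases exp_cases6 hs2 hs3 hq hle (by norm_num) h1 with h | h
    · exfalso
      have htop : LinearMap.ker (T.restrict hWT - 1) = ⊤ := by
        apply Submodule.eq_top_of_finrank_eq
        rw [← h, hW6]
      have hle2 : LinearMap.range (T - 1) ≤ LinearMap.ker (T - 1) := by
        intro v hv
        have hmem : (⟨v, hv⟩ : LinearMap.range (T - 1)) ∈ LinearMap.ker (T.restrict hWT - 1) := by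
          rw [htop]; trivial
        rw [LinearMap.mem_ker, LinearMap.sub_apply, sub_eq_zero] at hmem
        have h2 : T v = v := by
          have := congrArg Subtype.val hmem
          simpa using this
        rw [LinearMap.mem_ker, LinearMap.sub_apply, h2]
        simp
      have := Submodule.finrank_mono hle2
      rw [hW6, hker1] at this
      omega
    · apply Submodule.finrank_eq_zero.mp
      omega
  refine ⟨hker1, hW6, hker', ?_⟩
  intro W' hW'
  have hT'' : ((T.restrict hWT).restrict hW') ^ s ^ 1 = 1 := by
    rw [pow_one, Module.End.pow_restrict s hW']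
    have e : (T.restrict hWT) ^ s = 1 := by simpa using hT'
    ext x
    simp [e]
  have h1 := card_modEq_fixed (p := s) (n := 1) ((T.restrict hWT).restrict hW') hT''
  have hker'' : LinearMap.ker ((T.restrict hWT).restrict hW' - 1) = ⊥ := by
    rw [Submodule.eq_bot_iff]
    intro w hw
    rw [LinearMap.mem_ker, LinearMap.sub_apply, sub_eq_zero] at hw
    have h2 : (T.restrict hWT) (w : LinearMap.range (T - 1)) = w := by
      have := congrArg Subtype.val hw
      simpa using this
    have h3 : (w : LinearMap.range (T - 1)) ∈ LinearMap.ker (T.restrict hWT - 1) := by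
      rw [LinearMap.mem_ker, LinearMap.sub_apply, h2]; simp
    rw [hker', Submodule.mem_bot] at h3
    exact Subtype.ext h3
  rw [hker'', finrank_bot] at h1
  have hle : Module.finrank K W' ≤ 6 := by
    rw [← hW6]; exact Submodule.finrank_le _
  rcases exp_cases6 hs2 hs3 hq (Nat.zero_le _) (by omega) h1 with h | h
  · left; exact Submodule.finrank_eq_zero.mp h
  · right
    apply Submodule.eq_top_of_finrank_eq
    rw [h, hW6]


theorem cent_dim7 {G : Type*} [Group G] [Finite G] {s : ℕ} [Fact s.Prime] (hs2 : s ≠ 2)
    (hs3 : s ≠ 3)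
    (hq : ((Nat.card K : ℕ) : ZMod s) ^ 2 - ((Nat.card K : ℕ) : ZMod s) + 1 = 0)
    (hV : Module.finrank K V = 7) (φ : G →* Module.End K V) (hφ : Function.Injective φ)
    (y : G) (hy : orderOf y = s)
    (hno : ∀ c : G, y * c = c * y → ∀ p' : ℕ, p'.Prime → orderOf c = p' →
      ¬ (Nat.card K ^ 7 ≡ Nat.card K ^ 6 [MOD p'])) :
    IsCyclic (Subgroup.centralizer ({y} : Set G)) ∧
      Nat.card (Subgroup.normalizer ((Subgroup.centralizer ({y} : Set G) : Subgroup G) : Set G)) ≤
        6 * Nat.card (Subgroup.centralizer ({y} : Set G)) := by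
  classical
  obtain ⟨T, hTdef⟩ : ∃ T, T = φ y := ⟨_, rfl⟩
  have hT : T ^ s = 1 := by rw [hTdef, ← map_pow, ← hy, pow_orderOf_eq_one, map_one]
  have hs := (Fact.out : s.Prime)
  have hy1 : y ≠ 1 := by
    intro h; rw [h, orderOf_one] at hy; exact hs.one_lt.ne hy
  have hT1 : T ≠ 1 := by
    intro h
    apply hy1
    apply hφ
    rw [← hTdef, h, map_one]
  obtain ⟨hker1, hW6, hker', hirr⟩ := dim7_structure hs2 hs3 hq hV T hT hT1
  obtain ⟨hWT, hWTdef⟩ : ∃ h : ∀ v ∈ LinearMap.range (T - 1), T v ∈ LinearMap.range (T - 1),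
      h = range_sub_one_invariant T T rfl := ⟨_, rfl⟩
  rw [← hWTdef] at hker' hirr
  have hTc : ∀ c : G, y * c = c * y → T * φ c = φ c * T := by
    intro c hc
    rw [hTdef, ← map_mul, ← map_mul, hc]
  have hWc : ∀ c : G, y * c = c * y →
      ∀ v ∈ LinearMap.range (T - 1), φ c v ∈ LinearMap.range (T - 1) :=
    fun c hc => range_sub_one_invariant T (φ c) (hTc c hc)
  -- elements fixing `W` pointwise
  have hfix : ∀ c : G, y * c = c * y → (∀ v ∈ LinearMap.range (T - 1), φ c v = v) → c = 1 := by
    intro c hc hv
    by_contra hc1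
    have ho1 : orderOf c ≠ 1 := by rwa [Ne, orderOf_eq_one_iff]
    obtain ⟨p', hp', hd⟩ := Nat.exists_prime_and_dvd ho1
    haveI : Fact p'.Prime := ⟨hp'⟩
    obtain ⟨c', hc'def⟩ : ∃ c', c' = c ^ (orderOf c / p') := ⟨_, rfl⟩
    have hoc' : orderOf c' = p' := by rw [hc'def]; exact orderOf_pow_div c p' hp' hd
    have hc'y : y * c' = c' * y := by
      rw [hc'def]
      exact ((Commute.pow_right (show Commute y c from hc) _)).eq
    have hv' : ∀ v ∈ LinearMap.range (T - 1), φ c' v = v := by
      intro v hvW
      rw [hc'def, map_pow]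
      generalize orderOf c / p' = k
      induction k with
      | zero => simp
      | succ k ih => rw [pow_succ, Module.End.mul_apply, hv v hvW, ih]
    have hX : (φ c') ^ p' ^ 1 = 1 := by
      rw [pow_one, ← map_pow, ← hoc', pow_orderOf_eq_one, map_one]
    have h1 := card_modEq_fixed (p := p') (n := 1) (φ c') hX
    rw [hV] at h1
    have hle2 : LinearMap.range (T - 1) ≤ LinearMap.ker (φ c' - 1) := by
      intro v hvW
      rw [LinearMap.mem_ker, LinearMap.sub_apply, hv' v hvW]
      simp
    have h6 := Submodule.finrank_mono hle2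
    rw [hW6] at h6
    have hle : Module.finrank K (LinearMap.ker (φ c' - 1)) ≤ 7 := by
      rw [← hV]; exact Submodule.finrank_le _
    have hcases : Module.finrank K (LinearMap.ker (φ c' - 1)) = 6 ∨
        Module.finrank K (LinearMap.ker (φ c' - 1)) = 7 := by omega
    rcases hcases with h | h
    · rw [h] at h1
      exact hno c' hc'y p' hp' hoc' h1
    · have htop : LinearMap.ker (φ c' - 1) = ⊤ := by
        apply Submodule.eq_top_of_finrank_eq
        rw [h, hV]
      have : φ c' - 1 = 0 := LinearMap.ker_eq_top.mp htop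
      have h2 : φ c' = 1 := sub_eq_zero.mp this
      have h3 : c' = 1 := hφ (by rw [h2, map_one])
      rw [h3, orderOf_one] at hoc'
      exact hp'.one_lt.ne hoc'
  haveI : Nontrivial (LinearMap.range (T - 1)) :=
    Module.nontrivial_of_finrank_pos (R := K) (by rw [hW6]; norm_num)
  have hmemC : ∀ c : G, c ∈ Subgroup.centralizer ({y} : Set G) ↔ y * c = c * y :=
    fun c => mem_cent_iff y c
  constructor
  · let ψ : Subgroup.centralizer ({y} : Set G) →* Module.End K (LinearMap.range (T - 1)) :=
      { toFun := fun c => (φ c.1).restrict (hWc c.1 ((hmemC c.1).mp c.2))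
        map_one' := by
          ext x
          simp
        map_mul' := fun a b => by
          ext x
          simp [Module.End.mul_apply] }
    have hψ : Function.Injective ψ := by
      rw [injective_iff_map_eq_one]
      intro c hc
      apply Subtype.ext
      apply hfix c.1 ((hmemC c.1).mp c.2)
      intro v hv
      have := congrArg (fun f : Module.End K (LinearMap.range (T - 1)) =>
        ((f ⟨v, hv⟩ : LinearMap.range (T - 1)) : V)) hc
      simpa [ψ] using this
    have hcomm' : ∀ c, T.restrict hWT * ψ c = ψ c * T.restrict hWT := by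
      intro c
      ext x
      have := congrArg (fun f : Module.End K V => f (x : V)) (hTc c.1 ((hmemC c.1).mp c.2))
      simp only [Module.End.mul_apply] at this
      simp [ψ, Module.End.mul_apply, this]
    exact isCyclic_of_irreducible (T.restrict hWT) hirr ψ hψ hcomm'
  · obtain ⟨A, hAdef⟩ : ∃ A : Subgroup G, A = Subgroup.centralizer ({y} : Set G) := ⟨_, rfl⟩
    rw [← hAdef]
    obtain ⟨Nm, hNm⟩ : ∃ Nm : Subgroup G, Nm = Subgroup.normalizer (A : Set G) := ⟨_, rfl⟩
    rw [← hNm]
    have hle : A ≤ Nm := by rw [hNm]; exact Subgroup.le_normalizer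
    have hyA : y ∈ A := by rw [hAdef]; exact self_mem_cent y
    have hmemA : ∀ c : G, c ∈ A ↔ y * c = c * y := by intro c; rw [hAdef]; exact hmemC c
    have hconjA' : ∀ g ∈ Nm, y * (g * y * g⁻¹) = (g * y * g⁻¹) * y := by
      intro g hg
      rw [← hmemA]
      rw [hNm] at hg
      exact (Subgroup.mem_normalizer_iff.mp hg y).mp hyA
    have hconjA : ∀ g : Nm, y * (g.1 * y * g.1⁻¹) = (g.1 * y * g.1⁻¹) * y :=
      fun g => hconjA' g.1 g.2
    let ψ : Nm → Module.End K (LinearMap.range (T - 1)) := fun g =>
      (φ (g.1 * y * g.1⁻¹)).restrict (hWc _ (hconjA g))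
    have hψ : ∀ g g' : Nm, ψ g = ψ g' ↔ (g⁻¹ * g' : Nm) ∈ A.subgroupOf Nm := by
      intro g g'
      rw [Subgroup.mem_subgroupOf]
      show _ ↔ (g.1⁻¹ * g'.1) ∈ A
      rw [hmemA]
      constructor
      · intro h
        have hc : (g.1 * y * g.1⁻¹)⁻¹ * (g'.1 * y * g'.1⁻¹) = 1 := by
          apply hfix
          · have h1 := hconjA g
            have h2 := hconjA g'
            have h1' : y * (g.1 * y * g.1⁻¹)⁻¹ = (g.1 * y * g.1⁻¹)⁻¹ * y := by
              calc y * (g.1 * y * g.1⁻¹)⁻¹ = (g.1 * y * g.1⁻¹)⁻¹ * ((g.1 * y * g.1⁻¹) * y) *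
                    (g.1 * y * g.1⁻¹)⁻¹ := by group
                _ = (g.1 * y * g.1⁻¹)⁻¹ * (y * (g.1 * y * g.1⁻¹)) * (g.1 * y * g.1⁻¹)⁻¹ := by
                    rw [h1]
                _ = (g.1 * y * g.1⁻¹)⁻¹ * y := by group
            calc y * ((g.1 * y * g.1⁻¹)⁻¹ * (g'.1 * y * g'.1⁻¹))
                = (y * (g.1 * y * g.1⁻¹)⁻¹) * (g'.1 * y * g'.1⁻¹) := by group
              _ = ((g.1 * y * g.1⁻¹)⁻¹ * y) * (g'.1 * y * g'.1⁻¹) := by rw [h1']
              _ = (g.1 * y * g.1⁻¹)⁻¹ * (y * (g'.1 * y * g'.1⁻¹)) := by group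
              _ = (g.1 * y * g.1⁻¹)⁻¹ * ((g'.1 * y * g'.1⁻¹) * y) := by rw [h2]
              _ = _ := by group
          · intro v hv
            have e := congrArg (fun f : Module.End K (LinearMap.range (T - 1)) =>
              ((f ⟨v, hv⟩ : LinearMap.range (T - 1)) : V)) h
            simp only [ψ, LinearMap.restrict_coe_apply] at e
            rw [map_mul, Module.End.mul_apply, ← e, ← Module.End.mul_apply, ← map_mul,
              inv_mul_cancel, map_one, Module.End.one_apply]
        have ha : g.1 * y * g.1⁻¹ = g'.1 * y * g'.1⁻¹ := by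
          calc g.1 * y * g.1⁻¹ = (g.1 * y * g.1⁻¹) *
                ((g.1 * y * g.1⁻¹)⁻¹ * (g'.1 * y * g'.1⁻¹)) := by rw [hc, mul_one]
            _ = g'.1 * y * g'.1⁻¹ := by group
        calc y * (g.1⁻¹ * g'.1) = g.1⁻¹ * (g.1 * y * g.1⁻¹) * g'.1 := by group
          _ = g.1⁻¹ * (g'.1 * y * g'.1⁻¹) * g'.1 := by rw [ha]
          _ = g.1⁻¹ * g'.1 * y := by group
      · intro h
        have ha : g.1 * y * g.1⁻¹ = g'.1 * y * g'.1⁻¹ := by
          calc g.1 * y * g.1⁻¹ = g.1 * (y * (g.1⁻¹ * g'.1)) * g'.1⁻¹ := by group
            _ = g.1 * ((g.1⁻¹ * g'.1) * y) * g'.1⁻¹ := by rw [h]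
            _ = g'.1 * y * g'.1⁻¹ := by group
        ext x
        simp only [ψ, LinearMap.restrict_coe_apply]
        rw [ha]
    let Φ : Nm ⧸ A.subgroupOf Nm → Module.End K (LinearMap.range (T - 1)) :=
      Quotient.lift ψ (by
        intro g g' hgg'
        rw [hψ]
        exact QuotientGroup.leftRel_apply.mp hgg')
    have hΦinj : Function.Injective Φ := by
      intro a b
      induction a using Quotient.inductionOn' with
      | h g =>
        induction b using Quotient.inductionOn' with
        | h g' =>
          intro h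
          have h' : ψ g = ψ g' := h
          rw [hψ] at h'
          exact Quotient.sound' (QuotientGroup.leftRel_apply.mpr h')
    haveI : Finite (Nm ⧸ A.subgroupOf Nm) := inferInstance
    letI : Fintype (Nm ⧸ A.subgroupOf Nm) := Fintype.ofFinite _
    have hPdeg : T.charpoly.natDegree = 7 := by rw [LinearMap.charpoly_natDegree, hV]
    have hP0 : T.charpoly ≠ 0 := (LinearMap.charpoly_monic T).ne_zero
    have hPT : aeval T T.charpoly = 0 := LinearMap.aeval_self_charpoly T
    have hroot1 : T.charpoly.IsRoot 1 := by
      rw [← Module.End.hasEigenvalue_iff_isRoot_charpoly]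
      have hpos : 0 < Module.finrank K (LinearMap.ker (T - 1)) := by rw [hker1]; norm_num
      obtain ⟨⟨v, hv⟩, hv0⟩ := Module.finrank_pos_iff_exists_ne_zero.mp hpos
      have hv0' : v ≠ 0 := fun h => hv0 (Subtype.ext h)
      rw [LinearMap.mem_ker, LinearMap.sub_apply, sub_eq_zero] at hv
      apply Module.End.hasEigenvalue_of_hasEigenvector (x := v)
      refine ⟨?_, hv0'⟩
      rw [Module.End.mem_eigenspace_iff, one_smul]
      simpa using hv
    have hcardle : Nat.card (Nm ⧸ A.subgroupOf Nm) ≤ 6 := by
      rw [Nat.card_eq_fintype_card, ← Finset.card_univ, ← Finset.card_image_of_injective _ hΦinj]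
      have h1S : (1 : Module.End K (LinearMap.range (T - 1))) ∉ Finset.univ.image Φ := by
        intro h1
        rw [Finset.mem_image] at h1
        obtain ⟨a, -, ha⟩ := h1
        induction a using Quotient.inductionOn' with
        | h g =>
          have ha' : ψ g = 1 := ha
          have hc : g.1 * y * g.1⁻¹ = 1 := by
            apply hfix _ (hconjA g)
            intro v hv
            have e := congrArg (fun f : Module.End K (LinearMap.range (T - 1)) =>
              ((f ⟨v, hv⟩ : LinearMap.range (T - 1)) : V)) ha'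
            simpa [ψ] using e
          apply hy1
          calc y = g.1⁻¹ * (g.1 * y * g.1⁻¹) * g.1 := by group
            _ = 1 := by rw [hc]; group
      have h7 : (insert (1 : Module.End K (LinearMap.range (T - 1))) (Finset.univ.image Φ)).card ≤
          T.charpoly.natDegree := by
        apply card_roots_commutant_le (T.restrict hWT) hirr _ hP0
        intro Y hY
        rw [Finset.mem_insert] at hY
        rcases hY with rfl | hY
        · refine ⟨by rw [mul_one, one_mul], ?_⟩
          rw [← map_one (algebraMap K (Module.End K (LinearMap.range (T - 1)))),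
            aeval_algebraMap_apply_eq_algebraMap_eval, hroot1.eq_zero, map_zero]
        · rw [Finset.mem_image] at hY
          obtain ⟨a, -, rfl⟩ := hY
          induction a using Quotient.inductionOn' with
          | h g =>
            show T.restrict hWT * ψ g = ψ g * T.restrict hWT ∧ aeval (ψ g) T.charpoly = 0
            constructor
            · ext x
              have := congrArg (fun f : Module.End K V => f (x : V)) (hTc _ (hconjA g))
              simp only [Module.End.mul_apply] at this
              simp only [ψ, Module.End.mul_apply, LinearMap.restrict_coe_apply]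
              exact this
            · ext w
              rw [aeval_restrict_apply]
              have e : φ (g.1 * y * g.1⁻¹) = φ g.1 * T * φ g.1⁻¹ := by
                rw [hTdef, map_mul, map_mul]
              rw [e, aeval_conj _ _ _ (by rw [← map_mul, mul_inv_cancel, map_one])
                (by rw [← map_mul, inv_mul_cancel, map_one]), hPT, mul_zero, zero_mul]
              simp
      rw [Finset.card_insert_of_notMem h1S, hPdeg] at h7
      omega
    have hidx := (A.subgroupOf Nm).card_mul_index
    rw [Nat.card_congr (Subgroup.subgroupOfEquivOfLe hle).toEquiv, Subgroup.index_eq_card] at hidx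
    rw [← hidx, mul_comm]
    exact Nat.mul_le_mul_right _ hcardle

end dim7

end Cfsg.Agent.Lib.Helper1.RW
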