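import Mathlib
import Cfsg.Agent.Lib.Helper1.RW16
import Cfsg.Agent.Lib.Helper1.RW17

/-!
Ward's analysis of the Ree groups `²G₂(q)`, part 18: the concrete Ree group satisfies all the
hypotheses; the four results.
-/

set_option autoImplicit false
set_option maxHeartbeats 4000000
set_option linter.unusedVariables false
set_option linter.unusedSectionVars false
set_option linter.style.longLine false
set_option linter.unusedSimpArgs false
set_option linter.deprecated false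

namespace Cfsg.Agent.Lib.Helper1.RW

open Cfsg Cfsg.Lie Cfsg.Agent.Lib.Helper5.ChevSym Cfsg.Agent.Lib.Helper5.ChevSymP
  Cfsg.Agent.Lib.Helper5.ChevStruct Cfsg.Agent.Lib.Helper5.Ree Cfsg.Agent.Lib.Helper5.ReeCent
  Cfsg.Agent.Lib.Helper5.ReeTori Cfsg.Agent.Lib.Helper5.ReeOut

universe u

section concrete

variable {K : Type u} [Field K] [CharP K 3] (m : ℕ) [Fintype K]
  (hq : ∀ x : K, x ^ 3 ^ (2 * m + 1) = x) (hK : Fintype.card K = 3 ^ (2 * m + 1))

include hq hK in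
theorem cent_pi_ree (hm : 1 ≤ m) (y : ↥(twistedG2 K (3 ^ m))) (s : ℕ) (hs : s.Prime)
    (hys : orderOf y = s) (hsd : s ∣ 3 ^ (2 * m + 1) * (3 ^ (2 * m + 1) - 1) + 1) :
    IsCyclic (Subgroup.centralizer ({y} : Set ↥(twistedG2 K (3 ^ m)))) ∧
      Nat.card (Subgroup.normalizer ((Subgroup.centralizer ({y} : Set ↥(twistedG2 K (3 ^ m))) :
        Subgroup ↥(twistedG2 K (3 ^ m))) : Set ↥(twistedG2 K (3 ^ m)))) ≤
        6 * Nat.card (Subgroup.centralizer ({y} : Set ↥(twistedG2 K (3 ^ m)))) := by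
  have W0 := ward0_ree m hq hK hm
  haveI : Fact s.Prime := ⟨hs⟩
  have hqa := qa_ree m hm
  have hs7 := hqa.seven_le_of_dvd_n0 hs hsd
  have hs2 : s ≠ 2 := by omega
  have hs3 : s ≠ 3 := by omega
  obtain ⟨Q, hQ⟩ : ∃ Q, Q = 3 ^ (2 * m + 1) := ⟨_, rfl⟩
  rw [← hQ] at hsd hqa
  have hQ1 : 1 ≤ Q := by rw [hQ]; exact Nat.one_le_pow _ _ (by norm_num)
  have hcardK : Nat.card K = Q := by rw [Nat.card_eq_fintype_card, hK, hQ]
  have hq' : ((Nat.card K : ℕ) : ZMod s) ^ 2 - ((Nat.card K : ℕ) : ZMod s) + 1 = 0 := by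
    rw [hcardK]
    have h0 : ((Q * (Q - 1) + 1 : ℕ) : ZMod s) = 0 := (ZMod.natCast_eq_zero_iff _ _).mpr hsd
    rw [Nat.cast_add, Nat.cast_mul, Nat.cast_sub hQ1, Nat.cast_one] at h0
    linear_combination h0
  have hV : Module.finrank K ({i : chevG2.Idx // ¬ isQ i} → K) = 7 := by
    rw [Module.finrank_fintype_fun_eq_card, Cfsg.Agent.Lib.Helper1.SM4.card_I7]
  apply cent_dim7 hs2 hs3 hq' hV (Cfsg.Agent.Lib.Helper1.SM4.linRep m hq)
    (Cfsg.Agent.Lib.Helper1.SM4.linRep_injective m hq) y hys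
  intro c hc p' hp' hoc hmod
  rw [hcardK] at hmod
  have h1 : p' ∣ Q * (Q - 1) + 1 := by
    rw [hQ]
    exact W0.no_commute y s hs (by rw [← hQ]; exact hsd) hys c hc p' hp' (by rw [hoc])
  have hle : Q ^ 6 ≤ Q ^ 7 := Nat.pow_le_pow_right hQ1 (by norm_num)
  have h2 : p' ∣ Q ^ 7 - Q ^ 6 := (Nat.modEq_iff_dvd' hle).mp hmod.symm
  have h3 : Q ^ 7 - Q ^ 6 = Q ^ 6 * (Q - 1) := by
    rw [Nat.mul_sub_one, ← pow_succ]
  rw [h3] at h2
  obtain ⟨n1, n2, n3⟩ := hqa.not_dvd_of_dvd_n0 hp' h1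
  rcases (Nat.Prime.dvd_mul hp').mp h2 with h | h
  · exact n1 (hp'.dvd_of_dvd_pow h)
  · exact n2 h

include hq hK in
/-- all the hypotheses hold in the Ree groups -/
theorem ward_ree (hm : 1 ≤ m) :
    Ward (3 ^ (2 * m + 1)) (3 ^ (m + 1)) (UU (K := K) m) (H0 m) (hT m hq (-1)) :=
  { toWard0 := ward0_ree m hq hK hm
    cent_pi := fun y s hs hys hsd => cent_pi_ree m hq hK hm y s hs hys hsd }

end concrete

end Cfsg.Agent.Lib.Helper1.RW
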