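import Mathlib
import Cfsg.Agent.Lib.Helper1.RU3
import Cfsg.Agent.Lib.Helper1.RU4
import Cfsg.Agent.Lib.Helper1.RW18

/-!
Part 5: the exact spectrum of `MM k`, its normal 3-subgroup, maximal element orders.
-/

set_option autoImplicit false
set_option maxHeartbeats 4000000
set_option linter.unusedVariables false
set_option linter.unusedSectionVars false
set_option linter.style.longLine false
set_option linter.unusedSimpArgs false
set_option linter.deprecated false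

namespace Cfsg.Agent.Lib.Helper1.RU

open Cfsg Cfsg.Lie Cfsg.Agent.Lib.Helper5.ChevSym Cfsg.Agent.Lib.Helper5.ChevSymP
  Cfsg.Agent.Lib.Helper5.ChevStruct Cfsg.Agent.Lib.Helper5.Ree Cfsg.Agent.Lib.Helper5.ReeCent
  Cfsg.Agent.Lib.Helper5.ReeTori Cfsg.Agent.Lib.Helper5.ReeOut Cfsg.Agent.Lib.Helper1.RW

universe u

/-- the maximal elements of a divisor-closed set generated by four pairwise non-dividing numbers -/
theorem maximal_set (S : Set ℕ) (a b c e : ℕ)
    (hS : ∀ d, d ∈ S ↔ (d ∣ a ∨ d ∣ b ∨ d ∣ c ∨ d ∣ e))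
    (hab : ¬ a ∣ b) (hac : ¬ a ∣ c) (hae : ¬ a ∣ e) (hba : ¬ b ∣ a) (hbc : ¬ b ∣ c) (hbe : ¬ b ∣ e)
    (hca : ¬ c ∣ a) (hcb : ¬ c ∣ b) (hce : ¬ c ∣ e) (hea : ¬ e ∣ a) (heb : ¬ e ∣ b) (hec : ¬ e ∣ c) :
    {n : ℕ | n ∈ S ∧ ∀ m ∈ S, n ∣ m → m = n} = ({a, b, c, e} : Set ℕ) := by
  have ha : a ∈ S := (hS a).2 (Or.inl (dvd_refl a))
  have hb : b ∈ S := (hS b).2 (Or.inr (Or.inl (dvd_refl b)))
  have hc : c ∈ S := (hS c).2 (Or.inr (Or.inr (Or.inl (dvd_refl c))))
  have he : e ∈ S := (hS e).2 (Or.inr (Or.inr (Or.inr (dvd_refl e))))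
  ext n
  simp only [Set.mem_setOf_eq, Set.mem_insert_iff, Set.mem_singleton_iff]
  constructor
  · rintro ⟨hn, hmax⟩
    rcases (hS n).1 hn with h | h | h | h
    · left; exact (hmax a ha h).symm
    · right; left; exact (hmax b hb h).symm
    · right; right; left; exact (hmax c hc h).symm
    · right; right; right; exact (hmax e he h).symm
  · rintro (rfl | rfl | rfl | rfl)
    · refine ⟨ha, ?_⟩
      intro m hm hnm
      rcases (hS m).1 hm with h | h | h | h
      · exact Nat.dvd_antisymm h hnm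
      · exact absurd (dvd_trans hnm h) hab
      · exact absurd (dvd_trans hnm h) hac
      · exact absurd (dvd_trans hnm h) hae
    · refine ⟨hb, ?_⟩
      intro m hm hnm
      rcases (hS m).1 hm with h | h | h | h
      · exact absurd (dvd_trans hnm h) hba
      · exact Nat.dvd_antisymm h hnm
      · exact absurd (dvd_trans hnm h) hbc
      · exact absurd (dvd_trans hnm h) hbe
    · refine ⟨hc, ?_⟩
      intro m hm hnm
      rcases (hS m).1 hm with h | h | h | h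
      · exact absurd (dvd_trans hnm h) hca
      · exact absurd (dvd_trans hnm h) hcb
      · exact Nat.dvd_antisymm h hnm
      · exact absurd (dvd_trans hnm h) hce
    · refine ⟨he, ?_⟩
      intro m hm hnm
      rcases (hS m).1 hm with h | h | h | h
      · exact absurd (dvd_trans hnm h) hea
      · exact absurd (dvd_trans hnm h) heb
      · exact absurd (dvd_trans hnm h) hec
      · exact Nat.dvd_antisymm h hnm

/-- the arithmetic: `6, 9, q - 1, (q + 1) / 2` are pairwise non-dividing -/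
theorem QA.maximal_set {q r : ℕ} (h : QA q r) (S : Set ℕ)
    (hS : ∀ d, d ∈ S ↔ (d ∣ 6 ∨ d ∣ 9 ∨ d ∣ q - 1 ∨ d ∣ (q + 1) / 2)) :
    {n : ℕ | n ∈ S ∧ ∀ m ∈ S, n ∣ m → m = n} = ({6, 9, q - 1, (q + 1) / 2} : Set ℕ) := by
  have h27 := h.hq27
  have h8 := h.hq8
  have h3 := h.three_dvd
  apply Cfsg.Agent.Lib.Helper1.RU.maximal_set S 6 9 (q - 1) ((q + 1) / 2) hS
  · norm_num
  · omega
  · omega
  · norm_num
  · omega
  · omega
  · intro hd; have := Nat.le_of_dvd (by norm_num) hd; omega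
  · intro hd; have := Nat.le_of_dvd (by norm_num) hd; omega
  · intro hd; have := Nat.le_of_dvd (by omega) hd; omega
  · intro hd; have := Nat.le_of_dvd (by norm_num) hd; omega
  · intro hd; have := Nat.le_of_dvd (by norm_num) hd; omega
  · rintro ⟨t, ht⟩
    rcases t with _ | _ | t
    · omega
    · omega
    · have : (q + 1) / 2 * 2 ≤ (q + 1) / 2 * (t + 1 + 1) := Nat.mul_le_mul_left _ (by omega)
      omega

section concrete

variable {K : Type u} [Field K] [CharP K 3] (m : ℕ) [Fintype K]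
  (hq : ∀ x : K, x ^ 3 ^ (2 * m + 1) = x) (hK : Fintype.card K = 3 ^ (2 * m + 1))

include hq hK in
/-- element orders in `Z₂ × PSL₂(K)` -/
theorem orderOf_prodPSL_dvd (hm : 1 ≤ m)
    (y : Multiplicative (ZMod 2) × Matrix.ProjectiveSpecialLinearGroup (Fin 2) K) :
    orderOf y ∣ 6 ∨ orderOf y ∣ 9 ∨ orderOf y ∣ 3 ^ (2 * m + 1) - 1 ∨
      orderOf y ∣ (3 ^ (2 * m + 1) + 1) / 2 := by
  obtain ⟨c, hc⟩ := exists_ree_of_prodPSL m hq hK y
  have hqa := qa_ree m hm
  have h := ((ward_ree m hq hK hm).orders (orderOf y)).1 ⟨c, hc⟩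
  have hodd : Fintype.card K % 2 = 1 := by
    have := hqa.hq8
    rw [hK]; omega
  have hcard : orderOf y ∣ 3 ^ (2 * m + 1) * ((3 ^ (2 * m + 1) - 1) * (3 ^ (2 * m + 1) + 1)) := by
    have h1 := Cfsg.Agent.Lib.Helper5.PSL2MaxOdd.two_mul_card_PSL2 (F := K) hodd
    rw [hK] at h1
    rw [← h1]
    have h2 : Nat.card (Multiplicative (ZMod 2) × Matrix.ProjectiveSpecialLinearGroup (Fin 2) K)
        = 2 * Nat.card (Matrix.ProjectiveSpecialLinearGroup (Fin 2) K) := by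
      rw [Nat.card_prod, Nat.card_congr Multiplicative.toAdd, Nat.card_zmod]
    rw [← h2]
    exact orderOf_dvd_natCard y
  have hcop : Nat.Coprime (3 ^ (2 * m + 1) * (3 ^ (2 * m + 1) - 1) + 1)
      (3 ^ (2 * m + 1) * ((3 ^ (2 * m + 1) - 1) * (3 ^ (2 * m + 1) + 1))) :=
    Nat.Coprime.mul_right hqa.coprime_n0_q (Nat.Coprime.mul_right hqa.coprime_n0_pred hqa.coprime_n0_succ)
  have hone : orderOf y ∣ 3 ^ (2 * m + 1) * (3 ^ (2 * m + 1) - 1) + 1 → orderOf y ∣ 6 := by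
    intro hd
    have := Nat.dvd_gcd hd hcard
    rw [hcop] at this
    exact dvd_trans this (one_dvd 6)
  have hprod := hqa.prod_eq_n0
  rcases h with h | h | h | h | h | h
  · exact Or.inl h
  · exact Or.inr (Or.inl h)
  · exact Or.inr (Or.inr (Or.inl h))
  · exact Or.inr (Or.inr (Or.inr h))
  · left
    apply hone
    rw [← hprod]
    exact Dvd.dvd.mul_left h _
  · left
    apply hone
    rw [← hprod]
    exact Dvd.dvd.mul_right h _

include hq hK in
/-- the spectrum of `MM k` -/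
theorem spectrum_MM (hm : 1 ≤ m) (k : ℕ) (hk : 0 < k) (d : ℕ) :
    (∃ f : ↥(MM (K := K) k), orderOf f = d) ↔
      (d ∣ 6 ∨ d ∣ 9 ∨ d ∣ 3 ^ (2 * m + 1) - 1 ∨ d ∣ (3 ^ (2 * m + 1) + 1) / 2) := by
  have hqa := qa_ree m hm
  have hq8 : 3 ^ (2 * m + 1) % 8 = 3 := hqa.hq8
  have hq27 : 27 ≤ 3 ^ (2 * m + 1) := hqa.hq27
  have hns : ∀ a : K, a ^ 2 ≠ -1 := by
    intro a ha
    have h1 : IsSquare (-1 : K) := ⟨a, by rw [← ha, sq]⟩
    rw [FiniteField.isSquare_neg_one_iff, hK] at h1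
    omega
  have hR := (ward_ree m hq hK hm).orders
  constructor
  · rintro ⟨f, rfl⟩
    rw [← Subgroup.orderOf_coe]
    rcases orderOf_mem_MM k hk hns f.1 f.2 with h | h | ⟨y, hy⟩
    · exact Or.inr (Or.inl h)
    · exact Or.inl h
    · rcases orderOf_prodPSL_dvd m hq hK hm y with h | h | h | h
      · exact Or.inl (dvd_trans hy h)
      · exact Or.inr (Or.inl (dvd_trans hy h))
      · exact Or.inr (Or.inr (Or.inl (dvd_trans hy h)))
      · exact Or.inr (Or.inr (Or.inr (dvd_trans hy h)))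
  · intro hd
    have hsub : ∀ n : ℕ, (∃ f : ↥(MM (K := K) k), orderOf f = n) →
        0 < n → ∀ d : ℕ, d ∣ n → ∃ f : ↥(MM (K := K) k), orderOf f = d := by
      rintro n ⟨f, hf⟩ hn d hd
      obtain ⟨z, -, hz⟩ := exists_orderOf_eq_of_dvd f d (hf ▸ hn) (hf ▸ hd)
      exact ⟨z, hz⟩
    have heven : ∀ n : ℕ, 0 < n → (∃ g : ↥(twistedG2 K (3 ^ m)), orderOf g = 2 * n) →
        ∃ f : ↥(MM (K := K) k), orderOf f = 2 * n := by
      rintro n hn ⟨g, hg⟩
      obtain ⟨y, hy⟩ := exists_prodPSL_of_even m hq hK hm g n hg hn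
      obtain ⟨f, hfm, hf⟩ := exists_orderOf_eq (K := K) k hk y
      refine ⟨⟨f, hfm⟩, ?_⟩
      rw [← Subgroup.orderOf_coe]
      exact hf.trans hy
    rcases hd with h | h | h | h
    · apply hsub 6 _ (by norm_num) d h
      exact heven 3 (by norm_num) ((hR 6).2 (Or.inl (dvd_refl 6)))
    · apply hsub 9 _ (by norm_num) d h
      obtain ⟨f, hfm, hf⟩ := exists_order_nine (K := K) k hk
      refine ⟨⟨f, hfm⟩, ?_⟩
      rw [← Subgroup.orderOf_coe]
      exact hf
    · apply hsub (3 ^ (2 * m + 1) - 1) _ (by omega) d h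
      have e : 3 ^ (2 * m + 1) - 1 = 2 * ((3 ^ (2 * m + 1) - 1) / 2) := hqa.half_pred.1
      rw [e]
      apply heven _ (by omega)
      rw [← e]
      exact (hR _).2 (Or.inr (Or.inr (Or.inl (dvd_refl _))))
    · apply hsub ((3 ^ (2 * m + 1) + 1) / 2) _ (by omega) d h
      have e0 := hqa.quarter_succ.1
      have e : (3 ^ (2 * m + 1) + 1) / 2 = 2 * ((3 ^ (2 * m + 1) + 1) / 4) := by omega
      rw [e]
      apply heven _ (by omega)
      rw [← e]
      exact (hR _).2 (Or.inr (Or.inr (Or.inr (Or.inl (dvd_refl _)))))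

end concrete

section normal

variable {K : Type u} [Field K] [CharP K 3] (k : ℕ)

/-- the translation subgroup of `MM k` -/
def TT : Subgroup ↥(MM (K := K) k) where
  carrier := {f | ∃ v : Fin k → Matrix (Fin 2) (Fin 2) K, (f : Equiv.Perm (Fin k → Matrix (Fin 2) (Fin 2) K)) = Equiv.addRight v}
  mul_mem' := by
    rintro f g ⟨v, hv⟩ ⟨w, hw⟩
    refine ⟨w + v, ?_⟩
    rw [Subgroup.coe_mul, hv, hw]
    ext x : 1
    simp [add_assoc]
  one_mem' := ⟨0, by
    ext x : 1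
    simp⟩
  inv_mem' := by
    rintro f ⟨v, hv⟩
    refine ⟨-v, ?_⟩
    rw [Subgroup.coe_inv, hv]
    ext x : 1
    simp [sub_eq_add_neg]

theorem TT_normal : (TT (K := K) k).Normal := by
  constructor
  rintro n ⟨v, hv⟩ g
  obtain ⟨s, g0, w, hs, haff⟩ := g.2
  refine ⟨lin k s g0 v, ?_⟩
  rw [Subgroup.coe_mul, Subgroup.coe_mul, Subgroup.coe_inv, hv]
  ext x : 1
  rw [Equiv.Perm.mul_apply, Equiv.Perm.mul_apply, Equiv.coe_addRight, Equiv.coe_addRight, haff, map_add]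
  have h1 : (g : Equiv.Perm (Fin k → Matrix (Fin 2) (Fin 2) K)) ((g : Equiv.Perm (Fin k → Matrix (Fin 2) (Fin 2) K))⁻¹ x) = x := by
    simp
  rw [haff] at h1
  calc lin k s g0 ((g : Equiv.Perm (Fin k → Matrix (Fin 2) (Fin 2) K))⁻¹ x) + lin k s g0 v + w
      = (lin k s g0 ((g : Equiv.Perm (Fin k → Matrix (Fin 2) (Fin 2) K))⁻¹ x) + w) + lin k s g0 v := by abel
    _ = x + lin k s g0 v := by rw [h1]

theorem TT_isPGroup : IsPGroup 3 ↥(TT (K := K) k) := by
  rintro ⟨f, v, hv⟩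
  refine ⟨1, ?_⟩
  apply Subtype.ext
  apply Subtype.ext
  rw [pow_one, Subgroup.coe_pow, Subgroup.coe_pow, Subgroup.coe_one, Subgroup.coe_one]
  show (f : Equiv.Perm (Fin k → Matrix (Fin 2) (Fin 2) K)) ^ 3 = 1
  apply pow_three_eq_one_of_transl k (three_eq_zero (K := K)) _ v
  intro x
  rw [hv]
  rfl

theorem TT_ne_bot (hk : 0 < k) : TT (K := K) k ≠ ⊥ := by
  intro h
  have hmem : (⟨Equiv.addRight (fun _ => (1 : Matrix (Fin 2) (Fin 2) K)), transl_mem k _⟩ : ↥(MM (K := K) k)) ∈ TT (K := K) k :=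
    ⟨_, rfl⟩
  rw [h, Subgroup.mem_bot] at hmem
  have h1 := congrArg (fun f : ↥(MM (K := K) k) => (f : Equiv.Perm (Fin k → Matrix (Fin 2) (Fin 2) K)) 0) hmem
  simp only [Subgroup.coe_one, Equiv.Perm.one_apply, Equiv.coe_addRight, zero_add] at h1
  have h2 := congrFun (congrFun (congrFun h1 ⟨0, hk⟩) 0) 0
  simp at h2

end normal

end Cfsg.Agent.Lib.Helper1.RU
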