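import Mathlib
import Cfsg.Agent.Lib.Helper1.RW14
import Cfsg.Agent.Lib.Helper1.FittingCentralizer
import Cfsg.Agent.Lib.Helper1.CoprimeSylow

/-!
Ward's analysis of the Ree groups `²G₂(q)`, part 19: general lemmas on solvable subgroups.
-/

set_option autoImplicit false
set_option maxHeartbeats 4000000
set_option linter.unusedVariables false
set_option linter.unusedSectionVars false
set_option linter.style.longLine false
set_option linter.unusedSimpArgs false
set_option linter.deprecated false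

namespace Cfsg.Agent.Lib.Helper1.RW

universe u

theorem solvable_cases (X : Type*) [Group X] [Finite X] [Group.IsSolvable X] :
    (∃ r : ℕ, r.Prime ∧ r ≠ 2 ∧ Cfsg.pCore r X ≠ ⊥) ∨
      Subgroup.centralizer (Cfsg.pCore 2 X : Set X) ≤ Cfsg.pCore 2 X := by
  by_cases h : ∃ r : ℕ, r.Prime ∧ r ≠ 2 ∧ Cfsg.pCore r X ≠ ⊥
  · exact Or.inl h
  · right
    push_neg at h
    have hF : Cfsg.fittingSubgroup X = Cfsg.pCore 2 X := by
      rw [fittingSubgroup_eq_iSup_pCore]
      apply le_antisymm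
      · apply iSup_le
        intro p
        by_cases hp2 : (p : ℕ) = 2
        · rw [hp2]
        · rw [h p p.2 hp2]; exact bot_le
      · exact le_iSup (fun p : Nat.Primes => Cfsg.pCore (p : ℕ) X) ⟨2, Nat.prime_two⟩
    rw [← hF]
    exact centralizer_fittingSubgroup_le

section general

variable {G : Type u} [Group G]

theorem map_subtype_normalized (S : Subgroup G) (N : Subgroup S) [hN : N.Normal] :
    S ≤ Subgroup.normalizer ((N.map S.subtype : Subgroup G) : Set G) := by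
  apply le_normalizer_of_conj_mem
  rintro g hg _ ⟨n, hn, rfl⟩
  refine ⟨⟨g, hg⟩ * n * ⟨g, hg⟩⁻¹, hN.conj_mem n hn ⟨g, hg⟩, ?_⟩
  simp

theorem solvable_cases_sub [Finite G] (S : Subgroup G) (hS : Group.IsSolvable S) :
    (∃ (ℓ : ℕ) (N : Subgroup G), ℓ.Prime ∧ ℓ ≠ 2 ∧ N ≠ ⊥ ∧ N ≤ S ∧ IsPGroup ℓ N ∧
        S ≤ Subgroup.normalizer (N : Set G)) ∨
    (∃ F : Subgroup G, F ≤ S ∧ IsPGroup 2 F ∧ S ≤ Subgroup.normalizer (F : Set G) ∧
        ∀ s ∈ S, (∀ f ∈ F, s * f = f * s) → s ∈ F) := by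
  haveI := hS
  haveI : Fact (Nat.Prime 2) := ⟨Nat.prime_two⟩
  rcases solvable_cases ↥S with ⟨ℓ, hℓ, hℓ2, hne⟩ | hcent
  · left
    haveI : Fact ℓ.Prime := ⟨hℓ⟩
    haveI := pCore_normal (G := ↥S) ℓ
    refine ⟨ℓ, (Cfsg.pCore ℓ ↥S).map S.subtype, hℓ, hℓ2, ?_, Subgroup.map_subtype_le _,
      (pCore_isPGroup ℓ).map S.subtype, map_subtype_normalized S _⟩
    intro h
    apply hne
    exact (Subgroup.map_eq_bot_iff_of_injective _ S.subtype_injective).mp h
  · right
    haveI := pCore_normal (G := ↥S) 2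
    refine ⟨(Cfsg.pCore 2 ↥S).map S.subtype, Subgroup.map_subtype_le _,
      (pCore_isPGroup 2).map S.subtype, map_subtype_normalized S _, ?_⟩
    intro s hs hc
    have h1 : (⟨s, hs⟩ : ↥S) ∈ Subgroup.centralizer (Cfsg.pCore 2 ↥S : Set ↥S) := by
      rw [Subgroup.mem_centralizer_iff]
      intro f hf
      apply Subtype.ext
      exact (hc f.1 ⟨f, hf, rfl⟩).symm
    exact ⟨⟨s, hs⟩, hcent h1, rfl⟩

/-- a `p`-subgroup can be conjugated into a subgroup of index prime to `p` -/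
theorem exists_conj_le_of_index' [Finite G] (R : Subgroup G) (p : ℕ) [Fact p.Prime]
    (hR : ¬ p ∣ R.index) (N : Subgroup G) (hN : IsPGroup p N) :
    ∃ g : G, ∀ n ∈ N, g * n * g⁻¹ ∈ R := by
  have PR : Sylow p ↥R := default
  have h1 : IsPGroup p ((PR : Subgroup ↥R).map R.subtype) := by
    have := PR.isPGroup'
    exact this.map R.subtype
  have h2 : ¬ p ∣ ((PR : Subgroup ↥R).map R.subtype).index := by
    rw [Subgroup.index_map_subtype]
    intro h
    rcases (Nat.Prime.dvd_mul (Fact.out : p.Prime)).1 h with h | h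
    · exact PR.not_dvd_index h
    · exact hR h
  let P0 : Sylow p G := IsPGroup.toSylow h1 h2
  have hP0 : (P0 : Subgroup G) = (PR : Subgroup ↥R).map R.subtype := IsPGroup.toSylow_coe h1 h2
  obtain ⟨S, hS⟩ := hN.exists_le_sylow
  obtain ⟨g, hg⟩ := MulAction.exists_smul_eq G P0 S
  refine ⟨g⁻¹, ?_⟩
  intro y hyN
  have hyS : y ∈ (S : Subgroup G) := hS hyN
  have hy' : y ∈ ((g • P0 : Sylow p G) : Subgroup G) := by
    rw [hg]; exact hyS
  rw [Sylow.coe_subgroup_smul, Subgroup.mem_pointwise_smul_iff_inv_smul_mem] at hy'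
  have e : (MulAut.conj g)⁻¹ • y = g⁻¹ * y * g := by
    rw [← map_inv, MulAut.smul_def, MulAut.conj_apply, inv_inv]
  rw [e, hP0] at hy'
  obtain ⟨x, -, hx⟩ := hy'
  rw [inv_inv, ← hx]
  exact x.2

/-- conjugating a normalized subgroup back -/
theorem le_normalizer_map_conj (S A : Subgroup G) (g : G)
    (h : ∀ s ∈ S, g * s * g⁻¹ ∈ Subgroup.normalizer (A : Set G)) :
    S ≤ Subgroup.normalizer ((A.map (MulAut.conj g⁻¹).toMonoidHom : Subgroup G) : Set G) := by
  apply le_normalizer_of_conj_mem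
  rintro s hs _ ⟨a, ha, rfl⟩
  have h1 := (Subgroup.mem_normalizer_iff.mp (h s hs) a).mp ha
  refine ⟨(g * s * g⁻¹) * a * (g * s * g⁻¹)⁻¹, h1, ?_⟩
  simp only [MulEquiv.coe_toMonoidHom, MulAut.conj_apply, inv_inv]
  group

theorem normalizer_map_conj (A : Subgroup G) (g : G) :
    Subgroup.normalizer ((A.map (MulAut.conj g).toMonoidHom : Subgroup G) : Set G) =
      (Subgroup.normalizer (A : Set G)).map (MulAut.conj g).toMonoidHom := by
  ext x
  rw [Subgroup.mem_normalizer_iff]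
  constructor
  · intro h
    refine ⟨g⁻¹ * x * g, ?_, by simp [mul_assoc]⟩
    show g⁻¹ * x * g ∈ Subgroup.normalizer (A : Set G)
    rw [Subgroup.mem_normalizer_iff]
    intro a
    have h1 := h (g * a * g⁻¹)
    constructor
    · intro ha
      have h2 := h1.mp ⟨a, ha, by simp⟩
      obtain ⟨b, hb, hbe⟩ := h2
      have : g⁻¹ * x * g * a * (g⁻¹ * x * g)⁻¹ = b := by
        have hbe' : g * b * g⁻¹ = x * (g * a * g⁻¹) * x⁻¹ := by simpa using hbe
        calc g⁻¹ * x * g * a * (g⁻¹ * x * g)⁻¹ = g⁻¹ * (x * (g * a * g⁻¹) * x⁻¹) * g := by group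
          _ = g⁻¹ * (g * b * g⁻¹) * g := by rw [hbe']
          _ = b := by group
      rw [this]; exact hb
    · intro ha
      have h2 : x * (g * a * g⁻¹) * x⁻¹ ∈ A.map (MulAut.conj g).toMonoidHom := by
        refine ⟨g⁻¹ * x * g * a * (g⁻¹ * x * g)⁻¹, ha, ?_⟩
        simp only [MulEquiv.coe_toMonoidHom, MulAut.conj_apply]
        group
      obtain ⟨b, hb, hbe⟩ := h1.mpr h2
      have : a = b := by
        have hbe' : g * b * g⁻¹ = g * a * g⁻¹ := by simpa using hbe
        have h3 := mul_right_cancel hbe'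
        exact (mul_left_cancel h3).symm
      rw [this]; exact hb
  · rintro ⟨n, hn0, rfl⟩ y
    have hn : n ∈ Subgroup.normalizer (A : Set G) := hn0
    rw [Subgroup.mem_normalizer_iff] at hn
    simp only [MulEquiv.coe_toMonoidHom, MulAut.conj_apply]
    constructor
    · rintro ⟨a, ha, rfl⟩
      refine ⟨n * a * n⁻¹, (hn a).mp ha, ?_⟩
      simp only [MulEquiv.coe_toMonoidHom, MulAut.conj_apply]
      group
    · rintro ⟨b, hb, hbe⟩
      have hbe' : g * b * g⁻¹ = g * n * g⁻¹ * y * (g * n * g⁻¹)⁻¹ := by simpa using hbe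
      refine ⟨n⁻¹ * b * n, ?_, ?_⟩
      · have := (hn (n⁻¹ * b * n)).mpr (by
          have e : n * (n⁻¹ * b * n) * n⁻¹ = b := by group
          rw [e]; exact hb)
        exact this
      · simp only [MulEquiv.coe_toMonoidHom, MulAut.conj_apply]
        calc g * (n⁻¹ * b * n) * g⁻¹ = (g * n * g⁻¹)⁻¹ * (g * b * g⁻¹) * (g * n * g⁻¹) := by group
          _ = (g * n * g⁻¹)⁻¹ * (g * n * g⁻¹ * y * (g * n * g⁻¹)⁻¹) * (g * n * g⁻¹) := by rw [hbe']
          _ = y := by group

end general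

end Cfsg.Agent.Lib.Helper1.RW
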