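import Mathlib
import Cfsg.Agent.Lib.Helper1.RW19

/-!
Ward's analysis of the Ree groups `²G₂(q)`, part 20: `2`-subgroups and `2`-local subgroups.
-/

set_option autoImplicit false
set_option maxHeartbeats 4000000
set_option linter.unusedVariables false
set_option linter.unusedSectionVars false
set_option linter.style.longLine false
set_option linter.unusedSimpArgs false
set_option linter.deprecated false

namespace Cfsg.Agent.Lib.Helper1.RW

universe u

namespace Ward0

variable {G : Type u} [Group G] [Finite G] {q r : ℕ} {U H : Subgroup G} {t : G}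

/-- the `2`-part of the order -/
theorem two_part (W : Ward0 q r U H t) :
    ∃ k : ℕ, k % 2 = 1 ∧ q ^ 3 * (q - 1) * (q ^ 3 + 1) = 8 * k := by
  have hqa := W.qa
  obtain ⟨h1, h1o⟩ := hqa.half_pred
  obtain ⟨h2, h2o⟩ := hqa.quarter_succ
  have hn0 := hqa.odd_n0
  have hq8 := hqa.hq8
  obtain ⟨a, ha⟩ : ∃ a, a = (q - 1) / 2 := ⟨_, rfl⟩
  obtain ⟨b, hb⟩ : ∃ b, b = (q + 1) / 4 := ⟨_, rfl⟩
  rw [← ha] at h1 h1o
  rw [← hb] at h2 h2o
  obtain ⟨n, hn⟩ : ∃ n, n = q * (q - 1) + 1 := ⟨_, rfl⟩
  have o4 : n % 2 = 1 := by rw [hn]; omega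
  refine ⟨q ^ 3 * a * b * n, ?_, ?_⟩
  · have o1 : q % 2 = 1 := by omega
    have o3 : (q ^ 3) % 2 = 1 := by rw [Nat.pow_mod, o1]
    rw [Nat.mul_mod, Nat.mul_mod (q ^ 3 * a), Nat.mul_mod (q ^ 3), o3, h1o, h2o, o4]
  · rw [hqa.card_factor, ← hn, h1, h2]; ring

theorem sq_eq_one_of_isPGroup (W : Ward0 q r U H t) (Q : Subgroup G) (hQ : IsPGroup 2 Q) (a : G)
    (ha : a ∈ Q) : a * a = 1 := by
  obtain ⟨k, hk⟩ := hQ ⟨a, ha⟩
  have h1 : a ^ 2 ^ k = 1 := by
    have := congrArg Subtype.val hk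
    simpa using this
  have h2 : orderOf a ∣ 2 ^ k := orderOf_dvd_of_pow_eq_one h1
  obtain ⟨j, -, hj⟩ := (Nat.dvd_prime_pow Nat.prime_two).mp h2
  have := W.sq_eq_one_of_two_pow a j hj
  rwa [pow_two] at this

theorem comm_of_isPGroup (W : Ward0 q r U H t) (Q : Subgroup G) (hQ : IsPGroup 2 Q) (a b : G)
    (ha : a ∈ Q) (hb : b ∈ Q) : a * b = b * a := by
  have h1 := W.sq_eq_one_of_isPGroup Q hQ a ha
  have h2 := W.sq_eq_one_of_isPGroup Q hQ b hb
  have h3 := W.sq_eq_one_of_isPGroup Q hQ (a * b) (Q.mul_mem ha hb)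
  have ia : a⁻¹ = a := inv_eq_of_mul_eq_one_left h1
  have ib : b⁻¹ = b := inv_eq_of_mul_eq_one_left h2
  calc a * b = (a * b)⁻¹ := (inv_eq_of_mul_eq_one_left h3).symm
    _ = b⁻¹ * a⁻¹ := mul_inv_rev a b
    _ = b * a := by rw [ia, ib]

theorem card_two_group (W : Ward0 q r U H t) (Q : Subgroup G) (hQ : IsPGroup 2 Q) :
    Nat.card Q = 1 ∨ Nat.card Q = 2 ∨ Nat.card Q = 4 ∨ Nat.card Q = 8 := by
  obtain ⟨k, hk⟩ := IsPGroup.iff_card.mp hQ
  obtain ⟨m, hm, hg⟩ := W.two_part
  have hd : 2 ^ k ∣ 8 * m := by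
    rw [← hk, ← hg, ← W.card_G]; exact Subgroup.card_subgroup_dvd_card Q
  have hcop : Nat.Coprime (2 ^ k) m :=
    Nat.Coprime.pow_left k (Nat.coprime_two_left.mpr (Nat.odd_iff.mpr hm))
  have h8 : 2 ^ k ∣ 8 := hcop.dvd_of_dvd_mul_right hd
  have hk3 : k ≤ 3 := by
    by_contra h
    push_neg at h
    have h16 : 2 ^ 4 ∣ 2 ^ k := pow_dvd_pow 2 h
    have := Nat.le_of_dvd (by norm_num) (dvd_trans h16 h8)
    norm_num at this
  rw [hk]
  interval_cases k <;> simp

theorem sylow_of_card_eight (W : Ward0 q r U H t) (Q : Subgroup G) (h8 : Nat.card Q = 8) :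
    ∃ P : Sylow 2 G, (P : Subgroup G) = Q := by
  haveI : Fact (Nat.Prime 2) := ⟨Nat.prime_two⟩
  have hQ : IsPGroup 2 Q := IsPGroup.of_card (n := 3) (by rw [h8]; norm_num)
  obtain ⟨m, hm, hg⟩ := W.two_part
  have hidx : ¬ 2 ∣ Q.index := by
    have h1 := Q.card_mul_index
    rw [h8, W.card_G, hg] at h1
    have h2 : Q.index = m := Nat.eq_of_mul_eq_mul_left (by norm_num) h1
    rw [h2]; omega
  exact ⟨hQ.toSylow hidx, IsPGroup.toSylow_coe hQ hidx⟩

theorem card_sylow_two (W : Ward0 q r U H t) (P : Sylow 2 G) : Nat.card P = 8 := by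
  haveI : Fact (Nat.Prime 2) := ⟨Nat.prime_two⟩
  obtain ⟨m, hm, hg⟩ := W.two_part
  have h1 := (P : Subgroup G).card_mul_index
  rw [W.card_G, hg] at h1
  have h2 := P.not_dvd_index
  obtain ⟨i, hi⟩ : ∃ i, i = (P : Subgroup G).index := ⟨_, rfl⟩
  rw [← hi] at h1 h2
  rcases W.card_two_group P P.isPGroup' with h | h | h | h
  · exfalso; rw [h] at h1; omega
  · exfalso; rw [h] at h1; omega
  · exfalso; rw [h] at h1; omega
  · exact h

theorem three_not_dvd_index_U (W : Ward0 q r U H t) : ¬ 3 ∣ U.index := by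
  have h1 := U.card_mul_index
  rw [W.card_U, W.card_G] at h1
  have hq3 : 0 < q ^ 3 := by
    have := W.qa.hq27
    positivity
  have h2 : U.index = (q - 1) * (q ^ 3 + 1) := by
    apply Nat.eq_of_mul_eq_mul_left hq3
    rw [h1]; ring
  rw [h2]
  exact W.three_not_dvd_index

theorem three_not_dvd_card_centralizer (W : Ward0 q r U H t) (F : Subgroup G)
    (hF4 : 4 ∣ Nat.card F) : ¬ 3 ∣ Nat.card (Subgroup.centralizer (F : Set G)) := by
  intro h3
  haveI : Fact (Nat.Prime 3) := ⟨Nat.prime_three⟩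
  obtain ⟨z, hz⟩ := exists_prime_orderOf_dvd_card' 3 h3
  have hz' : orderOf (z : G) = 3 := by rw [Subgroup.orderOf_coe]; exact hz
  obtain ⟨g, hg⟩ := exists_conj_mem_of_index' U 3 W.three_not_dvd_index_U (z : G) 1
    (by rw [hz', pow_one])
  have hu1 : g * (z : G) * g⁻¹ ≠ 1 := by
    intro h
    have : orderOf (g * (z : G) * g⁻¹) = 3 := by rw [orderOf_conj'', hz']
    rw [h, orderOf_one] at this
    norm_num at this
  have hle : F.map (MulAut.conj g).toMonoidHom ≤ Subgroup.normalizer (U : Set G) := by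
    rintro _ ⟨f, hf, rfl⟩
    apply W.ti_U _ _ hg hu1
    have hc : f * (z : G) = (z : G) * f := Subgroup.mem_centralizer_iff.mp z.2 f hf
    have e : (MulAut.conj g).toMonoidHom f * (g * (z : G) * g⁻¹) *
        ((MulAut.conj g).toMonoidHom f)⁻¹ = g * (f * (z : G)) * f⁻¹ * g⁻¹ := by
      simp only [MulEquiv.coe_toMonoidHom, MulAut.conj_apply]
      group
    rw [e, hc]
    have e2 : g * ((z : G) * f) * f⁻¹ * g⁻¹ = g * (z : G) * g⁻¹ := by group
    rw [e2]; exact hg
  have hd := Subgroup.card_dvd_of_le hle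
  rw [card_map_conj', W.card_NU] at hd
  have h4 := dvd_trans hF4 hd
  have hq8 := W.qa.hq8
  have hq27 := W.qa.hq27
  have e1 : (q ^ 3 * (q - 1)) % 4 = 2 := by
    have o1 : q % 4 = 3 := by omega
    have o2 : (q - 1) % 4 = 2 := by omega
    rw [Nat.mul_mod, Nat.pow_mod, o1, o2]
  omega


theorem card_ne_one (A : Subgroup G) :
    Nat.card {a : G // a ∈ A ∧ a ≠ 1} = Nat.card A - 1 := by
  have hset : {a : G | a ∈ A ∧ a ≠ 1} = (A : Set G) \ {1} := by
    ext x
    simp only [Set.mem_setOf_eq, Set.mem_diff, SetLike.mem_coe, Set.mem_singleton_iff]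
  have h1 : Nat.card {a : G // a ∈ A ∧ a ≠ 1} = Nat.card ↥{a : G | a ∈ A ∧ a ≠ 1} := rfl
  rw [h1, Nat.card_coe_set_eq, hset, Set.ncard_diff_singleton_of_mem (one_mem A),
    ← Nat.card_coe_set_eq]
  rfl

theorem normalizer_le_normalizer_centralizer (F : Subgroup G) :
    Subgroup.normalizer (F : Set G) ≤
      Subgroup.normalizer ((Subgroup.centralizer (F : Set G) : Subgroup G) : Set G) := by
  apply le_normalizer_of_conj_mem
  intro g hg c hc
  rw [Subgroup.mem_centralizer_iff] at hc ⊢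
  intro f hf
  have h1 : g⁻¹ * f * g ∈ F := by
    have := (Subgroup.mem_normalizer_iff.mp (Subgroup.inv_mem _ hg) f).mp hf
    rwa [inv_inv] at this
  have h2 := hc _ h1
  calc f * (g * c * g⁻¹) = g * ((g⁻¹ * f * g) * c) * g⁻¹ := by group
    _ = g * (c * (g⁻¹ * f * g)) * g⁻¹ := by rw [h2]
    _ = g * c * g⁻¹ * f := by group

/-- a solvable subgroup whose `2`-core is self-centralizing normalizes a Sylow `2`-subgroup -/
theorem two_local (W : Ward0 q r U H t) (S F : Subgroup G) (hFS : F ≤ S) (hF2 : IsPGroup 2 F)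
    (hSF : S ≤ Subgroup.normalizer (F : Set G))
    (hcent : ∀ s ∈ S, (∀ f ∈ F, s * f = f * s) → s ∈ F) :
    ∃ P : Sylow 2 G, S ≤ Subgroup.normalizer ((P : Subgroup G) : Set G) := by
  classical
  haveI : Fact (Nat.Prime 2) := ⟨Nat.prime_two⟩
  haveI : Fact (Nat.Prime 3) := ⟨Nat.prime_three⟩
  obtain ⟨P, hFP⟩ := hF2.exists_le_sylow
  have hPcomm := W.comm_of_isPGroup P P.isPGroup'
  have done_of_le : S ≤ F →
      ∃ P : Sylow 2 G, S ≤ Subgroup.normalizer ((P : Subgroup G) : Set G) :=
    fun h => ⟨P, (h.trans hFP).trans Subgroup.le_normalizer⟩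
  have hFcomm := W.comm_of_isPGroup F hF2
  rcases W.card_two_group F hF2 with h1 | h2 | h4 | h8
  · apply done_of_le
    intro s hs
    apply hcent s hs
    intro f hf
    have hbot := Subgroup.eq_bot_of_card_eq F h1
    rw [hbot] at hf
    rw [Subgroup.mem_bot.mp hf]; simp
  · apply done_of_le
    intro s hs
    apply hcent s hs
    intro f hf
    by_cases hf1 : f = 1
    · rw [hf1]; simp
    · have hmem : s * f * s⁻¹ ∈ F := (Subgroup.mem_normalizer_iff.mp (hSF hs) f).mp hf
      have hne : s * f * s⁻¹ ≠ 1 := by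
        intro h
        apply hf1
        calc f = s⁻¹ * (s * f * s⁻¹) * s := by group
          _ = 1 := by rw [h]; group
      obtain ⟨y, hy, hyu⟩ := (Nat.card_eq_two_iff' (1 : F)).mp h2
      have e1 := hyu ⟨f, hf⟩ (fun h => hf1 (congrArg Subtype.val h))
      have e2 := hyu ⟨s * f * s⁻¹, hmem⟩ (fun h => hne (congrArg Subtype.val h))
      have e3 : s * f * s⁻¹ = f := congrArg Subtype.val (e2.trans e1.symm)
      calc s * f = (s * f * s⁻¹) * s := by group
        _ = f * s := by rw [e3]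
  · -- `F` is a four-group
    have hmemΩ : ∀ s : G, s ∈ S → ∀ f : G, f ∈ F ∧ f ≠ 1 →
        s * f * s⁻¹ ∈ F ∧ s * f * s⁻¹ ≠ 1 := by
      intro s hs f hf
      refine ⟨(Subgroup.mem_normalizer_iff.mp (hSF hs) f).mp hf.1, ?_⟩
      intro h
      apply hf.2
      calc f = s⁻¹ * (s * f * s⁻¹) * s := by group
        _ = 1 := by rw [h]; group
    letI : MulAction ↥S {f : G // f ∈ F ∧ f ≠ 1} :=
      { smul := fun s f => ⟨s.1 * f.1 * s.1⁻¹, hmemΩ s.1 s.2 f.1 f.2⟩
        one_smul := fun f => Subtype.ext (by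
          show (1 : G) * f.1 * (1 : G)⁻¹ = f.1
          group)
        mul_smul := fun s s' f => Subtype.ext (by
          show (s.1 * s'.1) * f.1 * (s.1 * s'.1)⁻¹ = s.1 * (s'.1 * f.1 * s'.1⁻¹) * s.1⁻¹
          group) }
    obtain ⟨ρ, hρ⟩ : ∃ ρ : ↥S →* Equiv.Perm {f : G // f ∈ F ∧ f ≠ 1},
        ρ = MulAction.toPermHom ↥S {f : G // f ∈ F ∧ f ≠ 1} := ⟨_, rfl⟩
    have hρapp : ∀ (s : ↥S) (f : {f : G // f ∈ F ∧ f ≠ 1}), ((ρ s f : {f : G // f ∈ F ∧ f ≠ 1}) : G) =
        s.1 * f.1 * s.1⁻¹ := by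
      intro s f
      rw [hρ]; rfl
    have hker : ρ.ker = F.subgroupOf S := by
      ext s
      rw [MonoidHom.mem_ker, Subgroup.mem_subgroupOf]
      constructor
      · intro h
        apply hcent s.1 s.2
        intro f hf
        by_cases hf1 : f = 1
        · rw [hf1]; simp
        · have h2 : s.1 * f * s.1⁻¹ = f := by
            have := hρapp s ⟨f, hf, hf1⟩
            rw [h] at this
            exact this.symm
          calc s.1 * f = (s.1 * f * s.1⁻¹) * s.1 := by group
            _ = f * s.1 := by rw [h2]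
      · intro hs
        apply Equiv.ext
        intro f
        apply Subtype.ext
        rw [hρapp]
        show s.1 * f.1 * s.1⁻¹ = f.1
        rw [hFcomm s.1 f.1 hs f.2.1]; group
    have hcardS : Nat.card F * Nat.card ρ.range = Nat.card S := by
      have h1 := ρ.ker.card_mul_index
      rw [Subgroup.index_ker, hker,
        Nat.card_congr (Subgroup.subgroupOfEquivOfLe hFS).toEquiv] at h1
      exact h1
    have hrange : Nat.card ρ.range ∣ 6 := by
      have h1 := Subgroup.card_subgroup_dvd_card ρ.range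
      rw [Nat.card_perm, card_ne_one, h4] at h1
      exact h1
    -- `F` is a Sylow `2`-subgroup of `S`
    obtain ⟨Q₀⟩ : Nonempty (Sylow 2 ↥S) := inferInstance
    have hQ₀F : ∀ y ∈ (Q₀ : Subgroup ↥S), (y : G) ∈ F := by
      intro y hy
      have hFn : (F.subgroupOf S).Normal := (Subgroup.normal_subgroupOf_iff_le_normalizer hFS).mpr hSF
      have hle : F.subgroupOf S ≤ Q₀ :=
        (le_pCore hFn hF2.comap_subtype).trans (pCore_le_sylow 2 Q₀)
      have hQ2 : IsPGroup 2 ((Q₀ : Subgroup ↥S).map S.subtype) := Q₀.isPGroup'.map S.subtype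
      apply hcent y.1 y.2
      intro f hf
      apply W.comm_of_isPGroup _ hQ2
      · exact ⟨y, hy, rfl⟩
      · exact ⟨⟨f, hFS hf⟩, hle (Subgroup.mem_subgroupOf.mpr hf), rfl⟩
    have hQ₀card : Nat.card (Q₀ : Subgroup ↥S) = 4 := by
      have hFn : (F.subgroupOf S).Normal := (Subgroup.normal_subgroupOf_iff_le_normalizer hFS).mpr hSF
      have hle : F.subgroupOf S ≤ Q₀ :=
        (le_pCore hFn hF2.comap_subtype).trans (pCore_le_sylow 2 Q₀)
      have heq : (Q₀ : Subgroup ↥S) = F.subgroupOf S := by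
        apply le_antisymm
        · intro y hy
          exact Subgroup.mem_subgroupOf.mpr (hQ₀F y hy)
        · exact hle
      rw [heq, Nat.card_congr (Subgroup.subgroupOfEquivOfLe hFS).toEquiv, h4]
    have hodd : ¬ 2 ∣ (Q₀ : Subgroup ↥S).index := Q₀.not_dvd_index
    have hidx := (Q₀ : Subgroup ↥S).card_mul_index
    rw [hQ₀card] at hidx
    rw [h4] at hcardS
    obtain ⟨c, hc⟩ : ∃ c, c = Nat.card ρ.range := ⟨_, rfl⟩
    obtain ⟨i, hi⟩ : ∃ i, i = (Q₀ : Subgroup ↥S).index := ⟨_, rfl⟩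
    rw [← hc] at hcardS hrange
    rw [← hi] at hidx hodd
    have hc13 : c = 1 ∨ c = 3 := by
      have hci : c = i := by omega
      have hle : c ≤ 6 := Nat.le_of_dvd (by norm_num) hrange
      rw [hci] at hrange hle
      rw [hci]
      interval_cases i <;> omega
    rcases hc13 with hc1 | hc3
    · apply done_of_le
      have : F = S := by
        apply Subgroup.eq_of_le_of_card_ge hFS
        rw [h4, ← hcardS, hc1]
      rw [this]
    · -- `S` has order `12`
      have hS12 : Nat.card S = 12 := by rw [← hcardS, hc3]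
      obtain ⟨x, hx⟩ := exists_prime_orderOf_dvd_card' (G := ↥S) 3 (by rw [hS12]; norm_num)
      have hx' : orderOf (x : G) = 3 := by rw [Subgroup.orderOf_coe]; exact hx
      obtain ⟨T, hT⟩ : ∃ T : Subgroup G, T = Subgroup.zpowers (x : G) := ⟨_, rfl⟩
      have hTcard : Nat.card T = 3 := by rw [hT, Nat.card_zpowers, hx']
      have hTS : T ≤ S := by rw [hT, Subgroup.zpowers_le]; exact x.2
      obtain ⟨C, hC⟩ : ∃ C : Subgroup G, C = Subgroup.centralizer (F : Set G) := ⟨_, rfl⟩
      have hTC : T ≤ Subgroup.normalizer (C : Set G) := by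
        rw [hC]
        exact (hTS.trans hSF).trans (normalizer_le_normalizer_centralizer F)
      have hcop : (Nat.card T).Coprime (Nat.card C) := by
        rw [hTcard, hC, Nat.Prime.coprime_iff_not_dvd Nat.prime_three]
        exact W.three_not_dvd_card_centralizer F (by rw [h4])
      have hTsolv : Group.IsSolvable T := by
        apply isSolvable_of_comm
        intro a b
        apply Subtype.ext
        have hcyc : IsCyclic T := by rw [hT]; infer_instance
        exact comm_of_cyclic T hcyc a.1 b.1 a.2 b.2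
      obtain ⟨P₂, hP₂⟩ := coprime_exists_invariant_sylow T C hTC hcop (Or.inl hTsolv) 2
      obtain ⟨P', hP'⟩ : ∃ P' : Subgroup G, P' = (P₂ : Subgroup C).map C.subtype := ⟨_, rfl⟩
      rw [← hP'] at hP₂
      have hP'2 : IsPGroup 2 P' := by rw [hP']; exact P₂.isPGroup'.map C.subtype
      have hFC : F ≤ C := by
        rw [hC]
        intro f hf
        rw [Subgroup.mem_centralizer_iff]
        intro f' hf'
        exact hFcomm f' f hf' hf
      have hPC : (P : Subgroup G) ≤ C := by
        rw [hC]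
        intro y hy
        rw [Subgroup.mem_centralizer_iff]
        intro f' hf'
        exact hPcomm f' y (hFP hf') hy
      have hP'card : Nat.card P' = 8 := by
        have h1 : Nat.card P' = Nat.card (P₂ : Subgroup C) := by
          rw [hP']
          exact Subgroup.card_map_of_injective C.subtype_injective
        have hP2' : IsPGroup 2 ((P : Subgroup G).subgroupOf C) := P.isPGroup'.comap_subtype
        obtain ⟨Q₂, hQ₂⟩ := hP2'.exists_le_sylow
        have h2 : Nat.card (Q₂ : Subgroup C) = Nat.card (P₂ : Subgroup C) := by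
          rw [Sylow.card_eq_multiplicity, Sylow.card_eq_multiplicity]
        have h3 : 8 ≤ Nat.card (Q₂ : Subgroup C) := by
          have := Subgroup.card_dvd_of_le hQ₂
          rw [Nat.card_congr (Subgroup.subgroupOfEquivOfLe hPC).toEquiv, W.card_sylow_two P] at this
          exact Nat.le_of_dvd Nat.card_pos this
        rcases W.card_two_group P' hP'2 with h | h | h | h
        · omega
        · omega
        · omega
        · exact h
      obtain ⟨P'', hP''⟩ := W.sylow_of_card_eight P' hP'card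
      have hCmem : ∀ c ∈ C, ∀ f ∈ F, f * c = c * f := by
        intro c hc f hf
        rw [hC] at hc
        exact Subgroup.mem_centralizer_iff.mp hc f hf
      have hFP' : F ≤ P' := by
        have hFn : (F.subgroupOf C).Normal := by
          constructor
          intro f hf c
          have hfF : (f : G) ∈ F := Subgroup.mem_subgroupOf.mp hf
          have hc : (f : G) * (c : G) = (c : G) * (f : G) := hCmem c.1 c.2 f.1 hfF
          rw [Subgroup.mem_subgroupOf]
          have e : ((c * f * c⁻¹ : ↥C) : G) = (f : G) := by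
            show (c : G) * (f : G) * (c : G)⁻¹ = (f : G)
            rw [← hc]; group
          rw [e]; exact hfF
        have hle : F.subgroupOf C ≤ P₂ :=
          (le_pCore hFn hF2.comap_subtype).trans (pCore_le_sylow 2 P₂)
        intro f hf
        rw [hP']
        exact ⟨⟨f, hFC hf⟩, hle (Subgroup.mem_subgroupOf.mpr hf), rfl⟩
      refine ⟨P'', ?_⟩
      rw [hP'']
      have hsup : F ⊔ T = S := by
        apply Subgroup.eq_of_le_of_card_ge (sup_le hFS hTS)
        rw [hS12]
        have d4 : 4 ∣ Nat.card (F ⊔ T : Subgroup G) := by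
          rw [← h4]; exact Subgroup.card_dvd_of_le le_sup_left
        have d3 : 3 ∣ Nat.card (F ⊔ T : Subgroup G) := by
          rw [← hTcard]; exact Subgroup.card_dvd_of_le le_sup_right
        have d12 : 12 ∣ Nat.card (F ⊔ T : Subgroup G) :=
          Nat.Coprime.mul_dvd_of_dvd_of_dvd (by norm_num) d4 d3
        exact Nat.le_of_dvd Nat.card_pos d12
      rw [← hsup]
      exact sup_le (hFP'.trans Subgroup.le_normalizer) hP₂
  · obtain ⟨P', hP'⟩ := W.sylow_of_card_eight F h8
    exact ⟨P', by rw [hP']; exact hSF⟩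

end Ward0

end Cfsg.Agent.Lib.Helper1.RW
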