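import Mathlib
import Cfsg.Agent.Lib.Helper1.RW20

/-!
Ward's analysis of the Ree groups `²G₂(q)`, part 21: solvable subgroups lie in local normalizers.
-/

set_option autoImplicit false
set_option maxHeartbeats 4000000
set_option linter.unusedVariables false
set_option linter.unusedSectionVars false
set_option linter.style.longLine false
set_option linter.unusedSimpArgs false
set_option linter.deprecated false

namespace Cfsg.Agent.Lib.Helper1.RW

universe u

variable {G : Type u} [Group G] [Finite G] {q r : ℕ} {U H : Subgroup G} {t : G}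

namespace Ward0

/-- a subgroup normalizing a non-trivial `3`-subgroup normalizes a Sylow `3`-subgroup -/
theorem three_local (W : Ward0 q r U H t) (S N : Subgroup G) (hN3 : IsPGroup 3 N) (hN : N ≠ ⊥)
    (hSN : S ≤ Subgroup.normalizer (N : Set G)) :
    ∃ P : Sylow 3 G, S ≤ Subgroup.normalizer ((P : Subgroup G) : Set G) := by
  haveI : Fact (Nat.Prime 3) := ⟨Nat.prime_three⟩
  obtain ⟨g, hg⟩ := exists_conj_le_of_index' U 3 W.three_not_dvd_index_U N hN3
  obtain ⟨⟨n, hn⟩, hn1⟩ := (Subgroup.ne_bot_iff_exists_ne_one).mp hN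
  have hn1' : n ≠ 1 := fun h => hn1 (Subtype.ext h)
  have hu1 : g * n * g⁻¹ ≠ 1 := by
    intro h
    apply hn1'
    calc n = g⁻¹ * (g * n * g⁻¹) * g := by group
      _ = 1 := by rw [h]; group
  have key : ∀ s ∈ S, g * s * g⁻¹ ∈ Subgroup.normalizer (U : Set G) := by
    intro s hs
    apply W.ti_U _ _ (hg n hn) hu1
    have h1 : s * n * s⁻¹ ∈ N := (Subgroup.mem_normalizer_iff.mp (hSN hs) n).mp hn
    have e : g * s * g⁻¹ * (g * n * g⁻¹) * (g * s * g⁻¹)⁻¹ = g * (s * n * s⁻¹) * g⁻¹ := by group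
    rw [e]
    exact hg _ h1
  have hA := le_normalizer_map_conj S U g key
  have hA3 : IsPGroup 3 (U.map (MulAut.conj g⁻¹).toMonoidHom) := W.isPGroup_U.map _
  have hidx : ¬ 3 ∣ (U.map (MulAut.conj g⁻¹).toMonoidHom).index := by
    have h1 := (U.map (MulAut.conj g⁻¹).toMonoidHom).card_mul_index
    have h2 := U.card_mul_index
    rw [card_map_conj'] at h1
    have hpos : 0 < Nat.card U := Nat.card_pos
    have h3 : (U.map (MulAut.conj g⁻¹).toMonoidHom).index = U.index := by
      apply Nat.eq_of_mul_eq_mul_left hpos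
      rw [h1, h2]
    rw [h3]
    exact W.three_not_dvd_index_U
  refine ⟨hA3.toSylow hidx, ?_⟩
  rw [IsPGroup.toSylow_coe]
  exact hA

end Ward0

namespace Ward

/-- a subgroup normalizing a subgroup of prime order dividing the order of a cyclic Hall torus
normalizes a conjugate of that torus -/
theorem torus_local (W : Ward q r U H t) (kn : ℕ × ℕ)
    (hkn : kn ∈ ({((q - 1) / 2, 2 * (q - 1)), ((q + 1) / 4, 6 * (q + 1)),
        (q - r + 1, 6 * (q - r + 1)), (q + r + 1, 6 * (q + r + 1))} : Set (ℕ × ℕ)))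
    (ℓ : ℕ) (hℓ : ℓ.Prime) (hd : ℓ ∣ kn.1) (x : G) (hx : orderOf x = ℓ) (S : Subgroup G)
    (hS : S ≤ Subgroup.normalizer ((Subgroup.zpowers x : Subgroup G) : Set G)) :
    ∃ A : Subgroup G, IsCyclic A ∧ Nat.card A = kn.1 ∧ S ≤ Subgroup.normalizer (A : Set G) := by
  have hdisj : ℓ ∣ (q - 1) / 2 ∨ ℓ ∣ (q + 1) / 4 ∨ ℓ ∣ q - r + 1 ∨ ℓ ∣ q + r + 1 := by
    simp only [Set.mem_insert_iff, Set.mem_singleton_iff] at hkn
    rcases hkn with rfl | rfl | rfl | rfl
    · exact Or.inl hd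
    · exact Or.inr (Or.inl hd)
    · exact Or.inr (Or.inr (Or.inl hd))
    · exact Or.inr (Or.inr (Or.inr hd))
  obtain ⟨A, hAc, hAcard, -, hA₀⟩ := W.hall kn hkn
  have hpos : 0 < Nat.card {a : G // a ∈ A ∧ orderOf a = ℓ} := by
    rw [card_orderOf_cyclic A hAc ℓ (by rw [hAcard]; exact hd)]
    exact Nat.totient_pos.mpr hℓ.pos
  obtain ⟨a, haA, hao⟩ := exists_of_card_pos hpos
  have ha1 : a ≠ 1 := ne_one_of_orderOf_prime a ℓ hℓ hao
  have hA₀le : Subgroup.zpowers a ≤ A := by rw [Subgroup.zpowers_le]; exact haA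
  have hA₀ne : Subgroup.zpowers a ≠ ⊥ := by
    intro h
    apply ha1
    have := Subgroup.mem_zpowers a
    rw [h] at this
    exact Subgroup.mem_bot.mp this
  have hN := hA₀ _ hA₀le hA₀ne
  obtain ⟨g, hg⟩ := W.conj_cyclic ℓ hdisj (Subgroup.zpowers a) (Subgroup.zpowers x)
    inferInstance inferInstance (by rw [Nat.card_zpowers, hao]) (by rw [Nat.card_zpowers, hx])
  refine ⟨A.map (MulAut.conj g).toMonoidHom, ?_, by rw [card_map_conj', hAcard], ?_⟩
  · haveI := hAc
    exact ((A.equivMapOfInjective (MulAut.conj g).toMonoidHom (MulAut.conj g).injective).isCyclic).1 hAc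
  · rw [normalizer_map_conj, ← hN, ← normalizer_map_conj, ← hg]
    exact hS

/-- every solvable subgroup lies in a local normalizer -/
theorem solvable_local (W : Ward q r U H t) (S : Subgroup G) (hS : Group.IsSolvable S) :
    ∃ A : Subgroup G, S ≤ Subgroup.normalizer (A : Set G) ∧
      ((∃ P : Sylow 2 G, A = P) ∨ (∃ P : Sylow 3 G, A = P) ∨
        (IsCyclic A ∧ (Nat.card A = (q - 1) / 2 ∨ Nat.card A = (q + 1) / 4 ∨
          Nat.card A = q - r + 1 ∨ Nat.card A = q + r + 1))) := by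
  have W0 := W.toWard0
  rcases solvable_cases_sub S hS with ⟨ℓ, N, hℓ, hℓ2, hNne, hNS, hNℓ, hSN⟩ | ⟨F, hFS, hF2, hSF, hcent⟩
  · haveI : Fact ℓ.Prime := ⟨hℓ⟩
    by_cases hℓ3 : ℓ = 3
    · subst hℓ3
      obtain ⟨P, hP⟩ := W0.three_local S N hNℓ hNne hSN
      exact ⟨P, hP, Or.inr (Or.inl ⟨P, rfl⟩)⟩
    · -- `ℓ > 3`
      have hℓgt : 3 < ℓ := by
        have := hℓ.two_le
        have h4 : ℓ ≠ 4 := by
          rintro rfl
          exact (by norm_num : ¬ Nat.Prime 4) hℓ
        omega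
      have hNcyc : IsCyclic N := isCyclic_of_isPGroup ℓ (fun Q => W0.sylow_cyc ℓ hℓgt Q) N hNℓ
      -- an element of order `ℓ`
      have hdvd : ℓ ∣ Nat.card N := by
        obtain ⟨k, hk⟩ := IsPGroup.iff_card.mp hNℓ
        rw [hk]
        rcases k with _ | k
        · exfalso
          apply hNne
          rw [pow_zero] at hk
          exact Subgroup.eq_bot_of_card_eq N hk
        · exact dvd_pow_self ℓ (Nat.succ_ne_zero k)
      obtain ⟨x, hx⟩ := exists_prime_orderOf_dvd_card' (G := ↥N) ℓ hdvd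
      have hx' : orderOf (x : G) = ℓ := by rw [Subgroup.orderOf_coe]; exact hx
      have hSx : S ≤ Subgroup.normalizer ((Subgroup.zpowers (x : G) : Subgroup G) : Set G) := by
        intro s hs
        have h1 : (Subgroup.zpowers (x : G)).map (MulAut.conj s).toMonoidHom =
            Subgroup.zpowers (x : G) := by
          haveI := hNcyc
          apply Helper3.subgroup_eq_of_card_eq_of_le_isCyclic N _ _ ?_
            (by rw [Subgroup.zpowers_le]; exact x.2) (card_map_conj' _ s)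
          rw [MonoidHom.map_zpowers, Subgroup.zpowers_le]
          exact (Subgroup.mem_normalizer_iff.mp (hSN hs) x.1).mp x.2
        rw [Subgroup.mem_normalizer_iff]
        intro h
        constructor
        · intro hh
          rw [← h1]
          exact ⟨h, hh, by simp⟩
        · intro hh
          rw [← h1] at hh
          obtain ⟨y, hy, hyh⟩ := hh
          have : y = h := by
            have h2 : s * y * s⁻¹ = s * h * s⁻¹ := by simpa using hyh
            have h3 := mul_right_cancel h2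
            exact mul_left_cancel h3
          rwa [← this]
      have hℓG : ℓ ∣ q ^ 3 * (q - 1) * (q ^ 3 + 1) := by
        rw [← W0.card_G, ← hx']
        exact orderOf_dvd_natCard _
      have hqa := W0.qa
      have fin : ∀ kn ∈ ({((q - 1) / 2, 2 * (q - 1)), ((q + 1) / 4, 6 * (q + 1)),
          (q - r + 1, 6 * (q - r + 1)), (q + r + 1, 6 * (q + r + 1))} : Set (ℕ × ℕ)),
          ℓ ∣ kn.1 → ∃ A : Subgroup G, IsCyclic A ∧ Nat.card A = kn.1 ∧
            S ≤ Subgroup.normalizer (A : Set G) :=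
        fun kn hkn hd => W.torus_local kn hkn ℓ hℓ hd x.1 hx' S hSx
      rcases hqa.prime_cases hℓ hℓG with h | h | ⟨-, h⟩ | ⟨-, h⟩ | h
      · exact absurd h hℓ2
      · exact absurd h hℓ3
      · obtain ⟨A, hAc, hAcard, hSA⟩ := fin ((q - 1) / 2, 2 * (q - 1)) (by simp)
          (hqa.dvd_half hℓ hℓ2 h)
        exact ⟨A, hSA, Or.inr (Or.inr ⟨hAc, Or.inl hAcard⟩)⟩
      · obtain ⟨A, hAc, hAcard, hSA⟩ := fin ((q + 1) / 4, 6 * (q + 1)) (by simp)
          (hqa.dvd_quarter hℓ hℓ2 h)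
        exact ⟨A, hSA, Or.inr (Or.inr ⟨hAc, Or.inr (Or.inl hAcard)⟩)⟩
      · rw [← hqa.prod_eq_n0] at h
        rcases (Nat.Prime.dvd_mul hℓ).mp h with h | h
        · obtain ⟨A, hAc, hAcard, hSA⟩ := fin (q + r + 1, 6 * (q + r + 1)) (by simp) h
          exact ⟨A, hSA, Or.inr (Or.inr ⟨hAc, Or.inr (Or.inr (Or.inr hAcard))⟩)⟩
        · obtain ⟨A, hAc, hAcard, hSA⟩ := fin (q - r + 1, 6 * (q - r + 1)) (by simp) h
          exact ⟨A, hSA, Or.inr (Or.inr ⟨hAc, Or.inr (Or.inr (Or.inl hAcard))⟩)⟩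
  · obtain ⟨P, hP⟩ := W0.two_local S F hFS hF2 hSF hcent
    exact ⟨P, hP, Or.inl ⟨P, rfl⟩⟩

end Ward

end Cfsg.Agent.Lib.Helper1.RW
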