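import Cfsg.Agent.Lib.Helper1.Ro5

set_option autoImplicit false

/-!
# Special rank one pairs inside a bigger group: the structure of `⟨A, B⟩'`
-/

namespace Cfsg.Agent.Lib.Helper1.Rb

open Cfsg Cfsg.Agent.Lib.Helper4.RankOneGrp Cfsg.Agent.Lib.Lead.SpecialRankOne
open Cfsg.Agent.Lib.Helper4.RankOneGrp2 Cfsg.Agent.Lib.Helper4.RankOneSub
open Cfsg.Agent.Lib.Helper1.Ro

variable {G : Type*} [Group G]

/-- a special rank one pair with abelian unipotent subgroups having more than three elements -/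
structure SPair (A B : Subgroup G) : Prop where
  pair : IsRankOnePair A B
  spec : ∀ a ∈ A, a ≠ 1 → ∀ b ∈ B, b ≠ 1 → conjBy A b⁻¹ = conjBy B a⁻¹ →
    b⁻¹ * a * b = a⁻¹ * b⁻¹ * a
  commA : ∀ a ∈ A, ∀ a' ∈ A, a * a' = a' * a
  commB : ∀ b ∈ B, ∀ b' ∈ B, b * b' = b' * b
  card : 3 < ENat.card A

variable {A B : Subgroup G}

theorem SPair.sp (h : SPair A B) : SP (A.subgroupOf (A ⊔ B)) (B.subgroupOf (A ⊔ B)) :=
  SP_sub h.pair h.spec h.commA h.commB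

theorem SPair.card₁ (h : SPair A B) : 3 < ENat.card ↥(A.subgroupOf (A ⊔ B)) := by
  have := ENat.card_congr (Subgroup.subgroupOfEquivOfLe (le_sup_left : A ≤ A ⊔ B)).toEquiv
  rw [this]
  exact h.card

theorem mem_comm_iff {X : Subgroup G} {x : ↥X} : x ∈ commutator ↥X ↔ (x : G) ∈ ⁅X, X⁆ := by
  rw [← Subgroup.map_subtype_commutator X]
  constructor
  · intro hx
    exact ⟨x, hx, rfl⟩
  · rintro ⟨y, hy, hyx⟩
    have : y = x := Subtype.ext hyx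
    rwa [← this]

/-- every element of `X` is a product of an element of `X'` and an element of `A` -/
theorem SPair.decomp (h : SPair A B) {x : G} (hx : x ∈ A ⊔ B) :
    ∃ k ∈ ⁅A ⊔ B, A ⊔ B⁆, ∃ a ∈ A, x = k * a := by
  have h1 := comm_sup_top h.sp
  have h2 : (⟨x, hx⟩ : ↥(A ⊔ B)) ∈ commutator ↥(A ⊔ B) ⊔ A.subgroupOf (A ⊔ B) := by
    rw [h1]; exact Subgroup.mem_top _
  rw [Subgroup.mem_sup_of_normal_left] at h2
  obtain ⟨k, hk, a, ha, hka⟩ := h2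
  refine ⟨k, mem_comm_iff.mp hk, a, ha, ?_⟩
  have := congrArg Subtype.val hka
  exact this.symm

theorem SPair.right_le (h : SPair A B) : B ≤ ⁅A ⊔ B, A ⊔ B⁆ ⊔ A := by
  intro b hb
  obtain ⟨k, hk, a, ha, rfl⟩ := h.decomp (Subgroup.mem_sup_right hb)
  exact mul_mem (Subgroup.mem_sup_left hk) (Subgroup.mem_sup_right ha)

theorem SPair.perfect (h : SPair A B) :
    ⁅⁅A ⊔ B, A ⊔ B⁆, ⁅A ⊔ B, A ⊔ B⁆⁆ = ⁅A ⊔ B, A ⊔ B⁆ := by
  have h1 := comm_perfect h.sp h.card₁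
  have h2 := congrArg (Subgroup.map (A ⊔ B).subtype) h1
  rwa [Subgroup.map_commutator, Subgroup.map_subtype_commutator] at h2

theorem SPair.simple (h : SPair A B) {M : Subgroup G} (hMD : M ≤ ⁅A ⊔ B, A ⊔ B⁆)
    (hMn : ∀ k ∈ ⁅A ⊔ B, A ⊔ B⁆, ∀ m ∈ M, k * m * k⁻¹ ∈ M) :
    (∀ m ∈ M, ∀ k ∈ ⁅A ⊔ B, A ⊔ B⁆, m * k = k * m) ∨ ⁅A ⊔ B, A ⊔ B⁆ ≤ M := by
  by_cases hc : ∀ m ∈ M, ∀ k ∈ ⁅A ⊔ B, A ⊔ B⁆, m * k = k * m
  · exact Or.inl hc
  right
  have hDX : ⁅A ⊔ B, A ⊔ B⁆ ≤ A ⊔ B := Subgroup.commutator_le_self _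
  have h1 : commutator ↥(A ⊔ B) ≤ M.subgroupOf (A ⊔ B) := by
    apply comm_simple h.sp h.card₁
    · intro x hx
      rw [mem_comm_iff]
      exact hMD (Subgroup.mem_subgroupOf.mp hx)
    · intro k hk m hm
      rw [Subgroup.mem_subgroupOf] at hm ⊢
      exact hMn _ (mem_comm_iff.mp hk) _ hm
    · intro hall
      apply hc
      intro m hm k hk
      have := hall ⟨m, hDX (hMD hm)⟩ (Subgroup.mem_subgroupOf.mpr hm) ⟨k, hDX hk⟩
        (mem_comm_iff.mpr hk)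
      exact congrArg Subtype.val this
  intro k hk
  have := h1 ((mem_comm_iff (x := ⟨k, hDX hk⟩)).mpr hk)
  exact Subgroup.mem_subgroupOf.mp this

theorem SPair.exists_ne (h : SPair A B) : ∃ u ∈ A, u ∈ ⁅A ⊔ B, A ⊔ B⁆ ∧ u ≠ 1 := by
  obtain ⟨u, hu, hu1⟩ := exists_comm_ne_one h.sp h.card₁
  refine ⟨u, ?_, mem_comm_iff.mp (comm_le_comm hu), fun e => hu1 (Subtype.ext e)⟩
  have := comm_le h.sp hu
  exact Subgroup.mem_subgroupOf.mp this

theorem SPair.central (h : SPair A B) {z : G} (hz : z ∈ A ⊔ B)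
    (hzk : ∀ k ∈ ⁅A ⊔ B, A ⊔ B⁆, z * k = k * z) : ∀ x ∈ A ⊔ B, z * x = x * z := by
  have h1 : (⟨z, hz⟩ : ↥(A ⊔ B)) ∈ Subgroup.center ↥(A ⊔ B) :=
    central_of_centralizes_comm h.sp h.card₁
      (fun k hk => Subtype.ext (hzk _ (mem_comm_iff.mp hk)))
  intro x hx
  have := Subgroup.mem_center_iff.mp h1 ⟨x, hx⟩
  exact (congrArg Subtype.val this).symm

theorem SPair.gen (h : SPair A B) {T : Subgroup G}
    (hT : ∀ x ∈ A ⊔ B, conjBy A x ⊓ ⁅A ⊔ B, A ⊔ B⁆ ≤ T) : ⁅A ⊔ B, A ⊔ B⁆ ≤ T := by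
  have hDX : ⁅A ⊔ B, A ⊔ B⁆ ≤ A ⊔ B := Subgroup.commutator_le_self _
  have h1 : commutator ↥(A ⊔ B) ≤ T.subgroupOf (A ⊔ B) := by
    apply comm_le_of_conj_le h.sp h.card₁
    intro x y hy
    rw [Subgroup.mem_inf] at hy
    rw [Subgroup.mem_subgroupOf]
    apply hT x x.2
    exact Subgroup.mem_inf.mpr ⟨mem_conjBy_subgroupOf.mp hy.1, mem_comm_iff.mp hy.2⟩
  intro k hk
  have := h1 ((mem_comm_iff (x := ⟨k, hDX hk⟩)).mpr hk)
  exact Subgroup.mem_subgroupOf.mp this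

/-- conjugation by elements of `X` preserves `X'` -/
theorem conj_mem_comm {X : Subgroup G} {z k : G} (hz : z ∈ X) (hk : k ∈ ⁅X, X⁆) :
    z * k * z⁻¹ ∈ ⁅X, X⁆ := by
  have h1 : z * k * z⁻¹ * k⁻¹ ∈ ⁅X, X⁆ :=
    Subgroup.commutator_mem_commutator hz (Subgroup.commutator_le_self _ hk)
  have e : z * k * z⁻¹ = (z * k * z⁻¹ * k⁻¹) * k := by group
  rw [e]
  exact mul_mem h1 hk

/-- if `M` is normalized by `G'` and does not contain `X'`, then `M ∩ X` is central in `X` -/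
theorem SPair.inter_central (h : SPair A B) {M : Subgroup G}
    (hMn : ∀ k ∈ commutator G, ∀ m ∈ M, k * m * k⁻¹ ∈ M) (hMA : ¬ ⁅A ⊔ B, A ⊔ B⁆ ≤ M)
    {z : G} (hzM : z ∈ M) (hzX : z ∈ A ⊔ B) : ∀ x ∈ A ⊔ B, z * x = x * z := by
  have hDG : ⁅A ⊔ B, A ⊔ B⁆ ≤ commutator G := by
    rw [commutator_def]; exact Subgroup.commutator_mono le_top le_top
  have hDX : ⁅A ⊔ B, A ⊔ B⁆ ≤ A ⊔ B := Subgroup.commutator_le_self _
  have h1 := h.simple (M := M ⊓ ⁅A ⊔ B, A ⊔ B⁆) inf_le_right (by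
    intro k hk m hm
    rw [Subgroup.mem_inf] at hm ⊢
    exact ⟨hMn k (hDG hk) m hm.1, conj_mem_comm (hDX hk) hm.2⟩)
  rcases h1 with h1 | h1
  · apply h.central hzX
    apply centralizes_of_comm_central h.perfect
    · intro k hk
      exact conj_mem_comm hzX hk
    · intro k hk k' hk'
      apply h1 _ _ k' hk'
      rw [Subgroup.mem_inf]
      constructor
      · have e : z * k * z⁻¹ * k⁻¹ = z * (k * z⁻¹ * k⁻¹) := by group
        rw [e]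
        exact mul_mem hzM (hMn k (hDG hk) _ (inv_mem hzM))
      · exact Subgroup.commutator_mem_commutator hzX (hDX hk)
  · exact absurd (h1.trans inf_le_left) hMA

end Cfsg.Agent.Lib.Helper1.Rb
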