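import Cfsg.Agent.Lib.Helper1.Rb1
import Cfsg.Agent.Lib.Helper4.RootSub3
import Cfsg.Agent.S5025
import Cfsg.Agent.S5028

set_option autoImplicit false

/-!
# Quasisimplicity criterion for root subgroup sets: the degenerate case
-/

namespace Cfsg.Agent.Lib.Helper1.Rb

open Cfsg Cfsg.Agent.Lib.Helper4.RankOneGrp Cfsg.Agent.Lib.Lead.SpecialRankOne
open Cfsg.Agent.Lib.Helper4.RankOneGrp2 Cfsg.Agent.Lib.Helper4.RootSub
open Cfsg.Agent.Lib.Helper4.RootSub2 Cfsg.Agent.Lib.Helper4.RootSub3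
open Cfsg.Agent.Lib.Helper1.Ro

variable {G : Type*} [Group G] {S : Set (Subgroup G)}

/-- standing hypotheses (degenerate case) -/
structure Hyp (S : Set (Subgroup G)) : Prop where
  set : IsRootSubgroupSet S
  partner : ∀ A ∈ S, ∃ D ∈ S, IsRankOnePair A D
  conn : IsConnectedFamily (FAdj S) S
  sep : ∀ A ∈ S, ∀ C ∈ S, A ≠ C → centralizingMembers S A ≠ centralizingMembers S C
  spair : ∀ A ∈ S, ∀ B ∈ S, IsRankOnePair A B → SPair A B
  deg : IsDegenerateRootSet S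

/-- the union of the commutator subgroups of the rank one groups -/
def U (S : Set (Subgroup G)) : Set G :=
  {x | ∃ A ∈ S, ∃ B ∈ S, IsRankOnePair A B ∧ x ∈ ⁅A ⊔ B, A ⊔ B⁆}

/-- the subgroup generated by the commutator subgroups of the rank one groups -/
def K (S : Set (Subgroup G)) : Subgroup G := Subgroup.normalClosure (U S)

instance K_normal : (K S).Normal := Subgroup.normalClosure_normal

theorem pair_le_K {A B : Subgroup G} (hA : A ∈ S) (hB : B ∈ S) (hp : IsRankOnePair A B) :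
    ⁅A ⊔ B, A ⊔ B⁆ ≤ K S := by
  intro x hx
  exact Subgroup.subset_normalClosure ⟨A, hA, B, hB, hp, hx⟩

theorem conjBy_commutator (H₁ H₂ : Subgroup G) (g : G) :
    conjBy ⁅H₁, H₂⁆ g = ⁅conjBy H₁ g, conjBy H₂ g⁆ :=
  Subgroup.map_commutator H₁ H₂ _

theorem K_le (hS : IsRootSubgroupSet S) (T : Subgroup G)
    (hT : ∀ A ∈ S, ∀ B ∈ S, IsRankOnePair A B → ⁅A ⊔ B, A ⊔ B⁆ ≤ T) : K S ≤ T := by
  unfold K
  rw [Subgroup.normalClosure, Subgroup.closure_le]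
  intro y hy
  rw [Group.mem_conjugatesOfSet_iff] at hy
  obtain ⟨x, ⟨A, hA, B, hB, hp, hx⟩, hconj⟩ := hy
  rw [isConj_iff] at hconj
  obtain ⟨c, rfl⟩ := hconj
  have h1 : c * x * c⁻¹ ∈ conjBy ⁅A ⊔ B, A ⊔ B⁆ c := conj_mem_conjBy hx
  rw [conjBy_commutator, conjBy_sup] at h1
  exact hT _ (hS.conj_mem A hA c) _ (hS.conj_mem B hB c) (rankOnePair_conj hp c) h1

theorem comm_pair_le {A B : Subgroup G} : ⁅A ⊔ B, A ⊔ B⁆ ≤ commutator G := by
  rw [commutator_def]; exact Subgroup.commutator_mono le_top le_top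

section deg

variable (hyp : Hyp S)
include hyp

theorem K_sup_adj {A B : Subgroup G} (hA : A ∈ S) (hB : B ∈ S) (hp : IsRankOnePair A B) :
    K S ⊔ A = K S ⊔ B := by
  apply le_antisymm
  · refine sup_le le_sup_left ?_
    have h1 := (hyp.spair B hB A hA (RankOnePair_symm hp)).right_le
    exact h1.trans (sup_le_sup_right (pair_le_K hB hA (RankOnePair_symm hp)) B)
  · refine sup_le le_sup_left ?_
    have h1 := (hyp.spair A hA B hB hp).right_le
    exact h1.trans (sup_le_sup_right (pair_le_K hA hB hp) A)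

theorem K_sup_path {A B : Subgroup G} (h : Relation.ReflTransGen (FAdj S) A B) :
    K S ⊔ A = K S ⊔ B := by
  induction h with
  | refl => rfl
  | tail _ hbc ih => exact ih.trans (K_sup_adj hyp hbc.1 hbc.2.1 hbc.2.2)

theorem K_sup {A : Subgroup G} (hA : A ∈ S) : K S ⊔ A = ⊤ := by
  rw [eq_top_iff, ← hyp.set.generates]
  apply iSup₂_le
  intro B hB
  rw [K_sup_path hyp (hyp.conn A hA B hB)]
  exact le_sup_right

theorem comm_eq_K {A : Subgroup G} (hA : A ∈ S) : commutator G = K S := by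
  apply le_antisymm
  · have hcomm : ∀ a ∈ A, ∀ a' ∈ A, a * a' = a' * a := by
      obtain ⟨D, hD, hp⟩ := hyp.partner A hA
      exact (hyp.spair A hA D hD hp).commA
    exact commutator_le_of_sup_top hcomm (K_sup hyp hA)
  · exact K_le hyp.set _ (fun _ _ _ _ _ => comm_pair_le)

theorem comm_sup {A : Subgroup G} (hA : A ∈ S) : commutator G ⊔ A = ⊤ := by
  rw [comm_eq_K hyp hA]; exact K_sup hyp hA

theorem exists_in_comm {A : Subgroup G} (hA : A ∈ S) :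
    ∃ a ∈ A, a ∈ commutator G ∧ a ≠ 1 := by
  obtain ⟨D, hD, hp⟩ := hyp.partner A hA
  obtain ⟨u, hu, huD, hu1⟩ := (hyp.spair A hA D hD hp).exists_ne
  exact ⟨u, hu, comm_pair_le huD, hu1⟩

theorem comm_comm_eq {A : Subgroup G} (hA : A ∈ S) :
    ⁅commutator G, commutator G⁆ = commutator G := by
  apply le_antisymm (Subgroup.commutator_le_self _)
  conv_lhs => rw [comm_eq_K hyp hA]
  apply K_le hyp.set
  intro A' hA' B' hB' hp
  rw [← (hyp.spair A' hA' B' hB' hp).perfect]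
  exact Subgroup.commutator_mono comm_pair_le comm_pair_le

theorem comm_nonabelian {A : Subgroup G} (hA : A ∈ S) :
    ∃ x ∈ commutator G, ∃ y ∈ commutator G, x * y ≠ y * x := by
  by_contra hcon
  push Not at hcon
  obtain ⟨D, hD, hp⟩ := hyp.partner A hA
  have h := hyp.spair A hA D hD hp
  obtain ⟨u, hu, huD, hu1⟩ := h.exists_ne
  have hbot : ⁅⁅A ⊔ D, A ⊔ D⁆, ⁅A ⊔ D, A ⊔ D⁆⁆ = ⊥ := by
    rw [Subgroup.commutator_eq_bot_iff_le_centralizer]
    intro a ha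
    rw [Subgroup.mem_centralizer_iff]
    intro g hg
    exact hcon g (comm_pair_le hg) a (comm_pair_le ha)
  rw [h.perfect] at hbot
  rw [hbot, Subgroup.mem_bot] at huD
  exact hu1 huD

/-! ### Case 1: `M` meets a member of `S` -/

theorem prop_step {M : Subgroup G} (hMn : ∀ k ∈ commutator G, ∀ m ∈ M, k * m * k⁻¹ ∈ M)
    {A D : Subgroup G} (hA : A ∈ S) (hD : D ∈ S) (hp : IsRankOnePair A D) {a : G} (ha : a ∈ A)
    (haM : a ∈ M) (ha1 : a ≠ 1) :
    ⁅A ⊔ D, A ⊔ D⁆ ≤ M ∧ ∃ d ∈ D, d ∈ M ∧ d ≠ 1 := by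
  have h := hyp.spair A hA D hD hp
  have hle : ⁅A ⊔ D, A ⊔ D⁆ ≤ M := by
    by_contra hle
    have hcen := h.inter_central hMn hle haM (Subgroup.mem_sup_left ha)
    apply ha1
    apply eq_one_of_mem_normalizer hp ha
    exact mem_normalizer_of_commutes (fun x hx => hcen x (Subgroup.mem_sup_right hx))
  refine ⟨hle, ?_⟩
  obtain ⟨u, hu, huD, hu1⟩ := (hyp.spair D hD A hA (RankOnePair_symm hp)).exists_ne
  rw [sup_comm] at huD
  exact ⟨u, hu, hle huD, hu1⟩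

theorem all_meet_path {M : Subgroup G} (hMn : ∀ k ∈ commutator G, ∀ m ∈ M, k * m * k⁻¹ ∈ M)
    {A₀ : Subgroup G} (h0 : ∃ a ∈ A₀, a ∈ M ∧ a ≠ 1) {B : Subgroup G}
    (hpath : Relation.ReflTransGen (FAdj S) A₀ B) : ∃ b ∈ B, b ∈ M ∧ b ≠ 1 := by
  induction hpath with
  | refl => exact h0
  | tail _ hbc ih =>
    obtain ⟨a, ha, haM, ha1⟩ := ih
    exact (prop_step hyp hMn hbc.1 hbc.2.1 hbc.2.2 ha haM ha1).2

theorem all_meet {M : Subgroup G} (hMn : ∀ k ∈ commutator G, ∀ m ∈ M, k * m * k⁻¹ ∈ M)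
    {A₀ : Subgroup G} (hA₀ : A₀ ∈ S) (h0 : ∃ a ∈ A₀, a ∈ M ∧ a ≠ 1) {B : Subgroup G}
    (hB : B ∈ S) : ∃ b ∈ B, b ∈ M ∧ b ≠ 1 :=
  all_meet_path hyp hMn h0 (hyp.conn A₀ hA₀ B hB)

theorem case_one {M : Subgroup G} (hMn : ∀ k ∈ commutator G, ∀ m ∈ M, k * m * k⁻¹ ∈ M)
    {A₀ : Subgroup G} (hA₀ : A₀ ∈ S) (h0 : ∃ a ∈ A₀, a ∈ M ∧ a ≠ 1) : commutator G ≤ M := by
  rw [comm_eq_K hyp hA₀]
  apply K_le hyp.set
  intro A hA B hB hp
  obtain ⟨a, ha, haM, ha1⟩ := all_meet hyp hMn hA₀ h0 hA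
  exact (prop_step hyp hMn hA hB hp ha haM ha1).1

/-! ### Case 2: `M` meets all members of `S` trivially -/

section case2

variable {M : Subgroup G} (hMn : ∀ k ∈ commutator G, ∀ m ∈ M, k * m * k⁻¹ ∈ M)
  (hMA : ∀ A ∈ S, ∀ a ∈ A, a ∈ M → a = 1)
include hMn hMA

theorem not_le {A B : Subgroup G} (hA : A ∈ S) (hB : B ∈ S) (hp : IsRankOnePair A B) :
    ¬ ⁅A ⊔ B, A ⊔ B⁆ ≤ M := by
  intro hle
  obtain ⟨u, hu, huD, hu1⟩ := (hyp.spair A hA B hB hp).exists_ne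
  exact hu1 (hMA A hA u hu (hle huD))

theorem rank_one_impossible {A : Subgroup G} (hA : A ∈ S) {m : G} (hm : m ∈ M)
    (hp : IsRankOnePair A (conjBy A m)) : False := by
  have hA₂ : conjBy A m ∈ S := hyp.set.conj_mem A hA m
  have h := hyp.spair A hA _ hA₂ hp
  obtain ⟨a, ha, haG, ha1⟩ := exists_in_comm hyp hA
  have hv : m * a * m⁻¹ ∈ conjBy A m := conj_mem_conjBy ha
  have hv1 : m * a * m⁻¹ ≠ 1 := by
    intro e
    apply ha1
    calc a = m⁻¹ * (m * a * m⁻¹) * m := by group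
      _ = 1 := by rw [e]; group
  have hzM : a⁻¹ * (m * a * m⁻¹) ∈ M := by
    have e : a⁻¹ * (m * a * m⁻¹) = (a⁻¹ * m * a⁻¹⁻¹) * m⁻¹ := by group
    rw [e]
    exact mul_mem (hMn a⁻¹ (inv_mem haG) m hm) (inv_mem hm)
  have hzX : a⁻¹ * (m * a * m⁻¹) ∈ A ⊔ conjBy A m :=
    mul_mem (Subgroup.mem_sup_left (inv_mem ha)) (Subgroup.mem_sup_right hv)
  have hcen := h.inter_central hMn (not_le hyp hMn hMA hA hA₂ hp) hzM hzX
  by_cases hz1 : a⁻¹ * (m * a * m⁻¹) = 1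
  · have e : m * a * m⁻¹ = a := by
      calc m * a * m⁻¹ = a * (a⁻¹ * (m * a * m⁻¹)) := by group
        _ = a := by rw [hz1, mul_one]
    rw [e] at hv
    exact ha1 (inf_eq_one hp ha hv)
  · have hzc : a⁻¹ * (m * a * m⁻¹) ∈
        Subgroup.centralizer ((A ⊔ conjBy A m : Subgroup G) : Set G) := by
      rw [Subgroup.mem_centralizer_iff]
      intro x hx
      exact (hcen x hx).symm
    have h25 := Cfsg.Agent.S5025.result hyp.set hA (B := conjBy A m) ⟨hA₂, hp⟩ hzc hz1 a ha ha1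
    apply h25
    have e : a⁻¹ * (m * a * m⁻¹) * a = m * a * m⁻¹ := by
      rw [hcen a (Subgroup.mem_sup_left ha)]; group
    rw [e]
    exact ⟨hv1, _, hA₂, hv⟩

theorem asym {A₁ D : Subgroup G} (hA₁ : A₁ ∈ S) (hD : D ∈ S) {m₁ : G} (hm₁ : m₁ ∈ M)
    (hc : ∀ d ∈ D, ∀ a ∈ A₁, d * a = a * d)
    (hnc : ¬ ∀ d ∈ D, ∀ v ∈ conjBy A₁ m₁, d * v = v * d) : False := by
  have hA₂ : conjBy A₁ m₁ ∈ S := hyp.set.conj_mem A₁ hA₁ m₁
  have hp : IsRankOnePair (conjBy A₁ m₁) D := by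
    rcases hyp.set.pair _ hA₂ D hD with h | h | h
    · exfalso
      apply hnc
      intro d hd v hv
      exact ((commutator_eq_bot_iff'.mp h) v hv d hd).symm
    · exact h
    · exact absurd h (hyp.deg _ hA₂ D hD)
  have h := hyp.spair _ hA₂ D hD hp
  obtain ⟨a, ha, haG, ha1⟩ := exists_in_comm hyp hA₁
  obtain ⟨d, hd, hdG, hd1⟩ := exists_in_comm hyp hD
  have hv : m₁ * a * m₁⁻¹ ∈ conjBy A₁ m₁ := conj_mem_conjBy ha
  have hv1 : m₁ * a * m₁⁻¹ ≠ 1 := by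
    intro e
    apply ha1
    calc a = m₁⁻¹ * (m₁ * a * m₁⁻¹) * m₁ := by group
      _ = 1 := by rw [e]; group
  have hn' : m₁ * (a * m₁⁻¹ * a⁻¹) ∈ M := mul_mem hm₁ (hMn a haG m₁⁻¹ (inv_mem hm₁))
  have hda : a * d⁻¹ = d⁻¹ * a := by
    have := hc d hd a ha
    calc a * d⁻¹ = d⁻¹ * (d * a) * d⁻¹ := by group
      _ = d⁻¹ * (a * d) * d⁻¹ := by rw [this]
      _ = d⁻¹ * a := by group
  have ez : d * (m₁ * a * m₁⁻¹) * d⁻¹ * (m₁ * a * m₁⁻¹)⁻¹ =
      (d * (m₁ * (a * m₁⁻¹ * a⁻¹)) * d⁻¹) * (m₁ * (a * m₁⁻¹ * a⁻¹))⁻¹ := by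
    calc d * (m₁ * a * m₁⁻¹) * d⁻¹ * (m₁ * a * m₁⁻¹)⁻¹
        = d * (m₁ * (a * m₁⁻¹ * a⁻¹)) * (a * d⁻¹) * a⁻¹ * (m₁ * (a * m₁⁻¹ * a⁻¹))⁻¹ := by group
      _ = d * (m₁ * (a * m₁⁻¹ * a⁻¹)) * (d⁻¹ * a) * a⁻¹ * (m₁ * (a * m₁⁻¹ * a⁻¹))⁻¹ := by
        rw [hda]
      _ = (d * (m₁ * (a * m₁⁻¹ * a⁻¹)) * d⁻¹) * (m₁ * (a * m₁⁻¹ * a⁻¹))⁻¹ := by group
  have hzM : d * (m₁ * a * m₁⁻¹) * d⁻¹ * (m₁ * a * m₁⁻¹)⁻¹ ∈ M := by
    rw [ez]
    exact mul_mem (hMn d hdG _ hn') (inv_mem hn')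
  have hzX : d * (m₁ * a * m₁⁻¹) * d⁻¹ * (m₁ * a * m₁⁻¹)⁻¹ ∈ conjBy A₁ m₁ ⊔ D :=
    mul_mem (mul_mem (mul_mem (Subgroup.mem_sup_right hd) (Subgroup.mem_sup_left hv))
      (Subgroup.mem_sup_right (inv_mem hd))) (Subgroup.mem_sup_left (inv_mem hv))
  have hcen := h.inter_central hMn (not_le hyp hMn hMA hA₂ hD hp) hzM hzX
  have hconj : d * (m₁ * a * m₁⁻¹) * d⁻¹ ∈ conjBy (conjBy A₁ m₁) d := conj_mem_conjBy hv
  have hconj1 : d * (m₁ * a * m₁⁻¹) * d⁻¹ ≠ 1 := by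
    intro e
    apply hv1
    calc m₁ * a * m₁⁻¹ = d⁻¹ * (d * (m₁ * a * m₁⁻¹) * d⁻¹) * d := by group
      _ = 1 := by rw [e]; group
  by_cases hz1 : d * (m₁ * a * m₁⁻¹) * d⁻¹ * (m₁ * a * m₁⁻¹)⁻¹ = 1
  · have e : d * (m₁ * a * m₁⁻¹) * d⁻¹ = m₁ * a * m₁⁻¹ := mul_inv_eq_one.mp hz1
    rw [e] at hconj
    have hniso : ¬ IsIsolatedIn (FAdj S) S (conjBy A₁ m₁) :=
      fun hi => (hi.2 D).1 ⟨hA₂, hD, hp⟩
    rcases Cfsg.Agent.S5028.result hyp.set hniso hA₂ _ (hyp.set.conj_mem _ hA₂ d) with h28 | h28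
    · have : m₁ * a * m₁⁻¹ ∈ conjBy A₁ m₁ ⊓ conjBy (conjBy A₁ m₁) d :=
        Subgroup.mem_inf.mpr ⟨hv, hconj⟩
      rw [h28, Subgroup.mem_bot] at this
      exact hv1 this
    · apply hd1
      exact eq_one_of_mem_normalizer (RankOnePair_symm hp) hd (conjBy_eq_self_iff.mp h28.symm)
  · have hzc : d * (m₁ * a * m₁⁻¹) * d⁻¹ * (m₁ * a * m₁⁻¹)⁻¹ ∈
        Subgroup.centralizer ((conjBy A₁ m₁ ⊔ D : Subgroup G) : Set G) := by
      rw [Subgroup.mem_centralizer_iff]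
      intro x hx
      exact (hcen x hx).symm
    have h25 := Cfsg.Agent.S5025.result hyp.set hA₂ (B := D) ⟨hD, hp⟩ hzc hz1 _ hv hv1
    apply h25
    rw [inv_mul_cancel_right]
    exact ⟨hconj1, _, hyp.set.conj_mem _ hA₂ d, hconj⟩

theorem normalizes {A : Subgroup G} (hA : A ∈ S) {m : G} (hm : m ∈ M) : conjBy A m = A := by
  by_contra hne
  have hA₂ : conjBy A m ∈ S := hyp.set.conj_mem A hA m
  rcases hyp.set.pair A hA _ hA₂ with h | h | h
  · have hsep := hyp.sep A hA _ hA₂ (Ne.symm hne)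
    have hex : ∃ D, ¬ (D ∈ centralizingMembers S A ↔ D ∈ centralizingMembers S (conjBy A m)) := by
      by_contra hcon
      push Not at hcon
      exact hsep (Set.ext hcon)
    obtain ⟨D, hD⟩ := hex
    by_cases h1 : D ∈ centralizingMembers S A
    · have h2 : D ∉ centralizingMembers S (conjBy A m) := fun h2 => hD ⟨fun _ => h2, fun _ => h1⟩
      apply asym hyp hMn hMA hA h1.1 hm
      · intro d hd a ha
        exact (Subgroup.mem_centralizer_iff.mp (h1.2 hd) a ha).symm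
      · intro hall
        apply h2
        refine ⟨h1.1, ?_⟩
        intro d hd
        rw [Subgroup.mem_centralizer_iff]
        intro v hv
        exact (hall d hd v hv).symm
    · have h2 : D ∈ centralizingMembers S (conjBy A m) := by
        by_contra h2
        exact hD ⟨fun h => absurd h h1, fun h => absurd h h2⟩
      have hback : conjBy (conjBy A m) m⁻¹ = A := by
        rw [conjBy_conjBy, inv_mul_cancel, conjBy_one]
      apply asym hyp hMn hMA hA₂ h2.1 (inv_mem hm)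
      · intro d hd a ha
        exact (Subgroup.mem_centralizer_iff.mp (h2.2 hd) a ha).symm
      · rw [hback]
        intro hall
        apply h1
        refine ⟨h2.1, ?_⟩
        intro d hd
        rw [Subgroup.mem_centralizer_iff]
        intro v hv
        exact (hall d hd v hv).symm
  · exact rank_one_impossible hyp hMn hMA hA hm h
  · exact hyp.deg A hA _ hA₂ h

theorem case_two {A₀ : Subgroup G} (hA₀ : A₀ ∈ S) :
    ∀ m ∈ M, ∀ k ∈ commutator G, m * k = k * m := by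
  intro m hm
  -- `m` centralizes `A ∩ G'`
  have h1 : ∀ A ∈ S, ∀ a ∈ A, a ∈ commutator G → m * a = a * m := by
    intro A hA a ha haG
    have hx : m * a * m⁻¹ * a⁻¹ ∈ A := by
      have : m * a * m⁻¹ ∈ conjBy A m := conj_mem_conjBy ha
      rw [normalizes hyp hMn hMA hA hm] at this
      exact mul_mem this (inv_mem ha)
    have hxM : m * a * m⁻¹ * a⁻¹ ∈ M := by
      have e : m * a * m⁻¹ * a⁻¹ = m * (a * m⁻¹ * a⁻¹) := by group
      rw [e]
      exact mul_mem hm (hMn a haG _ (inv_mem hm))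
    have := hMA A hA _ hx hxM
    calc m * a = (m * a * m⁻¹ * a⁻¹) * (a * m) := by group
      _ = a * m := by rw [this, one_mul]
  have h2 : K S ≤ Subgroup.centralizer {m} := by
    apply K_le hyp.set
    intro A hA B hB hp
    apply (hyp.spair A hA B hB hp).gen
    intro x _ y hy
    rw [Subgroup.mem_inf] at hy
    rw [Subgroup.mem_centralizer_singleton_iff]
    exact (h1 _ (hyp.set.conj_mem A hA x) y hy.1 (comm_pair_le hy.2)).symm
  intro k hk
  rw [comm_eq_K hyp hA₀] at hk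
  have := h2 hk
  rw [Subgroup.mem_centralizer_singleton_iff] at this
  exact this.symm

end case2

theorem deg_quasisimple {A₀ : Subgroup G} (hA₀ : A₀ ∈ S) : IsQuasisimple ↥(commutator G) := by
  apply quasisimple_of_sub (commutator G) (comm_comm_eq hyp hA₀) (comm_nonabelian hyp hA₀)
  intro M _ hMn
  by_cases hcase : ∃ A ∈ S, ∃ a ∈ A, a ∈ M ∧ a ≠ 1
  · obtain ⟨A, hA, h0⟩ := hcase
    exact Or.inr (case_one hyp hMn hA h0)
  · push Not at hcase
    left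
    apply case_two hyp hMn _ hA₀
    intro A hA a ha haM
    exact hcase A hA a ha haM

end deg

end Cfsg.Agent.Lib.Helper1.Rb
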