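import Cfsg.Agent.Lib.Helper1.Rb2
import Cfsg.Agent.S5034

set_option autoImplicit false

/-!
# Quasisimplicity criterion for root subgroup sets: the non-degenerate case
-/

namespace Cfsg.Agent.Lib.Helper1.Rb

open Cfsg Cfsg.Agent.Lib.Helper4.RankOneGrp Cfsg.Agent.Lib.Lead.SpecialRankOne
open Cfsg.Agent.Lib.Helper4.RankOneGrp2 Cfsg.Agent.Lib.Helper4.RootSub
open Cfsg.Agent.Lib.Helper4.RootSub2 Cfsg.Agent.Lib.Helper4.RootSub3
open Cfsg.Agent.Lib.Helper1.Ro

variable {G : Type*} [Group G] {S : Set (Subgroup G)}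

theorem comm_conj_eq {d a m : G} (hda : d * a = a * d) :
    d * (m * a * m⁻¹) * d⁻¹ * (m * a * m⁻¹)⁻¹ =
      (d * (m * (a * m⁻¹ * a⁻¹)) * d⁻¹) * (m * (a * m⁻¹ * a⁻¹))⁻¹ := by
  have hda' : a * d⁻¹ = d⁻¹ * a := by
    calc a * d⁻¹ = d⁻¹ * (d * a) * d⁻¹ := by group
      _ = d⁻¹ * (a * d) * d⁻¹ := by rw [hda]
      _ = d⁻¹ * a := by group
  calc d * (m * a * m⁻¹) * d⁻¹ * (m * a * m⁻¹)⁻¹
      = d * (m * (a * m⁻¹ * a⁻¹)) * (a * d⁻¹) * a⁻¹ * (m * (a * m⁻¹ * a⁻¹))⁻¹ := by group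
    _ = d * (m * (a * m⁻¹ * a⁻¹)) * (d⁻¹ * a) * a⁻¹ * (m * (a * m⁻¹ * a⁻¹))⁻¹ := by
      rw [hda']
    _ = (d * (m * (a * m⁻¹ * a⁻¹)) * d⁻¹) * (m * (a * m⁻¹ * a⁻¹))⁻¹ := by group

theorem conj_ne_one {g x : G} (hx : x ≠ 1) : g * x * g⁻¹ ≠ 1 := by
  intro e
  apply hx
  calc x = g⁻¹ * (g * x * g⁻¹) * g := by group
    _ = 1 := by rw [e]; group

/-- a normal subgroup containing a member of a class of root subgroups is everything -/
theorem eq_top_of_member_le (hcl : IsRootSubgroupClass S) {N : Subgroup G} [hN : N.Normal]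
    {E : Subgroup G} (hE : E ∈ S) (hle : E ≤ N) : N = ⊤ := by
  rw [eq_top_iff, ← hcl.1.generates]
  apply iSup₂_le
  intro A hA
  obtain ⟨g, rfl⟩ := hcl.2.2 E hE A hA
  have := conjBy_mono hle g
  rwa [conjBy_normal N g] at this

section nd

variable (hcl : IsRootSubgroupClass S) (hnd : IsNondegenerateRootSet S)
  (hall : ∀ A ∈ S, ∃ D ∈ S, IsRankOnePair A D)
include hcl hnd hall

theorem nd_perfect : commutator G = ⊤ := by
  obtain ⟨A₁, hA₁, B₁, hB₁, hcase⟩ := hnd.2.2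
  apply eq_top_of_member_le hcl hcase.1
  rw [commutator_def]
  exact Subgroup.commutator_mono le_top le_top

omit hall in
theorem exists_case {A : Subgroup G} (hA : A ∈ S) : ∃ C ∈ S, RootCommutatorCase S A C := by
  obtain ⟨A₁, hA₁, B₁, hB₁, hcase⟩ := hnd.2.2
  obtain ⟨g, rfl⟩ := hcl.2.2 A₁ hA₁ A hA
  refine ⟨conjBy B₁ g, hcl.1.conj_mem B₁ hB₁ g, ?_⟩
  apply commutatorCase_of_mem hcl.1 hA (hcl.1.conj_mem B₁ hB₁ g)
  rw [← conjBy_commutator]
  exact hcl.1.conj_mem _ hcase.1 g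

omit hall in
/-- a normal subgroup meeting a member of `S` nontrivially is everything -/
theorem eq_top_of_meets {N : Subgroup G} [hN : N.Normal] {A : Subgroup G} (hA : A ∈ S) {x : G}
    (hx : x ∈ A) (hxN : x ∈ N) (hx1 : x ≠ 1) : N = ⊤ := by
  obtain ⟨C, hC, hcase⟩ := exists_case hcl hnd hA
  apply eq_top_of_member_le hcl hcase.1
  rw [← hcase.2.2.1 x hx hx1, Subgroup.closure_le]
  rintro _ ⟨b, -, rfl⟩
  have e : x * b * x⁻¹ * b⁻¹ = x * (b * x⁻¹ * b⁻¹) := by group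
  show x * b * x⁻¹ * b⁻¹ ∈ N
  rw [e]
  exact mul_mem hxN (hN.conj_mem _ (inv_mem hxN) b)

theorem rank_one_product {N : Subgroup G} [hN : N.Normal] {F A : Subgroup G} (hF : F ∈ S)
    (hA : A ∈ S) (hp : IsRankOnePair F A) {f a : G} (hf : f ∈ F) (hf1 : f ≠ 1) (ha : a ∈ A)
    (hfa : f * a ∈ N) : ∃ A' ∈ S, ∃ x ∈ A', x ∈ N ∧ x ≠ 1 := by
  obtain ⟨⟨W, hWl, hWc⟩, -⟩ := Cfsg.Agent.S5034.result hcl hnd hA
    (B := F) ⟨hF, RankOnePair_symm hp⟩
  have hWS : W ∈ S := hWl.1.1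
  have hcomm := commutator_eq_bot_iff'.mp hWl.1.2.2
  obtain ⟨w, hw, hw1⟩ := exists_ne_one_of_ne_bot (hcl.1.ne_bot W hWS)
  have hcase : RootCommutatorCase S F W := commutatorCase_of_mem hcl.1 hF hWS hWc.2
  refine ⟨⁅F, W⁆, hWc.2, f * w * f⁻¹ * w⁻¹, Subgroup.commutator_mem_commutator hf hw, ?_, ?_⟩
  · have haw : a * w = w * a := hcomm a ha w hw
    have e : f * w * f⁻¹ * w⁻¹ = (f * a) * (w * (f * a)⁻¹ * w⁻¹) := by
      calc f * w * f⁻¹ * w⁻¹ = f * (w * a) * a⁻¹ * f⁻¹ * w⁻¹ := by group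
        _ = f * (a * w) * a⁻¹ * f⁻¹ * w⁻¹ := by rw [haw]
        _ = (f * a) * (w * (f * a)⁻¹ * w⁻¹) := by group
    rw [e]
    exact mul_mem hfa (hN.conj_mem _ (inv_mem hfa) w)
  · intro e
    have hne := not_comm_of_left hcl.1 hF hcase hA hp hf hf1 hw hw1
    apply hne
    calc f * w = (f * w * f⁻¹ * w⁻¹) * (w * f) := by group
      _ = w * f := by rw [e, one_mul]

theorem asym_nd {N : Subgroup G} [hN : N.Normal] {A₁ D : Subgroup G} (hA₁ : A₁ ∈ S)
    (hD : D ∈ S) {n₁ : G} (hn₁ : n₁ ∈ N) (hc : ∀ d ∈ D, ∀ a ∈ A₁, d * a = a * d)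
    (hnc : ¬ ∀ d ∈ D, ∀ v ∈ conjBy A₁ n₁, d * v = v * d) :
    ∃ A' ∈ S, ∃ x ∈ A', x ∈ N ∧ x ≠ 1 := by
  have hA₂ : conjBy A₁ n₁ ∈ S := hcl.1.conj_mem A₁ hA₁ n₁
  obtain ⟨a, ha, ha1⟩ := exists_ne_one_of_ne_bot (hcl.1.ne_bot A₁ hA₁)
  obtain ⟨d, hd, hd1⟩ := exists_ne_one_of_ne_bot (hcl.1.ne_bot D hD)
  have hv : n₁ * a * n₁⁻¹ ∈ conjBy A₁ n₁ := conj_mem_conjBy ha
  have hv1 : n₁ * a * n₁⁻¹ ≠ 1 := conj_ne_one ha1
  have hn' : n₁ * (a * n₁⁻¹ * a⁻¹) ∈ N := mul_mem hn₁ (hN.conj_mem _ (inv_mem hn₁) a)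
  have hzN : d * (n₁ * a * n₁⁻¹) * d⁻¹ * (n₁ * a * n₁⁻¹)⁻¹ ∈ N := by
    rw [comm_conj_eq (hc d hd a ha)]
    exact mul_mem (hN.conj_mem _ hn' d) (inv_mem hn')
  rcases hcl.1.pair D hD _ hA₂ with h | h | h
  · exfalso
    apply hnc
    exact commutator_eq_bot_iff'.mp h
  · -- rank one
    have hp' : IsRankOnePair (conjBy A₁ n₁) D := RankOnePair_symm h
    have hFu : conjBy (conjBy A₁ n₁) d ∈ unipotentSubgroups (conjBy A₁ n₁) D :=
      ⟨d, Subgroup.mem_sup_right hd, rfl⟩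
    have hFne : conjBy (conjBy A₁ n₁) d ≠ conjBy A₁ n₁ := by
      intro e
      exact hd1 (eq_one_of_mem_normalizer h hd (conjBy_eq_self_iff.mp e))
    have hpair := (pair_of_distinct hp' hFu left_mem_unipotent hFne).1
    exact rank_one_product hcl hnd hall (hcl.1.conj_mem _ hA₂ d) hA₂ hpair
      (conj_mem_conjBy hv) (conj_ne_one hv1) (inv_mem hv) hzN
  · -- commutator case
    obtain ⟨D', hD', hDD'⟩ := hall D hD
    refine ⟨⁅D, conjBy A₁ n₁⁆, h.1, _, Subgroup.commutator_mem_commutator hd hv, hzN, ?_⟩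
    intro e
    have hne := not_comm_of_left hcl.1 hD h hD' hDD' hd hd1 hv hv1
    apply hne
    calc d * (n₁ * a * n₁⁻¹)
        = (d * (n₁ * a * n₁⁻¹) * d⁻¹ * (n₁ * a * n₁⁻¹)⁻¹) * ((n₁ * a * n₁⁻¹) * d) := by group
      _ = (n₁ * a * n₁⁻¹) * d := by
        have e' : d * (n₁ * a * n₁⁻¹) * d⁻¹ * (n₁ * a * n₁⁻¹)⁻¹ = 1 := e
        rw [e', one_mul]

theorem claim (hsep : ∀ A ∈ S, ∀ C ∈ S, A ≠ C → centralizingMembers S A ≠ centralizingMembers S C)
    {N : Subgroup G} [hN : N.Normal] {n : G} (hn : n ∈ N) {A : Subgroup G} (hA : A ∈ S) {a : G}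
    (ha : a ∈ A) (hna : n * a ≠ a * n) : ∃ A' ∈ S, ∃ x ∈ A', x ∈ N ∧ x ≠ 1 := by
  have ha1 : a ≠ 1 := by
    intro e
    apply hna
    rw [e, mul_one, one_mul]
  have hA₂ : conjBy A n ∈ S := hcl.1.conj_mem A hA n
  have hv : n * a * n⁻¹ ∈ conjBy A n := conj_mem_conjBy ha
  have hv1 : n * a * n⁻¹ ≠ 1 := conj_ne_one ha1
  have hn' : n * a * n⁻¹ * a⁻¹ ∈ N := by
    have e : n * a * n⁻¹ * a⁻¹ = n * (a * n⁻¹ * a⁻¹) := by group
    rw [e]
    exact mul_mem hn (hN.conj_mem _ (inv_mem hn) a)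
  have hn'1 : n * a * n⁻¹ * a⁻¹ ≠ 1 := by
    intro e
    apply hna
    calc n * a = (n * a * n⁻¹ * a⁻¹) * (a * n) := by group
      _ = a * n := by rw [e, one_mul]
  rcases hcl.1.pair A hA _ hA₂ with h | h | h
  · by_cases heq : conjBy A n = A
    · rw [heq] at hv
      exact ⟨A, hA, _, mul_mem hv (inv_mem ha), hn', hn'1⟩
    · have hs := hsep A hA _ hA₂ (Ne.symm heq)
      have hex : ∃ D, ¬ (D ∈ centralizingMembers S A ↔
          D ∈ centralizingMembers S (conjBy A n)) := by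
        by_contra hcon
        push Not at hcon
        exact hs (Set.ext hcon)
      obtain ⟨D, hD⟩ := hex
      by_cases h1 : D ∈ centralizingMembers S A
      · have h2 : D ∉ centralizingMembers S (conjBy A n) :=
          fun h2 => hD ⟨fun _ => h2, fun _ => h1⟩
        apply asym_nd hcl hnd hall hA h1.1 hn
        · intro d hd a ha
          exact (Subgroup.mem_centralizer_iff.mp (h1.2 hd) a ha).symm
        · intro hall'
          apply h2
          refine ⟨h1.1, ?_⟩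
          intro d hd
          rw [Subgroup.mem_centralizer_iff]
          intro v hv
          exact (hall' d hd v hv).symm
      · have h2 : D ∈ centralizingMembers S (conjBy A n) := by
          by_contra h2
          exact hD ⟨fun h => absurd h h1, fun h => absurd h h2⟩
        have hback : conjBy (conjBy A n) n⁻¹ = A := by
          rw [conjBy_conjBy, inv_mul_cancel, conjBy_one]
        apply asym_nd hcl hnd hall hA₂ h2.1 (inv_mem hn)
        · intro d hd a ha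
          exact (Subgroup.mem_centralizer_iff.mp (h2.2 hd) a ha).symm
        · rw [hback]
          intro hall'
          apply h1
          refine ⟨h2.1, ?_⟩
          intro d hd
          rw [Subgroup.mem_centralizer_iff]
          intro v hv
          exact (hall' d hd v hv).symm
  · exact rank_one_product hcl hnd hall hA₂ hA (RankOnePair_symm h) hv hv1 (inv_mem ha) hn'
  · obtain ⟨D', hD', hAD'⟩ := hall A hA
    refine ⟨⁅A, conjBy A n⁆, h.1, a * (n * a * n⁻¹) * a⁻¹ * (n * a * n⁻¹)⁻¹,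
      Subgroup.commutator_mem_commutator ha hv, ?_, ?_⟩
    · have e : a * (n * a * n⁻¹) * a⁻¹ * (n * a * n⁻¹)⁻¹ =
          (a * (n * a * n⁻¹ * a⁻¹) * a⁻¹) * (n * a * n⁻¹ * a⁻¹)⁻¹ := by group
      rw [e]
      exact mul_mem (hN.conj_mem _ hn' a) (inv_mem hn')
    · intro e
      have hne := not_comm_of_left hcl.1 hA h hD' hAD' ha ha1 hv hv1
      apply hne
      calc a * (n * a * n⁻¹)
          = (a * (n * a * n⁻¹) * a⁻¹ * (n * a * n⁻¹)⁻¹) * ((n * a * n⁻¹) * a) := by group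
        _ = (n * a * n⁻¹) * a := by rw [e, one_mul]

/-- a normal subgroup is central or everything -/
theorem nd_normal (hsep : ∀ A ∈ S, ∀ C ∈ S, A ≠ C →
      centralizingMembers S A ≠ centralizingMembers S C)
    (N : Subgroup G) [hN : N.Normal] : (∀ n ∈ N, ∀ g : G, n * g = g * n) ∨ N = ⊤ := by
  by_cases hc : ∀ n ∈ N, ∀ A ∈ S, ∀ a ∈ A, n * a = a * n
  · left
    intro n hn g
    have hle : (⨆ A ∈ S, A) ≤ Subgroup.centralizer {n} := by
      apply iSup₂_le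
      intro A hA a ha
      rw [Subgroup.mem_centralizer_singleton_iff]
      exact (hc n hn A hA a ha).symm
    rw [hcl.1.generates] at hle
    have := hle (Subgroup.mem_top g)
    rw [Subgroup.mem_centralizer_singleton_iff] at this
    exact this.symm
  · right
    push Not at hc
    obtain ⟨n, hn, A, hA, a, ha, hna⟩ := hc
    obtain ⟨A', hA', x, hx, hxN, hx1⟩ := claim hcl hnd hall hsep hn hA ha hna
    exact eq_top_of_meets hcl hnd hA' hx hxN hx1

theorem nd_quasisimple (hsep : ∀ A ∈ S, ∀ C ∈ S, A ≠ C →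
      centralizingMembers S A ≠ centralizingMembers S C) :
    IsQuasisimple ↥(commutator G) := by
  have htop := nd_perfect hcl hnd hall
  apply quasisimple_of_sub (commutator G)
  · conv_rhs => rw [htop]
    rw [htop, ← commutator_def, htop]
  · obtain ⟨A, hA, B, hB, hp⟩ := hnd.2.1
    by_contra hcon
    push Not at hcon
    apply not_commute_of_pair hp
    intro a ha b hb
    exact hcon a (by rw [htop]; exact Subgroup.mem_top a) b (by rw [htop]; exact Subgroup.mem_top b)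
  · intro M _ hMn
    have hMnormal : M.Normal := ⟨fun m hm g => hMn g (by rw [htop]; exact Subgroup.mem_top g) m hm⟩
    rcases nd_normal hcl hnd hall hsep M with h | h
    · left
      intro m hm k _
      exact h m hm k
    · right
      rw [h]
      exact le_top

end nd

end Cfsg.Agent.Lib.Helper1.Rb
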