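import Mathlib

/-!
Minimal degree of the Ree groups, part 1: projectors for a multiplicative function on a finite
abelian group mapped into a group acting on a complex vector space.
-/

set_option autoImplicit false
set_option linter.unusedSectionVars false
set_option linter.unusedVariables false

namespace Cfsg.Agent.Lib.Helper1.ReeMD

open Module

section proj
variable {A : Type*} [AddCommGroup A] [Fintype A]
variable {G : Type*} [Group G]
variable {V : Type*} [AddCommGroup V] [Module ℂ V]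
variable (ρ : Representation ℂ G V) (f : A → G) (μ : A → ℂ)

/-- the projector onto the `μ`-eigenspace of the abelian group `f A` -/
noncomputable def pr : Module.End ℂ V :=
  ((Fintype.card A : ℂ))⁻¹ • ∑ x : A, μ (-x) • ρ (f x)

theorem card_ne_zero' : (Fintype.card A : ℂ) ≠ 0 :=
  Nat.cast_ne_zero.2 Fintype.card_ne_zero

theorem f_zero (hf : ∀ x y, f (x + y) = f x * f y) : f 0 = 1 := by
  have h := hf 0 0
  rw [add_zero] at h
  exact (mul_eq_left (a := f 0) (b := f 0)).1 h.symm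

theorem mu_neg (hμ : ∀ x y, μ (x + y) = μ x * μ y) (hμ0 : μ 0 = 1) (x : A) :
    μ (-x) * μ x = 1 := by
  rw [← hμ, neg_add_cancel, hμ0]

theorem rho_mul_sum (hf : ∀ x y, f (x + y) = f x * f y) (hμ : ∀ x y, μ (x + y) = μ x * μ y)
    (y : A) : ρ (f y) * ∑ x : A, μ (-x) • ρ (f x) = μ y • ∑ x : A, μ (-x) • ρ (f x) := by
  rw [Finset.mul_sum, Finset.smul_sum, ← Equiv.sum_comp (Equiv.addLeft y)
    (fun x => μ y • μ (-x) • ρ (f x))]
  apply Finset.sum_congr rfl
  intro x _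
  rw [Equiv.coe_addLeft, mul_smul_comm, ← map_mul, ← hf, smul_smul, ← hμ, neg_add,
    add_neg_cancel_left]

theorem rho_mul_pr (hf : ∀ x y, f (x + y) = f x * f y) (hμ : ∀ x y, μ (x + y) = μ x * μ y)
    (y : A) : ρ (f y) * pr ρ f μ = μ y • pr ρ f μ := by
  unfold pr
  rw [mul_smul_comm, rho_mul_sum ρ f μ hf hμ, smul_comm]

theorem pr_mul_pr (hf : ∀ x y, f (x + y) = f x * f y) (hμ : ∀ x y, μ (x + y) = μ x * μ y)
    (μ' : A → ℂ) :
    pr ρ f μ' * pr ρ f μ = (((Fintype.card A : ℂ))⁻¹ * ∑ x : A, μ' (-x) * μ x) • pr ρ f μ := by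
  conv_lhs => rw [pr]
  rw [smul_mul_assoc, Finset.sum_mul, mul_smul, Finset.sum_smul]
  congr 1
  apply Finset.sum_congr rfl
  intro x _
  rw [smul_mul_assoc, rho_mul_pr ρ f μ hf hμ, smul_smul]

theorem pr_idem (hf : ∀ x y, f (x + y) = f x * f y) (hμ : ∀ x y, μ (x + y) = μ x * μ y)
    (hμ0 : μ 0 = 1) : IsIdempotentElem (pr ρ f μ) := by
  unfold IsIdempotentElem
  rw [pr_mul_pr ρ f μ hf hμ]
  have : ∑ x : A, μ (-x) * μ x = (Fintype.card A : ℂ) := by
    rw [Finset.sum_congr rfl (fun x _ => mu_neg μ hμ hμ0 x)]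
    simp
  rw [this, inv_mul_cancel₀ card_ne_zero', one_smul]

theorem pr_orth (hf : ∀ x y, f (x + y) = f x * f y) (hμ : ∀ x y, μ (x + y) = μ x * μ y)
    (μ' : A → ℂ) (h0 : ∑ x : A, μ' (-x) * μ x = 0) : pr ρ f μ' * pr ρ f μ = 0 := by
  rw [pr_mul_pr ρ f μ hf hμ, h0, mul_zero, zero_smul]

theorem trace_pr [FiniteDimensional ℂ V] :
    LinearMap.trace ℂ V (pr ρ f μ) =
      ((Fintype.card A : ℂ))⁻¹ * ∑ x : A, μ (-x) * LinearMap.trace ℂ V (ρ (f x)) := by
  unfold pr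
  simp [map_sum, smul_eq_mul]

/-- the rank of the projector as a natural number -/
theorem finrank_range_pr [FiniteDimensional ℂ V] (hf : ∀ x y, f (x + y) = f x * f y)
    (hμ : ∀ x y, μ (x + y) = μ x * μ y) (hμ0 : μ 0 = 1) :
    ((Module.finrank ℂ (LinearMap.range (pr ρ f μ)) : ℕ) : ℂ) =
      LinearMap.trace ℂ V (pr ρ f μ) :=
  ((LinearMap.IsIdempotentElem.isProj_range _ (pr_idem ρ f μ hf hμ hμ0)).trace).symm

theorem pr_eq_zero_of_trace [FiniteDimensional ℂ V] (hf : ∀ x y, f (x + y) = f x * f y)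
    (hμ : ∀ x y, μ (x + y) = μ x * μ y) (hμ0 : μ 0 = 1)
    (h : LinearMap.trace ℂ V (pr ρ f μ) = 0) : pr ρ f μ = 0 :=
  (LinearMap.IsIdempotentElem.trace_eq_zero_iff (pr_idem ρ f μ hf hμ hμ0)).1 h

/-- conjugating the projector -/
theorem conj_pr (g : G) (σ : A ≃ A) (hσ : ∀ x, g * f x * g⁻¹ = f (σ x)) (μ' : A → ℂ)
    (hμ' : ∀ x, μ' (-(σ x)) = μ (-x)) :
    ρ g * pr ρ f μ * ρ g⁻¹ = pr ρ f μ' := by
  unfold pr
  rw [mul_smul_comm, smul_mul_assoc, Finset.mul_sum, Finset.sum_mul]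
  congr 1
  rw [← Equiv.sum_comp σ (fun x => μ' (-x) • ρ (f x))]
  apply Finset.sum_congr rfl
  intro x _
  rw [mul_smul_comm, smul_mul_assoc, ← map_mul, ← map_mul, hσ, hμ']

end proj

end Cfsg.Agent.Lib.Helper1.ReeMD
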