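import Mathlib
import Cfsg.Agent.Lib.Helper1.ReeMD1

/-!
Minimal degree of the Ree groups, part 2: the Landazuri-Seitz bound `q (q - 1)` for a group with
a "Ree-like" unipotent configuration `a u v`, `x t`, `h z`, and the vanishing of the character at
the involution `h (-1)` in the case of equality.
-/

set_option autoImplicit false
set_option linter.unusedSectionVars false
set_option linter.unusedVariables false

namespace Cfsg.Agent.Lib.Helper1.ReeMD

open Module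

section abstractLS
variable {K : Type*} [Field K] [Fintype K] [DecidableEq K]
variable {G : Type*} [Group G]
variable {V : Type*} [AddCommGroup V] [Module ℂ V] [FiniteDimensional ℂ V]
variable (ρ : Representation ℂ G V) (ψ : AddChar K ℂ)
variable (a : K → K → G) (x : K → G) (h : Kˣ → G)

/-- the projector of the central subgroup `a 0 v` for the character `v ↦ ψ (c v)` -/
noncomputable def eZ (c : K) : Module.End ℂ V :=
  pr ρ (fun v : K => a 0 v) (fun v => ψ (c * v))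

/-- the projector of the abelian subgroup `a u v` for the character `(u, v) ↦ ψ (c v)` -/
noncomputable def eA (c : K) : Module.End ℂ V :=
  pr ρ (fun p : K × K => a p.1 p.2) (fun p => ψ (c * p.2))

theorem hfZ (ha : ∀ u v u' v', a u v * a u' v' = a (u + u') (v + v')) :
    ∀ v v' : K, (fun v : K => a 0 v) (v + v') = (fun v : K => a 0 v) v * (fun v : K => a 0 v) v' := by
  intro v v'
  show a 0 (v + v') = a 0 v * a 0 v'
  rw [ha, add_zero]

theorem hfA (ha : ∀ u v u' v', a u v * a u' v' = a (u + u') (v + v')) :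
    ∀ p p' : K × K, (fun p : K × K => a p.1 p.2) (p + p') =
      (fun p : K × K => a p.1 p.2) p * (fun p : K × K => a p.1 p.2) p' := by
  intro p p'
  show a (p + p').1 (p + p').2 = a p.1 p.2 * a p'.1 p'.2
  rw [ha]
  rfl

theorem hμZ (c : K) : ∀ v v' : K, (fun v => ψ (c * v)) (v + v') =
    (fun v => ψ (c * v)) v * (fun v => ψ (c * v)) v' := by
  intro v v'
  show ψ (c * (v + v')) = ψ (c * v) * ψ (c * v')
  rw [mul_add, AddChar.map_add_eq_mul]

theorem hμA (c : K) : ∀ p p' : K × K, (fun p : K × K => ψ (c * p.2)) (p + p') =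
    (fun p : K × K => ψ (c * p.2)) p * (fun p : K × K => ψ (c * p.2)) p' := by
  intro p p'
  show ψ (c * (p + p').2) = ψ (c * p.2) * ψ (c * p'.2)
  rw [Prod.snd_add, mul_add, AddChar.map_add_eq_mul]

theorem a_zero (ha : ∀ u v u' v', a u v * a u' v' = a (u + u') (v + v')) : a 0 0 = 1 :=
  f_zero (fun v : K => a 0 v) (hfZ a ha)

theorem rho_mul_eZ (ha : ∀ u v u' v', a u v * a u' v' = a (u + u') (v + v')) (c v : K) :
    ρ (a 0 v) * eZ ρ ψ a c = ψ (c * v) • eZ ρ ψ a c :=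
  rho_mul_pr ρ (fun v : K => a 0 v) (fun v => ψ (c * v)) (hfZ a ha) (hμZ ψ c) v

theorem eZ_idem (ha : ∀ u v u' v', a u v * a u' v' = a (u + u') (v + v')) (c : K) :
    IsIdempotentElem (eZ ρ ψ a c) :=
  pr_idem ρ _ _ (hfZ a ha) (hμZ ψ c) (by simp)

theorem sum_psi (hψ : ψ ≠ 1) (b : K) :
    ∑ v : K, ψ (b * v) = if b = 0 then (Fintype.card K : ℂ) else 0 := by
  have hprim : ψ.IsPrimitive := AddChar.IsPrimitive.of_ne_one hψ
  have := AddChar.sum_mulShift b hprim
  have h1 : ∑ v : K, ψ (b * v) = ∑ v : K, ψ (v * b) :=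
    Finset.sum_congr rfl (fun v _ => by rw [mul_comm])
  rw [h1, this]
  split_ifs <;> simp

theorem eZ_orth (ha : ∀ u v u' v', a u v * a u' v' = a (u + u') (v + v')) (hψ : ψ ≠ 1)
    (c c' : K) (hc : c ≠ c') : eZ ρ ψ a c' * eZ ρ ψ a c = 0 := by
  apply pr_orth ρ _ _ (hfZ a ha) (hμZ ψ c)
  have : ∀ v : K, ψ (c' * -v) * ψ (c * v) = ψ ((c - c') * v) := by
    intro v
    rw [← AddChar.map_add_eq_mul]
    congr 1
    ring
  rw [Finset.sum_congr rfl (fun v _ => this v), sum_psi ψ hψ, if_neg (sub_ne_zero.2 hc)]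

theorem sum_eZ (ha : ∀ u v u' v', a u v * a u' v' = a (u + u') (v + v')) (hψ : ψ ≠ 1) :
    ∑ c : K, eZ ρ ψ a c = 1 := by
  unfold eZ pr
  rw [← Finset.smul_sum, Finset.sum_comm]
  have : ∀ v : K, ∑ c : K, ψ (c * -v) • ρ (a 0 v) =
      (if v = 0 then (Fintype.card K : ℂ) else 0) • ρ (a 0 v) := by
    intro v
    rw [← Finset.sum_smul]
    congr 1
    have h1 : ∑ c : K, ψ (c * -v) = ∑ c : K, ψ (-v * c) :=
      Finset.sum_congr rfl (fun c _ => by rw [mul_comm])
    rw [h1, sum_psi ψ hψ]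
    simp
  rw [Finset.sum_congr rfl (fun v _ => this v)]
  simp only [ite_smul, zero_smul, Finset.sum_ite_eq', Finset.mem_univ, if_true]
  rw [smul_smul, inv_mul_cancel₀ card_ne_zero', one_smul, a_zero a ha, map_one]

theorem trace_conj' (g y : G) :
    LinearMap.trace ℂ V (ρ (g * y * g⁻¹)) = LinearMap.trace ℂ V (ρ y) := by
  have h1 : ρ (g * y * g⁻¹) = ρ g * ρ y * ρ g⁻¹ := by rw [map_mul, map_mul]
  rw [h1, LinearMap.trace_mul_comm, ← mul_assoc, ← map_mul, inv_mul_cancel, map_one, one_mul]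

theorem trace_conj'' (g y : G) :
    LinearMap.trace ℂ V (ρ (g⁻¹ * y * g)) = LinearMap.trace ℂ V (ρ y) := by
  have := trace_conj' ρ g⁻¹ y
  rwa [inv_inv] at this

theorem inner_sum_zero (hx : ∀ t u v, (x t)⁻¹ * a u v * x t = a u (v - u * t)) (hψ : ψ ≠ 1)
    (c u : K) (hc : c ≠ 0) (hu : u ≠ 0) :
    ∑ v : K, ψ (c * -v) * LinearMap.trace ℂ V (ρ (a u v)) = 0 := by
  obtain ⟨s, hs⟩ := (AddChar.ne_one_iff).1 hψ
  set t : K := -s / (c * u) with ht
  have hcu : c * u ≠ 0 := mul_ne_zero hc hu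
  set S := ∑ v : K, ψ (c * -v) * LinearMap.trace ℂ V (ρ (a u v)) with hS
  have h1 : S = ψ s * S := by
    conv_lhs => rw [hS, ← Equiv.sum_comp (Equiv.addRight (u * t))]
    rw [hS, Finset.mul_sum]
    apply Finset.sum_congr rfl
    intro v _
    rw [Equiv.coe_addRight, ← mul_assoc, ← AddChar.map_add_eq_mul]
    have e1 : LinearMap.trace ℂ V (ρ (a u (v + u * t))) = LinearMap.trace ℂ V (ρ (a u v)) := by
      rw [← trace_conj'' ρ (x t) (a u (v + u * t)), hx, add_sub_cancel_right]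
    rw [e1]
    congr 2
    rw [ht]
    field_simp
    ring
  have h2 : (1 - ψ s) * S = 0 := by rw [sub_mul, one_mul, ← h1, sub_self]
  rcases mul_eq_zero.1 h2 with h | h
  · exact absurd (sub_eq_zero.1 h).symm hs
  · exact h

theorem trace_eZ_eq (c : K) :
    LinearMap.trace ℂ V (eZ ρ ψ a c) =
      ((Fintype.card K : ℂ))⁻¹ * ∑ v : K, ψ (c * -v) * LinearMap.trace ℂ V (ρ (a 0 v)) :=
  trace_pr ρ _ _

theorem trace_eA_eq (hx : ∀ t u v, (x t)⁻¹ * a u v * x t = a u (v - u * t)) (hψ : ψ ≠ 1)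
    (c : K) (hc : c ≠ 0) :
    (Fintype.card K : ℂ) * LinearMap.trace ℂ V (eA ρ ψ a c) =
      LinearMap.trace ℂ V (eZ ρ ψ a c) := by
  rw [trace_eZ_eq]
  unfold eA
  rw [trace_pr, Fintype.card_prod, Fintype.sum_prod_type]
  have h0 : ∀ u : K, ∑ v : K, ψ (c * (-((u, v) : K × K)).2) *
      LinearMap.trace ℂ V (ρ (a ((u, v) : K × K).1 ((u, v) : K × K).2)) =
      if u = 0 then ∑ v : K, ψ (c * -v) * LinearMap.trace ℂ V (ρ (a 0 v)) else 0 := by
    intro u
    split_ifs with hu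
    · subst hu
      rfl
    · exact inner_sum_zero ρ ψ a x hx hψ c u hc hu
  rw [Finset.sum_congr rfl (fun u _ => h0 u)]
  simp only [Finset.sum_ite_eq', Finset.mem_univ, if_true]
  have hq : (Fintype.card K : ℂ) ≠ 0 := card_ne_zero'
  push_cast
  field_simp

theorem trace_eZ_torus (hh : ∀ (z : Kˣ) v, h z * a 0 v * (h z)⁻¹ = a 0 (z * v)) (c : K)
    (hc : c ≠ 0) :
    LinearMap.trace ℂ V (eZ ρ ψ a c) = LinearMap.trace ℂ V (eZ ρ ψ a 1) := by
  rw [trace_eZ_eq, trace_eZ_eq]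
  congr 1
  rw [← Equiv.sum_comp (Equiv.mulLeft₀ c hc)
    (fun v => ψ (1 * -v) * LinearMap.trace ℂ V (ρ (a 0 v)))]
  apply Finset.sum_congr rfl
  intro v _
  have e0 : (Equiv.mulLeft₀ c hc) v = c * v := rfl
  rw [e0, one_mul, mul_neg]
  congr 1
  have := hh (Units.mk0 c hc) v
  rw [Units.val_mk0] at this
  rw [← this, trace_conj']

theorem conj_eZ (hh : ∀ (z : Kˣ) v, h z * a 0 v * (h z)⁻¹ = a 0 (z * v)) (c : K) :
    ρ (h (-1)) * eZ ρ ψ a c * ρ (h (-1))⁻¹ = eZ ρ ψ a (-c) := by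
  unfold eZ
  apply conj_pr ρ (fun v : K => a 0 v) (fun v => ψ (c * v)) (h (-1)) (Equiv.neg K)
  · intro v
    have := hh (-1) v
    rw [Units.val_neg, Units.val_one, neg_one_mul] at this
    exact this
  · intro v
    show ψ (-c * -(-v)) = ψ (c * -v)
    congr 1
    ring

theorem trace_invol_eZ (ha : ∀ u v u' v', a u v * a u' v' = a (u + u') (v + v'))
    (hh : ∀ (z : Kˣ) v, h z * a 0 v * (h z)⁻¹ = a 0 (z * v)) (hψ : ψ ≠ 1) (h2 : (2 : K) ≠ 0)
    (c : K) (hc : c ≠ 0) :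
    LinearMap.trace ℂ V (ρ (h (-1)) * eZ ρ ψ a c) = 0 := by
  have hne : -c ≠ c := by
    intro h
    have : (2 : K) * c = 0 := by linear_combination -h
    rcases mul_eq_zero.1 this with h' | h'
    · exact h2 h'
    · exact hc h'
  have hconj : ρ (h (-1)) * eZ ρ ψ a c = eZ ρ ψ a (-c) * ρ (h (-1)) := by
    rw [← conj_eZ ρ ψ a h hh c, mul_assoc, ← map_mul, inv_mul_cancel, map_one, mul_one]
  have hid := (eZ_idem ρ ψ a ha c).eq
  calc LinearMap.trace ℂ V (ρ (h (-1)) * eZ ρ ψ a c)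
      = LinearMap.trace ℂ V ((ρ (h (-1)) * eZ ρ ψ a c) * eZ ρ ψ a c) := by
        rw [mul_assoc, hid]
    _ = LinearMap.trace ℂ V ((eZ ρ ψ a (-c) * ρ (h (-1))) * eZ ρ ψ a c) := by rw [hconj]
    _ = LinearMap.trace ℂ V (eZ ρ ψ a c * (eZ ρ ψ a (-c) * ρ (h (-1)))) := by
        rw [LinearMap.trace_mul_comm]
    _ = 0 := by
        rw [← mul_assoc, eZ_orth ρ ψ a ha hψ (-c) c hne, zero_mul, map_zero]

/-- **the Landazuri-Seitz bound** for a Ree-like configuration, and the vanishing of the character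
at the involution `h (-1)` in the case of equality -/
theorem ls_bound (ha : ∀ u v u' v', a u v * a u' v' = a (u + u') (v + v'))
    (hx : ∀ t u v, (x t)⁻¹ * a u v * x t = a u (v - u * t))
    (hh : ∀ (z : Kˣ) v, h z * a 0 v * (h z)⁻¹ = a 0 (z * v))
    (hψ : ψ ≠ 1) (h2 : (2 : K) ≠ 0) (hnt : ∃ v, ρ (a 0 v) ≠ 1) :
    Fintype.card K * (Fintype.card K - 1) ≤ finrank ℂ V ∧
    (finrank ℂ V = Fintype.card K * (Fintype.card K - 1) →
      LinearMap.trace ℂ V (ρ (h (-1))) = 0) := by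
  set q := Fintype.card K with hq
  have hq1 : 1 ≤ q := Fintype.card_pos
  set n1 := finrank ℂ (LinearMap.range (eA ρ ψ a 1)) with hn1
  set n0 := finrank ℂ (LinearMap.range (eZ ρ ψ a 0)) with hn0
  have hn1' : ((n1 : ℕ) : ℂ) = LinearMap.trace ℂ V (eA ρ ψ a 1) :=
    finrank_range_pr ρ _ _ (hfA a ha) (hμA ψ 1) (by simp)
  have hn0' : ((n0 : ℕ) : ℂ) = LinearMap.trace ℂ V (eZ ρ ψ a 0) :=
    finrank_range_pr ρ _ _ (hfZ a ha) (hμZ ψ 0) (by simp)
  have hA : ∀ c : K, c ≠ 0 → LinearMap.trace ℂ V (eZ ρ ψ a c) = (q : ℂ) * n1 := by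
    intro c hc
    rw [trace_eZ_torus ρ ψ a h hh c hc, ← trace_eA_eq ρ ψ a x hx hψ 1 one_ne_zero, hn1']
  have htot : ((finrank ℂ V : ℕ) : ℂ) + (q : ℂ) * n1 = n0 + (q : ℂ) * ((q : ℂ) * n1) := by
    have h1 : ((finrank ℂ V : ℕ) : ℂ) = ∑ c : K, LinearMap.trace ℂ V (eZ ρ ψ a c) := by
      rw [← map_sum, sum_eZ ρ ψ a ha hψ, LinearMap.trace_one]
    have h3 : ∀ c : K, LinearMap.trace ℂ V (eZ ρ ψ a c) =
        (q : ℂ) * n1 + (if c = 0 then ((n0 : ℂ) - (q : ℂ) * n1) else 0) := by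
      intro c
      split_ifs with hc
      · rw [hc, ← hn0']; ring
      · rw [hA c hc, add_zero]
    rw [h1, Finset.sum_congr rfl (fun c _ => h3 c), Finset.sum_add_distrib, Finset.sum_const,
      Finset.sum_ite_eq' Finset.univ (0 : K), if_pos (Finset.mem_univ _), Finset.card_univ,
      nsmul_eq_mul]
    ring
  have htotN : finrank ℂ V + q * n1 = n0 + q * (q * n1) := by exact_mod_cast htot
  have hn1pos : 1 ≤ n1 := by
    by_contra hcon
    have hz : n1 = 0 := by omega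
    have hzero : ∀ c : K, c ≠ 0 → eZ ρ ψ a c = 0 := by
      intro c hc
      apply pr_eq_zero_of_trace ρ _ _ (hfZ a ha) (hμZ ψ c) (by simp)
      have := hA c hc
      rw [hz, Nat.cast_zero, mul_zero] at this
      exact this
    have hone : eZ ρ ψ a 0 = 1 := by
      rw [← sum_eZ ρ ψ a ha hψ]
      symm
      apply Finset.sum_eq_single (0 : K)
      · intro c _ hc
        exact hzero c hc
      · intro h
        exact absurd (Finset.mem_univ _) h
    obtain ⟨v, hv⟩ := hnt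
    apply hv
    have := rho_mul_eZ ρ ψ a ha 0 v
    rw [hone, mul_one, zero_mul, AddChar.map_zero_eq_one, one_smul] at this
    exact this
  have hqq : q * (q * n1) = q * n1 + (q - 1) * (q * n1) := by
    obtain ⟨j, hj⟩ : ∃ j, q = j + 1 := ⟨q - 1, by omega⟩
    rw [hj]
    simp only [Nat.add_sub_cancel]
    ring
  have hfin : finrank ℂ V = n0 + (q - 1) * (q * n1) := by omega
  have hge : q * (q - 1) ≤ (q - 1) * (q * n1) := by
    calc q * (q - 1) = (q - 1) * (q * 1) := by ring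
      _ ≤ (q - 1) * (q * n1) := Nat.mul_le_mul_left _ (Nat.mul_le_mul_left _ hn1pos)
  refine ⟨by omega, ?_⟩
  intro heq
  have hn00 : n0 = 0 := by omega
  have he0 : eZ ρ ψ a 0 = 0 := by
    apply pr_eq_zero_of_trace ρ _ _ (hfZ a ha) (hμZ ψ 0) (by simp)
    show LinearMap.trace ℂ V (eZ ρ ψ a 0) = 0
    rw [← hn0', hn00, Nat.cast_zero]
  have h1 : ρ (h (-1)) = ∑ c : K, ρ (h (-1)) * eZ ρ ψ a c := by
    rw [← Finset.mul_sum, sum_eZ ρ ψ a ha hψ, mul_one]
  rw [h1, map_sum]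
  apply Finset.sum_eq_zero
  intro c _
  by_cases hc : c = 0
  · rw [hc, he0, mul_zero, map_zero]
  · exact trace_invol_eZ ρ ψ a h ha hh hψ h2 c hc

end abstractLS

end Cfsg.Agent.Lib.Helper1.ReeMD
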