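import Mathlib
import Cfsg.Agent.Lib.Helper1.ReeMD2
import Cfsg.Agent.Lib.Helper1.RW16
import Cfsg.Agent.Lib.Helper1.MNDB2

/-!
Minimal degree of the Ree groups, part 3: the concrete Ree group `²G₂(q)` has the Ree-like
configuration, so every irreducible module of dimension at least 2 has dimension at least
`q (q - 1)`, and in the case of equality the character vanishes at all involutions.
-/

set_option autoImplicit false
set_option maxHeartbeats 1000000
set_option linter.unusedVariables false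
set_option linter.unusedSectionVars false
set_option linter.style.longLine false

namespace Cfsg.Agent.Lib.Helper1.ReeMD

open Cfsg Cfsg.Lie Cfsg.Agent.Lib.Helper5.ChevSym Cfsg.Agent.Lib.Helper5.ChevSymP
  Cfsg.Agent.Lib.Helper5.ChevStruct Cfsg.Agent.Lib.Helper5.Ree Cfsg.Agent.Lib.Helper5.ReeCent
  Cfsg.Agent.Lib.Helper5.ReeTori Cfsg.Agent.Lib.Helper5.ReeOut Cfsg.Agent.Lib.Helper1.RW
open Module

universe u

section concrete

variable {K : Type u} [Field K] [CharP K 3] (m : ℕ) [Fintype K]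
  (hq : ∀ x : K, x ^ 3 ^ (2 * m + 1) = x)

include hq in
theorem aU_add (u v u' v' : K) :
    aU m 0 u v * aU m 0 u' v' = aU m 0 (u + u') (v + v') := by
  rw [aU_mul m hq]
  congr 1 <;> simp

include hq in
theorem aU_conj_x (t u v : K) :
    (aU m t 0 0)⁻¹ * aU m 0 u v * aU m t 0 0 = aU m 0 u (v - u * t) := by
  have h1 : aU m 0 u v * aU m t 0 0 = aU m t u (v - u * t) := by
    rw [aU_mul m hq]
    congr 1 <;> simp
  have h2 : aU m t 0 0 * aU m 0 u (v - u * t) = aU m t u (v - u * t) := by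
    rw [aU_mul m hq]
    congr 1 <;> simp
  rw [mul_assoc, h1, ← h2, inv_mul_cancel_left]

include hq in
theorem hT_conj_z (z : Kˣ) (v : K) :
    hT m hq z * aU m 0 0 v * (hT m hq z)⁻¹ = aU m 0 0 ((z : K) * v) := by
  rw [hT_conj_aU m hq, mul_zero, mul_zero]

theorem two_ne_zero_K : (2 : K) ≠ 0 := by
  intro h
  have h3 : ((3 : ℕ) : K) = 0 := CharP.cast_eq_zero K 3
  have : (1 : K) = 0 := by
    have e : (1 : K) = ((3 : ℕ) : K) - 2 := by push_cast; ring
    rw [e, h3, h, sub_zero]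
  exact one_ne_zero this

include hq in
/-- the Landazuri-Seitz bound for the Ree groups, with the vanishing at the involution -/
theorem ree_ls (hK : Fintype.card K = 3 ^ (2 * m + 1)) (hm : 1 ≤ m)
    {V : Type*} [AddCommGroup V] [Module ℂ V] [FiniteDimensional ℂ V]
    (ρ : Representation ℂ ↥(twistedG2 K (3 ^ m)) V) (hirr : ρ.IsIrreducible)
    (hdim : 2 ≤ finrank ℂ V) :
    Fintype.card K * (Fintype.card K - 1) ≤ finrank ℂ V ∧
    (finrank ℂ V = Fintype.card K * (Fintype.card K - 1) →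
      LinearMap.trace ℂ V (ρ (hT m hq (-1))) = 0) := by
  classical
  obtain ⟨ψ, hψ⟩ : ∃ ψ : AddChar K ℂ, ψ ≠ 1 := by
    obtain ⟨ψ, hψ⟩ := (AddChar.exists_apply_ne_zero (α := K) (a := 1)).2 one_ne_zero
    exact ⟨ψ, (AddChar.ne_one_iff).2 ⟨1, hψ⟩⟩
  apply ls_bound ρ ψ (fun u v => aU m 0 u v) (fun t => aU m t 0 0) (fun z => hT m hq z)
    (fun u v u' v' => aU_add m hq u v u' v') (fun t u v => aU_conj_x m hq t u v)
    (fun z v => hT_conj_z m hq z v) hψ two_ne_zero_K
  -- the centre of `U` acts nontrivially, by simplicity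
  by_contra hcon
  push Not at hcon
  have hsimple : IsSimpleGroup ↥(twistedG2 K (3 ^ m)) := by
    have := (fixG_simple m hq hK hm).1
    exact (MulEquiv.subgroupCongr (twisted_eq_fixG m hq)).isSimpleGroup
  have hker : (ρ : ↥(twistedG2 K (3 ^ m)) →* (V →ₗ[ℂ] V)).ker = ⊤ := by
    rcases hsimple.eq_bot_or_eq_top_of_normal (ρ : ↥(twistedG2 K (3 ^ m)) →* (V →ₗ[ℂ] V)).ker
      inferInstance with h | h
    · exfalso
      have h1 : aU m 0 0 (1 : K) ∈ (ρ : ↥(twistedG2 K (3 ^ m)) →* (V →ₗ[ℂ] V)).ker :=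
        MonoidHom.mem_ker.2 (hcon 1)
      rw [h, Subgroup.mem_bot] at h1
      have h0 : aU (K := K) m 0 0 0 = 1 := by
        have := aU_add m hq (0 : K) 0 0 0
        rw [add_zero] at this
        exact (mul_eq_left (a := aU (K := K) m 0 0 0) (b := aU m 0 0 0)).1 this
      rw [← h0] at h1
      exact one_ne_zero (aU_injective m _ _ _ _ _ _ h1).2.2
    · exact h
  have htriv : ∀ g, ρ g = LinearMap.id := by
    intro g
    have : g ∈ (ρ : ↥(twistedG2 K (3 ^ m)) →* (V →ₗ[ℂ] V)).ker := by rw [hker]; trivial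
    exact MonoidHom.mem_ker.1 this
  have := Cfsg.Agent.Lib.Helper1.MND.finrank_eq_one_of_trivial ρ hirr htriv
  omega

end concrete

end Cfsg.Agent.Lib.Helper1.ReeMD
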