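import Mathlib
import Cfsg.Agent.Lib.Helper1.ReeMD3
import Cfsg.Agent.Lib.Helper8.ReeMDV4
import Cfsg.Agent.Lib.Helper4.ReeMDK4

/-!
Minimal degree of the Ree groups, part 4: every irreducible complex representation of `²G₂(q)`,
`q = 3^(2m+1) ≥ 27`, of degree at least 2 has degree at least `q² - q + 1`.  The value `q (q - 1)`
is excluded by a Klein four-group: the character would vanish at all involutions, so that
`4 ∣ q (q - 1)`.
-/

set_option autoImplicit false
set_option maxHeartbeats 1000000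
set_option linter.unusedVariables false
set_option linter.unusedSectionVars false
set_option linter.style.longLine false

namespace Cfsg.Agent.Lib.Helper1.ReeMD

open Cfsg Cfsg.Lie Cfsg.Agent.Lib.Helper5.ChevSym Cfsg.Agent.Lib.Helper5.ChevSymP
  Cfsg.Agent.Lib.Helper5.ChevStruct Cfsg.Agent.Lib.Helper5.Ree Cfsg.Agent.Lib.Helper5.ReeCent
  Cfsg.Agent.Lib.Helper5.ReeTori Cfsg.Agent.Lib.Helper5.ReeOut Cfsg.Agent.Lib.Helper1.RW
open Module

theorem ree_min_degree {K : Type*} [Field K] [Fintype K] (m : ℕ) (hm : 1 ≤ m)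
    (hK : Fintype.card K = 3 ^ (2 * m + 1))
    {V : Type*} [AddCommGroup V] [Module ℂ V] [FiniteDimensional ℂ V]
    (ρ : Representation ℂ ↥(twistedG2 K (3 ^ m)) V) (hirr : ρ.IsIrreducible)
    (hdim : 2 ≤ finrank ℂ V) :
    (3 ^ (2 * m + 1)) ^ 2 - 3 ^ (2 * m + 1) + 1 ≤ finrank ℂ V := by
  have := charP_of_card hK
  have hq := pow_card_eq hK
  obtain ⟨hle, heq⟩ := ree_ls m hq hK hm ρ hirr hdim
  rw [hK] at hle heq
  set q := 3 ^ (2 * m + 1) with hqdef
  have hq27 : 27 ≤ q := pow_ge_twenty_seven hm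
  have hq8 : q % 8 = 3 := pow_mod_eight m
  have hsq : q ^ 2 - q + 1 = q * (q - 1) + 1 := by
    obtain ⟨j, hj⟩ : ∃ j, q = j + 1 := ⟨q - 1, by omega⟩
    rw [hj]
    simp only [Nat.add_sub_cancel]
    have : (j + 1) ^ 2 = (j + 1) * j + (j + 1) := by ring
    rw [this, Nat.add_sub_cancel]
  rw [hsq]
  by_contra hlt
  have hfin : finrank ℂ V = q * (q - 1) := by omega
  have ht0 := heq hfin
  have W := ward0_ree m hq hK hm
  -- the character vanishes at every involution
  have hinv : ∀ g : ↥(twistedG2 K (3 ^ m)), g * g = 1 → g ≠ 1 →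
      LinearMap.trace ℂ V (ρ g) = 0 := by
    intro g hg2 hg1
    obtain ⟨c, rfl⟩ := W.invol_conj g hg2 hg1
    rw [trace_conj', ht0]
  obtain ⟨a, b, ha1, hb1, hab1, ha2, hb2, hab⟩ := Cfsg.Agent.Lib.Helper4.ReeMD.exists_klein W
  have hab2 : (a * b) * (a * b) = 1 := by
    calc a * b * (a * b) = a * (b * a) * b := by group
      _ = a * (a * b) * b := by rw [← hab]
      _ = (a * a) * (b * b) := by group
      _ = 1 := by rw [ha2, hb2, one_mul]
  have h4 := Cfsg.Agent.Lib.Helper8.ReeMD.four_dvd_of_klein ρ a b ha2 hb2 hab (hinv a ha2 ha1)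
    (hinv b hb2 hb1) (hinv (a * b) hab2 hab1)
  rw [hfin] at h4
  -- but `q (q - 1) ≡ 6 mod 8`
  obtain ⟨j, hj⟩ : ∃ j, q = 8 * j + 3 := ⟨q / 8, by omega⟩
  have : q * (q - 1) = 4 * (16 * j * j + 10 * j + 1) + 2 := by
    rw [hj]
    have : 8 * j + 3 - 1 = 8 * j + 2 := by omega
    rw [this]
    ring
  omega

end Cfsg.Agent.Lib.Helper1.ReeMD
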