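import Mathlib
set_option autoImplicit false
open Pointwise

namespace Cfsg.Agent.Lib.Helper1

universe u v

theorem regular_normal_of_two_transitive {G : Type u} [Group G] [Finite G]
    {X : Type v} [Nonempty X] [MulAction G X] (h2 : MulAction.IsMultiplyPretransitive G X 2)
    (N : Subgroup G) [hNn : N.Normal]
    (hreg : ∀ x : X, MulAction.stabilizer N x = ⊥) :
    IsMulCommutative N ∧ ∃ p : ℕ, p.Prime ∧ ∀ n ∈ N, n ^ p = 1 := by
  obtain ⟨x₀⟩ := ‹Nonempty X›
  rw [MulAction.is_two_pretransitive_iff] at h2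
  -- nonidentity elements of N move x₀
  have hmove : ∀ n ∈ N, n ≠ 1 → n • x₀ ≠ x₀ := by
    intro n hn hn1 hfix
    have : (⟨n, hn⟩ : N) ∈ MulAction.stabilizer N x₀ := hfix
    rw [hreg x₀, Subgroup.mem_bot] at this
    exact hn1 (congrArg Subtype.val this)
  -- any two nonidentity elements of N are conjugate in G
  have hconj : ∀ n ∈ N, n ≠ 1 → ∀ m ∈ N, m ≠ 1 → ∃ g : G, g * n * g⁻¹ = m := by
    intro n hn hn1 m hm hm1
    obtain ⟨g, hg0, hg1⟩ := h2 (hmove n hn hn1).symm (hmove m hm hm1).symm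
    refine ⟨g, ?_⟩
    have h1 : (g * n * g⁻¹) • x₀ = m • x₀ := by
      have : g⁻¹ • x₀ = x₀ := by rw [inv_smul_eq_iff, hg0]
      rw [mul_smul, mul_smul, this, hg1]
    have hmem : m⁻¹ * (g * n * g⁻¹) ∈ N := N.mul_mem (N.inv_mem hm) (hNn.conj_mem n hn g)
    have hstab : (⟨m⁻¹ * (g * n * g⁻¹), hmem⟩ : N) ∈ MulAction.stabilizer N x₀ := by
      show (m⁻¹ * (g * n * g⁻¹)) • x₀ = x₀
      rw [mul_smul, h1, inv_smul_smul]
    rw [hreg x₀, Subgroup.mem_bot] at hstab
    have := congrArg Subtype.val hstab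
    simp only [Subgroup.coe_one] at this
    exact (inv_mul_eq_one.mp this).symm
  by_cases hbot : N = ⊥
  · refine ⟨⟨⟨fun a b => ?_⟩⟩, 2, Nat.prime_two, ?_⟩
    · have hall : ∀ c : N, c = 1 := by
        intro c
        have h1 : (c : G) ∈ (⊥ : Subgroup G) := hbot ▸ c.2
        exact Subtype.ext (Subgroup.mem_bot.mp h1)
      rw [hall a, hall b]
    · intro n hn
      rw [hbot, Subgroup.mem_bot] at hn
      rw [hn, one_pow]
  have hcard : Nat.card N ≠ 1 := fun h => hbot (Subgroup.card_eq_one.mp h)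
  obtain ⟨p, hp, hpdvd⟩ := Nat.exists_prime_and_dvd hcard
  have := Fact.mk hp
  obtain ⟨z, hz⟩ := exists_prime_orderOf_dvd_card' p hpdvd
  have hzo : orderOf (z : G) = p := by rw [Subgroup.orderOf_coe]; exact hz
  have hz1 : (z : G) ≠ 1 := by
    intro h
    rw [h, orderOf_one] at hzo
    exact hp.one_lt.ne hzo
  have hpow : ∀ n ∈ N, n ^ p = 1 := by
    intro n hn
    by_cases hn1 : n = 1
    · rw [hn1, one_pow]
    · obtain ⟨g, hg⟩ := hconj z z.2 hz1 n hn hn1
      rw [← hg, conj_pow, ← hzo, pow_orderOf_eq_one, mul_one, mul_inv_cancel]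
  have hNp : IsPGroup p N := fun x => ⟨1, by rw [pow_one]; exact Subtype.ext (hpow x x.2)⟩
  have hnt : Nontrivial N := (Subgroup.nontrivial_iff_ne_bot N).mpr hbot
  have hcnt : Nontrivial (Subgroup.center N) := hNp.center_nontrivial
  obtain ⟨c, hc⟩ := exists_ne (1 : Subgroup.center N)
  have hc1 : ((c : N) : G) ≠ 1 := by
    intro h
    apply hc
    exact Subtype.ext (Subtype.ext h)
  have hccomm : ∀ m ∈ N, m * ((c : N) : G) = ((c : N) : G) * m := by
    intro m hm
    have := Subgroup.mem_center_iff.mp c.2 ⟨m, hm⟩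
    exact congrArg Subtype.val this
  refine ⟨⟨⟨fun a b => ?_⟩⟩, p, hp, hpow⟩
  apply Subtype.ext
  show (a : G) * b = b * a
  by_cases ha1 : (a : G) = 1
  · rw [ha1, one_mul, mul_one]
  · obtain ⟨g, hg⟩ := hconj _ (c : N).2 hc1 a a.2 ha1
    have hb' : g⁻¹ * b * g ∈ N := by
      have := hNn.conj_mem b b.2 g⁻¹
      simpa using this
    have h1 := hccomm _ hb'
    rw [← hg]
    calc g * ((c : N) : G) * g⁻¹ * b = g * (((c : N) : G) * (g⁻¹ * b * g)) * g⁻¹ := by group
      _ = g * ((g⁻¹ * b * g) * ((c : N) : G)) * g⁻¹ := by rw [h1]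
      _ = b * (g * ((c : N) : G) * g⁻¹) := by group

end Cfsg.Agent.Lib.Helper1
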