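import Mathlib
import Cfsg.Agent.Lib.Helper2.SfmA

set_option autoImplicit false
set_option maxHeartbeats 4000000
set_option linter.unusedVariables false
set_option linter.unusedSectionVars false
set_option linter.style.longLine false
set_option linter.unusedSimpArgs false
set_option linter.deprecated false

/-! Generation of `SL_n` by three conjugate regular unipotent elements, part 1:
the shift matrix, basis vectors indexed by naturals, actions. -/

namespace Cfsg.Agent.Lib.Helper1.Rg

open Matrix Cfsg.Agent.Lib.Helper5.TvGL Cfsg.Agent.Lib.Helper5.SLSubspaceMax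
  Cfsg.Agent.Lib.Helper2.Sfm

universe u

variable {F : Type u} [Field F] {n : ℕ}

/-- basis vector indexed by a natural number (zero if out of range) -/
def E (n : ℕ) (F : Type u) [Field F] (k : ℕ) : Fin n → F := fun i => if i.val = k then 1 else 0

theorem E_apply (k : ℕ) (i : Fin n) : E n F k i = if i.val = k then 1 else 0 := rfl

theorem E_eq_single {k : ℕ} (hk : k < n) : E n F k = Pi.single (⟨k, hk⟩ : Fin n) 1 := by
  funext i
  rw [E_apply, Pi.single_apply]
  by_cases h : i.val = k
  · have : i = ⟨k, hk⟩ := Fin.ext h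
    rw [if_pos h, if_pos this]
  · have : i ≠ ⟨k, hk⟩ := fun e => h (by rw [e])
    rw [if_neg h, if_neg this]

theorem E_eq_zero {k : ℕ} (hk : n ≤ k) : E n F k = 0 := by
  funext i
  rw [E_apply, if_neg]
  · rfl
  · have := i.isLt
    omega

theorem dot_E (φ : Fin n → F) {k : ℕ} (hk : k < n) : φ ⬝ᵥ E n F k = φ ⟨k, hk⟩ := by
  rw [E_eq_single hk, dotProduct_single_one]

theorem E_dot (φ : Fin n → F) {k : ℕ} (hk : k < n) : E n F k ⬝ᵥ φ = φ ⟨k, hk⟩ := by
  rw [E_eq_single hk, single_one_dotProduct]

theorem E_dot_E {k l : ℕ} (hk : k < n) : E n F k ⬝ᵥ E n F l = if k = l then 1 else 0 := by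
  rw [E_dot _ hk, E_apply]

/-- the superdiagonal shift matrix -/
def Nm (n : ℕ) (F : Type u) [Field F] : Matrix (Fin n) (Fin n) F :=
  Matrix.of fun i j => if i.val + 1 = j.val then 1 else 0

theorem Nm_apply (i j : Fin n) : Nm n F i j = if i.val + 1 = j.val then 1 else 0 := rfl

theorem Nm_mulVec (x : Fin n → F) (i : Fin n) :
    (Nm n F *ᵥ x) i = if h : i.val + 1 < n then x ⟨i.val + 1, h⟩ else 0 := by
  show ∑ j, Nm n F i j * x j = _
  by_cases h : i.val + 1 < n
  · rw [dif_pos h, Finset.sum_eq_single (⟨i.val + 1, h⟩ : Fin n)]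
    · rw [Nm_apply, if_pos rfl, one_mul]
    · intro j _ hj
      rw [Nm_apply, if_neg, zero_mul]
      intro e
      exact hj (Fin.ext e.symm)
    · intro hh
      exact absurd (Finset.mem_univ _) hh
  · rw [dif_neg h]
    apply Finset.sum_eq_zero
    intro j _
    rw [Nm_apply, if_neg, zero_mul]
    have := j.isLt
    omega

theorem vecMul_Nm (φ : Fin n → F) (j : Fin n) :
    (φ ᵥ* Nm n F) j = if h : 0 < j.val then φ ⟨j.val - 1, by have := j.isLt; omega⟩ else 0 := by
  show ∑ i, φ i * Nm n F i j = _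
  by_cases h : 0 < j.val
  · rw [dif_pos h, Finset.sum_eq_single (⟨j.val - 1, by have := j.isLt; omega⟩ : Fin n)]
    · rw [Nm_apply, if_pos (by show j.val - 1 + 1 = j.val; omega), mul_one]
    · intro i _ hi
      rw [Nm_apply, if_neg, mul_zero]
      intro e
      apply hi
      apply Fin.ext
      show i.val = j.val - 1
      omega
    · intro hh
      exact absurd (Finset.mem_univ _) hh
  · rw [dif_neg h]
    apply Finset.sum_eq_zero
    intro i _
    rw [Nm_apply, if_neg, mul_zero]
    omega

theorem Nm_mulVec_E_zero : Nm n F *ᵥ E n F 0 = 0 := by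
  funext i
  rw [Nm_mulVec]
  by_cases h : i.val + 1 < n
  · rw [dif_pos h, E_apply, if_neg]
    · rfl
    · show i.val + 1 ≠ 0
      omega
  · rw [dif_neg h]; rfl

theorem Nm_mulVec_E_succ {k : ℕ} (hk : k + 1 < n) : Nm n F *ᵥ E n F (k + 1) = E n F k := by
  funext i
  rw [Nm_mulVec, E_apply]
  by_cases h : i.val + 1 < n
  · rw [dif_pos h, E_apply]
    show (if i.val + 1 = k + 1 then (1 : F) else 0) = _
    by_cases e : i.val = k
    · rw [if_pos (by omega), if_pos e]
    · rw [if_neg (by omega), if_neg e]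
  · rw [dif_neg h, if_neg]
    omega

theorem E_vecMul_Nm (k : ℕ) : E n F k ᵥ* Nm n F = E n F (k + 1) := by
  funext j
  rw [vecMul_Nm, E_apply]
  by_cases h : 0 < j.val
  · rw [dif_pos h, E_apply]
    show (if j.val - 1 = k then (1 : F) else 0) = _
    by_cases e : j.val = k + 1
    · rw [if_pos (by omega), if_pos e]
    · rw [if_neg (by omega), if_neg e]
  · rw [dif_neg h, if_neg]
    omega

theorem smul_E_vecMul_Nm (c : F) (k : ℕ) : (c • E n F k) ᵥ* Nm n F = c • E n F (k + 1) := by
  rw [smul_vecMul, E_vecMul_Nm]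

/-- powers of the shift matrix -/
theorem Nm_pow (k : ℕ) (i j : Fin n) :
    (Nm n F ^ k) i j = if i.val + k = j.val then 1 else 0 := by
  induction k generalizing i j with
  | zero =>
    rw [pow_zero, Matrix.one_apply]
    by_cases h : i = j
    · rw [if_pos h, if_pos (by rw [h]; rfl)]
    · rw [if_neg h, if_neg]
      intro e
      exact h (Fin.ext (by simpa using e))
  | succ k ih =>
    rw [pow_succ, Matrix.mul_apply]
    by_cases h : i.val + (k + 1) = j.val
    · rw [if_pos h]
      have hlt : i.val + k < n := by have := j.isLt; omega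
      rw [Finset.sum_eq_single (⟨i.val + k, hlt⟩ : Fin n)]
      · rw [ih, if_pos rfl, Nm_apply, if_pos (by show i.val + k + 1 = j.val; omega), mul_one]
      · intro l _ hl
        rw [ih, if_neg, zero_mul]
        intro e
        exact hl (Fin.ext e.symm)
      · intro hh
        exact absurd (Finset.mem_univ _) hh
    · rw [if_neg h]
      apply Finset.sum_eq_zero
      intro l _
      rw [ih, Nm_apply]
      by_cases e1 : i.val + k = l.val
      · rw [if_pos e1, if_neg (by omega), mul_zero]
      · rw [if_neg e1, zero_mul]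

theorem Nm_pow_self : Nm n F ^ n = 0 := by
  ext i j
  rw [Nm_pow, if_neg]
  · rfl
  · have := j.isLt
    omega

theorem Nm_pow_pred_ne (hn : 1 ≤ n) : Nm n F ^ (n - 1) ≠ 0 := by
  intro h
  have := congrFun (congrFun h (⟨0, by omega⟩ : Fin n)) (⟨n - 1, by omega⟩ : Fin n)
  rw [Nm_pow, if_pos (by show 0 + (n - 1) = n - 1; omega)] at this
  exact one_ne_zero this

theorem det_one_sub_Nm : (1 - Nm n F).det = 1 := by
  have hT : (1 - Nm n F).IsUpperTriangular := by
    intro i j hij
    have hij' : j < i := hij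
    rw [Matrix.sub_apply, Matrix.one_apply, if_neg (ne_of_gt hij'), Nm_apply, if_neg, sub_zero]
    have : j.val < i.val := hij'
    omega
  rw [Matrix.det_of_isUpperTriangular hT]
  apply Finset.prod_eq_one
  intro i _
  rw [Matrix.sub_apply, Matrix.one_apply, if_pos rfl, Nm_apply, if_neg, sub_zero]
  omega

/-- row action of a transvection matrix -/
theorem vecMul_tvMat (φ ψ c : Fin n → F) : φ ᵥ* tvMat ψ c = φ + (φ ⬝ᵥ c) • ψ := by
  unfold tvMat
  rw [vecMul_add, vecMul_one, vecMul_vecMulVec]

theorem one_sub_Nm_mulVec (x : Fin n → F) : (1 - Nm n F) *ᵥ x = x - Nm n F *ᵥ x := by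
  rw [sub_mulVec, one_mulVec]

theorem vecMul_one_sub_Nm (φ : Fin n → F) : φ ᵥ* (1 - Nm n F) = φ - φ ᵥ* Nm n F := by
  rw [vecMul_sub, vecMul_one]

end Cfsg.Agent.Lib.Helper1.Rg
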