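import Mathlib
import Cfsg.Agent.Lib.Helper1.Rg1

set_option autoImplicit false
set_option maxHeartbeats 4000000
set_option linter.unusedVariables false
set_option linter.unusedSectionVars false
set_option linter.style.longLine false
set_option linter.unusedSimpArgs false
set_option linter.deprecated false

/-! Generation of `SL_n` by three conjugate regular unipotent elements, part 2:
the explicit vector computations for `v = p u p⁻¹`. -/

namespace Cfsg.Agent.Lib.Helper1.Rg

open Matrix Cfsg.Agent.Lib.Helper5.TvGL Cfsg.Agent.Lib.Helper5.SLSubspaceMax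
  Cfsg.Agent.Lib.Helper2.Sfm

universe u

variable {F : Type u} [Field F] {n : ℕ}

/-- the matrix of `v = p u p⁻¹`, `p = 1 + E_{n-1,0}`, `u = 1 - N` -/
noncomputable def vM (n : ℕ) (F : Type u) [Field F] : Matrix (Fin n) (Fin n) F :=
  tvMat (E n F 0) (E n F (n - 1)) * (1 - Nm n F) * tvMat (-E n F 0) (E n F (n - 1))

/-- the vector `-(e_1 + ... + e_{n-1})` -/
def aV (n : ℕ) (F : Type u) [Field F] : Fin n → F := fun i => if i.val = 0 then 0 else -1

theorem vM_mulVec (x : Fin n → F) :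
    vM n F *ᵥ x = tvMat (E n F 0) (E n F (n - 1)) *ᵥ ((1 - Nm n F) *ᵥ
      (tvMat (-E n F 0) (E n F (n - 1)) *ᵥ x)) := by
  unfold vM
  rw [mulVec_mulVec, mulVec_mulVec]

theorem vecMul_vM (φ : Fin n → F) :
    φ ᵥ* vM n F = ((φ ᵥ* tvMat (E n F 0) (E n F (n - 1))) ᵥ* (1 - Nm n F)) ᵥ*
      tvMat (-E n F 0) (E n F (n - 1)) := by
  unfold vM
  rw [← vecMul_vecMul, ← vecMul_vecMul]

theorem u_mulVec_E_zero : (1 - Nm n F) *ᵥ E n F 0 = E n F 0 := by
  rw [one_sub_Nm_mulVec, Nm_mulVec_E_zero, sub_zero]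

theorem u_mulVec_E_succ {k : ℕ} (hk : k + 1 < n) :
    (1 - Nm n F) *ᵥ E n F (k + 1) = E n F (k + 1) - E n F k := by
  rw [one_sub_Nm_mulVec, Nm_mulVec_E_succ hk]

theorem vM_mulVec_aV (hn : 3 ≤ n) : vM n F *ᵥ aV n F = E n F 0 := by
  have h0n : 0 < n := by omega
  have h1 : tvMat (-E n F 0) (E n F (n - 1)) *ᵥ aV n F = aV n F := by
    rw [tvMat_mulVec, neg_dotProduct, E_dot _ h0n]
    have : aV n F ⟨0, h0n⟩ = 0 := by unfold aV; rw [if_pos rfl]
    rw [this, neg_zero, zero_smul, add_zero]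
  have h2 : (1 - Nm n F) *ᵥ aV n F = E n F 0 - E n F (n - 1) := by
    rw [one_sub_Nm_mulVec]
    funext i
    rw [Pi.sub_apply, Pi.sub_apply, Nm_mulVec, E_apply, E_apply]
    unfold aV
    by_cases hi0 : i.val = 0
    · have h1n : i.val + 1 < n := by omega
      rw [if_pos hi0, dif_pos h1n, if_neg (by show i.val + 1 ≠ 0; omega), if_pos hi0,
        if_neg (by omega)]
      ring
    · by_cases hin : i.val + 1 < n
      · rw [if_neg hi0, dif_pos hin, if_neg (by show i.val + 1 ≠ 0; omega), if_neg hi0,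
          if_neg (by omega)]
        ring
      · have : i.val = n - 1 := by have := i.isLt; omega
        rw [if_neg hi0, dif_neg hin, if_neg hi0, if_pos this]
        ring
  rw [vM_mulVec, h1, h2, tvMat_mulVec, dotProduct_sub, E_dot_E h0n, E_dot_E h0n, if_pos rfl,
    if_neg (by omega), sub_zero, one_smul, sub_add_cancel]

theorem E_vecMul_vM (hn : 3 ≤ n) : E n F (n - 1) ᵥ* vM n F = E n F (n - 1) - E n F 1 := by
  have h0n : 0 < n := by omega
  have hn1 : n - 1 < n := by omega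
  have h1n : 1 < n := by omega
  have s1 : E n F (n - 1) ᵥ* tvMat (E n F 0) (E n F (n - 1)) = E n F (n - 1) + E n F 0 := by
    rw [vecMul_tvMat, E_dot_E hn1, if_pos rfl, one_smul]
  have hz : E n F (n - 1 + 1) = 0 := E_eq_zero (by omega)
  have s2 : (E n F (n - 1) + E n F 0) ᵥ* (1 - Nm n F) = E n F (n - 1) + E n F 0 - E n F 1 := by
    rw [vecMul_one_sub_Nm, add_vecMul, E_vecMul_Nm, E_vecMul_Nm, hz, zero_add]
  have s3 : (E n F (n - 1) + E n F 0 - E n F 1) ᵥ* tvMat (-E n F 0) (E n F (n - 1)) =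
      E n F (n - 1) - E n F 1 := by
    rw [vecMul_tvMat, sub_dotProduct, add_dotProduct, E_dot_E hn1, E_dot_E h0n,
      E_dot_E h1n, if_pos rfl, if_neg (by omega), if_neg (by omega), add_zero, sub_zero, one_smul]
    abel
  rw [vecMul_vM, s1, s2, s3]

theorem vM_mulVec_E_zero (hn : 3 ≤ n) : vM n F *ᵥ E n F 0 = E n F 0 + E n F (n - 2) := by
  have h0n : 0 < n := by omega
  have hn1 : n - 1 < n := by omega
  have hn2 : n - 2 < n := by omega
  have e1 : tvMat (-E n F 0) (E n F (n - 1)) *ᵥ E n F 0 = E n F 0 - E n F (n - 1) := by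
    rw [tvMat_mulVec, neg_dotProduct, E_dot_E h0n, if_pos rfl, neg_smul, one_smul, sub_eq_add_neg]
  have e2 : (1 - Nm n F) *ᵥ E n F (n - 1) = E n F (n - 1) - E n F (n - 2) := by
    have h := u_mulVec_E_succ (F := F) (n := n) (k := n - 2) (by omega)
    have e : n - 2 + 1 = n - 1 := by omega
    rw [e] at h
    exact h
  rw [vM_mulVec, e1, mulVec_sub, u_mulVec_E_zero, e2, tvMat_mulVec, dotProduct_sub, dotProduct_sub,
    E_dot_E h0n, E_dot_E h0n, E_dot_E h0n, if_pos rfl, if_neg (by omega), if_neg (by omega)]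
  rw [sub_zero, sub_zero, one_smul]
  abel

theorem vM_mulVec_E_one (hn : 3 ≤ n) :
    vM n F *ᵥ E n F 1 = E n F 1 - E n F 0 - E n F (n - 1) := by
  have h0n : 0 < n := by omega
  have h1n : 1 < n := by omega
  have e1 : tvMat (-E n F 0) (E n F (n - 1)) *ᵥ E n F 1 = E n F 1 := by
    rw [tvMat_mulVec, neg_dotProduct, E_dot_E h0n, if_neg (by omega), neg_zero, zero_smul, add_zero]
  have e2 : (1 - Nm n F) *ᵥ E n F 1 = E n F 1 - E n F 0 := by
    have h := u_mulVec_E_succ (F := F) (n := n) (k := 0) (by omega)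
    simpa using h
  rw [vM_mulVec, e1, e2, tvMat_mulVec, dotProduct_sub, E_dot_E h0n, E_dot_E h0n, if_pos rfl,
    if_neg (by omega), zero_sub, neg_smul, one_smul]
  abel

theorem aV_last (hn : 3 ≤ n) : E n F (n - 1) ⬝ᵥ aV n F = -1 := by
  rw [E_dot _ (by omega : n - 1 < n)]
  unfold aV
  rw [if_neg]
  show n - 1 ≠ 0
  omega

/-- the conjugation identity producing a transvection from two conjugates of `u` -/
theorem conj_identity (hn : 3 ≤ n) (c : F) :
    tvMat ((-c) • E n F (n - 2)) (E n F 0) * (1 - Nm n F) =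
      (1 - Nm n F) * tvMat (c • E n F (n - 1)) (E n F 0) * tvMat ((-c) • E n F (n - 2)) (E n F 0) := by
  have h0n : 0 < n := by omega
  have hn1 : n - 1 < n := by omega
  set A : Matrix (Fin n) (Fin n) F := vecMulVec (E n F 0) ((-c) • E n F (n - 2)) with hA
  set B : Matrix (Fin n) (Fin n) F := vecMulVec (E n F 0) (c • E n F (n - 1)) with hB
  have hAN : A * Nm n F = -B := by
    rw [hA, hB, vecMulVec_mul, smul_E_vecMul_Nm]
    have e : n - 2 + 1 = n - 1 := by omega
    rw [e, neg_smul, vecMulVec_neg]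
  have hNA : Nm n F * A = 0 := by
    rw [hA, mul_vecMulVec, Nm_mulVec_E_zero, zero_vecMulVec]
  have hNB : Nm n F * B = 0 := by
    rw [hB, mul_vecMulVec, Nm_mulVec_E_zero, zero_vecMulVec]
  have hBA : B * A = 0 := by
    rw [hA, hB, vecMulVec_mul_vecMulVec, smul_dotProduct, E_dot_E hn1, if_neg (by omega),
      smul_zero, zero_smul, vecMulVec_zero]
  rw [tvMat_eq, tvMat_eq, ← hA, ← hB]
  have l : (1 + A) * (1 - Nm n F) = 1 - Nm n F + A + B := by
    rw [add_mul, one_mul, mul_sub, mul_one, hAN]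
    abel
  have r : (1 - Nm n F) * (1 + B) * (1 + A) = 1 - Nm n F + A + B := by
    have r1 : (1 - Nm n F) * (1 + B) = 1 - Nm n F + B := by
      rw [mul_add, mul_one, sub_mul, one_mul, hNB, sub_zero]
    rw [r1, mul_add, mul_one, add_mul, sub_mul, one_mul, hNA, hBA]
    abel
  rw [l, r]

end Cfsg.Agent.Lib.Helper1.Rg
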