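import Mathlib
import Cfsg.Agent.Lib.Helper1.Rg2

set_option autoImplicit false
set_option maxHeartbeats 4000000
set_option linter.unusedVariables false
set_option linter.unusedSectionVars false
set_option linter.style.longLine false
set_option linter.unusedSimpArgs false
set_option linter.deprecated false

/-! Generation of `SL_n` by three conjugate regular unipotent elements, part 3:
the transvection calculus in an overgroup. -/

namespace Cfsg.Agent.Lib.Helper1.Rg

open Matrix Cfsg.Agent.Lib.Helper5.TvGL Cfsg.Agent.Lib.Helper5.SLSubspaceMax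
  Cfsg.Agent.Lib.Helper2.Sfm

universe u

variable {F : Type u} [Field F] {n : ℕ}

theorem tvIn_zero (H : Subgroup (GL (Fin n) F)) (c : Fin n → F) : TvIn H c 0 := by
  refine ⟨1, H.one_mem, ?_⟩
  rw [tvMat_eq, vecMulVec_zero, add_zero]
  rfl

theorem tvIn_sum (H : Subgroup (GL (Fin n) F)) {ι : Type*} (s : Finset ι) (c : Fin n → F)
    (ψ : ι → Fin n → F) (h0 : ∀ i ∈ s, ψ i ⬝ᵥ c = 0) (h : ∀ i ∈ s, TvIn H c (ψ i)) :
    TvIn H c (∑ i ∈ s, ψ i) := by
  classical
  induction s using Finset.induction_on with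
  | empty => rw [Finset.sum_empty]; exact tvIn_zero H c
  | insert a s ha ih =>
    rw [Finset.sum_insert ha]
    apply TvIn.mul_same (h a (Finset.mem_insert_self a s))
    · exact ih (fun i hi => h0 i (Finset.mem_insert_of_mem hi))
        (fun i hi => h i (Finset.mem_insert_of_mem hi))
    · exact h0 a (Finset.mem_insert_self a s)

theorem isCentre_of_tvIn (H : Subgroup (GL (Fin n) F)) (c : Fin n → F)
    (h : ∀ φ : Fin n → F, φ ⬝ᵥ c = 0 → TvIn H c φ) : IsCentre H c := by
  intro φ hφ g hg
  obtain ⟨g', hg', e⟩ := h φ hφ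
  have : g = g' := Units.ext (hg.trans e.symm)
  rw [this]
  exact hg'

theorem inv_mulVec_of_mulVec (g : GL (Fin n) F) {x y : Fin n → F} (h : g.1 *ᵥ x = y) :
    (g⁻¹ : GL (Fin n) F).1 *ᵥ y = x := by
  rw [← h, mulVec_mulVec, ← Units.val_mul, inv_mul_cancel, Units.val_one, one_mulVec]

theorem vec_eq_sum_E (x : Fin n → F) : x = ∑ i : Fin n, x i • E n F i.val := by
  funext j
  rw [Finset.sum_apply, Finset.sum_eq_single j]
  · rw [Pi.smul_apply, E_apply, if_pos rfl, smul_eq_mul, mul_one]
  · intro i _ hij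
    rw [Pi.smul_apply, E_apply, if_neg, smul_zero]
    intro e
    exact hij (Fin.ext e.symm)
  · intro hh
    exact absurd (Finset.mem_univ _) hh

theorem E_dot_E_zero (hn : 0 < n) {k : ℕ} (hk : 1 ≤ k) : E n F k ⬝ᵥ E n F 0 = 0 := by
  rw [dot_E _ hn, E_apply, if_neg]
  show 0 ≠ k
  omega

section Main

variable (H : Subgroup (GL (Fin n) F)) (uG vG : GL (Fin n) F)

/-- shifting the axis of a transvection with centre `e_0` -/
theorem shift (hn : 0 < n) (hu : uG ∈ H) (huv : uG.1 = 1 - Nm n F) {φ : Fin n → F}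
    (h : TvIn H (E n F 0) φ) (h0 : φ ⬝ᵥ E n F 0 = 0) : TvIn H (E n F 0) (φ ᵥ* Nm n F) := by
  have h1 := h.conj uG⁻¹ (H.inv_mem hu)
  have e1 : (uG⁻¹ : GL (Fin n) F).1 *ᵥ E n F 0 = E n F 0 := by
    apply inv_mulVec_of_mulVec
    rw [huv, u_mulVec_E_zero]
  rw [inv_inv, e1, huv, vecMul_one_sub_Nm] at h1
  have hN0 : (φ ᵥ* Nm n F) ⬝ᵥ E n F 0 = 0 := by
    rw [← dotProduct_mulVec, Nm_mulVec_E_zero, dotProduct_zero]
  have h2 := h1.neg (by rw [sub_dotProduct, h0, hN0, sub_zero])
  have h3 := h.mul_same h2 h0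
  have e : φ + -(φ - φ ᵥ* Nm n F) = φ ᵥ* Nm n F := by abel
  rw [e] at h3
  exact h3

theorem shift_iter (hn : 0 < n) (hu : uG ∈ H) (huv : uG.1 = 1 - Nm n F) {z : F} {k : ℕ}
    (hk : 1 ≤ k) (h : TvIn H (E n F 0) (z • E n F k)) (j : ℕ) :
    TvIn H (E n F 0) (z • E n F (k + j)) := by
  induction j with
  | zero => exact h
  | succ j ih =>
    have h0 : (z • E n F (k + j)) ⬝ᵥ E n F 0 = 0 := by
      rw [smul_dotProduct, E_dot_E_zero hn (by omega), smul_zero]
    have := shift H uG hn hu huv ih h0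
    rw [smul_E_vecMul_Nm] at this
    exact this

/-- the key commutator step -/
theorem star (hv : vG ∈ H) {a : Fin n → F} (hva : vG.1 *ᵥ a = E n F 0) {φ φ' : Fin n → F}
    (h : TvIn H (E n F 0) φ) (h' : TvIn H (E n F 0) φ') (h0 : φ ⬝ᵥ E n F 0 = 0)
    (h0' : φ' ⬝ᵥ E n F 0 = 0) (h1 : (φ' ᵥ* vG.1) ⬝ᵥ E n F 0 = 0) :
    TvIn H (E n F 0) ((φ ⬝ᵥ a) • (φ' ᵥ* vG.1)) := by
  have t2 := h'.conj vG⁻¹ (H.inv_mem hv)
  rw [inv_inv, inv_mulVec_of_mulVec vG hva] at t2
  have hξw : (φ' ᵥ* vG.1) ⬝ᵥ a = 0 := by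
    rw [← dotProduct_mulVec, hva, h0']
  exact (TvIn.comm h t2 h0 hξw h1).smul_comm

end Main

/-- main step: an overgroup of `u`, `v` and one transvection contains `SL_n` -/
theorem main_GL (hn : 3 ≤ n) (H : Subgroup (GL (Fin n) F)) (uG vG : GL (Fin n) F)
    (huv : uG.1 = 1 - Nm n F) (hvv : vG.1 = vM n F) (hu : uG ∈ H) (hv : vG ∈ H)
    (c : F) (hc : ∀ x : F, x ≠ 0 → ∃ k : ℕ, 1 ≤ k ∧ c ^ k = x)
    (hX : TvIn H (E n F 0) (c • E n F (n - 1))) :
    Cfsg.Geo.specialLinear (Fin n) F ≤ H := by
  have h0n : 0 < n := by omega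
  have hn1 : n - 1 < n := by omega
  have hva : vG.1 *ᵥ aV n F = E n F 0 := by rw [hvv, vM_mulVec_aV hn]
  have dotn1 : ∀ z : F, (z • E n F (n - 1)) ⬝ᵥ E n F 0 = 0 := by
    intro z
    rw [smul_dotProduct, E_dot_E_zero h0n (by omega), smul_zero]
  have rowv : ∀ y : F, (y • E n F (n - 1)) ᵥ* vG.1 = y • (E n F (n - 1) - E n F 1) := by
    intro y
    rw [hvv, smul_vecMul, E_vecMul_vM hn]
  have rowv0 : ∀ y : F, ((y • E n F (n - 1)) ᵥ* vG.1) ⬝ᵥ E n F 0 = 0 := by
    intro y
    rw [rowv, smul_dotProduct, sub_dotProduct, E_dot_E_zero h0n (by omega),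
      E_dot_E_zero h0n (le_refl 1), sub_zero, smul_zero]
  -- the raw star step
  have raw : ∀ x y : F, TvIn H (E n F 0) (x • E n F (n - 1)) →
      TvIn H (E n F 0) (y • E n F (n - 1)) →
      TvIn H (E n F 0) ((-x) • (y • (E n F (n - 1) - E n F 1))) := by
    intro x y hx hy
    have := star H vG hv hva hx hy (dotn1 x) (dotn1 y) (rowv0 y)
    rw [rowv, smul_dotProduct, aV_last hn, smul_eq_mul, mul_neg, mul_one] at this
    exact this
  -- multiplicativity
  have hmul : ∀ x y : F, TvIn H (E n F 0) (x • E n F (n - 1)) →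
      TvIn H (E n F 0) (y • E n F (n - 1)) →
      TvIn H (E n F 0) ((x * y) • E n F (n - 1)) := by
    intro x y hx hy
    have h1 := raw x y hx hy
    have h10 : ((-x) • (y • (E n F (n - 1) - E n F 1))) ⬝ᵥ E n F 0 = 0 := by
      rw [smul_dotProduct, smul_dotProduct, sub_dotProduct, E_dot_E_zero h0n (by omega),
        E_dot_E_zero h0n (le_refl 1), sub_zero, smul_zero, smul_zero]
    have h2 := shift H uG h0n hu huv h1 h10
    have e : ((-x) • (y • (E n F (n - 1) - E n F 1))) ᵥ* Nm n F = (x * y) • E n F 2 := by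
      rw [smul_vecMul, smul_vecMul, sub_vecMul, E_vecMul_Nm, E_vecMul_Nm]
      have hz : E n F (n - 1 + 1) = 0 := E_eq_zero (by omega)
      rw [hz, zero_sub, smul_neg, smul_neg, neg_smul, neg_neg, smul_smul]
    rw [e] at h2
    have h3 := shift_iter H uG h0n hu huv (by omega : 1 ≤ 2) h2 (n - 3)
    have e2 : 2 + (n - 3) = n - 1 := by omega
    rw [e2] at h3
    exact h3
  have hpow : ∀ k : ℕ, 1 ≤ k → TvIn H (E n F 0) (c ^ k • E n F (n - 1)) := by
    intro k hk
    induction k with
    | zero => omega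
    | succ k ih =>
      by_cases hk0 : k = 0
      · subst hk0
        rw [zero_add, pow_one]
        exact hX
      · have := hmul (c ^ k) c (ih (by omega)) hX
        rw [← pow_succ] at this
        exact this
  have hall : ∀ x : F, TvIn H (E n F 0) (x • E n F (n - 1)) := by
    intro x
    by_cases hx : x = 0
    · rw [hx, zero_smul]
      exact tvIn_zero H _
    · obtain ⟨k, hk, e⟩ := hc x hx
      rw [← e]
      exact hpow k hk
  have hone : ∀ z : F, TvIn H (E n F 0) (z • E n F 1) := by
    intro z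
    have h1 := raw 1 z (hall 1) (hall z)
    have h2 := h1.mul_same (hall z) (by
      rw [smul_dotProduct, smul_dotProduct, sub_dotProduct, E_dot_E_zero h0n (by omega),
        E_dot_E_zero h0n (le_refl 1), sub_zero, smul_zero, smul_zero])
    have e : (-1 : F) • (z • (E n F (n - 1) - E n F 1)) + z • E n F (n - 1) = z • E n F 1 := by
      rw [neg_smul, one_smul, smul_sub]
      abel
    rw [e] at h2
    exact h2
  have hk : ∀ (k : ℕ) (z : F), 1 ≤ k → TvIn H (E n F 0) (z • E n F k) := by
    intro k z hk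
    have := shift_iter H uG h0n hu huv (le_refl 1) (hone z) (k - 1)
    have e : 1 + (k - 1) = k := by omega
    rw [e] at this
    exact this
  -- e_0 is a centre
  have c0 : IsCentre H (E n F 0) := by
    apply isCentre_of_tvIn
    intro φ hφ
    rw [vec_eq_sum_E φ]
    apply tvIn_sum
    · intro i _
      by_cases hi : i.val = 0
      · have : φ i = 0 := by
          rw [dot_E _ h0n] at hφ
          have e : i = ⟨0, h0n⟩ := Fin.ext hi
          rw [e]
          exact hφ
        rw [this, zero_smul, zero_dotProduct]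
      · rw [smul_dotProduct, E_dot_E_zero h0n (by omega), smul_zero]
    · intro i _
      by_cases hi : i.val = 0
      · have : φ i = 0 := by
          rw [dot_E _ h0n] at hφ
          have e : i = ⟨0, h0n⟩ := Fin.ext hi
          rw [e]
          exact hφ
        rw [this, zero_smul]
        exact tvIn_zero H _
      · exact hk i.val (φ i) (by omega)
  -- all basis vectors are centres
  have cneg : ∀ x : Fin n → F, IsCentre H x → IsCentre H (-x) := by
    intro x hx
    have := isCentre_smul H x (-1) hx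
    rw [neg_smul, one_smul] at this
    exact this
  have cn2 : IsCentre H (E n F (n - 2)) := by
    have h1 := isCentre_mulVec H (E n F 0) vG hv c0
    rw [hvv, vM_mulVec_E_zero hn] at h1
    have h2 := isCentre_add H _ _ h1 (cneg _ c0)
    have e : E n F 0 + E n F (n - 2) + -E n F 0 = E n F (n - 2) := by abel
    rw [e] at h2
    exact h2
  have cdown : ∀ j : ℕ, j ≤ n - 2 → IsCentre H (E n F (n - 2 - j)) := by
    intro j
    induction j with
    | zero => intro _; exact cn2
    | succ j ih =>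
      intro hj
      have h1 := ih (by omega)
      have hk1 : n - 2 - (j + 1) + 1 < n := by omega
      have e : n - 2 - j = n - 2 - (j + 1) + 1 := by omega
      rw [e] at h1
      have h2 := isCentre_mulVec H _ uG hu h1
      rw [huv, u_mulVec_E_succ hk1] at h2
      have h3 := isCentre_add H _ _ h1 (cneg _ h2)
      have e2 : E n F (n - 2 - (j + 1) + 1) + -(E n F (n - 2 - (j + 1) + 1) - E n F (n - 2 - (j + 1)))
          = E n F (n - 2 - (j + 1)) := by abel
      rw [e2] at h3
      exact h3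
  have clow : ∀ k : ℕ, k ≤ n - 2 → IsCentre H (E n F k) := by
    intro k hk
    have := cdown (n - 2 - k) (by omega)
    have e : n - 2 - (n - 2 - k) = k := by omega
    rw [e] at this
    exact this
  have cn1 : IsCentre H (E n F (n - 1)) := by
    have h1 := isCentre_mulVec H (E n F 1) vG hv (clow 1 (by omega))
    rw [hvv, vM_mulVec_E_one hn] at h1
    have h2 := isCentre_add H _ _ (isCentre_add H _ _ (cneg _ h1) (clow 1 (by omega))) (cneg _ c0)
    have e : -(E n F 1 - E n F 0 - E n F (n - 1)) + E n F 1 + -E n F 0 = E n F (n - 1) := by abel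
    rw [e] at h2
    exact h2
  have call : ∀ k : ℕ, IsCentre H (E n F k) := by
    intro k
    by_cases h1 : k ≤ n - 2
    · exact clow k h1
    · by_cases h2 : k = n - 1
      · rw [h2]; exact cn1
      · rw [E_eq_zero (by omega)]
        exact isCentre_zero H
  apply specialLinear_le (by omega) H
  intro x
  rw [vec_eq_sum_E x]
  have : ∀ s : Finset (Fin n), IsCentre H (∑ i ∈ s, x i • E n F i.val) := by
    intro s
    classical
    induction s using Finset.induction_on with
    | empty => rw [Finset.sum_empty]; exact isCentre_zero H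
    | insert a s ha ih =>
      rw [Finset.sum_insert ha]
      exact isCentre_add H _ _ (isCentre_smul H _ _ (call a.val)) ih
  exact this Finset.univ

end Cfsg.Agent.Lib.Helper1.Rg
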