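import Mathlib
import Cfsg.Agent.Lib.Helper1.Rg3

set_option autoImplicit false
set_option maxHeartbeats 4000000
set_option linter.unusedVariables false
set_option linter.unusedSectionVars false
set_option linter.style.longLine false
set_option linter.unusedSimpArgs false
set_option linter.deprecated false

/-! Generation of `SL_n` by three conjugate regular unipotent elements, part 4:
the statement in `SL_n`. -/

namespace Cfsg.Agent.Lib.Helper1.Rg

open Matrix Cfsg.Agent.Lib.Helper5.TvGL Cfsg.Agent.Lib.Helper5.SLSubspaceMax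
  Cfsg.Agent.Lib.Helper2.Sfm

universe u

variable {F : Type u} [Field F] {n : ℕ}

/-- the regular unipotent element `1 - N` of `SL_n` -/
noncomputable def uS (n : ℕ) (F : Type u) [Field F] : SpecialLinearGroup (Fin n) F :=
  ⟨1 - Nm n F, det_one_sub_Nm⟩

/-- a transvection as an element of `SL_n` -/
noncomputable def tS (c ψ : Fin n → F) (h : ψ ⬝ᵥ c = 0) : SpecialLinearGroup (Fin n) F :=
  ⟨tvMat ψ c, det_tvMat ψ c h⟩

theorem tS_inv_val (c ψ : Fin n → F) (h : ψ ⬝ᵥ c = 0) :
    ((tS c ψ h)⁻¹ : SpecialLinearGroup (Fin n) F).1 = tvMat (-ψ) c := by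
  have h' : (-ψ) ⬝ᵥ c = 0 := by rw [neg_dotProduct, h, neg_zero]
  have e : (tS c ψ h)⁻¹ = tS c (-ψ) h' := by
    apply inv_eq_of_mul_eq_one_right
    apply Subtype.ext
    show tvMat ψ c * tvMat (-ψ) c = 1
    exact tvMat_mul_inv c ψ h
  rw [e]
  rfl

theorem uS_regular (hn : 1 ≤ n) :
    IsNilpotent (((uS n F : SpecialLinearGroup (Fin n) F) : Matrix (Fin n) (Fin n) F) - 1) ∧
      (((uS n F : SpecialLinearGroup (Fin n) F) : Matrix (Fin n) (Fin n) F) - 1) ^ (n - 1) ≠ 0 := by
  have e : ((uS n F : SpecialLinearGroup (Fin n) F) : Matrix (Fin n) (Fin n) F) - 1 = -Nm n F := by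
    show (1 - Nm n F) - 1 = -Nm n F
    abel
  rw [e]
  constructor
  · refine ⟨n, ?_⟩
    rw [neg_pow, Nm_pow_self, mul_zero]
  · intro h
    rw [neg_pow] at h
    have h2 : ((-1 : Matrix (Fin n) (Fin n) F) ^ (n - 1)) * ((-1) ^ (n - 1) * Nm n F ^ (n - 1)) = 0 := by
      rw [h, mul_zero]
    rw [← mul_assoc, ← pow_add, Even.neg_one_pow ⟨n - 1, rfl⟩, one_mul] at h2
    exact Nm_pow_pred_ne hn h2

theorem toGL_injective : Function.Injective
    (SpecialLinearGroup.toGL : SpecialLinearGroup (Fin n) F → GL (Fin n) F) := by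
  intro A B h
  apply Subtype.ext
  have := congrArg (fun g : GL (Fin n) F => (g : Matrix (Fin n) (Fin n) F)) h
  exact this

theorem main [Fintype F] (hn : 3 ≤ n) :
    ∃ u g h : SpecialLinearGroup (Fin n) F,
      (IsNilpotent ((u : Matrix (Fin n) (Fin n) F) - 1) ∧
        ((u : Matrix (Fin n) (Fin n) F) - 1) ^ (n - 1) ≠ 0) ∧
      Subgroup.closure ({u, g * u * g⁻¹, h * u * h⁻¹} : Set (SpecialLinearGroup (Fin n) F)) = ⊤ := by
  classical
  have h0n : 0 < n := by omega
  -- a generator of the multiplicative group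
  obtain ⟨γ, hγ⟩ := IsCyclic.exists_monoid_generator (α := Fˣ)
  set c : F := (γ : F) with hcdef
  have hc : ∀ x : F, x ≠ 0 → ∃ k : ℕ, 1 ≤ k ∧ c ^ k = x := by
    intro x hx
    obtain ⟨k, hk⟩ := hγ (Units.mk0 x hx)
    have hk' : c ^ k = x := by
      have := congrArg (fun y : Fˣ => (y : F)) hk
      simpa using this
    by_cases hk0 : k = 0
    · subst hk0
      refine ⟨orderOf γ, orderOf_pos γ, ?_⟩
      rw [pow_zero] at hk'
      rw [← hk', hcdef, ← Units.val_pow_eq_pow_val, pow_orderOf_eq_one, Units.val_one]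
    · exact ⟨k, by omega, hk'⟩
  have hg0 : ((-c) • E n F (n - 2)) ⬝ᵥ E n F 0 = 0 := by
    rw [smul_dotProduct, E_dot_E_zero h0n (by omega), smul_zero]
  have hp0 : E n F 0 ⬝ᵥ E n F (n - 1) = 0 := by
    rw [E_dot_E h0n, if_neg (by omega)]
  have hT0 : (c • E n F (n - 1)) ⬝ᵥ E n F 0 = 0 := by
    rw [smul_dotProduct, E_dot_E_zero h0n (by omega), smul_zero]
  set u := uS n F with hu
  set g := tS (E n F 0) ((-c) • E n F (n - 2)) hg0 with hg
  set p := tS (E n F (n - 1)) (E n F 0) hp0 with hp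
  set T := tS (E n F 0) (c • E n F (n - 1)) hT0 with hT
  refine ⟨u, g, p, uS_regular (by omega), ?_⟩
  set G0 := Subgroup.closure ({u, g * u * g⁻¹, p * u * p⁻¹} : Set (SpecialLinearGroup (Fin n) F))
    with hG0
  have m1 : u ∈ G0 := Subgroup.subset_closure (by simp)
  have m2 : g * u * g⁻¹ ∈ G0 := Subgroup.subset_closure (by simp)
  have m3 : p * u * p⁻¹ ∈ G0 := Subgroup.subset_closure (by simp)
  -- the transvection
  have key : g * u = u * T * g := by
    apply Subtype.ext
    show tvMat ((-c) • E n F (n - 2)) (E n F 0) * (1 - Nm n F) =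
      (1 - Nm n F) * tvMat (c • E n F (n - 1)) (E n F 0) * tvMat ((-c) • E n F (n - 2)) (E n F 0)
    exact conj_identity hn c
  have m4 : T ∈ G0 := by
    have e : T = u⁻¹ * (g * u * g⁻¹) := by
      rw [key]
      group
    rw [e]
    exact G0.mul_mem (G0.inv_mem m1) m2
  set H : Subgroup (GL (Fin n) F) := G0.map SpecialLinearGroup.toGL with hH
  have hle : Cfsg.Geo.specialLinear (Fin n) F ≤ H := by
    apply main_GL hn H (SpecialLinearGroup.toGL u) (SpecialLinearGroup.toGL (p * u * p⁻¹)) rfl ?_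
      (Subgroup.mem_map_of_mem _ m1) (Subgroup.mem_map_of_mem _ m3) c hc
    · exact ⟨SpecialLinearGroup.toGL T, Subgroup.mem_map_of_mem _ m4, rfl⟩
    · show ((p * u * p⁻¹ : SpecialLinearGroup (Fin n) F) : Matrix (Fin n) (Fin n) F) = vM n F
      show (p.1 * u.1 * (p⁻¹ : SpecialLinearGroup (Fin n) F).1) = vM n F
      rw [hp, tS_inv_val]
      rfl
  rw [eq_top_iff]
  intro A _
  have hA : SpecialLinearGroup.toGL A ∈ Cfsg.Geo.specialLinear (Fin n) F := by
    rw [mem_specialLinear_iff]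
    exact A.2
  obtain ⟨B, hB, hBA⟩ := hle hA
  have : B = A := toGL_injective hBA
  rw [← this]
  exact hB

end Cfsg.Agent.Lib.Helper1.Rg
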