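import Mathlib
import Cfsg.Prelude
import Cfsg.Agent.Lib.Helper5.HermSimple
import Cfsg.Agent.Lib.Helper5.SUReg.Herm

set_option autoImplicit false
set_option maxHeartbeats 4000000
set_option linter.unusedVariables false
set_option linter.unusedSectionVars false
set_option linter.style.longLine false
set_option linter.unusedSimpArgs false
set_option linter.deprecated false

/-! Generation of `SU_n(q)`, `n` odd, by three conjugate regular unipotent elements, part 1:
the action on vectors and the elements `rhoS a b c` of the unipotent radical of the stabiliser of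
an isotropic vector `a`. -/

namespace Cfsg.Agent.Lib.Helper1.Rh

open Matrix Cfsg Cfsg.Agent.Lib.Helper5.Herm Cfsg.Agent.Lib.Helper5.HermTv
  Cfsg.Agent.Lib.Helper5.HermEich Cfsg.Agent.Lib.Helper5.HermSU

variable {F : Type*} [Field F] [Fintype F] {q : ℕ} {n : ℕ}

/-- action of an element of `SU` on vectors -/
def act (g : ↥(Cfsg.SU n F q)) (x : Fin n → F) : Fin n → F := g.1.1 *ᵥ x

theorem act_def (g : ↥(Cfsg.SU n F q)) (x : Fin n → F) : act g x = g.1.1 *ᵥ x := rfl

@[simp] theorem act_one (x : Fin n → F) : act (1 : ↥(Cfsg.SU n F q)) x = x := by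
  show (1 : Matrix _ _ F) *ᵥ x = x
  rw [one_mulVec]

theorem act_mul (g h : ↥(Cfsg.SU n F q)) (x : Fin n → F) : act (g * h) x = act g (act h x) := by
  show (g.1.1 * h.1.1) *ᵥ x = g.1.1 *ᵥ (h.1.1 *ᵥ x)
  rw [mulVec_mulVec]

@[simp] theorem act_inv_act (g : ↥(Cfsg.SU n F q)) (x : Fin n → F) : act g⁻¹ (act g x) = x := by
  rw [← act_mul, inv_mul_cancel, act_one]

@[simp] theorem act_act_inv (g : ↥(Cfsg.SU n F q)) (x : Fin n → F) : act g (act g⁻¹ x) = x := by
  rw [← act_mul, mul_inv_cancel, act_one]

theorem act_add (g : ↥(Cfsg.SU n F q)) (x y : Fin n → F) : act g (x + y) = act g x + act g y :=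
  mulVec_add _ _ _

theorem act_sub (g : ↥(Cfsg.SU n F q)) (x y : Fin n → F) : act g (x - y) = act g x - act g y :=
  mulVec_sub _ _ _

theorem act_neg (g : ↥(Cfsg.SU n F q)) (x : Fin n → F) : act g (-x) = -act g x :=
  mulVec_neg _ _

theorem act_smul (g : ↥(Cfsg.SU n F q)) (c : F) (x : Fin n → F) : act g (c • x) = c • act g x :=
  mulVec_smul _ _ _

@[simp] theorem act_zero (g : ↥(Cfsg.SU n F q)) : act g (0 : Fin n → F) = 0 := mulVec_zero _

theorem act_eq_iff (g : ↥(Cfsg.SU n F q)) (x y : Fin n → F) : act g x = y ↔ x = act g⁻¹ y := by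
  constructor
  · rintro rfl; rw [act_inv_act]
  · rintro rfl; rw [act_act_inv]

theorem act_inv_eq_iff (g : ↥(Cfsg.SU n F q)) (x y : Fin n → F) :
    act g⁻¹ x = y ↔ x = act g y := by
  constructor
  · rintro rfl; rw [act_act_inv]
  · rintro rfl; rw [act_inv_act]

theorem form_act (g : ↥(Cfsg.SU n F q)) (x y : Fin n → F) :
    hermForm n F q (act g x) (act g y) = hermForm n F q x y := g.2 x y

theorem form_act_left (g : ↥(Cfsg.SU n F q)) (x y : Fin n → F) :
    hermForm n F q (act g x) y = hermForm n F q x (act g⁻¹ y) := by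
  rw [← form_act g⁻¹, act_inv_act]

theorem form_act_right (g : ↥(Cfsg.SU n F q)) (x y : Fin n → F) :
    hermForm n F q x (act g y) = hermForm n F q (act g⁻¹ x) y := by
  rw [← form_act g⁻¹, act_inv_act]

theorem ext_act {g h : ↥(Cfsg.SU n F q)} (H : ∀ x, act g x = act h x) : g = h := by
  apply Subtype.ext
  apply Subtype.ext
  rw [Matrix.ext_iff_mulVec]
  exact H

/-! ### the form -/

theorem form_neg_left (x y : Fin n → F) :
    hermForm n F q (-x) y = - hermForm n F q x y := hermForm_neg_left n x y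

theorem form_neg_right (hF : Fintype.card F = q ^ 2) (x y : Fin n → F) :
    hermForm n F q x (-y) = - hermForm n F q x y := hermForm_neg_right hF n x y

theorem form_sub_left (x y z : Fin n → F) :
    hermForm n F q (x - y) z = hermForm n F q x z - hermForm n F q y z := by
  rw [sub_eq_add_neg, hermForm_add_left, form_neg_left, ← sub_eq_add_neg]

theorem form_sub_right (hF : Fintype.card F = q ^ 2) (x y z : Fin n → F) :
    hermForm n F q x (y - z) = hermForm n F q x y - hermForm n F q x z := by
  rw [sub_eq_add_neg, hermForm_add_right hF, form_neg_right hF, ← sub_eq_add_neg]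

theorem form_symm_zero (hF : Fintype.card F = q ^ 2) {x y : Fin n → F}
    (h : hermForm n F q x y = 0) : hermForm n F q y x = 0 := herm_symm_zero hF n h

theorem form_conj (hF : Fintype.card F = q ^ 2) (x y : Fin n → F) :
    (hermForm n F q x y) ^ q = hermForm n F q y x := hermForm_conj hF n x y

/-! ### the parameter conditions -/

theorem ehyp_zero {a : Fin n → F} (ha : hermForm n F q a a = 0) {t : F} (ht : t + t ^ q = 0) :
    EHyp n q a 0 t :=
  ⟨ha, hermForm_zero_left n q a, by rw [hermForm_zero_left, add_zero]; exact ht⟩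

theorem ehyp_add (hF : Fintype.card F = q ^ 2) {a b b' : Fin n → F} {c c' : F}
    (H : EHyp n q a b c) (H' : EHyp n q a b' c') :
    EHyp n q a (b + b') (c + c' - hermForm n F q b' b) where
  hx := H.hx
  hwx := by rw [hermForm_add_left, H.hwx, H'.hwx, add_zero]
  hb := by
    have h1 := H.hb
    have h2 := H'.hb
    rw [pow_q_sub hF, pow_q_add hF, form_conj hF]
    simp only [hermForm_add_left, hermForm_add_right hF]
    linear_combination h1 + h2

theorem ehyp_act (g : ↥(Cfsg.SU n F q)) {a b : Fin n → F} {c : F} (H : EHyp n q a b c) :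
    EHyp n q (act g a) (act g b) c :=
  ⟨by rw [form_act]; exact H.hx, by rw [form_act]; exact H.hwx, by rw [form_act]; exact H.hb⟩

theorem ehyp_of_act (g : ↥(Cfsg.SU n F q)) {a b : Fin n → F} {c : F}
    (H : EHyp n q (act g a) (act g b) c) : EHyp n q a b c := by
  have := ehyp_act g⁻¹ H
  rwa [act_inv_act, act_inv_act] at this

theorem ehyp_of_neg (hF : Fintype.card F = q ^ 2) {a b : Fin n → F} {c : F}
    (H : EHyp n q a (-b) (c ^ q)) : EHyp n q a b c := by
  have := H.inv hF n
  rwa [neg_neg, pow_q_pow_q hF] at this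

theorem ehyp_smul_left (hF : Fintype.card F = q ^ 2) {a b : Fin n → F} {c : F}
    (H : EHyp n q a b c) (l : F) : EHyp n q (l • a) b c :=
  ⟨by rw [hermForm_smul_left, hermForm_smul_right, H.hx, mul_zero, mul_zero],
    by rw [hermForm_smul_right, H.hwx, mul_zero], H.hb⟩

theorem ehyp_smul_right (hF : Fintype.card F = q ^ 2) {a b : Fin n → F} {c : F}
    (H : EHyp n q a b c) (l : F) : EHyp n q a (l ^ q • b) (l ^ (q + 1) * c) where
  hx := H.hx
  hwx := by rw [hermForm_smul_left, H.hwx, mul_zero]
  hb := by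
    have h1 := H.hb
    rw [pow_succ, hermForm_smul_left, hermForm_smul_right, mul_pow, mul_pow, pow_q_pow_q hF]
    linear_combination (l ^ q * l) * h1

theorem ehyp_add_smul (hF : Fintype.card F = q ^ 2) {a b : Fin n → F} {c : F}
    (H : EHyp n q a b c) (μ : F) : EHyp n q a (b + μ • a) (c - μ + μ ^ q) where
  hx := H.hx
  hwx := by rw [hermForm_add_left, hermForm_smul_left, H.hwx, H.hx, mul_zero, add_zero]
  hb := by
    have h1 := H.hb
    rw [pow_q_add hF, pow_q_sub hF, pow_q_pow_q hF]
    simp only [hermForm_add_left, hermForm_add_right hF, hermForm_smul_left, hermForm_smul_right,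
      H.hx, H.hwx, H.hxw hF]
    linear_combination h1

/-! ### the elements -/

open scoped Classical in
/-- the element `x ↦ x + h(x,a) b + (c h(x,a) - h(x,b)) a` of `SU` (or `1` if the parameters do
not satisfy the conditions) -/
noncomputable def rhoS (hF : Fintype.card F = q ^ 2) (a b : Fin n → F) (c : F) :
    ↥(Cfsg.SU n F q) :=
  if H : EHyp n q a b c then
    ⟨⟨eichMat n q a b c, det_eichMat n a b c H.hx H.hwx (H.hxw hF)⟩,
      fun u v => (eich hF n a b c H).2 u v⟩
  else 1

theorem rhoS_coe (hF : Fintype.card F = q ^ 2) {a b : Fin n → F} {c : F} (H : EHyp n q a b c) :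
    (rhoS hF a b c).1.1 = eichMat n q a b c := by
  unfold rhoS
  rw [dif_pos H]

theorem rhoS_of_not (hF : Fintype.card F = q ^ 2) {a b : Fin n → F} {c : F}
    (H : ¬ EHyp n q a b c) : rhoS hF a b c = 1 := by
  unfold rhoS
  rw [dif_neg H]

theorem act_rhoS (hF : Fintype.card F = q ^ 2) {a b : Fin n → F} {c : F} (H : EHyp n q a b c)
    (x : Fin n → F) :
    act (rhoS hF a b c) x = x + hermForm n F q x a • b
      + (c * hermForm n F q x a - hermForm n F q x b) • a := by
  rw [act_def, rhoS_coe hF H]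
  exact eichMat_mulVec n a b c H.hx x

theorem rhoS_congr (hF : Fintype.card F = q ^ 2) {a a' b b' : Fin n → F} {c c' : F}
    (ha : a = a') (hb : b = b') (hc : c = c') : rhoS hF a b c = rhoS hF a' b' c' := by
  rw [ha, hb, hc]

theorem rhoS_mul (hF : Fintype.card F = q ^ 2) {a b b' : Fin n → F} {c c' : F}
    (H : EHyp n q a b c) (H' : EHyp n q a b' c') :
    rhoS hF a b c * rhoS hF a b' c' = rhoS hF a (b + b') (c + c' - hermForm n F q b' b) := by
  apply ext_act
  intro x
  rw [act_mul, act_rhoS hF H', act_rhoS hF H, act_rhoS hF (ehyp_add hF H H')]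
  simp only [hermForm_add_left, hermForm_add_right hF, hermForm_smul_left, H.hx, H.hwx, H.hxw hF,
    H'.hwx, H'.hxw hF]
  module

theorem conj_rhoS (hF : Fintype.card F = q ^ 2) (g : ↥(Cfsg.SU n F q)) (a b : Fin n → F)
    (c : F) : g * rhoS hF a b c * g⁻¹ = rhoS hF (act g a) (act g b) c := by
  by_cases H : EHyp n q a b c
  · apply ext_act
    intro x
    rw [act_mul, act_mul, act_rhoS hF H, act_rhoS hF (ehyp_act g H)]
    rw [form_act_right g x a, form_act_right g x b]
    simp only [act_add, act_smul, act_act_inv]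
  · have H' : ¬ EHyp n q (act g a) (act g b) c := fun h => H (ehyp_of_act g h)
    rw [rhoS_of_not hF H, rhoS_of_not hF H', mul_one, mul_inv_cancel]

theorem conj_inv_rhoS (hF : Fintype.card F = q ^ 2) (g : ↥(Cfsg.SU n F q)) (a b : Fin n → F)
    (c : F) : g⁻¹ * rhoS hF a b c * g = rhoS hF (act g⁻¹ a) (act g⁻¹ b) c := by
  have := conj_rhoS hF g⁻¹ a b c
  rwa [inv_inv] at this

theorem rhoS_zero_zero (hF : Fintype.card F = q ^ 2) (a : Fin n → F) :
    rhoS hF a 0 0 = 1 := by
  by_cases H : EHyp n q a 0 (0 : F)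
  · apply ext_act
    intro x
    rw [act_rhoS hF H, act_one, hermForm_zero_right hF]
    simp
  · exact rhoS_of_not hF H

theorem rhoS_inv (hF : Fintype.card F = q ^ 2) (a b : Fin n → F) (c : F) :
    (rhoS hF a b c)⁻¹ = rhoS hF a (-b) (c ^ q) := by
  by_cases H : EHyp n q a b c
  · have H' := H.inv hF n
    rw [inv_eq_iff_mul_eq_one, rhoS_mul hF H H']
    have h1 : b + -b = 0 := add_neg_cancel b
    have h2 : c + c ^ q - hermForm n F q (-b) b = 0 := by
      rw [form_neg_left]; linear_combination H.hb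
    rw [h1, h2, rhoS_zero_zero]
  · have H' : ¬ EHyp n q a (-b) (c ^ q) := fun h => H (ehyp_of_neg hF h)
    rw [rhoS_of_not hF H, rhoS_of_not hF H', inv_one]

theorem rhoS_add_smul (hF : Fintype.card F = q ^ 2) {a b : Fin n → F} {c : F}
    (H : EHyp n q a b c) (μ : F) : rhoS hF a (b + μ • a) (c - μ + μ ^ q) = rhoS hF a b c := by
  apply ext_act
  intro x
  rw [act_rhoS hF (ehyp_add_smul hF H μ), act_rhoS hF H]
  simp only [hermForm_add_right hF, hermForm_smul_right]
  module

theorem rhoS_smul_left (hF : Fintype.card F = q ^ 2) {a b : Fin n → F} {c : F}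
    (H : EHyp n q a b c) (l : F) :
    rhoS hF (l • a) b c = rhoS hF a (l ^ q • b) (l ^ (q + 1) * c) := by
  apply ext_act
  intro x
  rw [act_rhoS hF (ehyp_smul_left hF H l), act_rhoS hF (ehyp_smul_right hF H l)]
  simp only [hermForm_smul_right, pow_q_pow_q hF, pow_succ]
  module

/-- the unitary transvections -/
theorem rhoS_zero_coe (hF : Fintype.card F = q ^ 2) {a : Fin n → F} {t : F}
    (H : EHyp n q a 0 t) : (rhoS hF a 0 t).1.1 = unitaryTransvection n q a t := by
  rw [Matrix.ext_iff_mulVec]
  intro x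
  have := act_rhoS hF H x
  rw [act_def] at this
  rw [this, unitaryTransvection_mulVec, hermForm_zero_right hF]
  simp

theorem rhoS_zero_vec (hF : Fintype.card F = q ^ 2) (b : Fin n → F) (c : F) :
    rhoS hF (0 : Fin n → F) b c = 1 := by
  by_cases H : EHyp n q (0 : Fin n → F) b c
  · apply ext_act
    intro x
    rw [act_rhoS hF H, act_one, hermForm_zero_right hF]
    simp
  · exact rhoS_of_not hF H

theorem rhoS_mul_tv (hF : Fintype.card F = q ^ 2) {a b : Fin n → F} {c t : F}
    (H : EHyp n q a b c) (ht : t + t ^ q = 0) :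
    rhoS hF a b c * rhoS hF a 0 t = rhoS hF a b (c + t) := by
  rw [rhoS_mul hF H (ehyp_zero H.hx ht), add_zero, hermForm_zero_left, sub_zero]

theorem tv_mul_rhoS (hF : Fintype.card F = q ^ 2) {a b : Fin n → F} {c t : F}
    (H : EHyp n q a b c) (ht : t + t ^ q = 0) :
    rhoS hF a 0 t * rhoS hF a b c = rhoS hF a b (t + c) := by
  rw [rhoS_mul hF (ehyp_zero H.hx ht) H, zero_add, hermForm_zero_right hF, sub_zero]

/-- the commutation relation in the radical -/
theorem rhoS_comm (hF : Fintype.card F = q ^ 2) {a b b' : Fin n → F} {c c' : F}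
    (H : EHyp n q a b c) (H' : EHyp n q a b' c') :
    rhoS hF a b c * rhoS hF a b' c' =
      rhoS hF a 0 (hermForm n F q b b' - hermForm n F q b' b)
        * (rhoS hF a b' c' * rhoS hF a b c) := by
  have ht : (hermForm n F q b b' - hermForm n F q b' b)
      + (hermForm n F q b b' - hermForm n F q b' b) ^ q = 0 := by
    rw [pow_q_sub hF, form_conj hF, form_conj hF]; ring
  rw [rhoS_mul hF H H', rhoS_mul hF H' H, tv_mul_rhoS hF (ehyp_add hF H' H) ht]
  apply rhoS_congr hF rfl (add_comm _ _)
  ring

/-- `T(b - a, t) = T(b, t) ρ_a(-t b, t)` for orthogonal isotropic `a`, `b` -/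
theorem tv_sub_eq (hF : Fintype.card F = q ^ 2) {a b : Fin n → F}
    (ha : hermForm n F q a a = 0) (hb : hermForm n F q b b = 0) (hab : hermForm n F q a b = 0)
    {t : F} (ht : t + t ^ q = 0) :
    rhoS hF (b - a) 0 t = rhoS hF b 0 t * rhoS hF a (-(t • b)) t := by
  have hba := form_symm_zero hF hab
  have htq : t ^ q = -t := by linear_combination ht
  have H1 : EHyp n q (b - a) 0 t := ehyp_zero (by
    simp only [form_sub_left, form_sub_right hF, ha, hb, hab, hba]; ring) ht
  have H2 : EHyp n q b 0 t := ehyp_zero hb ht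
  have H3 : EHyp n q a (-(t • b)) t := ⟨ha, by
    rw [form_neg_left, hermForm_smul_left, hba, mul_zero, neg_zero], by
    rw [form_neg_left, form_neg_right hF, hermForm_smul_left, hermForm_smul_right, hb]
    linear_combination ht⟩
  apply ext_act
  intro x
  rw [act_mul, act_rhoS hF H3, act_rhoS hF H2, act_rhoS hF H1]
  simp only [hermForm_add_left, form_sub_right hF, hermForm_smul_left, hermForm_smul_right,
    form_neg_right hF, form_neg_left, hermForm_zero_right hF, ha, hb, hab, hba, htq]
  module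

/-! ### moving vectors with the radical -/

theorem exists_rho_move (hF : Fintype.card F = q ^ 2) {a x x' : Fin n → F}
    (ha : hermForm n F q a a = 0) (hx : hermForm n F q x x = 0) (hx' : hermForm n F q x' x' = 0)
    (hxa : hermForm n F q x a ≠ 0) (hxx : hermForm n F q x a = hermForm n F q x' a) :
    ∃ b c, EHyp n q a b c ∧ act (rhoS hF a b c) x = x' := by
  set β₀ := hermForm n F q x a with hβ₀
  have hβq : β₀ ^ q ≠ 0 := pow_ne_zero _ hxa
  have hax : hermForm n F q a x = β₀ ^ q := by rw [hβ₀, form_conj hF]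
  have hax' : hermForm n F q a x' = β₀ ^ q := by rw [hxx, form_conj hF]
  set b := β₀⁻¹ • (x' - x) with hb
  set c := hermForm n F q x x' / (β₀ * β₀ ^ q) with hc
  have hxx'c : (hermForm n F q x x') ^ q = hermForm n F q x' x := form_conj hF _ _
  have H : EHyp n q a b c := by
    refine ⟨ha, ?_, ?_⟩
    · rw [hb, hermForm_smul_left, form_sub_left, ← hxx, sub_self, mul_zero]
    · rw [hb, hc, hermForm_smul_left, hermForm_smul_right]
      simp only [form_sub_left, form_sub_right hF, hx, hx']
      rw [div_pow, mul_pow, pow_q_pow_q hF, hxx'c, inv_pow]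
      field_simp
      ring
  refine ⟨b, c, H, ?_⟩
  rw [act_rhoS hF H]
  have e1 : β₀ • b = x' - x := by
    rw [hb, smul_smul, mul_inv_cancel₀ hxa, one_smul]
  have e2 : c * β₀ - hermForm n F q x b = 0 := by
    rw [hb, hc, hermForm_smul_right, form_sub_right hF, hx, sub_zero, inv_pow]
    field_simp
    ring
  rw [e1, e2]
  module

end Cfsg.Agent.Lib.Helper1.Rh
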