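import Mathlib
import Cfsg.Prelude
import Cfsg.Agent.Lib.Helper1.Rh1

set_option autoImplicit false
set_option maxHeartbeats 4000000
set_option linter.unusedVariables false
set_option linter.unusedSectionVars false
set_option linter.style.longLine false
set_option linter.unusedSimpArgs false
set_option linter.deprecated false

/-! Generation of `SU_n(q)`, `n` odd, by three conjugate regular unipotent elements, part 2:
Witt bases of the standard hermitian space of odd dimension. -/

namespace Cfsg.Agent.Lib.Helper1.Rh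

open Matrix Cfsg Cfsg.Agent.Lib.Helper5.Herm Cfsg.Agent.Lib.Helper5.HermTv
  Cfsg.Agent.Lib.Helper5.HermEich Cfsg.Agent.Lib.Helper5.HermSU

/-- the involution of `{0, …, 2m}` exchanging `k` and `m + 1 + k` and fixing `m` -/
def tau (m j : ℕ) : ℕ := if j < m then m + 1 + j else if j = m then m else j - (m + 1)

theorem tau_lt {m j : ℕ} (hj : j < 2 * m + 1) : tau m j < 2 * m + 1 := by
  unfold tau; split_ifs <;> omega

theorem tau_tau {m j : ℕ} (hj : j < 2 * m + 1) : tau m (tau m j) = j := by
  unfold tau; split_ifs <;> omega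

theorem tau_of_lt {m j : ℕ} (hj : j < m) : tau m j = m + 1 + j := by
  unfold tau; rw [if_pos hj]

theorem tau_self (m : ℕ) : tau m m = m := by
  unfold tau; simp

theorem tau_add (m k : ℕ) : tau m (m + 1 + k) = k := by
  unfold tau; split_ifs <;> omega

/-- a Witt basis `e_0, …, e_{m-1}, w, f_0, …, f_{m-1}` of the hermitian space `F^n`,
`n = 2m+1`, stored as `col 0, …, col (2m)` -/
structure Witt (F : Type*) [Field F] [Fintype F] (q n m : ℕ) where
  hF : Fintype.card F = q ^ 2
  hn : n = 2 * m + 1
  col : ℕ → Fin n → F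
  gram : ∀ i j, i < n → j < n → hermForm n F q (col i) (col j) = if j = tau m i then 1 else 0
  decomp : ∀ x : Fin n → F, x = ∑ j : Fin n, hermForm n F q x (col (tau m j.val)) • col j.val

variable {F : Type*} [Field F] [Fintype F] {q n m : ℕ}

namespace Witt

variable (W : Witt F q n m)

/-- the isotropic vectors `e_k` (zero for `k ≥ m`) -/
def e (k : ℕ) : Fin n → F := if k < m then W.col k else 0

/-- the isotropic vectors `f_k` (zero for `k ≥ m`) -/
def f (k : ℕ) : Fin n → F := if k < m then W.col (m + 1 + k) else 0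

/-- the anisotropic vector -/
def w : Fin n → F := W.col m

theorem e_of_lt {k : ℕ} (hk : k < m) : W.e k = W.col k := by unfold e; rw [if_pos hk]
theorem f_of_lt {k : ℕ} (hk : k < m) : W.f k = W.col (m + 1 + k) := by unfold f; rw [if_pos hk]
theorem e_of_ge {k : ℕ} (hk : m ≤ k) : W.e k = 0 := by unfold e; rw [if_neg (by omega)]
theorem f_of_ge {k : ℕ} (hk : m ≤ k) : W.f k = 0 := by unfold f; rw [if_neg (by omega)]

@[simp] theorem form_ee (i j : ℕ) : hermForm n F q (W.e i) (W.e j) = 0 := by
  have hn := W.hn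
  by_cases hi : i < m
  · by_cases hj : j < m
    · rw [W.e_of_lt hi, W.e_of_lt hj, W.gram i j (by omega) (by omega), tau_of_lt hi,
        if_neg (by omega)]
    · rw [W.e_of_ge (k := j) (by omega), hermForm_zero_right W.hF]
  · rw [W.e_of_ge (k := i) (by omega), hermForm_zero_left]

@[simp] theorem form_ff (i j : ℕ) : hermForm n F q (W.f i) (W.f j) = 0 := by
  have hn := W.hn
  by_cases hi : i < m
  · by_cases hj : j < m
    · rw [W.f_of_lt hi, W.f_of_lt hj, W.gram _ _ (by omega) (by omega), tau_add,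
        if_neg (by omega)]
    · rw [W.f_of_ge (k := j) (by omega), hermForm_zero_right W.hF]
  · rw [W.f_of_ge (k := i) (by omega), hermForm_zero_left]

theorem form_ef (i j : ℕ) :
    hermForm n F q (W.e i) (W.f j) = if i = j ∧ i < m then 1 else 0 := by
  have hn := W.hn
  by_cases hi : i < m
  · by_cases hj : j < m
    · rw [W.e_of_lt hi, W.f_of_lt hj, W.gram _ _ (by omega) (by omega), tau_of_lt hi]
      by_cases hij : i = j
      · rw [if_pos (by omega), if_pos ⟨hij, hi⟩]
      · rw [if_neg (by omega), if_neg (fun h => hij h.1)]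
    · rw [W.f_of_ge (k := j) (by omega), hermForm_zero_right W.hF, if_neg (by omega)]
  · rw [W.e_of_ge (k := i) (by omega), hermForm_zero_left, if_neg (by omega)]

theorem form_fe (i j : ℕ) :
    hermForm n F q (W.f i) (W.e j) = if i = j ∧ i < m then 1 else 0 := by
  have hn := W.hn
  by_cases hi : i < m
  · by_cases hj : j < m
    · rw [W.f_of_lt hi, W.e_of_lt hj, W.gram _ _ (by omega) (by omega), tau_add]
      by_cases hij : i = j
      · rw [if_pos (by omega), if_pos ⟨hij, hi⟩]
      · rw [if_neg (by omega), if_neg (fun h => hij h.1)]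
    · rw [W.e_of_ge (k := j) (by omega), hermForm_zero_right W.hF, if_neg (by omega)]
  · rw [W.f_of_ge (k := i) (by omega), hermForm_zero_left, if_neg (by omega)]

theorem form_ef_self {i : ℕ} (hi : i < m) : hermForm n F q (W.e i) (W.f i) = 1 := by
  rw [form_ef, if_pos ⟨rfl, hi⟩]

theorem form_fe_self {i : ℕ} (hi : i < m) : hermForm n F q (W.f i) (W.e i) = 1 := by
  rw [form_fe, if_pos ⟨rfl, hi⟩]

theorem form_ef_ne {i j : ℕ} (hij : i ≠ j) : hermForm n F q (W.e i) (W.f j) = 0 := by
  rw [form_ef, if_neg (fun h => hij h.1)]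

theorem form_fe_ne {i j : ℕ} (hij : i ≠ j) : hermForm n F q (W.f i) (W.e j) = 0 := by
  rw [form_fe, if_neg (fun h => hij h.1)]

@[simp] theorem form_ew (i : ℕ) : hermForm n F q (W.e i) W.w = 0 := by
  have hn := W.hn
  by_cases hi : i < m
  · rw [W.e_of_lt hi, w, W.gram _ _ (by omega) (by omega), tau_of_lt hi, if_neg (by omega)]
  · rw [W.e_of_ge (by omega), hermForm_zero_left]

@[simp] theorem form_we (i : ℕ) : hermForm n F q W.w (W.e i) = 0 :=
  form_symm_zero W.hF (W.form_ew i)

@[simp] theorem form_fw (i : ℕ) : hermForm n F q (W.f i) W.w = 0 := by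
  have hn := W.hn
  by_cases hi : i < m
  · rw [W.f_of_lt hi, w, W.gram _ _ (by omega) (by omega), tau_add, if_neg (by omega)]
  · rw [W.f_of_ge (by omega), hermForm_zero_left]

@[simp] theorem form_wf (i : ℕ) : hermForm n F q W.w (W.f i) = 0 :=
  form_symm_zero W.hF (W.form_fw i)

@[simp] theorem form_ww : hermForm n F q W.w W.w = 1 := by
  have hn := W.hn
  rw [w, W.gram _ _ (by omega) (by omega), tau_self, if_pos rfl]

theorem col_cases (j : ℕ) (hj : j < n) :
    (j < m ∧ W.col j = W.e j) ∨ (j = m ∧ W.col j = W.w) ∨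
      (∃ k, k < m ∧ j = m + 1 + k ∧ W.col j = W.f k) := by
  have hn := W.hn
  rcases Nat.lt_trichotomy j m with h | h | h
  · exact Or.inl ⟨h, (W.e_of_lt h).symm⟩
  · exact Or.inr (Or.inl ⟨h, by rw [h]; rfl⟩)
  · refine Or.inr (Or.inr ⟨j - (m + 1), by omega, by omega, ?_⟩)
    rw [W.f_of_lt (by omega)]
    congr 1
    omega

/-- two matrices which agree on the basis are equal -/
theorem ext_mat {A B : Matrix (Fin n) (Fin n) F}
    (he : ∀ k, k < m → A *ᵥ W.e k = B *ᵥ W.e k) (hw : A *ᵥ W.w = B *ᵥ W.w)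
    (hf : ∀ k, k < m → A *ᵥ W.f k = B *ᵥ W.f k) : A = B := by
  have hcol : ∀ j : Fin n, A *ᵥ W.col j.val = B *ᵥ W.col j.val := by
    intro j
    rcases W.col_cases j.val j.2 with ⟨h1, h2⟩ | ⟨h1, h2⟩ | ⟨k, hk, h1, h2⟩
    · rw [h2]; exact he _ h1
    · rw [h2]; exact hw
    · rw [h2]; exact hf _ hk
  rw [Matrix.ext_iff_mulVec]
  intro x
  rw [W.decomp x]
  have hA : ∀ (M : Matrix (Fin n) (Fin n) F) (s : Fin n → F) ,
      M *ᵥ (∑ j : Fin n, s j • W.col j.val) = ∑ j : Fin n, s j • (M *ᵥ W.col j.val) := by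
    intro M s
    have := map_sum (Matrix.mulVecLin M) (fun j : Fin n => s j • W.col j.val) Finset.univ
    simp only [Matrix.mulVecLin_apply, mulVec_smul] at this
    exact this
  rw [hA, hA]
  exact Finset.sum_congr rfl fun j _ => by rw [hcol j]

theorem ext_act {g h : ↥(Cfsg.SU n F q)}
    (he : ∀ k, k < m → act g (W.e k) = act h (W.e k)) (hw : act g W.w = act h W.w)
    (hf : ∀ k, k < m → act g (W.f k) = act h (W.f k)) : g = h := by
  apply Subtype.ext
  apply Subtype.ext
  exact W.ext_mat he hw hf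

/-- a submodule containing all basis vectors other than `f_0` contains `e_0^⊥` -/
theorem mem_of_perp (hm : 0 < m) (S : Submodule F (Fin n → F)) (he : ∀ k, k < m → W.e k ∈ S)
    (hw : W.w ∈ S) (hf : ∀ k, 1 ≤ k → k < m → W.f k ∈ S) {x : Fin n → F}
    (hx : hermForm n F q x (W.e 0) = 0) : x ∈ S := by
  rw [W.decomp x]
  apply Submodule.sum_mem
  intro j _
  rcases W.col_cases j.val j.2 with ⟨h1, h2⟩ | ⟨h1, h2⟩ | ⟨k, hk, h1, h2⟩
  · rw [h2]; exact S.smul_mem _ (he _ h1)
  · rw [h2]; exact S.smul_mem _ hw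
  · rw [h2]
    rcases Nat.eq_zero_or_pos k with h0 | h0
    · have : tau m j.val = 0 := by rw [h1, tau_add, h0]
      rw [this, ← W.e_of_lt hm, hx, zero_smul]
      exact S.zero_mem
    · exact S.smul_mem _ (hf _ h0 hk)

/-- a submodule containing all basis vectors is everything -/
theorem mem_of_all (S : Submodule F (Fin n → F)) (he : ∀ k, k < m → W.e k ∈ S)
    (hw : W.w ∈ S) (hf : ∀ k, k < m → W.f k ∈ S) (x : Fin n → F) : x ∈ S := by
  rw [W.decomp x]
  apply Submodule.sum_mem
  intro j _
  rcases W.col_cases j.val j.2 with ⟨h1, h2⟩ | ⟨h1, h2⟩ | ⟨k, hk, h1, h2⟩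
  · rw [h2]; exact S.smul_mem _ (he _ h1)
  · rw [h2]; exact S.smul_mem _ hw
  · rw [h2]; exact S.smul_mem _ (hf _ hk)

theorem e_ne_zero {k : ℕ} (hk : k < m) : W.e k ≠ 0 := by
  intro h
  have := W.form_ef_self hk
  rw [h, hermForm_zero_left] at this
  exact zero_ne_one this

theorem f_ne_zero {k : ℕ} (hk : k < m) : W.f k ≠ 0 := by
  intro h
  have := W.form_fe_self hk
  rw [h, hermForm_zero_left] at this
  exact zero_ne_one this

end Witt

/-! ### existence -/

open Cfsg.Agent.Lib.Helper5 Cfsg.Agent.Lib.Helper5.SUReg in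
theorem exists_witt (hF : Fintype.card F = q ^ 2) (hn : n = 2 * m + 1) :
    Nonempty (Witt F q n m) := by
  classical
  have hσ2 : ∀ a : F, HermBridge.sigma hF (HermBridge.sigma hF a) = a := HermBridge.sigma_sigma hF
  have hσne : HermBridge.sigma hF ≠ RingHom.id F := HermBridge.sigma_ne_id hF
  -- the involution on `Fin n`
  have htl : ∀ j : Fin n, tau m j.val < n := fun j => by
    have h1 := j.2
    have h2 : j.val < 2 * m + 1 := by omega
    have h3 := tau_lt h2
    omega
  set tF : Fin n → Fin n := fun j => ⟨tau m j.val, htl j⟩ with htF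
  have htt : ∀ j : Fin n, tF (tF j) = j := by
    intro j
    apply Fin.ext
    show tau m (tau m j.val) = j.val
    have h1 := j.2
    have h2 : j.val < 2 * m + 1 := by omega
    exact tau_tau h2
  have hswap : ∀ i j : Fin n, i = tF j ↔ j = tF i := by
    intro i j
    constructor
    · rintro rfl; rw [htt]
    · rintro rfl; rw [htt]
  set Hm : Matrix (Fin n) (Fin n) F := Matrix.of fun i j => if j = tF i then 1 else 0 with hHm
  have hHH : Hm * Hm = 1 := by
    ext i k
    rw [Matrix.mul_apply, Matrix.one_apply]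
    simp only [hHm, Matrix.of_apply, ite_mul, one_mul, zero_mul, Finset.sum_ite_eq',
      Finset.mem_univ, if_true]
    rw [htt]
    by_cases hik : i = k
    · rw [if_pos hik.symm, if_pos hik]
    · rw [if_neg (fun h => hik h.symm), if_neg hik]
  have hadj : adj (HermBridge.sigma hF) Hm = Hm := by
    ext i j
    rw [adj_apply]
    simp only [hHm, Matrix.of_apply]
    by_cases h : i = tF j
    · rw [if_pos h, if_pos ((hswap i j).mp h), map_one]
    · rw [if_neg h, if_neg (fun h' => h ((hswap i j).mpr h')), map_zero]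
  obtain ⟨P, P', hP'P, hPH⟩ := exists_adj_mul_self (HermBridge.sigma hF) hσne hσ2 Hm Hm hadj hHH
  have hPP' : P * P' = 1 := mul_eq_one_comm.mp hP'P
  set colF : Fin n → Fin n → F := fun j k => P k j with hcolF
  set col : ℕ → Fin n → F := fun j => if hj : j < n then colF ⟨j, hj⟩ else 0 with hcol
  have hcolj : ∀ j : Fin n, col j.val = colF j := by
    intro j
    simp only [hcol]
    rw [dif_pos j.2]
  -- the Gram matrix
  have hgramF : ∀ i j : Fin n, hermForm n F q (colF i) (colF j) = if i = tF j then 1 else 0 := by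
    intro i j
    have h1 : (adj (HermBridge.sigma hF) P * P) j i = Hm j i := by rw [hPH]
    rw [Matrix.mul_apply] at h1
    simp only [adj_apply, HermBridge.sigma_apply] at h1
    rw [show Hm j i = if i = tF j then 1 else 0 from rfl] at h1
    rw [← h1]
    unfold hermForm
    exact Finset.sum_congr rfl fun k _ => mul_comm _ _
  refine ⟨⟨hF, hn, col, ?_, ?_⟩⟩
  · intro i j hi hj
    have h1 := hgramF ⟨i, hi⟩ ⟨j, hj⟩
    rw [← hcolj ⟨i, hi⟩, ← hcolj ⟨j, hj⟩] at h1
    rw [h1]
    have h2 : (⟨i, hi⟩ : Fin n) = tF ⟨j, hj⟩ ↔ j = tau m i := by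
      rw [hswap]
      constructor
      · intro h; exact congrArg Fin.val h
      · intro h; exact Fin.ext h
    by_cases h : j = tau m i
    · rw [if_pos h, if_pos (h2.mpr h)]
    · rw [if_neg h, if_neg (fun h' => h (h2.mp h'))]
  · intro x
    set a := P' *ᵥ x with ha
    have hx : x = P *ᵥ a := by rw [ha, mulVec_mulVec, hPP', one_mulVec]
    have hcoef : ∀ i : Fin n, hermForm n F q x (colF i) = a (tF i) := by
      intro i
      have h1 : hermForm n F q x (colF i) = (adj (HermBridge.sigma hF) P *ᵥ x) i := by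
        unfold hermForm
        rw [mulVec, dotProduct]
        exact Finset.sum_congr rfl fun k _ => by rw [adj_apply, HermBridge.sigma_apply, mul_comm]
      rw [h1, hx, mulVec_mulVec, hPH]
      rw [mulVec, dotProduct]
      simp only [hHm, Matrix.of_apply, ite_mul, one_mul, zero_mul, Finset.sum_ite_eq',
        Finset.mem_univ, if_true]
    have hcoef' : ∀ j : Fin n, hermForm n F q x (col (tau m j.val)) = a j := by
      intro j
      have := hcoef (tF j)
      rw [htt] at this
      rw [← this, ← hcolj (tF j)]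
    conv_lhs => rw [hx]
    ext k
    rw [mulVec, dotProduct, Finset.sum_apply]
    refine Finset.sum_congr rfl fun j _ => ?_
    rw [Pi.smul_apply, hcoef' j, hcolj j, smul_eq_mul, mul_comm]

end Cfsg.Agent.Lib.Helper1.Rh
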