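import Mathlib
import Cfsg.Prelude
import Cfsg.Agent.Lib.Helper1.Rh2

set_option autoImplicit false
set_option maxHeartbeats 4000000
set_option linter.unusedVariables false
set_option linter.unusedSectionVars false
set_option linter.style.longLine false
set_option linter.unusedSimpArgs false
set_option linter.deprecated false

/-! Generation of `SU_n(q)`, `n` odd, by three conjugate regular unipotent elements, part 3:
the regular unipotent element `uS` and the nilpotent operators `1 - uS`, `1 - uS⁻¹`. -/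

namespace Cfsg.Agent.Lib.Helper1.Rh

open Matrix Cfsg Cfsg.Agent.Lib.Helper5.Herm Cfsg.Agent.Lib.Helper5.HermTv
  Cfsg.Agent.Lib.Helper5.HermEich Cfsg.Agent.Lib.Helper5.HermSU

/-- a Witt basis with `m = l + 1 ≥ 1` and a scalar of trace `-1` -/
structure Setup (F : Type*) [Field F] [Fintype F] (q n m : ℕ) extends Witt F q n m where
  l : ℕ
  hl : l + 1 = m
  cu : F
  hcu : cu + cu ^ q + 1 = 0

variable {F : Type*} [Field F] [Fintype F] {q n m : ℕ}

namespace Setup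

variable (S : Setup F q n m)

theorem hq0 (S : Setup F q n m) : q ≠ 0 := q_ne_zero S.hF

theorem zero_pow_q (S : Setup F q n m) : (0 : F) ^ q = 0 := zero_pow S.hq0

/-- the elementary Levi element `e_{i+1} ↦ e_{i+1} + e_i`, `f_i ↦ f_i - f_{i+1}` -/
noncomputable def lv (i : ℕ) : ↥(Cfsg.SU n F q) := rhoS S.hF (S.e i) (-(S.f (i + 1))) 0

theorem ehyp_lv (i : ℕ) : EHyp n q (S.e i) (-(S.f (i + 1))) 0 :=
  ⟨S.form_ee i i, by rw [form_neg_left, S.form_fe_ne (by omega), neg_zero], by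
    rw [form_neg_left, form_neg_right S.hF, S.form_ff, S.zero_pow_q]; simp⟩

theorem ehyp_lv' (i : ℕ) : EHyp n q (S.e i) (S.f (i + 1)) 0 :=
  ⟨S.form_ee i i, by rw [S.form_fe_ne (by omega)], by
    rw [S.form_ff, S.zero_pow_q]; simp⟩

theorem act_lv (i : ℕ) (x : Fin n → F) :
    act (S.lv i) x = x - hermForm n F q x (S.e i) • S.f (i + 1)
      + hermForm n F q x (S.f (i + 1)) • S.e i := by
  rw [lv, act_rhoS S.hF (S.ehyp_lv i), form_neg_right S.hF]
  module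

theorem lv_inv (i : ℕ) : (S.lv i)⁻¹ = rhoS S.hF (S.e i) (S.f (i + 1)) 0 := by
  rw [lv, rhoS_inv, neg_neg, S.zero_pow_q]

theorem act_lv_inv (i : ℕ) (x : Fin n → F) :
    act (S.lv i)⁻¹ x = x + hermForm n F q x (S.e i) • S.f (i + 1)
      - hermForm n F q x (S.f (i + 1)) • S.e i := by
  rw [lv_inv, act_rhoS S.hF (S.ehyp_lv' i)]
  module

theorem lv_f_self (k : ℕ) : act (S.lv k) (S.f k) = S.f k - S.f (k + 1) := by
  by_cases hk : k < m
  · rw [act_lv, S.form_fe_self hk, S.form_ff]; module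
  · rw [S.f_of_ge (k := k) (by omega), S.f_of_ge (k := k + 1) (by omega), act_zero, sub_zero]

theorem lv_f_ne {j k : ℕ} (hjk : j ≠ k) : act (S.lv k) (S.f j) = S.f j := by
  rw [act_lv, S.form_fe_ne hjk, S.form_ff]; module

theorem lv_inv_e_succ {k : ℕ} (hk : k + 1 < m) :
    act (S.lv k)⁻¹ (S.e (k + 1)) = S.e (k + 1) - S.e k := by
  rw [act_lv_inv, S.form_ee, S.form_ef_self hk]; module

theorem lv_inv_e_ne {i k : ℕ} (hik : i ≠ k + 1) : act (S.lv k)⁻¹ (S.e i) = S.e i := by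
  rw [act_lv_inv, S.form_ee, S.form_ef_ne hik]; module

/-- the product `lv 0 * lv 1 * ⋯ * lv (k-1)` -/
noncomputable def lev (S : Setup F q n m) : ℕ → ↥(Cfsg.SU n F q)
  | 0 => 1
  | (k + 1) => lev S k * S.lv k

theorem lev_zero : S.lev 0 = 1 := rfl
theorem lev_succ (k : ℕ) : S.lev (k + 1) = S.lev k * S.lv k := rfl

theorem lev_succ_inv (k : ℕ) : (S.lev (k + 1))⁻¹ = (S.lv k)⁻¹ * (S.lev k)⁻¹ := by
  rw [lev_succ, _root_.mul_inv_rev]

theorem lev_fix (k : ℕ) (x : Fin n → F)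
    (hx : ∀ i, i < k → hermForm n F q x (S.e i) = 0 ∧ hermForm n F q x (S.f (i + 1)) = 0) :
    act (S.lev k) x = x := by
  induction k with
  | zero => rw [lev_zero, act_one]
  | succ k ih =>
    rw [lev_succ, act_mul, act_lv, (hx k (by omega)).1, (hx k (by omega)).2]
    simp only [zero_smul, sub_zero, add_zero]
    exact ih fun i hi => hx i (by omega)

theorem lev_inv_fix (k : ℕ) (x : Fin n → F)
    (hx : ∀ i, i < k → hermForm n F q x (S.e i) = 0 ∧ hermForm n F q x (S.f (i + 1)) = 0) :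
    act (S.lev k)⁻¹ x = x := by
  induction k with
  | zero => rw [lev_zero, inv_one, act_one]
  | succ k ih =>
    rw [lev_succ_inv, act_mul, ih fun i hi => hx i (by omega), act_lv_inv,
      (hx k (by omega)).1, (hx k (by omega)).2]
    simp only [zero_smul, sub_zero, add_zero]

theorem lev_f (k j : ℕ) :
    act (S.lev k) (S.f j) = if j < k then S.f j - S.f (j + 1) else S.f j := by
  induction k with
  | zero => rw [lev_zero, act_one, if_neg (by omega)]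
  | succ k ih =>
    rw [lev_succ, act_mul]
    by_cases hjk : j = k
    · subst hjk
      rw [lv_f_self, act_sub, ih, if_neg (by omega), if_pos (by omega)]
      congr 1
      exact S.lev_fix j _ fun i hi =>
        ⟨by rw [S.form_fe_ne (by omega)], S.form_ff _ _⟩
    · rw [lv_f_ne S hjk, ih]
      by_cases h : j < k
      · rw [if_pos h, if_pos (by omega)]
      · rw [if_neg h, if_neg (by omega)]

theorem lev_inv_e (k j : ℕ) (hj : j + 1 < m) :
    act (S.lev k)⁻¹ (S.e (j + 1)) = if j < k then S.e (j + 1) - S.e j else S.e (j + 1) := by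
  induction k with
  | zero => rw [lev_zero, inv_one, act_one, if_neg (by omega)]
  | succ k ih =>
    rw [lev_succ_inv, act_mul, ih]
    rcases Nat.lt_trichotomy j k with h | h | h
    · rw [if_pos h, if_pos (by omega), act_sub, lv_inv_e_ne S (by omega), lv_inv_e_ne S (by omega)]
    · subst h
      rw [if_neg (by omega), if_pos (by omega), lv_inv_e_succ S hj]
    · rw [if_neg (by omega), if_neg (by omega), lv_inv_e_ne S (by omega)]

/-! ### the regular unipotent element -/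

theorem ehyp_xi : EHyp n q (S.e S.l) S.w S.cu :=
  ⟨S.form_ee _ _, S.form_we _, by rw [S.form_ww]; exact S.hcu⟩

/-- the regular unipotent element -/
noncomputable def uS : ↥(Cfsg.SU n F q) := S.lev S.l * rhoS S.hF (S.e S.l) S.w S.cu

theorem act_xi (x : Fin n → F) :
    act (rhoS S.hF (S.e S.l) S.w S.cu) x = x + hermForm n F q x (S.e S.l) • S.w
      + (S.cu * hermForm n F q x (S.e S.l) - hermForm n F q x S.w) • S.e S.l :=
  act_rhoS S.hF S.ehyp_xi x

theorem ehyp_xi' : EHyp n q (S.e S.l) (-S.w) (S.cu ^ q) := S.ehyp_xi.inv S.hF n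

theorem act_xi_inv (x : Fin n → F) :
    act (rhoS S.hF (S.e S.l) S.w S.cu)⁻¹ x = x - hermForm n F q x (S.e S.l) • S.w
      + (S.cu ^ q * hermForm n F q x (S.e S.l) + hermForm n F q x S.w) • S.e S.l := by
  rw [rhoS_inv, act_rhoS S.hF S.ehyp_xi', form_neg_right S.hF]
  module

theorem uS_inv : S.uS⁻¹ = (rhoS S.hF (S.e S.l) S.w S.cu)⁻¹ * (S.lev S.l)⁻¹ := by
  rw [uS, _root_.mul_inv_rev]

theorem lm : S.l < m := by have := S.hl; omega

theorem uS_e_zero : act S.uS (S.e 0) = S.e 0 := by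
  rw [uS, act_mul, act_xi, S.form_ee, S.form_ew]
  simp only [zero_smul, add_zero, mul_zero, sub_zero]
  exact S.lev_fix _ _ fun i hi => ⟨S.form_ee _ _, S.form_ef_ne (by omega)⟩

theorem uS_inv_e_zero : act S.uS⁻¹ (S.e 0) = S.e 0 := by
  rw [act_inv_eq_iff, uS_e_zero]

theorem uS_inv_e_succ {k : ℕ} (hk : k + 1 < m) :
    act S.uS⁻¹ (S.e (k + 1)) = S.e (k + 1) - S.e k := by
  have hl := S.hl
  rw [uS_inv, act_mul, S.lev_inv_e _ _ hk, if_pos (by omega), act_xi_inv]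
  simp only [form_sub_left, S.form_ee, S.form_ew]
  module

theorem uS_f {k : ℕ} (hk : k + 1 < m) : act S.uS (S.f k) = S.f k - S.f (k + 1) := by
  have hl := S.hl
  rw [uS, act_mul, act_xi, S.form_fe_ne (by omega), S.form_fw]
  simp only [zero_smul, add_zero, mul_zero, sub_zero]
  rw [lev_f, if_pos (by omega)]

theorem uS_inv_w : act S.uS⁻¹ S.w = S.w + S.e S.l := by
  rw [uS_inv, act_mul, S.lev_inv_fix _ _ fun i hi => ⟨S.form_we _, S.form_wf _⟩, act_xi_inv,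
    S.form_we, S.form_ww]
  module

theorem uS_inv_f_last : act S.uS⁻¹ (S.f S.l) = S.f S.l - S.w + S.cu ^ q • S.e S.l := by
  rw [uS_inv, act_mul,
    S.lev_inv_fix _ _ fun i hi => ⟨S.form_fe_ne (by omega), S.form_ff _ _⟩, act_xi_inv,
    S.form_fe_self S.lm, S.form_fw]
  module

theorem uS_e_last : act S.uS (S.e S.l) = act (S.lev S.l) (S.e S.l) := by
  rw [uS, act_mul, act_xi, S.form_ee, S.form_ew]
  simp only [zero_smul, add_zero, mul_zero, sub_zero]

theorem uS_w : act S.uS S.w = S.w - act S.uS (S.e S.l) := by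
  rw [uS_e_last, uS, act_mul, act_xi, S.form_we, S.form_ww]
  have : S.w + (0 : F) • S.w + (S.cu * 0 - 1) • S.e S.l = S.w - S.e S.l := by module
  rw [this, act_sub, S.lev_fix _ S.w fun i hi => ⟨S.form_we _, S.form_wf _⟩]

theorem uS_f_last : act S.uS (S.f S.l) = S.f S.l + S.w + S.cu • act S.uS (S.e S.l) := by
  rw [uS_e_last, uS, act_mul, act_xi, S.form_fe_self S.lm, S.form_fw]
  have : S.f S.l + (1 : F) • S.w + (S.cu * 1 - 0) • S.e S.l = S.f S.l + S.w + S.cu • S.e S.l := by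
    module
  rw [this, act_add, act_add, act_smul,
    S.lev_fix _ S.w fun i hi => ⟨S.form_we _, S.form_wf _⟩, lev_f, if_neg (by omega)]

/-! ### the operators -/

/-- the matrix of `uS` -/
noncomputable def Um : Matrix (Fin n) (Fin n) F := S.uS.1.1
/-- the matrix of `uS⁻¹` -/
noncomputable def Ui : Matrix (Fin n) (Fin n) F := (S.uS⁻¹).1.1
/-- `1 - uS` -/
noncomputable def Pm : Matrix (Fin n) (Fin n) F := 1 - S.Um
/-- `1 - uS⁻¹` -/
noncomputable def Qm : Matrix (Fin n) (Fin n) F := 1 - S.Ui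

theorem Um_mulVec (x : Fin n → F) : S.Um *ᵥ x = act S.uS x := rfl
theorem Ui_mulVec (x : Fin n → F) : S.Ui *ᵥ x = act S.uS⁻¹ x := rfl

theorem Um_mul_Ui : S.Um * S.Ui = 1 := by
  rw [Matrix.ext_iff_mulVec]
  intro x
  rw [← mulVec_mulVec, Um_mulVec, Ui_mulVec, act_act_inv, one_mulVec]

theorem Ui_mul_Um : S.Ui * S.Um = 1 := by
  rw [Matrix.ext_iff_mulVec]
  intro x
  rw [← mulVec_mulVec, Um_mulVec, Ui_mulVec, act_inv_act, one_mulVec]

theorem comm_Pm_Qm : Commute S.Pm S.Qm := by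
  show S.Pm * S.Qm = S.Qm * S.Pm
  simp only [Pm, Qm, sub_mul, mul_sub, one_mul, mul_one, Um_mul_Ui, Ui_mul_Um]
  abel

theorem comm_Um_Pm : Commute S.Um S.Pm := by
  show S.Um * S.Pm = S.Pm * S.Um
  simp only [Pm, sub_mul, mul_sub, one_mul, mul_one]

theorem comm_Um_Qm : Commute S.Um S.Qm := by
  show S.Um * S.Qm = S.Qm * S.Um
  simp only [Qm, sub_mul, mul_sub, one_mul, mul_one, Um_mul_Ui, Ui_mul_Um]

theorem Pm_mulVec (x : Fin n → F) : S.Pm *ᵥ x = x - act S.uS x := by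
  unfold Pm; rw [sub_mulVec, one_mulVec, Um_mulVec]

theorem Qm_mulVec (x : Fin n → F) : S.Qm *ᵥ x = x - act S.uS⁻¹ x := by
  unfold Qm; rw [sub_mulVec, one_mulVec, Ui_mulVec]

theorem Qm_e_zero : S.Qm *ᵥ S.e 0 = 0 := by rw [Qm_mulVec, uS_inv_e_zero, sub_self]
theorem Pm_e_zero : S.Pm *ᵥ S.e 0 = 0 := by rw [Pm_mulVec, uS_e_zero, sub_self]
theorem Um_e_zero : S.Um *ᵥ S.e 0 = S.e 0 := S.uS_e_zero

theorem Qm_e_succ {k : ℕ} (hk : k + 1 < m) : S.Qm *ᵥ S.e (k + 1) = S.e k := by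
  rw [Qm_mulVec, S.uS_inv_e_succ hk]; abel

theorem Qm_w : S.Qm *ᵥ S.w = -S.e S.l := by
  rw [Qm_mulVec, uS_inv_w]; abel

theorem Qm_f_last : S.Qm *ᵥ S.f S.l = S.w - S.cu ^ q • S.e S.l := by
  rw [Qm_mulVec, uS_inv_f_last]; abel

theorem Pm_f {k : ℕ} (hk : k + 1 < m) : S.Pm *ᵥ S.f k = S.f (k + 1) := by
  rw [Pm_mulVec, S.uS_f hk]; abel

theorem Pm_w : S.Pm *ᵥ S.w = S.Um *ᵥ S.e S.l := by
  rw [Pm_mulVec, uS_w, Um_mulVec]; abel

theorem Pm_f_last : S.Pm *ᵥ S.f S.l = -S.w - S.cu • (S.Um *ᵥ S.e S.l) := by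
  rw [Pm_mulVec, uS_f_last, Um_mulVec]; abel

theorem Pm_e_succ {k : ℕ} (hk : k + 1 < m) : S.Pm *ᵥ S.e (k + 1) = -(S.Um *ᵥ S.e k) := by
  have h := S.uS_inv_e_succ hk
  rw [act_inv_eq_iff, act_sub] at h
  have h' := sub_eq_iff_eq_add.mp h.symm
  rw [Pm_mulVec, Um_mulVec, h']
  abel

end Setup

theorem pow_mulVec_succ {n : ℕ} (A : Matrix (Fin n) (Fin n) F) (j : ℕ) (x : Fin n → F) :
    A ^ (j + 1) *ᵥ x = A ^ j *ᵥ (A *ᵥ x) := by
  rw [pow_succ, mulVec_mulVec]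

theorem pow_mulVec_succ' {n : ℕ} (A : Matrix (Fin n) (Fin n) F) (j : ℕ) (x : Fin n → F) :
    A ^ (j + 1) *ᵥ x = A *ᵥ (A ^ j *ᵥ x) := by
  rw [pow_succ', mulVec_mulVec]

theorem comm_mulVec {n : ℕ} {A C : Matrix (Fin n) (Fin n) F} (h : Commute A C) (x : Fin n → F) :
    A *ᵥ (C *ᵥ x) = C *ᵥ (A *ᵥ x) := by
  rw [mulVec_mulVec, mulVec_mulVec, h.eq]

theorem pow_mulVec_eq_zero_of_le {n : ℕ} (A : Matrix (Fin n) (Fin n) F) {j j' : ℕ}
    (hjj : j ≤ j') {x : Fin n → F} (h : A ^ j *ᵥ x = 0) : A ^ j' *ᵥ x = 0 := by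
  obtain ⟨d, rfl⟩ := Nat.exists_eq_add_of_le hjj
  rw [add_comm, pow_add, ← mulVec_mulVec, h, mulVec_zero]

namespace Setup

variable (S : Setup F q n m)

theorem Qm_pow_e (j : ℕ) {k : ℕ} (hk : k + j < m) : S.Qm ^ j *ᵥ S.e (k + j) = S.e k := by
  induction j with
  | zero => simp
  | succ j ih =>
    rw [pow_mulVec_succ, ← add_assoc, S.Qm_e_succ (by omega), ih (by omega)]

theorem Qm_pow_e' (j : ℕ) {k k' : ℕ} (hkk : k + j = k') (h : k' < m) :
    S.Qm ^ j *ᵥ S.e k' = S.e k := by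
  subst hkk; exact S.Qm_pow_e j h

theorem Pm_pow_f (j : ℕ) {k : ℕ} (hk : k + j < m) : S.Pm ^ j *ᵥ S.f k = S.f (k + j) := by
  induction j with
  | zero => simp
  | succ j ih =>
    rw [pow_mulVec_succ', ih (by omega), S.Pm_f (by omega)]; rfl

theorem Pm_pow_f' (j : ℕ) {k k' : ℕ} (hkk : k + j = k') (h : k' < m) :
    S.Pm ^ j *ᵥ S.f k = S.f k' := by
  subst hkk; exact S.Pm_pow_f j h

theorem Pm_pow_e (j : ℕ) {k : ℕ} (hk : k + j < m) :
    S.Pm ^ j *ᵥ S.e (k + j) = (-1 : F) ^ j • (S.Um ^ j *ᵥ S.e k) := by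
  induction j with
  | zero => simp
  | succ j ih =>
    rw [pow_mulVec_succ, ← add_assoc, S.Pm_e_succ (by omega), mulVec_neg,
      comm_mulVec (S.comm_Um_Pm.symm.pow_left j), ih (by omega),
      pow_mulVec_succ', mulVec_smul, pow_succ]
    module

theorem Pm_pow_e' (j : ℕ) {k k' : ℕ} (hkk : k + j = k') (h : k' < m) :
    S.Pm ^ j *ᵥ S.e k' = (-1 : F) ^ j • (S.Um ^ j *ᵥ S.e k) := by
  subst hkk; exact S.Pm_pow_e j h

theorem Um_pow_e_zero (j : ℕ) : S.Um ^ j *ᵥ S.e 0 = S.e 0 := by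
  induction j with
  | zero => simp
  | succ j ih => rw [pow_mulVec_succ, Um_e_zero, ih]

theorem Pm_pow_e_eq_zero {k : ℕ} (hk : k < m) : S.Pm ^ (k + 1) *ᵥ S.e k = 0 := by
  have h := S.Pm_pow_e k (k := 0) (by omega)
  rw [zero_add] at h
  rw [pow_mulVec_succ', h, mulVec_smul, comm_mulVec (S.comm_Um_Pm.symm.pow_right k),
    Pm_e_zero, mulVec_zero, smul_zero]

theorem Pm_pow_Um_e_last {j : ℕ} (hj : S.l + 1 ≤ j) : S.Pm ^ j *ᵥ (S.Um *ᵥ S.e S.l) = 0 := by
  rw [comm_mulVec (S.comm_Um_Pm.symm.pow_left j),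
    pow_mulVec_eq_zero_of_le _ hj (S.Pm_pow_e_eq_zero S.lm), mulVec_zero]

theorem Pm_pow_w {j : ℕ} (hj : S.l + 2 ≤ j) : S.Pm ^ j *ᵥ S.w = 0 := by
  obtain ⟨d, rfl⟩ : ∃ d, j = d + 1 := ⟨j - 1, by omega⟩
  rw [pow_mulVec_succ, Pm_w]
  exact S.Pm_pow_Um_e_last (by omega)

/-- a matrix killing the basis is zero -/
theorem eq_zero_of_basis (A : Matrix (Fin n) (Fin n) F)
    (he : ∀ k, k < m → A *ᵥ S.e k = 0) (hw : A *ᵥ S.w = 0)
    (hf : ∀ k, k < m → A *ᵥ S.f k = 0) : A = 0 := by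
  apply S.ext_mat
  · intro k hk; rw [he k hk, zero_mulVec]
  · rw [hw, zero_mulVec]
  · intro k hk; rw [hf k hk, zero_mulVec]

theorem Pm_pow_f_top : S.Pm ^ (n - 1) *ᵥ S.f 0 = (-1 : F) ^ (S.l + 1) • S.e 0 := by
  have hl := S.hl
  have hn := S.hn
  have e : n - 1 = S.l + (2 + S.l) := by omega
  rw [e, pow_add, ← mulVec_mulVec, pow_add, ← mulVec_mulVec]
  have h1 := S.Pm_pow_f S.l (k := 0) (by omega)
  rw [zero_add] at h1
  rw [h1, pow_two, ← mulVec_mulVec, Pm_f_last, mulVec_sub, mulVec_neg, Pm_w, mulVec_smul,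
    mulVec_sub, mulVec_neg, mulVec_smul]
  have h2 : S.Pm ^ S.l *ᵥ (S.Pm *ᵥ (S.Um *ᵥ S.e S.l)) = 0 := by
    rw [← pow_mulVec_succ]
    exact S.Pm_pow_Um_e_last (by omega)
  have h3 := S.Pm_pow_e S.l (k := 0) (by omega)
  rw [zero_add] at h3
  rw [h2, smul_zero, sub_zero, comm_mulVec (S.comm_Um_Pm.symm.pow_left S.l), h3, mulVec_smul,
    ← pow_mulVec_succ', Um_pow_e_zero, pow_succ]
  module

theorem Pm_pow_n : S.Pm ^ n = 0 := by
  have hl := S.hl
  have hn := S.hn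
  apply S.eq_zero_of_basis
  · intro k hk
    exact pow_mulVec_eq_zero_of_le _ (by omega) (S.Pm_pow_e_eq_zero hk)
  · exact S.Pm_pow_w (by omega)
  · intro k hk
    obtain ⟨d, hd⟩ : ∃ d, k + d = S.l := ⟨S.l - k, by omega⟩
    have h0 : S.Pm ^ ((S.l + 2) + (1 + d)) *ᵥ S.f k = 0 := by
      rw [pow_add, ← mulVec_mulVec, pow_add _ 1 d, ← mulVec_mulVec, S.Pm_pow_f d (by omega), hd,
        pow_one, Pm_f_last, mulVec_sub, mulVec_neg, mulVec_smul,
        S.Pm_pow_w (by omega), S.Pm_pow_Um_e_last (by omega)]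
      simp
    exact pow_mulVec_eq_zero_of_le _ (by omega) h0

theorem uS_sub_one : S.uS.1.1 - 1 = -S.Pm := by
  unfold Pm Um; abel

theorem uS_nilpotent : IsNilpotent (S.uS.1.1 - 1) := by
  refine ⟨n, ?_⟩
  rw [uS_sub_one, neg_pow, Pm_pow_n, mul_zero]

theorem uS_regular : (S.uS.1.1 - 1) ^ (n - 1) ≠ 0 := by
  have hl := S.hl
  have hn := S.hn
  rw [uS_sub_one, neg_pow]
  intro h
  have h2 := congrArg (fun A => A *ᵥ S.f 0) h
  simp only [zero_mulVec] at h2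
  rw [← mulVec_mulVec, Pm_pow_f_top, mulVec_smul] at h2
  have h3 : (-1 : Matrix (Fin n) (Fin n) F) ^ (n - 1) = 1 := by
    apply Even.neg_one_pow
    exact ⟨m, by omega⟩
  rw [h3, one_mulVec] at h2
  rcases smul_eq_zero.mp h2 with h4 | h4
  · exact absurd h4 (pow_ne_zero _ (neg_ne_zero.mpr one_ne_zero))
  · exact S.e_ne_zero (by omega) h4

end Setup

end Cfsg.Agent.Lib.Helper1.Rh
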