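import Mathlib
import Cfsg.Prelude
import Cfsg.Agent.Lib.Helper1.Rh3

set_option autoImplicit false
set_option maxHeartbeats 4000000
set_option linter.unusedVariables false
set_option linter.unusedSectionVars false
set_option linter.style.longLine false
set_option linter.unusedSimpArgs false
set_option linter.deprecated false

/-! Generation of `SU_n(q)`, `n` odd, by three conjugate regular unipotent elements, part 4:
a subgroup containing `uS`, a suitable radical element `z` and a suitable element `y`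
meets every coset of the centre of the unipotent radical of the stabiliser of `e_0`. -/

namespace Cfsg.Agent.Lib.Helper1.Rh

open Matrix Cfsg Cfsg.Agent.Lib.Helper5.Herm Cfsg.Agent.Lib.Helper5.HermTv
  Cfsg.Agent.Lib.Helper5.HermEich Cfsg.Agent.Lib.Helper5.HermSU

variable {F : Type*} [Field F] [Fintype F] {q n m : ℕ}

/-- the additive group of vectors `b` such that some `rhoS a b c` with valid parameters lies
in `H` -/
def Mgrp (hF : Fintype.card F = q ^ 2) (H : Subgroup ↥(Cfsg.SU n F q)) (a : Fin n → F)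
    (ha : hermForm n F q a a = 0) : AddSubgroup (Fin n → F) where
  carrier := {b | ∃ c, EHyp n q a b c ∧ rhoS hF a b c ∈ H}
  zero_mem' := ⟨0, ehyp_zero ha (by rw [zero_pow (q_ne_zero hF), add_zero]), by
    rw [rhoS_zero_zero]; exact H.one_mem⟩
  add_mem' := by
    rintro b b' ⟨c, hc, hm⟩ ⟨c', hc', hm'⟩
    refine ⟨c + c' - hermForm n F q b' b, ehyp_add hF hc hc', ?_⟩
    rw [← rhoS_mul hF hc hc']; exact H.mul_mem hm hm'
  neg_mem' := by
    rintro b ⟨c, hc, hm⟩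
    refine ⟨c ^ q, hc.inv hF n, ?_⟩
    rw [← rhoS_inv]; exact H.inv_mem hm

theorem mem_Mgrp {hF : Fintype.card F = q ^ 2} {H : Subgroup ↥(Cfsg.SU n F q)} {a : Fin n → F}
    {ha : hermForm n F q a a = 0} {b : Fin n → F} :
    b ∈ Mgrp hF H a ha ↔ ∃ c, EHyp n q a b c ∧ rhoS hF a b c ∈ H := Iff.rfl

theorem smul_self_mem_Mgrp (hF : Fintype.card F = q ^ 2) (H : Subgroup ↥(Cfsg.SU n F q))
    (a : Fin n → F) (ha : hermForm n F q a a = 0) (μ : F) : μ • a ∈ Mgrp hF H a ha := by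
  have h0 : EHyp n q a 0 (0 : F) := ehyp_zero ha (by rw [zero_pow (q_ne_zero hF), add_zero])
  have h1 := ehyp_add_smul hF h0 μ
  have h2 := rhoS_add_smul hF h0 μ
  rw [zero_add] at h1 h2
  exact ⟨_, h1, by rw [h2, rhoS_zero_zero]; exact H.one_mem⟩

theorem act_mem_Mgrp {hF : Fintype.card F = q ^ 2} {H : Subgroup ↥(Cfsg.SU n F q)}
    {a : Fin n → F} {ha : hermForm n F q a a = 0} {h : ↥(Cfsg.SU n F q)} (hh : h ∈ H)
    (hfix : act h a = a) {b : Fin n → F} (hb : b ∈ Mgrp hF H a ha) :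
    act h b ∈ Mgrp hF H a ha := by
  obtain ⟨c, hc, hm⟩ := hb
  have h1 := ehyp_act h hc
  have h2 := conj_rhoS hF h a b c
  rw [hfix] at h1 h2
  exact ⟨c, h1, by rw [← h2]; exact H.mul_mem (H.mul_mem hh hm) (H.inv_mem hh)⟩

/-- `A` maps the additive group `M` into itself -/
def Pres (M : AddSubgroup (Fin n → F)) (A : Matrix (Fin n) (Fin n) F) : Prop :=
  ∀ b ∈ M, A *ᵥ b ∈ M

theorem Pres.mul {M : AddSubgroup (Fin n → F)} {A C : Matrix (Fin n) (Fin n) F}
    (hA : Pres M A) (hC : Pres M C) : Pres M (A * C) := by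
  intro b hb
  rw [← mulVec_mulVec]
  exact hA _ (hC _ hb)

theorem Pres.one (M : AddSubgroup (Fin n → F)) : Pres M 1 := by
  intro b hb; rwa [one_mulVec]

theorem Pres.pow {M : AddSubgroup (Fin n → F)} {A : Matrix (Fin n) (Fin n) F}
    (hA : Pres M A) (j : ℕ) : Pres M (A ^ j) := by
  induction j with
  | zero => rw [pow_zero]; exact Pres.one M
  | succ j ih => rw [pow_succ]; exact ih.mul hA

theorem Pres.one_sub {M : AddSubgroup (Fin n → F)} {A : Matrix (Fin n) (Fin n) F}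
    (hA : Pres M A) : Pres M (1 - A) := by
  intro b hb
  rw [sub_mulVec, one_mulVec]
  exact M.sub_mem hb (hA b hb)

/-- the vectors all of whose multiples lie in `M` -/
def Mfull (M : AddSubgroup (Fin n → F)) : Submodule F (Fin n → F) where
  carrier := {v | ∀ x : F, x • v ∈ M}
  zero_mem' := by intro x; rw [smul_zero]; exact M.zero_mem
  add_mem' := by
    intro v v' hv hv' x
    rw [smul_add]; exact M.add_mem (hv x) (hv' x)
  smul_mem' := by
    intro c v hv x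
    rw [smul_smul]; exact hv _

theorem mem_Mfull {M : AddSubgroup (Fin n → F)} {v : Fin n → F} :
    v ∈ Mfull M ↔ ∀ x : F, x • v ∈ M := Iff.rfl

theorem Pres.mfull {M : AddSubgroup (Fin n → F)} {A : Matrix (Fin n) (Fin n) F}
    (hA : Pres M A) {v : Fin n → F} (hv : v ∈ Mfull M) : A *ᵥ v ∈ Mfull M := by
  intro x
  rw [← mulVec_smul]
  exact hA _ (hv x)

theorem mem_of_smul_mem_Mfull {M : AddSubgroup (Fin n → F)} {v : Fin n → F} {c : F}
    (hc : c ≠ 0) (hv : c • v ∈ Mfull M) : v ∈ Mfull M := by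
  have := (Mfull M).smul_mem c⁻¹ hv
  rwa [smul_smul, inv_mul_cancel₀ hc, one_smul] at this

namespace Setup

variable (S : Setup F q n m)

/-- the additive group attached to `e_0` -/
def M (H : Subgroup ↥(Cfsg.SU n F q)) : AddSubgroup (Fin n → F) :=
  Mgrp S.hF H (S.e 0) (S.form_ee 0 0)

end Setup

/-- hypotheses of the core argument -/
structure CoreHyp (S : Setup F q n m) (H : Subgroup ↥(Cfsg.SU n F q))
    (y : ↥(Cfsg.SU n F q)) (α β δ c₀ : F) : Prop where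
  hm : 2 ≤ m
  hu : S.uS ∈ H
  hy : y ∈ H
  hy0 : act y (S.e 0) = S.e 0
  hy1 : act y (S.e 1) = S.e 1 + α • S.w + β • S.f 1 + δ • S.e 0
  hz : c₀ • (S.w + S.e S.l) ∈ S.M H
  hc₀ : c₀ ≠ 0
  hβ0 : β ≠ 0
  hβ : ∀ t : F, t ≠ 0 → ∃ k : ℕ, t = β ^ k

section core

variable {S : Setup F q n m} {H : Subgroup ↥(Cfsg.SU n F q)} {y : ↥(Cfsg.SU n F q)}
  {α β δ c₀ : F}

theorem pres_Um (hu : S.uS ∈ H) : Pres (S.M H) S.Um := by
  intro b hb
  exact act_mem_Mgrp hu S.uS_e_zero hb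

theorem pres_Ui (hu : S.uS ∈ H) : Pres (S.M H) S.Ui := by
  intro b hb
  exact act_mem_Mgrp (H.inv_mem hu) S.uS_inv_e_zero hb

theorem pres_Pm (hu : S.uS ∈ H) : Pres (S.M H) S.Pm := (pres_Um hu).one_sub

theorem pres_Qm (hu : S.uS ∈ H) : Pres (S.M H) S.Qm := (pres_Ui hu).one_sub

theorem smul_e0_mem (S : Setup F q n m) (H : Subgroup ↥(Cfsg.SU n F q)) (μ : F) :
    μ • S.e 0 ∈ S.M H := smul_self_mem_Mgrp S.hF H _ _ μ

/-- Step D -/
theorem CoreHyp.c0_mem (C : CoreHyp S H y α β δ c₀) : c₀ • S.e 1 ∈ S.M H := by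
  have hm := C.hm
  have hl := S.hl
  obtain ⟨l', hl'⟩ : ∃ l', S.l = l' + 1 := ⟨S.l - 1, by omega⟩
  have h1 := (pres_Qm C.hu) _ C.hz
  rw [mulVec_smul, mulVec_add, S.Qm_w, hl', S.Qm_e_succ (by omega)] at h1
  have h2 := ((pres_Qm C.hu).pow l') _ h1
  have e0 := S.Qm_pow_e' l' (k := 0) (k' := l') (by omega) (by omega)
  have e1 := S.Qm_pow_e' l' (k := 1) (k' := l' + 1) (by omega) (by omega)
  rw [mulVec_smul, mulVec_add, mulVec_neg, e0, e1] at h2
  have h3 := (S.M H).sub_mem (smul_e0_mem S H c₀) h2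
  have : c₀ • S.e 0 - c₀ • (-S.e 1 + S.e 0) = c₀ • S.e 1 := by module
  rwa [this] at h3

theorem Pm_pow_e_zero (S : Setup F q n m) (j : ℕ) : ∃ θ : F, S.Pm ^ j *ᵥ S.e 0 = θ • S.e 0 := by
  cases j with
  | zero => exact ⟨1, by simp⟩
  | succ j =>
    refine ⟨0, ?_⟩
    rw [pow_mulVec_succ, S.Pm_e_zero, mulVec_zero, zero_smul]

/-- Steps A and C -/
theorem CoreHyp.mul_beta_mem (C : CoreHyp S H y α β δ c₀) {x : F}
    (hx : x • S.e 1 ∈ S.M H) : (x * β) • S.e 1 ∈ S.M H := by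
  have hm := C.hm
  have hl := S.hl
  obtain ⟨l', hl'⟩ : ∃ l', S.l = l' + 1 := ⟨S.l - 1, by omega⟩
  have h1 := act_mem_Mgrp C.hy C.hy0 hx
  rw [act_smul, C.hy1] at h1
  have h2 : (x * α) • S.w + (x * β) • S.f 1 ∈ S.M H := by
    have h3 := (S.M H).sub_mem ((S.M H).sub_mem h1 hx) (smul_e0_mem S H (x * δ))
    have : x • (S.e 1 + α • S.w + β • S.f 1 + δ • S.e 0) - x • S.e 1
        - (x * δ) • S.e 0 = (x * α) • S.w + (x * β) • S.f 1 := by module
    rwa [this] at h3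
  have hPi : Pres (S.M H) (S.Qm ^ (l' + 2) * S.Pm ^ l') :=
    ((pres_Qm C.hu).pow _).mul ((pres_Pm C.hu).pow _)
  have h4 := hPi _ h2
  have hQfl : S.Qm ^ (l' + 2) *ᵥ S.f S.l = -S.e 1 - S.cu ^ q • S.e 0 := by
    rw [pow_mulVec_succ, S.Qm_f_last, mulVec_sub, mulVec_smul, pow_mulVec_succ, S.Qm_w, hl',
      pow_mulVec_succ _ l', S.Qm_e_succ (by omega), mulVec_neg,
      S.Qm_pow_e' l' (k := 1) (k' := l' + 1) (by omega) (by omega),
      S.Qm_pow_e' l' (k := 0) (k' := l') (by omega) (by omega)]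
  have hf1 : (S.Qm ^ (l' + 2) * S.Pm ^ l') *ᵥ S.f 1 = -S.e 1 - S.cu ^ q • S.e 0 := by
    rw [← mulVec_mulVec, S.Pm_pow_f' l' (k := 1) (k' := l' + 1) (by omega) (by omega), ← hl', hQfl]
  have hw : ∃ θ : F, (S.Qm ^ (l' + 2) * S.Pm ^ l') *ᵥ S.w = θ • S.e 0 := by
    have hc : Commute (S.Qm ^ (l' + 2)) (S.Pm ^ l') :=
      (S.comm_Pm_Qm.symm.pow_left _).pow_right _
    obtain ⟨θ, hθ⟩ := Pm_pow_e_zero S l'
    refine ⟨-θ, ?_⟩
    rw [hc.eq, ← mulVec_mulVec, pow_mulVec_succ, S.Qm_w, hl', mulVec_neg,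
      S.Qm_pow_e' (l' + 1) (k := 0) (k' := l' + 1) (by omega) (by omega), mulVec_neg, hθ, neg_smul]
  obtain ⟨θ, hθ⟩ := hw
  rw [mulVec_add, mulVec_smul, mulVec_smul, hf1, hθ] at h4
  have h5 := (S.M H).sub_mem (smul_e0_mem S H (x * α * θ - x * β * S.cu ^ q)) h4
  have : (x * α * θ - x * β * S.cu ^ q) • S.e 0
      - ((x * α) • θ • S.e 0 + (x * β) • (-S.e 1 - S.cu ^ q • S.e 0)) = (x * β) • S.e 1 := by
    module
  rwa [this] at h5

/-- Step E -/
theorem CoreHyp.e_one_mem (C : CoreHyp S H y α β δ c₀) (t : F) : t • S.e 1 ∈ S.M H := by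
  have hpow : ∀ k : ℕ, (c₀ * β ^ k) • S.e 1 ∈ S.M H := by
    intro k
    induction k with
    | zero => rw [pow_zero, mul_one]; exact C.c0_mem
    | succ k ih =>
      have := C.mul_beta_mem ih
      rwa [mul_assoc, ← pow_succ] at this
  by_cases ht : t = 0
  · rw [ht, zero_smul]; exact (S.M H).zero_mem
  · have htc : t / c₀ ≠ 0 := div_ne_zero ht C.hc₀
    obtain ⟨k, hk⟩ := C.hβ _ htc
    have : t = c₀ * β ^ k := by rw [← hk]; field_simp [C.hc₀]
    rw [this]; exact hpow k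

theorem CoreHyp.pres_y (C : CoreHyp S H y α β δ c₀) {v : Fin n → F}
    (hv : v ∈ Mfull (S.M H)) : act y v ∈ Mfull (S.M H) := by
  intro x
  rw [← act_smul]
  exact act_mem_Mgrp C.hy C.hy0 (hv x)

theorem CoreHyp.e0_full (C : CoreHyp S H y α β δ c₀) : S.e 0 ∈ Mfull (S.M H) :=
  fun x => smul_e0_mem S H x

theorem CoreHyp.e1_full (C : CoreHyp S H y α β δ c₀) : S.e 1 ∈ Mfull (S.M H) :=
  fun x => C.e_one_mem x

theorem CoreHyp.m1_full (C : CoreHyp S H y α β δ c₀) :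
    α • S.w + β • S.f 1 ∈ Mfull (S.M H) := by
  have h1 := C.pres_y C.e1_full
  rw [C.hy1] at h1
  have h2 := (Mfull (S.M H)).sub_mem ((Mfull (S.M H)).sub_mem h1 C.e1_full)
    ((Mfull (S.M H)).smul_mem δ C.e0_full)
  have : S.e 1 + α • S.w + β • S.f 1 + δ • S.e 0 - S.e 1 - δ • S.e 0
      = α • S.w + β • S.f 1 := by module
  rwa [this] at h2

/-- Step F, first part: `w - cu^q e_l` -/
theorem CoreHyp.m2_full (C : CoreHyp S H y α β δ c₀) :
    S.w - S.cu ^ q • S.e S.l ∈ Mfull (S.M H) := by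
  have hm := C.hm
  have hl := S.hl
  obtain ⟨l', hl'⟩ : ∃ l', S.l = l' + 1 := ⟨S.l - 1, by omega⟩
  have hA : Pres (S.M H) (S.Qm * S.Pm ^ l') := (pres_Qm C.hu).mul ((pres_Pm C.hu).pow _)
  have h1 := hA.mfull C.m1_full
  have e1 : (S.Qm * S.Pm ^ l') *ᵥ S.f 1 = S.w - S.cu ^ q • S.e S.l := by
    rw [← mulVec_mulVec, S.Pm_pow_f' l' (k := 1) (k' := l' + 1) (by omega) (by omega), ← hl',
      S.Qm_f_last]
  have e2 : (S.Qm * S.Pm ^ l') *ᵥ S.w = -((-1 : F) ^ l' • (S.Um ^ l' *ᵥ S.e 1)) := by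
    have hc : Commute S.Qm (S.Pm ^ l') := S.comm_Pm_Qm.symm.pow_right _
    rw [hc.eq, ← mulVec_mulVec, S.Qm_w, mulVec_neg, hl',
      S.Pm_pow_e' l' (k := 1) (k' := l' + 1) (by omega) (by omega)]
  rw [mulVec_add, mulVec_smul, mulVec_smul, e1, e2] at h1
  have h2 : S.Um ^ l' *ᵥ S.e 1 ∈ Mfull (S.M H) := ((pres_Um C.hu).pow l').mfull C.e1_full
  have h3 := (Mfull (S.M H)).add_mem h1
    ((Mfull (S.M H)).smul_mem α ((Mfull (S.M H)).smul_mem ((-1 : F) ^ l') h2))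
  have : α • -((-1 : F) ^ l' • (S.Um ^ l' *ᵥ S.e 1)) + β • (S.w - S.cu ^ q • S.e S.l)
      + α • (-1 : F) ^ l' • (S.Um ^ l' *ᵥ S.e 1) = β • (S.w - S.cu ^ q • S.e S.l) := by module
  rw [this] at h3
  exact mem_of_smul_mem_Mfull C.hβ0 h3

/-- Step F, second part: all `e_k` -/
theorem CoreHyp.e_full (C : CoreHyp S H y α β δ c₀) (k : ℕ) (hk : k < m) :
    S.e k ∈ Mfull (S.M H) := by
  have hm := C.hm
  have hl := S.hl
  induction k with
  | zero => exact C.e0_full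
  | succ k ih =>
    rcases Nat.eq_zero_or_pos k with h0 | h0
    · rw [h0]; exact C.e1_full
    · have ihk := ih (by omega)
      obtain ⟨d, hd⟩ : ∃ d, (k + 1) + d = S.l := ⟨S.l - (k + 1), by omega⟩
      have h1 := ((pres_Qm C.hu).pow (d + 1)).mfull C.m2_full
      have e1 : S.Qm ^ (d + 1) *ᵥ S.w = -S.e (k + 1) := by
        rw [pow_mulVec_succ, S.Qm_w, mulVec_neg, S.Qm_pow_e' d hd (by omega)]
      have e2 : S.Qm ^ (d + 1) *ᵥ S.e S.l = S.e k :=
        S.Qm_pow_e' (d + 1) (k := k) (k' := S.l) (by omega) (by omega)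
      rw [mulVec_sub, mulVec_smul, e1, e2] at h1
      have h2 := (Mfull (S.M H)).add_mem h1 ((Mfull (S.M H)).smul_mem (S.cu ^ q) ihk)
      have : -S.e (k + 1) - S.cu ^ q • S.e k + S.cu ^ q • S.e k = (-1 : F) • S.e (k + 1) := by
        module
      rw [this] at h2
      exact mem_of_smul_mem_Mfull (neg_ne_zero.mpr one_ne_zero) h2

theorem CoreHyp.w_full (C : CoreHyp S H y α β δ c₀) : S.w ∈ Mfull (S.M H) := by
  have h := (Mfull (S.M H)).add_mem C.m2_full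
    ((Mfull (S.M H)).smul_mem (S.cu ^ q) (C.e_full S.l S.lm))
  rwa [sub_add_cancel] at h

theorem CoreHyp.f_full (C : CoreHyp S H y α β δ c₀) {k : ℕ} (hk1 : 1 ≤ k) (hk : k < m) :
    S.f k ∈ Mfull (S.M H) := by
  have hm := C.hm
  have h1 : S.f 1 ∈ Mfull (S.M H) := by
    have h := (Mfull (S.M H)).sub_mem C.m1_full ((Mfull (S.M H)).smul_mem α C.w_full)
    rw [add_sub_cancel_left] at h
    exact mem_of_smul_mem_Mfull C.hβ0 h
  obtain ⟨j, hj⟩ : ∃ j, 1 + j = k := ⟨k - 1, by omega⟩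
  have h2 := ((pres_Pm C.hu).pow j).mfull h1
  rwa [S.Pm_pow_f' j hj hk] at h2

/-- every vector orthogonal to `e_0` is in `Mfull` -/
theorem CoreHyp.perp_full (C : CoreHyp S H y α β δ c₀) {b : Fin n → F}
    (hb : hermForm n F q b (S.e 0) = 0) : b ∈ Mfull (S.M H) := by
  have hm := C.hm
  exact S.mem_of_perp (by omega) _ (fun k hk => C.e_full k hk) C.w_full
    (fun k hk1 hk => C.f_full hk1 hk) hb

/-- the outcome of part 4: every coset of the centre of the radical meets `H` -/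
theorem CoreHyp.exists_rho (C : CoreHyp S H y α β δ c₀) {b : Fin n → F}
    (hb : hermForm n F q b (S.e 0) = 0) :
    ∃ c, EHyp n q (S.e 0) b c ∧ rhoS S.hF (S.e 0) b c ∈ H := by
  have := C.perp_full hb 1
  rw [one_smul] at this
  exact this

end core

end Cfsg.Agent.Lib.Helper1.Rh
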