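import Mathlib
import Cfsg.Prelude
import Cfsg.Agent.Lib.Helper1.Rh4

set_option autoImplicit false
set_option maxHeartbeats 4000000
set_option linter.unusedVariables false
set_option linter.unusedSectionVars false
set_option linter.style.longLine false
set_option linter.unusedSimpArgs false
set_option linter.deprecated false

/-! Generation of `SU_n(q)`, `n` odd, by three conjugate regular unipotent elements, part 5:
from the unipotent radical of the stabiliser of an isotropic vector to all transvections. -/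

namespace Cfsg.Agent.Lib.Helper1.Rh

open Matrix Cfsg Cfsg.Agent.Lib.Helper5.Herm Cfsg.Agent.Lib.Helper5.HermTv
  Cfsg.Agent.Lib.Helper5.HermEich Cfsg.Agent.Lib.Helper5.HermSU

variable {F : Type*} [Field F] [Fintype F] {q n m : ℕ}

section step7

variable {hF : Fintype.card F = q ^ 2} {H : Subgroup ↥(Cfsg.SU n F q)}

/-- all transvections along `x` lie in `H` -/
def Full (hF : Fintype.card F = q ^ 2) (H : Subgroup ↥(Cfsg.SU n F q)) (x : Fin n → F) : Prop :=
  ∀ t : F, rhoS hF x 0 t ∈ H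

theorem Full.act {x : Fin n → F} (hx : Full hF H x) {h : ↥(Cfsg.SU n F q)} (hh : h ∈ H) :
    Full hF H (Rh.act h x) := by
  intro t
  have := conj_rhoS hF h x 0 t
  rw [act_zero] at this
  rw [← this]
  exact H.mul_mem (H.mul_mem hh (hx t)) (H.inv_mem hh)

theorem Full.smul {x : Fin n → F} (hx : Full hF H x) (c : F) : Full hF H (c • x) := by
  intro t
  by_cases hc : c = 0
  · rw [hc, zero_smul, rhoS_zero_vec]; exact H.one_mem
  by_cases hE : EHyp n q (c • x) 0 t
  · have hE' : EHyp n q x 0 t := by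
      refine ⟨?_, hermForm_zero_left n q x, hE.hb⟩
      have h1 := hE.hx
      rw [hermForm_smul_left, hermForm_smul_right] at h1
      rcases mul_eq_zero.mp h1 with h2 | h2
      · exact absurd h2 hc
      · rcases mul_eq_zero.mp h2 with h3 | h3
        · exact absurd h3 (pow_ne_zero _ hc)
        · exact h3
    rw [rhoS_smul_left hF hE', smul_zero]
    exact hx _
  · rw [rhoS_of_not hF hE]; exact H.one_mem

theorem full_of_not_iso {x : Fin n → F} (hx : hermForm n F q x x ≠ 0) : Full hF H x := by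
  intro t
  rw [rhoS_of_not hF (fun h => hx h.hx)]
  exact H.one_mem

theorem full_of_nonperp {a : Fin n → F} (ha : hermForm n F q a a = 0)
    (hR : ∀ b c, EHyp n q a b c → rhoS hF a b c ∈ H)
    {x₀ : Fin n → F} (hx₀i : hermForm n F q x₀ x₀ = 0) (hx₀ : hermForm n F q x₀ a ≠ 0)
    (hf : Full hF H x₀)
    {x : Fin n → F} (hxi : hermForm n F q x x = 0) (hx : hermForm n F q x a ≠ 0) :
    Full hF H x := by
  set l := hermForm n F q x a / hermForm n F q x₀ a with hl
  have h1 : Full hF H (l • x₀) := hf.smul l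
  have h2 : hermForm n F q (l • x₀) a = hermForm n F q x a := by
    rw [hermForm_smul_left, hl, div_mul_cancel₀ _ hx₀]
  have h3 : hermForm n F q (l • x₀) a ≠ 0 := by rw [h2]; exact hx
  have h4 : hermForm n F q (l • x₀) (l • x₀) = 0 := by
    rw [hermForm_smul_left, hermForm_smul_right, hx₀i, mul_zero, mul_zero]
  obtain ⟨b, c, hE, hmove⟩ := exists_rho_move hF ha h4 hxi h3 h2
  rw [← hmove]
  exact h1.act (hR b c hE)

theorem full_all (hn : 3 ≤ n) {a : Fin n → F} (ha0 : a ≠ 0) (ha : hermForm n F q a a = 0)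
    (hR : ∀ b c, EHyp n q a b c → rhoS hF a b c ∈ H)
    {x₀ : Fin n → F} (hx₀i : hermForm n F q x₀ x₀ = 0) (hx₀ : hermForm n F q x₀ a ≠ 0)
    (hf : Full hF H x₀) (x : Fin n → F) : Full hF H x := by
  by_cases hxi : hermForm n F q x x = 0
  · by_cases hx0 : x = 0
    · intro t; rw [hx0, rhoS_zero_vec]; exact H.one_mem
    by_cases hx : hermForm n F q x a ≠ 0
    · exact full_of_nonperp ha hR hx₀i hx₀ hf hxi hx
    · push_neg at hx
      obtain ⟨w, hww, hxw, haw⟩ :=
        Cfsg.Agent.Lib.Helper5.HermSimple.exists_cross hF n x a hx0 ha0 hxi ha hx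
      have hwa : hermForm n F q w a ≠ 0 := fun h => haw (form_symm_zero hF h)
      have hfw : Full hF H w := full_of_nonperp ha hR hx₀i hx₀ hf hww hwa
      obtain ⟨t₀, ht₀0, ht₀⟩ := exists_trace_zero hF
      have hE : EHyp n q w 0 t₀ := ehyp_zero hww (by rw [ht₀]; ring)
      set g := rhoS hF w 0 t₀ with hg
      have hgx : Rh.act g x = x + (t₀ * hermForm n F q x w) • w := by
        rw [hg, act_rhoS hF hE, hermForm_zero_right hF]
        module
      have hx'i : hermForm n F q (Rh.act g x) (Rh.act g x) = 0 := by rw [form_act]; exact hxi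
      have hx' : hermForm n F q (Rh.act g x) a ≠ 0 := by
        rw [hgx, hermForm_add_left, hermForm_smul_left, hx, zero_add]
        exact mul_ne_zero (mul_ne_zero ht₀0 hxw) hwa
      have hfx' : Full hF H (Rh.act g x) := full_of_nonperp ha hR hx₀i hx₀ hf hx'i hx'
      have := hfx'.act (H.inv_mem (hfw t₀))
      rwa [act_inv_act] at this
  · exact full_of_not_iso hxi

theorem top_of_full (hn : 3 ≤ n) (h32 : ¬ (n = 3 ∧ q = 2)) (hf : ∀ x, Full hF H x) : H = ⊤ := by
  rw [eq_top_iff, ← closure_tvSet hF n hn h32, Subgroup.closure_le]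
  rintro A ⟨v, c, hv, hA⟩
  by_cases hv0 : v = 0
  · have hA1 : A = 1 := by
      apply Subtype.ext
      apply Subtype.ext
      rw [hA, hv0, tv_zero_centre]
      rfl
    rw [hA1]
    exact H.one_mem
  · have hc : QCond n q v c := qcond_of_mem hF n (toGU n A) v c hv0 hv (by rw [toGU_coe, hA])
    have hc' : c ^ q = -c := (qcond_iso n hv c).mp hc
    have hE : EHyp n q v 0 c := ehyp_zero hv (by rw [hc']; ring)
    have : A = rhoS hF v 0 c := by
      apply Subtype.ext
      apply Subtype.ext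
      rw [hA, rhoS_zero_coe hF hE]
    rw [this]
    exact hf v c

/-- the radical of an isotropic vector together with an element moving it off its perp generate -/
theorem top_of_rad_gen (hn : 3 ≤ n) (h32 : ¬ (n = 3 ∧ q = 2)) {a : Fin n → F} (ha0 : a ≠ 0)
    (ha : hermForm n F q a a = 0) (hR : ∀ b c, EHyp n q a b c → rhoS hF a b c ∈ H)
    {h₀ : ↥(Cfsg.SU n F q)} (hh₀ : h₀ ∈ H) (hne : hermForm n F q (Rh.act h₀ a) a ≠ 0) :
    H = ⊤ := by
  have hf0 : Full hF H a := by
    intro t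
    by_cases hE : EHyp n q a 0 t
    · exact hR 0 t hE
    · rw [rhoS_of_not hF hE]; exact H.one_mem
  have hi : hermForm n F q (Rh.act h₀ a) (Rh.act h₀ a) = 0 := by rw [form_act]; exact ha
  exact top_of_full hn h32 (full_all hn ha0 ha hR hi hne (hf0.act hh₀))

/-- the centre of the radical from two non-orthogonal cosets -/
theorem center_of_rad {a : Fin n → F} (ha : hermForm n F q a a = 0)
    (hrad : ∀ b, hermForm n F q b a = 0 → ∃ c, EHyp n q a b c ∧ rhoS hF a b c ∈ H)
    {b₁ b₂ : Fin n → F} (hb₁ : hermForm n F q b₁ a = 0) (hb₂ : hermForm n F q b₂ a = 0)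
    (h12 : hermForm n F q b₁ b₂ = 1) {t : F} (ht : t + t ^ q = 0) : rhoS hF a 0 t ∈ H := by
  have htq : t ^ q = -t := by linear_combination ht
  obtain ⟨l, hl⟩ := exists_sub_conj hF t htq
  have h21 : hermForm n F q b₂ b₁ = 1 := by
    rw [← form_conj hF, h12, one_pow]
  have hb : hermForm n F q ((-l) • b₁) a = 0 := by rw [hermForm_smul_left, hb₁, mul_zero]
  obtain ⟨c, hc, hm⟩ := hrad _ hb
  obtain ⟨c', hc', hm'⟩ := hrad _ hb₂
  have h1 := rhoS_comm hF hc hc'
  have h2 : hermForm n F q ((-l) • b₁) b₂ - hermForm n F q b₂ ((-l) • b₁) = t := by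
    rw [hermForm_smul_left, hermForm_smul_right, h12, h21, pow_q_neg hF]
    linear_combination hl
  rw [h2] at h1
  have h3 : rhoS hF a 0 t = rhoS hF a ((-l) • b₁) c * rhoS hF a b₂ c'
      * (rhoS hF a b₂ c' * rhoS hF a ((-l) • b₁) c)⁻¹ := by
    rw [h1]; group
  rw [h3]
  exact H.mul_mem (H.mul_mem hm hm') (H.inv_mem (H.mul_mem hm' hm))

/-- combining the cosets with the centre -/
theorem rad_all {a : Fin n → F}
    (hrad : ∀ b, hermForm n F q b a = 0 → ∃ c, EHyp n q a b c ∧ rhoS hF a b c ∈ H)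
    (hC : ∀ t : F, t + t ^ q = 0 → rhoS hF a 0 t ∈ H) :
    ∀ b c, EHyp n q a b c → rhoS hF a b c ∈ H := by
  intro b c hE
  obtain ⟨c', hc', hm⟩ := hrad b hE.hwx
  have ht : (c - c') + (c - c') ^ q = 0 := by
    rw [pow_q_sub hF]
    linear_combination hE.hb - hc'.hb
  have := rhoS_mul_tv hF hc' ht
  rw [show c' + (c - c') = c by ring] at this
  rw [← this]
  exact H.mul_mem hm (hC _ ht)

theorem conj_pow_mulVec (p g : ↥(Cfsg.SU n F q)) (k : ℕ) (x : Fin n → F) :
    ((p * g * p⁻¹).1.1 - 1) ^ k *ᵥ x = Rh.act p ((g.1.1 - 1) ^ k *ᵥ Rh.act p⁻¹ x) := by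
  induction k generalizing x with
  | zero => simp
  | succ k ih =>
    rw [pow_mulVec_succ, ih, pow_mulVec_succ]
    congr 2
    rw [sub_mulVec, one_mulVec, sub_mulVec, one_mulVec, act_sub]
    congr 1
    show Rh.act p⁻¹ (Rh.act (p * g * p⁻¹) x) = Rh.act g (Rh.act p⁻¹ x)
    rw [act_mul, act_mul, act_inv_act]

end step7

namespace Setup

variable (S : Setup F q n m) {H : Subgroup ↥(Cfsg.SU n F q)}

theorem hm0 (S : Setup F q n m) : 0 < m := by have := S.hl; omega

theorem ehyp_p {κ : F} (hκ : κ + κ ^ q = 0) : EHyp n q (S.f 0) 0 κ :=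
  ehyp_zero (S.form_ff 0 0) hκ

theorem act_p {κ : F} (hκ : κ + κ ^ q = 0) (x : Fin n → F) :
    act (rhoS S.hF (S.f 0) 0 κ) x = x + (κ * hermForm n F q x (S.f 0)) • S.f 0 := by
  rw [act_rhoS S.hF (S.ehyp_p hκ), hermForm_zero_right S.hF]
  module

theorem act_p_inv {κ : F} (hκ : κ + κ ^ q = 0) (x : Fin n → F) :
    act (rhoS S.hF (S.f 0) 0 κ)⁻¹ x = x + (κ ^ q * hermForm n F q x (S.f 0)) • S.f 0 := by
  have hE := (S.ehyp_p hκ).inv S.hF n
  rw [rhoS_inv, act_rhoS S.hF hE, form_neg_right S.hF, neg_zero, hermForm_zero_right S.hF]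
  module

/-- the conjugate `v = p uS p⁻¹` of `uS` by the transvection `p = T(f_0, κ)` -/
noncomputable def vS (κ : F) : ↥(Cfsg.SU n F q) :=
  rhoS S.hF (S.f 0) 0 κ * S.uS * (rhoS S.hF (S.f 0) 0 κ)⁻¹

theorem exists_nonperp {κ : F} (hκ0 : κ ≠ 0) (hκ : κ + κ ^ q = 0) (hv : S.vS κ ∈ H) :
    ∃ h ∈ H, hermForm n F q (act h (S.e 0)) (S.e 0) ≠ 0 := by
  by_contra hcon
  push_neg at hcon
  have hm0 := S.hm0
  have hn := S.hn
  have hl := S.hl
  -- the invariant property
  have step : ∀ x : Fin n → F,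
      (∀ h ∈ H, hermForm n F q (act h x) (S.e 0) = 0) →
      (∀ h ∈ H, hermForm n F q (act h (((S.vS κ).1.1 - 1) *ᵥ x)) (S.e 0) = 0) := by
    intro x hx h hh
    rw [sub_mulVec, one_mulVec]
    show hermForm n F q (act h (act (S.vS κ) x - x)) (S.e 0) = 0
    rw [act_sub, ← act_mul, form_sub_left, hx _ (H.mul_mem hh hv), hx _ hh, sub_zero]
  have steps : ∀ k : ℕ, ∀ h ∈ H,
      hermForm n F q (act h (((S.vS κ).1.1 - 1) ^ k *ᵥ S.e 0)) (S.e 0) = 0 := by
    intro k
    induction k with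
    | zero => simpa using hcon
    | succ k ih =>
      intro h hh
      rw [pow_mulVec_succ']
      exact step _ ih h hh
  have h1 := steps (n - 1) 1 H.one_mem
  rw [act_one, vS, conj_pow_mulVec] at h1
  have e1 : act (rhoS S.hF (S.f 0) 0 κ)⁻¹ (S.e 0) = S.e 0 + κ ^ q • S.f 0 := by
    rw [S.act_p_inv hκ, S.form_ef_self hm0, mul_one]
  have e3 : (-S.Pm) ^ (n - 1) = S.Pm ^ (n - 1) := by
    apply Even.neg_pow
    exact ⟨m, by omega⟩
  have e4 : S.Pm ^ (n - 1) *ᵥ S.e 0 = 0 :=
    pow_mulVec_eq_zero_of_le _ (by omega) (S.Pm_pow_e_eq_zero (k := 0) hm0)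
  rw [e1, S.uS_sub_one, e3, mulVec_add, mulVec_smul, e4, S.Pm_pow_f_top, zero_add, act_smul,
    act_smul, S.act_p hκ, S.form_ef_self hm0, hermForm_smul_left, hermForm_smul_left,
    hermForm_add_left, hermForm_smul_left, S.form_ee, S.form_fe_self hm0] at h1
  have h3 : κ ^ q * ((-1 : F) ^ (S.l + 1) * (0 + κ * 1 * 1)) ≠ 0 :=
    mul_ne_zero (pow_ne_zero _ hκ0) (mul_ne_zero (pow_ne_zero _ (neg_ne_zero.mpr one_ne_zero))
      (by simpa using hκ0))
  exact h3 h1

/-- Step 7: the radical of `e_0` and the conjugate `v` of `uS` generate -/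
theorem top_of_rad (hn3 : 3 ≤ n) (h32 : ¬ (n = 3 ∧ q = 2)) {κ : F} (hκ0 : κ ≠ 0)
    (hκ : κ + κ ^ q = 0) (hv : S.vS κ ∈ H)
    (hR : ∀ b c, EHyp n q (S.e 0) b c → rhoS S.hF (S.e 0) b c ∈ H) : H = ⊤ := by
  obtain ⟨h, hh, hne⟩ := S.exists_nonperp hκ0 hκ hv
  exact top_of_rad_gen hn3 h32 (S.e_ne_zero S.hm0) (S.form_ee 0 0) hR hh hne

end Setup

end Cfsg.Agent.Lib.Helper1.Rh
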